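import Mathlib
import Cfsg.Prelude.Def_OddOrderLocal
import Cfsg.Prelude.Def_CaseTheorems
import Cfsg.Agent.Lib.Helper2_OmegaMeta
import Cfsg.Agent.Lib.Helper2_Metacyclic
import Cfsg.Agent.Lib.Helper88_SmallEssential
import Cfsg.Agent.Lib.Helper64_Metacyclic
import Cfsg.Agent.S0640

/-!
# Blackburn's theorem on `p`-groups of rank two with a fixed-point-free coprime odd action (helper2)

`p` odd, `Q` a `p`-group of rank at most two, `Γ` a group of odd order prime to `p` acting on `Q`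
with `[Q, Γ] = Q`.  Then `p > 3`, and `Q` is abelian or `Q = E ∘ C` with `E = Ω₁(Q)` nonabelian of
order `p³` and exponent `p` and `C = C_Q(E)` cyclic.
-/

set_option autoImplicit false
set_option linter.unusedSectionVars false

namespace Cfsg.Agent.Lib.Helper2_Blackburn

open Cfsg Subgroup Cfsg.Agent.Lib.Helper2_OmegaTwo Cfsg.Agent.Lib.Helper2_OmegaMeta

open scoped commutatorElement

universe u

/-! ### Commutator calculus with central values -/

section central

variable {G : Type*} [Group G]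

theorem comm_mul_left_of_central {a b c : G} (h : ⁅b, c⁆ ∈ center G) :
    ⁅a * b, c⁆ = ⁅a, c⁆ * ⁅b, c⁆ := by
  have h1 : ⁅a * b, c⁆ = a * ⁅b, c⁆ * a⁻¹ * ⁅a, c⁆ := by
    simp only [commutatorElement_def]; group
  rw [h1, (mem_center_iff.mp h a), mul_inv_cancel_right]
  exact (mem_center_iff.mp h _).symm

theorem comm_mul_right_of_central {a b c : G} (h : ⁅a, c⁆ ∈ center G) :
    ⁅a, b * c⁆ = ⁅a, b⁆ * ⁅a, c⁆ := by
  have h1 : ⁅a, b * c⁆ = ⁅a, b⁆ * (b * ⁅a, c⁆ * b⁻¹) := by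
    simp only [commutatorElement_def]; group
  rw [h1, (mem_center_iff.mp h b), mul_inv_cancel_right]

theorem comm_pow_left_of_central {a c : G} (h : ⁅a, c⁆ ∈ center G) (n : ℕ) :
    ⁅a ^ n, c⁆ = ⁅a, c⁆ ^ n := by
  induction n with
  | zero => simp
  | succ n ih => rw [pow_succ, comm_mul_left_of_central h, ih, pow_succ]

theorem comm_pow_right_of_central {a c : G} (h : ⁅a, c⁆ ∈ center G) (n : ℕ) :
    ⁅a, c ^ n⁆ = ⁅a, c⁆ ^ n := by
  induction n with
  | zero => simp
  | succ n ih => rw [pow_succ, comm_mul_right_of_central h, ih, pow_succ]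

theorem comm_inv_right_of_central {a c : G} (h : ⁅a, c⁆ ∈ center G) : ⁅a, c⁻¹⁆ = ⁅a, c⁆⁻¹ := by
  have h1 : ⁅a, c⁻¹⁆ = c⁻¹ * ⁅a, c⁆⁻¹ * c := by
    simp only [commutatorElement_def]; group
  have h2 : ⁅a, c⁆⁻¹ ∈ center G := inv_mem h
  rw [h1, (mem_center_iff.mp h2 c⁻¹), inv_mul_cancel_right]

theorem comm_inv_left_of_central {a c : G} (h : ⁅a, c⁆ ∈ center G) : ⁅a⁻¹, c⁆ = ⁅a, c⁆⁻¹ := by
  have h1 : ⁅a⁻¹, c⁆ = a⁻¹ * ⁅a, c⁆⁻¹ * a := by
    simp only [commutatorElement_def]; group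
  have h2 : ⁅a, c⁆⁻¹ ∈ center G := inv_mem h
  rw [h1, (mem_center_iff.mp h2 a⁻¹), inv_mul_cancel_right]

theorem comm_eq_one_of_mem_center_left {a c : G} (h : a ∈ center G) : ⁅a, c⁆ = 1 := by
  rw [commutatorElement_eq_one_iff_mul_comm]
  exact (mem_center_iff.mp h c).symm

theorem comm_eq_one_of_mem_center_right {a c : G} (h : c ∈ center G) : ⁅a, c⁆ = 1 := by
  rw [commutatorElement_eq_one_iff_mul_comm]
  exact (mem_center_iff.mp h a)

end central

/-! ### Generalities on `p`-groups -/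

section pgroup

variable {Q : Type*} [Group Q] [Finite Q] {p : ℕ} [Fact p.Prime]

/-- In a `p`-group, if `N ≤ M` are normal with `|M : N| = p` then `[M, Q] ≤ N`. -/
theorem commutator_le_of_card_eq_mul (hQ : IsPGroup p Q) (N M : Subgroup Q) [N.Normal] [M.Normal]
    (hNM : N ≤ M) (hcard : Nat.card M = p * Nat.card N) : ⁅M, (⊤ : Subgroup Q)⁆ ≤ N := by
  have hpP : p.Prime := Fact.out
  set π := QuotientGroup.mk' N with hπ
  have hMn : (M.map π).Normal := Subgroup.Normal.map inferInstance π (QuotientGroup.mk'_surjective N)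
  have hMcard : Nat.card (M.map π) = p := by
    have h1 := Cfsg.Agent.Lib.Helper1_Transport.card_map_mk'_of_le N M hNM
    rw [hcard] at h1
    exact Nat.eq_of_mul_eq_mul_right Nat.card_pos h1
  have hMne : M.map π ≠ ⊥ := by
    intro h
    rw [h, Subgroup.card_bot] at hMcard
    exact hpP.one_lt.ne hMcard
  obtain ⟨z, hzM, hzc, hz1⟩ :=
    Cfsg.Agent.Lib.Helper32_PGroup.exists_mem_center_of_normal (hQ.to_quotient N) (M.map π) hMne
  have hMc : M.map π ≤ center (Q ⧸ N) := by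
    rw [← zpowers_eq_of_prime_card (M.map π) hMcard hzM hz1, zpowers_le]
    exact hzc
  rw [Subgroup.commutator_le]
  intro m hm g _
  have h1 : π ⁅m, g⁆ = 1 := by
    rw [map_commutatorElement]
    exact comm_eq_one_of_mem_center_left (hMc ⟨m, hm, rfl⟩)
  exact (QuotientGroup.eq_one_iff _).mp h1

/-- For `p` odd, a `p`-group in which all elements of order dividing `p` lie in a subgroup of
order `p` is cyclic. -/
theorem isCyclic_of_omega_le (hp2 : p ≠ 2) (hQ : IsPGroup p Q) (T : Subgroup Q)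
    (hT : Nat.card T = p) (h : ∀ x : Q, x ^ p = 1 → x ∈ T) : IsCyclic Q := by
  have hpP : p.Prime := Fact.out
  by_contra hnc
  have hnc' : ¬ IsCyclic (⊤ : Subgroup Q) := by
    intro hc
    apply hnc
    exact isCyclic_of_surjective (Subgroup.topEquiv (G := Q)).toMonoidHom
      (Subgroup.topEquiv (G := Q)).surjective
  obtain ⟨A, -, -, -, hAexp, hAcard⟩ :=
    Cfsg.Agent.Lib.Helper20_PGroupOdd.exists_normal_rank_two hp2 hQ ⊤ hnc'
  have hle : A ≤ T := fun x hx => h x (hAexp x hx)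
  have := Subgroup.card_le_of_le hle
  rw [hAcard, hT] at this
  have h2 : p < p ^ 2 := by
    have := Nat.pow_lt_pow_right hpP.one_lt (show 1 < 2 by norm_num)
    rwa [pow_one] at this
  omega

/-- A normal subgroup of prime order of a `p`-group is central. -/
theorem le_center_of_normal_of_card (hQ : IsPGroup p Q) (T : Subgroup Q) [T.Normal]
    (hT : Nat.card T = p) : T ≤ center Q := by
  have hpP : p.Prime := Fact.out
  have hTne : T ≠ ⊥ := by
    intro h
    rw [h, Subgroup.card_bot] at hT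
    exact hpP.one_lt.ne hT
  obtain ⟨z, hzT, hzc, hz1⟩ :=
    Cfsg.Agent.Lib.Helper32_PGroup.exists_mem_center_of_normal hQ T hTne
  rw [← zpowers_eq_of_prime_card T hT hzT hz1, zpowers_le]
  exact hzc

instance omega_characteristic : (omega p Q).Characteristic := by
  rw [Subgroup.characteristic_iff_map_le]
  intro φ
  unfold omega
  rw [MonoidHom.map_closure, closure_le]
  rintro _ ⟨x, hx, rfl⟩
  apply Subgroup.subset_closure
  show (φ x) ^ p = 1
  rw [← map_pow, show x ^ p = 1 from hx, map_one]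

end pgroup

/-! ### The setting: `E = Ω₁(Q)` nonabelian of order `p³` and exponent `p` -/

/-- `E = Ω₁(Q)` is nonabelian of order `p³` and exponent `p`, `T = E' = Z(E)`. -/
structure Setting (p : ℕ) (Q : Type*) [Group Q] (E T : Subgroup Q) : Prop where
  isPGroup : IsPGroup p Q
  mem_E : ∀ x : Q, x ^ p = 1 → x ∈ E
  exp_E : ∀ e ∈ E, e ^ p = 1
  card_E : Nat.card E = p ^ 3
  char_E : E.Characteristic
  comm_mem_T : ∀ a ∈ E, ∀ b ∈ E, ⁅a, b⁆ ∈ T
  T_le_E : T ≤ E
  card_T : Nat.card T = p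
  T_le_center : T ≤ center Q
  center_E : E ⊓ centralizer (E : Set Q) = T
  not_comm : ∃ u ∈ E, ∃ v ∈ E, ⁅u, v⁆ ≠ 1

section construct

variable {Q : Type*} [Group Q] [Finite Q] {p : ℕ} [Fact p.Prime]

/-- Construction of the setting. -/
theorem Setting.mk' (hp : 3 < p) (hQ : IsPGroup p Q) (hrk : Cfsg.PRankLE p 2 Q)
    (hcard : Nat.card (omega p Q) = p ^ 3) :
    Setting p Q (omega p Q) ⁅omega p Q, omega p Q⁆ := by
  have hpP : p.Prime := Fact.out
  have hrk' : ∀ E : Subgroup Q, (∀ a ∈ E, ∀ b ∈ E, a * b = b * a) → (∀ a ∈ E, a ^ p = 1) →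
      Nat.card E ≤ p ^ 2 := fun E hEc hEe =>
    hrk E ⟨⟨fun a b => Subtype.ext (hEc a.1 a.2 b.1 b.2)⟩⟩ hEe
  set E := omega p Q with hE
  have hexp : ∀ e ∈ E, e ^ p = 1 := fun e he =>
    Cfsg.Agent.Lib.Helper20_RankTwoOmega.pow_eq_one_of_mem_closure hp hQ hrk' he
  have hna : ¬ ∀ x y : ↥E, x * y = y * x := by
    intro hc
    have h1 := hrk' E (fun a ha b hb => congrArg Subtype.val (hc ⟨a, ha⟩ ⟨b, hb⟩)) hexp
    rw [hcard] at h1
    have h2 : p ^ 2 < p ^ 3 := Nat.pow_lt_pow_right hpP.one_lt (by norm_num)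
    omega
  obtain ⟨hZcard, hZcomm, -⟩ := Cfsg.Agent.Lib.Helper88_SmallEssential.nonabelian_cube hcard hna
  set Z : Subgroup Q := E ⊓ centralizer (E : Set Q) with hZ
  have hZmap : (center ↥E).map E.subtype = Z := by
    ext x
    constructor
    · rintro ⟨y, hy, rfl⟩
      refine Subgroup.mem_inf.mpr ⟨y.2, ?_⟩
      rw [mem_centralizer_iff]
      intro e he
      have hy' : y ∈ center ↥E := hy
      have := mem_center_iff.mp hy' ⟨e, he⟩
      exact congrArg Subtype.val this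
    · intro hx
      obtain ⟨hxE, hxC⟩ := Subgroup.mem_inf.mp hx
      refine ⟨⟨x, hxE⟩, ?_, rfl⟩
      show (⟨x, hxE⟩ : ↥E) ∈ center ↥E
      rw [mem_center_iff]
      intro g
      apply Subtype.ext
      exact (mem_centralizer_iff.mp hxC) g.1 g.2
  have hZcard' : Nat.card Z = p := by
    rw [← hZmap, Subgroup.card_map_of_injective E.subtype_injective, hZcard]
  set T : Subgroup Q := ⁅E, E⁆ with hT
  have hTZ : T ≤ Z := by
    rw [hT, Subgroup.commutator_le]
    intro a ha b hb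
    rw [← hZmap]
    exact ⟨⁅(⟨a, ha⟩ : ↥E), ⟨b, hb⟩⁆, hZcomm _ _, rfl⟩
  obtain ⟨u, v, huv⟩ : ∃ u v : ↥E, ⁅u, v⁆ ≠ 1 := by
    by_contra hcon
    push Not at hcon
    apply hna
    intro x y
    exact commutatorElement_eq_one_iff_mul_comm.mp (hcon x y)
  have huv' : ⁅(u : Q), (v : Q)⁆ ≠ 1 := by
    intro h
    apply huv
    apply Subtype.ext
    exact h
  have huvT : ⁅(u : Q), (v : Q)⁆ ∈ T := Subgroup.commutator_mem_commutator u.2 v.2
  have hTeq : T = Z := by
    apply le_antisymm hTZ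
    rw [← zpowers_eq_of_prime_card Z hZcard' (hTZ huvT) huv', zpowers_le]
    exact huvT
  have hTn : T.Normal := by rw [hT]; infer_instance
  have hTcard : Nat.card T = p := by rw [hTeq]; exact hZcard'
  exact
    { isPGroup := hQ
      mem_E := fun x hx => mem_omega hx
      exp_E := hexp
      card_E := hcard
      char_E := omega_characteristic
      comm_mem_T := fun a ha b hb => Subgroup.commutator_mem_commutator ha hb
      T_le_E := hTZ.trans inf_le_left
      card_T := hTcard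
      T_le_center := le_center_of_normal_of_card hQ T hTcard
      center_E := hTeq.symm
      not_comm := ⟨u, u.2, v, v.2, huv'⟩ }

end construct

namespace Setting

variable {Q : Type*} [Group Q] [Finite Q] {p : ℕ} [Fact p.Prime] {E T : Subgroup Q}

section basic

variable (h : Setting p Q E T)

include h

theorem normal_T : T.Normal := Cfsg.Agent.Lib.Helper32_PGroup.normal_of_le_center _ h.T_le_center

theorem normal_E : E.Normal := by
  have := h.char_E
  infer_instance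

theorem pow_T {t : Q} (ht : t ∈ T) : t ^ p = 1 := h.exp_E t (h.T_le_E ht)

theorem comm_central {a b : Q} (ha : a ∈ E) (hb : b ∈ E) : ⁅a, b⁆ ∈ center Q :=
  h.T_le_center (h.comm_mem_T a ha b hb)

theorem T_le_centralizer : T ≤ centralizer (E : Set Q) := by
  rw [← h.center_E]
  exact inf_le_right

/-- The kernel of the action on `E / T`. -/
def K₁ : Subgroup Q where
  carrier := {g | ∀ e ∈ E, ⁅e, g⁆ ∈ T}
  one_mem' := fun e _ => by rw [commutatorElement_one_right]; exact T.one_mem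
  mul_mem' := by
    intro a b ha hb e he
    rw [comm_mul_right_of_central (h.T_le_center (hb e he))]
    exact T.mul_mem (ha e he) (hb e he)
  inv_mem' := by
    intro a ha e he
    rw [comm_inv_right_of_central (h.T_le_center (ha e he))]
    exact T.inv_mem (ha e he)

theorem mem_K₁ {g : Q} : g ∈ h.K₁ ↔ ∀ e ∈ E, ⁅e, g⁆ ∈ T := Iff.rfl

theorem E_le_K₁ : E ≤ h.K₁ := fun g hg e he => h.comm_mem_T e he g hg

theorem centralizer_le_K₁ : centralizer (E : Set Q) ≤ h.K₁ := by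
  intro g hg e he
  have : ⁅e, g⁆ = 1 := by
    rw [commutatorElement_eq_one_iff_mul_comm]
    exact ((mem_centralizer_iff.mp hg) e he)
  rw [this]
  exact T.one_mem

/-- Subgroups of `E` of order at most `p²` are commutative. -/
theorem comm_of_card_le {H : Subgroup Q} (hH : Nat.card H ≤ p ^ 2) :
    ∀ a ∈ H, ∀ b ∈ H, a * b = b * a := by
  have hpP : p.Prime := Fact.out
  have hHp : IsPGroup p H := h.isPGroup.to_subgroup H
  obtain ⟨k, hk⟩ := IsPGroup.iff_card.mp hHp
  have hk2 : k ≤ 2 := by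
    rw [hk] at hH
    exact (Nat.pow_le_pow_iff_right hpP.one_lt).mp hH
  have hcomm : ∀ a b : ↥H, a * b = b * a := by
    interval_cases k
    · intro a b
      have : Subsingleton ↥H := by
        rw [pow_zero] at hk
        exact (Nat.card_eq_one_iff_unique.mp hk).1
      exact Subsingleton.elim _ _
    · have : IsCyclic ↥H := by
        rw [pow_one] at hk
        exact isCyclic_of_prime_card hk
      intro a b
      exact (IsCyclic.commGroup (α := ↥H)).mul_comm a b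
    · have hmc : IsMulCommutative ↥H := IsPGroup.isMulCommutative_of_card_eq_prime_sq hk
      exact fun a b => hmc.is_comm.comm a b
  intro a ha b hb
  exact congrArg Subtype.val (hcomm ⟨a, ha⟩ ⟨b, hb⟩)

/-- Two non-commuting elements generate `E`. -/
theorem closure_pair_eq {u v : Q} (hu : u ∈ E) (hv : v ∈ E) (huv : ⁅u, v⁆ ≠ 1) :
    closure {u, v} = E := by
  have hpP : p.Prime := Fact.out
  have hle : closure {u, v} ≤ E := by
    rw [closure_le]
    rintro x (rfl | hx)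
    · exact hu
    · rw [Set.mem_singleton_iff] at hx
      subst hx
      exact hv
  apply Subgroup.eq_of_le_of_card_ge hle
  by_contra hlt
  push Not at hlt
  rw [h.card_E] at hlt
  have hHp : IsPGroup p (closure {u, v}) := h.isPGroup.to_subgroup _
  obtain ⟨k, hk⟩ := IsPGroup.iff_card.mp hHp
  have hk3 : k < 3 := by
    rw [hk] at hlt
    exact (Nat.pow_lt_pow_iff_right hpP.one_lt).mp hlt
  have hH2 : Nat.card (closure {u, v}) ≤ p ^ 2 := by
    rw [hk]
    exact Nat.pow_le_pow_right hpP.pos (by omega)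
  apply huv
  rw [commutatorElement_eq_one_iff_mul_comm]
  exact h.comm_of_card_le hH2 u (Subgroup.subset_closure (by simp)) v
    (Subgroup.subset_closure (by simp))

/-- `C_Q(E/T) ≤ E C_Q(E)`. -/
theorem K₁_le : h.K₁ ≤ E ⊔ centralizer (E : Set Q) := by
  have hpP : p.Prime := Fact.out
  obtain ⟨u, hu, v, hv, huv⟩ := h.not_comm
  set t₀ := ⁅u, v⁆ with ht₀
  have ht₀T : t₀ ∈ T := h.comm_mem_T u hu v hv
  have hTz : zpowers t₀ = T := zpowers_eq_of_prime_card T h.card_T ht₀T huv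
  have hgen := h.closure_pair_eq hu hv huv
  intro g hg
  have h1 : ⁅u, g⁆ ∈ zpowers t₀ := by rw [hTz]; exact hg u hu
  have h2 : ⁅v, g⁆ ∈ zpowers t₀ := by rw [hTz]; exact hg v hv
  obtain ⟨a, ha⟩ := mem_powers_iff_mem_zpowers.mpr h1
  obtain ⟨b, hb⟩ := mem_powers_iff_mem_zpowers.mpr h2
  have ha' : t₀ ^ a = ⁅u, g⁆ := ha
  have hb' : t₀ ^ b = ⁅v, g⁆ := hb
  set e₀ : Q := v ^ a * (u ^ b)⁻¹ with he₀
  have he₀E : e₀ ∈ E := E.mul_mem (E.pow_mem hv a) (E.inv_mem (E.pow_mem hu b))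
  have hvu : ⁅v, u⁆ = t₀⁻¹ := by rw [ht₀, commutatorElement_inv]
  have hue₀ : ⁅u, e₀⁆ = t₀ ^ a := by
    rw [he₀, comm_mul_right_of_central (h.comm_central hu (E.inv_mem (E.pow_mem hu b))),
      comm_pow_right_of_central (h.comm_central hu hv),
      comm_inv_right_of_central (h.comm_central hu (E.pow_mem hu b)),
      comm_pow_right_of_central (h.comm_central hu hu), commutatorElement_self, one_pow, inv_one,
      mul_one]
  have hve₀ : ⁅v, e₀⁆ = t₀ ^ b := by
    rw [he₀, comm_mul_right_of_central (h.comm_central hv (E.inv_mem (E.pow_mem hu b))),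
      comm_pow_right_of_central (h.comm_central hv hv), commutatorElement_self, one_pow, one_mul,
      comm_inv_right_of_central (h.comm_central hv (E.pow_mem hu b)),
      comm_pow_right_of_central (h.comm_central hv hu), hvu, inv_pow, inv_inv]
  have hcu : ⁅u, g * e₀⁻¹⁆ = 1 := by
    rw [comm_mul_right_of_central (h.comm_central hu (E.inv_mem he₀E)),
      comm_inv_right_of_central (h.comm_central hu he₀E), hue₀, ← ha', mul_inv_cancel]
  have hcv : ⁅v, g * e₀⁻¹⁆ = 1 := by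
    rw [comm_mul_right_of_central (h.comm_central hv (E.inv_mem he₀E)),
      comm_inv_right_of_central (h.comm_central hv he₀E), hve₀, ← hb', mul_inv_cancel]
  have hC : g * e₀⁻¹ ∈ centralizer (E : Set Q) := by
    have hle : closure {u, v} ≤ centralizer ({g * e₀⁻¹} : Set Q) := by
      rw [closure_le]
      rintro x (rfl | hx)
      · rw [SetLike.mem_coe, mem_centralizer_singleton_iff]
        exact (commutatorElement_eq_one_iff_mul_comm.mp hcu)
      · rw [Set.mem_singleton_iff] at hx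
        subst hx
        rw [SetLike.mem_coe, mem_centralizer_singleton_iff]
        exact (commutatorElement_eq_one_iff_mul_comm.mp hcv)
    rw [hgen] at hle
    rw [mem_centralizer_iff]
    intro e he
    exact (mem_centralizer_singleton_iff.mp (hle he))
  have : g = (g * e₀⁻¹) * e₀ := by group
  rw [this]
  exact mul_mem (mem_sup_right hC) (mem_sup_left he₀E)

/-- The centralizer of `E` is cyclic. -/
theorem isCyclic_centralizer (hp2 : p ≠ 2) : IsCyclic ↥(centralizer (E : Set Q)) := by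
  set C := centralizer (E : Set Q) with hC
  have hTC : T ≤ C := h.T_le_centralizer
  apply isCyclic_of_omega_le hp2 (h.isPGroup.to_subgroup C) (T.subgroupOf C)
  · rw [Cfsg.Agent.Lib.Helper1_Transport.card_subgroupOf hTC, h.card_T]
  · intro x hx
    rw [Subgroup.mem_subgroupOf]
    have h1 : (x : Q) ^ p = 1 := by
      have := congrArg Subtype.val hx
      simpa using this
    rw [← h.center_E]
    exact ⟨h.mem_E _ h1, x.2⟩

/-- If `⁅e₂, g⁆ ∈ T` for some `e₂ ∈ E` generating `E` modulo a normal subgroup `L` acting trivially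
modulo `T`, then `g ∈ K₁`. -/
theorem mem_K₁_of_comm_mem {L : Subgroup Q} [L.Normal] (hLT : ∀ l ∈ L, ∀ g : Q, ⁅l, g⁆ ∈ T)
    {e₂ : Q} (hsup : E ≤ L ⊔ zpowers e₂) (hcE : ∀ e ∈ E, ∀ g : Q, ⁅e, g⁆ ∈ L) (he₂ : e₂ ∈ E)
    {g : Q} (hg : ⁅e₂, g⁆ ∈ T) : g ∈ h.K₁ := by
  have := h.normal_T
  intro e he
  obtain ⟨l, hl, y, hy, rfl⟩ := Subgroup.mem_sup_of_normal_left.mp (hsup he)
  obtain ⟨i, hi⟩ := mem_powers_iff_mem_zpowers.mpr hy
  have hi' : e₂ ^ i = y := hi
  rw [← hi']
  apply (QuotientGroup.eq_one_iff _).mp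
  set π := QuotientGroup.mk' T with hπ
  show π ⁅l * e₂ ^ i, g⁆ = 1
  have hq1 : ∀ e ∈ E, ∀ g : Q, ⁅π e, π g⁆ ∈ center (Q ⧸ T) := by
    intro e he g
    rw [← map_commutatorElement, mem_center_iff]
    intro y
    induction y using QuotientGroup.induction_on with
    | H y =>
      have h1 := hLT _ (hcE e he g) y
      have h2 : π ⁅⁅e, g⁆, y⁆ = 1 := (QuotientGroup.eq_one_iff _).mpr h1
      rw [map_commutatorElement, commutatorElement_eq_one_iff_mul_comm] at h2
      exact h2.symm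
  have hπ1 : ∀ x ∈ T, π x = 1 := fun x hx => (QuotientGroup.eq_one_iff x).mpr hx
  rw [map_commutatorElement, map_mul, map_pow,
    comm_mul_left_of_central (by rw [← map_pow]; exact hq1 _ (E.pow_mem he₂ i) g),
    comm_pow_left_of_central (hq1 e₂ he₂ g), ← map_commutatorElement, ← map_commutatorElement,
    hπ1 _ (hLT l hl g), hπ1 _ hg, one_pow, one_mul]

end basic

/-- The configuration `K₁ ≠ ⊤`: the subgroup `L = [E, Q]`. -/
structure Bad (h : Setting p Q E T) (L : Subgroup Q) : Prop where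
  T_le_L : T ≤ L
  L_le_E : L ≤ E
  card_L : Nat.card L = p ^ 2
  comm_L : ∀ l ∈ L, ∀ g : Q, ⁅l, g⁆ ∈ T
  comm_E : ∀ e ∈ E, ∀ g : Q, ⁅e, g⁆ ∈ L
  char_L : L.Characteristic
  index_K₁ : h.K₁.index = p

/-- Construction of the bad configuration. -/
theorem bad_of_ne_top (h : Setting p Q E T) (hbad : h.K₁ ≠ ⊤) :
    Bad h ⁅E, (⊤ : Subgroup Q)⁆ := by
  have hpP : p.Prime := Fact.out
  have hTn := h.normal_T
  have hEn := h.normal_E
  have hEc := h.char_E
  have hQ := h.isPGroup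
  set π := QuotientGroup.mk' T with hπ
  set L := ⁅E, (⊤ : Subgroup Q)⁆ with hL
  have hcE : ∀ e ∈ E, ∀ g : Q, ⁅e, g⁆ ∈ L := fun e he g =>
    Subgroup.commutator_mem_commutator he (mem_top g)
  -- the second centre
  set L₂ : Subgroup Q := E ⊓ (center (Q ⧸ T)).comap π with hL₂
  have hL₂n : L₂.Normal := by rw [hL₂]; infer_instance
  have hTL₂ : T ≤ L₂ := by
    intro t ht
    refine Subgroup.mem_inf.mpr ⟨h.T_le_E ht, ?_⟩
    have h1 : π t = 1 := (QuotientGroup.eq_one_iff t).mpr ht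
    rw [Subgroup.mem_comap, h1]
    exact one_mem _
  have hL₂E : L₂ ≤ E := inf_le_left
  have hL₂T : ∀ l ∈ L₂, ∀ g : Q, ⁅l, g⁆ ∈ T := by
    intro l hl g
    have h1 : π l ∈ center (Q ⧸ T) := (Subgroup.mem_inf.mp hl).2
    apply (QuotientGroup.eq_one_iff _).mp
    show π ⁅l, g⁆ = 1
    rw [map_commutatorElement]
    exact comm_eq_one_of_mem_center_left h1
  -- `T < L₂`
  have hEmap : E.map π ≠ ⊥ := by
    intro hb
    have h1 : E ≤ T := by
      intro e he
      have : π e ∈ E.map π := ⟨e, he, rfl⟩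
      rw [hb, Subgroup.mem_bot] at this
      exact (QuotientGroup.eq_one_iff e).mp this
    have h2 := Subgroup.card_le_of_le h1
    rw [h.card_E, h.card_T] at h2
    have h3 : p ^ 1 < p ^ 3 := Nat.pow_lt_pow_right hpP.one_lt (by norm_num)
    rw [pow_one] at h3
    omega
  have hEmapn : (E.map π).Normal := Subgroup.Normal.map inferInstance π (QuotientGroup.mk'_surjective T)
  obtain ⟨zb, hzbE, hzbc, hzb1⟩ :=
    Cfsg.Agent.Lib.Helper32_PGroup.exists_mem_center_of_normal (hQ.to_quotient T) (E.map π) hEmap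
  obtain ⟨z, hzE, rfl⟩ := hzbE
  have hzL₂ : z ∈ L₂ := Subgroup.mem_inf.mpr ⟨hzE, hzbc⟩
  have hzT : z ∉ T := fun hz => hzb1 ((QuotientGroup.eq_one_iff z).mpr hz)
  -- `L₂ < E`
  have hL₂ne : ¬ E ≤ L₂ := by
    intro hle
    apply hbad
    rw [eq_top_iff]
    intro g _ e he
    exact hL₂T e (hle he) g
  -- orders
  have hcardL₂ : Nat.card L₂ = p ^ 2 := by
    obtain ⟨k, hk⟩ := IsPGroup.iff_card.mp (hQ.to_subgroup L₂)
    have h1 : p < Nat.card L₂ := by
      rcases (Subgroup.card_le_of_le hTL₂).lt_or_eq with h1 | h1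
      · rwa [h.card_T] at h1
      · exact absurd (Subgroup.eq_of_le_of_card_ge hTL₂ h1.ge ▸ hzL₂) hzT
    have h2 : Nat.card L₂ < p ^ 3 := by
      rcases (Subgroup.card_le_of_le hL₂E).lt_or_eq with h2 | h2
      · rwa [h.card_E] at h2
      · exact absurd (Subgroup.eq_of_le_of_card_ge hL₂E h2.ge).ge hL₂ne
    rw [hk] at h1 h2 ⊢
    have h3 : 1 < k := by
      have : p ^ 1 < p ^ k := by rwa [pow_one]
      exact (Nat.pow_lt_pow_iff_right hpP.one_lt).mp this
    have h4 : k < 3 := (Nat.pow_lt_pow_iff_right hpP.one_lt).mp h2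
    have : k = 2 := by omega
    rw [this]
  have hLL₂ : L ≤ L₂ := by
    apply commutator_le_of_card_eq_mul hQ L₂ E hL₂E
    rw [h.card_E, hcardL₂]; ring
  have hTL : T ≤ L := by
    intro t ht
    have : t ∈ ⁅E, E⁆ := by
      have h1 : (⁅E, E⁆ : Subgroup Q) ≤ E ⊓ centralizer (E : Set Q) → True := fun _ => trivial
      by_contra hcon
      exact hcon (by
        -- `T = ⁅E, E⁆`-free argument: use a nontrivial commutator
        obtain ⟨u, hu, v, hv, huv⟩ := h.not_comm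
        have huvT : ⁅u, v⁆ ∈ T := h.comm_mem_T u hu v hv
        have hz := zpowers_eq_of_prime_card T h.card_T huvT huv
        have : t ∈ zpowers ⁅u, v⁆ := by rw [hz]; exact ht
        exact (zpowers_le.mpr (Subgroup.commutator_mem_commutator hu hv)) this)
    exact Subgroup.commutator_mono le_rfl le_top this
  have hLneT : ¬ L ≤ T := by
    intro hle
    apply hbad
    rw [eq_top_iff]
    intro g _ e he
    exact hle (hcE e he g)
  have hcardL : Nat.card L = p ^ 2 := by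
    rcases (Subgroup.card_le_of_le hLL₂).lt_or_eq with h1 | h1
    · exfalso
      obtain ⟨k, hk⟩ := IsPGroup.iff_card.mp (hQ.to_subgroup L)
      rw [hk, hcardL₂] at h1
      have h4 : k < 2 := (Nat.pow_lt_pow_iff_right hpP.one_lt).mp h1
      have h5 : Nat.card L ≤ Nat.card T := by
        rw [hk, h.card_T]
        calc p ^ k ≤ p ^ 1 := Nat.pow_le_pow_right hpP.pos (by omega)
          _ = p := pow_one p
      exact hLneT (Subgroup.eq_of_le_of_card_ge hTL h5).ge
    · rw [h1, hcardL₂]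
  have hLeq : L = L₂ := Subgroup.eq_of_le_of_card_ge hLL₂ (by rw [hcardL, hcardL₂])
  have hLT : ∀ l ∈ L, ∀ g : Q, ⁅l, g⁆ ∈ T := fun l hl g => hL₂T l (hLL₂ hl) g
  have hLn : L.Normal := by rw [hL]; infer_instance
  have hLE : L ≤ E := hLL₂.trans hL₂E
  -- an element of `E` outside `L`
  obtain ⟨e₂, he₂E, he₂L⟩ : ∃ e₂ ∈ E, e₂ ∉ L := by
    by_contra hcon
    push Not at hcon
    exact hL₂ne (hLeq ▸ hcon)
  have he₂1 : e₂ ≠ 1 := fun h1 => he₂L (h1 ▸ L.one_mem)
  have he₂o : orderOf e₂ = p := orderOf_eq_prime (h.exp_E e₂ he₂E) he₂1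
  have hsup : E ≤ L ⊔ zpowers e₂ := by
    have hle : L ⊔ zpowers e₂ ≤ E := sup_le hLE (zpowers_le.mpr he₂E)
    have hc := Cfsg.Agent.Lib.Helper20_PGroupRank3.card_normal_sup_zpowers L he₂o he₂L
    rw [hcardL] at hc
    exact (Subgroup.eq_of_le_of_card_ge hle (by rw [hc, h.card_E]; ring_nf; rfl)).ge
  -- the homomorphism `g ↦ ⁅e₂, g⁆` modulo `T`
  have hq1 : ∀ g : Q, ⁅π e₂, π g⁆ ∈ center (Q ⧸ T) := by
    intro g
    rw [← map_commutatorElement]
    have : ⁅e₂, g⁆ ∈ L₂ := hLL₂ (hcE e₂ he₂E g)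
    exact (Subgroup.mem_inf.mp this).2
  let ψ : Q →* Q ⧸ T := MonoidHom.mk' (fun g => ⁅π e₂, π g⁆) (by
    intro a b
    show ⁅π e₂, π (a * b)⁆ = _
    rw [map_mul, comm_mul_right_of_central (hq1 b)])
  have hker : ψ.ker = h.K₁ := by
    ext g
    rw [MonoidHom.mem_ker]
    constructor
    · intro hg
      have h1 : π ⁅e₂, g⁆ = 1 := by rw [map_commutatorElement]; exact hg
      exact h.mem_K₁_of_comm_mem hLT hsup hcE he₂E ((QuotientGroup.eq_one_iff _).mp h1)
    · intro hg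
      show ⁅π e₂, π g⁆ = 1
      rw [← map_commutatorElement]
      exact (QuotientGroup.eq_one_iff _).mpr (hg e₂ he₂E)
  have hrange : ψ.range ≤ L.map π := by
    rintro _ ⟨g, rfl⟩
    exact ⟨⁅e₂, g⁆, hcE e₂ he₂E g, map_commutatorElement π e₂ g⟩
  have hLmap : Nat.card (L.map π) = p := by
    have h1 := Cfsg.Agent.Lib.Helper1_Transport.card_map_mk'_of_le T L hTL
    rw [hcardL, h.card_T, sq] at h1
    exact Nat.eq_of_mul_eq_mul_right hpP.pos h1
  have hindex : h.K₁.index = p := by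
    rw [← hker, Subgroup.index_ker]
    have h1 : Nat.card ψ.range ∣ p := hLmap ▸ Subgroup.card_dvd_of_le hrange
    rcases (Nat.dvd_prime hpP).mp h1 with h2 | h2
    · exfalso
      apply hbad
      rw [← hker, ← Subgroup.index_eq_one, Subgroup.index_ker, h2]
    · exact h2
  exact
    { T_le_L := hTL
      L_le_E := hLE
      card_L := hcardL
      comm_L := hLT
      comm_E := hcE
      char_L := by rw [hL]; infer_instance
      index_K₁ := hindex }

namespace Bad

variable {h : Setting p Q E T} {L : Subgroup Q} (hb : h.Bad L)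

include hb

theorem normal_L : L.Normal := by
  have := hb.char_L
  infer_instance

theorem K₁_eq : h.K₁ = E ⊔ centralizer (E : Set Q) :=
  le_antisymm h.K₁_le (sup_le h.E_le_K₁ h.centralizer_le_K₁)

theorem normal_K₁ : h.K₁.Normal := by
  have := h.normal_E
  rw [hb.K₁_eq]
  infer_instance

theorem char_K₁ : h.K₁.Characteristic := by
  have := h.char_E
  rw [hb.K₁_eq]
  infer_instance

theorem comm_L_eq_one {a b : Q} (ha : a ∈ L) (hb' : b ∈ L) : ⁅a, b⁆ = 1 := by
  rw [commutatorElement_eq_one_iff_mul_comm]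
  exact h.comm_of_card_le hb.card_L.le a ha b hb'

theorem pow_L {l : Q} (hl : l ∈ L) : l ^ p = 1 := h.exp_E l (hb.L_le_E hl)

theorem comm_mem_L' (e : Q) (he : e ∈ E) (g : Q) : ⁅g, e⁆ ∈ L := by
  rw [← commutatorElement_inv]
  exact L.inv_mem (hb.comm_E e he g)

theorem comm_mem_T' (l : Q) (hl : l ∈ L) (g : Q) : ⁅g, l⁆ ∈ T := by
  rw [← commutatorElement_inv]
  exact T.inv_mem (hb.comm_L l hl g)

/-- `p`-th powers centralize `E`. -/
theorem pow_mem_centralizer (hp2 : p ≠ 2) (x : Q) : x ^ p ∈ centralizer (E : Set Q) := by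
  have hpP : p.Prime := Fact.out
  rw [mem_centralizer_iff]
  intro e he
  have hcL : ⁅x, e⁆ ∈ L := hb.comm_mem_L' e he x
  have hd : Cfsg.Agent.Lib.Helper20_ClassThree.CData x e ⁅x, e⁆ ⁅x, ⁅x, e⁆⁆ ⁅e, ⁅x, e⁆⁆ :=
    { hc := Cfsg.Agent.Lib.Helper20_ClassThree.mul_eq_comm_mul x e
      hd := Cfsg.Agent.Lib.Helper20_ClassThree.mul_eq_comm_mul x _
      he := Cfsg.Agent.Lib.Helper20_ClassThree.mul_eq_comm_mul e _
      hdz := h.T_le_center (hb.comm_mem_T' _ hcL x)
      hez := h.T_le_center (hb.comm_mem_T' _ hcL e) }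
  exact (hd.pow_prime_comm hpP hp2 (hb.pow_L hcL) (h.pow_T (hb.comm_mem_T' _ hcL x))).symm

theorem exists_not_mem_L : ∃ e₂ ∈ E, e₂ ∉ L := by
  have hpP : p.Prime := Fact.out
  by_contra hcon
  push Not at hcon
  have h1 := Subgroup.card_le_of_le (show E ≤ L from hcon)
  rw [h.card_E, hb.card_L] at h1
  have h2 : p ^ 2 < p ^ 3 := Nat.pow_lt_pow_right hpP.one_lt (by norm_num)
  omega

theorem le_sup_zpowers {e₂ : Q} (he₂E : e₂ ∈ E) (he₂L : e₂ ∉ L) : E ≤ L ⊔ zpowers e₂ := by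
  have := hb.normal_L
  have he₂1 : e₂ ≠ 1 := fun h1 => he₂L (h1 ▸ L.one_mem)
  have he₂o : orderOf e₂ = p := orderOf_eq_prime (h.exp_E e₂ he₂E) he₂1
  have hle : L ⊔ zpowers e₂ ≤ E := sup_le hb.L_le_E (zpowers_le.mpr he₂E)
  have hc := Cfsg.Agent.Lib.Helper20_PGroupRank3.card_normal_sup_zpowers L he₂o he₂L
  rw [hb.card_L] at hc
  exact (Subgroup.eq_of_le_of_card_ge hle (by rw [hc, h.card_E]; ring_nf; rfl)).ge

section outside

variable {x : Q} (hx : x ∉ h.K₁)

include hx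

theorem pow_mem_K₁_iff (i : ℕ) : x ^ i ∈ h.K₁ ↔ p ∣ i := by
  have hpP : p.Prime := Fact.out
  have := hb.normal_K₁
  have hcard : Nat.card (Q ⧸ h.K₁) = p := by rw [← Subgroup.index_eq_card, hb.index_K₁]
  have hne : ((x : Q) : Q ⧸ h.K₁) ≠ 1 := fun h1 => hx ((QuotientGroup.eq_one_iff x).mp h1)
  have hord : orderOf ((x : Q) : Q ⧸ h.K₁) = p := by
    have h1 : orderOf ((x : Q) : Q ⧸ h.K₁) ∣ p := by
      have := _root_.orderOf_dvd_natCard ((x : Q) : Q ⧸ h.K₁)
      rwa [hcard] at this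
    rcases (Nat.dvd_prime hpP).mp h1 with h2 | h2
    · exact absurd (orderOf_eq_one_iff.mp h2) hne
    · exact h2
  rw [← QuotientGroup.eq_one_iff, QuotientGroup.mk_pow, ← orderOf_dvd_iff_pow_eq_one, hord]

theorem pow_ne_one : x ^ p ≠ 1 := fun h1 => hx (h.E_le_K₁ (h.mem_E x h1))

theorem T_le_zpowers (hp2 : p ≠ 2) : T ≤ zpowers (x ^ p) := by
  have hpP : p.Prime := Fact.out
  have hy1 : x ^ p ≠ 1 := hb.pow_ne_one hx
  obtain ⟨k, hk⟩ := h.isPGroup.exists_orderOf_eq_pow (x ^ p)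
  have hk0 : k ≠ 0 := by
    rintro rfl
    rw [pow_zero, orderOf_eq_one_iff] at hk
    exact hy1 hk
  set w : Q := (x ^ p) ^ (p ^ (k - 1)) with hw
  have hwo : orderOf w = p := by
    have h1 : orderOf (x ^ p) = p ^ (k - 1) * p := by rw [hk, ← pow_succ]; congr 1; omega
    rw [hw, orderOf_pow' _ (pow_ne_zero _ hpP.ne_zero), h1, Nat.gcd_mul_right_left,
      Nat.mul_div_cancel_left _ (pow_pos hpP.pos _)]
  have hw1 : w ≠ 1 := by
    intro h1
    rw [h1, orderOf_one] at hwo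
    exact hpP.one_lt.ne hwo
  have hwp : w ^ p = 1 := by rw [← hwo]; exact pow_orderOf_eq_one w
  have hwE : w ∈ E := h.mem_E w hwp
  have hwC : w ∈ centralizer (E : Set Q) := pow_mem (hb.pow_mem_centralizer hp2 x) _
  have hwT : w ∈ T := by rw [← h.center_E]; exact ⟨hwE, hwC⟩
  rw [← zpowers_eq_of_prime_card T h.card_T hwT hw1, zpowers_le]
  exact pow_mem (mem_zpowers _) _

/-- The centralizer of `E` lies in `⟨x⟩`. -/
theorem centralizer_le_zpowers (hp2 : p ≠ 2) : centralizer (E : Set Q) ≤ zpowers x := by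
  have hpP : p.Prime := Fact.out
  have hEn := h.normal_E
  set C := centralizer (E : Set Q) with hC
  have hCn : C.Normal := by rw [hC]; infer_instance
  set Y : Subgroup Q := C ⊔ zpowers x with hY
  have hCY : C ≤ Y := le_sup_left
  have hxY : zpowers x ≤ Y := le_sup_right
  have hTC : T ≤ C := h.T_le_centralizer
  have hcyc : IsCyclic ↥Y := by
    apply isCyclic_of_omega_le hp2 (h.isPGroup.to_subgroup Y) (T.subgroupOf Y)
    · rw [Cfsg.Agent.Lib.Helper1_Transport.card_subgroupOf (hTC.trans hCY), h.card_T]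
    · intro y hy
      rw [Subgroup.mem_subgroupOf]
      have h1 : (y : Q) ^ p = 1 := by
        have := congrArg Subtype.val hy
        simpa using this
      have hyE : (y : Q) ∈ E := h.mem_E _ h1
      obtain ⟨c, hc, z, hz, hcz⟩ := Subgroup.mem_sup_of_normal_left.mp y.2
      obtain ⟨i, hi⟩ := mem_powers_iff_mem_zpowers.mpr hz
      have hi' : x ^ i = z := hi
      have hzK : x ^ i ∈ h.K₁ := by
        have h2 : x ^ i = c⁻¹ * (y : Q) := by rw [hi', ← hcz]; group
        rw [h2]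
        exact mul_mem (inv_mem (h.centralizer_le_K₁ hc)) (h.E_le_K₁ hyE)
      obtain ⟨j, rfl⟩ := (hb.pow_mem_K₁_iff hx i).mp hzK
      have hzC : z ∈ C := by
        rw [← hi', pow_mul]
        exact pow_mem (hb.pow_mem_centralizer hp2 x) j
      have hyC : (y : Q) ∈ C := by rw [← hcz]; exact mul_mem hc hzC
      rw [← h.center_E]
      exact ⟨hyE, hyC⟩
  have hYp : IsPGroup p ↥Y := h.isPGroup.to_subgroup Y
  rcases le_total (Nat.card (C.subgroupOf Y)) (Nat.card ((zpowers x).subgroupOf Y)) with hle | hle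
  · have h1 := Cfsg.Agent.Lib.Helper64_Metacyclic.le_of_card_le_of_isCyclic hYp _ _ hle
    intro c hc
    exact h1 (show (⟨c, hCY hc⟩ : ↥Y) ∈ C.subgroupOf Y from hc)
  · exfalso
    have h1 := Cfsg.Agent.Lib.Helper64_Metacyclic.le_of_card_le_of_isCyclic hYp _ _ hle
    have h2 : x ∈ C := h1 (show (⟨x, hxY (mem_zpowers x)⟩ : ↥Y) ∈ (zpowers x).subgroupOf Y from
      mem_zpowers x)
    exact hx (h.centralizer_le_K₁ h2)

/-- `Q = ⟨x⟩ E`. -/
theorem exists_pow_mul (hp2 : p ≠ 2) (g : Q) : ∃ i : ℕ, ∃ e ∈ E, g = x ^ i * e := by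
  have hpP : p.Prime := Fact.out
  have hEn := h.normal_E
  have htop : zpowers x ⊔ E = ⊤ := by
    have hle : h.K₁ ≤ zpowers x ⊔ E := by
      rw [hb.K₁_eq]
      exact sup_le le_sup_right ((hb.centralizer_le_zpowers hx hp2).trans le_sup_left)
    have h1 := Subgroup.relIndex_mul_index hle
    rw [hb.index_K₁] at h1
    have h2 : (h.K₁).relIndex (zpowers x ⊔ E) ≠ 1 := by
      intro h3
      rw [Subgroup.relIndex_eq_one] at h3
      exact hx (h3 (mem_sup_left (mem_zpowers x)))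
    have h4 : (h.K₁).relIndex (zpowers x ⊔ E) ∣ p := Dvd.intro _ h1
    rcases (Nat.dvd_prime hpP).mp h4 with h5 | h5
    · exact absurd h5 h2
    · rw [h5] at h1
      have h6 : (zpowers x ⊔ E).index = 1 := by
        have : p * (zpowers x ⊔ E).index = p * 1 := by rw [h1, mul_one]
        exact Nat.eq_of_mul_eq_mul_left hpP.pos this
      exact Subgroup.index_eq_one.mp h6
  have hg : g ∈ zpowers x ⊔ E := by rw [htop]; exact mem_top g
  obtain ⟨y, hy, e, he, hye⟩ := Subgroup.mem_sup_of_normal_right.mp hg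
  obtain ⟨i, hi⟩ := mem_powers_iff_mem_zpowers.mpr hy
  have hi' : x ^ i = y := hi
  exact ⟨i, e, he, by rw [hi', hye]⟩

/-- The key relation: an automorphism acting on `E / L` as the `s`-th power has
`s² ≡ 1 (mod p)`. -/
theorem aut_relation (hp : 3 < p) {e₂ : Q} (he₂E : e₂ ∈ E) (he₂L : e₂ ∉ L) (α : Q ≃* Q)
    {s m : ℕ} {l₁ e₁ : Q} (hl₁ : l₁ ∈ L) (he₁ : e₁ ∈ E) (hαe : α e₂ = e₂ ^ s * l₁)
    (hαx : α x = x ^ m * e₁) : s * s ≡ 1 [MOD p] := by
  have hpP : p.Prime := Fact.out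
  have hp2 : p ≠ 2 := by omega
  have hTn := h.normal_T
  have hLn := hb.normal_L
  have hEn := h.normal_E
  have hsup := hb.le_sup_zpowers he₂E he₂L
  set l := ⁅e₂, x⁆ with hl
  have hlL : l ∈ L := hb.comm_E e₂ he₂E x
  have hlT : l ∉ T := fun hlT => hx (h.mem_K₁_of_comm_mem hb.comm_L hsup hb.comm_E he₂E hlT)
  set t₀ := ⁅e₂, l⁆ with ht₀
  have ht₀T : t₀ ∈ T := h.comm_mem_T e₂ he₂E l (hb.L_le_E hlL)
  have ht₀1 : t₀ ≠ 1 := by
    intro h1
    apply hlT
    rw [← h.center_E]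
    refine Subgroup.mem_inf.mpr ⟨hb.L_le_E hlL, ?_⟩
    rw [mem_centralizer_iff]
    intro e he
    obtain ⟨l', hl', y, hy, rfl⟩ := Subgroup.mem_sup_of_normal_left.mp (hsup he)
    obtain ⟨i, hi⟩ := mem_powers_iff_mem_zpowers.mpr hy
    have hi' : e₂ ^ i = y := hi
    rw [← hi']
    have h2 : l' * l = l * l' := commutatorElement_eq_one_iff_mul_comm.mp (hb.comm_L_eq_one hl' hlL)
    have h3 : Commute e₂ l := commutatorElement_eq_one_iff_mul_comm.mp h1
    have h4 : e₂ ^ i * l = l * e₂ ^ i := (h3.pow_left i).eq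
    rw [mul_assoc, h4, ← mul_assoc, h2, mul_assoc]
  have ht₀o : orderOf t₀ = p := orderOf_eq_prime (h.pow_T ht₀T) ht₀1
  -- (R1) the image of `l` modulo `T`
  obtain ⟨t₁, ht₁, hR1⟩ : ∃ t₁ ∈ T, α l = (l ^ m) ^ s * t₁ := by
    set π := QuotientGroup.mk' T with hπ
    have hπ1 : ∀ y ∈ T, π y = 1 := fun y hy => (QuotientGroup.eq_one_iff y).mpr hy
    have hq1 : ∀ e ∈ E, ∀ g : Q, ⁅π e, π g⁆ ∈ center (Q ⧸ T) := by
      intro e he g
      rw [← map_commutatorElement, mem_center_iff]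
      intro y
      induction y using QuotientGroup.induction_on with
      | H y =>
        have h1 := hb.comm_L _ (hb.comm_E e he g) y
        have h2 : π ⁅⁅e, g⁆, y⁆ = 1 := hπ1 _ h1
        rw [map_commutatorElement, commutatorElement_eq_one_iff_mul_comm] at h2
        exact h2.symm
    have hqE : ∀ a ∈ E, ∀ b ∈ E, ⁅π a, π b⁆ = 1 := by
      intro a ha b hb'
      rw [← map_commutatorElement]
      exact hπ1 _ (h.comm_mem_T a ha b hb')
    have hqL : ∀ l' ∈ L, ∀ g : Q, ⁅π l', π g⁆ = 1 := by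
      intro l' hl' g
      rw [← map_commutatorElement]
      exact hπ1 _ (hb.comm_L l' hl' g)
    have h1 : α l = ⁅e₂ ^ s * l₁, x ^ m * e₁⁆ := by
      rw [hl, map_commutatorElement, hαe, hαx]
    have h2 : π ⁅e₂ ^ s * l₁, x ^ m * e₁⁆ = ⁅π e₂, π (x ^ m * e₁)⁆ ^ s := by
      rw [map_commutatorElement, map_mul π (e₂ ^ s) l₁,
        comm_mul_left_of_central (by rw [hqL l₁ hl₁]; exact one_mem _), hqL l₁ hl₁, mul_one,
        map_pow, comm_pow_left_of_central (hq1 e₂ he₂E _)]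
    have h3 : ⁅π e₂, π (x ^ m * e₁)⁆ = ⁅π e₂, π x⁆ ^ m := by
      rw [map_mul, comm_mul_right_of_central (by rw [hqE e₂ he₂E e₁ he₁]; exact one_mem _),
        hqE e₂ he₂E e₁ he₁, mul_one, map_pow, comm_pow_right_of_central (hq1 e₂ he₂E _)]
    have h4 : π (α l) = π ((l ^ m) ^ s) := by
      rw [h1, h2, h3, map_pow, map_pow, hl, map_commutatorElement]
    refine ⟨((l ^ m) ^ s)⁻¹ * α l, ?_, by group⟩
    apply (QuotientGroup.eq_one_iff _).mp
    show π (((l ^ m) ^ s)⁻¹ * α l) = 1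
    rw [map_mul, map_inv, h4, inv_mul_cancel]
  -- (R2) the image of `t₀`
  have hR2 : α t₀ = ((t₀ ^ m) ^ s) ^ s := by
    have hl'L : (l ^ m) ^ s ∈ L := L.pow_mem (L.pow_mem hlL m) s
    have hl'E : (l ^ m) ^ s ∈ E := hb.L_le_E hl'L
    have ht₁c : t₁ ∈ center Q := h.T_le_center ht₁
    have h1 : α t₀ = ⁅e₂ ^ s * l₁, (l ^ m) ^ s * t₁⁆ := by
      rw [ht₀, map_commutatorElement, hαe, hR1]
    rw [h1, comm_mul_right_of_central
        (by rw [comm_eq_one_of_mem_center_right ht₁c]; exact one_mem _),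
      comm_eq_one_of_mem_center_right ht₁c, mul_one,
      comm_mul_left_of_central (by rw [hb.comm_L_eq_one hl₁ hl'L]; exact one_mem _),
      hb.comm_L_eq_one hl₁ hl'L, mul_one,
      comm_pow_left_of_central (h.comm_central he₂E hl'E),
      comm_pow_right_of_central (h.comm_central he₂E (hb.L_le_E (L.pow_mem hlL m))),
      comm_pow_right_of_central (h.comm_central he₂E (hb.L_le_E hlL))]
  -- (R3) the image of `t₀` via `p`-th powers
  have hR3 : α t₀ = t₀ ^ m := by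
    have h1 : t₀ ∈ zpowers (x ^ p) := hb.T_le_zpowers hx hp2 ht₀T
    obtain ⟨j, hj⟩ := mem_powers_iff_mem_zpowers.mpr h1
    have hj' : (x ^ p) ^ j = t₀ := hj
    have hcL : ⁅x ^ m, e₁⁆ ∈ L := hb.comm_mem_L' e₁ he₁ _
    have hd : Cfsg.Agent.Lib.Helper20_ClassThree.CData (x ^ m) e₁ ⁅x ^ m, e₁⁆
        ⁅x ^ m, ⁅x ^ m, e₁⁆⁆ ⁅e₁, ⁅x ^ m, e₁⁆⁆ :=
      { hc := Cfsg.Agent.Lib.Helper20_ClassThree.mul_eq_comm_mul _ e₁
        hd := Cfsg.Agent.Lib.Helper20_ClassThree.mul_eq_comm_mul _ _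
        he := Cfsg.Agent.Lib.Helper20_ClassThree.mul_eq_comm_mul e₁ _
        hdz := h.T_le_center (hb.comm_mem_T' _ hcL _)
        hez := h.T_le_center (hb.comm_mem_T' _ hcL e₁) }
    have h2 : (x ^ m * e₁) ^ p = (x ^ m) ^ p := by
      rw [hd.mul_pow_prime hpP hp2 (hb.pow_L hcL)
        (Or.inl ⟨hp, h.pow_T (hb.comm_mem_T' _ hcL _), h.pow_T (hb.comm_mem_T' _ hcL e₁)⟩),
        h.exp_E e₁ he₁, one_mul]
    rw [← hj', map_pow, map_pow, hαx, h2, ← pow_mul, ← pow_mul, ← pow_mul, ← pow_mul]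
    congr 1
    ring
  -- `p ∤ m`
  have hpm : ¬ p ∣ m := by
    intro hdvd
    apply hx
    have hK := hb.char_K₁
    have h1 : α x ∈ h.K₁ := by
      rw [hαx]
      exact mul_mem ((hb.pow_mem_K₁_iff hx m).mpr hdvd) (h.E_le_K₁ he₁)
    have h2 := Subgroup.characteristic_iff_comap_eq.mp hK α
    rw [← h2]
    exact h1
  have h5 : t₀ ^ (m * (s * s)) = t₀ ^ (m * 1) := by
    rw [mul_one, ← hR3, hR2, ← pow_mul, ← pow_mul]
  rw [pow_eq_pow_iff_modEq, ht₀o] at h5
  exact Nat.ModEq.cancel_left_of_coprime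
    ((Nat.Prime.coprime_iff_not_dvd hpP).mpr hpm) h5

end outside

/-- The bad configuration admits no fixed-point-free coprime action of a group of odd order. -/
theorem false_of_action (hp : 3 < p) {Γ : Type*} [Group Γ] [Finite Γ]
    (hodd : Odd (Nat.card Γ)) (hcop : (Nat.card Γ).Coprime p) (ρ : Γ →* MulAut Q)
    (hfix : closure {x : Q | ∃ (γ : Γ) (g : Q), x = ρ γ g * g⁻¹} = ⊤) : False := by
  have hpP : p.Prime := Fact.out
  have hp2 : p ≠ 2 := by omega
  have hTn := h.normal_T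
  have hLn := hb.normal_L
  have hEn := h.normal_E
  have hLc := hb.char_L
  have hEc := h.char_E
  obtain ⟨x, hx⟩ : ∃ x : Q, x ∉ h.K₁ := by
    by_contra hcon
    push Not at hcon
    have h1 : h.K₁ = ⊤ := eq_top_iff.mpr fun g _ => hcon g
    have h2 := hb.index_K₁
    rw [h1, Subgroup.index_top] at h2
    exact hpP.one_lt.ne h2
  obtain ⟨e₂, he₂E, he₂L⟩ := hb.exists_not_mem_L
  have hsup : E ≤ zpowers e₂ ⊔ L := by
    rw [sup_comm]
    exact hb.le_sup_zpowers he₂E he₂L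
  have hmapE : ∀ (α : MulAut Q) (e : Q), e ∈ E → α e ∈ E := by
    intro α e he
    have h1 := Subgroup.characteristic_iff_comap_eq.mp hEc α
    rw [← h1] at he
    exact he
  have hmapL : ∀ (α : MulAut Q) (l : Q), l ∈ L → α l ∈ L := by
    intro α l hl
    have h1 := Subgroup.characteristic_iff_comap_eq.mp hLc α
    rw [← h1] at hl
    exact hl
  -- every automorphism acts on `E / L` by a square root of one
  have hrel : ∀ α : MulAut Q, ∃ s : ℕ, ∃ l₁ ∈ L, α e₂ = e₂ ^ s * l₁ ∧ s * s ≡ 1 [MOD p] := by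
    intro α
    obtain ⟨y, hy, l₁, hl₁, hyl⟩ := Subgroup.mem_sup_of_normal_right.mp (hsup (hmapE α e₂ he₂E))
    obtain ⟨s, hs⟩ := mem_powers_iff_mem_zpowers.mpr hy
    have hs' : e₂ ^ s = y := hs
    obtain ⟨m, e₁, he₁, hm⟩ := hb.exists_pow_mul hx hp2 (α x)
    have hαe : α e₂ = e₂ ^ s * l₁ := by rw [hs', hyl]
    exact ⟨s, l₁, hl₁, hαe, hb.aut_relation hx hp he₂E he₂L α hl₁ he₁ hαe hm⟩
  -- the quotient by `L`
  have hDL : commutator Q ≤ L := by
    apply Cfsg.Agent.Lib.Helper63_PGroup2.commutator_le_of_generators L ((E : Set Q) ∪ {x})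
    · rw [eq_top_iff]
      intro g _
      obtain ⟨i, e, he, rfl⟩ := hb.exists_pow_mul hx hp2 g
      have hxm : x ∈ closure ((E : Set Q) ∪ {x}) :=
        Subgroup.subset_closure (Set.mem_union_right _ (Set.mem_singleton x))
      have hem : e ∈ closure ((E : Set Q) ∪ {x}) :=
        Subgroup.subset_closure (Set.mem_union_left _ he)
      exact mul_mem (pow_mem hxm i) hem
    · rintro a (ha | ha) b (hb' | hb')
      · exact hb.comm_E a ha b
      · exact hb.comm_E a ha b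
      · rw [Set.mem_singleton_iff] at ha
        subst ha
        exact hb.comm_mem_L' b hb' a
      · rw [Set.mem_singleton_iff] at ha hb'
        subst ha
        subst hb'
        rw [commutatorElement_self]
        exact one_mem _
  let _ : CommGroup (Q ⧸ L) := Cfsg.Agent.Lib.Helper2_Metacyclic.quotCommGroup L hDL
  let φ : Γ →* MulAut (Q ⧸ L) := (Cfsg.Agent.Lib.Helper48_Generation.autQuot L).comp ρ
  let _ : Fintype Γ := Fintype.ofFinite Γ
  have hcop' : Nat.Coprime (Fintype.card Γ) (Nat.card (Q ⧸ L)) := by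
    rw [← Nat.card_eq_fintype_card]
    obtain ⟨k, hk⟩ := IsPGroup.iff_card.mp (h.isPGroup.to_quotient L)
    rw [hk]
    exact Nat.Coprime.pow_right _ hcop
  have hpow : (QuotientGroup.mk e₂ : Q ⧸ L) ^ p = 1 := by
    rw [← QuotientGroup.mk_pow, h.exp_E e₂ he₂E]
    rfl
  have hmfix : (QuotientGroup.mk e₂ : Q ⧸ L) ∈ Cfsg.Agent.Lib.Helper2_Coprime.fixedSub φ := by
    intro γ'
    show (Cfsg.Agent.Lib.Helper48_Generation.autQuot L (ρ γ')) (e₂ : Q ⧸ L) = _
    rw [Cfsg.Agent.Lib.Helper48_Generation.autQuot_mk]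
    obtain ⟨n, hn⟩ := hodd
    set γ := γ' ^ (n + 1) with hγ
    have hγ2 : γ * γ = γ' := by
      have h1 : γ' ^ (2 * n + 1) = 1 := by rw [← hn]; exact pow_card_eq_one'
      rw [hγ, ← pow_add, show n + 1 + (n + 1) = (2 * n + 1) + 1 by ring, pow_succ, h1, one_mul]
    obtain ⟨s, l₁, hl₁, hαe, hss⟩ := hrel (ρ γ)
    have h1 : ρ γ' e₂ = (e₂ ^ s * l₁) ^ s * ρ γ l₁ := by
      rw [← hγ2, map_mul, MulAut.mul_apply, hαe, map_mul, map_pow, hαe]
    have hπL : ∀ l ∈ L, (QuotientGroup.mk l : Q ⧸ L) = 1 := fun l hl =>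
      (QuotientGroup.eq_one_iff l).mpr hl
    rw [h1, QuotientGroup.mk_mul, QuotientGroup.mk_pow, QuotientGroup.mk_mul, QuotientGroup.mk_pow,
      hπL l₁ hl₁, hπL _ (hmapL (ρ γ) l₁ hl₁), mul_one, mul_one, ← pow_mul]
    have h2 : orderOf (QuotientGroup.mk e₂ : Q ⧸ L) ∣ p := orderOf_dvd_of_pow_eq_one hpow
    have h3 : (QuotientGroup.mk e₂ : Q ⧸ L) ^ (s * s) = (QuotientGroup.mk e₂ : Q ⧸ L) ^ 1 := by
      rw [pow_eq_pow_iff_modEq]
      exact Nat.ModEq.of_dvd h2 hss
    rw [h3, pow_one]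
  have hmcomm : (QuotientGroup.mk e₂ : Q ⧸ L) ∈ Cfsg.Agent.Lib.Helper2_Coprime.commSub φ := by
    have hle : closure {x : Q | ∃ (γ : Γ) (g : Q), x = ρ γ g * g⁻¹} ≤
        (Cfsg.Agent.Lib.Helper2_Coprime.commSub φ).comap (QuotientGroup.mk' L) := by
      rw [closure_le]
      rintro _ ⟨γ, g, rfl⟩
      show QuotientGroup.mk' L (ρ γ g * g⁻¹) ∈ Cfsg.Agent.Lib.Helper2_Coprime.commSub φ
      apply Subgroup.subset_closure
      refine ⟨γ, (g : Q ⧸ L), ?_⟩
      rw [div_eq_mul_inv]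
      rfl
    rw [hfix] at hle
    exact hle (mem_top e₂)
  have h0 := Cfsg.Agent.Lib.Helper2_Coprime.commSub_inf_fixedSub φ hcop'
  have h1 : (QuotientGroup.mk e₂ : Q ⧸ L) ∈ (⊥ : Subgroup (Q ⧸ L)) := by
    rw [← h0]
    exact ⟨hmcomm, hmfix⟩
  rw [Subgroup.mem_bot, QuotientGroup.eq_one_iff] at h1
  exact he₂L h1

end Bad

end Setting

/-! ### The abstract theorem -/

section main

variable {Q : Type u} [Group Q] [Finite Q] {p : ℕ} [Fact p.Prime]

/-- `p > 3` as soon as a nontrivial group of odd order prime to `p` acts faithfully. -/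
theorem three_lt_of_action [Nontrivial Q] (hp2 : p ≠ 2) (hQ : IsPGroup p Q)
    (hrk : Cfsg.PRankLE p 2 Q) {Γ : Type*} [Group Γ] [Finite Γ]
    (hodd : Odd (Nat.card Γ)) (hcop : (Nat.card Γ).Coprime p) (ρ : Γ →* MulAut Q)
    (hfix : closure {x : Q | ∃ (γ : Γ) (g : Q), x = ρ γ g * g⁻¹} = ⊤) : 3 < p := by
  have hpP : p.Prime := Fact.out
  have hne : Nat.card ρ.range ≠ 1 := by
    intro h1
    have h2 : ρ.range = ⊥ := Subgroup.card_eq_one.mp h1
    have h3 : closure {x : Q | ∃ (γ : Γ) (g : Q), x = ρ γ g * g⁻¹} = ⊥ := by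
      rw [eq_bot_iff, closure_le]
      rintro _ ⟨γ, g, rfl⟩
      have h4 : ρ γ ∈ ρ.range := ⟨γ, rfl⟩
      rw [h2, Subgroup.mem_bot] at h4
      rw [h4]
      simp
    rw [hfix] at h3
    exact top_ne_bot h3
  obtain ⟨q, hq, hqd⟩ := Nat.exists_prime_and_dvd hne
  have hqΓ : q ∣ Nat.card Γ := hqd.trans (Subgroup.card_range_dvd ρ)
  have hqp : q ≠ p := by
    rintro rfl
    exact hpP.one_lt.ne' (Nat.eq_one_of_dvd_coprimes hcop hqΓ dvd_rfl)
  have hq2 : q ≠ 2 := by
    rintro rfl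
    exact (Nat.not_even_iff_odd.mpr hodd) (even_iff_two_dvd.mpr hqΓ)
  have hqA : q ∣ Nat.card (MulAut Q) := hqd.trans (Subgroup.card_subgroup_dvd_card _)
  have h1 := (Cfsg.Agent.S0640.result hp2 hQ hrk q hq hqp hqA).2
  have h2 := hq.two_le
  omega

/-- **Blackburn**: structure of a `p`-group of rank at most two admitting a fixed-point-free action
of a group of odd order prime to `p`. -/
theorem structure_of_action [Nontrivial Q] (hp2 : p ≠ 2) (hQ : IsPGroup p Q)
    (hrk : Cfsg.PRankLE p 2 Q) {Γ : Type*} [Group Γ] [Finite Γ]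
    (hodd : Odd (Nat.card Γ)) (hcop : (Nat.card Γ).Coprime p) (ρ : Γ →* MulAut Q)
    (hfix : closure {x : Q | ∃ (γ : Γ) (g : Q), x = ρ γ g * g⁻¹} = ⊤) :
    3 < p ∧ ((∀ a b : Q, a * b = b * a) ∨
      ∃ E C : Subgroup Q, E ⊔ C = ⊤ ∧ (∀ a ∈ E, ∀ c ∈ C, a * c = c * a) ∧
        (∃ u ∈ E, ∃ v ∈ E, ⁅u, v⁆ ≠ 1) ∧ Nat.card E = p ^ 3 ∧ (∀ e ∈ E, e ^ p = 1) ∧
        IsCyclic C ∧ closure {x : Q | x ∈ C ∧ x ^ p = 1} = ⁅E, E⁆) := by
  have hpP : p.Prime := Fact.out
  have hp := three_lt_of_action hp2 hQ hrk hodd hcop ρ hfix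
  refine ⟨hp, ?_⟩
  have hrk' : ∀ E : Subgroup Q, (∀ a ∈ E, ∀ b ∈ E, a * b = b * a) → (∀ a ∈ E, a ^ p = 1) →
      Nat.card E ≤ p ^ 2 := fun E hEc hEe =>
    hrk E ⟨⟨fun a b => Subtype.ext (hEc a.1 a.2 b.1 b.2)⟩⟩ hEe
  by_cases hO : Nat.card (omega p Q) ≤ p ^ 2
  · left
    have hm := isMetacyclic_of_card_omega_le hp hQ hO
    exact Cfsg.Agent.Lib.Helper2_Metacyclic.comm_of_fixedPointFree hp2 hQ hm hcop ρ hfix
  · right
    push Not at hO
    have hexp : ∀ e ∈ omega p Q, e ^ p = 1 := fun e he =>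
      Cfsg.Agent.Lib.Helper20_RankTwoOmega.pow_eq_one_of_mem_closure hp hQ hrk' he
    have hle : Nat.card (omega p Q) ≤ p ^ 3 :=
      Cfsg.Agent.Lib.Helper20_RankTwoOmega.card_le_of_exp hp2 hQ hrk' (omega p Q) hexp
    have hcard : Nat.card (omega p Q) = p ^ 3 := by
      obtain ⟨k, hk⟩ := IsPGroup.iff_card.mp (hQ.to_subgroup (omega p Q))
      rw [hk] at hO hle ⊢
      have h1 : 2 < k := (Nat.pow_lt_pow_iff_right hpP.one_lt).mp hO
      have h2 : k ≤ 3 := (Nat.pow_le_pow_iff_right hpP.one_lt).mp hle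
      have : k = 3 := by omega
      rw [this]
    have h := Setting.mk' hp hQ hrk hcard
    have hK : h.K₁ = ⊤ := by
      by_contra hbad
      exact (h.bad_of_ne_top hbad).false_of_action hp hodd hcop ρ hfix
    refine ⟨omega p Q, centralizer (omega p Q : Set Q), ?_, ?_, h.not_comm, hcard, hexp,
      h.isCyclic_centralizer hp2, ?_⟩
    · rw [eq_top_iff, ← hK]
      exact h.K₁_le
    · intro a ha c hc
      exact (mem_centralizer_iff.mp hc) a ha
    · apply le_antisymm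
      · rw [closure_le]
        rintro x ⟨hxC, hxp⟩
        rw [SetLike.mem_coe, ← h.center_E]
        exact Subgroup.mem_inf.mpr ⟨h.mem_E x hxp, hxC⟩
      · intro t ht
        exact Subgroup.subset_closure ⟨h.T_le_centralizer ht, h.pow_T ht⟩

end main

end Cfsg.Agent.Lib.Helper2_Blackburn
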