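import Mathlib
import Cfsg.Agent.Lib.Helper70_BG107
import Cfsg.Agent.S1448

set_option autoImplicit false
open Cfsg

namespace Cfsg.Agent.Lib.Helper70_BG107c

open Cfsg.Agent.Lib.Helper70_BG107
open scoped commutatorElement

variable {G : Type*} [Group G] [Finite G]

/-- a complement to `P` in its normaliser exists (Schur–Zassenhaus) -/
theorem exists_compl_normalizer {p : ℕ} [Fact p.Prime] (P : Sylow p G) :
    ∃ V : Subgroup G, Cfsg.IsComplIn (P : Subgroup G) V
        (Subgroup.normalizer ((P : Subgroup G) : Set G)) ∧ (Nat.card V).Coprime p ∧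
      Nat.card V ∣ Nat.card G := by
  have hp : p.Prime := Fact.out
  set N := Subgroup.normalizer ((P : Subgroup G) : Set G) with hN
  have hPN : (P : Subgroup G) ≤ N := Subgroup.le_normalizer
  have : ((P : Subgroup G).subgroupOf N).Normal := Subgroup.normal_in_normalizer
  have hcardP' : Nat.card ((P : Subgroup G).subgroupOf N) = Nat.card (P : Subgroup G) :=
    Nat.card_congr (Subgroup.subgroupOfEquivOfLe hPN).toEquiv
  have hidx : ¬ p ∣ ((P : Subgroup G).subgroupOf N).index := by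
    intro hd
    have h1 : ((P : Subgroup G).subgroupOf N).index ∣ (P : Subgroup G).index :=
      Subgroup.relIndex_dvd_index_of_le hPN
    exact P.not_dvd_index (hd.trans h1)
  have hcop : Nat.Coprime (Nat.card ((P : Subgroup G).subgroupOf N))
      ((P : Subgroup G).subgroupOf N).index := by
    rw [hcardP']
    obtain ⟨b, hb⟩ := IsPGroup.iff_card.mp P.isPGroup'
    rw [hb]
    exact Nat.Coprime.pow_left b ((Nat.Prime.coprime_iff_not_dvd hp).mpr hidx)
  obtain ⟨H, hH⟩ := Subgroup.exists_right_complement'_of_coprime hcop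
  refine ⟨H.map N.subtype, ⟨hPN, Subgroup.map_subtype_le _, ?_, ?_⟩, ?_, ?_⟩
  · rw [eq_bot_iff]
    intro x ⟨hxP, hxV⟩
    obtain ⟨h, hh, rfl⟩ := hxV
    have h1 : h ∈ ((P : Subgroup G).subgroupOf N) ⊓ H := ⟨Subgroup.mem_subgroupOf.mpr hxP, hh⟩
    rw [hH.disjoint.eq_bot, Subgroup.mem_bot] at h1
    rw [h1]; simp
  · intro m hm
    obtain ⟨⟨a, b⟩, hab, -⟩ := hH.existsUnique (⟨m, hm⟩ : N)
    refine ⟨(a : N), Subgroup.mem_subgroupOf.mp a.2, (b : N), ⟨b, b.2, rfl⟩, ?_⟩
    have := congrArg Subtype.val hab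
    simpa using this.symm
  · have hcardV : Nat.card (H.map N.subtype) = Nat.card H :=
      Subgroup.card_map_of_injective N.subtype_injective
    rw [hcardV]
    have hHidx : Nat.card H = ((P : Subgroup G).subgroupOf N).index := by
      have := hH.card_mul_card
      have h2 := Subgroup.card_mul_index ((P : Subgroup G).subgroupOf N)
      have h3 : 0 < Nat.card ((P : Subgroup G).subgroupOf N) := Nat.card_pos
      exact Nat.eq_of_mul_eq_mul_left h3 (by rw [this, h2])
    rw [hHidx]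
    exact (Nat.Prime.coprime_iff_not_dvd hp).mpr hidx |>.symm
  · have hcardV : Nat.card (H.map N.subtype) = Nat.card H :=
      Subgroup.card_map_of_injective N.subtype_injective
    rw [hcardV]
    exact (Subgroup.card_subgroup_dvd_card H).trans (Subgroup.card_subgroup_dvd_card N)

/-- BG 10.7(b) -/
theorem sylow_rank_two_structure (hG : Cfsg.IsMinSimpleOddOrder G) (h04 : H1404 G) (h10 : H1410 G)
    {p : ℕ} [Fact p.Prime] (P : Sylow p G) (hr : Cfsg.PRankLE p 2 (P : Subgroup G)) :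
    IsMulCommutative (P : Subgroup G) ∨ ∃ P₁ P₂ : Subgroup G, P₁ ⊔ P₂ = (P : Subgroup G) ∧
        (∀ a ∈ P₁, ∀ b ∈ P₂, a * b = b * a) ∧
        ¬ IsMulCommutative P₁ ∧ Nat.card P₁ = p ^ 3 ∧ Monoid.exponent P₁ = p ∧ IsCyclic P₂ ∧
        Subgroup.closure {x : G | x ∈ P₂ ∧ x ^ p = 1} = P₁ ⊓ Subgroup.centralizer (P₁ : Set G) := by
  have hp : p.Prime := Fact.out
  by_cases hP1 : (P : Subgroup G) = ⊥
  · left
    refine ⟨⟨fun a b => ?_⟩⟩
    have hbot : ∀ g : G, g ∈ (P : Subgroup G) → g = 1 := by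
      intro g hg
      rw [hP1, Subgroup.mem_bot] at hg; exact hg
    have ha : (a : G) = 1 := hbot _ a.2
    have hb : (b : G) = 1 := hbot _ b.2
    apply Subtype.ext
    simp [ha, hb]
  have hodd : Odd (Nat.card G) := hG.1
  have hpdvd : p ∣ Nat.card G := by
    obtain ⟨b, hb⟩ := IsPGroup.iff_card.mp P.isPGroup'
    have hb0 : b ≠ 0 := by
      rintro rfl
      rw [pow_zero] at hb
      exact hP1 (Subgroup.card_eq_one.mp hb)
    have h1 : Nat.card (P : Subgroup G) ∣ Nat.card G := Subgroup.card_subgroup_dvd_card _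
    rw [hb] at h1
    exact (dvd_pow_self p hb0).trans h1
  have hp2 : p ≠ 2 := by
    rintro rfl
    exact (Nat.not_even_iff_odd.mpr hodd) (even_iff_two_dvd.mpr hpdvd)
  obtain ⟨V, hV, hVcop, hVdvd⟩ := exists_compl_normalizer P
  have hVodd : Odd (Nat.card V) := Odd.of_dvd_nat hodd hVdvd
  have hPV := sylow_eq_commutator_compl hG h04 h10 P V hV
  have h48 := (Cfsg.Agent.S1448.result p hp2 (P : Subgroup G) V P.isPGroup' hP1 hr hV.2.1 hVcop
    hVodd hPV.symm).2
  rcases h48 with h | ⟨R₁, R₂, hsup, hcomm, hnc, hcard, hexp, hcyc, hcl⟩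
  · exact Or.inl h
  · right
    refine ⟨R₁, R₂, hsup, hcomm, hnc, hcard, hexp, hcyc, ?_⟩
    rw [hcl, ← Subgroup.map_subtype_commutator]
    have hnc' : ¬ ∀ a b : R₁, a * b = b * a := fun h => hnc ⟨⟨h⟩⟩
    rw [commutator_eq_center_of_card_cube hcard hnc']
    ext x
    constructor
    · rintro ⟨z, hz, rfl⟩
      refine ⟨z.2, ?_⟩
      show (z : G) ∈ Subgroup.centralizer (R₁ : Set G)
      rw [Subgroup.mem_centralizer_iff]
      intro h hh
      have hz' : z ∈ Subgroup.center R₁ := hz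
      have := Subgroup.mem_center_iff.mp hz' ⟨h, hh⟩
      exact congrArg Subtype.val this
    · rintro ⟨hx1, hx2⟩
      refine ⟨⟨x, hx1⟩, ?_, rfl⟩
      show (⟨x, hx1⟩ : R₁) ∈ Subgroup.center R₁
      rw [Subgroup.mem_center_iff]
      intro h
      apply Subtype.ext
      exact Subgroup.mem_centralizer_iff.mp hx2 h h.2

end Cfsg.Agent.Lib.Helper70_BG107c
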