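import Mathlib
import Cfsg.Agent.Lib.Helper70_BG106
import Cfsg.Agent.Lib.Helper70_BG107c

/-!
# Bender–Glauberman 10.6–10.7 from the Uniqueness Theorem (helper70)

Glue: the hypotheses `H1404`, `H1410` of `Helper70_BG107` follow from the Uniqueness Theorem `UniqHyp`
(S1403) and the statement `H1444` of S1444.
-/

set_option autoImplicit false
open Cfsg

namespace Cfsg.Agent.Lib.Helper70_BG107e

open Cfsg.Agent.Lib.Helper70_BG106 Cfsg.Agent.Lib.Helper70_BG107 Cfsg.Agent.Lib.Helper49_Sigma

universe u

variable {G : Type u} [Group G] [Finite G]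

theorem h1404_of_uniq (hG : IsMinSimpleOddOrder G) (hU : UniqHyp G) : H1404 G := by
  intro M hM p _ hp X hXp hX1 hXM
  exact sigma_fusion_statement hG hU M hM hp X hXp hX1 hXM

theorem h1410_of_uniq (hG : IsMinSimpleOddOrder G) (hU : UniqHyp G) (h44 : H1444.{u}) : H1410 G := by
  intro p _ H hH
  exact plen_one hG hU h44 p H hH

end Cfsg.Agent.Lib.Helper70_BG107e
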