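import Mathlib
import Cfsg.Agent.Lib.Helper49_Alpha3
import Cfsg.Agent.Lib.Helper70_BG1012
import Cfsg.Agent.Lib.Helper70_BG107e
import Cfsg.Agent.Lib.Helper22_Hyperplane
import Cfsg.Agent.Lib.Helper22_Coprime
import Cfsg.Agent.Lib.Helper49_FStarComm
import Cfsg.Agent.Lib.Helper32_Nilpotent
import Cfsg.Agent.S1451
import Cfsg.Agent.Lib.Helper29_BG12b
import Cfsg.Agent.Lib.Helper70_Wielandt

/-!
# Bender–Glauberman §12, part 1 (helper52): basic tools

`M_σ ≠ 1` (Lemma 10.2(e)), Lemma 12.2 (a) and (b), and some facts on coprime action, in a minimal simple group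
of odd order, with the Uniqueness Theorem (`UniqHyp G`) and S1444 (`H1444`) as explicit hypotheses.
-/

set_option autoImplicit false

namespace Cfsg.Agent.Lib.Helper52_BG12a

open scoped commutatorElement

open Subgroup Cfsg Cfsg.Agent.Lib.Helper49_Sigma Cfsg.Agent.Lib.Helper22_BGTrans
  Cfsg.Agent.Lib.Helper22_Radical Cfsg.Agent.Lib.Helper84_RelSylow Cfsg.Agent.Lib.Helper22_Uniq
  Cfsg.Agent.Lib.Helper49_Alpha Cfsg.Agent.Lib.Helper49_Alpha2 Cfsg.Agent.Lib.Helper49_Alpha3
  Cfsg.Agent.Lib.Helper70_BG106 Cfsg.Agent.Lib.Helper70_BG1212 Cfsg.Agent.Lib.Helper70_BG1012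

universe u

variable {G : Type u} [Group G]

theorem sigmaCore_le (M : Subgroup G) : sigmaCore M ≤ M := Subgroup.map_subtype_le _

theorem alphaCore_le (M : Subgroup G) : alphaCore M ≤ M := Subgroup.map_subtype_le _

theorem le_normalizer_map_subtype (M : Subgroup G) (K : Subgroup ↥M) [K.Normal] :
    M ≤ normalizer ((K.map M.subtype : Subgroup G) : Set G) := by
  have h1 := Subgroup.le_normalizer_map (H := K) M.subtype
  rw [Subgroup.normalizer_eq_top_iff.mpr inferInstance, ← MonoidHom.range_eq_map,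
    Subgroup.range_subtype] at h1
  exact h1

theorem le_normalizer_sigmaCore (M : Subgroup G) : M ≤ normalizer ((sigmaCore M : Subgroup G) : Set G) :=
  le_normalizer_map_subtype M _

theorem le_normalizer_alphaCore (M : Subgroup G) : M ≤ normalizer ((alphaCore M : Subgroup G) : Set G) :=
  le_normalizer_map_subtype M _

/-- the normalizer of a nontrivial subgroup normalized by the maximal subgroup `M` is `M` -/
theorem normalizer_eq_of_le (hG : IsMinSimpleOddOrder G) {M N : Subgroup G} (hM : IsCoatom M)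
    (hN1 : N ≠ ⊥) (hNM : N ≤ M) (hMN : M ≤ normalizer (N : Set G)) : normalizer (N : Set G) = M := by
  by_contra hne
  have hlt : M < normalizer (N : Set G) := lt_of_le_of_ne hMN (Ne.symm hne)
  exact normalizer_ne_top hG hN1 (ne_top_of_le_ne_top hM.1 hNM) (hM.2 _ hlt)

/-- a maximal subgroup of a nonabelian simple group is nontrivial -/
theorem coatom_ne_bot (hG : IsMinSimpleOddOrder G) {M : Subgroup G} (hM : IsCoatom M) : M ≠ ⊥ := by
  rintro rfl
  apply hG.2.2.1
  have key : ∀ x : G, x ≠ 1 → zpowers x = ⊤ := by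
    intro x hx
    apply hM.2
    rw [bot_lt_iff_ne_bot]
    intro h
    exact hx (Subgroup.zpowers_eq_bot.mp h)
  refine ⟨⟨fun a b => ?_⟩⟩
  by_cases ha : a = 1
  · rw [ha, one_mul, mul_one]
  · have hb : b ∈ zpowers a := by rw [key a ha]; exact mem_top b
    obtain ⟨k, rfl⟩ := hb
    exact (Commute.self_zpow a k).eq

variable [Finite G]

/-- `p`-subgroups of `M` lie in `M_σ` for `p ∈ σ(M)` -/
theorem le_sigmaCore_of_isPGroup (hG : IsMinSimpleOddOrder G) (hU : UniqHyp G) (h44 : H1444.{u})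
    {M : Subgroup G} (hM : IsCoatom M) {p : ℕ} (hp : p ∈ sigma M) {X : Subgroup G} (hX : IsPGroup p X)
    (hXM : X ≤ M) : X ≤ sigmaCore M := by
  have hpp := hp.1
  have : Fact p.Prime := ⟨hpp⟩
  have h1 : X.subgroupOf M ≤ piCore (sigma M) ↥M := by
    apply le_of_coprime_index
    rw [Cfsg.Agent.Lib.Helper1_Transport.card_subgroupOf hXM]
    obtain ⟨k, hk⟩ := IsPGroup.iff_card.mp hX
    rw [hk]
    apply Nat.Coprime.pow_left
    rw [Nat.Prime.coprime_iff_not_dvd hpp]
    exact not_dvd_index_piCore_sigma hG hU h44 M hM hp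
  rw [← Subgroup.map_subgroupOf_eq_of_le hXM]
  exact Subgroup.map_mono h1

/-- `M_σ` is a `σ(M)`-group -/
theorem mem_sigma_of_dvd_card_sigmaCore (M : Subgroup G) {q : ℕ} (hq : q.Prime)
    (hd : q ∣ Nat.card ↥(sigmaCore M)) : q ∈ sigma M := card_sigmaCore_mem M q hq hd

/-- `p`-subgroups of `M` lie in `M_α` for `p ∈ α(M)` -/
theorem le_alphaCore_of_isPGroup (hG : IsMinSimpleOddOrder G) (hU : UniqHyp G)
    {M : Subgroup G} (hM : IsCoatom M) {p : ℕ} (hp : p ∈ alpha M) {X : Subgroup G} (hX : IsPGroup p X)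
    (hXM : X ≤ M) : X ≤ alphaCore M := by
  have hpp := hp.1
  have : Fact p.Prime := ⟨hpp⟩
  obtain ⟨⟨-, -, hH⟩, -⟩ := alpha_statement hG hU M hM
  have hidx : (piCore (alpha M) ↥M).index = (alphaCore M).relIndex M := by
    unfold alphaCore
    rw [Subgroup.relIndex, Subgroup.subgroupOf, Subgroup.comap_map_eq_self_of_injective M.subtype_injective]
  have h1 : X.subgroupOf M ≤ piCore (alpha M) ↥M := by
    apply le_of_coprime_index
    rw [Cfsg.Agent.Lib.Helper1_Transport.card_subgroupOf hXM]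
    obtain ⟨k, hk⟩ := IsPGroup.iff_card.mp hX
    rw [hk]
    apply Nat.Coprime.pow_left
    rw [Nat.Prime.coprime_iff_not_dvd hpp, hidx]
    exact hH p hpp hp
  rw [← Subgroup.map_subgroupOf_eq_of_le hXM]
  exact Subgroup.map_mono h1

/-- a normal Sylow subgroup for the largest prime, in a solvable group of odd order and rank at most two -/
theorem exists_normal_sylow_of_rankLE_two {X : Type u} [Group X] [Finite X] [Group.IsSolvable X]
    (hodd : Odd (Nat.card X)) (hr : RankLE 2 X) (hX : 1 < Nat.card X) :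
    ∃ (q : ℕ) (N : Subgroup X), q.Prime ∧ N.Normal ∧ IsPGroup q ↥N ∧ N ≠ ⊥ ∧ ¬ q ∣ N.index := by
  have hne : (Nat.card X).primeFactors.Nonempty := by
    rw [Nat.nonempty_primeFactors]; exact hX
  set q := (Nat.card X).primeFactors.max' hne with hq
  have hqmem : q ∈ (Nat.card X).primeFactors := Finset.max'_mem _ hne
  have hqp : q.Prime := Nat.prime_of_mem_primeFactors hqmem
  have hqd : q ∣ Nat.card X := Nat.dvd_of_mem_primeFactors hqmem
  have hmax : ∀ r : ℕ, r.Prime → r ∣ Nat.card X → r ≤ q := by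
    intro r hr' hrd
    apply Finset.le_max'
    rw [Nat.mem_primeFactors]
    exact ⟨hr', hrd, by omega⟩
  obtain ⟨N, hNc, hN1, hN2⟩ := (Cfsg.Agent.S1451.result hodd (Or.inl hr)).2.2 (q - 1)
  have hNn : N.Normal := inferInstance
  have hNq : IsPGroup q ↥N := by
    have : Fact q.Prime := ⟨hqp⟩
    apply isPGroup_of_primes hqp
    intro r hr' hrd
    have h1 := (hN1 r hr' hrd).2
    have h2 := hmax r hr' (hrd.trans (Subgroup.card_subgroup_dvd_card N))
    have : r = q := by omega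
    rw [this]; rfl
  have hidx : ¬ q ∣ N.index := hN2 q hqp ⟨hqp, by have := hqp.one_lt; omega⟩
  refine ⟨q, N, hqp, hNn, hNq, ?_, hidx⟩
  rintro rfl
  rw [Subgroup.index_bot] at hidx
  exact hidx hqd

/-- **Bender–Glauberman, Lemma 10.2(e)**: `σ(M)` is not empty. -/
theorem exists_mem_sigma (hG : IsMinSimpleOddOrder G) (hU : UniqHyp G) {M : Subgroup G}
    (hM : IsCoatom M) : ∃ q : ℕ, q ∈ sigma M := by
  by_cases hr : RankLE 2 ↥M
  · have hsolv : Group.IsSolvable ↥M := hG.2.2.2 M hM.1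
    have hodd : Odd (Nat.card ↥M) := Odd.of_dvd_nat hG.1 (Subgroup.card_subgroup_dvd_card M)
    have hM1 := coatom_ne_bot hG hM
    have hcard : 1 < Nat.card ↥M := by
      rcases Nat.lt_or_ge 1 (Nat.card ↥M) with h | h
      · exact h
      · exfalso
        have hpos : 0 < Nat.card ↥M := Nat.card_pos
        exact hM1 (Subgroup.card_eq_one.mp (by omega))
    obtain ⟨q, N, hqp, hNn, hNq, hN1, hidx⟩ := exists_normal_sylow_of_rankLE_two hodd hr hcard
    have : Fact q.Prime := ⟨hqp⟩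
    refine ⟨q, ?_⟩
    have hS : IsSylowIn q (N.map M.subtype) M := by
      refine ⟨Subgroup.map_subtype_le _, hNq.map _, ?_⟩
      rw [Subgroup.relIndex, Subgroup.subgroupOf, Subgroup.comap_map_eq_self_of_injective M.subtype_injective]
      exact hidx
    have hQ1 : N.map M.subtype ≠ ⊥ := by
      rw [Ne, Subgroup.map_eq_bot_iff_of_injective N M.subtype_injective]
      exact hN1
    apply mem_sigma_of_normalizer_le hS hQ1
    rw [normalizer_eq_of_le hG hM hQ1 (Subgroup.map_subtype_le _) (le_normalizer_map_subtype M N)]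
  · unfold RankLE at hr
    push Not at hr
    obtain ⟨p, hpp, hp3⟩ := hr
    exact ⟨p, mem_sigma_of_mem_alpha hG hU hM ⟨hpp, hp3⟩⟩

/-- `M_σ ≠ 1` -/
theorem sigmaCore_ne_bot (hG : IsMinSimpleOddOrder G) (hU : UniqHyp G) (h44 : H1444.{u})
    {M : Subgroup G} (hM : IsCoatom M) : sigmaCore M ≠ ⊥ := by
  obtain ⟨q, hq⟩ := exists_mem_sigma hG hU hM
  have : Fact q.Prime := ⟨hq.1⟩
  obtain ⟨P, hS⟩ := exists_sylM_of_mem_sigma hq
  intro h
  have hle := le_sigmaCore_of_isPGroup hG hU h44 hM hq hS.1.isPGroup hS.2.1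
  rw [h, le_bot_iff] at hle
  have hS1 := hS.1
  rw [hle] at hS1
  have h3 := hS1.not_dvd
  rw [Subgroup.relIndex_bot_left] at h3
  have := hq.2.1
  exact h3 (this.trans (by rw [Subgroup.card_top]; exact Subgroup.card_subgroup_dvd_card M))

/-- in a cyclic group, a subgroup is determined by its order -/
theorem eq_of_card_eq_of_isCyclic {P X Y : Subgroup G} [IsCyclic ↥P] (hX : X ≤ P) (hY : Y ≤ P)
    (h : Nat.card ↥X = Nat.card ↥Y) : X = Y := by
  have h1 : X.subgroupOf P = Y.subgroupOf P := by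
    apply Cfsg.Agent.Lib.Helper70_Wielandt.eq_of_card_eq_of_isCyclic
    rw [Cfsg.Agent.Lib.Helper1_Transport.card_subgroupOf hX,
      Cfsg.Agent.Lib.Helper1_Transport.card_subgroupOf hY, h]
  rw [← Subgroup.map_subgroupOf_eq_of_le hX, ← Subgroup.map_subgroupOf_eq_of_le hY, h1]

/-- primes dividing the order of a subgroup are odd -/
theorem ne_two_of_isPGroup (hG : IsMinSimpleOddOrder G) {p : ℕ} [Fact p.Prime] {X : Subgroup G}
    (hX : IsPGroup p ↥X) (hX1 : X ≠ ⊥) : p ≠ 2 := by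
  obtain ⟨k, hk⟩ := IsPGroup.iff_card.mp hX
  have hk0 : k ≠ 0 := by
    rintro rfl
    rw [pow_zero] at hk
    exact hX1 (Subgroup.card_eq_one.mp hk)
  apply Cfsg.Agent.Lib.Helper29_BG12b.ne_two_of_dvd hG.1 (F := X)
  rw [hk]
  exact dvd_pow_self p hk0

/-- **Bender–Glauberman, Lemma 12.2(a)**: if `N_G(X) ≤ M` for a nontrivial `p`-subgroup `X`,
then `p ∈ σ(M) ∪ τ₂(M)`. -/
theorem mem_sigma_or_tau2 (hG : IsMinSimpleOddOrder G) (hU : UniqHyp G) {M : Subgroup G}
    (hM : IsCoatom M) {p : ℕ} [Fact p.Prime] {X : Subgroup G} (hX : IsPGroup p ↥X) (hX1 : X ≠ ⊥)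
    (hN : normalizer (X : Set G) ≤ M) : p ∈ sigma M ∨ p ∈ tau2 M := by
  have hpp : p.Prime := Fact.out
  by_cases hσ : p ∈ sigma M
  · exact Or.inl hσ
  right
  have hXM : X ≤ M := le_normalizer.trans hN
  have hr2 : PRankLE p 2 ↥M := by
    by_contra h
    exact hσ (mem_sigma_of_mem_alpha hG hU hM ⟨hpp, h⟩)
  refine ⟨hpp, hσ, hr2, ?_⟩
  intro hr1
  apply hσ
  obtain ⟨P, hXP, hS⟩ := exists_isSylowIn_ge hXM hX
  have hP1 : P ≠ ⊥ := fun h => hX1 (le_bot_iff.mp (h ▸ hXP))
  have hp2 := ne_two_of_isPGroup hG hX hX1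
  have hPr : PRankLE p 1 ↥P :=
    Cfsg.Agent.Lib.Helper2_PRank.pRankLE_of_injective' p 1 (Subgroup.inclusion hS.le)
      (Subgroup.inclusion_injective hS.le) hr1
  have hcyc : IsCyclic ↥P := Cfsg.Agent.Lib.Helper29_BG12a.isCyclic_of_pRankLE_one hp2 hS.isPGroup hPr
  apply mem_sigma_of_normalizer_le hS hP1
  refine le_trans ?_ hN
  intro n hn
  rw [Subgroup.mem_normalizer_iff_map_conj_eq]
  have h1 : cj n X ≤ P := by
    have := cj_mono (k := n) hXP
    rwa [cj_eq_of_mem_normalizer hn] at this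
  exact eq_of_card_eq_of_isCyclic h1 hXP (card_cj n X)

/-- **Bender–Glauberman, Lemma 12.2(b)**: if `p ∈ σ(H)`, `X` is a nontrivial `p`-subgroup of `H` with
`C_G(X) ≤ H`, and `X` lies in a conjugate of `H`, then that conjugate is `H`. -/
theorem cj_eq_of_le_cj (hG : IsMinSimpleOddOrder G) (hU : UniqHyp G) {H : Subgroup G}
    (hH : IsCoatom H) {p : ℕ} [Fact p.Prime] (hp : p ∈ sigma H) {X : Subgroup G} (hX : IsPGroup p ↥X)
    (hX1 : X ≠ ⊥) (hXH : X ≤ H) (hC : centralizer (X : Set G) ≤ H) {g : G} (hXg : X ≤ cj g H) :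
    cj g H = H := by
  obtain ⟨P, hS⟩ := exists_sylM_of_mem_sigma hp
  have hA := (fusion hG hU hH hS hX hX1 hXH).1
  have h1 : cj g⁻¹ X ≤ H := by
    have := cj_mono (k := g⁻¹) hXg
    rwa [cj_inv_cj] at this
  obtain ⟨m, hm, c, hc, e⟩ := hA g⁻¹ h1
  have hg : g⁻¹ ∈ H := by rw [e]; exact mul_mem hm (hC hc)
  have hg' : g ∈ H := by simpa using inv_mem hg
  exact cj_self_of_mem hg'

omit [Finite G] in
open Cfsg.Agent.Lib.Helper49_FStarComm in
/-- coprime action: `K = [K, A] C_K(A)` for a `p`-group `A` normalizing the `p'`-group `K` -/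
theorem le_commutator_sup_centralizer {p : ℕ} [Fact p.Prime] {A K : Subgroup G} (hA : IsPGroup p ↥A)
    (hK : ¬ p ∣ Nat.card ↥K) (hAK : A ≤ normalizer (K : Set G)) :
    K ≤ ⁅K, A⁆ ⊔ (K ⊓ centralizer (A : Set G)) := by
  intro x hx
  have hle : ⁅K, A⁆ ≤ K := commutator_le_left_of_le_normalizer hAK
  have hK' : ¬ p ∣ Nat.card ↥(⁅K, A⁆ : Subgroup G) := fun h => hK (h.trans (Subgroup.card_dvd_of_le hle))
  obtain ⟨m, hm, hfix⟩ := Cfsg.Agent.Lib.Helper22_Coprime.exists_fixed_in_coset A ⁅K, A⁆ hA hK'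
    (le_normalizer_commutator_right K A) x (by
      intro g hg
      have : x⁻¹ * g * x * g⁻¹ = ⁅x⁻¹, g⁆ := by rw [commutatorElement_def]; group
      rw [this]
      exact Subgroup.commutator_mem_commutator (K.inv_mem hx) hg)
  have hxm : x * m ∈ K ⊓ centralizer (A : Set G) := by
    refine Subgroup.mem_inf.mpr ⟨K.mul_mem hx (hle hm), ?_⟩
    rw [Subgroup.mem_centralizer_iff]
    intro g hg
    have := hfix g hg
    calc g * (x * m) = (g * (x * m) * g⁻¹) * g := by group
      _ = x * m * g := by rw [this]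
  have : x = (x * m) * m⁻¹ := by group
  rw [this]
  exact mul_mem (Subgroup.mem_sup_right hxm) (Subgroup.mem_sup_left (inv_mem hm))

open Cfsg.Agent.Lib.Helper49_FStarComm in
/-- coprime action: `[K, A, A] = 1` forces `[K, A] = 1` -/
theorem le_centralizer_of_commutator_commutator {p : ℕ} [Fact p.Prime] {A K : Subgroup G}
    (hA : IsPGroup p ↥A) (hK : ¬ p ∣ Nat.card ↥K) (hAK : A ≤ normalizer (K : Set G))
    (h : ⁅⁅K, A⁆, A⁆ = ⊥) : K ≤ centralizer (A : Set G) := by
  rw [← Subgroup.commutator_eq_bot_iff_le_centralizer,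
    commutator_eq_commutator_commutator hAK (le_commutator_sup_centralizer hA hK hAK)]
  exact h

/-- subgroups of an elementary abelian group of order `p ^ 2` of index at most `p` -/
theorem card_eq_of_relIndex_le {p : ℕ} [Fact p.Prime] {A B : Subgroup G} (hA2 : Nat.card ↥A = p ^ 2)
    (hBA : B ≤ A) (hidx : B.relIndex A ≤ p) : B = A ∨ Nat.card ↥B = p := by
  have hpp : p.Prime := Fact.out
  have h1 : Nat.card ↥B * B.relIndex A = Nat.card ↥A :=
    Cfsg.Agent.Lib.Helper22_Hyperplane.card_mul_relIndex hBA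
  rw [hA2] at h1
  have hdvd : Nat.card ↥B ∣ p ^ 2 := ⟨_, h1.symm⟩
  obtain ⟨k, hk, hBk⟩ := (Nat.dvd_prime_pow hpp).mp hdvd
  interval_cases k
  · exfalso
    rw [hBk, pow_zero, one_mul] at h1
    have : p < p ^ 2 := by nlinarith [hpp.one_lt]
    omega
  · right; rw [hBk, pow_one]
  · left
    apply Subgroup.eq_of_le_of_card_ge hBA
    rw [hBk, hA2]

/-- generation by the centralizers of the subgroups of order `p` of an elementary abelian group of order
`p ^ 2` acting coprimely -/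
theorem le_centralizer_of_lines {p : ℕ} [Fact p.Prime] {A X : Subgroup G}
    (hAea : IsElementaryAbelian p A) (hA2 : Nat.card ↥A = p ^ 2) (hX : ¬ p ∣ Nat.card ↥X)
    (hAX : A ≤ normalizer (X : Set G))
    (h : ∀ A₀ : Subgroup G, A₀ ≤ A → Nat.card ↥A₀ = p →
      X ⊓ centralizer (A₀ : Set G) ≤ centralizer (A : Set G)) : X ≤ centralizer (A : Set G) := by
  refine le_trans (Cfsg.Agent.Lib.Helper22_Hyperplane.le_iSup_centralizer_hyperplanes p A X
    (comm_of_isElementaryAbelian hAea) hAea.2 hX hAX) ?_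
  apply iSup_le
  rintro ⟨B, hBA, hidx⟩
  rcases card_eq_of_relIndex_le hA2 hBA hidx with rfl | hB
  · exact inf_le_right
  · exact h B hBA hB

end Cfsg.Agent.Lib.Helper52_BG12a
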