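import Mathlib
import Cfsg.Prelude.Def_Transfer
import Cfsg.Agent.Lib.Helper63_PGroup2

/-!
# The order of an extraspecial group (helper63)

A finite `p`-group `Q` with `Q' ≤ Z(Q)` and `|Z(Q)| = p` has order `p ^ (2 m + 1)`.
-/

set_option autoImplicit false

namespace Cfsg.Agent.Lib.Helper63_Extraspecial

open Cfsg Cfsg.Agent.Lib.Helper63_PGroup Cfsg.Agent.Lib.Helper63_PGroup2
open scoped commutatorElement

universe u

/-- if `H ≤ F ≤ K`, `|K : H|` is prime and `F ≠ H` then `K ≤ F` -/
theorem le_of_relIndex_prime {G : Type*} [Group G] {H F K : Subgroup G} (hHF : H ≤ F) (hFK : F ≤ K)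
    (hp : (H.relIndex K).Prime) (hne : ¬ F ≤ H) : K ≤ F := by
  have h1 := Subgroup.relIndex_mul_relIndex H F K hHF hFK
  have h2 : H.relIndex F ∣ H.relIndex K := ⟨_, h1.symm⟩
  rcases (Nat.dvd_prime hp).1 h2 with h | h
  · exact absurd (Subgroup.relIndex_eq_one.1 h) hne
  · rw [h] at h1
    have : F.relIndex K = 1 := by
      have h3 : H.relIndex K * F.relIndex K = H.relIndex K * 1 := by rw [h1, mul_one]
      exact Nat.eq_of_mul_eq_mul_left hp.pos h3
    exact Subgroup.relIndex_eq_one.1 this

/-- the centralizer of a noncentral element in a class-2 group with centre of order `p` has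
index `p` -/
theorem index_centralizer_eq {Q : Type*} [Group Q] [Finite Q] {p : ℕ} (hp : p.Prime)
    (hcl : commutator Q ≤ Subgroup.center Q) (hZ : Nat.card (Subgroup.center Q) = p)
    (x : Q) (hx : x ∉ Subgroup.center Q) : (Subgroup.centralizer ({x} : Set Q)).index = p := by
  have hb : ∀ g : Q, ⁅x, g⁆ ∈ Subgroup.center Q := by
    intro g
    apply hcl
    rw [commutator_def]
    exact Subgroup.commutator_mem_commutator (Subgroup.mem_top _) (Subgroup.mem_top _)
  have h1 := index_centralizer_dvd_card_center x hb
  rw [hZ] at h1
  rcases (Nat.dvd_prime hp).1 h1 with h | h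
  · exfalso
    apply hx
    rw [Subgroup.index_eq_one] at h
    rw [Subgroup.mem_center_iff]
    intro g
    have : g ∈ Subgroup.centralizer ({x} : Set Q) := by rw [h]; trivial
    rw [mem_centralizer_singleton] at this
    exact this.symm
  · exact h

theorem card_of_class_two_aux {p : ℕ} [hp : Fact p.Prime] : ∀ (n : ℕ) (Q : Type u) [Group Q]
    [Finite Q], Nat.card Q = n → IsPGroup p Q → commutator Q ≤ Subgroup.center Q →
    Nat.card (Subgroup.center Q) = p → ∃ m : ℕ, Nat.card Q = p ^ (2 * m + 1) := by
  intro n
  induction n using Nat.strong_induction_on with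
  | _ n ih =>
    intro Q _ _ hn hQ hcl hZ
    have hpp : p.Prime := hp.out
    by_cases htop : Subgroup.center Q = ⊤
    · refine ⟨0, ?_⟩
      rw [htop, Subgroup.card_top] at hZ
      rw [hZ]; simp
    · -- pick a noncentral `x`, and `y` not commuting with `x`
      obtain ⟨x, hx⟩ : ∃ x : Q, x ∉ Subgroup.center Q := by
        by_contra hall
        push Not at hall
        exact htop (eq_top_iff.2 fun x _ => hall x)
      set Cx := Subgroup.centralizer ({x} : Set Q) with hCx
      have hCxi : Cx.index = p := index_centralizer_eq hpp hcl hZ x hx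
      have hCxcoatom : IsCoatom Cx := isCoatom_of_index_prime Cx (hCxi ▸ hpp)
      obtain ⟨y, hy⟩ : ∃ y : Q, y ∉ Cx := by
        by_contra hall
        push Not at hall
        exact hCxcoatom.1 (eq_top_iff.2 fun x _ => hall x)
      have hxy : x * y ≠ y * x := by
        intro h
        apply hy
        rw [hCx, mem_centralizer_singleton]; exact h
      have hyZ : y ∉ Subgroup.center Q := by
        intro h
        exact hxy ((Subgroup.mem_center_iff.1 h x))
      set Cy := Subgroup.centralizer ({y} : Set Q) with hCy
      have hCyi : Cy.index = p := index_centralizer_eq hpp hcl hZ y hyZ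
      have hCyn : Cy.Normal := normal_of_index_eq_prime hQ Cy hCyi
      have hxCy : x ∉ Cy := by
        rw [hCy, mem_centralizer_singleton]
        exact fun h => hxy h.symm
      have hxCx : x ∈ Cx := by rw [hCx, mem_centralizer_singleton]
      have hyCy : y ∈ Cy := by rw [hCy, mem_centralizer_singleton]
      set Q₁ := Cx ⊓ Cy with hQ₁
      -- index computations
      have hsup : Cx ⊔ Cy = ⊤ := by
        apply hCxcoatom.2
        apply lt_of_le_of_ne le_sup_left
        intro heq
        apply hy
        rw [heq]; exact Subgroup.mem_sup_right hyCy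
      have hrel : Q₁.relIndex Cx = p := by
        rw [hQ₁, inf_comm, Subgroup.inf_relIndex_right]
        have := Subgroup.relIndex_sup_right Cx Cy
        rw [hsup, Subgroup.relIndex_top_right, hCyi] at this
        exact this.symm
      have hcardQ₁ : Nat.card Q₁ * (p * p) = Nat.card Q := by
        have h1 := card_mul_relIndex (inf_le_left : Q₁ ≤ Cx)
        rw [hrel] at h1
        have h2 := Subgroup.card_mul_index Cx
        rw [hCxi, ← h1] at h2
        rw [← h2]; ring
      -- centre of `Q₁`
      have hZle : Subgroup.center Q ≤ Q₁ := by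
        intro z hz
        refine Subgroup.mem_inf.2 ⟨?_, ?_⟩
        · rw [hCx, mem_centralizer_singleton]; exact (Subgroup.mem_center_iff.1 hz x)
        · rw [hCy, mem_centralizer_singleton]; exact (Subgroup.mem_center_iff.1 hz y)
      have hcenter : (Subgroup.center Q₁).map Q₁.subtype = Subgroup.center Q := by
        apply le_antisymm
        · rintro _ ⟨z, hz, rfl⟩
          -- `E = C(z)` contains `Q₁`, `x`, `y`
          set E := Subgroup.centralizer ({(z : Q)} : Set Q) with hE
          have hQ₁E : Q₁ ≤ E := by
            intro a ha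
            rw [hE, mem_centralizer_singleton]
            have := Subgroup.mem_center_iff.1 hz ⟨a, ha⟩
            exact (congrArg Subtype.val this).symm
          have hxE : x ∈ E := by
            rw [hE, mem_centralizer_singleton]
            have := (Subgroup.mem_inf.1 z.2).1
            rw [hCx, mem_centralizer_singleton] at this
            exact this.symm
          have hyE : y ∈ E := by
            rw [hE, mem_centralizer_singleton]
            have := (Subgroup.mem_inf.1 z.2).2
            rw [hCy, mem_centralizer_singleton] at this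
            exact this.symm
          have hCxE : Cx ≤ E ⊓ Cx := by
            apply le_of_relIndex_prime (H := Q₁) (le_inf hQ₁E inf_le_left) inf_le_right
              (hrel ▸ hpp)
            intro hle
            have : x ∈ Q₁ := hle ⟨hxE, hxCx⟩
            exact hxCy this.2
          have hEtop : E = ⊤ := by
            apply hCxcoatom.2
            apply lt_of_le_of_ne (hCxE.trans inf_le_left)
            intro heq
            apply hy
            rw [heq]; exact hyE
          show (z : Q) ∈ Subgroup.center Q
          rw [Subgroup.mem_center_iff]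
          intro g
          have : g ∈ E := by rw [hEtop]; trivial
          rw [hE, mem_centralizer_singleton] at this
          exact this.symm
        · intro z hz
          refine ⟨⟨z, hZle hz⟩, ?_, rfl⟩
          show (⟨z, hZle hz⟩ : Q₁) ∈ Subgroup.center Q₁
          rw [Subgroup.mem_center_iff]
          intro g
          apply Subtype.ext
          exact Subgroup.mem_center_iff.1 hz g
      have hZ₁ : Nat.card (Subgroup.center Q₁) = p := by
        rw [← hZ, ← hcenter, Subgroup.card_subtype]
      have hcl₁ : commutator Q₁ ≤ Subgroup.center Q₁ := by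
        intro c hc
        have h1 : (c : Q) ∈ (commutator Q₁).map Q₁.subtype := ⟨c, hc, rfl⟩
        have h2 : (commutator Q₁).map Q₁.subtype ≤ commutator Q := by
          rw [commutator_def, commutator_def, Subgroup.map_commutator]
          exact Subgroup.commutator_mono le_top le_top
        have h3 : (c : Q) ∈ Subgroup.center Q := hcl (h2 h1)
        rw [Subgroup.mem_center_iff]
        intro g
        apply Subtype.ext
        exact Subgroup.mem_center_iff.1 h3 g
      have hlt : Nat.card Q₁ < n := by
        rw [← hn, ← hcardQ₁]
        have hpos : 0 < Nat.card Q₁ := Nat.card_pos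
        have : 1 < p * p := by nlinarith [hpp.one_lt]
        nlinarith
      obtain ⟨m, hm⟩ := ih (Nat.card Q₁) hlt Q₁ rfl (hQ.to_subgroup Q₁) hcl₁ hZ₁
      refine ⟨m + 1, ?_⟩
      rw [← hcardQ₁, hm]; ring

/-- A finite `p`-group of class at most two with centre of order `p` has order `p ^ (2 m + 1)`. -/
theorem card_of_class_two {p : ℕ} [Fact p.Prime] {Q : Type u} [Group Q] [Finite Q]
    (hQ : IsPGroup p Q) (hcl : commutator Q ≤ Subgroup.center Q)
    (hZ : Nat.card (Subgroup.center Q) = p) : ∃ m : ℕ, Nat.card Q = p ^ (2 * m + 1) :=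
  card_of_class_two_aux _ Q rfl hQ hcl hZ

/-- an extraspecial group is not abelian -/
theorem not_comm_of_extraspecial {Q : Type*} [Group Q] [Finite Q] {p : ℕ} [Fact p.Prime]
    (hQ : Cfsg.IsExtraspecial p Q) : ¬ IsMulCommutative Q := by
  intro hcomm
  have hp : p.Prime := Fact.out
  have h1 : commutator Q = ⊥ := by
    rw [commutator_def, Subgroup.commutator_eq_bot_iff_le_centralizer]
    intro a _
    rw [Subgroup.mem_centralizer_iff]
    intro b _
    exact hcomm.is_comm.comm b a
  have h2 : Nat.card (Subgroup.center Q) = p := hQ.2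
  rw [← hQ.1.2.2, h1, Subgroup.card_bot] at h2
  exact hp.one_lt.ne h2

/-- **The order of an extraspecial `p`-group** is `p ^ (2 n + 1)` with `n ≥ 1`. -/
theorem card_of_extraspecial {p : ℕ} [Fact p.Prime] {Q : Type u} [Group Q] [Finite Q]
    (hQ : Cfsg.IsExtraspecial p Q) : ∃ n : ℕ, 1 ≤ n ∧ Nat.card Q = p ^ (2 * n + 1) := by
  have hp : p.Prime := Fact.out
  obtain ⟨m, hm⟩ := card_of_class_two hQ.1.1 (le_of_eq hQ.1.2.2) hQ.2
  refine ⟨m, ?_, hm⟩
  by_contra h0
  have hm0 : m = 0 := by omega
  rw [hm0] at hm
  simp at hm
  -- then `Q = Z(Q)` is abelian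
  apply not_comm_of_extraspecial hQ
  have htop : Subgroup.center Q = ⊤ := by
    apply Subgroup.eq_top_of_card_eq
    rw [hQ.2, hm]
  constructor
  constructor
  intro a b
  have : a ∈ Subgroup.center Q := by rw [htop]; trivial
  exact (Subgroup.mem_center_iff.1 this b).symm

end Cfsg.Agent.Lib.Helper63_Extraspecial
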