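import Mathlib
import Cfsg.Agent.Lib.Helper24_CoprimeHall
import Cfsg.Agent.Lib.Helper52_FrobAct
import Cfsg.Agent.Lib.Helper63_Extraspecial

/-!
# Basic tools for BG Theorem 3.7 (helper52)

* `cj g Y`: the conjugate subgroup `g Y g⁻¹` (`Subgroup.map` along `MulAut.conj g`), with basic API.
* `commutator_mem_centralizer_of_isCyclic`, `commutator_section_trivial`: commutators of elements
  normalizing a cyclic subgroup (or a section of prime order) act trivially on it.
* `sup_eq_of_relIndex_prime`, `mem_of_pow_mem_of_prime`.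
-/

set_option autoImplicit false
set_option linter.style.haveILetI false
open Cfsg

namespace Cfsg.Agent.Lib.Helper52_ZBase

open scoped commutatorElement
open Cfsg.Agent.Lib.Helper52_FrobAct



section cj
variable {X : Type*} [Group X]

/-- conjugate of a subgroup: `g Y g⁻¹` -/
abbrev cj (g : X) (Y : Subgroup X) : Subgroup X := Y.map (MulAut.conj g).toMonoidHom

theorem mem_cj {g a : X} {Y : Subgroup X} : a ∈ cj g Y ↔ g⁻¹ * a * g ∈ Y := by
  show a ∈ Y.map (MulAut.conj g).toMonoidHom ↔ _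
  rw [Subgroup.mem_map_equiv, MulAut.conj_symm_apply]

theorem conj_mem_cj {g a : X} {Y : Subgroup X} (ha : a ∈ Y) : g * a * g⁻¹ ∈ cj g Y := by
  rw [mem_cj]
  have : g⁻¹ * (g * a * g⁻¹) * g = a := by group
  rw [this]; exact ha

theorem cj_one (Y : Subgroup X) : cj 1 Y = Y := by
  ext a; rw [mem_cj]; simp

theorem cj_mul (g h : X) (Y : Subgroup X) : cj (g * h) Y = cj g (cj h Y) := by
  ext a
  rw [mem_cj, mem_cj, mem_cj]
  have : (g * h)⁻¹ * a * (g * h) = h⁻¹ * (g⁻¹ * a * g) * h := by group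
  rw [this]

theorem cj_inv_cj (g : X) (Y : Subgroup X) : cj g⁻¹ (cj g Y) = Y := by
  rw [← cj_mul, inv_mul_cancel, cj_one]

theorem cj_cj_inv (g : X) (Y : Subgroup X) : cj g (cj g⁻¹ Y) = Y := by
  rw [← cj_mul, mul_inv_cancel, cj_one]

theorem cj_mono (g : X) {Y Z : Subgroup X} (h : Y ≤ Z) : cj g Y ≤ cj g Z := Subgroup.map_mono h

theorem cj_le_cj_iff (g : X) {Y Z : Subgroup X} : cj g Y ≤ cj g Z ↔ Y ≤ Z := by
  constructor
  · intro h
    have := cj_mono g⁻¹ h
    rwa [cj_inv_cj, cj_inv_cj] at this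
  · exact cj_mono g

theorem cj_injective (g : X) : Function.Injective (cj g) := by
  intro Y Z h
  have := congrArg (cj g⁻¹) h
  rwa [cj_inv_cj, cj_inv_cj] at this

theorem cj_eq_self_iff {g : X} {Y : Subgroup X} : cj g Y = Y ↔ g ∈ Subgroup.normalizer (Y : Set X) :=
  Subgroup.mem_normalizer_iff_map_conj_eq.symm

theorem cj_of_normal (g : X) (V : Subgroup X) [hV : V.Normal] : cj g V = V := by
  rw [cj_eq_self_iff, Subgroup.normalizer_eq_top_iff.mpr hV]; trivial

theorem card_cj (g : X) (Y : Subgroup X) : Nat.card ↥(cj g Y) = Nat.card Y :=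
  Subgroup.card_map_of_injective (MulAut.conj g).injective

theorem cj_inf (g : X) (A B : Subgroup X) : cj g (A ⊓ B) = cj g A ⊓ cj g B :=
  Subgroup.map_inf _ _ _ (MulAut.conj g).injective

theorem cj_sup (g : X) (A B : Subgroup X) : cj g (A ⊔ B) = cj g A ⊔ cj g B :=
  Subgroup.map_sup _ _ _

theorem cj_bot (g : X) : cj g (⊥ : Subgroup X) = ⊥ := Subgroup.map_bot _

theorem cj_eq_bot_iff (g : X) (Y : Subgroup X) : cj g Y = ⊥ ↔ Y = ⊥ :=
  Subgroup.map_eq_bot_iff_of_injective _ (MulAut.conj g).injective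

theorem cj_centralizer (g : X) (Y : Subgroup X) :
    cj g (Subgroup.centralizer (Y : Set X)) = Subgroup.centralizer ((cj g Y : Subgroup X) : Set X) := by
  ext a
  rw [mem_cj, Subgroup.mem_centralizer_iff, Subgroup.mem_centralizer_iff]
  constructor
  · intro h b hb
    have hb' : g⁻¹ * b * g ∈ Y := mem_cj.mp hb
    have := h _ hb'
    have e1 : b * a = g * ((g⁻¹ * b * g) * (g⁻¹ * a * g)) * g⁻¹ := by group
    have e2 : a * b = g * ((g⁻¹ * a * g) * (g⁻¹ * b * g)) * g⁻¹ := by group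
    rw [e1, e2, this]
  · intro h b hb
    have hb' : g * b * g⁻¹ ∈ cj g Y := conj_mem_cj hb
    have := h _ hb'
    have e1 : b * (g⁻¹ * a * g) = g⁻¹ * ((g * b * g⁻¹) * a) * g := by group
    have e2 : (g⁻¹ * a * g) * b = g⁻¹ * (a * (g * b * g⁻¹)) * g := by group
    rw [e1, e2, this]

theorem cj_commutator (g : X) (A B : Subgroup X) : cj g ⁅A, B⁆ = ⁅cj g A, cj g B⁆ :=
  Subgroup.map_commutator _ _ _

theorem relIndex_cj [Finite X] (g : X) {Y A : Subgroup X} (h : Y ≤ A) :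
    (cj g Y).relIndex (cj g A) = Y.relIndex A := by
  rw [Cfsg.Agent.Lib.Helper24_CoprimeHall.relIndex_eq_div h,
    Cfsg.Agent.Lib.Helper24_CoprimeHall.relIndex_eq_div (cj_mono g h), card_cj, card_cj]

theorem cj_of_mem {A : Subgroup X} {a : X} (ha : a ∈ A) : cj a A = A :=
  Cfsg.Agent.Lib.Helper24_CoprimeAction.map_conj_of_mem A ha

/-- an abelian group fixes each of its subgroups under conjugation -/
theorem cj_of_comm {A Y : Subgroup X} (hY : Y ≤ A) (hA : ∀ a ∈ A, ∀ b ∈ A, a * b = b * a) {a : X}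
    (ha : a ∈ A) : cj a Y = Y := by
  ext b
  rw [mem_cj]
  constructor
  · intro h
    have h1 : a * (a⁻¹ * b * a) = (a⁻¹ * b * a) * a := hA a ha _ (hY h)
    have h2 : b = a⁻¹ * b * a := by
      have : b * a = a * (a⁻¹ * b * a) := by group
      rw [h1] at this
      exact mul_right_cancel this
    rw [h2]; exact h
  · intro h
    have h1 : a * b = b * a := hA a ha b (hY h)
    have h2 : a⁻¹ * b * a = b := by
      rw [mul_assoc, ← h1]; group
    rw [h2]; exact h

end cj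




section cyc
variable {X : Type*} [Group X]

theorem mulAut_comm_of_isCyclic {C : Type*} [Group C] [IsCyclic C] (α β : MulAut C) :
    α * β = β * α := by
  apply (IsCyclic.mulAutMulEquiv C).injective
  rw [map_mul, map_mul, mul_comm]

/-- commutators of elements normalizing a cyclic subgroup centralize it -/
theorem commutator_mem_centralizer_of_isCyclic (C : Subgroup X) [IsCyclic ↥C] {g h : X}
    (hg : g ∈ Subgroup.normalizer (C : Set X)) (hh : h ∈ Subgroup.normalizer (C : Set X)) :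
    ⁅g, h⁆ ∈ Subgroup.centralizer (C : Set X) := by
  set N := Subgroup.normalizer (C : Set X) with hN
  set φ := conjAut N C le_rfl with hφ
  have h1 : φ ⁅(⟨g, hg⟩ : N), (⟨h, hh⟩ : N)⁆ = 1 := by
    rw [map_commutatorElement, commutatorElement_eq_one_iff_mul_comm]
    exact mulAut_comm_of_isCyclic _ _
  rw [Subgroup.mem_centralizer_iff]
  intro c hc
  have h2 := congrArg (fun α : MulAut ↥C => ((α ⟨c, hc⟩ : ↥C) : X)) h1
  simp only [MulAut.one_apply] at h2
  rw [hφ, conjAut_apply] at h2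
  have h3 : ((⁅(⟨g, hg⟩ : N), (⟨h, hh⟩ : N)⁆ : N) : X) = ⁅g, h⁆ := rfl
  rw [h3] at h2
  change ⁅g, h⁆ * c * ⁅g, h⁆⁻¹ = c at h2
  calc c * ⁅g, h⁆ = (⁅g, h⁆ * c * ⁅g, h⁆⁻¹) * ⁅g, h⁆ := by rw [h2]
    _ = ⁅g, h⁆ * c := by group

/-- commutators of elements normalizing a section of prime order act trivially on it -/
theorem commutator_section_trivial {q : ℕ} (hq : q.Prime) (M N : Subgroup X) (hNM : N ≤ M)
    (hMN : M ≤ Subgroup.normalizer (N : Set X)) (hrel : N.relIndex M = q) {g h : X}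
    (hgM : g ∈ Subgroup.normalizer (M : Set X)) (hgN : g ∈ Subgroup.normalizer (N : Set X))
    (hhM : h ∈ Subgroup.normalizer (M : Set X)) (hhN : h ∈ Subgroup.normalizer (N : Set X)) :
    ∀ m ∈ M, ⁅g, h⁆ * m * ⁅g, h⁆⁻¹ * m⁻¹ ∈ N := by
  haveI hn : (N.subgroupOf M).Normal := (Subgroup.normal_subgroupOf_iff_le_normalizer hNM).2 hMN
  set G := Subgroup.normalizer (M : Set X) ⊓ Subgroup.normalizer (N : Set X) with hG
  have hcard : Nat.card (↥M ⧸ N.subgroupOf M) = q := by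
    rw [← Subgroup.index_eq_card]; exact hrel
  haveI : Fact q.Prime := ⟨hq⟩
  haveI : IsCyclic (↥M ⧸ N.subgroupOf M) := isCyclic_of_prime_card hcard
  set φ := secAct G M N inf_le_left inf_le_right with hφ
  have hg' : g ∈ G := ⟨hgM, hgN⟩
  have hh' : h ∈ G := ⟨hhM, hhN⟩
  have h1 : φ ⁅(⟨g, hg'⟩ : G), (⟨h, hh'⟩ : G)⁆ = 1 := by
    rw [map_commutatorElement, commutatorElement_eq_one_iff_mul_comm]
    exact mulAut_comm_of_isCyclic _ _
  intro m hm
  have h2 := congrArg (fun α : MulAut (↥M ⧸ N.subgroupOf M) => α (QuotientGroup.mk (⟨m, hm⟩ : M))) h1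
  simp only [MulAut.one_apply] at h2
  rw [hφ, secAct_mk] at h2
  have h4 := QuotientGroup.eq.1 h2.symm
  rw [Subgroup.mem_subgroupOf] at h4
  have h5 : m⁻¹ * (⁅g, h⁆ * m * ⁅g, h⁆⁻¹) ∈ N := h4
  have h6 := ((Subgroup.mem_normalizer_iff.1 (hMN hm)) _).1 h5
  have h7 : m * (m⁻¹ * (⁅g, h⁆ * m * ⁅g, h⁆⁻¹)) * m⁻¹ = ⁅g, h⁆ * m * ⁅g, h⁆⁻¹ * m⁻¹ := by group
  rwa [h7] at h6

end cyc




section misc
variable {X : Type*} [Group X]

theorem isMulCommutative_of_comm (V : Subgroup X) (h : ∀ a ∈ V, ∀ b ∈ V, a * b = b * a) :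
    IsMulCommutative ↥V :=
  ⟨⟨fun a b => Subtype.ext (h a a.2 b b.2)⟩⟩

theorem mem_zpowers_pow_of_prime {x : X} {r i : ℕ} (hr : r.Prime) (hx : orderOf x = r)
    (hi : ¬ r ∣ i) : x ∈ Subgroup.zpowers (x ^ i) := by
  have hcop : i.Coprime (orderOf x) := by
    rw [hx]; exact ((Nat.Prime.coprime_iff_not_dvd hr).mpr hi).symm
  obtain ⟨m, hm⟩ := exists_pow_eq_self_of_coprime (x := x) hcop
  have h1 : (x ^ i) ^ m ∈ Subgroup.zpowers (x ^ i) :=
    Subgroup.pow_mem _ (Subgroup.mem_zpowers (x ^ i)) m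
  rwa [hm] at h1

theorem mem_of_pow_mem_of_prime {x : X} {r i : ℕ} (hr : r.Prime) (hx : orderOf x = r)
    (hi : ¬ r ∣ i) (T : Subgroup X) (h : x ^ i ∈ T) : x ∈ T :=
  (Subgroup.zpowers_le.mpr h) (mem_zpowers_pow_of_prime hr hx hi)

/-- two distinct subgroups of prime relative index generate -/
theorem sup_eq_of_relIndex_prime [Finite X] {q : ℕ} (hq : q.Prime) {Y Y' A : Subgroup X} (hY : Y ≤ A)
    (hY' : Y' ≤ A) (h : Y.relIndex A = q) (h' : Y'.relIndex A = q) (hne : Y ≠ Y') : Y ⊔ Y' = A := by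
  apply le_antisymm (sup_le hY hY')
  apply Cfsg.Agent.Lib.Helper63_Extraspecial.le_of_relIndex_prime (H := Y) le_sup_left (sup_le hY hY')
    (h ▸ hq)
  intro hle
  have h1 : Y' ≤ Y := le_sup_right.trans hle
  apply hne
  have hc : Nat.card Y = Nat.card Y' := by
    have e1 := Cfsg.Agent.Lib.Helper63_PGroup.card_mul_relIndex hY
    have e2 := Cfsg.Agent.Lib.Helper63_PGroup.card_mul_relIndex hY'
    rw [h] at e1; rw [h'] at e2
    have : Nat.card Y * q = Nat.card Y' * q := by rw [e1, e2]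
    exact Nat.eq_of_mul_eq_mul_right hq.pos this
  exact (Subgroup.eq_of_le_of_card_ge h1 hc.le).symm

end misc

end Cfsg.Agent.Lib.Helper52_ZBase
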