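import Mathlib
import Cfsg.Agent.Lib.Helper52_ZBase
import Cfsg.Agent.S0026

/-!
# A fixed-point-free irreducible automorphism of prime order on a `p`-group (helper52, for BG 3.7)

`SHyp p r S x`: `S` is a nontrivial `p`-group normalized by `x` of prime order `r ≠ p`, `C_S(x) = 1`
and `S` has no proper nontrivial `x`-invariant subgroup.

* `SHyp.comm`: `S` is abelian; `SHyp.card_gt`: `r + 1 < |S|` in a group of odd order;
  `SHyp.commutator_zpowers`: `[S, ⟨x⟩] = S`.
* `SHyp.exists_fixed`: a nonempty family of subgroups, stable under `S`, in which any two members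
  moved by `x` are `⟨x⟩`-conjugate, has an `S`-invariant member.
-/

set_option autoImplicit false
set_option linter.style.haveILetI false
open Cfsg

namespace Cfsg.Agent.Lib.Helper52_ZS

open scoped commutatorElement
open Cfsg.Agent.Lib.Helper52_ZBase Cfsg.Agent.Lib.Helper52_FrobAct

variable {X : Type*} [Group X] [Finite X]


omit [Finite X] in
theorem mem_normalizer_cj {g a : X} {Y : Subgroup X} :
    a ∈ Subgroup.normalizer ((cj g Y : Subgroup X) : Set X) ↔
      g⁻¹ * a * g ∈ Subgroup.normalizer (Y : Set X) := by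
  rw [← cj_eq_self_iff, ← cj_eq_self_iff]
  constructor
  · intro h1
    have h2 := congrArg (cj g⁻¹) h1
    rw [cj_inv_cj, ← cj_mul, ← cj_mul] at h2
    exact h2
  · intro h1
    have h2 := congrArg (cj g) h1
    rw [← cj_mul] at h2
    have : g * (g⁻¹ * a * g) = a * g := by group
    rw [this, cj_mul] at h2
    exact h2

/-- a `p`-group `S` with an automorphism `x` of prime order `r`, fixed-point-free and irreducible -/
structure SHyp (p r : ℕ) (S : Subgroup X) (x : X) : Prop where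
  hp : p.Prime
  hr : r.Prime
  hpr : p ≠ r
  hx : orderOf x = r
  hSp : IsPGroup p S
  hS1 : S ≠ ⊥
  hxS : x ∈ Subgroup.normalizer (S : Set X)
  hSmin : ∀ T : Subgroup X, T ≤ S → x ∈ Subgroup.normalizer (T : Set X) → T = ⊥ ∨ T = S
  hSfpf : ∀ s ∈ S, x * s = s * x → s = 1

namespace SHyp

variable {p r : ℕ} {S : Subgroup X} {x : X} (h : SHyp p r S x)
include h

theorem comm : ∀ a ∈ S, ∀ b ∈ S, a * b = b * a := by
  haveI : Fact p.Prime := ⟨h.hp⟩
  have hnil : Group.IsNilpotent ↥S := h.hSp.isNilpotent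
  haveI : Nontrivial ↥S := (Subgroup.nontrivial_iff_ne_bot S).mpr h.hS1
  have hlt : commutator ↥S < ⊤ := Group.IsSolvable.commutator_lt_top_of_nontrivial ↥S
  have hD : ⁅S, S⁆ ≤ S := Subgroup.commutator_le_self S
  have hxD : x ∈ Subgroup.normalizer ((⁅S, S⁆ : Subgroup X) : Set X) :=
    Cfsg.Agent.Lib.Helper24_CoprimeAction.mem_normalizer_commutator S S h.hxS h.hxS
  rcases h.hSmin _ hD hxD with h0 | h0
  · intro a ha b hb
    have : ⁅a, b⁆ ∈ ⁅S, S⁆ := Subgroup.commutator_mem_commutator ha hb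
    rw [h0, Subgroup.mem_bot, commutatorElement_eq_one_iff_mul_comm] at this
    exact this
  · exfalso
    have h1 : (commutator ↥S).map S.subtype = (⊤ : Subgroup ↥S).map S.subtype := by
      rw [Subgroup.map_subtype_commutator, h0, ← MonoidHom.range_eq_map, Subgroup.range_subtype]
    have h2 := Subgroup.map_injective S.subtype_injective h1
    exact hlt.ne h2

theorem zpowers_le : Subgroup.zpowers x ≤ Subgroup.normalizer (S : Set X) :=
  Subgroup.zpowers_le.mpr h.hxS

theorem card_modEq : Nat.card S ≡ 1 [MOD r] := by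
  haveI : Fact r.Prime := ⟨h.hr⟩
  set E := Subgroup.zpowers x with hE
  let φ : ↥E →* MulAut ↥S := conjAut E S h.zpowers_le
  letI : MulAction ↥E ↥S := MulAction.compHom ↥S φ
  have hEr : IsPGroup r ↥E := by
    apply IsPGroup.of_card (n := 1)
    rw [pow_one, hE, Nat.card_zpowers, h.hx]
  have h1 := hEr.card_modEq_card_fixedPoints ↥S
  have h2 : MulAction.fixedPoints ↥E ↥S = {1} := by
    ext s
    rw [MulAction.mem_fixedPoints, Set.mem_singleton_iff]
    constructor
    · intro hs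
      have h3 := hs ⟨x, Subgroup.mem_zpowers x⟩
      have h4 : ((φ ⟨x, Subgroup.mem_zpowers x⟩ s : ↥S) : X) = x * s * x⁻¹ := rfl
      have h5 : x * s * x⁻¹ = s := by
        rw [← h4]; exact congrArg Subtype.val h3
      have h6 : x * (s : X) = s * x := by
        calc x * (s : X) = (x * s * x⁻¹) * x := by group
          _ = s * x := by rw [h5]
      exact Subtype.ext (h.hSfpf s s.2 h6)
    · rintro rfl e
      show φ e 1 = 1
      exact map_one _
  rw [h2] at h1
  simpa using h1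

theorem card_gt (hodd : Odd (Nat.card X)) : r + 1 < Nat.card S := by
  have h1 := h.card_modEq
  have hSodd : Odd (Nat.card S) := Odd.of_dvd_nat hodd (Subgroup.card_subgroup_dvd_card S)
  have hrodd : Odd r := by
    have : r ∣ Nat.card X := by
      rw [← h.hx]; exact orderOf_dvd_natCard x
    exact Odd.of_dvd_nat hodd this
  have hS2 : 1 < Nat.card S := by
    rw [Subgroup.one_lt_card_iff_ne_bot]; exact h.hS1
  have h2 : r ∣ Nat.card S - 1 := (Nat.modEq_iff_dvd' hS2.le).mp h1.symm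
  obtain ⟨k, hk⟩ := h2
  obtain ⟨a, ha⟩ := hSodd
  obtain ⟨b, hb⟩ := hrodd
  have hk0 : k ≠ 0 := by
    rintro rfl
    omega
  have hk1 : k ≠ 1 := by
    rintro rfl
    omega
  have hk2 : 2 ≤ k := by omega
  have h3 : r * 2 ≤ r * k := Nat.mul_le_mul_left r hk2
  have h4 : Nat.card S = r * k + 1 := by omega
  have h5 : 2 ≤ r := h.hr.two_le
  omega

theorem commutator_zpowers : ⁅S, Subgroup.zpowers x⁆ = S := by
  haveI : Fact p.Prime := ⟨h.hp⟩
  set E := Subgroup.zpowers x with hE
  have hcardE : Nat.card E = r := by rw [hE, Nat.card_zpowers, h.hx]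
  obtain ⟨n, hn⟩ := IsPGroup.iff_card.mp h.hSp
  have hcop : (Nat.card E).Coprime (Nat.card S) := by
    rw [hcardE, hn]
    exact Nat.Coprime.pow_right _ ((Nat.coprime_primes h.hr h.hp).mpr h.hpr.symm)
  have h1 := Cfsg.Agent.S0026.result E S h.zpowers_le hcop (Or.inl inferInstance)
  have h2 : S ⊓ Subgroup.centralizer (E : Set X) = ⊥ := by
    rw [eq_bot_iff]
    intro s hs
    rw [Subgroup.mem_bot]
    exact h.hSfpf s hs.1 (Subgroup.mem_centralizer_iff.mp hs.2 x (Subgroup.mem_zpowers x))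
  rw [h2, sup_bot_eq] at h1
  exact h1

theorem stab_cj_of_mem (Y : Subgroup X) {s : X} (hs : s ∈ S) :
    S ⊓ Subgroup.normalizer ((cj s Y : Subgroup X) : Set X) = S ⊓ Subgroup.normalizer (Y : Set X) := by
  ext a
  simp only [Subgroup.mem_inf]
  constructor
  · rintro ⟨ha, hn⟩
    refine ⟨ha, ?_⟩
    have h1 : s⁻¹ * a * s = a := by
      have := h.comm a ha s hs
      calc s⁻¹ * a * s = s⁻¹ * (a * s) := by group
        _ = s⁻¹ * (s * a) := by rw [this]
        _ = a := by group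
    rw [← h1]
    exact (mem_normalizer_cj).mp hn
  · rintro ⟨ha, hn⟩
    refine ⟨ha, ?_⟩
    have h1 : s⁻¹ * a * s = a := by
      have := h.comm a ha s hs
      calc s⁻¹ * a * s = s⁻¹ * (a * s) := by group
        _ = s⁻¹ * (s * a) := by rw [this]
        _ = a := by group
    rw [mem_normalizer_cj, h1]
    exact hn

omit [Finite X] in
theorem stab_inv {Y : Subgroup X} (hxY : x ∈ Subgroup.normalizer (Y : Set X)) :
    x ∈ Subgroup.normalizer ((S ⊓ Subgroup.normalizer (Y : Set X) : Subgroup X) : Set X) := by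
  rw [Subgroup.mem_normalizer_iff]
  intro a
  simp only [Subgroup.mem_inf]
  constructor
  · rintro ⟨ha, hn⟩
    exact ⟨((Subgroup.mem_normalizer_iff.1 h.hxS) a).1 ha,
      Subgroup.mul_mem _ (Subgroup.mul_mem _ hxY hn) (Subgroup.inv_mem _ hxY)⟩
  · rintro ⟨ha, hn⟩
    refine ⟨((Subgroup.mem_normalizer_iff.1 h.hxS) a).2 ha, ?_⟩
    have : a = x⁻¹ * (x * a * x⁻¹) * x := by group
    rw [this]
    exact Subgroup.mul_mem _ (Subgroup.mul_mem _ (Subgroup.inv_mem _ hxY) hn) hxY

theorem stab_of_conj (Y : Subgroup X) {s : X} (hs : s ∈ S) (i : ℕ) (hi : ¬ r ∣ i)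
    (he : cj s Y = cj (x ^ i) Y) :
    x ∈ Subgroup.normalizer ((S ⊓ Subgroup.normalizer (Y : Set X) : Subgroup X) : Set X) := by
  set g := x ^ i with hg
  have hgS : g ∈ Subgroup.normalizer (S : Set X) := Subgroup.pow_mem _ h.hxS i
  have h1 : S ⊓ Subgroup.normalizer (Y : Set X) =
      S ⊓ Subgroup.normalizer ((cj g Y : Subgroup X) : Set X) := by
    rw [← he, h.stab_cj_of_mem Y hs]
  have h2 : cj g (S ⊓ Subgroup.normalizer (Y : Set X)) = S ⊓ Subgroup.normalizer (Y : Set X) := by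
    conv_rhs => rw [h1]
    ext a
    rw [mem_cj, Subgroup.mem_inf, Subgroup.mem_inf, mem_normalizer_cj]
    constructor
    · rintro ⟨ha, hn⟩
      refine ⟨?_, hn⟩
      have := ((Subgroup.mem_normalizer_iff.1 hgS) (g⁻¹ * a * g)).1 ha
      have e : g * (g⁻¹ * a * g) * g⁻¹ = a := by group
      rwa [e] at this
    · rintro ⟨ha, hn⟩
      refine ⟨?_, hn⟩
      apply ((Subgroup.mem_normalizer_iff.1 hgS) (g⁻¹ * a * g)).2
      have e : g * (g⁻¹ * a * g) * g⁻¹ = a := by group
      rwa [e]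
  exact mem_of_pow_mem_of_prime h.hr h.hx hi _ (cj_eq_self_iff.mp h2)

theorem fix_unique (Y : Subgroup X) (hstab : S ⊓ Subgroup.normalizer (Y : Set X) = ⊥) {s s' : X}
    (hs : s ∈ S) (hs' : s' ∈ S) (hx1 : x ∈ Subgroup.normalizer ((cj s Y : Subgroup X) : Set X))
    (hx2 : x ∈ Subgroup.normalizer ((cj s' Y : Subgroup X) : Set X)) : s = s' := by
  set Z := cj s Y with hZ
  set t := s' * s⁻¹ with ht
  have htS : t ∈ S := S.mul_mem hs' (S.inv_mem hs)
  have h1 : cj t Z = cj s' Y := by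
    rw [hZ, ← cj_mul, ht]
    congr 1
    group
  rw [← h1, mem_normalizer_cj] at hx2
  have h2 : t⁻¹ * x * t * x⁻¹ ∈ Subgroup.normalizer (Z : Set X) :=
    Subgroup.mul_mem _ hx2 (Subgroup.inv_mem _ hx1)
  have h3 : t⁻¹ * x * t * x⁻¹ ∈ S := by
    have : t⁻¹ * x * t * x⁻¹ = t⁻¹ * (x * t * x⁻¹) := by group
    rw [this]
    exact S.mul_mem (S.inv_mem htS) (((Subgroup.mem_normalizer_iff.1 h.hxS) t).1 htS)
  have h4 : t⁻¹ * x * t * x⁻¹ ∈ S ⊓ Subgroup.normalizer (Z : Set X) := ⟨h3, h2⟩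
  rw [hZ, h.stab_cj_of_mem Y hs, hstab, Subgroup.mem_bot] at h4
  have h5 : x * t = t * x := by
    have : x * t = t * (t⁻¹ * x * t * x⁻¹) * x := by group
    rw [this, h4, mul_one]
  have h6 : t = 1 := h.hSfpf t htS h5
  have : s' = t * s := by rw [ht]; group
  rw [this, h6, one_mul]

theorem orbit_bound (hodd : Odd (Nat.card X)) (P : Subgroup X → Prop)
    (hPS : ∀ Y, P Y → ∀ s ∈ S, P (cj s Y))
    (hPorb : ∀ Y Y', P Y → P Y' → x ∉ Subgroup.normalizer (Y : Set X) →
      x ∉ Subgroup.normalizer (Y' : Set X) → ∃ i : ℕ, Y' = cj (x ^ i) Y)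
    (Y : Subgroup X) (hY : P Y) (hstab : S ⊓ Subgroup.normalizer (Y : Set X) = ⊥) : False := by
  classical
  have hinj : ∀ s ∈ S, ∀ s' ∈ S, cj s Y = cj s' Y → s = s' := by
    intro s hs s' hs' he
    have h1 := congrArg (cj s'⁻¹) he
    rw [cj_inv_cj, ← cj_mul] at h1
    have h2 : s'⁻¹ * s ∈ S ⊓ Subgroup.normalizer (Y : Set X) :=
      ⟨S.mul_mem (S.inv_mem hs') hs, cj_eq_self_iff.mp h1⟩
    rw [hstab, Subgroup.mem_bot] at h2
    exact (inv_mul_eq_one.mp h2).symm
  by_cases hall : ∀ s ∈ S, x ∈ Subgroup.normalizer ((cj s Y : Subgroup X) : Set X)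
  · obtain ⟨s, hs, hs1⟩ := (Subgroup.bot_or_exists_ne_one S).resolve_left h.hS1
    exact hs1 (h.fix_unique Y hstab hs S.one_mem (hall s hs) (hall 1 S.one_mem))
  · push Not at hall
    obtain ⟨s₁, hs₁, hx₁⟩ := hall
    set Y₁ := cj s₁ Y with hY₁
    have hPY₁ : P Y₁ := hPS Y hY s₁ hs₁
    let Z₀ : Subgroup X :=
      if hex : ∃ s₀ ∈ S, x ∈ Subgroup.normalizer ((cj s₀ Y : Subgroup X) : Set X) then
        cj hex.choose Y else ⊥
    have key : ∀ s ∈ S, cj s Y = Z₀ ∨ ∃ i, i < r ∧ cj s Y = cj (x ^ i) Y₁ := by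
      intro s hs
      by_cases hxs : x ∈ Subgroup.normalizer ((cj s Y : Subgroup X) : Set X)
      · left
        have hex : ∃ s₀ ∈ S, x ∈ Subgroup.normalizer ((cj s₀ Y : Subgroup X) : Set X) :=
          ⟨s, hs, hxs⟩
        have hZ₀ : Z₀ = cj hex.choose Y := dif_pos hex
        rw [hZ₀, h.fix_unique Y hstab hs hex.choose_spec.1 hxs hex.choose_spec.2]
      · right
        obtain ⟨i, hi⟩ := hPorb Y₁ (cj s Y) hPY₁ (hPS Y hY s hs) hx₁ hxs
        refine ⟨i % r, Nat.mod_lt _ h.hr.pos, ?_⟩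
        rw [hi]
        congr 1
        rw [← h.hx, pow_mod_orderOf]
    let F : Finset (Subgroup X) := insert Z₀ ((Finset.range r).image (fun i => cj (x ^ i) Y₁))
    have hF : F.card ≤ r + 1 := by
      refine (Finset.card_insert_le _ _).trans ?_
      have := Finset.card_image_le (s := Finset.range r) (f := fun i => cj (x ^ i) Y₁)
      rw [Finset.card_range] at this
      omega
    haveI : Fintype ↥S := Fintype.ofFinite _
    have hle : (Finset.univ : Finset ↥S).card ≤ F.card := by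
      apply Finset.card_le_card_of_injOn (fun s : ↥S => cj (s : X) Y)
      · intro s _
        rcases key s s.2 with h1 | ⟨i, hi, h1⟩
        · exact Finset.mem_insert.mpr (Or.inl h1)
        · refine Finset.mem_insert.mpr (Or.inr (Finset.mem_image.mpr ⟨i, Finset.mem_range.mpr hi, h1.symm⟩))
      · intro s _ s' _ he
        exact Subtype.ext (hinj s s.2 s' s'.2 he)
    rw [Finset.card_univ, ← Nat.card_eq_fintype_card] at hle
    have := h.card_gt hodd
    omega

/-- the abstract weight analysis: a nonempty `S⟨x⟩`-stable family of subgroups of which any two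
members moved by `x` are `⟨x⟩`-conjugate contains an `S`-invariant member -/
theorem exists_fixed (hodd : Odd (Nat.card X)) (P : Subgroup X → Prop)
    (hPS : ∀ Y, P Y → ∀ s ∈ S, P (cj s Y))
    (hPorb : ∀ Y Y', P Y → P Y' → x ∉ Subgroup.normalizer (Y : Set X) →
      x ∉ Subgroup.normalizer (Y' : Set X) → ∃ i : ℕ, Y' = cj (x ^ i) Y)
    (Y : Subgroup X) (hY : P Y) : ∃ Y', P Y' ∧ S ≤ Subgroup.normalizer (Y' : Set X) := by
  by_contra hno
  push Not at hno
  -- weights fixed by `x` are impossible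
  have hfix : ∀ Y', P Y' → x ∉ Subgroup.normalizer (Y' : Set X) := by
    intro Y' hY' hxY'
    rcases h.hSmin _ inf_le_left (h.stab_inv hxY') with h0 | h0
    · exact h.orbit_bound hodd P hPS hPorb Y' hY' h0
    · exact hno Y' hY' (inf_eq_left.mp h0)
  have hxY := hfix Y hY
  have hSY := hno Y hY
  obtain ⟨s, hs, hsY⟩ := SetLike.not_le_iff_exists.mp hSY
  have hY₁ := hPS Y hY s hs
  obtain ⟨i, hi⟩ := hPorb Y (cj s Y) hY hY₁ hxY (hfix _ hY₁)
  have hri : ¬ r ∣ i := by
    intro hd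
    have : x ^ i = 1 := by
      rw [← h.hx] at hd
      exact orderOf_dvd_iff_pow_eq_one.mp hd
    rw [this, cj_one] at hi
    exact hsY (cj_eq_self_iff.mp hi)
  rcases h.hSmin _ inf_le_left (h.stab_of_conj Y hs i hri hi) with h0 | h0
  · exact h.orbit_bound hodd P hPS hPorb Y hY h0
  · exact hSY (inf_eq_left.mp h0)

end SHyp

end Cfsg.Agent.Lib.Helper52_ZS
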