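import Mathlib
import Cfsg.Agent.Lib.Helper63_Extraspecial

/-!
# Class-two groups with derived subgroup of prime order (helper52)

`index_center_of_class_two`: a finite `p`-group `Q` with `Q' ≤ Z(Q)` and `|Q'| = p` has
`|Q : Z(Q)| = p ^ (2 m)` (the commutator pairing is a nondegenerate alternating form on `Q / Z(Q)`).
Adapted from `Helper63_Extraspecial.card_of_class_two`.
-/

set_option autoImplicit false
open Cfsg

namespace Cfsg.Agent.Lib.Helper52_ZSymp

open Cfsg.Agent.Lib.Helper63_PGroup Cfsg.Agent.Lib.Helper63_PGroup2 Cfsg.Agent.Lib.Helper63_Extraspecial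
open scoped commutatorElement

universe u

/-- in a class-2 group with derived subgroup of prime order `p`, noncentral elements have
centralizers of index `p` -/
theorem index_centralizer_eq' {Q : Type*} [Group Q] [Finite Q] {p : ℕ} (hp : p.Prime)
    (hcl : commutator Q ≤ Subgroup.center Q) (hD : Nat.card (commutator Q) = p)
    (x : Q) (hx : x ∉ Subgroup.center Q) : (Subgroup.centralizer ({x} : Set Q)).index = p := by
  have hb : ∀ g : Q, ⁅x, g⁆ ∈ Subgroup.center Q := by
    intro g
    apply hcl
    rw [commutator_def]
    exact Subgroup.commutator_mem_commutator (Subgroup.mem_top _) (Subgroup.mem_top _)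
  have h0 : (Subgroup.centralizer ({x} : Set Q)).index = Nat.card (commutatorHom x hb).range := by
    rw [← commutatorHom_ker x hb, Subgroup.index_ker]
  have hle : (commutatorHom x hb).range.map (Subgroup.center Q).subtype ≤ commutator Q := by
    rintro _ ⟨_, ⟨g, rfl⟩, rfl⟩
    show ⁅x, g⁆ ∈ commutator Q
    rw [commutator_def]
    exact Subgroup.commutator_mem_commutator (Subgroup.mem_top _) (Subgroup.mem_top _)
  have h1 : Nat.card (commutatorHom x hb).range ∣ p := by
    rw [← hD, ← Subgroup.card_map_of_injective (Subgroup.center Q).subtype_injective]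
    exact Subgroup.card_dvd_of_le hle
  rw [← h0] at h1
  rcases (Nat.dvd_prime hp).1 h1 with h | h
  · exfalso
    apply hx
    rw [Subgroup.index_eq_one] at h
    rw [Subgroup.mem_center_iff]
    intro g
    have : g ∈ Subgroup.centralizer ({x} : Set Q) := by rw [h]; trivial
    rw [mem_centralizer_singleton] at this
    exact this.symm
  · exact h

theorem index_center_of_class_two_aux {p : ℕ} [hp : Fact p.Prime] : ∀ (n : ℕ) (Q : Type u) [Group Q]
    [Finite Q], Nat.card Q = n → IsPGroup p Q → commutator Q ≤ Subgroup.center Q →
    Nat.card (commutator Q) = p → ∃ m : ℕ, (Subgroup.center Q).index = p ^ (2 * m) := by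
  intro n
  induction n using Nat.strong_induction_on with
  | _ n ih =>
    intro Q _ _ hn hQ hcl hD
    have hpp : p.Prime := hp.out
    by_cases htop : Subgroup.center Q = ⊤
    · exfalso
      have : commutator Q = ⊥ := (commutator_eq_bot_iff_center_eq_top Q).mpr htop
      rw [this, Subgroup.card_bot] at hD
      exact hpp.one_lt.ne hD
    · obtain ⟨x, hx⟩ : ∃ x : Q, x ∉ Subgroup.center Q := by
        by_contra hall
        push Not at hall
        exact htop (eq_top_iff.2 fun x _ => hall x)
      set Cx := Subgroup.centralizer ({x} : Set Q) with hCx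
      have hCxi : Cx.index = p := index_centralizer_eq' hpp hcl hD x hx
      have hCxcoatom : IsCoatom Cx := isCoatom_of_index_prime Cx (hCxi ▸ hpp)
      obtain ⟨y, hy⟩ : ∃ y : Q, y ∉ Cx := by
        by_contra hall
        push Not at hall
        exact hCxcoatom.1 (eq_top_iff.2 fun x _ => hall x)
      have hxy : x * y ≠ y * x := by
        intro h
        apply hy
        rw [hCx, mem_centralizer_singleton]; exact h
      have hyZ : y ∉ Subgroup.center Q := by
        intro h
        exact hxy ((Subgroup.mem_center_iff.1 h x))
      set Cy := Subgroup.centralizer ({y} : Set Q) with hCy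
      have hCyi : Cy.index = p := index_centralizer_eq' hpp hcl hD y hyZ
      have hCyn : Cy.Normal := normal_of_index_eq_prime hQ Cy hCyi
      have hxCy : x ∉ Cy := by
        rw [hCy, mem_centralizer_singleton]
        exact fun h => hxy h.symm
      have hxCx : x ∈ Cx := by rw [hCx, mem_centralizer_singleton]
      have hyCy : y ∈ Cy := by rw [hCy, mem_centralizer_singleton]
      set Q₁ := Cx ⊓ Cy with hQ₁
      have hsup : Cx ⊔ Cy = ⊤ := by
        apply hCxcoatom.2
        apply lt_of_le_of_ne le_sup_left
        intro heq
        apply hy
        rw [heq]; exact Subgroup.mem_sup_right hyCy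
      have hrel : Q₁.relIndex Cx = p := by
        rw [hQ₁, inf_comm, Subgroup.inf_relIndex_right]
        have := Subgroup.relIndex_sup_right Cx Cy
        rw [hsup, Subgroup.relIndex_top_right, hCyi] at this
        exact this.symm
      have hcardQ₁ : Nat.card Q₁ * (p * p) = Nat.card Q := by
        have h1 := card_mul_relIndex (inf_le_left : Q₁ ≤ Cx)
        rw [hrel] at h1
        have h2 := Subgroup.card_mul_index Cx
        rw [hCxi, ← h1] at h2
        rw [← h2]; ring
      have hZle : Subgroup.center Q ≤ Q₁ := by
        intro z hz
        refine Subgroup.mem_inf.2 ⟨?_, ?_⟩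
        · rw [hCx, mem_centralizer_singleton]; exact (Subgroup.mem_center_iff.1 hz x)
        · rw [hCy, mem_centralizer_singleton]; exact (Subgroup.mem_center_iff.1 hz y)
      have hcenter : (Subgroup.center Q₁).map Q₁.subtype = Subgroup.center Q := by
        apply le_antisymm
        · rintro _ ⟨z, hz, rfl⟩
          set E := Subgroup.centralizer ({(z : Q)} : Set Q) with hE
          have hQ₁E : Q₁ ≤ E := by
            intro a ha
            rw [hE, mem_centralizer_singleton]
            have := Subgroup.mem_center_iff.1 hz ⟨a, ha⟩
            exact (congrArg Subtype.val this).symm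
          have hxE : x ∈ E := by
            rw [hE, mem_centralizer_singleton]
            have := (Subgroup.mem_inf.1 z.2).1
            rw [hCx, mem_centralizer_singleton] at this
            exact this.symm
          have hyE : y ∈ E := by
            rw [hE, mem_centralizer_singleton]
            have := (Subgroup.mem_inf.1 z.2).2
            rw [hCy, mem_centralizer_singleton] at this
            exact this.symm
          have hCxE : Cx ≤ E ⊓ Cx := by
            apply le_of_relIndex_prime (H := Q₁) (le_inf hQ₁E inf_le_left) inf_le_right
              (hrel ▸ hpp)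
            intro hle
            have : x ∈ Q₁ := hle ⟨hxE, hxCx⟩
            exact hxCy this.2
          have hEtop : E = ⊤ := by
            apply hCxcoatom.2
            apply lt_of_le_of_ne (hCxE.trans inf_le_left)
            intro heq
            apply hy
            rw [heq]; exact hyE
          show (z : Q) ∈ Subgroup.center Q
          rw [Subgroup.mem_center_iff]
          intro g
          have : g ∈ E := by rw [hEtop]; trivial
          rw [hE, mem_centralizer_singleton] at this
          exact this.symm
        · intro z hz
          refine ⟨⟨z, hZle hz⟩, ?_, rfl⟩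
          show (⟨z, hZle hz⟩ : Q₁) ∈ Subgroup.center Q₁
          rw [Subgroup.mem_center_iff]
          intro g
          apply Subtype.ext
          exact Subgroup.mem_center_iff.1 hz g
      have hZcard : Nat.card (Subgroup.center Q₁) = Nat.card (Subgroup.center Q) := by
        rw [← hcenter, Subgroup.card_subtype]
      have hcomm₁ : (commutator Q₁).map Q₁.subtype ≤ commutator Q := by
        rw [commutator_def, commutator_def, Subgroup.map_commutator]
        exact Subgroup.commutator_mono le_top le_top
      have hcl₁ : commutator Q₁ ≤ Subgroup.center Q₁ := by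
        intro c hc
        have h1 : (c : Q) ∈ (commutator Q₁).map Q₁.subtype := ⟨c, hc, rfl⟩
        have h3 : (c : Q) ∈ Subgroup.center Q := hcl (hcomm₁ h1)
        rw [Subgroup.mem_center_iff]
        intro g
        apply Subtype.ext
        exact Subgroup.mem_center_iff.1 h3 g
      have hlt : Nat.card Q₁ < n := by
        rw [← hn, ← hcardQ₁]
        have hpos : 0 < Nat.card Q₁ := Nat.card_pos
        have : 1 < p * p := by nlinarith [hpp.one_lt]
        nlinarith
      have hdvd : Nat.card (commutator Q₁) ∣ p := by
        rw [← hD, ← Subgroup.card_map_of_injective Q₁.subtype_injective]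
        exact Subgroup.card_dvd_of_le hcomm₁
      have hidx : Nat.card (Subgroup.center Q) * (Subgroup.center Q).index = Nat.card Q :=
        Subgroup.card_mul_index _
      have hidx₁ : Nat.card (Subgroup.center Q₁) * (Subgroup.center Q₁).index = Nat.card Q₁ :=
        Subgroup.card_mul_index _
      have hZpos : 0 < Nat.card (Subgroup.center Q) := Nat.card_pos
      rcases (Nat.dvd_prime hpp).1 hdvd with h1 | h1
      · -- `Q₁` abelian
        have hb : commutator Q₁ = ⊥ := Subgroup.card_eq_one.mp h1
        have ht : Subgroup.center Q₁ = ⊤ := (commutator_eq_bot_iff_center_eq_top _).mp hb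
        refine ⟨1, ?_⟩
        rw [ht, Subgroup.card_top] at hZcard
        rw [← hcardQ₁, hZcard] at hidx
        have := Nat.eq_of_mul_eq_mul_left hZpos hidx
        rw [this]; ring
      · obtain ⟨m, hm⟩ := ih (Nat.card Q₁) hlt Q₁ rfl (hQ.to_subgroup Q₁) hcl₁ h1
        refine ⟨m + 1, ?_⟩
        rw [hm, hZcard] at hidx₁
        rw [← hcardQ₁, ← hidx₁] at hidx
        have : Nat.card (Subgroup.center Q) * (Subgroup.center Q).index =
            Nat.card (Subgroup.center Q) * (p ^ (2 * m) * (p * p)) := by rw [hidx]; ring
        have := Nat.eq_of_mul_eq_mul_left hZpos this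
        rw [this]; ring

/-- A finite `p`-group of class at most two with derived subgroup of order `p` has centre of
index `p ^ (2 m)`. -/
theorem index_center_of_class_two {p : ℕ} [Fact p.Prime] {Q : Type u} [Group Q] [Finite Q]
    (hQ : IsPGroup p Q) (hcl : commutator Q ≤ Subgroup.center Q)
    (hD : Nat.card (commutator Q) = p) : ∃ m : ℕ, (Subgroup.center Q).index = p ^ (2 * m) :=
  index_center_of_class_two_aux _ Q rfl hQ hcl hD

end Cfsg.Agent.Lib.Helper52_ZSymp
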