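import Mathlib
import Cfsg.Agent.Lib.Helper52_ZBase
import Cfsg.Agent.Lib.Helper22_Hyperplane
import Cfsg.Agent.S0055
import Cfsg.Agent.Lib.Helper22_Hyperplane
import Cfsg.Agent.Lib.Helper52_FrobFormula

/-!
# Norm elements and hyperplane weights (helper52, for BG 3.7)

* `tl x v n = ∏_{1 ≤ i ≤ n} x^i v x^{-i}`, `conj_nrm`: `v * tl x v (r-1)` is fixed by `x` when `x^r = 1`.
* `ind_le`: for an abelian `A` acting coprimely on an abelian `V₁` with `C_{V₁}(A) = 1` and `Y Y' = A`: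
  `C_{V₁}(Y') ≤ [V₁, Y]`; `disj_comm`: `C_{V₁}(Y) ∩ [V₁, Y] = 1`.
* `IsWt A V₁ q Y`: `Y` is a subgroup of index `q` of `A` with `C_{V₁}(Y) ≠ 1`; `exists_wt`, `IsWt.conj`.
-/

set_option autoImplicit false
set_option linter.style.haveILetI false
open Cfsg

namespace Cfsg.Agent.Lib.Helper52_ZNorm

open scoped commutatorElement
open Cfsg.Agent.Lib.Helper52_ZBase Cfsg.Agent.Lib.Helper52_FrobAct

section tl
variable {X : Type*} [Group X]

/-- `tl x v n = ∏_{1 ≤ i ≤ n} x^i v x^{-i}` (in increasing order) -/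
def tl (x v : X) : ℕ → X
  | 0 => 1
  | n + 1 => tl x v n * (x ^ (n + 1) * v * (x ^ (n + 1))⁻¹)

theorem tl_zero (x v : X) : tl x v 0 = 1 := rfl

theorem tl_succ (x v : X) (n : ℕ) :
    tl x v (n + 1) = tl x v n * (x ^ (n + 1) * v * (x ^ (n + 1))⁻¹) := rfl

theorem tl_mem (x v : X) (T : Subgroup X) (n : ℕ)
    (h : ∀ i, 1 ≤ i → i ≤ n → x ^ i * v * (x ^ i)⁻¹ ∈ T) : tl x v n ∈ T := by
  induction n with
  | zero => rw [tl_zero]; exact T.one_mem
  | succ n ih =>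
    rw [tl_succ]
    exact T.mul_mem (ih fun i h1 h2 => h i h1 (by omega)) (h (n + 1) (by omega) le_rfl)

theorem conj_mul_tl (x v : X) (n : ℕ) : x * (v * tl x v n) * x⁻¹ = tl x v (n + 1) := by
  induction n with
  | zero => rw [tl_succ, tl_zero]; simp
  | succ n ih =>
    have h1 : x ^ (n + 1 + 1) = x * x ^ (n + 1) := pow_succ' x (n + 1)
    calc x * (v * tl x v (n + 1)) * x⁻¹
        = (x * (v * tl x v n) * x⁻¹) * (x * (x ^ (n + 1) * v * (x ^ (n + 1))⁻¹) * x⁻¹) := by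
          rw [tl_succ]; group
      _ = tl x v (n + 1) * (x ^ (n + 1 + 1) * v * (x ^ (n + 1 + 1))⁻¹) := by
          rw [ih, h1]; group
      _ = tl x v (n + 1 + 1) := (tl_succ x v (n + 1)).symm

theorem conj_nrm (x v : X) (r : ℕ) (hr : 1 ≤ r) (hx : x ^ r = 1)
    (hcomm : v * tl x v (r - 1) = tl x v (r - 1) * v) :
    x * (v * tl x v (r - 1)) * x⁻¹ = v * tl x v (r - 1) := by
  rw [conj_mul_tl, tl_succ]
  have : r - 1 + 1 = r := by omega
  rw [this, hx, hcomm]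
  simp

end tl

section ind
variable {X : Type*} [Group X]

theorem mem_centralizer_sup {Y Y' : Subgroup X} {a : X}
    (h : a ∈ Subgroup.centralizer (Y : Set X)) (h' : a ∈ Subgroup.centralizer (Y' : Set X)) :
    a ∈ Subgroup.centralizer ((Y ⊔ Y' : Subgroup X) : Set X) := by
  have h1 : Y ≤ Subgroup.centralizer ({a} : Set X) := by
    intro y hy
    rw [Subgroup.mem_centralizer_iff]
    intro b hb
    rw [Set.mem_singleton_iff] at hb
    subst hb
    exact (Subgroup.mem_centralizer_iff.mp h y hy).symm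
  have h2 : Y' ≤ Subgroup.centralizer ({a} : Set X) := by
    intro y hy
    rw [Subgroup.mem_centralizer_iff]
    intro b hb
    rw [Set.mem_singleton_iff] at hb
    subst hb
    exact (Subgroup.mem_centralizer_iff.mp h' y hy).symm
  rw [Subgroup.mem_centralizer_iff]
  intro b hb
  have := (sup_le h1 h2) hb
  exact (Subgroup.mem_centralizer_iff.mp this a rfl).symm

variable [Finite X]

/-- `C_{V₁}(Y') ≤ [V₁, Y]` when `Y Y' = A` and `C_{V₁}(A) = 1` -/
theorem ind_le (A V₁ Y Y' : Subgroup X)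
    (hAc : ∀ a ∈ A, ∀ b ∈ A, a * b = b * a)
    (hVc : ∀ a ∈ V₁, ∀ b ∈ V₁, a * b = b * a)
    (hAV : A ≤ Subgroup.normalizer (V₁ : Set X)) (hcop : (Nat.card A).Coprime (Nat.card V₁))
    (hfix : V₁ ⊓ Subgroup.centralizer (A : Set X) = ⊥) (hY : Y ≤ A) (hY' : Y' ≤ A)
    (hsup : Y ⊔ Y' = A) :
    V₁ ⊓ Subgroup.centralizer (Y' : Set X) ≤ ⁅V₁, Y⁆ := by
  set U := V₁ ⊓ Subgroup.centralizer (Y' : Set X) with hU
  haveI : IsMulCommutative ↥U :=
    isMulCommutative_of_comm U fun a ha b hb => hVc a ha.1 b hb.1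
  have hYU : Y ≤ Subgroup.normalizer (U : Set X) := by
    apply Cfsg.Agent.Lib.Helper52_FrobFormula.le_normalizer_of_forall
    intro y hy u hu
    refine Subgroup.mem_inf.mpr ⟨((Subgroup.mem_normalizer_iff.1 (hAV (hY hy))) u).1 hu.1, ?_⟩
    rw [Subgroup.mem_centralizer_iff]
    intro b hb
    have h1 : b * y = y * b := hAc b (hY' hb) y (hY hy)
    have h2 : b * u = u * b := Subgroup.mem_centralizer_iff.mp hu.2 b hb
    have c1 : Commute b y := h1
    have c2 : Commute b u := h2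
    exact ((c1.mul_right c2).mul_right c1.inv_right).eq
  have hcopYU : (Nat.card Y).Coprime (Nat.card U) :=
    Nat.Coprime.coprime_dvd_left (Subgroup.card_dvd_of_le hY)
      (Nat.Coprime.coprime_dvd_right (Subgroup.card_dvd_of_le inf_le_left) hcop)
  obtain ⟨-, h2⟩ := Cfsg.Agent.S0055.result Y U hYU hcopYU
  have h3 : U ⊓ Subgroup.centralizer (Y : Set X) = ⊥ := by
    rw [eq_bot_iff, ← hfix]
    intro a ha
    refine ⟨ha.1.1, ?_⟩
    rw [← hsup]
    exact mem_centralizer_sup ha.2 ha.1.2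
  rw [h3, bot_sup_eq] at h2
  rw [← h2]
  exact Subgroup.commutator_mono inf_le_left le_rfl

theorem disj_comm (V₁ Y : Subgroup X) (hVc : ∀ a ∈ V₁, ∀ b ∈ V₁, a * b = b * a)
    (hYV : Y ≤ Subgroup.normalizer (V₁ : Set X)) (hcop : (Nat.card Y).Coprime (Nat.card V₁)) :
    (V₁ ⊓ Subgroup.centralizer (Y : Set X)) ⊓ ⁅V₁, Y⁆ = ⊥ := by
  haveI : IsMulCommutative ↥V₁ := isMulCommutative_of_comm V₁ hVc
  exact (Cfsg.Agent.S0055.result Y V₁ hYV hcop).1

end ind

section wt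
variable {X : Type*} [Group X] [Finite X]

/-- `Y` is a hyperplane of `A` with nontrivial fixed points on `V₁` -/
def IsWt (A V₁ : Subgroup X) (q : ℕ) (Y : Subgroup X) : Prop :=
  Y ≤ A ∧ Y.relIndex A = q ∧ V₁ ⊓ Subgroup.centralizer (Y : Set X) ≠ ⊥

theorem IsWt.conj {A V₁ : Subgroup X} {q : ℕ} {Y : Subgroup X} (h : IsWt A V₁ q Y) {g : X}
    (hgA : g ∈ Subgroup.normalizer (A : Set X)) (hgV : g ∈ Subgroup.normalizer (V₁ : Set X)) :
    IsWt A V₁ q (cj g Y) := by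
  have hA : cj g A = A := cj_eq_self_iff.mpr hgA
  have hV : cj g V₁ = V₁ := cj_eq_self_iff.mpr hgV
  refine ⟨?_, ?_, ?_⟩
  · have := cj_mono g h.1
    rwa [hA] at this
  · have := relIndex_cj g h.1
    rw [hA] at this
    rw [this]; exact h.2.1
  · have h1 : V₁ ⊓ Subgroup.centralizer ((cj g Y : Subgroup X) : Set X) =
        cj g (V₁ ⊓ Subgroup.centralizer (Y : Set X)) := by
      rw [cj_inf, cj_centralizer, hV]
    rw [h1]
    intro h2
    exact h.2.2 ((cj_eq_bot_iff g _).mp h2)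

theorem exists_wt {q : ℕ} (hq : q.Prime) (A V₁ : Subgroup X)
    (hAc : ∀ a ∈ A, ∀ b ∈ A, a * b = b * a) (hAq : ∀ a ∈ A, a ^ q = 1)
    (hqV : ¬ q ∣ Nat.card V₁) (hAV : A ≤ Subgroup.normalizer (V₁ : Set X)) (hV1 : V₁ ≠ ⊥)
    (hfix : V₁ ⊓ Subgroup.centralizer (A : Set X) = ⊥) : ∃ Y, IsWt A V₁ q Y := by
  by_contra hno
  push Not at hno
  haveI : Fact q.Prime := ⟨hq⟩
  have hAp : IsPGroup q A := by
    intro a
    refine ⟨1, ?_⟩
    apply Subtype.ext
    rw [pow_one, Subgroup.coe_pow, Subgroup.coe_one]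
    exact hAq a a.2
  obtain ⟨n, hn⟩ := IsPGroup.iff_card.mp hAp
  have hgen := Cfsg.Agent.Lib.Helper22_Hyperplane.le_iSup_centralizer_hyperplanes (p := q) A V₁ hAc hAq hqV hAV
  apply hV1
  rw [eq_bot_iff]
  refine hgen.trans (iSup_le ?_)
  rintro ⟨B, hBA, hBq⟩
  show V₁ ⊓ Subgroup.centralizer (B : Set X) ≤ ⊥
  have hdvd : B.relIndex A ∣ q ^ n := hn ▸ Subgroup.relIndex_dvd_card B A
  obtain ⟨j, -, hj⟩ := (Nat.dvd_prime_pow hq).mp hdvd
  have hj1 : j ≤ 1 := by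
    by_contra hlt
    push Not at hlt
    have : q ^ 2 ≤ q ^ j := Nat.pow_le_pow_right hq.pos hlt
    have h2 : q < q ^ 2 := by nlinarith [hq.one_lt]
    omega
  interval_cases j
  · rw [pow_zero] at hj
    have hAB : A ≤ B := Subgroup.relIndex_eq_one.mp hj
    rw [← hfix]
    exact inf_le_inf_left _ (Subgroup.centralizer_le hAB)
  · rw [pow_one] at hj
    by_contra hne
    exact hno B ⟨hBA, hj, fun h0 => hne (h0 ▸ le_rfl)⟩

end wt

end Cfsg.Agent.Lib.Helper52_ZNorm
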