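import Mathlib
import Cfsg.Agent.Lib.Helper52_ZNorm

/-!
# Weights moved by an element of prime order (helper52, for BG 3.7)

Setting `WHyp A V₁ x q r`: an abelian group `A` acts coprimely on an abelian group `V₁` with
`C_{V₁}(A) = 1`, `x` of prime order `r` normalizes both, and `C_{V₁}(x)` is "cyclic of prime order or
trivial" (any nontrivial element generates it).

* `WHyp.cyclic_of_not_fix`: if `x` does not normalize the weight `Y` then `C_{V₁}(Y)` is cyclic.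
* `WHyp.orbit_of_not_fix`: any two weights not normalized by `x` are conjugate under `⟨x⟩`.
-/

set_option autoImplicit false
set_option linter.style.haveILetI false
open Cfsg

namespace Cfsg.Agent.Lib.Helper52_ZWt

open scoped commutatorElement
open Cfsg.Agent.Lib.Helper52_ZBase Cfsg.Agent.Lib.Helper52_FrobAct Cfsg.Agent.Lib.Helper52_ZNorm

variable {X : Type*} [Group X] [Finite X]

/-- standing hypotheses for the weight analysis -/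
structure WHyp (A V₁ : Subgroup X) (x : X) (q r : ℕ) : Prop where
  hq : q.Prime
  hr : r.Prime
  hAc : ∀ a ∈ A, ∀ b ∈ A, a * b = b * a
  hVc : ∀ a ∈ V₁, ∀ b ∈ V₁, a * b = b * a
  hAV : A ≤ Subgroup.normalizer (V₁ : Set X)
  hcop : (Nat.card A).Coprime (Nat.card V₁)
  hfix : V₁ ⊓ Subgroup.centralizer (A : Set X) = ⊥
  hx : orderOf x = r
  hxA : x ∈ Subgroup.normalizer (A : Set X)
  hxV : x ∈ Subgroup.normalizer (V₁ : Set X)
  hC : ∀ c₁ ∈ V₁ ⊓ Subgroup.centralizer ({x} : Set X), c₁ ≠ 1 →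
    ∀ c₂ ∈ V₁ ⊓ Subgroup.centralizer ({x} : Set X), c₂ ∈ Subgroup.zpowers c₁

namespace WHyp

variable {A V₁ : Subgroup X} {x : X} {q r : ℕ} (h : WHyp A V₁ x q r)
include h

theorem hyp_cj {Y : Subgroup X} (hY : Y ≤ A) (hYq : Y.relIndex A = q) (i : ℕ) :
    cj (x ^ i) Y ≤ A ∧ (cj (x ^ i) Y).relIndex A = q := by
  have hA : cj (x ^ i) A = A := cj_eq_self_iff.mpr (Subgroup.pow_mem _ h.hxA i)
  constructor
  · have := cj_mono (x ^ i) hY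
    rwa [hA] at this
  · have := relIndex_cj (x ^ i) hY
    rw [hA] at this
    rw [this]; exact hYq

theorem conj_mem_fix {Y : Subgroup X} {v : X} (hv : v ∈ V₁ ⊓ Subgroup.centralizer (Y : Set X))
    (i : ℕ) : x ^ i * v * (x ^ i)⁻¹ ∈ V₁ ⊓ Subgroup.centralizer ((cj (x ^ i) Y : Subgroup X) : Set X) := by
  have hV : cj (x ^ i) V₁ = V₁ := cj_eq_self_iff.mpr (Subgroup.pow_mem _ h.hxV i)
  have h1 : V₁ ⊓ Subgroup.centralizer ((cj (x ^ i) Y : Subgroup X) : Set X) =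
      cj (x ^ i) (V₁ ⊓ Subgroup.centralizer (Y : Set X)) := by
    rw [cj_inf, cj_centralizer, hV]
  rw [h1]
  exact conj_mem_cj hv

theorem tl_mem_comm {Y T : Subgroup X} (hY : Y ≤ A) (hYq : Y.relIndex A = q) (hT : T ≤ A)
    (hTq : T.relIndex A = q) (n : ℕ) (hne : ∀ i, 1 ≤ i → i ≤ n → cj (x ^ i) Y ≠ T) {v : X}
    (hv : v ∈ V₁ ⊓ Subgroup.centralizer (Y : Set X)) : tl x v n ∈ ⁅V₁, T⁆ := by
  apply tl_mem
  intro i h1 h2
  obtain ⟨hc1, hc2⟩ := h.hyp_cj hY hYq i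
  have hsup : T ⊔ cj (x ^ i) Y = A :=
    sup_eq_of_relIndex_prime h.hq hT hc1 hTq hc2 (fun e => hne i h1 h2 e.symm)
  exact ind_le A V₁ T (cj (x ^ i) Y) h.hAc h.hVc h.hAV h.hcop h.hfix hT hc1 hsup
    (h.conj_mem_fix hv i)

theorem not_fix {Y : Subgroup X} (hxY : x ∉ Subgroup.normalizer (Y : Set X)) :
    ∀ i, 1 ≤ i → i ≤ r - 1 → cj (x ^ i) Y ≠ Y := by
  intro i h1 h2 he
  apply hxY
  have h3 : x ^ i ∈ Subgroup.normalizer (Y : Set X) := cj_eq_self_iff.mp he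
  have hr1 : 1 < r := h.hr.one_lt
  exact mem_of_pow_mem_of_prime h.hr h.hx (fun hd => by
    have := Nat.le_of_dvd (by omega) hd
    omega) _ h3

theorem tl_mem_V {v : X} (hv : v ∈ V₁) (n : ℕ) : tl x v n ∈ V₁ := by
  apply tl_mem
  intro i _ _
  exact ((Subgroup.mem_normalizer_iff.1 (Subgroup.pow_mem _ h.hxV i)) v).1 hv

theorem nrm_mem {v : X} (hv : v ∈ V₁) :
    v * tl x v (r - 1) ∈ V₁ ⊓ Subgroup.centralizer ({x} : Set X) := by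
  have ht : tl x v (r - 1) ∈ V₁ := h.tl_mem_V hv _
  refine Subgroup.mem_inf.mpr ⟨V₁.mul_mem hv ht, ?_⟩
  have hxr : x ^ r = 1 := by rw [← h.hx]; exact pow_orderOf_eq_one x
  have hc := conj_nrm x v r h.hr.one_lt.le hxr (h.hVc v hv _ ht)
  rw [Subgroup.mem_centralizer_iff]
  intro b hb
  rw [Set.mem_singleton_iff] at hb
  subst hb
  calc b * (v * tl b v (r - 1)) = (b * (v * tl b v (r - 1)) * b⁻¹) * b := by group
    _ = v * tl b v (r - 1) * b := by rw [hc]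

theorem nrm_ne_one {Y : Subgroup X} (hY : IsWt A V₁ q Y)
    (hxY : x ∉ Subgroup.normalizer (Y : Set X)) {v : X}
    (hv : v ∈ V₁ ⊓ Subgroup.centralizer (Y : Set X)) (hv1 : v ≠ 1) :
    v * tl x v (r - 1) ≠ 1 := by
  intro he
  have ht := h.tl_mem_comm hY.1 hY.2.1 hY.1 hY.2.1 (r - 1) (h.not_fix hxY) hv
  have h1 : v = (tl x v (r - 1))⁻¹ := eq_inv_of_mul_eq_one_left he
  have h2 : v ∈ (V₁ ⊓ Subgroup.centralizer (Y : Set X)) ⊓ ⁅V₁, Y⁆ :=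
    ⟨hv, by rw [h1]; exact Subgroup.inv_mem _ ht⟩
  rw [disj_comm V₁ Y h.hVc (hY.1.trans h.hAV)
    (Nat.Coprime.coprime_dvd_left (Subgroup.card_dvd_of_le hY.1) h.hcop), Subgroup.mem_bot] at h2
  exact hv1 h2

/-- if `x` moves the weight `Y` then `C_{V₁}(Y)` is cyclic -/
theorem cyclic_of_not_fix {Y : Subgroup X} (hY : IsWt A V₁ q Y)
    (hxY : x ∉ Subgroup.normalizer (Y : Set X)) {v₀ : X}
    (hv₀ : v₀ ∈ V₁ ⊓ Subgroup.centralizer (Y : Set X)) (hv₀1 : v₀ ≠ 1) {v : X}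
    (hv : v ∈ V₁ ⊓ Subgroup.centralizer (Y : Set X)) : v ∈ Subgroup.zpowers v₀ := by
  have ht₀ := h.tl_mem_comm hY.1 hY.2.1 hY.1 hY.2.1 (r - 1) (h.not_fix hxY) hv₀
  have ht := h.tl_mem_comm hY.1 hY.2.1 hY.1 hY.2.1 (r - 1) (h.not_fix hxY) hv
  have hu₀ := h.nrm_mem hv₀.1
  have hu := h.nrm_mem hv.1
  have hne := h.nrm_ne_one hY hxY hv₀ hv₀1
  obtain ⟨k, hk⟩ := Subgroup.mem_zpowers_iff.mp (h.hC _ hu₀ hne _ hu)
  have hcomm : Commute v₀ (tl x v₀ (r - 1)) := h.hVc v₀ hv₀.1 _ (h.tl_mem_V hv₀.1 _)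
  rw [hcomm.mul_zpow] at hk
  have h1 : (v₀ ^ k)⁻¹ * v = tl x v₀ (r - 1) ^ k * (tl x v (r - 1))⁻¹ := by
    calc (v₀ ^ k)⁻¹ * v = (v₀ ^ k)⁻¹ * (v * tl x v (r - 1)) * (tl x v (r - 1))⁻¹ := by group
      _ = (v₀ ^ k)⁻¹ * (v₀ ^ k * tl x v₀ (r - 1) ^ k) * (tl x v (r - 1))⁻¹ := by rw [hk]
      _ = tl x v₀ (r - 1) ^ k * (tl x v (r - 1))⁻¹ := by group
  have h2 : (v₀ ^ k)⁻¹ * v ∈ (V₁ ⊓ Subgroup.centralizer (Y : Set X)) ⊓ ⁅V₁, Y⁆ := by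
    refine ⟨Subgroup.mul_mem _ (Subgroup.inv_mem _ (Subgroup.zpow_mem _ hv₀ k)) hv, ?_⟩
    rw [h1]
    exact Subgroup.mul_mem _ (Subgroup.zpow_mem _ ht₀ k) (Subgroup.inv_mem _ ht)
  rw [disj_comm V₁ Y h.hVc (hY.1.trans h.hAV)
    (Nat.Coprime.coprime_dvd_left (Subgroup.card_dvd_of_le hY.1) h.hcop), Subgroup.mem_bot] at h2
  rw [Subgroup.mem_zpowers_iff]
  exact ⟨k, (inv_mul_eq_one.mp h2)⟩

/-- two weights moved by `x` lie in the same `⟨x⟩`-orbit -/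
theorem orbit_of_not_fix {Y Y' : Subgroup X} (hY : IsWt A V₁ q Y) (hY' : IsWt A V₁ q Y')
    (hxY : x ∉ Subgroup.normalizer (Y : Set X)) (hxY' : x ∉ Subgroup.normalizer (Y' : Set X)) :
    ∃ i : ℕ, Y' = cj (x ^ i) Y := by
  by_contra hno
  push Not at hno
  obtain ⟨v₀, hv₀, hv₀1⟩ := (Subgroup.bot_or_exists_ne_one _).resolve_left hY.2.2
  obtain ⟨v₁, hv₁, hv₁1⟩ := (Subgroup.bot_or_exists_ne_one _).resolve_left hY'.2.2
  have hu₀ := h.nrm_mem hv₀.1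
  have hu₁ := h.nrm_mem hv₁.1
  have hne := h.nrm_ne_one hY hxY hv₀ hv₀1
  obtain ⟨k, hk⟩ := Subgroup.mem_zpowers_iff.mp (h.hC _ hu₀ hne _ hu₁)
  have hYY' : Y' ≠ Y := by
    have := hno 0
    rwa [pow_zero, cj_one] at this
  -- `v₀ ∈ [V₁, Y']`
  have hsup : Y' ⊔ Y = A := sup_eq_of_relIndex_prime h.hq hY'.1 hY.1 hY'.2.1 hY.2.1 hYY'
  have h1 : v₀ ∈ ⁅V₁, Y'⁆ :=
    ind_le A V₁ Y' Y h.hAc h.hVc h.hAV h.hcop h.hfix hY'.1 hY.1 hsup hv₀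
  have h2 : tl x v₀ (r - 1) ∈ ⁅V₁, Y'⁆ :=
    h.tl_mem_comm hY.1 hY.2.1 hY'.1 hY'.2.1 (r - 1) (fun i _ _ e => hno i e.symm) hv₀
  have h3 : tl x v₁ (r - 1) ∈ ⁅V₁, Y'⁆ :=
    h.tl_mem_comm hY'.1 hY'.2.1 hY'.1 hY'.2.1 (r - 1) (h.not_fix hxY') hv₁
  have h4 : v₁ = (v₀ * tl x v₀ (r - 1)) ^ k * (tl x v₁ (r - 1))⁻¹ := by
    rw [hk]; group
  have h5 : v₁ ∈ (V₁ ⊓ Subgroup.centralizer (Y' : Set X)) ⊓ ⁅V₁, Y'⁆ := by
    refine ⟨hv₁, ?_⟩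
    rw [h4]
    exact Subgroup.mul_mem _ (Subgroup.zpow_mem _ (Subgroup.mul_mem _ h1 h2) k)
      (Subgroup.inv_mem _ h3)
  rw [disj_comm V₁ Y' h.hVc (hY'.1.trans h.hAV)
    (Nat.Coprime.coprime_dvd_left (Subgroup.card_dvd_of_le hY'.1) h.hcop), Subgroup.mem_bot] at h5
  exact hv₁1 h5

end WHyp

end Cfsg.Agent.Lib.Helper52_ZWt
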