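import Mathlib
import Cfsg.Agent.Lib.Helper52_ZWt
import Cfsg.Agent.Lib.Helper52_ZS
import Cfsg.Agent.Lib.Helper52_ZSymp
import Cfsg.Agent.S0027
import Cfsg.Agent.Lib.Helper1_Frattini

/-!
# The core lemma for BG 3.7, part A (helper52)

`Setup p q r V S Q x`: `V` normal elementary abelian `p`-group, `x` of prime order `r` acting
fixed-point-freely and irreducibly on the `p`-group `S` (`SHyp`), both acting on the `q`-group `Q`,
`Q` faithful on `V`, `C_Q(x)` cyclic and `|C_V(x)| ≤ p`.  `MinSetup`: moreover `S` does not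
centralize `Q` but centralizes every proper `S⟨x⟩`-invariant subgroup of `Q`.

* `MinSetup.comm_QS : ⁅Q, S⁆ = Q`, `MinSetup.frat`, `MinSetup.central_of_normal`.
* `MinSetup.caseA`: `Q` cannot be abelian.
-/

set_option autoImplicit false
set_option linter.style.haveILetI false
set_option linter.unusedSectionVars false
open Cfsg

namespace Cfsg.Agent.Lib.Helper52_ZCore

open scoped commutatorElement
open Cfsg.Agent.Lib.Helper52_ZBase Cfsg.Agent.Lib.Helper52_FrobAct Cfsg.Agent.Lib.Helper52_ZNorm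
  Cfsg.Agent.Lib.Helper52_ZWt Cfsg.Agent.Lib.Helper52_ZS

section seck
variable {X : Type*} [Group X]

/-- the kernel of the action on a section of prime order contains all commutators -/
theorem exists_section_kernel {q : ℕ} (hq : q.Prime) (M N : Subgroup X) (hNM : N ≤ M)
    (hMN : M ≤ Subgroup.normalizer (N : Set X)) (hrel : N.relIndex M = q) :
    ∃ T : Subgroup X,
      (∀ g h : X, g ∈ Subgroup.normalizer (M : Set X) → g ∈ Subgroup.normalizer (N : Set X) →
        h ∈ Subgroup.normalizer (M : Set X) → h ∈ Subgroup.normalizer (N : Set X) → ⁅g, h⁆ ∈ T) ∧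
      ∀ t ∈ T, ∀ m ∈ M, t * m * t⁻¹ * m⁻¹ ∈ N := by
  haveI hn : (N.subgroupOf M).Normal := (Subgroup.normal_subgroupOf_iff_le_normalizer hNM).2 hMN
  set G := Subgroup.normalizer (M : Set X) ⊓ Subgroup.normalizer (N : Set X) with hG
  have hcard : Nat.card (↥M ⧸ N.subgroupOf M) = q := by
    rw [← Subgroup.index_eq_card]; exact hrel
  haveI : Fact q.Prime := ⟨hq⟩
  haveI : IsCyclic (↥M ⧸ N.subgroupOf M) := isCyclic_of_prime_card hcard
  set φ := secAct G M N inf_le_left inf_le_right with hφ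
  refine ⟨φ.ker.map G.subtype, ?_, ?_⟩
  · intro g h hgM hgN hhM hhN
    have hg' : g ∈ G := ⟨hgM, hgN⟩
    have hh' : h ∈ G := ⟨hhM, hhN⟩
    refine ⟨⁅(⟨g, hg'⟩ : G), (⟨h, hh'⟩ : G)⁆, ?_, rfl⟩
    rw [SetLike.mem_coe, MonoidHom.mem_ker, map_commutatorElement, commutatorElement_eq_one_iff_mul_comm]
    exact mulAut_comm_of_isCyclic _ _
  · rintro _ ⟨t, ht, rfl⟩ m hm
    rw [SetLike.mem_coe, MonoidHom.mem_ker] at ht
    have h2 := congrArg (fun α : MulAut (↥M ⧸ N.subgroupOf M) => α (QuotientGroup.mk (⟨m, hm⟩ : M))) ht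
    simp only [MulAut.one_apply] at h2
    rw [hφ, secAct_mk] at h2
    have h4 := QuotientGroup.eq.1 h2.symm
    rw [Subgroup.mem_subgroupOf] at h4
    have h5 : m⁻¹ * ((t : X) * m * (t : X)⁻¹) ∈ N := h4
    have h6 := ((Subgroup.mem_normalizer_iff.1 (hMN hm)) _).1 h5
    have h7 : m * (m⁻¹ * ((t : X) * m * (t : X)⁻¹)) * m⁻¹ = (t : X) * m * (t : X)⁻¹ * m⁻¹ := by group
    rw [h7] at h6
    exact h6

end seck


variable {X : Type*} [Group X] [Finite X]

/-- the configuration of the core lemma -/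
structure Setup (p q r : ℕ) (V S Q : Subgroup X) (x : X) : Prop where
  hS : SHyp p r S x
  hq : q.Prime
  hpq : p ≠ q
  hqr : q ≠ r
  hVab : ∀ a ∈ V, ∀ b ∈ V, a * b = b * a
  hVexp : ∀ a ∈ V, a ^ p = 1
  hQq : IsPGroup q Q
  hSQ : S ≤ Subgroup.normalizer (Q : Set X)
  hxQ : x ∈ Subgroup.normalizer (Q : Set X)
  hfaith : Q ⊓ Subgroup.centralizer (V : Set X) = ⊥
  hCQ : IsCyclic ↥(Q ⊓ Subgroup.centralizer ({x} : Set X))
  hCV : Nat.card ↥(V ⊓ Subgroup.centralizer ({x} : Set X)) ≤ p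

namespace Setup

variable {p q r : ℕ} {V S Q : Subgroup X} {x : X} [hVn : V.Normal] (h : Setup p q r V S Q x)
include h hVn

theorem isPGroup_V : IsPGroup p V := by
  intro a
  refine ⟨1, ?_⟩
  apply Subtype.ext
  rw [pow_one, Subgroup.coe_pow, Subgroup.coe_one]
  exact h.hVexp a a.2

theorem coprime_of_le {A W : Subgroup X} (hA : A ≤ Q) (hW : W ≤ V) :
    (Nat.card A).Coprime (Nat.card W) := by
  haveI : Fact p.Prime := ⟨h.hS.hp⟩
  haveI : Fact q.Prime := ⟨h.hq⟩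
  obtain ⟨n, hn⟩ := IsPGroup.iff_card.mp h.hQq
  obtain ⟨m, hm⟩ := IsPGroup.iff_card.mp h.isPGroup_V
  have h1 : (Nat.card Q).Coprime (Nat.card V) := by
    rw [hn, hm]
    exact Nat.Coprime.pow _ _ ((Nat.coprime_primes h.hq h.hS.hp).mpr h.hpq.symm)
  exact Nat.Coprime.coprime_dvd_left (Subgroup.card_dvd_of_le hA)
    (Nat.Coprime.coprime_dvd_right (Subgroup.card_dvd_of_le hW) h1)

theorem fix_generates {c₁ : X} (hc₁ : c₁ ∈ V ⊓ Subgroup.centralizer ({x} : Set X)) (hne : c₁ ≠ 1)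
    {c₂ : X} (hc₂ : c₂ ∈ V ⊓ Subgroup.centralizer ({x} : Set X)) : c₂ ∈ Subgroup.zpowers c₁ := by
  haveI : Fact p.Prime := ⟨h.hS.hp⟩
  have ho : orderOf c₁ = p := orderOf_eq_prime (h.hVexp c₁ hc₁.1) hne
  have hle : Subgroup.zpowers c₁ ≤ V ⊓ Subgroup.centralizer ({x} : Set X) :=
    Subgroup.zpowers_le.mpr hc₁
  have hcard : Nat.card (Subgroup.zpowers c₁) = p := by rw [Nat.card_zpowers, ho]
  have heq : Subgroup.zpowers c₁ = V ⊓ Subgroup.centralizer ({x} : Set X) :=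
    Subgroup.eq_of_le_of_card_ge hle (by rw [hcard]; exact h.hCV)
  rw [heq]; exact hc₂

/-- the weight setting for an abelian `x`-invariant subgroup `A` of `Q` -/
theorem whyp_of {A : Subgroup X} (hA : A ≤ Q) (hAc : ∀ a ∈ A, ∀ b ∈ A, a * b = b * a)
    (hxA : x ∈ Subgroup.normalizer (A : Set X)) : WHyp A ⁅V, A⁆ x q r := by
  have hVtop : Subgroup.normalizer (V : Set X) = ⊤ := Subgroup.normalizer_eq_top_iff.mpr hVn
  have hle : ⁅V, A⁆ ≤ V := Subgroup.commutator_le_left V A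
  refine
    { hq := h.hq
      hr := h.hS.hr
      hAc := hAc
      hVc := fun a ha b hb => h.hVab a (hle ha) b (hle hb)
      hAV := ?_
      hcop := h.coprime_of_le hA hle
      hfix := ?_
      hx := h.hS.hx
      hxA := hxA
      hxV := ?_
      hC := ?_ }
  · intro a ha
    exact Cfsg.Agent.Lib.Helper24_CoprimeAction.mem_normalizer_commutator V A
      (by rw [hVtop]; trivial) (Subgroup.le_normalizer ha)
  · haveI : IsMulCommutative ↥V := isMulCommutative_of_comm V h.hVab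
    have h1 := (Cfsg.Agent.S0055.result A V (by rw [hVtop]; exact le_top)
      (h.coprime_of_le hA le_rfl)).1
    rw [eq_bot_iff, ← h1]
    intro a ha
    exact ⟨⟨hle ha.1, ha.2⟩, ha.1⟩
  · exact Cfsg.Agent.Lib.Helper24_CoprimeAction.mem_normalizer_commutator V A
      (by rw [hVtop]; trivial) hxA
  · intro c₁ hc₁ hne c₂ hc₂
    exact h.fix_generates ⟨hle hc₁.1, hc₁.2⟩ hne ⟨hle hc₂.1, hc₂.2⟩

theorem commutator_ne_bot {A : Subgroup X} (hA : A ≤ Q) (hA1 : A ≠ ⊥) : ⁅V, A⁆ ≠ ⊥ := by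
  intro h0
  apply hA1
  rw [eq_bot_iff, ← h.hfaith]
  intro a ha
  refine ⟨hA ha, ?_⟩
  have h1 : A ≤ Subgroup.centralizer (V : Set X) := by
    rw [← Subgroup.commutator_eq_bot_iff_le_centralizer, Subgroup.commutator_comm]
    exact h0
  exact h1 ha

theorem not_dvd_card_commutator (A : Subgroup X) : ¬ q ∣ Nat.card ↥⁅V, A⁆ := by
  haveI : Fact p.Prime := ⟨h.hS.hp⟩
  obtain ⟨m, hm⟩ := IsPGroup.iff_card.mp h.isPGroup_V
  intro hd
  have h1 : q ∣ p ^ m := hm ▸ hd.trans (Subgroup.card_dvd_of_le (Subgroup.commutator_le_left V A))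
  exact h.hpq ((Nat.prime_dvd_prime_iff_eq h.hq h.hS.hp).mp (h.hq.dvd_of_dvd_pow h1)).symm

end Setup

/-- minimal configuration: every proper invariant subgroup of `Q` is centralized by `S`, but
`Q` is not -/
structure MinSetup (p q r : ℕ) (V S Q : Subgroup X) (x : X) : Prop extends Setup p q r V S Q x where
  hmin : ∀ D : Subgroup X, D ≤ Q → D ≠ Q → S ≤ Subgroup.normalizer (D : Set X) →
    x ∈ Subgroup.normalizer (D : Set X) → S ≤ Subgroup.centralizer (D : Set X)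
  hnc : ¬ S ≤ Subgroup.centralizer (Q : Set X)

namespace MinSetup

variable [Group.IsSolvable X]
variable {p q r : ℕ} {V S Q : Subgroup X} {x : X} [hVn : V.Normal] (h : MinSetup p q r V S Q x)
include h hVn

theorem coprime_SQ : (Nat.card S).Coprime (Nat.card Q) := by
  haveI : Fact p.Prime := ⟨h.hS.hp⟩
  haveI : Fact q.Prime := ⟨h.hq⟩
  obtain ⟨n, hn⟩ := IsPGroup.iff_card.mp h.hQq
  obtain ⟨m, hm⟩ := IsPGroup.iff_card.mp h.hS.hSp
  rw [hn, hm]
  exact Nat.Coprime.pow _ _ ((Nat.coprime_primes h.hS.hp h.hq).mpr h.hpq)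

theorem comm_QS : ⁅Q, S⁆ = Q := by
  set D := ⁅Q, S⁆ with hD
  have hDQ : D ≤ Q := Cfsg.Agent.Lib.Helper24_CoprimeAction.commutator_le_of_le_normalizer Q S h.hSQ
  have hSD : S ≤ Subgroup.normalizer (D : Set X) := fun s hs =>
    Cfsg.Agent.Lib.Helper24_CoprimeAction.mem_normalizer_commutator Q S (h.hSQ hs)
      (Subgroup.le_normalizer hs)
  have hxD : x ∈ Subgroup.normalizer (D : Set X) :=
    Cfsg.Agent.Lib.Helper24_CoprimeAction.mem_normalizer_commutator Q S h.hxQ h.hS.hxS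
  by_contra hne
  have h1 := h.hmin D hDQ hne hSD hxD
  have h2 : ⁅D, S⁆ = ⊥ := by
    rw [Subgroup.commutator_comm, Subgroup.commutator_eq_bot_iff_le_centralizer]; exact h1
  have h3 := Cfsg.Agent.S0027.result S Q h.hSQ h.coprime_SQ (Or.inl inferInstance)
  rw [← hD, h2] at h3
  apply h.hnc
  rw [← Subgroup.commutator_eq_bot_iff_le_centralizer, Subgroup.commutator_comm, ← hD, ← h3]

theorem Q_ne_bot : Q ≠ ⊥ := by
  intro h0
  apply h.hnc
  rw [h0]
  intro s _
  rw [Subgroup.mem_centralizer_iff]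
  intro b hb
  rw [SetLike.mem_coe, Subgroup.mem_bot] at hb
  rw [hb, one_mul, mul_one]

/-- the Frattini subgroup of `Q`, in the ambient group -/
theorem frat : ∃ Φ : Subgroup X, Φ ≤ Q ∧ Φ ≠ Q ∧
    Subgroup.normalizer (Q : Set X) ≤ Subgroup.normalizer (Φ : Set X) ∧
    S ≤ Subgroup.centralizer (Φ : Set X) ∧ ∀ a ∈ Q, a ^ q ∈ Φ := by
  haveI : Fact q.Prime := ⟨h.hq⟩
  refine ⟨(frattini ↥Q).map Q.subtype, Subgroup.map_subtype_le _, ?_, ?_, ?_, ?_⟩
  · intro he
    have h1 : (frattini ↥Q).map Q.subtype = (⊤ : Subgroup ↥Q).map Q.subtype := by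
      rw [he, ← MonoidHom.range_eq_map, Subgroup.range_subtype]
    have h2 : frattini ↥Q = ⊤ := Subgroup.map_injective Q.subtype_injective h1
    have h3 : (⊥ : Subgroup ↥Q) = ⊤ := frattini_nongenerating (by rw [h2, bot_sup_eq])
    apply h.Q_ne_bot
    have h4 : (⊥ : Subgroup ↥Q).map Q.subtype = (⊤ : Subgroup ↥Q).map Q.subtype := by rw [h3]
    rw [Subgroup.map_bot, ← MonoidHom.range_eq_map, Subgroup.range_subtype] at h4
    exact h4.symm
  · exact Cfsg.Agent.Lib.Helper24_CoprimeAction.normalizer_le_normalizer_map_of_characteristic Q _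
  · apply h.hmin _ (Subgroup.map_subtype_le _)
    · intro he
      have h1 : (frattini ↥Q).map Q.subtype = (⊤ : Subgroup ↥Q).map Q.subtype := by
        rw [he, ← MonoidHom.range_eq_map, Subgroup.range_subtype]
      have h2 : frattini ↥Q = ⊤ := Subgroup.map_injective Q.subtype_injective h1
      have h3 : (⊥ : Subgroup ↥Q) = ⊤ := frattini_nongenerating (by rw [h2, bot_sup_eq])
      apply h.Q_ne_bot
      have h4 : (⊥ : Subgroup ↥Q).map Q.subtype = (⊤ : Subgroup ↥Q).map Q.subtype := by rw [h3]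
      rw [Subgroup.map_bot, ← MonoidHom.range_eq_map, Subgroup.range_subtype] at h4
      exact h4.symm
    · exact h.hSQ.trans
        (Cfsg.Agent.Lib.Helper24_CoprimeAction.normalizer_le_normalizer_map_of_characteristic Q _)
    · exact Cfsg.Agent.Lib.Helper24_CoprimeAction.normalizer_le_normalizer_map_of_characteristic Q _
        h.hxQ
  · intro a ha
    have := Cfsg.Agent.Lib.Helper1_Frattini.pow_mem_frattini_of_isPGroup h.hQq ⟨a, ha⟩
    exact ⟨_, this, rfl⟩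

/-- Case A: `Q` abelian -/
theorem caseA (hodd : Odd (Nat.card X)) (hab : ∀ a ∈ Q, ∀ b ∈ Q, a * b = b * a) : False := by
  have hVtop : Subgroup.normalizer (V : Set X) = ⊤ := Subgroup.normalizer_eq_top_iff.mpr hVn
  -- `C_Q(S) = 1`
  have hCS : Q ⊓ Subgroup.centralizer (S : Set X) = ⊥ := by
    haveI : IsMulCommutative ↥Q := isMulCommutative_of_comm Q hab
    have h1 := (Cfsg.Agent.S0055.result S Q h.hSQ h.coprime_SQ).1
    rw [h.comm_QS, inf_eq_left.mpr inf_le_left] at h1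
    exact h1
  -- exponent `q`
  obtain ⟨Φ, hΦQ, -, -, hSΦ, hpow⟩ := h.frat
  have hexp : ∀ a ∈ Q, a ^ q = 1 := by
    intro a ha
    have h1 : a ^ q ∈ Q ⊓ Subgroup.centralizer (S : Set X) :=
      ⟨hΦQ (hpow a ha), (Subgroup.le_centralizer_iff.mp hSΦ) (hpow a ha)⟩
    rwa [hCS, Subgroup.mem_bot] at h1
  -- weights
  have W := h.toSetup.whyp_of le_rfl hab h.hxQ
  have hV1 : ⁅V, Q⁆ ≠ ⊥ := h.toSetup.commutator_ne_bot le_rfl h.Q_ne_bot
  obtain ⟨Y₀, hY₀⟩ := exists_wt h.hq Q ⁅V, Q⁆ hab hexp (h.toSetup.not_dvd_card_commutator Q)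
    W.hAV hV1 W.hfix
  have hSV₁ : S ≤ Subgroup.normalizer ((⁅V, Q⁆ : Subgroup X) : Set X) := fun s hs =>
    Cfsg.Agent.Lib.Helper24_CoprimeAction.mem_normalizer_commutator V Q
      (by rw [hVtop]; trivial) (h.hSQ hs)
  obtain ⟨Y, hY, hSY⟩ := h.hS.exists_fixed hodd (IsWt Q ⁅V, Q⁆ q)
    (fun Y hY s hs => hY.conj (h.hSQ hs) (hSV₁ hs))
    (fun Y Y' hY hY' hxY hxY' => W.orbit_of_not_fix hY hY' hxY hxY') Y₀ hY₀
  have hQY : Q ≤ Subgroup.normalizer (Y : Set X) := by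
    intro a ha
    exact cj_eq_self_iff.mp (cj_of_comm hY.1 hab ha)
  by_cases hxY : x ∈ Subgroup.normalizer (Y : Set X)
  · -- `S⟨x⟩` acts on `Q / Y` through an abelian group, so `[Q, S] ≤ Y`
    obtain ⟨T, hT1, hT2⟩ := exists_section_kernel h.hq Q Y hY.1 hQY hY.2.1
    have h1 : ⁅S, Subgroup.zpowers x⁆ ≤ T := by
      rw [Subgroup.commutator_le]
      intro s hs e he
      have heQ : e ∈ Subgroup.normalizer (Q : Set X) := (Subgroup.zpowers_le.mpr h.hxQ) he
      have heY : e ∈ Subgroup.normalizer (Y : Set X) := (Subgroup.zpowers_le.mpr hxY) he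
      exact hT1 s e (h.hSQ hs) (hSY hs) heQ heY
    rw [h.hS.commutator_zpowers] at h1
    have h2 : ⁅S, Q⁆ ≤ Y := by
      rw [Subgroup.commutator_le]
      intro s hs m hm
      exact hT2 s (h1 hs) m hm
    rw [Subgroup.commutator_comm, h.comm_QS] at h2
    have h3 : Y.relIndex Q = 1 := Subgroup.relIndex_eq_one.mpr h2
    rw [hY.2.1] at h3
    exact h.hq.one_lt.ne' h3
  · -- `C_{V₁}(Y)` is cyclic, so `[Q, S] = Q` centralizes it
    obtain ⟨v₀, hv₀, hv₀1⟩ := (Subgroup.bot_or_exists_ne_one _).resolve_left hY.2.2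
    set VY := ⁅V, Q⁆ ⊓ Subgroup.centralizer (Y : Set X) with hVY
    haveI : IsCyclic ↥VY :=
      ⟨⟨⟨v₀, hv₀⟩, fun v => by
        obtain ⟨k, hk⟩ := Subgroup.mem_zpowers_iff.mp (W.cyclic_of_not_fix hY hxY hv₀ hv₀1 v.2)
        exact Subgroup.mem_zpowers_iff.mpr ⟨k, Subtype.ext (by rw [Subgroup.coe_zpow]; exact hk)⟩⟩⟩
    have hnVY : ∀ g : X, g ∈ Subgroup.normalizer ((⁅V, Q⁆ : Subgroup X) : Set X) →
        g ∈ Subgroup.normalizer (Y : Set X) → g ∈ Subgroup.normalizer (VY : Set X) := by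
      intro g hg1 hg2
      have hg3 := Cfsg.Agent.Lib.Helper24_CoprimeHall.normalizer_le_normalizer_centralizer Y hg2
      rw [← cj_eq_self_iff] at hg1 hg3 ⊢
      rw [hVY, cj_inf, hg1, hg3]
    have h1 : ⁅Q, S⁆ ≤ Subgroup.centralizer (VY : Set X) := by
      rw [Subgroup.commutator_le]
      intro a ha s hs
      exact commutator_mem_centralizer_of_isCyclic VY (hnVY a (W.hAV ha) (hQY ha))
        (hnVY s (hSV₁ hs) (hSY hs))
    rw [h.comm_QS] at h1
    have h2 : VY ≤ ⁅V, Q⁆ ⊓ Subgroup.centralizer (Q : Set X) :=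
      le_inf inf_le_left (Subgroup.le_centralizer_iff.mp h1)
    rw [W.hfix] at h2
    exact hY.2.2 (eq_bot_iff.mpr h2)

/-- three subgroups: a proper normal invariant subgroup of `Q` is central in `Q` -/
theorem central_of_normal {D : Subgroup X} (hDQ : D ≤ Q) (hne : D ≠ Q)
    (hQD : Q ≤ Subgroup.normalizer (D : Set X)) (hSD : S ≤ Subgroup.normalizer (D : Set X))
    (hxD : x ∈ Subgroup.normalizer (D : Set X)) : D ≤ Subgroup.centralizer (Q : Set X) := by
  have h1 := h.hmin D hDQ hne hSD hxD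
  have h2 : ⁅D, S⁆ = ⊥ := by
    rw [Subgroup.commutator_comm, Subgroup.commutator_eq_bot_iff_le_centralizer]; exact h1
  have h3 : ⁅Q, D⁆ ≤ D := by
    rw [Subgroup.commutator_comm]
    exact Cfsg.Agent.Lib.Helper24_CoprimeAction.commutator_le_of_le_normalizer D Q hQD
  have h4 : ⁅⁅Q, D⁆, S⁆ = ⊥ := by
    rw [eq_bot_iff, ← h2]
    exact Subgroup.commutator_mono h3 le_rfl
  have h5 : ⁅⁅D, S⁆, Q⁆ = ⊥ := by rw [h2, Subgroup.commutator_bot_left]
  have h6 : ⁅⁅S, Q⁆, D⁆ = ⊥ := Subgroup.commutator_commutator_eq_bot_of_rotate h4 h5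
  rw [Subgroup.commutator_comm S Q, h.comm_QS, Subgroup.commutator_eq_bot_iff_le_centralizer] at h6
  exact Subgroup.le_centralizer_iff.mp h6

theorem normalizer_center : Subgroup.normalizer (Q : Set X) ≤
    Subgroup.normalizer ((Q ⊓ Subgroup.centralizer (Q : Set X) : Subgroup X) : Set X) := by
  intro g hg
  have hg2 := Cfsg.Agent.Lib.Helper24_CoprimeHall.normalizer_le_normalizer_centralizer Q hg
  rw [← cj_eq_self_iff] at hg hg2 ⊢
  rw [cj_inf, hg, hg2]

end MinSetup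

end Cfsg.Agent.Lib.Helper52_ZCore
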