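import Mathlib
import Cfsg.Agent.Lib.Helper52_ZSymp
import Cfsg.Agent.Lib.Helper52_FrobFormula

/-!
# Parity of `|Q : Z(Q)|` through a quotient (helper52, for BG 3.7)

`quot_parity`: ambient form of `Helper52_ZSymp.index_center_of_class_two` applied to `Q / Z'`.
-/

set_option autoImplicit false
set_option linter.style.haveILetI false
open Cfsg

namespace Cfsg.Agent.Lib.Helper52_ZQuot

open scoped commutatorElement

universe u
variable {X : Type u} [Group X] [Finite X]

/-- a class-two `q`-group `Q` and a subgroup `Z'` of index `q` in `Q'` such that the centre of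
`Q` modulo `Z'` is just `Z(Q)`: then `|Q : Z(Q)|` is an even power of `q` -/
theorem quot_parity {q : ℕ} [hq : Fact q.Prime] (Q Z' : Subgroup X) (hQq : IsPGroup q Q)
    (hcl : ⁅Q, Q⁆ ≤ Subgroup.centralizer (Q : Set X))
    (hZ' : Z' ≤ ⁅Q, Q⁆) (hrel : Z'.relIndex ⁅Q, Q⁆ = q)
    (hZt : ∀ a ∈ Q, (∀ b ∈ Q, ⁅a, b⁆ ∈ Z') → a ∈ Subgroup.centralizer (Q : Set X)) :
    ∃ m : ℕ, (Q ⊓ Subgroup.centralizer (Q : Set X)).relIndex Q = q ^ (2 * m) := by
  have hQ'Q : ⁅Q, Q⁆ ≤ Q := Subgroup.commutator_le_self Q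
  have hZ'Q : Z' ≤ Q := hZ'.trans hQ'Q
  have hZ'c : Z' ≤ Subgroup.centralizer (Q : Set X) := hZ'.trans hcl
  have hQN : Q ≤ Subgroup.normalizer (Z' : Set X) := by
    apply Cfsg.Agent.Lib.Helper52_FrobFormula.le_normalizer_of_forall
    intro a ha z hz
    have h1 : a * z = z * a := Subgroup.mem_centralizer_iff.mp (hZ'c hz) a ha
    have : a * z * a⁻¹ = z := by rw [h1]; group
    rw [this]; exact hz
  haveI hn : (Z'.subgroupOf Q).Normal := (Subgroup.normal_subgroupOf_iff_le_normalizer hZ'Q).2 hQN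
  set N := Z'.subgroupOf Q with hN
  set π := QuotientGroup.mk' N with hπ
  have hπs : Function.Surjective π := QuotientGroup.mk'_surjective N
  have hPq : IsPGroup q (↥Q ⧸ N) := hQq.to_quotient N
  have hcomm : commutator (↥Q ⧸ N) = (commutator ↥Q).map π := by
    rw [commutator_def, commutator_def, Subgroup.map_commutator,
      Subgroup.map_top_of_surjective π hπs]
  have hcomQ : commutator ↥Q = (⁅Q, Q⁆).subgroupOf Q := by
    have h1 := Subgroup.map_subtype_commutator Q
    rw [← h1, Subgroup.subgroupOf, Subgroup.comap_map_eq_self_of_injective Q.subtype_injective]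
  have hcl' : commutator (↥Q ⧸ N) ≤ Subgroup.center (↥Q ⧸ N) := by
    rw [hcomm]
    rintro _ ⟨c, hc, rfl⟩
    rw [hcomQ, SetLike.mem_coe, Subgroup.mem_subgroupOf] at hc
    rw [Subgroup.mem_center_iff]
    intro y
    obtain ⟨b, rfl⟩ := hπs y
    rw [← map_mul, ← map_mul]
    congr 1
    apply Subtype.ext
    exact Subgroup.mem_centralizer_iff.mp (hcl hc) b b.2
  have hcard : Nat.card (commutator (↥Q ⧸ N)) = q := by
    rw [hcomm, ← Subgroup.relIndex_ker, hπ, QuotientGroup.ker_mk', hcomQ, hN,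
      Subgroup.relIndex_subgroupOf hQ'Q]
    exact hrel
  obtain ⟨m, hm⟩ := Cfsg.Agent.Lib.Helper52_ZSymp.index_center_of_class_two hPq hcl' hcard
  refine ⟨m, ?_⟩
  have hcen : (Subgroup.center (↥Q ⧸ N)).comap π =
      (Q ⊓ Subgroup.centralizer (Q : Set X)).subgroupOf Q := by
    ext a
    rw [Subgroup.mem_comap, Subgroup.mem_center_iff, Subgroup.mem_subgroupOf]
    constructor
    · intro ha
      have h1 : (a : X)⁻¹ ∈ Subgroup.centralizer (Q : Set X) := by
        apply hZt _ (Q.inv_mem a.2)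
        intro b hb
        have h2 := ha (π ⟨b⁻¹, Q.inv_mem hb⟩)
        rw [← map_mul, ← map_mul] at h2
        have h3 := QuotientGroup.eq.1 h2
        rw [hN, Subgroup.mem_subgroupOf] at h3
        have h4 : (((⟨b⁻¹, Q.inv_mem hb⟩ * a : ↥Q)⁻¹ * (a * ⟨b⁻¹, Q.inv_mem hb⟩) : ↥Q) : X) =
            ⁅(a : X)⁻¹, b⁆ := by
          simp only [Subgroup.coe_mul, Subgroup.coe_inv, commutatorElement_def]
          group
        rw [h4] at h3
        exact h3
      refine ⟨a.2, ?_⟩
      have := Subgroup.inv_mem _ h1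
      rwa [inv_inv] at this
    · intro ha y
      obtain ⟨b, rfl⟩ := hπs y
      rw [← map_mul, ← map_mul]
      congr 1
      apply Subtype.ext
      exact Subgroup.mem_centralizer_iff.mp ha.2 b b.2
  rw [← hm, ← Subgroup.index_comap_of_surjective (Subgroup.center (↥Q ⧸ N)) hπs, hcen]
  rfl

end Cfsg.Agent.Lib.Helper52_ZQuot
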