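import Mathlib
import Cfsg.Agent.Lib.Helper52_ZCore
import Cfsg.Agent.Lib.Helper52_ZQuot

/-!
# The core lemma for BG 3.7, part B (helper52)

* `MinSetup.caseB`: in the minimal configuration `Q` cannot be nonabelian (it would be of class two
  with `|Q : Z(Q)| = q ^ r`, `r` odd, against the symplectic parity `Helper52_ZQuot.quot_parity`).
* `core`: in the configuration `Setup p q r V S Q x` the group `S` centralizes `Q`.
-/

set_option autoImplicit false
set_option linter.style.haveILetI false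
set_option linter.unusedSectionVars false
open Cfsg

namespace Cfsg.Agent.Lib.Helper52_ZCore

open scoped commutatorElement
open Cfsg.Agent.Lib.Helper52_ZBase Cfsg.Agent.Lib.Helper52_FrobAct Cfsg.Agent.Lib.Helper52_ZNorm
  Cfsg.Agent.Lib.Helper52_ZWt Cfsg.Agent.Lib.Helper52_ZS

universe u
variable {X : Type u} [Group X] [Finite X]


section aux
variable {X : Type u} [Group X]

theorem centralizer_zpowers_eq (x : X) :
    Subgroup.centralizer ((Subgroup.zpowers x : Subgroup X) : Set X) =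
      Subgroup.centralizer ({x} : Set X) := by
  apply le_antisymm
  · apply Subgroup.centralizer_le
    intro y hy
    rw [Set.mem_singleton_iff] at hy
    rw [hy]; exact Subgroup.mem_zpowers x
  · intro a ha
    rw [Subgroup.mem_centralizer_iff]
    intro e he
    have hx : x * a = a * x := Subgroup.mem_centralizer_iff.mp ha x rfl
    obtain ⟨k, rfl⟩ := Subgroup.mem_zpowers_iff.mp he
    exact ((Commute.zpow_left (show Commute x a from hx) k)).eq

end aux

end Cfsg.Agent.Lib.Helper52_ZCore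

namespace Cfsg.Agent.Lib.Helper52_ZS

open Cfsg.Agent.Lib.Helper52_ZBase Cfsg.Agent.Lib.Helper52_FrobAct Cfsg.Agent.Lib.Helper52_ZNorm
  Cfsg.Agent.Lib.Helper52_ZWt

universe u

theorem SHyp.fpf_zpowers {X : Type u} [Group X] [Finite X] {p r : ℕ} {S : Subgroup X}
    {x : X} (h : SHyp p r S x) :
    ∀ e ∈ Subgroup.zpowers x, e ≠ 1 → ∀ u ∈ S, e * u = u * e → u = 1 := by
  intro e he hne u hu hcomm
  haveI : Fact r.Prime := ⟨h.hr⟩
  have hcard : Nat.card (Subgroup.zpowers x) = r := by rw [Nat.card_zpowers, h.hx]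
  have hne' : (⟨e, he⟩ : Subgroup.zpowers x) ≠ 1 := fun h0 => hne (congrArg Subtype.val h0)
  have htop := zpowers_eq_top_of_prime_card hcard hne'
  have hx : (⟨x, Subgroup.mem_zpowers x⟩ : Subgroup.zpowers x) ∈ Subgroup.zpowers (⟨e, he⟩ : Subgroup.zpowers x) := by
    rw [htop]; trivial
  obtain ⟨k, hk⟩ := Subgroup.mem_zpowers_iff.mp hx
  have hk' : e ^ k = x := by
    have := congrArg Subtype.val hk
    simpa using this
  apply h.hSfpf u hu
  rw [← hk']
  exact (Commute.zpow_left (show Commute e u from hcomm) k).eq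

end Cfsg.Agent.Lib.Helper52_ZS

namespace Cfsg.Agent.Lib.Helper52_ZCore

open scoped commutatorElement
open Cfsg.Agent.Lib.Helper52_ZBase Cfsg.Agent.Lib.Helper52_FrobAct Cfsg.Agent.Lib.Helper52_ZNorm
  Cfsg.Agent.Lib.Helper52_ZWt Cfsg.Agent.Lib.Helper52_ZS

universe u
variable {X : Type u} [Group X] [Finite X]

theorem commutator_pow_of_commute {X : Type u} [Group X] {a b : X} (hc : Commute ⁅a, b⁆ a) (n : ℕ) :
    ⁅a ^ n, b⁆ = ⁅a, b⁆ ^ n := by
  induction n with
  | zero => simp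
  | succ n ih =>
    have h1 : ⁅a ^ n * a, b⁆ = a ^ n * ⁅a, b⁆ * (a ^ n)⁻¹ * ⁅a ^ n, b⁆ := by
      simp only [commutatorElement_def]; group
    have h2 : a ^ n * ⁅a, b⁆ * (a ^ n)⁻¹ = ⁅a, b⁆ := by
      have : Commute ⁅a, b⁆ (a ^ n) := hc.pow_right n
      rw [← this.eq]; group
    rw [pow_succ, h1, h2, ih, pow_succ']

namespace MinSetup

variable [Group.IsSolvable X]
variable {p q r : ℕ} {V S Q : Subgroup X} {x : X} [hVn : V.Normal] (h : MinSetup p q r V S Q x)
include h hVn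

theorem derived_ne : ⁅Q, Q⁆ ≠ Q := by
  haveI : Nontrivial ↥Q := (Subgroup.nontrivial_iff_ne_bot Q).mpr h.Q_ne_bot
  have hlt : commutator ↥Q < ⊤ := Group.IsSolvable.commutator_lt_top_of_nontrivial ↥Q
  intro h0
  have h1 : (commutator ↥Q).map Q.subtype = (⊤ : Subgroup ↥Q).map Q.subtype := by
    rw [Subgroup.map_subtype_commutator, h0, ← MonoidHom.range_eq_map, Subgroup.range_subtype]
  exact hlt.ne (Subgroup.map_injective Q.subtype_injective h1)

theorem derived_le : ⁅Q, Q⁆ ≤ Subgroup.centralizer (Q : Set X) := by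
  apply h.central_of_normal (Subgroup.commutator_le_self Q) h.derived_ne
  · intro a ha
    exact Cfsg.Agent.Lib.Helper24_CoprimeAction.mem_normalizer_commutator Q Q
      (Subgroup.le_normalizer ha) (Subgroup.le_normalizer ha)
  · intro s hs
    exact Cfsg.Agent.Lib.Helper24_CoprimeAction.mem_normalizer_commutator Q Q (h.hSQ hs) (h.hSQ hs)
  · exact Cfsg.Agent.Lib.Helper24_CoprimeAction.mem_normalizer_commutator Q Q h.hxQ h.hxQ

theorem pow_mem_center : ∀ a ∈ Q, a ^ q ∈ Q ⊓ Subgroup.centralizer (Q : Set X) := by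
  obtain ⟨Φ, hΦQ, hΦne, hNΦ, -, hpow⟩ := h.frat
  have h1 : Φ ≤ Subgroup.centralizer (Q : Set X) :=
    h.central_of_normal hΦQ hΦne (Subgroup.le_normalizer.trans hNΦ) (h.hSQ.trans hNΦ) (hNΦ h.hxQ)
  intro a ha
  exact ⟨hΦQ (hpow a ha), h1 (hpow a ha)⟩

theorem center_ne (hnab : ¬ ∀ a ∈ Q, ∀ b ∈ Q, a * b = b * a) :
    Q ⊓ Subgroup.centralizer (Q : Set X) ≠ Q := by
  intro h0
  apply hnab
  intro a ha b hb
  have : a ∈ Q ⊓ Subgroup.centralizer (Q : Set X) := by rw [h0]; exact ha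
  exact (Subgroup.mem_centralizer_iff.mp this.2 b hb).symm

theorem S_le_centralizer_center (hnab : ¬ ∀ a ∈ Q, ∀ b ∈ Q, a * b = b * a) :
    S ≤ Subgroup.centralizer ((Q ⊓ Subgroup.centralizer (Q : Set X) : Subgroup X) : Set X) :=
  h.hmin _ inf_le_left (h.center_ne hnab) (h.hSQ.trans h.normalizer_center)
    (h.normalizer_center h.hxQ)

theorem fix_S (hnab : ¬ ∀ a ∈ Q, ∀ b ∈ Q, a * b = b * a) :
    Q ⊓ Subgroup.centralizer (S : Set X) = Q ⊓ Subgroup.centralizer (Q : Set X) := by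
  have hZS : Q ⊓ Subgroup.centralizer (Q : Set X) ≤ Subgroup.centralizer (S : Set X) :=
    Subgroup.le_centralizer_iff.mp (h.S_le_centralizer_center hnab)
  apply le_antisymm
  · set E₁ := (Q ⊓ Subgroup.centralizer (S : Set X)) ⊔ (Q ⊓ Subgroup.centralizer (Q : Set X)) with hE₁
    have hE₁Q : E₁ ≤ Q := sup_le inf_le_left inf_le_left
    have hE₁S : E₁ ≤ Subgroup.centralizer (S : Set X) := sup_le inf_le_right hZS
    have hne : E₁ ≠ Q := by
      intro h0
      apply h.hnc
      rw [Subgroup.le_centralizer_iff, ← h0]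
      exact hE₁S
    have hQ'E : ⁅Q, Q⁆ ≤ E₁ :=
      (le_inf (Subgroup.commutator_le_self Q) h.derived_le).trans le_sup_right
    have hQE : Q ≤ Subgroup.normalizer (E₁ : Set X) := by
      apply Cfsg.Agent.Lib.Helper52_FrobFormula.le_normalizer_of_forall
      intro a ha d hd
      have h1 : a * d * a⁻¹ = ⁅a, d⁆ * d := by rw [commutatorElement_def]; group
      rw [h1]
      exact E₁.mul_mem (hQ'E (Subgroup.commutator_mem_commutator ha (hE₁Q hd))) hd
    have hinv : ∀ g : X, g ∈ Subgroup.normalizer (Q : Set X) →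
        g ∈ Subgroup.normalizer (S : Set X) → g ∈ Subgroup.normalizer (E₁ : Set X) := by
      intro g hgQ hgS
      have hg2 := Cfsg.Agent.Lib.Helper24_CoprimeHall.normalizer_le_normalizer_centralizer S hgS
      have hg3 := h.normalizer_center hgQ
      rw [← cj_eq_self_iff] at hgQ hg2 hg3 ⊢
      rw [hE₁, cj_sup, cj_inf, hgQ, hg2, hg3]
    have h2 := h.central_of_normal hE₁Q hne hQE
      (fun s hs => hinv s (h.hSQ hs) (Subgroup.le_normalizer hs)) (hinv x h.hxQ h.hS.hxS)
    exact le_inf inf_le_left (le_sup_left.trans h2)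
  · exact le_inf inf_le_left hZS

theorem formula :
    Nat.card ↥(Q ⊓ Subgroup.centralizer (((S ⊔ Subgroup.zpowers x : Subgroup X)) : Set X)) ^ r *
        Nat.card Q =
      Nat.card ↥(Q ⊓ Subgroup.centralizer ({x} : Set X)) ^ r *
        Nat.card ↥(Q ⊓ Subgroup.centralizer (S : Set X)) := by
  haveI : Fact p.Prime := ⟨h.hS.hp⟩
  haveI : Fact q.Prime := ⟨h.hq⟩
  set E := Subgroup.zpowers x with hE
  have hcardE : Nat.card E = r := by rw [hE, Nat.card_zpowers, h.hS.hx]
  have hE1 : E ≠ ⊥ := by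
    intro h0
    have : Nat.card E = 1 := by rw [h0]; exact Subgroup.card_bot
    rw [hcardE] at this
    exact h.hS.hr.one_lt.ne' this
  have hUn : ∀ e ∈ E, ∀ u ∈ S, e * u * e⁻¹ ∈ S := fun e he u hu =>
    ((Subgroup.mem_normalizer_iff.1 (h.hS.zpowers_le he)) u).1 hu
  obtain ⟨n, hn⟩ := IsPGroup.iff_card.mp h.hQq
  obtain ⟨m, hm⟩ := IsPGroup.iff_card.mp h.hS.hSp
  have hcopSE : (Nat.card S).Coprime (Nat.card E) := by
    rw [hcardE, hm]
    exact Nat.Coprime.pow_left _ ((Nat.coprime_primes h.hS.hp h.hS.hr).mpr h.hS.hpr)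
  have hdisj : S ⊓ E = ⊥ := (Subgroup.disjoint_of_coprime_natCard hcopSE).eq_bot
  have hcardSE : Nat.card ↥(S ⊔ E) = Nat.card S * Nat.card E :=
    Cfsg.Agent.Lib.Helper24_CoprimeHall.card_sup_of_disjoint' E S h.hS.zpowers_le hdisj
  have hcop : (Nat.card ↥(S ⊔ E)).Coprime (Nat.card Q) := by
    rw [hcardSE, hcardE, hm, hn]
    apply Nat.Coprime.mul_left
    · exact Nat.Coprime.pow _ _ ((Nat.coprime_primes h.hS.hp h.hq).mpr h.hpq)
    · exact Nat.Coprime.pow_right _ ((Nat.coprime_primes h.hS.hr h.hq).mpr h.hqr.symm)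
  have hHn : S ⊔ E ≤ Subgroup.normalizer (Q : Set X) :=
    sup_le h.hSQ (Subgroup.zpowers_le.mpr h.hxQ)
  have key := Cfsg.Agent.Lib.Helper52_FrobFormula.frobenius_formula S E Q hE1 hUn
    h.hS.fpf_zpowers hHn inferInstance hcop
  rw [hcardE, centralizer_zpowers_eq] at key
  exact key

theorem card_Q (hnab : ¬ ∀ a ∈ Q, ∀ b ∈ Q, a * b = b * a) :
    Nat.card Q = q ^ r * Nat.card ↥(Q ⊓ Subgroup.centralizer (Q : Set X)) := by
  set Z := Q ⊓ Subgroup.centralizer (Q : Set X) with hZ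
  set CQ := Q ⊓ Subgroup.centralizer ({x} : Set X) with hCQ
  set CZ := Z ⊓ Subgroup.centralizer ({x} : Set X) with hCZ
  have h1 : Q ⊓ Subgroup.centralizer (((S ⊔ Subgroup.zpowers x : Subgroup X)) : Set X) = CZ := by
    rw [Cfsg.Agent.Lib.Helper63_PGroup.centralizer_sup', centralizer_zpowers_eq, ← inf_assoc,
      h.fix_S hnab]
  have key := h.formula
  rw [h1, h.fix_S hnab] at key
  have hle : CZ ≤ CQ := inf_le_inf_right _ inf_le_left
  -- generator of `CQ`
  haveI := h.hCQ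
  obtain ⟨g, hg⟩ := IsCyclic.exists_generator (α := ↥CQ)
  have hord : orderOf (g : X) = Nat.card CQ := by
    rw [Subgroup.orderOf_coe]; exact orderOf_eq_card_of_forall_mem_zpowers hg
  have hgq : (g : X) ^ q ∈ CZ :=
    ⟨h.pow_mem_center _ g.2.1, Subgroup.pow_mem _ g.2.2 q⟩
  have hd1 : orderOf ((g : X) ^ q) ∣ Nat.card CZ := Subgroup.orderOf_dvd_natCard CZ hgq
  have hd2 : orderOf (g : X) ∣ q * orderOf ((g : X) ^ q) := by
    apply orderOf_dvd_of_pow_eq_one
    rw [pow_mul]; exact pow_orderOf_eq_one _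
  have hd3 : Nat.card CQ ∣ q * Nat.card CZ := hord ▸ hd2.trans (Nat.mul_dvd_mul_left q hd1)
  obtain ⟨c, hc⟩ := Subgroup.card_dvd_of_le hle
  have hapos : 0 < Nat.card CZ := Nat.card_pos
  have hcq : c ∣ q := by
    rw [hc, mul_comm q] at hd3
    exact Nat.dvd_of_mul_dvd_mul_left hapos hd3
  have h2 : Nat.card Q = c ^ r * Nat.card Z := by
    rw [hc, mul_pow, mul_assoc] at key
    exact Nat.eq_of_mul_eq_mul_left (pow_pos hapos r) key
  rcases (Nat.dvd_prime h.hq).mp hcq with h3 | h3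
  · exfalso
    rw [h3, one_pow, one_mul] at h2
    exact h.center_ne hnab (Subgroup.eq_of_le_of_card_ge inf_le_left h2.le)
  · rw [h2, h3]

theorem derived_exp : ∀ c ∈ ⁅Q, Q⁆, c ^ q = 1 := by
  have hcl := h.derived_le
  have key : ∀ c ∈ ⁅Q, Q⁆, c ∈ Subgroup.centralizer (Q : Set X) ∧ c ^ q = 1 := by
    intro c hc
    rw [Subgroup.commutator_def] at hc
    induction hc using Subgroup.closure_induction with
    | mem c hc =>
      obtain ⟨a, ha, b, hb, rfl⟩ := hc
      have h1 : ⁅a, b⁆ ∈ Subgroup.centralizer (Q : Set X) :=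
        hcl (Subgroup.commutator_mem_commutator ha hb)
      refine ⟨h1, ?_⟩
      have hcomm : Commute ⁅a, b⁆ a := (Subgroup.mem_centralizer_iff.mp h1 a ha).symm
      rw [← commutator_pow_of_commute hcomm q, commutatorElement_eq_one_iff_mul_comm]
      exact (Subgroup.mem_centralizer_iff.mp (h.pow_mem_center a ha).2 b hb).symm
    | one => exact ⟨Subgroup.one_mem _, one_pow q⟩
    | mul c d hc hd ihc ihd =>
      refine ⟨Subgroup.mul_mem _ ihc.1 ihd.1, ?_⟩
      have hdQ : d ∈ Q := by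
        have : d ∈ ⁅Q, Q⁆ := by rw [Subgroup.commutator_def]; exact hd
        exact Subgroup.commutator_le_self Q this
      have hcomm : Commute c d := (Subgroup.mem_centralizer_iff.mp ihc.1 d hdQ).symm
      rw [hcomm.mul_pow, ihc.2, ihd.2, one_mul]
    | inv c hc ihc =>
      exact ⟨Subgroup.inv_mem _ ihc.1, by rw [inv_pow, ihc.2, inv_one]⟩
  exact fun c hc => (key c hc).2

/-- Case B: `Q` cannot be nonabelian -/
theorem caseB (hodd : Odd (Nat.card X)) (hnab : ¬ ∀ a ∈ Q, ∀ b ∈ Q, a * b = b * a) : False := by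
  haveI : Fact q.Prime := ⟨h.hq⟩
  have hVtop : Subgroup.normalizer (V : Set X) = ⊤ := Subgroup.normalizer_eq_top_iff.mpr hVn
  have hcl := h.derived_le
  set A := ⁅Q, Q⁆ with hA
  have hAQ : A ≤ Q := Subgroup.commutator_le_self Q
  have hAc : ∀ a ∈ A, ∀ b ∈ A, a * b = b * a := fun a ha b hb =>
    (Subgroup.mem_centralizer_iff.mp (hcl ha) b (hAQ hb)).symm
  have hNA : Subgroup.normalizer (Q : Set X) ≤ Subgroup.normalizer (A : Set X) := fun g hg =>
    Cfsg.Agent.Lib.Helper24_CoprimeAction.mem_normalizer_commutator Q Q hg hg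
  have hA1 : A ≠ ⊥ := by
    intro h0
    apply hnab
    intro a ha b hb
    have : ⁅a, b⁆ ∈ A := Subgroup.commutator_mem_commutator ha hb
    rw [h0, Subgroup.mem_bot, commutatorElement_eq_one_iff_mul_comm] at this
    exact this
  have W := h.toSetup.whyp_of hAQ hAc (hNA h.hxQ)
  have hV1 : ⁅V, A⁆ ≠ ⊥ := h.toSetup.commutator_ne_bot hAQ hA1
  obtain ⟨Z', hZ'⟩ := exists_wt h.hq A ⁅V, A⁆ hAc h.derived_exp
    (h.toSetup.not_dvd_card_commutator A) W.hAV hV1 W.hfix
  have hZ'c : Z' ≤ Subgroup.centralizer (Q : Set X) := hZ'.1.trans hcl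
  have hQZ' : Q ≤ Subgroup.normalizer (Z' : Set X) :=
    (Subgroup.le_centralizer_iff.mp hZ'c).trans (Subgroup.centralizer_le_normalizer _)
  have hSZ' : S ≤ Subgroup.normalizer (Z' : Set X) := by
    have h1 : Z' ≤ Q ⊓ Subgroup.centralizer (Q : Set X) := le_inf (hZ'.1.trans hAQ) hZ'c
    have h2 : S ≤ Subgroup.centralizer (Z' : Set X) :=
      (h.S_le_centralizer_center hnab).trans (Subgroup.centralizer_le h1)
    exact h2.trans (Subgroup.centralizer_le_normalizer _)
  -- `x` normalizes `Z'`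
  have hxZ' : x ∈ Subgroup.normalizer (Z' : Set X) := by
    by_contra hxZ'
    obtain ⟨v₀, hv₀, hv₀1⟩ := (Subgroup.bot_or_exists_ne_one _).resolve_left hZ'.2.2
    set VZ := ⁅V, A⁆ ⊓ Subgroup.centralizer (Z' : Set X) with hVZ
    haveI : IsCyclic ↥VZ :=
      ⟨⟨⟨v₀, hv₀⟩, fun v => by
        obtain ⟨k, hk⟩ := Subgroup.mem_zpowers_iff.mp (W.cyclic_of_not_fix hZ' hxZ' hv₀ hv₀1 v.2)
        exact Subgroup.mem_zpowers_iff.mpr ⟨k, Subtype.ext (by rw [Subgroup.coe_zpow]; exact hk)⟩⟩⟩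
    have hQVA : Q ≤ Subgroup.normalizer ((⁅V, A⁆ : Subgroup X) : Set X) := fun a ha =>
      Cfsg.Agent.Lib.Helper24_CoprimeAction.mem_normalizer_commutator V A
        (by rw [hVtop]; trivial) (hNA (Subgroup.le_normalizer ha))
    have hnVZ : Q ≤ Subgroup.normalizer (VZ : Set X) := by
      intro g hg
      have hg1 := hQVA hg
      have hg3 := Cfsg.Agent.Lib.Helper24_CoprimeHall.normalizer_le_normalizer_centralizer Z' (hQZ' hg)
      rw [← cj_eq_self_iff] at hg1 hg3 ⊢
      rw [hVZ, cj_inf, hg1, hg3]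
    have h1 : A ≤ Subgroup.centralizer (VZ : Set X) := by
      rw [hA, Subgroup.commutator_le]
      intro a ha b hb
      exact commutator_mem_centralizer_of_isCyclic VZ (hnVZ ha) (hnVZ hb)
    have h2 : VZ ≤ ⁅V, A⁆ ⊓ Subgroup.centralizer (A : Set X) :=
      le_inf inf_le_left (Subgroup.le_centralizer_iff.mp h1)
    rw [W.hfix] at h2
    exact hZ'.2.2 (eq_bot_iff.mpr h2)
  -- the centre of `Q` modulo `Z'`
  let Zt : Subgroup X :=
    { carrier := {a | a ∈ Q ∧ ∀ b ∈ Q, ⁅a, b⁆ ∈ Z'}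
      one_mem' := ⟨Q.one_mem, fun b _ => by rw [commutatorElement_one_left]; exact Z'.one_mem⟩
      mul_mem' := by
        rintro a a' ⟨ha, hab⟩ ⟨ha', hab'⟩
        refine ⟨Q.mul_mem ha ha', fun b hb => ?_⟩
        have h1 : ⁅a * a', b⁆ = a * ⁅a', b⁆ * a⁻¹ * ⁅a, b⁆ := by
          simp only [commutatorElement_def]; group
        have h2 : a * ⁅a', b⁆ * a⁻¹ = ⁅a', b⁆ := by
          have := Subgroup.mem_centralizer_iff.mp (hZ'c (hab' b hb)) a ha
          rw [this]; group
        rw [h1, h2]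
        exact Z'.mul_mem (hab' b hb) (hab b hb)
      inv_mem' := by
        rintro a ⟨ha, hab⟩
        refine ⟨Q.inv_mem ha, fun b hb => ?_⟩
        have h1 : ⁅a⁻¹, b⁆ = a⁻¹ * ⁅a, b⁆⁻¹ * a := by
          simp only [commutatorElement_def]; group
        have h2 : a⁻¹ * ⁅a, b⁆⁻¹ * a = ⁅a, b⁆⁻¹ := by
          have := Subgroup.mem_centralizer_iff.mp (hZ'c (Z'.inv_mem (hab b hb))) a ha
          rw [mul_assoc, ← this]; group
        rw [h1, h2]
        exact Z'.inv_mem (hab b hb) }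
  have hZt_mem : ∀ a : X, a ∈ Zt ↔ a ∈ Q ∧ ∀ b ∈ Q, ⁅a, b⁆ ∈ Z' := fun a => Iff.rfl
  have hZtQ : Zt ≤ Q := fun a ha => ha.1
  have hZt_inv : ∀ g : X, g ∈ Subgroup.normalizer (Q : Set X) →
      g ∈ Subgroup.normalizer (Z' : Set X) → g ∈ Subgroup.normalizer (Zt : Set X) := by
    intro g hgQ hgZ
    have key : ∀ g : X, g ∈ Subgroup.normalizer (Q : Set X) →
        g ∈ Subgroup.normalizer (Z' : Set X) → ∀ a ∈ Zt, g * a * g⁻¹ ∈ Zt := by
      intro g hgQ hgZ a ha
      refine ⟨((Subgroup.mem_normalizer_iff.1 hgQ) a).1 ha.1, fun b hb => ?_⟩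
      have hb' : g⁻¹ * b * g ∈ Q := by
        have := ((Subgroup.mem_normalizer_iff.1 (Subgroup.inv_mem _ hgQ)) b).1 hb
        rwa [inv_inv] at this
      have h1 : ⁅g * a * g⁻¹, b⁆ = g * ⁅a, g⁻¹ * b * g⁆ * g⁻¹ := by
        simp only [commutatorElement_def]; group
      rw [h1]
      exact ((Subgroup.mem_normalizer_iff.1 hgZ) _).1 (ha.2 _ hb')
    rw [Subgroup.mem_normalizer_iff]
    intro a
    constructor
    · exact key g hgQ hgZ a
    · intro ha
      have := key g⁻¹ (Subgroup.inv_mem _ hgQ) (Subgroup.inv_mem _ hgZ) _ ha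
      have e : g⁻¹ * (g * a * g⁻¹) * g⁻¹⁻¹ = a := by group
      rwa [e] at this
  have hZt_ne : Zt ≠ Q := by
    intro h0
    have h1 : A ≤ Z' := by
      rw [hA, Subgroup.commutator_le]
      intro a ha b hb
      have : a ∈ Zt := by rw [h0]; exact ha
      exact this.2 b hb
    have h2 : Z'.relIndex A = 1 := Subgroup.relIndex_eq_one.mpr h1
    rw [hZ'.2.1] at h2
    exact h.hq.one_lt.ne' h2
  have hZt_le : Zt ≤ Subgroup.centralizer (Q : Set X) :=
    h.central_of_normal hZtQ hZt_ne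
      (fun a ha => hZt_inv a (Subgroup.le_normalizer ha) (hQZ' ha))
      (fun s hs => hZt_inv s (h.hSQ hs) (hSZ' hs)) (hZt_inv x h.hxQ hxZ')
  obtain ⟨m, hm⟩ := Cfsg.Agent.Lib.Helper52_ZQuot.quot_parity Q Z' h.hQq hcl hZ'.1 hZ'.2.1
    (fun a ha hab => hZt_le ⟨ha, hab⟩)
  -- compare with `|Q : Z(Q)| = q ^ r`
  have h1 := Cfsg.Agent.Lib.Helper63_PGroup.card_mul_relIndex
    (inf_le_left : Q ⊓ Subgroup.centralizer (Q : Set X) ≤ Q)
  rw [h.card_Q hnab, hm, mul_comm] at h1
  have h2 : q ^ (2 * m) = q ^ r :=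
    Nat.eq_of_mul_eq_mul_right Nat.card_pos h1
  have h3 : 2 * m = r := Nat.pow_right_injective h.hq.two_le h2
  have hrodd : Odd r := by
    have : r ∣ Nat.card X := by
      rw [← h.hS.hx]; exact orderOf_dvd_natCard x
    exact Odd.of_dvd_nat hodd this
  rw [← h3] at hrodd
  exact (Nat.not_odd_iff_even.mpr (even_two_mul m)) hrodd

end MinSetup

/-- **The core lemma**: in the configuration `Setup`, `S` centralizes `Q`. -/
theorem core [Group.IsSolvable X] (hodd : Odd (Nat.card X)) {p q r : ℕ} {V S : Subgroup X} {x : X}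
    [hVn : V.Normal] : ∀ (n : ℕ) (Q : Subgroup X), Nat.card Q = n → Setup p q r V S Q x →
      S ≤ Subgroup.centralizer (Q : Set X) := by
  intro n
  induction n using Nat.strong_induction_on with
  | _ n ih =>
    intro Q hn h
    by_contra hnc
    have hmin : ∀ D : Subgroup X, D ≤ Q → D ≠ Q → S ≤ Subgroup.normalizer (D : Set X) →
        x ∈ Subgroup.normalizer (D : Set X) → S ≤ Subgroup.centralizer (D : Set X) := by
      intro D hDQ hne hSD hxD
      have hlt : Nat.card D < n := by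
        rw [← hn]
        rcases (Subgroup.card_le_of_le hDQ).lt_or_eq with h1 | h1
        · exact h1
        · exact absurd (Subgroup.eq_of_le_of_card_ge hDQ h1.ge) hne
      have hle : D ⊓ Subgroup.centralizer ({x} : Set X) ≤ Q ⊓ Subgroup.centralizer ({x} : Set X) :=
        inf_le_inf_right _ hDQ
      haveI := h.hCQ
      have hD : Setup p q r V S D x :=
        { hS := h.hS
          hq := h.hq
          hpq := h.hpq
          hqr := h.hqr
          hVab := h.hVab
          hVexp := h.hVexp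
          hQq := h.hQq.to_le hDQ
          hSQ := hSD
          hxQ := hxD
          hfaith := by
            rw [eq_bot_iff, ← h.hfaith]
            exact inf_le_inf_right _ hDQ
          hCQ := isCyclic_of_injective (Subgroup.inclusion hle) (Subgroup.inclusion_injective hle)
          hCV := h.hCV }
      exact ih (Nat.card D) hlt D rfl hD
    have hM : MinSetup p q r V S Q x := { toSetup := h, hmin := hmin, hnc := hnc }
    by_cases hab : ∀ a ∈ Q, ∀ b ∈ Q, a * b = b * a
    · exact hM.caseA hodd hab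
    · exact hM.caseB hodd hab

end Cfsg.Agent.Lib.Helper52_ZCore
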