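import Mathlib
import Cfsg.Agent.Lib.Helper52_PLength
import Cfsg.Agent.S0029

/-!
# Criteria for `p`-length one (helper52, for BG 3.7)

* `plengthLE_one_of_normal_sylow`, `plengthLE_one_of_surjective_of_ker` (extension by a `p'`-kernel),
  `plengthLE_prod`, `plengthLE_of_subdirect`.
* `exists_normal_sylow_of_plengthLE_one`: `p`-length one and `O_{p'} = 1` give a normal Sylow `p`.
* `index_pCore_coprime_of_frattini_quotient`: the Frattini argument.
-/

set_option autoImplicit false
set_option linter.unusedSectionVars false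
set_option linter.style.haveILetI false
open Cfsg

namespace Cfsg.Agent.Lib.Helper52_ZPL

open Cfsg.Agent.Lib.Helper52_PLength Cfsg.Agent.Lib.Helper1_Cores

section
variable {G : Type*} [Group G] [Finite G] (p : ℕ) [hp : Fact p.Prime]

/-- a group with a normal Sylow `p`-subgroup has `p`-length at most one -/
theorem plengthLE_one_of_normal_sylow (V : Subgroup G) [V.Normal] (hV : IsPGroup p V)
    (hidx : (V.index).Coprime p) : PLengthLE p 1 G := by
  rw [plengthLE_iff]
  have h1 : V ≤ U p G (1 + 1) := by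
    refine engine p 1 ⊥ V bot_le ?_
    rw [stepNum_odd (by decide), Subgroup.relIndex_bot_left]
    exact IsPGroup.iff_card.mp hV
  have h2 : (⊤ : Subgroup G) ≤ U p G (2 + 1) := by
    have : (⊤ : Subgroup G).Normal := inferInstance
    refine engine p 2 V ⊤ h1 ?_
    rw [stepNum_even (by decide), Subgroup.relIndex_top_right]
    exact hidx
  exact top_le_iff.mp h2

/-- pulling back `p`-length one along a surjection with `p'`-kernel -/
theorem plengthLE_one_of_surjective_of_ker {B : Type*} [Group B] (f : G →* B)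
    (hf : Function.Surjective f) (hB : PLengthLE p 1 B) (hker : (Nat.card f.ker).Coprime p) :
    PLengthLE p 1 G := by
  haveI : Finite B := Finite.of_surjective f hf
  have h0 : PLengthLE p 0 ↥f.ker := (plengthLE_zero_iff p).mpr hker
  have h1 : PLengthLE p 1 (G ⧸ f.ker) :=
    PLengthLE.of_equiv (QuotientGroup.quotientKerEquivOfSurjective f hf).symm hB
  have := PLengthLE.ext f.ker h0 h1
  simpa using this

end

section prod
variable {A B : Type*} [Group A] [Group B] [Finite A] [Finite B]

theorem card_prod' (H : Subgroup A) (K : Subgroup B) :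
    Nat.card ↥(H.prod K) = Nat.card H * Nat.card K := by
  rw [Nat.card_congr (Subgroup.prodEquiv H K).toEquiv, Nat.card_prod]

theorem card_mul_relIndex' {G : Type*} [Group G] {H K : Subgroup G} (h : H ≤ K) :
    Nat.card H * H.relIndex K = Nat.card K := by
  rw [← Subgroup.relIndex_bot_left, ← Subgroup.relIndex_bot_left,
    Subgroup.relIndex_mul_relIndex ⊥ H K bot_le h]

theorem relIndex_prod {H₁ H₂ : Subgroup A} {K₁ K₂ : Subgroup B} (hH : H₁ ≤ H₂) (hK : K₁ ≤ K₂) :
    (H₁.prod K₁).relIndex (H₂.prod K₂) = H₁.relIndex H₂ * K₁.relIndex K₂ := by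
  have hle : H₁.prod K₁ ≤ H₂.prod K₂ := Subgroup.prod_mono hH hK
  have h1 := card_mul_relIndex' hle
  have h2 := card_mul_relIndex' hH
  have h3 := card_mul_relIndex' hK
  rw [card_prod', card_prod', ← h2, ← h3] at h1
  have hpos : 0 < Nat.card H₁ * Nat.card K₁ := Nat.mul_pos Nat.card_pos Nat.card_pos
  apply Nat.eq_of_mul_eq_mul_left hpos
  rw [h1]; ring

theorem plengthLE_prod (p : ℕ) [Fact p.Prime] (k : ℕ) (hA : PLengthLE p k A)
    (hB : PLengthLE p k B) : PLengthLE p k (A × B) := by
  rw [plengthLE_iff] at hA hB ⊢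
  have key := chain_le (G := A × B) p (fun j => (U p A j).prod (U p B j))
    (by
      show (U p A 0).prod (U p B 0) = ⊥
      rw [U_zero, U_zero, Subgroup.bot_prod_bot])
    (fun j => inferInstance)
    (fun j => by
      show StepNum p j (((U p A j).prod (U p B j)).relIndex ((U p A (j + 1)).prod (U p B (j + 1))))
      rw [relIndex_prod (U_le_succ p j) (U_le_succ p j)]
      exact (stepNum_U p j).mul (stepNum_U p j)) (2 * k + 1)
  have : (U p A (2 * k + 1)).prod (U p B (2 * k + 1)) = ⊤ := by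
    rw [hA, hB, Subgroup.top_prod_top]
  exact top_le_iff.mp (this ▸ key)

/-- `p`-length of a subdirect product -/
theorem plengthLE_of_subdirect (p : ℕ) [Fact p.Prime] (k : ℕ) {C : Type*} [Group C] [Finite C]
    (f₁ : C →* A) (f₂ : C →* B) (hker : f₁.ker ⊓ f₂.ker = ⊥) (hA : PLengthLE p k A)
    (hB : PLengthLE p k B) : PLengthLE p k C := by
  set g := f₁.prod f₂ with hg
  have hinj : Function.Injective g := by
    rw [← MonoidHom.ker_eq_bot_iff, eq_bot_iff, ← hker]
    intro c hc
    rw [MonoidHom.mem_ker, hg, MonoidHom.prod_apply, Prod.mk_eq_one] at hc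
    exact ⟨hc.1, hc.2⟩
  have h1 : PLengthLE p k ↥g.range := PLengthLE.subgroup g.range (plengthLE_prod p k hA hB)
  exact PLengthLE.of_equiv (MonoidHom.ofInjective hinj).symm h1

end prod

section frat
variable {A : Type*} [Group A] [Finite A] (p : ℕ) [hp : Fact p.Prime]

/-- `p`-length one with trivial `p'`-core: a normal Sylow `p`-subgroup -/
theorem exists_normal_sylow_of_plengthLE_one (hB : PLengthLE p 1 A) (hO : pPrimeCore p A = ⊥) :
    ∃ T : Subgroup A, T.Normal ∧ IsPGroup p T ∧ (T.index).Coprime p := by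
  rw [plengthLE_iff] at hB
  have h0 := stepNum_U (G := A) p 0
  rw [stepNum_even (by decide), U_zero, Subgroup.relIndex_bot_left] at h0
  have hU1 : U p A 1 = ⊥ := by
    rw [eq_bot_iff, ← hO]
    exact le_pPrimeCore inferInstance h0
  have h1 := stepNum_U (G := A) p 1
  rw [stepNum_odd (by decide)] at h1
  obtain ⟨a, ha⟩ := h1
  have h1' : (U p A 1).relIndex (U p A 2) = p ^ a := ha
  rw [hU1, Subgroup.relIndex_bot_left] at h1'
  have h2 := stepNum_U (G := A) p 2
  rw [stepNum_even (by decide)] at h2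
  have h2' : ((U p A 2).relIndex (U p A 3)).Coprime p := h2
  have h3 : U p A 3 = ⊤ := hB
  rw [h3, Subgroup.relIndex_top_right] at h2'
  exact ⟨U p A 2, inferInstance, IsPGroup.of_card h1', h2'⟩

/-- the Frattini argument for `p`-length one: if `C_A(O_p(A)) ≤ O_p(A)` and `A / Φ(O_p(A))` has
`p`-length one then `O_p(A)` is a Sylow `p`-subgroup of `A` -/
theorem index_pCore_coprime_of_frattini_quotient {B : Type*} [Group B] (f : A →* B)
    (hf : Function.Surjective f)
    (hC : Subgroup.centralizer ((pCore p A : Subgroup A) : Set A) ≤ pCore p A)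
    (hker : f.ker = (frattini ↥(pCore p A)).map (pCore p A).subtype)
    (hB : PLengthLE p 1 B) : ((pCore p A).index).Coprime p := by
  haveI : Finite B := Finite.of_surjective f hf
  have hpp : p.Prime := hp.out
  set V := pCore p A with hV
  have hVp : IsPGroup p V := pCore_isPGroup p
  have hkerV : f.ker ≤ V := by rw [hker]; exact Subgroup.map_subtype_le _
  -- `O_{p'}(B) = 1`
  have hO : pPrimeCore p B = ⊥ := by
    by_contra hne
    have hcop : (Nat.card (pPrimeCore p B)).Coprime p := pPrimeCore_card_coprime p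
    have hne1 : Nat.card (pPrimeCore p B) ≠ 1 := fun h1 => hne (Subgroup.card_eq_one.mp h1)
    obtain ⟨ℓ, hℓ, hℓd⟩ := Nat.exists_prime_and_dvd hne1
    haveI : Fact ℓ.Prime := ⟨hℓ⟩
    have hℓp : ℓ ≠ p := by
      rintro rfl
      exact (Nat.Prime.coprime_iff_not_dvd hℓ).mp hcop.symm hℓd
    set L := (pPrimeCore p B).comap f with hL
    have hLn : L.Normal := Subgroup.Normal.comap inferInstance f
    have hLmap : L.map f = pPrimeCore p B := Subgroup.map_comap_eq_self_of_surjective hf _
    have hℓL : ℓ ∣ Nat.card L := by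
      rw [← hLmap] at hℓd
      exact hℓd.trans (Subgroup.card_map_dvd _ _)
    obtain ⟨l, hl⟩ := exists_prime_orderOf_dvd_card' ℓ hℓL
    have hl' : orderOf (l : A) = ℓ := by rw [Subgroup.orderOf_coe]; exact hl
    set A₀ := Subgroup.zpowers (l : A) with hA₀
    have hA₀L : A₀ ≤ L := Subgroup.zpowers_le.mpr l.2
    have hA₀card : Nat.card A₀ = ℓ := by rw [hA₀, Nat.card_zpowers, hl']
    have hVtop : Subgroup.normalizer (V : Set A) = ⊤ :=
      Subgroup.normalizer_eq_top_iff.mpr inferInstance
    have hcopF : (Nat.card A₀).Coprime (Nat.card (frattini ↥V)) := by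
      obtain ⟨n, hn⟩ := IsPGroup.iff_card.mp (hVp.to_subgroup (frattini ↥V))
      rw [hA₀card, hn]
      exact Nat.Coprime.pow_right _ ((Nat.coprime_primes hℓ hpp).mpr hℓp)
    have htriv : ∀ a ∈ A₀, ∀ k ∈ V, a * k * a⁻¹ * k⁻¹ ∈ (frattini ↥V).map V.subtype := by
      intro a ha k hk
      rw [← hker, MonoidHom.mem_ker]
      have haL : a ∈ L := hA₀L ha
      have h1 : a * k * a⁻¹ * k⁻¹ ∈ V := by
        have : a * k * a⁻¹ ∈ V := (inferInstance : V.Normal).conj_mem k hk a
        exact V.mul_mem this (V.inv_mem hk)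
      have h2 : a * k * a⁻¹ * k⁻¹ ∈ L := by
        have : k * a⁻¹ * k⁻¹ ∈ L := hLn.conj_mem a⁻¹ (L.inv_mem haL) k
        have e : a * k * a⁻¹ * k⁻¹ = a * (k * a⁻¹ * k⁻¹) := by group
        rw [e]; exact L.mul_mem haL this
      have h3 : f (a * k * a⁻¹ * k⁻¹) ∈ pPrimeCore p B := h2
      obtain ⟨j, hj⟩ := (IsPGroup.iff_orderOf.mp hVp) ⟨_, h1⟩
      have h4 : orderOf (a * k * a⁻¹ * k⁻¹) = p ^ j := by
        rw [← hj, Subgroup.orderOf_mk]
      have h5 : orderOf (f (a * k * a⁻¹ * k⁻¹)) ∣ p ^ j := h4 ▸ orderOf_map_dvd f _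
      have h6 : orderOf (f (a * k * a⁻¹ * k⁻¹)) ∣ Nat.card (pPrimeCore p B) :=
        Subgroup.orderOf_dvd_natCard _ h3
      have h7 : orderOf (f (a * k * a⁻¹ * k⁻¹)) = 1 :=
        Nat.eq_one_of_dvd_coprimes (Nat.Coprime.pow_right j hcop) h6 h5
      exact orderOf_eq_one_iff.mp h7
    have h8 := Cfsg.Agent.S0029.result A₀ V (by rw [hVtop]; exact le_top) hcopF htriv
    have h9 : (l : A) ∈ V := hC (h8 (Subgroup.mem_zpowers _))
    have h10 : ℓ ∣ Nat.card V := by
      rw [← hl']; exact Subgroup.orderOf_dvd_natCard V h9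
    obtain ⟨n, hn⟩ := IsPGroup.iff_card.mp hVp
    rw [hn] at h10
    exact hℓp ((Nat.prime_dvd_prime_iff_eq hℓ hpp).mp (hℓ.dvd_of_dvd_pow h10))
  obtain ⟨T, hTn, hTp, hTi⟩ := exists_normal_sylow_of_plengthLE_one p hB hO
  have hTA : IsPGroup p (T.comap f) :=
    hTp.comap_of_ker_isPGroup f (hVp.to_le hkerV)
  have hle : T.comap f ≤ V := le_pCore (Subgroup.Normal.comap hTn f) hTA
  have hidx : (T.comap f).index = T.index := Subgroup.index_comap_of_surjective T hf
  exact Nat.Coprime.coprime_dvd_left (Subgroup.index_dvd_of_le hle) (hidx ▸ hTi)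

end frat

end Cfsg.Agent.Lib.Helper52_ZPL
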