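import Mathlib
import Cfsg.Prelude.Def_Local
import Cfsg.Agent.S0022
import Cfsg.Agent.S4227
import Cfsg.Agent.Lib.Helper52_ZPL
import Cfsg.Agent.Lib.Helper52_ZBase
import Cfsg.Agent.Lib.Helper24_CoprimeHall
import Cfsg.Agent.Lib.Helper10_QuadPair
import Cfsg.Agent.Lib.Lead_PSolvable

/-!
# BG 3.7, general preparations (helper52)

* `BG37 H R R₀`: the hypotheses of BG 3.7 together with `[H, R] = H`; `BG37.quot`: they pass to
  quotients by normal subgroups contained in `H`.
* `pp'`, `exists_VK`: the subgroups `V = O_p(H)`, `K = O_{p,p'}(H)` of the ambient group and their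
  properties when `O_{p'}(H) = 1`.
* `plength_of_quot`, `eq_top_of_forall_sylow_le`, `exists_min_invariant`, `commute_commutator`,
  `comm_of_isZGroup_of_commutator_eq`.
-/

set_option autoImplicit false
set_option linter.style.haveILetI false
set_option linter.unusedSectionVars false
open Cfsg

namespace Cfsg.Agent.Lib.Helper52_ZMainA

open scoped commutatorElement Pointwise
open Cfsg.Agent.Lib.Helper52_ZPL Cfsg.Agent.Lib.Helper52_ZBase

universe u

section bg

variable {G : Type u} [Group G]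

/-- The hypotheses of BG 3.7 with `H = [H, R]`. -/
structure BG37 (H R R₀ : Subgroup G) : Prop where
  odd : Odd (Nat.card G)
  hall : (Nat.card H).Coprime H.index
  compl : Subgroup.IsComplement' H R
  le : R₀ ≤ R
  prime : (Nat.card R₀).Prime
  zgrp : IsZGroup ↥(H ⊓ Subgroup.centralizer (R₀ : Set G))
  comm : ⁅H, R⁆ = H

namespace BG37

variable {H R R₀ : Subgroup G} (h : BG37 H R R₀)
include h

theorem index_eq : H.index = Nat.card R := h.compl.symm.index_eq_card

theorem coprime_HR : (Nat.card H).Coprime (Nat.card R) := by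
  rw [← h.index_eq]; exact h.hall

theorem coprime_R₀H : (Nat.card R₀).Coprime (Nat.card H) :=
  (h.coprime_HR.coprime_dvd_right (Subgroup.card_dvd_of_le h.le)).symm

theorem disjoint_HR : H ⊓ R = ⊥ := h.compl.disjoint.eq_bot

theorem disjoint_HR₀ : H ⊓ R₀ = ⊥ := by
  rw [eq_bot_iff, ← h.disjoint_HR]
  exact inf_le_inf_left H h.le

end BG37

variable [Finite G]

/-- Fixed points of `R₀` pass to the quotient by a normal subgroup `N ≤ H`. -/
theorem map_inf_centralizer (H R₀ N : Subgroup G) [H.Normal] [N.Normal] (hNH : N ≤ H)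
    (hcop : (Nat.card R₀).Coprime (Nat.card H))
    (hsolv : Group.IsSolvable R₀ ∨ Group.IsSolvable H) :
    (H ⊓ Subgroup.centralizer (R₀ : Set G)).map (QuotientGroup.mk' N) =
      H.map (QuotientGroup.mk' N) ⊓
        Subgroup.centralizer ((R₀.map (QuotientGroup.mk' N) : Subgroup (G ⧸ N)) : Set (G ⧸ N)) := by
  apply le_antisymm
  · rintro _ ⟨c, hc, rfl⟩
    rw [Subgroup.mem_inf]
    refine ⟨⟨c, hc.1, rfl⟩, ?_⟩
    rw [Subgroup.mem_centralizer_iff]
    rintro _ ⟨a, ha, rfl⟩
    have := Subgroup.mem_centralizer_iff.mp hc.2 a ha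
    rw [← map_mul, ← map_mul, this]
  · rintro y ⟨⟨k, hk, rfl⟩, hy⟩
    have hfix : ∀ a ∈ R₀, a * k * a⁻¹ * k⁻¹ ∈ N := by
      intro a ha
      have h1 := Subgroup.mem_centralizer_iff.mp hy (QuotientGroup.mk' N a) ⟨a, ha, rfl⟩
      rw [← QuotientGroup.eq_one_iff]
      have h2 : ((a * k * a⁻¹ * k⁻¹ : G) : G ⧸ N) =
          (QuotientGroup.mk' N a) * (QuotientGroup.mk' N k) * (QuotientGroup.mk' N a)⁻¹ *
            (QuotientGroup.mk' N k)⁻¹ := by
        simp
      rw [h2, h1]; group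
    obtain ⟨c, hc, hkc⟩ := Cfsg.Agent.S0022.result R₀ H
      (by rw [Subgroup.normalizer_eq_top_iff.mpr inferInstance]; exact le_top) hcop hsolv N hNH
      (by rw [Subgroup.normalizer_eq_top_iff.mpr inferInstance]; exact le_top)
      (by rw [Subgroup.normalizer_eq_top_iff.mpr inferInstance]; exact le_top) k hk hfix
    refine ⟨c, hc, ?_⟩
    have : (QuotientGroup.mk' N (k⁻¹ * c)) = 1 := (QuotientGroup.eq_one_iff _).mpr hkc
    rw [map_mul, map_inv, inv_mul_eq_one] at this
    exact this.symm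

theorem BG37.quot [Group.IsSolvable G] {H R R₀ : Subgroup G} [H.Normal] (h : BG37 H R R₀)
    (N : Subgroup G) [N.Normal] (hNH : N ≤ H) :
    BG37 (H.map (QuotientGroup.mk' N)) (R.map (QuotientGroup.mk' N))
      (R₀.map (QuotientGroup.mk' N)) := by
  set π := QuotientGroup.mk' N with hπ
  have hsurj : Function.Surjective π := QuotientGroup.mk'_surjective N
  have hker : π.ker = N := QuotientGroup.ker_mk' N
  have hcopHR : (Nat.card ↥(H.map π)).Coprime (Nat.card ↥(R.map π)) :=
    (h.coprime_HR.coprime_dvd_left (Subgroup.card_map_dvd H π)).coprime_dvd_right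
      (Subgroup.card_map_dvd R π)
  have hcompl : Subgroup.IsComplement' (H.map π) (R.map π) := by
    apply Subgroup.isComplement'_of_disjoint_and_mul_eq_univ
    · exact Subgroup.disjoint_of_coprime_natCard hcopHR
    · rw [Set.eq_univ_iff_forall]
      intro y
      obtain ⟨g, rfl⟩ := hsurj y
      have hg : g ∈ (H : Set G) * (R : Set G) := by
        rw [h.compl.mul_eq]; exact Set.mem_univ g
      obtain ⟨a, ha, b, hb, rfl⟩ := Set.mem_mul.mp hg
      rw [map_mul]
      exact Set.mul_mem_mul ⟨a, ha, rfl⟩ ⟨b, hb, rfl⟩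
  refine ⟨?_, ?_, hcompl, Subgroup.map_mono h.le, ?_, ?_, ?_⟩
  · have hdvd : Nat.card (G ⧸ N) ∣ Nat.card G := by
      rw [← Subgroup.index_eq_card]; exact Subgroup.index_dvd_card N
    exact Odd.of_dvd_nat h.odd hdvd
  · rw [hcompl.symm.index_eq_card]; exact hcopHR
  · -- `R₀` maps isomorphically
    have hdvd := Subgroup.card_map_dvd R₀ π
    rcases (Nat.dvd_prime h.prime).mp hdvd with h1 | h1
    · exfalso
      have hbot : R₀.map π = ⊥ := Subgroup.card_eq_one.mp h1
      have hle : R₀ ≤ N := by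
        rw [← hker]; exact (Subgroup.map_eq_bot_iff R₀).mp hbot
      have : R₀ ≤ H ⊓ R₀ := le_inf (hle.trans hNH) le_rfl
      rw [h.disjoint_HR₀, le_bot_iff] at this
      have hp := h.prime
      rw [this, Subgroup.card_bot] at hp
      exact Nat.not_prime_one hp
    · rw [h1]; exact h.prime
  · have hsolvH : Group.IsSolvable ↥H := inferInstance
    rw [← map_inf_centralizer H R₀ N hNH h.coprime_R₀H (Or.inr hsolvH)]
    haveI := h.zgrp
    exact IsZGroup.of_surjective (f := π.subgroupMap (H ⊓ Subgroup.centralizer (R₀ : Set G)))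
      (MonoidHom.subgroupMap_surjective π _)
  · rw [← Subgroup.map_commutator, h.comm]

end bg

section typelevel

variable {A : Type u} [Group A] [Finite A] (p : ℕ) [hp : Fact p.Prime]

/-- The subgroup `O_{p,p'}(A)`. -/
noncomputable def pp' : Subgroup A :=
  (pPrimeCore p (A ⧸ pCore p A)).comap (QuotientGroup.mk' (pCore p A))

theorem pCore_le_pp' : pCore p A ≤ pp' (A := A) p := by
  intro a ha
  rw [pp', Subgroup.mem_comap]
  have : QuotientGroup.mk' (pCore p A) a = 1 := (QuotientGroup.eq_one_iff a).mpr ha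
  rw [this]; exact Subgroup.one_mem _

instance pp'_characteristic : (pp' (A := A) p).Characteristic :=
  Subgroup.Characteristic.comap_quotient_mk
    (Cfsg.Agent.Lib.Helper1_Cores.instPPrimeCoreCharacteristic p)

theorem relIndex_pCore_pp' : ((pCore p A).relIndex (pp' (A := A) p)).Coprime p := by
  have h1 : pCore p A = (⊥ : Subgroup (A ⧸ pCore p A)).comap (QuotientGroup.mk' (pCore p A)) := by
    have := QuotientGroup.ker_mk' (pCore p A)
    rw [MonoidHom.ker] at this
    exact this.symm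
  have h2 : (pp' (A := A) p).map (QuotientGroup.mk' (pCore p A)) = pPrimeCore p (A ⧸ pCore p A) := by
    rw [pp', Subgroup.map_comap_eq_self_of_surjective (QuotientGroup.mk'_surjective _)]
  conv_lhs => rw [h1]
  rw [Subgroup.relIndex_comap, h2, Subgroup.relIndex_bot_left]
  exact Cfsg.Agent.Lib.Helper1_Cores.pPrimeCore_card_coprime p

theorem mem_pp'_of_commutator [Group.IsSolvable A] (a : A)
    (h : ∀ k ∈ pp' (A := A) p, ⁅a, k⁆ ∈ pCore p A) : a ∈ pp' (A := A) p := by
  rw [pp', Subgroup.mem_comap]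
  have hsol : IsPSolvable p (A ⧸ pCore p A) :=
    Cfsg.Agent.Lib.Lead_PSolvable.isPSolvable_of_isSolvable p
  have hcore : pCore p (A ⧸ pCore p A) = ⊥ := Cfsg.Agent.S4227.pCore_quotient_pCore p
  apply Cfsg.Agent.Lib.Helper10_QuadPair.centralizer_pPrimeCore_le p hsol hcore
  rw [Subgroup.mem_centralizer_iff]
  intro b hb
  obtain ⟨k, rfl⟩ := QuotientGroup.mk'_surjective (pCore p A) b
  have hk : k ∈ pp' (A := A) p := by rw [pp', Subgroup.mem_comap]; exact hb
  have h1 := h k hk
  rw [← QuotientGroup.eq_one_iff, ← QuotientGroup.mk'_apply, map_commutatorElement,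
    commutatorElement_eq_one_iff_mul_comm] at h1
  exact h1.symm

end typelevel

section ambient1

variable {G : Type u} [Group G] [Finite G] (p : ℕ) [hp : Fact p.Prime]

theorem exists_VK (H : Subgroup G) [H.Normal] [Group.IsSolvable ↥H]
    (hO : pPrimeCore p ↥H = ⊥) :
    ∃ V K : Subgroup G, V.Normal ∧ K.Normal ∧ V ≤ K ∧ K ≤ H ∧ V = (pCore p ↥H).map H.subtype ∧
      H ⊓ Subgroup.centralizer (V : Set G) ≤ V ∧ (V.relIndex K).Coprime p ∧
      ∀ h ∈ H, (∀ k ∈ K, ⁅h, k⁆ ∈ V) → h ∈ K := by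
  refine ⟨(pCore p ↥H).map H.subtype, (pp' (A := ↥H) p).map H.subtype, inferInstance, inferInstance,
    Subgroup.map_mono (pCore_le_pp' p), Subgroup.map_subtype_le _, rfl, ?_, ?_, ?_⟩
  · rintro h ⟨hH, hc⟩
    have h1 : (⟨h, hH⟩ : ↥H) ∈ Subgroup.centralizer ((pCore p ↥H : Subgroup ↥H) : Set ↥H) := by
      rw [Subgroup.mem_centralizer_iff]
      intro v hv
      apply Subtype.ext
      rw [Subgroup.coe_mul, Subgroup.coe_mul]
      exact Subgroup.mem_centralizer_iff.mp hc (v : G) ⟨v, hv, rfl⟩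
    have h2 := Cfsg.Agent.S4227.centralizer_pCore_le p hO h1
    exact ⟨⟨h, hH⟩, h2, rfl⟩
  · rw [Subgroup.relIndex_map_map_of_injective _ _ H.subtype_injective]
    exact relIndex_pCore_pp' p
  · intro h hH hk
    have h1 : (⟨h, hH⟩ : ↥H) ∈ pp' (A := ↥H) p := by
      apply mem_pp'_of_commutator
      intro k hk'
      obtain ⟨w, hw, hwe⟩ := hk (k : G) ⟨k, hk', rfl⟩
      have : w = ⁅(⟨h, hH⟩ : ↥H), k⁆ := by
        apply Subtype.ext
        rw [show ((⁅(⟨h, hH⟩ : ↥H), k⁆ : ↥H) : G) = ⁅h, (k : G)⁆ from by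
          simp [commutatorElement_def]]
        exact hwe
      rw [← this]; exact hw
    exact ⟨⟨h, hH⟩, h1, rfl⟩

end ambient1

section ambient2

variable {G : Type u} [Group G] [Finite G] (p : ℕ) [hp : Fact p.Prime]

theorem ker_subgroupMap_mk' (H N : Subgroup G) [N.Normal] :
    ((QuotientGroup.mk' N).subgroupMap H).ker = N.subgroupOf H := by
  ext a
  rw [MonoidHom.mem_ker, Subgroup.mem_subgroupOf]
  constructor
  · intro h
    have := congrArg Subtype.val h
    rw [MonoidHom.subgroupMap_apply_coe, Subgroup.coe_one] at this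
    exact (QuotientGroup.eq_one_iff _).mp this
  · intro h
    apply Subtype.ext
    rw [MonoidHom.subgroupMap_apply_coe, Subgroup.coe_one]
    exact (QuotientGroup.eq_one_iff _).mpr h

theorem plength_of_quot (H N : Subgroup G) [N.Normal] (hNH : N ≤ H)
    (hB : PLengthLE p 1 ↥(H.map (QuotientGroup.mk' N))) (hcop : (Nat.card N).Coprime p) :
    PLengthLE p 1 ↥H := by
  apply plengthLE_one_of_surjective_of_ker p ((QuotientGroup.mk' N).subgroupMap H)
    (MonoidHom.subgroupMap_surjective _ _) hB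
  rw [ker_subgroupMap_mk', Cfsg.Agent.Lib.Helper24_CoprimeAction.card_subgroupOf_of_le hNH]
  exact hcop

/-- A subgroup containing a Sylow `q`-subgroup for every prime `q` is the whole group. -/
theorem eq_top_of_forall_sylow_le (C : Subgroup G)
    (h : ∀ q : ℕ, ∀ _ : Fact q.Prime, ∃ Q : Sylow q G, (Q : Subgroup G) ≤ C) : C = ⊤ := by
  apply Subgroup.eq_top_of_card_eq
  apply Nat.dvd_antisymm (Subgroup.card_subgroup_dvd_card C)
  rw [← Nat.factorization_prime_le_iff_dvd Nat.card_pos.ne' Nat.card_pos.ne']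
  intro q hq
  haveI : Fact q.Prime := ⟨hq⟩
  obtain ⟨Q, hQ⟩ := h q ⟨hq⟩
  rw [← Nat.Prime.pow_dvd_iff_le_factorization hq Nat.card_pos.ne', ← Sylow.card_eq_multiplicity Q]
  exact Subgroup.card_dvd_of_le hQ

/-- A minimal nontrivial `x`-invariant subgroup of a nontrivial `x`-invariant subgroup. -/
theorem exists_min_invariant (P : Subgroup G) (x : G) (hP : P ≠ ⊥)
    (hx : x ∈ Subgroup.normalizer (P : Set G)) :
    ∃ S : Subgroup G, S ≤ P ∧ S ≠ ⊥ ∧ x ∈ Subgroup.normalizer (S : Set G) ∧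
      ∀ T : Subgroup G, T ≤ S → x ∈ Subgroup.normalizer (T : Set G) → T = ⊥ ∨ T = S := by
  obtain ⟨S, hS⟩ := exists_minimal_of_wellFoundedLT
    (fun T : Subgroup G => T ≤ P ∧ T ≠ ⊥ ∧ x ∈ Subgroup.normalizer (T : Set G)) ⟨P, le_rfl, hP, hx⟩
  refine ⟨S, hS.1.1, hS.1.2.1, hS.1.2.2, ?_⟩
  intro T hTS hxT
  by_cases hT : T = ⊥
  · exact Or.inl hT
  · right
    exact le_antisymm hTS (hS.2 ⟨hTS.trans hS.1.1, hT, hxT⟩ hTS)

/-- if `y` commutes with `b` and with `a⁻¹ b a`, then `[a, y]` commutes with `b` -/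
theorem commute_commutator {a y b : G} (h1 : Commute y b) (h2 : Commute y (a⁻¹ * b * a)) :
    Commute ⁅a, y⁆ b := by
  have h1' : y⁻¹ * b * y = b := by rw [mul_assoc, ← h1.eq]; group
  have h2' : y * (a⁻¹ * b * a) * y⁻¹ = a⁻¹ * b * a := by rw [h2.eq]; group
  have key : ⁅a, y⁆ * b * ⁅a, y⁆⁻¹ = b := by
    calc ⁅a, y⁆ * b * ⁅a, y⁆⁻¹ = a * (y * (a⁻¹ * (y⁻¹ * b * y) * a) * y⁻¹) * a⁻¹ := by
          rw [commutatorElement_def]; group
      _ = b := by rw [h1', h2']; group
  rw [Commute, SemiconjBy]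
  calc ⁅a, y⁆ * b = (⁅a, y⁆ * b * ⁅a, y⁆⁻¹) * ⁅a, y⁆ := by group
    _ = b * ⁅a, y⁆ := by rw [key]

end ambient2

/-- A normal Z-subgroup `H` with `[H, R] = H` is abelian. -/
theorem comm_of_isZGroup_of_commutator_eq {Γ : Type*} [Group Γ] [Finite Γ] (H R : Subgroup Γ)
    [H.Normal] [IsZGroup ↥H] (hHR : ⁅H, R⁆ = H) : ∀ a ∈ H, ∀ b ∈ H, a * b = b * a := by
  set D : Subgroup Γ := ⁅H, H⁆ with hD
  have hDn : D.Normal := Subgroup.commutator_normal H H
  have hDmap : (commutator ↥H).map H.subtype = D := Subgroup.map_subtype_commutator H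
  haveI hcyc0 : IsCyclic ↥(commutator ↥H) := IsZGroup.isCyclic_commutator ↥H
  haveI hcyc : IsCyclic ↥D := by
    rw [← hDmap]
    exact isCyclic_of_surjective (H.subtype.subgroupMap (commutator ↥H))
      (MonoidHom.subgroupMap_surjective _ _)
  have hcen : H ≤ Subgroup.centralizer (D : Set Γ) := by
    rw [← hHR, Subgroup.commutator_le]
    intro a _ b _
    apply commutator_mem_centralizer_of_isCyclic D
    · rw [Subgroup.normalizer_eq_top_iff.mpr hDn]; trivial
    · rw [Subgroup.normalizer_eq_top_iff.mpr hDn]; trivial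
  have hnil : Group.IsNilpotent ↥H := by
    haveI : Group.IsNilpotent (Abelianization ↥H) := CommGroup.isNilpotent
    apply Subgroup.isNilpotent_of_ker_le_center (Abelianization.of (G := ↥H))
    rw [Abelianization.ker_of]
    intro d hd
    rw [Subgroup.mem_center_iff]
    intro g
    have hdD : (d : Γ) ∈ D := by rw [← hDmap]; exact ⟨d, hd, rfl⟩
    have := Subgroup.mem_centralizer_iff.mp (hcen g.2) (d : Γ) hdD
    apply Subtype.ext
    rw [Subgroup.coe_mul, Subgroup.coe_mul]
    exact this.symm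
  haveI : IsCyclic ↥H := inferInstance
  intro a ha b hb
  have := (IsCyclic.commGroup (α := ↥H)).mul_comm ⟨a, ha⟩ ⟨b, hb⟩
  exact congrArg Subtype.val this

end Cfsg.Agent.Lib.Helper52_ZMainA
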