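import Mathlib
import Cfsg.Agent.Lib.Helper52_ZMainA
import Cfsg.Agent.Lib.Helper52_ZCoreB
import Cfsg.Agent.Lib.Helper52_PrimeAct
import Cfsg.Agent.S0023
import Cfsg.Agent.S0027
import Cfsg.Agent.S4370

/-!
# BG 3.7, the reduced configuration (helper52)

`Red p H R R₀ V K`: `V = O_p(H)` elementary abelian and self-centralizing in `H`, `K = O_{p,p'}(H)`.
* `Red.caseA`: if `C_V(R₀) = 1` then `R₀` centralizes `H / V`, which is then an abelian Z-group.
* `Red.caseB`: if `C_V(R₀) ≠ 1` and `C_V(K) = 1` the core lemma `Helper52_ZCore.core` applies.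
* `Red.main`: in both cases `V` is a Sylow `p`-subgroup of `H`.
-/

set_option autoImplicit false
set_option linter.style.haveILetI false
set_option linter.unusedSectionVars false
open Cfsg

namespace Cfsg.Agent.Lib.Helper52_ZMainB

open scoped commutatorElement Pointwise
open Cfsg.Agent.Lib.Helper52_ZPL Cfsg.Agent.Lib.Helper52_ZBase Cfsg.Agent.Lib.Helper52_ZMainA
  Cfsg.Agent.Lib.Helper24_CoprimeHall Cfsg.Agent.Lib.Helper52_ZS Cfsg.Agent.Lib.Helper52_ZCore
  Cfsg.Agent.Lib.Helper52_PrimeAct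

universe u
variable {G : Type u} [Group G] [Finite G]

/-- the set of primes different from `p` -/
def pi' (p : ℕ) : Set ℕ := {q | q ≠ p}

section VK

variable {p : ℕ} [hp : Fact p.Prime] {V K : Subgroup G} [V.Normal]

theorem not_dvd_card_of_piHall {K₀ : Subgroup G} (h : PiHall (pi' p) K₀ K) : ¬ p ∣ Nat.card K₀ :=
  fun hd => h.2.1 p hp.out hd rfl

theorem coprime_card_of_piHall (hVp : IsPGroup p V) {K₀ : Subgroup G} (h : PiHall (pi' p) K₀ K) :
    (Nat.card V).Coprime (Nat.card K₀) := by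
  obtain ⟨n, hn⟩ := IsPGroup.iff_card.mp hVp
  rw [hn]
  exact Nat.Coprime.pow_left n ((Nat.Prime.coprime_iff_not_dvd hp.out).mpr (not_dvd_card_of_piHall h))

theorem inf_piHall (hVp : IsPGroup p V) {K₀ : Subgroup G} (h : PiHall (pi' p) K₀ K) :
    V ⊓ K₀ = ⊥ :=
  (Subgroup.disjoint_of_coprime_natCard (coprime_card_of_piHall hVp h)).eq_bot

theorem sup_piHall (hVK : V ≤ K) (hKV : (V.relIndex K).Coprime p) {K₀ : Subgroup G}
    (h : PiHall (pi' p) K₀ K) : V ⊔ K₀ = K := by
  apply le_antisymm (sup_le hVK h.1)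
  rw [← Subgroup.relIndex_eq_one]
  by_contra hne
  obtain ⟨q, hq, hqd⟩ := Nat.exists_prime_and_dvd hne
  have h1 : q ∣ V.relIndex K := hqd.trans (Subgroup.relIndex_dvd_of_le_left K le_sup_left)
  have h2 : q ∣ K₀.relIndex K := hqd.trans (Subgroup.relIndex_dvd_of_le_left K le_sup_right)
  have hqp : q ≠ p := by
    rintro rfl
    exact (Nat.Prime.coprime_iff_not_dvd hq).mp hKV.symm h1
  rw [relIndex_eq_div h.1] at h2
  exact h.2.2 q hq hqp h2

theorem le_of_isPGroup_of_le (hVp : IsPGroup p V) (hVK : V ≤ K) (hKV : (V.relIndex K).Coprime p)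
    {P : Subgroup G} (hP : IsPGroup p P) (hPK : P ≤ K) : P ≤ V := by
  have hPV : IsPGroup p ↥(P ⊔ V) := hP.to_sup_of_normal_right hVp
  have h1 : V.relIndex (P ⊔ V) ∣ V.relIndex K := by
    rw [← Subgroup.relIndex_mul_relIndex V (P ⊔ V) K le_sup_right (sup_le hPK hVK)]
    exact dvd_mul_right _ _
  obtain ⟨m, hm⟩ := IsPGroup.iff_card.mp hPV
  have h2 : V.relIndex (P ⊔ V) ∣ p ^ m := by
    rw [← hm]; exact Subgroup.relIndex_dvd_card _ _
  obtain ⟨j, _, hj⟩ := (Nat.dvd_prime_pow hp.out).mp h2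
  have h3 : V.relIndex (P ⊔ V) = 1 := by
    rcases Nat.eq_zero_or_pos j with h0 | h0
    · rw [hj, h0, pow_zero]
    · exfalso
      have : p ∣ V.relIndex K := (hj ▸ dvd_pow_self p h0.ne').trans h1
      exact (Nat.Prime.coprime_iff_not_dvd hp.out).mp hKV.symm this
  exact le_sup_left.trans (Subgroup.relIndex_eq_one.mp h3)

end VK

/-- a generator of a subgroup of prime order -/
theorem exists_generator_of_prime_card (R₀ : Subgroup G) (h : (Nat.card R₀).Prime) :
    ∃ x : G, orderOf x = Nat.card R₀ ∧ R₀ = Subgroup.zpowers x := by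
  haveI : Fact (Nat.card R₀).Prime := ⟨h⟩
  haveI : IsCyclic ↥R₀ := isCyclic_of_prime_card rfl
  obtain ⟨g, hg⟩ := IsCyclic.exists_generator (α := ↥R₀)
  refine ⟨(g : G), ?_, ?_⟩
  · rw [Subgroup.orderOf_coe, orderOf_eq_card_of_forall_mem_zpowers hg]
  · apply le_antisymm
    · intro y hy
      obtain ⟨k, hk⟩ := Subgroup.mem_zpowers_iff.mp (hg ⟨y, hy⟩)
      rw [Subgroup.mem_zpowers_iff]
      refine ⟨k, ?_⟩
      have := congrArg Subtype.val hk
      simpa using this
    · rw [Subgroup.zpowers_le]; exact g.2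

section cmod

variable (V : Subgroup G) [V.Normal]

/-- elements centralizing `A` modulo the normal subgroup `V` -/
def cmod (A : Subgroup G) : Subgroup G :=
  (Subgroup.centralizer ((A.map (QuotientGroup.mk' V) : Subgroup (G ⧸ V)) : Set (G ⧸ V))).comap
    (QuotientGroup.mk' V)

theorem mem_cmod {A : Subgroup G} {g : G} : g ∈ cmod V A ↔ ∀ a ∈ A, ⁅g, a⁆ ∈ V := by
  rw [cmod, Subgroup.mem_comap, Subgroup.mem_centralizer_iff]
  constructor
  · intro h a ha
    have h1 := h (QuotientGroup.mk' V a) ⟨a, ha, rfl⟩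
    rw [← QuotientGroup.eq_one_iff, ← QuotientGroup.mk'_apply, map_commutatorElement,
      commutatorElement_eq_one_iff_mul_comm]
    exact h1.symm
  · rintro h _ ⟨a, ha, rfl⟩
    have h1 := h a ha
    rw [← QuotientGroup.eq_one_iff, ← QuotientGroup.mk'_apply, map_commutatorElement,
      commutatorElement_eq_one_iff_mul_comm] at h1
    exact h1.symm

theorem le_cmod (A : Subgroup G) : V ≤ cmod V A := by
  intro v hv
  rw [mem_cmod]
  intro a _
  rw [commutatorElement_def]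
  have h1 : a * v⁻¹ * a⁻¹ ∈ V := (inferInstance : V.Normal).conj_mem _ (V.inv_mem hv) a
  have : v * a * v⁻¹ * a⁻¹ = v * (a * v⁻¹ * a⁻¹) := by group
  rw [this]
  exact V.mul_mem hv h1

theorem centralizer_le_cmod {A L : Subgroup G} (h : A ≤ Subgroup.centralizer (L : Set G)) :
    L ≤ cmod V A := by
  intro l hl
  rw [mem_cmod]
  intro a ha
  have h1 : a * l = l * a := (Subgroup.mem_centralizer_iff.mp (h ha) l hl).symm
  have : ⁅l, a⁆ = 1 := commutatorElement_eq_one_iff_mul_comm.mpr h1.symm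
  rw [this]; exact V.one_mem

end cmod

/-- a `q`-subgroup of a Z-subgroup is cyclic -/
theorem isCyclic_of_le_zgroup (C : Subgroup G) [IsZGroup ↥C] {q : ℕ} [Fact q.Prime] {T : Subgroup G}
    (hTC : T ≤ C) (hT : IsPGroup q T) : IsCyclic ↥T := by
  have h1 : IsPGroup q ↥(T.subgroupOf C) := hT.comap_subtype
  haveI : IsCyclic ↥(T.subgroupOf C) := IsPGroup.isCyclic_of_isZGroup h1
  exact isCyclic_of_surjective (Subgroup.subgroupOfEquivOfLe hTC)
    (Subgroup.subgroupOfEquivOfLe hTC).surjective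

theorem mem_normalizer_inf {A B : Subgroup G} {g : G} (hA : g ∈ Subgroup.normalizer (A : Set G))
    (hB : g ∈ Subgroup.normalizer (B : Set G)) : g ∈ Subgroup.normalizer ((A ⊓ B : Subgroup G) : Set G) := by
  rw [Subgroup.mem_normalizer_iff] at hA hB ⊢
  intro y
  rw [Subgroup.mem_inf, Subgroup.mem_inf, hA y, hB y]

theorem mem_normalizer_centralizer {A : Subgroup G} {g : G} (hA : g ∈ Subgroup.normalizer (A : Set G)) :
    g ∈ Subgroup.normalizer ((Subgroup.centralizer (A : Set G) : Subgroup G) : Set G) :=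
  Cfsg.Agent.Lib.Helper24_CoprimeHall.normalizer_le_normalizer_centralizer A hA

/-- The reduced configuration of BG 3.7. -/
structure Red (p : ℕ) (H R R₀ V K : Subgroup G) : Prop where
  base : BG37 H R R₀
  hVK : V ≤ K
  hKH : K ≤ H
  hVab : ∀ a ∈ V, ∀ b ∈ V, a * b = b * a
  hVexp : ∀ a ∈ V, a ^ p = 1
  hCV : H ⊓ Subgroup.centralizer (V : Set G) ≤ V
  hKV : (V.relIndex K).Coprime p
  hCK : ∀ h ∈ H, (∀ k ∈ K, ⁅h, k⁆ ∈ V) → h ∈ K

namespace Red

variable [Group.IsSolvable G] {p : ℕ} [hp : Fact p.Prime] {H R R₀ V K : Subgroup G}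
  [hHn : H.Normal] [hVn : V.Normal] [hKn : K.Normal] (h : Red p H R R₀ V K)
include h hHn hVn hKn hp

theorem isPGroup_V : IsPGroup p V := by
  intro a
  refine ⟨1, ?_⟩
  apply Subtype.ext
  rw [pow_one, Subgroup.coe_pow, Subgroup.coe_one]
  exact h.hVexp a a.2

theorem elem_V : Cfsg.IsElementaryAbelian p V :=
  ⟨isMulCommutative_of_comm V h.hVab, h.hVexp⟩

theorem normalizer_top (N : Subgroup G) [N.Normal] (A : Subgroup G) :
    A ≤ Subgroup.normalizer (N : Set G) := by
  rw [Subgroup.normalizer_eq_top_iff.mpr inferInstance]; exact le_top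

theorem not_dvd_card_H : ¬ Nat.card R₀ ∣ Nat.card H := by
  intro hd
  have := Nat.eq_one_of_dvd_coprimes h.base.coprime_R₀H dvd_rfl hd
  exact h.base.prime.one_lt.ne' this

theorem ne_of_V_ne_bot (hV1 : V ≠ ⊥) : p ≠ Nat.card R₀ := by
  intro he
  apply h.not_dvd_card_H
  rw [← he]
  have h1 : p ∣ Nat.card V := by
    obtain ⟨n, hn⟩ := IsPGroup.iff_card.mp h.isPGroup_V
    rw [hn]
    apply dvd_pow_self
    rintro rfl
    rw [pow_zero] at hn
    exact hV1 (Subgroup.card_eq_one.mp hn)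
  exact h1.trans (Subgroup.card_dvd_of_le (h.hVK.trans h.hKH))

/-- In case (a), `R₀` centralizes every `R₀`-invariant `p'`-subgroup of `H`. -/
theorem cent_of_invariant (hodd : Odd (Nat.card G)) (h36 : BG36 G) (hV1 : V ≠ ⊥)
    (hfix : V ⊓ Subgroup.centralizer (R₀ : Set G) = ⊥)
    (L : Subgroup G) (hLH : L ≤ H) (hRL : R₀ ≤ Subgroup.normalizer (L : Set G))
    (hpL : ¬ p ∣ Nat.card L) : R₀ ≤ Subgroup.centralizer (L : Set G) := by
  obtain ⟨x, hx, hR₀⟩ := exists_generator_of_prime_card R₀ h.base.prime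
  have hr := h.base.prime
  have hpr := h.ne_of_V_ne_bot hV1
  have hCV : ∀ v ∈ V, x * v = v * x → v = 1 := by
    intro v hv hc
    have : v ∈ V ⊓ Subgroup.centralizer (R₀ : Set G) := by
      refine ⟨hv, ?_⟩
      rw [hR₀, centralizer_zpowers_eq]
      exact Subgroup.mem_centralizer_singleton_iff.mpr hc.symm
    rw [hfix] at this
    exact Subgroup.mem_bot.mp this
  have hrL : ¬ Nat.card R₀ ∣ Nat.card L := fun hd =>
    h.not_dvd_card_H (hd.trans (Subgroup.card_dvd_of_le hLH))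
  have hLx : Subgroup.zpowers x ≤ Subgroup.normalizer (L : Set G) := by rw [← hR₀]; exact hRL
  have key := commutator_mem_centralizer_of_invariant hodd h36 hp.out hr hpr V h.elem_V x hx hCV L
    hLx hpL hrL
  have hVL : V ⊓ L = ⊥ := by
    obtain ⟨n, hn⟩ := IsPGroup.iff_card.mp h.isPGroup_V
    apply (Subgroup.disjoint_of_coprime_natCard _).eq_bot
    rw [hn]
    exact Nat.Coprime.pow_left n ((Nat.Prime.coprime_iff_not_dvd hp.out).mpr hpL)
  have hxc : x ∈ Subgroup.centralizer (L : Set G) := by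
    rw [Subgroup.mem_centralizer_iff]
    intro l hl
    have h1 : ⁅l, x⁆ ∈ Subgroup.centralizer (V : Set G) := key l hl
    have hxN : x ∈ Subgroup.normalizer (L : Set G) := hLx (Subgroup.mem_zpowers x)
    have h2 : ⁅l, x⁆ ∈ L := by
      rw [commutatorElement_def]
      have : x * l⁻¹ * x⁻¹ ∈ L := (Subgroup.mem_normalizer_iff.mp hxN l⁻¹).mp (L.inv_mem hl)
      have h3 : l * x * l⁻¹ * x⁻¹ = l * (x * l⁻¹ * x⁻¹) := by group
      rw [h3]; exact L.mul_mem hl this
    have h3 : ⁅l, x⁆ ∈ V := h.hCV ⟨hLH h2, h1⟩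
    have h4 : ⁅l, x⁆ ∈ V ⊓ L := ⟨h3, h2⟩
    rw [hVL, Subgroup.mem_bot, commutatorElement_eq_one_iff_mul_comm] at h4
    exact h4
  rw [hR₀, Subgroup.zpowers_le]
  exact hxc

theorem coprime_R₀K : (Nat.card R₀).Coprime (Nat.card K) :=
  h.base.coprime_R₀H.coprime_dvd_right (Subgroup.card_dvd_of_le h.hKH)

/-- Case (a): `C_V(R₀) = 1`. -/
theorem caseA (h36 : BG36 G) (hV1 : V ≠ ⊥)
    (hfix : V ⊓ Subgroup.centralizer (R₀ : Set G) = ⊥) : (V.relIndex H).Coprime p := by
  have hodd := h.base.odd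
  have hsolvK : Group.IsSolvable ↥K := inferInstance
  have hsolvH : Group.IsSolvable ↥H := inferInstance
  -- `K ≤ cmod V R₀`
  obtain ⟨K₁, hK₁, hRK₁⟩ := exists_invariant_piHall R₀ K (h.normalizer_top K R₀) h.coprime_R₀K
    hsolvK (pi' p)
  have hcK₁ : R₀ ≤ Subgroup.centralizer (K₁ : Set G) :=
    h.cent_of_invariant hodd h36 hV1 hfix K₁ (hK₁.1.trans h.hKH) hRK₁ (not_dvd_card_of_piHall hK₁)
  have hKc : K ≤ cmod V R₀ := by
    rw [← sup_piHall h.hVK h.hKV hK₁]
    exact sup_le (le_cmod V R₀) (centralizer_le_cmod V hcK₁)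
  -- `[H, R₀] ≤ K`
  have hHRK : ⁅H, R₀⁆ ≤ K := by
    rw [Subgroup.commutator_le]
    intro g hg a ha
    apply h.hCK
    · rw [commutatorElement_def]
      have : a * g⁻¹ * a⁻¹ ∈ H := hHn.conj_mem _ (H.inv_mem hg) a
      have h3 : g * a * g⁻¹ * a⁻¹ = g * (a * g⁻¹ * a⁻¹) := by group
      rw [h3]; exact H.mul_mem hg this
    · intro k hk
      set π := QuotientGroup.mk' V with hπ
      have hc1 : Commute (π a) (π k) := by
        have := (mem_cmod V).mp (hKc hk) a ha
        rw [← QuotientGroup.eq_one_iff, ← QuotientGroup.mk'_apply, map_commutatorElement,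
          commutatorElement_eq_one_iff_commute] at this
        exact this.symm
      have hk' : g⁻¹ * k * g ∈ K := by
        have := hKn.conj_mem k hk g⁻¹
        rwa [inv_inv] at this
      have hc2 : Commute (π a) ((π g)⁻¹ * π k * π g) := by
        have := (mem_cmod V).mp (hKc hk') a ha
        rw [← QuotientGroup.eq_one_iff, ← QuotientGroup.mk'_apply, map_commutatorElement,
          commutatorElement_eq_one_iff_commute] at this
        rw [← map_inv, ← map_mul, ← map_mul]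
        exact this.symm
      have hc3 := commute_commutator hc1 hc2
      rw [← commutatorElement_eq_one_iff_commute, ← map_commutatorElement,
        ← map_commutatorElement, hπ, QuotientGroup.mk'_apply, QuotientGroup.eq_one_iff] at hc3
      exact hc3
  -- `[H, R₀] ≤ V`
  have hHRV : ⁅H, R₀⁆ ≤ V := by
    have h27 := Cfsg.Agent.S0027.result R₀ H (h.normalizer_top H R₀) h.base.coprime_R₀H
      (Or.inr hsolvH)
    rw [← h27]
    refine (Subgroup.commutator_mono hHRK le_rfl).trans ?_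
    rw [Subgroup.commutator_le]
    intro k hk a ha
    exact (mem_cmod V).mp (hKc hk) a ha
  -- `H / V` is a Z-group
  set π := QuotientGroup.mk' V with hπ
  have hVH : V ≤ H := h.hVK.trans h.hKH
  have hmap : (H ⊓ Subgroup.centralizer (R₀ : Set G)).map π = H.map π := by
    rw [hπ, map_inf_centralizer H R₀ V hVH h.base.coprime_R₀H (Or.inr hsolvH)]
    apply inf_eq_left.mpr
    rintro _ ⟨g, hg, rfl⟩
    rw [Subgroup.mem_centralizer_iff]
    rintro _ ⟨a, ha, rfl⟩
    have := Subgroup.commutator_le.mp hHRV g hg a ha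
    rw [← QuotientGroup.eq_one_iff, ← QuotientGroup.mk'_apply, map_commutatorElement,
      commutatorElement_eq_one_iff_mul_comm] at this
    exact this.symm
  haveI hZ : IsZGroup ↥(H.map π) := by
    rw [← hmap]
    haveI := h.base.zgrp
    exact IsZGroup.of_surjective (f := π.subgroupMap (H ⊓ Subgroup.centralizer (R₀ : Set G)))
      (MonoidHom.subgroupMap_surjective π _)
  haveI : (H.map π).Normal := hHn.map π (QuotientGroup.mk'_surjective V)
  have hcomm : ⁅H.map π, R.map π⁆ = H.map π := by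
    rw [← Subgroup.map_commutator, h.base.comm]
  have hab := comm_of_isZGroup_of_commutator_eq (H.map π) (R.map π) hcomm
  -- so `H = K`
  have hHK : H ≤ K := by
    intro g hg
    apply h.hCK g hg
    intro k hk
    have := hab (π g) ⟨g, hg, rfl⟩ (π k) ⟨k, h.hKH hk, rfl⟩
    rw [← commutatorElement_eq_one_iff_mul_comm, ← map_commutatorElement, hπ,
      QuotientGroup.mk'_apply, QuotientGroup.eq_one_iff] at this
    exact this
  have : H = K := le_antisymm hHK h.hKH
  rw [this]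
  exact h.hKV

/-- every element of order `p` of `C_H(R₀)` lies in `V` when `C_V(R₀) ≠ 1` -/
theorem mem_V_of_orderOf (hfix : V ⊓ Subgroup.centralizer (R₀ : Set G) ≠ ⊥) {t : G}
    (ht : t ∈ H ⊓ Subgroup.centralizer (R₀ : Set G)) (hord : orderOf t = p) : t ∈ V := by
  haveI := h.base.zgrp
  have hVH : V ≤ H := h.hVK.trans h.hKH
  set CVx := V ⊓ Subgroup.centralizer (R₀ : Set G) with hCVx
  have hCVC : CVx ≤ H ⊓ Subgroup.centralizer (R₀ : Set G) := inf_le_inf_right _ hVH
  obtain ⟨v, hv1⟩ := (Subgroup.ne_bot_iff_exists_ne_one).mp hfix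
  have hvV : (v : G) ∈ V := v.2.1
  have hv1' : (v : G) ≠ 1 := fun h0 => hv1 (Subtype.ext h0)
  have hvord : orderOf (v : G) = p := orderOf_eq_prime (h.hVexp _ hvV) hv1'
  have htN : t ∈ Subgroup.normalizer (CVx : Set G) := by
    apply mem_normalizer_inf
    · rw [Subgroup.normalizer_eq_top_iff.mpr hVn]; trivial
    · exact mem_normalizer_centralizer (Subgroup.centralizer_le_normalizer _ ht.2)
  have hzt : IsPGroup p ↥(Subgroup.zpowers t) := by
    apply IsPGroup.of_card (n := 1)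
    rw [Nat.card_zpowers, hord, pow_one]
  have hCVp : IsPGroup p ↥CVx := h.isPGroup_V.to_le inf_le_left
  have hT'p : IsPGroup p ↥(Subgroup.zpowers t ⊔ CVx) :=
    IsPGroup.to_sup_of_normal_right' hzt hCVp (Subgroup.zpowers_le.mpr htN)
  have hT'C : Subgroup.zpowers t ⊔ CVx ≤ H ⊓ Subgroup.centralizer (R₀ : Set G) :=
    sup_le (Subgroup.zpowers_le.mpr ht) hCVC
  haveI : IsCyclic ↥(Subgroup.zpowers t ⊔ CVx) :=
    isCyclic_of_le_zgroup (H ⊓ Subgroup.centralizer (R₀ : Set G)) hT'C hT'p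
  have heq := Cfsg.Agent.S4370.eq_of_card_eq_of_le_cyclic (Subgroup.zpowers t ⊔ CVx)
    (Subgroup.zpowers t) (Subgroup.zpowers (v : G)) le_sup_left
    ((Subgroup.zpowers_le.mpr v.2).trans le_sup_right)
    (by rw [Nat.card_zpowers, Nat.card_zpowers, hord, hvord])
  have : t ∈ Subgroup.zpowers (v : G) := by rw [← heq]; exact Subgroup.mem_zpowers t
  exact (Subgroup.zpowers_le.mpr hvV) this

/-- the Frattini argument: `N_H(K₀)` is a complement of `V` in `H` -/
theorem frattini_arg (hCVK : V ⊓ Subgroup.centralizer (K : Set G) = ⊥) {K₀ : Subgroup G}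
    (hK₀ : PiHall (pi' p) K₀ K) :
    (H ⊓ Subgroup.normalizer (K₀ : Set G)) ⊓ V = ⊥ ∧
      (H ⊓ Subgroup.normalizer (K₀ : Set G)) ⊔ V = H := by
  have hVH : V ≤ H := h.hVK.trans h.hKH
  have hsup := sup_piHall h.hVK h.hKV hK₀
  have hinf := inf_piHall h.isPGroup_V hK₀
  constructor
  · rw [eq_bot_iff]
    rintro v ⟨⟨_, hvN⟩, hvV⟩
    rw [← hCVK]
    refine ⟨hvV, ?_⟩
    rw [← hsup]
    apply Cfsg.Agent.Lib.Helper52_ZNorm.mem_centralizer_sup
    · rw [Subgroup.mem_centralizer_iff]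
      intro w hw
      exact h.hVab w hw v hvV
    · rw [Subgroup.mem_centralizer_iff]
      intro k hk
      have h1 : ⁅v, k⁆ ∈ V := by
        rw [commutatorElement_def]
        have : k * v⁻¹ * k⁻¹ ∈ V := hVn.conj_mem _ (V.inv_mem hvV) k
        have h3 : v * k * v⁻¹ * k⁻¹ = v * (k * v⁻¹ * k⁻¹) := by group
        rw [h3]; exact V.mul_mem hvV this
      have h2 : ⁅v, k⁆ ∈ K₀ := by
        rw [commutatorElement_def]
        have : v * k * v⁻¹ ∈ K₀ := (Subgroup.mem_normalizer_iff.mp hvN k).mp hk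
        exact K₀.mul_mem this (K₀.inv_mem hk)
      have h3 : ⁅v, k⁆ ∈ V ⊓ K₀ := ⟨h1, h2⟩
      rw [hinf, Subgroup.mem_bot, commutatorElement_eq_one_iff_mul_comm] at h3
      exact h3.symm
  · apply le_antisymm (sup_le inf_le_left hVH)
    intro g hg
    have hsolvK : Group.IsSolvable ↥K := inferInstance
    have hgN : g ∈ Subgroup.normalizer (K : Set G) := by
      rw [Subgroup.normalizer_eq_top_iff.mpr hKn]; trivial
    obtain ⟨c, hcK, hc⟩ := piHall_conj hsolvK (hK₀.map_conj g hgN) hK₀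
    have hc' : cj c (cj g K₀) = K₀ := hc
    rw [← cj_mul, cj_eq_self_iff] at hc'
    have hK₀H₀ : K₀ ≤ H ⊓ Subgroup.normalizer (K₀ : Set G) :=
      le_inf (hK₀.1.trans h.hKH) Subgroup.le_normalizer
    have hKle : K ≤ (H ⊓ Subgroup.normalizer (K₀ : Set G)) ⊔ V := by
      rw [← hsup]
      exact sup_le le_sup_right (hK₀H₀.trans le_sup_left)
    have h1 : c * g ∈ (H ⊓ Subgroup.normalizer (K₀ : Set G)) ⊔ V :=
      (le_sup_left : _ ≤ (H ⊓ Subgroup.normalizer (K₀ : Set G)) ⊔ V)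
        ⟨H.mul_mem (h.hKH hcK) hg, hc'⟩
    have h2 : c⁻¹ ∈ (H ⊓ Subgroup.normalizer (K₀ : Set G)) ⊔ V :=
      Subgroup.inv_mem _ (hKle hcK)
    have : g = c⁻¹ * (c * g) := by group
    rw [this]
    exact Subgroup.mul_mem _ h2 h1

theorem card_fix_le {x : G} (hR₀ : R₀ = Subgroup.zpowers x) :
    Nat.card ↥(V ⊓ Subgroup.centralizer ({x} : Set G)) ≤ p := by
  haveI := h.base.zgrp
  have hVH : V ≤ H := h.hVK.trans h.hKH
  have hle : V ⊓ Subgroup.centralizer ({x} : Set G) ≤ H ⊓ Subgroup.centralizer (R₀ : Set G) := by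
    rw [hR₀, centralizer_zpowers_eq]
    exact inf_le_inf_right _ hVH
  have hTp : IsPGroup p ↥(V ⊓ Subgroup.centralizer ({x} : Set G)) := h.isPGroup_V.to_le inf_le_left
  haveI : IsCyclic ↥(V ⊓ Subgroup.centralizer ({x} : Set G)) :=
    isCyclic_of_le_zgroup (H ⊓ Subgroup.centralizer (R₀ : Set G)) hle hTp
  obtain ⟨g, hg⟩ := IsCyclic.exists_generator (α := ↥(V ⊓ Subgroup.centralizer ({x} : Set G)))
  rw [← orderOf_eq_card_of_forall_mem_zpowers hg]
  apply Nat.le_of_dvd hp.out.pos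
  apply orderOf_dvd_of_pow_eq_one
  apply Subtype.ext
  rw [Subgroup.coe_pow, Subgroup.coe_one]
  exact h.hVexp _ g.2.1

/-- Case (b): `C_V(R₀) ≠ 1`. -/
theorem caseB (hV1 : V ≠ ⊥) (hCVK : V ⊓ Subgroup.centralizer (K : Set G) = ⊥)
    (hfix : V ⊓ Subgroup.centralizer (R₀ : Set G) ≠ ⊥) : (V.relIndex H).Coprime p := by
  have hodd := h.base.odd
  obtain ⟨x, hx, hR₀⟩ := exists_generator_of_prime_card R₀ h.base.prime
  have hr : (Nat.card R₀).Prime := h.base.prime
  have hpr : p ≠ Nat.card R₀ := h.ne_of_V_ne_bot hV1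
  have hVH : V ≤ H := h.hVK.trans h.hKH
  have hsolvK : Group.IsSolvable ↥K := inferInstance
  have hxR₀ : x ∈ R₀ := by rw [hR₀]; exact Subgroup.mem_zpowers x
  obtain ⟨K₀, hK₀, hRK₀⟩ := exists_invariant_piHall R₀ K (h.normalizer_top K R₀) h.coprime_R₀K
    hsolvK (pi' p)
  obtain ⟨hH₀V, hH₀sup⟩ := h.frattini_arg hCVK hK₀
  set H₀ := H ⊓ Subgroup.normalizer (K₀ : Set G) with hH₀
  by_contra hnc
  have hpH₀ : p ∣ Nat.card H₀ := by
    have h1 : p ∣ V.relIndex H := by
      by_contra h0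
      exact hnc ((Nat.Prime.coprime_iff_not_dvd hp.out).mpr h0).symm
    rw [← hH₀sup, Subgroup.relIndex_sup_right] at h1
    exact h1.trans (Subgroup.relIndex_dvd_card V H₀)
  have hRH₀ : R₀ ≤ Subgroup.normalizer (H₀ : Set G) := by
    intro a ha
    apply mem_normalizer_inf
    · rw [Subgroup.normalizer_eq_top_iff.mpr hHn]; trivial
    · exact Subgroup.le_normalizer (hRK₀ ha)
  have hcopH₀ : (Nat.card R₀).Coprime (Nat.card H₀) :=
    h.base.coprime_R₀H.coprime_dvd_right (Subgroup.card_dvd_of_le inf_le_left)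
  have hsolvH₀ : Group.IsSolvable ↥H₀ := inferInstance
  obtain ⟨P, hP⟩ := Cfsg.Agent.S0023.result R₀ H₀ hRH₀ hcopH₀ (Or.inr hsolvH₀) p
  set P₀ := (P : Subgroup ↥H₀).map H₀.subtype with hP₀
  have hP₀1 : P₀ ≠ ⊥ := by
    intro h0
    have := (Subgroup.map_eq_bot_iff_of_injective _ H₀.subtype_injective).mp h0
    exact P.ne_bot_of_dvd_card hpH₀ this
  have hP₀p : IsPGroup p P₀ := P.isPGroup'.map _
  have hP₀H₀ : P₀ ≤ H₀ := Subgroup.map_subtype_le _
  have hxP₀ : x ∈ Subgroup.normalizer (P₀ : Set G) := hP hxR₀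
  obtain ⟨S, hSP, hS1, hxS, hSmin⟩ := exists_min_invariant P₀ x hP₀1 hxP₀
  have hSH₀ : S ≤ H₀ := hSP.trans hP₀H₀
  have hSp : IsPGroup p S := hP₀p.to_le hSP
  -- `x` acts fixed-point-freely on `S`
  have hfpf : ∀ s ∈ S, x * s = s * x → s = 1 := by
    intro s hs hc
    by_contra hs1
    set T := S ⊓ Subgroup.centralizer ({x} : Set G) with hT
    have hsT : s ∈ T := ⟨hs, Subgroup.mem_centralizer_singleton_iff.mpr hc.symm⟩
    have hTp : IsPGroup p T := hSp.to_le inf_le_left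
    have hT1 : T ≠ ⊥ := fun h0 => hs1 (by rw [h0] at hsT; exact Subgroup.mem_bot.mp hsT)
    have hpT : p ∣ Nat.card T := by
      obtain ⟨n, hn⟩ := IsPGroup.iff_card.mp hTp
      rw [hn]
      apply dvd_pow_self
      rintro rfl
      rw [pow_zero] at hn
      exact hT1 (Subgroup.card_eq_one.mp hn)
    obtain ⟨t, ht⟩ := exists_prime_orderOf_dvd_card' p hpT
    have htC : (t : G) ∈ H ⊓ Subgroup.centralizer (R₀ : Set G) := by
      refine ⟨(hSH₀ t.2.1).1, ?_⟩
      rw [hR₀, centralizer_zpowers_eq]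
      exact t.2.2
    have htV : (t : G) ∈ V :=
      h.mem_V_of_orderOf hfix htC (by rw [Subgroup.orderOf_coe]; exact ht)
    have h1 : (t : G) ∈ H₀ ⊓ V := ⟨hSH₀ t.2.1, htV⟩
    rw [hH₀V, Subgroup.mem_bot] at h1
    have h2 : orderOf (t : G) = 1 := by rw [h1, orderOf_one]
    rw [Subgroup.orderOf_coe, ht] at h2
    exact hp.out.one_lt.ne' h2
  have hSH : SHyp p (Nat.card R₀) S x := ⟨hp.out, hr, hpr, hx, hSp, hS1, hxS, hSmin, hfpf⟩
  -- `S` acts faithfully on `K₀`
  have hSK₀ : ¬ S ≤ Subgroup.centralizer (K₀ : Set G) := by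
    intro hc
    have hKc : K ≤ cmod V S := by
      rw [← sup_piHall h.hVK h.hKV hK₀]
      exact sup_le (le_cmod V S) (centralizer_le_cmod V hc)
    have hSK : S ≤ K := by
      intro s hs
      apply h.hCK s ((hSH₀ hs).1)
      intro k hk
      have := (mem_cmod V).mp (hKc hk) s hs
      rw [← commutatorElement_inv]
      exact V.inv_mem this
    have hSV : S ≤ V := le_of_isPGroup_of_le h.isPGroup_V h.hVK h.hKV hSp hSK
    have : S ≤ H₀ ⊓ V := le_inf hSH₀ hSV
    rw [hH₀V, le_bot_iff] at this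
    exact hS1 this
  -- an invariant Sylow subgroup of `K₀` not centralized by `S`
  have hxK₀ : x ∈ Subgroup.normalizer (K₀ : Set G) := hRK₀ hxR₀
  have hAK₀ : S ⊔ Subgroup.zpowers x ≤ Subgroup.normalizer (K₀ : Set G) :=
    sup_le (hSH₀.trans inf_le_right) (Subgroup.zpowers_le.mpr hxK₀)
  have hzx : Nat.card (Subgroup.zpowers x) = Nat.card R₀ := by rw [Nat.card_zpowers, hx]
  obtain ⟨n, hn⟩ := IsPGroup.iff_card.mp hSp
  have hSx : S ⊓ Subgroup.zpowers x = ⊥ := by
    apply (Subgroup.disjoint_of_coprime_natCard _).eq_bot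
    rw [hn, hzx]
    exact Nat.Coprime.pow_left n ((Nat.coprime_primes hp.out hr).mpr hpr)
  have hcardA : Nat.card ↥(S ⊔ Subgroup.zpowers x) = Nat.card S * Nat.card (Subgroup.zpowers x) :=
    card_sup_of_disjoint' (Subgroup.zpowers x) S (Subgroup.zpowers_le.mpr hxS) hSx
  have hpK₀ : ¬ p ∣ Nat.card K₀ := not_dvd_card_of_piHall hK₀
  have hrK₀ : ¬ Nat.card R₀ ∣ Nat.card K₀ := fun hd =>
    h.not_dvd_card_H (hd.trans (Subgroup.card_dvd_of_le (hK₀.1.trans h.hKH)))
  have hcopA : (Nat.card ↥(S ⊔ Subgroup.zpowers x)).Coprime (Nat.card K₀) := by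
    rw [hcardA, hzx, hn]
    exact Nat.Coprime.mul_left
      (Nat.Coprime.pow_left n ((Nat.Prime.coprime_iff_not_dvd hp.out).mpr hpK₀))
      ((Nat.Prime.coprime_iff_not_dvd hr).mpr hrK₀)
  have hsolvA : Group.IsSolvable ↥(S ⊔ Subgroup.zpowers x) := inferInstance
  have hex : ∃ q : ℕ, ∃ _ : Fact q.Prime, ∃ Q : Sylow q ↥K₀,
      S ⊔ Subgroup.zpowers x ≤ Subgroup.normalizer (((Q : Subgroup ↥K₀).map K₀.subtype : Subgroup G) : Set G) ∧
      ¬ S ≤ Subgroup.centralizer (((Q : Subgroup ↥K₀).map K₀.subtype : Subgroup G) : Set G) := by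
    by_contra hno
    push Not at hno
    apply hSK₀
    have htop : (Subgroup.centralizer (S : Set G)).subgroupOf K₀ = ⊤ := by
      apply eq_top_of_forall_sylow_le
      intro q hq
      obtain ⟨Q, hQ⟩ := Cfsg.Agent.S0023.result (S ⊔ Subgroup.zpowers x) K₀ hAK₀ hcopA
        (Or.inl hsolvA) q
      refine ⟨Q, ?_⟩
      intro y hy
      rw [Subgroup.mem_subgroupOf, Subgroup.mem_centralizer_iff]
      intro s hs
      have := hno q hq Q hQ hs
      exact (Subgroup.mem_centralizer_iff.mp this (y : G) ⟨y, hy, rfl⟩).symm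
    have hK₀c : K₀ ≤ Subgroup.centralizer (S : Set G) := by
      intro k hk
      have : (⟨k, hk⟩ : ↥K₀) ∈ (Subgroup.centralizer (S : Set G)).subgroupOf K₀ := by
        rw [htop]; trivial
      exact Subgroup.mem_subgroupOf.mp this
    intro s hs
    rw [Subgroup.mem_centralizer_iff]
    intro k hk
    exact (Subgroup.mem_centralizer_iff.mp (hK₀c hk) s hs).symm
  obtain ⟨q, hq, Q, hAQ, hSQ⟩ := hex
  set Q' := (Q : Subgroup ↥K₀).map K₀.subtype with hQ'
  have hQ'K₀ : Q' ≤ K₀ := Subgroup.map_subtype_le _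
  have hQq : IsPGroup q Q' := Q.isPGroup'.map _
  have hQ'1 : Q' ≠ ⊥ := by
    intro h0
    apply hSQ
    intro s _
    rw [Subgroup.mem_centralizer_iff]
    intro k hk
    rw [h0, SetLike.mem_coe, Subgroup.mem_bot] at hk
    rw [hk, one_mul, mul_one]
  have hqK₀ : q ∣ Nat.card K₀ := by
    obtain ⟨m, hm⟩ := IsPGroup.iff_card.mp hQq
    have : q ∣ Nat.card Q' := by
      rw [hm]
      apply dvd_pow_self
      rintro rfl
      rw [pow_zero] at hm
      exact hQ'1 (Subgroup.card_eq_one.mp hm)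
    exact this.trans (Subgroup.card_dvd_of_le hQ'K₀)
  have hpq : p ≠ q := by rintro rfl; exact hpK₀ hqK₀
  have hqr : q ≠ Nat.card R₀ := by rintro rfl; exact hrK₀ hqK₀
  haveI := h.base.zgrp
  have hQ'H : Q' ≤ H := hQ'K₀.trans (hK₀.1.trans h.hKH)
  have hsetup : Setup p q (Nat.card R₀) V S Q' x :=
    { hS := hSH
      hq := hq.out
      hpq := hpq
      hqr := hqr
      hVab := h.hVab
      hVexp := h.hVexp
      hQq := hQq
      hSQ := le_sup_left.trans hAQ
      hxQ := hAQ ((le_sup_right : Subgroup.zpowers x ≤ S ⊔ Subgroup.zpowers x)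
        (Subgroup.mem_zpowers x))
      hfaith := by
        rw [eq_bot_iff]
        rintro y ⟨hyQ, hyc⟩
        have h1 : y ∈ V := h.hCV ⟨hQ'H hyQ, hyc⟩
        have h2 : y ∈ V ⊓ K₀ := ⟨h1, hQ'K₀ hyQ⟩
        rw [inf_piHall h.isPGroup_V hK₀] at h2
        exact h2
      hCQ := by
        apply isCyclic_of_le_zgroup (H ⊓ Subgroup.centralizer (R₀ : Set G)) _ (hQq.to_le inf_le_left)
        rw [hR₀, centralizer_zpowers_eq]
        exact inf_le_inf_right _ hQ'H
      hCV := h.card_fix_le hR₀ }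
  exact hSQ (core hodd (Nat.card Q') Q' rfl hsetup)

/-- In the reduced configuration with `C_V(K) = 1`, `V` is a Sylow `p`-subgroup of `H`. -/
theorem main (h36 : BG36 G) (hCVK : V ⊓ Subgroup.centralizer (K : Set G) = ⊥) :
    (V.relIndex H).Coprime p := by
  by_cases hV1 : V = ⊥
  · have hHV : H ≤ V := by
      intro g hg
      apply h.hCV
      rw [Subgroup.mem_inf]
      refine ⟨hg, ?_⟩
      rw [Subgroup.mem_centralizer_iff]
      intro k hk
      rw [hV1, SetLike.mem_coe, Subgroup.mem_bot] at hk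
      rw [hk, one_mul, mul_one]
    rw [Subgroup.relIndex_eq_one.mpr hHV]
    exact Nat.coprime_one_left p
  · by_cases hfix : V ⊓ Subgroup.centralizer (R₀ : Set G) = ⊥
    · exact h.caseA h36 hV1 hfix
    · exact h.caseB hV1 hCVK hfix

end Red

end Cfsg.Agent.Lib.Helper52_ZMainB
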