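import Mathlib
import Cfsg.Agent.Lib.Helper52_ZMainB
import Cfsg.Agent.S0055

/-!
# BG 3.7: the induction (helper52)

* `step`: the inductive step (reductions `O_{p'}(H) = 1`, `Φ(O_p(H)) = 1`, `C_V(K) = 1`, then
  `Helper52_ZMainB.Red.main`).
* `main_aux`: BG 3.7 when `H = [H, R]`; `bg37`: the general statement (in terms of a hypothesis
  `h36` giving BG 3.6 = S3769).
-/

set_option autoImplicit false
set_option linter.style.haveILetI false
set_option linter.unusedSectionVars false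
open Cfsg

namespace Cfsg.Agent.Lib.Helper52_ZMainC

open scoped commutatorElement Pointwise
open Cfsg.Agent.Lib.Helper52_ZPL Cfsg.Agent.Lib.Helper52_ZBase Cfsg.Agent.Lib.Helper52_ZMainA
  Cfsg.Agent.Lib.Helper24_CoprimeHall Cfsg.Agent.Lib.Helper52_ZMainB
  Cfsg.Agent.Lib.Helper52_PrimeAct Cfsg.Agent.Lib.Helper1_Cores Cfsg.Agent.Lib.Helper52_PLength

universe u
variable {G : Type u} [Group G] [Finite G]

/-- `V` a Sylow `p`-subgroup of `H`, normal: `p`-length one -/
theorem plength_of_relIndex (p : ℕ) [Fact p.Prime] (H V : Subgroup G) [V.Normal]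
    (hVp : IsPGroup p V) (h : (V.relIndex H).Coprime p) : PLengthLE p 1 ↥H :=
  plengthLE_one_of_normal_sylow p (V.subgroupOf H) hVp.comap_subtype h

/-- `[V, K] = [V, K₀]` for abelian normal `V` and `K = V K₀` -/
theorem commutator_le_of_sup {V K K₀ : Subgroup G} [V.Normal]
    (hVab : ∀ a ∈ V, ∀ b ∈ V, a * b = b * a) (hsup : V ⊔ K₀ = K) : ⁅V, K⁆ ≤ ⁅V, K₀⁆ := by
  rw [Subgroup.commutator_le]
  intro v hv k hk
  rw [← hsup] at hk
  obtain ⟨w, hw, k₀, hk₀, rfl⟩ := Subgroup.mem_sup_of_normal_left.mp hk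
  have h1 : ⁅v, k₀⁆ ∈ V := by
    rw [commutatorElement_def]
    have : k₀ * v⁻¹ * k₀⁻¹ ∈ V := (inferInstance : V.Normal).conj_mem _ (V.inv_mem hv) k₀
    have h3 : v * k₀ * v⁻¹ * k₀⁻¹ = v * (k₀ * v⁻¹ * k₀⁻¹) := by group
    rw [h3]; exact V.mul_mem hv this
  have h2 : ⁅v, w * k₀⁆ = ⁅v, w⁆ * (w * ⁅v, k₀⁆ * w⁻¹) := by
    simp only [commutatorElement_def]; group
  have h3 : ⁅v, w⁆ = 1 := commutatorElement_eq_one_iff_mul_comm.mpr (hVab v hv w hw)
  have h4 : w * ⁅v, k₀⁆ * w⁻¹ = ⁅v, k₀⁆ := by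
    rw [hVab w hw _ h1]; group
  rw [h2, h3, h4, one_mul]
  exact Subgroup.commutator_mem_commutator hv hk₀

theorem step [Group.IsSolvable G] (p : ℕ) [hp : Fact p.Prime] {H R R₀ : Subgroup G} [hHn : H.Normal]
    (h : BG37 H R R₀) (h36 : BG36 G)
    (IHq : ∀ (N : Subgroup G) [N.Normal], N ≤ H → N ≠ ⊥ →
      PLengthLE p 1 ↥(H.map (QuotientGroup.mk' N))) :
    PLengthLE p 1 ↥H := by
  have hsolvH : Group.IsSolvable ↥H := inferInstance
  by_cases hO : pPrimeCore p ↥H = ⊥
  swap
  · -- `O_{p'}(H) ≠ 1`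
    set N := (pPrimeCore p ↥H).map H.subtype with hN
    have hNn : N.Normal := inferInstance
    have hNH : N ≤ H := Subgroup.map_subtype_le _
    have hN1 : N ≠ ⊥ := fun h0 =>
      hO ((Subgroup.map_eq_bot_iff_of_injective _ H.subtype_injective).mp h0)
    have hB := IHq N hNH hN1
    apply plength_of_quot p H N hNH hB
    rw [hN, Subgroup.card_map_of_injective H.subtype_injective]
    exact pPrimeCore_card_coprime p
  obtain ⟨V, K, hVn, hKn, hVK, hKH, hVdef, hCV, hKV, hCK⟩ := exists_VK p H hO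
  haveI := hVn
  haveI := hKn
  have hCVH : Subgroup.centralizer ((pCore p ↥H : Subgroup ↥H) : Set ↥H) ≤ pCore p ↥H :=
    Cfsg.Agent.S4227.centralizer_pCore_le p hO
  have hPp : IsPGroup p ↥(pCore p ↥H) := pCore_isPGroup p
  have hVp : IsPGroup p V := by rw [hVdef]; exact hPp.map _
  by_cases hΦ : frattini ↥(pCore p ↥H) = ⊥
  swap
  · -- `Φ(O_p(H)) ≠ 1`
    set N := ((frattini ↥(pCore p ↥H)).map (pCore p ↥H).subtype).map H.subtype with hN
    have hNn : N.Normal := inferInstance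
    have hNH : N ≤ H := Subgroup.map_subtype_le _
    have hN1 : N ≠ ⊥ := fun h0 =>
      hΦ ((Subgroup.map_eq_bot_iff_of_injective _ (pCore p ↥H).subtype_injective).mp
        ((Subgroup.map_eq_bot_iff_of_injective _ H.subtype_injective).mp h0))
    have hB := IHq N hNH hN1
    have hker : ((QuotientGroup.mk' N).subgroupMap H).ker =
        (frattini ↥(pCore p ↥H)).map (pCore p ↥H).subtype := by
      rw [ker_subgroupMap_mk', hN]
      exact Subgroup.comap_map_eq_self_of_injective H.subtype_injective _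
    have hidx := index_pCore_coprime_of_frattini_quotient p ((QuotientGroup.mk' N).subgroupMap H)
      (MonoidHom.subgroupMap_surjective _ _) hCVH hker hB
    exact plengthLE_one_of_normal_sylow p (pCore p ↥H) hPp hidx
  -- `V` is elementary abelian
  have hcomm : ∀ a b : ↥(pCore p ↥H), a * b = b * a := by
    intro a b
    have h1 : ⁅a, b⁆ ∈ commutator ↥(pCore p ↥H) :=
      Subgroup.commutator_mem_commutator (Subgroup.mem_top a) (Subgroup.mem_top b)
    have h2 := Cfsg.Agent.Lib.Helper1_Frattini.commutator_le_frattini_of_isPGroup hPp h1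
    rw [hΦ, Subgroup.mem_bot, commutatorElement_eq_one_iff_mul_comm] at h2
    exact h2
  have hVab : ∀ a ∈ V, ∀ b ∈ V, a * b = b * a := by
    rw [hVdef]
    rintro _ ⟨a, ha, rfl⟩ _ ⟨b, hb, rfl⟩
    have := hcomm ⟨a, ha⟩ ⟨b, hb⟩
    have h2 := congrArg (fun z : ↥(pCore p ↥H) => ((z : ↥H) : G)) this
    simpa using h2
  have hVexp : ∀ a ∈ V, a ^ p = 1 := by
    rw [hVdef]
    rintro _ ⟨a, ha, rfl⟩
    have h1 := Cfsg.Agent.Lib.Helper1_Frattini.pow_mem_frattini_of_isPGroup hPp ⟨a, ha⟩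
    rw [hΦ, Subgroup.mem_bot] at h1
    have h2 := congrArg (fun z : ↥(pCore p ↥H) => ((z : ↥H) : G)) h1
    simpa using h2
  have hred : Red p H R R₀ V K := ⟨h, hVK, hKH, hVab, hVexp, hCV, hKV, hCK⟩
  have hVH : V ≤ H := hVK.trans hKH
  -- the reduction to `C_V(K) = 1`
  set N₁ := V ⊓ Subgroup.centralizer (K : Set G) with hN₁
  set N₂ := ⁅V, K⁆ with hN₂
  have hN₁n : N₁.Normal := inferInstance
  have hN₂n : N₂.Normal := inferInstance
  have hN₁H : N₁ ≤ H := inf_le_left.trans hVH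
  have hN₂V : N₂ ≤ V := Subgroup.commutator_le_left V K
  have hN₂H : N₂ ≤ H := hN₂V.trans hVH
  by_cases h1 : N₁ = ⊥
  · exact plength_of_relIndex p H V hVp (hred.main h36 h1)
  by_cases h2 : N₂ = ⊥
  · have hVcK : V ≤ Subgroup.centralizer (K : Set G) :=
      Subgroup.commutator_eq_bot_iff_le_centralizer.mp h2
    have hKcV : K ≤ Subgroup.centralizer (V : Set G) := Subgroup.le_centralizer_iff.mp hVcK
    have hKV' : K ≤ V := fun k hk => hCV ⟨hKH hk, hKcV hk⟩
    have hHK : H ≤ K := by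
      intro g hg
      apply hCK g hg
      intro k hk
      have hkV := hKV' hk
      rw [commutatorElement_def]
      have : g * k * g⁻¹ ∈ V := hVn.conj_mem k hkV g
      exact V.mul_mem this (V.inv_mem hkV)
    apply plength_of_relIndex p H V hVp
    rw [Subgroup.relIndex_eq_one.mpr (hHK.trans hKV')]
    exact Nat.coprime_one_left p
  -- both nontrivial: subdirect product
  have hsolvK : Group.IsSolvable ↥K := inferInstance
  obtain ⟨K₀, hK₀⟩ := exists_piHall (pi' p) K hsolvK
  haveI : IsMulCommutative ↥V := isMulCommutative_of_comm V hVab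
  have h55 := Cfsg.Agent.S0055.result K₀ V
    (by rw [Subgroup.normalizer_eq_top_iff.mpr hVn]; exact le_top)
    (coprime_card_of_piHall hVp hK₀).symm
  have hN12 : N₁ ⊓ N₂ = ⊥ := by
    rw [eq_bot_iff, ← h55.1]
    apply inf_le_inf
    · exact inf_le_inf_left V (Subgroup.centralizer_le hK₀.1)
    · exact commutator_le_of_sup hVab (sup_piHall hVK hKV hK₀)
  have hB₁ := IHq N₁ hN₁H h1
  have hB₂ := IHq N₂ hN₂H h2
  apply plengthLE_of_subdirect p 1 ((QuotientGroup.mk' N₁).subgroupMap H)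
    ((QuotientGroup.mk' N₂).subgroupMap H) _ hB₁ hB₂
  rw [ker_subgroupMap_mk', ker_subgroupMap_mk', eq_bot_iff]
  intro a ha
  rw [Subgroup.mem_inf, Subgroup.mem_subgroupOf, Subgroup.mem_subgroupOf] at ha
  have : (a : G) ∈ N₁ ⊓ N₂ := ⟨ha.1, ha.2⟩
  rw [hN12, Subgroup.mem_bot] at this
  rw [Subgroup.mem_bot]
  exact Subtype.ext this

/-- BG 3.7 when `H = [H, R]`, by induction on `|G|`. -/
theorem main_aux (p : ℕ) [hp : Fact p.Prime] (h36 : ∀ (Y : Type u) [Group Y] [Finite Y], BG36 Y) :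
    ∀ n : ℕ, ∀ (G : Type u) [Group G] [Finite G] [Group.IsSolvable G] (H R R₀ : Subgroup G)
      [H.Normal], Nat.card G = n → BG37 H R R₀ → PLengthLE p 1 ↥H := by
  intro n
  induction n using Nat.strong_induction_on with
  | _ n ih =>
    intro G _ _ _ H R R₀ _ hn h
    apply step p h (h36 G)
    intro N hNn hNH hN1
    have hlt : Nat.card (G ⧸ N) < n := by
      rw [← hn, ← Subgroup.index_eq_card, ← Subgroup.card_mul_index N]
      have h1 : 1 < Nat.card N := by
        rcases Nat.lt_or_ge 1 (Nat.card N) with h0 | h0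
        · exact h0
        · exfalso
          have : Nat.card N = 1 := le_antisymm h0 Nat.card_pos
          exact hN1 (Subgroup.card_eq_one.mp this)
      have h2 : 0 < N.index := Nat.pos_of_ne_zero Subgroup.index_ne_zero_of_finite
      calc N.index = 1 * N.index := (one_mul _).symm
        _ < Nat.card N * N.index := Nat.mul_lt_mul_of_pos_right h1 h2
    haveI : (H.map (QuotientGroup.mk' N)).Normal :=
      Subgroup.Normal.map inferInstance _ (QuotientGroup.mk'_surjective N)
    exact ih _ hlt (G ⧸ N) (H.map (QuotientGroup.mk' N)) (R.map (QuotientGroup.mk' N))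
      (R₀.map (QuotientGroup.mk' N)) rfl (h.quot N hNH)

/-- **BG Theorem 3.7.** -/
theorem bg37 (h36 : ∀ (Y : Type u) [Group Y] [Finite Y], BG36 Y) {G : Type u} [Group G] [Finite G]
    [Group.IsSolvable G] (hodd : Odd (Nat.card G)) (H R R₀ : Subgroup G) [hHn : H.Normal]
    (hHall : (Nat.card H).Coprime H.index) (hR : Subgroup.IsComplement' H R) (hR₀ : R₀ ≤ R)
    (hR₀p : (Nat.card R₀).Prime)
    (hZ : IsZGroup ↥(H ⊓ Subgroup.centralizer (R₀ : Set G))) (p : ℕ) [Fact p.Prime] :
    PLengthLE p 1 ↥⁅H, R⁆ := by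
  set T := ⁅H, R⁆ with hT
  have hTH : T ≤ H := Subgroup.commutator_le_left H R
  have hidx : H.index = Nat.card R := hR.symm.index_eq_card
  have hcopHR : (Nat.card H).Coprime (Nat.card R) := by rw [← hidx]; exact hHall
  have hsolvH : Group.IsSolvable ↥H := inferInstance
  have hRH : R ≤ Subgroup.normalizer (H : Set G) := by
    rw [Subgroup.normalizer_eq_top_iff.mpr hHn]; exact le_top
  -- `[T, R] = T`
  have h27 : ⁅T, R⁆ = T := Cfsg.Agent.S0027.result R H hRH hcopHR.symm (Or.inr hsolvH)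
  -- `R` normalizes `T`
  have hRT : R ≤ Subgroup.normalizer (T : Set G) := by
    intro g hg
    rw [← cj_eq_self_iff, hT, cj_commutator, cj_of_normal, cj_of_mem hg]
  have hdisj : T ⊓ R = ⊥ := by
    rw [eq_bot_iff, ← hR.disjoint.eq_bot]
    exact inf_le_inf_right R hTH
  obtain ⟨hTn, hcompl⟩ := Cfsg.Agent.Lib.Helper24_CoprimeAction.isComplement'_subgroupOf_sup R T hRT hdisj
  set L := T ⊔ R with hL
  have hTL : T ≤ L := le_sup_left
  have hRL : R ≤ L := le_sup_right
  haveI := hTn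
  have hcardT : Nat.card ↥(T.subgroupOf L) = Nat.card T :=
    Cfsg.Agent.Lib.Helper24_CoprimeAction.card_subgroupOf_of_le hTL
  have hcardR : Nat.card ↥(R.subgroupOf L) = Nat.card R :=
    Cfsg.Agent.Lib.Helper24_CoprimeAction.card_subgroupOf_of_le hRL
  have hbase : BG37 (T.subgroupOf L) (R.subgroupOf L) (R₀.subgroupOf L) := by
    refine ⟨?_, ?_, hcompl, ?_, ?_, ?_, ?_⟩
    · exact Odd.of_dvd_nat hodd (Subgroup.card_subgroup_dvd_card L)
    · rw [hcompl.symm.index_eq_card, hcardT, hcardR]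
      exact hcopHR.coprime_dvd_left (Subgroup.card_dvd_of_le hTH)
    · exact Subgroup.comap_mono hR₀
    · rw [Cfsg.Agent.Lib.Helper24_CoprimeAction.card_subgroupOf_of_le (hR₀.trans hRL)]
      exact hR₀p
    · -- Z-group
      haveI := hZ
      have hmem : ∀ y : ↥(T.subgroupOf L ⊓ Subgroup.centralizer ((R₀.subgroupOf L : Subgroup ↥L) : Set ↥L)),
          ((y : ↥L) : G) ∈ H ⊓ Subgroup.centralizer (R₀ : Set G) := by
        intro y
        rw [Subgroup.mem_inf]
        refine ⟨hTH (Subgroup.mem_subgroupOf.mp y.2.1), ?_⟩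
        rw [Subgroup.mem_centralizer_iff]
        intro a ha
        have haL : a ∈ L := hRL (hR₀ ha)
        have h1 := Subgroup.mem_centralizer_iff.mp y.2.2 ⟨a, haL⟩
          (Subgroup.mem_subgroupOf.mpr ha)
        exact congrArg Subtype.val h1
      let f : ↥(T.subgroupOf L ⊓ Subgroup.centralizer ((R₀.subgroupOf L : Subgroup ↥L) : Set ↥L)) →*
          ↥(H ⊓ Subgroup.centralizer (R₀ : Set G)) :=
        MonoidHom.codRestrict (L.subtype.comp (Subgroup.subtype _)) _ hmem
      apply IsZGroup.of_injective (f := f)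
      intro y z hyz
      have h1 : ((y : ↥L) : G) = ((z : ↥L) : G) :=
        congrArg (fun w : ↥(H ⊓ Subgroup.centralizer (R₀ : Set G)) => (w : G)) hyz
      exact Subtype.ext (Subtype.ext h1)
    · apply Subgroup.map_injective L.subtype_injective
      rw [Subgroup.map_commutator, Subgroup.map_subgroupOf_eq_of_le hTL,
        Subgroup.map_subgroupOf_eq_of_le hRL]
      exact h27
  have hmain := main_aux p h36 (Nat.card ↥L) ↥L (T.subgroupOf L) (R.subgroupOf L)
    (R₀.subgroupOf L) rfl hbase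
  exact PLengthLE.of_equiv (Subgroup.subgroupOfEquivOfLe hTL) hmain

end Cfsg.Agent.Lib.Helper52_ZMainC
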