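import Mathlib
import Cfsg.Prelude.Def_OddOrderLocal
import Cfsg.Agent.Lib.Helper48_BG15b
import Cfsg.Agent.Lib.Helper70_BG1212
import Cfsg.Agent.Lib.Helper32_Cores
import Cfsg.Agent.Lib.Helper52_BG12a
import Cfsg.Agent.Lib.Helper49_Alpha3
import Cfsg.Agent.S1414

/-!
# B-G Proposition 15.2: glue between the abstract core (`Helper48_BG15b.main`) and the
Bender–Glauberman vocabulary of the Prelude.
-/

set_option autoImplicit false
set_option linter.unusedSectionVars false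
set_option linter.unusedVariables false
set_option linter.style.haveILetI false

namespace Cfsg.Agent.Lib.Helper48_BG15c

open Cfsg
open Cfsg.Agent.Lib.Helper49_Sigma
open Cfsg.Agent.Lib.Helper70_BG106
open Cfsg.Agent.Lib.Helper48_BG15a
open Cfsg.Agent.Lib.Helper48_BG15b
open scoped commutatorElement

universe u

section Translate

variable {G : Type u} [Group G]

/-- transporting `A ∩ C(S)` from `↥M` to `G` -/
theorem map_inf_centralizer (M : Subgroup G) (A : Subgroup ↥M) (S : Set ↥M) :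
    (A ⊓ Subgroup.centralizer S).map M.subtype =
      A.map M.subtype ⊓ Subgroup.centralizer (M.subtype '' S) := by
  ext x
  constructor
  · rintro ⟨a, ha, rfl⟩
    obtain ⟨haA, haC⟩ := Subgroup.mem_inf.mp ha
    refine Subgroup.mem_inf.mpr ⟨⟨a, haA, rfl⟩, ?_⟩
    rw [Subgroup.mem_centralizer_iff]
    rintro _ ⟨s, hs, rfl⟩
    have := (Subgroup.mem_centralizer_iff.mp haC) s hs
    exact congrArg Subtype.val this
  · intro hx
    obtain ⟨hxA, hxC⟩ := Subgroup.mem_inf.mp hx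
    obtain ⟨a, haA, rfl⟩ := hxA
    refine ⟨a, Subgroup.mem_inf.mpr ⟨haA, ?_⟩, rfl⟩
    rw [Subgroup.mem_centralizer_iff]
    intro s hs
    apply Subtype.ext
    exact (Subgroup.mem_centralizer_iff.mp hxC) _ ⟨s, hs, rfl⟩

theorem map_inf_centralizer_subgroup (M : Subgroup G) (A B : Subgroup ↥M) :
    (A ⊓ Subgroup.centralizer (B : Set ↥M)).map M.subtype =
      A.map M.subtype ⊓ Subgroup.centralizer ((B.map M.subtype : Subgroup G) : Set G) := by
  rw [map_inf_centralizer]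
  rfl

theorem map_inf_centralizer_singleton (M : Subgroup G) (A : Subgroup ↥M) (x : ↥M) :
    (A ⊓ Subgroup.centralizer ({x} : Set ↥M)).map M.subtype =
      A.map M.subtype ⊓ Subgroup.centralizer ({(x : G)} : Set G) := by
  rw [map_inf_centralizer, Set.image_singleton]
  rfl

theorem card_mul_of_isComplIn {A B M : Subgroup G} (h : IsComplIn A B M) :
    Nat.card A * Nat.card B = Nat.card M := by
  obtain ⟨hA, hB, hdisj, hmul⟩ := h
  rw [← Nat.card_prod]
  let f : ↥A × ↥B → ↥M := fun ab => ⟨(ab.1 : G) * (ab.2 : G), M.mul_mem (hA ab.1.2) (hB ab.2.2)⟩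
  apply Nat.card_congr (Equiv.ofBijective f ⟨?_, ?_⟩)
  · rintro ⟨⟨a, ha⟩, ⟨b, hb⟩⟩ ⟨⟨a', ha'⟩, ⟨b', hb'⟩⟩ hab
    have h0 : a * b = a' * b' := congrArg Subtype.val hab
    have h1 : a'⁻¹ * a = b' * b⁻¹ := by
      have : a'⁻¹ * a = a'⁻¹ * (a * b) * b⁻¹ := by group
      rw [this, h0]; group
    have h2 : a'⁻¹ * a ∈ A ⊓ B := by
      refine Subgroup.mem_inf.mpr ⟨A.mul_mem (A.inv_mem ha') ha, ?_⟩
      rw [h1]; exact B.mul_mem hb' (B.inv_mem hb)
    rw [hdisj, Subgroup.mem_bot] at h2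
    have h3 : a = a' := by
      have : a = a' * (a'⁻¹ * a) := by group
      rw [this, h2, mul_one]
    subst h3
    have h4 : b = b' := mul_left_cancel h0
    subst h4
    rfl
  · rintro ⟨m, hm⟩
    obtain ⟨a, ha, b, hb, hab⟩ := hmul m hm
    exact ⟨(⟨a, ha⟩, ⟨b, hb⟩), Subtype.ext hab.symm⟩

theorem relIndex_mul_card_of_le {H K : Subgroup G} (h : H ≤ K) :
    H.relIndex K * Nat.card H = Nat.card K := by
  have := Subgroup.card_mul_index (H.subgroupOf K)
  rw [Cfsg.Agent.Lib.Helper24_CoprimeAction.card_subgroupOf_of_le h, mul_comm] at this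
  exact this

/-- a solvable group generated by a normal subgroup and its commutator subgroup -/
theorem eq_top_of_sup_commutator {H : Type*} [Group H] [Group.IsSolvable H] (B : Subgroup H)
    [B.Normal] (h : B ⊔ _root_.commutator H = ⊤) : B = ⊤ := by
  by_contra hne
  haveI : Nontrivial (H ⧸ B) := by
    rw [← not_subsingleton_iff_nontrivial, QuotientGroup.subsingleton_iff]
    exact hne
  have hlt := Group.IsSolvable.commutator_lt_top_of_nontrivial (G := H ⧸ B)
  apply hlt.ne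
  have h1 : (_root_.commutator H).map (QuotientGroup.mk' B) = _root_.commutator (H ⧸ B) := by
    rw [commutator_def, commutator_def, Subgroup.map_commutator,
      ← MonoidHom.range_eq_map, MonoidHom.range_eq_top.mpr (QuotientGroup.mk'_surjective B)]
  rw [← h1]
  have h2 : (B ⊔ _root_.commutator H).map (QuotientGroup.mk' B) = ⊤ := by
    rw [h, ← MonoidHom.range_eq_map, MonoidHom.range_eq_top.mpr (QuotientGroup.mk'_surjective B)]
  rw [Subgroup.map_sup] at h2
  have h3 : B.map (QuotientGroup.mk' B) = ⊥ := by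
    rw [Subgroup.map_eq_bot_iff, QuotientGroup.ker_mk']
  rw [h3, bot_sup_eq] at h2
  exact h2

end Translate

section Basic

variable {G : Type u} [Group G] [Finite G]

theorem isSolvable_coatom (hG : IsMinSimpleOddOrder G) {M : Subgroup G} (hM : IsCoatom M) :
    Group.IsSolvable ↥M := hG.2.2.2 M hM.1

theorem odd_card_subgroup (hG : IsMinSimpleOddOrder G) (M : Subgroup G) : Odd (Nat.card ↥M) :=
  Odd.of_dvd_nat hG.1 (Subgroup.card_subgroup_dvd_card M)

/-- `M_F ≤ M_σ` -/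
theorem fittingHall_le_piCore_sigma (hG : IsMinSimpleOddOrder G) {M : Subgroup G}
    (hM : IsCoatom M) : fittingHall ↥M ≤ piCore (sigma M) ↥M := by
  apply sSup_le
  rintro A ⟨hAn, hAnil, hAcop⟩
  apply Cfsg.Agent.Lib.Helper32_Cores.le_piCore hAn
  intro q hq hqA
  haveI : Fact q.Prime := ⟨hq⟩
  have h3 := (Group.isNilpotent_of_finite_tfae (G := ↥A)).out 0 3 |>.mp hAnil
  let P : Sylow q ↥A := default
  have hPn : (P : Subgroup ↥A).Normal := h3 q inferInstance P
  haveI hPc : (P : Subgroup ↥A).Characteristic := Sylow.characteristic_of_normal P hPn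
  set P' : Subgroup ↥M := (P : Subgroup ↥A).map A.subtype with hP'
  haveI hP'n : P'.Normal := by
    haveI := hAn
    rw [hP']; infer_instance
  set T : Subgroup G := P'.map M.subtype with hT
  have hP'A : P' ≤ A := Subgroup.map_subtype_le _
  have hidx : P'.index = (P : Subgroup ↥A).index * A.index := by
    rw [← Subgroup.relIndex_mul_index hP'A]
    congr 1
    rw [hP', Subgroup.relIndex, Subgroup.subgroupOf,
      Subgroup.comap_map_eq_self_of_injective A.subtype_injective]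
  have hqidx : ¬ q ∣ P'.index := by
    rw [hidx]
    intro hd
    rcases (Nat.Prime.dvd_mul hq).mp hd with h1 | h1
    · exact P.not_dvd_index h1
    · have h2 : q ∣ Nat.gcd (Nat.card A) A.index := Nat.dvd_gcd hqA h1
      rw [hAcop] at h2
      exact hq.one_lt.ne' (Nat.dvd_one.mp h2)
  have hS : Cfsg.Agent.Lib.Helper84_RelSylow.IsSylowIn q T M := by
    refine ⟨Subgroup.map_subtype_le _, (P.isPGroup'.map _).map _, ?_⟩
    have : T.relIndex M = P'.index := by
      rw [hT, Subgroup.relIndex, Subgroup.subgroupOf,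
        Subgroup.comap_map_eq_self_of_injective M.subtype_injective]
    rw [this]
    exact hqidx
  have hT1 : T ≠ ⊥ := by
    intro h0
    have h1 : P' = ⊥ := (Subgroup.map_eq_bot_iff_of_injective _ M.subtype_injective).mp h0
    have h2 : (P : Subgroup ↥A) = ⊥ :=
      (Subgroup.map_eq_bot_iff_of_injective _ A.subtype_injective).mp h1
    exact P.ne_bot_of_dvd_card hqA h2
  have hN : Subgroup.normalizer (T : Set G) = M :=
    Cfsg.Agent.Lib.Helper52_BG12a.normalizer_eq_of_le hG hM hT1 (Subgroup.map_subtype_le _)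
      (Cfsg.Agent.Lib.Helper52_BG12a.le_normalizer_map_subtype M P')
  exact Cfsg.Agent.Lib.Helper49_Alpha3.mem_sigma_of_normalizer_le hS hT1 hN.le

end Basic

section Main

variable {G : Type u} [Group G] [Finite G]

/-- The hypotheses of B-G Proposition 15.2, together with the needed parts of S1429, S1430 and
S1373 (for the given `M`, `K`, `U`). -/
structure Hyp (M K U : Subgroup G) : Prop where
  hG : IsMinSimpleOddOrder G
  hU : UniqHyp G
  h44 : H1444.{u}
  hM : IsCoatom M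
  hKU : IsSigmaDecomposition M K U
  hne : fittingHallOf M ≠ sigmaCore M
  hA : (¬ ∀ q : ℕ, q.Prime → q ∣ Nat.card M → q ∉ sigma M → q ∈ kappa M) →
    Group.IsNilpotent (sigmaCore M)
  hB : K ≠ ⊥ → ∀ k ∈ K, k ≠ 1 → sigmaCore M ⊓ Subgroup.centralizer ({k} : Set G) =
    sigmaCore M ⊓ Subgroup.centralizer (K : Set G)
  hC : K ≠ ⊥ → U = ⊥ → (Nat.card ↥(sigmaCore M ⊓ Subgroup.centralizer (K : Set G))).Prime

variable {M K U : Subgroup G}

/-- `M_σ` inside `↥M` -/
abbrev NN (M : Subgroup G) : Subgroup ↥M := piCore (sigma M) ↥M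

/-- `K` inside `↥M` -/
abbrev RR (M K : Subgroup G) : Subgroup ↥M := K.subgroupOf M

theorem map_NN (M : Subgroup G) : (NN M).map M.subtype = sigmaCore M := rfl

theorem Hyp.K_le (h : Hyp M K U) : K ≤ M := h.hKU.hall.1

theorem Hyp.map_RR (h : Hyp M K U) : (RR M K).map M.subtype = K :=
  Subgroup.map_subgroupOf_eq_of_le h.K_le

theorem Hyp.card_RR (h : Hyp M K U) : Nat.card (RR M K) = Nat.card K :=
  Cfsg.Agent.Lib.Helper24_CoprimeAction.card_subgroupOf_of_le h.K_le

theorem card_NN (M : Subgroup G) : Nat.card (NN M) = Nat.card (sigmaCore M) :=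
  (Subgroup.card_map_of_injective M.subtype_injective).symm

theorem Hyp.hall_NN (h : Hyp M K U) : (Nat.card (NN M)).Coprime (NN M).index := by
  apply Nat.coprime_of_dvd
  intro q hq hd hd'
  exact Cfsg.Agent.Lib.Helper70_BG1212.not_dvd_index_piCore_sigma h.hG h.hU h.h44 M h.hM
    (Cfsg.Agent.Lib.Helper32_Cores.card_piCore (sigma M) q hq hd) hd'

theorem Hyp.not_nil (h : Hyp M K U) : ¬ Group.IsNilpotent ↥(NN M) := by
  intro hnil
  apply h.hne
  have h1 : NN M ≤ fittingHall ↥M := le_sSup ⟨inferInstance, hnil, h.hall_NN⟩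
  have h2 : fittingHall ↥M = NN M := le_antisymm (fittingHall_le_piCore_sigma h.hG h.hM) h1
  unfold fittingHallOf sigmaCore
  rw [h2]

theorem Hyp.all_kappa (h : Hyp M K U) :
    ∀ q : ℕ, q.Prime → q ∣ Nat.card M → q ∉ sigma M → q ∈ kappa M := by
  by_contra hcon
  have h1 := h.hA hcon
  apply h.not_nil
  haveI : Group.IsNilpotent ↥((NN M).map M.subtype) := h1
  exact Group.nilpotent_of_mulEquiv
    ((NN M).equivMapOfInjective M.subtype M.subtype_injective).symm

theorem Hyp.U_eq_bot (h : Hyp M K U) : U = ⊥ := by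
  by_contra hU1
  have hcard := card_mul_of_isComplIn h.hKU.compl
  have hU1' : Nat.card U ≠ 1 := fun h0 => hU1 (Subgroup.card_eq_one.mp h0)
  obtain ⟨p, hp, hpU⟩ := Nat.exists_prime_and_dvd hU1'
  have hUM : U ≤ M := h.hKU.compl.1
  have hpM : p ∣ Nat.card M := hpU.trans (Subgroup.card_dvd_of_le hUM)
  have hKS : K ⊔ sigmaCore M ≤ M := h.hKU.compl.2.1
  by_cases hσ : p ∈ sigma M
  · -- `p ∣ [M : M_σ]`
    have h1 := Cfsg.Agent.Lib.Helper70_BG1212.not_dvd_index_piCore_sigma h.hG h.hU h.h44 M h.hM hσ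
    apply h1
    have h2 : (NN M).index * Nat.card (sigmaCore M) = Nat.card M := by
      rw [← card_NN, mul_comm]; exact Subgroup.card_mul_index (NN M)
    obtain ⟨t, ht⟩ := Subgroup.card_dvd_of_le (le_sup_right : sigmaCore M ≤ K ⊔ sigmaCore M)
    rw [ht, ← h2] at hcard
    have hpos : 0 < Nat.card (sigmaCore M) := Nat.card_pos
    have h3 : Nat.card U * t = (NN M).index := by
      apply Nat.eq_of_mul_eq_mul_right hpos
      rw [← hcard]; ring
    rw [← h3]
    exact hpU.mul_right t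
  · have hκ : p ∈ kappa M := h.all_kappa p hp hpM hσ
    have h1 := h.hKU.hall.2.2 p hp hκ
    apply h1
    have h2 := relIndex_mul_card_of_le h.K_le
    obtain ⟨t, ht⟩ := Subgroup.card_dvd_of_le (le_sup_left : K ≤ K ⊔ sigmaCore M)
    rw [ht, ← h2] at hcard
    have hpos : 0 < Nat.card K := Nat.card_pos
    have h3 : Nat.card U * t = K.relIndex M := by
      apply Nat.eq_of_mul_eq_mul_right hpos
      rw [← hcard]; ring
    rw [← h3]
    exact hpU.mul_right t

theorem Hyp.sup_eq_top (h : Hyp M K U) : NN M ⊔ RR M K = ⊤ := by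
  rw [eq_top_iff]
  rintro ⟨m, hm⟩ -
  obtain ⟨a, ha, b, hb, hab⟩ := h.hKU.compl.2.2.2 m hm
  rw [h.U_eq_bot, Subgroup.mem_bot] at ha
  rw [ha, one_mul] at hab
  have hle : K ⊔ sigmaCore M ≤ ((NN M ⊔ RR M K).map M.subtype) := by
    rw [Subgroup.map_sup, map_NN, h.map_RR, sup_comm]
  have h1 : m ∈ (NN M ⊔ RR M K).map M.subtype := by
    rw [hab]; exact hle hb
  obtain ⟨m', hm', hmm'⟩ := h1
  have : m' = ⟨m, hm⟩ := Subtype.ext hmm'
  rw [← this]
  exact hm'

theorem Hyp.cop (h : Hyp M K U) : (Nat.card (NN M)).Coprime (Nat.card (RR M K)) := by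
  apply Nat.coprime_of_dvd
  intro q hq hd hd'
  have h1 : q ∈ sigma M := Cfsg.Agent.Lib.Helper32_Cores.card_piCore (sigma M) q hq hd
  rw [h.card_RR] at hd'
  have h2 : q ∈ kappa M := h.hKU.hall.2.1 q hq hd'
  exact h2.2.2.1 h1

theorem Hyp.RR_ne (h : Hyp M K U) : RR M K ≠ ⊥ := by
  intro h0
  have h1 := h.sup_eq_top
  rw [h0, sup_bot_eq] at h1
  haveI := isSolvable_coatom h.hG h.hM
  have h2 : NN M ≤ _root_.commutator ↥M :=
    Cfsg.Agent.Lib.Helper70_BG1212.piCore_sigma_le_commutator h.hG h.hU M h.hM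
  rw [h1, top_le_iff] at h2
  have h3 : (⊥ : Subgroup ↥M) = ⊤ := by
    apply eq_top_of_sup_commutator
    rw [h2, bot_sup_eq]
  apply h.not_nil
  haveI : Subsingleton ↥M := Subgroup.subsingleton_iff.mp (subsingleton_of_bot_eq_top h3)
  infer_instance

theorem Hyp.K_ne (h : Hyp M K U) : K ≠ ⊥ := by
  intro h0
  apply h.RR_ne
  unfold RR
  rw [h0, Subgroup.bot_subgroupOf]

theorem Hyp.comm (h : Hyp M K U) : ⁅NN M, RR M K⁆ = NN M := by
  haveI := isSolvable_coatom h.hG h.hM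
  exact (Cfsg.Agent.Lib.Helper70_BG106.eq_commutator_of_le_derived (NN M) (RR M K) h.sup_eq_top
    h.cop (Cfsg.Agent.Lib.Helper70_BG1212.piCore_sigma_le_commutator h.hG h.hU M h.hM)).symm

theorem Hyp.map_C (h : Hyp M K U) :
    (NN M ⊓ Subgroup.centralizer (RR M K : Set ↥M)).map M.subtype =
      sigmaCore M ⊓ Subgroup.centralizer (K : Set G) := by
  rw [map_inf_centralizer_subgroup, map_NN, h.map_RR]

/-- `q = |K*|` -/
noncomputable def qq (M K : Subgroup G) : ℕ := Nat.card ↥(sigmaCore M ⊓ Subgroup.centralizer (K : Set G))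

theorem Hyp.card_C (h : Hyp M K U) :
    Nat.card ↥(NN M ⊓ Subgroup.centralizer (RR M K : Set ↥M)) = qq M K := by
  unfold qq
  rw [← h.map_C, Subgroup.card_map_of_injective M.subtype_injective]

theorem Hyp.prime_act (h : Hyp M K U) : ∀ x ∈ RR M K, x ≠ 1 →
    NN M ⊓ Subgroup.centralizer ({x} : Set ↥M) =
      NN M ⊓ Subgroup.centralizer (RR M K : Set ↥M) := by
  intro x hx hx1
  apply Subgroup.map_injective M.subtype_injective
  rw [map_inf_centralizer_singleton, h.map_C, map_NN]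
  exact h.hB h.K_ne (x : G) (Subgroup.mem_subgroupOf.mp hx) (fun h0 => hx1 (Subtype.ext h0))

theorem Hyp.setup (h : Hyp M K U) : Setup (NN M) (RR M K) (qq M K) where
  normal := inferInstance
  sup := h.sup_eq_top
  cop := h.cop
  R_ne := h.RR_ne
  prime_act := h.prime_act
  card_C := h.card_C
  comm := h.comm
  not_nil := h.not_nil

theorem Hyp.qq_prime (h : Hyp M K U) : (qq M K).Prime := h.hC h.K_ne h.U_eq_bot

/-- `M_σ = M'` -/
theorem Hyp.sigmaCore_eq (h : Hyp M K U) : sigmaCore M = ⁅M, M⁆ := by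
  rw [← Subgroup.map_subtype_commutator M]
  unfold sigmaCore
  congr 1
  apply le_antisymm
    (Cfsg.Agent.Lib.Helper70_BG1212.piCore_sigma_le_commutator h.hG h.hU M h.hM)
  rw [commutator_def, Subgroup.commutator_le]
  intro g₁ _ g₂ _
  have hc := isComplement'_NR h.setup
  obtain ⟨⟨⟨n₁, hn₁⟩, ⟨r₁, hr₁⟩⟩, h1⟩ := (hc.existsUnique g₁).exists
  obtain ⟨⟨⟨n₂, hn₂⟩, ⟨r₂, hr₂⟩⟩, h2⟩ := (hc.existsUnique g₂).exists
  simp only at h1 h2
  rw [← QuotientGroup.eq_one_iff, ← QuotientGroup.mk'_apply, map_commutatorElement, ← h1, ← h2,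
    map_mul, map_mul]
  have e1 : QuotientGroup.mk' (NN M) n₁ = 1 := (QuotientGroup.eq_one_iff n₁).mpr hn₁
  have e2 : QuotientGroup.mk' (NN M) n₂ = 1 := (QuotientGroup.eq_one_iff n₂).mpr hn₂
  rw [e1, e2, one_mul, one_mul, ← map_commutatorElement]
  have hcomm : ⁅r₁, r₂⁆ = 1 := by
    rw [commutatorElement_eq_one_iff_commute]
    haveI := h.hKU.cyclic
    obtain ⟨g, hg⟩ := IsCyclic.exists_generator (α := ↥K)
    obtain ⟨a, ha⟩ := Subgroup.mem_zpowers_iff.mp (hg ⟨(r₁ : G), Subgroup.mem_subgroupOf.mp hr₁⟩)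
    obtain ⟨b, hb⟩ := Subgroup.mem_zpowers_iff.mp (hg ⟨(r₂ : G), Subgroup.mem_subgroupOf.mp hr₂⟩)
    have ha' : (r₁ : G) = (g : G) ^ a := by
      have := congrArg Subtype.val ha; simpa using this.symm
    have hb' : (r₂ : G) = (g : G) ^ b := by
      have := congrArg Subtype.val hb; simpa using this.symm
    apply Subtype.ext
    rw [Subgroup.coe_mul, Subgroup.coe_mul, ha', hb']
    exact ((Commute.refl (g : G)).zpow_zpow a b).eq
  rw [hcomm, map_one]

theorem Hyp.card_K_prime (h : Hyp M K U) : (Nat.card K).Prime := by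
  haveI : Fact (qq M K).Prime := ⟨h.qq_prime⟩
  haveI := isSolvable_coatom h.hG h.hM
  rw [← h.card_RR]
  exact (main (odd_card_subgroup h.hG M) h.setup).1

/-- the Sylow `q`-subgroup `Q` of `M_σ`, as a subgroup of `G` -/
noncomputable def QQ (M K : Subgroup G) : Subgroup G := (Q1 (NN M) (qq M K)).map M.subtype

theorem QQ_le_sigmaCore (M K : Subgroup G) : QQ M K ≤ sigmaCore M :=
  Subgroup.map_mono (Q1_le _ _)

theorem Hyp.QQ_le_fittingHallOf (h : Hyp M K U) : QQ M K ≤ fittingHallOf M := by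
  haveI : Fact (qq M K).Prime := ⟨h.qq_prime⟩
  haveI := isSolvable_coatom h.hG h.hM
  apply Subgroup.map_mono
  exact le_sSup ⟨Q1_normal _ _, (Q1_isPGroup _ _).isNilpotent,
    Q1_hall (odd_card_subgroup h.hG M) h.setup⟩

theorem Hyp.le_normalizer_QQ (h : Hyp M K U) :
    M ≤ Subgroup.normalizer ((QQ M K : Subgroup G) : Set G) := by
  haveI : Fact (qq M K).Prime := ⟨h.qq_prime⟩
  haveI : (Q1 (NN M) (qq M K)).Normal := Q1_normal _ _
  exact Cfsg.Agent.Lib.Helper52_BG12a.le_normalizer_map_subtype M _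

theorem Hyp.isPGroup_QQ (h : Hyp M K U) : IsPGroup (qq M K) (QQ M K) := by
  haveI : Fact (qq M K).Prime := ⟨h.qq_prime⟩
  exact (Q1_isPGroup _ _).map _

theorem Hyp.not_dvd_relIndex_QQ (h : Hyp M K U) :
    ¬ qq M K ∣ (QQ M K).relIndex (sigmaCore M) := by
  haveI : Fact (qq M K).Prime := ⟨h.qq_prime⟩
  haveI := isSolvable_coatom h.hG h.hM
  unfold QQ sigmaCore
  rw [Subgroup.relIndex_map_map_of_injective _ _ M.subtype_injective]
  exact not_dvd_relIndex_Q1 (odd_card_subgroup h.hG M) h.setup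

theorem Hyp.qq_dvd_card_QQ (h : Hyp M K U) : qq M K ∣ Nat.card (QQ M K) := by
  haveI : Fact (qq M K).Prime := ⟨h.qq_prime⟩
  haveI := isSolvable_coatom h.hG h.hM
  unfold QQ
  rw [Subgroup.card_map_of_injective M.subtype_injective]
  have h1 := Subgroup.card_dvd_of_le (C_le_Q1 (odd_card_subgroup h.hG M) h.setup)
  rwa [h.card_C] at h1

/-- the statement about complements `D` of `Q` in `M_σ` -/
theorem Hyp.compl_statement (h : Hyp M K U) :
    ∀ D : Subgroup G, IsComplIn (QQ M K) D (sigmaCore M) →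
      Group.IsNilpotent D ∧
      M ≤ Subgroup.normalizer ((QQ M K ⊓ Subgroup.centralizer (D : Set G) : Subgroup G) : Set G) ∧
      QQ M K ⊓ Subgroup.centralizer (D : Set G) < QQ M K ∧
      Nat.card (QQ M K) =
        Nat.card ↥(QQ M K ⊓ Subgroup.centralizer (D : Set G)) * qq M K ^ Nat.card K ∧
      (∀ a ∈ QQ M K, ∀ b ∈ QQ M K, a ^ qq M K ∈ QQ M K ⊓ Subgroup.centralizer (D : Set G) ∧
        a * b * a⁻¹ * b⁻¹ ∈ QQ M K ⊓ Subgroup.centralizer (D : Set G)) ∧
      ∀ L : Subgroup G, QQ M K ⊓ Subgroup.centralizer (D : Set G) < L → L < QQ M K →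
        ¬ M ≤ Subgroup.normalizer (L : Set G) := by
  haveI : Fact (qq M K).Prime := ⟨h.qq_prime⟩
  haveI := isSolvable_coatom h.hG h.hM
  obtain ⟨-, Q0, hQ0n, hQ0lt, hQ0card, hQ0pow, hQ0btw, hQ0D⟩ :=
    main (odd_card_subgroup h.hG M) h.setup
  have hinj := M.subtype_injective
  intro D hD
  obtain ⟨hQle, hDle, hdisj, hmul⟩ := hD
  have hDM : D ≤ M := hDle.trans (Cfsg.Agent.Lib.Helper52_BG12a.sigmaCore_le M)
  set D' : Subgroup ↥M := D.subgroupOf M with hD'
  have hD'map : D'.map M.subtype = D := Subgroup.map_subgroupOf_eq_of_le hDM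
  have hD'N : D' ≤ NN M := by
    intro d hd
    have h1 : (d : G) ∈ sigmaCore M := hDle (Subgroup.mem_subgroupOf.mp hd)
    exact (Subgroup.mem_map_iff_mem hinj).mp h1
  have hD'disj : Q1 (NN M) (qq M K) ⊓ D' = ⊥ := by
    apply (Subgroup.map_eq_bot_iff_of_injective _ hinj).mp
    rw [Subgroup.map_inf _ _ _ hinj, hD'map]
    exact hdisj
  have hD'mul : ∀ n ∈ NN M, ∃ a ∈ Q1 (NN M) (qq M K), ∃ b ∈ D', n = a * b := by
    intro n hn
    obtain ⟨a, ha, b, hb, hab⟩ := hmul (n : G) ⟨n, hn, rfl⟩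
    obtain ⟨a', ha', rfl⟩ := ha
    refine ⟨a', ha', ⟨b, hDM hb⟩, Subgroup.mem_subgroupOf.mpr hb, Subtype.ext ?_⟩
    simpa using hab
  obtain ⟨hnil, hQ0eq⟩ := hQ0D D' hD'N hD'disj hD'mul
  have hQ0G : QQ M K ⊓ Subgroup.centralizer (D : Set G) = Q0.map M.subtype := by
    rw [← hQ0eq, map_inf_centralizer_subgroup, hD'map]
    rfl
  rw [hQ0G]
  refine ⟨?_, ?_, ?_, ?_, ?_, ?_⟩
  · haveI := hnil
    exact Group.nilpotent_of_mulEquiv (Subgroup.subgroupOfEquivOfLe hDM)
  · haveI := hQ0n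
    exact Cfsg.Agent.Lib.Helper52_BG12a.le_normalizer_map_subtype M Q0
  · exact (Subgroup.map_lt_map_iff_of_injective hinj).mpr hQ0lt
  · unfold QQ
    rw [Subgroup.card_map_of_injective hinj, Subgroup.card_map_of_injective hinj, hQ0card,
      h.card_RR]
  · rintro a ⟨a', ha', rfl⟩ b ⟨b', hb', rfl⟩
    obtain ⟨h1, h2⟩ := hQ0pow a' ha' b' hb'
    exact ⟨⟨a' ^ qq M K, h1, by simp⟩, ⟨a' * b' * a'⁻¹ * b'⁻¹, h2, by simp⟩⟩
  · intro L hL1 hL2 hLn
    have hLM : L ≤ M := hL2.le.trans ((QQ_le_sigmaCore M K).trans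
      (Cfsg.Agent.Lib.Helper52_BG12a.sigmaCore_le M))
    have hL'map : (L.subgroupOf M).map M.subtype = L := Subgroup.map_subgroupOf_eq_of_le hLM
    have hL'n : (L.subgroupOf M).Normal :=
      (Subgroup.normal_subgroupOf_iff_le_normalizer hLM).mpr hLn
    rw [← hL'map] at hL1 hL2
    exact hQ0btw (L.subgroupOf M) hL'n ((Subgroup.map_lt_map_iff_of_injective hinj).mp hL1)
      ((Subgroup.map_lt_map_iff_of_injective hinj).mp hL2)

/-- `q ∈ β(M)` -/
theorem Hyp.qq_mem_beta (h : Hyp M K U) : qq M K ∈ beta M := by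
  by_contra hβ
  have hq := h.qq_prime
  haveI : Fact (qq M K).Prime := ⟨hq⟩
  have hSM : sigmaCore M ≤ M := Cfsg.Agent.Lib.Helper52_BG12a.sigmaCore_le M
  have hqM : qq M K ∣ Nat.card M :=
    h.qq_dvd_card_QQ.trans (Subgroup.card_dvd_of_le ((QQ_le_sigmaCore M K).trans hSM))
  obtain ⟨P, T, hTn, hTP⟩ :=
    ((Cfsg.Agent.S1414.result h.hG M h.hM).2.2.2.2 (qq M K) hq hqM hβ).2.1
  set PG : Subgroup G := (P : Subgroup ↥(sigmaCore M)).map (sigmaCore M).subtype with hPG
  set D : Subgroup G := T.map (sigmaCore M).subtype with hD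
  have hPS : Cfsg.Agent.Lib.Helper84_RelSylow.IsSylowIn (qq M K) PG (sigmaCore M) :=
    Cfsg.Agent.Lib.Helper84_RelSylow.isSylowIn_of_sylow P
  have hQS : Cfsg.Agent.Lib.Helper84_RelSylow.IsSylowIn (qq M K) (QQ M K) (sigmaCore M) :=
    ⟨QQ_le_sigmaCore M K, h.isPGroup_QQ, h.not_dvd_relIndex_QQ⟩
  have hPQ : PG ≤ QQ M K := by
    obtain ⟨g, hgS, hg⟩ := hQS.exists_conj_le (K := PG) (Subgroup.map_subtype_le _) hPS.isPGroup
    intro x hx
    have h1 := hg x hx
    have h2 := (Subgroup.mem_normalizer_iff.mp (h.le_normalizer_QQ (hSM hgS))) x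
    exact h2.mpr h1
  have hEq : QQ M K = PG := hPS.eq_of_le hPQ (QQ_le_sigmaCore M K) h.isPGroup_QQ
  have hcompl : IsComplIn (QQ M K) D (sigmaCore M) := by
    refine ⟨QQ_le_sigmaCore M K, Subgroup.map_subtype_le _, ?_, ?_⟩
    · rw [hEq, hPG, hD, ← Subgroup.map_inf _ _ _ (sigmaCore M).subtype_injective,
        hTP.symm.disjoint.eq_bot, Subgroup.map_bot]
    · intro m hm
      obtain ⟨⟨⟨p, hp⟩, ⟨t, ht⟩⟩, hpt⟩ := (hTP.symm.existsUnique ⟨m, hm⟩).exists
      refine ⟨p, by rw [hEq]; exact ⟨p, hp, rfl⟩, t, ⟨t, ht, rfl⟩, ?_⟩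
      exact (congrArg Subtype.val hpt).symm
  obtain ⟨-, -, hlt, -⟩ := h.compl_statement D hcompl
  apply hlt.ne
  rw [inf_eq_left]
  intro a ha
  rw [Subgroup.mem_centralizer_iff]
  rintro _ ⟨t, ht, rfl⟩
  have haS : a ∈ sigmaCore M := QQ_le_sigmaCore M K ha
  have h1 : a * (t : G) * a⁻¹ ∈ D :=
    ⟨⟨a, haS⟩ * t * ⟨a, haS⟩⁻¹, hTn.conj_mem t ht ⟨a, haS⟩, by simp⟩
  have htM : (t : G) ∈ M := hSM t.2
  have h2 : (t : G) * a⁻¹ * (t : G)⁻¹ ∈ QQ M K :=
    (Subgroup.mem_normalizer_iff.mp (h.le_normalizer_QQ htM) a⁻¹).mp (Subgroup.inv_mem _ ha)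
  have h3 : a * (t : G) * a⁻¹ * (t : G)⁻¹ ∈ QQ M K ⊓ D := by
    refine Subgroup.mem_inf.mpr ⟨?_, ?_⟩
    · have := Subgroup.mul_mem _ ha h2
      have e : a * ((t : G) * a⁻¹ * (t : G)⁻¹) = a * (t : G) * a⁻¹ * (t : G)⁻¹ := by group
      rwa [e] at this
    · exact Subgroup.mul_mem _ h1 (Subgroup.inv_mem _ ⟨t, ht, rfl⟩)
  rw [hcompl.2.2.1, Subgroup.mem_bot] at h3
  have h4 : a * (t : G) = (t : G) * a := by
    have e : a * (t : G) = (a * (t : G) * a⁻¹ * (t : G)⁻¹) * ((t : G) * a) := by group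
    rw [e, h3, one_mul]
  exact h4.symm

/-- **B-G Proposition 15.2**, modulo the hypotheses packaged in `Hyp`. -/
theorem Hyp.statement (h : Hyp M K U) :
    U = ⊥ ∧ sigmaCore M = ⁅M, M⁆ ∧ (Nat.card K).Prime ∧
      (Nat.card ↥(sigmaCore M ⊓ Subgroup.centralizer (K : Set G))).Prime ∧
      Nat.card ↥(sigmaCore M ⊓ Subgroup.centralizer (K : Set G)) ∣ Nat.card (fittingHallOf M) ∧
      Nat.card ↥(sigmaCore M ⊓ Subgroup.centralizer (K : Set G)) ∈ beta M ∧
      ∃ Q : Subgroup G, Q ≤ fittingHallOf M ∧ M ≤ Subgroup.normalizer (Q : Set G) ∧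
        IsPGroup (Nat.card ↥(sigmaCore M ⊓ Subgroup.centralizer (K : Set G))) Q ∧
        ¬ Nat.card ↥(sigmaCore M ⊓ Subgroup.centralizer (K : Set G)) ∣ Q.relIndex (sigmaCore M) ∧
        ∀ D : Subgroup G, IsComplIn Q D (sigmaCore M) →
          Group.IsNilpotent D ∧
          M ≤ Subgroup.normalizer ((Q ⊓ Subgroup.centralizer (D : Set G) : Subgroup G) : Set G) ∧
          Q ⊓ Subgroup.centralizer (D : Set G) < Q ∧
          Nat.card Q = Nat.card ↥(Q ⊓ Subgroup.centralizer (D : Set G)) *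
            Nat.card ↥(sigmaCore M ⊓ Subgroup.centralizer (K : Set G)) ^ Nat.card K ∧
          (∀ a ∈ Q, ∀ b ∈ Q,
            a ^ Nat.card ↥(sigmaCore M ⊓ Subgroup.centralizer (K : Set G)) ∈
              Q ⊓ Subgroup.centralizer (D : Set G) ∧
            a * b * a⁻¹ * b⁻¹ ∈ Q ⊓ Subgroup.centralizer (D : Set G)) ∧
          ∀ N : Subgroup G, Q ⊓ Subgroup.centralizer (D : Set G) < N → N < Q →
            ¬ M ≤ Subgroup.normalizer (N : Set G) :=
  ⟨h.U_eq_bot, h.sigmaCore_eq, h.card_K_prime, h.qq_prime,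
    h.qq_dvd_card_QQ.trans (Subgroup.card_dvd_of_le h.QQ_le_fittingHallOf), h.qq_mem_beta,
    QQ M K, h.QQ_le_fittingHallOf, h.le_normalizer_QQ, h.isPGroup_QQ, h.not_dvd_relIndex_QQ,
    h.compl_statement⟩

/-- **B-G Proposition 15.2 (S1437)**, with the frozen statements S1429, S1430, S1373 (for the group
`G`) as explicit hypotheses. -/
theorem statement_of (hG : IsMinSimpleOddOrder G) (hU : UniqHyp G) (h44 : H1444.{u})
    (h29 : ∀ (M : Subgroup G) (_ : IsCoatom M)
      (_ : ¬ (∀ q : ℕ, q.Prime → q ∣ Nat.card M → q ∉ sigma M → q ∈ kappa M))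
      (p : ℕ) [Fact p.Prime] (_ : p ∣ Nat.card M) (_ : p ∉ sigma M ∪ kappa M) (S : Sylow p M),
      Nat.card ↥(Subgroup.closure {x : G | x ∈ (S : Subgroup M).map M.subtype ∧ x ^ p = 1}) ≤ p ^ 2 ∧
      sigmaCore M ⊓ Subgroup.centralizer ((Subgroup.closure
        {x : G | x ∈ (S : Subgroup M).map M.subtype ∧ x ^ p = 1} : Subgroup G) : Set G) = ⊥ ∧
      Group.IsNilpotent (sigmaCore M))
    (h30 : ∀ (M : Subgroup G) (_ : IsCoatom M) (K : Subgroup G) (_ : IsPiHallOf (kappa M) K M)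
      (_ : K ≠ ⊥), ∀ k ∈ K, k ≠ 1 → sigmaCore M ⊓ Subgroup.centralizer ({k} : Set G) =
        (sigmaCore M ⊓ Subgroup.centralizer (K : Set G)))
    (h73 : ∀ (M : Subgroup G) (_ : IsCoatom M) (K U : Subgroup G) (_ : IsSigmaDecomposition M K U)
      (_ : K ≠ ⊥) (_ : U = ⊥),
      (Nat.card ↥(sigmaCore M ⊓ Subgroup.centralizer (K : Set G))).Prime)
    (M : Subgroup G) (hM : IsCoatom M) (K U : Subgroup G) (hKU : IsSigmaDecomposition M K U)
    (hne : fittingHallOf M ≠ sigmaCore M) :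
    U = ⊥ ∧ sigmaCore M = ⁅M, M⁆ ∧ (Nat.card K).Prime ∧
      (Nat.card ↥(sigmaCore M ⊓ Subgroup.centralizer (K : Set G))).Prime ∧
      Nat.card ↥(sigmaCore M ⊓ Subgroup.centralizer (K : Set G)) ∣ Nat.card (fittingHallOf M) ∧
      Nat.card ↥(sigmaCore M ⊓ Subgroup.centralizer (K : Set G)) ∈ beta M ∧
      ∃ Q : Subgroup G, Q ≤ fittingHallOf M ∧ M ≤ Subgroup.normalizer (Q : Set G) ∧
        IsPGroup (Nat.card ↥(sigmaCore M ⊓ Subgroup.centralizer (K : Set G))) Q ∧
        ¬ Nat.card ↥(sigmaCore M ⊓ Subgroup.centralizer (K : Set G)) ∣ Q.relIndex (sigmaCore M) ∧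
        ∀ D : Subgroup G, IsComplIn Q D (sigmaCore M) →
          Group.IsNilpotent D ∧
          M ≤ Subgroup.normalizer ((Q ⊓ Subgroup.centralizer (D : Set G) : Subgroup G) : Set G) ∧
          Q ⊓ Subgroup.centralizer (D : Set G) < Q ∧
          Nat.card Q = Nat.card ↥(Q ⊓ Subgroup.centralizer (D : Set G)) *
            Nat.card ↥(sigmaCore M ⊓ Subgroup.centralizer (K : Set G)) ^ Nat.card K ∧
          (∀ a ∈ Q, ∀ b ∈ Q,
            a ^ Nat.card ↥(sigmaCore M ⊓ Subgroup.centralizer (K : Set G)) ∈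
              Q ⊓ Subgroup.centralizer (D : Set G) ∧
            a * b * a⁻¹ * b⁻¹ ∈ Q ⊓ Subgroup.centralizer (D : Set G)) ∧
          ∀ N : Subgroup G, Q ⊓ Subgroup.centralizer (D : Set G) < N → N < Q →
            ¬ M ≤ Subgroup.normalizer (N : Set G) := by
  have h : Hyp M K U :=
    { hG := hG
      hU := hU
      h44 := h44
      hM := hM
      hKU := hKU
      hne := hne
      hA := by
        intro hcon
        have hcon' := hcon
        push Not at hcon'
        obtain ⟨q, hq, hqM, hσ, hκ⟩ := hcon'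
        haveI : Fact q.Prime := ⟨hq⟩
        have hnot : q ∉ sigma M ∪ kappa M := by
          rintro (h1 | h1)
          · exact hσ h1
          · exact hκ h1
        exact (h29 M hM hcon q hqM hnot default).2.2
      hB := fun hK1 => h30 M hM K hKU.hall hK1
      hC := fun hK1 hU0 => h73 M hM K U hKU hK1 hU0 }
  exact h.statement

end Main

end Cfsg.Agent.Lib.Helper48_BG15c
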