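import Mathlib
import Cfsg.Prelude.Def_OddOrderLocal
import Cfsg.Agent.Lib.Helper24_CoprimeHall
import Cfsg.Agent.Lib.Helper24_Coprime
import Cfsg.Agent.Lib.Helper32_Nilpotent
import Cfsg.Agent.Lib.Helper84_RelSylow
import Cfsg.Agent.Lib.Helper22_Radical
import Cfsg.Agent.Lib.Helper70_BG106

/-!
# Generic tools for Bender–Glauberman section 13 (helper76)

Normal Hall subgroups and their complements inside a subgroup `H` of `G`, in the language of
`Cfsg.IsPiHallOf` / `Cfsg.IsComplIn`; nilpotent Hall subgroups; an elementwise coprime-action lemma.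
-/

set_option autoImplicit false

namespace Cfsg.Agent.Lib.Helper76_BG13a

open Subgroup Cfsg Cfsg.Agent.Lib.Helper22_Radical Cfsg.Agent.Lib.Helper84_RelSylow
  Cfsg.Agent.Lib.Helper24_CoprimeHall Cfsg.Agent.Lib.Helper24_CoprimeAction

variable {G : Type*} [Group G]

/-- the multiplication map `A × B → M` is injective when `A ∩ B = 1` -/
theorem mulMap_injective {A B M : Subgroup G} (hA : A ≤ M) (hB : B ≤ M) (hAB : A ⊓ B = ⊥) :
    Function.Injective
      (fun x : A × B => (⟨(x.1 : G) * x.2, M.mul_mem (hA x.1.2) (hB x.2.2)⟩ : M)) := by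
  rintro ⟨a, b⟩ ⟨a', b'⟩ h
  have h1 : (a : G) * b = a' * b' := congrArg Subtype.val h
  have h2 : (a' : G)⁻¹ * a = b' * (b : G)⁻¹ := by
    calc (a' : G)⁻¹ * a = (a' : G)⁻¹ * ((a : G) * b) * (b : G)⁻¹ := by group
      _ = (a' : G)⁻¹ * ((a' : G) * b') * (b : G)⁻¹ := by rw [h1]
      _ = b' * (b : G)⁻¹ := by group
  have h3 : (a' : G)⁻¹ * a ∈ A ⊓ B :=
    ⟨A.mul_mem (A.inv_mem a'.2) a.2, by rw [h2]; exact B.mul_mem b'.2 (B.inv_mem b.2)⟩
  rw [hAB, mem_bot] at h3
  have h4 : (a : G) = a' := by rw [inv_mul_eq_one] at h3; exact h3.symm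
  have h5 : (b : G) = b' := by rw [h4] at h1; exact mul_left_cancel h1
  exact Prod.ext (Subtype.ext h4) (Subtype.ext h5)

/-- `|A| |B| = |M|` for complements `A`, `B` in `M` -/
theorem card_mul_of_isComplIn {A B M : Subgroup G} (h : IsComplIn A B M) :
    Nat.card A * Nat.card B = Nat.card M := by
  obtain ⟨hA, hB, hAB, hprod⟩ := h
  rw [← Nat.card_prod]
  apply Nat.card_congr
  refine Equiv.ofBijective _ ⟨mulMap_injective hA hB hAB, ?_⟩
  rintro ⟨m, hm⟩
  obtain ⟨a, ha, b, hb, rfl⟩ := hprod m hm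
  exact ⟨(⟨a, ha⟩, ⟨b, hb⟩), rfl⟩

/-- two subgroups of `M` meeting trivially whose orders multiply to `|M|` are complements in `M` -/
theorem isComplIn_of_card [Finite G] {A B M : Subgroup G} (hA : A ≤ M) (hB : B ≤ M) (hAB : A ⊓ B = ⊥)
    (hcard : Nat.card M ≤ Nat.card A * Nat.card B) : IsComplIn A B M := by
  refine ⟨hA, hB, hAB, ?_⟩
  have hbij := (mulMap_injective hA hB hAB).bijective_of_nat_card_le (by rw [Nat.card_prod]; exact hcard)
  intro m hm
  obtain ⟨⟨a, b⟩, hab⟩ := hbij.2 ⟨m, hm⟩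
  exact ⟨a, a.2, b, b.2, (congrArg Subtype.val hab).symm⟩

/-- a `π`-subgroup of `H` lies in a normal Hall `π`-subgroup of `H` -/
theorem le_of_normal_hall [Finite G] {π : Set ℕ} {N H T : Subgroup G} (hN : IsPiHallOf π N H)
    (hn : H ≤ normalizer (N : Set G)) (hTH : T ≤ H)
    (hT : ∀ q : ℕ, q.Prime → q ∣ Nat.card T → q ∈ π) : T ≤ N := by
  have hnorm : (N.subgroupOf H).Normal := Subgroup.normal_subgroupOf_of_le_normalizer hn
  have hcop : (Nat.card (T.subgroupOf H)).Coprime (N.subgroupOf H).index := by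
    rw [card_subgroupOf_of_le hTH]
    exact Nat.coprime_of_dvd fun q hq hqT hqi => hN.2.2 q hq (hT q hq hqT) hqi
  have h := Cfsg.Agent.Lib.Helper70_BG106.le_of_coprime_index (T.subgroupOf H) (N.subgroupOf H) hcop
  intro x hx
  have : (⟨x, hTH hx⟩ : H) ∈ N.subgroupOf H := h (by rw [mem_subgroupOf]; exact hx)
  rw [mem_subgroupOf] at this
  exact this

theorem relIndex_mul_card' {N H : Subgroup G} (h : N ≤ H) :
    N.relIndex H * Nat.card N = Nat.card H := by
  rw [Subgroup.relIndex, ← card_subgroupOf_of_le h, Subgroup.index_mul_card]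

/-- a complement to a Hall `π`-subgroup `N` of `H` is a Hall `π'`-subgroup of `H` -/
theorem piHall_of_isComplIn [Finite G] {π : Set ℕ} {N H E : Subgroup G} (hN : IsPiHallOf π N H)
    (hE : IsComplIn E N H) : PiHall {q | q ∉ π} E H := by
  have hcard := card_mul_of_isComplIn hE
  have h1 := relIndex_mul_card' hN.1
  have hrel : N.relIndex H = Nat.card E :=
    Nat.eq_of_mul_eq_mul_right Nat.card_pos (h1.trans hcard.symm)
  refine ⟨hE.1, ?_, ?_⟩
  · intro q hq hd
    show q ∉ π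
    intro hqπ
    exact hN.2.2 q hq hqπ (hrel ▸ hd)
  · intro q hq hqπ hd
    have h2 : Nat.card H / Nat.card E = Nat.card N := by
      rw [← hcard, Nat.mul_div_cancel_left _ Nat.card_pos]
    rw [h2] at hd
    exact hqπ (hN.2.1 q hq hd)

/-- Hall `π'`-subgroups of `H` are complements to a Hall `π`-subgroup -/
theorem isComplIn_of_piHall [Finite G] {π : Set ℕ} {N H E : Subgroup G} (hN : IsPiHallOf π N H)
    (hE : PiHall {q | q ∉ π} E H) : IsComplIn E N H := by
  have hdisj : E ⊓ N = ⊥ := by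
    apply (Subgroup.disjoint_of_coprime_natCard ?_).eq_bot
    exact Nat.coprime_of_dvd fun q hq h1 h2 => hE.2.1 q hq h1 (hN.2.1 q hq h2)
  apply isComplIn_of_card hE.1 hN.1 hdisj
  apply Nat.le_of_dvd (Nat.mul_pos Nat.card_pos Nat.card_pos)
  have h1 := relIndex_mul_card' hN.1
  have h2 : Nat.card E * (Nat.card H / Nat.card E) = Nat.card H := hE.card_mul
  have hr : N.relIndex H ∣ Nat.card E := by
    have hcop : (N.relIndex H).Coprime (Nat.card H / Nat.card E) :=
      Nat.coprime_of_dvd fun q hq hq1 hq2 => hE.2.2 q hq (fun hqπ => hN.2.2 q hq hqπ hq1) hq2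
    have h3 : N.relIndex H ∣ Nat.card E * (Nat.card H / Nat.card E) := by
      rw [h2]; exact Dvd.intro _ h1
    exact hcop.dvd_of_dvd_mul_right h3
  rw [← h1]
  exact Nat.mul_dvd_mul_right hr _

/-- every `π'`-subgroup of a solvable `H` lies in a complement of a Hall `π`-subgroup of `H` -/
theorem exists_compl_ge [Finite G] {π : Set ℕ} {N H T : Subgroup G} (hsolv : Group.IsSolvable H)
    (hN : IsPiHallOf π N H) (hTH : T ≤ H) (hT : ∀ q : ℕ, q.Prime → q ∣ Nat.card T → q ∉ π) :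
    ∃ E, IsComplIn E N H ∧ T ≤ E := by
  obtain ⟨E, hE, hTE⟩ := exists_piHall_ge (π := {q | q ∉ π}) hsolv hTH hT
  exact ⟨E, isComplIn_of_piHall hN hE, hTE⟩

/-- every `π'`-subgroup of a solvable `H` is conjugate in `H` into a given complement of a Hall
`π`-subgroup of `H` -/
theorem exists_cj_le_compl [Finite G] {π : Set ℕ} {N H E T : Subgroup G} (hsolv : Group.IsSolvable H)
    (hN : IsPiHallOf π N H) (hE : IsComplIn E N H) (hTH : T ≤ H)
    (hT : ∀ q : ℕ, q.Prime → q ∣ Nat.card T → q ∉ π) : ∃ g ∈ H, cj g T ≤ E := by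
  obtain ⟨E', hE', hTE'⟩ := exists_piHall_ge (π := {q | q ∉ π}) hsolv hTH hT
  obtain ⟨g, hg, hgE⟩ := piHall_conj hsolv hE' (piHall_of_isComplIn hN hE)
  refine ⟨g, hg, ?_⟩
  rw [← hgE]
  exact cj_mono hTE'

/-- a `π`-subgroup of a solvable group with a nilpotent Hall `π`-subgroup is nilpotent -/
theorem isNilpotent_of_le_piHall [Finite G] {π : Set ℕ} {H Y T : Subgroup G}
    (hsolv : Group.IsSolvable H) (hY : PiHall π Y H) (hYn : Group.IsNilpotent Y) (hTH : T ≤ H)
    (hT : ∀ q : ℕ, q.Prime → q ∣ Nat.card T → q ∈ π) : Group.IsNilpotent T := by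
  obtain ⟨E', hE', hTE'⟩ := exists_piHall_ge hsolv hTH hT
  obtain ⟨g, hg, hgE⟩ := piHall_conj hsolv hY hE'
  subst hgE
  have h1 : Group.IsNilpotent ↥(Y.map (MulAut.conj g).toMonoidHom) :=
    Group.nilpotent_of_mulEquiv (Y.equivMapOfInjective _ (MulAut.conj g).injective)
  have h2 : Group.IsNilpotent ↥(T.subgroupOf (Y.map (MulAut.conj g).toMonoidHom)) := inferInstance
  exact Group.nilpotent_of_mulEquiv (Subgroup.subgroupOfEquivOfLe hTE')

/-- prime divisors of `K ⊔ A` when `A` normalizes `K` and they meet trivially -/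
theorem prime_dvd_card_sup [Finite G] {A K : Subgroup G} (hAK : A ≤ normalizer (K : Set G))
    (hdisj : K ⊓ A = ⊥) {q : ℕ} (hq : q.Prime) (hd : q ∣ Nat.card ↥(K ⊔ A)) :
    q ∣ Nat.card K ∨ q ∣ Nat.card A := by
  rw [card_sup_of_disjoint' A K hAK hdisj] at hd
  exact (Nat.Prime.dvd_mul hq).1 hd

/-- the cyclic group generated by a `p`-element is a `p`-group -/
theorem isPGroup_zpowers {p : ℕ} [Fact p.Prime] {s : G} (hs : ∃ k : ℕ, s ^ p ^ k = 1) :
    IsPGroup p (zpowers s) := by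
  obtain ⟨k, hk⟩ := hs
  rintro ⟨y, hy⟩
  obtain ⟨n, rfl⟩ := Subgroup.mem_zpowers_iff.mp hy
  refine ⟨k, ?_⟩
  apply Subtype.ext
  rw [Subgroup.coe_pow, Subgroup.coe_one]
  show (s ^ n) ^ p ^ k = 1
  rw [← zpow_natCast, ← zpow_mul, mul_comm, zpow_mul, zpow_natCast, hk, one_zpow]

/-- an elementary abelian subgroup of order `p ^ 2` of `M` shows that `M` has `p`-rank at least two -/
theorem not_pRankLE_one_of_elemAb {p : ℕ} (hp : p.Prime) {M A : Subgroup G} (hAM : A ≤ M)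
    (hAe : IsElementaryAbelian p A) (hA2 : Nat.card A = p ^ 2) : ¬ PRankLE p 1 ↥M := by
  intro h
  have h1 := h (A.subgroupOf M) ?_ ?_
  · rw [card_subgroupOf_of_le hAM, hA2, pow_one] at h1
    have := hp.one_lt
    nlinarith
  · have hc := hAe.1
    refine ⟨⟨?_⟩⟩
    rintro ⟨a, ha⟩ ⟨b, hb⟩
    rw [mem_subgroupOf] at ha hb
    have := hc.is_comm.comm (⟨(a : G), ha⟩ : A) ⟨(b : G), hb⟩
    have h2 : (a : G) * (b : G) = (b : G) * (a : G) := congrArg Subtype.val this
    apply Subtype.ext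
    apply Subtype.ext
    exact h2
  · intro a ha
    rw [mem_subgroupOf] at ha
    apply Subtype.ext
    rw [Subgroup.coe_pow]
    exact hAe.2 _ ha

/-- conjugates of elementary abelian subgroups -/
theorem isElementaryAbelian_cj {p : ℕ} {A : Subgroup G} (hAe : IsElementaryAbelian p A) (g : G) :
    IsElementaryAbelian p (cj g A) := by
  refine ⟨⟨⟨?_⟩⟩, ?_⟩
  · rintro ⟨_, a, ha, rfl⟩ ⟨_, b, hb, rfl⟩
    apply Subtype.ext
    have := hAe.1.is_comm.comm (⟨a, ha⟩ : A) ⟨b, hb⟩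
    have h2 : a * b = b * a := congrArg Subtype.val this
    show (MulAut.conj g).toMonoidHom a * (MulAut.conj g).toMonoidHom b =
      (MulAut.conj g).toMonoidHom b * (MulAut.conj g).toMonoidHom a
    rw [← map_mul, ← map_mul, h2]
  · rintro _ ⟨a, ha, rfl⟩
    rw [← map_pow, hAe.2 a ha, map_one]

/-- an elementary abelian subgroup of order `p ^ 2` is not cyclic -/
theorem not_isCyclic_of_elemAb [Finite G] {p : ℕ} (hp : p.Prime) {A : Subgroup G}
    (hAe : IsElementaryAbelian p A) (hA2 : Nat.card A = p ^ 2) : ¬ IsCyclic A := by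
  intro hc
  obtain ⟨g, hg⟩ := IsCyclic.exists_generator (α := ↥A)
  have h1 : orderOf g = Nat.card ↥A := orderOf_eq_card_of_forall_mem_zpowers hg
  have h2 : g ^ p = 1 := by
    apply Subtype.ext
    rw [Subgroup.coe_pow]
    exact hAe.2 g.1 g.2
  have h3 := Nat.le_of_dvd hp.pos (orderOf_dvd_of_pow_eq_one h2)
  rw [h1, hA2] at h3
  have := hp.one_lt
  nlinarith

/-- if `s` centralizes `A` and `c` normalizes `A`, the commutator `s c s⁻¹ c⁻¹` centralizes `A` -/
theorem commutator_mem_centralizer {A : Subgroup G} {s c : G} (hs : s ∈ centralizer (A : Set G))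
    (hc : c ∈ normalizer (A : Set G)) : s * c * s⁻¹ * c⁻¹ ∈ centralizer (A : Set G) := by
  rw [mem_centralizer_iff]
  intro a ha
  have e1 : a * s = s * a := mem_centralizer_iff.mp hs a ha
  have ha' : c⁻¹ * a * c ∈ A := by
    rw [mem_normalizer_iff] at hc
    rw [hc (c⁻¹ * a * c)]
    have : c * (c⁻¹ * a * c) * c⁻¹ = a := by group
    rw [this]; exact ha
  have e2 : (c⁻¹ * a * c) * s = s * (c⁻¹ * a * c) := mem_centralizer_iff.mp hs _ ha'
  have e2' : s⁻¹ * (c⁻¹ * a * c) = (c⁻¹ * a * c) * s⁻¹ := by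
    calc s⁻¹ * (c⁻¹ * a * c) = s⁻¹ * ((c⁻¹ * a * c) * s) * s⁻¹ := by group
      _ = s⁻¹ * (s * (c⁻¹ * a * c)) * s⁻¹ := by rw [e2]
      _ = (c⁻¹ * a * c) * s⁻¹ := by group
  symm
  calc s * c * s⁻¹ * c⁻¹ * a = s * c * (s⁻¹ * (c⁻¹ * a * c)) * c⁻¹ := by group
    _ = s * c * ((c⁻¹ * a * c) * s⁻¹) * c⁻¹ := by rw [e2']
    _ = (s * a) * c * s⁻¹ * c⁻¹ := by group
    _ = (a * s) * c * s⁻¹ * c⁻¹ := by rw [e1]
    _ = a * (s * c * s⁻¹ * c⁻¹) := by group

end Cfsg.Agent.Lib.Helper76_BG13a
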