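import Mathlib
import Cfsg.Prelude.Def_OddOrderLocal
import Cfsg.Agent.Lib.Helper48_BG153a
import Cfsg.Agent.Lib.Helper48_BG15c
import Cfsg.Agent.Lib.Helper33_BG16Hyp
import Cfsg.Agent.Lib.Helper76_BG13a
import Cfsg.Agent.Lib.Helper1_Cores

/-!
# B-G Corollary 15.3 (S1438), part (b): fusion in a Hall subgroup `H` of `M_σ` is controlled by
`N_M(H)`.  The frozen statements S1351, S1352, S1374, S1437 are explicit hypotheses.
-/

set_option autoImplicit false
set_option linter.unusedSectionVars false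
set_option linter.unusedVariables false
set_option linter.style.haveILetI false

namespace Cfsg.Agent.Lib.Helper48_BG153b

open Cfsg
open Cfsg.Agent.Lib.Helper49_Sigma
open Cfsg.Agent.Lib.Helper70_BG106
open Cfsg.Agent.Lib.Helper33_BG16Hyp
open Cfsg.Agent.Lib.Helper48_BG15c
open scoped commutatorElement

universe u

section Hyps

variable (G : Type u) [Group G]

/-- S1352 -/
def H1352 : Prop :=
  ∀ (M : Subgroup G) (_ : IsCoatom M) (K : Subgroup G) (_ : IsCyclic K)
    (_ : Cfsg.IsPiHallOf (Cfsg.kappa M) K M),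
    (∃ U : Subgroup G, Cfsg.IsSigmaDecomposition M K U) ∧
      ∀ U : Subgroup G, Cfsg.IsSigmaDecomposition M K U →
        M ≤ Subgroup.normalizer ((U ⊔ Cfsg.sigmaCore M : Subgroup G) : Set G)

/-- S1374 -/
def H1374 : Prop :=
  ∀ (M : Subgroup G) (_ : IsCoatom M) (x : G) (_ : x ∈ Cfsg.sigmaCore M) (_ : x ≠ 1),
    (Nat.card ↥(M ⊓ Subgroup.centralizer ({x} : Set G))).Coprime
        ((M ⊓ Subgroup.centralizer ({x} : Set G)).relIndex (Subgroup.centralizer ({x} : Set G))) ∧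
      ∃ R : Subgroup G, Subgroup.centralizer ({x} : Set G) ≤ Subgroup.normalizer (R : Set G) ∧
        Cfsg.IsComplIn (M ⊓ Subgroup.centralizer ({x} : Set G)) R
          (Subgroup.centralizer ({x} : Set G)) ∧
        ∀ g : G, x ∈ M.map (MulAut.conj g).toMonoidHom →
          ∃! r : G, r ∈ R ∧ M.map (MulAut.conj r).toMonoidHom = M.map (MulAut.conj g).toMonoidHom

end Hyps

variable {G : Type u} [Group G] [Finite G]

theorem fittingHall_isNilpotent (X : Type*) [Group X] [Finite X] :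
    Group.IsNilpotent ↥(fittingHall X) := by
  have hle : fittingHall X ≤ fittingSubgroup X :=
    sSup_le_sSup (fun N hN => ⟨hN.1, hN.2.1⟩)
  haveI : Group.IsNilpotent ↥(fittingSubgroup X) :=
    Cfsg.Agent.Lib.Helper1_Cores.fittingSubgroup_isNilpotent
  exact Group.nilpotent_of_mulEquiv (Subgroup.subgroupOfEquivOfLe hle)

/-- Step 1 of (b): conjugation by `g` can be replaced by conjugation by an element of `M` -/
theorem exists_mem_conj (hG : IsMinSimpleOddOrder G) (h74 : H1374 G) (M : Subgroup G)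
    (hM : IsCoatom M) {x : G} (hx : x ∈ sigmaCore M) (hx1 : x ≠ 1) (g : G)
    (hy : g * x * g⁻¹ ∈ M) : ∃ m ∈ M, m * x * m⁻¹ = g * x * g⁻¹ := by
  obtain ⟨-, R, -, hRc, hR⟩ := h74 M hM x hx hx1
  have hxg : x ∈ M.map (MulAut.conj g⁻¹).toMonoidHom := by
    refine ⟨g * x * g⁻¹, hy, ?_⟩
    simp [mul_assoc]
  obtain ⟨r, ⟨hrR, hrM⟩, -⟩ := hR g⁻¹ hxg
  have hrx : r ∈ Subgroup.centralizer ({x} : Set G) := hRc.2.1 hrR
  have hM1 : M ≠ ⊥ := Cfsg.Agent.Lib.Helper52_BG12a.coatom_ne_bot hG hM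
  have hNM : Subgroup.normalizer (M : Set G) = M :=
    Cfsg.Agent.Lib.Helper49_Alpha3.normalizer_coatom hG hM hM1
  have hgr : g * r ∈ M := by
    rw [← hNM, Cfsg.Agent.Lib.Helper24_CoprimeAction.mem_normalizer_iff_map_conj]
    have h1 : (MulAut.conj (g * r)).toMonoidHom =
        (MulAut.conj g).toMonoidHom.comp (MulAut.conj r).toMonoidHom := by
      ext z; simp [mul_assoc]
    rw [h1, ← Subgroup.map_map, hrM, Subgroup.map_map]
    have h2 : (MulAut.conj g).toMonoidHom.comp (MulAut.conj g⁻¹).toMonoidHom = MonoidHom.id G := by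
      ext z; simp [mul_assoc]
    rw [h2, Subgroup.map_id]
  refine ⟨g * r, hgr, ?_⟩
  have hcomm : r * x = x * r := by
    have := Subgroup.mem_centralizer_singleton_iff.mp hrx
    exact this
  have : r * x * r⁻¹ = x := by rw [hcomm]; group
  calc g * r * x * (g * r)⁻¹ = g * (r * x * r⁻¹) * g⁻¹ := by group
    _ = g * x * g⁻¹ := by rw [this]

theorem NN_eq_subgroupOf (M : Subgroup G) : NN M = (sigmaCore M).subgroupOf M := by
  unfold sigmaCore Subgroup.subgroupOf
  rw [Subgroup.comap_map_eq_self_of_injective M.subtype_injective]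

theorem subgroupOf_le_NN {M A : Subgroup G} (hA : A ≤ sigmaCore M) : A.subgroupOf M ≤ NN M := by
  rw [NN_eq_subgroupOf]
  intro a ha
  exact Subgroup.mem_subgroupOf.mpr (hA (Subgroup.mem_subgroupOf.mp ha))

theorem relIndex_subgroupOf_NN {M : Subgroup G} (A : Subgroup G) :
    (A.subgroupOf M).relIndex (NN M) = A.relIndex (sigmaCore M) := by
  rw [NN_eq_subgroupOf]
  exact Subgroup.relIndex_subgroupOf (Cfsg.Agent.Lib.Helper52_BG12a.sigmaCore_le M)

theorem isComplIn_swap {A B S : Subgroup G} (h : IsComplIn A B S) : IsComplIn B A S := by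
  obtain ⟨hA, hB, hdisj, hmul⟩ := h
  refine ⟨hB, hA, by rw [inf_comm]; exact hdisj, ?_⟩
  intro m hm
  obtain ⟨a, ha, b, hb, hab⟩ := hmul m⁻¹ (S.inv_mem hm)
  refine ⟨b⁻¹, B.inv_mem hb, a⁻¹, A.inv_mem ha, ?_⟩
  rw [← mul_inv_rev, ← hab, inv_inv]

/-- if some complement `D` of the normal subgroup `Q'` in `N` (in the elementwise sense) is nilpotent then
`N / Q'` is nilpotent -/
theorem isNilpotent_map_of_compl {X : Type*} [Group X] (N Q' D : Subgroup X) [Q'.Normal]
    (hDN : D ≤ N) (hmul : ∀ n ∈ N, ∃ a ∈ Q', ∃ b ∈ D, n = a * b) (hD : Group.IsNilpotent D) :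
    Group.IsNilpotent ↥(N.map (QuotientGroup.mk' Q')) := by
  haveI := hD
  let f : ↥D →* ↥(N.map (QuotientGroup.mk' Q')) :=
    ((QuotientGroup.mk' Q').comp D.subtype).codRestrict _ (fun d => ⟨(d : X), hDN d.2, rfl⟩)
  apply Group.nilpotent_of_surjective f
  rintro ⟨_, n, hn, rfl⟩
  obtain ⟨a, ha, b, hb, rfl⟩ := hmul n hn
  refine ⟨⟨b, hb⟩, ?_⟩
  apply Subtype.ext
  show (QuotientGroup.mk' Q') b = (QuotientGroup.mk' Q') (a * b)
  have ha1 : (QuotientGroup.mk' Q') a = 1 := (QuotientGroup.eq_one_iff a).mpr ha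
  rw [map_mul, ha1, one_mul]

/-- **S1438, part (b)** with S1351, S1352, S1374, S1437 as hypotheses. -/
theorem partB (hG : IsMinSimpleOddOrder G) (h74 : H1374 G) (h51 : H1351 G) (h52 : H1352 G)
    (h37 : H1437 G) (M : Subgroup G) (hM : IsCoatom M) (H : Subgroup G) (hH : H ≤ sigmaCore M)
    (hHall : (Nat.card H).Coprime (H.relIndex (sigmaCore M))) :
    ∀ x ∈ H, ∀ g : G, g * x * g⁻¹ ∈ H →
      ∃ n ∈ M ⊓ Subgroup.normalizer (H : Set G), n * x * n⁻¹ = g * x * g⁻¹ := by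
  intro x hx g hy
  have hSM : sigmaCore M ≤ M := Cfsg.Agent.Lib.Helper52_BG12a.sigmaCore_le M
  have hHM : H ≤ M := hH.trans hSM
  by_cases hx1 : x = 1
  · refine ⟨1, Subgroup.one_mem _, ?_⟩
    subst hx1; group
  obtain ⟨m, hm, hmx⟩ := exists_mem_conj hG h74 M hM (hH hx) hx1 g (hHM hy)
  rw [← hmx] at hy ⊢
  set H' : Subgroup ↥M := H.subgroupOf M with hH'
  have hH'N : H' ≤ NN M := subgroupOf_le_NN hH
  have hH'hall : (Nat.card H').Coprime (H'.relIndex (NN M)) := by
    rw [relIndex_subgroupOf_NN, Cfsg.Agent.Lib.Helper24_CoprimeAction.card_subgroupOf_of_le hHM]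
    exact hHall
  suffices key : ∃ n' : ↥M, n' ∈ Subgroup.normalizer (H' : Set ↥M) ∧
      n' * ⟨x, hHM hx⟩ * n'⁻¹ = ⟨m, hm⟩ * ⟨x, hHM hx⟩ * (⟨m, hm⟩ : ↥M)⁻¹ by
    obtain ⟨n', hn', hn'x⟩ := key
    refine ⟨(n' : G), Subgroup.mem_inf.mpr ⟨n'.2, ?_⟩, congrArg Subtype.val hn'x⟩
    rw [Subgroup.mem_normalizer_iff]
    intro h
    constructor
    · intro hh
      have := (Subgroup.mem_normalizer_iff.mp hn' ⟨h, hHM hh⟩).mp (Subgroup.mem_subgroupOf.mpr hh)
      exact Subgroup.mem_subgroupOf.mp this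
    · intro hh
      have hhM : h ∈ M := by
        have h1 : h = (n' : G)⁻¹ * ((n' : G) * h * (n' : G)⁻¹) * (n' : G) := by group
        rw [h1]
        exact M.mul_mem (M.mul_mem (M.inv_mem n'.2) (hHM hh)) n'.2
      have := (Subgroup.mem_normalizer_iff.mp hn' ⟨h, hhM⟩).mpr (Subgroup.mem_subgroupOf.mpr hh)
      exact Subgroup.mem_subgroupOf.mp this
  by_cases hnil : Group.IsNilpotent ↥(NN M)
  · have hn := Cfsg.Agent.Lib.Helper48_BG153a.normal_of_hall_of_nilpotent_normal (NN M) H' hH'N hnil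
      hH'hall
    refine ⟨⟨m, hm⟩, ?_, rfl⟩
    rw [Subgroup.normalizer_eq_top_iff.mpr hn]
    exact Subgroup.mem_top _
  · have hne : fittingHallOf M ≠ sigmaCore M := by
      intro heq
      apply hnil
      have h1 : fittingHall ↥M = NN M := Subgroup.map_injective M.subtype_injective heq
      rw [← h1]
      exact fittingHall_isNilpotent ↥M
    obtain ⟨K, hK⟩ := (h51 M hM).1
    have hKc := (h51 M hM).2 K hK
    obtain ⟨U, hKU⟩ := (h52 M hM K hKc hK).1
    obtain ⟨-, -, -, hqp, -, -, Q, hQF, hQn, hQp, hQs, hQD⟩ := h37 M hM K U hKU hne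
    haveI : Fact (Nat.card ↥(sigmaCore M ⊓ Subgroup.centralizer (K : Set G))).Prime := ⟨hqp⟩
    have hQS : Q ≤ sigmaCore M :=
      hQF.trans (Subgroup.map_mono (fittingHall_le_piCore_sigma hG hM))
    set Q' : Subgroup ↥M := Q.subgroupOf M with hQ'
    haveI hQ'n : Q'.Normal :=
      (Subgroup.normal_subgroupOf_iff_le_normalizer (hQS.trans hSM)).mpr hQn
    have hQ'N : Q' ≤ NN M := subgroupOf_le_NN hQS
    have hQ'p : IsPGroup (Nat.card ↥(sigmaCore M ⊓ Subgroup.centralizer (K : Set G))) Q' :=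
      hQp.comap_of_injective _ (Subgroup.subtype_injective M)
    have hQ's : ¬ Nat.card ↥(sigmaCore M ⊓ Subgroup.centralizer (K : Set G)) ∣ Q'.relIndex (NN M) := by
      rw [relIndex_subgroupOf_NN]; exact hQs
    have hsolvM := isSolvable_coatom hG hM
    have hnilq : Group.IsNilpotent ↥((NN M).map (QuotientGroup.mk' Q')) := by
      have hQhall : IsPiHallOf {Nat.card ↥(sigmaCore M ⊓ Subgroup.centralizer (K : Set G))} Q
          (sigmaCore M) := by
        refine ⟨hQS, ?_, ?_⟩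
        · intro p hp hd
          obtain ⟨k, hk⟩ := hQp.exists_card_eq
          rw [hk] at hd
          exact (Nat.prime_dvd_prime_iff_eq hp hqp).mp (hp.dvd_of_dvd_pow hd)
        · intro p hp hpq
          rw [Set.mem_singleton_iff] at hpq
          rw [hpq]; exact hQs
      have hsolvS : Group.IsSolvable ↥(sigmaCore M) :=
        Cfsg.Agent.Lib.Helper24_CoprimeAction.isSolvable_of_le hSM hsolvM
      obtain ⟨D, hD, -⟩ := Cfsg.Agent.Lib.Helper76_BG13a.exists_compl_ge (T := ⊥) hsolvS hQhall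
        bot_le (by
          intro p hp hd
          rw [Subgroup.card_bot] at hd
          exact absurd (Nat.dvd_one.mp hd) hp.one_lt.ne')
      have hD' : IsComplIn Q D (sigmaCore M) := isComplIn_swap hD
      have hDnil : Group.IsNilpotent D := (hQD D hD').1
      have hDM : D ≤ M := hD'.2.1.trans hSM
      apply isNilpotent_map_of_compl (NN M) Q' (D.subgroupOf M) (subgroupOf_le_NN hD'.2.1)
      · intro n hn
        obtain ⟨a, ha, b, hb, hab⟩ := hD'.2.2.2 (n : G) ⟨n, hn, rfl⟩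
        exact ⟨⟨a, (hQS.trans hSM) ha⟩, Subgroup.mem_subgroupOf.mpr ha, ⟨b, hDM hb⟩,
          Subgroup.mem_subgroupOf.mpr hb, Subtype.ext hab⟩
      · haveI := hDnil
        exact Group.nilpotent_of_mulEquiv (Subgroup.subgroupOfEquivOfLe hDM).symm
    haveI := hsolvM
    obtain ⟨n', hn', hn'x⟩ := Cfsg.Agent.Lib.Helper48_BG153a.fusion_control (NN M) Q' H' hQ'N hH'N
      hQ'p hQ's hnilq hH'hall (x := ⟨x, hHM hx⟩) (Subgroup.mem_subgroupOf.mpr hx) ⟨m, hm⟩
      (Subgroup.mem_subgroupOf.mpr hy)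
    exact ⟨n', hn', hn'x⟩

end Cfsg.Agent.Lib.Helper48_BG153b
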