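import Mathlib
import Cfsg.Prelude.Def_OddOrderLocal
import Cfsg.Agent.Lib.Helper48_BG153b
import Cfsg.Agent.Lib.Helper53_BG16b
import Cfsg.Agent.Lib.Helper24_CoprimeHall
import Cfsg.Agent.Lib.Helper49_Alpha
import Cfsg.Agent.Lib.Helper79_BG141
import Cfsg.Agent.S0126

/-!
# B-G Corollary 15.3 (S1438), part (a): `C_M(H) = C_{M_σ}(H) X` with `X` a cyclic `τ₂(M)`-group, for a
nontrivial Hall subgroup `H` of `M_σ`.  The frozen statements S1350, S1417, S1421, S1430, S1431 are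
explicit hypotheses.
-/

set_option autoImplicit false
set_option linter.unusedSectionVars false
set_option linter.unusedVariables false
set_option linter.style.haveILetI false

namespace Cfsg.Agent.Lib.Helper48_BG153c

open Cfsg
open Cfsg.Agent.Lib.Helper49_Sigma
open Cfsg.Agent.Lib.Helper33_BG16Hyp
open Cfsg.Agent.Lib.Helper24_CoprimeHall
open Cfsg.Agent.Lib.Helper84_RelSylow
open Cfsg.Agent.Lib.Helper48_BG15c

universe u

section Hyps

variable (G : Type u) [Group G]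

/-- S1421 -/
def H1421 : Prop :=
  ∀ (M : Subgroup G) (_ : IsCoatom M) (E : Subgroup G) (_ : Cfsg.IsComplIn E (Cfsg.sigmaCore M) M)
    (_ : ∀ e ∈ E, e ≠ 1 → (∀ p : ℕ, p.Prime → p ∣ orderOf e → p ∈ Cfsg.tau1 M ∪ Cfsg.tau3 M) →
      Cfsg.sigmaCore M ⊓ Subgroup.centralizer ({e} : Set G) = ⊥),
    (∃ A₀ : Subgroup G, A₀ ≤ E ∧ E ≤ Subgroup.normalizer (A₀ : Set G) ∧ IsMulCommutative A₀ ∧
        ∀ x ∈ Cfsg.sigmaCore M, x ≠ 1 → E ⊓ Subgroup.centralizer ({x} : Set G) ≤ A₀) ∧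
      ∃ E₀ : Subgroup G, E₀ ≤ E ∧ Monoid.exponent E₀ = Monoid.exponent E ∧
        ∀ e ∈ E₀, e ≠ 1 → Cfsg.sigmaCore M ⊓ Subgroup.centralizer ({e} : Set G) = ⊥

end Hyps

variable {G : Type u} [Group G] [Finite G]

/-- if all Sylow `q`-subgroups are cyclic then the `q`-rank is at most one -/
theorem pRankLE_one_of_sylow_cyclic {L : Type*} [Group L] [Finite L] (q : ℕ) [hq : Fact q.Prime]
    (h : ∀ P : Sylow q L, IsCyclic P) : PRankLE q 1 L := by
  intro E hEc hEe
  have hEp : IsPGroup q ↥E := by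
    intro b
    refine ⟨1, ?_⟩
    apply Subtype.ext
    rw [pow_one, Subgroup.coe_pow]
    exact hEe b.1 b.2
  obtain ⟨P, hP⟩ := hEp.exists_le_sylow
  have : IsCyclic (P : Subgroup L) := h P
  have hEcyc : IsCyclic E := Subgroup.isCyclic_of_le hP
  have h1 := Cfsg.Agent.Lib.Helper79_BG141.pRankLE_one_of_isCyclic q hEcyc ⊤
    (by infer_instance) (by
      intro a _
      apply Subtype.ext
      rw [Subgroup.coe_pow]
      exact hEe a.1 a.2)
  rwa [Subgroup.card_top] at h1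

/-- a Hall subgroup `H` of `S` contains a Sylow `r`-subgroup of `S` for each prime `r ∣ |H|` -/
theorem exists_sylow_le_of_hall {S H : Subgroup G} (hHS : H ≤ S)
    (hHall : (Nat.card H).Coprime (H.relIndex S)) {r : ℕ} [hr : Fact r.Prime]
    (hrH : r ∣ Nat.card H) :
    ∃ Sy : Sylow r ↥S, (Sy : Subgroup ↥S).map S.subtype ≤ H := by
  let SH : Sylow r ↥H := default
  set SG : Subgroup G := (SH : Subgroup ↥H).map H.subtype with hSG
  have h1 : IsSylowIn r SG H := isSylowIn_of_sylow SH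
  have h2 : IsSylowIn r SG S := by
    refine ⟨h1.le.trans hHS, h1.isPGroup, ?_⟩
    rw [← Subgroup.relIndex_mul_relIndex SG H S h1.le hHS]
    intro hd
    rcases (Nat.Prime.dvd_mul hr.out).mp hd with h3 | h3
    · exact h1.not_dvd h3
    · have h4 : r ∣ Nat.gcd (Nat.card H) (H.relIndex S) := Nat.dvd_gcd hrH h3
      rw [hHall] at h4
      exact hr.out.one_lt.ne' (Nat.dvd_one.mp h4)
  refine ⟨h2.toSylow, ?_⟩
  rw [h2.coe_toSylow, Subgroup.map_subgroupOf_eq_of_le h2.le]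
  exact h1.le

/-- a prime `p ∉ σ(M)` of rank one cannot divide `|C_M(H)|` -/
theorem not_pRankLE_one (hG : IsMinSimpleOddOrder G) (h30 : H1430 G) (h31 : H1431 G)
    (M : Subgroup G) (hM : IsCoatom M) (H : Subgroup G) (hH : H ≤ sigmaCore M) (hH1 : H ≠ ⊥)
    (hHall : (Nat.card H).Coprime (H.relIndex (sigmaCore M)))
    {p : ℕ} [hp : Fact p.Prime] (hpσ : p ∉ sigma M) {e : G} (heM : e ∈ M)
    (heC : e ∈ Subgroup.centralizer (H : Set G)) (hoe : orderOf e = p) : ¬ PRankLE p 1 ↥M := by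
  intro hr1
  have hsolvM := isSolvable_coatom hG hM
  obtain ⟨⟨y, hy⟩, hy1⟩ := (Subgroup.ne_bot_iff_exists_ne_one).mp hH1
  have hy1' : y ≠ 1 := fun h0 => hy1 (Subtype.ext h0)
  have hey : e * y = y * e := ((Subgroup.mem_centralizer_iff.mp heC) y hy).symm
  have hκ : p ∈ kappa M :=
    Cfsg.Agent.Lib.Helper53_BG16b.mem_kappa_of_centralizing hG hpσ hr1 heM (by rw [hoe]) (hH hy)
      hy1' hey
  have he1 : e ≠ 1 := by
    intro h0
    rw [h0, orderOf_one] at hoe
    exact hp.out.one_lt.ne hoe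
  have hZ : Subgroup.zpowers e ≤ M := by rw [Subgroup.zpowers_le]; exact heM
  have hZp : ∀ q : ℕ, q.Prime → q ∣ Nat.card (Subgroup.zpowers e) → q ∈ kappa M := by
    intro q hq hd
    rw [Nat.card_zpowers, hoe] at hd
    rw [(Nat.prime_dvd_prime_iff_eq hq hp.out).mp hd]
    exact hκ
  obtain ⟨K₀, hK₀, hZK⟩ := exists_piHall_ge hsolvM hZ hZp
  have hK₀' : IsPiHallOf (kappa M) K₀ M := (isPiHallOf_iff _ _ _).mpr hK₀
  have heK : e ∈ K₀ := hZK (Subgroup.mem_zpowers e)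
  have hK₀1 : K₀ ≠ ⊥ := by
    intro h0
    rw [h0, Subgroup.mem_bot] at heK
    exact he1 heK
  have hprime := (h30 M hM K₀ hK₀' hK₀1).1 e heK he1
  have hHK : H ≤ sigmaCore M ⊓ Subgroup.centralizer (K₀ : Set G) := by
    rw [← hprime]
    intro h hh
    refine Subgroup.mem_inf.mpr ⟨hH hh, ?_⟩
    rw [Subgroup.mem_centralizer_singleton_iff]
    exact (Subgroup.mem_centralizer_iff.mp heC) h hh
  have hHc1 : Nat.card H ≠ 1 := fun h0 => hH1 (Subgroup.card_eq_one.mp h0)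
  obtain ⟨r, hr, hrH⟩ := Nat.exists_prime_and_dvd hHc1
  haveI : Fact r.Prime := ⟨hr⟩
  have hrK : r ∣ Nat.card ↥(sigmaCore M ⊓ Subgroup.centralizer (K₀ : Set G)) :=
    hrH.trans (Subgroup.card_dvd_of_le hHK)
  obtain ⟨Sy, hSy⟩ := exists_sylow_le_of_hall hH hHall hrH
  exact ((h31 M hM K₀ hK₀' hK₀1).2.2.1 r hr hrK Sy).2.2 (hSy.trans hHK)

/-- **S1438, part (a)** with S1350, S1417, S1421, S1430, S1431 as hypotheses. -/
theorem partA (hG : IsMinSimpleOddOrder G) (hU : UniqHyp G) (h50 : H1350 G) (h17 : H1417 G)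
    (h21 : H1421 G) (h30 : H1430 G) (h31 : H1431 G)
    (M : Subgroup G) (hM : IsCoatom M) (H : Subgroup G) (hH : H ≤ sigmaCore M) (hH1 : H ≠ ⊥)
    (hHall : (Nat.card H).Coprime (H.relIndex (sigmaCore M))) :
    ∃ X : Subgroup G, IsCyclic X ∧ (∀ p : ℕ, p.Prime → p ∣ Nat.card X → p ∈ tau2 M) ∧
      M ⊓ Subgroup.centralizer (H : Set G) =
        (sigmaCore M ⊓ Subgroup.centralizer (H : Set G)) ⊔ X := by
  have hsolvM := isSolvable_coatom hG hM
  have hSM : sigmaCore M ≤ M := Cfsg.Agent.Lib.Helper52_BG12a.sigmaCore_le M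
  have hS : IsPiHallOf (sigma M) (sigmaCore M) M := (h50 M hM).1
  set C : Subgroup G := M ⊓ Subgroup.centralizer (H : Set G) with hC
  have hCM : C ≤ M := inf_le_left
  have hsolvC : Group.IsSolvable ↥C :=
    Cfsg.Agent.Lib.Helper24_CoprimeAction.isSolvable_of_le hCM hsolvM
  obtain ⟨X, hXC, hXπ, hXidx⟩ := exists_piHall {p | p ∉ sigma M} C hsolvC
  have hXM : X ≤ M := hXC.trans hCM
  have hXcent : X ≤ Subgroup.centralizer (H : Set G) := hXC.trans inf_le_right
  obtain ⟨⟨y, hy⟩, hy1⟩ := (Subgroup.ne_bot_iff_exists_ne_one).mp hH1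
  have hy1' : y ≠ 1 := fun h0 => hy1 (Subtype.ext h0)
  -- primes of `X` lie in `τ₂(M)`
  have hτ2 : ∀ p : ℕ, p.Prime → p ∣ Nat.card X → p ∈ tau2 M := by
    intro p hp hpX
    haveI : Fact p.Prime := ⟨hp⟩
    have hpσ : p ∉ sigma M := hXπ p hp hpX
    have hp2 : PRankLE p 2 ↥M := by
      by_contra h
      exact hpσ (Cfsg.Agent.Lib.Helper49_Alpha.mem_sigma_of_mem_alpha hG hU hM ⟨hp, h⟩)
    refine ⟨hp, hpσ, hp2, ?_⟩
    obtain ⟨x₀, hx₀⟩ := exists_prime_orderOf_dvd_card' (G := ↥X) p hpX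
    exact not_pRankLE_one hG h30 h31 M hM H hH hH1 hHall hpσ (hXM x₀.2) (hXcent x₀.2)
      (by rw [Subgroup.orderOf_coe]; exact hx₀)
  -- Sylow subgroups of `X` are cyclic
  haveI hZ : IsZGroup ↥X := by
    refine ⟨fun p hp P => ?_⟩
    haveI : Fact p.Prime := ⟨hp⟩
    by_contra hnc
    have hpX : p ∣ Nat.card X := by
      by_contra hnd
      apply hnc
      have h1 : Nat.card (P : Subgroup ↥X) = 1 := by
        obtain ⟨k, hk⟩ := P.isPGroup'.exists_card_eq
        rcases Nat.eq_zero_or_pos k with rfl | hk0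
        · rw [hk, pow_zero]
        · exfalso
          apply hnd
          have h2 : p ∣ Nat.card (P : Subgroup ↥X) := by rw [hk]; exact dvd_pow_self p hk0.ne'
          exact h2.trans (Subgroup.card_subgroup_dvd_card _)
      haveI : Subsingleton ↥(P : Subgroup ↥X) := (Nat.card_eq_one_iff_unique.mp h1).1
      exact isCyclic_of_subsingleton
    have hpτ : p ∈ tau2 M := hτ2 p hp hpX
    have hp2 : p ≠ 2 :=
      Cfsg.Agent.Lib.Helper79_BG141.odd_prime hG (hpX.trans (Subgroup.card_dvd_of_le hXM))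
    obtain ⟨A, -, hAe, hAcard⟩ := Cfsg.Agent.S0126.result hp2 P.isPGroup' hnc
    set AG : Subgroup G := ((A.map (P : Subgroup ↥X).subtype).map X.subtype) with hAG
    have hAGX : AG ≤ X := Subgroup.map_subtype_le _
    have hAGcard : Nat.card AG = p ^ 2 := by
      rw [hAG, Subgroup.card_map_of_injective X.subtype_injective,
        Subgroup.card_map_of_injective (Subgroup.subtype_injective _), hAcard]
    have hAGe : IsElementaryAbelian p AG := by
      refine ⟨⟨⟨?_⟩⟩, ?_⟩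
      · rintro ⟨_, _, ⟨a, ha, rfl⟩, rfl⟩ ⟨_, _, ⟨b, hb, rfl⟩, rfl⟩
        apply Subtype.ext
        have := hAe.1.is_comm.comm (⟨a, ha⟩ : ↥A) ⟨b, hb⟩
        have h2 : a * b = b * a := congrArg Subtype.val this
        show X.subtype ((P : Subgroup ↥X).subtype a) * X.subtype ((P : Subgroup ↥X).subtype b) =
          X.subtype ((P : Subgroup ↥X).subtype b) * X.subtype ((P : Subgroup ↥X).subtype a)
        rw [← map_mul, ← map_mul, ← map_mul, ← map_mul, h2]
      · rintro _ ⟨_, ⟨a, ha, rfl⟩, rfl⟩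
        rw [← map_pow, ← map_pow, hAe.2 a ha, map_one, map_one]
    have h4 := (h17 M hM p hpτ AG ⟨hAGX.trans hXM, hAGe, hAGcard⟩).2.2.2.1
    have hyA : y ∈ sigmaCore M ⊓ Subgroup.centralizer (AG : Set G) := by
      refine Subgroup.mem_inf.mpr ⟨hH hy, ?_⟩
      rw [Subgroup.mem_centralizer_iff]
      intro a ha
      exact ((Subgroup.mem_centralizer_iff.mp (hXcent (hAGX ha))) y hy).symm
    rw [h4, Subgroup.mem_bot] at hyA
    exact hy1' hyA
  -- `X` is abelian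
  have hXσ : ∀ q : ℕ, q.Prime → q ∣ Nat.card X → q ∉ sigma M := hXπ
  have hXcomm : ∀ a ∈ X, ∀ b ∈ X, a * b = b * a := by
    obtain ⟨K, hK⟩ := exists_piHall (kappa M) M hsolvM
    have hK' : IsPiHallOf (kappa M) K M := (isPiHallOf_iff _ _ _).mpr hK
    by_cases hK1 : K = ⊥
    · obtain ⟨E, hE, hXE⟩ := Cfsg.Agent.Lib.Helper76_BG13a.exists_compl_ge hsolvM hS hXM hXσ
      have hyp : ∀ e ∈ E, e ≠ 1 →
          (∀ p : ℕ, p.Prime → p ∣ orderOf e → p ∈ tau1 M ∪ tau3 M) →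
          sigmaCore M ⊓ Subgroup.centralizer ({e} : Set G) = ⊥ := by
        intro e heE he1 hprimes
        rw [eq_bot_iff]
        intro z hz
        rw [Subgroup.mem_bot]
        by_contra hz1
        obtain ⟨hzS, hzc⟩ := Subgroup.mem_inf.mp hz
        have ho1 : orderOf e ≠ 1 := fun h => he1 (orderOf_eq_one_iff.mp h)
        obtain ⟨p, hp, hpe⟩ := Nat.exists_prime_and_dvd ho1
        haveI : Fact p.Prime := ⟨hp⟩
        have hc : e * z = z * e := (Subgroup.mem_centralizer_singleton_iff.mp hzc).symm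
        have hpσr : p ∉ sigma M ∧ PRankLE p 1 ↥M := by
          rcases hprimes p hp hpe with h1 | h1
          · exact ⟨h1.2.1, h1.2.2.2.2⟩
          · exact ⟨h1.2.1, h1.2.2.2⟩
        have hκ : p ∈ kappa M :=
          Cfsg.Agent.Lib.Helper53_BG16b.mem_kappa_of_centralizing hG hpσr.1 hpσr.2 (hE.1 heE) hpe hzS
            hz1 hc
        have h5 := hK.2.2 p hp hκ
        rw [hK1, Subgroup.card_bot, Nat.div_one] at h5
        exact h5 hκ.2.1
      obtain ⟨⟨A₀, -, -, hA₀c, hA₀⟩, -⟩ := h21 M hM E hE hyp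
      have hXA : X ≤ A₀ := by
        intro x hx
        apply hA₀ y (hH hy) hy1'
        refine Subgroup.mem_inf.mpr ⟨hXE hx, ?_⟩
        rw [Subgroup.mem_centralizer_singleton_iff]
        exact ((Subgroup.mem_centralizer_iff.mp (hXcent hx)) y hy).symm
      intro a ha b hb
      have := hA₀c.is_comm.comm (⟨a, hXA ha⟩ : ↥A₀) ⟨b, hXA hb⟩
      exact congrArg Subtype.val this
    · obtain ⟨Uh, hUc, hUh, -⟩ := (h30 M hM K hK' hK1).2.1
      have hUh' := (isPiHallOf_iff _ _ _).mp hUh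
      have hXπ'' : ∀ q : ℕ, q.Prime → q ∣ Nat.card X →
          q ∈ {q | q.Prime ∧ q ∉ kappa M ∧ q ∉ sigma M} := by
        intro q hq hqX
        refine ⟨hq, ?_, hXσ q hq hqX⟩
        intro hκ
        haveI : Fact q.Prime := ⟨hq⟩
        exact (hτ2 q hq hqX).2.2.2 (pRankLE_one_of_sylow_cyclic q (fun P => (hκ.2.2.2 P).1))
      obtain ⟨U', hU', hXU'⟩ := exists_piHall_ge hsolvM hXM hXπ''
      obtain ⟨g, -, hg⟩ := piHall_conj hsolvM hUh' hU'
      intro a ha b hb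
      have ha' := hXU' ha
      have hb' := hXU' hb
      rw [← hg] at ha' hb'
      obtain ⟨a₀, ha₀, rfl⟩ := ha'
      obtain ⟨b₀, hb₀, rfl⟩ := hb'
      have := hUc.is_comm.comm (⟨a₀, ha₀⟩ : ↥Uh) ⟨b₀, hb₀⟩
      have h2 : a₀ * b₀ = b₀ * a₀ := congrArg Subtype.val this
      rw [← map_mul, ← map_mul, h2]
  haveI : IsMulCommutative ↥X := ⟨⟨fun a b => Subtype.ext (hXcomm a.1 a.2 b.1 b.2)⟩⟩
  haveI : Group.IsNilpotent ↥X :=
    ⟨1, by rw [Subgroup.upperCentralSeries_one]; exact Subgroup.center_eq_top⟩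
  refine ⟨X, inferInstance, hτ2, ?_⟩
  -- `C = C_σ X`
  set Cσ : Subgroup G := sigmaCore M ⊓ Subgroup.centralizer (H : Set G) with hCσ
  have hCσC : Cσ ≤ C := inf_le_inf_right _ hSM
  have hTle : Cσ ⊔ X ≤ C := sup_le hCσC hXC
  apply le_antisymm _ hTle
  rw [← Subgroup.relIndex_eq_one, Nat.eq_one_iff_not_exists_prime_dvd]
  intro p hp hd
  by_cases hpσ : p ∈ sigma M
  · have h1 : (Cσ ⊔ X).relIndex C ∣ Cσ.relIndex C := Subgroup.relIndex_dvd_of_le_left C le_sup_left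
    have h2 : Cσ.relIndex C = (sigmaCore M).relIndex C := by
      have : Cσ = sigmaCore M ⊓ C := by
        rw [hCσ, hC, ← inf_assoc, inf_eq_left.mpr hSM]
      rw [this, Subgroup.inf_relIndex_right]
    have h3 : (sigmaCore M).relIndex C ∣ (sigmaCore M).relIndex M := by
      rw [← Subgroup.relIndex_subgroupOf hCM]
      haveI : ((sigmaCore M).subgroupOf M).Normal := by
        rw [← Cfsg.Agent.Lib.Helper48_BG153b.NN_eq_subgroupOf]; infer_instance
      exact Subgroup.relIndex_dvd_index_of_normal _ _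
    exact hS.2.2 p hp hpσ (hd.trans (h1.trans (h2 ▸ h3)))
  · have h1 : (Cσ ⊔ X).relIndex C ∣ X.relIndex C := Subgroup.relIndex_dvd_of_le_left C le_sup_right
    rw [relIndex_eq_div hXC] at h1
    exact hXidx p hp hpσ (hd.trans h1)

end Cfsg.Agent.Lib.Helper48_BG153c
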