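import Mathlib
import Cfsg.Agent.Lib.Helper32_Nilpotent
import Cfsg.Agent.S3939

set_option autoImplicit false
set_option linter.style.haveILetI false

namespace Cfsg.Agent.Lib.Helper25_CN

open Cfsg.Agent.Lib.Helper32_Nilpotent

variable {G : Type*} [Group G]

/-- Splitting an element killed by `r * s` (with `r`, `s` coprime) into commuting parts killed
by `r` and `s`; both parts are powers of the element. -/
theorem coprime_decomp (h : G) (r s : ℕ) (hrs : r.Coprime s) (hh : h ^ (r * s) = 1) :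
    ∃ a b : ℤ, h = h ^ a * h ^ b ∧ (h ^ a) ^ r = 1 ∧ (h ^ b) ^ s = 1 ∧ (s : ℤ) ∣ a ∧ (r : ℤ) ∣ b := by
  have hbez : (r : ℤ) * Nat.gcdA r s + (s : ℤ) * Nat.gcdB r s = 1 := by
    have := Nat.gcd_eq_gcd_ab r s
    rw [hrs] at this
    exact_mod_cast this.symm
  refine ⟨(s : ℤ) * Nat.gcdB r s, (r : ℤ) * Nat.gcdA r s, ?_, ?_, ?_, dvd_mul_right _ _,
    dvd_mul_right _ _⟩
  · rw [← zpow_add, add_comm, hbez, zpow_one]
  · rw [← zpow_natCast, ← zpow_mul]
    have : (s : ℤ) * Nat.gcdB r s * (r : ℤ) = ((r * s : ℕ) : ℤ) * Nat.gcdB r s := by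
      push_cast; ring
    rw [this, zpow_mul, zpow_natCast, hh, one_zpow]
  · rw [← zpow_natCast, ← zpow_mul]
    have : (r : ℤ) * Nat.gcdA r s * (s : ℤ) = ((r * s : ℕ) : ℤ) * Nat.gcdA r s := by
      push_cast; ring
    rw [this, zpow_mul, zpow_natCast, hh, one_zpow]

/-- In a nilpotent subgroup, a `p`-element commuting with all `p`-elements is central. -/
theorem commute_of_commute_pElements [Finite G] (H : Subgroup G) (hH : Group.IsNilpotent H)
    (p : ℕ) (hp : p.Prime) (z : G) (hz : z ∈ H) (j : ℕ) (hzj : z ^ (p ^ j) = 1)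
    (hcomm : ∀ h ∈ H, (∃ k, h ^ (p ^ k) = 1) → z * h = h * z) : ∀ h ∈ H, z * h = h * z := by
  intro h hh
  have hn : orderOf h ≠ 0 := (orderOf_pos h).ne'
  obtain ⟨k, m, hpm, hkm⟩ := Nat.exists_eq_pow_mul_and_not_dvd hn p hp.ne_one
  have hcop : (p ^ k).Coprime m := Nat.Coprime.pow_left k ((Nat.Prime.coprime_iff_not_dvd hp).mpr hpm)
  obtain ⟨a, b, hab, ha, hb, -, -⟩ := coprime_decomp h (p ^ k) m hcop (by rw [← hkm, pow_orderOf_eq_one])
  have hha : h ^ a ∈ H := zpow_mem hh a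
  have hhb : h ^ b ∈ H := zpow_mem hh b
  have h1 : z * h ^ a = h ^ a * z := hcomm _ hha ⟨k, ha⟩
  have h2 : z * h ^ b = h ^ b * z := by
    have hc : Commute (⟨z, hz⟩ : H) ⟨h ^ b, hhb⟩ := by
      haveI := hH
      apply commute_of_coprime_pow_eq_one H _ _ (p ^ j) m
      · apply Subtype.ext; simpa using hzj
      · apply Subtype.ext; simpa using hb
      · exact Nat.Coprime.pow_left j ((Nat.Prime.coprime_iff_not_dvd hp).mpr hpm)
    have := congrArg Subtype.val hc.eq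
    simpa using this
  rw [hab]
  calc z * (h ^ a * h ^ b) = (z * h ^ a) * h ^ b := by group
    _ = h ^ a * (z * h ^ b) := by rw [h1]; group
    _ = h ^ a * h ^ b * z := by rw [h2]; group

/-- The `q`-elements of a finite nilpotent subgroup form a `q`-subgroup. -/
theorem exists_qPart [Finite G] (C : Subgroup G) (hC : Group.IsNilpotent C) (q : ℕ)
    [hq : Fact q.Prime] :
    ∃ T : Subgroup G, T ≤ C ∧ IsPGroup q T ∧ ∀ c ∈ C, (∃ k, c ^ (q ^ k) = 1) → c ∈ T := by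
  haveI := hC
  let P : Sylow q C := default
  refine ⟨(P : Subgroup C).map C.subtype, ?_, ?_, ?_⟩
  · rintro _ ⟨c, -, rfl⟩
    exact c.2
  · exact P.2.map C.subtype
  · rintro c hc ⟨k, hk⟩
    have hord : ∃ j, orderOf (⟨c, hc⟩ : C) = q ^ j := by
      have hdvd : orderOf (⟨c, hc⟩ : C) ∣ q ^ k := by
        apply orderOf_dvd_of_pow_eq_one
        apply Subtype.ext
        simpa using hk
      obtain ⟨j, -, hj⟩ := (Nat.dvd_prime_pow hq.out).mp hdvd
      exact ⟨j, hj⟩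
    exact ⟨⟨c, hc⟩, Cfsg.Agent.S3939.mem_normal_sylow P _ hord, rfl⟩

/-- A finite nilpotent subgroup containing a nontrivial `q`-element contains a nontrivial
`q`-element commuting with all its `q`-elements. -/
theorem exists_qCentral [Finite G] (C : Subgroup G) (hC : Group.IsNilpotent C) (q : ℕ)
    [hq : Fact q.Prime] (c₀ : G) (hc₀ : c₀ ∈ C) (hc₀1 : c₀ ≠ 1) (k₀ : ℕ) (hk₀ : c₀ ^ (q ^ k₀) = 1) :
    ∃ w ∈ C, w ≠ 1 ∧ (∃ k, w ^ (q ^ k) = 1) ∧
      ∀ c ∈ C, (∃ k, c ^ (q ^ k) = 1) → w * c = c * w := by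
  obtain ⟨T, hTC, hTq, hT⟩ := exists_qPart C hC q
  have hc₀T : c₀ ∈ T := hT c₀ hc₀ ⟨k₀, hk₀⟩
  haveI : Nontrivial T := ⟨⟨⟨c₀, hc₀T⟩, 1, fun h => hc₀1 (congrArg Subtype.val h)⟩⟩
  have hcen := IsPGroup.center_nontrivial hTq
  obtain ⟨w, hw⟩ := exists_ne (1 : Subgroup.center T)
  refine ⟨((w : T) : G), hTC (w : T).2, ?_, ?_, ?_⟩
  · intro h
    apply hw
    apply Subtype.ext
    apply Subtype.ext
    simpa using h
  · obtain ⟨k, hk⟩ := hTq (w : T)
    refine ⟨k, ?_⟩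
    have := congrArg Subtype.val hk
    simpa using this
  · intro c hc hcq
    have hcT : c ∈ T := hT c hc hcq
    have := Subgroup.mem_center_iff.mp w.2 ⟨c, hcT⟩
    have := congrArg Subtype.val this
    simp only [Subgroup.coe_mul] at this
    exact this.symm

/-- A finite nilpotent subgroup containing a nontrivial `q`-element contains a nontrivial
central `q`-element. -/
theorem exists_qCentral' [Finite G] (C : Subgroup G) (hC : Group.IsNilpotent C) (q : ℕ)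
    [hq : Fact q.Prime] (c₀ : G) (hc₀ : c₀ ∈ C) (hc₀1 : c₀ ≠ 1) (k₀ : ℕ) (hk₀ : c₀ ^ (q ^ k₀) = 1) :
    ∃ w ∈ C, w ≠ 1 ∧ (∃ k, w ^ (q ^ k) = 1) ∧ ∀ c ∈ C, w * c = c * w := by
  obtain ⟨w, hwC, hw1, ⟨k, hk⟩, hw⟩ := exists_qCentral C hC q c₀ hc₀ hc₀1 k₀ hk₀
  exact ⟨w, hwC, hw1, ⟨k, hk⟩, commute_of_commute_pElements C hC q hq.out w hwC k hk hw⟩

end Cfsg.Agent.Lib.Helper25_CN
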