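import Mathlib
import Cfsg.Prelude.Def_LieExceptional
import Cfsg.Agent.Lib.Helper25_CN
import Cfsg.Agent.Lib.Helper71_Fitting
import Cfsg.Agent.Lib.Helper1_FPF

/-!
helper25: a finite CN-group in which every `q`-subgroup has at most one subgroup of order `q`
and every subgroup of order `p * q` is cyclic (as happens for groups acting fixed-point-freely)
is nilpotent.  This is the key step in the structure theorem for CN-groups with a normal Sylow
subgroup (Feit-Hall-Thompson).
-/

set_option autoImplicit false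
set_option linter.style.haveILetI false

namespace Cfsg.Agent.Lib.Helper25_CNFrob

open Cfsg.Agent.Lib.Helper25_CN Cfsg.Agent.Lib.Helper32_Nilpotent

/-- Property (C): each `q`-subgroup has at most one subgroup of order `q`, and subgroups of
order `p * q` are cyclic. -/
structure PropC (E : Type*) [Group E] : Prop where
  uniq : ∀ (q : ℕ) [Fact q.Prime] (P B1 B2 : Subgroup E), IsPGroup q P → B1 ≤ P → B2 ≤ P →
    Nat.card B1 = q → Nat.card B2 = q → B1 = B2
  cyc : ∀ (A : Subgroup E) (p q : ℕ), p.Prime → q.Prime → Nat.card A = p * q → IsCyclic A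

variable {E : Type*} [Group E]

theorem pow_orderOf_eq (x : E) (q : ℕ) (hx : orderOf x = q) : x ^ q ^ 1 = 1 := by
  rw [pow_one, ← hx, pow_orderOf_eq_one]

/-- An element of prime order is central in every Sylow subgroup containing it. -/
theorem central_in_sylow [Finite E] (hC : PropC E) (q : ℕ) [hq : Fact q.Prime] (x : E)
    (hx : orderOf x = q) (S : Sylow q E) (hxS : x ∈ S) : ∀ s ∈ S, x * s = s * x := by
  have hS : IsPGroup q (S : Subgroup E) := S.2
  haveI : Nontrivial (S : Subgroup E) := ⟨⟨⟨x, hxS⟩, 1, fun h => by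
    have h1 : x = 1 := congrArg Subtype.val h
    rw [h1, orderOf_one] at hx
    exact hq.out.ne_one hx.symm⟩⟩
  haveI := hS.center_nontrivial
  have hpc : q ∣ Nat.card (Subgroup.center (S : Subgroup E)) := by
    rcases (hS.to_subgroup (Subgroup.center (S : Subgroup E))).card_eq_or_dvd with h | h
    · exact absurd h (Finite.one_lt_card (α := Subgroup.center (S : Subgroup E))).ne'
    · exact h
  obtain ⟨z, hz⟩ := exists_prime_orderOf_dvd_card' q hpc
  have hzE : orderOf (((z : (S : Subgroup E)) : E)) = q := by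
    rw [Subgroup.orderOf_coe, Subgroup.orderOf_coe]; exact hz
  have heq : Subgroup.zpowers (((z : (S : Subgroup E)) : E)) = Subgroup.zpowers x :=
    hC.uniq q S _ _ S.2 (Subgroup.zpowers_le.mpr (z : (S : Subgroup E)).2)
      (Subgroup.zpowers_le.mpr hxS) (by rw [Nat.card_zpowers, hzE]) (by rw [Nat.card_zpowers, hx])
  have hxz : x ∈ Subgroup.zpowers (((z : (S : Subgroup E)) : E)) := heq ▸ Subgroup.mem_zpowers x
  obtain ⟨k, hk⟩ := Subgroup.mem_zpowers_iff.mp hxz
  intro s hs
  have hzs : Commute (((z : (S : Subgroup E)) : E)) s := by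
    have h1 := Subgroup.mem_center_iff.mp z.2 ⟨s, hs⟩
    exact (congrArg Subtype.val h1).symm
  rw [← hk]
  exact (hzs.zpow_left k).eq

/-- An element of prime order is central in every nilpotent subgroup containing it. -/
theorem central_in_nilpotent [Finite E] (hC : PropC E) (q : ℕ) [hq : Fact q.Prime] (x : E)
    (hx : orderOf x = q) (H : Subgroup E) (hH : Group.IsNilpotent H) (hxH : x ∈ H) :
    ∀ h ∈ H, x * h = h * x := by
  apply commute_of_commute_pElements H hH q hq.out x hxH 1 (pow_orderOf_eq x q hx)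
  rintro h hh ⟨k, hk⟩
  obtain ⟨T, hTH, hTq, hT⟩ := exists_qPart H hH q
  have hxT : x ∈ T := hT x hxH ⟨1, pow_orderOf_eq x q hx⟩
  have hhT : h ∈ T := hT h hh ⟨k, hk⟩
  obtain ⟨S, hTS⟩ := hTq.exists_le_sylow
  exact central_in_sylow hC q x hx S (hTS hxT) h (hTS hhT)

theorem centralizer_le_of_commute [Finite E] (hCN : Cfsg.IsCNGroup E) (hC : PropC E) (x y : E)
    (hx : (orderOf x).Prime) (hy1 : y ≠ 1) (hxy : x * y = y * x) :
    Subgroup.centralizer {y} ≤ Subgroup.centralizer ({x} : Set E) := by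
  haveI : Fact (orderOf x).Prime := ⟨hx⟩
  have hxy' : x ∈ Subgroup.centralizer ({y} : Set E) := by
    rw [Subgroup.mem_centralizer_singleton_iff]; exact hxy
  intro c hc
  rw [Subgroup.mem_centralizer_singleton_iff]
  exact (central_in_nilpotent hC _ x rfl _ (hCN y hy1) hxy' c hc).symm

theorem ne_one_of_prime_order (x : E) (hx : (orderOf x).Prime) : x ≠ 1 := by
  rintro rfl
  rw [orderOf_one] at hx
  exact Nat.not_prime_one hx

theorem centralizer_eq_of_commute [Finite E] (hCN : Cfsg.IsCNGroup E) (hC : PropC E) (x y : E)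
    (hx : (orderOf x).Prime) (hy : (orderOf y).Prime) (hxy : x * y = y * x) :
    Subgroup.centralizer {x} = Subgroup.centralizer ({y} : Set E) :=
  le_antisymm (centralizer_le_of_commute hCN hC y x hy (ne_one_of_prime_order x hx) hxy.symm)
    (centralizer_le_of_commute hCN hC x y hx (ne_one_of_prime_order y hy) hxy)

theorem exists_prime_pow [Finite E] (u : E) (hu : u ≠ 1) : ∃ k : ℕ, (orderOf (u ^ k)).Prime := by
  have h1 : orderOf u ≠ 1 := fun h => hu (orderOf_eq_one_iff.mp h)
  obtain ⟨t, ht, htd⟩ := Nat.exists_prime_and_dvd h1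
  refine ⟨orderOf u / t, ?_⟩
  rw [orderOf_pow_orderOf_div (orderOf_pos u).ne' htd]
  exact ht

/-- The centralizers of elements of prime order form a "partition". -/
theorem centralizer_eq_of_mem_inf [Finite E] (hCN : Cfsg.IsCNGroup E) (hC : PropC E) (x y u : E)
    (hx : (orderOf x).Prime) (hy : (orderOf y).Prime) (hu : u ≠ 1)
    (hux : u ∈ Subgroup.centralizer ({x} : Set E)) (huy : u ∈ Subgroup.centralizer ({y} : Set E)) :
    Subgroup.centralizer {x} = Subgroup.centralizer ({y} : Set E) := by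
  obtain ⟨k, hk⟩ := exists_prime_pow u hu
  have h1 : u ^ k ∈ Subgroup.centralizer ({x} : Set E) := pow_mem hux k
  have h2 : u ^ k ∈ Subgroup.centralizer ({y} : Set E) := pow_mem huy k
  rw [Subgroup.mem_centralizer_singleton_iff] at h1 h2
  rw [centralizer_eq_of_commute hCN hC x (u ^ k) hx hk h1.symm,
    centralizer_eq_of_commute hCN hC y (u ^ k) hy hk h2.symm]

theorem conj_zpowers_mem (x g : E) (hg : g * x * g⁻¹ ∈ Subgroup.zpowers x) :
    ∀ z ∈ Subgroup.zpowers x, g * z * g⁻¹ ∈ Subgroup.zpowers x := by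
  intro z hz
  obtain ⟨k, rfl⟩ := Subgroup.mem_zpowers_iff.mp hz
  have : g * x ^ k * g⁻¹ = (g * x * g⁻¹) ^ k := by
    rw [conj_zpow]
  rw [this]
  exact zpow_mem hg k

theorem mem_normalizer_zpowers [Finite E] (x g : E) (hg : g * x * g⁻¹ ∈ Subgroup.zpowers x) :
    g ∈ Subgroup.normalizer ((Subgroup.zpowers x : Subgroup E) : Set E) := by
  have hmap : (Subgroup.zpowers x).map (MulAut.conj g).toMonoidHom = Subgroup.zpowers x := by
    apply Subgroup.eq_of_le_of_card_ge
    · rw [MonoidHom.map_zpowers]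
      apply Subgroup.zpowers_le.mpr
      simpa using hg
    · rw [Subgroup.card_map_of_injective (MulAut.conj g).injective]
  rw [Subgroup.mem_normalizer_iff]
  intro h
  constructor
  · intro hh
    exact conj_zpowers_mem x g hg h hh
  · intro hh
    rw [← hmap] at hh
    obtain ⟨h', hh', heq⟩ := hh
    have : h' = h := by
      have h3 : g * h' * g⁻¹ = g * h * g⁻¹ := by simpa using heq
      have h4 := congrArg (fun t => g⁻¹ * t * g) h3
      simpa [mul_assoc] using h4
    rw [← this]; exact hh'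

/-- An element of prime order `r` normalizing a subgroup of prime order `q ≠ r` centralizes it. -/
theorem commute_of_normalizes [Finite E] (hC : PropC E) (q r : ℕ) (hq : q.Prime) (hr : r.Prime)
    (hqr : q ≠ r) (x w : E) (hx : orderOf x = q) (hw : orderOf w = r)
    (hwx : w ∈ Subgroup.normalizer ((Subgroup.zpowers x : Subgroup E) : Set E)) :
    w * x = x * w := by
  set A : Subgroup E := Subgroup.zpowers w ⊔ Subgroup.zpowers x with hA
  have hcard : Nat.card A = r * q := by
    have h1 := Cfsg.Agent.Lib.Helper1_FPF.card_sup_of_le_normalizer (Subgroup.zpowers w)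
      (Subgroup.zpowers x) (Subgroup.zpowers_le.mpr hwx) (by
        apply disjoint_iff.mp
        apply Subgroup.disjoint_of_coprime_natCard
        rw [Nat.card_zpowers, Nat.card_zpowers, hx, hw]
        exact (Nat.coprime_primes hr hq).mpr hqr.symm)
    rw [h1, Nat.card_zpowers, Nat.card_zpowers, hx, hw]
  haveI : IsCyclic A := hC.cyc A r q hr hq hcard
  have hwA : w ∈ A := (le_sup_left : Subgroup.zpowers w ≤ A) (Subgroup.mem_zpowers w)
  have hxA : x ∈ A := (le_sup_right : Subgroup.zpowers x ≤ A) (Subgroup.mem_zpowers x)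
  have := (isMulCommutative_iff.mp (inferInstance : IsMulCommutative A)) ⟨w, hwA⟩ ⟨x, hxA⟩
  exact congrArg Subtype.val this

/-- An element normalizing a subgroup of prime order centralizes it. -/
theorem mem_centralizer_of_normalizes [Finite E] (hCN : Cfsg.IsCNGroup E) (hC : PropC E) (q : ℕ)
    [hq : Fact q.Prime] (x : E) (hx : orderOf x = q) (g : E)
    (hg : g * x * g⁻¹ ∈ Subgroup.zpowers x) : g ∈ Subgroup.centralizer ({x} : Set E) := by
  have hgN := mem_normalizer_zpowers x g hg
  have hx1 : x ≠ 1 := ne_one_of_prime_order x (hx ▸ hq.out)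
  apply Cfsg.Agent.Lib.Helper71_Fitting.mem_of_primePow_mem
  intro y hy r k hr hyo
  have hyN : y ∈ Subgroup.normalizer ((Subgroup.zpowers x : Subgroup E) : Set E) :=
    (Subgroup.zpowers_le.mpr hgN) hy
  rw [Subgroup.mem_centralizer_singleton_iff]
  by_cases hy1 : y = 1
  · rw [hy1]; simp
  haveI : Fact r.Prime := ⟨hr⟩
  by_cases hrq : r = q
  · subst hrq
    have hPy : IsPGroup r (Subgroup.zpowers y) :=
      IsPGroup.of_card (n := k) (by rw [Nat.card_zpowers, hyo])
    have hPx : IsPGroup r (Subgroup.zpowers x) :=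
      IsPGroup.of_card (n := 1) (by rw [Nat.card_zpowers, hx, pow_one])
    have hsup := IsPGroup.to_sup_of_normal_right' hPy hPx (Subgroup.zpowers_le.mpr hyN)
    obtain ⟨S, hS⟩ := hsup.exists_le_sylow
    have hxS : x ∈ S := hS ((le_sup_right : Subgroup.zpowers x ≤ _) (Subgroup.mem_zpowers x))
    have hyS : y ∈ S := hS ((le_sup_left : Subgroup.zpowers y ≤ _) (Subgroup.mem_zpowers y))
    exact (central_in_sylow hC r x hx S hxS y hyS).symm
  · have hrd : r ∣ orderOf y := by
      rw [hyo]
      rcases Nat.eq_zero_or_pos k with hk | hk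
      · exfalso; apply hy1
        rw [hk, pow_zero] at hyo
        exact orderOf_eq_one_iff.mp hyo
      · exact dvd_pow_self r hk.ne'
    set w := y ^ (orderOf y / r) with hw
    have hwo : orderOf w = r := orderOf_pow_orderOf_div (orderOf_pos y).ne' hrd
    have hwN : w ∈ Subgroup.normalizer ((Subgroup.zpowers x : Subgroup E) : Set E) :=
      pow_mem hyN _
    have hwx : w * x = x * w :=
      commute_of_normalizes hC q r hq.out hr (Ne.symm hrq) x w hx hwo hwN
    have hcent := centralizer_eq_of_commute hCN hC w x (hwo ▸ hr) (hx ▸ hq.out) hwx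
    have hyw : y ∈ Subgroup.centralizer ({w} : Set E) := by
      rw [Subgroup.mem_centralizer_singleton_iff, hw]
      exact ((Commute.refl y).pow_right _).eq
    rw [hcent, Subgroup.mem_centralizer_singleton_iff] at hyw
    exact hyw

theorem orderOf_conj (g x : E) : orderOf (g * x * g⁻¹) = orderOf x := by
  have := orderOf_injective (MulAut.conj g).toMonoidHom (MulAut.conj g).injective x
  simpa using this

theorem orderOf_conj' (g x : E) : orderOf (g⁻¹ * x * g) = orderOf x := by
  simpa using orderOf_conj g⁻¹ x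

theorem conj_mem_centralizer (g u x : E) :
    g⁻¹ * u * g ∈ Subgroup.centralizer ({x} : Set E) ↔
      u ∈ Subgroup.centralizer ({g * x * g⁻¹} : Set E) := by
  rw [Subgroup.mem_centralizer_singleton_iff, Subgroup.mem_centralizer_singleton_iff]
  constructor
  · intro h
    have h1 : u * (g * x * g⁻¹) = g * (g⁻¹ * u * g * x) * g⁻¹ := by group
    rw [h1, h]; group
  · intro h
    have h1 : g⁻¹ * u * g * x = g⁻¹ * (u * (g * x * g⁻¹)) * g := by group
    rw [h1, h]; group

/-- The centralizer of an element of prime order satisfies the Frobenius condition. -/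
theorem frob_cond [Finite E] (hCN : Cfsg.IsCNGroup E) (hC : PropC E) (x : E)
    (hx : (orderOf x).Prime) (g m : E) (hm : m ∈ Subgroup.centralizer ({x} : Set E)) (hm1 : m ≠ 1)
    (hgm : g * m * g⁻¹ ∈ Subgroup.centralizer ({x} : Set E)) :
    g ∈ Subgroup.centralizer ({x} : Set E) := by
  haveI : Fact (orderOf x).Prime := ⟨hx⟩
  obtain ⟨k, hk⟩ := exists_prime_pow m hm1
  set v := m ^ k with hv
  have hvx : v ∈ Subgroup.centralizer ({x} : Set E) := pow_mem hm k
  have hv'x : g * v * g⁻¹ ∈ Subgroup.centralizer ({x} : Set E) := by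
    have : g * v * g⁻¹ = (g * m * g⁻¹) ^ k := by rw [hv, conj_pow]
    rw [this]; exact pow_mem hgm k
  have hk' : (orderOf (g * v * g⁻¹)).Prime := by rw [orderOf_conj]; exact hk
  have e1 : Subgroup.centralizer ({x} : Set E) = Subgroup.centralizer ({v} : Set E) := by
    rw [Subgroup.mem_centralizer_singleton_iff] at hvx
    exact centralizer_eq_of_commute hCN hC x v hx hk hvx.symm
  have e2 : Subgroup.centralizer ({x} : Set E) = Subgroup.centralizer ({g * v * g⁻¹} : Set E) := by
    rw [Subgroup.mem_centralizer_singleton_iff] at hv'x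
    exact centralizer_eq_of_commute hCN hC x _ hx hk' hv'x.symm
  -- `g x g⁻¹` lies in `C(x)`
  have hgx : g * x * g⁻¹ ∈ Subgroup.centralizer ({x} : Set E) := by
    rw [e2, ← conj_mem_centralizer]
    have : g⁻¹ * (g * x * g⁻¹) * g = x := by group
    rw [this, ← e1]
    rw [Subgroup.mem_centralizer_singleton_iff]
  -- both `x` and `g x g⁻¹` are `q`-elements of the nilpotent group `C(x)`
  have hx1 : x ≠ 1 := ne_one_of_prime_order x hx
  have hnil := hCN x hx1
  obtain ⟨T, hTH, hTq, hT⟩ := exists_qPart _ hnil (orderOf x)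
  have hxT : x ∈ T := hT x (by rw [Subgroup.mem_centralizer_singleton_iff])
    ⟨1, pow_orderOf_eq x _ rfl⟩
  have hgxT : g * x * g⁻¹ ∈ T := hT _ hgx ⟨1, pow_orderOf_eq _ _ (orderOf_conj g x)⟩
  have heq : Subgroup.zpowers (g * x * g⁻¹) = Subgroup.zpowers x :=
    hC.uniq (orderOf x) T _ _ hTq (Subgroup.zpowers_le.mpr hgxT) (Subgroup.zpowers_le.mpr hxT)
      (by rw [Nat.card_zpowers, orderOf_conj]) (by rw [Nat.card_zpowers])
  apply mem_centralizer_of_normalizes hCN hC (orderOf x) x rfl g
  rw [← heq]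
  exact Subgroup.mem_zpowers _

/-- The centralizer of an element of prime order is a Hall subgroup. -/
theorem not_dvd_index [Finite E] (hCN : Cfsg.IsCNGroup E) (hC : PropC E) (x : E)
    (hx : (orderOf x).Prime) (t : ℕ) [ht : Fact t.Prime]
    (htd : t ∣ Nat.card (Subgroup.centralizer ({x} : Set E))) :
    ¬ t ∣ (Subgroup.centralizer ({x} : Set E)).index := by
  obtain ⟨y, hy⟩ := exists_prime_orderOf_dvd_card' t htd
  have hyE : orderOf (y : E) = t := by rw [Subgroup.orderOf_coe]; exact hy
  have hyx : (y : E) * x = x * (y : E) := Subgroup.mem_centralizer_singleton_iff.mp y.2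
  have hPy : IsPGroup t (Subgroup.zpowers (y : E)) :=
    IsPGroup.of_card (n := 1) (by rw [Nat.card_zpowers, hyE, pow_one])
  obtain ⟨S, hS⟩ := hPy.exists_le_sylow
  have hyS : (y : E) ∈ S := hS (Subgroup.mem_zpowers _)
  have hSle : (S : Subgroup E) ≤ Subgroup.centralizer ({x} : Set E) := by
    intro s hs
    have h1 : s ∈ Subgroup.centralizer ({(y : E)} : Set E) := by
      rw [Subgroup.mem_centralizer_singleton_iff]
      exact (central_in_sylow hC t (y : E) hyE S hyS s hs).symm
    exact centralizer_le_of_commute hCN hC x (y : E) hx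
      (ne_one_of_prime_order _ (hyE ▸ ht.out)) hyx.symm h1
  intro hdvd
  exact S.not_dvd_index (dvd_trans hdvd (Subgroup.index_dvd_of_le hSle))

/-- Counting: a subgroup satisfying the Frobenius condition has many conjugates. -/
theorem card_le_two_mul [Finite E] (M : Subgroup E) (hM1 : M ≠ ⊥)
    (hM : ∀ g m : E, m ∈ M → m ≠ 1 → g * m * g⁻¹ ∈ M → g ∈ M) :
    Nat.card E ≤ 2 * Nat.card {u : E // u ≠ 1 ∧ ∃ g : E, g⁻¹ * u * g ∈ M} := by
  classical
  set U := {u : E // u ≠ 1 ∧ ∃ g : E, g⁻¹ * u * g ∈ M} with hU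
  let γ : U → E := fun u => Classical.choose u.2.2
  have hγ : ∀ u : U, (γ u)⁻¹ * u.1 * γ u ∈ M := fun u => Classical.choose_spec u.2.2
  have conj_ne : ∀ (g : E) (m : {m : M // m ≠ 1}), g * (m.1 : E) * g⁻¹ ≠ 1 := by
    intro g m h
    apply m.2
    apply Subtype.ext
    have : (m.1 : E) = g⁻¹ * (g * (m.1 : E) * g⁻¹) * g := by group
    rw [this, h]; simp
  let u0 : E × {m : M // m ≠ 1} → U := fun p =>
    ⟨p.1 * (p.2.1 : E) * p.1⁻¹, conj_ne p.1 p.2, p.1, by
      have : p.1⁻¹ * (p.1 * (p.2.1 : E) * p.1⁻¹) * p.1 = (p.2.1 : E) := by group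
      rw [this]; exact p.2.1.2⟩
  have hmem : ∀ p : E × {m : M // m ≠ 1}, (γ (u0 p))⁻¹ * p.1 ∈ M := by
    intro p
    apply hM _ (p.2.1 : E) p.2.1.2 (fun h => p.2.2 (Subtype.ext h))
    have h1 := hγ (u0 p)
    have h2 : (γ (u0 p))⁻¹ * p.1 * (p.2.1 : E) * ((γ (u0 p))⁻¹ * p.1)⁻¹ =
        (γ (u0 p))⁻¹ * (p.1 * (p.2.1 : E) * p.1⁻¹) * γ (u0 p) := by group
    rw [h2]; exact h1
  let φ : E × {m : M // m ≠ 1} → U × M := fun p => (u0 p, ⟨(γ (u0 p))⁻¹ * p.1, hmem p⟩)
  have hφ : Function.Injective φ := by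
    intro p p' h
    have h1 : u0 p = u0 p' := congrArg Prod.fst h
    have h2 : (γ (u0 p))⁻¹ * p.1 = (γ (u0 p'))⁻¹ * p'.1 :=
      congrArg (fun t => ((t.2 : M) : E)) h
    rw [h1] at h2
    have h3 : p.1 = p'.1 := mul_left_cancel h2
    have h4 : p.1 * (p.2.1 : E) * p.1⁻¹ = p'.1 * (p'.2.1 : E) * p'.1⁻¹ :=
      congrArg (fun t : U => (t.1 : E)) h1
    rw [h3] at h4
    have h5 : (p.2.1 : E) = (p'.2.1 : E) := by
      have := mul_right_cancel h4
      exact mul_left_cancel this
    ext
    · exact h3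
    · exact h5
  have hle := Nat.card_le_card_of_injective φ hφ
  rw [Nat.card_prod, Nat.card_prod] at hle
  have hopt : Nat.card M = Nat.card {m : M // m ≠ 1} + 1 := by
    rw [← Finite.card_option]
    exact (Nat.card_congr (Equiv.optionSubtypeNe (1 : M))).symm
  have hk : 0 < Nat.card {m : M // m ≠ 1} := by
    obtain ⟨m, hm⟩ := (Subgroup.ne_bot_iff_exists_ne_one).mp hM1
    haveI : Nonempty {m : M // m ≠ 1} := ⟨⟨m, hm⟩⟩
    exact Nat.card_pos
  rw [hopt] at hle
  set k := Nat.card {m : M // m ≠ 1} with hkdef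
  have h6 : Nat.card E * k ≤ (2 * Nat.card U) * k := by
    calc Nat.card E * k ≤ Nat.card U * (k + 1) := hle
      _ ≤ Nat.card U * (2 * k) := Nat.mul_le_mul_left _ (by omega)
      _ = (2 * Nat.card U) * k := by ring
  exact Nat.le_of_mul_le_mul_right h6 hk

/-- **Main lemma**: a finite CN-group with property (C) is nilpotent. -/
theorem isNilpotent_of_CN_PropC [Finite E] (hCN : Cfsg.IsCNGroup E) (hC : PropC E) :
    Group.IsNilpotent E := by
  rcases subsingleton_or_nontrivial E with hs | hnt
  · infer_instance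
  have hcard : 1 < Nat.card E := Finite.one_lt_card
  obtain ⟨q, hq, hqd⟩ := Nat.exists_prime_and_dvd hcard.ne'
  haveI : Fact q.Prime := ⟨hq⟩
  obtain ⟨x, hx⟩ := exists_prime_orderOf_dvd_card' q hqd
  have hxp : (orderOf x).Prime := hx ▸ hq
  have hx1 : x ≠ 1 := ne_one_of_prime_order x hxp
  set M := Subgroup.centralizer ({x} : Set E) with hM
  suffices hMtop : M = ⊤ by
    have := hCN x hx1
    rw [← hM, hMtop] at this
    exact Group.isNilpotent_top.mp this
  by_contra hMtop
  have hidx : M.index ≠ 1 := fun h => hMtop (Subgroup.index_eq_one.mp h)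
  obtain ⟨r, hr, hrd⟩ := Nat.exists_prime_and_dvd hidx
  haveI : Fact r.Prime := ⟨hr⟩
  obtain ⟨y, hy⟩ := exists_prime_orderOf_dvd_card' r (dvd_trans hrd (Subgroup.index_dvd_card M))
  have hyp : (orderOf y).Prime := hy ▸ hr
  have hy1 : y ≠ 1 := ne_one_of_prime_order y hyp
  set M' := Subgroup.centralizer ({y} : Set E) with hM'
  have hMne : M ≠ ⊥ := by
    intro h
    have : x ∈ M := by rw [hM, Subgroup.mem_centralizer_singleton_iff]
    rw [h, Subgroup.mem_bot] at this
    exact hx1 this
  have hM'ne : M' ≠ ⊥ := by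
    intro h
    have : y ∈ M' := by rw [hM', Subgroup.mem_centralizer_singleton_iff]
    rw [h, Subgroup.mem_bot] at this
    exact hy1 this
  have h1 := card_le_two_mul M hMne (fun g m hm hm1 hgm => frob_cond hCN hC x hxp g m hm hm1 hgm)
  have h2 := card_le_two_mul M' hM'ne
    (fun g m hm hm1 hgm => frob_cond hCN hC y hyp g m hm hm1 hgm)
  set U := {u : E // u ≠ 1 ∧ ∃ g : E, g⁻¹ * u * g ∈ M} with hU
  set U' := {u : E // u ≠ 1 ∧ ∃ g : E, g⁻¹ * u * g ∈ M'} with hU'
  -- disjointness
  have hdisj : ∀ (u : U) (u' : U'), (u.1 : E) ≠ u'.1 := by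
    rintro ⟨u, hu1, g, hg⟩ ⟨u', hu'1, h, hh⟩ heq
    simp only at heq
    subst heq
    rw [hM, conj_mem_centralizer] at hg
    rw [hM', conj_mem_centralizer] at hh
    have hxo : (orderOf (g * x * g⁻¹)).Prime := by rw [orderOf_conj]; exact hxp
    have hyo : (orderOf (h * y * h⁻¹)).Prime := by rw [orderOf_conj]; exact hyp
    have heq := centralizer_eq_of_mem_inf hCN hC _ _ u hxo hyo hu1 hg hh
    have h3 : h * y * h⁻¹ ∈ Subgroup.centralizer ({g * x * g⁻¹} : Set E) := by
      rw [heq, Subgroup.mem_centralizer_singleton_iff]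
    rw [← conj_mem_centralizer] at h3
    have h4 : r ∣ Nat.card M := by
      have := Subgroup.orderOf_dvd_natCard M h3
      rwa [orderOf_conj', orderOf_conj, hy] at this
    exact not_dvd_index hCN hC x hxp r h4 hrd
  -- counting
  have h3 : Nat.card U + Nat.card U' + 1 ≤ Nat.card E := by
    let ψ : (U ⊕ U') ⊕ Unit → E := fun s =>
      match s with
      | Sum.inl (Sum.inl u) => u.1
      | Sum.inl (Sum.inr u') => u'.1
      | Sum.inr _ => 1
    have hψ : Function.Injective ψ := by
      rintro ((u | u') | a) ((v | v') | b) h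
      · have : u = v := Subtype.ext h
        rw [this]
      · exact absurd h (hdisj u v')
      · exact absurd h u.2.1
      · exact absurd h.symm (hdisj v u')
      · have : u' = v' := Subtype.ext h
        rw [this]
      · exact absurd h u'.2.1
      · exact absurd h.symm v.2.1
      · exact absurd h.symm v'.2.1
      · rfl
    have := Nat.card_le_card_of_injective ψ hψ
    rwa [Nat.card_sum, Nat.card_sum, (Nat.card_unique : Nat.card Unit = 1)] at this
  omega

end Cfsg.Agent.Lib.Helper25_CNFrob
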