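import Mathlib
import Cfsg.Agent.Lib.Helper25_CNFrob
import Cfsg.Agent.Lib.Helper1_Cores
import Cfsg.Agent.Lib.Helper32_PGroup
import Cfsg.Agent.S0016
import Cfsg.Agent.S3937

/-!
helper25: structure of nilpotent groups with property (C) (cyclic, or cyclic of odd order times
generalized quaternion), and some CN-group lemmas used for solvable CN-groups.
-/

set_option autoImplicit false
set_option linter.style.haveILetI false

namespace Cfsg.Agent.Lib.Helper25_CNSolv

open Cfsg Cfsg.Agent.Lib.Helper25_CN Cfsg.Agent.Lib.Helper25_CNFrob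
open Cfsg.Agent.Lib.Helper32_Nilpotent

theorem PropC.of_injective {X Y : Type*} [Group X] [Group Y] (f : X →* Y)
    (hf : Function.Injective f) (h : PropC Y) : PropC X := by
  constructor
  · intro q _ P B1 B2 hP hB1 hB2 h1 h2
    have key := h.uniq q (P.map f) (B1.map f) (B2.map f) (hP.map f) (Subgroup.map_mono hB1)
      (Subgroup.map_mono hB2) (by rw [Subgroup.card_map_of_injective hf]; exact h1)
      (by rw [Subgroup.card_map_of_injective hf]; exact h2)
    exact Subgroup.map_injective hf key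
  · intro A p q hp hq hA
    have key := h.cyc (A.map f) p q hp hq (by rw [Subgroup.card_map_of_injective hf]; exact hA)
    exact (A.equivMapOfInjective f hf).isCyclic.mpr key

theorem sylow_cyclic_or_quat {X : Type*} [Group X] [Finite X] (h : PropC X) (p : ℕ)
    [Fact p.Prime] (P : Sylow p X) :
    IsCyclic P ∨ (p = 2 ∧ ∃ n : ℕ, Nonempty (P ≃* QuaternionGroup (2 ^ n))) := by
  apply Cfsg.Agent.S0016.result p P.isPGroup'
  intro B1 B2 h1 h2
  have hinj := (P : Subgroup X).subtype_injective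
  have key := h.uniq p P (B1.map (P : Subgroup X).subtype) (B2.map (P : Subgroup X).subtype) P.2
    (Subgroup.map_subtype_le _) (Subgroup.map_subtype_le _)
    (by rw [Subgroup.card_map_of_injective hinj]; exact h1)
    (by rw [Subgroup.card_map_of_injective hinj]; exact h2)
  exact Subgroup.map_injective hinj key

theorem isZGroup_of_odd {X : Type*} [Group X] [Finite X] (h : PropC X) (hodd : Odd (Nat.card X)) :
    IsZGroup X := by
  constructor
  intro p hp P
  haveI : Fact p.Prime := ⟨hp⟩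
  rcases sylow_cyclic_or_quat h p P with hc | ⟨-, n, ⟨e⟩⟩
  · exact hc
  · exfalso
    have h1 : Nat.card P = 4 * 2 ^ n := by
      rw [Nat.card_congr e.toEquiv, Nat.card_eq_fintype_card, QuaternionGroup.card]
    have h2 : 2 ∣ Nat.card X := by
      have : Nat.card (P : Subgroup X) ∣ Nat.card X := Subgroup.card_subgroup_dvd_card _
      rw [h1] at this
      exact dvd_trans ⟨2 * 2 ^ n, by ring⟩ this
    exact (Nat.not_even_iff_odd.mpr hodd) (even_iff_two_dvd.mpr h2)

theorem isCyclic_of_odd {X : Type*} [Group X] [Finite X] (h : PropC X) (hnil : Group.IsNilpotent X)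
    (hodd : Odd (Nat.card X)) : IsCyclic X := by
  haveI := isZGroup_of_odd h hodd
  infer_instance

/-- A finite nilpotent group with property (C) is cyclic, or the product of a cyclic group of odd
order and a generalized quaternion group. -/
theorem structure_abstract {X : Type*} [Group X] [Finite X] (hnil : Group.IsNilpotent X)
    (hC : PropC X) :
    IsCyclic X ∨ ∃ C Q : Subgroup X, C ⊔ Q = ⊤ ∧ (∀ a ∈ C, ∀ b ∈ Q, a * b = b * a) ∧ IsCyclic C ∧
      Odd (Nat.card C) ∧ ∃ n : ℕ, Nonempty (Q ≃* QuaternionGroup (2 ^ n)) := by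
  haveI := hnil
  let Q₀ : Sylow 2 X := default
  rcases sylow_cyclic_or_quat hC 2 Q₀ with hcyc | ⟨-, n, ⟨e⟩⟩
  · left
    haveI : IsZGroup X := by
      constructor
      intro p hp P
      haveI : Fact p.Prime := ⟨hp⟩
      rcases sylow_cyclic_or_quat hC p P with h | ⟨h2, -⟩
      · exact h
      · subst h2
        have hn : (Q₀ : Subgroup X).Normal := inferInstance
        haveI := Sylow.unique_of_normal Q₀ hn
        have hPQ : P = Q₀ := Subsingleton.elim _ _
        rw [hPQ]; exact hcyc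
    infer_instance
  · right
    have hn : (Q₀ : Subgroup X).Normal := inferInstance
    obtain ⟨C, hc⟩ := Subgroup.exists_right_complement'_of_coprime Q₀.card_coprime_index
    have hcardC : (Q₀ : Subgroup X).index = Nat.card C := hc.symm.index_eq_card
    have hoddC : Odd (Nat.card C) := by
      rw [← hcardC, ← Nat.not_even_iff_odd, even_iff_two_dvd]
      exact Q₀.not_dvd_index
    have hcop : (Nat.card C).Coprime (Nat.card (Q₀ : Subgroup X)) := by
      rw [← hcardC]; exact Q₀.card_coprime_index.symm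
    refine ⟨C, Q₀, ?_, ?_, ?_, hoddC, n, ⟨e⟩⟩
    · rw [sup_comm]; exact hc.sup_eq_top
    · intro a ha b hb
      have ha' : a ^ Nat.card C = 1 := by
        have : (⟨a, ha⟩ : C) ^ Nat.card C = 1 := pow_card_eq_one'
        exact congrArg Subtype.val this
      have hb' : b ^ Nat.card (Q₀ : Subgroup X) = 1 := by
        have : (⟨b, hb⟩ : (Q₀ : Subgroup X)) ^ Nat.card (Q₀ : Subgroup X) = 1 := pow_card_eq_one'
        exact congrArg Subtype.val this
      exact (commute_of_coprime_pow_eq_one X a b _ _ ha' hb' hcop).eq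
    · have hCC : PropC C := PropC.of_injective C.subtype C.subtype_injective hC
      exact isCyclic_of_odd hCC inferInstance hoddC

/-- The same for subgroups of an ambient group. -/
theorem structure_subgroup {G : Type*} [Group G] [Finite G] (E : Subgroup G)
    (hnil : Group.IsNilpotent E) (hC : PropC E) :
    IsCyclic E ∨ ∃ C Q : Subgroup G, C ⊔ Q = E ∧ (∀ a ∈ C, ∀ b ∈ Q, a * b = b * a) ∧ IsCyclic C ∧
      Odd (Nat.card C) ∧ ∃ n : ℕ, Nonempty (↥Q ≃* QuaternionGroup (2 ^ n)) := by
  rcases structure_abstract hnil hC with h | ⟨C, Q, hsup, hcomm, hcyc, hodd, n, ⟨e⟩⟩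
  · left; exact h
  · right
    have hinj := E.subtype_injective
    refine ⟨C.map E.subtype, Q.map E.subtype, ?_, ?_, ?_, ?_, n, ?_⟩
    · rw [← Subgroup.map_sup, hsup, ← MonoidHom.range_eq_map, Subgroup.range_subtype]
    · rintro _ ⟨a, ha, rfl⟩ _ ⟨b, hb, rfl⟩
      exact congrArg Subtype.val (hcomm a ha b hb)
    · exact (C.equivMapOfInjective E.subtype hinj).isCyclic.mp hcyc
    · rw [Subgroup.card_map_of_injective hinj]; exact hodd
    · exact ⟨(Q.equivMapOfInjective E.subtype hinj).symm.trans e⟩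

variable {G : Type*} [Group G]

/-- The `r`-elements of a nilpotent normal subgroup form a normal `r`-subgroup. -/
theorem exists_normal_qPart [Finite G] (N : Subgroup G) [hNn : N.Normal]
    (hN : Group.IsNilpotent N) (r : ℕ) [Fact r.Prime] :
    ∃ T : Subgroup G, T ≤ N ∧ T.Normal ∧ IsPGroup r T ∧
      ∀ c ∈ N, (∃ k, c ^ (r ^ k) = 1) → c ∈ T := by
  obtain ⟨T, hTN, hTr, hT⟩ := exists_qPart N hN r
  refine ⟨T, hTN, ?_, hTr, hT⟩
  constructor
  intro t ht g
  apply hT _ (hNn.conj_mem t (hTN ht) g)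
  obtain ⟨j, hj⟩ := hTr ⟨t, ht⟩
  refine ⟨j, ?_⟩
  have hj' : t ^ r ^ j = 1 := by simpa using congrArg Subtype.val hj
  rw [conj_pow, hj']
  group

/-- A Sylow subgroup contained in a nilpotent normal subgroup is normal. -/
theorem sylow_normal_of_le_nilpotent_normal [Finite G] (N : Subgroup G) [hNn : N.Normal]
    (hN : Group.IsNilpotent N) (r : ℕ) [Fact r.Prime] (R : Sylow r G)
    (hRN : (R : Subgroup G) ≤ N) : (R : Subgroup G).Normal := by
  obtain ⟨T, hTN, hTnormal, hTr, hT⟩ := exists_normal_qPart N hN r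
  have hRT : (R : Subgroup G) ≤ T := by
    intro s hs
    obtain ⟨i, hi⟩ := R.2 ⟨s, hs⟩
    have hi' : s ^ r ^ i = 1 := by simpa using congrArg Subtype.val hi
    exact hT s (hRN hs) ⟨i, hi'⟩
  have hReq : T = (R : Subgroup G) := R.3 hTr hRT
  rw [← hReq]; exact hTnormal

/-- Coprime-order elements of a nilpotent subgroup commute. -/
theorem commute_in_nilpotent (C : Subgroup G) (hC : Group.IsNilpotent C) (a b : G) (ha : a ∈ C)
    (hb : b ∈ C) (m n : ℕ) (ham : a ^ m = 1) (hbn : b ^ n = 1) (hmn : m.Coprime n) :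
    a * b = b * a := by
  haveI := hC
  have hc : Commute (⟨a, ha⟩ : C) ⟨b, hb⟩ := by
    apply commute_of_coprime_pow_eq_one C _ _ m n
    · apply Subtype.ext; simpa using ham
    · apply Subtype.ext; simpa using hbn
    · exact hmn
  exact congrArg Subtype.val hc.eq

theorem eq_one_of_pow_coprime (y : G) (m n : ℕ) (hm : y ^ m = 1) (hn : y ^ n = 1)
    (hmn : m.Coprime n) : y = 1 := by
  have h1 : orderOf y ∣ Nat.gcd m n :=
    Nat.dvd_gcd (orderOf_dvd_of_pow_eq_one hm) (orderOf_dvd_of_pow_eq_one hn)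
  rw [hmn] at h1
  exact orderOf_eq_one_iff.mp (Nat.dvd_one.mp h1)

theorem mem_of_pow_mem_coprime (K : Subgroup G) (y : G) (m n : ℕ) (hm : y ^ m ∈ K)
    (hn : y ^ n ∈ K) (hmn : m.Coprime n) : y ∈ K := by
  have hbez : (m : ℤ) * Nat.gcdA m n + (n : ℤ) * Nat.gcdB m n = 1 := by
    have := Nat.gcd_eq_gcd_ab m n
    rw [hmn] at this
    exact_mod_cast this.symm
  have : y = (y ^ m) ^ (Nat.gcdA m n) * (y ^ n) ^ (Nat.gcdB m n) := by
    rw [← zpow_natCast, ← zpow_natCast, ← zpow_mul, ← zpow_mul, ← zpow_add, hbez, zpow_one]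
  rw [this]
  exact K.mul_mem (K.zpow_mem hm _) (K.zpow_mem hn _)

/-- If two different primes have nontrivial cores in a CN-group, Sylow subgroups are normal. -/
theorem sylow_normal_of_two_cores [Finite G] (hCN : Cfsg.IsCNGroup G) (p q : ℕ)
    [hp : Fact p.Prime] [hq : Fact q.Prime] (hpq : p ≠ q) (h1 : pCore p G ≠ ⊥)
    (h2 : pCore q G ≠ ⊥) (P : Sylow p G) : (P : Subgroup G).Normal := by
  have hle : pCore p G ≤ P := Cfsg.Agent.Lib.Helper1_Cores.pCore_le_sylow p P
  haveI : ((pCore p G).subgroupOf (P : Subgroup G)).Normal :=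
    Subgroup.Normal.subgroupOf (Cfsg.Agent.Lib.Helper1_Cores.pCore_normal (G := G) p) (P : Subgroup G)
  have hne : (pCore p G).subgroupOf P ≠ ⊥ := by
    intro h
    apply h1
    rw [Subgroup.subgroupOf_eq_bot] at h
    exact h.eq_bot_of_le hle
  obtain ⟨z, hzO, hzc, hz1⟩ :=
    Cfsg.Agent.Lib.Helper32_PGroup.exists_mem_center_of_normal P.2 _ hne
  rw [Subgroup.mem_subgroupOf] at hzO
  have hz1' : (z : G) ≠ 1 := fun h => hz1 (Subtype.ext h)
  have hzP : ∀ s ∈ P, (z : G) * s = s * (z : G) := by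
    intro s hs
    have h3 := Subgroup.mem_center_iff.mp hzc ⟨s, hs⟩
    exact (congrArg Subtype.val h3).symm
  have hdisj : Disjoint (pCore p G) (pCore q G) := by
    apply Subgroup.disjoint_of_coprime_natCard
    obtain ⟨n, hn⟩ := IsPGroup.iff_card.mp (Cfsg.Agent.Lib.Helper1_Cores.pCore_isPGroup (G := G) q)
    rw [hn]
    exact Nat.Coprime.pow_right n (Cfsg.Agent.Lib.Helper1_Cores.pCore_card_coprime hpq)
  have hzQ : ∀ x ∈ pCore q G, (z : G) * x = x * (z : G) := by
    intro x hx
    exact (Subgroup.commute_of_normal_of_disjoint _ _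
      (Cfsg.Agent.Lib.Helper1_Cores.pCore_normal p) (Cfsg.Agent.Lib.Helper1_Cores.pCore_normal q)
      hdisj _ _ hzO hx).eq
  have hnilz := hCN _ hz1'
  -- `P` centralizes `O_q(G)`
  set N := Subgroup.centralizer ((pCore q G : Subgroup G) : Set G) with hN
  haveI hNn : N.Normal := Subgroup.normal_centralizer
  have hPN : (P : Subgroup G) ≤ N := by
    intro s hs
    rw [hN, Subgroup.mem_centralizer_iff]
    intro x hx
    obtain ⟨i, hi⟩ := P.2 ⟨s, hs⟩
    obtain ⟨j, hj⟩ := (Cfsg.Agent.Lib.Helper1_Cores.pCore_isPGroup (G := G) q) ⟨x, hx⟩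
    have hi' : s ^ p ^ i = 1 := by simpa using congrArg Subtype.val hi
    have hj' : x ^ q ^ j = 1 := by simpa using congrArg Subtype.val hj
    apply commute_in_nilpotent _ hnilz x s _ _ (q ^ j) (p ^ i) hj' hi'
      (Nat.Coprime.pow _ _ ((Nat.coprime_primes hq.out hp.out).mpr (Ne.symm hpq)))
    · rw [Subgroup.mem_centralizer_singleton_iff]; exact (hzQ x hx).symm
    · rw [Subgroup.mem_centralizer_singleton_iff]; exact (hzP s hs).symm
  have hNnil : Group.IsNilpotent N := by
    obtain ⟨⟨w, hw⟩, hw1⟩ := (Subgroup.ne_bot_iff_exists_ne_one).mp h2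
    have hw1' : w ≠ 1 := fun h => hw1 (Subtype.ext h)
    refine Cfsg.Agent.S3937.nilpotent_of_le ?_ (hCN w hw1')
    apply Subgroup.centralizer_le
    rw [Set.singleton_subset_iff]
    exact hw
  exact sylow_normal_of_le_nilpotent_normal N hNnil p P hPN

end Cfsg.Agent.Lib.Helper25_CNSolv
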