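import Mathlib
import Cfsg.Prelude.Def_OddOrderLocal
import Cfsg.Agent.Lib.Helper1_Cores
import Cfsg.Agent.Lib.Helper48_BG15a
import Cfsg.Agent.Lib.Helper24_CoprimeAction
import Cfsg.Agent.Lib.Helper25_CNSolv
import Cfsg.Agent.Lib.Helper52_FrobFormula
import Cfsg.Agent.Lib.Helper77_CyclicAut

/-!
# B-G Theorem 15.7 (case `K ≠ 1`): general group-theoretic lemmas

Sylow subgroups of a nilpotent subgroup `H` of a finite group `G`, written as
`Q1 H p = (pCore p ↥H).map H.subtype`, and a few elementary facts on cyclic normal subgroups.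
-/

set_option autoImplicit false
set_option linter.unusedSectionVars false
set_option linter.unusedVariables false
set_option linter.style.haveILetI false

namespace Cfsg.Agent.Lib.Helper48_BG157a

open Cfsg
open Cfsg.Agent.Lib.Helper1_Cores
open Cfsg.Agent.Lib.Helper48_BG15a
open scoped commutatorElement

universe u

section TypeLevel

variable {H : Type u} [Group H] [Finite H]

/-- in a finite nilpotent group every Sylow `p`-subgroup equals `O_p` -/
theorem sylow_eq_pCore (hnil : Group.IsNilpotent H) (p : ℕ) [Fact p.Prime] (S : Sylow p H) :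
    (S : Subgroup H) = pCore p H := by
  have h3 := (Group.isNilpotent_of_finite_tfae (G := H)).out 0 3 |>.mp hnil
  have hSn : (S : Subgroup H).Normal := h3 p inferInstance S
  exact le_antisymm (le_pCore hSn S.isPGroup') (pCore_le_sylow p S)

/-- in a finite nilpotent group every `p`-subgroup lies in `O_p` -/
theorem le_pCore_of_isPGroup (hnil : Group.IsNilpotent H) (p : ℕ) [Fact p.Prime] (T : Subgroup H)
    (hT : IsPGroup p T) : T ≤ pCore p H := by
  obtain ⟨S, hS⟩ := hT.exists_le_sylow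
  rw [← sylow_eq_pCore hnil p S]
  exact hS

theorem not_dvd_index_pCore (hnil : Group.IsNilpotent H) (p : ℕ) [Fact p.Prime] :
    ¬ p ∣ (pCore p H).index := by
  let S : Sylow p H := default
  rw [← sylow_eq_pCore hnil p S]
  exact S.not_dvd_index

end TypeLevel

section SubgroupLevel

variable {G : Type u} [Group G] [Finite G]

theorem card_eq_card_mul_relIndex {A B : Subgroup G} (h : A ≤ B) :
    Nat.card B = Nat.card A * A.relIndex B := by
  have h1 := Subgroup.card_mul_index (A.subgroupOf B)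
  rw [Cfsg.Agent.Lib.Helper24_CoprimeAction.card_subgroupOf_of_le h] at h1
  exact h1.symm

theorem le_Q1_of_isPGroup {H : Subgroup G} (hnil : Group.IsNilpotent ↥H) (p : ℕ) [Fact p.Prime]
    {T : Subgroup G} (hTH : T ≤ H) (hT : IsPGroup p T) : T ≤ Q1 H p := by
  have h1 : IsPGroup p ↥(T.subgroupOf H) := hT.comap_subtype
  have h2 := le_pCore_of_isPGroup hnil p _ h1
  intro t ht
  exact ⟨⟨t, hTH ht⟩, h2 (Subgroup.mem_subgroupOf.mpr ht), rfl⟩

theorem mem_Q1_of_pow {H : Subgroup G} (hnil : Group.IsNilpotent ↥H) (p : ℕ) [Fact p.Prime]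
    {h : G} (hh : h ∈ H) (n : ℕ) (hpow : h ^ p ^ n = 1) : h ∈ Q1 H p := by
  have hz : IsPGroup p (Subgroup.zpowers h) := by
    intro g
    refine ⟨n, ?_⟩
    obtain ⟨g, hg⟩ := g
    obtain ⟨k, rfl⟩ := Subgroup.mem_zpowers_iff.mp hg
    apply Subtype.ext
    simp only [Subgroup.coe_pow, Subgroup.coe_one]
    rw [← zpow_natCast, ← zpow_mul, mul_comm, zpow_mul, zpow_natCast, hpow, one_zpow]
  exact le_Q1_of_isPGroup hnil p (Subgroup.zpowers_le.mpr hh) hz (Subgroup.mem_zpowers h)

theorem not_dvd_relIndex_Q1_nil {H : Subgroup G} (hnil : Group.IsNilpotent ↥H) (p : ℕ)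
    [Fact p.Prime] : ¬ p ∣ (Q1 H p).relIndex H := by
  have h1 : (Q1 H p).relIndex H = (pCore p ↥H).index := by
    unfold Q1
    rw [Subgroup.relIndex, Subgroup.subgroupOf,
      Subgroup.comap_map_eq_self_of_injective H.subtype_injective]
  rw [h1]
  exact not_dvd_index_pCore hnil p

theorem card_Q1 (H : Subgroup G) (p : ℕ) : Nat.card ↥(Q1 H p) = Nat.card ↥(pCore p ↥H) :=
  Subgroup.card_map_of_injective H.subtype_injective

theorem Q1_commute {H : Subgroup G} (hnil : Group.IsNilpotent ↥H) {p q : ℕ} [hp : Fact p.Prime]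
    [hq : Fact q.Prime] (hpq : p ≠ q) : ∀ a ∈ Q1 H p, ∀ b ∈ Q1 H q, a * b = b * a := by
  intro a ha b hb
  obtain ⟨n, hn⟩ := (Q1_isPGroup H p) ⟨a, ha⟩
  obtain ⟨m, hm⟩ := (Q1_isPGroup H q) ⟨b, hb⟩
  have hn' : a ^ p ^ n = 1 := by simpa using congrArg Subtype.val hn
  have hm' : b ^ q ^ m = 1 := by simpa using congrArg Subtype.val hm
  exact Cfsg.Agent.Lib.Helper25_CNSolv.commute_in_nilpotent H hnil a b (Q1_le H p ha)
    (Q1_le H q hb) (p ^ n) (q ^ m) hn' hm'
    (Nat.Coprime.pow _ _ ((Nat.coprime_primes hp.out hq.out).mpr hpq))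

theorem le_normalizer_Q1 (H : Subgroup G) (p : ℕ) [Fact p.Prime] :
    Subgroup.normalizer (H : Set G) ≤ Subgroup.normalizer ((Q1 H p : Subgroup G) : Set G) :=
  Cfsg.Agent.Lib.Helper24_CoprimeAction.normalizer_le_normalizer_map_of_characteristic H
    (pCore p ↥H)

/-- a subgroup of a nilpotent `H` containing all the Sylow subgroups of `H` is `H` -/
theorem eq_of_forall_Q1_le {H C : Subgroup G} (hnil : Group.IsNilpotent ↥H) (hCH : C ≤ H)
    (h : ∀ q : ℕ, ∀ [Fact q.Prime], Q1 H q ≤ C) : C = H := by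
  apply le_antisymm hCH
  have hdvd : Nat.card H ∣ Nat.card C := by
    rw [← Nat.factorization_le_iff_dvd Nat.card_pos.ne' Nat.card_pos.ne']
    intro q
    by_cases hq : q.Prime
    · haveI : Fact q.Prime := ⟨hq⟩
      have h1 : Nat.card ↥(Q1 H q) ∣ Nat.card C := Subgroup.card_dvd_of_le (h q)
      have h2 : Nat.card H = Nat.card ↥(Q1 H q) * (Q1 H q).relIndex H :=
        card_eq_card_mul_relIndex (Q1_le H q)
      have h3 : ¬ q ∣ (Q1 H q).relIndex H := not_dvd_relIndex_Q1_nil hnil q
      have h4 : (Nat.card H).factorization q = (Nat.card ↥(Q1 H q)).factorization q := by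
        rw [h2, Nat.factorization_mul Nat.card_pos.ne' (by
          intro h0; rw [h0] at h3; exact h3 (dvd_zero q))]
        simp [Nat.factorization_eq_zero_of_not_dvd h3]
      rw [h4]
      exact (Nat.factorization_le_iff_dvd Nat.card_pos.ne' Nat.card_pos.ne').mpr h1 q
    · simp [Nat.factorization_eq_zero_of_not_prime _ hq]
  have hle : Nat.card H ≤ Nat.card C := Nat.le_of_dvd Nat.card_pos hdvd
  intro x hx
  have hCH' : (C.subgroupOf H) = ⊤ := by
    apply Subgroup.eq_top_of_card_eq
    rw [Cfsg.Agent.Lib.Helper24_CoprimeAction.card_subgroupOf_of_le hCH]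
    exact le_antisymm (Subgroup.card_le_of_le hCH) hle
  have : (⟨x, hx⟩ : ↥H) ∈ C.subgroupOf H := by rw [hCH']; trivial
  exact Subgroup.mem_subgroupOf.mp this

end SubgroupLevel

section Cyclic

variable {G : Type u} [Group G] [Finite G]

/-- every subgroup of a cyclic subgroup `P` is normalized by `N_G(P)` -/
theorem le_normalizer_of_le_isCyclic {P T : Subgroup G} (hcyc : IsCyclic P) (hTP : T ≤ P) :
    Subgroup.normalizer (P : Set G) ≤ Subgroup.normalizer (T : Set G) := by
  apply Cfsg.Agent.Lib.Helper52_FrobFormula.le_normalizer_of_forall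
  intro g hg y hy
  obtain ⟨k, hk⟩ := Cfsg.Agent.Lib.Helper77_CyclicAut.exists_zpow_conj hcyc hg
  rw [hk y (hTP hy)]
  exact T.zpow_mem hy k

/-- if `A`, `B` commute elementwise and `B` is abelian then `(AB)' ≤ A'` -/
theorem commutator_sup_le {A B : Subgroup G} (hAB : ∀ a ∈ A, ∀ b ∈ B, a * b = b * a)
    (hB : ∀ b ∈ B, ∀ b' ∈ B, b * b' = b' * b) : ⁅A ⊔ B, A ⊔ B⁆ ≤ ⁅A, A⁆ := by
  have hBA : B ≤ Subgroup.normalizer (A : Set G) := by
    apply Cfsg.Agent.Lib.Helper52_FrobFormula.le_normalizer_of_forall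
    intro b hb a ha
    have : b * a * b⁻¹ = a := by rw [← hAB a ha b hb]; group
    rw [this]; exact ha
  have hdec : ∀ g ∈ A ⊔ B, ∃ a ∈ A, ∃ b ∈ B, g = a * b := fun g hg =>
    Cfsg.Agent.Lib.Helper24_CoprimeAction.exists_mul_of_mem_sup B A hBA hg
  rw [Subgroup.commutator_le]
  intro g₁ hg₁ g₂ hg₂
  obtain ⟨a, ha, b, hb, rfl⟩ := hdec g₁ hg₁
  obtain ⟨a', ha', b', hb', rfl⟩ := hdec g₂ hg₂
  have hbc : ∀ c ∈ A ⊔ B, b * c = c * b := by
    intro c hc
    obtain ⟨a'', ha'', b'', hb'', rfl⟩ := hdec c hc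
    calc b * (a'' * b'') = (b * a'') * b'' := by group
      _ = (a'' * b) * b'' := by rw [(hAB a'' ha'' b hb).symm]
      _ = a'' * (b * b'') := by group
      _ = a'' * (b'' * b) := by rw [hB b hb b'' hb'']
      _ = a'' * b'' * b := by group
  have hb'c : ∀ c ∈ A ⊔ B, b' * c = c * b' := by
    intro c hc
    obtain ⟨a'', ha'', b'', hb'', rfl⟩ := hdec c hc
    calc b' * (a'' * b'') = (b' * a'') * b'' := by group
      _ = (a'' * b') * b'' := by rw [(hAB a'' ha'' b' hb').symm]
      _ = a'' * (b' * b'') := by group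
      _ = a'' * (b'' * b') := by rw [hB b' hb' b'' hb'']
      _ = a'' * b'' * b' := by group
  have key : ⁅a * b, a' * b'⁆ = ⁅a, a'⁆ := by
    have h1 : b * a' = a' * b := hbc a' (Subgroup.mem_sup_left ha')
    have h2 : b' * a = a * b' := hb'c a (Subgroup.mem_sup_left ha)
    have h3 : b * b' = b' * b := hB b hb b' hb'
    have h4 : b * a = a * b := hbc a (Subgroup.mem_sup_left ha)
    have h5 : b' * a' = a' * b' := hb'c a' (Subgroup.mem_sup_left ha')
    have e1 : a * b * (a' * b') = a * a' * (b * b') := by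
      calc a * b * (a' * b') = a * (b * a') * b' := by group
        _ = a * (a' * b) * b' := by rw [h1]
        _ = a * a' * (b * b') := by group
    have e2 : a' * b' * (a * b) = a' * a * (b' * b) := by
      calc a' * b' * (a * b) = a' * (b' * a) * b := by group
        _ = a' * (a * b') * b := by rw [h2]
        _ = a' * a * (b' * b) := by group
    -- `⁅x, y⁆ = 1 · …`: compare `x y = ⁅x,y⁆ y x`
    have hx : ⁅a * b, a' * b'⁆ * (a' * b' * (a * b)) = a * b * (a' * b') := by
      rw [commutatorElement_def]; group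
    have hy : ⁅a, a'⁆ * (a' * b' * (a * b)) = a * b * (a' * b') := by
      rw [e1, e2, commutatorElement_def, h3]; group
    exact mul_right_cancel (hx.trans hy.symm)
  rw [key]
  exact Subgroup.commutator_mem_commutator ha ha'

/-- a nilpotent subgroup all of whose relevant Sylow subgroups are cyclic is cyclic -/
theorem isCyclic_of_forall_Q1 {H D : Subgroup G} (hnil : Group.IsNilpotent ↥H) (hDH : D ≤ H)
    (h : ∀ q : ℕ, ∀ [Fact q.Prime], q ∣ Nat.card D → IsCyclic ↥(Q1 H q)) : IsCyclic ↥D := by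
  haveI hnilD : Group.IsNilpotent ↥D := by
    haveI := hnil
    exact Group.nilpotent_of_mulEquiv (D.subgroupOfEquivOfLe hDH)
  haveI : IsZGroup ↥D := by
    refine ⟨fun q hq S => ?_⟩
    haveI : Fact q.Prime := ⟨hq⟩
    by_cases hqD : q ∣ Nat.card D
    · have hcyc := h q hqD
      have h1 : (S : Subgroup ↥D).map D.subtype ≤ Q1 H q :=
        le_Q1_of_isPGroup hnil q ((Subgroup.map_subtype_le _).trans hDH) (S.isPGroup'.map _)
      haveI : IsCyclic ↥((S : Subgroup ↥D).map D.subtype) := Subgroup.isCyclic_of_le h1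
      exact isCyclic_of_surjective _
        ((S : Subgroup ↥D).equivMapOfInjective D.subtype D.subtype_injective).symm.surjective
    · have h1 : Nat.card (S : Subgroup ↥D) = 1 := by
        rw [S.card_eq_multiplicity, Nat.factorization_eq_zero_of_not_dvd hqD, pow_zero]
      rw [Subgroup.card_eq_one] at h1
      rw [h1]
      infer_instance
  infer_instance

end Cyclic

section Comm

variable {G : Type u} [Group G]

theorem comm_of_isMulCommutative {A : Subgroup G} (h : IsMulCommutative ↥A) :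
    ∀ a ∈ A, ∀ b ∈ A, a * b = b * a := by
  intro a ha b hb
  have := h.is_comm.comm (⟨a, ha⟩ : ↥A) ⟨b, hb⟩
  simpa using congrArg Subtype.val this

theorem isMulCommutative_of_comm {A : Subgroup G} (h : ∀ a ∈ A, ∀ b ∈ A, a * b = b * a) :
    IsMulCommutative ↥A :=
  ⟨⟨fun a b => Subtype.ext (h a.1 a.2 b.1 b.2)⟩⟩

theorem isMulCommutative_of_le {A B : Subgroup G} (hAB : A ≤ B) (h : IsMulCommutative ↥B) :
    IsMulCommutative ↥A :=
  isMulCommutative_of_comm fun a ha b hb => comm_of_isMulCommutative h a (hAB ha) b (hAB hb)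

theorem isMulCommutative_subgroupOf {A : Subgroup G} (B : Subgroup G)
    (h : IsMulCommutative ↥A) : IsMulCommutative ↥(A.subgroupOf B) :=
  ⟨⟨fun a b => by
    apply Subtype.ext; apply Subtype.ext
    exact comm_of_isMulCommutative h a.1.1 a.2 b.1.1 b.2⟩⟩

end Comm

end Cfsg.Agent.Lib.Helper48_BG157a
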