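import Cfsg.Agent.Lib.Helper49_Alpha

/-!
# `M_σ` is a Hall `σ(M)`-subgroup of `M` and of `G` (helper23)

Bender–Glauberman, Theorem 10.2(b), in a minimal simple group of odd order, with the Uniqueness Theorem as an
explicit hypothesis `UniqHyp G` (helper49's convention).
-/

set_option autoImplicit false

namespace Cfsg.Agent.Lib.Helper23_SigmaHall

open Subgroup Cfsg Cfsg.Agent.Lib.Helper49_Sigma Cfsg.Agent.Lib.Helper49_Alpha

variable {G : Type*} [Group G] [Finite G]

/-- primes outside `σ(M)` have rank at most two in `M` -/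
theorem pRankLE_of_not_mem_sigma (hG : IsMinSimpleOddOrder G) (hU : UniqHyp G) {M : Subgroup G}
    (hM : IsCoatom M) {q : ℕ} (hq : q.Prime) (hqσ : q ∉ sigma M) : PRankLE q 2 ↥M := by
  by_contra h
  exact hqσ (mem_sigma_of_mem_alpha hG hU hM ⟨hq, h⟩)

/-- no prime of `σ(M)` divides the index of `O_{σ(M)}(M)` in `M` -/
theorem not_dvd_index_sigma (hG : IsMinSimpleOddOrder G) (hU : UniqHyp G) {M : Subgroup G}
    (hM : IsCoatom M) {q : ℕ} (hq : q.Prime) (hqσ : q ∈ sigma M) :
    ¬ q ∣ (piCore (sigma M) ↥M).index := by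
  have hsolv : Group.IsSolvable ↥M := hG.2.2.2 M hM.1
  have hodd : Odd (Nat.card ↥M) := Odd.of_dvd_nat hG.1 (Subgroup.card_subgroup_dvd_card M)
  exact not_dvd_index_piCore (sigma M) hodd
    (fun r hr hrσ => pRankLE_of_not_mem_sigma hG hU hM hr hrσ)
    (fun r hrσ _ P => sylow_le_commutator hG hU hM hrσ P) hq hqσ

omit [Finite G] in
theorem relIndex_sigmaCore (M : Subgroup G) :
    (sigmaCore M).relIndex M = (piCore (sigma M) ↥M).index := by
  unfold Subgroup.relIndex sigmaCore Subgroup.subgroupOf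
  rw [Subgroup.comap_map_eq_self_of_injective M.subtype_injective]

omit [Finite G] in
theorem card_sigmaCore (M : Subgroup G) :
    Nat.card ↥(sigmaCore M) = Nat.card ↥(piCore (sigma M) ↥M) :=
  Subgroup.card_map_of_injective M.subtype_injective

theorem prime_mem_sigma_of_dvd_card_sigmaCore (M : Subgroup G) {q : ℕ} (hq : q.Prime)
    (hdvd : q ∣ Nat.card ↥(sigmaCore M)) : q ∈ sigma M := by
  rw [card_sigmaCore] at hdvd
  exact Cfsg.Agent.Lib.Helper32_Cores.card_piCore _ q hq hdvd

omit [Finite G] in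
theorem sigmaCore_le (M : Subgroup G) : sigmaCore M ≤ M := Subgroup.map_subtype_le _

omit [Finite G] in
/-- a subgroup of `M` normalized by `M` all of whose prime divisors lie in `σ(M)` lies in `M_σ` -/
theorem le_sigmaCore {M N : Subgroup G} (hNM : N ≤ M) (hn : M ≤ normalizer (N : Set G))
    (hσ : ∀ q : ℕ, q.Prime → q ∣ Nat.card ↥N → q ∈ sigma M) : N ≤ sigmaCore M := by
  have hnorm : (N.subgroupOf M).Normal := by
    constructor
    intro x hx g
    rw [Subgroup.mem_subgroupOf] at hx ⊢
    have := (Subgroup.mem_normalizer_iff.mp (hn g.2) (x : G)).mp hx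
    simpa using this
  have hcard : Nat.card ↥(N.subgroupOf M) = Nat.card ↥N := by
    rw [← Subgroup.card_map_of_injective M.subtype_injective, Subgroup.subgroupOf_map_subtype,
      inf_of_le_left hNM]
  have h1 : N.subgroupOf M ≤ piCore (sigma M) ↥M := by
    apply Cfsg.Agent.Lib.Helper32_Cores.le_piCore hnorm
    intro q hq hdvd
    rw [hcard] at hdvd
    exact hσ q hq hdvd
  intro x hx
  exact ⟨⟨x, hNM hx⟩, h1 (by rw [Subgroup.mem_subgroupOf]; exact hx), rfl⟩

/-- **Bender–Glauberman, Theorem 10.2(b)** (with the Uniqueness Theorem as a hypothesis). -/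
theorem sigma_statement (hG : IsMinSimpleOddOrder G) (hU : UniqHyp G) (M : Subgroup G) (hM : IsCoatom M) :
    IsPiHallOf (sigma M) (sigmaCore M) M ∧ IsPiHall (sigma M) (sigmaCore M) ∧
      ∀ N : Subgroup G, M ≤ normalizer (N : Set G) → IsPiHallOf (sigma M) N M →
        N = sigmaCore M := by
  have hprimes : ∀ q : ℕ, q.Prime → q ∣ Nat.card ↥(sigmaCore M) → q ∈ sigma M :=
    fun q hq hdvd => prime_mem_sigma_of_dvd_card_sigmaCore M hq hdvd
  refine ⟨⟨sigmaCore_le M, hprimes, ?_⟩, ⟨hprimes, ?_⟩, ?_⟩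
  · intro q hq hqσ
    rw [relIndex_sigmaCore]
    exact not_dvd_index_sigma hG hU hM hq hqσ
  · intro q hq hqσ
    have : Fact q.Prime := ⟨hq⟩
    have h1 : (sigmaCore M).index = (piCore (sigma M) ↥M).index * M.index :=
      Subgroup.index_map_subtype _
    rw [h1]
    intro hdvd
    rcases (Nat.Prime.dvd_mul hq).mp hdvd with h | h
    · exact not_dvd_index_sigma hG hU hM hq hqσ h
    · obtain ⟨-, -, Q₀, hQ₀⟩ := hqσ
      exact not_dvd_index_of_sylM (sylM_of_normalizer_le Q₀ hQ₀) h
  · intro N hn hN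
    have hle : N ≤ sigmaCore M := le_sigmaCore hN.1 hn hN.2.1
    apply le_antisymm hle
    -- the index of `N` in `M_σ` is `1`
    have hmul : N.relIndex (sigmaCore M) * (sigmaCore M).relIndex M = N.relIndex M :=
      Subgroup.relIndex_mul_relIndex N (sigmaCore M) M hle (sigmaCore_le M)
    have hone : N.relIndex (sigmaCore M) = 1 := by
      by_contra hne
      obtain ⟨q, hq, hqd⟩ := Nat.exists_prime_and_dvd hne
      have hqS : q ∣ Nat.card ↥(sigmaCore M) := by
        refine hqd.trans ?_
        rw [Subgroup.relIndex]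
        have := Subgroup.index_dvd_card (N.subgroupOf (sigmaCore M))
        exact this
      have hqσ : q ∈ sigma M := hprimes q hq hqS
      apply hN.2.2 q hq hqσ
      rw [← hmul]
      exact Dvd.dvd.mul_right hqd _
    exact Subgroup.relIndex_eq_one.mp hone

end Cfsg.Agent.Lib.Helper23_SigmaHall
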