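import Cfsg.Agent.Lib.Helper49_FitUniq3
import Cfsg.Agent.Lib.Helper22_Uniq6
import Cfsg.Agent.Lib.Helper32_PGroup

/-!
# Fusion of `p`-subgroups of a maximal subgroup `M` with `p ∈ σ(M)` (helper49)

Bender–Glauberman, Theorem 10.1, in a minimal simple group of odd order, with the Uniqueness Theorem as an
explicit hypothesis `UniqHyp G`.

* `SylM p M P`: `P` is a Sylow `p`-subgroup of `G` contained in `M` with `N_G(P) ≤ M`;
* `FusA M X`: every `g` with `gXg⁻¹ ≤ M` lies in `M C_G(X)`;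
* `FusB M X`: `N_G(X) = N_M(X) C_G(X)`;
* `fusion`: `FusA M X ∧ FusB M X` for every nontrivial `p`-subgroup `X` of `M`.
-/

set_option autoImplicit false

namespace Cfsg.Agent.Lib.Helper49_Sigma

open Subgroup Cfsg Cfsg.Agent.Lib.Helper22_BGTrans Cfsg.Agent.Lib.Helper22_Radical
  Cfsg.Agent.Lib.Helper84_RelSylow

variable {G : Type*} [Group G]

/-- the Uniqueness Theorem, as a hypothesis -/
def UniqHyp (G : Type*) [Group G] : Prop :=
  ∀ K : Subgroup G, K ≠ ⊤ → ¬ RankLE 1 ↥K →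
    (¬ RankLE 2 ↥K ∨ ¬ RankLE 2 ↥(centralizer (K : Set G))) → InUniqueMaximal K

/-- `P` is a Sylow `p`-subgroup of `G` inside `M` whose normalizer lies in `M` -/
def SylM (p : ℕ) (M P : Subgroup G) : Prop :=
  IsSylowIn p P ⊤ ∧ P ≤ M ∧ normalizer (P : Set G) ≤ M

/-- every `g` conjugating `X` into `M` lies in `M C_G(X)` -/
def FusA (M X : Subgroup G) : Prop :=
  ∀ g : G, cj g X ≤ M → ∃ m ∈ M, ∃ c ∈ centralizer (X : Set G), g = m * c

/-- `N_G(X) = N_M(X) C_G(X)` -/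
def FusB (M X : Subgroup G) : Prop :=
  ∀ n ∈ normalizer (X : Set G), ∃ m ∈ M ⊓ normalizer (X : Set G),
    ∃ c ∈ centralizer (X : Set G), n = m * c

theorem cj_self_of_mem {M : Subgroup G} {m : G} (hm : m ∈ M) : cj m M = M :=
  cj_eq_of_mem_normalizer (le_normalizer hm)

theorem fusB_of_normalizer_le {M X : Subgroup G} (h : normalizer (X : Set G) ≤ M) : FusB M X := by
  intro n hn
  exact ⟨n, Subgroup.mem_inf.mpr ⟨h hn, hn⟩, 1, one_mem _, (mul_one n).symm⟩

/-- rearranging `w * m * c` with `w, c ∈ C_G(X)` and `m ∈ N_M(X)` -/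
theorem fusB_mul {M X : Subgroup G} {w m c : G} (hw : w ∈ centralizer (X : Set G))
    (hm : m ∈ M ⊓ normalizer (X : Set G)) (hc : c ∈ centralizer (X : Set G)) :
    ∃ m' ∈ M ⊓ normalizer (X : Set G), ∃ c' ∈ centralizer (X : Set G), w * m * c = m' * c' := by
  have hmN : m ∈ normalizer ((centralizer (X : Set G) : Subgroup G) : Set G) :=
    Cfsg.Agent.Lib.Helper22_BGTransUp.normalizer_le_normalizer_centralizer X (Subgroup.mem_inf.mp hm).2
  have hminv : m⁻¹ ∈ normalizer ((centralizer (X : Set G) : Subgroup G) : Set G) := inv_mem hmN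
  have h1 : m⁻¹ * w * m⁻¹⁻¹ ∈ centralizer (X : Set G) := (mem_normalizer_iff.mp hminv w).mp hw
  refine ⟨m, hm, m⁻¹ * w * m⁻¹⁻¹ * c, mul_mem h1 hc, ?_⟩
  group

section Finite

variable [Finite G] {p : ℕ} [hp : Fact p.Prime]

omit [Finite G] hp in
theorem sylM_cj {M P : Subgroup G} (h : SylM p M P) {m : G} (hm : m ∈ M) : SylM p M (cj m P) := by
  obtain ⟨h1, h2, h3⟩ := h
  refine ⟨?_, ?_, ?_⟩
  · have := h1.conj m
    rwa [Subgroup.map_top_of_surjective _ (MulAut.conj m).surjective] at this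
  · have := cj_mono (k := m) h2
    rwa [cj_self_of_mem hm] at this
  · rw [normalizer_cj]
    have := cj_mono (k := m) h3
    rwa [cj_self_of_mem hm] at this

/-- every `p`-subgroup of `M` lies in a Sylow `p`-subgroup of `M` of the good kind -/
theorem exists_sylM_ge {M P T : Subgroup G} (h : SylM p M P) (hT : IsPGroup p T) (hTM : T ≤ M) :
    ∃ P', SylM p M P' ∧ T ≤ P' := by
  have hPM : IsSylowIn p P M := h.1.mono h.2.1 le_top
  obtain ⟨m, hm, hmT⟩ := hPM.exists_conj_le hTM hT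
  refine ⟨cj m⁻¹ P, sylM_cj h (inv_mem hm), ?_⟩
  intro x hx
  rw [mem_cj, inv_inv]
  exact hmT x hx

theorem card_sylM {M P P' : Subgroup G} (h : SylM p M P) (h' : SylM p M P') :
    Nat.card P = Nat.card P' := by
  rw [Cfsg.Agent.Lib.Helper22_Uniq.card_eq_of_isSylowIn h.1,
    Cfsg.Agent.Lib.Helper22_Uniq.card_eq_of_isSylowIn h'.1]

theorem card_le_sylM {M P T : Subgroup G} (h : SylM p M P) (hT : IsPGroup p T) :
    Nat.card T ≤ Nat.card P := by
  rw [Cfsg.Agent.Lib.Helper22_Uniq.card_eq_of_isSylowIn h.1]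
  exact Cfsg.Agent.Lib.Helper22_Uniq.card_le_of_isPGroup le_top hT

/-- relative Frattini argument for a normal subgroup `C` of `N` -/
theorem frattini_rel_inf {T N C : Subgroup G} (hT : IsSylowIn p T N) (hCN : C ≤ N)
    (hNC : N ≤ normalizer (C : Set G)) {n : G} (hn : n ∈ N) :
    ∃ c ∈ C, ∃ n' ∈ N ⊓ normalizer ((T ⊓ C : Subgroup G) : Set G), n = c * n' := by
  have hCn : (C.subgroupOf N).Normal := (Subgroup.normal_subgroupOf_iff_le_normalizer hCN).mpr hNC
  obtain ⟨c, hc, n', hn', hg⟩ := Cfsg.Agent.S0608.frattini_inf hT.toSylow (C.subgroupOf N) ⟨n, hn⟩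
  refine ⟨c, mem_subgroupOf.mp hc, n', Subgroup.mem_inf.mpr ⟨n'.2, ?_⟩, congrArg Subtype.val hg⟩
  have h2 := Subgroup.le_normalizer_map (H := (hT.toSylow : Subgroup ↥N) ⊓ C.subgroupOf N) N.subtype
  rw [Subgroup.map_inf _ _ N.subtype N.subtype_injective, hT.coe_toSylow,
    Subgroup.map_subgroupOf_eq_of_le hT.le, Subgroup.map_subgroupOf_eq_of_le hCN] at h2
  exact h2 ⟨n', hn', rfl⟩

omit [Finite G] hp in
theorem mem_normalizer_sup {A B : Subgroup G} {g : G} (hA : g ∈ normalizer (A : Set G))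
    (hB : g ∈ normalizer (B : Set G)) : g ∈ normalizer ((A ⊔ B : Subgroup G) : Set G) := by
  apply Cfsg.Agent.Lib.Helper22_BGTransUp.mem_normalizer_of_cj_eq
  show (A ⊔ B).map (MulAut.conj g).toMonoidHom = A ⊔ B
  rw [Subgroup.map_sup]
  have h1 : A.map (MulAut.conj g).toMonoidHom = A := cj_eq_of_mem_normalizer hA
  have h2 : B.map (MulAut.conj g).toMonoidHom = B := cj_eq_of_mem_normalizer hB
  rw [h1, h2]

omit [Finite G] hp in
theorem mem_centralizer_conj {X : Subgroup G} {g c : G} (hc : c ∈ centralizer ((cj g X : Subgroup G) : Set G)) :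
    g⁻¹ * c * g ∈ centralizer (X : Set G) := by
  rw [mem_centralizer_iff]
  intro x hx
  have hx₁ : g * x * g⁻¹ ∈ cj g X := ⟨x, hx, by simp [MulAut.conj_apply]⟩
  have h1 := mem_centralizer_iff.mp hc _ hx₁
  calc x * (g⁻¹ * c * g) = g⁻¹ * ((g * x * g⁻¹) * c) * g := by group
    _ = g⁻¹ * (c * (g * x * g⁻¹)) * g := by rw [h1]
    _ = g⁻¹ * c * g * x := by group

/-- a Sylow `p`-subgroup of `N_G(X)` inside `M` -/
theorem exists_sylow_normalizer_le {M P₁ X : Subgroup G} (hS : SylM p M P₁) (hXP : X ≤ P₁)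
    (hne : ¬ P₁ ≤ X)
    (ihA : ∀ Y : Subgroup G, IsPGroup p Y → Y ≤ M → Nat.card X < Nat.card Y → FusA M Y) :
    ∃ T, IsSylowIn p T (normalizer (X : Set G)) ∧ T ≤ M ∧ X ≤ T ∧ Nat.card X < Nat.card T := by
  have hpp := hp.out
  have hP₁p : IsPGroup p P₁ := hS.1.isPGroup
  have hXY : X ≤ normalizer (X : Set G) ⊓ P₁ := le_inf le_normalizer hXP
  have hYX : ¬ normalizer (X : Set G) ⊓ P₁ ≤ X := normalizer_growth hpp hP₁p hXP hne
  have hYp : IsPGroup p ↥(normalizer (X : Set G) ⊓ P₁) := hP₁p.to_le inf_le_right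
  have hcardY : Nat.card X < Nat.card ↥(normalizer (X : Set G) ⊓ P₁) := card_lt_card_of_lt hXY hYX
  obtain ⟨T₀, hYT₀, hT₀⟩ := exists_isSylowIn_ge (H := normalizer (X : Set G))
    (inf_le_left : normalizer (X : Set G) ⊓ P₁ ≤ normalizer (X : Set G)) hYp
  obtain ⟨h, -, hh⟩ := hS.1.exists_conj_le (K := T₀) le_top hT₀.isPGroup
  have hcjT : cj h T₀ ≤ P₁ := by
    rintro _ ⟨x, hx, rfl⟩
    exact hh x hx
  have hcjY : cj h (normalizer (X : Set G) ⊓ P₁) ≤ M := (cj_mono hYT₀).trans (hcjT.trans hS.2.1)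
  obtain ⟨m, hm, c, hc, hhmc⟩ := ihA _ hYp (inf_le_right.trans hS.2.1) hcardY h hcjY
  have hcX : c ∈ centralizer (X : Set G) := Subgroup.centralizer_le hXY hc
  have hcN : c ∈ normalizer (X : Set G) := Subgroup.centralizer_le_normalizer _ hcX
  refine ⟨cj c T₀, ?_, ?_, ?_, ?_⟩
  · have h1 := hT₀.conj c
    have h2 : (normalizer (X : Set G)).map (MulAut.conj c).toMonoidHom = normalizer (X : Set G) :=
      cj_eq_of_mem_normalizer (le_normalizer hcN)
    rwa [h2] at h1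
  · have h1 : cj m (cj c T₀) ≤ M := by
      rw [← cj_mul, ← hhmc]
      exact hcjT.trans hS.2.1
    have h2 := cj_mono (k := m⁻¹) h1
    rwa [cj_inv_cj, cj_self_of_mem (inv_mem hm)] at h2
  · have h1 : cj c X = X := cj_eq_of_mem_normalizer hcN
    rw [← h1]
    exact cj_mono (hXY.trans hYT₀)
  · rw [card_cj]
    exact hcardY.trans_le (Subgroup.card_le_of_le hYT₀)

/-- `Ω₁` of an abelian subgroup -/
def omega1 (p : ℕ) (A : Subgroup G) (hA : IsMulCommutative ↥A) : Subgroup G where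
  carrier := {a | a ∈ A ∧ a ^ p = 1}
  one_mem' := ⟨one_mem _, one_pow _⟩
  mul_mem' := by
    rintro a b ⟨ha, ha'⟩ ⟨hb, hb'⟩
    refine ⟨mul_mem ha hb, ?_⟩
    have hc : Commute a b := by
      have := hA.is_comm.comm (⟨a, ha⟩ : ↥A) ⟨b, hb⟩
      exact congrArg Subtype.val this
    rw [hc.mul_pow, ha', hb', one_mul]
  inv_mem' := by
    rintro a ⟨ha, ha'⟩
    exact ⟨inv_mem ha, by rw [inv_pow, ha', inv_one]⟩

/-- The self-centralizing case: if `T ∈ Syl_p(N_G(X))` lies in `M`, `C_T(X) ≤ X` and `G` has `p`-rank at least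
three, then `N_G(X) ≤ M`. -/
theorem normalizer_le_of_self_centralizing (hG : IsMinSimpleOddOrder G) (hU : UniqHyp G)
    {M : Subgroup G} (hM : IsCoatom M) {P₁ X T : Subgroup G} (hS : SylM p M P₁)
    (hX1 : X ≠ ⊥) (hT : IsSylowIn p T (normalizer (X : Set G))) (hTM : T ≤ M) (hXT : X ≤ T)
    (hD : T ⊓ centralizer (X : Set G) ≤ X) (hr : ¬ PRankLE p 2 G) :
    normalizer (X : Set G) ≤ M := by
  have hpp := hp.out
  have hTp := hT.isPGroup
  have hXp : IsPGroup p X := hTp.to_le hXT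
  obtain ⟨P₂, hS₂, hTP₂⟩ := exists_sylM_ge hS hTp hTM
  have hP₂p := hS₂.1.isPGroup
  have hNP₂ : normalizer (X : Set G) ⊓ P₂ = T :=
    hT.eq_of_le (le_inf hT.le hTP₂) inf_le_left (hP₂p.to_le inf_le_right)
  have hCP₂ : centralizer (X : Set G) ⊓ P₂ ≤ X := by
    intro x hx
    obtain ⟨hx1, hx2⟩ := Subgroup.mem_inf.mp hx
    have hxT : x ∈ T := by
      rw [← hNP₂]
      exact Subgroup.mem_inf.mpr ⟨Subgroup.centralizer_le_normalizer _ hx1, hx2⟩
    exact hD (Subgroup.mem_inf.mpr ⟨hxT, hx1⟩)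
  have hpG : p ∣ Nat.card G :=
    (Cfsg.Agent.Lib.Helper49_MaxSub.dvd_card_of_isPGroup_ne_bot hXp hX1).trans
      (Subgroup.card_subgroup_dvd_card X)
  have hp2 : p ≠ 2 := by
    rintro rfl
    exact (Nat.not_even_iff_odd.mpr hG.1) (even_iff_two_dvd.mpr hpG)
  have hrP₂ : ¬ PRankLE p 2 ↥P₂ := by
    intro h
    apply hr
    have h1 := Cfsg.Agent.Lib.Helper22_Uniq.pRankLE_of_sylow hS₂.1 h
    exact Cfsg.Agent.Lib.Helper2_PRank.pRankLE_of_injective' p 2
      (Subgroup.topEquiv (G := G)).symm.toMonoidHom (Subgroup.topEquiv (G := G)).symm.injective h1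
  obtain ⟨A₃, hscn, hA₃r⟩ := Cfsg.Agent.Lib.Helper22_Uniq.exists_scn3 hp2 hP₂p hrP₂
  obtain ⟨B, hBA, -, hBe, hBcard⟩ := Cfsg.Agent.Lib.Helper22_Uniq.exists_elemAb_of_not_pRankLE hA₃r
  have hA₃c : IsMulCommutative ↥A₃ := Cfsg.Agent.Lib.Helper22_Uniq.isMulCommutative_of_isSCN hscn
  set E := omega1 p A₃ hA₃c with hE
  have hEA : E ≤ A₃ := fun a ha => ha.1
  have hEP₂ : E ≤ P₂ := hEA.trans hscn.1
  have hBE : B ≤ E := fun b hb => ⟨hBA hb, hBe b hb⟩
  have hEcard : p ^ 2 < Nat.card E := hBcard.trans_le (Subgroup.card_le_of_le hBE)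
  have hEc : ∀ a ∈ E, ∀ b ∈ E, a * b = b * a := by
    intro a ha b hb
    have := hA₃c.is_comm.comm (⟨a, ha.1⟩ : ↥A₃) ⟨b, hb.1⟩
    exact congrArg Subtype.val this
  have hEe : ∀ a ∈ E, a ^ p = 1 := fun a ha => ha.2
  have hP₂E : P₂ ≤ normalizer (E : Set G) := by
    apply Cfsg.Agent.Lib.Helper22_BGTransUp.le_normalizer_of_conj_mem
    intro g hg x hx
    refine ⟨(mem_normalizer_iff.mp (hscn.2.1 hg) x).mp hx.1, ?_⟩
    rw [conj_pow, hx.2, mul_one, mul_inv_cancel]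
  -- a central element of `P₂` in `E`
  have hE1 : E ≠ ⊥ := by
    intro h
    rw [h, Subgroup.card_bot] at hEcard
    have : 1 ≤ p ^ 2 := Nat.one_le_pow _ _ hpp.pos
    omega
  have hEn : (E.subgroupOf P₂).Normal := (Subgroup.normal_subgroupOf_iff_le_normalizer hEP₂).mpr hP₂E
  have hE1' : E.subgroupOf P₂ ≠ ⊥ := by
    intro h
    apply hE1
    rw [eq_bot_iff]
    intro x hx
    have : (⟨x, hEP₂ hx⟩ : ↥P₂) ∈ E.subgroupOf P₂ := mem_subgroupOf.mpr hx
    rw [h, Subgroup.mem_bot] at this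
    exact congrArg Subtype.val this
  obtain ⟨z, hzE, hzc, hz1⟩ :=
    Cfsg.Agent.Lib.Helper32_PGroup.exists_mem_center_of_normal hP₂p (E.subgroupOf P₂) hE1'
  have hzE' : (z : G) ∈ E := mem_subgroupOf.mp hzE
  have hzX : (z : G) ∈ X := by
    apply hCP₂
    refine Subgroup.mem_inf.mpr ⟨?_, z.2⟩
    rw [mem_centralizer_iff]
    intro x hx
    have := Subgroup.mem_center_iff.mp hzc ⟨x, hTP₂ (hXT hx)⟩
    exact congrArg Subtype.val this
  have hz1' : (z : G) ≠ 1 := fun h => hz1 (Subtype.ext h)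
  -- `K = N_E(X)`
  set K := E ⊓ normalizer (X : Set G) with hK
  have hKE : K ≤ E := inf_le_left
  have hKM : K ≤ M := hKE.trans (hEP₂.trans hS₂.2.1)
  have hKtop : K ≠ ⊤ := by
    intro h
    apply hM.1
    rw [eq_top_iff, ← h]
    exact hKM
  have hzK : (z : G) ∈ K := Subgroup.mem_inf.mpr ⟨hzE', le_normalizer hzX⟩
  have hKcard : p ^ 1 < Nat.card K := by
    rw [pow_one]
    by_cases hEX : E ≤ X
    · have h1 : E ≤ K := le_inf le_rfl (hEX.trans le_normalizer)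
      have h2 : p < p ^ 2 := by nlinarith [hpp.one_lt]
      have h3 := Subgroup.card_le_of_le h1
      omega
    · have hQp : IsPGroup p ↥(E ⊔ X) := hP₂p.to_le (sup_le hEP₂ (hXT.trans hTP₂))
      have hne : ¬ E ⊔ X ≤ X := fun h => hEX (le_sup_left.trans h)
      have hgrow := normalizer_growth hpp hQp (le_sup_right : X ≤ E ⊔ X) hne
      obtain ⟨y, hy, hyX⟩ := SetLike.not_le_iff_exists.mp hgrow
      obtain ⟨hyN, hyQ⟩ := Subgroup.mem_inf.mp hy
      obtain ⟨e, he, x, hx, rfl⟩ := Cfsg.Agent.Lib.Helper24_CoprimeAction.exists_mul_of_mem_sup X E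
        ((hXT.trans hTP₂).trans hP₂E) hyQ
      have heN : e ∈ normalizer (X : Set G) := by
        have h1 := (normalizer (X : Set G)).mul_mem hyN (inv_mem (le_normalizer hx))
        simpa using h1
      have heX : e ∉ X := fun h => hyX (X.mul_mem h hx)
      have heK : e ∈ K := Subgroup.mem_inf.mpr ⟨he, heN⟩
      have hzle : Subgroup.zpowers (z : G) ≤ K := (Subgroup.zpowers_le).mpr hzK
      have hne2 : ¬ K ≤ Subgroup.zpowers (z : G) := by
        intro h
        apply heX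
        exact ((Subgroup.zpowers_le).mpr hzX) (h heK)
      have hlt := card_lt_card_of_lt hzle hne2
      have hord : orderOf (z : G) = p := orderOf_eq_prime (hEe _ hzE') hz1'
      rw [Nat.card_zpowers, hord] at hlt
      exact hlt
  have hK2 : ¬ RankLE 1 ↥K :=
    Cfsg.Agent.Lib.Helper22_Uniq.not_rankLE_of_elemAb hpp (E := K) le_rfl
      (fun a ha b hb => hEc a (hKE ha) b (hKE hb)) (fun a ha => hEe a (hKE ha)) hKcard
  have hK3 : ¬ RankLE 2 ↥(centralizer (K : Set G)) := by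
    apply Cfsg.Agent.Lib.Helper22_Uniq.not_rankLE_of_elemAb hpp (E := E) ?_ hEc hEe hEcard
    intro e he
    rw [mem_centralizer_iff]
    intro k hk
    exact hEc k (hKE hk) e he
  have hUK := hU K hKtop hK2 (Or.inr hK3)
  have hXtop : X ≠ ⊤ := ne_top_of_isPGroup hG hpp hXp
  have hNtop : normalizer (X : Set G) ≠ ⊤ := normalizer_ne_top hG hX1 hXtop
  obtain ⟨L, hL, hNL⟩ := (eq_top_or_exists_le_coatom _).resolve_left hNtop
  have hLM : L = M := hUK.unique ⟨hL, inf_le_right.trans hNL⟩ ⟨hM, hKM⟩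
  rw [← hLM]
  exact hNL

/-- the step for `N_G(X) = N_M(X) C_G(X)` -/
theorem fusB_step (hG : IsMinSimpleOddOrder G) (hU : UniqHyp G) {M : Subgroup G} (hM : IsCoatom M)
    {P₁ X : Subgroup G} (hS₁ : SylM p M P₁) (hXp : IsPGroup p X) (hX1 : X ≠ ⊥) (hXP₁ : X ≤ P₁)
    (ihA : ∀ Y : Subgroup G, IsPGroup p Y → Y ≤ M → Nat.card X < Nat.card Y → FusA M Y)
    (ihB : ∀ Y : Subgroup G, IsPGroup p Y → Y ≤ M → Nat.card X < Nat.card Y → FusB M Y) :
    FusB M X := by
  have hpp := hp.out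
  by_cases hPX : P₁ ≤ X
  · have hX : X = P₁ := le_antisymm hXP₁ hPX
    apply fusB_of_normalizer_le
    rw [hX]
    exact hS₁.2.2
  obtain ⟨T, hT, hTM, hXT, hcardT⟩ := exists_sylow_normalizer_le hS₁ hXP₁ hPX ihA
  have hXtop : X ≠ ⊤ := ne_top_of_isPGroup hG hpp hXp
  have hNtop : normalizer (X : Set G) ≠ ⊤ := normalizer_ne_top hG hX1 hXtop
  have hNs : Group.IsSolvable ↥(normalizer (X : Set G)) := hG.2.2.2 _ hNtop
  have hNodd : Odd (Nat.card ↥(normalizer (X : Set G))) :=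
    Cfsg.Agent.Lib.Helper49_MaxSub.odd_card_subgroup hG _
  have hTp := hT.isPGroup
  have hT1 : T ≠ ⊥ := fun h => hX1 (le_bot_iff.mp (h ▸ hXT))
  have hCT : centralizer (T : Set G) ≤ centralizer (X : Set G) := Subgroup.centralizer_le hXT
  by_cases hr : PRankLE p 2 G
  · -- small rank: `p`-length one
    have hrN : PRankLE p 2 ↥(normalizer (X : Set G)) :=
      Cfsg.Agent.Lib.Helper2_PRank.pRankLE_of_injective' p 2 (normalizer (X : Set G)).subtype
        (Subgroup.subtype_injective _) hr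
    have hfr := Cfsg.Agent.Lib.Helper22_Uniq.le_opp_sup_normalizer_of_pRankLE hNs hNodd hT hT1 hrN
    intro n hn
    obtain ⟨w, hw, n₁, hn₁, rfl⟩ := Cfsg.Agent.Lib.Helper24_CoprimeAction.exists_mul_of_mem_sup
      (normalizer (X : Set G) ⊓ normalizer (T : Set G))
      (Cfsg.Agent.Lib.Helper22_Uniq.opp p (normalizer (X : Set G)))
      (inf_le_left.trans (Cfsg.Agent.Lib.Helper22_Uniq.le_normalizer_opp p _)) (hfr hn)
    have hwC : w ∈ centralizer (X : Set G) := by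
      rw [mem_centralizer_iff]
      intro x hx
      exact Cfsg.Agent.Lib.Helper49_MaxSub.commute_of_normalize
        (le_normalizer.trans (Cfsg.Agent.Lib.Helper22_Uniq.le_normalizer_opp p _))
        (Cfsg.Agent.Lib.Helper22_Uniq.opp_le p _)
        (fun c hc1 hc2 => Cfsg.Agent.Lib.Helper49_MaxSub.eq_one_of_mem_of_mem_coprime hXp
          (Cfsg.Agent.Lib.Helper22_Uniq.opp_coprime p _) hc1 hc2) x hx w hw
    obtain ⟨hn₁N, hn₁T⟩ := Subgroup.mem_inf.mp hn₁
    obtain ⟨m₁, hm₁, c₁, hc₁, rfl⟩ := ihB T hTp hTM hcardT n₁ hn₁T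
    have hc₁X := hCT hc₁
    have hm₁N : m₁ ∈ normalizer (X : Set G) := by
      have h2 : c₁ ∈ normalizer (X : Set G) := Subgroup.centralizer_le_normalizer _ hc₁X
      have := (normalizer (X : Set G)).mul_mem hn₁N (inv_mem h2)
      simpa using this
    obtain ⟨m', hm', c', hc', e⟩ :=
      fusB_mul hwC (Subgroup.mem_inf.mpr ⟨(Subgroup.mem_inf.mp hm₁).1, hm₁N⟩) hc₁X
    exact ⟨m', hm', c', hc', by rw [← e]; group⟩
  · -- large rank
    by_cases hD : T ⊓ centralizer (X : Set G) ≤ X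
    · exact fusB_of_normalizer_le
        (normalizer_le_of_self_centralizing hG hU hM hS₁ hX1 hT hTM hXT hD hr)
    · intro n hn
      obtain ⟨c, hc, n₁, hn₁, rfl⟩ := frattini_rel_inf hT (Subgroup.centralizer_le_normalizer _)
        (Cfsg.Agent.Lib.Helper22_BGTransUp.normalizer_le_normalizer_centralizer X) hn
      obtain ⟨hn₁N, hn₁TC⟩ := Subgroup.mem_inf.mp hn₁
      have hDT : X ⊔ (T ⊓ centralizer (X : Set G)) ≤ T := sup_le hXT inf_le_left
      have hDp : IsPGroup p ↥(X ⊔ (T ⊓ centralizer (X : Set G))) := hTp.to_le hDT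
      have hcardD : Nat.card X < Nat.card ↥(X ⊔ (T ⊓ centralizer (X : Set G))) :=
        card_lt_card_of_lt le_sup_left (fun h => hD (le_sup_right.trans h))
      have hn₁D : n₁ ∈ normalizer ((X ⊔ (T ⊓ centralizer (X : Set G)) : Subgroup G) : Set G) :=
        mem_normalizer_sup hn₁N hn₁TC
      obtain ⟨m₁, hm₁, c₁, hc₁, rfl⟩ := ihB _ hDp (hDT.trans hTM) hcardD n₁ hn₁D
      have hXD : X ≤ X ⊔ (T ⊓ centralizer (X : Set G)) := le_sup_left
      have hc₁X : c₁ ∈ centralizer (X : Set G) := Subgroup.centralizer_le hXD hc₁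
      have hm₁N : m₁ ∈ normalizer (X : Set G) := by
        have h2 : c₁ ∈ normalizer (X : Set G) := Subgroup.centralizer_le_normalizer _ hc₁X
        have := (normalizer (X : Set G)).mul_mem hn₁N (inv_mem h2)
        simpa using this
      obtain ⟨m', hm', c', hc', e⟩ :=
        fusB_mul hc (Subgroup.mem_inf.mpr ⟨(Subgroup.mem_inf.mp hm₁).1, hm₁N⟩) hc₁X
      exact ⟨m', hm', c', hc', by rw [← e]; group⟩

/-- the step for the fusion statement -/
theorem fusA_step {M P₁ X : Subgroup G} (hS₁ : SylM p M P₁) (hXp : IsPGroup p X) (hXP₁ : X ≤ P₁)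
    (ihA : ∀ Y : Subgroup G, IsPGroup p Y → Y ≤ M → Nat.card X < Nat.card Y → FusA M Y)
    (hB : FusB M X) : FusA M X := by
  have hpp := hp.out
  intro g hg
  have hX₁p : IsPGroup p ↥(cj g X) := hXp.map _
  obtain ⟨P₂, hS₂, hX₁P₂⟩ := exists_sylM_ge hS₁ hX₁p hg
  by_cases hPX : P₁ ≤ X
  · have hX : X = P₁ := le_antisymm hXP₁ hPX
    have e1 : cj g P₁ = P₂ := by
      apply Subgroup.eq_of_le_of_card_ge (hX ▸ hX₁P₂)
      rw [card_cj]
      exact (card_sylM hS₂ hS₁).le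
    have hP₂M : IsSylowIn p P₂ M := hS₂.1.mono hS₂.2.1 le_top
    obtain ⟨m, hm, hmP⟩ := hP₂M.exists_conj_le hS₁.2.1 hS₁.1.isPGroup
    have e2 : cj m P₁ = P₂ := by
      apply Subgroup.eq_of_le_of_card_ge
      · rintro _ ⟨x, hx, rfl⟩
        exact hmP x hx
      · rw [card_cj]
        exact (card_sylM hS₂ hS₁).le
    have h3 : cj (m⁻¹ * g) P₁ = P₁ := by rw [cj_mul, e1, ← e2, cj_inv_cj]
    have hmem : m⁻¹ * g ∈ M :=
      hS₁.2.2 (Cfsg.Agent.Lib.Helper22_BGTransUp.mem_normalizer_of_cj_eq h3)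
    refine ⟨g, ?_, 1, one_mem _, (mul_one g).symm⟩
    have := M.mul_mem hm hmem
    simpa using this
  · obtain ⟨T, hT, hTM, hXT, hcardT⟩ := exists_sylow_normalizer_le hS₁ hXP₁ hPX ihA
    have hcardX₁ : Nat.card ↥(cj g X) = Nat.card X := card_cj g X
    have hP₂X₁ : ¬ P₂ ≤ cj g X := by
      intro h
      have h1 := Subgroup.card_le_of_le h
      have h3 := card_le_sylM hS₂ hT.isPGroup
      omega
    have hX₁Y₁ : cj g X ≤ normalizer ((cj g X : Subgroup G) : Set G) ⊓ P₂ :=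
      le_inf le_normalizer hX₁P₂
    have hY₁X₁ := normalizer_growth hpp hS₂.1.isPGroup hX₁P₂ hP₂X₁
    have hY₁p : IsPGroup p ↥(normalizer ((cj g X : Subgroup G) : Set G) ⊓ P₂) :=
      hS₂.1.isPGroup.to_le inf_le_right
    have hcardY₁ := card_lt_card_of_lt hX₁Y₁ hY₁X₁
    have h1 : cj g⁻¹ (normalizer ((cj g X : Subgroup G) : Set G) ⊓ P₂) ≤ normalizer (X : Set G) := by
      have h := cj_mono (k := g⁻¹)
        (inf_le_left : normalizer ((cj g X : Subgroup G) : Set G) ⊓ P₂ ≤ normalizer ((cj g X : Subgroup G) : Set G))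
      rwa [← normalizer_cj, cj_inv_cj] at h
    obtain ⟨n, hn, hnT⟩ := hT.exists_conj_le h1 (hY₁p.map _)
    have h2 : cj (n * g⁻¹) (normalizer ((cj g X : Subgroup G) : Set G) ⊓ P₂) ≤ M := by
      rw [cj_mul]
      rintro _ ⟨x, hx, rfl⟩
      exact hTM (hnT x hx)
    obtain ⟨m, hm, c₁, hc₁, e⟩ := ihA _ hY₁p (inf_le_right.trans hS₂.2.1) (by omega) (n * g⁻¹) h2
    have hc₁X₁ : c₁ ∈ centralizer ((cj g X : Subgroup G) : Set G) := Subgroup.centralizer_le hX₁Y₁ hc₁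
    have hc₂ : g⁻¹ * c₁ * g ∈ centralizer (X : Set G) := mem_centralizer_conj hc₁X₁
    obtain ⟨m', hm', c', hc', en⟩ := hB n hn
    refine ⟨m⁻¹ * m', mul_mem (inv_mem hm) (Subgroup.mem_inf.mp hm').1, c' * (g⁻¹ * c₁ * g)⁻¹,
      mul_mem hc' (inv_mem hc₂), ?_⟩
    have e' : m' * c' * g⁻¹ = m * c₁ := by rw [← en]; exact e
    calc g = m⁻¹ * (m * c₁) * c₁⁻¹ * g := by group
      _ = m⁻¹ * (m' * c' * g⁻¹) * c₁⁻¹ * g := by rw [e']
      _ = m⁻¹ * m' * (c' * (g⁻¹ * c₁ * g)⁻¹) := by group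

/-- **Bender–Glauberman, Theorem 10.1** (with the Uniqueness Theorem as a hypothesis). -/
theorem fusion (hG : IsMinSimpleOddOrder G) (hU : UniqHyp G) {M : Subgroup G} (hM : IsCoatom M)
    {P : Subgroup G} (hS : SylM p M P) {X : Subgroup G} (hXp : IsPGroup p X) (hX1 : X ≠ ⊥)
    (hXM : X ≤ M) : FusA M X ∧ FusB M X := by
  have key : ∀ k : ℕ, ∀ X : Subgroup G, IsPGroup p X → X ≠ ⊥ → X ≤ M →
      Nat.card P - Nat.card X = k → FusA M X ∧ FusB M X := by
    intro k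
    induction k using Nat.strong_induction_on with
    | _ k ih =>
      intro X hXp hX1 hXM hk
      have ihAB : ∀ Y : Subgroup G, IsPGroup p Y → Y ≤ M → Nat.card X < Nat.card Y →
          FusA M Y ∧ FusB M Y := by
        intro Y hYp hYM hlt
        have hYle := card_le_sylM hS hYp
        have hY1 : Y ≠ ⊥ := by
          rintro rfl
          rw [Subgroup.card_bot] at hlt
          have : 0 < Nat.card X := Nat.card_pos
          omega
        exact ih (Nat.card P - Nat.card Y) (by omega) Y hYp hY1 hYM rfl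
      obtain ⟨P₁, hS₁, hXP₁⟩ := exists_sylM_ge hS hXp hXM
      have hB : FusB M X := fusB_step hG hU hM hS₁ hXp hX1 hXP₁
        (fun Y h1 h2 h3 => (ihAB Y h1 h2 h3).1) (fun Y h1 h2 h3 => (ihAB Y h1 h2 h3).2)
      exact ⟨fusA_step hS₁ hXp hXP₁ (fun Y h1 h2 h3 => (ihAB Y h1 h2 h3).1) hB, hB⟩
  exact key _ X hXp hX1 hXM rfl

/-- from `p ∈ σ(M)` to a good Sylow subgroup -/
theorem exists_sylM_of_mem_sigma {M : Subgroup G} (h : p ∈ sigma M) : ∃ P, SylM p M P := by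
  obtain ⟨-, -, P, hP⟩ := h
  have h1 : IsSylowIn p ((P : Subgroup ↥M).map M.subtype) M := isSylowIn_of_sylow P
  obtain ⟨S, hS⟩ := Cfsg.Agent.Lib.Helper22_Uniq.exists_sylow_eq_of_normalizer_le h1 hP
  refine ⟨(P : Subgroup ↥M).map M.subtype, ?_, h1.le, hP⟩
  rw [← hS]
  exact isSylowIn_top S

/-- the statement of Bender–Glauberman Theorem 10.1, from the Uniqueness Theorem -/
theorem sigma_fusion_statement (hG : IsMinSimpleOddOrder G) (hU : UniqHyp G) (M : Subgroup G)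
    (hM : IsCoatom M) (hpσ : p ∈ sigma M) (X : Subgroup G) (hXp : IsPGroup p X) (hX1 : X ≠ ⊥)
    (hXM : X ≤ M) :
    (∀ g : G, X.map (MulAut.conj g).toMonoidHom ≤ M →
        ∃ m ∈ M, ∃ c ∈ Subgroup.centralizer (X : Set G), g = m * c) ∧
      Subgroup.normalizer (X : Set G) =
        (M ⊓ Subgroup.normalizer (X : Set G)) ⊔ Subgroup.centralizer (X : Set G) := by
  obtain ⟨P, hS⟩ := exists_sylM_of_mem_sigma hpσ
  obtain ⟨hA, hB⟩ := fusion hG hU hM hS hXp hX1 hXM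
  refine ⟨hA, le_antisymm ?_ (sup_le inf_le_right (Subgroup.centralizer_le_normalizer _))⟩
  intro n hn
  obtain ⟨m, hm, c, hc, rfl⟩ := hB n hn
  exact mul_mem (Subgroup.mem_sup_left hm) (Subgroup.mem_sup_right hc)

end Finite

end Cfsg.Agent.Lib.Helper49_Sigma
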