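import Mathlib
import Cfsg.Prelude.Def_OddOrderLocal
import Cfsg.Agent.S1396
import Cfsg.Agent.Lib.Helper70_BG1012
import Cfsg.Agent.Lib.Helper24_CoprimeHall

set_option autoImplicit false
open Cfsg

/-!
# Bender–Glauberman, Section 11 (exceptional maximal subgroups), part a  (helper35)

`M` is a maximal subgroup of a minimal simple group `G` of odd order, `p ∉ σ(M)`, `A ≤ M` is
elementary abelian of order `p ^ 2` and `A₀ ≤ A` has order `p` with `N_G(A₀) ≤ M`.
The Uniqueness Theorem (`UniqHyp G`) and S1444 (`H1444`) are explicit hypotheses.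

* general facts on `M_σ` (it contains every `σ(M)`-subgroup of `M`, its Sylow subgroups are Sylow in `G`);
* `Exc`: the exceptional hypothesis and its first consequences (rank two, `A` maximal elementary abelian,
  transitivity hypothesis, `C_G(A) ≤ M`);
* Lemma 11.1 (`no_common_overgroup`) and Corollary 11.2 (`sigmaCore_inf_cj_eq_bot`).
-/

namespace Cfsg.Agent.Lib.Helper35_BG11a

open Subgroup Cfsg.Agent.Lib.Helper22_Radical Cfsg.Agent.Lib.Helper22_BGTrans
  Cfsg.Agent.Lib.Helper22_Uniq Cfsg.Agent.Lib.Helper84_RelSylow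
  Cfsg.Agent.Lib.Helper49_Sigma Cfsg.Agent.Lib.Helper49_Alpha Cfsg.Agent.Lib.Helper49_Alpha2
  Cfsg.Agent.Lib.Helper49_Alpha3
  Cfsg.Agent.Lib.Helper70_BG106 Cfsg.Agent.Lib.Helper70_BG1212 Cfsg.Agent.Lib.Helper70_BG1012
  Cfsg.Agent.Lib.Helper24_CoprimeHall

universe u

variable {G : Type u} [Group G] [Finite G]

/-! ### General facts on `M_σ` -/

omit [Finite G] in
theorem sigmaCore_le (M : Subgroup G) : sigmaCore M ≤ M := Subgroup.map_subtype_le _

omit [Finite G] in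
theorem le_normalizer_sigmaCore (M : Subgroup G) :
    M ≤ normalizer ((sigmaCore M : Subgroup G) : Set G) := by
  have h1 := Subgroup.le_normalizer_map (H := piCore (sigma M) ↥M) M.subtype
  rw [Subgroup.normalizer_eq_top_iff.mpr inferInstance, ← MonoidHom.range_eq_map,
    Subgroup.range_subtype] at h1
  exact h1

omit [Finite G] in
theorem cj_sigmaCore_of_mem {M : Subgroup G} {m : G} (hm : m ∈ M) : cj m (sigmaCore M) = sigmaCore M :=
  cj_eq_of_mem_normalizer (le_normalizer_sigmaCore M hm)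

/-- a Sylow `q`-subgroup of `M` with normalizer in `M` lies in `M_σ` -/
theorem sylM_le_sigmaCore (hG : IsMinSimpleOddOrder G) (hU : UniqHyp G) (h44 : H1444.{u})
    {M : Subgroup G} (hM : IsCoatom M) {q : ℕ} [Fact q.Prime] (hq : q ∈ sigma M) {P : Subgroup G}
    (hS : SylM q M P) : P ≤ sigmaCore M := by
  have hqq : q.Prime := Fact.out
  have h1 : P.subgroupOf M ≤ piCore (sigma M) ↥M := by
    apply le_of_coprime_index
    rw [Cfsg.Agent.Lib.Helper1_Transport.card_subgroupOf hS.2.1]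
    obtain ⟨k, hk⟩ := IsPGroup.iff_card.mp hS.1.isPGroup
    rw [hk]
    apply Nat.Coprime.pow_left
    rw [Nat.Prime.coprime_iff_not_dvd hqq]
    exact not_dvd_index_piCore_sigma hG hU h44 M hM hq
  rw [← Subgroup.map_subgroupOf_eq_of_le hS.2.1]
  exact Subgroup.map_mono h1

/-- every `q`-subgroup of `M`, `q ∈ σ(M)`, lies in `M_σ` -/
theorem le_sigmaCore_of_isPGroup (hG : IsMinSimpleOddOrder G) (hU : UniqHyp G) (h44 : H1444.{u})
    {M : Subgroup G} (hM : IsCoatom M) {q : ℕ} [Fact q.Prime] (hq : q ∈ sigma M) {T : Subgroup G}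
    (hT : IsPGroup q T) (hTM : T ≤ M) : T ≤ sigmaCore M := by
  obtain ⟨P, hS⟩ := exists_sylM_of_mem_sigma hq
  obtain ⟨P', hS', hTP'⟩ := exists_sylM_ge hS hT hTM
  exact hTP'.trans (sylM_le_sigmaCore hG hU h44 hM hq hS')

/-- a nontrivial Sylow `q`-subgroup of `M_σ` is a Sylow `q`-subgroup of `G` inside `M` whose normalizer
lies in `M` -/
theorem sylM_of_piHall (hG : IsMinSimpleOddOrder G) (hU : UniqHyp G) (h44 : H1444.{u})
    {M : Subgroup G} (hM : IsCoatom M) {q : ℕ} [Fact q.Prime] {Q : Subgroup G}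
    (hQ : PiHall {q} Q (sigmaCore M)) (hQ1 : Q ≠ ⊥) : q ∈ sigma M ∧ SylM q M Q := by
  have hqq : q.Prime := Fact.out
  have hQq : IsPGroup q Q := isPGroup_of_primes hqq hQ.2.1
  have hqd : q ∣ Nat.card Q := by
    obtain ⟨k, hk⟩ := IsPGroup.iff_card.mp hQq
    have hk0 : k ≠ 0 := by
      rintro rfl
      rw [pow_zero] at hk
      exact hQ1 ((Subgroup.card_eq_one).mp hk)
    rw [hk]
    exact dvd_pow_self q hk0
  have hq : q ∈ sigma M :=
    card_sigmaCore_mem M q hqq (hqd.trans (Subgroup.card_dvd_of_le hQ.1))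
  refine ⟨hq, ?_⟩
  obtain ⟨P, hS⟩ := exists_sylM_of_mem_sigma hq
  obtain ⟨P', hS', hQP'⟩ := exists_sylM_ge hS hQq (hQ.1.trans (sigmaCore_le M))
  have hP'σ : P' ≤ sigmaCore M := sylM_le_sigmaCore hG hU h44 hM hq hS'
  have hdvd : Nat.card P' ∣ Nat.card Q :=
    hQ.card_dvd hP'σ (primes_of_isPGroup hqq hS'.1.isPGroup)
  have hle : Nat.card P' ≤ Nat.card Q := Nat.le_of_dvd Nat.card_pos hdvd
  have heq : Q = P' := Subgroup.eq_of_le_of_card_ge hQP' hle
  rw [heq]
  exact hS'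

/-! ### The exceptional hypothesis -/

/-- Hypothesis 11.1 of Bender–Glauberman: `M` maximal, `p ∉ σ(M)`, `A ≤ M` elementary abelian of order
`p ^ 2`, `A₀ ≤ A` of order `p` with `N_G(A₀) ≤ M`. -/
structure Exc (M : Subgroup G) (p : ℕ) (A A₀ : Subgroup G) : Prop where
  coatom : IsCoatom M
  not_sigma : p ∉ sigma M
  le : A ≤ M
  elem : IsElementaryAbelian p A
  card : Nat.card A = p ^ 2
  le₀ : A₀ ≤ A
  card₀ : Nat.card A₀ = p
  norm₀ : normalizer (A₀ : Set G) ≤ M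

namespace Exc

variable {M A A₀ : Subgroup G} {p : ℕ} [hp : Fact p.Prime]

omit [Finite G] hp in
theorem comm (h : Exc M p A A₀) : ∀ a ∈ A, ∀ b ∈ A, a * b = b * a :=
  comm_of_isElementaryAbelian h.elem

omit [Finite G] hp in
theorem exp (h : Exc M p A A₀) : ∀ a ∈ A, a ^ p = 1 := h.elem.2

omit [Finite G] hp in
theorem isPGroup (h : Exc M p A A₀) : IsPGroup p A := isPGroup_of_exp h.exp

omit [Finite G] in
theorem ne_bot (h : Exc M p A A₀) : A ≠ ⊥ := by
  intro hbot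
  have h1 := h.card
  rw [hbot, Subgroup.card_bot] at h1
  have := hp.out.one_lt
  nlinarith

omit [Finite G] in
theorem not_rank_one (h : Exc M p A A₀) : ¬ PRankLE p 1 ↥M := by
  apply not_pRankLE_of_elemAb h.le h.comm h.exp
  rw [h.card]
  have := hp.out.one_lt
  nlinarith

theorem rank_two (hG : IsMinSimpleOddOrder G) (hU : UniqHyp G) (h : Exc M p A A₀) :
    PRankLE p 2 ↥M := by
  by_contra hr
  exact h.not_sigma (mem_sigma_of_mem_alpha hG hU h.coatom ⟨hp.out, hr⟩)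

/-- `A` is maximal among the elementary abelian `p`-subgroups of `G` -/
theorem maximal (hG : IsMinSimpleOddOrder G) (hU : UniqHyp G) (h : Exc M p A A₀) :
    ∀ B : Subgroup G, IsElementaryAbelian p B → A ≤ B → B = A :=
  (rank_two_statement hG hU M h.coatom (h.rank_two hG hU) h.not_rank_one).2 A h.le h.elem h.card

/-- every element of order dividing `p` centralizing `A` lies in `A` -/
theorem mem_of_centralizes (hG : IsMinSimpleOddOrder G) (hU : UniqHyp G) (h : Exc M p A A₀)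
    {x : G} (hx : x ∈ centralizer (A : Set G)) (hxp : x ^ p = 1) : x ∈ A := by
  have hB : IsElementaryAbelian p (A ⊔ zpowers x) := by
    have h1 := elemAb_sup (p := p) h.comm h.exp (elemAb_zpowers hxp).1 (elemAb_zpowers hxp).2 (by
      intro a ha b hb
      obtain ⟨j, rfl⟩ := mem_zpowers_iff.mp hb
      have h1 : Commute x a := (mem_centralizer_iff.mp hx a ha).symm
      exact (h1.zpow_left j).symm.eq)
    exact isElementaryAbelian_of h1.1 h1.2
  have := h.maximal hG hU _ hB le_sup_left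
  rw [← this]
  exact mem_sup_right (mem_zpowers x)

/-- `A` satisfies the transitivity hypothesis -/
theorem transitivity (hG : IsMinSimpleOddOrder G) (hU : UniqHyp G) (h44 : H1444.{u})
    (h : Exc M p A A₀) : TransitivityHypothesis A := by
  apply Cfsg.Agent.S1396.result hG p (dvd_card_of_ne_bot h.isPGroup h.ne_bot) A h.isPGroup h.elem.1
  refine Or.inl ⟨fun x hx => ⟨fun hxp => h.mem_of_centralizes hG hU hx hxp, fun hxA => h.exp x hxA⟩, ?_⟩
  intro H hH
  exact plen_one hG hU h44 p H hH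

omit [Finite G] hp in
/-- `C_G(A) ≤ M` -/
theorem centralizer_le (h : Exc M p A A₀) : centralizer (A : Set G) ≤ M :=
  ((Subgroup.centralizer_le (by exact_mod_cast h.le₀ : (A₀ : Set G) ⊆ A)).trans
    (centralizer_le_normalizer _)).trans h.norm₀

omit [Finite G] hp in
theorem kOf_le (h : Exc M p A A₀) : kOf A ≤ M := (kOf_le_centralizer A).trans h.centralizer_le

end Exc

/-! ### Lemma 11.1 -/

omit [Finite G] in
theorem piHall_cj {π : Set ℕ} {H K : Subgroup G} (h : PiHall π H K) (a : G) :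
    PiHall π (cj a H) (cj a K) := by
  refine ⟨cj_mono h.1, ?_, ?_⟩
  · rw [card_cj]; exact h.2.1
  · rw [card_cj, card_cj]; exact h.2.2

/-- **Bender–Glauberman, Lemma 11.1** (general form): for `g ∉ M` with `A ≤ gMg⁻¹`, no proper subgroup
containing `A` meets both an `A`-invariant Sylow `q`-subgroup of `M_σ` and one of `(gMg⁻¹)_σ`. -/
theorem no_common_overgroup (hG : IsMinSimpleOddOrder G) (hU : UniqHyp G) (h44 : H1444.{u})
    {M A A₀ : Subgroup G} {p : ℕ} [hp : Fact p.Prime] (h : Exc M p A A₀) {g : G} (hg : g ∉ M)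
    (_hAg : A ≤ cj g M) {q : ℕ} [hq : Fact q.Prime] {Q₁ Q₂ : Subgroup G}
    (hQ₁ : PiHall {q} Q₁ (sigmaCore M)) (hAQ₁ : A ≤ normalizer (Q₁ : Set G))
    (hQ₂ : PiHall {q} Q₂ (cj g (sigmaCore M))) (hAQ₂ : A ≤ normalizer (Q₂ : Set G))
    (hne : Q₁ ≠ ⊥) {H : Subgroup G} (hH : H ≠ ⊤) (hAH : A ≤ H) :
    H ⊓ Q₁ = ⊥ ∨ H ⊓ Q₂ = ⊥ := by
  by_contra hcon
  push Not at hcon
  obtain ⟨hH₁, hH₂⟩ := hcon
  have hqq : q.Prime := hq.out
  have hM := h.coatom
  obtain ⟨hqσ, hS₁⟩ := sylM_of_piHall hG hU h44 hM hQ₁ hne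
  -- the conjugate of `Q₂` back into `M_σ`
  set Q₁' : Subgroup G := cj g⁻¹ Q₂ with hQ₁'
  have hQ₁'H : PiHall {q} Q₁' (sigmaCore M) := by
    have := piHall_cj hQ₂ g⁻¹
    rwa [cj_inv_cj] at this
  have hcard : Nat.card Q₁' = Nat.card Q₁ := hQ₁'H.card_eq hQ₁
  have hne' : Q₁' ≠ ⊥ := by
    intro hbot
    rw [hbot, Subgroup.card_bot] at hcard
    exact hne ((Subgroup.card_eq_one).mp hcard.symm)
  obtain ⟨-, hS₁'⟩ := sylM_of_piHall hG hU h44 hM hQ₁'H hne'
  have hQ₂eq : cj g Q₁' = Q₂ := by rw [hQ₁', cj_cj_inv]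
  have hS₂ : IsSylowIn q Q₂ ⊤ := by
    have := hS₁'.1.conj g
    rw [Subgroup.map_top_of_surjective _ (MulAut.conj g).surjective] at this
    rwa [← hQ₂eq]
  -- `q ≠ p`
  have hqp : ¬ q ∣ Nat.card A := by
    rw [h.card]
    intro hd
    have := (Nat.prime_dvd_prime_iff_eq hqq hp.out).mp (hqq.dvd_of_dvd_pow hd)
    exact h.not_sigma (this ▸ hqσ)
  -- maximality
  have hmax : ∀ Q : Subgroup G, IsSylowIn q Q ⊤ → A ≤ normalizer (Q : Set G) →
      Q ∈ maxInvSubgroups ⊤ A {q} := by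
    intro Q hQ hAQ
    refine ⟨(mem_invSubgroups_top hqq).mpr ⟨hQ.isPGroup, hAQ⟩, ?_⟩
    intro R hR hle
    exact hQ.eq_of_le hle le_top ((mem_invSubgroups_top hqq).mp hR).1
  have hTH := h.transitivity hG hU h44
  obtain ⟨k, hk, hkQ⟩ := conj_of_common_overgroup hG hTH hqq hqp (hmax Q₁ hS₁.1 hAQ₁)
    (hmax Q₂ hS₂ hAQ₂) hH hAH hH₁ hH₂
  have hkM : k ∈ M := h.kOf_le hk
  have hQ₂M : Q₂ ≤ M := by
    rw [hkQ]
    have := cj_mono (k := k) hQ₁.1
    rw [cj_sigmaCore_of_mem hkM] at this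
    exact this.trans (sigmaCore_le M)
  -- fusion
  obtain ⟨hfus, -⟩ := sigma_fusion_statement hG hU M hM hqσ Q₁' hS₁'.1.isPGroup hne' hS₁'.2.1
  obtain ⟨m, hm, c, hc, hgmc⟩ := hfus g (by rw [← hQ₂eq] at hQ₂M; exact hQ₂M)
  apply hg
  rw [hgmc]
  exact mul_mem hm (hS₁'.2.2 (centralizer_le_normalizer _ hc))

/-! ### Corollary 11.2 -/

namespace Exc

variable {M A A₀ : Subgroup G} {p : ℕ} [hp : Fact p.Prime]

/-- `|A|` is coprime to the order of every subgroup of `M_σ` -/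
theorem coprime_card (h : Exc M p A A₀) {D : Subgroup G} (hD : D ≤ sigmaCore M) :
    (Nat.card A).Coprime (Nat.card D) := by
  rw [h.card]
  apply Nat.Coprime.pow_left
  rw [Nat.Prime.coprime_iff_not_dvd hp.out]
  intro hd
  exact h.not_sigma (card_sigmaCore_mem M p hp.out (hd.trans (Subgroup.card_dvd_of_le hD)))

omit [Finite G] hp in
theorem le_normalizer_sigmaCore (h : Exc M p A A₀) :
    A ≤ normalizer ((sigmaCore M : Subgroup G) : Set G) :=
  h.le.trans (Helper35_BG11a.le_normalizer_sigmaCore M)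

end Exc

omit [Finite G] in
theorem le_normalizer_cj_sigmaCore (M : Subgroup G) (g : G) :
    cj g M ≤ normalizer ((cj g (sigmaCore M) : Subgroup G) : Set G) := by
  rw [normalizer_cj]
  exact cj_mono (le_normalizer_sigmaCore M)

omit [Finite G] in
/-- a Hall `{q}`-subgroup of a group of order divisible by `q` is nontrivial -/
theorem piHall_ne_bot {q : ℕ} (hq : q.Prime) {Q D : Subgroup G} (hQ : PiHall {q} Q D)
    (hqD : q ∣ Nat.card D) : Q ≠ ⊥ := by
  intro hbot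
  have h1 := hQ.2.2 q hq rfl
  rw [hbot, Subgroup.card_bot, Nat.div_one] at h1
  exact h1 hqD

/-- **Bender–Glauberman, Corollary 11.2(a)**: `M_σ ∩ gMg⁻¹ = 1` for `g ∉ M` with `A ≤ gMg⁻¹`. -/
theorem sigmaCore_inf_cj_eq_bot (hG : IsMinSimpleOddOrder G) (hU : UniqHyp G) (h44 : H1444.{u})
    {M A A₀ : Subgroup G} {p : ℕ} [hp : Fact p.Prime] (h : Exc M p A A₀) {g : G} (hg : g ∉ M)
    (hAg : A ≤ cj g M) : sigmaCore M ⊓ cj g M = ⊥ := by
  by_contra hD1
  set D : Subgroup G := sigmaCore M ⊓ cj g M with hD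
  have hM := h.coatom
  have hMsolv : Group.IsSolvable ↥M := hG.2.2.2 M hM.1
  have hσsolv : Group.IsSolvable ↥(sigmaCore M) := Cfsg.Agent.Lib.Helper24_CoprimeAction.isSolvable_of_le (sigmaCore_le M) hMsolv
  have hDσ : D ≤ sigmaCore M := inf_le_left
  have hDsolv : Group.IsSolvable ↥D := Cfsg.Agent.Lib.Helper24_CoprimeAction.isSolvable_of_le hDσ hσsolv
  have hAD : A ≤ normalizer (D : Set G) :=
    le_normalizer_inf' h.le_normalizer_sigmaCore (hAg.trans le_normalizer)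
  -- a prime divisor of `|D|`
  have hcard1 : Nat.card D ≠ 1 := fun hc => hD1 ((Subgroup.card_eq_one).mp hc)
  obtain ⟨q, hqq, hqD⟩ := Nat.exists_prime_and_dvd hcard1
  have : Fact q.Prime := ⟨hqq⟩
  have hqσ : q ∈ sigma M := card_sigmaCore_mem M q hqq (hqD.trans (Subgroup.card_dvd_of_le hDσ))
  obtain ⟨Q, hQ, hAQ⟩ := exists_invariant_piHall A D hAD (h.coprime_card hDσ) hDsolv {q}
  have hQ1 : Q ≠ ⊥ := piHall_ne_bot hqq hQ hqD
  have hQq : IsPGroup q Q := isPGroup_of_primes hqq hQ.2.1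
  obtain ⟨Q₁, hQ₁, hAQ₁, hQQ₁⟩ := exists_invariant_piHall_ge {q} A (sigmaCore M) Q
    h.le_normalizer_sigmaCore (h.coprime_card le_rfl) hσsolv (hQ.1.trans hDσ) hAQ hQ.2.1
  -- `Q ≤ (gMg⁻¹)_σ`
  have hQg : Q ≤ cj g (sigmaCore M) := by
    have h1 : cj g⁻¹ Q ≤ M := by
      have := cj_mono (k := g⁻¹) (hQ.1.trans (inf_le_right : D ≤ cj g M))
      rwa [cj_inv_cj] at this
    have h2 : cj g⁻¹ Q ≤ sigmaCore M :=
      le_sigmaCore_of_isPGroup hG hU h44 hM hqσ (hQq.map _) h1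
    have := cj_mono (k := g) h2
    rwa [cj_cj_inv] at this
  have hσgsolv : Group.IsSolvable ↥(cj g (sigmaCore M)) :=
    Group.isSolvable_of_isSolvable_injective
      (f := ((sigmaCore M).equivMapOfInjective (MulAut.conj g).toMonoidHom
        (MulAut.conj g).injective).symm.toMonoidHom)
      ((sigmaCore M).equivMapOfInjective (MulAut.conj g).toMonoidHom
        (MulAut.conj g).injective).symm.injective
  have hcopg : (Nat.card A).Coprime (Nat.card (cj g (sigmaCore M))) := by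
    rw [card_cj]; exact h.coprime_card le_rfl
  obtain ⟨Q₂, hQ₂, hAQ₂, hQQ₂⟩ := exists_invariant_piHall_ge {q} A (cj g (sigmaCore M)) Q
    (hAg.trans (le_normalizer_cj_sigmaCore M g)) hcopg hσgsolv hQg hAQ hQ.2.1
  have hQ₁ne : Q₁ ≠ ⊥ := fun hb => hQ1 (le_bot_iff.mp (hb ▸ hQQ₁))
  have hQtop : Q ≠ ⊤ := fun ht => hM.1 (top_le_iff.mp (ht ▸ (hQ.1.trans hDσ).trans (sigmaCore_le M)))
  have hN : normalizer (Q : Set G) ≠ ⊤ := normalizer_ne_top hG hQ1 hQtop
  rcases no_common_overgroup hG hU h44 h hg hAg hQ₁ hAQ₁ hQ₂ hAQ₂ hQ₁ne hN hAQ with h1 | h1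
  · exact hQ1 (le_bot_iff.mp (h1 ▸ le_inf le_normalizer hQQ₁))
  · exact hQ1 (le_bot_iff.mp (h1 ▸ le_inf le_normalizer hQQ₂))

/-- **Bender–Glauberman, Corollary 11.2(b)**: `M_σ ∩ C_G(gA₀g⁻¹) = 1`. -/
theorem sigmaCore_inf_centralizer_cj_eq_bot (hG : IsMinSimpleOddOrder G) (hU : UniqHyp G)
    (h44 : H1444.{u}) {M A A₀ : Subgroup G} {p : ℕ} [hp : Fact p.Prime] (h : Exc M p A A₀) {g : G}
    (hg : g ∉ M) (hAg : A ≤ cj g M) :
    sigmaCore M ⊓ centralizer ((cj g A₀ : Subgroup G) : Set G) = ⊥ := by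
  rw [eq_bot_iff, ← sigmaCore_inf_cj_eq_bot hG hU h44 h hg hAg]
  refine inf_le_inf_left _ ?_
  refine (centralizer_le_normalizer _).trans ?_
  rw [normalizer_cj]
  exact cj_mono h.norm₀

end Cfsg.Agent.Lib.Helper35_BG11a
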