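import Mathlib
import Cfsg.Agent.Lib.Helper35_BG11a
import Cfsg.Agent.Lib.Helper1_Thompson
import Cfsg.Agent.Lib.Helper48_Generation

set_option autoImplicit false
open Cfsg

/-!
# Bender–Glauberman, Section 11, part b  (helper35)

* `isNilpotent_of_fpf`: Thompson's theorem for a subgroup normalized by an element of prime order
  acting without fixed points;
* `Exc.isNilpotent_sigmaCore` (Lemma 11.3): `M_σ` is nilpotent;
* `Exc.eq_of_sigmaCore_inf_ne_bot` (Lemma 11.4): a maximal subgroup `H ≥ A` with `H_σ ∩ M_σ ≠ 1` is `M`.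
-/

namespace Cfsg.Agent.Lib.Helper35_BG11b

open Subgroup Cfsg.Agent.Lib.Helper22_Radical Cfsg.Agent.Lib.Helper22_BGTrans
  Cfsg.Agent.Lib.Helper22_Uniq Cfsg.Agent.Lib.Helper84_RelSylow
  Cfsg.Agent.Lib.Helper49_Sigma Cfsg.Agent.Lib.Helper49_Alpha Cfsg.Agent.Lib.Helper49_Alpha2
  Cfsg.Agent.Lib.Helper49_Alpha3
  Cfsg.Agent.Lib.Helper70_BG106 Cfsg.Agent.Lib.Helper70_BG1212 Cfsg.Agent.Lib.Helper70_BG1012
  Cfsg.Agent.Lib.Helper24_CoprimeHall Cfsg.Agent.Lib.Helper35_BG11a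

universe u

variable {G : Type u} [Group G] [Finite G]

/-- **Thompson**: a subgroup normalized by an element `x` with `x ^ r = 1`, `r` prime, that has no
nontrivial element commuting with `x`, is nilpotent. -/
theorem isNilpotent_of_fpf {r : ℕ} (hr : r.Prime) (H : Subgroup G) {x : G}
    (hx : x ∈ normalizer (H : Set G)) (hxr : x ^ r = 1) (hfpf : ∀ h ∈ H, x * h = h * x → h = 1) :
    Group.IsNilpotent ↥H := by
  let x' : ↥(normalizer (H : Set G)) := ⟨x, hx⟩
  apply Cfsg.Agent.Lib.Helper1_Thompson.thompson hr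
    (Cfsg.Agent.Lib.Helper48_Generation.normAut H x' : ↥H ≃* ↥H)
  constructor
  · intro n hn
    have h1 : x * (n : G) * x⁻¹ = n := by
      have := congrArg Subtype.val hn
      rwa [Cfsg.Agent.Lib.Helper48_Generation.normAut_apply_coe] at this
    apply Subtype.ext
    apply hfpf n n.2
    calc x * (n : G) = (x * n * x⁻¹) * x := by group
      _ = n * x := by rw [h1]
  · intro n
    have hiter : ∀ k : ℕ,
        ((((Cfsg.Agent.Lib.Helper48_Generation.normAut H x' : ↥H ≃* ↥H))^[k] n : ↥H) : G) =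
        x ^ k * n * (x ^ k)⁻¹ := by
      intro k
      induction k with
      | zero => simp
      | succ k ih =>
        rw [Function.iterate_succ_apply', Cfsg.Agent.Lib.Helper48_Generation.normAut_apply_coe, ih,
          pow_succ']
        show x * (x ^ k * ↑n * (x ^ k)⁻¹) * x⁻¹ = x * x ^ k * ↑n * (x * x ^ k)⁻¹
        group
    apply Subtype.ext
    rw [hiter, hxr]
    group

end Cfsg.Agent.Lib.Helper35_BG11b

namespace Cfsg.Agent.Lib.Helper35_BG11a.Exc

open Subgroup Cfsg.Agent.Lib.Helper22_Radical Cfsg.Agent.Lib.Helper22_BGTrans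
  Cfsg.Agent.Lib.Helper22_Uniq Cfsg.Agent.Lib.Helper84_RelSylow
  Cfsg.Agent.Lib.Helper49_Sigma Cfsg.Agent.Lib.Helper49_Alpha Cfsg.Agent.Lib.Helper49_Alpha2
  Cfsg.Agent.Lib.Helper49_Alpha3
  Cfsg.Agent.Lib.Helper70_BG106 Cfsg.Agent.Lib.Helper70_BG1212 Cfsg.Agent.Lib.Helper70_BG1012
  Cfsg.Agent.Lib.Helper24_CoprimeHall Cfsg.Agent.Lib.Helper35_BG11a Cfsg.Agent.Lib.Helper35_BG11b

universe u

variable {G : Type u} [Group G] [Finite G]

variable {M A A₀ : Subgroup G} {p : ℕ} [hp : Fact p.Prime]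

/-- a Sylow `p`-subgroup of `M` containing `A` -/
theorem exists_sylow_ge (h : Exc M p A A₀) : ∃ PG : Subgroup G, IsSylowIn p PG M ∧ A ≤ PG := by
  obtain ⟨T, hAT, hT⟩ := exists_isSylowIn_ge (H := M) h.le h.isPGroup
  exact ⟨T, hT, hAT⟩

/-- the normalizer of a Sylow `p`-subgroup of `M` containing `A` is not contained in `M` -/
theorem exists_normalizer_not_mem (h : Exc M p A A₀) {PG : Subgroup G} (hS : IsSylowIn p PG M)
    (hAP : A ≤ PG) : ∃ g ∈ normalizer (PG : Set G), g ∉ M := by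
  have hPG1 : PG ≠ ⊥ := fun hb => h.ne_bot (le_bot_iff.mp (hb ▸ hAP))
  have hnot : ¬ normalizer (PG : Set G) ≤ M := fun hle =>
    h.not_sigma (mem_sigma_of_normalizer_le hS hPG1 hle)
  exact SetLike.not_le_iff_exists.mp hnot

omit [Finite G] hp in
/-- `A ≤ gMg⁻¹` for `g` normalizing a subgroup `PG` of `M` containing `A` -/
theorem le_cj_of_mem_normalizer (_h : Exc M p A A₀) {PG : Subgroup G} (hPM : PG ≤ M) (hAP : A ≤ PG)
    {g : G} (hg : g ∈ normalizer (PG : Set G)) : A ≤ cj g M := by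
  have h1 : cj g PG = PG := cj_eq_of_mem_normalizer hg
  calc A ≤ PG := hAP
    _ = cj g PG := h1.symm
    _ ≤ cj g M := cj_mono hPM

/-- **Bender–Glauberman, Lemma 11.3**: `M_σ` is nilpotent. -/
theorem isNilpotent_sigmaCore (hG : IsMinSimpleOddOrder G) (hU : UniqHyp G) (h44 : H1444.{u})
    (h : Exc M p A A₀) : Group.IsNilpotent ↥(sigmaCore M) := by
  obtain ⟨PG, hS, hAP⟩ := h.exists_sylow_ge
  obtain ⟨g, hgN, hgM⟩ := h.exists_normalizer_not_mem hS hAP
  have hAg : A ≤ cj g M := h.le_cj_of_mem_normalizer hS.le hAP hgN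
  have hfix := sigmaCore_inf_centralizer_cj_eq_bot hG hU h44 h hgM hAg
  -- a generator of `A₀`
  have hA₀1 : A₀ ≠ ⊥ := by
    intro hb
    have := h.card₀
    rw [hb, Subgroup.card_bot] at this
    exact hp.out.one_lt.ne this
  obtain ⟨⟨a, haA₀⟩, ha'⟩ := (Subgroup.ne_bot_iff_exists_ne_one).mp hA₀1
  have ha1 : a ≠ 1 := fun h1 => ha' (Subtype.ext h1)
  have hza : zpowers a = A₀ := zpowers_eq_of_card_prime h.card₀ haA₀ ha1
  have hap : a ^ p = 1 := pow_eq_one_of_card_prime h.card₀ haA₀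
  set x : G := g * a * g⁻¹ with hx
  have hxcj : cj g A₀ = zpowers x := by
    rw [← hza]
    show (zpowers a).map (MulAut.conj g).toMonoidHom = zpowers x
    rw [MonoidHom.map_zpowers]
    rfl
  have hxPG : x ∈ PG := (mem_normalizer_iff.mp hgN a).mp (hAP (h.le₀ haA₀))
  have hxN : x ∈ normalizer ((sigmaCore M : Subgroup G) : Set G) :=
    Helper35_BG11a.le_normalizer_sigmaCore M (hS.le hxPG)
  have hxp : x ^ p = 1 := by rw [hx, conj_pow, hap]; group
  apply isNilpotent_of_fpf hp.out (sigmaCore M) hxN hxp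
  intro y hy hxy
  have hyc : y ∈ centralizer ((cj g A₀ : Subgroup G) : Set G) := by
    rw [hxcj]
    rw [Subgroup.mem_centralizer_iff]
    intro z hz
    obtain ⟨k, rfl⟩ := mem_zpowers_iff.mp hz
    have hc : Commute x y := hxy
    exact (hc.zpow_left k).eq
  have : y ∈ sigmaCore M ⊓ centralizer ((cj g A₀ : Subgroup G) : Set G) := ⟨hy, hyc⟩
  rw [hfix] at this
  exact (Subgroup.mem_bot).mp this

/-- **Bender–Glauberman, Lemma 11.4**: a maximal subgroup `H ≥ A` with `H_σ ∩ M_σ ≠ 1` equals `M`. -/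
theorem eq_of_sigmaCore_inf_ne_bot (hG : IsMinSimpleOddOrder G) (hU : UniqHyp G) (h44 : H1444.{u})
    (h : Exc M p A A₀) {H : Subgroup G} (hH : IsCoatom H) (hAH : A ≤ H)
    (hne : sigmaCore H ⊓ sigmaCore M ≠ ⊥) : H = M := by
  by_contra hHM
  have hnil := h.isNilpotent_sigmaCore hG hU h44
  by_cases hconj : ∃ g : G, H = cj g M
  · obtain ⟨g, rfl⟩ := hconj
    have hgM : g ∉ M := fun hg => hHM (cj_self_of_mem hg)
    have h1 := sigmaCore_inf_cj_eq_bot hG hU h44 h hgM hAH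
    apply hne
    rw [eq_bot_iff, ← h1, inf_comm]
    exact inf_le_inf_left _ (Helper35_BG11a.sigmaCore_le _)
  · push Not at hconj
    have h1 := (sigma_disjoint_nil hG hU h44 h.coatom hH hconj hnil).2
    apply hne
    rw [inf_comm]
    exact h1

end Cfsg.Agent.Lib.Helper35_BG11a.Exc
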