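import Cfsg.Agent.Lib.Helper49_Alpha
import Cfsg.Agent.Lib.Helper22_Uniq6
import Cfsg.Agent.S1403

/-!
# Sigma-disjointness of non-conjugate maximal subgroups (helper49)

Bender-Glauberman, Lemma 10.12 type statements in a minimal simple group of odd order: for maximal subgroups
`M`, `H` that are not conjugate, `α(M) ∩ σ(H) = ∅` and `M_α ∩ H_σ = 1`; if moreover `M_σ` is nilpotent (and a Hall
`σ(M)`-subgroup of `M`), then `σ(M) ∩ σ(H) = ∅` and `M_σ ∩ H_σ = 1`.
-/

set_option autoImplicit false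

namespace Cfsg.Agent.Lib.Helper49_SigmaDisjoint

open Subgroup Cfsg Cfsg.Agent.Lib.Helper22_Radical Cfsg.Agent.Lib.Helper22_Uniq
  Cfsg.Agent.Lib.Helper49_Sigma Cfsg.Agent.Lib.Helper49_Alpha Cfsg.Agent.Lib.Helper84_RelSylow

variable {G : Type*} [Group G] [Finite G]

/-- the Uniqueness Theorem in the shape used by the `Helper49_*` libraries -/
theorem uniqHyp (hG : IsMinSimpleOddOrder G) : UniqHyp G :=
  fun K h1 h2 h3 => Cfsg.Agent.S1403.result hG K h1 h2 h3

/-- two Sylow `p`-subgroups of `G` are conjugate -/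
theorem exists_cj_eq_of_isSylowIn_top {p : ℕ} [Fact p.Prime] {P S : Subgroup G} (hP : IsSylowIn p P ⊤)
    (hS : IsSylowIn p S ⊤) : ∃ g : G, S = cj g P := by
  obtain ⟨P', hP'⟩ := exists_sylow_eq_of_isSylowIn_top hP
  obtain ⟨S', hS'⟩ := exists_sylow_eq_of_isSylowIn_top hS
  obtain ⟨g, hg⟩ := MulAction.exists_smul_eq G P' S'
  refine ⟨g, ?_⟩
  rw [← hS', ← hP', ← hg, Sylow.coe_subgroup_smul]
  rfl

/-- the prime divisors of `|M_σ|` lie in `σ(M)` -/
theorem mem_sigma_of_dvd_card_sigmaCore (M : Subgroup G) {q : ℕ} (hq : q.Prime)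
    (hdvd : q ∣ Nat.card ↥(sigmaCore M)) : q ∈ sigma M := by
  unfold sigmaCore at hdvd
  rw [Subgroup.card_map_of_injective M.subtype_injective] at hdvd
  exact Cfsg.Agent.Lib.Helper32_Cores.card_piCore (sigma M) q hq hdvd

/-- the prime divisors of `|M_α|` lie in `α(M)` -/
theorem mem_alpha_of_dvd_card_alphaCore (M : Subgroup G) {q : ℕ} (hq : q.Prime)
    (hdvd : q ∣ Nat.card ↥(alphaCore M)) : q ∈ alpha M := by
  unfold alphaCore at hdvd
  rw [Subgroup.card_map_of_injective M.subtype_injective] at hdvd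
  exact Cfsg.Agent.Lib.Helper32_Cores.card_piCore (alpha M) q hq hdvd

omit [Finite G] in
/-- two subgroups whose orders have no common prime divisor meet trivially -/
theorem inf_eq_bot_of_disjoint_primes {A B : Subgroup G}
    (h : ∀ q : ℕ, q.Prime → q ∣ Nat.card ↥A → q ∣ Nat.card ↥B → False) : A ⊓ B = ⊥ := by
  by_contra hne
  have hcard : Nat.card ↥(A ⊓ B) ≠ 1 := fun h1 => hne ((Subgroup.card_eq_one).mp h1)
  obtain ⟨q, hq, hdvd⟩ := Nat.exists_prime_and_dvd hcard
  exact h q hq (hdvd.trans (Subgroup.card_dvd_of_le inf_le_left))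
    (hdvd.trans (Subgroup.card_dvd_of_le inf_le_right))

/-- a Sylow subgroup of `G` of the good kind for `H`, for `p ∈ σ(H)` -/
theorem exists_sylM {p : ℕ} [Fact p.Prime] {H : Subgroup G} (hp : p ∈ sigma H) : ∃ S, SylM p H S :=
  exists_sylM_of_mem_sigma hp

/-- **`α(M) ∩ σ(H) = ∅`** for non-conjugate maximal subgroups. -/
theorem alpha_inter_sigma (hG : IsMinSimpleOddOrder G) {M H : Subgroup G} (hM : IsCoatom M) (hH : IsCoatom H)
    (hnc : ∀ g : G, H ≠ cj g M) {p : ℕ} (hpα : p ∈ alpha M) (hpσ : p ∈ sigma H) : False := by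
  have hpp : p.Prime := hpα.1
  have : Fact p.Prime := ⟨hpp⟩
  have hU := uniqHyp hG
  obtain ⟨Q⟩ : Nonempty (Sylow p ↥M) := inferInstance
  set P : Subgroup G := (Q : Subgroup ↥M).map M.subtype with hP
  have hSM : SylM p M P := sylM_of_mem_alpha hG hU hM hpα Q
  have h1 : IsSylowIn p P M := isSylowIn_of_sylow Q
  have h3 : ¬ PRankLE p 2 ↥P := fun h => hpα.2 (pRankLE_of_sylow h1 h)
  have htop : P ≠ ⊤ := ne_top_of_le_ne_top hM.1 h1.le
  have hR1 : ¬ RankLE 1 ↥P := by
    intro h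
    apply h3
    intro B hc he
    exact (h p hpp B hc he).trans (Nat.pow_le_pow_right hpp.pos (by norm_num))
  have hR2 : ¬ RankLE 2 ↥P := fun h => h3 (h p hpp)
  have hPU : InUniqueMaximal P := hU _ htop hR1 (Or.inl hR2)
  obtain ⟨S, hS⟩ := exists_sylM hpσ
  obtain ⟨g, hg⟩ := exists_cj_eq_of_isSylowIn_top hSM.1 hS.1
  have hU' : InUniqueMaximal (cj g P) := inUniqueMaximal_cj hPU g
  obtain ⟨M₀, -, huniq⟩ := hU'
  have e1 := huniq H ⟨hH, hg ▸ hS.2.1⟩
  have e2 := huniq (cj g M) ⟨isCoatom_cj hM g, cj_mono hSM.2.1⟩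
  exact hnc g (e1.trans e2.symm)

/-- **`M_α ∩ H_σ = 1`** for non-conjugate maximal subgroups. -/
theorem alphaCore_inf_sigmaCore (hG : IsMinSimpleOddOrder G) {M H : Subgroup G} (hM : IsCoatom M)
    (hH : IsCoatom H) (hnc : ∀ g : G, H ≠ cj g M) : alphaCore M ⊓ sigmaCore H = ⊥ := by
  apply inf_eq_bot_of_disjoint_primes
  intro q hq h1 h2
  exact alpha_inter_sigma hG hM hH hnc (mem_alpha_of_dvd_card_alphaCore M hq h1)
    (mem_sigma_of_dvd_card_sigmaCore H hq h2)

/-- **`σ(M) ∩ σ(H) = ∅`** for non-conjugate maximal subgroups with `M_σ` a nilpotent Hall `σ(M)`-subgroup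
of `M`. -/
theorem sigma_inter_sigma (hG : IsMinSimpleOddOrder G) {M H : Subgroup G} (hM : IsCoatom M) (hH : IsCoatom H)
    (hnc : ∀ g : G, H ≠ cj g M) (hnil : Group.IsNilpotent ↥(sigmaCore M))
    (hHall : IsPiHallOf (sigma M) (sigmaCore M) M) {p : ℕ} (hpM : p ∈ sigma M) (hpH : p ∈ sigma H) :
    False := by
  have hpp : p.Prime := hpM.1
  have : Fact p.Prime := ⟨hpp⟩
  -- the Sylow `p`-subgroup `P` of `M_σ`
  obtain ⟨Q⟩ : Nonempty (Sylow p ↥(sigmaCore M)) := inferInstance
  set P : Subgroup G := (Q : Subgroup ↥(sigmaCore M)).map (sigmaCore M).subtype with hP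
  have hPle : P ≤ sigmaCore M := Subgroup.map_subtype_le _
  have hPp : IsPGroup p ↥P := Q.isPGroup'.map _
  -- `P` is normal in `M`
  have hQn : (Q : Subgroup ↥(sigmaCore M)).Characteristic := by
    have h0 := ((Group.isNilpotent_of_finite_tfae (G := ↥(sigmaCore M))).out 0 3).mp hnil
    have hn : (Q : Subgroup ↥(sigmaCore M)).Normal := h0 p inferInstance Q
    exact Sylow.characteristic_of_normal Q hn
  have hMσ : M ≤ normalizer ((sigmaCore M : Subgroup G) : Set G) := by
    have h1 := Subgroup.le_normalizer_map (H := piCore (sigma M) ↥M) M.subtype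
    rw [Subgroup.normalizer_eq_top, ← MonoidHom.range_eq_map, Subgroup.range_subtype] at h1
    exact h1
  have hMP : M ≤ normalizer (P : Set G) := by
    intro m hm
    have hmN := hMσ hm
    rw [mem_normalizer_iff]
    -- conjugation by `m` is an automorphism of `M_σ`
    let φ : ↥(sigmaCore M) ≃* ↥(sigmaCore M) :=
      { toFun := fun x => ⟨m * x.1 * m⁻¹, (mem_normalizer_iff.mp hmN x.1).mp x.2⟩
        invFun := fun x => ⟨m⁻¹ * x.1 * m, by
          have := (mem_normalizer_iff.mp hmN (m⁻¹ * x.1 * m)).mpr (by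
            have e : m * (m⁻¹ * x.1 * m) * m⁻¹ = x.1 := by group
            rw [e]; exact x.2)
          exact this⟩
        left_inv := fun x => by apply Subtype.ext; show m⁻¹ * (m * x.1 * m⁻¹) * m = x.1; group
        right_inv := fun x => by apply Subtype.ext; show m * (m⁻¹ * x.1 * m) * m⁻¹ = x.1; group
        map_mul' := fun x y => by
          apply Subtype.ext
          show m * (x.1 * y.1) * m⁻¹ = (m * x.1 * m⁻¹) * (m * y.1 * m⁻¹)
          group }
    have hφ : (Q : Subgroup ↥(sigmaCore M)).comap φ.toMonoidHom = (Q : Subgroup ↥(sigmaCore M)) :=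
      (Subgroup.characteristic_iff_comap_eq.mp hQn) φ
    intro x
    constructor
    · rintro ⟨y, hy, rfl⟩
      have hy' : y ∈ (Q : Subgroup ↥(sigmaCore M)).comap φ.toMonoidHom := by rw [hφ]; exact hy
      exact ⟨φ y, hy', rfl⟩
    · rintro ⟨y, hy, hyx⟩
      have hxσ : x ∈ sigmaCore M := by
        have h2 : m⁻¹ * (m * x * m⁻¹) * m ∈ sigmaCore M := by
          have h3 : m * x * m⁻¹ ∈ sigmaCore M := by
            rw [← hyx]; exact y.2
          have hmi : m⁻¹ ∈ normalizer ((sigmaCore M : Subgroup G) : Set G) := inv_mem hmN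
          have := (mem_normalizer_iff.mp hmi (m * x * m⁻¹)).mp h3
          simpa using this
        have e : m⁻¹ * (m * x * m⁻¹) * m = x := by group
        rwa [e] at h2
      refine ⟨⟨x, hxσ⟩, ?_, rfl⟩
      have h4 : (⟨x, hxσ⟩ : ↥(sigmaCore M)) ∈ (Q : Subgroup ↥(sigmaCore M)).comap φ.toMonoidHom := by
        show φ ⟨x, hxσ⟩ ∈ (Q : Subgroup ↥(sigmaCore M))
        have e : φ ⟨x, hxσ⟩ = y := by
          apply Subtype.ext
          exact hyx.symm
        rw [e]; exact hy
      rwa [hφ] at h4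
  -- `P` is a Sylow `p`-subgroup of `M`
  have hPM : IsSylowIn p P M := by
    refine ⟨hPle.trans hHall.1, hPp, ?_⟩
    intro hdvd
    have h1 : P.relIndex M = P.relIndex (sigmaCore M) * (sigmaCore M).relIndex M :=
      (Subgroup.relIndex_mul_relIndex P (sigmaCore M) M hPle hHall.1).symm
    rw [h1] at hdvd
    rcases (Nat.Prime.dvd_mul hpp).mp hdvd with h2 | h2
    · have h3 : (Q : Subgroup ↥(sigmaCore M)).index = P.relIndex (sigmaCore M) := by
        have e : P.subgroupOf (sigmaCore M) = (Q : Subgroup ↥(sigmaCore M)) :=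
          Subgroup.comap_map_eq_self_of_injective (sigmaCore M).subtype_injective _
        show _ = (P.subgroupOf (sigmaCore M)).index
        rw [e]
      exact Q.not_dvd_index (h3 ▸ h2)
    · exact hHall.2.2 p hpp hpM h2
  have hP1 : P ≠ ⊥ := by
    intro hb
    have h1 : ¬ p ∣ P.relIndex M := hPM.2.2
    rw [hb, Subgroup.relIndex_bot_left] at h1
    exact h1 hpM.2.1
  -- `N_G(P) = M`
  have hNP : normalizer (P : Set G) = M := by
    have hPtop : P ≠ ⊤ := ne_top_of_le_ne_top hM.1 hPM.1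
    have hNtop := Cfsg.Agent.Lib.Helper22_BGTrans.normalizer_ne_top hG hP1 hPtop
    exact (eq_of_isCoatom_of_le hM hNtop hMP).symm
  have hSM : SylM p M P := by
    obtain ⟨S', hS'⟩ := exists_sylow_eq_of_normalizer_le hPM hNP.le
    refine ⟨?_, hPM.1, hNP.le⟩
    rw [← hS']
    exact isSylowIn_top S'
  obtain ⟨S, hS⟩ := exists_sylM hpH
  obtain ⟨g, hg⟩ := exists_cj_eq_of_isSylowIn_top hSM.1 hS.1
  -- `N_G(S) = M ^ g ≤ H`
  have h5 : cj g M ≤ H := by
    have h6 : normalizer ((cj g P : Subgroup G) : Set G) = cj g M := by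
      rw [normalizer_cj, hNP]
    rw [← h6, ← hg]
    exact hS.2.2
  have h7 : cj g M = H := eq_of_isCoatom_of_le (isCoatom_cj hM g) hH.1 h5
  exact hnc g h7.symm

/-- **`M_σ ∩ H_σ = 1`** for non-conjugate maximal subgroups with `M_σ` a nilpotent Hall subgroup. -/
theorem sigmaCore_inf_sigmaCore (hG : IsMinSimpleOddOrder G) {M H : Subgroup G} (hM : IsCoatom M)
    (hH : IsCoatom H) (hnc : ∀ g : G, H ≠ cj g M) (hnil : Group.IsNilpotent ↥(sigmaCore M))
    (hHall : IsPiHallOf (sigma M) (sigmaCore M) M) : sigmaCore M ⊓ sigmaCore H = ⊥ := by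
  apply inf_eq_bot_of_disjoint_primes
  intro q hq h1 h2
  exact sigma_inter_sigma hG hM hH hnc hnil hHall (mem_sigma_of_dvd_card_sigmaCore M hq h1)
    (mem_sigma_of_dvd_card_sigmaCore H hq h2)

end Cfsg.Agent.Lib.Helper49_SigmaDisjoint
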