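import Mathlib
import Cfsg.Prelude.Def_OddOrderLocal
import Cfsg.Agent.S1350
import Cfsg.Agent.S1394
import Cfsg.Agent.S1395
import Cfsg.Agent.S1396
import Cfsg.Agent.S1405
import Cfsg.Agent.S1408
import Cfsg.Agent.S1410
import Cfsg.Agent.S1411
import Cfsg.Agent.S1414
import Cfsg.Agent.Lib.Helper49_SigmaDisjoint
import Cfsg.Agent.Lib.Helper70_BG1212

/-!
# Two pieces of Bender-Glauberman, Sections 10 and 12 (helper49)

`G` is a minimal simple group of odd order and `M` a maximal subgroup.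

* `sigmaCore_ne_bot`: `M_σ ≠ 1` (from the tower clause of S1414 and S1350);
* `false_of_centralizes`: the last sub-case of Proposition 12.4(b).  If `p ∉ σ(M)`, `A ≤ M` is elementary
  abelian of order `p ^ 2`, `M_α = 1`, then `A` does not centralize `M_σ`.
  Proof: `A` satisfies the transitivity hypothesis, `M'` is nilpotent, a Sylow `q`-subgroup `Q` of `M_σ` is
  normal in `M`, Sylow in `G` and centralized by `A`; for a Sylow `p`-subgroup `T ≥ A` of `G` and
  `Q₁ ∈ И*(T; q)` one gets `Q₁ = kQk⁻¹` (S1394, S1395), `T ≤ N_G(T)' ≤ N_G(Q₁)' = k M' k⁻¹` (S1411, S1395(d)),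
  hence `T` is normal in `kMk⁻¹` and `p ∈ σ(M)`.
-/

set_option autoImplicit false

namespace Cfsg.Agent.Lib.Helper49_BG124

open Subgroup Cfsg Cfsg.Agent.Lib.Helper22_Radical Cfsg.Agent.Lib.Helper22_Uniq
  Cfsg.Agent.Lib.Helper22_BGTrans Cfsg.Agent.Lib.Helper49_Sigma Cfsg.Agent.Lib.Helper49_Alpha
  Cfsg.Agent.Lib.Helper49_Alpha2 Cfsg.Agent.Lib.Helper49_Alpha3 Cfsg.Agent.Lib.Helper84_RelSylow
  Cfsg.Agent.Lib.Helper49_SigmaDisjoint

/-! ### General group theory -/

section General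

variable {X : Type*} [Group X]

/-- in a finite nilpotent group every subgroup is subnormal -/
theorem isSubnormal_of_nilpotent [Finite X] [Group.IsNilpotent X] (H : Subgroup X) :
    H.IsSubnormal := by
  have hnc : NormalizerCondition X := Group.normalizerCondition_of_isNilpotent
  induction' hn : H.index using Nat.strong_induction_on with n ih generalizing H
  by_cases hH : H = ⊤
  · rw [hH]; exact Subgroup.IsSubnormal.top
  · have hlt : H < Subgroup.normalizer (H : Set X) := hnc H (lt_top_iff_ne_top.mpr hH)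
    have h1 : (Subgroup.normalizer (H : Set X)).index < n := by
      rw [← hn]
      exact Subgroup.index_strictAnti hlt
    have h2 := ih _ h1 (Subgroup.normalizer (H : Set X)) rfl
    exact Subgroup.IsSubnormal.step H (Subgroup.normalizer (H : Set X)) hlt.le h2
      Subgroup.normal_in_normalizer

/-- nilpotency passes to smaller subgroups -/
theorem isNilpotent_of_le' {K L : Subgroup X} (h : K ≤ L) (hL : Group.IsNilpotent ↥L) :
    Group.IsNilpotent ↥K := by
  have : Group.IsNilpotent ↥(K.subgroupOf L) := inferInstance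
  exact (Group.isNilpotent_congr (Subgroup.subgroupOfEquivOfLe h)).mp this

/-- nilpotency passes to images under injective homomorphisms -/
theorem isNilpotent_map_of_injective {Y : Type*} [Group Y] (f : X →* Y) (hf : Function.Injective f)
    {K : Subgroup X} (hK : Group.IsNilpotent ↥K) : Group.IsNilpotent ↥(K.map f) :=
  (Group.isNilpotent_congr (K.equivMapOfInjective f hf)).mp hK

theorem mem_normalizer_of_cj_le' [Finite X] {n : X} {T : Subgroup X} (h : cj n T ≤ T) :
    n ∈ normalizer (T : Set X) := by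
  have heq : cj n T = T := Subgroup.eq_of_le_of_card_ge h (by rw [card_cj])
  rw [mem_normalizer_iff'']
  intro x
  rw [← mem_cj, heq]

/-- a Sylow subgroup of a nilpotent subgroup `D` is normalized by everything normalizing `D` -/
theorem le_normalizer_of_sylow_nilpotent [Finite X] {p : ℕ} [Fact p.Prime] {D T N : Subgroup X}
    (hnil : Group.IsNilpotent ↥D) (hS : IsSylowIn p T D) (hN : N ≤ normalizer (D : Set X)) :
    N ≤ normalizer (T : Set X) := by
  have hQn : (hS.toSylow : Subgroup ↥D).Normal := by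
    have h0 := ((Group.isNilpotent_of_finite_tfae (G := ↥D)).out 0 3).mp hnil
    exact h0 p inferInstance hS.toSylow
  have hDT : ∀ d ∈ D, ∀ x ∈ T, d * x * d⁻¹ ∈ T := by
    intro d hd x hx
    have hxD : x ∈ D := hS.1 hx
    have h1 : (⟨x, hxD⟩ : ↥D) ∈ hS.toSylow := (hS.mem_toSylow _).2 hx
    have h2 := hQn.conj_mem _ h1 ⟨d, hd⟩
    exact (hS.mem_toSylow _).1 h2
  intro n hn
  have hnD := hN hn
  apply mem_normalizer_of_cj_le'
  have hKD : cj n T ≤ D := by
    rintro _ ⟨y, hy, rfl⟩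
    exact (mem_normalizer_iff.mp hnD y).mp (hS.1 hy)
  have hKp : IsPGroup p ↥(cj n T) := hS.2.1.map _
  obtain ⟨g, hgD, hg⟩ := hS.exists_conj_le hKD hKp
  intro z hz
  have h3 : g * z * g⁻¹ ∈ T := hg z hz
  have h4 := hDT g⁻¹ (inv_mem hgD) _ h3
  have e : g⁻¹ * (g * z * g⁻¹) * g⁻¹⁻¹ = z := by group
  rwa [e] at h4

/-- if the primes dividing `|X : O_{p'}(X)|` never exceed `p`, the Sylow subgroup for the largest prime divisor of
`|X|` is normal -/
theorem exists_normal_sylow_of_tower [Finite X] (hX : Nat.card X ≠ 1)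
    (h : ∀ p : ℕ, p.Prime → p ∣ Nat.card X → ∀ q : ℕ, q.Prime → q ∣ (pPrimeCore p X).index → q ≤ p) :
    ∃ r : ℕ, ∃ _ : Fact r.Prime, r ∣ Nat.card X ∧ ∃ R : Sylow r X, (R : Subgroup X).Normal := by
  have hpos : Nat.card X ≠ 0 := Nat.card_pos.ne'
  have hne : (Nat.card X).primeFactors.Nonempty := by
    obtain ⟨q, hq, hqd⟩ := Nat.exists_prime_and_dvd hX
    exact ⟨q, Nat.mem_primeFactors.mpr ⟨hq, hqd, hpos⟩⟩
  set r := (Nat.card X).primeFactors.max' hne with hr
  have hrmem : r ∈ (Nat.card X).primeFactors := Finset.max'_mem _ hne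
  obtain ⟨hrp, hrd, -⟩ := Nat.mem_primeFactors.mp hrmem
  have : Fact r.Prime := ⟨hrp⟩
  refine ⟨r, ⟨hrp⟩, hrd, ?_⟩
  obtain ⟨R⟩ : Nonempty (Sylow r X) := inferInstance
  refine ⟨R, ?_⟩
  -- the intersection of the `O_{p'}(X)`, `p ≠ r`
  set N : Subgroup X := ⨅ p ∈ (Nat.card X).primeFactors.erase r, pPrimeCore p X with hN
  have hNn : N.Normal := by
    rw [hN]
    apply Subgroup.normal_iInf_normal
    intro p
    apply Subgroup.normal_iInf_normal
    intro _
    exact Cfsg.Agent.Lib.Helper1_Cores.pPrimeCore_normal p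
  have hRN : (R : Subgroup X) ≤ N := by
    rw [hN]
    refine le_iInf fun p => le_iInf fun hp => ?_
    obtain ⟨hpr, hpmem⟩ := Finset.mem_erase.mp hp
    obtain ⟨hpp, hpd, -⟩ := Nat.mem_primeFactors.mp hpmem
    have hlt : p < r := lt_of_le_of_ne (Finset.le_max' _ p hpmem) hpr
    have := Cfsg.Agent.Lib.Helper1_Cores.pPrimeCore_normal (G := X) p
    apply Cfsg.Agent.Lib.Helper70_BG106.le_of_coprime_index
    obtain ⟨k, hk⟩ := IsPGroup.iff_card.mp R.isPGroup'
    rw [hk]
    apply Nat.Coprime.pow_left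
    rw [Nat.Prime.coprime_iff_not_dvd hrp]
    intro hd
    have := h p hpp hpd r hrp hd
    omega
  have hNr : IsPGroup r ↥N := by
    have hcard : ∀ d : ℕ, d.Prime → d ∣ Nat.card ↥N → d = r := by
      intro d hd hdN
      by_contra hne'
      have hdX : d ∣ Nat.card X := hdN.trans (Subgroup.card_subgroup_dvd_card N)
      have hdmem : d ∈ (Nat.card X).primeFactors.erase r :=
        Finset.mem_erase.mpr ⟨hne', Nat.mem_primeFactors.mpr ⟨hd, hdX, hpos⟩⟩
      have hNle : N ≤ pPrimeCore d X := by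
        rw [hN]
        exact iInf₂_le d hdmem
      have hcop := Cfsg.Agent.Lib.Helper1_Cores.pPrimeCore_card_coprime (G := X) d
      have h1 : d ∣ Nat.card ↥(pPrimeCore d X) := hdN.trans (Subgroup.card_dvd_of_le hNle)
      have h2 := Nat.Coprime.eq_one_of_dvd hcop.symm h1
      exact hd.one_lt.ne' h2
    have hNpos : Nat.card ↥N ≠ 0 := Nat.card_pos.ne'
    have := Nat.eq_prime_pow_of_unique_prime_dvd hNpos (fun {d} hd hdN => hcard d hd hdN)
    exact IsPGroup.of_card this
  have hEq : N = (R : Subgroup X) := R.is_maximal' hNr hRN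
  rw [← hEq]
  exact hNn

end General

/-! ### `M_σ ≠ 1` -/

section Main

variable {G : Type*} [Group G] [Finite G]

omit [Finite G] in
theorem coatom_ne_bot (hG : IsMinSimpleOddOrder G) {M : Subgroup G} (hM : IsCoatom M) : M ≠ ⊥ := by
  rintro rfl
  have hs := hG.2.1
  apply hG.2.2.1
  obtain ⟨g, hg⟩ := exists_ne (1 : G)
  have hz : zpowers g = ⊤ := by
    by_contra hne
    have h1 : (⊥ : Subgroup G) < zpowers g := by
      rw [bot_lt_iff_ne_bot]
      intro hb
      exact hg (zpowers_eq_bot.mp hb)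
    exact hne (hM.2 _ h1)
  refine ⟨⟨fun a b => ?_⟩⟩
  have ha : a ∈ zpowers g := by rw [hz]; exact mem_top a
  have hb : b ∈ zpowers g := by rw [hz]; exact mem_top b
  obtain ⟨i, rfl⟩ := mem_zpowers_iff.mp ha
  obtain ⟨j, rfl⟩ := mem_zpowers_iff.mp hb
  exact (Commute.zpow_zpow_self g i j).eq

omit [Finite G] in
theorem le_normalizer_map_subtype (M : Subgroup G) (R : Subgroup ↥M) [R.Normal] :
    M ≤ normalizer ((R.map M.subtype : Subgroup G) : Set G) := by
  have h1 := Subgroup.le_normalizer_map (H := R) M.subtype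
  rw [Subgroup.normalizer_eq_top_iff.mpr inferInstance, ← MonoidHom.range_eq_map,
    Subgroup.range_subtype] at h1
  exact h1

/-- **`M_σ ≠ 1`** for a maximal subgroup `M` of a minimal simple group of odd order. -/
theorem sigmaCore_ne_bot (hG : IsMinSimpleOddOrder G) (M : Subgroup G) (hM : IsCoatom M) :
    sigmaCore M ≠ ⊥ := by
  intro hbot
  have hU := uniqHyp hG
  have hHall := (Cfsg.Agent.S1350.result hG M hM).1
  -- `σ(M)` is empty
  have hσ : ∀ q : ℕ, q ∈ sigma M → False := by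
    intro q hq
    have h1 := hHall.2.2 q hq.1 hq
    rw [hbot, Subgroup.relIndex_bot_left] at h1
    exact h1 hq.2.1
  have hM1 : M ≠ ⊥ := coatom_ne_bot hG hM
  have hcard : Nat.card ↥M ≠ 1 := fun hc => hM1 ((Subgroup.card_eq_one).mp hc)
  have h14 := (Cfsg.Agent.S1414.result hG M hM).2.2.2.2
  obtain ⟨r, hrF, hrd, R, hRn⟩ := exists_normal_sylow_of_tower (X := ↥M) hcard (by
    intro p hpp hpd q hq hqd
    have hβ : p ∉ beta M := by
      intro hb
      exact hσ p (mem_sigma_of_mem_alpha hG hU hM hb.1)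
    exact (h14 p hpp hpd hβ).2.2 q hq hqd)
  have hrp : r.Prime := hrF.out
  apply hσ r
  refine ⟨hrp, hrd, R, ?_⟩
  have hMN := le_normalizer_map_subtype M (R : Subgroup ↥M)
  have hR1 : ((R : Subgroup ↥M).map M.subtype : Subgroup G) ≠ ⊥ := by
    intro hb
    rw [Subgroup.map_eq_bot_iff_of_injective _ M.subtype_injective] at hb
    exact R.ne_bot_of_dvd_card hrd hb
  have hRtop : ((R : Subgroup ↥M).map M.subtype : Subgroup G) ≠ ⊤ :=
    ne_top_of_le_ne_top hM.1 (Subgroup.map_subtype_le _)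
  have hNtop := normalizer_ne_top hG hR1 hRtop
  exact (eq_of_isCoatom_of_le hM hNtop hMN).ge


/-! ### The normal Sylow subgroups of a nilpotent `M_σ` -/

/-- if `M_σ` is nilpotent, its Sylow `q`-subgroup is a Sylow subgroup of `G`, normal in `M`, with normalizer `M` -/
theorem exists_normal_sylM (hG : IsMinSimpleOddOrder G) {M : Subgroup G} (hM : IsCoatom M)
    (hnil : Group.IsNilpotent ↥(sigmaCore M)) {q : ℕ} [Fact q.Prime] (hq : q ∈ sigma M) :
    ∃ Q : Subgroup G, Q ≤ sigmaCore M ∧ SylM q M Q ∧ normalizer (Q : Set G) = M ∧ Q ≠ ⊥ := by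
  have hqq : q.Prime := hq.1
  have hHall := (Cfsg.Agent.S1350.result hG M hM).1
  have hσM : sigmaCore M ≤ M := hHall.1
  have hMσ : M ≤ normalizer ((sigmaCore M : Subgroup G) : Set G) :=
    le_normalizer_map_subtype M (piCore (sigma M) ↥M)
  obtain ⟨Q₀⟩ : Nonempty (Sylow q ↥(sigmaCore M)) := inferInstance
  have hS₀ : IsSylowIn q ((Q₀ : Subgroup ↥(sigmaCore M)).map (sigmaCore M).subtype) (sigmaCore M) :=
    isSylowIn_of_sylow Q₀
  set Q : Subgroup G := (Q₀ : Subgroup ↥(sigmaCore M)).map (sigmaCore M).subtype with hQ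
  have hQle : Q ≤ sigmaCore M := hS₀.1
  have hMQ : M ≤ normalizer (Q : Set G) := le_normalizer_of_sylow_nilpotent hnil hS₀ hMσ
  -- `Q` is a Sylow `q`-subgroup of `M`
  have hQM : IsSylowIn q Q M := by
    refine ⟨hQle.trans hσM, hS₀.2.1, ?_⟩
    intro hdvd
    have h1 : Q.relIndex M = Q.relIndex (sigmaCore M) * (sigmaCore M).relIndex M :=
      (Subgroup.relIndex_mul_relIndex Q (sigmaCore M) M hQle hσM).symm
    rw [h1] at hdvd
    rcases (Nat.Prime.dvd_mul hqq).mp hdvd with h2 | h2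
    · exact hS₀.2.2 h2
    · exact hHall.2.2 q hqq hq h2
  have hQ1 : Q ≠ ⊥ := by
    intro hb
    have h1 : ¬ q ∣ Q.relIndex M := hQM.2.2
    rw [hb, Subgroup.relIndex_bot_left] at h1
    exact h1 hq.2.1
  have hNQ : normalizer (Q : Set G) = M := by
    have hQtop : Q ≠ ⊤ := ne_top_of_le_ne_top hM.1 hQM.1
    have hNtop := normalizer_ne_top hG hQ1 hQtop
    exact (eq_of_isCoatom_of_le hM hNtop hMQ).symm
  refine ⟨Q, hQle, ?_, hNQ, hQ1⟩
  obtain ⟨S', hS'⟩ := exists_sylow_eq_of_normalizer_le hQM hNQ.le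
  refine ⟨?_, hQM.1, hNQ.le⟩
  rw [← hS']
  exact isSylowIn_top S'

/-! ### The last sub-case of Proposition 12.4(b) -/

/-- **Bender-Glauberman, Proposition 12.4(b), last sub-case.**  If `p ∉ σ(M)`, `A ≤ M` is elementary abelian of
order `p ^ 2` and `M_α = 1`, then `A` does not centralize `M_σ`. -/
theorem false_of_centralizes (hG : IsMinSimpleOddOrder G) (M : Subgroup G) (hM : IsCoatom M) (p : ℕ)
    [hp : Fact p.Prime] (hpσ : p ∉ sigma M) (A : Subgroup G)
    (hA : A ≤ M ∧ IsElementaryAbelian p A ∧ Nat.card A = p ^ 2) (hα : alphaCore M = ⊥)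
    (hc : A ≤ centralizer ((sigmaCore M : Subgroup G) : Set G)) : False := by
  obtain ⟨hAM, hAel, hAc⟩ := hA
  have hU := uniqHyp hG
  have hpp : p.Prime := hp.out
  have hAcomm : ∀ a ∈ A, ∀ b ∈ A, a * b = b * a := comm_of_isElementaryAbelian hAel
  have hAexp : ∀ a ∈ A, a ^ p = 1 := hAel.2
  have hAp : IsPGroup p ↥A := isPGroup_of_exp hAexp
  have hA1 : A ≠ ⊥ := by
    intro hb
    rw [hb, Subgroup.card_bot] at hAc
    have := hpp.one_lt
    nlinarith
  have hlt : p ^ 1 < Nat.card ↥A := by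
    rw [hAc, pow_one]
    have := hpp.one_lt
    nlinarith
  -- ranks
  have hr1 : ¬ PRankLE p 1 ↥M := not_pRankLE_of_elemAb hAM hAcomm hAexp hlt
  have hr2 : PRankLE p 2 ↥M := by
    by_contra hr
    exact hpσ (mem_sigma_of_mem_alpha hG hU hM ⟨hpp, hr⟩)
  have hmax := (Cfsg.Agent.S1408.result hG M hM p hpσ hr2 hr1).2 A hAM hAel hAc
  -- the transitivity hypothesis
  have hmemA : ∀ x ∈ centralizer (A : Set G), x ^ p = 1 → x ∈ A := by
    intro x hx hxp
    have hB : IsElementaryAbelian p (A ⊔ zpowers x) := by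
      have h1 := elemAb_sup (p := p) hAcomm hAexp (elemAb_zpowers hxp).1 (elemAb_zpowers hxp).2 (by
        intro a ha b hb
        obtain ⟨j, rfl⟩ := mem_zpowers_iff.mp hb
        have h1 : Commute x a := (mem_centralizer_iff.mp hx a ha).symm
        exact (h1.zpow_left j).symm.eq)
      exact isElementaryAbelian_of h1.1 h1.2
    have := hmax _ hB le_sup_left
    rw [← this]
    exact mem_sup_right (mem_zpowers x)
  have hpG : p ∣ Nat.card G := by
    have h1 : p ∣ Nat.card ↥A := by rw [hAc]; exact dvd_pow_self p (by norm_num)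
    exact h1.trans (Subgroup.card_subgroup_dvd_card A)
  have hTH : TransitivityHypothesis A := by
    apply Cfsg.Agent.S1396.result hG p hpG A hAp hAel.1
    refine Or.inl ⟨fun x hx => ⟨fun hxp => hmemA x hx hxp, fun hxA => hAexp x hxA⟩, ?_⟩
    intro H hH
    exact Cfsg.Agent.S1410.result hG p H hH
  -- `M'` and `M_σ` are nilpotent
  have hαcore : piCore (alpha M) ↥M = ⊥ := by
    have h1 : (piCore (alpha M) ↥M).map M.subtype = ⊥ := hα
    rwa [Subgroup.map_eq_bot_iff_of_injective _ M.subtype_injective] at h1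
  have hnilM' : Group.IsNilpotent ↥(commutator ↥M) := by
    have h5 := (Cfsg.Agent.S1405.result hG M hM).2.2.2.2
    have hinj : Function.Injective (QuotientGroup.mk' (piCore (alpha M) ↥M)) := by
      rw [← MonoidHom.ker_eq_bot_iff, QuotientGroup.ker_mk', hαcore]
    exact (Group.isNilpotent_congr ((commutator ↥M).equivMapOfInjective _ hinj)).mpr h5
  have hnilD : Group.IsNilpotent ↥⁅M, M⁆ := by
    rw [← Subgroup.map_subtype_commutator]
    exact isNilpotent_map_of_injective M.subtype M.subtype_injective hnilM'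
  have hσM' : sigmaCore M ≤ ⁅M, M⁆ := by
    rw [← Subgroup.map_subtype_commutator]
    exact Subgroup.map_mono (Cfsg.Agent.Lib.Helper70_BG1212.piCore_sigma_le_commutator hG hU M hM)
  have hnilσ : Group.IsNilpotent ↥(sigmaCore M) := isNilpotent_of_le' hσM' hnilD
  -- a prime `q` dividing `|M_σ|`
  have hσ1 : Nat.card ↥(sigmaCore M) ≠ 1 := fun h1 =>
    sigmaCore_ne_bot hG M hM ((Subgroup.card_eq_one).mp h1)
  obtain ⟨q, hqq, hqd⟩ := Nat.exists_prime_and_dvd hσ1
  have : Fact q.Prime := ⟨hqq⟩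
  have hqσ : q ∈ sigma M := mem_sigma_of_dvd_card_sigmaCore M hqq hqd
  obtain ⟨Q, hQσ, hSQ, hNQ, hQ1⟩ := exists_normal_sylM hG hM hnilσ hqσ
  have hqp : q ≠ p := fun h => hpσ (h ▸ hqσ)
  have hqA : ¬ q ∣ Nat.card ↥A := by
    rw [hAc]
    intro hd
    exact hqp ((Nat.prime_dvd_prime_iff_eq hqq hpp).mp (hqq.dvd_of_dvd_pow hd))
  -- `A` centralizes `Q`
  have hQC : Q ≤ centralizer (A : Set G) := by
    intro x hx
    rw [mem_centralizer_iff]
    intro a ha
    have h1 := mem_centralizer_iff.mp (hc ha) x (hQσ hx)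
    exact h1.symm
  have hqC : q ∣ Nat.card ↥(centralizer (A : Set G)) := by
    obtain ⟨k, hk⟩ := IsPGroup.iff_card.mp hSQ.1.isPGroup
    have hk0 : k ≠ 0 := by
      rintro rfl
      rw [pow_zero] at hk
      exact hQ1 ((Subgroup.card_eq_one).mp hk)
    have h1 : q ∣ Nat.card ↥Q := by rw [hk]; exact dvd_pow_self q hk0
    exact h1.trans (Subgroup.card_dvd_of_le hQC)
  have hZ : ¬ RankLE 1 ↥(A ⊓ centralizer (A : Set G)) := by
    intro h
    refine not_pRankLE_of_elemAb (K := A ⊓ centralizer (A : Set G)) (le_inf le_rfl ?_) hAcomm hAexp hlt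
      (h p hpp)
    intro a ha
    rw [mem_centralizer_iff]
    intro b hb
    exact hAcomm b hb a ha
  have htr := Cfsg.Agent.S1394.result hG A hTH hZ q hqq hqA hqC
  -- maximal invariant subgroups
  have hmaxinv : ∀ (B R : Subgroup G), IsSylowIn q R ⊤ → B ≤ normalizer (R : Set G) →
      R ∈ maxInvSubgroups ⊤ B {q} := by
    intro B R hR hBR
    refine ⟨(mem_invSubgroups_top hqq).mpr ⟨hR.isPGroup, hBR⟩, ?_⟩
    intro R' hR' hle
    exact hR.eq_of_le hle le_top ((mem_invSubgroups_top hqq).mp hR').1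
  have hQA : Q ∈ maxInvSubgroups ⊤ A {q} :=
    hmaxinv A Q hSQ.1 (hAM.trans (hNQ ▸ le_rfl))
  -- a Sylow `p`-subgroup `T` of `G` containing `A`
  obtain ⟨S, hAS⟩ := hAp.exists_le_sylow
  set T : Subgroup G := (S : Subgroup G) with hT
  have hTp : IsPGroup p ↥T := S.isPGroup'
  have hTtop : T ≠ ⊤ := ne_top_of_isPGroup hG hpp hTp
  have hT1 : T ≠ ⊥ := fun hb => hA1 (le_bot_iff.mp (hb ▸ hAS))
  have hTπ : ∀ r : ℕ, r.Prime → r ∣ Nat.card ↥T → r ∣ Nat.card ↥A := by
    intro r hr hrd
    obtain ⟨k, hk⟩ := IsPGroup.iff_card.mp hTp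
    rw [hk] at hrd
    have : r = p := (Nat.prime_dvd_prime_iff_eq hr hpp).mp (hr.dvd_of_dvd_pow hrd)
    rw [this, hAc]
    exact dvd_pow_self p (by norm_num)
  have hsn : (A.subgroupOf T).IsSubnormal := by
    have : Group.IsNilpotent ↥T := hTp.isNilpotent
    exact isSubnormal_of_nilpotent _
  obtain ⟨-, -, hsub, hd⟩ := Cfsg.Agent.S1395.result hG A hTH q hqq hqA T hTtop hTπ hAS hsn htr
  -- some `Q₁ ∈ И*(T; q)`
  obtain ⟨Q₁, hQ₁, -⟩ := exists_max_ge (A := T) hqq (R := ⊥) (IsPGroup.of_bot) (by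
    intro t _
    rw [mem_normalizer_iff]
    intro x
    simp [Subgroup.mem_bot])
  obtain ⟨k, -, hkQ⟩ := htr Q hQA Q₁ (hsub hQ₁)
  have hkQ' : Q₁ = cj k Q := hkQ
  obtain ⟨hd1, -⟩ := hd Q₁ hQ₁
  -- `T ≤ N_G(T)'`
  have hTN : T ≤ ⁅normalizer (T : Set G), normalizer (T : Set G)⁆ := by
    -- a complement of `T` in its normalizer
    have hTn : (T.subgroupOf (normalizer (T : Set G))).Normal := Subgroup.normal_in_normalizer
    have hcop : (Nat.card ↥(T.subgroupOf (normalizer (T : Set G)))).Coprime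
        (T.subgroupOf (normalizer (T : Set G))).index := by
      have hSN : IsSylowIn p T (normalizer (T : Set G)) := (isSylowIn_top S).mono le_normalizer le_top
      obtain ⟨k', hk'⟩ := IsPGroup.iff_card.mp
        (hTp.comap_of_injective (normalizer (T : Set G)).subtype (normalizer (T : Set G)).subtype_injective)
      have hk'' : Nat.card ↥(T.subgroupOf (normalizer (T : Set G))) = p ^ k' := hk'
      rw [hk'']
      apply Nat.Coprime.pow_left
      rw [Nat.Prime.coprime_iff_not_dvd hpp]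
      exact hSN.2.2
    obtain ⟨V₀, hV₀⟩ := Subgroup.exists_right_complement'_of_coprime hcop
    have hV : IsComplIn T (V₀.map (normalizer (T : Set G)).subtype) (normalizer (T : Set G)) := by
      refine ⟨le_normalizer, Subgroup.map_subtype_le _, ?_, ?_⟩
      · rw [eq_bot_iff]
        rintro x ⟨hxT, ⟨y, hy, rfl⟩⟩
        have h1 : y ∈ T.subgroupOf (normalizer (T : Set G)) ⊓ V₀ :=
          Subgroup.mem_inf.mpr ⟨Subgroup.mem_subgroupOf.mpr hxT, hy⟩
        rw [hV₀.disjoint.eq_bot, Subgroup.mem_bot] at h1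
        rw [h1]
        exact Subgroup.mem_bot.mpr rfl
      · intro m hm
        obtain ⟨⟨⟨a, ha⟩, ⟨b, hb⟩⟩, hab, -⟩ := hV₀.existsUnique ⟨m, hm⟩
        refine ⟨a.1, Subgroup.mem_subgroupOf.mp ha, b.1, ⟨b, hb, rfl⟩, ?_⟩
        have := congrArg Subtype.val hab
        simpa using this.symm
    exact (Cfsg.Agent.S1411.result hG p S _ hV).2
  -- `N_G(Q₁)' = k M' k⁻¹`
  have hNQ₁ : normalizer (Q₁ : Set G) = cj k M := by rw [hkQ', normalizer_cj, hNQ]
  have hcomm : ⁅normalizer (Q₁ : Set G), normalizer (Q₁ : Set G)⁆ = cj k ⁅M, M⁆ := by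
    rw [hNQ₁]
    exact (Subgroup.map_commutator M M (MulAut.conj k).toMonoidHom).symm
  have hTD : T ≤ cj k ⁅M, M⁆ := by
    rw [← hcomm]
    exact (le_inf le_rfl hTN).trans hd1
  have hnilkD : Group.IsNilpotent ↥(cj k ⁅M, M⁆) :=
    isNilpotent_map_of_injective _ (MulAut.conj k).injective hnilD
  have hMD : M ≤ normalizer ((⁅M, M⁆ : Subgroup G) : Set G) := by
    have := le_normalizer_map_subtype M (commutator ↥M)
    rwa [Subgroup.map_subtype_commutator] at this
  have hkMD : cj k M ≤ normalizer ((cj k ⁅M, M⁆ : Subgroup G) : Set G) := by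
    rw [normalizer_cj]
    exact cj_mono hMD
  have hST : IsSylowIn p T (cj k ⁅M, M⁆) := (isSylowIn_top S).mono hTD le_top
  have hkMT : cj k M ≤ normalizer (T : Set G) := le_normalizer_of_sylow_nilpotent hnilkD hST hkMD
  have hNT : normalizer (T : Set G) = cj k M :=
    (eq_of_isCoatom_of_le (isCoatom_cj hM k) (normalizer_ne_top hG hT1 hTtop) hkMT).symm
  -- conjugate back into `M`
  set T' : Subgroup G := cj k⁻¹ T with hT'
  have hT'M : T' ≤ M := by
    have h1 : T ≤ cj k M := hNT ▸ le_normalizer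
    have := cj_mono (k := k⁻¹) h1
    rwa [cj_inv_cj] at this
  have hT'S : IsSylowIn p T' ⊤ := by
    have := (isSylowIn_top S).conj k⁻¹
    rwa [Subgroup.map_top_of_surjective _ (MulAut.conj k⁻¹).surjective] at this
  have hNT' : normalizer (T' : Set G) = M := by
    rw [hT', normalizer_cj, hNT, cj_inv_cj]
  have hT'1 : T' ≠ ⊥ := cj_ne_bot hT1
  exact hpσ (mem_sigma_of_normalizer_le (hT'S.mono hT'M le_top) hT'1 hNT'.le)

end Main

end Cfsg.Agent.Lib.Helper49_BG124
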