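import Cfsg.Agent.S1453
import Cfsg.Agent.Lib.Helper29_BG12a
import Cfsg.Agent.Lib.Helper24_CoprimeAction

/-!
# Centralizers of maximal elementary abelian subgroups of order `p ^ 2` (helper62)

Pure `p`-group lemmas used for B&G Lemma 11.5 / Theorem 12.5(a) ("the Sylow `p`-subgroups of `M` are
abelian").  If `E` is elementary abelian of order `p ^ 2` and not contained in a larger elementary
abelian subgroup of the `p`-group `R` (`p` odd), then `C_R(E)` is abelian:

* `centralizer_comm_of_rank_three`: `R` of rank at least three (via the landed `S1453`);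
* `centralizer_comm_of_central_product`: `R = P₁ ⊔ P₂` in the shape of the conclusion of `S1412`
  (no maximality assumption needed there);
* `sylow_centralizer_comm`: a Sylow subgroup of a minimal simple group of odd order, taking the
  `S1412` alternative for that Sylow subgroup as an explicit hypothesis.
-/

set_option autoImplicit false
open Cfsg

namespace Cfsg.Agent.Lib.Helper62_EStarCent

open Cfsg.Agent.S1453

theorem comm_of_isElementaryAbelian {G : Type*} [Group G] {p : ℕ} {E : Subgroup G}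
    (hE : Cfsg.IsElementaryAbelian p E) : ∀ x ∈ E, ∀ y ∈ E, x * y = y * x := by
  intro x hx y hy
  have := hE.1.is_comm.comm ⟨x, hx⟩ ⟨y, hy⟩
  exact congrArg Subtype.val this

theorem mk_isElementaryAbelian {G : Type*} [Group G] {p : ℕ} (A : Subgroup G)
    (hc : ∀ x ∈ A, ∀ y ∈ A, x * y = y * x) (he : ∀ a ∈ A, a ^ p = 1) :
    Cfsg.IsElementaryAbelian p A :=
  ⟨⟨⟨fun a b => Subtype.ext (hc a.1 a.2 b.1 b.2)⟩⟩, he⟩

/-- an element of order dividing `p` that centralizes a maximal elementary abelian subgroup lies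
in it -/
theorem mem_of_pow_eq_one_of_centralizes {G : Type*} [Group G] {p : ℕ} {E : Subgroup G}
    (hE : Cfsg.IsElementaryAbelian p E)
    (hEmax : ∀ B : Subgroup G, Cfsg.IsElementaryAbelian p B → E ≤ B → B = E)
    {w : G} (hwp : w ^ p = 1) (hwc : ∀ x ∈ E, x * w = w * x) : w ∈ E := by
  obtain ⟨h1, h2⟩ := ea_sup E (Subgroup.zpowers w) (comm_of_isElementaryAbelian hE) (zpowers_comm w)
    (by
      intro x hx y hy
      obtain ⟨i, rfl⟩ := Subgroup.mem_zpowers_iff.mp hy
      exact (Commute.zpow_right (hwc x hx) i).eq)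
    hE.2 (zpowers_exp hwp)
  have := hEmax _ (mk_isElementaryAbelian _ h1 h2) le_sup_left
  rw [← this]
  exact Subgroup.mem_sup_right (Subgroup.mem_zpowers w)

/-- a proper subgroup of a group of order `p ^ 2` has order at most `p` -/
theorem card_le_of_lt_of_card_sq {G : Type*} [Group G] [Finite G] {p : ℕ} (hp : p.Prime)
    {D E : Subgroup G} (hDE : D ≤ E) (hne : ¬ E ≤ D) (hE2 : Nat.card E = p ^ 2) :
    Nat.card D ≤ p := by
  have hdvd : Nat.card D ∣ p ^ 2 := hE2 ▸ Subgroup.card_dvd_of_le hDE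
  obtain ⟨k, hk, hkc⟩ := (Nat.dvd_prime_pow hp).mp hdvd
  have hk2 : k ≠ 2 := by
    rintro rfl
    apply hne
    have : D = E := Subgroup.eq_of_le_of_card_ge hDE (by rw [hkc, hE2])
    rw [this]
  have hk1 : k ≤ 1 := by omega
  rw [hkc]
  calc p ^ k ≤ p ^ 1 := Nat.pow_le_pow_right hp.pos hk1
    _ = p := pow_one p

/-- Let `p` be odd, `R` a `p`-group of rank at least three and `E` a maximal elementary abelian
subgroup of order `p ^ 2`.  Then `C_R(E)` is abelian. -/
theorem centralizer_comm_of_rank_three {R : Type*} [Group R] [Finite R] (p : ℕ) [Fact p.Prime]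
    (hp : p ≠ 2) (hR : IsPGroup p R) (hr : ¬ Cfsg.PRankLE p 2 R)
    (E : Subgroup R) (hE : Cfsg.IsElementaryAbelian p E) (hE2 : Nat.card E = p ^ 2)
    (hEmax : ∀ B : Subgroup R, Cfsg.IsElementaryAbelian p B → E ≤ B → B = E) :
    ∀ x ∈ Subgroup.centralizer (E : Set R), ∀ y ∈ Subgroup.centralizer (E : Set R),
      x * y = y * x := by
  have hpP : p.Prime := Fact.out
  obtain ⟨hET, -, -, hTchar, hTidx⟩ := Cfsg.Agent.S1453.result p hp hR hr E hE hE2 hEmax
  set T : Subgroup R := Subgroup.centralizer ((Subgroup.closure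
    {x : R | x ∈ Subgroup.upperCentralSeries R 2 ∧ x ^ p = 1} : Subgroup R) : Set R) with hT
  have hTn : T.Normal := Subgroup.normal_of_characteristic T
  have hEcomm := comm_of_isElementaryAbelian hE
  -- an element `a` of `E` outside `T`
  obtain ⟨a, haE, haT⟩ := SetLike.not_le_iff_exists.mp hET
  set C : Subgroup R := Subgroup.centralizer (E : Set R) with hC
  have haC : a ∈ C := by
    rw [hC, Subgroup.mem_centralizer_iff]
    intro x hx
    exact hEcomm x hx a haE
  -- `D = C ∩ T` is cyclic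
  set D : Subgroup R := C ⊓ T with hD
  have hDE : ∀ x ∈ D, x ^ p = 1 → x ∈ E ⊓ T := by
    intro x hx hxp
    refine ⟨mem_of_pow_eq_one_of_centralizes hE hEmax hxp ?_, hx.2⟩
    intro e he
    exact Subgroup.mem_centralizer_iff.mp hx.1 e he
  have hETcard : Nat.card (E ⊓ T : Subgroup R) ≤ p :=
    card_le_of_lt_of_card_sq hpP inf_le_left (fun h => hET (h.trans inf_le_right)) hE2
  have hDrank : Cfsg.PRankLE p 1 D := by
    intro A _ hAe
    have hle : A.map D.subtype ≤ E ⊓ T := by
      rintro _ ⟨x, hx, rfl⟩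
      apply hDE _ x.2
      have := hAe x hx
      have h2 := congrArg Subtype.val this
      simpa using h2
    have hcard : Nat.card (A.map D.subtype) = Nat.card A :=
      Subgroup.card_map_of_injective D.subtype_injective
    rw [pow_one, ← hcard]
    exact (Subgroup.card_le_of_le hle).trans hETcard
  have hDcyc : IsCyclic D :=
    Cfsg.Agent.Lib.Helper29_BG12a.isCyclic_of_pRankLE_one hp (hR.to_subgroup D) hDrank
  have hDcomm : ∀ x ∈ D, ∀ y ∈ D, x * y = y * x := by
    intro x hx y hy
    have hDc := hDcyc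
    have := mul_comm' (⟨x, hx⟩ : D) ⟨y, hy⟩
    exact congrArg Subtype.val this
  -- every element of `C` is a power of `a` times an element of `D`
  have hdecomp : ∀ x ∈ C, ∃ k : ℤ, a ^ (-k) * x ∈ D := by
    intro x hx
    have hcardQ : Nat.card (R ⧸ T) = p := hTidx
    have hane : (QuotientGroup.mk a : R ⧸ T) ≠ 1 := by
      intro h
      exact haT ((QuotientGroup.eq_one_iff a).mp h)
    have htop : Subgroup.zpowers (QuotientGroup.mk a : R ⧸ T) = ⊤ := by
      exact zpowers_eq_top_of_prime_card hcardQ hane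
    have hxm : (QuotientGroup.mk x : R ⧸ T) ∈ Subgroup.zpowers (QuotientGroup.mk a : R ⧸ T) := by
      rw [htop]; trivial
    obtain ⟨k, hk⟩ := Subgroup.mem_zpowers_iff.mp hxm
    refine ⟨k, Subgroup.mul_mem _ (Subgroup.zpow_mem _ haC _) hx, ?_⟩
    show a ^ (-k) * x ∈ T
    rw [← QuotientGroup.eq_one_iff, QuotientGroup.mk_mul, QuotientGroup.mk_zpow, ← hk, zpow_neg,
      inv_mul_cancel]
  intro x hx y hy
  obtain ⟨k, hk⟩ := hdecomp x hx
  obtain ⟨l, hl⟩ := hdecomp y hy
  have hcomm_a : ∀ t ∈ C, Commute a t := by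
    intro t ht
    exact (Subgroup.mem_centralizer_iff.mp ht a haE)
  set t := a ^ (-k) * x with ht
  set s := a ^ (-l) * y with hs
  have hx' : x = a ^ k * t := by rw [ht, zpow_neg, mul_inv_cancel_left]
  have hy' : y = a ^ l * s := by rw [hs, zpow_neg, mul_inv_cancel_left]
  have hts : Commute t s := hDcomm t hk s hl
  have hat : Commute a t := hcomm_a t hk.1
  have has : Commute a s := hcomm_a s hl.1
  have h1 : Commute (a ^ k) (a ^ l) := (Commute.refl a).zpow_zpow k l
  have h2 : Commute (a ^ k) s := has.zpow_left k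
  have h3 : Commute t (a ^ l) := (hat.zpow_left l).symm
  rw [hx', hy']
  exact ((h1.mul_right h2).mul_left (h3.mul_right hts)).eq

/-- elements of the join of two elementwise commuting subgroups are products -/
theorem exists_mul_of_mem_sup_of_commute {G : Type*} [Group G] {H K : Subgroup G}
    (h : ∀ a ∈ H, ∀ b ∈ K, a * b = b * a) {x : G} (hx : x ∈ H ⊔ K) :
    ∃ u ∈ H, ∃ v ∈ K, x = u * v := by
  let T : Subgroup G :=
    { carrier := {x | ∃ u ∈ H, ∃ v ∈ K, x = u * v}
      mul_mem' := by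
        rintro _ _ ⟨u, hu, v, hv, rfl⟩ ⟨u', hu', v', hv', rfl⟩
        refine ⟨u * u', H.mul_mem hu hu', v * v', K.mul_mem hv hv', ?_⟩
        have hc : v * u' = u' * v := (h u' hu' v hv).symm
        calc u * v * (u' * v') = u * (v * u') * v' := by group
          _ = u * (u' * v) * v' := by rw [hc]
          _ = u * u' * (v * v') := by group
      one_mem' := ⟨1, H.one_mem, 1, K.one_mem, (mul_one 1).symm⟩
      inv_mem' := by
        rintro _ ⟨u, hu, v, hv, rfl⟩
        refine ⟨u⁻¹, H.inv_mem hu, v⁻¹, K.inv_mem hv, ?_⟩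
        have hc : u⁻¹ * v⁻¹ = v⁻¹ * u⁻¹ := h u⁻¹ (H.inv_mem hu) v⁻¹ (K.inv_mem hv)
        rw [mul_inv_rev, hc] }
  have hT : H ⊔ K ≤ T := by
    apply sup_le
    · intro u hu
      exact ⟨u, hu, 1, K.one_mem, (mul_one u).symm⟩
    · intro v hv
      exact ⟨1, H.one_mem, v, hv, (one_mul v).symm⟩
  exact hT hx

/-- a group with a central subgroup of index dividing a prime is commutative -/
theorem comm_of_central_index_dvd_prime {F : Type*} [Group F] {p : ℕ} (hp : p.Prime)
    (Z : Subgroup F) (hZ : Z ≤ Subgroup.center F) (hidx : Z.index ∣ p) :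
    ∀ a b : F, a * b = b * a := by
  have hZn : Z.Normal := by
    constructor
    intro n hn g
    have := Subgroup.mem_center_iff.mp (hZ hn) g
    rw [this, mul_inv_cancel_right]
    exact hn
  have hcyc : IsCyclic (F ⧸ Z) := by
    rcases (Nat.dvd_prime hp).mp hidx with h1 | h1
    · have hc : Nat.card (F ⧸ Z) = 1 := h1
      have hs := (Nat.card_eq_one_iff_unique.mp hc).1
      exact isCyclic_of_subsingleton
    · have hc : Nat.card (F ⧸ Z) = p := h1
      have hf : Fact p.Prime := ⟨hp⟩
      exact isCyclic_of_prime_card hc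
  have hker : (QuotientGroup.mk' Z).ker ≤ Subgroup.center F := by
    rw [QuotientGroup.ker_mk']
    exact hZ
  have := (QuotientGroup.mk' Z).isMulCommutative_of_isCyclic_of_ker_le_center hker
  intro a b
  exact mul_comm' a b

/-- Let `S = P₁ ⊔ P₂` with `P₁` of order `p ^ 3` and exponent `p`, `P₂` cyclic centralizing `P₁`
and `Ω₁(P₂) ≤ P₁` (the shape of the conclusion of `S1412`).  Then the centralizer in `S` of every
elementary abelian subgroup `E ≤ S` of order `p ^ 2` is abelian. -/
theorem centralizer_comm_of_central_product {G : Type*} [Group G] [Finite G] (p : ℕ)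
    [Fact p.Prime] (P₁ P₂ : Subgroup G) (hcomm : ∀ a ∈ P₁, ∀ b ∈ P₂, a * b = b * a)
    (hcard : Nat.card P₁ = p ^ 3) (hexp : Monoid.exponent P₁ = p) (hcyc : IsCyclic P₂)
    (hOm : Subgroup.closure {x : G | x ∈ P₂ ∧ x ^ p = 1} =
      P₁ ⊓ Subgroup.centralizer (P₁ : Set G))
    (E : Subgroup G) (hES : E ≤ P₁ ⊔ P₂) (hE : Cfsg.IsElementaryAbelian p E)
    (hE2 : Nat.card E = p ^ 2) :
    ∀ x ∈ (P₁ ⊔ P₂) ⊓ Subgroup.centralizer (E : Set G),
      ∀ y ∈ (P₁ ⊔ P₂) ⊓ Subgroup.centralizer (E : Set G), x * y = y * x := by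
  have hpP : p.Prime := Fact.out
  have hEcomm := comm_of_isElementaryAbelian hE
  -- elements of order dividing `p` of `P₂` lie in `P₁`
  have hb : ∀ v ∈ P₂, v ^ p = 1 → v ∈ P₁ := by
    intro v hv hvp
    have : v ∈ Subgroup.closure {x : G | x ∈ P₂ ∧ x ^ p = 1} := Subgroup.subset_closure ⟨hv, hvp⟩
    rw [hOm] at this
    exact this.1
  have hexp1 : ∀ u ∈ P₁, u ^ p = 1 := by
    intro u hu
    have h1 := Monoid.pow_exponent_eq_one (⟨u, hu⟩ : P₁)
    rw [hexp] at h1
    have h2 := congrArg Subtype.val h1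
    simpa using h2
  -- `E ≤ P₁`
  have hEP : E ≤ P₁ := by
    intro x hx
    obtain ⟨u, hu, v, hv, rfl⟩ := exists_mul_of_mem_sup_of_commute hcomm (hES hx)
    have hxp := hE.2 _ hx
    have hc : Commute u v := hcomm u hu v hv
    rw [hc.mul_pow, hexp1 u hu, one_mul] at hxp
    exact P₁.mul_mem hu (hb v hv hxp)
  -- `F = C_{P₁}(E)` is abelian
  set F : Subgroup G := P₁ ⊓ Subgroup.centralizer (E : Set G) with hF
  have hEF : E ≤ F := by
    intro e he
    refine ⟨hEP he, ?_⟩
    show e ∈ Subgroup.centralizer (E : Set G)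
    rw [Subgroup.mem_centralizer_iff]
    intro x hx
    exact hEcomm x hx e he
  have hFP : F ≤ P₁ := inf_le_left
  have hrel : E.relIndex F ∣ p := by
    have h1 : E.relIndex F * F.relIndex P₁ = E.relIndex P₁ := Subgroup.relIndex_mul_relIndex _ _ _ hEF hFP
    have h2 : Nat.card (E.subgroupOf P₁) * (E.subgroupOf P₁).index = Nat.card P₁ :=
      Subgroup.card_mul_index _
    rw [Cfsg.Agent.Lib.Helper24_CoprimeAction.card_subgroupOf_of_le hEP, hE2, hcard] at h2
    have h3 : E.relIndex P₁ = p := by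
      have h4 : (E.subgroupOf P₁).index = p := by
        have hpos : 0 < p ^ 2 := pow_pos hpP.pos 2
        apply Nat.eq_of_mul_eq_mul_left hpos
        rw [h2]; ring
      exact h4
    rw [← h3, ← h1]
    exact Dvd.intro _ rfl
  have hFcomm : ∀ a b : F, a * b = b * a := by
    apply comm_of_central_index_dvd_prime hpP (E.subgroupOf F) _ hrel
    intro z hz
    rw [Subgroup.mem_center_iff]
    intro g
    apply Subtype.ext
    have hzE : (z : G) ∈ E := Subgroup.mem_subgroupOf.mp hz
    have hg : (g : G) ∈ Subgroup.centralizer (E : Set G) := g.2.2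
    exact (Subgroup.mem_centralizer_iff.mp hg z hzE).symm
  have hP₂comm : ∀ v ∈ P₂, ∀ v' ∈ P₂, v * v' = v' * v := by
    intro v hv v' hv'
    have hc := hcyc
    have := mul_comm' (⟨v, hv⟩ : P₂) ⟨v', hv'⟩
    exact congrArg Subtype.val this
  -- `P₂` centralizes `E`
  have hP₂E : ∀ v ∈ P₂, v ∈ Subgroup.centralizer (E : Set G) := by
    intro v hv
    rw [Subgroup.mem_centralizer_iff]
    intro e he
    exact hcomm e (hEP he) v hv
  intro x hx y hy
  obtain ⟨u, hu, v, hv, rfl⟩ := exists_mul_of_mem_sup_of_commute hcomm hx.1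
  obtain ⟨u', hu', v', hv', rfl⟩ := exists_mul_of_mem_sup_of_commute hcomm hy.1
  have huF : u ∈ F := by
    refine ⟨hu, ?_⟩
    have := Subgroup.mul_mem _ hx.2 (Subgroup.inv_mem _ (hP₂E v hv))
    rwa [mul_inv_cancel_right] at this
  have hu'F : u' ∈ F := by
    refine ⟨hu', ?_⟩
    have := Subgroup.mul_mem _ hy.2 (Subgroup.inv_mem _ (hP₂E v' hv'))
    rwa [mul_inv_cancel_right] at this
  have h1 : Commute u u' := congrArg Subtype.val (hFcomm ⟨u, huF⟩ ⟨u', hu'F⟩)
  have h2 : Commute u v' := hcomm u hu v' hv'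
  have h3 : Commute v u' := (hcomm u' hu' v hv).symm
  have h4 : Commute v v' := hP₂comm v hv v' hv'
  exact ((h1.mul_right h2).mul_left (h3.mul_right h4)).eq

theorem isElementaryAbelian_map_subtype {G : Type*} [Group G] {p : ℕ} {S : Subgroup G}
    {B : Subgroup S} (hB : Cfsg.IsElementaryAbelian p B) :
    Cfsg.IsElementaryAbelian p (B.map S.subtype) := by
  have hc := comm_of_isElementaryAbelian hB
  apply mk_isElementaryAbelian
  · rintro _ ⟨x, hx, rfl⟩ _ ⟨y, hy, rfl⟩
    have := hc x hx y hy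
    exact congrArg Subtype.val this
  · rintro _ ⟨x, hx, rfl⟩
    have := hB.2 x hx
    have h2 := congrArg Subtype.val this
    simpa using h2

theorem isElementaryAbelian_subgroupOf {G : Type*} [Group G] {p : ℕ} {E : Subgroup G}
    (hE : Cfsg.IsElementaryAbelian p E) (S : Subgroup G) :
    Cfsg.IsElementaryAbelian p (E.subgroupOf S) := by
  have hc := comm_of_isElementaryAbelian hE
  apply mk_isElementaryAbelian
  · intro x hx y hy
    apply Subtype.ext
    exact hc x (Subgroup.mem_subgroupOf.mp hx) y (Subgroup.mem_subgroupOf.mp hy)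
  · intro x hx
    apply Subtype.ext
    have := hE.2 x (Subgroup.mem_subgroupOf.mp hx)
    simpa using this

/-- Let `p` be odd, `S` a `p`-subgroup of `G` satisfying the conclusion of `S1412` when it has
rank at most two, and `E ≤ S` elementary abelian of order `p ^ 2` contained in no larger
elementary abelian subgroup of `S`.  Then `C_S(E)` is abelian. -/
theorem sylow_centralizer_comm {G : Type*} [Group G] [Finite G] (p : ℕ) [Fact p.Prime]
    (hp : p ≠ 2) (S : Subgroup G) (hS : IsPGroup p S)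
    (h1412 : Cfsg.PRankLE p 2 S → IsMulCommutative S ∨ ∃ P₁ P₂ : Subgroup G, P₁ ⊔ P₂ = S ∧
        (∀ a ∈ P₁, ∀ b ∈ P₂, a * b = b * a) ∧
        ¬ IsMulCommutative P₁ ∧ Nat.card P₁ = p ^ 3 ∧ Monoid.exponent P₁ = p ∧ IsCyclic P₂ ∧
        Subgroup.closure {x : G | x ∈ P₂ ∧ x ^ p = 1} = P₁ ⊓ Subgroup.centralizer (P₁ : Set G))
    (E : Subgroup G) (hES : E ≤ S) (hE : Cfsg.IsElementaryAbelian p E) (hE2 : Nat.card E = p ^ 2)
    (hEmax : ∀ B : Subgroup G, B ≤ S → Cfsg.IsElementaryAbelian p B → E ≤ B → B = E) :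
    ∀ x ∈ S ⊓ Subgroup.centralizer (E : Set G), ∀ y ∈ S ⊓ Subgroup.centralizer (E : Set G),
      x * y = y * x := by
  by_cases hr : Cfsg.PRankLE p 2 S
  · rcases h1412 hr with hab | ⟨P₁, P₂, hsup, hcomm, -, hcard, hexp, hcyc, hOm⟩
    · intro x hx y hy
      have := mul_comm' (⟨x, hx.1⟩ : S) ⟨y, hy.1⟩
      exact congrArg Subtype.val this
    · rw [← hsup]
      exact centralizer_comm_of_central_product p P₁ P₂ hcomm hcard hexp hcyc hOm E
        (hsup ▸ hES) hE hE2
  · have hE' : Cfsg.IsElementaryAbelian p (E.subgroupOf S) := isElementaryAbelian_subgroupOf hE S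
    have hE2' : Nat.card (E.subgroupOf S) = p ^ 2 := by
      rw [Cfsg.Agent.Lib.Helper24_CoprimeAction.card_subgroupOf_of_le hES, hE2]
    have hmax' : ∀ B : Subgroup S, Cfsg.IsElementaryAbelian p B → E.subgroupOf S ≤ B →
        B = E.subgroupOf S := by
      intro B hB hEB
      have h1 : B.map S.subtype = E := by
        apply hEmax _ (Subgroup.map_subtype_le B) (isElementaryAbelian_map_subtype hB)
        intro e he
        exact ⟨⟨e, hES he⟩, hEB (Subgroup.mem_subgroupOf.mpr he), rfl⟩
      rw [← h1]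
      ext x
      rw [Subgroup.mem_subgroupOf]
      constructor
      · intro hx
        exact ⟨x, hx, rfl⟩
      · rintro ⟨y, hy, hyx⟩
        have : y = x := Subtype.ext hyx
        rwa [← this]
    have key := centralizer_comm_of_rank_three p hp hS hr (E.subgroupOf S) hE' hE2' hmax'
    have hmem : ∀ x ∈ S ⊓ Subgroup.centralizer (E : Set G), ∀ hx : x ∈ S,
        (⟨x, hx⟩ : S) ∈ Subgroup.centralizer ((E.subgroupOf S : Subgroup S) : Set S) := by
      intro x hx hxS
      rw [Subgroup.mem_centralizer_iff]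
      intro e he
      apply Subtype.ext
      exact Subgroup.mem_centralizer_iff.mp hx.2 e (Subgroup.mem_subgroupOf.mp he)
    intro x hx y hy
    have := key ⟨x, hx.1⟩ (hmem x hx hx.1) ⟨y, hy.1⟩ (hmem y hy hy.1)
    exact congrArg Subtype.val this

/-- a subgroup of an elementwise commutative subgroup is commutative -/
theorem isMulCommutative_of_le {G : Type*} [Group G] {P C : Subgroup G} (hPC : P ≤ C)
    (hC : ∀ x ∈ C, ∀ y ∈ C, x * y = y * x) : IsMulCommutative P :=
  ⟨⟨fun a b => Subtype.ext (hC a.1 (hPC a.2) b.1 (hPC b.2))⟩⟩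

end Cfsg.Agent.Lib.Helper62_EStarCent
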