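import Mathlib
import Cfsg.Agent.Lib.Helper35_BG11b
import Cfsg.Agent.Lib.Helper49_BG124
import Cfsg.Agent.Lib.Helper62_EStarCent
import Cfsg.Agent.Lib.Helper70_BG107e
import Cfsg.Agent.Lib.Helper52_BG12a

set_option autoImplicit false
open Cfsg

/-!
# Bender–Glauberman, Section 11, part c  (helper35)

`A` is central in every Sylow `p`-subgroup of `M` containing it (the first half of Lemmas 11.5/11.6),
modulo a `p`-group lemma (`TLemma`).
-/

namespace Cfsg.Agent.Lib.Helper35_BG11c

open Subgroup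

/-- the `p`-group lemma used below, as a proposition: in a `p`-group `PG` with a central element `z` of
order `p` and a non-central element `b` of order `p` such that `⟨b, z⟩` contains every element of order
dividing `p` commuting with `b`, every element of the coset `b⟨z⟩` is conjugate to `b` under `PG` -/
def TLemma (G : Type*) [Group G] : Prop :=
  ∀ (p : ℕ) [Fact p.Prime] (PG : Subgroup G) [Finite PG], IsPGroup p PG →
  ∀ (z b : G), z ∈ PG → (∀ y ∈ PG, y * z = z * y) → z ^ p = 1 → z ≠ 1 →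
    b ∈ PG → b ^ p = 1 → b ∉ Subgroup.zpowers z →
    (∀ x ∈ PG, x * b = b * x → x ^ p = 1 → x ∈ Subgroup.zpowers b ⊔ Subgroup.zpowers z) →
    (∃ y ∈ PG, y * b ≠ b * y) →
    ∀ i : ℕ, ∃ y ∈ PG, b * z ^ i = y * b * y⁻¹

end Cfsg.Agent.Lib.Helper35_BG11c

namespace Cfsg.Agent.Lib.Helper35_BG11a

open Subgroup Cfsg.Agent.Lib.Helper22_Radical Cfsg.Agent.Lib.Helper22_BGTrans
  Cfsg.Agent.Lib.Helper22_Uniq Cfsg.Agent.Lib.Helper84_RelSylow
  Cfsg.Agent.Lib.Helper49_Sigma Cfsg.Agent.Lib.Helper49_Alpha Cfsg.Agent.Lib.Helper49_Alpha2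
  Cfsg.Agent.Lib.Helper49_Alpha3
  Cfsg.Agent.Lib.Helper70_BG106 Cfsg.Agent.Lib.Helper70_BG1212 Cfsg.Agent.Lib.Helper70_BG1012
  Cfsg.Agent.Lib.Helper24_CoprimeHall Cfsg.Agent.Lib.Helper35_BG11b Cfsg.Agent.Lib.Helper35_BG11c

universe u

variable {G : Type u} [Group G] [Finite G]

omit [Finite G] in
/-- a subgroup of order `p` is generated by any nontrivial element; variant giving a generator -/
theorem exists_generator_of_card_prime {p : ℕ} [hp : Fact p.Prime] {X : Subgroup G}
    (hX : Nat.card X = p) : ∃ a ∈ X, a ≠ 1 ∧ a ^ p = 1 ∧ zpowers a = X := by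
  have hX1 : X ≠ ⊥ := by
    intro hb
    rw [hb, Subgroup.card_bot] at hX
    exact hp.out.one_lt.ne hX
  obtain ⟨⟨a, haX⟩, ha'⟩ := (Subgroup.ne_bot_iff_exists_ne_one).mp hX1
  have ha1 : a ≠ 1 := fun h1 => ha' (Subtype.ext h1)
  exact ⟨a, haX, ha1, pow_eq_one_of_card_prime hX haX, zpowers_eq_of_card_prime hX haX ha1⟩

omit [Finite G] in
theorem card_zpowers_of_pow_prime {p : ℕ} [hp : Fact p.Prime] {a : G} (hap : a ^ p = 1) (ha1 : a ≠ 1) :
    Nat.card (zpowers a) = p := by
  rw [Nat.card_zpowers]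
  exact orderOf_eq_prime hap ha1

namespace Exc

variable {M A A₀ : Subgroup G} {p : ℕ} [hp : Fact p.Prime]

/-- every elementary abelian subgroup of `M` of order `p ^ 2` contains the elements of order dividing
`p` of its centralizer -/
theorem mem_of_centralizes' (hG : IsMinSimpleOddOrder G) (hU : UniqHyp G) (h : Exc M p A A₀)
    {A' : Subgroup G} (hA'M : A' ≤ M) (hA'el : IsElementaryAbelian p A') (hA'c : Nat.card A' = p ^ 2)
    {x : G} (hx : x ∈ centralizer (A' : Set G)) (hxp : x ^ p = 1) : x ∈ A' := by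
  have hmax := (rank_two_statement hG hU M h.coatom (h.rank_two hG hU) h.not_rank_one).2 A' hA'M hA'el
    hA'c
  have hcomm := comm_of_isElementaryAbelian hA'el
  have hB : IsElementaryAbelian p (A' ⊔ zpowers x) := by
    have h1 := elemAb_sup (p := p) hcomm hA'el.2 (elemAb_zpowers hxp).1 (elemAb_zpowers hxp).2 (by
      intro a ha b hb
      obtain ⟨j, rfl⟩ := mem_zpowers_iff.mp hb
      have h1 : Commute x a := (mem_centralizer_iff.mp hx a ha).symm
      exact (h1.zpow_left j).symm.eq)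
    exact isElementaryAbelian_of h1.1 h1.2
  have := hmax _ hB le_sup_left
  rw [← this]
  exact mem_sup_right (mem_zpowers x)

/-- **Bender–Glauberman 11.5/11.6, first half**: `A` is central in every Sylow `p`-subgroup of `M`
containing it. -/
theorem central (hG : IsMinSimpleOddOrder G) (hU : UniqHyp G) (h44 : H1444.{u}) (hT : TLemma G)
    (h : Exc M p A A₀) {PG : Subgroup G} (hS : IsSylowIn p PG M) (hAP : A ≤ PG) :
    ∀ a ∈ A, ∀ y ∈ PG, y * a = a * y := by
  by_contra hcon
  push Not at hcon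
  obtain ⟨a₁, ha₁A, y₁, hy₁P, hne₁⟩ := hcon
  have hpp : p.Prime := hp.out
  have hM := h.coatom
  have hPGp : IsPGroup p PG := hS.isPGroup
  have hPG1 : PG ≠ ⊥ := fun hb => h.ne_bot (le_bot_iff.mp (hb ▸ hAP))
  have hPGM : PG ≤ M := hS.le
  -- a central element of order `p`
  obtain ⟨z, hzP, hzc, hzo⟩ := exists_central_of_ne_bot hPGp hPG1
  have hzp : z ^ p = 1 := by rw [← hzo]; exact pow_orderOf_eq_one z
  have hz1 : z ≠ 1 := by
    intro h1
    rw [h1, orderOf_one] at hzo
    exact hpp.one_lt.ne hzo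
  have hcenA : ∀ w ∈ PG, (∀ y ∈ PG, y * w = w * y) → w ∈ centralizer (A : Set G) := by
    intro w _ hwc
    rw [mem_centralizer_iff]
    intro a ha
    exact hwc a (hAP ha)
  have hzA : z ∈ A := h.mem_of_centralizes hG hU (hcenA z hzP hzc) hzp
  have hZcard : Nat.card (zpowers z) = p := card_zpowers_of_pow_prime hzp hz1
  have hZP : zpowers z ≤ PG := zpowers_le.mpr hzP
  -- every central element of order dividing `p` lies in `⟨z⟩`
  have hall : ∀ w ∈ PG, (∀ y ∈ PG, y * w = w * y) → w ^ p = 1 → w ∈ zpowers z := by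
    intro w hwP hwc hwp
    by_contra hwZ
    have hwA : w ∈ A := h.mem_of_centralizes hG hU (hcenA w hwP hwc) hwp
    have hle : zpowers z ⊔ zpowers w ≤ A := sup_le (zpowers_le.mpr hzA) (zpowers_le.mpr hwA)
    have hlt : Nat.card (zpowers z) < Nat.card ↥(zpowers z ⊔ zpowers w) := by
      by_contra hge
      push Not at hge
      have := Subgroup.eq_of_le_of_card_ge (le_sup_left : zpowers z ≤ zpowers z ⊔ zpowers w) hge
      apply hwZ
      rw [this]
      exact (le_sup_right : zpowers w ≤ zpowers z ⊔ zpowers w) (mem_zpowers w)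
    have hdvd : Nat.card ↥(zpowers z ⊔ zpowers w) ∣ p ^ 2 := h.card ▸ Subgroup.card_dvd_of_le hle
    obtain ⟨m, hm2, hm⟩ := (Nat.dvd_prime_pow hpp).mp hdvd
    have hm' : m = 2 := by
      rw [hZcard, hm] at hlt
      have h1 : p ^ 1 < p ^ m := by rwa [pow_one]
      have := (Nat.pow_lt_pow_iff_right hpp.one_lt).mp h1
      omega
    have heq : zpowers z ⊔ zpowers w = A := by
      apply Subgroup.eq_of_le_of_card_ge hle
      rw [hm, hm', h.card]
    have hAcen : A ≤ centralizer (PG : Set G) := by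
      rw [← heq]
      apply sup_le
      · rw [zpowers_le, mem_centralizer_iff]
        intro y hy
        exact hzc y hy
      · rw [zpowers_le, mem_centralizer_iff]
        intro y hy
        exact hwc y hy
    exact hne₁ (mem_centralizer_iff.mp (hAcen ha₁A) y₁ hy₁P)
  -- an element `g ∈ N_G(PG) ∖ M`; it normalizes `⟨z⟩`
  obtain ⟨g, hgN, hgM⟩ := h.exists_normalizer_not_mem hS hAP
  have hgZ : g ∈ normalizer ((zpowers z : Subgroup G) : Set G) :=
    normalizer_le_normalizer_of_central hPGp hZP hZcard hall hgN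
  have hAg : A ≤ cj g M := h.le_cj_of_mem_normalizer hPGM hAP hgN
  -- the line `B = g A₀ g⁻¹`
  obtain ⟨a, haA₀, ha1, hap, hza⟩ := exists_generator_of_card_prime h.card₀
  set b : G := g * a * g⁻¹ with hb
  have hbcj : cj g A₀ = zpowers b := by
    rw [← hza]
    show (zpowers a).map (MulAut.conj g).toMonoidHom = zpowers b
    rw [MonoidHom.map_zpowers]
    rfl
  have hbP : b ∈ PG := (mem_normalizer_iff.mp hgN a).mp (hAP (h.le₀ haA₀))
  have hbp : b ^ p = 1 := by rw [hb, conj_pow, hap]; group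
  have hb1 : b ≠ 1 := by
    intro h1
    apply ha1
    have : a = g⁻¹ * b * g := by rw [hb]; group
    rw [this, h1]; group
  have hbZ : b ∉ zpowers z := by
    intro hbz
    have h1 : zpowers b = zpowers z := zpowers_eq_of_card_prime hZcard hbz hb1
    have h2 : cj g A₀ = zpowers z := hbcj.trans h1
    have h3 : A₀ = zpowers z := by
      have := congrArg (cj g⁻¹) h2
      rw [cj_inv_cj, cj_eq_of_mem_normalizer (inv_mem hgZ)] at this
      exact this
    exact hgM (h.norm₀ (h3 ▸ hgZ))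
  -- `A' = ⟨b⟩ ⟨z⟩`
  have hbz_comm : ∀ x ∈ zpowers b, ∀ y ∈ zpowers z, x * y = y * x := by
    intro x hx y hy
    obtain ⟨j, rfl⟩ := mem_zpowers_iff.mp hy
    have hxP : x ∈ PG := (zpowers_le.mpr hbP) hx
    have h1 : Commute x z := hzc x hxP
    exact (h1.zpow_right j).eq
  have hA'el : IsElementaryAbelian p (zpowers b ⊔ zpowers z) := by
    have h1 := elemAb_sup (p := p) (elemAb_zpowers hbp).1 (elemAb_zpowers hbp).2 (elemAb_zpowers hzp).1
      (elemAb_zpowers hzp).2 hbz_comm
    exact isElementaryAbelian_of h1.1 h1.2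
  have hA'P : zpowers b ⊔ zpowers z ≤ PG := sup_le (zpowers_le.mpr hbP) hZP
  have hdisj : zpowers z ⊓ zpowers b = ⊥ := by
    rw [eq_bot_iff]
    intro x hx
    rw [mem_bot]
    by_contra hx1
    have h1 : zpowers x = zpowers z := zpowers_eq_of_card_prime hZcard hx.1 hx1
    have h2 : zpowers x = zpowers b :=
      zpowers_eq_of_card_prime (card_zpowers_of_pow_prime hbp hb1) hx.2 hx1
    apply hbZ
    rw [← h1, h2]
    exact mem_zpowers b
  have hA'card : Nat.card ↥(zpowers b ⊔ zpowers z) = p ^ 2 := by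
    have hnorm : zpowers b ≤ normalizer ((zpowers z : Subgroup G) : Set G) := by
      intro x hx
      apply centralizer_le_normalizer
      rw [mem_centralizer_iff]
      intro y hy
      exact (hbz_comm x hx y hy).symm
    have := card_sup_of_disjoint' (zpowers b) (zpowers z) hnorm hdisj
    rw [sup_comm, this, hZcard, card_zpowers_of_pow_prime hbp hb1, sq]
  have hmax : ∀ x ∈ PG, x * b = b * x → x ^ p = 1 → x ∈ zpowers b ⊔ zpowers z := by
    intro x hxP hxb hxp
    apply h.mem_of_centralizes' hG hU (hA'P.trans hPGM) hA'el hA'card _ hxp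
    have hle : zpowers b ⊔ zpowers z ≤ centralizer ({x} : Set G) := by
      apply sup_le
      · rw [zpowers_le, mem_centralizer_singleton_iff]
        exact hxb.symm
      · rw [zpowers_le, mem_centralizer_singleton_iff]
        exact (hzc x hxP).symm
    rw [mem_centralizer_iff]
    intro w hw
    exact mem_centralizer_singleton_iff.mp (hle hw)
  have hnc : ∃ y ∈ PG, y * b ≠ b * y := by
    by_contra hc
    push Not at hc
    exact hbZ (hall b hbP hc hbp)
  have hconj := hT p PG hPGp z b hzP hzc hzp hz1 hbP hbp hbZ hmax hnc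
  -- a prime `q` dividing `|M_σ|` and a `PG`-invariant Sylow `q`-subgroup of `M_σ`
  have hσ1 : sigmaCore M ≠ ⊥ := Cfsg.Agent.Lib.Helper49_BG124.sigmaCore_ne_bot hG M hM
  have hcard1 : Nat.card ↥(sigmaCore M) ≠ 1 := fun hc => hσ1 ((Subgroup.card_eq_one).mp hc)
  obtain ⟨q, hqq, hqD⟩ := Nat.exists_prime_and_dvd hcard1
  have : Fact q.Prime := ⟨hqq⟩
  have hMsolv : Group.IsSolvable ↥M := hG.2.2.2 M hM.1
  have hσsolv : Group.IsSolvable ↥(sigmaCore M) :=
    Cfsg.Agent.Lib.Helper24_CoprimeAction.isSolvable_of_le (sigmaCore_le M) hMsolv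
  have hpσ : ¬ p ∣ Nat.card ↥(sigmaCore M) := fun hd =>
    h.not_sigma (card_sigmaCore_mem M p hpp hd)
  have hPGN : PG ≤ normalizer ((sigmaCore M : Subgroup G) : Set G) :=
    hPGM.trans (Helper35_BG11a.le_normalizer_sigmaCore M)
  have hcopPG : (Nat.card ↥PG).Coprime (Nat.card ↥(sigmaCore M)) := by
    obtain ⟨k, hk⟩ := IsPGroup.iff_card.mp hPGp
    rw [hk]
    apply Nat.Coprime.pow_left
    rwa [Nat.Prime.coprime_iff_not_dvd hpp]
  obtain ⟨Q₁, hQ₁, hPQ₁⟩ := exists_invariant_piHall PG (sigmaCore M) hPGN hcopPG hσsolv {q}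
  have hQ₁ne : Q₁ ≠ ⊥ := piHall_ne_bot hqq hQ₁ hqD
  have hcopQ : ¬ p ∣ Nat.card ↥Q₁ := fun hd => hpσ (hd.trans (Subgroup.card_dvd_of_le hQ₁.1))
  have hQ₂ : PiHall {q} (cj g Q₁) (cj g (sigmaCore M)) := piHall_cj hQ₁ g
  have hAQ₁ : A ≤ normalizer (Q₁ : Set G) := hAP.trans hPQ₁
  have hAQ₂ : A ≤ normalizer ((cj g Q₁ : Subgroup G) : Set G) := by
    rw [normalizer_cj]
    calc A ≤ PG := hAP
      _ = cj g PG := (cj_eq_of_mem_normalizer hgN).symm
      _ ≤ cj g (normalizer (Q₁ : Set G)) := cj_mono hPQ₁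
  have hZ1 : (zpowers z : Subgroup G) ≠ ⊥ := by
    intro hb'
    apply hz1
    have := mem_zpowers z
    rw [hb'] at this
    exact (Subgroup.mem_bot).mp this
  have hHtop : centralizer ((zpowers z : Subgroup G) : Set G) ≠ ⊤ :=
    Cfsg.Agent.Lib.Helper22_BGTransUp.centralizer_ne_top hG hZ1
  have hAH : A ≤ centralizer ((zpowers z : Subgroup G) : Set G) := by
    intro x hx
    rw [mem_centralizer_iff]
    intro w hw
    obtain ⟨j, rfl⟩ := mem_zpowers_iff.mp hw
    have h1 : Commute x z := hzc x (hAP hx)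
    exact (h1.zpow_right j).eq.symm
  have hfixZ : Q₁ ⊓ centralizer ((zpowers z : Subgroup G) : Set G) = ⊥ := by
    rcases no_common_overgroup hG hU h44 h hgM hAg hQ₁ hAQ₁ hQ₂ hAQ₂ hQ₁ne hHtop hAH with h1 | h1
    · rw [inf_comm]; exact h1
    · rw [eq_bot_iff]
      intro x hx
      rw [mem_bot]
      have hxc := mem_centralizer_iff.mp hx.2
      have h2 : g * x * g⁻¹ ∈ centralizer ((zpowers z : Subgroup G) : Set G) ⊓ cj g Q₁ := by
        refine Subgroup.mem_inf.mpr ⟨?_, ?_⟩
        · rw [mem_centralizer_iff]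
          intro w hw
          have hw' : g⁻¹ * w * g ∈ zpowers z := by
            have := (mem_normalizer_iff.mp (inv_mem hgZ) w).mp hw
            rwa [inv_inv] at this
          have h3 := hxc _ hw'
          calc w * (g * x * g⁻¹) = g * ((g⁻¹ * w * g) * x) * g⁻¹ := by group
            _ = g * (x * (g⁻¹ * w * g)) * g⁻¹ := by rw [h3]
            _ = g * x * g⁻¹ * w := by group
        · rw [mem_cj]
          have : g⁻¹ * (g * x * g⁻¹) * g = x := by group
          rw [this]
          exact hx.1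
      rw [h1, mem_bot] at h2
      have : x = g⁻¹ * (g * x * g⁻¹) * g := by group
      rw [this, h2]; group
  have hfixB : Q₁ ⊓ centralizer ((zpowers b : Subgroup G) : Set G) = ⊥ := by
    rw [← hbcj, eq_bot_iff, ← sigmaCore_inf_centralizer_cj_eq_bot hG hU h44 h hgM hAg]
    exact inf_le_inf_right _ hQ₁.1
  have hcz : ∀ w : G, centralizer ({w} : Set G) ≤ centralizer ((zpowers w : Subgroup G) : Set G) := by
    intro w x hx
    rw [mem_centralizer_iff]
    intro v hv
    obtain ⟨j, rfl⟩ := mem_zpowers_iff.mp hv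
    have h1 : Commute x w := mem_centralizer_singleton_iff.mp hx
    exact (h1.zpow_right j).eq.symm
  have hbN : b ∈ normalizer (Q₁ : Set G) := hPQ₁ hbP
  have hzN : z ∈ normalizer (Q₁ : Set G) := hPQ₁ hzP
  have hgen : Q₁ ≤ ⊥ := by
    apply Cfsg.Agent.Lib.Helper48_Generation.le_of_centralizers_le (p := p) Q₁ hcopQ b z hbN hzN hbp hzp
      (hzc b hbP)
    · rw [← hfixZ]
      exact inf_le_inf_left _ (hcz z)
    · intro i
      obtain ⟨y, hyP, hy⟩ := hconj i
      intro x hx
      rw [mem_bot]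
      have hyN : y ∈ normalizer (Q₁ : Set G) := hPQ₁ hyP
      have hx1 : y⁻¹ * x * y ∈ Q₁ := by
        have := (mem_normalizer_iff.mp (inv_mem hyN) x).mp hx.1
        rwa [inv_inv] at this
      have hx2 : y⁻¹ * x * y ∈ centralizer ((zpowers b : Subgroup G) : Set G) := by
        apply hcz b
        rw [mem_centralizer_singleton_iff]
        have h3 : x * (b * z ^ i) = (b * z ^ i) * x := mem_centralizer_singleton_iff.mp hx.2
        rw [hy] at h3
        calc y⁻¹ * x * y * b = y⁻¹ * (x * (y * b * y⁻¹)) * y := by group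
          _ = y⁻¹ * ((y * b * y⁻¹) * x) * y := by rw [h3]
          _ = b * (y⁻¹ * x * y) := by group
      have hx3 : y⁻¹ * x * y ∈ Q₁ ⊓ centralizer ((zpowers b : Subgroup G) : Set G) :=
        Subgroup.mem_inf.mpr ⟨hx1, hx2⟩
      rw [hfixB, mem_bot] at hx3
      have : x = y * (y⁻¹ * x * y) * y⁻¹ := by group
      rw [this, hx3]; group
  exact hQ₁ne (le_bot_iff.mp hgen)

/-- **Lemma 11.6(a)**: the elements of order dividing `p` of a Sylow `p`-subgroup `PG ≥ A` of `M` are
exactly the elements of `A`. -/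
theorem omega (hG : IsMinSimpleOddOrder G) (hU : UniqHyp G) (h44 : H1444.{u}) (hT : TLemma G)
    (h : Exc M p A A₀) {PG : Subgroup G} (hS : IsSylowIn p PG M) (hAP : A ≤ PG) :
    ∀ x ∈ PG, x ^ p = 1 ↔ x ∈ A := by
  intro x hxP
  constructor
  · intro hxp
    apply h.mem_of_centralizes hG hU _ hxp
    rw [mem_centralizer_iff]
    intro a ha
    exact (h.central hG hU h44 hT hS hAP a ha x hxP).symm
  · exact h.exp x

/-- `N_G(PG) ≤ N_G(A)` -/
theorem normalizer_sylow_le (hG : IsMinSimpleOddOrder G) (hU : UniqHyp G) (h44 : H1444.{u})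
    (hT : TLemma G) (h : Exc M p A A₀) {PG : Subgroup G} (hS : IsSylowIn p PG M) (hAP : A ≤ PG) :
    normalizer (PG : Set G) ≤ normalizer (A : Set G) := by
  have hom := h.omega hG hU h44 hT hS hAP
  have key : ∀ g ∈ normalizer (PG : Set G), ∀ a ∈ A, g * a * g⁻¹ ∈ A := by
    intro g hg a ha
    have h1 : g * a * g⁻¹ ∈ PG := (mem_normalizer_iff.mp hg a).mp (hAP ha)
    apply (hom _ h1).mp
    rw [conj_pow, h.exp a ha]; group
  intro g hg
  rw [mem_normalizer_iff]
  intro a
  constructor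
  · exact key g hg a
  · intro ha
    have := key g⁻¹ (inv_mem hg) _ ha
    have e : g⁻¹ * (g * a * g⁻¹) * g⁻¹⁻¹ = a := by group
    rwa [e] at this

/-- **Lemma 11.6(c)**: some subgroup of order `p` of `A` has no fixed point on `M_σ`. -/
theorem exists_fpf_line (hG : IsMinSimpleOddOrder G) (hU : UniqHyp G) (h44 : H1444.{u})
    (hT : TLemma G) (h : Exc M p A A₀) :
    ∃ A₁ : Subgroup G, A₁ ≤ A ∧ Nat.card ↥A₁ = p ∧
      sigmaCore M ⊓ centralizer (A₁ : Set G) = ⊥ := by
  obtain ⟨PG, hS, hAP⟩ := h.exists_sylow_ge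
  obtain ⟨g, hgN, hgM⟩ := h.exists_normalizer_not_mem hS hAP
  have hAg : A ≤ cj g M := h.le_cj_of_mem_normalizer hS.le hAP hgN
  have hgA : g ∈ normalizer (A : Set G) := h.normalizer_sylow_le hG hU h44 hT hS hAP hgN
  refine ⟨cj g A₀, ?_, ?_, sigmaCore_inf_centralizer_cj_eq_bot hG hU h44 h hgM hAg⟩
  · calc cj g A₀ ≤ cj g A := cj_mono h.le₀
      _ = A := cj_eq_of_mem_normalizer hgA
  · rw [card_cj, h.card₀]

/-- **Lemma 11.6(b)**: `C_{M_σ}(A) = 1`. -/
theorem sigmaCore_inf_centralizer_eq_bot (hG : IsMinSimpleOddOrder G) (hU : UniqHyp G)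
    (h44 : H1444.{u}) (hT : TLemma G) (h : Exc M p A A₀) :
    sigmaCore M ⊓ centralizer (A : Set G) = ⊥ := by
  obtain ⟨A₁, hA₁, -, hfix⟩ := h.exists_fpf_line hG hU h44 hT
  rw [eq_bot_iff, ← hfix]
  exact inf_le_inf_left _ (Subgroup.centralizer_le (by exact_mod_cast hA₁))

/-- **Lemma 11.5**: a Sylow `p`-subgroup of `M` containing `A` is abelian. -/
theorem sylow_comm (hG : IsMinSimpleOddOrder G) (hU : UniqHyp G) (h44 : H1444.{u}) (hT : TLemma G)
    (h : Exc M p A A₀) {PG : Subgroup G} (hS : IsSylowIn p PG M) (hAP : A ≤ PG) :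
    ∀ x ∈ PG, ∀ y ∈ PG, x * y = y * x := by
  obtain ⟨S, hPS⟩ := hS.isPGroup.exists_le_sylow
  have hp2 : p ≠ 2 := Cfsg.Agent.Lib.Helper52_BG12a.ne_two_of_isPGroup hG h.isPGroup h.ne_bot
  have h1412 := fun hr => Cfsg.Agent.Lib.Helper70_BG107c.sylow_rank_two_structure hG
    (Cfsg.Agent.Lib.Helper70_BG107e.h1404_of_uniq hG hU)
    (Cfsg.Agent.Lib.Helper70_BG107e.h1410_of_uniq hG hU h44) S hr
  have key := Cfsg.Agent.Lib.Helper62_EStarCent.sylow_centralizer_comm p hp2 (S : Subgroup G) S.isPGroup'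
    h1412 A (hAP.trans hPS) h.elem h.card (fun B _ hB hAB => h.maximal hG hU B hB hAB)
  have hle : PG ≤ (S : Subgroup G) ⊓ centralizer (A : Set G) := by
    intro x hx
    refine Subgroup.mem_inf.mpr ⟨hPS hx, ?_⟩
    rw [mem_centralizer_iff]
    intro a ha
    exact (h.central hG hU h44 hT hS hAP a ha x hx).symm
  intro x hx y hy
  exact key x (hle hx) y (hle hy)

omit [Finite G] hp in
/-- conjugating the exceptional hypothesis by an element of `M` -/
theorem cj_of_mem (h : Exc M p A A₀) {m : G} (hm : m ∈ M) : Exc M p (cj m A) (cj m A₀) where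
  coatom := h.coatom
  not_sigma := h.not_sigma
  le := by
    have := cj_mono (k := m) h.le
    rwa [cj_self_of_mem hm] at this
  elem := by
    have hc := h.comm
    refine isElementaryAbelian_of ?_ ?_
    · rintro _ ⟨a, ha, rfl⟩ _ ⟨b, hb, rfl⟩
      show (MulAut.conj m) a * (MulAut.conj m) b = (MulAut.conj m) b * (MulAut.conj m) a
      rw [← map_mul, ← map_mul, hc a ha b hb]
    · rintro _ ⟨a, ha, rfl⟩
      show (MulAut.conj m) a ^ p = 1
      rw [← map_pow, h.exp a ha, map_one]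
  card := by rw [card_cj, h.card]
  le₀ := cj_mono h.le₀
  card₀ := by rw [card_cj, h.card₀]
  norm₀ := by
    rw [normalizer_cj]
    have := cj_mono (k := m) h.norm₀
    rwa [cj_self_of_mem hm] at this

end Exc

end Cfsg.Agent.Lib.Helper35_BG11a
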