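import Mathlib
import Cfsg.Agent.Lib.Helper32_Sylow

/-!
# Basic group lemmas for the "least centric radical subgroup" theorem (helper1)

* products `A * D` when `A` normalizes `D`;
* "`p`-power modulo" (`PPowMod`): every element of `Y` has a `p`-power in `B`;
* normalizer growth in `p`-groups;
* extension of a homomorphism from `A` to `A ⊔ D` killing `D`.
-/

set_option autoImplicit false

namespace Cfsg.Agent.Lib.Helper1_CRBasic

open Subgroup

variable {G : Type*} [Group G]

/-! ### Conjugation -/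

theorem conj_mem_of_mem_normalizer {D : Subgroup G} {a d : G}
    (ha : a ∈ normalizer (D : Set G)) (hd : d ∈ D) : a * d * a⁻¹ ∈ D :=
  (mem_normalizer_iff.mp ha d).mp hd

theorem conj_inv_mem_of_mem_normalizer {D : Subgroup G} {a d : G}
    (ha : a ∈ normalizer (D : Set G)) (hd : d ∈ D) : a⁻¹ * d * a ∈ D := by
  have := conj_mem_of_mem_normalizer (inv_mem ha) hd
  simpa using this

theorem mem_map_conj_iff {H : Subgroup G} {g x : G} :
    x ∈ H.map (MulAut.conj g).toMonoidHom ↔ g⁻¹ * x * g ∈ H := by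
  constructor
  · rintro ⟨y, hy, rfl⟩
    have : g⁻¹ * ((MulAut.conj g).toMonoidHom y) * g = y := by
      simp [MulAut.conj_apply, mul_assoc]
    rw [this]; exact hy
  · intro h
    refine ⟨g⁻¹ * x * g, h, ?_⟩
    simp [MulAut.conj_apply, mul_assoc]

theorem conj_mem_map_conj {H : Subgroup G} {g x : G} (hx : x ∈ H) :
    g * x * g⁻¹ ∈ H.map (MulAut.conj g).toMonoidHom :=
  ⟨x, hx, by simp [MulAut.conj_apply]⟩

theorem map_conj_le_iff {H K : Subgroup G} {g : G} :
    H.map (MulAut.conj g).toMonoidHom ≤ K ↔ ∀ x ∈ H, g * x * g⁻¹ ∈ K := by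
  constructor
  · intro h x hx
    exact h (conj_mem_map_conj hx)
  · rintro h _ ⟨y, hy, rfl⟩
    simpa [MulAut.conj_apply] using h y hy

theorem card_map_conj (H : Subgroup G) (g : G) :
    Nat.card (H.map (MulAut.conj g).toMonoidHom) = Nat.card H :=
  (Nat.card_congr (H.equivMapOfInjective _ (MulAut.conj g).injective).toEquiv).symm

theorem map_conj_eq_of_le [Finite G] {H : Subgroup G} {g : G}
    (h : H.map (MulAut.conj g).toMonoidHom ≤ H) : H.map (MulAut.conj g).toMonoidHom = H :=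
  Subgroup.eq_of_le_of_card_ge h (by rw [card_map_conj])

theorem mem_normalizer_of_map_conj_le [Finite G] {H : Subgroup G} {g : G}
    (h : H.map (MulAut.conj g).toMonoidHom ≤ H) : g ∈ normalizer (H : Set G) := by
  have h2 := map_conj_eq_of_le h
  rw [mem_normalizer_iff]
  intro x
  constructor
  · intro hx
    exact h (conj_mem_map_conj hx)
  · intro hx
    rw [← h2] at hx
    have := mem_map_conj_iff.mp hx
    simpa [mul_assoc] using this

theorem map_conj_eq_of_mem_normalizer {H : Subgroup G} {g : G}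
    (hg : g ∈ normalizer (H : Set G)) : H.map (MulAut.conj g).toMonoidHom = H := by
  apply le_antisymm
  · rw [map_conj_le_iff]
    intro x hx
    exact conj_mem_of_mem_normalizer hg hx
  · intro x hx
    rw [mem_map_conj_iff]
    exact conj_inv_mem_of_mem_normalizer hg hx

theorem conj_mem_centralizer {S : Subgroup G} {n c : G} (hn : n ∈ normalizer (S : Set G))
    (hc : c ∈ centralizer (S : Set G)) : n * c * n⁻¹ ∈ centralizer (S : Set G) := by
  rw [mem_centralizer_iff] at hc ⊢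
  intro s hs
  have h1 : n⁻¹ * s * n ∈ S := conj_inv_mem_of_mem_normalizer hn hs
  have h2 := hc _ h1
  calc s * (n * c * n⁻¹) = n * ((n⁻¹ * s * n) * c) * n⁻¹ := by group
    _ = n * (c * (n⁻¹ * s * n)) * n⁻¹ := by rw [h2]
    _ = n * c * n⁻¹ * s := by group

theorem normalizer_le_normalizer_centralizer (S : Subgroup G) :
    normalizer (S : Set G) ≤ normalizer ((centralizer (S : Set G) : Subgroup G) : Set G) := by
  intro n hn
  rw [mem_normalizer_iff]
  intro c
  constructor
  · intro hc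
    exact conj_mem_centralizer hn hc
  · intro hc
    have := conj_mem_centralizer (inv_mem hn) hc
    have e : n⁻¹ * (n * c * n⁻¹) * n⁻¹⁻¹ = c := by group
    rwa [e] at this

theorem normalizer_le_normalizer_sup_centralizer (S : Subgroup G) :
    normalizer (S : Set G) ≤ normalizer ((S ⊔ centralizer (S : Set G) : Subgroup G) : Set G) := by
  intro n hn
  have h1 : (S ⊔ centralizer (S : Set G)).map (MulAut.conj n).toMonoidHom ≤
      S ⊔ centralizer (S : Set G) := by
    rw [Subgroup.map_sup]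
    apply sup_le_sup
    · rw [map_conj_le_iff]; intro x hx; exact conj_mem_of_mem_normalizer hn hx
    · rw [map_conj_le_iff]; intro x hx; exact conj_mem_centralizer hn hx
  rw [mem_normalizer_iff]
  intro x
  constructor
  · intro hx
    exact h1 (conj_mem_map_conj hx)
  · intro hx
    have h2 : (S ⊔ centralizer (S : Set G)).map (MulAut.conj n⁻¹).toMonoidHom ≤
        S ⊔ centralizer (S : Set G) := by
      rw [Subgroup.map_sup]
      apply sup_le_sup
      · rw [map_conj_le_iff]; intro x hx; exact conj_mem_of_mem_normalizer (inv_mem hn) hx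
      · rw [map_conj_le_iff]; intro x hx; exact conj_mem_centralizer (inv_mem hn) hx
    have := h2 (conj_mem_map_conj (g := n⁻¹) hx)
    have e : n⁻¹ * (n * x * n⁻¹) * n⁻¹⁻¹ = x := by group
    rwa [e] at this

/-! ### Products -/

/-- The product set `A * D` as a subgroup when `A` normalizes `D`. -/
def mulSub (A D : Subgroup G) (h : A ≤ normalizer (D : Set G)) : Subgroup G where
  carrier := {x | ∃ a ∈ A, ∃ d ∈ D, x = a * d}
  one_mem' := ⟨1, A.one_mem, 1, D.one_mem, by simp⟩
  mul_mem' := by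
    rintro _ _ ⟨a, ha, d, hd, rfl⟩ ⟨a', ha', d', hd', rfl⟩
    refine ⟨a * a', A.mul_mem ha ha', (a'⁻¹ * d * a') * d',
      D.mul_mem (conj_inv_mem_of_mem_normalizer (h ha') hd) hd', by group⟩
  inv_mem' := by
    rintro _ ⟨a, ha, d, hd, rfl⟩
    refine ⟨a⁻¹, A.inv_mem ha, a * d⁻¹ * a⁻¹,
      conj_mem_of_mem_normalizer (h ha) (D.inv_mem hd), by group⟩

theorem exists_mul_of_mem_sup {A D : Subgroup G} (h : A ≤ normalizer (D : Set G)) {x : G}
    (hx : x ∈ A ⊔ D) : ∃ a ∈ A, ∃ d ∈ D, x = a * d := by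
  have hle : A ⊔ D ≤ mulSub A D h := by
    apply sup_le
    · intro a ha; exact ⟨a, ha, 1, D.one_mem, by simp⟩
    · intro d hd; exact ⟨1, A.one_mem, d, hd, by simp⟩
  exact hle hx

theorem exists_mul_of_mem_sup' {A D : Subgroup G} (h : D ≤ normalizer (A : Set G)) {x : G}
    (hx : x ∈ A ⊔ D) : ∃ a ∈ A, ∃ d ∈ D, x = a * d := by
  rw [sup_comm] at hx
  obtain ⟨d, hd, a, ha, rfl⟩ := exists_mul_of_mem_sup h hx
  exact ⟨d * a * d⁻¹, conj_mem_of_mem_normalizer (h hd) ha, d, hd, by group⟩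

/-- powers of a product modulo a normalized subgroup -/
theorem mul_pow_mem {D : Subgroup G} {a d : G} (ha : a ∈ normalizer (D : Set G)) (hd : d ∈ D)
    (n : ℕ) : ∃ d' ∈ D, (a * d) ^ n = a ^ n * d' := by
  induction n with
  | zero => exact ⟨1, D.one_mem, by simp⟩
  | succ n ih =>
    obtain ⟨d', hd', h⟩ := ih
    refine ⟨(a⁻¹ * d' * a) * d, D.mul_mem (conj_inv_mem_of_mem_normalizer ha hd') hd, ?_⟩
    rw [pow_succ, h, pow_succ]; group

/-! ### `p`-power modulo -/

/-- every element of `Y` has a `p`-power in `B` -/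
def PPowMod (p : ℕ) (Y B : Subgroup G) : Prop := ∀ y ∈ Y, ∃ n : ℕ, y ^ (p ^ n) ∈ B

theorem PPowMod.mono_left {p : ℕ} {Y Y' B : Subgroup G} (h : PPowMod p Y B) (hle : Y' ≤ Y) :
    PPowMod p Y' B := fun y hy => h y (hle hy)

theorem PPowMod.mono_right {p : ℕ} {Y B B' : Subgroup G} (h : PPowMod p Y B) (hle : B ≤ B') :
    PPowMod p Y B' := fun y hy => let ⟨n, hn⟩ := h y hy; ⟨n, hle hn⟩

theorem PPowMod.trans {p : ℕ} {Y B C : Subgroup G} (h1 : PPowMod p Y B) (h2 : PPowMod p B C) :
    PPowMod p Y C := by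
  intro y hy
  obtain ⟨n, hn⟩ := h1 y hy
  obtain ⟨m, hm⟩ := h2 _ hn
  refine ⟨n + m, ?_⟩
  rwa [pow_add, pow_mul]

theorem PPowMod.of_isPGroup {p : ℕ} {Y : Subgroup G} (h : IsPGroup p Y) (B : Subgroup G) :
    PPowMod p Y B := by
  intro y hy
  obtain ⟨n, hn⟩ := h ⟨y, hy⟩
  refine ⟨n, ?_⟩
  have : y ^ (p ^ n) = 1 := by
    have := congrArg Subtype.val hn
    simpa using this
  rw [this]; exact B.one_mem

/-- `Y` normalizes `D`, `Y` is `p`-power mod `B`, `D ≤ B`: then `Y ⊔ D` is `p`-power mod `B`. -/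
theorem PPowMod.sup {p : ℕ} {Y D B : Subgroup G} (h : PPowMod p Y B)
    (hYD : Y ≤ normalizer (D : Set G)) (hDB : D ≤ B) : PPowMod p (Y ⊔ D) B := by
  intro x hx
  obtain ⟨y, hy, d, hd, rfl⟩ := exists_mul_of_mem_sup hYD hx
  obtain ⟨n, hn⟩ := h y hy
  obtain ⟨d', hd', e⟩ := mul_pow_mem (hYD hy) hd (p ^ n)
  exact ⟨n, by rw [e]; exact B.mul_mem hn (hDB hd')⟩

/-- the index of `B` in `X` is a power of `p` when `X` is `p`-power mod `B` and normalizes `B` -/
theorem PPowMod.relIndex_eq [Finite G] {p : ℕ} [Fact p.Prime] {X B : Subgroup G}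
    (h : PPowMod p X B) (hXB : X ≤ normalizer (B : Set G)) :
    ∃ k : ℕ, B.relIndex X = p ^ k := by
  have hn : (B.subgroupOf X).Normal := normal_subgroupOf_iff_le_normalizer_inf.mpr (by
    intro x hx
    have hx' := hXB hx
    rw [mem_normalizer_iff] at hx' ⊢
    intro y
    constructor
    · rintro ⟨hy1, hy2⟩
      exact ⟨(hx' y).mp hy1, X.mul_mem (X.mul_mem hx hy2) (X.inv_mem hx)⟩
    · rintro ⟨hy1, hy2⟩
      refine ⟨(hx' y).mpr hy1, ?_⟩
      have : y = x⁻¹ * (x * y * x⁻¹) * x := by group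
      rw [this]
      exact X.mul_mem (X.mul_mem (X.inv_mem hx) hy2) hx)
  have hpg : IsPGroup p (↥X ⧸ B.subgroupOf X) := by
    intro q
    obtain ⟨x, rfl⟩ := QuotientGroup.mk_surjective q
    obtain ⟨n, hn⟩ := h x x.2
    refine ⟨n, ?_⟩
    rw [← QuotientGroup.mk_pow, QuotientGroup.eq_one_iff, mem_subgroupOf]
    simpa using hn
  obtain ⟨k, hk⟩ := IsPGroup.iff_card.mp hpg
  refine ⟨k, ?_⟩
  rw [relIndex, index_eq_card, hk]

/-! ### Normalizer growth -/

/-- If `Q` and `H` lie in a finite `p`-group situation (`Q ⊔ H` a `p`-group), `H` normalizes `Q`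
and `N_Q(H) ≤ H`, then `Q ≤ H`. -/
theorem le_of_inf_normalizer_le [Finite G] {p : ℕ} [Fact p.Prime] {Q H : Subgroup G}
    (hpg : IsPGroup p ↥(Q ⊔ H)) (hHQ : H ≤ normalizer (Q : Set G))
    (hN : Q ⊓ normalizer (H : Set G) ≤ H) : Q ≤ H := by
  by_contra hne
  set T : Subgroup G := Q ⊔ H with hT
  have hHT : H ≤ T := le_sup_right
  have hnil : Group.IsNilpotent ↥T := hpg.isNilpotent
  have hnc : NormalizerCondition ↥T := Group.normalizerCondition_of_isNilpotent
  have hlt : H.subgroupOf T < ⊤ := by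
    rw [lt_top_iff_ne_top]
    intro h
    apply hne
    rw [subgroupOf_eq_top] at h
    exact le_sup_left.trans h
  have hgrow := hnc _ hlt
  obtain ⟨t, ht1, ht2⟩ := SetLike.exists_of_lt hgrow
  apply ht2
  rw [mem_subgroupOf]
  obtain ⟨q, hq, h, hh, e⟩ := exists_mul_of_mem_sup' hHQ t.2
  have hqN : q ∈ normalizer (H : Set G) := by
    have hq' : q = (t : G) * h⁻¹ := by rw [e]; group
    have htN : (t : G) ∈ normalizer (H : Set G) := by
      rw [mem_normalizer_iff] at ht1 ⊢
      intro y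
      constructor
      · intro hy
        have := (ht1 ⟨y, hHT hy⟩).mp (by rw [mem_subgroupOf]; exact hy)
        rw [mem_subgroupOf] at this
        simpa using this
      · intro hy
        have hyT : y ∈ T := by
          have : y = (t : G)⁻¹ * ((t : G) * y * (t : G)⁻¹) * (t : G) := by group
          rw [this]
          exact T.mul_mem (T.mul_mem (T.inv_mem t.2) (hHT hy)) t.2
        have := (ht1 ⟨y, hyT⟩).mpr (by rw [mem_subgroupOf]; simpa using hy)
        rw [mem_subgroupOf] at this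
        simpa using this
    rw [hq']
    exact (normalizer (H : Set G)).mul_mem htN (le_normalizer (H.inv_mem hh))
  rw [e]
  exact H.mul_mem (hN ⟨hq, hqN⟩) hh

/-! ### Extending a homomorphism over a normalized subgroup -/

section Extend

variable {L : Type*} [Group L]

theorem extend_wd {A D : Subgroup G} (φ : ↥A →* L) (hker : ∀ a : ↥A, (a : G) ∈ D → φ a = 1)
    {a a' : ↥A} {d d' : G} (hd : d ∈ D) (hd' : d' ∈ D) (e : (a : G) * d = (a' : G) * d') :
    φ a = φ a' := by
  have h1 : ((a'⁻¹ * a : ↥A) : G) = d' * d⁻¹ := by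
    have : ((a'⁻¹ * a : ↥A) : G) = (a' : G)⁻¹ * ((a : G) * d) * d⁻¹ := by
      simp [mul_assoc]
    rw [this, e]; group
  have h2 : φ (a'⁻¹ * a) = 1 := hker _ (by rw [h1]; exact D.mul_mem hd' (D.inv_mem hd))
  rw [map_mul, map_inv] at h2
  exact (inv_mul_eq_one.mp h2).symm

/-- A homomorphism on `A` trivial on `A ∩ D` extends to `A ⊔ D` (trivially on `D`) when `A`
normalizes `D`. -/
theorem exists_extend_hom {A D : Subgroup G} (hAD : A ≤ normalizer (D : Set G)) (φ : ↥A →* L)
    (hker : ∀ a : ↥A, (a : G) ∈ D → φ a = 1) :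
    ∃ ψ : ↥(A ⊔ D) →* L, ∀ (a : ↥A) (d : G) (_ : d ∈ D) (hm : (a : G) * d ∈ A ⊔ D),
      ψ ⟨(a : G) * d, hm⟩ = φ a := by
  classical
  have hex : ∀ x : ↥(A ⊔ D), ∃ a : ↥A, ∃ d : G, d ∈ D ∧ (x : G) = (a : G) * d := by
    intro x
    obtain ⟨a, ha, d, hd, e⟩ := exists_mul_of_mem_sup hAD x.2
    exact ⟨⟨a, ha⟩, d, hd, e⟩
  let f : ↥(A ⊔ D) → L := fun x => φ (Classical.choose (hex x))
  have hf : ∀ (x : ↥(A ⊔ D)) (a : ↥A) (d : G), d ∈ D → (x : G) = (a : G) * d → f x = φ a := by
    intro x a d hd e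
    obtain ⟨d0, hd0, e0⟩ := Classical.choose_spec (hex x)
    exact extend_wd φ hker hd0 hd (e0.symm.trans e)
  have hmul : ∀ x y : ↥(A ⊔ D), f (x * y) = f x * f y := by
    intro x y
    obtain ⟨a, d, hd, e⟩ := hex x
    obtain ⟨a', d', hd', e'⟩ := hex y
    rw [hf x a d hd e, hf y a' d' hd' e', ← map_mul]
    refine hf (x * y) (a * a') (((a' : G)⁻¹ * d * (a' : G)) * d')
      (D.mul_mem (conj_inv_mem_of_mem_normalizer (hAD a'.2) hd) hd') ?_
    show (x : G) * (y : G) = _
    rw [e, e']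
    simp only [Subgroup.coe_mul]
    group
  have hone : f 1 = 1 := by
    rw [hf 1 1 1 D.one_mem (by simp), map_one]
  refine ⟨⟨⟨f, hone⟩, hmul⟩, ?_⟩
  intro a d hd hm
  exact hf ⟨(a : G) * d, hm⟩ a d hd rfl

end Extend

/-! ### Sylow intersections -/

/-- If the Sylow `p`-subgroup `T` normalizes `C` then `|C : T ∩ C|` is prime to `p`. -/
theorem not_dvd_relIndex_inf_of_le_normalizer [Finite G] {p : ℕ} [Fact p.Prime] (T : Sylow p G)
    (C : Subgroup G) (hTC : (T : Subgroup G) ≤ normalizer (C : Set G)) :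
    ¬ p ∣ ((T : Subgroup G) ⊓ C).relIndex C := by
  set N : Subgroup G := normalizer (C : Set G) with hN
  have hCN : C ≤ N := le_normalizer
  have : (C.subgroupOf N).Normal := normal_in_normalizer
  have h := Cfsg.Agent.Lib.Helper32_Sylow.not_dvd_relIndex_inf_normal (T.subtype hTC) (C.subgroupOf N)
  rw [Sylow.coe_subtype] at h
  have h2 : (T : Subgroup G).subgroupOf N ⊓ C.subgroupOf N = ((T : Subgroup G) ⊓ C).subgroupOf N := by
    ext x; simp [mem_subgroupOf]
  rw [h2, relIndex_subgroupOf hCN] at h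
  exact h

end Cfsg.Agent.Lib.Helper1_CRBasic
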