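import Mathlib
import Cfsg.Agent.Lib.Helper52_BG12a
import Cfsg.Agent.Lib.Helper1_CRBasic
import Cfsg.Agent.Lib.Helper35_BG11a

/-!
# Bender–Glauberman §12, part 2 (helper52): Lemma 12.3

The results of §11 (exceptional maximal subgroups) enter as the explicit hypothesis `H11 G`.
-/

set_option autoImplicit false

namespace Cfsg.Agent.Lib.Helper52_BG12b

open scoped commutatorElement

open Subgroup Cfsg Cfsg.Agent.Lib.Helper49_Sigma Cfsg.Agent.Lib.Helper22_BGTrans
  Cfsg.Agent.Lib.Helper22_Radical Cfsg.Agent.Lib.Helper84_RelSylow Cfsg.Agent.Lib.Helper22_Uniq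
  Cfsg.Agent.Lib.Helper49_Alpha Cfsg.Agent.Lib.Helper49_Alpha2 Cfsg.Agent.Lib.Helper49_Alpha3
  Cfsg.Agent.Lib.Helper70_BG106 Cfsg.Agent.Lib.Helper70_BG1212 Cfsg.Agent.Lib.Helper70_BG1012
  Cfsg.Agent.Lib.Helper52_BG12a

universe u

variable {G : Type u} [Group G]

/-- the conclusions of Bender–Glauberman §11 (11.3–11.7) for the exceptional maximal subgroups
(`Helper35_BG11a.Exc M p A A₀`: `M` maximal, `p ∉ σ(M)`, `A₀ ≤ A ≤ M`, `A` elementary abelian of order
`p ^ 2`, `A₀` of order `p`, `N_G(A₀) ≤ M`), as a hypothesis on `G` -/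
def H11 (G : Type u) [Group G] : Prop :=
  ∀ (p : ℕ) [Fact p.Prime] (M A A₀ : Subgroup G), Cfsg.Agent.Lib.Helper35_BG11a.Exc M p A A₀ →
    Group.IsNilpotent ↥(sigmaCore M) ∧
    (∀ H : Subgroup G, IsCoatom H → A ≤ H → sigmaCore H ⊓ sigmaCore M ≠ ⊥ → H = M) ∧
    (∀ P : Sylow p ↥M, IsMulCommutative ↥(P : Subgroup ↥M)) ∧
    (∀ P : Sylow p ↥M, A ≤ (P : Subgroup ↥M).map M.subtype →
      ∀ x ∈ (P : Subgroup ↥M).map M.subtype, x ^ p = 1 ↔ x ∈ A) ∧
    sigmaCore M ⊓ centralizer (A : Set G) = ⊥ ∧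
    (∃ A₁ : Subgroup G, A₁ ≤ A ∧ Nat.card ↥A₁ = p ∧ sigmaCore M ⊓ centralizer (A₁ : Set G) = ⊥) ∧
    M ≤ normalizer ((sigmaCore M ⊔ A : Subgroup G) : Set G)

/-- `[K, A] ≤ N` when `K` normalizes `N` and `A ≤ N` -/
theorem commutator_le_of_le_normalizer_of_le {K A N : Subgroup G} (hK : K ≤ normalizer (N : Set G))
    (hA : A ≤ N) : ⁅K, A⁆ ≤ N := by
  rw [Subgroup.commutator_le]
  intro k hk a ha
  rw [commutatorElement_def]
  have h1 : k * a * k⁻¹ ∈ N := (Subgroup.mem_normalizer_iff.mp (hK hk) a).mp (hA ha)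
  exact N.mul_mem h1 (N.inv_mem (hA ha))

variable [Finite G]

omit [Finite G] in
/-- a `p'`-subgroup of `A S`, `A` a `p`-group normalizing `S`, lies in `S` -/
theorem le_of_le_sup_of_coprime {p : ℕ} [Fact p.Prime] {S A L : Subgroup G}
    (hAS : A ≤ normalizer (S : Set G)) (hAp : IsPGroup p ↥A) (hL : L ≤ A ⊔ S)
    (hLp : ¬ p ∣ Nat.card ↥L) : L ≤ S := by
  have hpp : p.Prime := Fact.out
  intro x hx
  obtain ⟨a, ha, d, hd, rfl⟩ := Cfsg.Agent.Lib.Helper1_CRBasic.exists_mul_of_mem_sup hAS (hL hx)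
  obtain ⟨d', hd', hpow⟩ := Cfsg.Agent.Lib.Helper1_CRBasic.mul_pow_mem (hAS ha) hd (Nat.card ↥L)
  have h1 : (a * d) ^ Nat.card ↥L = 1 := by
    have := pow_card_eq_one' (G := ↥L) (x := ⟨a * d, hx⟩)
    exact congrArg Subtype.val this
  rw [hpow] at h1
  have h2 : a ^ Nat.card ↥L ∈ S := by
    have : a ^ Nat.card ↥L = d'⁻¹ := eq_inv_of_mul_eq_one_left h1
    rw [this]; exact S.inv_mem hd'
  have hcop : (Nat.card ↥L).Coprime (orderOf a) := by
    obtain ⟨k, hk⟩ := hAp ⟨a, ha⟩
    have hk' : a ^ p ^ k = 1 := congrArg Subtype.val hk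
    have hdvd : orderOf a ∣ p ^ k := orderOf_dvd_of_pow_eq_one hk'
    apply Nat.Coprime.coprime_dvd_right hdvd
    apply Nat.Coprime.pow_right
    rw [Nat.coprime_comm, Nat.Prime.coprime_iff_not_dvd hpp]
    exact hLp
  obtain ⟨m, hm⟩ := exists_pow_eq_self_of_coprime hcop
  have ha' : a ∈ S := by rw [← hm]; exact S.pow_mem h2 m
  exact S.mul_mem ha' hd

/-- commutators of elements of coprime orders of `H_σ` lie in `H_α` (as `H_σ / H_α` is nilpotent) -/
theorem commutator_mem_alphaCore (hG : IsMinSimpleOddOrder G) (hU : UniqHyp G) {H : Subgroup G}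
    (hH : IsCoatom H) {l a : G} (hl : l ∈ sigmaCore H) (ha : a ∈ sigmaCore H) {m n : ℕ}
    (hlm : l ^ m = 1) (han : a ^ n = 1) (hmn : m.Coprime n) : ⁅l, a⁆ ∈ alphaCore H := by
  obtain ⟨l', hl', rfl⟩ := hl
  obtain ⟨a', ha', rfl⟩ := ha
  have hl'' : l' ∈ commutator ↥H := piCore_sigma_le_commutator hG hU H hH hl'
  have ha'' : a' ∈ commutator ↥H := piCore_sigma_le_commutator hG hU H hH ha'
  have hnil := (alpha_statement hG hU H hH).2.2.2.2
  set Q : Subgroup (↥H ⧸ piCore (alpha H) ↥H) :=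
    (commutator ↥H).map (QuotientGroup.mk' (piCore (alpha H) ↥H)) with hQ
  have hlQ : QuotientGroup.mk' (piCore (alpha H) ↥H) l' ∈ Q := ⟨l', hl'', rfl⟩
  have haQ : QuotientGroup.mk' (piCore (alpha H) ↥H) a' ∈ Q := ⟨a', ha'', rfl⟩
  have hlm' : l' ^ m = 1 := by
    apply Subtype.ext
    rw [Subgroup.coe_pow]
    exact hlm
  have han' : a' ^ n = 1 := by
    apply Subtype.ext
    rw [Subgroup.coe_pow]
    exact han
  have hc : Commute (⟨_, hlQ⟩ : ↥Q) ⟨_, haQ⟩ := by
    apply Cfsg.Agent.Lib.Helper32_Nilpotent.commute_of_coprime_pow_eq_one ↥Q _ _ m n ?_ ?_ hmn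
    · apply Subtype.ext
      rw [Subgroup.coe_pow, Subgroup.coe_mk, ← map_pow, hlm', map_one]
      rfl
    · apply Subtype.ext
      rw [Subgroup.coe_pow, Subgroup.coe_mk, ← map_pow, han', map_one]
      rfl
  have hc' : QuotientGroup.mk' (piCore (alpha H) ↥H) l' * QuotientGroup.mk' (piCore (alpha H) ↥H) a' =
      QuotientGroup.mk' (piCore (alpha H) ↥H) a' * QuotientGroup.mk' (piCore (alpha H) ↥H) l' :=
    congrArg Subtype.val hc.eq
  have h1 : ⁅l', a'⁆ ∈ piCore (alpha H) ↥H := by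
    rw [← QuotientGroup.eq_one_iff, ← QuotientGroup.mk'_apply, map_commutatorElement,
      commutatorElement_eq_one_iff_mul_comm]
    exact hc'
  refine ⟨⁅l', a'⁆, h1, ?_⟩
  rw [map_commutatorElement]

omit [Finite G] in
/-- a subgroup of prime order is nontrivial -/
theorem ne_bot_of_card_prime {p : ℕ} [Fact p.Prime] {X : Subgroup G} (hX : Nat.card ↥X = p) : X ≠ ⊥ := by
  rintro rfl
  rw [Subgroup.card_bot] at hX
  exact (Fact.out : p.Prime).one_lt.ne hX

omit [Finite G] in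
/-- an abelian group lies in the centralizer of each of its subgroups -/
theorem le_centralizer_of_comm {A A₀ : Subgroup G} (hAc : ∀ a ∈ A, ∀ b ∈ A, a * b = b * a)
    (hA₀ : A₀ ≤ A) : A ≤ centralizer (A₀ : Set G) := by
  intro a ha
  rw [Subgroup.mem_centralizer_iff]
  intro b hb
  exact hAc b (hA₀ hb) a ha

open Cfsg.Agent.Lib.Helper49_FStarComm in
/-- **Bender–Glauberman, Lemma 12.3** (with the results of §11 as a hypothesis). -/
theorem lemma123 (hG : IsMinSimpleOddOrder G) (hU : UniqHyp G) (h44 : H1444.{u}) (h11 : H11 G)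
    {M H : Subgroup G} (hM : IsCoatom M) (hH : IsCoatom H) (hne : H ≠ M) {p : ℕ} [Fact p.Prime]
    {A A₀ : Subgroup G} (hAM : A ≤ M) (hAea : IsElementaryAbelian p A) (hA2 : Nat.card ↥A = p ^ 2)
    (hA₀ : A₀ ≤ A) (hA₀c : Nat.card ↥A₀ = p) (hN : normalizer (A₀ : Set G) ≤ H) :
    (p ∉ sigma M → sigmaCore M ⊓ H ≤ centralizer (A : Set G)) ∧
      (p ∉ alpha M → alphaCore M ⊓ H ≤ centralizer (A : Set G)) := by
  have hpp : p.Prime := Fact.out
  have hAc := comm_of_isElementaryAbelian hAea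
  have hAp : IsPGroup p ↥A := isPGroup_of_exp hAea.2
  have hA₀p : IsPGroup p ↥A₀ := hAp.to_le hA₀
  have hA₀1 : A₀ ≠ ⊥ := ne_bot_of_card_prime hA₀c
  have hCA₀ : centralizer (A₀ : Set G) ≤ H := (Subgroup.centralizer_le_normalizer _).trans hN
  have hAH : A ≤ H := (le_centralizer_of_comm hAc hA₀).trans hCA₀
  by_cases hpσH : p ∈ sigma H
  · -- `p ∈ σ(H)`: then `A ≤ H_σ` and `M` is not conjugate to `H`
    have hAσ : A ≤ sigmaCore H := le_sigmaCore_of_isPGroup hG hU h44 hH hpσH hAp hAH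
    have hncM : ∀ g : G, M ≠ cj g H := by
      intro g hMg
      have h1 := cj_eq_of_le_cj hG hU hH hpσH hA₀p hA₀1 (hA₀.trans hAH) hCA₀ (g := g)
        (by rw [← hMg]; exact hA₀.trans hAM)
      exact hne (by rw [← h1, ← hMg])
    have hncH : ∀ g : G, H ≠ cj g M := by
      intro g hHg
      apply hncM g⁻¹
      rw [hHg, cj_inv_cj]
    constructor
    · intro hpσM
      have hAK : A ≤ normalizer ((sigmaCore M ⊓ H : Subgroup G) : Set G) :=
        le_normalizer_inf' (hAM.trans (le_normalizer_sigmaCore M)) (hAH.trans le_normalizer)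
      have hKp : ¬ p ∣ Nat.card ↥(sigmaCore M ⊓ H : Subgroup G) := by
        intro hd
        exact hpσM (card_sigmaCore_mem M p hpp (hd.trans (Subgroup.card_dvd_of_le inf_le_left)))
      apply le_centralizer_of_commutator_commutator hAp hKp hAK
      have hLK : ⁅sigmaCore M ⊓ H, A⁆ ≤ sigmaCore M ⊓ H := commutator_le_left_of_le_normalizer hAK
      have hLσ : ⁅sigmaCore M ⊓ H, A⁆ ≤ sigmaCore H :=
        commutator_le_of_le_normalizer_of_le (inf_le_right.trans (le_normalizer_sigmaCore H)) hAσ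
      have hdisj := (sigma_disjoint_alpha hG hU hH hM hncM).2
      have h1 : ⁅⁅sigmaCore M ⊓ H, A⁆, A⁆ ≤ ⁅sigmaCore M ⊓ H, A⁆ :=
        commutator_le_left_of_le_normalizer (le_normalizer_commutator_right _ A)
      have h2 : ⁅⁅sigmaCore M ⊓ H, A⁆, A⁆ ≤ alphaCore H := by
        by_cases hpα : p ∈ alpha H
        · exact commutator_le_of_le_normalizer_of_le
            ((hLK.trans inf_le_right).trans (le_normalizer_alphaCore H))
            (le_alphaCore_of_isPGroup hG hU hH hpα hAp hAH)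
        · rw [Subgroup.commutator_le]
          intro l hl a ha
          apply commutator_mem_alphaCore hG hU hH (hLσ hl) (hAσ ha)
            (m := Nat.card ↥(⁅sigmaCore M ⊓ H, A⁆ : Subgroup G)) (n := p)
          · have := pow_card_eq_one' (G := ↥(⁅sigmaCore M ⊓ H, A⁆ : Subgroup G)) (x := ⟨l, hl⟩)
            exact congrArg Subtype.val this
          · exact hAea.2 a ha
          · rw [Nat.coprime_comm, Nat.Prime.coprime_iff_not_dvd hpp]
            intro hd
            exact hKp (hd.trans (Subgroup.card_dvd_of_le hLK))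
      rw [eq_bot_iff]
      intro x hx
      have h3 : x ∈ alphaCore H ⊓ sigmaCore M :=
        Subgroup.mem_inf.mpr ⟨h2 hx, (Subgroup.mem_inf.mp (hLK (h1 hx))).1⟩
      rw [hdisj] at h3
      exact h3
    · intro _
      have hAK : A ≤ normalizer ((alphaCore M ⊓ H : Subgroup G) : Set G) :=
        le_normalizer_inf' (hAM.trans (le_normalizer_alphaCore M)) (hAH.trans le_normalizer)
      have hdisj := (sigma_disjoint_alpha hG hU hM hH hncH).2
      rw [← Subgroup.commutator_eq_bot_iff_le_centralizer, eq_bot_iff, ← hdisj]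
      apply le_inf
      · exact (commutator_le_left_of_le_normalizer hAK).trans inf_le_left
      · exact commutator_le_of_le_normalizer_of_le (inf_le_right.trans (le_normalizer_sigmaCore H)) hAσ
  · -- `p ∉ σ(H)`: `H` is exceptional
    have hexc : Cfsg.Agent.Lib.Helper35_BG11a.Exc H p A A₀ :=
      ⟨hH, hpσH, hAH, hAea, hA2, hA₀, hA₀c, hN⟩
    obtain ⟨-, h4, -, -, -, -, h7⟩ := h11 p H A A₀ hexc
    have hdisj : sigmaCore H ⊓ sigmaCore M = ⊥ := by
      by_contra hcon
      exact hne (h4 M hM hAM (by rwa [inf_comm])).symm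
    have key : ∀ T : Subgroup G, T ≤ sigmaCore M → M ≤ normalizer (T : Set G) → ¬ p ∣ Nat.card ↥T →
        T ⊓ H ≤ centralizer (A : Set G) := by
      intro T hTM hMT hTp
      have hAK : A ≤ normalizer ((T ⊓ H : Subgroup G) : Set G) :=
        le_normalizer_inf' (hAM.trans hMT) (hAH.trans le_normalizer)
      have hLK : ⁅T ⊓ H, A⁆ ≤ T ⊓ H := commutator_le_left_of_le_normalizer hAK
      rw [← Subgroup.commutator_eq_bot_iff_le_centralizer, eq_bot_iff, ← hdisj]
      apply le_inf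
      · apply le_of_le_sup_of_coprime (S := sigmaCore H) (A := A)
          (hAH.trans (le_normalizer_sigmaCore H)) hAp
        · rw [sup_comm]
          exact commutator_le_of_le_normalizer_of_le (inf_le_right.trans h7) le_sup_right
        · intro hd
          exact hTp (hd.trans (Subgroup.card_dvd_of_le (hLK.trans inf_le_left)))
      · exact hLK.trans (inf_le_left.trans hTM)
    constructor
    · intro hpσM
      apply key _ le_rfl (le_normalizer_sigmaCore M)
      intro hd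
      exact hpσM (card_sigmaCore_mem M p hpp hd)
    · intro hpαM
      apply key _ (alpha_statement hG hU M hM).2.2.1 (le_normalizer_alphaCore M)
      intro hd
      exact hpαM (card_alphaCore_mem M p hpp hd)

end Cfsg.Agent.Lib.Helper52_BG12b
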