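import Mathlib
import Cfsg.Agent.Lib.Helper35_BG11c
import Cfsg.Agent.Lib.Helper52_BG12b

set_option autoImplicit false
open Cfsg

/-!
# Bender–Glauberman, Section 11: assembly of `H11 G` from its parts (helper35)
-/

namespace Cfsg.Agent.Lib.Helper35_BG11y

open Subgroup Cfsg.Agent.Lib.Helper22_Radical Cfsg.Agent.Lib.Helper22_BGTrans
  Cfsg.Agent.Lib.Helper84_RelSylow Cfsg.Agent.Lib.Helper49_Sigma
  Cfsg.Agent.Lib.Helper70_BG106 Cfsg.Agent.Lib.Helper35_BG11a Cfsg.Agent.Lib.Helper35_BG11c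

universe u

variable {G : Type u} [Group G] [Finite G]

/-- Lemma 11.7 as a hypothesis on `G` -/
def H117 (G : Type u) [Group G] : Prop :=
  ∀ (p : ℕ) [Fact p.Prime] (M A A₀ : Subgroup G), Exc M p A A₀ →
    M ≤ normalizer ((sigmaCore M ⊔ A : Subgroup G) : Set G)

/-- the conclusions of Section 11, given the `p`-group lemma `TLemma` and Lemma 11.7 -/
theorem h11_of (hG : IsMinSimpleOddOrder G) (hU : UniqHyp G) (h44 : H1444.{u}) (hT : TLemma G)
    (h117 : H117 G) : Cfsg.Agent.Lib.Helper52_BG12b.H11 G := by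
  intro p _ M A A₀ h
  refine ⟨h.isNilpotent_sigmaCore hG hU h44, ?_, ?_, ?_, h.sigmaCore_inf_centralizer_eq_bot hG hU h44 hT,
    h.exists_fpf_line hG hU h44 hT, h117 p M A A₀ h⟩
  · intro H hH hAH hne
    exact h.eq_of_sigmaCore_inf_ne_bot hG hU h44 hH hAH hne
  · intro P
    have hS : IsSylowIn p ((P : Subgroup ↥M).map M.subtype) M := isSylowIn_of_sylow P
    obtain ⟨m, hm, hmA⟩ := hS.exists_conj_le h.le h.isPGroup
    have hAP : cj m A ≤ (P : Subgroup ↥M).map M.subtype := by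
      rintro _ ⟨a, ha, rfl⟩
      exact hmA a ha
    have key := (h.cj_of_mem hm).sylow_comm hG hU h44 hT hS hAP
    refine ⟨⟨fun a b => ?_⟩⟩
    apply Subtype.ext
    apply Subtype.ext
    have ha : ((a : ↥M) : G) ∈ (P : Subgroup ↥M).map M.subtype := ⟨(a : ↥M), a.2, rfl⟩
    have hb : ((b : ↥M) : G) ∈ (P : Subgroup ↥M).map M.subtype := ⟨(b : ↥M), b.2, rfl⟩
    exact key _ ha _ hb
  · intro P hAP x hx
    exact h.omega hG hU h44 hT (isSylowIn_of_sylow P) hAP x hx

end Cfsg.Agent.Lib.Helper35_BG11y
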