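import Cfsg.Prelude.Def_ConjugacyFunctors
import Cfsg.Agent.Lib.Helper33_Alperin

set_option autoImplicit false

namespace Cfsg.Agent.Lib.Helper33_WFusion

open Cfsg.Agent.Lib.Helper33_Conj Cfsg.Agent.Lib.Helper33_Alperin

variable {G : Type*} [Group G]

/-- A chain of conjugations by elements of the subgroups `N_H(W T)`, `W ∈ 𝓦` (left conjugation), all
intermediate images staying inside `T`; the index `g` is the product of the steps. -/
inductive WChain (𝓦 : Set (Subgroup G → Subgroup G)) (H T : Subgroup G) : Set G → G → Prop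
  | nil (A : Set G) : WChain 𝓦 H T A 1
  | cons (A : Set G) (y g : G) :
      (∃ W ∈ 𝓦, y ∈ H ⊓ Subgroup.normalizer ((W T : Subgroup G) : Set G)) →
      cjs y A ⊆ (T : Set G) → WChain 𝓦 H T (cjs y A) g → WChain 𝓦 H T A (g * y)

variable {𝓦 : Set (Subgroup G → Subgroup G)} {H T : Subgroup G}

theorem WChain.restrict {A : Set G} {g : G} (h : WChain 𝓦 H T A g) :
    ∀ A' : Set G, A' ⊆ A → WChain 𝓦 H T A' g := by
  induction h with
  | nil A => intro A' _; exact WChain.nil A'
  | cons A y g hy hA _ ih =>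
    intro A' hA'
    exact WChain.cons A' y g hy ((cjs_mono hA').trans hA) (ih _ (cjs_mono hA'))

theorem WChain.trans {A : Set G} {g : G} (h : WChain 𝓦 H T A g) :
    ∀ h' : G, WChain 𝓦 H T (cjs g A) h' → WChain 𝓦 H T A (h' * g) := by
  induction h with
  | nil A => intro h' hh'; simpa [cjs_one] using hh'
  | cons A y g hy hA _ ih =>
    intro h' hh'
    rw [cjs_mul] at hh'
    have := WChain.cons A y (h' * g) hy hA (ih h' hh')
    rwa [mul_assoc] at this

theorem WChain.single {A : Set G} {y : G}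
    (hy : ∃ W ∈ 𝓦, y ∈ H ⊓ Subgroup.normalizer ((W T : Subgroup G) : Set G))
    (hA : cjs y A ⊆ (T : Set G)) : WChain 𝓦 H T A y := by
  have := WChain.cons A y 1 hy hA (WChain.nil _)
  rwa [one_mul] at this

theorem WChain.target_subset {A : Set G} {g : G} (h : WChain 𝓦 H T A g) :
    A ⊆ (T : Set G) → cjs g A ⊆ (T : Set G) := by
  induction h with
  | nil A => intro hA; rwa [cjs_one]
  | cons A y g _ hA _ ih =>
    intro _
    rw [cjs_mul]
    exact ih hA

theorem WChain.mem {A : Set G} {g : G} (h : WChain 𝓦 H T A g) : g ∈ H := by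
  induction h with
  | nil A => exact H.one_mem
  | cons A y g hy _ _ ih =>
    obtain ⟨W, _, hyH⟩ := hy
    exact H.mul_mem ih hyH.1

theorem WChain.symm {A : Set G} {g : G} (h : WChain 𝓦 H T A g) :
    A ⊆ (T : Set G) → WChain 𝓦 H T (cjs g A) g⁻¹ := by
  induction h with
  | nil A => intro _; simpa [cjs_one] using WChain.nil A
  | cons A y g hy hA _ ih =>
    intro hAT
    have h1 := ih hA
    rw [cjs_mul]
    have hy' : ∃ W ∈ 𝓦, y⁻¹ ∈ H ⊓ Subgroup.normalizer ((W T : Subgroup G) : Set G) := by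
      obtain ⟨W, hW, hyH⟩ := hy
      exact ⟨W, hW, inv_mem hyH⟩
    have h2 : WChain 𝓦 H T (cjs y A) y⁻¹ := WChain.single hy' (by rw [cjs_inv_cjs]; exact hAT)
    have h3 := h1.trans y⁻¹ (by rw [cjs_inv_cjs]; exact h2)
    rwa [← mul_inv_rev] at h3

/-- If all functors in `𝓦` coincide (singleton), the product of a chain lies in `N_H(W T)`. -/
theorem WChain.mem_normalizer_of_singleton {W : Subgroup G → Subgroup G} {A : Set G} {g : G}
    (h : WChain {W} H T A g) : g ∈ H ⊓ Subgroup.normalizer ((W T : Subgroup G) : Set G) := by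
  induction h with
  | nil A => exact Subgroup.one_mem _
  | cons A y g hy _ _ ih =>
    obtain ⟨W', hW', hyH⟩ := hy
    rw [Set.mem_singleton_iff] at hW'
    subst hW'
    exact Subgroup.mul_mem _ ih hyH

/-- The existential statement inside `FamilyControlsStrongFusionIn`. -/
def FinChain (𝓦 : Set (Subgroup G → Subgroup G)) (H T : Subgroup G) (A : Set G) (h : G) : Prop :=
  ∃ (n : ℕ) (c : Fin (n + 1) → G), c 0 = 1 ∧
        (∀ i : Fin n, ∃ W ∈ 𝓦,
          c i.succ * (c i.castSucc)⁻¹ ∈ H ⊓ Subgroup.normalizer ((W T : Subgroup G) : Set G)) ∧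
        (∀ i : Fin (n + 1), (fun a => c i * a * (c i)⁻¹) '' A ⊆ T) ∧
        ∀ a ∈ A, c (Fin.last n) * a * (c (Fin.last n))⁻¹ = h * a * h⁻¹

theorem finChain_of_wchain {A : Set G} {g : G} (h : WChain 𝓦 H T A g) (hA : A ⊆ (T : Set G)) :
    ∃ (n : ℕ) (c : Fin (n + 1) → G), c 0 = 1 ∧
        (∀ i : Fin n, ∃ W ∈ 𝓦,
          c i.succ * (c i.castSucc)⁻¹ ∈ H ⊓ Subgroup.normalizer ((W T : Subgroup G) : Set G)) ∧
        (∀ i : Fin (n + 1), cjs (c i) A ⊆ T) ∧ c (Fin.last n) = g := by
  induction h with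
  | nil A =>
    refine ⟨0, fun _ => 1, rfl, fun i => i.elim0, fun i => ?_, rfl⟩
    rw [cjs_one]; exact hA
  | cons A y g hy hyA _ ih =>
    obtain ⟨n, c, hc0, hstep, hsub, hlast⟩ := ih hyA
    refine ⟨n + 1, Fin.cons 1 (fun i => c i * y), rfl, ?_, ?_, ?_⟩
    · intro i
      refine Fin.cases ?_ (fun j => ?_) i
      · simp only [Fin.succ_zero_eq_one, Fin.castSucc_zero, Fin.cons_zero, inv_one, mul_one]
        have : (Fin.cons 1 (fun i => c i * y) : Fin (n + 2) → G) 1 = c 0 * y := by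
          have : (1 : Fin (n + 2)) = Fin.succ 0 := rfl
          rw [this, Fin.cons_succ]
        rw [this, hc0, one_mul]
        exact hy
      · obtain ⟨W, hW, hmem⟩ := hstep j
        refine ⟨W, hW, ?_⟩
        have e1 : (Fin.cons 1 (fun i => c i * y) : Fin (n + 2) → G) j.succ.succ = c j.succ * y := by
          rw [Fin.cons_succ]
        have e2 : (Fin.cons 1 (fun i => c i * y) : Fin (n + 2) → G) j.succ.castSucc =
            c j.castSucc * y := by
          rw [← Fin.succ_castSucc, Fin.cons_succ]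
        rw [e1, e2]
        have : c j.succ * y * (c j.castSucc * y)⁻¹ = c j.succ * (c j.castSucc)⁻¹ := by group
        rw [this]; exact hmem
    · intro i
      refine Fin.cases ?_ (fun j => ?_) i
      · simp only [Fin.cons_zero]; rw [cjs_one]; exact hA
      · rw [Fin.cons_succ, cjs_mul]
        exact hsub j
    · have : Fin.last (n + 1) = Fin.succ (Fin.last n) := rfl
      rw [this, Fin.cons_succ, hlast]

theorem wchain_of_finChain (n : ℕ) : ∀ (A : Set G) (c : Fin (n + 1) → G), c 0 = 1 →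
    (∀ i : Fin n, ∃ W ∈ 𝓦,
      c i.succ * (c i.castSucc)⁻¹ ∈ H ⊓ Subgroup.normalizer ((W T : Subgroup G) : Set G)) →
    (∀ i : Fin (n + 1), cjs (c i) A ⊆ T) → WChain 𝓦 H T A (c (Fin.last n)) := by
  induction n with
  | zero =>
    intro A c hc0 _ _
    have : Fin.last 0 = 0 := rfl
    rw [this, hc0]
    exact WChain.nil A
  | succ n ih =>
    intro A c hc0 hstep hsub
    -- first step y = c 1
    set y := c 1 with hy
    have hy1 : ∃ W ∈ 𝓦, y ∈ H ⊓ Subgroup.normalizer ((W T : Subgroup G) : Set G) := by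
      have := hstep 0
      simpa [hc0] using this
    have hyA : cjs y A ⊆ (T : Set G) := hsub 1
    have := ih (cjs y A) (fun i => c i.succ * y⁻¹)
      (by
        show c (Fin.succ 0) * y⁻¹ = 1
        rw [hy]; simp)
      (by
        intro i
        obtain ⟨W, hW, hmem⟩ := hstep i.succ
        refine ⟨W, hW, ?_⟩
        have e : c i.succ.succ * y⁻¹ * (c i.castSucc.succ * y⁻¹)⁻¹ =
            c i.succ.succ * (c i.succ.castSucc)⁻¹ := by
          rw [Fin.succ_castSucc]; group
        rw [e]; exact hmem)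
      (by
        intro i
        rw [← cjs_mul]
        have : c i.succ * y⁻¹ * y = c i.succ := by group
        rw [this]
        exact hsub i.succ)
    have h2 := WChain.cons A y _ hy1 hyA this
    have e : c (Fin.last n).succ * y⁻¹ * y = c (Fin.last (n + 1)) := by
      have : (Fin.last n).succ = Fin.last (n + 1) := rfl
      rw [this]; group
    rw [e] at h2
    exact h2


/-! ### Conjugating chains, change of Sylow subgroup -/

theorem relIndex_cj' (g : G) (A B : Subgroup G) : (cj g A).relIndex (cj g B) = A.relIndex B :=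
  Subgroup.relIndex_map_map_of_injective A B (MulAut.conj g).injective

/-- A `p`-subgroup of `M` containing a subgroup of index prime to `p` in `M` equals it. -/
theorem eq_of_le_of_not_dvd_relIndex' [Finite G] {p : ℕ} [Fact p.Prime] {Q Q' M : Subgroup G}
    (h1 : Q ≤ Q') (h2 : Q' ≤ M) (hQ' : IsPGroup p Q') (hidx : ¬ p ∣ Q.relIndex M) : Q' = Q := by
  have hmul := Subgroup.relIndex_mul_relIndex Q Q' M h1 h2
  have hdvd : Q.relIndex Q' ∣ Q.relIndex M := ⟨_, hmul.symm⟩
  obtain ⟨n, hn⟩ := hQ'.index (Q.subgroupOf Q')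
  have hrel : Q.relIndex Q' = p ^ n := hn
  have hn0 : n = 0 := by
    by_contra hne
    apply hidx
    exact (dvd_pow_self p hne).trans (hrel ▸ hdvd)
  rw [hn0, pow_zero, Subgroup.relIndex_eq_one] at hrel
  exact le_antisymm hrel h1

section

variable {p : ℕ} (h𝓦 : ∀ W ∈ 𝓦, Cfsg.IsConjugacyFunctor p W)

include h𝓦

theorem W_cj' {W : Subgroup G → Subgroup G} (hW : W ∈ 𝓦) {P : Subgroup G} (hP : IsPGroup p P)
    (g : G) : W (cj g P) = cj g (W P) :=
  (h𝓦 W hW P hP).2.2 g

theorem normalizer_le_normalizer_W' {W : Subgroup G → Subgroup G} (hW : W ∈ 𝓦) {P : Subgroup G}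
    (hP : IsPGroup p P) :
    Subgroup.normalizer (P : Set G) ≤ Subgroup.normalizer ((W P : Subgroup G) : Set G) := by
  intro x hx
  rw [mem_normalizer_iff_cj] at hx ⊢
  rw [← W_cj' h𝓦 hW hP, hx]

theorem WChain.conj {P : Subgroup G} (hP : IsPGroup p P) {t : G} (ht : t ∈ H) {A₁ : Set G} {g : G}
    (h : WChain 𝓦 H (cj t P) A₁ g) : WChain 𝓦 H P (cjs t⁻¹ A₁) (t⁻¹ * g * t) := by
  induction h with
  | nil A =>
    have : t⁻¹ * 1 * t = 1 := by group
    rw [this]; exact WChain.nil _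
  | cons A y g hy hyA _ ih =>
    have hy' : ∃ W ∈ 𝓦, t⁻¹ * y * t ∈ H ⊓ Subgroup.normalizer ((W P : Subgroup G) : Set G) := by
      obtain ⟨W, hW, hy2⟩ := hy
      rw [Subgroup.mem_inf] at hy2
      obtain ⟨hyH, hyN⟩ := hy2
      refine ⟨W, hW, Subgroup.mem_inf.mpr ⟨H.mul_mem (H.mul_mem (H.inv_mem ht) hyH) ht, ?_⟩⟩
      rw [W_cj' h𝓦 hW hP, ← cj_normalizer, mem_cj] at hyN
      exact hyN
    have e1 : cjs (t⁻¹ * y * t) (cjs t⁻¹ A) = cjs t⁻¹ (cjs y A) := by
      rw [← cjs_mul, ← cjs_mul]; congr 1; group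
    have hsub : cjs (t⁻¹ * y * t) (cjs t⁻¹ A) ⊆ (P : Set G) := by
      rw [e1]
      have := cjs_mono (g := t⁻¹) hyA
      rwa [← coe_cj, cj_inv_cj] at this
    have := WChain.cons (cjs t⁻¹ A) (t⁻¹ * y * t) (t⁻¹ * g * t) hy' hsub (by rw [e1]; exact ih)
    have e2 : t⁻¹ * g * t * (t⁻¹ * y * t) = t⁻¹ * (g * y) * t := by group
    rwa [e2] at this

/-- If `𝓦` controls strong fusion in `H`, the chain property holds for *every* Sylow `p`-subgroup
`P` of `H`. -/
theorem exists_wchain_of_controls [Finite G] [Fact p.Prime] {P : Subgroup G}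
    (hctl : Cfsg.FamilyControlsStrongFusionIn p 𝓦 H) (hPH : P ≤ H) (hP : IsPGroup p P)
    (hidx : ¬ p ∣ P.relIndex H) (A : Set G) (h : G) (hh : h ∈ H) (hA : A ⊆ (P : Set G))
    (hhA : cjs h A ⊆ (P : Set G)) : ∃ g, WChain 𝓦 H P A g ∧ AgreeOn A g h := by
  obtain ⟨T', hT'H, hT'p, hT'idx, hprop⟩ := hctl
  obtain ⟨t, htH, htle⟩ := exists_cj_le_of_relIndex hT'H hT'p hT'idx hPH hP
  have hT' : T' = cj t P := by
    apply eq_of_le_of_not_dvd_relIndex' (p := p) htle hT'H hT'p
    have : (cj t P).relIndex H = (cj t P).relIndex (cj t H) := by rw [cj_of_mem htH]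
    rw [this, relIndex_cj']
    exact hidx
  subst hT'
  have hA1 : cjs t A ⊆ ((cj t P : Subgroup G) : Set G) := by
    rw [coe_cj]; exact cjs_mono hA
  have hA2 : (fun a => t * h * t⁻¹ * a * (t * h * t⁻¹)⁻¹) '' (cjs t A) ⊆
      ((cj t P : Subgroup G) : Set G) := by
    show cjs (t * h * t⁻¹) (cjs t A) ⊆ _
    rw [← cjs_mul, coe_cj]
    have : t * h * t⁻¹ * t = t * h := by group
    rw [this, cjs_mul]
    exact cjs_mono hhA
  obtain ⟨n, c, hc0, hstep, hsub, hag⟩ := hprop (cjs t A) (t * h * t⁻¹)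
    (H.mul_mem (H.mul_mem htH hh) (H.inv_mem htH)) hA1 hA2
  have hch := wchain_of_finChain n (cjs t A) c hc0 hstep hsub
  have hch2 := WChain.conj h𝓦 hP htH hch
  rw [cjs_inv_cjs] at hch2
  refine ⟨_, hch2, ?_⟩
  intro a ha
  have := hag (t * a * t⁻¹) (conj_mem_cjs ha)
  calc t⁻¹ * c (Fin.last n) * t * a * (t⁻¹ * c (Fin.last n) * t)⁻¹
      = t⁻¹ * (c (Fin.last n) * (t * a * t⁻¹) * (c (Fin.last n))⁻¹) * t := by group
    _ = t⁻¹ * (t * h * t⁻¹ * (t * a * t⁻¹) * (t * h * t⁻¹)⁻¹) * t := by rw [this]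
    _ = h * a * h⁻¹ := by group

end


/-! ### The local-to-global theorem for strong fusion -/

section Main

variable [Finite G] {p : ℕ} [Fact p.Prime] (S : Sylow p G)
  (h𝓦 : ∀ W ∈ 𝓦, Cfsg.IsConjugacyFunctor p W)

/-- the global relation: conjugation by `g` on `A ⊆ S` is a chain of `𝓦`-steps inside `S` -/
def GR (𝓦 : Set (Subgroup G → Subgroup G)) (S : Subgroup G) (A : Set G) (g : G) : Prop :=
  A ⊆ (S : Set G) ∧ ∃ g', WChain 𝓦 ⊤ S A g' ∧ AgreeOn A g' g

theorem GR.fusionRel (𝓦 : Set (Subgroup G → Subgroup G)) (S : Subgroup G) :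
    FusionRel (GR 𝓦 S) where
  restrict := by
    rintro A A' g ⟨hA, g', hch, hag⟩ hA'
    exact ⟨hA'.trans hA, g', hch.restrict A' hA', hag.mono hA'⟩
  trans := by
    rintro A g h ⟨hA, g', hch, hag⟩ ⟨_, h', hch', hag'⟩
    have e : cjs g A = cjs g' A := hag.cjs_eq.symm
    rw [e] at hch' hag'
    exact ⟨hA, h' * g', hch.trans h' hch', hag.mul hag'⟩
  symm := by
    rintro A g ⟨hA, g', hch, hag⟩
    have e : cjs g A = cjs g' A := hag.cjs_eq.symm
    rw [e]
    exact ⟨hch.target_subset hA, g'⁻¹, hch.symm hA, hag.inv⟩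

theorem GR.of_agree {S : Subgroup G} {A : Set G} {g h : G} (hg : GR 𝓦 S A g)
    (hag : AgreeOn A g h) : GR 𝓦 S A h := by
  obtain ⟨hA, g', hch, hag'⟩ := hg
  exact ⟨hA, g', hch, hag'.trans hag⟩

theorem GR.one {S : Subgroup G} {A : Set G} (hA : A ⊆ (S : Set G)) : GR 𝓦 S A 1 :=
  ⟨hA, 1, WChain.nil A, AgreeOn.refl A 1⟩

/-- a chain in `N_U` relative to `P ≤ S`, all of whose steps are globally explained, is globally
explained -/
theorem GR.of_wchain {S P U : Subgroup G} (hPS : P ≤ S)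
    (C : ∀ W ∈ 𝓦, ∀ z ∈ Subgroup.normalizer ((W P : Subgroup G) : Set G), ∀ B : Set G,
      B ⊆ (P : Set G) → cjs z B ⊆ (P : Set G) → GR 𝓦 S B z)
    {B : Set G} {g : G} (h : WChain 𝓦 U P B g) : B ⊆ (P : Set G) → GR 𝓦 S B g := by
  induction h with
  | nil B => intro hB; exact GR.one (hB.trans hPS)
  | cons B y g hy hyB _ ih =>
    intro hB
    obtain ⟨W, hW, hy2⟩ := hy
    rw [Subgroup.mem_inf] at hy2
    have h1 := C W hW y hy2.2 B hB hyB
    exact (GR.fusionRel 𝓦 S).trans B y g h1 (ih hyB)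

include h𝓦 in
/-- **Local-to-global control of strong fusion.** -/
theorem gr_of_local (𝓕 : Set (Subgroup G))
    (h𝓕 : ∀ T : Subgroup G, T ≤ (S : Subgroup G) → ∃ U ∈ 𝓕, U ≤ (S : Subgroup G) ∧
      (∃ g : G, cj g T = U) ∧
      ¬ p ∣ ((S : Subgroup G) ⊓ Subgroup.normalizer (U : Set G)).relIndex
        (Subgroup.normalizer (U : Set G)))
    (hloc : ∀ U ∈ 𝓕, U ≤ (S : Subgroup G) → U ≠ ⊥ →
      ¬ p ∣ ((S : Subgroup G) ⊓ Subgroup.normalizer (U : Set G)).relIndex
        (Subgroup.normalizer (U : Set G)) →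
      Cfsg.FamilyControlsStrongFusionIn p 𝓦 (Subgroup.normalizer (U : Set G))) :
    ∀ Q : Subgroup G, Q ≤ (S : Subgroup G) → ∀ g : G, cj g Q ≤ (S : Subgroup G) →
      GR 𝓦 (S : Subgroup G) (Q : Set G) g := by
  have hR := GR.fusionRel 𝓦 (S : Subgroup G)
  apply alperin S 𝓕 h𝓕 (GR 𝓦 (S : Subgroup G)) hR
  intro U hU hUS hUfn IH m hm
  by_cases hUbot : U = ⊥
  · subst hUbot
    refine ⟨by simp, 1, WChain.nil _, ?_⟩
    intro a ha
    have : a = 1 := by simpa using ha
    subst this; simp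
  -- the claim C(P)
  have C : ∀ n : ℕ, ∀ P : Subgroup G, P ≤ (S : Subgroup G) →
      Nat.card (S : Subgroup G) - Nat.card P = n →
      (Nat.card U < Nat.card P ∨ P = (S : Subgroup G)) →
      ∀ W ∈ 𝓦, ∀ z ∈ Subgroup.normalizer ((W P : Subgroup G) : Set G), ∀ B : Set G,
        B ⊆ (P : Set G) → cjs z B ⊆ (P : Set G) → GR 𝓦 (S : Subgroup G) B z := by
    intro n
    induction n using Nat.strong_induction_on with
    | _ n ihC =>
    intro P hPS hn hcard W hW z hz B hBP hzB
    rcases eq_or_lt_of_le hPS with hPeq | hPlt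
    · subst hPeq
      exact ⟨hBP, z, WChain.single ⟨W, hW, Subgroup.mem_inf.mpr ⟨Subgroup.mem_top z, hz⟩⟩ hzB,
        AgreeOn.refl B z⟩
    · have hcardP : Nat.card U < Nat.card P := hcard.resolve_right hPlt.ne
      have hPp : IsPGroup p P := S.2.to_le hPS
      have hPne : P ≠ ⊥ := by
        intro h
        rw [h, Subgroup.card_bot] at hcardP
        have : 0 < Nat.card U := Nat.card_pos
        omega
      have hVne : W P ≠ ⊥ := (h𝓦 W hW P hPp).2.1 hPne
      have hVP : W P ≤ P := (h𝓦 W hW P hPp).1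
      have h1 : P < (S : Subgroup G) ⊓ Subgroup.normalizer (P : Set G) :=
        lt_inf_normalizer S.2 hPlt
      have h2 : (S : Subgroup G) ⊓ Subgroup.normalizer (P : Set G) ≤
          (S : Subgroup G) ⊓ Subgroup.normalizer ((W P : Subgroup G) : Set G) :=
        inf_le_inf_left _ (normalizer_le_normalizer_W' h𝓦 hW hPp)
      obtain ⟨U', hU', hU'S, ⟨k₀, hk₀⟩, hU'fn⟩ := h𝓕 (W P) (hVP.trans hPS)
      obtain ⟨k, hkV, hkN⟩ := exists_cj_normalizer_le S k₀ hk₀ hU'fn
      have hc1 : Nat.card P < Nat.card ((S : Subgroup G) ⊓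
          Subgroup.normalizer ((W P : Subgroup G) : Set G) : Subgroup G) :=
        lt_of_lt_of_le (card_lt_of_lt h1) (Subgroup.card_le_of_le h2)
      have hc2 : Nat.card ((S : Subgroup G) ⊓
          Subgroup.normalizer ((W P : Subgroup G) : Set G) : Subgroup G) ≤
          Nat.card ((S : Subgroup G) ⊓ Subgroup.normalizer (U' : Set G) : Subgroup G) := by
        rw [← card_cj k]
        exact Subgroup.card_le_of_le hkN
      have hc3 : Nat.card ((S : Subgroup G) ⊓ Subgroup.normalizer (U' : Set G) : Subgroup G) ≤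
          Nat.card (S : Subgroup G) := Subgroup.card_le_of_le inf_le_left
      have hU'ne : U' ≠ ⊥ := by
        intro h
        apply hVne
        have : cj k⁻¹ U' = W P := by rw [← hkV, cj_inv_cj]
        rw [← this, h]
        exact Subgroup.map_bot _
      have hRk : GR 𝓦 (S : Subgroup G) (((S : Subgroup G) ⊓
          Subgroup.normalizer ((W P : Subgroup G) : Set G) : Subgroup G) : Set G) k :=
        IH _ inf_le_left (by omega) k (hkN.trans inf_le_left)
      have hBV : B ⊆ (((S : Subgroup G) ⊓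
          Subgroup.normalizer ((W P : Subgroup G) : Set G) : Subgroup G) : Set G) :=
        hBP.trans (h1.le.trans h2)
      have hzBV : cjs z B ⊆ (((S : Subgroup G) ⊓
          Subgroup.normalizer ((W P : Subgroup G) : Set G) : Subgroup G) : Set G) :=
        hzB.trans (h1.le.trans h2)
      have hRBk := hR.restrict _ _ _ hRk hBV
      have hRzBk := hR.restrict _ _ _ hRk hzBV
      have hz' : k * z * k⁻¹ ∈ Subgroup.normalizer (U' : Set G) := by
        rw [← hkV, ← cj_normalizer]; exact conj_mem_cj hz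
      have hcjk : cjs k (((S : Subgroup G) ⊓
          Subgroup.normalizer ((W P : Subgroup G) : Set G) : Subgroup G) : Set G) ⊆
          (((S : Subgroup G) ⊓ Subgroup.normalizer (U' : Set G) : Subgroup G) : Set G) := by
        rw [← coe_cj]; exact hkN
      have hB' : cjs k B ⊆
          (((S : Subgroup G) ⊓ Subgroup.normalizer (U' : Set G) : Subgroup G) : Set G) :=
        (cjs_mono hBV).trans hcjk
      have e0 : cjs (k * z * k⁻¹) (cjs k B) = cjs k (cjs z B) := by
        rw [← cjs_mul, ← cjs_mul]; congr 1; group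
      have hz'B' : cjs (k * z * k⁻¹) (cjs k B) ⊆
          (((S : Subgroup G) ⊓ Subgroup.normalizer (U' : Set G) : Subgroup G) : Set G) := by
        rw [e0]; exact (cjs_mono hzBV).trans hcjk
      have hctl := hloc U' hU' hU'S hU'ne hU'fn
      obtain ⟨g'', hch, hag⟩ := exists_wchain_of_controls h𝓦 hctl inf_le_right
        (S.2.to_le inf_le_left) hU'fn (cjs k B) (k * z * k⁻¹) hz' hB' hz'B'
      have CP' := ihC (Nat.card (S : Subgroup G) - Nat.card ((S : Subgroup G) ⊓
        Subgroup.normalizer (U' : Set G) : Subgroup G)) (by omega) _ inf_le_left rfl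
        (Or.inl (by omega))
      have hRB' := GR.of_wchain inf_le_left CP' hch hB'
      have hRB'z := hRB'.of_agree hag
      have h3 := hR.trans B k (k * z * k⁻¹) hRBk hRB'z
      have h4 := hR.symm _ _ hRzBk
      have e : cjs (k * z * k⁻¹ * k) B = cjs k (cjs z B) := by
        rw [← cjs_mul]; congr 1; group
      have h5 := hR.trans B _ k⁻¹ h3 (by rw [e]; exact h4)
      have e5 : k⁻¹ * (k * z * k⁻¹ * k) = z := by group
      rwa [e5] at h5
  -- apply C to P = N_S(U)
  have hUP : U ≤ (S : Subgroup G) ⊓ Subgroup.normalizer (U : Set G) :=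
    le_inf hUS Subgroup.le_normalizer
  have hcardP : Nat.card U < Nat.card ((S : Subgroup G) ⊓
      Subgroup.normalizer (U : Set G) : Subgroup G) ∨
      (S : Subgroup G) ⊓ Subgroup.normalizer (U : Set G) = (S : Subgroup G) := by
    rcases eq_or_lt_of_le hUS with h | h
    · right
      rw [h]
      exact inf_eq_left.mpr Subgroup.le_normalizer
    · left
      exact card_lt_of_lt (lt_inf_normalizer S.2 h)
  have CP := C _ _ inf_le_left rfl hcardP
  have hctl := hloc U hU hUS hUbot hUfn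
  have hmU : cjs m (U : Set G) = (U : Set G) := by
    rw [← coe_cj, mem_normalizer_iff_cj.mp hm]
  obtain ⟨g', hch, hag⟩ := exists_wchain_of_controls h𝓦 hctl inf_le_right
    (S.2.to_le inf_le_left) hUfn (U : Set G) m hm hUP (by rw [hmU]; exact hUP)
  exact (GR.of_wchain inf_le_left CP hch hUP).of_agree hag

include h𝓦 in
/-- **Local-to-global control of strong fusion**, in the form of the statements. -/
theorem familyControls_of_local (𝓕 : Set (Subgroup G))
    (h𝓕 : ∀ T : Subgroup G, T ≤ (S : Subgroup G) → ∃ U ∈ 𝓕, U ≤ (S : Subgroup G) ∧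
      (∃ g : G, cj g T = U) ∧
      ¬ p ∣ ((S : Subgroup G) ⊓ Subgroup.normalizer (U : Set G)).relIndex
        (Subgroup.normalizer (U : Set G)))
    (hloc : ∀ U ∈ 𝓕, U ≤ (S : Subgroup G) → U ≠ ⊥ →
      ¬ p ∣ ((S : Subgroup G) ⊓ Subgroup.normalizer (U : Set G)).relIndex
        (Subgroup.normalizer (U : Set G)) →
      Cfsg.FamilyControlsStrongFusionIn p 𝓦 (Subgroup.normalizer (U : Set G))) :
    Cfsg.FamilyControlsStrongFusionIn p 𝓦 ⊤ := by
  refine ⟨(S : Subgroup G), le_top, S.2, ?_, ?_⟩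
  · rw [Subgroup.relIndex_top_right]; exact S.not_dvd_index
  · intro A h _ hA hhA
    have key := gr_of_local S h𝓦 𝓕 h𝓕 hloc (Subgroup.closure A)
      ((Subgroup.closure_le _).mpr hA) h (cjs_subset_coe_iff.mp hhA)
    have key2 := (GR.fusionRel 𝓦 (S : Subgroup G)).restrict _ A h key Subgroup.subset_closure
    obtain ⟨_, g', hch, hag⟩ := key2
    obtain ⟨n, c, hc0, hstep, hsub, hlast⟩ := finChain_of_wchain hch hA
    refine ⟨n, c, hc0, hstep, hsub, ?_⟩
    rw [hlast]
    exact hag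

end Main


/-! ### Single functor versus singleton family -/

theorem controls_of_familyControls_singleton {p : ℕ} {W : Subgroup G → Subgroup G} {H : Subgroup G}
    (h : Cfsg.FamilyControlsStrongFusionIn p {W} H) : Cfsg.ControlsStrongFusionIn p W H := by
  obtain ⟨T, hTH, hTp, hTidx, hprop⟩ := h
  refine ⟨T, hTH, hTp, hTidx, ?_⟩
  intro A h hh hA hhA
  obtain ⟨n, c, hc0, hstep, hsub, hag⟩ := hprop A h hh hA hhA
  have hch := wchain_of_finChain n A c hc0 hstep hsub
  exact ⟨c (Fin.last n), hch.mem_normalizer_of_singleton, hag⟩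

theorem familyControls_singleton_of_controls {p : ℕ} {W : Subgroup G → Subgroup G} {H : Subgroup G}
    (h : Cfsg.ControlsStrongFusionIn p W H) : Cfsg.FamilyControlsStrongFusionIn p {W} H := by
  obtain ⟨T, hTH, hTp, hTidx, hprop⟩ := h
  refine ⟨T, hTH, hTp, hTidx, ?_⟩
  intro A h hh hA hhA
  obtain ⟨x, hx, hag⟩ := hprop A h hh hA hhA
  have hag' : AgreeOn A x h := hag
  have hxA : cjs x A ⊆ (T : Set G) := by rw [hag'.cjs_eq]; exact hhA
  have hch : WChain {W} H T A x := WChain.single ⟨W, rfl, hx⟩ hxA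
  obtain ⟨n, c, hc0, hstep, hsub, hlast⟩ := finChain_of_wchain hch hA
  refine ⟨n, c, hc0, hstep, hsub, ?_⟩
  rw [hlast]
  exact hag

end Cfsg.Agent.Lib.Helper33_WFusion
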