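import Mathlib
import Cfsg.Prelude.Def_Transfer
import Cfsg.Agent.S2972
import Cfsg.Agent.Lib.Helper33_Alperin
import Cfsg.Agent.Lib.Helper33_WFusion
import Cfsg.Agent.Lib.Helper1_Frattini
import Cfsg.Agent.S0029
import Cfsg.Agent.Lib.Helper88_Omega

/-!
`ℋ`-subgroups of a Sylow `p`-subgroup for the smallest prime `p` (helper50): towards S3031.

A subgroup `E` of `G` is an `ℋ`-subgroup when `g E g⁻¹ ∩ N_G(E) ≤ E` for all `g`.
-/

set_option autoImplicit false

namespace Cfsg.Agent.Lib.Helper50_HSub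

open Subgroup

section NC

variable {X : Type*} [Group X] [Finite X] {p : ℕ} [Fact p.Prime]

/-- `N/C` for a subgroup of prime order `p` in a group of order prime to `p - 1`. -/
theorem normalizer_le_centralizer_of_card_prime (hcop : (Nat.card X).Coprime (p - 1))
    (H : Subgroup X) (hH : Nat.card H = p) :
    normalizer (H : Set X) ≤ centralizer (H : Set X) := by
  have hp : p.Prime := Fact.out
  have hcyc : IsCyclic H := isCyclic_of_prime_card hH
  have key := card_dvd_of_injective _ (QuotientGroup.kerLift_injective H.normalizerMonoidHom)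
  rw [normalizerMonoidHom_ker, ← index, ← relIndex] at key
  rw [IsCyclic.card_mulAut, hH, Nat.totient_prime hp] at key
  refine relIndex_eq_one.mp (Nat.eq_one_of_dvd_coprimes ?_ dvd_rfl key)
  exact Nat.Coprime.coprime_dvd_left
    ((relIndex_dvd_card _ _).trans (card_subgroup_dvd_card _)) hcop

/-- An element of `N(H)`, `H` cyclic, whose order is prime to `φ(|H|)` centralizes `H`. -/
theorem mem_centralizer_of_isCyclic (H : Subgroup X) [hcyc : IsCyclic H] {c : X}
    (hc : c ∈ normalizer (H : Set X)) (hcop : (orderOf c).Coprime (Nat.totient (Nat.card H))) :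
    c ∈ centralizer (H : Set X) := by
  have h1 : orderOf (H.normalizerMonoidHom ⟨c, hc⟩) ∣ orderOf c := by
    have := orderOf_map_dvd H.normalizerMonoidHom ⟨c, hc⟩
    rwa [Subgroup.orderOf_mk] at this
  have h2 : orderOf (H.normalizerMonoidHom ⟨c, hc⟩) ∣ Nat.totient (Nat.card H) := by
    rw [← IsCyclic.card_mulAut]
    exact orderOf_dvd_natCard _
  have h3 : orderOf (H.normalizerMonoidHom ⟨c, hc⟩) = 1 :=
    Nat.eq_one_of_dvd_coprimes hcop h1 h2
  rw [orderOf_eq_one_iff, ← MonoidHom.mem_ker, normalizerMonoidHom_ker, mem_subgroupOf] at h3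
  exact h3

end NC

section Sections

variable {G : Type*} [Group G] [Finite G] {p : ℕ} [Fact p.Prime]

omit [Group G] [Finite G] in
/-- If `p` is the smallest prime divisor of `|G|` then `|G|` is prime to `p - 1`. -/
theorem coprime_pred (hmin : ∀ q : ℕ, q.Prime → q ∣ Nat.card G → p ≤ q) :
    (Nat.card G).Coprime (p - 1) := by
  have hp : p.Prime := Fact.out
  apply Nat.coprime_of_dvd
  intro q hq h1 h2
  have h3 := hmin q hq h1
  have h4 := Nat.le_of_dvd (by have := hp.one_lt; omega) h2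
  have := hp.one_lt
  omega

/-- An element normalizing `B₀ ≤ B` with `|B : B₀| = p` acts trivially on `B / B₀`, when `|G|`
is prime to `p - 1`. -/
theorem conj_mul_inv_mem_of_relIndex_prime (hcop : (Nat.card G).Coprime (p - 1))
    {B₀ B : Subgroup G} (h1 : B₀ ≤ B) (h2 : B ≤ normalizer (B₀ : Set G))
    (h3 : B₀.relIndex B = p) {g : G} (hg : g ∈ normalizer (B : Set G))
    (hg₀ : g ∈ normalizer (B₀ : Set G)) : ∀ b ∈ B, g * b * g⁻¹ * b⁻¹ ∈ B₀ := by
  intro b hb
  have hN₀ : (B₀.subgroupOf (normalizer (B₀ : Set G))).Normal := normal_in_normalizer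
  have hHcard : Nat.card ((B.subgroupOf (normalizer (B₀ : Set G))).map
      (QuotientGroup.mk' (B₀.subgroupOf (normalizer (B₀ : Set G))))) = p := by
    have e := Cfsg.Agent.S2972.relIndex_comap_mk' (B₀.subgroupOf (normalizer (B₀ : Set G)))
      ((B.subgroupOf (normalizer (B₀ : Set G))).map
        (QuotientGroup.mk' (B₀.subgroupOf (normalizer (B₀ : Set G)))))
    rw [← e, comap_map_eq, QuotientGroup.ker_mk', sup_of_le_left, relIndex_subgroupOf h2, h3]
    intro x hx
    exact mem_subgroupOf.2 (h1 (mem_subgroupOf.1 hx))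
  have hcopQ : (Nat.card (↥(normalizer (B₀ : Set G)) ⧸
      B₀.subgroupOf (normalizer (B₀ : Set G)))).Coprime (p - 1) :=
    Nat.Coprime.coprime_dvd_left
      ((card_quotient_dvd_card _).trans (card_subgroup_dvd_card _)) hcop
  have hNC := normalizer_le_centralizer_of_card_prime hcopQ _ hHcard
  have hgN : (QuotientGroup.mk' (B₀.subgroupOf (normalizer (B₀ : Set G))) ⟨g, hg₀⟩) ∈
      normalizer (((B.subgroupOf (normalizer (B₀ : Set G))).map
      (QuotientGroup.mk' (B₀.subgroupOf (normalizer (B₀ : Set G)))) : Subgroup _) : Set _) := by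
    apply mem_normalizer_fintype
    rintro _ ⟨y, hy, rfl⟩
    refine ⟨⟨g, hg₀⟩ * y * ⟨g, hg₀⟩⁻¹, ?_, by simp⟩
    rw [SetLike.mem_coe, mem_subgroupOf] at hy ⊢
    have := (mem_normalizer_iff.1 hg (y : G)).1 hy
    simpa using this
  have hgC := hNC hgN
  rw [mem_centralizer_iff] at hgC
  have hbH : (QuotientGroup.mk' (B₀.subgroupOf (normalizer (B₀ : Set G))) ⟨b, h2 hb⟩) ∈
      (((B.subgroupOf (normalizer (B₀ : Set G))).map
      (QuotientGroup.mk' (B₀.subgroupOf (normalizer (B₀ : Set G)))) : Subgroup _) : Set _) :=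
    ⟨⟨b, h2 hb⟩, mem_subgroupOf.2 hb, rfl⟩
  have hcomm := hgC _ hbH
  have h5 : (QuotientGroup.mk' (B₀.subgroupOf (normalizer (B₀ : Set G)))
      (⟨g, hg₀⟩ * ⟨b, h2 hb⟩ * ⟨g, hg₀⟩⁻¹ * ⟨b, h2 hb⟩⁻¹)) = 1 := by
    simp only [map_mul, map_inv]
    rw [← hcomm]
    group
  have h6 := (QuotientGroup.eq_one_iff _).1 h5
  rw [mem_subgroupOf] at h6
  simpa using h6

/-- An element of order prime to `p` normalizing a cyclic `p`-subgroup centralizes it, when
`|G|` is prime to `p - 1`. -/
theorem mem_centralizer_of_isCyclic_of_isPGroup (hcop : (Nat.card G).Coprime (p - 1))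
    (Z : Subgroup G) [IsCyclic Z] (hZ : IsPGroup p Z) {c : G}
    (hc : c ∈ normalizer (Z : Set G)) (hcp : (orderOf c).Coprime p) :
    c ∈ centralizer (Z : Set G) := by
  have hp : p.Prime := Fact.out
  apply mem_centralizer_of_isCyclic Z hc
  obtain ⟨j, hj⟩ := hZ.exists_card_eq
  rw [hj]
  rcases Nat.eq_zero_or_pos j with h0 | h0
  · rw [h0, pow_zero, Nat.totient_one]
    exact Nat.coprime_one_right _
  · rw [Nat.totient_prime_pow hp h0]
    exact (Nat.Coprime.pow_right _ hcp).mul_right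
      (Nat.Coprime.coprime_dvd_left (orderOf_dvd_natCard c) hcop)

end Sections

section HSub

variable {G : Type*} [Group G] [Finite G] {p : ℕ} [Fact p.Prime]

/-- `E` is an `ℋ`-subgroup of `G`: `g E g⁻¹ ∩ N_G(E) ≤ E` for all `g`. -/
def IsH (E : Subgroup G) : Prop :=
  ∀ g : G, E.map (MulAut.conj g).toMonoidHom ⊓ normalizer (E : Set G) ≤ E

/-- The hypothesis of the theorem, for a Sylow `p`-subgroup `P` and `|D| = p ^ k`. -/
structure Hyp (P : Sylow p G) (k : ℕ) : Prop where
  hmin : ∀ q : ℕ, q.Prime → q ∣ Nat.card G → p ≤ q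
  hk : 1 ≤ k
  hlt : p ^ k < Nat.card (P : Subgroup G)
  hH : ∀ E : Subgroup G, E ≤ (P : Subgroup G) →
    (Nat.card E = p ^ k ∨ (p ^ k = 2 ∧ Nat.card E = 4)) → IsH E

omit [Fact p.Prime] in
/-- An `ℋ`-subgroup of a `p`-group `P` containing it is normal in `P`. -/
theorem IsH.le_normalizer [Fact p.Prime] {E : Subgroup G} (hE : IsH E) {P : Subgroup G}
    (hP : IsPGroup p P) (hEP : E ≤ P) : P ≤ normalizer (E : Set G) := by
  by_contra hcon
  have hlt : P ⊓ normalizer (E : Set G) < P := by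
    refine lt_of_le_of_ne inf_le_left ?_
    intro h
    exact hcon (h ▸ inf_le_right)
  have h1 := Cfsg.Agent.Lib.Helper33_Alperin.lt_inf_normalizer hP hlt
  obtain ⟨g, hg, hgn⟩ := SetLike.exists_of_lt h1
  apply hgn
  refine ⟨hg.1, ?_⟩
  apply mem_normalizer_fintype
  intro n hn
  apply hE g
  refine ⟨⟨n, hn, rfl⟩, ?_⟩
  have h2 : n ∈ P ⊓ normalizer (E : Set G) := ⟨hEP hn, Subgroup.le_normalizer hn⟩
  exact ((mem_normalizer_iff.1 hg.2 n).1 h2).2

omit [Finite G] [Fact p.Prime] in
/-- An `ℋ`-subgroup normal in `P` is strongly closed in `P`. -/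
theorem IsH.conj_mem {E : Subgroup G} (hE : IsH E) {P : Subgroup G}
    (hPE : P ≤ normalizer (E : Set G)) {x g : G} (hx : x ∈ E) (hg : g * x * g⁻¹ ∈ P) :
    g * x * g⁻¹ ∈ E :=
  hE g ⟨⟨x, hx, rfl⟩, hPE hg⟩

omit [Fact p.Prime] in
/-- An element normalizing `R`, with `E ≤ R ≤ P` and `E` an `ℋ`-subgroup normal in `P`,
normalizes `E`. -/
theorem IsH.mem_normalizer {E : Subgroup G} (hE : IsH E) {P R : Subgroup G}
    (hPE : P ≤ normalizer (E : Set G)) (hER : E ≤ R) (hRP : R ≤ P) {c : G}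
    (hc : c ∈ normalizer (R : Set G)) : c ∈ normalizer (E : Set G) := by
  apply mem_normalizer_fintype
  intro n hn
  exact hE.conj_mem hPE hn (hRP ((mem_normalizer_iff.1 hc n).1 (hER hn)))

/-- In a `p`-group `F`, between a subgroup of order `p ^ j` and `F` there are subgroups of
every intermediate order. -/
theorem exists_between {Z F : Subgroup G} (hZF : Z ≤ F) {j n m : ℕ} (hZ : Nat.card Z = p ^ j)
    (hF : Nat.card F = p ^ m) (hjn : j ≤ n) (hnm : n ≤ m) :
    ∃ E : Subgroup G, Z ≤ E ∧ E ≤ F ∧ Nat.card E = p ^ n := by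
  have h1 : p ^ n ∣ Nat.card F := by rw [hF]; exact pow_dvd_pow p hnm
  have h2 : Nat.card (Z.subgroupOf F) = p ^ j := by
    rw [Nat.card_congr (subgroupOfEquivOfLe hZF).toEquiv, hZ]
  obtain ⟨K, hK, hle⟩ := Sylow.exists_subgroup_card_pow_prime_le p h1 (Z.subgroupOf F) h2 hjn
  refine ⟨K.map F.subtype, ?_, map_subtype_le K, ?_⟩
  · intro z hz
    exact ⟨⟨z, hZF hz⟩, hle (mem_subgroupOf.2 hz), rfl⟩
  · rw [card_map_of_injective (subtype_injective F), hK]

/-- A `p'`-element normalizing every subgroup of order `p ^ k` of a non-cyclic `p`-group `F`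
of order `p ^ (k + 1)` centralizes `F` (when `|G|` is prime to `p - 1`). -/
theorem centralizes_of_noncyclic (hcop : (Nat.card G).Coprime (p - 1)) {k : ℕ}
    {F : Subgroup G} (hF : Nat.card F = p ^ (k + 1)) (hnc : ¬ IsCyclic F) {c : G}
    (hcN : ∀ E : Subgroup G, E ≤ F → Nat.card E = p ^ k → c ∈ normalizer (E : Set G))
    (hcp : (orderOf c).Coprime p) : ∀ x ∈ F, c * x = x * c := by
  have hp : p.Prime := Fact.out
  have hFp : IsPGroup p F := IsPGroup.of_card hF
  have hcover : ∀ x ∈ F, ∃ E : Subgroup G, E ≤ F ∧ Nat.card E = p ^ k ∧ x ∈ E := by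
    intro x hx
    have hle : zpowers x ≤ F := zpowers_le.2 hx
    obtain ⟨j, hj⟩ := (hFp.to_le hle).exists_card_eq
    have hjle : j ≤ k := by
      by_contra hcon
      have h1 : Nat.card (zpowers x) ∣ Nat.card F := card_dvd_of_le hle
      rw [hj, hF] at h1
      have h2 : j ≤ k + 1 := (Nat.pow_dvd_pow_iff_le_right hp.one_lt).1 h1
      have h3 : j = k + 1 := by omega
      have h4 : zpowers x = F := by
        apply eq_of_le_of_card_ge hle
        rw [hj, hF, h3]
      apply hnc
      rw [← h4]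
      infer_instance
    obtain ⟨E, h1, h2, h3⟩ := exists_between hle hj hF hjle (Nat.le_succ k)
    exact ⟨E, h2, h3, h1 (mem_zpowers x)⟩
  have hzN : ∀ E : Subgroup G, E ≤ F → Nat.card E = p ^ k →
      zpowers c ≤ normalizer (E : Set G) := fun E h1 h2 => zpowers_le.2 (hcN E h1 h2)
  have hAK : zpowers c ≤ normalizer (F : Set G) := by
    intro a ha
    apply mem_normalizer_fintype
    intro x hx
    obtain ⟨E, h1, h2, h3⟩ := hcover x hx
    exact h1 ((mem_normalizer_iff.1 (hzN E h1 h2 ha) x).1 h3)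
  have hcopF : (Nat.card (zpowers c)).Coprime (Nat.card (frattini ↥F)) := by
    rw [Nat.card_zpowers]
    have h1 : Nat.card (frattini ↥F) ∣ p ^ (k + 1) := by
      rw [← hF]; exact card_subgroup_dvd_card _
    exact Nat.Coprime.coprime_dvd_right h1 (Nat.Coprime.pow_right _ hcp)
  have htriv : ∀ a ∈ zpowers c, ∀ x ∈ F,
      a * x * a⁻¹ * x⁻¹ ∈ (frattini ↥F).map F.subtype := by
    intro a ha x hx
    have hmem : a * x * a⁻¹ * x⁻¹ ∈ F :=
      F.mul_mem ((mem_normalizer_iff.1 (hAK ha) x).1 hx) (F.inv_mem hx)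
    refine ⟨⟨_, hmem⟩, ?_, rfl⟩
    rw [SetLike.mem_coe, Cfsg.Agent.Lib.Helper1_Frattini.mem_frattini_iff]
    intro M hM
    have hFp' : IsPGroup p ↥F := hFp
    have hMn : M.Normal := Cfsg.Agent.Lib.Helper1_Frattini.normal_of_isCoatom_of_isPGroup hFp' hM
    have hMi : M.index = p := Cfsg.Agent.Lib.Helper1_Frattini.index_of_isCoatom_of_isPGroup hFp' hM
    have hMcard : Nat.card M = p ^ k := by
      have h1 := M.card_mul_index
      rw [hMi, hF, pow_succ] at h1
      exact Nat.eq_of_mul_eq_mul_right hp.pos h1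
    have hEcard : Nat.card (M.map F.subtype) = p ^ k := by
      rw [card_map_of_injective (subtype_injective F), hMcard]
    have hEF : M.map F.subtype ≤ F := map_subtype_le M
    have hrel : (M.map F.subtype).relIndex F = p := by
      rw [relIndex, subgroupOf, comap_map_eq_self_of_injective (subtype_injective F), hMi]
    have hnorm : F ≤ normalizer ((M.map F.subtype : Subgroup G) : Set G) :=
      Cfsg.Agent.S2972.le_normalizer_map_subtype F M
    have h5 := conj_mul_inv_mem_of_relIndex_prime hcop hEF hnorm hrel (hAK ha)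
      (hzN _ hEF hEcard ha) x hx
    obtain ⟨y, hy, hyx⟩ := h5
    have : y = ⟨a * x * a⁻¹ * x⁻¹, hmem⟩ := Subtype.ext hyx
    rw [← this]; exact hy
  have hres := Cfsg.Agent.S0029.result (zpowers c) F hAK hcopF htriv
  intro x hx
  have h6 := hres (mem_zpowers c)
  rw [mem_centralizer_iff] at h6
  exact (h6 x hx).symm

/-- **Key lemma**: under the hypothesis, a `p'`-element normalizing a subgroup `R` of `P` of order
larger than `p ^ k` centralizes it. -/
theorem Hyp.commute_of_normalizer {P : Sylow p G} {k : ℕ} (h : Hyp P k) {R : Subgroup G}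
    (hRP : R ≤ (P : Subgroup G)) (hR : p ^ k < Nat.card R) {c : G}
    (hc : c ∈ normalizer (R : Set G)) (hcp : (orderOf c).Coprime p) :
    ∀ r ∈ R, c * r = r * c := by
  have hp : p.Prime := Fact.out
  have hcop := coprime_pred h.hmin
  have hPp : IsPGroup p (P : Subgroup G) := P.isPGroup'
  have hE : ∀ E : Subgroup G, E ≤ R → (Nat.card E = p ^ k ∨ (p ^ k = 2 ∧ Nat.card E = 4)) →
      c ∈ normalizer (E : Set G) := fun E hER hcard =>
    (h.hH E (hER.trans hRP) hcard).mem_normalizer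
      ((h.hH E (hER.trans hRP) hcard).le_normalizer hPp (hER.trans hRP)) hER hRP hc
  obtain ⟨m, hm⟩ := (hPp.to_le hRP).exists_card_eq
  have hkm : k + 1 ≤ m := by
    rw [hm] at hR
    exact (Nat.pow_lt_pow_iff_right hp.one_lt).1 hR
  have hΩ : ∀ z ∈ R, (z ^ p = 1 ∨ (p = 2 ∧ z ^ 4 = 1)) → c * z = z * c := by
    intro z hz hzo
    have hZR : zpowers z ≤ R := zpowers_le.2 hz
    have hZp : IsPGroup p (zpowers z) := (hPp.to_le hRP).to_le hZR
    obtain ⟨j, hj⟩ := hZp.exists_card_eq
    by_cases hjk : j ≤ k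
    · obtain ⟨F, hZF, hFR, hFcard⟩ := exists_between hZR hj hm (hjk.trans (Nat.le_succ k)) hkm
      by_cases hcyc : IsCyclic F
      · obtain ⟨E, hZE, hEF, hEcard⟩ := exists_between hZF hj hFcard hjk (Nat.le_succ k)
        have hEc : IsCyclic E := isCyclic_of_le hEF
        have h1 := mem_centralizer_of_isCyclic_of_isPGroup hcop E (IsPGroup.of_card hEcard)
          (hE E (hEF.trans hFR) (Or.inl hEcard)) hcp
        exact ((mem_centralizer_iff.1 h1) z (hZE (mem_zpowers z))).symm
      · exact centralizes_of_noncyclic hcop hFcard hcyc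
          (fun E hEF hEc => hE E (hEF.trans hFR) (Or.inl hEc)) hcp z (hZF (mem_zpowers z))
    · have hspecial : p ^ k = 2 ∧ Nat.card (zpowers z) = 4 := by
        rcases hzo with h1 | ⟨h2, h4⟩
        · exfalso
          have h3 : orderOf z ∣ p := orderOf_dvd_of_pow_eq_one h1
          rw [← Nat.card_zpowers, hj] at h3
          have h5 : j ≤ 1 := by
            have := (Nat.pow_dvd_pow_iff_le_right hp.one_lt).1 (by simpa using h3 : p ^ j ∣ p ^ 1)
            exact this
          have := h.hk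
          omega
        · have h3 : orderOf z ∣ 2 ^ 2 := orderOf_dvd_of_pow_eq_one (by norm_num; exact h4)
          rw [← Nat.card_zpowers, hj, h2] at h3
          have h5 : j ≤ 2 := (Nat.pow_dvd_pow_iff_le_right (by norm_num)).1 h3
          have h6 := h.hk
          have hk1 : k = 1 := by omega
          have hj2 : j = 2 := by omega
          refine ⟨by rw [h2, hk1]; norm_num, by rw [hj, h2, hj2]; norm_num⟩
      have h1 := mem_centralizer_of_isCyclic_of_isPGroup hcop (zpowers z) hZp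
        (hE _ hZR (Or.inr hspecial)) hcp
      exact ((mem_centralizer_iff.1 h1) z (mem_zpowers z)).symm
  have hα : (orderOf (R.normalizerMonoidHom ⟨c, hc⟩)).Coprime p := by
    have h1 := orderOf_map_dvd R.normalizerMonoidHom ⟨c, hc⟩
    rw [Subgroup.orderOf_mk] at h1
    exact Nat.Coprime.coprime_dvd_left h1 hcp
  have hfix : ∀ x : R, (x ^ p = 1 ∨ (p = 2 ∧ x ^ 4 = 1)) →
      R.normalizerMonoidHom ⟨c, hc⟩ x = x := by
    intro x hx
    apply Subtype.ext
    have h1 : ((x : G) ^ p = 1 ∨ (p = 2 ∧ (x : G) ^ 4 = 1)) := by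
      rcases hx with h | ⟨h2, h4⟩
      · left; simpa using congrArg Subtype.val h
      · right; exact ⟨h2, by simpa using congrArg Subtype.val h4⟩
    have h2 := hΩ x x.2 h1
    change c * (x : G) * c⁻¹ = x
    rw [h2]; group
  have h1 := Cfsg.Agent.Lib.Helper88_Omega.aut_eq_one_of_fix_omega (hPp.to_le hRP) _ hα hfix
  intro r hr
  have h2 := congrArg (fun f => ((f ⟨r, hr⟩ : R) : G)) h1
  change c * r * c⁻¹ = r at h2
  have h3 := congrArg (· * c) h2
  simpa using h3

open Cfsg.Agent.Lib.Helper33_Conj Cfsg.Agent.Lib.Helper33_Alperin in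
/-- Every subgroup of a Sylow `p`-subgroup `S` has a fully normalized conjugate in `S`. -/
theorem exists_fully_normalized (S : Sylow p G) {T : Subgroup G} (hT : T ≤ (S : Subgroup G)) :
    ∃ U : Subgroup G, U ≤ (S : Subgroup G) ∧ (∃ g : G, cj g T = U) ∧
      ¬ p ∣ ((S : Subgroup G) ⊓ normalizer (U : Set G)).relIndex (normalizer (U : Set G)) := by
  have hTp : IsPGroup p T := S.isPGroup'.to_le hT
  have hTp' : IsPGroup p (T.subgroupOf (normalizer (T : Set G))) := hTp.comap_subtype
  obtain ⟨Q, hQ⟩ := hTp'.exists_le_sylow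
  have hQ'p : IsPGroup p ((Q : Subgroup ↥(normalizer (T : Set G))).map
      (normalizer (T : Set G)).subtype) := Q.isPGroup'.map _
  obtain ⟨S', hS'⟩ := hQ'p.exists_le_sylow
  obtain ⟨g, hg⟩ := sylow_cj_eq S' S
  have hQS : cj g ((Q : Subgroup ↥(normalizer (T : Set G))).map
      (normalizer (T : Set G)).subtype) ≤ (S : Subgroup G) := by
    rw [hg]; exact cj_mono hS'
  have hTQ : T ≤ (Q : Subgroup ↥(normalizer (T : Set G))).map
      (normalizer (T : Set G)).subtype := by
    intro t ht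
    exact ⟨⟨t, le_normalizer ht⟩, hQ (mem_subgroupOf.2 ht), rfl⟩
  refine ⟨cj g T, (cj_mono hTQ).trans hQS, ⟨g, rfl⟩, ?_⟩
  have hQN : cj g ((Q : Subgroup ↥(normalizer (T : Set G))).map
      (normalizer (T : Set G)).subtype) ≤ normalizer ((cj g T : Subgroup G) : Set G) := by
    rw [← cj_normalizer]
    exact cj_mono (map_subtype_le _)
  have h1 : ¬ p ∣ (cj g ((Q : Subgroup ↥(normalizer (T : Set G))).map
      (normalizer (T : Set G)).subtype)).relIndex
      (normalizer ((cj g T : Subgroup G) : Set G)) := by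
    rw [← cj_normalizer, Cfsg.Agent.Lib.Helper33_WFusion.relIndex_cj', relIndex, subgroupOf,
      comap_map_eq_self_of_injective (subtype_injective _)]
    exact Q.not_dvd_index
  intro h2
  exact h1 (h2.trans (relIndex_dvd_of_le_left _ (le_inf hQS hQN)))

/-- For `T ≤ P` of order larger than `p ^ k` and fully normalized, every element of `N_G(T)`
acts on `T` like an element of `N_P(T)`. -/
theorem Hyp.exists_agree {P : Sylow p G} {k : ℕ} (h : Hyp P k) {T : Subgroup G}
    (hTP : T ≤ (P : Subgroup G)) (hT : p ^ k < Nat.card T)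
    (hfn : ¬ p ∣ ((P : Subgroup G) ⊓ normalizer (T : Set G)).relIndex (normalizer (T : Set G)))
    {x : G} (hx : x ∈ normalizer (T : Set G)) :
    ∃ u ∈ (P : Subgroup G) ⊓ normalizer (T : Set G), ∀ a ∈ T, x * a * x⁻¹ = u * a * u⁻¹ := by
  have hp : p.Prime := Fact.out
  have hrange : IsPGroup p T.normalizerMonoidHom.range := by
    rintro ⟨y, m, rfl⟩
    obtain ⟨e, s, hs, hes⟩ := Nat.exists_eq_pow_mul_and_not_dvd (orderOf_pos (m : G)).ne' p
      hp.ne_one
    refine ⟨e, ?_⟩
    apply Subtype.ext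
    have hm : (m : G) ^ p ^ e ∈ normalizer (T : Set G) := (normalizer (T : Set G)).pow_mem m.2 _
    have hord : orderOf ((m : G) ^ p ^ e) = s := by
      have h1 : p ^ e = orderOf (m : G) / s := by
        rw [hes, Nat.mul_div_cancel _ (Nat.pos_of_ne_zero (fun h0 => by
          rw [h0, mul_zero] at hes; exact (orderOf_pos (m : G)).ne' hes))]
      rw [h1]
      exact orderOf_pow_orderOf_div (orderOf_pos (m : G)).ne' ⟨p ^ e, by rw [hes, mul_comm]⟩
    have hcp : (orderOf ((m : G) ^ p ^ e)).Coprime p := by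
      rw [hord]
      exact ((Nat.Prime.coprime_iff_not_dvd hp).2 hs).symm
    have hcomm := h.commute_of_normalizer hTP hT hm hcp
    have hker : (⟨(m : G) ^ p ^ e, hm⟩ : ↥(normalizer (T : Set G))) ∈
        T.normalizerMonoidHom.ker := by
      rw [normalizerMonoidHom_ker, mem_subgroupOf, mem_centralizer_iff]
      intro t ht
      exact (hcomm t ht).symm
    have h2 : (⟨(m : G) ^ p ^ e, hm⟩ : ↥(normalizer (T : Set G))) = m ^ p ^ e :=
      Subtype.ext (by simp)
    rw [h2, MonoidHom.mem_ker, map_pow] at hker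
    simpa using hker
  have hSp : IsPGroup p (((P : Subgroup G) ⊓ normalizer (T : Set G)).subgroupOf
      (normalizer (T : Set G))) := (P.isPGroup'.to_le inf_le_left).comap_subtype
  have hQtop := (((hSp.toSylow hfn).mapSurjective
    (MonoidHom.rangeRestrict_surjective T.normalizerMonoidHom))).3
    (hrange.to_subgroup ⊤) le_top
  have hmem : T.normalizerMonoidHom.rangeRestrict ⟨x, hx⟩ ∈
      ((hSp.toSylow hfn).mapSurjective
        (MonoidHom.rangeRestrict_surjective T.normalizerMonoidHom)).1 := by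
    rw [← hQtop]; exact mem_top _
  obtain ⟨u, hu, hux⟩ := hmem
  have hu' : (u : G) ∈ (P : Subgroup G) ⊓ normalizer (T : Set G) := by
    have := (IsPGroup.mem_toSylow hSp hfn).1 hu
    exact mem_subgroupOf.1 this
  refine ⟨(u : G), hu', ?_⟩
  intro a ha
  have h3 := congrArg Subtype.val hux
  simp only [MonoidHom.coe_rangeRestrict] at h3
  have h4 := congrArg (fun f => ((f ⟨a, ha⟩ : T) : G)) h3
  exact h4.symm

/-- The Frattini subgroup of the subgroup `P`, as a subgroup of `G`. -/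
abbrev frat (P : Subgroup G) : Subgroup G := (frattini ↥P).map P.subtype

omit [Finite G] [Fact p.Prime] in
theorem mem_frat_iff {P : Subgroup G} {y : G} (hy : y ∈ P) :
    y ∈ frat P ↔ ∀ M : Subgroup ↥P, IsCoatom M → y ∈ M.map P.subtype := by
  constructor
  · rintro ⟨z, hz, rfl⟩ M hM
    exact ⟨z, (Cfsg.Agent.Lib.Helper1_Frattini.mem_frattini_iff.1 hz) M hM, rfl⟩
  · intro h
    refine ⟨⟨y, hy⟩, ?_, rfl⟩
    rw [SetLike.mem_coe, Cfsg.Agent.Lib.Helper1_Frattini.mem_frattini_iff]
    intro M hM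
    obtain ⟨z, hz, hzy⟩ := h M hM
    have : z = ⟨y, hy⟩ := Subtype.ext hzy
    rw [← this]; exact hz

/-- Local step for small `T`: `N_G(T)` acts trivially on `T` modulo `Φ(P)`. -/
theorem Hyp.local_small {P : Sylow p G} {k : ℕ} (h : Hyp P k) {T : Subgroup G}
    (hTP : T ≤ (P : Subgroup G)) (hT : Nat.card T ≤ p ^ k) {x : G}
    (hx : x ∈ normalizer (T : Set G)) :
    ∀ a ∈ T, x * a * x⁻¹ * a⁻¹ ∈ frat (P : Subgroup G) := by
  have hp : p.Prime := Fact.out
  have hcop := coprime_pred h.hmin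
  have hPp : IsPGroup p (P : Subgroup G) := P.isPGroup'
  obtain ⟨n, hn⟩ := hPp.exists_card_eq
  have hkn : k < n := by
    have := h.hlt
    rw [hn] at this
    exact (Nat.pow_lt_pow_iff_right hp.one_lt).1 this
  have hconjT : ∀ b ∈ T, x * b * x⁻¹ ∈ T := fun b hb => (mem_normalizer_iff.1 hx b).1 hb
  -- orders of cyclic subgroups of `T`
  have hordT : ∀ b ∈ T, ∃ j, j ≤ k ∧ Nat.card (zpowers b) = p ^ j := by
    intro b hb
    have hle : zpowers b ≤ T := zpowers_le.2 hb
    obtain ⟨j, hj⟩ := (hPp.to_le (hle.trans hTP)).exists_card_eq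
    refine ⟨j, ?_, hj⟩
    have h1 : p ^ j ≤ p ^ k := by
      rw [← hj]; exact (card_le_of_le hle).trans hT
    exact (Nat.pow_le_pow_iff_right hp.one_lt).1 h1
  intro a ha
  have hmemP : x * a * x⁻¹ * a⁻¹ ∈ (P : Subgroup G) :=
    (P : Subgroup G).mul_mem (hTP (hconjT a ha)) ((P : Subgroup G).inv_mem (hTP ha))
  rw [mem_frat_iff hmemP]
  intro M hM
  have hMn : M.Normal := Cfsg.Agent.Lib.Helper1_Frattini.normal_of_isCoatom_of_isPGroup hPp hM
  have hMi : M.index = p := Cfsg.Agent.Lib.Helper1_Frattini.index_of_isCoatom_of_isPGroup hPp hM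
  have hMcard : Nat.card (M.map (P : Subgroup G).subtype) = p ^ (n - 1) := by
    rw [card_map_of_injective (subtype_injective _)]
    have h1 := M.card_mul_index
    rw [hMi, hn] at h1
    have h2 : p ^ n = p ^ (n - 1) * p := by
      rw [← pow_succ]; congr 1; omega
    rw [h2] at h1
    exact Nat.eq_of_mul_eq_mul_right hp.pos h1
  have hM'P : M.map (P : Subgroup G).subtype ≤ (P : Subgroup G) := map_subtype_le M
  have hPM' : (P : Subgroup G) ≤ normalizer ((M.map (P : Subgroup G).subtype : Subgroup G) : Set G) :=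
    Cfsg.Agent.S2972.le_normalizer_map_subtype _ M
  have claim1 : ∀ b ∈ T, b ∈ M.map (P : Subgroup G).subtype →
      x * b * x⁻¹ ∈ M.map (P : Subgroup G).subtype := by
    intro b hbT hbM
    obtain ⟨j, hjk, hj⟩ := hordT b hbT
    obtain ⟨E, hZE, hEM, hEcard⟩ := exists_between (zpowers_le.2 hbM) hj hMcard hjk (by omega)
    have hEP : E ≤ (P : Subgroup G) := hEM.trans hM'P
    have hIsH := h.hH E hEP (Or.inl hEcard)
    have hPE := hIsH.le_normalizer hPp hEP
    exact hEM (hIsH.conj_mem hPE (hZE (mem_zpowers b)) (hTP (hconjT b hbT)))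
  by_cases haM : a ∈ M.map (P : Subgroup G).subtype
  · exact (M.map (P : Subgroup G).subtype).mul_mem (claim1 a ha haM)
      ((M.map (P : Subgroup G).subtype).inv_mem haM)
  · obtain ⟨j, hjk, hj⟩ := hordT a ha
    obtain ⟨E, hZE, hEP, hEcard⟩ := exists_between (zpowers_le.2 (hTP ha)) hj hn hjk hkn.le
    have hIsH := h.hH E hEP (Or.inl hEcard)
    have hPE := hIsH.le_normalizer hPp hEP
    have haE : a ∈ E := hZE (mem_zpowers a)
    have hconjE : ∀ b ∈ T, b ∈ E → x * b * x⁻¹ ∈ E := fun b hbT hbE =>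
      hIsH.conj_mem hPE hbE (hTP (hconjT b hbT))
    have hxB : x ∈ normalizer ((T ⊓ E : Subgroup G) : Set G) := by
      apply mem_normalizer_fintype
      intro b hb
      exact ⟨hconjT b hb.1, hconjE b hb.1 hb.2⟩
    have hxB₀ : x ∈ normalizer ((T ⊓ E ⊓ M.map (P : Subgroup G).subtype : Subgroup G) : Set G) := by
      apply mem_normalizer_fintype
      intro b hb
      exact ⟨⟨hconjT b hb.1.1, hconjE b hb.1.1 hb.1.2⟩, claim1 b hb.1.1 hb.2⟩
    have hBP : T ⊓ E ≤ (P : Subgroup G) := inf_le_left.trans hTP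
    have h2 : T ⊓ E ≤ normalizer ((T ⊓ E ⊓ M.map (P : Subgroup G).subtype : Subgroup G) : Set G) :=
      le_trans (le_inf le_normalizer (hBP.trans hPM')) inf_normalizer_le_normalizer_inf
    have h3 : (T ⊓ E ⊓ M.map (P : Subgroup G).subtype).relIndex (T ⊓ E) = p := by
      rw [inf_relIndex_left, ← relIndex_subgroupOf hBP]
      have e1 : (M.map (P : Subgroup G).subtype).subgroupOf (P : Subgroup G) = M := by
        rw [subgroupOf, comap_map_eq_self_of_injective (subtype_injective _)]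
      rw [e1]
      have h4 : M.relIndex ((T ⊓ E).subgroupOf (P : Subgroup G)) ∣ p := by
        have h40 := relIndex_dvd_index_of_normal M ((T ⊓ E).subgroupOf (P : Subgroup G))
        rwa [hMi] at h40
      rcases hp.eq_one_or_self_of_dvd _ h4 with h5 | h5
      · exfalso
        rw [relIndex_eq_one] at h5
        apply haM
        have h6 : (⟨a, hTP ha⟩ : ↥(P : Subgroup G)) ∈ M :=
          h5 (mem_subgroupOf.2 ⟨ha, haE⟩)
        exact ⟨⟨a, hTP ha⟩, h6, rfl⟩
      · exact h5
    have h7 := conj_mul_inv_mem_of_relIndex_prime hcop inf_le_left h2 h3 hxB hxB₀ a ⟨ha, haE⟩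
    exact h7.2

open scoped commutatorElement in
/-- Local step for large fully normalized `T`. -/
theorem Hyp.local_large {P : Sylow p G} {k : ℕ} (h : Hyp P k) {T : Subgroup G}
    (hTP : T ≤ (P : Subgroup G)) (hT : p ^ k < Nat.card T)
    (hfn : ¬ p ∣ ((P : Subgroup G) ⊓ normalizer (T : Set G)).relIndex (normalizer (T : Set G)))
    {x : G} (hx : x ∈ normalizer (T : Set G)) :
    ∀ a ∈ T, x * a * x⁻¹ * a⁻¹ ∈ frat (P : Subgroup G) := by
  obtain ⟨u, hu, hag⟩ := h.exists_agree hTP hT hfn hx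
  intro a ha
  rw [hag a ha]
  refine ⟨⁅(⟨u, hu.1⟩ : ↥(P : Subgroup G)), ⟨a, hTP ha⟩⁆, ?_, ?_⟩
  · apply Cfsg.Agent.Lib.Helper1_Frattini.commutator_le_frattini_of_isPGroup P.isPGroup'
    rw [_root_.commutator_def]
    exact commutator_mem_commutator (mem_top _) (mem_top _)
  · simp [commutatorElement_def]

open Cfsg.Agent.Lib.Helper33_Conj Cfsg.Agent.Lib.Helper33_Alperin in
/-- **Fusion is trivial modulo `Φ(P)`.** -/
theorem Hyp.fusion {P : Sylow p G} {k : ℕ} (h : Hyp P k) :
    ∀ Q : Subgroup G, Q ≤ (P : Subgroup G) → ∀ g : G, cj g Q ≤ (P : Subgroup G) →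
      ∀ a ∈ Q, g * a * g⁻¹ * a⁻¹ ∈ frat (P : Subgroup G) := by
  have hR : FusionRel (fun (A : Set G) (g : G) =>
      ∀ a ∈ A, g * a * g⁻¹ * a⁻¹ ∈ frat (P : Subgroup G)) :=
    { restrict := fun A A' g h1 hA a ha => h1 a (hA ha)
      trans := fun A g h' h1 h2 a ha => by
        have e1 := h1 a ha
        have e2 := h2 (g * a * g⁻¹) (conj_mem_cjs ha)
        have e3 : h' * g * a * (h' * g)⁻¹ * a⁻¹ =
            (h' * (g * a * g⁻¹) * h'⁻¹ * (g * a * g⁻¹)⁻¹) * (g * a * g⁻¹ * a⁻¹) := by group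
        rw [e3]; exact mul_mem e2 e1
      symm := fun A g h1 b hb => by
        obtain ⟨a, ha, rfl⟩ := hb
        have e1 := h1 a ha
        have e3 : g⁻¹ * (g * a * g⁻¹) * g⁻¹⁻¹ * (g * a * g⁻¹)⁻¹ = (g * a * g⁻¹ * a⁻¹)⁻¹ := by
          group
        rw [e3]; exact inv_mem e1 }
  have key := alperin P (Set.univ : Set (Subgroup G))
    (fun T hT => by
      obtain ⟨U, hU, hg, hfn⟩ := exists_fully_normalized P hT
      exact ⟨U, Set.mem_univ U, hU, hg, hfn⟩)
    _ hR
    (fun U _ hUS hfn _ m hm => by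
      by_cases hc : Nat.card U ≤ p ^ k
      · exact fun a ha => h.local_small hUS hc hm a ha
      · exact fun a ha => h.local_large hUS (not_le.1 hc) hfn hm a ha)
  exact fun Q hQ g hg a ha => key Q hQ g hg a ha

omit [Finite G] [Fact p.Prime] in
theorem frat_conj_mem {P : Subgroup G} {y x : G} (hy : y ∈ frat P) (hx : x ∈ P) :
    x * y * x⁻¹ ∈ frat P := by
  obtain ⟨z, hz, rfl⟩ := hy
  have hn : (frattini ↥P).Normal := inferInstance
  exact ⟨⟨x, hx⟩ * z * ⟨x, hx⟩⁻¹, hn.conj_mem z hz ⟨x, hx⟩, by simp⟩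

open scoped commutatorElement in
/-- The focal subgroup of `P` lies in `Φ(P)`. -/
theorem Hyp.focalSubgroup_le {P : Sylow p G} {k : ℕ} (h : Hyp P k) :
    (P : Subgroup G).focalSubgroup ≤ frat (P : Subgroup G) := by
  rw [focalSubgroup_def, closure_le]
  rintro y ⟨hyP, x, hxP, u, rfl⟩
  have h1 : u * x⁻¹ * u⁻¹ ∈ (P : Subgroup G) := by
    have e : u * x⁻¹ * u⁻¹ = x⁻¹ * ⁅x, u⁆ := by
      rw [commutatorElement_def]; group
    rw [e]; exact mul_mem (inv_mem hxP) hyP
  have h2 := h.fusion (zpowers x⁻¹) (zpowers_le.2 (inv_mem hxP)) u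
    (by
      change (zpowers x⁻¹).map (MulAut.conj u).toMonoidHom ≤ _
      rw [MonoidHom.map_zpowers]
      exact zpowers_le.2 h1) x⁻¹ (mem_zpowers _)
  have h3 := frat_conj_mem h2 hxP
  have e : ⁅x, u⁆ = x * (u * x⁻¹ * u⁻¹ * x⁻¹⁻¹) * x⁻¹ := by
    rw [commutatorElement_def]; group
  rw [SetLike.mem_coe, e]; exact h3

/-- A normal subgroup of order prime to `p` and `p`-power index is a normal `p`-complement
(as in `Cfsg.Agent.S3294.hasNormalPComplement_of_quotient_isPGroup`, helper55). -/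
theorem hasNPC_of_normal_coprime (K : Subgroup G) [K.Normal] (hK : (Nat.card K).Coprime p)
    (hidx : ∃ j, K.index = p ^ j) : Cfsg.HasNormalPComplement p G := by
  have hp : p.Prime := Fact.out
  obtain ⟨j, hj⟩ := hidx
  obtain ⟨P⟩ : Nonempty (Sylow p G) := Sylow.nonempty
  refine ⟨P, K, inferInstance, ?_⟩
  have h1 : Nat.card K * p ^ j = Nat.card G := by rw [← hj]; exact K.card_mul_index
  have hKpos : Nat.card K ≠ 0 := Nat.card_pos.ne'
  have hfac : (Nat.card G).factorization p = j := by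
    rw [← h1, Nat.factorization_mul hKpos (pow_ne_zero _ hp.ne_zero)]
    simp only [Finsupp.coe_add, Pi.add_apply]
    rw [Nat.Prime.factorization_pow hp, Nat.factorization_eq_zero_of_not_dvd]
    · simp
    · intro hdvd
      have := Nat.Coprime.eq_one_of_dvd hK.symm hdvd
      exact hp.one_lt.ne' this
  have hP : Nat.card (P : Subgroup G) = p ^ j := by rw [Sylow.card_eq_multiplicity, hfac]
  apply isComplement'_of_coprime
  · rw [hP, h1]
  · rw [hP]
    exact Nat.Coprime.pow_right _ hK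

/-- If a normal subgroup `N` with `G / N` a `p`-group has a normal `p`-complement, so has `G`. -/
theorem hasNPC_of_normal (N : Subgroup G) [hNn : N.Normal]
    (hN : Cfsg.HasNormalPComplement p ↥N) (hQ : IsPGroup p (G ⧸ N)) :
    Cfsg.HasNormalPComplement p G := by
  have hp : p.Prime := Fact.out
  obtain ⟨PN, K, hKn, hK⟩ := hN
  have hKcop : (Nat.card K).Coprime p := by
    have h1 : ¬ p ∣ Nat.card K := hK.index_eq_card ▸ PN.not_dvd_index
    exact ((Nat.Prime.coprime_iff_not_dvd hp).2 h1).symm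
  have hKidx : K.index = Nat.card (PN : Subgroup ↥N) := hK.symm.index_eq_card
  obtain ⟨b, hb⟩ := PN.isPGroup'.exists_card_eq
  obtain ⟨a, ha⟩ := hQ.exists_card_eq
  have hQK : IsPGroup p (↥N ⧸ K) := by
    apply IsPGroup.of_card (n := b)
    rw [← hb, ← hKidx]; rfl
  have hK'n : (K.map N.subtype).Normal := by
    constructor
    rintro _ ⟨y, hy, rfl⟩ g
    have hmem : g * (y : G) * g⁻¹ ∈ N := hNn.conj_mem _ y.2 g
    refine ⟨⟨_, hmem⟩, ?_, rfl⟩
    have hord : orderOf (⟨g * (y : G) * g⁻¹, hmem⟩ : ↥N) = orderOf y := by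
      rw [← Subgroup.orderOf_coe, ← Subgroup.orderOf_coe]
      have hs : SemiconjBy g (y : G) (g * (y : G) * g⁻¹) := by
        unfold SemiconjBy; group
      exact (hs.orderOf_eq g).symm
    have hy1 : orderOf y ∣ Nat.card K := by
      have := orderOf_dvd_natCard (⟨y, hy⟩ : ↥K)
      rwa [Subgroup.orderOf_mk] at this
    have h1 : orderOf (QuotientGroup.mk' K ⟨g * (y : G) * g⁻¹, hmem⟩) ∣ orderOf y := by
      rw [← hord]; exact orderOf_map_dvd _ _
    obtain ⟨c, hc⟩ := hQK (QuotientGroup.mk' K ⟨g * (y : G) * g⁻¹, hmem⟩)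
    have h2 : orderOf (QuotientGroup.mk' K ⟨g * (y : G) * g⁻¹, hmem⟩) ∣ p ^ c :=
      orderOf_dvd_of_pow_eq_one hc
    have h3 : (orderOf y).Coprime (p ^ c) :=
      Nat.Coprime.pow_right _ (Nat.Coprime.coprime_dvd_left hy1 hKcop)
    have h4 := Nat.eq_one_of_dvd_coprimes h3 h1 h2
    rw [orderOf_eq_one_iff] at h4
    exact (QuotientGroup.eq_one_iff _).1 h4
  have hcard : (Nat.card (K.map N.subtype)).Coprime p := by
    rw [card_map_of_injective (subtype_injective N)]; exact hKcop
  have hidx : (K.map N.subtype).index = p ^ (b + a) := by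
    rw [index_map_subtype, hKidx, hb, pow_add]
    congr 1
  exact hasNPC_of_normal_coprime _ hcard ⟨_, hidx⟩

/-- Final step: given Tate's theorem for normal subgroups `N` with `N ∩ P ≤ Φ(P)`, a group
satisfying `Hyp P k` has a normal `p`-complement. -/
theorem Hyp.hasNormalPComplement {P : Sylow p G} {k : ℕ} (h : Hyp P k)
    (tate : ∀ N : Subgroup G, N.Normal → N ⊓ (P : Subgroup G) ≤ frat (P : Subgroup G) →
      Cfsg.HasNormalPComplement p ↥N) :
    Cfsg.HasNormalPComplement p G := by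
  have hN : ((P : Subgroup G).transferFocal.ker).Normal := inferInstance
  have h1 : (P : Subgroup G).transferFocal.ker ⊓ (P : Subgroup G) ≤ frat (P : Subgroup G) := by
    rw [ker_transferFocal_inf_eq_focalSubgroup]; exact h.focalSubgroup_le
  have h2 := tate _ hN h1
  refine hasNPC_of_normal _ h2 ?_
  exact (P.2.to_quotient _).of_equiv
    (transferFocal.quotientKerMulEquivQuotientFocalSubroupOf P).symm

end HSub

end Cfsg.Agent.Lib.Helper50_HSub
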