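import Mathlib
import Cfsg.Prelude.Def_OddOrderLocal
import Cfsg.Agent.S1412
import Cfsg.Agent.Lib.Helper35_BG11a
import Cfsg.Agent.Lib.Helper49_BG124
import Cfsg.Agent.Lib.Helper50_HSub
import Cfsg.Agent.Lib.Helper62_EStarCent
import Cfsg.Agent.Lib.Helper22_Hyperplane

/-!
# Bender-Glauberman, Theorem 11.5 and Corollary 11.6 (helper49)

For an exceptional quadruple `Exc M p A A₀` (Hypothesis 11.1) and a Sylow `p`-subgroup `PG ≥ A` of `M`:
`A ≤ Z(PG)`, `A = Ω₁(PG)`, `N_G(PG) ≤ N_G(A)`, `N_G(PG) ≰ M`, `PG` is abelian, some line `A₁ ≤ A` acts without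
fixed points on `M_σ`, and `C_{M_σ}(A) = 1`.
-/

set_option autoImplicit false

namespace Cfsg.Agent.Lib.Helper49_BG115

open Subgroup Cfsg Cfsg.Agent.Lib.Helper22_Radical Cfsg.Agent.Lib.Helper22_BGTrans
  Cfsg.Agent.Lib.Helper22_Uniq Cfsg.Agent.Lib.Helper84_RelSylow
  Cfsg.Agent.Lib.Helper49_Sigma Cfsg.Agent.Lib.Helper49_Alpha Cfsg.Agent.Lib.Helper49_Alpha2
  Cfsg.Agent.Lib.Helper49_Alpha3 Cfsg.Agent.Lib.Helper35_BG11a
  Cfsg.Agent.Lib.Helper70_BG106 Cfsg.Agent.Lib.Helper24_CoprimeHall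

/-! ### A transvection lemma for `p`-groups -/

section Transvection

variable {G : Type*} [Group G] [Finite G] {p : ℕ} [hp : Fact p.Prime]

/-- `Z ≤ A` of orders `p`, `p ^ 2` and `u ∈ A \ Z`: every element of `A` is `u ^ i * z` -/
theorem exists_zpow_mul {A Z : Subgroup G} (hAc : ∀ a ∈ A, ∀ b ∈ A, a * b = b * a)
    (hAcard : Nat.card A = p ^ 2) (hZA : Z ≤ A) (hZcard : Nat.card Z = p) {u : G} (hu : u ∈ A)
    (huZ : u ∉ Z) {a : G} (ha : a ∈ A) : ∃ i : ℤ, ∃ z ∈ Z, a = u ^ i * z := by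
  have hpp : p.Prime := hp.out
  have hle : zpowers u ⊔ Z ≤ A := sup_le (zpowers_le.mpr hu) hZA
  have hA : A ≤ zpowers u ⊔ Z := by
    by_contra hne
    have h1 := Cfsg.Agent.Lib.Helper62_EStarCent.card_le_of_lt_of_card_sq hpp hle hne hAcard
    have h2 : ¬ zpowers u ⊔ Z ≤ Z := fun hle' => huZ (hle' (mem_sup_left (mem_zpowers u)))
    have h3 := card_lt_card_of_lt (le_sup_right : Z ≤ zpowers u ⊔ Z) h2
    omega
  obtain ⟨v, hv, z, hz, rfl⟩ := Cfsg.Agent.Lib.Helper62_EStarCent.exists_mul_of_mem_sup_of_commute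
    (H := zpowers u) (K := Z) (by
      intro a ha b hb
      exact hAc a (zpowers_le.mpr hu ha) b (hZA hb)) (hA ha)
  obtain ⟨i, rfl⟩ := mem_zpowers_iff.mp hv
  exact ⟨i, z, hz, rfl⟩


/-- **Transvection lemma.** `A` commutative of order `p ^ 2`, normalized by the `p`-element `y`, `Z ≤ A` of order `p`
centralized by `y`, and `u ∈ A` not centralized by `y`: then `1 ≠ [y, u] ∈ Z`. -/
theorem commutator_mem_of_normalizes {A Z : Subgroup G} (hAc : ∀ a ∈ A, ∀ b ∈ A, a * b = b * a)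
    (hAcard : Nat.card A = p ^ 2) (hZA : Z ≤ A) (hZcard : Nat.card Z = p) {y : G}
    (hyA : ∀ a ∈ A, y * a * y⁻¹ ∈ A) (hyZ : ∀ z ∈ Z, y * z = z * y) (hyp : ∃ k : ℕ, y ^ p ^ k = 1)
    {u : G} (hu : u ∈ A) (hyu : y * u ≠ u * y) :
    y * u * y⁻¹ * u⁻¹ ∈ Z ∧ y * u * y⁻¹ * u⁻¹ ≠ 1 := by
  have hpp : p.Prime := hp.out
  -- `K = C_A(y) = Z`
  set K : Subgroup G := A ⊓ centralizer ({y} : Set G) with hK
  have hmemK : ∀ g : G, g ∈ K ↔ g ∈ A ∧ y * g = g * y := by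
    intro g
    rw [hK, mem_inf, mem_centralizer_iff]
    constructor
    · rintro ⟨h1, h2⟩
      exact ⟨h1, h2 y rfl⟩
    · rintro ⟨h1, h2⟩
      refine ⟨h1, ?_⟩
      intro h hh
      rw [Set.mem_singleton_iff] at hh
      rw [hh]; exact h2
  have hZK : Z ≤ K := fun z hz => (hmemK z).mpr ⟨hZA hz, hyZ z hz⟩
  have huK : u ∉ K := fun h => hyu ((hmemK u).mp h).2
  have hKA : K ≤ A := inf_le_left
  have hKcard : Nat.card K ≤ p :=
    Cfsg.Agent.Lib.Helper62_EStarCent.card_le_of_lt_of_card_sq hpp hKA (fun h => huK (h hu)) hAcard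
  have hKZ : Z = K := Subgroup.eq_of_le_of_card_ge hZK (by rw [hZcard]; exact hKcard)
  -- the commutator homomorphism
  let δ : ↥A →* ↥A :=
    { toFun := fun a => ⟨y * a.1 * y⁻¹ * a.1⁻¹, A.mul_mem (hyA a.1 a.2) (A.inv_mem a.2)⟩
      map_one' := by
        apply Subtype.ext
        show y * (1 : G) * y⁻¹ * (1 : G)⁻¹ = 1
        group
      map_mul' := by
        intro a b
        apply Subtype.ext
        show y * (a.1 * b.1) * y⁻¹ * (a.1 * b.1)⁻¹ = (y * a.1 * y⁻¹ * a.1⁻¹) * (y * b.1 * y⁻¹ * b.1⁻¹)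
        have h1 : (y * b.1 * y⁻¹) * a.1⁻¹ = a.1⁻¹ * (y * b.1 * y⁻¹) :=
          hAc _ (hyA b.1 b.2) _ (A.inv_mem a.2)
        have h2 : b.1⁻¹ * a.1⁻¹ = a.1⁻¹ * b.1⁻¹ := hAc _ (A.inv_mem b.2) _ (A.inv_mem a.2)
        calc y * (a.1 * b.1) * y⁻¹ * (a.1 * b.1)⁻¹
            = (y * a.1 * y⁻¹) * ((y * b.1 * y⁻¹) * (b.1⁻¹ * a.1⁻¹)) := by group
          _ = (y * a.1 * y⁻¹) * ((y * b.1 * y⁻¹) * (a.1⁻¹ * b.1⁻¹)) := by rw [h2]
          _ = (y * a.1 * y⁻¹) * (((y * b.1 * y⁻¹) * a.1⁻¹) * b.1⁻¹) := by group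
          _ = (y * a.1 * y⁻¹) * ((a.1⁻¹ * (y * b.1 * y⁻¹)) * b.1⁻¹) := by rw [h1]
          _ = (y * a.1 * y⁻¹ * a.1⁻¹) * (y * b.1 * y⁻¹ * b.1⁻¹) := by group }
  have hδ : ∀ a : ↥A, ((δ a : ↥A) : G) = y * a.1 * y⁻¹ * a.1⁻¹ := fun a => rfl
  have hker : δ.ker = K.subgroupOf A := by
    ext a
    rw [MonoidHom.mem_ker, mem_subgroupOf, hmemK]
    constructor
    · intro h
      have h1 : y * a.1 * y⁻¹ * a.1⁻¹ = 1 := by rw [← hδ, h]; rfl
      refine ⟨a.2, ?_⟩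
      calc y * a.1 = (y * a.1 * y⁻¹ * a.1⁻¹) * (a.1 * y) := by group
        _ = a.1 * y := by rw [h1, one_mul]
    · rintro ⟨-, h⟩
      apply Subtype.ext
      rw [hδ, h]
      show a.1 * y * y⁻¹ * a.1⁻¹ = 1
      group
  -- `|range δ| = p`
  have hKp : Nat.card K = p := by rw [← hKZ, hZcard]
  have hrange : Nat.card δ.range = p := by
    have h1 : Nat.card ↥A = Nat.card (↥A ⧸ δ.ker) * Nat.card δ.ker :=
      Subgroup.card_eq_card_quotient_mul_card_subgroup δ.ker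
    have h2 : Nat.card (↥A ⧸ δ.ker) = Nat.card δ.range :=
      Nat.card_congr (QuotientGroup.quotientKerEquivRange δ).toEquiv
    have h3 : Nat.card δ.ker = p := by
      rw [hker, Cfsg.Agent.Lib.Helper24_CoprimeAction.card_subgroupOf_of_le hKA, hKp]
    rw [h2, h3, hAcard] at h1
    have hp0 : 0 < p := hpp.pos
    nlinarith
  -- the image `I` in `G`
  set I : Subgroup G := δ.range.map A.subtype with hI
  have hIcard : Nat.card I = p := by
    rw [hI, Subgroup.card_map_of_injective A.subtype_injective, hrange]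
  have hImem : ∀ a ∈ A, y * a * y⁻¹ * a⁻¹ ∈ I := by
    intro a ha
    exact ⟨δ ⟨a, ha⟩, ⟨⟨a, ha⟩, rfl⟩, rfl⟩
  have hyI : y ∈ normalizer (I : Set G) := by
    apply Cfsg.Agent.Lib.Helper49_BG124.mem_normalizer_of_cj_le'
    rintro _ ⟨_, ⟨_, ⟨a, rfl⟩, rfl⟩, rfl⟩
    have h1 := hImem (y * a.1 * y⁻¹) (hyA a.1 a.2)
    have e : (MulAut.conj y).toMonoidHom (A.subtype (δ a)) =
        y * (y * a.1 * y⁻¹) * y⁻¹ * (y * a.1 * y⁻¹)⁻¹ := by
      show y * (y * a.1 * y⁻¹ * a.1⁻¹) * y⁻¹ = _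
      group
    rw [e]
    exact h1
  have hIcyc : IsCyclic ↥I := isCyclic_of_prime_card hIcard
  have hyC : y ∈ centralizer (I : Set G) := by
    apply Cfsg.Agent.Lib.Helper50_HSub.mem_centralizer_of_isCyclic I hyI
    rw [hIcard, Nat.totient_prime hpp]
    obtain ⟨k, hk⟩ := hyp
    have h1 : orderOf y ∣ p ^ k := orderOf_dvd_of_pow_eq_one hk
    apply Nat.Coprime.coprime_dvd_left h1
    apply Nat.Coprime.pow_left
    have h2 : p - 1 + 1 = p := Nat.sub_add_cancel hpp.one_le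
    have h3 : Nat.Coprime (p - 1 + 1) (p - 1) := by
      simp
    rwa [h2] at h3
  have hcI := hImem u hu
  have hcA : y * u * y⁻¹ * u⁻¹ ∈ A := A.mul_mem (hyA u hu) (A.inv_mem hu)
  constructor
  · rw [hKZ, hmemK]
    exact ⟨hcA, (mem_centralizer_iff.mp hyC _ hcI).symm⟩
  · intro h1
    apply hyu
    calc y * u = (y * u * y⁻¹ * u⁻¹) * (u * y) := by group
      _ = u * y := by rw [h1, one_mul]


/-- **A transvection of `A`.** `P` a `p`-group, `A ≤ P` commutative of exponent `p` and order `p ^ 2`, not central in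
`P`, containing every element of order dividing `p` of `C_P(A)`; `Z ≤ A` central in `P` of order `p`.  For `u ∈ A \ Z`
there are `y ∈ P` and `1 ≠ c ∈ Z` with `y ^ k u y ^ (-k) = u c ^ k` for all `k`. -/
theorem exists_transvection {P A Z : Subgroup G} (hP : IsPGroup p P) (hAP : A ≤ P)
    (hAc : ∀ a ∈ A, ∀ b ∈ A, a * b = b * a) (hAe : ∀ a ∈ A, a ^ p = 1) (hAcard : Nat.card A = p ^ 2)
    (hZA : Z ≤ A) (hZcard : Nat.card Z = p) (hZc : ∀ z ∈ Z, ∀ y ∈ P, y * z = z * y)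
    (hAmax : ∀ x ∈ P, (∀ a ∈ A, x * a = a * x) → x ^ p = 1 → x ∈ A)
    (hnc : ¬ ∀ a ∈ A, ∀ y ∈ P, y * a = a * y)
    {u : G} (hu : u ∈ A) (huZ : u ∉ Z) :
    ∃ y ∈ P, ∃ c ∈ Z, c ≠ 1 ∧ ∀ k : ℕ, y ^ k * u * (y ^ k)⁻¹ = u * c ^ k := by
  have hpp : p.Prime := hp.out
  set C : Subgroup G := P ⊓ centralizer (A : Set G) with hC
  have hAC : A ≤ C :=
    le_inf hAP (fun a ha => mem_centralizer_iff.mpr (fun b hb => hAc b hb a ha))
  have hPC : ¬ P ≤ C := by
    intro hle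
    apply hnc
    intro a ha y hy
    exact (mem_centralizer_iff.mp (hle hy).2 a ha).symm
  have hgrow := normalizer_growth hpp hP (inf_le_left : C ≤ P) hPC
  obtain ⟨y, hy, hyC⟩ := SetLike.not_le_iff_exists.mp hgrow
  have hyN : y ∈ normalizer (C : Set G) := hy.1
  have hyP : y ∈ P := hy.2
  -- `y` normalizes `A`
  have hyA : ∀ a ∈ A, y * a * y⁻¹ ∈ A := by
    intro a ha
    have h1 : y * a * y⁻¹ ∈ C := (mem_normalizer_iff.mp hyN a).mp (hAC ha)
    apply hAmax _ h1.1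
    · intro a' ha'
      exact (mem_centralizer_iff.mp h1.2 a' ha').symm
    · rw [conj_pow, hAe a ha]
      group
  have hyZ : ∀ z ∈ Z, y * z = z * y := fun z hz => hZc z hz y hyP
  have hyp : ∃ k : ℕ, y ^ p ^ k = 1 := by
    obtain ⟨k, hk⟩ := hP ⟨y, hyP⟩
    exact ⟨k, by simpa using congrArg Subtype.val hk⟩
  -- `y` does not commute with `u`
  have hyu : y * u ≠ u * y := by
    intro hcomm
    apply hyC
    refine ⟨hyP, mem_centralizer_iff.mpr ?_⟩
    intro a ha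
    obtain ⟨i, z, hz, rfl⟩ := exists_zpow_mul hAc hAcard hZA hZcard hu huZ ha
    have h1 : Commute y (u ^ i) := (show Commute y u from hcomm).zpow_right i
    have h2 : Commute y z := hyZ z hz
    exact ((h1.mul_right h2).eq).symm
  obtain ⟨hcZ, hc1⟩ := commutator_mem_of_normalizes hAc hAcard hZA hZcard hyA hyZ hyp hu hyu
  set c : G := y * u * y⁻¹ * u⁻¹ with hc
  refine ⟨y, hyP, c, hcZ, hc1, ?_⟩
  have hcy : Commute y c := hyZ c hcZ
  have hcu : Commute u c := hAc u hu c (hZA hcZ)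
  intro k
  induction k with
  | zero => simp
  | succ k ih =>
    have h1 : y * u * y⁻¹ = c * u := by rw [hc]; group
    have h2 : Commute y (c ^ k) := hcy.pow_right k
    calc y ^ (k + 1) * u * (y ^ (k + 1))⁻¹ = y * (y ^ k * u * (y ^ k)⁻¹) * y⁻¹ := by
          rw [pow_succ']; group
      _ = y * (u * c ^ k) * y⁻¹ := by rw [ih]
      _ = (y * u * y⁻¹) * (y * c ^ k * y⁻¹) := by group
      _ = (c * u) * (c ^ k) := by
          rw [h1]
          have : y * c ^ k * y⁻¹ = c ^ k := by rw [h2.eq]; group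
          rw [this]
      _ = u * c ^ (k + 1) := by
          rw [pow_succ', ← mul_assoc, hcu.eq]

omit [Finite G] hp in
/-- integer powers of an element of order dividing `p` only depend on the exponent modulo `p` -/
theorem zpow_eq_of_emod_eq {w : G} (hw : w ^ p = 1) {m n : ℤ} (hmn : m % (p : ℤ) = n % (p : ℤ)) :
    w ^ m = w ^ n := by
  have h1 : (p : ℤ) ∣ m - n := Int.ModEq.dvd (show n ≡ m [ZMOD (p : ℤ)] from hmn.symm)
  obtain ⟨t, ht⟩ := h1
  have h2 : m = n + p * t := by omega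
  rw [h2, zpow_add, zpow_mul, zpow_natCast, hw, one_zpow, mul_one]

omit [Finite G] in
/-- an element of a group of order `p` generated by `c` is a natural power of `c` -/
theorem exists_pow_eq_of_mem_zpowers {c w : G} (hc : c ^ p = 1) (hw : w ∈ zpowers c) :
    ∃ k : ℕ, c ^ k = w := by
  have hpp : p.Prime := hp.out
  have hp0 : (0 : ℤ) < p := by exact_mod_cast hpp.pos
  obtain ⟨k, hk⟩ := mem_zpowers_iff.mp hw
  refine ⟨(k % (p : ℤ)).toNat, ?_⟩
  have hk'z : (((k % (p : ℤ)).toNat : ℕ) : ℤ) = k % (p : ℤ) :=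
    Int.toNat_of_nonneg (Int.emod_nonneg _ hp0.ne')
  rw [← hk, ← zpow_natCast c]
  apply zpow_eq_of_emod_eq hc
  rw [hk'z, Int.emod_emod_of_dvd _ (dvd_refl _)]

/-- **All lines of `A` other than `Z` are conjugate under `P`.** In the situation of `exists_transvection`, for
`u, b ∈ A \ Z` some power of `b` is a `P`-conjugate of `u`. -/
theorem exists_conj_pow {P A Z : Subgroup G} (hP : IsPGroup p P) (hAP : A ≤ P)
    (hAc : ∀ a ∈ A, ∀ b ∈ A, a * b = b * a) (hAe : ∀ a ∈ A, a ^ p = 1) (hAcard : Nat.card A = p ^ 2)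
    (hZA : Z ≤ A) (hZcard : Nat.card Z = p) (hZc : ∀ z ∈ Z, ∀ y ∈ P, y * z = z * y)
    (hAmax : ∀ x ∈ P, (∀ a ∈ A, x * a = a * x) → x ^ p = 1 → x ∈ A)
    (hnc : ¬ ∀ a ∈ A, ∀ y ∈ P, y * a = a * y)
    {u b : G} (hu : u ∈ A) (huZ : u ∉ Z) (hb : b ∈ A) (hbZ : b ∉ Z) :
    ∃ y ∈ P, ∃ j : ℕ, b ^ j = y * u * y⁻¹ := by
  have hpp : p.Prime := hp.out
  obtain ⟨y, hyP, c, hcZ, hc1, hconj⟩ :=
    exists_transvection hP hAP hAc hAe hAcard hZA hZcard hZc hAmax hnc hu huZ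
  -- `Z = ⟨c⟩`
  have hZc' : zpowers c = Z := zpowers_eq_of_card_prime hZcard hcZ hc1
  have hcp : c ^ p = 1 := hAe c (hZA hcZ)
  -- decompose `b`
  obtain ⟨i, z, hz, hbe⟩ := exists_zpow_mul hAc hAcard hZA hZcard hu huZ hb
  -- `i` is prime to `p`
  have hup : u ^ p = 1 := hAe u hu
  have hi : ¬ (p : ℤ) ∣ i := by
    rintro ⟨m, rfl⟩
    apply hbZ
    rw [hbe, zpow_mul, zpow_natCast, hup, one_zpow, one_mul]
    exact hz
  -- `j` with `i * j ≡ 1`
  have hcop : IsCoprime i (p : ℤ) :=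
    ((Nat.prime_iff_prime_int.mp hpp).coprime_iff_not_dvd.mpr hi).symm
  obtain ⟨a', b', hab⟩ := hcop
  set j : ℕ := (a' % (p : ℤ)).toNat with hj
  have hp0 : (0 : ℤ) < p := by exact_mod_cast hpp.pos
  have hjz : (j : ℤ) = a' % (p : ℤ) := Int.toNat_of_nonneg (Int.emod_nonneg _ hp0.ne')
  have hbj : b ^ j = u * z ^ j := by
    rw [hbe]
    have hcomm : Commute (u ^ i) z := (show Commute u z from hAc u hu z (hZA hz)).zpow_left i
    rw [hcomm.mul_pow, ← zpow_natCast (u ^ i) j, ← zpow_mul]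
    congr 1
    have h1 : (i * (j : ℤ)) % (p : ℤ) = (1 : ℤ) % (p : ℤ) := by
      rw [hjz, Int.mul_emod, Int.emod_emod_of_dvd _ (dvd_refl _), ← Int.mul_emod]
      have : i * a' = 1 - b' * p := by linarith
      rw [this]
      simp [Int.sub_emod]
    have := zpow_eq_of_emod_eq hup h1
    rw [this, zpow_one]
  have hzj : z ^ j ∈ zpowers c := by rw [hZc']; exact Z.pow_mem hz j
  obtain ⟨k', hck⟩ := exists_pow_eq_of_mem_zpowers hcp hzj
  refine ⟨y ^ k', P.pow_mem hyP k', j, ?_⟩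
  rw [hbj, hconj k', hck]

end Transvection


/-! ### Theorem 11.5 and Corollary 11.6 -/

section Main

universe u

variable {G : Type u} [Group G] [Finite G] {M A A₀ PG : Subgroup G} {p : ℕ} [hp : Fact p.Prime]

omit [Finite G] in
theorem ne_bot_of_le (h : Exc M p A A₀) (hAP : A ≤ PG) : PG ≠ ⊥ :=
  fun hb => h.ne_bot (le_bot_iff.mp (hb ▸ hAP))

/-- `N_G(PG) ≰ M` -/
theorem not_normalizer_le (h : Exc M p A A₀) (hS : IsSylowIn p PG M) (hAP : A ≤ PG) :
    ¬ normalizer (PG : Set G) ≤ M :=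
  fun hN => h.not_sigma (mem_sigma_of_normalizer_le hS (ne_bot_of_le h hAP) hN)

/-- elements of `PG` of order dividing `p` centralizing `A` lie in `A` -/
theorem mem_of_comm (hG : IsMinSimpleOddOrder G) (hU : UniqHyp G) (h : Exc M p A A₀) {x : G}
    (hx : ∀ a ∈ A, x * a = a * x) (hxp : x ^ p = 1) : x ∈ A :=
  h.mem_of_centralizes hG hU (mem_centralizer_iff.mpr (fun a ha => (hx a ha).symm)) hxp

/-- **Bender-Glauberman 11.5/11.6(a), first half**: `A ≤ Z(PG)`. -/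
theorem central (hG : IsMinSimpleOddOrder G) (hU : UniqHyp G) (h44 : H1444.{u}) (h : Exc M p A A₀)
    (hS : IsSylowIn p PG M) (hAP : A ≤ PG) : ∀ a ∈ A, ∀ y ∈ PG, y * a = a * y := by
  by_contra hnc
  have hpp : p.Prime := hp.out
  have hM := h.coatom
  have hPGp : IsPGroup p ↥PG := hS.2.1
  have hPGM : PG ≤ M := hS.1
  have hPG1 : PG ≠ ⊥ := ne_bot_of_le h hAP
  have hAc := h.comm
  have hAe := h.exp
  -- `g ∈ N_G(PG) \ M`
  obtain ⟨g, hgN, hgM⟩ := SetLike.not_le_iff_exists.mp (not_normalizer_le h hS hAP)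
  have hgPG : cj g PG = PG := cj_eq_of_mem_normalizer hgN
  have hAg : A ≤ cj g M := by
    calc A ≤ PG := hAP
      _ = cj g PG := hgPG.symm
      _ ≤ cj g M := cj_mono hPGM
  have hgmem : ∀ x ∈ PG, g * x * g⁻¹ ∈ PG := fun x hx => (mem_normalizer_iff.mp hgN x).mp hx
  -- a central element of order `p`
  obtain ⟨z₀, hz₀P, hz₀c, hz₀o⟩ := exists_central_of_ne_bot hPGp hPG1
  have hz₀p : z₀ ^ p = 1 := by rw [← hz₀o]; exact pow_orderOf_eq_one z₀
  have hz₀1 : z₀ ≠ 1 := by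
    intro h1
    rw [h1, orderOf_one] at hz₀o
    exact hpp.one_lt.ne hz₀o
  have hz₀A : z₀ ∈ A := mem_of_comm hG hU h (fun a ha => (hz₀c a (hAP ha)).symm) hz₀p
  set Z : Subgroup G := zpowers z₀ with hZ
  have hZcard : Nat.card Z = p := by rw [hZ, Nat.card_zpowers, hz₀o]
  have hZA : Z ≤ A := zpowers_le.mpr hz₀A
  have hZP : Z ≤ PG := hZA.trans hAP
  have hZc : ∀ z ∈ Z, ∀ y ∈ PG, y * z = z * y := by
    intro z hz y hy
    obtain ⟨i, rfl⟩ := mem_zpowers_iff.mp hz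
    exact ((show Commute y z₀ from hz₀c y hy).zpow_right i).eq
  -- all central elements of order `p` lie in `Z`
  have hall : ∀ z ∈ PG, (∀ y ∈ PG, y * z = z * y) → z ^ p = 1 → z ∈ Z := by
    intro z hzP hzc hzp
    by_contra hzZ
    have hzA : z ∈ A := mem_of_comm hG hU h (fun a ha => (hzc a (hAP ha)).symm) hzp
    apply hnc
    intro a ha y hy
    obtain ⟨i, z', hz', rfl⟩ := exists_zpow_mul hAc h.card hZA hZcard hzA hzZ ha
    have h1 : Commute y (z ^ i) := (show Commute y z from hzc y hy).zpow_right i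
    have h2 : Commute y z' := hZc z' hz' y hy
    exact (h1.mul_right h2).eq
  have hgZ : g ∈ normalizer (Z : Set G) :=
    normalizer_le_normalizer_of_central hPGp hZP hZcard hall hgN
  have hZA₀ : Z ≠ A₀ := by
    intro heq
    exact hgM (h.norm₀ (heq ▸ hgZ))
  -- a generator `u` of `A₀`, outside `Z`
  have hA₀1 : A₀ ≠ ⊥ := by
    intro hb
    have := h.card₀
    rw [hb, Subgroup.card_bot] at this
    exact hpp.one_lt.ne this
  obtain ⟨u, hu1⟩ := (Subgroup.ne_bot_iff_exists_ne_one).mp hA₀1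
  have hu' : u.1 ∈ A₀ := u.2
  have hu1' : u.1 ≠ 1 := fun h1 => hu1 (Subtype.ext h1)
  have huA₀ : zpowers u.1 = A₀ := zpowers_eq_of_card_prime h.card₀ hu' hu1'
  have huZ : u.1 ∉ Z := by
    intro hmem
    apply hZA₀
    rw [← huA₀]
    exact (zpowers_eq_of_card_prime hZcard hmem hu1').symm
  have huA : u.1 ∈ A := h.le₀ hu'
  -- a `PG`-invariant Sylow `q`-subgroup of `M_σ`
  have hσ1 : Nat.card ↥(sigmaCore M) ≠ 1 := fun h1 =>
    Cfsg.Agent.Lib.Helper49_BG124.sigmaCore_ne_bot hG M hM ((Subgroup.card_eq_one).mp h1)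
  obtain ⟨q, hqq, hqd⟩ := Nat.exists_prime_and_dvd hσ1
  have : Fact q.Prime := ⟨hqq⟩
  have hMsolv : Group.IsSolvable ↥M := hG.2.2.2 M hM.1
  have hσsolv : Group.IsSolvable ↥(sigmaCore M) :=
    Cfsg.Agent.Lib.Helper24_CoprimeAction.isSolvable_of_le (sigmaCore_le M) hMsolv
  have hPGσ : PG ≤ normalizer ((sigmaCore M : Subgroup G) : Set G) :=
    hPGM.trans (le_normalizer_sigmaCore M)
  have hcop : (Nat.card PG).Coprime (Nat.card ↥(sigmaCore M)) := by
    obtain ⟨k, hk⟩ := IsPGroup.iff_card.mp hPGp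
    rw [hk]
    apply Nat.Coprime.pow_left
    rw [Nat.Prime.coprime_iff_not_dvd hpp]
    intro hd
    exact h.not_sigma (Cfsg.Agent.Lib.Helper70_BG1012.card_sigmaCore_mem M p hpp hd)
  obtain ⟨Q₁, hQ₁, hPQ₁⟩ := exists_invariant_piHall PG (sigmaCore M) hPGσ hcop hσsolv {q}
  have hQ₁1 : Q₁ ≠ ⊥ := piHall_ne_bot hqq hQ₁ hqd
  have hQ₁σ : Q₁ ≤ sigmaCore M := hQ₁.1
  have hPmem : ∀ y ∈ PG, ∀ x ∈ Q₁, y * x * y⁻¹ ∈ Q₁ := fun y hy x hx =>
    (mem_normalizer_iff.mp (hPQ₁ hy) x).mp hx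
  -- `Q₂ = g Q₁ g⁻¹`
  have hQ₂ : PiHall {q} (cj g Q₁) (cj g (sigmaCore M)) := piHall_cj hQ₁ g
  have hAQ₁ : A ≤ normalizer (Q₁ : Set G) := hAP.trans hPQ₁
  have hAQ₂ : A ≤ normalizer ((cj g Q₁ : Subgroup G) : Set G) := by
    rw [normalizer_cj]
    calc A ≤ PG := hAP
      _ = cj g PG := hgPG.symm
      _ ≤ cj g (normalizer (Q₁ : Set G)) := cj_mono hPQ₁
  -- `C_{Q₁}(Z) = 1`
  have hZ1 : Z ≠ ⊥ := by
    intro hb
    apply hz₀1
    have : z₀ ∈ Z := mem_zpowers z₀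
    rw [hb] at this
    exact Subgroup.mem_bot.mp this
  have hZtop : Z ≠ ⊤ := ne_top_of_le_ne_top hM.1 (hZP.trans hPGM)
  have hCZtop : centralizer (Z : Set G) ≠ ⊤ := by
    intro ht
    apply normalizer_ne_top hG hZ1 hZtop
    exact top_le_iff.mp (ht ▸ centralizer_le_normalizer _)
  have hACZ : A ≤ centralizer (Z : Set G) := by
    intro a ha
    rw [mem_centralizer_iff]
    intro z hz
    exact hAc z (hZA hz) a ha
  have hQ₁Z : centralizer (Z : Set G) ⊓ Q₁ = ⊥ := by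
    rcases no_common_overgroup hG hU h44 h hgM hAg hQ₁ hAQ₁ hQ₂ hAQ₂ hQ₁1 hCZtop hACZ with h1 | h1
    · exact h1
    · rw [eq_bot_iff]
      intro x hx
      have h2 : g * x * g⁻¹ ∈ centralizer (Z : Set G) ⊓ cj g Q₁ := by
        refine Subgroup.mem_inf.mpr ⟨?_, ⟨x, hx.2, rfl⟩⟩
        rw [mem_centralizer_iff]
        intro z hz
        have hz' : g⁻¹ * z * g ∈ Z := by
          have := (mem_normalizer_iff.mp (inv_mem hgZ) z).mp hz
          rwa [inv_inv] at this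
        have h3 := mem_centralizer_iff.mp hx.1 _ hz'
        calc z * (g * x * g⁻¹) = g * ((g⁻¹ * z * g) * x) * g⁻¹ := by group
          _ = g * (x * (g⁻¹ * z * g)) * g⁻¹ := by rw [h3]
          _ = g * x * g⁻¹ * z := by group
      rw [h1, Subgroup.mem_bot] at h2
      rw [Subgroup.mem_bot]
      have : x = g⁻¹ * (g * x * g⁻¹) * g := by group
      rw [this, h2]
      group
  -- `C_{M_σ}(g A₀ g⁻¹) = 1`
  have hB := sigmaCore_inf_centralizer_cj_eq_bot hG hU h44 h hgM hAg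
  -- every nontrivial element of `g A g⁻¹` acts without fixed points on `Q₁`
  have hfpf : ∀ b' ∈ cj g A, b' ≠ 1 → ∀ x ∈ Q₁, b' * x = x * b' → x = 1 := by
    rintro _ ⟨b, hb, rfl⟩ hb1 x hx hcomm
    have hgb : (MulAut.conj g).toMonoidHom b = g * b * g⁻¹ := rfl
    rw [hgb] at hb1 hcomm
    by_cases hbZ : b ∈ Z
    · -- `g b g⁻¹ ∈ Z` generates `Z`
      have hb'Z : g * b * g⁻¹ ∈ Z := (mem_normalizer_iff.mp hgZ b).mp hbZ
      have hgen : zpowers (g * b * g⁻¹) = Z := zpowers_eq_of_card_prime hZcard hb'Z hb1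
      have hxC : x ∈ centralizer (Z : Set G) ⊓ Q₁ := by
        refine Subgroup.mem_inf.mpr ⟨?_, hx⟩
        rw [mem_centralizer_iff, ← hgen]
        intro z hz
        obtain ⟨i, rfl⟩ := mem_zpowers_iff.mp hz
        exact ((show Commute (g * b * g⁻¹) x from hcomm).zpow_left i).eq
      rw [hQ₁Z, Subgroup.mem_bot] at hxC
      exact hxC
    · obtain ⟨y, hyP, j, hj⟩ := exists_conj_pow hPGp hAP hAc hAe h.card hZA hZcard hZc
        (fun x hx hxa hxp => mem_of_comm hG hU h hxa hxp) hnc huA huZ hb hbZ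
      -- `y' = g y g⁻¹ ∈ PG`, `u' = g u g⁻¹`
      set y' : G := g * y * g⁻¹ with hy'
      have hy'P : y' ∈ PG := hgmem y hyP
      have hpow : (g * b * g⁻¹) ^ j = y' * (g * u.1 * g⁻¹) * y'⁻¹ := by
        rw [conj_pow, hj, hy']
        group
      have hc2 : Commute ((g * b * g⁻¹) ^ j) x := (show Commute (g * b * g⁻¹) x from hcomm).pow_left j
      rw [hpow] at hc2
      -- `x' = y'⁻¹ x y'` commutes with `g u g⁻¹`
      set x' : G := y'⁻¹ * x * y' with hx'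
      have hx'Q : x' ∈ Q₁ := by
        have := hPmem y'⁻¹ (inv_mem hy'P) x hx
        rwa [inv_inv] at this
      have hc3 : (g * u.1 * g⁻¹) * x' = x' * (g * u.1 * g⁻¹) := by
        have h4 := hc2.eq
        calc (g * u.1 * g⁻¹) * x' = y'⁻¹ * ((y' * (g * u.1 * g⁻¹) * y'⁻¹) * x) * y' := by
              rw [hx']; group
          _ = y'⁻¹ * (x * (y' * (g * u.1 * g⁻¹) * y'⁻¹)) * y' := by rw [h4]
          _ = x' * (g * u.1 * g⁻¹) := by rw [hx']; group
      have hx'C : x' ∈ sigmaCore M ⊓ centralizer ((cj g A₀ : Subgroup G) : Set G) := by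
        refine Subgroup.mem_inf.mpr ⟨hQ₁σ hx'Q, ?_⟩
        rw [mem_centralizer_iff]
        rintro _ ⟨a₀, ha₀, rfl⟩
        rw [← huA₀] at ha₀
        obtain ⟨i, rfl⟩ := mem_zpowers_iff.mp ha₀
        have e : (MulAut.conj g).toMonoidHom (u.1 ^ i) = (g * u.1 * g⁻¹) ^ i := by
          show g * u.1 ^ i * g⁻¹ = _
          rw [conj_zpow]
        rw [e]
        exact ((show Commute (g * u.1 * g⁻¹) x' from hc3).zpow_left i).eq
      rw [hB, Subgroup.mem_bot] at hx'C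
      have : x = y' * x' * y'⁻¹ := by rw [hx']; group
      rw [this, hx'C]
      group
  -- generation by centralizers of hyperplanes
  have hA'c : ∀ a ∈ cj g A, ∀ b ∈ cj g A, a * b = b * a := by
    rintro _ ⟨a, ha, rfl⟩ _ ⟨b, hb, rfl⟩
    show g * a * g⁻¹ * (g * b * g⁻¹) = g * b * g⁻¹ * (g * a * g⁻¹)
    have := hAc a ha b hb
    calc g * a * g⁻¹ * (g * b * g⁻¹) = g * (a * b) * g⁻¹ := by group
      _ = g * (b * a) * g⁻¹ := by rw [this]
      _ = g * b * g⁻¹ * (g * a * g⁻¹) := by group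
  have hA'e : ∀ a ∈ cj g A, a ^ p = 1 := by
    rintro _ ⟨a, ha, rfl⟩
    show (g * a * g⁻¹) ^ p = 1
    rw [conj_pow, hAe a ha]
    group
  have hA'Q : cj g A ≤ normalizer (Q₁ : Set G) := by
    calc cj g A ≤ cj g PG := cj_mono hAP
      _ = PG := hgPG
      _ ≤ normalizer (Q₁ : Set G) := hPQ₁
  have hqp : ¬ p ∣ Nat.card Q₁ := by
    intro hd
    exact h.not_sigma (Cfsg.Agent.Lib.Helper70_BG1012.card_sigmaCore_mem M p hpp (hd.trans (Subgroup.card_dvd_of_le hQ₁σ)))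
  have hgen := Cfsg.Agent.Lib.Helper22_Hyperplane.le_iSup_centralizer_hyperplanes p (cj g A) Q₁
    hA'c hA'e hqp hA'Q
  apply hQ₁1
  rw [eq_bot_iff]
  refine hgen.trans (iSup_le ?_)
  rintro ⟨B, hBA, hBidx⟩
  -- `B ≠ ⊥`
  have hB1 : B ≠ ⊥ := by
    intro hb
    rw [hb, Subgroup.relIndex_bot_left, card_cj, h.card] at hBidx
    have := hpp.one_lt
    nlinarith
  obtain ⟨b', hb'1⟩ := (Subgroup.ne_bot_iff_exists_ne_one).mp hB1
  intro x hx
  rw [Subgroup.mem_bot]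
  refine hfpf b'.1 (hBA b'.2) (fun h1 => hb'1 (Subtype.ext h1)) x hx.1 ?_
  exact mem_centralizer_iff.mp hx.2 b'.1 b'.2

/-- **Bender-Glauberman 11.6(a)**: `A = Ω₁(PG)`. -/
theorem omega_eq (hG : IsMinSimpleOddOrder G) (hU : UniqHyp G) (h44 : H1444.{u}) (h : Exc M p A A₀)
    (hS : IsSylowIn p PG M) (hAP : A ≤ PG) : ∀ x ∈ PG, x ^ p = 1 ↔ x ∈ A := by
  intro x hx
  constructor
  · intro hxp
    exact mem_of_comm hG hU h (fun a ha => central hG hU h44 h hS hAP a ha x hx) hxp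
  · intro hxA
    exact h.exp x hxA

/-- `N_G(PG) ≤ N_G(A)` -/
theorem normalizer_le (hG : IsMinSimpleOddOrder G) (hU : UniqHyp G) (h44 : H1444.{u}) (h : Exc M p A A₀)
    (hS : IsSylowIn p PG M) (hAP : A ≤ PG) : normalizer (PG : Set G) ≤ normalizer (A : Set G) := by
  intro n hn
  apply Cfsg.Agent.Lib.Helper49_BG124.mem_normalizer_of_cj_le'
  rintro _ ⟨a, ha, rfl⟩
  have h1 : n * a * n⁻¹ ∈ PG := (mem_normalizer_iff.mp hn a).mp (hAP ha)
  apply (omega_eq hG hU h44 h hS hAP _ h1).mp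
  show (n * a * n⁻¹) ^ p = 1
  rw [conj_pow, h.exp a ha]
  group

/-- **Bender-Glauberman, Theorem 11.5**: the Sylow `p`-subgroups of `M` are abelian. -/
theorem sylow_comm (hG : IsMinSimpleOddOrder G) (hU : UniqHyp G) (h44 : H1444.{u}) (h : Exc M p A A₀)
    (hS : IsSylowIn p PG M) (hAP : A ≤ PG) : ∀ x ∈ PG, ∀ y ∈ PG, x * y = y * x := by
  have hpp : p.Prime := hp.out
  have hPGp : IsPGroup p ↥PG := hS.2.1
  obtain ⟨S, hPS⟩ := hPGp.exists_le_sylow
  have hp2 : p ≠ 2 := by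
    rintro rfl
    have h1 : 2 ∣ Nat.card ↥A := by rw [h.card]; exact dvd_pow_self 2 (by norm_num)
    have h2 : 2 ∣ Nat.card G := h1.trans (Subgroup.card_subgroup_dvd_card A)
    have h3 := hG.1
    rw [Nat.odd_iff] at h3
    omega
  have key := Cfsg.Agent.Lib.Helper62_EStarCent.sylow_centralizer_comm p hp2 (S : Subgroup G) S.isPGroup'
    (fun hr => Cfsg.Agent.S1412.result hG p S hr) A (hAP.trans hPS) h.elem h.card
    (fun B _ hB hAB => h.maximal hG hU B hB hAB)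
  have hle : PG ≤ (S : Subgroup G) ⊓ centralizer (A : Set G) := by
    intro y hy
    refine Subgroup.mem_inf.mpr ⟨hPS hy, ?_⟩
    rw [mem_centralizer_iff]
    intro a ha
    exact (central hG hU h44 h hS hAP a ha y hy).symm
  intro x hx y hy
  exact key x (hle hx) y (hle hy)

/-- **Bender-Glauberman 11.6(c)**: some line of `A` acts without fixed points on `M_σ`. -/
theorem exists_fpf_line (hG : IsMinSimpleOddOrder G) (hU : UniqHyp G) (h44 : H1444.{u})
    (h : Exc M p A A₀) (hS : IsSylowIn p PG M) (hAP : A ≤ PG) :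
    ∃ A₁ : Subgroup G, A₁ ≤ A ∧ Nat.card A₁ = p ∧
      sigmaCore M ⊓ centralizer (A₁ : Set G) = ⊥ := by
  obtain ⟨g, hgN, hgM⟩ := SetLike.not_le_iff_exists.mp (not_normalizer_le h hS hAP)
  have hgPG : cj g PG = PG := cj_eq_of_mem_normalizer hgN
  have hAg : A ≤ cj g M := by
    calc A ≤ PG := hAP
      _ = cj g PG := hgPG.symm
      _ ≤ cj g M := cj_mono hS.1
  have hgA : cj g A = A := cj_eq_of_mem_normalizer (normalizer_le hG hU h44 h hS hAP hgN)
  refine ⟨cj g A₀, ?_, ?_, sigmaCore_inf_centralizer_cj_eq_bot hG hU h44 h hgM hAg⟩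
  · rw [← hgA]
    exact cj_mono h.le₀
  · rw [card_cj, h.card₀]

/-- **Bender-Glauberman 11.6(b)**: `C_{M_σ}(A) = 1`. -/
theorem sigmaCore_inf_centralizer_eq_bot (hG : IsMinSimpleOddOrder G) (hU : UniqHyp G)
    (h44 : H1444.{u}) (h : Exc M p A A₀) (hS : IsSylowIn p PG M) (hAP : A ≤ PG) :
    sigmaCore M ⊓ centralizer (A : Set G) = ⊥ := by
  obtain ⟨A₁, hA₁, -, hfpf⟩ := exists_fpf_line hG hU h44 h hS hAP
  rw [eq_bot_iff, ← hfpf]
  exact inf_le_inf_left _ (Subgroup.centralizer_le (by exact_mod_cast hA₁))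

end Main

end Cfsg.Agent.Lib.Helper49_BG115
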