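import Cfsg.Agent.Lib.Helper33_Alperin
import Mathlib.GroupTheory.PGroup
import Mathlib.GroupTheory.Sylow

set_option autoImplicit false

/-! Sylow/Frattini-type lemmas relative to a subgroup, phrased with `cj` (conjugate subgroup)
and `relIndex` (no `Sylow` structures), for local arguments. -/

namespace Cfsg.Agent.Lib.Helper51_Local

open Cfsg.Agent.Lib.Helper33_Conj Cfsg.Agent.Lib.Helper33_Alperin

variable {G : Type*} [Group G]

theorem cj_of_mem_centralizer {c : G} {A : Subgroup G}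
    (hc : c ∈ Subgroup.centralizer (A : Set G)) : cj c A = A :=
  mem_normalizer_iff_cj.mp (Subgroup.centralizer_le_normalizer _ hc)

theorem relIndex_cj (g : G) (A B : Subgroup G) : (cj g A).relIndex (cj g B) = A.relIndex B :=
  Subgroup.relIndex_map_map_of_injective A B (MulAut.conj g).injective

/-- elementwise conjugation-invariance gives `cj m Y = Y` -/
theorem cj_eq_of_forall_conj_mem {M Y : Subgroup G}
    (h : ∀ m ∈ M, ∀ x ∈ Y, m * x * m⁻¹ ∈ Y) {m : G} (hm : m ∈ M) : cj m Y = Y := by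
  ext x
  rw [mem_cj]
  constructor
  · intro hx
    have := h m hm _ hx
    have e : m * (m⁻¹ * x * m) * m⁻¹ = x := by group
    rwa [e] at this
  · intro hx
    have := h m⁻¹ (M.inv_mem hm) x hx
    rwa [inv_inv] at this

section Sylow

variable [Finite G] {p : ℕ} [Fact p.Prime]

/-- A `p`-subgroup `T` of `Y` lies in a "Sylow `p`-subgroup of `Y`". -/
theorem exists_sylow_sub {T Y : Subgroup G} (hTY : T ≤ Y) (hT : IsPGroup p T) :
    ∃ R : Subgroup G, T ≤ R ∧ R ≤ Y ∧ IsPGroup p R ∧ ¬ p ∣ R.relIndex Y := by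
  have hT' : IsPGroup p (T.subgroupOf Y) := hT.comap_subtype
  obtain ⟨S', hS'⟩ := hT'.exists_le_sylow
  refine ⟨(S' : Subgroup Y).map Y.subtype, ?_, Subgroup.map_subtype_le _, S'.2.map _, ?_⟩
  · intro x hx
    exact ⟨⟨x, hTY hx⟩, hS' (by rw [Subgroup.mem_subgroupOf]; exact hx), rfl⟩
  · have e : ((S' : Subgroup Y).map Y.subtype).subgroupOf Y = (S' : Subgroup Y) :=
      Subgroup.comap_map_eq_self_of_injective Y.subtype_injective _
    unfold Subgroup.relIndex
    rw [e]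
    exact S'.not_dvd_index

/-- If `S` is "Sylow in `M`" and `Y ≤ M` is normalized by `M`, then `S ⊓ Y` is "Sylow in `Y`". -/
theorem sylow_inf_normal {M Y S : Subgroup G} (hYM : Y ≤ M) (hnorm : ∀ m ∈ M, cj m Y = Y)
    (hSM : S ≤ M) (hS : IsPGroup p S) (hidx : ¬ p ∣ S.relIndex M) :
    ¬ p ∣ (S ⊓ Y).relIndex Y := by
  obtain ⟨T, -, hTY, hT, hTidx⟩ := exists_sylow_sub (p := p) (bot_le : (⊥ : Subgroup G) ≤ Y)
    IsPGroup.of_bot
  obtain ⟨m, hm, hmT⟩ := exists_cj_le_of_relIndex (p := p) hSM hS hidx (hTY.trans hYM) hT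
  have h1 : cj m T ≤ Y := by
    have := cj_mono (g := m) hTY
    rwa [hnorm m hm] at this
  have h2 : ¬ p ∣ (cj m T).relIndex Y := by
    have := relIndex_cj m T Y
    rw [hnorm m hm] at this
    rwa [this]
  intro hdvd
  exact h2 (dvd_trans hdvd (Subgroup.relIndex_dvd_of_le_left Y (le_inf hmT h1)))

/-- Frattini argument relative to `M`. -/
theorem frattini {M Y R : Subgroup G} (hnorm : ∀ m ∈ M, cj m Y = Y)
    (hRY : R ≤ Y) (hR : IsPGroup p R) (hidx : ¬ p ∣ R.relIndex Y) {m : G} (hm : m ∈ M) :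
    ∃ y ∈ Y, cj (y * m) R = R := by
  have h1 : cj m R ≤ Y := by
    have := cj_mono (g := m) hRY
    rwa [hnorm m hm] at this
  obtain ⟨y, hy, hyR⟩ := exists_cj_le_of_relIndex (p := p) hRY hR hidx h1 (isPGroup_cj hR)
  refine ⟨y, hy, ?_⟩
  rw [cj_mul]
  apply Subgroup.eq_of_le_of_card_ge hyR
  rw [card_cj, card_cj]

/-- Every subgroup of a Sylow `p`-subgroup `P` has a fully normalized `G`-conjugate in `P`. -/
theorem exists_fully_normalized (P : Sylow p G) {T : Subgroup G} (hT : T ≤ (P : Subgroup G)) :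
    ∃ U : Subgroup G, U ≤ (P : Subgroup G) ∧ (∃ g : G, cj g T = U) ∧
      ¬ p ∣ ((P : Subgroup G) ⊓ Subgroup.normalizer (U : Set G)).relIndex
        (Subgroup.normalizer (U : Set G)) := by
  have hTp : IsPGroup p T := P.2.to_le hT
  obtain ⟨R, hTR, hRN, hR, hRidx⟩ := exists_sylow_sub (p := p)
    (Subgroup.le_normalizer : T ≤ Subgroup.normalizer (T : Set G)) hTp
  have hPtop : ¬ p ∣ (P : Subgroup G).relIndex ⊤ := by
    rw [Subgroup.relIndex_top_right]; exact P.not_dvd_index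
  obtain ⟨k, -, hk⟩ := exists_cj_le_of_relIndex (p := p) (le_top : (P : Subgroup G) ≤ ⊤) P.2 hPtop
    (le_top : R ≤ ⊤) hR
  refine ⟨cj k T, (cj_mono hTR).trans hk, ⟨k, rfl⟩, ?_⟩
  have h1 : cj k R ≤ Subgroup.normalizer ((cj k T : Subgroup G) : Set G) := by
    rw [← cj_normalizer]; exact cj_mono hRN
  have h2 : ¬ p ∣ (cj k R).relIndex (Subgroup.normalizer ((cj k T : Subgroup G) : Set G)) := by
    rw [← cj_normalizer, relIndex_cj]; exact hRidx
  intro hdvd
  exact h2 (dvd_trans hdvd (Subgroup.relIndex_dvd_of_le_left _ (le_inf hk h1)))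

end Sylow

end Cfsg.Agent.Lib.Helper51_Local

namespace Cfsg.Agent.Lib.Helper51_Local

open Cfsg.Agent.Lib.Helper33_Conj Cfsg.Agent.Lib.Helper33_Alperin

variable {G : Type*} [Group G]

theorem normalizer_le_normalizer_centralizer (U : Subgroup G) :
    Subgroup.normalizer (U : Set G) ≤
      Subgroup.normalizer ((Subgroup.centralizer (U : Set G) : Subgroup G) : Set G) := by
  intro x hx
  rw [mem_normalizer_iff_cj, cj_centralizer, mem_normalizer_iff_cj.mp hx]

section PPow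

variable [Finite G] {p : ℕ} [Fact p.Prime]

/-- If `C ≤ Y` is normalized by `Y` and every element of `Y` has a `p`-power in `C`, then
`|Y : C|` is a power of `p`. -/
theorem relIndex_eq_pow_of_forall_pow_mem {C Y : Subgroup G} (hCY : C ≤ Y)
    (hnorm : Y ≤ Subgroup.normalizer (C : Set G)) (k : ℕ) (h : ∀ y ∈ Y, y ^ (p ^ k) ∈ C) :
    ∃ n : ℕ, C.relIndex Y = p ^ n := by
  haveI : (C.subgroupOf Y).Normal := (Subgroup.normal_subgroupOf_iff_le_normalizer hCY).mpr hnorm
  have hpg : IsPGroup p (Y ⧸ C.subgroupOf Y) := by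
    intro g
    obtain ⟨y, rfl⟩ := QuotientGroup.mk_surjective g
    refine ⟨k, ?_⟩
    rw [← QuotientGroup.mk_pow, QuotientGroup.eq_one_iff, Subgroup.mem_subgroupOf]
    simpa using h y y.2
  obtain ⟨n, hn⟩ := IsPGroup.iff_card.mp hpg
  exact ⟨n, by rw [Subgroup.relIndex, Subgroup.index_eq_card]; exact hn⟩

/-- `Y = S C` when `S` is Sylow in `Y` and `|Y : C|` is a `p`-power. -/
theorem le_sup_of_sylow_of_relIndex_pow {S C Y : Subgroup G}
    (hS : ¬ p ∣ S.relIndex Y) (hC : ∃ n : ℕ, C.relIndex Y = p ^ n) : Y ≤ S ⊔ C := by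
  obtain ⟨n, hn⟩ := hC
  have h1 : (S ⊔ C).relIndex Y ∣ S.relIndex Y := Subgroup.relIndex_dvd_of_le_left Y le_sup_left
  have h2 : (S ⊔ C).relIndex Y ∣ p ^ n := by
    rw [← hn]; exact Subgroup.relIndex_dvd_of_le_left Y le_sup_right
  obtain ⟨i, -, hi⟩ := (Nat.dvd_prime_pow (Fact.out : p.Prime)).mp h2
  rcases Nat.eq_zero_or_pos i with h0 | hpos
  · rw [h0, pow_zero] at hi
    exact Subgroup.relIndex_eq_one.mp hi
  · exfalso
    apply hS
    refine dvd_trans ?_ h1
    rw [hi]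
    exact dvd_pow_self p hpos.ne'

end PPow

end Cfsg.Agent.Lib.Helper51_Local
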