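import Cfsg.Agent.Lib.Helper49_MaxSubA
import Cfsg.Agent.Lib.Helper49_MaxSubB
import Cfsg.Agent.Lib.Helper22_FitLocal2
import Cfsg.Agent.Lib.Helper22_BGTrans
import Cfsg.Agent.Lib.Helper51_Local
import Cfsg.Prelude.Def_OddOrderLocal
import Cfsg.Prelude.Def_OddOrder

/-!
# Bender's maximal subgroup theorem in a minimal simple group of odd order (helper49)

`eq_of_zpart_le`: let `H`, `L` be maximal subgroups of a minimal simple group of odd order, `F = F(H)` with
at least two prime divisors, `Z(F) ≤ L` and `O_q(L) = 1` for every prime `q` not dividing `|F|`. Then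
`H = L`.

The proof: the `P × Q` lemma gives `F(L) ≤ H`; `p`-stability gives `Z(F) ≤ F(L)`; the `P × Q` lemma again
gives `F ≤ L`, and `p`-stability gives `Z(F(L)) ≤ F`. Then `C_L(O_{p'}(L))` and `C_H(O_{p'}(H))` have a common
Sylow `p`-subgroup `S`, and Puig's theorem shows `H = N_G(Z(L(S))) = L`.
-/

set_option autoImplicit false

namespace Cfsg.Agent.Lib.Helper49_MaxSub

open Cfsg Cfsg.Agent.Lib.Helper49_Puig Cfsg.Agent.Lib.Helper22_FitLocal
  Cfsg.Agent.Lib.Helper24_CoprimeAction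

variable {G : Type*} [Group G]

/-! ### Generalities -/

theorem le_normalizer_inf {X A B : Subgroup G} (hA : X ≤ Subgroup.normalizer (A : Set G))
    (hB : X ≤ Subgroup.normalizer (B : Set G)) :
    X ≤ Subgroup.normalizer ((A ⊓ B : Subgroup G) : Set G) := by
  intro x hx
  rw [Subgroup.mem_normalizer_iff]
  intro g
  have h1 := Subgroup.mem_normalizer_iff.mp (hA hx) g
  have h2 := Subgroup.mem_normalizer_iff.mp (hB hx) g
  rw [Subgroup.mem_inf, Subgroup.mem_inf, h1, h2]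

theorem dvd_card_of_isPGroup_ne_bot [Finite G] {p : ℕ} [Fact p.Prime] {P : Subgroup G}
    (hP : IsPGroup p P) (hP1 : P ≠ ⊥) : p ∣ Nat.card P := by
  obtain ⟨n, hn⟩ := IsPGroup.iff_card.mp hP
  rcases Nat.eq_zero_or_pos n with h0 | hpos
  · exfalso
    rw [h0, pow_zero] at hn
    exact hP1 (Subgroup.card_eq_one.mp hn)
  · rw [hn]
    exact dvd_pow_self p hpos.ne'

theorem pCoreOf_le_fittingOf [Finite G] (p : ℕ) [Fact p.Prime] (H : Subgroup G) :
    pCoreOf p H ≤ fittingOf H :=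
  Subgroup.map_mono (Cfsg.Agent.Lib.Helper1_Cores.pCore_le_fittingSubgroup p)

theorem pCoreOf_eq_bot_of_not_dvd [Finite G] (p : ℕ) [Fact p.Prime] (H : Subgroup G)
    (h : ¬ p ∣ Nat.card (fittingOf H)) : pCoreOf p H = ⊥ := by
  by_contra hne
  apply h
  exact (dvd_card_of_isPGroup_ne_bot (Cfsg.Agent.Lib.Helper49_CharP.pCoreOf_isPGroup H) hne).trans
    (Subgroup.card_dvd_of_le (pCoreOf_le_fittingOf p H))

theorem le_normalizer_pCoreOf' (p : ℕ) (X : Subgroup G) :
    X ≤ Subgroup.normalizer ((pCoreOf p X : Subgroup G) : Set G) :=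
  Subgroup.le_normalizer.trans (normalizer_le_normalizer_pCoreOf p X)

theorem le_normalizer_ppc [Finite G] (p : ℕ) (X : Subgroup G) :
    X ≤ Subgroup.normalizer ((ppc p X : Subgroup G) : Set G) :=
  Subgroup.le_normalizer.trans (normalizer_le_normalizer_ppc p X)

/-- `C_X(O_{p'}(X))` -/
def kk (p : ℕ) (X : Subgroup G) : Subgroup G :=
  X ⊓ Subgroup.centralizer ((ppc p X : Subgroup G) : Set G)

theorem kk_le (p : ℕ) (X : Subgroup G) : kk p X ≤ X := inf_le_left

theorem le_normalizer_kk [Finite G] (p : ℕ) (X : Subgroup G) :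
    X ≤ Subgroup.normalizer ((kk p X : Subgroup G) : Set G) :=
  le_normalizer_inf Subgroup.le_normalizer
    ((le_normalizer_ppc p X).trans
      (Cfsg.Agent.Lib.Helper51_Local.normalizer_le_normalizer_centralizer _))

theorem ppc_kk_le_ppc [Finite G] (p : ℕ) (X : Subgroup G) : ppc p (kk p X) ≤ ppc p X :=
  le_ppc ((ppc_le p (kk p X)).trans (kk_le p X)) (card_ppc_coprime p (kk p X))
    ((le_normalizer_kk p X).trans (normalizer_le_normalizer_ppc p (kk p X)))

theorem ppc_kk_le_centralizer [Finite G] (p : ℕ) (X : Subgroup G) :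
    ppc p (kk p X) ≤ Subgroup.centralizer ((kk p X : Subgroup G) : Set G) := by
  refine (ppc_kk_le_ppc p X).trans ?_
  rw [Subgroup.le_centralizer_iff]
  exact inf_le_right

theorem pCoreOf_le_kk [Finite G] (p : ℕ) [Fact p.Prime] (X : Subgroup G) :
    pCoreOf p X ≤ kk p X := by
  refine le_inf (Cfsg.Agent.Lib.Helper49_CharP.pCoreOf_le X) ?_
  intro x hx
  rw [Subgroup.mem_centralizer_iff]
  intro n hn
  exact (commute_of_normalize
    ((Cfsg.Agent.Lib.Helper49_CharP.pCoreOf_le X).trans (le_normalizer_ppc p X))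
    ((ppc_le p X).trans (le_normalizer_pCoreOf' p X))
    (fun c hc1 hc2 => eq_one_of_mem_of_mem_coprime
      (Cfsg.Agent.Lib.Helper49_CharP.pCoreOf_isPGroup X) (card_ppc_coprime p X) hc1 hc2)
    x hx n hn).symm

theorem ppc_le_centralizer_pCoreOf [Finite G] (p : ℕ) [Fact p.Prime] (X : Subgroup G) :
    ppc p X ≤ Subgroup.centralizer ((pCoreOf p X : Subgroup G) : Set G) := by
  rw [Subgroup.le_centralizer_iff]
  exact (pCoreOf_le_kk p X).trans inf_le_right

theorem pCoreOf_le_ppc [Finite G] {p r : ℕ} [Fact p.Prime] [Fact r.Prime] (hrp : r ≠ p)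
    (X : Subgroup G) : pCoreOf r X ≤ ppc p X :=
  le_ppc (Cfsg.Agent.Lib.Helper49_CharP.pCoreOf_le X)
    (card_coprime_of_isPGroup_ne hrp (Cfsg.Agent.Lib.Helper49_CharP.pCoreOf_isPGroup X))
    (le_normalizer_pCoreOf' r X)

/-- The `p`-elements of `C_X(O_{p'}(X))` centralize `O_{p'}(Y)`, if `C_X(O_{p'}(X)) ≤ Y` and
`O_{p'}(Y) ≤ X`. -/
theorem sylowImage_kk_le [Finite G] (p : ℕ) [Fact p.Prime] (X Y : Subgroup G)
    (h1 : kk p X ≤ Y) (h2 : ppc p Y ≤ X) (S₀ : Sylow p ↥(kk p X)) :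
    sylowImage S₀ ≤ kk p Y := by
  have hS : sylowImage S₀ ≤ kk p X := Subgroup.map_subtype_le _
  have hSp : IsPGroup p (sylowImage S₀) := S₀.isPGroup'.map _
  refine le_inf (hS.trans h1) ?_
  intro s hs
  rw [Subgroup.mem_centralizer_iff]
  intro n hn
  refine (commute_of_commutator_central (card_ppc_coprime p Y)
    (Cfsg.Agent.Lib.Helper49_CharP.orderOf_eq_pow_of_mem hSp hs)
    (le_normalizer_ppc p Y (h1 (hS hs))) ?_ n hn).symm
  intro n hn
  -- the commutator lies in `O_{p'}(Y) ⊓ C_X(O_{p'}(X))`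
  have hsK : s ∈ kk p X := hS hs
  have hc1 : s * n * s⁻¹ * n⁻¹ ∈ ppc p Y :=
    (ppc p Y).mul_mem
      ((Subgroup.mem_normalizer_iff.mp (le_normalizer_ppc p Y (h1 hsK)) n).mp hn)
      ((ppc p Y).inv_mem hn)
  have hc2 : s * n * s⁻¹ * n⁻¹ ∈ kk p X := by
    have h3 : n * s⁻¹ * n⁻¹ ∈ kk p X :=
      (Subgroup.mem_normalizer_iff.mp (le_normalizer_kk p X (h2 hn)) s⁻¹).mp
        ((kk p X).inv_mem hsK)
    have e : s * n * s⁻¹ * n⁻¹ = s * (n * s⁻¹ * n⁻¹) := by group
    rw [e]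
    exact (kk p X).mul_mem hsK h3
  have hD : ppc p Y ⊓ kk p X ≤ ppc p (kk p X) := by
    refine le_ppc inf_le_right ?_ ?_
    · exact Nat.Coprime.coprime_dvd_left (Subgroup.card_dvd_of_le inf_le_left)
        (card_ppc_coprime p Y)
    · exact le_normalizer_inf (h1.trans (le_normalizer_ppc p Y)) Subgroup.le_normalizer
  have hc3 : s * n * s⁻¹ * n⁻¹ ∈ ppc p X := ppc_kk_le_ppc p X (hD ⟨hc1, hc2⟩)
  exact (Subgroup.mem_centralizer_iff.mp hsK.2 _ hc3).symm

/-! ### The maximal subgroup theorem -/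

section MinSimple

variable [Finite G]

omit [Finite G] in
theorem isSolvable_of_ne_top (hG : IsMinSimpleOddOrder G) {X : Subgroup G} (hX : X ≠ ⊤) :
    Group.IsSolvable ↥X := hG.2.2.2 X hX

omit [Finite G] in
theorem odd_card_subgroup (hG : IsMinSimpleOddOrder G) (X : Subgroup G) : Odd (Nat.card ↥X) :=
  Odd.of_dvd_nat hG.1 (Subgroup.card_subgroup_dvd_card X)

omit [Finite G] in
theorem normalizer_eq_of_coatom (hG : IsMinSimpleOddOrder G) {X : Subgroup G} (hX : IsCoatom X)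
    {D : Subgroup G} (hD : D ≠ ⊥) (hDX : D ≤ X) (hXD : X ≤ Subgroup.normalizer (D : Set G)) :
    Subgroup.normalizer (D : Set G) = X := by
  have hD' : D ≠ ⊤ := by
    intro h
    apply hX.1
    rw [eq_top_iff, ← h]
    exact hDX
  have h1 := Cfsg.Agent.Lib.Helper22_BGTrans.normalizer_ne_top hG hD hD'
  by_contra hne
  exact h1 (hX.2 _ (lt_of_le_of_ne hXD (Ne.symm hne)))

omit [Finite G] in
theorem centralizer_le_of_coatom (hG : IsMinSimpleOddOrder G) {X : Subgroup G} (hX : IsCoatom X)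
    {D : Subgroup G} (hD : D ≠ ⊥) (hDX : D ≤ X) (hXD : X ≤ Subgroup.normalizer (D : Set G)) :
    Subgroup.centralizer (D : Set G) ≤ X :=
  (Subgroup.centralizer_le_normalizer _).trans (normalizer_eq_of_coatom hG hX hD hDX hXD).le

omit [Finite G] in
theorem zpart_le (q : ℕ) (H : Subgroup G) : zpart q H ≤ H :=
  (zpart_le_fittingOf q H).trans (fittingOf_le H)

/-- Step 2: `Z(F(H))_r` centralizes `O_p(L)` -/
theorem zpart_le_centralizer_pCoreOf (hG : IsMinSimpleOddOrder G) {H L : Subgroup G}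
    (hH : IsCoatom H) (hZL : ∀ q : ℕ, zpart q H ≤ L) {p r : ℕ} [Fact p.Prime] [Fact r.Prime]
    (hpr : p ≠ r) (hp : zpart p H ≠ ⊥) :
    zpart r H ≤ Subgroup.centralizer ((pCoreOf p L : Subgroup G) : Set G) := by
  refine pq_step (Cfsg.Agent.Lib.Helper49_CharP.pCoreOf_isPGroup L) (zpart_isPGroup p H)
    (card_coprime_of_isPGroup_ne hpr.symm (zpart_isPGroup r H))
    ((hZL p).trans (le_normalizer_pCoreOf' p L)) ((hZL r).trans (le_normalizer_pCoreOf' p L)) ?_ ?_
  · intro a ha b hb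
    exact Subgroup.mem_centralizer_iff.mp (zpart_le_centralizer r H hb) a (zpart_le_fittingOf p H ha)
  · exact inf_le_right.trans
      ((centralizer_le_of_coatom hG hH hp (zpart_le p H) (le_normalizer_zpart p H)).trans
        (le_normalizer_zpart r H))

/-- Step 4: `O_r(L)` centralizes `O_p(H)` -/
theorem pCoreOf_le_centralizer_pCoreOf (hG : IsMinSimpleOddOrder G) {H L : Subgroup G}
    (hL : IsCoatom L) (hEH : ∀ q : ℕ, q.Prime → pCoreOf q L ≤ H) {p r : ℕ} [hp : Fact p.Prime]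
    [hr : Fact r.Prime] (hpr : p ≠ r) (hpL : pCoreOf p L ≠ ⊥) :
    pCoreOf r L ≤ Subgroup.centralizer ((pCoreOf p H : Subgroup G) : Set G) := by
  refine pq_step (Cfsg.Agent.Lib.Helper49_CharP.pCoreOf_isPGroup H)
    (Cfsg.Agent.Lib.Helper49_CharP.pCoreOf_isPGroup L)
    (card_coprime_of_isPGroup_ne hpr.symm (Cfsg.Agent.Lib.Helper49_CharP.pCoreOf_isPGroup L))
    ((hEH p hp.out).trans (le_normalizer_pCoreOf' p H))
    ((hEH r hr.out).trans (le_normalizer_pCoreOf' p H)) ?_ ?_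
  · exact commute_of_normalize
      ((Cfsg.Agent.Lib.Helper49_CharP.pCoreOf_le L).trans (le_normalizer_pCoreOf' r L))
      ((Cfsg.Agent.Lib.Helper49_CharP.pCoreOf_le L).trans (le_normalizer_pCoreOf' p L))
      (fun c hc1 hc2 => eq_one_of_mem_of_mem_coprime
        (Cfsg.Agent.Lib.Helper49_CharP.pCoreOf_isPGroup L)
        (card_coprime_of_isPGroup_ne hpr.symm (Cfsg.Agent.Lib.Helper49_CharP.pCoreOf_isPGroup L))
        hc1 hc2)
  · exact inf_le_right.trans
      ((centralizer_le_of_coatom hG hL hpL (Cfsg.Agent.Lib.Helper49_CharP.pCoreOf_le L)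
        (le_normalizer_pCoreOf' p L)).trans (le_normalizer_pCoreOf' r L))

/-- **Bender's maximal subgroup theorem**, in the form used here. -/
theorem eq_of_zpart_le (hG : IsMinSimpleOddOrder G) {H L : Subgroup G} (hH : IsCoatom H)
    (hL : IsCoatom L) (hF2 : 2 ≤ (Nat.card (fittingOf H)).primeFactors.card)
    (hZL : ∀ q : ℕ, zpart q H ≤ L)
    (hbot : ∀ q : ℕ, q.Prime → ¬ q ∣ Nat.card (fittingOf H) → pCoreOf q L = ⊥) : L = H := by
  have hHs : Group.IsSolvable ↥H := isSolvable_of_ne_top hG hH.1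
  have hLs : Group.IsSolvable ↥L := isSolvable_of_ne_top hG hL.1
  have hHodd := odd_card_subgroup hG H
  have hLodd := odd_card_subgroup hG L
  -- a second prime
  have hex : ∀ a : ℕ, ∃ r : ℕ, r.Prime ∧ r ∣ Nat.card (fittingOf H) ∧ r ≠ a := by
    intro a
    obtain ⟨b, hb, hba⟩ := Finset.exists_mem_ne (by omega : 1 < (Nat.card (fittingOf H)).primeFactors.card) a
    rw [Nat.mem_primeFactors] at hb
    exact ⟨b, hb.1, hb.2.1, hba⟩
  have hZne : ∀ q : ℕ, q.Prime → q ∣ Nat.card (fittingOf H) → zpart q H ≠ ⊥ := by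
    intro q hq hqd
    have : Fact q.Prime := ⟨hq⟩
    exact zpart_ne_bot H hqd
  -- Step 3: `F(L) ≤ H`
  have hEH : ∀ q : ℕ, q.Prime → pCoreOf q L ≤ H := by
    intro q hq
    have : Fact q.Prime := ⟨hq⟩
    by_cases hqd : q ∣ Nat.card (fittingOf H)
    · obtain ⟨r, hr, hrd, hrq⟩ := hex q
      have : Fact r.Prime := ⟨hr⟩
      have h1 := zpart_le_centralizer_pCoreOf hG hH hZL (p := q) (r := r) (Ne.symm hrq)
        (hZne q hq hqd)
      rw [Subgroup.le_centralizer_iff] at h1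
      exact h1.trans (centralizer_le_of_coatom hG hH (hZne r hr hrd) (zpart_le r H)
        (le_normalizer_zpart r H))
    · rw [hbot q hq hqd]
      exact bot_le
  -- Step 3.5: `Z(F(H))_q ≤ O_q(L)`
  have hZE : ∀ q : ℕ, q.Prime → q ∣ Nat.card (fittingOf H) → zpart q H ≤ pCoreOf q L := by
    intro q hq hqd
    have : Fact q.Prime := ⟨hq⟩
    refine le_pCoreOf_of_normalized q L (zpart q H) hLs hLodd (hZL q) (zpart_isPGroup q H) ?_ ?_ ?_
    · intro x hx y hy
      exact Subgroup.mem_centralizer_iff.mp (zpart_le_centralizer q H hy) x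
        (zpart_le_fittingOf q H hx)
    · exact (hEH q hq).trans (le_normalizer_zpart q H)
    · intro r hr hrq
      have : Fact r.Prime := ⟨hr⟩
      by_cases hrd : r ∣ Nat.card (fittingOf H)
      · exact zpart_le_centralizer_pCoreOf hG hH hZL (p := r) (r := q) hrq (hZne r hr hrd)
      · rw [hbot r hr hrd]
        intro z _
        rw [Subgroup.mem_centralizer_iff]
        intro x hx
        have hx' : x = 1 := Subgroup.mem_bot.mp hx
        rw [hx', one_mul, mul_one]
  have hEne : ∀ q : ℕ, q.Prime → q ∣ Nat.card (fittingOf H) → pCoreOf q L ≠ ⊥ := by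
    intro q hq hqd h
    apply hZne q hq hqd
    rw [eq_bot_iff, ← h]
    exact hZE q hq hqd
  -- Step 5: `F(H) ≤ L`
  have hFL : ∀ q : ℕ, q.Prime → pCoreOf q H ≤ L := by
    intro q hq
    have : Fact q.Prime := ⟨hq⟩
    by_cases hqd : q ∣ Nat.card (fittingOf H)
    · obtain ⟨r, hr, hrd, hrq⟩ := hex q
      have : Fact r.Prime := ⟨hr⟩
      have h1 := pCoreOf_le_centralizer_pCoreOf hG hL hEH (p := q) (r := r) (Ne.symm hrq)
        (hEne q hq hqd)
      rw [Subgroup.le_centralizer_iff] at h1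
      exact h1.trans (centralizer_le_of_coatom hG hL (hEne r hr hrd)
        (Cfsg.Agent.Lib.Helper49_CharP.pCoreOf_le L) (le_normalizer_pCoreOf' r L))
    · rw [pCoreOf_eq_bot_of_not_dvd q H hqd]
      exact bot_le
  -- Step 6: `Z(O_q(L)) ≤ O_q(H)`
  have hZF : ∀ q : ℕ, q.Prime → q ∣ Nat.card (fittingOf H) →
      pCoreOf q L ⊓ Subgroup.centralizer ((pCoreOf q L : Subgroup G) : Set G) ≤ pCoreOf q H := by
    intro q hq hqd
    have : Fact q.Prime := ⟨hq⟩
    refine le_pCoreOf_of_normalized q H _ hHs hHodd (inf_le_left.trans (hEH q hq))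
      ((Cfsg.Agent.Lib.Helper49_CharP.pCoreOf_isPGroup L).to_le inf_le_left) ?_ ?_ ?_
    · intro x hx y hy
      exact Subgroup.mem_centralizer_iff.mp (Subgroup.mem_inf.mp hy).2 x (Subgroup.mem_inf.mp hx).1
    · exact (hFL q hq).trans ((le_normalizer_pCoreOf' q L).trans
        (normalizer_le_normalizer_inf_centralizer _))
    · intro r hr hrq
      have : Fact r.Prime := ⟨hr⟩
      by_cases hrd : r ∣ Nat.card (fittingOf H)
      · exact inf_le_left.trans
          (pCoreOf_le_centralizer_pCoreOf hG hL hEH (p := r) (r := q) hrq (hEne r hr hrd))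
      · rw [pCoreOf_eq_bot_of_not_dvd r H hrd]
        intro z _
        rw [Subgroup.mem_centralizer_iff]
        intro x hx
        have hx' : x = 1 := Subgroup.mem_bot.mp hx
        rw [hx', one_mul, mul_one]
  -- choose two primes
  obtain ⟨p, hp, hpd, -⟩ := hex 0
  obtain ⟨r, hr, hrd, hrp⟩ := hex p
  have hpF : Fact p.Prime := ⟨hp⟩
  have hrF : Fact r.Prime := ⟨hr⟩
  have hp2 : p ≠ 2 := by
    intro h2
    have h1 : p ∣ Nat.card G := hpd.trans (Subgroup.card_subgroup_dvd_card _)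
    rw [h2] at h1
    exact (Nat.not_even_iff_odd.mpr hG.1) (even_iff_two_dvd.mpr h1)
  -- `Z(O_r(L)) ≠ 1`
  have hzr : pCoreOf r L ⊓ Subgroup.centralizer ((pCoreOf r L : Subgroup G) : Set G) ≠ ⊥ :=
    inf_centralizer_ne_bot (Cfsg.Agent.Lib.Helper49_CharP.pCoreOf_isPGroup L) (hEne r hr hrd)
  have hzp : pCoreOf p L ⊓ Subgroup.centralizer ((pCoreOf p L : Subgroup G) : Set G) ≠ ⊥ :=
    inf_centralizer_ne_bot (Cfsg.Agent.Lib.Helper49_CharP.pCoreOf_isPGroup L) (hEne p hp hpd)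
  have hzL : ∀ q : ℕ, L ≤ Subgroup.normalizer
      ((pCoreOf q L ⊓ Subgroup.centralizer ((pCoreOf q L : Subgroup G) : Set G) : Subgroup G) :
        Set G) :=
    fun q => (le_normalizer_pCoreOf' q L).trans (normalizer_le_normalizer_inf_centralizer _)
  -- (a) `C_L(O_{p'}(L)) ≤ H`
  have hKLH : kk p L ≤ H := by
    refine inf_le_right.trans ?_
    refine (Subgroup.centralizer_le (pCoreOf_le_ppc hrp L)).trans ?_
    refine (Subgroup.centralizer_le (hZE r hr hrd)).trans ?_
    exact centralizer_le_of_coatom hG hH (hZne r hr hrd) (zpart_le r H) (le_normalizer_zpart r H)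
  -- (b) `C_H(O_{p'}(H)) ≤ L`
  have hKHL : kk p H ≤ L := by
    refine inf_le_right.trans ?_
    refine (Subgroup.centralizer_le (pCoreOf_le_ppc hrp H)).trans ?_
    refine (Subgroup.centralizer_le (hZF r hr hrd)).trans ?_
    exact centralizer_le_of_coatom hG hL hzr (inf_le_left.trans
      (Cfsg.Agent.Lib.Helper49_CharP.pCoreOf_le L)) (hzL r)
  -- (c) `O_{p'}(H) ≤ L` and `O_{p'}(L) ≤ H`
  have hNHL : ppc p H ≤ L := by
    refine (ppc_le_centralizer_pCoreOf p H).trans ?_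
    refine (Subgroup.centralizer_le (hZF p hp hpd)).trans ?_
    exact centralizer_le_of_coatom hG hL hzp (inf_le_left.trans
      (Cfsg.Agent.Lib.Helper49_CharP.pCoreOf_le L)) (hzL p)
  have hNLH : ppc p L ≤ H := by
    refine (ppc_le_centralizer_pCoreOf p L).trans ?_
    refine (Subgroup.centralizer_le (hZE p hp hpd)).trans ?_
    exact centralizer_le_of_coatom hG hH (hZne p hp hpd) (zpart_le p H) (le_normalizer_zpart p H)
  -- a common Sylow `p`-subgroup
  obtain S₀ : Sylow p ↥(kk p L) := default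
  have hS1 : sylowImage S₀ ≤ kk p H := sylowImage_kk_le p L H hKLH hNHL S₀
  have hSp : IsPGroup p (sylowImage S₀) := S₀.isPGroup'.map _
  obtain ⟨Q₀, hQ₀⟩ := (hSp.comap_subtype (K := kk p H)).exists_le_sylow
  have hSS' : sylowImage S₀ ≤ sylowImage Q₀ := by
    intro x hx
    exact ⟨⟨x, hS1 hx⟩, hQ₀ (Subgroup.mem_subgroupOf.mpr hx), rfl⟩
  have hS'1 : sylowImage Q₀ ≤ kk p L := sylowImage_kk_le p H L hKHL hNLH Q₀
  have hS'p : IsPGroup p (sylowImage Q₀) := Q₀.isPGroup'.map _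
  have hEq : sylowImage Q₀ = sylowImage S₀ := by
    have h1 : (sylowImage Q₀).subgroupOf (kk p L) = (S₀ : Subgroup ↥(kk p L)) := by
      apply S₀.is_maximal' hS'p.comap_subtype
      intro x hx
      show (x : G) ∈ sylowImage Q₀
      exact hSS' ⟨x, hx, rfl⟩
    have h2 := Subgroup.map_subgroupOf_eq_of_le hS'1
    rw [h1] at h2
    exact h2.symm
  -- both `H` and `L` normalize `Z(L(S))`
  have hKLne : kk p L ≠ ⊤ := fun h => hL.1 (top_le_iff.mp (h ▸ kk_le p L))
  have hKHne : kk p H ≠ ⊤ := fun h => hH.1 (top_le_iff.mp (h ▸ kk_le p H))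
  have hLN : L ≤ Subgroup.normalizer ((zl (sylowImage S₀) : Subgroup G) : Set G) :=
    le_normalizer_zl p hp2 L (kk p L) (le_normalizer_kk p L) (isSolvable_of_ne_top hG hKLne)
      (odd_card_subgroup hG _) (ppc_kk_le_centralizer p L) S₀
  have hHN : H ≤ Subgroup.normalizer ((zl (sylowImage S₀) : Subgroup G) : Set G) := by
    rw [← hEq]
    exact le_normalizer_zl p hp2 H (kk p H) (le_normalizer_kk p H) (isSolvable_of_ne_top hG hKHne)
      (odd_card_subgroup hG _) (ppc_kk_le_centralizer p H) Q₀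
  -- `S ≠ 1`
  have hSne : sylowImage S₀ ≠ ⊥ := by
    have h1 : p ∣ Nat.card ↥(kk p L) :=
      (dvd_card_of_isPGroup_ne_bot (Cfsg.Agent.Lib.Helper49_CharP.pCoreOf_isPGroup L)
        (hEne p hp hpd)).trans (Subgroup.card_dvd_of_le (pCoreOf_le_kk p L))
    have h2 := S₀.ne_bot_of_dvd_card h1
    intro h
    apply h2
    exact (Subgroup.map_eq_bot_iff_of_injective _ (kk p L).subtype_injective).mp h
  have hzl : zl (sylowImage S₀) ≠ ⊥ := zl_ne_bot hSp hSne
  have hzlL : zl (sylowImage S₀) ≤ L :=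
    (zl_le _).trans ((Subgroup.map_subtype_le _).trans (kk_le p L))
  have hzlH : zl (sylowImage S₀) ≤ H := (zl_le _).trans (hS1.trans (kk_le p H))
  rw [← normalizer_eq_of_coatom hG hL hzl hzlL hLN, ← normalizer_eq_of_coatom hG hH hzl hzlH hHN]

end MinSimple

end Cfsg.Agent.Lib.Helper49_MaxSub
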