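import Cfsg.Agent.Lib.Helper49_FitUniq
import Cfsg.Agent.S1393
import Cfsg.Agent.S1482

/-!
# Bender–Glauberman Theorem 8.1(a) (helper49)

`inUniqueMaximal_centralizer`: in a minimal simple group of odd order, if `M` is a maximal subgroup whose
Fitting subgroup `F` is not a `p`-group and `A₀ ≤ F` is elementary abelian of order at least `p ^ 3`, then
`C_F(A₀)` lies in a unique maximal subgroup.

`forall_eq_of_kOf_eq_bot`: under the transitivity hypothesis with centre of rank at least `3` and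
`O_{π(A)'}(C_G(A)) = 1`, all maximal `A`-invariant `q`-subgroups coincide.
-/

set_option autoImplicit false

namespace Cfsg.Agent.Lib.Helper49_FitUniq

open Subgroup Cfsg Cfsg.Agent.Lib.Helper22_BGTrans Cfsg.Agent.Lib.Helper22_FitLocal
  Cfsg.Agent.Lib.Helper22_Radical

variable {G : Type*} [Group G] [Finite G]

omit [Finite G] in
/-- all maximal invariant `q`-subgroups coincide when they are conjugate under the trivial group -/
theorem forall_eq_of_conj_bot {A K : Subgroup G} {q : ℕ} (hK : K = ⊥)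
    (h : ∀ Q₁ ∈ maxInvSubgroups ⊤ A {q}, ∀ Q₂ ∈ maxInvSubgroups ⊤ A {q},
      ∃ k ∈ K, Q₂ = Q₁.map (MulAut.conj k).toMonoidHom)
    {Q : Subgroup G} (hQ : Q ∈ maxInvSubgroups ⊤ A {q}) :
    ∀ Q' ∈ maxInvSubgroups ⊤ A {q}, Q' = Q := by
  intro Q' hQ'
  obtain ⟨k, hk, hkQ⟩ := h Q hQ Q' hQ'
  rw [hK, mem_bot] at hk
  rw [hkQ, hk]
  exact cj_one' Q

theorem inf_centralizer_fittingOf_le (M : Subgroup G) (hs : Group.IsSolvable ↥M) :
    M ⊓ centralizer (fittingOf M : Set G) ≤ fittingOf M := by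
  have h1 := inf_centralizer_inf_le M M hs (inf_le_left.trans le_normalizer)
  intro x hx
  exact h1 (Subgroup.mem_inf.mpr ⟨hx, (Subgroup.mem_inf.mp hx).1⟩)

/-- **Bender–Glauberman, Theorem 8.1(a)**. -/
theorem inUniqueMaximal_centralizer (hG : IsMinSimpleOddOrder G) {M : Subgroup G} (hM : IsCoatom M)
    (p : ℕ) [hp : Fact p.Prime] (A₀ : Subgroup G) (hA₀ : A₀ ≤ fittingOf M)
    (hA₀e : IsElementaryAbelian p A₀) (hA₀3 : p ^ 3 ≤ Nat.card A₀)
    (hnp : ¬ IsPGroup p ↥(fittingOf M)) :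
    InUniqueMaximal (fittingOf M ⊓ centralizer (A₀ : Set G)) := by
  set F := fittingOf M with hF
  set A := F ⊓ centralizer (A₀ : Set G) with hAdef
  have hMs : Group.IsSolvable ↥M := Cfsg.Agent.Lib.Helper49_MaxSub.isSolvable_of_ne_top hG hM.1
  have hFnil : Group.IsNilpotent ↥F := isNilpotent_fittingOf M
  have hAF : A ≤ F := inf_le_left
  have hFM : F ≤ M := fittingOf_le M
  have hA₀c : A₀ ≤ centralizer (A₀ : Set G) := by
    intro a ha
    rw [mem_centralizer_iff]
    intro b hb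
    have := hA₀e.1.is_comm.comm (⟨b, hb⟩ : ↥A₀) ⟨a, ha⟩
    exact congrArg Subtype.val this
  have hA₀A : A₀ ≤ A := le_inf hA₀ hA₀c
  have hA₀p : IsPGroup p ↥A₀ := by
    intro a
    refine ⟨1, ?_⟩
    rw [pow_one]
    apply Subtype.ext
    simpa using hA₀e.2 a a.2
  have hA₀1 : A₀ ≠ ⊥ := by
    intro h
    rw [h, Subgroup.card_bot] at hA₀3
    have : 1 < p ^ 3 := Nat.one_lt_pow (by norm_num) hp.out.one_lt
    omega
  have hpA₀ : p ∣ Nat.card A₀ := Cfsg.Agent.Lib.Helper49_MaxSub.dvd_card_of_isPGroup_ne_bot hA₀p hA₀1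
  have hpF : p ∣ Nat.card F := hpA₀.trans (Subgroup.card_dvd_of_le hA₀)
  -- a second prime
  obtain ⟨r, hr, hrF, hrp⟩ : ∃ r : ℕ, r.Prime ∧ r ∣ Nat.card F ∧ r ≠ p := by
    by_contra hcon
    push Not at hcon
    apply hnp
    have hne : Nat.card F ≠ 0 := Nat.card_pos.ne'
    have := Nat.eq_prime_pow_of_unique_prime_dvd hne (fun {d} hd hdd => hcon d hd hdd)
    exact IsPGroup.of_card this
  have hF2 : 2 ≤ (Nat.card F).primeFactors.card := by
    have hsub : ({p, r} : Finset ℕ) ⊆ (Nat.card F).primeFactors := by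
      intro x hx
      rw [Finset.mem_insert, Finset.mem_singleton] at hx
      rw [Nat.mem_primeFactors]
      rcases hx with rfl | rfl
      · exact ⟨hp.out, hpF, Nat.card_pos.ne'⟩
      · exact ⟨hr, hrF, Nat.card_pos.ne'⟩
    have h2 : ({p, r} : Finset ℕ).card = 2 := Finset.card_pair (Ne.symm hrp)
    rw [← h2]
    exact Finset.card_le_card hsub
  -- `Z(F) ≤ A`, `C_F(A) ≤ A`
  have hZA : F ⊓ centralizer (F : Set G) ≤ A :=
    inf_le_inf_left _ (Subgroup.centralizer_le (show (A₀ : Set G) ⊆ F from hA₀))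
  have hCA : F ⊓ centralizer (A : Set G) ≤ A :=
    inf_le_inf_left _ (Subgroup.centralizer_le (show (A₀ : Set G) ⊆ A from hA₀A))
  have hzA : ∀ q : ℕ, zpart q M ≤ A := zpart_le_of_le hAF hCA
  -- `π(A) = π(F)`
  have hdvd : ∀ q : ℕ, q.Prime → (q ∣ Nat.card A ↔ q ∣ Nat.card F) := by
    intro q hq
    constructor
    · intro h
      exact h.trans (Subgroup.card_dvd_of_le hAF)
    · intro h
      have : Fact q.Prime := ⟨hq⟩
      have h1 : zpart q M ≠ ⊥ := zpart_ne_bot M h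
      exact (Cfsg.Agent.Lib.Helper49_MaxSub.dvd_card_of_isPGroup_ne_bot (zpart_isPGroup q M) h1).trans
        (Subgroup.card_dvd_of_le (hzA q))
  have hπ : primesNotDvd (Nat.card A) = primesNotDvd (Nat.card F) := by
    ext q
    constructor
    · rintro ⟨hq, hqn⟩
      exact ⟨hq, fun h => hqn ((hdvd q hq).mpr h)⟩
    · rintro ⟨hq, hqn⟩
      exact ⟨hq, fun h => hqn ((hdvd q hq).mp h)⟩
  have hmax := maxLocal_of_coatom hG hM
  have hA1 : A ≠ ⊥ := fun h => hA₀1 (le_bot_iff.mp (h ▸ hA₀A))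
  have hA2 : A ≠ ⊤ := by
    intro h
    apply hM.1
    rw [eq_top_iff, ← h]
    exact hAF.trans hFM
  have hAs : Group.IsSolvable ↥A :=
    Cfsg.Agent.Lib.Helper24_CoprimeAction.isSolvable_of_le (hAF.trans hFM) hMs
  have hXc : M ⊓ centralizer (F : Set G) ≤ A := by
    intro x hx
    exact hZA (Subgroup.mem_inf.mpr ⟨inf_centralizer_fittingOf_le M hMs hx, (Subgroup.mem_inf.mp hx).2⟩)
  -- the transitivity hypothesis
  have hA : TransitivityHypothesis A := by
    apply transitivityHypothesis_of_forall hA1 hA2 hAs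
    intro X hX hAX q hq hqA Q hQ hQX hAQ
    rw [hπ]
    have hqF : ¬ q ∣ Nat.card F := fun h => hqA ((hdvd q hq.out).mpr h)
    exact le_piCoreOf_of_invariant hmax hF2 hAF hCA
      (Cfsg.Agent.Lib.Helper49_MaxSub.isSolvable_of_ne_top hG hX) (hAX.trans le_normalizer)
      ((hXc.trans hAX).trans le_normalizer) hqF hQ hQX hAQ
  -- the centre of `A` has rank at least three
  have hZ : ¬ RankLE 2 ↥(A ⊓ centralizer (A : Set G)) := by
    intro h
    have hle : A₀ ≤ A ⊓ centralizer (A : Set G) := by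
      refine le_inf hA₀A ?_
      intro a ha
      rw [mem_centralizer_iff]
      intro b hb
      exact (mem_centralizer_iff.mp (Subgroup.mem_inf.mp hb).2 a ha).symm
    have h1 := h p hp.out (A₀.subgroupOf (A ⊓ centralizer (A : Set G))) ?_ ?_
    · rw [Cfsg.Agent.Lib.Helper24_CoprimeAction.card_subgroupOf_of_le hle] at h1
      have : p ^ 2 < p ^ 3 := Nat.pow_lt_pow_right hp.out.one_lt (by norm_num)
      omega
    · refine ⟨⟨fun a b => ?_⟩⟩
      have := hA₀e.1.is_comm.comm (⟨(a : ↥(A ⊓ centralizer (A : Set G))), a.2⟩ : ↥A₀)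
        ⟨(b : ↥(A ⊓ centralizer (A : Set G))), b.2⟩
      apply Subtype.ext
      apply Subtype.ext
      simpa using congrArg Subtype.val this
    · intro a ha
      apply Subtype.ext
      simpa using hA₀e.2 (a : G) ha
  -- `O_{π'}(C_G(A)) = 1`
  have hK : kOf A = ⊥ := by
    have hr' : Fact r.Prime := ⟨hr⟩
    have hz1 : zpart r M ≠ ⊥ := zpart_ne_bot M hrF
    have hCM : centralizer (A : Set G) ≤ M :=
      (Subgroup.centralizer_le (show (zpart r M : Set G) ⊆ A from hzA r)).trans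
        (Cfsg.Agent.Lib.Helper49_MaxSub.centralizer_le_of_coatom hG hM hz1
          (Cfsg.Agent.Lib.Helper49_MaxSub.zpart_le r M) (le_normalizer_zpart r M))
    have hKinv : kOf A ∈ invSubgroups M A (primesNotDvd (Nat.card A)) := by
      refine ⟨(kOf_le_centralizer A).trans hCM, piCoreOf_primes _ _, ?_⟩
      exact le_normalizer.trans
        (Cfsg.Agent.Lib.Helper22_BGTransUp.normalizer_le_normalizer_piCoreOf_centralizer _ A)
    have h1 := le_piCoreOf_of_mem hA hM.1 (hAF.trans hFM) hKinv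
    rw [hπ, piCoreOf_fitting_eq_bot M hMs] at h1
    exact le_bot_iff.mp h1
  -- `A` normalizes no nontrivial `q`-subgroup for `q ∉ π(F)`
  have hnoq : ∀ (q : ℕ) [Fact q.Prime], ¬ q ∣ Nat.card F → ∀ Q : Subgroup G, IsPGroup q Q →
      A ≤ normalizer (Q : Set G) → Q = ⊥ := by
    intro q hq hqF Q hQ hAQ
    obtain ⟨Q', hQ', hQQ'⟩ := exists_max_ge hq.out hQ hAQ
    have hqA : ¬ q ∣ Nat.card A := fun h => hqF ((hdvd q hq.out).mp h)
    have huniq := forall_eq_of_conj_bot hK (Cfsg.Agent.S1393.result hG A hA hZ q hq.out hqA) hQ'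
    have h1 := unique_max_eq_bot hG hM hQ' huniq hAF hqF
    rw [h1] at hQQ'
    exact le_bot_iff.mp hQQ'
  -- conclusion
  have hinv : ∀ Y ∈ invSubgroups ⊤ A (primesNotDvd (Nat.card F)), Y = ⊥ := by
    rintro Y ⟨-, hYπ, hAY⟩
    have hcop : (Nat.card A).Coprime (Nat.card Y) :=
      Nat.Coprime.coprime_dvd_left (Subgroup.card_dvd_of_le hAF) (coprime_of_primesNotDvd hYπ)
    apply eq_bot_of_forall_prime hAs hAY hcop
    intro q hq hqY Q hQ hAQ
    exact hnoq q (hYπ q hq.out hqY).2 Q hQ hAQ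
  refine ⟨M, ⟨hM, hAF.trans hFM⟩, ?_⟩
  rintro L ⟨hL, hAL⟩
  exact Cfsg.Agent.S1482.result hG M hM hF2 A hAF hZA hinv L hL hAL

end Cfsg.Agent.Lib.Helper49_FitUniq
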