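import Mathlib
import Cfsg.Agent.S1394
import Cfsg.Agent.S1395
import Cfsg.Agent.S1396
import Cfsg.Agent.S1403
import Cfsg.Agent.S1444
import Cfsg.Agent.Lib.Helper2_Narrow
import Cfsg.Agent.Lib.Helper2_RankTwoAut
import Cfsg.Agent.Lib.Helper2_Coprime
import Cfsg.Agent.Lib.Helper1_Cores
import Cfsg.Agent.Lib.Helper22_BGTrans
import Cfsg.Agent.Lib.Helper70_BG107
import Cfsg.Agent.Lib.Helper70_BG107e
import Cfsg.Agent.Lib.Helper70_BG108
import Cfsg.Agent.Lib.Helper24_NarrowFitting
import Cfsg.Agent.Lib.Helper10_Thompson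

/-!
# The signalizer lemma for maximal elementary abelian subgroups of order `p²` (helper70)

Bender--Glauberman `max_normed_2Elem_signaliser` (c) (unlisted lemma of sections 9/10, needed for BG 11.7 and
12.4): `A` elementary abelian of order `p²`, maximal among elementary abelian `p`-subgroups of `G`,
`q ≠ p` a prime dividing `|C_G(A)|`, `Q` a maximal `A`-invariant `q`-subgroup which is narrow.  Then a Sylow
`p`-subgroup of `G` containing `A` centralizes `Q`.

* `isPGroup_commutator_aut_narrow`, `mem_centralizer_of_mem_commutator_normalizer`: BG 5.5 in the form used;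
* `transHyp_of_maxEA`: such an `A` satisfies the transitivity hypothesis;
* `key_signalizer`: the lemma; `isNarrow_of_maxEA_le`: narrowness criterion;
* `centralizes_of_invariant`: every `A`-invariant `q`-subgroup containing a maximal `E_{q²}` of `G` is
  centralized by `A`.
-/

set_option autoImplicit false

namespace Cfsg.Agent.Lib.Helper70_KeySig

open Subgroup Cfsg Cfsg.Agent.Lib.Helper22_Radical Cfsg.Agent.Lib.Helper22_BGTrans
open scoped commutatorElement

universe u

section NarrowAut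

variable {G : Type u} [Group G] [Finite G] {q : ℕ} [Fact q.Prime]

/-- the derived group of an odd-order group of automorphisms of a narrow `q`-group is a `q`-group -/
theorem isPGroup_commutator_aut_narrow (hq2 : q ≠ 2) {Q : Type u} [Group Q] [Finite Q]
    (hQ : IsPGroup q Q) (hQn : Cfsg.IsNarrow q Q) (B : Subgroup (MulAut Q)) (hodd : Odd (Nat.card B)) :
    IsPGroup q ↥⁅B, B⁆ := by
  by_cases hrk : Cfsg.PRankLE q 2 Q
  · exact Cfsg.Agent.Lib.Helper2_RankTwoAut.isPGroup_commutator_of_odd hq2 hQ hrk B hodd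
  · obtain ⟨g, R₁, hN⟩ := Cfsg.Agent.Lib.Helper2_Narrow.exists_nData_of_isNarrow hQ hQn hrk
    obtain ⟨S, hSn, hS1, hS2, hS3⟩ := hN.exists_stab hq2
    obtain ⟨h1, -, -⟩ := Cfsg.Agent.Lib.Helper2_Narrow.aut_structure_of_stab B.subtype
      (Subgroup.subtype_injective B) S hSn hS1 hS2 hS3
    have hcore : IsPGroup q ↥(Cfsg.pCore q ↥B) := Cfsg.Agent.Lib.Helper1_Cores.pCore_isPGroup (G := ↥B) q
    intro x
    have hx : (x : MulAut Q) ∈ (commutator ↥B).map B.subtype := by
      rw [Subgroup.map_subtype_commutator]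
      exact x.2
    obtain ⟨y, hy, hyx⟩ := hx
    obtain ⟨k, hk⟩ := hcore ⟨y, h1 hy⟩
    refine ⟨k, ?_⟩
    apply Subtype.ext
    rw [Subgroup.coe_pow, ← hyx]
    have h2 := congrArg (fun t : ↥(Cfsg.pCore q ↥B) => ((t : ↥B) : MulAut Q)) hk
    simpa using h2

/-- a `q'`-element of the derived group of `N_G(Q)`, `Q` a narrow `q`-subgroup (`q` odd, `|G|` odd),
centralizes `Q` -/
theorem mem_centralizer_of_mem_commutator_normalizer (hq2 : q ≠ 2) (hodd : Odd (Nat.card G))
    (Q : Subgroup G) (hQ : IsPGroup q Q) (hQn : Cfsg.IsNarrow q ↥Q) (x : G)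
    (hx : x ∈ ⁅normalizer (Q : Set G), normalizer (Q : Set G)⁆) (hxo : (orderOf x).Coprime q) :
    x ∈ centralizer (Q : Set G) := by
  set N : Subgroup G := normalizer (Q : Set G) with hN
  set φ := Cfsg.Agent.Lib.Helper2_Coprime.conjAut Q N le_rfl with hφ
  have hoddB : Odd (Nat.card φ.range) := by
    have h1 : Nat.card φ.range ∣ Nat.card ↥N := Subgroup.card_range_dvd φ
    have h2 : Nat.card ↥N ∣ Nat.card G := Subgroup.card_subgroup_dvd_card N
    exact Odd.of_dvd_nat hodd (h1.trans h2)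
  have key := isPGroup_commutator_aut_narrow hq2 hQ hQn φ.range hoddB
  have hx' : x ∈ (commutator ↥N).map N.subtype := by
    rw [Subgroup.map_subtype_commutator]
    exact hx
  obtain ⟨y, hy, hyx⟩ := hx'
  have hφy : φ y ∈ ⁅φ.range, φ.range⁆ := by
    rw [MonoidHom.range_eq_map, ← Subgroup.map_commutator]
    exact Subgroup.mem_map_of_mem _ hy
  obtain ⟨k, hk⟩ := key ⟨_, hφy⟩
  have h1 : (φ y) ^ q ^ k = 1 := by
    have := congrArg Subtype.val hk
    simpa using this
  have h2 : orderOf (φ y) ∣ q ^ k := orderOf_dvd_of_pow_eq_one h1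
  have h3 : orderOf (φ y) ∣ orderOf x := by
    have h4 : orderOf (φ y) ∣ orderOf y := orderOf_map_dvd φ y
    have h5 : orderOf y = orderOf x := by
      rw [← hyx]; exact (Subgroup.orderOf_coe y).symm
    rwa [h5] at h4
  have h6 : orderOf (φ y) = 1 := by
    have hcop : (orderOf x).Coprime (q ^ k) := Nat.Coprime.pow_right k hxo
    exact Nat.eq_one_of_dvd_coprimes hcop h3 h2
  have h7 : φ y = 1 := orderOf_eq_one_iff.mp h6
  rw [mem_centralizer_iff]
  intro r hr
  have h8 : φ y ⟨r, hr⟩ = ⟨r, hr⟩ := by rw [h7]; rfl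
  have h9 := congrArg Subtype.val h8
  rw [hφ, Cfsg.Agent.Lib.Helper2_Coprime.conjAut_apply_coe] at h9
  have hyx' : (y : G) = x := hyx
  rw [hyx'] at h9
  have h9' : x * r * x⁻¹ = r := h9
  calc r * x = (x * r * x⁻¹) * x := by rw [h9']
    _ = x * r := by group

end NarrowAut

section Main

variable {G : Type u} [Group G] [Finite G]

omit [Finite G] in
theorem le_normalizer_bot (A : Subgroup G) : A ≤ normalizer (((⊥ : Subgroup G) : Subgroup G) : Set G) := by
  intro x _
  rw [mem_normalizer_iff]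
  intro y
  simp [Subgroup.mem_bot]

/-- In a finite nilpotent group every subgroup is subnormal. -/
theorem isSubnormal_of_nilp {X : Type*} [Group X] [Finite X] [Group.IsNilpotent X] (H : Subgroup X) :
    H.IsSubnormal := by
  have hnc : NormalizerCondition X := Group.normalizerCondition_of_isNilpotent
  induction' hn : H.index using Nat.strong_induction_on with n ih generalizing H
  by_cases hH : H = ⊤
  · rw [hH]; exact Subgroup.IsSubnormal.top
  · have hlt : H < Subgroup.normalizer (H : Set X) := hnc H (lt_top_iff_ne_top.mpr hH)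
    have h1 : (Subgroup.normalizer (H : Set X)).index < n := by
      rw [← hn]
      exact Subgroup.index_strictAnti hlt
    have h2 := ih _ h1 (Subgroup.normalizer (H : Set X)) rfl
    exact Subgroup.IsSubnormal.step H (Subgroup.normalizer (H : Set X)) hlt.le h2
      Subgroup.normal_in_normalizer

/-- an elementary abelian `p`-subgroup of order `p²`, maximal among elementary abelian `p`-subgroups,
satisfies the transitivity hypothesis -/
theorem transHyp_of_maxEA (hG : IsMinSimpleOddOrder G) (p : ℕ) [Fact p.Prime] (A : Subgroup G)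
    (hA : IsElementaryAbelian p A) (hAcard : Nat.card A = p ^ 2)
    (hAmax : ∀ B : Subgroup G, IsElementaryAbelian p B → A ≤ B → B = A) :
    TransitivityHypothesis A := by
  have hpP : p.Prime := Fact.out
  have hp : p ∣ Nat.card G := by
    have h1 : Nat.card A ∣ Nat.card G := Subgroup.card_subgroup_dvd_card A
    rw [hAcard] at h1
    exact (dvd_pow_self p (by norm_num)).trans h1
  have hAp : IsPGroup p A := by
    intro a
    refine ⟨1, ?_⟩
    apply Subtype.ext
    rw [pow_one, Subgroup.coe_pow]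
    exact hA.2 a a.2
  have hAc : ∀ a ∈ A, ∀ b ∈ A, a * b = b * a := fun a ha b hb => by
    have := hA.1.is_comm.comm (⟨a, ha⟩ : A) ⟨b, hb⟩
    exact congrArg Subtype.val this
  refine Cfsg.Agent.S1396.result hG p hp A hAp hA.1 (Or.inl ⟨?_, ?_⟩)
  · intro x hx
    constructor
    · intro hxp
      have hBc : ∀ a ∈ zpowers x, ∀ b ∈ zpowers x, a * b = b * a := by
        intro a ha b hb
        obtain ⟨i, rfl⟩ := mem_zpowers_iff.mp ha
        obtain ⟨j, rfl⟩ := mem_zpowers_iff.mp hb
        exact (Commute.zpow_zpow_self x i j).eq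
      have hBe : ∀ a ∈ zpowers x, a ^ p = 1 := by
        intro a ha
        obtain ⟨i, rfl⟩ := mem_zpowers_iff.mp ha
        rw [← zpow_natCast, ← zpow_mul, mul_comm, zpow_mul, zpow_natCast, hxp, one_zpow]
      have hAB : ∀ a ∈ A, ∀ b ∈ zpowers x, a * b = b * a := by
        intro a ha b hb
        obtain ⟨i, rfl⟩ := mem_zpowers_iff.mp hb
        have h1 : Commute x a := (mem_centralizer_iff.mp hx a ha).symm
        exact (h1.zpow_left i).eq.symm
      have hsup := Cfsg.Agent.Lib.Helper49_Alpha2.elemAb_sup hAc hA.2 hBc hBe hAB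
      have hsupea : IsElementaryAbelian p (A ⊔ zpowers x) :=
        Cfsg.Agent.Lib.Helper49_Alpha3.isElementaryAbelian_of hsup.1 hsup.2
      have := hAmax _ hsupea le_sup_left
      have h2 : zpowers x ≤ A := by rw [← this]; exact le_sup_right
      exact h2 (mem_zpowers x)
    · intro hxA
      exact hA.2 x hxA
  · intro H hH
    have hU : Cfsg.Agent.Lib.Helper49_Sigma.UniqHyp G := fun K hK h1 h3 => Cfsg.Agent.S1403.result hG K hK h1 h3
    have h44 : Cfsg.Agent.Lib.Helper70_BG106.H1444 := fun X _ _ _ hodd H R R₀ _ hHall hR hR₀ hR₀p hZ q _ =>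
      Cfsg.Agent.S1444.result hodd H R R₀ hHall hR hR₀ hR₀p hZ q
    exact Cfsg.Agent.Lib.Helper70_BG107e.h1410_of_uniq hG hU h44 p H hH

omit [Finite G] in
/-- conjugation of a Sylow subgroup, as a Sylow subgroup -/
theorem exists_sylow_cj {p : ℕ} [Fact p.Prime] (S : Sylow p G) (k : G) :
    ∃ S' : Sylow p G, (S' : Subgroup G) = cj k (S : Subgroup G) := by
  refine ⟨k • S, ?_⟩
  ext x
  rw [mem_cj]
  show x ∈ ((k • S : Sylow p G) : Subgroup G) ↔ _
  rw [Sylow.coe_subgroup_smul, Subgroup.mem_pointwise_smul_iff_inv_smul_mem]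
  simp [MulAut.smul_def, mul_assoc]

/-- **BG `max_normed_2Elem_signaliser` (c).** `A` elementary abelian of order `p²`, maximal among the
elementary abelian `p`-subgroups of `G`; `Q` a maximal `A`-invariant `q`-subgroup, `q ≠ p` dividing
`|C_G(A)|`, `Q` narrow. Then some Sylow `p`-subgroup of `G` containing `A` centralizes `Q`. -/
theorem key_signalizer (hG : IsMinSimpleOddOrder G) (p q : ℕ) [Fact p.Prime] [Fact q.Prime] (hpq : p ≠ q)
    (A : Subgroup G) (hA : IsElementaryAbelian p A) (hAcard : Nat.card A = p ^ 2)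
    (hAmax : ∀ B : Subgroup G, IsElementaryAbelian p B → A ≤ B → B = A)
    (hqC : q ∣ Nat.card (centralizer (A : Set G)))
    (Q : Subgroup G) (hQ : Q ∈ maxInvSubgroups ⊤ A {q}) (hQn : Cfsg.IsNarrow q ↥Q) :
    ∃ S : Sylow p G, A ≤ (S : Subgroup G) ∧ (S : Subgroup G) ≤ centralizer (Q : Set G) := by
  have hpP : p.Prime := Fact.out
  have hqP : q.Prime := Fact.out
  have hodd : Odd (Nat.card G) := hG.1
  have hT := transHyp_of_maxEA hG p A hA hAcard hAmax
  have hAp : IsPGroup p A := by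
    intro a
    refine ⟨1, ?_⟩
    apply Subtype.ext
    rw [pow_one, Subgroup.coe_pow]
    exact hA.2 a a.2
  have hqA : ¬ q ∣ Nat.card A := by
    rw [hAcard]
    intro h
    exact hpq ((Nat.prime_dvd_prime_iff_eq hqP hpP).mp (hqP.dvd_of_dvd_pow h)).symm
  have hAc : ∀ a ∈ A, ∀ b ∈ A, a * b = b * a := fun a ha b hb => by
    have := hA.1.is_comm.comm (⟨a, ha⟩ : A) ⟨b, hb⟩
    exact congrArg Subtype.val this
  have hAle : A ≤ centralizer (A : Set G) := by
    intro a ha
    rw [mem_centralizer_iff]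
    intro b hb
    exact hAc b hb a ha
  have hZ : ¬ Cfsg.RankLE 1 ↥(A ⊓ centralizer (A : Set G)) := by
    intro h
    have h1 := h p hpP ⊤ ⟨⟨fun a b => by
      apply Subtype.ext; apply Subtype.ext
      exact hAc a.1.1 a.1.2.1 b.1.1 b.1.2.1⟩⟩ (fun a _ => by
      apply Subtype.ext
      rw [Subgroup.coe_pow]
      exact hA.2 a.1 a.2.1)
    rw [Subgroup.card_top, inf_eq_left.mpr hAle, hAcard, pow_one] at h1
    have : p < p ^ 2 := by
      have := hpP.one_lt
      nlinarith
    omega
  have htr := Cfsg.Agent.S1394.result hG A hT hZ q hqP hqA hqC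
  obtain ⟨S0, hAS0⟩ := hAp.exists_le_sylow
  have hS0ne : (S0 : Subgroup G) ≠ ⊤ := ne_top_of_isPGroup hG hpP S0.isPGroup'
  have hS0π : ∀ r : ℕ, r.Prime → r ∣ Nat.card (S0 : Subgroup G) → r ∣ Nat.card A := by
    intro r hr hrd
    obtain ⟨n, hn⟩ := S0.isPGroup'.exists_card_eq
    rw [hn] at hrd
    have : r = p := (Nat.prime_dvd_prime_iff_eq hr hpP).mp (hr.dvd_of_dvd_pow hrd)
    rw [this, hAcard]
    exact dvd_pow_self p (by norm_num)
  have hsn : (A.subgroupOf (S0 : Subgroup G)).IsSubnormal := by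
    have : Group.IsNilpotent ↥(S0 : Subgroup G) := S0.isPGroup'.isNilpotent
    exact isSubnormal_of_nilp _
  obtain ⟨-, -, h95c, h95d⟩ := Cfsg.Agent.S1395.result hG A hT q hqP hqA (S0 : Subgroup G) hS0ne hS0π hAS0 hsn htr
  obtain ⟨Q1, hQ1, -⟩ := exists_max_ge (A := (S0 : Subgroup G)) hqP (R := ⊥) (IsPGroup.of_bot)
    (le_normalizer_bot _)
  have hQ1A : Q1 ∈ maxInvSubgroups ⊤ A {q} := h95c hQ1
  obtain ⟨k, hk, hQk⟩ := htr Q1 hQ1A Q hQ
  have hkc : k ∈ centralizer (A : Set G) := kOf_le_centralizer A hk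
  have h1 : (S0 : Subgroup G) ≤ ⁅normalizer (Q1 : Set G), normalizer (Q1 : Set G)⁆ := by
    have hU : Cfsg.Agent.Lib.Helper49_Sigma.UniqHyp G := fun K hK h1 h3 => Cfsg.Agent.S1403.result hG K hK h1 h3
    have h44 : Cfsg.Agent.Lib.Helper70_BG106.H1444 := fun X _ _ _ hodd H R R₀ _ hHall hR hR₀ hR₀p hZ q _ =>
      Cfsg.Agent.S1444.result hodd H R R₀ hHall hR hR₀ hR₀p hZ q
    have h04 := Cfsg.Agent.Lib.Helper70_BG107e.h1404_of_uniq hG hU
    have h10 := Cfsg.Agent.Lib.Helper70_BG107e.h1410_of_uniq hG hU h44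
    have h2 := Cfsg.Agent.Lib.Helper70_BG107.sylow_le_derived_normalizer hG h04 h10 S0
    exact (le_inf le_rfl h2).trans (h95d Q1 hQ1).1
  obtain ⟨S, hS⟩ := exists_sylow_cj S0 k
  refine ⟨S, ?_, ?_⟩
  · rw [hS]
    have h3 : cj k A = A := cj_eq_of_mem_normalizer (centralizer_le_normalizer _ hkc)
    rw [← h3]
    exact cj_mono hAS0
  · have h4 : (S : Subgroup G) ≤ ⁅normalizer (Q : Set G), normalizer (Q : Set G)⁆ := by
      rw [hS, hQk]
      have h5 : normalizer ((Q1.map (MulAut.conj k).toMonoidHom : Subgroup G) : Set G) = cj k (normalizer (Q1 : Set G)) :=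
        normalizer_cj k Q1
      rw [h5]
      show _ ≤ ⁅(normalizer (Q1 : Set G)).map (MulAut.conj k).toMonoidHom, (normalizer (Q1 : Set G)).map (MulAut.conj k).toMonoidHom⁆
      rw [← Subgroup.map_commutator]
      exact cj_mono h1
    have hQq : IsPGroup q Q := ((mem_invSubgroups_top hqP).mp hQ.1).1
    have hq2 : q ≠ 2 := by
      rintro rfl
      have h6 : 2 ∣ Nat.card G := hqC.trans (Subgroup.card_subgroup_dvd_card _)
      exact (Nat.not_even_iff_odd.mpr hodd) (even_iff_two_dvd.mpr h6)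
    intro x hx
    refine mem_centralizer_of_mem_commutator_normalizer hq2 hodd Q hQq hQn x (h4 hx) ?_
    obtain ⟨j, hj⟩ := (IsPGroup.iff_orderOf.mp S.isPGroup') ⟨x, hx⟩
    rw [Subgroup.orderOf_mk] at hj
    rw [hj]
    exact Nat.Coprime.pow_left j ((Nat.coprime_primes hpP hqP).mpr hpq)

/-- a `q`-subgroup (`q` odd) containing an elementary abelian subgroup `B` of order `q²` that is maximal
among the elementary abelian `q`-subgroups of `G` is narrow -/
theorem isNarrow_of_maxEA_le {q : ℕ} [Fact q.Prime] (hq2 : q ≠ 2) (Q : Subgroup G) (hQ : IsPGroup q Q)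
    (B : Subgroup G) (hBQ : B ≤ Q) (hB : IsElementaryAbelian q B) (hBcard : Nat.card B = q ^ 2)
    (hBmax : ∀ D : Subgroup G, IsElementaryAbelian q D → B ≤ D → D = B) : Cfsg.IsNarrow q ↥Q := by
  have hqP : q.Prime := Fact.out
  by_cases hrkQ : PRankLE q 2 ↥Q
  · exact Or.inl hrkQ
  set E : Subgroup ↥Q := B.subgroupOf Q with hE
  have hEea : IsElementaryAbelian q E := Cfsg.Agent.Lib.Helper10_Thompson.ea_subgroupOf hB _
  have hc : PRankLE q 2 ↥(centralizer (E : Set ↥Q)) := by
    intro D hDc hDe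
    set D' : Subgroup G := (D.map (centralizer (E : Set ↥Q)).subtype).map Q.subtype with hD'
    have hD'c : ∀ a ∈ D', ∀ b ∈ D', a * b = b * a := by
      rintro _ ⟨_, ⟨a, ha, rfl⟩, rfl⟩ _ ⟨_, ⟨b, hb, rfl⟩, rfl⟩
      have := hDc.is_comm.comm (⟨a, ha⟩ : D) ⟨b, hb⟩
      have h1 : a * b = b * a := congrArg Subtype.val this
      have h2 := congrArg (fun t : ↥(centralizer (E : Set ↥Q)) => ((t : ↥Q) : G)) h1
      simpa using h2
    have hD'e : ∀ a ∈ D', a ^ q = 1 := by
      rintro _ ⟨_, ⟨a, ha, rfl⟩, rfl⟩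
      have h1 := hDe a ha
      have h2 := congrArg (fun t : ↥(centralizer (E : Set ↥Q)) => ((t : ↥Q) : G)) h1
      simpa using h2
    have hBD' : ∀ a ∈ B, ∀ b ∈ D', a * b = b * a := by
      rintro a ha _ ⟨_, ⟨b, hb, rfl⟩, rfl⟩
      have h1 := (mem_centralizer_iff.mp b.2) ⟨a, hBQ ha⟩ (by
        show (⟨a, hBQ ha⟩ : ↥Q) ∈ B.subgroupOf Q
        rw [Subgroup.mem_subgroupOf]; exact ha)
      have h2 := congrArg (fun t : ↥Q => (t : G)) h1
      simpa using h2
    have hBc : ∀ a ∈ B, ∀ b ∈ B, a * b = b * a := fun a ha b hb =>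
      Cfsg.Agent.Lib.Helper10_Thompson.ea_comm hB ha hb
    have hsup := Cfsg.Agent.Lib.Helper49_Alpha2.elemAb_sup hBc hB.2 hD'c hD'e hBD'
    have hsupea : IsElementaryAbelian q (B ⊔ D') :=
      Cfsg.Agent.Lib.Helper49_Alpha3.isElementaryAbelian_of hsup.1 hsup.2
    have heq := hBmax (B ⊔ D') hsupea le_sup_left
    have hle : D' ≤ B := by rw [← heq]; exact le_sup_right
    have hcardD : Nat.card D = Nat.card D' := by
      rw [hD', Subgroup.card_map_of_injective (Subgroup.subtype_injective _),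
        Subgroup.card_map_of_injective (Subgroup.subtype_injective _)]
    rw [hcardD, ← hBcard]
    exact Subgroup.card_le_of_le hle
  obtain ⟨g, R₁, hN⟩ := Cfsg.Agent.Lib.Helper24_NarrowFitting.exists_nData hq2 hQ E hEea hc hrkQ
  exact Cfsg.Agent.Lib.Helper70_BG108.isNarrow_of_nData hN

/-- **Key lemma, invariant form.** With `A` as in `key_signalizer` and `q ≠ p` dividing `|C_G(A)|`:
an `A`-invariant `q`-subgroup `T` that contains an elementary abelian subgroup `B` of order `q²`,
maximal among the elementary abelian `q`-subgroups of `G`, is centralized by `A`. -/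
theorem centralizes_of_invariant (hG : IsMinSimpleOddOrder G) (p q : ℕ) [Fact p.Prime] [Fact q.Prime]
    (hpq : p ≠ q) (A : Subgroup G) (hA : IsElementaryAbelian p A) (hAcard : Nat.card A = p ^ 2)
    (hAmax : ∀ B : Subgroup G, IsElementaryAbelian p B → A ≤ B → B = A)
    (hqC : q ∣ Nat.card (centralizer (A : Set G)))
    (T : Subgroup G) (hT : IsPGroup q T) (hAT : A ≤ normalizer (T : Set G))
    (B : Subgroup G) (hBT : B ≤ T) (hB : IsElementaryAbelian q B) (hBcard : Nat.card B = q ^ 2)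
    (hBmax : ∀ D : Subgroup G, IsElementaryAbelian q D → B ≤ D → D = B) :
    A ≤ centralizer (T : Set G) := by
  have hqP : q.Prime := Fact.out
  have hodd : Odd (Nat.card G) := hG.1
  have hq2 : q ≠ 2 := by
    rintro rfl
    have h6 : 2 ∣ Nat.card G := hqC.trans (Subgroup.card_subgroup_dvd_card _)
    exact (Nat.not_even_iff_odd.mpr hodd) (even_iff_two_dvd.mpr h6)
  obtain ⟨Q, hQ, hTQ⟩ := exists_max_ge (A := A) hqP hT hAT
  have hQq : IsPGroup q Q := ((mem_invSubgroups_top hqP).mp hQ.1).1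
  have hQn : Cfsg.IsNarrow q ↥Q := isNarrow_of_maxEA_le hq2 Q hQq B (hBT.trans hTQ) hB hBcard hBmax
  obtain ⟨S, hAS, hSQ⟩ := key_signalizer hG p q hpq A hA hAcard hAmax hqC Q hQ hQn
  exact (hAS.trans hSQ).trans (centralizer_le hTQ)

/-- `centralizes_of_invariant` in the shape used for BG 11.7 (hypothesis `hKEY` of helper62): every
`A`-invariant `q`-subgroup `T` containing a maximal elementary abelian subgroup of order `q²` lies in
`C_G(A)`. -/
theorem key_weak (hG : IsMinSimpleOddOrder G) (p : ℕ) [Fact p.Prime]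
    (A : Subgroup G) (hA : IsElementaryAbelian p A) (hAcard : Nat.card A = p ^ 2)
    (hAmax : ∀ B : Subgroup G, IsElementaryAbelian p B → A ≤ B → B = A) :
    ∀ (q : ℕ) [Fact q.Prime], q ≠ p → q ∣ Nat.card (centralizer (A : Set G)) →
      ∀ T : Subgroup G, IsPGroup q T → A ≤ normalizer (T : Set G) →
        (∃ B ≤ T, IsElementaryAbelian q B ∧ Nat.card B = q ^ 2 ∧
          ∀ B', IsElementaryAbelian q B' → B ≤ B' → B' = B) →
        T ≤ centralizer (A : Set G) := by
  intro q _ hqp hqC T hT hAT ⟨B, hBT, hB, hBcard, hBmax⟩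
  have h := centralizes_of_invariant hG p q (Ne.symm hqp) A hA hAcard hAmax hqC T hT hAT B hBT hB hBcard hBmax
  intro t ht
  rw [mem_centralizer_iff]
  intro a ha
  exact ((mem_centralizer_iff.mp (h ha)) t ht).symm

end Main

end Cfsg.Agent.Lib.Helper70_KeySig
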