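import Cfsg.Agent.Lib.Helper70_BG107

/-!
# `p`-length one: the factorisation `M = N_M(P) O_{p'}(M)` (helper73)

A variant of `Helper70_BG107.exists_decomp` exhibiting the normal `p'`-subgroup.
-/

set_option autoImplicit false
open Cfsg

namespace Cfsg.Agent.Lib.Helper73_PLen

open Cfsg.Agent.Lib.Helper70_BG107

variable {M : Type*} [Group M] [Finite M] {p : ℕ} [Fact p.Prime]

/-- In a group of `p`-length one there is a normal `p'`-subgroup `K` with `M = N_M(P) K` for every Sylow
`p`-subgroup `P`. -/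
theorem exists_decomp' (h : PLengthLE p 1 M) :
    ∃ K : Subgroup M, K.Normal ∧ (Nat.card K).Coprime p ∧ ∀ (P : Sylow p M) (m : M),
      ∃ n ∈ Subgroup.normalizer ((P : Subgroup M) : Set M), ∃ k ∈ K, m = n * k := by
  obtain ⟨K, L, hKn, hLn, hKL, hKp, ⟨a, hKLa⟩, hLp⟩ := plen_one_data h
  have hp : p.Prime := Fact.out
  refine ⟨K, hKn, hKp, ?_⟩
  intro P m
  -- K ∩ P = 1
  have hKP : K ⊓ (P : Subgroup M) = ⊥ := by
    apply (Subgroup.disjoint_of_coprime_natCard ?_).eq_bot
    obtain ⟨b, hb⟩ := IsPGroup.iff_card.mp P.isPGroup'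
    rw [hb]
    exact Nat.Coprime.pow_right b hKp
  -- P ≤ L
  have hPL : (P : Subgroup M) ≤ L := by
    intro x hx
    have h1 : orderOf (QuotientGroup.mk' L x) ∣ Nat.card (M ⧸ L) := orderOf_dvd_natCard _
    have h2 : orderOf (QuotientGroup.mk' L x) ∣ orderOf x := orderOf_map_dvd _ x
    obtain ⟨j, hj⟩ := (IsPGroup.iff_orderOf.mp P.isPGroup') ⟨x, hx⟩
    have h3 : orderOf x = p ^ j := by
      rw [← hj]; exact (Subgroup.orderOf_mk x hx).symm
    rw [h3] at h2
    have h4 : (orderOf (QuotientGroup.mk' L x)).Coprime (orderOf (QuotientGroup.mk' L x)) := by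
      apply Nat.Coprime.coprime_dvd_left h1
      apply Nat.Coprime.coprime_dvd_right h2
      have : Nat.card (M ⧸ L) = L.index := rfl
      rw [this]
      exact Nat.Coprime.pow_right j hLp
    rw [Nat.coprime_self] at h4
    rw [orderOf_eq_one_iff] at h4
    rwa [QuotientGroup.mk'_apply, QuotientGroup.eq_one_iff] at h4
  -- L = K ⊔ P
  have hcardP : Nat.card (P : Subgroup M) = p ^ a := by
    rw [Sylow.card_eq_multiplicity]
    congr 1
    have e1 : Nat.card M = Nat.card K * (p ^ a * L.index) := by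
      rw [← hKLa, Subgroup.relIndex_mul_index hKL, Subgroup.card_mul_index]
    have hK0 : Nat.card K ≠ 0 := Nat.card_pos.ne'
    have hL0 : L.index ≠ 0 := Subgroup.index_ne_zero_of_finite
    have hpa0 : p ^ a ≠ 0 := pow_ne_zero _ hp.ne_zero
    rw [e1, Nat.factorization_mul hK0 (mul_ne_zero hpa0 hL0), Nat.factorization_mul hpa0 hL0,
      hp.factorization_pow]
    have f1 : (Nat.card K).factorization p = 0 :=
      Nat.factorization_eq_zero_of_not_dvd (fun hd => hp.one_lt.ne' (Nat.Coprime.eq_one_of_dvd hKp.symm hd))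
    have f2 : L.index.factorization p = 0 :=
      Nat.factorization_eq_zero_of_not_dvd (fun hd => hp.one_lt.ne' (Nat.Coprime.eq_one_of_dvd hLp.symm hd))
    simp [f1, f2]
  have hKPL : K ⊔ (P : Subgroup M) ≤ L := sup_le hKL hPL
  have hLle : L ≤ K ⊔ (P : Subgroup M) := by
    rw [← Subgroup.relIndex_eq_one]
    have r1 : K.relIndex (K ⊔ (P : Subgroup M)) = p ^ a := by
      rw [Subgroup.relIndex_sup_left, ← Subgroup.inf_relIndex_right, hKP, Subgroup.relIndex_bot_left,
        hcardP]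
    have r2 := Subgroup.relIndex_mul_relIndex K (K ⊔ (P : Subgroup M)) L le_sup_left hKPL
    rw [r1, hKLa] at r2
    have hpa0 : 0 < p ^ a := pow_pos hp.pos _
    exact Nat.eq_of_mul_eq_mul_left hpa0 (by rw [r2, mul_one])
  -- Frattini
  have hfr := Sylow.normalizer_sup_eq_top (P.subtype hPL)
  have hmap : ((P.subtype hPL : Sylow p L) : Subgroup L).map L.subtype = (P : Subgroup M) := by
    rw [Sylow.coe_subtype, Subgroup.subgroupOf_map_subtype, inf_eq_left.mpr hPL]
  rw [hmap] at hfr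
  have hm : m ∈ (Subgroup.normalizer ((P : Subgroup M) : Set M) ⊔ L : Subgroup M) := by
    rw [hfr]; trivial
  rw [← SetLike.mem_coe, Subgroup.mul_normal] at hm
  obtain ⟨n, hn, l, hl, rfl⟩ := hm
  have hl' : l ∈ (K ⊔ (P : Subgroup M) : Subgroup M) := hLle hl
  rw [← SetLike.mem_coe, Subgroup.normal_mul] at hl'
  obtain ⟨k', hk', u, hu, rfl⟩ := hl'
  have huN : u ∈ Subgroup.normalizer ((P : Subgroup M) : Set M) := Subgroup.le_normalizer hu
  refine ⟨n * u, Subgroup.mul_mem _ hn huN, u⁻¹ * k' * u, ?_, by group⟩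
  have := hKn.conj_mem k' hk' u⁻¹
  rwa [inv_inv] at this

end Cfsg.Agent.Lib.Helper73_PLen
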