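import Mathlib
import Cfsg.Prelude.Def_OddOrderLocal
import Cfsg.Agent.Lib.Helper35_BG11a
import Cfsg.Agent.Lib.Helper52_BG12a
import Cfsg.Agent.Lib.Helper52_BG12b
import Cfsg.Agent.Lib.Helper70_KeySig
import Cfsg.Agent.Lib.Helper73_PLen
import Cfsg.Agent.S1414
import Cfsg.Agent.Lib.Helper47_TW
import Cfsg.Agent.Lib.Helper31_BenderUniq
import Cfsg.Agent.Lib.Helper49_FitUniq2
import Cfsg.Agent.Lib.Helper2_Coprime
import Cfsg.Agent.Lib.Helper20_PGroupOdd
import Cfsg.Agent.Lib.Helper62_BG117a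
import Cfsg.Agent.Lib.Helper62_EStarCent

set_option autoImplicit false
set_option linter.unusedSectionVars false
open Cfsg

/-!
# Bender–Glauberman, Lemma 11.7 (helper62)

`M_σ A ⊴ M` for an exceptional maximal subgroup `M` (`Helper35_BG11a.Exc M p A A₀`), given 11.5
(Sylow `p`-subgroups of `M` abelian) and 11.6(a) (`A = Ω₁(P)`).
-/

namespace Cfsg.Agent.Lib.Helper62_BG117

open Subgroup Cfsg.Agent.Lib.Helper22_Radical Cfsg.Agent.Lib.Helper22_BGTrans
  Cfsg.Agent.Lib.Helper22_Uniq Cfsg.Agent.Lib.Helper84_RelSylow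
  Cfsg.Agent.Lib.Helper49_Sigma Cfsg.Agent.Lib.Helper49_Alpha Cfsg.Agent.Lib.Helper49_Alpha2
  Cfsg.Agent.Lib.Helper49_Alpha3
  Cfsg.Agent.Lib.Helper70_BG106 Cfsg.Agent.Lib.Helper70_BG1212 Cfsg.Agent.Lib.Helper70_BG1012
  Cfsg.Agent.Lib.Helper24_CoprimeHall Cfsg.Agent.Lib.Helper35_BG11a

open scoped commutatorElement

universe u

variable {G : Type u} [Group G] [Finite G]

/-! ### Generic lemmas -/

theorem isSylowIn_of_piHall {q : ℕ} (hq : q.Prime) {T K : Subgroup G} (h : PiHall {q} T K) :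
    IsSylowIn q T K :=
  ⟨h.1, isPGroup_of_primes hq h.2.1, by rw [relIndex_eq_div h.1]; exact h.2.2 q hq rfl⟩

omit [Finite G] in
/-- a subgroup of `K` containing a Sylow `q`-subgroup of `K` for every prime `q` is `K` -/
theorem le_of_forall_sylow_le {H K : Subgroup G}
    (h : ∀ q : ℕ, q.Prime → ∃ T : Subgroup G, T ≤ H ∧ T ≤ K ∧ ¬ q ∣ T.relIndex K) : K ≤ H := by
  by_contra hne
  have h1 : (H ⊓ K).relIndex K ≠ 1 := by
    intro h1
    rw [Subgroup.relIndex_eq_one] at h1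
    exact hne (h1.trans inf_le_left)
  obtain ⟨q, hq, hqd⟩ := Nat.exists_prime_and_dvd h1
  obtain ⟨T, hTH, hTK, hT⟩ := h q hq
  apply hT
  rw [← Subgroup.relIndex_mul_relIndex T (H ⊓ K) K (le_inf hTH hTK) inf_le_right]
  exact Dvd.dvd.mul_left hqd _

omit [Finite G] in
/-- a normal `q`-subgroup lies in every Sylow `q`-subgroup -/
theorem le_of_isSylowIn_of_le_normalizer {q : ℕ} [Fact q.Prime] {T K N : Subgroup G}
    (hT : IsSylowIn q T K) (hNK : N ≤ K) (hN : IsPGroup q N) (hKN : K ≤ normalizer (N : Set G)) :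
    N ≤ T := by
  have h1 : IsPGroup q ↥(N ⊔ T : Subgroup G) :=
    IsPGroup.to_sup_of_normal_left' hN hT.isPGroup (hT.le.trans hKN)
  have h2 : N ⊔ T = T := hT.eq_of_le le_sup_right (sup_le hNK hT.le) h1
  rw [← h2]
  exact le_sup_left

omit [Finite G] in
/-- `[W, closure s] ≤ C` when every `a ∈ s` normalizes `C` and has `[w, a] ∈ C` for all `w ∈ W` -/
theorem commutator_closure_le {W C : Subgroup G} {s : Set G}
    (hs : ∀ a ∈ s, a ∈ normalizer (C : Set G) ∧ ∀ w ∈ W, ⁅w, a⁆ ∈ C) : ⁅W, closure s⁆ ≤ C := by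
  let S : Subgroup G :=
    { carrier := {a | a ∈ normalizer (C : Set G) ∧ ∀ w ∈ W, ⁅w, a⁆ ∈ C}
      one_mem' := ⟨one_mem _, fun w _ => by rw [commutatorElement_one_right]; exact C.one_mem⟩
      mul_mem' := by
        rintro a b ⟨ha, ha'⟩ ⟨hb, hb'⟩
        refine ⟨mul_mem ha hb, fun w hw => ?_⟩
        have : ⁅w, a * b⁆ = ⁅w, a⁆ * (a * ⁅w, b⁆ * a⁻¹) := by
          simp only [commutatorElement_def]; group
        rw [this]
        exact C.mul_mem (ha' w hw) ((mem_normalizer_iff.mp ha _).mp (hb' w hw))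
      inv_mem' := by
        rintro a ⟨ha, ha'⟩
        refine ⟨inv_mem ha, fun w hw => ?_⟩
        have : ⁅w, a⁻¹⁆ = a⁻¹ * (⁅w, a⁆)⁻¹ * a⁻¹⁻¹ := by
          simp only [commutatorElement_def]; group
        rw [this]
        exact (mem_normalizer_iff.mp (inv_mem ha) _).mp (C.inv_mem (ha' w hw)) }
  have hsS : closure s ≤ S := (closure_le S).mpr fun a ha => hs a ha
  rw [Subgroup.commutator_le]
  intro w hw a ha
  exact (hsS ha).2 w hw

omit [Finite G] in
/-- `[W, X₁ ⊔ X₂] ≤ C` when `[W, Xᵢ] ≤ C` and `X₁ ⊔ X₂` normalizes `C` -/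
theorem commutator_sup_le {W X₁ X₂ C : Subgroup G} (h1 : ⁅W, X₁⁆ ≤ C) (h2 : ⁅W, X₂⁆ ≤ C)
    (hN : X₁ ⊔ X₂ ≤ normalizer (C : Set G)) : ⁅W, X₁ ⊔ X₂⁆ ≤ C := by
  have hcl : X₁ ⊔ X₂ = closure ((X₁ : Set G) ∪ X₂) := by
    rw [Subgroup.closure_union, closure_eq, closure_eq]
  rw [hcl]
  apply commutator_closure_le
  rintro a (ha | ha)
  · exact ⟨hN (mem_sup_left ha), fun w hw => h1 (commutator_mem_commutator hw ha)⟩
  · exact ⟨hN (mem_sup_right ha), fun w hw => h2 (commutator_mem_commutator hw ha)⟩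

/-- the order of a nontrivial `q`-group is divisible by `q` -/
theorem dvd_card_self_of_ne_bot {q : ℕ} [Fact q.Prime] {H : Subgroup G} (hH : IsPGroup q H) (hH1 : H ≠ ⊥) :
    q ∣ Nat.card ↥H := by
  obtain ⟨k, hk⟩ := IsPGroup.iff_card.mp hH
  have hk0 : k ≠ 0 := by
    rintro rfl
    rw [pow_zero] at hk
    exact hH1 ((Subgroup.card_eq_one).mp hk)
  rw [hk]
  exact dvd_pow_self q hk0

/-- a nontrivial `q`-group has a subgroup of order `q` -/
theorem exists_le_card_eq_prime {q : ℕ} [hq : Fact q.Prime] {H : Subgroup G} (hH : IsPGroup q H)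
    (hH1 : H ≠ ⊥) : ∃ U : Subgroup G, U ≤ H ∧ Nat.card U = q := by
  have hd : q ∣ Nat.card ↥H := dvd_card_self_of_ne_bot hH hH1
  obtain ⟨x, hx⟩ := exists_prime_orderOf_dvd_card' q hd
  refine ⟨zpowers (x : G), ?_, ?_⟩
  · rw [zpowers_le]; exact x.2
  · rw [Nat.card_zpowers, Subgroup.orderOf_coe, hx]

/-- a coprime operator group fixing a nontrivial element of a cyclic `q`-group centralizes it -/
theorem le_centralizer_of_isCyclic {p q : ℕ} [Fact p.Prime] [Fact q.Prime] {A T : Subgroup G}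
    (hTc : IsCyclic ↥T) (hTq : IsPGroup q T) (hA : IsPGroup p A) (hpq : p ≠ q)
    (hAT : A ≤ normalizer (T : Set G)) (hfix : T ⊓ centralizer (A : Set G) ≠ ⊥) :
    T ≤ centralizer (A : Set G) := by
  have hTcomm : IsMulCommutative ↥T := IsCyclic.isMulCommutative
  have hcop : (Nat.card ↥A).Coprime (Nat.card ↥T) := by
    obtain ⟨a, ha⟩ := IsPGroup.iff_card.mp hA
    obtain ⟨b, hb⟩ := IsPGroup.iff_card.mp hTq
    rw [ha, hb]
    exact Nat.Coprime.pow a b ((Nat.coprime_primes Fact.out Fact.out).mpr hpq)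
  have h1 := Cfsg.Agent.Lib.Helper2_Coprime.commutator_inf_centralizer_eq_bot T A hAT hcop
  by_cases hc : ⁅T, A⁆ = ⊥
  · exact (Subgroup.commutator_eq_bot_iff_le_centralizer).mp hc
  · exfalso
    have hle : ⁅T, A⁆ ≤ T := Cfsg.Agent.Lib.Helper49_FStarComm.commutator_le_left_of_le_normalizer hAT
    obtain ⟨U₁, hU₁, hc1⟩ := exists_le_card_eq_prime (hTq.to_le hle) hc
    obtain ⟨U₂, hU₂, hc2⟩ := exists_le_card_eq_prime (hTq.to_le inf_le_left) hfix
    have hU : U₁ = U₂ := Cfsg.Agent.Lib.Helper52_BG12a.eq_of_card_eq_of_isCyclic (P := T)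
      (hU₁.trans hle) (hU₂.trans inf_le_left) (hc1.trans hc2.symm)
    have h2 : U₁ ≤ ⁅T, A⁆ ⊓ (T ⊓ centralizer (A : Set G)) := le_inf hU₁ (hU ▸ hU₂)
    rw [h1, le_bot_iff] at h2
    rw [h2, Subgroup.card_bot] at hc1
    exact (Fact.out : q.Prime).one_lt.ne hc1

/-- **the `F(E)`-argument**: a `p`-group `A` acting on a solvable `p'`-group `E` and centralizing every
`A`-invariant normal subgroup of prime power order of `E` centralizes `E` -/
theorem le_centralizer_of_forall_normal_pgroup {p : ℕ} [Fact p.Prime] {A E : Subgroup G}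
    (hAp : IsPGroup p A) (hEp : ¬ p ∣ Nat.card E) (hAE : A ≤ normalizer (E : Set G))
    (hsolv : Group.IsSolvable ↥E)
    (h : ∀ (q : ℕ) [Fact q.Prime] (Q : Subgroup G), Q ≤ E → IsPGroup q Q →
      E ≤ normalizer (Q : Set G) → A ≤ normalizer (Q : Set G) → Q ≤ centralizer (A : Set G)) :
    E ≤ centralizer (A : Set G) := by
  set F : Subgroup G := fittingOf E with hF
  have hFE : F ≤ E := Cfsg.Agent.Lib.Helper22_FitLocal.fittingOf_le E
  have hEF : E ≤ normalizer (F : Set G) := Cfsg.Agent.Lib.Helper22_FitLocal.le_normalizer_fittingOf E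
  have hFA : F ≤ centralizer (A : Set G) := by
    have h1 : F ≤ F ⊓ centralizer (A : Set G) := by
      apply le_of_forall_sylow_le
      intro q hq
      have : Fact q.Prime := ⟨hq⟩
      have R : Sylow q ↥(fittingSubgroup ↥E) := default
      have hTO := Cfsg.Agent.Lib.Helper31_BenderUniq.sylow_fitting_le_pCoreOf E q R
      have hOC : pCoreOf q E ≤ centralizer (A : Set G) :=
        h q (pCoreOf q E) (Cfsg.Agent.Lib.Helper47_SubAPI.pCoreOf_le E)
          (Cfsg.Agent.Lib.Helper47_SubAPI.isPGroup_pCoreOf E)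
          (Cfsg.Agent.Lib.Helper47_SubAPI.le_normalizer_pCoreOf E)
          (hAE.trans (Cfsg.Agent.Lib.Helper47_TW.normalizer_le_normalizer_pCoreOf' q E))
      have hS := (isSylowIn_of_sylow R).map_of_injective E.subtype E.subtype_injective
      refine ⟨_, le_inf hS.le (hTO.trans hOC), hS.le, hS.not_dvd⟩
    exact h1.trans inf_le_right
  have hFAb : ⁅F, A⁆ = ⊥ := (Subgroup.commutator_eq_bot_iff_le_centralizer).mpr hFA
  have hW : ⁅E, A⁆ ≤ E := Cfsg.Agent.Lib.Helper49_FStarComm.commutator_le_left_of_le_normalizer hAE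
  have h3 : ⁅⁅E, A⁆, F⁆ = ⊥ := by
    apply Subgroup.commutator_commutator_eq_bot_of_rotate
    · rw [Subgroup.commutator_comm A F, hFAb]
      exact Subgroup.commutator_bot_left E
    · rw [eq_bot_iff]
      have h4 : ⁅F, E⁆ ≤ F := Cfsg.Agent.Lib.Helper49_FStarComm.commutator_le_left_of_le_normalizer hEF
      calc ⁅⁅F, E⁆, A⁆ ≤ ⁅F, A⁆ := Subgroup.commutator_mono h4 le_rfl
        _ = ⊥ := hFAb
  have hWF : ⁅E, A⁆ ≤ centralizer (F : Set G) :=
    (Subgroup.commutator_eq_bot_iff_le_centralizer).mp h3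
  have hWF' : ⁅E, A⁆ ≤ F := fun x hx =>
    Cfsg.Agent.Lib.Helper49_FitUniq.inf_centralizer_fittingOf_le E hsolv
      (Subgroup.mem_inf.mpr ⟨hW hx, hWF hx⟩)
  apply Cfsg.Agent.Lib.Helper52_BG12a.le_centralizer_of_commutator_commutator hAp hEp hAE
  rw [eq_bot_iff]
  calc ⁅⁅E, A⁆, A⁆ ≤ ⁅F, A⁆ := Subgroup.commutator_mono hWF' le_rfl
    _ = ⊥ := hFAb

/-! ### Facts on `M_σ` -/

/-- `M_σ ≠ 1` -/
theorem sigmaCore_ne_bot (hG : IsMinSimpleOddOrder G) (hU : UniqHyp G) (h44 : H1444.{u})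
    {M : Subgroup G} (hM : IsCoatom M) : sigmaCore M ≠ ⊥ := by
  obtain ⟨q, hq⟩ := Cfsg.Agent.Lib.Helper52_BG12a.exists_mem_sigma hG hU hM
  have : Fact q.Prime := ⟨hq.1⟩
  obtain ⟨P, hS⟩ := exists_sylM_of_mem_sigma hq
  have hPσ : P ≤ sigmaCore M := sylM_le_sigmaCore hG hU h44 hM hq hS
  intro hbot
  have hP : P = ⊥ := le_bot_iff.mp (hbot ▸ hPσ)
  have h3 := hS.1.not_dvd
  rw [hP, Subgroup.relIndex_bot_left] at h3
  exact h3 (hq.2.1.trans (by rw [Subgroup.card_top]; exact Subgroup.card_subgroup_dvd_card M))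

/-- `N_G(M_σ) = M` in the form: elements normalizing `M_σ` lie in `M` -/
theorem normalizer_sigmaCore_le (hG : IsMinSimpleOddOrder G) (hU : UniqHyp G) (h44 : H1444.{u})
    {M : Subgroup G} (hM : IsCoatom M) : normalizer ((sigmaCore M : Subgroup G) : Set G) ≤ M := by
  have h1 : sigmaCore M ≠ ⊥ := sigmaCore_ne_bot hG hU h44 hM
  have h2 : sigmaCore M ≠ ⊤ := fun ht => hM.1 (top_le_iff.mp (ht ▸ sigmaCore_le M))
  have h3 := normalizer_ne_top hG h1 h2
  have h4 := (hM.le_iff_eq h3).mp (le_normalizer_sigmaCore M)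
  exact h4.le

/-- a subgroup of `M` all of whose prime divisors lie in `σ(M)` lies in `M_σ` -/
theorem le_sigmaCore_of_primes (hG : IsMinSimpleOddOrder G) (hU : UniqHyp G) (h44 : H1444.{u})
    {M : Subgroup G} (hM : IsCoatom M) {D : Subgroup G} (hDM : D ≤ M)
    (hD : ∀ q : ℕ, q.Prime → q ∣ Nat.card ↥D → q ∈ sigma M) : D ≤ sigmaCore M := by
  have h1 : D.subgroupOf M ≤ piCore (sigma M) ↥M := by
    apply le_of_coprime_index
    rw [Cfsg.Agent.Lib.Helper1_Transport.card_subgroupOf hDM]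
    apply Nat.coprime_of_dvd
    intro q hq hqD hqi
    exact not_dvd_index_piCore_sigma hG hU h44 M hM (hD q hq hqD) hqi
  rw [← Subgroup.map_subgroupOf_eq_of_le hDM]
  exact Subgroup.map_mono h1

/-! ### The fixed-point lemma inside `M` -/

/-- `X ≤ M` of prime order `p ∉ σ(M)` acting without fixed points on `M_σ`, `W ≤ M` an `X`-invariant
subgroup of order prime to `p |M_σ|`: then `[W, X]` centralizes `M_σ`. -/
theorem commutator_le_centralizer_sigmaCore_of_line (hG : IsMinSimpleOddOrder G)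
    {M : Subgroup G} (hM : IsCoatom M) {p : ℕ} [hp : Fact p.Prime] (hpσ : p ∉ sigma M)
    {X W : Subgroup G} (hXM : X ≤ M) (hX : Nat.card ↥X = p)
    (hfix : sigmaCore M ⊓ centralizer (X : Set G) = ⊥) (hWM : W ≤ M)
    (hXW : X ≤ normalizer (W : Set G)) (hWσ : (Nat.card ↥W).Coprime (Nat.card ↥(sigmaCore M)))
    (hWp : ¬ p ∣ Nat.card ↥W) : ⁅W, X⁆ ≤ centralizer ((sigmaCore M : Subgroup G) : Set G) := by
  have hsolv : Group.IsSolvable ↥M := hG.2.2.2 M hM.1
  have hodd : Odd (Nat.card ↥M) := Odd.of_dvd_nat hG.1 (Subgroup.card_subgroup_dvd_card M)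
  have hcardV : Nat.card ↥(piCore (sigma M) ↥M) = Nat.card ↥(sigmaCore M) := by
    unfold sigmaCore
    rw [Subgroup.card_map_of_injective M.subtype_injective]
  have hpV : ¬ p ∣ Nat.card ↥(piCore (sigma M) ↥M) := by
    rw [hcardV]
    exact fun hd => hpσ (card_sigmaCore_mem M p hp.out hd)
  rw [Subgroup.commutator_le]
  intro w hw y hy
  by_cases hy1 : y = 1
  · rw [hy1, commutatorElement_one_right]; exact one_mem _
  -- `X = ⟨y⟩`
  have hyo : orderOf y = p := by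
    have h1 : orderOf y ∣ p := by
      rw [← hX]
      have := orderOf_dvd_natCard (⟨y, hy⟩ : ↥X)
      rwa [Subgroup.orderOf_mk] at this
    rcases (Nat.dvd_prime hp.out).mp h1 with h2 | h2
    · exact absurd (orderOf_eq_one_iff.mp h2) hy1
    · exact h2
  have hXy : zpowers y = X := by
    apply Subgroup.eq_of_le_of_card_ge (zpowers_le.mpr hy)
    rw [Nat.card_zpowers, hyo, hX]
  set ym : ↥M := ⟨y, hXM hy⟩ with hym
  have hymo : orderOf ym = p := by rw [hym, Subgroup.orderOf_mk, hyo]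
  have hfix' : ∀ v ∈ piCore (sigma M) ↥M, ym * v = v * ym → v = 1 := by
    intro v hv hcomm
    have h1 : (v : G) ∈ sigmaCore M := Subgroup.mem_map_of_mem M.subtype hv
    have h2 : (v : G) ∈ centralizer (X : Set G) := by
      rw [← hXy, mem_centralizer_iff]
      intro z hz
      obtain ⟨k, rfl⟩ := mem_zpowers_iff.mp hz
      have hc : Commute y (v : G) := congrArg Subtype.val hcomm
      exact (hc.zpow_left k).eq
    have h3 : (v : G) ∈ sigmaCore M ⊓ centralizer (X : Set G) := Subgroup.mem_inf.mpr ⟨h1, h2⟩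
    rw [hfix, Subgroup.mem_bot] at h3
    exact Subtype.ext h3
  have hyH : zpowers ym ≤ normalizer ((W.subgroupOf M : Subgroup ↥M) : Set ↥M) := by
    rw [zpowers_le, mem_normalizer_iff]
    intro h
    rw [Subgroup.mem_subgroupOf, Subgroup.mem_subgroupOf]
    exact mem_normalizer_iff.mp (hXW hy) (h : G)
  have hcardH : Nat.card ↥(W.subgroupOf M) = Nat.card ↥W :=
    Cfsg.Agent.Lib.Helper1_Transport.card_subgroupOf hWM
  have hmain := Cfsg.Agent.Lib.Helper62_BG117a.commutator_mem_centralizer_of_fpf hodd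
    (piCore (sigma M) ↥M) hp.out hpV ym hymo hfix' (W.subgroupOf M) hyH
    (by rw [hcardH, hcardV]; exact hWσ) (by rw [hcardH]; exact hWp)
    ⟨w, hWM hw⟩ (Subgroup.mem_subgroupOf.mpr hw)
  rw [mem_centralizer_iff]
  rintro s ⟨v, hv, rfl⟩
  have := mem_centralizer_iff.mp hmain v hv
  exact congrArg Subtype.val this

/-! ### The lines `nA₀n⁻¹`, `n ∈ N_G(A) - M` -/

section Lines

variable {M A A₀ : Subgroup G} {p : ℕ} [hp : Fact p.Prime]

omit [Finite G] hp in
theorem le_cj_of_mem_normalizer (h : Exc M p A A₀) {n : G} (hn : n ∈ normalizer (A : Set G)) :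
    A ≤ cj n M := by
  have := cj_mono (k := n) h.le
  rwa [cj_eq_of_mem_normalizer hn] at this

omit [Finite G] hp in
theorem line_le (h : Exc M p A A₀) {n : G} (hn : n ∈ normalizer (A : Set G)) : cj n A₀ ≤ A := by
  have := cj_mono (k := n) h.le₀
  rwa [cj_eq_of_mem_normalizer hn] at this

omit [Finite G] hp in
theorem line_card (h : Exc M p A A₀) (n : G) : Nat.card ↥(cj n A₀) = p := by
  rw [card_cj]; exact h.card₀

theorem line_fpf (hG : IsMinSimpleOddOrder G) (hU : UniqHyp G) (h44 : H1444.{u})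
    (h : Exc M p A A₀) {n : G} (hn : n ∈ normalizer (A : Set G)) (hnM : n ∉ M) :
    sigmaCore M ⊓ centralizer ((cj n A₀ : Subgroup G) : Set G) = ⊥ :=
  sigmaCore_inf_centralizer_cj_eq_bot hG hU h44 h hnM (le_cj_of_mem_normalizer h hn)

omit [Finite G] hp in
theorem line_normalizer_le (h : Exc M p A A₀) (n : G) :
    normalizer ((cj n A₀ : Subgroup G) : Set G) ≤ cj n M := by
  rw [normalizer_cj]; exact cj_mono h.norm₀

theorem exists_sylow_ge (h : Exc M p A A₀) :
    ∃ P : Sylow p ↥M, A ≤ (P : Subgroup ↥M).map M.subtype := by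
  have hAp : IsPGroup p ↥(A.subgroupOf M) :=
    h.isPGroup.comap_of_injective M.subtype M.subtype_injective
  obtain ⟨P, hP⟩ := hAp.exists_le_sylow
  refine ⟨P, ?_⟩
  intro a ha
  exact ⟨⟨a, h.le ha⟩, hP (Subgroup.mem_subgroupOf.mpr ha), rfl⟩

omit [Finite G] hp in
/-- elements normalizing a Sylow `p`-subgroup `P ≥ A` of `M` normalize `A = Ω₁(P)` -/
theorem normalizer_le_normalizer_of_omega (h : Exc M p A A₀) {P : Subgroup G} (hAP : A ≤ P)
    (h6a : ∀ x ∈ P, x ^ p = 1 ↔ x ∈ A) : normalizer (P : Set G) ≤ normalizer (A : Set G) := by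
  have key : ∀ g' ∈ normalizer (P : Set G), ∀ a ∈ A, g' * a * g'⁻¹ ∈ A := by
    intro g' hg' a ha
    have h1 : g' * a * g'⁻¹ ∈ P := (mem_normalizer_iff.mp hg' a).mp (hAP ha)
    apply (h6a _ h1).mp
    rw [conj_pow, h.exp a ha, mul_one, mul_inv_cancel]
  intro g hg
  rw [mem_normalizer_iff]
  intro a
  constructor
  · exact key g hg a
  · intro ha
    have := key g⁻¹ (inv_mem hg) _ ha
    have e : g⁻¹ * (g * a * g⁻¹) * g⁻¹⁻¹ = a := by group
    rwa [e] at this

theorem dvd_card_of_exc (h : Exc M p A A₀) : p ∣ Nat.card ↥M := by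
  have h1 : Nat.card ↥A ∣ Nat.card ↥M := Subgroup.card_dvd_of_le h.le
  rw [h.card] at h1
  exact (dvd_pow_self p (by norm_num)).trans h1

/-- two distinct lines `gA₀g⁻¹`, `g⁻¹A₀g` with `g ∈ N_G(A) - M`; they generate `A` -/
theorem exists_two_lines (hG : IsMinSimpleOddOrder G) (h : Exc M p A A₀)
    (h6a : ∀ P : Sylow p ↥M, A ≤ (P : Subgroup ↥M).map M.subtype →
      ∀ x ∈ (P : Subgroup ↥M).map M.subtype, x ^ p = 1 ↔ x ∈ A) :
    ∃ g : G, g ∈ normalizer (A : Set G) ∧ g ∉ M ∧ g⁻¹ ∉ M ∧ cj g A₀ ⊔ cj g⁻¹ A₀ = A := by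
  obtain ⟨P, hAP⟩ := exists_sylow_ge h
  have hnot : ¬ normalizer (((P : Subgroup ↥M).map M.subtype : Subgroup G) : Set G) ≤ M :=
    fun hle => h.not_sigma ⟨hp.out, dvd_card_of_exc h, P, hle⟩
  obtain ⟨g, hg, hgM⟩ := SetLike.not_le_iff_exists.mp hnot
  have hgA := normalizer_le_normalizer_of_omega h hAP (h6a P hAP) hg
  have hgM' : g⁻¹ ∉ M := fun hh => hgM (by simpa using inv_mem hh)
  refine ⟨g, hgA, hgM, hgM', ?_⟩
  have hne : cj g A₀ ≠ cj g⁻¹ A₀ := by
    intro heq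
    have h1 : cj (g * g) A₀ = A₀ := by rw [cj_mul, heq, cj_cj_inv]
    have h2 : g * g ∈ M :=
      h.norm₀ (Cfsg.Agent.Lib.Helper24_CoprimeAction.mem_normalizer_iff_map_conj.mpr h1)
    have hodd : Odd (orderOf g) := Odd.of_dvd_nat hG.1 (orderOf_dvd_natCard g)
    obtain ⟨k, hk⟩ := hodd
    have h3 : g = (g * g) ^ (k + 1) := by
      rw [← pow_two, ← pow_mul]
      have : 2 * (k + 1) = orderOf g + 1 := by omega
      rw [this, pow_succ, pow_orderOf_eq_one, one_mul]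
    apply hgM
    rw [h3]
    exact M.pow_mem h2 _
  have hle : cj g A₀ ⊔ cj g⁻¹ A₀ ≤ A := sup_le (line_le h hgA) (line_le h (inv_mem hgA))
  apply Subgroup.eq_of_le_of_card_ge hle
  rw [h.card]
  obtain ⟨i, hi, hJ⟩ := (Nat.dvd_prime_pow hp.out).mp (h.card ▸ Subgroup.card_dvd_of_le hle)
  rw [hJ]
  by_contra hlt
  have hi1 : i ≤ 1 := by
    by_contra hi1
    have : i = 2 := by omega
    rw [this] at hlt
    exact hlt le_rfl
  have hJp : Nat.card ↥(cj g A₀ ⊔ cj g⁻¹ A₀ : Subgroup G) ≤ p := by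
    rw [hJ]
    calc p ^ i ≤ p ^ 1 := Nat.pow_le_pow_right hp.out.pos hi1
      _ = p := pow_one p
  have e1 : cj g A₀ = cj g A₀ ⊔ cj g⁻¹ A₀ :=
    Subgroup.eq_of_le_of_card_ge le_sup_left (by rw [line_card h]; exact hJp)
  have e2 : cj g⁻¹ A₀ = cj g A₀ ⊔ cj g⁻¹ A₀ :=
    Subgroup.eq_of_le_of_card_ge le_sup_right (by rw [line_card h]; exact hJp)
  exact hne (e1.trans e2.symm)

/-- the order of a subgroup of `M` meeting `M_σ` trivially is prime to `|M_σ|` -/
theorem coprime_card_sigmaCore_of_inf_eq_bot (hG : IsMinSimpleOddOrder G) (hU : UniqHyp G)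
    (h44 : H1444.{u}) (hM : IsCoatom M) {W : Subgroup G} (hWM : W ≤ M)
    (hW : W ⊓ sigmaCore M = ⊥) : (Nat.card ↥W).Coprime (Nat.card ↥(sigmaCore M)) := by
  apply Nat.coprime_of_dvd
  intro ℓ hℓ hℓW hℓσ
  have : Fact ℓ.Prime := ⟨hℓ⟩
  have hℓM : ℓ ∈ sigma M := card_sigmaCore_mem M ℓ hℓ hℓσ
  obtain ⟨w, hw⟩ := exists_prime_orderOf_dvd_card' ℓ hℓW
  have hwp : IsPGroup ℓ ↥(zpowers (w : G)) := by
    apply IsPGroup.of_card (n := 1)
    rw [Nat.card_zpowers, Subgroup.orderOf_coe, hw, pow_one]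
  have h1 : zpowers (w : G) ≤ sigmaCore M :=
    le_sigmaCore_of_isPGroup hG hU h44 hM hℓM hwp ((zpowers_le.mpr w.2).trans hWM)
  have h2 : (w : G) ∈ W ⊓ sigmaCore M := Subgroup.mem_inf.mpr ⟨w.2, h1 (mem_zpowers _)⟩
  rw [hW, Subgroup.mem_bot] at h2
  have h3 : orderOf (w : G) = 1 := by rw [h2, orderOf_one]
  rw [Subgroup.orderOf_coe, hw] at h3
  exact hℓ.one_lt.ne' h3

/-- `[W, A]` centralizes `M_σ` for every `A`-invariant subgroup `W` of `M` of order prime to `p |M_σ|` -/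
theorem commutator_le_centralizer_sigmaCore (hG : IsMinSimpleOddOrder G) (hU : UniqHyp G)
    (h44 : H1444.{u}) (h : Exc M p A A₀)
    (h6a : ∀ P : Sylow p ↥M, A ≤ (P : Subgroup ↥M).map M.subtype →
      ∀ x ∈ (P : Subgroup ↥M).map M.subtype, x ^ p = 1 ↔ x ∈ A)
    {W : Subgroup G} (hWM : W ≤ M) (hAW : A ≤ normalizer (W : Set G))
    (hWσ : (Nat.card ↥W).Coprime (Nat.card ↥(sigmaCore M))) (hWp : ¬ p ∣ Nat.card ↥W) :
    ⁅W, A⁆ ≤ centralizer ((sigmaCore M : Subgroup G) : Set G) := by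
  obtain ⟨g, hgA, hgM, hgM', hsup⟩ := exists_two_lines hG h h6a
  have hgA' : g⁻¹ ∈ normalizer (A : Set G) := inv_mem hgA
  have h1 := commutator_le_centralizer_sigmaCore_of_line hG h.coatom h.not_sigma
    ((line_le h hgA).trans h.le) (line_card h g) (line_fpf hG hU h44 h hgA hgM) hWM
    ((line_le h hgA).trans hAW) hWσ hWp
  have h2 := commutator_le_centralizer_sigmaCore_of_line hG h.coatom h.not_sigma
    ((line_le h hgA').trans h.le) (line_card h g⁻¹) (line_fpf hG hU h44 h hgA' hgM') hWM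
    ((line_le h hgA').trans hAW) hWσ hWp
  rw [← hsup]
  apply commutator_sup_le h1 h2
  rw [hsup]
  exact h.le.trans ((le_normalizer_sigmaCore M).trans
    (Cfsg.Agent.Lib.Helper24_CoprimeHall.normalizer_le_normalizer_centralizer _))

/-- first half of `star2` -/
theorem star2_aux (hG : IsMinSimpleOddOrder G) (hU : UniqHyp G) (h44 : H1444.{u}) (h : Exc M p A A₀)
    (h6a : ∀ P : Sylow p ↥M, A ≤ (P : Subgroup ↥M).map M.subtype →
      ∀ x ∈ (P : Subgroup ↥M).map M.subtype, x ^ p = 1 ↔ x ∈ A)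
    {n : G} (hnA : n ∈ normalizer (A : Set G)) (hnM : n ∉ M) {W : Subgroup G} (hWM : W ≤ M)
    (hWn : W ≤ cj n M) (hAW : A ≤ normalizer (W : Set G)) (hWp : ¬ p ∣ Nat.card ↥W) :
    ⁅W, A⁆ ≤ centralizer ((sigmaCore M : Subgroup G) : Set G) := by
  have hW : W ⊓ sigmaCore M = ⊥ := by
    rw [eq_bot_iff, ← sigmaCore_inf_cj_eq_bot hG hU h44 h hnM (le_cj_of_mem_normalizer h hnA)]
    exact le_inf inf_le_right (inf_le_left.trans hWn)
  exact commutator_le_centralizer_sigmaCore hG hU h44 h h6a hWM hAW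
    (coprime_card_sigmaCore_of_inf_eq_bot hG hU h44 h.coatom hWM hW) hWp

/-- **STAR2**: for `n ∈ N_G(A) - M`, `A` centralizes every `A`-invariant `p'`-subgroup of `M ∩ nMn⁻¹` -/
theorem star2 (hG : IsMinSimpleOddOrder G) (hU : UniqHyp G) (h44 : H1444.{u}) (h : Exc M p A A₀)
    (h6a : ∀ P : Sylow p ↥M, A ≤ (P : Subgroup ↥M).map M.subtype →
      ∀ x ∈ (P : Subgroup ↥M).map M.subtype, x ^ p = 1 ↔ x ∈ A)
    {n : G} (hnA : n ∈ normalizer (A : Set G)) (hnM : n ∉ M) {V : Subgroup G} (hVM : V ≤ M)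
    (hVn : V ≤ cj n M) (hAV : A ≤ normalizer (V : Set G)) (hVp : ¬ p ∣ Nat.card ↥V) :
    V ≤ centralizer (A : Set G) := by
  set W : Subgroup G := ⁅V, A⁆ with hWdef
  have hWV : W ≤ V := Cfsg.Agent.Lib.Helper49_FStarComm.commutator_le_left_of_le_normalizer hAV
  have hAW : A ≤ normalizer (W : Set G) := Cfsg.Agent.Lib.Helper22_Basic.le_normalizer_commutator_right V A
  have hWW : W = ⁅W, A⁆ :=
    Cfsg.Agent.Lib.Helper49_FStarComm.commutator_eq_commutator_commutator hAV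
      (Cfsg.Agent.Lib.Helper52_BG12a.le_commutator_sup_centralizer h.isPGroup hVp hAV)
  have hWp : ¬ p ∣ Nat.card ↥W := fun hd => hVp (hd.trans (Subgroup.card_dvd_of_le hWV))
  by_contra hcon
  have hW1 : W ≠ ⊥ := fun hb => hcon ((Subgroup.commutator_eq_bot_iff_le_centralizer).mp hb)
  have hc1 : W ≤ centralizer ((sigmaCore M : Subgroup G) : Set G) := by
    rw [hWW]
    exact star2_aux hG hU h44 h h6a hnA hnM (hWV.trans hVM) (hWV.trans hVn) hAW hWp
  have hnA' : n⁻¹ ∈ normalizer (A : Set G) := inv_mem hnA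
  have hnM' : n⁻¹ ∉ M := fun hh => hnM (by simpa using inv_mem hh)
  have hc2' : cj n⁻¹ W ≤ centralizer ((sigmaCore M : Subgroup G) : Set G) := by
    have e : cj n⁻¹ W = ⁅cj n⁻¹ W, A⁆ := by
      conv_lhs => rw [hWW]
      show (⁅W, A⁆).map (MulAut.conj n⁻¹).toMonoidHom = _
      rw [Subgroup.map_commutator]
      have : A.map (MulAut.conj n⁻¹).toMonoidHom = A := cj_eq_of_mem_normalizer hnA'
      rw [this]
    rw [e]
    apply star2_aux hG hU h44 h h6a hnA' hnM'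
    · have := cj_mono (k := n⁻¹) (hWV.trans hVn)
      rwa [cj_inv_cj] at this
    · exact cj_mono (hWV.trans hVM)
    · rw [normalizer_cj]
      have := cj_mono (k := n⁻¹) hAW
      rwa [cj_eq_of_mem_normalizer hnA'] at this
    · rw [card_cj]; exact hWp
  have hc2 : W ≤ centralizer ((cj n (sigmaCore M) : Subgroup G) : Set G) := by
    intro w hw
    rw [mem_centralizer_iff]
    rintro _ ⟨s, hs, rfl⟩
    have h1 : n⁻¹ * w * n ∈ cj n⁻¹ W := by
      rw [mem_cj]
      have e : n⁻¹⁻¹ * (n⁻¹ * w * n) * n⁻¹ = w := by group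
      rw [e]; exact hw
    have h2 := mem_centralizer_iff.mp (hc2' h1) s hs
    show n * s * n⁻¹ * w = w * (n * s * n⁻¹)
    calc n * s * n⁻¹ * w = n * (s * (n⁻¹ * w * n)) * n⁻¹ := by group
      _ = n * ((n⁻¹ * w * n) * s) * n⁻¹ := by rw [h2]
      _ = w * (n * s * n⁻¹) := by group
  have hWtop : W ≠ ⊤ := fun ht => h.coatom.1 (top_le_iff.mp (ht ▸ hWV.trans hVM))
  have hH : normalizer (W : Set G) ≠ ⊤ := normalizer_ne_top hG hW1 hWtop
  have hσH : sigmaCore M ≤ normalizer (W : Set G) :=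
    (Subgroup.le_centralizer_iff.mp hc1).trans (centralizer_le_normalizer _)
  have hσnH : cj n (sigmaCore M) ≤ normalizer (W : Set G) :=
    (Subgroup.le_centralizer_iff.mp hc2).trans (centralizer_le_normalizer _)
  have hσ1 := sigmaCore_ne_bot hG hU h44 h.coatom
  have hcard1 : Nat.card ↥(sigmaCore M) ≠ 1 := fun hc => hσ1 ((Subgroup.card_eq_one).mp hc)
  obtain ⟨ℓ, hℓ, hℓd⟩ := Nat.exists_prime_and_dvd hcard1
  have : Fact ℓ.Prime := ⟨hℓ⟩
  have hMsolv : Group.IsSolvable ↥M := hG.2.2.2 M h.coatom.1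
  have hσsolv : Group.IsSolvable ↥(sigmaCore M) :=
    Cfsg.Agent.Lib.Helper24_CoprimeAction.isSolvable_of_le (sigmaCore_le M) hMsolv
  obtain ⟨Q₁, hQ₁, hAQ₁⟩ := exists_invariant_piHall A (sigmaCore M) h.le_normalizer_sigmaCore
    (h.coprime_card le_rfl) hσsolv {ℓ}
  have hQ₁ne : Q₁ ≠ ⊥ := piHall_ne_bot hℓ hQ₁ hℓd
  have hQ₂ : PiHall {ℓ} (cj n Q₁) (cj n (sigmaCore M)) := piHall_cj hQ₁ n
  have hAQ₂ : A ≤ normalizer ((cj n Q₁ : Subgroup G) : Set G) := by
    rw [normalizer_cj]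
    have := cj_mono (k := n) hAQ₁
    rwa [cj_eq_of_mem_normalizer hnA] at this
  rcases no_common_overgroup hG hU h44 h hnM (le_cj_of_mem_normalizer h hnA) hQ₁ hAQ₁ hQ₂ hAQ₂
    hQ₁ne hH hAW with h1 | h1
  · exact hQ₁ne (le_bot_iff.mp (h1 ▸ le_inf (hQ₁.1.trans hσH) le_rfl))
  · have hne2 : cj n Q₁ ≠ ⊥ := by
      intro hb
      apply hQ₁ne
      have := card_cj n Q₁
      rw [hb, Subgroup.card_bot] at this
      exact (Subgroup.card_eq_one).mp this.symm
    exact hne2 (le_bot_iff.mp (h1 ▸ le_inf (hQ₂.1.trans hσnH) le_rfl))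

/-- for a line `X = nA₀n⁻¹` (`n ∈ N_G(A) - M`) and an `A`-invariant `p'`-subgroup `T` of `M`:
`C_T(X) ≤ C_T(A)` -/
theorem inf_centralizer_line_le (hG : IsMinSimpleOddOrder G) (hU : UniqHyp G) (h44 : H1444.{u})
    (h : Exc M p A A₀)
    (h6a : ∀ P : Sylow p ↥M, A ≤ (P : Subgroup ↥M).map M.subtype →
      ∀ x ∈ (P : Subgroup ↥M).map M.subtype, x ^ p = 1 ↔ x ∈ A)
    {n : G} (hnA : n ∈ normalizer (A : Set G)) (hnM : n ∉ M) {T : Subgroup G} (hTM : T ≤ M)
    (hAT : A ≤ normalizer (T : Set G)) (hTp : ¬ p ∣ Nat.card ↥T) :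
    T ⊓ centralizer ((cj n A₀ : Subgroup G) : Set G) ≤ centralizer (A : Set G) := by
  apply star2 hG hU h44 h h6a hnA hnM (inf_le_left.trans hTM)
  · exact inf_le_right.trans ((centralizer_le_normalizer _).trans (line_normalizer_le h n))
  · apply le_normalizer_inf' hAT
    have hAX : A ≤ centralizer ((cj n A₀ : Subgroup G) : Set G) := by
      intro a ha
      rw [mem_centralizer_iff]
      intro x hx
      exact h.comm x (line_le h hnA hx) a ha
    exact hAX.trans le_normalizer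
  · exact fun hd => hTp (hd.trans (Subgroup.card_dvd_of_le inf_le_left))

end Lines

/-! ### `O_{r'}(M)` and the Sylow tower -/

section Tower

variable {M : Subgroup G}

omit [Finite G] in
theorem relIndex_opp (r : ℕ) (M : Subgroup G) : (opp r M).relIndex M = (pPrimeCore r ↥M).index := by
  unfold opp
  rw [Subgroup.relIndex, Subgroup.subgroupOf, Subgroup.comap_map_eq_self_of_injective M.subtype_injective]

theorem not_mem_beta (hG : IsMinSimpleOddOrder G) (hU : UniqHyp G) (hM : IsCoatom M) {r : ℕ}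
    (hr : r ∉ sigma M) : r ∉ beta M :=
  fun hb => hr (mem_sigma_of_mem_alpha hG hU hM hb.1)

/-- the Sylow tower clause of S1414 -/
theorem tower (hG : IsMinSimpleOddOrder G) (hU : UniqHyp G) (hM : IsCoatom M) {r : ℕ} (hr : r.Prime)
    (hrM : r ∣ Nat.card ↥M) (hrσ : r ∉ sigma M) {q : ℕ} (hq : q.Prime) (hlt : r < q) :
    ¬ q ∣ (opp r M).relIndex M := by
  rw [relIndex_opp]
  intro hd
  have := (Cfsg.Agent.S1414.result hG M hM).2.2.2.2 r hr hrM (not_mem_beta hG hU hM hrσ)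
  exact absurd (this.2.2 q hq hd) (not_le.mpr hlt)

/-- `M = N_M(P) O_{p'}(M)` -/
theorem exists_mul_of_mem (hG : IsMinSimpleOddOrder G) (hU : UniqHyp G) (h44 : H1444.{u})
    (hM : IsCoatom M) {p : ℕ} [Fact p.Prime] (P : Sylow p ↥M) :
    ∀ m ∈ M, ∃ n ∈ M ⊓ normalizer (((P : Subgroup ↥M).map M.subtype : Subgroup G) : Set G),
      ∃ k ∈ opp p M, m = n * k := by
  obtain ⟨K', hK'n, hK'p, hdec⟩ :=
    Cfsg.Agent.Lib.Helper73_PLen.exists_decomp' (plen_one hG hU h44 p M hM.1)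
  have hK'le : K' ≤ pPrimeCore p ↥M := Cfsg.Agent.Lib.Helper1_Cores.le_pPrimeCore hK'n hK'p
  intro m hm
  obtain ⟨n, hn, k, hk, hmnk⟩ := hdec P ⟨m, hm⟩
  refine ⟨n, Subgroup.mem_inf.mpr ⟨n.2, ?_⟩, k, Subgroup.mem_map_of_mem M.subtype (hK'le hk), ?_⟩
  · exact Subgroup.le_normalizer_map M.subtype (Subgroup.mem_map_of_mem M.subtype hn)
  · exact congrArg Subtype.val hmnk

end Tower

section Main

variable {M A A₀ : Subgroup G} {p : ℕ} [hp : Fact p.Prime]

theorem sigmaCore_le_opp (h : Exc M p A A₀) : sigmaCore M ≤ opp p M := by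
  apply le_opp (sigmaCore_le M) (le_normalizer_sigmaCore M)
  apply Nat.Coprime.symm
  rw [Nat.Prime.coprime_iff_not_dvd hp.out]
  exact fun hd => h.not_sigma (card_sigmaCore_mem M p hp.out hd)

/-- `q < p`: `A` centralizes every `A`-invariant `q`-subgroup of `M` -/
theorem le_centralizer_of_lt (hG : IsMinSimpleOddOrder G) (hU : UniqHyp G) (h : Exc M p A A₀)
    {q : ℕ} [hq : Fact q.Prime] (hqσ : q ∉ sigma M) (hqp : q < p) {Q : Subgroup G} (hQM : Q ≤ M)
    (hQ : IsPGroup q ↥Q) (hAQ : A ≤ normalizer (Q : Set G)) : Q ≤ centralizer (A : Set G) := by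
  by_cases hQ1 : Q = ⊥
  · rw [hQ1]; exact bot_le
  have hqM : q ∣ Nat.card ↥M := (dvd_card_self_of_ne_bot hQ hQ1).trans (Subgroup.card_dvd_of_le hQM)
  have hidx : ¬ p ∣ (opp q M).relIndex M := tower hG hU h.coatom hq.out hqM hqσ hp.out hqp
  have hAO : A ≤ opp q M := by
    have h1 : A.subgroupOf M ≤ pPrimeCore q ↥M := by
      apply le_of_coprime_index
      rw [Cfsg.Agent.Lib.Helper1_Transport.card_subgroupOf h.le, h.card]
      apply Nat.Coprime.pow_left
      rw [Nat.Prime.coprime_iff_not_dvd hp.out, ← relIndex_opp]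
      exact hidx
    have := Subgroup.map_mono (f := M.subtype) h1
    rwa [Subgroup.map_subgroupOf_eq_of_le h.le] at this
  have h2 : ⁅Q, A⁆ ≤ Q := Cfsg.Agent.Lib.Helper49_FStarComm.commutator_le_left_of_le_normalizer hAQ
  have h3 : ⁅Q, A⁆ ≤ opp q M := by
    rw [Subgroup.commutator_le]
    intro k hk a ha
    rw [commutatorElement_def]
    have h1 : k * a * k⁻¹ ∈ opp q M :=
      (Subgroup.mem_normalizer_iff.mp (le_normalizer_opp q M (hQM hk)) a).mp (hAO ha)
    exact (opp q M).mul_mem h1 ((opp q M).inv_mem (hAO ha))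
  have h4 : Q ⊓ opp q M = ⊥ := by
    apply (Subgroup.disjoint_of_coprime_natCard ?_).eq_bot
    obtain ⟨k, hk⟩ := IsPGroup.iff_card.mp hQ
    rw [hk]
    exact Nat.Coprime.pow_left k (opp_coprime q M).symm
  rw [← Subgroup.commutator_eq_bot_iff_le_centralizer, eq_bot_iff, ← h4]
  exact le_inf h2 h3

/-- `q ≠ p`, `q ∉ σ(M)`: if `A` fixes a nontrivial element of the `A`-invariant `q`-subgroup `T` of `M`,
then `A` centralizes `T` (KEY) -/
theorem le_centralizer_of_fix_ne_bot (hG : IsMinSimpleOddOrder G) (hU : UniqHyp G)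
    (h : Exc M p A A₀) {q : ℕ} [hq : Fact q.Prime] (hqσ : q ∉ sigma M) (hqp : q ≠ p)
    {T : Subgroup G} (hTM : T ≤ M) (hT : IsPGroup q ↥T) (hAT : A ≤ normalizer (T : Set G))
    (hfix : T ⊓ centralizer (A : Set G) ≠ ⊥) : T ≤ centralizer (A : Set G) := by
  by_cases hcyc : IsCyclic ↥T
  · exact le_centralizer_of_isCyclic hcyc hT h.isPGroup (Ne.symm hqp) hAT hfix
  have hT1 : T ≠ ⊥ := fun hb => hfix (by rw [hb, bot_inf_eq])
  have hq2 : q ≠ 2 := Cfsg.Agent.Lib.Helper52_BG12a.ne_two_of_isPGroup hG hT hT1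
  have hTp : IsPGroup q ↥T := hT
  have hncyc : ¬ IsCyclic ↥(⊤ : Subgroup ↥T) := by
    intro hc
    apply hcyc
    exact isCyclic_of_surjective (Subgroup.topEquiv (G := ↥T)).toMonoidHom
      (Subgroup.topEquiv (G := ↥T)).surjective
  obtain ⟨B', -, -, hB'c, hB'e, hB'card⟩ :=
    Cfsg.Agent.Lib.Helper20_PGroupOdd.exists_normal_rank_two hq2 hTp (⊤ : Subgroup ↥T) hncyc
  set B : Subgroup G := B'.map T.subtype with hB
  have hBT : B ≤ T := Subgroup.map_subtype_le B'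
  have hBea : IsElementaryAbelian q B :=
    Cfsg.Agent.Lib.Helper62_EStarCent.isElementaryAbelian_map_subtype
      (Cfsg.Agent.Lib.Helper62_EStarCent.mk_isElementaryAbelian B' hB'c hB'e)
  have hBcard : Nat.card ↥B = q ^ 2 := by
    rw [hB, Subgroup.card_map_of_injective T.subtype_injective, hB'card]
  have hr2 : PRankLE q 2 ↥M := by
    by_contra hr
    exact hqσ (mem_sigma_of_mem_alpha hG hU h.coatom ⟨hq.out, hr⟩)
  have hr1 : ¬ PRankLE q 1 ↥M := by
    apply not_pRankLE_of_elemAb (hBT.trans hTM) (comm_of_isElementaryAbelian hBea) hBea.2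
    rw [hBcard]
    have := hq.out.one_lt
    nlinarith
  have hBmax := (rank_two_statement hG hU M h.coatom hr2 hr1).2 B (hBT.trans hTM) hBea hBcard
  have hqC : q ∣ Nat.card ↥(centralizer (A : Set G)) :=
    (dvd_card_self_of_ne_bot (hT.to_le inf_le_left) hfix).trans (Subgroup.card_dvd_of_le inf_le_right)
  exact Cfsg.Agent.Lib.Helper70_KeySig.key_weak hG p A h.elem h.card (h.maximal hG hU) q hqp hqC T hT
    hAT ⟨B, hBT, hBea, hBcard, hBmax⟩

/-- `q ≠ p`, `q ∉ σ(M)`: if `A` fixes no nontrivial element of the `A`-invariant `q`-subgroup `T` of `M`,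
then `T` centralizes `M_σ` -/
theorem le_centralizer_sigmaCore_of_fix_eq_bot (hG : IsMinSimpleOddOrder G) (hU : UniqHyp G)
    (h44 : H1444.{u}) (h : Exc M p A A₀)
    (h6a : ∀ P : Sylow p ↥M, A ≤ (P : Subgroup ↥M).map M.subtype →
      ∀ x ∈ (P : Subgroup ↥M).map M.subtype, x ^ p = 1 ↔ x ∈ A)
    {q : ℕ} [hq : Fact q.Prime] (hqσ : q ∉ sigma M) (hqp : q ≠ p)
    {T : Subgroup G} (hTM : T ≤ M) (hT : IsPGroup q ↥T) (hAT : A ≤ normalizer (T : Set G))
    (hfix : T ⊓ centralizer (A : Set G) = ⊥) :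
    T ≤ centralizer ((sigmaCore M : Subgroup G) : Set G) := by
  obtain ⟨g, hgA, hgM, -, -⟩ := exists_two_lines hG h h6a
  have hTp : ¬ p ∣ Nat.card ↥T := by
    obtain ⟨k, hk⟩ := IsPGroup.iff_card.mp hT
    rw [hk]
    intro hd
    exact hqp ((Nat.prime_dvd_prime_iff_eq hp.out hq.out).mp (hp.out.dvd_of_dvd_pow hd)).symm
  have h1 : T ⊓ centralizer ((cj g A₀ : Subgroup G) : Set G) = ⊥ := by
    rw [eq_bot_iff, ← hfix]
    exact le_inf inf_le_left (inf_centralizer_line_le hG hU h44 h h6a hgA hgM hTM hAT hTp)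
  have hXT : cj g A₀ ≤ normalizer (T : Set G) := (line_le h hgA).trans hAT
  have hXp : IsPGroup p ↥(cj g A₀) := h.isPGroup.to_le (line_le h hgA)
  have h2 : T ≤ ⁅T, cj g A₀⁆ := by
    have := Cfsg.Agent.Lib.Helper52_BG12a.le_commutator_sup_centralizer hXp hTp hXT
    rwa [h1, sup_bot_eq] at this
  have hcop : (Nat.card ↥T).Coprime (Nat.card ↥(sigmaCore M)) := by
    obtain ⟨k, hk⟩ := IsPGroup.iff_card.mp hT
    rw [hk]
    apply Nat.Coprime.pow_left
    rw [Nat.Prime.coprime_iff_not_dvd hq.out]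
    exact fun hd => hqσ (card_sigmaCore_mem M q hq.out hd)
  exact h2.trans (commutator_le_centralizer_sigmaCore_of_line hG h.coatom h.not_sigma
    ((line_le h hgA).trans h.le) (line_card h g) (line_fpf hG hU h44 h hgA hgM) hTM hXT hcop hTp)

/-- a Sylow `q`-subgroup `T` of `M`, `q ∉ σ(M)`, centralizing `M_σ` contains no nontrivial normal
subgroup of `M` -/
theorem false_of_normal_le_sylow (hG : IsMinSimpleOddOrder G) (hU : UniqHyp G) (h44 : H1444.{u})
    (hM : IsCoatom M) {q : ℕ} [hq : Fact q.Prime] (hqσ : q ∉ sigma M) {T L : Subgroup G}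
    (hT : IsSylowIn q T M) (hTσ : T ≤ centralizer ((sigmaCore M : Subgroup G) : Set G))
    (hL1 : L ≠ ⊥) (hLT : L ≤ T) (hML : M ≤ normalizer (L : Set G)) : False := by
  have hLtop : L ≠ ⊤ := fun ht => hM.1 (top_le_iff.mp (ht ▸ hLT.trans hT.le))
  have hNL : normalizer (L : Set G) = M := (hM.le_iff_eq (normalizer_ne_top hG hL1 hLtop)).mp hML
  have hNT : normalizer (T : Set G) ≤ M := by
    intro g hg
    have hginv : g⁻¹ ∈ normalizer (T : Set G) := inv_mem hg
    have h1 : cj g (sigmaCore M) ≤ M := by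
      refine le_trans ?_ hNL.le
      refine le_trans ?_ (centralizer_le_normalizer _)
      rintro _ ⟨s, hs, rfl⟩
      rw [mem_centralizer_iff]
      intro t ht
      have h2 : g⁻¹ * t * g⁻¹⁻¹ ∈ T := (mem_normalizer_iff.mp hginv t).mp (hLT ht)
      have h3 := mem_centralizer_iff.mp (hTσ h2) s hs
      show t * (g * s * g⁻¹) = g * s * g⁻¹ * t
      calc t * (g * s * g⁻¹) = g * ((g⁻¹ * t * g⁻¹⁻¹) * s) * g⁻¹ := by group
        _ = g * (s * (g⁻¹ * t * g⁻¹⁻¹)) * g⁻¹ := by rw [h3]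
        _ = g * s * g⁻¹ * t := by group
    have h2 : cj g (sigmaCore M) ≤ sigmaCore M := by
      apply le_sigmaCore_of_primes hG hU h44 hM h1
      intro ℓ hℓ hd
      rw [card_cj] at hd
      exact card_sigmaCore_mem M ℓ hℓ hd
    have h3 : cj g (sigmaCore M) = sigmaCore M :=
      Subgroup.eq_of_le_of_card_ge h2 (by rw [card_cj])
    exact normalizer_sigmaCore_le hG hU h44 hM
      (Cfsg.Agent.Lib.Helper24_CoprimeAction.mem_normalizer_iff_map_conj.mpr h3)
  apply hqσ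
  refine ⟨hq.out, ?_, hT.toSylow, ?_⟩
  · exact (dvd_card_self_of_ne_bot (hT.isPGroup.to_le hLT) hL1).trans
      (Subgroup.card_dvd_of_le (hLT.trans hT.le))
  · rw [hT.coe_toSylow, Subgroup.map_subgroupOf_eq_of_le hT.le]
    exact hNT

/-- `K = M_σ E₁`: a subgroup containing `M_σ` and a Hall `σ(M)'`-subgroup `E₁` of `K ≥ M_σ` contains `K` -/
theorem le_of_sigmaCore_le_of_hall_le (hG : IsMinSimpleOddOrder G) (hU : UniqHyp G) (h44 : H1444.{u})
    (hM : IsCoatom M) {K E₁ H : Subgroup G} (hσK : sigmaCore M ≤ K) (hKM : K ≤ M)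
    (hE₁ : PiHall (sigma M)ᶜ E₁ K) (hσH : sigmaCore M ≤ H) (hEH : E₁ ≤ H) : K ≤ H := by
  have hMsolv : Group.IsSolvable ↥M := hG.2.2.2 M hM.1
  have hσsolv : Group.IsSolvable ↥(sigmaCore M) :=
    Cfsg.Agent.Lib.Helper24_CoprimeAction.isSolvable_of_le (sigmaCore_le M) hMsolv
  have hE₁solv : Group.IsSolvable ↥E₁ :=
    Cfsg.Agent.Lib.Helper24_CoprimeAction.isSolvable_of_le (hE₁.1.trans hKM) hMsolv
  apply le_of_forall_sylow_le
  intro ℓ hℓ
  by_cases hℓσ : ℓ ∈ sigma M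
  · obtain ⟨T, hT⟩ := exists_piHall {ℓ} (sigmaCore M) hσsolv
    refine ⟨T, hT.1.trans hσH, hT.1.trans hσK, ?_⟩
    rw [← Subgroup.relIndex_mul_relIndex T (sigmaCore M) K hT.1 hσK]
    intro hd
    rcases (Nat.Prime.dvd_mul hℓ).mp hd with h1 | h1
    · rw [relIndex_eq_div hT.1] at h1
      exact hT.2.2 ℓ hℓ rfl h1
    · have h2 : (sigmaCore M).relIndex K ∣ (sigmaCore M).relIndex M :=
        Dvd.intro _ (Subgroup.relIndex_mul_relIndex (sigmaCore M) K M hσK hKM)
      have h3 : (sigmaCore M).relIndex M = (piCore (sigma M) ↥M).index := by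
        unfold sigmaCore
        rw [Subgroup.relIndex, Subgroup.subgroupOf,
          Subgroup.comap_map_eq_self_of_injective M.subtype_injective]
      exact not_dvd_index_piCore_sigma hG hU h44 M hM hℓσ (h3 ▸ h1.trans h2)
  · obtain ⟨T, hT⟩ := exists_piHall {ℓ} E₁ hE₁solv
    refine ⟨T, hT.1.trans hEH, hT.1.trans hE₁.1, ?_⟩
    rw [← Subgroup.relIndex_mul_relIndex T E₁ K hT.1 hE₁.1]
    intro hd
    rcases (Nat.Prime.dvd_mul hℓ).mp hd with h1 | h1
    · rw [relIndex_eq_div hT.1] at h1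
      exact hT.2.2 ℓ hℓ rfl h1
    · rw [relIndex_eq_div hE₁.1] at h1
      exact hE₁.2.2 ℓ hℓ hℓσ h1

/-- **Bender–Glauberman, Lemma 11.7**: `M_σ A ⊴ M`. -/
theorem lemma117 (hG : IsMinSimpleOddOrder G) (hU : UniqHyp G) (h44 : H1444.{u})
    (h : Exc M p A A₀)
    (h6a : ∀ P : Sylow p ↥M, A ≤ (P : Subgroup ↥M).map M.subtype →
      ∀ x ∈ (P : Subgroup ↥M).map M.subtype, x ^ p = 1 ↔ x ∈ A) :
    M ≤ normalizer ((sigmaCore M ⊔ A : Subgroup G) : Set G) := by
  obtain ⟨P, hAP⟩ := exists_sylow_ge h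
  set K : Subgroup G := opp p M with hK
  have hKM : K ≤ M := opp_le p M
  have hMK : M ≤ normalizer (K : Set G) := le_normalizer_opp p M
  have hKp : ¬ p ∣ Nat.card ↥K := not_dvd_card_opp p M
  have hσK : sigmaCore M ≤ K := sigmaCore_le_opp h
  have hMsolv : Group.IsSolvable ↥M := hG.2.2.2 M h.coatom.1
  have hKsolv : Group.IsSolvable ↥K :=
    Cfsg.Agent.Lib.Helper24_CoprimeAction.isSolvable_of_le hKM hMsolv
  have hAK : A ≤ normalizer (K : Set G) := h.le.trans hMK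
  have hcopAK : (Nat.card ↥A).Coprime (Nat.card ↥K) := by
    rw [h.card]
    apply Nat.Coprime.pow_left
    rw [Nat.Prime.coprime_iff_not_dvd hp.out]
    exact hKp
  obtain ⟨E₁, hE₁, hAE₁⟩ := exists_invariant_piHall A K hAK hcopAK hKsolv (sigma M)ᶜ
  have hE₁K : E₁ ≤ K := hE₁.1
  have hE₁M : E₁ ≤ M := hE₁K.trans hKM
  have hE₁solv : Group.IsSolvable ↥E₁ :=
    Cfsg.Agent.Lib.Helper24_CoprimeAction.isSolvable_of_le hE₁M hMsolv
  have hE₁p : ¬ p ∣ Nat.card ↥E₁ := fun hd => hKp (hd.trans (Subgroup.card_dvd_of_le hE₁K))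
  have hcopAE : (Nat.card ↥A).Coprime (Nat.card ↥E₁) := by
    rw [h.card]
    apply Nat.Coprime.pow_left
    rw [Nat.Prime.coprime_iff_not_dvd hp.out]
    exact hE₁p
  have hE₁A : E₁ ≤ centralizer (A : Set G) := by
    apply le_centralizer_of_forall_normal_pgroup h.isPGroup hE₁p hAE₁ hE₁solv
    intro q hq Q hQE hQ hEQ hAQ
    by_cases hQ1 : Q = ⊥
    · rw [hQ1]; exact bot_le
    have hqQ : q ∣ Nat.card ↥Q := dvd_card_self_of_ne_bot hQ hQ1
    have hqE : q ∣ Nat.card ↥E₁ := hqQ.trans (Subgroup.card_dvd_of_le hQE)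
    have hqσ : q ∉ sigma M := hE₁.2.1 q hq.out hqE
    have hqp : q ≠ p := by
      rintro rfl
      exact hE₁p hqE
    have hQM : Q ≤ M := hQE.trans hE₁M
    rcases lt_or_gt_of_ne hqp with hlt | hgt
    · exact le_centralizer_of_lt hG hU h hqσ hlt hQM hQ hAQ
    · obtain ⟨T, hT, hAT, hQT⟩ := exists_invariant_piHall_ge {q} A E₁ Q hAE₁ hcopAE hE₁solv hQE hAQ
        (primes_of_isPGroup hq.out hQ)
      have hTq : IsPGroup q ↥T := isPGroup_of_primes hq.out hT.2.1
      have hTE : T ≤ E₁ := hT.1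
      have hTM : T ≤ M := hTE.trans hE₁M
      by_cases hfix : T ⊓ centralizer (A : Set G) = ⊥
      · exfalso
        have hTσ := le_centralizer_sigmaCore_of_fix_eq_bot hG hU h44 h h6a hqσ hqp hTM hTq hAT hfix
        have hTK : IsSylowIn q T K := by
          refine ⟨hTE.trans hE₁K, hTq, ?_⟩
          rw [← Subgroup.relIndex_mul_relIndex T E₁ K hTE hE₁K]
          intro hd
          rcases (Nat.Prime.dvd_mul hq.out).mp hd with h1 | h1
          · rw [relIndex_eq_div hTE] at h1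
            exact hT.2.2 q hq.out rfl h1
          · rw [relIndex_eq_div hE₁K] at h1
            exact hE₁.2.2 q hq.out hqσ h1
        have hTMs : IsSylowIn q T M := by
          refine ⟨hTM, hTq, ?_⟩
          rw [← Subgroup.relIndex_mul_relIndex T K M hTK.le hKM]
          intro hd
          rcases (Nat.Prime.dvd_mul hq.out).mp hd with h1 | h1
          · exact hTK.not_dvd h1
          · exact tower hG hU h.coatom hp.out (dvd_card_of_exc h) h.not_sigma hq.out hgt h1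
        have hKQ : K ≤ normalizer (Q : Set G) := by
          apply le_of_sigmaCore_le_of_hall_le hG hU h44 h.coatom hσK hKM hE₁ _ hEQ
          have hQσ : Q ≤ centralizer ((sigmaCore M : Subgroup G) : Set G) := hQT.trans hTσ
          exact (Subgroup.le_centralizer_iff.mp hQσ).trans (centralizer_le_normalizer _)
        have hQL : Q ≤ pCoreOf q K :=
          Cfsg.Agent.Lib.Helper47_SubAPI.le_pCoreOf (hQE.trans hE₁K) hKQ hQ
        have hL1 : pCoreOf q K ≠ ⊥ := fun hb => hQ1 (le_bot_iff.mp (hb ▸ hQL))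
        have hLT : pCoreOf q K ≤ T :=
          le_of_isSylowIn_of_le_normalizer hTK (Cfsg.Agent.Lib.Helper47_SubAPI.pCoreOf_le K)
            (Cfsg.Agent.Lib.Helper47_SubAPI.isPGroup_pCoreOf K)
            (Cfsg.Agent.Lib.Helper47_SubAPI.le_normalizer_pCoreOf K)
        have hML : M ≤ normalizer ((pCoreOf q K : Subgroup G) : Set G) :=
          hMK.trans (Cfsg.Agent.Lib.Helper47_TW.normalizer_le_normalizer_pCoreOf' q K)
        exact false_of_normal_le_sylow hG hU h44 h.coatom hqσ hTMs hTσ hL1 hLT hML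
      · exact hQT.trans (le_centralizer_of_fix_ne_bot hG hU h hqσ hqp hTM hTq hAT hfix)
  -- assembly
  have hnorm_sup : ∀ x, x ∈ normalizer ((sigmaCore M : Subgroup G) : Set G) →
      x ∈ normalizer (A : Set G) →
      x ∈ normalizer ((sigmaCore M ⊔ A : Subgroup G) : Set G) := by
    intro x hx1 hx2
    rw [Cfsg.Agent.Lib.Helper24_CoprimeAction.mem_normalizer_iff_map_conj, Subgroup.map_sup,
      Cfsg.Agent.Lib.Helper24_CoprimeAction.mem_normalizer_iff_map_conj.mp hx1,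
      Cfsg.Agent.Lib.Helper24_CoprimeAction.mem_normalizer_iff_map_conj.mp hx2]
  have hσN : sigmaCore M ≤ normalizer ((sigmaCore M ⊔ A : Subgroup G) : Set G) :=
    le_sup_left.trans le_normalizer
  have hE₁N : E₁ ≤ normalizer ((sigmaCore M ⊔ A : Subgroup G) : Set G) := fun e he =>
    hnorm_sup e (le_normalizer_sigmaCore M (hE₁M he)) (centralizer_le_normalizer _ (hE₁A he))
  have hKN : K ≤ normalizer ((sigmaCore M ⊔ A : Subgroup G) : Set G) :=
    le_of_sigmaCore_le_of_hall_le hG hU h44 h.coatom hσK hKM hE₁ hσN hE₁N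
  intro m hm
  obtain ⟨n, hn, k, hk, rfl⟩ := exists_mul_of_mem hG hU h44 h.coatom P m hm
  apply Subgroup.mul_mem _ _ (hKN hk)
  exact hnorm_sup n (le_normalizer_sigmaCore M (Subgroup.mem_inf.mp hn).1)
    (normalizer_le_normalizer_of_omega h hAP (h6a P hAP) (Subgroup.mem_inf.mp hn).2)

end Main

end Cfsg.Agent.Lib.Helper62_BG117
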