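import Mathlib
import Cfsg.Agent.Lib.Helper35_BG11y
import Cfsg.Agent.Lib.Helper49_BG115
import Cfsg.Agent.Lib.Helper62_BG117

set_option autoImplicit false
open Cfsg

/-!
# Bender–Glauberman, Section 11: the hypothesis `H11 G` of helper52's Section 12 (helper35)

`sylow_isMulCommutative` (11.5) and `sylow_omega` (11.6(a)) in the `Sylow p M` shapes, and the assembly
`h11_of_h117 : H117 G → H11 G` (Lemmas 11.3–11.6 are proved in `Helper35_BG11b`, `Helper49_BG115`).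
-/

namespace Cfsg.Agent.Lib.Helper35_BG11z

open Subgroup Cfsg.Agent.Lib.Helper22_Radical Cfsg.Agent.Lib.Helper22_BGTrans
  Cfsg.Agent.Lib.Helper84_RelSylow Cfsg.Agent.Lib.Helper49_Sigma
  Cfsg.Agent.Lib.Helper70_BG106 Cfsg.Agent.Lib.Helper35_BG11a Cfsg.Agent.Lib.Helper35_BG11y

universe u

variable {G : Type u} [Group G] [Finite G]

/-- **Lemma 11.5** in the `Sylow p M` shape: every Sylow `p`-subgroup of `M` is abelian. -/
theorem sylow_isMulCommutative (hG : IsMinSimpleOddOrder G) (hU : UniqHyp G) (h44 : H1444.{u})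
    {M A A₀ : Subgroup G} {p : ℕ} [Fact p.Prime] (h : Exc M p A A₀) (P : Sylow p ↥M) :
    IsMulCommutative ↥(P : Subgroup ↥M) := by
  have hS : IsSylowIn p ((P : Subgroup ↥M).map M.subtype) M := isSylowIn_of_sylow P
  obtain ⟨m, hm, hmA⟩ := hS.exists_conj_le h.le h.isPGroup
  have hAP : cj m A ≤ (P : Subgroup ↥M).map M.subtype := by
    rintro _ ⟨a, ha, rfl⟩
    exact hmA a ha
  have key := Cfsg.Agent.Lib.Helper49_BG115.sylow_comm hG hU h44 (h.cj_of_mem hm) hS hAP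
  refine ⟨⟨fun a b => ?_⟩⟩
  apply Subtype.ext
  apply Subtype.ext
  have ha : ((a : ↥M) : G) ∈ (P : Subgroup ↥M).map M.subtype := ⟨(a : ↥M), a.2, rfl⟩
  have hb : ((b : ↥M) : G) ∈ (P : Subgroup ↥M).map M.subtype := ⟨(b : ↥M), b.2, rfl⟩
  exact key _ ha _ hb

/-- **Lemma 11.6(a)** in the `Sylow p M` shape. -/
theorem sylow_omega (hG : IsMinSimpleOddOrder G) (hU : UniqHyp G) (h44 : H1444.{u})
    {M A A₀ : Subgroup G} {p : ℕ} [Fact p.Prime] (h : Exc M p A A₀) (P : Sylow p ↥M)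
    (hAP : A ≤ (P : Subgroup ↥M).map M.subtype) :
    ∀ x ∈ (P : Subgroup ↥M).map M.subtype, x ^ p = 1 ↔ x ∈ A :=
  Cfsg.Agent.Lib.Helper49_BG115.omega_eq hG hU h44 h (isSylowIn_of_sylow P) hAP

/-- the conclusions of Section 11, given Lemma 11.7 -/
theorem h11_of_h117 (hG : IsMinSimpleOddOrder G) (hU : UniqHyp G) (h44 : H1444.{u})
    (h117 : H117 G) : Cfsg.Agent.Lib.Helper52_BG12b.H11 G := by
  intro p _ M A A₀ h
  obtain ⟨PG, hS, hAP⟩ := h.exists_sylow_ge
  refine ⟨h.isNilpotent_sigmaCore hG hU h44, ?_, sylow_isMulCommutative hG hU h44 h,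
    sylow_omega hG hU h44 h,
    Cfsg.Agent.Lib.Helper49_BG115.sigmaCore_inf_centralizer_eq_bot hG hU h44 h hS hAP,
    Cfsg.Agent.Lib.Helper49_BG115.exists_fpf_line hG hU h44 h hS hAP, h117 p M A A₀ h⟩
  intro H hH hAH hne
  exact h.eq_of_sigmaCore_inf_ne_bot hG hU h44 hH hAH hne

/-- **Section 11, complete**: the hypothesis `H11 G` of helper52's Section 12 holds unconditionally
(Lemma 11.7 is `Helper62_BG117.lemma117`). -/
theorem h11 (hG : IsMinSimpleOddOrder G) (hU : UniqHyp G) (h44 : H1444.{u}) :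
    Cfsg.Agent.Lib.Helper52_BG12b.H11 G :=
  h11_of_h117 hG hU h44 (fun p _ M A A₀ h =>
    Cfsg.Agent.Lib.Helper62_BG117.lemma117 hG hU h44 h (sylow_omega hG hU h44 h))

end Cfsg.Agent.Lib.Helper35_BG11z
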