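import Mathlib
import Cfsg.Agent.Lib.Helper52_BG12b

/-!
# Bender–Glauberman §12, part 3 (helper52): Proposition 12.4 and Theorem 12.5

The results of §11 enter as the hypothesis `H11 G`; the last sub-case of 12.4(b) as `H124 G`.
-/

set_option autoImplicit false

namespace Cfsg.Agent.Lib.Helper52_BG12c

open scoped commutatorElement

open Subgroup Cfsg Cfsg.Agent.Lib.Helper49_Sigma Cfsg.Agent.Lib.Helper22_BGTrans
  Cfsg.Agent.Lib.Helper22_Radical Cfsg.Agent.Lib.Helper84_RelSylow Cfsg.Agent.Lib.Helper22_Uniq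
  Cfsg.Agent.Lib.Helper49_Alpha Cfsg.Agent.Lib.Helper49_Alpha2 Cfsg.Agent.Lib.Helper49_Alpha3
  Cfsg.Agent.Lib.Helper70_BG106 Cfsg.Agent.Lib.Helper70_BG1212 Cfsg.Agent.Lib.Helper70_BG1012
  Cfsg.Agent.Lib.Helper52_BG12a Cfsg.Agent.Lib.Helper52_BG12b

universe u

variable {G : Type u} [Group G]

/-- the last sub-case of Bender–Glauberman 12.4(b) (proved in `Helper49_BG124`), as a hypothesis -/
def H124 (G : Type u) [Group G] : Prop :=
  ∀ (M : Subgroup G), IsCoatom M → ∀ (p : ℕ) [Fact p.Prime], p ∉ sigma M → ∀ A : Subgroup G,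
    (A ≤ M ∧ IsElementaryAbelian p A ∧ Nat.card ↥A = p ^ 2) → alphaCore M = ⊥ →
    A ≤ centralizer (sigmaCore M : Set G) → False

/-- an elementary abelian group of order `p ^ 2` has a subgroup of order `p` -/
theorem exists_line {p : ℕ} [Fact p.Prime] {A : Subgroup G} (hAea : IsElementaryAbelian p A)
    (hA2 : Nat.card ↥A = p ^ 2) : ∃ A₀ : Subgroup G, A₀ ≤ A ∧ Nat.card ↥A₀ = p := by
  have hpp : p.Prime := Fact.out
  have hA1 : A ≠ ⊥ := by
    rintro rfl
    rw [Subgroup.card_bot] at hA2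
    have : 1 < p ^ 2 := Nat.one_lt_pow (by norm_num) hpp.one_lt
    omega
  obtain ⟨⟨a, ha⟩, ha1⟩ := (Subgroup.ne_bot_iff_exists_ne_one).mp hA1
  have ha1' : a ≠ 1 := fun h => ha1 (Subtype.ext h)
  refine ⟨zpowers a, (Subgroup.zpowers_le).mpr ha, ?_⟩
  rw [Nat.card_zpowers]
  exact orderOf_eq_prime (hAea.2 a ha) ha1'

variable [Finite G]

/-- a Sylow subgroup of a nilpotent subgroup `T` is normalized by everything normalizing `T` -/
theorem le_normalizer_of_isSylowIn_nilpotent {p : ℕ} [Fact p.Prime] {T M P : Subgroup G}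
    (hnil : Group.IsNilpotent ↥T) (hMT : M ≤ normalizer (T : Set G)) (hST : IsSylowIn p P T) :
    M ≤ normalizer (P : Set G) := by
  have hPTn : ((hST.toSylow : Sylow p ↥T) : Subgroup ↥T).Normal := inferInstance
  intro m hm
  have hST' : IsSylowIn p (cj m P) T := by
    have h1 := hST.conj m
    have h2 : cj m T = T := cj_eq_of_mem_normalizer (hMT hm)
    change IsSylowIn p (cj m P) (cj m T) at h1
    rwa [h2] at h1
  have hU' := Sylow.unique_of_normal hST.toSylow hPTn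
  have heq : hST'.toSylow = hST.toSylow := Subsingleton.elim _ _
  have heq' : (cj m P).subgroupOf T = P.subgroupOf T := by
    rw [← hST'.coe_toSylow, ← hST.coe_toSylow, heq]
  have heq'' : cj m P = P := by
    have e1 := Subgroup.map_subgroupOf_eq_of_le hST'.1
    have e2 := Subgroup.map_subgroupOf_eq_of_le hST.1
    rw [← e1, heq', e2]
  rw [Subgroup.mem_normalizer_iff_map_conj_eq]
  exact heq''

/-- if `M` is not the unique maximal subgroup over `N_G(A₀)`, some other maximal subgroup contains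
`N_G(A₀)` -/
theorem exists_coatom_ne (hG : IsMinSimpleOddOrder G) {M A₀ : Subgroup G} (hM : IsCoatom M)
    (hA₀1 : A₀ ≠ ⊥) (hA₀M : A₀ ≤ M)
    (h : ¬ (normalizer (A₀ : Set G) ≤ M ∧
      ∀ L : Subgroup G, IsCoatom L → normalizer (A₀ : Set G) ≤ L → L = M)) :
    ∃ H : Subgroup G, IsCoatom H ∧ H ≠ M ∧ normalizer (A₀ : Set G) ≤ H := by
  by_contra hcon
  push Not at hcon
  have hall : ∀ L : Subgroup G, IsCoatom L → normalizer (A₀ : Set G) ≤ L → L = M := by
    intro L hL hNL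
    by_contra hne
    exact hcon L hL hne hNL
  have hNtop : normalizer (A₀ : Set G) ≠ ⊤ :=
    normalizer_ne_top hG hA₀1 (ne_top_of_le_ne_top hM.1 hA₀M)
  obtain ⟨L, hL, hNL⟩ := exists_isCoatom_ge hNtop
  have hLM := hall L hL hNL
  exact h ⟨hLM ▸ hNL, hall⟩

omit [Finite G] in
/-- elements commuting with `z` centralize the cyclic group generated by `z` -/
theorem le_centralizer_zpowers {B : Subgroup G} {z : G} (h : ∀ b ∈ B, b * z = z * b) :
    B ≤ centralizer ((zpowers z : Subgroup G) : Set G) := by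
  intro b hb
  rw [Subgroup.mem_centralizer_iff]
  intro y hy
  obtain ⟨k, rfl⟩ := Subgroup.mem_zpowers_iff.mp hy
  exact ((Commute.zpow_left (h b hb).symm k)).eq

/-- step (2.2) of Bender–Glauberman 12.4: `p ∉ α(M)` -/
theorem not_mem_alpha_of_lines (hG : IsMinSimpleOddOrder G) (hU : UniqHyp G) {M : Subgroup G}
    (hM : IsCoatom M) {p : ℕ} [Fact p.Prime] {A : Subgroup G} (hAM : A ≤ M)
    (hAea : IsElementaryAbelian p A) (hA2 : Nat.card ↥A = p ^ 2)
    (hlines : ∀ A₀ : Subgroup G, A₀ ≤ A → Nat.card ↥A₀ = p →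
      ∃ H : Subgroup G, IsCoatom H ∧ H ≠ M ∧ normalizer (A₀ : Set G) ≤ H) : p ∉ alpha M := by
  have hpp : p.Prime := Fact.out
  intro hpα
  have hAc := comm_of_isElementaryAbelian hAea
  have hAp : IsPGroup p ↥A := isPGroup_of_exp hAea.2
  obtain ⟨P, hAP, hPS⟩ := exists_isSylowIn_ge hAM hAp
  have hPp := hPS.isPGroup
  have hPM := hPS.le
  have hrP : ¬ PRankLE p 2 ↥P := fun h => hpα.2 (pRankLE_of_sylow hPS h)
  obtain ⟨A₁, hA₁, hA₁c⟩ := exists_line hAea hA2
  have hA1 : A ≠ ⊥ := fun h => ne_bot_of_card_prime hA₁c (le_bot_iff.mp (h ▸ hA₁))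
  have hP1 : P ≠ ⊥ := fun h => hA1 (le_bot_iff.mp (h ▸ hAP))
  obtain ⟨z, hzP, hzc, hzo⟩ := exists_central_of_ne_bot hPp hP1
  have hzp : z ^ p = 1 := by rw [← hzo]; exact pow_orderOf_eq_one z
  -- it suffices to find a line `A₀` and an elementary abelian `B ≤ M ∩ C(A₀)` of order `> p ^ 2`
  have key : ∀ A₀ B : Subgroup G, A₀ ≤ A → Nat.card ↥A₀ = p → B ≤ M →
      B ≤ centralizer (A₀ : Set G) → (∀ a ∈ B, ∀ b ∈ B, a * b = b * a) → (∀ a ∈ B, a ^ p = 1) →
      p ^ 2 < Nat.card ↥B → False := by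
    intro A₀ B hA₀ hA₀c hBM hBC hBc hBe hB3
    obtain ⟨H, hH, hne, hNH⟩ := hlines A₀ hA₀ hA₀c
    have hBU := inUniqueMaximal_of_elemAb_three hG hU hBc hBe hB3
    have hBH : B ≤ H := hBC.trans ((Subgroup.centralizer_le_normalizer _).trans hNH)
    exact hne (hBU.unique ⟨hH, hBH⟩ ⟨hM, hBM⟩)
  by_cases hzA : z ∈ A
  · obtain ⟨B, hBP, hBc, hBe, hB3⟩ := exists_elemAb_of_not_pRankLE hrP
    apply key (zpowers z) B ((Subgroup.zpowers_le).mpr hzA) (by rw [Nat.card_zpowers, hzo])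
      (hBP.trans hPM) ?_ hBc hBe hB3
    exact le_centralizer_zpowers (fun b hb => hzc b (hBP hb))
  · have hZc : ∀ a ∈ zpowers z, ∀ b ∈ zpowers z, a * b = b * a := by
      intro a ha b hb
      obtain ⟨k, rfl⟩ := Subgroup.mem_zpowers_iff.mp ha
      obtain ⟨l, rfl⟩ := Subgroup.mem_zpowers_iff.mp hb
      exact (Commute.zpow_zpow_self z k l).eq
    have hZe : ∀ a ∈ zpowers z, a ^ p = 1 := by
      intro a ha
      obtain ⟨k, rfl⟩ := Subgroup.mem_zpowers_iff.mp ha
      rw [← zpow_natCast, ← zpow_mul, mul_comm, zpow_mul, zpow_natCast, hzp, one_zpow]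
    have hAZ : ∀ a ∈ A, ∀ b ∈ zpowers z, a * b = b * a := by
      intro a ha b hb
      have := le_centralizer_zpowers (B := A) (z := z) (fun b hb => hzc b (hAP hb)) ha
      rw [Subgroup.mem_centralizer_iff] at this
      exact (this b hb).symm
    obtain ⟨hBc, hBe⟩ := elemAb_sup hAc hAea.2 hZc hZe hAZ
    have hlt : Nat.card ↥A < Nat.card ↥(A ⊔ zpowers z : Subgroup G) := by
      apply card_lt_card_of_lt le_sup_left
      intro hle
      exact hzA (hle (le_sup_right (a := A) (Subgroup.mem_zpowers z)))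
    rw [hA2] at hlt
    apply key A₁ (A ⊔ zpowers z) hA₁ hA₁c (sup_le hAM ((Subgroup.zpowers_le).mpr (hPM hzP))) ?_
      hBc hBe hlt
    intro b hb
    rw [Subgroup.mem_centralizer_iff]
    intro y hy
    exact hBc y (le_sup_left (a := A) (hA₁ hy)) b hb

/-- steps (2.3), (2.4) of Bender–Glauberman 12.4: `M_α = 1` -/
theorem alphaCore_eq_bot_of_lines (hG : IsMinSimpleOddOrder G) (hU : UniqHyp G) (h44 : H1444.{u})
    (h11 : H11 G) {M : Subgroup G}
    (hM : IsCoatom M) {p : ℕ} [Fact p.Prime] {A : Subgroup G} (hAM : A ≤ M)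
    (hAea : IsElementaryAbelian p A) (hA2 : Nat.card ↥A = p ^ 2)
    (hlines : ∀ A₀ : Subgroup G, A₀ ≤ A → Nat.card ↥A₀ = p →
      ∃ H : Subgroup G, IsCoatom H ∧ H ≠ M ∧ normalizer (A₀ : Set G) ≤ H) : alphaCore M = ⊥ := by
  have hpp : p.Prime := Fact.out
  have hpα := not_mem_alpha_of_lines hG hU hM hAM hAea hA2 hlines
  have hAc := comm_of_isElementaryAbelian hAea
  have hcent : alphaCore M ≤ centralizer (A : Set G) := by
    apply le_centralizer_of_lines hAea hA2
    · intro hd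
      exact hpα (card_alphaCore_mem M p hpp hd)
    · exact hAM.trans (le_normalizer_alphaCore M)
    · intro A₀ hA₀ hA₀c
      obtain ⟨H, hH, hne, hNH⟩ := hlines A₀ hA₀ hA₀c
      refine le_trans (inf_le_inf le_rfl ((Subgroup.centralizer_le_normalizer _).trans hNH)) ?_
      exact (lemma123 hG hU h44 h11 hM hH hne hAM hAea hA2 hA₀ hA₀c hNH).2 hpα
  by_contra hne
  have hcard : Nat.card ↥(alphaCore M) ≠ 1 := fun h => hne (Subgroup.card_eq_one.mp h)
  obtain ⟨q, hq, hqd⟩ := Nat.exists_prime_and_dvd hcard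
  have hqα := card_alphaCore_mem M q hq hqd
  have : Fact q.Prime := ⟨hq⟩
  obtain ⟨E, hEM, hEc, hEe, hE3⟩ := exists_elemAb_of_not_pRankLE hqα.2
  have hEα : E ≤ alphaCore M := le_alphaCore_of_isPGroup hG hU hM hqα (isPGroup_of_exp hEe) hEM
  obtain ⟨A₁, hA₁, hA₁c⟩ := exists_line hAea hA2
  obtain ⟨H, hH, hneH, hNH⟩ := hlines A₁ hA₁ hA₁c
  have hEU := inUniqueMaximal_of_elemAb_three hG hU hEc hEe hE3
  have hEH : E ≤ H := (hEα.trans hcent).trans
    ((Subgroup.centralizer_le (SetLike.coe_subset_coe.mpr hA₁)).trans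
      ((Subgroup.centralizer_le_normalizer _).trans hNH))
  exact hneH (hEU.unique ⟨hH, hEH⟩ ⟨hM, hEM⟩)

omit [Finite G] in
/-- nilpotency passes to the source of an injective homomorphism -/
theorem isNilpotent_of_injective {K L : Type*} [Group K] [Group L] (f : K →* L)
    (hf : Function.Injective f) (hL : Group.IsNilpotent L) : Group.IsNilpotent K := by
  have : Group.IsNilpotent ↥f.range := inferInstance
  exact Group.nilpotent_of_mulEquiv (MonoidHom.ofInjective hf).symm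

/-- step (2.5) of Bender–Glauberman 12.4: if `M_α = 1` then `M_σ` is nilpotent -/
theorem isNilpotent_sigmaCore_of_alphaCore_eq_bot (hG : IsMinSimpleOddOrder G) (hU : UniqHyp G)
    {M : Subgroup G} (hM : IsCoatom M) (hα : alphaCore M = ⊥) : Group.IsNilpotent ↥(sigmaCore M) := by
  have hN : piCore (alpha M) ↥M = ⊥ :=
    (Subgroup.map_eq_bot_iff_of_injective _ M.subtype_injective).mp hα
  have hnil := (alpha_statement hG hU M hM).2.2.2.2
  have hinj : Function.Injective (QuotientGroup.mk' (piCore (alpha M) ↥M)) := by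
    rw [← MonoidHom.ker_eq_bot_iff, QuotientGroup.ker_mk', hN]
  have hC : Group.IsNilpotent ↥(_root_.commutator ↥M) :=
    Group.nilpotent_of_mulEquiv (Subgroup.equivMapOfInjective _ _ hinj).symm
  have hK : Group.IsNilpotent ↥(piCore (sigma M) ↥M) :=
    isNilpotent_of_injective (Subgroup.inclusion (piCore_sigma_le_commutator hG hU M hM))
      (Subgroup.inclusion_injective _) hC
  exact Group.nilpotent_of_mulEquiv (Subgroup.equivMapOfInjective _ M.subtype M.subtype_injective)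

omit [Finite G] in
/-- a criterion for `M ≤ N_G(Z)` -/
theorem le_normalizer_of_conj_mem {M Z : Subgroup G}
    (h : ∀ m ∈ M, ∀ x ∈ Z, m * x * m⁻¹ ∈ Z) : M ≤ normalizer (Z : Set G) := by
  intro m hm
  rw [Subgroup.mem_normalizer_iff]
  intro x
  refine ⟨h m hm x, fun hx => ?_⟩
  have := h m⁻¹ (M.inv_mem hm) _ hx
  rwa [inv_inv, ← mul_assoc, ← mul_assoc, inv_mul_cancel, one_mul, mul_assoc, inv_mul_cancel,
    mul_one] at this

omit [Finite G] in
/-- the elementary abelian group generated by `A` and a central element of order `p` -/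
theorem elemAb_sup_zpowers {p : ℕ} {A : Subgroup G} {z : G}
    (hAc : ∀ a ∈ A, ∀ b ∈ A, a * b = b * a) (hAe : ∀ a ∈ A, a ^ p = 1)
    (hz : ∀ a ∈ A, a * z = z * a) (hzp : z ^ p = 1) :
    (∀ x ∈ A ⊔ zpowers z, ∀ y ∈ A ⊔ zpowers z, x * y = y * x) ∧ ∀ x ∈ A ⊔ zpowers z, x ^ p = 1 := by
  have hZc : ∀ a ∈ zpowers z, ∀ b ∈ zpowers z, a * b = b * a := by
    intro a ha b hb
    obtain ⟨k, rfl⟩ := Subgroup.mem_zpowers_iff.mp ha
    obtain ⟨l, rfl⟩ := Subgroup.mem_zpowers_iff.mp hb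
    exact (Commute.zpow_zpow_self z k l).eq
  have hZe : ∀ a ∈ zpowers z, a ^ p = 1 := by
    intro a ha
    obtain ⟨k, rfl⟩ := Subgroup.mem_zpowers_iff.mp ha
    rw [← zpow_natCast, ← zpow_mul, mul_comm, zpow_mul, zpow_natCast, hzp, one_zpow]
  have hAZ : ∀ a ∈ A, ∀ b ∈ zpowers z, a * b = b * a := by
    intro a ha b hb
    have := le_centralizer_zpowers (B := A) (z := z) hz ha
    rw [Subgroup.mem_centralizer_iff] at this
    exact (this b hb).symm
  exact elemAb_sup hAc hAe hZc hZe hAZ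

/-- **Bender–Glauberman, Proposition 12.4** (with the results of §11 as a hypothesis). -/
theorem prop124 (hG : IsMinSimpleOddOrder G) (hU : UniqHyp G) (h44 : H1444.{u})
    (h11 : H11 G) (h124 : H124 G) {M : Subgroup G}
    (hM : IsCoatom M) {p : ℕ} [Fact p.Prime] {A : Subgroup G} (hAM : A ≤ M)
    (hAea : IsElementaryAbelian p A) (hA2 : Nat.card ↥A = p ^ 2) :
    centralizer (A : Set G) ≤ M ∧
      ((∀ A₀ : Subgroup G, A₀ ≤ A → Nat.card ↥A₀ = p →
          ¬ (normalizer (A₀ : Set G) ≤ M ∧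
            ∀ L : Subgroup G, IsCoatom L → normalizer (A₀ : Set G) ≤ L → L = M)) →
        p ∈ sigma M ∧ alphaCore M = ⊥ ∧ Group.IsNilpotent ↥(sigmaCore M)) := by
  have hpp : p.Prime := Fact.out
  have hAc := comm_of_isElementaryAbelian hAea
  have hAp : IsPGroup p ↥A := isPGroup_of_exp hAea.2
  have hlines_of : (∀ A₀ : Subgroup G, A₀ ≤ A → Nat.card ↥A₀ = p →
      ¬ (normalizer (A₀ : Set G) ≤ M ∧
        ∀ L : Subgroup G, IsCoatom L → normalizer (A₀ : Set G) ≤ L → L = M)) →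
      ∀ A₀ : Subgroup G, A₀ ≤ A → Nat.card ↥A₀ = p →
        ∃ H : Subgroup G, IsCoatom H ∧ H ≠ M ∧ normalizer (A₀ : Set G) ≤ H :=
    fun hyp A₀ hA₀ hA₀c =>
      exists_coatom_ne hG hM (ne_bot_of_card_prime hA₀c) (hA₀.trans hAM) (hyp A₀ hA₀ hA₀c)
  have partb : (∀ A₀ : Subgroup G, A₀ ≤ A → Nat.card ↥A₀ = p →
      ¬ (normalizer (A₀ : Set G) ≤ M ∧
        ∀ L : Subgroup G, IsCoatom L → normalizer (A₀ : Set G) ≤ L → L = M)) →
      p ∈ sigma M ∧ alphaCore M = ⊥ ∧ Group.IsNilpotent ↥(sigmaCore M) := by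
    intro hyp
    have hlines := hlines_of hyp
    have hα := alphaCore_eq_bot_of_lines hG hU h44 h11 hM hAM hAea hA2 hlines
    have hnil := isNilpotent_sigmaCore_of_alphaCore_eq_bot hG hU hM hα
    refine ⟨?_, hα, hnil⟩
    by_contra hpσ
    apply h124 M hM p hpσ A ⟨hAM, hAea, hA2⟩ hα
    rw [Subgroup.le_centralizer_iff]
    apply le_centralizer_of_lines hAea hA2
    · intro hd
      exact hpσ (card_sigmaCore_mem M p hpp hd)
    · exact hAM.trans (le_normalizer_sigmaCore M)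
    · intro A₀ hA₀ hA₀c
      obtain ⟨H, hH, hne, hNH⟩ := hlines A₀ hA₀ hA₀c
      refine le_trans (inf_le_inf le_rfl ((Subgroup.centralizer_le_normalizer _).trans hNH)) ?_
      exact (lemma123 hG hU h44 h11 hM hH hne hAM hAea hA2 hA₀ hA₀c hNH).1 hpσ
  refine ⟨?_, partb⟩
  by_cases hyp : ∀ A₀ : Subgroup G, A₀ ≤ A → Nat.card ↥A₀ = p →
      ¬ (normalizer (A₀ : Set G) ≤ M ∧
        ∀ L : Subgroup G, IsCoatom L → normalizer (A₀ : Set G) ≤ L → L = M)
  · obtain ⟨hpσ, hα, hnil⟩ := partb hyp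
    have hlines := hlines_of hyp
    have hpα := not_mem_alpha_of_lines hG hU hM hAM hAea hA2 hlines
    have hr2 : PRankLE p 2 ↥M := by
      by_contra h
      exact hpα ⟨hpp, h⟩
    obtain ⟨P₀, hS₀⟩ := exists_sylM_of_mem_sigma hpσ
    obtain ⟨P, hS, hAP⟩ := exists_sylM_ge hS₀ hAp hAM
    have hPσ : P ≤ sigmaCore M :=
      le_sigmaCore_of_isPGroup hG hU h44 hM hpσ hS.1.isPGroup hS.2.1
    have hST : IsSylowIn p P (sigmaCore M) := hS.1.mono hPσ le_top
    have hMP : M ≤ normalizer (P : Set G) :=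
      le_normalizer_of_isSylowIn_nilpotent hnil (le_normalizer_sigmaCore M) hST
    have hcen : ∀ z ∈ P, (∀ y ∈ P, y * z = z * y) → z ^ p = 1 → z ∈ A := by
      intro z hzP hzc hzp
      have hB := elemAb_sup_zpowers hAc hAea.2 (fun a ha => hzc a (hAP ha)) hzp
      have hBA := maximal_of_rank_two hG hU hM hr2 hAM hAea hA2
        (isElementaryAbelian_of hB.1 hB.2) le_sup_left
      rw [← hBA]
      exact le_sup_right (a := A) (Subgroup.mem_zpowers z)
    have hA1 : A ≠ ⊥ := by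
      obtain ⟨A₁, hA₁, hA₁c⟩ := exists_line hAea hA2
      exact fun h => ne_bot_of_card_prime hA₁c (le_bot_iff.mp (h ▸ hA₁))
    have hP1 : P ≠ ⊥ := fun h => hA1 (le_bot_iff.mp (h ▸ hAP))
    have hZ1 : A ⊓ centralizer (P : Set G) ≠ ⊥ := by
      obtain ⟨z, hzP, hzc, hzo⟩ := exists_central_of_ne_bot hS.1.isPGroup hP1
      have hzp : z ^ p = 1 := by rw [← hzo]; exact pow_orderOf_eq_one z
      intro hbot
      have hz : z ∈ A ⊓ centralizer (P : Set G) := by
        refine Subgroup.mem_inf.mpr ⟨hcen z hzP hzc hzp, ?_⟩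
        rw [Subgroup.mem_centralizer_iff]
        exact hzc
      rw [hbot, Subgroup.mem_bot] at hz
      rw [hz, orderOf_one] at hzo
      exact hpp.one_lt.ne hzo
    have hMZ : M ≤ normalizer ((A ⊓ centralizer (P : Set G) : Subgroup G) : Set G) := by
      apply le_normalizer_of_conj_mem
      intro m hm x hx
      obtain ⟨hxA, hxC⟩ := Subgroup.mem_inf.mp hx
      rw [Subgroup.mem_centralizer_iff] at hxC
      have hmN := hMP hm
      have hxP : m * x * m⁻¹ ∈ P := (Subgroup.mem_normalizer_iff.mp hmN x).mp (hAP hxA)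
      have hc : ∀ y ∈ P, y * (m * x * m⁻¹) = m * x * m⁻¹ * y := by
        intro y hy
        have hy' : m⁻¹ * y * m ∈ P := by
          have := (Subgroup.mem_normalizer_iff.mp (Subgroup.inv_mem _ hmN) y).mp hy
          rwa [inv_inv] at this
        have h1 := hxC _ hy'
        calc y * (m * x * m⁻¹) = m * (m⁻¹ * y * m * x) * m⁻¹ := by group
          _ = m * (x * (m⁻¹ * y * m)) * m⁻¹ := by rw [h1]
          _ = m * x * m⁻¹ * y := by group
      refine Subgroup.mem_inf.mpr ⟨hcen _ hxP hc ?_, ?_⟩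
      · rw [conj_pow, hAea.2 x hxA, mul_one, mul_inv_cancel]
      · rw [Subgroup.mem_centralizer_iff]
        exact hc
    have hNZ := normalizer_eq_of_le hG hM hZ1 (inf_le_left.trans hAM) hMZ
    rw [← hNZ]
    exact (Subgroup.centralizer_le (SetLike.coe_subset_coe.mpr inf_le_left)).trans
      (Subgroup.centralizer_le_normalizer _)
  · push Not at hyp
    obtain ⟨A₀, hA₀, hA₀c, hN, -⟩ := hyp
    exact (Subgroup.centralizer_le (SetLike.coe_subset_coe.mpr hA₀)).trans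
      ((Subgroup.centralizer_le_normalizer _).trans hN)

open Cfsg.Agent.Lib.Helper49_FStarComm in
/-- **Bender–Glauberman, Theorem 12.5** (with the results of §11 as a hypothesis). -/
theorem thm125 (hG : IsMinSimpleOddOrder G) (hU : UniqHyp G) (h44 : H1444.{u})
    (h11 : H11 G) (h124 : H124 G) {M : Subgroup G}
    (hM : IsCoatom M) {p : ℕ} [Fact p.Prime] (hp : p ∈ tau2 M) {A : Subgroup G} (hAM : A ≤ M)
    (hAea : IsElementaryAbelian p A) (hA2 : Nat.card ↥A = p ^ 2) :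
    Group.IsNilpotent ↥(sigmaCore M) ∧
      (∀ P : Sylow p ↥M, IsMulCommutative ↥(P : Subgroup ↥M) ∧
        (A ≤ (P : Subgroup ↥M).map M.subtype →
          (∀ x ∈ (P : Subgroup ↥M).map M.subtype, x ^ p = 1 ↔ x ∈ A) ∧
          ¬ normalizer ((((P : Subgroup ↥M).map M.subtype : Subgroup G)) : Set G) ≤ M)) ∧
      M ≤ normalizer ((sigmaCore M ⊔ A : Subgroup G) : Set G) ∧
      sigmaCore M ⊓ centralizer (A : Set G) = ⊥ ∧
      (∀ Mstar : Subgroup G, IsCoatom Mstar → Mstar ≠ M → A ≤ Mstar → sigmaCore M ⊓ Mstar = ⊥) ∧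
      ∃ A₁ : Subgroup G, A₁ ≤ A ∧ Nat.card ↥A₁ = p ∧
        sigmaCore M ⊓ centralizer (A₁ : Set G) = ⊥ := by
  have hpp : p.Prime := Fact.out
  have hpσ : p ∉ sigma M := hp.2.1
  have hAp : IsPGroup p ↥A := isPGroup_of_exp hAea.2
  have hA1 : A ≠ ⊥ := by
    obtain ⟨A₁, hA₁, hA₁c⟩ := exists_line hAea hA2
    exact fun h => ne_bot_of_card_prime hA₁c (le_bot_iff.mp (h ▸ hA₁))
  have hex : ∃ A₀ : Subgroup G, A₀ ≤ A ∧ Nat.card ↥A₀ = p ∧ normalizer (A₀ : Set G) ≤ M := by
    by_contra hcon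
    push Not at hcon
    exact hpσ ((prop124 hG hU h44 h11 h124 hM hAM hAea hA2).2
      (fun A₀ hA₀ hA₀c h => hcon A₀ hA₀ hA₀c h.1)).1
  obtain ⟨A₀, hA₀, hA₀c, hN⟩ := hex
  have hexc : Cfsg.Agent.Lib.Helper35_BG11a.Exc M p A A₀ :=
    ⟨hM, hpσ, hAM, hAea, hA2, hA₀, hA₀c, hN⟩
  obtain ⟨h3, -, h5, h6a, h6b, h6c, h7⟩ := h11 p M A A₀ hexc
  refine ⟨h3, fun P => ⟨h5 P, fun hAP => ⟨h6a P hAP, ?_⟩⟩, h7, h6b, ?_, h6c⟩
  · intro hNP
    apply hpσ
    refine ⟨hpp, ?_, P, hNP⟩
    have h1 : p ∣ Nat.card ↥A := by rw [hA2]; exact dvd_pow_self p two_ne_zero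
    exact h1.trans (Subgroup.card_dvd_of_le hAM)
  · intro H hH hne hAH
    have hD : sigmaCore M ⊓ H ≤ centralizer (A : Set G) := by
      by_cases hc : ∃ A₀' : Subgroup G, A₀' ≤ A ∧ Nat.card ↥A₀' = p ∧
          normalizer (A₀' : Set G) ≤ H
      · obtain ⟨A₀', hA₀', hA₀'c, hN'⟩ := hc
        exact (lemma123 hG hU h44 h11 hM hH hne hAM hAea hA2 hA₀' hA₀'c hN').1 hpσ
      · push Not at hc
        obtain ⟨hCAH, hb⟩ := prop124 hG hU h44 h11 h124 hH hAH hAea hA2
        obtain ⟨hpσH, -, hnilH⟩ := hb (fun A₀' h1 h2 h3 => hc A₀' h1 h2 h3.1)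
        have hncM : ∀ g : G, M ≠ cj g H := by
          intro g hMg
          have h1 := cj_eq_of_le_cj hG hU hH hpσH hAp hA1 hAH hCAH (g := g)
            (by rw [← hMg]; exact hAM)
          exact hne (h1.symm.trans hMg.symm)
        have hdisj := (sigma_disjoint_nil hG hU h44 hH hM hncM hnilH).2
        have hAσH : A ≤ sigmaCore H := le_sigmaCore_of_isPGroup hG hU h44 hH hpσH hAp hAH
        have hAD : A ≤ normalizer ((sigmaCore M ⊓ H : Subgroup G) : Set G) :=
          le_normalizer_inf' (hAM.trans (le_normalizer_sigmaCore M)) (hAH.trans le_normalizer)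
        rw [← Subgroup.commutator_eq_bot_iff_le_centralizer, eq_bot_iff, ← hdisj]
        apply le_inf
        · exact commutator_le_of_le_normalizer_of_le
            (inf_le_right.trans (le_normalizer_sigmaCore H)) hAσH
        · exact (commutator_le_left_of_le_normalizer hAD).trans inf_le_left
    rw [eq_bot_iff, ← h6b]
    exact le_inf inf_le_left hD

end Cfsg.Agent.Lib.Helper52_BG12c
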