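import Mathlib
import Cfsg.Agent.Lib.Helper52_BG12c
import Cfsg.Agent.Lib.Helper73_BG12

/-!
# Bender–Glauberman §12, part 4 (helper52): Corollary 12.6 and 12.8–12.10

The results of §11 enter as the hypothesis `H11 G`; the last sub-case of 12.4(b) as `H124 G`.
-/

set_option autoImplicit false

namespace Cfsg.Agent.Lib.Helper52_BG12d

open scoped commutatorElement

open Subgroup Cfsg Cfsg.Agent.Lib.Helper49_Sigma Cfsg.Agent.Lib.Helper22_BGTrans
  Cfsg.Agent.Lib.Helper22_Radical Cfsg.Agent.Lib.Helper84_RelSylow Cfsg.Agent.Lib.Helper22_Uniq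
  Cfsg.Agent.Lib.Helper49_Alpha Cfsg.Agent.Lib.Helper49_Alpha2 Cfsg.Agent.Lib.Helper49_Alpha3
  Cfsg.Agent.Lib.Helper70_BG106 Cfsg.Agent.Lib.Helper70_BG1212 Cfsg.Agent.Lib.Helper70_BG1012
  Cfsg.Agent.Lib.Helper52_BG12a Cfsg.Agent.Lib.Helper52_BG12b Cfsg.Agent.Lib.Helper52_BG12c

universe u

variable {G : Type u} [Group G]

/-- `E ∩ K A = A` when `E ∩ K = 1`, `A ≤ E` and `A` normalizes `K` -/
theorem inf_sup_eq_of_inf_eq_bot {E K A : Subgroup G} (hEK : E ⊓ K = ⊥) (hAE : A ≤ E)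
    (hAK : A ≤ normalizer (K : Set G)) : E ⊓ (K ⊔ A) = A := by
  apply le_antisymm
  · intro x hx
    obtain ⟨hxE, hxKA⟩ := Subgroup.mem_inf.mp hx
    rw [sup_comm] at hxKA
    obtain ⟨a, ha, k, hk, rfl⟩ := Cfsg.Agent.Lib.Helper1_CRBasic.exists_mul_of_mem_sup hAK hxKA
    have hkE : k ∈ E := by
      have := E.mul_mem (E.inv_mem (hAE ha)) hxE
      rwa [inv_mul_cancel_left] at this
    have hk1 : k ∈ E ⊓ K := Subgroup.mem_inf.mpr ⟨hkE, hk⟩
    rw [hEK, Subgroup.mem_bot] at hk1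
    rw [hk1, mul_one]
    exact ha
  · exact le_inf hAE le_sup_right

variable [Finite G]

/-- **Bender–Glauberman, Corollary 12.6** (with the results of §11 as a hypothesis). -/
theorem cor126 (hG : IsMinSimpleOddOrder G) (hU : UniqHyp G) (h44 : H1444.{u})
    (h11 : H11 G) (h124 : H124 G) {M : Subgroup G}
    (hM : IsCoatom M) {E : Subgroup G} (hE : IsComplIn E (sigmaCore M) M) {p : ℕ} [Fact p.Prime]
    (hp : p ∈ tau2 M) {A : Subgroup G} (hAE : A ≤ E)
    (hAea : IsElementaryAbelian p A) (hA2 : Nat.card ↥A = p ^ 2) :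
    (E ≤ normalizer (A : Set G) ∧ ∀ X : Subgroup G, X ≤ E → Nat.card ↥X = p → X ≤ A) ∧
      (centralizer (A : Set G) ≤ M ⊓ normalizer (A : Set G) ∧ M ⊓ normalizer (A : Set G) = E ∧
        ¬ normalizer (A : Set G) ≤ M) ∧
      ∀ X : Subgroup G, X ≤ A → Nat.card ↥X = p → sigmaCore M ⊓ centralizer (X : Set G) ≠ ⊥ →
        (centralizer (X : Set G) ≤ M ∧
          ∀ L : Subgroup G, IsCoatom L → centralizer (X : Set G) ≤ L → L = M) := by
  have hpp : p.Prime := Fact.out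
  obtain ⟨hEM, hKM, hEK, hprod⟩ := hE
  have hAM : A ≤ M := hAE.trans hEM
  have hAc := comm_of_isElementaryAbelian hAea
  have hAp : IsPGroup p ↥A := isPGroup_of_exp hAea.2
  obtain ⟨hnil, hb, h7, h6b, hstrong, -⟩ := thm125 hG hU h44 h11 h124 hM hp hAM hAea hA2
  have hCAM := (prop124 hG hU h44 h11 h124 hM hAM hAea hA2).1
  have hAK : A ≤ normalizer ((sigmaCore M : Subgroup G) : Set G) :=
    hAM.trans (le_normalizer_sigmaCore M)
  have hEKA : E ⊓ (sigmaCore M ⊔ A) = A := inf_sup_eq_of_inf_eq_bot hEK hAE hAK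
  -- (a1)
  have hEN : E ≤ normalizer (A : Set G) := by
    apply le_normalizer_of_conj_mem
    intro e he a ha
    rw [← hEKA]
    refine Subgroup.mem_inf.mpr ⟨E.mul_mem (E.mul_mem he (hAE ha)) (E.inv_mem he), ?_⟩
    exact (Subgroup.mem_normalizer_iff.mp (h7 (hEM he)) a).mp (le_sup_right (a := sigmaCore M) ha)
  -- a Sylow `p`-subgroup of `M` over a `p`-subgroup `B ⊇ A` of `M`
  have hsyl : ∀ B : Subgroup G, A ≤ B → B ≤ M → IsPGroup p ↥B →
      ∃ P : Sylow p ↥M, B ≤ (P : Subgroup ↥M).map M.subtype := by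
    intro B hAB hBM hBp
    obtain ⟨P, hBP, hPS⟩ := exists_isSylowIn_ge hBM hBp
    refine ⟨hPS.toSylow, ?_⟩
    rw [hPS.coe_toSylow, Subgroup.map_subgroupOf_eq_of_le hPS.le]
    exact hBP
  -- (a2)
  have hord : ∀ X : Subgroup G, X ≤ E → Nat.card ↥X = p → X ≤ A := by
    intro X hXE hXc
    have hXp : IsPGroup p ↥X := IsPGroup.of_card (n := 1) (by rw [hXc, pow_one])
    have hBp : IsPGroup p ↥(X ⊔ A : Subgroup G) :=
      IsPGroup.to_sup_of_normal_right' hXp hAp (hXE.trans hEN)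
    obtain ⟨P, hBP⟩ := hsyl (X ⊔ A) le_sup_right (sup_le (hXE.trans hEM) hAM) hBp
    intro x hx
    have hxp : x ^ p = 1 := by
      have := pow_card_eq_one' (G := ↥X) (x := ⟨x, hx⟩)
      rw [hXc] at this
      exact congrArg Subtype.val this
    exact (((hb P).2 (le_sup_right.trans hBP)).1 x (hBP (le_sup_left (b := A) hx))).mp hxp
  refine ⟨⟨hEN, hord⟩, ⟨le_inf hCAM (Subgroup.centralizer_le_normalizer _), ?_, ?_⟩, ?_⟩
  · -- (b2)
    apply le_antisymm
    · intro m hm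
      obtain ⟨hmM, hmN⟩ := Subgroup.mem_inf.mp hm
      obtain ⟨e, he, s, hs, rfl⟩ := hprod m hmM
      have hsN : s ∈ normalizer (A : Set G) := by
        have := (normalizer (A : Set G)).mul_mem ((normalizer (A : Set G)).inv_mem (hEN he)) hmN
        rwa [inv_mul_cancel_left] at this
      have hsC : s ∈ centralizer (A : Set G) := by
        rw [Subgroup.mem_centralizer_iff]
        intro a ha
        have h1 : s * a * s⁻¹ * a⁻¹ ∈ A :=
          A.mul_mem ((Subgroup.mem_normalizer_iff.mp hsN a).mp ha) (A.inv_mem ha)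
        have h2 : s * a * s⁻¹ * a⁻¹ ∈ sigmaCore M := by
          have h3 : a * s⁻¹ * a⁻¹ ∈ sigmaCore M :=
            (Subgroup.mem_normalizer_iff.mp (hAK ha) s⁻¹).mp ((sigmaCore M).inv_mem hs)
          have := (sigmaCore M).mul_mem hs h3
          rwa [← mul_assoc, ← mul_assoc] at this
        have h4 : s * a * s⁻¹ * a⁻¹ ∈ E ⊓ sigmaCore M := Subgroup.mem_inf.mpr ⟨hAE h1, h2⟩
        rw [hEK, Subgroup.mem_bot] at h4
        have h5 : s * a * s⁻¹ = a := by
          have := congrArg (· * a) h4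
          simpa using this
        have h6 := congrArg (· * s) h5
        simpa using h6.symm
      have hs1 : s ∈ sigmaCore M ⊓ centralizer (A : Set G) := Subgroup.mem_inf.mpr ⟨hs, hsC⟩
      rw [h6b, Subgroup.mem_bot] at hs1
      rw [hs1, mul_one]
      exact he
    · exact le_inf hEM hEN
  · -- (b3)
    intro hNM
    obtain ⟨P, hAP⟩ := hsyl A le_rfl hAM hAp
    obtain ⟨hΩ, hnot⟩ := (hb P).2 hAP
    apply hnot
    refine le_trans ?_ hNM
    apply le_normalizer_of_conj_mem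
    intro g hg a ha
    have h1 : g * a * g⁻¹ ∈ (P : Subgroup ↥M).map M.subtype :=
      (Subgroup.mem_normalizer_iff.mp hg a).mp (hAP ha)
    apply (hΩ _ h1).mp
    rw [conj_pow, hAea.2 a ha, mul_one, mul_inv_cancel]
  · -- (c)
    intro X hXA hXc hne
    have hX1 : X ≠ ⊥ := ne_bot_of_card_prime hXc
    have hAX : A ≤ centralizer (X : Set G) := le_centralizer_of_comm hAc hXA
    have hall : ∀ L : Subgroup G, IsCoatom L → centralizer (X : Set G) ≤ L → L = M := by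
      intro L hL hXL
      by_contra hLM
      apply hne
      rw [eq_bot_iff, ← hstrong L hL hLM (hAX.trans hXL)]
      exact inf_le_inf le_rfl hXL
    have htop : centralizer (X : Set G) ≠ ⊤ := by
      intro h
      apply normalizer_ne_top hG hX1 (ne_top_of_le_ne_top hM.1 (hXA.trans hAM))
      rw [eq_top_iff, ← h]
      exact Subgroup.centralizer_le_normalizer _
    obtain ⟨L, hL, hXL⟩ := exists_isCoatom_ge htop
    have hLM := hall L hL hXL
    exact ⟨hLM ▸ hXL, hall⟩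

/-! ### Nilpotent `σ(M)'`-subgroups are abelian -/

/-- a finite nilpotent group with abelian Sylow subgroups is abelian -/
theorem comm_of_nilpotent_of_sylow {N : Type*} [Group N] [Finite N] [Group.IsNilpotent N]
    (h : ∀ (q : ℕ) [Fact q.Prime] (Q : Sylow q N), ∀ a ∈ Q, ∀ b ∈ Q, a * b = b * a) :
    ∀ a b : N, a * b = b * a := by
  have hnil : Group.IsNilpotent N := inferInstance
  obtain ⟨φ⟩ := ((Group.isNilpotent_of_finite_tfae (G := N)).out 0 4).mp hnil
  intro a b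
  have h1 : φ.symm a * φ.symm b = φ.symm b * φ.symm a := by
    funext q Q
    have : Fact (q : ℕ).Prime := ⟨Nat.prime_of_mem_primeFactors q.2⟩
    exact Subtype.ext (h q Q _ (φ.symm a q Q).2 _ (φ.symm b q Q).2)
  have h2 := congrArg φ h1
  simpa using h2

/-- `σ(M)`-subgroups of `M` lie in `M_σ` -/
theorem le_sigmaCore_of_primes (hG : IsMinSimpleOddOrder G) (hU : UniqHyp G) (h44 : H1444.{u})
    {M : Subgroup G} (hM : IsCoatom M) {X : Subgroup G} (hXM : X ≤ M)
    (hX : ∀ q : ℕ, q.Prime → q ∣ Nat.card ↥X → q ∈ sigma M) : X ≤ sigmaCore M := by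
  have h1 : X.subgroupOf M ≤ piCore (sigma M) ↥M := by
    apply le_of_coprime_index
    rw [Cfsg.Agent.Lib.Helper1_Transport.card_subgroupOf hXM]
    apply Nat.coprime_of_dvd
    intro q hq hqX hqi
    exact not_dvd_index_piCore_sigma hG hU h44 M hM (hX q hq hqX) hqi
  rw [← Subgroup.map_subgroupOf_eq_of_le hXM]
  exact Subgroup.map_mono h1

/-- `q`-subgroups of `M` are abelian for `q ∉ σ(M)` -/
theorem comm_of_isPGroup_of_not_mem_sigma (hG : IsMinSimpleOddOrder G) (hU : UniqHyp G)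
    (h44 : H1444.{u}) (h11 : H11 G) (h124 : H124 G) {M : Subgroup G} (hM : IsCoatom M) {q : ℕ}
    [Fact q.Prime] (hq : q ∉ sigma M) {Q : Subgroup G} (hQM : Q ≤ M) (hQ : IsPGroup q ↥Q) :
    ∀ a ∈ Q, ∀ b ∈ Q, a * b = b * a := by
  have hqp : q.Prime := Fact.out
  by_cases hQ1 : Q = ⊥
  · intro a ha b hb
    rw [hQ1, Subgroup.mem_bot] at ha hb
    rw [ha, hb]
  by_cases hr1 : PRankLE q 1 ↥M
  · have hq2 : q ≠ 2 := ne_two_of_isPGroup hG hQ hQ1
    have hr : PRankLE q 1 ↥Q :=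
      Cfsg.Agent.Lib.Helper2_PRank.pRankLE_of_injective' q 1 (Subgroup.inclusion hQM)
        (Subgroup.inclusion_injective hQM) hr1
    have hcyc : IsCyclic ↥Q := Cfsg.Agent.Lib.Helper29_BG12a.isCyclic_of_pRankLE_one hq2 hQ hr
    intro a ha b hb
    have := (IsCyclic.isMulCommutative (α := ↥Q)).is_comm.comm ⟨a, ha⟩ ⟨b, hb⟩
    exact congrArg Subtype.val this
  · have hr2 : PRankLE q 2 ↥M := by
      by_contra h
      exact hq (mem_sigma_of_mem_alpha hG hU hM ⟨hqp, h⟩)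
    have hτ : q ∈ tau2 M := ⟨hqp, hq, hr2, hr1⟩
    obtain ⟨A, hAM, hAea, hA2⟩ := exists_elemAb_sq hr2 hr1
    obtain ⟨-, hsyl, -⟩ := thm125 hG hU h44 h11 h124 hM hτ hAM hAea hA2
    have hQ' : IsPGroup q ↥(Q.subgroupOf M) :=
      hQ.comap_of_injective M.subtype M.subtype_injective
    obtain ⟨P, hQP⟩ := hQ'.exists_le_sylow
    intro a ha b hb
    have haM : (⟨a, hQM ha⟩ : ↥M) ∈ (P : Subgroup ↥M) := hQP (Subgroup.mem_subgroupOf.mpr ha)
    have hbM : (⟨b, hQM hb⟩ : ↥M) ∈ (P : Subgroup ↥M) := hQP (Subgroup.mem_subgroupOf.mpr hb)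
    have := (hsyl P).1.is_comm.comm (⟨_, haM⟩ : ↥(P : Subgroup ↥M)) ⟨_, hbM⟩
    exact congrArg (fun x : ↥(P : Subgroup ↥M) => ((x : ↥M) : G)) this

/-- nilpotent `σ(M)'`-subgroups of `M` are abelian -/
theorem isMulCommutative_of_nilpotent (hG : IsMinSimpleOddOrder G) (hU : UniqHyp G)
    (h44 : H1444.{u}) (h11 : H11 G) (h124 : H124 G) {M : Subgroup G} (hM : IsCoatom M)
    {N : Subgroup G} (hNM : N ≤ M) (hnil : Group.IsNilpotent ↥N)
    (hN : ∀ p : ℕ, p.Prime → p ∣ Nat.card ↥N → p ∉ sigma M) : IsMulCommutative ↥N := by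
  refine ⟨⟨fun a b => ?_⟩⟩
  apply comm_of_nilpotent_of_sylow
  intro q _ Q x hx y hy
  have hqp : q.Prime := Fact.out
  by_cases hd : q ∣ Nat.card ↥N
  · have hQ' : IsPGroup q ↥((Q : Subgroup ↥N).map N.subtype) := Q.2.map N.subtype
    have := comm_of_isPGroup_of_not_mem_sigma hG hU h44 h11 h124 hM (hN q hqp hd)
      ((Subgroup.map_subtype_le _).trans hNM) hQ' x.1 ⟨x, hx, rfl⟩ y.1 ⟨y, hy, rfl⟩
    exact Subtype.ext this
  · have hQ1 : (Q : Subgroup ↥N) = ⊥ := by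
      obtain ⟨k, hk⟩ := IsPGroup.iff_card.mp Q.2
      have hk0 : k = 0 := by
        by_contra hk0
        apply hd
        have h1 : q ∣ Nat.card ↥(Q : Subgroup ↥N) := by rw [hk]; exact dvd_pow_self q hk0
        exact h1.trans (Subgroup.card_subgroup_dvd_card _)
      rw [hk0, pow_zero] at hk
      exact Subgroup.card_eq_one.mp hk
    have hx' : x ∈ (Q : Subgroup ↥N) := hx
    have hy' : y ∈ (Q : Subgroup ↥N) := hy
    rw [hQ1, Subgroup.mem_bot] at hx' hy'
    rw [hx', hy']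

omit [Finite G] in
/-- the order of a complement of `M_σ` is the index of `M_σ` -/
theorem card_compl {M E : Subgroup G} (hE : IsComplIn E (sigmaCore M) M) :
    Nat.card ↥E = (piCore (sigma M) ↥M).index := by
  rw [Subgroup.index_eq_card]
  exact Nat.card_congr (Equiv.ofBijective _
    ⟨Cfsg.Agent.Lib.Helper29_BG12b.toQuot_injective hE,
      Cfsg.Agent.Lib.Helper29_BG12b.toQuot_surjective hE⟩)

/-- the primes dividing the order of a complement of `M_σ` are not in `σ(M)` -/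
theorem not_mem_sigma_of_dvd_card_compl (hG : IsMinSimpleOddOrder G) (hU : UniqHyp G)
    (h44 : H1444.{u}) {M E : Subgroup G} (hM : IsCoatom M) (hE : IsComplIn E (sigmaCore M) M)
    {q : ℕ} (hd : q ∣ Nat.card ↥E) : q ∉ sigma M := by
  intro hq
  rw [card_compl hE] at hd
  exact not_dvd_index_piCore_sigma hG hU h44 M hM hq hd

/-- `E'` is abelian -/
theorem isMulCommutative_commutator_compl (hG : IsMinSimpleOddOrder G) (hU : UniqHyp G)
    (h44 : H1444.{u}) (h11 : H11 G) (h124 : H124 G) {M : Subgroup G} (hM : IsCoatom M)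
    {E : Subgroup G} (hE : IsComplIn E (sigmaCore M) M) : IsMulCommutative ↥⁅E, E⁆ := by
  have hle : ⁅E, E⁆ ≤ E := by
    rw [Subgroup.commutator_le]
    intro a ha b hb
    exact E.mul_mem (E.mul_mem (E.mul_mem ha hb) (E.inv_mem ha)) (E.inv_mem hb)
  apply isMulCommutative_of_nilpotent hG hU h44 h11 h124 hM (hle.trans hE.1)
    (Cfsg.Agent.Lib.Helper29_BG12b.isNilpotent_commutator_compl hG hU hM hE)
  intro p _ hd
  exact not_mem_sigma_of_dvd_card_compl hG hU h44 hM hE (hd.trans (Subgroup.card_dvd_of_le hle))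

/-! ### `τ₂(M)`-subgroups of a complement are abelian -/

open Cfsg.Agent.Lib.Helper24_CoprimeHall in
/-- a complement of `M_σ` is a Hall `σ(M)'`-subgroup of `M` -/
theorem piHall_compl (hG : IsMinSimpleOddOrder G) (hU : UniqHyp G) (h44 : H1444.{u})
    {M E : Subgroup G} (hM : IsCoatom M) (hE : IsComplIn E (sigmaCore M) M) :
    PiHall {q | q.Prime ∧ q ∉ sigma M} E M := by
  refine ⟨hE.1, fun q hq hd => ⟨hq, not_mem_sigma_of_dvd_card_compl hG hU h44 hM hE hd⟩, ?_⟩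
  intro q hq hqπ hd
  have h1 : Nat.card ↥M / Nat.card ↥E = Nat.card ↥(piCore (sigma M) ↥M) := by
    rw [card_compl hE, ← Subgroup.index_mul_card (piCore (sigma M) ↥M),
      Nat.mul_div_cancel_left _ (Nat.pos_of_ne_zero (Subgroup.index_ne_zero_of_finite))]
  rw [h1] at hd
  exact hqπ.2 (Cfsg.Agent.Lib.Helper32_Cores.card_piCore _ q hq hd)

omit [Finite G] in
/-- conjugates of elementary abelian subgroups are elementary abelian -/
theorem isElementaryAbelian_cj {p : ℕ} {A : Subgroup G} (hA : IsElementaryAbelian p A) (g : G) :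
    IsElementaryAbelian p (cj g A) := by
  have hAc := comm_of_isElementaryAbelian hA
  apply isElementaryAbelian_of
  · rintro _ ⟨a, ha, rfl⟩ _ ⟨b, hb, rfl⟩
    rw [← map_mul, ← map_mul, hAc a ha b hb]
  · rintro _ ⟨a, ha, rfl⟩
    rw [← map_pow, hA.2 a ha, map_one]

open Cfsg.Agent.Lib.Helper24_CoprimeHall in
/-- a `σ(M)'`-subgroup of `M` is conjugate in `M` to a subgroup of a given complement of `M_σ` -/
theorem exists_cj_le_compl (hG : IsMinSimpleOddOrder G) (hU : UniqHyp G) (h44 : H1444.{u})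
    {M E : Subgroup G} (hM : IsCoatom M) (hE : IsComplIn E (sigmaCore M) M) {X : Subgroup G}
    (hXM : X ≤ M) (hX : ∀ q : ℕ, q.Prime → q ∣ Nat.card ↥X → q ∉ sigma M) :
    ∃ g ∈ M, cj g X ≤ E := by
  have hsolv : Group.IsSolvable ↥M := hG.2.2.2 M hM.1
  obtain ⟨H, hH, hXH⟩ := exists_piHall_ge (π := {q | q.Prime ∧ q ∉ sigma M}) hsolv hXM
    (fun q hq hd => ⟨hq, hX q hq hd⟩)
  obtain ⟨g, hg, hgH⟩ := piHall_conj hsolv hH (piHall_compl hG hU h44 hM hE)
  refine ⟨g, hg, ?_⟩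
  rw [← hgH]
  exact cj_mono hXH

/-- a complement of `M_σ` contains an elementary abelian subgroup of order `p ^ 2` for `p ∈ τ₂(M)` -/
theorem exists_elemAb_sq_le_compl (hG : IsMinSimpleOddOrder G) (hU : UniqHyp G) (h44 : H1444.{u})
    {M E : Subgroup G} (hM : IsCoatom M) (hE : IsComplIn E (sigmaCore M) M) {p : ℕ} [Fact p.Prime]
    (hp : p ∈ tau2 M) : ∃ A : Subgroup G, A ≤ E ∧ IsElementaryAbelian p A ∧ Nat.card ↥A = p ^ 2 := by
  have hpp : p.Prime := Fact.out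
  obtain ⟨A, hAM, hAea, hA2⟩ := exists_elemAb_sq hp.2.2.1 hp.2.2.2
  obtain ⟨g, -, hg⟩ := exists_cj_le_compl hG hU h44 hM hE hAM (by
    intro q hq hd
    rw [hA2] at hd
    have := (Nat.prime_dvd_prime_iff_eq hq hpp).mp (hq.dvd_of_dvd_pow hd)
    rw [this]
    exact hp.2.1)
  exact ⟨cj g A, hg, isElementaryAbelian_cj hAea g, by rw [card_cj, hA2]⟩

/-- a Sylow `p`-subgroup of `M` over a `p`-subgroup `B` of `M` -/
theorem exists_sylow_map_ge {M B : Subgroup G} {p : ℕ} [Fact p.Prime] (hBM : B ≤ M)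
    (hBp : IsPGroup p ↥B) : ∃ P : Sylow p ↥M, B ≤ (P : Subgroup ↥M).map M.subtype := by
  obtain ⟨P, hBP, hPS⟩ := exists_isSylowIn_ge hBM hBp
  refine ⟨hPS.toSylow, ?_⟩
  rw [hPS.coe_toSylow, Subgroup.map_subgroupOf_eq_of_le hPS.le]
  exact hBP

omit [Finite G] in
/-- if `A` is the set of elements of order dividing `p` of `P`, then `N_G(P) ≤ N_G(A)` -/
theorem normalizer_le_normalizer_of_omega {P A : Subgroup G} {p : ℕ} (hAP : A ≤ P)
    (hΩ : ∀ x ∈ P, x ^ p = 1 ↔ x ∈ A) : normalizer (P : Set G) ≤ normalizer (A : Set G) := by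
  apply le_normalizer_of_conj_mem
  intro g hg a ha
  have h1 : g * a * g⁻¹ ∈ P := (Subgroup.mem_normalizer_iff.mp hg a).mp (hAP ha)
  apply (hΩ _ h1).mp
  rw [conj_pow, (hΩ a (hAP ha)).mpr ha, mul_one, mul_inv_cancel]

open Cfsg.Agent.Lib.Helper49_FStarComm in
/-- for `p ∈ τ₂(M)`, `A ∈ E_p²(E)` and a maximal subgroup `H ⊇ N_G(A)`: `H ≠ M`, `E ≤ H`,
`p ∈ σ(H)` and `τ₂(M) ⊆ σ(H)` -/
theorem tau2_subset_sigma_of_normalizer_le (hG : IsMinSimpleOddOrder G) (hU : UniqHyp G)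
    (h44 : H1444.{u}) (h11 : H11 G) (h124 : H124 G) {M : Subgroup G}
    (hM : IsCoatom M) {E : Subgroup G} (hE : IsComplIn E (sigmaCore M) M) {p : ℕ} [Fact p.Prime]
    (hp : p ∈ tau2 M) {A : Subgroup G} (hAE : A ≤ E)
    (hAea : IsElementaryAbelian p A) (hA2 : Nat.card ↥A = p ^ 2) {H : Subgroup G}
    (hH : IsCoatom H) (hNH : normalizer (A : Set G) ≤ H) :
    H ≠ M ∧ E ≤ H ∧ p ∈ sigma H ∧ ∀ r : ℕ, r ∈ tau2 M → r ∈ sigma H := by
  have hpp : p.Prime := Fact.out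
  have hAp : IsPGroup p ↥A := isPGroup_of_exp hAea.2
  have hA1 : A ≠ ⊥ := by
    obtain ⟨A₁, hA₁, hA₁c⟩ := exists_line hAea hA2
    exact fun h => ne_bot_of_card_prime hA₁c (le_bot_iff.mp (h ▸ hA₁))
  obtain ⟨⟨hEN, -⟩, ⟨-, -, hnot⟩, -⟩ := cor126 hG hU h44 h11 h124 hM hE hp hAE hAea hA2
  have hAH : A ≤ H := le_normalizer.trans hNH
  have hEH : E ≤ H := hEN.trans hNH
  have hpσH : p ∈ sigma H := by
    rcases mem_sigma_or_tau2 hG hU hH hAp hA1 hNH with h | h
    · exact h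
    · exfalso
      obtain ⟨-, hb, -⟩ := thm125 hG hU h44 h11 h124 hH h hAH hAea hA2
      obtain ⟨P, hAP⟩ := exists_sylow_map_ge hAH hAp
      obtain ⟨hΩ, hnot'⟩ := (hb P).2 hAP
      exact hnot' ((normalizer_le_normalizer_of_omega hAP hΩ).trans hNH)
  refine ⟨?_, hEH, hpσH, ?_⟩
  · rintro rfl
    exact hnot hNH
  · intro r hr
    by_contra hrσ
    have hrp : r.Prime := hr.1
    have : Fact r.Prime := ⟨hrp⟩
    have hne : r ≠ p := by
      rintro rfl
      exact hrσ hpσH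
    obtain ⟨B, hBE, hBea, hB2⟩ := exists_elemAb_sq_le_compl hG hU h44 hM hE hr
    have hBH : B ≤ H := hBE.trans hEH
    have hBc := comm_of_isElementaryAbelian hBea
    have hr1 : ¬ PRankLE r 1 ↥H := by
      apply not_pRankLE_of_elemAb hBH hBc hBea.2
      rw [hB2, pow_one]
      nlinarith [hrp.one_lt]
    have hr2 : PRankLE r 2 ↥H := by
      by_contra h
      exact hrσ (mem_sigma_of_mem_alpha hG hU hH ⟨hrp, h⟩)
    have hτH : r ∈ tau2 H := ⟨hrp, hrσ, hr2, hr1⟩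
    obtain ⟨-, -, -, hd, -⟩ := thm125 hG hU h44 h11 h124 hH hτH hBH hBea hB2
    obtain ⟨⟨hENB, -⟩, -⟩ := cor126 hG hU h44 h11 h124 hM hE hr hBE hBea hB2
    have hAσ : A ≤ sigmaCore H := le_sigmaCore_of_isPGroup hG hU h44 hH hpσH hAp hAH
    have hdisj : A ⊓ B = ⊥ := by
      apply disjoint_iff.mp
      apply Subgroup.disjoint_of_coprime_natCard
      rw [hA2, hB2]
      apply Nat.Coprime.pow
      rw [Nat.coprime_primes hpp hrp]
      exact hne.symm
    have hAB : A ≤ centralizer (B : Set G) := by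
      rw [← Subgroup.commutator_eq_bot_iff_le_centralizer, eq_bot_iff, ← hdisj]
      apply le_inf
      · rw [Subgroup.commutator_comm]
        exact commutator_le_of_le_normalizer_of_le (hBE.trans hEN) le_rfl
      · exact commutator_le_of_le_normalizer_of_le (hAE.trans hENB) le_rfl
    apply hA1
    rw [eq_bot_iff, ← hd]
    exact le_inf hAσ hAB

/-- the primes of `τ₂(M)` are not ideal -/
theorem not_isIdealPrime_of_mem_tau2 (hG : IsMinSimpleOddOrder G) (hU : UniqHyp G)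
    {M : Subgroup G} (hM : IsCoatom M) {r : ℕ} (hr : r ∈ tau2 M) : ¬ IsIdealPrime r G := by
  rintro ⟨hrp, -, h3⟩
  have : Fact r.Prime := ⟨hrp⟩
  obtain ⟨A, hAM, hAea, hA2⟩ := exists_elemAb_sq hr.2.2.1 hr.2.2.2
  obtain ⟨P, hAP⟩ := (isPGroup_of_exp hAea.2 : IsPGroup r ↥A).exists_le_sylow
  obtain ⟨B, -, hBea, hAB⟩ := h3 P A hAP hAea hA2
  exact hAB.ne (maximal_of_rank_two hG hU hM hr.2.2.1 hAM hAea hA2 hBea hAB.le).symm

open Cfsg.Agent.Lib.Helper24_CoprimeHall in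
/-- **`τ₂(M)`-subgroups of a complement of `M_σ` are abelian** (Bender–Glauberman 12.8–12.10) -/
theorem comm_of_tau2_subgroup (hG : IsMinSimpleOddOrder G) (hU : UniqHyp G)
    (h44 : H1444.{u}) (h11 : H11 G) (h124 : H124 G) {M : Subgroup G}
    (hM : IsCoatom M) {E : Subgroup G} (hE : IsComplIn E (sigmaCore M) M) {Y : Subgroup G}
    (hYE : Y ≤ E) (hY : ∀ r : ℕ, r.Prime → r ∣ Nat.card ↥Y → r ∈ tau2 M) :
    ∀ a ∈ Y, ∀ b ∈ Y, a * b = b * a := by
  by_cases hY1 : Y = ⊥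
  · intro a ha b hb
    rw [hY1, Subgroup.mem_bot] at ha hb
    rw [ha, hb]
  have hcard : Nat.card ↥Y ≠ 1 := fun h => hY1 (Subgroup.card_eq_one.mp h)
  obtain ⟨p, hpp, hpd⟩ := Nat.exists_prime_and_dvd hcard
  have : Fact p.Prime := ⟨hpp⟩
  have hp := hY p hpp hpd
  obtain ⟨A, hAE, hAea, hA2⟩ := exists_elemAb_sq_le_compl hG hU h44 hM hE hp
  have hA1 : A ≠ ⊥ := by
    obtain ⟨A₁, hA₁, hA₁c⟩ := exists_line hAea hA2
    exact fun h => ne_bot_of_card_prime hA₁c (le_bot_iff.mp (h ▸ hA₁))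
  have hNtop : normalizer (A : Set G) ≠ ⊤ :=
    normalizer_ne_top hG hA1 (ne_top_of_le_ne_top hM.1 (hAE.trans hE.1))
  obtain ⟨H, hH, hNH⟩ := exists_isCoatom_ge hNtop
  obtain ⟨-, hEH, -, hτσ⟩ :=
    tau2_subset_sigma_of_normalizer_le hG hU h44 h11 h124 hM hE hp hAE hAea hA2 hH hNH
  have hYσ : Y ≤ sigmaCore H :=
    le_sigmaCore_of_primes hG hU h44 hH (hYE.trans hEH) (fun r hr hd => hτσ r (hY r hr hd))
  obtain ⟨K, hK, hKnil⟩ := (Cfsg.Agent.Lib.Helper70_BG108.beta_statement hG hU h44 H hH).2.2.2.1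
  rw [isPiHallOf_iff] at hK
  have hsolvH : Group.IsSolvable ↥H := hG.2.2.2 H hH.1
  have hsolv : Group.IsSolvable ↥(sigmaCore H) :=
    Group.isSolvable_of_isSolvable_injective (f := Subgroup.inclusion (sigmaCore_le H))
      (Subgroup.inclusion_injective _)
  obtain ⟨K', hK', hYK'⟩ := exists_piHall_ge (π := {q | q.Prime ∧ q ∉ beta H}) hsolv hYσ
    (fun r hr hd => ⟨hr, fun hβ => not_isIdealPrime_of_mem_tau2 hG hU hM (hY r hr hd) hβ.2⟩)
  obtain ⟨g, -, hg⟩ := piHall_conj hsolv hK' hK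
  have hK'nil : Group.IsNilpotent ↥K' := by
    have e := Subgroup.equivMapOfInjective K' (MulAut.conj g).toMonoidHom (MulAut.conj g).injective
    rw [hg] at e
    exact Group.nilpotent_of_mulEquiv e.symm
  have hYnil : Group.IsNilpotent ↥Y :=
    isNilpotent_of_injective (Subgroup.inclusion hYK') (Subgroup.inclusion_injective _) hK'nil
  have hcomm := isMulCommutative_of_nilpotent hG hU h44 h11 h124 hM (hYE.trans hE.1) hYnil
    (fun r hr hd => (hY r hr hd).2.1)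
  intro a ha b hb
  have := hcomm.is_comm.comm ⟨a, ha⟩ ⟨b, hb⟩
  exact congrArg Subtype.val this

omit [Finite G] in
/-- `M`-conjugates of complements are complements -/
theorem isComplIn_cj {E K M : Subgroup G} (hE : IsComplIn E K M) {g : G} (hg : g ∈ M)
    (hMK : M ≤ normalizer (K : Set G)) : IsComplIn (cj g E) K M := by
  obtain ⟨hEM, hKM, hEK, hprod⟩ := hE
  have hgi : g⁻¹ ∈ M := M.inv_mem hg
  refine ⟨?_, hKM, ?_, ?_⟩
  · have := cj_mono (k := g) hEM
    rwa [cj_self_of_mem hg] at this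
  · rw [eq_bot_iff]
    intro y hy
    obtain ⟨hyE, hyK⟩ := Subgroup.mem_inf.mp hy
    rw [mem_cj] at hyE
    have hyK' : g⁻¹ * y * g ∈ K := by
      have := (Subgroup.mem_normalizer_iff.mp (hMK hgi) y).mp hyK
      rwa [inv_inv] at this
    have h1 : g⁻¹ * y * g ∈ E ⊓ K := Subgroup.mem_inf.mpr ⟨hyE, hyK'⟩
    rw [hEK, Subgroup.mem_bot] at h1
    rw [Subgroup.mem_bot]
    have h2 : y = g * (g⁻¹ * y * g) * g⁻¹ := by group
    rw [h2, h1, mul_one, mul_inv_cancel]
  · intro m hm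
    obtain ⟨e, he, s, hs, hes⟩ := hprod (g⁻¹ * m * g) (M.mul_mem (M.mul_mem hgi hm) hg)
    refine ⟨g * e * g⁻¹, ?_, g * s * g⁻¹, (Subgroup.mem_normalizer_iff.mp (hMK hg) s).mp hs, ?_⟩
    · rw [mem_cj]
      have : g⁻¹ * (g * e * g⁻¹) * g = e := by group
      rw [this]
      exact he
    · have h2 : m = g * (g⁻¹ * m * g) * g⁻¹ := by group
      rw [h2, hes]
      group

/-- **Bender–Glauberman 12.10(c)**: the centralizer of a `τ₂(M)`-element of `M` centralizing a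
non-identity element of `M_σ` lies in `M` and in no other maximal subgroup -/
theorem centralizer_le_of_tau2_element (hG : IsMinSimpleOddOrder G) (hU : UniqHyp G)
    (h44 : H1444.{u}) (h11 : H11 G) (h124 : H124 G) {M : Subgroup G}
    (hM : IsCoatom M) {E : Subgroup G} (hE : IsComplIn E (sigmaCore M) M) {x : G} (hxM : x ∈ M)
    (hx1 : x ≠ 1) (hxτ : ∀ p : ℕ, p.Prime → p ∣ orderOf x → p ∈ tau2 M) (hxσ : x ∈ sigmaHat M) :
    centralizer ({x} : Set G) ≤ M ∧
      ∀ L : Subgroup G, IsCoatom L → centralizer ({x} : Set G) ≤ L → L = M := by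
  -- we may assume `x ∈ E`
  have hZM : zpowers x ≤ M := (Subgroup.zpowers_le).mpr hxM
  obtain ⟨g, hg, hgE⟩ := exists_cj_le_compl hG hU h44 hM hE hZM (by
    intro q hq hd
    rw [Nat.card_zpowers] at hd
    exact (hxτ q hq hd).2.1)
  have hE' : IsComplIn (cj g⁻¹ E) (sigmaCore M) M :=
    isComplIn_cj hE (M.inv_mem hg) (le_normalizer_sigmaCore M)
  have hxE' : zpowers x ≤ cj g⁻¹ E := by
    have := cj_mono (k := g⁻¹) hgE
    rwa [cj_inv_cj] at this
  clear hgE hE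
  generalize cj g⁻¹ E = E' at hE' hxE'
  have hxE : x ∈ E' := hxE' (Subgroup.mem_zpowers x)
  -- a prime divisor of the order of `x`
  have hord : orderOf x ≠ 1 := fun h => hx1 (orderOf_eq_one_iff.mp h)
  obtain ⟨p, hpp, hpd⟩ := Nat.exists_prime_and_dvd hord
  have : Fact p.Prime := ⟨hpp⟩
  have hp := hxτ p hpp hpd
  obtain ⟨A, hAE, hAea, hA2⟩ := exists_elemAb_sq_le_compl hG hU h44 hM hE' hp
  have hAM : A ≤ M := hAE.trans hE'.1
  obtain ⟨⟨hEN, -⟩, -⟩ := cor126 hG hU h44 h11 h124 hM hE' hp hAE hAea hA2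
  obtain ⟨-, -, -, -, hstrong, -⟩ := thm125 hG hU h44 h11 h124 hM hp hAM hAea hA2
  -- `A ⟨x⟩` is a `τ₂(M)`-subgroup of `E`
  have hZN : zpowers x ≤ normalizer (A : Set G) := hxE'.trans hEN
  have hYτ : ∀ r : ℕ, r.Prime → r ∣ Nat.card ↥(zpowers x ⊔ A : Subgroup G) → r ∈ tau2 M := by
    intro r hr hd
    have : Fact r.Prime := ⟨hr⟩
    obtain ⟨⟨y, hy⟩, hyo⟩ := exists_prime_orderOf_dvd_card' r hd
    rw [Subgroup.orderOf_mk] at hyo
    obtain ⟨z, hz, a, ha, rfl⟩ := Cfsg.Agent.Lib.Helper1_CRBasic.exists_mul_of_mem_sup hZN hy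
    obtain ⟨a', ha', hpow⟩ := Cfsg.Agent.Lib.Helper1_CRBasic.mul_pow_mem (hZN hz) ha (orderOf x)
    have hz1 : z ^ orderOf x = 1 := by
      obtain ⟨k, rfl⟩ := Subgroup.mem_zpowers_iff.mp hz
      rw [← zpow_natCast, ← zpow_mul, mul_comm, zpow_mul, zpow_natCast, pow_orderOf_eq_one,
        one_zpow]
    rw [hz1, one_mul] at hpow
    have h1 : (z * a) ^ (orderOf x * p) = 1 := by
      rw [pow_mul, hpow, hAea.2 a' ha']
    have h2 : r ∣ orderOf x * p := by
      rw [← hyo]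
      exact orderOf_dvd_of_pow_eq_one h1
    rcases (Nat.Prime.dvd_mul hr).mp h2 with h | h
    · exact hxτ r hr h
    · rw [(Nat.prime_dvd_prime_iff_eq hr hpp).mp h]
      exact hp
  have hYc := comm_of_tau2_subgroup hG hU h44 h11 h124 hM hE' (sup_le hxE' hAE) hYτ
  have hAx : A ≤ centralizer ({x} : Set G) := by
    intro a ha
    rw [Subgroup.mem_centralizer_iff]
    intro h hh
    rw [Set.mem_singleton_iff] at hh
    rw [hh]
    exact hYc x (le_sup_left (b := A) (Subgroup.mem_zpowers x)) a (le_sup_right (a := zpowers x) ha)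
  obtain ⟨-, y, hyσ, hy1, hxy⟩ := hxσ
  have hall : ∀ L : Subgroup G, IsCoatom L → centralizer ({x} : Set G) ≤ L → L = M := by
    intro L hL hCL
    by_contra hLM
    have h1 := hstrong L hL hLM (hAx.trans hCL)
    have h2 : y ∈ sigmaCore M ⊓ L := by
      refine Subgroup.mem_inf.mpr ⟨hyσ, hCL ?_⟩
      rw [Subgroup.mem_centralizer_iff]
      intro h hh
      rw [Set.mem_singleton_iff] at hh
      rw [hh]
      exact hxy
    rw [h1, Subgroup.mem_bot] at h2
    exact hy1 h2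
  have htop : centralizer ({x} : Set G) ≠ ⊤ := by
    intro h
    have hZ1 : zpowers x ≠ ⊥ := by
      intro h0
      exact hx1 (Subgroup.zpowers_eq_bot.mp h0)
    apply normalizer_ne_top hG hZ1 (ne_top_of_le_ne_top hM.1 hZM)
    rw [eq_top_iff, ← h]
    refine le_trans ?_ (Subgroup.centralizer_le_normalizer _)
    apply le_centralizer_zpowers
    intro b hb
    rw [Subgroup.mem_centralizer_iff] at hb
    exact (hb x (Set.mem_singleton x)).symm
  obtain ⟨L, hL, hCL⟩ := exists_isCoatom_ge htop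
  have hLM := hall L hL hCL
  exact ⟨hLM ▸ hCL, hall⟩

/-- the statement of S1420 (with the results of §11 as a hypothesis) -/
theorem statement_S1420 (hG : IsMinSimpleOddOrder G) (hU : UniqHyp G)
    (h44 : H1444.{u}) (h11 : H11 G) (h124 : H124 G) (M : Subgroup G)
    (hM : IsCoatom M) (E : Subgroup G) (hE : IsComplIn E (sigmaCore M) M) :
    (∀ N : Subgroup G, N ≤ M → Group.IsNilpotent ↥N →
        (∀ p : ℕ, p.Prime → p ∣ Nat.card ↥N → p ∉ sigma M) → IsMulCommutative ↥N) ∧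
      IsMulCommutative ↥⁅E, E⁆ ∧
      (∀ (p : ℕ) (P : Subgroup G), p ∈ sigma M → IsPGroup p ↥P → P ≤ M → ¬ IsCyclic ↥P →
        normalizer (P : Set G) ≤ M) ∧
      ∀ x ∈ M, x ≠ 1 → (∀ p : ℕ, p.Prime → p ∣ orderOf x → p ∈ tau2 M) → x ∈ sigmaHat M →
        centralizer ({x} : Set G) ≤ M ∧
          ∀ L : Subgroup G, IsCoatom L → centralizer ({x} : Set G) ≤ L → L = M := by
  refine ⟨fun N hNM hnil hN => isMulCommutative_of_nilpotent hG hU h44 h11 h124 hM hNM hnil hN,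
    isMulCommutative_commutator_compl hG hU h44 h11 h124 hM hE, ?_,
    fun x hxM hx1 hxτ hxσ => centralizer_le_of_tau2_element hG hU h44 h11 h124 hM hE hxM hx1 hxτ hxσ⟩
  intro p P hpσ hPp hPM hnc
  have : Fact p.Prime := ⟨hpσ.1⟩
  have hC : Cfsg.Agent.Lib.Helper73_BG12.CentHyp G := fun M hM p _ A hAM hAe hA2 =>
    (prop124 hG hU h44 h11 h124 hM hAM hAe hA2).1
  exact Cfsg.Agent.Lib.Helper73_BG12.normalizer_le_of_not_isCyclic hG hU hC hM hpσ hPp hPM hnc

end Cfsg.Agent.Lib.Helper52_BG12d
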