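import Cfsg.Agent.Lib.Helper73_BG12b
import Cfsg.Agent.Lib.Helper70_BG108

/-!
# Bender–Glauberman, section 12: centralizers of subgroups of order `p` of `M_σ'` (helper73)

Statement S1423, from S1403 (`UniqHyp`), S1444 (`H1444`), S1412, S1416, S1417 and three group-theoretic
lemmas taken as explicit hypotheses (`FocalHyp`, `RankHyp`, `IdealHyp`).
-/

set_option autoImplicit false

namespace Cfsg.Agent.Lib.Helper73_BG12c

open Subgroup Cfsg Cfsg.Agent.Lib.Helper22_BGTrans Cfsg.Agent.Lib.Helper22_Radical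
  Cfsg.Agent.Lib.Helper84_RelSylow Cfsg.Agent.Lib.Helper49_Sigma Cfsg.Agent.Lib.Helper73_BG12
  Cfsg.Agent.Lib.Helper73_X3 Cfsg.Agent.Lib.Helper70_BG106 Cfsg.Agent.Lib.Helper73_BG12b
  Cfsg.Agent.Lib.Helper22_Uniq
open scoped commutatorElement

universe u

variable {G : Type u} [Group G] [Finite G] {p : ℕ} [hp : Fact p.Prime]

/-- a Sylow `p`-subgroup of `M` is of the good kind as soon as one is -/
theorem sylM_of_isSylowIn {M P₀ T : Subgroup G} (h : SylM p M P₀) (hT : IsSylowIn p T M) :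
    SylM p M T := by
  have hP₀M : IsSylowIn p P₀ M := h.1.mono h.2.1 le_top
  obtain ⟨m, hm, hmT⟩ := hP₀M.exists_conj_le hT.le hT.isPGroup
  have h1 : cj m T ≤ P₀ := by
    rintro _ ⟨x, hx, rfl⟩
    exact hmT x hx
  have h2 : IsSylowIn p (cj m T) M := by
    have := hT.conj m
    rwa [show M.map (MulAut.conj m).toMonoidHom = M from cj_self_of_mem hm] at this
  have h3 : P₀ = cj m T := h2.eq_of_le h1 h.2.1 h.1.isPGroup
  have h4 := sylM_cj h (inv_mem hm)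
  rwa [h3, cj_inv_cj] at h4

/-- a Sylow `p`-subgroup of `M_σ`, `p ∈ σ(M)`, is a Sylow `p`-subgroup of `M` -/
theorem isSylowIn_sigmaCore (hG : IsMinSimpleOddOrder G) (hU : UniqHyp G) (h44 : H1444.{u})
    {M : Subgroup G} (hM : IsCoatom M) (hpσ : p ∈ sigma M) (Q : Sylow p ↥(sigmaCore M)) :
    IsSylowIn p ((Q : Subgroup ↥(sigmaCore M)).map (sigmaCore M).subtype) M := by
  have hpp := hp.out
  have h1 : IsSylowIn p ((Q : Subgroup ↥(sigmaCore M)).map (sigmaCore M).subtype) (sigmaCore M) :=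
    isSylowIn_of_sylow Q
  have hσM : sigmaCore M ≤ M := Subgroup.map_subtype_le _
  refine ⟨h1.le.trans hσM, h1.isPGroup, ?_⟩
  rw [← Subgroup.relIndex_mul_relIndex _ _ _ h1.le hσM]
  intro hd
  rcases (Nat.Prime.dvd_mul hpp).mp hd with h | h
  · exact h1.not_dvd h
  · have : (sigmaCore M).relIndex M = (piCore (sigma M) ↥M).index :=
      Cfsg.Agent.Lib.Helper70_BG108.relIndex_map_subtype' M _
    rw [this] at h
    exact Cfsg.Agent.Lib.Helper70_BG1212.not_dvd_index_piCore_sigma hG hU h44 M hM hpσ h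

theorem sylM_sigmaCore (hG : IsMinSimpleOddOrder G) (hU : UniqHyp G) (h44 : H1444.{u})
    {M : Subgroup G} (hM : IsCoatom M) (hpσ : p ∈ sigma M) (Q : Sylow p ↥(sigmaCore M)) :
    SylM p M ((Q : Subgroup ↥(sigmaCore M)).map (sigmaCore M).subtype) := by
  obtain ⟨P₀, hP₀⟩ := exists_sylM_of_mem_sigma hpσ
  exact sylM_of_isSylowIn hP₀ (isSylowIn_sigmaCore hG hU h44 hM hpσ Q)

/-- the `p`-rank of `M` is attained in a Sylow `p`-subgroup -/
theorem not_pRankLE_of_isSylowIn {M T : Subgroup G} {k : ℕ} (hT : IsSylowIn p T M)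
    (h : ¬ PRankLE p k ↥M) : ¬ PRankLE p k ↥T := by
  obtain ⟨E, hEM, hEc, hEe, hcard⟩ := exists_elemAb_of_not_pRankLE h
  have hEp : IsPGroup p ↥E := by
    intro x
    refine ⟨1, ?_⟩
    rw [pow_one]
    exact Subtype.ext (hEe x.1 x.2)
  obtain ⟨m, -, hmE⟩ := hT.exists_conj_le hEM hEp
  apply not_pRankLE_of_elemAb (E := cj m E) (K := T)
  · rintro _ ⟨x, hx, rfl⟩
    exact hmE x hx
  · rintro _ ⟨a, ha, rfl⟩ _ ⟨b, hb, rfl⟩
    show m * a * m⁻¹ * (m * b * m⁻¹) = m * b * m⁻¹ * (m * a * m⁻¹)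
    have := hEc a ha b hb
    calc m * a * m⁻¹ * (m * b * m⁻¹) = m * (a * b) * m⁻¹ := by group
      _ = m * (b * a) * m⁻¹ := by rw [this]
      _ = m * b * m⁻¹ * (m * a * m⁻¹) := by group
  · rintro _ ⟨a, ha, rfl⟩
    show (m * a * m⁻¹) ^ p = 1
    rw [conj_pow, hEe a ha]
    group
  · rw [card_cj]
    exact hcard

/-- if `C_G(X)` contains a uniqueness subgroup of `M`, then `M` is the unique maximal subgroup
containing `C_G(X)` -/
theorem cent_unique_of_le (hG : IsMinSimpleOddOrder G) {M : Subgroup G} (hM : IsCoatom M)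
    {X U₀ : Subgroup G} (hX1 : X ≠ ⊥) (hU₀ : InUniqueMaximal U₀) (hU₀M : U₀ ≤ M)
    (hle : U₀ ≤ centralizer (X : Set G)) :
    centralizer (X : Set G) ≤ M ∧
      ∀ L : Subgroup G, IsCoatom L → centralizer (X : Set G) ≤ L → L = M := by
  have key : ∀ L : Subgroup G, IsCoatom L → centralizer (X : Set G) ≤ L → L = M :=
    fun L hL hCL => hU₀.unique ⟨hL, hle.trans hCL⟩ ⟨hM, hU₀M⟩
  refine ⟨?_, key⟩
  have hCtop := Cfsg.Agent.Lib.Helper22_BGTransUp.centralizer_ne_top hG hX1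
  obtain ⟨L, hL, hCL⟩ := (eq_top_or_exists_le_coatom _).resolve_left hCtop
  rw [← key L hL hCL]
  exact hCL

/-- hypothesis (B): focal subgroup with a normal `p`-complement -/
def FocalHyp (p : ℕ) [Fact p.Prime] : Prop :=
  ∀ (Y : Type u) [Group Y] [Finite Y], HasNormalPComplement p Y → ∀ P : Sylow p Y,
    (P : Subgroup Y) ⊓ _root_.commutator Y ≤ ⁅(P : Subgroup Y), (P : Subgroup Y)⁆

/-- hypothesis (A): the centralizer of a subgroup of order `p` of the derived group of a `p`-group of rank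
at least three has rank at least three -/
def RankHyp (G : Type u) [Group G] (p : ℕ) : Prop :=
  ∀ (P X : Subgroup G), IsPGroup p P → ¬ PRankLE p 2 ↥P → Nat.card X = p → X ≤ ⁅P, P⁆ →
    ¬ PRankLE p 2 ↥(P ⊓ centralizer (X : Set G))

/-- hypothesis (C): ideal primes -/
def IdealHyp (G : Type u) [Group G] (p : ℕ) [Fact p.Prime] : Prop :=
  IsIdealPrime p G → ∀ (P : Sylow p G) (X : Subgroup G), Nat.card X = p → X ≤ (P : Subgroup G) →
    ∃ B : Subgroup G, B ≤ (P : Subgroup G) ∧ IsElementaryAbelian p B ∧ p ^ 3 ≤ Nat.card B ∧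
      B ≤ centralizer (X : Set G)

omit [Finite G] hp in
theorem ne_bot_of_card_prime (hpp : p.Prime) {X : Subgroup G} (hX : Nat.card X = p) : X ≠ ⊥ := by
  rintro rfl
  rw [Subgroup.card_bot] at hX
  exact hpp.one_lt.ne hX

/-- a subgroup of rank at least three is a uniqueness subgroup -/
theorem inUniqueMaximal_of_rank (hG : IsMinSimpleOddOrder G) (hU : UniqHyp G) {K : Subgroup G}
    (hKp : IsPGroup p K) (hr : ¬ PRankLE p 2 ↥K) : InUniqueMaximal K := by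
  have hpp := hp.out
  have hKtop : K ≠ ⊤ := ne_top_of_isPGroup hG hpp hKp
  have h1 : ¬ RankLE 1 ↥K := fun h => hr (Cfsg.Agent.Lib.Helper73_BG12b.pRankLE_mono hpp (by norm_num) (h p hpp))
  have h2 : ¬ RankLE 2 ↥K := fun h => hr (h p hpp)
  exact hU K hKtop h1 (Or.inl h2)

/-- the Sylow `p`-subgroups of `M_σ` are uniqueness subgroups -/
theorem sylow_sigmaCore_unique (hG : IsMinSimpleOddOrder G) (hU : UniqHyp G) (h44 : H1444.{u})
    (h12 : Hyp1412 G) (h16 : Hyp1416 G) (h17 : Hyp1417 G) (hLB : FocalHyp.{u} p)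
    {M : Subgroup G} (hM : IsCoatom M) (hpσ : p ∈ sigma M) (Q : Sylow p ↥(sigmaCore M))
    {X : Subgroup G} (hX : Nat.card X = p)
    (h : p ∈ beta M ∨ X ≤ ⁅sigmaCore M, sigmaCore M⁆) :
    InUniqueMaximal ((Q : Subgroup ↥(sigmaCore M)).map (sigmaCore M).subtype) := by
  have hpp := hp.out
  set P₁ : Subgroup G := (Q : Subgroup ↥(sigmaCore M)).map (sigmaCore M).subtype with hP₁
  have hSyl : IsSylowIn p P₁ M := isSylowIn_sigmaCore hG hU h44 hM hpσ Q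
  have hP₁p : IsPGroup p ↥P₁ := hSyl.isPGroup
  by_cases hr : PRankLE p 2 ↥P₁
  swap
  · exact inUniqueMaximal_of_rank hG hU hP₁p hr
  by_cases hc : IsMulCommutative ↥P₁
  swap
  · exact inUniqueMaximal_of_not_comm hG hU h44 h12 h16 h17 P₁ hP₁p hc
  exfalso
  by_cases hβ : p ∈ beta M
  · exact not_pRankLE_of_isSylowIn hSyl hβ.1.2 hr
  have hX' : X ≤ ⁅sigmaCore M, sigmaCore M⁆ := h.resolve_left hβ
  have hpM : p ∣ Nat.card M := hpσ.2.1
  have hnpc : HasNormalPComplement p ↥(sigmaCore M) :=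
    ((Cfsg.Agent.Lib.Helper70_BG108.beta_statement hG hU h44 M hM).2.2.2.2 p hpp hpM hβ).2.1
  -- `Q` is commutative
  have hQc : ∀ a ∈ (Q : Subgroup ↥(sigmaCore M)), ∀ b ∈ (Q : Subgroup ↥(sigmaCore M)), a * b = b * a := by
    intro a ha b hb
    have ha' : (a : G) ∈ P₁ := ⟨a, ha, rfl⟩
    have hb' : (b : G) ∈ P₁ := ⟨b, hb, rfl⟩
    have := congrArg Subtype.val (hc.is_comm.comm (⟨a, ha'⟩ : ↥P₁) ⟨b, hb'⟩)
    exact Subtype.ext this
  obtain ⟨x, hx, hx1⟩ := exists_ne_one_of_card_prime hX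
  have hxp : x ^ p = 1 := by
    have : (⟨x, hx⟩ : ↥X) ^ Nat.card X = 1 := pow_card_eq_one'
    rw [hX] at this
    exact congrArg Subtype.val this
  have hxc : x ∈ ⁅sigmaCore M, sigmaCore M⁆ := hX' hx
  rw [← Subgroup.map_subtype_commutator (sigmaCore M)] at hxc
  obtain ⟨x', hx'c, hx'x⟩ := hxc
  have hx'p : x' ^ p = 1 := by
    apply Subtype.ext
    rw [← hx'x] at hxp
    simpa using hxp
  have hzp : IsPGroup p ↥(Subgroup.zpowers x') :=
    Cfsg.Agent.Lib.Helper48_Generation.isPGroup_zpowers_of_pow_eq_one hx'p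
  obtain ⟨Q', hQ'⟩ := hzp.exists_le_sylow
  have hx'Q' : x' ∈ (Q' : Subgroup ↥(sigmaCore M)) := hQ' (Subgroup.mem_zpowers x')
  have h1 := hLB ↥(sigmaCore M) hnpc Q' (Subgroup.mem_inf.mpr ⟨hx'Q', hx'c⟩)
  -- `Q'` is commutative
  have e : ↥(Q : Subgroup ↥(sigmaCore M)) ≃* ↥(Q' : Subgroup ↥(sigmaCore M)) := Sylow.equiv Q Q'
  have hQ'c : ⁅(Q' : Subgroup ↥(sigmaCore M)), (Q' : Subgroup ↥(sigmaCore M))⁆ = ⊥ := by
    rw [eq_bot_iff, Subgroup.commutator_le]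
    intro a ha b hb
    rw [Subgroup.mem_bot, commutatorElement_eq_one_iff_mul_comm]
    obtain ⟨a₀, ha₀⟩ := e.surjective ⟨a, ha⟩
    obtain ⟨b₀, hb₀⟩ := e.surjective ⟨b, hb⟩
    have h2 : a₀ * b₀ = b₀ * a₀ := Subtype.ext (hQc a₀.1 a₀.2 b₀.1 b₀.2)
    have h3 := congrArg e h2
    rw [map_mul, map_mul, ha₀, hb₀] at h3
    exact congrArg Subtype.val h3
  rw [hQ'c, Subgroup.mem_bot] at h1
  apply hx1
  rw [← hx'x, h1]
  rfl

omit [Finite G] hp in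
/-- an elementary abelian subgroup of order at least `p ^ 3` has rank at least three -/
theorem not_pRankLE_two_of_elemAb (hpp : p.Prime) {B : Subgroup G} (hBe : IsElementaryAbelian p B)
    (hB3 : p ^ 3 ≤ Nat.card B) : ¬ PRankLE p 2 ↥B := by
  have hBc : ∀ a ∈ B, ∀ b ∈ B, a * b = b * a := fun a ha b hb =>
    congrArg Subtype.val (hBe.1.is_comm.comm (⟨a, ha⟩ : ↥B) ⟨b, hb⟩)
  apply not_pRankLE_of_elemAb (E := B) (K := B) le_rfl hBc hBe.2
  calc p ^ 2 < p ^ 3 := Nat.pow_lt_pow_right hpp.one_lt (by norm_num)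
    _ ≤ Nat.card B := hB3

/-- case `p ∈ β(M)`: a uniqueness subgroup of `M` inside `C_G(X)` -/
theorem exists_uniq_of_beta (hG : IsMinSimpleOddOrder G) (hU : UniqHyp G) (hLC : IdealHyp G p)
    {M : Subgroup G} (hβ : p ∈ beta M) {P₁ X : Subgroup G} (hS : SylM p M P₁)
    (hX : Nat.card X = p) (hXP : X ≤ P₁) :
    ∃ U₀ : Subgroup G, InUniqueMaximal U₀ ∧ U₀ ≤ M ∧ U₀ ≤ centralizer (X : Set G) := by
  have hpp := hp.out
  obtain ⟨S₀, hS₀⟩ := Cfsg.Agent.Lib.Helper49_Alpha.exists_sylow_eq_of_isSylowIn_top hS.1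
  obtain ⟨B, hBP, hBe, hB3, hBX⟩ := hLC hβ.2 S₀ X hX (hS₀ ▸ hXP)
  rw [hS₀] at hBP
  refine ⟨B, ?_, hBP.trans hS.2.1, hBX⟩
  exact inUniqueMaximal_of_rank hG hU (hS.1.isPGroup.to_le hBP) (not_pRankLE_two_of_elemAb hpp hBe hB3)

omit [Finite G] hp in
/-- commutators in a central product `Pa Pb` with `Pb` central lie in the centre of `Pa` -/
theorem commutator_le_zOf {S Pa Pb : Subgroup G} (hsup : Pa ⊔ Pb = S)
    (hPb : Pb ≤ centralizer (S : Set G)) (hX3 : ∀ x ∈ Pa, ∀ y ∈ Pa, x * y * x⁻¹ * y⁻¹ ∈ zOf Pa) :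
    ⁅S, S⁆ ≤ zOf Pa := by
  rw [Subgroup.commutator_le]
  have hnorm : Pa ≤ normalizer (Pb : Set G) := by
    have h1 : Pa ≤ S := hsup ▸ le_sup_left
    have h2 : Pa ≤ centralizer (Pb : Set G) := h1.trans (Subgroup.le_centralizer_iff.mp hPb)
    exact h2.trans (Subgroup.centralizer_le_normalizer _)
  have hdec : ∀ g ∈ S, ∃ a ∈ Pa, ∃ b ∈ Pb, a * b = g := by
    intro g hg
    have : g ∈ ((Pa ⊔ Pb : Subgroup G) : Set G) := by rw [hsup]; exact hg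
    rw [Subgroup.coe_mul_of_left_le_normalizer_right Pa Pb hnorm] at this
    obtain ⟨a, ha, b, hb, hab⟩ := this
    exact ⟨a, ha, b, hb, hab⟩
  intro g₁ hg₁ g₂ hg₂
  obtain ⟨a₁, ha₁, b₁, hb₁, rfl⟩ := hdec g₁ hg₁
  obtain ⟨a₂, ha₂, b₂, hb₂, rfl⟩ := hdec g₂ hg₂
  have hPaS : Pa ≤ S := hsup ▸ le_sup_left
  have hPbS : Pb ≤ S := hsup ▸ le_sup_right
  have c1 : ∀ s ∈ S, s * b₁ = b₁ * s := fun s hs => Subgroup.mem_centralizer_iff.mp (hPb hb₁) s hs
  have c2 : ∀ s ∈ S, s * b₂ = b₂ * s := fun s hs => Subgroup.mem_centralizer_iff.mp (hPb hb₂) s hs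
  have e : ⁅a₁ * b₁, a₂ * b₂⁆ = a₁ * a₂ * a₁⁻¹ * a₂⁻¹ := by
    rw [commutatorElement_def]
    have h1 : a₁ * b₁ * (a₂ * b₂) = a₁ * a₂ * (b₁ * b₂) := by
      calc a₁ * b₁ * (a₂ * b₂) = a₁ * (b₁ * a₂) * b₂ := by group
        _ = a₁ * (a₂ * b₁) * b₂ := by rw [c1 a₂ (hPaS ha₂)]
        _ = a₁ * a₂ * (b₁ * b₂) := by group
    have h2 : (a₁ * b₁)⁻¹ * (a₂ * b₂)⁻¹ = (b₁ * b₂)⁻¹ * (a₁⁻¹ * a₂⁻¹) := by
      have h3 : a₁ * b₁ = b₁ * a₁ := c1 a₁ (hPaS ha₁)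
      have h4 : a₂ * b₂ = b₂ * a₂ := c2 a₂ (hPaS ha₂)
      have h5 : b₂ * a₁ = a₁ * b₂ := (c2 a₁ (hPaS ha₁)).symm
      calc (a₁ * b₁)⁻¹ * (a₂ * b₂)⁻¹ = ((a₂ * b₂) * (a₁ * b₁))⁻¹ := by group
        _ = ((b₂ * a₂) * (b₁ * a₁))⁻¹ := by rw [h3, h4]
        _ = (b₂ * (a₂ * b₁) * a₁)⁻¹ := by group
        _ = (b₂ * (b₁ * a₂) * a₁)⁻¹ := by rw [c1 a₂ (hPaS ha₂)]
        _ = ((b₂ * b₁) * (a₂ * a₁))⁻¹ := by group
        _ = ((b₁ * b₂) * (a₂ * a₁))⁻¹ := by rw [c1 b₂ (hPbS hb₂)]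
        _ = (a₂ * a₁)⁻¹ * (b₁ * b₂)⁻¹ := by group
        _ = (b₁ * b₂)⁻¹ * (a₂ * a₁)⁻¹ := by
            have h6 : ∀ s ∈ S, s * (b₁ * b₂)⁻¹ = (b₁ * b₂)⁻¹ * s := fun s hs =>
              Subgroup.mem_centralizer_iff.mp (hPb (inv_mem (mul_mem hb₁ hb₂))) s hs
            exact h6 _ (inv_mem (mul_mem (hPaS ha₂) (hPaS ha₁)))
        _ = (b₁ * b₂)⁻¹ * (a₁⁻¹ * a₂⁻¹) := by group
    calc a₁ * b₁ * (a₂ * b₂) * (a₁ * b₁)⁻¹ * (a₂ * b₂)⁻¹
        = (a₁ * b₁ * (a₂ * b₂)) * ((a₁ * b₁)⁻¹ * (a₂ * b₂)⁻¹) := by group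
      _ = (a₁ * a₂ * (b₁ * b₂)) * ((b₁ * b₂)⁻¹ * (a₁⁻¹ * a₂⁻¹)) := by rw [h1, h2]
      _ = a₁ * a₂ * a₁⁻¹ * a₂⁻¹ := by group
  rw [e]
  exact hX3 a₁ ha₁ a₂ ha₂

/-- the structure given by S1412 for a nonabelian Sylow `p`-subgroup of rank at most two -/
theorem x3_of_hyp1412 (h12 : Hyp1412 G) {S : Subgroup G} (hS : IsSylowIn p S ⊤)
    (hr : PRankLE p 2 ↥S) (hSna : ¬ IsMulCommutative ↥S) :
    ∃ Pa : Subgroup G, Pa ≤ S ∧ IsX3 p Pa ∧ zOf Pa ≤ centralizer (S : Set G) ∧ ⁅S, S⁆ ≤ zOf Pa := by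
  obtain ⟨S₀, hS₀⟩ := Cfsg.Agent.Lib.Helper49_Alpha.exists_sylow_eq_of_isSylowIn_top hS
  have hr' : PRankLE p 2 ↥(S₀ : Subgroup G) := by rw [hS₀]; exact hr
  rcases h12 p S₀ hr' with hc | ⟨P₁, P₂, hsup, hcomm, hna, hcard, hexp, hcyc, hcl⟩
  · rw [hS₀] at hc
    exact absurd hc hSna
  rw [hS₀] at hsup
  have hP₁S : P₁ ≤ S := hsup ▸ le_sup_left
  have hX : IsX3 p P₁ := by
    refine ⟨hcard, ?_, ?_⟩
    · intro x hx
      have h1 : (⟨x, hx⟩ : ↥P₁) ^ p = 1 := by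
        rw [← hexp]
        exact Monoid.pow_exponent_eq_one _
      exact congrArg Subtype.val h1
    · by_contra hcon
      push Not at hcon
      apply hna
      exact ⟨⟨fun a b => Subtype.ext (hcon a.1 a.2 b.1 b.2)⟩⟩
  have hc2 : IsMulCommutative ↥P₂ := IsCyclic.isMulCommutative
  have hP₂S : P₂ ≤ centralizer (S : Set G) := by
    rw [Subgroup.le_centralizer_iff, ← hsup]
    apply sup_le
    · intro a ha
      rw [Subgroup.mem_centralizer_iff]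
      intro b hb
      exact (hcomm a ha b hb).symm
    · intro x hx
      rw [Subgroup.mem_centralizer_iff]
      intro z hz
      exact congrArg Subtype.val (hc2.is_comm.comm (⟨z, hz⟩ : ↥P₂) ⟨x, hx⟩)
  have hZP₂ : zOf P₁ ≤ P₂ := by
    show P₁ ⊓ centralizer (P₁ : Set G) ≤ P₂
    rw [← hcl, Subgroup.closure_le]
    intro x hx
    exact hx.1
  refine ⟨P₁, hP₁S, hX, hZP₂.trans hP₂S, ?_⟩
  exact commutator_le_zOf hsup hP₂S (fun x hx y hy => hX.comm_mem hx hy)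

/-- case `X ≤ [P₁, P₁]`: a uniqueness subgroup of `M` inside `C_G(X)` -/
theorem exists_uniq_of_le_commutator (hG : IsMinSimpleOddOrder G) (hU : UniqHyp G)
    (h12 : Hyp1412 G) (hLA : RankHyp G p) {M : Subgroup G} {P₁ X : Subgroup G} (hS : SylM p M P₁)
    (hP₁U : InUniqueMaximal P₁) (hX : Nat.card X = p) (hXP : X ≤ ⁅P₁, P₁⁆) :
    ∃ U₀ : Subgroup G, InUniqueMaximal U₀ ∧ U₀ ≤ M ∧ U₀ ≤ centralizer (X : Set G) := by
  have hpp := hp.out
  have hP₁p := hS.1.isPGroup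
  by_cases hr : PRankLE p 2 ↥P₁
  · have hna : ¬ IsMulCommutative ↥P₁ := by
      intro hc
      have hbot : ⁅P₁, P₁⁆ = ⊥ := by
        rw [eq_bot_iff, Subgroup.commutator_le]
        intro a ha b hb
        rw [Subgroup.mem_bot, commutatorElement_eq_one_iff_mul_comm]
        exact congrArg Subtype.val (hc.is_comm.comm (⟨a, ha⟩ : ↥P₁) ⟨b, hb⟩)
      rw [hbot] at hXP
      exact ne_bot_of_card_prime hpp hX (le_bot_iff.mp hXP)
    obtain ⟨Pa, -, -, hZS, hcomm⟩ := x3_of_hyp1412 h12 hS.1 hr hna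
    refine ⟨P₁, hP₁U, hS.2.1, ?_⟩
    exact Subgroup.le_centralizer_iff.mp ((hXP.trans hcomm).trans hZS)
  · refine ⟨P₁ ⊓ centralizer (X : Set G), ?_, inf_le_left.trans hS.2.1, inf_le_right⟩
    exact inUniqueMaximal_of_rank hG hU (hP₁p.to_le inf_le_left) (hLA P₁ X hP₁p hr hX hXP)

/-- **Bender–Glauberman** (statement S1423), from the earlier statements and three group-theoretic lemmas taken as
hypotheses. -/
theorem statement_S1423 (hG : IsMinSimpleOddOrder G) (hU : UniqHyp G) (h44 : H1444.{u})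
    (h12 : Hyp1412 G) (h16 : Hyp1416 G) (h17 : Hyp1417 G) (hLA : RankHyp G p) (hLB : FocalHyp.{u} p)
    (hLC : IdealHyp G p)
    (M : Subgroup G) (hM : IsCoatom M) (hpσ : p ∈ Cfsg.sigma M) (X : Subgroup G) (hXM : X ≤ M)
    (hX : Nat.card X = p) (P : Sylow p ↥(Cfsg.sigmaCore M))
    (h : p ∈ Cfsg.beta M ∨ X ≤ ⁅Cfsg.sigmaCore M, Cfsg.sigmaCore M⁆) :
    (Subgroup.centralizer (X : Set G) ≤ M ∧
        ∀ L : Subgroup G, IsCoatom L → Subgroup.centralizer (X : Set G) ≤ L → L = M) ∧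
      Cfsg.InUniqueMaximal ((P : Subgroup ↥(Cfsg.sigmaCore M)).map (Cfsg.sigmaCore M).subtype) ∧
      (P : Subgroup ↥(Cfsg.sigmaCore M)).map (Cfsg.sigmaCore M).subtype ≤ M := by
  have hpp := hp.out
  have hσM : sigmaCore M ≤ M := Subgroup.map_subtype_le _
  have hX1 : X ≠ ⊥ := ne_bot_of_card_prime hpp hX
  have hXp : IsPGroup p ↥X := IsPGroup.of_card (n := 1) (by rw [hX, pow_one])
  refine ⟨?_, sylow_sigmaCore_unique hG hU h44 h12 h16 h17 hLB hM hpσ P hX h,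
    (Subgroup.map_subtype_le _).trans hσM⟩
  have key : ∃ U₀ : Subgroup G, InUniqueMaximal U₀ ∧ U₀ ≤ M ∧ U₀ ≤ centralizer (X : Set G) := by
    by_cases hβ : p ∈ beta M
    · have hS' := sylM_sigmaCore hG hU h44 hM hpσ P
      obtain ⟨P₁, hP₁, hXP₁⟩ := exists_sylM_ge hS' hXp hXM
      exact exists_uniq_of_beta hG hU hLC hβ hP₁ hX hXP₁
    · have hX' : X ≤ ⁅sigmaCore M, sigmaCore M⁆ := h.resolve_left hβ
      have hXσ : X ≤ sigmaCore M := hX'.trans (Subgroup.commutator_le_self _)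
      have hXp' : IsPGroup p ↥(X.subgroupOf (sigmaCore M)) :=
        hXp.comap_of_injective (sigmaCore M).subtype (sigmaCore M).subtype_injective
      obtain ⟨Q₁, hQ₁⟩ := hXp'.exists_le_sylow
      set P₁ : Subgroup G := (Q₁ : Subgroup ↥(sigmaCore M)).map (sigmaCore M).subtype with hP₁def
      have hS₁ : SylM p M P₁ := sylM_sigmaCore hG hU h44 hM hpσ Q₁
      have hU₁ : InUniqueMaximal P₁ :=
        sylow_sigmaCore_unique hG hU h44 h12 h16 h17 hLB hM hpσ Q₁ hX (Or.inr hX')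
      have hpM : p ∣ Nat.card M := hpσ.2.1
      have hnpc : HasNormalPComplement p ↥(sigmaCore M) :=
        ((Cfsg.Agent.Lib.Helper70_BG108.beta_statement hG hU h44 M hM).2.2.2.2 p hpp hpM hβ).2.1
      have hfoc := hLB ↥(sigmaCore M) hnpc Q₁
      have hXc : X ≤ ⁅P₁, P₁⁆ := by
        intro x hx
        have hxc : x ∈ ⁅sigmaCore M, sigmaCore M⁆ := hX' hx
        rw [← Subgroup.map_subtype_commutator (sigmaCore M)] at hxc
        obtain ⟨x', hx'c, hx'x⟩ := hxc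
        have hx'Q : x' ∈ (Q₁ : Subgroup ↥(sigmaCore M)) := by
          apply hQ₁
          rw [Subgroup.mem_subgroupOf]
          have : ((x' : ↥(sigmaCore M)) : G) = x := hx'x
          rw [this]
          exact hx
        have h1 := hfoc (Subgroup.mem_inf.mpr ⟨hx'Q, hx'c⟩)
        rw [hP₁def, ← Subgroup.map_commutator]
        exact ⟨x', h1, hx'x⟩
      exact exists_uniq_of_le_commutator hG hU h12 hLA hS₁ hU₁ hX hXc
  obtain ⟨U₀, hU₀, hU₀M, hU₀X⟩ := key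
  exact cent_unique_of_le hG hM hX1 hU₀ hU₀M hU₀X

end Cfsg.Agent.Lib.Helper73_BG12c
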