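import Mathlib
import Cfsg.Prelude.Def_Transfer

/-!
# The focal subgroup in a group with a normal `p`-complement (helper73)

If `Y` has a normal `p`-complement then `P ∩ Y' = P'` for every Sylow `p`-subgroup `P` of `Y`.
-/

set_option autoImplicit false

namespace Cfsg.Agent.Lib.Helper73_Focal

open Subgroup

theorem inf_commutator_le_of_npc {Y : Type*} [Group Y] [Finite Y] {p : ℕ} [hp : Fact p.Prime]
    (h : Cfsg.HasNormalPComplement p Y) (P : Sylow p Y) :
    (P : Subgroup Y) ⊓ _root_.commutator Y ≤ ⁅(P : Subgroup Y), (P : Subgroup Y)⁆ := by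
  have hpp := hp.out
  obtain ⟨P₀, N, hN, hc₀⟩ := h
  -- `N` is a `p'`-group
  have hNcard : Nat.card N = (P₀ : Subgroup Y).index := hc₀.index_eq_card.symm
  have hNp : ¬ p ∣ Nat.card N := by
    rw [hNcard]
    exact P₀.not_dvd_index
  have hPcard : Nat.card (P : Subgroup Y) = Nat.card (P₀ : Subgroup Y) := by
    rw [Sylow.card_eq_multiplicity, Sylow.card_eq_multiplicity]
  have hcop : (Nat.card N).Coprime (Nat.card (P : Subgroup Y)) := by
    obtain ⟨n, hn⟩ := IsPGroup.iff_card.mp P.isPGroup'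
    rw [hn]
    apply Nat.Coprime.pow_right
    exact ((Nat.Prime.coprime_iff_not_dvd hpp).mpr hNp).symm
  have hc : N.IsComplement' (P : Subgroup Y) := by
    apply isComplement'_of_coprime _ hcop
    rw [hPcard]
    exact hc₀.card_mul_card
  have hsup : N ⊔ (P : Subgroup Y) = ⊤ := hc.sup_eq_top
  have hdisj : N ⊓ (P : Subgroup Y) = ⊥ := hc.disjoint.eq_bot
  -- the image of `P` in `Y ⧸ N` is everything
  have hmapP : (P : Subgroup Y).map (QuotientGroup.mk' N) = ⊤ := by
    have h1 : (N ⊔ (P : Subgroup Y)).map (QuotientGroup.mk' N) = ⊤ := by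
      rw [hsup]
      exact Subgroup.map_top_of_surjective _ (QuotientGroup.mk'_surjective N)
    rwa [Subgroup.map_sup, QuotientGroup.map_mk'_self, bot_sup_eq] at h1
  intro x hx
  obtain ⟨hxP, hxc⟩ := Subgroup.mem_inf.mp hx
  have h2 : QuotientGroup.mk' N x ∈ (_root_.commutator Y).map (QuotientGroup.mk' N) := ⟨x, hxc, rfl⟩
  rw [commutator_def, Subgroup.map_commutator,
    Subgroup.map_top_of_surjective _ (QuotientGroup.mk'_surjective N), ← hmapP,
    ← Subgroup.map_commutator] at h2
  obtain ⟨y, hy, hyx⟩ := h2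
  have hyP : y ∈ (P : Subgroup Y) := Subgroup.commutator_le_self _ hy
  have h3 : y⁻¹ * x ∈ N := by
    rw [← QuotientGroup.eq]
    exact hyx
  have h4 : y⁻¹ * x ∈ N ⊓ (P : Subgroup Y) :=
    Subgroup.mem_inf.mpr ⟨h3, mul_mem (inv_mem hyP) hxP⟩
  rw [hdisj, Subgroup.mem_bot] at h4
  have : x = y := by
    have := inv_mul_eq_one.mp h4
    exact this.symm
  rw [this]
  exact hy

end Cfsg.Agent.Lib.Helper73_Focal
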