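import Mathlib
import Cfsg.Prelude.Def_OddOrderLocal
import Cfsg.Agent.Lib.Helper10_Thompson
import Cfsg.Agent.Lib.Helper1_FPF

/-!
# Ideal primes: an elementary abelian subgroup of order `≥ p ^ 3` centralizing a subgroup of order `p`
(helper97; requested by helper73 for S1423)
-/

set_option autoImplicit false

namespace Cfsg.Agent.Lib.Helper97_IdealCube

open Subgroup Cfsg

variable {G : Type*} [Group G] [Finite G] {p : ℕ} [hp : Fact p.Prime]

/-- an elementary abelian `p`-subgroup of order `> p ^ 2` has order `≥ p ^ 3` -/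
theorem cube_le_card {B : Subgroup G} (hB : IsElementaryAbelian p B) (h : p ^ 2 < Nat.card B) :
    p ^ 3 ≤ Nat.card B := by
  have hBp : IsPGroup p ↥B := by
    intro b
    refine ⟨1, ?_⟩
    apply Subtype.ext
    rw [pow_one, Subgroup.coe_pow]
    exact hB.2 b.1 b.2
  obtain ⟨n, hn⟩ := IsPGroup.iff_card.mp hBp
  rw [hn] at h ⊢
  have h2 : 2 < n := (Nat.pow_lt_pow_iff_right hp.out.one_lt).mp h
  exact Nat.pow_le_pow_right hp.out.pos h2

/-- **helper73's lemma (C)**: for an ideal prime `p`, a subgroup `X` of order `p` of a Sylow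
`p`-subgroup `P` is centralized by an elementary abelian subgroup of `P` of order at least `p ^ 3`. -/
theorem exists_elemAb_cube_centralizing (hI : Cfsg.IsIdealPrime p G) (P : Sylow p G)
    {X : Subgroup G} (hX : Nat.card X = p) (hXP : X ≤ (P : Subgroup G)) :
    ∃ B : Subgroup G, B ≤ (P : Subgroup G) ∧ Cfsg.IsElementaryAbelian p B ∧ p ^ 3 ≤ Nat.card B ∧
      B ≤ Subgroup.centralizer (X : Set G) := by
  have hpp : p.Prime := hp.out
  by_cases hc : X ≤ centralizer ((P : Subgroup G) : Set G)
  · -- `X` central in `P`: conjugate a big elementary abelian subgroup into `P`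
    have hr := hI.2.1
    unfold PRankLE at hr
    push Not at hr
    obtain ⟨E, hEc, hEe, hE3⟩ := hr
    have hEp : IsPGroup p ↥E := by
      intro b
      refine ⟨1, ?_⟩
      apply Subtype.ext
      rw [pow_one, Subgroup.coe_pow]
      exact hEe b.1 b.2
    obtain ⟨Q, hQ⟩ := hEp.exists_le_sylow
    obtain ⟨g, hg⟩ := MulAction.exists_smul_eq G Q P
    refine ⟨E.map (MulAut.conj g).toMonoidHom, ?_, ⟨⟨⟨?_⟩⟩, ?_⟩, ?_, ?_⟩
    · rw [← hg, Sylow.coe_subgroup_smul]
      intro y hy
      obtain ⟨e, he, rfl⟩ := hy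
      exact Subgroup.smul_mem_pointwise_smul _ _ _ (hQ he)
    · rintro ⟨_, a, ha, rfl⟩ ⟨_, b, hb, rfl⟩
      apply Subtype.ext
      have h := hEc.is_comm.comm (⟨a, ha⟩ : E) ⟨b, hb⟩
      have h' : a * b = b * a := congrArg Subtype.val h
      show (MulAut.conj g).toMonoidHom a * (MulAut.conj g).toMonoidHom b =
        (MulAut.conj g).toMonoidHom b * (MulAut.conj g).toMonoidHom a
      rw [← map_mul, ← map_mul, h']
    · rintro _ ⟨a, ha, rfl⟩
      rw [← map_pow, hEe a ha, map_one]
    · apply cube_le_card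
      · refine ⟨⟨⟨?_⟩⟩, ?_⟩
        · rintro ⟨_, a, ha, rfl⟩ ⟨_, b, hb, rfl⟩
          apply Subtype.ext
          have h := hEc.is_comm.comm (⟨a, ha⟩ : E) ⟨b, hb⟩
          have h' : a * b = b * a := congrArg Subtype.val h
          show (MulAut.conj g).toMonoidHom a * (MulAut.conj g).toMonoidHom b =
            (MulAut.conj g).toMonoidHom b * (MulAut.conj g).toMonoidHom a
          rw [← map_mul, ← map_mul, h']
        · rintro _ ⟨a, ha, rfl⟩
          rw [← map_pow, hEe a ha, map_one]
      · rw [Subgroup.card_map_of_injective (MulAut.conj g).injective]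
        exact hE3
    · intro b hb
      have hbP : b ∈ (P : Subgroup G) := by
        rw [← hg, Sylow.coe_subgroup_smul]
        obtain ⟨e, he, rfl⟩ := hb
        exact Subgroup.smul_mem_pointwise_smul _ _ _ (hQ he)
      rw [mem_centralizer_iff]
      intro x hx
      exact ((mem_centralizer_iff.mp (hc hx)) b hbP).symm
  · -- `X` not central
    have hXe : IsElementaryAbelian p X := by
      have hcyc : IsCyclic ↥X := isCyclic_of_prime_card hX
      refine ⟨⟨⟨fun a b => ?_⟩⟩, ?_⟩
      · have := hcyc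
        exact IsCyclic.commGroup.mul_comm a b
      · intro a ha
        have h := pow_card_eq_one' (G := ↥X) (x := ⟨a, ha⟩)
        rw [hX] at h
        exact congrArg Subtype.val h
    have hPp : IsPGroup p ↥(P : Subgroup G) := P.isPGroup'
    have hPnt : Nontrivial ↥(P : Subgroup G) := by
      have h1 : 1 < Nat.card ↥(P : Subgroup G) := by
        have := Subgroup.card_le_of_le hXP
        rw [hX] at this
        exact lt_of_lt_of_le hpp.one_lt this
      exact Finite.one_lt_card_iff_nontrivial.mp h1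
    have hZnt : Nontrivial ↥(Subgroup.center ↥(P : Subgroup G)) := hPp.center_nontrivial
    have hZp : IsPGroup p ↥(Subgroup.center ↥(P : Subgroup G)) := hPp.to_subgroup _
    have hdvd : p ∣ Nat.card ↥(Subgroup.center ↥(P : Subgroup G)) := by
      obtain ⟨n, hn⟩ := IsPGroup.iff_card.mp hZp
      have hn0 : n ≠ 0 := by
        rintro rfl
        rw [pow_zero] at hn
        have := Finite.one_lt_card_iff_nontrivial.mpr hZnt
        omega
      rw [hn]
      exact dvd_pow_self p hn0
    obtain ⟨z', hz'⟩ := exists_prime_orderOf_dvd_card' p hdvd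
    set z : G := ((z' : ↥(P : Subgroup G)) : G) with hz
    have hzo : orderOf z = p := by
      rw [hz, Subgroup.orderOf_coe, Subgroup.orderOf_coe, hz']
    have hzP : z ∈ (P : Subgroup G) := (z' : ↥(P : Subgroup G)).2
    have hzc : ∀ y ∈ (P : Subgroup G), y * z = z * y := by
      intro y hy
      have h := (Subgroup.mem_center_iff.mp z'.2) ⟨y, hy⟩
      exact congrArg Subtype.val h
    have hzp : z ^ p = 1 := by rw [← hzo]; exact pow_orderOf_eq_one z
    set Z1 : Subgroup G := Subgroup.zpowers z with hZ1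
    have hZ1c : Nat.card Z1 = p := by rw [hZ1, Nat.card_zpowers, hzo]
    have hZ1P : Z1 ≤ (P : Subgroup G) := Subgroup.zpowers_le.mpr hzP
    have hZ1cent : Z1 ≤ centralizer ((P : Subgroup G) : Set G) := by
      rw [hZ1, Subgroup.zpowers_le, mem_centralizer_iff]
      intro y hy
      exact hzc y hy
    have hZ1e : IsElementaryAbelian p Z1 :=
      Cfsg.Agent.Lib.Helper10_Thompson.isElementaryAbelian_zpowers hzp
    have hcomm : ∀ a ∈ X, ∀ b ∈ Z1, a * b = b * a := by
      intro a ha b hb
      exact (mem_centralizer_iff.mp (hZ1cent hb)) a (hXP ha)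
    have hdisj : X ⊓ Z1 = ⊥ := by
      by_contra hne
      have h1 : Nat.card ↥(X ⊓ Z1 : Subgroup G) ∣ p := by
        rw [← hX]
        exact Subgroup.card_dvd_of_le inf_le_left
      rcases (Nat.dvd_prime hpp).mp h1 with h | h
      · exact hne (Subgroup.card_eq_one.mp h)
      · have h2 : X ⊓ Z1 = X :=
          Subgroup.eq_of_le_of_card_ge inf_le_left (by rw [h, hX])
        exact hc ((inf_eq_left.mp h2).trans hZ1cent)
    have hXN : X ≤ normalizer (Z1 : Set G) := by
      refine le_trans ?_ (Subgroup.centralizer_le_normalizer _)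
      intro a ha
      rw [mem_centralizer_iff]
      intro b hb
      exact (hcomm a ha b hb).symm
    have hAe : IsElementaryAbelian p (X ⊔ Z1) :=
      Cfsg.Agent.Lib.Helper10_Thompson.isElementaryAbelian_sup hXe hZ1e hcomm
    have hAc : Nat.card ↥(X ⊔ Z1 : Subgroup G) = p ^ 2 := by
      rw [Cfsg.Agent.Lib.Helper1_FPF.card_sup_of_le_normalizer X Z1 hXN hdisj, hX, hZ1c, sq]
    have hAP : X ⊔ Z1 ≤ (P : Subgroup G) := sup_le hXP hZ1P
    obtain ⟨B, hBP, hBe, hAB⟩ := hI.2.2 P (X ⊔ Z1) hAP hAe hAc
    refine ⟨B, hBP, hBe, ?_, ?_⟩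
    · apply cube_le_card hBe
      rw [← hAc]
      by_contra hle
      push Not at hle
      exact hAB.not_ge (Subgroup.eq_of_le_of_card_ge hAB.le hle).ge
    · intro b hb
      rw [mem_centralizer_iff]
      intro x hx
      have hxB : x ∈ B := hAB.le (le_sup_left (a := X) hx)
      have h := hBe.1.is_comm.comm (⟨x, hxB⟩ : B) ⟨b, hb⟩
      exact congrArg Subtype.val h

end Cfsg.Agent.Lib.Helper97_IdealCube
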