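import Mathlib
import Cfsg.Prelude.Def_OddOrderLocal
import Cfsg.Agent.Lib.Helper20_PGroupRank3
import Cfsg.Agent.Lib.Helper10_Thompson
import Cfsg.Agent.Lib.Helper1_FPF
import Cfsg.Agent.Lib.Helper22_Uniq6
import Cfsg.Agent.Lib.Helper97_IdealCube

/-!
# A subgroup of order `p` of `P'` has a centralizer of rank `≥ 3` in the `p`-group `P` of rank `≥ 3`
(helper97; lemma (A) requested by helper73 for S1423)
-/

set_option autoImplicit false

namespace Cfsg.Agent.Lib.Helper97_RankCent

open Subgroup Cfsg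
open scoped commutatorElement

section Inner

variable {R : Type*} [Group R] [Finite R] {p : ℕ} [hp : Fact p.Prime]

/-- the derived subgroup of a finite `p`-group centralizes every normal subgroup `A` of order `p ^ 2`
and exponent `p` -/
theorem commutator_le_centralizer_of_normal_sq (hR : IsPGroup p R) (A : Subgroup R) [hAn : A.Normal]
    (hAe : ∀ x ∈ A, x ^ p = 1) (hA2 : Nat.card A = p ^ 2) :
    commutator R ≤ centralizer (A : Set R) := by
  have hpp : p.Prime := hp.out
  have hA1 : A ≠ ⊥ := by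
    intro h
    rw [h, Subgroup.card_bot] at hA2
    have := Nat.one_lt_pow (n := 2) (by norm_num) hpp.one_lt
    omega
  obtain ⟨z, hzA, hzc, hz1⟩ := Cfsg.Agent.Lib.Helper32_PGroup.exists_mem_center_of_normal hR A hA1
  have hzo : orderOf z = p := orderOf_eq_prime (hAe z hzA) hz1
  have hZn : (Subgroup.zpowers z).Normal :=
    Cfsg.Agent.Lib.Helper32_PGroup.normal_of_le_center _ (Subgroup.zpowers_le.mpr hzc)
  have hAZ : ¬ A ≤ Subgroup.zpowers z := by
    intro h
    have h1 := Subgroup.card_le_of_le h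
    rw [hA2, Nat.card_zpowers, hzo] at h1
    have : p < p ^ 2 := by
      calc p = p ^ 1 := (pow_one p).symm
        _ < p ^ 2 := Nat.pow_lt_pow_right hpp.one_lt (by norm_num)
    omega
  obtain ⟨w, hwA, hwZ, hw⟩ :=
    Cfsg.Agent.Lib.Helper20_PGroupRank3.exists_central_mod hR (Subgroup.zpowers z) A hAZ
  have hw1 : w ≠ 1 := by
    rintro rfl
    exact hwZ (Subgroup.one_mem _)
  have hwo : orderOf w = p := orderOf_eq_prime (hAe w hwA) hw1
  have hsup : Subgroup.zpowers z ⊔ Subgroup.zpowers w = A := by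
    apply Subgroup.eq_of_le_of_card_ge
    · exact sup_le (Subgroup.zpowers_le.mpr hzA) (Subgroup.zpowers_le.mpr hwA)
    · rw [Cfsg.Agent.Lib.Helper20_PGroupOdd.card_sup_zpowers hzc hzo hwo hwZ, hA2]
  have hab : ∀ a b : ↥(Subgroup.zpowers z), a * b = b * a := by
    rintro ⟨a, ha⟩ ⟨b, hb⟩
    obtain ⟨i, rfl⟩ := Subgroup.mem_zpowers_iff.mp ha
    obtain ⟨j, rfl⟩ := Subgroup.mem_zpowers_iff.mp hb
    apply Subtype.ext
    exact zpow_mul_comm z i j
  set f := Cfsg.Agent.Lib.Helper20_PGroupRank3.commHom hzc hw with hf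
  rw [commutator_def, Subgroup.commutator_le]
  intro r _ s _
  have hker : ⁅r, s⁆ ∈ f.ker := by
    rw [MonoidHom.mem_ker, map_commutatorElement, commutatorElement_def, hab (f r) (f s)]
    group
  have hcw : ⁅r, s⁆ * w = w * ⁅r, s⁆ :=
    (Cfsg.Agent.Lib.Helper20_PGroupRank3.mem_commHom_ker hzc hw _).mp hker
  have hcz : ⁅r, s⁆ * z = z * ⁅r, s⁆ := Subgroup.mem_center_iff.mp hzc _
  have hle : A ≤ centralizer ({⁅r, s⁆} : Set R) := by
    rw [← hsup]
    refine sup_le ?_ ?_
    · rw [Subgroup.zpowers_le, mem_centralizer_iff]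
      intro y hy
      rw [Set.mem_singleton_iff] at hy
      rw [hy]; exact hcz
    · rw [Subgroup.zpowers_le, mem_centralizer_iff]
      intro y hy
      rw [Set.mem_singleton_iff] at hy
      rw [hy]; exact hcw
  rw [mem_centralizer_iff]
  intro a ha
  exact ((mem_centralizer_iff.mp (hle ha)) _ (Set.mem_singleton _)).symm

/-- inside a finite `p`-group `R` (`p` odd) of rank at least `3`, a subgroup of order `p` of the
derived subgroup is centralized by an elementary abelian subgroup of order at least `p ^ 3` -/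
theorem exists_elemAb_centralizing (hp2 : p ≠ 2) (hR : IsPGroup p R) (hr : ¬ PRankLE p 2 R)
    {X : Subgroup R} (hX : Nat.card X = p) (hXc : X ≤ commutator R) :
    ∃ E : Subgroup R, IsElementaryAbelian p E ∧ p ^ 3 ≤ Nat.card E ∧
      E ≤ centralizer (X : Set R) := by
  have hpp : p.Prime := hp.out
  -- a big elementary abelian subgroup
  unfold PRankLE at hr
  push Not at hr
  obtain ⟨E0, hE0c, hE0e, hE03⟩ := hr
  have hE0 : IsElementaryAbelian p E0 := ⟨hE0c, hE0e⟩
  have hE0card := Cfsg.Agent.Lib.Helper97_IdealCube.cube_le_card hE0 hE03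
  obtain ⟨B, hBn, hBc, hBe, hB3⟩ :=
    Cfsg.Agent.Lib.Helper20_PGroupRank3.exists_normal_rank_three hp2 hR E0
      (fun x hx y hy => congrArg Subtype.val (hE0c.is_comm.comm (⟨x, hx⟩ : E0) ⟨y, hy⟩)) hE0e hE0card
  have hBea : IsElementaryAbelian p B :=
    ⟨⟨⟨fun a b => Subtype.ext (hBc a.1 a.2 b.1 b.2)⟩⟩, hBe⟩
  have hBnc : ¬ IsCyclic ↥B := by
    intro hcyc
    obtain ⟨g, hg⟩ := hcyc.exists_generator
    have h1 : orderOf g = Nat.card ↥B := orderOf_eq_card_of_forall_mem_zpowers hg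
    have h2 : g ^ p = 1 := Subtype.ext (by rw [Subgroup.coe_pow]; exact hBe g.1 g.2)
    have h3 : orderOf g ∣ p := orderOf_dvd_of_pow_eq_one h2
    have h4 : Nat.card ↥B ≤ p := by rw [← h1]; exact Nat.le_of_dvd hpp.pos h3
    rw [hB3] at h4
    have : p < p ^ 3 := by
      calc p = p ^ 1 := (pow_one p).symm
        _ < p ^ 3 := Nat.pow_lt_pow_right hpp.one_lt (by norm_num)
    omega
  obtain ⟨A, hAB, hAn, hAc, hAe, hA2⟩ :=
    Cfsg.Agent.Lib.Helper20_PGroupOdd.exists_normal_rank_two hp2 hR B hBnc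
  have hAea : IsElementaryAbelian p A :=
    ⟨⟨⟨fun a b => Subtype.ext (hAc a.1 a.2 b.1 b.2)⟩⟩, hAe⟩
  have hXcA : X ≤ centralizer (A : Set R) :=
    hXc.trans (commutator_le_centralizer_of_normal_sq hR A hAe hA2)
  have hXe : IsElementaryAbelian p X := by
    have hcyc : IsCyclic ↥X := isCyclic_of_prime_card hX
    refine ⟨⟨⟨fun a b => ?_⟩⟩, ?_⟩
    · exact IsCyclic.commGroup.mul_comm a b
    · intro a ha
      have h := pow_card_eq_one' (G := ↥X) (x := ⟨a, ha⟩)
      rw [hX] at h
      exact congrArg Subtype.val h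
  by_cases hXB : X ≤ B
  · refine ⟨B, hBea, hB3.ge, ?_⟩
    intro b hb
    rw [mem_centralizer_iff]
    intro x hx
    exact hBc x (hXB hx) b hb
  · have hdisj : X ⊓ A = ⊥ := by
      by_contra hne
      have h1 : Nat.card ↥(X ⊓ A : Subgroup R) ∣ p := by
        rw [← hX]
        exact Subgroup.card_dvd_of_le inf_le_left
      rcases (Nat.dvd_prime hpp).mp h1 with h | h
      · exact hne (Subgroup.card_eq_one.mp h)
      · have h2 : X ⊓ A = X := Subgroup.eq_of_le_of_card_ge inf_le_left (by rw [h, hX])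
        exact hXB ((inf_eq_left.mp h2).trans hAB)
    have hcomm : ∀ a ∈ X, ∀ b ∈ A, a * b = b * a := by
      intro a ha b hb
      exact ((mem_centralizer_iff.mp (hXcA ha)) b hb).symm
    have hXN : X ≤ normalizer (A : Set R) := by
      rw [Subgroup.normalizer_eq_top]
      exact le_top
    refine ⟨X ⊔ A, Cfsg.Agent.Lib.Helper10_Thompson.isElementaryAbelian_sup hXe hAea hcomm, ?_, ?_⟩
    · rw [Cfsg.Agent.Lib.Helper1_FPF.card_sup_of_le_normalizer X A hXN hdisj, hX, hA2]
      exact (by ring_nf : p ^ 3 = p * p ^ 2).le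
    · refine sup_le ?_ ?_
      · intro a ha
        rw [mem_centralizer_iff]
        intro x hx
        exact congrArg Subtype.val (hXe.1.is_comm.comm (⟨x, hx⟩ : X) ⟨a, ha⟩)
      · intro b hb
        rw [mem_centralizer_iff]
        intro x hx
        exact hcomm x hx b hb

end Inner

/-- **helper73's lemma (A).** -/
theorem not_pRankLE_centralizer_of_le_commutator {G : Type*} [Group G] [Finite G] {p : ℕ}
    [Fact p.Prime] (hp2 : p ≠ 2) {P X : Subgroup G} (hP : IsPGroup p P)
    (hr : ¬ Cfsg.PRankLE p 2 ↥P) (hX : Nat.card X = p) (hXP : X ≤ ⁅P, P⁆) :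
    ¬ Cfsg.PRankLE p 2 ↥(P ⊓ Subgroup.centralizer (X : Set G)) := by
  have hpp : p.Prime := Fact.out
  have hXleP : X ≤ P := hXP.trans (Subgroup.commutator_le_self P)
  have hX' : Nat.card ↥(X.subgroupOf P) = p := by
    rw [Nat.card_congr (Subgroup.subgroupOfEquivOfLe hXleP).toEquiv, hX]
  have hXc' : X.subgroupOf P ≤ commutator ↥P := by
    rw [← Subgroup.map_le_map_iff_of_injective P.subtype_injective,
      Subgroup.map_subgroupOf_eq_of_le hXleP, Subgroup.map_subtype_commutator]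
    exact hXP
  obtain ⟨E, hEe, hE3, hEX⟩ := exists_elemAb_centralizing hp2 hP hr hX' hXc'
  refine Cfsg.Agent.Lib.Helper22_Uniq.not_pRankLE_of_elemAb (E := E.map P.subtype) ?_ ?_ ?_ ?_
  · intro y hy
    obtain ⟨e, he, rfl⟩ := hy
    refine Subgroup.mem_inf.mpr ⟨e.2, ?_⟩
    rw [Subgroup.mem_centralizer_iff]
    intro x hx
    have h := (Subgroup.mem_centralizer_iff.mp (hEX he)) ⟨x, hXleP hx⟩
      (Subgroup.mem_subgroupOf.mpr hx)
    have h' := congrArg Subtype.val h
    simpa using h'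
  · rintro _ ⟨a, ha, rfl⟩ _ ⟨b, hb, rfl⟩
    have h1 : a * b = b * a := congrArg Subtype.val (hEe.1.is_comm.comm (⟨a, ha⟩ : E) ⟨b, hb⟩)
    have h' := congrArg Subtype.val h1
    simpa using h'
  · rintro _ ⟨a, ha, rfl⟩
    have h' := congrArg Subtype.val (hEe.2 a ha)
    simpa using h'
  · rw [Subgroup.card_map_of_injective P.subtype_injective]
    exact lt_of_lt_of_le (Nat.pow_lt_pow_right hpp.one_lt (by norm_num)) hE3

end Cfsg.Agent.Lib.Helper97_RankCent
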