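import Mathlib
import Cfsg.Prelude.Def_OddOrderLocal
import Cfsg.Agent.Lib.Helper48_BG157a
import Cfsg.Agent.Lib.Helper48_BG15c
import Cfsg.Agent.Lib.Helper48_BG153b
import Cfsg.Agent.Lib.Helper48_BG153c
import Cfsg.Agent.Lib.Helper76_BG13a
import Cfsg.Agent.S1350
import Cfsg.Agent.S1403
import Cfsg.Agent.S1404
import Cfsg.Agent.S1426
import Cfsg.Agent.S1439

/-!
# B-G Theorem 15.7 (case `K ≠ 1`), part 1: `X = F(M) ∩ F(M)^g ≤ M_σ`, `X` cyclic,
choice of `x ∈ X` of prime order with `C_G(x) ≰ M`.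
-/

set_option autoImplicit false
set_option linter.unusedSectionVars false
set_option linter.unusedVariables false
set_option linter.style.haveILetI false

namespace Cfsg.Agent.Lib.Helper48_BG157b

open Cfsg
open Cfsg.Agent.Lib.Helper49_Sigma
open Cfsg.Agent.Lib.Helper48_BG15a
open Cfsg.Agent.Lib.Helper48_BG157a
open scoped commutatorElement

universe u

variable {G : Type u} [Group G] [Finite G]

/-- conjugation by `g` as a monoid hom -/
abbrev cjh (g : G) : G →* G := (MulAut.conj g).toMonoidHom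

/-- `Y = O_{σ(M)'}(F(M))` -/
abbrev YY (M : Subgroup G) : Subgroup G :=
  piCoreOf {q | q.Prime ∧ q ∉ sigma M} (fittingOf M)

/-- `X = F(M) ∩ F(M)^g` -/
abbrev XX (M : Subgroup G) (g : G) : Subgroup G :=
  fittingOf M ⊓ (fittingOf M).map (MulAut.conj g).toMonoidHom

/-- `K* = C_{M_σ}(K)` -/
abbrev Kst (M K : Subgroup G) : Subgroup G := sigmaCore M ⊓ Subgroup.centralizer (K : Set G)

theorem uniq (hG : IsMinSimpleOddOrder G) : UniqHyp G :=
  fun K hK hK2 hK3 => Cfsg.Agent.S1403.result hG K hK hK2 hK3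

/-- The hypotheses: the frozen rows S1357, S1375, S1430(a), S1354/S1364, S1431(c), S1353 for the
given `M`, `K`, `U`, and the non-TI assumption. -/
structure Hyp (M K U : Subgroup G) (g : G) : Prop where
  hG : IsMinSimpleOddOrder G
  hM : IsCoatom M
  hKU : IsSigmaDecomposition M K U
  hK1 : K ≠ ⊥
  h57 : fittingHallOf M ≠ sigmaCore M → IsTISubset (fittingOf M : Set G)
  h75 : ∀ x ∈ sigmaCore M, x ≠ 1 → ¬ Subgroup.centralizer ({x} : Set G) ≤ M →
    ∃ N : Subgroup G, IsCoatom N ∧ Subgroup.centralizer ({x} : Set G) ≤ N ∧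
      IsComplIn (M ⊓ Subgroup.centralizer ({x} : Set G))
        (sigmaCore N ⊓ Subgroup.centralizer ({x} : Set G)) (Subgroup.centralizer ({x} : Set G)) ∧
      IsComplIn (M ⊓ N) (sigmaCore N) N
  h30 : ∀ k ∈ K, k ≠ 1 → sigmaCore M ⊓ Subgroup.centralizer ({k} : Set G) = Kst M K
  hKs : Kst M K ≠ ⊥
  hKsc : IsCyclic ↥(Kst M K)
  h31 : ∀ p : ℕ, p.Prime → p ∣ Nat.card ↥(Kst M K) → ∀ S : Sylow p ↥(sigmaCore M),
    InUniqueMaximal ((S : Subgroup ↥(sigmaCore M)).map (sigmaCore M).subtype)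
  h53 : ∀ k ∈ K, k ≠ 1 → U ⊓ Subgroup.centralizer ({k} : Set G) = ⊥
  hg : g ∉ M
  hX : XX M g ≠ ⊥

variable {M K U : Subgroup G} {g : G}

theorem fittingOf_le (M : Subgroup G) : fittingOf M ≤ M := Subgroup.map_subtype_le _

theorem sigmaCore_le (M : Subgroup G) : sigmaCore M ≤ M := Subgroup.map_subtype_le _

theorem le_normalizer_fittingOf (M : Subgroup G) :
    M ≤ Subgroup.normalizer ((fittingOf M : Subgroup G) : Set G) := by
  haveI : (fittingSubgroup ↥M).Normal := Cfsg.Agent.Lib.Helper1_Cores.fittingSubgroup_normal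
  exact Cfsg.Agent.Lib.Helper52_BG12a.le_normalizer_map_subtype M (fittingSubgroup ↥M)

theorem le_normalizer_sigmaCore (M : Subgroup G) :
    M ≤ Subgroup.normalizer ((sigmaCore M : Subgroup G) : Set G) :=
  Cfsg.Agent.Lib.Helper52_BG12a.le_normalizer_map_subtype M (piCore (sigma M) ↥M)

theorem Hyp.fittingOf_ne_bot (h : Hyp M K U g) : fittingOf M ≠ ⊥ := by
  intro h0
  apply h.hX
  rw [eq_bot_iff]
  exact inf_le_left.trans h0.le

theorem Hyp.normalizer_fittingOf (h : Hyp M K U g) :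
    Subgroup.normalizer ((fittingOf M : Subgroup G) : Set G) = M :=
  Cfsg.Agent.Lib.Helper52_BG12a.normalizer_eq_of_le h.hG h.hM h.fittingOf_ne_bot (fittingOf_le M)
    (le_normalizer_fittingOf M)

/-- `F(M)` is not a TI-subset -/
theorem Hyp.not_ti (h : Hyp M K U g) : ¬ IsTISubset (fittingOf M : Set G) := by
  intro hti
  obtain ⟨y, hy, hy1⟩ := (Subgroup.ne_bot_iff_exists_ne_one).mp h.hX |> fun ⟨⟨y, hy⟩, hne⟩ =>
    (⟨y, hy, fun h1 => hne (Subtype.ext h1)⟩ : ∃ y, y ∈ XX M g ∧ y ≠ 1)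
  obtain ⟨hyF, z, hzF, hzy⟩ := hy
  have hgN : g ∉ Subgroup.normalizer ((fittingOf M : Subgroup G) : Set G) := by
    rw [h.normalizer_fittingOf]; exact h.hg
  have h1 : z = 1 := by
    apply hti g hgN z hzF
    have : g * z * g⁻¹ = y := by rw [← hzy]; rfl
    rw [this]; exact hyF
  apply hy1
  rw [← hzy, h1]; simp

theorem Hyp.fittingHallOf_eq (h : Hyp M K U g) : fittingHallOf M = sigmaCore M := by
  by_contra hne
  exact h.not_ti (h.h57 hne)

theorem Hyp.nil (h : Hyp M K U g) : Group.IsNilpotent ↥(sigmaCore M) := by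
  rw [← h.fittingHallOf_eq]
  haveI := Cfsg.Agent.Lib.Helper48_BG153b.fittingHall_isNilpotent ↥M
  exact Group.nilpotent_of_mulEquiv
    ((fittingHall ↥M).equivMapOfInjective M.subtype M.subtype_injective)

theorem fittingOf_eq_self_of_nil {H : Subgroup G} (hnil : Group.IsNilpotent ↥H) :
    fittingOf H = H := by
  unfold fittingOf
  have h1 : fittingSubgroup ↥H = ⊤ := by
    rw [eq_top_iff]
    apply Cfsg.Agent.Lib.Helper1_Cores.le_fittingSubgroup inferInstance
    exact Group.nilpotent_of_mulEquiv (Subgroup.topEquiv (G := ↥H)).symm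
  rw [h1, ← MonoidHom.range_eq_map, Subgroup.range_subtype]

theorem Hyp.fittingOf_eq (h : Hyp M K U g) : fittingOf M = sigmaCore M ⊔ YY M := by
  have h1 := (Cfsg.Agent.S1439.result h.hG M h.hM).2.2
  rw [fittingOf_eq_self_of_nil h.nil] at h1
  exact h1

theorem Hyp.YY_cyclic (h : Hyp M K U g) : IsCyclic ↥(YY M) :=
  (Cfsg.Agent.S1439.result h.hG M h.hM).1

theorem Hyp.YY_tau2 (h : Hyp M K U g) :
    ∀ p : ℕ, p.Prime → p ∣ Nat.card ↥(YY M) → p ∈ tau2 M :=
  (Cfsg.Agent.S1439.result h.hG M h.hM).2.1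

theorem YY_le (M : Subgroup G) : YY M ≤ fittingOf M := Subgroup.map_subtype_le _

/-- `M` normalizes `Y` -/
theorem le_normalizer_YY (M : Subgroup G) :
    M ≤ Subgroup.normalizer ((YY M : Subgroup G) : Set G) := by
  have h1 : Subgroup.normalizer ((fittingOf M : Subgroup G) : Set G) ≤
      Subgroup.normalizer ((YY M : Subgroup G) : Set G) := by
    haveI : (piCore {q | q.Prime ∧ q ∉ sigma M} ↥(fittingOf M)).Characteristic :=
      Cfsg.Agent.Lib.Helper32_Cores.piCore_characteristic _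
    exact Cfsg.Agent.Lib.Helper24_CoprimeAction.normalizer_le_normalizer_map_of_characteristic
      (fittingOf M) (piCore {q | q.Prime ∧ q ∉ sigma M} ↥(fittingOf M))
  exact (le_normalizer_fittingOf M).trans h1

theorem pow_card_of_mem {A : Subgroup G} {a : G} (ha : a ∈ A) : a ^ Nat.card ↥A = 1 :=
  orderOf_dvd_iff_pow_eq_one.mp (Subgroup.orderOf_dvd_natCard A ha)

/-- `N_G(M) = M` -/
theorem normalizer_coatom (hG : IsMinSimpleOddOrder G) {M : Subgroup G} (hM : IsCoatom M) :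
    Subgroup.normalizer (M : Set G) = M :=
  Cfsg.Agent.Lib.Helper52_BG12a.normalizer_eq_of_le hG hM
    (Cfsg.Agent.Lib.Helper52_BG12a.coatom_ne_bot hG hM) le_rfl Subgroup.le_normalizer

/-- a conjugate `M^g ≤ M` of a maximal subgroup forces `g ∈ M` -/
theorem mem_of_map_le (hG : IsMinSimpleOddOrder G) {M : Subgroup G} (hM : IsCoatom M) {g : G}
    (h : M.map (cjh g) ≤ M) : g ∈ M := by
  have h1 : M.map (cjh g) = M := by
    apply Subgroup.eq_of_le_of_card_ge h
    rw [Subgroup.card_map_of_injective (MulAut.conj g).injective]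
  have h2 : g ∈ Subgroup.normalizer (M : Set G) :=
    Cfsg.Agent.Lib.Helper24_CoprimeAction.mem_normalizer_iff_map_conj.mpr h1
  rwa [normalizer_coatom hG hM] at h2

/-- a subgroup of `M` normalized by `M` and by `M^g` with `g ∉ M` is trivial -/
theorem eq_bot_of_normalized (hG : IsMinSimpleOddOrder G) {M : Subgroup G} (hM : IsCoatom M)
    {g : G} (hg : g ∉ M) {T : Subgroup G} (hTM : T ≤ M)
    (h1 : M ≤ Subgroup.normalizer (T : Set G))
    (h2 : M.map (cjh g) ≤ Subgroup.normalizer (T : Set G)) : T = ⊥ := by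
  by_contra hne
  have h3 := Cfsg.Agent.Lib.Helper52_BG12a.normalizer_eq_of_le hG hM hne hTM h1
  rw [h3] at h2
  exact hg (mem_of_map_le hG hM h2)

theorem map_le_normalizer_map {A B : Subgroup G} (h : A ≤ Subgroup.normalizer (B : Set G))
    (g : G) : A.map (cjh g) ≤ Subgroup.normalizer ((B.map (cjh g) : Subgroup G) : Set G) :=
  (Subgroup.map_mono h).trans (Subgroup.le_normalizer_map _)

theorem Hyp.sigma_hall (h : Hyp M K U g) : IsPiHallOf (sigma M) (sigmaCore M) M :=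
  (Cfsg.Agent.S1350.result h.hG M h.hM).1

theorem Hyp.sigma_hallG (h : Hyp M K U g) : IsPiHall (sigma M) (sigmaCore M) :=
  (Cfsg.Agent.S1350.result h.hG M h.hM).2.1

theorem card_YY_not_sigma (M : Subgroup G) :
    ∀ q : ℕ, q.Prime → q ∣ Nat.card ↥(YY M) → q ∉ sigma M := by
  intro q hq hd
  have h1 : Nat.card ↥(YY M) =
      Nat.card ↥(piCore {q | q.Prime ∧ q ∉ sigma M} ↥(fittingOf M)) :=
    Subgroup.card_map_of_injective (fittingOf M).subtype_injective
  rw [h1] at hd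
  exact (Cfsg.Agent.Lib.Helper32_Cores.card_piCore _ q hq hd).2

theorem Hyp.coprime_sigma_YY (h : Hyp M K U g) :
    (Nat.card ↥(sigmaCore M)).Coprime (Nat.card ↥(YY M)) := by
  apply Nat.coprime_of_dvd
  intro q hq hd hd'
  exact card_YY_not_sigma M q hq hd' (h.sigma_hall.2.1 q hq hd)

theorem Hyp.sigma_inf_YY (h : Hyp M K U g) : sigmaCore M ⊓ YY M = ⊥ :=
  Subgroup.inf_eq_bot_of_coprime h.coprime_sigma_YY

theorem YY_le_M (M : Subgroup G) : YY M ≤ M := (YY_le M).trans (fittingOf_le M)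

theorem Hyp.commute_sigma_YY (h : Hyp M K U g) :
    ∀ a ∈ sigmaCore M, ∀ c ∈ YY M, a * c = c * a := by
  intro a ha c hc
  have h1 : a * c * a⁻¹ * c⁻¹ ∈ sigmaCore M ⊓ YY M := by
    constructor
    · have hn := le_normalizer_sigmaCore M (YY_le_M M hc)
      have : c * a⁻¹ * c⁻¹ ∈ sigmaCore M :=
        (Subgroup.mem_normalizer_iff.mp hn a⁻¹).mp (Subgroup.inv_mem _ ha)
      have e : a * c * a⁻¹ * c⁻¹ = a * (c * a⁻¹ * c⁻¹) := by group
      rw [e]; exact Subgroup.mul_mem _ ha this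
    · have hn := le_normalizer_YY M (sigmaCore_le M ha)
      have : a * c * a⁻¹ ∈ YY M := (Subgroup.mem_normalizer_iff.mp hn c).mp hc
      exact Subgroup.mul_mem _ this (Subgroup.inv_mem _ hc)
  rw [h.sigma_inf_YY, Subgroup.mem_bot] at h1
  calc a * c = (a * c * a⁻¹ * c⁻¹) * (c * a) := by group
    _ = c * a := by rw [h1, one_mul]

/-- every element of `F(M)` is `a * c` with `a ∈ M_σ`, `c ∈ Y` -/
theorem Hyp.fitting_decomp (h : Hyp M K U g) {y : G} (hy : y ∈ fittingOf M) :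
    ∃ a ∈ sigmaCore M, ∃ c ∈ YY M, y = a * c := by
  rw [h.fittingOf_eq] at hy
  exact Cfsg.Agent.Lib.Helper24_CoprimeAction.exists_mul_of_mem_sup (YY M) (sigmaCore M)
    ((YY_le_M M).trans (le_normalizer_sigmaCore M)) hy

theorem Hyp.pow_mem_YY (h : Hyp M K U g) {y : G} (hy : y ∈ fittingOf M) :
    y ^ Nat.card ↥(sigmaCore M) ∈ YY M := by
  obtain ⟨a, ha, c, hc, rfl⟩ := h.fitting_decomp hy
  have hcomm : Commute a c := h.commute_sigma_YY a ha c hc
  rw [hcomm.mul_pow]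
  have h1 : a ^ Nat.card ↥(sigmaCore M) = 1 := pow_card_of_mem ha
  rw [h1, one_mul]
  exact Subgroup.pow_mem _ hc _

theorem Hyp.YY_inf_conj (h : Hyp M K U g) : YY M ⊓ (YY M).map (cjh g) = ⊥ := by
  apply eq_bot_of_normalized h.hG h.hM h.hg (inf_le_left.trans (YY_le_M M))
  · exact (le_normalizer_YY M).trans (le_normalizer_of_le_isCyclic h.YY_cyclic inf_le_left)
  · have hc : IsCyclic ↥((YY M).map (cjh g)) := by
      haveI := h.YY_cyclic
      exact isCyclic_of_surjective _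
        ((YY M).equivMapOfInjective (cjh g) (MulAut.conj g).injective).surjective
    exact (map_le_normalizer_map (le_normalizer_YY M) g).trans
      (le_normalizer_of_le_isCyclic hc inf_le_right)

/-- `X = F(M) ∩ F(M)^g ≤ M_σ` -/
theorem Hyp.XX_le_sigmaCore (h : Hyp M K U g) : XX M g ≤ sigmaCore M := by
  intro y hy
  obtain ⟨hyF, z, hzF, hzy⟩ := hy
  set n := Nat.card ↥(sigmaCore M) with hn
  have h1 : y ^ n ∈ YY M := h.pow_mem_YY hyF
  have h2 : y ^ n ∈ (YY M).map (cjh g) := by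
    refine ⟨z ^ n, h.pow_mem_YY hzF, ?_⟩
    rw [map_pow]; exact congrArg (· ^ n) hzy
  have h3 : y ^ n = 1 := by
    have : y ^ n ∈ YY M ⊓ (YY M).map (cjh g) := ⟨h1, h2⟩
    rwa [h.YY_inf_conj, Subgroup.mem_bot] at this
  obtain ⟨a, ha, c, hc, rfl⟩ := h.fitting_decomp hyF
  have hcomm : Commute a c := h.commute_sigma_YY a ha c hc
  have h4 : a ^ n = 1 := pow_card_of_mem ha
  have h5 : c ^ n = 1 := by
    rw [hcomm.mul_pow, h4, one_mul] at h3; exact h3
  have h6 : c ^ Nat.card ↥(YY M) = 1 := pow_card_of_mem hc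
  have h7 : c = 1 := by
    have := pow_gcd_eq_one.mpr ⟨h5, h6⟩
    rw [Nat.Coprime.gcd_eq_one h.coprime_sigma_YY, pow_one] at this
    exact this
  rw [h7, mul_one]; exact ha

end Cfsg.Agent.Lib.Helper48_BG157b
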