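import Mathlib
import Cfsg.Prelude.Def_OddOrderLocal
import Cfsg.Agent.Lib.Helper48_BG157b
import Cfsg.Agent.S1405
import Cfsg.Agent.S1418
import Cfsg.Agent.S1420
import Cfsg.Agent.S0058
import Cfsg.Agent.Lib.Helper49_Alpha

/-!
# B-G Theorem 15.7 (case `K ≠ 1`), part 2: the maximal subgroup `N ≥ C_G(x)`.
-/

set_option autoImplicit false
set_option linter.unusedSectionVars false
set_option linter.unusedVariables false
set_option linter.style.haveILetI false

namespace Cfsg.Agent.Lib.Helper48_BG157b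

open Cfsg
open Cfsg.Agent.Lib.Helper49_Sigma
open Cfsg.Agent.Lib.Helper48_BG15a
open Cfsg.Agent.Lib.Helper48_BG157a
open scoped commutatorElement

universe u

variable {G : Type u} [Group G] [Finite G] {M K U : Subgroup G} {g : G}

theorem Hyp.solvM (h : Hyp M K U g) : Group.IsSolvable ↥M := h.hG.2.2.2 M h.hM.1

/-- a complement of `M_σ` in `M` -/
theorem Hyp.exists_compl (h : Hyp M K U g) : ∃ E, IsComplIn E (sigmaCore M) M := by
  obtain ⟨E, hE, -⟩ := Cfsg.Agent.Lib.Helper76_BG13a.exists_compl_ge (T := (⊥ : Subgroup G))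
    h.solvM h.sigma_hall bot_le (by
      intro q hq hd
      rw [Subgroup.card_bot] at hd
      exact absurd (Nat.dvd_one.mp hd) hq.one_lt.ne')
  exact ⟨E, hE⟩

theorem XX_le_map (M : Subgroup G) (g : G) : XX M g ≤ M.map (cjh g) :=
  inf_le_right.trans (Subgroup.map_mono (fittingOf_le M))

theorem Hyp.XX_le_inf (h : Hyp M K U g) : XX M g ≤ sigmaCore M ⊓ M.map (cjh g) :=
  le_inf h.XX_le_sigmaCore (XX_le_map M g)

theorem Hyp.XX_cyclic (h : Hyp M K U g) : IsCyclic ↥(XX M g) := by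
  obtain ⟨E, hE⟩ := h.exists_compl
  haveI := ((Cfsg.Agent.S1426.result h.hG M h.hM E hE).2.2 g h.hg).1
  exact Subgroup.isCyclic_of_le h.XX_le_inf

theorem Hyp.XX_not_beta (h : Hyp M K U g) :
    ∀ p : ℕ, p.Prime → p ∣ Nat.card ↥(XX M g) → p ∉ beta M := by
  obtain ⟨E, hE⟩ := h.exists_compl
  intro p hp hd
  exact ((Cfsg.Agent.S1426.result h.hG M h.hM E hE).2.2 g h.hg).2.1 p hp
    (hd.trans (Subgroup.card_dvd_of_le h.XX_le_inf))

theorem Hyp.XX_inf_comm (h : Hyp M K U g) :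
    XX M g ⊓ ⁅sigmaCore M, sigmaCore M⁆ = ⊥ := by
  obtain ⟨E, hE⟩ := h.exists_compl
  have h1 := ((Cfsg.Agent.S1426.result h.hG M h.hM E hE).2.2 g h.hg).2.2
  rw [eq_bot_iff, ← h1]
  exact inf_le_inf_right _ h.XX_le_inf

/-- The Sylow `p`-subgroup of `M_σ`. -/
abbrev PP (M : Subgroup G) (p : ℕ) : Subgroup G := Q1 (sigmaCore M) p

section Elt

variable {x : G} {p : ℕ} [hp : Fact p.Prime]

theorem Hyp.p_mem_sigma (h : Hyp M K U g) (hx : x ∈ XX M g) (hxo : orderOf x = p) :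
    p ∈ sigma M := by
  apply h.sigma_hall.2.1 p hp.out
  rw [← hxo]
  exact Subgroup.orderOf_dvd_natCard _ (h.XX_le_sigmaCore hx)

theorem Hyp.p_not_beta (h : Hyp M K U g) (hx : x ∈ XX M g) (hxo : orderOf x = p) :
    p ∉ beta M := by
  apply h.XX_not_beta p hp.out
  rw [← hxo]
  exact Subgroup.orderOf_dvd_natCard _ hx

theorem x_ne_one (hxo : orderOf x = p) : x ≠ 1 := by
  rintro rfl
  rw [orderOf_one] at hxo
  exact hp.out.one_lt.ne' hxo.symm

theorem Hyp.x_not_mem_comm (h : Hyp M K U g) (hx : x ∈ XX M g) (hxo : orderOf x = p) :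
    x ∉ ⁅sigmaCore M, sigmaCore M⁆ := by
  intro hc
  have : x ∈ XX M g ⊓ ⁅sigmaCore M, sigmaCore M⁆ := ⟨hx, hc⟩
  rw [h.XX_inf_comm, Subgroup.mem_bot] at this
  exact x_ne_one hxo this

theorem Hyp.x_mem_PP (h : Hyp M K U g) (hx : x ∈ XX M g) (hxo : orderOf x = p) :
    x ∈ PP M p := by
  apply mem_Q1_of_pow h.nil p (h.XX_le_sigmaCore hx) 1
  rw [pow_one, ← hxo]
  exact pow_orderOf_eq_one x

/-- `C_G(x) ≰ M` -/
theorem Hyp.cent_not_le (h : Hyp M K U g) (hx : x ∈ XX M g) (hxo : orderOf x = p) :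
    ¬ Subgroup.centralizer ({x} : Set G) ≤ M := by
  intro hle
  have hxM : x ∈ M := sigmaCore_le M (h.XX_le_sigmaCore hx)
  have hz : IsPGroup p ↥(Subgroup.zpowers x) := by
    apply isPGroup_zpowers_of_pow
    rw [← hxo]; exact pow_orderOf_eq_one x
  have hz1 : Subgroup.zpowers x ≠ ⊥ := by
    intro h0
    exact x_ne_one hxo (Subgroup.zpowers_eq_bot.mp h0)
  have h1 := (Cfsg.Agent.S1404.result h.hG M h.hM p (h.p_mem_sigma hx hxo) (Subgroup.zpowers x)
    hz hz1 (Subgroup.zpowers_le.mpr hxM)).1 g⁻¹ (by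
      rw [Subgroup.map_le_iff_le_comap, Subgroup.zpowers_le]
      obtain ⟨z, hzF, hzy⟩ := (XX_le_map M g) hx
      have : (MulAut.conj g⁻¹).toMonoidHom x = z := by
        rw [← hzy]; simp [MulAut.conj_apply]; group
      show (MulAut.conj g⁻¹).toMonoidHom x ∈ M
      rw [this]; exact hzF)
  obtain ⟨m, hm, c, hc, hgc⟩ := h1
  have hcM : c ∈ M := by
    apply hle
    rw [Subgroup.mem_centralizer_iff] at hc ⊢
    intro y hy
    rw [Set.mem_singleton_iff] at hy
    rw [hy]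
    exact hc x (Subgroup.mem_zpowers x)
  have : g⁻¹ ∈ M := by rw [hgc]; exact M.mul_mem hm hcM
  exact h.hg (by simpa using M.inv_mem this)

end Elt

/-- the maximal subgroup `N` containing `C_G(x)` given by B-G 14.4 (S1375) -/
structure NData (M N : Subgroup G) (x : G) : Prop where
  hN : IsCoatom N
  hCN : Subgroup.centralizer ({x} : Set G) ≤ N
  hc1 : IsComplIn (M ⊓ Subgroup.centralizer ({x} : Set G))
        (sigmaCore N ⊓ Subgroup.centralizer ({x} : Set G)) (Subgroup.centralizer ({x} : Set G))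
  hc2 : IsComplIn (M ⊓ N) (sigmaCore N) N

section N

variable {x : G} {p : ℕ} [hp : Fact p.Prime] {N : Subgroup G}

theorem Hyp.exists_NData (h : Hyp M K U g) (hx : x ∈ XX M g) (hxo : orderOf x = p) :
    ∃ N, NData M N x := by
  obtain ⟨N, h1, h2, h3, h4⟩ := h.h75 x (h.XX_le_sigmaCore hx) (x_ne_one hxo)
    (h.cent_not_le hx hxo)
  exact ⟨N, h1, h2, h3, h4⟩

theorem NData.ne (d : NData M N x) (hnot : ¬ Subgroup.centralizer ({x} : Set G) ≤ M) : N ≠ M := by
  rintro rfl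
  exact hnot d.hCN

theorem NData.R0_ne_bot (d : NData M N x) (hnot : ¬ Subgroup.centralizer ({x} : Set G) ≤ M) :
    sigmaCore N ⊓ Subgroup.centralizer ({x} : Set G) ≠ ⊥ := by
  intro h0
  apply hnot
  intro c hc
  obtain ⟨a, ha, b, hb, rfl⟩ := d.hc1.2.2.2 c hc
  rw [h0, Subgroup.mem_bot] at hb
  rw [hb, mul_one]
  exact ha.1

/-- the primes of `M ∩ N` are not in `σ(N)` -/
theorem NData.not_sigma (d : NData M N x) (hG : IsMinSimpleOddOrder G) :
    ∀ q : ℕ, q.Prime → q ∣ Nat.card ↥(M ⊓ N) → q ∉ sigma N :=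
  (Cfsg.Agent.Lib.Helper76_BG13a.piHall_of_isComplIn
    (Cfsg.Agent.S1350.result hG N d.hN).1 d.hc2).2.1

theorem NData.not_sigma_of_le (d : NData M N x) (hG : IsMinSimpleOddOrder G) {T : Subgroup G}
    (hT : T ≤ M ⊓ N) : ∀ q : ℕ, q.Prime → q ∣ Nat.card ↥T → q ∉ sigma N :=
  fun q hq hd => d.not_sigma hG q hq (hd.trans (Subgroup.card_dvd_of_le hT))

/-- a subgroup of `M ∩ N` (of a `σ(N)'`-group) which is nilpotent is abelian -/
theorem NData.comm_of_nil (d : NData M N x) (hG : IsMinSimpleOddOrder G) {T : Subgroup G}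
    (hT : T ≤ M ⊓ N) (hnil : Group.IsNilpotent ↥T) : IsMulCommutative ↥T :=
  (Cfsg.Agent.S1420.result hG N d.hN (M ⊓ N) d.hc2).1 T (hT.trans inf_le_right) hnil
    (d.not_sigma_of_le hG hT)

/-- a prime `q ∉ σ(N)` has `N` of `q`-rank at most 2 -/
theorem pRankLE_two_of_not_sigma (hG : IsMinSimpleOddOrder G) (hN : IsCoatom N) {q : ℕ}
    (hq : q.Prime) (hqσ : q ∉ sigma N) : PRankLE q 2 ↥N := by
  by_contra hr
  exact hqσ (Cfsg.Agent.Lib.Helper49_Alpha.mem_sigma_of_mem_alpha hG (uniq hG) hN ⟨hq, hr⟩)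

/-- an elementary abelian subgroup of order `q ^ 2` of `M ∩ N` puts `q` in `τ₂(N)` -/
theorem NData.mem_tau2 (d : NData M N x) (hG : IsMinSimpleOddOrder G) {q : ℕ} (hq : q.Prime)
    {A : Subgroup G} (hA : A ≤ M ⊓ N) (hAe : IsElementaryAbelian q A)
    (hA2 : Nat.card ↥A = q ^ 2) : q ∈ tau2 N := by
  have hqσ : q ∉ sigma N := by
    apply d.not_sigma_of_le hG hA q hq
    rw [hA2]; exact dvd_pow_self q (by norm_num)
  refine ⟨hq, hqσ, pRankLE_two_of_not_sigma hG d.hN hq hqσ, ?_⟩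
  intro hr
  have hAN : A ≤ N := hA.trans inf_le_right
  have h1 := hr (A.subgroupOf N) (isMulCommutative_subgroupOf N hAe.1) (by
    intro a ha
    apply Subtype.ext
    simpa using hAe.2 a.1 ha)
  rw [Cfsg.Agent.Lib.Helper24_CoprimeAction.card_subgroupOf_of_le hAN, hA2, pow_one] at h1
  have : q < q ^ 2 := by
    have := hq.one_lt
    nlinarith
  omega

end N

end Cfsg.Agent.Lib.Helper48_BG157b
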