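import Mathlib
import Cfsg.Prelude.Def_OddOrderLocal
import Cfsg.Agent.Lib.Helper48_BG157c
import Cfsg.Agent.Lib.Helper23_PLength

/-!
# B-G Theorem 15.7 (case `K ≠ 1`), part 3: `K*` is a `p`-group, `P = O_p(M_σ)` is nonabelian and lies
in a unique maximal subgroup, `p ∈ τ₂(N)`, and the structure of `C_P(x)`.
-/

set_option autoImplicit false
set_option linter.unusedSectionVars false
set_option linter.unusedVariables false
set_option linter.style.haveILetI false

namespace Cfsg.Agent.Lib.Helper48_BG157b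

open Cfsg
open Cfsg.Agent.Lib.Helper49_Sigma
open Cfsg.Agent.Lib.Helper48_BG15a
open Cfsg.Agent.Lib.Helper48_BG157a
open scoped commutatorElement

universe u

variable {G : Type u} [Group G] [Finite G] {M K U : Subgroup G} {g : G}
variable {x : G} {p : ℕ} [hp : Fact p.Prime] {N : Subgroup G}

theorem PP_le (M : Subgroup G) (p : ℕ) : PP M p ≤ sigmaCore M := Q1_le _ _

theorem PP_le_M (M : Subgroup G) (p : ℕ) : PP M p ≤ M := (PP_le M p).trans (sigmaCore_le M)

theorem le_normalizer_PP (M : Subgroup G) (p : ℕ) [Fact p.Prime] :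
    M ≤ Subgroup.normalizer ((PP M p : Subgroup G) : Set G) :=
  (le_normalizer_sigmaCore M).trans (le_normalizer_Q1 _ _)

/-- a Sylow subgroup of `M_σ` for a prime `q ≠ p` centralizes `x` -/
theorem Hyp.PP_le_cent (h : Hyp M K U g) (hx : x ∈ XX M g) (hxo : orderOf x = p) {q : ℕ}
    [hq : Fact q.Prime] (hqp : q ≠ p) : PP M q ≤ Subgroup.centralizer ({x} : Set G) := by
  intro b hb
  rw [Subgroup.mem_centralizer_iff]
  intro y hy
  rw [Set.mem_singleton_iff] at hy
  rw [hy]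
  exact Q1_commute h.nil (Ne.symm hqp) x (h.x_mem_PP hx hxo) b hb

theorem sylow_map_eq_PP (hnil : Group.IsNilpotent ↥(sigmaCore M)) (q : ℕ) [Fact q.Prime]
    (S : Sylow q ↥(sigmaCore M)) :
    (S : Subgroup ↥(sigmaCore M)).map (sigmaCore M).subtype = PP M q := by
  unfold PP Q1
  rw [sylow_eq_pCore hnil q S]

theorem Hyp.unique_of_dvd (h : Hyp M K U g) {q : ℕ} [hq : Fact q.Prime]
    (hd : q ∣ Nat.card ↥(Kst M K)) : InUniqueMaximal (PP M q) := by
  have := h.h31 q hq.out hd default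
  rwa [sylow_map_eq_PP h.nil] at this

theorem not_le_of_unique {T L : Subgroup G} (hT : InUniqueMaximal T) (hM : IsCoatom M)
    (hTM : T ≤ M) (hL : IsCoatom L) (hne : L ≠ M) : ¬ T ≤ L := by
  intro hTL
  obtain ⟨Z, -, hZ⟩ := hT
  exact hne ((hZ L ⟨hL, hTL⟩).trans (hZ M ⟨hM, hTM⟩).symm)

/-- `K*` is a `p`-group -/
theorem Hyp.Kst_isPGroup (h : Hyp M K U g) (hx : x ∈ XX M g) (hxo : orderOf x = p)
    (d : NData M N x) : IsPGroup p ↥(Kst M K) := by
  have key : ∀ {q : ℕ}, q.Prime → q ∣ Nat.card ↥(Kst M K) → q = p := by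
    intro q hq hd
    by_contra hne
    haveI : Fact q.Prime := ⟨hq⟩
    have h1 := h.unique_of_dvd hd
    exact not_le_of_unique h1 h.hM (PP_le_M M q) d.hN (d.ne (h.cent_not_le hx hxo))
      ((h.PP_le_cent hx hxo hne).trans d.hCN)
  rw [IsPGroup.iff_card]
  exact ⟨_, Nat.eq_prime_pow_of_unique_prime_dvd Nat.card_pos.ne' key⟩

theorem Hyp.p_dvd_Kst (h : Hyp M K U g) (hx : x ∈ XX M g) (hxo : orderOf x = p)
    (d : NData M N x) : p ∣ Nat.card ↥(Kst M K) := by
  obtain ⟨n, hn⟩ := IsPGroup.iff_card.mp (h.Kst_isPGroup hx hxo d)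
  rw [hn]
  apply dvd_pow_self
  rintro rfl
  rw [pow_zero, Subgroup.card_eq_one] at hn
  exact h.hKs hn

theorem Hyp.PP_unique (h : Hyp M K U g) (hx : x ∈ XX M g) (hxo : orderOf x = p)
    (d : NData M N x) : InUniqueMaximal (PP M p) :=
  h.unique_of_dvd (h.p_dvd_Kst hx hxo d)

theorem Hyp.PP_not_le_N (h : Hyp M K U g) (hx : x ∈ XX M g) (hxo : orderOf x = p)
    (d : NData M N x) : ¬ PP M p ≤ N :=
  not_le_of_unique (h.PP_unique hx hxo d) h.hM (PP_le_M M p) d.hN (d.ne (h.cent_not_le hx hxo))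

/-- `x` is not central in `P` -/
theorem Hyp.x_not_central (h : Hyp M K U g) (hx : x ∈ XX M g) (hxo : orderOf x = p)
    (d : NData M N x) : ∃ y ∈ PP M p, x * y ≠ y * x := by
  by_contra hcon
  push_neg at hcon
  apply h.PP_not_le_N hx hxo d
  intro y hy
  apply d.hCN
  rw [Subgroup.mem_centralizer_iff]
  intro w hw
  rw [Set.mem_singleton_iff] at hw
  rw [hw]
  exact hcon y hy

theorem Hyp.PP_not_comm (h : Hyp M K U g) (hx : x ∈ XX M g) (hxo : orderOf x = p)
    (d : NData M N x) : ¬ IsMulCommutative ↥(PP M p) := by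
  intro hc
  obtain ⟨y, hy, hne⟩ := h.x_not_central hx hxo d
  exact hne (comm_of_isMulCommutative hc x (h.x_mem_PP hx hxo) y hy)

theorem Hyp.PP_ne_bot (h : Hyp M K U g) (hx : x ∈ XX M g) (hxo : orderOf x = p) :
    PP M p ≠ ⊥ := by
  intro h0
  have := h.x_mem_PP hx hxo
  rw [h0, Subgroup.mem_bot] at this
  exact x_ne_one hxo this

/-- a central element of order `p` of `P` -/
theorem Hyp.exists_central (h : Hyp M K U g) (hx : x ∈ XX M g) (hxo : orderOf x = p) :
    ∃ z ∈ PP M p, orderOf z = p ∧ ∀ y ∈ PP M p, z * y = y * z := by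
  have hP : IsPGroup p ↥(PP M p) := Q1_isPGroup _ _
  haveI : Nontrivial ↥(PP M p) := (Subgroup.nontrivial_iff_ne_bot _).mpr (h.PP_ne_bot hx hxo)
  haveI := hP.center_nontrivial
  have hZ : IsPGroup p ↥(Subgroup.center ↥(PP M p)) := hP.to_subgroup _
  obtain ⟨n, hn⟩ := IsPGroup.iff_card.mp hZ
  have hn0 : n ≠ 0 := by
    rintro rfl
    rw [pow_zero] at hn
    have := Finite.one_lt_card (α := ↥(Subgroup.center ↥(PP M p)))
    omega
  have hd : p ∣ Nat.card ↥(Subgroup.center ↥(PP M p)) := by rw [hn]; exact dvd_pow_self p hn0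
  obtain ⟨z, hz⟩ := exists_prime_orderOf_dvd_card' p hd
  refine ⟨z.1.1, z.1.2, ?_, ?_⟩
  · have e1 : orderOf (z.1.1 : G) = orderOf z := by
      rw [Subgroup.orderOf_coe, Subgroup.orderOf_coe]
    rw [e1, hz]
  · intro y hy
    have := (Subgroup.mem_center_iff.mp z.2) ⟨y, hy⟩
    have := congrArg Subtype.val this
    simpa using this.symm

section A0

variable {z : G}

theorem pow_p_of_orderOf {y : G} (hyo : orderOf y = p) : y ^ p = 1 := by
  rw [← hyo]; exact pow_orderOf_eq_one y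

theorem zpowers_elemAb {y : G} (hyo : orderOf y = p) :
    IsElementaryAbelian p (Subgroup.zpowers y) := by
  refine ⟨isMulCommutative_of_comm ?_, ?_⟩
  · intro a ha b hb
    obtain ⟨i, rfl⟩ := Subgroup.mem_zpowers_iff.mp ha
    obtain ⟨j, rfl⟩ := Subgroup.mem_zpowers_iff.mp hb
    rw [← zpow_add, ← zpow_add, add_comm]
  · intro a ha
    obtain ⟨i, rfl⟩ := Subgroup.mem_zpowers_iff.mp ha
    rw [← zpow_natCast, ← zpow_mul, mul_comm, zpow_mul, zpow_natCast, pow_p_of_orderOf hyo,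
      one_zpow]

theorem card_zpowers_of_orderOf {y : G} (hyo : orderOf y = p) :
    Nat.card ↥(Subgroup.zpowers y) = p := by
  rw [Nat.card_zpowers, hyo]

/-- `A₀ = ⟨x⟩ × ⟨z⟩` -/
abbrev AA (x z : G) : Subgroup G := Subgroup.zpowers x ⊔ Subgroup.zpowers z

theorem AA_elemAb (hxo : orderOf x = p) (hzo : orderOf z = p) (hxz : x * z = z * x) :
    IsElementaryAbelian p (AA x z) := by
  apply Cfsg.Agent.Lib.Helper23_PLength.isElementaryAbelian_zpowers_sup _ (zpowers_elemAb hzo) x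
    _ (pow_p_of_orderOf hxo)
  intro e he
  obtain ⟨i, rfl⟩ := Subgroup.mem_zpowers_iff.mp he
  exact (Commute.zpow_right hxz i)

theorem zpowers_inf_eq_bot (hxo : orderOf x = p) (hzo : orderOf z = p)
    (hxz : x ∉ Subgroup.zpowers z) : Subgroup.zpowers z ⊓ Subgroup.zpowers x = ⊥ := by
  by_contra hne
  have h1 : Nat.card ↥(Subgroup.zpowers z ⊓ Subgroup.zpowers x) ∣ p := by
    rw [← card_zpowers_of_orderOf hxo]
    exact Subgroup.card_dvd_of_le inf_le_right
  rcases (Nat.dvd_prime hp.out).mp h1 with h2 | h2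
  · exact hne (Subgroup.card_eq_one.mp h2)
  · have h3 : Subgroup.zpowers z ⊓ Subgroup.zpowers x = Subgroup.zpowers x := by
      apply Subgroup.eq_of_le_of_card_ge inf_le_right
      rw [h2, card_zpowers_of_orderOf hxo]
    apply hxz
    have : x ∈ Subgroup.zpowers z ⊓ Subgroup.zpowers x := by
      rw [h3]; exact Subgroup.mem_zpowers x
    exact this.1

theorem AA_card (hxo : orderOf x = p) (hzo : orderOf z = p) (hxz : x * z = z * x)
    (hxnz : x ∉ Subgroup.zpowers z) : Nat.card ↥(AA x z) = p ^ 2 := by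
  have h1 : Subgroup.zpowers x ≤ Subgroup.normalizer ((Subgroup.zpowers z : Subgroup G) : Set G) := by
    apply Cfsg.Agent.Lib.Helper52_FrobFormula.le_normalizer_of_forall
    intro a ha b hb
    obtain ⟨i, rfl⟩ := Subgroup.mem_zpowers_iff.mp ha
    obtain ⟨j, rfl⟩ := Subgroup.mem_zpowers_iff.mp hb
    have hc : Commute (x ^ i) (z ^ j) := (Commute.zpow_right hxz j).zpow_left i
    have : x ^ i * z ^ j * (x ^ i)⁻¹ = z ^ j := by
      rw [hc.eq]; group
    rw [this]
    exact Subgroup.zpow_mem _ (Subgroup.mem_zpowers z) j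
  have h2 := Cfsg.Agent.Lib.Helper24_CoprimeHall.card_sup_of_disjoint' (Subgroup.zpowers x)
    (Subgroup.zpowers z) h1 (zpowers_inf_eq_bot hxo hzo hxnz)
  unfold AA
  rw [sup_comm, h2, card_zpowers_of_orderOf hxo, card_zpowers_of_orderOf hzo]
  ring

/-- the data of a central element `z` of order `p` of `P` -/
structure ZData (M : Subgroup G) (p : ℕ) (z : G) : Prop where
  hzP : z ∈ PP M p
  hzo : orderOf z = p
  hzc : ∀ y ∈ PP M p, z * y = y * z

theorem Hyp.x_not_mem_zpowers (h : Hyp M K U g) (hx : x ∈ XX M g) (hxo : orderOf x = p)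
    (d : NData M N x) (e : ZData M p z) : x ∉ Subgroup.zpowers z := by
  intro hxz
  obtain ⟨i, rfl⟩ := Subgroup.mem_zpowers_iff.mp hxz
  obtain ⟨y, hy, hne⟩ := h.x_not_central hx hxo d
  exact hne (Commute.zpow_left (e.hzc y hy) i)

theorem Hyp.comm_xz (h : Hyp M K U g) (hx : x ∈ XX M g) (hxo : orderOf x = p)
    (e : ZData M p z) : x * z = z * x := (e.hzc x (h.x_mem_PP hx hxo)).symm

theorem Hyp.AA_le (h : Hyp M K U g) (hx : x ∈ XX M g) (hxo : orderOf x = p)
    (d : NData M N x) (e : ZData M p z) : AA x z ≤ M ⊓ N := by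
  have hxM : x ∈ M := sigmaCore_le M (h.XX_le_sigmaCore hx)
  have hxN : x ∈ N := d.hCN (by
    rw [Subgroup.mem_centralizer_iff]; intro y hy
    rw [Set.mem_singleton_iff] at hy; rw [hy])
  have hzM : z ∈ M := PP_le_M M p e.hzP
  have hzN : z ∈ N := d.hCN (by
    rw [Subgroup.mem_centralizer_iff]; intro y hy
    rw [Set.mem_singleton_iff] at hy; rw [hy]
    exact h.comm_xz hx hxo e)
  exact sup_le (Subgroup.zpowers_le.mpr ⟨hxM, hxN⟩) (Subgroup.zpowers_le.mpr ⟨hzM, hzN⟩)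

theorem Hyp.p_mem_tau2 (h : Hyp M K U g) (hx : x ∈ XX M g) (hxo : orderOf x = p)
    (d : NData M N x) (e : ZData M p z) : p ∈ tau2 N :=
  d.mem_tau2 h.hG hp.out (h.AA_le hx hxo d e) (AA_elemAb hxo e.hzo (h.comm_xz hx hxo e))
    (AA_card hxo e.hzo (h.comm_xz hx hxo e) (h.x_not_mem_zpowers hx hxo d e))

/-- every subgroup of order `p` of `M ∩ N` lies in `A₀` -/
theorem Hyp.le_AA_of_card (h : Hyp M K U g) (hx : x ∈ XX M g) (hxo : orderOf x = p)
    (d : NData M N x) (e : ZData M p z) :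
    ∀ X : Subgroup G, X ≤ M ⊓ N → Nat.card ↥X = p → X ≤ AA x z :=
  (Cfsg.Agent.S1418.result h.hG N d.hN (M ⊓ N) d.hc2 p (h.p_mem_tau2 hx hxo d e) (AA x z)
    ⟨h.AA_le hx hxo d e, AA_elemAb hxo e.hzo (h.comm_xz hx hxo e),
      AA_card hxo e.hzo (h.comm_xz hx hxo e) (h.x_not_mem_zpowers hx hxo d e)⟩).1.2

theorem NData.cent_le (d : NData M N x) :
    PP M p ⊓ Subgroup.centralizer ({x} : Set G) ≤ M ⊓ N :=
  le_inf (inf_le_left.trans (PP_le_M M p)) (inf_le_right.trans d.hCN)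

/-- the elements of order dividing `p` of `C_P(x)` lie in `A₀` -/
theorem Hyp.omega_le_AA (h : Hyp M K U g) (hx : x ∈ XX M g) (hxo : orderOf x = p)
    (d : NData M N x) (e : ZData M p z) :
    ∀ y ∈ PP M p ⊓ Subgroup.centralizer ({x} : Set G), y ^ p = 1 → y ∈ AA x z := by
  intro y hy hyp
  by_cases hy1 : y = 1
  · rw [hy1]; exact Subgroup.one_mem _
  · have hyo : orderOf y = p := by
      rcases (Nat.dvd_prime hp.out).mp (orderOf_dvd_of_pow_eq_one hyp) with h1 | h1
      · exact absurd (orderOf_eq_one_iff.mp h1) hy1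
      · exact h1
    exact h.le_AA_of_card hx hxo d e (Subgroup.zpowers y)
      (Subgroup.zpowers_le.mpr (d.cent_le hy)) (card_zpowers_of_orderOf hyo)
      (Subgroup.mem_zpowers y)

/-- `C_P(x)` is abelian -/
theorem Hyp.cent_comm (h : Hyp M K U g) (hx : x ∈ XX M g) (hxo : orderOf x = p)
    (d : NData M N x) :
    ∀ a ∈ PP M p ⊓ Subgroup.centralizer ({x} : Set G),
      ∀ b ∈ PP M p ⊓ Subgroup.centralizer ({x} : Set G), a * b = b * a := by
  have hP : IsPGroup p ↥(PP M p ⊓ Subgroup.centralizer ({x} : Set G)) :=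
    (Q1_isPGroup _ _).to_le inf_le_left
  exact comm_of_isMulCommutative (d.comm_of_nil h.hG d.cent_le hP.isNilpotent)

end A0

end Cfsg.Agent.Lib.Helper48_BG157b
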