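import Mathlib
import Cfsg.Prelude.Def_OddOrderLocal
import Cfsg.Agent.Lib.Helper48_BG157d

/-!
# B-G Theorem 15.7 (case `K ≠ 1`), part 4: the Sylow `q`-subgroups of `M_σ`, `q ≠ p`, are cyclic.
-/

set_option autoImplicit false
set_option linter.unusedSectionVars false
set_option linter.unusedVariables false
set_option linter.style.haveILetI false

namespace Cfsg.Agent.Lib.Helper48_BG157b

open Cfsg
open Cfsg.Agent.Lib.Helper49_Sigma
open Cfsg.Agent.Lib.Helper48_BG15a
open Cfsg.Agent.Lib.Helper48_BG157a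
open scoped commutatorElement

universe u

variable {G : Type u} [Group G] [Finite G] {M K U : Subgroup G} {g : G}
variable {x : G} {p : ℕ} [hp : Fact p.Prime] {N : Subgroup G}

theorem mem_centralizer_singleton {a b : G} : a ∈ Subgroup.centralizer ({b} : Set G) ↔ b * a = a * b := by
  rw [Subgroup.mem_centralizer_iff]
  constructor
  · intro h; exact h b rfl
  · intro h y hy; rw [Set.mem_singleton_iff] at hy; rw [hy]; exact h

theorem centralizer_zpowers_eq (a : G) :
    Subgroup.centralizer ((Subgroup.zpowers a : Subgroup G) : Set G) =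
      Subgroup.centralizer ({a} : Set G) := by
  rw [Subgroup.zpowers_eq_closure, Subgroup.centralizer_closure]

/-- a noncyclic abelian `q`-subgroup contains an elementary abelian subgroup of order `q ^ 2` -/
theorem exists_AA_of_not_cyclic {q : ℕ} [hq : Fact q.Prime] {Q : Subgroup G} (hQ : IsPGroup q ↥Q)
    (hQc : IsMulCommutative ↥Q) (hnc : ¬ IsCyclic ↥Q) :
    ∃ a ∈ Q, ∃ b ∈ Q, orderOf a = q ∧ orderOf b = q ∧ a * b = b * a ∧ a ∉ Subgroup.zpowers b := by
  haveI := hQc
  obtain ⟨r, hr, a, b, har, hbr, hb1, hk⟩ := Cfsg.Agent.S0058.exists_rank_two (A := ↥Q) hnc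
  have hbo : orderOf b = r := by
    rcases (Nat.dvd_prime hr).mp (orderOf_dvd_of_pow_eq_one hbr) with h1 | h1
    · exact absurd (orderOf_eq_one_iff.mp h1) hb1
    · exact h1
  have hrq : r = q := by
    obtain ⟨n, hn⟩ := hQ b
    have h1 : r ∣ q ^ n := by rw [← hbo]; exact orderOf_dvd_of_pow_eq_one hn
    exact (Nat.prime_dvd_prime_iff_eq hr hq.out).mp (hr.dvd_of_dvd_pow h1)
  subst hrq
  have ha1 : a ≠ 1 := by
    intro h0
    have := hk 0
    rw [pow_zero, mul_one] at this
    exact this h0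
  have hao : orderOf a = r := by
    rcases (Nat.dvd_prime hr).mp (orderOf_dvd_of_pow_eq_one har) with h1 | h1
    · exact absurd (orderOf_eq_one_iff.mp h1) ha1
    · exact h1
  refine ⟨a.1, a.2, b.1, b.2, ?_, ?_, ?_, ?_⟩
  · rw [Subgroup.orderOf_coe]; exact hao
  · rw [Subgroup.orderOf_coe]; exact hbo
  · have := mul_comm' a b
    simpa using congrArg Subtype.val this
  · intro hab
    obtain ⟨i, hi⟩ := Subgroup.mem_zpowers_iff.mp hab
    have hi' : b ^ i = a := by
      apply Subtype.ext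
      simpa using hi
    -- `a * b ^ k = 1` for `k = (-i) mod r`
    have hbr' : b ^ (r : ℤ) = 1 := by rw [zpow_natCast]; exact hbr
    set k : ℕ := ((-i) % (r : ℤ)).toNat with hkdef
    have hr0 : (r : ℤ) ≠ 0 := by exact_mod_cast hr.ne_zero
    have hk0 : 0 ≤ (-i) % (r : ℤ) := Int.emod_nonneg _ hr0
    have hkz : (k : ℤ) = (-i) % (r : ℤ) := Int.toNat_of_nonneg hk0
    apply hk k
    rw [← hi', ← zpow_natCast, hkz, ← zpow_add]
    have : i + (-i) % (r : ℤ) = (r : ℤ) * (-((-i) / (r : ℤ))) := by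
      have := Int.emod_add_mul_ediv (-i) (r : ℤ)
      linarith
    rw [this, zpow_mul, hbr', one_zpow]

theorem Hyp.PP_le_inf (h : Hyp M K U g) (hx : x ∈ XX M g) (hxo : orderOf x = p)
    (d : NData M N x) {q : ℕ} [hq : Fact q.Prime] (hqp : q ≠ p) : PP M q ≤ M ⊓ N :=
  le_inf (PP_le_M M q) ((h.PP_le_cent hx hxo hqp).trans d.hCN)

/-- the Sylow `q`-subgroup of `M_σ` is cyclic for `q ≠ p` -/
theorem Hyp.PP_cyclic (h : Hyp M K U g) (hx : x ∈ XX M g) (hxo : orderOf x = p)
    (d : NData M N x) {q : ℕ} [hq : Fact q.Prime] (hqp : q ≠ p) : IsCyclic ↥(PP M q) := by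
  by_contra hnc
  have hQ : IsPGroup q ↥(PP M q) := Q1_isPGroup _ _
  have hQN := h.PP_le_inf hx hxo d hqp
  have hQc : IsMulCommutative ↥(PP M q) := d.comm_of_nil h.hG hQN hQ.isNilpotent
  obtain ⟨a, ha, b, hb, hao, hbo, hab, hanb⟩ := exists_AA_of_not_cyclic hQ hQc hnc
  have hAQ : AA a b ≤ PP M q :=
    sup_le (Subgroup.zpowers_le.mpr ha) (Subgroup.zpowers_le.mpr hb)
  have hAle : AA a b ≤ M ⊓ N := hAQ.trans hQN
  have hAe : IsElementaryAbelian q (AA a b) := AA_elemAb hao hbo hab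
  have hAc : Nat.card ↥(AA a b) = q ^ 2 := AA_card hao hbo hab hanb
  have hq2 : q ∈ tau2 N := d.mem_tau2 h.hG hq.out hAle hAe hAc
  have h18 := (Cfsg.Agent.S1418.result h.hG N d.hN (M ⊓ N) d.hc2 q hq2 (AA a b)
    ⟨hAle, hAe, hAc⟩).2.2
  -- coprime action on `R₀`
  set R0 : Subgroup G := sigmaCore N ⊓ Subgroup.centralizer ({x} : Set G) with hR0
  have hR0ne : R0 ≠ ⊥ := d.R0_ne_bot (h.cent_not_le hx hxo)
  have hAx : AA a b ≤ Subgroup.centralizer ({x} : Set G) := hAQ.trans (h.PP_le_cent hx hxo hqp)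
  have hAnorm : AA a b ≤ Subgroup.normalizer ((R0 : Subgroup G) : Set G) := by
    apply Cfsg.Agent.Lib.Helper52_FrobFormula.le_normalizer_of_forall
    intro c hc y hy
    constructor
    · have hcN : c ∈ N := (hAle hc).2
      exact (Subgroup.mem_normalizer_iff.mp (le_normalizer_sigmaCore N hcN) y).mp hy.1
    · exact Subgroup.mul_mem _ (Subgroup.mul_mem _ (hAx hc) hy.2) (Subgroup.inv_mem _ (hAx hc))
  have hqσ : q ∉ sigma N := hq2.2.1
  have hcop : (Nat.card ↥(AA a b)).Coprime (Nat.card ↥R0) := by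
    rw [hAc]
    apply Nat.Coprime.pow_left
    rw [Nat.Prime.coprime_iff_not_dvd hq.out]
    intro hd
    apply hqσ
    exact (Cfsg.Agent.S1350.result h.hG N d.hN).1.2.1 q hq.out
      (hd.trans (Subgroup.card_dvd_of_le inf_le_left))
  haveI : IsMulCommutative ↥(AA a b) := hAe.1
  have hAnc : ¬ IsCyclic ↥(AA a b) := by
    intro hcyc
    have h1 := Cfsg.Agent.Lib.Helper79_BG141.pRankLE_one_of_isCyclic q hcyc ⊤
      (by infer_instance) (by
        intro c _
        apply Subtype.ext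
        rw [Subgroup.coe_pow]
        exact hAe.2 c.1 c.2)
    rw [Subgroup.card_top, hAc, pow_one] at h1
    have : q < q ^ 2 := by
      have := hq.out.one_lt
      nlinarith
    omega
  have h58 := Cfsg.Agent.S0058.result (AA a b) R0 hAnc hAnorm hcop
  have hex : ∃ c ∈ AA a b, c ≠ 1 ∧ R0 ⊓ Subgroup.centralizer ({c} : Set G) ≠ ⊥ := by
    by_contra hcon
    push_neg at hcon
    apply hR0ne
    rw [← h58, eq_bot_iff]
    apply iSup₂_le
    intro c hc
    rw [hcon c hc.1 hc.2]
  obtain ⟨c, hcA, hc1, hcR⟩ := hex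
  have hco : orderOf c = q := by
    rcases (Nat.dvd_prime hq.out).mp (orderOf_dvd_of_pow_eq_one (hAe.2 c hcA)) with h1 | h1
    · exact absurd (orderOf_eq_one_iff.mp h1) hc1
    · exact h1
  have h3 := h18 (Subgroup.zpowers c) (Subgroup.zpowers_le.mpr hcA) (card_zpowers_of_orderOf hco)
    (by
      rw [centralizer_zpowers_eq]
      intro h0
      apply hcR
      rw [eq_bot_iff, ← h0]
      exact inf_le_inf_right _ inf_le_left)
  apply h.PP_not_le_N hx hxo d
  refine le_trans ?_ h3.1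
  rw [centralizer_zpowers_eq]
  intro y hy
  rw [mem_centralizer_singleton]
  exact (Q1_commute h.nil hqp c (hAQ hcA) y hy)

end Cfsg.Agent.Lib.Helper48_BG157b
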