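import Mathlib
import Cfsg.Agent.Lib.Helper2_Narrow
import Cfsg.Agent.Lib.Helper2_RankTwoAut
import Cfsg.Agent.Lib.Helper2_Coprime

/-!
# `p'`-groups of odd order acting on narrow `p`-groups act through an abelian group

If `P` is a narrow `p`-subgroup (`p` odd) and `E` is a `p'`-subgroup of odd order normalizing `P`,
then `⁅E, E⁆` centralizes `P` (B-G 5.5 / 4.18, in the form needed for step (6) of B-G 15.7).
-/

set_option autoImplicit false

namespace Cfsg.Agent.Lib.Helper78_NarrowCent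

open Subgroup Cfsg Cfsg.Agent.Lib.Helper2_Coprime Cfsg.Agent.Lib.Helper2_Narrow
  Cfsg.Agent.Lib.Helper2_RankTwoAut

open scoped commutatorElement

universe u

variable {G : Type u} [Group G] [Finite G]

/-- the image of a `p'`-group in an automorphism group consists of `p'`-elements -/
theorem orderOf_map_coprime {E A : Type*} [Group E] [Finite E] [Group A] (φ : E →* A) {p : ℕ}
    (hEp : (Nat.card E).Coprime p) (e : E) : (orderOf (φ e)).Coprime p :=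
  Nat.Coprime.coprime_dvd_left ((orderOf_map_dvd φ e).trans (orderOf_dvd_natCard e)) hEp

/-- abstract version: a subgroup `𝔄` of odd `p'`-order of `Aut R`, `R` a narrow `p`-group,
`p` odd, is commutative. -/
theorem commute_of_narrow {R : Type u} [Group R] [Finite R] {p : ℕ} [Fact p.Prime] (hp : p ≠ 2)
    (hR : IsPGroup p R) (hRn : Cfsg.IsNarrow p R) (𝔄 : Subgroup (MulAut R))
    (hodd : Odd (Nat.card 𝔄)) (hcop : (Nat.card 𝔄).Coprime p) (α β : MulAut R) (hα : α ∈ 𝔄)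
    (hβ : β ∈ 𝔄) : ⁅α, β⁆ = 1 := by
  have hmem : ⁅α, β⁆ ∈ ⁅𝔄, 𝔄⁆ := commutator_mem_commutator hα hβ
  have hmem𝔄 : ⁅α, β⁆ ∈ 𝔄 := by
    rw [commutatorElement_def]
    exact mul_mem (mul_mem (mul_mem hα hβ) (inv_mem hα)) (inv_mem hβ)
  have hord : (orderOf ⁅α, β⁆).Coprime p := by
    have h1 : orderOf (⟨⁅α, β⁆, hmem𝔄⟩ : 𝔄) ∣ Nat.card 𝔄 := orderOf_dvd_natCard _
    rw [← Subgroup.orderOf_coe] at h1
    exact Nat.Coprime.coprime_dvd_left h1 hcop
  by_cases hrk : Cfsg.PRankLE p 2 R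
  · have key := isPGroup_commutator_of_odd hp hR hrk 𝔄 hodd
    obtain ⟨k, hk⟩ := key ⟨_, hmem⟩
    have hk' : ⁅α, β⁆ ^ p ^ k = 1 := by
      have := congrArg Subtype.val hk
      simpa using this
    have h2 : orderOf ⁅α, β⁆ ∣ p ^ k := orderOf_dvd_of_pow_eq_one hk'
    have h3 : orderOf ⁅α, β⁆ = 1 :=
      Nat.eq_one_of_dvd_coprimes (Nat.Coprime.pow_right k hord) dvd_rfl h2
    exact orderOf_eq_one_iff.mp h3
  · obtain ⟨g, R₁, hN⟩ := exists_nData_of_isNarrow hR hRn hrk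
    obtain ⟨S, -, hS1, -, hS3⟩ := hN.exists_stab hp
    exact hS3 _ (hS1 α β) hord

/-- **Step (6), first half, of B-G 15.7**: a `p'`-subgroup `E` of odd order normalizing a narrow
`p`-subgroup `P` (`p` odd) has `⁅E, E⁆ ≤ C_G(P)`. -/
theorem commutator_le_centralizer (p : ℕ) [Fact p.Prime] (hp : p ≠ 2) (P E : Subgroup G)
    (hP : IsPGroup p P) (hPn : Cfsg.IsNarrow p P) (hE : E ≤ Subgroup.normalizer (P : Set G))
    (hEodd : Odd (Nat.card E)) (hEp : (Nat.card E).Coprime p) :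
    ⁅E, E⁆ ≤ Subgroup.centralizer (P : Set G) := by
  set φ := conjAut P E hE with hφ
  have hcarddvd : Nat.card φ.range ∣ Nat.card E := Subgroup.card_range_dvd φ
  have hodd : Odd (Nat.card φ.range) := Odd.of_dvd_nat hEodd hcarddvd
  have hcop : (Nat.card φ.range).Coprime p := Nat.Coprime.coprime_dvd_left hcarddvd hEp
  rw [Subgroup.commutator_le]
  intro a ha b hb
  have h1 : ⁅φ ⟨a, ha⟩, φ ⟨b, hb⟩⁆ = 1 :=
    commute_of_narrow hp hP hPn φ.range hodd hcop _ _ ⟨_, rfl⟩ ⟨_, rfl⟩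
  rw [← map_commutatorElement] at h1
  rw [Subgroup.mem_centralizer_iff]
  intro r hr
  have h2 : φ ⁅(⟨a, ha⟩ : E), ⟨b, hb⟩⁆ ⟨r, hr⟩ = ⟨r, hr⟩ := by rw [h1]; rfl
  have h3 := congrArg Subtype.val h2
  rw [hφ, conjAut_apply_coe] at h3
  have h4 : ((⁅(⟨a, ha⟩ : E), ⟨b, hb⟩⁆ : E) : G) = ⁅a, b⁆ := rfl
  rw [h4] at h3
  calc r * ⁅a, b⁆ = (⁅a, b⁆ * r * ⁅a, b⁆⁻¹) * ⁅a, b⁆ := by rw [h3]
    _ = ⁅a, b⁆ * r := by group

end Cfsg.Agent.Lib.Helper78_NarrowCent
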