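import Mathlib
import Cfsg.Prelude.Def_OddOrderLocal
import Cfsg.Agent.Lib.Helper48_BG157e
import Cfsg.Agent.Lib.Helper78_NarrowCent

/-!
# B-G Theorem 15.7 (case `K ≠ 1`), part 5: `U` centralizes `M_σ` (given that `P` is narrow).
-/

set_option autoImplicit false
set_option linter.unusedSectionVars false
set_option linter.unusedVariables false
set_option linter.style.haveILetI false

namespace Cfsg.Agent.Lib.Helper48_BG157b

open Cfsg
open Cfsg.Agent.Lib.Helper49_Sigma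
open Cfsg.Agent.Lib.Helper48_BG15a
open Cfsg.Agent.Lib.Helper48_BG15c
open Cfsg.Agent.Lib.Helper48_BG157a
open scoped commutatorElement

universe u

variable {G : Type u} [Group G] [Finite G] {M K U : Subgroup G} {g : G}
variable {x : G} {p : ℕ} [hp : Fact p.Prime] {N : Subgroup G}

/-- a group normalizing a cyclic subgroup acts on it through an abelian group -/
theorem commutator_le_centralizer_of_isCyclic {Q E : Subgroup G} (hQ : IsCyclic ↥Q)
    (hE : E ≤ Subgroup.normalizer (Q : Set G)) : ⁅E, E⁆ ≤ Subgroup.centralizer (Q : Set G) := by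
  rw [Subgroup.commutator_le]
  intro a ha b hb
  obtain ⟨k, hk⟩ := Cfsg.Agent.Lib.Helper77_CyclicAut.exists_zpow_conj hQ (hE ha)
  obtain ⟨l, hl⟩ := Cfsg.Agent.Lib.Helper77_CyclicAut.exists_zpow_conj hQ (hE hb)
  have h1 : ∀ y ∈ Q, (a * b) * y * (a * b)⁻¹ = (b * a) * y * (b * a)⁻¹ := by
    intro y hy
    have e1 : (a * b) * y * (a * b)⁻¹ = a * (b * y * b⁻¹) * a⁻¹ := by group
    have e2 : (b * a) * y * (b * a)⁻¹ = b * (a * y * a⁻¹) * b⁻¹ := by group
    rw [e1, e2, hl y hy, hk y hy, hk _ (Q.zpow_mem hy l), hl _ (Q.zpow_mem hy k), ← zpow_mul,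
      ← zpow_mul, mul_comm]
  rw [Subgroup.mem_centralizer_iff]
  intro y hy
  have hba : (b * a)⁻¹ ∈ Subgroup.normalizer (Q : Set G) :=
    Subgroup.inv_mem _ (Subgroup.mul_mem _ (hE hb) (hE ha))
  have hy' : (b * a)⁻¹ * y * (b * a) ∈ Q := by
    have := (Subgroup.mem_normalizer_iff.mp hba y).mp hy
    simpa using this
  have h2 := h1 _ hy'
  have h3 : ⁅a, b⁆ * y * ⁅a, b⁆⁻¹ = y := by
    have : ⁅a, b⁆ * y * ⁅a, b⁆⁻¹ = (a * b) * ((b * a)⁻¹ * y * (b * a)) * (a * b)⁻¹ := by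
      rw [commutatorElement_def]; group
    rw [this, h2]; group
  calc y * ⁅a, b⁆ = (⁅a, b⁆ * y * ⁅a, b⁆⁻¹) * ⁅a, b⁆ := by rw [h3]
    _ = ⁅a, b⁆ * y := by group

theorem Hyp.K_le (h : Hyp M K U g) : K ≤ M := h.hKU.hall.1

theorem Hyp.U_le (h : Hyp M K U g) : U ≤ M := h.hKU.compl.1

theorem Hyp.not_dvd_card_K (h : Hyp M K U g) {q : ℕ} (hq : q.Prime) (hσ : q ∈ sigma M) :
    ¬ q ∣ Nat.card ↥K := by
  intro hd
  exact (h.hKU.hall.2.1 q hq hd).2.2.1 hσ

theorem Hyp.not_dvd_card_U (h : Hyp M K U g) {q : ℕ} (hq : q.Prime) (hσ : q ∈ sigma M) :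
    ¬ q ∣ Nat.card ↥U := by
  intro hd
  apply h.sigma_hall.2.2 q hq hσ
  have hcard := card_mul_of_isComplIn h.hKU.compl
  have h2 := relIndex_mul_card_of_le (sigmaCore_le M)
  obtain ⟨t, ht⟩ := Subgroup.card_dvd_of_le (le_sup_right : sigmaCore M ≤ K ⊔ sigmaCore M)
  rw [ht, ← h2] at hcard
  have hpos : 0 < Nat.card ↥(sigmaCore M) := Nat.card_pos
  have h3 : Nat.card ↥U * t = (sigmaCore M).relIndex M := by
    apply Nat.eq_of_mul_eq_mul_right hpos
    rw [← hcard]; ring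
  rw [← h3]
  exact hd.mul_right t

theorem Hyp.cop_K_U (h : Hyp M K U g) : (Nat.card ↥K).Coprime (Nat.card ↥U) := by
  apply Nat.coprime_of_dvd
  intro q hq hdK hdU
  have hκ : q ∈ kappa M := h.hKU.hall.2.1 q hq hdK
  apply h.hKU.hall.2.2 q hq hκ
  have hcard := card_mul_of_isComplIn h.hKU.compl
  have h2 := relIndex_mul_card_of_le h.K_le
  obtain ⟨t, ht⟩ := Subgroup.card_dvd_of_le (le_sup_left : K ≤ K ⊔ sigmaCore M)
  rw [ht, ← h2] at hcard
  have hpos : 0 < Nat.card ↥K := Nat.card_pos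
  have h3 : Nat.card ↥U * t = K.relIndex M := by
    apply Nat.eq_of_mul_eq_mul_right hpos
    rw [← hcard]; ring
  rw [← h3]
  exact hdU.mul_right t

theorem Hyp.U_inf_K (h : Hyp M K U g) : U ⊓ K = ⊥ := by
  rw [eq_bot_iff, ← h.hKU.compl.2.2.1]
  exact inf_le_inf_left _ le_sup_left

theorem Hyp.card_UK (h : Hyp M K U g) :
    Nat.card ↥(U ⊔ K) = Nat.card ↥U * Nat.card ↥K :=
  Cfsg.Agent.Lib.Helper24_CoprimeHall.card_sup_of_disjoint' K U h.hKU.normal h.U_inf_K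

theorem Hyp.UK_le (h : Hyp M K U g) : U ⊔ K ≤ M := sup_le h.U_le h.K_le

theorem Hyp.cop_UK (h : Hyp M K U g) {q : ℕ} (hq : q.Prime) (hσ : q ∈ sigma M) :
    (Nat.card ↥(U ⊔ K)).Coprime q := by
  rw [h.card_UK]
  apply Nat.Coprime.mul_left
  · exact (Nat.coprime_comm.mp ((Nat.Prime.coprime_iff_not_dvd hq).mpr (h.not_dvd_card_U hq hσ)))
  · exact (Nat.coprime_comm.mp ((Nat.Prime.coprime_iff_not_dvd hq).mpr (h.not_dvd_card_K hq hσ)))

theorem Hyp.exists_K_ne_one (h : Hyp M K U g) : ∃ k ∈ K, k ≠ 1 := by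
  obtain ⟨⟨k, hk⟩, hne⟩ := (Subgroup.ne_bot_iff_exists_ne_one).mp h.hK1
  exact ⟨k, hk, fun h1 => hne (Subtype.ext h1)⟩

/-- `U = [U, K]` -/
theorem Hyp.U_le_comm (h : Hyp M K U g) : U ≤ ⁅U ⊔ K, U ⊔ K⁆ := by
  intro u hu
  haveI := h.solvM
  have hsolv : Group.IsSolvable ↥U :=
    Group.isSolvable_of_isSolvable_injective (Subgroup.inclusion_injective h.U_le)
  obtain ⟨d, hd, c, hc, rfl⟩ := Cfsg.Agent.Lib.Helper24_CoprimeAction.coprime_decomp K U
    h.hKU.normal h.cop_K_U (Or.inr hsolv) hu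
  obtain ⟨k, hk, hk1⟩ := h.exists_K_ne_one
  have hc1 : c = 1 := by
    have hmem : c ∈ U ⊓ Subgroup.centralizer ({k} : Set G) :=
      ⟨hc.1, Subgroup.centralizer_le (Set.singleton_subset_iff.mpr hk) hc.2⟩
    rw [h.h53 k hk hk1] at hmem
    exact Subgroup.mem_bot.mp hmem
  rw [hc1, mul_one]
  exact Subgroup.commutator_mono le_sup_left le_sup_right hd

theorem p_ne_two_of_orderOf (hG : IsMinSimpleOddOrder G) (hxo : orderOf x = p) : p ≠ 2 := by
  rintro rfl
  have h1 : 2 ∣ Nat.card G := by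
    rw [← hxo]; exact orderOf_dvd_natCard x
  have h2 := hG.1
  rw [Nat.odd_iff] at h2
  omega

/-- `U` centralizes the cyclic Sylow subgroups of `M_σ` -/
theorem Hyp.U_le_cent_PP_of_ne (h : Hyp M K U g) (hx : x ∈ XX M g) (hxo : orderOf x = p)
    (d : NData M N x) {q : ℕ} [hq : Fact q.Prime] (hqp : q ≠ p) :
    U ≤ Subgroup.centralizer ((PP M q : Subgroup G) : Set G) :=
  h.U_le_comm.trans (commutator_le_centralizer_of_isCyclic (h.PP_cyclic hx hxo d hqp)
    (h.UK_le.trans (le_normalizer_PP M q)))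

/-- `U` centralizes `P` if `P` is narrow -/
theorem Hyp.U_le_cent_PP (h : Hyp M K U g) (hx : x ∈ XX M g) (hxo : orderOf x = p)
    (hn : IsNarrow p ↥(PP M p)) :
    U ≤ Subgroup.centralizer ((PP M p : Subgroup G) : Set G) :=
  h.U_le_comm.trans (Cfsg.Agent.Lib.Helper78_NarrowCent.commutator_le_centralizer p
    (p_ne_two_of_orderOf h.hG hxo) (PP M p) (U ⊔ K) (Q1_isPGroup _ _) hn
    (h.UK_le.trans (le_normalizer_PP M p)) (odd_card_subgroup h.hG _)
    (h.cop_UK hp.out (h.p_mem_sigma hx hxo)))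

/-- `U` centralizes `M_σ` if `P` is narrow -/
theorem Hyp.U_le_cent (h : Hyp M K U g) (hx : x ∈ XX M g) (hxo : orderOf x = p)
    (d : NData M N x) (hn : IsNarrow p ↥(PP M p)) :
    U ≤ Subgroup.centralizer ((sigmaCore M : Subgroup G) : Set G) := by
  have h1 : sigmaCore M ⊓ Subgroup.centralizer (U : Set G) = sigmaCore M := by
    apply eq_of_forall_Q1_le h.nil inf_le_left
    intro q hq
    refine le_inf (PP_le M q) ?_
    rw [Subgroup.le_centralizer_iff]
    by_cases hqp : q = p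
    · subst hqp
      exact h.U_le_cent_PP hx hxo hn
    · exact h.U_le_cent_PP_of_ne hx hxo d hqp
  rw [Subgroup.le_centralizer_iff, ← h1]
  exact inf_le_right

end Cfsg.Agent.Lib.Helper48_BG157b
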