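import Mathlib
import Cfsg.Prelude.Def_OddOrderLocal
import Cfsg.Agent.Lib.Helper48_BG157f

/-!
# B-G Theorem 15.7 (case `K ≠ 1`), part 6: consequences of `U = 1`:
`M = K M_σ`, `Y = 1`, `F(M) = M_σ = M'`, `K* ≤ (M_σ)'`.
-/

set_option autoImplicit false
set_option linter.unusedSectionVars false
set_option linter.unusedVariables false
set_option linter.style.haveILetI false

namespace Cfsg.Agent.Lib.Helper48_BG157b

open Cfsg
open Cfsg.Agent.Lib.Helper49_Sigma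
open Cfsg.Agent.Lib.Helper48_BG15a
open Cfsg.Agent.Lib.Helper48_BG15c
open Cfsg.Agent.Lib.Helper48_BG157a
open scoped commutatorElement

universe u

variable {G : Type u} [Group G] [Finite G] {M K U : Subgroup G} {g : G}
variable {x : G} {p : ℕ} [hp : Fact p.Prime] {N : Subgroup G}

theorem Hyp.cop_K_sigma (h : Hyp M K U g) :
    (Nat.card ↥K).Coprime (Nat.card ↥(sigmaCore M)) := by
  apply Nat.coprime_of_dvd
  intro q hq hdK hdS
  exact h.not_dvd_card_K hq (h.sigma_hall.2.1 q hq hdS) hdK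

theorem Hyp.K_inf_sigma (h : Hyp M K U g) : K ⊓ sigmaCore M = ⊥ :=
  Subgroup.inf_eq_bot_of_coprime h.cop_K_sigma

theorem Hyp.K_le_normalizer_sigma (h : Hyp M K U g) :
    K ≤ Subgroup.normalizer ((sigmaCore M : Subgroup G) : Set G) :=
  h.K_le.trans (le_normalizer_sigmaCore M)

theorem Hyp.M_eq (h : Hyp M K U g) (hU : U = ⊥) : K ⊔ sigmaCore M = M := by
  apply le_antisymm h.hKU.compl.2.1
  intro m hm
  obtain ⟨a, ha, b, hb, rfl⟩ := h.hKU.compl.2.2.2 m hm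
  rw [hU, Subgroup.mem_bot] at ha
  rw [ha, one_mul]
  exact hb

/-- every element of `M` is `k * s` with `k ∈ K`, `s ∈ M_σ` -/
theorem Hyp.exists_mul (h : Hyp M K U g) (hU : U = ⊥) :
    ∀ m ∈ M, ∃ k ∈ K, ∃ s ∈ sigmaCore M, m = k * s := by
  intro m hm
  rw [← h.M_eq hU, sup_comm] at hm
  obtain ⟨s, hs, k, hk, rfl⟩ := Cfsg.Agent.Lib.Helper24_CoprimeAction.exists_mul_of_mem_sup K
    (sigmaCore M) h.K_le_normalizer_sigma hm
  refine ⟨k, hk, k⁻¹ * s * k, ?_, by group⟩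
  have := (Subgroup.mem_normalizer_iff.mp (h.K_le_normalizer_sigma (K.inv_mem hk)) s).mp hs
  simpa using this

theorem Hyp.compl_K (h : Hyp M K U g) (hU : U = ⊥) : IsComplIn K (sigmaCore M) M :=
  ⟨h.K_le, sigmaCore_le M, h.K_inf_sigma, h.exists_mul hU⟩

theorem Hyp.card_M (h : Hyp M K U g) (hU : U = ⊥) :
    Nat.card ↥K * Nat.card ↥(sigmaCore M) = Nat.card ↥M :=
  card_mul_of_isComplIn (h.compl_K hU)

/-- every prime divisor of `|M|` outside `σ(M)` lies in `κ(M)` -/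
theorem Hyp.mem_kappa (h : Hyp M K U g) (hU : U = ⊥) {q : ℕ} (hq : q.Prime)
    (hd : q ∣ Nat.card ↥M) (hσ : q ∉ sigma M) : q ∈ kappa M := by
  rw [← h.card_M hU] at hd
  rcases (Nat.Prime.dvd_mul hq).mp hd with h1 | h1
  · exact h.hKU.hall.2.1 q hq h1
  · exact absurd (h.sigma_hall.2.1 q hq h1) hσ

theorem Hyp.YY_eq_bot (h : Hyp M K U g) (hU : U = ⊥) : YY M = ⊥ := by
  by_contra hne
  have hc : Nat.card ↥(YY M) ≠ 1 := fun h0 => hne (Subgroup.card_eq_one.mp h0)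
  obtain ⟨q, hq, hd⟩ := Nat.exists_prime_and_dvd hc
  have h2 := h.YY_tau2 q hq hd
  have hκ := h.mem_kappa hU hq (hd.trans (Subgroup.card_dvd_of_le (YY_le_M M))) h2.2.1
  haveI : Fact q.Prime := ⟨hq⟩
  exact h2.2.2.2 (Cfsg.Agent.Lib.Helper48_BG153c.pRankLE_one_of_sylow_cyclic q
    (fun P => (hκ.2.2.2 P).1))

theorem Hyp.fittingOf_eq_sigma (h : Hyp M K U g) (hU : U = ⊥) : fittingOf M = sigmaCore M := by
  rw [h.fittingOf_eq, h.YY_eq_bot hU, sup_bot_eq]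

/-- `[M_σ, K] = M_σ` and `K* ≤ (M_σ)'` -/
theorem Hyp.Kst_le_comm (h : Hyp M K U g) (hU : U = ⊥) :
    Kst M K ≤ ⁅sigmaCore M, sigmaCore M⁆ :=
  (Cfsg.Agent.S1426.result h.hG M h.hM K (h.compl_K hU)).1

theorem Hyp.comm_sigma_K (h : Hyp M K U g) (hU : U = ⊥) : ⁅sigmaCore M, K⁆ = sigmaCore M :=
  (Cfsg.Agent.S1426.result h.hG M h.hM K (h.compl_K hU)).2.1

theorem Hyp.comm_eq (h : Hyp M K U g) (hU : U = ⊥) : ⁅M, M⁆ = sigmaCore M := by
  apply le_antisymm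
  · rw [Subgroup.commutator_le]
    intro a ha b hb
    obtain ⟨k₁, hk₁, s₁, hs₁, rfl⟩ := h.exists_mul hU a ha
    obtain ⟨k₂, hk₂, s₂, hs₂, rfl⟩ := h.exists_mul hU b hb
    -- work modulo the normal subgroup `M_σ` of `M`
    have hK : ∀ k ∈ K, ∀ s ∈ sigmaCore M, k * s * k⁻¹ ∈ sigmaCore M := fun k hk s hs =>
      (Subgroup.mem_normalizer_iff.mp (h.K_le_normalizer_sigma hk) s).mp hs
    have hK' : ∀ k ∈ K, ∀ s ∈ sigmaCore M, k⁻¹ * s * k ∈ sigmaCore M := fun k hk s hs => by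
      have := hK k⁻¹ (K.inv_mem hk) s hs
      simpa using this
    have hcomm : k₁ * k₂ = k₂ * k₁ := by
      haveI := h.hKU.cyclic
      have := Cfsg.Agent.Lib.Helper77_CyclicAut.commute_of_isCyclic h.hKU.cyclic k₁ hk₁ k₂ hk₂
      exact this
    have e : ⁅k₁ * s₁, k₂ * s₂⁆ =
        (k₁ * s₁ * k₁⁻¹) * ((k₁ * k₂) * (s₂ * s₁⁻¹) * (k₁ * k₂)⁻¹) *
          ((k₁ * k₂ * k₁⁻¹) * s₂⁻¹ * k₂⁻¹) := by
      rw [commutatorElement_def]; group
    have hc' : k₁ * k₂ * k₁⁻¹ = k₂ := by rw [hcomm]; group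
    rw [hc'] at e
    rw [e]
    refine Subgroup.mul_mem _ (Subgroup.mul_mem _ (hK k₁ hk₁ s₁ hs₁) ?_)
      (hK k₂ hk₂ _ (Subgroup.inv_mem _ hs₂))
    exact hK _ (K.mul_mem hk₁ hk₂) _ (Subgroup.mul_mem _ hs₂ (Subgroup.inv_mem _ hs₁))
  · rw [← h.comm_sigma_K hU]
    exact Subgroup.commutator_mono (sigmaCore_le M) h.K_le

end Cfsg.Agent.Lib.Helper48_BG157b
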