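import Cfsg.Agent.Lib.Helper2_Blackburn

/-!
# Complements to `Helper2_Blackburn` (helper2)

* `structure_of_action_explicit`: the structure theorem with `E = Ω₁(Q)` and `C = C_Q(E)` explicit.
* `card_eq_cube_of_prime_action`: if the acting group has prime order `q ∤ p (p - 1)` and `Q` is
  nonabelian then `|Q| = p³`.
-/

set_option autoImplicit false
set_option linter.unusedSectionVars false

namespace Cfsg.Agent.Lib.Helper2_Blackburn

open Cfsg Subgroup Cfsg.Agent.Lib.Helper2_OmegaTwo Cfsg.Agent.Lib.Helper2_OmegaMeta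

open scoped commutatorElement

universe u

section main2

variable {Q : Type u} [Group Q] [Finite Q] {p : ℕ} [Fact p.Prime]

/-- The structure theorem with `E = Ω₁(Q)` and `C = C_Q(E)` explicit. -/
theorem structure_of_action_explicit [Nontrivial Q] (hp2 : p ≠ 2) (hQ : IsPGroup p Q)
    (hrk : Cfsg.PRankLE p 2 Q) {Γ : Type*} [Group Γ] [Finite Γ]
    (hodd : Odd (Nat.card Γ)) (hcop : (Nat.card Γ).Coprime p) (ρ : Γ →* MulAut Q)
    (hfix : closure {x : Q | ∃ (γ : Γ) (g : Q), x = ρ γ g * g⁻¹} = ⊤) :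
    3 < p ∧ ((∀ a b : Q, a * b = b * a) ∨
      (omega p Q ⊔ centralizer (omega p Q : Set Q) = ⊤ ∧ Nat.card (omega p Q) = p ^ 3 ∧
        IsCyclic ↥(centralizer (omega p Q : Set Q)))) := by
  have hpP : p.Prime := Fact.out
  have hp := three_lt_of_action hp2 hQ hrk hodd hcop ρ hfix
  refine ⟨hp, ?_⟩
  have hrk' : ∀ E : Subgroup Q, (∀ a ∈ E, ∀ b ∈ E, a * b = b * a) → (∀ a ∈ E, a ^ p = 1) →
      Nat.card E ≤ p ^ 2 := fun E hEc hEe =>
    hrk E ⟨⟨fun a b => Subtype.ext (hEc a.1 a.2 b.1 b.2)⟩⟩ hEe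
  by_cases hO : Nat.card (omega p Q) ≤ p ^ 2
  · left
    have hm := isMetacyclic_of_card_omega_le hp hQ hO
    exact Cfsg.Agent.Lib.Helper2_Metacyclic.comm_of_fixedPointFree hp2 hQ hm hcop ρ hfix
  · right
    push Not at hO
    have hexp : ∀ e ∈ omega p Q, e ^ p = 1 := fun e he =>
      Cfsg.Agent.Lib.Helper20_RankTwoOmega.pow_eq_one_of_mem_closure hp hQ hrk' he
    have hle : Nat.card (omega p Q) ≤ p ^ 3 :=
      Cfsg.Agent.Lib.Helper20_RankTwoOmega.card_le_of_exp hp2 hQ hrk' (omega p Q) hexp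
    have hcard : Nat.card (omega p Q) = p ^ 3 := by
      obtain ⟨k, hk⟩ := IsPGroup.iff_card.mp (hQ.to_subgroup (omega p Q))
      rw [hk] at hO hle ⊢
      have h1 : 2 < k := (Nat.pow_lt_pow_iff_right hpP.one_lt).mp hO
      have h2 : k ≤ 3 := (Nat.pow_le_pow_iff_right hpP.one_lt).mp hle
      have : k = 3 := by omega
      rw [this]
    have h := Setting.mk' hp hQ hrk hcard
    have hK : h.K₁ = ⊤ := by
      by_contra hbad
      exact (h.bad_of_ne_top hbad).false_of_action hp hodd hcop ρ hfix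
    refine ⟨?_, hcard, h.isCyclic_centralizer hp2⟩
    rw [eq_top_iff, ← hK]
    exact h.K₁_le

/-- If the acting group has prime order `q ∤ p (p - 1)` and `Q` is nonabelian, then `|Q| = p³`. -/
theorem card_eq_cube_of_prime_action (hp2 : p ≠ 2) (hQ : IsPGroup p Q)
    (hrk : Cfsg.PRankLE p 2 Q) (hnc : ¬ ∀ a b : Q, a * b = b * a)
    {Γ : Type*} [Group Γ] [Finite Γ]
    (hodd : Odd (Nat.card Γ)) (hq : (Nat.card Γ).Prime) (hqp : ¬ Nat.card Γ ∣ p * (p - 1))
    (ρ : Γ →* MulAut Q)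
    (hfix : closure {x : Q | ∃ (γ : Γ) (g : Q), x = ρ γ g * g⁻¹} = ⊤) :
    Nat.card Q = p ^ 3 := by
  have hpP : p.Prime := Fact.out
  have hnt : Nontrivial Q := by
    by_contra hnt
    rw [not_nontrivial_iff_subsingleton] at hnt
    exact hnc (fun a b => Subsingleton.elim _ _)
  have hqp1 : ¬ Nat.card Γ ∣ p := fun h => hqp (Dvd.dvd.mul_right h _)
  have hqp2 : ¬ Nat.card Γ ∣ p - 1 := fun h => hqp (Dvd.dvd.mul_left h _)
  have hcop : (Nat.card Γ).Coprime p := (Nat.Prime.coprime_iff_not_dvd hq).mpr hqp1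
  obtain ⟨-, hstr⟩ := structure_of_action_explicit hp2 hQ hrk hodd hcop ρ hfix
  rcases hstr with hcomm | ⟨hsup, hcard, hcyc⟩
  · exact absurd hcomm hnc
  set E := omega p Q with hE
  set C := centralizer (E : Set Q) with hC
  have hEn : E.Normal := inferInstance
  have hCchar : C.Characteristic := by rw [hC]; infer_instance
  -- the acting group centralizes `C`
  have hfixC : ∀ (γ : Γ) (c : Q), c ∈ C → ρ γ c = c := by
    intro γ c hc
    set r := MulAut.characteristic C (ρ γ) with hr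
    have h1 : orderOf r ∣ Nat.card Γ := by
      have h2 : r ^ Nat.card Γ = 1 := by
        rw [hr, ← map_pow, ← map_pow, pow_card_eq_one', map_one, map_one]
      exact orderOf_dvd_of_pow_eq_one h2
    have h2 : orderOf r ∣ Nat.card (MulAut ↥C) := orderOf_dvd_natCard r
    have h3 : (Nat.card Γ).Coprime (Nat.card (MulAut ↥C)) := by
      rw [IsCyclic.card_mulAut]
      obtain ⟨k, hk⟩ := IsPGroup.iff_card.mp (hQ.to_subgroup C)
      rw [hk]
      rcases Nat.eq_zero_or_pos k with h0 | h0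
      · rw [h0, pow_zero, Nat.totient_one]
        exact Nat.coprime_one_right _
      · rw [Nat.totient_prime_pow hpP h0]
        exact Nat.Coprime.mul_right (Nat.Coprime.pow_right _ hcop)
          ((Nat.Prime.coprime_iff_not_dvd hq).mpr hqp2)
    have h4 : orderOf r = 1 := Nat.eq_one_of_dvd_coprimes h3 h1 h2
    have h5 : r = 1 := orderOf_eq_one_iff.mp h4
    have h6 : r ⟨c, hc⟩ = ⟨c, hc⟩ := by rw [h5]; rfl
    exact congrArg Subtype.val h6
  -- hence `[Q, Γ] ≤ E`
  have hle : closure {x : Q | ∃ (γ : Γ) (g : Q), x = ρ γ g * g⁻¹} ≤ E := by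
    rw [closure_le]
    rintro _ ⟨γ, x, rfl⟩
    have hx : x ∈ E ⊔ C := by rw [hsup]; exact mem_top x
    obtain ⟨e, he, c, hc, rfl⟩ := Subgroup.mem_sup_of_normal_left.mp hx
    have hEc : E.Characteristic := by rw [hE]; infer_instance
    have hρe : ρ γ e ∈ E := by
      have h1 := Subgroup.characteristic_iff_comap_eq.mp hEc (ρ γ)
      rw [← h1] at he
      exact he
    have h1 : ρ γ (e * c) * (e * c)⁻¹ = ρ γ e * e⁻¹ := by
      rw [map_mul, hfixC γ c hc]; group
    rw [SetLike.mem_coe, h1]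
    exact E.mul_mem hρe (E.inv_mem he)
  rw [hfix] at hle
  have hEtop : E = ⊤ := top_le_iff.mp hle
  rw [← hcard, hEtop, Subgroup.card_top]

end main2

end Cfsg.Agent.Lib.Helper2_Blackburn
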