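import Mathlib
import Cfsg.Prelude.Def_OddOrderLocal
import Cfsg.Agent.Lib.Helper48_BG157g
import Cfsg.Agent.S1454

/-!
# B-G Theorem 15.7 (case `K ≠ 1`), part 7: the action of `K` on the Sylow subgroups of `M_σ`.
-/

set_option autoImplicit false
set_option linter.unusedSectionVars false
set_option linter.unusedVariables false
set_option linter.style.haveILetI false

namespace Cfsg.Agent.Lib.Helper48_BG157b

open Cfsg
open Cfsg.Agent.Lib.Helper49_Sigma
open Cfsg.Agent.Lib.Helper48_BG15a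
open Cfsg.Agent.Lib.Helper48_BG15c
open Cfsg.Agent.Lib.Helper48_BG157a
open scoped commutatorElement

universe u

variable {G : Type u} [Group G] [Finite G] {M K U : Subgroup G} {g : G}
variable {x : G} {p : ℕ} [hp : Fact p.Prime] {N : Subgroup G}

/-- `D = O_{p'}(M_σ)` as a subgroup of `G` -/
abbrev DD (M : Subgroup G) (p : ℕ) : Subgroup G :=
  (pPrimeCore p ↥(sigmaCore M)).map (sigmaCore M).subtype

theorem DD_le (M : Subgroup G) (p : ℕ) : DD M p ≤ sigmaCore M := Subgroup.map_subtype_le _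

theorem card_DD (M : Subgroup G) (p : ℕ) :
    Nat.card ↥(DD M p) = Nat.card ↥(pPrimeCore p ↥(sigmaCore M)) :=
  Subgroup.card_map_of_injective (sigmaCore M).subtype_injective

theorem card_DD_coprime (M : Subgroup G) (p : ℕ) : (Nat.card ↥(DD M p)).Coprime p := by
  rw [card_DD]
  exact Cfsg.Agent.Lib.Helper1_Cores.pPrimeCore_card_coprime p

theorem PP_le_DD_of_ne (M : Subgroup G) {q : ℕ} [hq : Fact q.Prime] (hqp : q ≠ p) :
    PP M q ≤ DD M p := by
  apply Subgroup.map_mono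
  apply Cfsg.Agent.Lib.Helper1_Cores.le_pPrimeCore (Cfsg.Agent.Lib.Helper1_Cores.pCore_normal q)
  obtain ⟨n, hn⟩ := IsPGroup.iff_card.mp (Cfsg.Agent.Lib.Helper1_Cores.pCore_isPGroup
    (G := ↥(sigmaCore M)) q)
  rw [hn]
  exact Nat.Coprime.pow_left n ((Nat.coprime_primes hq.out hp.out).mpr hqp)

theorem Hyp.DD_cyclic (h : Hyp M K U g) (hx : x ∈ XX M g) (hxo : orderOf x = p)
    (d : NData M N x) : IsCyclic ↥(DD M p) := by
  apply isCyclic_of_forall_Q1 h.nil (DD_le M p)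
  intro q hq hd
  have hqp : q ≠ p := by
    rintro rfl
    have := card_DD_coprime M q
    rw [Nat.coprime_comm, Nat.Prime.coprime_iff_not_dvd hq.out] at this
    exact this hd
  exact h.PP_cyclic hx hxo d hqp

theorem Hyp.PP_sup_DD (h : Hyp M K U g) : PP M p ⊔ DD M p = sigmaCore M := by
  apply eq_of_forall_Q1_le h.nil (sup_le (PP_le M p) (DD_le M p))
  intro q hq
  by_cases hqp : q = p
  · subst hqp
    exact le_sup_left
  · exact (PP_le_DD_of_ne M hqp).trans le_sup_right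

theorem Hyp.comm_PP_DD (h : Hyp M K U g) : ∀ a ∈ PP M p, ∀ b ∈ DD M p, a * b = b * a := by
  intro a ha b hb
  obtain ⟨n, hn⟩ := (Q1_isPGroup (sigmaCore M) p) ⟨a, ha⟩
  have hn' : a ^ p ^ n = 1 := by simpa using congrArg Subtype.val hn
  exact Cfsg.Agent.Lib.Helper25_CNSolv.commute_in_nilpotent (sigmaCore M) h.nil a b (PP_le M p ha)
    (DD_le M p hb) (p ^ n) (Nat.card ↥(DD M p)) hn' (pow_card_of_mem hb)
    (Nat.Coprime.pow_left n (Nat.coprime_comm.mp (card_DD_coprime M p)))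

theorem Hyp.comm_sigma_le (h : Hyp M K U g) (hx : x ∈ XX M g) (hxo : orderOf x = p)
    (d : NData M N x) : ⁅sigmaCore M, sigmaCore M⁆ ≤ ⁅PP M p, PP M p⁆ := by
  have h1 := commutator_sup_le h.comm_PP_DD
    (Cfsg.Agent.Lib.Helper77_CyclicAut.commute_of_isCyclic (h.DD_cyclic hx hxo d))
  rwa [h.PP_sup_DD] at h1

theorem Hyp.Kst_le_comm_PP (h : Hyp M K U g) (hx : x ∈ XX M g) (hxo : orderOf x = p)
    (d : NData M N x) (hU : U = ⊥) : Kst M K ≤ ⁅PP M p, PP M p⁆ :=
  (h.Kst_le_comm hU).trans (h.comm_sigma_le hx hxo d)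

theorem Hyp.Kst_le_PP (h : Hyp M K U g) (hx : x ∈ XX M g) (hxo : orderOf x = p)
    (d : NData M N x) : Kst M K ≤ PP M p :=
  le_Q1_of_isPGroup h.nil p inf_le_left (h.Kst_isPGroup hx hxo d)

theorem Kst_le_cent {k : G} (hk : k ∈ K) : Kst M K ≤ Subgroup.centralizer ({k} : Set G) :=
  inf_le_right.trans (Subgroup.centralizer_le (Set.singleton_subset_iff.mpr hk))

theorem Hyp.PP_inf_cent (h : Hyp M K U g) (hx : x ∈ XX M g) (hxo : orderOf x = p)
    (d : NData M N x) : ∀ k ∈ K, k ≠ 1 →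
      PP M p ⊓ Subgroup.centralizer ({k} : Set G) = Kst M K := by
  intro k hk hk1
  apply le_antisymm
  · rw [← h.h30 k hk hk1]
    exact inf_le_inf_right _ (PP_le M p)
  · exact le_inf (h.Kst_le_PP hx hxo d) (Kst_le_cent hk)

theorem centralizer_le_singleton {A : Subgroup G} {k : G} :
    k ∈ Subgroup.centralizer (A : Set G) → A ≤ Subgroup.centralizer ({k} : Set G) := by
  intro hk a ha
  rw [mem_centralizer_singleton]
  exact (Subgroup.mem_centralizer_iff.mp hk a ha).symm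

/-- `K` acts faithfully on `P` -/
theorem Hyp.K_inf_cent_PP (h : Hyp M K U g) (hx : x ∈ XX M g) (hxo : orderOf x = p)
    (d : NData M N x) : K ⊓ Subgroup.centralizer ((PP M p : Subgroup G) : Set G) = ⊥ := by
  rw [eq_bot_iff]
  intro k hk
  rw [Subgroup.mem_bot]
  by_contra hk1
  apply h.PP_not_comm hx hxo d
  have h1 : PP M p ≤ Kst M K := by
    rw [← h.h30 k hk.1 hk1]
    exact le_inf (PP_le M p) (centralizer_le_singleton hk.2)
  exact isMulCommutative_of_comm fun a ha b hb =>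
    Cfsg.Agent.Lib.Helper77_CyclicAut.commute_of_isCyclic h.hKsc a (h1 ha) b (h1 hb)

/-- `K` acts faithfully on the Sylow `q`-subgroup of `M_σ`, `q ≠ p` -/
theorem Hyp.K_inf_cent_PP_of_ne (h : Hyp M K U g) (hx : x ∈ XX M g) (hxo : orderOf x = p)
    (d : NData M N x) {q : ℕ} [hq : Fact q.Prime] (hqp : q ≠ p) (hQ : PP M q ≠ ⊥) :
    K ⊓ Subgroup.centralizer ((PP M q : Subgroup G) : Set G) = ⊥ := by
  rw [eq_bot_iff]
  intro k hk
  rw [Subgroup.mem_bot]
  by_contra hk1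
  apply hQ
  have h1 : PP M q ≤ Kst M K := by
    rw [← h.h30 k hk.1 hk1]
    exact le_inf (PP_le M q) (centralizer_le_singleton hk.2)
  have h2 : IsPGroup p ↥(PP M q) := (h.Kst_isPGroup hx hxo d).to_le h1
  have h3 : IsPGroup q ↥(PP M q) := Q1_isPGroup _ _
  obtain ⟨n, hn⟩ := IsPGroup.iff_card.mp h2
  obtain ⟨m, hm⟩ := IsPGroup.iff_card.mp h3
  have hcop : (p ^ n).Coprime (q ^ m) :=
    Nat.Coprime.pow _ _ ((Nat.coprime_primes hp.out hq.out).mpr (Ne.symm hqp))
  rw [← hn, ← hm, Nat.coprime_self] at hcop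
  exact Subgroup.card_eq_one.mp hcop

theorem relIndex_eq_card_of_inf_eq_bot {A B : Subgroup G} (h : B ⊓ A = ⊥) :
    A.relIndex B = Nat.card ↥B := by
  rw [← Subgroup.inf_relIndex_right, inf_comm, h, Subgroup.relIndex_bot_left]

theorem PP_ne_bot_of_dvd (hnil : Group.IsNilpotent ↥(sigmaCore M)) {q : ℕ} [hq : Fact q.Prime]
    (hd : q ∣ Nat.card ↥(sigmaCore M)) : PP M q ≠ ⊥ := by
  intro h0
  have h1 := not_dvd_relIndex_Q1_nil hnil q
  apply h1
  have h2 := card_eq_card_mul_relIndex (PP_le M q)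
  have h3 : Nat.card ↥(PP M q) = 1 := by rw [h0, Subgroup.card_bot]
  rw [h3, one_mul] at h2
  have h4 : (Q1 (sigmaCore M) q).relIndex (sigmaCore M) = (PP M q).relIndex (sigmaCore M) := rfl
  rw [h4, ← h2]
  exact hd

/-- `|K|` divides `q - 1` for the primes `q ≠ p` dividing `|M_σ|` -/
theorem Hyp.card_K_dvd_of_ne (h : Hyp M K U g) (hx : x ∈ XX M g) (hxo : orderOf x = p)
    (d : NData M N x) {q : ℕ} [hq : Fact q.Prime] (hqp : q ≠ p)
    (hd : q ∣ Nat.card ↥(sigmaCore M)) : Nat.card ↥K ∣ q - 1 := by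
  have hQ := PP_ne_bot_of_dvd h.nil hd
  have hKN : K ≤ Subgroup.normalizer ((PP M q : Subgroup G) : Set G) :=
    h.K_le.trans (le_normalizer_PP M q)
  haveI : ((Subgroup.centralizer ((PP M q : Subgroup G) : Set G)).subgroupOf K).Normal :=
    Subgroup.normal_subgroupOf_of_le_normalizer (hKN.trans
      (Cfsg.Agent.Lib.Helper24_CoprimeHall.normalizer_le_normalizer_centralizer _))
  have hrel := relIndex_eq_card_of_inf_eq_bot (h.K_inf_cent_PP_of_ne hx hxo d hqp hQ)
  have h1 := (Cfsg.Agent.Lib.Helper77_CyclicAut.cyclic_quotient (Q1_isPGroup _ _)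
    (h.PP_cyclic hx hxo d hqp) hQ hKN (by
      rw [hrel]
      exact h.not_dvd_card_K hq.out (h.sigma_hall.2.1 q hq.out hd))).2
  rwa [hrel] at h1

/-- `|K|` divides `p - 1` if `P` is narrow of rank at least `3` -/
theorem Hyp.card_K_dvd_rank3 (h : Hyp M K U g) (hx : x ∈ XX M g) (hxo : orderOf x = p)
    (d : NData M N x) (hn : IsNarrow p ↥(PP M p)) (hr : ¬ PRankLE p 2 ↥(PP M p)) :
    Nat.card ↥K ∣ p - 1 := by
  haveI := h.solvM
  have hsolv : Group.IsSolvable ↥K :=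
    Group.isSolvable_of_isSolvable_injective (Subgroup.inclusion_injective h.K_le)
  have h54 := (Cfsg.Agent.S1454.result p (p_ne_two_of_orderOf h.hG hxo) (PP M p) K
    (Q1_isPGroup _ _) hn (h.K_le.trans (le_normalizer_PP M p)) hsolv (odd_card_subgroup h.hG K)
    (h.K_inf_cent_PP hx hxo d)).2.1 hr
  haveI := h.hKU.cyclic
  obtain ⟨k, hk⟩ := IsCyclic.exists_generator (α := ↥K)
  have hko : orderOf k = Nat.card ↥K := orderOf_eq_card_of_forall_mem_zpowers hk
  have hko' : orderOf (k : G) = Nat.card ↥K := by rw [Subgroup.orderOf_coe, hko]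
  have := h54 (k : G) k.2 (by
    rw [hko', Nat.coprime_comm, Nat.Prime.coprime_iff_not_dvd hp.out]
    exact h.not_dvd_card_K hp.out (h.p_mem_sigma hx hxo))
  rwa [hko'] at this

end Cfsg.Agent.Lib.Helper48_BG157b
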