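import Mathlib
import Cfsg.Agent.Lib.Helper78_BG1372
import Cfsg.Agent.Lib.Helper52_FrobFormula
import Cfsg.Agent.Lib.Helper32_Cores
import Cfsg.Agent.S1350
import Cfsg.Agent.S1439

/-!
# Piece E of B-G 15.7 (for helper48)

If in the standard factorisation `M = K U M_σ` (`K ≠ 1`, `K` fixed-point-free on `U`) the subgroup
`U` centralizes `M_σ`, then `U = 1`.
-/

set_option autoImplicit false

namespace Cfsg.Agent.Lib.Helper78_BG157E

open Subgroup Cfsg Cfsg.Agent.Lib.Helper78_SigmaDecomp Cfsg.Agent.Lib.Helper78_BG1372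

theorem U_eq_bot_of_centralizes {G : Type*} [Group G] [Finite G]
    (hG : Cfsg.IsMinSimpleOddOrder G) (M : Subgroup G) (hM : IsCoatom M) (K U : Subgroup G)
    (hKU : Cfsg.IsSigmaDecomposition M K U) (hK1 : K ≠ ⊥)
    (h53 : ∀ k ∈ K, k ≠ 1 → U ⊓ Subgroup.centralizer ({k} : Set G) = ⊥)
    (hUH : U ≤ Subgroup.centralizer (Cfsg.sigmaCore M : Set G)) : U = ⊥ := by
  by_contra hU1
  have hH : IsPiHallOf (sigma M) (sigmaCore M) M := (Cfsg.Agent.S1350.result hG M hM).1
  have hUM := U_le hKU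
  -- `M` normalizes `U`
  have key : ∀ z ∈ sigmaCore M, ∀ w ∈ U, z * w * z⁻¹ = w := by
    intro z hz w hw
    have h1 : z * w = w * z := (mem_centralizer_iff.mp (hUH hw)) z hz
    rw [h1, mul_inv_cancel_right]
  have hσN : sigmaCore M ≤ normalizer (U : Set G) := by
    intro y hy
    rw [mem_normalizer_iff]
    intro u
    constructor
    · intro hu
      rw [key y hy u hu]; exact hu
    · intro hu
      have h2 := key y⁻¹ (inv_mem hy) _ hu
      have h3 : y⁻¹ * (y * u * y⁻¹) * y⁻¹⁻¹ = u := by group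
      rw [h3] at h2
      rw [h2]; exact hu
  have hMN : M ≤ normalizer (U : Set G) := by
    intro m hm
    obtain ⟨a, ha, b, hb, rfl⟩ := hKU.compl.2.2.2 m hm
    exact mul_mem (le_normalizer ha) ((sup_le hKU.normal hσN) hb)
  -- `U` is nilpotent
  have hnil : Group.IsNilpotent ↥U := by
    refine Cfsg.Agent.Lib.Helper52_FrobFormula.nilpotent_of_fpf U K hK1 ?_ ?_
    · intro e he u hu
      exact (mem_normalizer_iff.mp (hKU.normal he) u).mp hu
    · intro e he he1 u hu hcomm
      have hmem : u ∈ U ⊓ centralizer ({e} : Set G) := by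
        refine ⟨hu, ?_⟩
        show u ∈ centralizer ({e} : Set G)
        rw [mem_centralizer_singleton_iff]
        exact hcomm.symm
      rw [h53 e he he1, mem_bot] at hmem
      exact hmem
  have hUF : U ≤ fittingOf M := Cfsg.Agent.Lib.Helper97_BG15Y.le_fittingOf hUM hMN hnil
  have hFM : fittingOf M ≤ M := Cfsg.Agent.Lib.Helper22_FitLocal.fittingOf_le M
  -- `U ≤ Y`
  set Y : Subgroup G := piCoreOf {q | q.Prime ∧ q ∉ sigma M} (fittingOf M) with hY
  have hUY : U ≤ Y := by
    have hn : (U.subgroupOf (fittingOf M)).Normal :=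
      (normal_subgroupOf_iff_le_normalizer hUF).mpr (hFM.trans hMN)
    have hle : U.subgroupOf (fittingOf M) ≤ piCore {q | q.Prime ∧ q ∉ sigma M} ↥(fittingOf M) := by
      refine Cfsg.Agent.Lib.Helper32_Cores.le_piCore hn ?_
      intro q hq hqd
      have hcard : Nat.card ↥(U.subgroupOf (fittingOf M)) = Nat.card ↥U :=
        Nat.card_congr (Subgroup.subgroupOfEquivOfLe hUF).toEquiv
      rw [hcard] at hqd
      exact ⟨hq, (not_mem_of_dvd_card_U hKU hH hq hqd).1⟩
    have h2 := Subgroup.map_mono (f := (fittingOf M).subtype) hle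
    rwa [Subgroup.map_subgroupOf_eq_of_le hUF] at h2
  obtain ⟨hYc, hYτ, -⟩ := Cfsg.Agent.S1439.result hG M hM
  obtain ⟨r, hr, hrd⟩ := exists_prime_dvd_card hU1
  have : Fact r.Prime := ⟨hr⟩
  have hrY : r ∣ Nat.card ↥Y := hrd.trans (Subgroup.card_dvd_of_le hUY)
  have hτ : r ∈ tau2 M := hYτ r hr hrY
  have hUc : IsCyclic ↥U := by
    have := hYc
    exact isCyclic_of_injective (Subgroup.inclusion hUY) (Subgroup.inclusion_injective hUY)
  obtain ⟨S, hS⟩ := exists_sylow_le_U hKU hH hrd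
  have hSc : IsCyclic ↥(S : Subgroup ↥M) := by
    let ψ : ↥(S : Subgroup ↥M) →* ↥U :=
      (M.subtype.comp (S : Subgroup ↥M).subtype).codRestrict U (fun s => hS ⟨s.1, s.2, rfl⟩)
    have hψ : Function.Injective ψ := by
      intro a b hab
      have : ((a : ↥M) : G) = ((b : ↥M) : G) := congrArg (fun z : ↥U => (z : G)) hab
      exact Subtype.ext (Subtype.ext this)
    exact isCyclic_of_injective ψ hψ
  exact hτ.2.2.2 (Cfsg.Agent.Lib.Helper2_NarrowSolv.pRankLE_of_sylow' S
    (Cfsg.Agent.Lib.Helper79_BG141.pRankLE_one_of_isCyclic r hSc))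

end Cfsg.Agent.Lib.Helper78_BG157E
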