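import Mathlib
import Cfsg.Prelude.Def_OddOrderLocal
import Cfsg.Agent.Lib.Helper48_BG157h
import Cfsg.Agent.Lib.Helper78_BG157E
import Cfsg.Agent.S1412

/-!
# B-G Theorem 15.7 (case `K ≠ 1`), part 8: `U = 1`, the rank `≤ 2` case, and `|X| = p`.

The two pieces delegated to other seats (`narrow_of_max`, `dichotomy`) enter as the hypotheses
`NarrowStatement G` and `DichStatement G`; they are discharged in `Helper48_BG157`.
-/

set_option autoImplicit false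
set_option linter.unusedSectionVars false
set_option linter.unusedVariables false
set_option linter.style.haveILetI false

namespace Cfsg.Agent.Lib.Helper48_BG157b

open Cfsg
open Cfsg.Agent.Lib.Helper49_Sigma
open Cfsg.Agent.Lib.Helper48_BG15a
open Cfsg.Agent.Lib.Helper48_BG15c
open Cfsg.Agent.Lib.Helper48_BG157a
open scoped commutatorElement

universe u

/-- the rank-two dichotomy (piece B) -/
def DichStatement (G : Type u) [Group G] [Finite G] : Prop :=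
  ∀ (p : ℕ) [Fact p.Prime] (hp : p ≠ 2) (P P₁ P₂ K C : Subgroup G) (hP : IsPGroup p P)
    (h12 : P₁ ⊔ P₂ = P) (hcomm : ∀ a ∈ P₁, ∀ b ∈ P₂, a * b = b * a)
    (hP1 : ¬ IsMulCommutative P₁) (hP1c : Nat.card P₁ = p ^ 3) (hP1e : Monoid.exponent P₁ = p)
    (hP2 : IsCyclic P₂)
    (hOm : Subgroup.closure {x : G | x ∈ P₂ ∧ x ^ p = 1} =
      P₁ ⊓ Subgroup.centralizer (P₁ : Set G))
    (hKN : K ≤ Subgroup.normalizer (P : Set G)) (hKc : IsCyclic K) (hKodd : Odd (Nat.card K))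
    (hKp : (Nat.card K).Coprime p) (hC : C ≠ ⊥) (hCc : IsCyclic C)
    (hprime : ∀ k ∈ K, k ≠ 1 → P ⊓ Subgroup.centralizer ({k} : Set G) = C),
    Nat.card K ∣ p - 1 ∨ (Nat.card K ∣ p + 1 ∧ (C ≤ ⁅P, P⁆ → Nat.card P = p ^ 3))

/-- narrowness of `P` (piece C) -/
def NarrowStatement (G : Type u) [Group G] [Finite G] : Prop :=
  ∀ (p : ℕ) [Fact p.Prime] (hp : p ≠ 2) (P : Subgroup G) (hP : IsPGroup p P) (x z : G)
    (hxP : x ∈ P) (hzP : z ∈ P) (hxo : orderOf x = p) (hzo : orderOf z = p)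
    (hzc : ∀ y ∈ P, z * y = y * z) (hxnc : ∃ y ∈ P, x * y ≠ y * x)
    (hCab : ∀ a ∈ P ⊓ Subgroup.centralizer ({x} : Set G),
      ∀ b ∈ P ⊓ Subgroup.centralizer ({x} : Set G), a * b = b * a)
    (hOm : ∀ y ∈ P ⊓ Subgroup.centralizer ({x} : Set G), y ^ p = 1 →
      y ∈ Subgroup.zpowers x ⊔ Subgroup.zpowers z),
    Cfsg.IsNarrow p ↥P ∧ (¬ Cfsg.PRankLE p 2 ↥P →
      ∀ y ∈ P ⊓ Subgroup.centralizer ({x} : Set G), y ^ p ≠ x)

variable {G : Type u} [Group G] [Finite G] {M K U : Subgroup G} {g : G}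
variable {x : G} {p : ℕ} [hp : Fact p.Prime] {N : Subgroup G}

theorem Hyp.narrow (h : Hyp M K U g) (hx : x ∈ XX M g) (hxo : orderOf x = p)
    (d : NData M N x) (hC : NarrowStatement G) :
    IsNarrow p ↥(PP M p) ∧ (¬ PRankLE p 2 ↥(PP M p) →
      ∀ y ∈ PP M p ⊓ Subgroup.centralizer ({x} : Set G), y ^ p ≠ x) := by
  obtain ⟨z, hzP, hzo, hzc⟩ := h.exists_central hx hxo
  have e : ZData M p z := ⟨hzP, hzo, hzc⟩
  exact hC p (p_ne_two_of_orderOf h.hG hxo) (PP M p) (Q1_isPGroup _ _) x z (h.x_mem_PP hx hxo)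
    hzP hxo hzo hzc (h.x_not_central hx hxo d) (h.cent_comm hx hxo d) (h.omega_le_AA hx hxo d e)

/-- **`U = 1`** -/
theorem Hyp.U_eq_bot (h : Hyp M K U g) (hx : x ∈ XX M g) (hxo : orderOf x = p)
    (d : NData M N x) (hC : NarrowStatement G) : U = ⊥ :=
  Cfsg.Agent.Lib.Helper78_BG157E.U_eq_bot_of_centralizes h.hG M h.hM K U h.hKU h.hK1 h.h53
    (h.U_le_cent hx hxo d (h.narrow hx hxo d hC).1)

theorem Hyp.not_dvd_index_PP (h : Hyp M K U g) (hσ : p ∈ sigma M) : ¬ p ∣ (PP M p).index := by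
  rw [← Subgroup.relIndex_mul_index (PP_le M p)]
  intro hd
  rcases (Nat.Prime.dvd_mul hp.out).mp hd with h1 | h1
  · exact not_dvd_relIndex_Q1_nil h.nil p h1
  · exact h.sigma_hallG.2 p hp.out hσ h1

/-- the decomposition of `P` in the rank `≤ 2` case (B-G 5.3, `S1412`) -/
theorem Hyp.rank2_decomp (h : Hyp M K U g) (hx : x ∈ XX M g) (hxo : orderOf x = p)
    (d : NData M N x) (hr : PRankLE p 2 ↥(PP M p)) :
    ∃ P₁ P₂ : Subgroup G, P₁ ⊔ P₂ = PP M p ∧ (∀ a ∈ P₁, ∀ b ∈ P₂, a * b = b * a) ∧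
      ¬ IsMulCommutative P₁ ∧ Nat.card P₁ = p ^ 3 ∧ Monoid.exponent P₁ = p ∧ IsCyclic P₂ ∧
      Subgroup.closure {x : G | x ∈ P₂ ∧ x ^ p = 1} =
        P₁ ⊓ Subgroup.centralizer (P₁ : Set G) := by
  have hσ := h.p_mem_sigma hx hxo
  let S : Sylow p G := (Q1_isPGroup (sigmaCore M) p).toSylow (h.not_dvd_index_PP hσ)
  have hS : (S : Subgroup G) = PP M p := IsPGroup.toSylow_coe _ _
  have h12 := Cfsg.Agent.S1412.result h.hG p S (by rw [hS]; exact hr)
  rw [hS] at h12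
  rcases h12 with h1 | h1
  · exact absurd h1 (h.PP_not_comm hx hxo d)
  · exact h1

/-- the divisibility alternative for `|K|` -/
theorem Hyp.card_K_dvd (h : Hyp M K U g) (hx : x ∈ XX M g) (hxo : orderOf x = p)
    (d : NData M N x) (hC : NarrowStatement G) (hB : DichStatement G) (hU : U = ⊥) :
    Nat.card ↥K ∣ p - 1 ∨ (Nat.card ↥K ∣ p + 1 ∧ Nat.card ↥(PP M p) = p ^ 3) := by
  by_cases hr : PRankLE p 2 ↥(PP M p)
  · obtain ⟨P₁, P₂, h12, hcomm, hP1, hP1c, hP1e, hP2, hOm⟩ := h.rank2_decomp hx hxo d hr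
    have hσ := h.p_mem_sigma hx hxo
    rcases hB p (p_ne_two_of_orderOf h.hG hxo) (PP M p) P₁ P₂ K (Kst M K) (Q1_isPGroup _ _) h12
      hcomm hP1 hP1c hP1e hP2 hOm (h.K_le.trans (le_normalizer_PP M p)) h.hKU.cyclic
      (odd_card_subgroup h.hG K)
      (Nat.coprime_comm.mp ((Nat.Prime.coprime_iff_not_dvd hp.out).mpr
        (h.not_dvd_card_K hp.out hσ))) h.hKs h.hKsc (h.PP_inf_cent hx hxo d) with h1 | h1
    · exact Or.inl h1
    · exact Or.inr ⟨h1.1, h1.2 (h.Kst_le_comm_PP hx hxo d hU)⟩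
  · exact Or.inl (h.card_K_dvd_rank3 hx hxo d (h.narrow hx hxo d hC).1 hr)

/-- `X` is a `p`-group -/
theorem Hyp.XX_isPGroup (h : Hyp M K U g) (hx : x ∈ XX M g) (hxo : orderOf x = p)
    (d : NData M N x) : IsPGroup p ↥(XX M g) := by
  have key : ∀ {q : ℕ}, q.Prime → q ∣ Nat.card ↥(XX M g) → q = p := by
    intro q hq hd
    by_contra hne
    haveI : Fact q.Prime := ⟨hq⟩
    obtain ⟨x', hx'⟩ := exists_prime_orderOf_dvd_card' q hd
    have hx'o : orderOf (x' : G) = q := by rw [Subgroup.orderOf_coe, hx']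
    obtain ⟨N', d'⟩ := h.exists_NData x'.2 hx'o
    apply h.PP_not_comm x'.2 hx'o d'
    exact isMulCommutative_of_comm
      (Cfsg.Agent.Lib.Helper77_CyclicAut.commute_of_isCyclic (h.PP_cyclic hx hxo d hne))
  rw [IsPGroup.iff_card]
  exact ⟨_, Nat.eq_prime_pow_of_unique_prime_dvd Nat.card_pos.ne' key⟩

end Cfsg.Agent.Lib.Helper48_BG157b
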