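import Mathlib
import Cfsg.Prelude.Def_OddOrderLocal
import Cfsg.Agent.Lib.Helper48_BG157i

/-!
# B-G Theorem 15.7 (case `K ≠ 1`), part 9: `|X| = p`.
-/

set_option autoImplicit false
set_option linter.unusedSectionVars false
set_option linter.unusedVariables false
set_option linter.style.haveILetI false

namespace Cfsg.Agent.Lib.Helper48_BG157b

open Cfsg
open Cfsg.Agent.Lib.Helper49_Sigma
open Cfsg.Agent.Lib.Helper48_BG15a
open Cfsg.Agent.Lib.Helper48_BG15c
open Cfsg.Agent.Lib.Helper48_BG157a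
open scoped commutatorElement

universe u

variable {G : Type u} [Group G] [Finite G] {M K U : Subgroup G} {g : G}
variable {x : G} {p : ℕ} [hp : Fact p.Prime] {N : Subgroup G}

/-- in a central product `P₁ ∘ P₂` with `P₂` cyclic, `P₂` is central -/
theorem central_of_mem_right {P₁ P₂ : Subgroup G} (hcomm : ∀ a ∈ P₁, ∀ b ∈ P₂, a * b = b * a)
    (hP2 : IsCyclic ↥P₂) {c : G} (hc : c ∈ P₂) : ∀ w ∈ P₁ ⊔ P₂, c * w = w * c := by
  have hle : P₁ ⊔ P₂ ≤ Subgroup.centralizer ({c} : Set G) := by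
    apply sup_le
    · intro a ha
      rw [mem_centralizer_singleton]
      exact (hcomm a ha c hc).symm
    · intro b hb
      rw [mem_centralizer_singleton]
      exact Cfsg.Agent.Lib.Helper77_CyclicAut.commute_of_isCyclic hP2 c hc b hb
  intro w hw
  exact mem_centralizer_singleton.mp (hle hw)

/-- in a cyclic group of order `p ^ n`, `n ≥ 2`, there is an element of order `p ^ 2` -/
theorem exists_orderOf_sq {X : Subgroup G} (hcyc : IsCyclic ↥X) {n : ℕ}
    (hcard : Nat.card ↥X = p ^ n) (hn : 2 ≤ n) : ∃ y ∈ X, orderOf y = p ^ 2 := by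
  obtain ⟨y₀, hy₀⟩ := hcyc.exists_generator
  have ho : orderOf y₀ = p ^ n := by
    rw [orderOf_eq_card_of_forall_mem_zpowers hy₀, hcard]
  have hpos : 0 < p := hp.out.pos
  refine ⟨((y₀ ^ p ^ (n - 2) : ↥X) : G), (y₀ ^ p ^ (n - 2)).2, ?_⟩
  rw [Subgroup.orderOf_coe, orderOf_pow_of_dvd (pow_pos hpos _).ne' (by
    rw [ho]; exact pow_dvd_pow p (Nat.sub_le n 2)), ho]
  have : p ^ n = p ^ 2 * p ^ (n - 2) := by
    rw [← pow_add]; congr 1; omega
  rw [this, Nat.mul_div_cancel _ (pow_pos hpos _)]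

/-- **`|X| = p`** -/
theorem Hyp.card_XX (h : Hyp M K U g) (hx : x ∈ XX M g) (hxo : orderOf x = p)
    (d : NData M N x) (hC : NarrowStatement G) : Nat.card ↥(XX M g) = p := by
  obtain ⟨n, hn⟩ := IsPGroup.iff_card.mp (h.XX_isPGroup hx hxo d)
  have hpos : 0 < p := hp.out.pos
  have hp1 : 1 < p := hp.out.one_lt
  rcases Nat.lt_or_ge n 2 with hlt | hge
  · have hn1 : n ≠ 0 := by
      rintro rfl
      rw [pow_zero, Subgroup.card_eq_one] at hn
      rw [hn, Subgroup.mem_bot] at hx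
      exact x_ne_one hxo hx
    have : n = 1 := by omega
    rw [hn, this, pow_one]
  · exfalso
    obtain ⟨y, hyX, hyo⟩ := exists_orderOf_sq h.XX_cyclic hn hge
    have hx₁o : orderOf (y ^ p) = p := by
      rw [orderOf_pow_of_dvd hpos.ne' (by rw [hyo]; exact dvd_pow_self p two_ne_zero), hyo, pow_two,
        Nat.mul_div_cancel _ hpos]
    have hx₁ : y ^ p ∈ XX M g := Subgroup.pow_mem _ hyX p
    obtain ⟨N₁, d₁⟩ := h.exists_NData hx₁ hx₁o
    have hyP : y ∈ PP M p := mem_Q1_of_pow h.nil p (h.XX_le_sigmaCore hyX) 2 (by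
      rw [← hyo]; exact pow_orderOf_eq_one y)
    have hyC : y ∈ Subgroup.centralizer ({y ^ p} : Set G) := by
      rw [mem_centralizer_singleton]
      exact ((Commute.refl y).pow_left p).eq
    by_cases hr : PRankLE p 2 ↥(PP M p)
    · obtain ⟨P₁, P₂, h12, hcomm, hP1, hP1c, hP1e, hP2, hOm⟩ := h.rank2_decomp hx₁ hx₁o d₁ hr
      obtain ⟨w, hw, hne⟩ := h.x_not_central hx₁ hx₁o d₁
      apply hne
      rw [← h12] at hyP hw
      obtain ⟨a, ha, b, hb, hab⟩ := Cfsg.Agent.Lib.Helper24_CoprimeAction.exists_mul_of_mem_sup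
        P₂ P₁ (by
          apply Cfsg.Agent.Lib.Helper52_FrobFormula.le_normalizer_of_forall
          intro b hb a ha
          have : b * a * b⁻¹ = a := by rw [← hcomm a ha b hb]; group
          rw [this]; exact ha) hyP
      have hap : a ^ p = 1 := by
        have h1 := Monoid.pow_exponent_eq_one (⟨a, ha⟩ : ↥P₁)
        rw [hP1e] at h1
        simpa using congrArg Subtype.val h1
      have hyp : y ^ p = b ^ p := by
        rw [hab, (show Commute a b from hcomm a ha b hb).mul_pow, hap, one_mul]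
      rw [hyp]
      exact central_of_mem_right hcomm hP2 (Subgroup.pow_mem _ hb p) w hw
    · exact (h.narrow hx₁ hx₁o d₁ hC).2 hr y ⟨hyP, hyC⟩ rfl

end Cfsg.Agent.Lib.Helper48_BG157b
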