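import Mathlib
import Cfsg.Prelude.Def_OddOrderLocal
import Cfsg.Agent.Lib.Helper48_BG157j

/-!
# B-G Theorem 15.7 (case `K ≠ 1`), part 10: the statement in the shape of the frozen row `S1440`.
-/

set_option autoImplicit false
set_option linter.unusedSectionVars false
set_option linter.unusedVariables false
set_option linter.style.haveILetI false

namespace Cfsg.Agent.Lib.Helper48_BG157b

open Cfsg
open Cfsg.Agent.Lib.Helper49_Sigma
open Cfsg.Agent.Lib.Helper48_BG15a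
open Cfsg.Agent.Lib.Helper48_BG15c
open Cfsg.Agent.Lib.Helper48_BG157a
open scoped commutatorElement

universe u

variable {G : Type u} [Group G] [Finite G] {M K U : Subgroup G} {g : G}
variable {x : G} {p : ℕ} [hp : Fact p.Prime] {N : Subgroup G}

theorem Hyp.fittingHall_eq (h : Hyp M K U g) : fittingHall ↥M = piCore (sigma M) ↥M :=
  Subgroup.map_injective M.subtype_injective h.fittingHallOf_eq

/-- the exponent of `M / M_σ` divides `|K|` -/
theorem Hyp.exponent_dvd (h : Hyp M K U g) (hU : U = ⊥) :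
    Monoid.exponent (↥M ⧸ fittingHall ↥M) ∣ Nat.card ↥K := by
  apply Monoid.exponent_dvd_of_forall_pow_eq_one
  intro qm
  obtain ⟨m, rfl⟩ := QuotientGroup.mk_surjective qm
  obtain ⟨k, hk, s, hs, hm⟩ := h.exists_mul hU (m : G) m.2
  have hkM : k ∈ M := h.K_le hk
  have hsM : s ∈ M := sigmaCore_le M hs
  have hm' : m = (⟨k, hkM⟩ : ↥M) * ⟨s, hsM⟩ := Subtype.ext hm
  have hs' : (⟨s, hsM⟩ : ↥M) ∈ fittingHall ↥M := by
    rw [h.fittingHall_eq]
    obtain ⟨s', hs'1, hs'2⟩ := hs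
    have : s' = ⟨s, hsM⟩ := Subtype.ext hs'2
    rw [← this]; exact hs'1
  have h1 : (QuotientGroup.mk m : ↥M ⧸ fittingHall ↥M) = QuotientGroup.mk (⟨k, hkM⟩ : ↥M) := by
    rw [hm', QuotientGroup.mk_mul, (QuotientGroup.eq_one_iff _).mpr hs', mul_one]
  rw [h1, ← QuotientGroup.mk_pow]
  have h2 : (⟨k, hkM⟩ : ↥M) ^ Nat.card ↥K = 1 := by
    apply Subtype.ext
    rw [Subgroup.coe_pow]
    exact pow_card_of_mem hk
  rw [h2, QuotientGroup.mk_one]

theorem Hyp.relIndex_eq (h : Hyp M K U g) (hU : U = ⊥) :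
    (sigmaCore M).relIndex M = Nat.card ↥K := by
  have h1 := relIndex_mul_card_of_le (sigmaCore_le M)
  rw [← h.card_M hU] at h1
  exact Nat.eq_of_mul_eq_mul_right Nat.card_pos h1

theorem isMulCommutative_Q1_of (H : Subgroup G) (p : ℕ) (hc : IsMulCommutative ↥(pCore p ↥H)) :
    IsMulCommutative ↥(Q1 H p) := by
  apply isMulCommutative_of_comm
  rintro a ⟨a', ha', rfl⟩ b ⟨b', hb', rfl⟩
  have := comm_of_isMulCommutative hc a' ha' b' hb'
  exact congrArg (H.subtype) this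

theorem isCyclic_of_map {H : Subgroup G} (D : Subgroup ↥H) (hc : IsCyclic ↥(D.map H.subtype)) :
    IsCyclic ↥D := by
  haveI := hc
  exact isCyclic_of_surjective (D.equivMapOfInjective H.subtype H.subtype_injective).symm
    (D.equivMapOfInjective H.subtype H.subtype_injective).symm.surjective

/-- **B-G Theorem 15.7 for `K ≠ 1`**, in the shape of `S1440`, modulo the two delegated pieces. -/
theorem Hyp.main (h : Hyp M K U g) (hC : NarrowStatement G) (hB : DichStatement G) :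
    (Cfsg.fittingOf M ⊓ (Cfsg.fittingOf M).map (MulAut.conj g).toMonoidHom ≤ Cfsg.fittingHallOf M ∧ IsCyclic ↥(Cfsg.fittingOf M ⊓ (Cfsg.fittingOf M).map (MulAut.conj g).toMonoidHom)) ∧
      (⁅M, M⁆ = Cfsg.fittingOf M ∧ Cfsg.fittingOf M = Cfsg.sigmaCore M ⊔ Cfsg.piCoreOf {q | q.Prime ∧ q ∉ Cfsg.sigma M} (Cfsg.fittingOf M)) ∧
      ((K = ⊥ ∧ IsMulCommutative (Cfsg.fittingHallOf M) ∧ Cfsg.RankLE 2 (Cfsg.fittingHallOf M) ∧ ¬ Cfsg.RankLE 1 (Cfsg.fittingHallOf M)) ∨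
       (∃ p : ℕ, p.Prime ∧ Nat.card ↥(Cfsg.fittingOf M ⊓ (Cfsg.fittingOf M).map (MulAut.conj g).toMonoidHom) = p ∧ p ∈ Cfsg.sigma M ∧ p ∉ Cfsg.beta M ∧
          ¬ IsMulCommutative (Cfsg.pCore p ↥(Cfsg.fittingHallOf M)) ∧ IsCyclic (Cfsg.pPrimeCore p ↥(Cfsg.fittingHallOf M)) ∧
          ∀ q : ℕ, q.Prime → q ∣ Nat.card (Cfsg.fittingHallOf M) → Monoid.exponent (↥M ⧸ Cfsg.fittingHall ↥M) ∣ q - 1) ∨
       (∃ p : ℕ, p.Prime ∧ Nat.card ↥(Cfsg.fittingOf M ⊓ (Cfsg.fittingOf M).map (MulAut.conj g).toMonoidHom) = p ∧ p ∈ Cfsg.sigma M ∧ p ∉ Cfsg.beta M ∧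
          IsCyclic (Cfsg.pPrimeCore p ↥(Cfsg.fittingHallOf M)) ∧ Nat.card (Cfsg.pCore p ↥(Cfsg.fittingHallOf M)) = p ^ 3 ∧
          ¬ IsMulCommutative (Cfsg.pCore p ↥(Cfsg.fittingHallOf M)) ∧ K ≠ ⊥ ∧ U = ⊥ ∧ (Cfsg.fittingHallOf M).relIndex M ∣ p + 1)) := by
  -- choose `x ∈ X` of prime order
  have hc1 : Nat.card ↥(XX M g) ≠ 1 := fun h0 => h.hX (Subgroup.card_eq_one.mp h0)
  obtain ⟨p, hp', hpd⟩ := Nat.exists_prime_and_dvd hc1
  haveI : Fact p.Prime := ⟨hp'⟩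
  obtain ⟨x', hx'⟩ := exists_prime_orderOf_dvd_card' p hpd
  have hxo : orderOf (x' : G) = p := by rw [Subgroup.orderOf_coe, hx']
  have hx : (x' : G) ∈ XX M g := x'.2
  obtain ⟨N, d⟩ := h.exists_NData hx hxo
  have hU : U = ⊥ := h.U_eq_bot hx hxo d hC
  have hcX : Nat.card ↥(XX M g) = p := h.card_XX hx hxo d hC
  have hσ := h.p_mem_sigma hx hxo
  have hβ := h.p_not_beta hx hxo
  have hnc : ¬ IsMulCommutative ↥(pCore p ↥(sigmaCore M)) := fun hc =>
    h.PP_not_comm hx hxo d (isMulCommutative_Q1_of _ _ hc)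
  have hDc : IsCyclic ↥(pPrimeCore p ↥(sigmaCore M)) :=
    isCyclic_of_map _ (h.DD_cyclic hx hxo d)
  refine ⟨⟨?_, h.XX_cyclic⟩, ⟨?_, h.fittingOf_eq⟩, ?_⟩
  · rw [h.fittingHallOf_eq]; exact h.XX_le_sigmaCore
  · rw [h.comm_eq hU, h.fittingOf_eq_sigma hU]
  · rcases h.card_K_dvd hx hxo d hC hB hU with h1 | ⟨h1, h2⟩
    · refine Or.inr (Or.inl ⟨p, hp', hcX, hσ, hβ, ?_, ?_, ?_⟩)
      · rw [h.fittingHallOf_eq]; exact hnc
      · rw [h.fittingHallOf_eq]; exact hDc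
      · intro q hq hqd
        rw [h.fittingHallOf_eq] at hqd
        apply (h.exponent_dvd hU).trans
        by_cases hqp : q = p
        · rw [hqp]; exact h1
        · haveI : Fact q.Prime := ⟨hq⟩
          exact h.card_K_dvd_of_ne hx hxo d hqp hqd
    · refine Or.inr (Or.inr ⟨p, hp', hcX, hσ, hβ, ?_, ?_, ?_, h.hK1, hU, ?_⟩)
      · rw [h.fittingHallOf_eq]; exact hDc
      · rw [h.fittingHallOf_eq, ← card_Q1]; exact h2
      · rw [h.fittingHallOf_eq]; exact hnc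
      · rw [h.fittingHallOf_eq, h.relIndex_eq hU]; exact h1

end Cfsg.Agent.Lib.Helper48_BG157b
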