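import Mathlib
import Cfsg.Agent.Lib.Helper95_MaxClass
import Cfsg.Agent.Lib.Helper46_FreeOrb
import Cfsg.Agent.Lib.Helper88_SmallEssential
import Cfsg.Agent.Lib.Helper24_CoprimeAction
import Cfsg.Agent.Lib.Helper77_CyclicAut

/-!
# A dichotomy for a cyclic `p'`-group of odd order acting on `p^{1+2} ∘ C_{p^n}`

Piece B of B-G 15.7 (for helper48): `K` cyclic of odd order prime to `p`, normalizing the central
product `P = P₁ P₂` (`P₁` extraspecial of order `p ^ 3` and exponent `p`, `P₂` cyclic), all of whose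
non-identity elements have the same non-trivial cyclic centralizer `C` in `P`: then `|K|` divides
`p - 1` or `p + 1`.
-/

set_option autoImplicit false
set_option linter.unusedSectionVars false
set_option linter.unusedVariables false

namespace Cfsg.Agent.Lib.Helper74_BG157Dich

section abstractV

variable {V : Type*} [CommGroup V] [Finite V] {K : Type*} [Group K] [Finite K]
  {p : ℕ} [hp : Fact p.Prime]

theorem orderOf_eq_of_ne_one (hexp : ∀ v : V, v ^ p = 1) {v : V} (hv : v ≠ 1) : orderOf v = p :=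
  orderOf_eq_prime (hexp v) hv

/-- two independent elements generate a group of order `p ^ 2` -/
theorem sup_zpowers_eq_top (hV : Nat.card V = p ^ 2) {v w : V} (hv : orderOf v = p)
    (hw : w ∉ Subgroup.zpowers v) : Subgroup.zpowers v ⊔ Subgroup.zpowers w = ⊤ := by
  have hpp := hp.out
  set S := Subgroup.zpowers v ⊔ Subgroup.zpowers w with hS
  have h1 : Nat.card (Subgroup.zpowers v) = p := by rw [Nat.card_zpowers, hv]
  have hle : Subgroup.zpowers v ≤ S := le_sup_left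
  have hdS : Nat.card S ∣ p ^ 2 := hV ▸ Subgroup.card_subgroup_dvd_card S
  obtain ⟨i, hi, hiS⟩ := (Nat.dvd_prime_pow hpp).mp hdS
  have hpS : p ∣ Nat.card S := h1 ▸ Subgroup.card_dvd_of_le hle
  have hwS : w ∈ S := (le_sup_right : Subgroup.zpowers w ≤ S) (Subgroup.mem_zpowers w)
  have hi2 : i = 2 := by
    interval_cases i
    · rw [hiS, pow_zero] at hpS
      exact absurd (Nat.le_of_dvd one_pos hpS) (by have := hpp.two_le; omega)
    · exfalso
      rw [pow_one] at hiS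
      have : Subgroup.zpowers v = S := Subgroup.eq_of_le_of_card_ge hle (by rw [hiS, h1])
      exact hw (this ▸ hwS)
    · rfl
  rw [hi2] at hiS
  exact (Subgroup.card_eq_iff_eq_top S).mp (hiS.trans hV.symm)

/-- a subgroup containing two independent elements is everything -/
theorem forall_of_two (hV : Nat.card V = p ^ 2) {v w : V} (hv : orderOf v = p)
    (hw : w ∉ Subgroup.zpowers v) (T : Subgroup V) (hvT : v ∈ T) (hwT : w ∈ T) (u : V) : u ∈ T := by
  have h1 : Subgroup.zpowers v ⊔ Subgroup.zpowers w ≤ T :=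
    sup_le ((Subgroup.zpowers_le).mpr hvT) ((Subgroup.zpowers_le).mpr hwT)
  rw [sup_zpowers_eq_top hV hv hw] at h1
  exact h1 (Subgroup.mem_top u)

theorem not_isCyclic_of_exp (hV : Nat.card V = p ^ 2) (hexp : ∀ v : V, v ^ p = 1) :
    ¬ IsCyclic V := by
  intro hc
  obtain ⟨g, hg⟩ := hc.exists_generator
  have h1 : orderOf g = p ^ 2 := by
    rw [← hV]
    exact orderOf_eq_card_of_forall_mem_zpowers hg
  have h2 : orderOf g ∣ p := orderOf_dvd_of_pow_eq_one (hexp g)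
  rw [h1] at h2
  have hpp := hp.out
  have := Nat.le_of_dvd hpp.pos h2
  nlinarith [hpp.two_le]

/-- a subgroup of order `p` is generated by any of its non-identity elements -/
theorem eq_zpowers_of_card (hexp : ∀ v : V, v ^ p = 1) {H : Subgroup V} (hH : Nat.card H = p)
    {v : V} (hvH : v ∈ H) (hv : v ≠ 1) : H = Subgroup.zpowers v := by
  symm
  apply Subgroup.eq_of_le_of_card_ge ((Subgroup.zpowers_le).mpr hvH)
  rw [Nat.card_zpowers, orderOf_eq_of_ne_one hexp hv, hH]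

theorem exists_ne_one_of_card {H : Subgroup V} (hH : Nat.card H = p) : ∃ v ∈ H, v ≠ 1 := by
  have hne : H ≠ ⊥ := by
    intro h
    rw [h, Subgroup.card_bot] at hH
    exact hp.out.one_lt.ne hH
  obtain ⟨v, hv⟩ := (Subgroup.ne_bot_iff_exists_ne_one).mp hne
  exact ⟨v.1, v.2, fun h => hv (Subtype.ext h)⟩

/-- the subgroups of order `p` -/
abbrev Line (V : Type*) [Group V] (p : ℕ) := {H : Subgroup V // Nat.card H = p}

theorem card_map_aut (φ : MulAut V) (H : Subgroup V) :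
    Nat.card (H.map φ.toMonoidHom) = Nat.card H :=
  (Nat.card_congr (Subgroup.equivMapOfInjective H φ.toMonoidHom φ.injective).toEquiv).symm

/-- the action on lines -/
@[reducible] def lineAction (ρ : K →* MulAut V) (p : ℕ) : MulAction K (Line V p) where
  smul k H := ⟨H.1.map (ρ k).toMonoidHom, by rw [card_map_aut, H.2]⟩
  one_smul H := by
    apply Subtype.ext
    show H.1.map (ρ 1).toMonoidHom = H.1
    rw [map_one]
    exact Subgroup.map_id H.1
  mul_smul k k' H := by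
    apply Subtype.ext
    show H.1.map (ρ (k * k')).toMonoidHom = (H.1.map (ρ k').toMonoidHom).map (ρ k).toMonoidHom
    rw [Subgroup.map_map, map_mul]
    rfl

theorem lineAction_coe (ρ : K →* MulAut V) (k : K) (H : Line V p) :
    (((lineAction ρ p).toSMul.smul k H : Line V p) : Subgroup V) = H.1.map (ρ k).toMonoidHom := rfl

theorem pow_eq_self_of_dvd (hexp : ∀ v : V, v ^ p = 1) {l : ℕ} (h : (p : ℤ) ∣ (l : ℤ) - 1) (u : V) :
    u ^ l = u := by
  obtain ⟨t, ht⟩ := h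
  have h1 : (l : ℤ) = 1 + p * t := by linarith
  have h2 : u ^ (l : ℤ) = u := by
    rw [h1, zpow_add, zpow_one, zpow_mul, zpow_natCast, hexp, one_zpow, mul_one]
  rwa [zpow_natCast] at h2

theorem pow_eq_inv_of_dvd (hexp : ∀ v : V, v ^ p = 1) {l : ℕ} (h : (p : ℤ) ∣ (l : ℤ) + 1) (u : V) :
    u ^ l = u⁻¹ := by
  obtain ⟨t, ht⟩ := h
  have h1 : (l : ℤ) = -1 + p * t := by linarith
  have h2 : u ^ (l : ℤ) = u⁻¹ := by
    rw [h1, zpow_add, zpow_neg_one, zpow_mul, zpow_natCast, hexp, one_zpow, mul_one]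
  rwa [zpow_natCast] at h2

/-- **No invariant line**: if no line is `K`-invariant and scalars have square one, then `K` acts
freely on the `p + 1` lines. -/
theorem card_dvd_succ (hp2 : p ≠ 2) (hV : Nat.card V = p ^ 2) (hexp : ∀ v : V, v ^ p = 1)
    (ρ : K →* MulAut V) (hρ : Function.Injective ρ) (hcomm : ∀ a b : K, a * b = b * a)
    (hodd : Odd (Nat.card K))
    (hno : ∀ H : Subgroup V, Nat.card H = p → ∃ k : K, H.map (ρ k).toMonoidHom ≠ H)
    (hdet : ∀ (k : K) (l : ℕ), (∀ v : V, ρ k v = v ^ l) → (p : ℤ) ∣ (l : ℤ) ^ 2 - 1) :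
    Nat.card K ∣ p + 1 := by
  have hpp := hp.out
  letI := lineAction ρ p
  have hfree : ∀ (k : K) (H : Line V p), k • H = H → k = 1 := by
    intro k H hkH
    have hkH' : H.1.map (ρ k).toMonoidHom = H.1 := congrArg Subtype.val hkH
    obtain ⟨v, hvH, hv1⟩ := exists_ne_one_of_card H.2
    have hov : orderOf v = p := orderOf_eq_of_ne_one hexp hv1
    have hHz : H.1 = Subgroup.zpowers v := eq_zpowers_of_card hexp H.2 hvH hv1
    -- the eigenvalue
    have h1 : ρ k v ∈ H.1 := by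
      rw [← hkH']
      exact Subgroup.mem_map_of_mem _ hvH
    rw [hHz] at h1
    have h1' : ρ k v ∈ Submonoid.powers v := (mem_powers_iff_mem_zpowers).mpr h1
    obtain ⟨l, hl⟩ := (Submonoid.mem_powers_iff _ _).mp h1'
    -- a second line
    obtain ⟨k1, hk1⟩ := hno H.1 H.2
    set w := ρ k1 v with hw
    have hw1 : w ≠ 1 := by
      intro h
      apply hv1
      have : ρ k1 v = ρ k1 1 := by rw [← hw, h, map_one]
      exact (ρ k1).injective this
    have hwz : w ∉ Subgroup.zpowers v := by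
      intro h
      apply hk1
      have h2 : H.1.map (ρ k1).toMonoidHom = Subgroup.zpowers w := by
        rw [hHz, MonoidHom.map_zpowers]
        rfl
      rw [h2, hHz]
      apply Subgroup.eq_of_le_of_card_ge ((Subgroup.zpowers_le).mpr h)
      rw [Nat.card_zpowers, Nat.card_zpowers, hov, orderOf_eq_of_ne_one hexp hw1]
    have hkw : ρ k w = w ^ l := by
      have h3 : ρ k (ρ k1 v) = ρ k1 (ρ k v) := by
        have e1 : ρ k (ρ k1 v) = (ρ (k * k1)) v := by rw [map_mul]; rfl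
        have e2 : ρ k1 (ρ k v) = (ρ (k1 * k)) v := by rw [map_mul]; rfl
        rw [e1, e2, hcomm k k1]
      rw [hw, h3, ← hl, map_pow]
    -- scalar
    let T : Subgroup V :=
      { carrier := {u | ρ k u = u ^ l}
        one_mem' := by simp
        mul_mem' := by
          intro a b ha hb
          simp only [Set.mem_setOf_eq] at ha hb ⊢
          rw [map_mul, ha, hb, mul_pow]
        inv_mem' := by
          intro a ha
          simp only [Set.mem_setOf_eq] at ha ⊢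
          rw [map_inv, ha, inv_pow] }
    have hsc : ∀ u : V, ρ k u = u ^ l := fun u =>
      forall_of_two hV hov hwz T hl.symm hkw u
    have hd := hdet k l hsc
    have hfac : ((l : ℤ) ^ 2 - 1) = ((l : ℤ) - 1) * ((l : ℤ) + 1) := by ring
    rw [hfac] at hd
    have hpi : Prime (p : ℤ) := Nat.prime_iff_prime_int.mp hpp
    rcases hpi.dvd_or_dvd hd with h | h
    · apply hρ
      ext u
      rw [hsc u, pow_eq_self_of_dvd hexp h u, map_one]
      rfl
    · exfalso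
      have hinv : ∀ u : V, ρ k u = u⁻¹ := fun u => by rw [hsc u, pow_eq_inv_of_dvd hexp h u]
      have hiter : ∀ n : ℕ, ∀ u : V, ρ (k ^ n) u = u ^ ((-1 : ℤ) ^ n) := by
        intro n
        induction n with
        | zero => intro u; simp
        | succ n ih =>
          intro u
          rw [pow_succ, map_mul]
          show ρ (k ^ n) (ρ k u) = _
          rw [hinv u, ih, pow_succ, zpow_mul, inv_zpow', zpow_neg, zpow_neg_one]
      have hok : Odd (orderOf k) := by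
        have := orderOf_dvd_natCard k
        exact Odd.of_dvd_nat hodd this
      have h4 := hiter (orderOf k) v
      rw [pow_orderOf_eq_one, map_one, hok.neg_one_pow, zpow_neg_one] at h4
      have h5 : v ^ 2 = 1 := by
        have : v = v⁻¹ := h4
        rw [pow_two]
        nth_rewrite 1 [this]
        exact inv_mul_cancel v
      have h6 : orderOf v ∣ 2 := orderOf_dvd_of_pow_eq_one h5
      rw [hov] at h6
      exact hp2 ((Nat.prime_dvd_prime_iff_eq hpp Nat.prime_two).mp h6)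
  have h := Cfsg.Agent.Lib.Helper46_FreeOrb.card_dvd_of_free hfree
  rwa [Cfsg.Agent.Lib.Helper95_MaxClass.card_subgroups_card_eq_prime hV
    (not_isCyclic_of_exp hV hexp)] at h

/-- **An invariant line**: then `|K|` divides `p - 1`. -/
theorem card_dvd_pred (hV : Nat.card V = p ^ 2) (hexp : ∀ v : V, v ^ p = 1)
    (ρ : K →* MulAut V) (hρ : Function.Injective ρ) (hcyc : IsCyclic K)
    (hcop : (Nat.card K).Coprime p)
    (H : Subgroup V) (hH : Nat.card H = p) (hinv : ∀ k : K, H.map (ρ k).toMonoidHom = H) :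
    Nat.card K ∣ p - 1 := by
  have hpp := hp.out
  obtain ⟨g, hg⟩ := hcyc.exists_generator
  have hog : orderOf g = Nat.card K := orderOf_eq_card_of_forall_mem_zpowers hg
  obtain ⟨v, hvH, hv1⟩ := exists_ne_one_of_card hH
  have hov : orderOf v = p := orderOf_eq_of_ne_one hexp hv1
  have hHz : H = Subgroup.zpowers v := eq_zpowers_of_card hexp hH hvH hv1
  -- invariance, elementwise
  have hmem : ∀ (k : K) (h : V), h ∈ H → ρ k h ∈ H := by
    intro k h hh
    rw [← hinv k]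
    exact Subgroup.mem_map_of_mem _ hh
  have hmem' : ∀ (k : K) (u : V), ρ k u ∈ H → u ∈ H := by
    intro k u hu
    rw [← hinv k] at hu
    obtain ⟨h, hh, hhu⟩ := Subgroup.mem_map.mp hu
    have : h = u := (ρ k).injective hhu
    exact this ▸ hh
  -- the eigenvalue on `H`
  have h1 : ρ g v ∈ Subgroup.zpowers v := hHz ▸ hmem g v hvH
  obtain ⟨j, hj⟩ := (Submonoid.mem_powers_iff _ _).mp ((mem_powers_iff_mem_zpowers).mpr h1)
  have hpj : ¬ p ∣ j := by
    intro hd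
    obtain ⟨t, rfl⟩ := hd
    rw [pow_mul, hexp, one_pow] at hj
    apply hv1
    have : ρ g v = ρ g 1 := by rw [← hj, map_one]
    exact (ρ g).injective this
  have hiter : ∀ n : ℕ, ρ (g ^ n) v = v ^ (j ^ n) := by
    intro n
    induction n with
    | zero => simp
    | succ n ih =>
      rw [pow_succ, map_mul]
      show ρ (g ^ n) (ρ g v) = _
      rw [← hj, map_pow, ih, ← pow_mul, ← pow_succ]
  have hfermat : ∀ a : ℕ, ¬ p ∣ a → ∀ u : V, u ^ (a ^ (p - 1)) = u := by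
    intro a ha u
    have h2 : (a : ZMod p) ≠ 0 := by
      rw [Ne, ZMod.natCast_eq_zero_iff]
      exact ha
    have h3 : ((a ^ (p - 1) : ℕ) : ZMod p) = 1 := by
      push_cast
      exact ZMod.pow_card_sub_one_eq_one h2
    have h4 : a ^ (p - 1) ≡ 1 [MOD p] := by
      rw [← ZMod.natCast_eq_natCast_iff]
      rw [h3]; simp
    have h5 : (p : ℤ) ∣ ((a ^ (p - 1) : ℕ) : ℤ) - 1 := by
      have := (Nat.modEq_iff_dvd.mp h4.symm)
      simpa using this
    exact pow_eq_self_of_dvd hexp h5 u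
  set b := g ^ (p - 1) with hb
  have hbv : ρ b v = v := by rw [hb, hiter, hfermat j hpj]
  have hbH : ∀ h ∈ H, ρ b h = h := by
    intro h hh
    rw [hHz] at hh
    obtain ⟨i, rfl⟩ := Subgroup.mem_zpowers_iff.mp hh
    rw [map_zpow, hbv]
  -- a second generator
  have hHtop : H ≠ ⊤ := by
    intro h
    have : Nat.card H = Nat.card V := by rw [h]; exact Subgroup.card_top
    rw [hH, hV] at this
    have h2 := hpp.two_le
    nlinarith
  obtain ⟨w, hw⟩ : ∃ w : V, w ∉ H := by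
    by_contra hcon
    push Not at hcon
    exact hHtop (eq_top_iff.mpr fun x _ => hcon x)
  have hwz : w ∉ Subgroup.zpowers v := hHz ▸ hw
  have htop := sup_zpowers_eq_top hV hov hwz
  -- `ρ g w ∈ H w^a`
  have h6 : ρ g w ∈ Subgroup.zpowers v ⊔ Subgroup.zpowers w := by rw [htop]; exact Subgroup.mem_top _
  obtain ⟨h0, hh0, y, hy, hyw⟩ := Subgroup.mem_sup.mp h6
  obtain ⟨a, ha⟩ := (Submonoid.mem_powers_iff _ _).mp ((mem_powers_iff_mem_zpowers).mpr hy)
  rw [← hHz] at hh0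
  have hpa : ¬ p ∣ a := by
    intro hd
    obtain ⟨t, rfl⟩ := hd
    rw [pow_mul, hexp, one_pow] at ha
    apply hw
    apply hmem' g w
    rw [← hyw, ← ha, mul_one]
    exact hh0
  have hiterw : ∀ n : ℕ, ∃ h ∈ H, ρ (g ^ n) w = h * w ^ (a ^ n) := by
    intro n
    induction n with
    | zero => exact ⟨1, H.one_mem, by simp⟩
    | succ n ih =>
      obtain ⟨h, hh, hn⟩ := ih
      refine ⟨ρ g h * h0 ^ (a ^ n), H.mul_mem (hmem g h hh) (H.pow_mem hh0 _), ?_⟩
      rw [pow_succ', map_mul]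
      show ρ g (ρ (g ^ n) w) = _
      rw [hn, map_mul, map_pow, ← hyw, ← ha, mul_pow, ← pow_mul, pow_succ']
      rw [mul_assoc]
  obtain ⟨h1', hh1', hbw⟩ := hiterw (p - 1)
  rw [← hb, hfermat a hpa] at hbw
  -- every element moves inside its coset
  let T : Subgroup V :=
    { carrier := {u | ρ b u * u⁻¹ ∈ H}
      one_mem' := by simp [H.one_mem]
      mul_mem' := by
        intro x y hx hy
        simp only [Set.mem_setOf_eq] at hx hy ⊢
        have : ρ b (x * y) * (x * y)⁻¹ = (ρ b x * x⁻¹) * (ρ b y * y⁻¹) := by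
          rw [map_mul, mul_inv]
          exact mul_mul_mul_comm _ _ _ _
        rw [this]
        exact H.mul_mem hx hy
      inv_mem' := by
        intro x hx
        simp only [Set.mem_setOf_eq] at hx ⊢
        have : ρ b x⁻¹ * x⁻¹⁻¹ = (ρ b x * x⁻¹)⁻¹ := by
          rw [map_inv, mul_inv]
        rw [this]
        exact H.inv_mem hx }
  have hvT : v ∈ T := by
    show ρ b v * v⁻¹ ∈ H
    rw [hbv, mul_inv_cancel]
    exact H.one_mem
  have hwT : w ∈ T := by
    show ρ b w * w⁻¹ ∈ H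
    rw [hbw, mul_inv_cancel_right]
    exact hh1'
  have hall : ∀ u : V, ρ b u * u⁻¹ ∈ H := fun u => forall_of_two hV hov hwz T hvT hwT u
  have hpow : ∀ (n : ℕ) (u : V), ρ (b ^ n) u = u * (ρ b u * u⁻¹) ^ n := by
    intro n
    induction n with
    | zero => intro u; simp
    | succ n ih =>
      intro u
      rw [pow_succ', map_mul]
      show ρ b (ρ (b ^ n) u) = _
      have e1 : ρ b ((ρ b u * u⁻¹) ^ n) = (ρ b u * u⁻¹) ^ n := hbH _ (H.pow_mem (hall u) n)
      rw [ih u, map_mul, e1, pow_succ]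
      have : ρ b u = u * (ρ b u * u⁻¹) := by rw [mul_comm (ρ b u), mul_inv_cancel_left]
      nth_rewrite 1 [this]
      rw [mul_assoc, mul_comm (ρ b u * u⁻¹)]
  have hone : b ^ p = 1 := by
    apply hρ
    ext u
    rw [hpow p u, hexp, mul_one, map_one]
    rfl
  have h7 : orderOf g ∣ (p - 1) * p := by
    apply orderOf_dvd_of_pow_eq_one
    rw [pow_mul, ← hb, hone]
  rw [hog] at h7
  exact hcop.dvd_of_dvd_mul_right h7

end abstractV

open scoped commutatorElement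

section concrete

variable {G : Type*} [Group G] [Finite G] {p : ℕ} [hp : Fact p.Prime]

theorem comm_mul_left {a b y : G} (hb : b * y = y * b) : ⁅a * b, y⁆ = ⁅a, y⁆ := by
  rw [commutatorElement_def, commutatorElement_def]
  have : a * b * y * (a * b)⁻¹ * y⁻¹ = a * (b * y) * b⁻¹ * a⁻¹ * y⁻¹ := by group
  rw [this, hb]; group

theorem comm_mul_right {a a' b' : G} (hb : b' * a = a * b') : ⁅a, a' * b'⁆ = ⁅a, a'⁆ := by
  rw [commutatorElement_def, commutatorElement_def]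
  have h' : b' * a⁻¹ = a⁻¹ * b' := by
    calc b' * a⁻¹ = a⁻¹ * (a * b') * a⁻¹ := by group
      _ = a⁻¹ * (b' * a) * a⁻¹ := by rw [hb]
      _ = a⁻¹ * b' := by group
  have : a * (a' * b') * a⁻¹ * (a' * b')⁻¹ = a * a' * (b' * a⁻¹) * b'⁻¹ * a'⁻¹ := by group
  rw [this, h']; group

section cpow

variable {E : Type*} [Group E]

theorem cmul_left (h : ∀ x y : E, ⁅x, y⁆ ∈ Subgroup.center E) (a b c : E) :
    ⁅a * b, c⁆ = ⁅a, c⁆ * ⁅b, c⁆ := by
  have h1 : ⁅a * b, c⁆ = a * ⁅b, c⁆ * a⁻¹ * ⁅a, c⁆ := by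
    simp only [commutatorElement_def]; group
  rw [h1, (Subgroup.mem_center_iff.mp (h b c) a), mul_inv_cancel_right]
  exact (Subgroup.mem_center_iff.mp (h b c) _).symm

theorem cmul_right (h : ∀ x y : E, ⁅x, y⁆ ∈ Subgroup.center E) (a b c : E) :
    ⁅a, b * c⁆ = ⁅a, b⁆ * ⁅a, c⁆ := by
  have h1 : ⁅a, b * c⁆ = ⁅a, b⁆ * (b * ⁅a, c⁆ * b⁻¹) := by
    simp only [commutatorElement_def]; group
  rw [h1, (Subgroup.mem_center_iff.mp (h a c) b), mul_inv_cancel_right]

theorem cpow_left (h : ∀ x y : E, ⁅x, y⁆ ∈ Subgroup.center E) (a c : E) (n : ℕ) :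
    ⁅a ^ n, c⁆ = ⁅a, c⁆ ^ n := by
  induction n with
  | zero => simp
  | succ n ih => rw [pow_succ, cmul_left h, ih, pow_succ]

theorem cpow_right (h : ∀ x y : E, ⁅x, y⁆ ∈ Subgroup.center E) (a c : E) (n : ℕ) :
    ⁅a, c ^ n⁆ = ⁅a, c⁆ ^ n := by
  induction n with
  | zero => simp
  | succ n ih => rw [pow_succ, cmul_right h, ih, pow_succ]

theorem cpow_both (h : ∀ x y : E, ⁅x, y⁆ ∈ Subgroup.center E) (a b : E) (l : ℕ) :
    ⁅a ^ l, b ^ l⁆ = ⁅a, b⁆ ^ (l * l) := by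
  rw [cpow_left h, cpow_right h, ← pow_mul]

end cpow

/-- the hypotheses of the dichotomy -/
structure Cfg (p : ℕ) (P P₁ P₂ K C : Subgroup G) : Prop where
  hP : IsPGroup p P
  h12 : P₁ ⊔ P₂ = P
  hcomm : ∀ a ∈ P₁, ∀ b ∈ P₂, a * b = b * a
  hP1 : ¬ IsMulCommutative P₁
  hP1c : Nat.card P₁ = p ^ 3
  hP1e : Monoid.exponent P₁ = p
  hP2 : IsCyclic P₂
  hOm : Subgroup.closure {x : G | x ∈ P₂ ∧ x ^ p = 1} = P₁ ⊓ Subgroup.centralizer (P₁ : Set G)
  hKN : K ≤ Subgroup.normalizer (P : Set G)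
  hKc : IsCyclic K
  hKodd : Odd (Nat.card K)
  hKp : (Nat.card K).Coprime p
  hC : C ≠ ⊥
  hCc : IsCyclic C
  hprime : ∀ k ∈ K, k ≠ 1 → P ⊓ Subgroup.centralizer ({k} : Set G) = C

namespace Cfg

variable {P P₁ P₂ K C : Subgroup G}

theorem P1_le (h : Cfg p P P₁ P₂ K C) : P₁ ≤ P := h.h12 ▸ le_sup_left

theorem P2_le (h : Cfg p P P₁ P₂ K C) : P₂ ≤ P := h.h12 ▸ le_sup_right

theorem P2_self_comm (h : Cfg p P P₁ P₂ K C) : ∀ b ∈ P₂, ∀ b' ∈ P₂, b * b' = b' * b := by
  intro b hb b' hb'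
  have := h.hP2
  have hc := (IsCyclic.commGroup (α := ↥P₂)).mul_comm ⟨b, hb⟩ ⟨b', hb'⟩
  exact congrArg Subtype.val hc

theorem exists_mul (h : Cfg p P P₁ P₂ K C) : ∀ x ∈ P, ∃ a ∈ P₁, ∃ b ∈ P₂, x = a * b := by
  let S : Subgroup G :=
    { carrier := {x | ∃ a ∈ P₁, ∃ b ∈ P₂, x = a * b}
      one_mem' := ⟨1, P₁.one_mem, 1, P₂.one_mem, by simp⟩
      mul_mem' := by
        rintro _ _ ⟨a, ha, b, hb, rfl⟩ ⟨a', ha', b', hb', rfl⟩
        refine ⟨a * a', P₁.mul_mem ha ha', b * b', P₂.mul_mem hb hb', ?_⟩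
        calc a * b * (a' * b') = a * (b * a') * b' := by group
          _ = a * (a' * b) * b' := by rw [h.hcomm a' ha' b hb]
          _ = a * a' * (b * b') := by group
      inv_mem' := by
        rintro _ ⟨a, ha, b, hb, rfl⟩
        refine ⟨a⁻¹, P₁.inv_mem ha, b⁻¹, P₂.inv_mem hb, ?_⟩
        rw [mul_inv_rev, h.hcomm a⁻¹ (P₁.inv_mem ha) b⁻¹ (P₂.inv_mem hb)] }
  have h1 : P₁ ≤ S := fun a ha => ⟨a, ha, 1, P₂.one_mem, by simp⟩
  have h2 : P₂ ≤ S := fun b hb => ⟨1, P₁.one_mem, b, hb, by simp⟩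
  intro x hx
  rw [← h.h12] at hx
  exact (sup_le h1 h2) hx

theorem P2_central (h : Cfg p P P₁ P₂ K C) : ∀ b ∈ P₂, ∀ x ∈ P, b * x = x * b := by
  intro b hb x hx
  obtain ⟨a, ha, b', hb', rfl⟩ := h.exists_mul x hx
  rw [← mul_assoc, ← h.hcomm a ha b hb, mul_assoc, h.P2_self_comm b hb b' hb', ← mul_assoc]

theorem Z1_le (h : Cfg p P P₁ P₂ K C) : P₁ ⊓ Subgroup.centralizer (P₁ : Set G) ≤ P₂ := by
  rw [← h.hOm, Subgroup.closure_le]
  intro x hx
  exact hx.1

theorem hna (h : Cfg p P P₁ P₂ K C) : ¬ ∀ x y : ↥P₁, x * y = y * x := fun hc =>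
  h.hP1 ⟨⟨hc⟩⟩

theorem pow_p (h : Cfg p P P₁ P₂ K C) (a : ↥P₁) : a ^ p = 1 := by
  rw [← h.hP1e]
  exact Monoid.pow_exponent_eq_one a

theorem mem_center_P1_iff (h : Cfg p P P₁ P₂ K C) (a : ↥P₁) :
    a ∈ Subgroup.center ↥P₁ ↔ (a : G) ∈ P₂ := by
  constructor
  · intro ha
    apply h.Z1_le
    refine ⟨a.2, ?_⟩
    show (a : G) ∈ Subgroup.centralizer (P₁ : Set G)
    rw [Subgroup.mem_centralizer_iff]
    intro y hy
    have := Subgroup.mem_center_iff.mp ha ⟨y, hy⟩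
    exact congrArg Subtype.val this
  · intro ha
    rw [Subgroup.mem_center_iff]
    intro y
    apply Subtype.ext
    exact h.hcomm y y.2 a ha

theorem mem_center_P_iff (h : Cfg p P P₁ P₂ K C) (x : ↥P) :
    x ∈ Subgroup.center ↥P ↔ (x : G) ∈ P₂ := by
  constructor
  · intro hx
    obtain ⟨a, ha, b, hb, hab⟩ := h.exists_mul x x.2
    have hacen : (⟨a, ha⟩ : ↥P₁) ∈ Subgroup.center ↥P₁ := by
      rw [Subgroup.mem_center_iff]
      intro y
      apply Subtype.ext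
      show (y : G) * a = a * y
      have h1 := congrArg Subtype.val (Subgroup.mem_center_iff.mp hx ⟨y, h.P1_le y.2⟩)
      have h2 : (y : G) * (x : G) = (x : G) * y := h1
      rw [hab] at h2
      -- y * (a * b) = a * b * y, b central
      have h3 := h.P2_central b hb y (h.P1_le y.2)
      have h4 : (y : G) * a * b = a * y * b := by
        calc (y : G) * a * b = y * (a * b) := by group
          _ = a * b * y := h2
          _ = a * (b * y) := by group
          _ = a * (y * b) := by rw [h3]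
          _ = a * y * b := by group
      exact mul_right_cancel h4
    have ha2 : a ∈ P₂ := (h.mem_center_P1_iff ⟨a, ha⟩).mp hacen
    rw [hab]
    exact P₂.mul_mem ha2 hb
  · intro hx
    rw [Subgroup.mem_center_iff]
    intro y
    apply Subtype.ext
    exact (h.P2_central x hx y y.2).symm

end Cfg

/-- the central quotient -/
abbrev Quo (P : Subgroup G) := ↥P ⧸ Subgroup.center ↥P

/-- conjugation -/
noncomputable def cj (P : Subgroup G) (g : G) (hg : g ∈ Subgroup.normalizer (P : Set G)) : ↥P ≃* ↥P :=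
  P.normalizerMonoidHom ⟨g, hg⟩

theorem cj_coe (P : Subgroup G) (g : G) (hg : g ∈ Subgroup.normalizer (P : Set G)) (x : ↥P) :
    ((cj P g hg x : ↥P) : G) = g * x * g⁻¹ := rfl

/-- conjugation action on the central quotient -/
noncomputable def rho (P K : Subgroup G) (hKN : K ≤ Subgroup.normalizer (P : Set G)) :
    ↥K →* MulAut (Quo P) where
  toFun k := QuotientGroup.congr (Subgroup.center ↥P) (Subgroup.center ↥P)
      (cj P k.1 (hKN k.2))
      (Subgroup.characteristic_iff_map_eq.mp inferInstance _)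
  map_one' := by
    ext v
    induction v using QuotientGroup.induction_on with
    | H x =>
      show (QuotientGroup.mk (cj P _ _ x) : Quo P) = QuotientGroup.mk x
      congr 1
      apply Subtype.ext
      rw [cj_coe]
      simp
  map_mul' := by
    intro k k'
    ext v
    induction v using QuotientGroup.induction_on with
    | H x =>
      show (QuotientGroup.mk (cj P _ _ x) : Quo P) = QuotientGroup.mk (cj P _ _ (cj P _ _ x))
      congr 1
      apply Subtype.ext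
      rw [cj_coe, cj_coe, cj_coe]
      simp [mul_assoc]

theorem rho_mk (P K : Subgroup G) (hKN : K ≤ Subgroup.normalizer (P : Set G)) (k : ↥K) (x : ↥P) :
    rho P K hKN k (QuotientGroup.mk x) = QuotientGroup.mk (cj P k.1 (hKN k.2) x) := rfl

namespace Cfg

variable {P P₁ P₂ K C : Subgroup G}

theorem mk_eq_one_iff (h : Cfg p P P₁ P₂ K C) (x : ↥P) :
    (QuotientGroup.mk x : Quo P) = 1 ↔ (x : G) ∈ P₂ := by
  rw [QuotientGroup.eq_one_iff, h.mem_center_P_iff]

/-- the map from `P₁` onto the central quotient -/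
def fhom (h : Cfg p P P₁ P₂ K C) : ↥P₁ →* Quo P :=
  (QuotientGroup.mk' _).comp (Subgroup.inclusion h.P1_le)

theorem fhom_apply (h : Cfg p P P₁ P₂ K C) (a : ↥P₁) :
    h.fhom a = QuotientGroup.mk (Subgroup.inclusion h.P1_le a) := rfl

theorem fhom_surj (h : Cfg p P P₁ P₂ K C) : Function.Surjective h.fhom := by
  intro v
  induction v using QuotientGroup.induction_on with
  | H x =>
    obtain ⟨a, ha, b, hb, hab⟩ := h.exists_mul x x.2
    refine ⟨⟨a, ha⟩, ?_⟩
    rw [fhom_apply]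
    rw [QuotientGroup.eq]
    rw [h.mem_center_P_iff]
    show (a : G)⁻¹ * (x : G) ∈ P₂
    rw [hab, inv_mul_cancel_left]
    exact hb

theorem fhom_ker (h : Cfg p P P₁ P₂ K C) : h.fhom.ker = Subgroup.center ↥P₁ := by
  ext a
  rw [MonoidHom.mem_ker, fhom_apply, h.mk_eq_one_iff, h.mem_center_P1_iff]
  rfl

theorem card_Quo (h : Cfg p P P₁ P₂ K C) : Nat.card (Quo P) = p ^ 2 := by
  have hpp := hp.out
  obtain ⟨hZ, -, -⟩ := Cfsg.Agent.Lib.Helper88_SmallEssential.nonabelian_cube h.hP1c h.hna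
  have h1 : h.fhom.ker.index = Nat.card h.fhom.range := Subgroup.index_ker h.fhom
  have h2 : h.fhom.range = ⊤ := MonoidHom.range_eq_top.mpr h.fhom_surj
  rw [h2, Subgroup.card_top, h.fhom_ker] at h1
  have h3 := (Subgroup.center ↥P₁).card_mul_index
  rw [hZ, h1, h.hP1c] at h3
  have : p * Nat.card (Quo P) = p * p ^ 2 := by rw [h3]; ring
  exact Nat.eq_of_mul_eq_mul_left hpp.pos this

theorem exp_Quo (h : Cfg p P P₁ P₂ K C) (v : Quo P) : v ^ p = 1 := by
  obtain ⟨a, rfl⟩ := h.fhom_surj v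
  rw [← map_pow, h.pow_p, map_one]

end Cfg


namespace Cfg

variable {P P₁ P₂ K C : Subgroup G}

/-- the central quotient is commutative -/
@[reducible] noncomputable def commQuo (h : Cfg p P P₁ P₂ K C) : CommGroup (Quo P) :=
  { (inferInstance : Group (Quo P)) with
    mul_comm := (IsPGroup.isMulCommutative_of_card_eq_prime_sq h.card_Quo).is_comm.comm }

theorem rho_mk_eq_iff (h : Cfg p P P₁ P₂ K C) (k : ↥K) (x : ↥P) :
    rho P K h.hKN k (QuotientGroup.mk x) = QuotientGroup.mk x ↔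
      (x : G)⁻¹ * ((k : G) * x * (k : G)⁻¹) ∈ P₂ := by
  rw [rho_mk, eq_comm, QuotientGroup.eq, h.mem_center_P_iff]
  rfl

theorem C_le (h : Cfg p P P₁ P₂ K C) {k : G} (hk : k ∈ K) (hk1 : k ≠ 1) : C ≤ P := by
  rw [← h.hprime k hk hk1]
  exact inf_le_left

theorem C_self_comm (h : Cfg p P P₁ P₂ K C) : ∀ c ∈ C, ∀ c' ∈ C, c * c' = c' * c := by
  intro c hc c' hc'
  have := h.hCc
  exact congrArg Subtype.val ((IsCyclic.commGroup (α := ↥C)).mul_comm ⟨c, hc⟩ ⟨c', hc'⟩)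

theorem rho_inj (h : Cfg p P P₁ P₂ K C) : Function.Injective (rho P K h.hKN) := by
  rw [injective_iff_map_eq_one]
  intro k hk
  by_contra hk1
  have hk1' : (k : G) ≠ 1 := fun h' => hk1 (Subtype.ext h')
  have hcomm_le : ⁅P, Subgroup.zpowers (k : G)⁆ ≤ P₂ := by
    rw [Subgroup.commutator_le]
    intro x hx j hj
    obtain ⟨i, rfl⟩ := Subgroup.mem_zpowers_iff.mp hj
    have hj' : rho P K h.hKN (k ^ i) = 1 := by rw [map_zpow, hk, one_zpow]
    have h1 : rho P K h.hKN (k ^ i) (QuotientGroup.mk ⟨x⁻¹, P.inv_mem hx⟩) =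
        QuotientGroup.mk ⟨x⁻¹, P.inv_mem hx⟩ := by rw [hj']; rfl
    rw [h.rho_mk_eq_iff] at h1
    have : ⁅x, (k : G) ^ i⁆ = (x⁻¹)⁻¹ * ((k : G) ^ i * x⁻¹ * ((k : G) ^ i)⁻¹) := by
      rw [commutatorElement_def]; group
    rw [this]
    simpa using h1
  have hsolv : Group.IsSolvable ↥(Subgroup.zpowers (k : G)) :=
    Group.isSolvable_of_comm (fun a b => Subtype.ext (setLike_mul_comm a.2 b.2))
  have hAK : Subgroup.zpowers (k : G) ≤ Subgroup.normalizer (P : Set G) :=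
    (Subgroup.zpowers_le).mpr (h.hKN k.2)
  have hcop : (Nat.card (Subgroup.zpowers (k : G))).Coprime (Nat.card P) := by
    obtain ⟨n, hn⟩ := IsPGroup.iff_card.mp h.hP
    rw [hn]
    apply Nat.Coprime.pow_right
    have : Nat.card (Subgroup.zpowers (k : G)) ∣ Nat.card K :=
      Subgroup.card_dvd_of_le ((Subgroup.zpowers_le).mpr k.2)
    exact Nat.Coprime.coprime_dvd_left this h.hKp
  have hdec : ∀ x ∈ P, ∃ d ∈ P₂, ∃ c ∈ C, x = d * c := by
    intro x hx
    obtain ⟨d, hd, c, hc, hxdc⟩ := Cfsg.Agent.Lib.Helper24_CoprimeAction.coprime_decomp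
      (Subgroup.zpowers (k : G)) P hAK hcop (Or.inl hsolv) hx
    refine ⟨d, hcomm_le hd, c, ?_, hxdc⟩
    rw [← h.hprime k k.2 hk1']
    refine ⟨hc.1, ?_⟩
    exact Subgroup.centralizer_le (by simp) hc.2
  apply h.hna
  intro a b
  apply Subtype.ext
  obtain ⟨d, hd, c, hc, h1⟩ := hdec a (h.P1_le a.2)
  obtain ⟨d', hd', c', hc', h2⟩ := hdec b (h.P1_le b.2)
  show (a : G) * b = b * a
  rw [h1, h2]
  have hCP : C ≤ P := h.C_le k.2 hk1'
  have hcc : c * c' = c' * c := h.C_self_comm c hc c' hc'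
  have e1 := h.P2_central d' hd' c (hCP hc)
  have e2 := h.P2_central d hd c' (hCP hc')
  have e3 := h.P2_self_comm d hd d' hd'
  calc d * c * (d' * c') = d * (c * d') * c' := by group
    _ = d * (d' * c) * c' := by rw [e1]
    _ = (d * d') * (c * c') := by group
    _ = (d' * d) * (c' * c) := by rw [e3, hcc]
    _ = d' * (d * c') * c := by group
    _ = d' * (c' * d) * c := by rw [e2]
    _ = d' * c' * (d * c) := by group

end Cfg


namespace Cfg

variable {P P₁ P₂ K C : Subgroup G}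

theorem center_le_C (h : Cfg p P P₁ P₂ K C) (hCP2 : C ≤ P₂) :
    ∀ z ∈ Subgroup.center ↥P₁, (z : G) ∈ C := by
  have hpp := hp.out
  obtain ⟨hZ, -, -⟩ := Cfsg.Agent.Lib.Helper88_SmallEssential.nonabelian_cube h.hP1c h.hna
  have hCp : IsPGroup p C := h.hP.to_le (hCP2.trans h.P2_le)
  obtain ⟨n, hn⟩ := IsPGroup.iff_card.mp hCp
  have hn0 : n ≠ 0 := by
    rintro rfl
    rw [pow_zero, Subgroup.card_eq_one] at hn
    exact h.hC hn
  have hdvd : p ∣ Nat.card C := hn ▸ dvd_pow_self p hn0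
  obtain ⟨x, hx⟩ := exists_prime_orderOf_dvd_card' p hdvd
  have hx2 : (x : G) ∈ P₂ := hCP2 x.2
  have hxp : (x : G) ^ p = 1 := by
    have := pow_orderOf_eq_one (x : G)
    rwa [Subgroup.orderOf_coe, hx] at this
  have hxZ : (x : G) ∈ P₁ ⊓ Subgroup.centralizer (P₁ : Set G) := by
    rw [← h.hOm]
    exact Subgroup.subset_closure ⟨hx2, hxp⟩
  have hx'c : (⟨x, hxZ.1⟩ : ↥P₁) ∈ Subgroup.center ↥P₁ :=
    (h.mem_center_P1_iff ⟨x, hxZ.1⟩).mpr hx2
  have hox' : orderOf (⟨x, hxZ.1⟩ : ↥P₁) = p := by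
    rw [← Subgroup.orderOf_coe]
    show orderOf (x : G) = p
    rw [Subgroup.orderOf_coe, hx]
  have hzp : Subgroup.zpowers (⟨x, hxZ.1⟩ : ↥P₁) = Subgroup.center ↥P₁ := by
    apply Subgroup.eq_of_le_of_card_ge ((Subgroup.zpowers_le).mpr hx'c)
    rw [Nat.card_zpowers, hox', hZ]
  intro z hz
  rw [← hzp] at hz
  obtain ⟨i, rfl⟩ := Subgroup.mem_zpowers_iff.mp hz
  rw [Subgroup.coe_zpow]
  exact C.zpow_mem x.2 i

/-- a non-identity central commutator of `P₁` -/
theorem exists_comm (h : Cfg p P P₁ P₂ K C) :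
    ∃ a b : ↥P₁, ⁅a, b⁆ ∈ Subgroup.center ↥P₁ ∧ ⁅a, b⁆ ≠ 1 := by
  obtain ⟨-, hcc, -⟩ := Cfsg.Agent.Lib.Helper88_SmallEssential.nonabelian_cube h.hP1c h.hna
  have hna := h.hna
  push Not at hna
  obtain ⟨a, b, hab⟩ := hna
  exact ⟨a, b, hcc a b, fun h1 => hab (commutatorElement_eq_one_iff_mul_comm.mp h1)⟩

theorem fix_of_mem_C (h : Cfg p P P₁ P₂ K C) {c : G} (hc : c ∈ C) (k : ↥K) :
    (k : G) * c * (k : G)⁻¹ = c := by
  by_cases hk : (k : G) = 1
  · rw [hk]; simp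
  · rw [← h.hprime k k.2 hk] at hc
    have := (Subgroup.mem_centralizer_iff.mp hc.2) (k : G) (Set.mem_singleton _)
    rw [this, mul_inv_cancel_right]

theorem det_dvd (h : Cfg p P P₁ P₂ K C) (hCP2 : C ≤ P₂) (k : ↥K) (l : ℕ)
    (hsc : ∀ v : Quo P, rho P K h.hKN k v = v ^ l) : (p : ℤ) ∣ (l : ℤ) ^ 2 - 1 := by
  have hpp := hp.out
  obtain ⟨-, hcc, -⟩ := Cfsg.Agent.Lib.Helper88_SmallEssential.nonabelian_cube h.hP1c h.hna
  obtain ⟨a, b, hcen, hc1⟩ := h.exists_comm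
  have hcC : ((⁅a, b⁆ : ↥P₁) : G) ∈ C := h.center_le_C hCP2 _ hcen
  have hfix := h.fix_of_mem_C hcC k
  -- the conjugates of `a`, `b`
  have hconj : ∀ a : ↥P₁, ((a : G) ^ l)⁻¹ * ((k : G) * a * (k : G)⁻¹) ∈ P₂ := by
    intro a
    have h1 := hsc (QuotientGroup.mk (Subgroup.inclusion h.P1_le a))
    rw [rho_mk, ← QuotientGroup.mk_pow, eq_comm, QuotientGroup.eq, h.mem_center_P_iff] at h1
    exact h1
  have ha := hconj a
  have hb := hconj b
  set z₁ := ((a : G) ^ l)⁻¹ * ((k : G) * a * (k : G)⁻¹) with hz₁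
  set z₂ := ((b : G) ^ l)⁻¹ * ((k : G) * b * (k : G)⁻¹) with hz₂
  have ea : (k : G) * a * (k : G)⁻¹ = (a : G) ^ l * z₁ := by rw [hz₁]; group
  have eb : (k : G) * b * (k : G)⁻¹ = (b : G) ^ l * z₂ := by rw [hz₂]; group
  have e1 : (k : G) * ((⁅a, b⁆ : ↥P₁) : G) * (k : G)⁻¹ =
      ⁅(k : G) * a * (k : G)⁻¹, (k : G) * b * (k : G)⁻¹⁆ := by
    have : ((⁅a, b⁆ : ↥P₁) : G) = ⁅(a : G), (b : G)⁆ := rfl
    rw [this, commutatorElement_def, commutatorElement_def]
    group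
  have hbl : (b : G) ^ l * z₂ ∈ P := P.mul_mem (P.pow_mem (h.P1_le b.2) l) (h.P2_le hb)
  have hal : (a : G) ^ l ∈ P := P.pow_mem (h.P1_le a.2) l
  rw [hfix, ea, eb, comm_mul_left (h.P2_central z₁ ha _ hbl),
    comm_mul_right (h.P2_central z₂ hb _ hal)] at e1
  have e2 : ((⁅a, b⁆ : ↥P₁) : G) = ((⁅a, b⁆ ^ (l * l) : ↥P₁) : G) := by
    rw [e1, ← cpow_both hcc a b l]
    rfl
  have e3 : (⁅a, b⁆ : ↥P₁) ^ (l * l) = ⁅a, b⁆ ^ 1 := by
    rw [pow_one]
    exact (Subtype.ext e2).symm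
  have ho : orderOf (⁅a, b⁆ : ↥P₁) = p := orderOf_eq_prime (h.pow_p _) hc1
  rw [pow_eq_pow_iff_modEq, ho] at e3
  have e4 := (Nat.modEq_iff_dvd.mp e3.symm)
  have : ((l * l : ℕ) : ℤ) - ((1 : ℕ) : ℤ) = (l : ℤ) ^ 2 - 1 := by push_cast; ring
  rwa [this] at e4

theorem conj_mem_P2 (h : Cfg p P P₁ P₂ K C) {g : G} (hg : g ∈ Subgroup.normalizer (P : Set G))
    {b : G} (hb : b ∈ P₂) : g * b * g⁻¹ ∈ P₂ := by
  have hbP : g * b * g⁻¹ ∈ P := (Subgroup.mem_normalizer_iff.mp hg b).mp (h.P2_le hb)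
  have := (h.mem_center_P_iff ⟨g * b * g⁻¹, hbP⟩).mp
  apply this
  rw [Subgroup.mem_center_iff]
  intro y
  apply Subtype.ext
  show (y : G) * (g * b * g⁻¹) = g * b * g⁻¹ * y
  have hy' : g⁻¹ * y * g ∈ P := by
    have := (Subgroup.mem_normalizer_iff.mp (Subgroup.inv_mem _ hg) (y : G)).mp y.2
    simpa using this
  have e := h.P2_central b hb _ hy'
  calc (y : G) * (g * b * g⁻¹) = g * ((g⁻¹ * y * g) * b) * g⁻¹ := by group
    _ = g * (b * (g⁻¹ * y * g)) * g⁻¹ := by rw [e]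
    _ = g * b * g⁻¹ * y := by group

theorem normalizer_le (h : Cfg p P P₁ P₂ K C) :
    Subgroup.normalizer (P : Set G) ≤ Subgroup.normalizer (P₂ : Set G) := by
  intro g hg
  rw [Subgroup.mem_normalizer_iff]
  intro n
  constructor
  · exact fun hn => h.conj_mem_P2 hg hn
  · intro hn
    have := h.conj_mem_P2 (Subgroup.inv_mem _ hg) hn
    have e : g⁻¹ * (g * n * g⁻¹) * g⁻¹⁻¹ = n := by group
    rwa [e] at this

theorem P2_le_C (h : Cfg p P P₁ P₂ K C) (hCP2 : C ≤ P₂) {k₀ : G} (hk₀ : k₀ ∈ K) (hk₀1 : k₀ ≠ 1) :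
    P₂ ≤ C := by
  have hpp := hp.out
  obtain ⟨a, b, hcen, hc1⟩ := h.exists_comm
  have hcC : ((⁅a, b⁆ : ↥P₁) : G) ∈ C := h.center_le_C hCP2 _ hcen
  have hfix := h.fix_of_mem_C hcC ⟨k₀, hk₀⟩
  have hc2 : ((⁅a, b⁆ : ↥P₁) : G) ∈ P₂ := hCP2 hcC
  have hc1' : ((⁅a, b⁆ : ↥P₁) : G) ≠ 1 := fun h' => hc1 (Subtype.ext h')
  have hKN2 : K ≤ Subgroup.normalizer (P₂ : Set G) := h.hKN.trans h.normalizer_le
  have hKcomm : ∀ x y : ↥K, x * y = y * x := by
    have := h.hKc
    exact (IsCyclic.commGroup (α := ↥K)).mul_comm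
  have hn : ((Subgroup.centralizer (P₂ : Set G)).subgroupOf K).Normal := by
    refine ⟨fun n hn g => ?_⟩
    have : g * n * g⁻¹ = n := by rw [hKcomm g n, mul_inv_cancel_right]
    rwa [this]
  have hpT : ¬ p ∣ (Subgroup.centralizer (P₂ : Set G)).relIndex K := by
    intro hd
    have h1 : p ∣ Nat.card K := hd.trans (Subgroup.relIndex_dvd_card _ _)
    have h2 := Nat.dvd_gcd h1 (dvd_refl p)
    rw [h.hKp.gcd_eq_one] at h2
    exact hpp.one_lt.ne' (Nat.dvd_one.mp h2)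
  have hcent := Cfsg.Agent.Lib.Helper77_CyclicAut.mem_centralizer_of_fix (p := p)
    (h.hP.to_le h.P2_le) h.hP2 hKN2 hpT hk₀ hc2 hc1' hfix
  intro b hb
  rw [← h.hprime k₀ hk₀ hk₀1]
  refine ⟨h.P2_le hb, ?_⟩
  show b ∈ Subgroup.centralizer ({k₀} : Set G)
  rw [Subgroup.mem_centralizer_iff]
  intro y hy
  rw [Set.mem_singleton_iff] at hy
  rw [hy]
  exact ((Subgroup.mem_centralizer_iff.mp hcent) b hb).symm

theorem commutator_le_P1 (h : Cfg p P P₁ P₂ K C) : ⁅P, P⁆ ≤ P₁ := by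
  rw [Subgroup.commutator_le]
  intro x hx y hy
  obtain ⟨a, ha, b, hb, rfl⟩ := h.exists_mul x hx
  obtain ⟨a', ha', b', hb', rfl⟩ := h.exists_mul y hy
  rw [comm_mul_left (h.P2_central b hb _ hy),
    comm_mul_right (h.P2_central b' hb' a (h.P1_le ha))]
  rw [commutatorElement_def]
  exact P₁.mul_mem (P₁.mul_mem (P₁.mul_mem ha ha') (P₁.inv_mem ha)) (P₁.inv_mem ha')

end Cfg


namespace Cfg

variable {P P₁ P₂ K C : Subgroup G}

theorem inv_line (h : Cfg p P P₁ P₂ K C) {k₀ : G} (hk₀ : k₀ ∈ K) (hk₀1 : k₀ ≠ 1)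
    (hC2 : ¬ C ≤ P₂) :
    ∃ H : Subgroup (Quo P), Nat.card H = p ∧
      ∀ k : ↥K, H.map (rho P K h.hKN k).toMonoidHom = H := by
  obtain ⟨c, hc, hc2⟩ := SetLike.not_le_iff_exists.mp hC2
  have hcP : c ∈ P := h.C_le hk₀ hk₀1 hc
  have hv1 : (QuotientGroup.mk ⟨c, hcP⟩ : Quo P) ≠ 1 := fun h' => hc2 ((h.mk_eq_one_iff _).mp h')
  have hov : orderOf (QuotientGroup.mk ⟨c, hcP⟩ : Quo P) = p :=
    orderOf_eq_prime (h.exp_Quo _) hv1
  refine ⟨Subgroup.zpowers (QuotientGroup.mk ⟨c, hcP⟩ : Quo P),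
    by rw [Nat.card_zpowers, hov], fun k => ?_⟩
  rw [MonoidHom.map_zpowers]
  congr 1
  show rho P K h.hKN k (QuotientGroup.mk ⟨c, hcP⟩) = QuotientGroup.mk ⟨c, hcP⟩
  rw [h.rho_mk_eq_iff]
  show c⁻¹ * ((k : G) * c * (k : G)⁻¹) ∈ P₂
  rw [h.fix_of_mem_C hc k, inv_mul_cancel]
  exact P₂.one_mem

end Cfg

end concrete

/-- **Piece B of B-G 15.7.** -/
theorem dichotomy {G : Type*} [Group G] [Finite G] (p : ℕ) [Fact p.Prime] (hp : p ≠ 2)
    (P P₁ P₂ K C : Subgroup G) (hP : IsPGroup p P) (h12 : P₁ ⊔ P₂ = P)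
    (hcomm : ∀ a ∈ P₁, ∀ b ∈ P₂, a * b = b * a) (hP1 : ¬ IsMulCommutative P₁)
    (hP1c : Nat.card P₁ = p ^ 3) (hP1e : Monoid.exponent P₁ = p) (hP2 : IsCyclic P₂)
    (hOm : Subgroup.closure {x : G | x ∈ P₂ ∧ x ^ p = 1} =
      P₁ ⊓ Subgroup.centralizer (P₁ : Set G))
    (hKN : K ≤ Subgroup.normalizer (P : Set G)) (hKc : IsCyclic K) (hKodd : Odd (Nat.card K))
    (hKp : (Nat.card K).Coprime p) (hC : C ≠ ⊥) (hCc : IsCyclic C)
    (hprime : ∀ k ∈ K, k ≠ 1 → P ⊓ Subgroup.centralizer ({k} : Set G) = C) :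
    Nat.card K ∣ p - 1 ∨ (Nat.card K ∣ p + 1 ∧ (C ≤ ⁅P, P⁆ → Nat.card P = p ^ 3)) := by
  have h : Cfg p P P₁ P₂ K C :=
    ⟨hP, h12, hcomm, hP1, hP1c, hP1e, hP2, hOm, hKN, hKc, hKodd, hKp, hC, hCc, hprime⟩
  by_cases hK1 : ∀ k ∈ K, k = 1
  · left
    have : K = ⊥ := (Subgroup.eq_bot_iff_forall K).mpr hK1
    rw [this, Subgroup.card_bot]
    exact one_dvd _
  push Not at hK1
  obtain ⟨k₀, hk₀, hk₀1⟩ := hK1
  have hKcomm : ∀ x y : ↥K, x * y = y * x := (IsCyclic.commGroup (α := ↥K)).mul_comm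
  let _ : CommGroup (Quo P) := h.commQuo
  by_cases hline : ∃ H : Subgroup (Quo P), Nat.card H = p ∧
      ∀ k : ↥K, H.map (rho P K h.hKN k).toMonoidHom = H
  · left
    obtain ⟨H, hH, hinv⟩ := hline
    exact card_dvd_pred h.card_Quo h.exp_Quo (rho P K h.hKN) h.rho_inj h.hKc h.hKp H hH hinv
  · right
    have hCP2 : C ≤ P₂ := by
      by_contra hC2
      exact hline (h.inv_line hk₀ hk₀1 hC2)
    push Not at hline
    refine ⟨?_, ?_⟩
    · exact card_dvd_succ hp h.card_Quo h.exp_Quo (rho P K h.hKN) h.rho_inj hKcomm h.hKodd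
        hline (fun k l hsc => h.det_dvd hCP2 k l hsc)
    · intro hCcomm
      have h1 : P₂ ≤ P₁ := (h.P2_le_C hCP2 hk₀ hk₀1).trans (hCcomm.trans h.commutator_le_P1)
      have : P = P₁ := by rw [← h12]; exact sup_eq_left.mpr h1
      rw [this, hP1c]

end Cfsg.Agent.Lib.Helper74_BG157Dich





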