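import Mathlib
import Cfsg.Agent.S1453
import Cfsg.Agent.S0058
import Cfsg.Agent.Lib.Helper23_PLength

/-!
# B-G 15.7, piece C (for helper48): a `p`-group with a maximal elementary abelian subgroup of
order `p ^ 2` of the shape `⟨x⟩ × ⟨z⟩` (`z` central, `x` not) is narrow.

Main statement: `narrow_of_max`.
-/

set_option autoImplicit false

namespace Cfsg.Agent.Lib.Helper82_BG157C

open Cfsg

/-- the cyclic group generated by a central element is normal -/
theorem normal_zpowers_of_central {R : Type*} [Group R] (z : R) (hz : ∀ y : R, z * y = y * z) :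
    (Subgroup.zpowers z).Normal := by
  refine ⟨fun n hn g => ?_⟩
  obtain ⟨k, rfl⟩ := Subgroup.mem_zpowers_iff.mp hn
  have h1 : g * z ^ k * g⁻¹ = z ^ k := by
    have h2 : Commute z g := hz g
    have h3 : Commute (z ^ k) g := h2.zpow_left k
    rw [← h3.eq, mul_inv_cancel_right]
  rw [h1]
  exact Subgroup.zpow_mem _ (Subgroup.mem_zpowers z) k

/-- elements of `⟨x⟩⟨z⟩` with `z` central -/
theorem mem_sup_zpowers {R : Type*} [Group R] (x z : R) (hz : ∀ y : R, z * y = y * z) (c : R)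
    (hc : c ∈ Subgroup.zpowers x ⊔ Subgroup.zpowers z) :
    ∃ a ∈ Subgroup.zpowers x, ∃ b ∈ Subgroup.zpowers z, a * b = c := by
  have hn : (Subgroup.zpowers z).Normal := normal_zpowers_of_central z hz
  have h1 : c ∈ ((Subgroup.zpowers x ⊔ Subgroup.zpowers z : Subgroup R) : Set R) := hc
  rw [Subgroup.mul_normal] at h1
  exact Set.mem_mul.mp h1

/-- an element of order `p` of a quotient of order `p`: `x ^ k ∈ T` forces `x ^ k = 1` -/
theorem zpow_eq_one_of_mem {R : Type*} [Group R] {p : ℕ} (hp : p.Prime) (T : Subgroup R)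
    [T.Normal] (x : R) (hxp : x ^ p = 1) (hxT : x ∉ T) (k : ℤ) (hk : x ^ k ∈ T) : x ^ k = 1 := by
  have : Fact p.Prime := ⟨hp⟩
  have h1 : ((x : R) : R ⧸ T) ≠ 1 := by
    intro h
    exact hxT ((QuotientGroup.eq_one_iff x).mp h)
  have h2 : ((x : R) : R ⧸ T) ^ p = 1 := by
    rw [← QuotientGroup.mk_pow, hxp, QuotientGroup.mk_one]
  have h3 : orderOf ((x : R) : R ⧸ T) = p := orderOf_eq_prime h2 h1
  have h4 : ((x : R) : R ⧸ T) ^ k = 1 := by
    rw [← QuotientGroup.mk_zpow]
    exact (QuotientGroup.eq_one_iff _).mpr hk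
  have h5 : (p : ℤ) ∣ k := by
    rw [← h3]
    exact orderOf_dvd_iff_zpow_eq_one.mpr h4
  obtain ⟨m, rfl⟩ := h5
  rw [zpow_mul, zpow_natCast, hxp, one_zpow]

/-- in a group with a normal subgroup `T` of prime index `p` and `x ∉ T`, every element is
`x ^ k * t` with `t ∈ T` -/
theorem exists_zpow_mul {R : Type*} [Group R] [Finite R] {p : ℕ} (hp : p.Prime) (T : Subgroup R)
    [T.Normal] (hT : T.index = p) (x : R) (hxT : x ∉ T) (c : R) :
    ∃ k : ℤ, ∃ t ∈ T, c = x ^ k * t := by
  have : Fact p.Prime := ⟨hp⟩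
  have hcard : Nat.card (R ⧸ T) = p := by
    rw [← hT]; rfl
  have h1 : ((x : R) : R ⧸ T) ≠ 1 := by
    intro h
    exact hxT ((QuotientGroup.eq_one_iff x).mp h)
  have h2 : Subgroup.zpowers ((x : R) : R ⧸ T) = ⊤ := zpowers_eq_top_of_prime_card hcard h1
  have h3 : ((c : R) : R ⧸ T) ∈ Subgroup.zpowers ((x : R) : R ⧸ T) := by
    rw [h2]; trivial
  obtain ⟨k, hk⟩ := Subgroup.mem_zpowers_iff.mp h3
  refine ⟨k, (x ^ k)⁻¹ * c, ?_, by group⟩
  rw [← QuotientGroup.eq_one_iff, QuotientGroup.mk_mul, QuotientGroup.mk_inv,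
    QuotientGroup.mk_zpow, hk, inv_mul_cancel]

/-- **Piece C of B-G 15.7.** -/
theorem narrow_of_max {G : Type*} [Group G] [Finite G] (p : ℕ) [Fact p.Prime] (hp : p ≠ 2) (P : Subgroup G) (hP : IsPGroup p P) (x z : G) (hxP : x ∈ P) (hzP : z ∈ P) (hxo : orderOf x = p) (hzo : orderOf z = p) (hzc : ∀ y ∈ P, z * y = y * z) (hxnc : ∃ y ∈ P, x * y ≠ y * x) (hCab : ∀ a ∈ P ⊓ Subgroup.centralizer ({x} : Set G), ∀ b ∈ P ⊓ Subgroup.centralizer ({x} : Set G), a * b = b * a) (hOm : ∀ y ∈ P ⊓ Subgroup.centralizer ({x} : Set G), y ^ p = 1 → y ∈ Subgroup.zpowers x ⊔ Subgroup.zpowers z) : Cfsg.IsNarrow p ↥P ∧ (¬ Cfsg.PRankLE p 2 ↥P → ∀ y ∈ P ⊓ Subgroup.centralizer ({x} : Set G), y ^ p ≠ x) := by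
  classical
  by_cases hr : Cfsg.PRankLE p 2 ↥P
  · exact ⟨Or.inl hr, fun h => absurd hr h⟩
  have hpp : p.Prime := Fact.out
  -- the elements inside `↥P`
  set x' : ↥P := ⟨x, hxP⟩ with hx'def
  set z' : ↥P := ⟨z, hzP⟩ with hz'def
  have hx'p : x' ^ p = 1 := by
    apply Subtype.ext
    rw [Subgroup.coe_pow, Subgroup.coe_one]
    show x ^ p = 1
    rw [← hxo]; exact pow_orderOf_eq_one x
  have hz'p : z' ^ p = 1 := by
    apply Subtype.ext
    rw [Subgroup.coe_pow, Subgroup.coe_one]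
    show z ^ p = 1
    rw [← hzo]; exact pow_orderOf_eq_one z
  have hx'1 : x' ≠ 1 := by
    intro h
    have h1 : x = 1 := congrArg Subtype.val h
    rw [h1, orderOf_one] at hxo
    exact hpp.one_lt.ne hxo
  have hz'1 : z' ≠ 1 := by
    intro h
    have h1 : z = 1 := congrArg Subtype.val h
    rw [h1, orderOf_one] at hzo
    exact hpp.one_lt.ne hzo
  have hz'c : ∀ y : ↥P, z' * y = y * z' := fun y => Subtype.ext (hzc y.1 y.2)
  -- the centralizer of x'
  have hCR : ∀ a : ↥P, a * x' = x' * a → (a : G) ∈ P ⊓ Subgroup.centralizer ({x} : Set G) := by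
    intro a ha
    refine Subgroup.mem_inf.mpr ⟨a.2, ?_⟩
    rw [Subgroup.mem_centralizer_singleton_iff]
    exact congrArg Subtype.val ha
  have hCab' : ∀ a b : ↥P, a * x' = x' * a → b * x' = x' * b → a * b = b * a :=
    fun a b ha hb => Subtype.ext (hCab a.1 (hCR a ha) b.1 (hCR b hb))
  set E : Subgroup ↥P := Subgroup.zpowers x' ⊔ Subgroup.zpowers z' with hEdef
  have hmapE : E.map P.subtype = Subgroup.zpowers x ⊔ Subgroup.zpowers z := by
    rw [hEdef, Subgroup.map_sup, MonoidHom.map_zpowers, MonoidHom.map_zpowers]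
    rfl
  have hOm' : ∀ a : ↥P, a * x' = x' * a → a ^ p = 1 → a ∈ E := by
    intro a ha hap
    have h1 : (a : G) ∈ Subgroup.zpowers x ⊔ Subgroup.zpowers z := by
      apply hOm a.1 (hCR a ha)
      have := congrArg Subtype.val hap
      simpa using this
    rw [← hmapE] at h1
    obtain ⟨r, hr1, hr2⟩ := Subgroup.mem_map.mp h1
    have : r = a := Subtype.ext hr2
    rw [← this]; exact hr1
  -- E is elementary abelian
  have hEz : IsElementaryAbelian p (Subgroup.zpowers z') := by
    refine ⟨inferInstance, ?_⟩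
    intro a ha
    obtain ⟨k, rfl⟩ := Subgroup.mem_zpowers_iff.mp ha
    rw [← zpow_natCast, ← zpow_mul, mul_comm, zpow_mul, zpow_natCast, hz'p, one_zpow]
  have hEel : IsElementaryAbelian p E := by
    apply Cfsg.Agent.Lib.Helper23_PLength.isElementaryAbelian_zpowers_sup _ hEz x' _ hx'p
    intro e he
    obtain ⟨k, rfl⟩ := Subgroup.mem_zpowers_iff.mp he
    have h2 : Commute z' x' := hz'c x'
    exact (h2.zpow_left k).eq.symm
  have hxE : x' ∈ E := Subgroup.mem_sup_left (Subgroup.mem_zpowers x')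
  have hzE : z' ∈ E := Subgroup.mem_sup_right (Subgroup.mem_zpowers z')
  -- x' is not a power of z'
  have hxnz : x' ∉ Subgroup.zpowers z' := by
    intro h
    obtain ⟨k, hk⟩ := Subgroup.mem_zpowers_iff.mp h
    obtain ⟨y, hyP, hy⟩ := hxnc
    apply hy
    have h2 : Commute z' (⟨y, hyP⟩ : ↥P) := hz'c _
    have h3 : Commute x' (⟨y, hyP⟩ : ↥P) := by
      rw [← hk]; exact h2.zpow_left k
    exact congrArg Subtype.val h3.eq
  have hRp : IsPGroup p ↥P := hP
  have hox' : orderOf x' = p := orderOf_eq_prime hx'p hx'1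
  have hoz' : orderOf z' = p := orderOf_eq_prime hz'p hz'1
  -- card E = p ^ 2
  have hEcard : Nat.card E = p ^ 2 := by
    obtain ⟨k, hk⟩ := (hRp.to_subgroup E).exists_card_eq
    have hzle : Subgroup.zpowers z' ≤ E := le_sup_right
    have hzcard : Nat.card (Subgroup.zpowers z') = p := by rw [Nat.card_zpowers, hoz']
    have hxcard : Nat.card (Subgroup.zpowers x') = p := by rw [Nat.card_zpowers, hox']
    -- upper bound
    have hle : Nat.card E ≤ p * p := by
      have hsurj : Function.Surjective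
          (fun ab : Subgroup.zpowers x' × Subgroup.zpowers z' =>
            (⟨(ab.1 : ↥P) * (ab.2 : ↥P),
              Subgroup.mul_mem _ (Subgroup.mem_sup_left ab.1.2) (Subgroup.mem_sup_right ab.2.2)⟩ : E)) := by
        rintro ⟨c, hc⟩
        obtain ⟨a, ha, b, hb, hab⟩ := mem_sup_zpowers x' z' hz'c c hc
        exact ⟨(⟨a, ha⟩, ⟨b, hb⟩), Subtype.ext hab⟩
      have h1 := Nat.card_le_card_of_surjective _ hsurj
      rw [Nat.card_prod, hxcard, hzcard] at h1
      exact h1
    -- lower bound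
    have hlt : p < Nat.card E := by
      have h1 : Nat.card (Subgroup.zpowers z') ≤ Nat.card E := Subgroup.card_le_of_le hzle
      rw [hzcard] at h1
      rcases h1.lt_or_eq with h | h
      · exact h
      · exfalso
        have h2 : Subgroup.zpowers z' = E :=
          Subgroup.eq_of_le_of_card_ge hzle (by rw [hzcard, ← h])
        apply hxnz
        rw [h2]; exact hxE
    rw [hk] at hle hlt ⊢
    have hk2 : k ≤ 2 := by
      by_contra hcon
      push Not at hcon
      have h3 : p ^ 3 ≤ p ^ k := Nat.pow_le_pow_right hpp.pos hcon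
      have h4 : p * p < p ^ 3 := by
        have : p ^ 3 = p * p * p := by ring
        rw [this]
        nlinarith [hpp.two_le]
      omega
    have hk1 : 2 ≤ k := by
      by_contra hcon
      push Not at hcon
      have h3 : p ^ k ≤ p ^ 1 := Nat.pow_le_pow_right hpp.pos (by omega)
      rw [pow_one] at h3
      omega
    have : k = 2 := le_antisymm hk2 hk1
    rw [this]
  -- maximality of E
  have hEmax : ∀ B : Subgroup ↥P, IsElementaryAbelian p B → E ≤ B → B = E := by
    intro B hB hEB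
    apply le_antisymm _ hEB
    intro b hb
    have hBc := hB.1
    have h1 : b * x' = x' * b := by
      have := hBc.is_comm.comm (⟨b, hb⟩ : B) (⟨x', hEB hxE⟩ : B)
      exact congrArg Subtype.val this
    exact hOm' b h1 (hB.2 b hb)
  obtain ⟨hnotle, -, -, hchar, hindex⟩ :=
    Cfsg.Agent.S1453.result p hp hRp hr E hEel hEcard hEmax
  set T : Subgroup ↥P := Subgroup.centralizer ((Subgroup.closure
    {x : ↥P | x ∈ Subgroup.upperCentralSeries ↥P 2 ∧ x ^ p = 1} : Subgroup ↥P) : Set ↥P) with hTdef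
  have hTn : T.Normal := by
    have := hchar
    infer_instance
  have hzT : z' ∈ T := by
    rw [hTdef, Subgroup.mem_centralizer_iff]
    intro w _
    exact (hz'c w).symm
  have hxT : x' ∉ T := by
    intro h
    apply hnotle
    rw [hEdef]
    exact sup_le ((Subgroup.zpowers_le).mpr h) ((Subgroup.zpowers_le).mpr hzT)
  set CR : Subgroup ↥P := Subgroup.centralizer ({x'} : Set ↥P) with hCRdef
  have hmemCR : ∀ a : ↥P, a ∈ CR ↔ a * x' = x' * a := by
    intro a
    rw [hCRdef, Subgroup.mem_centralizer_singleton_iff]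
  set R0 : Subgroup ↥P := Subgroup.zpowers x' with hR0def
  set R1 : Subgroup ↥P := T ⊓ CR with hR1def
  -- decomposition of elements centralizing x'
  have hdecomp : ∀ c : ↥P, c * x' = x' * c → ∃ k : ℤ, ∃ t ∈ R1, c = x' ^ k * t := by
    intro c hc
    obtain ⟨k, t, ht, hct⟩ := exists_zpow_mul hpp T hindex x' hxT c
    refine ⟨k, t, Subgroup.mem_inf.mpr ⟨ht, ?_⟩, hct⟩
    rw [hmemCR]
    have ht2 : t = (x' ^ k)⁻¹ * c := by rw [hct]; group
    have h1 : Commute c x' := hc
    have h2 : Commute (x' ^ k) x' := (Commute.refl x').zpow_left k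
    rw [ht2]
    exact (h2.inv_left.mul_left h1).eq
  -- R0 ⊓ T = ⊥
  have hR0T : ∀ a ∈ R0, a ∈ T → a = 1 := by
    intro a ha haT
    obtain ⟨k, rfl⟩ := Subgroup.mem_zpowers_iff.mp ha
    exact zpow_eq_one_of_mem hpp T x' hx'p hxT k haT
  -- elements of E in T lie in ⟨z'⟩
  have hET : ∀ e ∈ E, e ∈ T → e ∈ Subgroup.zpowers z' := by
    intro e he heT
    obtain ⟨a, ha, b, hb, hab⟩ := mem_sup_zpowers x' z' hz'c e he
    have hbT : b ∈ T := by
      obtain ⟨k, rfl⟩ := Subgroup.mem_zpowers_iff.mp hb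
      exact Subgroup.zpow_mem _ hzT k
    have haT : a ∈ T := by
      have : a = e * b⁻¹ := by rw [← hab]; group
      rw [this]
      exact Subgroup.mul_mem _ heT (Subgroup.inv_mem _ hbT)
    have ha1 := hR0T a ha haT
    rw [← hab, ha1, one_mul]
    exact hb
  -- R1 is commutative
  have hR1comm : IsMulCommutative ↥R1 := by
    refine ⟨⟨fun a b => ?_⟩⟩
    apply Subtype.ext
    have ha := (hmemCR a.1).mp (Subgroup.mem_inf.mp a.2).2
    have hb := (hmemCR b.1).mp (Subgroup.mem_inf.mp b.2).2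
    exact hCab' a.1 b.1 ha hb
  -- R1 is cyclic
  have hR1cyc : IsCyclic ↥R1 := by
    by_contra hnc
    obtain ⟨p', hp', a, b, hap, hbp, hb1, hab⟩ := Cfsg.Agent.S0058.exists_rank_two (A := ↥R1) hnc
    have : Fact p'.Prime := ⟨hp'⟩
    have hob : orderOf b = p' := orderOf_eq_prime hbp hb1
    have hR1p : IsPGroup p ↥R1 := hRp.to_subgroup R1
    obtain ⟨k, hk⟩ := hR1p b
    have hpp' : p' = p := by
      have h1 : p' ∣ p ^ k := by
        rw [← hob]; exact orderOf_dvd_of_pow_eq_one hk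
      exact (Nat.prime_dvd_prime_iff_eq hp' hpp).mp (hp'.dvd_of_dvd_pow h1)
    subst hpp'
    have haz : (a : ↥P) ∈ Subgroup.zpowers z' := by
      have ha2 := Subgroup.mem_inf.mp a.2
      apply hET _ _ ha2.1
      apply hOm' _ ((hmemCR a.1).mp ha2.2)
      have := congrArg Subtype.val hap
      simpa using this
    have hbz : (b : ↥P) ∈ Subgroup.zpowers z' := by
      have hb2 := Subgroup.mem_inf.mp b.2
      apply hET _ _ hb2.1
      apply hOm' _ ((hmemCR b.1).mp hb2.2)
      have := congrArg Subtype.val hbp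
      simpa using this
    have hobP : orderOf (b : ↥P) = p' := by
      rw [Subgroup.orderOf_coe]; exact hob
    have hzb : Subgroup.zpowers (b : ↥P) = Subgroup.zpowers z' := by
      apply Subgroup.eq_of_le_of_card_ge ((Subgroup.zpowers_le).mpr hbz)
      rw [Nat.card_zpowers, Nat.card_zpowers, hobP, hoz']
    have hainv : (a : ↥P)⁻¹ ∈ Subgroup.zpowers (b : ↥P) := by
      rw [hzb]; exact Subgroup.inv_mem _ haz
    obtain ⟨m, hm⟩ := Subgroup.mem_zpowers_iff.mp hainv
    have hm2 : (b : ↥P) ^ (m % (p' : ℤ)).toNat = (a : ↥P)⁻¹ := by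
      rw [← hm, ← zpow_natCast, Int.toNat_of_nonneg
        (Int.emod_nonneg m (by exact_mod_cast hpp.ne_zero)), ← hobP, zpow_mod_orderOf]
    apply hab (m % (p' : ℤ)).toNat
    apply Subtype.ext
    rw [Subgroup.coe_mul, Subgroup.coe_pow, hm2, Subgroup.coe_one, mul_inv_cancel]
  refine ⟨Or.inr ⟨R0, R1, ?_, hR1cyc, ?_, ?_, ?_⟩, ?_⟩
  · rw [hR0def, Nat.card_zpowers, hox']
  · -- R0 ⊓ R1 = ⊥
    rw [eq_bot_iff]
    intro a ha
    have ha2 := Subgroup.mem_inf.mp ha
    rw [Subgroup.mem_bot]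
    exact hR0T a ha2.1 (Subgroup.mem_inf.mp ha2.2).1
  · -- commute
    intro a ha b hb
    obtain ⟨k, rfl⟩ := Subgroup.mem_zpowers_iff.mp ha
    have hb2 : Commute b x' := (hmemCR b).mp (Subgroup.mem_inf.mp hb).2
    exact (hb2.zpow_right k).eq.symm
  · -- R0 ⊔ R1 = C(R0)
    apply le_antisymm
    · apply sup_le
      · intro a ha
        rw [Subgroup.mem_centralizer_iff]
        intro w hw
        obtain ⟨k, rfl⟩ := Subgroup.mem_zpowers_iff.mp ha
        obtain ⟨l, rfl⟩ := Subgroup.mem_zpowers_iff.mp hw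
        exact ((Commute.refl x').zpow_zpow l k).eq
      · intro b hb
        rw [Subgroup.mem_centralizer_iff]
        intro w hw
        obtain ⟨l, rfl⟩ := Subgroup.mem_zpowers_iff.mp hw
        have hb2 : Commute b x' := (hmemCR b).mp (Subgroup.mem_inf.mp hb).2
        exact (hb2.zpow_right l).eq.symm
    · intro c hc
      rw [Subgroup.mem_centralizer_iff] at hc
      have hc2 : c * x' = x' * c := (hc x' (Subgroup.mem_zpowers x')).symm
      obtain ⟨k, t, ht, hct⟩ := hdecomp c hc2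
      rw [hct]
      exact Subgroup.mul_mem _
        (Subgroup.mem_sup_left (Subgroup.zpow_mem _ (Subgroup.mem_zpowers x') k))
        (Subgroup.mem_sup_right ht)
  · -- second claim
    intro _ y hy hyx
    have hy2 := Subgroup.mem_inf.mp hy
    have hyc : (⟨y, hy2.1⟩ : ↥P) * x' = x' * ⟨y, hy2.1⟩ := by
      apply Subtype.ext
      exact (Subgroup.mem_centralizer_singleton_iff.mp hy2.2)
    obtain ⟨k, t, ht, hct⟩ := hdecomp ⟨y, hy2.1⟩ hyc
    have htc : Commute t x' := (hmemCR t).mp (Subgroup.mem_inf.mp ht).2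
    have hpow : (⟨y, hy2.1⟩ : ↥P) ^ p = t ^ p := by
      rw [hct, (htc.zpow_right k).symm.mul_pow, ← zpow_natCast, ← zpow_mul, mul_comm, zpow_mul,
        zpow_natCast, hx'p, one_zpow, one_mul]
    have hxeq : (⟨y, hy2.1⟩ : ↥P) ^ p = x' := by
      apply Subtype.ext
      rw [Subgroup.coe_pow]
      exact hyx
    apply hxT
    rw [← hxeq, hpow]
    exact Subgroup.pow_mem _ (Subgroup.mem_inf.mp ht).1 p

end Cfsg.Agent.Lib.Helper82_BG157C
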