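import Mathlib
import Cfsg.Prelude.Def_Solvable

set_option autoImplicit false

namespace Cfsg.Agent.Lib.Helper71_Frobenius

open scoped Pointwise

theorem mem_conj_smul {G : Type*} [Group G] (H : Subgroup G) (g x : G) :
    x ∈ MulAut.conj g • H ↔ g⁻¹ * x * g ∈ H := by
  rw [Subgroup.mem_pointwise_smul_iff_inv_smul_mem]
  simp [MulAut.smul_def]

section Semidirect

variable {N C : Type*} [Group N] [Group C]

open SemidirectProduct

theorem mem_range_inr_iff (φ : C →* MulAut N) (x : N ⋊[φ] C) :
    x ∈ (inr : C →* N ⋊[φ] C).range ↔ x.left = 1 := by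
  constructor
  · rintro ⟨c, rfl⟩; simp
  · intro h
    refine ⟨x.right, ?_⟩
    rw [← inl_left_mul_inr_right x, h]; simp

/-- In a semidirect product `N ⋊ C` with `C` acting fixed-point-freely on `N`, the subgroup `C`
is a Frobenius complement. -/
theorem semidirect_isFrobeniusComplement [Nontrivial N] [Nontrivial C] (φ : C →* MulAut N)
    (hfpf : ∀ c : C, c ≠ 1 → ∀ n : N, φ c n = n → n = 1) :
    Cfsg.IsFrobeniusComplement (inr : C →* N ⋊[φ] C).range := by
  refine ⟨?_, ?_, ?_⟩
  · obtain ⟨c, hc⟩ := exists_ne (1 : C)
    intro hbot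
    have : (inr c : N ⋊[φ] C) ∈ (inr : C →* N ⋊[φ] C).range := ⟨c, rfl⟩
    rw [hbot, Subgroup.mem_bot] at this
    exact hc (inr_injective (this.trans (map_one inr).symm))
  · obtain ⟨n, hn⟩ := exists_ne (1 : N)
    intro htop
    have : (inl n : N ⋊[φ] C) ∈ (inr : C →* N ⋊[φ] C).range := htop ▸ Subgroup.mem_top _
    rw [mem_range_inr_iff] at this
    exact hn this
  · intro g hg
    rw [mem_range_inr_iff] at hg
    rw [eq_bot_iff]
    intro x hx
    rw [Subgroup.mem_inf, mem_conj_smul, mem_range_inr_iff, mem_range_inr_iff] at hx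
    obtain ⟨hx1, hx2⟩ := hx
    rw [Subgroup.mem_bot]
    have hxr : x = inr x.right := by
      conv_lhs => rw [← inl_left_mul_inr_right x, hx1]
      simp
    by_contra hx_ne
    have hr : x.right ≠ 1 := by
      intro h
      apply hx_ne
      rw [hxr, h, map_one]
    apply hg
    apply hfpf x.right hr
    -- compute the left component
    have key : (g⁻¹ * x * g).left = φ g.right⁻¹ (g.left⁻¹ * φ x.right g.left) := by
      simp only [mul_left, inv_left, inv_right, mul_right, hx1, map_mul, MulAut.mul_apply,
        map_one, mul_one]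
    rw [key, EmbeddingLike.map_eq_one_iff] at hx2
    exact (inv_mul_eq_one.mp hx2).symm

/-- The Frobenius kernel of the complement `C` in `N ⋊ C` is `N` (for finite `N`). -/
theorem semidirect_frobeniusKernel [Finite N] (φ : C →* MulAut N)
    (hfpf : ∀ c : C, c ≠ 1 → ∀ n : N, φ c n = n → n = 1) :
    Cfsg.frobeniusKernel (inr : C →* N ⋊[φ] C).range = {x : N ⋊[φ] C | x.right = 1} := by
  ext x
  simp only [Cfsg.frobeniusKernel, Set.mem_ofPred_eq]
  constructor
  · rintro (rfl | h)
    · rfl
    · by_contra hr
      -- the map `m ↦ m * (φ h m)⁻¹` is injective hence surjective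
      set c := x.right with hc
      have hinj : Function.Injective (fun m : N => m * (φ c m)⁻¹) := by
        intro m m' hmm
        simp only at hmm
        have h1 : φ c (m'⁻¹ * m) = m'⁻¹ * m := by
          rw [map_mul, map_inv]
          have : m'⁻¹ * m = (φ c m')⁻¹ * φ c m := by
            have h2 : m = m' * (φ c m')⁻¹ * φ c m := by
              rw [← hmm]; group
            calc m'⁻¹ * m = m'⁻¹ * (m' * (φ c m')⁻¹ * φ c m) := by rw [← h2]
              _ = (φ c m')⁻¹ * φ c m := by group
          rw [this]
        have := hfpf c hr _ h1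
        exact (inv_mul_eq_one.mp this).symm
      obtain ⟨m, hm⟩ := (Finite.surjective_of_injective hinj) x.left
      apply h (inl m)
      rw [mem_conj_smul, mem_range_inr_iff]
      simp only [mul_left, inv_left, inv_right, mul_right, left_inl, right_inl, inv_one, map_one,
        MulAut.one_apply, one_mul]
      simp only at hm
      rw [← hm, ← hc]
      group
  · intro hr
    by_cases hx1 : x = 1
    · exact Or.inl hx1
    right
    intro g hg
    rw [mem_conj_smul, mem_range_inr_iff] at hg
    apply hx1
    have h2 : (g⁻¹ * x * g).right = 1 := by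
      simp [mul_right, hr]
    have h3 : g⁻¹ * x * g = 1 := by
      ext
      · exact hg
      · exact h2
    have : x = g * (g⁻¹ * x * g) * g⁻¹ := by group
    rw [this, h3]; group

theorem semidirect_card_frobeniusKernel [Finite N] (φ : C →* MulAut N)
    (hfpf : ∀ c : C, c ≠ 1 → ∀ n : N, φ c n = n → n = 1) :
    Nat.card (Cfsg.frobeniusKernel (inr : C →* N ⋊[φ] C).range) = Nat.card N := by
  rw [semidirect_frobeniusKernel φ hfpf]
  apply Nat.card_congr
  refine ⟨fun x => x.1.left, fun n => ⟨inl n, by simp⟩, ?_, ?_⟩
  · rintro ⟨x, hx⟩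
    apply Subtype.ext
    simp only [Set.mem_ofPred_eq] at hx
    ext
    · simp
    · simp [hx]
  · intro n; simp

end Semidirect


section Transport

variable {L L' : Type*} [Group L] [Group L']

theorem mem_map_equiv_iff (e : L ≃* L') (H : Subgroup L) (x : L) :
    e x ∈ H.map e.toMonoidHom ↔ x ∈ H := by
  constructor
  · rintro ⟨y, hy, hxy⟩
    have : y = x := e.injective hxy
    exact this ▸ hy
  · intro hx; exact ⟨x, hx, rfl⟩

theorem isFrobeniusComplement_map_equiv (e : L ≃* L') (H : Subgroup L)
    (h : Cfsg.IsFrobeniusComplement H) : Cfsg.IsFrobeniusComplement (H.map e.toMonoidHom) := by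
  obtain ⟨h1, h2, h3⟩ := h
  refine ⟨?_, ?_, ?_⟩
  · intro hbot
    apply h1
    rw [eq_bot_iff]
    intro x hx
    have : e x ∈ H.map e.toMonoidHom := (mem_map_equiv_iff e H x).mpr hx
    rw [hbot, Subgroup.mem_bot] at this
    rw [Subgroup.mem_bot]
    exact e.injective (this.trans (map_one e).symm)
  · intro htop
    apply h2
    rw [eq_top_iff]
    intro x _
    have : e x ∈ H.map e.toMonoidHom := htop ▸ Subgroup.mem_top _
    exact (mem_map_equiv_iff e H x).mp this
  · intro g' hg'
    obtain ⟨g, rfl⟩ := e.surjective g'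
    have hg : g ∉ H := fun hg => hg' ((mem_map_equiv_iff e H g).mpr hg)
    rw [eq_bot_iff]
    intro y hy
    obtain ⟨x, rfl⟩ := e.surjective y
    rw [Subgroup.mem_inf, mem_conj_smul, ← map_inv, ← map_mul, ← map_mul, mem_map_equiv_iff,
      mem_map_equiv_iff] at hy
    have hx : x ∈ H ⊓ MulAut.conj g • H := by
      rw [Subgroup.mem_inf, mem_conj_smul]; exact hy
    rw [h3 g hg, Subgroup.mem_bot] at hx
    rw [Subgroup.mem_bot, hx, map_one]

theorem frobeniusKernel_map_equiv (e : L ≃* L') (H : Subgroup L) :
    Cfsg.frobeniusKernel (H.map e.toMonoidHom) = e '' Cfsg.frobeniusKernel H := by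
  ext y
  obtain ⟨x, rfl⟩ := e.surjective y
  simp only [Cfsg.frobeniusKernel, Set.mem_ofPred_eq]
  rw [Set.mem_image]
  constructor
  · intro hx
    refine ⟨x, ?_, rfl⟩
    rcases hx with hx | hx
    · left
      exact e.injective (hx.trans (map_one e).symm)
    · right
      intro g hg
      apply hx (e g)
      rw [mem_conj_smul, ← map_inv, ← map_mul, ← map_mul, mem_map_equiv_iff]
      exact (mem_conj_smul H g x).mp hg
  · rintro ⟨x', hx', hxx⟩
    have : x' = x := e.injective hxx
    subst this
    rcases hx' with hx | hx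
    · left; rw [hx, map_one]
    · right
      intro g' hg'
      obtain ⟨g, rfl⟩ := e.surjective g'
      apply hx g
      rw [mem_conj_smul, ← map_inv, ← map_mul, ← map_mul, mem_map_equiv_iff] at hg'
      exact (mem_conj_smul H g x').mpr hg'

/-- Every finite group has an isomorphic copy living in `Type`. -/
theorem exists_type0_copy (L : Type*) [Group L] [Finite L] :
    ∃ (L' : Type) (_ : Group L') (_ : Finite L'), Nonempty (L ≃* L') := by
  let e : L ≃ {i : ℕ // i < Nat.card L} := (Finite.equivFin L).trans Fin.equivSubtype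
  let _ : Group {i : ℕ // i < Nat.card L} := e.symm.group
  exact ⟨{i : ℕ // i < Nat.card L}, inferInstance, Finite.of_equiv _ e,
    ⟨(e.symm.mulEquiv).symm⟩⟩

end Transport

section Master

open SemidirectProduct

/-- **Master construction.** A finite nontrivial group `C` acting fixed-point-freely by
automorphisms on a finite nontrivial group `N` is (isomorphic to) a Frobenius complement of a
finite group living in `Type`, with Frobenius kernel of size `|N|`. -/
theorem exists_frobenius_of_fpf_mulAut {C N : Type*} [Group C] [Group N] [Finite C] [Finite N]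
    [Nontrivial C] [Nontrivial N] (φ : C →* MulAut N)
    (hfpf : ∀ c : C, c ≠ 1 → ∀ n : N, φ c n = n → n = 1) :
    ∃ (L : Type) (_ : Group L) (_ : Finite L) (H : Subgroup L),
      Cfsg.IsFrobeniusComplement H ∧ Nonempty (C ≃* H) ∧
        Nat.card (Cfsg.frobeniusKernel H) = Nat.card N := by
  have : Finite (N ⋊[φ] C) := Finite.of_equiv _ (equivProd (φ := φ)).symm
  obtain ⟨L', hG, hF, ⟨e⟩⟩ := exists_type0_copy (N ⋊[φ] C)
  refine ⟨L', hG, hF, ((inr : C →* N ⋊[φ] C).range).map e.toMonoidHom, ?_, ?_, ?_⟩
  · exact isFrobeniusComplement_map_equiv e _ (semidirect_isFrobeniusComplement φ hfpf)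
  · exact ⟨(MonoidHom.ofInjective (inr_injective (φ := φ))).trans (e.subgroupMap _)⟩
  · rw [frobeniusKernel_map_equiv, ← semidirect_card_frobeniusKernel φ hfpf]
    exact Nat.card_image_of_injective e.injective _

/-- Additive version: a fixed-point-free `DistribMulAction` on a finite additive group. -/
theorem exists_frobenius_of_fpf_distribMulAction {C V : Type*} [Group C] [AddGroup V]
    [DistribMulAction C V] [Finite C] [Finite V] [Nontrivial C] [Nontrivial V]
    (hfpf : ∀ c : C, c ≠ 1 → ∀ v : V, c • v = v → v = 0) :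
    ∃ (L : Type) (_ : Group L) (_ : Finite L) (H : Subgroup L),
      Cfsg.IsFrobeniusComplement H ∧ Nonempty (C ≃* H) ∧
        Nat.card (Cfsg.frobeniusKernel H) = Nat.card V := by
  let φ : C →* MulAut (Multiplicative V) :=
    (MulAutMultiplicative V).symm.toMonoidHom.comp (DistribMulAction.toAddAut C V)
  have hφ : ∀ c : C, c ≠ 1 → ∀ n : Multiplicative V, φ c n = n → n = 1 := by
    intro c hc n hn
    have h1 : c • (Multiplicative.toAdd n) = Multiplicative.toAdd n := by
      have := congrArg Multiplicative.toAdd hn
      exact this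
    have := hfpf c hc _ h1
    exact Multiplicative.toAdd.injective this
  have hcard : Nat.card (Multiplicative V) = Nat.card V := Nat.card_congr Multiplicative.toAdd
  rw [← hcard]
  exact exists_frobenius_of_fpf_mulAut φ hφ

/-- Ring version: a group mapping to the units of a finite ring `A` such that no non-identity
element has a nonzero fixed vector under left multiplication on `A`. -/
theorem exists_frobenius_of_units_hom {C A : Type*} [Group C] [Ring A] [Finite C] [Finite A]
    [Nontrivial C] [Nontrivial A] (ψ : C →* Aˣ)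
    (hfpf : ∀ c : C, c ≠ 1 → ∀ a : A, (ψ c : A) * a = a → a = 0) :
    ∃ (L : Type) (_ : Group L) (_ : Finite L) (H : Subgroup L),
      Cfsg.IsFrobeniusComplement H ∧ Nonempty (C ≃* H) ∧
        Nat.card (Cfsg.frobeniusKernel H) = Nat.card A := by
  letI : DistribMulAction C A := DistribMulAction.compHom A ψ
  apply exists_frobenius_of_fpf_distribMulAction
  intro c hc a ha
  apply hfpf c hc a
  have : c • a = (ψ c : A) * a := rfl
  rw [← this]; exact ha

end Master

end Cfsg.Agent.Lib.Helper71_Frobenius
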