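import Mathlib
import Cfsg.Prelude.Def_OddOrderLocal
import Cfsg.Agent.S1474
import Cfsg.Agent.Lib.Helper84_RelSylow

/-!
# Bookkeeping for the types of maximal subgroups (helper11)

General lemmas used to pass between the standard factorisation `M = K U M_σ` of a maximal subgroup
of a minimal simple group of odd order and the type-`P` data `(W₁, U, W₂)`.
-/

set_option autoImplicit false

namespace Cfsg.Agent.Lib.Helper11_BGTypes

open Cfsg Subgroup Cfsg.Agent.Lib.Helper84_RelSylow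
open scoped Pointwise

variable {G : Type*} [Group G]

/-- elements of `A ⊔ B` when `A` normalizes `B` -/
theorem mem_sup_of_le_normalizer {A B : Subgroup G} (h : A ≤ normalizer (B : Set G)) {x : G} :
    x ∈ A ⊔ B ↔ ∃ a ∈ A, ∃ b ∈ B, x = a * b := by
  rw [← SetLike.mem_coe, coe_mul_of_left_le_normalizer_right A B h, Set.mem_mul]
  constructor
  · rintro ⟨a, ha, b, hb, rfl⟩
    exact ⟨a, ha, b, hb, rfl⟩
  · rintro ⟨a, ha, b, hb, rfl⟩
    exact ⟨a, ha, b, hb, rfl⟩

/-- elements of `B ⊔ A` when `A` normalizes `B` -/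
theorem mem_sup_of_le_normalizer' {A B : Subgroup G} (h : A ≤ normalizer (B : Set G)) {x : G} :
    x ∈ B ⊔ A ↔ ∃ b ∈ B, ∃ a ∈ A, x = b * a := by
  rw [← SetLike.mem_coe, coe_mul_of_right_le_normalizer_left B A h, Set.mem_mul]
  constructor
  · rintro ⟨a, ha, b, hb, rfl⟩
    exact ⟨a, ha, b, hb, rfl⟩
  · rintro ⟨a, ha, b, hb, rfl⟩
    exact ⟨a, ha, b, hb, rfl⟩

/-- a Hall subgroup has order coprime to its index -/
theorem coprime_of_isPiHallOf {π : Set ℕ} {K M : Subgroup G} (h : IsPiHallOf π K M) :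
    (Nat.card K).Coprime (K.relIndex M) :=
  Nat.coprime_of_dvd (fun p hp h1 h2 => h.2.2 p hp (h.2.1 p hp h1) h2)

/-- two subgroups with orders having no common prime meet trivially -/
theorem inf_eq_bot_of_forall_prime [Finite G] {A B : Subgroup G}
    (h : ∀ p : ℕ, p.Prime → p ∣ Nat.card A → ¬ p ∣ Nat.card B) : A ⊓ B = ⊥ := by
  have hcop : (Nat.card A).Coprime (Nat.card B) := Nat.coprime_of_dvd h
  exact (Subgroup.disjoint_of_coprime_natCard hcop).eq_bot

/-- the join of two commuting cyclic subgroups of coprime orders is cyclic -/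
theorem isCyclic_sup [Finite G] {A B : Subgroup G} (hA : IsCyclic A) (hB : IsCyclic B)
    (hcomm : ∀ a ∈ A, ∀ b ∈ B, a * b = b * a) (hcop : (Nat.card A).Coprime (Nat.card B)) :
    IsCyclic ↥(A ⊔ B) := by
  obtain ⟨⟨a, haA⟩, ha⟩ := hA.exists_generator
  obtain ⟨⟨b, hbB⟩, hb⟩ := hB.exists_generator
  have hoa : orderOf a = Nat.card A := by
    have := orderOf_eq_card_of_forall_mem_zpowers ha
    rwa [Subgroup.orderOf_mk] at this
  have hob : orderOf b = Nat.card B := by
    have := orderOf_eq_card_of_forall_mem_zpowers hb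
    rwa [Subgroup.orderOf_mk] at this
  have hab : Commute a b := hcomm a haA b hbB
  have hoab : orderOf (a * b) = Nat.card A * Nat.card B := by
    rw [hab.orderOf_mul_eq_mul_orderOf_of_coprime (by rw [hoa, hob]; exact hcop), hoa, hob]
  have hle : zpowers (a * b) ≤ A ⊔ B := by
    rw [zpowers_le]
    exact mul_mem (mem_sup_left haA) (mem_sup_right hbB)
  have hBn : A ≤ normalizer (B : Set G) := by
    intro x hx
    rw [mem_normalizer_iff]
    intro y
    constructor
    · intro hy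
      have : x * y * x⁻¹ = y := by rw [hcomm x hx y hy]; group
      rw [this]; exact hy
    · intro hy
      have h1 : x * y = (x * y * x⁻¹) * x := by group
      have h2 := hcomm x hx _ hy
      have h3 : y = x * y * x⁻¹ := by
        have : x * y = x * (x * y * x⁻¹) := by rw [h2]; group
        exact mul_left_cancel this
      rw [h3]; exact hy
  have hcard : Nat.card ↥(A ⊔ B) ≤ Nat.card (zpowers (a * b)) := by
    rw [Nat.card_zpowers, hoab]
    have h1 : Nat.card ↥(A ⊔ B) = Nat.card ((A : Set G) * (B : Set G) : Set G) := by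
      rw [← coe_mul_of_left_le_normalizer_right A B hBn]
      rfl
    rw [h1]
    exact Set.natCard_mul_le
  have heq : zpowers (a * b) = A ⊔ B := Subgroup.eq_of_le_of_card_ge hle hcard
  rw [← heq]
  infer_instance


/-! ### Basic facts on `M_σ` and the standard factorisation -/

theorem sigmaCore_le (M : Subgroup G) : sigmaCore M ≤ M := Subgroup.map_subtype_le _

theorem le_normalizer_sigmaCore (M : Subgroup G) : M ≤ normalizer (sigmaCore M : Set G) := by
  intro m hm
  rw [mem_normalizer_iff]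
  intro x
  have hn : (piCore (sigma M) ↥M).Normal := inferInstance
  constructor
  · rintro ⟨y, hy, rfl⟩
    refine ⟨⟨m, hm⟩ * y * ⟨m, hm⟩⁻¹, hn.conj_mem y hy _, ?_⟩
    simp
  · rintro ⟨y, hy, hyx⟩
    refine ⟨⟨m, hm⟩⁻¹ * y * ⟨m, hm⟩, ?_, ?_⟩
    · have := hn.conj_mem y hy ⟨m, hm⟩⁻¹
      simpa using this
    · have : (M.subtype y : G) = m * x * m⁻¹ := hyx
      simp only [map_mul, map_inv, Subgroup.coe_subtype] at this ⊢
      rw [this]; group

theorem fittingHallOf_le (M : Subgroup G) : fittingHallOf M ≤ M := Subgroup.map_subtype_le _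

theorem le_normalizer_fittingHallOf (M : Subgroup G) :
    M ≤ normalizer (fittingHallOf M : Set G) := by
  intro m hm
  rw [mem_normalizer_iff]
  intro x
  have hn : (fittingHall ↥M).Normal := inferInstance
  constructor
  · rintro ⟨y, hy, rfl⟩
    refine ⟨⟨m, hm⟩ * y * ⟨m, hm⟩⁻¹, hn.conj_mem y hy _, ?_⟩
    simp
  · rintro ⟨y, hy, hyx⟩
    refine ⟨⟨m, hm⟩⁻¹ * y * ⟨m, hm⟩, ?_, ?_⟩
    · have := hn.conj_mem y hy ⟨m, hm⟩⁻¹
      simpa using this
    · have : (M.subtype y : G) = m * x * m⁻¹ := hyx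
      simp only [map_mul, map_inv, Subgroup.coe_subtype] at this ⊢
      rw [this]; group

/-- the prime divisors of `|M_σ|` lie in `σ(M)` -/
theorem prime_dvd_card_sigmaCore [Finite G] (M : Subgroup G) {p : ℕ} (hp : p.Prime)
    (h : p ∣ Nat.card (sigmaCore M)) : p ∈ sigma M := by
  have key := Cfsg.Agent.S1387.piGroup_sSup (G := ↥M) (sigma M)
    {N : Subgroup ↥M | N.Normal ∧ ∀ p : ℕ, p.Prime → p ∣ Nat.card N → p ∈ sigma M}
    (fun N hN => hN)
  apply key.2 p hp
  have : Nat.card (sigmaCore M) = Nat.card (piCore (sigma M) ↥M) :=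
    (Nat.card_congr ((piCore (sigma M) ↥M).equivMapOfInjective M.subtype
      M.subtype_injective).toEquiv).symm
  rw [this] at h
  exact h

/-- `K ∩ M_σ = 1` for a `κ(M)`-subgroup `K` -/
theorem inf_sigmaCore_eq_bot [Finite G] {M K : Subgroup G}
    (hK : ∀ p : ℕ, p.Prime → p ∣ Nat.card K → p ∈ kappa M) : K ⊓ sigmaCore M = ⊥ := by
  apply inf_eq_bot_of_forall_prime
  intro p hp h1 h2
  exact (hK p hp h1).2.2.1 (prime_dvd_card_sigmaCore M hp h2)

section Decomposition

variable [Finite G] {M K U : Subgroup G}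

set_option linter.unusedSectionVars false

theorem sd_K_le (h : IsSigmaDecomposition M K U) : K ≤ M := h.hall.1

theorem sd_U_le (h : IsSigmaDecomposition M K U) : U ≤ M := h.compl.1

theorem sd_K_inf (h : IsSigmaDecomposition M K U) : K ⊓ sigmaCore M = ⊥ :=
  inf_sigmaCore_eq_bot h.hall.2.1

theorem sd_K_normalizes (h : IsSigmaDecomposition M K U) :
    K ≤ normalizer (sigmaCore M : Set G) := (sd_K_le h).trans (le_normalizer_sigmaCore M)

theorem sd_U_normalizes (h : IsSigmaDecomposition M K U) :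
    U ≤ normalizer (sigmaCore M : Set G) := (sd_U_le h).trans (le_normalizer_sigmaCore M)

/-- `(U M_σ) ∩ K = 1` -/
theorem sd_sup_inf_K (h : IsSigmaDecomposition M K U) :
    (U ⊔ sigmaCore M) ⊓ K = ⊥ := by
  rw [eq_bot_iff]
  intro x hx
  obtain ⟨hx1, hx2⟩ := hx
  obtain ⟨u, hu, s, hs, rfl⟩ := (mem_sup_of_le_normalizer (sd_U_normalizes h)).mp hx1
  have hu' : u ∈ U ⊓ (K ⊔ sigmaCore M) := by
    refine ⟨hu, ?_⟩
    have : u = (u * s) * s⁻¹ := by group
    rw [this]
    exact mul_mem (mem_sup_left hx2) (mem_sup_right (inv_mem hs))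
  rw [h.compl.2.2.1, mem_bot] at hu'
  subst hu'
  rw [one_mul] at hx2 ⊢
  have : s ∈ K ⊓ sigmaCore M := ⟨hx2, hs⟩
  rw [(sd_K_inf h)] at this
  exact this

/-- `M = (U M_σ) K` -/
theorem sd_exists_mul (h : IsSigmaDecomposition M K U) {m : G} (hm : m ∈ M) :
    ∃ a ∈ U ⊔ sigmaCore M, ∃ k ∈ K, m = a * k := by
  obtain ⟨u, hu, b, hb, rfl⟩ := h.compl.2.2.2 m hm
  obtain ⟨s, hs, k, hk, rfl⟩ := (mem_sup_of_le_normalizer' (sd_K_normalizes h)).mp
    (by rw [sup_comm]; exact hb)
  exact ⟨u * s, mul_mem (mem_sup_left hu) (mem_sup_right hs), k, hk, by group⟩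

/-- `κ(M)` is nonempty when `K ≠ 1` -/
theorem sd_kappa_nonempty (h : IsSigmaDecomposition M K U) (hK1 : K ≠ ⊥) :
    (kappa M).Nonempty := by
  have hc : Nat.card K ≠ 1 := by
    intro hc
    exact hK1 (Subgroup.card_eq_one.mp hc)
  obtain ⟨p, hp, hpd⟩ := Nat.exists_prime_and_dvd hc
  exact ⟨p, h.hall.2.1 p hp hpd⟩

/-- `κ(M)` is empty when `K = 1` -/
theorem sd_kappa_eq_empty (h : IsSigmaDecomposition M K U) (hK1 : K = ⊥) :
    kappa M = ∅ := by
  rw [Set.eq_empty_iff_forall_notMem]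
  intro p hp
  have h1 := h.hall.2.2 p hp.1 hp
  rw [hK1, Subgroup.relIndex_bot_left] at h1
  exact h1 hp.2.1

end Decomposition


section TypeP

variable [Finite G] {M K U : Subgroup G}

set_option linter.unusedSectionVars false

/-- `K` centralizes, hence normalizes, `K* = M_σ ∩ C_G(K)` -/
theorem K_le_normalizer_Kstar (M K : Subgroup G) :
    K ≤ normalizer ((sigmaCore M ⊓ centralizer (K : Set G) : Subgroup G) : Set G) := by
  have key : ∀ k ∈ K, ∀ z : G, z ∈ sigmaCore M ⊓ centralizer (K : Set G) → k * z * k⁻¹ = z := by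
    intro k hk z hz
    have := (mem_centralizer_iff.mp hz.2) k hk
    rw [this]; group
  intro k hk
  rw [mem_normalizer_iff]
  intro y
  constructor
  · intro hy
    rw [key k hk y hy]; exact hy
  · intro hy
    have h1 := key k⁻¹ (inv_mem hk) _ hy
    have h2 : k⁻¹ * (k * y * k⁻¹) * k⁻¹⁻¹ = y := by group
    rw [h2] at h1
    rw [h1]; exact hy

/-- the type-`P` data `(K, U', K*)` from the standard factorisation -/
theorem typeP_of_decomposition (hKU : IsSigmaDecomposition M K U) (hK1 : K ≠ ⊥)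
    (h54 : sigmaCore M ⊓ centralizer (K : Set G) ≠ ⊥ ∧ (K ≠ ⊥ → ∀ k ∈ K, k ≠ 1 →
        M ⊓ centralizer ({k} : Set G) = K ⊔ (sigmaCore M ⊓ centralizer (K : Set G))))
    (h55b : sigmaCore M ≤ ⁅M, M⁆)
    (h56 : ⁅⁅M, M⁆, ⁅M, M⁆⁆ ≤ fittingOf M ∧
      fittingOf M = (M ⊓ centralizer (fittingHallOf M : Set G)) ⊔ fittingHallOf M ∧
      ((kappa M).Nonempty → fittingOf M ≤ ⁅M, M⁆))
    (h64 : IsCyclic ↥(sigmaCore M ⊓ centralizer (K : Set G)) ∧
      (sigmaCore M ⊓ centralizer (K : Set G)) ≠ ⊥ ∧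
      (sigmaCore M ⊓ centralizer (K : Set G)) ≤ fittingHallOf M ∧ ¬ IsCyclic (fittingHallOf M))
    (h65 : ⁅M, M⁆ = U ⊔ sigmaCore M ∧
      (sigmaCore M ⊓ centralizer (K : Set G)) ≤ ⁅⁅M, M⁆, ⁅M, M⁆⁆)
    (h70 : IsTISubset ((↑(K ⊔ (sigmaCore M ⊓ centralizer (K : Set G))) : Set G) \
        ((K : Set G) ∪ ↑(sigmaCore M ⊓ centralizer (K : Set G)))) ∧
      normalizer ((↑(K ⊔ (sigmaCore M ⊓ centralizer (K : Set G))) : Set G) \
        ((K : Set G) ∪ ↑(sigmaCore M ⊓ centralizer (K : Set G)))) =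
        K ⊔ (sigmaCore M ⊓ centralizer (K : Set G)))
    {U' : Subgroup G} (hU'n : Group.IsNilpotent U') (hU'K : K ≤ normalizer (U' : Set G))
    (hU'c : IsComplIn (fittingHallOf M) U' ⁅M, M⁆) :
    IsTypePWith M K U' (sigmaCore M ⊓ centralizer (K : Set G)) := by
  set Ks := sigmaCore M ⊓ centralizer (K : Set G) with hKs
  have hKsσ : Ks ≤ sigmaCore M := inf_le_left
  have hM'M : ⁅M, M⁆ ≤ M := by
    rw [h65.1]; exact sup_le (sd_U_le hKU) (sigmaCore_le M)
  have hcomm : ∀ a ∈ K, ∀ b ∈ Ks, a * b = b * a := by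
    intro a ha b hb
    exact (mem_centralizer_iff.mp hb.2) a ha
  have hcop : (Nat.card K).Coprime (Nat.card Ks) := by
    apply Nat.coprime_of_dvd
    intro p hp h1 h2
    have h3 : p ∈ kappa M := hKU.hall.2.1 p hp h1
    have h4 : p ∣ Nat.card (sigmaCore M) := dvd_trans h2 (Subgroup.card_dvd_of_le hKsσ)
    exact h3.2.2.1 (prime_dvd_card_sigmaCore M hp h4)
  have hZc : IsCyclic ↥(K ⊔ Ks) := isCyclic_sup hKU.cyclic h64.1 hcomm hcop
  have hM'K : ⁅M, M⁆ ⊓ K = ⊥ := by rw [h65.1]; exact sd_sup_inf_K hKU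
  refine
    { W₁_ne := hK1
      W₁_cyclic := hKU.cyclic
      W₁_hall := coprime_of_isPiHallOf hKU.hall
      W₁_compl := ⟨hM'M, sd_K_le hKU, hM'K, ?_⟩
      U_nilpotent := hU'n
      U_normal := hU'K
      U_compl := hU'c
      H_not_cyclic := h64.2.2.2
      derived_two_le := ?_
      fitting_eq := ?_
      fitting_le := h56.2.2 (sd_kappa_nonempty hKU hK1)
      W₂_le := le_inf h64.2.2.1 h65.2
      W₂_centralizer := ?_
      selfNormalizing := ⟨hK1, h64.2.1, ?_, hcomm, hZc, ?_⟩ }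
  · intro m hm
    obtain ⟨a, ha, k, hk, rfl⟩ := sd_exists_mul hKU hm
    exact ⟨a, by rw [h65.1]; exact ha, k, hk, rfl⟩
  · rw [sup_comm, ← h56.2.1]; exact h56.1
  · rw [sup_comm, ← h56.2.1]
  · intro x hx hx1
    ext y
    constructor
    · rintro ⟨hy1, hy2⟩
      have hyM : y ∈ M ⊓ centralizer ({x} : Set G) := ⟨hM'M hy1, hy2⟩
      rw [h54.2 hK1 x hx hx1] at hyM
      obtain ⟨k, hk, s, hs, rfl⟩ := (mem_sup_of_le_normalizer (K_le_normalizer_Kstar M K)).mp hyM
      have hsM' : s ∈ ⁅M, M⁆ := h55b (hKsσ hs)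
      have hkM' : k ∈ ⁅M, M⁆ := by
        have : k = (k * s) * s⁻¹ := by group
        rw [this]; exact mul_mem hy1 (inv_mem hsM')
      have hk1 : k ∈ ⁅M, M⁆ ⊓ K := ⟨hkM', hk⟩
      rw [hM'K, mem_bot] at hk1
      rw [hk1, one_mul]; exact hs
    · intro hy
      refine ⟨h55b (hKsσ hy), ?_⟩
      change y ∈ centralizer ({x} : Set G)
      rw [mem_centralizer_singleton_iff]
      exact ((mem_centralizer_iff.mp hy.2) x hx).symm
  · rw [eq_bot_iff]
    intro x hx
    have : x ∈ K ⊓ sigmaCore M := ⟨hx.1, hKsσ hx.2⟩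
    rw [sd_K_inf hKU] at this
    exact this
  · intro X hX hXne
    have hZcomm : ∀ a ∈ K ⊔ Ks, ∀ b ∈ K ⊔ Ks, a * b = b * a := by
      intro a ha b hb
      have := hZc.commGroup.mul_comm ⟨a, ha⟩ ⟨b, hb⟩
      exact congrArg Subtype.val this
    apply le_antisymm
    · intro g hg
      obtain ⟨x, hx⟩ := hXne
      by_contra hgZ
      have hgx : g * x * g⁻¹ ∈ X := (mem_set_normalizer_iff.mp hg x).mp hx
      have hgn : g ∉ normalizer ((↑(K ⊔ Ks) : Set G) \ ((K : Set G) ∪ ↑Ks)) := by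
        rw [h70.2]; exact hgZ
      have hx1 := h70.1 g hgn x (hX hx) (hX hgx)
      have hxK : x ∉ (K : Set G) ∪ ↑Ks := (hX hx).2
      apply hxK
      left
      rw [hx1]; exact K.one_mem
    · intro g hg
      rw [mem_set_normalizer_iff]
      intro h
      constructor
      · intro hh
        have hhZ : h ∈ K ⊔ Ks := (hX hh).1
        have : g * h * g⁻¹ = h := by rw [hZcomm g hg h hhZ]; group
        rw [this]; exact hh
      · intro hh
        have hhZ : g * h * g⁻¹ ∈ K ⊔ Ks := (hX hh).1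
        have hhZ' : h ∈ K ⊔ Ks := by
          have : h = g⁻¹ * (g * h * g⁻¹) * g := by group
          rw [this]; exact mul_mem (mul_mem (inv_mem hg) hhZ) hg
        have : g * h * g⁻¹ = h := by rw [hZcomm g hg h hhZ']; group
        rw [← this]; exact hh

end TypeP


section Converse

variable [Finite G] {M K : Subgroup G}

/-- if `A ≤ M` meets the normal subgroup `N` of `M` trivially then `|A|` divides `|M : N|` -/
theorem card_dvd_relIndex_of_inf_eq_bot {A N M : Subgroup G} (hAM : A ≤ M)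
    (hN : M ≤ normalizer (N : Set G)) (hNM : N ≤ M) (h : A ⊓ N = ⊥) :
    Nat.card A ∣ N.relIndex M := by
  have hn : (N.subgroupOf M).Normal := (Subgroup.normal_subgroupOf_iff_le_normalizer hNM).mpr hN
  have h1 := Subgroup.relIndex_dvd_index_of_normal (N.subgroupOf M) (A.subgroupOf M)
  have h2 : (N.subgroupOf M).relIndex (A.subgroupOf M) = Nat.card A := by
    have h3 : (N.subgroupOf M).subgroupOf (A.subgroupOf M) = ⊥ := by
      rw [Subgroup.subgroupOf_eq_bot, disjoint_iff, eq_bot_iff]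
      intro x hx
      rw [Subgroup.mem_inf, Subgroup.mem_subgroupOf, Subgroup.mem_subgroupOf] at hx
      have : (x : G) ∈ A ⊓ N := ⟨hx.2, hx.1⟩
      rw [h, Subgroup.mem_bot] at this
      rw [Subgroup.mem_bot]
      exact Subtype.ext this
    rw [Subgroup.relIndex, h3, Subgroup.index_bot]
    exact Nat.card_congr (Subgroup.subgroupOfEquivOfLe hAM).toEquiv
  rw [h2] at h1
  exact h1

/-- a maximal subgroup of type `P` has `κ(M) ≠ ∅`: the Hall `κ(M)`-subgroup is nontrivial -/
theorem K_ne_bot_of_typeP {W₁ U' W₂ : Subgroup G} (hP : IsTypePWith M W₁ U' W₂)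
    (hK : IsPiHallOf (kappa M) K M)
    (h50 : IsPiHallOf (sigma M) (sigmaCore M) M)
    (h55a : fittingHallOf M ≤ sigmaCore M) (h55b : sigmaCore M ≤ ⁅M, M⁆) : K ≠ ⊥ := by
  intro hK0
  have hW₁M : W₁ ≤ M := hP.W₁_compl.2.1
  have hc : Nat.card W₁ ≠ 1 := fun hc => hP.W₁_ne (Subgroup.card_eq_one.mp hc)
  obtain ⟨p, hp, hpd⟩ := Nat.exists_prime_and_dvd hc
  haveI : Fact p.Prime := ⟨hp⟩
  have hpM : p ∣ Nat.card M := dvd_trans hpd (Subgroup.card_dvd_of_le hW₁M)
  have hW₁σ : W₁ ⊓ sigmaCore M = ⊥ := by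
    rw [eq_bot_iff]
    intro x hx
    have : x ∈ ⁅M, M⁆ ⊓ W₁ := ⟨h55b hx.2, hx.1⟩
    rw [hP.W₁_compl.2.2.1] at this
    exact this
  have hpκ : p ∈ kappa M := by
    refine ⟨hp, hpM, ?_, ?_⟩
    · intro hpσ
      apply h50.2.2 p hp hpσ
      exact dvd_trans hpd (card_dvd_relIndex_of_inf_eq_bot hW₁M (le_normalizer_sigmaCore M)
        (sigmaCore_le M) hW₁σ)
    · intro P
      have hT : IsSylowIn p ((P : Subgroup ↥M).map M.subtype) M := isSylowIn_of_sylow P
      obtain ⟨Q, -, hQ⟩ := exists_isSylowIn_ge (p := p) (H := W₁) (K := ⊥) bot_le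
        (IsPGroup.of_bot)
      have hQM : IsSylowIn p Q M := by
        refine ⟨hQ.1.trans hW₁M, hQ.2.1, ?_⟩
        rw [← Subgroup.relIndex_mul_relIndex Q W₁ M hQ.1 hW₁M]
        intro hdvd
        rcases (Nat.Prime.dvd_mul hp).mp hdvd with h1 | h1
        · exact hQ.2.2 h1
        · exact (Nat.Prime.coprime_iff_not_dvd hp).mp
            (Nat.Coprime.coprime_dvd_left hpd hP.W₁_hall) h1
      obtain ⟨g, hgM, hg⟩ := hQM.exists_conj_le hT.le hT.isPGroup
      -- the conjugation map `P → W₁`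
      have hmem : ∀ x : (P : Subgroup ↥M), g * ((x : ↥M) : G) * g⁻¹ ∈ W₁ := by
        intro x
        exact hQ.1 (hg _ ⟨(x : ↥M), x.2, rfl⟩)
      let f : (P : Subgroup ↥M) →* W₁ :=
        { toFun := fun x => ⟨g * ((x : ↥M) : G) * g⁻¹, hmem x⟩
          map_one' := by
            apply Subtype.ext
            simp
          map_mul' := by
            intro x y
            apply Subtype.ext
            simp only [Subgroup.coe_mul]
            group }
      have hf : Function.Injective f := by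
        intro x y hxy
        have h1 : g * ((x : ↥M) : G) * g⁻¹ = g * ((y : ↥M) : G) * g⁻¹ := congrArg Subtype.val hxy
        have h2 : ((x : ↥M) : G) = ((y : ↥M) : G) := by
          have := mul_right_cancel h1
          exact mul_left_cancel this
        exact Subtype.ext (Subtype.ext h2)
      haveI := hP.W₁_cyclic
      refine ⟨isCyclic_of_injective f hf, ?_⟩
      have hPne : (P : Subgroup ↥M) ≠ ⊥ := P.ne_bot_of_dvd_card hpM
      obtain ⟨x, hx1⟩ := (Subgroup.ne_bot_iff_exists_ne_one.mp hPne)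
      have hxP' : (x : ↥M) ∈ (P : Subgroup ↥M) := x.2
      have hxne : ((x : ↥M) : G) ≠ 1 := by
        intro h
        apply hx1
        apply Subtype.ext
        apply Subtype.ext
        exact h
      have hqW : g * ((x : ↥M) : G) * g⁻¹ ∈ W₁ := hmem x
      have hq1 : g * ((x : ↥M) : G) * g⁻¹ ≠ 1 := by
        intro h
        apply hxne
        have h2 : ((x : ↥M) : G) = g⁻¹ * (g * ((x : ↥M) : G) * g⁻¹) * g := by group
        rw [h2, h]; group
      have hcen := hP.W₂_centralizer _ hqW hq1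
      obtain ⟨y, hy1⟩ := (Subgroup.ne_bot_iff_exists_ne_one.mp hP.selfNormalizing.2.1)
      have hyW' : (y : G) ∈ W₂ := y.2
      have hyne : (y : G) ≠ 1 := by
        intro h
        apply hy1
        apply Subtype.ext
        exact h
      have hyσ : (y : G) ∈ sigmaCore M := h55a (hP.W₂_le hyW').1
      have hyc : (y : G) ∈ ⁅M, M⁆ ⊓ centralizer ({g * ((x : ↥M) : G) * g⁻¹} : Set G) := by
        rw [hcen]; exact hyW'
      have hycomm : (y : G) * (g * ((x : ↥M) : G) * g⁻¹) = (g * ((x : ↥M) : G) * g⁻¹) * (y : G) :=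
        (mem_centralizer_singleton_iff.mp hyc.2)
      have hginv : g⁻¹ ∈ normalizer (sigmaCore M : Set G) :=
        le_normalizer_sigmaCore M (inv_mem hgM)
      refine ⟨(x : ↥M), hxP', ?_, g⁻¹ * (y : G) * g, ?_, ?_, ?_⟩
      · intro h
        apply hx1
        apply Subtype.ext
        exact h
      · have := (mem_normalizer_iff.mp hginv (y : G)).mp hyσ
        simpa using this
      · intro h
        apply hyne
        have h2 : (y : G) = g * (g⁻¹ * (y : G) * g) * g⁻¹ := by group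
        rw [h2, h]; group
      · have h1 : ((x : ↥M) : G) * (g⁻¹ * (y : G) * g)
            = g⁻¹ * ((g * ((x : ↥M) : G) * g⁻¹) * (y : G)) * g := by group
        have h2 : (g⁻¹ * (y : G) * g) * ((x : ↥M) : G)
            = g⁻¹ * ((y : G) * (g * ((x : ↥M) : G) * g⁻¹)) * g := by group
        rw [h1, h2, hycomm]
  have h1 := hK.2.2 p hp hpκ
  rw [hK0, Subgroup.relIndex_bot_left] at h1
  exact h1 hpM

end Converse

end Cfsg.Agent.Lib.Helper11_BGTypes
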