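import Mathlib
import Cfsg.Prelude.Def_OddOrderLocal
import Cfsg.Agent.Lib.Helper11_BGTypes
import Cfsg.Agent.Lib.Helper24_CoprimeHall
import Cfsg.Agent.Lib.Helper49_Sigma

/-!
# Bookkeeping for the types of maximal subgroups, part 2 (helper11)

Complements of `M_F` in `M'`: nilpotency, conjugacy, invariant complements, normalizers.
-/

set_option autoImplicit false
set_option linter.style.haveILetI false

namespace Cfsg.Agent.Lib.Helper11_BGTypes2

open Cfsg Subgroup Cfsg.Agent.Lib.Helper84_RelSylow Cfsg.Agent.Lib.Helper11_BGTypes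
open scoped Pointwise

variable {G : Type*} [Group G]

/-- an element whose order is prime to the index of a normal subgroup lies in it -/
theorem mem_of_coprime_index [Finite G] (N : Subgroup G) [N.Normal] (x : G)
    (h : (orderOf x).Coprime N.index) : x ∈ N := by
  rw [← QuotientGroup.eq_one_iff]
  have h1 : orderOf (x : G ⧸ N) ∣ orderOf x := by
    apply orderOf_dvd_of_pow_eq_one
    rw [← QuotientGroup.mk_pow, pow_orderOf_eq_one]
    rfl
  have h2 : orderOf (x : G ⧸ N) ∣ N.index := by
    rw [Subgroup.index_eq_card]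
    exact orderOf_dvd_natCard _
  have h3 : orderOf (x : G ⧸ N) ∣ 1 := by
    have := Nat.dvd_gcd h1 h2
    rwa [Nat.Coprime.gcd_eq_one h] at this
  exact orderOf_eq_one_iff.mp (Nat.dvd_one.mp h3)

/-- `|M_F|` is prime to `|M : M_F|` -/
theorem fittingHallOf_coprime [Finite G] (M : Subgroup G) :
    (Nat.card (fittingHallOf M)).Coprime ((fittingHallOf M).relIndex M) := by
  have h := Cfsg.Agent.S1387.fittingHall_coprime ↥M
  have h1 : Nat.card (fittingHallOf M) = Nat.card (fittingHall ↥M) :=
    Subgroup.card_map_of_injective M.subtype_injective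
  have h2 : (fittingHallOf M).relIndex M = (fittingHall ↥M).index := by
    unfold Subgroup.relIndex fittingHallOf Subgroup.subgroupOf
    rw [Subgroup.comap_map_eq_self_of_injective M.subtype_injective]
  rw [h1, h2]
  exact h

/-- `M_F` is nilpotent -/
theorem fittingHallOf_nilpotent [Finite G] (M : Subgroup G) :
    Group.IsNilpotent (fittingHallOf M) := by
  haveI : Group.IsNilpotent (fittingHall ↥M) := Cfsg.Agent.S1474.fittingHall_nilpotent
  exact Group.nilpotent_of_mulEquiv
    ((fittingHall ↥M).equivMapOfInjective M.subtype M.subtype_injective)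

/-- the derived subgroup of `↥M` maps onto `⁅M, M⁆` -/
theorem map_commutator_subtype (M : Subgroup G) :
    (commutator ↥M).map M.subtype = ⁅M, M⁆ := by
  rw [commutator_def, Subgroup.map_commutator, ← MonoidHom.range_eq_map, Subgroup.range_subtype]

/-- a subgroup of `M'` meeting `M_F` trivially is nilpotent when `M'/M_F` is -/
theorem nilpotent_of_inf_eq_bot {M U' : Subgroup G}
    (hnil : Group.IsNilpotent ↥((commutator ↥M).map (QuotientGroup.mk' (fittingHall ↥M))))
    (hU'M' : U' ≤ ⁅M, M⁆) (hdisj : fittingHallOf M ⊓ U' = ⊥) : Group.IsNilpotent U' := by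
  have hU'M : U' ≤ M := hU'M'.trans (Subgroup.commutator_le_self M)
  let φ : U' →* (↥M ⧸ fittingHall ↥M) :=
    (QuotientGroup.mk' (fittingHall ↥M)).comp (Subgroup.inclusion hU'M)
  have hinj : Function.Injective φ := by
    rw [injective_iff_map_eq_one]
    intro u hu
    have h1 : (Subgroup.inclusion hU'M u) ∈ fittingHall ↥M := by
      rw [← QuotientGroup.eq_one_iff]
      exact hu
    have h2 : (u : G) ∈ fittingHallOf M ⊓ U' :=
      ⟨⟨Subgroup.inclusion hU'M u, h1, rfl⟩, u.2⟩
    rw [hdisj, Subgroup.mem_bot] at h2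
    exact Subtype.ext h2
  have hrange : φ.range ≤ (commutator ↥M).map (QuotientGroup.mk' (fittingHall ↥M)) := by
    rintro _ ⟨u, rfl⟩
    have h1 : (u : G) ∈ (commutator ↥M).map M.subtype := by
      rw [map_commutator_subtype]; exact hU'M' u.2
    obtain ⟨v, hv, hvu⟩ := h1
    refine ⟨v, hv, ?_⟩
    have : v = Subgroup.inclusion hU'M u := Subtype.ext hvu
    rw [this]
    rfl
  have h3 : Group.IsNilpotent ↥φ.range := Cfsg.Agent.S3937.nilpotent_of_le hrange hnil
  exact (Group.isNilpotent_congr (MonoidHom.ofInjective hinj)).mpr h3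

/-- cardinality of a product decomposition with one factor normalized by the other -/
theorem card_mul_of_isComplIn [Finite G] {A B M : Subgroup G} (h : IsComplIn A B M)
    (hn : B ≤ normalizer (A : Set G)) : Nat.card A * Nat.card B = Nat.card M := by
  have h1 : A ⊔ B = M := by
    apply le_antisymm (sup_le h.1 h.2.1)
    intro m hm
    obtain ⟨a, ha, b, hb, rfl⟩ := h.2.2.2 m hm
    exact mul_mem (mem_sup_left ha) (mem_sup_right hb)
  rw [← h1]
  exact (Cfsg.Agent.Lib.Helper24_CoprimeHall.card_sup_of_disjoint' B A hn h.2.2.1).symm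

/-- a product decomposition from cardinalities -/
theorem isComplIn_of_card [Finite G] {A B M : Subgroup G} (hA : A ≤ M) (hB : B ≤ M)
    (hn : B ≤ normalizer (A : Set G)) (hdisj : A ⊓ B = ⊥)
    (hcard : Nat.card A * Nat.card B = Nat.card M) : IsComplIn A B M := by
  refine ⟨hA, hB, hdisj, ?_⟩
  have h1 : A ⊔ B = M := by
    apply Subgroup.eq_of_le_of_card_ge (sup_le hA hB)
    rw [Cfsg.Agent.Lib.Helper24_CoprimeHall.card_sup_of_disjoint' B A hn hdisj, hcard]
  intro m hm
  rw [← h1] at hm
  exact (mem_sup_of_le_normalizer' hn).mp hm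

theorem relIndex_mul_card' {H M : Subgroup G} (h : H ≤ M) :
    H.relIndex M * Nat.card H = Nat.card M := by
  have h1 := Subgroup.relIndex_mul_relIndex ⊥ H M bot_le h
  rw [Subgroup.relIndex_bot_left, Subgroup.relIndex_bot_left] at h1
  rw [mul_comm]; exact h1

/-- a nontrivial nilpotent subgroup `U'` of `M_σ` with `|M_F| |U'| = |M_σ|` has `N_G(U') ≤ M` -/
theorem normalizer_le_of_nilpotent [Finite G] {M U' : Subgroup G}
    (h50 : IsPiHallOf (sigma M) (sigmaCore M) M)
    (hU'σ : U' ≤ sigmaCore M) (hU'n : Group.IsNilpotent U') (hU'1 : U' ≠ ⊥)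
    (hcard : Nat.card (fittingHallOf M) * Nat.card U' = Nat.card (sigmaCore M)) :
    normalizer (U' : Set G) ≤ M := by
  have hc : Nat.card U' ≠ 1 := fun hc => hU'1 (Subgroup.card_eq_one.mp hc)
  obtain ⟨r, hr, hrd⟩ := Nat.exists_prime_and_dvd hc
  haveI : Fact r.Prime := ⟨hr⟩
  have hrσ : r ∈ sigma M :=
    prime_dvd_card_sigmaCore M hr (dvd_trans hrd (Subgroup.card_dvd_of_le hU'σ))
  have hHM : fittingHallOf M ≤ M := fittingHallOf_le M
  have hcardM : (fittingHallOf M).relIndex M * Nat.card (fittingHallOf M) = Nat.card M :=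
    relIndex_mul_card' hHM
  have hU'dvd : Nat.card U' ∣ (fittingHallOf M).relIndex M := by
    have h1 : Nat.card (sigmaCore M) ∣ Nat.card M := Subgroup.card_dvd_of_le (sigmaCore_le M)
    rw [← hcard, ← hcardM, mul_comm ((fittingHallOf M).relIndex M)] at h1
    exact Nat.dvd_of_mul_dvd_mul_left Nat.card_pos h1
  have hrH : ¬ r ∣ Nat.card (fittingHallOf M) := by
    intro h
    have h1 := Nat.dvd_gcd h (hrd.trans hU'dvd)
    rw [Nat.Coprime.gcd_eq_one (fittingHallOf_coprime M)] at h1
    exact hr.one_lt.ne' (Nat.dvd_one.mp h1)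
  let P : Sylow r U' := default
  set R : Subgroup G := (P : Subgroup U').map U'.subtype with hR
  have hN1 : normalizer (U' : Set G) ≤ normalizer (R : Set G) := by
    have hn : (P : Subgroup ↥U').Normal := inferInstance
    have : (P : Subgroup ↥U').Characteristic := P.characteristic_of_normal hn
    exact Cfsg.Agent.Lib.Helper24_CoprimeAction.normalizer_le_normalizer_map_of_characteristic _ _
  have hRU' : IsSylowIn r R U' := isSylowIn_of_sylow P
  have hU'M : U' ≤ M := hU'σ.trans (sigmaCore_le M)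
  have hrel : U'.relIndex (sigmaCore M) = Nat.card (fittingHallOf M) := by
    have h1 : U'.relIndex (sigmaCore M) * Nat.card U' = Nat.card (sigmaCore M) :=
      relIndex_mul_card' hU'σ
    rw [← hcard] at h1
    exact Nat.eq_of_mul_eq_mul_right Nat.card_pos h1
  have hRM : IsSylowIn r R M := by
    refine ⟨hRU'.le.trans hU'M, hRU'.isPGroup, ?_⟩
    rw [← Subgroup.relIndex_mul_relIndex R U' M hRU'.le hU'M,
      ← Subgroup.relIndex_mul_relIndex U' (sigmaCore M) M hU'σ (sigmaCore_le M), hrel]
    intro hdvd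
    rcases (Nat.Prime.dvd_mul hr).mp hdvd with h1 | h1
    · exact hRU'.not_dvd h1
    · rcases (Nat.Prime.dvd_mul hr).mp h1 with h2 | h2
      · exact hrH h2
      · exact h50.2.2 r hr hrσ h2
  obtain ⟨P₀, hP₀⟩ := Cfsg.Agent.Lib.Helper49_Sigma.exists_sylM_of_mem_sigma hrσ
  obtain ⟨P', hP', hRP'⟩ := Cfsg.Agent.Lib.Helper49_Sigma.exists_sylM_ge hP₀ hRM.isPGroup hRM.le
  have hPR : P' = R := hRM.eq_of_le hRP' hP'.2.1 hP'.1.isPGroup
  rw [hPR] at hP'
  exact hN1.trans hP'.2.2

/-- arithmetic: a Hall-type factorisation is determined by the primes -/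
theorem eq_of_mul_eq_mul_of_coprime {a b c d : ℕ} (h : a * b = c * d) (hab : a.Coprime b)
    (hca : c.Coprime a) (hd : ∀ p : ℕ, p.Prime → p ∣ d → p ∣ a) : d = a := by
  have h1 : a ∣ d := by
    have : a ∣ c * d := Dvd.intro _ h
    exact (Nat.Coprime.dvd_mul_left hca.symm).mp this
  have h2 : d ∣ a := by
    have h3 : d ∣ a * b := by rw [h]; exact Dvd.intro_left _ rfl
    have h4 : d.Coprime b := by
      apply Nat.coprime_of_dvd
      intro p hp hpd hpb
      have h5 := Nat.dvd_gcd (hd p hp hpd) hpb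
      rw [Nat.Coprime.gcd_eq_one hab] at h5
      exact hp.one_lt.ne' (Nat.dvd_one.mp h5)
    exact (Nat.Coprime.dvd_mul_right h4).mp h3
  exact Nat.dvd_antisymm h2 h1

/-- a `K`-invariant complement of `M_F` in `M_σ` -/
theorem exists_invariant_compl [Finite G] {M K : Subgroup G}
    (hsolv : Group.IsSolvable (sigmaCore M))
    (hKn : K ≤ normalizer (sigmaCore M : Set G))
    (hcop : (Nat.card K).Coprime (Nat.card (sigmaCore M)))
    (hHσ : fittingHallOf M ≤ sigmaCore M) :
    ∃ U' : Subgroup G, U' ≤ sigmaCore M ∧ K ≤ normalizer (U' : Set G) ∧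
      fittingHallOf M ⊓ U' = ⊥ ∧
      Nat.card (fittingHallOf M) * Nat.card U' = Nat.card (sigmaCore M) := by
  obtain ⟨U', hU', hKU'⟩ := Cfsg.Agent.Lib.Helper24_CoprimeHall.exists_invariant_piHall K
    (sigmaCore M) hKn hcop hsolv {p | ¬ p ∣ Nat.card (fittingHallOf M)}
  have hdisj : fittingHallOf M ⊓ U' = ⊥ := by
    apply inf_eq_bot_of_forall_prime
    intro p hp h1 h2
    exact hU'.2.1 p hp h2 h1
  refine ⟨U', hU'.1, hKU', hdisj, ?_⟩
  have hcopH : (Nat.card (fittingHallOf M)).Coprime ((fittingHallOf M).relIndex (sigmaCore M)) := by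
    have h1 := fittingHallOf_coprime M
    have h2 : (fittingHallOf M).relIndex (sigmaCore M) ∣ (fittingHallOf M).relIndex M :=
      Dvd.intro _ (Subgroup.relIndex_mul_relIndex _ _ _ hHσ (sigmaCore_le M))
    exact Nat.Coprime.coprime_dvd_right h2 h1
  have hmul : Nat.card U' * (Nat.card (sigmaCore M) / Nat.card U') = Nat.card (sigmaCore M) :=
    Nat.mul_div_cancel' (Subgroup.card_dvd_of_le hU'.1)
  have hmulH : Nat.card (fittingHallOf M) * (fittingHallOf M).relIndex (sigmaCore M)
      = Nat.card (sigmaCore M) := by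
    rw [mul_comm]; exact relIndex_mul_card' hHσ
  have key : Nat.card (sigmaCore M) / Nat.card U' = Nat.card (fittingHallOf M) := by
    apply eq_of_mul_eq_mul_of_coprime (b := (fittingHallOf M).relIndex (sigmaCore M))
      (c := Nat.card U')
    · rw [hmulH, hmul]
    · exact hcopH
    · apply Nat.coprime_of_dvd
      intro p hp h1 h2
      exact hU'.2.1 p hp h1 h2
    · intro p hp h1
      by_contra h2
      exact hU'.2.2 p hp h2 h1
  rw [← key, mul_comm]
  exact hmul

/-- two complements of `M_F` in a solvable `M' ≤ M` are conjugate under `M'` -/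
theorem exists_conj_of_compl [Finite G] {M D U₁ U₂ : Subgroup G} (hDM : D ≤ M)
    (hsolv : Group.IsSolvable D)
    (h₁ : IsComplIn (fittingHallOf M) U₁ D) (h₂ : IsComplIn (fittingHallOf M) U₂ D) :
    ∃ g ∈ D, U₁.map (MulAut.conj g).toMonoidHom = U₂ := by
  have hn : ∀ U : Subgroup G, U ≤ D → U ≤ normalizer (fittingHallOf M : Set G) :=
    fun U hU => (hU.trans hDM).trans (le_normalizer_fittingHallOf M)
  have hcopH : (Nat.card (fittingHallOf M)).Coprime ((fittingHallOf M).relIndex D) := by
    have h1 := fittingHallOf_coprime M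
    have h2 : (fittingHallOf M).relIndex D ∣ (fittingHallOf M).relIndex M :=
      Dvd.intro _ (Subgroup.relIndex_mul_relIndex _ _ _ h₁.1 hDM)
    exact Nat.Coprime.coprime_dvd_right h2 h1
  have hmulH : Nat.card (fittingHallOf M) * (fittingHallOf M).relIndex D = Nat.card D := by
    rw [mul_comm]; exact relIndex_mul_card' h₁.1
  have key : ∀ U : Subgroup G, IsComplIn (fittingHallOf M) U D →
      Cfsg.Agent.Lib.Helper24_CoprimeHall.PiHall {p | ¬ p ∣ Nat.card (fittingHallOf M)} U D := by
    intro U hU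
    have hc := card_mul_of_isComplIn hU (hn U hU.2.1)
    have hUrel : Nat.card U = (fittingHallOf M).relIndex D := by
      have : Nat.card (fittingHallOf M) * Nat.card U
          = Nat.card (fittingHallOf M) * (fittingHallOf M).relIndex D := by rw [hc, hmulH]
      exact Nat.eq_of_mul_eq_mul_left Nat.card_pos this
    refine ⟨hU.2.1, ?_, ?_⟩
    · intro p hp h1 h2
      rw [hUrel] at h1
      have h3 := Nat.dvd_gcd h2 h1
      rw [Nat.Coprime.gcd_eq_one hcopH] at h3
      exact hp.one_lt.ne' (Nat.dvd_one.mp h3)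
    · intro p hp h1 h2
      apply h1
      have : Nat.card D / Nat.card U = Nat.card (fittingHallOf M) := by
        rw [← hc]
        exact Nat.mul_div_cancel _ Nat.card_pos
      rw [this] at h2
      exact h2
  exact Cfsg.Agent.Lib.Helper24_CoprimeHall.piHall_conj hsolv (key U₁ h₁) (key U₂ h₂)

/-- conjugating by an element of `M` does not change whether the normalizer lies in `M` -/
theorem normalizer_le_of_conj {M U₁ U₂ : Subgroup G} {g : G} (hg : g ∈ M)
    (hconj : U₁.map (MulAut.conj g).toMonoidHom = U₂)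
    (h : normalizer (U₂ : Set G) ≤ M) : normalizer (U₁ : Set G) ≤ M := by
  intro n hn
  have h1 : g * n * g⁻¹ ∈ normalizer (U₂ : Set G) := by
    rw [← hconj, mem_normalizer_iff]
    intro x
    have hx : ∀ y : G, y ∈ U₁.map (MulAut.conj g).toMonoidHom ↔ g⁻¹ * y * g ∈ U₁ := by
      intro y
      constructor
      · rintro ⟨z, hz, rfl⟩
        have : g⁻¹ * ((MulAut.conj g).toMonoidHom z) * g = z := by
          simp only [MulEquiv.toMonoidHom_eq_coe, MonoidHom.coe_coe, MulAut.conj_apply]
          group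
        rw [this]; exact hz
      · intro hy
        refine ⟨g⁻¹ * y * g, hy, ?_⟩
        simp [MulAut.conj_apply, mul_assoc]
    rw [hx, hx]
    have h2 := (mem_normalizer_iff.mp hn) (g⁻¹ * x * g)
    have h3 : g⁻¹ * (g * n * g⁻¹ * x * (g * n * g⁻¹)⁻¹) * g = n * (g⁻¹ * x * g) * n⁻¹ := by
      group
    rw [h3]
    exact h2
  have h2 : g * n * g⁻¹ ∈ M := h h1
  have h3 : n = g⁻¹ * (g * n * g⁻¹) * g := by group
  rw [h3]
  exact M.mul_mem (M.mul_mem (M.inv_mem hg) h2) hg

end Cfsg.Agent.Lib.Helper11_BGTypes2
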