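import Mathlib
import Cfsg.Prelude.Def_OddOrderLocal
import Cfsg.Agent.Lib.Helper11_BGTypes2

/-!
# The types II, III/IV, V of maximal subgroups via the standard factorisation (helper11)

The three equivalences are proved from the conclusions of earlier statements of the chain, taken here
as explicit hypotheses for the given `M`, `K`, `U`.
-/

set_option autoImplicit false
set_option linter.style.haveILetI false

namespace Cfsg.Agent.Lib.Helper11_BGTypes3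

open Cfsg Subgroup Cfsg.Agent.Lib.Helper84_RelSylow Cfsg.Agent.Lib.Helper11_BGTypes
  Cfsg.Agent.Lib.Helper11_BGTypes2
open scoped Pointwise

variable {G : Type*} [Group G]

/-- `M_F ≤ F(M)` -/
theorem fittingHallOf_le_fittingOf (M : Subgroup G) : fittingHallOf M ≤ fittingOf M :=
  Subgroup.map_mono Cfsg.Agent.S1474.fittingHall_le_fitting

/-- `K ∩ M_F = 1` -/
theorem K_inf_fittingHallOf [Finite G] {M K U : Subgroup G} (hKU : IsSigmaDecomposition M K U)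
    (hHσ : fittingHallOf M ≤ sigmaCore M) : K ⊓ fittingHallOf M = ⊥ := by
  rw [eq_bot_iff]
  intro x hx
  have : x ∈ K ⊓ sigmaCore M := ⟨hx.1, hHσ hx.2⟩
  rw [sd_K_inf hKU] at this
  exact this

/-- `|K|` divides the exponent of `M / M_F` -/
theorem card_K_dvd_exponent [Finite G] {M K U : Subgroup G} (hKU : IsSigmaDecomposition M K U)
    (hHσ : fittingHallOf M ≤ sigmaCore M) :
    Nat.card K ∣ Monoid.exponent (↥M ⧸ fittingHall ↥M) := by
  obtain ⟨⟨k, hkK⟩, hk⟩ := hKU.cyclic.exists_generator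
  have hok : orderOf k = Nat.card K := by
    have := orderOf_eq_card_of_forall_mem_zpowers hk
    rwa [Subgroup.orderOf_mk] at this
  have hkM : k ∈ M := sd_K_le hKU hkK
  have h1 : orderOf k ∣ orderOf ((⟨k, hkM⟩ : ↥M) : ↥M ⧸ fittingHall ↥M) := by
    apply orderOf_dvd_of_pow_eq_one
    have h2 : (((⟨k, hkM⟩ : ↥M) ^ orderOf ((⟨k, hkM⟩ : ↥M) : ↥M ⧸ fittingHall ↥M) : ↥M) :
        ↥M ⧸ fittingHall ↥M) = 1 := by
      rw [QuotientGroup.mk_pow, pow_orderOf_eq_one]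
    rw [QuotientGroup.eq_one_iff] at h2
    have h3 : k ^ orderOf ((⟨k, hkM⟩ : ↥M) : ↥M ⧸ fittingHall ↥M) ∈ K ⊓ fittingHallOf M :=
      ⟨K.pow_mem hkK _, ⟨_, h2, rfl⟩⟩
    rw [K_inf_fittingHallOf hKU hHσ, Subgroup.mem_bot] at h3
    exact h3
  rw [← hok]
  exact h1.trans (Monoid.order_dvd_exponent _)

/-- the structural alternative for a non-TI `M_F` asked for by Type V, from the statement on
`F(M) ∩ F(M)^g ≠ 1` (only needed for `K ≠ 1`) -/
theorem typeV_alt_of_h40 [Finite G] {M K U : Subgroup G}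
    (hKU : IsSigmaDecomposition M K U) (hK1 : K ≠ ⊥)
    (hHσ : fittingHallOf M ≤ sigmaCore M)
    (hTI : ¬ IsTISubset (fittingHallOf M : Set G))
    (h40 : ∀ g : G, g ∉ M →
      fittingOf M ⊓ (fittingOf M).map (MulAut.conj g).toMonoidHom ≠ ⊥ →
      (fittingOf M ⊓ (fittingOf M).map (MulAut.conj g).toMonoidHom ≤ fittingHallOf M ∧ IsCyclic ↥(fittingOf M ⊓ (fittingOf M).map (MulAut.conj g).toMonoidHom)) ∧
      (⁅M, M⁆ = fittingOf M ∧ fittingOf M = sigmaCore M ⊔ piCoreOf {q | q.Prime ∧ q ∉ sigma M} (fittingOf M)) ∧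
      ((K = ⊥ ∧ IsMulCommutative (fittingHallOf M) ∧ RankLE 2 (fittingHallOf M) ∧ ¬ RankLE 1 (fittingHallOf M)) ∨
       (∃ p : ℕ, p.Prime ∧ Nat.card ↥(fittingOf M ⊓ (fittingOf M).map (MulAut.conj g).toMonoidHom) = p ∧ p ∈ sigma M ∧ p ∉ beta M ∧
          ¬ IsMulCommutative (pCore p ↥(fittingHallOf M)) ∧ IsCyclic (pPrimeCore p ↥(fittingHallOf M)) ∧
          ∀ q : ℕ, q.Prime → q ∣ Nat.card (fittingHallOf M) → Monoid.exponent (↥M ⧸ fittingHall ↥M) ∣ q - 1) ∨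
       (∃ p : ℕ, p.Prime ∧ Nat.card ↥(fittingOf M ⊓ (fittingOf M).map (MulAut.conj g).toMonoidHom) = p ∧ p ∈ sigma M ∧ p ∉ beta M ∧
          IsCyclic (pPrimeCore p ↥(fittingHallOf M)) ∧ Nat.card (pCore p ↥(fittingHallOf M)) = p ^ 3 ∧
          ¬ IsMulCommutative (pCore p ↥(fittingHallOf M)) ∧ K ≠ ⊥ ∧ U = ⊥ ∧ (fittingHallOf M).relIndex M ∣ p + 1))) :
    (∃ p : ℕ, p.Prime ∧ p ∣ Nat.card (fittingHallOf M) ∧ Nat.card K ∣ p - 1 ∧
        IsCyclic (pPrimeCore p (fittingHallOf M))) ∨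
      (∃ p : ℕ, p.Prime ∧ p ∣ Nat.card (fittingHallOf M) ∧ Nat.card (pCore p (fittingHallOf M)) = p ^ 3 ∧
        Nat.card K ∣ p + 1 ∧ IsCyclic (pPrimeCore p (fittingHallOf M))) := by
  unfold IsTISubset at hTI
  push Not at hTI
  obtain ⟨g, hg, x, hx, hgx, hx1⟩ := hTI
  have hgM : g ∉ M := fun h => hg (le_normalizer_fittingHallOf M h)
  have hX : fittingOf M ⊓ (fittingOf M).map (MulAut.conj g).toMonoidHom ≠ ⊥ := by
    intro h0
    have h1 : g * x * g⁻¹ ∈ fittingOf M ⊓ (fittingOf M).map (MulAut.conj g).toMonoidHom :=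
      ⟨fittingHallOf_le_fittingOf M hgx, ⟨x, fittingHallOf_le_fittingOf M hx, rfl⟩⟩
    rw [h0, Subgroup.mem_bot] at h1
    apply hx1
    have h2 : x = g⁻¹ * (g * x * g⁻¹) * g := by group
    rw [h2, h1]; group
  obtain ⟨⟨hXH, -⟩, -, h3⟩ := h40 g hgM hX
  rcases h3 with ⟨hK0, -⟩ | ⟨p, hp, hc, -, -, -, hcyc, hexp⟩ |
    ⟨p, hp, hc, -, -, hcyc, hcard, -, -, -, hrel⟩
  · exact absurd hK0 hK1
  · left
    have hpH : p ∣ Nat.card (fittingHallOf M) := by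
      rw [← hc]; exact Subgroup.card_dvd_of_le hXH
    exact ⟨p, hp, hpH, (card_K_dvd_exponent hKU hHσ).trans (hexp p hp hpH), hcyc⟩
  · right
    have hpH : p ∣ Nat.card (fittingHallOf M) := by
      rw [← hc]; exact Subgroup.card_dvd_of_le hXH
    refine ⟨p, hp, hpH, hcard, ?_, hcyc⟩
    exact (card_dvd_relIndex_of_inf_eq_bot (sd_K_le hKU) (le_normalizer_fittingHallOf M)
      (fittingHallOf_le M) (K_inf_fittingHallOf hKU hHσ)).trans hrel

/-- Type V, with the structure of a non-TI `M_F` as an explicit hypothesis `hV` (only asked for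
`K ≠ 1`, `U = 1`, `M_F = M_σ`) -/
theorem typeV_iff' [Finite G] {M K U : Subgroup G}
    (hKU : IsSigmaDecomposition M K U)
    (h50 : IsPiHallOf (sigma M) (sigmaCore M) M)
    (h54 : sigmaCore M ⊓ centralizer (K : Set G) ≠ ⊥ ∧ (K ≠ ⊥ → ∀ k ∈ K, k ≠ 1 →
        M ⊓ centralizer ({k} : Set G) = K ⊔ (sigmaCore M ⊓ centralizer (K : Set G))))
    (h55 : fittingHallOf M ≠ ⊥ ∧ fittingHallOf M ≤ sigmaCore M ∧ sigmaCore M ≤ ⁅M, M⁆ ∧ ⁅M, M⁆ < M ∧
      Group.IsNilpotent ↥((commutator ↥M).map (QuotientGroup.mk' (fittingHall ↥M))))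
    (h56 : ⁅⁅M, M⁆, ⁅M, M⁆⁆ ≤ fittingOf M ∧
      fittingOf M = (M ⊓ centralizer (fittingHallOf M : Set G)) ⊔ fittingHallOf M ∧
      ((kappa M).Nonempty → fittingOf M ≤ ⁅M, M⁆))
    (h64 : K ≠ ⊥ → IsCyclic ↥(sigmaCore M ⊓ centralizer (K : Set G)) ∧
      (sigmaCore M ⊓ centralizer (K : Set G)) ≠ ⊥ ∧
      (sigmaCore M ⊓ centralizer (K : Set G)) ≤ fittingHallOf M ∧ ¬ IsCyclic (fittingHallOf M))
    (h65 : K ≠ ⊥ → ⁅M, M⁆ = U ⊔ sigmaCore M ∧
      (sigmaCore M ⊓ centralizer (K : Set G)) ≤ ⁅⁅M, M⁆, ⁅M, M⁆⁆)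
    (h70 : K ≠ ⊥ → IsTISubset ((↑(K ⊔ (sigmaCore M ⊓ centralizer (K : Set G))) : Set G) \
        ((K : Set G) ∪ ↑(sigmaCore M ⊓ centralizer (K : Set G)))) ∧
      normalizer ((↑(K ⊔ (sigmaCore M ⊓ centralizer (K : Set G))) : Set G) \
        ((K : Set G) ∪ ↑(sigmaCore M ⊓ centralizer (K : Set G)))) =
        K ⊔ (sigmaCore M ⊓ centralizer (K : Set G)))
    (hV : K ≠ ⊥ → U = ⊥ → fittingHallOf M = sigmaCore M →
      ¬ IsTISubset (fittingHallOf M : Set G) →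
      (∃ p : ℕ, p.Prime ∧ p ∣ Nat.card (fittingHallOf M) ∧ Nat.card K ∣ p - 1 ∧
          IsCyclic (pPrimeCore p (fittingHallOf M))) ∨
        (∃ p : ℕ, p.Prime ∧ p ∣ Nat.card (fittingHallOf M) ∧
          Nat.card (pCore p (fittingHallOf M)) = p ^ 3 ∧
          Nat.card K ∣ p + 1 ∧ IsCyclic (pPrimeCore p (fittingHallOf M)))) :
    IsOfTypeV M ↔ (K ≠ ⊥ ∧ U = ⊥ ∧ fittingHallOf M = sigmaCore M) := by
  constructor
  · rintro ⟨W₁, U', W₂, hP, hU', -⟩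
    have hK1 : K ≠ ⊥ := K_ne_bot_of_typeP hP hKU.hall h50 h55.2.1 h55.2.2.1
    have hM'H : ⁅M, M⁆ ≤ fittingHallOf M := by
      intro m hm
      obtain ⟨a, ha, b, hb, rfl⟩ := hP.U_compl.2.2.2 m hm
      rw [hU', Subgroup.mem_bot] at hb
      rw [hb, mul_one]; exact ha
    have hHσ : fittingHallOf M = sigmaCore M :=
      le_antisymm h55.2.1 (h55.2.2.1.trans hM'H)
    refine ⟨hK1, ?_, hHσ⟩
    have hUσ : U ≤ sigmaCore M := by
      rw [← hHσ]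
      refine le_trans ?_ hM'H
      rw [(h65 hK1).1]; exact le_sup_left
    rw [eq_bot_iff, ← hKU.compl.2.2.1]
    exact le_inf le_rfl (hUσ.trans le_sup_right)
  · rintro ⟨hK1, hU, hHσ⟩
    have hM'σ : ⁅M, M⁆ = sigmaCore M := by
      rw [(h65 hK1).1, hU, bot_sup_eq]
    have hcompl : IsComplIn (fittingHallOf M) ⊥ ⁅M, M⁆ := by
      refine ⟨by rw [hM'σ, hHσ], bot_le, inf_bot_eq _, ?_⟩
      intro m hm
      refine ⟨m, by rw [hHσ, ← hM'σ]; exact hm, 1, Subgroup.one_mem _, (mul_one m).symm⟩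
    have hbot : K ≤ normalizer ((⊥ : Subgroup G) : Set G) := by
      intro k _
      rw [mem_normalizer_iff]
      intro y
      rw [Subgroup.mem_bot, Subgroup.mem_bot]
      constructor
      · rintro rfl; group
      · intro h
        have : y = k⁻¹ * (k * y * k⁻¹) * k := by group
        rw [this, h]; group
    have hP : IsTypePWith M K ⊥ (sigmaCore M ⊓ centralizer (K : Set G)) :=
      typeP_of_decomposition hKU hK1 h54 h55.2.2.1 h56 (h64 hK1) (h65 hK1) (h70 hK1)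
        (U' := ⊥) inferInstance hbot hcompl
    refine ⟨K, ⊥, _, hP, rfl, ?_⟩
    by_cases hTI : IsTISubset (fittingHallOf M : Set G)
    · exact Or.inl hTI
    · exact Or.inr (hV hK1 hU hHσ hTI)

/-- Type V -/
theorem typeV_iff [Finite G] {M K U : Subgroup G}
    (hKU : IsSigmaDecomposition M K U)
    (h50 : IsPiHallOf (sigma M) (sigmaCore M) M)
    (h54 : sigmaCore M ⊓ centralizer (K : Set G) ≠ ⊥ ∧ (K ≠ ⊥ → ∀ k ∈ K, k ≠ 1 →
        M ⊓ centralizer ({k} : Set G) = K ⊔ (sigmaCore M ⊓ centralizer (K : Set G))))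
    (h55 : fittingHallOf M ≠ ⊥ ∧ fittingHallOf M ≤ sigmaCore M ∧ sigmaCore M ≤ ⁅M, M⁆ ∧ ⁅M, M⁆ < M ∧
      Group.IsNilpotent ↥((commutator ↥M).map (QuotientGroup.mk' (fittingHall ↥M))))
    (h56 : ⁅⁅M, M⁆, ⁅M, M⁆⁆ ≤ fittingOf M ∧
      fittingOf M = (M ⊓ centralizer (fittingHallOf M : Set G)) ⊔ fittingHallOf M ∧
      ((kappa M).Nonempty → fittingOf M ≤ ⁅M, M⁆))
    (h64 : K ≠ ⊥ → IsCyclic ↥(sigmaCore M ⊓ centralizer (K : Set G)) ∧
      (sigmaCore M ⊓ centralizer (K : Set G)) ≠ ⊥ ∧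
      (sigmaCore M ⊓ centralizer (K : Set G)) ≤ fittingHallOf M ∧ ¬ IsCyclic (fittingHallOf M))
    (h65 : K ≠ ⊥ → ⁅M, M⁆ = U ⊔ sigmaCore M ∧
      (sigmaCore M ⊓ centralizer (K : Set G)) ≤ ⁅⁅M, M⁆, ⁅M, M⁆⁆)
    (h70 : K ≠ ⊥ → IsTISubset ((↑(K ⊔ (sigmaCore M ⊓ centralizer (K : Set G))) : Set G) \
        ((K : Set G) ∪ ↑(sigmaCore M ⊓ centralizer (K : Set G)))) ∧
      normalizer ((↑(K ⊔ (sigmaCore M ⊓ centralizer (K : Set G))) : Set G) \
        ((K : Set G) ∪ ↑(sigmaCore M ⊓ centralizer (K : Set G)))) =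
        K ⊔ (sigmaCore M ⊓ centralizer (K : Set G)))
    (h40 : ∀ g : G, g ∉ M →
      fittingOf M ⊓ (fittingOf M).map (MulAut.conj g).toMonoidHom ≠ ⊥ →
      (fittingOf M ⊓ (fittingOf M).map (MulAut.conj g).toMonoidHom ≤ fittingHallOf M ∧ IsCyclic ↥(fittingOf M ⊓ (fittingOf M).map (MulAut.conj g).toMonoidHom)) ∧
      (⁅M, M⁆ = fittingOf M ∧ fittingOf M = sigmaCore M ⊔ piCoreOf {q | q.Prime ∧ q ∉ sigma M} (fittingOf M)) ∧
      ((K = ⊥ ∧ IsMulCommutative (fittingHallOf M) ∧ RankLE 2 (fittingHallOf M) ∧ ¬ RankLE 1 (fittingHallOf M)) ∨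
       (∃ p : ℕ, p.Prime ∧ Nat.card ↥(fittingOf M ⊓ (fittingOf M).map (MulAut.conj g).toMonoidHom) = p ∧ p ∈ sigma M ∧ p ∉ beta M ∧
          ¬ IsMulCommutative (pCore p ↥(fittingHallOf M)) ∧ IsCyclic (pPrimeCore p ↥(fittingHallOf M)) ∧
          ∀ q : ℕ, q.Prime → q ∣ Nat.card (fittingHallOf M) → Monoid.exponent (↥M ⧸ fittingHall ↥M) ∣ q - 1) ∨
       (∃ p : ℕ, p.Prime ∧ Nat.card ↥(fittingOf M ⊓ (fittingOf M).map (MulAut.conj g).toMonoidHom) = p ∧ p ∈ sigma M ∧ p ∉ beta M ∧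
          IsCyclic (pPrimeCore p ↥(fittingHallOf M)) ∧ Nat.card (pCore p ↥(fittingHallOf M)) = p ^ 3 ∧
          ¬ IsMulCommutative (pCore p ↥(fittingHallOf M)) ∧ K ≠ ⊥ ∧ U = ⊥ ∧ (fittingHallOf M).relIndex M ∣ p + 1))) :
    IsOfTypeV M ↔ (K ≠ ⊥ ∧ U = ⊥ ∧ fittingHallOf M = sigmaCore M) :=
  typeV_iff' hKU h50 h54 h55 h56 h64 h65 h70
    (fun hK1 _ _ hTI => typeV_alt_of_h40 hKU hK1 h55.2.1 hTI h40)

/-- `U ∩ M_σ = 1` -/
theorem sd_U_inf [Finite G] {M K U : Subgroup G} (hKU : IsSigmaDecomposition M K U) :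
    U ⊓ sigmaCore M = ⊥ := by
  rw [eq_bot_iff, ← hKU.compl.2.2.1]
  exact inf_le_inf_left U le_sup_right

/-- when `M_F = M_σ` and `M' = U M_σ`, `U` is a complement of `M_F` in `M'` -/
theorem sd_U_compl [Finite G] {M K U : Subgroup G} (hKU : IsSigmaDecomposition M K U)
    (hHσ : fittingHallOf M = sigmaCore M) (h65 : ⁅M, M⁆ = U ⊔ sigmaCore M) :
    IsComplIn (fittingHallOf M) U ⁅M, M⁆ := by
  refine ⟨by rw [h65, hHσ]; exact le_sup_right, by rw [h65]; exact le_sup_left, ?_, ?_⟩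
  · rw [hHσ, inf_comm]; exact sd_U_inf hKU
  · intro m hm
    rw [h65, sup_comm] at hm
    rw [hHσ]
    exact (mem_sup_of_le_normalizer' (sd_U_normalizes hKU)).mp hm

/-- proper subgroups of `G` are solvable -/
theorem solvable_of_le_coatom (hG : IsMinSimpleOddOrder G) {M D : Subgroup G} (hM : IsCoatom M)
    (hDM : D ≤ M) : Group.IsSolvable D := by
  apply hG.2.2.2 D
  rintro rfl
  exact hM.1 (top_le_iff.mp hDM)

/-- Types III and IV -/
theorem typeIIIIV_iff [Finite G] (hG : IsMinSimpleOddOrder G) {M K U : Subgroup G}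
    (hM : IsCoatom M) (hKU : IsSigmaDecomposition M K U)
    (h50 : IsPiHallOf (sigma M) (sigmaCore M) M)
    (h54 : sigmaCore M ⊓ centralizer (K : Set G) ≠ ⊥ ∧ (K ≠ ⊥ → ∀ k ∈ K, k ≠ 1 →
        M ⊓ centralizer ({k} : Set G) = K ⊔ (sigmaCore M ⊓ centralizer (K : Set G))))
    (h55 : fittingHallOf M ≠ ⊥ ∧ fittingHallOf M ≤ sigmaCore M ∧ sigmaCore M ≤ ⁅M, M⁆ ∧ ⁅M, M⁆ < M ∧
      Group.IsNilpotent ↥((commutator ↥M).map (QuotientGroup.mk' (fittingHall ↥M))))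
    (h56 : ⁅⁅M, M⁆, ⁅M, M⁆⁆ ≤ fittingOf M ∧
      fittingOf M = (M ⊓ centralizer (fittingHallOf M : Set G)) ⊔ fittingHallOf M ∧
      ((kappa M).Nonempty → fittingOf M ≤ ⁅M, M⁆))
    (h57 : fittingHallOf M ≠ sigmaCore M →
      U = ⊥ ∧ IsTISubset (fittingOf M : Set G) ∧ (Nat.card K).Prime)
    (h63 : K ≠ ⊥ → IsMulCommutative U ∧ ¬ normalizer (U : Set G) ≤ M)
    (h64 : K ≠ ⊥ → IsCyclic ↥(sigmaCore M ⊓ centralizer (K : Set G)) ∧
      (sigmaCore M ⊓ centralizer (K : Set G)) ≠ ⊥ ∧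
      (sigmaCore M ⊓ centralizer (K : Set G)) ≤ fittingHallOf M ∧ ¬ IsCyclic (fittingHallOf M))
    (h65 : K ≠ ⊥ → ⁅M, M⁆ = U ⊔ sigmaCore M ∧
      (sigmaCore M ⊓ centralizer (K : Set G)) ≤ ⁅⁅M, M⁆, ⁅M, M⁆⁆)
    (h70 : K ≠ ⊥ → IsTISubset ((↑(K ⊔ (sigmaCore M ⊓ centralizer (K : Set G))) : Set G) \
        ((K : Set G) ∪ ↑(sigmaCore M ⊓ centralizer (K : Set G)))) ∧
      normalizer ((↑(K ⊔ (sigmaCore M ⊓ centralizer (K : Set G))) : Set G) \
        ((K : Set G) ∪ ↑(sigmaCore M ⊓ centralizer (K : Set G)))) =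
        K ⊔ (sigmaCore M ⊓ centralizer (K : Set G))) :
    (IsOfTypeIII M ∨ IsOfTypeIV M) ↔ (K ≠ ⊥ ∧ U = ⊥ ∧ fittingHallOf M ≠ sigmaCore M) := by
  have hM'M : ⁅M, M⁆ ≤ M := Subgroup.commutator_le_self M
  constructor
  · intro h
    have key : ∀ W₁ U' W₂ : Subgroup G, IsTypePWith M W₁ U' W₂ → U' ≠ ⊥ →
        normalizer (U' : Set G) ≤ M → (K ≠ ⊥ ∧ U = ⊥ ∧ fittingHallOf M ≠ sigmaCore M) := by
      intro W₁ U' W₂ hP hU'1 hN
      have hK1 : K ≠ ⊥ := K_ne_bot_of_typeP hP hKU.hall h50 h55.2.1 h55.2.2.1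
      have hU : U = ⊥ := by
        by_contra hU1
        have hHσ : fittingHallOf M = sigmaCore M := by
          by_contra hne
          exact hU1 (h57 hne).1
        have h₁ := sd_U_compl hKU hHσ (h65 hK1).1
        obtain ⟨g, hg, hconj⟩ := exists_conj_of_compl hM'M (solvable_of_le_coatom hG hM hM'M)
          h₁ hP.U_compl
        exact (h63 hK1).2 (normalizer_le_of_conj (hM'M hg) hconj hN)
      refine ⟨hK1, hU, ?_⟩
      intro hHσ
      apply hU'1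
      have hM'H : ⁅M, M⁆ = fittingHallOf M := by
        rw [(h65 hK1).1, hU, bot_sup_eq, hHσ]
      rw [eq_bot_iff, ← hP.U_compl.2.2.1]
      refine le_inf ?_ le_rfl
      rw [← hM'H]
      exact hP.U_compl.2.1
    rcases h with ⟨W₁, U', W₂, hP, hU'1, -, -, -, hN⟩ | ⟨W₁, U', W₂, hP, hU'1, -, -, -, hN⟩
    · exact key W₁ U' W₂ hP hU'1 hN
    · exact key W₁ U' W₂ hP hU'1 hN
  · rintro ⟨hK1, hU, hne⟩
    obtain ⟨-, hTI, hKp⟩ := h57 hne
    have hM'σ : ⁅M, M⁆ = sigmaCore M := by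
      rw [(h65 hK1).1, hU, bot_sup_eq]
    have hsolv : Group.IsSolvable (sigmaCore M) := solvable_of_le_coatom hG hM (sigmaCore_le M)
    have hcop : (Nat.card K).Coprime (Nat.card (sigmaCore M)) := by
      apply Nat.coprime_of_dvd
      intro p hp h1 h2
      exact (hKU.hall.2.1 p hp h1).2.2.1 (prime_dvd_card_sigmaCore M hp h2)
    obtain ⟨U', hU'σ, hKU', hdisj, hcard⟩ :=
      exists_invariant_compl hsolv (sd_K_normalizes hKU) hcop h55.2.1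
    have hU'M' : U' ≤ ⁅M, M⁆ := by rw [hM'σ]; exact hU'σ
    have hU'n : Group.IsNilpotent U' := nilpotent_of_inf_eq_bot h55.2.2.2.2 hU'M' hdisj
    have hU'1 : U' ≠ ⊥ := by
      rintro rfl
      apply hne
      apply Subgroup.eq_of_le_of_card_ge h55.2.1
      rw [← hcard, Subgroup.card_bot, mul_one]
    have hN : normalizer (U' : Set G) ≤ M :=
      normalizer_le_of_nilpotent h50 hU'σ hU'n hU'1 hcard
    have hcompl : IsComplIn (fittingHallOf M) U' ⁅M, M⁆ := by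
      apply isComplIn_of_card (by rw [hM'σ]; exact h55.2.1) hU'M'
        ((hU'M'.trans hM'M).trans (le_normalizer_fittingHallOf M)) hdisj
      rw [hM'σ]; exact hcard
    have hP : IsTypePWith M K U' (sigmaCore M ⊓ centralizer (K : Set G)) :=
      typeP_of_decomposition hKU hK1 h54 h55.2.2.1 h56 (h64 hK1) (h65 hK1) (h70 hK1)
        hU'n hKU' hcompl
    by_cases hc : IsMulCommutative U'
    · exact Or.inl ⟨K, U', _, hP, hU'1, hKp, hTI, hc, hN⟩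
    · exact Or.inr ⟨K, U', _, hP, hU'1, hKp, hTI, hc, hN⟩

end Cfsg.Agent.Lib.Helper11_BGTypes3
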