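import Mathlib
import Cfsg.Prelude.Def_OddOrderLocal
import Cfsg.Agent.Lib.Helper11_BGTypes3

/-!
# Type II maximal subgroups via the standard factorisation (helper11)

`M' = U M_σ` is of Frobenius type with `(M')_F = M_F = M_σ` when `K ≠ 1` and `U ≠ 1`.
-/

set_option autoImplicit false
set_option linter.style.haveILetI false

namespace Cfsg.Agent.Lib.Helper11_BGTypes4

open Cfsg Subgroup Cfsg.Agent.Lib.Helper84_RelSylow Cfsg.Agent.Lib.Helper11_BGTypes
  Cfsg.Agent.Lib.Helper11_BGTypes2 Cfsg.Agent.Lib.Helper11_BGTypes3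
open scoped Pointwise

variable {G : Type*} [Group G]

/-- a subgroup of `M` all of whose elements have `σ(M)`-order lies in `M_σ` -/
theorem mem_sigmaCore_of_orderOf [Finite G] {M : Subgroup G}
    (h50 : IsPiHallOf (sigma M) (sigmaCore M) M) {x : G} (hxM : x ∈ M)
    (hx : ∀ p : ℕ, p.Prime → p ∣ orderOf x → p ∈ sigma M) : x ∈ sigmaCore M := by
  have hidx : (piCore (sigma M) ↥M).index = (sigmaCore M).relIndex M := by
    unfold Subgroup.relIndex sigmaCore Subgroup.subgroupOf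
    rw [Subgroup.comap_map_eq_self_of_injective M.subtype_injective]
  have hcop : (orderOf (⟨x, hxM⟩ : ↥M)).Coprime (piCore (sigma M) ↥M).index := by
    rw [Subgroup.orderOf_mk, hidx]
    apply Nat.coprime_of_dvd
    intro p hp h1 h2
    exact h50.2.2 p hp (hx p hp h1) h2
  have := mem_of_coprime_index (piCore (sigma M) ↥M) ⟨x, hxM⟩ hcop
  exact ⟨⟨x, hxM⟩, this, rfl⟩

/-- the main computation: `(M')_F = M_σ.subgroupOf M'` -/
theorem fittingHall_derived [Finite G] {M K U : Subgroup G}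
    (hKU : IsSigmaDecomposition M K U)
    (h50 : IsPiHallOf (sigma M) (sigmaCore M) M)
    (hH1 : fittingHallOf M ≠ ⊥) (hHσ : fittingHallOf M = sigmaCore M)
    (h60 : ∃ U₀ : Subgroup G, U₀ ≤ U ∧ Monoid.exponent U₀ = Monoid.exponent U ∧
      ∀ u ∈ U₀, u ∈ sigmaHat M → u = 1)
    (h65 : ⁅M, M⁆ = U ⊔ sigmaCore M) :
    fittingHall ↥⁅M, M⁆ = (sigmaCore M).subgroupOf ⁅M, M⁆ := by
  set D : Subgroup G := ⁅M, M⁆ with hD
  have hDM : D ≤ M := Subgroup.commutator_le_self M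
  have hσD : sigmaCore M ≤ D := by rw [h65]; exact le_sup_right
  have hUD : U ≤ D := by rw [h65]; exact le_sup_left
  set S : Subgroup ↥D := (sigmaCore M).subgroupOf D with hS
  have hSn : S.Normal :=
    (Subgroup.normal_subgroupOf_iff_le_normalizer hσD).mpr (hDM.trans (le_normalizer_sigmaCore M))
  have hScard : Nat.card S = Nat.card (sigmaCore M) :=
    Nat.card_congr (Subgroup.subgroupOfEquivOfLe hσD).toEquiv
  have hcardD : Nat.card (sigmaCore M) * Nat.card U = Nat.card D := by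
    have := card_mul_of_isComplIn (sd_U_compl hKU hHσ h65)
      ((sd_U_le hKU).trans (le_normalizer_fittingHallOf M))
    rwa [hHσ] at this
  apply le_antisymm
  · -- `(M')_F ≤ M_σ`
    set N' : Subgroup ↥D := fittingHall ↥D with hN'
    have hN'n : N'.Normal := inferInstance
    haveI hN'nil : Group.IsNilpotent ↥N' := Cfsg.Agent.S1474.fittingHall_nilpotent
    have hN'cop : (Nat.card N').Coprime N'.index := Cfsg.Agent.S1387.fittingHall_coprime ↥D
    have step1 : ∀ p : ℕ, p.Prime → p ∣ Nat.card N' → p ∈ sigma M := by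
      intro p hp hpN
      by_contra hpσ
      haveI : Fact p.Prime := ⟨hp⟩
      have hpσc : ¬ p ∣ Nat.card (sigmaCore M) :=
        fun h => hpσ (prime_dvd_card_sigmaCore M hp h)
      let P : Sylow p ↥N' := default
      set R : Subgroup ↥D := (P : Subgroup ↥N').map N'.subtype with hR
      have hRn : R.Normal := by
        have hn : (P : Subgroup ↥N').Normal := inferInstance
        have : (P : Subgroup ↥N').Characteristic := P.characteristic_of_normal hn
        have h1 := Cfsg.Agent.Lib.Helper24_CoprimeAction.normalizer_le_normalizer_map_of_characteristic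
          N' (P : Subgroup ↥N')
        rw [Subgroup.normalizer_eq_top] at h1
        exact Subgroup.normalizer_eq_top_iff.mp (top_le_iff.mp h1)
      have hRidx : ¬ p ∣ R.index := by
        rw [hR, Subgroup.index_map_subtype]
        intro hdvd
        rcases (Nat.Prime.dvd_mul hp).mp hdvd with h1 | h1
        · exact P.not_dvd_index h1
        · have h2 := Nat.dvd_gcd hpN h1
          rw [Nat.Coprime.gcd_eq_one hN'cop] at h2
          exact hp.one_lt.ne' (Nat.dvd_one.mp h2)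
      have hRp : IsPGroup p R := P.2.map _
      -- an element of order `p` in `U₀`
      obtain ⟨U₀, hU₀U, hexp, hfpf⟩ := h60
      have hpU : p ∣ Nat.card U := by
        have h1 : p ∣ Nat.card D := dvd_trans hpN (Subgroup.card_subgroup_dvd_card N')
        rw [← hcardD] at h1
        rcases (Nat.Prime.dvd_mul hp).mp h1 with h2 | h2
        · exact absurd h2 hpσc
        · exact h2
      obtain ⟨u, hu⟩ := exists_prime_orderOf_dvd_card' (G := ↥U) p hpU
      have hpe : p ∣ Monoid.exponent ↥U := by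
        rw [← hu]; exact Monoid.order_dvd_exponent u
      rw [← hexp] at hpe
      have hpU₀ : p ∣ Nat.card U₀ := dvd_trans hpe Group.exponent_dvd_nat_card
      obtain ⟨u₀, hu₀⟩ := exists_prime_orderOf_dvd_card' (G := ↥U₀) p hpU₀
      have hu₀D : (u₀ : G) ∈ D := hUD (hU₀U u₀.2)
      have hord : orderOf (⟨(u₀ : G), hu₀D⟩ : ↥D) = p := by
        rw [Subgroup.orderOf_mk, Subgroup.orderOf_coe, hu₀]
      have hu₀R : (⟨(u₀ : G), hu₀D⟩ : ↥D) ∈ R := by
        apply mem_of_coprime_index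
        rw [hord]
        exact (Nat.Prime.coprime_iff_not_dvd hp).mpr hRidx
      -- `R` centralizes `S`
      have hRS : R ⊓ S = ⊥ := by
        apply inf_eq_bot_of_forall_prime
        intro q hq h1 h2
        rw [hScard] at h2
        obtain ⟨n, hn⟩ := IsPGroup.iff_card.mp hRp
        rw [hn] at h1
        have hqp : q = p := (Nat.prime_dvd_prime_iff_eq hq hp).mp (hq.dvd_of_dvd_pow h1)
        rw [hqp] at h2
        exact hpσc h2
      -- a nontrivial element of `M_σ`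
      obtain ⟨y, hy1⟩ := Subgroup.ne_bot_iff_exists_ne_one.mp hH1
      have hyσ : (y : G) ∈ sigmaCore M := by rw [← hHσ]; exact y.2
      have hyS : (⟨(y : G), hσD hyσ⟩ : ↥D) ∈ S := hyσ
      have hcomm : (⟨(u₀ : G), hu₀D⟩ : ↥D) * ⟨(y : G), hσD hyσ⟩ * (⟨(u₀ : G), hu₀D⟩ : ↥D)⁻¹ *
          (⟨(y : G), hσD hyσ⟩ : ↥D)⁻¹ ∈ R ⊓ S := by
        constructor
        · have h1 := hRn.conj_mem _ (R.inv_mem hu₀R) (⟨(y : G), hσD hyσ⟩ : ↥D)
          have h2 := R.mul_mem hu₀R h1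
          have h3 : (⟨(u₀ : G), hu₀D⟩ : ↥D) * ((⟨(y : G), hσD hyσ⟩ : ↥D) *
              (⟨(u₀ : G), hu₀D⟩ : ↥D)⁻¹ * (⟨(y : G), hσD hyσ⟩ : ↥D)⁻¹) =
              (⟨(u₀ : G), hu₀D⟩ : ↥D) * ⟨(y : G), hσD hyσ⟩ * (⟨(u₀ : G), hu₀D⟩ : ↥D)⁻¹ *
              (⟨(y : G), hσD hyσ⟩ : ↥D)⁻¹ := by group
          rw [← h3]; exact h2
        · have h1 := hSn.conj_mem _ hyS (⟨(u₀ : G), hu₀D⟩ : ↥D)
          exact S.mul_mem h1 (S.inv_mem hyS)
      rw [hRS, Subgroup.mem_bot] at hcomm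
      have hcomm' : (u₀ : G) * (y : G) = (y : G) * (u₀ : G) := by
        have h1 : (⟨(u₀ : G), hu₀D⟩ : ↥D) * ⟨(y : G), hσD hyσ⟩ =
            ⟨(y : G), hσD hyσ⟩ * (⟨(u₀ : G), hu₀D⟩ : ↥D) := by
          have h2 : (⟨(u₀ : G), hu₀D⟩ : ↥D) * ⟨(y : G), hσD hyσ⟩ =
              ((⟨(u₀ : G), hu₀D⟩ : ↥D) * ⟨(y : G), hσD hyσ⟩ * (⟨(u₀ : G), hu₀D⟩ : ↥D)⁻¹ *
              (⟨(y : G), hσD hyσ⟩ : ↥D)⁻¹) * (⟨(y : G), hσD hyσ⟩ * (⟨(u₀ : G), hu₀D⟩ : ↥D)) := by
            group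
          rw [h2, hcomm, one_mul]
        exact congrArg Subtype.val h1
      have hy1' : (y : G) ≠ 1 := fun h => hy1 (Subtype.ext h)
      have hu₀1 : (u₀ : G) = 1 :=
        hfpf _ u₀.2 ⟨hDM hu₀D, (y : G), hyσ, hy1', hcomm'⟩
      have : orderOf u₀ = 1 := by
        rw [orderOf_eq_one_iff]; exact Subtype.ext hu₀1
      rw [hu₀] at this
      exact hp.one_lt.ne' this
    intro x hx
    show (x : G) ∈ sigmaCore M
    apply mem_sigmaCore_of_orderOf h50 (hDM x.2)
    intro p hp hpx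
    apply step1 p hp
    have h1 : orderOf x ∣ Nat.card N' := by
      have := orderOf_dvd_natCard (⟨x, hx⟩ : ↥N')
      rwa [Subgroup.orderOf_mk] at this
    rw [Subgroup.orderOf_coe] at hpx
    exact dvd_trans hpx h1
  · -- `M_σ ≤ (M')_F`
    apply le_sSup
    refine ⟨hSn, ?_, ?_⟩
    · have h1 : Group.IsNilpotent (sigmaCore M) := by
        rw [← hHσ]; exact fittingHallOf_nilpotent M
      exact (Group.isNilpotent_congr (Subgroup.subgroupOfEquivOfLe hσD)).mpr h1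
    · rw [hScard]
      have h1 : S.index = (sigmaCore M).relIndex D := rfl
      rw [h1]
      have h2 : (sigmaCore M).relIndex D ∣ (sigmaCore M).relIndex M :=
        Dvd.intro _ (Subgroup.relIndex_mul_relIndex _ _ _ hσD hDM)
      exact Nat.Coprime.coprime_dvd_right h2 (coprime_of_isPiHallOf h50)

/-- `M'` is of Frobenius type with `(M')_F = M_F` -/
theorem derived_typeF [Finite G] (hG : IsMinSimpleOddOrder G) {M K U : Subgroup G}
    (hM : IsCoatom M) (hKU : IsSigmaDecomposition M K U)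
    (h50 : IsPiHallOf (sigma M) (sigmaCore M) M)
    (hH1 : fittingHallOf M ≠ ⊥) (hHσ : fittingHallOf M = sigmaCore M)
    (h60 : ∃ U₀ : Subgroup G, U₀ ≤ U ∧ Monoid.exponent U₀ = Monoid.exponent U ∧
      ∀ u ∈ U₀, u ∈ sigmaHat M → u = 1)
    (hUc : IsMulCommutative U) (hU1 : U ≠ ⊥)
    (h65 : ⁅M, M⁆ = U ⊔ sigmaCore M) :
    IsOfTypeF ↥⁅M, M⁆ ∧ fittingHallOf ⁅M, M⁆ = fittingHallOf M := by
  have hFH := fittingHall_derived hKU h50 hH1 hHσ h60 h65
  set D : Subgroup G := ⁅M, M⁆ with hD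
  have hDM : D ≤ M := Subgroup.commutator_le_self M
  have hσD : sigmaCore M ≤ D := by rw [h65]; exact le_sup_right
  have hUD : U ≤ D := by rw [h65]; exact le_sup_left
  have hScard : Nat.card ((sigmaCore M).subgroupOf D) = Nat.card (sigmaCore M) :=
    Nat.card_congr (Subgroup.subgroupOfEquivOfLe hσD).toEquiv
  have hUcard : Nat.card (U.subgroupOf D) = Nat.card U :=
    Nat.card_congr (Subgroup.subgroupOfEquivOfLe hUD).toEquiv
  have hcardD : Nat.card (sigmaCore M) * Nat.card U = Nat.card D := by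
    have := card_mul_of_isComplIn (sd_U_compl hKU hHσ h65)
      ((sd_U_le hKU).trans (le_normalizer_fittingHallOf M))
    rwa [hHσ] at this
  have hσ1 : sigmaCore M ≠ ⊥ := by rw [← hHσ]; exact hH1
  refine ⟨⟨solvable_of_le_coatom hG hM hDM,
    Odd.of_dvd_nat hG.1 (Subgroup.card_subgroup_dvd_card D), ?_, ?_, U.subgroupOf D, ?_, ?_, ?_, ?_⟩,
    ?_⟩
  · rw [hFH, Ne, Subgroup.subgroupOf_eq_bot]
    intro hdis
    apply hσ1
    rw [eq_bot_iff]
    intro x hx
    have := Subgroup.disjoint_def.mp hdis hx (hσD hx)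
    rw [this]; exact Subgroup.one_mem _
  · rw [hFH, Ne, Subgroup.subgroupOf_eq_top]
    intro hle
    apply hU1
    rw [eq_bot_iff, ← sd_U_inf hKU]
    exact le_inf le_rfl (hUD.trans hle)
  · rw [Ne, Subgroup.subgroupOf_eq_bot]
    intro hdis
    apply hU1
    rw [eq_bot_iff]
    intro x hx
    have := Subgroup.disjoint_def.mp hdis hx (hUD hx)
    rw [this]; exact Subgroup.one_mem _
  · rw [hFH]
    apply Subgroup.isComplement'_of_card_mul_and_disjoint
    · rw [hScard, hUcard]; exact hcardD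
    · rw [Subgroup.disjoint_def]
      intro x hx1 hx2
      have h1 : (x : G) ∈ U ⊓ sigmaCore M := ⟨hx2, hx1⟩
      rw [sd_U_inf hKU, Subgroup.mem_bot] at h1
      exact Subtype.ext h1
  · refine ⟨U.subgroupOf D, le_rfl, Subgroup.le_normalizer, ?_, fun x _ _ => inf_le_left⟩
    refine ⟨⟨fun a b => ?_⟩⟩
    have h1 := hUc.is_comm.comm (⟨((a : ↥D) : G), a.2⟩ : ↥U) ⟨((b : ↥D) : G), b.2⟩
    have h2 : ((a : ↥D) : G) * ((b : ↥D) : G) = ((b : ↥D) : G) * ((a : ↥D) : G) :=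
      congrArg Subtype.val h1
    exact Subtype.ext (Subtype.ext h2)
  · obtain ⟨U₀, hU₀U, hexp, hfpf⟩ := h60
    have hU₀D : U₀ ≤ D := hU₀U.trans hUD
    refine ⟨U₀.subgroupOf D, fun x hx => hU₀U hx, ?_, ?_⟩
    · rw [Monoid.exponent_eq_of_mulEquiv (Subgroup.subgroupOfEquivOfLe hU₀D),
        Monoid.exponent_eq_of_mulEquiv (Subgroup.subgroupOfEquivOfLe hUD)]
      exact hexp
    · intro u hu hu1 x hx hux
      rw [hFH] at hx
      by_contra hx1
      apply hu1
      have hxσ : (x : G) ∈ sigmaCore M := hx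
      have huU₀ : (u : G) ∈ U₀ := hu
      have h1 : (u : G) = 1 := by
        apply hfpf _ huU₀
        refine ⟨hDM u.2, (x : G), hxσ, fun h => hx1 (Subtype.ext h), ?_⟩
        exact congrArg Subtype.val hux
      exact Subtype.ext h1
  · unfold fittingHallOf at hHσ ⊢
    rw [hFH, Subgroup.subgroupOf_map_subtype, inf_eq_left.mpr hσD, hHσ]

/-- Type II -/
theorem typeII_iff [Finite G] (hG : IsMinSimpleOddOrder G) {M K U : Subgroup G}
    (hM : IsCoatom M) (hKU : IsSigmaDecomposition M K U)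
    (h50 : IsPiHallOf (sigma M) (sigmaCore M) M)
    (h54 : sigmaCore M ⊓ centralizer (K : Set G) ≠ ⊥ ∧ (K ≠ ⊥ → ∀ k ∈ K, k ≠ 1 →
        M ⊓ centralizer ({k} : Set G) = K ⊔ (sigmaCore M ⊓ centralizer (K : Set G))))
    (h55 : fittingHallOf M ≠ ⊥ ∧ fittingHallOf M ≤ sigmaCore M ∧ sigmaCore M ≤ ⁅M, M⁆ ∧ ⁅M, M⁆ < M ∧
      Group.IsNilpotent ↥((commutator ↥M).map (QuotientGroup.mk' (fittingHall ↥M))))
    (h56 : ⁅⁅M, M⁆, ⁅M, M⁆⁆ ≤ fittingOf M ∧
      fittingOf M = (M ⊓ centralizer (fittingHallOf M : Set G)) ⊔ fittingHallOf M ∧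
      ((kappa M).Nonempty → fittingOf M ≤ ⁅M, M⁆))
    (h57 : fittingHallOf M ≠ sigmaCore M →
      U = ⊥ ∧ IsTISubset (fittingOf M : Set G) ∧ (Nat.card K).Prime)
    (h60 : ∃ U₀ : Subgroup G, U₀ ≤ U ∧ Monoid.exponent U₀ = Monoid.exponent U ∧
      ∀ u ∈ U₀, u ∈ sigmaHat M → u = 1)
    (h63 : K ≠ ⊥ → IsMulCommutative U ∧ ¬ normalizer (U : Set G) ≤ M)
    (h64 : K ≠ ⊥ → IsCyclic ↥(sigmaCore M ⊓ centralizer (K : Set G)) ∧
      (sigmaCore M ⊓ centralizer (K : Set G)) ≠ ⊥ ∧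
      (sigmaCore M ⊓ centralizer (K : Set G)) ≤ fittingHallOf M ∧ ¬ IsCyclic (fittingHallOf M))
    (h65 : K ≠ ⊥ → ⁅M, M⁆ = U ⊔ sigmaCore M ∧
      (sigmaCore M ⊓ centralizer (K : Set G)) ≤ ⁅⁅M, M⁆, ⁅M, M⁆⁆)
    (h70 : K ≠ ⊥ → IsTISubset ((↑(K ⊔ (sigmaCore M ⊓ centralizer (K : Set G))) : Set G) \
        ((K : Set G) ∪ ↑(sigmaCore M ⊓ centralizer (K : Set G)))) ∧
      normalizer ((↑(K ⊔ (sigmaCore M ⊓ centralizer (K : Set G))) : Set G) \
        ((K : Set G) ∪ ↑(sigmaCore M ⊓ centralizer (K : Set G)))) =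
        K ⊔ (sigmaCore M ⊓ centralizer (K : Set G)))
    (h72 : K ≠ ⊥ → U ≠ ⊥ → (Nat.card K).Prime ∧ IsTISubset (fittingOf M : Set G) ∧
      sigmaCore M ≤ fittingOf M) :
    IsOfTypeII M ↔ (K ≠ ⊥ ∧ U ≠ ⊥) := by
  have hM'M : ⁅M, M⁆ ≤ M := Subgroup.commutator_le_self M
  constructor
  · rintro ⟨W₁, U', W₂, hP, hU'1, -, -, -, hN, -, -⟩
    have hK1 : K ≠ ⊥ := K_ne_bot_of_typeP hP hKU.hall h50 h55.2.1 h55.2.2.1
    refine ⟨hK1, ?_⟩
    intro hU
    have hM'σ : ⁅M, M⁆ = sigmaCore M := by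
      rw [(h65 hK1).1, hU, bot_sup_eq]
    by_cases hHσ : fittingHallOf M = sigmaCore M
    · apply hU'1
      rw [eq_bot_iff, ← hP.U_compl.2.2.1]
      refine le_inf ?_ le_rfl
      rw [hHσ, ← hM'σ]
      exact hP.U_compl.2.1
    · apply hN
      have hU'σ : U' ≤ sigmaCore M := by rw [← hM'σ]; exact hP.U_compl.2.1
      have hcard : Nat.card (fittingHallOf M) * Nat.card U' = Nat.card (sigmaCore M) := by
        have := card_mul_of_isComplIn hP.U_compl
          ((hP.U_compl.2.1.trans hM'M).trans (le_normalizer_fittingHallOf M))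
        rw [this, hM'σ]
      exact normalizer_le_of_nilpotent h50 hU'σ hP.U_nilpotent hU'1 hcard
  · rintro ⟨hK1, hU1⟩
    have hHσ : fittingHallOf M = sigmaCore M := by
      by_contra hne
      exact hU1 (h57 hne).1
    obtain ⟨hKp, hTI, -⟩ := h72 hK1 hU1
    obtain ⟨hUc, hUN⟩ := h63 hK1
    have hcompl := sd_U_compl hKU hHσ (h65 hK1).1
    have hUn : Group.IsNilpotent U :=
      nilpotent_of_inf_eq_bot h55.2.2.2.2 hcompl.2.1 hcompl.2.2.1
    have hP : IsTypePWith M K U (sigmaCore M ⊓ centralizer (K : Set G)) :=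
      typeP_of_decomposition hKU hK1 h54 h55.2.2.1 h56 (h64 hK1) (h65 hK1) (h70 hK1)
        hUn hKU.normal hcompl
    obtain ⟨hF, hFeq⟩ := derived_typeF hG hM hKU h50 h55.1 hHσ h60 hUc hU1 (h65 hK1).1
    exact ⟨K, U, _, hP, hU1, hKp, hTI, hUc, hUN, hF, hFeq⟩

end Cfsg.Agent.Lib.Helper11_BGTypes4
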