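import Mathlib
import Cfsg.Prelude.Def_OddOrderLocal
import Cfsg.Agent.Lib.Helper11_BGTypes3
import Cfsg.Agent.Lib.Helper70_Wielandt

/-!
# Type I gives `K = 1` and `U ≠ 1` (helper11)

The forward direction of the characterisation of Type I through the standard factorisation
`M = K U M_σ`, proved from the conclusions of two earlier statements of the chain, taken here as
explicit hypotheses for the given `M`, `K`, `U`.  Only the Frobenius-type part of Type I is used.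
-/

set_option autoImplicit false
set_option linter.style.haveILetI false

namespace Cfsg.Agent.Lib.Helper11_BGTypes5

open Cfsg Subgroup Cfsg.Agent.Lib.Helper11_BGTypes Cfsg.Agent.Lib.Helper11_BGTypes2
  Cfsg.Agent.Lib.Helper11_BGTypes3

variable {G : Type*} [Group G]

/-- in a finite group with cyclic Sylow `r`-subgroups, an element of order `r` is conjugate into the
subgroup generated by any other element of order `r` -/
theorem exists_conj_mem_zpowers {L : Type*} [Group L] [Finite L] {r : ℕ} [Fact r.Prime]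
    (hcyc : ∀ P : Sylow r L, IsCyclic ↥(P : Subgroup L)) {u k : L} (hu : orderOf u = r)
    (hk : orderOf k = r) : ∃ g : L, g * u * g⁻¹ ∈ zpowers k := by
  have hPu : IsPGroup r ↥(zpowers u) :=
    IsPGroup.of_card (n := 1) (by rw [Nat.card_zpowers, hu, pow_one])
  have hPk : IsPGroup r ↥(zpowers k) :=
    IsPGroup.of_card (n := 1) (by rw [Nat.card_zpowers, hk, pow_one])
  obtain ⟨P, hP⟩ := hPu.exists_le_sylow
  obtain ⟨Q, hQ⟩ := hPk.exists_le_sylow
  obtain ⟨g, hg⟩ := MulAction.exists_smul_eq L P Q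
  refine ⟨g, ?_⟩
  have huQ : g * u * g⁻¹ ∈ (Q : Subgroup L) := by
    rw [← hg, Sylow.coe_subgroup_smul]
    have : g * u * g⁻¹ = MulAut.conj g • u := by
      rw [MulAut.smul_def, MulAut.conj_apply]
    rw [this]
    exact Subgroup.smul_mem_pointwise_smul _ _ _ (hP (mem_zpowers u))
  have hkQ : k ∈ (Q : Subgroup L) := hQ (mem_zpowers k)
  haveI : IsCyclic ↥(Q : Subgroup L) := hcyc Q
  have hou : orderOf (⟨g * u * g⁻¹, huQ⟩ : ↥(Q : Subgroup L)) = r := by
    rw [Subgroup.orderOf_mk]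
    have : g * u * g⁻¹ = MulAut.conj g u := by rw [MulAut.conj_apply]
    rw [this, MulEquiv.orderOf_eq, hu]
  have hok : orderOf (⟨k, hkQ⟩ : ↥(Q : Subgroup L)) = r := by
    rw [Subgroup.orderOf_mk, hk]
  have heq : zpowers (⟨g * u * g⁻¹, huQ⟩ : ↥(Q : Subgroup L)) = zpowers ⟨k, hkQ⟩ := by
    apply Cfsg.Agent.Lib.Helper70_Wielandt.eq_of_card_eq_of_isCyclic
    rw [Nat.card_zpowers, Nat.card_zpowers, hou, hok]
  have hmem : (⟨g * u * g⁻¹, huQ⟩ : ↥(Q : Subgroup L)) ∈ zpowers (⟨k, hkQ⟩ : ↥(Q : Subgroup L)) := by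
    rw [← heq]
    exact mem_zpowers _
  obtain ⟨n, hn⟩ := Subgroup.mem_zpowers_iff.mp hmem
  refine Subgroup.mem_zpowers_iff.mpr ⟨n, ?_⟩
  have := congrArg (fun x : ↥(Q : Subgroup L) => (x : L)) hn
  simpa using this

/-- `K = 1` implies `U ≠ 1` -/
theorem U_ne_bot_of_K_eq_bot {M K U : Subgroup G} (hKU : IsSigmaDecomposition M K U)
    (h1 : sigmaCore M ≤ ⁅M, M⁆) (h2 : ⁅M, M⁆ < M) (hK : K = ⊥) : U ≠ ⊥ := by
  intro hU
  apply h2.not_ge
  intro m hm
  obtain ⟨a, ha, b, hb, rfl⟩ := hKU.compl.2.2.2 m hm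
  rw [hU, mem_bot] at ha
  subst ha
  rw [hK, bot_sup_eq] at hb
  rw [one_mul]
  exact h1 hb

/-- a maximal subgroup of Frobenius type has `K = 1` -/
theorem K_eq_bot_of_typeF [Finite G] {M K U : Subgroup G} (hKU : IsSigmaDecomposition M K U)
    (hHσ : fittingHallOf M ≤ sigmaCore M)
    (h64 : K ≠ ⊥ → sigmaCore M ⊓ centralizer (K : Set G) ≠ ⊥ ∧
      sigmaCore M ⊓ centralizer (K : Set G) ≤ fittingHallOf M)
    (hF : IsOfTypeF ↥M) : K = ⊥ := by
  by_contra hK1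
  obtain ⟨hne, hle⟩ := h64 hK1
  obtain ⟨-, -, -, -, U', -, hcompl, -, U₀, hU₀U', hexp, hfpf⟩ := hF
  have hc : Nat.card K ≠ 1 := fun hc => hK1 (Subgroup.card_eq_one.mp hc)
  obtain ⟨r, hr, hrd⟩ := Nat.exists_prime_and_dvd hc
  haveI : Fact r.Prime := ⟨hr⟩
  have hrκ : r ∈ kappa M := hKU.hall.2.1 r hr hrd
  have hrH : ¬ r ∣ Nat.card (fittingHall ↥M) := by
    intro h
    have h1 : Nat.card (fittingHall ↥M) = Nat.card (fittingHallOf M) :=
      Nat.card_congr ((fittingHall ↥M).equivMapOfInjective M.subtype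
        M.subtype_injective).toEquiv
    rw [h1] at h
    exact hrκ.2.2.1 (prime_dvd_card_sigmaCore M hr (h.trans (Subgroup.card_dvd_of_le hHσ)))
  have hcard := hcompl.card_mul_card
  have hrU' : r ∣ Nat.card U' := by
    have hrM : r ∣ Nat.card ↥M := hrκ.2.1
    rw [← hcard] at hrM
    exact (hr.dvd_mul.mp hrM).resolve_left hrH
  obtain ⟨x, hx⟩ := exists_prime_orderOf_dvd_card' r hrU'
  have hrexp : r ∣ Monoid.exponent ↥U' := hx ▸ Monoid.order_dvd_exponent x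
  rw [← hexp] at hrexp
  have hrU₀ : r ∣ Nat.card U₀ := hrexp.trans Group.exponent_dvd_nat_card
  obtain ⟨⟨u, huU₀⟩, hu⟩ := exists_prime_orderOf_dvd_card' r hrU₀
  rw [Subgroup.orderOf_mk] at hu
  obtain ⟨⟨k, hkK⟩, hk⟩ := exists_prime_orderOf_dvd_card' r hrd
  rw [Subgroup.orderOf_mk] at hk
  have hkM : k ∈ M := sd_K_le hKU hkK
  have hk' : orderOf (⟨k, hkM⟩ : ↥M) = r := by rw [Subgroup.orderOf_mk, hk]
  obtain ⟨g, hg⟩ := exists_conj_mem_zpowers (L := ↥M) (fun P => (hrκ.2.2.2 P).1) hu hk'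
  -- the conjugate lies in `K`
  have hgK : ((g * u * g⁻¹ : ↥M) : G) ∈ K := by
    obtain ⟨n, hn⟩ := Subgroup.mem_zpowers_iff.mp hg
    rw [← hn]
    simp only [Subgroup.coe_zpow]
    exact K.zpow_mem hkK n
  -- a nontrivial element of `K*`
  obtain ⟨y, hy, hy1⟩ := (Subgroup.bot_or_exists_ne_one _).resolve_left hne
  obtain ⟨y', hy'H, hy'⟩ := hle hy
  have hycomm : ((g * u * g⁻¹ : ↥M) : G) * y = y * ((g * u * g⁻¹ : ↥M) : G) :=
    (Subgroup.mem_centralizer_iff.mp hy.2) _ hgK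
  have hcomm' : (g * u * g⁻¹) * y' = y' * (g * u * g⁻¹) := by
    apply Subtype.ext
    have e : ((y' : ↥M) : G) = y := hy'
    simp only [Subgroup.coe_mul, e]
    exact hycomm
  have hxH : g⁻¹ * y' * g ∈ fittingHall ↥M := by
    have := (fittingHall_normal ↥M).conj_mem y' hy'H g⁻¹
    simpa using this
  have hux : u * (g⁻¹ * y' * g) = (g⁻¹ * y' * g) * u := by
    have h1 : u * (g⁻¹ * y' * g) = g⁻¹ * ((g * u * g⁻¹) * y') * g := by group
    have h2 : (g⁻¹ * y' * g) * u = g⁻¹ * (y' * (g * u * g⁻¹)) * g := by group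
    rw [h1, h2, hcomm']
  have hu1 : u ≠ 1 := by
    intro h
    rw [h, orderOf_one] at hu
    exact hr.one_lt.ne hu
  have h1 := hfpf u huU₀ hu1 _ hxH hux
  have hy'1 : y' = 1 := by
    have : y' = g * (g⁻¹ * y' * g) * g⁻¹ := by group
    rw [this, h1]; group
  apply hy1
  rw [← hy', hy'1]
  rfl

/-- Type I gives `K = 1` and `U ≠ 1`; the second and third hypotheses are the conclusions of the
statements on `M_F ≤ M_σ ≤ M' < M` and on `K* = C_{M_σ}(K)` for the given `M`, `K`, `U`. -/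
theorem typeI_imp [Finite G] {M K U : Subgroup G} (hKU : IsSigmaDecomposition M K U)
    (h55 : fittingHallOf M ≠ ⊥ ∧ fittingHallOf M ≤ sigmaCore M ∧ sigmaCore M ≤ ⁅M, M⁆ ∧
      ⁅M, M⁆ < M ∧
      Group.IsNilpotent ↥((commutator ↥M).map (QuotientGroup.mk' (fittingHall ↥M))))
    (h64 : K ≠ ⊥ → IsCyclic ↥(sigmaCore M ⊓ centralizer (K : Set G)) ∧
      (sigmaCore M ⊓ centralizer (K : Set G)) ≠ ⊥ ∧
      (sigmaCore M ⊓ centralizer (K : Set G)) ≤ fittingHallOf M ∧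
      ¬ IsCyclic (fittingHallOf M))
    (hI : IsOfTypeI M) : K = ⊥ ∧ U ≠ ⊥ := by
  have hK : K = ⊥ := K_eq_bot_of_typeF hKU h55.2.1
    (fun hK1 => ⟨(h64 hK1).2.1, (h64 hK1).2.2.1⟩) hI.1
  exact ⟨hK, U_ne_bot_of_K_eq_bot hKU h55.2.2.1 h55.2.2.2.1 hK⟩

end Cfsg.Agent.Lib.Helper11_BGTypes5
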