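import Cfsg.Agent.Lib.Helper77_BRDefs
import Cfsg.Agent.Lib.Helper17_Sylow

/-!
# Brauer-Reynolds (`|G| < p^3`), package SYL (for helper77, S0999 / S4701)

Sylow and transfer numerology of a non-cyclic simple group of order `< p ^ 3` divisible by `p`:
a Sylow `p`-subgroup `P` has order `p`, `p ≥ 5`, `q = |N_G(P) : C_G(P)|` is at least `2` and divides
`p - 1`, and `|G| = p w q (1 + n p)` with `|C_G(P)| = p w`, `|Syl_p(G)| = 1 + n p`, `n ≥ 1`.
-/

set_option autoImplicit false

namespace Cfsg.Agent.Lib.Helper11_BR_SYL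

open Cfsg Cfsg.Agent.Lib.Helper80_CharBasic Cfsg.Agent.Lib.Helper77_BRDefs
  Cfsg.Agent.Lib.Helper17_Sylow
open scoped ComplexConjugate

universe u

variable {G : Type u} [Group G] [Fintype G] {p : ℕ} [hp : Fact p.Prime]

omit [Fintype G] hp in
/-- a commutative simple group is cyclic -/
theorem isCyclic_of_comm [IsSimpleGroup G] (h : ∀ a b : G, a * b = b * a) : IsCyclic G := by
  let _ : CommGroup G := { (inferInstance : Group G) with mul_comm := h }
  exact IsSimpleGroup.isCyclic

/-- a non-cyclic simple group is not a `p`-group -/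
theorem not_isPGroup [IsSimpleGroup G] (hnc : ¬ IsCyclic G) : ¬ IsPGroup p G := by
  intro hG
  apply hnc
  have hnt : Nontrivial G := IsSimpleGroup.toNontrivial
  have hcen : Nontrivial (Subgroup.center G) := hG.center_nontrivial
  have hne : Subgroup.center G ≠ ⊥ := by
    intro h
    rw [Subgroup.nontrivial_iff_ne_bot] at hcen
    exact hcen h
  have htop : Subgroup.center G = ⊤ :=
    ((Subgroup.normal_of_characteristic (Subgroup.center G)).eq_bot_or_eq_top).resolve_left hne
  apply isCyclic_of_comm
  intro a b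
  have ha : a ∈ Subgroup.center G := htop ▸ Subgroup.mem_top a
  exact ((Subgroup.mem_center_iff.1 ha) b).symm

/-- **SYL** -/
theorem SYL [IsSimpleGroup G] (hnc : ¬ IsCyclic G) (hdvd : p ∣ Nat.card G)
    (hbig : Nat.card G < p ^ 3) (P : Sylow p G) :
    Nat.card P = p ∧ 5 ≤ p ∧ 2 ≤ qq P ∧ qq P ∣ p - 1 ∧
      ∃ n w : ℕ, 1 ≤ n ∧ 1 ≤ w ∧ Nat.card (Sylow p G) = 1 + n * p ∧
        Nat.card (Cen P) = p * w ∧ Nat.card G = p * w * qq P * (1 + n * p) := by
  classical
  have hpp : p.Prime := hp.out
  have hp2 : 2 ≤ p := hpp.two_le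
  have hGpos : 0 < Nat.card G := Nat.card_pos
  -- `P` is neither trivial nor everything
  have hPbot : (P : Subgroup G) ≠ ⊥ := by
    intro h
    have h1 : p ∣ Nat.card (P : Subgroup G) := P.dvd_card_of_dvd_card hdvd
    rw [h, Subgroup.card_bot] at h1
    exact hpp.one_lt.ne' (Nat.dvd_one.1 h1)
  have hPtop : (P : Subgroup G) ≠ ⊤ := by
    intro h
    apply not_isPGroup (p := p) hnc
    have h1 : IsPGroup p (⊤ : Subgroup G) := h ▸ P.isPGroup'
    exact h1.of_equiv Subgroup.topEquiv
  have hn1 : 1 < Nat.card (Sylow p G) := one_lt_card_sylow P hPbot hPtop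
  have hmod : Nat.card (Sylow p G) ≡ 1 [MOD p] := card_sylow_modEq_one p G
  -- `n_p = 1 + n p` with `n ≥ 1`
  obtain ⟨n, hn, hn1'⟩ : ∃ n : ℕ, Nat.card (Sylow p G) = 1 + n * p ∧ 1 ≤ n := by
    have h1 : Nat.card (Sylow p G) % p = 1 := by
      have := hmod
      unfold Nat.ModEq at this
      rw [this]
      exact Nat.mod_eq_of_lt hpp.one_lt
    have h2 := Nat.div_add_mod (Nat.card (Sylow p G)) p
    rw [h1] at h2
    refine ⟨Nat.card (Sylow p G) / p, by
      have := mul_comm p (Nat.card (Sylow p G) / p)
      omega, ?_⟩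
    rcases Nat.eq_zero_or_pos (Nat.card (Sylow p G) / p) with h0 | h0
    · rw [h0] at h2
      omega
    · exact h0
  -- `|P| = p`
  have hnidx : Nat.card (Sylow p G) ∣ (P : Subgroup G).index := Sylow.card_dvd_index P
  have hcm : Nat.card (P : Subgroup G) * (P : Subgroup G).index = Nat.card G :=
    Subgroup.card_mul_index _
  have hidxpos : 0 < (P : Subgroup G).index := by
    rcases Nat.eq_zero_or_pos (P : Subgroup G).index with h | h
    · rw [h, mul_zero] at hcm
      omega
    · exact h
  have hPcard : Nat.card (P : Subgroup G) = p := by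
    obtain ⟨k, hk⟩ := (IsPGroup.iff_card.1 P.isPGroup')
    have hk1 : 1 ≤ k := by
      rcases Nat.eq_zero_or_pos k with h | h
      · exfalso
        rw [h, pow_zero] at hk
        exact hPbot (Subgroup.card_eq_one.1 hk)
      · exact h
    have hk2 : k < 2 := by
      by_contra hge
      have hge : 2 ≤ k := by omega
      have h1 : p ^ 2 ≤ p ^ k := Nat.pow_le_pow_right (by omega) hge
      have h2 : p ^ 2 * (P : Subgroup G).index < p ^ 3 := by
        calc p ^ 2 * (P : Subgroup G).index ≤ p ^ k * (P : Subgroup G).index :=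
              Nat.mul_le_mul_right _ h1
          _ = Nat.card G := by rw [← hk, hcm]
          _ < p ^ 3 := hbig
      have h3 : (P : Subgroup G).index < p := by
        have h4 : p ^ 3 = p ^ 2 * p := by ring
        rw [h4] at h2
        exact Nat.lt_of_mul_lt_mul_left h2
      have h5 : Nat.card (Sylow p G) ≤ (P : Subgroup G).index := Nat.le_of_dvd hidxpos hnidx
      have h6 : p ≤ n * p := Nat.le_mul_of_pos_left p hn1'
      omega
    have : k = 1 := by omega
    rw [hk, this, pow_one]
  -- `q`
  have hqd : qq P ∣ p - 1 := relIndex_centralizer_normalizer_dvd_pred (P : Subgroup G) hPcard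
  have hq0 : 0 < qq P := by
    rcases Nat.eq_zero_or_pos (qq P) with h | h
    · exfalso
      rw [h] at hqd
      have := Nat.eq_zero_of_zero_dvd hqd
      omega
    · exact h
  have hq2 : 2 ≤ qq P := by
    by_contra hlt
    have hq1 : qq P = 1 := by omega
    have hNC : Nrm P ≤ Cen P := Subgroup.relIndex_eq_one.1 hq1
    rcases sylow_eq_bot_or_top_of_normalizer_le_centralizer P hNC with h | h
    · exact hPbot h
    · exact hPtop h
  -- `|C| = p w`, `|N| = p w q`, `|G| = p w q (1 + n p)`
  have hcyc : IsCyclic (P : Subgroup G) := isCyclic_of_prime_card hPcard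
  have hPC : (P : Subgroup G) ≤ Cen P := le_centralizer_of_isCyclic (P : Subgroup G)
  obtain ⟨w, hw⟩ : p ∣ Nat.card (Cen P) := by
    have h1 : Nat.card (P : Subgroup G) ∣ Nat.card (Cen P) := Subgroup.card_dvd_of_le hPC
    rwa [hPcard] at h1
  have hCN : Cen P ≤ Nrm P := Subgroup.centralizer_le_normalizer _
  have hNcard : Nat.card (Cen P) * qq P = Nat.card (Nrm P) := card_mul_relIndex_of_le hCN
  have hGN : Nat.card (Nrm P) * Nat.card (Sylow p G) = Nat.card G :=
    card_normalizer_mul_card_sylow P
  have hw1 : 1 ≤ w := by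
    rcases Nat.eq_zero_or_pos w with h | h
    · exfalso
      rw [h, mul_zero] at hw
      have : 0 < Nat.card (Cen P) := Nat.card_pos
      omega
    · exact h
  have hG : Nat.card G = p * w * qq P * (1 + n * p) := by
    rw [← hGN, ← hNcard, hw, hn]
  -- `p ≥ 5`
  have hp3 : 3 ≤ p := by
    have h1 : qq P ≤ p - 1 := Nat.le_of_dvd (by omega) hqd
    omega
  have hp5 : 5 ≤ p := by
    by_contra hlt
    have hp34 : p = 3 ∨ p = 4 := by omega
    rcases hp34 with h3 | h4
    · -- `p = 3`
      have hncomm : ¬ IsMulCommutative G := by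
        intro hc
        exact hnc (isCyclic_of_comm fun a b => hc.is_comm.comm a b)
      have h2G := two_mul_card_dvd_factorial_card_sylow hncomm (p := p) hn1
      rw [hn] at h2G
      subst h3
      have hq1 : qq P ≤ 2 := by
        have := Nat.le_of_dvd (by omega) hqd
        omega
      have hq : qq P = 2 := by omega
      rw [hq] at hG
      have hbig' : Nat.card G < 27 := by
        have h27 : (3 : ℕ) ^ 3 = 27 := by norm_num
        rw [h27] at hbig
        exact hbig
      have hn3 : n = 1 := by
        by_contra hne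
        have hn2 : 2 ≤ n := by omega
        have : 3 * 1 * 2 * (1 + 2 * 3) ≤ 3 * w * 2 * (1 + n * 3) := by
          apply Nat.mul_le_mul
          · apply Nat.mul_le_mul_right
            exact Nat.mul_le_mul_left 3 hw1
          · have := Nat.mul_le_mul_right 3 hn2
            omega
        omega
      rw [hn3] at h2G hG
      have h24 : 2 * Nat.card G ≤ 24 := by
        have : (1 + 1 * 3).factorial = 24 := by decide
        rw [this] at h2G
        exact Nat.le_of_dvd (by norm_num) h2G
      have : 3 * 1 * 2 * (1 + 1 * 3) ≤ 3 * w * 2 * (1 + 1 * 3) := by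
        apply Nat.mul_le_mul_right
        apply Nat.mul_le_mul_right
        exact Nat.mul_le_mul_left 3 hw1
      omega
    · rw [h4] at hpp
      exact absurd hpp (by decide)
  exact ⟨hPcard, hp5, hq2, hqd, n, w, hn1', hw1, hn, hw, hG⟩

end Cfsg.Agent.Lib.Helper11_BR_SYL
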