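import Cfsg.Agent.Lib.Helper77_BRDefs
import Cfsg.Agent.Lib.Helper17_Sylow

/-!
# Brauer-Reynolds (`|G| < p^3`), sub-package V1 (for helper77, S0999 / S4701)

With `p + 1` Sylow `p`-subgroups of order `p` in a simple group, `C_G(P) = P`: `P` acts regularly on the
other `p` Sylow subgroups, an element `c` of `C_G(P)` agrees with some `y ∈ P` at one of them, and
`y⁻¹ c`, which commutes with `P`, then fixes all Sylow subgroups; the action is faithful.
-/

set_option autoImplicit false
set_option linter.unusedSectionVars false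

namespace Cfsg.Agent.Lib.Helper11_BR_V1

open Cfsg Cfsg.Agent.Lib.Helper80_CharBasic Cfsg.Agent.Lib.Helper77_BRDefs
  Cfsg.Agent.Lib.Helper17_Sylow
open scoped ComplexConjugate

universe u

variable {G : Type u} [Group G] [Fintype G] {p : ℕ} [hp : Fact p.Prime]

/-- **V1** -/
theorem V1 [IsSimpleGroup G] (hnc : ¬ IsCyclic G) (P : Sylow p G) (hP : Nat.card P = p)
    (hS : Nat.card (Sylow p G) = 1 + 1 * p) : ∀ c ∈ Cen P, c ∈ (P : Subgroup G) := by
  classical
  have hpp : p.Prime := hp.out
  have hppos : 0 < p := hpp.pos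
  -- the action on the Sylow subgroups is faithful
  have hker : ∀ d : G, (∀ Q : Sylow p G, d • Q = Q) → d = 1 := by
    intro d hd
    have hmem : d ∈ (MulAction.toPermHom G (Sylow p G)).ker := by
      rw [MonoidHom.mem_ker]
      exact Equiv.ext fun Q => hd Q
    rcases (MonoidHom.normal_ker (MulAction.toPermHom G (Sylow p G))).eq_bot_or_eq_top with h | h
    · rw [h] at hmem
      exact Subgroup.mem_bot.1 hmem
    · exfalso
      have hN : Subgroup.normalizer ((P : Subgroup G) : Set G) = ⊤ := by
        rw [eq_top_iff]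
        intro g _
        have hg : g ∈ (MulAction.toPermHom G (Sylow p G)).ker := h ▸ Subgroup.mem_top g
        have h1 : MulAction.toPermHom G (Sylow p G) g = 1 := MonoidHom.mem_ker.1 hg
        have h2 : g • P = P := by
          have := congrArg (fun e : Equiv.Perm (Sylow p G) => e P) h1
          simpa using this
        exact Sylow.smul_eq_iff_mem_normalizer.1 h2
      have h3 : Nat.card (Sylow p G) =
          (Subgroup.normalizer ((P : Subgroup G) : Set G)).index := Sylow.card_eq_index_normalizer P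
      rw [hN, Subgroup.index_top] at h3
      omega
  -- a second Sylow subgroup
  obtain ⟨Q₀, hQ₀⟩ : ∃ Q₀ : Sylow p G, Q₀ ≠ P := by
    have h1 : 1 < Nat.card (Sylow p G) := by omega
    have : Nontrivial (Sylow p G) := Finite.one_lt_card_iff_nontrivial.1 h1
    exact exists_ne P
  -- `P` is abelian
  have hcyc : IsCyclic (P : Subgroup G) := isCyclic_of_prime_card hP
  have hPC : (P : Subgroup G) ≤ Cen P := le_centralizer_of_isCyclic (P : Subgroup G)
  have hPN : (P : Subgroup G) ≤ Nrm P := Subgroup.le_normalizer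
  -- `P` acts freely at `Q₀`
  have hfree : ∀ y ∈ (P : Subgroup G), y • Q₀ = Q₀ → y = 1 := by
    intro y hy hfix
    have hyN : y ∈ Subgroup.normalizer ((Q₀ : Subgroup G) : Set G) :=
      Sylow.smul_eq_iff_mem_normalizer.1 hfix
    have h1 : y ∈ (P : Subgroup G) ⊓ Subgroup.normalizer ((Q₀ : Subgroup G) : Set G) := ⟨hy, hyN⟩
    have h1 : y ∈ (P : Subgroup G) ⊓ (Q₀ : Subgroup G) :=
      (P.isPGroup'.inf_normalizer_sylow Q₀).le h1
    by_contra hy1
    apply hQ₀
    have hle : (P : Subgroup G) ≤ (Q₀ : Subgroup G) := by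
      intro z hz
      have hy1' : (⟨y, hy⟩ : (P : Subgroup G)) ≠ 1 := fun h => hy1 (congrArg Subtype.val h)
      have hmem : (⟨z, hz⟩ : (P : Subgroup G)) ∈ Subgroup.zpowers (⟨y, hy⟩ : (P : Subgroup G)) :=
        mem_zpowers_of_prime_card hP hy1'
      obtain ⟨k, hk⟩ := Subgroup.mem_zpowers_iff.1 hmem
      have hk' : y ^ k = z := by
        have := congrArg Subtype.val hk
        simpa using this
      rw [← hk']
      exact Subgroup.zpow_mem _ h1.2 k
    exact Sylow.ext (P.is_maximal' Q₀.isPGroup' hle)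
  -- `P` is transitive on the other Sylow subgroups
  have htrans : ∀ Q : Sylow p G, Q ≠ P → ∃ y : (P : Subgroup G), (y : G) • Q₀ = Q := by
    have : Fintype (Sylow p G) := Fintype.ofFinite _
    have : Fintype (P : Subgroup G) := Fintype.ofFinite _
    let f : ↥(P : Subgroup G) → Sylow p G := fun y => (y : G) • Q₀
    have hf : Function.Injective f := by
      intro y y' hyy'
      have h1 : ((y' : G)⁻¹ * (y : G)) • Q₀ = Q₀ := by
        rw [mul_smul]
        show (y' : G)⁻¹ • f y = Q₀
        rw [hyy']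
        exact inv_smul_smul _ _
      have h2 := hfree _ ((P : Subgroup G).mul_mem ((P : Subgroup G).inv_mem y'.2) y.2) h1
      have h3 : (y' : G) = (y : G) := eq_of_inv_mul_eq_one h2
      exact (Subtype.ext h3).symm
    have hsub : Finset.univ.image f ⊆ Finset.univ.erase P := by
      intro Q hQ
      obtain ⟨y, -, rfl⟩ := Finset.mem_image.1 hQ
      rw [Finset.mem_erase]
      refine ⟨?_, Finset.mem_univ _⟩
      intro h
      apply hQ₀
      have h1 : (y : G) • P = P := Sylow.smul_eq_iff_mem_normalizer.2 (hPN y.2)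
      have h2 : (y : G) • Q₀ = (y : G) • P := h.trans h1.symm
      exact MulAction.injective (y : G) h2
    have hcard1 : (Finset.univ.image f).card = p := by
      rw [Finset.card_image_of_injective _ hf, Finset.card_univ, ← Nat.card_eq_fintype_card, hP]
    have hcard2 : (Finset.univ.erase P).card = p := by
      rw [Finset.card_erase_of_mem (Finset.mem_univ _), Finset.card_univ,
        ← Nat.card_eq_fintype_card, hS]
      omega
    have heq : Finset.univ.image f = Finset.univ.erase P :=
      Finset.eq_of_subset_of_card_le hsub (by rw [hcard1, hcard2])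
    intro Q hQ
    have hmem : Q ∈ Finset.univ.image f := by
      rw [heq, Finset.mem_erase]
      exact ⟨hQ, Finset.mem_univ _⟩
    obtain ⟨y, -, hy⟩ := Finset.mem_image.1 hmem
    exact ⟨y, hy⟩
  -- the main argument
  intro c hc
  have hcN : c ∈ Nrm P := Subgroup.centralizer_le_normalizer _ hc
  have hcP : c • P = P := Sylow.smul_eq_iff_mem_normalizer.2 hcN
  have hcQ : c • Q₀ ≠ P := by
    intro h
    apply hQ₀
    have h1 : c • Q₀ = c • P := h.trans hcP.symm
    exact MulAction.injective c h1
  obtain ⟨y, hy⟩ := htrans (c • Q₀) hcQ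
  have hyC : (y : G) ∈ Cen P := hPC y.2
  have hdC : (y : G)⁻¹ * c ∈ Cen P := Subgroup.mul_mem _ (Subgroup.inv_mem _ hyC) hc
  have hdQ : ((y : G)⁻¹ * c) • Q₀ = Q₀ := by
    rw [mul_smul, ← hy]
    exact inv_smul_smul _ _
  have hdP : ((y : G)⁻¹ * c) • P = P :=
    Sylow.smul_eq_iff_mem_normalizer.2 (Subgroup.centralizer_le_normalizer _ hdC)
  have hall : ∀ Q : Sylow p G, ((y : G)⁻¹ * c) • Q = Q := by
    intro Q
    by_cases hQ : Q = P
    · rw [hQ]
      exact hdP
    · obtain ⟨z, hz⟩ := htrans Q hQ
      have hcomm : (z : G) * ((y : G)⁻¹ * c) = ((y : G)⁻¹ * c) * (z : G) :=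
        (Subgroup.mem_centralizer_iff.1 hdC) (z : G) z.2
      rw [← hz, ← mul_smul, ← hcomm, mul_smul, hdQ]
  have hd1 : (y : G)⁻¹ * c = 1 := hker _ hall
  have hcy : (y : G) = c := eq_of_inv_mul_eq_one hd1
  rw [← hcy]
  exact y.2

end Cfsg.Agent.Lib.Helper11_BR_V1
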