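import Mathlib

/-!
# Coherence combinatorics for exceptional characters (helper17)

Pure integer-vector combinatorics used in the Brauer–Suzuki theory of exceptional characters
for a self-centralizing subgroup of prime order.
-/

set_option autoImplicit false

namespace Cfsg.Agent.Lib.Helper17_Coherence

open Finset

/-- The indicator vector of `X`. -/
def ei {I : Type*} [DecidableEq I] (X : I) (i : I) : ℤ := if i = X then 1 else 0

theorem ei_self {I : Type*} [DecidableEq I] (X : I) : ei X X = 1 := by simp [ei]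

theorem ei_ne {I : Type*} [DecidableEq I] {X i : I} (h : i ≠ X) : ei X i = 0 := by simp [ei, h]

theorem ei_nonneg {I : Type*} [DecidableEq I] (X i : I) : 0 ≤ ei X i := by
  unfold ei; split_ifs <;> norm_num

theorem ei_le_one {I : Type*} [DecidableEq I] (X i : I) : ei X i ≤ 1 := by
  unfold ei; split_ifs <;> norm_num

theorem ei_eq_one_iff {I : Type*} [DecidableEq I] (X i : I) : ei X i = 1 ↔ i = X := by
  unfold ei; split_ifs with h <;> simp [h]

theorem ei_eq_zero_iff {I : Type*} [DecidableEq I] (X i : I) : ei X i = 0 ↔ i ≠ X := by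
  unfold ei; split_ifs with h <;> simp [h]

variable {I : Type*} [Fintype I] [DecidableEq I]

/-- An integer vector of norm `2` orthogonal to a positive vector is a root `e_X - e_Y`. -/
theorem root_of_norm_two (δ d : I → ℤ) (hd : ∀ i, 0 < d i) (h2 : ∑ i, δ i ^ 2 = 2)
    (h0 : ∑ i, δ i * d i = 0) :
    ∃ X Y : I, X ≠ Y ∧ ∀ i, δ i = ei X i - ei Y i := by
  have hle : ∀ i, δ i ^ 2 ≤ 2 := by
    intro i
    rw [← h2]
    exact Finset.single_le_sum (f := fun i => δ i ^ 2) (fun j _ => sq_nonneg (δ j)) (Finset.mem_univ i)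
  have hb : ∀ i, δ i = -1 ∨ δ i = 0 ∨ δ i = 1 := by
    intro i
    have h1 : -1 ≤ δ i := by nlinarith [hle i, sq_nonneg (δ i + 2)]
    have h2 : δ i ≤ 1 := by nlinarith [hle i, sq_nonneg (δ i - 2)]
    omega
  have hsq : ∀ i, δ i ^ 2 = if δ i ≠ 0 then 1 else 0 := by
    intro i
    rcases hb i with h | h | h <;> simp [h]
  have hcard : (Finset.univ.filter (fun i => δ i ≠ 0)).card = 2 := by
    have : (∑ i, δ i ^ 2) = ((Finset.univ.filter (fun i => δ i ≠ 0)).card : ℤ) := by
      rw [Finset.sum_congr rfl (fun i _ => hsq i), Finset.sum_ite, Finset.sum_const_zero,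
        add_zero, Finset.sum_const, nsmul_eq_mul, mul_one]
    rw [h2] at this
    exact_mod_cast this.symm
  obtain ⟨X, Y, hXY, hS⟩ := Finset.card_eq_two.mp hcard
  have hX : δ X ≠ 0 := by
    have : X ∈ Finset.univ.filter (fun i => δ i ≠ 0) := by rw [hS]; simp
    simpa using this
  have hY : δ Y ≠ 0 := by
    have : Y ∈ Finset.univ.filter (fun i => δ i ≠ 0) := by rw [hS]; simp
    simpa using this
  have hother : ∀ i, i ≠ X → i ≠ Y → δ i = 0 := by
    intro i h1 h2
    by_contra h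
    have : i ∈ Finset.univ.filter (fun i => δ i ≠ 0) := by simp [h]
    rw [hS] at this
    simp at this
    tauto
  have hsum : ∑ i, δ i * d i = δ X * d X + δ Y * d Y := by
    rw [← Finset.sum_pair (f := fun i => δ i * d i) hXY]
    symm
    apply Finset.sum_subset (Finset.subset_univ _)
    intro i _ hi
    simp only [Finset.mem_insert, Finset.mem_singleton, not_or] at hi
    rw [hother i hi.1 hi.2, zero_mul]
  rw [hsum] at h0
  have hdX := hd X
  have hdY := hd Y
  rcases hb X with h1 | h1 | h1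
  · rcases hb Y with h3 | h3 | h3
    · rw [h1, h3] at h0; nlinarith
    · exact absurd h3 hY
    · refine ⟨Y, X, hXY.symm, ?_⟩
      intro i
      by_cases hiX : i = X
      · subst hiX; simp [ei, h1, hXY]
      · by_cases hiY : i = Y
        · subst hiY; simp [ei, h3, hXY.symm]
        · simp [ei, hiX, hiY, hother i hiX hiY]
  · exact absurd h1 hX
  · rcases hb Y with h3 | h3 | h3
    · refine ⟨X, Y, hXY, ?_⟩
      intro i
      by_cases hiX : i = X
      · subst hiX; simp [ei, h1, hXY]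
      · by_cases hiY : i = Y
        · subst hiY; simp [ei, h3, hXY.symm]
        · simp [ei, hiX, hiY, hother i hiX hiY]
    · exact absurd h3 hY
    · rw [h1, h3] at h0; nlinarith

omit [Fintype I] in
/-- Key case analysis: two roots `e_{X'} - e_{Y'}` and `e_X - e_Y` whose difference is zero or a
root share the positive or the negative index. -/
theorem root_diff {X Y X' Y' : I} (hXY : X ≠ Y) (hXY' : X' ≠ Y')
    (h : (∀ i, ei X' i - ei Y' i = ei X i - ei Y i) ∨
      ∃ P Q : I, P ≠ Q ∧ ∀ i, ei X' i - ei Y' i = ei X i - ei Y i + ei P i - ei Q i) :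
    X' = X ∨ Y' = Y := by
  rcases h with h | ⟨P, Q, hPQ, h⟩
  · left
    have h1 := h X'
    rw [ei_self, ei_ne hXY'] at h1
    have h2 := ei_le_one X X'
    have h3 := ei_nonneg Y X'
    have : ei X X' = 1 := by omega
    exact (ei_eq_one_iff X X').mp this
  · by_contra hcon
    push Not at hcon
    obtain ⟨hX, hY⟩ := hcon
    have h1 := h X'
    rw [ei_self, ei_ne hXY', ei_ne hX] at h1
    have hP : ei P X' = 1 := by
      have := ei_le_one P X'; have := ei_nonneg Y X'; have := ei_nonneg Q X'; omega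
    have hP' : X' = P := (ei_eq_one_iff P X').mp hP
    have h2 := h X
    rw [ei_self, ei_ne hXY, ei_ne (Ne.symm hX)] at h2
    have hXP : X ≠ P := by rw [← hP']; exact Ne.symm hX
    rw [ei_ne hXP] at h2
    have hQ : ei Q X = 1 := by
      have := ei_le_one Q X; have := ei_nonneg Y' X; omega
    have hQ' : X = Q := (ei_eq_one_iff Q X).mp hQ
    have h3 := h Y
    rw [ei_self, ei_ne (Ne.symm hXY)] at h3
    have hYQ : Y ≠ Q := by rw [← hQ']; exact Ne.symm hXY
    rw [ei_ne hYQ, ei_ne (Ne.symm hY)] at h3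
    have := ei_nonneg X' Y
    have := ei_nonneg P Y
    have hYP : ei P Y = 0 := by
      rw [ei_eq_zero_iff]
      rw [← hP']
      intro hYX'
      rw [hYX', ei_self] at h3
      have := ei_nonneg P X'
      rw [← hP', ei_self] at h3
      omega
    rw [hYP] at h3
    omega

omit [Fintype I] in
/-- **Coherence**: a family of integer vectors any two of which are equal or differ by a root
`e_X - e_Y` has the form `a t = Δ - ε e_{c t}` for a fixed vector `Δ` and a fixed sign `ε`. -/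
theorem coherent [Nonempty I] {T : Type*} (a : T → I → ℤ)
    (h : ∀ s t, a s = a t ∨ ∃ X Y : I, X ≠ Y ∧ ∀ i, a s i = a t i + ei X i - ei Y i) :
    ∃ (Δ : I → ℤ) (ε : ℤ) (c : T → I), (ε = 1 ∨ ε = -1) ∧ ∀ t i, a t i = Δ i - ε * ei (c t) i := by
  classical
  obtain ⟨j⟩ := ‹Nonempty I›
  by_cases hT : Nonempty T
  swap
  · refine ⟨fun _ => 0, 1, fun _ => j, Or.inl rfl, ?_⟩
    intro t
    exact absurd ⟨t⟩ hT
  obtain ⟨t0⟩ := hT
  by_cases hB : ∀ r, a r = a t0
  · refine ⟨fun i => a t0 i + ei j i, 1, fun _ => j, Or.inl rfl, ?_⟩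
    intro t i
    rw [hB t]; ring
  push Not at hB
  obtain ⟨s0, hs0⟩ := hB
  obtain ⟨X, Y, hXY, hs0'⟩ : ∃ X Y : I, X ≠ Y ∧ ∀ i, a s0 i = a t0 i + ei X i - ei Y i := by
    rcases h s0 t0 with h1 | h1
    · exact absurd h1 hs0
    · exact h1
  -- for every r, a description relative to t0
  have hdesc : ∀ r, ∃ Xr Yr : I, (Xr = Yr → a r = a t0) ∧
      ∀ i, a r i = a t0 i + ei Xr i - ei Yr i := by
    intro r
    rcases h r t0 with h1 | ⟨Xr, Yr, hne, h1⟩
    · exact ⟨j, j, fun _ => h1, fun i => by rw [h1]; ring⟩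
    · exact ⟨Xr, Yr, fun hh => absurd hh hne, h1⟩
  choose Xr Yr hr1 hr2 using hdesc
  -- key: each nondegenerate r shares X or Y
  have key : ∀ r, Xr r ≠ Yr r → Xr r = X ∨ Yr r = Y := by
    intro r hne
    apply root_diff hXY hne
    rcases h r s0 with h1 | ⟨P, Q, hPQ, h1⟩
    · left
      intro i
      have e1 := hr2 r i
      have e2 := hs0' i
      have e3 := congrFun h1 i
      omega
    · right
      refine ⟨P, Q, hPQ, ?_⟩
      intro i
      have e1 := hr2 r i
      have e2 := hs0' i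
      have e3 := h1 i
      omega
  by_cases hA : ∀ r, Xr r ≠ Yr r → Xr r = X
  · refine ⟨fun i => a t0 i + ei X i, 1, fun r => if Xr r = Yr r then X else Yr r, Or.inl rfl, ?_⟩
    intro r i
    by_cases hd : Xr r = Yr r
    · simp only [hd, if_true]
      rw [hr1 r hd]; ring
    · simp only [hd, if_false]
      rw [hr2 r i, hA r hd]; ring
  by_cases hB' : ∀ r, Xr r ≠ Yr r → Yr r = Y
  · refine ⟨fun i => a t0 i - ei Y i, -1, fun r => if Xr r = Yr r then Y else Xr r, Or.inr rfl, ?_⟩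
    intro r i
    by_cases hd : Xr r = Yr r
    · simp only [hd, if_true]
      rw [hr1 r hd]; ring
    · simp only [hd, if_false]
      rw [hr2 r i, hB' r hd]; ring
  exfalso
  push Not at hA hB'
  obtain ⟨r, hr, hrX⟩ := hA
  obtain ⟨r', hr', hrY'⟩ := hB'
  have hrY : Yr r = Y := by
    rcases key r hr with h1 | h1
    · exact absurd h1 hrX
    · exact h1
  have hrX' : Xr r' = X := by
    rcases key r' hr' with h1 | h1
    · exact h1
    · exact absurd h1 hrY'
  -- compare r' (type X) and r (type Y)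
  have hroot : Xr r' = Xr r ∨ Yr r' = Yr r := by
    apply root_diff hr hr'
    rcases h r' r with h1 | ⟨P, Q, hPQ, h1⟩
    · left
      intro i
      have e1 := hr2 r i
      have e2 := hr2 r' i
      have e3 := congrFun h1 i
      omega
    · right
      refine ⟨P, Q, hPQ, ?_⟩
      intro i
      have e1 := hr2 r i
      have e2 := hr2 r' i
      have e3 := h1 i
      omega
  rcases hroot with h1 | h1
  · exact hrX (h1 ▸ hrX')
  · exact hrY' (h1.trans hrY)

theorem sum_ei_mul (X : I) (f : I → ℤ) : ∑ i, ei X i * f i = f X := by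
  unfold ei
  simp

theorem sum_ei_sq (X : I) : ∑ i, ei X i ^ 2 = 1 := by
  unfold ei
  simp

/-- The abstract form of the theory of exceptional characters for a self-centralizing subgroup
of prime order `p` whose normalizer has order `e * p`. -/
theorem exceptional_abstract {L : Type*} [Fintype L] [DecidableEq L]
    (i0 : I) (a : L → I → ℤ) (d m : I → ℤ) (p e : ℕ) (rel : L → L → Prop) [DecidableRel rel]
    (hd : ∀ i, 0 < d i)
    (hrefl : ∀ s, rel s s)
    (hgram : ∀ s t, ∑ i, a s i * a t i = (e : ℤ) + if rel s t then 1 else 0)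
    (hdeg : ∀ s, ∑ i, a s i * d i = 0)
    (hi0 : ∀ s, a s i0 = 1)
    (hcong : ∀ i, d i = (p : ℤ) * m i - ∑ s, a s i)
    (hcard : Fintype.card L + 1 = p)
    (hcls : ∀ s, (Finset.univ.filter (fun t => rel s t)).card ≤ e)
    (hbig : e * (e + 2) + 1 ≤ p) (he : 1 ≤ e) :
    ∃ (Δ : I → ℤ) (ε : ℤ) (χ : I), (ε = 1 ∨ ε = -1) ∧ Δ i0 = 1 ∧ ∑ i, Δ i ^ 2 = e ∧ Δ χ = 0 ∧
      ∑ i, Δ i * d i = ε * d χ ∧ ∀ i, Δ i ≠ 0 → (d i ≡ Δ i [ZMOD p]) := by
  classical
  have : Nonempty I := ⟨i0⟩
  -- Step 1: pairwise structure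
  have hsq : ∀ s t, ∑ i, (a s i - a t i) ^ 2 =
      (∑ i, a s i * a s i) - 2 * (∑ i, a s i * a t i) + ∑ i, a t i * a t i := by
    intro s t
    rw [Finset.mul_sum, ← Finset.sum_sub_distrib, ← Finset.sum_add_distrib]
    apply Finset.sum_congr rfl
    intro i _
    ring
  have hpair : ∀ s t, a s = a t ∨ ∃ X Y : I, X ≠ Y ∧ ∀ i, a s i = a t i + ei X i - ei Y i := by
    intro s t
    by_cases hst : rel s t
    · left
      have h0 : ∑ i, (a s i - a t i) ^ 2 = 0 := by
        rw [hsq, hgram s s, hgram s t, hgram t t, if_pos (hrefl s), if_pos hst, if_pos (hrefl t)]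
        ring
      have h1 := (Finset.sum_eq_zero_iff_of_nonneg (fun i _ => sq_nonneg (a s i - a t i))).mp h0
      funext i
      have := h1 i (Finset.mem_univ i)
      have := pow_eq_zero_iff (two_ne_zero) |>.mp this
      omega
    · right
      have h2 : ∑ i, (a s i - a t i) ^ 2 = 2 := by
        rw [hsq, hgram s s, hgram s t, hgram t t, if_pos (hrefl s), if_neg hst, if_pos (hrefl t)]
        ring
      have h0 : ∑ i, (a s i - a t i) * d i = 0 := by
        have : ∀ i, (a s i - a t i) * d i = a s i * d i - a t i * d i := fun i => by ring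
        rw [Finset.sum_congr rfl (fun i _ => this i), Finset.sum_sub_distrib, hdeg s, hdeg t]
        ring
      obtain ⟨X, Y, hXY, hδ⟩ := root_of_norm_two (fun i => a s i - a t i) d hd h2 h0
      refine ⟨X, Y, hXY, ?_⟩
      intro i
      have := hδ i
      omega
  -- Step 2: coherence
  obtain ⟨Δ, ε, c, hε, hform⟩ := coherent a hpair
  have hε0 : ε ≠ 0 := by rcases hε with h | h <;> rw [h] <;> norm_num
  have hεsq : ε * ε = 1 := by rcases hε with h | h <;> rw [h] <;> norm_num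
  -- Step 3a
  have hrel_iff : ∀ s t, rel s t ↔ c s = c t := by
    intro s t
    constructor
    · intro hst
      have heq : a s = a t := by
        rcases hpair s t with h1 | ⟨X, Y, hXY, h1⟩
        · exact h1
        · exfalso
          have h2 : ∑ i, (a s i - a t i) ^ 2 = 0 := by
            rw [hsq, hgram s s, hgram s t, hgram t t, if_pos (hrefl s), if_pos hst,
              if_pos (hrefl t)]
            ring
          have h3 := (Finset.sum_eq_zero_iff_of_nonneg
            (fun i _ => sq_nonneg (a s i - a t i))).mp h2 X (Finset.mem_univ X)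
          have h4 := pow_eq_zero_iff (two_ne_zero) |>.mp h3
          have h5 := h1 X
          rw [ei_self, ei_ne hXY] at h5
          omega
      have h1 := congrFun heq (c s)
      rw [hform s, hform t, ei_self] at h1
      have h2 : ε * (ei (c t) (c s) - 1) = 0 := by linarith
      rcases mul_eq_zero.mp h2 with h3 | h3
      · exact absurd h3 hε0
      · exact (ei_eq_one_iff (c t) (c s)).mp (by omega)
    · intro hc
      by_contra hst
      have heq : a s = a t := by
        funext i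
        rw [hform s, hform t, hc]
      have h1 := hgram s t
      rw [heq, hgram t t, if_pos (hrefl t), if_neg hst] at h1
      omega
  -- Step 3b
  have hex : ∀ s, ∃ t, ¬ rel s t := by
    intro s
    by_contra hcon
    push Not at hcon
    have h1 : Finset.univ.filter (fun t => rel s t) = Finset.univ := by
      apply Finset.filter_true_of_mem
      intro t _
      exact hcon t
    have h2 := hcls s
    rw [h1, Finset.card_univ] at h2
    nlinarith
  have hL : Nonempty L := by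
    by_contra hcon
    rw [not_nonempty_iff] at hcon
    rw [Fintype.card_eq_zero] at hcard
    nlinarith
  obtain ⟨t0⟩ := hL
  -- Step 3c
  have hci0 : ∀ t, c t ≠ i0 := by
    intro t hct
    obtain ⟨s, hs⟩ := hex t
    have hcs : c s ≠ c t := fun h => hs ((hrel_iff t s).mpr h.symm)
    have h1 := hi0 s
    rw [hform s, ei_ne (by rw [← hct]; exact Ne.symm hcs)] at h1
    have h2 := hi0 t
    rw [hform t, hct, ei_self] at h2
    have : ε = 0 := by linarith
    exact hε0 this
  have hΔ0 : Δ i0 = 1 := by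
    have h1 := hi0 t0
    rw [hform t0, ei_ne (Ne.symm (hci0 t0))] at h1
    linarith
  -- Step 3d
  have hnorm : ∀ t, ∑ i, Δ i ^ 2 = e + 2 * ε * Δ (c t) := by
    intro t
    have h1 := hgram t t
    rw [if_pos (hrefl t)] at h1
    have h2 : ∑ i, a t i * a t i =
        ∑ i, Δ i ^ 2 - 2 * ε * (∑ i, ei (c t) i * Δ i) + (ε * ε) * ∑ i, ei (c t) i ^ 2 := by
      rw [Finset.mul_sum, Finset.mul_sum, ← Finset.sum_sub_distrib, ← Finset.sum_add_distrib]
      apply Finset.sum_congr rfl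
      intro i _
      rw [hform t i]
      ring
    rw [h2, sum_ei_mul, sum_ei_sq, hεsq] at h1
    linarith
  have hx : ∀ t, Δ (c t) = Δ (c t0) := by
    intro t
    have h1 := hnorm t
    have h2 := hnorm t0
    have h3 : ε * (Δ (c t) - Δ (c t0)) = 0 := by linarith
    rcases mul_eq_zero.mp h3 with h4 | h4
    · exact absurd h4 hε0
    · linarith
  -- Step 3f
  have hcardL : Fintype.card L ≤ e * (Finset.univ.image c).card := by
    rw [← Finset.card_univ]
    apply Finset.card_le_mul_card_image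
    intro b hb
    rw [Finset.mem_image] at hb
    obtain ⟨t, _, rfl⟩ := hb
    have : Finset.univ.filter (fun s => c s = c t) = Finset.univ.filter (fun s => rel t s) := by
      apply Finset.filter_congr
      intro s _
      rw [hrel_iff t s]
      exact eq_comm
    rw [this]
    exact hcls t
  have hk : e + 2 ≤ (Finset.univ.image c).card := by
    have h1 : e * (e + 2) ≤ e * (Finset.univ.image c).card := by omega
    exact Nat.le_of_mul_le_mul_left h1 (by omega)
  have hlower : 1 + ((Finset.univ.image c).card : ℤ) * Δ (c t0) ^ 2 ≤ ∑ i, Δ i ^ 2 := by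
    have h1 : ∑ i ∈ insert i0 (Finset.univ.image c), Δ i ^ 2 ≤ ∑ i, Δ i ^ 2 :=
      Finset.sum_le_sum_of_subset_of_nonneg (Finset.subset_univ _) (fun i _ _ => sq_nonneg _)
    have hnot : i0 ∉ Finset.univ.image c := by
      rw [Finset.mem_image]
      rintro ⟨t, _, ht⟩
      exact hci0 t ht
    rw [Finset.sum_insert hnot, hΔ0] at h1
    have h2 : ∑ i ∈ Finset.univ.image c, Δ i ^ 2 =
        ((Finset.univ.image c).card : ℤ) * Δ (c t0) ^ 2 := by
      rw [← nsmul_eq_mul, ← Finset.sum_const]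
      apply Finset.sum_congr rfl
      intro i hi
      rw [Finset.mem_image] at hi
      obtain ⟨t, _, rfl⟩ := hi
      rw [hx t]
    rw [h2] at h1
    linarith
  have hx0 : Δ (c t0) = 0 := by
    by_contra hne
    have h1 := hnorm t0
    rw [h1] at hlower
    set x := Δ (c t0) with hxdef
    have hk' : ((e : ℤ) + 2) ≤ ((Finset.univ.image c).card : ℤ) := by exact_mod_cast hk
    have hx1 : 1 ≤ x ^ 2 := by
      have : 0 < x ^ 2 := by positivity
      omega
    have h2 : 2 * ε * x ≤ x ^ 2 + 1 := by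
      rcases hε with h | h <;> rw [h] <;> nlinarith [sq_nonneg (x - 1), sq_nonneg (x + 1)]
    have h3 : ((e : ℤ) + 2) * x ^ 2 ≤ ((Finset.univ.image c).card : ℤ) * x ^ 2 :=
      mul_le_mul_of_nonneg_right hk' (sq_nonneg x)
    nlinarith
  -- conclusion
  refine ⟨Δ, ε, c t0, hε, hΔ0, ?_, hx0, ?_, ?_⟩
  · rw [hnorm t0, hx0]; ring
  · have h1 := hdeg t0
    have h2 : ∑ i, a t0 i * d i = ∑ i, Δ i * d i - ε * ∑ i, ei (c t0) i * d i := by
      rw [Finset.mul_sum, ← Finset.sum_sub_distrib]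
      apply Finset.sum_congr rfl
      intro i _
      rw [hform t0 i]; ring
    rw [h2, sum_ei_mul] at h1
    linarith
  · intro i hi
    have hnotc : ∀ t, c t ≠ i := by
      intro t hct
      apply hi
      rw [← hct, hx t, hx0]
    have h1 : ∑ s, a s i = (Fintype.card L : ℤ) * Δ i := by
      rw [← Finset.card_univ, ← nsmul_eq_mul, ← Finset.sum_const]
      apply Finset.sum_congr rfl
      intro s _
      rw [hform s i, ei_ne (Ne.symm (hnotc s))]; ring
    have h2 := hcong i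
    rw [h1] at h2
    have h3 : (Fintype.card L : ℤ) = p - 1 := by
      have : (Fintype.card L : ℤ) + 1 = p := by exact_mod_cast hcard
      linarith
    rw [h3] at h2
    rw [Int.modEq_iff_dvd]
    refine ⟨Δ i - m i, ?_⟩
    rw [h2]; ring

omit [Fintype I] in
/-- An integer vector of norm one is `± e_ψ`. -/
theorem sum_sq_eq_one (S : Finset I) (Δ : I → ℤ) (h : ∑ i ∈ S, Δ i ^ 2 = 1) :
    ∃ ψ ∈ S, (Δ ψ = 1 ∨ Δ ψ = -1) ∧ ∀ i ∈ S, i ≠ ψ → Δ i = 0 := by
  have hex : ∃ ψ ∈ S, Δ ψ ≠ 0 := by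
    by_contra hcon
    push Not at hcon
    have : ∑ i ∈ S, Δ i ^ 2 = 0 := by
      apply Finset.sum_eq_zero
      intro i hi
      rw [hcon i hi]; norm_num
    omega
  obtain ⟨ψ, hψS, hψ⟩ := hex
  have h1 := Finset.add_sum_erase S (fun i => Δ i ^ 2) hψS
  have h2 : 0 ≤ ∑ i ∈ S.erase ψ, Δ i ^ 2 := Finset.sum_nonneg (fun i _ => sq_nonneg _)
  have h3 : 1 ≤ Δ ψ ^ 2 := by
    have : 0 < Δ ψ ^ 2 := by positivity
    omega
  have h4 : Δ ψ ^ 2 = 1 := by omega
  have h5 : ∑ i ∈ S.erase ψ, Δ i ^ 2 = 0 := by omega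
  refine ⟨ψ, hψS, ?_, ?_⟩
  · have : (Δ ψ - 1) * (Δ ψ + 1) = 0 := by ring_nf; omega
    rcases mul_eq_zero.mp this with h6 | h6
    · left; omega
    · right; omega
  · intro i hi hne
    have := (Finset.sum_eq_zero_iff_of_nonneg (fun i _ => sq_nonneg (Δ i))).mp h5 i
      (Finset.mem_erase.mpr ⟨hne, hi⟩)
    exact pow_eq_zero_iff (two_ne_zero) |>.mp this

omit [Fintype I] in
/-- An integer vector of norm two is `± e_ψ ± e_ψ'`. -/
theorem sum_sq_eq_two (S : Finset I) (Δ : I → ℤ) (h : ∑ i ∈ S, Δ i ^ 2 = 2) :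
    ∃ ψ ∈ S, ∃ ψ' ∈ S, ψ ≠ ψ' ∧ (Δ ψ = 1 ∨ Δ ψ = -1) ∧ (Δ ψ' = 1 ∨ Δ ψ' = -1) ∧
      ∀ i ∈ S, i ≠ ψ → i ≠ ψ' → Δ i = 0 := by
  have hex : ∃ ψ ∈ S, Δ ψ ≠ 0 := by
    by_contra hcon
    push Not at hcon
    have : ∑ i ∈ S, Δ i ^ 2 = 0 := by
      apply Finset.sum_eq_zero
      intro i hi
      rw [hcon i hi]; norm_num
    omega
  obtain ⟨ψ, hψS, hψ⟩ := hex
  have h1 := Finset.add_sum_erase S (fun i => Δ i ^ 2) hψS
  have h2 : 0 ≤ ∑ i ∈ S.erase ψ, Δ i ^ 2 := Finset.sum_nonneg (fun i _ => sq_nonneg _)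
  have h3 : Δ ψ = 1 ∨ Δ ψ = -1 := by
    have hle : Δ ψ ^ 2 ≤ 2 := by omega
    have h4 : -1 ≤ Δ ψ := by nlinarith [sq_nonneg (Δ ψ + 2)]
    have h5 : Δ ψ ≤ 1 := by nlinarith [sq_nonneg (Δ ψ - 2)]
    omega
  have h4 : Δ ψ ^ 2 = 1 := by rcases h3 with h | h <;> rw [h] <;> norm_num
  have h5 : ∑ i ∈ S.erase ψ, Δ i ^ 2 = 1 := by omega
  obtain ⟨ψ', hψ'S, hψ', hrest⟩ := sum_sq_eq_one (S.erase ψ) Δ h5
  refine ⟨ψ, hψS, ψ', Finset.mem_of_mem_erase hψ'S, (Finset.ne_of_mem_erase hψ'S).symm, h3, hψ',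
    ?_⟩
  intro i hi h6 h7
  exact hrest i (Finset.mem_erase.mpr ⟨h6, hi⟩) h7

/-- Shape of `Δ` when `e = 2`. -/
theorem shape_two (i0 : I) (Δ : I → ℤ) (h0 : Δ i0 = 1) (h : ∑ i, Δ i ^ 2 = 2) :
    ∃ ψ, ψ ≠ i0 ∧ (Δ ψ = 1 ∨ Δ ψ = -1) ∧
      ∀ f : I → ℤ, ∑ i, Δ i * f i = f i0 + Δ ψ * f ψ := by
  have h1 := Finset.add_sum_erase Finset.univ (fun i => Δ i ^ 2) (Finset.mem_univ i0)
  rw [h0, h] at h1
  have h2 : ∑ i ∈ Finset.univ.erase i0, Δ i ^ 2 = 1 := by omega
  obtain ⟨ψ, hψS, hψ, hrest⟩ := sum_sq_eq_one _ Δ h2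
  have hne : ψ ≠ i0 := Finset.ne_of_mem_erase hψS
  refine ⟨ψ, hne, hψ, ?_⟩
  intro f
  have h3 : ∑ i, Δ i * f i = ∑ i ∈ ({i0, ψ} : Finset I), Δ i * f i := by
    symm
    apply Finset.sum_subset (Finset.subset_univ _)
    intro i _ hi
    simp only [Finset.mem_insert, Finset.mem_singleton, not_or] at hi
    rw [hrest i (Finset.mem_erase.mpr ⟨hi.1, Finset.mem_univ i⟩) hi.2, zero_mul]
  rw [h3, Finset.sum_pair (Ne.symm hne), h0, one_mul]

/-- Shape of `Δ` when `e = 3`. -/
theorem shape_three (i0 : I) (Δ : I → ℤ) (h0 : Δ i0 = 1) (h : ∑ i, Δ i ^ 2 = 3) :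
    ∃ ψ ψ', ψ ≠ i0 ∧ ψ' ≠ i0 ∧ ψ ≠ ψ' ∧ (Δ ψ = 1 ∨ Δ ψ = -1) ∧ (Δ ψ' = 1 ∨ Δ ψ' = -1) ∧
      ∀ f : I → ℤ, ∑ i, Δ i * f i = f i0 + Δ ψ * f ψ + Δ ψ' * f ψ' := by
  have h1 := Finset.add_sum_erase Finset.univ (fun i => Δ i ^ 2) (Finset.mem_univ i0)
  rw [h0, h] at h1
  have h2 : ∑ i ∈ Finset.univ.erase i0, Δ i ^ 2 = 2 := by omega
  obtain ⟨ψ, hψS, ψ', hψ'S, hψψ', hψ, hψ', hrest⟩ := sum_sq_eq_two _ Δ h2
  have hne : ψ ≠ i0 := Finset.ne_of_mem_erase hψS
  have hne' : ψ' ≠ i0 := Finset.ne_of_mem_erase hψ'S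
  refine ⟨ψ, ψ', hne, hne', hψψ', hψ, hψ', ?_⟩
  intro f
  have h3 : ∑ i, Δ i * f i = ∑ i ∈ ({i0, ψ, ψ'} : Finset I), Δ i * f i := by
    symm
    apply Finset.sum_subset (Finset.subset_univ _)
    intro i _ hi
    simp only [Finset.mem_insert, Finset.mem_singleton, not_or] at hi
    rw [hrest i (Finset.mem_erase.mpr ⟨hi.1, Finset.mem_univ i⟩) hi.2.1 hi.2.2, zero_mul]
  rw [h3, Finset.sum_insert (by simp [Ne.symm hne, Ne.symm hne']), Finset.sum_pair hψψ', h0,
    one_mul, add_assoc]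

end Cfsg.Agent.Lib.Helper17_Coherence
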