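import Mathlib
import Cfsg.Prelude.Def_Characters
import Cfsg.Prelude.Def_Blocks
import Cfsg.Agent.Lib.Helper17_Coherence
import Cfsg.Agent.Lib.Helper75_Induced
import Cfsg.Agent.Lib.Helper75_CharArith
import Cfsg.Agent.Lib.Helper3_CharOrtho
import Cfsg.Agent.Lib.Helper3_CharComplete
import Cfsg.Agent.Lib.Helper3_AbelianIndex
import Cfsg.Agent.Lib.Helper80_CharBasic
import Cfsg.Agent.Lib.Helper77_BlockBasics
import Cfsg.Agent.Lib.Helper81_CharOrth2
import Cfsg.Agent.Lib.Helper15_Linear

/-!
# Exceptional characters for a self-centralizing subgroup of prime order (helper17)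

Let `R ≤ G` have prime order `p`, `C_G(R) = R`, `|N_G(R)| = e * p` and `e (e + 2) < p`.
We prove the Brauer–Suzuki description of the generalized characters `(1_R - λ)^G`:
there are an integer vector `Δ` on `Irr G` of norm `e` with `Δ(1_G) = 1`, a sign `ε` and an
irreducible character `χ` with `Δ χ = 0`, `∑ Δ(ψ) ψ(1) = ε χ(1)` and `ψ(1) ≡ Δ(ψ) (mod p)`
whenever `Δ ψ ≠ 0`.
-/

set_option autoImplicit false
open scoped ComplexConjugate

namespace Cfsg.Agent.Lib.Helper17_TIPrime

open Cfsg.Agent.Lib.Helper75_Induced Cfsg.Agent.Lib.Helper75_CharArith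
  Cfsg.Agent.Lib.Helper3_CharOrtho Cfsg.Agent.Lib.Helper3_CharComplete
  Cfsg.Agent.Lib.Helper3_CharBridge

variable {G : Type*} [Group G]

/-- In a subgroup `R` of prime order, if `r ≠ 1` and `g r g⁻¹` both lie in `R` then `g`
normalizes `R`. -/
theorem mem_normalizer_of_conj_mem_prime {p : ℕ} [hp : Fact p.Prime] (R : Subgroup G)
    (hR : Nat.card R = p) {g r : G} (hr : r ∈ R) (hr1 : r ≠ 1) (h : g * r * g⁻¹ ∈ R) :
    g ∈ Subgroup.normalizer (R : Set G) := by
  have hfin : Finite R := Nat.finite_of_card_ne_zero (by rw [hR]; exact hp.out.ne_zero)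
  have hgen : ∀ s ∈ R, ∃ k : ℤ, r ^ k = s := by
    intro s hs
    have h1 : Subgroup.zpowers (⟨r, hr⟩ : R) = ⊤ :=
      zpowers_eq_top_of_prime_card hR (fun h => hr1 (congrArg Subtype.val h))
    have h2 : (⟨s, hs⟩ : R) ∈ Subgroup.zpowers (⟨r, hr⟩ : R) := by rw [h1]; trivial
    obtain ⟨k, hk⟩ := h2
    exact ⟨k, by simpa using congrArg Subtype.val hk⟩
  have key : ∀ s ∈ R, g * s * g⁻¹ ∈ R := by
    intro s hs
    obtain ⟨k, rfl⟩ := hgen s hs
    rw [← conj_zpow]
    exact R.zpow_mem h k
  rw [Subgroup.mem_normalizer_iff]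
  intro z
  constructor
  · exact key z
  · intro hz
    let φ : R → R := fun z => ⟨g * z * g⁻¹, key z z.2⟩
    have hinj : Function.Injective φ := by
      intro a b hab
      have : g * (a : G) * g⁻¹ = g * (b : G) * g⁻¹ := congrArg Subtype.val hab
      ext
      exact mul_left_cancel (mul_right_cancel this)
    obtain ⟨w, hw⟩ := (Finite.injective_iff_surjective.mp hinj) ⟨g * z * g⁻¹, hz⟩
    have : g * (w : G) * g⁻¹ = g * z * g⁻¹ := congrArg Subtype.val hw
    have : (w : G) = z := mul_left_cancel (mul_right_cancel this)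
    rw [← this]; exact w.2

/-- A subgroup of prime order is commutative. -/
theorem comm_of_prime_card {p : ℕ} [hp : Fact p.Prime] (R : Subgroup G)
    (hR : Nat.card R = p) (a b : R) : a * b = b * a := by
  have := isCyclic_of_prime_card hR
  exact IsCyclic.commGroup.mul_comm a b

section TI

variable [Fintype G] (R : Subgroup G)

/-- The value of an induced function at a nontrivial element of a T.I. subgroup `R`. -/
theorem indFun_apply_of_TI
    (hTI : ∀ g : G, ∀ r ∈ R, r ≠ 1 → g * r * g⁻¹ ∈ R → g ∈ Subgroup.normalizer (R : Set G))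
    [Fintype (Subgroup.normalizer (R : Set G))]
    (θ : R → ℂ) (r : R) (hr : r ≠ 1) :
    Cfsg.indFun R θ r = (Nat.card R : ℂ)⁻¹ *
      ∑ n : Subgroup.normalizer (R : Set G), θ (R.normalizerMonoidHom n r) := by
  classical
  rw [indFun_apply]
  congr 1
  have hr1 : (r : G) ≠ 1 := fun h => hr (Subtype.ext h)
  have h1 : ∑ x : G, Cfsg.extendByZero R θ (x⁻¹ * (r : G) * x) =
      ∑ x ∈ Finset.univ.filter (fun x : G => x ∈ Subgroup.normalizer (R : Set G)),
        Cfsg.extendByZero R θ (x⁻¹ * (r : G) * x) := by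
    symm
    apply Finset.sum_filter_of_ne
    intro x _ hx
    by_contra hxN
    apply hx
    apply extendByZero_of_not_mem
    intro hmem
    apply hxN
    have := hTI x⁻¹ r r.2 hr1 (by simpa using hmem)
    simpa using (Subgroup.normalizer (R : Set G)).inv_mem this
  rw [h1]
  rw [Finset.sum_subtype (Finset.univ.filter (fun x : G => x ∈ Subgroup.normalizer (R : Set G)))
    (p := fun x => x ∈ Subgroup.normalizer (R : Set G)) (by simp)]
  apply Fintype.sum_equiv (Equiv.inv (Subgroup.normalizer (R : Set G)))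
  intro n
  have h2 : (n : G)⁻¹ * (r : G) * (n : G) = ((R.normalizerMonoidHom (n⁻¹) r : R) : G) := by
    simp
  rw [h2, extendByZero_coe]
  rfl

/-- Inner product of two functions induced from a T.I. subgroup, the first vanishing at `1`. -/
theorem classInner_indFun_of_TI
    (hTI : ∀ g : G, ∀ r ∈ R, r ≠ 1 → g * r * g⁻¹ ∈ R → g ∈ Subgroup.normalizer (R : Set G))
    [Fintype R] [Fintype (Subgroup.normalizer (R : Set G))]
    (θ θ' : R → ℂ) (h1 : θ 1 = 0) :
    Cfsg.classInner (Cfsg.indFun R θ) (Cfsg.indFun R θ') = (Nat.card R : ℂ)⁻¹ *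
      ∑ n : Subgroup.normalizer (R : Set G),
        Cfsg.classInner θ (fun r => θ' (R.normalizerMonoidHom n r)) := by
  classical
  rw [frobenius_reciprocity R θ _ (isClassFunction_indFun R θ')]
  unfold Cfsg.classInner
  congr 1
  rw [← Finset.mul_sum, Finset.sum_comm, Finset.mul_sum]
  apply Finset.sum_congr rfl
  intro r _
  by_cases hr : r = 1
  · subst hr
    simp [h1]
  · show θ r * conj (Cfsg.indFun R θ' r) = _
    rw [indFun_apply_of_TI R hTI θ' r hr, map_mul, map_inv₀, Complex.conj_natCast, map_sum,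
      Finset.mul_sum, Finset.mul_sum, Finset.mul_sum]
    apply Finset.sum_congr rfl
    intro n _
    ring

end TI

/-- Irreducible characters of a commutative finite group are linear. -/
theorem irr_apply_one_of_comm {A : Type*} [Group A] [Finite A] (hA : ∀ a b : A, a * b = b * a)
    (lam : Cfsg.IrrCharacter A) : (lam : A → ℂ) 1 = 1 := by
  obtain ⟨n, ρ, hirr, hρ⟩ := lam.2
  haveI := hirr
  have h := Cfsg.Agent.Lib.Helper3_AbelianIndex.finrank_le_index_of_abelian ρ ⊤
    (fun a _ b _ => hA a b)
  rw [Subgroup.index_top, Module.finrank_fin_fun] at h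
  have h0 := Cfsg.Agent.Lib.Helper80_CharBasic.irr_dim_pos ρ hirr
  have hn : n = 1 := by omega
  subst hn
  rw [← hρ, Representation.char_one]
  simp

section Twist

variable (R : Subgroup G)

/-- The twist of an irreducible character of `R` by an element of the normalizer of `R`. -/
noncomputable def tw (n : Subgroup.normalizer (R : Set G)) (lam : Cfsg.IrrCharacter R) :
    Cfsg.IrrCharacter R :=
  ⟨fun r => (lam : R → ℂ) (R.normalizerMonoidHom n r),
    Cfsg.Agent.Lib.Helper81_CharOrth2.isIrrCharacter_comp_mulEquiv (R.normalizerMonoidHom n) lam.2⟩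

theorem tw_apply (n : Subgroup.normalizer (R : Set G)) (lam : Cfsg.IrrCharacter R) (r : R) :
    (tw R n lam : R → ℂ) r = (lam : R → ℂ) (R.normalizerMonoidHom n r) := rfl

theorem tw_one (lam : Cfsg.IrrCharacter R) : tw R 1 lam = lam := by
  apply Subtype.ext
  funext r
  rw [tw_apply, map_one]
  rfl

theorem tw_mul (n n' : Subgroup.normalizer (R : Set G)) (lam : Cfsg.IrrCharacter R) :
    tw R (n * n') lam = tw R n' (tw R n lam) := by
  apply Subtype.ext
  funext r
  rw [tw_apply, tw_apply, tw_apply, map_mul]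
  rfl

theorem tw_inv_tw (n : Subgroup.normalizer (R : Set G)) (lam : Cfsg.IrrCharacter R) :
    tw R n⁻¹ (tw R n lam) = lam := by
  rw [← tw_mul, mul_inv_cancel, tw_one]

theorem tw_tw_inv (n : Subgroup.normalizer (R : Set G)) (lam : Cfsg.IrrCharacter R) :
    tw R n (tw R n⁻¹ lam) = lam := by
  rw [← tw_mul, inv_mul_cancel, tw_one]

theorem tw_oneIrr (n : Subgroup.normalizer (R : Set G)) :
    tw R n (Cfsg.Agent.Lib.Helper80_CharBasic.oneIrr R) =
      Cfsg.Agent.Lib.Helper80_CharBasic.oneIrr R := by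
  apply Subtype.ext
  funext r
  rfl

theorem tw_of_mem (hcomm : ∀ a b : R, a * b = b * a) (n : Subgroup.normalizer (R : Set G))
    (hn : (n : G) ∈ R) (lam : Cfsg.IrrCharacter R) : tw R n lam = lam := by
  apply Subtype.ext
  funext r
  rw [tw_apply]
  have h1 : R.normalizerMonoidHom n r = r := by
    apply Subtype.ext
    rw [Subgroup.normalizerMonoidHom_apply_apply_coe]
    have := congrArg Subtype.val (hcomm ⟨n, hn⟩ r)
    simp only [Subgroup.coe_mul] at this
    rw [this]
    group
  rw [h1]

end Twist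

section Prime

variable (R : Subgroup G) {p : ℕ} [hp : Fact p.Prime]

/-- A nontrivial irreducible character of a group of prime order is injective. -/
theorem injective_of_ne_oneIrr (hR : Nat.card R = p) (lam : Cfsg.IrrCharacter R)
    (hne : lam ≠ Cfsg.Agent.Lib.Helper80_CharBasic.oneIrr R) :
    Function.Injective (lam : R → ℂ) := by
  have hfin : Finite R := Nat.finite_of_card_ne_zero (by rw [hR]; exact hp.out.ne_zero)
  have hcomm := comm_of_prime_card R hR
  have h1 : (lam : R → ℂ) 1 = 1 := irr_apply_one_of_comm hcomm lam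
  have hchar : Cfsg.IsCharacter R (lam : R → ℂ) := isCharacter_of_isIrrCharacter lam.2
  let f := Cfsg.Agent.Lib.Helper15_Linear.linearHom (lam : R → ℂ) hchar h1
  have : Fact (Nat.card R).Prime := ⟨by rw [hR]; exact hp.out⟩
  rcases (MonoidHom.ker f).eq_bot_or_eq_top_of_prime_card with hk | hk
  · intro a b hab
    have h2 : a * b⁻¹ ∈ MonoidHom.ker f := by
      rw [MonoidHom.mem_ker]
      show (lam : R → ℂ) (a * b⁻¹) = 1
      rw [Cfsg.Agent.Lib.Helper15_Linear.linear_mul _ hchar h1,
        Cfsg.Agent.Lib.Helper15_Linear.linear_inv _ hchar h1, hab]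
      exact mul_inv_cancel₀ (Cfsg.Agent.Lib.Helper15_Linear.linear_ne_zero _ hchar h1 b)
    rw [hk, Subgroup.mem_bot] at h2
    exact mul_inv_eq_one.mp h2
  · exfalso
    apply hne
    apply Subtype.ext
    funext r
    have : r ∈ MonoidHom.ker f := by rw [hk]; trivial
    rw [MonoidHom.mem_ker] at this
    exact this

/-- The stabilizer in `N_G(R)` of a nontrivial irreducible character of `R` is `R` when
`C_G(R) ≤ R`. -/
theorem tw_eq_self_iff (hR : Nat.card R = p)
    (hC : Subgroup.centralizer (R : Set G) ≤ R) (lam : Cfsg.IrrCharacter R)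
    (hne : lam ≠ Cfsg.Agent.Lib.Helper80_CharBasic.oneIrr R)
    (n : Subgroup.normalizer (R : Set G)) : tw R n lam = lam ↔ (n : G) ∈ R := by
  constructor
  · intro h
    apply hC
    rw [Subgroup.mem_centralizer_iff]
    intro r hr
    have h1 := congrFun (congrArg Subtype.val h) ⟨r, hr⟩
    rw [tw_apply] at h1
    have h2 := injective_of_ne_oneIrr R hR lam hne h1
    have h3 := congrArg Subtype.val h2
    rw [Subgroup.normalizerMonoidHom_apply_apply_coe] at h3
    simp only at h3
    calc r * (n : G) = (n : G) * r * (n : G)⁻¹ * (n : G) := by rw [h3]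
      _ = (n : G) * r := by group
  · intro h
    exact tw_of_mem R (comm_of_prime_card R hR) n h lam

end Prime

section Count

open Cfsg.Agent.Lib.Helper80_CharBasic

variable (R : Subgroup G) {p : ℕ} [hp : Fact p.Prime]

/-- The inclusion of `R` into its normalizer. -/
def toNorm (r : R) : Subgroup.normalizer (R : Set G) := ⟨r, Subgroup.le_normalizer r.2⟩

theorem toNorm_coe (r : R) : ((toNorm R r : Subgroup.normalizer (R : Set G)) : G) = r := rfl

/-- The set of elements of the normalizer carrying `mu` to `lam` has `p` elements if nonempty. -/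
theorem card_tw_eq (hR : Nat.card R = p) (hC : Subgroup.centralizer (R : Set G) ≤ R)
    (mu lam : Cfsg.IrrCharacter R) (hne : mu ≠ oneIrr R)
    (n0 : Subgroup.normalizer (R : Set G)) (h0 : tw R n0 mu = lam) :
    Nat.card {n : Subgroup.normalizer (R : Set G) // tw R n mu = lam} = p := by
  rw [← hR]
  symm
  have hcomm := comm_of_prime_card R hR
  let f : R → {n : Subgroup.normalizer (R : Set G) // tw R n mu = lam} := fun r =>
    ⟨toNorm R r * n0, by rw [tw_mul, tw_of_mem R hcomm (toNorm R r) r.2, h0]⟩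
  apply Nat.card_congr
  apply Equiv.ofBijective f
  constructor
  · intro a b hab
    have h1 : toNorm R a * n0 = toNorm R b * n0 := congrArg Subtype.val hab
    have h2 : toNorm R a = toNorm R b := mul_right_cancel h1
    apply Subtype.ext
    exact congrArg (fun x : Subgroup.normalizer (R : Set G) => (x : G)) h2
  · rintro ⟨n, hn⟩
    have h1 : tw R (n * n0⁻¹) mu = mu := by
      rw [tw_mul, hn, ← h0, tw_inv_tw]
    have h2 := (tw_eq_self_iff R hR hC mu hne (n * n0⁻¹)).mp h1
    refine ⟨⟨_, h2⟩, ?_⟩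
    apply Subtype.ext
    show toNorm R ⟨_, h2⟩ * n0 = n
    have : toNorm R ⟨_, h2⟩ = n * n0⁻¹ := Subtype.ext rfl
    rw [this]
    group

/-- The generalized character `1_R - λ` of `R`. -/
noncomputable def theta (lam : Cfsg.IrrCharacter R) : R → ℂ :=
  (oneIrr R : R → ℂ) - (lam : R → ℂ)

theorem theta_apply (lam : Cfsg.IrrCharacter R) (r : R) :
    theta R lam r = 1 - (lam : R → ℂ) r := rfl

theorem theta_tw (n : Subgroup.normalizer (R : Set G)) (mu : Cfsg.IrrCharacter R) :
    (fun r => theta R mu (R.normalizerMonoidHom n r)) = theta R (tw R n mu) := rfl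

theorem tw_ne_oneIrr (n : Subgroup.normalizer (R : Set G)) (mu : Cfsg.IrrCharacter R)
    (hmu : mu ≠ oneIrr R) : tw R n mu ≠ oneIrr R := by
  intro h
  apply hmu
  rw [← tw_inv_tw R n mu, h, tw_oneIrr]

theorem classInner_sub_right' {A : Type*} [Group A] [Fintype A] (φ ψ₁ ψ₂ : A → ℂ) :
    Cfsg.classInner φ (ψ₁ - ψ₂) = Cfsg.classInner φ ψ₁ - Cfsg.classInner φ ψ₂ := by
  simp [Cfsg.classInner, mul_sub, Finset.sum_sub_distrib]

theorem classInner_theta [Fintype R] [DecidableEq (Cfsg.IrrCharacter R)]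
    (lam nu : Cfsg.IrrCharacter R) (hlam : lam ≠ oneIrr R)
    (hnu : nu ≠ oneIrr R) :
    Cfsg.classInner (theta R lam) (theta R nu) = 1 + if lam = nu then 1 else 0 := by
  unfold theta
  rw [classInner_sub_left, classInner_sub_right', classInner_sub_right',
    classInner_self_of_isIrrCharacter (oneIrr R).2,
    classInner_of_isIrrCharacter_of_ne (oneIrr R).2 nu.2
      (fun h => hnu (Subtype.ext h.symm)),
    classInner_of_isIrrCharacter_of_ne lam.2 (oneIrr R).2
      (fun h => hlam (Subtype.ext h))]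
  split_ifs with h
  · subst h
    rw [classInner_self_of_isIrrCharacter lam.2]; ring
  · rw [classInner_of_isIrrCharacter_of_ne lam.2 nu.2 (fun h' => h (Subtype.ext h'))]; ring

/-- The Gram matrix of the generalized characters `(1_R - λ)^G`. -/
theorem classInner_indFun_theta [Fintype G] [Fintype R]
    [Fintype (Subgroup.normalizer (R : Set G))]
    (hR : Nat.card R = p) (hC : Subgroup.centralizer (R : Set G) ≤ R) (e : ℕ)
    (hN : Nat.card (Subgroup.normalizer (R : Set G)) = e * p)
    (lam mu : Cfsg.IrrCharacter R) (hlam : lam ≠ oneIrr R) (hmu : mu ≠ oneIrr R)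
    [Decidable (∃ n, tw R n mu = lam)] :
    Cfsg.classInner (Cfsg.indFun R (theta R lam)) (Cfsg.indFun R (theta R mu)) =
      (e : ℂ) + if ∃ n, tw R n mu = lam then 1 else 0 := by
  classical
  have hTI : ∀ g : G, ∀ r ∈ R, r ≠ 1 → g * r * g⁻¹ ∈ R →
      g ∈ Subgroup.normalizer (R : Set G) :=
    fun g r hr hr1 h => mem_normalizer_of_conj_mem_prime R hR hr hr1 h
  have hcomm := comm_of_prime_card R hR
  have hfin : Finite R := Nat.finite_of_card_ne_zero (by rw [hR]; exact hp.out.ne_zero)
  have h1 : theta R lam 1 = 0 := by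
    rw [theta_apply, irr_apply_one_of_comm hcomm lam, sub_self]
  rw [classInner_indFun_of_TI R hTI (theta R lam) (theta R mu) h1]
  have h2 : ∀ n : Subgroup.normalizer (R : Set G),
      Cfsg.classInner (theta R lam) (fun r => theta R mu (R.normalizerMonoidHom n r)) =
        1 + if tw R n mu = lam then 1 else 0 := by
    intro n
    rw [theta_tw, classInner_theta R lam (tw R n mu) hlam (tw_ne_oneIrr R n mu hmu)]
    congr 1
    by_cases h : tw R n mu = lam
    · rw [if_pos h, if_pos h.symm]
    · rw [if_neg h, if_neg (fun h' => h h'.symm)]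
  rw [Finset.sum_congr rfl (fun n _ => h2 n), Finset.sum_add_distrib, Finset.sum_const,
    Finset.card_univ, nsmul_eq_mul, mul_one, Finset.sum_boole, ← Nat.card_eq_fintype_card, hN, hR]
  have hp0 : (p : ℂ) ≠ 0 := by exact_mod_cast hp.out.ne_zero
  split_ifs with hex
  · obtain ⟨n0, hn0⟩ := hex
    have h3 := card_tw_eq R hR hC mu lam hmu n0 hn0
    rw [Nat.card_eq_fintype_card, Fintype.card_subtype] at h3
    rw [h3]
    push_cast
    field_simp
  · have h3 : (Finset.univ.filter (fun n : Subgroup.normalizer (R : Set G) =>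
        tw R n mu = lam)).card = 0 := by
      rw [Finset.card_eq_zero, Finset.filter_eq_empty_iff]
      intro n _ hn
      exact hex ⟨n, hn⟩
    rw [h3]
    push_cast
    field_simp
    ring

end Count

section Mult

open Cfsg.Agent.Lib.Helper80_CharBasic

variable [Fintype G] (R : Subgroup G) [Fintype R]

theorem exists_mult (χ : Cfsg.IrrCharacter G) (lam : Cfsg.IrrCharacter R) :
    ∃ m : ℕ, Cfsg.classInner (fun r : R => (χ : G → ℂ) r) (lam : R → ℂ) = m :=
  classInner_isCharacter_nat (isCharacter_restrict R (isCharacter_of_isIrrCharacter χ.2))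
    (isCharacter_of_isIrrCharacter lam.2)

/-- The multiplicity of `λ ∈ Irr R` in the restriction of `χ ∈ Irr G`. -/
noncomputable def mult (χ : Cfsg.IrrCharacter G) (lam : Cfsg.IrrCharacter R) : ℕ :=
  Classical.choose (exists_mult R χ lam)

theorem mult_spec (χ : Cfsg.IrrCharacter G) (lam : Cfsg.IrrCharacter R) :
    Cfsg.classInner (fun r : R => (χ : G → ℂ) r) (lam : R → ℂ) = mult R χ lam :=
  Classical.choose_spec (exists_mult R χ lam)

/-- The coefficient of `χ` in `(1_R - λ)^G`. -/
noncomputable def avec (lam : Cfsg.IrrCharacter R) (χ : Cfsg.IrrCharacter G) : ℤ :=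
  (mult R χ (oneIrr R) : ℤ) - (mult R χ lam : ℤ)

theorem classInner_indFun_theta_irr (lam : Cfsg.IrrCharacter R) (χ : Cfsg.IrrCharacter G) :
    Cfsg.classInner (Cfsg.indFun R (theta R lam)) (χ : G → ℂ) = (avec R lam χ : ℂ) := by
  rw [frobenius_reciprocity R (theta R lam) _ (isClassFunction_of_isIrrCharacter χ.2)]
  unfold theta
  rw [classInner_sub_left, ← classInner_conj_symm _ (oneIrr R : R → ℂ),
    ← classInner_conj_symm _ (lam : R → ℂ), mult_spec, mult_spec]
  unfold avec
  simp

theorem classInner_irr_indFun_theta (lam : Cfsg.IrrCharacter R) (χ : Cfsg.IrrCharacter G) :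
    Cfsg.classInner (χ : G → ℂ) (Cfsg.indFun R (theta R lam)) = (avec R lam χ : ℂ) := by
  rw [← classInner_conj_symm, classInner_indFun_theta_irr]
  simp

/-- Parseval for the generalized characters `(1_R - λ)^G`. -/
theorem sum_avec_mul (lam mu : Cfsg.IrrCharacter R) :
    ((∑ χ : Cfsg.IrrCharacter G, avec R lam χ * avec R mu χ : ℤ) : ℂ) =
      Cfsg.classInner (Cfsg.indFun R (theta R lam)) (Cfsg.indFun R (theta R mu)) := by
  rw [classInner_eq_sum_irr (isClassFunction_indFun R (theta R lam))]
  push_cast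
  apply Finset.sum_congr rfl
  intro χ _
  rw [classInner_indFun_theta_irr, classInner_irr_indFun_theta]

/-- The generalized characters `(1_R - λ)^G` vanish at `1`. -/
theorem sum_avec_mul_degree [Finite R] (hcomm : ∀ a b : R, a * b = b * a)
    (lam : Cfsg.IrrCharacter R) :
    ∑ χ : Cfsg.IrrCharacter G, avec R lam χ * (Cfsg.charDegree (χ : G → ℂ) : ℤ) = 0 := by
  have h1 := congrFun (classFunction_eq_sum _ (isClassFunction_indFun R (theta R lam))) 1
  rw [indFun_one, theta_apply, irr_apply_one_of_comm hcomm lam, sub_self, mul_zero,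
    Finset.sum_apply] at h1
  have h2 : ((∑ χ : Cfsg.IrrCharacter G, avec R lam χ * (Cfsg.charDegree (χ : G → ℂ) : ℤ) : ℤ)
      : ℂ) = 0 := by
    rw [h1]
    push_cast
    apply Finset.sum_congr rfl
    intro χ _
    rw [Pi.smul_apply, classInner_indFun_theta_irr,
      Cfsg.Agent.Lib.Helper77_BlockBasics.apply_one_eq_charDegree, smul_eq_mul]
  exact_mod_cast h2

theorem mult_oneIrr_oneIrr : mult R (oneIrr G) (oneIrr R) = 1 := by
  have h := mult_spec R (oneIrr G) (oneIrr R)
  have h2 : Cfsg.classInner (fun r : R => (oneIrr G : G → ℂ) r) (oneIrr R : R → ℂ) = 1 :=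
    classInner_self_of_isIrrCharacter (oneIrr R).2
  rw [h2] at h
  exact_mod_cast h.symm

theorem mult_oneIrr_ne (lam : Cfsg.IrrCharacter R) (hlam : lam ≠ oneIrr R) :
    mult R (oneIrr G) lam = 0 := by
  have h := mult_spec R (oneIrr G) lam
  have h2 : Cfsg.classInner (fun r : R => (oneIrr G : G → ℂ) r) (lam : R → ℂ) = 0 :=
    classInner_of_isIrrCharacter_of_ne (oneIrr R).2 lam.2 (fun h => hlam (Subtype.ext h.symm))
  rw [h2] at h
  exact_mod_cast h.symm

theorem avec_oneIrr (lam : Cfsg.IrrCharacter R) (hlam : lam ≠ oneIrr R) :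
    avec R lam (oneIrr G) = 1 := by
  unfold avec
  rw [mult_oneIrr_oneIrr, mult_oneIrr_ne R lam hlam]
  norm_num

/-- The degree of `χ` is the sum of the multiplicities of the (linear) characters of `R`. -/
theorem charDegree_eq_sum_mult [Finite R] (hcomm : ∀ a b : R, a * b = b * a)
    (χ : Cfsg.IrrCharacter G) :
    Cfsg.charDegree (χ : G → ℂ) = ∑ lam : Cfsg.IrrCharacter R, mult R χ lam := by
  obtain ⟨m, hm, hsum⟩ := exists_multiplicities
    (isCharacter_restrict R (isCharacter_of_isIrrCharacter χ.2))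
  have h1 := congrFun hsum 1
  rw [Finset.sum_apply] at h1
  have h2 : ((Cfsg.charDegree (χ : G → ℂ) : ℕ) : ℂ) =
      ((∑ lam : Cfsg.IrrCharacter R, mult R χ lam : ℕ) : ℂ) := by
    rw [← Cfsg.Agent.Lib.Helper77_BlockBasics.apply_one_eq_charDegree]
    have h1' : (χ : G → ℂ) 1 = ∑ c : Cfsg.IrrCharacter R, ((m c : ℂ) • (c : R → ℂ)) 1 := h1
    rw [h1']
    push_cast
    apply Finset.sum_congr rfl
    intro lam _
    rw [Pi.smul_apply, irr_apply_one_of_comm hcomm lam, smul_eq_mul, mul_one]
    have := (hm lam).symm.trans (mult_spec R χ lam)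
    exact this
  exact_mod_cast h2

/-- The number of irreducible characters of a commutative group is its order. -/
theorem card_irr_of_comm {A : Type*} [Group A] [Fintype A] (hA : ∀ a b : A, a * b = b * a) :
    Fintype.card (Cfsg.IrrCharacter A) = Nat.card A := by
  have h := Cfsg.Agent.Lib.Helper81_CharOrth2.second_orthogonality (G := A) 1 1
  have h2 : ∀ χ : Cfsg.IrrCharacter A, (χ : A → ℂ) 1 * (χ : A → ℂ) 1⁻¹ = 1 := by
    intro χ
    rw [inv_one, irr_apply_one_of_comm hA χ, mul_one]
  rw [Finset.sum_congr rfl (fun χ _ => h2 χ), Finset.sum_const, Finset.card_univ,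
    nsmul_eq_mul, mul_one] at h
  have h3 : Nat.card {c : A // c * 1 * c⁻¹ = 1} = Nat.card A := by
    apply Nat.card_congr
    exact Equiv.subtypeUnivEquiv (fun c => by simp)
  rw [h3] at h
  exact_mod_cast h

end Mult

section Main

open Cfsg.Agent.Lib.Helper80_CharBasic Cfsg.Agent.Lib.Helper17_Coherence

variable [Fintype G] (R : Subgroup G) {p : ℕ} [hp : Fact p.Prime]

/-- Each orbit of `N_G(R)` on the nontrivial irreducible characters of `R` has at most
`e = |N_G(R) : R|` elements. -/
theorem card_class_le [Fintype (Subgroup.normalizer (R : Set G))]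
    [Fintype {lam : Cfsg.IrrCharacter R // lam ≠ oneIrr R}]
    (hR : Nat.card R = p) (hC : Subgroup.centralizer (R : Set G) ≤ R) (e : ℕ)
    (hN : Nat.card (Subgroup.normalizer (R : Set G)) = e * p)
    (s : {lam : Cfsg.IrrCharacter R // lam ≠ oneIrr R})
    [DecidablePred (fun t : {lam : Cfsg.IrrCharacter R // lam ≠ oneIrr R} =>
      ∃ n, tw R n t.1 = s.1)] :
    (Finset.univ.filter (fun t : {lam : Cfsg.IrrCharacter R // lam ≠ oneIrr R} =>
      ∃ n, tw R n t.1 = s.1)).card ≤ e := by
  classical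
  let g : Subgroup.normalizer (R : Set G) → Cfsg.IrrCharacter R := fun n => tw R n⁻¹ s.1
  have hfib : ∀ a ∈ Finset.univ.image g, p ≤ (Finset.univ.filter (fun n => g n = a)).card := by
    intro a ha
    obtain ⟨n1, _, rfl⟩ := Finset.mem_image.mp ha
    have hne : g n1 ≠ oneIrr R := tw_ne_oneIrr R _ _ s.2
    have h0 : tw R n1 (g n1) = s.1 := tw_tw_inv R n1 s.1
    have hc := card_tw_eq R hR hC (g n1) s.1 hne n1 h0
    have : Finset.univ.filter (fun n => g n = g n1) =
        Finset.univ.filter (fun n => tw R n (g n1) = s.1) := by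
      apply Finset.filter_congr
      intro n _
      constructor
      · intro h; rw [← h]; exact tw_tw_inv R n s.1
      · intro h
        show tw R n⁻¹ s.1 = g n1
        rw [← h, tw_inv_tw]
    rw [this, ← Fintype.card_subtype, ← Nat.card_eq_fintype_card, hc]
  have h1 := Finset.mul_card_image_le_card Finset.univ p hfib
  have h2 : (Finset.univ.filter (fun t : {lam : Cfsg.IrrCharacter R // lam ≠ oneIrr R} =>
      ∃ n, tw R n t.1 = s.1)).card ≤ (Finset.univ.image g).card := by
    apply Finset.card_le_card_of_injOn (fun t => t.1)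
    · intro t ht
      simp only [Finset.coe_filter, Finset.mem_univ, true_and, Set.mem_ofPred_eq] at ht
      obtain ⟨n, hn⟩ := ht
      rw [Finset.mem_coe, Finset.mem_image]
      refine ⟨n, Finset.mem_univ _, ?_⟩
      show tw R n⁻¹ s.1 = t.1
      rw [← hn, tw_inv_tw]
    · intro a _ b _ hab
      exact Subtype.ext hab
  rw [Finset.card_univ, ← Nat.card_eq_fintype_card, hN] at h1
  have hp0 : 0 < p := hp.out.pos
  have h3 : p * (Finset.univ.filter (fun t : {lam : Cfsg.IrrCharacter R // lam ≠ oneIrr R} =>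
      ∃ n, tw R n t.1 = s.1)).card ≤ p * e := by
    calc _ ≤ p * (Finset.univ.image g).card := Nat.mul_le_mul_left p h2
      _ ≤ e * p := h1
      _ = p * e := mul_comm e p
  exact Nat.le_of_mul_le_mul_left h3 hp0

/-- **Exceptional characters** for a self-centralizing subgroup `R` of prime order `p` with
`|N_G(R)| = e p` and `e (e + 2) < p`. -/
theorem exceptional_of_prime (hR : Nat.card R = p)
    (hC : Subgroup.centralizer (R : Set G) ≤ R) (e : ℕ)
    (hN : Nat.card (Subgroup.normalizer (R : Set G)) = e * p)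
    (hbig : e * (e + 2) + 1 ≤ p) (he : 1 ≤ e) :
    ∃ (Δ : Cfsg.IrrCharacter G → ℤ) (ε : ℤ) (χ : Cfsg.IrrCharacter G),
      (ε = 1 ∨ ε = -1) ∧ Δ (oneIrr G) = 1 ∧ ∑ i, Δ i ^ 2 = e ∧ Δ χ = 0 ∧
      ∑ i, Δ i * (Cfsg.charDegree (i : G → ℂ) : ℤ) = ε * (Cfsg.charDegree (χ : G → ℂ) : ℤ) ∧
      ∀ i, Δ i ≠ 0 → ((Cfsg.charDegree (i : G → ℂ) : ℤ) ≡ Δ i [ZMOD p]) := by
  classical
  have hfin : Finite R := Nat.finite_of_card_ne_zero (by rw [hR]; exact hp.out.ne_zero)
  have : Fintype R := Fintype.ofFinite R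
  have hcomm := comm_of_prime_card R hR
  let L := {lam : Cfsg.IrrCharacter R // lam ≠ oneIrr R}
  let rel : L → L → Prop := fun s t => ∃ n, tw R n t.1 = s.1
  have hcardIrr : Fintype.card (Cfsg.IrrCharacter R) = p := by
    rw [card_irr_of_comm hcomm, hR]
  have hcardL : Fintype.card L + 1 = p := by
    rw [← hcardIrr, Fintype.card_subtype_compl, Fintype.card_subtype_eq]
    have : 0 < Fintype.card (Cfsg.IrrCharacter R) := Fintype.card_pos_iff.mpr ⟨oneIrr R⟩
    omega
  apply exceptional_abstract (I := Cfsg.IrrCharacter G) (L := L) (oneIrr G)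
    (fun s => avec R s.1) (fun i => (Cfsg.charDegree (i : G → ℂ) : ℤ))
    (fun i => (mult R i (oneIrr R) : ℤ)) p e rel
  · intro i
    exact_mod_cast Cfsg.Agent.Lib.Helper77_BlockBasics.charDegree_pos i
  · intro s
    exact ⟨1, tw_one R s.1⟩
  · intro s t
    have h1 := sum_avec_mul R s.1 t.1
    rw [classInner_indFun_theta R hR hC e hN s.1 t.1 s.2 t.2] at h1
    have h2 : ((e : ℂ) + if ∃ n, tw R n t.1 = s.1 then 1 else 0) =
        (((e : ℤ) + if rel s t then 1 else 0 : ℤ) : ℂ) := by
      push_cast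
      rfl
    rw [h2] at h1
    exact_mod_cast h1
  · intro s
    exact sum_avec_mul_degree R hcomm s.1
  · intro s
    exact avec_oneIrr R s.1 s.2
  · intro i
    have h1 := charDegree_eq_sum_mult R hcomm i
    have h2 : ∑ lam : Cfsg.IrrCharacter R, mult R i lam =
        mult R i (oneIrr R) + ∑ s : L, mult R i s.1 := by
      rw [← Finset.add_sum_erase Finset.univ _ (Finset.mem_univ (oneIrr R))]
      congr 1
      rw [Finset.sum_subtype (Finset.univ.erase (oneIrr R)) (p := fun lam => lam ≠ oneIrr R)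
        (by simp)]
    have h3 : ∑ s : L, avec R s.1 i =
        (Fintype.card L : ℤ) * (mult R i (oneIrr R) : ℤ) - ∑ s : L, (mult R i s.1 : ℤ) := by
      unfold avec
      rw [Finset.sum_sub_distrib, Finset.sum_const, Finset.card_univ, nsmul_eq_mul]
    rw [h3, h1, h2]
    have h4 : (Fintype.card L : ℤ) = p - 1 := by
      have : (Fintype.card L : ℤ) + 1 = p := by exact_mod_cast hcardL
      linarith
    rw [h4]
    push_cast
    ring
  · exact hcardL
  · intro s
    exact card_class_le R hR hC e hN s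
  · exact hbig
  · exact he

end Main

end Cfsg.Agent.Lib.Helper17_TIPrime
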