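import Cfsg.Agent.Lib.Helper75_CharArith

/-!
# The "good constituent" predicate of the Glauberman correspondence

`Good p φ β`: the multiplicity of `β` in the character `φ` is `≡ ±1 (mod p)`, all other
multiplicities are `≡ 0 (mod p)`.
-/

set_option autoImplicit false

namespace Cfsg.Agent.Lib.Helper3_GlaubGood

open Cfsg.Agent.Lib.Helper3_CharBridge Cfsg.Agent.Lib.Helper3_CharOrtho
  Cfsg.Agent.Lib.Helper75_CharArith

variable {K : Type*} [Group K] [Fintype K]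

/-- `β` is the good constituent of `φ` modulo `p`. -/
def Good (p : ℕ) (φ : K → ℂ) (β : Cfsg.IrrCharacter K) : Prop :=
  (∃ m ε : ℤ, (ε = 1 ∨ ε = -1) ∧ Cfsg.classInner φ (β : K → ℂ) = (((p : ℤ) * m + ε : ℤ) : ℂ)) ∧
  ∀ β' : Cfsg.IrrCharacter K, β' ≠ β →
    ∃ m' : ℤ, Cfsg.classInner φ (β' : K → ℂ) = (((p : ℤ) * m' : ℤ) : ℂ)

theorem not_dvd_of_pm_one {p : ℕ} (hp : 2 ≤ p) {m m' ε : ℤ} (hε : ε = 1 ∨ ε = -1)
    (h : (p : ℤ) * m' = (p : ℤ) * m + ε) : False := by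
  have h1 : (p : ℤ) ∣ ε := ⟨m' - m, by linarith [mul_sub (p : ℤ) m' m]⟩
  have h2 : (p : ℤ) ∣ 1 := by
    rcases hε with rfl | rfl
    · exact h1
    · exact (dvd_neg.mp h1)
  have h3 := Int.le_of_dvd one_pos h2
  have : (2 : ℤ) ≤ p := by exact_mod_cast hp
  linarith

theorem Good.unique {p : ℕ} (hp : 2 ≤ p) {φ : K → ℂ} {β β' : Cfsg.IrrCharacter K}
    (h : Good p φ β) (h' : Good p φ β') : β = β' := by
  by_contra hne
  obtain ⟨m', hm'⟩ := h.2 β' (Ne.symm hne)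
  obtain ⟨m, ε, hε, hm⟩ := h'.1
  rw [hm'] at hm
  exact not_dvd_of_pm_one hp hε (Int.cast_injective hm)

/-- A constituent with multiplicity not divisible by `p` is the good one. -/
theorem Good.eq_of_not_dvd {p : ℕ} {φ : K → ℂ} {β β' : Cfsg.IrrCharacter K}
    (h : Good p φ β) {m : ℕ} (hm : Cfsg.classInner φ (β' : K → ℂ) = (m : ℂ)) (hpm : ¬ p ∣ m) :
    β' = β := by
  by_contra hne
  obtain ⟨m', hm'⟩ := h.2 β' hne
  rw [hm] at hm'
  have h1 : ((m : ℤ) : ℂ) = (((p : ℤ) * m' : ℤ) : ℂ) := by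
    rw [← hm']; simp
  have h2 : (m : ℤ) = (p : ℤ) * m' := Int.cast_injective h1
  apply hpm
  have : (p : ℤ) ∣ (m : ℤ) := ⟨m', h2⟩
  exact_mod_cast this

/-- The multiplicity of the good constituent is `≡ ±1`, in particular not divisible by `p`. -/
theorem Good.mult {p : ℕ} (hp : 2 ≤ p) {φ : K → ℂ} {β : Cfsg.IrrCharacter K}
    (h : Good p φ β) {m : ℕ} (hm : Cfsg.classInner φ (β : K → ℂ) = (m : ℂ)) :
    ¬ p ∣ m ∧ ((m : ℤ) ≡ 1 [ZMOD p] ∨ (m : ℤ) ≡ -1 [ZMOD p]) := by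
  obtain ⟨m₀, ε, hε, hm₀⟩ := h.1
  rw [hm] at hm₀
  have h1 : ((m : ℤ) : ℂ) = (((p : ℤ) * m₀ + ε : ℤ) : ℂ) := by
    rw [← hm₀]; simp
  have h2 : (m : ℤ) = (p : ℤ) * m₀ + ε := Int.cast_injective h1
  constructor
  · intro hd
    have h3 : (p : ℤ) ∣ (m : ℤ) := by exact_mod_cast hd
    obtain ⟨k, hk⟩ := h3
    rw [hk] at h2
    exact not_dvd_of_pm_one hp hε h2
  · rcases hε with rfl | rfl
    · left
      rw [h2]
      show ((p : ℤ) * m₀ + 1) % p = 1 % p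
      rw [Int.add_emod, Int.mul_emod_right, zero_add, Int.emod_emod_of_dvd _ (dvd_refl _)]
    · right
      rw [h2]
      show ((p : ℤ) * m₀ + -1) % p = (-1) % p
      rw [Int.add_emod, Int.mul_emod_right, zero_add, Int.emod_emod_of_dvd _ (dvd_refl _)]

end Cfsg.Agent.Lib.Helper3_GlaubGood
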