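import Cfsg.Agent.Lib.Helper3_CharColumn
import Cfsg.Agent.Lib.Helper75_CharProd
import Cfsg.Agent.Lib.Helper80_CharBasic
import Cfsg.Agent.Lib.Helper3_GlaubGood

/-!
# Real characters and real classes

* Brauer's permutation lemma for a class-compatible self-map `a : G → G` of a finite group
  together with a compatible permutation of `Irr(G)`.
* The number of real-valued irreducible characters equals the number of real classes.
* `Good` is compatible with complex conjugation.
-/

set_option autoImplicit false
set_option linter.unusedSectionVars false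

namespace Cfsg.Agent.Lib.Helper3_RealClasses

open scoped ComplexConjugate
open Cfsg.Agent.Lib.Helper3_CharBridge Cfsg.Agent.Lib.Helper3_CharOrtho
  Cfsg.Agent.Lib.Helper3_CharComplete Cfsg.Agent.Lib.Helper3_CharColumn
  Cfsg.Agent.Lib.Helper3_GlaubGood

variable {G : Type*} [Group G] [Fintype G]

/-- A conjugacy class is `a`-invariant. -/
def MapInv (a : G → G) (K : ConjClasses G) : Prop :=
  ∀ g : G, ConjClasses.mk g = K → ConjClasses.mk (a g) = K

theorem mapInv_mk_iff (a : G → G) (hconj : ∀ g h : G, IsConj g h → IsConj (a g) (a h)) (h : G) :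
    MapInv a (ConjClasses.mk h) ↔ IsConj (a h) h := by
  constructor
  · intro hK
    exact ConjClasses.mk_eq_mk_iff_isConj.mp (hK h rfl)
  · intro hc g hg
    rw [ConjClasses.mk_eq_mk_iff_isConj] at hg ⊢
    exact (hconj g h hg).trans hc

open scoped Classical in
theorem sum_class_map (a : G → G) (hconj : ∀ g h : G, IsConj g h → IsConj (a g) (a h)) (h : G) :
    (∑ g ∈ Finset.univ.filter (fun g : G => ConjClasses.mk g = ConjClasses.mk h),
      if IsConj (a g) g then (Nat.card (Subgroup.centralizer ({a g} : Set G)) : ℂ) else 0) =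
      if MapInv a (ConjClasses.mk h) then (Nat.card G : ℂ) else 0 := by
  have hfilter : Finset.univ.filter (fun g : G => ConjClasses.mk g = ConjClasses.mk h) =
      conjFinset h := by
    ext g
    rw [Finset.mem_filter, mem_conjFinset, ConjClasses.mk_eq_mk_iff_isConj]
    simp
  rw [hfilter]
  by_cases hK : MapInv a (ConjClasses.mk h)
  · rw [if_pos hK]
    have h1 : ∀ g ∈ conjFinset h,
        (if IsConj (a g) g then (Nat.card (Subgroup.centralizer ({a g} : Set G)) : ℂ) else 0) =
          (Nat.card (Subgroup.centralizer ({h} : Set G)) : ℂ) := by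
      intro g hg
      rw [mem_conjFinset] at hg
      have hag : IsConj (a g) g := by
        have := hK g (ConjClasses.mk_eq_mk_iff_isConj.mpr hg)
        rw [ConjClasses.mk_eq_mk_iff_isConj] at this
        exact this.trans hg.symm
      rw [if_pos hag, card_centralizer_eq_of_isConj (hag.trans hg)]
    rw [Finset.sum_congr rfl h1, Finset.sum_const, nsmul_eq_mul]
    exact_mod_cast card_conjFinset_mul_card_centralizer h
  · rw [if_neg hK]
    apply Finset.sum_eq_zero
    intro g hg
    rw [mem_conjFinset] at hg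
    rw [if_neg]
    intro hag
    apply hK
    have : ConjClasses.mk h = ConjClasses.mk g := (ConjClasses.mk_eq_mk_iff_isConj.mpr hg).symm
    rw [this, mapInv_mk_iff a hconj]
    exact hag

/-- **Brauer's permutation lemma** for a class-compatible map. -/
theorem card_fixed_irr_eq_card_fixed_classes (a : G → G)
    (hconj : ∀ g h : G, IsConj g h → IsConj (a g) (a h))
    (T : Cfsg.IrrCharacter G → Cfsg.IrrCharacter G)
    (hT : ∀ (χ : Cfsg.IrrCharacter G) (g : G), (T χ : G → ℂ) g = (χ : G → ℂ) (a g)) :
    Nat.card {χ : Cfsg.IrrCharacter G // ∀ g : G, (χ : G → ℂ) (a g) = (χ : G → ℂ) g} =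
      Nat.card {K : ConjClasses G // MapInv a K} := by
  classical
  have hG : (Nat.card G : ℂ) ≠ 0 := card_ne_zero_complex
  have hinner : ∀ χ : Cfsg.IrrCharacter G, Cfsg.classInner (T χ : G → ℂ) (χ : G → ℂ) =
      if (∀ g : G, (χ : G → ℂ) (a g) = (χ : G → ℂ) g) then 1 else 0 := by
    intro χ
    rw [classInner_irr (T χ).2 χ.2]
    by_cases h : ∀ g : G, (χ : G → ℂ) (a g) = (χ : G → ℂ) g
    · rw [if_pos h, if_pos]
      funext g
      rw [hT]; exact h g
    · rw [if_neg h, if_neg]
      intro h'
      apply h
      intro g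
      rw [← hT]; exact congrFun h' g
  have hL : ∑ χ : Cfsg.IrrCharacter G, Cfsg.classInner (T χ : G → ℂ) (χ : G → ℂ) =
      (Nat.card {χ : Cfsg.IrrCharacter G // ∀ g : G, (χ : G → ℂ) (a g) = (χ : G → ℂ) g} : ℂ) := by
    simp_rw [hinner]
    rw [Finset.sum_boole, Nat.card_eq_fintype_card, Fintype.card_subtype]
  have hR : ∑ χ : Cfsg.IrrCharacter G, Cfsg.classInner (T χ : G → ℂ) (χ : G → ℂ) =
      (Nat.card {K : ConjClasses G // MapInv a K} : ℂ) := by
    unfold Cfsg.classInner
    rw [← Finset.mul_sum, Finset.sum_comm]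
    simp_rw [hT, column_orthogonality]
    rw [← Finset.sum_fiberwise (s := Finset.univ) (g := fun g : G => ConjClasses.mk g)]
    have h2 : ∀ K : ConjClasses G,
        (∑ g ∈ Finset.univ.filter (fun g : G => ConjClasses.mk g = K),
          if IsConj (a g) g then (Nat.card (Subgroup.centralizer ({a g} : Set G)) : ℂ) else 0) =
        if MapInv a K then (Nat.card G : ℂ) else 0 := by
      intro K
      obtain ⟨h, rfl⟩ := ConjClasses.mk_surjective K
      exact sum_class_map a hconj h
    simp_rw [h2]
    rw [← Finset.sum_filter, Finset.sum_const, nsmul_eq_mul, Nat.card_eq_fintype_card,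
      Nat.card_eq_fintype_card, Fintype.card_subtype]
    rw [Nat.card_eq_fintype_card] at hG
    field_simp
  exact_mod_cast hL.symm.trans hR

/-- The complex conjugate of an irreducible character. -/
noncomputable def conjIrr (χ : Cfsg.IrrCharacter G) : Cfsg.IrrCharacter G :=
  ⟨fun g => conj ((χ : G → ℂ) g), Cfsg.Agent.Lib.Helper75_CharProd.isIrrCharacter_conj χ.2⟩

@[simp] theorem conjIrr_apply (χ : Cfsg.IrrCharacter G) (g : G) :
    (conjIrr χ : G → ℂ) g = conj ((χ : G → ℂ) g) := rfl

theorem conjIrr_conjIrr (χ : Cfsg.IrrCharacter G) : conjIrr (conjIrr χ) = χ := by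
  apply Subtype.ext
  funext g
  simp

/-- **Real characters and real classes**: their numbers agree. -/
theorem card_real_irr_eq_card_real_classes :
    Nat.card {χ : Cfsg.IrrCharacter G // ∀ g : G, ((χ : G → ℂ) g).im = 0} =
      Nat.card {K : ConjClasses G // ∀ g : G, ConjClasses.mk g = K → IsConj g g⁻¹} := by
  have h := card_fixed_irr_eq_card_fixed_classes (G := G) (fun g => g⁻¹)
    (fun g h hgh => by
      obtain ⟨x, hx⟩ := isConj_iff.mp hgh
      exact isConj_iff.mpr ⟨x, by rw [← hx]; group⟩)
    conjIrr
    (fun χ g => by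
      rw [conjIrr_apply, Cfsg.Agent.Lib.Helper80_CharBasic.irr_inv])
  have e1 : {χ : Cfsg.IrrCharacter G // ∀ g : G, (χ : G → ℂ) g⁻¹ = (χ : G → ℂ) g} =
      {χ : Cfsg.IrrCharacter G // ∀ g : G, ((χ : G → ℂ) g).im = 0} := by
    congr 1
    funext χ
    apply propext
    constructor
    · intro hχ g
      have := hχ g
      rw [Cfsg.Agent.Lib.Helper80_CharBasic.irr_inv] at this
      exact Complex.conj_eq_iff_im.mp this
    · intro hχ g
      rw [Cfsg.Agent.Lib.Helper80_CharBasic.irr_inv]
      exact Complex.conj_eq_iff_im.mpr (hχ g)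
  have e2 : {K : ConjClasses G // MapInv (fun g : G => g⁻¹) K} =
      {K : ConjClasses G // ∀ g : G, ConjClasses.mk g = K → IsConj g g⁻¹} := by
    congr 1
    funext K
    apply propext
    constructor
    · intro hK g hg
      have := hK g hg
      rw [← hg, ConjClasses.mk_eq_mk_iff_isConj] at this
      exact this.symm
    · intro hK g hg
      rw [← hg, ConjClasses.mk_eq_mk_iff_isConj]
      exact (hK g hg).symm
  rw [← e1, ← e2]
  exact h

/-- `Good` is compatible with complex conjugation. -/
theorem good_conj {p : ℕ} {φ : G → ℂ} {β : Cfsg.IrrCharacter G} (h : Good p φ β) :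
    Good p (fun g => conj (φ g)) (conjIrr β) := by
  constructor
  · obtain ⟨m, ε, hε, hm⟩ := h.1
    refine ⟨m, ε, hε, ?_⟩
    have := Cfsg.Agent.Lib.Helper75_CharProd.classInner_conj_conj φ (β : G → ℂ)
    rw [hm, map_intCast] at this
    exact this
  · intro β' hβ'
    have hne : conjIrr β' ≠ β := by
      intro heq
      apply hβ'
      rw [← heq, conjIrr_conjIrr]
    obtain ⟨m', hm'⟩ := h.2 _ hne
    refine ⟨m', ?_⟩
    have := Cfsg.Agent.Lib.Helper75_CharProd.classInner_conj_conj φ (conjIrr β' : G → ℂ)
    rw [hm'] at this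
    have h2 : (fun g => conj ((conjIrr β' : G → ℂ) g)) = (β' : G → ℂ) := by
      funext g; simp
    rw [h2] at this
    rw [this]
    simp

end Cfsg.Agent.Lib.Helper3_RealClasses
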