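import Mathlib
import Cfsg.Prelude.Def_Characters
import Cfsg.Agent.Lib.Helper80_CharBasic
import Cfsg.Agent.Lib.Helper3_CharComplete
import Cfsg.Agent.Lib.Helper3_RealClasses

/-!
# Definitions for the abstract Brauer–Suzuki–Wall theorem S3282 (helper77)

* `Setup t s K`: the hypotheses of S3282 (`H = C(t) = K⟨s⟩`, `K` abelian T.I., `s` inverts `K`,
  `C_K(s) = ⟨t⟩`, one class of involutions).
* `ConjInto K g`: `g` is conjugate to an element of `K`.
* `invCount g`: the number of involutions inverting `g`.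
* `phi K lam`: the generalized character `ind_K^G (1 - lam)` for a linear character `lam` of `K`.
* `CharData`: the output of the character-theoretic part: `q = 2|K| + ε`, `2|G| = q(q+1)(q-1)`, the
  characters `St` (degree `q`), `c, d` (degree `(q+ε)/2`), the family `Θ` (degree `q+ε`), all other
  irreducible characters vanishing on the non-identity elements conjugate into `K`.
-/

set_option autoImplicit false
open Cfsg
open scoped ComplexConjugate

namespace Cfsg.Agent.Lib.Helper77_BSWDefs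

open Cfsg.Agent.Lib.Helper80_CharBasic Cfsg.Agent.Lib.Helper3_CharComplete

/-- The hypotheses of the abstract Brauer–Suzuki–Wall theorem (S3282). -/
structure Setup {G : Type*} [Group G] (t s : G) (K : Subgroup G) : Prop where
  ht : orderOf t = 2
  comm : ∀ x ∈ K, ∀ y ∈ K, x * y = y * x
  hKH : K ≤ Subgroup.centralizer ({t} : Set G)
  htK : t ∈ K
  hs : orderOf s = 2
  hsH : s ∈ Subgroup.centralizer ({t} : Set G)
  hsK : s ∉ K
  hH : K ⊔ Subgroup.zpowers s = Subgroup.centralizer ({t} : Set G)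
  hCK : K ⊓ Subgroup.centralizer ({s} : Set G) = Subgroup.zpowers t
  hinv : ∀ x ∈ K, s * x * s⁻¹ = x⁻¹
  hTI : ∀ g : G, g ∉ Subgroup.centralizer ({t} : Set G) →
    K ⊓ K.map (MulAut.conj g).toMonoidHom = ⊥
  hconj : ∀ x y : G, orderOf x = 2 → orderOf y = 2 → IsConj x y

/-- `g` is conjugate to an element of `K`. -/
def ConjInto {G : Type*} [Group G] (K : Subgroup G) (g : G) : Prop := ∃ x : G, x⁻¹ * g * x ∈ K

/-- The number of involutions inverting `g`. -/
noncomputable def invCount {G : Type*} [Group G] (g : G) : ℕ :=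
  Nat.card {u : G // orderOf u = 2 ∧ u * g * u⁻¹ = g⁻¹}

/-- The number of pairs `(u, v)` of involutions with `u * v = g`. -/
noncomputable def pairCount {G : Type*} [Group G] (g : G) : ℕ :=
  Nat.card {u : G // orderOf u = 2 ∧ orderOf (u⁻¹ * g) = 2}

/-- The elementary group-theoretic consequences of `Setup` used everywhere (`k = |K|`,
`H = C(t)`). -/
structure Basics {G : Type*} [Group G] (t s : G) (K : Subgroup G) : Prop where
  card_H : Nat.card (Subgroup.centralizer ({t} : Set G)) = 2 * Nat.card K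
  even_card : Even (Nat.card K)
  mem_H_iff : ∀ g : G, g ∈ Subgroup.centralizer ({t} : Set G) ↔ g ∈ K ∨ ∃ a ∈ K, g = a * s
  orderOf_mul_s : ∀ a ∈ K, orderOf (a * s) = 2
  eq_t_of_mem : ∀ y ∈ K, orderOf y = 2 → y = t
  mem_H_of_conj_mem : ∀ y ∈ K, y ≠ 1 → ∀ g : G, g⁻¹ * y * g ∈ K →
    g ∈ Subgroup.centralizer ({t} : Set G)
  centralizer_le : ∀ y ∈ K, y ≠ 1 →
    Subgroup.centralizer ({y} : Set G) ≤ Subgroup.centralizer ({t} : Set G)
  centralizer_eq : ∀ y ∈ K, y * y ≠ 1 → Subgroup.centralizer ({y} : Set G) = K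
  conj_of_mem_K : ∀ y ∈ K, ∀ a ∈ K, a⁻¹ * y * a = y
  conj_of_mem_Ks : ∀ y ∈ K, ∀ a ∈ K, (a * s)⁻¹ * y * (a * s) = y⁻¹
  exists_conj_invol : ∀ u : G, orderOf u = 2 → ∃ x : G, u = x * t * x⁻¹
  card_centralizer_invol : ∀ u : G, orderOf u = 2 →
    Nat.card (Subgroup.centralizer ({u} : Set G)) = 2 * Nat.card K
  conjInto_of_mem_H : ∀ g ∈ Subgroup.centralizer ({t} : Set G), ConjInto K g
  conjInto_of_even : ∀ g : G, 2 ∣ orderOf g → ConjInto K g
  orderOf_dvd : ∀ g : G, ConjInto K g → orderOf g ∣ Nat.card K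
  card_conjInto : 2 * Nat.card K * Nat.card {g : G // ConjInto K g ∧ g ≠ 1} =
    Nat.card G * (Nat.card K - 1)
  pairCount_of_mem : ∀ y ∈ K, y ≠ 1 → pairCount y = Nat.card K
  exists_notMem_H : ∃ g : G, g ∉ Subgroup.centralizer ({t} : Set G)

/-- The generalized character `ind_K^G (1 - lam)`. -/
noncomputable def phi {G : Type*} [Group G] [Fintype G] (K : Subgroup G)
    (lam : IrrCharacter ↥K) : G → ℂ :=
  indFun K (fun y => 1 - (lam : ↥K → ℂ) y)

/-- The complex conjugate of an irreducible character (from `Helper3_RealClasses`). -/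
noncomputable abbrev cj {A : Type*} [Group A] [Fintype A] (lam : IrrCharacter A) : IrrCharacter A :=
  Cfsg.Agent.Lib.Helper3_RealClasses.conjIrr lam

/-- The output of the character-theoretic part of the Brauer–Suzuki–Wall theorem. -/
structure CharData {G : Type*} [Group G] [Fintype G] (t : G) (K : Subgroup G)
    (ε : ℤ) (q : ℕ) (St c d : IrrCharacter G) (Θ : Finset (IrrCharacter G)) : Prop where
  hε : ε = 1 ∨ ε = -1
  hq : (q : ℤ) = 2 * (Nat.card K : ℤ) + ε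
  card_G : 2 * Nat.card G = q * (q + 1) * (q - 1)
  St_one : (St : G → ℂ) 1 = (q : ℂ)
  St_K : ∀ g : G, ConjInto K g → g ≠ 1 → (St : G → ℂ) g = (ε : ℂ)
  c_one : 2 * (c : G → ℂ) 1 = (q : ℂ) + (ε : ℂ)
  d_one : 2 * (d : G → ℂ) 1 = (q : ℂ) + (ε : ℂ)
  c_K : ∀ g : G, ConjInto K g → g ≠ 1 → ((c : G → ℂ) g = 1 ∨ (c : G → ℂ) g = -1)
  d_K : ∀ g : G, ConjInto K g → g ≠ 1 → (d : G → ℂ) g = (c : G → ℂ) g
  cd_off : ∀ g : G, ¬ ConjInto K g → (c : G → ℂ) g + (d : G → ℂ) g = (St : G → ℂ) g + (ε : ℂ)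
  Θ_card : 2 * Θ.card + 2 = Nat.card K
  Θ_one : ∀ θ ∈ Θ, (θ : G → ℂ) 1 = (q : ℂ) + (ε : ℂ)
  Θ_t : ∀ θ ∈ Θ, (θ : G → ℂ) t ^ 2 = 4
  Θ_off : ∀ θ ∈ Θ, ∀ g : G, ¬ ConjInto K g → (θ : G → ℂ) g = (St : G → ℂ) g + (ε : ℂ)
  St_ne_one : St ≠ oneIrr G
  c_ne_one : c ≠ oneIrr G
  d_ne_one : d ≠ oneIrr G
  St_ne_c : St ≠ c
  St_ne_d : St ≠ d
  c_ne_d : c ≠ d
  one_notMem : oneIrr G ∉ Θ
  St_notMem : St ∉ Θ
  c_notMem : c ∉ Θ
  d_notMem : d ∉ Θ
  others : ∀ χ : IrrCharacter G, χ ≠ oneIrr G → χ ≠ St → χ ≠ c → χ ≠ d → χ ∉ Θ →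
    ∀ g : G, ConjInto K g → g ≠ 1 → (χ : G → ℂ) g = 0

end Cfsg.Agent.Lib.Helper77_BSWDefs
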