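import Mathlib
import Cfsg.Agent.Lib.Helper77_BSWDefs
import Cfsg.Agent.Lib.Helper17_Coherence
import Cfsg.Agent.Lib.Helper17_TIPrime
import Cfsg.Agent.Lib.Helper75_Induced
import Cfsg.Agent.Lib.Helper81_CharOrth2
import Cfsg.Agent.Lib.Helper3_CharOrtho
import Cfsg.Agent.Lib.Helper3_CharComplete

/-!
# S3282 (abstract Brauer–Suzuki–Wall), package A4 (for helper77)

The values of a class function `χ` of `G` on the non-identity elements of an abelian subgroup `K`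
in terms of the inner products `(χ, phi K lam)`.
-/

set_option autoImplicit false
open Cfsg
open scoped ComplexConjugate

namespace Cfsg.Agent.Lib.Helper11_BSW_A4

open Cfsg.Agent.Lib.Helper77_BSWDefs Cfsg.Agent.Lib.Helper80_CharBasic

variable {G : Type*} [Group G] [Fintype G] {K : Subgroup G} [Fintype ↥K]

theorem apply_of_mem (hcomm : ∀ x ∈ K, ∀ y ∈ K, x * y = y * x) (χ : G → ℂ)
    (hχ : IsClassFunction G χ) {y : G} (hy : y ∈ K) (hy1 : y ≠ 1) :
    χ y = - ∑ lam ∈ Finset.univ.erase (oneIrr ↥K),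
      classInner χ (phi K lam) * (lam : ↥K → ℂ) ⟨y, hy⟩ := by
  classical
  have hK : ∀ a b : ↥K, a * b = b * a := fun a b => Subtype.ext (hcomm a a.2 b b.2)
  -- the restriction of `χ` to `K`
  let ψ : ↥K → ℂ := fun h => χ h
  have hψc : IsClassFunction ↥K ψ := by
    intro g h
    have : h * g * h⁻¹ = g := by rw [hK h g, mul_inv_cancel_right]
    rw [this]
  have hexp := Cfsg.Agent.Lib.Helper3_CharComplete.classFunction_eq_sum ψ hψc
  -- the inner products with `phi K lam`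
  have hkey : ∀ lam : IrrCharacter ↥K, classInner χ (phi K lam) =
      classInner ψ ((oneIrr ↥K : IrrCharacter ↥K) : ↥K → ℂ) - classInner ψ (lam : ↥K → ℂ) := by
    intro lam
    rw [← Cfsg.Agent.Lib.Helper3_CharOrtho.classInner_conj_symm (phi K lam) χ]
    unfold phi
    rw [Cfsg.Agent.Lib.Helper75_Induced.frobenius_reciprocity K _ χ hχ]
    have h1 : (fun y : ↥K => (1 : ℂ) - (lam : ↥K → ℂ) y) =
        ((oneIrr ↥K : IrrCharacter ↥K) : ↥K → ℂ) - (lam : ↥K → ℂ) := by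
      funext z
      rfl
    rw [h1, Cfsg.Agent.Lib.Helper3_CharOrtho.classInner_sub_left, map_sub,
      Cfsg.Agent.Lib.Helper3_CharOrtho.classInner_conj_symm,
      Cfsg.Agent.Lib.Helper3_CharOrtho.classInner_conj_symm]
  -- column orthogonality
  have hy1' : (⟨y, hy⟩ : ↥K) ≠ 1 := by
    intro h
    apply hy1
    exact congrArg Subtype.val h
  have hcol : ∑ lam : IrrCharacter ↥K, (lam : ↥K → ℂ) ⟨y, hy⟩ = 0 := by
    have h := Cfsg.Agent.Lib.Helper81_CharOrth2.second_orthogonality (G := ↥K) ⟨y, hy⟩ 1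
    have h2 : ∀ μ : IrrCharacter ↥K,
        (μ : ↥K → ℂ) ⟨y, hy⟩ * (μ : ↥K → ℂ) 1⁻¹ = (μ : ↥K → ℂ) ⟨y, hy⟩ := by
      intro μ
      rw [inv_one, Cfsg.Agent.Lib.Helper17_TIPrime.irr_apply_one_of_comm hK μ, mul_one]
    rw [Finset.sum_congr rfl (fun μ _ => h2 μ)] at h
    rw [h]
    have : IsEmpty {c : ↥K // c * ⟨y, hy⟩ * c⁻¹ = 1} := by
      constructor
      rintro ⟨c, hc⟩
      apply hy1'
      have : (⟨y, hy⟩ : ↥K) = c⁻¹ * (c * ⟨y, hy⟩ * c⁻¹) * c := by group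
      rw [this, hc]; group
    rw [Nat.card_of_isEmpty]
    simp
  -- assemble
  have hval : χ y = ∑ lam : IrrCharacter ↥K, classInner ψ (lam : ↥K → ℂ) * (lam : ↥K → ℂ) ⟨y, hy⟩ := by
    have h1 := congrFun hexp ⟨y, hy⟩
    rw [Finset.sum_apply] at h1
    exact h1
  have hphi1 : classInner χ (phi K (oneIrr ↥K)) * ((oneIrr ↥K : IrrCharacter ↥K) : ↥K → ℂ) ⟨y, hy⟩ = 0 := by
    rw [hkey, sub_self, zero_mul]
  rw [Finset.sum_erase (s := Finset.univ) (a := oneIrr ↥K)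
    (f := fun lam : IrrCharacter ↥K => classInner χ (phi K lam) * (lam : ↥K → ℂ) ⟨y, hy⟩) hphi1,
    hval]
  have h3 : ∀ lam : IrrCharacter ↥K,
      classInner χ (phi K lam) * (lam : ↥K → ℂ) ⟨y, hy⟩ =
        classInner ψ ((oneIrr ↥K : IrrCharacter ↥K) : ↥K → ℂ) * (lam : ↥K → ℂ) ⟨y, hy⟩ -
          classInner ψ (lam : ↥K → ℂ) * (lam : ↥K → ℂ) ⟨y, hy⟩ := by
    intro lam
    rw [hkey lam, sub_mul]
  rw [Finset.sum_congr rfl (fun lam _ => h3 lam), Finset.sum_sub_distrib, ← Finset.mul_sum, hcol,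
    mul_zero, zero_sub, neg_neg]

end Cfsg.Agent.Lib.Helper11_BSW_A4
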