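import Mathlib
import Cfsg.Agent.Lib.Helper77_BSWDefs
import Cfsg.Agent.Lib.Helper3_CharOrtho

/-!
# S3282 (abstract Brauer–Suzuki–Wall), package B2 (for helper77)

The number of elements off the conjugates of `K` on which `St` vanishes is `q ^ 2 - 1`.
-/

set_option autoImplicit false
open Cfsg
open scoped ComplexConjugate

namespace Cfsg.Agent.Lib.Helper11_BSW_B2

open Cfsg.Agent.Lib.Helper77_BSWDefs

variable {G : Type*} [Group G] [Fintype G] {t s : G} {K : Subgroup G} {ε : ℤ} {q : ℕ}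
  {St c d : IrrCharacter G} {Θ : Finset (IrrCharacter G)}

theorem card_Piq (h : Setup t s K) (hB : Basics t s K) (D : CharData t K ε q St c d Θ)
    (hoff : ∀ g : G, ¬ ConjInto K g → (St : G → ℂ) g = 0 ∨ (St : G → ℂ) g = -(ε : ℂ)) :
    Nat.card {g : G // ¬ ConjInto K g ∧ (St : G → ℂ) g = 0} = q ^ 2 - 1 := by
  classical
  -- the norm of `St`
  have hnorm : ∑ g : G, (St : G → ℂ) g * conj ((St : G → ℂ) g) = (Nat.card G : ℂ) := by
    have h1 := Cfsg.Agent.Lib.Helper3_CharOrtho.classInner_self_of_isIrrCharacter St.2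
    unfold Cfsg.classInner at h1
    have hG : (Nat.card G : ℂ) ≠ 0 := Nat.cast_ne_zero.mpr Nat.card_pos.ne'
    field_simp at h1
    exact h1
  have hεε : (ε : ℂ) * conj (ε : ℂ) = 1 := by
    rcases D.hε with h1 | h1 <;> rw [h1] <;> simp
  have hone : ConjInto K (1 : G) := ⟨1, by simp⟩
  -- the pointwise identity
  have hpt : ∀ g : G, (St : G → ℂ) g * conj ((St : G → ℂ) g) +
      (if ¬ ConjInto K g ∧ (St : G → ℂ) g = 0 then (1 : ℂ) else 0) =
      1 + (if g = 1 then ((q : ℂ) ^ 2 - 1) else 0) := by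
    intro g
    by_cases hg1 : g = 1
    · subst hg1
      rw [if_neg (fun hh => hh.1 hone), if_pos rfl, D.St_one]
      simp
      ring
    · rw [if_neg hg1, add_zero]
      by_cases hc : ConjInto K g
      · rw [if_neg (fun hh => hh.1 hc), add_zero, D.St_K g hc hg1, hεε]
      · rcases hoff g hc with h0 | h0
        · rw [if_pos ⟨hc, h0⟩, h0]
          simp
        · have hne : (St : G → ℂ) g ≠ 0 := by
            rw [h0]
            rcases D.hε with h1 | h1 <;> rw [h1] <;> simp
          rw [if_neg (fun hh => hne hh.2), add_zero, h0]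
          have : (-(ε : ℂ)) * conj (-(ε : ℂ)) = (ε : ℂ) * conj (ε : ℂ) := by
            simp
          rw [this, hεε]
  have hsum := Finset.sum_congr (s₁ := (Finset.univ : Finset G)) rfl (fun g _ => hpt g)
  rw [Finset.sum_add_distrib, Finset.sum_add_distrib, hnorm, Finset.sum_const, Finset.card_univ,
    Finset.sum_ite_eq' Finset.univ (1 : G) (fun _ => ((q : ℂ) ^ 2 - 1)), if_pos (Finset.mem_univ _),
    Finset.sum_ite, Finset.sum_const, Finset.sum_const_zero, add_zero, nsmul_eq_mul, mul_one,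
    nsmul_eq_mul, mul_one, Nat.card_eq_fintype_card] at hsum
  have hcard : ((Finset.univ.filter
      (fun g : G => ¬ ConjInto K g ∧ (St : G → ℂ) g = 0)).card : ℂ) = (q : ℂ) ^ 2 - 1 := by
    linear_combination hsum
  -- `q ≥ 1`
  have hq1 : 1 ≤ q := by
    have hK : 1 ≤ Nat.card K := Nat.card_pos
    have h1 := D.hq
    rcases D.hε with h2 | h2 <;> rw [h2] at h1 <;> omega
  have hq2 : 1 ≤ q ^ 2 := Nat.one_le_pow _ _ hq1
  rw [Nat.card_eq_fintype_card, Fintype.card_subtype]
  have : ((Finset.univ.filter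
      (fun g : G => ¬ ConjInto K g ∧ (St : G → ℂ) g = 0)).card : ℂ) = ((q ^ 2 - 1 : ℕ) : ℂ) := by
    rw [hcard]
    push_cast [Nat.cast_sub hq2]
    ring
  exact_mod_cast this

end Cfsg.Agent.Lib.Helper11_BSW_B2
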