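import Cfsg.Agent.Lib.Helper84_BisetTransfer

/-!
# The sign transfer of a right-free biset (helper11)

For a finite `T`-`T`-biset `X` with free right action and a homomorphism `χ : T →* ℤˣ`, the map
`W s = ∏ over right orbits O of χ (coordinate of s · rep O)` is a homomorphism `T →* ℤˣ`, invariant under twisting by
right-equivariant permutations, and for an involution `i` and `χ` with kernel `T₁` it can be evaluated by counting the
right orbits fixed by `i` (Thompson transfer).
-/

set_option autoImplicit false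
set_option linter.style.haveILetI false

namespace Cfsg.Agent.Lib.Helper11_BisetSign

open Cfsg.Agent.Lib.Helper84_BisetTransfer

variable {T : Type*} [Group T] {X : Type*} {l : T → X → X} {r : X → T → X}

/-- the left action on the right orbits -/
def lorb (h : IsBiset l r) (s : T) : ROrb h → ROrb h :=
  Quotient.map' (l s) (by
    rintro x y ⟨t, rfl⟩
    exact ⟨t, (h.comm s x t).symm⟩)

theorem lorb_mk (h : IsBiset l r) (s : T) (x : X) :
    lorb h s (Quotient.mk (rSetoid h) x) = Quotient.mk (rSetoid h) (l s x) := rfl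

/-- the left action on the right orbits, as an action -/
@[reducible] def rorbAction (h : IsBiset l r) : MulAction T (ROrb h) where
  smul s O := lorb h s O
  one_smul O := by
    induction O using Quotient.inductionOn with
    | h x =>
      show lorb h 1 (Quotient.mk (rSetoid h) x) = _
      rw [lorb_mk, h.l_one]
  mul_smul s t O := by
    induction O using Quotient.inductionOn with
    | h x =>
      show lorb h (s * t) (Quotient.mk (rSetoid h) x) = lorb h s (lorb h t (Quotient.mk (rSetoid h) x))
      rw [lorb_mk, lorb_mk, lorb_mk, h.l_mul]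

theorem smul_mk (h : IsBiset l r) (s : T) (x : X) :
    letI := rorbAction h
    s • (Quotient.mk (rSetoid h) x : ROrb h) = Quotient.mk (rSetoid h) (l s x) := rfl

theorem coord_rep (h : IsBiset l r) (O : ROrb h) : coord h (rep h O) = 1 := by
  have h1 := coord_spec h (rep h O)
  rw [mk_rep] at h1
  exact h.r_free _ _ h1.symm

/-- the coordinate cocycle of the left action -/
noncomputable def cc (h : IsBiset l r) (s : T) (O : ROrb h) : T := coord h (l s (rep h O))

theorem coord_l (h : IsBiset l r) (s : T) (x : X) :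
    coord h (l s x) = cc h s (Quotient.mk (rSetoid h) x) * coord h x := by
  have h1 := coord_spec h x
  have h2 : l s x = r (l s (rep h (Quotient.mk (rSetoid h) x))) (coord h x) := by
    conv_lhs => rw [h1]
    exact (h.comm s _ _).symm
  conv_lhs => rw [h2]
  rw [coord_r]
  rfl

theorem l_rep (h : IsBiset l r) (s : T) (O : ROrb h) :
    letI := rorbAction h
    l s (rep h O) = r (rep h (s • O)) (cc h s O) := by
  have h1 := coord_spec h (l s (rep h O))
  have h2 : Quotient.mk (rSetoid h) (l s (rep h O)) = lorb h s O := by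
    rw [← lorb_mk, mk_rep]
  rw [h2] at h1
  exact h1

theorem cc_mul (h : IsBiset l r) (s t : T) (O : ROrb h) :
    letI := rorbAction h
    cc h (s * t) O = cc h s (t • O) * cc h t O := by
  letI := rorbAction h
  show coord h (l (s * t) (rep h O)) = _
  rw [h.l_mul, coord_l, ← smul_mk, mk_rep]
  rfl

theorem cc_one (h : IsBiset l r) (O : ROrb h) : cc h 1 O = 1 := by
  show coord h (l 1 (rep h O)) = 1
  rw [h.l_one, coord_rep]

section W

variable (h : IsBiset l r) [Fintype (ROrb h)] (χ : T →* ℤˣ)

/-- the sign transfer -/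
noncomputable def Wfun (s : T) : ℤˣ := ∏ O : ROrb h, χ (cc h s O)

theorem Wfun_mul (s t : T) : Wfun h χ (s * t) = Wfun h χ s * Wfun h χ t := by
  letI := rorbAction h
  unfold Wfun
  have h1 : ∀ O : ROrb h, χ (cc h (s * t) O) = χ (cc h s (t • O)) * χ (cc h t O) := by
    intro O
    rw [cc_mul, map_mul]
  rw [Finset.prod_congr rfl (fun O _ => h1 O), Finset.prod_mul_distrib]
  congr 1
  exact Equiv.prod_comp (MulAction.toPerm t) (fun O => χ (cc h s O))

/-- the sign transfer as a homomorphism -/
noncomputable def W : T →* ℤˣ := MonoidHom.mk' (Wfun h χ) (Wfun_mul h χ)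

theorem W_apply (s : T) : W h χ s = ∏ O : ROrb h, χ (cc h s O) := rfl

end W

section Conj

variable (h : IsBiset l r)

/-- the permutation of the right orbits induced by a right-equivariant permutation -/
def sorb (σ : Equiv.Perm X) (hσ : ∀ x s, σ (r x s) = r (σ x) s) : ROrb h → ROrb h :=
  Quotient.map' σ (by
    rintro x y ⟨t, rfl⟩
    exact ⟨t, hσ x t⟩)

theorem sorb_mk (σ : Equiv.Perm X) (hσ : ∀ x s, σ (r x s) = r (σ x) s) (x : X) :
    sorb h σ hσ (Quotient.mk (rSetoid h) x) = Quotient.mk (rSetoid h) (σ x) := rfl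

omit [Group T] in
theorem symm_equivariant (σ : Equiv.Perm X) (hσ : ∀ x s, σ (r x s) = r (σ x) s) :
    ∀ x s, σ.symm (r x s) = r (σ.symm x) s := by
  intro x s
  apply σ.injective
  rw [hσ]
  simp

/-- the induced permutation of the right orbits, as an equivalence -/
def sorbEquiv (σ : Equiv.Perm X) (hσ : ∀ x s, σ (r x s) = r (σ x) s) : Equiv.Perm (ROrb h) where
  toFun := sorb h σ hσ
  invFun := sorb h σ.symm (symm_equivariant σ hσ)
  left_inv O := by
    induction O using Quotient.inductionOn with
    | h x => rw [sorb_mk, sorb_mk, Equiv.symm_apply_apply]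
  right_inv O := by
    induction O using Quotient.inductionOn with
    | h x => rw [sorb_mk, sorb_mk, Equiv.apply_symm_apply]

theorem coord_sigma (σ : Equiv.Perm X) (hσ : ∀ x s, σ (r x s) = r (σ x) s) (x : X) :
    coord h (σ x) = coord h (σ (rep h (Quotient.mk (rSetoid h) x))) * coord h x := by
  have h1 := coord_spec h x
  conv_lhs => rw [h1]
  rw [hσ, coord_r]

/-- the sign transfer is stable under right-equivariant twists -/
theorem W_eq_of_conj [Fintype (ROrb h)] (χ : T →* ℤˣ) (σ : Equiv.Perm X)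
    (hσ : ∀ x s, σ (r x s) = r (σ x) s) (u v : T) (huv : ∀ x, σ (l u x) = l v (σ x)) : W h χ v = W h χ u := by
  letI := rorbAction h
  set D : ℤˣ := ∏ O : ROrb h, χ (coord h (σ (rep h O))) with hD
  have key : ∀ O : ROrb h, χ (cc h v (sorbEquiv h σ hσ O)) * χ (coord h (σ (rep h O))) =
      χ (coord h (σ (rep h (u • O)))) * χ (cc h u O) := by
    intro O
    rw [← map_mul, ← map_mul]
    congr 1
    have h1 : coord h (l v (σ (rep h O))) =
        cc h v (sorbEquiv h σ hσ O) * coord h (σ (rep h O)) := by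
      rw [coord_l, ← sorb_mk h σ hσ, mk_rep]
      rfl
    have h2 : coord h (σ (l u (rep h O))) = coord h (σ (rep h (u • O))) * cc h u O := by
      rw [coord_sigma h σ hσ, ← smul_mk, mk_rep]
      rfl
    rw [← h1, ← h2, huv]
  have h3 : (∏ O : ROrb h, χ (cc h v (sorbEquiv h σ hσ O))) * D =
      (∏ O : ROrb h, χ (coord h (σ (rep h (u • O))))) * ∏ O : ROrb h, χ (cc h u O) := by
    rw [hD, ← Finset.prod_mul_distrib, ← Finset.prod_mul_distrib]
    exact Finset.prod_congr rfl (fun O _ => key O)
  have h4 : (∏ O : ROrb h, χ (cc h v (sorbEquiv h σ hσ O))) = W h χ v :=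
    Equiv.prod_comp (sorbEquiv h σ hσ) (fun O => χ (cc h v O))
  have h5 : (∏ O : ROrb h, χ (coord h (σ (rep h (u • O))))) = D :=
    Equiv.prod_comp (MulAction.toPerm u) (fun O => χ (coord h (σ (rep h O))))
  rw [h4, h5, mul_comm] at h3
  rw [W_apply]
  exact mul_left_cancel h3

end Conj

section Eval

variable (h : IsBiset l r)

/-- the right orbits on which `i` acts with a twist in `T₁` -/
def Good (T₁ : Subgroup T) (i : T) (O : ROrb h) : Prop :=
  ∃ x, Quotient.mk (rSetoid h) x = O ∧ ∃ t ∈ T₁, l i x = r x t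

theorem good_iff (T₁ : Subgroup T) [T₁.Normal] (i : T) (O : ROrb h) :
    letI := rorbAction h
    Good h T₁ i O ↔ i • O = O ∧ cc h i O ∈ T₁ := by
  letI := rorbAction h
  constructor
  · rintro ⟨x, rfl, t, ht, hxt⟩
    have hfix : i • (Quotient.mk (rSetoid h) x : ROrb h) = Quotient.mk (rSetoid h) x := by
      rw [smul_mk, hxt, mk_r]
    refine ⟨hfix, ?_⟩
    obtain ⟨u, hu⟩ := (mk_eq_iff h x (rep h (Quotient.mk (rSetoid h) x))).1 (mk_rep h _).symm
    have h1 : l i (rep h (Quotient.mk (rSetoid h) x)) =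
        r (rep h (Quotient.mk (rSetoid h) x)) (u⁻¹ * t * u) := by
      conv_lhs => rw [hu]
      rw [← h.comm, hxt, ← h.r_mul]
      conv_rhs => rw [hu]
      rw [← h.r_mul]
      congr 1
      group
    show coord h (l i (rep h (Quotient.mk (rSetoid h) x))) ∈ T₁
    rw [h1, coord_r, coord_rep, one_mul]
    have := (inferInstance : T₁.Normal).conj_mem t ht u⁻¹
    simpa using this
  · rintro ⟨hfix, hc⟩
    refine ⟨rep h O, mk_rep h O, cc h i O, hc, ?_⟩
    have h1 := l_rep h i O
    rw [hfix] at h1
    exact h1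

variable [Fintype (ROrb h)] [DecidableEq (ROrb h)]

/-- the transfer of an involution only sees the right orbits it fixes -/
theorem W_involution (χ : T →* ℤˣ) (i : T) (hi : i * i = 1) :
    letI := rorbAction h
    W h χ i = ∏ O ∈ (Finset.univ : Finset (ROrb h)).filter (fun O => i • O = O), χ (cc h i O) := by
  letI := rorbAction h
  rw [W_apply, ← Finset.prod_filter_mul_prod_filter_not Finset.univ (fun O : ROrb h => i • O = O)]
  have h2 : ∏ O ∈ (Finset.univ : Finset (ROrb h)).filter (fun O => ¬ i • O = O), χ (cc h i O) = 1 := by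
    apply Finset.prod_involution (fun O _ => i • O)
    case hg₁ =>
      intro O _
      rw [mul_comm, ← map_mul, ← cc_mul, hi, cc_one, map_one]
    case hg₃ =>
      intro O hO _
      exact (Finset.mem_filter.1 hO).2
    case g_mem =>
      intro O hO
      rw [Finset.mem_filter] at hO ⊢
      refine ⟨Finset.mem_univ _, ?_⟩
      rw [← mul_smul, hi, one_smul]
      exact fun h3 => hO.2 h3.symm
    case hg₄ =>
      intro O _
      rw [← mul_smul, hi, one_smul]
  rw [h2, mul_one]

end Eval

section Thompson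

variable (h : IsBiset l r)

/-- the good right orbits, as a set stable under the centralizer of `i` -/
def goodSub (T₁ : Subgroup T) (i : T) :
    letI := rorbAction h
    SubMulAction ↥(Subgroup.centralizer ({i} : Set T)) (ROrb h) :=
  letI := rorbAction h
  { carrier := {O | Good h T₁ i O}
    smul_mem' := by
      rintro ⟨c, hc⟩ O ⟨x, rfl, t, ht, hxt⟩
      refine ⟨l c x, rfl, t, ht, ?_⟩
      have hci : i * c = c * i := Subgroup.mem_centralizer_iff.1 hc i rfl
      rw [← h.l_mul, hci, h.l_mul, hxt, h.comm] }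

theorem card_fix_odd [Finite (ROrb h)] (i : T) (hi : i * i = 1) (hodd : Odd (Nat.card (ROrb h))) :
    letI := rorbAction h
    Odd (Nat.card {O : ROrb h // i • O = O}) := by
  letI := rorbAction h
  have hP : IsPGroup 2 ↥(Subgroup.zpowers i) := by
    rintro ⟨g, hg⟩
    refine ⟨1, ?_⟩
    obtain ⟨n, rfl⟩ := Subgroup.mem_zpowers_iff.1 hg
    apply Subtype.ext
    show (i ^ n) ^ 2 ^ 1 = 1
    rw [pow_one, ← zpow_natCast, ← zpow_mul, mul_comm, zpow_mul, zpow_natCast, pow_two, hi, one_zpow]
  haveI : Fact (Nat.Prime 2) := ⟨Nat.prime_two⟩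
  have h1 := hP.card_modEq_card_fixedPoints (ROrb h)
  have h2 : Nat.card (MulAction.fixedPoints ↥(Subgroup.zpowers i) (ROrb h)) =
      Nat.card {O : ROrb h // i • O = O} := by
    apply Nat.card_congr
    refine Equiv.subtypeEquivRight (fun O => ?_)
    constructor
    · intro hO
      exact hO ⟨i, Subgroup.mem_zpowers i⟩
    · intro hO g
      have h3 : Subgroup.zpowers i ≤ MulAction.stabilizer T O :=
        Subgroup.zpowers_le.2 (MulAction.mem_stabilizer_iff.2 hO)
      exact MulAction.mem_stabilizer_iff.1 (h3 g.2)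
  rw [h2] at h1
  rw [Nat.odd_iff] at hodd ⊢
  rw [← hodd]
  exact h1.symm

theorem card_good_even [Finite (ROrb h)] (T₁ : Subgroup T) (i : T)
    (hC : IsPGroup 2 ↥(Subgroup.centralizer ({i} : Set T)))
    (hkey : ¬ ∃ x t, t ∈ T₁ ∧ l i x = r x t ∧
      ∀ c ∈ Subgroup.centralizer ({i} : Set T), ∃ d, l c x = r x d) :
    Even (Nat.card {O : ROrb h // Good h T₁ i O}) := by
  letI := rorbAction h
  haveI : Fact (Nat.Prime 2) := ⟨Nat.prime_two⟩
  haveI : Finite ↥(goodSub h T₁ i) := Subtype.finite
  have h1 := hC.card_modEq_card_fixedPoints ↥(goodSub h T₁ i)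
  have h2 : IsEmpty (MulAction.fixedPoints ↥(Subgroup.centralizer ({i} : Set T)) ↥(goodSub h T₁ i)) := by
    constructor
    rintro ⟨⟨O, x, rfl, t, ht, hxt⟩, hfix⟩
    apply hkey
    refine ⟨x, t, ht, hxt, ?_⟩
    intro c hc
    have h3 := hfix ⟨c, hc⟩
    have h4 : c • (Quotient.mk (rSetoid h) x : ROrb h) = Quotient.mk (rSetoid h) x :=
      congrArg Subtype.val h3
    rw [smul_mk] at h4
    exact (mk_eq_iff h x (l c x)).1 h4.symm
  rw [@Nat.card_of_isEmpty _ h2] at h1
  have h5 : Nat.card ↥(goodSub h T₁ i) = Nat.card {O : ROrb h // Good h T₁ i O} := rfl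
  rw [h5] at h1
  exact Nat.even_iff.2 h1

/-- **Thompson transfer for bisets.** -/
theorem W_eq_neg_one [Finite (ROrb h)] [Fintype (ROrb h)] (χ : T →* ℤˣ) (T₁ : Subgroup T) [T₁.Normal]
    (hχ1 : ∀ t ∈ T₁, χ t = 1) (hχ2 : ∀ t, t ∉ T₁ → χ t = -1)
    (i : T) (hi : i * i = 1) (hodd : Odd (Nat.card (ROrb h)))
    (hC : IsPGroup 2 ↥(Subgroup.centralizer ({i} : Set T)))
    (hkey : ¬ ∃ x t, t ∈ T₁ ∧ l i x = r x t ∧
      ∀ c ∈ Subgroup.centralizer ({i} : Set T), ∃ d, l c x = r x d) :
    W h χ i = -1 := by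
  classical
  letI := rorbAction h
  rw [W_involution h χ i hi]
  set Fix := (Finset.univ : Finset (ROrb h)).filter (fun O => i • O = O) with hFix
  rw [← Finset.prod_filter_mul_prod_filter_not Fix (fun O : ROrb h => cc h i O ∈ T₁)]
  have hA : ∏ O ∈ Fix.filter (fun O => cc h i O ∈ T₁), χ (cc h i O) = 1 :=
    Finset.prod_eq_one (fun O hO => hχ1 _ (Finset.mem_filter.1 hO).2)
  have hB : ∏ O ∈ Fix.filter (fun O => ¬ cc h i O ∈ T₁), χ (cc h i O) =
      (-1) ^ (Fix.filter (fun O => ¬ cc h i O ∈ T₁)).card := by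
    rw [Finset.prod_congr rfl (fun O hO => hχ2 _ (Finset.mem_filter.1 hO).2), Finset.prod_const]
  rw [hA, hB, one_mul]
  have hcard := Finset.card_filter_add_card_filter_not (s := Fix)
    (fun O : ROrb h => cc h i O ∈ T₁)
  have hFixodd : Odd Fix.card := by
    have h1 := card_fix_odd h i hi hodd
    rwa [Nat.card_eq_fintype_card, Fintype.card_subtype] at h1
  have hAeven : Even (Fix.filter (fun O => cc h i O ∈ T₁)).card := by
    have h1 := card_good_even h T₁ i hC hkey
    rw [Nat.card_eq_fintype_card, Fintype.card_subtype] at h1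
    have h2 : (Finset.univ : Finset (ROrb h)).filter (fun O => Good h T₁ i O) =
        Fix.filter (fun O => cc h i O ∈ T₁) := by
      ext O
      simp only [Finset.mem_filter, Finset.mem_univ, true_and, hFix]
      exact good_iff h T₁ i O
    rwa [h2] at h1
  have hBodd : Odd (Fix.filter (fun O => ¬ cc h i O ∈ T₁)).card := by
    rcases hAeven with ⟨a, ha⟩
    rcases hFixodd with ⟨b, hb⟩
    refine ⟨b - a, ?_⟩
    omega
  exact hBodd.neg_one_pow

end Thompson

end Cfsg.Agent.Lib.Helper11_BisetSign
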