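import Mathlib.RepresentationTheory.Character
import Mathlib.RepresentationTheory.Irreducible
import Mathlib.Analysis.Complex.Basic
import Mathlib.Analysis.Complex.Polynomial.Basic
import Mathlib.LinearAlgebra.Matrix.PosDef
import Mathlib.Analysis.Complex.Order

/-!
# `χ(g⁻¹) = conj χ(g)` and the Frobenius–Schur indicator

Mathlib-only facts about a finite-dimensional complex representation `ρ` of a finite group:

* `char_inv` : `ρ.character g⁻¹ = star (ρ.character g)` (Weyl's unitarian trick, in trace form);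
* `indicator_eq` : for irreducible `ρ`, the indicator `|G|⁻¹ ∑ g, χ (g * g)` equals `ε * d` with
  `ε = ± 1`, `d ∈ {0, 1}` and `d = |G|⁻¹ ∑ g, χ g * χ g`;
* `indicator_trichotomy`, `indicator_eq_zero_iff` : the statement of the Frobenius–Schur theorem.
-/

set_option autoImplicit false

namespace Cfsg.Agent.Lib.Helper79_FrobSchur

open Representation Matrix

open scoped ComplexOrder in
/-- Weyl's unitarian trick, in trace form: for a matrix representation of a finite group,
the trace of the inverse is the conjugate of the trace. -/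
lemma matrix_trace_inv {n : Type*} [Fintype n] [DecidableEq n] {G : Type*} [Group G] [Fintype G]
    (A : G →* Matrix n n ℂ) (g : G) : (A g⁻¹).trace = star (A g).trace := by
  set P : Matrix n n ℂ := ∑ h : G, (A h)ᴴ * A h with hPdef
  have hunit : ∀ h : G, IsUnit (A h) := fun h =>
    ⟨⟨A h, A h⁻¹, by rw [← map_mul, mul_inv_cancel, map_one],
      by rw [← map_mul, inv_mul_cancel, map_one]⟩, rfl⟩
  have hP : P.PosDef := by
    refine Matrix.posDef_sum Finset.univ_nonempty (fun h _ => ?_)
    exact Matrix.PosDef.conjTranspose_mul_self (A h) (Matrix.mulVec_injective_iff_isUnit.2 (hunit h))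
  have hinv : (A g)ᴴ * P * A g = P := by
    rw [hPdef, Finset.mul_sum, Finset.sum_mul]
    refine Fintype.sum_equiv (Equiv.mulRight g) _ _ (fun h => ?_)
    simp only [Equiv.coe_mulRight, map_mul, conjTranspose_mul]
    simp only [Matrix.mul_assoc]
  have hPu : IsUnit P := hP.isUnit
  have hdet : IsUnit P.det := (Matrix.isUnit_iff_isUnit_det P).1 hPu
  have h1 : (A g)ᴴ * P = P * A g⁻¹ := by
    have := congrArg (fun M => M * A g⁻¹) hinv
    beta_reduce at this
    rw [Matrix.mul_assoc, ← map_mul, mul_inv_cancel, map_one, Matrix.mul_one] at this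
    exact this
  have h2 : (A g)ᴴ = P * A g⁻¹ * P⁻¹ := by
    rw [← h1, Matrix.mul_assoc, Matrix.mul_nonsing_inv P hdet, Matrix.mul_one]
  rw [← Matrix.trace_conjTranspose, h2, Matrix.trace_mul_comm, ← Matrix.mul_assoc,
    Matrix.nonsing_inv_mul P hdet, Matrix.one_mul]

open Representation Matrix

/-- For a finite group, `χ(g⁻¹)` is the complex conjugate of `χ(g)`. -/
theorem char_inv {G : Type*} [Group G] [Fintype G] {V : Type*} [AddCommGroup V] [Module ℂ V]
    [FiniteDimensional ℂ V] (ρ : Representation ℂ G V) (g : G) :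
    ρ.character g⁻¹ = star (ρ.character g) := by
  classical
  let b := Module.finBasis ℂ V
  let A : G →* Matrix (Fin (Module.finrank ℂ V)) (Fin (Module.finrank ℂ V)) ℂ :=
    ((LinearMap.toMatrixAlgEquiv b : (V →ₗ[ℂ] V) ≃ₐ[ℂ] _) : (V →ₗ[ℂ] V) →* _).comp ρ
  have hA : ∀ h : G, ρ.character h = (A h).trace := fun h => by
    rw [Representation.character, LinearMap.trace_eq_matrix_trace ℂ b]
    rfl
  rw [hA, hA, matrix_trace_inv A g]


open Representation

section

variable {G : Type*} [Group G] {V : Type*} [AddCommGroup V] [Module ℂ V]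
  (ρ : Representation ℂ G V)

lemma form_invariant (f : IntertwiningMap ρ ρ.dual) (g : G) (v w : V) :
    f (ρ g v) w = f v (ρ g⁻¹ w) := by
  have h := IntertwiningMap.isIntertwining _ _ f g v
  rw [h]
  rfl

/-- Transpose of an invariant bilinear form, as an intertwining map `ρ → ρ.dual`. -/
def flipI (f : IntertwiningMap ρ ρ.dual) : IntertwiningMap ρ ρ.dual where
  toLinearMap := f.toLinearMap.flip
  isIntertwining' g := by
    ext v w
    have h := form_invariant ρ f g⁻¹ w v
    rw [inv_inv] at h
    exact h.symm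

@[simp] lemma flipI_apply (f : IntertwiningMap ρ ρ.dual) (v w : V) : flipI ρ f v w = f w v := rfl

lemma flipI_flipI (f : IntertwiningMap ρ ρ.dual) : flipI ρ (flipI ρ f) = f := by
  ext v w; rfl

lemma flipI_smul (c : ℂ) (f : IntertwiningMap ρ ρ.dual) : flipI ρ (c • f) = c • flipI ρ f := by
  ext v w; rfl

/-- The averaged rank-one form `(v, w) ↦ ∑ g, φ (ρ g v) * ψ (ρ g w)`. -/
noncomputable def avgForm [Fintype G] (φ ψ : Module.Dual ℂ V) : IntertwiningMap ρ ρ.dual where
  toLinearMap := ∑ g : G, (φ ∘ₗ ρ g).smulRight (ψ ∘ₗ ρ g)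
  isIntertwining' h := by
    ext v w
    simp only [LinearMap.coe_comp, Function.comp_apply, LinearMap.coe_sum, Finset.sum_apply,
      LinearMap.smulRight_apply, LinearMap.smul_apply, smul_eq_mul, Representation.dual_apply,
      Module.Dual.transpose_apply]
    refine Fintype.sum_equiv (Equiv.mulRight h) _ _ (fun g => ?_)
    simp

lemma avgForm_apply [Fintype G] (φ ψ : Module.Dual ℂ V) (v w : V) :
    avgForm ρ φ ψ v w = ∑ g : G, φ (ρ g v) * ψ (ρ g w) := by
  change (∑ g : G, (φ ∘ₗ ρ g).smulRight (ψ ∘ₗ ρ g)) v w = _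
  simp [LinearMap.sum_apply]

section trace

variable [Fintype G] [FiniteDimensional ℂ V]

omit [FiniteDimensional ℂ V] in
lemma sum_char_sq {ι : Type*} [Fintype ι] [DecidableEq ι] (b : Module.Basis ι ℂ V) :
    ∑ g : G, ρ.character g * ρ.character g =
      ∑ i, ∑ j, avgForm ρ (b.coord i) (b.coord j) (b i) (b j) := by
  simp only [avgForm_apply]
  rw [Finset.sum_comm]
  simp_rw [Finset.sum_comm (s := (Finset.univ : Finset ι)) (t := (Finset.univ : Finset G))]
  refine Finset.sum_congr rfl (fun g _ => ?_)
  rw [Representation.character, LinearMap.trace_eq_matrix_trace ℂ b, Matrix.trace,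
    Finset.sum_mul_sum]
  simp only [Matrix.diag_apply, LinearMap.toMatrix_apply, Module.Basis.coord_apply]
  exact Finset.sum_congr rfl fun _ _ => Finset.sum_congr rfl fun _ _ => mul_comm _ _

omit [FiniteDimensional ℂ V] in
lemma sum_char_mul_self {ι : Type*} [Fintype ι] [DecidableEq ι] (b : Module.Basis ι ℂ V) :
    ∑ g : G, ρ.character (g * g) =
      ∑ i, ∑ j, avgForm ρ (b.coord i) (b.coord j) (b j) (b i) := by
  simp only [avgForm_apply]
  rw [Finset.sum_comm]
  simp_rw [Finset.sum_comm (s := (Finset.univ : Finset ι)) (t := (Finset.univ : Finset G))]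
  refine Finset.sum_congr rfl (fun g _ => ?_)
  rw [Representation.character, LinearMap.trace_eq_matrix_trace ℂ b, map_mul,
    LinearMap.toMatrix_mul, Matrix.trace]
  simp only [Matrix.diag_apply, Matrix.mul_apply, LinearMap.toMatrix_apply, Module.Basis.coord_apply]
  exact Finset.sum_congr rfl fun _ _ => Finset.sum_congr rfl fun _ _ => mul_comm _ _

end trace

section schur

variable [FiniteDimensional ℂ V] [ρ.IsIrreducible]

/-- Schur: any two invariant forms are proportional. -/
lemma exists_smul_of_ne_zero (f h : IntertwiningMap ρ ρ.dual) (hf : f ≠ 0) :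
    ∃ c : ℂ, h = c • f := by
  have hinj : Function.Injective f :=
    (IsIrreducible.injective_or_eq_zero f).resolve_right hf
  have hbij : Function.Bijective f := by
    refine ⟨hinj, ?_⟩
    have := (LinearMap.injective_iff_surjective_of_finrank_eq_finrank
      (f := f.toLinearMap) (Subspace.dual_finrank_eq (K := ℂ) (V := V)).symm).1 hinj
    exact this
  let e : Equiv ρ ρ.dual := f.ofBijective hbij
  obtain ⟨c, hc⟩ :=
    (IsIrreducible.algebraMap_intertwiningMap_bijective_of_isAlgClosed (ρ := ρ)).2
      (e.symm.toIntertwiningMap.comp h)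
  refine ⟨c, ?_⟩
  ext v w
  have h1 := congrArg (fun F : IntertwiningMap ρ ρ => F v) hc
  simp only [IntertwiningMap.algebraMap_apply] at h1
  have h2 : e.symm (h v) = c • v := by
    simpa using h1.symm
  have h3 : h v = e (c • v) := by
    rw [← h2]; simp
  change (h v) w = ((c • f) v) w
  rw [h3]
  simp [e]

/-- All invariant forms have the same symmetry sign. -/
lemma exists_sign : ∃ ε : ℂ, (ε = 1 ∨ ε = -1) ∧
    ∀ f : IntertwiningMap ρ ρ.dual, flipI ρ f = ε • f := by
  by_cases hall : ∀ f : IntertwiningMap ρ ρ.dual, f = 0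
  · refine ⟨1, Or.inl rfl, fun f => ?_⟩
    rw [hall f, hall (flipI ρ 0)]; simp
  · obtain ⟨f₀, hf₀⟩ := not_forall.1 hall
    obtain ⟨ε, hε⟩ := exists_smul_of_ne_zero ρ f₀ (flipI ρ f₀) hf₀
    have hsq : ε * ε = 1 := by
      have h1 : flipI ρ (flipI ρ f₀) = (ε * ε) • f₀ := by
        rw [hε, flipI_smul, hε, smul_smul]
      rw [flipI_flipI] at h1
      by_contra hne
      apply hf₀
      ext v w
      have h2 := congrArg (fun F : IntertwiningMap ρ ρ.dual => F v w) h1
      have h3 : f₀ v w = (ε * ε) * f₀ v w := h2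
      have h4 : (ε * ε - 1) * f₀ v w = 0 := by linear_combination -h3
      rcases mul_eq_zero.1 h4 with h5 | h5
      · exact absurd (sub_eq_zero.1 h5) hne
      · exact h5
    refine ⟨ε, ?_, fun f => ?_⟩
    · have : (ε - 1) * (ε + 1) = 0 := by ring_nf; rw [sq, hsq]; ring
      rcases mul_eq_zero.1 this with h | h
      · left; exact sub_eq_zero.1 h
      · right; exact eq_neg_of_add_eq_zero_left h
    · obtain ⟨c, rfl⟩ := exists_smul_of_ne_zero ρ f₀ f hf₀
      rw [flipI_smul, hε, smul_comm]

lemma finrank_forms_le_one : Module.finrank ℂ (IntertwiningMap ρ ρ.dual) ≤ 1 := by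
  by_cases hall : ∀ f : IntertwiningMap ρ ρ.dual, f = 0
  · have : Subsingleton (IntertwiningMap ρ ρ.dual) :=
      ⟨fun a b => by rw [hall a, hall b]⟩
    rw [Module.finrank_zero_of_subsingleton]; exact Nat.zero_le _
  · obtain ⟨f₀, hf₀⟩ := not_forall.1 hall
    refine finrank_le_one f₀ (fun f => ?_)
    obtain ⟨c, hc⟩ := exists_smul_of_ne_zero ρ f₀ f hf₀
    exact ⟨c, hc.symm⟩

variable [Fintype G]

/-- The key identity: `∑ g, χ (g * g) = ε * ∑ g, χ g * χ g` with `ε = ± 1`. -/
theorem exists_sign_sum : ∃ ε : ℂ, (ε = 1 ∨ ε = -1) ∧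
    ∑ g : G, ρ.character (g * g) = ε * ∑ g : G, ρ.character g * ρ.character g := by
  obtain ⟨ε, hε, hflip⟩ := exists_sign ρ
  refine ⟨ε, hε, ?_⟩
  classical
  let b := Module.finBasis ℂ V
  rw [sum_char_mul_self ρ b, sum_char_sq ρ b, Finset.mul_sum]
  refine Finset.sum_congr rfl (fun i _ => ?_)
  rw [Finset.mul_sum]
  refine Finset.sum_congr rfl (fun j _ => ?_)
  have := hflip (avgForm ρ (b.coord i) (b.coord j))
  have h2 := congrArg (fun F : IntertwiningMap ρ ρ.dual => F (b i) (b j)) this
  simpa using h2

omit [ρ.IsIrreducible] in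
lemma card_inv_mul_sum_char_sq :
    (Nat.card G : ℂ)⁻¹ * ∑ g : G, ρ.character g * ρ.character g =
      (Module.finrank ℂ (IntertwiningMap ρ ρ.dual) : ℂ) := by
  have hne : (Nat.card G : ℂ) ≠ 0 := by
    exact_mod_cast Nat.card_pos.ne'
  have : Invertible (Nat.card G : ℂ) := invertibleOfNonzero hne
  rw [← card_inv_mul_sum_char_mul_char_eq_finrank ρ ρ.dual]
  congr 1
  refine Fintype.sum_equiv (Equiv.inv G) _ _ (fun g => ?_)
  simp

/-- The indicator is `ε * d` with `ε = ± 1` and `d ∈ {0, 1}`. -/
theorem indicator_eq : ∃ (ε : ℂ) (d : ℕ), (ε = 1 ∨ ε = -1) ∧ d ≤ 1 ∧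
    (Nat.card G : ℂ)⁻¹ * ∑ g : G, ρ.character g * ρ.character g = d ∧
    (Nat.card G : ℂ)⁻¹ * ∑ g : G, ρ.character (g * g) = ε * d := by
  obtain ⟨ε, hε, hsum⟩ := exists_sign_sum ρ
  refine ⟨ε, Module.finrank ℂ (IntertwiningMap ρ ρ.dual), hε, finrank_forms_le_one ρ,
    card_inv_mul_sum_char_sq ρ, ?_⟩
  rw [hsum, ← card_inv_mul_sum_char_sq ρ]
  ring

end schur

end


section final

variable {G : Type*} [Group G] [Fintype G] {V : Type*} [AddCommGroup V] [Module ℂ V]
  [FiniteDimensional ℂ V] (ρ : Representation ℂ G V) [ρ.IsIrreducible]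

/-- A nonzero invariant form forces the character to be real valued. -/
lemma im_char_eq_zero_of_form (f : IntertwiningMap ρ ρ.dual) (hf : f ≠ 0) (s : G) :
    (ρ.character s).im = 0 := by
  have hinj : Function.Injective f :=
    (IsIrreducible.injective_or_eq_zero f).resolve_right hf
  have hbij : Function.Bijective f := by
    refine ⟨hinj, ?_⟩
    exact (LinearMap.injective_iff_surjective_of_finrank_eq_finrank
      (f := f.toLinearMap) (Subspace.dual_finrank_eq (K := ℂ) (V := V)).symm).1 hinj
  have e : Equiv ρ ρ.dual := f.ofBijective hbij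
  have h1 : ρ.character s = ρ.dual.character s := by rw [char_iso e]
  rw [char_dual, char_inv] at h1
  have h2 := congrArg Complex.im h1
  simp only [Complex.star_def, Complex.conj_im] at h2
  linarith

theorem indicator_trichotomy :
    (Nat.card G : ℂ)⁻¹ * ∑ s : G, ρ.character (s * s) = 0 ∨
    (Nat.card G : ℂ)⁻¹ * ∑ s : G, ρ.character (s * s) = 1 ∨
    (Nat.card G : ℂ)⁻¹ * ∑ s : G, ρ.character (s * s) = -1 := by
  obtain ⟨ε, d, hε, hd, -, hν⟩ := indicator_eq ρ
  rw [hν]
  interval_cases d
  · left; simp
  · rcases hε with rfl | rfl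
    · right; left; simp
    · right; right; simp

theorem indicator_eq_zero_iff :
    (Nat.card G : ℂ)⁻¹ * ∑ s : G, ρ.character (s * s) = 0 ↔ ∃ s : G, (ρ.character s).im ≠ 0 := by
  obtain ⟨ε, d, hε, hd, hsq, hν⟩ := indicator_eq ρ
  have hεne : ε ≠ 0 := by rcases hε with rfl | rfl <;> norm_num
  rw [hν]
  constructor
  · intro h0
    have hd0 : d = 0 := by
      rcases mul_eq_zero.1 h0 with h | h
      · exact absurd h hεne
      · exact_mod_cast h
    by_contra hcon
    push Not at hcon
    -- all values real: the sum of squares is positive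
    have hcard : (Nat.card G : ℂ) ≠ 0 := by exact_mod_cast Nat.card_pos.ne'
    rw [hd0, Nat.cast_zero] at hsq
    have hsum0 : ∑ g : G, ρ.character g * ρ.character g = 0 := by
      rcases mul_eq_zero.1 hsq with h | h
      · exact absurd (inv_eq_zero.1 h) hcard
      · simpa using h
    have hre : ∀ g : G, ρ.character g * ρ.character g = (((ρ.character g).re ^ 2 : ℝ) : ℂ) := by
      intro g
      have hz : ρ.character g = ((ρ.character g).re : ℂ) :=
        Complex.ext (by simp) (by simp [hcon g])
      rw [hz]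
      push_cast
      simp [sq]
    have h2 : (∑ g : G, ((ρ.character g).re ^ 2 : ℝ)) = 0 := by
      have := congrArg Complex.re hsum0
      simp only [hre] at this
      rw [← Complex.ofReal_sum, Complex.ofReal_re] at this
      simpa using this
    have h3 := (Finset.sum_eq_zero_iff_of_nonneg (fun g _ => sq_nonneg _)).1 h2 1 (Finset.mem_univ _)
    have h4 : (ρ.character 1).re = 0 := by simpa using h3
    rw [Representation.char_one] at h4
    simp only [Complex.natCast_re] at h4
    have hpos : 0 < Module.finrank ℂ V := by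
      have : Nontrivial V := by
        by_contra hV
        rw [not_nontrivial_iff_subsingleton] at hV
        have h1 : (⊥ : Subrepresentation ρ) ≠ ⊤ := bot_ne_top
        apply h1
        ext v
        simp [Subsingleton.elim v 0]
      exact Module.finrank_pos
    have : (Module.finrank ℂ V : ℝ) ≠ 0 := by exact_mod_cast hpos.ne'
    exact this h4
  · rintro ⟨s, hs⟩
    have hd0 : d = 0 := by
      by_contra hne
      have hd1 : d = 1 := by omega
      have hfr : Module.finrank ℂ (IntertwiningMap ρ ρ.dual) = 1 := by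
        have := (card_inv_mul_sum_char_sq ρ).symm.trans hsq
        rw [hd1] at this
        exact_mod_cast this
      have : ∃ f : IntertwiningMap ρ ρ.dual, f ≠ 0 := by
        by_contra hall
        push Not at hall
        have : Subsingleton (IntertwiningMap ρ ρ.dual) :=
          ⟨fun a b => by rw [hall a, hall b]⟩
        rw [Module.finrank_zero_of_subsingleton] at hfr
        exact absurd hfr (by norm_num)
      obtain ⟨f, hf⟩ := this
      exact hs (im_char_eq_zero_of_form ρ f hf s)
    rw [hd0]; simp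

end final

end Cfsg.Agent.Lib.Helper79_FrobSchur
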