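/-
helper11: package FSEVEN of helper1's S3716 market (d8_packages): fixed spaces of a character of
quaternionic type (Frobenius–Schur indicator `-1`) have even dimension.
-/
import Mathlib
import Cfsg.Agent.Lib.Helper1_D8Defs
import Cfsg.Agent.Lib.Helper79_FrobSchur
set_option autoImplicit false
namespace Cfsg.Agent.Lib.Helper11_D8_FSEVEN
open Cfsg Cfsg.Agent.Lib.Helper80_CharBasic Cfsg.Agent.Lib.Helper1_D8Defs
open Representation Cfsg.Agent.Lib.Helper79_FrobSchur

section gen

variable {G : Type*} [Group G] [Fintype G] {V : Type*} [AddCommGroup V] [Module ℂ V]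
  [FiniteDimensional ℂ V] (ρ : Representation ℂ G V) [ρ.IsIrreducible]

/-- a nonzero invariant form is nondegenerate on the fixed space of any subgroup -/
theorem nondeg_invariants (f : IntertwiningMap ρ ρ.dual) (hf : f ≠ 0) (H : Subgroup G)
    (w : V) (hw : w ∈ Representation.invariants (ρ.comp H.subtype))
    (h0 : ∀ w' ∈ Representation.invariants (ρ.comp H.subtype), f w w' = 0) : w = 0 := by
  classical
  have hinj : Function.Injective f :=
    (IsIrreducible.injective_or_eq_zero f).resolve_right hf
  by_contra hne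
  have hfw : f w ≠ 0 := fun h => hne (hinj (h.trans (map_zero f).symm))
  obtain ⟨u, hu⟩ : ∃ u, f w u ≠ 0 := by
    by_contra hall
    push Not at hall
    exact hfw (LinearMap.ext hall)
  have hcard : (Nat.card H : ℂ) ≠ 0 := by exact_mod_cast Nat.card_pos.ne'
  set ubar : V := (Nat.card H : ℂ)⁻¹ • ∑ x : H, ρ (x : G) u with hubar
  have hmem : ubar ∈ Representation.invariants (ρ.comp H.subtype) := by
    rw [Representation.mem_invariants]
    intro y
    show ρ (y : G) ubar = ubar
    rw [hubar, map_smul, map_sum]
    congr 1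
    refine Fintype.sum_equiv (Equiv.mulLeft y) _ _ (fun x => ?_)
    show ρ (y : G) (ρ (x : G) u) = ρ ((y * x : H) : G) u
    rw [Subgroup.coe_mul, map_mul]
    rfl
  have hval : f w ubar = f w u := by
    rw [hubar, map_smul, map_sum]
    have : ∀ x : H, f w (ρ (x : G) u) = f w u := by
      intro x
      have h1 := form_invariant ρ f (x : G)⁻¹ w u
      rw [inv_inv] at h1
      rw [← h1]
      have h2 : ρ ((x : G)⁻¹) w = w := by
        have := (Representation.mem_invariants _ _).mp hw x⁻¹
        exact this
      rw [h2]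
    rw [Finset.sum_congr rfl (fun x _ => this x), Finset.sum_const, Finset.card_univ,
      ← Nat.card_eq_fintype_card, nsmul_eq_mul, smul_eq_mul, ← mul_assoc, inv_mul_cancel₀ hcard,
      one_mul]
  exact hu (hval ▸ h0 ubar hmem)

/-- an alternating nonzero invariant form forces the fixed spaces to have even dimension -/
theorem even_finrank_invariants (f : IntertwiningMap ρ ρ.dual) (hf : f ≠ 0)
    (hflip : flipI ρ f = (-1 : ℂ) • f) (H : Subgroup G) :
    Even (Module.finrank ℂ (Representation.invariants (ρ.comp H.subtype))) := by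
  classical
  set W := Representation.invariants (ρ.comp H.subtype) with hW
  set n := Module.finrank ℂ W with hn
  let b : Module.Basis (Fin n) ℂ W := Module.finBasis ℂ W
  let A : Matrix (Fin n) (Fin n) ℂ := Matrix.of fun i j => f (b i : V) (b j : V)
  have hAT : A.transpose = -A := by
    ext i j
    show f (b j : V) (b i : V) = -(f (b i : V) (b j : V))
    have h1 := congrArg (fun F : IntertwiningMap ρ ρ.dual => F (b i : V) (b j : V)) hflip
    simp only [flipI_apply] at h1
    rw [h1]
    show ((-1 : ℂ) • f) (b i : V) (b j : V) = _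
    simp
  have hdet : A.det ≠ 0 := by
    intro h0
    obtain ⟨c, hc, hcA⟩ := Matrix.exists_vecMul_eq_zero_iff.mpr h0
    set w : W := ∑ i, c i • b i with hw
    have hw0 : w ≠ 0 := by
      intro h
      apply hc
      have := (Fintype.linearIndependent_iff.mp b.linearIndependent) c (by rw [← hw]; exact h)
      exact funext this
    have hz : ∀ j, f (w : V) (b j : V) = 0 := by
      intro j
      have h1 := congrFun hcA j
      simp only [Matrix.vecMul, dotProduct, Pi.zero_apply] at h1
      rw [hw, Submodule.coe_sum, map_sum, LinearMap.sum_apply]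
      rw [← h1]
      refine Finset.sum_congr rfl (fun i _ => ?_)
      rw [Submodule.coe_smul, map_smul, LinearMap.smul_apply, smul_eq_mul]
      rfl
    have hall : ∀ w' ∈ W, f (w : V) w' = 0 := by
      intro w' hw'
      have hrep := b.sum_repr ⟨w', hw'⟩
      have hcoe : w' = ∑ j, (b.repr ⟨w', hw'⟩ j) • (b j : V) := by
        have := congrArg (fun x : W => (x : V)) hrep
        simp only [Submodule.coe_sum, Submodule.coe_smul] at this
        exact this.symm
      rw [hcoe, map_sum]
      refine Finset.sum_eq_zero (fun j _ => ?_)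
      rw [map_smul, hz j, smul_zero]
    have := nondeg_invariants ρ f hf H (w : V) w.2 hall
    exact hw0 (Subtype.ext this)
  have h1 : A.det = (-1) ^ n * A.det := by
    conv_lhs => rw [← Matrix.det_transpose, hAT, Matrix.det_neg, Fintype.card_fin]
  rcases Nat.even_or_odd n with he | ho
  · exact he
  · exfalso
    rw [ho.neg_one_pow] at h1
    apply hdet
    linear_combination (1 / 2 : ℂ) * h1

end gen

section grp
variable {G : Type*} [Group G] [Finite G]

/-! ### FSEVEN (general): fixed spaces of a character of quaternionic type have even dimension -/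
theorem even_fixed (χ : IrrCharacter G)
    (hν : ∑ᶠ g : G, (χ : G → ℂ) (g * g) = -(Nat.card G : ℂ)) (H : Subgroup G) :
    ∃ k : ℤ, ∑ᶠ x : H, (χ : G → ℂ) x = 2 * k * (Nat.card H : ℂ) := by
  classical
  have : Fintype G := Fintype.ofFinite G
  obtain ⟨n, ρ, hirr, hχ⟩ := χ.2
  have := hirr
  rw [finsum_eq_sum_of_fintype] at hν ⊢
  obtain ⟨ε, hε, hflip⟩ := exists_sign ρ
  have hsum : ∑ g : G, ρ.character (g * g) = ε * ∑ g : G, ρ.character g * ρ.character g := by
    let b := Module.finBasis ℂ (Fin n → ℂ)
    rw [sum_char_mul_self ρ b, sum_char_sq ρ b, Finset.mul_sum]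
    refine Finset.sum_congr rfl (fun i _ => ?_)
    rw [Finset.mul_sum]
    refine Finset.sum_congr rfl (fun j _ => ?_)
    have := hflip (avgForm ρ (b.coord i) (b.coord j))
    have h2 := congrArg (fun F : IntertwiningMap ρ ρ.dual => F (b i) (b j)) this
    simpa using h2
  have hd := card_inv_mul_sum_char_sq ρ
  have hle := finrank_forms_le_one ρ
  have hcardG : (Nat.card G : ℂ) ≠ 0 := by exact_mod_cast Nat.card_pos.ne'
  have hsq : ∑ g : G, ρ.character g * ρ.character g =
      (Nat.card G : ℂ) * (Module.finrank ℂ (IntertwiningMap ρ ρ.dual) : ℂ) := by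
    rw [← hd, ← mul_assoc, mul_inv_cancel₀ hcardG, one_mul]
  have hν' : ∑ g : G, ρ.character (g * g) = -(Nat.card G : ℂ) := by
    rw [hχ]; exact hν
  rw [hsum, hsq] at hν'
  have hεd : ε * (Module.finrank ℂ (IntertwiningMap ρ ρ.dual) : ℂ) = -1 := by
    have : (Nat.card G : ℂ) * (ε * (Module.finrank ℂ (IntertwiningMap ρ ρ.dual) : ℂ)) =
        (Nat.card G : ℂ) * (-1) := by linear_combination hν'
    exact mul_left_cancel₀ hcardG this
  have hd1 : Module.finrank ℂ (IntertwiningMap ρ ρ.dual) = 1 := by
    rcases Nat.le_one_iff_eq_zero_or_eq_one.mp hle with h0 | h1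
    · rw [h0] at hεd
      norm_num at hεd
    · exact h1
  have hε1 : ε = -1 := by
    rw [hd1] at hεd
    simpa using hεd
  obtain ⟨f, hf⟩ : ∃ f : IntertwiningMap ρ ρ.dual, f ≠ 0 := by
    by_contra hall
    push Not at hall
    have : Subsingleton (IntertwiningMap ρ ρ.dual) :=
      ⟨fun a b => by rw [hall a, hall b]⟩
    rw [Module.finrank_zero_of_subsingleton] at hd1
    exact absurd hd1 (by norm_num)
  have heven := even_finrank_invariants ρ f hf (hε1 ▸ hflip f) H
  obtain ⟨k, hk⟩ := heven
  refine ⟨(k : ℤ), ?_⟩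
  have hcardH : (Nat.card H : ℂ) ≠ 0 := by exact_mod_cast Nat.card_pos.ne'
  have : Invertible (Nat.card H : ℂ) := invertibleOfNonzero hcardH
  have hav := Representation.card_inv_mul_sum_char_eq_finrank (ρ.comp H.subtype)
  have hsumH : ∑ x : H, (χ : G → ℂ) x =
      ∑ x : H, Representation.character (ρ.comp H.subtype) x := by
    refine Finset.sum_congr rfl (fun x _ => ?_)
    rw [← hχ]
    rfl
  rw [hsumH]
  have : ∑ x : H, Representation.character (ρ.comp H.subtype) x =
      (Nat.card H : ℂ) * (Module.finrank ℂ (Representation.invariants (ρ.comp H.subtype)) : ℂ) := by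
    rw [← hav, ← mul_assoc, mul_inv_cancel₀ hcardH, one_mul]
  rw [this, hk]
  push_cast
  ring

end grp

end Cfsg.Agent.Lib.Helper11_D8_FSEVEN
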