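/-
helper11: package SHAPE1 (core, independent of EXPL) of helper1's S3716 market (d8_packages): shape 1 is impossible.
-/
import Mathlib
import Cfsg.Agent.Lib.Helper1_D8Defs
set_option autoImplicit false
namespace Cfsg.Agent.Lib.Helper11_D8_SHAPE1aux
open Cfsg Cfsg.Agent.Lib.Helper1_D8Defs

theorem hR1 : ∀ k, ∃ j, R1 k j = 1 ∨ R1 k j = -1 := by decide

theorem rows1 : ∀ k k' : Fin 7, k' ≠ k → k ≠ 1 → k ≠ 2 → ∃ j, (R1 k' j) ^ 2 ≠ (R1 k j) ^ 2 := by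
  decide

theorem nu_one {ν' ε : Fin 7 → ℤ} (hε : ∀ k, ε k = 1 ∨ ε k = -1) (hν : ∀ k, ν' k = 0 ∨ ν' k = 1)
    (hν0 : ∀ k, ν' k = 0 → ∃ k', k' ≠ k ∧ (∀ j, ε k' * R1 k' j = ε k * R1 k j) ∧ ν' k' = 0)
    (k : Fin 7) (h1 : k ≠ 1) (h2 : k ≠ 2) : ν' k = 1 := by
  rcases hν k with h | h
  · exfalso
    obtain ⟨k', hk', hrow, -⟩ := hν0 k h
    obtain ⟨j, hj⟩ := rows1 k k' hk' h1 h2
    apply hj
    have e1 : (ε k') ^ 2 = 1 := by rcases hε k' with h | h <;> rw [h] <;> norm_num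
    have e2 : (ε k) ^ 2 = 1 := by rcases hε k with h | h <;> rw [h] <;> norm_num
    have := congrArg (fun x => x ^ 2) (hrow j)
    simp only [mul_pow, e1, e2, one_mul] at this
    exact this
  · exact h

/-- `1/d₁ - 1/d₂ + 1/d₄ = 0` is impossible for `d₁ ≤ d₂` -/
theorem arA (d1 d2 d4 : ℚ) (h1 : 0 < d1) (h2 : 0 < d2) (h4 : 0 < d4) (hle : d1 ≤ d2)
    (he : 1 / d1 - 1 / d2 + 1 / d4 = 0) : False := by
  have h12 : 1 / d2 ≤ 1 / d1 := one_div_le_one_div_of_le h1 hle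
  have h4' : 0 < 1 / d4 := one_div_pos.mpr h4
  linarith

/-- `1/d₁ + 1/d₂ = 1/d₄` forces `4 d₄ ≤ d₁ + d₂` -/
theorem arB (d1 d2 d4 : ℚ) (h1 : 0 < d1) (h2 : 0 < d2) (h4 : 0 < d4)
    (he : -(1 / d1) - 1 / d2 + 1 / d4 = 0) : 4 * d4 ≤ d1 + d2 := by
  have hne1 : d1 ≠ 0 := ne_of_gt h1
  have hne2 : d2 ≠ 0 := ne_of_gt h2
  have hne4 : d4 ≠ 0 := ne_of_gt h4
  field_simp at he
  nlinarith [sq_nonneg (d1 - d2), mul_pos h1 h2, mul_pos h1 h4, mul_pos h2 h4]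

/-- the arithmetic core of `shape1`: the conclusion of `expl` for the shape `R1` is contradictory -/
theorem shape1_core {I : Type*} {d : I → ℕ} {ν : I → ℤ} {h : ℕ} (chmod : h % 9 = 1) (chne : h ≠ 1)
    (idx : Fin 7 → I) (ε : Fin 7 → ℤ) (hε : ∀ k, ε k = 1 ∨ ε k = -1)
    (hex : (∀ j, (![1, 0, 1, 0] : Fin 4 → ℤ) j + ∑ k, (ε k * (d (idx k) : ℤ)) * R1 k j = 0) ∧
    ((h : ℚ) * (1 + ∑ k, ((pv (R1 k) : ℚ) ^ 2 * (qv (R1 k) : ℚ)) / ((ε k : ℚ) * (d (idx k) : ℚ))) = 9) ∧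
    ((h : ℚ) * (1 + ∑ k, ((pv (R1 k) : ℚ) * (qv (R1 k) : ℚ) ^ 2) / ((ε k : ℚ) * (d (idx k) : ℚ))) = 9) ∧
    (1 + ∑ k, d (idx k) ^ 2 ≤ 72 * h) ∧
    (∀ j, (![1, 0, 1, 0] : Fin 4 → ℤ) j + ∑ k, ν (idx k) * ε k * R1 k j = 2) ∧
    (∀ k, (9 : ℤ) ∣ ε k * (d (idx k) : ℤ) + 4 * pv (R1 k) + 4 * qv (R1 k)) ∧
    (∀ k, 0 < d (idx k)) ∧ (∀ k, d (idx k) ≠ 1) ∧
    (∀ k, ν (idx k) = 0 ∨ ν (idx k) = 1) ∧
    (∀ k, ν (idx k) = 0 → ∃ k', k' ≠ k ∧ (∀ j, ε k' * R1 k' j = ε k * R1 k j) ∧ ν (idx k') = 0)) :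
    False := by
  obtain ⟨hcol, he1, he2, -, hfs, -, hpos, -, hν01, hν0⟩ := hex
  have n0 := nu_one hε hν01 hν0 0 (by decide) (by decide)
  have n3 := nu_one hε hν01 hν0 3 (by decide) (by decide)
  have n4 := nu_one hε hν01 hν0 4 (by decide) (by decide)
  have n5 := nu_one hε hν01 hν0 5 (by decide) (by decide)
  have n6 := nu_one hε hν01 hν0 6 (by decide) (by decide)
  have f0 := hfs 0
  have f2 := hfs 2
  have f3 := hfs 3
  have c0 := hcol 0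
  have c1 := hcol 1
  have c2 := hcol 2
  have c3 := hcol 3
  simp only [Fin.sum_univ_seven] at f0 f2 f3 c0 c1 c2 c3 he1 he2
  simp [R1, pv, qv, n0, n3, n4, n5, n6] at f0 f2 f3 c0 c1 c2 c3 he1 he2
  have e0 : ε 0 = -1 := by
    have := hε 0; have := hε 3; have := hε 4; have := hε 5; have := hε 6; omega
  have e3 : ε 3 = 1 := by
    have := hε 0; have := hε 3; have := hε 4; have := hε 5; have := hε 6; omega
  have e4 : ε 4 = 1 := by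
    have := hε 0; have := hε 3; have := hε 4; have := hε 5; have := hε 6; omega
  have e5 : ε 5 = -1 := by
    have := hε 0; have := hε 3; have := hε 4; have := hε 5; have := hε 6; omega
  have e6 : ε 6 = 1 := by
    have := hε 0; have := hε 3; have := hε 4; have := hε 5; have := hε 6; omega
  have hh : (0 : ℚ) < (h : ℚ) := by
    have : 0 < h := by have := chmod; omega
    exact_mod_cast this
  have p0 : (0 : ℚ) < (d (idx 0) : ℚ) := by exact_mod_cast hpos 0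
  have p1 : (0 : ℚ) < (d (idx 1) : ℚ) := by exact_mod_cast hpos 1
  have p2 : (0 : ℚ) < (d (idx 2) : ℚ) := by exact_mod_cast hpos 2
  have p3 : (0 : ℚ) < (d (idx 3) : ℚ) := by exact_mod_cast hpos 3
  have p4 : (0 : ℚ) < (d (idx 4) : ℚ) := by exact_mod_cast hpos 4
  have p6 : (0 : ℚ) < (d (idx 6) : ℚ) := by exact_mod_cast hpos 6
  rw [e4, e5, e6] at c0
  rw [e3, e6] at c1
  rw [e0, e3, e6] at c2
  rw [e0, e3, e5, e6] at c3
  have key : (h : ℚ) * (6 / ((ε 1 : ℚ) * (d (idx 1) : ℚ)) + 6 / ((ε 2 : ℚ) * (d (idx 2) : ℚ)) +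
      6 / ((ε 4 : ℚ) * (d (idx 4) : ℚ))) = 0 := by linear_combination he1 - he2
  rw [e4] at key
  have key2 : 6 / ((ε 1 : ℚ) * (d (idx 1) : ℚ)) + 6 / ((ε 2 : ℚ) * (d (idx 2) : ℚ)) +
      6 / (((1 : ℤ) : ℚ) * (d (idx 4) : ℚ)) = 0 := by
    rcases mul_eq_zero.mp key with h0 | h0
    · exact absurd h0 (ne_of_gt hh)
    · exact h0
  have c0q : (1 : ℚ) + ((d (idx 4) : ℚ) - (d (idx 5) : ℚ) + (d (idx 6) : ℚ)) = 0 := by
    have : (1 : ℤ) + ((d (idx 4) : ℤ) - (d (idx 5) : ℤ) + (d (idx 6) : ℤ)) = 0 := by linarith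
    exact_mod_cast this
  have c2q : (1 : ℚ) + (-(d (idx 0) : ℚ) + (d (idx 3) : ℚ) + (d (idx 6) : ℚ)) = 0 := by
    have : (1 : ℤ) + (-(d (idx 0) : ℤ) + (d (idx 3) : ℤ) + (d (idx 6) : ℤ)) = 0 := by linarith
    exact_mod_cast this
  have c3q : (d (idx 0) : ℚ) + (d (idx 3) : ℚ) - (d (idx 5) : ℚ) + (d (idx 6) : ℚ) = 0 := by
    have : (d (idx 0) : ℤ) + (d (idx 3) : ℤ) - (d (idx 5) : ℤ) + (d (idx 6) : ℤ) = 0 := by linarith
    exact_mod_cast this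
  have c1q : (ε 1 : ℚ) * (d (idx 1) : ℚ) + (ε 2 : ℚ) * (d (idx 2) : ℚ) + (d (idx 3) : ℚ) +
      (d (idx 6) : ℚ) = 0 := by
    have : (ε 1 : ℤ) * (d (idx 1) : ℤ) + (ε 2 : ℤ) * (d (idx 2) : ℤ) + (d (idx 3) : ℤ) +
        (d (idx 6) : ℤ) = 0 := by linarith
    exact_mod_cast this
  rcases hε 1 with h1 | h1 <;> rcases hε 2 with h2 | h2 <;> rw [h1, h2] at key2 c1q <;>
    push_cast at key2 c1q
  · -- both signs `+`
    have : 0 < 6 / (1 * (d (idx 1) : ℚ)) + 6 / (1 * (d (idx 2) : ℚ)) + 6 / (1 * (d (idx 4) : ℚ)) := by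
      positivity
    linarith
  · -- `+ -`
    refine arA (d (idx 1)) (d (idx 2)) (d (idx 4)) p1 p2 p4 (by linarith) ?_
    have : 6 * (1 / (d (idx 1) : ℚ) - 1 / (d (idx 2) : ℚ) + 1 / (d (idx 4) : ℚ)) = 0 := by
      rw [← key2]; field_simp; ring
    linarith
  · -- `- +`
    refine arA (d (idx 2)) (d (idx 1)) (d (idx 4)) p2 p1 p4 (by linarith) ?_
    have : 6 * (1 / (d (idx 2) : ℚ) - 1 / (d (idx 1) : ℚ) + 1 / (d (idx 4) : ℚ)) = 0 := by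
      rw [← key2]; field_simp; ring
    linarith
  · -- `- -`
    have hB := arB (d (idx 1)) (d (idx 2)) (d (idx 4)) p1 p2 p4 (by
      have : 6 * (-(1 / (d (idx 1) : ℚ)) - 1 / (d (idx 2) : ℚ) + 1 / (d (idx 4) : ℚ)) = 0 := by
        rw [← key2]; field_simp; ring
      linarith)
    linarith


end Cfsg.Agent.Lib.Helper11_D8_SHAPE1aux
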