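import Mathlib
import Cfsg.Agent.Lib.Helper1_D8Defs

set_option autoImplicit false
set_option linter.unusedSectionVars false
set_option linter.unusedVariables false

/-!
d8 market (helper1, row S3716), package EXPL: the explicit finite form of the data `Core` for a
shape.  (helper16)
-/

namespace Cfsg.Agent.Lib.Helper16_D8_EXPL

open Cfsg Cfsg.Agent.Lib.Helper1_D8Defs

/-- a sum over all indices of a function supported on `o` and the `idx k` -/
theorem sum_shape' {I A : Type*} [Fintype I] [DecidableEq I] [AddCommMonoid A] (o : I) {n : ℕ}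
    (idx : Fin n → I) (hinj : Function.Injective idx) (hno : ∀ k, idx k ≠ o) (F : I → A)
    (hF : ∀ i, i ≠ o → (∀ k, i ≠ idx k) → F i = 0) :
    ∑ i, F i = F o + ∑ k, F (idx k) := by
  have h1 : ∑ i, F i = ∑ i ∈ insert o (Finset.univ.image idx), F i := by
    symm
    apply Finset.sum_subset (Finset.subset_univ _)
    intro i _ hi
    rw [Finset.mem_insert, not_or] at hi
    apply hF i hi.1
    intro k hk
    exact hi.2 (Finset.mem_image.2 ⟨k, Finset.mem_univ k, hk.symm⟩)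
  have h2 : o ∉ Finset.univ.image idx := by
    intro h
    obtain ⟨k, _, hk⟩ := Finset.mem_image.1 h
    exact hno k hk
  rw [h1, Finset.sum_insert h2, Finset.sum_image (fun x _ y _ hxy => hinj hxy)]

lemma pv_smul (ε : ℤ) (R : Fin 4 → ℤ) : pv (fun j => ε * R j) = ε * pv R := by
  unfold pv
  ring

lemma qv_smul (ε : ℤ) (R : Fin 4 → ℤ) : qv (fun j => ε * R j) = ε * qv R := by
  unfold qv
  ring

lemma pv_zero : pv (fun _ => 0) = 0 := by
  unfold pv
  ring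

lemma pv_mo : pv ![1, 0, 1, 0] = 1 := by
  unfold pv
  simp

lemma qv_mo : qv ![1, 0, 1, 0] = 1 := by
  unfold qv
  simp

/-- EXPL with the extra hypothesis `d o = 1`. -/
theorem expl_of {I : Type*} [Fintype I] [DecidableEq I] {o : I} {d : I → ℕ} {m : I → Fin 4 → ℤ}
    {ν : I → ℤ} {h : ℕ} (c : Core I o d m ν h) (hdo : d o = 1) {n : ℕ} (R : Fin n → Fin 4 → ℤ)
    (hR : ∀ k, ∃ j, R k j = 1 ∨ R k j = -1) (idx : Fin n → I) (ε : Fin n → ℤ)
    (hinj : Function.Injective idx) (hno : ∀ k, idx k ≠ o) (hε : ∀ k, ε k = 1 ∨ ε k = -1)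
    (hm : ∀ k j, m (idx k) j = ε k * R k j)
    (hz : ∀ i, i ≠ o → (∀ k, i ≠ idx k) → ∀ j, m i j = 0) :
    (∀ j, (![1, 0, 1, 0] : Fin 4 → ℤ) j + ∑ k, (ε k * (d (idx k) : ℤ)) * R k j = 0) ∧
    ((h : ℚ) * (1 + ∑ k, ((pv (R k) : ℚ) ^ 2 * (qv (R k) : ℚ)) / ((ε k : ℚ) * (d (idx k) : ℚ))) = 9) ∧
    ((h : ℚ) * (1 + ∑ k, ((pv (R k) : ℚ) * (qv (R k) : ℚ) ^ 2) / ((ε k : ℚ) * (d (idx k) : ℚ))) = 9) ∧
    (1 + ∑ k, d (idx k) ^ 2 ≤ 72 * h) ∧
    (∀ j, (![1, 0, 1, 0] : Fin 4 → ℤ) j + ∑ k, ν (idx k) * ε k * R k j = 2) ∧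
    (∀ k, (9 : ℤ) ∣ ε k * (d (idx k) : ℤ) + 4 * pv (R k) + 4 * qv (R k)) ∧
    (∀ k, 0 < d (idx k)) ∧ (∀ k, d (idx k) ≠ 1) ∧
    (∀ k, ν (idx k) = 0 ∨ ν (idx k) = 1) ∧
    (∀ k, ν (idx k) = 0 → ∃ k', k' ≠ k ∧ (∀ j, ε k' * R k' j = ε k * R k j) ∧ ν (idx k') = 0) := by
  have hmk : ∀ k, m (idx k) = fun j => ε k * R k j := fun k => funext (hm k)
  have hmz : ∀ i, i ≠ o → (∀ k, i ≠ idx k) → m i = fun _ => 0 := fun i h1 h2 => funext (hz i h1 h2)
  have hε2 : ∀ k, ε k * ε k = 1 := by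
    intro k
    rcases hε k with h | h <;> rw [h] <;> norm_num
  -- a row of the shape is nonzero
  have hrow : ∀ k, ∃ j, m (idx k) j = 1 ∨ m (idx k) j = -1 := by
    intro k
    obtain ⟨j, hj⟩ := hR k
    refine ⟨j, ?_⟩
    rw [hm]
    rcases hε k with h | h <;> rcases hj with h' | h' <;> rw [h, h'] <;> norm_num
  refine ⟨?_, ?_, ?_, ?_, ?_, ?_, ?_, ?_, ?_, ?_⟩
  · -- columns
    intro j
    have h1 := c.col j
    rw [sum_shape' (A := ℤ) o idx hinj hno (fun i => (d i : ℤ) * m i j)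
      (fun i hi hi' => by rw [hz i hi hi' j, mul_zero])] at h1
    rw [hdo, c.mo, Nat.cast_one, one_mul] at h1
    refine Eq.trans ?_ h1
    congr 1
    refine Finset.sum_congr rfl fun k _ => ?_
    rw [hm]
    ring
  · -- eq1
    have h1 := c.eq1
    rw [sum_shape' (A := ℚ) o idx hinj hno
      (fun i => (pv (m i) : ℚ) ^ 2 * (qv (m i) : ℚ) / (d i : ℚ))
      (fun i hi hi' => by
        show (pv (m i) : ℚ) ^ 2 * (qv (m i) : ℚ) / (d i : ℚ) = 0
        rw [hmz i hi hi', pv_zero]; simp)] at h1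
    refine Eq.trans ?_ h1
    congr 2
    · rw [c.mo, pv_mo, qv_mo, hdo]; norm_num
    · refine Finset.sum_congr rfl fun k _ => ?_
      rw [hmk, pv_smul, qv_smul]
      rcases hε k with h | h <;> rw [h] <;> push_cast
      · ring
      · rw [neg_one_mul, neg_one_mul, neg_one_mul, div_neg, neg_sq, mul_neg, neg_div]
  · -- eq2
    have h1 := c.eq2
    rw [sum_shape' (A := ℚ) o idx hinj hno
      (fun i => (pv (m i) : ℚ) * (qv (m i) : ℚ) ^ 2 / (d i : ℚ))
      (fun i hi hi' => by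
        show (pv (m i) : ℚ) * (qv (m i) : ℚ) ^ 2 / (d i : ℚ) = 0
        rw [hmz i hi hi', pv_zero]; simp)] at h1
    refine Eq.trans ?_ h1
    congr 2
    · rw [c.mo, pv_mo, qv_mo, hdo]; norm_num
    · refine Finset.sum_congr rfl fun k _ => ?_
      rw [hmk, pv_smul, qv_smul]
      rcases hε k with h | h <;> rw [h] <;> push_cast
      · ring
      · rw [neg_one_mul, neg_one_mul, neg_one_mul, div_neg, neg_sq, neg_mul, neg_div]
  · -- squares
    rw [← c.sq]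
    have h2 : o ∉ Finset.univ.image idx := by
      intro h
      obtain ⟨k, _, hk⟩ := Finset.mem_image.1 h
      exact hno k hk
    have h3 : ∑ i ∈ insert o (Finset.univ.image idx), d i ^ 2 = 1 + ∑ k, d (idx k) ^ 2 := by
      rw [Finset.sum_insert h2, Finset.sum_image (fun x _ y _ hxy => hinj hxy), hdo, one_pow]
    rw [← h3]
    exact Finset.sum_le_sum_of_subset (Finset.subset_univ _)
  · -- Frobenius-Schur
    intro j
    have h1 := c.fs j
    rw [sum_shape' (A := ℤ) o idx hinj hno (fun i => ν i * m i j)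
      (fun i hi hi' => by rw [hz i hi hi' j, mul_zero])] at h1
    rw [c.nuo, c.mo, one_mul] at h1
    refine Eq.trans ?_ h1
    congr 1
    refine Finset.sum_congr rfl fun k _ => ?_
    rw [hm]
    ring
  · -- mod 9
    intro k
    have h1 := c.fix9 (idx k)
    rw [hmk, pv_smul, qv_smul] at h1
    have h2 := Dvd.dvd.mul_left h1 (ε k)
    have h3 : ε k * ((d (idx k) : ℤ) + 4 * (ε k * pv (R k)) + 4 * (ε k * qv (R k))) =
        ε k * (d (idx k) : ℤ) + 4 * pv (R k) + 4 * qv (R k) := by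
      have := hε2 k
      linear_combination (4 * pv (R k) + 4 * qv (R k)) * this
    rw [h3] at h2
    exact h2
  · exact fun k => c.dpos (idx k)
  · exact fun k hk => hno k (c.lin (idx k) hk)
  · intro k
    rcases c.fs01 (idx k) with h | h | ⟨_, h⟩
    · exact Or.inl h
    · exact Or.inr h
    · exfalso
      obtain ⟨j, hj⟩ := hrow k
      have := h j
      rcases hj with hj | hj <;> rw [hj] at this <;> omega
  · intro k hk
    obtain ⟨i', hi', hmi', hνi'⟩ := c.fs0 (idx k) hk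
    have hi'o : i' ≠ o := by
      intro h
      rw [h, c.nuo] at hνi'
      exact one_ne_zero hνi'
    have hex : ∃ k', i' = idx k' := by
      by_contra hcon
      push Not at hcon
      obtain ⟨j, hj⟩ := hrow k
      have h0 : m (idx k) j = 0 := by rw [← hmi', hz i' hi'o hcon j]
      rcases hj with hj | hj <;> rw [hj] at h0 <;> omega
    obtain ⟨k', hk'⟩ := hex
    refine ⟨k', ?_, ?_, ?_⟩
    · intro h
      apply hi'
      rw [hk', h]
    · intro j
      rw [← hm k' j, ← hm k j, ← hk', hmi']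
    · rw [← hk']
      exact hνi'

/-- EXPL: the explicit finite form of the data of a shape; `ε k * d (idx k)` = signed degrees -/
theorem expl {I : Type*} [Fintype I] [DecidableEq I] {o : I} {d : I → ℕ} {m : I → Fin 4 → ℤ} {ν : I → ℤ}
    {h : ℕ} (c : Core I o d m ν h) {n : ℕ} (R : Fin n → Fin 4 → ℤ)
    (hR : ∀ k, ∃ j, R k j = 1 ∨ R k j = -1) (idx : Fin n → I) (ε : Fin n → ℤ)
    (hinj : Function.Injective idx) (hno : ∀ k, idx k ≠ o) (hε : ∀ k, ε k = 1 ∨ ε k = -1)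
    (hm : ∀ k j, m (idx k) j = ε k * R k j)
    (hz : ∀ i, i ≠ o → (∀ k, i ≠ idx k) → ∀ j, m i j = 0) :
    (∀ j, (![1, 0, 1, 0] : Fin 4 → ℤ) j + ∑ k, (ε k * (d (idx k) : ℤ)) * R k j = 0) ∧
    ((h : ℚ) * (1 + ∑ k, ((pv (R k) : ℚ) ^ 2 * (qv (R k) : ℚ)) / ((ε k : ℚ) * (d (idx k) : ℚ))) = 9) ∧
    ((h : ℚ) * (1 + ∑ k, ((pv (R k) : ℚ) * (qv (R k) : ℚ) ^ 2) / ((ε k : ℚ) * (d (idx k) : ℚ))) = 9) ∧
    (1 + ∑ k, d (idx k) ^ 2 ≤ 72 * h) ∧
    (∀ j, (![1, 0, 1, 0] : Fin 4 → ℤ) j + ∑ k, ν (idx k) * ε k * R k j = 2) ∧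
    (∀ k, (9 : ℤ) ∣ ε k * (d (idx k) : ℤ) + 4 * pv (R k) + 4 * qv (R k)) ∧
    (∀ k, 0 < d (idx k)) ∧ (∀ k, d (idx k) ≠ 1) ∧
    (∀ k, ν (idx k) = 0 ∨ ν (idx k) = 1) ∧
    (∀ k, ν (idx k) = 0 → ∃ k', k' ≠ k ∧ (∀ j, ε k' * R k' j = ε k * R k j) ∧ ν (idx k') = 0) :=
  expl_of c c.d_o R hR idx ε hinj hno hε hm hz

end Cfsg.Agent.Lib.Helper16_D8_EXPL
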