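/-
helper11: package SHAPE3 (core, independent of EXPL) of helper1's S3716 market (d8_packages): shape 3 is impossible.
-/
import Mathlib
import Cfsg.Agent.Lib.Helper1_D8Defs
set_option autoImplicit false
namespace Cfsg.Agent.Lib.Helper11_D8_SHAPE3aux
open Cfsg Cfsg.Agent.Lib.Helper1_D8Defs

theorem hR3 : ∀ k, ∃ j, R3 k j = 1 ∨ R3 k j = -1 := by decide

theorem rows3 : ∀ k k' : Fin 7, k' ≠ k → ∃ j, (R3 k' j) ^ 2 ≠ (R3 k j) ^ 2 := by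
  decide

theorem nu_one {ν' ε : Fin 7 → ℤ} (hε : ∀ k, ε k = 1 ∨ ε k = -1) (hν : ∀ k, ν' k = 0 ∨ ν' k = 1)
    (hν0 : ∀ k, ν' k = 0 → ∃ k', k' ≠ k ∧ (∀ j, ε k' * R3 k' j = ε k * R3 k j) ∧ ν' k' = 0)
    (k : Fin 7) : ν' k = 1 := by
  rcases hν k with h | h
  · exfalso
    obtain ⟨k', hk', hrow, -⟩ := hν0 k h
    obtain ⟨j, hj⟩ := rows3 k k' hk'
    apply hj
    have e1 : (ε k') ^ 2 = 1 := by rcases hε k' with h | h <;> rw [h] <;> norm_num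
    have e2 : (ε k) ^ 2 = 1 := by rcases hε k with h | h <;> rw [h] <;> norm_num
    have := congrArg (fun x => x ^ 2) (hrow j)
    simp only [mul_pow, e1, e2, one_mul] at this
    exact this
  · exact h

/-- the two sign patterns -/
theorem signs3 (a0 a1 a2 a3 a4 a5 a6 : ℤ) (h0 : a0 = 1 ∨ a0 = -1) (h1 : a1 = 1 ∨ a1 = -1)
    (h2 : a2 = 1 ∨ a2 = -1) (h3 : a3 = 1 ∨ a3 = -1) (h4 : a4 = 1 ∨ a4 = -1) (h5 : a5 = 1 ∨ a5 = -1)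
    (h6 : a6 = 1 ∨ a6 = -1) (f0 : 1 + (a4 + a5 + a6) = 2) (f1 : a1 + a2 + a3 + a6 = 2)
    (f2 : 1 + (a2 + a3 + a5) = 2) (f3 : a0 + a3 + a4 + a6 = 2) :
    (a0 = 1 ∧ a1 = 1 ∧ a2 = -1 ∧ a3 = 1 ∧ a4 = -1 ∧ a5 = 1 ∧ a6 = 1) ∨
      (a0 = -1 ∧ a1 = -1 ∧ a2 = 1 ∧ a3 = 1 ∧ a4 = 1 ∧ a5 = -1 ∧ a6 = 1) := by
  have e3 : a3 = 1 := by omega
  have e6 : a6 = 1 := by omega
  subst e3 e6
  rcases h2 with h2 | h2
  · right
    subst h2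
    omega
  · left
    subst h2
    omega

/-- pattern 3b -/
theorem ar3b (h D0 D2 D4 D5 : ℚ) (hh : 10 ≤ h) (p0 : 0 < D0) (p2 : 0 < D2) (p4 : 0 < D4)
    (h45 : D4 < D5) (E : h * (1 + 2 / D0 + 1 / D2 + 1 / D4 - 1 / D5) = 9) : False := by
  have h1 : 1 / D5 < 1 / D4 := one_div_lt_one_div_of_lt p4 h45
  have h2 : 0 < 2 / D0 := by positivity
  have h3 : 0 < 1 / D2 := by positivity
  have h4 : 1 < 1 + 2 / D0 + 1 / D2 + 1 / D4 - 1 / D5 := by linarith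
  have h5 : h * 1 < h * (1 + 2 / D0 + 1 / D2 + 1 / D4 - 1 / D5) :=
    mul_lt_mul_of_pos_left h4 (by linarith)
  linarith

/-- pattern 3a -/
theorem ar3a (h d0 d2 d3 d5 : ℕ) (hmod : h % 9 = 1) (hne : h ≠ 1) (h0 : 5 ≤ d0) (h2 : 17 ≤ d2)
    (h3 : 6 ≤ d3) (h5 : 10 ≤ d5)
    (E : (h : ℚ) * (1 - 2 / (d0 : ℚ) - 2 / (d2 : ℚ) + 1 / (d5 : ℚ)) = 9)
    (SQ : 1 + 2 * d0 ^ 2 + 2 * d2 ^ 2 + 2 * d3 ^ 2 + d5 ^ 2 ≤ 72 * h) : False := by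
  have q0 : (5 : ℚ) ≤ (d0 : ℚ) := by exact_mod_cast h0
  have q2 : (17 : ℚ) ≤ (d2 : ℚ) := by exact_mod_cast h2
  have q5 : (10 : ℚ) ≤ (d5 : ℚ) := by exact_mod_cast h5
  have i0 : 2 / (d0 : ℚ) ≤ 2 / 5 := div_le_div_of_nonneg_left (by norm_num) (by norm_num) q0
  have i2 : 2 / (d2 : ℚ) ≤ 2 / 17 := div_le_div_of_nonneg_left (by norm_num) (by norm_num) q2
  have i5 : 0 < 1 / (d5 : ℚ) := by
    have : (0 : ℚ) < (d5 : ℚ) := by linarith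
    positivity
  have hin : (41 : ℚ) / 85 < 1 - 2 / (d0 : ℚ) - 2 / (d2 : ℚ) + 1 / (d5 : ℚ) := by
    have : (41 : ℚ) / 85 = 1 - 2 / 5 - 2 / 17 := by norm_num
    linarith
  have hlt : h < 19 := by
    by_contra hge
    push Not at hge
    have hq : (19 : ℚ) ≤ (h : ℚ) := by exact_mod_cast hge
    have : (19 : ℚ) * (41 / 85) < (h : ℚ) * (1 - 2 / (d0 : ℚ) - 2 / (d2 : ℚ) + 1 / (d5 : ℚ)) :=
      mul_lt_mul' hq hin (by norm_num) (by linarith)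
    rw [E] at this
    norm_num at this
  have h10 : h = 10 := by omega
  subst h10
  have s0 : 5 ^ 2 ≤ d0 ^ 2 := Nat.pow_le_pow_left h0 2
  have s2 : 17 ^ 2 ≤ d2 ^ 2 := Nat.pow_le_pow_left h2 2
  have s3 : 6 ^ 2 ≤ d3 ^ 2 := Nat.pow_le_pow_left h3 2
  have s5 : 10 ^ 2 ≤ d5 ^ 2 := Nat.pow_le_pow_left h5 2
  omega

/-- the arithmetic core of `shape3`: the conclusion of `expl` for the shape `R3` is contradictory -/
theorem shape3_core {I : Type*} {d : I → ℕ} {ν : I → ℤ} {h : ℕ} (chmod : h % 9 = 1) (chne : h ≠ 1)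
    (idx : Fin 7 → I) (ε : Fin 7 → ℤ) (hε : ∀ k, ε k = 1 ∨ ε k = -1)
    (hex : (∀ j, (![1, 0, 1, 0] : Fin 4 → ℤ) j + ∑ k, (ε k * (d (idx k) : ℤ)) * R3 k j = 0) ∧
    ((h : ℚ) * (1 + ∑ k, ((pv (R3 k) : ℚ) ^ 2 * (qv (R3 k) : ℚ)) / ((ε k : ℚ) * (d (idx k) : ℚ))) = 9) ∧
    ((h : ℚ) * (1 + ∑ k, ((pv (R3 k) : ℚ) * (qv (R3 k) : ℚ) ^ 2) / ((ε k : ℚ) * (d (idx k) : ℚ))) = 9) ∧
    (1 + ∑ k, d (idx k) ^ 2 ≤ 72 * h) ∧
    (∀ j, (![1, 0, 1, 0] : Fin 4 → ℤ) j + ∑ k, ν (idx k) * ε k * R3 k j = 2) ∧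
    (∀ k, (9 : ℤ) ∣ ε k * (d (idx k) : ℤ) + 4 * pv (R3 k) + 4 * qv (R3 k)) ∧
    (∀ k, 0 < d (idx k)) ∧ (∀ k, d (idx k) ≠ 1) ∧
    (∀ k, ν (idx k) = 0 ∨ ν (idx k) = 1) ∧
    (∀ k, ν (idx k) = 0 → ∃ k', k' ≠ k ∧ (∀ j, ε k' * R3 k' j = ε k * R3 k j) ∧ ν (idx k') = 0)) :
    False := by
  obtain ⟨hcol, he1, he2, hsq, hfs, h9, hpos, hne1, hν01, hν0⟩ := hex
  have n0 := nu_one hε hν01 hν0 0
  have n1 := nu_one hε hν01 hν0 1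
  have n2 := nu_one hε hν01 hν0 2
  have n3 := nu_one hε hν01 hν0 3
  have n4 := nu_one hε hν01 hν0 4
  have n5 := nu_one hε hν01 hν0 5
  have n6 := nu_one hε hν01 hν0 6
  have f0 := hfs 0
  have f1 := hfs 1
  have f2 := hfs 2
  have f3 := hfs 3
  have c0 := hcol 0
  have c1 := hcol 1
  have c2 := hcol 2
  have c3 := hcol 3
  have m0 := h9 0
  have m2 := h9 2
  have m3 := h9 3
  have m5 := h9 5
  simp only [Fin.sum_univ_seven] at f0 f1 f2 f3 c0 c1 c2 c3 he1 he2 hsq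
  simp [R3, pv, qv, n0, n1, n2, n3, n4, n5, n6] at f0 f1 f2 f3 c0 c1 c2 c3 he1 he2 m0 m2 m3 m5
  have hpat : (ε 0 = 1 ∧ ε 1 = 1 ∧ ε 2 = -1 ∧ ε 3 = 1 ∧ ε 4 = -1 ∧ ε 5 = 1 ∧ ε 6 = 1) ∨
      (ε 0 = -1 ∧ ε 1 = -1 ∧ ε 2 = 1 ∧ ε 3 = 1 ∧ ε 4 = 1 ∧ ε 5 = -1 ∧ ε 6 = 1) := by
    exact signs3 _ _ _ _ _ _ _ (hε 0) (hε 1) (hε 2) (hε 3) (hε 4) (hε 5) (hε 6) f0 f1 f2 f3
  have h10 : 10 ≤ h := by have := chmod; have := chne; omega
  have hh : (0 : ℚ) < (h : ℚ) := by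
    have : 0 < h := by omega
    exact_mod_cast this
  have p0 : (0 : ℚ) < (d (idx 0) : ℚ) := by exact_mod_cast hpos 0
  have p1 : (0 : ℚ) < (d (idx 1) : ℚ) := by exact_mod_cast hpos 1
  have p2 : (0 : ℚ) < (d (idx 2) : ℚ) := by exact_mod_cast hpos 2
  have p4 : (0 : ℚ) < (d (idx 4) : ℚ) := by exact_mod_cast hpos 4
  have p5 : (0 : ℚ) < (d (idx 5) : ℚ) := by exact_mod_cast hpos 5
  have key : (h : ℚ) * (-6 / ((ε 0 : ℚ) * (d (idx 0) : ℚ)) + 6 / ((ε 1 : ℚ) * (d (idx 1) : ℚ))) = 0 := by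
    linear_combination he1 - he2
  have key2 : -6 / ((ε 0 : ℚ) * (d (idx 0) : ℚ)) + 6 / ((ε 1 : ℚ) * (d (idx 1) : ℚ)) = 0 := by
    rcases mul_eq_zero.mp key with h0 | h0
    · exact absurd h0 (ne_of_gt hh)
    · exact h0
  rcases hpat with ⟨e0, e1, e2, e3, e4, e5, e6⟩ | ⟨e0, e1, e2, e3, e4, e5, e6⟩
  · -- pattern 3a
    rw [e0, e1] at key2
    rw [e0, e1, e2, e4, e5] at he1
    rw [e4, e5, e6] at c0
    rw [e1, e2, e3, e6] at c1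
    rw [e2, e3, e5] at c2
    rw [e0, e3, e4, e6] at c3
    rw [e0] at m0
    rw [e2] at m2
    rw [e3] at m3
    rw [e5] at m5
    push_cast at key2 he1
    have d01 : (d (idx 1) : ℚ) = (d (idx 0) : ℚ) := by
      have h0 : (d (idx 0) : ℚ) ≠ 0 := ne_of_gt p0
      have h1 : (d (idx 1) : ℚ) ≠ 0 := ne_of_gt p1
      field_simp at key2
      linarith
    have d01' : d (idx 1) = d (idx 0) := by exact_mod_cast d01
    have d42 : d (idx 4) = d (idx 2) := by omega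
    have d63 : d (idx 6) = d (idx 3) := by omega
    have d42q : (d (idx 4) : ℚ) = (d (idx 2) : ℚ) := by exact_mod_cast d42
    have l5 := hne1 5
    refine ar3a h (d (idx 0)) (d (idx 2)) (d (idx 3)) (d (idx 5)) chmod chne (by omega) (by omega)
      (by omega) (by omega) ?_ ?_
    · rw [d01, d42q] at he1
      linear_combination he1
    · rw [d01', d42, d63] at hsq
      linarith
  · -- pattern 3b
    rw [e0, e1] at key2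
    rw [e0, e1, e2, e4, e5] at he1
    rw [e4, e5, e6] at c0
    push_cast at key2 he1
    have d01 : (d (idx 1) : ℚ) = (d (idx 0) : ℚ) := by
      have h0 : (d (idx 0) : ℚ) ≠ 0 := ne_of_gt p0
      have h1 : (d (idx 1) : ℚ) ≠ 0 := ne_of_gt p1
      field_simp at key2
      linarith
    have h45 : d (idx 4) < d (idx 5) := by omega
    refine ar3b h (d (idx 0)) (d (idx 2)) (d (idx 4)) (d (idx 5)) (by exact_mod_cast h10) p0 p2 p4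
      (by exact_mod_cast h45) ?_
    rw [d01] at he1
    linear_combination he1


end Cfsg.Agent.Lib.Helper11_D8_SHAPE3aux
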