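/-
helper40: data for the abstract "unique character of p-defect zero" theorem (groups with a split BN-pair).
See pending/helper40/DefZero_proof.md.  Definitions only; the theorem is `Helper40_DefZeroMain.defect_zero_unique`.
-/
import Mathlib
import Cfsg.Prelude.Def_Characters
import Cfsg.Prelude.Def_ParabolicCharacters

set_option autoImplicit false

namespace Cfsg.Agent.Lib.Helper40_DefZeroDefs

/-- Split BN-type data on a finite group `G` for the prime `p`, with parameter `q` and index set `ι`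
(the fundamental roots).  `U ≤ B`, minimal parabolics `P i ≥ B`, root subgroups `X i ≤ U`,
radicals `Ua i ≤ U` of the `P i`, elements `n i ∈ P i` and sets `T i ⊆ B` of "coroot" elements. -/
structure DZData (G : Type*) [Group G] (p q : ℕ) (ι : Type*) where
  /-- the unipotent subgroup -/
  U : Subgroup G
  /-- the Borel subgroup -/
  B : Subgroup G
  /-- the minimal parabolic subgroups -/
  P : ι → Subgroup G
  /-- the fundamental root subgroups -/
  X : ι → Subgroup G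
  /-- the unipotent radicals of the minimal parabolic subgroups -/
  Ua : ι → Subgroup G
  /-- coroot elements -/
  T : ι → Set G
  /-- representatives of the fundamental reflections -/
  n : ι → G
  hq : 2 ≤ q
  U_le_B : U ≤ B
  card_U : Nat.card U = p ^ (Nat.card G).factorization p
  U_normal : ∀ b ∈ B, ∀ u ∈ U, b * u * b⁻¹ ∈ U
  comm_mem : ∀ a ∈ B, ∀ b ∈ B, a * b * a⁻¹ * b⁻¹ ∈ U
  B_le_P : ∀ i, B ≤ P i
  n_mem : ∀ i, n i ∈ P i
  P_cover : ∀ i, ∀ g ∈ P i, g ∈ B ∨ ∃ u ∈ U, ∃ b ∈ B, g = u * n i * b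
  card_P : ∀ i, Nat.card (P i) = (q + 1) * Nat.card B
  X_le_U : ∀ i, X i ≤ U
  Ua_le_U : ∀ i, Ua i ≤ U
  Ua_normal : ∀ i, ∀ g ∈ P i, ∀ u ∈ Ua i, g * u * g⁻¹ ∈ Ua i
  U_prod : ∀ i, ∀ u ∈ U, ∃ x ∈ X i, ∃ v ∈ Ua i, u = x * v
  card_Ua : ∀ i, Nat.card U = q * Nat.card (Ua i)
  bruhat : ∀ i, ∀ g : G, ∃ y ∈ P i, ∀ x ∈ X i, g * (y * x * y⁻¹) * g⁻¹ ∈ U
  T_mem : ∀ i, ∀ t ∈ T i, t ∈ B ∧
    t ∈ Subgroup.closure {z : G | ∃ y ∈ P i, ∃ u ∈ U, z = y * u * y⁻¹}
  B_gen : B ≤ Subgroup.closure ((U : Set G) ∪ ⋃ i, T i)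

end Cfsg.Agent.Lib.Helper40_DefZeroDefs
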