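/-
helper40: the split BN-type subgroups of `SL_n(F)` (and `GL_n(F)`) attached to label functions, used to
instantiate `DZData` for `SL_n(F)` (S2440, S4538).  Definitions (with the subgroup axioms proved) only.
-/
import Mathlib
import Cfsg.Agent.Lib.Helper40_DefZeroDefs

set_option autoImplicit false

namespace Cfsg.Agent.Lib.Helper40_SLBNDefs

open Matrix
open scoped MatrixGroups

variable {n : ℕ} {F : Type*} [Field F]

/-- `M i j = 0` whenever `l j ≤ l i` ("strictly block upper triangular" for the labelling `l`). -/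
def StrictBT (l : Fin n → ℕ) (M : Matrix (Fin n) (Fin n) F) : Prop :=
  ∀ i j, l j ≤ l i → M i j = 0

theorem StrictBT.zero (l : Fin n → ℕ) : StrictBT l (0 : Matrix (Fin n) (Fin n) F) := fun _ _ _ => rfl

theorem StrictBT.add {l : Fin n → ℕ} {M N : Matrix (Fin n) (Fin n) F} (hM : StrictBT l M)
    (hN : StrictBT l N) : StrictBT l (M + N) := fun i j h => by
  rw [Matrix.add_apply, hM i j h, hN i j h, add_zero]

theorem StrictBT.neg {l : Fin n → ℕ} {M : Matrix (Fin n) (Fin n) F} (hM : StrictBT l M) :
    StrictBT l (-M) := fun i j h => by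
  rw [Matrix.neg_apply, hM i j h, neg_zero]

/-- block triangular times strict is strict -/
theorem StrictBT.bt_mul {l : Fin n → ℕ} {A M : Matrix (Fin n) (Fin n) F} (hA : A.BlockTriangular l)
    (hM : StrictBT l M) : StrictBT l (A * M) := fun i j h => by
  rw [Matrix.mul_apply]
  apply Finset.sum_eq_zero
  intro k _
  by_cases hk : l k < l i
  · rw [hA hk, zero_mul]
  · rw [hM k j (le_trans h (not_lt.1 hk)), mul_zero]

/-- strict times block triangular is strict -/
theorem StrictBT.mul_bt {l : Fin n → ℕ} {A M : Matrix (Fin n) (Fin n) F} (hM : StrictBT l M)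
    (hA : A.BlockTriangular l) : StrictBT l (M * A) := fun i j h => by
  rw [Matrix.mul_apply]
  apply Finset.sum_eq_zero
  intro k _
  by_cases hk : l j < l k
  · rw [hA hk, mul_zero]
  · rw [hM i k (le_trans (not_lt.1 hk) h), zero_mul]

/-- a matrix `g` with `g - 1` strict is block triangular -/
theorem StrictBT.blockTriangular {l : Fin n → ℕ} {g : Matrix (Fin n) (Fin n) F}
    (h : StrictBT l (g - 1)) : g.BlockTriangular l := fun i j hij => by
  have h1 := h i j hij.le
  have hne : i ≠ j := fun e => by rw [e] at hij; exact lt_irrefl _ hij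
  rw [Matrix.sub_apply, Matrix.one_apply_ne hne, sub_zero] at h1
  exact h1

/-- The block upper triangular subgroup of `GL_n(F)` for the labelling `l`. -/
def PLGL (F : Type*) [Field F] (l : Fin n → ℕ) : Subgroup (GL (Fin n) F) where
  carrier := {g | (g : Matrix (Fin n) (Fin n) F).BlockTriangular l}
  mul_mem' := fun {a} {b} ha hb => by
    change ((a : Matrix (Fin n) (Fin n) F) * (b : Matrix (Fin n) (Fin n) F)).BlockTriangular l
    exact Matrix.BlockTriangular.mul ha hb
  one_mem' := by
    change (1 : Matrix (Fin n) (Fin n) F).BlockTriangular l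
    exact Matrix.blockTriangular_one
  inv_mem' := fun {a} ha => by
    change ((a⁻¹ : GL (Fin n) F) : Matrix (Fin n) (Fin n) F).BlockTriangular l
    have : Invertible (a : Matrix (Fin n) (Fin n) F) := a.invertible
    rw [Matrix.coe_units_inv]
    exact Matrix.blockTriangular_inv_of_blockTriangular ha

/-- The unipotent radical of `PLGL F l`: the `g` with `g - 1` strictly block upper triangular. -/
def ULGL (F : Type*) [Field F] (l : Fin n → ℕ) : Subgroup (GL (Fin n) F) where
  carrier := {g | StrictBT l ((g : Matrix (Fin n) (Fin n) F) - 1)}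
  mul_mem' := fun {a} {b} ha hb => by
    change StrictBT l (((a * b : GL (Fin n) F) : Matrix (Fin n) (Fin n) F) - 1)
    have e : ((a * b : GL (Fin n) F) : Matrix (Fin n) (Fin n) F) - 1 =
        (a : Matrix (Fin n) (Fin n) F) * ((b : Matrix (Fin n) (Fin n) F) - 1) +
          ((a : Matrix (Fin n) (Fin n) F) - 1) := by
      rw [Units.val_mul, Matrix.mul_sub, Matrix.mul_one]
      abel
    rw [e]
    exact (StrictBT.bt_mul (StrictBT.blockTriangular ha) hb).add ha
  one_mem' := by
    change StrictBT l (((1 : GL (Fin n) F) : Matrix (Fin n) (Fin n) F) - 1)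
    rw [Units.val_one, sub_self]
    exact StrictBT.zero l
  inv_mem' := fun {a} ha => by
    change StrictBT l (((a⁻¹ : GL (Fin n) F) : Matrix (Fin n) (Fin n) F) - 1)
    have hbt : ((a⁻¹ : GL (Fin n) F) : Matrix (Fin n) (Fin n) F).BlockTriangular l := by
      have : Invertible (a : Matrix (Fin n) (Fin n) F) := a.invertible
      rw [Matrix.coe_units_inv]
      exact Matrix.blockTriangular_inv_of_blockTriangular (StrictBT.blockTriangular ha)
    have e : ((a⁻¹ : GL (Fin n) F) : Matrix (Fin n) (Fin n) F) - 1 =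
        -(((a⁻¹ : GL (Fin n) F) : Matrix (Fin n) (Fin n) F) *
          ((a : Matrix (Fin n) (Fin n) F) - 1)) := by
      rw [Matrix.mul_sub, Matrix.mul_one, ← Units.val_mul, inv_mul_cancel, Units.val_one]
      abel
    rw [e]
    exact (StrictBT.bt_mul hbt ha).neg

/-- The block upper triangular subgroup of `SL_n(F)` for the labelling `l`. -/
def PL (F : Type*) [Field F] (l : Fin n → ℕ) : Subgroup (SpecialLinearGroup (Fin n) F) :=
  (PLGL F l).comap SpecialLinearGroup.toGL

/-- Its unipotent radical. -/
def UL (F : Type*) [Field F] (l : Fin n → ℕ) : Subgroup (SpecialLinearGroup (Fin n) F) :=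
  (ULGL F l).comap SpecialLinearGroup.toGL

theorem mem_PL (l : Fin n → ℕ) (g : SpecialLinearGroup (Fin n) F) :
    g ∈ PL F l ↔ (g : Matrix (Fin n) (Fin n) F).BlockTriangular l := Iff.rfl

theorem mem_UL (l : Fin n → ℕ) (g : SpecialLinearGroup (Fin n) F) :
    g ∈ UL F l ↔ StrictBT l ((g : Matrix (Fin n) (Fin n) F) - 1) := Iff.rfl

/-- the finest labelling: `B = PL F lB`, `U = UL F lB` -/
def lB : Fin n → ℕ := fun i => i.val

/-- the labelling merging the positions `a` and `a + 1`: `P_a = PL F (la a)`, `Ua_a = UL F (la a)` -/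
def la (a : ℕ) : Fin n → ℕ := fun i => if i.val ≤ a then i.val else i.val - 1

/-- the root subgroup of the fundamental root `a` (positions `(a, a + 1)`) -/
def Xs (F : Type*) [Field F] (a : ℕ) : Subgroup (SpecialLinearGroup (Fin n) F) :=
  Subgroup.closure {g | ∃ (i j : Fin n) (t : F), i.val = a ∧ j.val = a + 1 ∧
    (g : Matrix (Fin n) (Fin n) F) = Matrix.transvection i j t}

/-- the coroot elements `diag(1, …, t, t⁻¹, …, 1)` (positions `a`, `a + 1`) -/
def Ts (F : Type*) [Field F] (a : ℕ) : Set (SpecialLinearGroup (Fin n) F) :=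
  {g | ∃ t : Fˣ, (g : Matrix (Fin n) (Fin n) F) =
    Matrix.diagonal (fun i : Fin n => if i.val = a then (t : F) else if i.val = a + 1 then ((t⁻¹ : Fˣ) : F) else 1)}

end Cfsg.Agent.Lib.Helper40_SLBNDefs
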