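/-
helper11: package SLBGEN of helper40's DEFZERO market (wave 2): the upper triangular subgroup `B` of
`SL_n(F)` is generated by the upper unitriangular subgroup `U` and the coroot tori `T_a`.
-/
import Mathlib
import Cfsg.Prelude.Def_Characters
import Cfsg.Prelude.Def_ParabolicCharacters
import Cfsg.Prelude.Def_LinearParabolics
import Cfsg.Prelude.Def_Blocks
import Cfsg.Prelude.Def_Solvable
import Cfsg.Agent.Lib.Helper40_DefZeroDefs
import Cfsg.Agent.Lib.Helper40_SLBNDefs
import Cfsg.Agent.Lib.Helper40_SLBNDefs2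
set_option autoImplicit false
open Cfsg Cfsg.Agent.Lib.Helper40_DefZeroDefs Cfsg.Agent.Lib.Helper40_SLBNDefs
open Matrix
open scoped MatrixGroups

namespace Cfsg.Agent.Lib.Helper11_DZ_SLBGEN

variable {n : ℕ} {F : Type*} [Field F] [Fintype F] {p : ℕ} [Fact p.Prime] [CharP F p]

/-- the diagonal function of the coroot element `h_k(u)` -/
def hdiag (k : ℕ) (u : Fˣ) : Fin n → F :=
  fun i => if i.val = k then (u : F) else if i.val = k + 1 then ((u⁻¹ : Fˣ) : F) else 1

omit [Fintype F] in
theorem hdiag_prod (k : ℕ) (hk : k + 1 < n) (u : Fˣ) : ∏ i : Fin n, hdiag (F := F) k u i = 1 := by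
  have hne : (⟨k, by omega⟩ : Fin n) ≠ ⟨k + 1, hk⟩ := by
    intro h
    have := congrArg Fin.val h
    simp at this
  rw [Finset.prod_eq_mul (⟨k, by omega⟩ : Fin n) ⟨k + 1, hk⟩ hne]
  · have h1 : hdiag (F := F) k u (⟨k, by omega⟩ : Fin n) = (u : F) := by simp [hdiag]
    have h2 : hdiag (F := F) k u (⟨k + 1, hk⟩ : Fin n) = ((u⁻¹ : Fˣ) : F) := by simp [hdiag]
    rw [h1, h2, ← Units.val_mul, mul_inv_cancel, Units.val_one]
  · intro c _ hc
    have h1 : c.val ≠ k := fun h => hc.1 (Fin.ext h)
    have h2 : c.val ≠ k + 1 := fun h => hc.2 (Fin.ext h)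
    simp only [hdiag]
    rw [if_neg h1, if_neg h2]
  · intro h
    exact absurd (Finset.mem_univ _) h
  · intro h
    exact absurd (Finset.mem_univ _) h

/-- the coroot element `h_k(u)` of `SL_n(F)` -/
def hel (k : ℕ) (hk : k + 1 < n) (u : Fˣ) : SpecialLinearGroup (Fin n) F :=
  ⟨Matrix.diagonal (hdiag k u), by rw [Matrix.det_diagonal]; exact hdiag_prod k hk u⟩

omit [Fintype F] in
theorem hel_mem_Ts (k : ℕ) (hk : k + 1 < n) (u : Fˣ) : hel (F := F) k hk u ∈ Ts F k :=
  ⟨u, rfl⟩

omit [Fintype F] in
theorem hel_mem_PL (k : ℕ) (hk : k + 1 < n) (u : Fˣ) :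
    hel (F := F) k hk u ∈ PL F (lB : Fin n → ℕ) := by
  rw [mem_PL]
  exact Matrix.blockTriangular_diagonal _

omit [Fintype F] in
theorem coe_hel_mul (k : ℕ) (hk : k + 1 < n) (u : Fˣ) (b : SpecialLinearGroup (Fin n) F)
    (i j : Fin n) :
    ((hel k hk u * b : SpecialLinearGroup (Fin n) F) : Matrix (Fin n) (Fin n) F) i j =
      hdiag k u i * (b : Matrix (Fin n) (Fin n) F) i j := by
  have h : ((hel k hk u * b : SpecialLinearGroup (Fin n) F) : Matrix (Fin n) (Fin n) F) =
      Matrix.diagonal (hdiag k u) * (b : Matrix (Fin n) (Fin n) F) := rfl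
  rw [h, Matrix.diagonal_mul]

omit [Fintype F] in
/-- the diagonal of an upper triangular matrix of determinant one multiplies to one -/
theorem prod_diag_eq_one (b : SpecialLinearGroup (Fin n) F) (hb : b ∈ PL F (lB : Fin n → ℕ)) :
    ∏ i : Fin n, (b : Matrix (Fin n) (Fin n) F) i i = 1 := by
  have hb' : (b : Matrix (Fin n) (Fin n) F).BlockTriangular id := by
    intro i j hij
    exact hb hij
  rw [← Matrix.det_of_isUpperTriangular hb']
  exact b.2

omit [Fintype F] in
theorem diag_ne_zero (b : SpecialLinearGroup (Fin n) F) (hb : b ∈ PL F (lB : Fin n → ℕ))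
    (i : Fin n) : (b : Matrix (Fin n) (Fin n) F) i i ≠ 0 := by
  intro h0
  have h1 := prod_diag_eq_one b hb
  have h2 : ∏ j : Fin n, (b : Matrix (Fin n) (Fin n) F) j j = 0 :=
    Finset.prod_eq_zero (f := fun j => (b : Matrix (Fin n) (Fin n) F) j j) (Finset.mem_univ i) h0
  rw [h2] at h1
  exact zero_ne_one h1

omit [Fintype F] in
theorem key (d : ℕ) : ∀ b : SpecialLinearGroup (Fin n) F, b ∈ PL F (lB : Fin n → ℕ) →
    (∀ i : Fin n, i.val + d < n - 1 → (b : Matrix (Fin n) (Fin n) F) i i = 1) →
    b ∈ Subgroup.closure (((UL F (lB : Fin n → ℕ) : Subgroup (SpecialLinearGroup (Fin n) F)) :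
        Set (SpecialLinearGroup (Fin n) F)) ∪ ⋃ a : Fin (n - 1), Ts F a.val) := by
  induction d with
  | zero =>
    intro b hb hdiag1
    apply Subgroup.subset_closure
    left
    -- all diagonal entries are one
    have hall : ∀ i : Fin n, (b : Matrix (Fin n) (Fin n) F) i i = 1 := by
      intro i
      by_cases hi : i.val < n - 1
      · exact hdiag1 i (by omega)
      · have hprod := prod_diag_eq_one b hb
        rw [Finset.prod_eq_single i] at hprod
        · exact hprod
        · intro c _ hc
          apply hdiag1 c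
          have : c.val ≠ i.val := fun h => hc (Fin.ext h)
          have := c.isLt
          have := i.isLt
          omega
        · intro h
          exact absurd (Finset.mem_univ _) h
    show StrictBT lB ((b : Matrix (Fin n) (Fin n) F) - 1)
    intro i j hij
    rw [Matrix.sub_apply]
    by_cases hije : i = j
    · subst hije
      rw [hall i, Matrix.one_apply_eq, sub_self]
    · have hlt : (lB j : ℕ) < lB i := by
        have : j.val ≠ i.val := fun h => hije (Fin.ext h.symm)
        have hij' : j.val ≤ i.val := hij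
        show j.val < i.val
        omega
      have h0 : (b : Matrix (Fin n) (Fin n) F) i j = 0 := hb hlt
      rw [h0, Matrix.one_apply_ne hije, sub_zero]
  | succ d ih =>
    intro b hb hdiag1
    by_cases hd : d + 1 ≤ n - 1
    · -- k = n - 2 - d
      obtain ⟨k, hkdef⟩ : ∃ k, k = n - 2 - d := ⟨_, rfl⟩
      have hk : k + 1 < n := by omega
      have hs : (b : Matrix (Fin n) (Fin n) F) ⟨k, by omega⟩ ⟨k, by omega⟩ ≠ 0 :=
        diag_ne_zero b hb _
      obtain ⟨u, hu⟩ : ∃ u : Fˣ, u = (Units.mk0 _ hs)⁻¹ := ⟨_, rfl⟩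
      have hmem : hel k hk u * b ∈ Subgroup.closure
          (((UL F (lB : Fin n → ℕ) : Subgroup (SpecialLinearGroup (Fin n) F)) :
          Set (SpecialLinearGroup (Fin n) F)) ∪ ⋃ a : Fin (n - 1), Ts F a.val) := by
        apply ih
        · exact Subgroup.mul_mem _ (hel_mem_PL k hk u) hb
        · intro i hi
          rw [coe_hel_mul]
          by_cases hik : i.val = k
          · have hi' : i = ⟨k, by omega⟩ := Fin.ext hik
            have h1 : hdiag (F := F) k u i = (u : F) := by simp [hdiag, hik]
            rw [h1, hu, Units.val_inv_eq_inv_val, Units.val_mk0, hi']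
            exact inv_mul_cancel₀ hs
          · have hlt : i.val < k := by omega
            have h2 : i.val ≠ k + 1 := by omega
            simp only [hdiag]
            rw [if_neg hik, if_neg h2, one_mul]
            exact hdiag1 i (by omega)
      have ht : hel k hk u ∈ Subgroup.closure
          (((UL F (lB : Fin n → ℕ) : Subgroup (SpecialLinearGroup (Fin n) F)) :
          Set (SpecialLinearGroup (Fin n) F)) ∪ ⋃ a : Fin (n - 1), Ts F a.val) := by
        apply Subgroup.subset_closure
        right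
        rw [Set.mem_iUnion]
        exact ⟨⟨k, by omega⟩, hel_mem_Ts k hk u⟩
      have e : b = (hel k hk u)⁻¹ * (hel k hk u * b) := by group
      rw [e]
      exact Subgroup.mul_mem _ (Subgroup.inv_mem _ ht) hmem
    · apply ih b hb
      intro i hi
      omega

omit [Fintype F] in
theorem sl_B_gen :
    PL F (lB : Fin n → ℕ) ≤
      Subgroup.closure (((UL F (lB : Fin n → ℕ) : Subgroup (SpecialLinearGroup (Fin n) F)) :
        Set (SpecialLinearGroup (Fin n) F)) ∪ ⋃ a : Fin (n - 1), Ts F a.val) := by
  intro b hb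
  apply key n b hb
  intro i hi
  omega

end Cfsg.Agent.Lib.Helper11_DZ_SLBGEN
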