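/-
helper40: fixed space of a subgroup of `SL_n(F)` and the "radical" subgroup attached to a subspace
(for the radical `p`-subgroups of `SL_n(F)`: S2440, S4538).  Definitions only.
-/
import Mathlib
import Cfsg.Agent.Lib.Helper40_SLBNDefs

set_option autoImplicit false

namespace Cfsg.Agent.Lib.Helper40_SLBNDefs

open Matrix
open scoped MatrixGroups

variable {n : ℕ} {F : Type*} [Field F]

/-- the space of vectors fixed by every element of `D` -/
def fixSp (D : Subgroup (SpecialLinearGroup (Fin n) F)) : Submodule F (Fin n → F) where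
  carrier := {v | ∀ d ∈ D, (d : Matrix (Fin n) (Fin n) F).mulVec v = v}
  add_mem' := fun {a} {b} ha hb d hd => by
    rw [Matrix.mulVec_add, ha d hd, hb d hd]
  zero_mem' := fun d _ => Matrix.mulVec_zero _
  smul_mem' := fun c {a} ha d hd => by
    rw [Matrix.mulVec_smul, ha d hd]

theorem mem_fixSp (D : Subgroup (SpecialLinearGroup (Fin n) F)) (v : Fin n → F) :
    v ∈ fixSp D ↔ ∀ d ∈ D, (d : Matrix (Fin n) (Fin n) F).mulVec v = v := Iff.rfl

theorem sl_mulVec_mul (a b : SpecialLinearGroup (Fin n) F) (v : Fin n → F) :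
    ((a * b : SpecialLinearGroup (Fin n) F) : Matrix (Fin n) (Fin n) F).mulVec v =
      (a : Matrix (Fin n) (Fin n) F).mulVec ((b : Matrix (Fin n) (Fin n) F).mulVec v) := by
  have h : ((a * b : SpecialLinearGroup (Fin n) F) : Matrix (Fin n) (Fin n) F) =
      (a : Matrix (Fin n) (Fin n) F) * (b : Matrix (Fin n) (Fin n) F) := rfl
  rw [h, ← Matrix.mulVec_mulVec]

theorem sl_mulVec_one (v : Fin n → F) :
    ((1 : SpecialLinearGroup (Fin n) F) : Matrix (Fin n) (Fin n) F).mulVec v = v := by
  have h : ((1 : SpecialLinearGroup (Fin n) F) : Matrix (Fin n) (Fin n) F) = 1 := rfl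
  rw [h, Matrix.one_mulVec]

/-- the elements `g` of `SL_n(F)` with `(g - 1) V ≤ W` and `(g - 1) W = 0` -/
def radW (W : Submodule F (Fin n → F)) : Subgroup (SpecialLinearGroup (Fin n) F) where
  carrier := {g | (∀ v, (g : Matrix (Fin n) (Fin n) F).mulVec v - v ∈ W) ∧
    ∀ v ∈ W, (g : Matrix (Fin n) (Fin n) F).mulVec v = v}
  mul_mem' := fun {a} {b} ha hb => by
    constructor
    · intro v
      have h1 := hb.1 v
      have h2 := ha.1 v
      have e : ((a * b : SpecialLinearGroup (Fin n) F) : Matrix (Fin n) (Fin n) F).mulVec v - v =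
          ((b : Matrix (Fin n) (Fin n) F).mulVec v - v) +
            ((a : Matrix (Fin n) (Fin n) F).mulVec v - v) := by
        rw [sl_mulVec_mul]
        have h3 := ha.2 _ h1
        rw [Matrix.mulVec_sub] at h3
        have h4 : (a : Matrix (Fin n) (Fin n) F).mulVec ((b : Matrix (Fin n) (Fin n) F).mulVec v) =
            (b : Matrix (Fin n) (Fin n) F).mulVec v - v + (a : Matrix (Fin n) (Fin n) F).mulVec v := by
          rw [← h3]; abel
        rw [h4]; abel
      rw [e]
      exact W.add_mem h1 h2
    · intro v hv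
      rw [sl_mulVec_mul, hb.2 v hv, ha.2 v hv]
  one_mem' := by
    constructor
    · intro v
      rw [sl_mulVec_one, sub_self]
      exact W.zero_mem
    · intro v _
      rw [sl_mulVec_one]
  inv_mem' := fun {a} ha => by
    have hinv : ∀ v, ((a⁻¹ : SpecialLinearGroup (Fin n) F) : Matrix (Fin n) (Fin n) F).mulVec
        ((a : Matrix (Fin n) (Fin n) F).mulVec v) = v := by
      intro v
      rw [← sl_mulVec_mul, inv_mul_cancel, sl_mulVec_one]
    have hinv' : ∀ v, (a : Matrix (Fin n) (Fin n) F).mulVec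
        (((a⁻¹ : SpecialLinearGroup (Fin n) F) : Matrix (Fin n) (Fin n) F).mulVec v) = v := by
      intro v
      rw [← sl_mulVec_mul, mul_inv_cancel, sl_mulVec_one]
    constructor
    · intro v
      set w := ((a⁻¹ : SpecialLinearGroup (Fin n) F) : Matrix (Fin n) (Fin n) F).mulVec v with hw
      have h1 := ha.1 w
      rw [hinv' v] at h1
      have : w - v = -(v - w) := by abel
      rw [this]
      exact W.neg_mem h1
    · intro v hv
      have h1 := ha.2 v hv
      have h2 := hinv v
      rw [h1] at h2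
      exact h2

theorem mem_radW (W : Submodule F (Fin n → F)) (g : SpecialLinearGroup (Fin n) F) :
    g ∈ radW W ↔ (∀ v, (g : Matrix (Fin n) (Fin n) F).mulVec v - v ∈ W) ∧
      ∀ v ∈ W, (g : Matrix (Fin n) (Fin n) F).mulVec v = v := Iff.rfl

end Cfsg.Agent.Lib.Helper40_SLBNDefs
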