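/-
helper11: package SLBRUHAT of helper40's DEFZERO market (wave 2): property (h4) of the split BN data of
`SL_n(F)`, from the Bruhat decomposition of `GL_n(F)` (Helper81_Bruhat.bruhat).
For every `g` there is `y ∈ P_a` with `g (y X_a y⁻¹) g⁻¹ ≤ U`.
-/
import Mathlib
import Cfsg.Prelude.Def_Characters
import Cfsg.Prelude.Def_ParabolicCharacters
import Cfsg.Prelude.Def_LinearParabolics
import Cfsg.Prelude.Def_Blocks
import Cfsg.Prelude.Def_Solvable
import Cfsg.Agent.Lib.Helper40_DefZeroDefs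
import Cfsg.Agent.Lib.Helper40_SLBNDefs
import Cfsg.Agent.Lib.Helper40_SLBNDefs2
import Cfsg.Agent.Lib.Helper81_Bruhat
set_option autoImplicit false
open Cfsg Cfsg.Agent.Lib.Helper40_DefZeroDefs Cfsg.Agent.Lib.Helper40_SLBNDefs
open Matrix
open scoped MatrixGroups

namespace Cfsg.Agent.Lib.Helper11_DZ_SLBRUHAT

open Cfsg.Agent.Lib.Helper81_Bruhat (W WGL W_apply W_mul W_one WGL_coe bruhat)

variable {n : ℕ} {F : Type*} [Field F] [Fintype F] {p : ℕ} [Fact p.Prime] [CharP F p]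

omit [Fintype F] in
theorem mul_W_apply (B : Matrix (Fin n) (Fin n) F) (ρ : Equiv.Perm (Fin n)) (r c : Fin n) :
    (B * (W ρ : Matrix (Fin n) (Fin n) F)) r c = B r (ρ c) := by
  rw [Matrix.mul_apply, Finset.sum_eq_single (ρ c)]
  · rw [W_apply, if_pos rfl, mul_one]
  · intro k _ hk
    rw [W_apply, if_neg hk, mul_zero]
  · intro h; exact absurd (Finset.mem_univ _) h

omit [Fintype F] in
theorem W_inv_mul_apply (ρ : Equiv.Perm (Fin n)) (B : Matrix (Fin n) (Fin n) F) (j s : Fin n) :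
    ((W ρ⁻¹ : Matrix (Fin n) (Fin n) F) * B) j s = B (ρ j) s := by
  rw [Matrix.mul_apply, Finset.sum_eq_single (ρ j)]
  · rw [W_apply, if_pos (by simp), one_mul]
  · intro k _ hk
    have hne : ¬ j = ρ⁻¹ k := fun h => hk (by rw [h]; simp)
    rw [W_apply, if_neg hne, zero_mul]
  · intro h; exact absurd (Finset.mem_univ _) h

omit [Fintype F] in
theorem W_mul_W_inv (ρ : Equiv.Perm (Fin n)) :
    (W ρ : Matrix (Fin n) (Fin n) F) * W ρ⁻¹ = 1 := by
  rw [← W_mul, mul_inv_cancel, W_one]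

omit [Fintype F] in
/-- conjugating a transvection: a rank one criterion for strict upper triangularity -/
theorem strict_of_rank_one (H K : Matrix (Fin n) (Fin n) F) (hHK : H * K = 1) (i j : Fin n) (t : F)
    (hz : ∀ r s : Fin n, s.val ≤ r.val → H r i * K j s = 0) :
    StrictBT lB (H * Matrix.transvection i j t * K - 1) := by
  have e : H * Matrix.transvection i j t * K - 1 = H * Matrix.single i j t * K := by
    rw [Matrix.transvection, Matrix.mul_add, Matrix.mul_one, Matrix.add_mul, hHK]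
    abel
  rw [e]
  intro r s hrs
  rw [Matrix.mul_apply, Finset.sum_eq_single j]
  · rw [Matrix.mul_single_apply_same, mul_assoc, mul_comm t, ← mul_assoc, hz r s hrs, zero_mul]
  · intro k _ hk
    rw [Matrix.mul_single_apply_of_ne _ _ _ _ _ hk, zero_mul]
  · intro h; exact absurd (Finset.mem_univ _) h

theorem la_mono (a : ℕ) (r c : Fin n) (h : r.val ≤ c.val) : la a r ≤ la a c := by
  unfold la
  split_ifs <;> omega

omit [Fintype F] in
theorem sl_bruhat (a : ℕ) (ha : a + 1 < n) :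
    ∀ g : SpecialLinearGroup (Fin n) F, ∃ y ∈ PL F (la a : Fin n → ℕ),
      ∀ x ∈ Xs F a, g * (y * x * y⁻¹) * g⁻¹ ∈ UL F (lB : Fin n → ℕ) := by
  intro g
  obtain ⟨b₁, hb₁, σ, b₂, hb₂, hg⟩ := bruhat (SpecialLinearGroup.toGL g)
  obtain ⟨i, hi⟩ : ∃ i : Fin n, i.val = a := ⟨⟨a, by omega⟩, rfl⟩
  obtain ⟨j, hj⟩ : ∃ j : Fin n, j.val = a + 1 := ⟨⟨a + 1, ha⟩, rfl⟩
  have hij : i ≠ j := fun h => by rw [h] at hi; omega
  -- the Weyl correction
  obtain ⟨τ, hτ1, hτ2⟩ : ∃ τ : Equiv.Perm (Fin n), (σ * τ) i < (σ * τ) j ∧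
      (∀ c, la a (τ c) = la a c) := by
    by_cases h : σ i < σ j
    · exact ⟨1, by simpa using h, fun c => rfl⟩
    · refine ⟨Equiv.swap i j, ?_, ?_⟩
      · rw [Equiv.Perm.mul_apply, Equiv.Perm.mul_apply, Equiv.swap_apply_left,
          Equiv.swap_apply_right]
        have hne : σ i ≠ σ j := fun e => hij (σ.injective e)
        exact lt_of_le_of_ne (not_lt.mp h) (Ne.symm hne)
      · intro c
        by_cases hci : c = i
        · rw [hci, Equiv.swap_apply_left]
          unfold la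
          rw [hi, hj]
          simp
        · by_cases hcj : c = j
          · rw [hcj, Equiv.swap_apply_right]
            unfold la
            rw [hi, hj]
            simp
          · rw [Equiv.swap_apply_of_ne_of_ne hci hcj]
  obtain ⟨ρ, hρ⟩ : ∃ ρ : Equiv.Perm (Fin n), ρ = σ * τ := ⟨_, rfl⟩
  rw [← hρ] at hτ1
  -- the matrices
  obtain ⟨B₁, hB₁def⟩ : ∃ B : Matrix (Fin n) (Fin n) F, B = (b₁ : Matrix (Fin n) (Fin n) F) := ⟨_, rfl⟩
  obtain ⟨B₁i, hB₁idef⟩ : ∃ B : Matrix (Fin n) (Fin n) F,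
      B = ((b₁⁻¹ : GL (Fin n) F) : Matrix (Fin n) (Fin n) F) := ⟨_, rfl⟩
  obtain ⟨B₂, hB₂def⟩ : ∃ B : Matrix (Fin n) (Fin n) F, B = (b₂ : Matrix (Fin n) (Fin n) F) := ⟨_, rfl⟩
  obtain ⟨B₂i, hB₂idef⟩ : ∃ B : Matrix (Fin n) (Fin n) F,
      B = ((b₂⁻¹ : GL (Fin n) F) : Matrix (Fin n) (Fin n) F) := ⟨_, rfl⟩
  have hB₁ : B₁.BlockTriangular id := by rw [hB₁def]; exact hb₁
  have hB₁i : B₁i.BlockTriangular id := by
    rw [hB₁idef]; exact (Cfsg.upperTriangularGL n F).inv_mem hb₁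
  have hB₂i : B₂i.BlockTriangular id := by
    rw [hB₂idef]; exact (Cfsg.upperTriangularGL n F).inv_mem hb₂
  have hB₁B₁i : B₁ * B₁i = 1 := by
    rw [hB₁def, hB₁idef, ← Units.val_mul, mul_inv_cancel, Units.val_one]
  have hB₂B₂i : B₂ * B₂i = 1 := by
    rw [hB₂def, hB₂idef, ← Units.val_mul, mul_inv_cancel, Units.val_one]
  have hB₂iB₂ : B₂i * B₂ = 1 := by
    rw [hB₂def, hB₂idef, ← Units.val_mul, inv_mul_cancel, Units.val_one]
  have hG : (g : Matrix (Fin n) (Fin n) F) = B₁ * W σ * B₂ := by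
    have h1 := congrArg (fun u : GL (Fin n) F => (u : Matrix (Fin n) (Fin n) F)) hg
    simp only [Units.val_mul, WGL_coe] at h1
    rw [hB₁def, hB₂def, ← h1]
    rfl
  -- determinants
  obtain ⟨δ, hδ⟩ : ∃ δ : F, δ = B₂.det := ⟨_, rfl⟩
  obtain ⟨ε', hε'⟩ : ∃ ε' : F, ε' = (W τ⁻¹ : Matrix (Fin n) (Fin n) F).det := ⟨_, rfl⟩
  have hdet1 : B₂i.det * δ = 1 := by
    rw [hδ, ← Matrix.det_mul, hB₂iB₂, Matrix.det_one]
  have hdet2 : (W τ : Matrix (Fin n) (Fin n) F).det * ε' = 1 := by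
    rw [hε', ← Matrix.det_mul, W_mul_W_inv, Matrix.det_one]
  have hδ0 : δ ≠ 0 := by
    intro h0; rw [h0, mul_zero] at hdet1; exact zero_ne_one hdet1
  have hε0 : ε' ≠ 0 := by
    intro h0; rw [h0, mul_zero] at hdet2; exact zero_ne_one hdet2
  have hv0 : δ * ε' ≠ 0 := mul_ne_zero hδ0 hε0
  obtain ⟨d, hd⟩ : ∃ d : Fin n → F, d = Function.update (fun _ => (1 : F)) i (δ * ε') := ⟨_, rfl⟩
  obtain ⟨d', hd'⟩ : ∃ d' : Fin n → F, d' = Function.update (fun _ => (1 : F)) i (δ * ε')⁻¹ :=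
    ⟨_, rfl⟩
  have hdd' : ∀ k, d k * d' k = 1 := by
    intro k
    rw [hd, hd']
    by_cases hk : k = i
    · rw [hk, Function.update_self, Function.update_self]
      exact mul_inv_cancel₀ hv0
    · rw [Function.update_of_ne hk, Function.update_of_ne hk, one_mul]
  have hDD' : Matrix.diagonal d * Matrix.diagonal d' = (1 : Matrix (Fin n) (Fin n) F) := by
    rw [Matrix.diagonal_mul_diagonal, ← Matrix.diagonal_one]
    congr 1
    funext k
    exact hdd' k
  have hdetD : (Matrix.diagonal d).det = δ * ε' := by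
    rw [Matrix.det_diagonal, Finset.prod_eq_single i]
    · rw [hd, Function.update_self]
    · intro k _ hk
      rw [hd, Function.update_of_ne hk]
    · intro h; exact absurd (Finset.mem_univ _) h
  -- the element y
  have hdetY : (B₂i * W τ * Matrix.diagonal d).det = 1 := by
    rw [Matrix.det_mul, Matrix.det_mul, hdetD]
    calc B₂i.det * (W τ : Matrix (Fin n) (Fin n) F).det * (δ * ε')
        = (B₂i.det * δ) * ((W τ : Matrix (Fin n) (Fin n) F).det * ε') := by ring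
      _ = 1 := by rw [hdet1, hdet2, one_mul]
  obtain ⟨y, hy⟩ : ∃ y : SpecialLinearGroup (Fin n) F,
      (y : Matrix (Fin n) (Fin n) F) = B₂i * W τ * Matrix.diagonal d := ⟨⟨_, hdetY⟩, rfl⟩
  have hyP : y ∈ PL F (la a : Fin n → ℕ) := by
    rw [mem_PL, hy]
    apply Matrix.BlockTriangular.mul (Matrix.BlockTriangular.mul _ _)
      (Matrix.blockTriangular_diagonal d)
    · intro r c hrc
      apply hB₂i
      show c < r
      by_contra hcr
      have : r.val ≤ c.val := by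
        have := not_lt.mp hcr
        exact this
      exact absurd (la_mono a r c this) (not_le.mpr hrc)
    · intro r c hrc
      rw [W_apply]
      have hne : ¬ r = τ c := by
        intro h
        rw [h, hτ2] at hrc
        exact lt_irrefl _ hrc
      rw [if_neg hne]
  refine ⟨y, hyP, ?_⟩
  -- h = g * y
  obtain ⟨h, hh⟩ : ∃ h : SpecialLinearGroup (Fin n) F, h = g * y := ⟨_, rfl⟩
  obtain ⟨H, hHdef⟩ : ∃ H : Matrix (Fin n) (Fin n) F, H = B₁ * W ρ * Matrix.diagonal d := ⟨_, rfl⟩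
  obtain ⟨K, hKdef⟩ : ∃ K : Matrix (Fin n) (Fin n) F,
      K = Matrix.diagonal d' * ((W ρ⁻¹ : Matrix (Fin n) (Fin n) F) * B₁i) := ⟨_, rfl⟩
  have hhH : (h : Matrix (Fin n) (Fin n) F) = H := by
    have e1 : ((g * y : SpecialLinearGroup (Fin n) F) : Matrix (Fin n) (Fin n) F) =
        (g : Matrix (Fin n) (Fin n) F) * (y : Matrix (Fin n) (Fin n) F) := rfl
    rw [hh, e1, hG, hy, hHdef, hρ, W_mul]
    simp only [Matrix.mul_assoc]
    rw [← Matrix.mul_assoc B₂ B₂i, hB₂B₂i, Matrix.one_mul]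
  have hHK : H * K = 1 := by
    rw [hHdef, hKdef]
    simp only [Matrix.mul_assoc]
    rw [← Matrix.mul_assoc (Matrix.diagonal d) (Matrix.diagonal d'), hDD', Matrix.one_mul,
      ← Matrix.mul_assoc (W ρ) (W ρ⁻¹), W_mul_W_inv, Matrix.one_mul, hB₁B₁i]
  have hKH : K * H = 1 := mul_eq_one_comm.mp hHK
  have hhinv : ((h⁻¹ : SpecialLinearGroup (Fin n) F) : Matrix (Fin n) (Fin n) F) = K := by
    have e1 : (h : Matrix (Fin n) (Fin n) F) *
        ((h⁻¹ : SpecialLinearGroup (Fin n) F) : Matrix (Fin n) (Fin n) F) = 1 := by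
      have e2 : ((h * h⁻¹ : SpecialLinearGroup (Fin n) F) : Matrix (Fin n) (Fin n) F) =
        (h : Matrix (Fin n) (Fin n) F) *
          ((h⁻¹ : SpecialLinearGroup (Fin n) F) : Matrix (Fin n) (Fin n) F) := rfl
      rw [← e2, mul_inv_cancel]
      rfl
    calc ((h⁻¹ : SpecialLinearGroup (Fin n) F) : Matrix (Fin n) (Fin n) F)
        = (K * H) * ((h⁻¹ : SpecialLinearGroup (Fin n) F) : Matrix (Fin n) (Fin n) F) := by
          rw [hKH, Matrix.one_mul]
      _ = K * (H * ((h⁻¹ : SpecialLinearGroup (Fin n) F) : Matrix (Fin n) (Fin n) F)) := by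
          rw [Matrix.mul_assoc]
      _ = K := by rw [← hhH, e1, Matrix.mul_one]
  -- the zero pattern
  have hz : ∀ r s : Fin n, s.val ≤ r.val → H r i * K j s = 0 := by
    intro r s hsr
    have e1 : H r i = B₁ r (ρ i) * d i := by
      rw [hHdef, Matrix.mul_diagonal, mul_W_apply]
    have e2 : K j s = d' j * B₁i (ρ j) s := by
      rw [hKdef, Matrix.diagonal_mul, W_inv_mul_apply]
    rw [e1, e2]
    by_cases hr : r ≤ ρ i
    · have hlt : s < ρ j := lt_of_le_of_lt (le_trans (show s ≤ r from hsr) hr) hτ1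
      have h0 : B₁i (ρ j) s = 0 := hB₁i hlt
      rw [h0, mul_zero, mul_zero]
    · have hlt : ρ i < r := not_le.mp hr
      have h0 : B₁ r (ρ i) = 0 := hB₁ hlt
      rw [h0, zero_mul, zero_mul]
  -- pass to the closure
  have hle : Xs F a ≤ (UL F (lB : Fin n → ℕ)).comap (MulAut.conj h).toMonoidHom := by
    unfold Xs
    rw [Subgroup.closure_le]
    rintro x ⟨i', j', t, hi', hj', hx⟩
    have hi'' : i' = i := Fin.ext (by rw [hi', hi])
    have hj'' : j' = j := Fin.ext (by rw [hj', hj])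
    rw [hi'', hj''] at hx
    show h * x * h⁻¹ ∈ UL F (lB : Fin n → ℕ)
    rw [mem_UL]
    have e1 : ((h * x * h⁻¹ : SpecialLinearGroup (Fin n) F) : Matrix (Fin n) (Fin n) F) =
        (h : Matrix (Fin n) (Fin n) F) * (x : Matrix (Fin n) (Fin n) F) *
          ((h⁻¹ : SpecialLinearGroup (Fin n) F) : Matrix (Fin n) (Fin n) F) := rfl
    rw [e1, hhH, hx, hhinv]
    exact strict_of_rank_one H K hHK i j t hz
  intro x hx
  have e : g * (y * x * y⁻¹) * g⁻¹ = h * x * h⁻¹ := by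
    rw [hh]; group
  rw [e]
  exact hle hx

end Cfsg.Agent.Lib.Helper11_DZ_SLBRUHAT
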