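import Cfsg.Agent.Lib.Helper17_CohSys

/-!
# Coherence systems: extension toolkit (helper17)

More lemmas on coherence systems, used for the extension theorems (Peterfalvi (5.6), Feit's
criterion): sums over subsets of orthonormal sets, the size of `R χ`, Bessel's inequality for an
orthogonal (not normalised) indexed family, the image of a coherent isometry lies in the span of
`R ξ`, and uniqueness of linear maps on an integer span.
-/

set_option autoImplicit false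

namespace Cfsg.Agent.Lib.Helper17_CohExt

open scoped ComplexConjugate
open Cfsg.Agent.Lib.Helper3_CharOrtho Cfsg.Agent.Lib.Helper75_CharArith
  Cfsg.Agent.Lib.Helper17_CohSys

section Inner

variable {G : Type*} [Group G] [Fintype G]

theorem classInner_conjFun_conjFun (a b : G → ℂ) :
    Cfsg.classInner (Cfsg.conjFun a) (Cfsg.conjFun b) = Cfsg.classInner b a := by
  unfold Cfsg.classInner Cfsg.conjFun
  congr 1
  refine Finset.sum_congr rfl (fun g _ => ?_)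
  rw [Complex.conj_conj, mul_comm]

theorem conjFun_conjFun {X : Type*} (a : X → ℂ) : Cfsg.conjFun (Cfsg.conjFun a) = a := by
  funext x
  simp [Cfsg.conjFun]

theorem subsum_inner_mem {B T : Finset (G → ℂ)} (hB : ON B) (hT : T ⊆ B)
    {β : G → ℂ} (hβ : β ∈ B) :
    Cfsg.classInner (∑ α ∈ T, α) β = if β ∈ T then 1 else 0 := by
  rw [classInner_sum_left]
  have : ∀ α ∈ T, Cfsg.classInner α β = if α = β then 1 else 0 :=
    fun α hα => hB α (hT hα) β hβ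
  rw [Finset.sum_congr rfl this, Finset.sum_ite_eq' T β]

theorem subsum_inner_subsum {B T T' : Finset (G → ℂ)} (hB : ON B)
    (hT : T ⊆ B) (hT' : T' ⊆ B) :
    Cfsg.classInner (∑ α ∈ T, α) (∑ β ∈ T', β) = ((T' ∩ T).card : ℂ) := by
  rw [classInner_sum_right]
  rw [Finset.sum_congr rfl (fun β hβ => subsum_inner_mem hB hT (hT' hβ))]
  rw [Finset.sum_boole, Finset.filter_mem_eq_inter]

theorem sums_inner_zero {ι κ : Type*} (s : Finset ι) (t : Finset κ) (u : ι → G → ℂ)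
    (w : κ → G → ℂ) (h : ∀ i ∈ s, ∀ j ∈ t, Cfsg.classInner (u i) (w j) = 0) :
    Cfsg.classInner (∑ i ∈ s, u i) (∑ j ∈ t, w j) = 0 := by
  rw [classInner_sum_left]
  apply Finset.sum_eq_zero
  intro i hi
  rw [classInner_sum_right]
  exact Finset.sum_eq_zero (fun j hj => h i hi j hj)

/-- Bessel's inequality for an orthogonal indexed family with squared norms `ν i > 0`. -/
theorem bessel_orthogonal {ι : Type*} [DecidableEq ι] (s : Finset ι) (e : ι → G → ℂ) (ν : ι → ℝ)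
    (hν : ∀ i ∈ s, 0 < ν i)
    (horth : ∀ i ∈ s, ∀ j ∈ s, Cfsg.classInner (e i) (e j) = if i = j then (ν i : ℂ) else 0)
    (Θ : G → ℂ) :
    ∑ i ∈ s, ‖Cfsg.classInner Θ (e i)‖ ^ 2 / ν i ≤ (Cfsg.classInner Θ Θ).re := by
  set c : ι → ℂ := fun i => Cfsg.classInner Θ (e i) / (ν i : ℂ) with hc
  set P : G → ℂ := ∑ i ∈ s, c i • e i with hP
  have hkey : ∀ i ∈ s, c i * conj (Cfsg.classInner Θ (e i)) =
      ((‖Cfsg.classInner Θ (e i)‖ : ℝ) : ℂ) ^ 2 / ((ν i : ℝ) : ℂ) := by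
    intro i hi
    simp only [hc]
    rw [div_mul_eq_mul_div, mul_conj_eq_norm_sq]
    push_cast
    rfl
  have h1 : Cfsg.classInner Θ P = ((∑ i ∈ s, ‖Cfsg.classInner Θ (e i)‖ ^ 2 / ν i : ℝ) : ℂ) := by
    rw [hP, classInner_sum_right]
    push_cast
    refine Finset.sum_congr rfl (fun i hi => ?_)
    rw [classInner_smul_right, ← hkey i hi]
    simp only [hc]
    rw [map_div₀, Complex.conj_ofReal]
    ring
  have h2 : Cfsg.classInner P Θ = ((∑ i ∈ s, ‖Cfsg.classInner Θ (e i)‖ ^ 2 / ν i : ℝ) : ℂ) := by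
    rw [← classInner_conj_symm, h1, Complex.conj_ofReal]
  have h3 : Cfsg.classInner P P = ((∑ i ∈ s, ‖Cfsg.classInner Θ (e i)‖ ^ 2 / ν i : ℝ) : ℂ) := by
    rw [hP, inner_sum_sum]
    push_cast
    refine Finset.sum_congr rfl (fun i hi => ?_)
    rw [Finset.sum_eq_single i]
    · rw [horth i hi i hi, if_pos rfl, ← hkey i hi]
      have h0 : (ν i : ℂ) ≠ 0 := by exact_mod_cast (hν i hi).ne'
      simp only [hc]
      rw [map_div₀, Complex.conj_ofReal]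
      field_simp
    · intro j hj hji
      rw [horth i hi j hj, if_neg (Ne.symm hji), mul_zero]
    · intro h; exact absurd hi h
  have h4 : Cfsg.classInner (Θ - P) (Θ - P) =
      Cfsg.classInner Θ Θ - ((∑ i ∈ s, ‖Cfsg.classInner Θ (e i)‖ ^ 2 / ν i : ℝ) : ℂ) := by
    rw [classInner_sub_left, classInner_sub_right, classInner_sub_right, h1, h2, h3]
    ring
  have h5 := classInner_self_re_nonneg (Θ - P)
  rw [h4, Complex.sub_re, Complex.ofReal_re] at h5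
  linarith

end Inner

section CohSys

variable {L : Type*} [Group L] [Fintype L] {G : Type*} [Group G] [Fintype G]
variable {S : Set (L → ℂ)} {τ : (L → ℂ) → (G → ℂ)} {R : (L → ℂ) → Finset (G → ℂ)}

/-- `R χ₁` has `2‖χ₁‖²` members. -/
theorem cs_card_R (hS : Cfsg.IsCoherenceSystem S τ R) {χ₁ : L → ℂ} (hχ₁ : χ₁ ∈ S) {n₁ : ℕ}
    (hn₁ : Cfsg.classInner χ₁ χ₁ = n₁) : (R χ₁).card = 2 * n₁ := by
  have h1 : Cfsg.classInner (τ (χ₁ - Cfsg.conjFun χ₁)) (τ (χ₁ - Cfsg.conjFun χ₁)) = 2 * n₁ := by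
    rw [hS.isometry.2.2.1 _ (cs_sub_conj_mem hS hχ₁) _ (cs_sub_conj_mem hS hχ₁),
      classInner_sub_left, classInner_sub_right, classInner_sub_right, hn₁,
      cs_orth_conj hS hχ₁, classInner_conjFun_conjFun, hn₁]
    have h2 : Cfsg.classInner (Cfsg.conjFun χ₁) χ₁ = 0 := by
      rw [← classInner_conj_symm, cs_orth_conj hS hχ₁, map_zero]
    rw [h2]
    ring
  rw [hS.sum_eq χ₁ hχ₁, subsum_inner_subsum (cs_ON hS hχ₁) (Finset.Subset.refl _)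
    (Finset.Subset.refl _), Finset.inter_self] at h1
  exact_mod_cast h1

/-- Two maps that are linear on `zspan T` and agree on `T` agree on `zspan T`. -/
theorem agree_on_span {T : Set (L → ℂ)} {σ σ' : (L → ℂ) → (G → ℂ)}
    (hσ : Cfsg.IsLinearIsometryOn (Cfsg.zspan T) σ) (hσ' : Cfsg.IsLinearIsometryOn (Cfsg.zspan T) σ')
    (h : ∀ x ∈ T, σ x = σ' x) {a : L → ℂ} (ha : a ∈ Cfsg.zspan T) : σ a = σ' a := by
  refine Submodule.span_induction (p := fun a _ => σ a = σ' a) ?_ ?_ ?_ ?_ ha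
  · exact h
  · rw [map_zero_of (M := Submodule.span ℤ T) hσ, map_zero_of (M := Submodule.span ℤ T) hσ']
  · intro x y hx hy h1 h2
    rw [hσ.1 x hx y hy, hσ'.1 x hx y hy, h1, h2]
  · intro k x hx h1
    rw [hσ.2.1 x hx k, hσ'.2.1 x hx k, h1]

theorem int_sq_add_sq_ge_one (k : ℤ) : 1 ≤ k ^ 2 + (k - 1) ^ 2 := by
  rcases le_or_gt k 0 with h | h
  · nlinarith
  · nlinarith

/-- For a coherent conjugation-closed subset `S₁` of a coherence system, with extension `τ₁`,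
each `τ₁ ξ` (`ξ ∈ S₁`) lies in the span of `R ξ`. -/
theorem image_in_span (hS : Cfsg.IsCoherenceSystem S τ R) {S₁ : Set (L → ℂ)} (hS₁ : S₁ ⊆ S)
    (hS₁c : ∀ φ ∈ S₁, Cfsg.conjFun φ ∈ S₁) {τ₁ : (L → ℂ) → (G → ℂ)}
    (hτ₁ : Cfsg.IsLinearIsometryOn (Cfsg.zspan S₁) τ₁)
    (hag : ∀ α ∈ Cfsg.zspanOn S₁ ({1}ᶜ : Set L), τ₁ α = τ α) {ξ : L → ℂ} (hξ : ξ ∈ S₁) :
    τ₁ ξ = ∑ α ∈ R ξ, Cfsg.classInner (τ₁ ξ) α • α := by
  classical
  have hξS := hS₁ hξ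
  obtain ⟨n, hn, -⟩ := cs_norm_nat hS hξS
  have hcξ : Cfsg.conjFun ξ ∈ S₁ := hS₁c ξ hξ
  have hm : ξ ∈ Cfsg.zspan S₁ := subset_zspan hξ
  have hmc : Cfsg.conjFun ξ ∈ Cfsg.zspan S₁ := subset_zspan hcξ
  have hTT : Cfsg.classInner (τ₁ ξ) (τ₁ ξ) = n := by rw [hτ₁.2.2.1 _ hm _ hm, hn]
  have hTT' : Cfsg.classInner (τ₁ (Cfsg.conjFun ξ)) (τ₁ (Cfsg.conjFun ξ)) = n := by
    rw [hτ₁.2.2.1 _ hmc _ hmc, classInner_conjFun_conjFun, hn]
  have hdiff : τ₁ ξ - τ₁ (Cfsg.conjFun ξ) = ∑ α ∈ R ξ, α := by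
    rw [← map_sub_of (M := Submodule.span ℤ S₁) hτ₁ hm hmc,
      hag _ (sub_mem_zspanOn hξ hcξ (conjFun_apply_one (hS.isCharacter ξ hξS)).symm),
      hS.sum_eq ξ hξS]
  have hON := cs_ON hS hξS
  have hint : ∀ α ∈ R ξ, ∃ k : ℤ, Cfsg.classInner (τ₁ ξ) α = k := fun α hα =>
    Cfsg.Agent.S1515.inner_int (hτ₁.2.2.2 _ hm) (hS.virtual ξ hξS α hα)
  choose! k hk using hint
  have hcoef' : ∀ α ∈ R ξ, Cfsg.classInner (τ₁ (Cfsg.conjFun ξ)) α = ((k α - 1 : ℤ) : ℂ) := by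
    intro α hα
    have : τ₁ (Cfsg.conjFun ξ) = τ₁ ξ - ∑ α ∈ R ξ, α := by rw [← hdiff]; abel
    rw [this, classInner_sub_left, hk α hα, subsum_inner_mem hON (Finset.Subset.refl _) hα,
      if_pos hα]
    push_cast
    ring
  obtain ⟨hb1, hb1eq⟩ := bessel_re hON (τ₁ ξ)
  obtain ⟨hb2, -⟩ := bessel_re hON (τ₁ (Cfsg.conjFun ξ))
  rw [hTT, Complex.natCast_re] at hb1 hb1eq
  rw [hTT', Complex.natCast_re] at hb2
  have hs1 : ∑ α ∈ R ξ, ‖Cfsg.classInner (τ₁ ξ) α‖ ^ 2 = ((∑ α ∈ R ξ, (k α) ^ 2 : ℤ) : ℝ) := by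
    push_cast
    refine Finset.sum_congr rfl (fun α hα => ?_)
    rw [hk α hα, Complex.norm_intCast, sq_abs]
  have hs2 : ∑ α ∈ R ξ, ‖Cfsg.classInner (τ₁ (Cfsg.conjFun ξ)) α‖ ^ 2 =
      ((∑ α ∈ R ξ, (k α - 1) ^ 2 : ℤ) : ℝ) := by
    push_cast
    refine Finset.sum_congr rfl (fun α hα => ?_)
    rw [hcoef' α hα, Complex.norm_intCast, sq_abs]
    push_cast
    rfl
  have hcard := cs_card_R hS hξS hn
  rw [hs1] at hb1 hb1eq
  rw [hs2] at hb2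
  have h1 : ∑ α ∈ R ξ, (k α) ^ 2 ≤ (n : ℤ) := by exact_mod_cast hb1
  have h2 : ∑ α ∈ R ξ, (k α - 1) ^ 2 ≤ (n : ℤ) := by exact_mod_cast hb2
  have h3 : (2 * n : ℤ) ≤ ∑ α ∈ R ξ, ((k α) ^ 2 + (k α - 1) ^ 2) := by
    calc (2 * n : ℤ) = ∑ _α ∈ R ξ, (1 : ℤ) := by
          rw [Finset.sum_const, hcard]; simp
      _ ≤ _ := Finset.sum_le_sum (fun α _ => int_sq_add_sq_ge_one (k α))
  rw [Finset.sum_add_distrib] at h3
  have h4 : ∑ α ∈ R ξ, (k α) ^ 2 = (n : ℤ) := by omega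
  apply hb1eq
  rw [h4]
  simp

/-- In the situation of `image_in_span`, the image of `S₁` is orthogonal to `R χ'` for
`χ' ∈ S` with `χ', conj χ' ∉ S₁`. -/
theorem image_orth_R (hS : Cfsg.IsCoherenceSystem S τ R) {S₁ : Set (L → ℂ)} (hS₁ : S₁ ⊆ S)
    (hS₁c : ∀ φ ∈ S₁, Cfsg.conjFun φ ∈ S₁) {τ₁ : (L → ℂ) → (G → ℂ)}
    (hτ₁ : Cfsg.IsLinearIsometryOn (Cfsg.zspan S₁) τ₁)
    (hag : ∀ α ∈ Cfsg.zspanOn S₁ ({1}ᶜ : Set L), τ₁ α = τ α) {ξ : L → ℂ} (hξ : ξ ∈ S₁)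
    {χ' : L → ℂ} (hχ' : χ' ∈ S) (h1 : χ' ∉ S₁) (h2 : Cfsg.conjFun χ' ∉ S₁) {β : G → ℂ}
    (hβ : β ∈ R χ') :
    Cfsg.classInner (τ₁ ξ) β = 0 ∧ Cfsg.classInner β (τ₁ ξ) = 0 := by
  have hne1 : χ' ≠ ξ := fun h => h1 (h ▸ hξ)
  have hne2 : χ' ≠ Cfsg.conjFun ξ := by
    intro h
    apply h2
    rw [h, conjFun_conjFun]
    exact hξ
  have h0 : Cfsg.classInner (τ₁ ξ) β = 0 := by
    rw [image_in_span hS hS₁ hS₁c hτ₁ hag hξ, inner_comb_right]
    apply Finset.sum_eq_zero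
    intro α hα
    rw [(cs_R_orth hS (hS₁ hξ) hχ' hne1 hne2).2 α hα β hβ, mul_zero]
  exact ⟨h0, by rw [← classInner_conj_symm, h0, map_zero]⟩

end CohSys

end Cfsg.Agent.Lib.Helper17_CohExt
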