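import Mathlib
import Cfsg.Prelude.Def_Characters
import Cfsg.Prelude.Def_OddOrderChar
import Cfsg.Agent.Lib.Helper3_CharOrtho
import Cfsg.Agent.Lib.Helper75_CharArith
import Cfsg.Agent.S1515

/-!
# Coherence systems: basic toolkit (helper17)

Generalized characters are closed under the ring operations, positive definiteness of `classInner`,
Bessel's identity for orthonormal finsets of functions, the integer spans `zspan`/`zspanOn`
as submodules, linearity of a `IsLinearIsometryOn` map on a submodule, and the construction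
of a linear isometry on `zspan S` from an assignment `v` of virtual characters to the members of an
orthogonal set `S`.
-/

set_option autoImplicit false

namespace Cfsg.Agent.Lib.Helper17_CohSys

open scoped ComplexConjugate
open Cfsg.Agent.Lib.Helper3_CharOrtho Cfsg.Agent.Lib.Helper75_CharArith

section GenChar

variable {G : Type*} [Group G]

theorem gen_of_char {χ : G → ℂ} (h : Cfsg.IsCharacter G χ) : Cfsg.IsGeneralizedCharacter G χ :=
  ⟨χ, 0, h, isCharacter_zero, (sub_zero χ).symm⟩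

theorem gen_zero : Cfsg.IsGeneralizedCharacter G (0 : G → ℂ) := gen_of_char isCharacter_zero

theorem gen_add {θ φ : G → ℂ} (hθ : Cfsg.IsGeneralizedCharacter G θ)
    (hφ : Cfsg.IsGeneralizedCharacter G φ) : Cfsg.IsGeneralizedCharacter G (θ + φ) := by
  obtain ⟨a, b, ha, hb, rfl⟩ := hθ
  obtain ⟨c, d, hc, hd, rfl⟩ := hφ
  exact ⟨a + c, b + d, isCharacter_add ha hc, isCharacter_add hb hd, by abel⟩

theorem gen_neg {θ : G → ℂ} (hθ : Cfsg.IsGeneralizedCharacter G θ) :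
    Cfsg.IsGeneralizedCharacter G (-θ) := by
  obtain ⟨a, b, ha, hb, rfl⟩ := hθ
  exact ⟨b, a, hb, ha, by abel⟩

theorem gen_sub {θ φ : G → ℂ} (hθ : Cfsg.IsGeneralizedCharacter G θ)
    (hφ : Cfsg.IsGeneralizedCharacter G φ) : Cfsg.IsGeneralizedCharacter G (θ - φ) := by
  rw [sub_eq_add_neg]
  exact gen_add hθ (gen_neg hφ)

theorem gen_nsmul {θ : G → ℂ} (n : ℕ) (hθ : Cfsg.IsGeneralizedCharacter G θ) :
    Cfsg.IsGeneralizedCharacter G (n • θ) := by
  induction n with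
  | zero => rw [zero_smul]; exact gen_zero
  | succ k ih => rw [succ_nsmul]; exact gen_add ih hθ

theorem gen_zsmul {θ : G → ℂ} (n : ℤ) (hθ : Cfsg.IsGeneralizedCharacter G θ) :
    Cfsg.IsGeneralizedCharacter G (n • θ) := by
  cases n with
  | ofNat k => rw [Int.ofNat_eq_natCast, natCast_zsmul]; exact gen_nsmul k hθ
  | negSucc k => rw [negSucc_zsmul]; exact gen_neg (gen_nsmul _ hθ)

theorem gen_sum {ι : Type*} (s : Finset ι) (f : ι → G → ℂ)
    (h : ∀ i ∈ s, Cfsg.IsGeneralizedCharacter G (f i)) :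
    Cfsg.IsGeneralizedCharacter G (∑ i ∈ s, f i) := by
  classical
  induction s using Finset.induction_on with
  | empty => rw [Finset.sum_empty]; exact gen_zero
  | insert a s ha ih =>
    rw [Finset.sum_insert ha]
    exact gen_add (h a (Finset.mem_insert_self a s))
      (ih (fun i hi => h i (Finset.mem_insert_of_mem hi)))

/-- A nonzero character has nonzero degree. -/
theorem char_eq_zero_of_apply_one {χ : G → ℂ} (h : Cfsg.IsCharacter G χ) (h1 : χ 1 = 0) :
    χ = 0 := by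
  obtain ⟨n, ρ, rfl⟩ := h
  have hn : n = 0 := by
    have : ρ.character 1 = (n : ℂ) := by
      simp [Representation.character]
    rw [this] at h1
    exact_mod_cast h1
  subst hn
  funext g
  have : ρ g = 0 := Subsingleton.elim _ _
  simp [Representation.character, this]

theorem char_apply_one_nat {χ : G → ℂ} (h : Cfsg.IsCharacter G χ) : ∃ n : ℕ, χ 1 = n := by
  obtain ⟨n, ρ, rfl⟩ := h
  exact ⟨n, by simp [Representation.character]⟩

theorem conjFun_apply_one {χ : G → ℂ} (h : Cfsg.IsCharacter G χ) : Cfsg.conjFun χ 1 = χ 1 := by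
  obtain ⟨n, hn⟩ := char_apply_one_nat h
  unfold Cfsg.conjFun
  rw [hn, Complex.conj_natCast]

end GenChar

section Inner

variable {G : Type*} [Group G] [Fintype G]

theorem classInner_sub_right (φ ψ₁ ψ₂ : G → ℂ) :
    Cfsg.classInner φ (ψ₁ - ψ₂) = Cfsg.classInner φ ψ₁ - Cfsg.classInner φ ψ₂ := by
  simp [Cfsg.classInner, mul_sub, Finset.sum_sub_distrib]

theorem classInner_neg_left (φ ψ : G → ℂ) :
    Cfsg.classInner (-φ) ψ = - Cfsg.classInner φ ψ := by
  simp [Cfsg.classInner, Finset.sum_neg_distrib]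

theorem classInner_neg_right (φ ψ : G → ℂ) :
    Cfsg.classInner φ (-ψ) = - Cfsg.classInner φ ψ := by
  simp [Cfsg.classInner, Finset.sum_neg_distrib]

theorem classInner_zsmul_left (z : ℤ) (φ ψ : G → ℂ) :
    Cfsg.classInner (z • φ) ψ = (z : ℂ) * Cfsg.classInner φ ψ := by
  have : z • φ = (z : ℂ) • φ := by funext x; simp
  rw [this, classInner_smul_left]

theorem classInner_zsmul_right (z : ℤ) (φ ψ : G → ℂ) :
    Cfsg.classInner φ (z • ψ) = (z : ℂ) * Cfsg.classInner φ ψ := by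
  have : z • ψ = (z : ℂ) • ψ := by funext x; simp
  rw [this, classInner_smul_right, map_intCast]

theorem classInner_self_eq (f : G → ℂ) :
    Cfsg.classInner f f = (((Nat.card G : ℝ)⁻¹ * ∑ g : G, ‖f g‖ ^ 2 : ℝ) : ℂ) := by
  unfold Cfsg.classInner
  push_cast
  congr 1
  refine Finset.sum_congr rfl (fun g _ => ?_)
  rw [Complex.mul_conj, Complex.normSq_eq_norm_sq]
  push_cast
  rfl

theorem classInner_self_re_nonneg (f : G → ℂ) : 0 ≤ (Cfsg.classInner f f).re := by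
  rw [classInner_self_eq, Complex.ofReal_re]
  positivity

theorem classInner_self_im (f : G → ℂ) : (Cfsg.classInner f f).im = 0 := by
  rw [classInner_self_eq, Complex.ofReal_im]

theorem eq_zero_of_classInner_self_re {f : G → ℂ} (h : (Cfsg.classInner f f).re = 0) : f = 0 := by
  rw [classInner_self_eq, Complex.ofReal_re] at h
  have hpos : (0 : ℝ) < (Nat.card G : ℝ)⁻¹ := by
    have : 0 < Nat.card G := Nat.card_pos
    positivity
  have hsum : ∑ g : G, ‖f g‖ ^ 2 = 0 := by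
    rcases mul_eq_zero.1 h with h' | h'
    · exact absurd h' hpos.ne'
    · exact h'
  funext g
  have := (Finset.sum_eq_zero_iff_of_nonneg (fun g _ => by positivity)).1 hsum g (Finset.mem_univ g)
  simpa using this

theorem eq_zero_of_classInner_self {f : G → ℂ} (h : Cfsg.classInner f f = 0) : f = 0 :=
  eq_zero_of_classInner_self_re (by rw [h]; rfl)

/-- Orthonormal finite set of functions. -/
def ON (B : Finset (G → ℂ)) : Prop :=
  ∀ α ∈ B, ∀ β ∈ B, Cfsg.classInner α β = if α = β then 1 else 0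

theorem inner_left_comb (B : Finset (G → ℂ)) (b : (G → ℂ) → ℂ) (Φ : G → ℂ) :
    Cfsg.classInner Φ (∑ β ∈ B, b β • β) = ∑ β ∈ B, conj (b β) * Cfsg.classInner Φ β := by
  rw [classInner_sum_right]
  exact Finset.sum_congr rfl (fun β _ => classInner_smul_right _ _ _)

theorem inner_comb_right (B : Finset (G → ℂ)) (a : (G → ℂ) → ℂ) (Φ : G → ℂ) :
    Cfsg.classInner (∑ α ∈ B, a α • α) Φ = ∑ α ∈ B, a α * Cfsg.classInner α Φ := by
  rw [classInner_sum_left]
  exact Finset.sum_congr rfl (fun β _ => classInner_smul_left _ _ _)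

theorem inner_comb_mem {B : Finset (G → ℂ)} (hB : ON B) (a : (G → ℂ) → ℂ) {β : G → ℂ}
    (hβ : β ∈ B) : Cfsg.classInner (∑ α ∈ B, a α • α) β = a β := by
  classical
  rw [inner_comb_right, Finset.sum_eq_single β]
  · rw [hB β hβ β hβ, if_pos rfl, mul_one]
  · intro α hα hne
    rw [hB α hα β hβ, if_neg hne, mul_zero]
  · intro h; exact absurd hβ h

theorem inner_comb_comb {B : Finset (G → ℂ)} (hB : ON B) (a b : (G → ℂ) → ℂ) :
    Cfsg.classInner (∑ α ∈ B, a α • α) (∑ β ∈ B, b β • β) = ∑ α ∈ B, a α * conj (b α) := by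
  rw [inner_left_comb]
  refine Finset.sum_congr rfl (fun β hβ => ?_)
  rw [inner_comb_mem hB a hβ, mul_comm]

/-- Bessel's identity. -/
theorem bessel {B : Finset (G → ℂ)} (hB : ON B) (Φ : G → ℂ) :
    Cfsg.classInner (Φ - ∑ α ∈ B, Cfsg.classInner Φ α • α) (Φ - ∑ α ∈ B, Cfsg.classInner Φ α • α) =
      Cfsg.classInner Φ Φ - ∑ α ∈ B, Cfsg.classInner Φ α * conj (Cfsg.classInner Φ α) := by
  rw [classInner_sub_left, classInner_sub_right, classInner_sub_right, inner_comb_comb hB,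
    inner_left_comb, inner_comb_right]
  have h1 : ∑ α ∈ B, Cfsg.classInner Φ α * Cfsg.classInner α Φ =
      ∑ α ∈ B, Cfsg.classInner Φ α * conj (Cfsg.classInner Φ α) :=
    Finset.sum_congr rfl (fun α _ => by rw [classInner_conj_symm])
  have h2 : ∑ α ∈ B, conj (Cfsg.classInner Φ α) * Cfsg.classInner Φ α =
      ∑ α ∈ B, Cfsg.classInner Φ α * conj (Cfsg.classInner Φ α) :=
    Finset.sum_congr rfl (fun α _ => mul_comm _ _)
  rw [h1, h2]
  ring

theorem mul_conj_eq_norm_sq (z : ℂ) : z * conj z = ((‖z‖ ^ 2 : ℝ) : ℂ) := by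
  rw [Complex.mul_conj, Complex.normSq_eq_norm_sq]

/-- Bessel's inequality in real form, with the equality case. -/
theorem bessel_re {B : Finset (G → ℂ)} (hB : ON B) (Φ : G → ℂ) :
    ∑ α ∈ B, ‖Cfsg.classInner Φ α‖ ^ 2 ≤ (Cfsg.classInner Φ Φ).re ∧
    (∑ α ∈ B, ‖Cfsg.classInner Φ α‖ ^ 2 = (Cfsg.classInner Φ Φ).re →
      Φ = ∑ α ∈ B, Cfsg.classInner Φ α • α) := by
  have h := bessel hB Φ
  have h2 : ∑ α ∈ B, Cfsg.classInner Φ α * conj (Cfsg.classInner Φ α) =
      ((∑ α ∈ B, ‖Cfsg.classInner Φ α‖ ^ 2 : ℝ) : ℂ) := by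
    push_cast
    refine Finset.sum_congr rfl (fun α _ => ?_)
    rw [mul_conj_eq_norm_sq]
    push_cast
    rfl
  rw [h2] at h
  have hre := congrArg Complex.re h
  rw [Complex.sub_re, Complex.ofReal_re] at hre
  constructor
  · have := classInner_self_re_nonneg (Φ - ∑ α ∈ B, Cfsg.classInner Φ α • α)
    linarith
  · intro heq
    have h0 : (Cfsg.classInner (Φ - ∑ α ∈ B, Cfsg.classInner Φ α • α)
        (Φ - ∑ α ∈ B, Cfsg.classInner Φ α • α)).re = 0 := by linarith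
    have := eq_zero_of_classInner_self_re h0
    exact sub_eq_zero.1 this

end Inner

section Span

variable {X : Type*}

/-- `zspanOn S A` as a `ℤ`-submodule. -/
def zspanOnSub (S : Set (X → ℂ)) (A : Set X) : Submodule ℤ (X → ℂ) where
  carrier := Cfsg.zspanOn S A
  add_mem' := by
    rintro a b ⟨ha, ha'⟩ ⟨hb, hb'⟩
    refine ⟨Submodule.add_mem _ ha hb, fun x hx => ?_⟩
    rw [Pi.add_apply, ha' x hx, hb' x hx, add_zero]
  zero_mem' := ⟨Submodule.zero_mem _, fun _ _ => rfl⟩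
  smul_mem' := by
    rintro c a ⟨ha, ha'⟩
    refine ⟨Submodule.smul_mem _ c ha, fun x hx => ?_⟩
    rw [Pi.smul_apply, ha' x hx, smul_zero]

theorem coe_zspanOnSub (S : Set (X → ℂ)) (A : Set X) :
    ((zspanOnSub S A : Submodule ℤ (X → ℂ)) : Set (X → ℂ)) = Cfsg.zspanOn S A := rfl

theorem mem_zspanOnSub {S : Set (X → ℂ)} {A : Set X} {a : X → ℂ} :
    a ∈ zspanOnSub S A ↔ a ∈ Cfsg.zspanOn S A := Iff.rfl

theorem coe_span (S : Set (X → ℂ)) :
    ((Submodule.span ℤ S : Submodule ℤ (X → ℂ)) : Set (X → ℂ)) = Cfsg.zspan S := rfl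

theorem mem_zspan {S : Set (X → ℂ)} {a : X → ℂ} :
    a ∈ Cfsg.zspan S ↔ a ∈ Submodule.span ℤ S := Iff.rfl

theorem subset_zspan {S : Set (X → ℂ)} {a : X → ℂ} (h : a ∈ S) : a ∈ Cfsg.zspan S :=
  Submodule.subset_span h

/-- If a finite set of functions lies in `zspanOn S A`, so does its integer span. -/
theorem zspan_subset_zspanOn {S T : Set (X → ℂ)} {A : Set X} (h : T ⊆ Cfsg.zspanOn S A) :
    Cfsg.zspan T ⊆ Cfsg.zspanOn S A := by
  intro a ha
  have : Submodule.span ℤ T ≤ zspanOnSub S A := Submodule.span_le.2 h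
  exact this ha

theorem sub_mem_zspanOn {S : Set (X → ℂ)} {χ φ : X → ℂ} (hχ : χ ∈ S) (hφ : φ ∈ S) {x₀ : X}
    (h : χ x₀ = φ x₀) : χ - φ ∈ Cfsg.zspanOn S ({x₀}ᶜ : Set X) := by
  refine ⟨Submodule.sub_mem _ (Submodule.subset_span hχ) (Submodule.subset_span hφ), ?_⟩
  intro x hx
  have hx' : x = x₀ := by simpa using hx
  rw [hx', Pi.sub_apply, h, sub_self]

end Span

section Isometry

variable {L : Type*} [Group L] [Fintype L] {G : Type*} [Group G] [Fintype G]

theorem isometry_mono {E E' : Set (L → ℂ)} {τ : (L → ℂ) → (G → ℂ)} (h : E' ⊆ E)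
    (hτ : Cfsg.IsLinearIsometryOn E τ) : Cfsg.IsLinearIsometryOn E' τ :=
  ⟨fun a ha b hb => hτ.1 a (h ha) b (h hb), fun a ha n => hτ.2.1 a (h ha) n,
    fun a ha b hb => hτ.2.2.1 a (h ha) b (h hb), fun a ha => hτ.2.2.2 a (h ha)⟩

variable {M : Submodule ℤ (L → ℂ)} {τ : (L → ℂ) → (G → ℂ)}

theorem map_zero_of (hτ : Cfsg.IsLinearIsometryOn (M : Set (L → ℂ)) τ) : τ 0 = 0 := by
  have := hτ.2.1 0 M.zero_mem 0
  rwa [zero_smul, zero_smul] at this

theorem map_neg_of (hτ : Cfsg.IsLinearIsometryOn (M : Set (L → ℂ)) τ) {a : L → ℂ} (ha : a ∈ M) :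
    τ (-a) = -τ a := by
  have := hτ.2.1 a ha (-1)
  rwa [neg_one_zsmul, neg_one_zsmul] at this

theorem map_sub_of (hτ : Cfsg.IsLinearIsometryOn (M : Set (L → ℂ)) τ) {a b : L → ℂ} (ha : a ∈ M)
    (hb : b ∈ M) : τ (a - b) = τ a - τ b := by
  rw [sub_eq_add_neg, hτ.1 a ha (-b) (M.neg_mem hb), map_neg_of hτ hb, sub_eq_add_neg]

theorem map_sum_of (hτ : Cfsg.IsLinearIsometryOn (M : Set (L → ℂ)) τ) {ι : Type*} (s : Finset ι)
    (c : ι → ℤ) (a : ι → L → ℂ) (ha : ∀ i ∈ s, a i ∈ M) :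
    τ (∑ i ∈ s, c i • a i) = ∑ i ∈ s, c i • τ (a i) := by
  classical
  induction s using Finset.induction_on with
  | empty => rw [Finset.sum_empty, Finset.sum_empty]; exact map_zero_of hτ
  | insert j s hj ih =>
    rw [Finset.sum_insert hj, Finset.sum_insert hj]
    have h1 : c j • a j ∈ M := M.smul_mem _ (ha j (Finset.mem_insert_self j s))
    have h2 : ∑ i ∈ s, c i • a i ∈ M :=
      M.sum_mem (fun i hi => M.smul_mem _ (ha i (Finset.mem_insert_of_mem hi)))
    rw [hτ.1 _ h1 _ h2, ih (fun i hi => ha i (Finset.mem_insert_of_mem hi)),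
      hτ.2.1 _ (ha j (Finset.mem_insert_self j s))]

end Isometry

section Build

variable {L : Type*} [Group L] [Fintype L] {G : Type*} [Group G] [Fintype G]

/-- An orthogonal set of nonzero functions on a finite group is finite. -/
theorem finite_of_orthogonal {S : Set (L → ℂ)}
    (horth : ∀ χ ∈ S, ∀ φ ∈ S, χ ≠ φ → Cfsg.classInner χ φ = 0)
    (hne : ∀ χ ∈ S, Cfsg.classInner χ χ ≠ 0) : S.Finite := by
  classical
  apply LinearIndependent.setFinite (R := ℂ)
  rw [linearIndependent_iff']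
  intro s g hg i hi
  have h := congrArg (fun f => Cfsg.classInner f (i : L → ℂ)) hg
  rw [classInner_sum_left, classInner_zero_left] at h
  rw [Finset.sum_eq_single i] at h
  · rw [classInner_smul_left] at h
    exact (mul_eq_zero.1 h).resolve_right (hne _ i.2)
  · intro j _ hji
    rw [classInner_smul_left, horth _ j.2 _ i.2 (fun h => hji (Subtype.ext h)), mul_zero]
  · intro h'; exact absurd hi h'

/-- The coefficient of `χ` in `α` (for `α` in the span of an orthogonal set containing `χ`). -/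
noncomputable def coef (χ α : L → ℂ) : ℂ := Cfsg.classInner α χ / Cfsg.classInner χ χ

theorem coef_add (χ α β : L → ℂ) : coef χ (α + β) = coef χ α + coef χ β := by
  unfold coef; rw [classInner_add_left, add_div]

theorem coef_zero (χ : L → ℂ) : coef χ 0 = 0 := by
  unfold coef; rw [classInner_zero_left, zero_div]

theorem coef_zsmul (χ α : L → ℂ) (n : ℤ) : coef χ (n • α) = n * coef χ α := by
  unfold coef; rw [classInner_zsmul_left, mul_div_assoc]

theorem coef_self {χ : L → ℂ} (h : Cfsg.classInner χ χ ≠ 0) : coef χ χ = 1 := by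
  unfold coef; exact div_self h

theorem coef_of_orth {χ φ : L → ℂ} (h : Cfsg.classInner φ χ = 0) : coef χ φ = 0 := by
  unfold coef; rw [h, zero_div]

theorem inner_sum_sum {ι : Type*} (F : Finset ι) (a b : ι → ℂ) (u w : ι → G → ℂ) :
    Cfsg.classInner (∑ i ∈ F, a i • u i) (∑ j ∈ F, b j • w j) =
      ∑ i ∈ F, ∑ j ∈ F, a i * conj (b j) * Cfsg.classInner (u i) (w j) := by
  rw [classInner_sum_left]
  refine Finset.sum_congr rfl (fun i _ => ?_)
  rw [classInner_sum_right]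
  refine Finset.sum_congr rfl (fun j _ => ?_)
  rw [classInner_smul_left, classInner_smul_right]
  ring

variable {S : Set (L → ℂ)}

/-- Expansion of a member of `zspan S` in the orthogonal "basis" `S` (given as the finset `F`). -/
theorem expansion (horth : ∀ χ ∈ S, ∀ φ ∈ S, χ ≠ φ → Cfsg.classInner χ φ = 0)
    (hne : ∀ χ ∈ S, Cfsg.classInner χ χ ≠ 0) (F : Finset (L → ℂ)) (hF : ∀ χ, χ ∈ F ↔ χ ∈ S)
    {α : L → ℂ} (hα : α ∈ Cfsg.zspan S) : α = ∑ χ ∈ F, coef χ α • χ := by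
  classical
  refine Submodule.span_induction (p := fun α _ => α = ∑ χ ∈ F, coef χ α • χ) ?_ ?_ ?_ ?_ hα
  · intro φ hφ
    rw [Finset.sum_eq_single φ]
    · rw [coef_self (hne φ hφ), one_smul]
    · intro χ hχ hne'
      rw [coef_of_orth (horth φ hφ χ ((hF χ).1 hχ) (Ne.symm hne')), zero_smul]
    · intro h; exact absurd ((hF φ).2 hφ) h
  · simp [coef_zero]
  · intro x y _ _ hx hy
    have : ∑ χ ∈ F, coef χ (x + y) • χ = ∑ χ ∈ F, coef χ x • χ + ∑ χ ∈ F, coef χ y • χ := by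
      rw [← Finset.sum_add_distrib]
      exact Finset.sum_congr rfl (fun χ _ => by rw [coef_add, add_smul])
    rw [this, ← hx, ← hy]
  · intro n x _ hx
    have : ∑ χ ∈ F, coef χ (n • x) • χ = n • ∑ χ ∈ F, coef χ x • χ := by
      rw [Finset.smul_sum]
      refine Finset.sum_congr rfl (fun χ _ => ?_)
      rw [coef_zsmul]
      funext l
      simp [mul_assoc]
    rw [this, ← hx]

/-- The coefficients of a member of `zspan S` are integers. -/
theorem coef_int (horth : ∀ χ ∈ S, ∀ φ ∈ S, χ ≠ φ → Cfsg.classInner χ φ = 0)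
    (hne : ∀ χ ∈ S, Cfsg.classInner χ χ ≠ 0) {α : L → ℂ} (hα : α ∈ Cfsg.zspan S) :
    ∀ χ ∈ S, ∃ n : ℤ, coef χ α = n := by
  classical
  refine Submodule.span_induction (p := fun α _ => ∀ χ ∈ S, ∃ n : ℤ, coef χ α = n) ?_ ?_ ?_ ?_ hα
  · intro φ hφ χ hχ
    by_cases h : φ = χ
    · subst h
      exact ⟨1, by rw [coef_self (hne φ hφ)]; simp⟩
    · exact ⟨0, by rw [coef_of_orth (horth φ hφ χ hχ h)]; simp⟩
  · intro χ _
    exact ⟨0, by rw [coef_zero]; simp⟩
  · intro x y _ _ hx hy χ hχ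
    obtain ⟨m, hm⟩ := hx χ hχ
    obtain ⟨n, hn⟩ := hy χ hχ
    exact ⟨m + n, by rw [coef_add, hm, hn]; push_cast; rfl⟩
  · intro k x _ hx χ hχ
    obtain ⟨m, hm⟩ := hx χ hχ
    exact ⟨k * m, by rw [coef_zsmul, hm]; push_cast; rfl⟩

/-- **Building a coherent extension.** Given an orthogonal set `S` of nonzero functions and
virtual characters `v χ` (`χ ∈ S`) of `G` with the same Gram matrix, there is a linear isometry
on `zspan S` sending each `χ ∈ S` to `v χ`. -/
theorem exists_isometry_of_assignment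
    (horth : ∀ χ ∈ S, ∀ φ ∈ S, χ ≠ φ → Cfsg.classInner χ φ = 0)
    (hne : ∀ χ ∈ S, Cfsg.classInner χ χ ≠ 0)
    (v : (L → ℂ) → (G → ℂ)) (hv : ∀ χ ∈ S, Cfsg.IsGeneralizedCharacter G (v χ))
    (hvv : ∀ χ ∈ S, ∀ φ ∈ S, Cfsg.classInner (v χ) (v φ) = Cfsg.classInner χ φ) :
    ∃ τ₁ : (L → ℂ) → (G → ℂ), Cfsg.IsLinearIsometryOn (Cfsg.zspan S) τ₁ ∧ ∀ χ ∈ S, τ₁ χ = v χ := by
  classical
  have hfin : S.Finite := finite_of_orthogonal horth hne
  set F : Finset (L → ℂ) := hfin.toFinset with hFdef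
  have hF : ∀ χ, χ ∈ F ↔ χ ∈ S := fun χ => hfin.mem_toFinset
  refine ⟨fun α => ∑ χ ∈ F, coef χ α • v χ, ⟨?_, ?_, ?_, ?_⟩, ?_⟩
  · intro α _ β _
    simp only
    rw [← Finset.sum_add_distrib]
    exact Finset.sum_congr rfl (fun χ _ => by rw [coef_add, add_smul])
  · intro α _ n
    simp only
    rw [Finset.smul_sum]
    refine Finset.sum_congr rfl (fun χ _ => ?_)
    rw [coef_zsmul]
    funext l
    simp [mul_assoc]
  · intro α hα β hβ
    simp only
    rw [inner_sum_sum]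
    conv_rhs => rw [expansion horth hne F hF hα, expansion horth hne F hF hβ]
    rw [inner_sum_sum]
    refine Finset.sum_congr rfl (fun χ hχ => Finset.sum_congr rfl (fun φ hφ => ?_))
    rw [hvv χ ((hF χ).1 hχ) φ ((hF φ).1 hφ)]
  · intro α hα
    simp only
    apply gen_sum
    intro χ hχ
    obtain ⟨n, hn⟩ := coef_int horth hne hα χ ((hF χ).1 hχ)
    rw [hn]
    have : ((n : ℂ) • v χ) = n • v χ := by funext l; simp
    rw [this]
    exact gen_zsmul n (hv χ ((hF χ).1 hχ))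
  · intro φ hφ
    simp only
    rw [Finset.sum_eq_single φ]
    · rw [coef_self (hne φ hφ), one_smul]
    · intro χ hχ hne'
      rw [coef_of_orth (horth φ hφ χ ((hF χ).1 hχ) (Ne.symm hne')), zero_smul]
    · intro h; exact absurd ((hF φ).2 hφ) h

end Build

section CohSys

variable {L : Type*} [Group L] [Fintype L] {G : Type*} [Group G] [Fintype G]
variable {S : Set (L → ℂ)} {τ : (L → ℂ) → (G → ℂ)} {R : (L → ℂ) → Finset (G → ℂ)}

theorem cs_ne_zero (hS : Cfsg.IsCoherenceSystem S τ R) {χ : L → ℂ} (hχ : χ ∈ S) : χ ≠ 0 := by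
  intro h
  apply hS.conj_ne χ hχ
  rw [h]
  funext l
  simp [Cfsg.conjFun]

theorem cs_norm_ne_zero (hS : Cfsg.IsCoherenceSystem S τ R) {χ : L → ℂ} (hχ : χ ∈ S) :
    Cfsg.classInner χ χ ≠ 0 :=
  fun h => cs_ne_zero hS hχ (eq_zero_of_classInner_self h)

theorem cs_norm_nat (hS : Cfsg.IsCoherenceSystem S τ R) {χ : L → ℂ} (hχ : χ ∈ S) :
    ∃ n : ℕ, Cfsg.classInner χ χ = n ∧ n ≠ 0 := by
  obtain ⟨n, hn⟩ := classInner_isCharacter_nat (hS.isCharacter χ hχ) (hS.isCharacter χ hχ)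
  refine ⟨n, hn, ?_⟩
  rintro rfl
  exact cs_norm_ne_zero hS hχ (by rw [hn]; simp)

theorem cs_orth_conj (hS : Cfsg.IsCoherenceSystem S τ R) {χ : L → ℂ} (hχ : χ ∈ S) :
    Cfsg.classInner χ (Cfsg.conjFun χ) = 0 :=
  hS.orthogonal χ hχ _ (hS.conj_mem χ hχ) (fun h => hS.conj_ne χ hχ h.symm)

theorem cs_sub_conj_mem (hS : Cfsg.IsCoherenceSystem S τ R) {χ : L → ℂ} (hχ : χ ∈ S) :
    χ - Cfsg.conjFun χ ∈ Cfsg.zspanOn S ({1}ᶜ : Set L) :=
  sub_mem_zspanOn hχ (hS.conj_mem χ hχ) (conjFun_apply_one (hS.isCharacter χ hχ)).symm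

theorem cs_isometry (hS : Cfsg.IsCoherenceSystem S τ R) :
    Cfsg.IsLinearIsometryOn ((zspanOnSub S ({1}ᶜ : Set L) : Submodule ℤ (L → ℂ)) : Set (L → ℂ)) τ :=
  hS.isometry

theorem cs_R_orth (hS : Cfsg.IsCoherenceSystem S τ R) {χ φ : L → ℂ} (hχ : χ ∈ S) (hφ : φ ∈ S)
    (h1 : φ ≠ χ) (h2 : φ ≠ Cfsg.conjFun χ) :
    (∀ α ∈ R φ, ∀ β ∈ R χ, Cfsg.classInner α β = 0) ∧
    (∀ α ∈ R χ, ∀ β ∈ R φ, Cfsg.classInner α β = 0) := by
  have h := hS.disjoint χ hχ φ hφ (hS.orthogonal φ hφ χ hχ h1)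
    (hS.orthogonal φ hφ _ (hS.conj_mem χ hχ) h2)
  refine ⟨h, fun α hα β hβ => ?_⟩
  rw [← classInner_conj_symm, h β hβ α hα, map_zero]

theorem cs_ON (hS : Cfsg.IsCoherenceSystem S τ R) {χ : L → ℂ} (hχ : χ ∈ S) : ON (R χ) :=
  hS.orthonormal χ hχ

theorem cs_ON_union (hS : Cfsg.IsCoherenceSystem S τ R) {χ φ : L → ℂ} (hχ : χ ∈ S) (hφ : φ ∈ S)
    (h1 : φ ≠ χ) (h2 : φ ≠ Cfsg.conjFun χ) [DecidableEq (G → ℂ)] :
    Disjoint (R χ) (R φ) ∧ ON (R χ ∪ R φ) := by
  obtain ⟨ho1, ho2⟩ := cs_R_orth hS hχ hφ h1 h2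
  have hdis : ∀ α ∈ R χ, ∀ β ∈ R φ, α ≠ β := by
    intro α hα β hβ hαβ
    have h0 := ho2 α hα β hβ
    rw [← hαβ, cs_ON hS hχ α hα α hα, if_pos rfl] at h0
    exact one_ne_zero h0
  constructor
  · rw [Finset.disjoint_left]
    intro α hα hα'
    exact hdis α hα α hα' rfl
  · intro α hα β hβ
    rcases Finset.mem_union.1 hα with ha | ha <;> rcases Finset.mem_union.1 hβ with hb | hb
    · exact cs_ON hS hχ α ha β hb
    · rw [ho2 α ha β hb, if_neg (hdis α ha β hb)]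
    · rw [ho1 α ha β hb, if_neg (fun h => hdis β hb α ha h.symm)]
    · exact cs_ON hS hφ α ha β hb

/-- Peterfalvi (5.5), both sides at once: for `χ, φ ∈ S` of the same degree, not equal or
conjugate, `τ (χ - φ)` is a sum of `‖χ‖²` members of `R χ` minus a sum of `‖φ‖²` members
of `R φ`. -/
theorem pair_decomp (hS : Cfsg.IsCoherenceSystem S τ R) {χ φ : L → ℂ} (hχ : χ ∈ S) (hφ : φ ∈ S)
    (h1 : φ ≠ χ) (h2 : φ ≠ Cfsg.conjFun χ) (hdeg : χ 1 = φ 1) :
    (∑ α ∈ R χ, ‖Cfsg.classInner (τ (χ - φ)) α‖ ^ 2 = (Cfsg.classInner χ χ).re) ∧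
    (∀ α ∈ R χ, Cfsg.classInner (τ (χ - φ)) α = 0 ∨ Cfsg.classInner (τ (χ - φ)) α = 1) ∧
    (∑ α ∈ R φ, ‖Cfsg.classInner (τ (χ - φ)) α‖ ^ 2 = (Cfsg.classInner φ φ).re) ∧
    (∀ α ∈ R φ, Cfsg.classInner (τ (χ - φ)) α = 0 ∨ Cfsg.classInner (τ (χ - φ)) α = -1) ∧
    τ (χ - φ) = ∑ α ∈ R χ, Cfsg.classInner (τ (χ - φ)) α • α +
      ∑ α ∈ R φ, Cfsg.classInner (τ (χ - φ)) α • α := by
  classical
  have hτ := cs_isometry hS
  have hm1 : χ - φ ∈ Cfsg.zspanOn S ({1}ᶜ : Set L) := sub_mem_zspanOn hχ hφ hdeg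
  have hm1' : φ - χ ∈ Cfsg.zspanOn S ({1}ᶜ : Set L) := sub_mem_zspanOn hφ hχ hdeg.symm
  have hm2 := cs_sub_conj_mem hS hχ
  have hm3 := cs_sub_conj_mem hS hφ
  have hχφ : Cfsg.classInner χ φ = 0 := hS.orthogonal χ hχ φ hφ (Ne.symm h1)
  have hφχ : Cfsg.classInner φ χ = 0 := hS.orthogonal φ hφ χ hχ h1
  have hcχφ : Cfsg.classInner (Cfsg.conjFun χ) φ = 0 :=
    hS.orthogonal _ (hS.conj_mem χ hχ) φ hφ (Ne.symm h2)
  have h2' : χ ≠ Cfsg.conjFun φ := by
    intro h
    apply h2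
    rw [h]
    funext l
    simp [Cfsg.conjFun]
  have hcφχ : Cfsg.classInner (Cfsg.conjFun φ) χ = 0 :=
    hS.orthogonal _ (hS.conj_mem φ hφ) χ hχ (Ne.symm h2')
  set Φ := τ (χ - φ) with hΦ
  have hneg : τ (φ - χ) = -Φ := by
    have := map_neg_of hτ (a := χ - φ) hm1
    rwa [neg_sub] at this
  -- S1515 on both sides
  have hA := Cfsg.Agent.S1515.result S τ R hS χ hχ φ (subset_zspan hφ) hχφ hcχφ τ
    (isometry_mono (zspan_subset_zspanOn (by
      intro a ha
      rcases ha with rfl | rfl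
      · exact hm1
      · exact hm2)) hS.isometry) (fun n => rfl)
  have hB := Cfsg.Agent.S1515.result S τ R hS φ hφ χ (subset_zspan hχ) hφχ hcφχ τ
    (isometry_mono (zspan_subset_zspanOn (by
      intro a ha
      rcases ha with rfl | rfl
      · exact hm1'
      · exact hm3)) hS.isometry) (fun n => rfl)
  rw [hneg] at hB
  have hnormneg : ∀ α, ‖Cfsg.classInner (-Φ) α‖ = ‖Cfsg.classInner Φ α‖ := by
    intro α
    rw [classInner_neg_left, norm_neg]
  simp only [hnormneg] at hB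
  have hselfneg : Cfsg.classInner (-Φ) (-Φ) = Cfsg.classInner Φ Φ := by
    rw [classInner_neg_left, classInner_neg_right, neg_neg]
  rw [hselfneg] at hB
  -- norm of Φ
  have hnorm : Cfsg.classInner Φ Φ = Cfsg.classInner χ χ + Cfsg.classInner φ φ := by
    rw [hΦ, hS.isometry.2.2.1 _ hm1 _ hm1, classInner_sub_left, classInner_sub_right,
      classInner_sub_right, hχφ, hφχ]
    ring
  obtain ⟨hdis, hON⟩ := cs_ON_union hS hχ hφ h1 h2
  obtain ⟨hbes, hbeseq⟩ := bessel_re hON Φ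
  rw [Finset.sum_union hdis] at hbes hbeseq
  rw [hnorm, Complex.add_re] at hbes hbeseq
  obtain ⟨hA1, hA2⟩ := hA
  obtain ⟨hB1, hB2⟩ := hB
  rw [hnorm, Complex.add_re] at hA2 hB2
  have hAeq := hA2 (by linarith)
  have hBeq := hB2 (by linarith)
  refine ⟨hAeq.1, hAeq.2, hBeq.1, ?_, ?_⟩
  · intro α hα
    rcases hBeq.2 α hα with h | h
    · left
      rw [classInner_neg_left, neg_eq_zero] at h
      exact h
    · right
      rw [classInner_neg_left] at h
      rw [← h, neg_neg]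
  · have := hbeseq (by rw [hAeq.1, hBeq.1])
    rw [Finset.sum_union hdis] at this
    exact this

end CohSys

end Cfsg.Agent.Lib.Helper17_CohSys
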