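import Mathlib
import Cfsg.Prelude.Def_Characters

/-!
# Duality for finite abelian groups, in the form used for class functions (helper25)

`W` is a finite group with a commutativity hypothesis `hW` (no `CommGroup` instance needed).

* `card_hom`, `exists_hom_ne_one`, `conj_hom`;
* `sum_hom_apply`: `∑_ω ω w = |W|` or `0`;
* `fourier`: `ρ w = ∑_ω (ρ, ω) ω w`;
* `exists_trivial_on_ne_one`, `card_trivial_on`: characters trivial on a subgroup `N`;
* `vanish_off`: a function whose coefficients `(ρ, ω)` only depend on `ω|_N` vanishes off `N`.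
-/

set_option autoImplicit false
set_option linter.style.haveILetI false
open scoped ComplexConjugate

namespace Cfsg.Agent.Lib.Helper25_AbDual

variable {W : Type*} [Group W] [Finite W]

/-- The commutative group structure given by a commutativity hypothesis. -/
@[reducible] def commGroupOf (hW : ∀ a b : W, a * b = b * a) : CommGroup W :=
  { (inferInstance : Group W) with mul_comm := hW }

theorem finite_hom (hW : ∀ a b : W, a * b = b * a) : Finite (W →* ℂˣ) := by
  letI : CommGroup W := commGroupOf hW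
  haveI : NeZero (Monoid.exponent W) := ⟨Monoid.exponent_ne_zero_of_finite⟩
  exact inferInstance

theorem card_hom (hW : ∀ a b : W, a * b = b * a) : Nat.card (W →* ℂˣ) = Nat.card W := by
  letI : CommGroup W := commGroupOf hW
  haveI : NeZero (Monoid.exponent W) := ⟨Monoid.exponent_ne_zero_of_finite⟩
  exact CommGroup.card_monoidHom_of_hasEnoughRootsOfUnity W ℂ

theorem exists_hom_ne_one (hW : ∀ a b : W, a * b = b * a) {a : W} (ha : a ≠ 1) :
    ∃ φ : W →* ℂˣ, φ a ≠ 1 := by
  letI : CommGroup W := commGroupOf hW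
  haveI : NeZero (Monoid.exponent W) := ⟨Monoid.exponent_ne_zero_of_finite⟩
  exact CommGroup.exists_apply_ne_one_of_hasEnoughRootsOfUnity W ℂ ha

/-- Values of linear characters: the conjugate is the value at the inverse. -/
theorem conj_hom (ω : W →* ℂˣ) (w : W) : conj ((ω w : ℂˣ) : ℂ) = ((ω w⁻¹ : ℂˣ) : ℂ) := by
  have h1 : ((ω w : ℂˣ) : ℂ) ^ Nat.card W = 1 := by
    rw [← Units.val_pow_eq_pow_val, ← map_pow, pow_card_eq_one', map_one, Units.val_one]
  have h2 : ‖((ω w : ℂˣ) : ℂ)‖ = 1 :=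
    Complex.norm_eq_one_of_pow_eq_one h1 Nat.card_pos.ne'
  rw [← Complex.inv_eq_conj h2, map_inv, Units.val_inv_eq_inv_val]

theorem sum_hom_apply [Fintype (W →* ℂˣ)] (hW : ∀ a b : W, a * b = b * a) (w : W) :
    ∑ ω : W →* ℂˣ, ((ω w : ℂˣ) : ℂ) =
      open scoped Classical in if w = 1 then (Nat.card W : ℂ) else 0 := by
  classical
  by_cases hw : w = 1
  · rw [if_pos hw, hw]
    simp only [map_one, Units.val_one, Finset.sum_const, Finset.card_univ, nsmul_eq_mul, mul_one]
    rw [← Nat.card_eq_fintype_card, card_hom hW]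
  · rw [if_neg hw]
    obtain ⟨φ, hφ⟩ := exists_hom_ne_one hW hw
    set S : ℂ := ∑ ω : W →* ℂˣ, ((ω w : ℂˣ) : ℂ) with hS
    have h1 : ∑ ω : W →* ℂˣ, (((φ * ω) w : ℂˣ) : ℂ) = S :=
      Fintype.sum_equiv (Equiv.mulLeft φ) _ _ (fun ω => rfl)
    have h2 : ∑ ω : W →* ℂˣ, (((φ * ω) w : ℂˣ) : ℂ) = ((φ w : ℂˣ) : ℂ) * S := by
      rw [hS, Finset.mul_sum]
      refine Finset.sum_congr rfl fun ω _ => ?_
      rw [MonoidHom.mul_apply, Units.val_mul]
    have h3 : (((φ w : ℂˣ) : ℂ) - 1) * S = 0 := by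
      rw [sub_mul, one_mul, ← h2, h1, sub_self]
    rcases mul_eq_zero.mp h3 with h | h
    · exfalso
      apply hφ
      apply Units.ext
      rw [Units.val_one]
      exact sub_eq_zero.mp h
    · exact h

/-- Fourier inversion on a finite abelian group. -/
theorem fourier [Fintype W] [Fintype (W →* ℂˣ)] (hW : ∀ a b : W, a * b = b * a) (ρ : W → ℂ)
    (w : W) :
    ρ w = ∑ ω : W →* ℂˣ,
      Cfsg.classInner ρ (fun v => ((ω v : ℂˣ) : ℂ)) * ((ω w : ℂˣ) : ℂ) := by
  classical
  have hW0 : (Nat.card W : ℂ) ≠ 0 := by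
    rw [Nat.cast_ne_zero]; exact Nat.card_pos.ne'
  unfold Cfsg.classInner
  have h1 : ∀ ω : W →* ℂˣ,
      ((Nat.card W : ℂ)⁻¹ * ∑ g : W, ρ g * conj ((ω g : ℂˣ) : ℂ)) * ((ω w : ℂˣ) : ℂ) =
        (Nat.card W : ℂ)⁻¹ * ∑ g : W, ρ g * ((ω (g⁻¹ * w) : ℂˣ) : ℂ) := by
    intro ω
    rw [mul_assoc, Finset.sum_mul]
    congr 1
    refine Finset.sum_congr rfl fun g _ => ?_
    rw [conj_hom, map_mul, Units.val_mul, mul_assoc]
  simp_rw [h1]
  rw [← Finset.mul_sum, Finset.sum_comm]
  simp_rw [← Finset.mul_sum, sum_hom_apply hW]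
  rw [Finset.sum_eq_single w]
  · rw [if_pos (inv_mul_cancel w)]
    field_simp
  · intro g _ hg
    rw [if_neg, mul_zero]
    intro h
    apply hg
    rw [inv_mul_eq_one] at h
    exact h
  · intro h
    exact absurd (Finset.mem_univ w) h

/-- Characters trivial on `N` separate the elements outside `N`. -/
theorem exists_trivial_on_ne_one (hW : ∀ a b : W, a * b = b * a) (N : Subgroup W) {w : W}
    (hw : w ∉ N) : ∃ φ : W →* ℂˣ, (∀ n ∈ N, φ n = 1) ∧ φ w ≠ 1 := by
  haveI hN : N.Normal := by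
    constructor
    intro n hn g
    have : g * n * g⁻¹ = n := by
      rw [hW g n]; group
    rw [this]; exact hn
  have hQ : ∀ a b : W ⧸ N, a * b = b * a := by
    intro a b
    obtain ⟨a, rfl⟩ := QuotientGroup.mk_surjective a
    obtain ⟨b, rfl⟩ := QuotientGroup.mk_surjective b
    rw [← QuotientGroup.mk_mul, ← QuotientGroup.mk_mul, hW]
  have hne : (QuotientGroup.mk w : W ⧸ N) ≠ 1 := by
    intro h
    exact hw ((QuotientGroup.eq_one_iff w).mp h)
  obtain ⟨η, hη⟩ := exists_hom_ne_one hQ hne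
  refine ⟨η.comp (QuotientGroup.mk' N), ?_, hη⟩
  intro n hn
  show η (QuotientGroup.mk' N n) = 1
  rw [QuotientGroup.mk'_apply, (QuotientGroup.eq_one_iff n).mpr hn, map_one]

/-- The number of characters trivial on `N` is the index of `N`. -/
theorem card_trivial_on (hW : ∀ a b : W, a * b = b * a) (N : Subgroup W) :
    Nat.card {φ : W →* ℂˣ // ∀ n ∈ N, φ n = 1} = N.index := by
  haveI hN : N.Normal := by
    constructor
    intro n hn g
    have : g * n * g⁻¹ = n := by
      rw [hW g n]; group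
    rw [this]; exact hn
  have hQ : ∀ a b : W ⧸ N, a * b = b * a := by
    intro a b
    obtain ⟨a, rfl⟩ := QuotientGroup.mk_surjective a
    obtain ⟨b, rfl⟩ := QuotientGroup.mk_surjective b
    rw [← QuotientGroup.mk_mul, ← QuotientGroup.mk_mul, hW]
  let e : {φ : W →* ℂˣ // ∀ w ∈ N, φ w = 1} ≃ (W ⧸ N →* ℂˣ) :=
    { toFun := fun φ => QuotientGroup.lift N φ.1 (fun w hw => φ.2 w hw)
      invFun := fun η => ⟨η.comp (QuotientGroup.mk' N), fun w hw => by
        have : QuotientGroup.mk' N w = 1 := (QuotientGroup.eq_one_iff w).mpr hw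
        show η (QuotientGroup.mk' N w) = 1
        rw [this, map_one]⟩
      left_inv := by
        intro φ
        apply Subtype.ext
        ext w
        rfl
      right_inv := by
        intro η
        ext x
        rfl }
  rw [Nat.card_congr e, card_hom hQ, Subgroup.index_eq_card]

/-- A function on `W` whose coefficients `(ρ, ω)` depend only on `ω|_N` vanishes off `N`. -/
theorem vanish_off [Fintype W] (hW : ∀ a b : W, a * b = b * a) (N : Subgroup W) (ρ : W → ℂ)
    (hρ : ∀ ω ω' : W →* ℂˣ, (∀ n ∈ N, ω n = ω' n) →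
      Cfsg.classInner ρ (fun v => ((ω v : ℂˣ) : ℂ)) =
        Cfsg.classInner ρ (fun v => ((ω' v : ℂˣ) : ℂ)))
    {w : W} (hw : w ∉ N) : ρ w = 0 := by
  classical
  haveI := finite_hom hW
  letI : Fintype (W →* ℂˣ) := Fintype.ofFinite _
  obtain ⟨φ, hφN, hφw⟩ := exists_trivial_on_ne_one hW N hw
  have h1 := fourier hW ρ w
  have h2 : ∑ ω : W →* ℂˣ,
      Cfsg.classInner ρ (fun v => (((φ * ω) v : ℂˣ) : ℂ)) * (((φ * ω) w : ℂˣ) : ℂ) = ρ w := by
    rw [h1]
    exact Fintype.sum_equiv (Equiv.mulLeft φ) _ _ (fun ω => rfl)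
  have h3 : ∑ ω : W →* ℂˣ,
      Cfsg.classInner ρ (fun v => (((φ * ω) v : ℂˣ) : ℂ)) * (((φ * ω) w : ℂˣ) : ℂ) =
        ((φ w : ℂˣ) : ℂ) * ρ w := by
    rw [h1, Finset.mul_sum]
    refine Finset.sum_congr rfl fun ω _ => ?_
    rw [hρ (φ * ω) ω (fun n hn => by rw [MonoidHom.mul_apply, hφN n hn, one_mul]),
      MonoidHom.mul_apply, Units.val_mul]
    ring
  have h4 : (((φ w : ℂˣ) : ℂ) - 1) * ρ w = 0 := by
    rw [sub_mul, one_mul, ← h3, h2, sub_self]
  rcases mul_eq_zero.mp h4 with h | h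
  · exfalso
    apply hφw
    apply Units.ext
    rw [Units.val_one]
    exact sub_eq_zero.mp h
  · exact h

end Cfsg.Agent.Lib.Helper25_AbDual
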