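import Mathlib
import Cfsg.Prelude.Def_Characters
import Cfsg.Prelude.Def_OddOrderChar
import Cfsg.Agent.Lib.Helper17_CohSys
import Cfsg.Agent.Lib.Helper17_CohExt
import Cfsg.Agent.Lib.Helper75_Induced
import Cfsg.Agent.Lib.Helper75_IndChar
import Cfsg.Agent.Lib.Helper81_CharOrth2
import Cfsg.Agent.Lib.Helper79_Linear
import Cfsg.Agent.Lib.Helper25_AbDual

/-!
# Coherence: basic facts on the sets `inducedIrrAbove K A` (helper16)

* `isCoherent_of_subset`: a subset of a coherent set is coherent (given a nonzero element);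
* `conjFun_indFun`, `conj_mem_inducedIrrAbove`: closure under complex conjugation;
* `inducedIrrAbove_mono`: `S(A') ⊆ S(A)` for `A ≤ A'`;
* `indFun_eq_zero_of_not_mem`: induction from a normal subgroup vanishes off it;
* `exists_linear_of_solvable`: nontrivial linear characters of a solvable group trivial on a
  proper normal subgroup.
-/

set_option autoImplicit false

namespace Cfsg.Agent.Lib.Helper16_CohBasic

open scoped ComplexConjugate
open Cfsg.Agent.Lib.Helper3_CharOrtho Cfsg.Agent.Lib.Helper75_CharArith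
  Cfsg.Agent.Lib.Helper17_CohSys Cfsg.Agent.Lib.Helper17_CohExt
  Cfsg.Agent.Lib.Helper75_Induced

section Coh

variable {L : Type*} [Group L] [Fintype L] {G : Type*} [Group G] [Fintype G]

/-- A subset of a coherent set is coherent as soon as its span has a nonzero member vanishing
off `A`. -/
theorem isCoherent_of_subset {T T' : Set (L → ℂ)} {A : Set L} {τ : (L → ℂ) → (G → ℂ)}
    (h : T ⊆ T') (hcoh : Cfsg.IsCoherent T' A τ) (hne : ∃ α ∈ Cfsg.zspanOn T A, α ≠ 0) :
    Cfsg.IsCoherent T A τ := by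
  obtain ⟨-, τ₁, hτ₁, hag⟩ := hcoh
  have hspan : Cfsg.zspan T ⊆ Cfsg.zspan T' := fun a ha => Submodule.span_mono h ha
  exact ⟨hne, τ₁, isometry_mono hspan hτ₁, fun α hα => hag α ⟨hspan hα.1, hα.2⟩⟩

end Coh

section Ind

variable {L : Type*} [Group L]

theorem extendByZero_conjFun (K : Subgroup L) (θ : K → ℂ) (g : L) :
    Cfsg.extendByZero K (Cfsg.conjFun θ) g = conj (Cfsg.extendByZero K θ g) := by
  by_cases hg : g ∈ K
  · rw [extendByZero_of_mem K _ hg, extendByZero_of_mem K _ hg]
    rfl
  · rw [extendByZero_of_not_mem K _ hg, extendByZero_of_not_mem K _ hg, map_zero]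

variable [Fintype L]

/-- Induction commutes with complex conjugation. -/
theorem conjFun_indFun (K : Subgroup L) (θ : K → ℂ) :
    Cfsg.conjFun (Cfsg.indFun K θ) = Cfsg.indFun K (Cfsg.conjFun θ) := by
  funext g
  unfold Cfsg.conjFun
  rw [indFun_apply, indFun_apply, map_mul, map_inv₀, Complex.conj_natCast, map_sum]
  congr 1
  exact Finset.sum_congr rfl (fun x _ => (extendByZero_conjFun K θ _).symm)

/-- `S(A)` is closed under complex conjugation. -/
theorem conj_mem_inducedIrrAbove (K A : Subgroup L) {φ : L → ℂ}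
    (hφ : φ ∈ Cfsg.inducedIrrAbove K A) : Cfsg.conjFun φ ∈ Cfsg.inducedIrrAbove K A := by
  obtain ⟨θ, hθ, hne, hker, rfl⟩ := hφ
  refine ⟨Cfsg.conjFun θ, Cfsg.Agent.Lib.Helper81_CharOrth2.isIrrCharacter_conj hθ, ?_, ?_,
    conjFun_indFun K θ⟩
  · intro h
    apply hne
    funext k
    have := congrFun h k
    unfold Cfsg.conjFun at this
    have h2 := congrArg conj this
    simpa using h2
  · intro a ha
    unfold Cfsg.conjFun
    rw [hker a ha]

/-- `S(A') ⊆ S(A)` for `A ≤ A'`. -/
theorem inducedIrrAbove_mono (K : Subgroup L) {A A' : Subgroup L} (h : A ≤ A') :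
    Cfsg.inducedIrrAbove K A' ⊆ Cfsg.inducedIrrAbove K A := by
  rintro φ ⟨θ, hθ, hne, hker, rfl⟩
  exact ⟨θ, hθ, hne, fun a ha => hker a (h ha), rfl⟩

/-- Induction from a normal subgroup vanishes off the subgroup. -/
theorem indFun_eq_zero_of_not_mem (K : Subgroup L) [hK : K.Normal] (θ : K → ℂ) {g : L}
    (hg : g ∉ K) : Cfsg.indFun K θ g = 0 := by
  rw [indFun_apply]
  have : ∀ x : L, Cfsg.extendByZero K θ (x⁻¹ * g * x) = 0 := by
    intro x
    apply extendByZero_of_not_mem
    intro h
    apply hg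
    have := hK.conj_mem _ h x
    simpa [mul_assoc] using this
  simp [this]

end Ind

section Linear

/-- A finite solvable group has, for each proper normal subgroup `N`, a nontrivial homomorphism to
`ℂˣ` that is trivial on `N`. -/
theorem exists_hom_of_solvable {H : Type*} [Group H] [Finite H] (hsolv : Group.IsSolvable H)
    (N : Subgroup H) [N.Normal] (hN : N ≠ ⊤) :
    ∃ f : H →* ℂˣ, f ≠ 1 ∧ ∀ n ∈ N, f n = 1 := by
  have hnt : Nontrivial (H ⧸ N) := QuotientGroup.nontrivial_iff.mpr hN
  have hsq : Group.IsSolvable (H ⧸ N) :=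
    Group.isSolvable_of_surjective (QuotientGroup.mk'_surjective N)
  have hlt : commutator (H ⧸ N) < ⊤ :=
    Group.IsSolvable.commutator_lt_top_of_nontrivial (H ⧸ N)
  obtain ⟨q, -, hq⟩ := SetLike.exists_of_lt hlt
  have ha : (Abelianization.of q : Abelianization (H ⧸ N)) ≠ 1 := by
    intro h
    apply hq
    have := (QuotientGroup.eq_one_iff q).mp h
    exact this
  obtain ⟨φ, hφ⟩ := Cfsg.Agent.Lib.Helper25_AbDual.exists_hom_ne_one
    (W := Abelianization (H ⧸ N)) (fun a b => mul_comm a b) ha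
  refine ⟨(φ.comp Abelianization.of).comp (QuotientGroup.mk' N), ?_, ?_⟩
  · intro h
    apply hφ
    obtain ⟨g, rfl⟩ := QuotientGroup.mk'_surjective N q
    have := DFunLike.congr_fun h g
    simpa using this
  · intro n hn
    simp only [MonoidHom.coe_comp, Function.comp_apply, QuotientGroup.mk'_apply]
    rw [(QuotientGroup.eq_one_iff n).mpr hn, map_one, map_one]

/-- For `K` solvable and `A` not containing `K`, there is a member of `S(A)` induced from a
linear character; its degree is `|L : K|`. -/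
theorem exists_linear_mem {L : Type*} [Group L] [Fintype L] (K A : Subgroup L) [A.Normal]
    (hsolv : Group.IsSolvable K) (hAK : ¬ K ≤ A) :
    ∃ lam : K → ℂ, Cfsg.IsIrrCharacter K lam ∧ lam 1 = 1 ∧
      Cfsg.indFun K lam ∈ Cfsg.inducedIrrAbove K A := by
  have hne : A.subgroupOf K ≠ ⊤ := fun h => hAK (Subgroup.subgroupOf_eq_top.mp h)
  obtain ⟨f, hf1, hfA⟩ := exists_hom_of_solvable hsolv (A.subgroupOf K) hne
  refine ⟨fun k => ((f k : ℂˣ) : ℂ), Cfsg.Agent.Lib.Helper79_Linear.isIrrCharacter_of_hom f,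
    by simp, ⟨_, Cfsg.Agent.Lib.Helper79_Linear.isIrrCharacter_of_hom f, ?_, ?_, rfl⟩⟩
  · intro h
    apply hf1
    ext k
    have := congrFun h k
    simpa using this
  · intro a ha
    rw [hfA a (Subgroup.mem_subgroupOf.mpr ha), map_one]

end Linear

end Cfsg.Agent.Lib.Helper16_CohBasic
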