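import Mathlib
import Cfsg.Prelude.Def_Blocks
import Cfsg.Agent.Lib.Helper78_LocalRing
import Cfsg.Agent.Lib.Helper77_PRoots
import Cfsg.Agent.Lib.Helper3_CharEigen

/-!
# Character values modulo `p`-elements (helper16)

If `x` is a `p`-element commuting with `c`, then `χ (x * c) ≡ χ c` modulo the local ideal at a
`p`-modular maximal ideal `M`.
-/

set_option autoImplicit false
set_option linter.unusedSectionVars false

namespace Cfsg.Agent.Lib.Helper16_PCongr

open Module LinearMap Cfsg Cfsg.Agent.Lib.Helper3_CharEigen Cfsg.Agent.Lib.Helper78_LocalRing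
  Cfsg.Agent.Lib.Helper77_PRoots

section endo

variable {V : Type*} [AddCommGroup V] [Module ℂ V] [FiniteDimensional ℂ V]

/-- The trace of an endomorphism of finite order is an algebraic integer. -/
theorem isIntegral_trace_of_pow_eq_one {T : Module.End ℂ V} {n : ℕ} (hn : 0 < n)
    (h : T ^ n = 1) : IsIntegral ℤ (LinearMap.trace ℂ V T) := by
  have hs := isSemisimple_of_pow_eq_one hn h
  rw [trace_eq_sum_of_scalar_on_eigenspaces hs T (fun μ => μ)
    (fun μ v hv => Module.End.mem_eigenspace_iff.mp hv)]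
  refine IsIntegral.sum _ (fun μ hμ => ?_)
  refine IsIntegral.mul ?_ ?_
  · exact isIntegral_algebraMap (R := ℤ)
      (x := ((Module.finrank ℂ (Module.End.eigenspace T μ) : ℕ) : ℤ)) |> (by simpa using ·)
  · exact ⟨Polynomial.X ^ n - 1, Polynomial.monic_X_pow_sub_C (1 : ℤ) hn.ne',
      by simp [eigenvalue_pow_eq_one h (mem_eigSet.mp hμ)]⟩

/-- For commuting endomorphisms `X`, `C` of finite order with `X` of `p`-power order, the traces of
`X * C` and `C` are congruent modulo the local ideal. -/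
theorem memLocalIdeal_trace_mul_sub {p : ℕ} {M : Ideal AlgInt} (hM : IsPModular p M)
    (X C : Module.End ℂ V) (hXC : X * C = C * X) {k : ℕ} (hX : X ^ (p ^ k) = 1)
    {n : ℕ} (hn : 0 < n) (hC : C ^ n = 1) :
    MemLocalIdeal M (LinearMap.trace ℂ V (X * C) - LinearMap.trace ℂ V C) := by
  have hMp : M.IsPrime := hM.2.1.isPrime
  have hs : X.IsSemisimple := isSemisimple_of_pow_eq_one (Nat.pow_pos hM.1.pos) hX
  have hmapsC : ∀ μ, Set.MapsTo C (X.eigenspace μ) (X.eigenspace μ) := by
    intro μ v hv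
    have hv' : X v = μ • v := Module.End.mem_eigenspace_iff.mp hv
    apply Module.End.mem_eigenspace_iff.mpr
    have : X (C v) = (X * C) v := rfl
    rw [this, hXC, Module.End.mul_apply, hv', map_smul]
  have hmapsXC : ∀ μ, Set.MapsTo (X * C) (X.eigenspace μ) (X.eigenspace μ) := by
    intro μ v hv
    have h1 := hmapsC μ hv
    have h2 : X (C v) = μ • C v := Module.End.mem_eigenspace_iff.mp h1
    rw [Module.End.mul_apply, h2]
    exact Submodule.smul_mem _ _ h1
  rw [LinearMap.trace_eq_sum_trace_restrict' (isInternal_eigenspace hs) (eigFinite X) hmapsXC,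
    LinearMap.trace_eq_sum_trace_restrict' (isInternal_eigenspace hs) (eigFinite X) hmapsC,
    ← Finset.sum_sub_distrib]
  apply memLocalIdeal_sum hMp
  intro μ hμ
  have hμ' : X.HasEigenvalue μ := by
    have : μ ∈ eigSet X := hμ
    exact mem_eigSet.mp this
  have hres : (X * C).restrict (hmapsXC μ) = μ • C.restrict (hmapsC μ) := by
    ext v
    have h1 := hmapsC μ v.2
    have h2 : X (C v) = μ • C v := Module.End.mem_eigenspace_iff.mp h1
    show ((X * C) (v : V)) = μ • (C (v : V))
    rw [Module.End.mul_apply, h2]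
  rw [hres, map_smul, smul_eq_mul]
  have hfac : μ * LinearMap.trace ℂ (X.eigenspace μ) (C.restrict (hmapsC μ)) -
      LinearMap.trace ℂ (X.eigenspace μ) (C.restrict (hmapsC μ)) =
      (μ - 1) * LinearMap.trace ℂ (X.eigenspace μ) (C.restrict (hmapsC μ)) := by ring
  rw [hfac]
  have hμ1 : MemLocalIdeal M (μ - 1) :=
    memLocalIdeal_sub_one_of_pow_eq_one hM μ k (eigenvalue_pow_eq_one hX hμ')
  have hCn : (C.restrict (hmapsC μ)) ^ n = 1 := by
    rw [Module.End.pow_restrict n (hmapsC μ)]
    ext v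
    simp [hC]
  have hint := isIntegral_trace_of_pow_eq_one hn hCn
  have hR : MemLocalRing M (LinearMap.trace ℂ (X.eigenspace μ) (C.restrict (hmapsC μ))) :=
    memLocalRing_algInt hMp ⟨_, hint⟩
  exact memLocalIdeal_mul_right hMp hμ1 hR

end endo

/-- **Congruence of character values**: `χ (x * c) ≡ χ c` modulo the local ideal when `x` is a
`p`-element commuting with `c`. -/
theorem memLocalIdeal_irr_mul_sub {G : Type*} [Group G] [Finite G] {p : ℕ} {M : Ideal AlgInt}
    (hM : IsPModular p M) (χ : IrrCharacter G) {x c : G} (hxc : x * c = c * x) {k : ℕ}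
    (hx : orderOf x = p ^ k) :
    MemLocalIdeal M ((χ : G → ℂ) (x * c) - (χ : G → ℂ) c) := by
  obtain ⟨n, ρ, hirr, hρ⟩ := χ.2
  rw [← hρ]
  show MemLocalIdeal M (LinearMap.trace ℂ _ (ρ (x * c)) - LinearMap.trace ℂ _ (ρ c))
  rw [map_mul]
  apply memLocalIdeal_trace_mul_sub hM (ρ x) (ρ c) _ (k := k) _ (orderOf_pos c)
    (rho_pow_orderOf ρ c)
  · rw [← map_mul, ← map_mul, hxc]
  · rw [← hx]
    exact rho_pow_orderOf ρ x

end Cfsg.Agent.Lib.Helper16_PCongr
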