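import Mathlib
import Cfsg.Prelude.Def_Blocks
import Cfsg.Agent.Lib.Helper78_LocalRing
import Cfsg.Agent.Lib.Helper78_CentralChar
import Cfsg.Agent.Lib.Helper77_BlockBasics
import Cfsg.Agent.Lib.Helper77_DefectOrder
import Cfsg.Agent.Lib.Helper77_WeakOrth
import Cfsg.Agent.Lib.Helper3_CharEigen
import Cfsg.Agent.Lib.Helper16_PCongr

/-!
# Height-zero characters on defect classes (helper16)

* `memLocalIdeal_ratio_mul_iff` : a ratio of naturals with equal `p`-adic valuation is a unit of
  the local ring.
* `irr_not_memLocalIdeal_of_defectClass` : a height-zero character of `B` is a unit (modulo the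
  local ideal) at an element `y` of a defect class.
* `irr_not_memLocalIdeal_mul_defectClass` : also at `x * y` for a `p`-element `x` of `C_G(y)`.
-/

set_option autoImplicit false
set_option linter.unusedSectionVars false

namespace Cfsg.Agent.Lib.Helper16_HeightZero

open Cfsg Cfsg.Agent.Lib.Helper78_LocalRing Cfsg.Agent.Lib.Helper77_BlockBasics
  Cfsg.Agent.Lib.Helper77_DefectOrder Cfsg.Agent.Lib.Helper16_PCongr

theorem memLocalIdeal_ratio_mul_iff {p : ℕ} {M : Ideal AlgInt} (hM : IsPModular p M) {a b : ℕ}
    (ha : a ≠ 0) (hb : b ≠ 0) (hab : a.factorization p = b.factorization p) {z : ℂ}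
    (hz : MemLocalRing M z) :
    MemLocalIdeal M ((a : ℂ) * z / (b : ℂ)) ↔ MemLocalIdeal M z := by
  have hp : p.Prime := hM.1
  have hMp : M.IsPrime := hM.2.1.isPrime
  set t := a.factorization p with ht
  set a' := a / p ^ t with ha'
  set b' := b / p ^ t with hb'
  have haa : p ^ t * a' = a := Nat.ordProj_mul_ordCompl_eq_self a p
  have hbb : p ^ t * b' = b := by
    rw [hb', hab]
    exact Nat.ordProj_mul_ordCompl_eq_self b p
  have hpa : ¬ p ∣ a' := Nat.not_dvd_ordCompl hp ha
  have hpb : ¬ p ∣ b' := by
    rw [hb', hab]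
    exact Nat.not_dvd_ordCompl hp hb
  have hb'0 : (b' : ℂ) ≠ 0 := by
    intro h
    have : b' = 0 := by exact_mod_cast h
    rw [this, mul_zero] at hbb
    exact hb hbb.symm
  have hpt0 : ((p : ℂ) ^ t) ≠ 0 := pow_ne_zero _ (by exact_mod_cast hp.ne_zero)
  have hrew : (a : ℂ) * z / (b : ℂ) = ((a' : ℂ) / (b' : ℂ)) * z := by
    rw [← haa, ← hbb]
    push_cast
    field_simp
  rw [hrew]
  have huR : MemLocalRing M ((a' : ℂ) / (b' : ℂ)) := memLocalRing_natCast_div hM a' hpb
  have huJ : ¬ MemLocalIdeal M ((a' : ℂ) / (b' : ℂ)) := by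
    intro h
    have h1 := memLocalIdeal_mul_right hMp h (memLocalRing_natCast hMp b')
    rw [div_mul_cancel₀ _ hb'0] at h1
    exact hpa ((memLocalIdeal_natCast_iff hM a').1 h1)
  exact memLocalIdeal_unit_mul_iff hMp huR huJ hz

/-- The `p`-adic valuation of the degree of a height-zero character, against the defect. -/
theorem factorization_add_of_height_zero {G : Type*} [Group G] [Finite G] {p : ℕ}
    {B : Set (IrrCharacter G)} (χ : IrrCharacter G) (hχ : χ ∈ B)
    (h0 : blockHeight p B (χ : G → ℂ) = 0) :
    blockDefect p B + (charDegree (χ : G → ℂ)).factorization p = (Nat.card G).factorization p := by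
  unfold blockHeight at h0
  unfold blockDefect
  set S : Set ℕ := (fun χ : IrrCharacter G => (charDegree (χ : G → ℂ)).factorization p) '' B
    with hS
  have h1 : sInf S ≤ (charDegree (χ : G → ℂ)).factorization p := Nat.sInf_le ⟨χ, hχ, rfl⟩
  have h2 : (charDegree (χ : G → ℂ)).factorization p ≤ sInf S := Nat.sub_eq_zero_iff_le.mp h0
  have h3 := factorization_charDegree_le p χ
  omega

/-- For a height-zero character `χ ∈ B` and a defect class `y` of `B`, the class size of `y` and
the degree of `χ` have the same `p`-part. -/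
theorem factorization_index_eq_of_height_zero {G : Type*} [Group G] [Finite G] {p : ℕ}
    {M : Ideal AlgInt} (hM : IsPModular p M) {B : Set (IrrCharacter G)} (hB : IsPBlock M B)
    {y : G} (hy : IsDefectClass M B y) (χ : IrrCharacter G) (hχ : χ ∈ B)
    (h0 : blockHeight p B (χ : G → ℂ) = 0) :
    ((Subgroup.centralizer ({y} : Set G)).index).factorization p =
      (charDegree (χ : G → ℂ)).factorization p := by
  have h1 := card_defectGroup hM hB hy
  have h2 := factorization_add_of_height_zero χ hχ h0
  have hCpos : 0 < Nat.card (Subgroup.centralizer ({y} : Set G)) := Nat.card_pos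
  have hIpos : (Subgroup.centralizer ({y} : Set G)).index ≠ 0 := Subgroup.index_ne_zero_of_finite
  have hsplit : (Nat.card G).factorization p =
      (Nat.card (Subgroup.centralizer ({y} : Set G))).factorization p +
        ((Subgroup.centralizer ({y} : Set G)).index).factorization p := by
    rw [← Subgroup.card_mul_index (Subgroup.centralizer ({y} : Set G)),
      Nat.factorization_mul hCpos.ne' hIpos]
    rfl
  omega

/-- Character values are local integers. -/
theorem memLocalRing_irr {G : Type*} [Group G] [Finite G] {M : Ideal AlgInt} (hM : M.IsPrime)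
    (χ : IrrCharacter G) (g : G) : MemLocalRing M ((χ : G → ℂ) g) := by
  obtain ⟨n, ρ, hirr, hρ⟩ := χ.2
  rw [← hρ]
  exact memLocalRing_algInt hM ⟨_, Cfsg.Agent.Lib.Helper3_CharEigen.isIntegral_char ρ g⟩

/-- A height-zero character of `B` is nonzero modulo the local ideal on a defect class. -/
theorem irr_not_memLocalIdeal_of_defectClass {G : Type*} [Group G] [Finite G] {p : ℕ}
    {M : Ideal AlgInt} (hM : IsPModular p M) {B : Set (IrrCharacter G)} (hB : IsPBlock M B)
    {y : G} (hy : IsDefectClass M B y) (χ : IrrCharacter G) (hχ : χ ∈ B)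
    (h0 : blockHeight p B (χ : G → ℂ) = 0) : ¬ MemLocalIdeal M ((χ : G → ℂ) y) := by
  have hMp : M.IsPrime := hM.2.1.isPrime
  intro hJ
  apply hy.2.2 χ hχ
  unfold centralChar
  rw [apply_one_eq_charDegree χ]
  rw [memLocalIdeal_ratio_mul_iff hM Subgroup.index_ne_zero_of_finite (charDegree_pos χ).ne'
    (factorization_index_eq_of_height_zero hM hB hy χ hχ h0) (memLocalRing_irr hMp χ y)]
  exact hJ

/-- A height-zero character of `B` is nonzero modulo the local ideal at `x * y`, for `y` in a
defect class and `x` a `p`-element centralizing `y`. -/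
theorem irr_not_memLocalIdeal_mul_defectClass {G : Type*} [Group G] [Finite G] {p : ℕ}
    {M : Ideal AlgInt} (hM : IsPModular p M) {B : Set (IrrCharacter G)} (hB : IsPBlock M B)
    {y : G} (hy : IsDefectClass M B y) (χ : IrrCharacter G) (hχ : χ ∈ B)
    (h0 : blockHeight p B (χ : G → ℂ) = 0) {x : G} (hxy : x * y = y * x) {k : ℕ}
    (hx : orderOf x = p ^ k) : ¬ MemLocalIdeal M ((χ : G → ℂ) (x * y)) := by
  have hMp : M.IsPrime := hM.2.1.isPrime
  intro hJ
  apply irr_not_memLocalIdeal_of_defectClass hM hB hy χ hχ h0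
  have h1 := memLocalIdeal_irr_mul_sub hM χ hxy hx
  have h2 := memLocalIdeal_sub hMp hJ h1
  rwa [sub_sub_cancel] at h2

/-- An element of a defect class is `p`-regular. -/
theorem not_dvd_orderOf_of_defectClass {G : Type*} [Group G] [Finite G] {p : ℕ}
    {M : Ideal AlgInt} (hM : IsPModular p M) {B : Set (IrrCharacter G)} (hB : IsPBlock M B)
    {y : G} (hy : IsDefectClass M B y) : ¬ p ∣ orderOf y := by
  intro hs
  apply hy.2.1
  rw [Cfsg.Agent.Lib.Helper77_WeakOrth.blockCoeff_block_eq_zero_of_sing hM hB y hs]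
  exact memLocalIdeal_zero hM.2.1.isPrime

end Cfsg.Agent.Lib.Helper16_HeightZero
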