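import Mathlib
import Cfsg.Prelude.Def_Blocks
import Cfsg.Agent.Lib.Helper78_LocalRing
import Cfsg.Agent.Lib.Helper77_BlockBasics
import Cfsg.Agent.Lib.Helper16_HeightZero

/-!
# Central characters at `x * y`, `y` a defect class and `x` central in a defect group (helper16)
-/

set_option autoImplicit false
set_option linter.unusedSectionVars false

namespace Cfsg.Agent.Lib.Helper16_CentralDefect

open Cfsg Cfsg.Agent.Lib.Helper78_LocalRing Cfsg.Agent.Lib.Helper77_BlockBasics
  Cfsg.Agent.Lib.Helper16_HeightZero

/-- If `x`, `y` commute with coprime orders then `y` is a power of `x * y`. -/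
theorem exists_pow_eq_right {G : Type*} [Group G] {x y : G} (hc : Commute x y)
    (hxy : Nat.Coprime (orderOf x) (orderOf y)) (hy0 : orderOf y ≠ 0) :
    ∃ E : ℕ, (x * y) ^ E = y := by
  obtain ⟨m, -, hm⟩ := Nat.exists_mul_mod_eq_of_coprime 1 hxy hy0
  refine ⟨orderOf x * m, ?_⟩
  rw [hc.mul_pow, pow_mul, pow_orderOf_eq_one, one_pow, one_mul, ← pow_mod_orderOf, hm,
    pow_mod_orderOf, pow_one]

/-- The orders of the elements of a `p`-subgroup are powers of `p`. -/
theorem exists_orderOf_eq_pow_of_mem {G : Type*} [Group G] {p : ℕ} [hp : Fact p.Prime]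
    {P : Subgroup G} (hP : IsPGroup p P) {x : G} (hx : x ∈ P) : ∃ k : ℕ, orderOf x = p ^ k := by
  obtain ⟨k, hk⟩ := hP ⟨x, hx⟩
  have h1 : x ^ p ^ k = 1 := by
    have := congrArg Subtype.val hk
    simpa using this
  obtain ⟨i, _, hi⟩ := (Nat.dvd_prime_pow hp.out).mp (orderOf_dvd_of_pow_eq_one h1)
  exact ⟨i, hi⟩

/-- For `y` in a defect class of `B`, `P` a Sylow `p`-subgroup of `C_G(y)` and `x ∈ Z(P)`, the
centralizers of `x * y` and of `y` have the same `p`-part of the order. -/
theorem factorization_card_centralizer_mul {G : Type*} [Group G] [Finite G] {p : ℕ}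
    [Fact p.Prime] {y : G} (hy : ¬ p ∣ orderOf y)
    (P : Sylow p (Subgroup.centralizer ({y} : Set G)))
    (x : Subgroup.centralizer ({y} : Set G))
    (hx : x ∈ (P : Subgroup (Subgroup.centralizer ({y} : Set G))))
    (hcen : ∀ w ∈ (P : Subgroup (Subgroup.centralizer ({y} : Set G))), x * w = w * x) :
    (Nat.card (Subgroup.centralizer ({(x : G) * y} : Set G))).factorization p =
      (Nat.card (Subgroup.centralizer ({y} : Set G))).factorization p := by
  have hp : p.Prime := Fact.out
  have hxy : (x : G) * y = y * (x : G) := by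
    have := x.2
    rw [Subgroup.mem_centralizer_iff] at this
    exact (this y (Set.mem_singleton _)).symm
  obtain ⟨k, hk⟩ := exists_orderOf_eq_pow_of_mem P.isPGroup' hx
  have hk' : orderOf (x : G) = p ^ k := by
    rw [← hk]
    exact (Subgroup.orderOf_coe x)
  have hcop : Nat.Coprime (orderOf (x : G)) (orderOf y) := by
    rw [hk']
    apply Nat.Coprime.pow_left
    exact (Nat.Prime.coprime_iff_not_dvd hp).mpr hy
  obtain ⟨E, hE⟩ := exists_pow_eq_right (show Commute (x : G) y from hxy) hcop (orderOf_pos y).ne'
  -- `C_G(g) ≤ C_G(y)`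
  have hle : Subgroup.centralizer ({(x : G) * y} : Set G) ≤
      Subgroup.centralizer ({y} : Set G) := by
    intro c hc
    rw [Subgroup.mem_centralizer_iff] at hc
    have hcg : ((x : G) * y) * c = c * ((x : G) * y) := hc _ (Set.mem_singleton _)
    rw [Subgroup.mem_centralizer_iff]
    intro z hz
    rw [Set.mem_singleton_iff] at hz
    rw [hz, ← hE]
    exact ((Commute.pow_left (show Commute ((x : G) * y) c from hcg) E)).eq
  -- `P ≤ C_G(g)`
  have hPle : (P : Subgroup (Subgroup.centralizer ({y} : Set G))).map
      (Subgroup.centralizer ({y} : Set G)).subtype ≤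
      Subgroup.centralizer ({(x : G) * y} : Set G) := by
    rintro _ ⟨w, hw, rfl⟩
    rw [Subgroup.mem_centralizer_iff]
    intro z hz
    rw [Set.mem_singleton_iff] at hz
    rw [hz]
    have hwy : (w : G) * y = y * (w : G) := by
      have := w.2
      rw [Subgroup.mem_centralizer_iff] at this
      exact (this y (Set.mem_singleton _)).symm
    have hwx : (x : G) * (w : G) = (w : G) * (x : G) := by
      have := congrArg Subtype.val (hcen w hw)
      simpa using this
    simp only [Subgroup.coe_subtype]
    calc (x : G) * y * (w : G) = (x : G) * (y * (w : G)) := by group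
      _ = (x : G) * ((w : G) * y) := by rw [hwy]
      _ = ((x : G) * (w : G)) * y := by group
      _ = ((w : G) * (x : G)) * y := by rw [hwx]
      _ = (w : G) * ((x : G) * y) := by group
  have hcardP : Nat.card ((P : Subgroup (Subgroup.centralizer ({y} : Set G))).map
      (Subgroup.centralizer ({y} : Set G)).subtype) =
      p ^ (Nat.card (Subgroup.centralizer ({y} : Set G))).factorization p := by
    rw [Nat.card_congr ((P : Subgroup (Subgroup.centralizer ({y} : Set G))).equivMapOfInjective
      (Subgroup.centralizer ({y} : Set G)).subtype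
      (Subgroup.centralizer ({y} : Set G)).subtype_injective).symm.toEquiv]
    exact P.card_eq_multiplicity
  have h1 : Nat.card (Subgroup.centralizer ({(x : G) * y} : Set G)) ∣
      Nat.card (Subgroup.centralizer ({y} : Set G)) := Subgroup.card_dvd_of_le hle
  have h2 : p ^ (Nat.card (Subgroup.centralizer ({y} : Set G))).factorization p ∣
      Nat.card (Subgroup.centralizer ({(x : G) * y} : Set G)) := by
    rw [← hcardP]
    exact Subgroup.card_dvd_of_le hPle
  have hCgpos : Nat.card (Subgroup.centralizer ({(x : G) * y} : Set G)) ≠ 0 := Nat.card_pos.ne'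
  have hCypos : Nat.card (Subgroup.centralizer ({y} : Set G)) ≠ 0 := Nat.card_pos.ne'
  apply le_antisymm
  · exact (Nat.factorization_le_iff_dvd hCgpos hCypos).mpr h1 p
  · exact (hp.pow_dvd_iff_le_factorization hCgpos).mp h2

/-- **Central characters at `x * y`**: for `y` in a defect class of `B`, `P` a Sylow `p`-subgroup
of `C_G(y)` and `x ∈ Z(P)`, the central characters of `B` at `x * y` are outside the local
ideal. -/
theorem centralChar_not_memLocalIdeal_mul {G : Type*} [Group G] [Finite G] {p : ℕ}
    [Fact p.Prime] {M : Ideal AlgInt} (hM : IsPModular p M) {B : Set (IrrCharacter G)}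
    (hB : IsPBlock M B) {y : G} (hy : IsDefectClass M B y)
    (P : Sylow p (Subgroup.centralizer ({y} : Set G)))
    (x : Subgroup.centralizer ({y} : Set G))
    (hx : x ∈ (P : Subgroup (Subgroup.centralizer ({y} : Set G))))
    (hcen : ∀ w ∈ (P : Subgroup (Subgroup.centralizer ({y} : Set G))), x * w = w * x)
    (χ : IrrCharacter G) (hχ : χ ∈ B) :
    ¬ MemLocalIdeal M (centralChar (χ : G → ℂ) ((x : G) * y)) := by
  have hMp : M.IsPrime := hM.2.1.isPrime
  have hp : p.Prime := hM.1
  have hreg := not_dvd_orderOf_of_defectClass hM hB hy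
  obtain ⟨χ₀, hχ₀, hmin, -⟩ := exists_height_zero p B (isPBlock_nonempty hMp hB)
  have h0 : blockHeight p B (χ₀ : G → ℂ) = 0 := by
    unfold blockHeight
    rw [Nat.sub_eq_zero_iff_le]
    apply le_csInf
    · exact (isPBlock_nonempty hMp hB).image _
    · rintro _ ⟨ψ, hψ, rfl⟩
      exact hmin ψ hψ
  have hxy : (x : G) * y = y * (x : G) := by
    have := x.2
    rw [Subgroup.mem_centralizer_iff] at this
    exact (this y (Set.mem_singleton _)).symm
  obtain ⟨k, hk⟩ := exists_orderOf_eq_pow_of_mem P.isPGroup' hx
  have hk' : orderOf (x : G) = p ^ k := by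
    rw [← hk]
    exact (Subgroup.orderOf_coe x)
  -- first for `χ₀`
  have hχ₀g : ¬ MemLocalIdeal M (centralChar (χ₀ : G → ℂ) ((x : G) * y)) := by
    have hval := irr_not_memLocalIdeal_mul_defectClass hM hB hy χ₀ hχ₀ h0 hxy hk'
    have hfac : ((Subgroup.centralizer ({(x : G) * y} : Set G)).index).factorization p =
        (charDegree (χ₀ : G → ℂ)).factorization p := by
      rw [← factorization_index_eq_of_height_zero hM hB hy χ₀ hχ₀ h0]
      have e1 := factorization_card_centralizer_mul hreg P x hx hcen
      have hsplit : ∀ C : Subgroup G, (Nat.card G).factorization p =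
          (Nat.card C).factorization p + (C.index).factorization p := by
        intro C
        rw [← Subgroup.card_mul_index C,
          Nat.factorization_mul Nat.card_pos.ne' Subgroup.index_ne_zero_of_finite]
        rfl
      have e2 := hsplit (Subgroup.centralizer ({(x : G) * y} : Set G))
      have e3 := hsplit (Subgroup.centralizer ({y} : Set G))
      omega
    unfold centralChar
    rw [apply_one_eq_charDegree χ₀,
      memLocalIdeal_ratio_mul_iff hM Subgroup.index_ne_zero_of_finite (charDegree_pos χ₀).ne'
        hfac (memLocalRing_irr hMp χ₀ _)]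
    exact hval
  intro hJ
  apply hχ₀g
  have hsb := isPBlock_sameBlock hMp hB hχ₀ hχ ((x : G) * y)
  have := memLocalIdeal_add hMp hsb hJ
  rwa [sub_add_cancel] at this

end Cfsg.Agent.Lib.Helper16_CentralDefect
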