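import Mathlib
import Cfsg.Agent.Lib.Helper78_Defect

/-!
# Group-theoretic lemmas for Brauer's First Main Theorem (helper78)

* `isDefectGroup_card_eq`: two defect groups of a block have the same order;
* `eq_of_isPGroup_of_le_centralizer`: normalizer growth: if `D` is a maximal `p`-subgroup of
  `N_G(D) ∩ C_G(y)`, it is a maximal `p`-subgroup of `C_G(y)`;
* `exists_sylow_eq_of_max`: a maximal `p`-subgroup of `C` is (the image of) a Sylow subgroup;
* `exists_mem_normalizer_conj`: if `D` is a Sylow `p`-subgroup of `C_G(y)` and `y'` is a conjugate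
  of `y` centralizing `D`, then `y` and `y'` are conjugate in `N_G(D)`.
-/

set_option autoImplicit false

namespace Cfsg.Agent.Lib.Helper78_FirstMainGT

open Cfsg Cfsg.Agent.Lib.Helper78_LocalRing Cfsg.Agent.Lib.Helper78_MinMax
  Cfsg.Agent.Lib.Helper78_Defect

universe u
variable {G : Type u} [Group G] {M : Ideal AlgInt} {p : ℕ}

theorem card_map_conj (D : Subgroup G) (x : G) :
    Nat.card (D.map (MulAut.conj x).toMonoidHom) = Nat.card D :=
  Subgroup.card_map_of_injective (MulAut.conj x).injective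

theorem isDefectGroup_card_le [Finite G] [Fact p.Prime] (hM : IsPModular p M)
    {B : Set (IrrCharacter G)} (hB : IsPBlock M B) {D D' : Subgroup G}
    (hD : IsDefectGroup p M B D) (hD' : IsDefectGroup p M B D') : Nat.card D' ≤ Nat.card D := by
  obtain ⟨g, hg, P, rfl⟩ := hD
  obtain ⟨g', hg', P', rfl⟩ := hD'
  obtain ⟨x, hx⟩ := le_conj_of_blockCoeff_not_mem hM hB hg P g' hg'.2.1 _
    (isPGroup_map_sylow _ P') (map_sylow_le _ P')
  calc _ ≤ Nat.card _ := Subgroup.card_le_of_le hx
    _ = _ := card_map_conj _ x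

theorem isDefectGroup_card_eq [Finite G] [Fact p.Prime] (hM : IsPModular p M)
    {B : Set (IrrCharacter G)} (hB : IsPBlock M B) {D D' : Subgroup G}
    (hD : IsDefectGroup p M B D) (hD' : IsDefectGroup p M B D') : Nat.card D' = Nat.card D :=
  le_antisymm (isDefectGroup_card_le hM hB hD hD') (isDefectGroup_card_le hM hB hD' hD)

theorem isDefectGroup_isPGroup {B : Set (IrrCharacter G)} {D : Subgroup G}
    (hD : IsDefectGroup p M B D) : IsPGroup p D := by
  obtain ⟨g, -, P, rfl⟩ := hD
  exact isPGroup_map_sylow _ P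

/-- Normalizer growth. -/
theorem eq_of_isPGroup_of_le_centralizer [Finite G] [Fact p.Prime] {D : Subgroup G} (y : G)
    (hmax : ∀ T : Subgroup G, IsPGroup p T → D ≤ T → T ≤ Subgroup.normalizer (D : Set G) →
      T ≤ Subgroup.centralizer ({y} : Set G) → T = D)
    (T : Subgroup G) (hT : IsPGroup p T) (hDT : D ≤ T)
    (hTy : T ≤ Subgroup.centralizer ({y} : Set G)) : T = D := by
  have h1 : T ⊓ Subgroup.normalizer (D : Set G) = D :=
    hmax _ (hT.to_le inf_le_left) (le_inf hDT Subgroup.le_normalizer) inf_le_right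
      (inf_le_left.trans hTy)
  have hnil : Group.IsNilpotent T := hT.isNilpotent
  have hnc : NormalizerCondition T := normalizerCondition_of_isNilpotent
  have h2 : Subgroup.normalizer ((D.subgroupOf T : Subgroup T) : Set T) = D.subgroupOf T := by
    rw [← Subgroup.subgroupOf_normalizer_eq hDT, ← Subgroup.inf_subgroupOf_left, h1]
  have h3 := (normalizerCondition_iff_only_full_group_self_normalizing.1 hnc) _ h2
  rw [Subgroup.subgroupOf_eq_top] at h3
  exact le_antisymm h3 hDT

/-- A maximal `p`-subgroup of `C` is the image of a Sylow `p`-subgroup of `C`. -/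
theorem exists_sylow_eq_of_max [Finite G] [Fact p.Prime] {D C : Subgroup G} (hD : IsPGroup p D)
    (hDC : D ≤ C)
    (hmax : ∀ T : Subgroup G, IsPGroup p T → D ≤ T → T ≤ C → T = D) :
    ∃ Q : Sylow p C, D = (Q : Subgroup C).map C.subtype := by
  obtain ⟨Q, hQ⟩ := (hD.comap_subtype (K := C)).exists_le_sylow
  have hQ : D.subgroupOf C ≤ (Q : Subgroup C) := hQ
  refine ⟨Q, ?_⟩
  have h1 : D ≤ (Q : Subgroup C).map C.subtype := by
    have := Subgroup.map_mono (f := C.subtype) hQ
    rwa [Subgroup.map_subgroupOf_eq_of_le hDC] at this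
  exact (hmax _ (isPGroup_map_sylow C Q) h1 (map_sylow_le C Q)).symm

/-- The order of the image of a Sylow subgroup of a subgroup. -/
theorem card_map_sylow [Finite G] [Fact p.Prime] (C : Subgroup G) (Q : Sylow p C) :
    Nat.card ((Q : Subgroup C).map C.subtype) = p ^ (Nat.card C).factorization p := by
  rw [Subgroup.card_map_of_injective C.subtype_injective]
  exact Q.card_eq_multiplicity

theorem card_centralizer_conj [Finite G] (g h : G) :
    Nat.card (Subgroup.centralizer ({h * g * h⁻¹} : Set G)) =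
      Nat.card (Subgroup.centralizer ({g} : Set G)) := by
  rw [centralizer_conj]
  exact card_map_conj _ h

/-- Fusion of elements of `C_G(D)` is controlled by `N_G(D)` for classes with defect group `D`. -/
theorem exists_mem_normalizer_conj [Finite G] [Fact p.Prime] {D : Subgroup G} {y y' : G}
    (Q : Sylow p (Subgroup.centralizer ({y} : Set G)))
    (hQ : D = (Q : Subgroup (Subgroup.centralizer ({y} : Set G))).map
      (Subgroup.centralizer ({y} : Set G)).subtype)
    (hy' : D ≤ Subgroup.centralizer ({y'} : Set G)) (hconj : IsConj y y') :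
    ∃ n ∈ Subgroup.normalizer (D : Set G), n * y * n⁻¹ = y' := by
  have hD : IsPGroup p D := by rw [hQ]; exact isPGroup_map_sylow _ Q
  obtain ⟨g, rfl⟩ := isConj_iff.1 hconj
  set C' := Subgroup.centralizer ({g * y * g⁻¹} : Set G) with hC'
  have hcardD : Nat.card D = p ^ (Nat.card C').factorization p := by
    rw [hQ, card_map_sylow, hC', card_centralizer_conj]
  -- `D` is the image of a Sylow subgroup of `C'`
  obtain ⟨Q', hQ'⟩ := (hD.comap_subtype (K := C')).exists_le_sylow
  have hQ' : D.subgroupOf C' ≤ (Q' : Subgroup C') := hQ'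
  have hDQ' : D = (Q' : Subgroup C').map C'.subtype := by
    have h1 : D ≤ (Q' : Subgroup C').map C'.subtype := by
      have := Subgroup.map_mono (f := C'.subtype) hQ'
      rwa [Subgroup.map_subgroupOf_eq_of_le hy'] at this
    refine Subgroup.eq_of_le_of_card_ge h1 ?_
    rw [card_map_sylow, hcardD]
  -- `g D g⁻¹ ≤ C'`
  have hT : D.map (MulAut.conj g).toMonoidHom ≤ C' := by
    rintro _ ⟨d, hd, rfl⟩
    have hdy : d ∈ Subgroup.centralizer ({y} : Set G) := by
      rw [hQ] at hd
      exact map_sylow_le _ Q hd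
    rw [hC', centralizer_conj]
    exact ⟨d, hdy, rfl⟩
  obtain ⟨c, hc, hTc⟩ := exists_conj_sylow_ge C' Q' _ (hD.map _) hT
  rw [← hDQ'] at hTc
  have heq : D.map (MulAut.conj g).toMonoidHom = D.map (MulAut.conj c).toMonoidHom :=
    Subgroup.eq_of_le_of_card_ge hTc (by rw [card_map_conj, card_map_conj])
  refine ⟨c⁻¹ * g, ?_, ?_⟩
  · rw [Subgroup.mem_set_normalizer_iff]
    intro h
    constructor
    · intro hh
      have h1 : g * h * g⁻¹ ∈ D.map (MulAut.conj c).toMonoidHom := by
        rw [← heq]; exact ⟨h, hh, rfl⟩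
      obtain ⟨d, hd, hdc⟩ := h1
      simp only [MulEquiv.coe_toMonoidHom, MulAut.conj_apply] at hdc
      have : c⁻¹ * g * h * (c⁻¹ * g)⁻¹ = c⁻¹ * (g * h * g⁻¹) * c := by group
      rw [SetLike.mem_coe, this, ← hdc]
      have : c⁻¹ * (c * d * c⁻¹) * c = d := by group
      rw [this]
      exact hd
    · intro hh
      have h1 : c * (c⁻¹ * g * h * (c⁻¹ * g)⁻¹) * c⁻¹ ∈ D.map (MulAut.conj g).toMonoidHom := by
        rw [heq]; exact ⟨_, hh, rfl⟩
      obtain ⟨d, hd, hdc⟩ := h1
      have hdc : g * d * g⁻¹ = c * (c⁻¹ * g * h * (c⁻¹ * g)⁻¹) * c⁻¹ := hdc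
      have : h = d := by
        have h2 : c * (c⁻¹ * g * h * (c⁻¹ * g)⁻¹) * c⁻¹ = g * h * g⁻¹ := by group
        rw [h2] at hdc
        have := congrArg (fun z => g⁻¹ * z * g) hdc
        beta_reduce at this
        have e1 : g⁻¹ * (g * d * g⁻¹) * g = d := by group
        have e2 : g⁻¹ * (g * h * g⁻¹) * g = h := by group
        rw [e1, e2] at this
        exact this.symm
      rw [SetLike.mem_coe, this]
      exact hd
  · have hcc := Subgroup.mem_centralizer_iff.1 hc (g * y * g⁻¹) rfl
    calc c⁻¹ * g * y * (c⁻¹ * g)⁻¹ = c⁻¹ * ((g * y * g⁻¹) * c) := by group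
      _ = c⁻¹ * (c * (g * y * g⁻¹)) := by rw [hcc]
      _ = g * y * g⁻¹ := by group

end Cfsg.Agent.Lib.Helper78_FirstMainGT
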