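import Mathlib
import Cfsg.Prelude.Def_Blocks
import Cfsg.Agent.Lib.Helper78_LocalRing
import Cfsg.Agent.Lib.Helper78_CentralChar
import Cfsg.Agent.Lib.Helper78_Osima
import Cfsg.Agent.Lib.Helper78_CharFacts
import Cfsg.Agent.Lib.Helper78_MinMax
import Cfsg.Agent.Lib.Helper78_Defect
import Cfsg.Agent.Lib.Helper78_BrauerMap
import Cfsg.Agent.Lib.Helper78_BrDecomp
import Cfsg.Agent.Lib.Helper78_FirstMainGT
import Cfsg.Agent.Lib.Helper78_PRegSum
import Cfsg.Agent.Lib.Helper78_SecondMainChar
import Cfsg.Agent.Lib.Helper77_DefectOrder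

/-!
# Induced blocks: uniqueness, defects, and Brauer's deficiency classes (helper78)

* `isInducedBlock_unique`: a block induces at most one block.
* `exists_isDefectGroup`, `card_isDefectGroup`.
* `blockDefect_le_of_induced`: `d(b) ≤ d(b^G)`.
* `exists_block_centralizer_defect_ge`: for a block `B` of positive defect there are an element `y`
  of order `p` and a block of `C_G(y)` inducing `B` with defect at least that of `B`.
* `deficiency_class`: S4717.
-/

set_option autoImplicit false
set_option linter.unusedSectionVars false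

namespace Cfsg.Agent.Lib.Helper78_Deficiency

open Cfsg Cfsg.Agent.Lib.Helper78_LocalRing Cfsg.Agent.Lib.Helper78_CentralChar
  Cfsg.Agent.Lib.Helper78_Osima Cfsg.Agent.Lib.Helper78_CharFacts
  Cfsg.Agent.Lib.Helper78_BrauerMap Cfsg.Agent.Lib.Helper78_BrDecomp
  Cfsg.Agent.Lib.Helper78_MinMax Cfsg.Agent.Lib.Helper78_Defect
  Cfsg.Agent.Lib.Helper78_FirstMainGT Cfsg.Agent.Lib.Helper78_PRegSum
  Cfsg.Agent.Lib.Helper78_SecondMainChar

universe u

variable {G : Type u} [Group G] {M : Ideal AlgInt} {p : ℕ}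

/-- A block induces at most one block. -/
theorem isInducedBlock_unique (hM : M.IsPrime) {H : Subgroup G} {b : Set (IrrCharacter H)}
    {B₁ B₂ : Set (IrrCharacter G)} (h1 : IsInducedBlock M H b B₁)
    (h2 : IsInducedBlock M H b B₂) : B₁ = B₂ := by
  obtain ⟨ξ, hξ⟩ := isPBlock_nonempty hM h1.1
  obtain ⟨χ₁, hχ₁⟩ := isPBlock_nonempty hM h1.2.1
  obtain ⟨χ₂, hχ₂⟩ := isPBlock_nonempty hM h2.2.1
  have hsb : SameBlock M (χ₁ : G → ℂ) (χ₂ : G → ℂ) := by
    intro g
    have e1 := h1.2.2 ξ hξ χ₁ hχ₁ g
    have e2 := h2.2.2 ξ hξ χ₂ hχ₂ g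
    have := memLocalIdeal_sub hM e2 e1
    have h3 : inducedCentralChar H (ξ : H → ℂ) g - centralChar (χ₂ : G → ℂ) g -
        (inducedCentralChar H (ξ : H → ℂ) g - centralChar (χ₁ : G → ℂ) g) =
        centralChar (χ₁ : G → ℂ) g - centralChar (χ₂ : G → ℂ) g := by ring
    rwa [h3] at this
  exact isPBlock_eq_of_mem_of_mem hM h1.2.1 h2.2.1
    (isPBlock_mem_of_sameBlock hM h1.2.1 hχ₁ (sameBlock_refl hM _))
    (isPBlock_mem_of_sameBlock hM h2.2.1 hχ₂ (sameBlock_symm hsb))

/-- Every block has a defect group. -/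
theorem exists_isDefectGroup [Finite G] [Fact p.Prime] (hM : IsPModular p M)
    {B : Set (IrrCharacter G)} (hB : IsPBlock M B) : ∃ D : Subgroup G, IsDefectGroup p M B D := by
  obtain ⟨g, hg⟩ := exists_isDefectClass' (isPrime_of_isPModular hM) hB
  obtain ⟨P⟩ : Nonempty (Sylow p (Subgroup.centralizer ({g} : Set G))) := inferInstance
  exact ⟨_, g, hg, P, rfl⟩

/-- The order of a defect group (S0908, helper77). -/
theorem card_isDefectGroup [Finite G] [Fact p.Prime] (hM : IsPModular p M)
    {B : Set (IrrCharacter G)} (hB : IsPBlock M B) {D : Subgroup G}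
    (hD : IsDefectGroup p M B D) : Nat.card D = p ^ blockDefect p B := by
  obtain ⟨g, hg, P, rfl⟩ := hD
  rw [← Cfsg.Agent.Lib.Helper77_DefectOrder.card_defectGroup hM hB hg,
    Subgroup.card_map_of_injective (Subgroup.subtype_injective _)]
  exact P.card_eq_multiplicity

/-- The defect of an induced block is at least the defect of the inducing block. -/
theorem blockDefect_le_of_induced [Finite G] [hp : Fact p.Prime] (hM : IsPModular p M)
    (H : Subgroup G) {b : Set (IrrCharacter H)} {B : Set (IrrCharacter G)}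
    (hind : IsInducedBlock M H b B) : blockDefect p b ≤ blockDefect p B := by
  obtain ⟨D', hD'⟩ := exists_isDefectGroup hM hind.1
  obtain ⟨E, hE, hle⟩ := exists_isDefectGroup_ge_of_induced hM H hind.1 hind.2.1 hind D' hD'
  have h1 : Nat.card D' = p ^ blockDefect p b := card_isDefectGroup hM hind.1 hD'
  have h2 : Nat.card E = p ^ blockDefect p B := card_isDefectGroup hM hind.2.1 hE
  have h3 : Nat.card (D'.map H.subtype) = Nat.card D' :=
    Subgroup.card_map_of_injective H.subtype_injective
  have h4 : Nat.card (D'.map H.subtype) ≤ Nat.card E := Subgroup.card_le_of_le hle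
  rw [h3, h1, h2] at h4
  exact (Nat.pow_le_pow_iff_right hp.1.one_lt).mp h4

/-- The local facts for the centralizer of a `p`-element. -/
theorem centralizer_facts {y : G} (hy : ∃ k : ℕ, orderOf y = p ^ k) :
    IsPGroup p (Subgroup.zpowers y) ∧
    Subgroup.zpowers y ≤ Subgroup.centralizer ({y} : Set G) ∧
    Subgroup.centralizer ((Subgroup.zpowers y : Subgroup G) : Set G) ≤
      Subgroup.centralizer ({y} : Set G) ∧
    Subgroup.centralizer ({y} : Set G) ≤
      Subgroup.normalizer ((Subgroup.zpowers y : Subgroup G) : Set G) := by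
  refine ⟨?_, ?_, ?_, ?_⟩
  · obtain ⟨k, hk⟩ := hy
    exact IsPGroup.of_card_dvd_pow (n := k) (by rw [Nat.card_zpowers, hk])
  · rw [Subgroup.zpowers_le, Subgroup.mem_centralizer_iff]
    intro k hk
    rw [Set.mem_singleton_iff] at hk
    rw [hk]
  · apply Subgroup.centralizer_le
    intro k hk
    rw [Set.mem_singleton_iff] at hk
    rw [hk]
    exact Subgroup.mem_zpowers y
  · exact le_trans (centralizer_singleton_le_zpowers y)
      (Subgroup.centralizer_le_normalizer _)

/-- For a block `B` of positive defect there are an element `y` of order `p` and a block of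
`C_G(y)` inducing `B` whose defect is at least the defect of `B`. -/
theorem exists_block_centralizer_defect_ge [Finite G] [hp : Fact p.Prime] (hM : IsPModular p M)
    {B : Set (IrrCharacter G)} (hB : IsPBlock M B) (hpos : 0 < blockDefect p B) :
    ∃ y : G, orderOf y = p ∧ ∃ b : Set (IrrCharacter (Subgroup.centralizer ({y} : Set G))),
      IsInducedBlock M (Subgroup.centralizer ({y} : Set G)) b B ∧
        blockDefect p B ≤ blockDefect p b := by
  classical
  have := Fintype.ofFinite G
  have hMp := isPrime_of_isPModular hM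
  obtain ⟨x₀, hx₀⟩ := exists_isDefectClass' hMp hB
  obtain ⟨P⟩ : Nonempty (Sylow p (Subgroup.centralizer ({x₀} : Set G))) := inferInstance
  set D : Subgroup G := (P : Subgroup (Subgroup.centralizer ({x₀} : Set G))).map
    (Subgroup.centralizer ({x₀} : Set G)).subtype with hD
  have hDdef : IsDefectGroup p M B D := ⟨x₀, hx₀, P, rfl⟩
  have hDcard : Nat.card D = p ^ blockDefect p B := card_isDefectGroup hM hB hDdef
  have hDp : IsPGroup p D := isPGroup_map_sylow _ P
  have hDx₀ : D ≤ Subgroup.centralizer ({x₀} : Set G) := map_sylow_le _ P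
  -- an element of order `p` in the centre of `D`
  have hDnt : Nontrivial D := by
    rw [hDp.nontrivial_iff_card]
    exact ⟨_, hpos, hDcard⟩
  have hZnt : Nontrivial (Subgroup.center D) := hDp.center_nontrivial
  have hZp : IsPGroup p (Subgroup.center D) := hDp.to_subgroup _
  obtain ⟨n, hn0, hn⟩ := hZp.nontrivial_iff_card.mp hZnt
  have hdvd : p ∣ Nat.card (Subgroup.center D) := hn.symm ▸ dvd_pow_self _ (ne_of_gt hn0)
  obtain ⟨y₀, hy₀⟩ := exists_prime_orderOf_dvd_card' p hdvd
  set y : G := ((y₀ : D) : G) with hy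
  have hyord : orderOf y = p := by
    rw [hy, Subgroup.orderOf_coe, Subgroup.orderOf_coe, hy₀]
  have hyD : y ∈ D := (y₀ : D).2
  have hycomm : ∀ d ∈ D, d * y = y * d := by
    intro d hd
    have h1 := Subgroup.mem_center_iff.mp y₀.2 ⟨d, hd⟩
    have h2 := congrArg Subtype.val h1
    simpa using h2
  refine ⟨y, hyord, ?_⟩
  have hyk : ∃ k : ℕ, orderOf y = p ^ k := ⟨1, by rw [hyord, pow_one]⟩
  obtain ⟨hP', hPH, hCH, hHN⟩ := centralizer_facts (p := p) hyk
  have hx₀y : x₀ * y = y * x₀ := by
    have := Subgroup.mem_centralizer_iff.mp (hDx₀ hyD) x₀ (Set.mem_singleton x₀)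
    exact this
  have hx₀C : x₀ ∈ Subgroup.centralizer ({y} : Set G) := by
    rw [Subgroup.mem_centralizer_iff]
    intro k hk
    rw [Set.mem_singleton_iff] at hk
    rw [hk]
    exact hx₀y.symm
  have hDC : D ≤ Subgroup.centralizer ({y} : Set G) := by
    intro d hd
    rw [Subgroup.mem_centralizer_iff]
    intro k hk
    rw [Set.mem_singleton_iff] at hk
    rw [hk]
    exact (hycomm d hd).symm
  obtain ⟨b, hind, hb0⟩ := exists_block_inducing hM hP' hPH hCH hHN hB ⟨x₀, hx₀C⟩
    (centralizer_singleton_le_zpowers y hx₀C) hx₀.2.1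
  refine ⟨b, hind, ?_⟩
  -- compare the defect groups inside `C_G(y)`
  obtain ⟨g_b, hg_b⟩ := exists_isDefectClass' hMp hind.1
  obtain ⟨P_b⟩ : Nonempty (Sylow p (Subgroup.centralizer
    ({g_b} : Set (Subgroup.centralizer ({y} : Set G))))) := inferInstance
  have hS : IsPGroup p (D.subgroupOf (Subgroup.centralizer ({y} : Set G))) :=
    hDp.comap_subtype
  have hSh : D.subgroupOf (Subgroup.centralizer ({y} : Set G)) ≤
      Subgroup.centralizer ({(⟨x₀, hx₀C⟩ : Subgroup.centralizer ({y} : Set G))} :
        Set (Subgroup.centralizer ({y} : Set G))) := by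
    intro d hd
    rw [Subgroup.mem_centralizer_iff]
    intro k hk
    rw [Set.mem_singleton_iff] at hk
    rw [hk]
    have hd' : (d : G) ∈ D := hd
    have := Subgroup.mem_centralizer_iff.mp (hDx₀ hd') x₀ (Set.mem_singleton x₀)
    exact Subtype.ext this
  obtain ⟨x, hx⟩ := le_conj_of_blockCoeff_not_mem hM hind.1 hg_b P_b ⟨x₀, hx₀C⟩ hb0 _ hS hSh
  have h1 : Nat.card (D.subgroupOf (Subgroup.centralizer ({y} : Set G))) = Nat.card D :=
    Nat.card_congr (Subgroup.subgroupOfEquivOfLe hDC).toEquiv
  have h2 := Subgroup.card_le_of_le hx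
  rw [card_map_conj, h1, hDcard,
    card_isDefectGroup hM hind.1 ⟨g_b, hg_b, P_b, rfl⟩] at h2
  exact (Nat.pow_le_pow_iff_right hp.1.one_lt).mp h2

/-- **Brauer's deficiency classes** (S4717). -/
theorem deficiency_class [Finite G] [Fact p.Prime] (hM : IsPModular p M) (r : ℕ) :
    ((∀ B' : Set (IrrCharacter G), IsPBlock M B' → B' ≠ principalBlock M G →
        blockDefect p B' < r) →
      ∀ y : G, (∃ k : ℕ, orderOf y = p ^ k) →
        (∀ B' : Set (IrrCharacter ↥(Subgroup.centralizer ({y} : Set G))), IsPBlock M B' →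
          B' ≠ principalBlock M ↥(Subgroup.centralizer ({y} : Set G)) →
          blockDefect p B' < r)) ∧
    (0 < r →
      (∀ y : G, orderOf y = p →
        (∀ B' : Set (IrrCharacter ↥(Subgroup.centralizer ({y} : Set G))), IsPBlock M B' →
          B' ≠ principalBlock M ↥(Subgroup.centralizer ({y} : Set G)) →
          blockDefect p B' < r)) →
      (∀ B' : Set (IrrCharacter G), IsPBlock M B' → B' ≠ principalBlock M G →
        blockDefect p B' < r)) := by
  have hMp := isPrime_of_isPModular hM
  constructor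
  · intro hG y hy B' hB' hne
    obtain ⟨B, hind⟩ := inducedBlockDefined_centralizer hM hy hB'
    have hBne : B ≠ principalBlock M G := by
      intro h
      rw [h] at hind
      exact hne ((third_main hM _ B' ⟨_, hind⟩).mp hind)
    exact lt_of_le_of_lt (blockDefect_le_of_induced hM _ hind) (hG B hind.2.1 hBne)
  · intro hr hC B' hB' hne
    by_contra hcon
    push Not at hcon
    have hpos : 0 < blockDefect p B' := lt_of_lt_of_le hr hcon
    obtain ⟨y, hy, b, hind, hle⟩ := exists_block_centralizer_defect_ge hM hB' hpos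
    have hbne : b ≠ principalBlock M ↥(Subgroup.centralizer ({y} : Set G)) := by
      intro h
      have h1 := (third_main hM _ b ⟨_, hind⟩).mpr h
      exact hne (isInducedBlock_unique hMp hind h1)
    have := hC y hy b hind.1 hbne
    omega

end Cfsg.Agent.Lib.Helper78_Deficiency
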