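import Mathlib
import Cfsg.Agent.Lib.Helper78_CentralNil
import Cfsg.Agent.Lib.Helper3_CharEigen

/-!
# Central characters are congruent to class sizes on `p`-sections (helper16)

* `memLocalIdeal_of_mapDomain_eq_zero` : an element `s` of `ℤ[H]` acting as a scalar `lam` whose
  reduction mod `p` dies in `(ZMod p)[H/Q]` (`Q` a normal `p`-subgroup) has `lam` in the local ideal.
* `memLocalIdeal_centralChar_sub_index_rep` : general form for class sums (through a hom `π`).
* `memLocalIdeal_centralChar_sub_index_of_mem` : `g` in a normal `p`-subgroup: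
  `ω_χ(g) ≡ |class of g|` modulo the local ideal.
* `sameBlock_one_of_quotient_isPGroup` : `χ` trivial on `N` with `G/N` a `p`-group lies in the
  principal block; `sameBlock_one_of_isPGroup` : a `p`-group has only the principal block.
-/

set_option autoImplicit false

namespace Cfsg.Agent.Lib.Helper16_PBlock

open Cfsg Cfsg.Agent.Lib.Helper78_LocalRing Cfsg.Agent.Lib.Helper78_CentralChar
  Cfsg.Agent.Lib.Helper78_AugNilp Cfsg.Agent.Lib.Helper78_CentralNil

variable {M : Ideal AlgInt} {p : ℕ}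

section Abstract

variable {H : Type*} [Group H] [Finite H]
variable {V : Type*} [AddCommGroup V] [Module ℂ V] [Nontrivial V]

theorem memLocalIdeal_of_mapDomain_eq_zero (hM : IsPModular p M)
    (ρH : H →* Module.End ℂ V) (Q : Subgroup H) [Q.Normal] (hQ : IsPGroup p Q)
    (s : MonoidAlgebra ℤ H) (lam : ℂ) (hlam : IsIntegral ℤ lam)
    (hs : MonoidAlgebra.lift ℤ (Module.End ℂ V) H ρH s = algebraMap ℂ (Module.End ℂ V) lam)
    (hmap : MonoidAlgebra.mapDomain (QuotientGroup.mk : H → H ⧸ Q)
      (MonoidAlgebra.mapRingHom H (Int.castRingHom (ZMod p)) s) = 0) :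
    MemLocalIdeal M lam := by
  classical
  have hMp := isPrime_of_isPModular hM
  have hp : Fact p.Prime := ⟨hM.1⟩
  obtain ⟨n, hn⟩ := isNilpotent_of_mapDomain_eq_zero p (ZMod p) Q hQ _ hmap
  have hsn : MonoidAlgebra.mapRingHom H (Int.castRingHom (ZMod p)) (s ^ n) = 0 := by
    rw [map_pow, hn]
  obtain ⟨z, hz⟩ := exists_eq_smul_of_map_eq_zero p (s ^ n) hsn
  let φ : MonoidAlgebra ℤ H →ₐ[ℤ] Module.End ℂ V := MonoidAlgebra.lift ℤ (Module.End ℂ V) H ρH
  have hφz : IsIntegral ℤ (φ z) := (IsIntegral.of_finite ℤ z).map φ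
  have h1 : φ (s ^ n) = algebraMap ℂ (Module.End ℂ V) (lam ^ n) := by
    rw [map_pow, map_pow]
    congr 1
  have hpne : (p : ℂ) ≠ 0 := by exact_mod_cast hM.1.ne_zero
  have h2 : φ z = algebraMap ℂ (Module.End ℂ V) (lam ^ n / (p : ℂ)) := by
    have h3 : φ (s ^ n) = (p : ℤ) • φ z := by rw [hz, map_smul]
    rw [h1] at h3
    rw [Algebra.algebraMap_eq_smul_one] at h3 ⊢
    have h4 : (lam ^ n / (p : ℂ)) • (1 : Module.End ℂ V) = (p : ℂ)⁻¹ • (lam ^ n • 1) := by
      rw [smul_smul, div_eq_inv_mul]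
    rw [h4, h3, ← Int.cast_smul_eq_zsmul ℂ, Int.cast_natCast, smul_smul, inv_mul_cancel₀ hpne,
      one_smul]
  have hinj : Function.Injective (algebraMap ℂ (Module.End ℂ V)) :=
    (algebraMap ℂ (Module.End ℂ V)).injective
  rw [h2] at hφz
  have hint : IsIntegral ℤ (lam ^ n / (p : ℂ)) := (isIntegral_algebraMap_iff hinj).1 hφz
  have hlamR : MemLocalRing M lam := by
    have := memLocalRing_algInt hMp ⟨lam, hlam⟩
    simpa using this
  have hpow : MemLocalIdeal M (lam ^ n) := by
    have h5 : lam ^ n = (p : ℂ) * (lam ^ n / (p : ℂ)) := by field_simp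
    rw [h5]
    refine memLocalIdeal_mul_right hMp ((memLocalIdeal_natCast_iff hM p).2 dvd_rfl) ?_
    have := memLocalRing_algInt hMp ⟨lam ^ n / (p : ℂ), hint⟩
    simpa using this
  exact memLocalIdeal_of_pow hMp hlamR n hpow

end Abstract

section Rep

variable {G : Type*} [Group G] [Fintype G]
variable {V : Type*} [AddCommGroup V] [Module ℂ V] [FiniteDimensional ℂ V]

/-- General form: `ρ = ρH ∘ π`, `Q` a normal `p`-subgroup of `H`, and `π` maps the class of `g`
into `Q`; then `ω_ρ(g) ≡ |class of g|`. -/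
theorem memLocalIdeal_centralChar_sub_index_rep (hM : IsPModular p M)
    (ρ : Representation ℂ G V) [ρ.IsIrreducible]
    {H : Type*} [Group H] [Finite H] (π : G →* H) (ρH : H →* Module.End ℂ V)
    (hρ : ∀ x, ρH (π x) = ρ x) (Q : Subgroup H) [Q.Normal] (hQ : IsPGroup p Q) (g : G)
    (hg : ∀ k : G, IsConj g k → π k ∈ Q) :
    MemLocalIdeal M
      (centralChar ρ.character g - ((Subgroup.centralizer ({g} : Set G)).index : ℂ)) := by
  classical
  have := nontrivial_of_irreducible ρ
  let s : MonoidAlgebra ℤ H :=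
    ∑ k ∈ Finset.univ.filter (fun k : G => IsConj g k), MonoidAlgebra.single (π k) (1 : ℤ)
      - MonoidAlgebra.single 1 (((Finset.univ.filter (fun k : G => IsConj g k)).card : ℤ))
  have hcard := card_conjClass_filter g
  refine memLocalIdeal_of_mapDomain_eq_zero hM ρH Q hQ s _ ?_ ?_ ?_
  · exact (isIntegral_centralChar ρ g).sub (isIntegral_natCast _)
  · -- the scalar
    have h1 : MonoidAlgebra.lift ℤ (Module.End ℂ V) H ρH s
        = classSumOp ρ g - ((Finset.univ.filter (fun k : G => IsConj g k)).card : ℤ) • 1 := by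
      simp only [s, map_sub, map_sum, MonoidAlgebra.lift_single, one_smul, map_one, hρ]
      rfl
    rw [h1, classSumOp_eq_smul, ← hcard, map_sub, map_natCast,
      Algebra.algebraMap_eq_smul_one]
    simp
    rfl
  · -- the image in `(ZMod p)[H/Q]` vanishes
    have h1 : ∀ y : MonoidAlgebra (ZMod p) H,
        MonoidAlgebra.mapDomain (QuotientGroup.mk : H → H ⧸ Q) y =
        MonoidAlgebra.mapDomainRingHom (ZMod p) (QuotientGroup.mk' Q) y := fun y => rfl
    have e1 : ∀ k ∈ Finset.univ.filter (fun k : G => IsConj g k),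
        MonoidAlgebra.mapDomainRingHom (ZMod p) (QuotientGroup.mk' Q)
          (MonoidAlgebra.mapRingHom H (Int.castRingHom (ZMod p))
            (MonoidAlgebra.single (π k) (1 : ℤ)))
        = MonoidAlgebra.single (1 : H ⧸ Q) (1 : ZMod p) := by
      intro k hk
      rw [MonoidAlgebra.mapRingHom_single, ← h1, MonoidAlgebra.mapDomain_single, map_one]
      congr 1
      exact (QuotientGroup.eq_one_iff _).2 (hg k (Finset.mem_filter.mp hk).2)
    rw [h1]
    simp only [s, map_sub, map_sum]
    rw [Finset.sum_congr rfl e1, Finset.sum_const, MonoidAlgebra.mapRingHom_single, ← h1,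
      MonoidAlgebra.mapDomain_single]
    rw [sub_eq_zero, QuotientGroup.mk_one]
    ext x
    simp

end Rep

section Irr

universe u
variable {G : Type u} [Group G]

theorem centralChar_one (g : G) :
    centralChar (fun _ : G => (1 : ℂ)) g = ((Subgroup.centralizer ({g} : Set G)).index : ℂ) := by
  simp [centralChar]

/-- `ω_χ(g) ≡ |class of g|` for `g` in a normal `p`-subgroup. -/
theorem memLocalIdeal_centralChar_sub_index_of_mem [Finite G] (hM : IsPModular p M)
    (Q : Subgroup G) [Q.Normal] (hQ : IsPGroup p Q) {χ : G → ℂ} (hχ : IsIrrCharacter G χ)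
    {g : G} (hg : g ∈ Q) :
    MemLocalIdeal M (centralChar χ g - ((Subgroup.centralizer ({g} : Set G)).index : ℂ)) := by
  classical
  have := Fintype.ofFinite G
  obtain ⟨n, ρ, hρ, rfl⟩ := hχ
  refine memLocalIdeal_centralChar_sub_index_rep hM ρ (MonoidHom.id G) ρ (fun x => rfl) Q hQ g ?_
  intro k hk
  obtain ⟨c, rfl⟩ := isConj_iff.mp hk
  exact ‹Q.Normal›.conj_mem g hg c

/-- an irreducible character trivial on `N` with `G/N` a `p`-group: `ω_χ(g) ≡ |class of g|`. -/
theorem memLocalIdeal_centralChar_sub_index_of_quotient [Finite G] (hM : IsPModular p M)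
    (N : Subgroup G) [N.Normal] (hN : IsPGroup p (G ⧸ N)) {χ : G → ℂ} (hχ : IsIrrCharacter G χ)
    (hχN : ∀ n ∈ N, χ n = χ 1) (g : G) :
    MemLocalIdeal M (centralChar χ g - ((Subgroup.centralizer ({g} : Set G)).index : ℂ)) := by
  classical
  have := Fintype.ofFinite G
  obtain ⟨n, ρ, hρ, rfl⟩ := hχ
  have hker : ∀ x ∈ N, ρ x = 1 := by
    intro x hx
    have h1 := hχN x hx
    rw [Representation.char_one] at h1
    exact (Cfsg.Agent.Lib.Helper3_CharEigen.char_eq_finrank_iff ρ x).mp h1
  let ρH : G ⧸ N →* Module.End ℂ (Fin n → ℂ) := QuotientGroup.lift N ρ hker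
  refine memLocalIdeal_centralChar_sub_index_rep hM ρ (QuotientGroup.mk' N) ρH (fun x => rfl)
    ⊤ (hN.to_subgroup ⊤) g ?_
  intro k _
  exact Subgroup.mem_top _

theorem sameBlock_one_iff {χ : G → ℂ} :
    SameBlock M χ (fun _ : G => (1 : ℂ)) ↔ ∀ g : G,
      MemLocalIdeal M (centralChar χ g - ((Subgroup.centralizer ({g} : Set G)).index : ℂ)) := by
  unfold SameBlock
  simp only [centralChar_one]

/-- an irreducible character trivial on `N` with `G/N` a `p`-group lies in the principal block -/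
theorem sameBlock_one_of_quotient_isPGroup [Finite G] (hM : IsPModular p M)
    (N : Subgroup G) [N.Normal] (hN : IsPGroup p (G ⧸ N)) {χ : G → ℂ} (hχ : IsIrrCharacter G χ)
    (hχN : ∀ n ∈ N, χ n = χ 1) : SameBlock M χ (fun _ : G => (1 : ℂ)) :=
  sameBlock_one_iff.mpr (memLocalIdeal_centralChar_sub_index_of_quotient hM N hN hχ hχN)

/-- a `p`-group has only one block -/
theorem sameBlock_one_of_isPGroup [Finite G] (hM : IsPModular p M) (hG : IsPGroup p G)
    {χ : G → ℂ} (hχ : IsIrrCharacter G χ) : SameBlock M χ (fun _ : G => (1 : ℂ)) := by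
  rw [sameBlock_one_iff]
  intro g
  exact memLocalIdeal_centralChar_sub_index_of_mem hM ⊤ (hG.to_subgroup ⊤) hχ (Subgroup.mem_top g)

end Irr

end Cfsg.Agent.Lib.Helper16_PBlock
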