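import Mathlib
import Cfsg.Prelude.Def_Blocks
import Cfsg.Agent.Lib.Helper78_LocalRing
import Cfsg.Agent.Lib.Helper78_CentralChar
import Cfsg.Agent.Lib.Helper78_CharFacts
import Cfsg.Agent.Lib.Helper78_PRegSum
import Cfsg.Agent.Lib.Helper78_SecondMainChar
import Cfsg.Agent.Lib.Helper78_Deficiency
import Cfsg.Agent.Lib.Helper80_CharBasic
import Cfsg.Agent.Lib.Helper80_CharComplete
import Cfsg.Agent.Lib.Helper16_Char
import Cfsg.Agent.Lib.Helper16_BlockOrth
import Cfsg.Agent.Lib.Helper16_CentralDefect
import Cfsg.Agent.Lib.Helper16_InducedFusion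
import Cfsg.Agent.Lib.Helper16_PrincipalSection
import Cfsg.Agent.Lib.Helper16_Quot
import Cfsg.Agent.Lib.Helper1_Cores
import Cfsg.Agent.S0939

/-!
# The norm of the principal block column at `z * y` (helper16)

For a `p`-element `z` with centralizer `H` and a `p`-regular `y ∈ H`:
`∑_{ζ ∈ B₀(G)} |ζ (z y)|² = ∑_{χ ∈ B₀(H)} |χ y|²`.
-/

set_option autoImplicit false
set_option linter.unusedSectionVars false

namespace Cfsg.Agent.Lib.Helper16_SectionNorm

open Cfsg Cfsg.Agent.Lib.Helper78_LocalRing Cfsg.Agent.Lib.Helper78_CentralChar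
  Cfsg.Agent.Lib.Helper78_CharFacts Cfsg.Agent.Lib.Helper16_Char
  Cfsg.Agent.Lib.Helper16_PrincipalSection Cfsg.Agent.Lib.Helper16_InducedFusion
  Cfsg.Agent.Lib.Helper16_CentralDefect

open scoped ComplexConjugate

section

variable {G : Type*} [Group G] [Finite G] {p : ℕ} [Fact p.Prime] {M : Ideal AlgInt}

/-- The principal-block part (in `H = C_G(z)`) of `c ↦ ζ (z c)` at a `p`-regular `y`:
it is `ζ (z y)` for `ζ` in the principal block of `G` and `0` otherwise. -/
theorem blockPart_principal_eq (hM : IsPModular p M) (z : G) (hz : ∃ k : ℕ, orderOf z = p ^ k)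
    (y : Subgroup.centralizer ({z} : Set G)) (hy : ¬ p ∣ orderOf y) (ζ : IrrCharacter G)
    [Decidable (ζ ∈ principalBlock M G)] :
    blockPart (principalBlock M (Subgroup.centralizer ({z} : Set G)))
        (fun c : Subgroup.centralizer ({z} : Set G) => (ζ : G → ℂ) (z * (c : G))) y =
      if ζ ∈ principalBlock M G then (ζ : G → ℂ) (z * (y : G)) else 0 := by
  have hMp := isPrime_of_isPModular hM
  split_ifs with hζ
  · exact (irr_mul_eq_blockPart_principal hM z hz ζ hζ y hy).symm
  · have hPH : IsPBlock M (principalBlock M (Subgroup.centralizer ({z} : Set G))) :=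
      ⟨Cfsg.Agent.Lib.Helper80_CharBasic.oneIrr _, rfl⟩
    have hdef := Cfsg.Agent.Lib.Helper78_SecondMainChar.inducedBlockDefined_centralizer hM hz hPH
    have hind0 := (Cfsg.Agent.Lib.Helper78_PRegSum.third_main hM _ _ hdef).mpr rfl
    apply Cfsg.Agent.Lib.Helper78_SecondMainChar.second_main_char hM z hz
      (blockOf M (ζ : G → ℂ)) (isPBlock_blockOf ζ) ζ (mem_blockOf_self hMp ζ) _ hPH _ y hy
    intro hind
    apply hζ
    have := Cfsg.Agent.Lib.Helper78_Deficiency.isInducedBlock_unique hMp hind hind0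
    rw [← this]
    exact mem_blockOf_self hMp ζ

/-- Conjugacy on the section of `z`: for `p`-regular `c, y ∈ H = C_G(z)`, `z c` and `z y` are
conjugate in `G` iff `c` and `y` are conjugate in `H`. -/
theorem isConj_section_iff (hp : p.Prime) (z : G) (hz : ∃ k : ℕ, orderOf z = p ^ k)
    (c y : Subgroup.centralizer ({z} : Set G)) (hc : ¬ p ∣ orderOf c) (hy : ¬ p ∣ orderOf y) :
    IsConj (z * (c : G)) (z * (y : G)) ↔ IsConj c y := by
  have hcomm : ∀ c : Subgroup.centralizer ({z} : Set G), z * (c : G) = (c : G) * z :=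
    fun c => Subgroup.mem_centralizer_iff.mp c.2 z (Set.mem_singleton z)
  constructor
  · intro h
    obtain ⟨t, ht⟩ := isConj_iff.mp h
    have hpc : IsPPart p (z * (c : G)) z :=
      ⟨(c : G), rfl, hcomm c, hz, by rw [Subgroup.orderOf_coe]; exact hc⟩
    have hpy : IsPPart p (z * (y : G)) z :=
      ⟨(y : G), rfl, hcomm y, hz, by rw [Subgroup.orderOf_coe]; exact hy⟩
    have hpc' := isPPart_conj hpc t
    rw [ht] at hpc'
    have hzt : t * z * t⁻¹ = z := isPPart_unique hp hpc' hpy
    have htz : z * t = t * z := by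
      calc z * t = (t * z * t⁻¹) * t := by rw [hzt]
        _ = t * z := by group
    have htH : t ∈ Subgroup.centralizer ({z} : Set G) := by
      rw [Subgroup.mem_centralizer_iff]
      intro k hk
      rw [Set.mem_singleton_iff] at hk
      rw [hk]
      exact htz
    have hcy : t * (c : G) * t⁻¹ = (y : G) := by
      have h1 : (t * z * t⁻¹) * (t * (c : G) * t⁻¹) = z * (y : G) := by
        rw [← ht]; group
      rw [hzt] at h1
      exact mul_left_cancel h1
    rw [isConj_iff]
    refine ⟨⟨t, htH⟩, ?_⟩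
    apply Subtype.ext
    push_cast
    exact hcy
  · intro h
    obtain ⟨t, ht⟩ := isConj_iff.mp h
    rw [isConj_iff]
    refine ⟨(t : G), ?_⟩
    have h1 : (t : G) * (c : G) * (t : G)⁻¹ = (y : G) := by
      have := congrArg Subtype.val ht
      simpa using this
    calc (t : G) * (z * (c : G)) * (t : G)⁻¹ = ((t : G) * z) * (c : G) * (t : G)⁻¹ := by group
      _ = (z * (t : G)) * (c : G) * (t : G)⁻¹ := by rw [hcomm t]
      _ = z * ((t : G) * (c : G) * (t : G)⁻¹) := by group
      _ = z * (y : G) := by rw [h1]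

/-- The centralizer of `z y` in `G` has the order of the centralizer of `y` in `H = C_G(z)`. -/
theorem card_centralizer_section (hp : p.Prime) (z : G) (hz : ∃ k : ℕ, orderOf z = p ^ k)
    (y : Subgroup.centralizer ({z} : Set G)) (hy : ¬ p ∣ orderOf y) :
    Nat.card (Subgroup.centralizer ({z * (y : G)} : Set G)) =
      Nat.card (Subgroup.centralizer ({y} : Set (Subgroup.centralizer ({z} : Set G)))) := by
  have hcomm : z * (y : G) = (y : G) * z :=
    Subgroup.mem_centralizer_iff.mp y.2 z (Set.mem_singleton z)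
  obtain ⟨k, hk⟩ := hz
  have hy' : ¬ p ∣ orderOf (y : G) := by rw [Subgroup.orderOf_coe]; exact hy
  have hcop : Nat.Coprime (orderOf z) (orderOf (y : G)) := by
    rw [hk]
    apply Nat.Coprime.pow_left
    exact (Nat.Prime.coprime_iff_not_dvd hp).mpr hy'
  obtain ⟨E₁, hE₁⟩ := exists_pow_eq_right (show Commute z (y : G) from hcomm) hcop
    (orderOf_pos (y : G)).ne'
  obtain ⟨E₂, hE₂⟩ := exists_pow_eq_right (show Commute (y : G) z from hcomm.symm) hcop.symm
    (orderOf_pos z).ne'
  rw [← hcomm] at hE₂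
  have hmap : (Subgroup.centralizer ({y} : Set (Subgroup.centralizer ({z} : Set G)))).map
      (Subgroup.centralizer ({z} : Set G)).subtype =
      Subgroup.centralizer ({z * (y : G)} : Set G) := by
    ext g
    constructor
    · rintro ⟨t, ht, rfl⟩
      rw [Subgroup.mem_centralizer_iff]
      intro k' hk'
      rw [Set.mem_singleton_iff] at hk'
      rw [hk']
      have h1 : (y : G) * (t : G) = (t : G) * (y : G) := by
        have := Subgroup.mem_centralizer_iff.mp ht y (Set.mem_singleton y)
        have := congrArg Subtype.val this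
        simpa using this
      have h2 : z * (t : G) = (t : G) * z :=
        Subgroup.mem_centralizer_iff.mp t.2 z (Set.mem_singleton z)
      simp only [Subgroup.coe_subtype]
      calc z * (y : G) * (t : G) = z * ((y : G) * (t : G)) := by group
        _ = z * ((t : G) * (y : G)) := by rw [h1]
        _ = (z * (t : G)) * (y : G) := by group
        _ = ((t : G) * z) * (y : G) := by rw [h2]
        _ = (t : G) * (z * (y : G)) := by group
    · intro hg
      have hgc : Commute (z * (y : G)) g :=
        Subgroup.mem_centralizer_iff.mp hg _ (Set.mem_singleton _)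
      have hgz : z * g = g * z := by
        rw [← hE₂]
        exact (hgc.pow_left E₂).eq
      have hgy : (y : G) * g = g * (y : G) := by
        rw [← hE₁]
        exact (hgc.pow_left E₁).eq
      have hgH : g ∈ Subgroup.centralizer ({z} : Set G) := by
        rw [Subgroup.mem_centralizer_iff]
        intro k' hk'
        rw [Set.mem_singleton_iff] at hk'
        rw [hk']
        exact hgz
      refine ⟨⟨g, hgH⟩, ?_, rfl⟩
      show (⟨g, hgH⟩ : Subgroup.centralizer ({z} : Set G)) ∈
        Subgroup.centralizer ({y} : Set (Subgroup.centralizer ({z} : Set G)))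
      rw [Subgroup.mem_centralizer_iff]
      intro k' hk'
      rw [Set.mem_singleton_iff] at hk'
      rw [hk']
      apply Subtype.ext
      push_cast
      exact hgy
  rw [← hmap]
  exact Subgroup.card_map_of_injective (Subgroup.subtype_injective _)

/-- **The principal block column norm on a `p`-section**, complex form. -/
theorem principal_section_norm_complex (hM : IsPModular p M) (z : G)
    (hz : ∃ k : ℕ, orderOf z = p ^ k) (y : Subgroup.centralizer ({z} : Set G))
    (hy : ¬ p ∣ orderOf y) :
    ∑ᶠ ζ ∈ principalBlock M G, (ζ : G → ℂ) (z * (y : G)) * conj ((ζ : G → ℂ) (z * (y : G))) =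
      ∑ᶠ χ ∈ principalBlock M (Subgroup.centralizer ({z} : Set G)),
        (χ : Subgroup.centralizer ({z} : Set G) → ℂ) y *
          conj ((χ : Subgroup.centralizer ({z} : Set G) → ℂ) y) := by
  classical
  have hp : p.Prime := Fact.out
  have hMp := isPrime_of_isPModular hM
  let _ : Fintype G := Fintype.ofFinite G
  let _ : Fintype (Subgroup.centralizer ({z} : Set G)) := Fintype.ofFinite _
  have hfinG : Finite (IrrCharacter G) := charFacts.finite
  have hfinH : Finite (IrrCharacter (Subgroup.centralizer ({z} : Set G))) := charFacts.finite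
  have := Fintype.ofFinite (IrrCharacter G)
  have := Fintype.ofFinite (IrrCharacter (Subgroup.centralizer ({z} : Set G)))
  have hPH : IsPBlock M (principalBlock M (Subgroup.centralizer ({z} : Set G))) :=
    ⟨Cfsg.Agent.Lib.Helper80_CharBasic.oneIrr _, rfl⟩
  have hHne : (Nat.card (Subgroup.centralizer ({z} : Set G)) : ℂ) ≠ 0 := by
    exact_mod_cast (Nat.card_pos (α := Subgroup.centralizer ({z} : Set G))).ne'
  -- notation
  set b₀ := principalBlock M (Subgroup.centralizer ({z} : Set G)) with hb₀
  set a : IrrCharacter G → ℂ := fun ζ => (ζ : G → ℂ) (z * (y : G)) with ha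
  set W : Subgroup.centralizer ({z} : Set G) → ℂ := fun c =>
    ∑ ψ : IrrCharacter (Subgroup.centralizer ({z} : Set G)),
      if ψ ∈ b₀ then (ψ : _ → ℂ) y * conj ((ψ : _ → ℂ) c) else 0 with hW
  set Ω : Subgroup.centralizer ({z} : Set G) → ℂ := fun c =>
    ∑ ζ : IrrCharacter G, (ζ : G → ℂ) (z * (c : G)) * conj (a ζ) with hΩ
  -- the right hand side is `W y`
  have hR : ∑ᶠ χ ∈ b₀, (χ : Subgroup.centralizer ({z} : Set G) → ℂ) y *
      conj ((χ : Subgroup.centralizer ({z} : Set G) → ℂ) y) = W y :=
    finsum_mem_eq_sum_ite (fun ψ => ψ ∈ b₀) _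
  -- the left hand side as a triple sum
  have hL : ∑ᶠ ζ ∈ principalBlock M G, a ζ * conj (a ζ) =
      (Nat.card (Subgroup.centralizer ({z} : Set G)) : ℂ)⁻¹ *
        ∑ c : Subgroup.centralizer ({z} : Set G), Ω c * W c := by
    have h1 : ∑ᶠ ζ ∈ principalBlock M G, a ζ * conj (a ζ) =
        ∑ ζ : IrrCharacter G, conj (a ζ) *
          blockPart b₀ (fun c : Subgroup.centralizer ({z} : Set G) =>
            (ζ : G → ℂ) (z * (c : G))) y := by
      have e := finsum_mem_eq_sum_ite (fun ζ => ζ ∈ principalBlock M G)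
        (fun ζ => a ζ * conj (a ζ))
      rw [show (∑ᶠ ζ ∈ principalBlock M G, a ζ * conj (a ζ)) = _ from e]
      refine Finset.sum_congr rfl fun ζ _ => ?_
      rw [blockPart_principal_eq hM z hz y hy ζ]
      split_ifs
      · ring
      · ring
    rw [h1]
    have h2 : ∀ ζ : IrrCharacter G,
        blockPart b₀ (fun c : Subgroup.centralizer ({z} : Set G) =>
          (ζ : G → ℂ) (z * (c : G))) y =
        ∑ ψ : IrrCharacter (Subgroup.centralizer ({z} : Set G)),
          ∑ c : Subgroup.centralizer ({z} : Set G),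
            if ψ ∈ b₀ then (Nat.card (Subgroup.centralizer ({z} : Set G)) : ℂ)⁻¹ *
              ((ζ : G → ℂ) (z * (c : G)) * conj ((ψ : _ → ℂ) c)) * (ψ : _ → ℂ) y else 0 := by
      intro ζ
      unfold blockPart
      have e := finsum_mem_eq_sum_ite (fun ψ => ψ ∈ b₀)
        (fun ψ : IrrCharacter (Subgroup.centralizer ({z} : Set G)) =>
          classInner (fun c : Subgroup.centralizer ({z} : Set G) => (ζ : G → ℂ) (z * (c : G)))
            (ψ : _ → ℂ) * (ψ : _ → ℂ) y)
      rw [show (∑ᶠ ψ ∈ b₀, classInner (fun c : Subgroup.centralizer ({z} : Set G) =>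
        (ζ : G → ℂ) (z * (c : G))) (ψ : _ → ℂ) * (ψ : _ → ℂ) y) = _ from e]
      refine Finset.sum_congr rfl fun ψ _ => ?_
      by_cases hψ : ψ ∈ b₀
      · simp only [if_pos hψ]
        unfold classInner
        rw [Finset.mul_sum, Finset.sum_mul]
      · simp only [if_neg hψ]
        rw [Finset.sum_const_zero]
    have key : ∀ ζ : IrrCharacter G,
        conj (a ζ) * blockPart b₀ (fun c : Subgroup.centralizer ({z} : Set G) =>
          (ζ : G → ℂ) (z * (c : G))) y =
        (Nat.card (Subgroup.centralizer ({z} : Set G)) : ℂ)⁻¹ *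
          ∑ c : Subgroup.centralizer ({z} : Set G),
            ((ζ : G → ℂ) (z * (c : G)) * conj (a ζ)) * W c := by
      intro ζ
      rw [h2 ζ, Finset.sum_comm, Finset.mul_sum, Finset.mul_sum]
      refine Finset.sum_congr rfl fun c _ => ?_
      simp only [hW]
      rw [Finset.mul_sum, Finset.mul_sum, Finset.mul_sum]
      refine Finset.sum_congr rfl fun ψ _ => ?_
      split_ifs
      · ring
      · ring
    rw [Finset.sum_congr rfl fun ζ _ => key ζ, ← Finset.mul_sum, Finset.sum_comm]
    congr 1
    refine Finset.sum_congr rfl fun c _ => ?_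
    simp only [hΩ]
    rw [Finset.sum_mul]
  rw [hL, hR]
  -- pointwise evaluation
  have hpt : ∀ c : Subgroup.centralizer ({z} : Set G), Ω c * W c =
      if IsConj y c then
        (Nat.card (Subgroup.centralizer ({c} : Set (Subgroup.centralizer ({z} : Set G)))) : ℂ) *
          W y else 0 := by
    intro c
    by_cases hcs : p ∣ orderOf c
    · -- `c` is `p`-singular
      have hnc : ¬ IsConj y c := by
        intro h
        obtain ⟨t, ht⟩ := isConj_iff.mp h
        have : orderOf c = orderOf y := by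
          rw [← ht]
          exact (MulAut.conj t).orderOf_eq y
        rw [this] at hcs
        exact hy hcs
      rw [if_neg hnc]
      have hW0 : W c = 0 := by
        obtain ⟨s, hs⟩ := Cfsg.Agent.Lib.Helper16_BlockOrth.exists_isPPart hp c
        have hy1 : IsPPart p y 1 :=
          ⟨y, one_mul y, Commute.one_left y, ⟨0, by rw [orderOf_one, pow_zero]⟩, hy⟩
        have hs1 : ¬ IsConj (1 : Subgroup.centralizer ({z} : Set G)) s := by
          intro h
          have hs1' : s = 1 := isConj_one_left.mp h.symm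
          obtain ⟨y', hsy, -, -, hy'⟩ := hs
          rw [hs1', one_mul] at hsy
          rw [hsy] at hy'
          exact hy' hcs
        have h0 := Cfsg.Agent.Lib.Helper16_BlockOrth.block_orthogonality hM hPH hy1 hs hs1
        have e := finsum_mem_eq_sum_ite (fun ψ => ψ ∈ b₀)
          (fun ψ : IrrCharacter (Subgroup.centralizer ({z} : Set G)) =>
            (ψ : _ → ℂ) y * conj ((ψ : _ → ℂ) c))
        rw [show (∑ᶠ ψ ∈ b₀, (ψ : Subgroup.centralizer ({z} : Set G) → ℂ) y *
          conj ((ψ : Subgroup.centralizer ({z} : Set G) → ℂ) c)) = _ from e] at h0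
        exact h0
      rw [hW0, mul_zero]
    · -- `c` is `p`-regular
      have hΩc : Ω c = if IsConj (z * (c : G)) (z * (y : G)) then
          (Nat.card (Subgroup.centralizer ({z * (c : G)} : Set G)) : ℂ) else 0 :=
        Cfsg.Agent.Lib.Helper80_CharComplete.second_orthogonality_sum (z * (c : G)) (z * (y : G))
      by_cases hcy : IsConj y c
      · rw [if_pos hcy]
        have hconj : IsConj (z * (c : G)) (z * (y : G)) :=
          (isConj_section_iff hp z hz c y hcs hy).mpr hcy.symm
        rw [hΩc, if_pos hconj, card_centralizer_section hp z hz c hcs]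
        congr 1
        simp only [hW]
        refine Finset.sum_congr rfl fun ψ _ => ?_
        split_ifs
        · obtain ⟨t, ht⟩ := isConj_iff.mp hcy
          rw [← ht, isIrrCharacter_isClassFunction ψ.2 y t]
        · rfl
      · rw [if_neg hcy]
        have hconj : ¬ IsConj (z * (c : G)) (z * (y : G)) := by
          intro h
          exact hcy ((isConj_section_iff hp z hz c y hcs hy).mp h).symm
        rw [hΩc, if_neg hconj, zero_mul]
  rw [Finset.sum_congr rfl fun c _ => hpt c]
  have hcl : ∀ x c : Subgroup.centralizer ({z} : Set G),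
      (fun k : Subgroup.centralizer ({z} : Set G) =>
        (Nat.card (Subgroup.centralizer ({k} : Set (Subgroup.centralizer ({z} : Set G)))) : ℂ) *
          W y) (x * c * x⁻¹) =
      (fun k : Subgroup.centralizer ({z} : Set G) =>
        (Nat.card (Subgroup.centralizer ({k} : Set (Subgroup.centralizer ({z} : Set G)))) : ℂ) *
          W y) c := by
    intro x c
    simp only
    rw [Cfsg.Agent.Lib.Helper78_FirstMainGT.card_centralizer_conj]
  rw [sum_isConj_const y _ hcl]
  have hidx : ((Subgroup.centralizer ({y} : Set (Subgroup.centralizer ({z} : Set G)))).index : ℂ) *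
      (Nat.card (Subgroup.centralizer ({y} : Set (Subgroup.centralizer ({z} : Set G)))) : ℂ) =
      (Nat.card (Subgroup.centralizer ({z} : Set G)) : ℂ) := by
    rw [← Nat.cast_mul, mul_comm, Subgroup.card_mul_index]
  have hfin : ∀ A I C w : ℂ, I * C = A → A ≠ 0 → A⁻¹ * (I * (C * w)) = w := by
    intro A I C w h1 h2
    rw [show A⁻¹ * (I * (C * w)) = A⁻¹ * (I * C) * w by ring, h1, inv_mul_cancel₀ h2, one_mul]
  exact hfin _ _ _ _ hidx hHne

end

section Complement

variable {H : Type*} [Group H] [Finite H] {p : ℕ} [Fact p.Prime] {M : Ideal AlgInt}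

/-- A `p`-regular element lies in a normal subgroup of `p`-power index. -/
theorem mem_of_index_pow (hp : p.Prime) (K : Subgroup H) [K.Normal] {k : ℕ}
    (hk : K.index = p ^ k) (y : H) (hy : ¬ p ∣ orderOf y) : y ∈ K := by
  rw [← QuotientGroup.eq_one_iff, ← orderOf_eq_one_iff]
  have h1 : orderOf (QuotientGroup.mk y : H ⧸ K) ∣ orderOf y :=
    orderOf_map_dvd (QuotientGroup.mk' K) y
  have h2 : orderOf (QuotientGroup.mk y : H ⧸ K) ∣ p ^ k := by
    rw [← hk]
    exact orderOf_dvd_natCard _
  obtain ⟨j, -, hj⟩ := (Nat.dvd_prime_pow hp).mp h2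
  rcases Nat.eq_zero_or_pos j with h0 | hpos
  · rw [hj, h0, pow_zero]
  · exfalso
    apply hy
    refine dvd_trans ?_ h1
    rw [hj]
    exact dvd_pow_self p hpos.ne'

/-- The sum of the squares of the degrees of the irreducible characters with a normal subgroup
`K` in their kernel is the index of `K`. -/
theorem sum_deg_sq_of_kernel (K : Subgroup H) [K.Normal] [Fintype (IrrCharacter H)]
    [DecidablePred fun χ : IrrCharacter H => ∀ n ∈ K, (χ : H → ℂ) n = (χ : H → ℂ) 1] :
    ∑ χ : IrrCharacter H, (if ∀ n ∈ K, (χ : H → ℂ) n = (χ : H → ℂ) 1 then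
      (χ : H → ℂ) 1 * conj ((χ : H → ℂ) 1) else 0) = (K.index : ℂ) := by
  classical
  let _ : Fintype H := Fintype.ofFinite H
  let _ : Fintype K := Fintype.ofFinite K
  have hKne : (Nat.card K : ℂ) ≠ 0 := by exact_mod_cast (Nat.card_pos (α := K)).ne'
  have hsum : ∀ χ : IrrCharacter H, ∑ n : K, (χ : H → ℂ) (n : H) =
      if ∀ n ∈ K, (χ : H → ℂ) n = (χ : H → ℂ) 1 then (Nat.card K : ℂ) * (χ : H → ℂ) 1 else 0 := by
    intro χ
    split_ifs with hχ
    · rw [Finset.sum_congr rfl fun (n : K) _ => hχ (n : H) n.2, Finset.sum_const, Finset.card_univ,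
        nsmul_eq_mul, Nat.card_eq_fintype_card]
    · obtain ⟨n, ρ, hirr, hρ⟩ := χ.2
      have : ρ.IsIrreducible := hirr
      rcases Cfsg.Agent.Lib.Helper16_Quot.invSubrep_eq_bot_or_top ρ K with hbot | htop
      · rw [← hρ]
        exact Cfsg.Agent.Lib.Helper16_Quot.sum_char_subgroup_of_bot ρ K hbot
      · exfalso
        apply hχ
        intro m hm
        have htriv := Cfsg.Agent.Lib.Helper16_Quot.isTrivial_of_invSubrep_eq_top ρ K htop
        have h1 : ρ m = 1 := htriv.out ⟨m, hm⟩
        have h2 : ρ m = ρ 1 := by rw [h1, map_one]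
        rw [← hρ]
        unfold Representation.character
        rw [h2]
  have h2 : ∀ n : K, ∑ χ : IrrCharacter H, (χ : H → ℂ) (n : H) * conj ((χ : H → ℂ) 1) =
      if n = 1 then (Nat.card H : ℂ) else 0 := by
    intro n
    rw [Cfsg.Agent.Lib.Helper80_CharComplete.second_orthogonality_sum (n : H) 1]
    by_cases hn : n = 1
    · rw [if_pos hn, hn, if_pos (by simp)]
      congr 1
      have : Subgroup.centralizer ({((1 : K) : H)} : Set H) = ⊤ := by
        ext g
        simp [Subgroup.mem_centralizer_iff]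
      rw [this, Subgroup.card_top]
    · rw [if_neg hn, if_neg]
      intro h
      apply hn
      have := isConj_one_left.mp h
      exact Subtype.ext this
  have h3 : ∑ n : K, ∑ χ : IrrCharacter H, (χ : H → ℂ) (n : H) * conj ((χ : H → ℂ) 1) =
      (Nat.card H : ℂ) := by
    rw [Finset.sum_congr rfl fun n _ => h2 n, Finset.sum_ite_eq' Finset.univ (1 : K)]
    simp
  rw [Finset.sum_comm] at h3
  have h4 : ∀ χ : IrrCharacter H, ∑ n : K, (χ : H → ℂ) (n : H) * conj ((χ : H → ℂ) 1) =
      (Nat.card K : ℂ) * (if ∀ n ∈ K, (χ : H → ℂ) n = (χ : H → ℂ) 1 then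
        (χ : H → ℂ) 1 * conj ((χ : H → ℂ) 1) else 0) := by
    intro χ
    rw [← Finset.sum_mul, hsum χ]
    split_ifs
    · ring
    · ring
  rw [Finset.sum_congr rfl fun χ _ => h4 χ, ← Finset.mul_sum] at h3
  have h5 : (Nat.card H : ℂ) = (Nat.card K : ℂ) * (K.index : ℂ) := by
    rw [← Nat.cast_mul, Subgroup.card_mul_index]
  rw [h5] at h3
  exact mul_left_cancel₀ hKne h3

/-- **The principal block column norm for a group with a normal `p`-complement**. -/
theorem principal_norm_of_normal_complement (hM : IsPModular p M)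
    (hnc : ∃ k : ℕ, (pPrimeCore p H).index = p ^ k) (y : H) (hy : ¬ p ∣ orderOf y) :
    ∑ᶠ χ ∈ principalBlock M H, (χ : H → ℂ) y * conj ((χ : H → ℂ) y) =
      ((p ^ (Nat.card H).factorization p : ℕ) : ℂ) := by
  classical
  have hp : p.Prime := Fact.out
  let _ : Fintype H := Fintype.ofFinite H
  have hfinH : Finite (IrrCharacter H) := charFacts.finite
  have := Fintype.ofFinite (IrrCharacter H)
  have hB := Cfsg.Agent.S0939.result p M hM hnc
  obtain ⟨k, hk⟩ := hnc
  have hyK : y ∈ pPrimeCore p H := mem_of_index_pow hp _ hk y hy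
  rw [hB]
  have e := finsum_mem_eq_sum_ite
    (fun χ : IrrCharacter H => ∀ n ∈ pPrimeCore p H, (χ : H → ℂ) n = (χ : H → ℂ) 1)
    (fun χ => (χ : H → ℂ) y * conj ((χ : H → ℂ) y))
  rw [show (∑ᶠ χ ∈ {χ : IrrCharacter H | ∀ n ∈ pPrimeCore p H, (χ : H → ℂ) n = (χ : H → ℂ) 1},
    (χ : H → ℂ) y * conj ((χ : H → ℂ) y)) = _ from e]
  have h1 : ∀ χ : IrrCharacter H,
      (if ∀ n ∈ pPrimeCore p H, (χ : H → ℂ) n = (χ : H → ℂ) 1 then
        (χ : H → ℂ) y * conj ((χ : H → ℂ) y) else 0) =
      (if ∀ n ∈ pPrimeCore p H, (χ : H → ℂ) n = (χ : H → ℂ) 1 then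
        (χ : H → ℂ) 1 * conj ((χ : H → ℂ) 1) else 0) := by
    intro χ
    split_ifs with hχ
    · rw [hχ y hyK]
    · rfl
  rw [Finset.sum_congr rfl fun χ _ => h1 χ, sum_deg_sq_of_kernel, hk]
  congr 2
  have hcard : Nat.card H = Nat.card (pPrimeCore p H) * p ^ k := by
    rw [← hk, Subgroup.card_mul_index]
  have hcop : ¬ p ∣ Nat.card (pPrimeCore p H) := by
    have h1 := Cfsg.Agent.Lib.Helper1_Cores.pPrimeCore_card_coprime (G := H) p
    intro hdvd
    have := Nat.Coprime.eq_one_of_dvd h1.symm hdvd
    exact hp.one_lt.ne' this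
  rw [hcard, Nat.factorization_mul (Nat.card_pos (α := pPrimeCore p H)).ne'
    (pow_pos hp.pos k).ne', Finsupp.add_apply, Nat.factorization_eq_zero_of_not_dvd hcop,
    Nat.Prime.factorization_pow hp, Finsupp.single_eq_same, zero_add]

end Complement

/-- Casting a real `finsum` over a set to the complex numbers. -/
theorem ofReal_finsum_mem {X : Type*} [Finite X] (B : Set X) (r : X → ℝ) :
    ((∑ᶠ x ∈ B, r x : ℝ) : ℂ) = ∑ᶠ x ∈ B, (r x : ℂ) := by
  classical
  have := Fintype.ofFinite X
  rw [finsum_mem_def, finsum_mem_def, finsum_eq_sum_of_fintype, finsum_eq_sum_of_fintype,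
    Complex.ofReal_sum]
  refine Finset.sum_congr rfl fun x _ => ?_
  by_cases h : x ∈ B
  · simp [Set.indicator, h]
  · simp [Set.indicator, h]

/-- The squared norms as complex numbers. -/
theorem ofReal_finsum_mem_norm_sq {X : Type*} [Finite X] (B : Set X) (f : X → ℂ) :
    ((∑ᶠ x ∈ B, ‖f x‖ ^ 2 : ℝ) : ℂ) = ∑ᶠ x ∈ B, f x * conj (f x) := by
  rw [ofReal_finsum_mem]
  refine finsum_congr fun x => finsum_congr fun _ => ?_
  rw [Complex.mul_conj, Complex.normSq_eq_norm_sq]


end Cfsg.Agent.Lib.Helper16_SectionNorm
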