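import Mathlib
import Cfsg.Prelude.Def_Characters
import Cfsg.Prelude.Def_OddOrderChar
import Cfsg.Agent.Lib.Helper16_CohBasic
import Cfsg.Agent.Lib.Helper16_SectionNorm
import Cfsg.Agent.Lib.Helper3_CharBridge
import Cfsg.Agent.Lib.Helper3_CharComplete
import Cfsg.Agent.Lib.Helper79_Linear

/-!
# Coherence: the counting estimate for `S(A)` (helper16)

For `K ⊴ L`, `A ⊴ L` and any finite set `T` of functions containing `S(A) = inducedIrrAbove K A`,
`|L : K| (|K : A ∩ K| - 1) ≤ ∑_{ψ ∈ T} ψ(1)² / (ψ, ψ)`.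
-/

set_option autoImplicit false

namespace Cfsg.Agent.Lib.Helper16_CohCount

open scoped ComplexConjugate
open Cfsg.Agent.Lib.Helper3_CharOrtho Cfsg.Agent.Lib.Helper75_CharArith
  Cfsg.Agent.Lib.Helper17_CohSys Cfsg.Agent.Lib.Helper17_CohExt
  Cfsg.Agent.Lib.Helper75_Induced Cfsg.Agent.Lib.Helper3_CharBridge
  Cfsg.Agent.Lib.Helper3_CharComplete Cfsg.Agent.Lib.Helper16_CohBasic

section Res

variable {L : Type*} [Group L] [Fintype L] (K : Subgroup L) [Fintype K]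

theorem sum_eq_sum_subgroup (F : L → ℂ) (h : ∀ g, g ∉ K → F g = 0) :
    ∑ g : L, F g = ∑ k : K, F k := by
  rw [← sum_extendByZero K (fun k : K => F k)]
  refine Finset.sum_congr rfl (fun g _ => ?_)
  by_cases hg : g ∈ K
  · rw [extendByZero_of_mem K _ hg]
  · rw [extendByZero_of_not_mem K _ hg, h g hg]

/-- Inner products of restrictions of functions vanishing off `K`. -/
theorem classInner_res_of_vanish {ψ : L → ℂ} (ψ' : L → ℂ) (h : ∀ g, g ∉ K → ψ g = 0) :
    Cfsg.classInner (fun k : K => ψ k) (fun k : K => ψ' k) =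
      (K.index : ℂ) * Cfsg.classInner ψ ψ' := by
  unfold Cfsg.classInner
  have h1 : ∑ g : L, ψ g * conj (ψ' g) = ∑ k : K, ψ k * conj (ψ' k) :=
    sum_eq_sum_subgroup K _ (fun g hg => by rw [h g hg, zero_mul])
  rw [h1]
  have h2 : (Nat.card L : ℂ) = (Nat.card K : ℂ) * (K.index : ℂ) := by
    exact_mod_cast (Subgroup.card_mul_index K).symm
  have hK0 : (Nat.card K : ℂ) ≠ 0 := by
    rw [Nat.cast_ne_zero]; exact Nat.card_pos.ne'
  have hI0 : (K.index : ℂ) ≠ 0 := by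
    rw [Nat.cast_ne_zero]; exact Subgroup.index_ne_zero_of_finite
  rw [h2]
  field_simp

end Res

section Count

variable {L : Type*} [Group L] [Fintype L] (K : Subgroup L) [hK : K.Normal] [Fintype K]

/-- The number of irreducible characters of `K` inducing a given `ψ`, times the norm of `ψ`,
is at most `|L : K|`. -/
theorem card_fiber_mul_norm_le (F : Finset (Cfsg.IrrCharacter K)) (ψ : L → ℂ) (n : ℕ)
    (hn : Cfsg.classInner ψ ψ = n) (hF : ∀ χ ∈ F, Cfsg.indFun K (χ : K → ℂ) = ψ) :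
    F.card * n ≤ K.index := by
  classical
  rcases F.eq_empty_or_nonempty with hemp | ⟨χ₀, hχ₀⟩
  · rw [hemp]; simp
  rcases Nat.eq_zero_or_pos n with hn0 | hnpos
  · rw [hn0]; simp
  have hψ : ψ = Cfsg.indFun K (χ₀ : K → ℂ) := (hF χ₀ hχ₀).symm
  have hvan : ∀ g, g ∉ K → ψ g = 0 := fun g hg => by
    rw [hψ]; exact indFun_eq_zero_of_not_mem K _ hg
  have hcf : Cfsg.IsClassFunction L ψ := by rw [hψ]; exact isClassFunction_indFun K _
  set B : Finset (K → ℂ) := F.image Subtype.val with hB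
  have hON : ON B := by
    intro α hα β hβ
    obtain ⟨a, -, rfl⟩ := Finset.mem_image.1 hα
    obtain ⟨b, -, rfl⟩ := Finset.mem_image.1 hβ
    exact classInner_irr a.2 b.2
  have hbes := (bessel_re hON (fun k : K => ψ k)).1
  rw [classInner_res_of_vanish K ψ hvan, hn] at hbes
  have hterm : ∀ β ∈ B, ‖Cfsg.classInner (fun k : K => ψ k) β‖ ^ 2 = (n : ℝ) ^ 2 := by
    intro β hβ
    obtain ⟨b, hb, rfl⟩ := Finset.mem_image.1 hβ
    have h1 : Cfsg.classInner (b : K → ℂ) (fun k : K => ψ k) = n := by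
      rw [← frobenius_reciprocity K _ ψ hcf, hF b hb, hn]
    rw [← classInner_conj_symm, h1, Complex.conj_natCast, Complex.norm_natCast]
  rw [Finset.sum_congr rfl hterm, Finset.sum_const, nsmul_eq_mul,
    Finset.card_image_of_injective _ Subtype.val_injective] at hbes
  have h3 : ((K.index : ℂ) * (n : ℂ)).re = (K.index : ℝ) * n := by
    rw [← Nat.cast_mul, Complex.natCast_re]; push_cast; ring
  rw [h3] at hbes
  have hnR : (0 : ℝ) < n := by exact_mod_cast hnpos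
  have h4 : (F.card : ℝ) * n ≤ K.index := by
    have h5 : (F.card : ℝ) * n * n ≤ K.index * n := by nlinarith
    exact le_of_mul_le_mul_right h5 hnR
  exact_mod_cast h4

omit hK [Fintype K] in
/-- The degree of an induced function, via the index. -/
theorem indFun_one_index (θ : K → ℂ) : Cfsg.indFun K θ 1 = (K.index : ℂ) * θ 1 := by
  rw [indFun_one]
  have h2 : (Nat.card L : ℂ) = (Nat.card K : ℂ) * (K.index : ℂ) := by
    exact_mod_cast (Subgroup.card_mul_index K).symm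
  have hK0 : (Nat.card K : ℂ) ≠ 0 := by
    rw [Nat.cast_ne_zero]; exact Nat.card_pos.ne'
  rw [h2]
  field_simp

/-- The trivial character as an irreducible character. -/
noncomputable def trivIrr (H : Type*) [Group H] : Cfsg.IrrCharacter H :=
  ⟨fun _ => 1, by
    simpa using Cfsg.Agent.Lib.Helper79_Linear.isIrrCharacter_of_hom (1 : H →* ℂˣ)⟩

theorem trivIrr_apply (H : Type*) [Group H] (h : H) : (trivIrr H : H → ℂ) h = 1 := rfl

/-- **The counting estimate**: `|L : K| (|K : A ∩ K| - 1) ≤ ∑_{ψ ∈ T} ψ(1)² / (ψ, ψ)` for every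
finite `T ⊇ S(A)`. -/
theorem sum_bound (A : Subgroup L) [A.Normal] (T : Finset (L → ℂ))
    (hT : Cfsg.inducedIrrAbove K A ⊆ ↑T)
    (d n : (L → ℂ) → ℕ) (hd : ∀ φ ∈ T, φ 1 = (d φ : ℂ))
    (hn : ∀ φ ∈ T, Cfsg.classInner φ φ = (n φ : ℂ)) (hnpos : ∀ φ ∈ T, 0 < n φ) :
    (K.index : ℝ) * ((A.relIndex K : ℝ) - 1) ≤ ∑ φ ∈ T, (d φ : ℝ) ^ 2 / (n φ : ℝ) := by
  classical
  set N : Subgroup K := A.subgroupOf K with hN
  have hdeg : ∀ χ : Cfsg.IrrCharacter K, ∃ m : ℕ, (χ : K → ℂ) 1 = m := fun χ =>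
    char_apply_one_nat (isCharacter_of_isIrrCharacter χ.2)
  choose m hm using hdeg
  set t : Cfsg.IrrCharacter K := trivIrr K with ht
  have hmt : m t = 1 := by
    have h1 := hm t
    rw [ht, trivIrr_apply] at h1
    exact_mod_cast h1.symm
  have hsq := Cfsg.Agent.Lib.Helper16_SectionNorm.sum_deg_sq_of_kernel (H := K) N
  have hsqN : ∑ χ : Cfsg.IrrCharacter K,
      (if ∀ x ∈ N, (χ : K → ℂ) x = (χ : K → ℂ) 1 then (m χ) ^ 2 else 0) = N.index := by
    have h1 : ((∑ χ : Cfsg.IrrCharacter K,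
        (if ∀ x ∈ N, (χ : K → ℂ) x = (χ : K → ℂ) 1 then (m χ) ^ 2 else 0) : ℕ) : ℂ) =
        (N.index : ℂ) := by
      rw [← hsq]
      push_cast
      refine Finset.sum_congr rfl (fun χ _ => ?_)
      split_ifs
      · rw [hm χ, Complex.conj_natCast, sq]
      · rfl
    exact_mod_cast h1
  set J : Finset (Cfsg.IrrCharacter K) :=
    Finset.univ.filter (fun χ => χ ≠ t ∧ ∀ x ∈ N, (χ : K → ℂ) x = (χ : K → ℂ) 1) with hJ
  have hJsum : ∑ χ ∈ J, (m χ) ^ 2 + 1 = N.index := by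
    rw [← hsqN, ← Finset.sum_filter]
    have hins : Finset.univ.filter (fun χ : Cfsg.IrrCharacter K =>
        ∀ x ∈ N, (χ : K → ℂ) x = (χ : K → ℂ) 1) = insert t J := by
      ext χ
      simp only [Finset.mem_filter, Finset.mem_univ, true_and, Finset.mem_insert, hJ]
      constructor
      · intro h
        by_cases hχ : χ = t
        · exact Or.inl hχ
        · exact Or.inr ⟨hχ, h⟩
      · rintro (h | h)
        · rw [h]
          intro x _
          rfl
        · exact h.2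
    have htJ : t ∉ J := by
      simp [hJ]
    rw [hins, Finset.sum_insert htJ, hmt]
    ring
  set Φ : Cfsg.IrrCharacter K → (L → ℂ) := fun χ => Cfsg.indFun K (χ : K → ℂ) with hΦ
  have hmaps : ∀ χ ∈ J, Φ χ ∈ T := by
    intro χ hχ
    rw [hJ, Finset.mem_filter] at hχ
    apply hT
    refine ⟨χ, χ.2, ?_, ?_, rfl⟩
    · intro h
      apply hχ.2.1
      apply Subtype.ext
      rw [h]
      rfl
    · intro a ha
      exact hχ.2.2 a (Subgroup.mem_subgroupOf.mpr ha)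
  have hfib := Finset.sum_fiberwise_of_maps_to hmaps (fun χ => ((m χ : ℝ)) ^ 2)
  have hℓ : (0 : ℝ) < K.index := by
    exact_mod_cast Nat.pos_of_ne_zero (Subgroup.index_ne_zero_of_finite (H := K))
  have hmain : ∀ ψ ∈ T, (K.index : ℝ) *
      ∑ χ ∈ J with Φ χ = ψ, ((m χ : ℝ)) ^ 2 ≤
        (d ψ : ℝ) ^ 2 / (n ψ : ℝ) := by
    intro ψ hψ
    set F := J.filter (fun χ => Φ χ = ψ) with hF
    have hcard := card_fiber_mul_norm_le K F ψ (n ψ) (hn ψ hψ)
      (fun χ hχ => (Finset.mem_filter.1 hχ).2)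
    have hnψ : (0 : ℝ) < n ψ := by exact_mod_cast hnpos ψ hψ
    have hdm : ∀ χ ∈ F, (m χ : ℝ) = (d ψ : ℝ) / K.index := by
      intro χ hχ
      have h1 : ψ 1 = (K.index : ℂ) * (m χ : ℂ) := by
        rw [← (Finset.mem_filter.1 hχ).2]
        change Cfsg.indFun K (χ : K → ℂ) 1 = _
        rw [indFun_one_index, hm χ]
      rw [hd ψ hψ] at h1
      have h2 : (d ψ : ℝ) = (K.index : ℝ) * (m χ : ℝ) := by exact_mod_cast h1
      rw [h2]
      field_simp
    have hsum : ∑ χ ∈ F, ((m χ : ℝ)) ^ 2 = (F.card : ℝ) * ((d ψ : ℝ) / K.index) ^ 2 := by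
      rw [Finset.sum_congr rfl (fun χ hχ => by rw [hdm χ hχ]), Finset.sum_const, nsmul_eq_mul]
    rw [hsum]
    have hcardR : (F.card : ℝ) * (n ψ : ℝ) ≤ K.index := by exact_mod_cast hcard
    rw [le_div_iff₀ hnψ]
    have h3 : (K.index : ℝ) * ((F.card : ℝ) * ((d ψ : ℝ) / K.index) ^ 2) * (n ψ : ℝ) =
        ((F.card : ℝ) * (n ψ : ℝ)) * (d ψ : ℝ) ^ 2 / K.index := by
      field_simp
    rw [h3, div_le_iff₀ hℓ]
    have h4 : (0 : ℝ) ≤ (d ψ : ℝ) ^ 2 := by positivity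
    nlinarith
  have hJR : (∑ χ ∈ J, ((m χ : ℝ)) ^ 2) = (A.relIndex K : ℝ) - 1 := by
    have h1 : ((∑ χ ∈ J, (m χ) ^ 2 + 1 : ℕ) : ℝ) = (N.index : ℝ) := by rw [hJsum]
    push_cast at h1
    have h2 : N.index = A.relIndex K := rfl
    rw [← h2]
    linarith
  calc (K.index : ℝ) * ((A.relIndex K : ℝ) - 1)
      = (K.index : ℝ) * ∑ ψ ∈ T, ∑ χ ∈ J with Φ χ = ψ, ((m χ : ℝ)) ^ 2 := by
        rw [hfib, hJR]
    _ = ∑ ψ ∈ T, (K.index : ℝ) *
          ∑ χ ∈ J with Φ χ = ψ, ((m χ : ℝ)) ^ 2 := Finset.mul_sum _ _ _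
    _ ≤ ∑ ψ ∈ T, (d ψ : ℝ) ^ 2 / (n ψ : ℝ) := Finset.sum_le_sum hmain

end Count

end Cfsg.Agent.Lib.Helper16_CohCount
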