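import Mathlib

/-!
# Frobenius-type quotients: the congruence `|N : H₁| ≡ 1 mod |L : K|` (helper16)

`L` finite, `H₁ ≤ N ≤ K` normal subgroups of `L`, `[K,K] ≤ H₁`, and every element of `K` outside
`H₁` is centralised modulo `H₁` only from inside `K`. Then `|L : K|` divides `|N : H₁| - 1`
(`index_dvd_relIndex_sub_one`), and if `|L|` is odd and `H₁ < N < K` then
`4 |L:K|² + 1 < |K : H₁|` (`bound_of_intermediate`).
-/

set_option autoImplicit false

namespace Cfsg.Agent.Lib.Helper16_FrobQuot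

section Card

/-- The image of `N` in `L ⧸ H₁` has `|N : N ∩ H₁|` elements. -/
theorem card_map_mk {L : Type*} [Group L] (H₁ N : Subgroup L) [H₁.Normal] :
    Nat.card (N.map (QuotientGroup.mk' H₁)) = H₁.relIndex N := by
  have h1 := Subgroup.relIndex_map_map (QuotientGroup.mk' H₁) H₁ N
  have hker : (QuotientGroup.mk' H₁).ker = H₁ := QuotientGroup.ker_mk' H₁
  have h2 : H₁.map (QuotientGroup.mk' H₁) = ⊥ := by
    rw [Subgroup.map_eq_bot_iff, hker]
  rw [h2, Subgroup.relIndex_bot_left, hker, sup_idem, Subgroup.relIndex_sup_right] at h1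
  exact h1

end Card

section Action

variable {L : Type*} [Group L] [Finite L]

/-- The Frobenius congruence. -/
theorem index_dvd_relIndex_sub_one (K H₁ N : Subgroup L) [K.Normal] [H₁.Normal] [N.Normal]
    (hcomm : ⁅K, K⁆ ≤ H₁) (hNK : N ≤ K)
    (hfrob : ∀ k ∈ K, k ∉ H₁ → ∀ x : L, x * k * x⁻¹ * k⁻¹ ∈ H₁ → x ∈ K) :
    K.index ∣ H₁.relIndex N - 1 := by
  classical
  set π : L →* L ⧸ H₁ := QuotientGroup.mk' H₁ with hπ
  have hπs : Function.Surjective π := QuotientGroup.mk'_surjective H₁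
  set Nb : Subgroup (L ⧸ H₁) := N.map π with hNb
  have hNbn : Nb.Normal := Subgroup.Normal.map inferInstance π hπs
  let X := {q : L ⧸ H₁ // q ∈ (Nb : Set (L ⧸ H₁)) \ {1}}
  let act : MulAction L X :=
    { smul := fun x q => ⟨π x * q.1 * (π x)⁻¹, hNbn.conj_mem _ q.2.1 _, fun h => q.2.2 (by
        have h' : π x * q.1 * (π x)⁻¹ = 1 := h
        rw [conj_eq_one_iff] at h'
        exact h')⟩
      one_smul := fun q => Subtype.ext (by
        change π 1 * q.1 * (π 1)⁻¹ = q.1
        simp)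
      mul_smul := fun x y q => Subtype.ext (by
        change π (x * y) * q.1 * (π (x * y))⁻¹ = π x * (π y * q.1 * (π y)⁻¹) * (π x)⁻¹
        simp [mul_assoc]) }
  have hsmul : ∀ (x : L) (q : X), ((x • q : X) : L ⧸ H₁) = π x * q.1 * (π x)⁻¹ := fun _ _ => rfl
  have hstab : ∀ q : X, MulAction.stabilizer L q = K := by
    intro q
    obtain ⟨y, hyN, hyq⟩ := q.2.1
    have hyH₁ : y ∉ H₁ := by
      intro h
      apply q.2.2
      rw [Set.mem_singleton_iff, ← hyq]
      exact (QuotientGroup.eq_one_iff y).mpr h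
    ext x
    rw [MulAction.mem_stabilizer_iff]
    have hiff : x • q = q ↔ x * y * x⁻¹ * y⁻¹ ∈ H₁ := by
      rw [← Subtype.coe_inj, hsmul, ← hyq]
      rw [← QuotientGroup.eq_one_iff, hπ]
      simp only [QuotientGroup.mk'_apply, QuotientGroup.mk_mul, QuotientGroup.mk_inv]
      rw [mul_inv_eq_one]
    rw [hiff]
    constructor
    · exact hfrob y (hNK hyN) hyH₁ x
    · intro hx
      apply hcomm
      have := Subgroup.commutator_mem_commutator hx (hNK hyN)
      rwa [commutatorElement_def] at this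
  have hfinΩ : Fintype (Quotient (MulAction.orbitRel L X)) := Fintype.ofFinite _
  have hcard : Nat.card X = Nat.card (Quotient (MulAction.orbitRel L X)) * K.index := by
    rw [Nat.card_congr (MulAction.selfEquivSigmaOrbitsQuotientStabilizer L X), Nat.card_sigma]
    have : ∀ ω : Quotient (MulAction.orbitRel L X),
        Nat.card (L ⧸ MulAction.stabilizer L ω.out) = K.index := by
      intro ω
      rw [hstab]
      rfl
    rw [Finset.sum_congr rfl (fun ω _ => this ω), Finset.sum_const, Finset.card_univ,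
      smul_eq_mul, Nat.card_eq_fintype_card]
  have hX : Nat.card X = Nat.card Nb - 1 := by
    have h0 : Nat.card X = ((Nb : Set (L ⧸ H₁)) \ {1}).ncard := Nat.card_coe_set_eq _
    rw [h0, Set.ncard_sdiff_singleton_of_mem (Nb.one_mem), ← Nat.card_coe_set_eq]
    rfl
  have hNbcard : Nat.card Nb = H₁.relIndex N := card_map_mk H₁ N
  rw [← hNbcard, ← hX, hcard]
  exact Dvd.intro_left _ rfl

end Action

section Arith

theorem two_mul_add_one_le {m e : ℕ} (hm : Odd m) (he : Odd e) (h : e ∣ m - 1) (h1 : 1 < m) :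
    2 * e + 1 ≤ m := by
  obtain ⟨c, hc⟩ := h
  obtain ⟨a, ha⟩ := hm
  obtain ⟨b, hb⟩ := he
  have hc0 : c ≠ 0 := by
    rintro rfl
    omega
  have hceven : Even c := by
    have h2 : Even (e * c) := by
      rw [← hc]
      exact ⟨a, by omega⟩
    rcases (Nat.even_mul.mp h2) with h3 | h3
    · exfalso
      rw [hb] at h3
      exact (Nat.not_even_iff_odd.mpr ⟨b, rfl⟩) h3
    · exact h3
  obtain ⟨c', hc'⟩ := hceven
  have hc'0 : 1 ≤ c' := by omega
  have : 2 * e ≤ e * c := by
    rw [hc']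
    nlinarith
  omega

end Arith

section Bound

variable {L : Type*} [Group L] [Finite L]

/-- With `|L|` odd, an intermediate normal subgroup `H₁ < N < K` forces
`4 |L:K|² + 1 < |K : H₁|`. -/
theorem bound_of_intermediate (hodd : Odd (Nat.card L)) (K H₁ N : Subgroup L) [K.Normal]
    [H₁.Normal] [N.Normal] (hcomm : ⁅K, K⁆ ≤ H₁) (hH₁N : H₁ < N) (hNK : N < K)
    (hfrob : ∀ k ∈ K, k ∉ H₁ → ∀ x : L, x * k * x⁻¹ * k⁻¹ ∈ H₁ → x ∈ K) :
    4 * K.index ^ 2 + 1 < H₁.relIndex K := by
  have h1 := index_dvd_relIndex_sub_one K H₁ N hcomm hNK.le hfrob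
  have h2 := index_dvd_relIndex_sub_one K H₁ K hcomm le_rfl hfrob
  have hmul : H₁.relIndex N * N.relIndex K = H₁.relIndex K :=
    Subgroup.relIndex_mul_relIndex _ _ _ hH₁N.le hNK.le
  have hm1pos : 1 < H₁.relIndex N := by
    have h0 : H₁.relIndex N ≠ 0 :=
      Subgroup.index_ne_zero_of_finite (H := H₁.subgroupOf N)
    have h1' : H₁.relIndex N ≠ 1 := fun h =>
      (not_le_of_gt hH₁N) (Subgroup.relIndex_eq_one.mp h)
    omega
  have hm2pos : 1 < N.relIndex K := by
    have h0 : N.relIndex K ≠ 0 :=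
      Subgroup.index_ne_zero_of_finite (H := N.subgroupOf K)
    have h1' : N.relIndex K ≠ 1 := fun h =>
      (not_le_of_gt hNK) (Subgroup.relIndex_eq_one.mp h)
    omega
  have hdvdL : ∀ A B : Subgroup L, A.relIndex B ∣ Nat.card L := fun A B =>
    (Subgroup.relIndex_dvd_card A B).trans (Subgroup.card_subgroup_dvd_card B)
  have hoddrel : ∀ A B : Subgroup L, Odd (A.relIndex B) := fun A B =>
    Odd.of_dvd_nat hodd (hdvdL A B)
  have hodde : Odd K.index := Odd.of_dvd_nat hodd (Subgroup.index_dvd_card K)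
  have hb1 := two_mul_add_one_le (hoddrel H₁ N) hodde h1 hm1pos
  -- the congruence for N.relIndex K
  have hmod1 : H₁.relIndex N ≡ 1 [MOD K.index] :=
    ((Nat.modEq_iff_dvd' hm1pos.le).mpr h1).symm
  have hK1 : 1 ≤ H₁.relIndex K := by
    rw [← hmul]
    exact Nat.one_le_iff_ne_zero.mpr (Nat.mul_ne_zero (by omega) (by omega))
  have hmod2 : H₁.relIndex K ≡ 1 [MOD K.index] :=
    ((Nat.modEq_iff_dvd' hK1).mpr h2).symm
  have hmod3 : N.relIndex K ≡ 1 [MOD K.index] := by
    have h3 : H₁.relIndex N * N.relIndex K ≡ 1 * N.relIndex K [MOD K.index] :=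
      Nat.ModEq.mul_right _ hmod1
    rw [hmul, one_mul] at h3
    exact h3.symm.trans hmod2
  have h3 : K.index ∣ N.relIndex K - 1 := (Nat.modEq_iff_dvd' hm2pos.le).mp hmod3.symm
  have hb2 := two_mul_add_one_le (hoddrel N K) hodde h3 hm2pos
  have hepos : 1 ≤ K.index := Nat.one_le_iff_ne_zero.mpr Subgroup.index_ne_zero_of_finite
  rw [← hmul]
  calc 4 * K.index ^ 2 + 1 < (2 * K.index + 1) * (2 * K.index + 1) := by nlinarith
    _ ≤ H₁.relIndex N * N.relIndex K := Nat.mul_le_mul hb1 hb2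

end Bound

end Cfsg.Agent.Lib.Helper16_FrobQuot
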