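import Cfsg.Agent.Lib.Helper75_GlaubCyclic
import Cfsg.Agent.Lib.Helper81_Twist
import Cfsg.Agent.Lib.Helper75_ExtendCyclic
import Cfsg.Agent.Lib.Helper75_Clifford
import Cfsg.Agent.Lib.Helper75_CosetConj
import Cfsg.Agent.Lib.Helper79_Linear
import Cfsg.Agent.Lib.Helper75_LinChar
import Cfsg.Agent.Lib.Helper80_CharBasic
import Cfsg.Agent.S0856
import Cfsg.Agent.S0173

/-!
# Characters of the kernel in a group of "type P" shape (helper25)

`L = K ⋊ W₁`, `W₁` cyclic of order prime to `|K|`, and `C_K(x) = W₂` (abelian) for every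
non-identity `x ∈ W₁`.

* `card_invariant_irr`: for a cyclic group `⟨s⟩` acting coprimely on `G ⊴ Γ`, the number of
  `s`-invariant irreducible characters of `G` is the class number of `C_G(s)`.
* `invariant_of_fixed`: an irreducible character of `K` fixed by a non-identity element of `W₁`
  is fixed by all of `W₁`.
* `isIrrCharacter_indFun_of_moved`: a moved irreducible character induces irreducibly.
* `exists_finset_of_invariant`: an invariant irreducible character of `K` induces to a sum of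
  `|L : K|` distinct irreducible characters when `L ⧸ K` is cyclic.
-/

set_option autoImplicit false
open scoped ComplexConjugate

namespace Cfsg.Agent.Lib.Helper25_TypeP

open Cfsg.Agent.Lib.Helper75_Clifford Cfsg.Agent.Lib.Helper75_CosetConj
  Cfsg.Agent.Lib.Helper3_CharBridge

section count

variable {Γ : Type*} [Group Γ] [Finite Γ] (G : Subgroup Γ) [hG : G.Normal]

omit [Finite Γ] in
/-- The centralizer of a cyclic group is the centralizer of its generator. -/
theorem centralizer_zpowers (s : Γ) :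
    Subgroup.centralizer ((Subgroup.zpowers s : Subgroup Γ) : Set Γ) =
      Subgroup.centralizer ({s} : Set Γ) := by
  ext c
  constructor
  · intro hc
    rw [Subgroup.mem_centralizer_singleton_iff]
    exact ((Subgroup.mem_centralizer_iff.mp hc) s (Subgroup.mem_zpowers s)).symm
  · intro hc
    rw [Subgroup.mem_centralizer_singleton_iff] at hc
    exact mem_centralizer_of_commute (Subgroup.zpowers s) rfl hc

/-- Brauer's permutation lemma plus Glauberman's lemma: the number of `s`-invariant irreducible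
characters of `G` is the class number of `C_G(s)`, when `⟨s⟩` has order prime to `|G|`. -/
theorem card_invariant_irr (s : Γ)
    (hcop : (Nat.card G).Coprime (Nat.card (Subgroup.zpowers s))) :
    Nat.card {χ : Cfsg.IrrCharacter G // conjFun G hG (χ : G → ℂ) s = (χ : G → ℂ)} =
      Nat.card (ConjClasses ↥(G ⊓ Subgroup.centralizer ({s} : Set Γ))) := by
  set α : G ≃* G := MulAut.conjNormal s with hα
  have hαv : ∀ g : G, ((α g : G) : Γ) = s * g * s⁻¹ := fun g => MulAut.conjNormal_apply s g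
  have h1 : Nat.card {χ : Cfsg.IrrCharacter G // conjFun G hG (χ : G → ℂ) s = (χ : G → ℂ)} =
      Nat.card {χ : Cfsg.IrrCharacter G // (χ : G → ℂ) ∘ α = (χ : G → ℂ)} := by
    apply Nat.card_congr
    apply Equiv.subtypeEquivRight
    intro χ
    rw [conjFun_eq_comp]
    rfl
  rw [h1, ← Cfsg.Agent.S0173.result α,
    card_fixed_classes G (Subgroup.zpowers s) (fun t _ g hg => hG.conj_mem g hg t) hcop rfl α hαv
      (G ⊓ Subgroup.centralizer ({s} : Set Γ)) (by rw [centralizer_zpowers])]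

end count


section typeP

variable {L : Type*} [Group L] [Fintype L] (K W₁ W₂ : Subgroup L) [hK : K.Normal]

/-- In a commutative group, classes are elements. -/
theorem card_conjClasses_of_comm {A : Type*} [Group A] (hA : ∀ a b : A, a * b = b * a) :
    Nat.card (ConjClasses A) = Nat.card A := by
  symm
  apply Nat.card_congr
  refine Equiv.ofBijective ConjClasses.mk ⟨?_, ConjClasses.mk_surjective⟩
  intro a b hab
  rw [ConjClasses.mk_eq_mk_iff_isConj, isConj_iff] at hab
  obtain ⟨c, hc⟩ := hab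
  rw [← hc, hA c a, mul_inv_cancel_right]

omit [Fintype L] in
theorem index_eq_card (hKW₁ : K ⊓ W₁ = ⊥) (hKW₁' : K ⊔ W₁ = ⊤) : K.index = Nat.card W₁ := by
  rw [← Subgroup.relIndex_top_right, ← hKW₁', Subgroup.relIndex_sup_left,
    ← Subgroup.inf_relIndex_right, hKW₁, Subgroup.relIndex_bot_left]

omit [Fintype L] in
theorem coprime_card [Finite L] (hKW₁ : K ⊓ W₁ = ⊥) (hKW₁' : K ⊔ W₁ = ⊤)
    (hHall : Nat.Coprime (Nat.card W₁) W₁.index) : (Nat.card K).Coprime (Nat.card W₁) := by
  have h1 : Nat.card K * K.index = Nat.card L := Subgroup.card_mul_index K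
  have h2 : Nat.card W₁ * W₁.index = Nat.card L := Subgroup.card_mul_index W₁
  rw [index_eq_card K W₁ hKW₁ hKW₁'] at h1
  have h3 : W₁.index = Nat.card K := by
    have hpos : 0 < Nat.card W₁ := Nat.card_pos
    have : Nat.card W₁ * W₁.index = Nat.card W₁ * Nat.card K := by rw [h2, ← h1, mul_comm]
    exact Nat.eq_of_mul_eq_mul_left hpos this
  rw [h3] at hHall
  exact hHall.symm

omit [Fintype L] in
theorem coprime_zpowers [Finite L] (hKW₁ : K ⊓ W₁ = ⊥) (hKW₁' : K ⊔ W₁ = ⊤)
    (hHall : Nat.Coprime (Nat.card W₁) W₁.index) {w : L} (hw : w ∈ W₁) :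
    (Nat.card K).Coprime (Nat.card (Subgroup.zpowers w)) :=
  Nat.Coprime.coprime_dvd_right (Subgroup.card_dvd_of_le (Subgroup.zpowers_le.mpr hw))
    (coprime_card K W₁ hKW₁ hKW₁' hHall)

omit [Fintype L] in
theorem exists_generator (hW₁c : IsCyclic W₁) : ∃ s : L, s ∈ W₁ ∧ Subgroup.zpowers s = W₁ := by
  obtain ⟨g, hg⟩ := hW₁c.exists_generator
  refine ⟨g, g.2, ?_⟩
  apply le_antisymm (Subgroup.zpowers_le.mpr g.2)
  intro x hx
  obtain ⟨i, hi⟩ := Subgroup.mem_zpowers_iff.mp (hg ⟨x, hx⟩)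
  rw [Subgroup.mem_zpowers_iff]
  refine ⟨i, ?_⟩
  have := congrArg Subtype.val hi
  simpa using this

/-- invariance under the generator is invariance under `W₁`. -/
theorem invariant_iff {s : L} (hs : Subgroup.zpowers s = W₁) (θ : K → ℂ) :
    (∀ x ∈ W₁, conjFun K hK θ x = θ) ↔ conjFun K hK θ s = θ := by
  constructor
  · intro h
    exact h s (hs ▸ Subgroup.mem_zpowers s)
  · intro h x hx
    rw [← hs, ← mem_powers_iff_mem_zpowers] at hx
    obtain ⟨j, rfl⟩ := (Submonoid.mem_powers_iff _ _).mp hx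
    induction j with
    | zero => rw [pow_zero, conjFun_one]
    | succ j ih =>
      rw [pow_succ, ← conjFun_conjFun, ih, h]
      exact Submonoid.pow_mem _ (Submonoid.mem_powers s) j

/-- The number of irreducible characters of `K` fixed by a non-identity `w ∈ W₁`. -/
theorem card_fixed_by (hKW₁ : K ⊓ W₁ = ⊥) (hKW₁' : K ⊔ W₁ = ⊤)
    (hHall : Nat.Coprime (Nat.card W₁) W₁.index) (hW₂c : IsCyclic W₂)
    (hC : ∀ x ∈ W₁, x ≠ 1 → K ⊓ Subgroup.centralizer ({x} : Set L) = W₂)
    {w : L} (hw : w ∈ W₁) (hw1 : w ≠ 1) :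
    Nat.card {χ : Cfsg.IrrCharacter K // conjFun K hK (χ : K → ℂ) w = (χ : K → ℂ)} =
      Nat.card W₂ := by
  rw [card_invariant_irr K w (coprime_zpowers K W₁ hKW₁ hKW₁' hHall hw), hC w hw hw1]
  apply card_conjClasses_of_comm
  intro a b
  obtain ⟨g, hg⟩ := hW₂c.exists_generator
  obtain ⟨i, rfl⟩ := Subgroup.mem_zpowers_iff.mp (hg a)
  obtain ⟨j, rfl⟩ := Subgroup.mem_zpowers_iff.mp (hg b)
  rw [← zpow_add, ← zpow_add, add_comm]

/-- An irreducible character of `K` fixed by a non-identity element of `W₁` is fixed by `W₁`. -/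
theorem invariant_of_fixed (hKW₁ : K ⊓ W₁ = ⊥) (hKW₁' : K ⊔ W₁ = ⊤) (hW₁c : IsCyclic W₁)
    (hHall : Nat.Coprime (Nat.card W₁) W₁.index) (hW₂c : IsCyclic W₂)
    (hC : ∀ x ∈ W₁, x ≠ 1 → K ⊓ Subgroup.centralizer ({x} : Set L) = W₂)
    {θ : K → ℂ} (hθ : Cfsg.IsIrrCharacter K θ) {w : L} (hw : w ∈ W₁) (hw1 : w ≠ 1)
    (hfix : conjFun K hK θ w = θ) : ∀ x ∈ W₁, conjFun K hK θ x = θ := by
  classical
  obtain ⟨s, hsW, hs⟩ := exists_generator W₁ hW₁c
  by_cases hs1 : s = 1
  · intro x hx
    rw [← hs, hs1, Subgroup.zpowers_one_eq_bot, Subgroup.mem_bot] at hx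
    exact absurd (by rw [← hs, hs1, Subgroup.zpowers_one_eq_bot, Subgroup.mem_bot] at hw; exact hw)
      hw1
  have hA := card_fixed_by K W₁ W₂ hKW₁ hKW₁' hHall hW₂c hC hw hw1
  have hB := card_fixed_by K W₁ W₂ hKW₁ hKW₁' hHall hW₂c hC hsW hs1
  let f : {χ : Cfsg.IrrCharacter K // conjFun K hK (χ : K → ℂ) s = (χ : K → ℂ)} →
      {χ : Cfsg.IrrCharacter K // conjFun K hK (χ : K → ℂ) w = (χ : K → ℂ)} :=
    fun χ => ⟨χ.1, ((invariant_iff K W₁ hs _).mpr χ.2) w hw⟩
  have hf : Function.Injective f := by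
    intro a b hab
    apply Subtype.ext
    have h0 : (f a).1 = (f b).1 := congrArg Subtype.val hab
    exact h0
  have : Finite (Cfsg.IrrCharacter K) := Cfsg.Agent.Lib.Helper3_CharOrtho.finite_irr
  have hbij := hf.bijective_of_nat_card_le (by rw [hA, hB])
  obtain ⟨χ, hχ⟩ := hbij.2 ⟨⟨θ, hθ⟩, hfix⟩
  have h1 : (χ.1 : K → ℂ) = θ := by
    have := congrArg (fun z => ((z.1 : Cfsg.IrrCharacter K) : K → ℂ)) hχ
    exact this
  rw [invariant_iff K W₁ hs, ← h1]
  exact χ.2

/-- An irreducible character of `K` moved by some element of `W₁` induces irreducibly to `L`. -/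
theorem isIrrCharacter_indFun_of_moved (hKW₁ : K ⊓ W₁ = ⊥) (hKW₁' : K ⊔ W₁ = ⊤)
    (hW₁c : IsCyclic W₁)
    (hHall : Nat.Coprime (Nat.card W₁) W₁.index) (hW₂c : IsCyclic W₂)
    (hC : ∀ x ∈ W₁, x ≠ 1 → K ⊓ Subgroup.centralizer ({x} : Set L) = W₂)
    {θ : K → ℂ} (hθ : Cfsg.IsIrrCharacter K θ)
    (hmoved : ∃ x ∈ W₁, conjFun K hK θ x ≠ θ) : Cfsg.IsIrrCharacter L (Cfsg.indFun K θ) := by
  classical
  have hcl : Cfsg.IsClassFunction K θ := isClassFunction_of_isIrrCharacter hθ
  have hI : ∀ g : L, g ∈ K ↔ conjFun K hK θ g = θ := by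
    intro g
    constructor
    · intro hg
      exact conjFun_of_mem K hK hcl ⟨g, hg⟩
    · intro hg
      by_contra hgK
      have hg' : g ∈ K ⊔ W₁ := by rw [hKW₁']; trivial
      rw [← SetLike.mem_coe, Subgroup.normal_mul, Set.mem_mul] at hg'
      obtain ⟨k, hk, w, hw, rfl⟩ := hg'
      have hw1 : w ≠ 1 := by
        rintro rfl
        apply hgK
        rw [mul_one]
        exact hk
      have hfix : conjFun K hK θ w = θ := by
        rw [← conjFun_conjFun, conjFun_of_mem K hK hcl ⟨k, hk⟩] at hg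
        exact hg
      obtain ⟨x, hx, hne⟩ := hmoved
      exact hne (invariant_of_fixed K W₁ W₂ hKW₁ hKW₁' hW₁c hHall hW₂c hC hθ hw hw1 hfix x hx)
  exact Cfsg.Agent.Lib.Helper81_Twist.isIrrCharacter_indFun_ext K K hK le_rfl hθ hI ⟨θ, hθ⟩
    (fun n => rfl)

end typeP

section gallagher

open Cfsg.Agent.Lib.Helper75_LinChar Cfsg.Agent.Lib.Helper75_Induced
  Cfsg.Agent.Lib.Helper3_CharOrtho

variable {G : Type*} [Group G] [Fintype G] (N : Subgroup G) [hN : N.Normal]

/-- The function induced from the restriction to a normal subgroup of a class function. -/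
theorem indFun_res_apply {χ : G → ℂ} (hχ : Cfsg.IsClassFunction G χ) (g : G) :
    Cfsg.indFun N (fun n : N => χ n) g =
      open scoped Classical in if g ∈ N then (N.index : ℂ) * χ g else 0 := by
  classical
  rw [indFun_apply]
  have hN0 : (Nat.card N : ℂ) ≠ 0 := by
    rw [Nat.cast_ne_zero]; exact Nat.card_pos.ne'
  by_cases hg : g ∈ N
  · rw [if_pos hg]
    have h1 : ∀ x : G, Cfsg.extendByZero N (fun n : N => χ n) (x⁻¹ * g * x) = χ g := by
      intro x
      have hx : x⁻¹ * g * x ∈ N := by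
        have := hN.conj_mem g hg x⁻¹
        rwa [inv_inv] at this
      rw [extendByZero_of_mem N _ hx]
      have := hχ g x⁻¹
      rw [inv_inv] at this
      exact this
    simp_rw [h1]
    rw [Finset.sum_const, Finset.card_univ, nsmul_eq_mul, ← Nat.card_eq_fintype_card,
      ← Subgroup.card_mul_index N]
    push_cast
    field_simp
  · rw [if_neg hg]
    have h1 : ∀ x : G, Cfsg.extendByZero N (fun n : N => χ n) (x⁻¹ * g * x) = 0 := by
      intro x
      apply extendByZero_of_not_mem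
      intro hx
      apply hg
      have := hN.conj_mem _ hx x
      have h2 : x * (x⁻¹ * g * x) * x⁻¹ = g := by group
      rwa [h2] at this
    simp_rw [h1]
    simp

/-- **Gallagher for a cyclic quotient**: an invariant irreducible character `θ` of `N ⊴ G` with
`G ⧸ N` cyclic induces to the sum of `|G : N|` distinct irreducible characters of `G`. -/
theorem exists_finset_of_invariant (hcyc : IsCyclic (G ⧸ N)) {θ : N → ℂ}
    (hθ : Cfsg.IsIrrCharacter N θ)
    (hinv : ∀ (g : G) (n : N), θ ⟨g * n * g⁻¹, hN.conj_mem (n : G) n.2 g⟩ = θ n) :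
    ∃ C : Finset (G → ℂ), C.card = N.index ∧ (∀ μ ∈ C, Cfsg.IsIrrCharacter G μ) ∧
      Cfsg.indFun N θ = ∑ μ ∈ C, μ := by
  classical
  obtain ⟨χ, hχ, hext⟩ :=
    Cfsg.Agent.Lib.Helper75_ExtendCyclic.exists_irr_extension_of_cyclic N hN hcyc θ hθ hinv
  have hχc : Cfsg.IsClassFunction G χ := isClassFunction_of_isIrrCharacter hχ
  have hθeq : (fun n : N => χ n) = θ := funext hext
  -- the cyclic quotient
  set m : ℕ := Nat.card (G ⧸ N) with hm
  have hm0 : m ≠ 0 := Nat.card_pos.ne'
  have : NeZero m := ⟨hm0⟩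
  have hmidx : m = N.index := rfl
  let e : Multiplicative (ZMod m) ≃* G ⧸ N := zmodCyclicMulEquiv hcyc
  let π : G →* Multiplicative (ZMod m) := e.symm.toMonoidHom.comp (QuotientGroup.mk' N)
  have hπ1 : ∀ g : G, π g = 1 ↔ g ∈ N := by
    intro g
    show e.symm (QuotientGroup.mk' N g) = 1 ↔ g ∈ N
    rw [MulEquiv.map_eq_one_iff, QuotientGroup.mk'_apply, QuotientGroup.eq_one_iff]
  have hπsurj : Function.Surjective π := by
    intro a
    obtain ⟨g, hg⟩ := QuotientGroup.mk'_surjective N (e a)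
    refine ⟨g, ?_⟩
    show e.symm (QuotientGroup.mk' N g) = a
    rw [hg, MulEquiv.symm_apply_apply]
  -- the linear characters
  let β : AddChar (ZMod m) ℂ → G → ℂ := fun ψ g => (ψ.toMonoidHom.comp π) g
  have hβv : ∀ ψ g, β ψ g = ψ (Multiplicative.toAdd (π g)) := fun ψ g => rfl
  have hβlin : ∀ ψ, IsLin G (β ψ) := fun ψ => isLin_of_hom (ψ.toMonoidHom.comp π)
  have hβN : ∀ ψ (n : N), β ψ n = 1 := by
    intro ψ n
    rw [hβv, (hπ1 n).mpr n.2]
    simp
  have hβinj : Function.Injective β := by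
    intro ψ ψ' h
    apply AddChar.ext
    intro a
    obtain ⟨g, hg⟩ := hπsurj (Multiplicative.ofAdd a)
    have := congrFun h g
    rw [hβv, hβv, hg] at this
    exact this
  -- Gallagher injectivity
  let _ : Fintype N := Fintype.ofFinite N
  have hone : Cfsg.IsIrrCharacter N (fun _ : N => (1 : ℂ)) :=
    Cfsg.Agent.Lib.Helper80_CharBasic.isIrrCharacter_one N
  have hprodeq : (fun _ : N => (1 : ℂ)) * θ = θ := by
    funext n; simp
  have hbij := Cfsg.Agent.S0856.result N (fun _ => 1) θ hone hθ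
    (fun _ _ => rfl) hinv (by rw [hprodeq]; exact hθ) χ hχ hext
  have hmem : ∀ ψ, β ψ ∈ {β : G → ℂ | Cfsg.IsIrrCharacter G β ∧
      Cfsg.classInner (Cfsg.indFun N (fun _ : N => (1 : ℂ))) β ≠ 0} := by
    intro ψ
    refine ⟨(hβlin ψ).irr, ?_⟩
    rw [frobenius_reciprocity N _ _ (isClassFunction_of_isIrrCharacter (hβlin ψ).irr)]
    have : (fun h : N => β ψ h) = fun _ : N => (1 : ℂ) := funext (hβN ψ)
    rw [this, classInner_self_of_isIrrCharacter hone]
    exact one_ne_zero
  have hinj : Function.Injective (fun ψ : AddChar (ZMod m) ℂ => β ψ * χ) := by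
    intro ψ ψ' h
    exact hβinj (hbij.injOn (hmem ψ) (hmem ψ') h)
  refine ⟨Finset.univ.image (fun ψ : AddChar (ZMod m) ℂ => β ψ * χ), ?_, ?_, ?_⟩
  · rw [Finset.card_image_of_injective _ hinj, Finset.card_univ, AddChar.card_eq, ZMod.card]
    rfl
  · intro μ hμ
    obtain ⟨ψ, _, rfl⟩ := Finset.mem_image.mp hμ
    exact (hβlin ψ).mul_irr hχ
  · rw [Finset.sum_image (fun a _ b _ h => hinj h), ← hθeq]
    funext g
    rw [indFun_res_apply N hχc, Finset.sum_apply]
    simp_rw [Pi.mul_apply, hβv]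
    rw [← Finset.sum_mul, AddChar.sum_apply_eq_ite, ZMod.card]
    by_cases hg : g ∈ N
    · have h0 : Multiplicative.toAdd (π g) = 0 := by
        rw [(hπ1 g).mpr hg]
        rfl
      rw [if_pos hg, if_pos h0]
      rfl
    · have h0 : ¬ Multiplicative.toAdd (π g) = 0 := by
        intro h
        apply hg
        rw [← hπ1]
        exact h
      rw [if_neg hg, if_neg h0, zero_mul]

end gallagher

end Cfsg.Agent.Lib.Helper25_TypeP
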