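import Cfsg.Agent.Lib.Helper75_Clifford
import Cfsg.Agent.Lib.Helper80_CharComplete

set_option autoImplicit false

namespace Cfsg.Agent.Lib.Helper75_BrauerPerm

open scoped ComplexConjugate
open Cfsg.Agent.Lib.Helper75_Induced Cfsg.Agent.Lib.Helper75_CharArith
  Cfsg.Agent.Lib.Helper75_IndChar Cfsg.Agent.Lib.Helper75_Clifford
open Cfsg.Agent.Lib.Helper3_CharBridge Cfsg.Agent.Lib.Helper3_CharOrtho
  Cfsg.Agent.Lib.Helper3_CharComplete

variable {G : Type*} [Group G]

/-- Brauer's permutation lemma for one element: the number of irreducible characters of the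
normal subgroup `N` fixed by `g` equals `|N|⁻¹ ∑ |C_N(n)|` over the `n` with `gng⁻¹ ~_N n`. -/
theorem sum_classInner_conjFun [Finite G] (N : Subgroup G) (hN : N.Normal) [Fintype N] (g : G)
    [∀ n : N, Decidable (IsConj (⟨g * n * g⁻¹, hN.conj_mem n n.2 g⟩ : N) n)] :
    ∑ χ : Cfsg.IrrCharacter N, Cfsg.classInner (conjFun N hN (χ : N → ℂ) g) (χ : N → ℂ) =
      (Nat.card N : ℂ)⁻¹ * ∑ n : N,
        if IsConj (⟨g * n * g⁻¹, hN.conj_mem n n.2 g⟩ : N) n then
          (Nat.card (Subgroup.centralizer ({(⟨g * n * g⁻¹, hN.conj_mem n n.2 g⟩ : N)} : Set N)) : ℂ)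
        else 0 := by
  unfold Cfsg.classInner
  rw [← Finset.mul_sum, Finset.sum_comm]
  congr 1
  apply Finset.sum_congr rfl
  intro n _
  rw [← Cfsg.Agent.Lib.Helper80_CharComplete.second_orthogonality_sum]
  rfl

/-- If `g` fixes only the trivial conjugacy class of `N`, it fixes only the trivial character. -/
theorem eq_one_of_conjFun_eq [Finite G] (N : Subgroup G) (hN : N.Normal) (g : G)
    (hg : ∀ n : N, IsConj (⟨g * n * g⁻¹, hN.conj_mem n n.2 g⟩ : N) n → n = 1)
    {φ : N → ℂ} (hφ : Cfsg.IsIrrCharacter N φ) (hfix : conjFun N hN φ g = φ) :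
    φ = fun _ => 1 := by
  classical
  have : Fintype N := Fintype.ofFinite N
  by_contra hne
  have h1 := sum_classInner_conjFun N hN g
  have h2 : ∑ n : N,
        (if IsConj (⟨g * n * g⁻¹, hN.conj_mem n n.2 g⟩ : N) n then
          (Nat.card (Subgroup.centralizer ({(⟨g * n * g⁻¹, hN.conj_mem n n.2 g⟩ : N)} : Set N)) : ℂ)
        else 0) = (Nat.card N : ℂ) := by
    rw [Finset.sum_eq_single (1 : N)]
    · have h3 : (⟨g * ((1 : N) : G) * g⁻¹, hN.conj_mem _ (1 : N).2 g⟩ : N) = 1 := by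
        ext; simp
      rw [h3, if_pos (IsConj.refl 1)]
      have : Subgroup.centralizer ({(1 : N)} : Set N) = ⊤ := by
        rw [eq_top_iff]
        intro x _
        rw [Subgroup.mem_centralizer_singleton_iff]
        simp
      rw [this, Subgroup.card_top]
    · intro n _ hn1
      rw [if_neg (fun h => hn1 (hg n h))]
    · intro h; exact absurd (Finset.mem_univ _) h
  rw [h2] at h1
  have hN0 : (Nat.card N : ℂ) ≠ 0 := by
    rw [Nat.cast_ne_zero]; exact Nat.card_pos.ne'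
  rw [inv_mul_cancel₀ hN0] at h1
  -- the two fixed characters contribute 2
  have h1irr : Cfsg.IsIrrCharacter N (fun _ => (1 : ℂ)) :=
    Cfsg.Agent.Lib.Helper80_CharBasic.isIrrCharacter_one N
  have hterm : ∀ χ : Cfsg.IrrCharacter N,
      Cfsg.classInner (conjFun N hN (χ : N → ℂ) g) (χ : N → ℂ) =
        if conjFun N hN (χ : N → ℂ) g = χ then 1 else 0 := fun χ =>
    classInner_irr (isIrrCharacter_conjFun N hN χ.2 g) χ.2
  simp_rw [hterm] at h1
  have h3 : (2 : ℝ) ≤ ∑ χ : Cfsg.IrrCharacter N,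
      (if conjFun N hN (χ : N → ℂ) g = χ then (1 : ℝ) else 0) := by
    have hsub : ({⟨φ, hφ⟩, ⟨fun _ => 1, h1irr⟩} : Finset (Cfsg.IrrCharacter N)) ⊆ Finset.univ :=
      Finset.subset_univ _
    have hne' : (⟨φ, hφ⟩ : Cfsg.IrrCharacter N) ≠ ⟨fun _ => 1, h1irr⟩ := by
      intro h
      exact hne (congrArg Subtype.val h)
    calc (2 : ℝ) = ∑ χ ∈ ({⟨φ, hφ⟩, ⟨fun _ => 1, h1irr⟩} : Finset (Cfsg.IrrCharacter N)),
          (if conjFun N hN (χ : N → ℂ) g = χ then (1 : ℝ) else 0) := by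
          rw [Finset.sum_pair hne']
          rw [if_pos hfix, if_pos (by funext n; rfl)]
          norm_num
      _ ≤ _ := Finset.sum_le_sum_of_subset_of_nonneg hsub (fun χ _ _ => by split_ifs <;> norm_num)
  have h4 : ((∑ χ : Cfsg.IrrCharacter N,
      (if conjFun N hN (χ : N → ℂ) g = χ then (1 : ℝ) else 0) : ℝ) : ℂ) = 1 := by
    rw [← h1]
    push_cast
    apply Finset.sum_congr rfl
    intro χ _
    split_ifs <;> simp
  have h5 : (∑ χ : Cfsg.IrrCharacter N,
      (if conjFun N hN (χ : N → ℂ) g = χ then (1 : ℝ) else 0)) = 1 := by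
    exact_mod_cast h4
  linarith

end Cfsg.Agent.Lib.Helper75_BrauerPerm
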