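import Cfsg.Agent.Lib.Helper25_FrobTI
import Cfsg.Agent.Lib.Helper25_TypeP
import Cfsg.Agent.Lib.Helper16_CohCount
import Cfsg.Agent.Lib.Helper16_FrobQuot
import Cfsg.Agent.Lib.Helper17_TIPrime
import Cfsg.Agent.Lib.Helper3_CharOrtho
import Cfsg.Agent.S1528

/-!
# Characters of a Frobenius-type group not containing the kernel in their kernel (helper25)

`K ⊴ L` with `C_L(k) ≤ K` for `1 ≠ k ∈ K` and `(|K|, |L : K|) = 1`.

* `setOf_irr_eq`: the irreducible characters of `L` not trivial on `K` are exactly the functions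
  induced from non-principal irreducible characters of `K`.
* `exceptional`: if `K` is commutative and there is only one such character, then
  `|K| = |L : K| + 1` and `K` has exponent `p` (for `K` a `p`-group).
-/

set_option autoImplicit false
open scoped ComplexConjugate

namespace Cfsg.Agent.Lib.Helper25_FrobSet

open Cfsg.Agent.Lib.Helper25_FrobTI Cfsg.Agent.Lib.Helper3_CharBridge
  Cfsg.Agent.Lib.Helper75_Induced Cfsg.Agent.Lib.Helper3_CharOrtho

variable {L : Type*} [Group L] [Fintype L] (K : Subgroup L) [hK : K.Normal]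

/-- Characters induced from non-principal irreducible characters of the kernel. -/
theorem setOf_irr_eq (hfrob : ∀ k ∈ K, k ≠ 1 → ∀ x : L, x * k = k * x → x ∈ K)
    (hcop : (Nat.card K).Coprime K.index) :
    {χ : L → ℂ | Cfsg.IsIrrCharacter L χ ∧ ∃ x ∈ K, χ x ≠ χ 1} = Cfsg.inducedIrrAbove K ⊥ := by
  classical
  have : Fintype K := Fintype.ofFinite K
  ext χ
  constructor
  · rintro ⟨hχ, hker⟩
    have hC : ∀ n ∈ K, n ≠ 1 → Subgroup.centralizer ({n} : Set L) ≤ K := by
      intro n hn hn1 x hx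
      rw [Subgroup.mem_centralizer_singleton_iff] at hx
      exact hfrob n hn hn1 x hx
    obtain ⟨φ, hφ, rfl⟩ := Cfsg.Agent.S1528.result K hC χ hχ hker
    refine ⟨φ, hφ, ?_, fun a ha => ?_, rfl⟩
    · rintro rfl
      obtain ⟨x, hx, hne⟩ := hker
      apply hne
      have h1 := Cfsg.Agent.Lib.Helper25_TypeP.indFun_res_apply K
        (χ := fun _ : L => (1 : ℂ)) (fun _ _ => rfl)
      have e1 : (fun n : K => (fun _ : L => (1 : ℂ)) n) = fun _ : K => (1 : ℂ) := rfl
      rw [e1] at h1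
      rw [h1 x, h1 1, if_pos hx, if_pos K.one_mem]
    · have ha1 : a = 1 := Subtype.ext (Subgroup.mem_bot.mp ha)
      rw [ha1]
  · rintro ⟨θ, hθ, hne, -, rfl⟩
    have hirr := isIrrCharacter_indFun K hfrob hcop hθ hne
    refine ⟨hirr, ?_⟩
    by_contra hcon
    push Not at hcon
    have h1 : Cfsg.classInner (Cfsg.indFun K θ) (Cfsg.indFun K θ) = 1 :=
      classInner_self_of_isIrrCharacter hirr
    rw [frobenius_reciprocity K θ _ (isClassFunction_of_isIrrCharacter hirr)] at h1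
    have e1 : (fun h : K => Cfsg.indFun K θ h) = (Cfsg.indFun K θ 1) • (fun _ : K => (1 : ℂ)) := by
      funext h
      rw [Pi.smul_apply, smul_eq_mul, mul_one]
      exact hcon h h.2
    rw [e1, classInner_smul_right] at h1
    have h2 : Cfsg.classInner θ (fun _ : K => (1 : ℂ)) = 0 := by
      have h3 := classInner_irr hθ (Cfsg.Agent.Lib.Helper16_CohCount.trivIrr K).2
      rw [if_neg (show θ ≠ ((Cfsg.Agent.Lib.Helper16_CohCount.trivIrr K : Cfsg.IrrCharacter K) :
        K → ℂ) from hne)] at h3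
      exact h3
    rw [h2, mul_zero] at h1
    exact zero_ne_one h1

omit hK in
/-- Degrees: characters induced from a commutative kernel have degree the index. -/
theorem apply_one_of_comm (hcomm : ∀ a ∈ K, ∀ b ∈ K, a * b = b * a) {χ : L → ℂ}
    (hχ : χ ∈ Cfsg.inducedIrrAbove K ⊥) : χ 1 = (K.index : ℂ) := by
  obtain ⟨θ, hθ, -, -, rfl⟩ := hχ
  have h1 : θ 1 = 1 := Cfsg.Agent.Lib.Helper17_TIPrime.irr_apply_one_of_comm
      (fun a b => Subtype.ext (hcomm a a.2 b b.2)) ⟨θ, hθ⟩
  rw [Cfsg.Agent.Lib.Helper16_CohCount.indFun_one_index, h1, mul_one]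

/-- The exceptional case: a commutative kernel with a single induced character. -/
theorem exceptional (hfrob : ∀ k ∈ K, k ≠ 1 → ∀ x : L, x * k = k * x → x ∈ K)
    (hcop : (Nat.card K).Coprime K.index)
    (hcomm : ∀ a ∈ K, ∀ b ∈ K, a * b = b * a) (hK1 : K ≠ ⊥) (χ₀ : L → ℂ)
    (hS : Cfsg.inducedIrrAbove K ⊥ = {χ₀}) (p : ℕ) [Fact p.Prime] (hp : IsPGroup p K) :
    Nat.card K = K.index + 1 ∧ ∀ a ∈ K, a ^ p = 1 := by
  classical
  have : Fintype K := Fintype.ofFinite K
  have hχ₀ : χ₀ ∈ Cfsg.inducedIrrAbove K ⊥ := by rw [hS]; rfl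
  have hirr : Cfsg.IsIrrCharacter L χ₀ := by
    obtain ⟨θ, hθ, hne, -, rfl⟩ := hχ₀
    exact isIrrCharacter_indFun K hfrob hcop hθ hne
  -- upper bound
  have hub := Cfsg.Agent.Lib.Helper16_CohCount.sum_bound K ⊥ {χ₀}
    (by rw [hS]; simp) (fun _ => K.index) (fun _ => 1)
    (fun φ hφ => by
      rw [Finset.mem_singleton] at hφ
      rw [hφ]
      exact apply_one_of_comm K hcomm hχ₀)
    (fun φ hφ => by
      rw [Finset.mem_singleton] at hφ
      rw [hφ, classInner_self_of_isIrrCharacter hirr]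
      simp)
    (fun _ _ => Nat.one_pos)
  rw [Finset.sum_singleton, Subgroup.relIndex_bot_left] at hub
  have hidx : 0 < K.index := Nat.pos_of_ne_zero Subgroup.index_ne_zero_of_finite
  have hub' : Nat.card K - 1 ≤ K.index := by
    have h1 : (K.index : ℝ) * ((Nat.card K : ℝ) - 1) ≤ (K.index : ℝ) * (K.index : ℝ) := by
      have : ((K.index : ℕ) : ℝ) ^ 2 / ((1 : ℕ) : ℝ) = (K.index : ℝ) * (K.index : ℝ) := by
        push_cast; ring
      rw [this] at hub
      exact hub
    have h2 : (0 : ℝ) < (K.index : ℝ) := by exact_mod_cast hidx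
    have h3 : (Nat.card K : ℝ) - 1 ≤ (K.index : ℝ) := le_of_mul_le_mul_left h1 h2
    have h4 : (Nat.card K : ℝ) ≤ ((K.index + 1 : ℕ) : ℝ) := by push_cast; linarith
    have h5 : Nat.card K ≤ K.index + 1 := by exact_mod_cast h4
    omega
  -- the Frobenius congruence
  have hcommL : ⁅K, K⁆ ≤ (⊥ : Subgroup L) := by
    rw [Subgroup.commutator_le]
    intro a ha b hb
    rw [Subgroup.mem_bot, commutatorElement_def, hcomm a ha b hb]
    group
  have hfrob' : ∀ k ∈ K, k ∉ (⊥ : Subgroup L) → ∀ x : L,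
      x * k * x⁻¹ * k⁻¹ ∈ (⊥ : Subgroup L) → x ∈ K := by
    intro k hk hk1 x hx
    rw [Subgroup.mem_bot] at hk1 hx
    apply hfrob k hk hk1 x
    have h1 : x * k = (x * k * x⁻¹ * k⁻¹) * (k * x) := by group
    rw [h1, hx, one_mul]
  have hdvd : ∀ N : Subgroup L, N.Normal → N ≤ K → K.index ∣ Nat.card N - 1 := by
    intro N hN hNK
    have := Cfsg.Agent.Lib.Helper16_FrobQuot.index_dvd_relIndex_sub_one K ⊥ N hcommL hNK hfrob'
    rwa [Subgroup.relIndex_bot_left] at this
  have hlb : ∀ N : Subgroup L, N.Normal → N ≤ K → N ≠ ⊥ → K.index + 1 ≤ Nat.card N := by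
    intro N hN hNK hN1
    have h1 := hdvd N hN hNK
    have h2 : 1 < Nat.card N := by
      rw [Nat.one_lt_iff_ne_zero_and_ne_one]
      exact ⟨Nat.card_pos.ne', fun h => hN1 (Subgroup.card_eq_one.mp h)⟩
    have h3 : K.index ≤ Nat.card N - 1 := Nat.le_of_dvd (by omega) h1
    omega
  have hcard : Nat.card K = K.index + 1 := by
    have := hlb K hK le_rfl hK1
    omega
  refine ⟨hcard, ?_⟩
  -- the elements of order dividing p
  let Ω : Subgroup L :=
    { carrier := {x | x ∈ K ∧ x ^ p = 1}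
      mul_mem' := by
        rintro a b ⟨ha, ha'⟩ ⟨hb, hb'⟩
        refine ⟨K.mul_mem ha hb, ?_⟩
        have hc : Commute a b := hcomm a ha b hb
        rw [hc.mul_pow, ha', hb', one_mul]
      one_mem' := ⟨K.one_mem, one_pow p⟩
      inv_mem' := by
        rintro a ⟨ha, ha'⟩
        exact ⟨K.inv_mem ha, by rw [inv_pow, ha', inv_one]⟩ }
  have hΩn : Ω.Normal := by
    refine ⟨fun a ha x => ?_⟩
    obtain ⟨ha, ha'⟩ := ha
    refine ⟨hK.conj_mem a ha x, ?_⟩
    rw [conj_pow, ha', mul_one, mul_inv_cancel]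
  have hΩK : Ω ≤ K := fun x hx => hx.1
  have hΩ1 : Ω ≠ ⊥ := by
    have hpdvd : p ∣ Nat.card K := by
      obtain ⟨n, hn⟩ := hp.exists_card_eq
      rcases Nat.eq_zero_or_pos n with h0 | hpos
      · rw [h0, pow_zero] at hn
        exact absurd (Subgroup.card_eq_one.mp hn) hK1
      · rw [hn]
        exact dvd_pow_self p hpos.ne'
    obtain ⟨k, hk⟩ := exists_prime_orderOf_dvd_card' (G := K) p hpdvd
    intro h
    have hkΩ : (k : L) ∈ Ω := by
      refine ⟨k.2, ?_⟩
      have := pow_orderOf_eq_one k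
      rw [hk] at this
      exact_mod_cast congrArg Subtype.val this
    rw [h, Subgroup.mem_bot] at hkΩ
    have hk1 : k = 1 := Subtype.ext hkΩ
    rw [hk1, orderOf_one] at hk
    exact (Fact.out : p.Prime).one_lt.ne hk
  have hΩcard : Nat.card K ≤ Nat.card Ω := by
    rw [hcard]
    exact hlb Ω hΩn hΩK hΩ1
  have hΩeq : Ω = K := Subgroup.eq_of_le_of_card_ge hΩK hΩcard
  intro a ha
  rw [← hΩeq] at ha
  exact ha.2

end Cfsg.Agent.Lib.Helper25_FrobSet
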