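import Mathlib

/-!
# Finite nilpotent groups and their abelianization (helper16)

* `isPGroup_of_abelianization`: a finite nilpotent group whose abelianization is a `p`-group is a
  `p`-group;
* `comm_of_isCyclic_abelianization`: a nilpotent group with cyclic abelianization is commutative.
-/

set_option autoImplicit false

namespace Cfsg.Agent.Lib.Helper16_NilpAb

/-- A finite nilpotent group in which a `p`-power of every element is a product of commutators is
a `p`-group. -/
theorem isPGroup_of_abelianization {Q : Type*} [Group Q] [Finite Q] [Group.IsNilpotent Q]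
    (p : ℕ) [hp : Fact p.Prime] (hab : ∀ q : Q, ∃ j : ℕ, q ^ (p ^ j) ∈ commutator Q) :
    IsPGroup p Q := by
  classical
  obtain ⟨P⟩ : Nonempty (Sylow p Q) := inferInstance
  have hPn : (P : Subgroup Q).Normal := inferInstance
  set R := Q ⧸ (P : Subgroup Q) with hR
  have hcop : ∀ j : ℕ, (Nat.card R).Coprime (p ^ j) := by
    intro j
    apply Nat.Coprime.pow_right
    rw [Nat.coprime_comm, Nat.Prime.coprime_iff_not_dvd hp.out]
    have : Nat.card R = (P : Subgroup Q).index := rfl
    rw [this]
    exact P.not_dvd_index
  have hperf : commutator R = ⊤ := by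
    rw [eq_top_iff]
    intro r _
    obtain ⟨q, rfl⟩ := QuotientGroup.mk_surjective r
    obtain ⟨j, hj⟩ := hab q
    have h1 : (QuotientGroup.mk q : R) ^ (p ^ j) ∈ commutator R := by
      have h2 : (QuotientGroup.mk' (P : Subgroup Q)) (q ^ (p ^ j)) ∈
          (commutator Q).map (QuotientGroup.mk' (P : Subgroup Q)) := Subgroup.mem_map_of_mem _ hj
      rw [commutator_def, Subgroup.map_commutator] at h2
      have h3 : ⁅Subgroup.map (QuotientGroup.mk' (P : Subgroup Q)) ⊤,
          Subgroup.map (QuotientGroup.mk' (P : Subgroup Q)) ⊤⁆ ≤ commutator R := by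
        rw [commutator_def]
        exact Subgroup.commutator_mono le_top le_top
      have h4 := h3 h2
      simpa using h4
    have h5 := (powCoprime (hcop j)).left_inv (QuotientGroup.mk q : R)
    rw [← h5]
    exact Subgroup.zpow_mem _ h1 _
  have hsub : Subsingleton R := by
    by_contra hns
    rw [not_subsingleton_iff_nontrivial] at hns
    have hlt := Group.IsSolvable.commutator_lt_top_of_nontrivial R
    rw [hperf] at hlt
    exact lt_irrefl _ hlt
  have htop : (P : Subgroup Q) = ⊤ := QuotientGroup.subgroup_eq_top_of_subsingleton _ hsub
  have h6 : IsPGroup p (P : Subgroup Q) := P.isPGroup'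
  rw [htop] at h6
  exact h6.of_equiv Subgroup.topEquiv

/-- A nilpotent group with cyclic abelianization is commutative. -/
theorem comm_of_isCyclic_abelianization (Q : Type*) [Group Q] [Group.IsNilpotent Q] :
    IsCyclic (Abelianization Q) → ∀ a b : Q, a * b = b * a := by
  refine Group.nilpotent_center_quotient_ind
    (P := fun G _ _ => IsCyclic (Abelianization G) → ∀ a b : G, a * b = b * a) Q ?_ ?_
  · intro G _ _ _ a b
    exact Subsingleton.elim _ _
  · intro G _ _ ih hcyc
    -- the quotient by the centre is commutative by induction
    have hsurj : Function.Surjective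
        (Abelianization.map (QuotientGroup.mk' (Subgroup.center G))) := by
      intro y
      obtain ⟨z, rfl⟩ := QuotientGroup.mk_surjective y
      obtain ⟨g, rfl⟩ := QuotientGroup.mk_surjective z
      refine ⟨Abelianization.of g, ?_⟩
      rw [Abelianization.map_of]
      rfl
    have hcyc' : IsCyclic (Abelianization (G ⧸ Subgroup.center G)) :=
      isCyclic_of_surjective _ hsurj
    have hcomm := ih hcyc'
    let _ : CommGroup (G ⧸ Subgroup.center G) :=
      { (inferInstance : Group (G ⧸ Subgroup.center G)) with mul_comm := hcomm }
    -- hence cyclic, as a quotient of the abelianization of `G`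
    have hsurj2 : Function.Surjective
        (Abelianization.lift (QuotientGroup.mk' (Subgroup.center G))) := by
      intro y
      obtain ⟨g, rfl⟩ := QuotientGroup.mk_surjective y
      exact ⟨Abelianization.of g, by simp⟩
    have hcyc2 : IsCyclic (G ⧸ Subgroup.center G) := isCyclic_of_surjective _ hsurj2
    have hmc := MonoidHom.isMulCommutative_of_isCyclic_of_ker_le_center
      (QuotientGroup.mk' (Subgroup.center G)) (by rw [QuotientGroup.ker_mk'])
    exact hmc.is_comm.comm

end Cfsg.Agent.Lib.Helper16_NilpAb
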