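import Mathlib
import Cfsg.Prelude.Def_Characters
import Cfsg.Agent.Lib.Helper75_Induced

/-!
# Induction from the normalizer of a TI-subset (helper75)

`indFun_eq_of_TI`: Let `T` be a TI-subset of `G` with normalizer `N`, `ψ` a class function of `N`
vanishing off `T`.  Then `(Ind ψ)(t) = ψ(t)` for `t ∈ T`, `t ≠ 1`.
`classInner_indFun_of_TI`: `[Ind ψ, Ind θ]_G = [ψ, θ]_N` when moreover `ψ 1 = 0`.
-/

set_option autoImplicit false
open scoped ComplexConjugate

namespace Cfsg.Agent.Lib.Helper75_TISubset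

open Cfsg.Agent.Lib.Helper75_Induced

variable {G : Type*} [Group G]

theorem indFun_eq_of_TI [Fintype G] (T : Set G)
    (hTI : ∀ g : G, g ∉ Subgroup.normalizer T → ∀ t ∈ T, g * t * g⁻¹ ∈ T → t = 1)
    (ψ : Subgroup.normalizer T → ℂ)
    (hψ : Cfsg.IsClassFunction (Subgroup.normalizer T) ψ)
    (hψT : ∀ x : Subgroup.normalizer T, (x : G) ∉ T → ψ x = 0)
    (t : Subgroup.normalizer T) (htT : (t : G) ∈ T) (ht1 : t ≠ 1) :
    Cfsg.indFun (Subgroup.normalizer T) ψ t = ψ t := by
  classical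
  have hN : (Nat.card (Subgroup.normalizer T) : ℂ) ≠ 0 := by
    rw [Nat.cast_ne_zero]; exact Nat.card_pos.ne'
  have ht1' : (t : G) ≠ 1 := fun h => ht1 (Subtype.ext h)
  have key : ∀ x : G, Cfsg.extendByZero (Subgroup.normalizer T) ψ (x⁻¹ * (t : G) * x) =
      if x ∈ Subgroup.normalizer T then ψ t else 0 := by
    intro x
    split_ifs with hx
    · have hmem : x⁻¹ * (t : G) * x ∈ Subgroup.normalizer T :=
        (Subgroup.normalizer T).mul_mem ((Subgroup.normalizer T).mul_mem
          ((Subgroup.normalizer T).inv_mem hx) t.2) hx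
      rw [extendByZero_of_mem _ ψ hmem]
      have := hψ t (⟨x, hx⟩⁻¹ : Subgroup.normalizer T)
      rw [← this]
      congr 1
      ext
      simp
    · by_cases hmem : x⁻¹ * (t : G) * x ∈ Subgroup.normalizer T
      · rw [extendByZero_of_mem _ ψ hmem]
        apply hψT
        intro hT
        apply ht1'
        have hx' : x⁻¹ ∉ Subgroup.normalizer T := fun h => hx (by simpa using (Subgroup.normalizer T).inv_mem h)
        apply hTI x⁻¹ hx' (t : G) htT
        simpa using hT
      · exact extendByZero_of_not_mem _ ψ hmem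
  rw [indFun_apply]
  simp_rw [key]
  rw [Finset.sum_ite, Finset.sum_const_zero, add_zero, Finset.sum_const, nsmul_eq_mul,
    ← mul_assoc]
  have hcard : ((Finset.univ.filter (fun x : G => x ∈ Subgroup.normalizer T)).card : ℂ) =
      (Nat.card (Subgroup.normalizer T) : ℂ) := by
    rw [Nat.card_eq_fintype_card, Fintype.card_subtype]
  rw [hcard, inv_mul_cancel₀ hN, one_mul]

theorem classInner_indFun_of_TI [Fintype G] (T : Set G)
    (hTI : ∀ g : G, g ∉ Subgroup.normalizer T → ∀ t ∈ T, g * t * g⁻¹ ∈ T → t = 1)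
    [Fintype (Subgroup.normalizer T)]
    (ψ θ : Subgroup.normalizer T → ℂ)
    (hθ : Cfsg.IsClassFunction (Subgroup.normalizer T) θ)
    (hψT : ∀ x : Subgroup.normalizer T, (x : G) ∉ T → ψ x = 0)
    (hθT : ∀ x : Subgroup.normalizer T, (x : G) ∉ T → θ x = 0) (hψ1 : ψ 1 = 0) :
    Cfsg.classInner (Cfsg.indFun (Subgroup.normalizer T) ψ)
      (Cfsg.indFun (Subgroup.normalizer T) θ) = Cfsg.classInner ψ θ := by
  rw [frobenius_reciprocity _ ψ _ (isClassFunction_indFun _ θ)]
  unfold Cfsg.classInner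
  congr 1
  refine Finset.sum_congr rfl (fun n _ => ?_)
  by_cases hn : (n : G) ∈ T
  · by_cases hn1 : n = 1
    · rw [hn1, hψ1, zero_mul, zero_mul]
    · show ψ n * conj (Cfsg.indFun (Subgroup.normalizer T) θ n) = _
      rw [indFun_eq_of_TI T hTI θ hθ hθT n hn hn1]
  · rw [hψT n hn, zero_mul, zero_mul]

end Cfsg.Agent.Lib.Helper75_TISubset
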