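import Cfsg.Agent.Lib.Helper25_TypeP
import Cfsg.Agent.Lib.Helper75_TISubset
import Cfsg.Agent.Lib.Helper75_IndChar
import Cfsg.Agent.Lib.Helper75_Induced
import Cfsg.Agent.Lib.Helper75_Clifford
import Cfsg.Agent.Lib.Helper81_Twist
import Cfsg.Agent.Lib.Helper16_CohBasic
import Cfsg.Agent.Lib.Helper16_CohCount
import Cfsg.Agent.Lib.Helper17_CohSys
import Cfsg.Agent.Lib.Helper3_RealClasses
import Cfsg.Agent.Lib.Helper3_CharBridge
import Cfsg.Agent.Lib.Helper79_TISylowCongr
import Cfsg.Agent.Lib.Helper15_BrauerSpan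
import Cfsg.Agent.Lib.Helper57_FrobNorm
import Cfsg.Prelude.Def_OddOrderLocal
import Cfsg.Prelude.Def_OddOrderChar

/-!
# Frobenius-type normalizers of TI subgroups (helper25)

Abstract part: `K ⊴ L` with `C_L(k) ≤ K` for `1 ≠ k ∈ K` and `(|K|, |L : K|) = 1`.

* `eq_one_of_fixed`: an irreducible character of `K` fixed by an element outside `K` is principal.
* `isIrrCharacter_indFun`: non-principal irreducible characters of `K` induce irreducibly.
* `comm_of_involution`: a fixed-point-free involution inverts, so the group is commutative.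
* `odd_card_of_not_comm`: if `|K|` is odd and `K` is not commutative then `|L|` is odd.
* `mem_of_commutator`: the Frobenius condition passes to `K / K'`.
* `eq_one_of_real`: a real irreducible character of a group of odd order is principal.

TI part: `isometry_of_TI`: induction from the normalizer of a TI subgroup is a linear isometry on
integer combinations of characters vanishing off the subgroup and at `1`.
-/

set_option autoImplicit false
open scoped ComplexConjugate

namespace Cfsg.Agent.Lib.Helper25_FrobTI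

open Cfsg.Agent.Lib.Helper75_Clifford Cfsg.Agent.Lib.Helper3_CharBridge
  Cfsg.Agent.Lib.Helper75_Induced

section frob

variable {L : Type*} [Group L] [Fintype L] (K : Subgroup L) [hK : K.Normal]

omit [Fintype L] in
theorem pow_card_not_mem [Finite L] (hcop : (Nat.card K).Coprime K.index) {g : L} (hg : g ∉ K) :
    g ^ Nat.card K ∉ K := by
  intro h
  apply hg
  rw [← QuotientGroup.eq_one_iff] at h ⊢
  rw [QuotientGroup.mk_pow] at h
  have h1 : orderOf (g : L ⧸ K) ∣ Nat.card K := orderOf_dvd_of_pow_eq_one h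
  have h2 : orderOf (g : L ⧸ K) ∣ K.index := by
    rw [Subgroup.index_eq_card]; exact orderOf_dvd_natCard _
  have h3 := Nat.dvd_gcd h1 h2
  rw [hcop.gcd_eq_one, Nat.dvd_one] at h3
  exact orderOf_eq_one_iff.mp h3

omit [Fintype L] hK in
theorem pow_card_pow_index [Finite L] (g : L) : (g ^ Nat.card K) ^ K.index = 1 := by
  rw [← pow_mul, Subgroup.card_mul_index, pow_card_eq_one']

/-- An irreducible character of a Frobenius kernel fixed by an outside element is principal. -/
theorem eq_one_of_fixed (hfrob : ∀ k ∈ K, k ≠ 1 → ∀ x : L, x * k = k * x → x ∈ K)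
    (hcop : (Nat.card K).Coprime K.index) {θ : K → ℂ} (hθ : Cfsg.IsIrrCharacter K θ) {g : L}
    (hg : g ∉ K) (hfix : Cfsg.Agent.Lib.Helper75_Clifford.conjFun K hK θ g = θ) : θ = fun _ => 1 := by
  classical
  have hsK : g ^ Nat.card K ∉ K := pow_card_not_mem K hcop hg
  have hsfix : ∀ m : ℕ, Cfsg.Agent.Lib.Helper75_Clifford.conjFun K hK θ (g ^ m) = θ := by
    intro m
    induction m with
    | zero => rw [pow_zero, conjFun_one]
    | succ j ih => rw [pow_succ, ← conjFun_conjFun, ih, hfix]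
  set s : L := g ^ Nat.card K with hs
  have hcop' : (Nat.card K).Coprime (Nat.card (Subgroup.zpowers s)) := by
    rw [Nat.card_zpowers]
    exact Nat.Coprime.coprime_dvd_right
      (orderOf_dvd_of_pow_eq_one (pow_card_pow_index K g)) hcop
  have hcard := Cfsg.Agent.Lib.Helper25_TypeP.card_invariant_irr K s hcop'
  have hbot : K ⊓ Subgroup.centralizer ({s} : Set L) = ⊥ := by
    rw [eq_bot_iff]
    intro k hk
    rw [Subgroup.mem_inf, Subgroup.mem_centralizer_singleton_iff] at hk
    rw [Subgroup.mem_bot]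
    by_contra hk1
    exact hsK (hfrob k hk.1 hk1 s hk.2.symm)
  have h1 : Nat.card (ConjClasses ↥(K ⊓ Subgroup.centralizer ({s} : Set L))) = 1 := by
    rw [hbot, Cfsg.Agent.Lib.Helper25_TypeP.card_conjClasses_of_comm
      (fun a b => Subsingleton.elim _ _), Subgroup.card_bot]
  rw [h1] at hcard
  have hsub := (Nat.card_eq_one_iff_unique.mp hcard).1
  have e := hsub.elim ⟨⟨θ, hθ⟩, hsfix _⟩
    ⟨Cfsg.Agent.Lib.Helper16_CohCount.trivIrr K, by funext n; rfl⟩
  exact congrArg (fun z => (z.1 : K → ℂ)) e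

/-- Non-principal irreducible characters of a Frobenius kernel induce irreducibly. -/
theorem isIrrCharacter_indFun (hfrob : ∀ k ∈ K, k ≠ 1 → ∀ x : L, x * k = k * x → x ∈ K)
    (hcop : (Nat.card K).Coprime K.index) {θ : K → ℂ} (hθ : Cfsg.IsIrrCharacter K θ)
    (hne : θ ≠ fun _ => 1) : Cfsg.IsIrrCharacter L (Cfsg.indFun K θ) := by
  classical
  have hcl : Cfsg.IsClassFunction K θ := isClassFunction_of_isIrrCharacter hθ
  have hI : ∀ g : L, g ∈ K ↔ Cfsg.Agent.Lib.Helper75_Clifford.conjFun K hK θ g = θ := by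
    intro g
    constructor
    · intro hg
      exact conjFun_of_mem K hK hcl ⟨g, hg⟩
    · intro hg
      by_contra hgK
      exact hne (eq_one_of_fixed K hfrob hcop hθ hgK hg)
  exact Cfsg.Agent.Lib.Helper81_Twist.isIrrCharacter_indFun_ext K K hK le_rfl hθ hI ⟨θ, hθ⟩
    (fun n => rfl)

end frob

section invol

/-- A fixed-point-free involution inverts; hence the group acted on is commutative. -/
theorem comm_of_involution {L : Type*} [Group L] (K : Subgroup L) [Finite K] (t : L)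
    (ht : t * t = 1) (hn : ∀ k ∈ K, t * k * t⁻¹ ∈ K) (hfix : ∀ k ∈ K, t * k = k * t → k = 1) :
    ∀ a ∈ K, ∀ b ∈ K, a * b = b * a := by
  have htinv : t⁻¹ = t := inv_eq_of_mul_eq_one_right ht
  let f : K → K := fun k => ⟨(k : L)⁻¹ * (t * k * t⁻¹), K.mul_mem (K.inv_mem k.2) (hn k k.2)⟩
  have hf : Function.Injective f := by
    intro k l hkl
    have h1 : (k : L)⁻¹ * (t * k * t⁻¹) = (l : L)⁻¹ * (t * l * t⁻¹) := congrArg Subtype.val hkl
    have h3 : (k : L)⁻¹ * t * k = (l : L)⁻¹ * t * l := by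
      have := congrArg (· * t) h1
      simpa [mul_assoc] using this
    have h2 : t * ((l : L) * (k : L)⁻¹) = ((l : L) * (k : L)⁻¹) * t := by
      calc t * ((l : L) * (k : L)⁻¹) = l * ((l : L)⁻¹ * t * l) * (k : L)⁻¹ := by group
        _ = l * ((k : L)⁻¹ * t * k) * (k : L)⁻¹ := by rw [h3]
        _ = ((l : L) * (k : L)⁻¹) * t := by group
    have h4 := hfix _ (K.mul_mem l.2 (K.inv_mem k.2)) h2
    rw [mul_inv_eq_one] at h4
    exact Subtype.ext h4.symm
  have hsurj : Function.Surjective f := Finite.surjective_of_injective hf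
  have hinv : ∀ g ∈ K, t * g * t⁻¹ = g⁻¹ := by
    intro g hg
    obtain ⟨k, hk⟩ := hsurj ⟨g, hg⟩
    have hk' : (k : L)⁻¹ * (t * k * t⁻¹) = g := congrArg Subtype.val hk
    rw [← hk', htinv]
    have e1 : t * ((k : L)⁻¹ * (t * k * t)) * t = t * (k : L)⁻¹ * t * k * (t * t) := by group
    have e2 : ((k : L)⁻¹ * (t * k * t))⁻¹ = t⁻¹ * (k : L)⁻¹ * t⁻¹ * k := by group
    rw [e1, e2, ht, mul_one, htinv]
  intro a ha b hb
  have h1 := hinv (a * b) (K.mul_mem ha hb)
  have h2 : t * (a * b) * t⁻¹ = (t * a * t⁻¹) * (t * b * t⁻¹) := by group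
  rw [h2, hinv a ha, hinv b hb, mul_inv_rev] at h1
  have h3 := congrArg (·⁻¹) h1
  simp only [mul_inv_rev, inv_inv] at h3
  exact h3.symm

variable {L : Type*} [Group L] [Fintype L] (K : Subgroup L) [hK : K.Normal]

/-- A Frobenius-type group with non-commutative kernel of odd order has odd order. -/
theorem odd_card_of_not_comm (hfrob : ∀ k ∈ K, k ≠ 1 → ∀ x : L, x * k = k * x → x ∈ K)
    (hKodd : Odd (Nat.card K)) (hna : ¬ ∀ a ∈ K, ∀ b ∈ K, a * b = b * a) :
    Odd (Nat.card L) := by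
  by_contra hev
  rw [Nat.not_odd_iff_even] at hev
  have : Fact (Nat.Prime 2) := ⟨Nat.prime_two⟩
  obtain ⟨t, ht⟩ := exists_prime_orderOf_dvd_card' 2 hev.two_dvd
  have htK : t ∉ K := by
    intro h
    have h1 : 2 ∣ Nat.card K := ht ▸ Subgroup.orderOf_dvd_natCard K h
    exact (Nat.not_even_iff_odd.mpr hKodd) (even_iff_two_dvd.mpr h1)
  have htt : t * t = 1 := by
    rw [← pow_two, ← ht]; exact pow_orderOf_eq_one t
  apply hna
  apply comm_of_involution K t htt (fun k hk => hK.conj_mem k hk t)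
  intro k hk hc
  by_contra hk1
  exact htK (hfrob k hk hk1 t hc)

/-- The Frobenius condition for the action on `K / K'`. -/
theorem mem_of_commutator (hfrob : ∀ k ∈ K, k ≠ 1 → ∀ x : L, x * k = k * x → x ∈ K)
    {k : L} (hk : k ∈ K) (hk' : k ∉ ⁅K, K⁆) (x : L) (hx : x * k * x⁻¹ * k⁻¹ ∈ ⁅K, K⁆) :
    x ∈ K := by
  classical
  by_contra hxK
  let f : K → K := fun k => ⟨x * k * x⁻¹ * (k : L)⁻¹,
    K.mul_mem (hK.conj_mem k k.2 x) (K.inv_mem k.2)⟩
  have hf : Function.Injective f := by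
    intro a b hab
    have h1 : x * a * x⁻¹ * (a : L)⁻¹ = x * b * x⁻¹ * (b : L)⁻¹ := congrArg Subtype.val hab
    have h3 : (a : L) * x⁻¹ * (a : L)⁻¹ = b * x⁻¹ * (b : L)⁻¹ := by
      have := congrArg (x⁻¹ * ·) h1
      simpa [mul_assoc] using this
    have h2 : x * ((b : L)⁻¹ * a) = ((b : L)⁻¹ * a) * x := by
      calc x * ((b : L)⁻¹ * a) = x * (b : L)⁻¹ * (a * x⁻¹ * (a : L)⁻¹) * a * x := by group
        _ = x * (b : L)⁻¹ * (b * x⁻¹ * (b : L)⁻¹) * a * x := by rw [h3]
        _ = ((b : L)⁻¹ * a) * x := by group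
    by_contra hne
    have hne' : (b : L)⁻¹ * a ≠ 1 := by
      intro h
      apply hne
      apply Subtype.ext
      rw [inv_mul_eq_one] at h
      exact h.symm
    exact hxK (hfrob _ (K.mul_mem (K.inv_mem b.2) a.2) hne' x h2)
  have : (⁅K, K⁆ : Subgroup L).Normal := Subgroup.commutator_normal K K
  set D : Finset K := Finset.univ.filter (fun k : K => (k : L) ∈ ⁅K, K⁆) with hD
  have himg : D.image f ⊆ D := by
    intro y hy
    obtain ⟨a, ha, rfl⟩ := Finset.mem_image.mp hy
    rw [hD, Finset.mem_filter] at ha ⊢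
    refine ⟨Finset.mem_univ _, ?_⟩
    show x * a * x⁻¹ * (a : L)⁻¹ ∈ ⁅K, K⁆
    exact Subgroup.mul_mem _ (Subgroup.Normal.conj_mem inferInstance _ ha.2 x)
      (Subgroup.inv_mem _ ha.2)
  have hcard : (D.image f).card = D.card := Finset.card_image_of_injective _ hf
  have heq : D.image f = D := Finset.eq_of_subset_of_card_le himg (by rw [hcard])
  have hmem : f ⟨k, hk⟩ ∈ D := by
    rw [hD, Finset.mem_filter]
    exact ⟨Finset.mem_univ _, hx⟩
  rw [← heq] at hmem
  obtain ⟨a, ha, hfa⟩ := Finset.mem_image.mp hmem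
  have hak : a = ⟨k, hk⟩ := hf hfa
  rw [hD, Finset.mem_filter, hak] at ha
  exact hk' ha.2

end invol

section real

/-- A real irreducible character of a group of odd order is principal. -/
theorem eq_one_of_real {L : Type*} [Group L] [Fintype L] (hodd : Odd (Nat.card L)) {χ : L → ℂ}
    (hχ : Cfsg.IsIrrCharacter L χ) (hreal : Cfsg.conjFun χ = χ) : χ = fun _ => 1 := by
  classical
  have h := Cfsg.Agent.Lib.Helper3_RealClasses.card_real_irr_eq_card_real_classes (G := L)
  have h1 : Nat.card {C : ConjClasses L // ∀ g : L, ConjClasses.mk g = C → IsConj g g⁻¹} = 1 := by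
    rw [Nat.card_eq_one_iff_unique]
    constructor
    · constructor
      rintro ⟨C₁, h₁⟩ ⟨C₂, h₂⟩
      apply Subtype.ext
      show C₁ = C₂
      have key : ∀ C : ConjClasses L, (∀ g : L, ConjClasses.mk g = C → IsConj g g⁻¹) →
          C = ConjClasses.mk 1 := by
        intro C hC
        obtain ⟨g, rfl⟩ := ConjClasses.mk_surjective C
        have hc := hC g rfl
        obtain ⟨c, hc⟩ := isConj_iff.mp hc
        rw [Cfsg.Agent.Lib.Helper79_TISylowCongr.eq_one_of_conj_eq_inv hodd c g hc]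
      rw [key C₁ h₁, key C₂ h₂]
    · refine ⟨⟨ConjClasses.mk 1, ?_⟩⟩
      intro g hg
      rw [ConjClasses.mk_eq_mk_iff_isConj, isConj_one_left] at hg
      rw [hg, inv_one]
  rw [h1] at h
  have hsub := (Nat.card_eq_one_iff_unique.mp h).1
  have e := hsub.elim ⟨⟨χ, hχ⟩, fun g => Complex.conj_eq_iff_im.mp (congrFun hreal g)⟩
    ⟨Cfsg.Agent.Lib.Helper16_CohCount.trivIrr L, fun g => by
      show ((1 : ℂ)).im = 0
      simp⟩
  exact congrArg (fun z => (z.1 : L → ℂ)) e

end real

section TI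

variable {G : Type*} [Group G] [Fintype G] (T : Subgroup G)
  [Fintype (Subgroup.normalizer (T : Set G))]

/-- Induction from the normalizer of a TI subgroup is a linear isometry on the integer combinations,
vanishing at `1`, of characters vanishing off the subgroup. -/
theorem isometry_of_TI (hTI : Cfsg.IsTISubset (T : Set G))
    (S : Set (Subgroup.normalizer (T : Set G) → ℂ))
    (hchar : ∀ χ ∈ S, Cfsg.IsCharacter (Subgroup.normalizer (T : Set G)) χ)
    (hvan : ∀ χ ∈ S, ∀ x : Subgroup.normalizer (T : Set G), (x : G) ∉ T → χ x = 0) :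
    Cfsg.IsLinearIsometryOn (Cfsg.zspanOn S {1}ᶜ)
        (fun α => Cfsg.indFun (Subgroup.normalizer (T : Set G)) α) ∧
      ∀ α ∈ Cfsg.zspanOn S {1}ᶜ, Cfsg.indFun (Subgroup.normalizer (T : Set G)) α 1 = 0 := by
  classical
  have hspan : ∀ α ∈ Cfsg.zspan S,
      Cfsg.IsGeneralizedCharacter (Subgroup.normalizer (T : Set G)) α ∧
        ∀ x : Subgroup.normalizer (T : Set G), (x : G) ∉ T → α x = 0 := by
    intro α hα
    refine Submodule.span_induction (p := fun α _ =>
      Cfsg.IsGeneralizedCharacter (Subgroup.normalizer (T : Set G)) α ∧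
        ∀ x : Subgroup.normalizer (T : Set G), (x : G) ∉ T → α x = 0) ?_ ?_ ?_ ?_ hα
    · intro χ hχ
      exact ⟨Cfsg.Agent.Lib.Helper17_CohSys.gen_of_char (hchar χ hχ), hvan χ hχ⟩
    · exact ⟨Cfsg.Agent.Lib.Helper17_CohSys.gen_zero, fun x _ => rfl⟩
    · intro a b _ _ ha hb
      refine ⟨Cfsg.Agent.Lib.Helper17_CohSys.gen_add ha.1 hb.1, fun x hx => ?_⟩
      rw [Pi.add_apply, ha.2 x hx, hb.2 x hx, add_zero]
    · intro n a _ ha
      refine ⟨Cfsg.Agent.Lib.Helper17_CohSys.gen_zsmul n ha.1, fun x hx => ?_⟩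
      rw [Pi.smul_apply, ha.2 x hx, smul_zero]
  have hgenInd : ∀ α : Subgroup.normalizer (T : Set G) → ℂ,
      Cfsg.IsGeneralizedCharacter (Subgroup.normalizer (T : Set G)) α →
      Cfsg.IsGeneralizedCharacter G (Cfsg.indFun (Subgroup.normalizer (T : Set G)) α) := by
    rintro α ⟨χ, ψ, hχ, hψ, rfl⟩
    refine ⟨Cfsg.indFun _ χ, Cfsg.indFun _ ψ,
      Cfsg.Agent.Lib.Helper75_IndChar.isCharacter_indFun _ hχ,
      Cfsg.Agent.Lib.Helper75_IndChar.isCharacter_indFun _ hψ, ?_⟩
    rw [sub_eq_add_neg, indFun_add, Cfsg.Agent.Lib.Helper15_BrauerSpan.BSpan.indFun_neg,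
      ← sub_eq_add_neg]
  have h1 : ∀ α ∈ Cfsg.zspanOn S {1}ᶜ, α 1 = 0 := by
    intro α hα
    exact hα.2 1 (fun h => h rfl)
  refine ⟨⟨?_, ?_, ?_, ?_⟩, ?_⟩
  · intro α _ β _
    exact indFun_add _ α β
  · intro α _ n
    show Cfsg.indFun _ (n • α) = n • Cfsg.indFun _ α
    rw [← Int.cast_smul_eq_zsmul ℂ n α, indFun_smul, Int.cast_smul_eq_zsmul]
  · intro α hα β hβ
    have hβc := Cfsg.Agent.Lib.Helper57_FrobNorm.isClassFunction_of_isGeneralizedCharacter
      (hspan β hβ.1).1
    exact Cfsg.Agent.Lib.Helper75_TISubset.classInner_indFun_of_TI (T : Set G) hTI α β hβc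
      (hspan α hα.1).2 (hspan β hβ.1).2 (h1 α hα)
  · intro α hα
    exact hgenInd α (hspan α hα.1).1
  · intro α hα
    rw [indFun_one, h1 α hα, mul_zero]

end TI

end Cfsg.Agent.Lib.Helper25_FrobTI
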