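import Mathlib
import Cfsg.Agent.Lib.Helper1_Thompson
import Cfsg.Agent.Lib.Helper1_FPFAut
import Cfsg.Agent.Lib.Helper16_FrobQuot
import Cfsg.Agent.Lib.Helper16_NilpAb
import Cfsg.Agent.Lib.Helper25_FrobTI

/-!
# Frobenius groups in kernel form: arithmetic and nilpotency (helper31)

`N` a finite group, `H ⊴ N` with `C_N(h) ≤ H` for every `1 ≠ h ∈ H`.

* `index_dvd_card_sub_one`: `|N : H|` divides `|H| - 1`;
* `coprime_card_index`: `(|H|, |N : H|) = 1`;
* `isNilpotent_kernel`: `H` is nilpotent if `H ≠ ⊤` (Thompson).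
-/

set_option autoImplicit false

namespace Cfsg.Agent.Lib.Helper31_FeitFrob

section Action

variable {N : Type*} [Group N] [Finite N] (H : Subgroup N) [hH : H.Normal]

/-- The Frobenius congruence `|N : H| ∣ |H| - 1`. -/
theorem index_dvd_card_sub_one
    (hC : ∀ h ∈ H, h ≠ 1 → Subgroup.centralizer ({h} : Set N) ≤ H) :
    H.index ∣ Nat.card H - 1 := by
  classical
  let X := {q : N // q ∈ (H : Set N) \ {1}}
  let act : MulAction N X :=
    { smul := fun x q => ⟨x * q.1 * x⁻¹, hH.conj_mem _ q.2.1 _, fun h => q.2.2 (by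
        have h' : x * q.1 * x⁻¹ = 1 := h
        rw [conj_eq_one_iff] at h'
        exact h')⟩
      one_smul := fun q => Subtype.ext (by
        change 1 * q.1 * (1 : N)⁻¹ = q.1
        simp)
      mul_smul := fun x y q => Subtype.ext (by
        change (x * y) * q.1 * (x * y)⁻¹ = x * (y * q.1 * y⁻¹) * x⁻¹
        simp [mul_assoc]) }
  have hsmul : ∀ (x : N) (q : X), ((x • q : X) : N) = x * q.1 * x⁻¹ := fun _ _ => rfl
  have hstab : ∀ q : X, MulAction.stabilizer N q ≤ H := by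
    intro q x hx
    rw [MulAction.mem_stabilizer_iff] at hx
    have h1 : x * q.1 * x⁻¹ = q.1 := by rw [← hsmul, hx]
    apply hC q.1 q.2.1 (fun h => q.2.2 h)
    rw [Subgroup.mem_centralizer_singleton_iff]
    calc x * q.1 = (x * q.1 * x⁻¹) * x := by group
      _ = q.1 * x := by rw [h1]
  have hfinΩ : Fintype (Quotient (MulAction.orbitRel N X)) := Fintype.ofFinite _
  have hdvd : H.index ∣ Nat.card X := by
    rw [Nat.card_congr (MulAction.selfEquivSigmaOrbitsQuotientStabilizer N X), Nat.card_sigma]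
    apply Finset.dvd_sum
    intro ω _
    exact Subgroup.index_dvd_of_le (hstab ω.out)
  have hX : Nat.card X = Nat.card H - 1 := by
    have h0 : Nat.card X = ((H : Set N) \ {1}).ncard := Nat.card_coe_set_eq _
    rw [h0, Set.ncard_sdiff_singleton_of_mem (H.one_mem), ← Nat.card_coe_set_eq]
    rfl
  rw [← hX]
  exact hdvd

theorem coprime_card_index
    (hC : ∀ h ∈ H, h ≠ 1 → Subgroup.centralizer ({h} : Set N) ≤ H) :
    (Nat.card H).Coprime H.index := by
  obtain ⟨c, hc⟩ := index_dvd_card_sub_one H hC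
  have hpos : 0 < Nat.card H := Nat.card_pos
  have h1 : Nat.card H = H.index * c + 1 := by omega
  rw [h1]
  simp

/-- **Thompson**: a Frobenius kernel (in kernel form) is nilpotent. -/
theorem isNilpotent_kernel
    (hC : ∀ h ∈ H, h ≠ 1 → Subgroup.centralizer ({h} : Set N) ≤ H) (hH2 : H ≠ ⊤) :
    Group.IsNilpotent H := by
  classical
  have hcop := coprime_card_index H hC
  have he1 : H.index ≠ 1 := fun h => hH2 (Subgroup.index_eq_one.1 h)
  have hr : (H.index).minFac.Prime := Nat.minFac_prime he1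
  have : Fact (H.index).minFac.Prime := ⟨hr⟩
  have hrN : (H.index).minFac ∣ Nat.card N :=
    (Nat.minFac_dvd _).trans (Subgroup.index_dvd_card H)
  obtain ⟨x, hx⟩ := exists_prime_orderOf_dvd_card' (H.index).minFac hrN
  have hxH : x ∉ H := by
    intro hmem
    have h1 : (H.index).minFac ∣ Nat.card H := hx ▸ Subgroup.orderOf_dvd_natCard H hmem
    have h2 : (H.index).minFac ∣ Nat.gcd (Nat.card H) H.index :=
      Nat.dvd_gcd h1 (Nat.minFac_dvd _)
    rw [hcop.gcd_eq_one, Nat.dvd_one] at h2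
    exact hr.one_lt.ne' h2
  have hxr : x ^ (H.index).minFac = 1 := by
    rw [← hx]; exact pow_orderOf_eq_one x
  apply Cfsg.Agent.Lib.Helper1_Thompson.thompson hr (MulAut.conjNormal x : H ≃* H)
  constructor
  · intro n hn
    have h1 : x * n * x⁻¹ = n := by
      have := congrArg Subtype.val hn
      rwa [MulAut.conjNormal_apply] at this
    by_contra hn1
    have hn1' : (n : N) ≠ 1 := fun h => hn1 (Subtype.ext h)
    apply hxH
    apply hC n n.2 hn1'
    rw [Subgroup.mem_centralizer_singleton_iff]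
    calc x * (n : N) = (x * n * x⁻¹) * x := by group
      _ = n * x := by rw [h1]
  · intro n
    have hiter : ∀ k : ℕ, (((MulAut.conjNormal x : H ≃* H)^[k] n : H) : N) =
        x ^ k * n * (x ^ k)⁻¹ := by
      intro k
      induction k with
      | zero => simp
      | succ k ih =>
        rw [Function.iterate_succ_apply', MulAut.conjNormal_apply, ih, pow_succ']
        group
    apply Subtype.ext
    rw [hiter, hxr]
    group

omit [Finite N] hH in
/-- The Frobenius hypothesis in commutation form. -/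
theorem comm_form (hC : ∀ h ∈ H, h ≠ 1 → Subgroup.centralizer ({h} : Set N) ≤ H) :
    ∀ k ∈ H, k ≠ 1 → ∀ x : N, x * k = k * x → x ∈ H := by
  intro k hk hk1 x hx
  apply hC k hk hk1
  rw [Subgroup.mem_centralizer_singleton_iff]
  exact hx

/-- The Frobenius congruence for normal subgroups between `[H,H]` and `H`. -/
theorem index_dvd_relIndex_sub_one
    (hC : ∀ h ∈ H, h ≠ 1 → Subgroup.centralizer ({h} : Set N) ≤ H) (M : Subgroup N) [M.Normal]
    (hM : M ≤ H) : H.index ∣ (⁅H, H⁆ : Subgroup N).relIndex M - 1 := by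
  classical
  have : Fintype N := Fintype.ofFinite N
  have : (⁅H, H⁆ : Subgroup N).Normal := Subgroup.commutator_normal H H
  exact Cfsg.Agent.Lib.Helper16_FrobQuot.index_dvd_relIndex_sub_one H ⁅H, H⁆ M le_rfl hM
    (fun k hk hk' x hx =>
      Cfsg.Agent.Lib.Helper25_FrobTI.mem_of_commutator H (comm_form H hC) hk hk' x hx)

end Action

section Series

variable {N : Type*} [Group N] (H : Subgroup N) [hH : H.Normal]

theorem lcs_normal (n : ℕ) : (H.lowerCentralSeries n).Normal := by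
  induction n with
  | zero => exact hH
  | succ d ih =>
    rw [Subgroup.lowerCentralSeries_succ]
    exact Subgroup.commutator_normal _ _

omit hH in
theorem lcs_le (n : ℕ) : H.lowerCentralSeries n ≤ H :=
  (Subgroup.lowerCentralSeries_antitone (S := H)) (Nat.zero_le n)

omit hH in
theorem lcs_one : H.lowerCentralSeries 1 = ⁅H, H⁆ := rfl

/-- The chain `A, [A,H], [[A,H],H], …`. -/
def chain (A : Subgroup N) : ℕ → Subgroup N
  | 0 => A
  | k + 1 => ⁅chain A k, H⁆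

omit hH in
theorem chain_zero (A : Subgroup N) : chain H A 0 = A := rfl

omit hH in
theorem chain_succ (A : Subgroup N) (k : ℕ) : chain H A (k + 1) = ⁅chain H A k, H⁆ := rfl

theorem chain_normal (A : Subgroup N) [hA : A.Normal] (k : ℕ) : (chain H A k).Normal := by
  induction k with
  | zero => exact hA
  | succ d ih =>
    rw [chain_succ]
    exact Subgroup.commutator_normal _ _

theorem chain_le (A : Subgroup N) [hA : A.Normal] (k : ℕ) : chain H A k ≤ A := by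
  induction k with
  | zero => exact le_rfl
  | succ d ih =>
    rw [chain_succ]
    have := chain_normal H A d
    exact (Subgroup.commutator_le_left _ _).trans ih

omit hH in
theorem chain_le_lcs (A : Subgroup N) (hA : A ≤ H.lowerCentralSeries 1) (k : ℕ) :
    chain H A k ≤ H.lowerCentralSeries (k + 1) := by
  induction k with
  | zero => exact hA
  | succ d ih =>
    rw [chain_succ, Subgroup.lowerCentralSeries_succ]
    exact Subgroup.commutator_mono ih le_rfl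

omit hH in
/-- The chain reaches `⊥` when `H` is nilpotent. -/
theorem exists_chain_eq_bot (hnil : Group.IsNilpotent H) (A : Subgroup N)
    (hA : A ≤ H.lowerCentralSeries 1) : ∃ k, chain H A k = ⊥ := by
  obtain ⟨n, hn⟩ := (Subgroup.isNilpotent_iff_lowerCentralSeries H).1 hnil
  refine ⟨n, ?_⟩
  rw [eq_bot_iff]
  calc chain H A n ≤ H.lowerCentralSeries (n + 1) := chain_le_lcs H A hA n
    _ ≤ H.lowerCentralSeries n := Subgroup.lowerCentralSeries_antitone (S := H) (Nat.le_succ n)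
    _ = ⊥ := hn

omit hH in
/-- `[[H,H],H] < [H,H]` for `H` nilpotent and not commutative. -/
theorem lcs_two_lt (hnil : Group.IsNilpotent H) (hne : (⁅H, H⁆ : Subgroup N) ≠ ⊥) :
    ⁅(⁅H, H⁆ : Subgroup N), H⁆ < ⁅H, H⁆ := by
  have hle : ⁅(⁅H, H⁆ : Subgroup N), H⁆ ≤ ⁅H, H⁆ :=
    Subgroup.lowerCentralSeries_antitone (S := H) (Nat.le_succ 1)
  refine lt_of_le_of_ne hle ?_
  intro heq
  apply hne
  obtain ⟨n, hn⟩ := (Subgroup.isNilpotent_iff_lowerCentralSeries H).1 hnil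
  have hall : ∀ k, H.lowerCentralSeries (k + 1) = ⁅H, H⁆ := by
    intro k
    induction k with
    | zero => rfl
    | succ d ih => rw [Subgroup.lowerCentralSeries_succ, ih, heq]
  rw [← hall n, eq_bot_iff, ← hn]
  exact Subgroup.lowerCentralSeries_antitone (S := H) (Nat.le_succ n)

end Series

section NonPGroup

variable {N : Type*} [Group N] [Finite N] (H : Subgroup N) [hH : H.Normal]

omit [Finite N] hH in
theorem relIndex_commutator : (⁅H, H⁆ : Subgroup N).relIndex H = (commutator H).index := by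
  have h1 : (⁅H, H⁆ : Subgroup N).subgroupOf H = commutator H := by
    rw [← Subgroup.map_subtype_commutator, Subgroup.subgroupOf,
      Subgroup.comap_map_eq_self_of_injective (Subgroup.subtype_injective H)]
  rw [Subgroup.relIndex, h1]

omit hH in
theorem relIndex_ne_zero (A B : Subgroup N) : A.relIndex B ≠ 0 :=
  Subgroup.index_ne_zero_of_finite (H := A.subgroupOf B)

omit hH in
/-- If `|H : [H,H]|` is a power of the prime `p` and `H` is nilpotent, `|H|` is a power of `p`. -/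
theorem card_prime_pow_of_relIndex (hnil : Group.IsNilpotent H) {p k : ℕ} (hp : p.Prime)
    (hz : (⁅H, H⁆ : Subgroup N).relIndex H = p ^ k) : ∃ m : ℕ, Nat.card H = p ^ m := by
  have : Fact p.Prime := ⟨hp⟩
  have hidx : (commutator H).index = p ^ k := by rw [← relIndex_commutator, hz]
  have hP : IsPGroup p H := by
    apply Cfsg.Agent.Lib.Helper16_NilpAb.isPGroup_of_abelianization p
    intro h
    refine ⟨k, ?_⟩
    rw [← QuotientGroup.eq_one_iff, QuotientGroup.mk_pow, ← hidx, Subgroup.index_eq_card]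
    exact pow_card_eq_one'
  exact hP.exists_card_eq

omit hH in
/-- **Two primes**: a nilpotent `H` whose order is not a prime power has two distinct primes
dividing `|H : [H,H]|`. -/
theorem exists_two_primes (hnil : Group.IsNilpotent H)
    (hnp : ¬ ∃ p m : ℕ, p.Prime ∧ Nat.card H = p ^ m) :
    ∃ q₁ q₂ : ℕ, q₁.Prime ∧ q₂.Prime ∧ q₁ ≠ q₂ ∧ q₁ ∣ (⁅H, H⁆ : Subgroup N).relIndex H ∧
      q₂ ∣ (⁅H, H⁆ : Subgroup N).relIndex H := by
  set z := (⁅H, H⁆ : Subgroup N).relIndex H with hz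
  have hno : ∀ p k : ℕ, p.Prime → z ≠ p ^ k := by
    intro p k hp h
    obtain ⟨m, hm⟩ := card_prime_pow_of_relIndex H hnil hp h
    exact hnp ⟨p, m, hp, hm⟩
  have hz1 : z ≠ 1 := fun h => hno 2 0 Nat.prime_two (by rw [h, pow_zero])
  have hz0 : z ≠ 0 := relIndex_ne_zero _ _
  have hq₁ : z.minFac.Prime := Nat.minFac_prime hz1
  by_contra hcon
  push Not at hcon
  apply hno z.minFac z.primeFactorsList.length hq₁
  apply Nat.eq_prime_pow_of_unique_prime_dvd hz0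
  intro d hd hdz
  by_contra hne
  exact hcon z.minFac d hq₁ hd (Ne.symm hne) (Nat.minFac_dvd z) hdz

/-- A normal Sylow `q`-subgroup of the nilpotent normal subgroup `H`, as a normal subgroup of `N`. -/
theorem exists_normal_sylow (hnil : Group.IsNilpotent H) (q : ℕ) [hq : Fact q.Prime] :
    ∃ Q : Subgroup N, Q.Normal ∧ Q ≤ H ∧ (∃ k, Nat.card Q = q ^ k) ∧ ¬ q ∣ Q.relIndex H := by
  classical
  obtain ⟨P⟩ : Nonempty (Sylow q H) := inferInstance
  have hPn : (P : Subgroup H).Normal := inferInstance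
  have hchar : (P : Subgroup H).Characteristic := Sylow.characteristic_of_normal P hPn
  refine ⟨(P : Subgroup H).map H.subtype, ConjAct.normal_of_characteristic_of_normal,
    Subgroup.map_subtype_le _, ?_, ?_⟩
  · obtain ⟨k, hk⟩ := P.isPGroup'.exists_card_eq
    refine ⟨k, ?_⟩
    rw [← hk]
    exact Nat.card_congr ((P : Subgroup H).equivMapOfInjective H.subtype
      (Subgroup.subtype_injective H)).symm.toEquiv
  · have h1 : ((P : Subgroup H).map H.subtype).subgroupOf H = (P : Subgroup H) := by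
      rw [Subgroup.subgroupOf, Subgroup.comap_map_eq_self_of_injective
        (Subgroup.subtype_injective H)]
    rw [Subgroup.relIndex, h1]
    exact P.not_dvd_index

/-- The `q`-part of `|H : [H,H]|` seen through a normal Sylow `q`-subgroup: it is a nontrivial
power of `q`, congruent to `1` modulo `|N : H|`, and divides `|H : [H,H]|`. -/
theorem sylow_part (hC : ∀ h ∈ H, h ≠ 1 → Subgroup.centralizer ({h} : Set N) ≤ H)
    {q : ℕ} (Q : Subgroup N) [hQn : Q.Normal] (hQH : Q ≤ H) {k : ℕ}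
    (hQk : Nat.card Q = q ^ k) (hQi : ¬ q ∣ Q.relIndex H)
    (hqz : q ∣ (⁅H, H⁆ : Subgroup N).relIndex H) :
    ¬ Q ≤ ⁅H, H⁆ ∧ (⁅H, H⁆ : Subgroup N).relIndex (⁅H, H⁆ ⊔ Q) ∣ q ^ k ∧
      (⁅H, H⁆ : Subgroup N).relIndex (⁅H, H⁆ ⊔ Q) ≠ 1 ∧
      H.index ∣ (⁅H, H⁆ : Subgroup N).relIndex (⁅H, H⁆ ⊔ Q) - 1 ∧
      (⁅H, H⁆ : Subgroup N).relIndex (⁅H, H⁆ ⊔ Q) ∣ (⁅H, H⁆ : Subgroup N).relIndex H := by
  have hKn : (⁅H, H⁆ : Subgroup N).Normal := Subgroup.commutator_normal H H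
  have hKH : (⁅H, H⁆ : Subgroup N) ≤ H := Subgroup.commutator_le_left H H
  have hnot : ¬ Q ≤ ⁅H, H⁆ := by
    intro hle
    apply hQi
    rw [← Subgroup.relIndex_mul_relIndex Q ⁅H, H⁆ H hle hKH]
    exact Dvd.dvd.mul_left hqz _
  have hsupH : (⁅H, H⁆ : Subgroup N) ⊔ Q ≤ H := sup_le hKH hQH
  refine ⟨hnot, ?_, ?_, ?_, ?_⟩
  · rw [Subgroup.relIndex_sup_left, ← Subgroup.inf_relIndex_right, ← hQk]
    exact Subgroup.relIndex_dvd_card _ _
  · intro h1
    apply hnot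
    have := Subgroup.relIndex_eq_one.1 h1
    exact le_sup_right.trans this
  · have : ((⁅H, H⁆ : Subgroup N) ⊔ Q).Normal := Subgroup.sup_normal _ _
    exact index_dvd_relIndex_sub_one H hC _ hsupH
  · rw [← Subgroup.relIndex_mul_relIndex ⁅H, H⁆ (⁅H, H⁆ ⊔ Q) H le_sup_left hsupH]
    exact Dvd.intro _ rfl

/-- Arithmetic: two coprime numbers `> 1`, both `≡ 1 mod e`, have product `≥ (e+1)(2e+1)`. -/
theorem arith_two {e y₁ y₂ : ℕ} (h1 : y₁ ≠ 1) (h2 : y₂ ≠ 1) (h10 : y₁ ≠ 0) (h20 : y₂ ≠ 0)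
    (hne : y₁ ≠ y₂) (hd1 : e ∣ y₁ - 1) (hd2 : e ∣ y₂ - 1) :
    (e + 1) * (2 * e + 1) ≤ y₁ * y₂ := by
  obtain ⟨c₁, hc₁⟩ := hd1
  obtain ⟨c₂, hc₂⟩ := hd2
  have e1 : y₁ = e * c₁ + 1 := by omega
  have e2 : y₂ = e * c₂ + 1 := by omega
  have hc10 : c₁ ≠ 0 := by rintro rfl; omega
  have hc20 : c₂ ≠ 0 := by rintro rfl; omega
  have hcne : c₁ ≠ c₂ := by rintro rfl; omega
  rcases Nat.lt_or_gt_of_ne hcne with h | h
  · have h3 : 1 ≤ c₁ := Nat.one_le_iff_ne_zero.2 hc10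
    have h4 : 2 ≤ c₂ := by omega
    rw [e1, e2]
    have : e * 1 + 1 ≤ e * c₁ + 1 := by gcongr
    have : e * 2 + 1 ≤ e * c₂ + 1 := by gcongr
    calc (e + 1) * (2 * e + 1) = (e * 1 + 1) * (e * 2 + 1) := by ring
      _ ≤ (e * c₁ + 1) * (e * c₂ + 1) := by gcongr
  · have h3 : 1 ≤ c₂ := Nat.one_le_iff_ne_zero.2 hc20
    have h4 : 2 ≤ c₁ := by omega
    rw [e1, e2]
    calc (e + 1) * (2 * e + 1) = (e * 2 + 1) * (e * 1 + 1) := by ring
      _ ≤ (e * c₁ + 1) * (e * c₂ + 1) := by gcongr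

/-- **The index bound** in the non-prime-power case: `(e+1)(2e+1) ≤ |H : [H,H]|`. -/
theorem relIndex_ge_of_not_prime_pow
    (hC : ∀ h ∈ H, h ≠ 1 → Subgroup.centralizer ({h} : Set N) ≤ H) (hnil : Group.IsNilpotent H)
    (hnp : ¬ ∃ p m : ℕ, p.Prime ∧ Nat.card H = p ^ m) :
    (H.index + 1) * (2 * H.index + 1) ≤ (⁅H, H⁆ : Subgroup N).relIndex H := by
  obtain ⟨q₁, q₂, hq₁, hq₂, hne, hd₁, hd₂⟩ := exists_two_primes H hnil hnp
  have : Fact q₁.Prime := ⟨hq₁⟩
  have : Fact q₂.Prime := ⟨hq₂⟩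
  obtain ⟨Q₁, hQ₁n, hQ₁H, ⟨k₁, hk₁⟩, hQ₁i⟩ := exists_normal_sylow H hnil q₁
  obtain ⟨Q₂, hQ₂n, hQ₂H, ⟨k₂, hk₂⟩, hQ₂i⟩ := exists_normal_sylow H hnil q₂
  obtain ⟨-, ha₁, hb₁, hc₁, hdz₁⟩ := sylow_part H hC Q₁ hQ₁H hk₁ hQ₁i hd₁
  obtain ⟨-, ha₂, hb₂, hc₂, hdz₂⟩ := sylow_part H hC Q₂ hQ₂H hk₂ hQ₂i hd₂
  set y₁ := (⁅H, H⁆ : Subgroup N).relIndex (⁅H, H⁆ ⊔ Q₁) with hy₁
  set y₂ := (⁅H, H⁆ : Subgroup N).relIndex (⁅H, H⁆ ⊔ Q₂) with hy₂
  have hcop : Nat.Coprime y₁ y₂ := by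
    have h0 : Nat.Coprime (q₁ ^ k₁) (q₂ ^ k₂) :=
      Nat.Coprime.pow _ _ ((Nat.coprime_primes hq₁ hq₂).2 hne)
    exact Nat.Coprime.coprime_dvd_left ha₁ (Nat.Coprime.coprime_dvd_right ha₂ h0)
  have hy12 : y₁ ≠ y₂ := by
    intro h
    rw [h, Nat.coprime_self] at hcop
    exact hb₂ hcop
  have hmul : y₁ * y₂ ∣ (⁅H, H⁆ : Subgroup N).relIndex H :=
    Nat.Coprime.mul_dvd_of_dvd_of_dvd hcop hdz₁ hdz₂
  have hle := Nat.le_of_dvd (Nat.pos_of_ne_zero (relIndex_ne_zero _ _)) hmul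
  exact (arith_two hb₁ hb₂ (relIndex_ne_zero _ _) (relIndex_ne_zero _ _) hy12 hc₁ hc₂).trans hle

omit [Finite N] in
/-- The elements of `H` centralising `H` modulo the normal subgroup `B`. -/
def centMod (B : Subgroup N) [hB : B.Normal] : Subgroup N where
  carrier := {x | x ∈ H ∧ ∀ y ∈ H, x * y * x⁻¹ * y⁻¹ ∈ B}
  one_mem' := ⟨H.one_mem, fun y _ => by simp⟩
  mul_mem' := by
    rintro a b ⟨ha, ha'⟩ ⟨hb, hb'⟩
    refine ⟨H.mul_mem ha hb, fun y hy => ?_⟩
    have h1 : a * b * y * (a * b)⁻¹ * y⁻¹ =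
        (a * (b * y * b⁻¹ * y⁻¹) * a⁻¹) * (a * y * a⁻¹ * y⁻¹) := by group
    rw [h1]
    exact B.mul_mem (hB.conj_mem _ (hb' y hy) a) (ha' y hy)
  inv_mem' := by
    rintro a ⟨ha, ha'⟩
    refine ⟨H.inv_mem ha, fun y hy => ?_⟩
    have h1 : a⁻¹ * y * a⁻¹⁻¹ * y⁻¹ = a⁻¹ * (a * y * a⁻¹ * y⁻¹)⁻¹ * a⁻¹⁻¹ := by group
    rw [h1]
    exact hB.conj_mem _ (B.inv_mem (ha' y hy)) a⁻¹

omit [Finite N] hH in
theorem mem_centMod (B : Subgroup N) [B.Normal] {x : N} :
    x ∈ centMod H B ↔ x ∈ H ∧ ∀ y ∈ H, x * y * x⁻¹ * y⁻¹ ∈ B := Iff.rfl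

/-- **The first step in the non-prime-power case**: normal `B₁ < [H,H]` containing `[[H,H],H]`
and a subgroup `D ≥ [H,H]` centralising `H` modulo `B₁` with `2 |H : D| ≤ |H : [H,H]|`. -/
theorem exists_first_step (hnil : Group.IsNilpotent H)
    (hnp : ¬ ∃ p m : ℕ, p.Prime ∧ Nat.card H = p ^ m) (hne : (⁅H, H⁆ : Subgroup N) ≠ ⊥) :
    ∃ B₁ D : Subgroup N, B₁.Normal ∧ B₁ ≤ ⁅H, H⁆ ∧ B₁ ≤ D ∧ D ≤ H ∧
      (∀ x ∈ D, ∀ y ∈ H, x * y * x⁻¹ * y⁻¹ ∈ B₁) ∧
      2 * D.relIndex H ≤ (⁅H, H⁆ : Subgroup N).relIndex H ∧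
      2 * (⁅H, H⁆ : Subgroup N).relIndex H ≤ B₁.relIndex H := by
  classical
  have hKn : (⁅H, H⁆ : Subgroup N).Normal := Subgroup.commutator_normal H H
  have hKH : (⁅H, H⁆ : Subgroup N) ≤ H := Subgroup.commutator_le_left H H
  have hΓn : (⁅(⁅H, H⁆ : Subgroup N), H⁆ : Subgroup N).Normal := Subgroup.commutator_normal _ H
  have hlt := lcs_two_lt H hnil hne
  -- a prime dividing `|[H,H] : [[H,H],H]|`
  have hr1 : (⁅(⁅H, H⁆ : Subgroup N), H⁆ : Subgroup N).relIndex ⁅H, H⁆ ≠ 1 := fun h =>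
    (not_le_of_gt hlt) (Subgroup.relIndex_eq_one.1 h)
  set p := ((⁅(⁅H, H⁆ : Subgroup N), H⁆ : Subgroup N).relIndex ⁅H, H⁆).minFac with hp
  have hpp : p.Prime := Nat.minFac_prime hr1
  have hpd : p ∣ (⁅(⁅H, H⁆ : Subgroup N), H⁆ : Subgroup N).relIndex ⁅H, H⁆ := Nat.minFac_dvd _
  -- a prime `q ≠ p` dividing `|H : [H,H]|`
  obtain ⟨q, hq, hqp, hqz⟩ : ∃ q : ℕ, q.Prime ∧ q ≠ p ∧
      q ∣ (⁅H, H⁆ : Subgroup N).relIndex H := by
    obtain ⟨q₁, q₂, hq₁, hq₂, hne12, hd₁, hd₂⟩ := exists_two_primes H hnil hnp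
    by_cases h : q₁ = p
    · exact ⟨q₂, hq₂, fun h' => hne12 (h.trans h'.symm), hd₂⟩
    · exact ⟨q₁, hq₁, h, hd₁⟩
  have : Fact q.Prime := ⟨hq⟩
  obtain ⟨Q, hQn, hQH, ⟨k, hk⟩, hQi⟩ := exists_normal_sylow H hnil q
  have hQnot : ¬ Q ≤ ⁅H, H⁆ := by
    intro hle
    apply hQi
    rw [← Subgroup.relIndex_mul_relIndex Q ⁅H, H⁆ H hle hKH]
    exact Dvd.dvd.mul_left hqz _
  have hQKn : (Q ⊓ ⁅H, H⁆ : Subgroup N).Normal := Subgroup.normal_inf_normal _ _
  set B₁ : Subgroup N := ⁅(⁅H, H⁆ : Subgroup N), H⁆ ⊔ (Q ⊓ ⁅H, H⁆) with hB₁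
  have hB₁n : B₁.Normal := Subgroup.sup_normal _ _
  have hB₁K : B₁ ≤ ⁅H, H⁆ := sup_le hlt.le inf_le_right
  have hB₁ne : B₁ ≠ ⁅H, H⁆ := by
    intro heq
    have h1 : (⁅(⁅H, H⁆ : Subgroup N), H⁆ : Subgroup N).relIndex B₁ ∣ q ^ k := by
      rw [hB₁, Subgroup.relIndex_sup_left, ← Subgroup.inf_relIndex_right]
      refine (Subgroup.relIndex_dvd_card _ _).trans ?_
      rw [← hk]
      exact Subgroup.card_dvd_of_le inf_le_left
    rw [heq] at h1
    have h2 : p ∣ q ^ k := hpd.trans h1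
    have h3 := (Nat.prime_dvd_prime_iff_eq hpp hq).1 (hpp.dvd_of_dvd_pow h2)
    exact hqp h3.symm
  refine ⟨B₁, centMod H B₁, hB₁n, hB₁K, ?_, fun x hx => hx.1, fun x hx y hy => hx.2 y hy, ?_, ?_⟩
  · intro x hx
    refine ⟨hKH (hB₁K hx), fun y hy => ?_⟩
    have h1 : x * y * x⁻¹ * y⁻¹ = x * (y * x⁻¹ * y⁻¹) := by group
    rw [h1]
    exact B₁.mul_mem hx (hB₁n.conj_mem _ (B₁.inv_mem hx) y)
  · -- `[H,H] < centMod`
    have hKD : (⁅H, H⁆ : Subgroup N) ≤ centMod H B₁ := by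
      intro x hx
      refine ⟨hKH hx, fun y hy => ?_⟩
      apply (le_sup_left : _ ≤ B₁)
      have := Subgroup.commutator_mem_commutator hx hy
      rwa [commutatorElement_def] at this
    have hQD : Q ≤ centMod H B₁ := by
      intro x hx
      refine ⟨hQH hx, fun y hy => ?_⟩
      apply (le_sup_right : _ ≤ B₁)
      refine ⟨?_, ?_⟩
      · have h1 : x * y * x⁻¹ * y⁻¹ = x * (y * x⁻¹ * y⁻¹) := by group
        rw [h1]
        exact Q.mul_mem hx (hQn.conj_mem _ (Q.inv_mem hx) y)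
      · have := Subgroup.commutator_mem_commutator (hQH hx) hy
        rwa [commutatorElement_def] at this
    have hDH : centMod H B₁ ≤ H := fun x hx => hx.1
    have hne1 : (⁅H, H⁆ : Subgroup N).relIndex (centMod H B₁) ≠ 1 := by
      intro h1
      exact hQnot (hQD.trans (Subgroup.relIndex_eq_one.1 h1))
    have h2 : 2 ≤ (⁅H, H⁆ : Subgroup N).relIndex (centMod H B₁) := by
      have := relIndex_ne_zero (⁅H, H⁆ : Subgroup N) (centMod H B₁)
      omega
    rw [← Subgroup.relIndex_mul_relIndex ⁅H, H⁆ (centMod H B₁) H hKD hDH]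
    exact Nat.mul_le_mul_right _ h2
  · have hne1 : B₁.relIndex ⁅H, H⁆ ≠ 1 := by
      intro h1
      exact hB₁ne (le_antisymm hB₁K (Subgroup.relIndex_eq_one.1 h1))
    have h2 : 2 ≤ B₁.relIndex ⁅H, H⁆ := by
      have := relIndex_ne_zero B₁ (⁅H, H⁆ : Subgroup N)
      omega
    rw [← Subgroup.relIndex_mul_relIndex B₁ ⁅H, H⁆ H hB₁K hKH]
    exact Nat.mul_le_mul_right _ h2

end NonPGroup

end Cfsg.Agent.Lib.Helper31_FeitFrob
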