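import Mathlib
import Cfsg.Agent.Lib.Helper95_FeitDefs
import Cfsg.Agent.Lib.Helper74_FS3
import Cfsg.Agent.Lib.Helper75_Induced
import Cfsg.Agent.Lib.Helper75_CharProd
import Cfsg.Agent.Lib.Helper25_FrobSet
import Cfsg.Agent.Lib.Helper31_FeitFrob
import Cfsg.Agent.Lib.Helper15_Linear
import Cfsg.Agent.Lib.Helper16_CohCount
import Cfsg.Agent.Lib.Helper3_CharOrtho
import Cfsg.Agent.Lib.Helper3_CharBridge

/-!
# Feit's theorem on Zassenhaus groups (S0885), package PC3 (for helper95)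

Frobenius–Schur indicator of induced functions:
`fsInd (Ind_N^G α) = fsInd α + α 1`, and `fsInd ξ ∈ {0, 1}` for `ξ ∈ SS N H` of degree `e`.
-/

set_option autoImplicit false
set_option linter.unusedSectionVars false

namespace Cfsg.Agent.Lib.Helper11_Feit_PC3

open Cfsg Cfsg.Agent.Lib.Helper95_FeitDefs Cfsg.Agent.Lib.Helper75_Induced
open scoped ComplexConjugate

universe u

section general

variable {L : Type*} [Group L] [Fintype L]

/-- the sum of an induced function over the squares -/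
theorem sum_indFun_sq_eq (M : Subgroup L) (α : M → ℂ) :
    ∑ s : L, Cfsg.indFun M α (s * s) =
      (Nat.card M : ℂ)⁻¹ * ((Nat.card L : ℂ) * ∑ s : L, Cfsg.extendByZero M α (s * s)) := by
  classical
  have h1 : ∑ s : L, Cfsg.indFun M α (s * s) =
      (Nat.card M : ℂ)⁻¹ * ∑ x : L, ∑ s : L, Cfsg.extendByZero M α (x⁻¹ * (s * s) * x) := by
    simp only [indFun_apply]
    rw [← Finset.mul_sum, Finset.sum_comm]
  have h2 : ∀ x : L, ∑ s : L, Cfsg.extendByZero M α (x⁻¹ * (s * s) * x) =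
      ∑ s : L, Cfsg.extendByZero M α (s * s) := by
    intro x
    apply Fintype.sum_equiv (MulAut.conj x⁻¹).toEquiv
    intro s
    congr 1
    show x⁻¹ * (s * s) * x = (x⁻¹ * s * x⁻¹⁻¹) * (x⁻¹ * s * x⁻¹⁻¹)
    group
  rw [h1]
  simp_rw [h2]
  rw [Finset.sum_const, Finset.card_univ, nsmul_eq_mul, Nat.card_eq_fintype_card (α := L)]

/-- the Frobenius–Schur indicator of an induced function -/
theorem fsInd_indFun (M : Subgroup L) (α : M → ℂ) :
    Cfsg.Agent.Lib.Helper74_FS.fsInd (Cfsg.indFun M α) =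
      (Nat.card M : ℂ)⁻¹ * ∑ s : L, Cfsg.extendByZero M α (s * s) := by
  unfold Cfsg.Agent.Lib.Helper74_FS.fsInd
  rw [sum_indFun_sq_eq]
  have hL : (Nat.card L : ℂ) ≠ 0 := Nat.cast_ne_zero.mpr Nat.card_pos.ne'
  field_simp

end general

section C23

variable {G : Type u} [Group G] [Fintype G] {N H : Subgroup G} [Fintype N] {h e : ℕ}

theorem partA (hD : ZData N H h e) (α : N → ℂ) :
    Cfsg.Agent.Lib.Helper74_FS.fsInd (Cfsg.indFun N α) =
      Cfsg.Agent.Lib.Helper74_FS.fsInd α + α 1 := by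
  classical
  rw [fsInd_indFun]
  have hsplit : ∀ s : G, Cfsg.extendByZero N α (s * s) =
      Cfsg.extendByZero N (fun n : N => α (n * n)) s +
        (if s ∉ N ∧ s * s = 1 then α 1 else 0) := by
    intro s
    by_cases hs : s ∈ N
    · rw [if_neg (fun h => h.1 hs), add_zero, extendByZero_of_mem N _ hs,
        extendByZero_of_mem N _ (N.mul_mem hs hs)]
      rfl
    · rw [extendByZero_of_not_mem N _ hs, zero_add]
      by_cases hss : s * s ∈ N
      · have h1 : s * s = 1 := hD.sq_out s hs hss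
        rw [if_pos ⟨hs, h1⟩, h1, extendByZero_of_mem N _ N.one_mem]
        rfl
      · rw [extendByZero_of_not_mem N _ hss, if_neg]
        rintro ⟨-, h1⟩
        exact hss (h1 ▸ N.one_mem)
  simp_rw [hsplit]
  rw [Finset.sum_add_distrib, sum_extendByZero, Finset.sum_ite, Finset.sum_const,
    Finset.sum_const_zero, add_zero, nsmul_eq_mul]
  have hcard : ((Finset.univ.filter (fun s : G => s ∉ N ∧ s * s = 1)).card : ℂ) =
      (Nat.card N : ℂ) := by
    rw [hD.card_N, ← hD.card_invol_out, Nat.card_eq_fintype_card, Fintype.card_subtype]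
  rw [hcard]
  unfold Cfsg.Agent.Lib.Helper74_FS.fsInd
  have hN0 : (Nat.card N : ℂ) ≠ 0 := Nat.cast_ne_zero.mpr Nat.card_pos.ne'
  field_simp

theorem partB (hD : ZData N H h e) (ξ : N → ℂ) (hξ : ξ ∈ SS N H) (hdeg : ξ 1 = (e : ℂ)) :
    Cfsg.Agent.Lib.Helper74_FS.fsInd ξ = 0 ∨ Cfsg.Agent.Lib.Helper74_FS.fsInd ξ = 1 := by
  classical
  set K : Subgroup N := H.subgroupOf N with hK
  have hmemK : ∀ x : N, x ∈ K ↔ (x : G) ∈ H := fun x => Subgroup.mem_subgroupOf
  have hKn : K.Normal := ⟨fun k hk n => by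
    rw [hmemK] at hk ⊢
    exact hD.H_normal n n.2 k hk⟩
  let _ : Fintype K := Fintype.ofFinite K
  have hfrob : ∀ k ∈ K, k ≠ 1 → ∀ x : N, x * k = k * x → x ∈ K := by
    intro k hk hk1 x hx
    rw [hmemK] at hk ⊢
    exact hD.frob k hk (fun h => hk1 (Subtype.ext h)) x x.2 (congrArg Subtype.val hx)
  have hcardK : Nat.card K = h := by
    rw [← hD.card_H]
    exact Nat.card_congr (Subgroup.subgroupOfEquivOfLe hD.H_le).toEquiv
  have hh0 : 0 < h := by rw [← hD.card_H]; exact Nat.card_pos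
  have hindex : K.index = e := by
    have h1 := Subgroup.card_mul_index K
    rw [hcardK, hD.card_N] at h1
    exact Nat.eq_of_mul_eq_mul_left hh0 h1
  have hcop : (Nat.card K).Coprime K.index := by
    apply Cfsg.Agent.Lib.Helper31_FeitFrob.coprime_card_index K
    intro k hk hk1 x hx
    rw [Subgroup.mem_centralizer_singleton_iff] at hx
    exact hfrob k hk hk1 x hx
  have hset := Cfsg.Agent.Lib.Helper25_FrobSet.setOf_irr_eq K hfrob hcop
  have hξ' : ξ ∈ Cfsg.inducedIrrAbove K ⊥ := by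
    rw [← hset]; exact hξ
  obtain ⟨θ, hθ, hne, -, rfl⟩ := hξ'
  have he0 : (e : ℂ) ≠ 0 := by
    have : 0 < e := lt_trans Nat.zero_lt_one hD.one_lt_e
    exact Nat.cast_ne_zero.mpr this.ne'
  have hθ1 : θ 1 = 1 := by
    rw [Cfsg.Agent.Lib.Helper16_CohCount.indFun_one_index, hindex] at hdeg
    exact mul_left_cancel₀ he0 (by rw [hdeg, mul_one])
  have hmul : ∀ a b : K, θ (a * b) = θ a * θ b :=
    Cfsg.Agent.Lib.Helper15_Linear.linear_mul θ
      (Cfsg.Agent.Lib.Helper3_CharBridge.isCharacter_of_isIrrCharacter hθ) hθ1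
  rw [fsInd_indFun]
  have hsq : ∀ s : N, s * s ∈ K → s ∈ K := by
    intro s hs
    have h1 : ((s : N ⧸ K)) ^ 2 = 1 := by
      rw [← QuotientGroup.mk_pow, pow_two]
      exact (QuotientGroup.eq_one_iff _).2 hs
    have h2 : orderOf (s : N ⧸ K) ∣ 2 := orderOf_dvd_of_pow_eq_one h1
    have h3 : orderOf (s : N ⧸ K) ∣ e := by
      rw [← hindex, Subgroup.index_eq_card]
      exact orderOf_dvd_natCard _
    have h4 : orderOf (s : N ⧸ K) ∣ Nat.gcd 2 e := Nat.dvd_gcd h2 h3
    have h5 : Nat.gcd 2 e = 1 := Nat.coprime_two_left.mpr hD.e_odd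
    rw [h5, Nat.dvd_one, orderOf_eq_one_iff] at h4
    exact (QuotientGroup.eq_one_iff _).1 h4
  have hterm : ∀ s : N, Cfsg.extendByZero K θ (s * s) =
      Cfsg.extendByZero K (fun k : K => θ k * θ k) s := by
    intro s
    by_cases hs : s ∈ K
    · rw [extendByZero_of_mem K _ hs, extendByZero_of_mem K _ (K.mul_mem hs hs)]
      exact hmul ⟨s, hs⟩ ⟨s, hs⟩
    · rw [extendByZero_of_not_mem K _ hs, extendByZero_of_not_mem K _ (fun h => hs (hsq s h))]
  simp_rw [hterm]
  rw [sum_extendByZero]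
  have hconj := Cfsg.Agent.Lib.Helper75_CharProd.isIrrCharacter_conj hθ
  have hinner := Cfsg.Agent.Lib.Helper3_CharOrtho.classInner_irr hθ hconj
  have h6 : (Nat.card K : ℂ)⁻¹ * ∑ k : K, θ k * θ k =
      Cfsg.classInner θ (fun g => conj (θ g)) := by
    unfold Cfsg.classInner
    simp
  rw [h6, hinner]
  split_ifs
  · right; rfl
  · left; rfl

/-- **PC3** -/
theorem PC3 (hD : ZData N H h e) :
    (∀ α : N → ℂ, Cfsg.IsClassFunction N α →
      Cfsg.Agent.Lib.Helper74_FS.fsInd (Cfsg.indFun N α) =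
        Cfsg.Agent.Lib.Helper74_FS.fsInd α + α 1) ∧
    (∀ ξ ∈ SS N H, ξ 1 = (e : ℂ) →
      Cfsg.Agent.Lib.Helper74_FS.fsInd ξ = 0 ∨ Cfsg.Agent.Lib.Helper74_FS.fsInd ξ = 1) :=
  ⟨fun α _ => partA hD α, fun ξ hξ hdeg => partB hD ξ hξ hdeg⟩

end C23

end Cfsg.Agent.Lib.Helper11_Feit_PC3
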