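import Cfsg.Prelude.Def_LocalEven

set_option autoImplicit false

namespace Cfsg.Agent.Lib.Helper46_SL2

open Matrix

variable {F : Type*} [Field F]

theorem smul_eq_mulVec (g : Matrix.SpecialLinearGroup (Fin 2) F) (v : Fin 2 → F) :
    g • v = (g : Matrix (Fin 2) (Fin 2) F) *ᵥ v := rfl

/-- Constructor for elements of `SL₂(F)` with an explicit type. -/
def mkSL (A : Matrix (Fin 2) (Fin 2) F) (h : A.det = 1) : Matrix.SpecialLinearGroup (Fin 2) F := ⟨A, h⟩

theorem coe_mkSL (A : Matrix (Fin 2) (Fin 2) F) (h : A.det = 1) :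
    ((mkSL A h : Matrix.SpecialLinearGroup (Fin 2) F) : Matrix (Fin 2) (Fin 2) F) = A := rfl

/-- `SL₂(F)` is transitive on nonzero vectors: every nonzero vector is the image of `e₁`. -/
theorem exists_smul_e1 (v : Fin 2 → F) (hv : v ≠ 0) :
    ∃ g : Matrix.SpecialLinearGroup (Fin 2) F, g • (![1, 0] : Fin 2 → F) = v := by
  by_cases ha : v 0 = 0
  · have hb : v 1 ≠ 0 := by
      intro hb
      apply hv
      ext i
      fin_cases i <;> simp [ha, hb]
    refine ⟨mkSL !![0, -(v 1)⁻¹; v 1, 0] (by rw [Matrix.det_fin_two]; simp [hb]), ?_⟩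
    rw [smul_eq_mulVec, coe_mkSL]
    ext i
    fin_cases i <;> simp [Matrix.mulVec, dotProduct, Fin.sum_univ_two, ha]
  · refine ⟨mkSL !![v 0, 0; v 1, (v 0)⁻¹] (by rw [Matrix.det_fin_two]; simp [ha]), ?_⟩
    rw [smul_eq_mulVec, coe_mkSL]
    ext i
    fin_cases i <;> simp [Matrix.mulVec, dotProduct, Fin.sum_univ_two]

/-- A normal `p`-subgroup of `SL₂(F)`, `F` finite of characteristic `p`, is trivial. -/
theorem normal_pSubgroup_eq_bot [Fintype F] {p : ℕ} [Fact p.Prime] [CharP F p]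
    (N : Subgroup (Matrix.SpecialLinearGroup (Fin 2) F)) (hn : N.Normal) (hN : IsPGroup p N) : N = ⊥ := by
  classical
  have hcard : p ∣ Nat.card (Fin 2 → F) := by
    obtain ⟨n, _, hn⟩ := FiniteField.card F p
    rw [Nat.card_eq_fintype_card, Fintype.card_fun, hn, Fintype.card_fin]
    exact dvd_pow (dvd_pow_self p n.ne_zero) (by norm_num)
  have h0 : (0 : Fin 2 → F) ∈ MulAction.fixedPoints N (Fin 2 → F) := fun n => smul_zero _
  obtain ⟨v, hv, hv0⟩ := hN.exists_fixed_point_of_prime_dvd_card_of_fixed_point (Fin 2 → F) hcard h0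
  have key : ∀ g : Matrix.SpecialLinearGroup (Fin 2) F, ∀ n ∈ N, n • g • v = g • v := by
    intro g n hn'
    have hmem : g⁻¹ * n * g⁻¹⁻¹ ∈ N := hn.conj_mem n hn' g⁻¹
    have hfix : (g⁻¹ * n * g⁻¹⁻¹) • v = v := hv ⟨_, hmem⟩
    calc n • g • v = g • ((g⁻¹ * n * g⁻¹⁻¹) • v) := by simp [mul_smul]
      _ = g • v := by rw [hfix]
  obtain ⟨g₀, hg₀⟩ := exists_smul_e1 v (Ne.symm hv0)
  have he1 : ∀ g : Matrix.SpecialLinearGroup (Fin 2) F, ∀ n ∈ N,
      n • g • (![1, 0] : Fin 2 → F) = g • (![1, 0] : Fin 2 → F) := by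
    intro g n hn'
    have h1 : g • (![1, 0] : Fin 2 → F) = (g * g₀⁻¹) • v := by
      rw [← hg₀, mul_smul, inv_smul_smul]
    rw [h1]
    exact key _ n hn'
  rw [Subgroup.eq_bot_iff_forall]
  intro n hn'
  have h1 := he1 1 n hn'
  have h2 := he1 (mkSL !![0, -1; 1, 0] (by rw [Matrix.det_fin_two]; simp)) n hn'
  rw [one_smul] at h1
  have e2 : (mkSL !![0, -1; 1, 0] (by rw [Matrix.det_fin_two]; simp) : Matrix.SpecialLinearGroup (Fin 2) F) •
      (![1, 0] : Fin 2 → F) = ![0, 1] := by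
    rw [smul_eq_mulVec, coe_mkSL]
    ext i
    fin_cases i <;> simp [Matrix.mulVec, dotProduct, Fin.sum_univ_two]
  rw [e2] at h2
  rw [smul_eq_mulVec] at h1 h2
  have a0 := congrFun h1 0
  have a1 := congrFun h1 1
  have b0 := congrFun h2 0
  have b1 := congrFun h2 1
  simp [Matrix.mulVec, dotProduct, Fin.sum_univ_two] at a0 a1 b0 b1
  apply Subtype.ext
  ext i j
  fin_cases i <;> fin_cases j <;> simp [a0, a1, b0, b1]

theorem pCore_SL2_eq_bot [Fintype F] {p : ℕ} [Fact p.Prime] [CharP F p] :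
    Cfsg.pCore p (Matrix.SpecialLinearGroup (Fin 2) F) = ⊥ :=
  normal_pSubgroup_eq_bot _ (Subgroup.sSup_normal _ (fun _ h => h.1))
    (Sylow.sSup_of_normal _ (fun _ h => h.2) (fun _ h => h.1))

end Cfsg.Agent.Lib.Helper46_SL2
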