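import Cfsg.Agent.Lib.Helper46_Qd
import Cfsg.Agent.Lib.Helper46_SL2

set_option autoImplicit false

namespace Cfsg.Agent.Lib.Helper46_Qd2

open Matrix Cfsg.Agent.Lib.Helper46_Qd

variable {R : Type*} [CommRing R]

/-- entry accessor -/
abbrev ent (M : affineSub R) (i j : Fin 3) : R :=
  ((M : Matrix.SpecialLinearGroup (Fin 3) R) : Matrix (Fin 3) (Fin 3) R) i j

theorem ent_mul_02 (M N : affineSub R) :
    ent (M * N) 0 2 = ent M 0 0 * ent N 0 2 + ent M 0 1 * ent N 1 2 + ent M 0 2 := by
  obtain ⟨M, hM0, hM1, hM2⟩ := M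
  obtain ⟨N, hN0, hN1, hN2⟩ := N
  simp [ent, Matrix.SpecialLinearGroup.coe_mul, Matrix.mul_apply, Fin.sum_univ_three, hN2]

theorem ent_mul_12 (M N : affineSub R) :
    ent (M * N) 1 2 = ent M 1 0 * ent N 0 2 + ent M 1 1 * ent N 1 2 + ent M 1 2 := by
  obtain ⟨M, hM0, hM1, hM2⟩ := M
  obtain ⟨N, hN0, hN1, hN2⟩ := N
  simp [ent, Matrix.SpecialLinearGroup.coe_mul, Matrix.mul_apply, Fin.sum_univ_three, hN2]

theorem ent_20 (M : affineSub R) : ent M 2 0 = 0 := M.2.1
theorem ent_21 (M : affineSub R) : ent M 2 1 = 0 := M.2.2.1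
theorem ent_22 (M : affineSub R) : ent M 2 2 = 1 := M.2.2.2

theorem ext_ent {M N : affineSub R} (h00 : ent M 0 0 = ent N 0 0) (h01 : ent M 0 1 = ent N 0 1)
    (h02 : ent M 0 2 = ent N 0 2) (h10 : ent M 1 0 = ent N 1 0) (h11 : ent M 1 1 = ent N 1 1)
    (h12 : ent M 1 2 = ent N 1 2) : M = N := by
  apply Subtype.ext
  apply Subtype.ext
  ext i j
  have a0 := ent_20 M; have a1 := ent_21 M; have a2 := ent_22 M
  have b0 := ent_20 N; have b1 := ent_21 N; have b2 := ent_22 N
  simp only [ent] at *
  fin_cases i <;> fin_cases j <;> simp [*]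

theorem ent_mk (g : Matrix.SpecialLinearGroup (Fin 2) R) (a b : R) :
    ent (mk g a b) 0 0 = (g : Matrix (Fin 2) (Fin 2) R) 0 0 ∧
    ent (mk g a b) 0 1 = (g : Matrix (Fin 2) (Fin 2) R) 0 1 ∧
    ent (mk g a b) 0 2 = a ∧
    ent (mk g a b) 1 0 = (g : Matrix (Fin 2) (Fin 2) R) 1 0 ∧
    ent (mk g a b) 1 1 = (g : Matrix (Fin 2) (Fin 2) R) 1 1 ∧
    ent (mk g a b) 1 2 = b := by
  simp [ent, mk]

theorem coe_block (M : affineSub R) :
    ((block M : Matrix.SpecialLinearGroup (Fin 2) R) : Matrix (Fin 2) (Fin 2) R) =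
      !![ent M 0 0, ent M 0 1; ent M 1 0, ent M 1 1] := rfl

/-- The translation subgroup. -/
def transl (R : Type*) [CommRing R] : Subgroup (affineSub R) := (block (R := R)).ker

theorem transl_normal : (transl R).Normal := MonoidHom.normal_ker _

theorem mem_transl_iff (M : affineSub R) :
    M ∈ transl R ↔ ent M 0 0 = 1 ∧ ent M 0 1 = 0 ∧ ent M 1 0 = 0 ∧ ent M 1 1 = 1 := by
  rw [transl, MonoidHom.mem_ker]
  constructor
  · intro h
    have h' := congrArg (fun g : Matrix.SpecialLinearGroup (Fin 2) R => (g : Matrix (Fin 2) (Fin 2) R)) h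
    simp only [coe_block, Matrix.SpecialLinearGroup.coe_one] at h'
    have h00 := congrFun (congrFun h' 0) 0
    have h01 := congrFun (congrFun h' 0) 1
    have h10 := congrFun (congrFun h' 1) 0
    have h11 := congrFun (congrFun h' 1) 1
    simp at h00 h01 h10 h11
    exact ⟨h00, h01, h10, h11⟩
  · rintro ⟨h1, h2, h3, h4⟩
    apply Subtype.ext
    rw [coe_block, h1, h2, h3, h4]
    ext i j
    fin_cases i <;> fin_cases j <;> simp

/-- The embedding of `SL₂(R)` as block-diagonal matrices. -/
def mkHom : Matrix.SpecialLinearGroup (Fin 2) R →* affineSub R where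
  toFun g := mk g 0 0
  map_one' := by
    apply ext_ent <;> simp [ent, mk]
  map_mul' g h := by
    obtain ⟨e1, e2, e3, e4, e5, e6⟩ := ent_mk (g * h) 0 0
    obtain ⟨f1, f2, f3, f4, f5, f6⟩ := ent_mk g 0 0
    obtain ⟨k1, k2, k3, k4, k5, k6⟩ := ent_mk h 0 0
    apply ext_ent
    · rw [e1]
      simp only [ent] at *
      simp [Matrix.SpecialLinearGroup.coe_mul, Matrix.mul_apply, Fin.sum_univ_three, Fin.sum_univ_two,
        f1, f2, f3, k1, k4, (mk h 0 0).2.1]
    · rw [e2]
      simp only [ent] at *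
      simp [Matrix.SpecialLinearGroup.coe_mul, Matrix.mul_apply, Fin.sum_univ_three, Fin.sum_univ_two,
        f1, f2, f3, k2, k5, (mk h 0 0).2.2.1]
    · rw [e3, ent_mul_02, f3, k3, k6]; simp
    · rw [e4]
      simp only [ent] at *
      simp [Matrix.SpecialLinearGroup.coe_mul, Matrix.mul_apply, Fin.sum_univ_three, Fin.sum_univ_two,
        f4, f5, f6, k1, k4, (mk h 0 0).2.1]
    · rw [e5]
      simp only [ent] at *
      simp [Matrix.SpecialLinearGroup.coe_mul, Matrix.mul_apply, Fin.sum_univ_three, Fin.sum_univ_two,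
        f4, f5, f6, k2, k5, (mk h 0 0).2.2.1]
    · rw [e6, ent_mul_12, f6, k3, k6]; simp

theorem mkHom_apply (g : Matrix.SpecialLinearGroup (Fin 2) R) : mkHom g = mk g 0 0 := rfl

theorem block_mkHom (g : Matrix.SpecialLinearGroup (Fin 2) R) : block (mkHom g) = g := blockFun_mk g 0 0

theorem mkHom_injective : Function.Injective (mkHom (R := R)) :=
  Function.LeftInverse.injective block_mkHom

/-- The Levi complement: block-diagonal matrices. -/
def levi (R : Type*) [CommRing R] : Subgroup (affineSub R) := (mkHom (R := R)).range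

theorem mem_levi_iff (M : affineSub R) : M ∈ levi R ↔ ent M 0 2 = 0 ∧ ent M 1 2 = 0 := by
  constructor
  · rintro ⟨g, rfl⟩
    obtain ⟨_, _, e3, _, _, e6⟩ := ent_mk g 0 0
    exact ⟨e3, e6⟩
  · rintro ⟨h1, h2⟩
    refine ⟨block M, ?_⟩
    have := mk_blockFun_transFun M
    rw [mkHom_apply, block_apply]
    have ht : transFun M = (0, 0) := by
      simp only [transFun, Prod.mk.injEq]
      exact ⟨h1, h2⟩
    rw [ht] at this
    exact this

theorem levi_inf_transl : levi R ⊓ transl R = ⊥ := by
  rw [Subgroup.eq_bot_iff_forall]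
  rintro M ⟨⟨g, rfl⟩, hM⟩
  have hM' : mkHom g ∈ (block (R := R)).ker := hM
  rw [MonoidHom.mem_ker, block_mkHom] at hM'
  rw [hM', map_one]

theorem levi_sup_transl : levi R ⊔ transl R = ⊤ := by
  rw [eq_top_iff]
  intro M _
  have hk : mkHom (block M) ∈ levi R := ⟨block M, rfl⟩
  have ht : (mkHom (block M))⁻¹ * M ∈ transl R := by
    rw [transl, MonoidHom.mem_ker, map_mul, map_inv, block_mkHom, inv_mul_cancel]
  have : M = mkHom (block M) * ((mkHom (block M))⁻¹ * M) := by group
  rw [this]
  exact Subgroup.mul_mem_sup hk ht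

/-- The Levi complement is isomorphic to `SL₂(R)`. -/
noncomputable def leviEquiv : levi R ≃* Matrix.SpecialLinearGroup (Fin 2) R :=
  (MonoidHom.ofInjective mkHom_injective).symm

/-! ### The translation subgroup as a module -/

theorem transl_mk_mem (a b : R) : mk (1 : Matrix.SpecialLinearGroup (Fin 2) R) a b ∈ transl R := by
  rw [mem_transl_iff]
  obtain ⟨e1, e2, _, e4, e5, _⟩ := ent_mk (1 : Matrix.SpecialLinearGroup (Fin 2) R) a b
  rw [e1, e2, e4, e5]
  simp

/-- translation vector of an element of the translation subgroup -/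
def translVec (t : transl R) : Fin 2 → R := ![ent t.1 0 2, ent t.1 1 2]

/-- the translation with a given vector -/
def translOf (v : Fin 2 → R) : transl R := ⟨mk 1 (v 0) (v 1), transl_mk_mem (v 0) (v 1)⟩

theorem translOf_translVec (t : transl R) : translOf (translVec t) = t := by
  obtain ⟨t, ht⟩ := t
  have ht' := ht
  rw [mem_transl_iff] at ht'
  obtain ⟨h1, h2, h3, h4⟩ := ht'
  obtain ⟨e1, e2, e3, e4, e5, e6⟩ := ent_mk (1 : Matrix.SpecialLinearGroup (Fin 2) R) (ent t 0 2) (ent t 1 2)
  apply Subtype.ext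
  show mk 1 (ent t 0 2) (ent t 1 2) = t
  apply ext_ent
  · rw [e1, h1]; simp
  · rw [e2, h2]; simp
  · rw [e3]
  · rw [e4, h3]; simp
  · rw [e5, h4]; simp
  · rw [e6]

theorem translVec_translOf (v : Fin 2 → R) : translVec (translOf v) = v := by
  obtain ⟨_, _, e3, _, _, e6⟩ := ent_mk (1 : Matrix.SpecialLinearGroup (Fin 2) R) (v 0) (v 1)
  ext i
  fin_cases i
  · exact e3
  · exact e6

theorem translVec_mul (s t : transl R) : translVec (s * t) = translVec s + translVec t := by
  obtain ⟨s, hs⟩ := s
  obtain ⟨t, ht⟩ := t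
  rw [mem_transl_iff] at hs
  obtain ⟨h1, h2, h3, h4⟩ := hs
  ext i
  fin_cases i
  · show ent (s * t) 0 2 = ent s 0 2 + ent t 0 2
    rw [ent_mul_02, h1, h2]; ring
  · show ent (s * t) 1 2 = ent s 1 2 + ent t 1 2
    rw [ent_mul_12, h3, h4]; ring

/-- The translation subgroup is the additive group `R²`. -/
def translEquiv : Additive (transl R) ≃+ (Fin 2 → R) where
  toFun t := translVec (Additive.toMul t)
  invFun v := Additive.ofMul (translOf v)
  left_inv t := translOf_translVec (Additive.toMul t)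
  right_inv v := translVec_translOf v
  map_add' s t := translVec_mul (Additive.toMul s) (Additive.toMul t)

theorem translEquiv_apply (t : transl R) :
    translEquiv (Additive.ofMul t) = ![ent t.1 0 2, ent t.1 1 2] := rfl

theorem isPGroup_transl {F : Type*} [Field F] {p : ℕ} [Fact p.Prime] [CharP F p] :
    IsPGroup p (transl F) := by
  intro t
  refine ⟨1, ?_⟩
  rw [pow_one]
  have h : translEquiv (Additive.ofMul (t ^ p)) = 0 := by
    rw [ofMul_pow, map_nsmul]
    ext i
    simp
  have h2 : Additive.ofMul (t ^ p) = 0 := by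
    rw [← map_zero (translEquiv (R := F))] at h
    exact translEquiv.injective h
  exact h2

theorem pCore_eq_transl {F : Type*} [Field F] [Fintype F] {p : ℕ} [Fact p.Prime] [CharP F p] :
    Cfsg.pCore p (affineSub F) = transl F := by
  apply le_antisymm
  · intro x hx
    have hn : ((Cfsg.pCore p (affineSub F)).map (block (R := F))).Normal :=
      (Subgroup.sSup_normal _ (fun _ h => h.1)).map _ block_surjective
    have hp : IsPGroup p ((Cfsg.pCore p (affineSub F)).map (block (R := F))) :=
      (Sylow.sSup_of_normal _ (fun _ h => h.2) (fun _ h => h.1)).map _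
    have hbot := Cfsg.Agent.Lib.Helper46_SL2.normal_pSubgroup_eq_bot _ hn hp
    have : block x ∈ (Cfsg.pCore p (affineSub F)).map (block (R := F)) := ⟨x, hx, rfl⟩
    rw [hbot] at this
    exact this
  · exact le_sSup ⟨transl_normal, isPGroup_transl⟩

/-! ### The natural module -/

theorem levi_ent (l : levi R) : ent l.1 0 2 = 0 ∧ ent l.1 1 2 = 0 := (mem_levi_iff l.1).1 l.2

theorem isNaturalSL2Module {F : Type*} [Field F] :
    Cfsg.IsNaturalSL2Module F (transl F) (levi F) := by
  have hnorm : (transl F).Normal := transl_normal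
  refine ⟨?_, ?_⟩
  · rw [Subgroup.normalizer_eq_top]; exact le_top
  · refine ⟨(block (R := F)).comp (levi F).subtype, translEquiv, ?_, ?_, ?_⟩
    · intro g
      exact ⟨⟨mkHom g, g, rfl⟩, block_mkHom g⟩
    · ext l
      rw [MonoidHom.mem_ker, Subgroup.mem_subgroupOf, Subgroup.mem_centralizer_iff]
      simp only [MonoidHom.coe_comp, Subgroup.coe_subtype, Function.comp_apply]
      constructor
      · intro h
        obtain ⟨l, g, rfl⟩ := l
        rw [block_mkHom] at h
        subst h
        intro t _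
        simp
      · intro h
        obtain ⟨hl1, hl2⟩ := levi_ent l
        have key : ∀ a b : F, ent l.1 0 0 * a + ent l.1 0 1 * b = a ∧ ent l.1 1 0 * a + ent l.1 1 1 * b = b := by
          intro a b
          have hc := h (mk 1 a b) (transl_mk_mem a b)
          obtain ⟨e1, e2, e3, e4, e5, e6⟩ := ent_mk (1 : Matrix.SpecialLinearGroup (Fin 2) F) a b
          have c1 := congrArg (fun M : affineSub F => ent M 0 2) hc
          have c2 := congrArg (fun M : affineSub F => ent M 1 2) hc
          simp only [ent_mul_02, ent_mul_12, e1, e2, e3, e4, e5, e6, hl1, hl2] at c1 c2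
          simp at c1 c2
          exact ⟨c1.symm, c2.symm⟩
        have k10 := key 1 0
        have k01 := key 0 1
        simp at k10 k01
        apply Subtype.ext
        rw [coe_block, k10.1, k10.2, k01.1, k01.2]
        ext i j
        fin_cases i <;> fin_cases j <;> simp
    · intro l v
      have hw : (l : affineSub F) * (v : affineSub F) * (l : affineSub F)⁻¹ ∈ transl F :=
        hnorm.conj_mem _ v.2 _
      refine ⟨⟨_, hw⟩, rfl, ?_⟩
      set w : affineSub F := (l : affineSub F) * (v : affineSub F) * (l : affineSub F)⁻¹ with hw_def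
      have hrel : w * (l : affineSub F) = (l : affineSub F) * (v : affineSub F) := by
        rw [hw_def]; group
      obtain ⟨hl1, hl2⟩ := levi_ent l
      obtain ⟨w1, w2, w3, w4⟩ := (mem_transl_iff w).1 hw
      have c1 := congrArg (fun M : affineSub F => ent M 0 2) hrel
      have c2 := congrArg (fun M : affineSub F => ent M 1 2) hrel
      simp only [ent_mul_02, ent_mul_12, hl1, hl2, w1, w2, w3, w4] at c1 c2
      simp at c1 c2
      rw [translEquiv_apply, translEquiv_apply]
      simp only [MonoidHom.coe_comp, Subgroup.coe_subtype, Function.comp_apply, coe_block]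
      ext i
      fin_cases i
      · simp [Matrix.mulVec, dotProduct, Fin.sum_univ_two]
        exact c1
      · simp [Matrix.mulVec, dotProduct, Fin.sum_univ_two]
        exact c2

end Cfsg.Agent.Lib.Helper46_Qd2
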