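import Mathlib
import Cfsg.Agent.Lib.Helper46_Qd2
import Cfsg.Agent.Lib.Helper5_PSLCard

set_option autoImplicit false
set_option linter.unusedSimpArgs false

/-! Standard Sylow `p`-subgroup (upper unitriangular matrices) of the affine group `affineSub R`
(`= Qd(p)` for `R = ZMod p`), via the abstract Heisenberg group `H3 R`. -/

namespace Cfsg.Agent.Lib.Helper46_Qd3

open Matrix Cfsg.Agent.Lib.Helper46_Qd Cfsg.Agent.Lib.Helper46_Qd2

variable {R : Type*} [CommRing R]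

/-! ### entry formulas -/

theorem ent_mul (M N : affineSub R) (i j : Fin 3) :
    ent (M * N) i j = ent M i 0 * ent N 0 j + ent M i 1 * ent N 1 j + ent M i 2 * ent N 2 j := by
  simp [ent, Matrix.SpecialLinearGroup.coe_mul, Matrix.mul_apply, Fin.sum_univ_three]

theorem ent_one (i j : Fin 3) : ent (1 : affineSub R) i j = if i = j then 1 else 0 := by
  simp [ent, Matrix.one_apply]

theorem det_block (M : affineSub R) : ent M 0 0 * ent M 1 1 - ent M 0 1 * ent M 1 0 = 1 := by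
  have h := (block M).det_coe
  rw [coe_block, Matrix.det_fin_two] at h
  simpa using h

theorem ent_inv (M : affineSub R) :
    ent M⁻¹ 0 0 = ent M 1 1 ∧ ent M⁻¹ 0 1 = - ent M 0 1 ∧ ent M⁻¹ 1 0 = - ent M 1 0 ∧
    ent M⁻¹ 1 1 = ent M 0 0 ∧
    ent M⁻¹ 0 2 = ent M 0 1 * ent M 1 2 - ent M 1 1 * ent M 0 2 ∧
    ent M⁻¹ 1 2 = ent M 1 0 * ent M 0 2 - ent M 0 0 * ent M 1 2 := by
  have h0 := ent_20 M
  have h1 := ent_21 M
  have h2 := ent_22 M
  simp only [ent] at h0 h1 h2 ⊢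
  rw [Subgroup.coe_inv, Matrix.SpecialLinearGroup.coe_inv, Matrix.adjugate_fin_three]
  simp [h0, h1, h2]
  refine ⟨?_, ?_⟩ <;> ring

/-! ### The abstract Heisenberg group -/

/-- Triples `(a, b, c)` standing for the matrix `[[1, a, c], [0, 1, b], [0, 0, 1]]`. -/
@[ext] structure H3 (R : Type*) where
  a : R
  b : R
  c : R

namespace H3

instance : Mul (H3 R) := ⟨fun x y => ⟨x.a + y.a, x.b + y.b, x.c + y.c + x.a * y.b⟩⟩
instance : One (H3 R) := ⟨⟨0, 0, 0⟩⟩
instance : Inv (H3 R) := ⟨fun x => ⟨-x.a, -x.b, -x.c + x.a * x.b⟩⟩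

@[simp] theorem mul_a (x y : H3 R) : (x * y).a = x.a + y.a := rfl
@[simp] theorem mul_b (x y : H3 R) : (x * y).b = x.b + y.b := rfl
@[simp] theorem mul_c (x y : H3 R) : (x * y).c = x.c + y.c + x.a * y.b := rfl
@[simp] theorem one_a : (1 : H3 R).a = 0 := rfl
@[simp] theorem one_b : (1 : H3 R).b = 0 := rfl
@[simp] theorem one_c : (1 : H3 R).c = 0 := rfl
@[simp] theorem inv_a (x : H3 R) : (x⁻¹).a = -x.a := rfl
@[simp] theorem inv_b (x : H3 R) : (x⁻¹).b = -x.b := rfl
@[simp] theorem inv_c (x : H3 R) : (x⁻¹).c = -x.c + x.a * x.b := rfl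

instance : Group (H3 R) where
  mul_assoc x y z := by
    ext <;> simp [add_assoc]
    ring
  one_mul x := by ext <;> simp
  mul_one x := by ext <;> simp
  inv_mul_cancel x := by ext <;> simp

/-- The underlying set. -/
def equivProd : H3 R ≃ R × R × R where
  toFun x := (x.a, x.b, x.c)
  invFun t := ⟨t.1, t.2.1, t.2.2⟩
  left_inv _ := rfl
  right_inv _ := rfl

omit [CommRing R] in
theorem card : Nat.card (H3 R) = Nat.card R ^ 3 := by
  rw [Nat.card_congr equivProd, Nat.card_prod, Nat.card_prod]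
  ring

theorem pow_a (x : H3 R) (k : ℕ) : (x ^ k).a = k * x.a := by
  induction k with
  | zero => simp
  | succ k ih => rw [pow_succ, mul_a, ih]; push_cast; ring

theorem pow_b (x : H3 R) (k : ℕ) : (x ^ k).b = k * x.b := by
  induction k with
  | zero => simp
  | succ k ih => rw [pow_succ, mul_b, ih]; push_cast; ring

/-- The "graph" automorphism `(a, b, c) ↦ (-b, -a, a b - c)`. -/
def theta : H3 R ≃* H3 R where
  toFun x := ⟨-x.b, -x.a, x.a * x.b - x.c⟩
  invFun x := ⟨-x.b, -x.a, x.a * x.b - x.c⟩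
  left_inv x := by
    ext
    · simp
    · simp
    · simp only; ring
  right_inv x := by
    ext
    · simp
    · simp
    · simp only; ring
  map_mul' x y := by
    ext
    · simp only [mul_a, mul_b]; ring
    · simp only [mul_a, mul_b]; ring
    · simp only [mul_a, mul_b, mul_c]; ring

@[simp] theorem theta_a (x : H3 R) : (theta x).a = -x.b := rfl
@[simp] theorem theta_b (x : H3 R) : (theta x).b = -x.a := rfl
@[simp] theorem theta_c (x : H3 R) : (theta x).c = x.a * x.b - x.c := rfl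

end H3

/-! ### The embedding into the affine group -/

/-- upper unitriangular element of `SL₂` -/
def uSL (a : R) : Matrix.SpecialLinearGroup (Fin 2) R :=
  ⟨!![1, a; 0, 1], by simp [Matrix.det_fin_two]⟩

/-- The matrix of a triple. -/
def iotaFun (x : H3 R) : affineSub R := mk (uSL x.a) x.c x.b

theorem ent_iotaFun (x : H3 R) :
    ent (iotaFun x) 0 0 = 1 ∧ ent (iotaFun x) 0 1 = x.a ∧ ent (iotaFun x) 0 2 = x.c ∧
    ent (iotaFun x) 1 0 = 0 ∧ ent (iotaFun x) 1 1 = 1 ∧ ent (iotaFun x) 1 2 = x.b := by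
  obtain ⟨e1, e2, e3, e4, e5, e6⟩ := ent_mk (uSL x.a) x.c x.b
  unfold iotaFun
  refine ⟨?_, ?_, e3, ?_, ?_, e6⟩
  · rw [e1]; simp [uSL]
  · rw [e2]; simp [uSL]
  · rw [e4]; simp [uSL]
  · rw [e5]; simp [uSL]

/-- The embedding of the Heisenberg group as upper unitriangular matrices. -/
def iota : H3 R →* affineSub R where
  toFun := iotaFun
  map_one' := by
    obtain ⟨e1, e2, e3, e4, e5, e6⟩ := ent_iotaFun (1 : H3 R)
    apply ext_ent <;> simp [ent_one, *]
  map_mul' x y := by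
    obtain ⟨e1, e2, e3, e4, e5, e6⟩ := ent_iotaFun (x * y)
    obtain ⟨f1, f2, f3, f4, f5, f6⟩ := ent_iotaFun x
    obtain ⟨g1, g2, g3, g4, g5, g6⟩ := ent_iotaFun y
    apply ext_ent <;>
      simp only [ent_mul, ent_20, ent_21, ent_22, e1, e2, e3, e4, e5, e6, f1, f2, f3, f4, f5, f6,
        g1, g2, g3, g4, g5, g6, H3.mul_a, H3.mul_b, H3.mul_c] <;> ring

theorem iota_apply (x : H3 R) : iota x = iotaFun x := rfl

theorem ent_iota (x : H3 R) :
    ent (iota x) 0 0 = 1 ∧ ent (iota x) 0 1 = x.a ∧ ent (iota x) 0 2 = x.c ∧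
    ent (iota x) 1 0 = 0 ∧ ent (iota x) 1 1 = 1 ∧ ent (iota x) 1 2 = x.b := ent_iotaFun x

theorem iota_injective : Function.Injective (iota (R := R)) := by
  intro x y h
  obtain ⟨_, e2, e3, _, _, e6⟩ := ent_iota x
  obtain ⟨_, f2, f3, _, _, f6⟩ := ent_iota y
  ext
  · rw [← e2, ← f2, h]
  · rw [← e6, ← f6, h]
  · rw [← e3, ← f3, h]

/-- The standard unipotent subgroup. -/
def U (R : Type*) [CommRing R] : Subgroup (affineSub R) := (iota (R := R)).range

theorem mem_U_iff (M : affineSub R) :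
    M ∈ U R ↔ ent M 0 0 = 1 ∧ ent M 1 0 = 0 ∧ ent M 1 1 = 1 := by
  constructor
  · rintro ⟨x, rfl⟩
    obtain ⟨e1, _, _, e4, e5, _⟩ := ent_iota x
    exact ⟨e1, e4, e5⟩
  · rintro ⟨h1, h2, h3⟩
    refine ⟨⟨ent M 0 1, ent M 1 2, ent M 0 2⟩, ?_⟩
    obtain ⟨e1, e2, e3, e4, e5, e6⟩ := ent_iota (⟨ent M 0 1, ent M 1 2, ent M 0 2⟩ : H3 R)
    apply ext_ent
    · rw [e1, h1]
    · rw [e2]
    · rw [e3]
    · rw [e4, h2]
    · rw [e5, h3]
    · rw [e6]

theorem card_U : Nat.card (U R) = Nat.card R ^ 3 := by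
  rw [← H3.card]
  exact (Nat.card_congr (MonoidHom.ofInjective iota_injective).toEquiv).symm

theorem iota_mem_transl_iff (x : H3 R) : iota x ∈ transl R ↔ x.a = 0 := by
  obtain ⟨e1, e2, e3, e4, e5, e6⟩ := ent_iota x
  rw [mem_transl_iff, e1, e2, e4, e5]
  simp

/-! ### Special subgroups of the Heisenberg group -/

namespace H3

/-- The centre `{(0, 0, c)}`. -/
def ZH (R : Type*) [CommRing R] : Subgroup (H3 R) where
  carrier := {x | x.a = 0 ∧ x.b = 0}
  one_mem' := ⟨rfl, rfl⟩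
  mul_mem' := by
    rintro x y ⟨h1, h2⟩ ⟨h3, h4⟩
    exact ⟨by simp [h1, h3], by simp [h2, h4]⟩
  inv_mem' := by
    rintro x ⟨h1, h2⟩
    exact ⟨by simp [h1], by simp [h2]⟩

theorem mem_ZH_iff (x : H3 R) : x ∈ ZH R ↔ x.a = 0 ∧ x.b = 0 := Iff.rfl

/-- The subgroup `{(0, b, c)}` (the translations). -/
def VH (R : Type*) [CommRing R] : Subgroup (H3 R) where
  carrier := {x | x.a = 0}
  one_mem' := rfl
  mul_mem' := by
    intro x y (h1 : x.a = 0) (h3 : y.a = 0)
    show (x * y).a = 0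
    simp [h1, h3]
  inv_mem' := by
    intro x (h1 : x.a = 0)
    show (x⁻¹).a = 0
    simp [h1]

theorem mem_VH_iff (x : H3 R) : x ∈ VH R ↔ x.a = 0 := Iff.rfl

theorem pow_c_of_a (x : H3 R) (h : x.a = 0) (k : ℕ) : (x ^ k).c = k * x.c := by
  induction k with
  | zero => simp
  | succ k ih => rw [pow_succ, mul_c, ih, pow_a, h]; push_cast; ring

/-- conjugate-commutator identity -/
theorem comm_eq (k u : H3 R) : k * (u * k⁻¹ * u⁻¹) = ⟨0, 0, k.a * u.b - u.a * k.b⟩ := by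
  ext
  · simp
  · simp
  · simp only [mul_a, mul_b, mul_c, inv_a, inv_b, inv_c]; ring

end H3

/-! ### Normalizers in the affine group -/

/-- The centre of the standard unipotent subgroup, inside the affine group. -/
def Zc (R : Type*) [CommRing R] : Subgroup (affineSub R) := (H3.ZH R).map iota

theorem ent10_of_mem_normalizer_Zc (g : affineSub R)
    (hg : g ∈ Subgroup.normalizer (Zc R : Set (affineSub R))) : ent g 1 0 = 0 := by
  have hz : iota (⟨0, 0, 1⟩ : H3 R) ∈ Zc R := ⟨_, ⟨rfl, rfl⟩, rfl⟩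
  have h1 := (Subgroup.mem_set_normalizer_iff.mp hg _).mp hz
  obtain ⟨x, ⟨hxa, hxb⟩, hx⟩ := h1
  have h12 : ent (g * iota (⟨0, 0, 1⟩ : H3 R) * g⁻¹) 1 2 = 0 := by
    rw [← hx]
    rw [(ent_iota x).2.2.2.2.2, hxb]
  obtain ⟨e1, e2, e3, e4, e5, e6⟩ := ent_iota (⟨0, 0, 1⟩ : H3 R)
  obtain ⟨i1, i2, i3, i4, i5, i6⟩ := ent_inv g
  simp only [ent_mul, ent_20, ent_21, ent_22, e1, e2, e3, e4, e5, e6, i1, i2, i3, i4, i5, i6] at h12
  linear_combination h12 + (ent g 1 2) * det_block g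

theorem conj_mem_U (g : affineSub R) (hg : ent g 1 0 = 0) (x : H3 R) :
    g * iota x * g⁻¹ ∈ U R := by
  obtain ⟨e1, e2, e3, e4, e5, e6⟩ := ent_iota x
  obtain ⟨i1, i2, i3, i4, i5, i6⟩ := ent_inv g
  have hd := det_block g
  rw [hg] at hd
  rw [mem_U_iff]
  refine ⟨?_, ?_, ?_⟩
  · simp only [ent_mul, ent_20, ent_21, ent_22, e1, e2, e3, e4, e5, e6, i1, i2, i3, i4, i5, i6, hg]
    linear_combination hd
  · simp only [ent_mul, ent_20, ent_21, ent_22, e1, e2, e3, e4, e5, e6, i1, i2, i3, i4, i5, i6, hg]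
    ring
  · simp only [ent_mul, ent_20, ent_21, ent_22, e1, e2, e3, e4, e5, e6, i1, i2, i3, i4, i5, i6, hg]
    linear_combination hd

theorem normalizer_Zc_le : Subgroup.normalizer (Zc R : Set (affineSub R)) ≤
    Subgroup.normalizer (U R : Set (affineSub R)) := by
  intro g hg
  have h1 := ent10_of_mem_normalizer_Zc g hg
  have h2 : ent g⁻¹ 1 0 = 0 := by rw [(ent_inv g).2.2.1, h1, neg_zero]
  rw [Subgroup.mem_set_normalizer_iff]
  intro h
  constructor
  · rintro ⟨x, rfl⟩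
    exact conj_mem_U g h1 x
  · rintro ⟨x, hx⟩
    have := conj_mem_U g⁻¹ h2 x
    rw [hx] at this
    simpa [mul_assoc] using this

/-- lower unitriangular element of `SL₂` -/
def lSL (R : Type*) [CommRing R] : Matrix.SpecialLinearGroup (Fin 2) R :=
  ⟨!![1, 0; 1, 1], by simp [Matrix.det_fin_two]⟩

theorem normalizer_U_ne_top [Nontrivial R] :
    Subgroup.normalizer (U R : Set (affineSub R)) ≠ ⊤ := by
  intro htop
  have hl : mk (lSL R) 0 0 ∈ Subgroup.normalizer (U R : Set (affineSub R)) := by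
    rw [htop]; exact Subgroup.mem_top _
  have h1 := (Subgroup.mem_set_normalizer_iff.mp hl (iota ⟨1, 0, 0⟩)).mp ⟨_, rfl⟩
  rw [SetLike.mem_coe, mem_U_iff] at h1
  obtain ⟨e1, e2, e3, e4, e5, e6⟩ := ent_iota (⟨1, 0, 0⟩ : H3 R)
  obtain ⟨i1, i2, i3, i4, i5, i6⟩ := ent_inv (mk (lSL R) 0 0)
  obtain ⟨f1, f2, f3, f4, f5, f6⟩ := ent_mk (lSL R) 0 0
  have h10 := h1.2.1
  simp only [ent_mul, ent_20, ent_21, ent_22, e1, e2, e3, e4, e5, e6, i1, i2, i3, i4, i5, i6,
    f1, f2, f3, f4, f5, f6] at h10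
  simp [lSL] at h10

section ZModp

variable {p : ℕ} [hp : Fact p.Prime]

theorem natCast_val_mul (t c : ZMod p) (hc : c ≠ 0) : (((t / c).val : ℕ) : ZMod p) * c = t := by
  have : NeZero p := ⟨hp.out.ne_zero⟩
  rw [ZMod.natCast_zmod_val]
  field_simp

namespace H3

/-- A nontrivial normal subgroup of the Heisenberg group over `ZMod p` contains the centre. -/
theorem ZH_le_of_normal (K : Subgroup (H3 (ZMod p))) [hK : K.Normal] (hne : K ≠ ⊥) :
    ZH (ZMod p) ≤ K := by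
  -- a nonzero central element of K
  have key : ∃ z ∈ K, z.a = 0 ∧ z.b = 0 ∧ z.c ≠ 0 := by
    obtain ⟨⟨k, hk⟩, hk1⟩ := (Subgroup.ne_bot_iff_exists_ne_one).mp hne
    have hk1' : k ≠ 1 := fun h => hk1 (Subtype.ext h)
    have hcomm : ∀ u : H3 (ZMod p), (⟨0, 0, k.a * u.b - u.a * k.b⟩ : H3 (ZMod p)) ∈ K := by
      intro u
      rw [← comm_eq]
      exact K.mul_mem hk (hK.conj_mem _ (K.inv_mem hk) u)
    by_cases ha : k.a = 0
    · by_cases hb : k.b = 0
      · refine ⟨k, hk, ha, hb, ?_⟩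
        intro hc
        apply hk1'
        ext
        · exact ha
        · exact hb
        · exact hc
      · refine ⟨_, hcomm ⟨1, 0, 0⟩, rfl, rfl, ?_⟩
        simpa using hb
    · refine ⟨_, hcomm ⟨0, 1, 0⟩, rfl, rfl, ?_⟩
      simpa using ha
  obtain ⟨z, hz, hza, hzb, hzc⟩ := key
  intro x hx
  obtain ⟨hxa, hxb⟩ := hx
  have : x = z ^ (x.c / z.c).val := by
    ext
    · rw [pow_a, hza, hxa]; simp
    · rw [pow_b, hzb, hxb]; simp
    · rw [pow_c_of_a z hza, natCast_val_mul _ _ hzc]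
  rw [this]
  exact K.pow_mem hz _

/-- If `K` contains the centre and an element `(0, b, c)` with `b ≠ 0`, it contains all translations. -/
theorem VH_le_of_mem (K : Subgroup (H3 (ZMod p))) (hZ : ZH (ZMod p) ≤ K)
    (k : H3 (ZMod p)) (hk : k ∈ K) (hka : k.a = 0) (hkb : k.b ≠ 0) : VH (ZMod p) ≤ K := by
  intro x (hx : x.a = 0)
  set n := (x.b / k.b).val with hn
  have h1 : x = k ^ n * ⟨0, 0, x.c - n * k.c⟩ := by
    ext
    · rw [mul_a, pow_a, hka, hx]; simp
    · rw [mul_b, pow_b, hn, natCast_val_mul _ _ hkb]; simp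
    · rw [mul_c, pow_c_of_a k hka, pow_a, hka]; simp
  rw [h1]
  exact K.mul_mem (K.pow_mem hk _) (hZ ⟨rfl, rfl⟩)

/-- A subgroup containing the translations and stable under `theta` is everything. -/
theorem eq_top_of_VH_le (K : Subgroup (H3 R)) (hV : VH R ≤ K)
    (hθ : ∀ x ∈ K, theta x ∈ K) : K = ⊤ := by
  rw [eq_top_iff]
  intro x _
  have h1 : (⟨x.a, 0, 0⟩ : H3 R) ∈ K := by
    have : (⟨x.a, 0, 0⟩ : H3 R) = theta ⟨0, -x.a, 0⟩ := by
      ext <;> simp
    rw [this]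
    exact hθ _ (hV rfl)
  have h2 : (⟨0, x.b, x.c - x.a * x.b⟩ : H3 R) ∈ K := hV rfl
  have : x = ⟨x.a, 0, 0⟩ * ⟨0, x.b, x.c - x.a * x.b⟩ := by
    ext <;> simp
  rw [this]
  exact K.mul_mem h1 h2

/-- The dichotomy for nontrivial characteristic subgroups of the Heisenberg group over `ZMod p`. -/
theorem char_cases (K : Subgroup (H3 (ZMod p))) [hK : K.Characteristic] (hne : K ≠ ⊥) :
    ZH (ZMod p) ≤ K ∧ (K = ⊤ ∨ ∀ k ∈ K, k.a = 0 → k.b = 0) := by
  have hZ := ZH_le_of_normal K hne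
  refine ⟨hZ, ?_⟩
  by_cases h : ∀ k ∈ K, k.a = 0 → k.b = 0
  · exact Or.inr h
  · left
    push Not at h
    obtain ⟨k, hk, hka, hkb⟩ := h
    apply eq_top_of_VH_le K (VH_le_of_mem K hZ k hk hka hkb)
    intro x hx
    have := hK.fixed theta
    rw [← this] at hx
    exact hx

end H3

/-! ### The standard Sylow subgroup of `Qd(p)` -/

instance : Finite (affineSub (ZMod p)) := by
  have : NeZero p := ⟨hp.out.ne_zero⟩
  infer_instance

theorem card_affineSub_zmod : Nat.card (affineSub (ZMod p)) = p ^ 3 * (p ^ 2 - 1) := by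
  have : NeZero p := ⟨hp.out.ne_zero⟩
  rw [card_affineSub, Cfsg.Agent.Lib.Helper5_PSLCard.card_SL_two, ZMod.card, Nat.card_zmod]
  ring

theorem factorization_card_affineSub : (Nat.card (affineSub (ZMod p))).factorization p = 3 := by
  have hp2 := hp.out.two_le
  have h1 : p ^ 2 - 1 ≠ 0 := by
    have : 4 ≤ p ^ 2 := by nlinarith
    omega
  have h2 : ¬ p ∣ p ^ 2 - 1 := by
    intro hd
    have h3 : p ∣ p ^ 2 := dvd_pow_self p (by norm_num)
    have h4 : p ∣ p ^ 2 - (p ^ 2 - 1) := Nat.dvd_sub h3 hd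
    have h5 : p ^ 2 - (p ^ 2 - 1) = 1 := by
      have : 4 ≤ p ^ 2 := by nlinarith
      omega
    rw [h5] at h4
    exact hp.out.one_lt.ne' (Nat.dvd_one.mp h4)
  rw [card_affineSub_zmod, Nat.factorization_mul (pow_ne_zero 3 hp.out.ne_zero) h1,
    Finsupp.add_apply, hp.out.factorization_pow, Nat.factorization_eq_zero_of_not_dvd h2]
  simp

/-- The standard Sylow `p`-subgroup of `Qd(p)`. -/
noncomputable def USyl (p : ℕ) [hp : Fact p.Prime] : Sylow p (affineSub (ZMod p)) :=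
  Sylow.ofCard (U (ZMod p)) (by
    have : NeZero p := ⟨hp.out.ne_zero⟩
    rw [card_U, Nat.card_zmod, factorization_card_affineSub])

theorem coe_USyl : ((USyl p : Sylow p (affineSub (ZMod p))) : Subgroup (affineSub (ZMod p))) =
    U (ZMod p) := rfl

theorem map_iota_inf_transl (K : Subgroup (H3 R)) (hZ : H3.ZH R ≤ K)
    (h : ∀ k ∈ K, k.a = 0 → k.b = 0) : K.map iota ⊓ transl R = Zc R := by
  apply le_antisymm
  · rintro y ⟨⟨k, hk, rfl⟩, hy⟩
    have ha := (iota_mem_transl_iff k).mp hy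
    exact ⟨k, ⟨ha, h k hk ha⟩, rfl⟩
  · rintro y ⟨z, hz, rfl⟩
    exact ⟨⟨z, hZ hz, rfl⟩, (iota_mem_transl_iff z).mpr hz.1⟩

theorem normalizer_map_iota_le (K : Subgroup (H3 (ZMod p))) [hK : K.Characteristic] (hne : K ≠ ⊥) :
    Subgroup.normalizer ((K.map iota : Subgroup (affineSub (ZMod p))) : Set (affineSub (ZMod p))) ≤
      Subgroup.normalizer (U (ZMod p) : Set (affineSub (ZMod p))) := by
  obtain ⟨hZ, h | h⟩ := H3.char_cases K hne
  · rw [h, ← MonoidHom.range_eq_map]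
    exact le_of_eq rfl
  · have h1 := map_iota_inf_transl K hZ h
    have h2 : Subgroup.normalizer ((transl (ZMod p) : Subgroup (affineSub (ZMod p))) :
        Set (affineSub (ZMod p))) = ⊤ := by
      have hn := transl_normal (R := ZMod p)
      exact Subgroup.normalizer_eq_top (H := transl (ZMod p))
    have h3 := Subgroup.inf_normalizer_le_normalizer_inf (H := K.map iota) (K := transl (ZMod p))
    rw [h2, inf_top_eq, h1] at h3
    exact h3.trans normalizer_Zc_le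

end ZModp

end Cfsg.Agent.Lib.Helper46_Qd3
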