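import Cfsg.Agent.S0653
import Cfsg.Agent.Lib.Helper32_PGroup
import Cfsg.Agent.Lib.Helper46_Qd3

/-!
# `Z(J(T))` does not control strong fusion in `Qd(p)` (helper11)

An abstract criterion (`not_controls`) and its verification for the affine group
`affineSub F` over a finite field (in particular for `Qd(p)`), transported along an isomorphism
(`exists_sylow_not_controls`).
-/

set_option autoImplicit false
set_option linter.unusedSimpArgs false

namespace Cfsg.Agent.Lib.Helper11_QdFusion

open Cfsg Cfsg.Agent.Lib.Helper11_ZJ Cfsg.Agent.S0653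

section abstract

variable {Y : Type*} [Group Y]

/-- an element of `T` centralizing an abelian subgroup of `T` of largest order lies in it -/
theorem mem_of_mem_maxFam {T A' : Subgroup Y} [Finite Y] (hA' : A' ∈ maxFam PrAb T) (x : Y)
    (hxT : x ∈ T) (hx : x ∈ Subgroup.centralizer (A' : Set Y)) : x ∈ A' := by
  have hA'c : IsMulCommutative A' := hA'.2.1
  have hcomm : ∀ y ∈ (A' : Set Y) ∪ {x}, ∀ z ∈ (A' : Set Y) ∪ {x}, y * z = z * y := by
    intro y hy z hz
    rcases hy with hy | hy <;> rcases hz with hz | hz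
    · exact congrArg Subtype.val (mul_comm' (⟨y, hy⟩ : A') ⟨z, hz⟩)
    · rw [Set.mem_singleton_iff] at hz; subst hz
      exact hx y hy
    · rw [Set.mem_singleton_iff] at hy; subst hy
      exact (hx z hz).symm
    · rw [Set.mem_singleton_iff] at hy hz; subst hy; subst hz; rfl
  have hB : IsMulCommutative (Subgroup.closure ((A' : Set Y) ∪ {x})) :=
    Subgroup.isMulCommutative_closure hcomm
  have hle : A' ≤ Subgroup.closure ((A' : Set Y) ∪ {x}) := fun y hy =>
    Subgroup.subset_closure (Or.inl hy)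
  have hBT : Subgroup.closure ((A' : Set Y) ∪ {x}) ≤ T := by
    rw [Subgroup.closure_le]
    rintro y (hy | hy)
    · exact hA'.1 hy
    · rw [Set.mem_singleton_iff] at hy; subst hy; exact hxT
  have hcard := hA'.2.2 _ hBT hB
  have := Subgroup.eq_of_le_of_card_ge hle hcard
  rw [this]
  exact Subgroup.subset_closure (Or.inr rfl)

/-- **Abstract criterion**: `V` a normal self-centralizing `p`-subgroup of `Y` on whose nontrivial
elements `Y` acts transitively, `A` an abelian `p`-subgroup not contained in `V` of order at least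
`|V|`. Then for a Sylow `p`-subgroup `T` containing `A`, `Z(J(T))` does not control strong fusion
in `Y`. -/
theorem not_controls [Finite Y] {p : ℕ} [Fact p.Prime] (V A : Subgroup Y) [hVn : V.Normal]
    (hVp : IsPGroup p V) (hCV : Subgroup.centralizer (V : Set Y) ≤ V)
    (htrans : ∀ v ∈ V, v ≠ 1 → ∀ w ∈ V, w ≠ 1 → ∃ g : Y, g * v * g⁻¹ = w)
    (hAp : IsPGroup p A) (hAc : IsMulCommutative A) (hcard : Nat.card V ≤ Nat.card A)
    (hAV : ¬ A ≤ V) :
    ∃ T : Sylow p Y, ¬ ControlsStrongFusion p (centerThompsonAOf (T : Subgroup Y)) := by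
  obtain ⟨T, hAT⟩ := hAp.exists_le_sylow
  refine ⟨T, ?_⟩
  have hVsyl : ∀ T' : Sylow p Y, V ≤ (T' : Subgroup Y) := fun T' =>
    (Cfsg.Agent.Lib.Helper1_Cores.le_pCore hVn hVp).trans
      (Cfsg.Agent.Lib.Helper1_Cores.pCore_le_sylow p T')
  have hVT := hVsyl T
  rw [centerThompsonAOf_eq]
  set Z := W PrAb (T : Subgroup Y) with hZ
  obtain ⟨A₁, hA₁⟩ := maxFam_nonempty (Pr := PrAb)
    (inferInstance : IsMulCommutative (⊥ : Subgroup Y)) (T : Subgroup Y)
  -- `V ≠ 1`
  have hVne : V ≠ ⊥ := by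
    intro h
    apply hAV
    intro a _
    apply hCV
    rw [h, Subgroup.mem_centralizer_iff]
    intro x hx
    have : x = 1 := by simpa using hx
    rw [this]; simp
  -- a nontrivial element of `Z ⊓ V`
  obtain ⟨v, hvV, hvZ, hv1⟩ : ∃ v ∈ V, v ∈ Z ∧ v ≠ 1 := by
    have hn : (V.subgroupOf (T : Subgroup Y)).Normal := inferInstance
    have hne : V.subgroupOf (T : Subgroup Y) ≠ ⊥ := by
      intro h
      apply hVne
      rw [eq_bot_iff]
      intro d hd
      have : (⟨d, hVT hd⟩ : ↥(T : Subgroup Y)) ∈ V.subgroupOf (T : Subgroup Y) := by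
        rw [Subgroup.mem_subgroupOf]; exact hd
      rw [h, Subgroup.mem_bot] at this
      rw [Subgroup.mem_bot]
      exact congrArg Subtype.val this
    obtain ⟨z, hzN, hzc, hz1⟩ := Cfsg.Agent.Lib.Helper32_PGroup.exists_mem_center_of_normal
      (p := p) (T.isPGroup') (V.subgroupOf (T : Subgroup Y)) hne
    refine ⟨(z : Y), Subgroup.mem_subgroupOf.mp hzN, ?_, ?_⟩
    · rw [hZ, W, Subgroup.mem_sInf]
      intro A' hA'
      apply mem_of_mem_maxFam hA' (z : Y) z.2
      rw [Subgroup.mem_centralizer_iff]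
      intro a ha
      have := Subgroup.mem_center_iff.mp hzc ⟨a, hA'.1 ha⟩
      exact congrArg Subtype.val this
    · intro h
      apply hz1
      exact Subtype.ext h
  -- `V ≰ Z`
  have hVZ : ¬ V ≤ Z := by
    intro hVZ
    have hle : ∀ A' ∈ maxFam PrAb (T : Subgroup Y), A' ≤ V := by
      intro A' hA' a ha
      apply hCV
      rw [Subgroup.mem_centralizer_iff]
      intro x hx
      have hxA' : x ∈ A' := (W_le_of_mem hA') (hVZ hx)
      have hA'c : IsMulCommutative A' := hA'.2.1
      exact congrArg Subtype.val (mul_comm' (⟨x, hxA'⟩ : A') ⟨a, ha⟩)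
    have h1 : Nat.card A₁ ≤ Nat.card V := Subgroup.card_le_of_le (hle A₁ hA₁)
    have hAmem : A ∈ maxFam PrAb (T : Subgroup Y) := by
      refine ⟨hAT, hAc, ?_⟩
      intro A'' hA''T hA''
      exact (hA₁.2.2 A'' hA''T hA'').trans (h1.trans hcard)
    exact hAV (hle A hAmem)
  obtain ⟨w, hwV, hwZ⟩ := SetLike.not_le_iff_exists.mp hVZ
  have hw1 : w ≠ 1 := by
    intro h
    apply hwZ
    rw [h]; exact Subgroup.one_mem _
  obtain ⟨g, hg⟩ := htrans v hvV hv1 w hwV hw1
  rintro ⟨T', _, hctl⟩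
  have hvT' : ({v} : Set Y) ⊆ ((T' : Subgroup Y) : Set Y) := by
    intro a ha
    rw [Set.mem_singleton_iff] at ha
    rw [ha]; exact hVsyl T' hvV
  obtain ⟨_, h2⟩ := hctl {v} hvT'
  obtain ⟨x, hx, hxv⟩ := h2 g (by
    rintro _ ⟨a, ha, rfl⟩
    rw [Set.mem_singleton_iff] at ha
    show g * a * g⁻¹ ∈ ((T' : Subgroup Y) : Set Y)
    rw [ha, hg]; exact hVsyl T' hwV)
  have h3 := hxv v rfl
  rw [hg] at h3
  apply hwZ
  rw [h3]
  exact (Subgroup.mem_normalizer_iff.mp hx v).mp hvZ

end abstract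

section transport

variable {X Y : Type*} [Group X] [Group Y]

/-- the abstract criterion transported along an isomorphism -/
theorem not_controls_of_equiv [Finite Y] {p : ℕ} [Fact p.Prime] (e : Y ≃* X) (V A : Subgroup X)
    [hVn : V.Normal] (hVp : IsPGroup p V) (hCV : Subgroup.centralizer (V : Set X) ≤ V)
    (htrans : ∀ v ∈ V, v ≠ 1 → ∀ w ∈ V, w ≠ 1 → ∃ g : X, g * v * g⁻¹ = w)
    (hAp : IsPGroup p A) (hAc : IsMulCommutative A) (hcard : Nat.card V ≤ Nat.card A)
    (hAV : ¬ A ≤ V) :
    ∃ T : Sylow p Y, ¬ ControlsStrongFusion p (centerThompsonAOf (T : Subgroup Y)) := by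
  have hVn' : (V.comap e.toMonoidHom).Normal := Subgroup.Normal.comap hVn _
  apply not_controls (V.comap e.toMonoidHom) (A.comap e.toMonoidHom)
  · exact hVp.comap_of_injective e.toMonoidHom e.injective
  · intro y hy
    rw [Subgroup.mem_centralizer_iff] at hy
    show e y ∈ V
    apply hCV
    rw [Subgroup.mem_centralizer_iff]
    intro t ht
    have h1 : e.symm t ∈ V.comap e.toMonoidHom := by
      show e (e.symm t) ∈ V
      rw [e.apply_symm_apply]; exact ht
    have h2 := congrArg e (hy _ h1)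
    rw [map_mul, map_mul, e.apply_symm_apply] at h2
    exact h2
  · intro v hv hv1 w hw hw1
    have hv1' : e v ≠ 1 := fun h => hv1 (by rw [← e.symm_apply_apply v, h, map_one])
    have hw1' : e w ≠ 1 := fun h => hw1 (by rw [← e.symm_apply_apply w, h, map_one])
    obtain ⟨g, hg⟩ := htrans (e v) hv hv1' (e w) hw hw1'
    refine ⟨e.symm g, ?_⟩
    apply e.injective
    rw [map_mul, map_mul, map_inv, e.apply_symm_apply]
    exact hg
  · exact hAp.comap_of_injective e.toMonoidHom e.injective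
  · refine ⟨⟨?_⟩⟩
    rintro ⟨a, ha⟩ ⟨b, hb⟩
    apply Subtype.ext
    apply e.injective
    show e (a * b) = e (b * a)
    rw [map_mul, map_mul]
    exact congrArg Subtype.val (mul_comm' (⟨e a, ha⟩ : A) ⟨e b, hb⟩)
  · rw [Subgroup.comap_equiv_eq_map_symm', Subgroup.comap_equiv_eq_map_symm',
      Subgroup.card_map_of_injective (f := e.symm.toMonoidHom) e.symm.injective,
      Subgroup.card_map_of_injective (f := e.symm.toMonoidHom) e.symm.injective]
    exact hcard
  · intro h
    apply hAV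
    intro a ha
    have h1 : e.symm a ∈ A.comap e.toMonoidHom := by
      show e (e.symm a) ∈ A
      rw [e.apply_symm_apply]; exact ha
    have h2 : e (e.symm a) ∈ V := h h1
    rwa [e.apply_symm_apply] at h2

end transport

section qd

open Matrix Cfsg.Agent.Lib.Helper46_Qd Cfsg.Agent.Lib.Helper46_Qd2 Cfsg.Agent.Lib.Helper46_Qd3

variable {R : Type*} [CommRing R]

theorem ent_mk1 (a b : R) :
    ent (mk (1 : Matrix.SpecialLinearGroup (Fin 2) R) a b) 0 0 = 1 ∧
    ent (mk (1 : Matrix.SpecialLinearGroup (Fin 2) R) a b) 0 1 = 0 ∧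
    ent (mk (1 : Matrix.SpecialLinearGroup (Fin 2) R) a b) 0 2 = a ∧
    ent (mk (1 : Matrix.SpecialLinearGroup (Fin 2) R) a b) 1 0 = 0 ∧
    ent (mk (1 : Matrix.SpecialLinearGroup (Fin 2) R) a b) 1 1 = 1 ∧
    ent (mk (1 : Matrix.SpecialLinearGroup (Fin 2) R) a b) 1 2 = b := by
  obtain ⟨e1, e2, e3, e4, e5, e6⟩ := ent_mk (1 : Matrix.SpecialLinearGroup (Fin 2) R) a b
  refine ⟨?_, ?_, e3, ?_, ?_, e6⟩
  · rw [e1]; simp
  · rw [e2]; simp
  · rw [e4]; simp
  · rw [e5]; simp

/-- the translation subgroup is self-centralizing -/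
theorem centralizer_transl_le :
    Subgroup.centralizer ((transl R : Subgroup (affineSub R)) : Set (affineSub R)) ≤ transl R := by
  intro M hM
  rw [Subgroup.mem_centralizer_iff] at hM
  have h1 := hM (mk 1 1 0) (transl_mk_mem 1 0)
  have h2 := hM (mk 1 0 1) (transl_mk_mem 0 1)
  obtain ⟨a1, a2, a3, a4, a5, a6⟩ := ent_mk1 (1 : R) 0
  obtain ⟨b1, b2, b3, b4, b5, b6⟩ := ent_mk1 (0 : R) 1
  have c2 := ent_22 M
  have e1 := congrArg (fun N => ent N 0 2) h1
  have e2 := congrArg (fun N => ent N 1 2) h1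
  have e3 := congrArg (fun N => ent N 0 2) h2
  have e4 := congrArg (fun N => ent N 1 2) h2
  simp only [ent_mul, a1, a2, a3, a4, a5, a6, b1, b2, b3, b4, b5, b6, c2, ent_22] at e1 e2 e3 e4
  rw [mem_transl_iff]
  refine ⟨?_, ?_, ?_, ?_⟩
  · linear_combination -e1
  · linear_combination -e3
  · linear_combination -e2
  · linear_combination -e4

/-- every nontrivial translation is conjugate to the translation by `e₁` -/
theorem exists_conj_eq_of_mem_transl {F : Type*} [Field F] (v : affineSub F) (hv : v ∈ transl F)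
    (hv1 : v ≠ 1) : ∃ g : affineSub F, g * mk 1 1 0 * g⁻¹ = v := by
  have hv' := (mem_transl_iff v).mp hv
  obtain ⟨h1, h2, h3, h4⟩ := hv'
  have hu : (![ent v 0 2, ent v 1 2] : Fin 2 → F) ≠ 0 := by
    intro h
    apply hv1
    have h5 : ent v 0 2 = 0 := by
      have := congrFun h 0
      simpa using this
    have h6 : ent v 1 2 = 0 := by
      have := congrFun h 1
      simpa using this
    apply ext_ent <;> simp [ent_one, h1, h2, h3, h4, h5, h6]
  obtain ⟨g, hg⟩ := Cfsg.Agent.Lib.Helper46_SL2.exists_smul_e1 _ hu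
  rw [Cfsg.Agent.Lib.Helper46_SL2.smul_eq_mulVec] at hg
  have hg0 : (g : Matrix (Fin 2) (Fin 2) F) 0 0 = ent v 0 2 := by
    have := congrFun hg 0
    simpa [Matrix.mulVec, dotProduct, Fin.sum_univ_two] using this
  have hg1 : (g : Matrix (Fin 2) (Fin 2) F) 1 0 = ent v 1 2 := by
    have := congrFun hg 1
    simpa [Matrix.mulVec, dotProduct, Fin.sum_univ_two] using this
  refine ⟨mk g 0 0, ?_⟩
  rw [mul_inv_eq_iff_eq_mul]
  obtain ⟨a1, a2, a3, a4, a5, a6⟩ := ent_mk1 (1 : F) 0
  obtain ⟨b1, b2, b3, b4, b5, b6⟩ := ent_mk g (0 : F) 0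
  have c0 := ent_20 v
  have c1 := ent_21 v
  have c2 := ent_22 v
  have d0 := ent_20 (mk g (0 : F) 0)
  have d1 := ent_21 (mk g (0 : F) 0)
  have d2 := ent_22 (mk g (0 : F) 0)
  have f0 := ent_20 (mk (1 : Matrix.SpecialLinearGroup (Fin 2) F) (1 : F) 0)
  have f1 := ent_21 (mk (1 : Matrix.SpecialLinearGroup (Fin 2) F) (1 : F) 0)
  have f2 := ent_22 (mk (1 : Matrix.SpecialLinearGroup (Fin 2) F) (1 : F) 0)
  apply ext_ent <;>
    simp only [ent_mul, a1, a2, a3, a4, a5, a6, b1, b2, b3, b4, b5, b6, c0, c1, c2, d0, d1, d2,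
      f0, f1, f2, h1, h2, h3, h4, hg0, hg1] <;> ring

/-- transitivity on the nontrivial translations -/
theorem transl_trans {F : Type*} [Field F] : ∀ v ∈ transl F, v ≠ 1 → ∀ w ∈ transl F, w ≠ 1 →
    ∃ g : affineSub F, g * v * g⁻¹ = w := by
  intro v hv hv1 w hw hw1
  obtain ⟨g₁, hg₁⟩ := exists_conj_eq_of_mem_transl v hv hv1
  obtain ⟨g₂, hg₂⟩ := exists_conj_eq_of_mem_transl w hw hw1
  refine ⟨g₂ * g₁⁻¹, ?_⟩
  rw [← hg₁, ← hg₂]
  group

/-- the abelian subgroup `{[[1, a, c], [0, 1, 0], [0, 0, 1]]}` as the image of a homomorphism -/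
def abHom (R : Type*) [CommRing R] : Multiplicative (R × R) →* affineSub R :=
  (iota (R := R)).comp
    { toFun := fun x => (⟨(Multiplicative.toAdd x).1, 0, (Multiplicative.toAdd x).2⟩ : H3 R)
      map_one' := rfl
      map_mul' := fun x y => by
        apply H3.ext <;> simp }

theorem abHom_injective : Function.Injective (abHom R) := by
  intro x y h
  have h' := iota_injective h
  have h1 := congrArg H3.a h'
  have h2 := congrArg H3.c h'
  have h3 : Multiplicative.toAdd x = Multiplicative.toAdd y := Prod.ext h1 h2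
  exact h3

theorem card_abHom_range : Nat.card (abHom R).range = Nat.card R ^ 2 := by
  rw [← Nat.card_congr (MonoidHom.ofInjective (abHom_injective (R := R))).toEquiv]
  have : Nat.card (Multiplicative (R × R)) = Nat.card (R × R) := rfl
  rw [this, Nat.card_prod, sq]

theorem card_transl [Finite R] : Nat.card (transl R) = Nat.card R ^ 2 := by
  have h1 : Nat.card (transl R) = Nat.card (Fin 2 → R) :=
    Nat.card_congr ((Additive.ofMul).trans (translEquiv (R := R)).toEquiv)
  rw [h1, Nat.card_fun, Nat.card_fin]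

theorem abHom_range_comm : IsMulCommutative (abHom R).range := by
  refine ⟨⟨?_⟩⟩
  rintro ⟨_, x, rfl⟩ ⟨_, y, rfl⟩
  apply Subtype.ext
  show abHom R x * abHom R y = abHom R y * abHom R x
  rw [← map_mul, ← map_mul, mul_comm]

theorem abHom_range_not_le [Nontrivial R] : ¬ (abHom R).range ≤ transl R := by
  intro h
  have h1 : abHom R (Multiplicative.ofAdd ((1 : R), (0 : R))) ∈ transl R := h ⟨_, rfl⟩
  have h2 : iota (⟨1, 0, 0⟩ : H3 R) ∈ transl R := h1
  rw [iota_mem_transl_iff] at h2
  exact one_ne_zero h2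

/-- **`Z(J(T))` does not control strong fusion in a group isomorphic to `Qd(p)`**, for a suitable
Sylow `p`-subgroup `T`. -/
theorem exists_sylow_not_controls {Y : Type*} [Group Y] [Finite Y] (p : ℕ) [Fact p.Prime]
    (e : Y ≃* ↥(Cfsg.qd p)) :
    ∃ T : Sylow p Y, ¬ ControlsStrongFusion p (centerThompsonAOf (T : Subgroup Y)) := by
  have e' : Y ≃* ↥(affineSub (ZMod p)) := e.trans (MulEquiv.subgroupCongr (qd_eq p))
  have hVn : (transl (ZMod p)).Normal := transl_normal
  have hcardR : Nat.card (ZMod p) = p := Nat.card_zmod p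
  apply not_controls_of_equiv e' (transl (ZMod p)) (abHom (ZMod p)).range
  · exact isPGroup_transl
  · exact centralizer_transl_le
  · exact transl_trans
  · apply IsPGroup.of_card (n := 2)
    rw [card_abHom_range, hcardR]
  · exact abHom_range_comm
  · rw [card_transl, card_abHom_range]
  · exact abHom_range_not_le

end qd

end Cfsg.Agent.Lib.Helper11_QdFusion
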