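import Cfsg.Agent.Lib.Helper11_ZJ
import Cfsg.Prelude.Def_LocalEven

/-!
# Glauberman's ZJ-theorem for strongly closed subgroups, generic form (helper11)

`D ≤ S` strongly closed in the Sylow `p`-subgroup `S` with respect to `G`; `W Pr D` is the
intersection of the subgroups of `D` with `Pr` of the largest order. If the family has the
replacement property (for `D` normal in `S`), `C_G(O_p(G)) ≤ O_p(G)`, and `G` acts `p`-stably on
its normal `p`-subgroups, then `W Pr D` is normal in `G`.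
-/

set_option autoImplicit false

namespace Cfsg.Agent.Lib.Helper11_ZJ2

open Cfsg Cfsg.Agent.Lib.Helper34_Sylow Cfsg.Agent.Lib.Helper11_ZJ

variable {G : Type*} [Group G]

open scoped commutatorElement

/-- hypotheses on the property defining the family, with the replacement property for subgroups
`D` normal in a Sylow subgroup -/
structure AdmissibleD (p : ℕ) (Pr : Subgroup G → Prop) : Prop where
  bot : Pr ⊥
  comm : ∀ A, Pr A → ∀ x ∈ A, ∀ y ∈ A, x * y = y * x
  map : ∀ (φ : G ≃* G) (A : Subgroup G), Pr A → Pr (A.map φ.toMonoidHom)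
  replace : ∀ (S : Sylow p G) (D B : Subgroup G), D ≤ (S : Subgroup G) →
    (S : Subgroup G) ≤ Subgroup.normalizer (D : Set G) → B ≤ (S : Subgroup G) →
    (S : Subgroup G) ≤ Subgroup.normalizer (B : Set G) → ⁅⁅B, B⁆, B⁆ = ⊥ →
    (∃ U ∈ maxFam Pr D, ⁅B, B⁆ ≤ U ∧ ¬ B ≤ U) →
    ∃ A ∈ maxFam Pr D, ¬ B ≤ A ∧ B ≤ Subgroup.normalizer (A : Set G)

/-- a subgroup `K` with `T`-conjugates of elements of `D ⊓ K` that stay in `T ⊓ K` ... : if `m`
normalizes `T ⊓ K` and `D` is strongly closed in `T`, then `m` normalizes `D ⊓ K`. -/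
theorem mem_normalizer_inf_of_stronglyClosed {T D K : Subgroup G} (hDT : D ≤ T)
    (hsc : ∀ x ∈ D, ∀ g : G, g * x * g⁻¹ ∈ T → g * x * g⁻¹ ∈ D) {m : G}
    (hm : m ∈ Subgroup.normalizer ((T ⊓ K : Subgroup G) : Set G)) :
    m ∈ Subgroup.normalizer ((D ⊓ K : Subgroup G) : Set G) := by
  have key : ∀ n ∈ Subgroup.normalizer ((T ⊓ K : Subgroup G) : Set G), ∀ x ∈ D ⊓ K,
      n * x * n⁻¹ ∈ D ⊓ K := by
    intro n hn x hx
    have h1 : n * x * n⁻¹ ∈ T ⊓ K :=
      (Subgroup.mem_normalizer_iff.mp hn x).mp ⟨hDT hx.1, hx.2⟩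
    exact ⟨hsc x hx.1 n h1.1, h1.2⟩
  rw [Subgroup.mem_normalizer_iff]
  intro x
  constructor
  · exact key m hm x
  · intro hx
    have := key m⁻¹ (Subgroup.inv_mem _ hm) _ hx
    have h2 : m⁻¹ * (m * x * m⁻¹) * m⁻¹⁻¹ = x := by group
    rwa [h2] at this

theorem le_normalizer_of_stronglyClosed {T D : Subgroup G} (hDT : D ≤ T)
    (hsc : ∀ x ∈ D, ∀ g : G, g * x * g⁻¹ ∈ T → g * x * g⁻¹ ∈ D) :
    T ≤ Subgroup.normalizer (D : Set G) := by
  intro s hs
  have key : ∀ n ∈ T, ∀ x ∈ D, n * x * n⁻¹ ∈ D := fun n hn x hx =>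
    hsc x hx n (T.mul_mem (T.mul_mem hn (hDT hx)) (T.inv_mem hn))
  rw [Subgroup.mem_normalizer_iff]
  intro x
  constructor
  · exact key s hs x
  · intro hx
    have := key s⁻¹ (T.inv_mem hs) _ hx
    have h2 : s⁻¹ * (s * x * s⁻¹) * s⁻¹⁻¹ = x := by group
    rwa [h2] at this

/-- the normal closure of a subset of `D ⊓ B` (with `B` normal, `B ≤ T`) stays inside `D`. -/
theorem normalClosure_le_of_stronglyClosed {T D B Z₁ : Subgroup G} [hB : B.Normal] (hBT : B ≤ T)
    (hsc : ∀ x ∈ D, ∀ g : G, g * x * g⁻¹ ∈ T → g * x * g⁻¹ ∈ D) (hZD : Z₁ ≤ D) (hZB : Z₁ ≤ B) :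
    Subgroup.normalClosure ((Z₁ : Subgroup G) : Set G) ≤ D := by
  unfold Subgroup.normalClosure
  rw [Subgroup.closure_le]
  intro y hy
  rw [Group.mem_conjugatesOfSet_iff] at hy
  obtain ⟨x, hx, hxy⟩ := hy
  rw [isConj_iff] at hxy
  obtain ⟨c, rfl⟩ := hxy
  exact hsc x (hZD hx) c (hBT (hB.conj_mem x (hZB hx) c))

/-- The key claim: `W(D) ∩ B` is normal in `G` for every normal `p`-subgroup `B`. -/
theorem inf_normalD [Finite G] {p : ℕ} [Fact p.Prime] {Pr : Subgroup G → Prop}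
    (hPr : AdmissibleD p Pr) (S : Sylow p G) (D : Subgroup G) (hDS : D ≤ (S : Subgroup G))
    (hsc : ∀ x ∈ D, ∀ g : G, g * x * g⁻¹ ∈ (S : Subgroup G) → g * x * g⁻¹ ∈ D)
    (hst : ∀ B : Subgroup G, B.Normal → IsPGroup p B → StableOn p (S : Subgroup G) B) :
    ∀ (n : ℕ) (B : Subgroup G), B.Normal → IsPGroup p B → Nat.card B ≤ n →
      (W Pr D ⊓ B).Normal := by
  have hSD : (S : Subgroup G) ≤ Subgroup.normalizer (D : Set G) :=
    le_normalizer_of_stronglyClosed hDS hsc
  intro n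
  induction n with
  | zero =>
    intro B _ _ hcard
    exfalso
    have : 0 < Nat.card B := Nat.card_pos
    omega
  | succ n ih =>
    intro B hBn hBp hcard
    have hBS : B ≤ (S : Subgroup G) :=
      (Cfsg.Agent.Lib.Helper1_Cores.le_pCore hBn hBp).trans
        (Cfsg.Agent.Lib.Helper1_Cores.pCore_le_sylow p S)
    have hSB : (S : Subgroup G) ≤ Subgroup.normalizer (B : Set G) := by
      rw [Subgroup.normalizer_eq_top]; exact le_top
    have hZc : ∀ x ∈ W Pr D, ∀ y ∈ W Pr D, x * y = y * x := by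
      obtain ⟨A, hA⟩ := maxFam_nonempty hPr.bot D
      intro x hx y hy
      exact hPr.comm A hA.2.1 x (W_le_of_mem hA hx) y (W_le_of_mem hA hy)
    have hSZ₁ : ∀ s ∈ (S : Subgroup G), ∀ z ∈ W Pr D ⊓ B,
        s * z * s⁻¹ ∈ W Pr D ⊓ B := fun s hs z hz =>
      ⟨conj_mem_W hPr.map (hSD hs) hz.1, hBn.conj_mem z hz.2 s⟩
    have hB₁B : Subgroup.normalClosure ((W Pr D ⊓ B : Subgroup G) : Set G) ≤ B :=
      Subgroup.normalClosure_le_normal (fun z hz => (hz : z ∈ W Pr D ⊓ B).2)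
    have hZ₁B₁ : W Pr D ⊓ B ≤
        Subgroup.normalClosure ((W Pr D ⊓ B : Subgroup G) : Set G) :=
      Subgroup.le_normalClosure
    by_cases hlt : Subgroup.normalClosure ((W Pr D ⊓ B : Subgroup G) : Set G) = B
    swap
    · have hcard₁ : Nat.card (Subgroup.normalClosure
          ((W Pr D ⊓ B : Subgroup G) : Set G)) ≤ n := by
        have := card_lt_of_lt (lt_of_le_of_ne hB₁B hlt)
        omega
      have h1 := ih _ Subgroup.normalClosure_normal (hBp.to_le hB₁B) hcard₁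
      have h2 : W Pr D ⊓ Subgroup.normalClosure
          ((W Pr D ⊓ B : Subgroup G) : Set G) = W Pr D ⊓ B :=
        le_antisymm (inf_le_inf_left _ hB₁B) (le_inf inf_le_left hZ₁B₁)
      rwa [h2] at h1
    · by_cases hBbot : B = ⊥
      · rw [hBbot, inf_bot_eq]; infer_instance
      have hBD : B ≤ D := by
        have h1 : Subgroup.normalClosure ((W Pr D ⊓ B : Subgroup G) : Set G) ≤ D :=
          normalClosure_le_of_stronglyClosed hBS hsc
            (inf_le_left.trans (W_le hPr.bot D)) inf_le_right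
        rwa [hlt] at h1
      have hDlt : ⁅B, B⁆ < B := commutator_lt hBp hBbot
      have hDcard : Nat.card (⁅B, B⁆ : Subgroup G) ≤ n := by
        have := card_lt_of_lt hDlt
        omega
      have hD := ih ⁅B, B⁆ inferInstance (hBp.to_le hDlt.le) hDcard
      obtain ⟨hDZ, hcl2⟩ := class_two_aux hZc (fun b hb => hSZ₁ b (hBS hb)) hlt hD
      obtain ⟨L, hLn, hCL, hidx, hquad⟩ := hst B hBn hBp
      have hlem3 : ∀ A ∈ maxFam Pr D, B ≤ Subgroup.normalizer (A : Set G) → A ≤ L := by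
        intro A hA hBA a ha
        exact hquad a (hDS (hA.1 ha)) (quadratic_of_normalizes (hPr.comm A hA.2.1) hBA ha)
      have hex : ∃ A₀ ∈ maxFam Pr D, B ≤ Subgroup.normalizer (A₀ : Set G) := by
        by_cases h : ∃ U ∈ maxFam Pr D, ¬ B ≤ U
        · obtain ⟨U, hU, hBU⟩ := h
          obtain ⟨A, hA, _, hBA⟩ := hPr.replace S D B hDS hSD hBS hSB hcl2
            ⟨U, hU, hDZ.trans (W_le_of_mem hU), hBU⟩
          exact ⟨A, hA, hBA⟩
        · obtain ⟨A, hA⟩ := maxFam_nonempty hPr.bot D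
          refine ⟨A, hA, ?_⟩
          have hBA : B ≤ A := by
            by_contra hBA
            exact h ⟨A, hA, hBA⟩
          exact hBA.trans Subgroup.le_normalizer
      obtain ⟨A₀, hA₀, hBA₀⟩ := hex
      have hA₀S₁ : A₀ ≤ D ⊓ L := le_inf hA₀.1 (hlem3 A₀ hA₀ hBA₀)
      have hZX : W Pr D ≤ W Pr (D ⊓ L) :=
        W_le_W_restrict inf_le_left hA₀ hA₀S₁
      have hXB : (W Pr (D ⊓ L) ⊓ B).Normal := by
        apply normal_of_conj_mem
        intro g x hx
        have : (Subgroup.centralizer (B : Set G)).Normal := Subgroup.normal_centralizer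
        obtain ⟨c, hc, m, hm, rfl⟩ :=
          exists_mul_normalizer S (Subgroup.centralizer (B : Set G)) L hCL hidx g
        have hm' : m ∈ Subgroup.normalizer ((D ⊓ L : Subgroup G) : Set G) :=
          mem_normalizer_inf_of_stronglyClosed hDS hsc hm
        have h1 : m * x * m⁻¹ ∈ W Pr (D ⊓ L) ⊓ B :=
          ⟨conj_mem_W hPr.map hm' hx.1, hBn.conj_mem x hx.2 m⟩
        have h2 : c * (m * x * m⁻¹) * c⁻¹ = m * x * m⁻¹ := by
          have := Subgroup.mem_centralizer_iff.mp hc _ h1.2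
          rw [← this, mul_inv_cancel_right]
        have h3 : c * m * x * (c * m)⁻¹ = c * (m * x * m⁻¹) * c⁻¹ := by group
        rw [h3, h2]
        exact h1
      have hBX : B ≤ W Pr (D ⊓ L) := by
        have h1 : Subgroup.normalClosure ((W Pr D ⊓ B : Subgroup G) : Set G) ≤
            W Pr (D ⊓ L) ⊓ B :=
          Subgroup.normalClosure_le_normal (fun z hz =>
            ⟨hZX (hz : z ∈ W Pr D ⊓ B).1, (hz : z ∈ W Pr D ⊓ B).2⟩)
        rw [hlt] at h1
        exact h1.trans inf_le_left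
      have h5 : ∀ A ∈ maxFam Pr D, B ≤ Subgroup.normalizer (A : Set G) → B ≤ A := by
        intro A hA hBA
        have hAS₁ : A ≤ D ⊓ L := le_inf hA.1 (hlem3 A hA hBA)
        have hA' : A ∈ maxFam Pr (D ⊓ L) :=
          (mem_maxFam_restrict inf_le_left hA₀ hA₀S₁ A).mpr ⟨hA, hAS₁⟩
        exact hBX.trans (W_le_of_mem hA')
      have h6 : ∀ A ∈ maxFam Pr D, B ≤ A := by
        intro A₁ hA₁
        by_contra hBA₁
        obtain ⟨A, hA, hnBA, hBA⟩ := hPr.replace S D B hDS hSD hBS hSB hcl2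
          ⟨A₁, hA₁, hDZ.trans (W_le_of_mem hA₁), hBA₁⟩
        exact hnBA (h5 A hA hBA)
      have hBZ : B ≤ W Pr D := le_W_iff.mpr h6
      rw [inf_of_le_right hBZ]
      exact hBn

/-- **Generic ZJ-theorem for strongly closed subgroups**: `W(D)` is normal in `G`. -/
theorem W_normalD [Finite G] {p : ℕ} [Fact p.Prime] {Pr : Subgroup G → Prop}
    (hPr : AdmissibleD p Pr) (S : Sylow p G) (D : Subgroup G) (hDS : D ≤ (S : Subgroup G))
    (hsc : ∀ x ∈ D, ∀ g : G, g * x * g⁻¹ ∈ (S : Subgroup G) → g * x * g⁻¹ ∈ D)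
    (hc : Subgroup.centralizer (pCore p G : Set G) ≤ pCore p G)
    (hst : ∀ B : Subgroup G, B.Normal → IsPGroup p B → StableOn p (S : Subgroup G) B) :
    (W Pr D).Normal := by
  have hSD : (S : Subgroup G) ≤ Subgroup.normalizer (D : Set G) :=
    le_normalizer_of_stronglyClosed hDS hsc
  have hQn : (pCore p G).Normal := Cfsg.Agent.Lib.Helper1_Cores.pCore_normal p
  have hQp : IsPGroup p (pCore p G) := Cfsg.Agent.Lib.Helper1_Cores.pCore_isPGroup p
  have hQS : pCore p G ≤ (S : Subgroup G) := Cfsg.Agent.Lib.Helper1_Cores.pCore_le_sylow p S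
  have hZc : ∀ x ∈ W Pr D, ∀ y ∈ W Pr D, x * y = y * x := by
    obtain ⟨A, hA⟩ := maxFam_nonempty hPr.bot D
    intro x hx y hy
    exact hPr.comm A hA.2.1 x (W_le_of_mem hA hx) y (W_le_of_mem hA hy)
  -- `Z ≤ O_p(G)`
  have hZQ : W Pr D ≤ pCore p G := by
    obtain ⟨L, hLn, hCL, ⟨k, hk⟩, hquad⟩ := hst (pCore p G) hQn hQp
    have hLp : IsPGroup p L := by
      obtain ⟨j, hj⟩ := IsPGroup.iff_card.mp (hQp.to_le hc)
      apply IsPGroup.of_card (n := j + k)
      rw [← Cfsg.Agent.S0608.card_mul_relIndex' hCL, hj, hk, pow_add]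
    have hLQ : L ≤ pCore p G := Cfsg.Agent.Lib.Helper1_Cores.le_pCore hLn hLp
    intro z hz
    apply hLQ
    apply hquad z (hDS (W_le hPr.bot _ hz))
    have hzZ : Subgroup.zpowers z ≤ W Pr D := by
      rw [Subgroup.zpowers_le]; exact hz
    have h1 : ⁅pCore p G, Subgroup.zpowers z⁆ ≤ W Pr D := by
      rw [Subgroup.commutator_le]
      intro q hq x hx
      have h2 := conj_mem_W hPr.map (hSD (hQS hq)) (hzZ hx)
      rw [commutatorElement_def]
      exact Subgroup.mul_mem _ h2 (Subgroup.inv_mem _ (hzZ hx))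
    rw [eq_bot_iff]
    refine (Subgroup.commutator_mono h1 hzZ).trans ?_
    rw [Subgroup.commutator_le]
    intro x hx y hy
    rw [Subgroup.mem_bot, commutatorElement_def, hZc x hx y hy]
    group
  have h := inf_normalD hPr S D hDS hsc hst (Nat.card (pCore p G)) (pCore p G) hQn hQp le_rfl
  rwa [inf_of_le_left hZQ] at h

/-! ### Transport of the family along the inclusion of a subgroup -/

/-- the family of `D ≤ T` computed inside the group `↥T`, pushed to `G`, is the family of `D`. -/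
theorem image_maxFam_subgroupOf {T D : Subgroup G} {Pr : Subgroup G → Prop}
    {Pr' : Subgroup ↥T → Prop} (hPr : ∀ A' : Subgroup ↥T, Pr' A' ↔ Pr (A'.map T.subtype))
    (hDT : D ≤ T) :
    Set.image (fun A' : Subgroup ↥T => A'.map T.subtype) (maxFam Pr' (D.subgroupOf T)) =
      maxFam Pr D := by
  have hinj := T.subtype_injective
  ext U
  constructor
  · rintro ⟨A', ⟨h1, h2, h3⟩, rfl⟩
    refine ⟨?_, (hPr A').mp h2, ?_⟩
    · have := Subgroup.map_mono (f := T.subtype) h1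
      rwa [Subgroup.map_subgroupOf_eq_of_le hDT] at this
    · intro A'' hA''D hA''
      have hmap : (A''.subgroupOf T).map T.subtype = A'' :=
        Subgroup.map_subgroupOf_eq_of_le (hA''D.trans hDT)
      have h4 := h3 (A''.subgroupOf T) (Subgroup.subgroupOf_mono T hA''D)
        ((hPr _).mpr (by rw [hmap]; exact hA''))
      have h5 : Nat.card (A''.subgroupOf T) = Nat.card A'' := by
        rw [← hmap, Subgroup.card_map_of_injective hinj, hmap]
      have h6 : Nat.card (A'.map T.subtype) = Nat.card A' := Subgroup.card_map_of_injective hinj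
      rw [h6, ← h5]
      exact h4
  · rintro ⟨h1, h2, h3⟩
    have hmap : (U.subgroupOf T).map T.subtype = U :=
      Subgroup.map_subgroupOf_eq_of_le (h1.trans hDT)
    refine ⟨U.subgroupOf T, ⟨Subgroup.subgroupOf_mono T h1,
      (hPr _).mpr (by rw [hmap]; exact h2), ?_⟩, hmap⟩
    intro A' hA'D hA'
    have h4 : A'.map T.subtype ≤ D := by
      have := Subgroup.map_mono (f := T.subtype) hA'D
      rwa [Subgroup.map_subgroupOf_eq_of_le hDT] at this
    have h5 := h3 (A'.map T.subtype) h4 ((hPr A').mp hA')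
    have h6 : Nat.card (A'.map T.subtype) = Nat.card A' := Subgroup.card_map_of_injective hinj
    have h7 : Nat.card (U.subgroupOf T) = Nat.card U := by
      rw [← hmap, Subgroup.card_map_of_injective hinj, hmap]
    rw [h7, ← h6]
    exact h5

/-- transport of the replacement property for `D' = D.subgroupOf S` in the group `↥S`. -/
theorem replaceD_transport {p : ℕ} {Pr : Subgroup G → Prop}
    (S : Sylow p G) {Pr' : Subgroup ↥(S : Subgroup G) → Prop}
    (hPr : ∀ A' : Subgroup ↥(S : Subgroup G), Pr' A' ↔ Pr (A'.map (S : Subgroup G).subtype))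
    (hrep' : ∀ (D' : Subgroup ↥(S : Subgroup G)) [D'.Normal] (B' : Subgroup ↥(S : Subgroup G))
      [B'.Normal], ⁅⁅B', B'⁆, B'⁆ = ⊥ →
      (∃ U' ∈ maxFam Pr' D', ⁅B', B'⁆ ≤ U' ∧ ¬ B' ≤ U') →
      ∃ A' ∈ maxFam Pr' D', ⁅B', B'⁆ ≤ A' ∧ ¬ B' ≤ A' ∧
        B' ≤ Subgroup.normalizer (A' : Set ↥(S : Subgroup G)))
    (D B : Subgroup G) (hDS : D ≤ (S : Subgroup G))
    (hSD : (S : Subgroup G) ≤ Subgroup.normalizer (D : Set G)) (hBS : B ≤ (S : Subgroup G))
    (hSB : (S : Subgroup G) ≤ Subgroup.normalizer (B : Set G)) (hcl : ⁅⁅B, B⁆, B⁆ = ⊥)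
    (hex : ∃ U ∈ maxFam Pr D, ⁅B, B⁆ ≤ U ∧ ¬ B ≤ U) :
    ∃ A ∈ maxFam Pr D, ¬ B ≤ A ∧ B ≤ Subgroup.normalizer (A : Set G) := by
  have hDn : (D.subgroupOf (S : Subgroup G)).Normal :=
    (Subgroup.normal_subgroupOf_iff_le_normalizer hDS).mpr hSD
  rw [← image_maxFam_subgroupOf hPr hDS] at hex ⊢
  exact replace_transport (S : Subgroup G) (maxFam Pr' (D.subgroupOf (S : Subgroup G)))
    (fun B' _ hcl' hex' => hrep' (D.subgroupOf (S : Subgroup G)) B' hcl' hex')
    B hBS hSB hcl hex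

/-! ### `p`-stability in the normalizer sense gives `StableOn` -/

theorem stableOn_of_isNormalizerPStable [Finite G] {p : ℕ} [Fact p.Prime]
    (hst : Cfsg.IsNormalizerPStable p G) (S B : Subgroup G) [hBn : B.Normal]
    (hBp : IsPGroup p B) : StableOn p S B := by
  have hNtop : Subgroup.normalizer (B : Set G) = ⊤ := Subgroup.normalizer_eq_top B
  set N := Subgroup.normalizer (B : Set G) with hN
  set C' := (Subgroup.centralizer (B : Set G)).subgroupOf N with hC'
  have hCN : Subgroup.centralizer (B : Set G) ≤ N := by rw [hNtop]; exact le_top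
  have hC'n : C'.Normal := by
    have : (Subgroup.centralizer (B : Set G)).Normal := Subgroup.normal_centralizer
    exact Subgroup.Normal.subgroupOf this N
  have hQp : IsPGroup p (pCore p (↥N ⧸ C')) := Cfsg.Agent.Lib.Helper1_Cores.pCore_isPGroup p
  have hQn : (pCore p (↥N ⧸ C')).Normal := Cfsg.Agent.Lib.Helper1_Cores.pCore_normal p
  set L' := (pCore p (↥N ⧸ C')).comap (QuotientGroup.mk' C') with hL'
  have hL'n : L'.Normal := Subgroup.Normal.comap hQn _
  have hC'L' : C' ≤ L' := by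
    have := Subgroup.ker_le_comap (QuotientGroup.mk' C') (pCore p (↥N ⧸ C'))
    rwa [QuotientGroup.ker_mk'] at this
  have hmapC : C'.map N.subtype = Subgroup.centralizer (B : Set G) :=
    Subgroup.map_subgroupOf_eq_of_le hCN
  refine ⟨L'.map N.subtype, ?_, ?_, ?_, ?_⟩
  · apply normal_of_conj_mem
    rintro g _ ⟨x, hx, rfl⟩
    have hg : g ∈ N := by rw [hNtop]; exact Subgroup.mem_top g
    exact ⟨⟨g, hg⟩ * x * ⟨g, hg⟩⁻¹, hL'n.conj_mem x hx ⟨g, hg⟩, rfl⟩
  · rw [← hmapC]
    exact Subgroup.map_mono hC'L'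
  · obtain ⟨k, hk⟩ := IsPGroup.iff_card.mp hQp
    refine ⟨k, ?_⟩
    have h1 := Subgroup.relIndex_comap (⊥ : Subgroup (↥N ⧸ C')) (QuotientGroup.mk' C') L'
    have h2 : (⊥ : Subgroup (↥N ⧸ C')).comap (QuotientGroup.mk' C') = C' := by
      rw [MonoidHom.comap_bot, QuotientGroup.ker_mk']
    rw [h2, Subgroup.relIndex_bot_left, hL', Subgroup.map_comap_eq_self_of_surjective
      (QuotientGroup.mk'_surjective _), hk] at h1
    rw [← hmapC, ← h1]
    exact Subgroup.relIndex_map_map_of_injective _ _ N.subtype_injective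
  · intro a _ ha
    have ha' : a ∈ N := by rw [hNtop]; exact Subgroup.mem_top a
    exact ⟨⟨a, ha'⟩, hst B hBp a ha' ha, rfl⟩

end Cfsg.Agent.Lib.Helper11_ZJ2
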