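import Mathlib

/-!
# Quadratic action in odd characteristic (helper11)

* `ring_commute_of_quadratic`: in a ring of odd prime-power characteristic, a unit `A` with
  `(A - 1)^2 = 0` commutes with every `X` of order prime to `p` that commutes with its two
  conjugates under `A` and `A⁻¹`.
* `smul_comm_of_quadratic`: the same for a group acting on an abelian group of exponent `p^e`.
* `commutator_mem_centralizer_of_quadratic`: the same for a normal abelian subgroup `V` of a group:
  `⁅x, a⁆` centralizes `V`.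
-/

set_option autoImplicit false

namespace Cfsg.Agent.Lib.Helper11_Quadratic

open scoped commutatorElement

theorem ring_commute_of_quadratic {R : Type*} [Ring R] (A A' X : R) (p e k : ℕ)
    (hpodd : Odd p) (hA'A : A' * A = 1)
    (hn : (A - 1) * (A - 1) = 0)
    (h1 : X * (A' * X * A) = (A' * X * A) * X)
    (h2 : X * (A * X * A') = (A * X * A') * X)
    (hXk : X ^ k = 1) (hk : k.Coprime (p ^ e)) (hpe : ((p ^ e : ℕ) : R) = 0) :
    X * A = A * X := by
  set n := A - 1 with hn_def
  have hA : A = 1 + n := by rw [hn_def]; abel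
  have hA' : A' = 1 - n := by
    have h3 : (1 + n) * (1 - n) = 1 := by
      have : (1 + n) * (1 - n) = 1 - n * n := by noncomm_ring
      rw [this, hn, sub_zero]
    calc A' = A' * ((1 + n) * (1 - n)) := by rw [h3, mul_one]
      _ = (A' * A) * (1 - n) := by rw [hA]; noncomm_ring
      _ = 1 - n := by rw [hA'A, one_mul]
  set c := X * n - n * X with hc_def
  set d := n * X * n with hd_def
  have e1 : A' * X * A = X + c - d := by rw [hA, hA', hc_def, hd_def]; noncomm_ring
  have e2 : A * X * A' = X - c - d := by rw [hA, hA', hc_def, hd_def]; noncomm_ring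
  rw [e1] at h1
  rw [e2] at h2
  -- 2 • [X, c] = 0
  have h3 : X * c - c * X = X * d - d * X := by
    have : X * (X + c - d) - (X + c - d) * X = 0 := by rw [h1, sub_self]
    have h' : X * (X + c - d) - (X + c - d) * X = (X * c - c * X) - (X * d - d * X) := by
      noncomm_ring
    rw [h'] at this
    exact sub_eq_zero.mp this
  have h4 : X * c - c * X = - (X * d - d * X) := by
    have : X * (X - c - d) - (X - c - d) * X = 0 := by rw [h2, sub_self]
    have h' : X * (X - c - d) - (X - c - d) * X = - (X * c - c * X) - (X * d - d * X) := by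
      noncomm_ring
    rw [h'] at this
    have h'' : X * c - c * X = -(X * d - d * X) := by
      have := sub_eq_zero.mp this
      rw [← this]; abel
    exact h''
  have h5 : (2 : ℕ) • (X * c - c * X) = 0 := by
    rw [two_nsmul]
    nth_rewrite 1 [h3]
    rw [h4]
    abel
  have hpe' : ∀ y : R, (p ^ e) • y = 0 := by
    intro y
    rw [nsmul_eq_mul, hpe, zero_mul]
  have hodd : Odd (p ^ e) := hpodd.pow
  obtain ⟨m, hm⟩ := hodd
  have h6 : X * c - c * X = 0 := by
    have h7 := hpe' (X * c - c * X)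
    rw [hm, add_nsmul, mul_nsmul, h5, nsmul_zero, zero_add, one_nsmul] at h7
    exact h7
  have hXc : X * c = c * X := sub_eq_zero.mp h6
  -- X^j n = n X^j + j • X^(j-1) c
  have h8 : ∀ j : ℕ, X ^ (j + 1) * n = n * X ^ (j + 1) + (j + 1) • (X ^ j * c) := by
    intro j
    induction j with
    | zero =>
      simp only [zero_add, pow_one, pow_zero, one_mul, one_nsmul]
      rw [hc_def]; abel
    | succ j ih =>
      have hXjc : X ^ (j + 1) * c = c * X ^ (j + 1) := by
        have : Commute X c := hXc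
        exact (this.pow_left (j + 1)).eq
      calc X ^ (j + 1 + 1) * n = X * (X ^ (j + 1) * n) := by rw [pow_succ' X (j + 1), mul_assoc]
        _ = X * (n * X ^ (j + 1) + (j + 1) • (X ^ j * c)) := by rw [ih]
        _ = (X * n) * X ^ (j + 1) + (j + 1) • (X ^ (j + 1) * c) := by
            rw [mul_add, mul_smul_comm, ← mul_assoc, ← mul_assoc, ← pow_succ' X j]
        _ = (n * X + c) * X ^ (j + 1) + (j + 1) • (X ^ (j + 1) * c) := by
            rw [hc_def]; congr 2; abel
        _ = n * X ^ (j + 1 + 1) + (j + 1 + 1) • (X ^ (j + 1) * c) := by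
            rw [add_mul, mul_assoc, ← pow_succ' X (j + 1), ← hXjc, add_assoc, succ_nsmul' (X ^ (j+1) * c) (j+1)]
  -- use X^k = 1
  have hc0 : c = 0 := by
    rcases Nat.eq_zero_or_pos k with hk0 | hkpos
    · -- k = 0 forces p^e = 1
      rw [hk0, Nat.coprime_zero_left] at hk
      have := hpe' c
      rwa [hk, one_nsmul] at this
    · obtain ⟨j, rfl⟩ : ∃ j, k = j + 1 := ⟨k - 1, by omega⟩
      have h9 := h8 j
      rw [hXk, one_mul, mul_one] at h9
      have h10 : (j + 1) • (X ^ j * c) = 0 := by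
        have : n = n + (j + 1) • (X ^ j * c) := h9
        exact left_eq_add.mp this
      have h11 : (j + 1) • c = 0 := by
        have := congrArg (fun z => X * z) h10
        simp only [mul_zero, mul_smul_comm, ← mul_assoc, ← pow_succ' X j, hXk, one_mul] at this
        exact this
      have h12 : addOrderOf c ∣ j + 1 := addOrderOf_dvd_of_nsmul_eq_zero h11
      have h13 : addOrderOf c ∣ p ^ e := addOrderOf_dvd_of_nsmul_eq_zero (hpe' c)
      have h14 : addOrderOf c ∣ 1 := by
        have := Nat.dvd_gcd h12 h13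
        rwa [hk] at this
      exact AddMonoid.addOrderOf_eq_one_iff.mp (Nat.dvd_one.mp h14)
  have : X * n = n * X := by
    have := hc0
    rw [hc_def] at this
    exact sub_eq_zero.mp this
  rw [hA, mul_add, add_mul, mul_one, one_mul, this]

theorem smul_comm_of_quadratic {Γ V : Type*} [Group Γ] [CommGroup V] [MulDistribMulAction Γ V]
    (p e k : ℕ) (hpodd : Odd p) (hexp : ∀ v : V, v ^ (p ^ e) = 1) (hk : k.Coprime (p ^ e))
    (a x : Γ)
    (hq : ∀ v : V, a • (a • v) * v = (a • v) * (a • v))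
    (h1 : ∀ v : V, x • ((a⁻¹ * x * a) • v) = (a⁻¹ * x * a) • (x • v))
    (h2 : ∀ v : V, x • ((a * x * a⁻¹) • v) = (a * x * a⁻¹) • (x • v))
    (hxk : ∀ v : V, x ^ k • v = v) :
    ∀ v : V, x • (a • v) = a • (x • v) := by
  set ρ := Representation.ofMulDistribMulAction Γ V with hρ
  have happ : ∀ (g : Γ) (v : Additive V), ρ g v = Additive.ofMul (g • v.toMul) := fun g v => rfl
  have key : ρ x * ρ a = ρ a * ρ x := by
    apply ring_commute_of_quadratic (ρ a) (ρ a⁻¹) (ρ x) p e k hpodd
    · rw [← map_mul, inv_mul_cancel, map_one]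
    · apply LinearMap.ext
      intro v
      have := hq v.toMul
      simp only [Module.End.mul_apply, LinearMap.sub_apply, Module.End.one_apply, map_sub, happ]
      rw [LinearMap.zero_apply, toMul_ofMul]
      apply Additive.toMul.injective
      rw [toMul_sub, toMul_sub, toMul_sub, toMul_ofMul, toMul_ofMul, toMul_zero]
      rw [div_div_div_eq, div_eq_one]
      exact this
    · rw [← map_mul, ← map_mul, ← map_mul, ← map_mul]
      apply LinearMap.ext
      intro v
      rw [map_mul, map_mul ρ _ x, Module.End.mul_apply, Module.End.mul_apply, happ, happ, happ, happ]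
      exact congrArg _ (h1 v.toMul)
    · rw [← map_mul, ← map_mul, ← map_mul, ← map_mul]
      apply LinearMap.ext
      intro v
      rw [map_mul, map_mul ρ _ x, Module.End.mul_apply, Module.End.mul_apply, happ, happ, happ, happ]
      exact congrArg _ (h2 v.toMul)
    · rw [← map_pow]
      apply LinearMap.ext
      intro v
      rw [happ, hxk]; rfl
    · exact hk
    · apply LinearMap.ext
      intro v
      rw [Module.End.natCast_apply]
      show _ = (0 : Additive V)
      have := hexp v.toMul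
      apply Additive.toMul.injective
      rw [toMul_nsmul, this, toMul_zero]
  intro v
  have := congrArg (fun f => (f (Additive.ofMul v)).toMul) key
  simpa [happ] using this

variable {Γ : Type*} [Group Γ]

/-- the conjugation action of a group on a normal subgroup -/
@[reducible] def normalConjAct (V : Subgroup Γ) [hV : V.Normal] : MulDistribMulAction Γ ↥V where
  smul g v := ⟨g * v * g⁻¹, hV.conj_mem _ v.2 g⟩
  one_smul v := by
    apply Subtype.ext
    show (1 : Γ) * v * (1 : Γ)⁻¹ = v
    simp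
  mul_smul g h v := by
    apply Subtype.ext
    show (g * h) * v * (g * h)⁻¹ = g * (h * v * h⁻¹) * g⁻¹
    simp [mul_assoc]
  smul_mul g v w := by
    apply Subtype.ext
    show g * ((v * w : V) : Γ) * g⁻¹ = (g * v * g⁻¹) * (g * w * g⁻¹)
    simp [mul_assoc]
  smul_one g := by
    apply Subtype.ext
    show g * ((1 : V) : Γ) * g⁻¹ = ((1 : V) : Γ)
    simp

open scoped IsMulCommutative in
/-- **Quadratic action, odd `p`.** Let `V` be a normal abelian subgroup of exponent dividing `p^e`
(`p` odd), `a` an element acting quadratically on `V`, and `x` an element whose action on `V` has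
order prime to `p` and commutes with the actions of `a⁻¹xa` and `axa⁻¹`. Then `⁅x, a⁆` centralizes `V`. -/
theorem commutator_mem_centralizer_of_quadratic (V : Subgroup Γ) [hV : V.Normal]
    (hVc : ∀ u ∈ V, ∀ v ∈ V, u * v = v * u)
    (p e k : ℕ) (hpodd : Odd p) (hexp : ∀ v ∈ V, v ^ (p ^ e) = 1) (hk : k.Coprime (p ^ e))
    (a x : Γ)
    (hq : ∀ v ∈ V, ⁅⁅v, a⁆, a⁆ = 1)
    (h1 : ⁅x, a⁻¹ * x * a⁆ ∈ Subgroup.centralizer (V : Set Γ))
    (h2 : ⁅x, a * x * a⁻¹⁆ ∈ Subgroup.centralizer (V : Set Γ))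
    (hxk : x ^ k ∈ Subgroup.centralizer (V : Set Γ)) :
    ⁅x, a⁆ ∈ Subgroup.centralizer (V : Set Γ) := by
  have : IsMulCommutative ↥V := ⟨⟨fun u v => Subtype.ext (hVc u u.2 v v.2)⟩⟩
  let act : MulDistribMulAction Γ ↥V := normalConjAct V
  have hsmul : ∀ (g : Γ) (v : V), ((g • v : V) : Γ) = g * v * g⁻¹ := fun _ _ => rfl
  have hcomm : ∀ g h : Γ, ⁅g, h⁆ ∈ Subgroup.centralizer (V : Set Γ) →
      ∀ v : V, g • (h • v) = h • (g • v) := by
    intro g h hgh v
    apply Subtype.ext
    rw [hsmul, hsmul, hsmul, hsmul]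
    have hw : h * (g * v * g⁻¹) * h⁻¹ ∈ V := hV.conj_mem _ (hV.conj_mem _ v.2 g) h
    have := Subgroup.mem_centralizer_iff.mp hgh _ hw
    rw [commutatorElement_def] at this
    calc g * (h * v * h⁻¹) * g⁻¹
        = (g * h * g⁻¹ * h⁻¹) * (h * (g * v * g⁻¹) * h⁻¹) * (g * h * g⁻¹ * h⁻¹)⁻¹ := by group
      _ = (h * (g * v * g⁻¹) * h⁻¹) * (g * h * g⁻¹ * h⁻¹) * (g * h * g⁻¹ * h⁻¹)⁻¹ := by rw [this]
      _ = h * (g * v * g⁻¹) * h⁻¹ := by group
  have main := smul_comm_of_quadratic (Γ := Γ) (V := ↥V) p e k hpodd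
    (fun v => Subtype.ext (by rw [Subgroup.coe_pow, hexp v v.2]; rfl)) hk a x ?_
    (hcomm _ _ h1) (hcomm _ _ h2) ?_
  · rw [Subgroup.mem_centralizer_iff]
    intro w hw
    have hv : x⁻¹ * (a⁻¹ * w * a) * x ∈ V := by
      have h3 := hV.conj_mem _ (hV.conj_mem _ hw a⁻¹) x⁻¹
      simpa [mul_assoc] using h3
    have h4 := congrArg (fun z : V => (z : Γ)) (main ⟨_, hv⟩)
    simp only [hsmul] at h4
    rw [commutatorElement_def]
    have h5 : x * (a * (x⁻¹ * (a⁻¹ * w * a) * x) * a⁻¹) * x⁻¹ = (x * a * x⁻¹ * a⁻¹) * w * (x * a * x⁻¹ * a⁻¹)⁻¹ := by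
      group
    have h6 : a * (x * (x⁻¹ * (a⁻¹ * w * a) * x) * x⁻¹) * a⁻¹ = w := by group
    rw [h5, h6] at h4
    calc w * (x * a * x⁻¹ * a⁻¹) = (x * a * x⁻¹ * a⁻¹) * w * (x * a * x⁻¹ * a⁻¹)⁻¹ * (x * a * x⁻¹ * a⁻¹) := by
          rw [h4]
      _ = (x * a * x⁻¹ * a⁻¹) * w := by group
  · -- quadratic
    intro v
    apply Subtype.ext
    rw [Subgroup.coe_mul, Subgroup.coe_mul, hsmul, hsmul]
    have hc := hq v v.2
    rw [commutatorElement_eq_one_iff_commute] at hc
    set c := ⁅(v : Γ), a⁆ with hc_def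
    have hcV : c ∈ V := by
      rw [hc_def, commutatorElement_def]
      have := hV.conj_mem _ (V.inv_mem v.2) a
      have h' := V.mul_mem v.2 this
      simpa [mul_assoc] using h'
    have e1 : a * v * a⁻¹ = c⁻¹ * v := by rw [hc_def, commutatorElement_def]; group
    have e2 : a * (c⁻¹ * v) * a⁻¹ = c⁻¹ * (c⁻¹ * v) := by
      have h7 : a * c⁻¹ = c⁻¹ * a := (hc.symm.inv_right).eq
      calc a * (c⁻¹ * v) * a⁻¹ = (a * c⁻¹) * (v * a⁻¹) := by group
        _ = (c⁻¹ * a) * (v * a⁻¹) := by rw [h7]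
        _ = c⁻¹ * (a * v * a⁻¹) := by group
        _ = c⁻¹ * (c⁻¹ * v) := by rw [e1]
    rw [e1, e2]
    have h8 : (v : Γ) * c⁻¹ = c⁻¹ * v := hVc _ v.2 _ (V.inv_mem hcV)
    calc c⁻¹ * (c⁻¹ * v) * v = c⁻¹ * (c⁻¹ * v * v) := by group
      _ = c⁻¹ * ((v : Γ) * c⁻¹ * v) := by rw [h8]
      _ = c⁻¹ * v * (c⁻¹ * v) := by group
  · intro v
    apply Subtype.ext
    rw [hsmul]
    have := Subgroup.mem_centralizer_iff.mp hxk v v.2
    rw [← this]; group

end Cfsg.Agent.Lib.Helper11_Quadratic
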