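import Mathlib.GroupTheory.Sylow
import Mathlib.GroupTheory.Nilpotent
import Mathlib.GroupTheory.Commutator.Basic

/-!
# Commutator / coprime-action lemmas inside an ambient group (helper48)

* `commutator_commutator_le_of_rotate`: three subgroups lemma modulo a subgroup normalized by all three.
* `commute_of_stabilizes_chain`: a `p'`-element stabilizing a chain in a `p`-group centralizes it.
* `actSeries P L`: the series `P ≥ [P,L] ≥ [P,L,L] ≥ …`; it reaches `⊥` when `L` is a finite `p`-group.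
-/

set_option autoImplicit false
open scoped commutatorElement

namespace Cfsg.Agent.Lib.Helper48_Coprime

variable {G : Type*} [Group G]

/-- If `X` normalizes `H₁` and `H₂`, it normalizes `⁅H₁, H₂⁆`. -/
theorem le_normalizer_commutator {X H₁ H₂ : Subgroup G}
    (h₁ : X ≤ Subgroup.normalizer (H₁ : Set G)) (h₂ : X ≤ Subgroup.normalizer (H₂ : Set G)) :
    X ≤ Subgroup.normalizer ((⁅H₁, H₂⁆ : Subgroup G) : Set G) := by
  intro x hx
  rw [Subgroup.mem_normalizer_iff_map_conj_eq, Subgroup.map_commutator]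
  have e1 := Subgroup.mem_normalizer_iff_map_conj_eq.mp (h₁ hx)
  have e2 := Subgroup.mem_normalizer_iff_map_conj_eq.mp (h₂ hx)
  rw [e1, e2]

/-- Three subgroups lemma modulo a subgroup `N` normalized by all three. -/
theorem commutator_commutator_le_of_rotate {N H₁ H₂ H₃ : Subgroup G}
    (h₁ : H₁ ≤ Subgroup.normalizer (N : Set G)) (h₂ : H₂ ≤ Subgroup.normalizer (N : Set G))
    (h₃ : H₃ ≤ Subgroup.normalizer (N : Set G))
    (h1 : ⁅⁅H₂, H₃⁆, H₁⁆ ≤ N) (h2 : ⁅⁅H₃, H₁⁆, H₂⁆ ≤ N) : ⁅⁅H₁, H₂⁆, H₃⁆ ≤ N := by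
  set K := Subgroup.normalizer (N : Set G) with hK
  have hNK : N ≤ K := Subgroup.le_normalizer
  have hnorm : (N.subgroupOf K).Normal := Subgroup.normal_subgroupOf_of_le_normalizer le_rfl
  let f : ↥K →* ↥K ⧸ N.subgroupOf K := QuotientGroup.mk' _
  -- bar of a subgroup of `K`
  have key : ∀ X : Subgroup G, X ≤ K → ((X.subgroupOf K).map f = ⊥ ↔ X ≤ N) := by
    intro X hX
    rw [← le_bot_iff, Subgroup.map_le_iff_le_comap]
    have hker : (⊥ : Subgroup (↥K ⧸ N.subgroupOf K)).comap f = N.subgroupOf K := QuotientGroup.ker_mk' _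
    rw [hker]
    constructor
    · intro h x hx
      have := h (show (⟨x, hX hx⟩ : K) ∈ X.subgroupOf K from by rw [Subgroup.mem_subgroupOf]; exact hx)
      rw [Subgroup.mem_subgroupOf] at this
      exact this
    · intro h x hx
      rw [Subgroup.mem_subgroupOf] at hx ⊢
      exact h hx
  have comm : ∀ X Y : Subgroup G, X ≤ K → Y ≤ K →
      (⁅X, Y⁆.subgroupOf K).map f = ⁅(X.subgroupOf K).map f, (Y.subgroupOf K).map f⁆ := by
    intro X Y hX hY
    rw [← Subgroup.map_commutator]
    congr 1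
    apply Subgroup.map_injective K.subtype_injective
    rw [Subgroup.map_commutator, Subgroup.map_subgroupOf_eq_of_le hX, Subgroup.map_subgroupOf_eq_of_le hY,
      Subgroup.map_subgroupOf_eq_of_le]
    exact (Subgroup.commutator_le_sup _ _).trans (sup_le hX hY)
  have cle : ∀ X Y : Subgroup G, X ≤ K → Y ≤ K → ⁅X, Y⁆ ≤ K := fun X Y hX hY =>
    (Subgroup.commutator_le_sup _ _).trans (sup_le hX hY)
  rw [← key _ (cle _ _ (cle _ _ h₁ h₂) h₃), comm _ _ (cle _ _ h₁ h₂) h₃, comm _ _ h₁ h₂]
  apply Subgroup.commutator_commutator_eq_bot_of_rotate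
  · rw [← comm _ _ h₂ h₃, ← comm _ _ (cle _ _ h₂ h₃) h₁, key _ (cle _ _ (cle _ _ h₂ h₃) h₁)]
    exact h1
  · rw [← comm _ _ h₃ h₁, ← comm _ _ (cle _ _ h₃ h₁) h₂, key _ (cle _ _ (cle _ _ h₃ h₁) h₂)]
    exact h2

/-! ### `p'`-elements stabilizing chains (elementwise; first three lemmas as in helper47's lib) -/

theorem commute_of_coprime_of_conj_eq_mul {p : ℕ} [Fact p.Prime]
    (x r c : G) (hx : (orderOf x).Coprime p)
    (hc : x * r * x⁻¹ = r * c) (hxc : Commute x c) (hcp : ∃ k, orderOf c = p ^ k) :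
    Commute x r := by
  have h : ∀ k : ℕ, x ^ k * r * (x ^ k)⁻¹ = r * c ^ k := by
    intro k
    induction k with
    | zero => simp
    | succ k ih =>
      have h1 : x ^ (k + 1) * r * (x ^ (k + 1))⁻¹ = x * (x ^ k * r * (x ^ k)⁻¹) * x⁻¹ := by
        rw [pow_succ']; group
      rw [h1, ih]
      have h2 : x * (r * c ^ k) * x⁻¹ = (x * r * x⁻¹) * (x * c ^ k * x⁻¹) := by group
      rw [h2, hc]
      have h3 : x * c ^ k * x⁻¹ = c ^ k := by
        have := (hxc.pow_right k).eq
        rw [this]; group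
      rw [h3, pow_succ']; group
  have h4 := h (orderOf x)
  rw [pow_orderOf_eq_one] at h4
  simp at h4
  obtain ⟨j, hj⟩ := hcp
  have h5 : orderOf c ∣ orderOf x := orderOf_dvd_of_pow_eq_one h4
  have h6 : (orderOf x).Coprime (orderOf c) := by
    rw [hj]; exact Nat.Coprime.pow_right j hx
  have h7 : orderOf c = 1 := Nat.eq_one_of_dvd_coprimes h6 h5 dvd_rfl
  have h8 : c = 1 := orderOf_eq_one_iff.mp h7
  rw [h8, mul_one] at hc
  show x * r = r * x
  calc x * r = x * r * x⁻¹ * x := by group
    _ = r * x := by rw [hc]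

theorem orderOf_eq_pow_of_mem {p : ℕ} [Fact p.Prime] {R : Subgroup G}
    (hR : IsPGroup p R) {c : G} (hc : c ∈ R) : ∃ k, orderOf c = p ^ k := by
  obtain ⟨k, hk⟩ := (IsPGroup.iff_orderOf.mp hR) ⟨c, hc⟩
  exact ⟨k, by rw [← hk, Subgroup.orderOf_mk]⟩

/-- A `p'`-element `x` which centralizes `B` and satisfies `[A, x] ≤ B`, where `B` consists of
`p`-elements, centralizes `A`. -/
theorem commute_of_coprime_of_commutator_mem {p : ℕ} [Fact p.Prime]
    (A B : Subgroup G) (x : G) (hx : (orderOf x).Coprime p)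
    (hAB : ∀ r ∈ A, ⁅r, x⁆ ∈ B) (hB : ∀ c ∈ B, Commute x c)
    (hBp : ∀ c ∈ B, ∃ k, orderOf c = p ^ k) : ∀ r ∈ A, Commute x r := by
  intro r hr
  have hc : ⁅r⁻¹, x⁆ ∈ B := hAB _ (A.inv_mem hr)
  refine commute_of_coprime_of_conj_eq_mul x r ⁅r⁻¹, x⁆ hx ?_ (hB _ hc) (hBp _ hc)
  rw [commutatorElement_def]; group

/-- A `p'`-element stabilizing a descending chain of subgroups of a `p`-group that reaches `⊥`
centralizes the top of the chain. -/
theorem commute_of_stabilizes_chain {p : ℕ} [Fact p.Prime] (x : G) (hx : (orderOf x).Coprime p)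
    (C : ℕ → Subgroup G) (hp : IsPGroup p (C 0)) (hanti : ∀ i, C (i + 1) ≤ C i)
    (hst : ∀ i, ∀ r ∈ C i, ⁅r, x⁆ ∈ C (i + 1)) (n : ℕ) (hn : C n = ⊥) :
    ∀ r ∈ C 0, Commute x r := by
  have hle : ∀ i, C i ≤ C 0 := by
    intro i
    induction i with
    | zero => exact le_rfl
    | succ i ih => exact (hanti i).trans ih
  have key : ∀ k i, i + k = n → ∀ r ∈ C i, Commute x r := by
    intro k
    induction k with
    | zero =>
      intro i hi r hr
      have : i = n := by omega
      rw [this, hn, Subgroup.mem_bot] at hr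
      rw [hr]; exact Commute.one_right x
    | succ k ih =>
      intro i hi
      have h1 := ih (i + 1) (by omega)
      exact commute_of_coprime_of_commutator_mem (C i) (C (i + 1)) x hx (hst i) h1
        (fun c hc => orderOf_eq_pow_of_mem hp (hle _ hc))
  exact key n 0 (by omega)

/-! ### The series of an action -/

/-- The descending series `P ≥ [P,L] ≥ [P,L,L] ≥ …` of the action of `L` on `P`. -/
def actSeries (P L : Subgroup G) : ℕ → Subgroup G
  | 0 => P
  | i + 1 => ⁅actSeries P L i, L⁆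

theorem actSeries_zero (P L : Subgroup G) : actSeries P L 0 = P := rfl

theorem actSeries_succ (P L : Subgroup G) (i : ℕ) :
    actSeries P L (i + 1) = ⁅actSeries P L i, L⁆ := rfl

theorem actSeries_le_lowerCentralSeries (P L : Subgroup G) (hPL : P ≤ L) (i : ℕ) :
    actSeries P L i ≤ L.lowerCentralSeries i := by
  induction i with
  | zero => exact hPL
  | succ i ih =>
    rw [actSeries_succ, Subgroup.lowerCentralSeries_succ]
    exact Subgroup.commutator_mono ih le_rfl

theorem exists_actSeries_eq_bot [Finite G] {p : ℕ} [Fact p.Prime] {P L : Subgroup G}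
    (hL : IsPGroup p L) (hPL : P ≤ L) : ∃ n, actSeries P L n = ⊥ := by
  have : Group.IsNilpotent L := hL.isNilpotent
  obtain ⟨n, hn⟩ := (Subgroup.isNilpotent_iff_lowerCentralSeries L).mp this
  refine ⟨n, ?_⟩
  have := actSeries_le_lowerCentralSeries P L hPL n
  rw [hn] at this
  exact le_bot_iff.mp this

/-- If `L` normalizes `P`, it normalizes every term of the series, which descends. -/
theorem le_normalizer_actSeries {P L : Subgroup G} (hL : L ≤ Subgroup.normalizer (P : Set G)) (i : ℕ) :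
    L ≤ Subgroup.normalizer (actSeries P L i : Set G) := by
  induction i with
  | zero => exact hL
  | succ i _ =>
    rw [actSeries_succ]
    exact Subgroup.normalizer_commutator_ge_right _ _

theorem actSeries_succ_le {P L : Subgroup G} (hL : L ≤ Subgroup.normalizer (P : Set G)) (i : ℕ) :
    actSeries P L (i + 1) ≤ actSeries P L i := by
  rw [actSeries_succ]
  exact Subgroup.le_normalizer_iff_commutator_le_left.mp (le_normalizer_actSeries hL i)

end Cfsg.Agent.Lib.Helper48_Coprime
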