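import Cfsg.Agent.Lib.Helper11_ZJ
import Cfsg.Agent.Lib.Helper11_Quadratic
import Cfsg.Agent.Lib.Helper48_Generation
import Cfsg.Agent.Lib.Helper48_Coprime
import Cfsg.Agent.Lib.Helper35_FrobeniusNPC

/-!
# Stability in groups `X` with `X / O_p(X)` having a normal `p`-complement and a maximal Sylow
`p`-subgroup (helper11)

Main result `stableOn_of_npc_coatom`: for odd `p`, if `X / O_p(X)` has a normal `p`-complement and a
Sylow `p`-subgroup `T` of `X` is a maximal subgroup, then every normal `p`-subgroup `B` of `X`
satisfies `StableOn p T B`.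
-/

set_option autoImplicit false

namespace Cfsg.Agent.Lib.Helper11_NPCStable

open Cfsg Cfsg.Agent.Lib.Helper11_ZJ Cfsg.Agent.Lib.Helper11_Quadratic
  Cfsg.Agent.Lib.Helper48_Coprime Cfsg.Agent.Lib.Helper35_FrobeniusNPC Cfsg.Agent.Lib.Helper1_Cores

open scoped commutatorElement

variable {X : Type*} [Group X]

/-- the centralizer in `X` of the section `V₀ / V₁` -/
def sectionCentralizer (V₀ V₁ : Subgroup X) [V₁.Normal] : Subgroup X :=
  (Subgroup.centralizer ((V₀.map (QuotientGroup.mk' V₁) : Subgroup (X ⧸ V₁)) : Set (X ⧸ V₁))).comap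
    (QuotientGroup.mk' V₁)

theorem mem_sectionCentralizer {V₀ V₁ : Subgroup X} [V₁.Normal] {g : X} :
    g ∈ sectionCentralizer V₀ V₁ ↔ ∀ r ∈ V₀, ⁅r, g⁆ ∈ V₁ := by
  unfold sectionCentralizer
  rw [Subgroup.mem_comap, Subgroup.mem_centralizer_iff]
  constructor
  · intro h r hr
    have h1 := h _ (Subgroup.mem_map_of_mem _ hr)
    rw [← QuotientGroup.eq_one_iff, ← QuotientGroup.mk'_apply, map_commutatorElement,
      commutatorElement_eq_one_iff_mul_comm]
    exact h1
  · rintro h _ ⟨r, hr, rfl⟩
    have h1 := h r hr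
    rw [← QuotientGroup.eq_one_iff, ← QuotientGroup.mk'_apply, map_commutatorElement,
      commutatorElement_eq_one_iff_mul_comm] at h1
    exact h1

variable [Finite X] {p : ℕ} [Fact p.Prime]

/-- A subgroup of the normal `p`-complement `K` normalized by a maximal Sylow `p`-subgroup is
trivial or all of `K`. -/
theorem eq_bot_or_eq_of_coatom (K : Subgroup X) [K.Normal] (hKc : (Nat.card K).Coprime p)
    (T : Sylow p X) (hT : IsCoatom (T : Subgroup X)) (N : Subgroup X) (hNK : N ≤ K)
    (hTN : (T : Subgroup X) ≤ Subgroup.normalizer (N : Set X)) : N = ⊥ ∨ N = K := by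
  have hp : p.Prime := Fact.out
  obtain ⟨a, ha⟩ := IsPGroup.iff_card.mp T.2
  have hTK : (T : Subgroup X) ⊓ K = ⊥ := by
    apply (Subgroup.disjoint_of_coprime_natCard _).eq_bot
    rw [ha]
    exact (Nat.Coprime.pow_left a hKc.symm)
  have h1 : (T : Subgroup X) ≤ (T : Subgroup X) ⊔ N := le_sup_left
  rcases eq_or_lt_of_le h1 with h | h
  · left
    have hNT : N ≤ T := sup_eq_left.mp h.symm
    rw [eq_bot_iff, ← hTK]
    exact le_inf hNT hNK
  · right
    have htop : (T : Subgroup X) ⊔ N = ⊤ := hT.2 _ h
    have hNn : N.Normal := by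
      rw [← Subgroup.normalizer_eq_top_iff, eq_top_iff, ← htop]
      exact sup_le hTN Subgroup.le_normalizer
    have h2 : N.index = N.relIndex T := by
      rw [← Subgroup.relIndex_top_right, ← htop, Subgroup.relIndex_sup_right]
    have h3 : N.relIndex K ∣ p ^ a := by
      rw [← ha]
      exact (Subgroup.relIndex_dvd_index_of_normal N K).trans (h2 ▸ Subgroup.relIndex_dvd_card N T)
    have h4 : N.relIndex K ∣ Nat.card K := Subgroup.relIndex_dvd_card N K
    have h5 : N.relIndex K = 1 :=
      Nat.eq_one_of_dvd_coprimes (Nat.Coprime.pow_left a hKc.symm) h3 h4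
    exact le_antisymm hNK (Subgroup.relIndex_eq_one.mp h5)

/-- The normal `p`-complement of a group with a maximal Sylow `p`-subgroup is abelian. -/
theorem commutator_eq_bot_of_coatom (K : Subgroup X) [hKn : K.Normal] (hKc : (Nat.card K).Coprime p)
    (T : Sylow p X) (hT : IsCoatom (T : Subgroup X)) : ⁅K, K⁆ = ⊥ := by
  have hp : p.Prime := Fact.out
  by_cases hK : K = ⊥
  · rw [hK]; exact Subgroup.commutator_bot_left ⊥
  have hcard : Nat.card K ≠ 1 := fun h => hK (Subgroup.card_eq_one.mp h)
  have hq : (Nat.card K).minFac.Prime := Nat.minFac_prime hcard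
  have : Fact (Nat.card K).minFac.Prime := ⟨hq⟩
  set q := (Nat.card K).minFac with hq_def
  have hcop : ¬ p ∣ Nat.card K := fun h => hp.one_lt.ne' (Nat.eq_one_of_dvd_coprimes hKc h dvd_rfl)
  have hTK : (T : Subgroup X) ≤ Subgroup.normalizer (K : Set X) := by
    rw [Subgroup.normalizer_eq_top]; exact le_top
  obtain ⟨P, hP⟩ := Cfsg.Agent.Lib.Helper48_Generation.exists_sylow_normalized K hcop
    (T : Subgroup X) T.2 hTK q
  set S' := (P : Subgroup K).map K.subtype with hS'
  have hS'K : S' ≤ K := Subgroup.map_subtype_le _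
  have hTS' : (T : Subgroup X) ≤ Subgroup.normalizer (S' : Set X) := by
    intro d hd
    apply Subgroup.mem_normalizer_fintype
    intro y hy
    exact hP d hd y hy
  have hS'q : IsPGroup q S' := P.2.map K.subtype
  rcases eq_bot_or_eq_of_coatom K hKc T hT S' hS'K hTS' with h | h
  · exfalso
    have h1 : (P : Subgroup K) ≠ ⊥ := P.ne_bot_of_dvd_card (Nat.minFac_dvd _)
    apply h1
    rw [hS'] at h
    exact (Subgroup.map_eq_bot_iff_of_injective _ K.subtype_injective).mp h
  · have hKq : IsPGroup q K := h ▸ hS'q
    have hlt : ⁅K, K⁆ < K := commutator_lt hKq hK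
    have hle : ⁅K, K⁆ ≤ K := Subgroup.commutator_le_right K K
    have hn : (T : Subgroup X) ≤ Subgroup.normalizer ((⁅K, K⁆ : Subgroup X) : Set X) := by
      rw [Subgroup.normalizer_eq_top]; exact le_top
    rcases eq_bot_or_eq_of_coatom K hKc T hT ⁅K, K⁆ hle hn with h' | h'
    · exact h'
    · exact absurd h' hlt.ne

omit [Finite X] in
theorem isCoatom_map_mk {Q T : Subgroup X} [Q.Normal] (hQT : Q ≤ T) (hT : IsCoatom T) :
    IsCoatom (T.map (QuotientGroup.mk' Q)) := by
  have hsurj := QuotientGroup.mk'_surjective Q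
  have hcm : (T.map (QuotientGroup.mk' Q)).comap (QuotientGroup.mk' Q) = T := by
    rw [Subgroup.comap_map_eq, QuotientGroup.ker_mk', sup_eq_left.mpr hQT]
  constructor
  · intro h
    apply hT.1
    rw [← hcm, h, Subgroup.comap_top]
  · intro H hH
    have h1 : T < H.comap (QuotientGroup.mk' Q) := by
      rw [← hcm]
      exact (Subgroup.comap_lt_comap_of_surjective hsurj).mpr hH
    have h2 := hT.2 _ h1
    rw [← Subgroup.map_comap_eq_self_of_surjective hsurj H, h2, Subgroup.map_top_of_surjective _ hsurj]

/-- **Stability.** For odd `p`, if `X / O_p(X)` has a normal `p`-complement and a Sylow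
`p`-subgroup `T` of `X` is a maximal subgroup, then every normal `p`-subgroup of `X` is acted on
stably. -/
theorem stableOn_of_npc_coatom (hp2 : p ≠ 2) (hnpc : HasNPC p (X ⧸ pCore p X)) (T : Sylow p X)
    (hT : IsCoatom (T : Subgroup X)) (B : Subgroup X) (hBn : B.Normal) (hBp : IsPGroup p B) :
    StableOn p (T : Subgroup X) B := by
  have hp : p.Prime := Fact.out
  set Q := pCore p X with hQ
  have hQn : Q.Normal := inferInstance
  have hQp : IsPGroup p Q := pCore_isPGroup p
  have hQT : Q ≤ T := pCore_le_sylow p T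
  have hBQ : B ≤ Q := le_pCore hBn hBp
  obtain ⟨e, he⟩ := IsPGroup.iff_card.mp hQp
  set π := QuotientGroup.mk' Q with hπ
  have hsurj : Function.Surjective π := QuotientGroup.mk'_surjective Q
  have hker : π.ker = Q := QuotientGroup.ker_mk' Q
  obtain ⟨Kb, hKn, hKc, n, hKi⟩ := hnpc
  set Tb : Sylow p (X ⧸ Q) := T.mapSurjective hsurj with hTb
  have hTbc : IsCoatom (Tb : Subgroup (X ⧸ Q)) := isCoatom_map_mk hQT hT
  have hab : ⁅Kb, Kb⁆ = ⊥ := commutator_eq_bot_of_coatom Kb hKc Tb hTbc
  set M := Kb.comap π with hM
  have hMn : M.Normal := hKn.comap π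
  have hMi : M.index = p ^ n := by rw [hM, Subgroup.index_comap_of_surjective _ hsurj, hKi]
  have hQM : Q ≤ M := by rw [← hker]; exact Subgroup.ker_le_comap π Kb
  set C := Subgroup.centralizer (B : Set X) with hC
  have hCn : C.Normal := Subgroup.normal_centralizer
  have hCπn : (C.map π).Normal := hCn.map π hsurj
  have hDn : (C.map π ⊓ Kb).Normal := inferInstance
  rcases eq_bot_or_eq_of_coatom Kb hKc Tb hTbc (C.map π ⊓ Kb) inf_le_right
    (by rw [Subgroup.normalizer_eq_top]; exact le_top) with hD | hD
  · -- `C ≤ Q`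
    have hCQ : C ≤ Q := by
      apply le_pCore hCn
      have h1 : IsPGroup p (C.map π) := by
        have hinj : Function.Injective ((QuotientGroup.mk' Kb).comp (C.map π).subtype) := by
          rw [injective_iff_map_eq_one]
          intro x hx
          have : (x : X ⧸ Q) ∈ C.map π ⊓ Kb := ⟨x.2, (QuotientGroup.eq_one_iff _).mp hx⟩
          rw [hD, Subgroup.mem_bot] at this
          exact Subtype.ext this
        have h2 : IsPGroup p ((X ⧸ Q) ⧸ Kb) :=
          IsPGroup.of_card (n := n) (by rw [← Subgroup.index_eq_card, hKi])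
        exact h2.of_injective _ hinj
      have h3 : IsPGroup p ((C.map π).comap π) := h1.comap_of_ker_isPGroup π (by rw [hker]; exact hQp)
      exact h3.to_le (Subgroup.le_comap_map π C)
    refine ⟨Q, hQn, hCQ, ?_, ?_⟩
    · have : C.relIndex Q ∣ p ^ e := he ▸ Subgroup.relIndex_dvd_card C Q
      obtain ⟨k, -, hk⟩ := (Nat.dvd_prime_pow hp).mp this
      exact ⟨k, hk⟩
    · intro a haT hquad
      have hQB : Q ≤ Subgroup.normalizer (B : Set X) := by
        rw [Subgroup.normalizer_eq_top]; exact le_top
      have hBi_n : ∀ i, (actSeries B Q i).Normal := by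
        intro i
        induction i with
        | zero => exact hBn
        | succ i ih =>
          rw [actSeries_succ]
          exact Subgroup.commutator_normal _ _
      have hBi_le : ∀ i, actSeries B Q i ≤ B := by
        intro i
        induction i with
        | zero => exact le_rfl
        | succ i ih => exact (actSeries_succ_le hQB i).trans ih
      -- Step A
      have hA : ∀ m ∈ M, ∀ i, ⁅m, a⁆ ∈ @sectionCentralizer _ _ (actSeries B Q i)
          (actSeries B Q (i + 1)) (hBi_n (i + 1)) := by
        intro m hm i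
        have hV₁n := hBi_n (i + 1)
        set V₀ := actSeries B Q i with hV₀
        set V₁ := actSeries B Q (i + 1) with hV₁
        have hV₁eq : V₁ = ⁅V₀, Q⁆ := rfl
        set πi := QuotientGroup.mk' V₁ with hπi
        have hVn : (V₀.map πi).Normal := (hBi_n i).map πi (QuotientGroup.mk'_surjective V₁)
        have hQst : Q ≤ sectionCentralizer V₀ V₁ := by
          intro g hg
          rw [mem_sectionCentralizer]
          intro r hr
          rw [hV₁eq]
          exact Subgroup.commutator_mem_commutator hr hg
        have hmemst : ∀ g : X, g ∈ sectionCentralizer V₀ V₁ →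
            πi g ∈ Subgroup.centralizer ((V₀.map πi : Subgroup (X ⧸ V₁)) : Set (X ⧸ V₁)) :=
          fun g hg => hg
        have hmM : π m ∈ Kb := hm
        show πi ⁅m, a⁆ ∈ Subgroup.centralizer ((V₀.map πi : Subgroup (X ⧸ V₁)) : Set (X ⧸ V₁))
        rw [map_commutatorElement]
        apply commutator_mem_centralizer_of_quadratic (V₀.map πi) ?_ p e (Nat.card Kb)
          (hp.odd_of_ne_two hp2) ?_ (hKc.pow_right e) (πi a) (πi m) ?_ ?_ ?_ ?_
        · rintro _ ⟨r, hr, rfl⟩ _ ⟨s, hs, rfl⟩
          rw [← commutatorElement_eq_one_iff_mul_comm, ← map_commutatorElement]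
          apply (QuotientGroup.eq_one_iff _).mpr
          rw [hV₁eq]
          exact Subgroup.commutator_mem_commutator hr (hBQ (hBi_le i hs))
        · rintro _ ⟨r, hr, rfl⟩
          rw [← map_pow]
          have hrQ : r ∈ Q := hBQ (hBi_le i hr)
          have h1 : (⟨r, hrQ⟩ : Q) ^ Nat.card Q = 1 := pow_card_eq_one'
          have h2 : r ^ (p ^ e) = 1 := by
            have := congrArg Subtype.val h1
            rw [he] at this
            simpa using this
          rw [h2, map_one]
        · rintro _ ⟨r, hr, rfl⟩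
          rw [← map_commutatorElement, ← map_commutatorElement]
          have h1 : ⁅⁅r, a⁆, a⁆ ∈ ⁅⁅B, Subgroup.zpowers a⁆, Subgroup.zpowers a⁆ :=
            Subgroup.commutator_mem_commutator
              (Subgroup.commutator_mem_commutator (hBi_le i hr) (Subgroup.mem_zpowers a))
              (Subgroup.mem_zpowers a)
          rw [hquad, Subgroup.mem_bot] at h1
          rw [h1, map_one]
        · have hc1 : ⁅m, a⁻¹ * m * a⁆ ∈ Q := by
            rw [← hker, MonoidHom.mem_ker, map_commutatorElement]
            have h1 : a⁻¹ * m * a ∈ M := by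
              have := hMn.conj_mem m hm a⁻¹
              simpa using this
            have h2 : ⁅π m, π (a⁻¹ * m * a)⁆ ∈ ⁅Kb, Kb⁆ :=
              Subgroup.commutator_mem_commutator hmM h1
            rwa [hab, Subgroup.mem_bot] at h2
          have := hmemst _ (hQst hc1)
          rwa [map_commutatorElement, map_mul, map_mul, map_inv] at this
        · have hc1 : ⁅m, a * m * a⁻¹⁆ ∈ Q := by
            rw [← hker, MonoidHom.mem_ker, map_commutatorElement]
            have h1 : a * m * a⁻¹ ∈ M := hMn.conj_mem m hm a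
            have h2 : ⁅π m, π (a * m * a⁻¹)⁆ ∈ ⁅Kb, Kb⁆ :=
              Subgroup.commutator_mem_commutator hmM h1
            rwa [hab, Subgroup.mem_bot] at h2
          have := hmemst _ (hQst hc1)
          rwa [map_commutatorElement, map_mul, map_mul, map_inv] at this
        · have hc1 : m ^ Nat.card Kb ∈ Q := by
            rw [← hker, MonoidHom.mem_ker, map_pow]
            have h1 : (⟨π m, hmM⟩ : Kb) ^ Nat.card Kb = 1 := pow_card_eq_one'
            exact (Subgroup.coe_pow Kb ⟨π m, hmM⟩ _).symm.trans (congrArg Subtype.val h1)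
          have := hmemst _ (hQst hc1)
          rwa [map_pow] at this
      -- Step C
      have hC' : ∀ y ∈ M, (∀ i, y ∈ @sectionCentralizer _ _ (actSeries B Q i)
          (actSeries B Q (i + 1)) (hBi_n (i + 1))) → y ∈ Q := by
        intro y hyM hyst
        obtain ⟨j, s, hs, ho⟩ := Nat.exists_eq_pow_mul_and_not_dvd (orderOf_pos y).ne' p hp.ne_one
        set y1 := y ^ (p ^ j) with hy1
        have hy1o : (orderOf y1).Coprime p := by
          have h1 : y1 ^ s = 1 := by rw [hy1, ← pow_mul, ← ho, pow_orderOf_eq_one]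
          have h2 : orderOf y1 ∣ s := orderOf_dvd_of_pow_eq_one h1
          exact Nat.Coprime.coprime_dvd_left h2 ((Nat.Prime.coprime_iff_not_dvd hp).mpr hs).symm
        obtain ⟨N, hN⟩ := exists_actSeries_eq_bot hQp hBQ
        have hcomm := commute_of_stabilizes_chain y1 hy1o (actSeries B Q) hBp
          (actSeries_succ_le hQB) ?_ N hN
        · have hy1C : y1 ∈ C := by
            rw [hC, Subgroup.mem_centralizer_iff]
            intro r hr
            exact ((hcomm r hr).eq).symm
          have hy1Q : y1 ∈ Q := hCQ hy1C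
          have h3 : (π y) ^ (p ^ j) = 1 := by
            rw [← map_pow]
            have : y1 ∈ π.ker := by rw [hker]; exact hy1Q
            exact this
          have hyK : π y ∈ Kb := hyM
          have h4 : (π y) ^ (Nat.card Kb) = 1 := by
            have h1 : (⟨π y, hyK⟩ : Kb) ^ Nat.card Kb = 1 := pow_card_eq_one'
            exact (Subgroup.coe_pow Kb ⟨π y, hyK⟩ _).symm.trans (congrArg Subtype.val h1)
          have h5 := (pow_gcd_eq_one (a := π y)).mpr ⟨h3, h4⟩
          rw [Nat.Coprime.gcd_eq_one (Nat.Coprime.pow_left j hKc.symm), pow_one] at h5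
          rw [← hker]
          exact h5
        · intro i r hr
          have hi := hyst i
          have hV₁n := hBi_n (i + 1)
          exact mem_sectionCentralizer.mp (Subgroup.pow_mem _ hi _) r hr
      -- Step D
      have hcent : π a ∈ Subgroup.centralizer (Kb : Set (X ⧸ Q)) := by
        rw [Subgroup.mem_centralizer_iff]
        intro h hh
        obtain ⟨m, rfl⟩ := hsurj h
        have hmM : m ∈ M := hh
        have hcm : ⁅m, a⁆ ∈ M := by
          rw [commutatorElement_def]
          have h1 := hMn.conj_mem m⁻¹ (M.inv_mem hmM) a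
          have h2 := M.mul_mem hmM h1
          simpa [mul_assoc] using h2
        have := hC' ⁅m, a⁆ hcm (fun i => hA m hmM i)
        rw [← hker, MonoidHom.mem_ker, map_commutatorElement,
          commutatorElement_eq_one_iff_mul_comm] at this
        exact this
      have hZn : (Subgroup.centralizer (Kb : Set (X ⧸ Q))).Normal := Subgroup.normal_centralizer
      set E := (Subgroup.centralizer (Kb : Set (X ⧸ Q))).comap π with hE
      have hEn : E.Normal := hZn.comap π
      set TE := (T : Subgroup X) ⊓ E with hTE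
      have hQTE : Q ≤ TE := le_inf hQT (by rw [← hker]; exact Subgroup.ker_le_comap _ _)
      have hMT : M ⊔ (T : Subgroup X) = ⊤ := by
        rw [← Subgroup.index_eq_one]
        have h1 : (M ⊔ (T : Subgroup X)).index ∣ p ^ n := hMi ▸ Subgroup.index_dvd_of_le le_sup_left
        have h2 : (M ⊔ (T : Subgroup X)).index ∣ (T : Subgroup X).index :=
          Subgroup.index_dvd_of_le le_sup_right
        have h3 : p.Coprime (T : Subgroup X).index :=
          (Nat.Prime.coprime_iff_not_dvd hp).mpr T.not_dvd_index
        exact Nat.eq_one_of_dvd_coprimes (Nat.Coprime.pow_left n h3) h1 h2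
      have hTEn : TE.Normal := by
        rw [← Subgroup.normalizer_eq_top_iff, eq_top_iff, ← hMT]
        apply sup_le
        · intro m hm
          apply Subgroup.mem_normalizer_fintype
          intro x hx
          have hx' : x ∈ TE := hx
          have h1 : ⁅m, x⁆ ∈ Q := by
            rw [← hker, MonoidHom.mem_ker, map_commutatorElement,
              commutatorElement_eq_one_iff_mul_comm]
            exact Subgroup.mem_centralizer_iff.mp hx'.2 _ hm
          have h2 : m * x * m⁻¹ = ⁅m, x⁆ * x := by rw [commutatorElement_def]; group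
          rw [h2]
          exact TE.mul_mem (hQTE h1) hx'
        · calc (T : Subgroup X) ≤ Subgroup.normalizer ((T : Subgroup X) : Set X) ⊓
                Subgroup.normalizer (E : Set X) :=
                le_inf Subgroup.le_normalizer (by rw [Subgroup.normalizer_eq_top]; exact le_top)
            _ ≤ Subgroup.normalizer ((TE : Subgroup X) : Set X) :=
                Subgroup.inf_normalizer_le_normalizer_inf
      have hTEp : IsPGroup p TE := T.2.to_le inf_le_left
      exact le_pCore hTEn hTEp ⟨haT, hcent⟩
  · -- `M ≤ C ⊔ Q`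
    have hKC : Kb ≤ C.map π := by rw [← hD]; exact inf_le_left
    have hMCQ : M ≤ C ⊔ Q := by
      intro x hx
      obtain ⟨c, hc, hcx⟩ := hKC hx
      have h1 : c⁻¹ * x ∈ Q := by
        rw [← hker, MonoidHom.mem_ker, map_mul, map_inv, hcx, inv_mul_cancel]
      have h2 : x = c * (c⁻¹ * x) := by group
      rw [h2]
      exact Subgroup.mul_mem _ (Subgroup.mem_sup_left hc) (Subgroup.mem_sup_right h1)
    refine ⟨⊤, inferInstance, le_top, ?_, fun _ _ _ => Subgroup.mem_top _⟩
    rw [Subgroup.relIndex_top_right]
    have h1 : (C ⊔ Q).index ∣ p ^ n := hMi ▸ Subgroup.index_dvd_of_le hMCQ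
    have h2 : C.relIndex (C ⊔ Q) ∣ p ^ e := by
      rw [Subgroup.relIndex_sup_left, ← he]
      exact Subgroup.relIndex_dvd_card C Q
    have h3 : C.index ∣ p ^ (e + n) := by
      rw [← Subgroup.relIndex_mul_index (le_sup_left : C ≤ C ⊔ Q), pow_add]
      exact mul_dvd_mul h2 h1
    obtain ⟨k, -, hk⟩ := (Nat.dvd_prime_pow hp).mp h3
    exact ⟨k, hk⟩

end Cfsg.Agent.Lib.Helper11_NPCStable
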