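import Cfsg.Agent.Lib.Helper11_ZJ
import Cfsg.Agent.Lib.Helper32_Cores
import Cfsg.Agent.S0609
import Cfsg.Prelude.Def_Local

/-!
# Transport of the generic ZJ-functor `W` along homomorphisms injective on the subgroup, and
`p`-stability of the quotient by the `p'`-core (helper11)
-/

set_option autoImplicit false

namespace Cfsg.Agent.Lib.Helper11_ZJ3

open Cfsg Cfsg.Agent.Lib.Helper34_Sylow Cfsg.Agent.Lib.Helper11_ZJ

open scoped commutatorElement

section transport

variable {G H : Type*} [Group G] [Group H]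

theorem card_map_of_injOn (f : G →* H) (A : Subgroup G) (hinj : ∀ x ∈ A, f x = 1 → x = 1) :
    Nat.card (A.map f) = Nat.card A := by
  have hbij : Function.Bijective (f.subgroupMap A) := by
    refine ⟨?_, f.subgroupMap_surjective A⟩
    rw [injective_iff_map_eq_one]
    intro x hx
    apply Subtype.ext
    apply hinj _ x.2
    have := congrArg Subtype.val hx
    simpa using this
  exact (Nat.card_congr (Equiv.ofBijective _ hbij)).symm

theorem eq_of_map_eq_of_injOn (f : G →* H) (T : Subgroup G) (hinj : ∀ x ∈ T, f x = 1 → x = 1)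
    {x y : G} (hx : x ∈ T) (hy : y ∈ T) (h : f x = f y) : x = y := by
  have h1 : f (x * y⁻¹) = 1 := by rw [map_mul, map_inv, h, mul_inv_cancel]
  have := hinj _ (T.mul_mem hx (T.inv_mem hy)) h1
  exact mul_inv_eq_one.mp this

/-- every subgroup of `T.map f` is the image of a subgroup of `T` -/
theorem exists_map_eq_of_le_map (f : G →* H) (T : Subgroup G) {A' : Subgroup H}
    (hA' : A' ≤ T.map f) : ∃ A : Subgroup G, A ≤ T ∧ A.map f = A' := by
  refine ⟨A'.comap f ⊓ T, inf_le_right, ?_⟩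
  apply le_antisymm
  · rintro _ ⟨x, hx, rfl⟩
    exact hx.1
  · intro y hy
    obtain ⟨x, hx, rfl⟩ := hA' hy
    exact ⟨x, ⟨hy, hx⟩, rfl⟩

/-- the family of `T.map f` is the image of the family of `T`, for `f` injective on `T` -/
theorem maxFam_map_of_injOn (f : G →* H) (T : Subgroup G) (hinj : ∀ x ∈ T, f x = 1 → x = 1)
    {Pr : Subgroup G → Prop} {Pr' : Subgroup H → Prop}
    (hPr : ∀ A : Subgroup G, A ≤ T → (Pr' (A.map f) ↔ Pr A)) :
    maxFam Pr' (T.map f) = Set.image (fun A : Subgroup G => A.map f) (maxFam Pr T) := by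
  have hcard : ∀ A : Subgroup G, A ≤ T → Nat.card (A.map f) = Nat.card A := fun A hA =>
    card_map_of_injOn f A (fun x hx => hinj x (hA hx))
  ext U
  constructor
  · rintro ⟨h1, h2, h3⟩
    obtain ⟨A, hAT, rfl⟩ := exists_map_eq_of_le_map f T h1
    refine ⟨A, ⟨hAT, (hPr A hAT).mp h2, ?_⟩, rfl⟩
    intro A₁ hA₁T hA₁
    have := h3 (A₁.map f) (Subgroup.map_mono hA₁T) ((hPr A₁ hA₁T).mpr hA₁)
    rwa [hcard A₁ hA₁T, hcard A hAT] at this
  · rintro ⟨A, ⟨hAT, h2, h3⟩, rfl⟩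
    refine ⟨Subgroup.map_mono hAT, (hPr A hAT).mpr h2, ?_⟩
    intro A' hA'T hA'
    obtain ⟨A₁, hA₁T, rfl⟩ := exists_map_eq_of_le_map f T hA'T
    rw [hcard A₁ hA₁T, hcard A hAT]
    exact h3 A₁ hA₁T ((hPr A₁ hA₁T).mp hA')

/-- `W` commutes with homomorphisms injective on the subgroup -/
theorem W_map_of_injOn [Finite G] (f : G →* H) (T : Subgroup G)
    (hinj : ∀ x ∈ T, f x = 1 → x = 1)
    {Pr : Subgroup G → Prop} {Pr' : Subgroup H → Prop} (hbot : Pr ⊥)
    (hPr : ∀ A : Subgroup G, A ≤ T → (Pr' (A.map f) ↔ Pr A)) :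
    W Pr' (T.map f) = (W Pr T).map f := by
  unfold W
  rw [maxFam_map_of_injOn f T hinj hPr]
  apply le_antisymm
  · intro y hy
    obtain ⟨A₀, hA₀⟩ := maxFam_nonempty hbot T
    have hy0 : y ∈ A₀.map f := (Subgroup.mem_sInf.mp hy) _ ⟨A₀, hA₀, rfl⟩
    obtain ⟨x, hx, rfl⟩ := hy0
    refine ⟨x, ?_, rfl⟩
    show x ∈ sInf (maxFam Pr T)
    rw [Subgroup.mem_sInf]
    intro A hA
    have hxA : f x ∈ A.map f := (Subgroup.mem_sInf.mp hy) _ ⟨A, hA, rfl⟩
    obtain ⟨x', hx', hxx'⟩ := hxA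
    have := eq_of_map_eq_of_injOn f T hinj (hA.1 hx') (hA₀.1 hx) hxx'
    rwa [← this]
  · apply le_sInf
    rintro _ ⟨A, hA, rfl⟩
    exact Subgroup.map_mono (sInf_le hA)

end transport

variable {G : Type*} [Group G]

/-- a sufficient condition for `StableOn`: the quadratically acting elements of `S` map into
`O_p(G / C_G(B))`. -/
theorem stableOn_of_forall_mem_pCore [Finite G] {p : ℕ} [Fact p.Prime] (S B : Subgroup G)
    [B.Normal]
    (h : ∀ a ∈ S, ⁅⁅B, Subgroup.zpowers a⁆, Subgroup.zpowers a⁆ = ⊥ →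
      (QuotientGroup.mk a : G ⧸ Subgroup.centralizer (B : Set G)) ∈
        pCore p (G ⧸ Subgroup.centralizer (B : Set G))) : StableOn p S B := by
  have hQp : IsPGroup p (pCore p (G ⧸ Subgroup.centralizer (B : Set G))) :=
    Cfsg.Agent.Lib.Helper1_Cores.pCore_isPGroup p
  have hQn : (pCore p (G ⧸ Subgroup.centralizer (B : Set G))).Normal :=
    Cfsg.Agent.Lib.Helper1_Cores.pCore_normal p
  refine ⟨(pCore p (G ⧸ Subgroup.centralizer (B : Set G))).comap
    (QuotientGroup.mk' (Subgroup.centralizer (B : Set G))), ?_, ?_, ?_, ?_⟩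
  · exact Subgroup.Normal.comap hQn _
  · have := Subgroup.ker_le_comap (QuotientGroup.mk' (Subgroup.centralizer (B : Set G)))
      (pCore p (G ⧸ Subgroup.centralizer (B : Set G)))
    rwa [QuotientGroup.ker_mk'] at this
  · obtain ⟨k, hk⟩ := IsPGroup.iff_card.mp hQp
    refine ⟨k, ?_⟩
    have h1 := Subgroup.relIndex_comap (⊥ : Subgroup (G ⧸ Subgroup.centralizer (B : Set G)))
      (QuotientGroup.mk' (Subgroup.centralizer (B : Set G)))
      ((pCore p (G ⧸ Subgroup.centralizer (B : Set G))).comap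
        (QuotientGroup.mk' (Subgroup.centralizer (B : Set G))))
    have h2 : (⊥ : Subgroup (G ⧸ Subgroup.centralizer (B : Set G))).comap
        (QuotientGroup.mk' (Subgroup.centralizer (B : Set G))) =
          Subgroup.centralizer (B : Set G) := by
      rw [MonoidHom.comap_bot, QuotientGroup.ker_mk']
    rw [h2, Subgroup.relIndex_bot_left, Subgroup.map_comap_eq_self_of_surjective
      (QuotientGroup.mk'_surjective _), hk] at h1
    exact h1
  · intro a ha hq
    exact h a ha hq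

/-- **`p`-stability passes to the quotient by the `p'`-core** (in the `StableOn` form): if `G` is
`p`-stable, then `G / O_{p'}(G)` acts `p`-stably on each of its normal `p`-subgroups. -/
theorem stableOn_quotient_of_isPStable [Finite G] {p : ℕ} [Fact p.Prime]
    (hs : Cfsg.IsPStable p G) (P : Sylow p G)
    (Bb : Subgroup (G ⧸ pPrimeCore p G)) [hBbn : Bb.Normal] (hBb : IsPGroup p Bb) :
    StableOn p ((P : Subgroup G).map (QuotientGroup.mk' (pPrimeCore p G))) Bb := by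
  have hKcop : (Nat.card (pPrimeCore p G)).Coprime p :=
    Cfsg.Agent.Lib.Helper1_Cores.pPrimeCore_card_coprime p
  have hπsurj : Function.Surjective (QuotientGroup.mk' (pPrimeCore p G)) :=
    QuotientGroup.mk'_surjective _
  have hker : (QuotientGroup.mk' (pPrimeCore p G)).ker = pPrimeCore p G :=
    QuotientGroup.ker_mk' _
  set π := QuotientGroup.mk' (pPrimeCore p G) with hπ
  have hB₁n : (Bb.comap π).Normal := Subgroup.Normal.comap hBbn π
  have hP₀p : IsPGroup p ↥((P : Subgroup G) ⊓ Bb.comap π) := P.isPGroup'.to_le inf_le_left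
  have hP₀K : ((P : Subgroup G) ⊓ Bb.comap π) ⊓ pPrimeCore p G = ⊥ :=
    Cfsg.Agent.Lib.Helper32_Sylow.inf_eq_bot_of_pgroup_of_coprime hP₀p hKcop
  -- `Bb` is the image of `P₀`
  have hBbP : Bb ≤ (P : Subgroup G).map π := by
    have h1 : Bb ≤ pCore p (G ⧸ pPrimeCore p G) :=
      Cfsg.Agent.Lib.Helper1_Cores.le_pCore hBbn hBb
    have h2 := Cfsg.Agent.Lib.Helper1_Cores.pCore_le_sylow p (P.mapSurjective hπsurj)
    rw [Sylow.coe_mapSurjective] at h2
    exact h1.trans h2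
  have hmap : ((P : Subgroup G) ⊓ Bb.comap π).map π = Bb := by
    apply le_antisymm
    · rintro _ ⟨x, hx, rfl⟩
      exact hx.2
    · intro b hb
      obtain ⟨x, hx, rfl⟩ := hBbP hb
      exact ⟨x, ⟨hx, hb⟩, rfl⟩
  have hsup : pPrimeCore p G ⊔ ((P : Subgroup G) ⊓ Bb.comap π) = Bb.comap π := by
    apply le_antisymm
    · apply sup_le
      · intro k hk
        show π k ∈ Bb
        have : π k = 1 := by rw [← MonoidHom.mem_ker, hker]; exact hk
        rw [this]; exact one_mem _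
      · exact inf_le_right
    · intro x hx
      have hx' : π x ∈ ((P : Subgroup G) ⊓ Bb.comap π).map π := by rw [hmap]; exact hx
      obtain ⟨y, hy, hxy⟩ := hx'
      have hk : x * y⁻¹ ∈ pPrimeCore p G := by
        rw [← hker, MonoidHom.mem_ker, map_mul, map_inv, hxy, mul_inv_cancel]
      have e : x = (x * y⁻¹) * y := by group
      rw [e]
      exact Subgroup.mul_mem_sup hk hy
  have hP₀core : (P : Subgroup G) ⊓ Bb.comap π ≤ pPrimePCore p G := by
    intro x hx
    show π x ∈ pCore p (G ⧸ pPrimeCore p G)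
    exact Cfsg.Agent.Lib.Helper1_Cores.le_pCore hBbn hBb hx.2
  apply stableOn_of_forall_mem_pCore
  rintro _ ⟨a, ha, rfl⟩ hquad
  have hza : Subgroup.zpowers a ≤ (P : Subgroup G) := by
    rw [Subgroup.zpowers_le]; exact ha
  have hAp : IsPGroup p (Subgroup.zpowers a) := P.isPGroup'.to_le hza
  have hnorm : ∀ x ∈ Subgroup.zpowers a, ∀ y ∈ (P : Subgroup G) ⊓ Bb.comap π,
      x * y * x⁻¹ ∈ (P : Subgroup G) ⊓ Bb.comap π := by
    intro x hx y hy
    have hxP : x ∈ (P : Subgroup G) := hza hx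
    exact ⟨Subgroup.mul_mem _ (Subgroup.mul_mem _ hxP hy.1) (Subgroup.inv_mem _ hxP),
      hB₁n.conj_mem y hy.2 x⟩
  have hcomm1 : ⁅(P : Subgroup G) ⊓ Bb.comap π, Subgroup.zpowers a⁆ ≤
      (P : Subgroup G) ⊓ Bb.comap π := by
    rw [Subgroup.commutator_le]
    intro y hy z hz
    have h1 := hnorm z hz y⁻¹ (Subgroup.inv_mem _ hy)
    have e : ⁅y, z⁆ = y * (z * y⁻¹ * z⁻¹) := by rw [commutatorElement_def]; group
    rw [e]
    exact Subgroup.mul_mem _ hy h1
  have hq : ⁅⁅(P : Subgroup G) ⊓ Bb.comap π, Subgroup.zpowers a⁆, Subgroup.zpowers a⁆ = ⊥ := by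
    have h1 : ⁅⁅(P : Subgroup G) ⊓ Bb.comap π, Subgroup.zpowers a⁆, Subgroup.zpowers a⁆ ≤
        (P : Subgroup G) ⊓ Bb.comap π :=
      (Subgroup.commutator_mono hcomm1 le_rfl).trans hcomm1
    have h2 : ⁅⁅(P : Subgroup G) ⊓ Bb.comap π, Subgroup.zpowers a⁆, Subgroup.zpowers a⁆ ≤
        pPrimeCore p G := by
      have h3 : ⁅⁅(P : Subgroup G) ⊓ Bb.comap π, Subgroup.zpowers a⁆, Subgroup.zpowers a⁆ ≤
          π.ker := by
        rw [← Subgroup.map_eq_bot_iff, Subgroup.map_commutator, Subgroup.map_commutator,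
          hmap, MonoidHom.map_zpowers]
        exact hquad
      rwa [hker] at h3
    rw [eq_bot_iff, ← hP₀K]
    exact le_inf h1 h2
  have hsupn : (pPrimeCore p G ⊔ ((P : Subgroup G) ⊓ Bb.comap π)).Normal := by
    rw [hsup]; exact hB₁n
  have key := hs.2.2 (Subgroup.zpowers a) ((P : Subgroup G) ⊓ Bb.comap π) hAp hP₀p hnorm
    hP₀core hsupn hq
  -- notation
  set P₀ : Subgroup G := (P : Subgroup G) ⊓ Bb.comap π with hP₀
  set N₀ : Subgroup G := Subgroup.normalizer (P₀ : Set G) with hN₀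
  set C₀' : Subgroup ↥N₀ := (Subgroup.centralizer (P₀ : Set G)).subgroupOf N₀ with hC₀'
  set Cb : Subgroup (G ⧸ pPrimeCore p G) :=
    Subgroup.centralizer (Bb : Set (G ⧸ pPrimeCore p G)) with hCb
  have hCbn : Cb.Normal := Subgroup.normal_centralizer
  have hC₀'n : C₀'.Normal := by
    rw [hC₀']
    infer_instance
  have haN : a ∈ N₀ := by
    have h1 : a ∈ Subgroup.normalizer ((P : Subgroup G) : Set G) := Subgroup.le_normalizer ha
    have h2 : a ∈ Subgroup.normalizer ((Bb.comap π : Subgroup G) : Set G) := by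
      rw [Subgroup.normalizer_eq_top (Bb.comap π)]; exact Subgroup.mem_top a
    exact Subgroup.inf_normalizer_le_normalizer_inf ⟨h1, h2⟩
  -- the homomorphism `N₀ → (G/K)/C̄`
  let ψ : ↥N₀ →* (G ⧸ pPrimeCore p G) ⧸ Cb := (QuotientGroup.mk' Cb).comp (π.comp N₀.subtype)
  have hψsurj : Function.Surjective ψ := by
    intro z
    obtain ⟨gb, rfl⟩ := QuotientGroup.mk'_surjective Cb z
    obtain ⟨g, rfl⟩ := hπsurj gb
    obtain ⟨l, hl, n, hn, rfl⟩ := Cfsg.Agent.S0608.frattini_inf P (Bb.comap π) g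
    rw [← hsup] at hl
    obtain ⟨k, hk, y, hy, rfl⟩ := Subgroup.mem_sup_of_normal_left.mp hl
    have hyN : y ∈ N₀ := Subgroup.le_normalizer hy
    refine ⟨⟨y * n, Subgroup.mul_mem _ hyN hn⟩, ?_⟩
    show QuotientGroup.mk' Cb (π (y * n)) = QuotientGroup.mk' Cb (π (k * y * n))
    have hk1 : π k = 1 := by rw [← MonoidHom.mem_ker, hker]; exact hk
    rw [map_mul π (k * y) n, map_mul π k y, hk1, one_mul, ← map_mul]
  have hψC : ∀ x : ↥N₀, x ∈ C₀' → ψ x = 1 := by
    intro x hx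
    show QuotientGroup.mk' Cb (π (x : G)) = 1
    rw [← MonoidHom.mem_ker, QuotientGroup.ker_mk', hCb, Subgroup.mem_centralizer_iff]
    intro b hb
    rw [← hmap] at hb
    obtain ⟨y, hy, rfl⟩ := hb
    have hx' : (x : G) ∈ Subgroup.centralizer (P₀ : Set G) := hx
    rw [← map_mul, ← map_mul, Subgroup.mem_centralizer_iff.mp hx' y hy]
  have hQp : IsPGroup p (pCore p (↥N₀ ⧸ C₀')) := Cfsg.Agent.Lib.Helper1_Cores.pCore_isPGroup p
  have hQn : (pCore p (↥N₀ ⧸ C₀')).Normal := Cfsg.Agent.Lib.Helper1_Cores.pCore_normal p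
  have hL₀n : ((pCore p (↥N₀ ⧸ C₀')).comap (QuotientGroup.mk' C₀')).Normal :=
    Subgroup.Normal.comap hQn _
  have hYn : (((pCore p (↥N₀ ⧸ C₀')).comap (QuotientGroup.mk' C₀')).map ψ).Normal :=
    Subgroup.Normal.map hL₀n ψ hψsurj
  have hYp : IsPGroup p (((pCore p (↥N₀ ⧸ C₀')).comap (QuotientGroup.mk' C₀')).map ψ) := by
    rintro ⟨_, x, hx, rfl⟩
    obtain ⟨k, hk⟩ := hQp ⟨QuotientGroup.mk' C₀' x, hx⟩
    refine ⟨k, ?_⟩
    apply Subtype.ext
    have h1 : (QuotientGroup.mk' C₀' x) ^ p ^ k = 1 := by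
      have := congrArg Subtype.val hk
      simpa using this
    have h2 : x ^ p ^ k ∈ C₀' := by
      rw [← QuotientGroup.ker_mk' C₀', MonoidHom.mem_ker, map_pow]
      exact h1
    have h3 := hψC _ h2
    rw [map_pow] at h3
    simpa using h3
  have hY := Cfsg.Agent.Lib.Helper1_Cores.le_pCore hYn hYp
  apply hY
  refine ⟨⟨a, haN⟩, ?_, rfl⟩
  show QuotientGroup.mk' C₀' ⟨a, haN⟩ ∈ pCore p (↥N₀ ⧸ C₀')
  apply key
  refine ⟨⟨a, haN⟩, ?_, rfl⟩
  show a ∈ Subgroup.zpowers a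
  exact Subgroup.mem_zpowers a

end Cfsg.Agent.Lib.Helper11_ZJ3
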