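import Cfsg.Agent.S2005
import Cfsg.Agent.Lib.Helper11_ZJ2
import Cfsg.Agent.Lib.Helper11_ZJ3
import Cfsg.Agent.Lib.Helper11_NPCStable
import Cfsg.Agent.Lib.Helper32_PGroup

/-!
# The Glauberman–Thompson normal `p`-complement criterion for strongly closed subgroups (helper11)

`Pr` is a family of subgroup properties, one for every group of a fixed universe, compatible with
homomorphisms injective on the subgroup, admissible in the sense of `Helper11_ZJ2.AdmissibleD`
(replacement property) and with `W (Pr Y) D ≠ ⊥` for nontrivial `p`-subgroups `D`.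
Main result `main`: if `D` is strongly closed in the Sylow `p`-subgroup `S` of `G` and
`N_G(W (Pr G) D)` has a normal `p`-complement (p odd), then so has `G`.
-/

set_option autoImplicit false

namespace Cfsg.Agent.Lib.Helper11_NPCD

open Cfsg Cfsg.Agent.Lib.Helper11_ZJ Cfsg.Agent.Lib.Helper11_ZJ2 Cfsg.Agent.Lib.Helper11_ZJ3
  Cfsg.Agent.Lib.Helper35_FrobeniusNPC Cfsg.Agent.Lib.Helper34_NPC Cfsg.Agent.Lib.Helper34_Sylow

universe u

/-- a family of subgroup properties, one for each group -/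
structure PFam (p : ℕ) (Pr : ∀ (Y : Type u) [Group Y], Subgroup Y → Prop) : Prop where
  adm : ∀ (Y : Type u) [Group Y] [Finite Y], AdmissibleD p (Pr Y)
  transport : ∀ {X Y : Type u} [Group X] [Group Y] (f : X →* Y) (A : Subgroup X),
    (∀ x ∈ A, f x = 1 → x = 1) → (Pr Y (A.map f) ↔ Pr X A)
  ne_bot : ∀ (Y : Type u) [Group Y] [Finite Y] (D : Subgroup Y), IsPGroup p D → D ≠ ⊥ →
    W (Pr Y) D ≠ ⊥

section basic

variable {G : Type u} [Group G]

/-- strong closure, as a pair of properties -/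
theorem isStronglyClosed_cj {D S : Subgroup G} (h : IsStronglyClosed D S) (g : G) :
    IsStronglyClosed (cj g D) (cj g S) := by
  obtain ⟨hDS, hsc⟩ := h
  refine ⟨cj_mono hDS, ?_⟩
  rintro _ ⟨d, hd, rfl⟩ k hk
  rw [mem_cj] at hk ⊢
  have e : g⁻¹ * (k * (MulAut.conj g).toMonoidHom d * k⁻¹) * g =
      (g⁻¹ * k * g) * d * (g⁻¹ * k * g)⁻¹ := by
    simp only [MulEquiv.coe_toMonoidHom, MulAut.conj_apply]; group
  rw [e] at hk ⊢
  exact hsc d hd _ hk

/-- restriction of a strongly closed subgroup to a subgroup `N` and a subgroup `T ≤ S ⊓ N` -/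
theorem isStronglyClosed_subgroupOf {D S : Subgroup G} (h : IsStronglyClosed D S)
    (N T : Subgroup G) (hTS : T ≤ S) :
    IsStronglyClosed ((T ⊓ D).subgroupOf N) (T.subgroupOf N) := by
  obtain ⟨hDS, hsc⟩ := h
  refine ⟨fun x hx => ?_, ?_⟩
  · rw [Subgroup.mem_subgroupOf] at hx ⊢
    exact hx.1
  intro x hx g hg
  rw [Subgroup.mem_subgroupOf] at hx hg ⊢
  have hg' : (g : G) * (x : G) * (g : G)⁻¹ ∈ T := by simpa using hg
  have : (g : G) * (x : G) * (g : G)⁻¹ ∈ T ⊓ D := ⟨hg', hsc _ hx.2 _ (hTS hg')⟩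
  simpa using this

/-- image of a strongly closed subgroup modulo a normal `p`-subgroup contained in `S` -/
theorem isStronglyClosed_map_of_le {D S : Subgroup G} (h : IsStronglyClosed D S)
    (R : Subgroup G) [R.Normal] (hRS : R ≤ S) :
    IsStronglyClosed (D.map (QuotientGroup.mk' R)) (S.map (QuotientGroup.mk' R)) := by
  obtain ⟨hDS, hsc⟩ := h
  refine ⟨Subgroup.map_mono hDS, ?_⟩
  rintro _ ⟨d, hd, rfl⟩ y hy
  obtain ⟨g, rfl⟩ := QuotientGroup.mk'_surjective R y
  rw [← map_inv, ← map_mul, ← map_mul] at hy ⊢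
  have h1 : g * d * g⁻¹ ∈ (S.map (QuotientGroup.mk' R)).comap (QuotientGroup.mk' R) := hy
  rw [Subgroup.comap_map_eq, QuotientGroup.ker_mk', sup_eq_left.mpr hRS] at h1
  exact ⟨_, hsc d hd g h1, rfl⟩

/-- image of a strongly closed subgroup modulo a normal `p'`-subgroup -/
theorem isStronglyClosed_map_of_coprime [Finite G] {p : ℕ} [Fact p.Prime] {D : Subgroup G}
    (S : Sylow p G) (h : IsStronglyClosed D (S : Subgroup G))
    (L : Subgroup G) [L.Normal] :
    IsStronglyClosed (D.map (QuotientGroup.mk' L)) ((S : Subgroup G).map (QuotientGroup.mk' L)) := by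
  obtain ⟨hDS, hsc⟩ := h
  refine ⟨Subgroup.map_mono hDS, ?_⟩
  rintro _ ⟨d, hd, rfl⟩ y hy
  obtain ⟨g, rfl⟩ := QuotientGroup.mk'_surjective L y
  rw [← map_inv, ← map_mul, ← map_mul] at hy ⊢
  have h1 : g * d * g⁻¹ ∈ ((S : Subgroup G).map (QuotientGroup.mk' L)).comap (QuotientGroup.mk' L) :=
    hy
  rw [Subgroup.comap_map_eq, QuotientGroup.ker_mk'] at h1
  -- conjugate the cyclic `p`-group generated by `g d g⁻¹` into `S` inside `S ⊔ L`
  set u := g * d * g⁻¹ with hu
  have hUp : IsPGroup p (Subgroup.zpowers u) := by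
    have hdp : IsPGroup p (Subgroup.zpowers d) :=
      S.2.to_le ((Subgroup.zpowers_le).mpr (hDS hd))
    have : Subgroup.zpowers u = cj g (Subgroup.zpowers d) := by
      rw [hu]
      show _ = (Subgroup.zpowers d).map (MulAut.conj g).toMonoidHom
      rw [MonoidHom.map_zpowers]
      rfl
    rw [this]
    exact isPGroup_cj hdp
  have hUH : Subgroup.zpowers u ≤ (S : Subgroup G) ⊔ L := (Subgroup.zpowers_le).mpr h1
  have hidx : ¬ p ∣ (S : Subgroup G).relIndex ((S : Subgroup G) ⊔ L) := fun hdvd =>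
    S.not_dvd_index (hdvd.trans (Subgroup.relIndex_dvd_index_of_le le_sup_left))
  obtain ⟨x, hxH, hx⟩ := exists_cj_le_of_relIndex S.2 hidx hUH hUp
  -- write `x` as `s * l`
  have hπx : QuotientGroup.mk' L x ∈ (S : Subgroup G).map (QuotientGroup.mk' L) := by
    have : ((S : Subgroup G) ⊔ L).map (QuotientGroup.mk' L) =
        (S : Subgroup G).map (QuotientGroup.mk' L) := by
      rw [Subgroup.map_sup]
      have : L.map (QuotientGroup.mk' L) = ⊥ := by
        rw [Subgroup.map_eq_bot_iff, QuotientGroup.ker_mk']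
      rw [this, sup_bot_eq]
    rw [← this]
    exact ⟨x, hxH, rfl⟩
  obtain ⟨s, hs, hsx⟩ := hπx
  have hl : s⁻¹ * x ∈ L := by
    rw [← QuotientGroup.ker_mk' L, MonoidHom.mem_ker, map_mul, map_inv, hsx, inv_mul_cancel]
  have h2 : (s⁻¹ * x) * u * (s⁻¹ * x)⁻¹ ∈ (S : Subgroup G) := by
    have h3 : x * u * x⁻¹ ∈ (S : Subgroup G) :=
      hx (conj_mem_cj (Subgroup.mem_zpowers u))
    have h4 := (S : Subgroup G).mul_mem ((S : Subgroup G).mul_mem ((S : Subgroup G).inv_mem hs) h3) hs
    have e : (s⁻¹ * x) * u * (s⁻¹ * x)⁻¹ = s⁻¹ * (x * u * x⁻¹) * s := by group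
    rw [e]; exact h4
  have h5 : (s⁻¹ * x * g) * d * (s⁻¹ * x * g)⁻¹ ∈ D := by
    apply hsc d hd
    have e : (s⁻¹ * x * g) * d * (s⁻¹ * x * g)⁻¹ = (s⁻¹ * x) * u * (s⁻¹ * x)⁻¹ := by
      rw [hu]; group
    rw [e]; exact h2
  refine ⟨_, h5, ?_⟩
  have e : (s⁻¹ * x * g) * d * (s⁻¹ * x * g)⁻¹ = (s⁻¹ * x) * u * (s⁻¹ * x)⁻¹ := by
    rw [hu]; group
  have hl' : QuotientGroup.mk' L (s⁻¹ * x) = 1 := by
    rw [← MonoidHom.mem_ker, QuotientGroup.ker_mk']; exact hl
  rw [e, map_mul, map_mul, map_inv, hl']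
  simp

end basic

section Wlemmas

variable {p : ℕ} {Pr : ∀ (Y : Type u) [Group Y], Subgroup Y → Prop}

theorem W_map' (hPr : PFam p Pr) {X Y : Type u} [Group X] [Group Y] [Finite X] (f : X →* Y)
    (T : Subgroup X) (hinj : ∀ x ∈ T, f x = 1 → x = 1) :
    W (Pr Y) (T.map f) = (W (Pr X) T).map f :=
  W_map_of_injOn f T hinj (hPr.adm X).bot
    (fun A hA => hPr.transport f A (fun x hx => hinj x (hA hx)))

theorem W_le' (hPr : PFam p Pr) {Y : Type u} [Group Y] [Finite Y] (D : Subgroup Y) :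
    W (Pr Y) D ≤ D := W_le (hPr.adm Y).bot D

theorem W_cj (hPr : PFam p Pr) {G : Type u} [Group G] [Finite G] (g : G) (D : Subgroup G) :
    W (Pr G) (cj g D) = cj g (W (Pr G) D) :=
  (W_map (hPr.adm G).map (MulAut.conj g) D).symm

theorem normalizer_le_normalizer_W (hPr : PFam p Pr) {G : Type u} [Group G] [Finite G]
    (D : Subgroup G) :
    Subgroup.normalizer (D : Set G) ≤ Subgroup.normalizer ((W (Pr G) D : Subgroup G) : Set G) := by
  intro n hn
  apply Subgroup.mem_normalizer_fintype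
  intro x hx
  exact conj_mem_W (hPr.adm G).map hn hx

/-- the hypothesis on `N_G(W(D))` is invariant under conjugation -/
theorem hasNPC_cj [Fact p.Prime] (hPr : PFam p Pr) {G : Type u} [Group G] [Finite G] (D : Subgroup G)
    (hN : HasNPC p ↥(Subgroup.normalizer ((W (Pr G) D : Subgroup G) : Set G))) (g : G) :
    HasNPC p ↥(Subgroup.normalizer ((W (Pr G) (cj g D) : Subgroup G) : Set G)) := by
  have h2 : Subgroup.normalizer ((W (Pr G) (cj g D) : Subgroup G) : Set G) =
      (Subgroup.normalizer ((W (Pr G) D : Subgroup G) : Set G)).map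
        (MulAut.conj g).toMonoidHom := by
    rw [W_cj hPr, ← cj_normalizer]
  exact hasNPC_of_eq h2.symm (hasNPC_map _ _ hN)

end Wlemmas

section steps

open Cfsg.Agent.S2005 Cfsg.Agent.Lib.Helper33_Alperin

variable {p : ℕ} [Fact p.Prime] {Pr : ∀ (Y : Type u) [Group Y], Subgroup Y → Prop}

/-- the induction hypothesis -/
def IHyp (p : ℕ) (Pr : ∀ (Y : Type u) [Group Y], Subgroup Y → Prop) (n : ℕ) : Prop :=
  ∀ (Y : Type u) [Group Y] [Finite Y], Nat.card Y < n → ∀ (S : Sylow p Y) (D : Subgroup Y),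
    IsStronglyClosed D (S : Subgroup Y) →
    HasNPC p ↥(Subgroup.normalizer ((W (Pr Y) D : Subgroup Y) : Set Y)) → HasNPC p Y

/-- Step: the normalizer of a maximal bad subgroup is the whole group. -/
theorem normalizer_eq_top (hPr : PFam p Pr) {G : Type u} [Group G] [Finite G]
    (IH : IHyp p Pr (Nat.card G))
    (S : Sylow p G) (D : Subgroup G) (hD : IsStronglyClosed D (S : Subgroup G)) (hDne : D ≠ ⊥)
    (hN : HasNPC p ↥(Subgroup.normalizer ((W (Pr G) D : Subgroup G) : Set G)))
    (H : Subgroup G) (hHp : IsPGroup p H) (hHne : H ≠ ⊥)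
    (hHbad : ¬ HasNPC p ↥(Subgroup.normalizer (H : Set G)))
    (hmax : ∀ Q : Subgroup G, IsPGroup p Q → Q ≠ ⊥ →
      ¬ HasNPC p ↥(Subgroup.normalizer (Q : Set G)) → mu p Q ≤ mu p H) :
    Subgroup.normalizer (H : Set G) = ⊤ := by
  by_contra hNtop
  set N := Subgroup.normalizer (H : Set G) with hNdef
  have hcardN : Nat.card N < Nat.card G := by
    rw [← Subgroup.card_top (G := G)]
    exact Helper11_ZJ.card_lt_of_lt (lt_top_iff_ne_top.mpr hNtop)
  apply hHbad
  obtain ⟨TN⟩ : Nonempty (Sylow p N) := inferInstance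
  set T : Subgroup G := (TN : Subgroup N).map N.subtype with hT
  have hTp : IsPGroup p T := TN.2.map _
  have hTN : T ≤ N := Subgroup.map_subtype_le _
  have hTcard : Nat.card T = p ^ vp p N := card_sylow_subgroup N TN
  obtain ⟨S', hS'⟩ := hTp.exists_le_sylow
  -- `S' = cj g S`
  have hidxS' : ¬ p ∣ (S' : Subgroup G).relIndex ⊤ := by
    rw [Subgroup.relIndex_top_right]; exact S'.not_dvd_index
  obtain ⟨g, -, hg⟩ := exists_cj_le_of_relIndex S'.2 hidxS' (le_top : (S : Subgroup G) ≤ ⊤) S.2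
  have hgS : cj g (S : Subgroup G) = (S' : Subgroup G) := by
    apply Subgroup.eq_of_le_of_card_ge hg
    rw [Helper34_Sylow.card_cj, Cfsg.Agent.Lib.Helper35_FrobeniusNPC.sylow_card_eq S' S]
  set D' := cj g D with hD'def
  have hD' : IsStronglyClosed D' (S' : Subgroup G) := hgS ▸ isStronglyClosed_cj hD g
  have hN' : HasNPC p ↥(Subgroup.normalizer ((W (Pr G) D' : Subgroup G) : Set G)) :=
    hasNPC_cj hPr D hN g
  have hD'ne : D' ≠ ⊥ := by
    intro h
    apply hDne
    exact (Subgroup.map_eq_bot_iff_of_injective _ (MulAut.conj g).injective).mp h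
  have hS'D' : (S' : Subgroup G) ≤ Subgroup.normalizer (D' : Set G) :=
    le_normalizer_of_stronglyClosed hD'.1 hD'.2
  -- apply the induction hypothesis to `N`
  have hTNeq : (TN : Subgroup N) = T.subgroupOf N := by
    rw [hT]
    ext x
    rw [Subgroup.mem_subgroupOf]
    constructor
    · intro hx
      exact ⟨x, hx, rfl⟩
    · rintro ⟨y, hy, hyx⟩
      have : y = x := Subtype.ext hyx
      rwa [← this]
  have hsc := isStronglyClosed_subgroupOf hD' N T hS'
  rw [← hTNeq] at hsc
  apply IH N hcardN TN _ hsc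
  apply hasNPC_normalizer_of_map
  have hfun : (W (Pr ↥N) ((T ⊓ D').subgroupOf N)).map N.subtype = W (Pr G) (T ⊓ D') := by
    rw [← W_map' hPr N.subtype _ (fun x _ hx => Subtype.ext hx),
      Subgroup.subgroupOf_map_subtype, inf_eq_left.mpr (inf_le_left.trans hTN)]
  rw [hfun]
  rcases eq_or_lt_of_le hS' with hTS | hTS
  · have : T ⊓ D' = D' := inf_eq_right.mpr (hTS ▸ hD'.1)
    rw [this]; exact hN'
  · by_contra hbad
    have hHN : H ≤ N := Subgroup.le_normalizer
    have hHT : H ≤ T := by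
      have hHn : (H.subgroupOf N).Normal := Subgroup.normal_in_normalizer
      have h1 : H.subgroupOf N ≤ (TN : Subgroup N) :=
        IsPGroup.le_sylow_of_normal (N := H.subgroupOf N) (hHp.comap_subtype) TN
      intro x hx
      exact ⟨⟨x, hHN hx⟩, h1 (Subgroup.mem_subgroupOf.mpr hx), rfl⟩
    have hS'N : (S' : Subgroup G) ⊓ N = T := by
      symm
      apply Subgroup.eq_of_le_of_card_ge (le_inf hS' hTN)
      rw [hTcard]
      exact card_le_of_isPGroup_le (S'.2.to_le inf_le_left) inf_le_right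
    -- a nontrivial element of `D' ⊓ Z(S')`
    have hD'n : (D'.subgroupOf (S' : Subgroup G)).Normal := by
      rw [← Subgroup.normalizer_eq_top_iff, eq_top_iff]
      intro x _
      have hx := hS'D' x.2
      rw [Subgroup.mem_normalizer_iff] at hx ⊢
      intro y
      rw [Subgroup.mem_subgroupOf, Subgroup.mem_subgroupOf]
      exact hx y
    have hD'sne : D'.subgroupOf (S' : Subgroup G) ≠ ⊥ := by
      intro h
      apply hD'ne
      rw [eq_bot_iff]
      intro x hx
      have : (⟨x, hD'.1 hx⟩ : (S' : Subgroup G)) ∈ D'.subgroupOf (S' : Subgroup G) :=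
        Subgroup.mem_subgroupOf.mpr hx
      rw [h, Subgroup.mem_bot] at this
      rw [Subgroup.mem_bot]
      exact congrArg Subtype.val this
    obtain ⟨z, hzD, hzc, hz1⟩ := Cfsg.Agent.Lib.Helper32_PGroup.exists_mem_center_of_normal
      (G := ↥(S' : Subgroup G)) S'.2 (D'.subgroupOf (S' : Subgroup G)) hD'sne
    have hzcomm : ∀ s ∈ (S' : Subgroup G), s * (z : G) = (z : G) * s := by
      intro s hs
      have := Subgroup.mem_center_iff.mp hzc ⟨s, hs⟩
      exact congrArg Subtype.val this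
    have hzN : (z : G) ∈ N := by
      rw [hNdef]
      apply Subgroup.mem_normalizer_fintype
      intro h hh
      have h1 := hzcomm h (hS' (hHT hh))
      have e : (z : G) * h * (z : G)⁻¹ = h := by rw [← h1]; group
      rw [e]; exact hh
    have hzT : (z : G) ∈ T ⊓ D' := by
      refine ⟨?_, Subgroup.mem_subgroupOf.mp hzD⟩
      rw [← hS'N]
      exact ⟨z.2, hzN⟩
    have hTDne : T ⊓ D' ≠ ⊥ := by
      intro h
      rw [h, Subgroup.mem_bot] at hzT
      exact hz1 (Subtype.ext hzT)
    have hTDp : IsPGroup p (T ⊓ D' : Subgroup G) := hTp.to_le inf_le_left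
    have hWp : IsPGroup p (W (Pr G) (T ⊓ D')) := hTDp.to_le (W_le' hPr _)
    have hWne : W (Pr G) (T ⊓ D') ≠ ⊥ := hPr.ne_bot G _ hTDp hTDne
    have hle := hmax _ hWp hWne hbad
    have h1 := lt_inf_normalizer S'.2 hTS
    have h2 : (S' : Subgroup G) ⊓ Subgroup.normalizer (T : Set G) ≤
        Subgroup.normalizer ((W (Pr G) (T ⊓ D') : Subgroup G) : Set G) := by
      refine le_trans ?_ (normalizer_le_normalizer_W hPr _)
      refine le_trans ?_ Subgroup.inf_normalizer_le_normalizer_inf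
      exact le_inf inf_le_right (inf_le_left.trans hS'D')
    have h3 := card_le_of_isPGroup_le (S'.2.to_le inf_le_left) h2
    have h4 := Helper11_ZJ.card_lt_of_lt h1
    rw [hTcard] at h4
    have h5 : vp p N < vp p (Subgroup.normalizer
        ((W (Pr G) (T ⊓ D') : Subgroup G) : Set G)) :=
      (Nat.pow_lt_pow_iff_right (Fact.out : p.Prime).one_lt).mp (lt_of_lt_of_le h4 h3)
    have h6 := mu_lt_of_vp_lt (Q := H) (Q' := W (Pr G) (T ⊓ D')) h5
    omega

/-- a strongly closed subgroup inside a normal subgroup contained in `S` is normal -/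
theorem normal_of_stronglyClosed_le_normal {G : Type u} [Group G] [Finite G] {D S R : Subgroup G}
    (hD : IsStronglyClosed D S) [hR : R.Normal] (hRS : R ≤ S) (hDR : D ≤ R) : D.Normal := by
  rw [← Subgroup.normalizer_eq_top_iff, eq_top_iff]
  intro g _
  apply Subgroup.mem_normalizer_fintype
  intro x hx
  exact hD.2 x hx g (hRS (hR.conj_mem x (hDR hx) g))

/-- Step: the quotient by `O_p(G)` has a normal `p`-complement. -/
theorem quotient_hasNPC (hPr : PFam p Pr) {G : Type u} [Group G] [Finite G]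
    (IH : IHyp p Pr (Nat.card G))
    (S : Sylow p G) (D : Subgroup G) (hD : IsStronglyClosed D (S : Subgroup G))
    (hN : HasNPC p ↥(Subgroup.normalizer ((W (Pr G) D : Subgroup G) : Set G)))
    (hnot : ¬ HasNPC p G)
    (hRne : Cfsg.pCore p G ≠ ⊥)
    (hmax : ∀ Q : Subgroup G, IsPGroup p Q → Q ≠ ⊥ →
      ¬ HasNPC p ↥(Subgroup.normalizer (Q : Set G)) → mu p Q ≤ mu p (Cfsg.pCore p G)) :
    HasNPC p (G ⧸ Cfsg.pCore p G) := by
  set R := Cfsg.pCore p G with hR
  have hRp : IsPGroup p R := Cfsg.Agent.Lib.Helper76_PSolvable.pCore_isPGroup p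
  have hRS : R ≤ (S : Subgroup G) := hRp.le_sylow_of_normal S
  have hπ : Function.Surjective (QuotientGroup.mk' R) := QuotientGroup.mk'_surjective R
  by_cases hdiv : p ∣ Nat.card (G ⧸ R)
  swap
  · exact hasNPC_of_coprime (((Fact.out : p.Prime).coprime_iff_not_dvd).mpr hdiv).symm
  have hcard : Nat.card (G ⧸ R) < Nat.card G := by
    have h1 := Cfsg.Agent.Lib.Helper1_Transport.card_quotient_mul_card R
    have h2 : 1 < Nat.card R := by
      rcases Nat.lt_or_ge 1 (Nat.card R) with h | h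
      · exact h
      · exfalso
        apply hRne
        apply Subgroup.card_eq_one.mp
        have : 0 < Nat.card R := Nat.card_pos
        omega
    have h3 : 0 < Nat.card (G ⧸ R) := Nat.card_pos
    nlinarith
  let Sbar : Sylow p (G ⧸ R) := S.mapSurjective hπ
  have hSbar : (Sbar : Subgroup (G ⧸ R)) = (S : Subgroup G).map (QuotientGroup.mk' R) := rfl
  set Dbar := D.map (QuotientGroup.mk' R) with hDbar
  have hDbarsc : IsStronglyClosed Dbar (Sbar : Subgroup (G ⧸ R)) :=
    isStronglyClosed_map_of_le hD R hRS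
  have hDbarp : IsPGroup p Dbar := Sbar.2.to_le hDbarsc.1
  have hDbarne : Dbar ≠ ⊥ := by
    intro h
    apply hnot
    have hDR : D ≤ R := by
      rw [hDbar, Subgroup.map_eq_bot_iff, QuotientGroup.ker_mk'] at h
      exact h
    have hDn : D.Normal := normal_of_stronglyClosed_le_normal hD hRS hDR
    have htop : Subgroup.normalizer ((W (Pr G) D : Subgroup G) : Set G) = ⊤ := by
      rw [eq_top_iff]
      refine le_trans ?_ (normalizer_le_normalizer_W hPr D)
      rw [Subgroup.normalizer_eq_top_iff.mpr hDn]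
    exact hasNPC_top_iff.mp (hasNPC_of_eq htop hN)
  apply IH (G ⧸ R) hcard Sbar Dbar hDbarsc
  set Kbar := W (Pr (G ⧸ R)) Dbar with hKbar
  have hKbarne : Kbar ≠ ⊥ := hPr.ne_bot _ Dbar hDbarp hDbarne
  have hKbarle : Kbar ≤ (Sbar : Subgroup (G ⧸ R)) := (W_le' hPr Dbar).trans hDbarsc.1
  set K := Kbar.comap (QuotientGroup.mk' R) with hK
  have hRK : R ≤ K := by
    conv_lhs => rw [← QuotientGroup.ker_mk' R]
    exact Subgroup.ker_le_comap _ _
  have hKS : K ≤ (S : Subgroup G) := by
    have h1 : K ≤ ((S : Subgroup G).map (QuotientGroup.mk' R)).comap (QuotientGroup.mk' R) :=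
      Subgroup.comap_mono hKbarle
    rw [Subgroup.comap_map_eq, QuotientGroup.ker_mk', sup_eq_left.mpr hRS] at h1
    exact h1
  have hKp : IsPGroup p K := S.2.to_le hKS
  have hKmap : K.map (QuotientGroup.mk' R) = Kbar :=
    Subgroup.map_comap_eq_self_of_surjective hπ _
  have hRltK : R < K := by
    refine lt_of_le_of_ne hRK ?_
    intro h
    apply hKbarne
    rw [← hKmap, ← h, Subgroup.map_eq_bot_iff, QuotientGroup.ker_mk']
  have hKne : K ≠ ⊥ := by
    intro h
    rw [h] at hRltK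
    exact not_lt_bot hRltK
  have hNK : Subgroup.normalizer (K : Set G) =
      (Subgroup.normalizer (Kbar : Set (G ⧸ R))).comap (QuotientGroup.mk' R) :=
    (Subgroup.comap_normalizer_eq_of_surjective _ hπ).symm
  have hSNK : (S : Subgroup G) ≤ Subgroup.normalizer (K : Set G) := by
    intro s hs
    rw [hNK, Subgroup.mem_comap]
    apply normalizer_le_normalizer_W hPr Dbar
    apply le_normalizer_of_stronglyClosed hDbarsc.1 hDbarsc.2
    rw [hSbar]
    exact ⟨s, hs, rfl⟩
  have hgood : HasNPC p ↥(Subgroup.normalizer (K : Set G)) := by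
    by_contra hbad
    have hle := hmax K hKp hKne hbad
    have hv : vp p (Subgroup.normalizer (R : Set G)) ≤ vp p (Subgroup.normalizer (K : Set G)) := by
      have h1 : Subgroup.normalizer (R : Set G) = ⊤ := Subgroup.normalizer_eq_top_iff.mpr inferInstance
      rw [h1]
      have h2 : vp p (⊤ : Subgroup G) ≤ vp p (Subgroup.normalizer (K : Set G)) := by
        have h3 := card_le_of_isPGroup_le S.2 hSNK
        have h4 : Nat.card (S : Subgroup G) = p ^ vp p (⊤ : Subgroup G) := by
          rw [S.card_eq_multiplicity]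
          unfold vp
          rw [Subgroup.card_top]
        rw [h4] at h3
        exact (Nat.pow_le_pow_iff_right (Fact.out : p.Prime).one_lt).mp h3
      exact h2
    have := mu_lt_of_card_lt hv (Helper11_ZJ.card_lt_of_lt hRltK)
    omega
  have hmapN : (Subgroup.normalizer (K : Set G)).map (QuotientGroup.mk' R) =
      Subgroup.normalizer (Kbar : Set (G ⧸ R)) := by
    rw [hNK]
    exact Subgroup.map_comap_eq_self_of_surjective hπ _
  exact hasNPC_of_eq hmapN (hasNPC_map _ _ hgood)

/-- Step: a minimal counterexample has no nontrivial normal `p'`-subgroup. -/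
theorem normal_pprime_eq_bot (hPr : PFam p Pr) {G : Type u} [Group G] [Finite G]
    (IH : IHyp p Pr (Nat.card G))
    (S : Sylow p G) (D : Subgroup G) (hD : IsStronglyClosed D (S : Subgroup G))
    (hN : HasNPC p ↥(Subgroup.normalizer ((W (Pr G) D : Subgroup G) : Set G)))
    (hnot : ¬ HasNPC p G) (L : Subgroup G) [L.Normal] (hL : (Nat.card L).Coprime p) :
    L = ⊥ := by
  by_contra hLne
  apply hnot
  apply hasNPC_of_quotient L hL
  have hπ : Function.Surjective (QuotientGroup.mk' L) := QuotientGroup.mk'_surjective L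
  have hcard : Nat.card (G ⧸ L) < Nat.card G := by
    have h1 := Cfsg.Agent.Lib.Helper1_Transport.card_quotient_mul_card L
    have h2 : 1 < Nat.card L := by
      rcases Nat.lt_or_ge 1 (Nat.card L) with h | h
      · exact h
      · exfalso
        apply hLne
        apply Subgroup.card_eq_one.mp
        have : 0 < Nat.card L := Nat.card_pos
        omega
    have h3 : 0 < Nat.card (G ⧸ L) := Nat.card_pos
    nlinarith
  let Sbar : Sylow p (G ⧸ L) := S.mapSurjective hπ
  have hSbar : (Sbar : Subgroup (G ⧸ L)) = (S : Subgroup G).map (QuotientGroup.mk' L) := rfl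
  have hsc : IsStronglyClosed (D.map (QuotientGroup.mk' L)) (Sbar : Subgroup (G ⧸ L)) :=
    isStronglyClosed_map_of_coprime S hD L
  apply IH (G ⧸ L) hcard Sbar _ hsc
  have hdisj : (S : Subgroup G) ⊓ L = ⊥ := by
    obtain ⟨k, hk⟩ := S.2.exists_card_eq
    have hc : (Nat.card (S : Subgroup G)).Coprime (Nat.card L) := by
      rw [hk]
      exact Nat.Coprime.pow_left k hL.symm
    exact (Subgroup.disjoint_of_coprime_natCard hc).eq_bot
  have hfun : W (Pr (G ⧸ L)) (D.map (QuotientGroup.mk' L)) =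
      (W (Pr G) D).map (QuotientGroup.mk' L) := by
    apply W_map' hPr
    intro x hx hx1
    have hxL : x ∈ L := by
      rw [← QuotientGroup.ker_mk' L, MonoidHom.mem_ker]; exact hx1
    have : x ∈ (S : Subgroup G) ⊓ L := ⟨hD.1 hx, hxL⟩
    rw [hdisj] at this
    exact Subgroup.mem_bot.mp this
  rw [hfun]
  have hWp : IsPGroup p (W (Pr G) D) := S.2.to_le ((W_le' hPr D).trans hD.1)
  have hmapN := map_normalizer_eq_of_coprime L hL _ hWp
  exact hasNPC_of_eq hmapN (hasNPC_map _ _ hN)

/-- Step: the Sylow subgroup is a maximal subgroup. -/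
theorem sylow_isCoatom (hPr : PFam p Pr) {G : Type u} [Group G] [Finite G]
    (IH : IHyp p Pr (Nat.card G))
    (S : Sylow p G) (D : Subgroup G) (hD : IsStronglyClosed D (S : Subgroup G))
    (hN : HasNPC p ↥(Subgroup.normalizer ((W (Pr G) D : Subgroup G) : Set G)))
    (hnot : ¬ HasNPC p G)
    (hcen : Subgroup.centralizer ((Cfsg.pCore p G : Subgroup G) : Set G) ≤ Cfsg.pCore p G) :
    IsCoatom (S : Subgroup G) := by
  set R := Cfsg.pCore p G with hR
  have hRp : IsPGroup p R := Cfsg.Agent.Lib.Helper76_PSolvable.pCore_isPGroup p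
  have hRS : R ≤ (S : Subgroup G) := hRp.le_sylow_of_normal S
  have hStop : (S : Subgroup G) ≠ ⊤ := by
    intro h
    apply hnot
    apply hasNPC_of_isPGroup
    have h1 : IsPGroup p (⊤ : Subgroup G) := h ▸ S.2
    exact h1.of_equiv Subgroup.topEquiv
  obtain ⟨M, hM, hMmin⟩ := Set.exists_min_image {M : Subgroup G | (S : Subgroup G) < M}
    (fun M => Nat.card M) (Set.toFinite _) ⟨⊤, lt_top_iff_ne_top.mpr hStop⟩
  have hSM : (S : Subgroup G) ≤ M := (show (S : Subgroup G) < M from hM).le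
  have hMtop : M = ⊤ := by
    by_contra hMne
    have hcardM : Nat.card M < Nat.card G := by
      rw [← Subgroup.card_top (G := G)]
      exact Helper11_ZJ.card_lt_of_lt (lt_top_iff_ne_top.mpr hMne)
    let SM : Sylow p M := S.subtype hSM
    have hSMeq : (SM : Subgroup M) = (S : Subgroup G).subgroupOf M := Sylow.coe_subtype _ _
    have hM_npc : HasNPC p M := by
      have hsc := isStronglyClosed_subgroupOf hD M (S : Subgroup G) le_rfl
      rw [← hSMeq] at hsc
      apply IH M hcardM SM _ hsc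
      apply hasNPC_normalizer_of_map
      have hfun : (W (Pr ↥M) (((S : Subgroup G) ⊓ D).subgroupOf M)).map M.subtype =
          W (Pr G) D := by
        rw [← W_map' hPr M.subtype _ (fun x _ hx => Subtype.ext hx),
          Subgroup.subgroupOf_map_subtype, inf_eq_right.mpr hD.1,
          inf_eq_left.mpr (hD.1.trans hSM)]
      rw [hfun]
      exact hN
    obtain ⟨KM, hKMn, hKMc, n, hKMi⟩ := hM_npc
    have hdisj : KM.map M.subtype ⊓ R = ⊥ := by
      obtain ⟨k, hk⟩ := hRp.exists_card_eq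
      have hc : (Nat.card (KM.map M.subtype : Subgroup G)).Coprime (Nat.card R) := by
        rw [hk, Subgroup.card_map_of_injective M.subtype_injective]
        exact Nat.Coprime.pow_right k hKMc
      exact (Subgroup.disjoint_of_coprime_natCard hc).eq_bot
    have hKMcen : KM.map M.subtype ≤ Subgroup.centralizer (R : Set G) := by
      rintro _ ⟨k, hk, rfl⟩
      rw [Subgroup.mem_centralizer_iff]
      intro r hr
      have hrM : r ∈ M := hSM (hRS hr)
      have h1 : (⟨r, hrM⟩ : M) * k⁻¹ * (⟨r, hrM⟩ : M)⁻¹ ∈ KM :=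
        hKMn.conj_mem _ (KM.inv_mem hk) _
      have h2 : k * ((⟨r, hrM⟩ : M) * k⁻¹ * (⟨r, hrM⟩ : M)⁻¹) ∈ KM := KM.mul_mem hk h1
      have h3 : (k : G) * (r * (k : G)⁻¹ * r⁻¹) ∈ KM.map M.subtype :=
        ⟨_, h2, by simp⟩
      have h4 : (k : G) * (r * (k : G)⁻¹ * r⁻¹) ∈ R := by
        have h5 : (k : G) * r * (k : G)⁻¹ ∈ R := (Cfsg.pCore_normal p G).conj_mem r hr _
        have h6 := R.mul_mem h5 (R.inv_mem hr)
        have e : (k : G) * r * (k : G)⁻¹ * r⁻¹ = (k : G) * (r * (k : G)⁻¹ * r⁻¹) := by group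
        rwa [e] at h6
      have h7 : (k : G) * (r * (k : G)⁻¹ * r⁻¹) ∈ KM.map M.subtype ⊓ R := ⟨h3, h4⟩
      rw [hdisj, Subgroup.mem_bot] at h7
      show r * M.subtype k = M.subtype k * r
      have e : r * (k : G) = ((k : G) * (r * (k : G)⁻¹ * r⁻¹))⁻¹ * ((k : G) * r) := by group
      rw [Subgroup.coe_subtype, e, h7]
      group
    have hKMbot : KM = ⊥ := by
      have h1 : KM.map M.subtype ≤ KM.map M.subtype ⊓ R := le_inf le_rfl (hKMcen.trans hcen)
      rw [hdisj] at h1
      exact (Subgroup.map_eq_bot_iff_of_injective _ M.subtype_injective).mp (le_bot_iff.mp h1)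
    have hMp : IsPGroup p M := by
      rw [hKMbot, Subgroup.index_bot] at hKMi
      exact IsPGroup.of_card hKMi
    have hSeq : (S : Subgroup G) = M := (S.is_maximal' hMp hSM).symm
    exact (show (S : Subgroup G) < M from hM).ne hSeq
  refine ⟨hStop, ?_⟩
  intro b hb
  have h1 := hMmin b hb
  rw [hMtop] at h1
  simp only [Subgroup.card_top] at h1
  exact Subgroup.eq_top_of_le_card b h1

/-- **The Glauberman–Thompson criterion for strongly closed subgroups**, generic form. -/
theorem main (hPr : PFam p Pr) (hp : p ≠ 2) : ∀ n : ℕ, ∀ (G : Type u) [Group G] [Finite G],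
    Nat.card G = n → ∀ (S : Sylow p G) (D : Subgroup G), IsStronglyClosed D (S : Subgroup G) →
      HasNPC p ↥(Subgroup.normalizer ((W (Pr G) D : Subgroup G) : Set G)) → HasNPC p G := by
  intro n
  induction n using Nat.strong_induction_on with
  | _ n ih =>
  intro G _ _ hcard S D hD hN
  by_contra hnot
  have IH : IHyp p Pr (Nat.card G) := by
    intro Y _ _ hY SY DY hDY hNY
    exact ih (Nat.card Y) (hcard ▸ hY) Y rfl SY DY hDY hNY
  have hDne : D ≠ ⊥ := by
    intro h
    apply hnot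
    have hW : W (Pr G) D = ⊥ := le_bot_iff.mp (h ▸ W_le' hPr D)
    have htop : Subgroup.normalizer ((W (Pr G) D : Subgroup G) : Set G) = ⊤ := by
      rw [hW]; exact Subgroup.normalizer_eq_top_iff.mpr inferInstance
    exact hasNPC_top_iff.mp (hasNPC_of_eq htop hN)
  have hbad : ∃ Q : Subgroup G, IsPGroup p Q ∧ Q ≠ ⊥ ∧
      ¬ HasNPC p ↥(Subgroup.normalizer (Q : Set G)) := by
    by_contra hcon
    push Not at hcon
    apply hnot
    rw [← Cfsg.Agent.S0072.hasNPC_iff, Cfsg.Agent.S0072.result]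
    intro Q hQ hQne
    rw [Cfsg.Agent.S0072.hasNPC_iff]
    exact hcon Q hQ hQne
  obtain ⟨H, hH, hHmax⟩ := Set.exists_max_image
    {Q : Subgroup G | IsPGroup p Q ∧ Q ≠ ⊥ ∧ ¬ HasNPC p ↥(Subgroup.normalizer (Q : Set G))}
    (fun Q => mu p Q) (Set.toFinite _) hbad
  obtain ⟨hHp, hHne, hHbad⟩ := hH
  have hmax : ∀ Q : Subgroup G, IsPGroup p Q → Q ≠ ⊥ →
      ¬ HasNPC p ↥(Subgroup.normalizer (Q : Set G)) → mu p Q ≤ mu p H :=
    fun Q h1 h2 h3 => hHmax Q ⟨h1, h2, h3⟩
  have hNtop := normalizer_eq_top hPr IH S D hD hDne hN H hHp hHne hHbad hmax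
  have hHn : H.Normal := Subgroup.normalizer_eq_top_iff.mp hNtop
  set R := Cfsg.pCore p G with hR
  have hRp : IsPGroup p R := Cfsg.Agent.Lib.Helper76_PSolvable.pCore_isPGroup p
  have hHR : H ≤ R := Cfsg.Agent.Lib.Helper76_PSolvable.le_pCore p H hHp
  have hRne : R ≠ ⊥ := by
    intro h
    rw [h] at hHR
    exact hHne (le_bot_iff.mp hHR)
  have hNR : Subgroup.normalizer (R : Set G) = ⊤ :=
    Subgroup.normalizer_eq_top_iff.mpr inferInstance
  have hmaxR : ∀ Q : Subgroup G, IsPGroup p Q → Q ≠ ⊥ →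
      ¬ HasNPC p ↥(Subgroup.normalizer (Q : Set G)) → mu p Q ≤ mu p R := by
    intro Q h1 h2 h3
    have h4 := hmax Q h1 h2 h3
    have h5 : mu p H ≤ mu p R := by
      unfold mu
      rw [hNtop, hNR]
      have := Subgroup.card_le_of_le hHR
      omega
    exact h4.trans h5
  have hq := quotient_hasNPC hPr IH S D hD hN hnot hRne hmaxR
  have hL : ∀ L : Subgroup G, L.Normal → (Nat.card L).Coprime p → L = ⊥ :=
    fun L hLn hLc => @normal_pprime_eq_bot p _ Pr hPr G _ _ IH S D hD hN hnot L hLn hLc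
  have hcen := centralizer_pCore_le' hq hL
  have hco := sylow_isCoatom hPr IH S D hD hN hnot hcen
  have hnormal : (W (Pr G) D).Normal :=
    W_normalD (hPr.adm G) S D hD.1 hD.2 hcen
      (fun B hBn hBp => Cfsg.Agent.Lib.Helper11_NPCStable.stableOn_of_npc_coatom hp hq S hco B hBn hBp)
  apply hnot
  have htop : Subgroup.normalizer ((W (Pr G) D : Subgroup G) : Set G) = ⊤ :=
    Subgroup.normalizer_eq_top_iff.mpr hnormal
  exact hasNPC_top_iff.mp (hasNPC_of_eq htop hN)

end steps

end Cfsg.Agent.Lib.Helper11_NPCD
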