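import Cfsg.Agent.Lib.Helper11_FusionQ
import Cfsg.Agent.Lib.Helper11_QdFusion
import Cfsg.Agent.Lib.Helper34_NPC
import Cfsg.Agent.S3082
import Cfsg.Agent.S3079

/-!
# `Qd(p)`-free groups: control of strong fusion by `N_G(Z(J(D)))` (helper11)

Everything here is relative to the hypothesis `QdStable p`: a finite group in which `Qd(p)` is not
involved is `p`-stable in the normalizer form.
-/

set_option autoImplicit false

namespace Cfsg.Agent.Lib.Helper11_FusionQd

open Cfsg Cfsg.Agent.Lib.Helper11_ZJ Cfsg.Agent.Lib.Helper11_NPCD Cfsg.Agent.Lib.Helper11_FusionQ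

universe u

/-- the hypothesis: `Qd(p)`-free finite groups are `p`-stable in the normalizer form -/
def QdStable (p : ℕ) : Prop :=
  ∀ (X : Type u) [Group X] [Finite X], ¬ Cfsg.Involves ↥(Cfsg.qd p) X →
    Cfsg.IsNormalizerPStable p X

variable {p : ℕ} [Fact p.Prime] {Pr : ∀ (Y : Type u) [Group Y], Subgroup Y → Prop}

/-- control of strong fusion by `N_G(W(D))` in `Qd(p)`-free groups -/
theorem ctl_of_qdFree (hPr : PFam p Pr) (hst : QdStable.{u} p) {G : Type u} [Group G] [Finite G]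
    (hfree : ¬ Cfsg.Involves ↥(Cfsg.qd p) G) (P : Sylow p G) (D : Subgroup G)
    (hD : IsStronglyClosed D (P : Subgroup G)) : Ctl Pr G (P : Subgroup G) D := by
  refine main hPr (fun X _ => ¬ Cfsg.Involves ↥(Cfsg.qd p) X) ?_ ?_ ?_ (Nat.card G) G rfl hfree
    P D hD
  · intro X _ H h hH
    exact h (Cfsg.Agent.Lib.Helper34_NPC.involves_of_subgroup H hH)
  · intro X _ N _ h hN
    exact h (Cfsg.Agent.Lib.Helper34_NPC.involves_of_surjective (QuotientGroup.mk' N)
      (QuotientGroup.mk'_surjective N) hN)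
  · intro X _ _ h
    exact hst X h

/-- the conclusion of S3081 from `QdStable` -/
theorem s3081_of (hst : QdStable.{u} p) {G : Type u} [Group G] [Finite G] (hp : p ≠ 2)
    (P : Sylow p G) (D : Subgroup G) (hD : Cfsg.IsStronglyClosed D (P : Subgroup G))
    (hqd : ¬ Cfsg.Involves ↥(Cfsg.qd p) G) :
    (∀ A : Set G, A ⊆ (P : Subgroup G) → Cfsg.ControlsStrongFusionOf
      (Subgroup.normalizer ((Cfsg.centerThompsonAOf D) : Set G)) (P : Subgroup G) A) ∧
    (∀ A : Set G, A ⊆ (P : Subgroup G) → Cfsg.ControlsStrongFusionOf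
      (Subgroup.normalizer ((Cfsg.omegaOne p (Cfsg.centerThompsonOf p D)) : Set G))
      (P : Subgroup G) A) := by
  constructor
  · intro A hA
    rw [Cfsg.Agent.S0653.centerThompsonAOf_eq]
    exact controlsStrongFusionOf_of_ctl
      (ctl_of_qdFree (Cfsg.Agent.S3082.pFam_ab hp) hst hqd P D hD) A hA
  · intro A hA
    rw [Cfsg.Agent.S3079.omegaOne_centerThompsonOf_eq D (P.isPGroup'.to_le hD.1)]
    exact controlsStrongFusionOf_of_ctl
      (ctl_of_qdFree (Cfsg.Agent.S3082.pFam_ea hp) hst hqd P D hD) A hA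

/-- the conclusion of S2794 from `QdStable` -/
theorem s2794_of (hst : QdStable.{u} p) {G : Type u} [Group G] [Finite G] (hp : p ≠ 2) :
    ¬ Cfsg.Involves ↥(Cfsg.qd p) G ↔ ∀ (K R : Subgroup G) [hR : (R.subgroupOf K).Normal],
      ∀ T : Sylow p (K ⧸ R.subgroupOf K), Cfsg.ControlsStrongFusion p
        (Cfsg.centerThompsonAOf (T : Subgroup (K ⧸ R.subgroupOf K))) := by
  constructor
  · intro hfree K R hR T
    have hY : ¬ Cfsg.Involves ↥(Cfsg.qd p) (K ⧸ R.subgroupOf K) := by
      intro h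
      apply hfree
      apply Cfsg.Agent.Lib.Helper34_NPC.involves_of_subgroup K
      exact Cfsg.Agent.Lib.Helper34_NPC.involves_of_surjective (QuotientGroup.mk' (R.subgroupOf K))
        (QuotientGroup.mk'_surjective _) h
    have hD : IsStronglyClosed (T : Subgroup (K ⧸ R.subgroupOf K))
        (T : Subgroup (K ⧸ R.subgroupOf K)) := ⟨le_rfl, fun _ _ _ h => h⟩
    have hctl := ctl_of_qdFree (Cfsg.Agent.S3082.pFam_ab hp) hst hY T
      (T : Subgroup (K ⧸ R.subgroupOf K)) hD
    refine ⟨T, ?_, ?_⟩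
    · rw [Cfsg.Agent.S0653.centerThompsonAOf_eq]
      exact W_le' (Cfsg.Agent.S3082.pFam_ab hp) _
    · intro A hA
      rw [Cfsg.Agent.S0653.centerThompsonAOf_eq]
      exact controlsStrongFusionOf_of_ctl hctl A hA
  · rintro h ⟨K, R, hR, ⟨e⟩⟩
    obtain ⟨T, hT⟩ := Cfsg.Agent.Lib.Helper11_QdFusion.exists_sylow_not_controls p e
    exact hT (h K R T)

end Cfsg.Agent.Lib.Helper11_FusionQd
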