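import Cfsg.Agent.Lib.Helper11_QdRecog

/-!
# Recognition of `Qd(p)` from section data (helper11)

`involves_qd_of_section_data`: subgroups `W ≤ L` of a finite group `Γ`, `L` normalizing `W`,
surjective homomorphisms `ψ : W → F_p²`, `φ : L → SL₂(p)` with `ψ (y w y⁻¹) = φ y • ψ w`, `p` odd.
Then `Qd(p)` is involved in `Γ`.
-/

set_option autoImplicit false
set_option linter.unusedSimpArgs false

namespace Cfsg.Agent.Lib.Helper11_QdRecog2

open Cfsg Matrix Cfsg.Agent.Lib.Helper46_Qd Cfsg.Agent.Lib.Helper46_Qd2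
  Cfsg.Agent.Lib.Helper46_Qd3 Cfsg.Agent.Lib.Helper11_QdRecog Cfsg.Agent.Lib.Helper10_QuadPair

/-- a surjection onto `A` from a group mapping to `Γ` whose kernel contains the kernel of the map to
`Γ` shows that `A` is involved in `Γ` -/
theorem involves_of_factor {A T Γ : Type*} [Group A] [Group T] [Group Γ] (ι : T →* Γ)
    (Ψ : T →* A) (hΨ : Function.Surjective Ψ) (hk : ι.ker ≤ Ψ.ker) : Cfsg.Involves A Γ := by
  rw [Cfsg.Agent.S5299.involves_iff]
  refine ⟨ι.range, (QuotientGroup.lift ι.ker Ψ hk).comp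
    (QuotientGroup.quotientKerEquivRange ι).symm.toMonoidHom, ?_⟩
  intro a
  obtain ⟨t, rfl⟩ := hΨ a
  refine ⟨QuotientGroup.quotientKerEquivRange ι (QuotientGroup.mk t), ?_⟩
  simp

variable {Γ : Type*} [Group Γ]

/-- the translation homomorphism attached to `ψ` -/
def trHom' {p : ℕ} (W : Subgroup Γ) (ψ : W →* Multiplicative (Fin 2 → ZMod p)) :
    W →* affineSub (ZMod p) where
  toFun v := mk 1 (Multiplicative.toAdd (ψ v) 0) (Multiplicative.toAdd (ψ v) 1)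
  map_one' := by
    rw [map_one]
    exact mk_one_zero
  map_mul' v w := by
    rw [map_mul, mk_one_mul_mk_one]
    rfl

theorem involves_qd_of_section_data [Finite Γ] {p : ℕ} [Fact p.Prime]
    (hp : p ≠ 2) (L W : Subgroup Γ) (hWL : W ≤ L)
    (hnorm : ∀ y ∈ L, ∀ w ∈ W, y * w * y⁻¹ ∈ W)
    (ψ : W →* Multiplicative (Fin 2 → ZMod p)) (hψ : Function.Surjective ψ)
    (φ : L →* Matrix.SpecialLinearGroup (Fin 2) (ZMod p)) (hφ : Function.Surjective φ)
    (hact : ∀ (y : L) (w : W), ψ ⟨(y : Γ) * w * (y : Γ)⁻¹, hnorm y y.2 w w.2⟩ =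
      Multiplicative.ofAdd (((φ y : Matrix.SpecialLinearGroup (Fin 2) (ZMod p)) :
        Matrix (Fin 2) (Fin 2) (ZMod p)).mulVec (Multiplicative.toAdd (ψ w)))) :
    Cfsg.Involves ↥(Cfsg.qd p) Γ := by
  have hpp : p.Prime := Fact.out
  have hLW : L ≤ Subgroup.normalizer (W : Set Γ) := by
    intro y hy
    apply Subgroup.mem_normalizer_fintype
    intro w hw
    exact hnorm y hy w hw
  have h2ne : (2 : ZMod p) ≠ 0 := by
    intro h0
    have h1 : ((2 : ℕ) : ZMod p) = 0 := by exact_mod_cast h0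
    rw [ZMod.natCast_eq_zero_iff] at h1
    exact hp ((Nat.prime_dvd_prime_iff_eq hpp Nat.prime_two).mp h1)
  -- `W` acts trivially
  have hWφ : ∀ (w : Γ) (hw : w ∈ W), φ ⟨w, hWL hw⟩ = 1 := by
    intro w hw
    have key : ∀ x : Fin 2 → ZMod p,
        ((φ ⟨w, hWL hw⟩ : Matrix.SpecialLinearGroup (Fin 2) (ZMod p)) :
          Matrix (Fin 2) (Fin 2) (ZMod p)).mulVec x = x := by
      intro x
      obtain ⟨w', hw'⟩ := hψ (Multiplicative.ofAdd x)
      have h1 := hact ⟨w, hWL hw⟩ w'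
      have h2 : (⟨w * (w' : Γ) * w⁻¹, hnorm w (hWL hw) w' w'.2⟩ : W) =
          ⟨w, hw⟩ * w' * (⟨w, hw⟩ : W)⁻¹ := Subtype.ext (by simp)
      have h3 : ψ (⟨w, hw⟩ * w' * (⟨w, hw⟩ : W)⁻¹) = ψ w' := by
        rw [map_mul, map_mul, map_inv, mul_comm (ψ ⟨w, hw⟩), mul_assoc, mul_inv_cancel, mul_one]
      have e : ψ ⟨w * (w' : Γ) * w⁻¹, hnorm w (hWL hw) w' w'.2⟩ = ψ w' :=
        (congrArg ψ h2).trans h3
      have h4 : ψ w' = Multiplicative.ofAdd
          (((φ ⟨w, hWL hw⟩ : Matrix.SpecialLinearGroup (Fin 2) (ZMod p)) :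
            Matrix (Fin 2) (Fin 2) (ZMod p)).mulVec (Multiplicative.toAdd (ψ w'))) :=
        e.symm.trans h1
      rw [hw'] at h4
      have h5 := congrArg Multiplicative.toAdd h4
      simpa using h5.symm
    apply Subtype.ext
    ext i j
    have h1 := congrFun (key (Pi.single j 1)) i
    rw [Matrix.mulVec_single_one, Matrix.col_apply, Pi.single_apply] at h1
    show ((φ ⟨w, hWL hw⟩ : Matrix.SpecialLinearGroup (Fin 2) (ZMod p)) :
      Matrix (Fin 2) (Fin 2) (ZMod p)) i j = (1 : Matrix (Fin 2) (Fin 2) (ZMod p)) i j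
    rw [h1, Matrix.one_apply]
  -- a `2`-element over `-1`
  obtain ⟨z₀, hz₀⟩ := hφ (-1)
  obtain ⟨a, m, hm, hord⟩ := Nat.exists_eq_two_pow_mul_odd (orderOf_pos z₀).ne'
  set z : L := z₀ ^ m with hz
  have hρz : φ z = -1 := by
    rw [hz, map_pow, hz₀, Odd.neg_one_pow hm]
  have hz2 : z ^ 2 ^ a = 1 := by
    rw [hz, ← pow_mul, mul_comm, ← hord, pow_orderOf_eq_one]
  -- the preimage of `±1`
  have hZn : (Subgroup.zpowers (-1 : Matrix.SpecialLinearGroup (Fin 2) (ZMod p))).Normal := by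
    constructor
    rintro _ ⟨k, rfl⟩ g
    have : g * (-1 : Matrix.SpecialLinearGroup (Fin 2) (ZMod p)) ^ k * g⁻¹ = (-1) ^ k := by
      have hc : Commute g ((-1 : Matrix.SpecialLinearGroup (Fin 2) (ZMod p)) ^ k) :=
        (Commute.neg_one_right g).zpow_right k
      rw [hc.eq, mul_inv_cancel_right]
    rw [this]
    exact ⟨k, rfl⟩
  set D : Subgroup L :=
    (Subgroup.zpowers (-1 : Matrix.SpecialLinearGroup (Fin 2) (ZMod p))).comap φ with hD
  have hDn : D.Normal := Subgroup.Normal.comap hZn φ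
  have hDmem : ∀ d ∈ D, φ d = 1 ∨ φ d = -1 := by
    intro d hd
    obtain ⟨k, hk⟩ := Subgroup.mem_zpowers_iff.mp (Subgroup.mem_comap.mp hd)
    rcases Int.even_or_odd k with he | ho
    · left; rw [← hk, Even.neg_one_zpow he]
    · right; rw [← hk, Odd.neg_one_zpow ho]
  have hzD : z ∈ D :=
    Subgroup.mem_comap.mpr (Subgroup.mem_zpowers_iff.mpr ⟨1, by rw [zpow_one, hρz]⟩)
  -- a Sylow `2`-subgroup of `D` containing `z`
  have hzp : IsPGroup 2 (Subgroup.zpowers (⟨z, hzD⟩ : D)) := by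
    rintro ⟨x, hx⟩
    obtain ⟨k, rfl⟩ := Subgroup.mem_zpowers_iff.mp hx
    refine ⟨a, Subtype.ext ?_⟩
    have h1 : (⟨z, hzD⟩ : D) ^ 2 ^ a = 1 := Subtype.ext (by simpa using hz2)
    show ((⟨z, hzD⟩ : D) ^ k) ^ 2 ^ a = 1
    rw [← zpow_natCast, ← _root_.zpow_mul, mul_comm, _root_.zpow_mul, zpow_natCast, h1,
      _root_.one_zpow]
  obtain ⟨S₂, hS₂⟩ := hzp.exists_le_sylow
  have hF := Sylow.normalizer_sup_eq_top S₂
  set S : Subgroup L := (S₂ : Subgroup D).map D.subtype with hS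
  set L₂ : Subgroup L := Subgroup.normalizer (S : Set L) with hL₂
  have hzS : z ∈ S := ⟨⟨z, hzD⟩, hS₂ (Subgroup.mem_zpowers _), rfl⟩
  have hSL₂ : S ≤ L₂ := Subgroup.le_normalizer
  have hSp : IsPGroup 2 S := S₂.2.map D.subtype
  -- `L₂` still maps onto `SL₂(p)`
  have hsurj₂ : ∀ g : Matrix.SpecialLinearGroup (Fin 2) (ZMod p), ∃ l ∈ L₂, φ l = g := by
    intro g
    obtain ⟨l, rfl⟩ := hφ g
    have hl : l ∈ L₂ ⊔ D := by rw [hF]; exact Subgroup.mem_top l
    obtain ⟨n, hn, d, hd, rfl⟩ := Subgroup.mem_sup_of_normal_right.mp hl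
    rcases hDmem d hd with h1 | h1
    · exact ⟨n, hn, by rw [map_mul, h1, mul_one]⟩
    · exact ⟨n * z, L₂.mul_mem hn (hSL₂ hzS), by rw [map_mul, map_mul, h1, hρz]⟩
  -- `ψ` is trivial on `W ∩ L₂`
  have hIψ : ∀ l : L, l ∈ L₂ → ∀ hl : (l : Γ) ∈ W, ψ ⟨(l : Γ), hl⟩ = 1 := by
    intro l hl hlW
    have h1 : l * z * l⁻¹ ∈ S := (Subgroup.mem_normalizer_iff.mp hl z).mp hzS
    have hcS : l * z * l⁻¹ * z⁻¹ ∈ S := S.mul_mem h1 (S.inv_mem hzS)
    have hinvW : ((⟨(l : Γ), hlW⟩ : W)⁻¹ : W) = ⟨(l : Γ)⁻¹, W.inv_mem hlW⟩ := rfl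
    have h2W : (z : Γ) * (l : Γ)⁻¹ * (z : Γ)⁻¹ ∈ W := hnorm z z.2 _ (W.inv_mem hlW)
    have h3 := hact z ⟨(l : Γ)⁻¹, W.inv_mem hlW⟩
    set x : Fin 2 → ZMod p := Multiplicative.toAdd (ψ ⟨(l : Γ), hlW⟩) with hx
    have h4 : Multiplicative.toAdd (ψ ⟨(l : Γ)⁻¹, W.inv_mem hlW⟩) = -x := by
      rw [← hinvW, map_inv]; rfl
    have h5 : ψ ⟨(z : Γ) * (l : Γ)⁻¹ * (z : Γ)⁻¹, h2W⟩ = Multiplicative.ofAdd x := by
      have h6 : ((-1 : Matrix.SpecialLinearGroup (Fin 2) (ZMod p)) :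
          Matrix (Fin 2) (Fin 2) (ZMod p)) = -1 := by
        simp
      rw [h3, hρz, h4, h6, Matrix.neg_mulVec, Matrix.one_mulVec, neg_neg]
    -- the commutator as an element of `W`
    have hcW : ((l * z * l⁻¹ * z⁻¹ : L) : Γ) ∈ W := by
      have h7 := W.mul_mem hlW h2W
      have e : ((l * z * l⁻¹ * z⁻¹ : L) : Γ) = (l : Γ) * ((z : Γ) * (l : Γ)⁻¹ * (z : Γ)⁻¹) := by
        simp only [Subgroup.coe_mul, Subgroup.coe_inv]; group
      rw [e]; exact h7
    have hψc : ψ ⟨((l * z * l⁻¹ * z⁻¹ : L) : Γ), hcW⟩ = Multiplicative.ofAdd (x + x) := by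
      have e : (⟨((l * z * l⁻¹ * z⁻¹ : L) : Γ), hcW⟩ : W) =
          ⟨(l : Γ), hlW⟩ * ⟨(z : Γ) * (l : Γ)⁻¹ * (z : Γ)⁻¹, h2W⟩ := by
        apply Subtype.ext
        simp only [Subgroup.coe_mul, Subgroup.coe_inv]; group
      rw [e, map_mul, h5]
      rfl
    obtain ⟨k, hk⟩ := hSp ⟨_, hcS⟩
    have hk' : (⟨((l * z * l⁻¹ * z⁻¹ : L) : Γ), hcW⟩ : W) ^ 2 ^ k = 1 := by
      apply Subtype.ext
      have := congrArg (fun x : S => ((x : L) : Γ)) hk
      simpa using this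
    have h8 := congrArg ψ hk'
    rw [map_pow, map_one, hψc] at h8
    have h9 : (2 ^ k) • (x + x) = 0 := by
      have := congrArg Multiplicative.toAdd h8
      simpa using this
    have hx0 : x = 0 := by
      ext i
      have h10 := congrFun h9 i
      simp only [Pi.smul_apply, Pi.add_apply, Pi.zero_apply, nsmul_eq_mul] at h10
      have h11 : ((2 : ZMod p) ^ (k + 1)) * x i = 0 := by
        rw [pow_succ]
        push_cast at h10
        linear_combination h10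
      rcases mul_eq_zero.mp h11 with h12 | h12
      · exact absurd h12 (pow_ne_zero _ h2ne)
      · simpa using h12
    have : ψ ⟨(l : Γ), hlW⟩ = Multiplicative.ofAdd x := rfl
    rw [this, hx0]
    rfl
  -- the semidirect product
  set act : ↥L₂ →* MulAut W := (conjAct W L hLW).comp L₂.subtype with hactdef
  have hcompat₁ : ∀ g : ↥L₂, W.subtype.comp (MulEquiv.toMonoidHom (act g)) =
      (MulAut.conj ((L.subtype.comp L₂.subtype) g)).toMonoidHom.comp W.subtype := by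
    intro g
    ext v
    rfl
  set ι : W ⋊[act] ↥L₂ →* Γ :=
    SemidirectProduct.lift W.subtype (L.subtype.comp L₂.subtype) hcompat₁ with hι
  -- the map onto the affine group
  set f₂ : ↥L₂ →* affineSub (ZMod p) := (mkHom (R := ZMod p)).comp (φ.comp L₂.subtype) with hf₂
  have hcompat₂ : ∀ g : ↥L₂, (trHom' W ψ).comp (MulEquiv.toMonoidHom (act g)) =
      (MulAut.conj (f₂ g)).toMonoidHom.comp (trHom' W ψ) := by
    intro g
    ext1 v
    show trHom' W ψ (act g v) = f₂ g * trHom' W ψ v * (f₂ g)⁻¹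
    rw [eq_mul_inv_iff_mul_eq]
    have h1 := hact (g : L) v
    have h2 : act g v = ⟨((g : L) : Γ) * (v : Γ) * ((g : L) : Γ)⁻¹,
      hnorm _ (g : L).2 _ v.2⟩ := rfl
    show mk 1 (Multiplicative.toAdd (ψ (act g v)) 0) (Multiplicative.toAdd (ψ (act g v)) 1) *
        mk (φ (g : L)) 0 0 =
      mk (φ (g : L)) 0 0 * mk 1 (Multiplicative.toAdd (ψ v) 0) (Multiplicative.toAdd (ψ v) 1)
    rw [mk_mul_mk_one, h2, h1]
    simp [Matrix.mulVec, dotProduct, Fin.sum_univ_two]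
  set Ψ : W ⋊[act] ↥L₂ →* affineSub (ZMod p) :=
    SemidirectProduct.lift (trHom' W ψ) f₂ hcompat₂ with hΨ
  have hΨsurj : Function.Surjective Ψ := by
    intro M
    obtain ⟨l, hl, hρl⟩ := hsurj₂ (blockFun M)
    obtain ⟨v, hv⟩ := hψ (Multiplicative.ofAdd ![(transFun M).1, (transFun M).2])
    refine ⟨⟨v, ⟨l, hl⟩⟩, ?_⟩
    show trHom' W ψ v * mk (φ l) 0 0 = M
    have h1 : trHom' W ψ v = mk 1 (transFun M).1 (transFun M).2 := by
      show mk 1 (Multiplicative.toAdd (ψ v) 0) (Multiplicative.toAdd (ψ v) 1) = _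
      rw [hv]
      simp
    rw [h1, hρl, mk_one_mul_mk, mk_blockFun_transFun]
  have hker : ι.ker ≤ Ψ.ker := by
    intro x hx
    rw [MonoidHom.mem_ker] at hx ⊢
    have hx' : (x.left : Γ) * ((x.right : L) : Γ) = 1 := hx
    have h1 : ((x.right : L) : Γ) ∈ W := by
      have : ((x.right : L) : Γ) = (x.left : Γ)⁻¹ := eq_inv_of_mul_eq_one_right hx'
      rw [this]; exact W.inv_mem x.left.2
    have h2 := hIψ (x.right : L) x.right.2 h1
    have h3 : x.left = (⟨((x.right : L) : Γ), h1⟩ : W)⁻¹ := by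
      apply Subtype.ext
      show (x.left : Γ) = (((x.right : L) : Γ))⁻¹
      exact eq_inv_of_mul_eq_one_left hx'
    have h4 : ψ x.left = 1 := by rw [h3, map_inv, h2, inv_one]
    have h5 : φ (x.right : L) = 1 := hWφ _ h1
    show trHom' W ψ x.left * mk (φ (x.right : L)) 0 0 = 1
    have h6 : trHom' W ψ x.left = 1 := by
      show mk 1 (Multiplicative.toAdd (ψ x.left) 0) (Multiplicative.toAdd (ψ x.left) 1) = 1
      rw [h4]
      exact mk_one_zero
    rw [h6, h5, one_mul]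
    exact mk_one_zero
  have h2 : Cfsg.Involves ↥(affineSub (ZMod p)) Γ := involves_of_factor ι Ψ hΨsurj hker
  exact Cfsg.Agent.Lib.Helper34_NPC.involves_of_equiv
    (MulEquiv.subgroupCongr (qd_eq p)).symm h2

end Cfsg.Agent.Lib.Helper11_QdRecog2
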