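import Cfsg.Agent.Lib.Helper50_SL2Dickson

/-!
Strong form of Dickson's theorem for `SL(2, q)`, `q` odd: a subgroup `H` with more than one
Sylow `p`-subgroup contains a `GL(2, q)`-conjugate of the standard `SL(2, p)`:
`g⁻¹ * dmap p a ha M * g ∈ H` for all `M : SL(2, ZMod p)`, where `dmap` is
`M ↦ diag(a,1) (ι M) diag(a,1)⁻¹`.  Equivalently `H` contains two unipotent elements `u`, `v`
with `tr (u v) - 2` a non-zero element of the prime field.
-/

set_option autoImplicit false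

namespace Cfsg.Agent.Lib.Helper50_SL2DicksonPair

open Matrix Cfsg.Agent.Lib.Helper50_SL2Mat Cfsg.Agent.Lib.Helper50_CTClass
  Cfsg.Agent.Lib.Helper50_SL2Rep Cfsg.Agent.Lib.Helper50_SL2Std
  Cfsg.Agent.Lib.Helper50_SL2Classes Cfsg.Agent.Lib.Helper50_SL2Count
  Cfsg.Agent.Lib.Helper50_SL2Gen Cfsg.Agent.Lib.Helper50_SL2Main
  Cfsg.Agent.Lib.Helper50_SL2Dickson
open scoped MatrixGroups Pointwise

variable {F : Type*} [Field F]

/-- range version of `exists_SL2p`: the conjugated standard `SL(2,p)` lies in the range -/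
theorem exists_conj_dmap (p : ℕ) [Fact p.Prime] [CharP F p] {Γ : Type*} [Group Γ]
    {ρ : Γ →* SL(2, F)} {u' v' : Γ} {α : F} (hu : ρ u' = tU α) (htr : tr (ρ v') = 2)
    (j : ZMod p) (hj : j ≠ 0) (hγ : α * (ρ v') 1 0 = ZMod.castHom (dvd_refl p) F j) :
    ∃ (P : SL(2, F)) (hα : α ≠ 0), ∀ M : SL(2, ZMod p), P⁻¹ * dmap p α hα M * P ∈ ρ.range := by
  have hιj : ZMod.castHom (dvd_refl p) F j ≠ 0 := by
    intro h0
    apply hj
    exact (RingHom.injective (ZMod.castHom (dvd_refl p) F)) (h0.trans (map_zero _).symm)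
  have hα : α ≠ 0 := left_ne_zero_of_mul (hγ ▸ hιj)
  have hγ0 : (ρ v') 1 0 ≠ 0 := right_ne_zero_of_mul (hγ ▸ hιj)
  obtain ⟨P, hP⟩ : ∃ P : SL(2, F), P = tU ((1 - (ρ v') 0 0) / (ρ v') 1 0) := ⟨_, rfl⟩
  let φ : SL(2, ZMod p) →* SL(2, F) := (MulAut.conj P⁻¹).toMonoidHom.comp (dmap p α hα)
  have hφ : ∀ M, φ M = P⁻¹ * dmap p α hα M * P := by
    intro M
    show P⁻¹ * dmap p α hα M * P⁻¹⁻¹ = _
    rw [inv_inv]
  have hφU : φ (tU 1) = ρ u' := by
    rw [hφ, dmap_tU, hu, hP, tU_inv, ← tU_add, ← tU_add]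
    congr 1; ring
  have hφL : φ (tL j) = ρ v' := by
    rw [hφ, dmap_tL]
    have e : ZMod.castHom (dvd_refl p) F j / α = (ρ v') 1 0 := by
      rw [← hγ]; field_simp
    rw [e, ← conj_eq_tL htr hγ0, ← hP]
    group
  have hrange : φ.range ≤ ρ.range := by
    rw [MonoidHom.range_eq_map, ← closure_pair_eq_top p j hj, MonoidHom.map_closure,
      Subgroup.closure_le]
    rintro _ ⟨M, hM, rfl⟩
    rcases hM with rfl | hM
    · rw [hφU]; exact ⟨u', rfl⟩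
    · rw [Set.mem_singleton_iff] at hM
      rw [hM, hφL]; exact ⟨v', rfl⟩
  refine ⟨P, hα, fun M => ?_⟩
  rw [← hφ]
  exact hrange ⟨M, rfl⟩

variable {Γ : Type*} [Group Γ] {p : ℕ} {ρ : Γ →* SL(2, F)} {u v : Γ} {α β : F}

/-- In standard position: a unipotent pair with parameter in the prime field. -/
theorem std_pair [Finite Γ] [Fintype F] [Fact p.Prime] [CharP F p] (h : Std p ρ u v α β) :
    ∃ (u' v' : Γ) (α' : F) (j : ZMod p), j ≠ 0 ∧ ρ u' = tU α' ∧ tr (ρ v') = 2 ∧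
      α' * (ρ v') 1 0 = ZMod.castHom (dvd_refl p) F j := by
  rcases std_dichotomy h with hidx | ⟨hp3, hall⟩
  · obtain ⟨q, x, hq, hx⟩ := std_case_index h hidx
    have hvv : ρ (v * v)⁻¹ = tL (-(2 * β)) := by
      rw [map_inv, map_mul, h.hv, ← tL_add, tL_inv]
      congr 1; ring
    refine ⟨q, (v * v)⁻¹, x, 1, one_ne_zero, hq, ?_, ?_⟩
    · rw [hvv, tr_tL]
    · rw [hvv, tL10, map_one]; exact hx
  · have hv' : (ρ (v * u * v⁻¹)) 1 0 = -(α * (β * β)) := by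
      rw [map_mul, map_mul, map_inv, h.hu, (conj_tU (ρ v) α).2.2.1, h.hv, tL10]
    have hv'' : (ρ ((v * u * v⁻¹) * u * (v * u * v⁻¹)⁻¹)) 1 0 = -(α * α * α * (β * β * β * β)) := by
      rw [map_mul, map_mul (ρ) (v * u * v⁻¹) u, map_inv, h.hu,
        (conj_tU (ρ (v * u * v⁻¹)) α).2.2.1, hv']
      ring
    have htr : tr (ρ ((v * u * v⁻¹) * u * (v * u * v⁻¹)⁻¹)) = 2 := by
      rw [tr_conj', h.hu, tr_tU]
    rcases std_case_three h hp3 hall with h4 | h4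
    · refine ⟨u, (v * u * v⁻¹) * u * (v * u * v⁻¹)⁻¹, α, -1, neg_ne_zero.2 one_ne_zero, h.hu,
        htr, ?_⟩
      rw [hv'', map_neg, map_one]
      linear_combination (-1 : F) * h4
    · refine ⟨u, (v * u * v⁻¹) * u * (v * u * v⁻¹)⁻¹, α, 1, one_ne_zero, h.hu, htr, ?_⟩
      rw [hv'', map_one]
      linear_combination (-1 : F) * h4

/-- reduction to standard position -/
theorem exists_std [Fintype F] (p : ℕ) [Fact p.Prime] [CharP F p] (hp : p ≠ 2)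
    (H : Subgroup SL(2, F)) (hH : 1 < Nat.card (Sylow p H)) :
    ∃ (P : SL(2, F)) (u v : H) (b1 b2 : F),
      Std p ((MulAut.conj P).toMonoidHom.comp H.subtype) u v b1 b2 := by
  classical
  have : Nontrivial (Sylow p H) := (Finite.one_lt_card_iff_nontrivial).1 hH
  obtain ⟨S1, S2, hne⟩ := exists_pair_ne (Sylow p H)
  have hnle : ∀ A B : Sylow p H, A ≠ B → ∃ a : H, a ∈ A ∧ a ≠ 1 := by
    intro A B hAB
    by_contra hcon
    push Not at hcon
    apply hAB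
    have hle : (A : Subgroup H) ≤ B := by
      intro a ha
      rw [hcon a ha]; exact (B : Subgroup H).one_mem
    exact Sylow.ext (A.is_maximal' B.isPGroup' hle).symm
  obtain ⟨u, hu1, hu0⟩ := hnle S1 S2 hne
  obtain ⟨v, hv2, hv0⟩ := hnle S2 S1 hne.symm
  obtain ⟨g1, hg1⟩ := exists_conj_of_isPGroup p ((S1 : Subgroup H).map H.subtype)
    (S1.isPGroup'.map _)
  obtain ⟨g2, hg2⟩ := exists_conj_of_isPGroup p ((S2 : Subgroup H).map H.subtype)
    (S2.isPGroup'.map _)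
  have hg1' : ∀ a : H, a ∈ S1 → ∃ b : F, g1⁻¹ * (a : SL(2, F)) * g1 = tU b := fun a ha =>
    hg1 _ (Subgroup.mem_map_of_mem H.subtype ha)
  have hg2' : ∀ a : H, a ∈ S2 → ∃ b : F, g2⁻¹ * (a : SL(2, F)) * g2 = tU b := fun a ha =>
    hg2 _ (Subgroup.mem_map_of_mem H.subtype ha)
  set k := g1⁻¹ * g2 with hk
  have hk10 : k 1 0 ≠ 0 := by
    intro hk10
    apply hne
    let ρ1 : H →* SL(2, F) := (MulAut.conj g1⁻¹).toMonoidHom.comp H.subtype
    have hρ1 : ∀ a : H, ρ1 a = g1⁻¹ * (a : SL(2, F)) * g1 := by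
      intro a
      show g1⁻¹ * (a : SL(2, F)) * g1⁻¹⁻¹ = _
      rw [inv_inv]
    have hρ1inj : Function.Injective ρ1 :=
      (MulAut.conj g1⁻¹).injective.comp H.subtype_injective
    have hQ : IsPGroup p (Qs ρ1) := isPGroup_Qs hρ1inj
    have h1 : (S1 : Subgroup H) ≤ Qs ρ1 := by
      intro a ha
      obtain ⟨b, hb⟩ := hg1' a ha
      exact mem_Qs_iff_exists.2 ⟨b, by rw [hρ1, hb]⟩
    have h2 : (S2 : Subgroup H) ≤ Qs ρ1 := by
      intro a ha
      obtain ⟨b, hb⟩ := hg2' a ha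
      refine mem_Qs_iff_exists.2 ⟨b * (k 0 0 * k 0 0), ?_⟩
      rw [hρ1, ← conj_tU_of_upper hk10, ← hb, hk]
      group
    have e1 := S1.is_maximal' hQ h1
    have e2 := S2.is_maximal' hQ h2
    exact Sylow.ext (e1.symm.trans e2)
  obtain ⟨x, hx⟩ : ∃ x : F, x = -(k 0 0 / k 1 0) := ⟨_, rfl⟩
  obtain ⟨P, hP⟩ : ∃ P : SL(2, F), P = tU x * g1⁻¹ := ⟨_, rfl⟩
  have hρ : ∀ a : H, ((MulAut.conj P).toMonoidHom.comp H.subtype) a =
      P * (a : SL(2, F)) * P⁻¹ := fun a => rfl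
  have hρinj : Function.Injective ((MulAut.conj P).toMonoidHom.comp H.subtype) :=
    (MulAut.conj P).injective.comp H.subtype_injective
  obtain ⟨b1, hb1⟩ := hg1' u hu1
  obtain ⟨b2, hb2⟩ := hg2' v hv2
  have hk' : (tU x * k) 0 0 = 0 := by
    rw [mul00, tU00, tU01, hx]
    field_simp
    ring
  have hρu : ((MulAut.conj P).toMonoidHom.comp H.subtype) u = tU b1 := by
    rw [hρ, hP]
    have e : tU x * g1⁻¹ * (u : SL(2, F)) * (tU x * g1⁻¹)⁻¹ =
        tU x * (g1⁻¹ * (u : SL(2, F)) * g1) * (tU x)⁻¹ := by group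
    rw [e, hb1, tU_inv, ← tU_add, ← tU_add]
    congr 1; ring
  have hρv : ((MulAut.conj P).toMonoidHom.comp H.subtype) v =
      tL (-(b2 * ((tU x * k) 1 0 * (tU x * k) 1 0))) := by
    rw [hρ, hP, ← conj_tU_of_zero hk', ← hb2, hk]
    group
  have hb1' : b1 ≠ 0 := by
    intro h0
    apply hu0
    apply hρinj
    rw [hρu, h0, tU_zero, map_one]
  have hb2' : -(b2 * ((tU x * k) 1 0 * (tU x * k) 1 0)) ≠ 0 := by
    intro h0
    apply hv0
    apply hρinj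
    rw [hρv, h0, tL_zero, map_one]
  exact ⟨P, u, v, b1, _, ⟨hρinj, hp, hb1', hb2', hρu, hρv⟩⟩

/-- **Dickson, strong form**: `H` contains a conjugate (by `g⁻¹ diag(a,1)`) of the standard
`SL(2, p)`. -/
theorem dickson_strong [Fintype F] (p : ℕ) [Fact p.Prime] [CharP F p] (hp : p ≠ 2)
    (H : Subgroup SL(2, F)) (hH : 1 < Nat.card (Sylow p H)) :
    ∃ (g : SL(2, F)) (a : F) (ha : a ≠ 0), ∀ M : SL(2, ZMod p),
      g⁻¹ * dmap p a ha M * g ∈ H := by
  obtain ⟨P, u, v, b1, b2, hstd⟩ := exists_std p hp H hH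
  obtain ⟨u', v', α', j, hj, hu', htr, hγ⟩ := std_pair hstd
  obtain ⟨P', hα, hall⟩ := exists_conj_dmap p hu' htr j hj hγ
  refine ⟨P' * P, α', hα, fun M => ?_⟩
  obtain ⟨a, ha⟩ := hall M
  have ha' : P * (a : SL(2, F)) * P⁻¹ = P'⁻¹ * dmap p α' hα M * P' := ha
  have e : (P' * P)⁻¹ * dmap p α' hα M * (P' * P) = (a : SL(2, F)) := by
    calc (P' * P)⁻¹ * dmap p α' hα M * (P' * P)
        = P⁻¹ * (P'⁻¹ * dmap p α' hα M * P') * P := by group
      _ = P⁻¹ * (P * (a : SL(2, F)) * P⁻¹) * P := by rw [ha']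
      _ = (a : SL(2, F)) := by group
  rw [e]
  exact a.2

/-- **Dickson, pair form**: two unipotent elements of `H` with `tr (u v) = 3`. -/
theorem dickson_pair [Fintype F] (p : ℕ) [Fact p.Prime] [CharP F p] (hp : p ≠ 2)
    (H : Subgroup SL(2, F)) (hH : 1 < Nat.card (Sylow p H)) :
    ∃ u v : SL(2, F), u ∈ H ∧ v ∈ H ∧ tr u = 2 ∧ tr v = 2 ∧ tr (u * v) = 2 + 1 := by
  obtain ⟨g, a, ha, hall⟩ := dickson_strong p hp H hH
  refine ⟨g⁻¹ * dmap p a ha (tU 1) * g, g⁻¹ * dmap p a ha (tL 1) * g, hall _, hall _, ?_, ?_, ?_⟩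
  · have := tr_conj g⁻¹ (dmap p a ha (tU 1))
    rw [inv_inv] at this
    rw [this, dmap_tU, tr_tU]
  · have := tr_conj g⁻¹ (dmap p a ha (tL 1))
    rw [inv_inv] at this
    rw [this, dmap_tL, tr_tL]
  · have e : g⁻¹ * dmap p a ha (tU 1) * g * (g⁻¹ * dmap p a ha (tL 1) * g) =
        g⁻¹ * (dmap p a ha (tU 1) * dmap p a ha (tL 1)) * g⁻¹⁻¹ := by group
    rw [e, tr_conj, dmap_tU, dmap_tL, map_one]
    simp only [tr, mul00, mul11, tU00, tU01, tU10, tU11, tL00, tL01, tL10, tL11]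
    field_simp
    ring

end Cfsg.Agent.Lib.Helper50_SL2DicksonPair
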