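import Mathlib
import Cfsg.Agent.S0592
import Cfsg.Agent.Lib.Helper50_SL2DicksonPair

/-!
Linear algebra for the `Qd(p)` upgrade, part 1: two quadratic operators `1 + N`, `1 + M`
(`N * N = 0 = M * M`) whose anticommutator `N * M + M * N` is nilpotent generate a unipotent
group.
-/

set_option autoImplicit false

namespace Cfsg.Agent.Lib.Helper1_QdLin

open Cfsg.Agent.S0592 Polynomial

universe u

section alg

variable {K : Type*} [Field K] {W : Type*} [AddCommGroup W] [Module K W]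

/-- the anticommutator `N M + M N` -/
def acomm (N M : Module.End K W) : Module.End K W := N * M + M * N

theorem acomm_mul_left (N M : Module.End K W) (hN : N * N = 0) :
    acomm N M * N = N * M * N := by
  unfold acomm
  rw [add_mul, mul_assoc M N N, hN, mul_zero, add_zero]

theorem mul_acomm_left (N M : Module.End K W) (hN : N * N = 0) :
    N * acomm N M = N * M * N := by
  unfold acomm
  rw [mul_add, ← mul_assoc N N M, hN, zero_mul, zero_add, mul_assoc]

theorem acomm_commute_left (N M : Module.End K W) (hN : N * N = 0) :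
    Commute N (acomm N M) := by
  show N * acomm N M = acomm N M * N
  rw [acomm_mul_left N M hN, mul_acomm_left N M hN]

theorem acomm_symm (N M : Module.End K W) : acomm N M = acomm M N := by
  unfold acomm; rw [add_comm]

theorem acomm_commute_right (N M : Module.End K W) (hM : M * M = 0) :
    Commute M (acomm N M) := by
  rw [acomm_symm]; exact acomm_commute_left M N hM

theorem commute_apply' {A B : Module.End K W} (h : Commute A B) (v : W) :
    A (B v) = B (A v) := by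
  have : (A * B) v = (B * A) v := by rw [h.eq]
  exact this

/-- a non-zero vector killed by a nilpotent operator -/
theorem exists_ker_of_pow (c : Module.End K W) (k : ℕ) :
    ∀ v : W, v ≠ 0 → (c ^ k) v = 0 → ∃ j : ℕ, (c ^ j) v ≠ 0 ∧ c ((c ^ j) v) = 0 := by
  induction k with
  | zero =>
    intro v hv h
    rw [pow_zero, Module.End.one_apply] at h
    exact absurd h hv
  | succ k ih =>
    intro v hv h
    by_cases hk : (c ^ k) v = 0
    · exact ih v hv hk
    · refine ⟨k, hk, ?_⟩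
      rw [pow_succ'] at h
      exact h

/-- a common fixed vector -/
theorem exists_common_fixed [Nontrivial W] (N M : Module.End K W) (hN : N * N = 0)
    (hM : M * M = 0) (k : ℕ) (hc : acomm N M ^ k = 0) :
    ∃ u : W, u ≠ 0 ∧ N u = 0 ∧ M u = 0 := by
  obtain ⟨v, hv⟩ := exists_ne (0 : W)
  have h0 : (acomm N M ^ k) v = 0 := by rw [hc]; rfl
  obtain ⟨j, hj0, hj⟩ := exists_ker_of_pow (acomm N M) k v hv h0
  obtain ⟨u₀, hu₀⟩ : ∃ u₀ : W, u₀ = (acomm N M ^ j) v := ⟨_, rfl⟩
  rw [← hu₀] at hj0 hj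
  -- `u₁` killed by `c` and `N`
  obtain ⟨u₁, hu₁0, hu₁c, hu₁N⟩ : ∃ u₁ : W, u₁ ≠ 0 ∧ acomm N M u₁ = 0 ∧ N u₁ = 0 := by
    by_cases h : N u₀ = 0
    · exact ⟨u₀, hj0, hj, h⟩
    · refine ⟨N u₀, h, ?_, ?_⟩
      · have := (acomm_commute_left N M hN).eq
        have h2 : (acomm N M * N) u₀ = (N * acomm N M) u₀ := by rw [this]
        rw [Module.End.mul_apply, Module.End.mul_apply, hj, map_zero] at h2
        exact h2
      · have h2 : (N * N) u₀ = 0 := by rw [hN]; rfl
        exact h2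
  by_cases h : M u₁ = 0
  · exact ⟨u₁, hu₁0, hu₁N, h⟩
  · refine ⟨M u₁, h, ?_, ?_⟩
    · have h2 : acomm N M u₁ = N (M u₁) + M (N u₁) := rfl
      rw [hu₁c, hu₁N, map_zero, add_zero] at h2
      exact h2.symm
    · have h2 : (M * M) u₁ = 0 := by rw [hM]; rfl
      exact h2

end alg

section pg

variable {K : Type*} [Field K] {p : ℕ} [Fact p.Prime] [CharP K p] {Γ : Type*} [Group Γ]

theorem quotRep_acomm_pow {W : Type*} [AddCommGroup W] [Module K W]
    (ρ : Γ →* Module.End K W) (U : Submodule K W) (hU : ∀ γ : Γ, ∀ u ∈ U, ρ γ u ∈ U) (x y : Γ)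
    (k : ℕ) (w : W) :
    (acomm (quotRep ρ U hU x - 1) (quotRep ρ U hU y - 1) ^ k) (Submodule.Quotient.mk w) =
      Submodule.Quotient.mk ((acomm (ρ x - 1) (ρ y - 1) ^ k) w) := by
  induction k generalizing w with
  | zero => simp
  | succ k ih =>
    rw [pow_succ, Module.End.mul_apply, pow_succ, Module.End.mul_apply]
    have h1 : acomm (quotRep ρ U hU x - 1) (quotRep ρ U hU y - 1) (Submodule.Quotient.mk w) =
        Submodule.Quotient.mk (acomm (ρ x - 1) (ρ y - 1) w) := by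
      unfold acomm
      simp only [LinearMap.add_apply, Module.End.mul_apply, LinearMap.sub_apply,
        Module.End.one_apply, quotRep_apply, ← Submodule.Quotient.mk_sub,
        ← Submodule.Quotient.mk_add]
    rw [h1, ih]

/-- **Lemma A**: nilpotent anticommutator gives a `p`-group. -/
theorem pg_of_nilpotent (x y : Γ) (hgen : Subgroup.closure {x, y} = ⊤) :
    ∀ (n : ℕ) (W : Type u) [AddCommGroup W] [Module K W] [FiniteDimensional K W]
      (ρ : Γ →* Module.End K W), Module.finrank K W = n → Quad (ρ x) → Quad (ρ y) →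
      (∃ k : ℕ, acomm (ρ x - 1) (ρ y - 1) ^ k = 0) → PG p ρ := by
  intro n
  induction n using Nat.strong_induction_on with
  | _ n ih =>
  intro W _ _ _ ρ hn hx hy hk
  obtain ⟨k, hk⟩ := hk
  rcases subsingleton_or_nontrivial W with hW | hW
  · intro γ
    refine ⟨0, ?_⟩
    ext w
    exact Subsingleton.elim _ _
  obtain ⟨u, hu0, hNu, hMu⟩ := exists_common_fixed (ρ x - 1) (ρ y - 1) hx.mul_sub_one
    hy.mul_sub_one k hk
  have hxu : ρ x u = u := by
    have : (ρ x - 1) u = ρ x u - u := rfl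
    rw [this] at hNu
    exact sub_eq_zero.1 hNu
  have hyu : ρ y u = u := by
    have : (ρ y - 1) u = ρ y u - u := rfl
    rw [this] at hMu
    exact sub_eq_zero.1 hMu
  obtain ⟨U, hUdef⟩ : ∃ U : Submodule K W, U = Submodule.span K {u} := ⟨_, rfl⟩
  have hfix : ∀ γ : Γ, (γ = x ∨ γ = y) → ∀ v ∈ U, ρ γ v = v := by
    intro γ hγ v hv
    rw [hUdef, Submodule.mem_span_singleton] at hv
    obtain ⟨a, rfl⟩ := hv
    rw [map_smul]
    rcases hγ with rfl | rfl
    · rw [hxu]
    · rw [hyu]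
  have hUx : ∀ v ∈ U, ρ x v ∈ U := fun v hv => by rw [hfix x (Or.inl rfl) v hv]; exact hv
  have hUy : ∀ v ∈ U, ρ y v ∈ U := fun v hv => by rw [hfix y (Or.inr rfl) v hv]; exact hv
  have hU := invariant_of_gen ρ x y hgen hx hy U hUx hUy
  have huU : u ∈ U := by rw [hUdef]; exact Submodule.mem_span_singleton_self u
  have hsub : PG p (subRep ρ U hU) := by
    have hx1 : subRep ρ U hU x = 1 := by
      ext v
      rw [subRep_apply, hfix x (Or.inl rfl) v v.2]; rfl
    have hy1 : subRep ρ U hU y = 1 := by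
      ext v
      rw [subRep_apply, hfix y (Or.inr rfl) v v.2]; rfl
    intro γ
    exact ⟨0, rep_eq_one_of_gen (subRep ρ U hU) x y hgen hx1 hy1 _⟩
  have hquot : PG p (quotRep ρ U hU) := by
    have hlt : Module.finrank K (W ⧸ U) < n := by
      have h1 := U.finrank_quotient_add_finrank
      have hUpos : 0 < Module.finrank K U := by
        haveI : Nontrivial U := ⟨⟨⟨u, huU⟩, 0, fun h => hu0 (congrArg Subtype.val h)⟩⟩
        exact Module.finrank_pos
      omega
    refine ih _ hlt (W ⧸ U) (quotRep ρ U hU) rfl (quotRep_quad ρ U hU x hx)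
      (quotRep_quad ρ U hU y hy) ⟨k, ?_⟩
    apply LinearMap.ext
    intro v
    induction v using Submodule.Quotient.induction_on with
    | H w =>
      rw [quotRep_acomm_pow, hk]
      rfl
  exact PG_of_sub_quot ρ U hU hsub hquot

end pg

section B1

variable {K : Type*} [Field K] {W : Type*} [AddCommGroup W] [Module K W]

theorem exists_irreducible_factor_aux [FiniteDimensional K W]
    (c : Module.End K W) (hc : ∀ k : ℕ, c ^ k ≠ 0) :
    ∃ f : K[X], Irreducible f ∧ ¬ f ∣ X ∧ ∃ v : W, v ≠ 0 ∧ (aeval c f) v = 0 := by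
  have hint : IsIntegral K c := Algebra.IsIntegral.isIntegral c
  have hμ0 : minpoly K c ≠ 0 := minpoly.ne_zero hint
  obtain ⟨g, hg, hXg⟩ := exists_eq_pow_rootMultiplicity_mul_and_not_dvd (minpoly K c) hμ0 0
  rw [C_0, sub_zero] at hg hXg
  have hg0 : g ≠ 0 := by
    intro h0
    apply hμ0
    rw [hg, h0, mul_zero]
  have hgu : ¬ IsUnit g := by
    intro hu
    obtain ⟨r, hr, hrg⟩ := Polynomial.isUnit_iff.1 hu
    have h1 : aeval c (minpoly K c) = 0 := minpoly.aeval K c
    rw [hg, ← hrg, map_mul, map_pow, aeval_X, aeval_C] at h1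
    apply hc (rootMultiplicity 0 (minpoly K c))
    have h2 : c ^ rootMultiplicity 0 (minpoly K c) * (algebraMap K (Module.End K W) r) *
        (algebraMap K (Module.End K W) r⁻¹) = 0 := by rw [h1, zero_mul]
    rw [mul_assoc, ← map_mul, mul_inv_cancel₀ hr.ne_zero, map_one, mul_one] at h2
    exact h2
  obtain ⟨f, hf, hfg⟩ := WfDvdMonoid.exists_irreducible_factor hgu hg0
  have hfX : ¬ f ∣ X := by
    intro h
    have hass : Associated f X := hf.associated_of_dvd irreducible_X h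
    exact hXg (hass.symm.dvd.trans hfg)
  refine ⟨f, hf, hfX, ?_⟩
  obtain ⟨h, hh⟩ : f ∣ minpoly K c := hfg.trans (Dvd.intro_left _ hg.symm)
  have hh0 : h ≠ 0 := by
    intro h0
    apply hμ0
    rw [hh, h0, mul_zero]
  have hne : aeval c h ≠ 0 := by
    intro h0
    have h1 := minpoly.degree_le_of_ne_zero K c hh0 h0
    rw [hh, degree_mul] at h1
    have h2 : 0 < degree f := degree_pos_of_irreducible hf
    have h3 : degree h ≠ ⊥ := by rwa [Ne, degree_eq_bot]
    obtain ⟨n, hn⟩ := WithBot.ne_bot_iff_exists.1 h3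
    rw [← hn] at h1
    obtain ⟨m, hm⟩ := WithBot.ne_bot_iff_exists.1 (ne_bot_of_gt h2)
    rw [← hm] at h1 h2
    have h4 : (0 : WithBot ℕ) < (m : WithBot ℕ) := h2
    have h5 : 0 < m := by exact_mod_cast h4
    have h6 : ((m + n : ℕ) : WithBot ℕ) ≤ (n : WithBot ℕ) := by exact_mod_cast h1
    have h7 : m + n ≤ n := by exact_mod_cast h6
    omega
  obtain ⟨v₀, hv₀⟩ : ∃ v₀ : W, (aeval c h) v₀ ≠ 0 := by
    by_contra hcon
    push Not at hcon
    apply hne
    ext v
    exact hcon v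
  refine ⟨(aeval c h) v₀, hv₀, ?_⟩
  have h1 : (aeval c f) ((aeval c h) v₀) = (aeval c (f * h)) v₀ := by
    rw [map_mul]; rfl
  rw [h1, ← hh, minpoly.aeval]
  rfl

end B1

section E
variable {K : Type*} [Field K] {W : Type*} [AddCommGroup W] [Module K W]

noncomputable def evalE (c : Module.End K W) (f : K[X]) (hfc : aeval c f = 0) :
    AdjoinRoot f →+* Module.End K W :=
  Ideal.Quotient.lift (Ideal.span {f}) (aeval c).toRingHom (by
    intro g hg
    obtain ⟨q, rfl⟩ := Ideal.mem_span_singleton.1 hg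
    show aeval c (f * q) = 0
    rw [map_mul, hfc, zero_mul])

theorem evalE_mk (c : Module.End K W) (f : K[X]) (hfc : aeval c f = 0) (g : K[X]) :
    evalE c f hfc (AdjoinRoot.mk f g) = aeval c g := rfl

theorem evalE_root (c : Module.End K W) (f : K[X]) (hfc : aeval c f = 0) :
    evalE c f hfc (AdjoinRoot.root f) = c := by
  rw [← AdjoinRoot.mk_X, evalE_mk, aeval_X]

theorem commute_aeval (N c : Module.End K W) (h : Commute N c) (g : K[X]) :
    Commute N (aeval c g) := by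
  induction g using Polynomial.induction_on' with
  | add a b ha hb => rw [map_add]; exact ha.add_right hb
  | monomial n a =>
    rw [aeval_monomial]
    have h1 : Commute N (algebraMap K (Module.End K W) a) := (Algebra.commutes a N).symm
    exact h1.mul_right (h.pow_right n)

theorem commute_evalE (N c : Module.End K W) (h : Commute N c) (f : K[X]) (hfc : aeval c f = 0)
    (a : AdjoinRoot f) : Commute N (evalE c f hfc a) := by
  obtain ⟨g, rfl⟩ := AdjoinRoot.mk_surjective a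
  rw [evalE_mk]
  exact commute_aeval N c h g

theorem evalE_injOn (c : Module.End K W) (f : K[X]) [Fact (Irreducible f)] (hfc : aeval c f = 0)
    (a : AdjoinRoot f) (ha : a ≠ 0) (v : W) (hv : evalE c f hfc a v = 0) : v = 0 := by
  have h1 : evalE c f hfc (a⁻¹ * a) v = 0 := by
    rw [map_mul, Module.End.mul_apply, hv, map_zero]
  rw [inv_mul_cancel₀ ha, map_one] at h1
  exact h1

end E

section B2
open Matrix Cfsg.Agent.S0592 Cfsg.Agent.Lib.Helper50_SL2Mat Cfsg.Agent.Lib.Helper50_SL2Std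
  Cfsg.Agent.Lib.Helper50_SL2Gen Cfsg.Agent.Lib.Helper50_SL2DicksonPair
open scoped MatrixGroups

variable {p : ℕ} [Fact p.Prime] {W : Type*} [AddCommGroup W] [Module (ZMod p) W]
  {Γ : Type*} [Group Γ]

theorem mulVec_SL_0 {F : Type*} [Field F] (g : SL(2, F)) (z : Fin 2 → F) :
    ((g : Matrix (Fin 2) (Fin 2) F).mulVec z) 0 = g 0 0 * z 0 + g 0 1 * z 1 := by
  simp [Matrix.mulVec, dotProduct, Fin.sum_univ_two]

theorem mulVec_SL_1 {F : Type*} [Field F] (g : SL(2, F)) (z : Fin 2 → F) :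
    ((g : Matrix (Fin 2) (Fin 2) F).mulVec z) 1 = g 1 0 * z 0 + g 1 1 * z 1 := by
  simp [Matrix.mulVec, dotProduct, Fin.sum_univ_two]

/-- the intertwiner `Φ (a, b) = a(c) w + b(c) M w` -/
noncomputable def phiMap (c M : Module.End (ZMod p) W) (f : (ZMod p)[X]) (hfc : aeval c f = 0)
    (w : W) : (Fin 2 → AdjoinRoot f) →+ W where
  toFun z := evalE c f hfc (z 0) w + evalE c f hfc (z 1) (M w)
  map_zero' := by simp
  map_add' z z' := by
    simp only [Pi.add_apply, map_add, LinearMap.add_apply]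
    abel

theorem phiMap_apply (c M : Module.End (ZMod p) W) (f : (ZMod p)[X]) (hfc : aeval c f = 0)
    (w : W) (z : Fin 2 → AdjoinRoot f) :
    phiMap c M f hfc w z = evalE c f hfc (z 0) w + evalE c f hfc (z 1) (M w) := rfl

theorem commute_apply {A B : Module.End (ZMod p) W} (h : Commute A B) (v : W) :
    A (B v) = B (A v) := by
  have : (A * B) v = (B * A) v := by rw [h.eq]
  exact this

/-- **Lemma B2**: on a space where `f(c) = 0` (`f ≠ X` irreducible). -/
theorem plane_of_root (hp2 : p ≠ 2) (ρ : Γ →* Module.End (ZMod p) W) (x y : Γ)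
    (hx : Quad (ρ x)) (hy : Quad (ρ y)) (f : (ZMod p)[X]) (hf : Irreducible f) (hfX : ¬ f ∣ X)
    (hfc : aeval ((ρ x - 1) * (ρ y - 1) + (ρ y - 1) * (ρ x - 1)) f = 0) (w : W) (hw : w ≠ 0) :
    ∃ Ψ : (Fin 2 → ZMod p) →+ W, Function.Injective Ψ ∧
      ∀ S : SL(2, ZMod p), ∃ γ : Γ, ∀ t,
        ρ γ (Ψ t) = Ψ ((S : Matrix (Fin 2) (Fin 2) (ZMod p)).mulVec t) := by
  classical
  haveI : Fact (Irreducible f) := ⟨hf⟩
  obtain ⟨N, hNdef⟩ : ∃ N : Module.End (ZMod p) W, N = ρ x - 1 := ⟨_, rfl⟩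
  obtain ⟨M, hMdef⟩ : ∃ M : Module.End (ZMod p) W, M = ρ y - 1 := ⟨_, rfl⟩
  rw [← hNdef, ← hMdef] at hfc
  have hN : N * N = 0 := by rw [hNdef]; exact hx.mul_sub_one
  have hM : M * M = 0 := by rw [hMdef]; exact hy.mul_sub_one
  have hρx : ∀ v, ρ x v = v + N v := by
    intro v; rw [hNdef]; simp
  have hρy : ∀ v, ρ y v = v + M v := by
    intro v; rw [hMdef]; simp
  obtain ⟨w₁, hw₁0, hw₁N⟩ : ∃ w₁ : W, w₁ ≠ 0 ∧ N w₁ = 0 := by
    by_cases h : N w = 0
    · exact ⟨w, hw, h⟩
    · refine ⟨N w, h, ?_⟩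
      have : (N * N) w = 0 := by rw [hN]; rfl
      exact this
  have hc₀ : AdjoinRoot.root f ≠ 0 := by
    intro h0
    rw [← AdjoinRoot.mk_X, AdjoinRoot.mk_eq_zero] at h0
    exact hfX h0
  haveI : Module.Finite (ZMod p) (AdjoinRoot f) := (AdjoinRoot.powerBasis hf.ne_zero).finite
  haveI : Finite (AdjoinRoot f) := Module.finite_of_finite (ZMod p)
  haveI : Fintype (AdjoinRoot f) := Fintype.ofFinite _
  haveI : CharP (AdjoinRoot f) p :=
    charP_of_injective_algebraMap (algebraMap (ZMod p) (AdjoinRoot f)).injective p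
  obtain ⟨c, hcdef⟩ : ∃ c : Module.End (ZMod p) W, c = N * M + M * N := ⟨_, rfl⟩
  rw [← hcdef] at hfc
  have hNc : Commute N c := by
    show N * c = c * N
    rw [hcdef, mul_add, add_mul, ← mul_assoc N N M, hN, zero_mul, zero_add, mul_assoc M N N, hN,
      mul_zero, add_zero, mul_assoc]
  have hMc : Commute M c := by
    show M * c = c * M
    rw [hcdef, mul_add, add_mul, ← mul_assoc M M N, hM, zero_mul, add_zero, mul_assoc N M M, hM,
      mul_zero, zero_add, mul_assoc]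
  have hcw : ∀ v, c v = N (M v) + M (N v) := by
    intro v; rw [hcdef]; rfl
  obtain ⟨E, hEdef⟩ : ∃ E : AdjoinRoot f →+* Module.End (ZMod p) W, E = evalE c f hfc := ⟨_, rfl⟩
  have hNE : ∀ a v, N (E a v) = E a (N v) := fun a v => by
    rw [hEdef]; exact commute_apply (commute_evalE N c hNc f hfc a) v
  have hME : ∀ a v, M (E a v) = E a (M v) := fun a v => by
    rw [hEdef]; exact commute_apply (commute_evalE M c hMc f hfc a) v
  have hEroot : E (AdjoinRoot.root f) = c := by rw [hEdef]; exact evalE_root c f hfc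
  have hEinj : ∀ a : AdjoinRoot f, a ≠ 0 → ∀ v, E a v = 0 → v = 0 := by
    intro a ha v hv
    rw [hEdef] at hv
    exact evalE_injOn c f hfc a ha v hv
  obtain ⟨Φ, hΦdef⟩ : ∃ Φ : (Fin 2 → AdjoinRoot f) →+ W, Φ = phiMap c M f hfc w₁ := ⟨_, rfl⟩
  have hΦ : ∀ z, Φ z = E (z 0) w₁ + E (z 1) (M w₁) := by
    intro z; rw [hΦdef, hEdef]; rfl
  have hΦN : ∀ z, N (Φ z) = E (AdjoinRoot.root f * z 1) w₁ := by
    intro z
    rw [hΦ, map_add, hNE, hNE, hw₁N, map_zero, zero_add]
    have h1 : N (M w₁) = c w₁ := by rw [hcw, hw₁N, map_zero, add_zero]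
    rw [h1, ← hEroot, mul_comm, map_mul]; rfl
  have hΦM : ∀ z, M (Φ z) = E (z 0) (M w₁) := by
    intro z
    rw [hΦ, map_add, hME, hME]
    have h1 : M (M w₁) = 0 := by
      have : (M * M) w₁ = 0 := by rw [hM]; rfl
      exact this
    rw [h1, map_zero, add_zero]
  have hxΦ : ∀ z, ρ x (Φ z) =
      Φ ((tU (AdjoinRoot.root f) : Matrix (Fin 2) (Fin 2) (AdjoinRoot f)).mulVec z) := by
    intro z
    rw [hρx, hΦN, hΦ ((tU (AdjoinRoot.root f) : Matrix (Fin 2) (Fin 2) (AdjoinRoot f)).mulVec z),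
      mulVec_SL_0, mulVec_SL_1, hΦ]
    simp only [tU00, tU01, tU10, tU11, one_mul, zero_mul, zero_add, map_add, LinearMap.add_apply]
    abel
  have hyΦ : ∀ z, ρ y (Φ z) =
      Φ ((tL (1 : AdjoinRoot f) : Matrix (Fin 2) (Fin 2) (AdjoinRoot f)).mulVec z) := by
    intro z
    rw [hρy, hΦM, hΦ ((tL (1 : AdjoinRoot f) : Matrix (Fin 2) (Fin 2) (AdjoinRoot f)).mulVec z),
      mulVec_SL_0, mulVec_SL_1, hΦ]
    simp only [tL00, tL01, tL10, tL11, one_mul, zero_mul, add_zero, map_add, LinearMap.add_apply]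
    abel
  have hΦinj : ∀ z, Φ z = 0 → z = 0 := by
    intro z hz
    have h1 : E (AdjoinRoot.root f * z 1) w₁ = 0 := by rw [← hΦN, hz, map_zero]
    have hz1 : z 1 = 0 := by
      by_contra hne
      exact hw₁0 (hEinj _ (mul_ne_zero hc₀ hne) w₁ h1)
    have h2 : E (z 0) w₁ = 0 := by
      have := hΦ z
      rw [hz, hz1, map_zero, LinearMap.zero_apply, add_zero] at this
      exact this.symm
    have hz0 : z 0 = 0 := by
      by_contra hne
      exact hw₁0 (hEinj _ hne w₁ h2)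
    funext i
    fin_cases i
    · exact hz0
    · exact hz1
  -- the group generated by the two transvections
  obtain ⟨H₀, hH₀⟩ : ∃ H₀ : Subgroup SL(2, AdjoinRoot f),
      H₀ = Subgroup.closure {tU (AdjoinRoot.root f), tL 1} := ⟨_, rfl⟩
  have hreal : ∀ h ∈ H₀, ∃ γ : Γ, ∀ z,
      ρ γ (Φ z) = Φ ((h : Matrix (Fin 2) (Fin 2) (AdjoinRoot f)).mulVec z) := by
    intro h hh
    rw [hH₀] at hh
    induction hh using Subgroup.closure_induction with
    | mem g hg =>
      rcases hg with rfl | hg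
      · exact ⟨x, hxΦ⟩
      · rw [Set.mem_singleton_iff] at hg
        rw [hg]; exact ⟨y, hyΦ⟩
    | one => exact ⟨1, fun z => by rw [map_one]; simp⟩
    | mul a b _ _ iha ihb =>
      obtain ⟨γa, ha⟩ := iha
      obtain ⟨γb, hb⟩ := ihb
      refine ⟨γa * γb, fun z => ?_⟩
      rw [map_mul, Module.End.mul_apply, hb, ha, Matrix.SpecialLinearGroup.coe_mul,
        Matrix.mulVec_mulVec]
    | inv a _ iha =>
      obtain ⟨γa, ha⟩ := iha
      refine ⟨γa⁻¹, fun z => ?_⟩
      have h1 := ha (((a⁻¹ : SL(2, AdjoinRoot f)) : Matrix (Fin 2) (Fin 2) (AdjoinRoot f)).mulVec z)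
      rw [Matrix.mulVec_mulVec, ← Matrix.SpecialLinearGroup.coe_mul, mul_inv_cancel,
        Matrix.SpecialLinearGroup.coe_one, Matrix.one_mulVec] at h1
      rw [← h1, rep_inv_apply]
  have hu_mem : tU (AdjoinRoot.root f) ∈ H₀ := by
    rw [hH₀]; exact Subgroup.subset_closure (by simp)
  have hv_mem : tL (1 : AdjoinRoot f) ∈ H₀ := by
    rw [hH₀]; exact Subgroup.subset_closure (by simp)
  have hstd : Std p H₀.subtype ⟨tU (AdjoinRoot.root f), hu_mem⟩ ⟨tL 1, hv_mem⟩
      (AdjoinRoot.root f) 1 := ⟨H₀.subtype_injective, hp2, hc₀, one_ne_zero, rfl, rfl⟩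
  obtain ⟨u', v', α', j, hj, hu', htr, hγ⟩ := std_pair hstd
  obtain ⟨P, hα, hall⟩ := exists_conj_dmap p hu' htr j hj hγ
  have hall' : ∀ S : SL(2, ZMod p), P⁻¹ * dmap p α' hα S * P ∈ H₀ := by
    intro S
    obtain ⟨a, ha⟩ := hall S
    rw [← ha]; exact a.2
  obtain ⟨ι, hι⟩ : ∃ ι : ZMod p →+* AdjoinRoot f, ι = ZMod.castHom (dvd_refl p) (AdjoinRoot f) :=
    ⟨_, rfl⟩
  have hιinj : Function.Injective ι := RingHom.injective ι
  let ι₂ : (Fin 2 → ZMod p) →+ (Fin 2 → AdjoinRoot f) :=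
    { toFun := fun t => ![α' * ι (t 0), ι (t 1)]
      map_zero' := by
        funext i
        fin_cases i <;> simp
      map_add' := by
        intro s t
        funext i
        fin_cases i <;> simp [mul_add] }
  have hι₂0 : ∀ t, ι₂ t 0 = α' * ι (t 0) := fun t => rfl
  have hι₂1 : ∀ t, ι₂ t 1 = ι (t 1) := fun t => rfl
  have hdm : ∀ (S : SL(2, ZMod p)) t,
      ((dmap p α' hα S : SL(2, AdjoinRoot f)) : Matrix (Fin 2) (Fin 2) (AdjoinRoot f)).mulVec
        (ι₂ t) = ι₂ ((S : Matrix (Fin 2) (Fin 2) (ZMod p)).mulVec t) := by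
    intro S t
    funext i
    fin_cases i
    · show (((dmap p α' hα S : SL(2, AdjoinRoot f)) : Matrix (Fin 2) (Fin 2)
        (AdjoinRoot f)).mulVec (ι₂ t)) 0 = ι₂ _ 0
      rw [mulVec_SL_0, hι₂0, hι₂0, hι₂1, mulVec_SL_0, hι]
      simp only [dmap, MonoidHom.coe_mk, OneHom.coe_mk, mk00, mk01, map_add, map_mul]
      ring
    · show (((dmap p α' hα S : SL(2, AdjoinRoot f)) : Matrix (Fin 2) (Fin 2)
        (AdjoinRoot f)).mulVec (ι₂ t)) 1 = ι₂ _ 1
      rw [mulVec_SL_1, hι₂0, hι₂1, hι₂1, mulVec_SL_1, hι]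
      simp only [dmap, MonoidHom.coe_mk, OneHom.coe_mk, mk10, mk11, map_add, map_mul]
      field_simp
  obtain ⟨Ψ, hΨ⟩ : ∃ Ψ : (Fin 2 → ZMod p) →+ W, ∀ t, Ψ t =
      Φ (((P⁻¹ : SL(2, AdjoinRoot f)) : Matrix (Fin 2) (Fin 2) (AdjoinRoot f)).mulVec (ι₂ t)) :=
    ⟨Φ.comp ((Matrix.mulVecLin ((P⁻¹ : SL(2, AdjoinRoot f)) :
      Matrix (Fin 2) (Fin 2) (AdjoinRoot f))).toAddMonoidHom.comp ι₂), fun t => rfl⟩
  refine ⟨Ψ, ?_, ?_⟩
  · rw [injective_iff_map_eq_zero]
    intro t ht
    rw [hΨ] at ht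
    have h1 := hΦinj _ ht
    have h2 : ι₂ t = 0 := by
      have := congrArg (fun z => ((P : SL(2, AdjoinRoot f)) :
        Matrix (Fin 2) (Fin 2) (AdjoinRoot f)).mulVec z) h1
      simp only [Matrix.mulVec_mulVec, Matrix.mulVec_zero] at this
      rw [← Matrix.SpecialLinearGroup.coe_mul, mul_inv_cancel,
        Matrix.SpecialLinearGroup.coe_one, Matrix.one_mulVec] at this
      exact this
    have h20 : α' * ι (t 0) = 0 := by rw [← hι₂0, h2]; rfl
    have h21 : ι (t 1) = 0 := by rw [← hι₂1, h2]; rfl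
    funext i
    fin_cases i
    · rcases mul_eq_zero.1 h20 with h | h
      · exact absurd h hα
      · exact hιinj (h.trans (map_zero ι).symm)
    · exact hιinj (h21.trans (map_zero ι).symm)
  · intro S
    obtain ⟨γ, hγ'⟩ := hreal _ (hall' S)
    refine ⟨γ, fun t => ?_⟩
    have hgrp : P⁻¹ * dmap p α' hα S * P * P⁻¹ = P⁻¹ * dmap p α' hα S := by group
    rw [hΨ, hγ', Matrix.mulVec_mulVec, ← Matrix.SpecialLinearGroup.coe_mul, hgrp, hΨ, ← hdm,
      Matrix.mulVec_mulVec, ← Matrix.SpecialLinearGroup.coe_mul]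

end B2

section B

open Matrix
open scoped MatrixGroups

variable {p : ℕ} [Fact p.Prime] {Γ : Type*} [Group Γ]

theorem subRep_acomm_apply {W : Type*} [AddCommGroup W] [Module (ZMod p) W]
    (ρ : Γ →* Module.End (ZMod p) W) (U : Submodule (ZMod p) W)
    (hU : ∀ γ : Γ, ∀ u ∈ U, ρ γ u ∈ U) (x y : Γ) (u : U) :
    ((acomm (subRep ρ U hU x - 1) (subRep ρ U hU y - 1) u : U) : W) =
      acomm (ρ x - 1) (ρ y - 1) (u : W) := by
  unfold acomm
  simp only [LinearMap.add_apply, Module.End.mul_apply, LinearMap.sub_apply,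
    Module.End.one_apply, Submodule.coe_add, Submodule.coe_sub, subRep_apply]

theorem subRep_acomm_pow_apply {W : Type*} [AddCommGroup W] [Module (ZMod p) W]
    (ρ : Γ →* Module.End (ZMod p) W) (U : Submodule (ZMod p) W)
    (hU : ∀ γ : Γ, ∀ u ∈ U, ρ γ u ∈ U) (x y : Γ) (n : ℕ) (u : U) :
    (((acomm (subRep ρ U hU x - 1) (subRep ρ U hU y - 1) ^ n) u : U) : W) =
      (acomm (ρ x - 1) (ρ y - 1) ^ n) (u : W) := by
  induction n generalizing u with
  | zero => simp
  | succ n ih =>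
    rw [pow_succ, Module.End.mul_apply, ih, subRep_acomm_apply, pow_succ, Module.End.mul_apply]

theorem subRep_aeval_apply {W : Type*} [AddCommGroup W] [Module (ZMod p) W]
    (ρ : Γ →* Module.End (ZMod p) W) (U : Submodule (ZMod p) W)
    (hU : ∀ γ : Γ, ∀ u ∈ U, ρ γ u ∈ U) (x y : Γ) (g : (ZMod p)[X]) (u : U) :
    (((aeval (acomm (subRep ρ U hU x - 1) (subRep ρ U hU y - 1)) g) u : U) : W) =
      (aeval (acomm (ρ x - 1) (ρ y - 1)) g) (u : W) := by
  induction g using Polynomial.induction_on' with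
  | add a b ha hb =>
    rw [map_add, map_add, LinearMap.add_apply, LinearMap.add_apply, Submodule.coe_add, ha, hb]
  | monomial n a =>
    rw [aeval_monomial, aeval_monomial]
    simp only [Module.End.mul_apply, Module.algebraMap_end_apply, Submodule.coe_smul]
    rw [subRep_acomm_pow_apply]

/-- **Lemma B**: two quadratic generators of a linear group over `ZMod p` that is not a
`p`-group: there is a plane `Ψ : 𝔽_p² → W` on which every `S ∈ SL₂(p)` is realised by a group
element. -/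
theorem exists_plane (hp2 : p ≠ 2) (x y : Γ) (hgen : Subgroup.closure {x, y} = ⊤)
    {W : Type u} [AddCommGroup W] [Module (ZMod p) W] [Finite W]
    (ρ : Γ →* Module.End (ZMod p) W) (hx : Quad (ρ x)) (hy : Quad (ρ y)) (hnp : ¬ PG p ρ) :
    ∃ Ψ : (Fin 2 → ZMod p) →+ W, Function.Injective Ψ ∧
      ∀ S : SL(2, ZMod p), ∃ γ : Γ, ∀ t,
        ρ γ (Ψ t) = Ψ ((S : Matrix (Fin 2) (Fin 2) (ZMod p)).mulVec t) := by
  have hN : (ρ x - 1) * (ρ x - 1) = 0 := hx.mul_sub_one
  have hM : (ρ y - 1) * (ρ y - 1) = 0 := hy.mul_sub_one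
  have hck : ∀ k : ℕ, acomm (ρ x - 1) (ρ y - 1) ^ k ≠ 0 := by
    intro k hk
    exact hnp (pg_of_nilpotent (p := p) x y hgen _ W ρ rfl hx hy ⟨k, hk⟩)
  obtain ⟨f, hf, hfX, v, hv0, hv⟩ := exists_irreducible_factor_aux _ hck
  obtain ⟨V', hV'def⟩ : ∃ V' : Submodule (ZMod p) W,
      V' = LinearMap.ker (aeval (acomm (ρ x - 1) (ρ y - 1)) f) := ⟨_, rfl⟩
  have hcomm : ∀ A : Module.End (ZMod p) W, Commute (A - 1) (acomm (ρ x - 1) (ρ y - 1)) →
      ∀ u ∈ V', A u ∈ V' := by
    intro A hA u hu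
    rw [hV'def, LinearMap.mem_ker] at hu ⊢
    have h1 : Commute (A - 1) (aeval (acomm (ρ x - 1) (ρ y - 1)) f) := commute_aeval _ _ hA f
    have h2 : A = (A - 1) + 1 := by abel
    rw [h2, LinearMap.add_apply, map_add, Module.End.one_apply, hu, add_zero,
      ← commute_apply' h1, hu, map_zero]
  have hVx : ∀ u ∈ V', ρ x u ∈ V' := hcomm _ (acomm_commute_left _ _ hN)
  have hVy : ∀ u ∈ V', ρ y u ∈ V' := hcomm _ (acomm_commute_right _ _ hM)
  have hV' := invariant_of_gen ρ x y hgen hx hy V' hVx hVy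
  have hvV : v ∈ V' := by rw [hV'def, LinearMap.mem_ker]; exact hv
  have hfc : aeval ((subRep ρ V' hV' x - 1) * (subRep ρ V' hV' y - 1) +
      (subRep ρ V' hV' y - 1) * (subRep ρ V' hV' x - 1)) f = 0 := by
    apply LinearMap.ext
    intro u
    apply Subtype.ext
    have h1 := subRep_aeval_apply ρ V' hV' x y f u
    unfold acomm at h1
    rw [h1]
    have hu : (u : W) ∈ LinearMap.ker (aeval (acomm (ρ x - 1) (ρ y - 1)) f) := hV'def ▸ u.2
    rw [LinearMap.mem_ker] at hu
    unfold acomm at hu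
    exact hu
  obtain ⟨Ψ', hΨ'inj, hΨ'⟩ := plane_of_root hp2 (subRep ρ V' hV') x y (subRep_quad ρ V' hV' x hx)
    (subRep_quad ρ V' hV' y hy) f hf hfX hfc ⟨v, hvV⟩ (fun h => hv0 (congrArg Subtype.val h))
  refine ⟨V'.subtype.toAddMonoidHom.comp Ψ', ?_, ?_⟩
  · intro s t hst
    apply hΨ'inj
    apply Subtype.ext
    exact hst
  · intro S
    obtain ⟨γ, hγ⟩ := hΨ' S
    refine ⟨γ, fun t => ?_⟩
    have := congrArg Subtype.val (hγ t)
    rw [subRep_apply] at this
    exact this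

end B

end Cfsg.Agent.Lib.Helper1_QdLin
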