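import Mathlib.GroupTheory.Sylow
import Mathlib.GroupTheory.Commutator.Basic
import Mathlib.GroupTheory.Subgroup.Centralizer
import Mathlib.GroupTheory.Index
import Mathlib.Algebra.Group.End

set_option autoImplicit false

namespace Cfsg.Agent.Lib.Helper33_Conj

open scoped Pointwise

variable {G : Type*} [Group G]

/-- conjugate of a subgroup, in the form used in the statements -/
abbrev cj (g : G) (P : Subgroup G) : Subgroup G := P.map (MulAut.conj g).toMonoidHom

theorem mem_cj {g x : G} {P : Subgroup G} : x ∈ cj g P ↔ g⁻¹ * x * g ∈ P := by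
  constructor
  · rintro ⟨y, hy, rfl⟩
    simp only [MulEquiv.coe_toMonoidHom, MulAut.conj_apply]
    have : g⁻¹ * (g * y * g⁻¹) * g = y := by group
    rw [this]; exact hy
  · intro h
    refine ⟨g⁻¹ * x * g, h, ?_⟩
    simp only [MulEquiv.coe_toMonoidHom, MulAut.conj_apply]
    group

theorem conj_mem_cj {g x : G} {P : Subgroup G} (hx : x ∈ P) : g * x * g⁻¹ ∈ cj g P :=
  ⟨x, hx, by simp⟩

theorem conj_mem_cj_iff {g x : G} {P : Subgroup G} : g * x * g⁻¹ ∈ cj g P ↔ x ∈ P := by
  rw [mem_cj]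
  have : g⁻¹ * (g * x * g⁻¹) * g = x := by group
  rw [this]

theorem cj_eq_smul (g : G) (P : Subgroup G) : cj g P = MulAut.conj g • P := rfl

theorem cj_one (P : Subgroup G) : cj 1 P = P := by
  ext x; rw [mem_cj]; simp

theorem cj_mul (g h : G) (P : Subgroup G) : cj (g * h) P = cj g (cj h P) := by
  ext x; simp only [mem_cj]
  have : (g * h)⁻¹ * x * (g * h) = h⁻¹ * (g⁻¹ * x * g) * h := by group
  rw [this]

theorem cj_inv_cj (g : G) (P : Subgroup G) : cj g⁻¹ (cj g P) = P := by
  rw [← cj_mul]; simp [cj_one]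

theorem cj_cj_inv (g : G) (P : Subgroup G) : cj g (cj g⁻¹ P) = P := by
  rw [← cj_mul]; simp [cj_one]

theorem cj_mono {g : G} {P Q : Subgroup G} (h : P ≤ Q) : cj g P ≤ cj g Q :=
  Subgroup.map_mono h

theorem cj_le_iff {g : G} {P Q : Subgroup G} : cj g P ≤ Q ↔ P ≤ cj g⁻¹ Q := by
  constructor
  · intro h; have := cj_mono (g := g⁻¹) h; rwa [cj_inv_cj] at this
  · intro h; have := cj_mono (g := g) h; rwa [cj_cj_inv] at this

theorem mem_normalizer_iff_cj {g : G} {P : Subgroup G} :
    g ∈ Subgroup.normalizer (P : Set G) ↔ cj g P = P := by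
  constructor
  · intro h
    ext x
    rw [mem_cj]
    exact (Subgroup.mem_normalizer_iff''.mp h x).symm
  · intro h
    rw [Subgroup.mem_normalizer_iff'']
    intro x
    rw [← mem_cj, h]

theorem cj_of_mem {g : G} {P : Subgroup G} (hg : g ∈ P) : cj g P = P :=
  mem_normalizer_iff_cj.mp (Subgroup.le_normalizer hg)

theorem cj_normalizer (g : G) (P : Subgroup G) :
    cj g (Subgroup.normalizer (P : Set G)) = Subgroup.normalizer ((cj g P : Subgroup G) : Set G) := by
  ext x
  rw [mem_cj, mem_normalizer_iff_cj, mem_normalizer_iff_cj]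
  constructor
  · intro h
    have : cj g (cj (g⁻¹ * x * g) P) = cj g P := by rw [h]
    rw [← cj_mul] at this
    have h2 : g * (g⁻¹ * x * g) = x * g := by group
    rw [h2, cj_mul] at this
    exact this
  · intro h
    have h2 : g⁻¹ * x * g = g⁻¹ * (x * g) := by group
    rw [h2, cj_mul, cj_mul, h, cj_inv_cj]

theorem cj_centralizer (g : G) (P : Subgroup G) :
    cj g (Subgroup.centralizer (P : Set G)) = Subgroup.centralizer ((cj g P : Subgroup G) : Set G) := by
  ext x
  rw [mem_cj, Subgroup.mem_centralizer_iff, Subgroup.mem_centralizer_iff]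
  constructor
  · intro h y hy
    rw [SetLike.mem_coe, mem_cj] at hy
    have := h _ hy
    calc y * x = g * ((g⁻¹ * y * g) * (g⁻¹ * x * g)) * g⁻¹ := by group
      _ = g * ((g⁻¹ * x * g) * (g⁻¹ * y * g)) * g⁻¹ := by rw [this]
      _ = x * y := by group
  · intro h y hy
    have := h (g * y * g⁻¹) (conj_mem_cj hy)
    calc y * (g⁻¹ * x * g) = g⁻¹ * ((g * y * g⁻¹) * x) * g := by group
      _ = g⁻¹ * (x * (g * y * g⁻¹)) * g := by rw [this]
      _ = g⁻¹ * x * g * y := by group

theorem cj_inf (g : G) (P Q : Subgroup G) : cj g (P ⊓ Q) = cj g P ⊓ cj g Q := by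
  ext x; simp only [mem_cj, Subgroup.mem_inf]

theorem isPGroup_cj {p : ℕ} {g : G} {P : Subgroup G} (h : IsPGroup p P) : IsPGroup p (cj g P) :=
  h.map _

theorem cj_closure (g : G) (A : Set G) :
    cj g (Subgroup.closure A) = Subgroup.closure ((fun a => g * a * g⁻¹) '' A) := by
  unfold cj
  rw [MonoidHom.map_closure]
  rfl

/-- A `p`-subgroup of index prime to `p` is a conjugate of any given Sylow `p`-subgroup. -/
theorem exists_cj_eq_of_index [Finite G] {p : ℕ} [Fact p.Prime] (S : Sylow p G) (T : Subgroup G)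
    (hT : IsPGroup p T) (hidx : ¬ p ∣ T.index) : ∃ k : G, T = cj k (S : Subgroup G) := by
  obtain ⟨k, hk⟩ := MulAction.exists_smul_eq G S (hT.toSylow hidx)
  refine ⟨k, ?_⟩
  have := congrArg (fun Q : Sylow p G => (Q : Subgroup G)) hk
  simp only [Sylow.coe_subgroup_smul, IsPGroup.toSylow_coe] at this
  rw [cj_eq_smul, this]

theorem sylow_cj_eq [Finite G] {p : ℕ} [Fact p.Prime] (S S' : Sylow p G) :
    ∃ k : G, (S' : Subgroup G) = cj k (S : Subgroup G) := by
  obtain ⟨k, hk⟩ := MulAction.exists_smul_eq G S S'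
  refine ⟨k, ?_⟩
  rw [← hk, Sylow.coe_subgroup_smul, cj_eq_smul]

end Cfsg.Agent.Lib.Helper33_Conj
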