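import Mathlib
import Cfsg.Prelude.Def_LocalEven
import Cfsg.Agent.S5299
import Cfsg.Agent.Lib.Helper33_Conj
import Cfsg.Agent.Lib.Helper33_Alperin
import Cfsg.Agent.Lib.Helper51_Local
import Cfsg.Agent.Lib.Helper34_NPC
import Cfsg.Agent.Lib.Helper10_QuadPair
import Cfsg.Agent.Lib.Helper50_SL2Dickson
import Cfsg.Agent.Lib.Helper48_Generation
import Cfsg.Agent.Lib.Helper1_Frattini
import Cfsg.Agent.S0199
import Cfsg.Agent.S4218
import Cfsg.Agent.Lib.Helper34_PStable

/-!
# Sections and quadratic action (helper50)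

* `exists_sylow_lift`: a `p`-subgroup of a homomorphic image lifts to a `p`-subgroup whose
  normalizer covers the normalizer of the image (Frattini argument).
* `involves_normalizer_of_section`: a section of the normalizer of a nontrivial `p`-subgroup of a
  section `K / R` of `G` is a section of the normalizer of a nontrivial `p`-subgroup of `G`.
-/

set_option autoImplicit false

namespace Cfsg.Agent.Lib.Helper50_QuadSec

open Cfsg.Agent.Lib.Helper33_Conj Cfsg.Agent.Lib.Helper33_Alperin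

section Lift

variable {K' X : Type*} [Group K'] [Finite K'] [Group X] {p : ℕ} [Fact p.Prime]

/-- A `p`-subgroup `Pbar` of a homomorphic image of a finite group is the image of a `p`-subgroup
`S` such that the normalizer of `S` maps onto the normalizer of `Pbar`. -/
theorem exists_sylow_lift (π : K' →* X) (hπ : Function.Surjective π) (Pbar : Subgroup X)
    (hP : IsPGroup p Pbar) :
    ∃ S : Subgroup K', IsPGroup p S ∧ S.map π = Pbar ∧
      ∀ x ∈ Subgroup.normalizer (Pbar : Set X),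
        ∃ n ∈ Subgroup.normalizer (S : Set K'), π n = x := by
  have : Finite X := Finite.of_surjective π hπ
  obtain ⟨Y, hY⟩ : ∃ Y : Subgroup K', Y = Pbar.comap π := ⟨_, rfl⟩
  have hmemY : ∀ y, y ∈ Y ↔ π y ∈ Pbar := fun y => by rw [hY, Subgroup.mem_comap]
  obtain ⟨S, -, hSY, hSp, hSidx⟩ := Cfsg.Agent.Lib.Helper51_Local.exists_sylow_sub (p := p)
    (bot_le : (⊥ : Subgroup K') ≤ Y) IsPGroup.of_bot
  have hker : π.ker ≤ Y := fun x hx => by
    rw [hmemY, MonoidHom.mem_ker.1 hx]; exact Pbar.one_mem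
  obtain ⟨k, hk⟩ := IsPGroup.iff_card.mp hP
  have hpow : ∃ n : ℕ, π.ker.relIndex Y = p ^ n := by
    refine Cfsg.Agent.Lib.Helper51_Local.relIndex_eq_pow_of_forall_pow_mem hker ?_ k ?_
    · intro y _
      exact (Subgroup.normalizer_eq_top (H := π.ker)).symm ▸ Subgroup.mem_top y
    · intro y hy
      rw [MonoidHom.mem_ker, map_pow]
      have h1 : (⟨π y, (hmemY y).1 hy⟩ : Pbar) ^ Nat.card Pbar = 1 := pow_card_eq_one'
      rw [hk] at h1
      exact congrArg Subtype.val h1
  have hYle : Y ≤ S ⊔ π.ker :=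
    Cfsg.Agent.Lib.Helper51_Local.le_sup_of_sylow_of_relIndex_pow hSidx hpow
  have hdecomp : ∀ y ∈ Y, ∃ s ∈ S, π s = π y := by
    intro y hy
    have h1 := hYle hy
    rw [← SetLike.mem_coe, Subgroup.mul_normal] at h1
    obtain ⟨s, hs, l, hl, rfl⟩ := h1
    refine ⟨s, hs, ?_⟩
    rw [map_mul, MonoidHom.mem_ker.1 hl, mul_one]
  have hSmap : S.map π = Pbar := by
    apply le_antisymm
    · rintro _ ⟨s, hs, rfl⟩
      exact (hmemY s).1 (hSY hs)
    · intro x hx
      obtain ⟨y, rfl⟩ := hπ x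
      obtain ⟨s, hs, hsy⟩ := hdecomp y ((hmemY y).2 hx)
      exact ⟨s, hs, hsy⟩
  refine ⟨S, hSp, hSmap, ?_⟩
  intro x hx
  obtain ⟨m, rfl⟩ := hπ x
  obtain ⟨M, hM⟩ : ∃ M : Subgroup K', M = (Subgroup.normalizer (Pbar : Set X)).comap π :=
    ⟨_, rfl⟩
  have hmM : m ∈ M := by rw [hM, Subgroup.mem_comap]; exact hx
  have hnorm : ∀ m ∈ M, cj m Y = Y := by
    intro m hm
    refine Cfsg.Agent.Lib.Helper51_Local.cj_eq_of_forall_conj_mem (M := M) ?_ hm
    intro m' hm' y hy
    rw [hM, Subgroup.mem_comap] at hm'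
    rw [hmemY] at hy ⊢
    rw [map_mul, map_mul, map_inv]
    exact ((Subgroup.mem_normalizer_iff.1 hm') _).1 hy
  obtain ⟨y, hyY, hyS⟩ := Cfsg.Agent.Lib.Helper51_Local.frattini (p := p) hnorm hSY hSp hSidx hmM
  obtain ⟨s, hs, hsy⟩ := hdecomp y hyY
  have h1 : y * m ∈ Subgroup.normalizer (S : Set K') := mem_normalizer_iff_cj.mpr hyS
  have h2 : s ∈ Subgroup.normalizer (S : Set K') := Subgroup.le_normalizer hs
  refine ⟨s⁻¹ * (y * m), mul_mem (inv_mem h2) h1, ?_⟩
  rw [map_mul, map_inv, map_mul, hsy]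
  group

end Lift

section Section

variable {G : Type*} [Group G] [Finite G] {p : ℕ} [Fact p.Prime]

/-- A section of the normalizer of a nontrivial `p`-subgroup of the section `K / R` of `G` is a
section of the normalizer of a nontrivial `p`-subgroup of `G`. -/
theorem involves_normalizer_of_section {A : Type*} [Group A] (K R : Subgroup G)
    [hR : (R.subgroupOf K).Normal] (Pbar : Subgroup (↥K ⧸ R.subgroupOf K))
    (hP : IsPGroup p Pbar) (hne : Pbar ≠ ⊥)
    (h : Cfsg.Involves A ↥(Subgroup.normalizer (Pbar : Set (↥K ⧸ R.subgroupOf K)))) :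
    ∃ P : Subgroup G, IsPGroup p P ∧ P ≠ ⊥ ∧
      Cfsg.Involves A ↥(Subgroup.normalizer (P : Set G)) := by
  obtain ⟨S, hSp, hSmap, hSn⟩ := exists_sylow_lift (QuotientGroup.mk' (R.subgroupOf K))
    (QuotientGroup.mk'_surjective _) Pbar hP
  refine ⟨S.map K.subtype, hSp.map _, ?_, ?_⟩
  · intro hbot
    rw [Subgroup.map_eq_bot_iff_of_injective _ K.subtype_injective] at hbot
    apply hne
    rw [← hSmap, hbot, Subgroup.map_bot]
  · -- first to the normalizer of `S` in `K`
    have h1 : Cfsg.Involves A ↥(Subgroup.normalizer (S : Set ↥K)) := by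
      have hmem : ∀ n : ↥(Subgroup.normalizer (S : Set ↥K)),
          ((QuotientGroup.mk' (R.subgroupOf K)).comp (Subgroup.normalizer (S : Set ↥K)).subtype) n ∈
            Subgroup.normalizer (Pbar : Set (↥K ⧸ R.subgroupOf K)) := by
        intro n
        have h2 := Subgroup.le_normalizer_map (H := S) (QuotientGroup.mk' (R.subgroupOf K))
          ⟨n.1, n.2, rfl⟩
        rw [hSmap] at h2
        exact h2
      refine Cfsg.Agent.Lib.Helper34_NPC.involves_of_surjective
        (((QuotientGroup.mk' (R.subgroupOf K)).comp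
          (Subgroup.normalizer (S : Set ↥K)).subtype).codRestrict _ hmem) ?_ h
      rintro ⟨x, hx⟩
      obtain ⟨n, hn, hnx⟩ := hSn x hx
      exact ⟨⟨n, hn⟩, Subtype.ext hnx⟩
    have hmem2 : ∀ n : ↥(Subgroup.normalizer (S : Set ↥K)),
        (K.subtype.comp (Subgroup.normalizer (S : Set ↥K)).subtype) n ∈
          Subgroup.normalizer ((S.map K.subtype : Subgroup G) : Set G) := by
      intro n
      exact Subgroup.le_normalizer_map (H := S) K.subtype ⟨n.1, n.2, rfl⟩
    refine Cfsg.Agent.S5299.involves_of_injective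
      ((K.subtype.comp (Subgroup.normalizer (S : Set ↥K)).subtype).codRestrict _ hmem2) ?_ h1
    intro a b hab
    have h3 := congrArg Subtype.val hab
    exact Subtype.ext (Subtype.ext h3)

end Section

section Quad

open Cfsg.Agent.Lib.Helper10_QuadPair

/-- quadratic action is stable under conjugation -/
theorem quad_conj_aut {N : Type*} [Group N] (α β : MulAut N)
    (hq : ∀ n, α (α n * n⁻¹) = α n * n⁻¹) (n : N) :
    (β * α * β⁻¹) ((β * α * β⁻¹) n * n⁻¹) = (β * α * β⁻¹) n * n⁻¹ := by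
  have h1 : ∀ x, (β * α * β⁻¹) x = β (α (β⁻¹ x)) := fun x => rfl
  have h2 : n = β (β⁻¹ n) := (MulAut.apply_inv_self N β n).symm
  obtain ⟨m, hm⟩ : ∃ m, m = β⁻¹ n := ⟨_, rfl⟩
  rw [h1 n, ← hm]
  have h3 : n = β m := by rw [hm]; exact h2
  have h4 : β (α m) * n⁻¹ = β (α m * m⁻¹) := by rw [h3, map_mul, map_inv]
  rw [h4, h1, MulAut.inv_apply_self N β, hq]

/-- **Quadratic action on an elementary abelian group** (`p` odd, action not necessarily
faithful): either `a` lies in a normal subgroup acting as a `p`-group, or `SL(2, p)` is involved. -/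
theorem quad_elementary {Γ : Type*} [Group Γ] [Finite Γ] {p : ℕ} [Fact p.Prime] (hp : p ≠ 2)
    {N : Type*} [CommGroup N] [Finite N] (hN : ∀ n : N, n ^ p = 1) (c : Γ →* MulAut N) (a : Γ)
    (hq : ∀ n, c a (c a n * n⁻¹) = c a n * n⁻¹) :
    (∃ D : Subgroup Γ, D.Normal ∧ a ∈ D ∧ ∀ d ∈ D, ∃ j : ℕ, c (d ^ p ^ j) = 1) ∨
      Cfsg.Involves (Matrix.SpecialLinearGroup (Fin 2) (ZMod p)) Γ := by
  classical
  by_cases hcase : ∀ g : Γ,
      IsPGroup p (Subgroup.closure {c a, c (g * a * g⁻¹)} : Subgroup (MulAut N))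
  · left
    -- Baer–Suzuki in the image
    obtain ⟨α₀, hα₀⟩ : ∃ α₀ : c.range, α₀ = ⟨c a, a, rfl⟩ := ⟨_, rfl⟩
    have hsub : ∀ γ : c.range, IsPGroup p ↥(Subgroup.zpowers α₀ ⊔
        (Subgroup.zpowers α₀).map (MulAut.conj γ).toMonoidHom) := by
      rintro ⟨_, g, rfl⟩
      have h1 := (hcase g).comap_of_injective c.range.subtype c.range.subtype_injective
      refine h1.to_le (sup_le ?_ ?_)
      · rw [Subgroup.zpowers_le, Subgroup.mem_comap]
        show ((α₀ : c.range) : MulAut N) ∈ _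
        rw [hα₀]
        exact Subgroup.subset_closure (by simp)
      · rw [MonoidHom.map_zpowers, Subgroup.zpowers_le, Subgroup.mem_comap]
        show (((⟨c g, g, rfl⟩ : c.range) * α₀ * (⟨c g, g, rfl⟩ : c.range)⁻¹ : c.range) :
          MulAut N) ∈ _
        rw [hα₀]
        have : (((⟨c g, g, rfl⟩ : c.range) * ⟨c a, a, rfl⟩ * (⟨c g, g, rfl⟩ : c.range)⁻¹ :
            c.range) : MulAut N) = c (g * a * g⁻¹) := by
          rw [map_mul, map_mul, map_inv]; rfl
        rw [this]
        exact Subgroup.subset_closure (by simp)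
    have hX : IsPGroup p (Subgroup.zpowers α₀) := (hsub 1).to_le le_sup_left
    obtain ⟨N₀, hN₀n, hN₀p, hXN₀⟩ := Cfsg.Agent.S0199.result (Subgroup.zpowers α₀) hX hsub
    refine ⟨N₀.comap c.rangeRestrict, hN₀n.comap _, ?_, ?_⟩
    · rw [Subgroup.mem_comap]
      have : c.rangeRestrict a = α₀ := by rw [hα₀]; rfl
      rw [this]
      exact hXN₀ (Subgroup.mem_zpowers α₀)
    · intro d hd
      rw [Subgroup.mem_comap] at hd
      obtain ⟨j, hj⟩ := hN₀p ⟨_, hd⟩
      refine ⟨j, ?_⟩
      have h1 := congrArg Subtype.val (congrArg Subtype.val hj)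
      rw [map_pow]
      simpa using h1
  · right
    simp only [not_forall] at hcase
    obtain ⟨g, hg⟩ := hcase
    obtain ⟨α, hα⟩ : ∃ α : MulAut N, α = c a := ⟨_, rfl⟩
    obtain ⟨β, hβ⟩ : ∃ β : MulAut N, β = c (g * a * g⁻¹) := ⟨_, rfl⟩
    rw [← hα, ← hβ] at hg
    have hαq : ∀ n, α (α n * n⁻¹) = α n * n⁻¹ := by rw [hα]; exact hq
    have hβq : ∀ n, β (β n * n⁻¹) = β n * n⁻¹ := by
      have : β = c g * α * (c g)⁻¹ := by rw [hβ, hα, map_mul, map_mul, map_inv]
      rw [this]
      exact quad_conj_aut α (c g) hαq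
    have hαm : α ∈ Subgroup.closure {α, β} := Subgroup.subset_closure (by simp)
    have hβm : β ∈ Subgroup.closure {α, β} := Subgroup.subset_closure (by simp)
    let instM : Module (ZMod p) (Additive N) := AddCommGroup.zmodModule (n := p) (by
      intro w
      have h2 : Additive.ofMul ((Additive.toMul w) ^ p) = 0 := by rw [hN]; rfl
      rw [ofMul_pow] at h2
      exact h2)
    obtain ⟨m, hm, φ, _, hφ⟩ := comm_version (p := p)
      (⟨α, hαm⟩ : (Subgroup.closure {α, β} : Subgroup (MulAut N))) ⟨β, hβm⟩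
      (closure_pair_top α β hαm hβm) N (Subgroup.closure {α, β}).subtype
      (fun γ h => Subtype.ext (MulEquiv.ext h)) hαq hβq hg
    have : Fintype (GaloisField p m) := Fintype.ofFinite _
    obtain ⟨K₀, hK, ⟨e⟩⟩ :=
      Cfsg.Agent.Lib.Helper50_SL2Dickson.dickson p hp φ.range hφ
    -- pull back to `Γ`
    have hle : Subgroup.closure {α, β} ≤ c.range := by
      rw [Subgroup.closure_le]
      intro z hz
      rcases hz with hz | hz
      · rw [hz, hα]; exact ⟨a, rfl⟩
      · have hz' : z = β := hz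
        rw [hz', hβ]; exact ⟨_, rfl⟩
    have hK' : K₀ ≤ (φ.comp (c.subgroupComap (Subgroup.closure {α, β}))).range := by
      intro k hk
      obtain ⟨z, rfl⟩ := hK hk
      obtain ⟨y, hy⟩ := hle z.2
      refine ⟨⟨y, ?_⟩, ?_⟩
      · rw [Subgroup.mem_comap, hy]; exact z.2
      · show φ (c.subgroupComap (Subgroup.closure {α, β}) ⟨y, _⟩) = φ z
        congr 1
        exact Subtype.ext hy
    obtain ⟨K, L, hL, -, ⟨ε⟩⟩ := exists_section_of_hom ((Subgroup.closure {α, β}).comap c)
      (φ.comp (c.subgroupComap (Subgroup.closure {α, β}))) K₀ hK'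
    exact ⟨K, L, hL, ⟨ε.trans e⟩⟩

/-- **Quadratic action on a `p`-group** (`p` odd, action not necessarily faithful): either `a`
lies in a normal subgroup acting as a `p`-group, or `SL(2, p)` is involved. -/
theorem quad_pgroup {Γ : Type*} [Group Γ] [Finite Γ] {p : ℕ} [Fact p.Prime] (hp : p ≠ 2)
    {P : Type*} [Group P] [Finite P] (hP : IsPGroup p P) (c : Γ →* MulAut P) (a : Γ)
    (hq : ∀ x, c a (c a x * x⁻¹) = c a x * x⁻¹) :
    (∃ D : Subgroup Γ, D.Normal ∧ a ∈ D ∧ ∀ d ∈ D, ∃ j : ℕ, c (d ^ p ^ j) = 1) ∨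
      Cfsg.Involves (Matrix.SpecialLinearGroup (Fin 2) (ZMod p)) Γ := by
  have hcomm : IsMulCommutative (P ⧸ frattini P) :=
    Subgroup.Normal.quotient_commutative_iff_commutator_le.mpr
      (Cfsg.Agent.Lib.Helper1_Frattini.commutator_le_frattini_of_isPGroup hP)
  let instC : CommGroup (P ⧸ frattini P) :=
    { (inferInstance : Group (P ⧸ frattini P)) with
      mul_comm := fun u v => hcomm.is_comm.comm u v }
  have hN : ∀ n : P ⧸ frattini P, n ^ p = 1 := by
    intro n
    induction n using QuotientGroup.induction_on with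
    | H x =>
      rw [← QuotientGroup.mk_pow, QuotientGroup.eq_one_iff]
      exact Cfsg.Agent.Lib.Helper1_Frattini.pow_mem_frattini_of_isPGroup hP x
  obtain ⟨cbar, hcbar⟩ : ∃ cbar : Γ →* MulAut (P ⧸ frattini P),
      cbar = (Cfsg.Agent.Lib.Helper48_Generation.autQuot (frattini P)).comp c := ⟨_, rfl⟩
  have hcb : ∀ (γ : Γ) (x : P), cbar γ (x : P ⧸ frattini P) = ((c γ x : P) : P ⧸ frattini P) := by
    intro γ x
    rw [hcbar]
    rfl
  have hqb : ∀ n, cbar a (cbar a n * n⁻¹) = cbar a n * n⁻¹ := by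
    intro n
    induction n using QuotientGroup.induction_on with
    | H x =>
      rw [hcb, ← QuotientGroup.mk_inv, ← QuotientGroup.mk_mul, hcb, hq]
  rcases quad_elementary hp hN cbar a hqb with ⟨D, hDn, haD, hD⟩ | h
  · left
    refine ⟨D, hDn, haD, ?_⟩
    intro d hd
    obtain ⟨j, hj⟩ := hD d hd
    have hmem : c (d ^ p ^ j) ∈ Cfsg.Agent.S4218.frattiniTrivial P := by
      rw [Cfsg.Agent.S4218.mem_frattiniTrivial]
      intro y
      have h1 : cbar (d ^ p ^ j) (y : P ⧸ frattini P) = (y : P ⧸ frattini P) := by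
        rw [hj]; rfl
      rw [hcb] at h1
      rw [← QuotientGroup.eq_one_iff, QuotientGroup.mk_mul, QuotientGroup.mk_inv, h1,
        mul_inv_cancel]
    obtain ⟨k, hk⟩ := Cfsg.Agent.S4218.frattiniTrivial_isPGroup p hP ⟨_, hmem⟩
    refine ⟨j + k, ?_⟩
    have h2 : (c (d ^ p ^ j)) ^ p ^ k = 1 := by
      have := congrArg Subtype.val hk
      simpa using this
    rw [pow_add, pow_mul, map_pow]
    exact h2
  · right
    exact h

open scoped commutatorElement in
/-- **Normalizer form**: `p` odd, `P` a `p`-subgroup of the finite group `X`, `g ∈ N_X(P)` acting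
quadratically on `P`. Then the image of `g` lies in `O_p(N_X(P) / C_X(P))`, or `SL(2, p)` is
involved in `N_X(P)`. -/
theorem quad_normalizer {X : Type*} [Group X] [Finite X] {p : ℕ} [Fact p.Prime] (hp : p ≠ 2)
    (P : Subgroup X) (hP : IsPGroup p P) (g : X) (hg : g ∈ Subgroup.normalizer (P : Set X))
    (hq : ⁅⁅P, Subgroup.zpowers g⁆, Subgroup.zpowers g⁆ = ⊥) :
    (QuotientGroup.mk (s := (Subgroup.centralizer (P : Set X)).subgroupOf
        (Subgroup.normalizer (P : Set X))) (⟨g, hg⟩ : ↥(Subgroup.normalizer (P : Set X)))) ∈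
      Cfsg.pCore p (↥(Subgroup.normalizer (P : Set X)) ⧸
        (Subgroup.centralizer (P : Set X)).subgroupOf (Subgroup.normalizer (P : Set X))) ∨
    Cfsg.Involves (Matrix.SpecialLinearGroup (Fin 2) (ZMod p))
      ↥(Subgroup.normalizer (P : Set X)) := by
  obtain ⟨c, hc⟩ : ∃ c : ↥(Subgroup.normalizer (P : Set X)) →* MulAut ↥P,
      c = conjAct P (Subgroup.normalizer (P : Set X)) le_rfl := ⟨_, rfl⟩
  have hcapp : ∀ (n : ↥(Subgroup.normalizer (P : Set X))) (v : ↥P),
      ((c n v : ↥P) : X) = (n : X) * v * (n : X)⁻¹ := by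
    intro n v
    rw [hc]
    rfl
  have hqc : ∀ x, c ⟨g, hg⟩ (c ⟨g, hg⟩ x * x⁻¹) = c ⟨g, hg⟩ x * x⁻¹ := by
    intro x
    apply Subtype.ext
    rw [hcapp, Subgroup.coe_mul, hcapp, Subgroup.coe_inv]
    exact quad_elt P g hq x x.2
  rcases quad_pgroup hp hP c ⟨g, hg⟩ hqc with ⟨D, hDn, haD, hD⟩ | h
  · left
    refine Cfsg.Agent.Lib.Helper34_PStable.mk_mem_pCore_of _ D hDn ?_ haD
    intro d hd
    obtain ⟨j, hj⟩ := hD d hd
    refine ⟨j, ?_⟩
    rw [Subgroup.mem_subgroupOf, Subgroup.mem_centralizer_iff]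
    intro v hv
    have h1 : c (d ^ p ^ j) ⟨v, hv⟩ = ⟨v, hv⟩ := by rw [hj]; rfl
    have h2 := congrArg Subtype.val h1
    rw [hcapp] at h2
    have h3 : ((d ^ p ^ j : ↥(Subgroup.normalizer (P : Set X))) : X) * v =
        v * ((d ^ p ^ j : ↥(Subgroup.normalizer (P : Set X))) : X) := by
      calc ((d ^ p ^ j : ↥(Subgroup.normalizer (P : Set X))) : X) * v
          = (((d ^ p ^ j : ↥(Subgroup.normalizer (P : Set X))) : X) * v *
              ((d ^ p ^ j : ↥(Subgroup.normalizer (P : Set X))) : X)⁻¹) *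
              ((d ^ p ^ j : ↥(Subgroup.normalizer (P : Set X))) : X) := by group
        _ = v * ((d ^ p ^ j : ↥(Subgroup.normalizer (P : Set X))) : X) := by rw [h2]
    exact h3.symm
  · right
    exact h

end Quad

end Cfsg.Agent.Lib.Helper50_QuadSec
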