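import Mathlib
import Cfsg.Prelude.Def_LocalEven
import Cfsg.Agent.S0199
import Cfsg.Agent.Lib.Helper10_QuadPair
import Cfsg.Agent.Lib.Helper50_QuadSec
import Cfsg.Agent.Lib.Helper1_QdLin

/-!
The `Qd(p)` upgrade, equivariant elementary abelian case: a finite group `Γ` with a normal
subgroup `Q` mapping equivariantly onto an elementary abelian group `N` on which `a ∈ Γ` acts
quadratically.  Either `a` lies in a normal subgroup acting as a `p`-group, or `Γ` has
"section data" for `Qd(p)`: subgroups `W ≤ L` with `W / ker ≅ 𝔽_p²` acted on by `L` through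
`SL₂(p)` in the natural way.
-/

set_option autoImplicit false

namespace Cfsg.Agent.Lib.Helper1_QdEA

open Cfsg.Agent.S0592 Cfsg.Agent.Lib.Helper10_QuadPair Cfsg.Agent.Lib.Helper50_QuadSec
  Cfsg.Agent.Lib.Helper1_QdLin
open Matrix
open scoped MatrixGroups

/-- Section data for `Qd(p)` inside `Γ`. -/
def SectionData (p : ℕ) (Γ : Type*) [Group Γ] : Prop :=
  ∃ (L W : Subgroup Γ) (_ : W ≤ L) (hnorm : ∀ y ∈ L, ∀ w ∈ W, y * w * y⁻¹ ∈ W)
    (ψ : W →* Multiplicative (Fin 2 → ZMod p)) (φ : L →* SL(2, ZMod p)),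
    Function.Surjective ψ ∧ Function.Surjective φ ∧
    ∀ (y : L) (w : W), ψ ⟨(y : Γ) * w * (y : Γ)⁻¹, hnorm y y.2 w w.2⟩ =
      Multiplicative.ofAdd (((φ y : SL(2, ZMod p)) : Matrix (Fin 2) (Fin 2) (ZMod p)).mulVec
        (Multiplicative.toAdd (ψ w)))

section plane

variable {Γ : Type*} [Group Γ] {p : ℕ} [Fact p.Prime] (Q : Subgroup Γ) (hQ : Q.Normal)
  {N : Type*} [CommGroup N] (c : Γ →* MulAut N) (π : Q →* N)

/-- From a plane in `N` to section data in `Γ`. -/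
theorem sectionData_of_plane (hπ : Function.Surjective π)
    (heq : ∀ (γ : Γ) (x : Q), c γ (π x) = π ⟨γ * x * γ⁻¹, hQ.conj_mem x x.2 γ⟩)
    (Ψ : (Fin 2 → ZMod p) → N) (hΨinj : Function.Injective Ψ)
    (hΨmul : ∀ s t, Ψ (s + t) = Ψ s * Ψ t)
    (hreal : ∀ S : SL(2, ZMod p), ∃ γ : Γ, ∀ t,
      c γ (Ψ t) = Ψ ((S : Matrix (Fin 2) (Fin 2) (ZMod p)).mulVec t)) :
    SectionData p Γ := by
  classical
  have hΨ0 : Ψ 0 = 1 := by
    have := hΨmul 0 0
    rw [add_zero] at this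
    exact (mul_eq_left).1 this.symm
  have hΨneg : ∀ t, Ψ (-t) = (Ψ t)⁻¹ := by
    intro t
    have := hΨmul (-t) t
    rw [neg_add_cancel, hΨ0] at this
    exact eq_inv_of_mul_eq_one_left this.symm
  have hSuniq : ∀ S S' : SL(2, ZMod p),
      (∀ t, Ψ ((S : Matrix (Fin 2) (Fin 2) (ZMod p)).mulVec t) =
        Ψ ((S' : Matrix (Fin 2) (Fin 2) (ZMod p)).mulVec t)) → S = S' := by
    intro S S' h
    apply Subtype.ext
    apply Matrix.mulVec_injective
    funext t
    exact hΨinj (h t)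
  -- the subgroup `L`
  let L : Subgroup Γ :=
    { carrier := {y | ∃ S : SL(2, ZMod p), ∀ t,
        c y (Ψ t) = Ψ ((S : Matrix (Fin 2) (Fin 2) (ZMod p)).mulVec t)}
      one_mem' := ⟨1, fun t => by simp⟩
      mul_mem' := by
        rintro y₁ y₂ ⟨S₁, h₁⟩ ⟨S₂, h₂⟩
        refine ⟨S₁ * S₂, fun t => ?_⟩
        rw [map_mul, MulAut.mul_apply, h₂, h₁, Matrix.SpecialLinearGroup.coe_mul,
          Matrix.mulVec_mulVec]
      inv_mem' := by
        rintro y ⟨S, h⟩
        refine ⟨S⁻¹, fun t => ?_⟩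
        have h1 := h (((S⁻¹ : SL(2, ZMod p)) : Matrix (Fin 2) (Fin 2) (ZMod p)).mulVec t)
        rw [Matrix.mulVec_mulVec, ← Matrix.SpecialLinearGroup.coe_mul, mul_inv_cancel,
          Matrix.SpecialLinearGroup.coe_one, Matrix.one_mulVec] at h1
        rw [← h1, map_inv, MulAut.inv_apply_self] }
  have hLmem : ∀ y : Γ, y ∈ L ↔ ∃ S : SL(2, ZMod p), ∀ t,
      c y (Ψ t) = Ψ ((S : Matrix (Fin 2) (Fin 2) (ZMod p)).mulVec t) := fun y => Iff.rfl
  obtain ⟨φf, hφf⟩ : ∃ φf : L → SL(2, ZMod p), ∀ (y : L) t,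
      c (y : Γ) (Ψ t) = Ψ ((φf y : Matrix (Fin 2) (Fin 2) (ZMod p)).mulVec t) :=
    ⟨fun y => ((hLmem y).1 y.2).choose, fun y => ((hLmem y).1 y.2).choose_spec⟩
  have hφuniq : ∀ (y : L) (S : SL(2, ZMod p)),
      (∀ t, c (y : Γ) (Ψ t) = Ψ ((S : Matrix (Fin 2) (Fin 2) (ZMod p)).mulVec t)) → φf y = S := by
    intro y S h
    apply hSuniq
    intro t
    rw [← hφf y t, h t]
  let φ : L →* SL(2, ZMod p) :=
    { toFun := φf
      map_one' := by
        apply hφuniq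
        intro t
        simp
      map_mul' := by
        intro y₁ y₂
        apply hφuniq
        intro t
        rw [Subgroup.coe_mul, map_mul, MulAut.mul_apply, hφf y₂, hφf y₁,
          Matrix.SpecialLinearGroup.coe_mul, Matrix.mulVec_mulVec] }
  have hφ : ∀ (y : L) t,
      c (y : Γ) (Ψ t) = Ψ ((φ y : Matrix (Fin 2) (Fin 2) (ZMod p)).mulVec t) := hφf
  have hφsurj : Function.Surjective φ := by
    intro S
    obtain ⟨γ, hγ⟩ := hreal S
    exact ⟨⟨γ, S, hγ⟩, hφuniq _ S hγ⟩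
  -- the subgroup `W`
  let W : Subgroup Γ :=
    { carrier := {γ | ∃ (h : γ ∈ Q) (t : Fin 2 → ZMod p), π ⟨γ, h⟩ = Ψ t}
      one_mem' := ⟨Q.one_mem, 0, by
        rw [hΨ0]
        exact map_one π⟩
      mul_mem' := by
        rintro y₁ y₂ ⟨h₁, t₁, e₁⟩ ⟨h₂, t₂, e₂⟩
        refine ⟨Q.mul_mem h₁ h₂, t₁ + t₂, ?_⟩
        rw [hΨmul, ← e₁, ← e₂, ← map_mul]
        rfl
      inv_mem' := by
        rintro y ⟨h, t, e⟩
        refine ⟨Q.inv_mem h, -t, ?_⟩
        rw [hΨneg, ← e, ← map_inv]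
        rfl }
  have hWmem : ∀ γ : Γ, γ ∈ W ↔ ∃ (h : γ ∈ Q) (t : Fin 2 → ZMod p), π ⟨γ, h⟩ = Ψ t :=
    fun γ => Iff.rfl
  have hWQ : ∀ γ ∈ W, γ ∈ Q := fun γ hγ => ((hWmem γ).1 hγ).1
  obtain ⟨ψf, hψf⟩ : ∃ ψf : W → (Fin 2 → ZMod p), ∀ w : W,
      π ⟨(w : Γ), hWQ w w.2⟩ = Ψ (ψf w) :=
    ⟨fun w => ((hWmem w).1 w.2).choose_spec.choose, fun w => ((hWmem w).1 w.2).choose_spec.choose_spec⟩
  have hψuniq : ∀ (w : W) (t : Fin 2 → ZMod p), π ⟨(w : Γ), hWQ w w.2⟩ = Ψ t → ψf w = t := by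
    intro w t h
    apply hΨinj
    rw [← hψf w, h]
  let ψ : W →* Multiplicative (Fin 2 → ZMod p) :=
    { toFun := fun w => Multiplicative.ofAdd (ψf w)
      map_one' := by
        have : ψf 1 = 0 := by
          apply hψuniq
          rw [hΨ0]
          exact map_one π
        rw [this]; rfl
      map_mul' := by
        intro w₁ w₂
        have : ψf (w₁ * w₂) = ψf w₁ + ψf w₂ := by
          apply hψuniq
          rw [hΨmul, ← hψf w₁, ← hψf w₂, ← map_mul]
          rfl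
        rw [this]; rfl }
  have hψ : ∀ w : W, π ⟨(w : Γ), hWQ w w.2⟩ = Ψ (Multiplicative.toAdd (ψ w)) := hψf
  have hψsurj : Function.Surjective ψ := by
    intro t
    obtain ⟨q, hq⟩ := hπ (Ψ (Multiplicative.toAdd t))
    refine ⟨⟨(q : Γ), q.2, Multiplicative.toAdd t, hq⟩, ?_⟩
    show Multiplicative.ofAdd (ψf _) = t
    rw [hψuniq _ (Multiplicative.toAdd t) hq]
    rfl
  -- `Q` acts trivially on `N`
  have hQtriv : ∀ q ∈ Q, ∀ n : N, c q n = n := by
    intro q hq n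
    obtain ⟨u, rfl⟩ := hπ n
    rw [heq q u]
    have : (⟨q * u * q⁻¹, hQ.conj_mem u u.2 q⟩ : Q) = ⟨q, hq⟩ * u * ⟨q, hq⟩⁻¹ := rfl
    rw [this, map_mul, map_mul, map_inv, mul_comm, inv_mul_cancel_left]
  have hWL : W ≤ L := by
    intro w hw
    refine ⟨1, fun t => ?_⟩
    rw [hQtriv w (hWQ w hw)]
    simp
  have hnorm : ∀ y ∈ L, ∀ w ∈ W, y * w * y⁻¹ ∈ W := by
    intro y hy w hw
    obtain ⟨hwQ, t, e⟩ := (hWmem w).1 hw
    refine ⟨hQ.conj_mem w hwQ y, (φ ⟨y, hy⟩ : Matrix (Fin 2) (Fin 2) (ZMod p)).mulVec t, ?_⟩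
    rw [← heq y ⟨w, hwQ⟩, e]
    exact hφ ⟨y, hy⟩ t
  refine ⟨L, W, hWL, hnorm, ψ, φ, hψsurj, hφsurj, ?_⟩
  intro y w
  show Multiplicative.ofAdd (ψf _) = _
  congr 1
  apply hψuniq
  show π ⟨(y : Γ) * w * (y : Γ)⁻¹, _⟩ = _
  rw [← heq (y : Γ) ⟨(w : Γ), hWQ w w.2⟩, hψ w]
  exact hφ y _

end plane

section rep

variable {Γ : Type*} [Group Γ] {N : Type*} [CommGroup N]

/-- the linear representation attached to an action on a commutative group of exponent `p` -/
def linRep (p : ℕ) [Fact p.Prime] [Module (ZMod p) (Additive N)] (c : Γ →* MulAut N) :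
    Γ →* Module.End (ZMod p) (Additive N) where
  toFun γ := (MonoidHom.toAdditive ((c γ : N ≃* N).toMonoidHom)).toZModLinearMap p
  map_one' := LinearMap.ext fun v => by
    show Additive.ofMul ((c 1) v.toMul) = v
    rw [map_one]; rfl
  map_mul' := fun γ δ => LinearMap.ext fun v => by
    show Additive.ofMul ((c (γ * δ)) v.toMul) = Additive.ofMul ((c γ) ((c δ) v.toMul))
    rw [map_mul]; rfl

theorem linRep_apply (p : ℕ) [Fact p.Prime] [Module (ZMod p) (Additive N)] (c : Γ →* MulAut N) (γ : Γ)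
    (v : Additive N) : linRep p c γ v = Additive.ofMul (c γ v.toMul) := rfl

theorem linRep_quad (p : ℕ) [Fact p.Prime] [Module (ZMod p) (Additive N)] (c : Γ →* MulAut N) (γ : Γ)
    (h : ∀ n : N, c γ (c γ n * n⁻¹) = c γ n * n⁻¹) : Quad (linRep p c γ) := by
  intro w
  rw [linRep_apply, linRep_apply]
  have := h w.toMul
  show Additive.ofMul (c γ (Additive.toMul (Additive.ofMul (c γ w.toMul) - w))) =
    Additive.ofMul (c γ w.toMul) - w
  have h2 : Additive.toMul (Additive.ofMul (c γ w.toMul) - w) =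
      c γ w.toMul * (w.toMul)⁻¹ := by
    rw [← div_eq_mul_inv]; rfl
  rw [h2, this, ← div_eq_mul_inv]
  rfl

theorem linRep_eq_one (p : ℕ) [Fact p.Prime] [Module (ZMod p) (Additive N)] (c : Γ →* MulAut N) (γ : Γ)
    (h : linRep p c γ = 1) : c γ = 1 := by
  apply MulEquiv.ext
  intro n
  have h1 : linRep p c γ (Additive.ofMul n) =
      (1 : Module.End (ZMod p) (Additive N)) (Additive.ofMul n) := by rw [h]
  rw [linRep_apply, Module.End.one_apply] at h1
  exact h1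

end rep

/-- **The equivariant elementary abelian case** of the `Qd(p)` upgrade. -/
theorem qd_ea {Γ : Type*} [Group Γ] [Finite Γ] {p : ℕ} [Fact p.Prime] (hp : p ≠ 2)
    (Q : Subgroup Γ) (hQ : Q.Normal) {N : Type*} [CommGroup N] [Finite N]
    (hN : ∀ n : N, n ^ p = 1) (c : Γ →* MulAut N) (π : Q →* N) (hπ : Function.Surjective π)
    (heq : ∀ (γ : Γ) (x : Q), c γ (π x) = π ⟨γ * x * γ⁻¹, hQ.conj_mem x x.2 γ⟩)
    (a : Γ) (hq : ∀ n, c a (c a n * n⁻¹) = c a n * n⁻¹) :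
    (∃ D : Subgroup Γ, D.Normal ∧ a ∈ D ∧ ∀ d ∈ D, ∃ j : ℕ, c (d ^ p ^ j) = 1) ∨
      SectionData p Γ := by
  classical
  by_cases hcase : ∀ g : Γ,
      IsPGroup p (Subgroup.closure {c a, c (g * a * g⁻¹)} : Subgroup (MulAut N))
  · left
    -- Baer–Suzuki in the image (as in `Helper50_QuadSec.quad_elementary`)
    obtain ⟨α₀, hα₀⟩ : ∃ α₀ : c.range, α₀ = ⟨c a, a, rfl⟩ := ⟨_, rfl⟩
    have hsub : ∀ γ : c.range, IsPGroup p ↥(Subgroup.zpowers α₀ ⊔
        (Subgroup.zpowers α₀).map (MulAut.conj γ).toMonoidHom) := by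
      rintro ⟨_, g, rfl⟩
      have h1 := (hcase g).comap_of_injective c.range.subtype c.range.subtype_injective
      refine h1.to_le (sup_le ?_ ?_)
      · rw [Subgroup.zpowers_le, Subgroup.mem_comap]
        show ((α₀ : c.range) : MulAut N) ∈ _
        rw [hα₀]
        exact Subgroup.subset_closure (by simp)
      · rw [MonoidHom.map_zpowers, Subgroup.zpowers_le, Subgroup.mem_comap]
        show (((⟨c g, g, rfl⟩ : c.range) * α₀ * (⟨c g, g, rfl⟩ : c.range)⁻¹ : c.range) :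
          MulAut N) ∈ _
        rw [hα₀]
        have : (((⟨c g, g, rfl⟩ : c.range) * ⟨c a, a, rfl⟩ * (⟨c g, g, rfl⟩ : c.range)⁻¹ :
            c.range) : MulAut N) = c (g * a * g⁻¹) := by
          rw [map_mul, map_mul, map_inv]; rfl
        rw [this]
        exact Subgroup.subset_closure (by simp)
    have hX : IsPGroup p (Subgroup.zpowers α₀) := (hsub 1).to_le le_sup_left
    obtain ⟨N₀, hN₀n, hN₀p, hXN₀⟩ := Cfsg.Agent.S0199.result (Subgroup.zpowers α₀) hX hsub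
    refine ⟨N₀.comap c.rangeRestrict, hN₀n.comap _, ?_, ?_⟩
    · rw [Subgroup.mem_comap]
      have : c.rangeRestrict a = α₀ := by rw [hα₀]; rfl
      rw [this]
      exact hXN₀ (Subgroup.mem_zpowers α₀)
    · intro d hd
      rw [Subgroup.mem_comap] at hd
      obtain ⟨j, hj⟩ := hN₀p ⟨_, hd⟩
      refine ⟨j, ?_⟩
      have h1 := congrArg Subtype.val (congrArg Subtype.val hj)
      rw [map_pow]
      simpa using h1
  · right
    simp only [not_forall] at hcase
    obtain ⟨g, hg⟩ := hcase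
    obtain ⟨b, hb⟩ : ∃ b : Γ, b = g * a * g⁻¹ := ⟨_, rfl⟩
    rw [← hb] at hg
    have hbq : ∀ n, c b (c b n * n⁻¹) = c b n * n⁻¹ := by
      have : c b = c g * c a * (c g)⁻¹ := by rw [hb, map_mul, map_mul, map_inv]
      rw [this]
      exact quad_conj_aut (c a) (c g) hq
    have haΓ : a ∈ Subgroup.closure {a, b} := Subgroup.subset_closure (by simp)
    have hbΓ : b ∈ Subgroup.closure {a, b} := Subgroup.subset_closure (by simp)
    have hgen := closure_pair_top a b haΓ hbΓ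
    let instM : Module (ZMod p) (Additive N) := AddCommGroup.zmodModule (n := p) (by
      intro w
      have h2 : Additive.ofMul ((Additive.toMul w) ^ p) = 0 := by rw [hN]; rfl
      rw [ofMul_pow] at h2
      exact h2)
    haveI : Finite (Additive N) := inferInstanceAs (Finite N)
    obtain ⟨c₁, hc₁⟩ : ∃ c₁ : (Subgroup.closure {a, b} : Subgroup Γ) →* MulAut N,
        c₁ = c.comp (Subgroup.closure {a, b}).subtype := ⟨_, rfl⟩
    have hc₁app : ∀ γ : (Subgroup.closure {a, b} : Subgroup Γ), c₁ γ = c (γ : Γ) := by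
      intro γ; rw [hc₁]; rfl
    have hxq : Quad (linRep p c₁ ⟨a, haΓ⟩) := by
      apply linRep_quad
      rw [hc₁app]; exact hq
    have hyq : Quad (linRep p c₁ ⟨b, hbΓ⟩) := by
      apply linRep_quad
      rw [hc₁app]; exact hbq
    have hnp : ¬ PG p (linRep p c₁) := by
      intro hPG
      apply hg
      rintro ⟨h, hh⟩
      have hmap : (Subgroup.closure {a, b}).map c = Subgroup.closure {c a, c b} := by
        rw [MonoidHom.map_closure, Set.image_pair]
      rw [← hmap] at hh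
      obtain ⟨γ, hγ, rfl⟩ := hh
      obtain ⟨k, hk⟩ := hPG ⟨γ, hγ⟩
      refine ⟨k, ?_⟩
      apply Subtype.ext
      have h1 := linRep_eq_one p c₁ _ hk
      rw [hc₁app] at h1
      rw [Subgroup.coe_pow, Subgroup.coe_one, ← map_pow]
      exact h1
    obtain ⟨Ψ, hΨinj, hΨ⟩ := exists_plane hp (⟨a, haΓ⟩ : (Subgroup.closure {a, b} : Subgroup Γ))
      ⟨b, hbΓ⟩ hgen (linRep p c₁) hxq hyq hnp
    refine sectionData_of_plane Q hQ c π hπ heq (fun t => (Ψ t).toMul) ?_ ?_ ?_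
    · intro s t hst
      apply hΨinj
      exact Additive.toMul.injective hst
    · intro s t
      show Additive.toMul (Ψ (s + t)) = _
      rw [map_add]
      rfl
    · intro S
      obtain ⟨γ, hγ⟩ := hΨ S
      refine ⟨(γ : Γ), fun t => ?_⟩
      have h1 := hγ t
      rw [linRep_apply, hc₁app] at h1
      exact congrArg Additive.toMul h1

end Cfsg.Agent.Lib.Helper1_QdEA
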