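import Mathlib
import Cfsg.Prelude.Def_LocalEven
import Cfsg.Prelude.Def_PLocal
import Cfsg.Agent.S4218
import Cfsg.Agent.Lib.Helper1_Frattini
import Cfsg.Agent.Lib.Helper10_QuadPair
import Cfsg.Agent.Lib.Helper11_FusionQd
import Cfsg.Agent.Lib.Helper34_NPC
import Cfsg.Agent.Lib.Helper34_PStable
import Cfsg.Agent.Lib.Helper48_Generation

/-!
# Reduction of `QdStable` to the elementary abelian equivariant case (helper50)

`QdEAHyp p` is the statement (helper1, msg 466): for a finite group `Γ` with a normal subgroup `Q`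
mapping equivariantly onto a finite commutative group `N` of exponent `p` on which `Γ` acts, a
quadratically acting `a ∈ Γ` lies in a normal subgroup acting as a `p`-group, or `Qd(p)` is involved
in `Γ`.  `qdStable_of_eaHyp` derives from it that `Qd(p)`-free finite groups are `p`-stable in the
normalizer form (`Helper11_FusionQd.QdStable`), by passing from a `p`-subgroup `P` to `P / Φ(P)`.
-/

set_option autoImplicit false

namespace Cfsg.Agent.Lib.Helper50_QdReduce

open Cfsg.Agent.Lib.Helper10_QuadPair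

universe u

/-- the elementary abelian equivariant case of the `Qd(p)` upgrade -/
def QdEAHyp (p : ℕ) [Fact p.Prime] : Prop :=
  ∀ (Γ : Type u) [Group Γ] [Finite Γ] (Q : Subgroup Γ) (hQ : Q.Normal) (N : Type u) [CommGroup N]
    [Finite N] (_ : ∀ n : N, n ^ p = 1) (c : Γ →* MulAut N) (π : Q →* N)
    (_ : Function.Surjective π)
    (_ : ∀ (γ : Γ) (x : Q), c γ (π x) = π ⟨γ * x * γ⁻¹, hQ.conj_mem x x.2 γ⟩) (a : Γ)
    (_ : ∀ n, c a (c a n * n⁻¹) = c a n * n⁻¹),
    (∃ D : Subgroup Γ, D.Normal ∧ a ∈ D ∧ ∀ d ∈ D, ∃ j : ℕ, c (d ^ p ^ j) = 1) ∨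
      Cfsg.Involves (Cfsg.qd p) Γ

open scoped commutatorElement in
/-- **Reduction**: the elementary abelian equivariant case implies that `Qd(p)`-free finite groups
are `p`-stable in the normalizer form. -/
theorem qdStable_of_eaHyp {p : ℕ} [Fact p.Prime] (_hp : p ≠ 2) (h : QdEAHyp.{u} p) :
    Cfsg.Agent.Lib.Helper11_FusionQd.QdStable.{u} p := by
  intro X _ _ hfree P hP g hg hq
  -- the conjugation action of `N_X(P)` on `P`
  obtain ⟨c₀, hc₀⟩ : ∃ c₀ : ↥(Subgroup.normalizer (P : Set X)) →* MulAut ↥P,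
      c₀ = conjAct P (Subgroup.normalizer (P : Set X)) le_rfl := ⟨_, rfl⟩
  have hc₀app : ∀ (n : ↥(Subgroup.normalizer (P : Set X))) (v : ↥P),
      ((c₀ n v : ↥P) : X) = (n : X) * v * (n : X)⁻¹ := by
    intro n v
    rw [hc₀]
    rfl
  have hq₀ : ∀ x, c₀ ⟨g, hg⟩ (c₀ ⟨g, hg⟩ x * x⁻¹) = c₀ ⟨g, hg⟩ x * x⁻¹ := by
    intro x
    apply Subtype.ext
    rw [hc₀app, Subgroup.coe_mul, hc₀app, Subgroup.coe_inv]
    exact quad_elt P g hq x x.2
  -- the Frattini quotient
  have hcomm : IsMulCommutative (↥P ⧸ frattini ↥P) :=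
    Subgroup.Normal.quotient_commutative_iff_commutator_le.mpr
      (Cfsg.Agent.Lib.Helper1_Frattini.commutator_le_frattini_of_isPGroup hP)
  let instC : CommGroup (↥P ⧸ frattini ↥P) :=
    { (inferInstance : Group (↥P ⧸ frattini ↥P)) with
      mul_comm := fun u v => hcomm.is_comm.comm u v }
  have hN : ∀ n : ↥P ⧸ frattini ↥P, n ^ p = 1 := by
    intro n
    induction n using QuotientGroup.induction_on with
    | H x =>
      rw [← QuotientGroup.mk_pow, QuotientGroup.eq_one_iff]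
      exact Cfsg.Agent.Lib.Helper1_Frattini.pow_mem_frattini_of_isPGroup hP x
  obtain ⟨cbar, hcbar⟩ : ∃ cbar : ↥(Subgroup.normalizer (P : Set X)) →* MulAut (↥P ⧸ frattini ↥P),
      cbar = (Cfsg.Agent.Lib.Helper48_Generation.autQuot (frattini ↥P)).comp c₀ := ⟨_, rfl⟩
  have hcb : ∀ (γ : ↥(Subgroup.normalizer (P : Set X))) (x : ↥P),
      cbar γ (x : ↥P ⧸ frattini ↥P) = ((c₀ γ x : ↥P) : ↥P ⧸ frattini ↥P) := by
    intro γ x
    rw [hcbar]
    rfl
  have hqb : ∀ n, cbar ⟨g, hg⟩ (cbar ⟨g, hg⟩ n * n⁻¹) = cbar ⟨g, hg⟩ n * n⁻¹ := by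
    intro n
    induction n using QuotientGroup.induction_on with
    | H x =>
      rw [hcb, ← QuotientGroup.mk_inv, ← QuotientGroup.mk_mul, hcb, hq₀]
  -- the normal subgroup `Q = P` of `N_X(P)` and its projection
  have hQn : (P.subgroupOf (Subgroup.normalizer (P : Set X))).Normal := inferInstance
  obtain ⟨π, hπ⟩ : ∃ π : ↥(P.subgroupOf (Subgroup.normalizer (P : Set X))) →* (↥P ⧸ frattini ↥P),
      π = (QuotientGroup.mk' (frattini ↥P)).comp
        (Subgroup.subgroupOfEquivOfLe (Subgroup.le_normalizer (H := P))).toMonoidHom := ⟨_, rfl⟩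
  have hπs : Function.Surjective π := by
    rw [hπ]
    exact (QuotientGroup.mk'_surjective _).comp (MulEquiv.surjective _)
  have hπc : ∀ (γ : ↥(Subgroup.normalizer (P : Set X)))
      (x : ↥(P.subgroupOf (Subgroup.normalizer (P : Set X)))),
      cbar γ (π x) = π ⟨γ * x * γ⁻¹, hQn.conj_mem x x.2 γ⟩ := by
    intro γ x
    rw [hπ]
    show cbar γ (((Subgroup.subgroupOfEquivOfLe (Subgroup.le_normalizer (H := P)) x : ↥P) :
      ↥P ⧸ frattini ↥P)) = (((Subgroup.subgroupOfEquivOfLe (Subgroup.le_normalizer (H := P))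
        ⟨γ * x * γ⁻¹, hQn.conj_mem x x.2 γ⟩ : ↥P)) : ↥P ⧸ frattini ↥P)
    rw [hcb]
    congr 1
    apply Subtype.ext
    rw [hc₀app]
    rfl
  rcases @h ↥(Subgroup.normalizer (P : Set X)) _ _ (P.subgroupOf (Subgroup.normalizer (P : Set X)))
    hQn (↥P ⧸ frattini ↥P) instC _ hN cbar π hπs hπc ⟨g, hg⟩ hqb with ⟨D, hDn, haD, hD⟩ | hinv
  · refine Cfsg.Agent.Lib.Helper34_PStable.mk_mem_pCore_of _ D hDn ?_ haD
    intro d hd
    obtain ⟨j, hj⟩ := hD d hd
    have hmem : c₀ (d ^ p ^ j) ∈ Cfsg.Agent.S4218.frattiniTrivial ↥P := by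
      rw [Cfsg.Agent.S4218.mem_frattiniTrivial]
      intro y
      have h1 : cbar (d ^ p ^ j) (y : ↥P ⧸ frattini ↥P) = (y : ↥P ⧸ frattini ↥P) := by
        rw [hj]; rfl
      rw [hcb] at h1
      rw [← QuotientGroup.eq_one_iff, QuotientGroup.mk_mul, QuotientGroup.mk_inv, h1,
        mul_inv_cancel]
    obtain ⟨k, hk⟩ := Cfsg.Agent.S4218.frattiniTrivial_isPGroup p hP ⟨_, hmem⟩
    have h2 : (c₀ (d ^ p ^ j)) ^ p ^ k = 1 := by
      have := congrArg Subtype.val hk
      simpa using this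
    have h3 : c₀ (d ^ p ^ (j + k)) = 1 := by
      rw [pow_add, pow_mul, map_pow]
      exact h2
    refine ⟨j + k, ?_⟩
    rw [Subgroup.mem_subgroupOf, Subgroup.mem_centralizer_iff]
    intro v hv
    have h4 : c₀ (d ^ p ^ (j + k)) ⟨v, hv⟩ = ⟨v, hv⟩ := by rw [h3]; rfl
    have h5 := congrArg Subtype.val h4
    rw [hc₀app] at h5
    have h6 : ((d ^ p ^ (j + k) : ↥(Subgroup.normalizer (P : Set X))) : X) * v =
        v * ((d ^ p ^ (j + k) : ↥(Subgroup.normalizer (P : Set X))) : X) := by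
      calc ((d ^ p ^ (j + k) : ↥(Subgroup.normalizer (P : Set X))) : X) * v
          = (((d ^ p ^ (j + k) : ↥(Subgroup.normalizer (P : Set X))) : X) * v *
              ((d ^ p ^ (j + k) : ↥(Subgroup.normalizer (P : Set X))) : X)⁻¹) *
              ((d ^ p ^ (j + k) : ↥(Subgroup.normalizer (P : Set X))) : X) := by group
        _ = v * ((d ^ p ^ (j + k) : ↥(Subgroup.normalizer (P : Set X))) : X) := by rw [h5]
    exact h6.symm
  · exact absurd (Cfsg.Agent.Lib.Helper34_NPC.involves_of_subgroup _ hinv) hfree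

end Cfsg.Agent.Lib.Helper50_QdReduce
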