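import Mathlib
import Cfsg.Prelude.Def_LocalEven
import Cfsg.Agent.Lib.Helper1_QdEA
import Cfsg.Agent.Lib.Helper11_QdRecog2
import Cfsg.Agent.Lib.Helper11_FusionQd
import Cfsg.Agent.Lib.Helper50_QdReduce

/-!
`Qd(p)`-free finite groups are `p`-stable in the normalizer form (`p` odd).

Assembly of: `Helper1_QdEA.qd_ea` (equivariant elementary abelian case, helper1),
`Helper11_QdRecog2.involves_qd_of_section_data` (recognition of `Qd(p)`, helper11) and
`Helper50_QdReduce.qdStable_of_eaHyp` (reduction through `P / Φ(P)`, helper50).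
-/

set_option autoImplicit false

namespace Cfsg.Agent.Lib.Helper1_QdStable

universe u

variable {p : ℕ} [Fact p.Prime]

/-- the elementary abelian equivariant case, in the shape of `Helper50_QdReduce.QdEAHyp` -/
theorem qdEAHyp (hp : p ≠ 2) : Cfsg.Agent.Lib.Helper50_QdReduce.QdEAHyp.{u} p := by
  intro Γ _ _ Q hQ N _ _ hN c π hπ heq a hq
  rcases Cfsg.Agent.Lib.Helper1_QdEA.qd_ea hp Q hQ hN c π hπ heq a hq with
    h | ⟨L, W, hWL, hnorm, ψ, φ, hψ, hφ, hact⟩
  · exact Or.inl h
  · exact Or.inr (Cfsg.Agent.Lib.Helper11_QdRecog2.involves_qd_of_section_data hp L W hWL hnorm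
      ψ hψ φ hφ hact)

/-- `Qd(p)`-free finite groups are `p`-stable in the normalizer form. -/
theorem qdStable (hp : p ≠ 2) : Cfsg.Agent.Lib.Helper11_FusionQd.QdStable.{u} p :=
  Cfsg.Agent.Lib.Helper50_QdReduce.qdStable_of_eaHyp hp (qdEAHyp hp)

/-- **`Qd(p)`-free ⇒ normalizer-`p`-stable** (`p` odd, any finite group, any universe). -/
theorem isNormalizerPStable_of_qdFree (hp : p ≠ 2) {X : Type*} [Group X] [Finite X]
    (h : ¬ Cfsg.Involves (Cfsg.qd p) X) : Cfsg.IsNormalizerPStable p X :=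
  qdStable hp X h

end Cfsg.Agent.Lib.Helper1_QdStable
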