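import Cfsg.Agent.Lib.Helper11_FusionQd
import Cfsg.Agent.Lib.Helper1_QdStable
import Cfsg.Prelude.Def_FusionComponents

/-!
# The fusion system of a `Qd(p)`-free group is solvable (helper11)

`exists_ctl_subgroup`: in a `Qd(p)`-free finite group `X` (`p` odd) with nontrivial Sylow
`p`-subgroup `T` there is a nontrivial `W ≤ T` whose normalizer controls strong fusion in `T`.

`isNormal_comap`: for `R` strongly closed in `F_P(G)`, a subgroup `W` of `N_G(R)/R` inside the
image of `P` whose normalizer controls strong fusion in that image pulls back to a subgroup normal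
in every factor system of `F_P(G)` modulo `R`.
-/

set_option autoImplicit false

namespace Cfsg.Agent.Lib.Helper11_FusSolv

open Cfsg

universe u

section ctl

variable {p : ℕ} [Fact p.Prime]

/-- a nontrivial subgroup of the Sylow subgroup `T` whose normalizer controls strong fusion in
`T`, for `Qd(p)`-free groups -/
theorem exists_ctl_subgroup {X : Type u} [Group X] [Finite X] (hp : p ≠ 2)
    (hfree : ¬ Cfsg.Involves ↥(Cfsg.qd p) X) (T : Sylow p X) (hT : (T : Subgroup X) ≠ ⊥) :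
    ∃ W : Subgroup X, W ≤ (T : Subgroup X) ∧ W ≠ ⊥ ∧
      ∀ (B : Set X) (z : X), B ⊆ ((T : Subgroup X) : Set X) →
        (∀ b ∈ B, z * b * z⁻¹ ∈ (T : Subgroup X)) →
        ∃ y ∈ Subgroup.normalizer (W : Set X), ∀ b ∈ B, y * b * y⁻¹ = z * b * z⁻¹ := by
  have hPr := Cfsg.Agent.S3082.pFam_ab.{u} (p := p) hp
  have hD : IsStronglyClosed (T : Subgroup X) (T : Subgroup X) := ⟨le_rfl, fun _ _ _ h => h⟩
  have hctl := Cfsg.Agent.Lib.Helper11_FusionQd.ctl_of_qdFree hPr
    (Cfsg.Agent.Lib.Helper1_QdStable.qdStable hp) hfree T (T : Subgroup X) hD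
  refine ⟨_, ?_, hPr.ne_bot X (T : Subgroup X) T.isPGroup' hT, ?_⟩
  · exact Cfsg.Agent.Lib.Helper11_ZJ.W_le ((hPr.adm X).bot) _
  · intro B z hB hz
    have hz' : Cfsg.Agent.Lib.Helper33_Alperin.cjs z B ⊆ ((T : Subgroup X) : Set X) := by
      rintro _ ⟨b, hb, rfl⟩
      exact hz b hb
    obtain ⟨y, hy, hag⟩ := hctl B z hB hz'
    exact ⟨y, hy, hag⟩

end ctl

section factor

variable {G : Type u} [Group G]

/-- the natural map `P/R → N_G(R)/R` -/
noncomputable def jmap (P R : Subgroup G) [(R.subgroupOf P).Normal]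
    (hPM : P ≤ Subgroup.normalizer (R : Set G)) :
    (↥P ⧸ R.subgroupOf P) →*
      (↥(Subgroup.normalizer (R : Set G)) ⧸
        R.subgroupOf (Subgroup.normalizer (R : Set G))) :=
  QuotientGroup.map (R.subgroupOf P) (R.subgroupOf (Subgroup.normalizer (R : Set G)))
    (Subgroup.inclusion hPM) (by
      intro x hx
      rw [Subgroup.mem_comap, Subgroup.mem_subgroupOf]
      rw [Subgroup.mem_subgroupOf] at hx
      exact hx)

theorem jmap_mk (P R : Subgroup G) [(R.subgroupOf P).Normal]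
    (hPM : P ≤ Subgroup.normalizer (R : Set G)) (x : ↥P) :
    jmap P R hPM (QuotientGroup.mk' (R.subgroupOf P) x) =
      QuotientGroup.mk' (R.subgroupOf (Subgroup.normalizer (R : Set G)))
        (Subgroup.inclusion hPM x) := rfl

theorem jmap_injective (P R : Subgroup G) [(R.subgroupOf P).Normal]
    (hPM : P ≤ Subgroup.normalizer (R : Set G)) : Function.Injective (jmap P R hPM) := by
  rw [injective_iff_map_eq_one]
  intro t ht
  obtain ⟨x, rfl⟩ := QuotientGroup.mk'_surjective (R.subgroupOf P) t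
  rw [jmap_mk, QuotientGroup.mk'_apply, QuotientGroup.eq_one_iff, Subgroup.mem_subgroupOf] at ht
  rw [QuotientGroup.mk'_apply, QuotientGroup.eq_one_iff, Subgroup.mem_subgroupOf]
  exact ht

theorem jmap_range (P R : Subgroup G) [(R.subgroupOf P).Normal]
    (hPM : P ≤ Subgroup.normalizer (R : Set G)) :
    (jmap P R hPM).range = (P.subgroupOf (Subgroup.normalizer (R : Set G))).map
      (QuotientGroup.mk' (R.subgroupOf (Subgroup.normalizer (R : Set G)))) := by
  ext x
  constructor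
  · rintro ⟨t, rfl⟩
    obtain ⟨a, rfl⟩ := QuotientGroup.mk'_surjective (R.subgroupOf P) t
    exact ⟨Subgroup.inclusion hPM a, Subgroup.mem_subgroupOf.mpr a.2, (jmap_mk P R hPM a).symm⟩
  · rintro ⟨m, hm, rfl⟩
    exact ⟨QuotientGroup.mk' (R.subgroupOf P) ⟨(m : G), Subgroup.mem_subgroupOf.mp hm⟩,
      by rw [jmap_mk]; rfl⟩

/-- an element conjugating `R` into `R` normalizes `R` (finite case) -/
theorem mem_normalizer_of_conj_le [Finite G] (R : Subgroup G) (g : G)
    (h : ∀ r ∈ R, g * r * g⁻¹ ∈ R) : g ∈ Subgroup.normalizer (R : Set G) := by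
  have hle : R.map (MulAut.conj g).toMonoidHom ≤ R := by
    rintro _ ⟨r, hr, rfl⟩
    exact h r hr
  have hcard : Nat.card (R.map (MulAut.conj g).toMonoidHom) = Nat.card R :=
    Subgroup.card_map_of_injective (MulAut.conj g).injective
  have heq : R.map (MulAut.conj g).toMonoidHom = R :=
    Subgroup.eq_of_le_of_card_ge hle hcard.ge
  rw [Subgroup.mem_normalizer_iff]
  intro x
  constructor
  · exact h x
  · intro hx
    rw [← heq] at hx
    obtain ⟨r, hr, hrx⟩ := hx
    have : r = x := by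
      have h2 : g * r * g⁻¹ = g * x * g⁻¹ := hrx
      exact mul_left_cancel (mul_right_cancel h2)
    rw [← this]; exact hr

end factor

section normal

variable {G : Type u} [Group G] [Finite G]

/-- **Pull-back of a controlling subgroup is normal in the factor system.** -/
theorem isNormal_comap (P R : Subgroup G) [hRn : (R.subgroupOf P).Normal]
    (hPM : P ≤ Subgroup.normalizer (R : Set G))
    (hsc : (groupFusionSystem P).StronglyClosed R)
    (E : FusionSystem (⊤ : Subgroup (↥P ⧸ R.subgroupOf P)))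
    (hE : (groupFusionSystem P).IsFactorSystem R (QuotientGroup.mk' (R.subgroupOf P)) E)
    (W : Subgroup (↥(Subgroup.normalizer (R : Set G)) ⧸
        R.subgroupOf (Subgroup.normalizer (R : Set G))))
    (hW : W ≤ (jmap P R hPM).range)
    (hctl : ∀ (B : Set (↥(Subgroup.normalizer (R : Set G)) ⧸
        R.subgroupOf (Subgroup.normalizer (R : Set G)))) (z : _),
        B ⊆ ((jmap P R hPM).range : Set _) → (∀ b ∈ B, z * b * z⁻¹ ∈ (jmap P R hPM).range) →
        ∃ y ∈ Subgroup.normalizer (W : Set _), ∀ b ∈ B, y * b * y⁻¹ = z * b * z⁻¹) :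
    E.IsNormal (W.comap (jmap P R hPM)) := by
  classical
  set M := Subgroup.normalizer (R : Set G) with hM
  set j := jmap P R hPM with hjdef
  set θ := QuotientGroup.mk' (R.subgroupOf P) with hθ
  have hj : Function.Injective j := jmap_injective P R hPM
  have hjθ : ∀ x : ↥P, j (θ x) = QuotientGroup.mk' (R.subgroupOf M) (Subgroup.inclusion hPM x) :=
    fun x => jmap_mk P R hPM x
  have hRP : R ≤ P := hsc.1
  refine ⟨le_top, ?_⟩
  intro P' φ' hφ'
  obtain ⟨-, φ, hφ, hP₁, hφP, hP'mem, hind⟩ := (hE.2.2.2 P' φ').mp hφ'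
  obtain ⟨-, -, g, hg⟩ := hφ
  -- `R` lies in the preimage of `P'`
  have hR₁ : R ≤ FusionSystem.preimageAlong θ P' := by
    intro r hr
    refine ⟨⟨r, hRP hr⟩, ?_, rfl⟩
    show θ ⟨r, hRP hr⟩ ∈ P'
    have : θ ⟨r, hRP hr⟩ = 1 := (hE.2.1 ⟨r, hRP hr⟩).mpr hr
    rw [this]; exact P'.one_mem
  -- `g` normalizes `R`
  have hgM : g ∈ M := by
    apply mem_normalizer_of_conj_le
    intro r hr
    have hmem : conjHom R g ∈ (groupFusionSystem P).Hom R := by
      refine ⟨hRP, fun x => ?_, g, fun x => rfl⟩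
      have := hφP ⟨(x : G), hR₁ x.2⟩
      rw [hg] at this
      exact this
    exact hsc.2 R le_rfl (conjHom R g) hmem ⟨r, hr⟩
  set gb := QuotientGroup.mk' (R.subgroupOf M) ⟨g, hgM⟩ with hgb
  -- the action of `gb` on the image of `P'`
  have hgact : ∀ x : ↥(FusionSystem.preimageAlong θ P'),
      gb * j (θ ⟨(x : G), hP₁ x.2⟩) * gb⁻¹ = j (θ ⟨φ x, hφP x⟩) := by
    intro x
    rw [hjθ, hjθ, hgb, ← map_inv, ← map_mul, ← map_mul]
    congr 1
    apply Subtype.ext
    show g * (x : G) * g⁻¹ = φ x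
    exact (hg x).symm
  have hP'pre : ∀ t ∈ P', ∃ x : ↥(FusionSystem.preimageAlong θ P'),
      θ ⟨(x : G), hP₁ x.2⟩ = t := by
    intro t ht
    obtain ⟨a, rfl⟩ := QuotientGroup.mk'_surjective (R.subgroupOf P) t
    exact ⟨⟨(a : G), ⟨a, ht, rfl⟩⟩, rfl⟩
  obtain ⟨y, hyN, hyag⟩ := hctl (j '' (P' : Set _)) gb
    (by rintro _ ⟨t, -, rfl⟩; exact ⟨t, rfl⟩)
    (by
      rintro _ ⟨t, ht, rfl⟩
      obtain ⟨x, rfl⟩ := hP'pre t ht
      rw [hgact]
      exact ⟨_, rfl⟩)
  have hyW : ∀ w, w ∈ W ↔ y * w * y⁻¹ ∈ W := fun w => Subgroup.mem_normalizer_iff.mp hyN w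
  set Q' := W.comap j with hQ'
  -- conjugation by `y` maps the image of `P' ⊔ Q'` into the range of `j`
  have hc : ∀ t : ↥(P' ⊔ Q'), y * j (t : ↥P ⧸ R.subgroupOf P) * y⁻¹ ∈ j.range := by
    have hle : P' ⊔ Q' ≤ (j.range).comap ((MulAut.conj y).toMonoidHom.comp j) := by
      apply sup_le
      · intro t ht
        show y * j t * y⁻¹ ∈ j.range
        rw [hyag (j t) ⟨t, ht, rfl⟩]
        obtain ⟨x, rfl⟩ := hP'pre t ht
        rw [hgact]
        exact ⟨_, rfl⟩
      · intro t ht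
        show y * j t * y⁻¹ ∈ j.range
        exact hW ((hyW _).mp ht)
    intro t
    exact hle t.2
  let c : ↥(P' ⊔ Q') →* _ := (MulAut.conj y).toMonoidHom.comp (j.comp (P' ⊔ Q').subtype)
  let ψ' : ↥(P' ⊔ Q') →* (↥P ⧸ R.subgroupOf P) :=
    (MonoidHom.ofInjective hj).symm.toMonoidHom.comp (c.codRestrict j.range hc)
  have hψ' : ∀ t : ↥(P' ⊔ Q'), j (ψ' t) = y * j (t : ↥P ⧸ R.subgroupOf P) * y⁻¹ := by
    intro t
    have := MonoidHom.apply_ofInjective_symm hj (c.codRestrict j.range hc t)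
    exact this
  obtain ⟨nM, hnM⟩ := QuotientGroup.mk'_surjective (R.subgroupOf M) y
  -- the lift of `y` conjugates the preimage of `P' ⊔ Q'` into `P`
  have hP₂ : FusionSystem.preimageAlong θ (P' ⊔ Q') ≤ P := by
    rintro _ ⟨a, -, rfl⟩
    exact a.2
  have hP₂mem : ∀ x : ↥(FusionSystem.preimageAlong θ (P' ⊔ Q')),
      θ ⟨(x : G), hP₂ x.2⟩ ∈ P' ⊔ Q' := by
    rintro ⟨_, a, ha, rfl⟩
    exact ha
  have hnact : ∀ x : ↥(FusionSystem.preimageAlong θ (P' ⊔ Q')),
      y * j (θ ⟨(x : G), hP₂ x.2⟩) * y⁻¹ =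
        QuotientGroup.mk' (R.subgroupOf M)
          (nM * Subgroup.inclusion hPM ⟨(x : G), hP₂ x.2⟩ * nM⁻¹) := by
    intro x
    rw [hjθ, ← hnM, ← map_inv, ← map_mul, ← map_mul]
  have hnP : ∀ x : ↥(FusionSystem.preimageAlong θ (P' ⊔ Q')),
      (nM : G) * (x : G) * (nM : G)⁻¹ ∈ P := by
    intro x
    have h1 := hc ⟨θ ⟨(x : G), hP₂ x.2⟩, hP₂mem x⟩
    rw [hnact x] at h1
    obtain ⟨t, ht⟩ := h1
    obtain ⟨a, rfl⟩ := QuotientGroup.mk'_surjective (R.subgroupOf P) t
    rw [hjθ] at ht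
    have h2 := QuotientGroup.eq.mp ht
    rw [Subgroup.mem_subgroupOf] at h2
    have h3 : (a : G)⁻¹ * ((nM : G) * (x : G) * (nM : G)⁻¹) ∈ R := h2
    have h4 : (a : G) * ((a : G)⁻¹ * ((nM : G) * (x : G) * (nM : G)⁻¹)) ∈ P :=
      P.mul_mem a.2 (hRP h3)
    rwa [mul_inv_cancel_left] at h4
  have hψmem : conjHom (FusionSystem.preimageAlong θ (P' ⊔ Q')) (nM : G) ∈
      (groupFusionSystem P).Hom (FusionSystem.preimageAlong θ (P' ⊔ Q')) :=
    ⟨hP₂, hnP, (nM : G), fun x => rfl⟩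
  have hmemE : ψ' ∈ E.Hom (P' ⊔ Q') := by
    rw [hE.2.2.2 (P' ⊔ Q') ψ']
    refine ⟨le_top, conjHom (FusionSystem.preimageAlong θ (P' ⊔ Q')) (nM : G), hψmem,
      hP₂, hnP, hP₂mem, ?_⟩
    intro x
    apply hj
    rw [hψ']
    show y * j (θ ⟨(x : G), hP₂ x.2⟩) * y⁻¹ = _
    rw [hnact, hjθ]
    congr 1
  refine ⟨ψ', hmemE, ?_, ?_⟩
  · intro x
    apply hj
    rw [hψ']
    show y * j (x : ↥P ⧸ R.subgroupOf P) * y⁻¹ = _
    rw [hyag (j x) ⟨x, x.2, rfl⟩]
    obtain ⟨x₁, hx₁⟩ := hP'pre x x.2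
    have hx : x = ⟨θ ⟨(x₁ : G), hP₁ x₁.2⟩, hP'mem x₁⟩ := Subtype.ext hx₁.symm
    rw [hx, hind x₁]
    exact hgact x₁
  · ext q
    constructor
    · rintro ⟨t, ht, rfl⟩
      rw [SetLike.mem_coe, Subgroup.mem_subgroupOf] at ht
      show j (ψ' t) ∈ W
      rw [hψ']
      exact (hyW _).mp ht
    · intro hq
      have hq' : j q ∈ W := hq
      have h1 : y⁻¹ * j q * y ∈ W := by
        rw [hyW]
        have : y * (y⁻¹ * j q * y) * y⁻¹ = j q := by group
        rw [this]; exact hq'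
      obtain ⟨q₀, hq₀⟩ := hW h1
      have hq₀Q : q₀ ∈ Q' := by
        show j q₀ ∈ W
        rw [hq₀]; exact h1
      refine ⟨⟨q₀, (le_sup_right : Q' ≤ P' ⊔ Q') hq₀Q⟩, ?_, ?_⟩
      · rw [SetLike.mem_coe, Subgroup.mem_subgroupOf]
        exact hq₀Q
      · apply hj
        rw [hψ']
        show y * j q₀ * y⁻¹ = j q
        rw [hq₀]; group

end normal

section solvable

variable {G : Type u} [Group G] [Finite G] {p : ℕ} [Fact p.Prime]

/-- **The fusion system of a `Qd(p)`-free group on a Sylow `p`-subgroup is solvable** (`p` odd). -/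
theorem isSolvableSystem_of_qdFree (hp : p ≠ 2) (hqd : ¬ Cfsg.Involves ↥(Cfsg.qd p) G)
    (P : Sylow p G) : (Cfsg.groupFusionSystem (P : Subgroup G)).IsSolvableSystem := by
  intro R hsc hRne hRn E hE
  have hRP : R ≤ (P : Subgroup G) := hsc.1
  have hPM : (P : Subgroup G) ≤ Subgroup.normalizer (R : Set G) :=
    Subgroup.le_normalizer_of_normal_subgroupOf hRP
  set M := Subgroup.normalizer (R : Set G) with hM
  -- the section `N_G(R)/R` is `Qd(p)`-free
  have hX : ¬ Cfsg.Involves ↥(Cfsg.qd p) (↥M ⧸ R.subgroupOf M) := by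
    intro h
    apply hqd
    apply Cfsg.Agent.Lib.Helper34_NPC.involves_of_subgroup M
    exact Cfsg.Agent.Lib.Helper34_NPC.involves_of_surjective (QuotientGroup.mk' (R.subgroupOf M))
      (QuotientGroup.mk'_surjective _) h
  -- its Sylow subgroup
  let TX : Sylow p (↥M ⧸ R.subgroupOf M) :=
    (P.subtype hPM).mapSurjective (QuotientGroup.mk'_surjective (R.subgroupOf M))
  have hTX : (TX : Subgroup (↥M ⧸ R.subgroupOf M)) = (jmap (P : Subgroup G) R hPM).range := by
    rw [jmap_range]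
    rfl
  have hTXne : (TX : Subgroup (↥M ⧸ R.subgroupOf M)) ≠ ⊥ := by
    intro hbot
    apply hRne
    apply le_antisymm hRP
    intro a ha
    have h1 : jmap (P : Subgroup G) R hPM (QuotientGroup.mk' (R.subgroupOf (P : Subgroup G)) ⟨a, ha⟩) ∈
        (TX : Subgroup (↥M ⧸ R.subgroupOf M)) := by
      rw [hTX]; exact ⟨_, rfl⟩
    rw [hbot, Subgroup.mem_bot, jmap_mk, QuotientGroup.mk'_apply, QuotientGroup.eq_one_iff,
      Subgroup.mem_subgroupOf] at h1
    exact h1
  obtain ⟨W, hWT, hWne, hctl⟩ := exists_ctl_subgroup hp hX TX hTXne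
  have hnormal := isNormal_comap (P : Subgroup G) R hPM hsc E hE W (hTX ▸ hWT)
    (by
      intro B z hB hz
      apply hctl B z
      · rw [hTX]; exact hB
      · intro b hb
        rw [hTX]; exact hz b hb)
  -- the pull-back is nontrivial
  intro hcore
  apply hWne
  rw [eq_bot_iff]
  intro w hw
  obtain ⟨t, rfl⟩ := (hTX ▸ hWT) hw
  have ht : t ∈ W.comap (jmap (P : Subgroup G) R hPM) := hw
  have hle : W.comap (jmap (P : Subgroup G) R hPM) ≤ E.core := le_sSup hnormal
  have h1 := hle ht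
  rw [hcore, Subgroup.mem_bot] at h1
  rw [h1, map_one]
  exact Subgroup.mem_bot.mpr rfl

end solvable

end Cfsg.Agent.Lib.Helper11_FusSolv
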