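import Mathlib

set_option autoImplicit false

namespace Cfsg.Agent.Lib.Helper54_OrbitProd

open Finset Function

/-- if the products of `F` over all `σ`-orbits inside the `σ`-invariant finite set `O` lie in `B`,
so does the product over `O` -/
theorem prod_mem_of_iterate_orbits {Ω A : Type*} [DecidableEq Ω] [CommGroup A] (B : Subgroup A)
    (σ : Ω → Ω) (hσ : Function.Injective σ) (F : Ω → A) :
    ∀ (O : Finset Ω), (∀ ω ∈ O, σ ω ∈ O) → (∀ ω ∈ O, 0 < Function.minimalPeriod σ ω) →
      (∀ ω ∈ O, ∏ j ∈ Finset.range (Function.minimalPeriod σ ω), F (σ^[j] ω) ∈ B) →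
      ∏ ω ∈ O, F ω ∈ B := by
  intro O
  induction O using Finset.strongInduction with
  | H O ih =>
    intro hinv hper horb
    rcases O.eq_empty_or_nonempty with rfl | ⟨ω, hω⟩
    · simp
    set n := Function.minimalPeriod σ ω with hn
    have hnpos : 0 < n := hper ω hω
    set C := (Finset.range n).image (fun j => σ^[j] ω) with hC
    have hiter : ∀ j : ℕ, σ^[j] ω ∈ O := by
      intro j
      induction j with
      | zero => exact hω
      | succ j ihj =>
        rw [Function.iterate_succ_apply']
        exact hinv _ ihj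
    have hCO : C ⊆ O := by
      intro y hy
      rw [hC, Finset.mem_image] at hy
      obtain ⟨j, -, rfl⟩ := hy
      exact hiter j
    have hωC : ω ∈ C := by
      rw [hC, Finset.mem_image]
      exact ⟨0, Finset.mem_range.mpr hnpos, rfl⟩
    have hprodC : ∏ y ∈ C, F y = ∏ j ∈ Finset.range n, F (σ^[j] ω) := by
      rw [hC, Finset.prod_image]
      intro a ha b hb hab
      exact Function.iterate_injOn_Iio_minimalPeriod (Finset.mem_range.mp ha)
        (Finset.mem_range.mp hb) hab
    have hinv' : ∀ y ∈ O \ C, σ y ∈ O \ C := by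
      intro y hy
      rw [Finset.mem_sdiff] at hy ⊢
      refine ⟨hinv y hy.1, fun hmem => hy.2 ?_⟩
      rw [hC, Finset.mem_image] at hmem ⊢
      obtain ⟨j, hj, hjy⟩ := hmem
      rcases Nat.eq_zero_or_pos j with rfl | hjpos
      · refine ⟨n - 1, Finset.mem_range.mpr (by omega), ?_⟩
        apply hσ
        have hjy' : σ y = ω := hjy.symm
        rw [hjy', ← Function.iterate_succ_apply' σ (n - 1) ω]
        show σ^[n - 1 + 1] ω = ω
        rw [Nat.sub_add_cancel hnpos, hn, Function.iterate_minimalPeriod]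
      · refine ⟨j - 1, Finset.mem_range.mpr (by have := Finset.mem_range.mp hj; omega), ?_⟩
        apply hσ
        have hjy' : σ y = σ^[j] ω := hjy.symm
        rw [hjy', ← Function.iterate_succ_apply' σ (j - 1) ω]
        show σ^[j - 1 + 1] ω = σ^[j] ω
        rw [Nat.sub_add_cancel hjpos]
    have hss : O \ C ⊂ O := by
      refine Finset.sdiff_ssubset hCO ⟨ω, hωC⟩
    have h1 := ih (O \ C) hss hinv' (fun y hy => hper y (Finset.mem_sdiff.mp hy).1)
      (fun y hy => horb y (Finset.mem_sdiff.mp hy).1)
    rw [← Finset.prod_sdiff hCO]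
    refine B.mul_mem h1 ?_
    rw [hprodC]
    exact horb ω hω

/-- a nilpotent group `D` generated by a set `𝒞` acts on `Ω`; if the products of `F` over
the nontrivial orbits of the cyclic groups `⟨c⟩`, `c ∈ 𝒞`, lie in `B`, then so does the product of
`F` over any `D`-invariant finite set without `D`-fixed points -/
theorem prod_mem_of_generated {D Ω A : Type*} [Group D] [Finite D] [Group.IsNilpotent D]
    [MulAction D Ω] [DecidableEq Ω] [CommGroup A] (B : Subgroup A) (𝒞 : Set D)
    (hgen : Subgroup.closure 𝒞 = ⊤) (F : Ω → A)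
    (horb : ∀ c ∈ 𝒞, ∀ ω : Ω, c • ω ≠ ω →
      ∏ j ∈ Finset.range (Function.minimalPeriod (fun y => c • y) ω), F (c ^ j • ω) ∈ B) :
    ∀ O : Finset Ω, (∀ d : D, ∀ ω ∈ O, d • ω ∈ O) → (∀ ω ∈ O, ∃ d : D, d • ω ≠ ω) →
      ∏ ω ∈ O, F ω ∈ B := by
  classical
  intro O
  induction O using Finset.strongInduction with
  | H O ih =>
    intro hinv hfix
    rcases O.eq_empty_or_nonempty with rfl | ⟨ω, hω⟩
    · simp
    -- a normal proper subgroup containing the stabilizer
    have hstab : MulAction.stabilizer D ω ≠ ⊤ := by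
      intro htop
      obtain ⟨d, hd⟩ := hfix ω hω
      apply hd
      have : d ∈ MulAction.stabilizer D ω := htop ▸ Subgroup.mem_top d
      exact MulAction.mem_stabilizer_iff.mp this
    obtain ⟨K, hK, hle⟩ := (eq_top_or_exists_le_coatom (MulAction.stabilizer D ω)).resolve_left hstab
    have hKn : K.Normal :=
      Subgroup.NormalizerCondition.normal_of_coatom K Group.normalizerCondition_of_isNilpotent hK
    obtain ⟨c, hc𝒞, hcK⟩ : ∃ c ∈ 𝒞, c ∉ K := by
      by_contra hcon
      push Not at hcon
      have : Subgroup.closure 𝒞 ≤ K := (Subgroup.closure_le K).mpr hcon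
      rw [hgen, top_le_iff] at this
      exact hK.1 this
    set O₁ := O.filter (fun y => y ∈ MulAction.orbit D ω) with hO₁
    have hO₁O : O₁ ⊆ O := Finset.filter_subset _ _
    have hωO₁ : ω ∈ O₁ := by
      rw [hO₁, Finset.mem_filter]
      exact ⟨hω, MulAction.mem_orbit_self ω⟩
    have hnofix : ∀ y ∈ O₁, c • y ≠ y := by
      intro y hy hcy
      rw [hO₁, Finset.mem_filter] at hy
      obtain ⟨d, rfl⟩ := MulAction.mem_orbit_iff.mp hy.2
      have h1 : c ∈ MulAction.stabilizer D (d • ω) := MulAction.mem_stabilizer_iff.mpr hcy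
      rw [MulAction.stabilizer_smul_eq_stabilizer_map_conj] at h1
      obtain ⟨e, he, hec⟩ := h1
      apply hcK
      rw [← hec]
      exact hKn.conj_mem e (hle he) d
    have hprod₁ : ∏ y ∈ O₁, F y ∈ B := by
      apply prod_mem_of_iterate_orbits B (fun y => c • y) (MulAction.injective c) F O₁
      · intro y hy
        rw [hO₁, Finset.mem_filter] at hy ⊢
        refine ⟨hinv c y hy.1, ?_⟩
        have h2 := hy.2
        rw [← MulAction.orbit_eq_iff] at h2 ⊢
        rw [MulAction.orbit_smul, h2]
      · intro y _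
        have := MulAction.period_pos_of_orderOf_pos (orderOf_pos c) y
        rwa [MulAction.period_eq_minimalPeriod] at this
      · intro y hy
        have h3 := horb c hc𝒞 y (hnofix y hy)
        have h4 : ∏ j ∈ Finset.range (Function.minimalPeriod (fun y => c • y) y),
            F ((fun y => c • y)^[j] y) =
            ∏ j ∈ Finset.range (Function.minimalPeriod (fun y => c • y) y), F (c ^ j • y) :=
          Finset.prod_congr rfl (fun j _ => by rw [smul_iterate])
        rw [h4]; exact h3
    have hinv' : ∀ d : D, ∀ y ∈ O \ O₁, d • y ∈ O \ O₁ := by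
      intro d y hy
      rw [Finset.mem_sdiff] at hy ⊢
      refine ⟨hinv d y hy.1, fun hmem => hy.2 ?_⟩
      rw [hO₁, Finset.mem_filter] at hmem ⊢
      refine ⟨hy.1, ?_⟩
      have h2 := hmem.2
      rw [← MulAction.orbit_eq_iff] at h2 ⊢
      rw [← h2, MulAction.orbit_smul]
    have hss : O \ O₁ ⊂ O := Finset.sdiff_ssubset hO₁O ⟨ω, hωO₁⟩
    have h1 := ih (O \ O₁) hss hinv' (fun y hy => hfix y (Finset.mem_sdiff.mp hy).1)
    rw [← Finset.prod_sdiff hO₁O]
    exact B.mul_mem h1 hprod₁

end Cfsg.Agent.Lib.Helper54_OrbitProd
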