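import Mathlib
import Cfsg.Agent.Lib.Helper1_Frattini
import Cfsg.Agent.Lib.Helper63_PGroup

/-!
# Order of a finite `p`-group versus its nilpotency class (helper54)

* `pow_le_card_of_lcs_ne_bot`: a finite `p`-group with `lowerCentralSeries n ≠ ⊥` (`n ≥ 1`) has
  order at least `p ^ (n + 2)`.
* `iterate_mem_lcs`: the iterated commutator `[x, z; n]` lies in the `n`-th term of the lower
  central series.
* `factorization_card_perm_sq`: the `p`-part of `(p^2)!` is `p ^ (p + 1)`.
-/

set_option autoImplicit false

namespace Cfsg.Agent.Lib.Helper54_ClassOrder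


open scoped commutatorElement

variable {H : Type*} [Group H]

/-- If the lower central series stabilises at `i` it is constant from `i` on. -/
theorem lcs_stable (i : ℕ)
    (h : (⊤ : Subgroup H).lowerCentralSeries (i + 1) = (⊤ : Subgroup H).lowerCentralSeries i) :
    ∀ k, (⊤ : Subgroup H).lowerCentralSeries (i + k) = (⊤ : Subgroup H).lowerCentralSeries i := by
  intro k
  induction k with
  | zero => rfl
  | succ k ih =>
    have h1 : i + (k + 1) = (i + k) + 1 := by ring
    rw [h1, Subgroup.lowerCentralSeries_succ, ih, ← Subgroup.lowerCentralSeries_succ, h]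

/-- In a nilpotent group the lower central series decreases strictly while nontrivial. -/
theorem lcs_succ_lt [Group.IsNilpotent H] (i : ℕ)
    (h : (⊤ : Subgroup H).lowerCentralSeries i ≠ ⊥) :
    (⊤ : Subgroup H).lowerCentralSeries (i + 1) < (⊤ : Subgroup H).lowerCentralSeries i := by
  refine lt_of_le_of_ne (Subgroup.lowerCentralSeries_antitone _ (Nat.le_succ i)) ?_
  intro heq
  apply h
  obtain ⟨N, hN⟩ := Subgroup.nilpotent_iff_lowerCentralSeries.mp (inferInstance : Group.IsNilpotent H)
  have h1 := lcs_stable i heq N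
  rw [← h1]
  exact le_bot_iff.mp (hN ▸ Subgroup.lowerCentralSeries_antitone _ (Nat.le_add_left N i))







/-- In a finite `p`-group, a strict inclusion of subgroups multiplies the index by at least `p`. -/
theorem index_le_of_lt [Finite H] {p : ℕ} [hp : Fact p.Prime] (hH : IsPGroup p H)
    {A B : Subgroup H} (hAB : A < B) : p * B.index ≤ A.index := by
  have h1 : A.relIndex B * B.index = A.index := Subgroup.relIndex_mul_index hAB.le
  rw [← h1]
  apply Nat.mul_le_mul_right
  have h2 : A.relIndex B ≠ 1 := by
    intro h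
    rw [Subgroup.relIndex_eq_one] at h
    exact absurd hAB (not_lt_of_ge h)
  obtain ⟨n, hn⟩ := (hH.to_subgroup B).index (A.subgroupOf B)
  have h3 : A.relIndex B = p ^ n := hn
  rw [h3] at h2 ⊢
  cases n with
  | zero => simp at h2
  | succ n =>
    rw [pow_succ]
    exact Nat.le_mul_of_pos_left _ (pow_pos hp.out.pos n)

/-- In a finite `p`-group the derived subgroup cannot have index `p` unless it is trivial. -/
theorem commutator_eq_bot_of_index [Finite H] {p : ℕ} [hp : Fact p.Prime] (hH : IsPGroup p H)
    (h : (commutator H).index = p) : commutator H = ⊥ := by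
  have hco : IsCoatom (commutator H) :=
    Cfsg.Agent.Lib.Helper63_PGroup.isCoatom_of_index_prime _ (h ▸ hp.out)
  have huniq : ∀ M : Subgroup H, IsCoatom M → M = commutator H := by
    intro M hM
    have h1 : commutator H ≤ M :=
      (Cfsg.Agent.Lib.Helper1_Frattini.commutator_le_frattini_of_isPGroup hH).trans
        (frattini_le_coatom hM)
    by_contra hne
    have h2 : commutator H < M := lt_of_le_of_ne h1 (Ne.symm hne)
    exact hM.1 (hco.2 M h2)
  obtain ⟨g, hg⟩ : ∃ g : H, g ∉ commutator H := by
    by_contra hall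
    push Not at hall
    apply hco.1
    rw [eq_top_iff]
    intro x _
    exact hall x
  have hz : Subgroup.zpowers g = ⊤ := by
    by_contra hne
    obtain ⟨M, hM, hle⟩ := (eq_top_or_exists_le_coatom (Subgroup.zpowers g)).resolve_left hne
    rw [huniq M hM] at hle
    exact hg (hle (Subgroup.mem_zpowers g))
  rw [eq_bot_iff]
  rw [commutator_def, Subgroup.commutator_le]
  intro a _ b _
  rw [Subgroup.mem_bot, commutatorElement_eq_one_iff_commute]
  have ha : a ∈ Subgroup.zpowers g := hz ▸ Subgroup.mem_top a
  have hb : b ∈ Subgroup.zpowers g := hz ▸ Subgroup.mem_top b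
  obtain ⟨i, rfl⟩ := ha
  obtain ⟨j, rfl⟩ := hb
  exact (Commute.refl g).zpow_zpow i j

/-- A finite `p`-group whose lower central series is nontrivial at step `n ≥ 1` (i.e. of
nilpotency class greater than `n`) has order at least `p ^ (n + 2)`. -/
theorem pow_le_card_of_lcs_ne_bot [Finite H] {p : ℕ} [hp : Fact p.Prime] (hH : IsPGroup p H)
    (n : ℕ) (hn : 1 ≤ n) (h : (⊤ : Subgroup H).lowerCentralSeries n ≠ ⊥) :
    p ^ (n + 2) ≤ Nat.card H := by
  have : Group.IsNilpotent H := hH.isNilpotent
  have hne : ∀ j, j ≤ n → (⊤ : Subgroup H).lowerCentralSeries j ≠ ⊥ := by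
    intro j hj hbot
    apply h
    exact le_bot_iff.mp (hbot ▸ Subgroup.lowerCentralSeries_antitone _ hj)
  have hQ : ∀ j, 1 ≤ j → j ≤ n + 1 →
      p ^ (j + 1) ≤ ((⊤ : Subgroup H).lowerCentralSeries j).index := by
    intro j hj
    induction j, hj using Nat.le_induction with
    | base =>
      intro _
      have h1 : (⊤ : Subgroup H).lowerCentralSeries 1 = commutator H := rfl
      rw [h1]
      obtain ⟨k, hk⟩ := hH.index (commutator H)
      rw [hk]
      apply Nat.pow_le_pow_right hp.out.pos
      by_contra hlt
      push Not at hlt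
      have hk01 : k = 0 ∨ k = 1 := by omega
      rcases hk01 with rfl | rfl
      · rw [pow_zero, Subgroup.index_eq_one] at hk
        have h2 := lcs_succ_lt (H := H) 0 (hne 0 (Nat.zero_le n))
        rw [h1, hk] at h2
        exact lt_irrefl _ h2
      · rw [pow_one] at hk
        have h2 := commutator_eq_bot_of_index hH hk
        exact hne 1 hn (h1.trans h2)
    | succ j hj ih =>
      intro hj1
      have h1 := ih (by omega)
      have h2 := lcs_succ_lt (H := H) j (hne j (by omega))
      have h3 := index_le_of_lt hH h2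
      calc p ^ (j + 1 + 1) = p * p ^ (j + 1) := by rw [pow_succ, mul_comm]
        _ ≤ p * ((⊤ : Subgroup H).lowerCentralSeries j).index := Nat.mul_le_mul_left _ h1
        _ ≤ _ := h3
  have h1 := hQ (n + 1) (by omega) le_rfl
  exact h1.trans (Nat.le_of_dvd Nat.card_pos (Subgroup.index_dvd_card _))


/-- The iterated commutator `[x, z; n]` lies in the `n`-th term of the lower central series. -/
theorem iterate_mem_lcs (z x : H) (n : ℕ) :
    (fun y : H => y⁻¹ * z⁻¹ * y * z)^[n] x ∈ (⊤ : Subgroup H).lowerCentralSeries n := by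
  induction n with
  | zero => exact Subgroup.mem_top _
  | succ k ih =>
    rw [Function.iterate_succ_apply']
    set c := (fun y : H => y⁻¹ * z⁻¹ * y * z)^[k] x with hc
    have h2 : c⁻¹ * z⁻¹ * c * z = ⁅c⁻¹, z⁻¹⁆ := by
      rw [commutatorElement_def]; group
    show c⁻¹ * z⁻¹ * c * z ∈ (⊤ : Subgroup H).lowerCentralSeries (k + 1)
    rw [h2]
    exact Subgroup.commutator_mem_commutator (Subgroup.inv_mem _ ih) (Subgroup.mem_top _)

/-- Homomorphisms commute with iterated commutators. -/
theorem map_iterate_comm {K : Type*} [Group K] (ψ : H →* K) (z x : H) (n : ℕ) :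
    ψ ((fun y : H => y⁻¹ * z⁻¹ * y * z)^[n] x) =
      (fun y : K => y⁻¹ * (ψ z)⁻¹ * y * ψ z)^[n] (ψ x) := by
  induction n with
  | zero => rfl
  | succ k ih =>
    rw [Function.iterate_succ_apply', Function.iterate_succ_apply', ← ih]
    simp only [map_mul, map_inv]


theorem factorization_card_perm_sq (p : ℕ) [hp : Fact p.Prime] :
    (Nat.card (Equiv.Perm (Fin (p ^ 2)))).factorization p = p + 1 := by
  rw [Nat.card_perm, Nat.card_eq_fintype_card, Fintype.card_fin, Nat.factorization_def _ hp.out]
  have h1 : padicValNat p (p * p).factorial = padicValNat p p.factorial + p :=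
    padicValNat_factorial_mul p
  have h2 : padicValNat p (p * 1).factorial = padicValNat p (1 : ℕ).factorial + 1 :=
    padicValNat_factorial_mul 1
  rw [mul_one] at h2
  rw [Nat.factorial_one, padicValNat_one_right, zero_add] at h2
  rw [pow_two, h1, h2, add_comm]


end Cfsg.Agent.Lib.Helper54_ClassOrder
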