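import Mathlib

/-!
# Gaschütz's complement theorem via derivations (helper29)

`K` an abelian normal subgroup of the finite group `G`, `A ≤ G` with `A ⊓ K = ⊥`, and the index of
`A ⊔ K` prime to `|K|`.  We build a derivation `D : G → K` (for the conjugation action) with
`D k = k ^ n` on `K`; its kernel is a complement of `K` in `G`.  Two derivations agreeing on a subgroup
`U ≥ K` of index prime to `|K|` differ by a principal derivation, which gives the conjugacy part.
-/

set_option autoImplicit false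

namespace Cfsg.Agent.Lib.Helper29_Gaschutz

open scoped IsMulCommutative

variable {G : Type*} [Group G]

section Deriv

variable (K : Subgroup G) [K.Normal]

/-- A derivation (crossed homomorphism) from `G` to the normal subgroup `K`, for conjugation. -/
def IsDeriv (D : G → K) : Prop :=
  ∀ g h : G, D (g * h) = D g * MulAut.conjNormal g (D h)

variable {K}

theorem IsDeriv.map_one {D : G → K} (hD : IsDeriv K D) : D 1 = 1 := by
  have h := hD 1 1
  rw [mul_one, _root_.map_one, MulAut.one_apply] at h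
  exact mul_left_cancel (a := D 1) (by rw [mul_one]; exact h.symm)

/-- The kernel of a derivation. -/
def IsDeriv.ker {D : G → K} (hD : IsDeriv K D) : Subgroup G where
  carrier := {g | D g = 1}
  one_mem' := hD.map_one
  mul_mem' := by
    intro a b ha hb
    have ha' : D a = 1 := ha
    have hb' : D b = 1 := hb
    show D (a * b) = 1
    rw [hD a b, ha', hb', _root_.map_one, mul_one]
  inv_mem' := by
    intro a ha
    have ha' : D a = 1 := ha
    show D a⁻¹ = 1
    have h := hD a a⁻¹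
    rw [mul_inv_cancel, hD.map_one, ha', one_mul] at h
    exact (EmbeddingLike.map_eq_one_iff (f := (MulAut.conjNormal a : MulAut K))).mp h.symm

theorem IsDeriv.mem_ker {D : G → K} (hD : IsDeriv K D) (g : G) : g ∈ hD.ker ↔ D g = 1 := Iff.rfl

theorem conjNormal_eq_self_of_mem [IsMulCommutative K] (k x : K) :
    MulAut.conjNormal (k : G) x = x := by
  apply Subtype.ext
  rw [MulAut.conjNormal_apply]
  have h' : (k : G) * (x : G) = (x : G) * k := congrArg Subtype.val (mul_comm' k x)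
  rw [h', mul_assoc, mul_inv_cancel, mul_one]

/-- If a derivation restricts to the `n`-th power map on `K`, with `n` prime to `|K|`, then its
kernel is a complement of `K`. -/
theorem IsDeriv.isComplement' [Finite G] [IsMulCommutative K] {D : G → K} (hD : IsDeriv K D)
    (n : ℕ) (hn : (Nat.card K).Coprime n) (hK : ∀ k : K, D (k : G) = k ^ n) :
    Subgroup.IsComplement' K hD.ker := by
  apply Subgroup.isComplement'_of_disjoint_and_mul_eq_univ
  · rw [Subgroup.disjoint_def]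
    intro x hxK hxH
    have h1 : D x = 1 := hxH
    have h2 := hK ⟨x, hxK⟩
    rw [h1] at h2
    have h3 : orderOf (⟨x, hxK⟩ : K) ∣ n := orderOf_dvd_of_pow_eq_one h2.symm
    have h4 : orderOf (⟨x, hxK⟩ : K) ∣ Nat.card K := orderOf_dvd_natCard _
    have h5 : orderOf (⟨x, hxK⟩ : K) = 1 := Nat.eq_one_of_dvd_coprimes hn h4 h3
    exact congrArg Subtype.val (orderOf_eq_one_iff.mp h5)
  · rw [Set.eq_univ_iff_forall]
    intro g
    obtain ⟨k, hk⟩ : ∃ k : K, k ^ n = (D g)⁻¹ := (powCoprime hn).surjective _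
    have h1 : D ((k : G) * g) = 1 := by
      rw [hD, hK, hk, conjNormal_eq_self_of_mem, inv_mul_cancel]
    refine ⟨((k⁻¹ : K) : G), (k⁻¹).2, (k : G) * g, h1, ?_⟩
    show ((k⁻¹ : K) : G) * ((k : G) * g) = g
    simp

end Deriv

section Construct

/-- A section of `G → G ⧸ K` (viewed as a map `G → G`, constant on cosets of `K`) which is
equivariant for right multiplication by `A`. -/
structure IsAdapted (K A : Subgroup G) (σ : G → G) : Prop where
  mem : ∀ g, g⁻¹ * σ g ∈ K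
  mul_K : ∀ g, ∀ k ∈ K, σ (g * k) = σ g
  mul_A : ∀ g, ∀ a ∈ A, σ (g * a) = σ g * a

theorem exists_adapted (K A : Subgroup G) [K.Normal] (hAK : A ⊓ K = ⊥) :
    ∃ σ : G → G, IsAdapted K A σ := by
  classical
  set U := A ⊔ K with hU
  have hKU : K ≤ U := le_sup_right
  have hAU : A ≤ U := le_sup_left
  have hdec : ∀ u : G, u ∈ U → ∃ a ∈ A, ∃ k ∈ K, u = a * k := by
    intro u hu
    have h1 : u ∈ (↑(A ⊔ K) : Set G) := hu
    rw [Subgroup.mul_normal] at h1
    obtain ⟨a, ha, k, hk, rfl⟩ := h1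
    exact ⟨a, ha, k, hk, rfl⟩
  have huniq : ∀ a ∈ A, ∀ k ∈ K, ∀ a' ∈ A, ∀ k' ∈ K, a * k = a' * k' → a = a' := by
    intro a ha k hk a' ha' k' hk' h
    have h1 : a'⁻¹ * a = k' * k⁻¹ := by
      calc a'⁻¹ * a = a'⁻¹ * (a * k) * k⁻¹ := by group
        _ = a'⁻¹ * (a' * k') * k⁻¹ := by rw [h]
        _ = k' * k⁻¹ := by group
    have h2 : a'⁻¹ * a ∈ A ⊓ K :=
      ⟨A.mul_mem (A.inv_mem ha') ha, h1 ▸ K.mul_mem hk' (K.inv_mem hk)⟩
    rw [hAK, Subgroup.mem_bot] at h2
    exact (inv_mul_eq_one.mp h2).symm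
  let rep : G → G := fun g => ((g : G ⧸ U)).out
  have hrep : ∀ g, (rep g)⁻¹ * g ∈ U := by
    intro g
    rw [← QuotientGroup.eq]
    exact QuotientGroup.out_eq' _
  have hrep_mul : ∀ g, ∀ u ∈ U, rep (g * u) = rep g := by
    intro g u hu
    show ((g * u : G) : G ⧸ U).out = ((g : G) : G ⧸ U).out
    congr 1
    rw [QuotientGroup.eq]
    have : (g * u)⁻¹ * g = u⁻¹ := by group
    rw [this]
    exact U.inv_mem hu
  let α : G → G := fun g => Classical.choose (hdec _ (hrep g))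
  have hα : ∀ g, α g ∈ A ∧ ∃ k ∈ K, (rep g)⁻¹ * g = α g * k :=
    fun g => Classical.choose_spec (hdec _ (hrep g))
  refine ⟨fun g => rep g * α g, ?_, ?_, ?_⟩
  · intro g
    obtain ⟨ha, k, hk, e⟩ := hα g
    have hg : g = rep g * (α g * k) := by rw [← e]; group
    have : g⁻¹ * (rep g * α g) = k⁻¹ := by
      calc g⁻¹ * (rep g * α g) = (rep g * (α g * k))⁻¹ * (rep g * α g) := by rw [← hg]
        _ = k⁻¹ := by group
    rw [this]
    exact K.inv_mem hk
  · intro g k' hk'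
    obtain ⟨ha, k, hk, e⟩ := hα g
    obtain ⟨ha2, k2, hk2, e2⟩ := hα (g * k')
    rw [hrep_mul g k' (hKU hk')] at e2
    show rep (g * k') * α (g * k') = rep g * α g
    rw [hrep_mul g k' (hKU hk')]
    congr 1
    have h3 : α (g * k') * k2 = α g * (k * k') := by
      calc α (g * k') * k2 = (rep g)⁻¹ * (g * k') := e2.symm
        _ = ((rep g)⁻¹ * g) * k' := by group
        _ = α g * k * k' := by rw [e]
        _ = α g * (k * k') := by group
    exact huniq _ ha2 _ hk2 _ ha _ (K.mul_mem hk hk') h3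
  · intro g a' ha'
    obtain ⟨ha, k, hk, e⟩ := hα g
    obtain ⟨ha2, k2, hk2, e2⟩ := hα (g * a')
    rw [hrep_mul g a' (hAU ha')] at e2
    show rep (g * a') * α (g * a') = rep g * α g * a'
    rw [hrep_mul g a' (hAU ha'), mul_assoc]
    congr 1
    have hk3 : a'⁻¹ * k * a'⁻¹⁻¹ ∈ K := (inferInstance : K.Normal).conj_mem k hk a'⁻¹
    have h3 : α (g * a') * k2 = (α g * a') * (a'⁻¹ * k * a'⁻¹⁻¹) := by
      calc α (g * a') * k2 = (rep g)⁻¹ * (g * a') := e2.symm
        _ = ((rep g)⁻¹ * g) * a' := by group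
        _ = α g * k * a' := by rw [e]
        _ = (α g * a') * (a'⁻¹ * k * a'⁻¹⁻¹) := by group
    exact huniq _ ha2 _ hk2 _ (A.mul_mem ha ha') _ hk3 h3

variable {K A : Subgroup G} [K.Normal] {σ : G → G}

theorem cmem (hσ : IsAdapted K A σ) (g x : G) : g * σ (g⁻¹ * x) * (σ x)⁻¹ ∈ K := by
  have h1 := hσ.mem (g⁻¹ * x)
  have h2 := hσ.mem x
  have h3 : ((g⁻¹ * x)⁻¹ * σ (g⁻¹ * x)) * (x⁻¹ * σ x)⁻¹ ∈ K := K.mul_mem h1 (K.inv_mem h2)
  have h4 := (inferInstance : K.Normal).conj_mem _ h3 x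
  convert h4 using 1
  group

/-- The cocycle attached to an adapted section. -/
def cc (hσ : IsAdapted K A σ) (g x : G) : K := ⟨g * σ (g⁻¹ * x) * (σ x)⁻¹, cmem hσ g x⟩

theorem cc_mul (hσ : IsAdapted K A σ) (g g' x : G) :
    cc hσ (g * g') x = MulAut.conjNormal g (cc hσ g' (g⁻¹ * x)) * cc hσ g x := by
  apply Subtype.ext
  rw [Subgroup.coe_mul, MulAut.conjNormal_apply]
  show g * g' * σ ((g * g')⁻¹ * x) * (σ x)⁻¹ =
    g * (g' * σ (g'⁻¹ * (g⁻¹ * x)) * (σ (g⁻¹ * x))⁻¹) * g⁻¹ * (g * σ (g⁻¹ * x) * (σ x)⁻¹)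
  have : (g * g')⁻¹ * x = g'⁻¹ * (g⁻¹ * x) := by group
  rw [this]
  group

theorem cc_mul_right_K (hσ : IsAdapted K A σ) (g x : G) (k : G) (hk : k ∈ K) :
    cc hσ g (x * k) = cc hσ g x := by
  apply Subtype.ext
  show g * σ (g⁻¹ * (x * k)) * (σ (x * k))⁻¹ = g * σ (g⁻¹ * x) * (σ x)⁻¹
  rw [← mul_assoc g⁻¹ x k, hσ.mul_K _ k hk, hσ.mul_K _ k hk]

theorem cc_mul_right_A (hσ : IsAdapted K A σ) (g x : G) (a : G) (ha : a ∈ A) :
    cc hσ g (x * a) = cc hσ g x := by
  apply Subtype.ext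
  show g * σ (g⁻¹ * (x * a)) * (σ (x * a))⁻¹ = g * σ (g⁻¹ * x) * (σ x)⁻¹
  rw [← mul_assoc g⁻¹ x a, hσ.mul_A _ a ha, hσ.mul_A _ a ha]
  group

theorem cc_mul_right_U (hσ : IsAdapted K A σ) (g : G) (u : G) (hu : u ∈ A ⊔ K) (x : G) :
    cc hσ g (x * u) = cc hσ g x := by
  let S : Subgroup G :=
    { carrier := {u | ∀ x, cc hσ g (x * u) = cc hσ g x}
      one_mem' := by intro x; rw [mul_one]
      mul_mem' := by
        intro u v hu hv x
        rw [← mul_assoc, hv (x * u), hu x]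
      inv_mem' := by
        intro u hu x
        have := hu (x * u⁻¹)
        rw [inv_mul_cancel_right] at this
        exact this.symm }
  have hS : A ⊔ K ≤ S :=
    sup_le (fun a ha x => cc_mul_right_A hσ g x a ha) (fun k hk x => cc_mul_right_K hσ g x k hk)
  exact hS hu x

theorem cc_eq_of_coset (hσ : IsAdapted K A σ) (g x y : G)
    (h : (x : G ⧸ (A ⊔ K)) = (y : G ⧸ (A ⊔ K))) : cc hσ g x = cc hσ g y := by
  rw [QuotientGroup.eq] at h
  have := cc_mul_right_U hσ g _ h x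
  rw [mul_inv_cancel_left] at this
  exact this.symm

theorem cc_of_mem (hσ : IsAdapted K A σ) (k : K) (x : G) : cc hσ (k : G) x = k := by
  apply Subtype.ext
  show (k : G) * σ ((k : G)⁻¹ * x) * (σ x)⁻¹ = k
  have h1 : x⁻¹ * (k : G)⁻¹ * x⁻¹⁻¹ ∈ K :=
    (inferInstance : K.Normal).conj_mem _ (K.inv_mem k.2) x⁻¹
  have h2 : (k : G)⁻¹ * x = x * (x⁻¹ * (k : G)⁻¹ * x⁻¹⁻¹) := by group
  rw [h2, hσ.mul_K _ _ h1]
  group

/-- **Gaschütz, existence of the derivation.** -/
theorem exists_deriv [Finite G] (K A : Subgroup G) [K.Normal] [IsMulCommutative K]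
    (hAK : A ⊓ K = ⊥) :
    ∃ D : G → K, IsDeriv K D ∧ ∀ k : K, D (k : G) = k ^ (A ⊔ K).index := by
  classical
  obtain ⟨σ, hσ⟩ := exists_adapted K A hAK
  let _ : Fintype (G ⧸ (A ⊔ K)) := Fintype.ofFinite _
  refine ⟨fun g => ∏ q : G ⧸ (A ⊔ K), cc hσ g q.out, ?_, ?_⟩
  · intro g g'
    show (∏ q : G ⧸ (A ⊔ K), cc hσ (g * g') q.out) =
      (∏ q : G ⧸ (A ⊔ K), cc hσ g q.out) *
        MulAut.conjNormal g (∏ q : G ⧸ (A ⊔ K), cc hσ g' q.out)
    have h1 : ∀ q : G ⧸ (A ⊔ K), cc hσ (g * g') q.out =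
        MulAut.conjNormal g (cc hσ g' (g⁻¹ • q).out) * cc hσ g q.out := by
      intro q
      rw [cc_mul]
      congr 2
      apply cc_eq_of_coset
      rw [QuotientGroup.out_eq']
      show ((g⁻¹ • q.out : G) : G ⧸ (A ⊔ K)) = g⁻¹ • q
      rw [← MulAction.Quotient.smul_mk, QuotientGroup.out_eq']
    rw [Finset.prod_congr rfl (fun q _ => h1 q), Finset.prod_mul_distrib, mul_comm]
    congr 1
    rw [map_prod]
    exact Equiv.prod_comp (MulAction.toPerm g⁻¹ : Equiv.Perm (G ⧸ (A ⊔ K)))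
      (fun q => MulAut.conjNormal g (cc hσ g' q.out))
  · intro k
    show (∏ q : G ⧸ (A ⊔ K), cc hσ (k : G) q.out) = k ^ (A ⊔ K).index
    rw [Finset.prod_congr rfl (fun q _ => cc_of_mem hσ k q.out), Finset.prod_const,
      Finset.card_univ, Subgroup.index_eq_card, Nat.card_eq_fintype_card]

/-- **Gaschütz's theorem, existence.** An abelian normal subgroup `K` which has a complement `A` in
`A ⊔ K`, where the index of `A ⊔ K` is prime to `|K|`, has a complement in `G`. -/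
theorem exists_complement [Finite G] (K A : Subgroup G) [K.Normal] [IsMulCommutative K]
    (hAK : A ⊓ K = ⊥) (hcop : (Nat.card K).Coprime (A ⊔ K).index) :
    ∃ H : Subgroup G, Subgroup.IsComplement' K H := by
  obtain ⟨D, hD, hDK⟩ := exists_deriv K A hAK
  exact ⟨hD.ker, hD.isComplement' _ hcop hDK⟩

end Construct

end Cfsg.Agent.Lib.Helper29_Gaschutz
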