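import Cfsg.Prelude.Def_Transfer
import Cfsg.Agent.Lib.Helper29_Gaschutz
import Cfsg.Agent.Lib.Helper2_PResidual
import Cfsg.Agent.Lib.Helper1_Frattini
import Mathlib.GroupTheory.Frattini
import Mathlib.GroupTheory.Solvable
import Mathlib.GroupTheory.Nilpotent

/-!
# Tate's theorem via Gaschütz's complement theorem (helper54)

Let `V ≤ G` have index prime to `p`, let `f : V →* W` be a surjection onto a `p`-group whose kernel
lies in `X = V ∩ O^p(G)`, with `f(X)` abelian and contained in `Φ(W)`.  Then `X ≤ ker f`.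

Proof: form the fibre product `E = {(g, f v) | g ∈ v O^p(G)} ≤ G × W`.  The kernel `A` of the first
projection is abelian and is complemented in the preimage of `V` (of index prime to `p`), hence in
`E` by Gaschütz.  A complement `C ≅ G` projects onto `W` (Frattini argument), but elements of `C`
lying over `O^p(G)` project trivially.
-/

set_option autoImplicit false
open Cfsg

namespace Cfsg.Agent.Lib.Helper54_Tate

open Cfsg.Agent.Lib.Helper2_PResidual

section Fib

variable {G : Type*} [Group G] {W : Type*} [Group W]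

/-- The fibre product `{(g, f v) | v⁻¹ g ∈ K}`. -/
def fib (V K : Subgroup G) [hK : K.Normal] (f : V →* W) : Subgroup (G × W) where
  carrier := {e | ∃ v : V, e.2 = f v ∧ (v : G)⁻¹ * e.1 ∈ K}
  one_mem' := ⟨1, by simp, by simp⟩
  mul_mem' := by
    rintro ⟨g, w⟩ ⟨g', w'⟩ ⟨v, hw, hg⟩ ⟨v', hw', hg'⟩
    refine ⟨v * v', ?_, ?_⟩
    · simp only [Prod.snd_mul, map_mul]
      simp only at hw hw'
      rw [hw, hw']
    · simp only [Prod.fst_mul, Subgroup.coe_mul]
      simp only at hg hg'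
      have h1 : (v' : G)⁻¹ * ((v : G)⁻¹ * g) * ((v' : G)⁻¹)⁻¹ ∈ K := hK.conj_mem _ hg _
      have h2 : ((v : G) * (v' : G))⁻¹ * (g * g') =
          ((v' : G)⁻¹ * ((v : G)⁻¹ * g) * ((v' : G)⁻¹)⁻¹) * ((v' : G)⁻¹ * g') := by group
      rw [h2]
      exact K.mul_mem h1 hg'
  inv_mem' := by
    rintro ⟨g, w⟩ ⟨v, hw, hg⟩
    refine ⟨v⁻¹, ?_, ?_⟩
    · simp only [Prod.snd_inv, map_inv]
      simp only at hw
      rw [hw]
    · simp only [Prod.fst_inv, Subgroup.coe_inv, inv_inv]
      simp only at hg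
      have h1 : (v : G) * ((v : G)⁻¹ * g)⁻¹ * (v : G)⁻¹ ∈ K := hK.conj_mem _ (K.inv_mem hg) _
      have h2 : (v : G) * g⁻¹ = (v : G) * ((v : G)⁻¹ * g)⁻¹ * (v : G)⁻¹ := by group
      rw [h2]
      exact h1

theorem mem_fib {V K : Subgroup G} [K.Normal] {f : V →* W} {e : G × W} :
    e ∈ fib V K f ↔ ∃ v : V, e.2 = f v ∧ (v : G)⁻¹ * e.1 ∈ K := Iff.rfl

end Fib

section Core

variable {G : Type*} [Group G] [Finite G] {W : Type*} [Group W] [Finite W] {p : ℕ} [Fact p.Prime]

/-- A subgroup of index prime to `p` supplements `O^p(G)`. -/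
theorem sup_pResidual_eq_top (V : Subgroup G) (hV : ¬ p ∣ V.index) : V ⊔ pResidual p G = ⊤ := by
  have hp : p.Prime := Fact.out
  rw [← Subgroup.index_eq_one]
  have h1 : (V ⊔ pResidual p G).index ∣ V.index := Subgroup.index_dvd_of_le le_sup_left
  have h2 : (V ⊔ pResidual p G).index ∣ (pResidual p G).index :=
    Subgroup.index_dvd_of_le le_sup_right
  obtain ⟨k, hk⟩ := IsPGroup.iff_card.mp (isPGroup_quotient_pResidual (G := G) (p := p))
  have h3 : (pResidual p G).index = p ^ k := by rw [Subgroup.index_eq_card, hk]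
  rw [h3] at h2
  obtain ⟨i, -, hi⟩ := (Nat.dvd_prime_pow hp).mp h2
  have hi0 : i = 0 := by
    by_contra hne
    apply hV
    refine dvd_trans ?_ h1
    rw [hi]; exact dvd_pow_self p hne
  rw [hi, hi0, pow_zero]

/-- **Tate's theorem, core form.** -/
theorem core (V : Subgroup G) (hV : ¬ p ∣ V.index) (f : V →* W) (hf : Function.Surjective f)
    (hW : IsPGroup p W) (hker : f.ker ≤ (pResidual p G).subgroupOf V)
    (hab : ∀ x y : V, (x : G) ∈ pResidual p G → (y : G) ∈ pResidual p G → f x * f y = f y * f x)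
    (hfr : ((pResidual p G).subgroupOf V).map f ≤ frattini W) :
    (pResidual p G).subgroupOf V ≤ f.ker := by
  classical
  have hp : p.Prime := Fact.out
  have hKn : (pResidual p G).Normal := pResidual_normal
  set K := pResidual p G with hK
  set E := fib V K f with hE
  have hEfin : Finite E := inferInstance
  set π₁ : E →* G := (MonoidHom.fst G W).comp E.subtype with hπ₁
  set π₂ : E →* W := (MonoidHom.snd G W).comp E.subtype with hπ₂
  have hπ₁_apply : ∀ e : E, π₁ e = (e : G × W).1 := fun e => rfl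
  have hπ₂_apply : ∀ e : E, π₂ e = (e : G × W).2 := fun e => rfl
  set A : Subgroup E := π₁.ker with hA
  -- elements of `A`
  have hAmem : ∀ a : E, a ∈ A → ∃ v : V, (v : G) ∈ K ∧ π₂ a = f v := by
    intro a ha
    obtain ⟨v, hv2, hv1⟩ := mem_fib.mp a.2
    have h1 : (a : G × W).1 = 1 := by
      have := MonoidHom.mem_ker.mp ha
      rwa [hπ₁_apply] at this
    rw [h1, mul_one] at hv1
    refine ⟨v, ?_, hv2⟩
    have := K.inv_mem hv1
    rwa [inv_inv] at this
  have hAc : IsMulCommutative A := by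
    refine ⟨⟨?_⟩⟩
    rintro ⟨a, ha⟩ ⟨b, hb⟩
    apply Subtype.ext
    apply Subtype.ext
    obtain ⟨va, hva, hfa⟩ := hAmem a ha
    obtain ⟨vb, hvb, hfb⟩ := hAmem b hb
    have ha1 : (a : G × W).1 = 1 := by
      have := MonoidHom.mem_ker.mp ha
      rwa [hπ₁_apply] at this
    have hb1 : (b : G × W).1 = 1 := by
      have := MonoidHom.mem_ker.mp hb
      rwa [hπ₁_apply] at this
    apply Prod.ext
    · show (a : G × W).1 * (b : G × W).1 = (b : G × W).1 * (a : G × W).1
      rw [ha1, hb1]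
    · show (a : G × W).2 * (b : G × W).2 = (b : G × W).2 * (a : G × W).2
      rw [hπ₂_apply] at hfa hfb
      rw [hfa, hfb]
      exact hab va vb hva hvb
  -- the section over `V`
  let β : V →* E :=
    { toFun := fun v => ⟨((v : G), f v), mem_fib.mpr ⟨v, rfl, by simp⟩⟩
      map_one' := by apply Subtype.ext; simp
      map_mul' := fun x y => by apply Subtype.ext; simp }
  have hβ₁ : ∀ v : V, π₁ (β v) = (v : G) := fun v => rfl
  have hβ₂ : ∀ v : V, π₂ (β v) = f v := fun v => rfl
  set B : Subgroup E := β.range with hB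
  have hBA : B ⊓ A = ⊥ := by
    rw [eq_bot_iff]
    rintro e ⟨⟨v, rfl⟩, he⟩
    have h1 : π₁ (β v) = 1 := MonoidHom.mem_ker.mp he
    rw [hβ₁] at h1
    have hv : v = 1 := Subtype.ext h1
    rw [Subgroup.mem_bot, hv, map_one]
  have hVK : V ⊔ K = ⊤ := sup_pResidual_eq_top V hV
  have hπ₁surj : Function.Surjective π₁ := by
    intro g
    have hg : g ∈ V ⊔ K := by rw [hVK]; trivial
    obtain ⟨v, hv, k, hk, rfl⟩ := Subgroup.mem_sup_of_normal_right.mp hg
    refine ⟨⟨(v * k, f ⟨v, hv⟩), mem_fib.mpr ⟨⟨v, hv⟩, rfl, ?_⟩⟩, rfl⟩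
    simpa using hk
  have hApg : IsPGroup p A := by
    intro a
    obtain ⟨k, hk⟩ := hW (π₂ a)
    refine ⟨k, ?_⟩
    apply Subtype.ext
    apply Subtype.ext
    have h1 : ((a : E) : G × W).1 = 1 := by
      have := MonoidHom.mem_ker.mp a.2
      rwa [hπ₁_apply] at this
    apply Prod.ext
    · show (((a : E) ^ p ^ k : E) : G × W).1 = 1
      rw [Subgroup.coe_pow, Prod.pow_fst, h1, one_pow]
    · show (((a : E) ^ p ^ k : E) : G × W).2 = 1
      rw [Subgroup.coe_pow, Prod.pow_snd]
      rw [hπ₂_apply] at hk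
      exact hk
  have hcomap_le : V.comap π₁ ≤ B ⊔ A := by
    intro e he
    have heV : π₁ e ∈ V := he
    have h1 : e = β ⟨π₁ e, heV⟩ * ((β ⟨π₁ e, heV⟩)⁻¹ * e) := by group
    rw [h1]
    refine Subgroup.mul_mem _ (Subgroup.mem_sup_left ⟨_, rfl⟩) (Subgroup.mem_sup_right ?_)
    rw [hA, MonoidHom.mem_ker, map_mul, map_inv, hβ₁]
    simp
  have hcop : (Nat.card A).Coprime (B ⊔ A).index := by
    obtain ⟨j, hj⟩ := IsPGroup.iff_card.mp hApg
    rw [hj]
    apply Nat.Coprime.pow_left
    rw [Nat.Prime.coprime_iff_not_dvd hp]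
    intro hdvd
    apply hV
    have h1 : (B ⊔ A).index ∣ (V.comap π₁).index := Subgroup.index_dvd_of_le hcomap_le
    rw [Subgroup.index_comap_of_surjective V hπ₁surj] at h1
    exact hdvd.trans h1
  obtain ⟨C, hC⟩ := Cfsg.Agent.Lib.Helper29_Gaschutz.exists_complement A B hBA hcop
  -- every element of `E` is `a * c`
  have hdecomp : ∀ e : E, ∃ a ∈ A, ∃ c ∈ C, a * c = e := by
    intro e
    have he : e ∈ A ⊔ C := by rw [hC.sup_eq_top]; trivial
    exact Subgroup.mem_sup_of_normal_left.mp he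
  have hCsurj : ∀ g : G, ∃ c ∈ C, π₁ c = g := by
    intro g
    obtain ⟨e, rfl⟩ := hπ₁surj g
    obtain ⟨a, ha, c, hc, rfl⟩ := hdecomp e
    refine ⟨c, hc, ?_⟩
    rw [map_mul, MonoidHom.mem_ker.mp ha, one_mul]
  have hCinj : ∀ c ∈ C, π₁ c = 1 → c = 1 := by
    intro c hc h1
    have : c ∈ A ⊓ C := ⟨MonoidHom.mem_ker.mpr h1, hc⟩
    rwa [hC.disjoint.eq_bot, Subgroup.mem_bot] at this
  -- Step 3: `C` projects onto `W`
  have hCW : C.map π₂ = ⊤ := by
    apply frattini_nongenerating
    rw [eq_top_iff]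
    intro w _
    obtain ⟨v, rfl⟩ := hf w
    obtain ⟨a, ha, c, hc, hac⟩ := hdecomp (β v)
    have h1 : f v = π₂ a * π₂ c := by rw [← hβ₂, ← hac, map_mul]
    rw [h1]
    refine Subgroup.mul_mem _ (Subgroup.mem_sup_right ?_) (Subgroup.mem_sup_left ⟨c, hc, rfl⟩)
    obtain ⟨va, hva, hfa⟩ := hAmem a ha
    rw [hfa]
    exact hfr ⟨va, Subgroup.mem_subgroupOf.mpr hva, rfl⟩
  -- Step 4: elements of `C` over `K` project trivially
  have hstep4 : ∀ g ∈ K, ∀ c ∈ C, π₁ c = g → π₂ c = 1 := by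
    intro g hg
    rw [hK] at hg
    unfold pResidual at hg
    induction hg using Subgroup.closure_induction with
    | mem g hg =>
      intro c hc hcg
      have hg' : (orderOf g).Coprime p := hg
      have h1 : c ^ orderOf g = 1 := by
        apply hCinj _ (C.pow_mem hc _)
        rw [map_pow, hcg, pow_orderOf_eq_one]
      have h2 : (π₂ c) ^ orderOf g = 1 := by rw [← map_pow, h1, map_one]
      obtain ⟨k, hk⟩ := hW (π₂ c)
      have h3 : orderOf (π₂ c) ∣ 1 := by
        rw [← Nat.Coprime.gcd_eq_one (Nat.Coprime.pow_right k hg')]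
        exact Nat.dvd_gcd (orderOf_dvd_of_pow_eq_one h2) (orderOf_dvd_of_pow_eq_one hk)
      exact orderOf_eq_one_iff.mp (Nat.dvd_one.mp h3)
    | one =>
      intro c hc hc1
      rw [hCinj c hc hc1, map_one]
    | mul g₁ g₂ _ _ ih₁ ih₂ =>
      intro c hc hcg
      obtain ⟨c₁, hc₁, hcg₁⟩ := hCsurj g₁
      have h2 : π₁ (c₁⁻¹ * c) = g₂ := by rw [map_mul, map_inv, hcg₁, hcg]; group
      have h3 := ih₁ c₁ hc₁ hcg₁
      have h4 := ih₂ (c₁⁻¹ * c) (C.mul_mem (C.inv_mem hc₁) hc) h2
      have h5 : c = c₁ * (c₁⁻¹ * c) := by group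
      rw [h5, map_mul, h3, h4, one_mul]
    | inv g _ ih =>
      intro c hc hcg
      have h2 : π₁ c⁻¹ = g := by rw [map_inv, hcg, inv_inv]
      have h3 := ih c⁻¹ (C.inv_mem hc) h2
      rw [map_inv, inv_eq_one] at h3
      exact h3
  -- Step 5
  intro x hx
  rw [MonoidHom.mem_ker]
  have hxW : f x ∈ C.map π₂ := by rw [hCW]; trivial
  obtain ⟨c, hc, hcx⟩ := hxW
  obtain ⟨v, hv2, hv1⟩ := mem_fib.mp c.2
  have h1 : f v = f x := by rw [← hv2, ← hπ₂_apply, hcx]
  have h2 : x⁻¹ * v ∈ f.ker := by rw [MonoidHom.mem_ker, map_mul, map_inv, h1, inv_mul_cancel]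
  have h3 : ((x⁻¹ * v : V) : G) ∈ K := Subgroup.mem_subgroupOf.mp (hker h2)
  have hxK : (x : G) ∈ K := Subgroup.mem_subgroupOf.mp hx
  have hvK : (v : G) ∈ K := by
    have h4 : (v : G) = (x : G) * ((x⁻¹ * v : V) : G) := by simp
    rw [h4]; exact K.mul_mem hxK h3
  have hgK : π₁ c ∈ K := by
    rw [hπ₁_apply]
    have h4 : (c : G × W).1 = (v : G) * ((v : G)⁻¹ * (c : G × W).1) := by group
    rw [h4]; exact K.mul_mem hvK hv1
  rw [← hcx]
  exact hstep4 _ hgK c hc rfl

end Core

open scoped commutatorElement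

section Tate

variable {G : Type*} [Group G] [Finite G] {p : ℕ} [Fact p.Prime]

/-- If `X ≤ [X, X] L` with `H / L` a `p`-group, then `X ≤ L`. -/
theorem le_of_le_commutator_sup {H : Type*} [Group H] [Finite H] (X L : Subgroup H) [L.Normal]
    (hL : IsPGroup p (H ⧸ L)) (h : X ≤ ⁅X, X⁆ ⊔ L) : X ≤ L := by
  set q := QuotientGroup.mk' L with hq
  set Y := X.map q with hYdef
  have hLq : L.map q = ⊥ := by
    rw [Subgroup.map_eq_bot_iff, hq, QuotientGroup.ker_mk']
  have hY : Y ≤ ⁅Y, Y⁆ := by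
    have h1 : X.map q ≤ (⁅X, X⁆ ⊔ L).map q := Subgroup.map_mono h
    rw [Subgroup.map_sup, Subgroup.map_commutator, hLq, sup_bot_eq] at h1
    exact h1
  have hnil : Group.IsNilpotent (H ⧸ L) := hL.isNilpotent
  have hsolv : Group.IsSolvable (H ⧸ L) := inferInstance
  have hYbot : Y = ⊥ := by
    by_contra hne
    exact absurd hY (not_le_of_gt (Group.IsSolvable.commutator_lt_of_ne_bot hne))
  intro x hx
  have h2 : q x ∈ Y := ⟨x, hx, rfl⟩
  rw [hYbot, Subgroup.mem_bot] at h2
  exact (QuotientGroup.eq_one_iff x).mp h2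

/-- **Tate's theorem**: if `V` has index prime to `p` and `V ∩ O^p(G) ≤ V' O^p(V)`, then
`V ∩ O^p(G) = O^p(V)`. -/
theorem tate (V : Subgroup G) (hV : ¬ p ∣ V.index)
    (h : V ⊓ pResidual p G ≤ ⁅V, V⁆ ⊔ (pResidual p V).map V.subtype) :
    V ⊓ pResidual p G ≤ (pResidual p V).map V.subtype := by
  have hKn : (pResidual p G).Normal := pResidual_normal
  have hLn : (pResidual p V).Normal := pResidual_normal
  set K := pResidual p G with hK
  set X : Subgroup V := K.subgroupOf V with hXdef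
  set L : Subgroup V := pResidual p V with hLdef
  have hX : X ≤ commutator V ⊔ L := by
    intro x hx
    have hx' : (x : G) ∈ V ⊓ K := ⟨x.2, Subgroup.mem_subgroupOf.mp hx⟩
    have h1 := h hx'
    rw [← Subgroup.map_subtype_commutator, ← Subgroup.map_sup] at h1
    obtain ⟨y, hy, hyx⟩ := h1
    have h2 : y = x := Subtype.ext hyx
    rwa [← h2]
  have hLX : L ≤ X := by
    rw [hLdef]
    unfold pResidual
    rw [Subgroup.closure_le]
    intro v hv
    have hv' : (orderOf v).Coprime p := hv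
    apply Subgroup.mem_subgroupOf.mpr
    apply mem_pResidual_of_coprime
    rw [Subgroup.orderOf_coe]
    exact hv'
  have hXn : X.Normal := inferInstance
  set M : Subgroup V := ⁅X, X⁆ ⊔ L with hM
  have hMn : M.Normal := inferInstance
  have hMX : M ≤ X := sup_le (Subgroup.commutator_le_left X X) hLX
  have hLM : L ≤ M := le_sup_right
  have hW : IsPGroup p (V ⧸ M) := by
    intro w
    obtain ⟨v, rfl⟩ := QuotientGroup.mk_surjective w
    refine ⟨(orderOf v).factorization p, ?_⟩
    rw [← QuotientGroup.mk_pow, QuotientGroup.eq_one_iff]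
    exact hLM (pow_ordProj_mem_pResidual v)
  have key : X ≤ M := by
    have h1 := core V hV (QuotientGroup.mk' M) (QuotientGroup.mk'_surjective M) hW
      (by rw [QuotientGroup.ker_mk']; exact hMX)
      (by
        intro x y hx hy
        have hx' : x ∈ X := Subgroup.mem_subgroupOf.mpr hx
        have hy' : y ∈ X := Subgroup.mem_subgroupOf.mpr hy
        have h2 : ⁅x, y⁆ ∈ M := Subgroup.mem_sup_left (Subgroup.commutator_mem_commutator hx' hy')
        have h3 : (QuotientGroup.mk' M) ⁅x, y⁆ = 1 := (QuotientGroup.eq_one_iff _).mpr h2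
        rw [map_commutatorElement, commutatorElement_eq_one_iff_mul_comm] at h3
        exact h3)
      (by
        have h1 : X.map (QuotientGroup.mk' M) ≤ (commutator V ⊔ L).map (QuotientGroup.mk' M) :=
          Subgroup.map_mono hX
        have hLq : L.map (QuotientGroup.mk' M) = ⊥ := by
          rw [Subgroup.map_eq_bot_iff, QuotientGroup.ker_mk']
          exact hLM
        rw [Subgroup.map_sup, hLq, sup_bot_eq] at h1
        refine h1.trans ?_
        have h2 : (commutator V).map (QuotientGroup.mk' M) ≤ commutator (V ⧸ M) := by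
          rw [commutator_def, commutator_def, Subgroup.map_commutator]
          exact Subgroup.commutator_mono le_top le_top
        exact h2.trans (Cfsg.Agent.Lib.Helper1_Frattini.commutator_le_frattini_of_isPGroup hW))
    rwa [QuotientGroup.ker_mk'] at h1
  have hXL : X ≤ L := le_of_le_commutator_sup X L isPGroup_quotient_pResidual key
  rintro g ⟨hgV, hgK⟩
  exact ⟨⟨g, hgV⟩, hXL (Subgroup.mem_subgroupOf.mpr hgK), rfl⟩

end Tate

end Cfsg.Agent.Lib.Helper54_Tate
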