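import Cfsg.Agent.Lib.Helper54_HallWielandt
import Cfsg.Agent.Lib.Helper54_Tate

/-!
# Wielandt-Yoshida refinement of the Hall-Wielandt theorem (helper54)

The proofs of `Helper54_HallWielandt` with the Engel hypothesis replaced by an abstract hypothesis
on the last iterated commutator, which covers the Wielandt-Yoshida condition
"`[x, z; p-1] ∈ W₀` implies `[x, z; p-1] ∈ Φ(W₀)` for maximal subgroups `W₀` of `W`"
when the target group has exponent `p`.
-/

set_option autoImplicit false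

namespace Cfsg.Agent.Lib.Helper54_HallWielandt

open scoped Classical

section CoreGen

variable {G : Type*} [Group G] [Finite G] {p : ℕ} [Fact p.Prime]

/-- The contribution of one orbit of `U = ⟨u⟩W` (other than the trivial coset) is trivial. -/
theorem orbit_ptr_eq_one_gen (P : Sylow p G) (W N : Subgroup G) (hWP : W ≤ (P : Subgroup G))
    (hfix : ∀ g : G, (∀ w ∈ W, g⁻¹ * w * g ∈ N) → g ∈ N)
    {A : Type*} [CommGroup A]
    (hE : ∀ u ∈ (P : Subgroup G), ∀ z ∈ W, ∀ M : Subgroup G, M ≤ Subgroup.zpowers u ⊔ W → u ∈ M →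
      z ∉ M → (∀ y ∈ Subgroup.zpowers u ⊔ W, ∀ m ∈ M, y * m * y⁻¹ ∈ M) →
      (∀ z' ∈ Subgroup.zpowers u ⊔ W, z' ∉ M → ∀ y ∈ Subgroup.zpowers u ⊔ W,
        ∃ i < p, ∃ m ∈ M, y = z' ^ i * m) →
      ∀ ρ : G → A, (∀ a, ∀ b ∈ M, ρ (a * b) = ρ a * ρ b) →
        ρ ((fun y : G => y⁻¹ * z⁻¹ * y * z)^[p - 1] u) = 1)
    (π : N →* A)
    (u : G) (hu : u ∈ (P : Subgroup G)) (huG : u ∈ commutator G) (hu1 : u ≠ 1)
    (hM : ∀ t : G, ∀ ht : t ∈ N, t ∈ commutator G → (∃ k, t ^ p ^ k = 1) →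
      orderOf t < orderOf u → π ⟨t, ht⟩ = 1)
    (ω : G ⧸ N) (hω : ω ≠ ((1 : G) : G ⧸ N))
    (O : Finset (G ⧸ N)) (hO : ∀ x, x ∈ O ↔ ∃ y ∈ Subgroup.zpowers u ⊔ W, x = y • ω) :
    ptr π O u = 1 := by
  have hp : p.Prime := Fact.out
  set U := Subgroup.zpowers u ⊔ W with hUdef
  have huU : u ∈ U := Subgroup.mem_sup_left (Subgroup.mem_zpowers u)
  have hWU : W ≤ U := le_sup_right
  have hUP : U ≤ (P : Subgroup G) := sup_le (by rw [Subgroup.zpowers_le]; exact hu) hWP
  have hUpg : IsPGroup p U := P.2.to_le hUP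
  obtain ⟨k0, hk0⟩ : ∃ k, u ^ p ^ k = 1 := by
    obtain ⟨k, hk⟩ := P.2 ⟨u, hu⟩
    exact ⟨k, by simpa using congrArg Subtype.val hk⟩
  have hcomm : (commutator G).Normal := inferInstance
  -- order facts
  have hpdvd : p ∣ orderOf u := by
    have h1 : orderOf u ∣ p ^ k0 := orderOf_dvd_of_pow_eq_one hk0
    obtain ⟨i, -, hi⟩ := (Nat.dvd_prime_pow hp).mp h1
    have hi0 : i ≠ 0 := by
      intro h0
      rw [h0, pow_zero, orderOf_eq_one_iff] at hi
      exact hu1 hi
    rw [hi]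
    exact dvd_pow_self p hi0
  have hup_lt : orderOf (u ^ p) < orderOf u := by
    rw [orderOf_pow' u hp.ne_zero, Nat.gcd_eq_right hpdvd]
    exact Nat.div_lt_self (orderOf_pos u) hp.one_lt
  -- the stabilizer of `ω` in `U`
  set g := (sec ω : G) with hg
  have hgω : ((g : G) : G ⧸ N) = ω := sec_spec ω
  set K : Subgroup G := U ⊓ MulAction.stabilizer G ω with hK
  have hKU : K ≤ U := inf_le_left
  have hKne : K ≠ U := by
    intro h
    apply hω
    have hWfix : ∀ w ∈ W, g⁻¹ * w * g ∈ N := by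
      intro w hw
      have hwK : w ∈ K := by rw [h]; exact hWU hw
      have hstab : w • ω = ω := MulAction.mem_stabilizer_iff.mp hwK.2
      rw [← hgω] at hstab
      have h1 : ((w * g : G) : G ⧸ N) = ((g : G) : G ⧸ N) := hstab
      have h2 := QuotientGroup.eq.mp h1.symm
      simpa [mul_assoc] using h2
    have hgN : g ∈ N := hfix g hWfix
    rw [← hgω]
    exact QuotientGroup.eq.mpr (by simpa using N.inv_mem hgN)
  obtain ⟨M, hKM, hMU, hMne, hMnorm, hMz⟩ := exists_maximal_over U K hUpg hKU hKne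
  have hstabM : ∀ y ∈ U, ∀ x ∈ U, x • (y • ω) = y • ω → x ∈ M := by
    intro y hy x hx hfix'
    have h1 : (y⁻¹ * x * y) • ω = ω := by
      rw [mul_smul, mul_smul, hfix', ← mul_smul, inv_mul_cancel, one_smul]
    have h2 : y⁻¹ * x * y ∈ K :=
      ⟨U.mul_mem (U.mul_mem (U.inv_mem hy) hx) hy, MulAction.mem_stabilizer_iff.mpr h1⟩
    have h3 := hMnorm y hy _ (hKM h2)
    have h4 : y * (y⁻¹ * x * y) * y⁻¹ = x := by group
    rwa [h4] at h3
  have hOinv : ∀ y ∈ U, ∀ x ∈ O, y • x ∈ O := by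
    intro y hy x hx
    obtain ⟨y', hy', rfl⟩ := (hO x).mp hx
    exact (hO _).mpr ⟨y * y', U.mul_mem hy hy', (mul_smul _ _ _).symm⟩
  by_cases huM : u ∈ M
  swap
  · -- `u` has no fixed point on the orbit
    apply ptr_eq_one π u O (hOinv u huU)
    intro ω' hω' hm
    obtain ⟨y, hy, rfl⟩ := (hO ω').mp hω'
    set r := Function.minimalPeriod (fun x : G ⧸ N => u • x) (y • ω) with hr
    have hrdvd : r ∣ orderOf u :=
      MulAction.pow_smul_eq_iff_minimalPeriod_dvd.mp (by rw [pow_orderOf_eq_one, one_smul])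
    have hr1 : r ≠ 1 := by
      intro h1
      apply huM
      apply hstabM y hy u huU
      exact Function.minimalPeriod_eq_one_iff_isFixedPt.mp h1
    have hr0 : r ≠ 0 := by
      intro h0
      rw [h0] at hrdvd
      exact (orderOf_pos u).ne' (zero_dvd_iff.mp hrdvd)
    apply hM
    · exact conj'_mem (Subgroup.pow_mem _ huG r) _
    · refine ⟨k0, ?_⟩
      rw [conj'_pow, ← pow_mul, mul_comm, pow_mul, hk0, one_pow]
      group
    · rw [orderOf_conj', orderOf_pow' u hr0, Nat.gcd_eq_right hrdvd]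
      exact Nat.div_lt_self (orderOf_pos u) (by omega)
  · -- `u ∈ M`
    have hWM : ¬ W ≤ M := by
      intro h
      apply hMne
      apply le_antisymm hMU
      rw [hUdef]
      exact sup_le (by rw [Subgroup.zpowers_le]; exact huM) h
    obtain ⟨z, hzW, hzM⟩ := SetLike.not_le_iff_exists.mp hWM
    have hzU : z ∈ U := hWU hzW
    obtain ⟨hcov, hdvd⟩ := hMz z hzU hzM
    set O₀ : Finset (G ⧸ N) := O.filter (fun x => ∃ m ∈ M, x = m • ω) with hO₀
    have hO₀mem : ∀ x, x ∈ O₀ ↔ ∃ m ∈ M, x = m • ω := by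
      intro x
      rw [hO₀, Finset.mem_filter]
      constructor
      · exact fun h => h.2
      · rintro ⟨m, hm, rfl⟩
        exact ⟨(hO _).mpr ⟨m, hMU hm, rfl⟩, m, hm, rfl⟩
    have hO₀inv : ∀ m ∈ M, ∀ x ∈ O₀, m • x ∈ O₀ := by
      intro m hm x hx
      obtain ⟨m', hm', rfl⟩ := (hO₀mem x).mp hx
      exact (hO₀mem _).mpr ⟨m * m', M.mul_mem hm hm', (mul_smul _ _ _).symm⟩
    have hsep : ∀ i j : ℕ, i < j → j < p → ∀ m ∈ M, ∀ m' ∈ M,
        z ^ i • m • ω ≠ z ^ j • m' • ω := by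
      intro i j hij hjp m hm m' hm' heq
      have hx : (m⁻¹ * (z ^ i)⁻¹ * z ^ j * m') • ω = ω := by
        have h1 : (z ^ j * m') • ω = (z ^ i * m) • ω := by
          rw [mul_smul, mul_smul]; exact heq.symm
        have h2 : m⁻¹ * (z ^ i)⁻¹ * z ^ j * m' = (m⁻¹ * (z ^ i)⁻¹) * (z ^ j * m') := by group
        rw [h2, mul_smul, h1, ← mul_smul]
        have h3 : m⁻¹ * (z ^ i)⁻¹ * (z ^ i * m) = 1 := by group
        rw [h3, one_smul]
      have hxU : m⁻¹ * (z ^ i)⁻¹ * z ^ j * m' ∈ U :=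
        U.mul_mem (U.mul_mem (U.mul_mem (U.inv_mem (hMU hm)) (U.inv_mem (U.pow_mem hzU i)))
          (U.pow_mem hzU j)) (hMU hm')
      have hxM : m⁻¹ * (z ^ i)⁻¹ * z ^ j * m' ∈ M :=
        hKM ⟨hxU, MulAction.mem_stabilizer_iff.mpr hx⟩
      have hzz : z ^ (j - i) ∈ M := by
        have h1 : z ^ (j - i) = m * (m⁻¹ * (z ^ i)⁻¹ * z ^ j * m') * m'⁻¹ := by
          have h2 : z ^ j = z ^ i * z ^ (j - i) := by
            rw [← pow_add]; congr 1; omega
          rw [h2]; group
        rw [h1]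
        exact M.mul_mem (M.mul_mem hm hxM) (M.inv_mem hm')
      have h5 := hdvd _ hzz
      have h6 : p ≤ j - i := Nat.le_of_dvd (by omega) h5
      omega
    have hdecomp : O = (Finset.range p).biUnion (fun i => O₀.image (fun x => z ^ i • x)) := by
      ext x
      rw [Finset.mem_biUnion, hO]
      constructor
      · rintro ⟨y, hy, rfl⟩
        obtain ⟨i, hi, m, hm, rfl⟩ := hcov y hy
        exact ⟨i, Finset.mem_range.mpr hi, Finset.mem_image.mpr
          ⟨m • ω, (hO₀mem _).mpr ⟨m, hm, rfl⟩, (mul_smul _ _ _).symm⟩⟩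
      · rintro ⟨i, -, hx⟩
        obtain ⟨x', hx', rfl⟩ := Finset.mem_image.mp hx
        obtain ⟨m, hm, rfl⟩ := (hO₀mem _).mp hx'
        exact ⟨z ^ i * m, U.mul_mem (U.pow_mem hzU i) (hMU hm), (mul_smul _ _ _).symm⟩
    have hdisj : Set.PairwiseDisjoint (↑(Finset.range p) : Set ℕ)
        (fun i => O₀.image (fun x => z ^ i • x)) := by
      intro i hi j hj hij
      have hi' : i < p := Finset.mem_range.mp hi
      have hj' : j < p := Finset.mem_range.mp hj
      rw [Function.onFun, Finset.disjoint_left]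
      intro x hxi hxj
      obtain ⟨a, ha, hax⟩ := Finset.mem_image.mp hxi
      obtain ⟨b, hb, hbx⟩ := Finset.mem_image.mp hxj
      obtain ⟨m, hm, rfl⟩ := (hO₀mem _).mp ha
      obtain ⟨m', hm', rfl⟩ := (hO₀mem _).mp hb
      have heq : z ^ i • m • ω = z ^ j • m' • ω := by rw [hax, hbx]
      rcases lt_or_gt_of_ne hij with h | h
      · exact hsep i j h hj' m hm m' hm' heq
      · exact hsep j i h hi' m' hm' m hm heq.symm
    -- the conjugates
    set c : ℕ → G := fun k => (fun y : G => y⁻¹ * z⁻¹ * y * z)^[k] u with hc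
    have hcsucc : ∀ k, c (k + 1) = (c k)⁻¹ * z⁻¹ * c k * z := by
      intro k
      simp only [hc]
      rw [Function.iterate_succ_apply']
    have hconjM : ∀ j, ∀ m ∈ M, (z ^ j)⁻¹ * m * z ^ j ∈ M := by
      intro j m hm
      have := hMnorm (z ^ j)⁻¹ (U.inv_mem (U.pow_mem hzU j)) m hm
      simpa using this
    have hcM : ∀ k, c k ∈ M := by
      intro k
      induction k with
      | zero => exact huM
      | succ k ih =>
        rw [hcsucc]
        have h1 := hconjM 1 _ ih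
        rw [pow_one] at h1
        have h2 : (c k)⁻¹ * z⁻¹ * c k * z = (c k)⁻¹ * (z⁻¹ * c k * z) := by group
        rw [h2]
        exact M.mul_mem (M.inv_mem ih) h1
    have hρmul : ∀ a, ∀ b ∈ M, ptr π O₀ (a * b) = ptr π O₀ a * ptr π O₀ b :=
      fun a b hb => ptr_mul π a b (hO₀inv b hb)
    have hρone : ptr π O₀ 1 = 1 := by
      have h1 := hρmul 1 1 M.one_mem
      rw [mul_one] at h1
      exact (mul_eq_left.mp h1.symm)
    have hρinv : ∀ b ∈ M, ptr π O₀ b⁻¹ = (ptr π O₀ b)⁻¹ := by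
      intro b hb
      have h1 := hρmul b⁻¹ b hb
      rw [inv_mul_cancel, hρone] at h1
      exact eq_inv_of_mul_eq_one_left h1.symm
    have hρpow : ∀ b ∈ M, ∀ n : ℕ, ptr π O₀ (b ^ n) = (ptr π O₀ b) ^ n := by
      intro b hb n
      induction n with
      | zero => rw [pow_zero, pow_zero, hρone]
      | succ n ih => rw [pow_succ, pow_succ, hρmul _ b hb, ih]
    set d : ℕ → ℕ → A := fun k j => ptr π O₀ ((z ^ j)⁻¹ * c k * z ^ j) with hd
    have hd_rec : ∀ k j, d (k + 1) j = (d k j)⁻¹ * d k (j + 1) := by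
      intro k j
      have e : (z ^ j)⁻¹ * c (k + 1) * z ^ j =
          ((z ^ j)⁻¹ * c k * z ^ j)⁻¹ * ((z ^ (j + 1))⁻¹ * c k * z ^ (j + 1)) := by
        rw [hcsucc, pow_succ]; group
      simp only [hd]
      rw [e, hρmul _ _ (hconjM (j + 1) _ (hcM k)), hρinv _ (hconjM j _ (hcM k))]
    have hd_pow : ∀ j, d 0 j ^ p = 1 := by
      intro j
      have hxM : (z ^ j)⁻¹ * u * z ^ j ∈ M := hconjM j u huM
      have h0 : d 0 j = ptr π O₀ ((z ^ j)⁻¹ * u * z ^ j) := rfl
      rw [h0, ← hρpow _ hxM, conj'_pow]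
      set t' := (z ^ j)⁻¹ * u ^ p * z ^ j with ht'
      have ht'M : t' ∈ M := by
        rw [ht', ← conj'_pow]; exact M.pow_mem hxM p
      have ht'G : t' ∈ commutator G := conj'_mem (Subgroup.pow_mem _ huG p) _
      have ht'ord : orderOf t' = orderOf (u ^ p) := orderOf_conj' _ _
      apply ptr_eq_one π t' O₀ (hO₀inv t' ht'M)
      intro ω' _ hm
      apply hM
      · exact conj'_mem (Subgroup.pow_mem _ ht'G _) _
      · refine ⟨k0, ?_⟩
        rw [conj'_pow, ← pow_mul, mul_comm, pow_mul]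
        have : t' ^ p ^ k0 = 1 := by
          rw [ht', conj'_pow, ← pow_mul, mul_comm, pow_mul, hk0, one_pow]; group
        rw [this, one_pow]; group
      · rw [orderOf_conj']
        calc orderOf (t' ^ _) ≤ orderOf t' := Nat.le_of_dvd (orderOf_pos _) (orderOf_pow_dvd _)
          _ = orderOf (u ^ p) := ht'ord
          _ < orderOf u := hup_lt
    have hd_E : d (p - 1) 0 = 1 := by
      have h0 : d (p - 1) 0 = ptr π O₀ ((z ^ 0)⁻¹ * c (p - 1) * z ^ 0) := rfl
      rw [h0]
      simp only [pow_zero, inv_one, one_mul, mul_one]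
      exact hE u hu z hzW M hMU huM hzM hMnorm (fun z' hz' hz'M => (hMz z' hz' hz'M).1)
        (ptr π O₀) hρmul
    have hfinal := prod_range_eq_one_of_diff p hp d hd_rec hd_pow hd_E
    rw [hdecomp]
    unfold ptr
    rw [Finset.prod_biUnion hdisj]
    rw [← hfinal]
    apply Finset.prod_congr rfl
    intro i _
    have h1 : u = z ^ i * ((z ^ i)⁻¹ * u * z ^ i) * (z ^ i)⁻¹ := by group
    have h2 := ptr_conj π (S := O₀) (z ^ i) ((z ^ i)⁻¹ * u * z ^ i)
      (hO₀inv _ (hconjM i u huM))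
    rw [← h1] at h2
    exact h2

end CoreGen


section MainGen

variable {G : Type*} [Group G] [Finite G] {p : ℕ} [Fact p.Prime]

/-- Abstract form of the Hall-Wielandt theorem: `π` kills `P ∩ G'`. -/
theorem kills_focal_aux_gen (P : Sylow p G) (W N : Subgroup G) (hWP : W ≤ (P : Subgroup G))
    (hPN : (P : Subgroup G) ≤ N)
    (hfix : ∀ g : G, (∀ w ∈ W, g⁻¹ * w * g ∈ N) → g ∈ N)
    {A : Type*} [CommGroup A]
    (hE : ∀ u ∈ (P : Subgroup G), ∀ z ∈ W, ∀ M : Subgroup G, M ≤ Subgroup.zpowers u ⊔ W → u ∈ M →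
      z ∉ M → (∀ y ∈ Subgroup.zpowers u ⊔ W, ∀ m ∈ M, y * m * y⁻¹ ∈ M) →
      (∀ z' ∈ Subgroup.zpowers u ⊔ W, z' ∉ M → ∀ y ∈ Subgroup.zpowers u ⊔ W,
        ∃ i < p, ∃ m ∈ M, y = z' ^ i * m) →
      ∀ ρ : G → A, (∀ a, ∀ b ∈ M, ρ (a * b) = ρ a * ρ b) →
        ρ ((fun y : G => y⁻¹ * z⁻¹ * y * z)^[p - 1] u) = 1)
    (π : N →* A) :
    ∀ n : ℕ, ∀ u : G, ∀ hu : u ∈ (P : Subgroup G), u ∈ commutator G → orderOf u = n →
      π ⟨u, hPN hu⟩ = 1 := by
  intro n
  induction n using Nat.strong_induction_on with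
  | _ n ih =>
    intro u hu huG hn
    have hcomm : (commutator G).Normal := inferInstance
    by_cases hu1 : u = 1
    · subst hu1
      exact map_one π
    have hM : ∀ t : G, ∀ ht : t ∈ N, t ∈ commutator G → (∃ k, t ^ p ^ k = 1) →
        orderOf t < orderOf u → π ⟨t, ht⟩ = 1 := by
      rintro t ht htG ⟨k, hk⟩ hlt
      obtain ⟨c, hcN, hc⟩ := exists_conj_le_sylow P N hPN (Subgroup.zpowers t)
        (by rw [Subgroup.zpowers_le]; exact ht) (isPGroup_zpowers_of_pow hk)
      have htP : c * t * c⁻¹ ∈ (P : Subgroup G) := hc t (Subgroup.mem_zpowers t)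
      have hord : orderOf (c * t * c⁻¹) = orderOf t := by
        have := orderOf_conj' c⁻¹ t
        rwa [inv_inv] at this
      have h1 := ih (orderOf t) (hn ▸ hlt) (c * t * c⁻¹) htP (hcomm.conj_mem t htG c) hord
      have h2 : (⟨c * t * c⁻¹, hPN htP⟩ : N) = ⟨c, hcN⟩ * ⟨t, ht⟩ * ⟨c, hcN⟩⁻¹ := rfl
      rw [h2, map_mul, map_mul, map_inv, mul_comm (π ⟨c, hcN⟩), mul_assoc, mul_inv_cancel,
        mul_one] at h1
      exact h1
    have : Fintype (G ⧸ N) := Fintype.ofFinite _
    let τ : G →* A := MonoidHom.mk' (ptr π (Finset.univ : Finset (G ⧸ N)))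
      (fun a b => ptr_mul π a b (fun _ _ => Finset.mem_univ _))
    have hτ : ptr π (Finset.univ : Finset (G ⧸ N)) u = 1 := by
      have h1 := Abelianization.commutator_subset_ker τ huG
      exact MonoidHom.mem_ker.mp h1
    set U := Subgroup.zpowers u ⊔ W with hUdef
    have huU : u ∈ U := Subgroup.mem_sup_left (Subgroup.mem_zpowers u)
    have hUN : U ≤ N := (sup_le (by rw [Subgroup.zpowers_le]; exact hu) hWP).trans hPN
    have hclaim : ∀ S : Finset (G ⧸ N), (∀ y ∈ U, ∀ x ∈ S, y • x ∈ S) →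
        ((1 : G) : G ⧸ N) ∉ S → ptr π S u = 1 := by
      intro S
      induction S using Finset.strongInduction with
      | H S ihS =>
        intro hinv h0
        by_cases hne : S = ∅
        · subst hne; exact ptr_empty π u
        obtain ⟨ω, hω⟩ := Finset.nonempty_iff_ne_empty.mpr hne
        set O : Finset (G ⧸ N) := S.filter (fun x => ∃ y ∈ U, x = y • ω) with hOdef
        have hOmem : ∀ x, x ∈ O ↔ ∃ y ∈ U, x = y • ω := by
          intro x
          rw [hOdef, Finset.mem_filter]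
          constructor
          · exact fun h => h.2
          · rintro ⟨y, hy, rfl⟩
            exact ⟨hinv y hy ω hω, y, hy, rfl⟩
        have hω0 : ω ≠ ((1 : G) : G ⧸ N) := fun h => h0 (h ▸ hω)
        have hO1 : ptr π O u = 1 :=
          orbit_ptr_eq_one_gen P W N hWP hfix hE π u hu huG hu1 hM ω hω0 O hOmem
        have hOS : O ⊆ S := Finset.filter_subset _ _
        have hωO : ω ∈ O := (hOmem ω).mpr ⟨1, U.one_mem, (one_smul _ _).symm⟩
        have hrest_inv : ∀ y ∈ U, ∀ x ∈ S \ O, y • x ∈ S \ O := by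
          intro y hy x hx
          obtain ⟨hxS, hxO⟩ := Finset.mem_sdiff.mp hx
          refine Finset.mem_sdiff.mpr ⟨hinv y hy x hxS, ?_⟩
          intro hyx
          obtain ⟨y', hy', hyy'⟩ := (hOmem _).mp hyx
          apply hxO
          refine (hOmem x).mpr ⟨y⁻¹ * y', U.mul_mem (U.inv_mem hy) hy', ?_⟩
          rw [mul_smul, ← hyy', ← mul_smul, inv_mul_cancel, one_smul]
        have hlt : S \ O ⊂ S := by
          refine Finset.ssubset_iff_subset_ne.mpr ⟨Finset.sdiff_subset, ?_⟩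
          intro heq
          have : ω ∈ S \ O := by rw [heq]; exact hω
          exact (Finset.mem_sdiff.mp this).2 hωO
        have hrest := ihS (S \ O) hlt hrest_inv (fun h => h0 (Finset.mem_sdiff.mp h).1)
        rw [← Finset.union_sdiff_of_subset hOS, ptr_union π Finset.disjoint_sdiff, hO1, hrest,
          mul_one]
    set ω₀ : G ⧸ N := ((1 : G) : G ⧸ N) with hω₀
    have hfix0 : ∀ y ∈ U, y • ω₀ = ω₀ := by
      intro y hy
      show ((y * 1 : G) : G ⧸ N) = ((1 : G) : G ⧸ N)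
      rw [mul_one]
      exact QuotientGroup.eq.mpr (by simpa using N.inv_mem (hUN hy))
    have h1 : ptr π (Finset.univ : Finset (G ⧸ N)) u =
        ptr π {ω₀} u * ptr π (Finset.univ \ {ω₀}) u := by
      rw [← ptr_union π Finset.disjoint_sdiff]
      congr 1
      simp
    have h2 : ptr π (Finset.univ \ {ω₀}) u = 1 := by
      apply hclaim
      · intro y hy x hx
        rw [Finset.mem_sdiff, Finset.mem_singleton] at hx ⊢
        refine ⟨Finset.mem_univ _, ?_⟩
        intro hyx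
        apply hx.2
        have : x = y⁻¹ • (y • x) := by rw [← mul_smul, inv_mul_cancel, one_smul]
        rw [this, hyx]
        exact hfix0 y⁻¹ (U.inv_mem hy)
      · simp
    have h3 : ptr π {ω₀} u = π ⟨u, hPN hu⟩ := by
      unfold ptr
      rw [Finset.prod_singleton]
      have hs : (sec ω₀ : G) ∈ N := by
        have h4 := QuotientGroup.eq.mp (sec_spec ω₀)
        have h5 := N.inv_mem h4
        simpa using h5
      have h6 : coc u ω₀ = (⟨sec ω₀, hs⟩ : N)⁻¹ * ⟨u, hPN hu⟩ * ⟨sec ω₀, hs⟩ := by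
        apply Subtype.ext
        simp only [coc, Subgroup.coe_mul, Subgroup.coe_inv]
        rw [hfix0 u huU]
      rw [h6, map_mul, map_mul, map_inv, mul_comm (π ⟨sec ω₀, hs⟩)⁻¹, mul_assoc, inv_mul_cancel,
        mul_one]
    rw [h1, h2, h3, mul_one] at hτ
    exact hτ

/-- **Hall-Wielandt**: every homomorphism from `N_G(W)` to a commutative group kills `P ∩ G'`. -/
theorem kills_focal_gen (P : Sylow p G) (W : Subgroup G)
    (hW : Cfsg.IsWeaklyClosed W (P : Subgroup G))
    {A : Type*} [CommGroup A]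
    (hE : ∀ u ∈ (P : Subgroup G), ∀ z ∈ W, ∀ M : Subgroup G, M ≤ Subgroup.zpowers u ⊔ W → u ∈ M →
      z ∉ M → (∀ y ∈ Subgroup.zpowers u ⊔ W, ∀ m ∈ M, y * m * y⁻¹ ∈ M) →
      (∀ z' ∈ Subgroup.zpowers u ⊔ W, z' ∉ M → ∀ y ∈ Subgroup.zpowers u ⊔ W,
        ∃ i < p, ∃ m ∈ M, y = z' ^ i * m) →
      ∀ ρ : G → A, (∀ a, ∀ b ∈ M, ρ (a * b) = ρ a * ρ b) →
        ρ ((fun y : G => y⁻¹ * z⁻¹ * y * z)^[p - 1] u) = 1)
    (π : Subgroup.normalizer (W : Set G) →* A)
    (u : G) (hu : u ∈ (P : Subgroup G)) (huG : u ∈ commutator G) :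
    ∃ huN : u ∈ Subgroup.normalizer (W : Set G), π ⟨u, huN⟩ = 1 := by
  obtain ⟨hWP, hwc⟩ := hW
  have hPN : (P : Subgroup G) ≤ Subgroup.normalizer (W : Set G) := by
    intro g hg
    apply mem_normalizer_of_map_conj_eq
    apply hwc
    rintro _ ⟨w, hw, rfl⟩
    simp only [MulEquiv.coe_toMonoidHom, MulAut.conj_apply]
    exact Subgroup.mul_mem _ (Subgroup.mul_mem _ hg (hWP hw)) (Subgroup.inv_mem _ hg)
  have hfix : ∀ g : G, (∀ w ∈ W, g⁻¹ * w * g ∈ Subgroup.normalizer (W : Set G)) →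
      g ∈ Subgroup.normalizer (W : Set G) := by
    intro g hg
    set R : Subgroup G := W.map (MulAut.conj g⁻¹).toMonoidHom with hR
    have hRN : R ≤ Subgroup.normalizer (W : Set G) := by
      rintro _ ⟨w, hw, rfl⟩
      simp only [MulEquiv.coe_toMonoidHom, MulAut.conj_apply, inv_inv]
      exact hg w hw
    have hWpg : IsPGroup p W := P.2.to_le hWP
    have hRpg : IsPGroup p R := hWpg.map _
    obtain ⟨c, hcN, hc⟩ := exists_conj_le_sylow P _ hPN R hRN hRpg
    have h1 : W.map (MulAut.conj (c * g⁻¹)).toMonoidHom ≤ (P : Subgroup G) := by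
      rintro _ ⟨w, hw, rfl⟩
      simp only [MulEquiv.coe_toMonoidHom, MulAut.conj_apply]
      have h2 : g⁻¹ * w * g ∈ R := ⟨w, hw, by simp⟩
      have h3 := hc _ h2
      have h4 : c * g⁻¹ * w * (c * g⁻¹)⁻¹ = c * (g⁻¹ * w * g) * c⁻¹ := by group
      rw [h4]; exact h3
    have h5 := mem_normalizer_of_map_conj_eq (hwc _ h1)
    have h6 : g⁻¹ ∈ Subgroup.normalizer (W : Set G) := by
      have h7 : g⁻¹ = c⁻¹ * (c * g⁻¹) := by group
      rw [h7]
      exact Subgroup.mul_mem _ (Subgroup.inv_mem _ hcN) h5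
    have h8 := Subgroup.inv_mem _ h6
    rwa [inv_inv] at h8
  exact ⟨hPN hu, kills_focal_aux_gen P W _ hWP hPN hfix hE π (orderOf u) u hu huG rfl⟩

end MainGen


section Yoshida

variable {G : Type*} [Group G] [Finite G] {p : ℕ} [Fact p.Prime]

/-- The Wielandt-Yoshida hypothesis implies the abstract hypothesis for targets of exponent `p`. -/
theorem hyp_of_yoshida (P : Sylow p G) (W : Subgroup G)
    (hW : Cfsg.IsWeaklyClosed W (P : Subgroup G))
    (hY : ∀ x ∈ (P : Subgroup G), ∀ z ∈ W, ∀ W₀ : Subgroup ↥W, IsCoatom W₀ →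
      (fun y : G => y⁻¹ * z⁻¹ * y * z)^[p - 1] x ∈ W₀.map W.subtype →
      (fun y : G => y⁻¹ * z⁻¹ * y * z)^[p - 1] x ∈
        ((frattini ↥W₀).map W₀.subtype).map W.subtype)
    {A : Type*} [CommGroup A] (hA : ∀ a : A, a ^ p = 1) :
    ∀ u ∈ (P : Subgroup G), ∀ z ∈ W, ∀ M : Subgroup G, M ≤ Subgroup.zpowers u ⊔ W → u ∈ M →
      z ∉ M → (∀ y ∈ Subgroup.zpowers u ⊔ W, ∀ m ∈ M, y * m * y⁻¹ ∈ M) →
      (∀ z' ∈ Subgroup.zpowers u ⊔ W, z' ∉ M → ∀ y ∈ Subgroup.zpowers u ⊔ W,
        ∃ i < p, ∃ m ∈ M, y = z' ^ i * m) →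
      ∀ ρ : G → A, (∀ a, ∀ b ∈ M, ρ (a * b) = ρ a * ρ b) →
        ρ ((fun y : G => y⁻¹ * z⁻¹ * y * z)^[p - 1] u) = 1 := by
  intro u hu z hzW M hMU huM hzM hMnorm hcov ρ hρ
  have hp : p.Prime := Fact.out
  obtain ⟨hWP, hwc⟩ := hW
  set U := Subgroup.zpowers u ⊔ W with hUdef
  have hWU : W ≤ U := le_sup_right
  have hzU : z ∈ U := hWU hzW
  have hUP : U ≤ (P : Subgroup G) := sup_le (by rw [Subgroup.zpowers_le]; exact hu) hWP
  have hPN : (P : Subgroup G) ≤ Subgroup.normalizer (W : Set G) := by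
    intro g hg
    apply mem_normalizer_of_map_conj_eq
    apply hwc
    rintro _ ⟨w, hw, rfl⟩
    simp only [MulEquiv.coe_toMonoidHom, MulAut.conj_apply]
    exact Subgroup.mul_mem _ (Subgroup.mul_mem _ hg (hWP hw)) (Subgroup.inv_mem _ hg)
  set c : ℕ → G := fun k => (fun y : G => y⁻¹ * z⁻¹ * y * z)^[k] u with hc
  have hcsucc : ∀ k, c (k + 1) = (c k)⁻¹ * z⁻¹ * c k * z := by
    intro k
    simp only [hc]
    rw [Function.iterate_succ_apply']
  have hcM : ∀ k, c k ∈ M := by
    intro k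
    induction k with
    | zero => exact huM
    | succ k ih =>
      rw [hcsucc]
      have h1 := hMnorm z⁻¹ (U.inv_mem hzU) _ ih
      rw [inv_inv] at h1
      have h2 : (c k)⁻¹ * z⁻¹ * c k * z = (c k)⁻¹ * (z⁻¹ * c k * z) := by group
      rw [h2]
      exact M.mul_mem (M.inv_mem ih) h1
  have hcW : ∀ k, c (k + 1) ∈ W := by
    intro k
    rw [hcsucc]
    have hck : (c k)⁻¹ ∈ Subgroup.normalizer (W : Set G) :=
      Subgroup.inv_mem _ (hPN (hUP (hMU (hcM k))))
    have h1 := (Subgroup.mem_normalizer_iff.mp hck z⁻¹).mp (W.inv_mem hzW)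
    rw [inv_inv] at h1
    exact W.mul_mem h1 hzW
  have hp1 : p - 1 = (p - 2) + 1 := by have := hp.two_le; omega
  have hcpW : c (p - 1) ∈ W := by rw [hp1]; exact hcW _
  have hcpM : c (p - 1) ∈ M := hcM _
  -- the maximal subgroup `W₀ = W ∩ M` of `W`
  set W₀ : Subgroup ↥W := (M ⊓ W).subgroupOf W with hW₀
  have hW₀mem : ∀ w : ↥W, w ∈ W₀ ↔ (w : G) ∈ M := by
    intro w
    rw [hW₀, Subgroup.mem_subgroupOf, Subgroup.mem_inf]
    exact ⟨fun h => h.1, fun h => ⟨h, w.2⟩⟩
  have hcoatom : IsCoatom W₀ := by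
    constructor
    · intro htop
      apply hzM
      have : (⟨z, hzW⟩ : ↥W) ∈ W₀ := by rw [htop]; trivial
      exact (hW₀mem _).mp this
    · intro T hT
      obtain ⟨t, htT, htW₀⟩ := SetLike.exists_of_lt hT
      have htM : (t : G) ∉ M := fun h => htW₀ ((hW₀mem t).mpr h)
      rw [eq_top_iff]
      intro w _
      obtain ⟨i, -, m, hm, hwm⟩ := hcov (t : G) (hWU t.2) htM (w : G) (hWU w.2)
      have hmW : m ∈ W := by
        have h1 : m = ((t : G) ^ i)⁻¹ * (w : G) := by rw [hwm]; group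
        rw [h1]
        exact W.mul_mem (W.inv_mem (W.pow_mem t.2 i)) w.2
      have hmT : (⟨m, hmW⟩ : ↥W) ∈ T := hT.le ((hW₀mem _).mpr hm)
      have h2 : w = t ^ i * ⟨m, hmW⟩ := by
        apply Subtype.ext
        simpa using hwm
      rw [h2]
      exact T.mul_mem (T.pow_mem htT i) hmT
  have h1 : c (p - 1) ∈ W₀.map W.subtype :=
    ⟨⟨c (p - 1), hcpW⟩, (hW₀mem _).mpr hcpM, rfl⟩
  obtain ⟨f', ⟨f, hf, rfl⟩, hfc⟩ := hY u hu z hzW W₀ hcoatom h1
  -- the restriction of `ρ` to `W₀`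
  let ρ' : ↥W₀ →* A := MonoidHom.mk' (fun w => ρ ((w : ↥W) : G))
    (fun a b => hρ _ _ ((hW₀mem _).mp b.2))
  have hker : frattini ↥W₀ ≤ ρ'.ker := by
    apply Cfsg.Agent.Lib.Helper1_Frattini.frattini_le_of_elementary_quotient (p := p)
    · exact Abelianization.commutator_subset_ker ρ'
    · intro x
      rw [MonoidHom.mem_ker, map_pow]
      exact hA _
  have h2 : ρ' f = 1 := MonoidHom.mem_ker.mp (hker hf)
  have h3 : ρ (c (p - 1)) = ρ' f := by
    show ρ (c (p - 1)) = ρ ((f : ↥W) : G)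
    congr 1
    exact hfc.symm
  rw [h3, h2]

end Yoshida


section Tate2

variable {G : Type*} [Group G] [Finite G] {p : ℕ} [Fact p.Prime]

open Cfsg.Agent.Lib.Helper2_PResidual Cfsg.Agent.Lib.Helper54_Tate
open scoped commutatorElement
open Cfsg

/-- Tate's theorem with the hypothesis on elementary abelian quotients: if the image of
`V ∩ O^p(G)` in every `p`-quotient of `V` lies in the Frattini subgroup, then
`V ∩ O^p(G) = O^p(V)`. -/
theorem tate' (V : Subgroup G) (hV : ¬ p ∣ V.index)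
    (h : ∀ (M : Subgroup V) [M.Normal], IsPGroup p (V ⧸ M) →
      ((pResidual p G).subgroupOf V).map (QuotientGroup.mk' M) ≤ frattini (V ⧸ M)) :
    V ⊓ pResidual p G ≤ (pResidual p V).map V.subtype := by
  have hKn : (pResidual p G).Normal := pResidual_normal
  have hLn : (pResidual p V).Normal := pResidual_normal
  set K := pResidual p G with hK
  set X : Subgroup V := K.subgroupOf V with hXdef
  set L : Subgroup V := pResidual p V with hLdef
  have hLX : L ≤ X := by
    rw [hLdef]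
    unfold pResidual
    rw [Subgroup.closure_le]
    intro v hv
    have hv' : (orderOf v).Coprime p := hv
    apply Subgroup.mem_subgroupOf.mpr
    apply mem_pResidual_of_coprime
    rw [Subgroup.orderOf_coe]
    exact hv'
  have hXn : X.Normal := inferInstance
  set M : Subgroup V := ⁅X, X⁆ ⊔ L with hM
  have hMn : M.Normal := inferInstance
  have hMX : M ≤ X := sup_le (Subgroup.commutator_le_left X X) hLX
  have hLM : L ≤ M := le_sup_right
  have hW : IsPGroup p (V ⧸ M) := by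
    intro w
    obtain ⟨v, rfl⟩ := QuotientGroup.mk_surjective w
    refine ⟨(orderOf v).factorization p, ?_⟩
    rw [← QuotientGroup.mk_pow, QuotientGroup.eq_one_iff]
    exact hLM (pow_ordProj_mem_pResidual v)
  have key : X ≤ M := by
    have h1 := core V hV (QuotientGroup.mk' M) (QuotientGroup.mk'_surjective M) hW
      (by rw [QuotientGroup.ker_mk']; exact hMX)
      (by
        intro x y hx hy
        have hx' : x ∈ X := Subgroup.mem_subgroupOf.mpr hx
        have hy' : y ∈ X := Subgroup.mem_subgroupOf.mpr hy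
        have h2 : ⁅x, y⁆ ∈ M := Subgroup.mem_sup_left (Subgroup.commutator_mem_commutator hx' hy')
        have h3 : (QuotientGroup.mk' M) ⁅x, y⁆ = 1 := (QuotientGroup.eq_one_iff _).mpr h2
        rw [map_commutatorElement, commutatorElement_eq_one_iff_mul_comm] at h3
        exact h3)
      (h M hW)
    rwa [QuotientGroup.ker_mk'] at h1
  have hXL : X ≤ L := le_of_le_commutator_sup X L isPGroup_quotient_pResidual key
  rintro g ⟨hgV, hgK⟩
  exact ⟨⟨g, hgV⟩, hXL (Subgroup.mem_subgroupOf.mpr hgK), rfl⟩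

end Tate2


section Final

variable {G : Type*} [Group G] [Finite G] {p : ℕ} [Fact p.Prime]

open Cfsg.Agent.Lib.Helper2_PResidual Cfsg.Agent.Lib.Helper54_Tate
open scoped commutatorElement
open Cfsg

omit [Finite G] [Fact p.Prime] in
theorem map_pResidual_le (V : Subgroup G) :
    (pResidual p V).map V.subtype ≤ pResidual p G := by
  rw [Subgroup.map_le_iff_le_comap]
  have h0 : pResidual p V = Subgroup.closure {g : V | Nat.Coprime (orderOf g) p} := rfl
  rw [h0, Subgroup.closure_le]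
  intro v hv
  have hv' : (orderOf v).Coprime p := hv
  apply mem_pResidual_of_coprime
  show (orderOf (v : G)).Coprime p
  rw [Subgroup.orderOf_coe]
  exact hv'

/-- If `N ≥ P` satisfies `N ∩ O^p(G) ≤ O^p(N)` then `P ∩ G' ≤ N'`. -/
theorem focal_le_of_residual (P : Sylow p G) (N : Subgroup G) (hPN : (P : Subgroup G) ≤ N)
    (h : N ⊓ pResidual p G ≤ (pResidual p N).map N.subtype) :
    (P : Subgroup G) ⊓ commutator G ≤ ⁅N, N⁆ := by
  have hp : p.Prime := Fact.out
  have hKn : (pResidual p G).Normal := pResidual_normal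
  set K := pResidual p G with hK
  have hNK : N ⊔ K = ⊤ := by
    rw [eq_top_iff, ← sylow_sup_pResidual P]
    exact sup_le_sup_right hPN _
  have hG' : commutator G ≤ ⁅N, N⁆ ⊔ K := by
    rw [commutator_def, Subgroup.commutator_le]
    intro g₁ _ g₂ _
    have hg₁ : g₁ ∈ N ⊔ K := by rw [hNK]; trivial
    have hg₂ : g₂ ∈ N ⊔ K := by rw [hNK]; trivial
    obtain ⟨n₁, hn₁, k₁, hk₁, rfl⟩ := Subgroup.mem_sup_of_normal_right.mp hg₁
    obtain ⟨n₂, hn₂, k₂, hk₂, rfl⟩ := Subgroup.mem_sup_of_normal_right.mp hg₂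
    have e1 : (QuotientGroup.mk' K) (n₁ * k₁) = (QuotientGroup.mk' K) n₁ := by
      have : (QuotientGroup.mk' K) k₁ = 1 := (QuotientGroup.eq_one_iff k₁).mpr hk₁
      rw [map_mul, this, mul_one]
    have e2 : (QuotientGroup.mk' K) (n₂ * k₂) = (QuotientGroup.mk' K) n₂ := by
      have : (QuotientGroup.mk' K) k₂ = 1 := (QuotientGroup.eq_one_iff k₂).mpr hk₂
      rw [map_mul, this, mul_one]
    have e3 : (QuotientGroup.mk' K) ⁅n₁ * k₁, n₂ * k₂⁆ = (QuotientGroup.mk' K) ⁅n₁, n₂⁆ := by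
      rw [map_commutatorElement, map_commutatorElement, e1, e2]
    have e4 : (⁅n₁, n₂⁆)⁻¹ * ⁅n₁ * k₁, n₂ * k₂⁆ ∈ K := by
      rw [← QuotientGroup.eq_one_iff, ← QuotientGroup.mk'_apply, map_mul, map_inv, e3,
        inv_mul_cancel]
    have e5 : ⁅n₁ * k₁, n₂ * k₂⁆ = ⁅n₁, n₂⁆ * ((⁅n₁, n₂⁆)⁻¹ * ⁅n₁ * k₁, n₂ * k₂⁆) := by group
    rw [e5]
    exact Subgroup.mul_mem _ (Subgroup.mem_sup_left (Subgroup.commutator_mem_commutator hn₁ hn₂))
      (Subgroup.mem_sup_right e4)
  rintro u ⟨huP, huG⟩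
  obtain ⟨n', hn', k, hk, hnk⟩ := Subgroup.mem_sup_of_normal_right.mp (hG' huG)
  have hNN : ⁅N, N⁆ ≤ N := Subgroup.commutator_le_self N
  have hkN : k ∈ N := by
    have h1 : k = n'⁻¹ * u := by rw [← hnk]; group
    rw [h1]
    exact N.mul_mem (N.inv_mem (hNN hn')) (hPN huP)
  obtain ⟨l, hl, hlk⟩ := h ⟨hkN, hk⟩
  -- work in `N`
  have hn'c : (⟨n', hNN hn'⟩ : N) ∈ commutator N := by
    have h1 := hn'
    rw [← Subgroup.map_subtype_commutator] at h1
    obtain ⟨y, hy, hyn⟩ := h1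
    have : y = ⟨n', hNN hn'⟩ := Subtype.ext hyn
    rwa [← this]
  set m := ordCompl[p] (Nat.card N) with hm
  have hcard : p ^ (Nat.card N).factorization p * m = Nat.card N :=
    Nat.ordProj_mul_ordCompl_eq_self _ _
  have hcop : Nat.Coprime p m := Nat.coprime_ordCompl hp Nat.card_pos.ne'
  have hlm : (Abelianization.of l : Abelianization N) ^ m = 1 := by
    have h1 : pResidual p N ≤
        ((powMonoidHom m : Abelianization N →* Abelianization N).comp Abelianization.of).ker := by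
      have h0 : pResidual p N = Subgroup.closure {g : N | Nat.Coprime (orderOf g) p} := rfl
      rw [h0, Subgroup.closure_le]
      intro v hv
      have hv' : (orderOf v).Coprime p := hv
      have h2 : orderOf v ∣ p ^ (Nat.card N).factorization p * m := by
        rw [hcard]; exact orderOf_dvd_natCard v
      have h3 : orderOf v ∣ m := (Nat.Coprime.pow_right _ hv').dvd_of_dvd_mul_left h2
      rw [SetLike.mem_coe, MonoidHom.mem_ker, MonoidHom.comp_apply, powMonoidHom_apply, ← map_pow,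
        orderOf_dvd_iff_pow_eq_one.mp h3, map_one]
    have h4 := h1 hl
    rwa [MonoidHom.mem_ker, MonoidHom.comp_apply, powMonoidHom_apply] at h4
  have hul : (⟨u, hPN huP⟩ : N) = ⟨n', hNN hn'⟩ * l := by
    apply Subtype.ext
    show u = n' * (l : G)
    have : (l : G) = k := hlk
    rw [this, hnk]
  have hu_of : (Abelianization.of (⟨u, hPN huP⟩ : N) : Abelianization N) = Abelianization.of l := by
    rw [hul, map_mul]
    have : (Abelianization.of (⟨n', hNN hn'⟩ : N) : Abelianization N) = 1 := by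
      rw [← MonoidHom.mem_ker, Abelianization.ker_of]; exact hn'c
    rw [this, one_mul]
  obtain ⟨j, hj⟩ := P.2 ⟨u, huP⟩
  have huj : u ^ p ^ j = 1 := by simpa using congrArg Subtype.val hj
  have h5 : (Abelianization.of (⟨u, hPN huP⟩ : N) : Abelianization N) ^ p ^ j = 1 := by
    rw [← map_pow]
    have : (⟨u, hPN huP⟩ : N) ^ p ^ j = 1 := Subtype.ext (by simpa using huj)
    rw [this, map_one]
  have h6 : (Abelianization.of (⟨u, hPN huP⟩ : N) : Abelianization N) ^ m = 1 := by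
    rw [hu_of]; exact hlm
  have h7 : orderOf (Abelianization.of (⟨u, hPN huP⟩ : N) : Abelianization N) ∣ 1 := by
    rw [← Nat.Coprime.gcd_eq_one (Nat.Coprime.pow_left j hcop)]
    exact Nat.dvd_gcd (orderOf_dvd_of_pow_eq_one h5) (orderOf_dvd_of_pow_eq_one h6)
  have h8 : (Abelianization.of (⟨u, hPN huP⟩ : N) : Abelianization N) = 1 :=
    orderOf_eq_one_iff.mp (Nat.dvd_one.mp h7)
  have h9 : (⟨u, hPN huP⟩ : N) ∈ commutator N := by
    rw [← Abelianization.ker_of N, MonoidHom.mem_ker]; exact h8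
  rw [← Subgroup.map_subtype_commutator]
  exact ⟨⟨u, hPN huP⟩, h9, rfl⟩

/-- **Wielandt-Yoshida**: the focal equality under the condition on `[x, z; p-1]`. -/
theorem focal_eq_of_yoshida (P : Sylow p G) (W : Subgroup G)
    (hW : Cfsg.IsWeaklyClosed W (P : Subgroup G))
    (hY : ∀ x ∈ (P : Subgroup G), ∀ z ∈ W, ∀ W₀ : Subgroup ↥W, IsCoatom W₀ →
      (fun y : G => y⁻¹ * z⁻¹ * y * z)^[p - 1] x ∈ W₀.map W.subtype →
      (fun y : G => y⁻¹ * z⁻¹ * y * z)^[p - 1] x ∈
        ((frattini ↥W₀).map W₀.subtype).map W.subtype) :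
    (P : Subgroup G) ⊓ commutator G =
      (P : Subgroup G) ⊓ ⁅Subgroup.normalizer (W : Set G), Subgroup.normalizer (W : Set G)⁆ := by
  have hp : p.Prime := Fact.out
  set N : Subgroup G := Subgroup.normalizer (W : Set G) with hN
  have hPN : (P : Subgroup G) ≤ N := by
    obtain ⟨hWP, hwc⟩ := hW
    intro g hg
    apply mem_normalizer_of_map_conj_eq
    apply hwc
    rintro _ ⟨w, hw, rfl⟩
    simp only [MulEquiv.coe_toMonoidHom, MulAut.conj_apply]
    exact Subgroup.mul_mem _ (Subgroup.mul_mem _ hg (hWP hw)) (Subgroup.inv_mem _ hg)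
  have hidx : ¬ p ∣ N.index := by
    intro hdvd
    exact P.not_dvd_index (hdvd.trans (Subgroup.index_dvd_of_le hPN))
  have hKn : (pResidual p N).Normal := pResidual_normal
  have hfr : ∀ (M : Subgroup N) [M.Normal], IsPGroup p (N ⧸ M) →
      ((pResidual p G).subgroupOf N).map (QuotientGroup.mk' M) ≤ frattini (N ⧸ M) := by
    intro M _ hq
    rintro _ ⟨x, hx, rfl⟩
    have hxK : (x : G) ∈ pResidual p G := Subgroup.mem_subgroupOf.mp hx
    rw [Cfsg.Agent.Lib.Helper1_Frattini.mem_frattini_iff]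
    intro C hC
    have hCn : C.Normal := Cfsg.Agent.Lib.Helper1_Frattini.normal_of_isCoatom_of_isPGroup hq hC
    have hCi : C.index = p := Cfsg.Agent.Lib.Helper1_Frattini.index_of_isCoatom_of_isPGroup hq hC
    have hcard : Nat.card ((N ⧸ M) ⧸ C) = p := by rw [← Subgroup.index_eq_card, hCi]
    have hcyc : IsCyclic ((N ⧸ M) ⧸ C) := isCyclic_of_prime_card hcard
    let _ : CommGroup ((N ⧸ M) ⧸ C) := IsCyclic.commGroup
    have hA : ∀ a : (N ⧸ M) ⧸ C, a ^ p = 1 := by
      intro a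
      rw [← hcard]
      exact pow_card_eq_one'
    let π : N →* (N ⧸ M) ⧸ C := (QuotientGroup.mk' C).comp (QuotientGroup.mk' M)
    -- decompose `x`
    have htop := sylow_sup_pResidual (P.subtype hPN)
    have hx' : x ∈ ((P.subtype hPN : Sylow p N) : Subgroup N) ⊔ pResidual p N := by
      rw [htop]; trivial
    obtain ⟨a, ha, b, hb, hab⟩ := Subgroup.mem_sup_of_normal_right.mp hx'
    have haP : (a : G) ∈ (P : Subgroup G) := by
      have := ha
      rw [Sylow.coe_subtype] at this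
      exact Subgroup.mem_subgroupOf.mp this
    have hbK : (b : G) ∈ pResidual p G := map_pResidual_le N ⟨b, hb, rfl⟩
    have haK : (a : G) ∈ pResidual p G := by
      have h1 : (a : G) = (x : G) * (b : G)⁻¹ := by
        have := congrArg Subtype.val hab
        simp only [Subgroup.coe_mul] at this
        rw [← this]; group
      rw [h1]
      exact Subgroup.mul_mem _ hxK (Subgroup.inv_mem _ hbK)
    have haG : (a : G) ∈ commutator G :=
      inf_pResidual_le_commutator (P : Subgroup G) P.2 ⟨haP, haK⟩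
    obtain ⟨haN, hkill⟩ := kills_focal_gen P W hW (hyp_of_yoshida P W hW hY hA) π a haP haG
    have hπa : π a = 1 := hkill
    have hπb : π b = 1 := by
      have hker : pResidual p N ≤ π.ker := by
        apply pResidual_le_of_isPGroup_quotient
        intro q
        obtain ⟨v, rfl⟩ := QuotientGroup.mk_surjective q
        refine ⟨1, ?_⟩
        rw [pow_one, ← QuotientGroup.mk_pow, QuotientGroup.eq_one_iff, MonoidHom.mem_ker, map_pow]
        exact hA _
      exact MonoidHom.mem_ker.mp (hker hb)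
    have hπx : π x = 1 := by rw [← hab, map_mul, hπa, hπb, mul_one]
    exact (QuotientGroup.eq_one_iff _).mp hπx
  have htate := tate' N hidx hfr
  apply le_antisymm
  · exact le_inf inf_le_left (focal_le_of_residual P N hPN htate)
  · apply inf_le_inf_left
    rw [commutator_def]
    exact Subgroup.commutator_mono le_top le_top

end Final

end Cfsg.Agent.Lib.Helper54_HallWielandt
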