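import Cfsg.Agent.Lib.Helper54_HallWielandt
import Cfsg.Agent.Lib.Helper54_OrbitProd
import Cfsg.Agent.S2807

/-!
# Orbit evaluation of a cocycle transfer, after Hall-Wielandt-Yoshida (helper11)

`T` is a finite `p`-group acting on a finite set, `c : T → Ω → A` a cocycle with values in a commutative group of
exponent `p`.  If `T` has no quotient `C_p ≀ C_p`, then the product of `c u` over any invariant set without fixed
points of `T` is trivial, provided the cycle contributions `c (u ^ r) ω` (`p ∣ r`) are trivial.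
-/

set_option autoImplicit false

namespace Cfsg.Agent.Lib.Helper11_YoshidaOrbit

open Cfsg.Agent.Lib.Helper1_Frattini

section PGroup

theorem isCoatom_of_cover {T : Type*} [Group T] {p : ℕ} (M : Subgroup T) (hMne : M ≠ ⊤)
    (hcov : ∀ z, z ∉ M → ∀ y : T, ∃ i < p, ∃ m ∈ M, y = z ^ i * m) : IsCoatom M := by
  refine ⟨hMne, fun M' hlt => ?_⟩
  obtain ⟨z, hzM', hzM⟩ := SetLike.exists_of_lt hlt
  rw [eq_top_iff]
  intro y _
  obtain ⟨i, -, m, hm, rfl⟩ := hcov z hzM y
  exact M'.mul_mem (M'.pow_mem hzM' i) (hlt.le hm)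

/-- In a finite `p`-group without quotient `C_p ≀ C_p`, the norm of a character of exponent `p` of a maximal
subgroup is trivial. -/
theorem prod_conj_eq_one {T : Type*} [Group T] [Finite T] {p : ℕ} [hp : Fact p.Prime] (hT : IsPGroup p T)
    (hno : ¬ ∃ (W : Sylow p (Equiv.Perm (Fin (p ^ 2))))
      (f : T →* ↥(W : Subgroup (Equiv.Perm (Fin (p ^ 2))))), Function.Surjective f)
    {A : Type*} [CommGroup A] (hA : ∀ a : A, a ^ p = 1)
    (M : Subgroup T) (hMne : M ≠ ⊤) (hMnorm : ∀ y : T, ∀ m ∈ M, y * m * y⁻¹ ∈ M)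
    (hcov : ∀ z, z ∉ M → ∀ y : T, ∃ i < p, ∃ m ∈ M, y = z ^ i * m)
    (z : T) (_hz : z ∉ M) (u : T) (hu : u ∈ M) (ρ : T → A)
    (hρ : ∀ a, ∀ b ∈ M, ρ (a * b) = ρ a * ρ b) :
    ∏ j ∈ Finset.range p, ρ ((z ^ j)⁻¹ * u * z ^ j) = 1 := by
  have hcoatom : IsCoatom M := isCoatom_of_cover M hMne hcov
  set c : ℕ → T := fun k => (fun y : T => y⁻¹ * z⁻¹ * y * z)^[k] u with hc
  have hcsucc : ∀ k, c (k + 1) = (c k)⁻¹ * z⁻¹ * c k * z := by
    intro k
    simp only [hc]
    rw [Function.iterate_succ_apply']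
  have hconjM : ∀ j, ∀ m ∈ M, (z ^ j)⁻¹ * m * z ^ j ∈ M := by
    intro j m hm
    have := hMnorm (z ^ j)⁻¹ m hm
    simpa using this
  have hcM : ∀ k, c k ∈ M := by
    intro k
    induction k with
    | zero => exact hu
    | succ k ih =>
      rw [hcsucc]
      have h1 := hconjM 1 _ ih
      rw [pow_one] at h1
      have h2 : (c k)⁻¹ * z⁻¹ * c k * z = (c k)⁻¹ * (z⁻¹ * c k * z) := by group
      rw [h2]
      exact M.mul_mem (M.inv_mem ih) h1
  have hρone : ρ 1 = 1 := by
    have h1 := hρ 1 1 M.one_mem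
    rw [mul_one] at h1
    exact (mul_eq_left.mp h1.symm)
  have hρinv : ∀ b ∈ M, ρ b⁻¹ = (ρ b)⁻¹ := by
    intro b hb
    have h1 := hρ b⁻¹ b hb
    rw [inv_mul_cancel, hρone] at h1
    exact eq_inv_of_mul_eq_one_left h1.symm
  set d : ℕ → ℕ → A := fun k j => ρ ((z ^ j)⁻¹ * c k * z ^ j) with hd
  have hd_rec : ∀ k j, d (k + 1) j = (d k j)⁻¹ * d k (j + 1) := by
    intro k j
    have e : (z ^ j)⁻¹ * c (k + 1) * z ^ j =
        ((z ^ j)⁻¹ * c k * z ^ j)⁻¹ * ((z ^ (j + 1))⁻¹ * c k * z ^ (j + 1)) := by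
      rw [hcsucc, pow_succ]; group
    simp only [hd]
    rw [e, hρ _ _ (hconjM (j + 1) _ (hcM k)), hρinv _ (hconjM j _ (hcM k))]
  have hd_pow : ∀ j, d 0 j ^ p = 1 := fun j => hA _
  have hd_E : d (p - 1) 0 = 1 := by
    have h0 : d (p - 1) 0 = ρ ((z ^ 0)⁻¹ * c (p - 1) * z ^ 0) := rfl
    rw [h0]
    simp only [pow_zero, inv_one, one_mul, mul_one]
    let ρM : M →* A := MonoidHom.mk' (fun m => ρ (m : T)) (fun a b => hρ a b b.2)
    have hMp : IsPGroup p M := hT.to_subgroup M
    have hker : frattini M ≤ ρM.ker :=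
      frattini_le_of_elementary_quotient (p := p) ρM.ker (Abelianization.commutator_subset_ker ρM)
        (fun x => by rw [MonoidHom.mem_ker, map_pow]; exact hA _)
    by_cases hcF : (⟨c (p - 1), hcM _⟩ : M) ∈ frattini M
    · exact MonoidHom.mem_ker.1 (hker hcF)
    · exfalso
      apply hno
      rw [mem_frattini_iff] at hcF
      push Not at hcF
      obtain ⟨T', hT', hcT'⟩ := hcF
      have hcT : c (p - 1) ∉ T'.map M.subtype := by
        rintro ⟨t, ht, hteq⟩
        apply hcT'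
        have hte : t = ⟨c (p - 1), hcM _⟩ := Subtype.ext hteq
        rwa [← hte]
      have hidx : (T'.map M.subtype).index = p ^ 2 := by
        rw [Subgroup.index_map_subtype, index_of_isCoatom_of_isPGroup hMp hT',
          index_of_isCoatom_of_isPGroup hT hcoatom, pow_two]
      exact Cfsg.Agent.S2807.wreath_image hT _ hidx u z hcT
  exact Cfsg.Agent.Lib.Helper54_HallWielandt.prod_range_eq_one_of_diff p hp.out d hd_rec hd_pow hd_E

end PGroup

section Cocycle

variable {T : Type*} [Group T] {Ω : Type*} [MulAction T Ω] [DecidableEq Ω] {A : Type*} [CommGroup A]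
  (c : T → Ω → A)

/-- The partial transfer over the finite set `O`. -/
def ptr (O : Finset Ω) (t : T) : A := ∏ ω ∈ O, c t ω

omit [CommGroup A] in
theorem image_smul_eq {O : Finset Ω} {t : T} (hO : ∀ ω ∈ O, t • ω ∈ O) :
    O.image (fun ω => t • ω) = O := by
  apply Finset.eq_of_subset_of_card_le
  · intro x hx
    obtain ⟨ω, hω, rfl⟩ := Finset.mem_image.mp hx
    exact hO ω hω
  · rw [Finset.card_image_of_injective _ (MulAction.injective t)]

theorem prod_smul_eq {O : Finset Ω} {t : T} (hO : ∀ ω ∈ O, t • ω ∈ O) (f : Ω → A) :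
    ∏ ω ∈ O, f (t • ω) = ∏ ω ∈ O, f ω := by
  conv_rhs => rw [← image_smul_eq hO]
  rw [Finset.prod_image (fun x _ y _ h => MulAction.injective t h)]

variable {c} (hc : ∀ s t ω, c (s * t) ω = c s (t • ω) * c t ω)
include hc

theorem ptr_mul {O : Finset Ω} (t₁ t₂ : T) (hO : ∀ ω ∈ O, t₂ • ω ∈ O) :
    ptr c O (t₁ * t₂) = ptr c O t₁ * ptr c O t₂ := by
  unfold ptr
  simp only [hc, Finset.prod_mul_distrib]
  rw [prod_smul_eq hO (fun ω => c t₁ ω)]

omit [DecidableEq Ω] in
theorem c_one (ω : Ω) : c 1 ω = 1 := by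
  have h1 := hc 1 1 ω
  rw [mul_one, one_smul] at h1
  exact (mul_eq_left.mp h1.symm)

theorem ptr_conj {O : Finset Ω} (h t : T) (hO : ∀ ω ∈ O, t • ω ∈ O) :
    ptr c (O.image (fun ω => h • ω)) (h * t * h⁻¹) = ptr c O t := by
  unfold ptr
  rw [Finset.prod_image (fun x _ y _ hxy => MulAction.injective h hxy)]
  have key : ∀ ω, c (h * t * h⁻¹) (h • ω) = c h (t • ω) * c t ω * (c h ω)⁻¹ := by
    intro ω
    have h1 := hc (h * t * h⁻¹) h ω
    have h2 : h * t * h⁻¹ * h = h * t := by group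
    rw [h2, hc h t ω] at h1
    rw [h1]
    simp
  simp only [key, Finset.prod_mul_distrib, Finset.prod_inv_distrib]
  rw [prod_smul_eq hO (fun ω => c h ω)]
  rw [mul_comm (∏ ω ∈ O, c h ω), mul_assoc, mul_inv_cancel, mul_one]

omit [DecidableEq Ω] in
theorem tele (t : T) (ω : Ω) (k : ℕ) :
    c (t ^ k) ω = ∏ i ∈ Finset.range k, c t (t ^ i • ω) := by
  induction k with
  | zero => rw [pow_zero, c_one hc, Finset.range_zero, Finset.prod_empty]
  | succ k ih =>
    rw [Finset.prod_range_succ, ← ih, pow_succ', hc, mul_comm]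

end Cocycle

section Main

open Cfsg.Agent.Lib.Helper54_OrbitProd

/-- **Orbit evaluation.** -/
theorem prod_orbit_eq_one {T : Type*} [Group T] [Finite T] {p : ℕ} [hp : Fact p.Prime] (hT : IsPGroup p T)
    {Ω : Type*} [DecidableEq Ω] [MulAction T Ω] {A : Type*} [CommGroup A]
    (c : T → Ω → A) (hc : ∀ s t ω, c (s * t) ω = c s (t • ω) * c t ω)
    (hY : ∀ M : Subgroup T, M ≠ ⊤ → (∀ y : T, ∀ m ∈ M, y * m * y⁻¹ ∈ M) →
      (∀ z, z ∉ M → ∀ y : T, ∃ i < p, ∃ m ∈ M, y = z ^ i * m) →
      ∀ z, z ∉ M → ∀ u ∈ M, ∀ ρ : T → A, (∀ a, ∀ b ∈ M, ρ (a * b) = ρ a * ρ b) →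
        ∏ j ∈ Finset.range p, ρ ((z ^ j)⁻¹ * u * z ^ j) = 1)
    (u : T)
    (hfix : ∀ ω : Ω, ∀ r : ℕ, p ∣ r → u ^ r • ω = ω → c (u ^ r) ω = 1) :
    ∀ O : Finset Ω, (∀ t : T, ∀ ω ∈ O, t • ω ∈ O) → (∀ ω ∈ O, ∃ t : T, t • ω ≠ ω) →
      ∏ ω ∈ O, c u ω = 1 := by
  classical
  intro O
  induction O using Finset.strongInduction with
  | H O ih =>
    intro hinv hnofix
    rcases O.eq_empty_or_nonempty with rfl | ⟨ω, hω⟩
    · simp
    -- a maximal subgroup over the stabilizer
    set K : Subgroup T := MulAction.stabilizer T ω with hK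
    have hKne : K ≠ ⊤ := by
      intro htop
      obtain ⟨t, ht⟩ := hnofix ω hω
      apply ht
      have : t ∈ K := htop ▸ Subgroup.mem_top t
      exact MulAction.mem_stabilizer_iff.mp this
    have hUp : IsPGroup p ↥(⊤ : Subgroup T) := hT.to_subgroup ⊤
    obtain ⟨M, hKM, -, hMne, hMnorm', hMz'⟩ :=
      Cfsg.Agent.Lib.Helper54_HallWielandt.exists_maximal_over (⊤ : Subgroup T) K hUp le_top hKne
    have hMnorm : ∀ y : T, ∀ m ∈ M, y * m * y⁻¹ ∈ M := fun y m hm => hMnorm' y (Subgroup.mem_top y) m hm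
    have hcov : ∀ z, z ∉ M → ∀ y : T, ∃ i < p, ∃ m ∈ M, y = z ^ i * m :=
      fun z hz y => (hMz' z (Subgroup.mem_top z) hz).1 y (Subgroup.mem_top y)
    have hdvd : ∀ z, z ∉ M → ∀ i : ℕ, z ^ i ∈ M → p ∣ i :=
      fun z hz => (hMz' z (Subgroup.mem_top z) hz).2
    have hconjM : ∀ g : T, ∀ m ∈ M, g⁻¹ * m * g ∈ M := by
      intro g m hm
      have := hMnorm g⁻¹ m hm
      simpa using this
    -- the orbit of `ω`
    set O₁ := O.filter (fun y => y ∈ MulAction.orbit T ω) with hO₁
    have hO₁O : O₁ ⊆ O := Finset.filter_subset _ _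
    have hωO₁ : ω ∈ O₁ := by
      rw [hO₁, Finset.mem_filter]
      exact ⟨hω, MulAction.mem_orbit_self ω⟩
    have hO₁mem : ∀ x, x ∈ O₁ ↔ ∃ g : T, x = g • ω := by
      intro x
      rw [hO₁, Finset.mem_filter]
      constructor
      · rintro ⟨-, hx⟩
        obtain ⟨g, rfl⟩ := MulAction.mem_orbit_iff.mp hx
        exact ⟨g, rfl⟩
      · rintro ⟨g, rfl⟩
        refine ⟨?_, MulAction.mem_orbit ω g⟩
        exact hinv g ω hω
    have hO₁inv : ∀ t : T, ∀ x ∈ O₁, t • x ∈ O₁ := by
      intro t x hx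
      obtain ⟨g, rfl⟩ := (hO₁mem x).mp hx
      exact (hO₁mem _).mpr ⟨t * g, (mul_smul _ _ _).symm⟩
    -- stabilizers of points of the orbit lie in `M`
    have hstabM : ∀ g x : T, x • (g • ω) = g • ω → x ∈ M := by
      intro g x hx
      have h1 : (g⁻¹ * x * g) • ω = ω := by
        rw [mul_smul, mul_smul, hx, ← mul_smul, inv_mul_cancel, one_smul]
      have h2 : g⁻¹ * x * g ∈ M := hKM (MulAction.mem_stabilizer_iff.mpr h1)
      have h3 := hMnorm g _ h2
      have h4 : g * (g⁻¹ * x * g) * g⁻¹ = x := by group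
      rwa [h4] at h3
    have hprod₁ : ∏ y ∈ O₁, c u y = 1 := by
      by_cases huM : u ∈ M
      swap
      · -- `u` has no fixed point on the orbit
        have hmem : ∏ y ∈ O₁, c u y ∈ (⊥ : Subgroup A) := by
          apply prod_mem_of_iterate_orbits (⊥ : Subgroup A) (fun y => u • y) (MulAction.injective u)
            (fun y => c u y) O₁
          · intro y hy
            exact hO₁inv u y hy
          · intro y _
            have := MulAction.period_pos_of_orderOf_pos (orderOf_pos u) y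
            rwa [MulAction.period_eq_minimalPeriod] at this
          · intro y hy
            rw [Subgroup.mem_bot]
            obtain ⟨g, rfl⟩ := (hO₁mem y).mp hy
            set r := Function.minimalPeriod (fun x : Ω => u • x) (g • ω) with hr
            have hper : u ^ r • (g • ω) = g • ω :=
              MulAction.pow_smul_eq_iff_minimalPeriod_dvd.mpr dvd_rfl
            have h4 : ∏ j ∈ Finset.range r, c u ((fun x : Ω => u • x)^[j] (g • ω)) =
                ∏ j ∈ Finset.range r, c u (u ^ j • (g • ω)) :=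
              Finset.prod_congr rfl (fun j _ => by rw [smul_iterate])
            rw [h4, ← tele hc]
            apply hfix _ r _ hper
            exact hdvd u huM r (hstabM g _ hper)
        exact Subgroup.mem_bot.mp hmem
      · -- `u ∈ M`
        obtain ⟨z, hzM⟩ : ∃ z : T, z ∉ M := by
          by_contra hcon
          push Not at hcon
          exact hMne (eq_top_iff.mpr (fun x _ => hcon x))
        set O₀ : Finset Ω := O₁.filter (fun x => ∃ m ∈ M, x = m • ω) with hO₀
        have hO₀mem : ∀ x, x ∈ O₀ ↔ ∃ m ∈ M, x = m • ω := by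
          intro x
          rw [hO₀, Finset.mem_filter]
          constructor
          · exact fun h => h.2
          · rintro ⟨m, hm, rfl⟩
            exact ⟨(hO₁mem _).mpr ⟨m, rfl⟩, m, hm, rfl⟩
        have hO₀inv : ∀ m ∈ M, ∀ x ∈ O₀, m • x ∈ O₀ := by
          intro m hm x hx
          obtain ⟨m', hm', rfl⟩ := (hO₀mem x).mp hx
          exact (hO₀mem _).mpr ⟨m * m', M.mul_mem hm hm', (mul_smul _ _ _).symm⟩
        have hsep : ∀ i j : ℕ, i < j → j < p → ∀ m ∈ M, ∀ m' ∈ M,
            z ^ i • m • ω ≠ z ^ j • m' • ω := by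
          intro i j hij hjp m hm m' hm' heq
          have hx : (m⁻¹ * (z ^ i)⁻¹ * z ^ j * m') • ω = ω := by
            have h1 : (z ^ j * m') • ω = (z ^ i * m) • ω := by
              rw [mul_smul, mul_smul]; exact heq.symm
            have h2 : m⁻¹ * (z ^ i)⁻¹ * z ^ j * m' = (m⁻¹ * (z ^ i)⁻¹) * (z ^ j * m') := by group
            rw [h2, mul_smul, h1, ← mul_smul]
            have h3 : m⁻¹ * (z ^ i)⁻¹ * (z ^ i * m) = 1 := by group
            rw [h3, one_smul]
          have hxM : m⁻¹ * (z ^ i)⁻¹ * z ^ j * m' ∈ M :=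
            hKM (MulAction.mem_stabilizer_iff.mpr hx)
          have hzz : z ^ (j - i) ∈ M := by
            have h1 : z ^ (j - i) = m * (m⁻¹ * (z ^ i)⁻¹ * z ^ j * m') * m'⁻¹ := by
              have h2 : z ^ j = z ^ i * z ^ (j - i) := by
                rw [← pow_add]; congr 1; omega
              rw [h2]; group
            rw [h1]
            exact M.mul_mem (M.mul_mem hm hxM) (M.inv_mem hm')
          have h5 := hdvd z hzM _ hzz
          have h6 : p ≤ j - i := Nat.le_of_dvd (by omega) h5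
          omega
        have hdecomp : O₁ = (Finset.range p).biUnion (fun i => O₀.image (fun x => z ^ i • x)) := by
          ext x
          rw [Finset.mem_biUnion, hO₁mem]
          constructor
          · rintro ⟨y, rfl⟩
            obtain ⟨i, hi, m, hm, rfl⟩ := hcov z hzM y
            exact ⟨i, Finset.mem_range.mpr hi, Finset.mem_image.mpr
              ⟨m • ω, (hO₀mem _).mpr ⟨m, hm, rfl⟩, (mul_smul _ _ _).symm⟩⟩
          · rintro ⟨i, -, hx⟩
            obtain ⟨x', hx', rfl⟩ := Finset.mem_image.mp hx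
            obtain ⟨m, hm, rfl⟩ := (hO₀mem _).mp hx'
            exact ⟨z ^ i * m, (mul_smul _ _ _).symm⟩
        have hdisj : Set.PairwiseDisjoint (↑(Finset.range p) : Set ℕ)
            (fun i => O₀.image (fun x => z ^ i • x)) := by
          intro i hi j hj hij
          have hi' : i < p := Finset.mem_range.mp hi
          have hj' : j < p := Finset.mem_range.mp hj
          rw [Function.onFun, Finset.disjoint_left]
          intro x hxi hxj
          obtain ⟨a, ha, hax⟩ := Finset.mem_image.mp hxi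
          obtain ⟨b, hb, hbx⟩ := Finset.mem_image.mp hxj
          obtain ⟨m, hm, rfl⟩ := (hO₀mem _).mp ha
          obtain ⟨m', hm', rfl⟩ := (hO₀mem _).mp hb
          have heq : z ^ i • m • ω = z ^ j • m' • ω := by rw [hax, hbx]
          rcases lt_or_gt_of_ne hij with h | h
          · exact hsep i j h hj' m hm m' hm' heq
          · exact hsep j i h hi' m' hm' m hm heq.symm
        have hρmul : ∀ a, ∀ b ∈ M, ptr c O₀ (a * b) = ptr c O₀ a * ptr c O₀ b :=
          fun a b hb => ptr_mul hc a b (hO₀inv b hb)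
        have hfinal := hY M hMne hMnorm hcov z hzM u huM (ptr c O₀) hρmul
        rw [hdecomp, Finset.prod_biUnion hdisj, ← hfinal]
        apply Finset.prod_congr rfl
        intro i _
        have h1 : u = z ^ i * ((z ^ i)⁻¹ * u * z ^ i) * (z ^ i)⁻¹ := by group
        have h2 := ptr_conj hc (O := O₀) (z ^ i) ((z ^ i)⁻¹ * u * z ^ i)
          (hO₀inv _ (hconjM (z ^ i) u huM))
        rw [← h1] at h2
        exact h2
    -- the rest
    have hinv' : ∀ t : T, ∀ y ∈ O \ O₁, t • y ∈ O \ O₁ := by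
      intro t y hy
      rw [Finset.mem_sdiff] at hy ⊢
      refine ⟨hinv t y hy.1, fun hmem => hy.2 ?_⟩
      have h2 := hO₁inv t⁻¹ _ hmem
      rwa [inv_smul_smul] at h2
    have hss : O \ O₁ ⊂ O := Finset.sdiff_ssubset hO₁O ⟨ω, hωO₁⟩
    have h1 := ih (O \ O₁) hss hinv' (fun y hy => hnofix y (Finset.mem_sdiff.mp hy).1)
    rw [← Finset.prod_sdiff hO₁O, h1, hprod₁, mul_one]

end Main

end Cfsg.Agent.Lib.Helper11_YoshidaOrbit
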