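import Cfsg.Agent.Lib.Helper84_FusionRS

/-!
Fusion systems: Alperin-type induction (helper84). A saturated fusion system `F` over a finite
`p`-group `S` is contained in any fusion system `E` over `S` such that `Aut_F(R) ≤ Aut_E(R)` for every
fully normalized `R` (and in proving this inclusion for `R` one may assume that all maps of `F`
defined on strictly larger subgroups are already maps of `E`).
-/

set_option autoImplicit false

namespace Cfsg.Agent.Lib.Helper84_FusionAlperin

open Cfsg Cfsg.FusionSystem Cfsg.Agent.Lib.Helper85_Fusion Cfsg.Agent.Lib.Helper84_RelSylow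
  Cfsg.Agent.Lib.Helper84_FusionSat Cfsg.Agent.Lib.Helper84_FusionRS

variable {Ω : Type*} [Group Ω] {S : Subgroup Ω}

/-- Normalizers grow in a finite `p`-group `S` (stated inside the ambient group). -/
theorem exists_mem_normalizerIn_not_mem [Finite S] {p : ℕ} [Fact p.Prime] (hS : IsPGroup p S)
    {Q : Subgroup Ω} (hQS : Q < S) : ∃ x ∈ normalizerIn S Q, x ∉ Q := by
  have : Group.IsNilpotent S := hS.isNilpotent
  have hnc : NormalizerCondition S := Group.normalizerCondition_of_isNilpotent
  have hlt : Q.subgroupOf S < ⊤ := by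
    rw [lt_top_iff_ne_top, Ne, Subgroup.subgroupOf_eq_top]
    exact fun h => hQS.not_ge h
  obtain ⟨x, hx1, hx2⟩ := SetLike.exists_of_lt (hnc _ hlt)
  rw [← Subgroup.subgroupOf_normalizer_eq hQS.le, Subgroup.mem_subgroupOf] at hx1
  rw [Subgroup.mem_subgroupOf] at hx2
  exact ⟨x, ⟨x.2, hx1⟩, hx2⟩

theorem lt_normalizerIn [Finite S] {p : ℕ} [Fact p.Prime] (hS : IsPGroup p S)
    {Q : Subgroup Ω} (hQS : Q < S) : Q < normalizerIn S Q := by
  obtain ⟨x, hxN, hxQ⟩ := exists_mem_normalizerIn_not_mem hS hQS
  refine lt_of_le_of_ne (le_inf hQS.le Subgroup.le_normalizer) ?_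
  intro h
  apply hxQ
  rw [h]
  exact hxN

theorem card_lt_card_of_lt [Finite S] {P Q : Subgroup Ω} (hQS : Q ≤ S) (h : P < Q) :
    Nat.card P < Nat.card Q := by
  have : Finite Q := finite_of_le_S hQS
  refine lt_of_le_of_ne (Subgroup.card_le_of_le h.le) ?_
  intro he
  exact h.ne (Subgroup.eq_of_le_of_card_ge h.le he.ge)

theorem card_le_card_S [Finite S] {P : Subgroup Ω} (hPS : P ≤ S) : Nat.card P ≤ Nat.card S :=
  Subgroup.card_le_of_le hPS

theorem eq_S_of_card_eq [Finite S] {P : Subgroup Ω} (hPS : P ≤ S) (h : Nat.card P = Nat.card S) :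
    P = S :=
  Subgroup.eq_of_le_of_card_ge hPS h.ge

/-- The range of the restriction of `φ` to `Q ≤ N`. -/
theorem range_comp_inclusion {Q N : Subgroup Ω} (hQN : Q ≤ N) (φ : N →* Ω) :
    (φ.comp (Subgroup.inclusion hQN)).range = (Q.subgroupOf N).map φ := by
  ext y
  constructor
  · rintro ⟨x, rfl⟩
    exact ⟨Subgroup.inclusion hQN x, by rw [SetLike.mem_coe, Subgroup.mem_subgroupOf]; exact x.2, rfl⟩
  · rintro ⟨z, hz, rfl⟩
    rw [SetLike.mem_coe, Subgroup.mem_subgroupOf] at hz
    exact ⟨⟨z, hz⟩, rfl⟩

/-! ### Isomorphisms of the system -/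

theorem IsIso.refl (F : FusionSystem S) {P : Subgroup Ω} (hP : P ≤ S) : IsIso F (MulEquiv.refl P) :=
  mem_of_eq F (subtype_mem F hP) (fun _ => rfl)

theorem IsIso.trans {F : FusionSystem S} {P Q R : Subgroup Ω} {e₁ : P ≃* Q} {e₂ : Q ≃* R}
    (h₁ : IsIso F e₁) (h₂ : IsIso F e₂) : IsIso F (e₁.trans e₂) :=
  mem_of_eq F (F.comp_mem h₁ h₂ (fun x => (e₁ x).2)) (fun _ => rfl)

theorem isIso_iff_mem_autGroup (F : FusionSystem S) {R : Subgroup Ω} (hR : R ≤ S) (γ : MulAut R) :
    IsIso F γ ↔ γ ∈ F.autGroup R :=
  (mem_autGroup_iff F hR γ).symm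

theorem mem_of_isIso_isoOfRange (E : FusionSystem S) {P Q : Subgroup Ω} {φ : P →* Ω}
    (hinj : Function.Injective φ) (hr : φ.range = Q) (h : IsIso E (isoOfRange φ hinj hr)) :
    φ ∈ E.Hom P :=
  mem_of_eq E h (fun _ => rfl)

theorem isConj_of_isIso {F : FusionSystem S} {P Q : Subgroup Ω} {e : P ≃* Q} (h : IsIso F e) :
    F.IsConj P Q :=
  ⟨_, h, range_subtype_comp_equiv e⟩

theorem isFullyNormalized_S [Finite S] (F : FusionSystem S) : F.IsFullyNormalized S := by
  refine ⟨le_rfl, fun Q _ => ?_⟩
  have h1 : normalizerIn S S = S := inf_eq_left.mpr Subgroup.le_normalizer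
  rw [h1]
  exact card_le_card_S inf_le_left

theorem isIso_of_autGroup_le {F E : FusionSystem S} {P' R : Subgroup Ω} (hP'R : P' = R) (hR : R ≤ S)
    (hAut : F.autGroup R ≤ E.autGroup R) (e : P' ≃* R) (he : IsIso F e) : IsIso E e := by
  subst hP'R
  exact (isIso_iff_mem_autGroup E hR e).2 (hAut ((isIso_iff_mem_autGroup F hR e).1 he))

/-- **Alperin-type induction.** Let `F` be saturated over the finite `p`-group `S` and `E` any fusion
system over `S`. Suppose that for every fully normalized `R`, `Aut_F(R) ≤ Aut_E(R)` holds as soon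
as all maps of `F` defined on subgroups strictly containing `R` are maps of `E`. Then `F ≤ E`. -/
theorem alperin_induction [Finite S] {p : ℕ} [Fact p.Prime] (hS : IsPGroup p S) (F : FusionSystem S)
    (hF : F.IsSaturated p) (E : FusionSystem S)
    (h : ∀ R : Subgroup Ω, F.IsFullyNormalized R →
      (∀ (Q : Subgroup Ω) (φ : Q →* Ω), R < Q → φ ∈ F.Hom Q → φ ∈ E.Hom Q) →
      F.autGroup R ≤ E.autGroup R) : F ≤ E := by
  have main : ∀ n : ℕ, ∀ P : Subgroup Ω, Nat.card S - Nat.card P = n →
      ∀ φ : P →* Ω, φ ∈ F.Hom P → φ ∈ E.Hom P := by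
    intro n
    induction n using Nat.strong_induction_on with
    | _ n ih =>
      intro P hn φ hφ
      have hPS : P ≤ S := source_le F hφ
      -- maps on bigger subgroups are in E
      have hbig : ∀ (Q' : Subgroup Ω) (φ' : Q' →* Ω), Nat.card P < Nat.card Q' → φ' ∈ F.Hom Q' →
          φ' ∈ E.Hom Q' := by
        intro Q' φ' hcard hφ'
        have hQ'S : Q' ≤ S := source_le F hφ'
        have h1 := card_le_card_S hQ'S
        exact ih (Nat.card S - Nat.card Q') (by omega) Q' rfl φ' hφ'
      set eφ := isoOfRange φ (F.injective_of_mem hφ) rfl with heφ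
      have heφF : IsIso F eφ := isIso_isoOfRange F hφ rfl
      have hQS : φ.range ≤ S := range_le F hφ
      have hcardQ : Nat.card φ.range = Nat.card P := (Nat.card_congr eφ.toEquiv).symm
      obtain ⟨R, hPR, hRn⟩ := exists_isFullyNormalized_conj F hPS
      have hRS : R ≤ S := hRn.1
      have hcardR : Nat.card R = Nat.card P := (isConj_card_eq F hPR).symm
      have hRa : F.IsFullyAutomized p R := IsSaturated.isFullyAutomized hS hF hRn
      have hRr : F.IsReceptive R := IsSaturated.isReceptive_of_isFullyNormalized hS hF hRn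
      have hAut : F.autGroup R ≤ E.autGroup R := by
        apply h R hRn
        intro Q' φ' hlt hφ'
        exact hbig Q' φ' (hcardR ▸ card_lt_card_of_lt (source_le F hφ') hlt) hφ'
      -- an E-isomorphism from any conjugate of R of the same order onto R
      have hiso : ∀ P' : Subgroup Ω, F.IsConj P' R → ∃ e : P' ≃* R, IsIso F e ∧ IsIso E e := by
        intro P' hP'R
        have hP'S : P' ≤ S := isConj_le_left F hP'R
        have hcardP' : Nat.card P' = Nat.card P := (isConj_card_eq F hP'R).trans hcardR
        by_cases hEq : P' = S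
        · -- then R = S as well
          have hRS' : R = S := eq_S_of_card_eq hRS (by rw [hcardR, ← hcardP', hEq])
          obtain ⟨ψ, hψ, hψr⟩ := hP'R
          set e := isoOfRange ψ (F.injective_of_mem hψ) hψr with he
          have heF : IsIso F e := isIso_isoOfRange F hψ hψr
          exact ⟨e, heF, isIso_of_autGroup_le (hEq.trans hRS'.symm) hRS hAut e heF⟩
        · have hlt : P' < S := lt_of_le_of_ne hP'S hEq
          obtain ⟨α, hα, -, hαR⟩ := exists_normalizer_map hS F hRa hRr hP'R
          have hPN : P' ≤ normalizerIn S P' := le_inf hP'S Subgroup.le_normalizer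
          have hαE : α ∈ E.Hom (normalizerIn S P') := by
            apply hbig _ α _ hα
            rw [← hcardP']
            exact card_lt_card_of_lt inf_le_left (lt_normalizerIn hS hlt)
          have hr : (α.comp (Subgroup.inclusion hPN)).range = R := by
            rw [range_comp_inclusion, hαR]
          have h1 := restrict_mem F hPN hα
          have h2 := restrict_mem E hPN hαE
          refine ⟨isoOfRange _ (F.injective_of_mem h1) hr, isIso_isoOfRange F h1 hr, ?_⟩
          exact isIso_isoOfRange E h2 hr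
      obtain ⟨eα, heαF, heαE⟩ := hiso P hPR
      have hQR : F.IsConj φ.range R :=
        isConj_trans F (isConj_symm F (isConj_of_isIso heφF)) hPR
      obtain ⟨eβ, heβF, heβE⟩ := hiso φ.range hQR
      -- γ = eα⁻¹ eφ eβ ∈ Aut_F(R)
      have hγF : IsIso F (eα.symm.trans (eφ.trans eβ)) :=
        IsIso.trans (IsIso.symm heαF) (IsIso.trans heφF heβF)
      have hγE : IsIso E (eα.symm.trans (eφ.trans eβ)) :=
        (isIso_iff_mem_autGroup E hRS _).2 (hAut ((isIso_iff_mem_autGroup F hRS _).1 hγF))
      have hfinal : IsIso E ((eα.trans (eα.symm.trans (eφ.trans eβ))).trans eβ.symm) :=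
        IsIso.trans (IsIso.trans heαE hγE) (IsIso.symm heβE)
      have heq : (eα.trans (eα.symm.trans (eφ.trans eβ))).trans eβ.symm = eφ := by
        ext x
        simp
      rw [heq] at hfinal
      exact mem_of_isIso_isoOfRange E _ rfl hfinal
  intro P φ hφ
  exact main _ P rfl φ hφ

/-- **Weak Alperin theorem**: a saturated fusion system is generated by the automorphism groups of
its fully normalized subgroups. -/
theorem le_of_autGroup_le [Finite S] {p : ℕ} [Fact p.Prime] (hS : IsPGroup p S) (F : FusionSystem S)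
    (hF : F.IsSaturated p) (E : FusionSystem S)
    (h : ∀ R : Subgroup Ω, F.IsFullyNormalized R → F.autGroup R ≤ E.autGroup R) : F ≤ E :=
  alperin_induction hS F hF E (fun R hR _ => h R hR)

/-- Two fusion systems with the same maps are equal. -/
theorem fusionSystem_ext {F E : FusionSystem S} (h : ∀ P : Subgroup Ω, F.Hom P = E.Hom P) : F = E := by
  cases F
  cases E
  congr
  funext P
  exact h P

theorem fusionSystem_le_antisymm {F E : FusionSystem S} (h₁ : F ≤ E) (h₂ : E ≤ F) : F = E :=
  fusionSystem_ext (fun P => Set.Subset.antisymm (h₁ P) (h₂ P))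

/-- The inner fusion system is contained in every fusion system. -/
theorem innerFusionSystem_le (F : FusionSystem S) : innerFusionSystem S ≤ F := by
  rintro P φ ⟨hP, g, hg, hφ⟩
  exact mem_of_eq F (F.conj_mem hP hg) hφ

/-- **Frobenius-type criterion**: a saturated fusion system all of whose automorphism groups are
`p`-groups is the inner fusion system. -/
theorem eq_innerFusionSystem_of_isPGroup [Finite S] {p : ℕ} [Fact p.Prime] (hS : IsPGroup p S)
    (F : FusionSystem S) (hF : F.IsSaturated p)
    (h : ∀ P : Subgroup Ω, P ≤ S → IsPGroup p (F.autGroup P)) : F = innerFusionSystem S := by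
  apply fusionSystem_le_antisymm _ (innerFusionSystem_le F)
  apply le_of_autGroup_le hS F hF
  intro R hR
  have hRS : R ≤ S := hR.1
  have : Finite R := finite_of_le_S hRS
  have hsyl := isSylowIn_of_isFullyAutomized F (IsSaturated.isFullyAutomized hS hF hR)
  have heq : F.autGroup R = autInducedBy S R := hsyl.eq_of_le hsyl.le le_rfl (h R hRS)
  rw [heq]
  exact autInducedBy_le_autGroup (innerFusionSystem S) hRS

end Cfsg.Agent.Lib.Helper84_FusionAlperin
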