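import Cfsg.Agent.Lib.Helper87_Normal
import Cfsg.Agent.Lib.Helper84_FusionAlperin

/-!
# Kessar–Linckelmann reduction: basic notions (helper84)

Maps of a fusion system are handled as functions on the ambient group (`IsMapOn`).  A self-map `f` of `P` has
`p`-power order (`PPow`) when some `p^k`-fold iterate is the identity on `P`.  A system is `PInner` when all its
automorphisms have `p`-power order (for saturated systems this says that the system is the inner system), and
`NInner F U p` says the same for the normalizer system of `U`.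
-/

set_option autoImplicit false

namespace Cfsg.Agent.Lib.Helper84_KLBasic

open Cfsg Cfsg.FusionSystem Cfsg.Agent.Lib.Helper87_Alperin Cfsg.Agent.Lib.Helper87_Alperin2

variable {Ω : Type*} [Group Ω] {S : Subgroup Ω}

/-- `f` has `p`-power order on `P` -/
def PPow (p : ℕ) (P : Subgroup Ω) (f : Ω → Ω) : Prop := ∃ k : ℕ, ∀ x ∈ P, f^[p ^ k] x = x

/-- all automorphisms of the system have `p`-power order -/
def PInner (F : FusionSystem S) (p : ℕ) : Prop :=
  ∀ (P : Subgroup Ω) (f : Ω → Ω), IsMapOn F P f → (∀ x ∈ P, f x ∈ P) → PPow p P f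

/-- `f` on `P` is a map of the normalizer system of `U` -/
def NMap (F : FusionSystem S) (U P : Subgroup Ω) (f : Ω → Ω) : Prop :=
  IsMapOn F P f ∧ P ≤ normalizerIn S U ∧ (∀ x ∈ P, f x ∈ normalizerIn S U) ∧
    ∃ (D : Subgroup Ω) (g : Ω → Ω), P ≤ D ∧ U ≤ D ∧ IsMapOn F D g ∧ (∀ x ∈ P, g x = f x) ∧
      ∀ x ∈ U, g x ∈ U

/-- all automorphisms of the normalizer system of `U` have `p`-power order -/
def NInner (F : FusionSystem S) (U : Subgroup Ω) (p : ℕ) : Prop :=
  ∀ (P : Subgroup Ω) (f : Ω → Ω), NMap F U P f → (∀ x ∈ P, f x ∈ P) → PPow p P f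

theorem iterate_mem {P : Subgroup Ω} {f : Ω → Ω} (hf : ∀ x ∈ P, f x ∈ P) (n : ℕ) {x : Ω} (hx : x ∈ P) :
    f^[n] x ∈ P := by
  induction n generalizing x with
  | zero => exact hx
  | succ n ih =>
    rw [Function.iterate_succ_apply]
    exact ih (hf x hx)

theorem iterate_congr {P : Subgroup Ω} {f g : Ω → Ω} (hf : ∀ x ∈ P, f x ∈ P) (hfg : ∀ x ∈ P, f x = g x)
    (n : ℕ) {x : Ω} (hx : x ∈ P) : f^[n] x = g^[n] x := by
  induction n generalizing x with
  | zero => rfl
  | succ n ih =>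
    rw [Function.iterate_succ_apply, Function.iterate_succ_apply, ih (hf x hx), hfg x hx]

theorem PPow.congr {p : ℕ} {P : Subgroup Ω} {f g : Ω → Ω} (h : PPow p P f) (hf : ∀ x ∈ P, f x ∈ P)
    (hfg : ∀ x ∈ P, f x = g x) : PPow p P g := by
  obtain ⟨k, hk⟩ := h
  exact ⟨k, fun x hx => by rw [← iterate_congr hf hfg _ hx, hk x hx]⟩

/-- a power of a map of `p`-power order still has `p`-power order: more precisely if `f^[p^k]` has `p`-power order so
does `f` -/
theorem PPow.of_iterate {p : ℕ} {P : Subgroup Ω} {f : Ω → Ω} (k : ℕ) (h : PPow p P (f^[p ^ k])) :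
    PPow p P f := by
  obtain ⟨j, hj⟩ := h
  refine ⟨k + j, fun x hx => ?_⟩
  rw [pow_add, Function.iterate_mul]
  exact hj x hx

theorem NMap.isMapOn {F : FusionSystem S} {U P : Subgroup Ω} {f : Ω → Ω} (h : NMap F U P f) :
    IsMapOn F P f := h.1

theorem NMap.congr {F : FusionSystem S} {U P : Subgroup Ω} {f g : Ω → Ω} (h : NMap F U P f)
    (hfg : ∀ x ∈ P, f x = g x) : NMap F U P g := by
  obtain ⟨h1, h2, h3, D, g', hPD, hUD, hg', hg'f, hg'U⟩ := h
  exact ⟨h1.congr hfg, h2, fun x hx => hfg x hx ▸ h3 x hx, D, g', hPD, hUD, hg',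
    fun x hx => (hg'f x hx).trans (hfg x hx), hg'U⟩

/-! ### Extension of automorphisms and iterates -/

theorem extFun_iterate {P : Subgroup Ω} (α : MulAut P) (n : ℕ) {x : Ω} (hx : x ∈ P) :
    (extFun α)^[n] x = extFun (α ^ n) x := by
  induction n generalizing x with
  | zero =>
    rw [pow_zero, extFun_apply _ hx]
    rfl
  | succ n ih =>
    rw [Function.iterate_succ_apply, ih (extFun_mem α hx), pow_succ, extFun_mul _ _ hx]

theorem pPow_extFun_iff {p : ℕ} {P : Subgroup Ω} (α : MulAut P) :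
    PPow p P (extFun α) ↔ ∃ k : ℕ, α ^ (p ^ k) = 1 := by
  constructor
  · rintro ⟨k, hk⟩
    refine ⟨k, ?_⟩
    ext x
    have := hk x x.2
    rw [extFun_iterate α _ x.2, extFun_coe] at this
    exact this
  · rintro ⟨k, hk⟩
    refine ⟨k, fun x hx => ?_⟩
    rw [extFun_iterate α _ hx, hk, extFun_apply _ hx]
    rfl

/-- a self-map of the system on a finite subgroup comes from an automorphism -/
theorem exists_aut_of_isMapOn [Finite S] {F : FusionSystem S} {P : Subgroup Ω} {f : Ω → Ω}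
    (hf : IsMapOn F P f) (hfP : ∀ x ∈ P, f x ∈ P) :
    ∃ α : MulAut P, α ∈ F.autGroup P ∧ ∀ x ∈ P, extFun α x = f x := by
  have hPS : P ≤ S := hf.le
  have : Finite P := Finite.of_injective (Subgroup.inclusion hPS) (Subgroup.inclusion_injective hPS)
  obtain ⟨φ, hφ, hφf⟩ := hf
  have hφP : ∀ x : P, φ x ∈ P := fun x => by rw [hφf]; exact hfP x x.2
  have hinj : Function.Injective (φ.codRestrict P hφP) := by
    intro a b hab
    exact F.injective_of_mem hφ (congrArg Subtype.val hab)
  have hbij : Function.Bijective (φ.codRestrict P hφP) := Finite.injective_iff_bijective.1 hinj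
  let α : MulAut P := MulEquiv.ofBijective (φ.codRestrict P hφP) hbij
  have hα : ∀ x : P, ((α x : P) : Ω) = φ x := fun x => rfl
  refine ⟨α, ?_, fun x hx => ?_⟩
  · rw [mem_autGroup_iff' F hPS]
    have : P.subtype.comp α.toMonoidHom = φ := by
      ext x
      exact hα x
    rw [this]
    exact hφ
  · rw [extFun_apply _ hx, hα, hφf]

/-! ### `PInner` and the inner system -/

theorem pInner_of_inner {p : ℕ} (hS : IsPGroup p S) {F : FusionSystem S}
    (h : ∀ P : Subgroup Ω, F.Hom P = (innerFusionSystem S).Hom P) : PInner F p := by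
  rintro P f ⟨φ, hφ, hφf⟩ hfP
  rw [h P] at hφ
  obtain ⟨hPS, g, hg, hgφ⟩ := hφ
  obtain ⟨k, hk⟩ := hS ⟨g, hg⟩
  have hk' : g ^ p ^ k = 1 := congrArg Subtype.val hk
  refine ⟨k, fun x hx => ?_⟩
  have key : ∀ n : ℕ, ∀ y ∈ P, f^[n] y = g ^ n * y * (g ^ n)⁻¹ := by
    intro n
    induction n with
    | zero => intro y _; simp
    | succ n ih =>
      intro y hy
      rw [Function.iterate_succ_apply, ih (f y) (hfP y hy), ← hφf ⟨y, hy⟩, hgφ, pow_succ]
      simp only [mul_inv_rev]
      group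
  rw [key _ x hx, hk']
  simp

theorem inner_of_pInner [Finite S] {p : ℕ} [Fact p.Prime] (hS : IsPGroup p S) {F : FusionSystem S}
    (hF : F.IsSaturated p) (h : PInner F p) :
    ∀ P : Subgroup Ω, F.Hom P = (innerFusionSystem S).Hom P := by
  have h1 : F = innerFusionSystem S := by
    apply Cfsg.Agent.Lib.Helper84_FusionAlperin.eq_innerFusionSystem_of_isPGroup hS F hF
    intro P hPS
    rintro ⟨α, hα⟩
    have hmap : IsMapOn F P (extFun α) := (mem_autGroup_iff F hPS α).1 hα
    obtain ⟨k, hk⟩ := (pPow_extFun_iff α).1 (h P _ hmap (fun x hx => extFun_mem α hx))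
    exact ⟨k, Subtype.ext hk⟩
  intro P
  rw [← h1]

/-! ### The normalizer system -/

theorem nmap_of_mem_normalizerHom {F : FusionSystem S} {U P : Subgroup Ω} {φ : P →* Ω}
    (h : φ ∈ F.normalizerHom U P) : NMap F U P (extHom φ) := by
  obtain ⟨hφ, hPN, hφN, ψ, hψ, hext, himg⟩ := h
  refine ⟨isMapOn_extHom F hφ, hPN, fun x hx => ?_, P ⊔ U, extHom ψ, le_sup_left, le_sup_right,
    isMapOn_extHom F hψ, fun x hx => ?_, fun x hx => ?_⟩
  · rw [extHom_apply φ hx]
    exact hφN _
  · rw [extHom_apply φ hx, extHom_apply ψ ((le_sup_left : P ≤ P ⊔ U) hx)]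
    exact hext ⟨x, hx⟩
  · rw [extHom_apply ψ ((le_sup_right : U ≤ P ⊔ U) hx)]
    exact Cfsg.Agent.Lib.Helper85_Fusion.apply_mem_of_map_eq ψ himg x hx _

theorem mem_normalizerHom_of_nmap [Finite S] {F : FusionSystem S} {U P : Subgroup Ω} (hU : U ≤ S)
    {φ : P →* Ω} (h : NMap F U P (extHom φ)) : φ ∈ F.normalizerHom U P := by
  obtain ⟨h1, hPN, hφN, D, g, hPD, hUD, hg, hgφ, hgU⟩ := h
  have hφ : φ ∈ F.Hom P := (mem_hom_iff_isMapOn F φ).2 h1
  have hle : P ⊔ U ≤ D := sup_le hPD hUD
  obtain ⟨ψ, hψ, hψg⟩ := hg.mono hle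
  have : Finite U := Finite.of_injective (Subgroup.inclusion hU) (Subgroup.inclusion_injective hU)
  refine ⟨hφ, hPN, fun x => ?_, ψ, hψ, fun x => ?_, ?_⟩
  · have := hφN x x.2
    rwa [extHom_coe] at this
  · rw [hψg]
    show g (x : Ω) = φ x
    rw [hgφ x x.2, extHom_coe]
  · -- the image of `U` is `U`
    have hψU : ∀ u : U, ψ (Subgroup.inclusion le_sup_right u) ∈ U := fun u => by
      rw [hψg]
      exact hgU u u.2
    let e : U → U := fun u => ⟨ψ (Subgroup.inclusion le_sup_right u), hψU u⟩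
    have hinj : Function.Injective e := by
      intro a b hab
      have h2 : ψ (Subgroup.inclusion le_sup_right a) = ψ (Subgroup.inclusion le_sup_right b) :=
        congrArg Subtype.val hab
      exact Subgroup.inclusion_injective _ (F.injective_of_mem hψ h2)
    have hsurj : Function.Surjective e := (Finite.injective_iff_bijective.1 hinj).2
    ext y
    rw [Cfsg.Agent.Lib.Helper85_Fusion.mem_map_subgroupOf]
    constructor
    · rintro ⟨z, hz, hzD, rfl⟩
      exact hψU ⟨z, hz⟩
    · intro hy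
      obtain ⟨u, hu⟩ := hsurj ⟨y, hy⟩
      exact ⟨u, u.2, (le_sup_right : U ≤ P ⊔ U) u.2, congrArg Subtype.val hu⟩

theorem isMapOn_normalizerSystem_iff [Finite S] {F : FusionSystem S} {U : Subgroup Ω} (hU : U ≤ S)
    {N : FusionSystem (normalizerIn S U)} (hN : F.IsNormalizerSystem U N) (P : Subgroup Ω) (f : Ω → Ω) :
    IsMapOn N P f ↔ NMap F U P f := by
  constructor
  · rintro ⟨φ, hφ, hφf⟩
    rw [hN P] at hφ
    exact (nmap_of_mem_normalizerHom hφ).congr (fun x hx => by rw [extHom_apply φ hx, hφf])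
  · intro h
    obtain ⟨φ, hφ, hφf⟩ := h.1
    refine ⟨φ, ?_, hφf⟩
    rw [hN P]
    apply mem_normalizerHom_of_nmap hU
    exact h.congr (fun x hx => by rw [extHom_apply φ hx, hφf])

theorem pInner_normalizerSystem_iff [Finite S] {F : FusionSystem S} {U : Subgroup Ω} (hU : U ≤ S)
    {N : FusionSystem (normalizerIn S U)} (hN : F.IsNormalizerSystem U N) (p : ℕ) :
    PInner N p ↔ NInner F U p := by
  constructor
  · intro h P f hf hfP
    exact h P f ((isMapOn_normalizerSystem_iff hU hN P f).2 hf) hfP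
  · intro h P f hf hfP
    exact h P f ((isMapOn_normalizerSystem_iff hU hN P f).1 hf) hfP

/-- maps of the normalizer system of `U` in a subsystem are maps of the normalizer system of `U` in the system -/
theorem NMap.of_subsystem {T : Subgroup Ω} {E : FusionSystem T} {F : FusionSystem S} (hTS : T ≤ S)
    (hEF : ∀ (P : Subgroup Ω) (f : Ω → Ω), IsMapOn E P f → IsMapOn F P f) {U P : Subgroup Ω} {f : Ω → Ω}
    (h : NMap E U P f) : NMap F U P f := by
  obtain ⟨h1, h2, h3, D, g, hPD, hUD, hg, hgf, hgU⟩ := h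
  have hle : normalizerIn T U ≤ normalizerIn S U := inf_le_inf_right _ hTS
  exact ⟨hEF P f h1, h2.trans hle, fun x hx => hle (h3 x hx), D, g, hPD, hUD, hEF D g hg, hgf, hgU⟩

theorem NInner.of_subsystem {T : Subgroup Ω} {E : FusionSystem T} {F : FusionSystem S} (hTS : T ≤ S)
    (hEF : ∀ (P : Subgroup Ω) (f : Ω → Ω), IsMapOn E P f → IsMapOn F P f) {U : Subgroup Ω} {p : ℕ}
    (h : NInner F U p) : NInner E U p :=
  fun P f hf hfP => h P f (hf.of_subsystem hTS hEF) hfP

end Cfsg.Agent.Lib.Helper84_KLBasic
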