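import Cfsg.Agent.Lib.Helper88_Biset9
import Cfsg.Agent.Lib.Helper11_BisetSign
import Cfsg.Agent.Lib.Helper11_YoshidaOrbit
import Cfsg.Agent.Lib.Helper84_KLBasic

/-!
# Yoshida's transfer theorem for saturated fusion systems, modulo Frattini (helper11)

From the characteristic biset of helper88: if `S` has no quotient `C_p ≀ C_p`, every homomorphism from `S` to a
commutative group of exponent `p` which is invariant under `Aut_F(S)` is constant on the classes of the system.
-/

set_option autoImplicit false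
set_option linter.style.haveILetI false

namespace Cfsg.Agent.Lib.Helper11_FusYoshida

open Cfsg Cfsg.FusionSystem MulAction Cfsg.Agent.Lib.Helper87_Alperin Cfsg.Agent.Lib.Helper88_Marks
  Cfsg.Agent.Lib.Helper88_Biset1 Cfsg.Agent.Lib.Helper88_Biset2 Cfsg.Agent.Lib.Helper88_Biset3
  Cfsg.Agent.Lib.Helper88_Biset6 Cfsg.Agent.Lib.Helper84_BisetTransfer Cfsg.Agent.Lib.Helper11_BisetSign
  Cfsg.Agent.Lib.Helper85_Transport Cfsg.Agent.Lib.Helper85_Transport2

universe u

section Transfer

variable {T : Type*} [Group T] {X : Type*} {l : T → X → X} {r : X → T → X}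
  (h : IsBiset l r) [Fintype (ROrb h)] {A : Type*} [CommGroup A] (χ : T →* A)

/-- the transfer with values in a commutative group -/
noncomputable def WA (s : T) : A := ∏ O : ROrb h, χ (cc h s O)

theorem WA_mul (s t : T) : WA h χ (s * t) = WA h χ s * WA h χ t := by
  letI := rorbAction h
  unfold WA
  have h1 : ∀ O : ROrb h, χ (cc h (s * t) O) = χ (cc h s (t • O)) * χ (cc h t O) := by
    intro O
    rw [cc_mul, map_mul]
  rw [Finset.prod_congr rfl (fun O _ => h1 O), Finset.prod_mul_distrib]
  congr 1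
  exact Equiv.prod_comp (MulAction.toPerm t) (fun O => χ (cc h s O))

/-- the transfer is stable under right-equivariant twists -/
theorem WA_eq_of_conj (σ : Equiv.Perm X)
    (hσ : ∀ x s, σ (r x s) = r (σ x) s) (u v : T) (huv : ∀ x, σ (l u x) = l v (σ x)) :
    WA h χ v = WA h χ u := by
  letI := rorbAction h
  set D : A := ∏ O : ROrb h, χ (coord h (σ (rep h O))) with hD
  have key : ∀ O : ROrb h, χ (cc h v (sorbEquiv h σ hσ O)) * χ (coord h (σ (rep h O))) =
      χ (coord h (σ (rep h (u • O)))) * χ (cc h u O) := by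
    intro O
    rw [← map_mul, ← map_mul]
    congr 1
    have h1 : coord h (l v (σ (rep h O))) =
        cc h v (sorbEquiv h σ hσ O) * coord h (σ (rep h O)) := by
      rw [coord_l, ← sorb_mk h σ hσ, mk_rep]
      rfl
    have h2 : coord h (σ (l u (rep h O))) = coord h (σ (rep h (u • O))) * cc h u O := by
      rw [coord_sigma h σ hσ, ← smul_mk, mk_rep]
      rfl
    rw [← h1, ← h2, huv]
  have h3 : (∏ O : ROrb h, χ (cc h v (sorbEquiv h σ hσ O))) * D =
      (∏ O : ROrb h, χ (coord h (σ (rep h (u • O))))) * ∏ O : ROrb h, χ (cc h u O) := by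
    rw [hD, ← Finset.prod_mul_distrib, ← Finset.prod_mul_distrib]
    exact Finset.prod_congr rfl (fun O _ => key O)
  have h4 : (∏ O : ROrb h, χ (cc h v (sorbEquiv h σ hσ O))) = WA h χ v :=
    Equiv.prod_comp (sorbEquiv h σ hσ) (fun O => χ (cc h v O))
  have h5 : (∏ O : ROrb h, χ (coord h (σ (rep h (u • O))))) = D :=
    Equiv.prod_comp (MulAction.toPerm u) (fun O => χ (coord h (σ (rep h O))))
  rw [h4, h5, mul_comm] at h3
  exact mul_left_cancel h3

end Transfer

section MapOn

variable {Ω : Type*} [Group Ω] {S : Subgroup Ω} {F : FusionSystem S} {P : Subgroup Ω} {f : Ω → Ω}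

theorem IsMapOn.map_pow' (hf : IsMapOn F P f) {x : Ω} (hx : x ∈ P) (n : ℕ) : f (x ^ n) = f x ^ n := by
  obtain ⟨φ, -, hφf⟩ := hf
  have h1 := φ.map_pow ⟨x, hx⟩ n
  rw [hφf ⟨x, hx⟩] at h1
  rw [← h1]
  exact (hφf ⟨x ^ n, P.pow_mem hx n⟩).symm

theorem IsMapOn.orderOf_eq (hf : IsMapOn F P f) {x : Ω} (hx : x ∈ P) : orderOf (f x) = orderOf x := by
  obtain ⟨φ, hφ, hφf⟩ := hf
  rw [← hφf ⟨x, hx⟩, orderOf_injective φ (F.injective_of_mem hφ), Subgroup.orderOf_mk]

end MapOn

variable {T : Type u} [Group T] {F : FusionSystem (⊤ : Subgroup T)}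

/-- the main theorem, for a saturated system over the whole group `T` -/
theorem inv_of_no_wreath_top [Finite T] {p : ℕ} [hp : Fact p.Prime] (hT : IsPGroup p (⊤ : Subgroup T))
    (hF : F.IsSaturated p)
    (hno : ¬ ∃ (W : Sylow p (Equiv.Perm (Fin (p ^ 2))))
      (f : T →* ↥(W : Subgroup (Equiv.Perm (Fin (p ^ 2))))), Function.Surjective f)
    {A : Type*} [CommGroup A] (hA : ∀ a : A, a ^ p = 1) (π : T →* A)
    (hπ : ∀ f : T → T, IsMapOn F ⊤ f → ∀ x, π (f x) = π x) :
    ∀ (P : Subgroup T) (f : T → T), IsMapOn F P f → ∀ x ∈ P, π (f x) = π x := by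
  classical
  have hT' : IsPGroup p T := by
    intro g
    obtain ⟨k, hk⟩ := hT ⟨g, Subgroup.mem_top g⟩
    exact ⟨k, congrArg Subtype.val hk⟩
  obtain ⟨J, hJ, D, m, hD, hst, hcard, hpm⟩ := exists_char_biset hT hF
  have hX : IsFGen F (Union D) := isFGen_union D hD
  -- the biset structure
  set l : T → Union D → Union D := fun a x => ((a, (1 : T)) : T × T) • x with hl
  set r : Union D → T → Union D := fun x b => (((1 : T), b⁻¹) : T × T) • x with hr
  have hb : IsBiset l r := by
    refine ⟨?_, ?_, ?_, ?_, ?_, ?_⟩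
    · intro x
      show ((1 : T), (1 : T)) • x = x
      exact one_smul (T × T) x
    · intro a b x
      show ((a * b, (1 : T)) : T × T) • x = ((a, (1 : T)) : T × T) • ((b, (1 : T)) : T × T) • x
      rw [smul_smul]
      congr 1
      simp
    · intro x
      show (((1 : T), (1 : T)⁻¹) : T × T) • x = x
      rw [inv_one]
      exact one_smul (T × T) x
    · intro x a b
      show (((1 : T), (a * b)⁻¹) : T × T) • x = (((1 : T), b⁻¹) : T × T) • (((1 : T), a⁻¹) : T × T) • x
      rw [smul_smul]
      congr 1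
      simp
    · intro a x b
      show (((1 : T), b⁻¹) : T × T) • ((a, (1 : T)) : T × T) • x =
        ((a, (1 : T)) : T × T) • (((1 : T), b⁻¹) : T × T) • x
      rw [smul_smul, smul_smul]
      congr 1
      simp
    · intro x a hxa
      have := eq_one_of_smul_eq hX hxa
      exact inv_eq_one.1 this
  haveI : Finite (Union D) := inferInstance
  haveI : Finite (ROrb hb) := Quotient.finite _
  letI : Fintype (ROrb hb) := Fintype.ofFinite _
  letI := rorbAction hb
  -- the number of right orbits
  have hm : Nat.card (ROrb hb) = m := by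
    have h1 := card_eq hb
    rw [hcard] at h1
    exact (Nat.eq_of_mul_eq_mul_right Nat.card_pos h1).symm
  -- stabilizers are graphs of maps of the system
  have hmem : ∀ (x : Union D) (a b : T), l a x = r x b →
      ∃ (Q : Subgroup T) (f : T → T), IsMapOn F Q f ∧ a ∈ Q ∧ f a = b ∧
        ∀ a' b' : T, l a' x = r x b' → a' ∈ Q ∧ f a' = b' := by
    intro x a b hab
    obtain ⟨Q, f, hf, hΔ⟩ := hX x
    have key : ∀ a' b' : T, l a' x = r x b' → a' ∈ Q ∧ f a' = b' := by
      intro a' b' hab'
      apply (hΔ a' b').1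
      show ((a', b') : T × T) • x = x
      have h3 : ((a', b') : T × T) = ((1 : T), b') * (a', (1 : T)) := by simp
      have h1 : ((a', (1 : T)) : T × T) • x = (((1 : T), b'⁻¹) : T × T) • x := hab'
      rw [h3, mul_smul, h1, smul_smul]
      simp only [Prod.mk_mul_mk, one_mul, mul_inv_cancel]
      exact one_smul (T × T) x
    exact ⟨Q, f, hf, (key a b hab).1, (key a b hab).2, key⟩
  -- invariance of the transfer
  have hinv : ∀ (P : Subgroup T) (f : T → T), IsMapOn F P f → ∀ x ∈ P,
      WA hb π (f x) = WA hb π x := by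
    rintro P f ⟨φ, hφ, hφf⟩ x hx
    obtain ⟨e, he⟩ := exists_equiv_of_marks_hom (X := Union D) (inclHom P) (twistHom φ)
      (fun H => mark_twist_eq hX hst hφ H Nat.card_pos)
    rw [← hφf ⟨x, hx⟩]
    apply WA_eq_of_conj hb π e
    · intro y s
      have h1 := he ((1 : P), s⁻¹) y
      rw [inclHom_apply, twistHom_apply, map_one] at h1
      exact h1
    · intro y
      have h1 := he (⟨x, hx⟩, (1 : T)) y
      rw [inclHom_apply, twistHom_apply] at h1
      exact h1
  -- the cocycle
  set c : T → ROrb hb → A := fun s O => π (cc hb s O) with hc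
  have hcc : ∀ s t (O : ROrb hb), c (s * t) O = c s (t • O) * c t O := by
    intro s t O
    show π (cc hb (s * t) O) = π (cc hb s (t • O)) * π (cc hb t O)
    rw [cc_mul, map_mul]
  -- values at fixed points
  have hfixval : ∀ (s : T) (O : ROrb hb), s • O = O →
      ∃ (Q : Subgroup T) (f : T → T), IsMapOn F Q f ∧ s ∈ Q ∧ f s = cc hb s O ∧
        ∀ t : T, t • O = O → t ∈ Q := by
    intro s O hs
    have h1 := l_rep hb s O
    rw [hs] at h1
    obtain ⟨Q, f, hf, hsQ, hfs, hall⟩ := hmem (rep hb O) s (cc hb s O) h1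
    refine ⟨Q, f, hf, hsQ, hfs, ?_⟩
    intro t ht
    have h2 := l_rep hb t O
    rw [ht] at h2
    exact (hall t _ h2).1
  -- the set of fixed points
  set Fix : Finset (ROrb hb) := Finset.univ.filter (fun O => ∀ t : T, t • O = O) with hFix
  have hk : ¬ p ∣ Fix.card := by
    have h1 := hT'.card_modEq_card_fixedPoints (ROrb hb)
    have h2 : Nat.card (MulAction.fixedPoints T (ROrb hb)) = Fix.card := by
      rw [Nat.card_eq_fintype_card, hFix, ← Fintype.card_subtype]
      apply Fintype.card_congr
      exact Equiv.subtypeEquivRight (fun O => Iff.rfl)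
    rw [h2, hm] at h1
    intro hdvd
    apply hpm
    exact (Nat.modEq_zero_iff_dvd.1 (h1.trans (Nat.modEq_zero_iff_dvd.2 hdvd)))
  have hY := fun M hMne hMnorm hcov z hz u hu ρ hρ =>
    Cfsg.Agent.Lib.Helper11_YoshidaOrbit.prod_conj_eq_one hT' hno hA (A := A) M hMne hMnorm hcov z hz u hu ρ hρ
  -- the main induction
  have main : ∀ n : ℕ, ∀ u : T, orderOf u = n → ∀ (P : Subgroup T) (f : T → T), IsMapOn F P f →
      u ∈ P → π (f u) = π u := by
    intro n
    induction n using Nat.strong_induction_on with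
    | _ n ih =>
      -- evaluation of the transfer
      have eval : ∀ v : T, orderOf v = n → WA hb π v = π v ^ Fix.card := by
        intro v hv
        have hsplit : WA hb π v = (∏ O ∈ Fix, c v O) * ∏ O ∈ Finset.univ \ Fix, c v O := by
          rw [mul_comm]
          exact (Finset.prod_sdiff (Finset.subset_univ Fix)).symm
        rw [hsplit]
        have hA1 : ∏ O ∈ Fix, c v O = π v ^ Fix.card := by
          rw [Finset.prod_congr rfl (g := fun _ => π v), Finset.prod_const]
          intro O hO
          have hO' : ∀ t : T, t • O = O := (Finset.mem_filter.1 hO).2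
          obtain ⟨Q, f, hf, hvQ, hfv, hall⟩ := hfixval v O (hO' v)
          have hQtop : Q = ⊤ := eq_top_iff.2 (fun t _ => hall t (hO' t))
          subst hQtop
          show π (cc hb v O) = π v
          rw [← hfv]
          exact hπ f hf v
        have hA2 : ∏ O ∈ Finset.univ \ Fix, c v O = 1 := by
          apply Cfsg.Agent.Lib.Helper11_YoshidaOrbit.prod_orbit_eq_one hT' c hcc hY v
          · -- cycle contributions
            intro O r hpr hfix
            by_cases hv1 : v = 1
            · rw [hv1, one_pow]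
              exact Cfsg.Agent.Lib.Helper11_YoshidaOrbit.c_one hcc O
            obtain ⟨Q, f, hf, hvQ, hfv, -⟩ := hfixval (v ^ r) O hfix
            show π (cc hb (v ^ r) O) = 1
            rw [← hfv]
            have hlt : orderOf (v ^ r) < n := by
              rw [← hv]
              obtain ⟨k0, hk0⟩ := hT' v
              have hpdvd : p ∣ orderOf v := by
                have h1 : orderOf v ∣ p ^ k0 := orderOf_dvd_of_pow_eq_one hk0
                obtain ⟨i, -, hi⟩ := (Nat.dvd_prime_pow hp.out).mp h1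
                have hi0 : i ≠ 0 := by
                  intro h0
                  rw [h0, pow_zero, orderOf_eq_one_iff] at hi
                  exact hv1 hi
                rw [hi]
                exact dvd_pow_self p hi0
              by_cases hr0 : r = 0
              · rw [hr0, pow_zero, orderOf_one]
                exact lt_of_lt_of_le hp.out.one_lt (Nat.le_of_dvd (orderOf_pos v) hpdvd)
              rw [orderOf_pow' v hr0]
              apply Nat.div_lt_self (orderOf_pos v)
              have h2 : p ∣ Nat.gcd (orderOf v) r := Nat.dvd_gcd hpdvd hpr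
              exact lt_of_lt_of_le hp.out.one_lt (Nat.le_of_dvd (Nat.gcd_pos_of_pos_left _ (orderOf_pos v)) h2)
            rw [ih _ hlt (v ^ r) rfl Q f hf hvQ, map_pow]
            obtain ⟨q, rfl⟩ := hpr
            rw [pow_mul, hA, one_pow]
          · -- invariance
            intro t O hO
            rw [Finset.mem_sdiff] at hO ⊢
            refine ⟨Finset.mem_univ _, fun hmem => hO.2 ?_⟩
            have h1 : ∀ s : T, s • (t • O) = t • O := (Finset.mem_filter.1 hmem).2
            rw [hFix, Finset.mem_filter]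
            refine ⟨Finset.mem_univ _, fun s => ?_⟩
            have h2 := h1 (t * s * t⁻¹)
            rw [← mul_smul] at h2
            have h3 : t * s * t⁻¹ * t = t * s := by group
            rw [h3, mul_smul] at h2
            exact MulAction.injective t h2
          · -- no fixed points
            intro O hO
            rw [Finset.mem_sdiff] at hO
            by_contra hcon
            push Not at hcon
            exact hO.2 (Finset.mem_filter.2 ⟨Finset.mem_univ _, hcon⟩)
        rw [hA1, hA2, mul_one]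
      intro u hu P f hf huP
      have h1 := eval u hu
      have h2 := eval (f u) ((IsMapOn.orderOf_eq hf huP).trans hu)
      have h3 := hinv P f hf u huP
      rw [h1, h2] at h3
      -- cancel the exponent
      have h4 : (π (f u) / π u) ^ Fix.card = 1 := by
        rw [div_pow, h3, div_self']
      have h5 : (π (f u) / π u) ^ p = 1 := hA _
      have hcop : Nat.Coprime Fix.card p := ((Nat.Prime.coprime_iff_not_dvd hp.out).2 hk).symm
      have h6 : orderOf (π (f u) / π u) ∣ Nat.gcd Fix.card p :=
        Nat.dvd_gcd (orderOf_dvd_of_pow_eq_one h4) (orderOf_dvd_of_pow_eq_one h5)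
      rw [hcop.gcd_eq_one, Nat.dvd_one, orderOf_eq_one_iff] at h6
      exact div_eq_one.1 h6
  intro P f hf x hx
  exact main _ x rfl P f hf hx

/-- The version of `inv_of_no_wreath_top` for a system over a subgroup equal to `⊤`. -/
theorem inv_of_no_wreath_of_eq_top {T : Type u} [Group T] [Finite T] {p : ℕ} [Fact p.Prime] {S₀ : Subgroup T}
    (h : S₀ = ⊤) (F₀ : FusionSystem S₀) (hT : IsPGroup p S₀) (hF : F₀.IsSaturated p)
    (hno : ¬ ∃ (W : Sylow p (Equiv.Perm (Fin (p ^ 2))))
      (f : T →* ↥(W : Subgroup (Equiv.Perm (Fin (p ^ 2))))), Function.Surjective f)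
    {A : Type*} [CommGroup A] (hA : ∀ a : A, a ^ p = 1) (π : T →* A)
    (hπ : ∀ f : T → T, IsMapOn F₀ S₀ f → ∀ x, π (f x) = π x) :
    ∀ (P : Subgroup T) (f : T → T), IsMapOn F₀ P f → ∀ x ∈ P, π (f x) = π x := by
  subst h
  exact inv_of_no_wreath_top hT hF hno hA π hπ

variable {Ω : Type u} [Group Ω] {S : Subgroup Ω}

/-- **Yoshida's theorem modulo Frattini**: if `S` has no quotient `C_p ≀ C_p`, a homomorphism from `S` to a
commutative group of exponent `p` invariant under the automorphisms of `S` in the saturated system `F` is constant on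
the classes of `F`. -/
theorem inv_of_no_wreath [Finite S] {p : ℕ} [Fact p.Prime] (hS : IsPGroup p S) (F : FusionSystem S)
    (hF : F.IsSaturated p)
    (hno : ¬ ∃ (W : Sylow p (Equiv.Perm (Fin (p ^ 2))))
      (f : ↥S →* ↥(W : Subgroup (Equiv.Perm (Fin (p ^ 2))))), Function.Surjective f)
    {A : Type*} [CommGroup A] (hA : ∀ a : A, a ^ p = 1) (π : ↥S →* A)
    (hπ : ∀ (f : Ω → Ω) (hf : IsMapOn F S f) (x : Ω) (hx : x ∈ S), π ⟨f x, hf.mem hx⟩ = π ⟨x, hx⟩) :
    ∀ (P : Subgroup Ω) (f : Ω → Ω) (hf : IsMapOn F P f) (x : Ω) (hx : x ∈ P),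
      π ⟨f x, hf.mem hx⟩ = π ⟨x, hf.le hx⟩ := by
  set e : S ≃* (⊤ : Subgroup ↥S) := Subgroup.topEquiv.symm with he
  have hcorr : SubCorr e F (pushSub e le_rfl F) := subCorr_pushSub le_rfl
  have hT : IsPGroup p ↥(push e S) := by
    rintro ⟨x, hx⟩
    obtain ⟨k, hk⟩ := hS x
    exact ⟨k, Subtype.ext hk⟩
  have hsat : (pushSub e le_rfl F).IsSaturated p := hcorr.isSaturated' hF
  have hext : ∀ (x : Ω) (hx : x ∈ S), ext e x = ⟨x, hx⟩ := by
    intro x hx
    rw [ext_apply e hx]
    rfl
  have hext' : ∀ y : ↥S, ext e.symm y = (y : Ω) := by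
    intro y
    rw [ext_apply e.symm (Subgroup.mem_top y)]
    rfl
  have key := inv_of_no_wreath_of_eq_top (push_self e) (pushSub e le_rfl F) hT hsat hno hA π (by
    intro f' hf' x
    have h1 := hcorr.bwd _ f' hf'
    rw [push_symm_push e le_rfl] at h1
    have h2 := hπ _ h1 x.1 x.2
    have h3 : (⟨(ext e.symm ∘ f' ∘ ext e) x.1, h1.mem x.2⟩ : ↥S) = f' x := by
      apply Subtype.ext
      show ext e.symm (f' (ext e x.1)) = (f' x : Ω)
      rw [hext x.1 x.2, hext']
    rw [h3] at h2
    exact h2)
  intro P f hf x hx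
  have hxS : x ∈ S := hf.le hx
  have h1 := key _ _ (hcorr.fwd P f hf) (ext e x) (ext_mem_push e hx hxS)
  simp only [Function.comp_apply] at h1
  rw [ext_symm_ext e hxS, hext x hxS, hext (f x) (hf.mem hx)] at h1
  exact h1

open Cfsg.Agent.Lib.Helper1_Frattini Cfsg.Agent.Lib.Helper84_KLBasic in
/-- **Yoshida's theorem modulo Frattini**, for the normalizer system of `S`. -/
theorem focal_le_frattini_sup [Finite S] {p : ℕ} [Fact p.Prime] (hS : IsPGroup p S) (F : FusionSystem S)
    (hF : F.IsSaturated p)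
    (hno : ¬ ∃ (W : Sylow p (Equiv.Perm (Fin (p ^ 2))))
      (f : ↥S →* ↥(W : Subgroup (Equiv.Perm (Fin (p ^ 2))))), Function.Surjective f)
    (N : FusionSystem (normalizerIn S S)) (hN : F.IsNormalizerSystem S N) :
    F.focalSubgroup ≤ (frattini ↥S).map S.subtype ⊔ N.focalSubgroup := by
  set B : Subgroup Ω := (frattini ↥S).map S.subtype ⊔ N.focalSubgroup with hB
  set B' : Subgroup ↥S := B.subgroupOf S with hB'
  have hfr : frattini ↥S ≤ B' := by
    intro x hx
    rw [hB', Subgroup.mem_subgroupOf]
    exact (le_sup_left : (frattini ↥S).map S.subtype ≤ B) ⟨x, hx, rfl⟩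
  have hcomm : commutator ↥S ≤ B' := (commutator_le_frattini_of_isPGroup hS).trans hfr
  haveI hn : B'.Normal := normal_of_commutator_le hcomm
  letI : CommGroup (↥S ⧸ B') :=
    { (inferInstance : Group (↥S ⧸ B')) with
      mul_comm := by
        have := (Subgroup.Normal.quotient_commutative_iff_commutator_le (N := B')).2 hcomm
        exact this.is_comm.comm }
  have hA : ∀ a : ↥S ⧸ B', a ^ p = 1 := by
    intro a
    obtain ⟨s, rfl⟩ := QuotientGroup.mk_surjective a
    rw [← QuotientGroup.mk_pow, QuotientGroup.eq_one_iff]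
    exact hfr (pow_mem_frattini_of_isPGroup hS s)
  have hmemB : ∀ (x y : Ω) (hx : x ∈ S) (hy : y ∈ S),
      (QuotientGroup.mk' B') ⟨y, hy⟩ = (QuotientGroup.mk' B') ⟨x, hx⟩ ↔ x⁻¹ * y ∈ B := by
    intro x y hx hy
    rw [QuotientGroup.mk'_apply, QuotientGroup.mk'_apply, eq_comm, QuotientGroup.eq, hB',
      Subgroup.mem_subgroupOf]
    rfl
  have key := inv_of_no_wreath hS F hF hno hA (QuotientGroup.mk' B') (by
    intro f hf x hx
    rw [hmemB x (f x) hx (hf.mem hx)]
    apply (le_sup_right : N.focalSubgroup ≤ B)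
    apply Subgroup.subset_closure
    obtain ⟨φ, hφ, hφf⟩ := hf
    refine ⟨S, φ, ⟨x, hx⟩, ?_, by rw [hφf]⟩
    rw [hN S]
    apply mem_normalizerHom_of_nmap le_rfl
    have hmap : IsMapOn F S (extHom φ) := isMapOn_extHom F hφ
    refine ⟨hmap, le_normalizerIn le_rfl, fun y hy => le_normalizerIn le_rfl (hmap.mem hy), S, extHom φ,
      le_rfl, le_rfl, hmap, fun _ _ => rfl, fun y hy => hmap.mem hy⟩)
  rw [focalSubgroup, Subgroup.closure_le]
  rintro y ⟨P, φ, x, hφ, rfl⟩
  have hmap : IsMapOn F P (extHom φ) := isMapOn_extHom F hφ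
  have h1 := key P (extHom φ) hmap x x.2
  rw [hmemB] at h1
  rw [extHom_coe] at h1
  exact h1

end Cfsg.Agent.Lib.Helper11_FusYoshida
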