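import Cfsg.Agent.Lib.Helper11_NPCD
import Cfsg.Agent.Lib.Helper33_Alperin
import Cfsg.Agent.Lib.Helper23_PConstrained
import Cfsg.Agent.S3836
import Cfsg.Agent.S1959

/-!
# Control of strong fusion by `N_G(W(D))` for a strongly closed subgroup `D` (helper11)

`Pr` is a family of subgroup properties as in `Helper11_NPCD.PFam`. If `G` is `p`-stable in the
normalizer form, the normalizers of the nontrivial subgroups of the Sylow `p`-subgroup `P` are
`p`-constrained and `D` is strongly closed in `P`, then `N_G(W (Pr G) D)` controls strong fusion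
in `P` (`controls`).
-/

set_option autoImplicit false

namespace Cfsg.Agent.Lib.Helper11_FusionD

open Cfsg Cfsg.Agent.Lib.Helper11_ZJ Cfsg.Agent.Lib.Helper11_ZJ2 Cfsg.Agent.Lib.Helper11_ZJ3
  Cfsg.Agent.Lib.Helper11_NPCD Cfsg.Agent.Lib.Helper33_Conj Cfsg.Agent.Lib.Helper33_Alperin

open scoped commutatorElement

universe u

section stable

variable {G : Type*} [Group G]

/-- **`p`-stability in the normalizer form passes to the quotient by the `p'`-core** (in the
`StableOn` form). -/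
theorem stableOn_quotient_of_isNormalizerPStable [Finite G] {p : ℕ} [Fact p.Prime]
    (hs : Cfsg.IsNormalizerPStable p G) (P : Sylow p G)
    (Bb : Subgroup (G ⧸ pPrimeCore p G)) [hBbn : Bb.Normal] (hBb : IsPGroup p Bb) :
    StableOn p ((P : Subgroup G).map (QuotientGroup.mk' (pPrimeCore p G))) Bb := by
  have hKcop : (Nat.card (pPrimeCore p G)).Coprime p :=
    Cfsg.Agent.Lib.Helper1_Cores.pPrimeCore_card_coprime p
  have hπsurj : Function.Surjective (QuotientGroup.mk' (pPrimeCore p G)) :=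
    QuotientGroup.mk'_surjective _
  have hker : (QuotientGroup.mk' (pPrimeCore p G)).ker = pPrimeCore p G :=
    QuotientGroup.ker_mk' _
  set π := QuotientGroup.mk' (pPrimeCore p G) with hπ
  have hB₁n : (Bb.comap π).Normal := Subgroup.Normal.comap hBbn π
  have hP₀p : IsPGroup p ↥((P : Subgroup G) ⊓ Bb.comap π) := P.isPGroup'.to_le inf_le_left
  have hP₀K : ((P : Subgroup G) ⊓ Bb.comap π) ⊓ pPrimeCore p G = ⊥ :=
    Cfsg.Agent.Lib.Helper32_Sylow.inf_eq_bot_of_pgroup_of_coprime hP₀p hKcop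
  -- `Bb` is the image of `P₀`
  have hBbP : Bb ≤ (P : Subgroup G).map π := by
    have h1 : Bb ≤ pCore p (G ⧸ pPrimeCore p G) :=
      Cfsg.Agent.Lib.Helper1_Cores.le_pCore hBbn hBb
    have h2 := Cfsg.Agent.Lib.Helper1_Cores.pCore_le_sylow p (P.mapSurjective hπsurj)
    rw [Sylow.coe_mapSurjective] at h2
    exact h1.trans h2
  have hmap : ((P : Subgroup G) ⊓ Bb.comap π).map π = Bb := by
    apply le_antisymm
    · rintro _ ⟨x, hx, rfl⟩
      exact hx.2
    · intro b hb
      obtain ⟨x, hx, rfl⟩ := hBbP hb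
      exact ⟨x, ⟨hx, hb⟩, rfl⟩
  have hsup : pPrimeCore p G ⊔ ((P : Subgroup G) ⊓ Bb.comap π) = Bb.comap π := by
    apply le_antisymm
    · apply sup_le
      · intro k hk
        show π k ∈ Bb
        have : π k = 1 := by rw [← MonoidHom.mem_ker, hker]; exact hk
        rw [this]; exact one_mem _
      · exact inf_le_right
    · intro x hx
      have hx' : π x ∈ ((P : Subgroup G) ⊓ Bb.comap π).map π := by rw [hmap]; exact hx
      obtain ⟨y, hy, hxy⟩ := hx'
      have hk : x * y⁻¹ ∈ pPrimeCore p G := by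
        rw [← hker, MonoidHom.mem_ker, map_mul, map_inv, hxy, mul_inv_cancel]
      have e : x = (x * y⁻¹) * y := by group
      rw [e]
      exact Subgroup.mul_mem_sup hk hy
  apply stableOn_of_forall_mem_pCore
  rintro _ ⟨a, ha, rfl⟩ hquad
  have hza : Subgroup.zpowers a ≤ (P : Subgroup G) := by
    rw [Subgroup.zpowers_le]; exact ha
  have hnorm : ∀ x ∈ Subgroup.zpowers a, ∀ y ∈ (P : Subgroup G) ⊓ Bb.comap π,
      x * y * x⁻¹ ∈ (P : Subgroup G) ⊓ Bb.comap π := by
    intro x hx y hy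
    have hxP : x ∈ (P : Subgroup G) := hza hx
    exact ⟨Subgroup.mul_mem _ (Subgroup.mul_mem _ hxP hy.1) (Subgroup.inv_mem _ hxP),
      hB₁n.conj_mem y hy.2 x⟩
  have hcomm1 : ⁅(P : Subgroup G) ⊓ Bb.comap π, Subgroup.zpowers a⁆ ≤
      (P : Subgroup G) ⊓ Bb.comap π := by
    rw [Subgroup.commutator_le]
    intro y hy z hz
    have h1 := hnorm z hz y⁻¹ (Subgroup.inv_mem _ hy)
    have e : ⁅y, z⁆ = y * (z * y⁻¹ * z⁻¹) := by rw [commutatorElement_def]; group
    rw [e]
    exact Subgroup.mul_mem _ hy h1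
  have hq : ⁅⁅(P : Subgroup G) ⊓ Bb.comap π, Subgroup.zpowers a⁆, Subgroup.zpowers a⁆ = ⊥ := by
    have h1 : ⁅⁅(P : Subgroup G) ⊓ Bb.comap π, Subgroup.zpowers a⁆, Subgroup.zpowers a⁆ ≤
        (P : Subgroup G) ⊓ Bb.comap π :=
      (Subgroup.commutator_mono hcomm1 le_rfl).trans hcomm1
    have h2 : ⁅⁅(P : Subgroup G) ⊓ Bb.comap π, Subgroup.zpowers a⁆, Subgroup.zpowers a⁆ ≤
        pPrimeCore p G := by
      have h3 : ⁅⁅(P : Subgroup G) ⊓ Bb.comap π, Subgroup.zpowers a⁆, Subgroup.zpowers a⁆ ≤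
          π.ker := by
        rw [← Subgroup.map_eq_bot_iff, Subgroup.map_commutator, Subgroup.map_commutator,
          hmap, MonoidHom.map_zpowers]
        exact hquad
      rwa [hker] at h3
    rw [eq_bot_iff, ← hP₀K]
    exact le_inf h1 h2
  -- notation
  set P₀ : Subgroup G := (P : Subgroup G) ⊓ Bb.comap π with hP₀
  set N₀ : Subgroup G := Subgroup.normalizer (P₀ : Set G) with hN₀
  set C₀' : Subgroup ↥N₀ := (Subgroup.centralizer (P₀ : Set G)).subgroupOf N₀ with hC₀'
  set Cb : Subgroup (G ⧸ pPrimeCore p G) :=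
    Subgroup.centralizer (Bb : Set (G ⧸ pPrimeCore p G)) with hCb
  have hCbn : Cb.Normal := Subgroup.normal_centralizer
  have hC₀'n : C₀'.Normal := by
    rw [hC₀']
    infer_instance
  have haN : a ∈ N₀ := by
    have h1 : a ∈ Subgroup.normalizer ((P : Subgroup G) : Set G) := Subgroup.le_normalizer ha
    have h2 : a ∈ Subgroup.normalizer ((Bb.comap π : Subgroup G) : Set G) := by
      rw [Subgroup.normalizer_eq_top (Bb.comap π)]; exact Subgroup.mem_top a
    exact Subgroup.inf_normalizer_le_normalizer_inf ⟨h1, h2⟩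
  have key := hs P₀ hP₀p a haN hq
  -- the homomorphism `N₀ → (G/K)/C̄`
  let ψ : ↥N₀ →* (G ⧸ pPrimeCore p G) ⧸ Cb := (QuotientGroup.mk' Cb).comp (π.comp N₀.subtype)
  have hψsurj : Function.Surjective ψ := by
    intro z
    obtain ⟨gb, rfl⟩ := QuotientGroup.mk'_surjective Cb z
    obtain ⟨g, rfl⟩ := hπsurj gb
    obtain ⟨l, hl, n, hn, rfl⟩ := Cfsg.Agent.S0608.frattini_inf P (Bb.comap π) g
    rw [← hsup] at hl
    obtain ⟨k, hk, y, hy, rfl⟩ := Subgroup.mem_sup_of_normal_left.mp hl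
    have hyN : y ∈ N₀ := Subgroup.le_normalizer hy
    refine ⟨⟨y * n, Subgroup.mul_mem _ hyN hn⟩, ?_⟩
    show QuotientGroup.mk' Cb (π (y * n)) = QuotientGroup.mk' Cb (π (k * y * n))
    have hk1 : π k = 1 := by rw [← MonoidHom.mem_ker, hker]; exact hk
    rw [map_mul π (k * y) n, map_mul π k y, hk1, one_mul, ← map_mul]
  have hψC : ∀ x : ↥N₀, x ∈ C₀' → ψ x = 1 := by
    intro x hx
    show QuotientGroup.mk' Cb (π (x : G)) = 1
    rw [← MonoidHom.mem_ker, QuotientGroup.ker_mk', hCb, Subgroup.mem_centralizer_iff]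
    intro b hb
    rw [← hmap] at hb
    obtain ⟨y, hy, rfl⟩ := hb
    have hx' : (x : G) ∈ Subgroup.centralizer (P₀ : Set G) := hx
    rw [← map_mul, ← map_mul, Subgroup.mem_centralizer_iff.mp hx' y hy]
  have hQp : IsPGroup p (pCore p (↥N₀ ⧸ C₀')) := Cfsg.Agent.Lib.Helper1_Cores.pCore_isPGroup p
  have hQn : (pCore p (↥N₀ ⧸ C₀')).Normal := Cfsg.Agent.Lib.Helper1_Cores.pCore_normal p
  have hL₀n : ((pCore p (↥N₀ ⧸ C₀')).comap (QuotientGroup.mk' C₀')).Normal :=
    Subgroup.Normal.comap hQn _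
  have hYn : (((pCore p (↥N₀ ⧸ C₀')).comap (QuotientGroup.mk' C₀')).map ψ).Normal :=
    Subgroup.Normal.map hL₀n ψ hψsurj
  have hYp : IsPGroup p (((pCore p (↥N₀ ⧸ C₀')).comap (QuotientGroup.mk' C₀')).map ψ) := by
    rintro ⟨_, x, hx, rfl⟩
    obtain ⟨k, hk⟩ := hQp ⟨QuotientGroup.mk' C₀' x, hx⟩
    refine ⟨k, ?_⟩
    apply Subtype.ext
    have h1 : (QuotientGroup.mk' C₀' x) ^ p ^ k = 1 := by
      have := congrArg Subtype.val hk
      simpa using this
    have h2 : x ^ p ^ k ∈ C₀' := by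
      rw [← QuotientGroup.ker_mk' C₀', MonoidHom.mem_ker, map_pow]
      exact h1
    have h3 := hψC _ h2
    rw [map_pow] at h3
    simpa using h3
  have hY := Cfsg.Agent.Lib.Helper1_Cores.le_pCore hYn hYp
  apply hY
  refine ⟨⟨a, haN⟩, ?_, rfl⟩
  show QuotientGroup.mk' C₀' ⟨a, haN⟩ ∈ pCore p (↥N₀ ⧸ C₀')
  exact key

end stable

section locals

variable {p : ℕ} [Fact p.Prime] {Pr : ∀ (Y : Type u) [Group Y], Subgroup Y → Prop}

/-- the image of `W(D₀)` modulo `O_{p'}(X)` is normal, for `X` `p`-constrained and `p`-stable and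
`D₀` strongly closed in a Sylow `p`-subgroup. -/
theorem map_W_normal (hPr : PFam p Pr) {X : Type u} [Group X] [Finite X]
    (T : Sylow p X) (D₀ : Subgroup X) (hD₀ : IsStronglyClosed D₀ (T : Subgroup X))
    (hc : IsPConstrained p X) (hst : IsNormalizerPStable p X) :
    ((W (Pr X) D₀).map (QuotientGroup.mk' (pPrimeCore p X))).Normal := by
  have hc' := (Cfsg.Agent.Lib.Helper23_PConstrained.isPConstrained_iff_centralizer_pCore_le p).mp hc
  have hKcop : (Nat.card (pPrimeCore p X)).Coprime p :=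
    Cfsg.Agent.Lib.Helper1_Cores.pPrimeCore_card_coprime p
  have hπsurj : Function.Surjective (QuotientGroup.mk' (pPrimeCore p X)) :=
    QuotientGroup.mk'_surjective _
  have hinj : ∀ x ∈ (T : Subgroup X), QuotientGroup.mk' (pPrimeCore p X) x = 1 → x = 1 := by
    intro x hx h1
    have hxK : x ∈ pPrimeCore p X := by
      rw [← QuotientGroup.ker_mk' (pPrimeCore p X)]; exact h1
    have h2 : x ∈ (T : Subgroup X) ⊓ pPrimeCore p X := ⟨hx, hxK⟩
    rw [Cfsg.Agent.Lib.Helper32_Sylow.inf_eq_bot_of_pgroup_of_coprime T.isPGroup' hKcop,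
      Subgroup.mem_bot] at h2
    exact h2
  have hsc := isStronglyClosed_map_of_coprime T hD₀ (pPrimeCore p X)
  have hWn : (W (Pr (X ⧸ pPrimeCore p X))
      (D₀.map (QuotientGroup.mk' (pPrimeCore p X)))).Normal := by
    apply W_normalD (hPr.adm (X ⧸ pPrimeCore p X)) (T.mapSurjective hπsurj)
      (D₀.map (QuotientGroup.mk' (pPrimeCore p X)))
    · rw [Sylow.coe_mapSurjective]; exact hsc.1
    · rw [Sylow.coe_mapSurjective]; exact hsc.2
    · exact hc'
    · intro B hBn hBp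
      rw [Sylow.coe_mapSurjective]
      have := hBn
      exact stableOn_quotient_of_isNormalizerPStable hst T B hBp
  rw [W_map' hPr _ D₀ (fun x hx => hinj x (hD₀.1 hx))] at hWn
  exact hWn

/-- Sylow's theorem in `J K` for a normal `p'`-subgroup `K`: conjugation by an element of `K`. -/
theorem exists_cj_le_of_le_sup {X : Type*} [Group X] [Finite X] (K : Subgroup X) [K.Normal]
    (hK : (Nat.card K).Coprime p) (J R : Subgroup X) (hJ : IsPGroup p J) (hR : IsPGroup p R)
    (hRJ : R ≤ J ⊔ K) : ∃ m ∈ K, cj m R ≤ J := by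
  have hidx : ¬ p ∣ J.relIndex (J ⊔ K) := by
    rw [← Cfsg.Agent.S0608.relIndex_inf_of_normal]
    intro hdvd
    have h2 : (J ⊓ K).relIndex K ∣ Nat.card K := Subgroup.relIndex_dvd_card _ _
    have h3 := Nat.Coprime.coprime_dvd_left h2 hK
    have hp : p.Prime := Fact.out
    exact hp.one_lt.ne' (Nat.eq_one_of_dvd_coprimes h3 hdvd dvd_rfl)
  obtain ⟨x, hx, hxJ⟩ := Cfsg.Agent.Lib.Helper33_Alperin.exists_cj_le_of_relIndex
    (le_sup_left) hJ hidx hRJ hR
  obtain ⟨j, hj, m, hm, rfl⟩ := Subgroup.mem_sup_of_normal_right.mp hx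
  refine ⟨m, hm, ?_⟩
  rw [cj_mul, cj_le_iff, cj_of_mem (J.inv_mem hj)] at hxJ
  exact hxJ

/-- **Local control of strong fusion**: in a `p`-constrained, `p`-stable group `X`, conjugation
between subsets of a Sylow `p`-subgroup is induced by elements of `N_X(W(D₀))`. -/
theorem local_control (hPr : PFam p Pr) {X : Type u} [Group X] [Finite X]
    (T : Sylow p X) (D₀ : Subgroup X) (hD₀ : IsStronglyClosed D₀ (T : Subgroup X))
    (hc : IsPConstrained p X) (hst : IsNormalizerPStable p X)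
    (B : Set X) (hB : B ⊆ ((T : Subgroup X) : Set X)) (z : X)
    (hz : cjs z B ⊆ ((T : Subgroup X) : Set X)) :
    ∃ y ∈ Subgroup.normalizer ((W (Pr X) D₀ : Subgroup X) : Set X), AgreeOn B y z := by
  have hKn : (pPrimeCore p X).Normal := Cfsg.Agent.Lib.Helper1_Cores.pPrimeCore_normal p
  have hKcop : (Nat.card (pPrimeCore p X)).Coprime p :=
    Cfsg.Agent.Lib.Helper1_Cores.pPrimeCore_card_coprime p
  have hVn := map_W_normal hPr T D₀ hD₀ hc hst
  set K := pPrimeCore p X with hK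
  set V := W (Pr X) D₀ with hV
  have hVD : V ≤ D₀ := W_le' hPr D₀
  have hVT : V ≤ (T : Subgroup X) := hVD.trans hD₀.1
  have hTp : IsPGroup p (T : Subgroup X) := T.isPGroup'
  have hcjV : ∀ g : X, cj g V ≤ V ⊔ K := by
    intro g
    rintro _ ⟨x, hx, rfl⟩
    have h1 : QuotientGroup.mk' K (g * x * g⁻¹) ∈ V.map (QuotientGroup.mk' K) := by
      rw [map_mul, map_mul, map_inv]
      exact hVn.conj_mem _ ⟨x, hx, rfl⟩ _
    obtain ⟨w, hw, hwx⟩ := h1
    have hk : w⁻¹ * (g * x * g⁻¹) ∈ K := by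
      rw [← QuotientGroup.ker_mk' K, MonoidHom.mem_ker, map_mul, map_inv, hwx, inv_mul_cancel]
    have e : (MulAut.conj g).toMonoidHom x = w * (w⁻¹ * (g * x * g⁻¹)) := by
      simp [MulAut.conj_apply]
    rw [e]
    exact Subgroup.mul_mem_sup hw hk
  set Y := Subgroup.closure B with hY
  have hYT : Y ≤ (T : Subgroup X) := (Subgroup.closure_le _).mpr hB
  have hY₂T : cj z Y ≤ (T : Subgroup X) := cjs_subset_coe_iff.mp hz
  set J := cj z Y ⊔ V with hJ
  have hJT : J ≤ (T : Subgroup X) := sup_le hY₂T hVT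
  have hJp : IsPGroup p J := hTp.to_le hJT
  set R := cj z (Y ⊔ V) with hR
  have hRp : IsPGroup p R := isPGroup_cj (hTp.to_le (sup_le hYT hVT))
  have hRJ : R ≤ J ⊔ K := by
    rw [hR]
    show Subgroup.map (MulAut.conj z).toMonoidHom (Y ⊔ V) ≤ J ⊔ K
    rw [Subgroup.map_sup]
    apply sup_le
    · exact le_sup_left.trans le_sup_left
    · exact (hcjV z).trans (sup_le_sup_right le_sup_right K)
  obtain ⟨m, hm, hmR⟩ := exists_cj_le_of_le_sup K hKcop J R hJp hRp hRJ
  have hJK : J ⊓ K = ⊥ :=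
    Cfsg.Agent.Lib.Helper32_Sylow.inf_eq_bot_of_pgroup_of_coprime hJp hKcop
  refine ⟨m * z, ?_, ?_⟩
  · rw [mem_normalizer_iff_cj]
    apply Subgroup.eq_of_le_of_card_ge
    · intro x hx
      have h1 : x ∈ J := by
        apply hmR
        rw [cj_mul] at hx
        exact cj_mono (cj_mono le_sup_right) hx
      have h2 : x ∈ V ⊔ K := hcjV (m * z) hx
      obtain ⟨v, hv, k, hk, rfl⟩ := Subgroup.mem_sup_of_normal_right.mp h2
      have hk' : k ∈ J ⊓ K := by
        refine ⟨?_, hk⟩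
        have := J.mul_mem (J.inv_mem (le_sup_right (a := cj z Y) hv)) h1
        simpa using this
      rw [hJK, Subgroup.mem_bot] at hk'
      rw [hk', mul_one]; exact hv
    · rw [Cfsg.Agent.Lib.Helper33_Alperin.card_cj]
  · intro b hb
    have hbY : b ∈ Y := Subgroup.subset_closure hb
    have hb₂J : z * b * z⁻¹ ∈ J := le_sup_left (a := cj z Y) (conj_mem_cj hbY)
    have h1 : m * (z * b * z⁻¹) * m⁻¹ ∈ J :=
      hmR (conj_mem_cj (conj_mem_cj (le_sup_left (b := V) hbY)))
    have h2 : m * (z * b * z⁻¹) * m⁻¹ * (z * b * z⁻¹)⁻¹ ∈ J ⊓ K := by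
      refine ⟨J.mul_mem h1 (J.inv_mem hb₂J), ?_⟩
      have e : m * (z * b * z⁻¹) * m⁻¹ * (z * b * z⁻¹)⁻¹ =
          m * ((z * b * z⁻¹) * m⁻¹ * (z * b * z⁻¹)⁻¹) := by group
      rw [e]
      exact K.mul_mem hm (hKn.conj_mem _ (K.inv_mem hm) _)
    rw [hJK, Subgroup.mem_bot] at h2
    calc m * z * b * (m * z)⁻¹
        = (m * (z * b * z⁻¹) * m⁻¹ * (z * b * z⁻¹)⁻¹) * (z * b * z⁻¹) := by group
      _ = z * b * z⁻¹ := by rw [h2, one_mul]

/-- local control inside a subgroup `N` of `G` in which `P ⊓ N` is a Sylow `p`-subgroup -/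
theorem local_control_sub (hPr : PFam p Pr) {G : Type u} [Group G] [Finite G] (P : Sylow p G)
    (D : Subgroup G) (hD : IsStronglyClosed D (P : Subgroup G)) (hst : IsNormalizerPStable p G)
    (N : Subgroup G) (hc : IsPConstrained p ↥N)
    (hfn : ¬ p ∣ ((P : Subgroup G) ⊓ N).relIndex N)
    (B : Set G) (hB : B ⊆ (((P : Subgroup G) ⊓ N : Subgroup G) : Set G)) (z : G) (hzN : z ∈ N)
    (hz : cjs z B ⊆ (((P : Subgroup G) ⊓ N : Subgroup G) : Set G)) :
    ∃ y ∈ Subgroup.normalizer ((W (Pr G) (((P : Subgroup G) ⊓ N) ⊓ D) : Subgroup G) : Set G),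
      AgreeOn B y z := by
  have hQ' : IsPGroup p (((P : Subgroup G) ⊓ N).subgroupOf N) :=
    (P.isPGroup'.to_le inf_le_left).comap_subtype
  let T : Sylow p ↥N := hQ'.toSylow hfn
  have hT : (T : Subgroup ↥N) = ((P : Subgroup G) ⊓ N).subgroupOf N :=
    IsPGroup.toSylow_coe hQ' hfn
  have hD₀ : IsStronglyClosed ((((P : Subgroup G) ⊓ N) ⊓ D).subgroupOf N) (T : Subgroup ↥N) := by
    rw [hT]; exact isStronglyClosed_subgroupOf hD N _ inf_le_left
  have hstN : IsNormalizerPStable p ↥N := Cfsg.Agent.S3836.result hst N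
  have hB₀ : (N.subtype ⁻¹' B) ⊆ ((T : Subgroup ↥N) : Set ↥N) := by
    intro x hx
    rw [hT, SetLike.mem_coe, Subgroup.mem_subgroupOf]
    exact hB hx
  have hz₀ : cjs (⟨z, hzN⟩ : ↥N) (N.subtype ⁻¹' B) ⊆ ((T : Subgroup ↥N) : Set ↥N) := by
    rintro _ ⟨b, hb, rfl⟩
    rw [hT, SetLike.mem_coe, Subgroup.mem_subgroupOf]
    apply hz
    exact ⟨(b : G), hb, by simp⟩
  obtain ⟨y₀, hy₀, hag⟩ := local_control hPr T _ hD₀ hc hstN (N.subtype ⁻¹' B) hB₀ ⟨z, hzN⟩ hz₀
  have hmapD : ((((P : Subgroup G) ⊓ N) ⊓ D).subgroupOf N).map N.subtype =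
      ((P : Subgroup G) ⊓ N) ⊓ D :=
    Subgroup.map_subgroupOf_eq_of_le (inf_le_left.trans inf_le_right)
  have hW : W (Pr G) (((P : Subgroup G) ⊓ N) ⊓ D) =
      (W (Pr ↥N) ((((P : Subgroup G) ⊓ N) ⊓ D).subgroupOf N)).map N.subtype := by
    rw [← W_map' hPr N.subtype _ (fun x _ hx => by
      apply Subtype.ext
      simpa using hx), hmapD]
  refine ⟨(y₀ : G), ?_, ?_⟩
  · rw [hW]
    apply Subgroup.mem_normalizer_fintype
    rintro _ ⟨w, hw, rfl⟩
    refine ⟨y₀ * w * y₀⁻¹, ?_, by simp⟩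
    exact (Subgroup.mem_normalizer_iff.mp hy₀ w).mp hw
  · intro b hb
    have hbN : b ∈ N := (hB hb).2
    have := hag ⟨b, hbN⟩ hb
    have h2 := congrArg Subtype.val this
    simpa using h2

end locals

section global

variable {G : Type u} [Group G]

/-- the relation: conjugation by `g` on `A ⊆ P` with `g A g⁻¹ ⊆ P` is induced by an element of
`M` -/
def CR (P M : Subgroup G) (A : Set G) (g : G) : Prop :=
  A ⊆ (P : Set G) ∧ cjs g A ⊆ (P : Set G) ∧ ∃ x ∈ M, AgreeOn A x g

theorem CR.fusionRel (P M : Subgroup G) : FusionRel (CR P M) where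
  restrict := by
    rintro A A' g ⟨hA, hgA, x, hx, hag⟩ hA'
    exact ⟨hA'.trans hA, (cjs_mono hA').trans hgA, x, hx, hag.mono hA'⟩
  trans := by
    rintro A g h ⟨hA, hgA, x, hx, hag⟩ ⟨_, hhA, x', hx', hag'⟩
    refine ⟨hA, by rw [cjs_mul]; exact hhA, x' * x, M.mul_mem hx' hx, ?_⟩
    have e : cjs x A = cjs g A := hag.cjs_eq
    exact hag.mul (by rw [e]; exact hag')
  symm := by
    rintro A g ⟨hA, hgA, x, hx, hag⟩
    refine ⟨hgA, by rw [cjs_inv_cjs]; exact hA, x⁻¹, M.inv_mem hx, ?_⟩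
    have := hag.inv
    rwa [hag.cjs_eq] at this

theorem CR.of_agree {P M : Subgroup G} {A : Set G} {g h : G} (hg : CR P M A g)
    (hag : AgreeOn A g h) : CR P M A h := by
  obtain ⟨hA, hgA, x, hx, hag'⟩ := hg
  exact ⟨hA, by rw [← hag.cjs_eq]; exact hgA, x, hx, hag'.trans hag⟩

variable {p : ℕ} [Fact p.Prime] {Pr : ∀ (Y : Type u) [Group Y], Subgroup Y → Prop}

/-- Alperin's induction for the normalizer of `W(D)`, `D ≠ 1` strongly closed. -/
theorem alperin_D (hPr : PFam p Pr) [Finite G] (P : Sylow p G) (D : Subgroup G)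
    (hD : IsStronglyClosed D (P : Subgroup G)) (hDne : D ≠ ⊥) (hst : IsNormalizerPStable p G)
    (hc : ∀ U : Subgroup G, U ≤ (P : Subgroup G) → U ≠ ⊥ →
      IsPConstrained p ↥(Subgroup.normalizer (U : Set G))) :
    ∀ Q : Subgroup G, Q ≤ (P : Subgroup G) → ∀ g : G, cj g Q ≤ (P : Subgroup G) →
      CR (P : Subgroup G) (Subgroup.normalizer ((W (Pr G) D : Subgroup G) : Set G))
        (Q : Set G) g := by
  set M := Subgroup.normalizer ((W (Pr G) D : Subgroup G) : Set G) with hM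
  have hR := CR.fusionRel (P : Subgroup G) M
  have hPD : (P : Subgroup G) ≤ Subgroup.normalizer (D : Set G) :=
    le_normalizer_of_stronglyClosed hD.1 hD.2
  -- a nontrivial element of `D` central in `P`
  obtain ⟨z₀, hz₀D, hz₀c, hz₀1⟩ :
      ∃ z₀ ∈ D, (∀ s ∈ (P : Subgroup G), z₀ * s = s * z₀) ∧ z₀ ≠ 1 := by
    have hn : (D.subgroupOf (P : Subgroup G)).Normal :=
      (Subgroup.normal_subgroupOf_iff_le_normalizer hD.1).mpr hPD
    have hne : D.subgroupOf (P : Subgroup G) ≠ ⊥ := by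
      intro h
      apply hDne
      rw [eq_bot_iff]
      intro d hd
      have : (⟨d, hD.1 hd⟩ : ↥(P : Subgroup G)) ∈ D.subgroupOf (P : Subgroup G) := by
        rw [Subgroup.mem_subgroupOf]; exact hd
      rw [h, Subgroup.mem_bot] at this
      rw [Subgroup.mem_bot]
      exact congrArg Subtype.val this
    obtain ⟨z, hzN, hzc, hz1⟩ := Cfsg.Agent.Lib.Helper32_PGroup.exists_mem_center_of_normal
      (p := p) (P.isPGroup') (D.subgroupOf (P : Subgroup G)) hne
    refine ⟨(z : G), Subgroup.mem_subgroupOf.mp hzN, ?_, ?_⟩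
    · intro s hs
      have := Subgroup.mem_center_iff.mp hzc ⟨s, hs⟩
      have h2 := congrArg Subtype.val this
      simpa using h2.symm
    · intro h
      apply hz1
      exact Subtype.ext h
  have hz₀P : z₀ ∈ (P : Subgroup G) := hD.1 hz₀D
  have hz₀N : ∀ U' : Subgroup G, U' ≤ (P : Subgroup G) →
      z₀ ∈ (P : Subgroup G) ⊓ Subgroup.normalizer (U' : Set G) := by
    intro U' hU'
    refine ⟨hz₀P, ?_⟩
    apply Subgroup.mem_normalizer_fintype
    intro u hu
    have : z₀ * u * z₀⁻¹ = u := by rw [hz₀c u (hU' hu)]; group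
    rw [this]; exact hu
  have hfull : ∀ T : Subgroup G, T ≤ (P : Subgroup G) → ∃ U ∈ (Set.univ : Set (Subgroup G)),
      U ≤ (P : Subgroup G) ∧ (∃ g : G, cj g T = U) ∧
      ¬ p ∣ ((P : Subgroup G) ⊓ Subgroup.normalizer (U : Set G)).relIndex
        (Subgroup.normalizer (U : Set G)) := by
    intro T hT
    obtain ⟨g, hg1, hg2⟩ := Cfsg.Agent.S1959.exists_fully_normalized P T hT
    exact ⟨cj g T, Set.mem_univ _, hg1, ⟨g, rfl⟩, hg2⟩
  apply alperin P Set.univ hfull (CR (P : Subgroup G) M) hR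
  intro U _ hUS hUfn IH m hm
  by_cases hUbot : U = ⊥
  · subst hUbot
    have h1 : ∀ a ∈ ((⊥ : Subgroup G) : Set G), a = 1 := by
      intro a ha; simpa using ha
    refine ⟨?_, ?_, 1, M.one_mem, ?_⟩
    · intro a ha; rw [h1 a ha]; exact Subgroup.one_mem _
    · rintro _ ⟨a, ha, rfl⟩
      rw [h1 a ha]
      simp
    · intro a ha
      rw [h1 a ha]; simp
  -- local control at a fully normalized subgroup
  have LC : ∀ U' : Subgroup G, U' ≤ (P : Subgroup G) → U' ≠ ⊥ →
      ¬ p ∣ ((P : Subgroup G) ⊓ Subgroup.normalizer (U' : Set G)).relIndex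
        (Subgroup.normalizer (U' : Set G)) →
      ∀ B : Set G, B ⊆ (((P : Subgroup G) ⊓ Subgroup.normalizer (U' : Set G) : Subgroup G) : Set G) →
      ∀ z ∈ Subgroup.normalizer (U' : Set G),
      cjs z B ⊆ (((P : Subgroup G) ⊓ Subgroup.normalizer (U' : Set G) : Subgroup G) : Set G) →
      ∃ y ∈ Subgroup.normalizer ((W (Pr G)
        (((P : Subgroup G) ⊓ Subgroup.normalizer (U' : Set G)) ⊓ D) : Subgroup G) : Set G),
        AgreeOn B y z :=
    fun U' hU'P hU'ne hU'fn B hB z hz hzB =>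
      local_control_sub hPr P D hD hst _ (hc U' hU'P hU'ne) hU'fn B hB z hz hzB
  -- the climbing claim
  have C : ∀ n : ℕ, ∀ P₁ : Subgroup G, P₁ ≤ (P : Subgroup G) →
      Nat.card (P : Subgroup G) - Nat.card P₁ = n → z₀ ∈ P₁ →
      (Nat.card U < Nat.card P₁ ∨ P₁ = (P : Subgroup G)) →
      ∀ z ∈ Subgroup.normalizer ((W (Pr G) (P₁ ⊓ D) : Subgroup G) : Set G), ∀ B : Set G,
        B ⊆ (P₁ : Set G) → cjs z B ⊆ (P₁ : Set G) → CR (P : Subgroup G) M B z := by
    intro n
    induction n using Nat.strong_induction_on with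
    | _ n ihC =>
    intro P₁ hP₁S hn hz₀P₁ hcard z hz B hBP hzB
    rcases eq_or_lt_of_le hP₁S with hPeq | hPlt
    · subst hPeq
      rw [inf_eq_right.mpr hD.1] at hz
      exact ⟨hBP, hzB, z, hz, AgreeOn.refl B z⟩
    · have hcardP : Nat.card U < Nat.card P₁ := hcard.resolve_right hPlt.ne
      have hP₁p : IsPGroup p P₁ := P.2.to_le hP₁S
      have hE : P₁ ⊓ D ≠ ⊥ := by
        intro h
        have : z₀ ∈ P₁ ⊓ D := ⟨hz₀P₁, hz₀D⟩
        rw [h, Subgroup.mem_bot] at this
        exact hz₀1 this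
      set V₁ := W (Pr G) (P₁ ⊓ D) with hV₁
      have hVne : V₁ ≠ ⊥ := hPr.ne_bot G (P₁ ⊓ D) (hP₁p.to_le inf_le_left) hE
      have hVP : V₁ ≤ P₁ := (W_le' hPr _).trans inf_le_left
      have h1 : P₁ < (P : Subgroup G) ⊓ Subgroup.normalizer (P₁ : Set G) :=
        lt_inf_normalizer P.2 hPlt
      have h2 : (P : Subgroup G) ⊓ Subgroup.normalizer (P₁ : Set G) ≤
          (P : Subgroup G) ⊓ Subgroup.normalizer (V₁ : Set G) := by
        intro s hs
        refine ⟨hs.1, ?_⟩
        apply normalizer_le_normalizer_W hPr (P₁ ⊓ D)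
        exact Subgroup.inf_normalizer_le_normalizer_inf ⟨hs.2, hPD hs.1⟩
      obtain ⟨k₀, hk₀S, hk₀fn⟩ :=
        Cfsg.Agent.S1959.exists_fully_normalized P V₁ (hVP.trans hP₁S)
      obtain ⟨k, hkV, hkN⟩ := exists_cj_normalizer_le P k₀ rfl hk₀fn
      set U' := cj k₀ V₁ with hU'
      have hc1 : Nat.card P₁ < Nat.card ((P : Subgroup G) ⊓
          Subgroup.normalizer (V₁ : Set G) : Subgroup G) :=
        lt_of_lt_of_le (Cfsg.Agent.Lib.Helper33_Alperin.card_lt_of_lt h1)
          (Subgroup.card_le_of_le h2)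
      have hc2 : Nat.card ((P : Subgroup G) ⊓
          Subgroup.normalizer (V₁ : Set G) : Subgroup G) ≤
          Nat.card ((P : Subgroup G) ⊓ Subgroup.normalizer (U' : Set G) : Subgroup G) := by
        rw [← Cfsg.Agent.Lib.Helper33_Alperin.card_cj k]
        exact Subgroup.card_le_of_le hkN
      have hc3 : Nat.card ((P : Subgroup G) ⊓ Subgroup.normalizer (U' : Set G) : Subgroup G) ≤
          Nat.card (P : Subgroup G) := Subgroup.card_le_of_le inf_le_left
      have hU'ne : U' ≠ ⊥ := by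
        intro h
        apply hVne
        have : cj k⁻¹ U' = V₁ := by rw [← hkV, cj_inv_cj]
        rw [← this, h]
        exact Subgroup.map_bot _
      have hRk : CR (P : Subgroup G) M (((P : Subgroup G) ⊓
          Subgroup.normalizer (V₁ : Set G) : Subgroup G) : Set G) k :=
        IH _ inf_le_left (by omega) k (hkN.trans inf_le_left)
      have hBV : B ⊆ (((P : Subgroup G) ⊓
          Subgroup.normalizer (V₁ : Set G) : Subgroup G) : Set G) :=
        hBP.trans (h1.le.trans h2)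
      have hzBV : cjs z B ⊆ (((P : Subgroup G) ⊓
          Subgroup.normalizer (V₁ : Set G) : Subgroup G) : Set G) :=
        hzB.trans (h1.le.trans h2)
      have hRBk := hR.restrict _ _ _ hRk hBV
      have hRzBk := hR.restrict _ _ _ hRk hzBV
      have hz' : k * z * k⁻¹ ∈ Subgroup.normalizer (U' : Set G) := by
        rw [← hkV, ← cj_normalizer]; exact conj_mem_cj hz
      have hcjk : cjs k (((P : Subgroup G) ⊓
          Subgroup.normalizer (V₁ : Set G) : Subgroup G) : Set G) ⊆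
          (((P : Subgroup G) ⊓ Subgroup.normalizer (U' : Set G) : Subgroup G) : Set G) := by
        rw [← coe_cj]; exact hkN
      have hB' : cjs k B ⊆
          (((P : Subgroup G) ⊓ Subgroup.normalizer (U' : Set G) : Subgroup G) : Set G) :=
        (cjs_mono hBV).trans hcjk
      have e0 : cjs (k * z * k⁻¹) (cjs k B) = cjs k (cjs z B) := by
        rw [← cjs_mul, ← cjs_mul]; congr 1; group
      have hz'B' : cjs (k * z * k⁻¹) (cjs k B) ⊆
          (((P : Subgroup G) ⊓ Subgroup.normalizer (U' : Set G) : Subgroup G) : Set G) := by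
        rw [e0]; exact (cjs_mono hzBV).trans hcjk
      obtain ⟨y, hy, hag⟩ := LC U' hk₀S hU'ne hk₀fn (cjs k B) hB' (k * z * k⁻¹) hz' hz'B'
      have CP' := ihC (Nat.card (P : Subgroup G) - Nat.card ((P : Subgroup G) ⊓
        Subgroup.normalizer (U' : Set G) : Subgroup G)) (by omega) _ inf_le_left rfl
        (hz₀N U' hk₀S) (Or.inl (by omega)) y hy (cjs k B) hB'
        (by rw [hag.cjs_eq]; exact hz'B')
      have hRB'z := CP'.of_agree hag
      have h3 := hR.trans B k (k * z * k⁻¹) hRBk hRB'z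
      have h4 := hR.symm _ _ hRzBk
      have e : cjs (k * z * k⁻¹ * k) B = cjs k (cjs z B) := by
        rw [← cjs_mul]; congr 1; group
      have h5 := hR.trans B _ k⁻¹ h3 (by rw [e]; exact h4)
      have e5 : k⁻¹ * (k * z * k⁻¹ * k) = z := by group
      rwa [e5] at h5
  -- apply the claim to `N_P(U)`
  have hUP : U ≤ (P : Subgroup G) ⊓ Subgroup.normalizer (U : Set G) :=
    le_inf hUS Subgroup.le_normalizer
  have hcardP : Nat.card U < Nat.card ((P : Subgroup G) ⊓
      Subgroup.normalizer (U : Set G) : Subgroup G) ∨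
      (P : Subgroup G) ⊓ Subgroup.normalizer (U : Set G) = (P : Subgroup G) := by
    rcases eq_or_lt_of_le hUS with h | h
    · right
      rw [h]
      exact inf_eq_left.mpr Subgroup.le_normalizer
    · left
      exact Cfsg.Agent.Lib.Helper33_Alperin.card_lt_of_lt (lt_inf_normalizer P.2 h)
  have hmU : cjs m (U : Set G) = (U : Set G) := by
    rw [← coe_cj, mem_normalizer_iff_cj.mp hm]
  obtain ⟨y, hy, hag⟩ := LC U hUS hUbot hUfn (U : Set G) hUP m hm (by rw [hmU]; exact hUP)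
  have key := C _ _ inf_le_left rfl (hz₀N U hUS) hcardP y hy (U : Set G) hUP
    (by rw [hag.cjs_eq, hmU]; exact hUP)
  exact key.of_agree hag

/-- **Control of strong fusion by `N_G(W(D))`**, `D` strongly closed in the Sylow `p`-subgroup
`P`, for `G` `p`-stable in the normalizer form with `p`-constrained `p`-local subgroups. -/
theorem controls (hPr : PFam p Pr) [Finite G] (P : Sylow p G) (D : Subgroup G)
    (hD : IsStronglyClosed D (P : Subgroup G)) (hst : IsNormalizerPStable p G)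
    (hc : ∀ U : Subgroup G, U ≤ (P : Subgroup G) → U ≠ ⊥ →
      IsPConstrained p ↥(Subgroup.normalizer (U : Set G)))
    (A : Set G) (hA : A ⊆ ((P : Subgroup G) : Set G)) :
    ControlsStrongFusionOf (Subgroup.normalizer ((W (Pr G) D : Subgroup G) : Set G))
      (P : Subgroup G) A := by
  refine ⟨hA, ?_⟩
  intro g hgA
  by_cases hDne : D = ⊥
  · refine ⟨g, ?_, fun a _ => rfl⟩
    have hWb : W (Pr G) D = ⊥ := by
      rw [eq_bot_iff, ← hDne]
      exact W_le' hPr D
    rw [hWb]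
    apply Subgroup.mem_normalizer_fintype
    intro n hn
    have : n = 1 := by simpa using hn
    rw [this]; simp
  · have hgA' : cjs g A ⊆ ((P : Subgroup G) : Set G) := hgA
    have key := alperin_D hPr P D hD hDne hst hc (Subgroup.closure A)
      ((Subgroup.closure_le _).mpr hA) g (cjs_subset_coe_iff.mp hgA')
    obtain ⟨_, _, x, hx, hag⟩ := key
    exact ⟨x, hx, fun a ha => (hag a (Subgroup.subset_closure ha)).symm⟩

end global

end Cfsg.Agent.Lib.Helper11_FusionD
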