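import Mathlib
import Cfsg.Prelude.Def_Local
import Cfsg.Prelude.Def_TwoFusion
import Cfsg.Agent.Lib.Helper1_Cores
import Cfsg.Agent.Lib.Helper23_Layer
import Cfsg.Agent.Lib.Helper23_PConstrained
import Cfsg.Agent.Lib.Helper32_Sylow

/-!
# The local step of the Alperin–Goldschmidt conjugation theorem (helper31)

For a finite group `X` with a normal `p`-subgroup `D` and a Sylow `p`-subgroup `S`:
either there is `Q` with `D < Q ≤ S` and `X = C_X(D) N_X(Q)`, or
`C_X(D) ≤ O_{p',p}(X) = O_{p'}(X) × D`.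
-/

set_option autoImplicit false

namespace Cfsg.Agent.Lib.Helper31_AG

open Cfsg

variable {X : Type*} [Group X] [Finite X] {p : ℕ} [Fact p.Prime]

/-- `O_{p'}(X)` centralizes every normal `p`-subgroup. -/
theorem pPrimeCore_le_centralizer (D : Subgroup X) [D.Normal] (hD : IsPGroup p D) :
    pPrimeCore p X ≤ Subgroup.centralizer (D : Set X) := by
  haveI := Cfsg.Agent.Lib.Helper1_Cores.pPrimeCore_normal (G := X) p
  rw [← Subgroup.commutator_eq_bot_iff_le_centralizer]
  have h1 := Subgroup.commutator_le_inf (pPrimeCore p X) D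
  rw [Cfsg.Agent.Lib.Helper23_PConstrained.pPrimeCore_inf_eq_bot p hD] at h1
  exact le_bot_iff.mp h1

/-- A normal `p`-subgroup lies in `O_{p',p}(X)`. -/
theorem le_pPrimePCore_of_normal_pGroup (D : Subgroup X) [D.Normal] (hD : IsPGroup p D) :
    D ≤ pPrimePCore p X := by
  intro d hd
  rw [Cfsg.Agent.Lib.Helper23_PConstrained.mem_pPrimePCore_iff]
  have hn : (D.map (QuotientGroup.mk' (pPrimeCore p X))).Normal :=
    Subgroup.Normal.map inferInstance _ (QuotientGroup.mk'_surjective _)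
  exact Cfsg.Agent.Lib.Helper1_Cores.le_pCore hn (hD.map _) (Subgroup.mem_map_of_mem _ hd)

/-- `O_{p',p}(X) = O_{p'}(X) (S ∩ O_{p',p}(X))`, elementwise. -/
theorem exists_mul_of_mem_pPrimePCore (S : Sylow p X) {k : X} (hk : k ∈ pPrimePCore p X) :
    ∃ w ∈ pPrimeCore p X, ∃ q ∈ (S : Subgroup X) ⊓ pPrimePCore p X, k = w * q := by
  haveI := Cfsg.Agent.Lib.Helper1_Cores.pPrimeCore_normal (G := X) p
  have h := Cfsg.Agent.Lib.Helper23_Layer.pPrimePCore_le_sup_sylow p (pPrimePCore p X) le_rfl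
    (Cfsg.Agent.Lib.Helper32_Sylow.sylowInfNormal S (pPrimePCore p X))
  rw [Cfsg.Agent.Lib.Helper32_Sylow.map_sylowInfNormal] at h
  have hk' := h hk
  rw [← SetLike.mem_coe, Subgroup.normal_mul, Set.mem_mul] at hk'
  obtain ⟨w, hw, q, hq, rfl⟩ := hk'
  exact ⟨w, hw, q, hq, rfl⟩

/-- **Burnside step.** If `C` is normal in `X` and `S ∩ C` is central in `C`, then
`C = O_{p'}(X) (S ∩ C)` elementwise. -/
theorem exists_mul_of_central_sylow (S : Sylow p X) (C : Subgroup X) [C.Normal]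
    (hcen : ∀ z ∈ (S : Subgroup X) ⊓ C, ∀ c ∈ C, z * c = c * z) {c : X} (hc : c ∈ C) :
    ∃ t ∈ pPrimeCore p X, ∃ z ∈ (S : Subgroup X) ⊓ C, c = t * z := by
  classical
  set Z : Sylow p ↥C := Cfsg.Agent.Lib.Helper32_Sylow.sylowInfNormal S C with hZdef
  have hZcoe : ((Z : Sylow p ↥C) : Subgroup ↥C) = ((S : Subgroup X) ⊓ C).subgroupOf C :=
    Cfsg.Agent.Lib.Helper32_Sylow.coe_sylowInfNormal S C
  have hZmem : ∀ z : ↥C, z ∈ (Z : Subgroup ↥C) ↔ (z : X) ∈ (S : Subgroup X) ⊓ C := by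
    intro z
    rw [hZcoe, Subgroup.mem_subgroupOf]
  have hZ : Subgroup.normalizer ((Z : Subgroup ↥C) : Set ↥C) ≤
      Subgroup.centralizer ((Z : Subgroup ↥C) : Set ↥C) := by
    intro g _
    rw [Subgroup.mem_centralizer_iff]
    intro z hz
    have := hcen (z : X) ((hZmem z).mp hz) (g : X) g.2
    exact Subtype.ext this
  have hcompl := MonoidHom.ker_transferSylow_isComplement' Z hZ
  have hndvd := MonoidHom.not_dvd_card_ker_transferSylow Z hZ
  set φ := MonoidHom.transferSylow Z hZ with hφ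
  set T : Subgroup ↥C := φ.ker with hT
  have hTcop : (Nat.card T).Coprime p :=
    ((Nat.Prime.coprime_iff_not_dvd (Fact.out : p.Prime)).mpr hndvd).symm
  -- `T.map C.subtype` is normal in `X`
  have hTn : (T.map C.subtype).Normal := by
    constructor
    rintro _ ⟨t, ht, rfl⟩ x
    have hyC : x * (t : X) * x⁻¹ ∈ C := ‹C.Normal›.conj_mem _ t.2 x
    refine ⟨⟨x * (t : X) * x⁻¹, hyC⟩, ?_, rfl⟩
    rw [SetLike.mem_coe, hT, MonoidHom.mem_ker]
    set y : ↥C := ⟨x * (t : X) * x⁻¹, hyC⟩ with hy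
    have ho1 : orderOf (φ y) ∣ orderOf y := orderOf_map_dvd φ y
    have ho2 : orderOf y = orderOf t := by
      rw [← Subgroup.orderOf_coe, ← Subgroup.orderOf_coe t]
      exact (MulAut.conj x).orderOf_eq (t : X)
    have ho3 : orderOf t ∣ Nat.card T := by
      have := orderOf_dvd_natCard (⟨t, ht⟩ : T)
      rwa [← Subgroup.orderOf_coe] at this
    obtain ⟨k, hk⟩ := Z.2 (φ y)
    have ho4 : orderOf (φ y) ∣ p ^ k := orderOf_dvd_of_pow_eq_one hk
    have ho5 : orderOf (φ y) ∣ Nat.card T := ho1.trans (ho2 ▸ ho3)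
    have hcop : (Nat.card T).Coprime (p ^ k) := Nat.Coprime.pow_right k hTcop
    exact orderOf_eq_one_iff.mp (Nat.eq_one_of_dvd_coprimes hcop ho5 ho4)
  have hTle : T.map C.subtype ≤ pPrimeCore p X := by
    apply Cfsg.Agent.Lib.Helper1_Cores.le_pPrimeCore hTn
    rw [Subgroup.card_map_of_injective C.subtype_injective]
    exact hTcop
  obtain ⟨⟨⟨t, ht⟩, ⟨z, hz⟩⟩, hx, -⟩ := (Subgroup.isComplement'_def.mp hcompl).existsUnique ⟨c, hc⟩
  refine ⟨(t : X), hTle ⟨t, ht, rfl⟩, (z : X), (hZmem z).mp hz, ?_⟩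
  have := congrArg Subtype.val hx
  simpa using this.symm

/-- **The local dichotomy of Alperin–Goldschmidt.** -/
theorem local_dichotomy (S : Sylow p X) (D : Subgroup X) [D.Normal] (hD : IsPGroup p D) :
    (∃ Q : Subgroup X, D < Q ∧ Q ≤ S ∧ ∀ m : X, ∃ c ∈ Subgroup.centralizer (D : Set X),
        ∃ n ∈ Subgroup.normalizer (Q : Set X), m = c * n) ∨
    (Subgroup.centralizer (D : Set X) ≤ pPrimePCore p X ∧
      IsInternalDirectProduct (pPrimeCore p X) D (pPrimePCore p X)) := by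
  have hWn := Cfsg.Agent.Lib.Helper1_Cores.pPrimeCore_normal (G := X) p
  have hDS : D ≤ S := hD.le_sylow_of_normal S
  have hDK : D ≤ pPrimePCore p X := le_pPrimePCore_of_normal_pGroup D hD
  have hWC := pPrimeCore_le_centralizer D hD
  have hWK := Cfsg.Agent.Lib.Helper23_Layer.pPrimeCore_le_pPrimePCore X p
  by_cases h1 : D = (S : Subgroup X) ⊓ pPrimePCore p X
  swap
  · left
    refine ⟨(S : Subgroup X) ⊓ pPrimePCore p X, lt_of_le_of_ne (le_inf hDS hDK) h1, inf_le_left, ?_⟩
    intro m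
    obtain ⟨k, hk, n, hn, rfl⟩ := Cfsg.Agent.Lib.Helper32_Sylow.frattini_inf S (pPrimePCore p X) m
    obtain ⟨w, hw, q, hq, rfl⟩ := exists_mul_of_mem_pPrimePCore S hk
    exact ⟨w, hWC hw, q * n, mul_mem (Subgroup.le_normalizer hq) hn, by group⟩
  by_cases h2 : D = (S : Subgroup X) ⊓ (Subgroup.centralizer (D : Set X) ⊔ D)
  swap
  · left
    refine ⟨(S : Subgroup X) ⊓ (Subgroup.centralizer (D : Set X) ⊔ D),
      lt_of_le_of_ne (le_inf hDS le_sup_right) h2, inf_le_left, ?_⟩
    intro m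
    obtain ⟨k, hk, n, hn, rfl⟩ := Cfsg.Agent.Lib.Helper32_Sylow.frattini_inf S
      (Subgroup.centralizer (D : Set X) ⊔ D) m
    rw [← SetLike.mem_coe, Subgroup.normal_mul, Set.mem_mul] at hk
    obtain ⟨c, hc, d, hd, rfl⟩ := hk
    refine ⟨c, hc, d * n, mul_mem (Subgroup.le_normalizer ?_) hn, by group⟩
    exact Subgroup.mem_inf.mpr ⟨hDS hd, Subgroup.mem_sup_right hd⟩
  right
  -- the structure of `K`
  have hK : pPrimePCore p X ≤ pPrimeCore p X ⊔ D := by
    intro k hk
    obtain ⟨w, hw, q, hq, rfl⟩ := exists_mul_of_mem_pPrimePCore S hk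
    rw [← h1] at hq
    exact mul_mem (Subgroup.mem_sup_left hw) (Subgroup.mem_sup_right hq)
  refine ⟨?_, hWK, hDK, ?_, Cfsg.Agent.Lib.Helper23_PConstrained.pPrimeCore_inf_eq_bot p hD,
    le_antisymm (sup_le hWK hDK) hK⟩
  · -- `C_X(D) ≤ K`
    intro c hc
    have hcen : ∀ z ∈ (S : Subgroup X) ⊓ Subgroup.centralizer (D : Set X),
        ∀ c ∈ Subgroup.centralizer (D : Set X), z * c = c * z := by
      intro z hz c hc
      have hzD : z ∈ D := by
        rw [h2]
        exact Subgroup.mem_inf.mpr ⟨(Subgroup.mem_inf.mp hz).1,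
          Subgroup.mem_sup_left (Subgroup.mem_inf.mp hz).2⟩
      exact Subgroup.mem_centralizer_iff.mp hc z hzD
    obtain ⟨t, ht, z, hz, rfl⟩ := exists_mul_of_central_sylow S (Subgroup.centralizer (D : Set X))
      hcen hc
    have hzD : z ∈ D := by
      rw [h2]
      exact Subgroup.mem_inf.mpr ⟨(Subgroup.mem_inf.mp hz).1,
        Subgroup.mem_sup_left (Subgroup.mem_inf.mp hz).2⟩
    exact mul_mem (hWK ht) (hDK hzD)
  · intro a ha b hb
    exact (Subgroup.mem_centralizer_iff.mp (hWC ha) b hb).symm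

/-- `IsInternalDirectProduct` is preserved by injective homomorphisms. -/
theorem isInternalDirectProduct_map {Y : Type*} [Group Y] {Z : Type*} [Group Z] (f : Y →* Z)
    (hf : Function.Injective f) {A B C : Subgroup Y} (h : IsInternalDirectProduct A B C) :
    IsInternalDirectProduct (A.map f) (B.map f) (C.map f) := by
  obtain ⟨h1, h2, h3, h4, h5⟩ := h
  refine ⟨Subgroup.map_mono h1, Subgroup.map_mono h2, ?_, ?_, ?_⟩
  · rintro _ ⟨a, ha, rfl⟩ _ ⟨b, hb, rfl⟩
    rw [← map_mul, ← map_mul, h3 a ha b hb]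
  · rw [← Subgroup.map_inf _ _ f hf, h4, Subgroup.map_bot]
  · rw [← Subgroup.map_sup, h5]

/-- **The local step in `G`.** Let `D ≤ P` with `N_P(D)` a Sylow `p`-subgroup of `N = N_G(D)`.
Either there is `Q` with `D < Q ≤ P` and `N ⊆ C_G(D) N_G(Q)`, or `D` satisfies the
Alperin–Goldschmidt conditions. -/
theorem local_step {G : Type*} [Group G] [Finite G] (P : Sylow p G) (D N : Subgroup G)
    (hN : N = Subgroup.normalizer (D : Set G)) (hDP : D ≤ P)
    (hfn : ¬ p ∣ ((P : Subgroup G) ⊓ N).relIndex N) :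
    (∃ Q : Subgroup G, D < Q ∧ Q ≤ P ∧ ∀ m ∈ N, ∃ c ∈ Subgroup.centralizer (D : Set G),
        ∃ n ∈ Subgroup.normalizer (Q : Set G), m = c * n) ∨
    (Subgroup.centralizer (D : Set G) ≤ (pPrimePCore p ↥N).map N.subtype ∧
      IsInternalDirectProduct ((pPrimeCore p ↥N).map N.subtype) D
        ((pPrimePCore p ↥N).map N.subtype)) := by
  classical
  have hDN : D ≤ N := hN ▸ Subgroup.le_normalizer
  have hpg : IsPGroup p (((P : Subgroup G) ⊓ N).subgroupOf N) :=
    (P.2.to_le inf_le_left).comap_subtype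
  set S : Sylow p ↥N := hpg.toSylow hfn with hS
  have hScoe : (S : Subgroup ↥N) = ((P : Subgroup G) ⊓ N).subgroupOf N :=
    IsPGroup.toSylow_coe hpg hfn
  haveI hDn : (D.subgroupOf N).Normal := by
    subst hN
    exact Subgroup.normal_in_normalizer
  have hD₀ : IsPGroup p (D.subgroupOf N) := (P.2.to_le hDP).comap_subtype
  have hmapD : (D.subgroupOf N).map N.subtype = D := by
    rw [Subgroup.subgroupOf_map_subtype]
    exact inf_eq_left.mpr hDN
  have hcent : ∀ c : ↥N, c ∈ Subgroup.centralizer ((D.subgroupOf N : Subgroup ↥N) : Set ↥N) ↔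
      (c : G) ∈ Subgroup.centralizer (D : Set G) := by
    intro c
    rw [Subgroup.mem_centralizer_iff, Subgroup.mem_centralizer_iff]
    constructor
    · intro h d hd
      have := h ⟨d, hDN hd⟩ (by rw [SetLike.mem_coe, Subgroup.mem_subgroupOf]; exact hd)
      exact congrArg Subtype.val this
    · intro h d hd
      rw [SetLike.mem_coe, Subgroup.mem_subgroupOf] at hd
      exact Subtype.ext (h (d : G) hd)
  rcases local_dichotomy S (D.subgroupOf N) hD₀ with ⟨Q, hDQ, hQS, hQ⟩ | ⟨hC, hprod⟩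
  · left
    refine ⟨Q.map N.subtype, ?_, ?_, ?_⟩
    · rw [← hmapD]
      exact (Subgroup.map_lt_map_iff_of_injective N.subtype_injective).mpr hDQ
    · rintro _ ⟨q, hq, rfl⟩
      have := hQS hq
      rw [hScoe, Subgroup.mem_subgroupOf] at this
      exact this.1
    · intro m hm
      obtain ⟨c, hc, n, hn, h⟩ := hQ ⟨m, hm⟩
      refine ⟨c, (hcent c).mp hc, n, ?_, congrArg Subtype.val h⟩
      exact Subgroup.le_normalizer_map N.subtype ⟨n, hn, rfl⟩
  · right
    constructor
    · intro c hc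
      have hcN : c ∈ N := by
        rw [hN]
        exact Subgroup.centralizer_le_normalizer _ hc
      exact ⟨⟨c, hcN⟩, hC ((hcent ⟨c, hcN⟩).mpr hc), rfl⟩
    · have := isInternalDirectProduct_map N.subtype N.subtype_injective hprod
      rwa [hmapD] at this

/-- Every subgroup of `P` has a fully normalized conjugate in `P`. -/
theorem exists_fully_normalized {G : Type*} [Group G] [Finite G] (P : Sylow p G) (T : Subgroup G)
    (hT : T ≤ P) :
    ∃ g : G, T.map (MulAut.conj g).toMonoidHom ≤ P ∧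
      ¬ p ∣ ((P : Subgroup G) ⊓
        Subgroup.normalizer ((T.map (MulAut.conj g).toMonoidHom : Subgroup G) : Set G)).relIndex
        (Subgroup.normalizer ((T.map (MulAut.conj g).toMonoidHom : Subgroup G) : Set G)) := by
  classical
  set N : Subgroup G := Subgroup.normalizer (T : Set G) with hN
  have hTN : T ≤ N := Subgroup.le_normalizer
  obtain ⟨R₀⟩ : Nonempty (Sylow p ↥N) := inferInstance
  haveI hTn : (T.subgroupOf N).Normal := Subgroup.normal_in_normalizer
  have hT₀ : IsPGroup p (T.subgroupOf N) := (P.2.to_le hT).comap_subtype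
  have hTR₀ : T.subgroupOf N ≤ R₀ := hT₀.le_sylow_of_normal R₀
  set R : Subgroup G := (R₀ : Subgroup ↥N).map N.subtype with hR
  have hRN : R ≤ N := Subgroup.map_subtype_le _
  have hTR : T ≤ R := by
    intro t ht
    exact ⟨⟨t, hTN ht⟩, hTR₀ (by rw [Subgroup.mem_subgroupOf]; exact ht), rfl⟩
  have hRp : IsPGroup p R := R₀.2.map _
  obtain ⟨P', hP'⟩ := hRp.exists_le_sylow
  obtain ⟨k, hk⟩ := MulAction.exists_smul_eq G P' P
  have hkR : R.map (MulAut.conj k).toMonoidHom ≤ P := by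
    rw [← hk, Sylow.coe_subgroup_smul]
    exact Subgroup.map_mono hP'
  refine ⟨k, (Subgroup.map_mono hTR).trans hkR, ?_⟩
  have hnorm : Subgroup.normalizer ((T.map (MulAut.conj k).toMonoidHom : Subgroup G) : Set G) =
      N.map (MulAut.conj k).toMonoidHom := by
    rw [hN]
    exact (Subgroup.map_equiv_normalizer_eq T (MulAut.conj k)).symm
  rw [hnorm]
  have hle : R.map (MulAut.conj k).toMonoidHom ≤
      (P : Subgroup G) ⊓ N.map (MulAut.conj k).toMonoidHom := le_inf hkR (Subgroup.map_mono hRN)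
  intro hdvd
  have h1 := (Subgroup.relIndex_dvd_of_le_left (N.map (MulAut.conj k).toMonoidHom) hle)
  rw [Subgroup.relIndex_map_map_of_injective R N (MulAut.conj k).injective] at h1
  have h2 : R.relIndex N = (R₀ : Subgroup ↥N).index := by
    unfold Subgroup.relIndex
    rw [hR, Subgroup.subgroupOf, Subgroup.comap_map_eq_self_of_injective N.subtype_injective]
  rw [h2] at h1
  exact R₀.not_dvd_index (hdvd.trans h1)

end Cfsg.Agent.Lib.Helper31_AG
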