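import Cfsg.Agent.Lib.Helper11_FusionD
import Cfsg.Agent.Lib.Helper31_AG

/-!
# Control of strong fusion by `N_G(W(D))` without `p`-constraint (helper11)

`Pr` is a family of subgroup properties as in `Helper11_NPCD.PFam` and `𝒞` a class of finite
groups closed under subgroups and quotients all of whose members are `p`-stable in the normalizer
form. Then for `G` in `𝒞`, `P` a Sylow `p`-subgroup and `D` strongly closed in `P`,
`N_G(W (Pr G) D)` controls strong fusion in `P` (`main`). The proof is by induction on `|G|`.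
-/

set_option autoImplicit false

namespace Cfsg.Agent.Lib.Helper11_FusionQ

open Cfsg Cfsg.Agent.Lib.Helper11_ZJ Cfsg.Agent.Lib.Helper11_ZJ2 Cfsg.Agent.Lib.Helper11_ZJ3
  Cfsg.Agent.Lib.Helper11_NPCD Cfsg.Agent.Lib.Helper33_Conj Cfsg.Agent.Lib.Helper33_Alperin
  Cfsg.Agent.Lib.Helper11_FusionD

open scoped commutatorElement

universe u

/-- control of strong fusion in `P` by `N_G(W(D))`, elementwise form -/
def Ctl (Pr : ∀ (Y : Type u) [Group Y], Subgroup Y → Prop) (G : Type u) [Group G]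
    (P D : Subgroup G) : Prop :=
  ∀ (B : Set G) (z : G), B ⊆ (P : Set G) → cjs z B ⊆ (P : Set G) →
    ∃ y ∈ Subgroup.normalizer ((W (Pr G) D : Subgroup G) : Set G), AgreeOn B y z

section lift

variable {p : ℕ} [Fact p.Prime]

/-- **Lifting through a normal `p'`-subgroup `K`**: if `y₁` normalizes `V` modulo `K` and agrees
with `z` on `B` modulo `K`, then some element of `K y₁` normalizes `V` and agrees with `z` on
`B`. -/
theorem lift_coprime {X : Type*} [Group X] [Finite X] (K : Subgroup X) [hKn : K.Normal]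
    (hK : (Nat.card K).Coprime p) (T V : Subgroup X) (hT : IsPGroup p T) (hVT : V ≤ T)
    (B : Set X) (hB : B ⊆ (T : Set X)) (z : X) (hz : cjs z B ⊆ (T : Set X)) (y₁ : X)
    (h1 : cj y₁ V ≤ V ⊔ K) (h2 : ∀ b ∈ B, (y₁ * b * y₁⁻¹) * (z * b * z⁻¹)⁻¹ ∈ K) :
    ∃ y ∈ Subgroup.normalizer (V : Set X), AgreeOn B y z := by
  set Y := Subgroup.closure B with hY
  have hYT : Y ≤ T := (Subgroup.closure_le _).mpr hB
  have hY₂T : cj z Y ≤ T := cjs_subset_coe_iff.mp hz
  set J := cj z Y ⊔ V with hJ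
  have hJT : J ≤ T := sup_le hY₂T hVT
  have hJp : IsPGroup p J := hT.to_le hJT
  set R := cj y₁ (Y ⊔ V) with hR
  have hRp : IsPGroup p R := isPGroup_cj (hT.to_le (sup_le hYT hVT))
  have hRJ : R ≤ J ⊔ K := by
    rw [hR]
    show Subgroup.map (MulAut.conj y₁).toMonoidHom (Y ⊔ V) ≤ J ⊔ K
    rw [Subgroup.map_sup]
    apply sup_le
    · show cj y₁ Y ≤ J ⊔ K
      rw [hY, cj_closure, Subgroup.closure_le]
      rintro _ ⟨b, hb, rfl⟩
      have hk := h2 b hb
      have hj : z * b * z⁻¹ ∈ J :=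
        le_sup_left (a := cj z Y) (conj_mem_cj (Subgroup.subset_closure hb))
      have e : y₁ * b * y₁⁻¹ = ((y₁ * b * y₁⁻¹) * (z * b * z⁻¹)⁻¹) * (z * b * z⁻¹) := by group
      show y₁ * b * y₁⁻¹ ∈ J ⊔ K
      rw [e]
      exact Subgroup.mul_mem _ (Subgroup.mem_sup_right hk) (Subgroup.mem_sup_left hj)
    · exact h1.trans (sup_le_sup_right le_sup_right K)
  obtain ⟨m, hm, hmR⟩ := exists_cj_le_of_le_sup K hK J R hJp hRp hRJ
  have hJK : J ⊓ K = ⊥ :=
    Cfsg.Agent.Lib.Helper32_Sylow.inf_eq_bot_of_pgroup_of_coprime hJp hK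
  have hmVK : cj m (V ⊔ K) = V ⊔ K := cj_of_mem (Subgroup.mem_sup_right hm)
  refine ⟨m * y₁, ?_, ?_⟩
  · rw [mem_normalizer_iff_cj]
    apply Subgroup.eq_of_le_of_card_ge
    · intro x hx
      rw [cj_mul] at hx
      have hxJ : x ∈ J := hmR (cj_mono (cj_mono le_sup_right) hx)
      have hxVK : x ∈ V ⊔ K := by
        rw [← hmVK]
        exact cj_mono h1 hx
      obtain ⟨v, hv, k, hk, rfl⟩ := Subgroup.mem_sup_of_normal_right.mp hxVK
      have hk' : k ∈ J ⊓ K := by
        refine ⟨?_, hk⟩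
        have := J.mul_mem (J.inv_mem (le_sup_right (a := cj z Y) hv)) hxJ
        simpa using this
      rw [hJK, Subgroup.mem_bot] at hk'
      rw [hk', mul_one]; exact hv
    · rw [Cfsg.Agent.Lib.Helper33_Alperin.card_cj]
  · intro b hb
    have hbY : b ∈ Y := Subgroup.subset_closure hb
    have hb₂J : z * b * z⁻¹ ∈ J := le_sup_left (a := cj z Y) (conj_mem_cj hbY)
    have h3 : m * (y₁ * b * y₁⁻¹) * m⁻¹ ∈ J :=
      hmR (conj_mem_cj (conj_mem_cj (le_sup_left (b := V) hbY)))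
    have h4 : m * (y₁ * b * y₁⁻¹) * m⁻¹ * (z * b * z⁻¹)⁻¹ ∈ J ⊓ K := by
      refine ⟨J.mul_mem h3 (J.inv_mem hb₂J), ?_⟩
      have e : m * (y₁ * b * y₁⁻¹) * m⁻¹ * (z * b * z⁻¹)⁻¹ =
          m * ((y₁ * b * y₁⁻¹) * m⁻¹ * (y₁ * b * y₁⁻¹)⁻¹) *
            ((y₁ * b * y₁⁻¹) * (z * b * z⁻¹)⁻¹) := by group
      rw [e]
      exact K.mul_mem (K.mul_mem hm (hKn.conj_mem _ (K.inv_mem hm) _)) (h2 b hb)
    rw [hJK, Subgroup.mem_bot] at h4
    calc m * y₁ * b * (m * y₁)⁻¹
        = (m * (y₁ * b * y₁⁻¹) * m⁻¹ * (z * b * z⁻¹)⁻¹) * (z * b * z⁻¹) := by group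
      _ = z * b * z⁻¹ := by rw [h4, one_mul]

end lift

section transfer

variable {p : ℕ} [Fact p.Prime] {Pr : ∀ (Y : Type u) [Group Y], Subgroup Y → Prop}

/-- transfer of `Ctl` from a subgroup `N` of `G` in which `P ⊓ N` is a Sylow `p`-subgroup -/
theorem ctl_sub (hPr : PFam p Pr) {G : Type u} [Group G] [Finite G] (P : Sylow p G)
    (D : Subgroup G) (hD : IsStronglyClosed D (P : Subgroup G)) (N : Subgroup G)
    (hfn : ¬ p ∣ ((P : Subgroup G) ⊓ N).relIndex N)
    (hctl : ∀ (T : Sylow p ↥N) (D₀ : Subgroup ↥N), IsStronglyClosed D₀ (T : Subgroup ↥N) →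
      Ctl Pr ↥N (T : Subgroup ↥N) D₀)
    (B : Set G) (hB : B ⊆ (((P : Subgroup G) ⊓ N : Subgroup G) : Set G)) (z : G) (hzN : z ∈ N)
    (hz : cjs z B ⊆ (((P : Subgroup G) ⊓ N : Subgroup G) : Set G)) :
    ∃ y ∈ Subgroup.normalizer ((W (Pr G) (((P : Subgroup G) ⊓ N) ⊓ D) : Subgroup G) : Set G),
      y ∈ N ∧ AgreeOn B y z := by
  have hQ' : IsPGroup p (((P : Subgroup G) ⊓ N).subgroupOf N) :=
    (P.isPGroup'.to_le inf_le_left).comap_subtype
  let T : Sylow p ↥N := hQ'.toSylow hfn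
  have hT : (T : Subgroup ↥N) = ((P : Subgroup G) ⊓ N).subgroupOf N :=
    IsPGroup.toSylow_coe hQ' hfn
  have hD₀ : IsStronglyClosed ((((P : Subgroup G) ⊓ N) ⊓ D).subgroupOf N) (T : Subgroup ↥N) := by
    rw [hT]; exact isStronglyClosed_subgroupOf hD N _ inf_le_left
  have hB₀ : (N.subtype ⁻¹' B) ⊆ ((T : Subgroup ↥N) : Set ↥N) := by
    intro x hx
    rw [hT, SetLike.mem_coe, Subgroup.mem_subgroupOf]
    exact hB hx
  have hz₀ : cjs (⟨z, hzN⟩ : ↥N) (N.subtype ⁻¹' B) ⊆ ((T : Subgroup ↥N) : Set ↥N) := by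
    rintro _ ⟨b, hb, rfl⟩
    rw [hT, SetLike.mem_coe, Subgroup.mem_subgroupOf]
    apply hz
    exact ⟨(b : G), hb, by simp⟩
  obtain ⟨y₀, hy₀, hag⟩ := hctl T _ hD₀ (N.subtype ⁻¹' B) ⟨z, hzN⟩ hB₀ hz₀
  have hmapD : ((((P : Subgroup G) ⊓ N) ⊓ D).subgroupOf N).map N.subtype =
      ((P : Subgroup G) ⊓ N) ⊓ D :=
    Subgroup.map_subgroupOf_eq_of_le (inf_le_left.trans inf_le_right)
  have hW : W (Pr G) (((P : Subgroup G) ⊓ N) ⊓ D) =
      (W (Pr ↥N) ((((P : Subgroup G) ⊓ N) ⊓ D).subgroupOf N)).map N.subtype := by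
    rw [← W_map' hPr N.subtype _ (fun x _ hx => by
      apply Subtype.ext
      simpa using hx), hmapD]
  refine ⟨(y₀ : G), ?_, y₀.2, ?_⟩
  · rw [hW]
    apply Subgroup.mem_normalizer_fintype
    rintro _ ⟨w, hw, rfl⟩
    refine ⟨y₀ * w * y₀⁻¹, ?_, by simp⟩
    exact (Subgroup.mem_normalizer_iff.mp hy₀ w).mp hw
  · intro b hb
    have hbN : b ∈ N := (hB hb).2
    have := hag ⟨b, hbN⟩ hb
    have h2 := congrArg Subtype.val this
    simpa using h2

/-- the induction hypothesis for proper subgroups -/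
def IHsub (p : ℕ) (Pr : ∀ (Y : Type u) [Group Y], Subgroup Y → Prop) (G : Type u) [Group G] :
    Prop :=
  ∀ M : Subgroup G, M ≠ ⊤ → ∀ (T : Sylow p ↥M) (D₀ : Subgroup ↥M),
    IsStronglyClosed D₀ (T : Subgroup ↥M) → Ctl Pr ↥M (T : Subgroup ↥M) D₀

/-- the induction hypothesis for proper quotients -/
def IHquot (p : ℕ) (Pr : ∀ (Y : Type u) [Group Y], Subgroup Y → Prop) (G : Type u) [Group G] :
    Prop :=
  ∀ (N : Subgroup G) [N.Normal], N ≠ ⊥ → ∀ (T : Sylow p (G ⧸ N)) (D₀ : Subgroup (G ⧸ N)),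
    IsStronglyClosed D₀ (T : Subgroup (G ⧸ N)) → Ctl Pr (G ⧸ N) (T : Subgroup (G ⧸ N)) D₀

/-- conjugation by elements of a proper subgroup containing `P` is explained -/
theorem cr_of_sub (hPr : PFam p Pr) {G : Type u} [Group G] [Finite G] (P : Sylow p G)
    (D : Subgroup G) (hD : IsStronglyClosed D (P : Subgroup G)) (IH : IHsub p Pr G)
    (M : Subgroup G) (hM : M ≠ ⊤) (hPM : (P : Subgroup G) ≤ M)
    (B : Set G) (hB : B ⊆ ((P : Subgroup G) : Set G)) (z : G) (hzM : z ∈ M)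
    (hz : cjs z B ⊆ ((P : Subgroup G) : Set G)) :
    CR (P : Subgroup G) (Subgroup.normalizer ((W (Pr G) D : Subgroup G) : Set G)) B z := by
  have e1 : (P : Subgroup G) ⊓ M = (P : Subgroup G) := inf_eq_left.mpr hPM
  have e2 : ((P : Subgroup G) ⊓ M) ⊓ D = D := by
    rw [e1]; exact inf_eq_right.mpr hD.1
  have hfn : ¬ p ∣ ((P : Subgroup G) ⊓ M).relIndex M := by
    rw [e1]
    exact fun h => P.not_dvd_index (h.trans (Subgroup.relIndex_dvd_index_of_le hPM))
  obtain ⟨y, hy, _, hag⟩ := ctl_sub hPr P D hD M hfn (IH M hM) B (by rw [e1]; exact hB) z hzM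
    (by rw [e1]; exact hz)
  rw [e2] at hy
  exact ⟨hB, hz, y, hy, hag⟩

end transfer

section alperinLC

variable {p : ℕ} [Fact p.Prime] {Pr : ∀ (Y : Type u) [Group Y], Subgroup Y → Prop}

/-- Alperin's induction for the normalizer of `W(D)`, `D ≠ 1` strongly closed, with local control
at the fully normalized nontrivial subgroups as a hypothesis. -/
theorem alperin_LC (hPr : PFam p Pr) {G : Type u} [Group G] [Finite G] (P : Sylow p G)
    (D : Subgroup G) (hD : IsStronglyClosed D (P : Subgroup G)) (hDne : D ≠ ⊥)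
    (LC : ∀ U' : Subgroup G, U' ≤ (P : Subgroup G) → U' ≠ ⊥ →
      ¬ p ∣ ((P : Subgroup G) ⊓ Subgroup.normalizer (U' : Set G)).relIndex
        (Subgroup.normalizer (U' : Set G)) →
      ∀ B : Set G, B ⊆ (((P : Subgroup G) ⊓ Subgroup.normalizer (U' : Set G) : Subgroup G) : Set G) →
      ∀ z ∈ Subgroup.normalizer (U' : Set G),
      cjs z B ⊆ (((P : Subgroup G) ⊓ Subgroup.normalizer (U' : Set G) : Subgroup G) : Set G) →
      ∃ y ∈ Subgroup.normalizer ((W (Pr G)
        (((P : Subgroup G) ⊓ Subgroup.normalizer (U' : Set G)) ⊓ D) : Subgroup G) : Set G),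
        AgreeOn B y z) :
    ∀ Q : Subgroup G, Q ≤ (P : Subgroup G) → ∀ g : G, cj g Q ≤ (P : Subgroup G) →
      CR (P : Subgroup G) (Subgroup.normalizer ((W (Pr G) D : Subgroup G) : Set G))
        (Q : Set G) g := by
  set M := Subgroup.normalizer ((W (Pr G) D : Subgroup G) : Set G) with hM
  have hR := CR.fusionRel (P : Subgroup G) M
  have hPD : (P : Subgroup G) ≤ Subgroup.normalizer (D : Set G) :=
    le_normalizer_of_stronglyClosed hD.1 hD.2
  -- a nontrivial element of `D` central in `P`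
  obtain ⟨z₀, hz₀D, hz₀c, hz₀1⟩ :
      ∃ z₀ ∈ D, (∀ s ∈ (P : Subgroup G), z₀ * s = s * z₀) ∧ z₀ ≠ 1 := by
    have hn : (D.subgroupOf (P : Subgroup G)).Normal :=
      (Subgroup.normal_subgroupOf_iff_le_normalizer hD.1).mpr hPD
    have hne : D.subgroupOf (P : Subgroup G) ≠ ⊥ := by
      intro h
      apply hDne
      rw [eq_bot_iff]
      intro d hd
      have : (⟨d, hD.1 hd⟩ : ↥(P : Subgroup G)) ∈ D.subgroupOf (P : Subgroup G) := by
        rw [Subgroup.mem_subgroupOf]; exact hd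
      rw [h, Subgroup.mem_bot] at this
      rw [Subgroup.mem_bot]
      exact congrArg Subtype.val this
    obtain ⟨z, hzN, hzc, hz1⟩ := Cfsg.Agent.Lib.Helper32_PGroup.exists_mem_center_of_normal
      (p := p) (P.isPGroup') (D.subgroupOf (P : Subgroup G)) hne
    refine ⟨(z : G), Subgroup.mem_subgroupOf.mp hzN, ?_, ?_⟩
    · intro s hs
      have := Subgroup.mem_center_iff.mp hzc ⟨s, hs⟩
      have h2 := congrArg Subtype.val this
      simpa using h2.symm
    · intro h
      apply hz1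
      exact Subtype.ext h
  have hz₀P : z₀ ∈ (P : Subgroup G) := hD.1 hz₀D
  have hz₀N : ∀ U' : Subgroup G, U' ≤ (P : Subgroup G) →
      z₀ ∈ (P : Subgroup G) ⊓ Subgroup.normalizer (U' : Set G) := by
    intro U' hU'
    refine ⟨hz₀P, ?_⟩
    apply Subgroup.mem_normalizer_fintype
    intro u hu
    have : z₀ * u * z₀⁻¹ = u := by rw [hz₀c u (hU' hu)]; group
    rw [this]; exact hu
  have hfull : ∀ T : Subgroup G, T ≤ (P : Subgroup G) → ∃ U ∈ (Set.univ : Set (Subgroup G)),
      U ≤ (P : Subgroup G) ∧ (∃ g : G, cj g T = U) ∧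
      ¬ p ∣ ((P : Subgroup G) ⊓ Subgroup.normalizer (U : Set G)).relIndex
        (Subgroup.normalizer (U : Set G)) := by
    intro T hT
    obtain ⟨g, hg1, hg2⟩ := Cfsg.Agent.S1959.exists_fully_normalized P T hT
    exact ⟨cj g T, Set.mem_univ _, hg1, ⟨g, rfl⟩, hg2⟩
  apply alperin P Set.univ hfull (CR (P : Subgroup G) M) hR
  intro U _ hUS hUfn IH m hm
  by_cases hUbot : U = ⊥
  · subst hUbot
    have h1 : ∀ a ∈ ((⊥ : Subgroup G) : Set G), a = 1 := by
      intro a ha; simpa using ha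
    refine ⟨?_, ?_, 1, M.one_mem, ?_⟩
    · intro a ha; rw [h1 a ha]; exact Subgroup.one_mem _
    · rintro _ ⟨a, ha, rfl⟩
      rw [h1 a ha]
      simp
    · intro a ha
      rw [h1 a ha]; simp
  -- the climbing claim
  have C : ∀ n : ℕ, ∀ P₁ : Subgroup G, P₁ ≤ (P : Subgroup G) →
      Nat.card (P : Subgroup G) - Nat.card P₁ = n → z₀ ∈ P₁ →
      (Nat.card U < Nat.card P₁ ∨ P₁ = (P : Subgroup G)) →
      ∀ z ∈ Subgroup.normalizer ((W (Pr G) (P₁ ⊓ D) : Subgroup G) : Set G), ∀ B : Set G,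
        B ⊆ (P₁ : Set G) → cjs z B ⊆ (P₁ : Set G) → CR (P : Subgroup G) M B z := by
    intro n
    induction n using Nat.strong_induction_on with
    | _ n ihC =>
    intro P₁ hP₁S hn hz₀P₁ hcard z hz B hBP hzB
    rcases eq_or_lt_of_le hP₁S with hPeq | hPlt
    · subst hPeq
      rw [inf_eq_right.mpr hD.1] at hz
      exact ⟨hBP, hzB, z, hz, AgreeOn.refl B z⟩
    · have hcardP : Nat.card U < Nat.card P₁ := hcard.resolve_right hPlt.ne
      have hP₁p : IsPGroup p P₁ := P.2.to_le hP₁S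
      have hE : P₁ ⊓ D ≠ ⊥ := by
        intro h
        have : z₀ ∈ P₁ ⊓ D := ⟨hz₀P₁, hz₀D⟩
        rw [h, Subgroup.mem_bot] at this
        exact hz₀1 this
      set V₁ := W (Pr G) (P₁ ⊓ D) with hV₁
      have hVne : V₁ ≠ ⊥ := hPr.ne_bot G (P₁ ⊓ D) (hP₁p.to_le inf_le_left) hE
      have hVP : V₁ ≤ P₁ := (W_le' hPr _).trans inf_le_left
      have h1 : P₁ < (P : Subgroup G) ⊓ Subgroup.normalizer (P₁ : Set G) :=
        lt_inf_normalizer P.2 hPlt
      have h2 : (P : Subgroup G) ⊓ Subgroup.normalizer (P₁ : Set G) ≤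
          (P : Subgroup G) ⊓ Subgroup.normalizer (V₁ : Set G) := by
        intro s hs
        refine ⟨hs.1, ?_⟩
        apply normalizer_le_normalizer_W hPr (P₁ ⊓ D)
        exact Subgroup.inf_normalizer_le_normalizer_inf ⟨hs.2, hPD hs.1⟩
      obtain ⟨k₀, hk₀S, hk₀fn⟩ :=
        Cfsg.Agent.S1959.exists_fully_normalized P V₁ (hVP.trans hP₁S)
      obtain ⟨k, hkV, hkN⟩ := exists_cj_normalizer_le P k₀ rfl hk₀fn
      set U' := cj k₀ V₁ with hU'
      have hc1 : Nat.card P₁ < Nat.card ((P : Subgroup G) ⊓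
          Subgroup.normalizer (V₁ : Set G) : Subgroup G) :=
        lt_of_lt_of_le (Cfsg.Agent.Lib.Helper33_Alperin.card_lt_of_lt h1)
          (Subgroup.card_le_of_le h2)
      have hc2 : Nat.card ((P : Subgroup G) ⊓
          Subgroup.normalizer (V₁ : Set G) : Subgroup G) ≤
          Nat.card ((P : Subgroup G) ⊓ Subgroup.normalizer (U' : Set G) : Subgroup G) := by
        rw [← Cfsg.Agent.Lib.Helper33_Alperin.card_cj k]
        exact Subgroup.card_le_of_le hkN
      have hc3 : Nat.card ((P : Subgroup G) ⊓ Subgroup.normalizer (U' : Set G) : Subgroup G) ≤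
          Nat.card (P : Subgroup G) := Subgroup.card_le_of_le inf_le_left
      have hU'ne : U' ≠ ⊥ := by
        intro h
        apply hVne
        have : cj k⁻¹ U' = V₁ := by rw [← hkV, cj_inv_cj]
        rw [← this, h]
        exact Subgroup.map_bot _
      have hRk : CR (P : Subgroup G) M (((P : Subgroup G) ⊓
          Subgroup.normalizer (V₁ : Set G) : Subgroup G) : Set G) k :=
        IH _ inf_le_left (by omega) k (hkN.trans inf_le_left)
      have hBV : B ⊆ (((P : Subgroup G) ⊓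
          Subgroup.normalizer (V₁ : Set G) : Subgroup G) : Set G) :=
        hBP.trans (h1.le.trans h2)
      have hzBV : cjs z B ⊆ (((P : Subgroup G) ⊓
          Subgroup.normalizer (V₁ : Set G) : Subgroup G) : Set G) :=
        hzB.trans (h1.le.trans h2)
      have hRBk := hR.restrict _ _ _ hRk hBV
      have hRzBk := hR.restrict _ _ _ hRk hzBV
      have hz' : k * z * k⁻¹ ∈ Subgroup.normalizer (U' : Set G) := by
        rw [← hkV, ← cj_normalizer]; exact conj_mem_cj hz
      have hcjk : cjs k (((P : Subgroup G) ⊓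
          Subgroup.normalizer (V₁ : Set G) : Subgroup G) : Set G) ⊆
          (((P : Subgroup G) ⊓ Subgroup.normalizer (U' : Set G) : Subgroup G) : Set G) := by
        rw [← coe_cj]; exact hkN
      have hB' : cjs k B ⊆
          (((P : Subgroup G) ⊓ Subgroup.normalizer (U' : Set G) : Subgroup G) : Set G) :=
        (cjs_mono hBV).trans hcjk
      have e0 : cjs (k * z * k⁻¹) (cjs k B) = cjs k (cjs z B) := by
        rw [← cjs_mul, ← cjs_mul]; congr 1; group
      have hz'B' : cjs (k * z * k⁻¹) (cjs k B) ⊆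
          (((P : Subgroup G) ⊓ Subgroup.normalizer (U' : Set G) : Subgroup G) : Set G) := by
        rw [e0]; exact (cjs_mono hzBV).trans hcjk
      obtain ⟨y, hy, hag⟩ := LC U' hk₀S hU'ne hk₀fn (cjs k B) hB' (k * z * k⁻¹) hz' hz'B'
      have CP' := ihC (Nat.card (P : Subgroup G) - Nat.card ((P : Subgroup G) ⊓
        Subgroup.normalizer (U' : Set G) : Subgroup G)) (by omega) _ inf_le_left rfl
        (hz₀N U' hk₀S) (Or.inl (by omega)) y hy (cjs k B) hB'
        (by rw [hag.cjs_eq]; exact hz'B')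
      have hRB'z := CP'.of_agree hag
      have h3 := hR.trans B k (k * z * k⁻¹) hRBk hRB'z
      have h4 := hR.symm _ _ hRzBk
      have e : cjs (k * z * k⁻¹ * k) B = cjs k (cjs z B) := by
        rw [← cjs_mul]; congr 1; group
      have h5 := hR.trans B _ k⁻¹ h3 (by rw [e]; exact h4)
      have e5 : k⁻¹ * (k * z * k⁻¹ * k) = z := by group
      rwa [e5] at h5
  -- apply the claim to `N_P(U)`
  have hUP : U ≤ (P : Subgroup G) ⊓ Subgroup.normalizer (U : Set G) :=
    le_inf hUS Subgroup.le_normalizer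
  have hcardP : Nat.card U < Nat.card ((P : Subgroup G) ⊓
      Subgroup.normalizer (U : Set G) : Subgroup G) ∨
      (P : Subgroup G) ⊓ Subgroup.normalizer (U : Set G) = (P : Subgroup G) := by
    rcases eq_or_lt_of_le hUS with h | h
    · right
      rw [h]
      exact inf_eq_left.mpr Subgroup.le_normalizer
    · left
      exact Cfsg.Agent.Lib.Helper33_Alperin.card_lt_of_lt (lt_inf_normalizer P.2 h)
  have hmU : cjs m (U : Set G) = (U : Set G) := by
    rw [← coe_cj, mem_normalizer_iff_cj.mp hm]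
  obtain ⟨y, hy, hag⟩ := LC U hUS hUbot hUfn (U : Set G) hUP m hm (by rw [hmU]; exact hUP)
  have key := C _ _ inf_le_left rfl (hz₀N U hUS) hcardP y hy (U : Set G) hUP
    (by rw [hag.cjs_eq, hmU]; exact hUP)
  exact key.of_agree hag

/-- from subgroups to subsets -/
theorem ctl_of_forall_subgroup {G : Type u} [Group G] (P D : Subgroup G)
    (h : ∀ Q : Subgroup G, Q ≤ P → ∀ g : G, cj g Q ≤ P →
      CR P (Subgroup.normalizer ((W (Pr G) D : Subgroup G) : Set G)) (Q : Set G) g) :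
    Ctl Pr G P D := by
  intro B z hB hz
  obtain ⟨_, _, x, hx, hag⟩ := h (Subgroup.closure B) ((Subgroup.closure_le _).mpr hB) z
    (cjs_subset_coe_iff.mp hz)
  exact ⟨x, hx, hag.mono Subgroup.subset_closure⟩

/-- everything is explained when `W(D)` is normal -/
theorem ctl_of_normal {G : Type u} [Group G] (P D : Subgroup G)
    (h : (W (Pr G) D).Normal) : Ctl Pr G P D := by
  intro B z _ _
  refine ⟨z, ?_, AgreeOn.refl B z⟩
  rw [Subgroup.normalizer_eq_top (W (Pr G) D)]
  exact Subgroup.mem_top z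

end alperinLC

section cases

variable {p : ℕ} [Fact p.Prime] {Pr : ∀ (Y : Type u) [Group Y], Subgroup Y → Prop}
variable {G : Type u} [Group G] [Finite G]

/-- the case `D ≤ O_p(G)` -/
theorem ctl_of_le_pCore (hPr : PFam p Pr) (P : Sylow p G) (D : Subgroup G)
    (hD : IsStronglyClosed D (P : Subgroup G)) (hDQ : D ≤ pCore p G) :
    Ctl Pr G (P : Subgroup G) D := by
  have hQn : (pCore p G).Normal := Cfsg.Agent.Lib.Helper1_Cores.pCore_normal p
  have hDn : D.Normal := normal_of_stronglyClosed_le_normal hD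
    (Cfsg.Agent.Lib.Helper1_Cores.pCore_le_sylow p P) hDQ
  intro B z _ _
  refine ⟨z, ?_, AgreeOn.refl B z⟩
  apply normalizer_le_normalizer_W hPr D
  rw [Subgroup.normalizer_eq_top D]
  exact Subgroup.mem_top z

/-- the `p`-constrained case with `O_{p'}(G) = 1` -/
theorem ctl_of_constrained (hPr : PFam p Pr) (P : Sylow p G) (D : Subgroup G)
    (hD : IsStronglyClosed D (P : Subgroup G)) (hst : IsNormalizerPStable p G)
    (hc : Subgroup.centralizer (pCore p G : Set G) ≤ pCore p G) :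
    Ctl Pr G (P : Subgroup G) D := by
  apply ctl_of_normal
  apply W_normalD (hPr.adm G) P D hD.1 hD.2 hc
  intro B hBn hBp
  have := hBn
  exact stableOn_of_isNormalizerPStable hst (P : Subgroup G) B hBp

/-- the case `O_p(G) = 1` -/
theorem ctl_of_pCore_eq_bot (hPr : PFam p Pr) (P : Sylow p G) (D : Subgroup G)
    (hD : IsStronglyClosed D (P : Subgroup G)) (IH : IHsub p Pr G) (hQ : pCore p G = ⊥)
    (hDne : D ≠ ⊥) : Ctl Pr G (P : Subgroup G) D := by
  apply ctl_of_forall_subgroup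
  apply alperin_LC hPr P D hD hDne
  intro U' hU'P hU'ne hU'fn B hB z hz hzB
  have hne : Subgroup.normalizer (U' : Set G) ≠ ⊤ := by
    intro h
    apply hU'ne
    have hn : U'.Normal := Subgroup.normalizer_eq_top_iff.mp h
    have := Cfsg.Agent.Lib.Helper1_Cores.le_pCore hn (P.isPGroup'.to_le hU'P)
    rw [hQ] at this
    exact le_bot_iff.mp this
  obtain ⟨y, hy, _, hag⟩ := ctl_sub hPr P D hD _ hU'fn (IH _ hne) B hB z hz hzB
  exact ⟨y, hy, hag⟩

/-- the case `O_{p'}(G) ≠ 1` -/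
theorem ctl_of_pPrimeCore_ne_bot (hPr : PFam p Pr) (P : Sylow p G) (D : Subgroup G)
    (hD : IsStronglyClosed D (P : Subgroup G)) (IH : IHquot p Pr G)
    (hK : pPrimeCore p G ≠ ⊥) : Ctl Pr G (P : Subgroup G) D := by
  have hKn : (pPrimeCore p G).Normal := Cfsg.Agent.Lib.Helper1_Cores.pPrimeCore_normal p
  have hKcop : (Nat.card (pPrimeCore p G)).Coprime p :=
    Cfsg.Agent.Lib.Helper1_Cores.pPrimeCore_card_coprime p
  have hπsurj : Function.Surjective (QuotientGroup.mk' (pPrimeCore p G)) :=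
    QuotientGroup.mk'_surjective _
  have hinj : ∀ x ∈ (P : Subgroup G), QuotientGroup.mk' (pPrimeCore p G) x = 1 → x = 1 := by
    intro x hx h1
    have hxK : x ∈ pPrimeCore p G := by
      rw [← QuotientGroup.ker_mk' (pPrimeCore p G)]; exact h1
    have h2 : x ∈ (P : Subgroup G) ⊓ pPrimeCore p G := ⟨hx, hxK⟩
    rw [Cfsg.Agent.Lib.Helper32_Sylow.inf_eq_bot_of_pgroup_of_coprime P.isPGroup' hKcop,
      Subgroup.mem_bot] at h2
    exact h2
  have hsc := isStronglyClosed_map_of_coprime P hD (pPrimeCore p G)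
  have hctl := IH (pPrimeCore p G) hK (P.mapSurjective hπsurj)
    (D.map (QuotientGroup.mk' (pPrimeCore p G))) (by rw [Sylow.coe_mapSurjective]; exact hsc)
  rw [Sylow.coe_mapSurjective] at hctl
  set K := pPrimeCore p G with hKdef
  set π := QuotientGroup.mk' K with hπ
  intro B z hB hz
  have hB' : π '' B ⊆ (((P : Subgroup G).map π : Subgroup (G ⧸ K)) : Set (G ⧸ K)) := by
    rintro _ ⟨b, hb, rfl⟩
    exact ⟨b, hB hb, rfl⟩
  have hz' : cjs (π z) (π '' B) ⊆ (((P : Subgroup G).map π : Subgroup (G ⧸ K)) : Set (G ⧸ K)) := by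
    rintro _ ⟨_, ⟨b, hb, rfl⟩, rfl⟩
    refine ⟨z * b * z⁻¹, hz ⟨b, hb, rfl⟩, ?_⟩
    simp only [map_mul, map_inv]
  obtain ⟨yb, hyb, hag⟩ := hctl (π '' B) (π z) hB' hz'
  rw [W_map' hPr π D (fun x hx => hinj x (hD.1 hx))] at hyb
  obtain ⟨y₁, rfl⟩ := hπsurj yb
  set V := W (Pr G) D with hV
  have hVT : V ≤ (P : Subgroup G) := (W_le' hPr D).trans hD.1
  apply lift_coprime K hKcop (P : Subgroup G) V P.isPGroup' hVT B hB z hz y₁
  · rintro _ ⟨x, hx, rfl⟩
    have h1 : π (y₁ * x * y₁⁻¹) ∈ V.map π := by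
      rw [map_mul, map_mul, map_inv]
      exact (Subgroup.mem_normalizer_iff.mp hyb (π x)).mp ⟨x, hx, rfl⟩
    obtain ⟨w, hw, hwx⟩ := h1
    have hk : w⁻¹ * (y₁ * x * y₁⁻¹) ∈ K := by
      rw [← QuotientGroup.ker_mk' K, MonoidHom.mem_ker, map_mul, map_inv, hwx, inv_mul_cancel]
    have e : (MulAut.conj y₁).toMonoidHom x = w * (w⁻¹ * (y₁ * x * y₁⁻¹)) := by
      simp [MulAut.conj_apply]
    rw [e]
    exact Subgroup.mul_mem_sup hw hk
  · intro b hb
    rw [← QuotientGroup.ker_mk' K, MonoidHom.mem_ker]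
    have h1 := hag (π b) ⟨b, hb, rfl⟩
    show π ((y₁ * b * y₁⁻¹) * (z * b * z⁻¹)⁻¹) = 1
    rw [map_mul, map_inv, map_mul, map_mul, map_inv, map_mul, map_mul, map_inv, h1,
      mul_inv_cancel]

/-- Burnside step: with `O_{p'}(G) = 1`, if `P ∩ C_G(O_p(G)) ≤ O_p(G)` then `G` is
`p`-constrained. -/
theorem centralizer_pCore_le (P : Sylow p G) (hK : pPrimeCore p G = ⊥)
    (h : (P : Subgroup G) ⊓ Subgroup.centralizer (pCore p G : Set G) ≤ pCore p G) :
    Subgroup.centralizer (pCore p G : Set G) ≤ pCore p G := by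
  have hQn : (pCore p G).Normal := Cfsg.Agent.Lib.Helper1_Cores.pCore_normal p
  intro c hc
  have hcen : ∀ z ∈ (P : Subgroup G) ⊓ Subgroup.centralizer (pCore p G : Set G),
      ∀ c ∈ Subgroup.centralizer (pCore p G : Set G), z * c = c * z :=
    fun z hz c hc => (Subgroup.mem_centralizer_iff.mp hc) z (h hz)
  obtain ⟨t, ht, z, hz, rfl⟩ := Cfsg.Agent.Lib.Helper31_AG.exists_mul_of_central_sylow P
    (Subgroup.centralizer (pCore p G : Set G)) hcen hc
  rw [hK, Subgroup.mem_bot] at ht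
  rw [ht, one_mul]
  exact h hz

/-- every subgroup of `P` has a fully normalized conjugate in `P` -/
theorem exists_fn (P : Sylow p G) : ∀ T : Subgroup G, T ≤ (P : Subgroup G) →
    ∃ U ∈ (Set.univ : Set (Subgroup G)),
      U ≤ (P : Subgroup G) ∧ (∃ g : G, cj g T = U) ∧
      ¬ p ∣ ((P : Subgroup G) ⊓ Subgroup.normalizer (U : Set G)).relIndex
        (Subgroup.normalizer (U : Set G)) := by
  intro T hT
  obtain ⟨g, hg1, hg2⟩ := Cfsg.Agent.S1959.exists_fully_normalized P T hT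
  exact ⟨cj g T, Set.mem_univ _, hg1, ⟨g, rfl⟩, hg2⟩

/-- enlargement step in Alperin's induction -/
theorem cr_enlarge {R : Set G → G → Prop} (hR : FusionRel R) {U U₂ S : Subgroup G}
    (hU₂S : U₂ ≤ S) (hlt : U < U₂)
    (IHb : ∀ Q' : Subgroup G, Q' ≤ S → Nat.card U < Nat.card Q' →
      ∀ g : G, cj g Q' ≤ S → R (Q' : Set G) g)
    (m : G) (hm : m ∈ Subgroup.normalizer (U₂ : Set G)) : R (U : Set G) m :=
  hR.restrict _ _ _ (IHb U₂ hU₂S (Cfsg.Agent.Lib.Helper33_Alperin.card_lt_of_lt hlt) m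
    (by rw [mem_normalizer_iff_cj.mp hm]; exact hU₂S)) hlt.le

/-- the case `O_{p'}(G) = 1`, `G` not `p`-constrained, `G ≠ P C_G(O_p(G))` -/
theorem ctl_of_sup_ne_top (hPr : PFam p Pr) (P : Sylow p G) (D : Subgroup G)
    (hD : IsStronglyClosed D (P : Subgroup G)) (IH : IHsub p Pr G)
    (hK : pPrimeCore p G = ⊥)
    (hCQ : ¬ Subgroup.centralizer (pCore p G : Set G) ≤ pCore p G)
    (hPC : (P : Subgroup G) ⊔ Subgroup.centralizer (pCore p G : Set G) ≠ ⊤) :
    Ctl Pr G (P : Subgroup G) D := by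
  have hQn : (pCore p G).Normal := Cfsg.Agent.Lib.Helper1_Cores.pCore_normal p
  have hQP : pCore p G ≤ (P : Subgroup G) := Cfsg.Agent.Lib.Helper1_Cores.pCore_le_sylow p P
  set Q := pCore p G with hQ
  set C := Subgroup.centralizer (Q : Set G) with hC
  have hCn : C.Normal := by rw [hC]; infer_instance
  have hQCn : (Q ⊔ C).Normal := inferInstance
  set Q₁ := (P : Subgroup G) ⊓ (Q ⊔ C) with hQ₁
  set G₁ := Subgroup.normalizer (Q₁ : Set G) with hG₁
  have hPG₁ : (P : Subgroup G) ≤ G₁ := by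
    intro s hs
    have h1 : s ∈ Subgroup.normalizer ((P : Subgroup G) : Set G) := Subgroup.le_normalizer hs
    have h2 : s ∈ Subgroup.normalizer ((Q ⊔ C : Subgroup G) : Set G) := by
      rw [Subgroup.normalizer_eq_top (Q ⊔ C)]; exact Subgroup.mem_top s
    exact Subgroup.inf_normalizer_le_normalizer_inf ⟨h1, h2⟩
  have hG₁ne : G₁ ≠ ⊤ := by
    intro h
    apply hCQ
    have hn : Q₁.Normal := Subgroup.normalizer_eq_top_iff.mp h
    have h1 : Q₁ ≤ Q := Cfsg.Agent.Lib.Helper1_Cores.le_pCore hn (P.isPGroup'.to_le inf_le_left)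
    apply centralizer_pCore_le P hK
    exact (inf_le_inf_left _ le_sup_right).trans h1
  set M := Subgroup.normalizer ((W (Pr G) D : Subgroup G) : Set G) with hM
  have hR := CR.fusionRel (P : Subgroup G) M
  apply ctl_of_forall_subgroup
  apply alperin P Set.univ (exists_fn P) (CR (P : Subgroup G) M) hR
  intro U _ hUS hUfn IHb m hm
  have hmU : cjs m (U : Set G) = (U : Set G) := by
    rw [← coe_cj, mem_normalizer_iff_cj.mp hm]
  by_cases hQU : Q ≤ U
  · by_cases hQ₁U : Q₁ ≤ U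
    · -- `m` normalizes `Q₁`
      have hUQC : U ⊓ (Q ⊔ C) = Q₁ :=
        le_antisymm (le_inf (inf_le_left.trans hUS) inf_le_right) (le_inf hQ₁U inf_le_right)
      have hmG₁ : m ∈ G₁ := by
        have h2 : m ∈ Subgroup.normalizer ((Q ⊔ C : Subgroup G) : Set G) := by
          rw [Subgroup.normalizer_eq_top (Q ⊔ C)]; exact Subgroup.mem_top m
        have := Subgroup.inf_normalizer_le_normalizer_inf (H := U) (K := Q ⊔ C) ⟨hm, h2⟩
        rw [hG₁, ← hUQC]
        exact this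
      exact cr_of_sub hPr P D hD IH G₁ hG₁ne hPG₁ (U : Set G) hUS m hmG₁ (by rw [hmU]; exact hUS)
    · -- Frattini argument in `N_G(U)`
      set N := Subgroup.normalizer (U : Set G) with hN
      have hTNp : IsPGroup p (((P : Subgroup G) ⊓ N).subgroupOf N) :=
        (P.isPGroup'.to_le inf_le_left).comap_subtype
      let TN : Sylow p ↥N := hTNp.toSylow hUfn
      have hTN : (TN : Subgroup ↥N) = ((P : Subgroup G) ⊓ N).subgroupOf N :=
        IsPGroup.toSylow_coe hTNp hUfn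
      have hC'n : ((Q ⊔ C).subgroupOf N).Normal := inferInstance
      obtain ⟨c, hc, n, hn, hmcn⟩ :=
        Cfsg.Agent.S0608.frattini_inf TN ((Q ⊔ C).subgroupOf N) ⟨m, hm⟩
      have hmcn' : m = (c : G) * (n : G) := congrArg Subtype.val hmcn
      have hcQC : (c : G) ∈ Q ⊔ C := Subgroup.mem_subgroupOf.mp hc
      set R₁ := ((P : Subgroup G) ⊓ N) ⊓ (Q ⊔ C) with hR₁
      have hnR₁ : (n : G) ∈ Subgroup.normalizer (R₁ : Set G) := by
        apply Subgroup.mem_normalizer_fintype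
        intro x hx
        have hxN : x ∈ N := hx.1.2
        have h1 : (⟨x, hxN⟩ : ↥N) ∈ (TN : Subgroup ↥N) ⊓ (Q ⊔ C).subgroupOf N := by
          rw [Subgroup.mem_inf, hTN, Subgroup.mem_subgroupOf, Subgroup.mem_subgroupOf]
          exact ⟨hx.1, hx.2⟩
        have h2 := (Subgroup.mem_normalizer_iff.mp hn ⟨x, hxN⟩).mp h1
        rw [Subgroup.mem_inf, hTN, Subgroup.mem_subgroupOf, Subgroup.mem_subgroupOf] at h2
        have h3 : (n : G) * x * (n : G)⁻¹ ∈ (P : Subgroup G) ⊓ N := by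
          have := h2.1
          simpa using this
        have h4 : (n : G) * x * (n : G)⁻¹ ∈ Q ⊔ C := by
          have := h2.2
          simpa using this
        exact ⟨h3, h4⟩
      have hR₁P : R₁ ≤ (P : Subgroup G) := inf_le_left.trans inf_le_left
      have hnU₁ : (n : G) ∈ Subgroup.normalizer ((U ⊔ R₁ : Subgroup G) : Set G) :=
        Subgroup.normalizer_inf_normalizer_le_normalizer_sup U R₁ ⟨n.2, hnR₁⟩
      -- `R₁ ≰ U`
      have hlt : U < U ⊔ R₁ := by
        refine lt_of_le_of_ne le_sup_left ?_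
        intro heq
        have hR₁U : R₁ ≤ U := by rw [heq]; exact le_sup_right
        have hlt2 : U < U ⊔ Q₁ := by
          refine lt_of_le_of_ne le_sup_left ?_
          intro heq2
          apply hQ₁U
          rw [heq2]; exact le_sup_right
        have hUQ₁P : U ⊔ Q₁ ≤ (P : Subgroup G) := sup_le hUS inf_le_left
        have h3 := lt_inf_normalizer (P.isPGroup'.to_le hUQ₁P) hlt2
        obtain ⟨x, hx, hxU⟩ := SetLike.exists_of_lt h3
        have hxmem : x ∈ ((U ⊔ Q₁ : Subgroup G) : Set G) := hx.1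
        rw [Subgroup.coe_mul_of_left_le_normalizer_right U Q₁ (hUS.trans hPG₁)] at hxmem
        obtain ⟨u, hu, q, hq, rfl⟩ := hxmem
        have hqN : q ∈ N := by
          have h4 : u⁻¹ * (u * q) ∈ N := N.mul_mem (N.inv_mem (Subgroup.le_normalizer hu)) hx.2
          simpa using h4
        have hqR₁ : q ∈ R₁ := ⟨⟨hq.1, hqN⟩, hq.2⟩
        exact hxU (U.mul_mem hu (hR₁U hqR₁))
      have hRn : CR (P : Subgroup G) M (U : Set G) (n : G) :=
        cr_enlarge hR (sup_le hUS hR₁P) hlt IHb (n : G) hnU₁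
      have hnU : cjs (n : G) (U : Set G) = (U : Set G) := by
        rw [← coe_cj, mem_normalizer_iff_cj.mp n.2]
      have hcU : cjs (c : G) (U : Set G) = (U : Set G) := by
        rw [← coe_cj, mem_normalizer_iff_cj.mp c.2]
      have hPCne := hPC
      have hcM₂ : (c : G) ∈ (P : Subgroup G) ⊔ C :=
        (sup_le (hQP.trans le_sup_left) le_sup_right) hcQC
      have hRc : CR (P : Subgroup G) M (U : Set G) (c : G) :=
        cr_of_sub hPr P D hD IH _ hPCne le_sup_left (U : Set G) hUS (c : G) hcM₂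
          (by rw [hcU]; exact hUS)
      rw [hmcn']
      exact hR.trans _ _ _ hRn (by rw [hnU]; exact hRc)
  · -- enlarge `U` to `U Q`
    have hlt : U < U ⊔ Q := by
      refine lt_of_le_of_ne le_sup_left ?_
      intro heq
      apply hQU
      rw [heq]; exact le_sup_right
    have hmUQ : m ∈ Subgroup.normalizer ((U ⊔ Q : Subgroup G) : Set G) := by
      apply Subgroup.normalizer_inf_normalizer_le_normalizer_sup U Q
      refine ⟨hm, ?_⟩
      rw [Subgroup.normalizer_eq_top Q]; exact Subgroup.mem_top m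
    exact cr_enlarge hR (sup_le hUS hQP) hlt IHb m hmUQ

/-- **Key lemma for the case `G = P C_G(Q)`**: an element `d` of `N_G(U)`, `Q ≤ U`, acting
trivially on `U / Q` induces on `U` the same map as some element of `N_P(U)`, provided `N_P(U)` is
a Sylow `p`-subgroup of `N_G(U)` and `G / C_G(Q)` is a `p`-group. -/
theorem exists_sylow_agree (P : Sylow p G) (Q U : Subgroup G) [hQn : Q.Normal]
    (hQp : IsPGroup p Q)
    (hUfn : ¬ p ∣ ((P : Subgroup G) ⊓ Subgroup.normalizer (U : Set G)).relIndex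
      (Subgroup.normalizer (U : Set G)))
    (hGC : ∀ g : G, ∃ k : ℕ, g ^ p ^ k ∈ Subgroup.centralizer (Q : Set G))
    (d : G) (hdN : d ∈ Subgroup.normalizer (U : Set G))
    (hd : QuotientGroup.mk' Q d ∈ Subgroup.centralizer
      ((U.map (QuotientGroup.mk' Q) : Subgroup (G ⧸ Q)) : Set (G ⧸ Q))) :
    ∃ s ∈ (P : Subgroup G) ⊓ Subgroup.normalizer (U : Set G), AgreeOn (U : Set G) s d := by
  set N := Subgroup.normalizer (U : Set G) with hN
  set π := QuotientGroup.mk' Q with hπ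
  have hker : π.ker = Q := QuotientGroup.ker_mk' Q
  set CU : Subgroup ↥N := (Subgroup.centralizer (U : Set G)).subgroupOf N with hCU
  have hCUn : CU.Normal := by rw [hCU, hN]; infer_instance
  set T₀ : Subgroup ↥N :=
    (Subgroup.centralizer ((U.map π : Subgroup (G ⧸ Q)) : Set (G ⧸ Q))).comap
      (π.comp N.subtype) with hT₀
  have hT₀mem : ∀ t : ↥N, t ∈ T₀ ↔ ∀ u ∈ U, π u * π (t : G) = π (t : G) * π u := by
    intro t
    rw [hT₀, Subgroup.mem_comap, Subgroup.mem_centralizer_iff]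
    constructor
    · intro h u hu
      exact h (π u) ⟨u, hu, rfl⟩
    · rintro h _ ⟨u, hu, rfl⟩
      exact h u hu
  have hT₀n : T₀.Normal := by
    constructor
    intro t ht n
    rw [hT₀mem] at ht ⊢
    intro u hu
    have hu' : (n : G)⁻¹ * u * (n : G) ∈ U := by
      have h1 : (n : G)⁻¹ ∈ N := N.inv_mem n.2
      have h2 := (Subgroup.mem_normalizer_iff.mp h1 u).mp hu
      simpa using h2
    have h3 := ht _ hu'
    have e1 : π u = π (n : G) * π ((n : G)⁻¹ * u * (n : G)) * (π (n : G))⁻¹ := by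
      rw [← map_inv, ← map_mul, ← map_mul]; congr 1; group
    have e2 : π ((n * t * n⁻¹ : ↥N) : G) = π (n : G) * π (t : G) * (π (n : G))⁻¹ := by
      rw [← map_inv, ← map_mul, ← map_mul]; rfl
    rw [e2, e1]
    calc π (n : G) * π ((n : G)⁻¹ * u * (n : G)) * (π (n : G))⁻¹ *
          (π (n : G) * π (t : G) * (π (n : G))⁻¹)
        = π (n : G) * (π ((n : G)⁻¹ * u * (n : G)) * π (t : G)) * (π (n : G))⁻¹ := by group
      _ = π (n : G) * (π (t : G) * π ((n : G)⁻¹ * u * (n : G))) * (π (n : G))⁻¹ := by rw [h3]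
      _ = _ := by group
  -- elements of `T₀` act on `U` as `p`-elements
  obtain ⟨a, ha⟩ := hQp.exists_card_eq
  have hpow : ∀ t : ↥N, t ∈ T₀ → ∃ k : ℕ, (t : G) ^ p ^ k ∈ Subgroup.centralizer (U : Set G) := by
    intro t ht
    obtain ⟨b, hb⟩ := hGC (t : G)
    have hyT : t ^ p ^ b ∈ T₀ := T₀.pow_mem ht _
    rw [hT₀mem] at hyT
    set y : G := (t : G) ^ p ^ b with hy
    have hyc : ((t ^ p ^ b : ↥N) : G) = y := by simp [hy]
    rw [hyc] at hyT
    refine ⟨b + a, ?_⟩
    have e : (t : G) ^ p ^ (b + a) = y ^ Nat.card Q := by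
      rw [hy, ← pow_mul, ha, pow_add]
    rw [e, Subgroup.mem_centralizer_iff]
    intro u hu
    set q : G := u⁻¹ * y * u * y⁻¹ with hq
    have hqQ : q ∈ Q := by
      rw [← hker, MonoidHom.mem_ker, hq, map_mul, map_mul, map_mul, map_inv, map_inv]
      have := hyT u hu
      calc (π u)⁻¹ * π y * π u * (π y)⁻¹ = (π u)⁻¹ * (π y * π u) * (π y)⁻¹ := by group
        _ = (π u)⁻¹ * (π u * π y) * (π y)⁻¹ := by rw [this]
        _ = 1 := by group
    have hyq : q * y = y * q := (Subgroup.mem_centralizer_iff.mp hb) q hqQ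
    have hyqj : ∀ j : ℕ, q ^ j * y = y * q ^ j := by
      intro j
      exact ((Commute.pow_left (show Commute q y from hyq) j)).eq
    have hyu : y * u = u * q * y := by rw [hq]; group
    have key : ∀ j : ℕ, y ^ j * u = u * q ^ j * y ^ j := by
      intro j
      induction j with
      | zero => simp
      | succ j ih =>
        calc y ^ (j + 1) * u = y * (y ^ j * u) := by rw [pow_succ']; group
          _ = y * (u * q ^ j * y ^ j) := by rw [ih]
          _ = (y * u) * q ^ j * y ^ j := by group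
          _ = u * q * (y * q ^ j) * y ^ j := by rw [hyu]; group
          _ = u * q * (q ^ j * y) * y ^ j := by rw [hyqj j]
          _ = u * q ^ (j + 1) * y ^ (j + 1) := by rw [pow_succ' q j, pow_succ' y j]; group
    have hq1 : q ^ Nat.card Q = 1 := by
      have h2 : ((⟨q, hqQ⟩ : ↥Q) ^ Nat.card Q : ↥Q) = 1 := pow_card_eq_one'
      have h3 := congrArg Subtype.val h2
      simpa only [SubmonoidClass.coe_pow, OneMemClass.coe_one] using h3
    have := key (Nat.card Q)
    rw [hq1, mul_one] at this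
    exact this.symm
  -- the image of `T₀` in `N / C_N(U)` is a normal `p`-subgroup
  have hsurj : Function.Surjective (QuotientGroup.mk' CU) := QuotientGroup.mk'_surjective CU
  have hTmn : (T₀.map (QuotientGroup.mk' CU)).Normal := Subgroup.Normal.map hT₀n _ hsurj
  have hTmp : IsPGroup p (T₀.map (QuotientGroup.mk' CU)) := by
    rintro ⟨_, t, ht, rfl⟩
    obtain ⟨k, hk⟩ := hpow t ht
    refine ⟨k, Subtype.ext ?_⟩
    show (QuotientGroup.mk' CU t) ^ p ^ k = 1
    rw [← map_pow, ← MonoidHom.mem_ker, QuotientGroup.ker_mk', hCU, Subgroup.mem_subgroupOf]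
    simpa using hk
  have hTNp : IsPGroup p (((P : Subgroup G) ⊓ N).subgroupOf N) :=
    (P.isPGroup'.to_le inf_le_left).comap_subtype
  let TN : Sylow p ↥N := hTNp.toSylow hUfn
  have hTN : (TN : Subgroup ↥N) = ((P : Subgroup G) ⊓ N).subgroupOf N :=
    IsPGroup.toSylow_coe hTNp hUfn
  have h1 := Cfsg.Agent.Lib.Helper1_Cores.le_pCore hTmn hTmp
  have h2 := Cfsg.Agent.Lib.Helper1_Cores.pCore_le_sylow p (TN.mapSurjective hsurj)
  rw [Sylow.coe_mapSurjective] at h2
  have hdT : (⟨d, hdN⟩ : ↥N) ∈ T₀ := by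
    rw [hT₀mem]
    intro u hu
    exact (Subgroup.mem_centralizer_iff.mp hd) (π u) ⟨u, hu, rfl⟩
  obtain ⟨s', hs', hsd⟩ := h2 (h1 ⟨⟨d, hdN⟩, hdT, rfl⟩)
  have hs'P : (s' : G) ∈ (P : Subgroup G) ⊓ N := by
    have hs'2 : s' ∈ ((P : Subgroup G) ⊓ N).subgroupOf N := by rw [← hTN]; exact hs'
    exact Subgroup.mem_subgroupOf.mp hs'2
  refine ⟨(s' : G), hs'P, ?_⟩
  have h3 : s'⁻¹ * (⟨d, hdN⟩ : ↥N) ∈ CU := by
    rw [← QuotientGroup.ker_mk' CU, MonoidHom.mem_ker, map_mul, map_inv, hsd, inv_mul_cancel]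
  rw [hCU, Subgroup.mem_subgroupOf] at h3
  have h4 : (s' : G)⁻¹ * d ∈ Subgroup.centralizer (U : Set G) := by simpa using h3
  intro u hu
  have h5 := (Subgroup.mem_centralizer_iff.mp h4) u hu
  calc (s' : G) * u * (s' : G)⁻¹ = (s' : G) * (u * ((s' : G)⁻¹ * d)) * d⁻¹ := by group
    _ = (s' : G) * (((s' : G)⁻¹ * d) * u) * d⁻¹ := by rw [h5]
    _ = d * u * d⁻¹ := by group

/-- the case `O_p(G) ≠ 1`, `D ≰ O_p(G)`, `G = P C_G(O_p(G))` -/
theorem ctl_of_sup_eq_top (hPr : PFam p Pr) (P : Sylow p G) (D : Subgroup G)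
    (hD : IsStronglyClosed D (P : Subgroup G)) (IHs : IHsub p Pr G) (IHq : IHquot p Pr G)
    (hQne : pCore p G ≠ ⊥) (hDQ : ¬ D ≤ pCore p G)
    (hPC : (P : Subgroup G) ⊔ Subgroup.centralizer (pCore p G : Set G) = ⊤) :
    Ctl Pr G (P : Subgroup G) D := by
  have hQn : (pCore p G).Normal := Cfsg.Agent.Lib.Helper1_Cores.pCore_normal p
  have hQP : pCore p G ≤ (P : Subgroup G) := Cfsg.Agent.Lib.Helper1_Cores.pCore_le_sylow p P
  have hQp : IsPGroup p (pCore p G) := Cfsg.Agent.Lib.Helper1_Cores.pCore_isPGroup p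
  have hπsurj : Function.Surjective (QuotientGroup.mk' (pCore p G)) :=
    QuotientGroup.mk'_surjective _
  have hsc := isStronglyClosed_map_of_le hD (pCore p G) hQP
  have hctl := IHq (pCore p G) hQne (P.mapSurjective hπsurj)
    (D.map (QuotientGroup.mk' (pCore p G))) (by rw [Sylow.coe_mapSurjective]; exact hsc)
  rw [Sylow.coe_mapSurjective] at hctl
  set Q := pCore p G with hQ
  set C := Subgroup.centralizer (Q : Set G) with hC
  have hCn : C.Normal := by rw [hC]; infer_instance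
  set π := QuotientGroup.mk' Q with hπ
  have hker : π.ker = Q := QuotientGroup.ker_mk' Q
  have hPD : (P : Subgroup G) ≤ Subgroup.normalizer (D : Set G) :=
    le_normalizer_of_stronglyClosed hD.1 hD.2
  -- `G / C` is a `p`-group
  have hGC : ∀ g : G, ∃ k : ℕ, g ^ p ^ k ∈ C := by
    intro g
    have hg : g ∈ (P : Subgroup G) ⊔ C := by rw [hPC]; exact Subgroup.mem_top g
    obtain ⟨s, hs, c, hc, rfl⟩ := Subgroup.mem_sup_of_normal_right.mp hg
    obtain ⟨k, hk⟩ := P.isPGroup' ⟨s, hs⟩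
    have hk' : s ^ p ^ k = 1 := by
      have := congrArg Subtype.val hk
      simpa using this
    refine ⟨k, ?_⟩
    rw [← QuotientGroup.ker_mk' C, MonoidHom.mem_ker, map_pow, map_mul]
    have hc1 : QuotientGroup.mk' C c = 1 := by
      rw [← MonoidHom.mem_ker, QuotientGroup.ker_mk']; exact hc
    rw [hc1, mul_one, ← map_pow, hk', map_one]
  -- the quotient
  set Db := D.map π with hDb
  set Wb := W (Pr (G ⧸ Q)) Db with hWb
  have hDbp : IsPGroup p Db := (P.isPGroup'.to_le hD.1).map π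
  have hDbne : Db ≠ ⊥ := by
    intro h
    apply hDQ
    rw [hDb, Subgroup.map_eq_bot_iff, hker] at h
    exact h
  have hWbne : Wb ≠ ⊥ := hPr.ne_bot (G ⧸ Q) Db hDbp hDbne
  have hWbD : Wb ≤ Db := W_le' hPr Db
  set V₂ := Wb.comap π with hV₂
  have hV₂P : V₂ ≤ (P : Subgroup G) := by
    intro x hx
    obtain ⟨s, hs, hsx⟩ := hsc.1 (hWbD hx)
    have h1 : s⁻¹ * x ∈ Q := by
      rw [← hker, MonoidHom.mem_ker, map_mul, map_inv, hsx, inv_mul_cancel]
    have h2 := (P : Subgroup G).mul_mem hs (hQP h1)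
    simpa using h2
  set G₂ := Subgroup.normalizer (V₂ : Set G) with hG₂
  have hcomapN : ∀ n : G, π n ∈ Subgroup.normalizer (Wb : Set (G ⧸ Q)) → n ∈ G₂ := by
    intro n hn
    apply Subgroup.mem_normalizer_fintype
    intro x hx
    show π (n * x * n⁻¹) ∈ Wb
    rw [map_mul, map_mul, map_inv]
    exact (Subgroup.mem_normalizer_iff.mp hn (π x)).mp hx
  have hG₂ne : G₂ ≠ ⊤ := by
    intro h
    apply hWbne
    have hn : V₂.Normal := Subgroup.normalizer_eq_top_iff.mp h
    have h1 : V₂ ≤ Q := Cfsg.Agent.Lib.Helper1_Cores.le_pCore hn (P.isPGroup'.to_le hV₂P)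
    rw [eq_bot_iff]
    intro w hw
    obtain ⟨x, rfl⟩ := hπsurj w
    have hx : x ∈ V₂ := hw
    rw [Subgroup.mem_bot, ← MonoidHom.mem_ker, hker]
    exact h1 hx
  have hPG₂ : (P : Subgroup G) ≤ G₂ := by
    intro s hs
    apply hcomapN
    apply normalizer_le_normalizer_W hPr Db
    exact le_normalizer_of_stronglyClosed hsc.1 hsc.2 ⟨s, hs, rfl⟩
  set M := Subgroup.normalizer ((W (Pr G) D : Subgroup G) : Set G) with hM
  have hPM : (P : Subgroup G) ≤ M := hPD.trans (normalizer_le_normalizer_W hPr D)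
  have hR := CR.fusionRel (P : Subgroup G) M
  apply ctl_of_forall_subgroup
  apply alperin P Set.univ (exists_fn P) (CR (P : Subgroup G) M) hR
  intro U _ hUS hUfn IHb m hm
  have hmU : cjs m (U : Set G) = (U : Set G) := by
    rw [← coe_cj, mem_normalizer_iff_cj.mp hm]
  by_cases hQU : Q ≤ U
  · have hUb : ((U.map π : Subgroup (G ⧸ Q)) : Set (G ⧸ Q)) ⊆
        (((P : Subgroup G).map π : Subgroup (G ⧸ Q)) : Set (G ⧸ Q)) :=
      Subgroup.map_mono hUS
    have hmUb : cjs (π m) ((U.map π : Subgroup (G ⧸ Q)) : Set (G ⧸ Q)) ⊆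
        (((P : Subgroup G).map π : Subgroup (G ⧸ Q)) : Set (G ⧸ Q)) := by
      rintro _ ⟨_, ⟨u, hu, rfl⟩, rfl⟩
      refine ⟨m * u * m⁻¹, hUS ((Subgroup.mem_normalizer_iff.mp hm u).mp hu), ?_⟩
      simp only [map_mul, map_inv]
    obtain ⟨yb, hyb, hag⟩ := hctl _ (π m) hUb hmUb
    obtain ⟨n, rfl⟩ := hπsurj yb
    have hnG₂ : n ∈ G₂ := hcomapN n hyb
    have hnN : n ∈ Subgroup.normalizer (U : Set G) := by
      apply Subgroup.mem_normalizer_fintype
      intro u hu
      have h1 := hag (π u) ⟨u, hu, rfl⟩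
      have h2 : m * u * m⁻¹ ∈ U := (Subgroup.mem_normalizer_iff.mp hm u).mp hu
      have h3 : (m * u * m⁻¹)⁻¹ * (n * u * n⁻¹) ∈ Q := by
        rw [← hker, MonoidHom.mem_ker, map_mul, map_inv]
        simp only [map_mul, map_inv]
        rw [h1]
        group
      have h4 := U.mul_mem h2 (hQU h3)
      have e : m * u * m⁻¹ * ((m * u * m⁻¹)⁻¹ * (n * u * n⁻¹)) = n * u * n⁻¹ := by group
      rwa [e] at h4
    have hnU : cjs n (U : Set G) = (U : Set G) := by
      rw [← coe_cj, mem_normalizer_iff_cj.mp hnN]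
    have hRn : CR (P : Subgroup G) M (U : Set G) n :=
      cr_of_sub hPr P D hD IHs G₂ hG₂ne hPG₂ (U : Set G) hUS n hnG₂ (by rw [hnU]; exact hUS)
    -- the difference `d`
    have hdN : n⁻¹ * m ∈ Subgroup.normalizer (U : Set G) :=
      Subgroup.mul_mem _ (Subgroup.inv_mem _ hnN) hm
    have hd : π (n⁻¹ * m) ∈ Subgroup.centralizer
        ((U.map π : Subgroup (G ⧸ Q)) : Set (G ⧸ Q)) := by
      rw [Subgroup.mem_centralizer_iff]
      rintro _ ⟨u, hu, rfl⟩
      have h1 := hag (π u) ⟨u, hu, rfl⟩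
      rw [map_mul, map_inv]
      calc π u * ((π n)⁻¹ * π m) = (π n)⁻¹ * (π n * π u * (π n)⁻¹) * π m := by group
        _ = (π n)⁻¹ * (π m * π u * (π m)⁻¹) * π m := by rw [h1]
        _ = (π n)⁻¹ * π m * π u := by group
    obtain ⟨s, hs, hags⟩ := exists_sylow_agree P Q U hQp hUfn hGC (n⁻¹ * m) hdN hd
    have hsU : cjs s (U : Set G) = (U : Set G) := by
      rw [← coe_cj, mem_normalizer_iff_cj.mp hs.2]
    have hRs : CR (P : Subgroup G) M (U : Set G) s :=
      ⟨hUS, by rw [hsU]; exact hUS, s, hPM hs.1, AgreeOn.refl _ s⟩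
    have hRd : CR (P : Subgroup G) M (U : Set G) (n⁻¹ * m) := hRs.of_agree hags
    have hdU : cjs (n⁻¹ * m) (U : Set G) = (U : Set G) := by
      rw [← coe_cj, mem_normalizer_iff_cj.mp hdN]
    have := hR.trans _ _ _ hRd (by rw [hdU]; exact hRn)
    have e : n * (n⁻¹ * m) = m := by group
    rwa [e] at this
  · -- enlarge `U` to `U Q`
    have hlt : U < U ⊔ Q := by
      refine lt_of_le_of_ne le_sup_left ?_
      intro heq
      apply hQU
      rw [heq]; exact le_sup_right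
    have hmUQ : m ∈ Subgroup.normalizer ((U ⊔ Q : Subgroup G) : Set G) := by
      apply Subgroup.normalizer_inf_normalizer_le_normalizer_sup U Q
      refine ⟨hm, ?_⟩
      rw [Subgroup.normalizer_eq_top Q]; exact Subgroup.mem_top m
    exact cr_enlarge hR (sup_le hUS hQP) hlt IHb m hmUQ

end cases

section induction

variable {p : ℕ} [Fact p.Prime] {Pr : ∀ (Y : Type u) [Group Y], Subgroup Y → Prop}

/-- **Control of strong fusion by `N_G(W(D))`** for the groups of a class `𝒞` closed under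
subgroups and quotients whose members are `p`-stable in the normalizer form. -/
theorem main (hPr : PFam p Pr) (𝒞 : ∀ (X : Type u) [Group X], Prop)
    (hsub : ∀ (X : Type u) [Group X] (H : Subgroup X), 𝒞 X → 𝒞 ↥H)
    (hquot : ∀ (X : Type u) [Group X] (N : Subgroup X) [N.Normal], 𝒞 X → 𝒞 (X ⧸ N))
    (hst : ∀ (X : Type u) [Group X] [Finite X], 𝒞 X → IsNormalizerPStable p X) :
    ∀ n : ℕ, ∀ (G : Type u) [Group G] [Finite G], Nat.card G = n → 𝒞 G →
      ∀ (P : Sylow p G) (D : Subgroup G), IsStronglyClosed D (P : Subgroup G) →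
        Ctl Pr G (P : Subgroup G) D := by
  intro n
  induction n using Nat.strong_induction_on with
  | _ n ih =>
  intro G _ _ hn hG P D hD
  have IHs : IHsub p Pr G := by
    intro M hM T D₀ hD₀
    have hlt : Nat.card ↥M < n := by
      rw [← hn, ← Subgroup.card_top (G := G)]
      exact Cfsg.Agent.Lib.Helper33_Alperin.card_lt_of_lt (lt_top_iff_ne_top.mpr hM)
    exact ih _ hlt ↥M rfl (hsub G M hG) T D₀ hD₀
  have IHq : IHquot p Pr G := by
    intro N hNn hN T D₀ hD₀
    have hlt : Nat.card (G ⧸ N) < n := by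
      rw [← hn, Subgroup.card_eq_card_quotient_mul_card_subgroup N]
      have h1 : 1 < Nat.card N := N.one_lt_card_iff_ne_bot.mpr hN
      have h2 : 0 < Nat.card (G ⧸ N) := Nat.card_pos
      nlinarith
    exact ih _ hlt (G ⧸ N) rfl (hquot G N hG) T D₀ hD₀
  by_cases hK : pPrimeCore p G = ⊥
  · by_cases hDQ : D ≤ pCore p G
    · exact ctl_of_le_pCore hPr P D hD hDQ
    · by_cases hQ : pCore p G = ⊥
      · apply ctl_of_pCore_eq_bot hPr P D hD IHs hQ
        intro h
        apply hDQ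
        rw [h]; exact bot_le
      · by_cases hc : Subgroup.centralizer (pCore p G : Set G) ≤ pCore p G
        · exact ctl_of_constrained hPr P D hD (hst G hG) hc
        · by_cases hPC : (P : Subgroup G) ⊔ Subgroup.centralizer (pCore p G : Set G) = ⊤
          · exact ctl_of_sup_eq_top hPr P D hD IHs IHq hQ hDQ hPC
          · exact ctl_of_sup_ne_top hPr P D hD IHs hK hc hPC
  · exact ctl_of_pPrimeCore_ne_bot hPr P D hD IHq hK

/-- the conclusion in the form of `Cfsg.ControlsStrongFusionOf` -/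
theorem controlsStrongFusionOf_of_ctl {G : Type u} [Group G] {P D : Subgroup G}
    (h : Ctl Pr G P D) (A : Set G) (hA : A ⊆ (P : Set G)) :
    ControlsStrongFusionOf (Subgroup.normalizer ((W (Pr G) D : Subgroup G) : Set G)) P A := by
  refine ⟨hA, ?_⟩
  intro g hgA
  have hgA' : cjs g A ⊆ (P : Set G) := hgA
  obtain ⟨x, hx, hag⟩ := h A g hA hgA'
  exact ⟨x, hx, fun a ha => (hag a ha).symm⟩

end induction

end Cfsg.Agent.Lib.Helper11_FusionQ
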