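/-
helper11: package GUNIQ of helper34's S2177 market (s2177_packages): the normal form in `U`
(existence, uniqueness, membership), from `G2Facts.uniq` (S1026).  `GUNIQ_aux` takes the statement of
GCOE as a hypothesis.
-/
import Mathlib
import Cfsg.Agent.Lib.Helper34_G2InvDefs
import Cfsg.Agent.Lib.Helper34_G2InvBasic
set_option autoImplicit false
namespace Cfsg.Agent.Lib.Helper11_G2I_GUNIQaux
open Cfsg Cfsg.Lie Cfsg.Agent.Lib.Helper34_G2InvDefs Cfsg.Agent.Lib.Helper34_G2InvBasic

section Concrete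

variable {F : Type*} [Field F]

theorem posRoots_eq : chevG2.posRoots = [6, 7, 8, 9, 10, 11] := by decide

theorem isPos6 : chevG2.IsPosRoot 6 := by decide
theorem isPos7 : chevG2.IsPosRoot 7 := by decide
theorem isPos8 : chevG2.IsPosRoot 8 := by decide
theorem isPos9 : chevG2.IsPosRoot 9 := by decide
theorem isPos10 : chevG2.IsPosRoot 10 := by decide
theorem isPos11 : chevG2.IsPosRoot 11 := by decide

theorem wordMat_pos (τ : ℕ → F) :
    chevG2.wordMat F (chevG2.posRoots.map fun r => (r, τ r)) =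
      chevG2.x F 6 (τ 6) * chevG2.x F 7 (τ 7) * chevG2.x F 8 (τ 8) * chevG2.x F 9 (τ 9) *
        chevG2.x F 10 (τ 10) * chevG2.x F 11 (τ 11) := by
  rw [posRoots_eq]
  simp [ChevalleyDatum.wordMat, Matrix.mul_assoc]

theorem PW_val (hx : ∀ r (t : F),
      ((XG F r t : GL chevG2.Idx F) : Matrix chevG2.Idx chevG2.Idx F) = chevG2.x F r t)
    (s t c d e f : F) :
    ((PW (XG F) s t c d e f : GL chevG2.Idx F) : Matrix chevG2.Idx chevG2.Idx F) =
      chevG2.x F 6 s * chevG2.x F 7 t * chevG2.x F 8 c * chevG2.x F 9 d *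
        chevG2.x F 10 e * chevG2.x F 11 f := by
  unfold PW
  simp only [Units.val_mul, hx]

/-- the coefficient family of a normal form -/
def tau (s t c d e f : F) : ℕ → F := fun r =>
  if r = 6 then s else if r = 7 then t else if r = 8 then c else if r = 9 then d else
    if r = 10 then e else if r = 11 then f else 0

theorem tau_supp (s t c d e f : F) (r : ℕ) (hr : ¬ chevG2.IsPosRoot r) : tau s t c d e f r = 0 := by
  have h6 : r ≠ 6 := fun h => hr (h ▸ isPos6)
  have h7 : r ≠ 7 := fun h => hr (h ▸ isPos7)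
  have h8 : r ≠ 8 := fun h => hr (h ▸ isPos8)
  have h9 : r ≠ 9 := fun h => hr (h ▸ isPos9)
  have h10 : r ≠ 10 := fun h => hr (h ▸ isPos10)
  have h11 : r ≠ 11 := fun h => hr (h ▸ isPos11)
  simp [tau, h6, h7, h8, h9, h10, h11]

theorem GUNIQ_aux (hf : G2Facts F)
    (hx : ∀ r (t : F),
      ((XG F r t : GL chevG2.Idx F) : Matrix chevG2.Idx chevG2.Idx F) = chevG2.x F r t)
    (hU : ∀ r (t : F), chevG2.IsPosRoot r → XG F r t ∈ chevG2.posUnipotent F) :
    (∀ g ∈ chevG2.posUnipotent F, ∃ s t c d e f : F, g = PW (XG F) s t c d e f) ∧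
    PWInj (XG F) ∧
    (∀ s t c d e f : F, PW (XG F) s t c d e f ∈ chevG2.posUnipotent F) := by
  have hmem : ∀ s t c d e f : F, PW (XG F) s t c d e f ∈ chevG2.posUnipotent F := by
    intro s t c d e f
    unfold PW
    exact Subgroup.mul_mem _ (Subgroup.mul_mem _ (Subgroup.mul_mem _ (Subgroup.mul_mem _
      (Subgroup.mul_mem _ (hU 6 s isPos6) (hU 7 t isPos7)) (hU 8 c isPos8)) (hU 9 d isPos9))
      (hU 10 e isPos10)) (hU 11 f isPos11)
  refine ⟨?_, ?_, hmem⟩
  · intro g hg
    obtain ⟨τ, ⟨-, hτ⟩, -⟩ := hf.uniq.1 g hg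
    refine ⟨τ 6, τ 7, τ 8, τ 9, τ 10, τ 11, ?_⟩
    apply Units.ext
    rw [hτ, wordMat_pos, PW_val hx]
  · intro s t c d e f s' t' c' d' e' f' heq
    obtain ⟨τ, -, huniq⟩ := hf.uniq.1 _ (hmem s t c d e f)
    have h1 : tau s t c d e f = τ := by
      apply huniq
      refine ⟨tau_supp s t c d e f, ?_⟩
      rw [wordMat_pos, PW_val hx]
      simp [tau]
    have h2 : tau s' t' c' d' e' f' = τ := by
      apply huniq
      refine ⟨tau_supp s' t' c' d' e' f', ?_⟩
      rw [heq, wordMat_pos, PW_val hx]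
      simp [tau]
    have h := h1.trans h2.symm
    refine ⟨?_, ?_, ?_, ?_, ?_, ?_⟩
    · simpa [tau] using congrFun h 6
    · simpa [tau] using congrFun h 7
    · simpa [tau] using congrFun h 8
    · simpa [tau] using congrFun h 9
    · simpa [tau] using congrFun h 10
    · simpa [tau] using congrFun h 11

end Concrete

end Cfsg.Agent.Lib.Helper11_G2I_GUNIQaux
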