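/-
helper11: package GUNIQ of helper34's S2177 market (s2177_packages): verbatim wrapper
(`Helper11_G2I_GUNIQaux.GUNIQ_aux` + `Helper25_G2I_GCOE.GCOE`).
-/
import Mathlib
import Cfsg.Agent.Lib.Helper34_G2InvDefs
import Cfsg.Agent.Lib.Helper34_G2InvBasic
import Cfsg.Agent.Lib.Helper11_G2I_GUNIQaux
import Cfsg.Agent.Lib.Helper25_G2I_GCOE
set_option autoImplicit false
namespace Cfsg.Agent.Lib.Helper11_G2I_GUNIQ
open Cfsg Cfsg.Lie Cfsg.Agent.Lib.Helper34_G2InvDefs Cfsg.Agent.Lib.Helper34_G2InvBasic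

section Concrete

variable {F : Type*} [Field F]

/-- GUNIQ (M; dep GCOE).  Normal form in `U`: existence and uniqueness. -/
theorem GUNIQ (hf : G2Facts F) :
    (∀ g ∈ chevG2.posUnipotent F, ∃ s t c d e f : F, g = PW (XG F) s t c d e f) ∧
    PWInj (XG F) ∧
    (∀ s t c d e f : F, PW (XG F) s t c d e f ∈ chevG2.posUnipotent F) := by
  obtain ⟨hx, -, -, -, -, -, hU⟩ := Cfsg.Agent.Lib.Helper25_G2I_GCOE.GCOE hf
  exact Cfsg.Agent.Lib.Helper11_G2I_GUNIQaux.GUNIQ_aux hf hx hU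

end Concrete

end Cfsg.Agent.Lib.Helper11_G2I_GUNIQ
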