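/-
helper11: package NCN of helper34's S2177 market (s2177_packages): conjugation by `N` permutes the
long root elements, conjugation by `H` scales every root element.  `NCN_aux` takes (three parts of) the
statement of GCOE as hypotheses.
-/
import Mathlib
import Cfsg.Agent.Lib.Helper34_G2InvDefs
import Cfsg.Agent.Lib.Helper34_G2InvBasic
set_option autoImplicit false
namespace Cfsg.Agent.Lib.Helper11_G2I_NCNaux
open Cfsg Cfsg.Lie Cfsg.Agent.Lib.Helper34_G2InvDefs Cfsg.Agent.Lib.Helper34_G2InvBasic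

section Concrete

variable {F : Type*} [Field F]

/-- the long roots -/
def LONG : Finset ℕ := {0, 1, 5, 6, 10, 11}

theorem reflect_long : ∀ i < 2, ∀ r ∈ LONG, chevG2.reflectRoot i r ∈ LONG := by decide

theorem long_lt : ∀ r ∈ LONG, r < chevG2.nroots := by decide

/-- `g` scales every root element -/
def Scales (g : GL chevG2.Idx F) : Prop :=
  ∀ r < chevG2.nroots, ∀ a : F, a ≠ 0 → ∃ a' : F, a' ≠ 0 ∧ g * XG F r a * g⁻¹ = XG F r a'

/-- `g` permutes the long root elements -/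
def Perms (g : GL chevG2.Idx F) : Prop :=
  ∀ r ∈ LONG, ∀ a : F, a ≠ 0 → ∃ r' ∈ LONG, ∃ a' : F, a' ≠ 0 ∧ g * XG F r a * g⁻¹ = XG F r' a'

theorem Scales.mul {g g' : GL chevG2.Idx F} (h : Scales g) (h' : Scales g') : Scales (g * g') := by
  intro r hr a ha
  obtain ⟨a1, ha1, e1⟩ := h' r hr a ha
  obtain ⟨a2, ha2, e2⟩ := h r hr a1 ha1
  refine ⟨a2, ha2, ?_⟩
  rw [← e2, ← e1]
  group

theorem Perms.mul {g g' : GL chevG2.Idx F} (h : Perms g) (h' : Perms g') : Perms (g * g') := by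
  intro r hr a ha
  obtain ⟨r1, hr1, a1, ha1, e1⟩ := h' r hr a ha
  obtain ⟨r2, hr2, a2, ha2, e2⟩ := h r1 hr1 a1 ha1
  refine ⟨r2, hr2, a2, ha2, ?_⟩
  rw [← e2, ← e1]
  group

theorem Perms.one : Perms (1 : GL chevG2.Idx F) := by
  intro r hr a ha
  exact ⟨r, hr, a, ha, by group⟩

theorem Scales.perms {g : GL chevG2.Idx F} (h : Scales g) : Perms g := by
  intro r hr a ha
  obtain ⟨a', ha', e⟩ := h r (long_lt r hr) a ha
  exact ⟨r, hr, a', ha', e⟩

theorem simple_lt : ∀ i < 2, chevG2.simple i < chevG2.nroots := by decide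

theorem scales_HG (hf : G2Facts F)
    (hx : ∀ r (t : F),
      ((XG F r t : GL chevG2.Idx F) : Matrix chevG2.Idx chevG2.Idx F) = chevG2.x F r t)
    (hh : ∀ r (c : F), r < chevG2.nroots → c ≠ 0 →
      ((HG F r c : GL chevG2.Idx F) : Matrix chevG2.Idx chevG2.Idx F) = chevG2.hMat F r c)
    (i : ℕ) (hi : i < chevG2.rank) (c : F) (hc : c ≠ 0) : Scales (HG F (chevG2.simple i) c) := by
  intro r hr a ha
  refine ⟨c ^ (chevG2.cartan i r) * a, mul_ne_zero (zpow_ne_zero _ hc) ha, ?_⟩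
  have hs : chevG2.simple i < chevG2.nroots := simple_lt i hi
  have key : HG F (chevG2.simple i) c * XG F r a =
      XG F r (c ^ (chevG2.cartan i r) * a) * HG F (chevG2.simple i) c := by
    apply Units.ext
    rw [Units.val_mul, Units.val_mul, hx, hx, hh _ _ hs hc]
    exact hf.hconj i r hi hr c hc a
  rw [key, mul_inv_cancel_right]

theorem perms_NG (hf : G2Facts F)
    (hx : ∀ r (t : F),
      ((XG F r t : GL chevG2.Idx F) : Matrix chevG2.Idx chevG2.Idx F) = chevG2.x F r t)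
    (hn : ∀ r, r < chevG2.nroots →
      ((NG F r : GL chevG2.Idx F) : Matrix chevG2.Idx chevG2.Idx F) = chevG2.nMat F r 1)
    (i : ℕ) (hi : i < chevG2.rank) : Perms (NG F (chevG2.simple i)) := by
  intro r hr a ha
  obtain ⟨η, hη, hconj⟩ := hf.nconj i r hi (long_lt r hr)
  have hs : chevG2.simple i < chevG2.nroots := simple_lt i hi
  refine ⟨chevG2.reflectRoot i r, reflect_long i hi r hr, (η : F) * a, mul_ne_zero ?_ ha, ?_⟩
  · rcases hη with h | h <;> rw [h] <;> simp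
  · have key : NG F (chevG2.simple i) * XG F r a =
        XG F (chevG2.reflectRoot i r) ((η : F) * a) * NG F (chevG2.simple i) := by
      apply Units.ext
      rw [Units.val_mul, Units.val_mul, hx, hx, hn _ hs]
      exact hconj a
    rw [key, mul_inv_cancel_right]

/-- every element of `H` is `h_a(c₀) h_b(c₁)` -/
theorem diag_eq (hf : G2Facts F)
    (hh : ∀ r (c : F), r < chevG2.nroots → c ≠ 0 →
      ((HG F r c : GL chevG2.Idx F) : Matrix chevG2.Idx chevG2.Idx F) = chevG2.hMat F r c)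
    (h : GL chevG2.Idx F) (hmem : h ∈ chevG2.diagonalSubgroup F) :
    ∃ c0 c1 : F, c0 ≠ 0 ∧ c1 ≠ 0 ∧ h = HG F (chevG2.simple 0) c0 * HG F (chevG2.simple 1) c1 := by
  obtain ⟨c, hc, hval⟩ := hf.hprod h hmem
  refine ⟨c 0, c 1, hc 0 (by decide), hc 1 (by decide), ?_⟩
  apply Units.ext
  rw [hval, Units.val_mul, hh _ _ (simple_lt 0 (by decide)) (hc 0 (by decide)),
    hh _ _ (simple_lt 1 (by decide)) (hc 1 (by decide))]
  have hl : List.range chevG2.rank = [0, 1] := by decide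
  rw [hl]
  simp [ChevalleyDatum.hMat, ChevalleyDatum.wordMat]

theorem scales_diag (hf : G2Facts F)
    (hx : ∀ r (t : F),
      ((XG F r t : GL chevG2.Idx F) : Matrix chevG2.Idx chevG2.Idx F) = chevG2.x F r t)
    (hh : ∀ r (c : F), r < chevG2.nroots → c ≠ 0 →
      ((HG F r c : GL chevG2.Idx F) : Matrix chevG2.Idx chevG2.Idx F) = chevG2.hMat F r c)
    (h : GL chevG2.Idx F) (hmem : h ∈ chevG2.diagonalSubgroup F) : Scales h := by
  obtain ⟨c0, c1, h0, h1, rfl⟩ := diag_eq hf hh h hmem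
  exact (scales_HG hf hx hh 0 (by decide) c0 h0).mul (scales_HG hf hx hh 1 (by decide) c1 h1)

theorem NCN_aux (hf : G2Facts F)
    (hx : ∀ r (t : F),
      ((XG F r t : GL chevG2.Idx F) : Matrix chevG2.Idx chevG2.Idx F) = chevG2.x F r t)
    (hn : ∀ r, r < chevG2.nroots →
      ((NG F r : GL chevG2.Idx F) : Matrix chevG2.Idx chevG2.Idx F) = chevG2.nMat F r 1)
    (hh : ∀ r (c : F), r < chevG2.nroots → c ≠ 0 →
      ((HG F r c : GL chevG2.Idx F) : Matrix chevG2.Idx chevG2.Idx F) = chevG2.hMat F r c) :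
    (∀ n ∈ chevG2.monomialSubgroup F, ∀ r ∈ ({0, 1, 5, 6, 10, 11} : Finset ℕ), ∀ a : F, a ≠ 0 →
      ∃ r' ∈ ({0, 1, 5, 6, 10, 11} : Finset ℕ), ∃ a' : F, a' ≠ 0 ∧
        n * XG F r a * n⁻¹ = XG F r' a') ∧
    (∀ h ∈ chevG2.diagonalSubgroup F, ∀ r < chevG2.nroots, ∀ a : F, a ≠ 0 →
      ∃ a' : F, a' ≠ 0 ∧ h * XG F r a * h⁻¹ = XG F r a') := by
  refine ⟨?_, fun h hmem => scales_diag hf hx hh h hmem⟩
  intro n hnN
  show Perms n
  obtain ⟨φ, -, hker, hsimple⟩ := hf.weyl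
  have hNG : ∀ i : Fin 2, NG F (chevG2.simple i) ∈ chevG2.monomialSubgroup F := by
    intro i
    apply Subgroup.mem_sup_right
    apply Subgroup.subset_closure
    exact ⟨chevG2.simple i, simple_lt i i.2, hn _ (simple_lt i i.2)⟩
  let nn : Fin 2 → ↥(chevG2.monomialSubgroup F) := fun i => ⟨NG F (chevG2.simple i), hNG i⟩
  have hφnn : ∀ i, φ (nn i) = CoxeterMatrix.G₂.simple i :=
    fun i => hsimple i (nn i) (hn _ (simple_lt i i.2))
  have hword : ∀ ω : List (Fin 2), ∃ m : ↥(chevG2.monomialSubgroup F),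
      φ m = CoxeterMatrix.G₂.toCoxeterSystem.wordProd ω ∧ Perms (m : GL chevG2.Idx F) := by
    intro ω
    induction ω with
    | nil => exact ⟨1, by simp, Perms.one⟩
    | cons i ω ih =>
      obtain ⟨m, hm, hP⟩ := ih
      refine ⟨nn i * m, ?_, ?_⟩
      · rw [map_mul, hm, hφnn, CoxeterSystem.wordProd_cons]
        rfl
      · exact (perms_NG hf hx hn i i.2).mul hP
  obtain ⟨ω, hω⟩ := CoxeterMatrix.G₂.toCoxeterSystem.wordProd_surjective (φ ⟨n, hnN⟩)
  obtain ⟨m, hm, hP⟩ := hword ω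
  have hker' : m⁻¹ * ⟨n, hnN⟩ ∈ φ.ker := by
    rw [MonoidHom.mem_ker, map_mul, map_inv, hm, hω, inv_mul_cancel]
  rw [hker, Subgroup.mem_subgroupOf] at hker'
  have hS := scales_diag hf hx hh _ hker'
  have hnm : n = (m : GL chevG2.Idx F) *
      ((m⁻¹ * ⟨n, hnN⟩ : ↥(chevG2.monomialSubgroup F)) : GL chevG2.Idx F) := by
    simp
  rw [hnm]
  exact hP.mul hS.perms

end Concrete

end Cfsg.Agent.Lib.Helper11_G2I_NCNaux
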