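/-
helper11: package NCN of helper34's S2177 market (s2177_packages): verbatim wrapper
(`Helper11_G2I_NCNaux.NCN_aux` + `Helper25_G2I_GCOE.GCOE`).
-/
import Mathlib
import Cfsg.Agent.Lib.Helper34_G2InvDefs
import Cfsg.Agent.Lib.Helper34_G2InvBasic
import Cfsg.Agent.Lib.Helper11_G2I_NCNaux
import Cfsg.Agent.Lib.Helper25_G2I_GCOE
set_option autoImplicit false
namespace Cfsg.Agent.Lib.Helper11_G2I_NCN
open Cfsg Cfsg.Lie Cfsg.Agent.Lib.Helper34_G2InvDefs Cfsg.Agent.Lib.Helper34_G2InvBasic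

section Concrete

variable {F : Type*} [Field F]

/-- NCN (L; dep GCOE).  Conjugation by `N` permutes the long root subgroups
(long roots: `0, 1, 5, 6, 10, 11`); conjugation by `H` scales every root element. -/
theorem NCN [CharP F 2] (hf : G2Facts F) :
    (∀ n ∈ chevG2.monomialSubgroup F, ∀ r ∈ ({0, 1, 5, 6, 10, 11} : Finset ℕ), ∀ a : F, a ≠ 0 →
      ∃ r' ∈ ({0, 1, 5, 6, 10, 11} : Finset ℕ), ∃ a' : F, a' ≠ 0 ∧
        n * XG F r a * n⁻¹ = XG F r' a') ∧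
    (∀ h ∈ chevG2.diagonalSubgroup F, ∀ r < chevG2.nroots, ∀ a : F, a ≠ 0 →
      ∃ a' : F, a' ≠ 0 ∧ h * XG F r a * h⁻¹ = XG F r a') := by
  obtain ⟨hx, hn, hh, -⟩ := Cfsg.Agent.Lib.Helper25_G2I_GCOE.GCOE hf
  exact Cfsg.Agent.Lib.Helper11_G2I_NCNaux.NCN_aux hf hx hn hh

end Concrete

end Cfsg.Agent.Lib.Helper11_G2I_NCN
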