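import Mathlib
import Cfsg.Agent.Lib.Helper83_HP2Defs

/-!
# HP2-CCARD (helper83's market `hp2_packages`)
-/

set_option autoImplicit false
set_option linter.unusedSectionVars false
set_option linter.unusedVariables false
set_option linter.style.haveILetI false

namespace Cfsg.Agent.Lib.Helper11_HP2_CCARD

open Module Cfsg.Agent.Lib.Helper94_Symp Cfsg.Agent.Lib.Helper94_OrthSmall
  Cfsg.Agent.Lib.Helper94_OrthSiegel Cfsg.Agent.Lib.Helper94_OrthNondeg
  Cfsg.Agent.Lib.Helper29_ODDefs Cfsg.Agent.Lib.Helper94_Q2Defs Cfsg.Agent.Lib.Helper83_HP2Defs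

variable {F : Type*} [Field F] [Finite F] {t : ℕ} {S M L : Subgroup (PV F t ≃ₗ[F] PV F t)}

theorem gam_eq {c : F} (hc : c ≠ 0) : gam c = 2 - c - c⁻¹ := by
  unfold gam
  field_simp
  ring

theorem gam_fib {c d : F} (hc : c ≠ 0) (hd : d ≠ 0) (h : gam c = gam d) : c = d ∨ c = d⁻¹ := by
  rw [gam_eq hc, gam_eq hd] at h
  have h1 : (c - d) * (c * d - 1) = 0 := by
    field_simp at h
    linear_combination -h
  rcases mul_eq_zero.1 h1 with h2 | h2
  · left; exact sub_eq_zero.1 h2
  · right
    have : c * d = 1 := sub_eq_zero.1 h2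
    exact eq_inv_of_mul_eq_one_left this

theorem gam_eq_zero {c : F} (hc : c ≠ 0) (h : gam c = 0) : c = 1 := by
  rw [gam_eq hc] at h
  have h1 : (c - 1) * (c - 1) = 0 := by
    field_simp at h
    linear_combination -h
  rcases mul_eq_zero.1 h1 with h2 | h2 <;> exact sub_eq_zero.1 h2

theorem gam_eq_four {c : F} (hc : c ≠ 0) (h : gam c = 4) : c = -1 := by
  rw [gam_eq hc] at h
  have h1 : (c + 1) * (c + 1) = 0 := by
    field_simp at h
    linear_combination -h
  rcases mul_eq_zero.1 h1 with h2 | h2 <;> exact eq_neg_of_add_eq_zero_left h2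

theorem gam_one : gam (1 : F) = 0 := by simp [gam]

theorem gam_neg_one : gam (-1 : F) = 4 := by
  unfold gam
  rw [inv_neg, inv_one]
  ring

/-- **HP2-CCARD** -/
theorem CCARD (h2 : (2 : F) ≠ 0) (A B c₀ : F) (hA : A ≠ 0) (hB : B ≠ 0) :
    ∃ c c' : F, c ≠ 0 ∧ c' ≠ 0 ∧ A * gam c + B * gam c' = c₀ := by
  classical
  haveI : Fintype F := Fintype.ofFinite F
  have h4 : (4 : F) ≠ 0 := by
    have : (4 : F) = 2 * 2 := by norm_num
    rw [this]
    exact mul_ne_zero h2 h2
  have h1m : (1 : F) ≠ -1 := by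
    intro h
    apply h2
    linear_combination h
  let s' : Finset F := ((Finset.univ.erase (0 : F)).erase 1).erase (-1)
  have hs'mem : ∀ c, c ∈ s' ↔ c ≠ -1 ∧ c ≠ 1 ∧ c ≠ 0 := by
    intro c
    simp [s']
  have hs'card : s'.card + 3 = Fintype.card F := by
    have e1 : (Finset.univ.erase (0 : F)).card = Fintype.card F - 1 := by
      rw [Finset.card_erase_of_mem (Finset.mem_univ _), Finset.card_univ]
    have m1 : (1 : F) ∈ Finset.univ.erase (0 : F) := by simp
    have e2 : ((Finset.univ.erase (0 : F)).erase 1).card = Fintype.card F - 1 - 1 := by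
      rw [Finset.card_erase_of_mem m1, e1]
    have m2 : (-1 : F) ∈ (Finset.univ.erase (0 : F)).erase 1 := by
      simp only [Finset.mem_erase, Finset.mem_univ, and_true, ne_eq, neg_eq_zero, one_ne_zero,
        not_false_eq_true]
      exact fun h => h1m h.symm
    have e3 : s'.card = Fintype.card F - 1 - 1 - 1 := by
      simp only [s']
      rw [Finset.card_erase_of_mem m2, e2]
    have hthree : 3 ≤ Fintype.card F := by
      have : ({0, 1, -1} : Finset F).card ≤ Fintype.card F := Finset.card_le_univ _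
      rw [Finset.card_insert_of_notMem, Finset.card_insert_of_notMem,
        Finset.card_singleton] at this
      · exact this
      · simpa using h1m
      · simp
    omega
  let T : Finset F := s'.image gam
  have hfib : ∀ v ∈ T, (s'.filter (fun c => gam c = v)).card ≤ 2 := by
    intro v hv
    obtain ⟨c0, hc0, rfl⟩ := Finset.mem_image.1 hv
    have hc0' := (hs'mem c0).1 hc0
    have hsub : s'.filter (fun c => gam c = gam c0) ⊆ {c0, c0⁻¹} := by
      intro c hc
      rw [Finset.mem_filter] at hc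
      have hc' := (hs'mem c).1 hc.1
      rcases gam_fib hc'.2.2 hc0'.2.2 hc.2 with h | h
      · simp [h]
      · simp [h]
    exact (Finset.card_le_card hsub).trans Finset.card_le_two
  have hcard : s'.card ≤ 2 * T.card :=
    Finset.card_le_mul_card_image (s := s') (f := gam) 2 hfib
  have h0T : (0 : F) ∉ T := by
    intro h
    obtain ⟨c, hc, hc2⟩ := Finset.mem_image.1 h
    have hc' := (hs'mem c).1 hc
    exact hc'.2.1 (gam_eq_zero hc'.2.2 hc2)
  have h4T : (4 : F) ∉ T := by
    intro h
    obtain ⟨c, hc, hc2⟩ := Finset.mem_image.1 h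
    have hc' := (hs'mem c).1 hc
    exact hc'.1 (gam_eq_four hc'.2.2 hc2)
  let C0 : Finset F := insert 0 (insert 4 T)
  have hC0card : C0.card = T.card + 2 := by
    simp only [C0]
    rw [Finset.card_insert_of_notMem, Finset.card_insert_of_notMem h4T]
    simp only [Finset.mem_insert, not_or]
    exact ⟨fun h => h4 h.symm, h0T⟩
  have hC0 : ∀ v ∈ C0, ∃ c : F, c ≠ 0 ∧ gam c = v := by
    intro v hv
    simp only [C0, Finset.mem_insert] at hv
    rcases hv with rfl | rfl | hv
    · exact ⟨1, one_ne_zero, gam_one⟩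
    · exact ⟨-1, neg_ne_zero.2 one_ne_zero, gam_neg_one⟩
    · obtain ⟨c, hc, hc2⟩ := Finset.mem_image.1 hv
      exact ⟨c, ((hs'mem c).1 hc).2.2, hc2⟩
  have hq : Fintype.card F + 1 ≤ 2 * C0.card := by omega
  let S1 : Finset F := C0.image (fun x => A * x)
  let S2 : Finset F := C0.image (fun x => c₀ - B * x)
  have hS1 : S1.card = C0.card := Finset.card_image_of_injective _ (mul_right_injective₀ hA)
  have hS2 : S2.card = C0.card := by
    apply Finset.card_image_of_injective
    intro x y h
    have : B * x = B * y := by linear_combination -h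
    exact mul_left_cancel₀ hB this
  have hne : (S1 ∩ S2).Nonempty := by
    apply Finset.inter_nonempty_of_card_lt_card_add_card (Finset.subset_univ _)
      (Finset.subset_univ _)
    rw [Finset.card_univ, hS1, hS2]; omega
  obtain ⟨v, hv⟩ := hne
  rw [Finset.mem_inter] at hv
  obtain ⟨x1, hx1, rfl⟩ := Finset.mem_image.1 hv.1
  obtain ⟨x2, hx2, h⟩ := Finset.mem_image.1 hv.2
  obtain ⟨c, hc, rfl⟩ := hC0 x1 hx1
  obtain ⟨c', hc', rfl⟩ := hC0 x2 hx2
  exact ⟨c, c', hc, hc', by linear_combination -h⟩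

end Cfsg.Agent.Lib.Helper11_HP2_CCARD
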