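import Mathlib
import Cfsg.Agent.Lib.Helper83_HP2Defs

/-!
# HP2-SPANW (helper83's market `hp2_packages`)
-/

set_option autoImplicit false
set_option linter.unusedSectionVars false
set_option linter.unusedVariables false
set_option linter.style.haveILetI false

namespace Cfsg.Agent.Lib.Helper11_HP2_SPANW

open Module Cfsg.Agent.Lib.Helper94_Symp Cfsg.Agent.Lib.Helper94_OrthSmall
  Cfsg.Agent.Lib.Helper94_OrthSiegel Cfsg.Agent.Lib.Helper94_OrthNondeg
  Cfsg.Agent.Lib.Helper29_ODDefs Cfsg.Agent.Lib.Helper94_Q2Defs Cfsg.Agent.Lib.Helper83_HP2Defs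

variable {F : Type*} [Field F] [Finite F] {t : ℕ} {S M L : Subgroup (PV F t ≃ₗ[F] PV F t)}

/-- avoiding a finite set of at most four values in a field with at least five elements -/
theorem exists_avoid4 (hq : 5 ≤ Nat.card F) (a b c d : F) :
    ∃ x : F, x ≠ a ∧ x ≠ b ∧ x ≠ c ∧ x ≠ d := by
  classical
  haveI : Fintype F := Fintype.ofFinite F
  by_contra hcon
  push Not at hcon
  have hsub : (Finset.univ : Finset F) ⊆ {a, b, c, d} := by
    intro x _
    by_cases h1 : x = a
    · simp [h1]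
    by_cases h2 : x = b
    · simp [h2]
    by_cases h3 : x = c
    · simp [h3]
    have := hcon x h1 h2 h3
    simp [this]
  have h1 := Finset.card_le_card hsub
  have h2 : ({a, b, c, d} : Finset F).card ≤ 4 := Finset.card_le_four
  rw [Finset.card_univ, ← Nat.card_eq_fintype_card] at h1
  omega

/-- the "row" part: if `ζ.1 ≠ 0` then `F × 0 ≤ A`. -/
theorem row_mem (hq : 5 ≤ Nat.card F) (ζ : F × F) (h1 : ζ.1 ≠ 0) (A : AddSubgroup (F × F))
    (hrot : ∀ c : F, c ≠ 0 → rotAct c ζ - ζ ∈ A) (y : F) : ((y, 0) : F × F) ∈ A := by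
  obtain ⟨al, be⟩ := ζ
  simp only at h1
  by_cases hbe : be = 0
  · subst hbe
    -- `g c' - g c` with `c' = c + y / al`
    obtain ⟨c, hc0, hc1, -, -⟩ := exists_avoid4 hq (0 : F) (-(y / al)) 0 0
    have hc' : c + y / al ≠ 0 := by
      intro h
      apply hc1
      linear_combination h
    have := A.sub_mem (hrot _ hc') (hrot _ hc0)
    convert this using 1
    simp only [rotAct, mul_zero, Prod.mk_sub_mk, sub_self]
    ext
    · simp only
      field_simp
      ring
    · simp
  · by_cases hy : y = 0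
    · subst hy
      exact A.zero_mem
    obtain ⟨C, hC0, hC1, -, -⟩ := exists_avoid4 hq (0 : F) 1 0 0
    obtain ⟨C', hC'0, hC'1, hS0, hS1⟩ := exists_avoid4 hq (0 : F) 1 (-C) (1 - C)
    have hS0' : C + C' ≠ 0 := by
      intro h
      apply hS0
      linear_combination h
    have hS1' : C + C' - 1 ≠ 0 := by
      intro h
      apply hS1
      linear_combination h
    have hC1' : C - 1 ≠ 0 := sub_ne_zero.2 hC1
    have hC'1' : C' - 1 ≠ 0 := sub_ne_zero.2 hC'1
    set x : F := C⁻¹ + C'⁻¹ - (C + C' - 1)⁻¹ - 1 with hx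
    have hxne : x ≠ 0 := by
      have : x * (C * C' * (C + C' - 1)) = -((C + C') * ((C - 1) * (C' - 1))) := by
        rw [hx]
        field_simp
        ring
      intro h0
      rw [h0, zero_mul] at this
      have h3 : (C + C') * ((C - 1) * (C' - 1)) = 0 := by linear_combination this
      exact (mul_ne_zero hS0' (mul_ne_zero hC1' hC'1')) h3
    set c'' : F := y / (al * x) with hc''
    have hc''0 : c'' ≠ 0 := div_ne_zero hy (mul_ne_zero h1 hxne)
    have m1 := hrot (c'' * C⁻¹) (mul_ne_zero hc''0 (inv_ne_zero hC0))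
    have m2 := hrot (c'' * C'⁻¹) (mul_ne_zero hc''0 (inv_ne_zero hC'0))
    have m3 := hrot (c'' * (C + C' - 1)⁻¹) (mul_ne_zero hc''0 (inv_ne_zero hS1'))
    have m4 := hrot c'' hc''0
    have := A.sub_mem (A.sub_mem (A.add_mem m1 m2) m3) m4
    convert this using 1
    simp only [rotAct, Prod.mk_sub_mk, Prod.mk_add_mk]
    ext
    · simp only
      have : y = al * c'' * x := by
        rw [hc'']
        field_simp
      rw [this, hx]
      ring
    · simp only [mul_inv, inv_inv]
      ring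

/-- the "column" part when `ζ.2 = 0`. -/
theorem col_mem (hq : 5 ≤ Nat.card F) (ζ : F × F) (h1 : ζ.1 ≠ 0) (h2 : ζ.2 = 0)
    (A : AddSubgroup (F × F))
    (hswp : ∀ b : F, b ≠ 0 → swpAct b ζ - ζ ∈ A) (y : F) : ((0, y) : F × F) ∈ A := by
  obtain ⟨al, be⟩ := ζ
  simp only at h1 h2
  subst h2
  obtain ⟨u, hu0, hu1, -, -⟩ := exists_avoid4 hq (0 : F) (-(y / al)) 0 0
  have hu' : u + y / al ≠ 0 := by
    intro h
    apply hu1
    linear_combination h
  have := A.sub_mem (hswp _ (inv_ne_zero hu')) (hswp _ (inv_ne_zero hu0))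
  convert this using 1
  simp only [swpAct, mul_zero, Prod.mk_sub_mk, inv_inv]
  ext
  · simp
  · simp only
    field_simp
    ring

theorem top_of_rows (A : AddSubgroup (F × F)) (hr : ∀ y : F, ((y, 0) : F × F) ∈ A)
    (hc : ∀ y : F, ((0, y) : F × F) ∈ A) : A = ⊤ := by
  rw [eq_top_iff]
  intro z _
  have := A.add_mem (hr z.1) (hc z.2)
  convert this using 1
  ext <;> simp

theorem rot_swap (c : F) (ζ : F × F) : rotAct c ζ.swap = (rotAct c⁻¹ ζ).swap := by
  simp [rotAct]

theorem swp_swap (b : F) (ζ : F × F) : swpAct b ζ.swap = (swpAct b⁻¹ ζ).swap := by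
  simp [swpAct]

theorem top_of_fst (hq : 5 ≤ Nat.card F) (ζ : F × F) (h1 : ζ.1 ≠ 0) (A : AddSubgroup (F × F))
    (hrot : ∀ c : F, c ≠ 0 → rotAct c ζ - ζ ∈ A) (hswp : ∀ b : F, b ≠ 0 → swpAct b ζ - ζ ∈ A) :
    A = ⊤ := by
  apply top_of_rows A (row_mem hq ζ h1 A hrot)
  by_cases h2 : ζ.2 = 0
  · exact col_mem hq ζ h1 h2 A hswp
  · -- apply `row_mem` to the swapped data
    let A' : AddSubgroup (F × F) := A.comap (AddEquiv.prodComm (M := F) (N := F)).toAddMonoidHom
    have hrot' : ∀ c : F, c ≠ 0 → rotAct c ζ.swap - ζ.swap ∈ A' := by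
      intro c hc
      have := hrot c⁻¹ (inv_ne_zero hc)
      rw [rot_swap]
      change (AddEquiv.prodComm (M := F) (N := F)) _ ∈ A
      convert this using 1
      ext <;> simp
    intro y
    have := row_mem hq ζ.swap h2 A' hrot' y
    exact this

/-- **HP2-SPANW** -/
theorem SPANW (hq : 5 ≤ Nat.card F) (ζ : F × F) (hζ : ζ ≠ 0) (A : AddSubgroup (F × F))
    (hrot : ∀ c : F, c ≠ 0 → rotAct c ζ - ζ ∈ A) (hswp : ∀ b : F, b ≠ 0 → swpAct b ζ - ζ ∈ A) :
    A = ⊤ := by
  by_cases h1 : ζ.1 = 0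
  · have h2 : ζ.2 ≠ 0 := by
      intro h2
      apply hζ
      ext <;> simp [h1, h2]
    let A' : AddSubgroup (F × F) := A.comap (AddEquiv.prodComm (M := F) (N := F)).toAddMonoidHom
    have hrot' : ∀ c : F, c ≠ 0 → rotAct c ζ.swap - ζ.swap ∈ A' := by
      intro c hc
      have := hrot c⁻¹ (inv_ne_zero hc)
      rw [rot_swap]
      change (AddEquiv.prodComm (M := F) (N := F)) _ ∈ A
      convert this using 1
      ext <;> simp
    have hswp' : ∀ b : F, b ≠ 0 → swpAct b ζ.swap - ζ.swap ∈ A' := by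
      intro b hb
      have := hswp b⁻¹ (inv_ne_zero hb)
      rw [swp_swap]
      change (AddEquiv.prodComm (M := F) (N := F)) _ ∈ A
      convert this using 1
      ext <;> simp
    have hA' : A' = ⊤ := top_of_fst hq ζ.swap h2 A' hrot' hswp'
    rw [eq_top_iff]
    intro z _
    have : z.swap ∈ A' := by rw [hA']; trivial
    exact this
  · exact top_of_fst hq ζ h1 A hrot hswp

end Cfsg.Agent.Lib.Helper11_HP2_SPANW
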