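import Mathlib
import Cfsg.Agent.Lib.Helper4_Dihedral

set_option autoImplicit false

namespace Cfsg.Agent.Lib.Helper4_DihedralIso

open Cfsg.Agent.Lib.Helper4_Dihedral

variable {G : Type*} [Group G]

/-- `i ↦ ρ^i` on `ZMod (orderOf ρ)`. -/
noncomputable def rotPow (ρ : G) (i : ZMod (orderOf ρ)) : G := ρ ^ (ZMod.cast i : ℤ)

theorem rotPow_intCast (ρ : G) (k : ℤ) : rotPow ρ (k : ZMod (orderOf ρ)) = ρ ^ k := by
  unfold rotPow
  rw [zpow_eq_zpow_iff_modEq, ZMod.coe_intCast]
  exact Int.mod_modEq _ _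

theorem rotPow_eq_one_iff (ρ : G) (i : ZMod (orderOf ρ)) : rotPow ρ i = 1 ↔ i = 0 := by
  obtain ⟨k, rfl⟩ := ZMod.intCast_surjective i
  rw [rotPow_intCast, ← orderOf_dvd_iff_zpow_eq_one, ZMod.intCast_zmod_eq_zero_iff_dvd]

theorem rotPow_mem_zpowers (ρ : G) (i : ZMod (orderOf ρ)) : rotPow ρ i ∈ Subgroup.zpowers ρ :=
  Subgroup.zpow_mem _ (Subgroup.mem_zpowers _) _

/-- The underlying function of the hom `DihedralGroup n → G`. -/
noncomputable def dihedralFun (x y : G) : DihedralGroup (orderOf (x * y)) → G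
  | .r i => rotPow (x * y) i
  | .sr i => x * rotPow (x * y) i

theorem dihedralFun_mul {x y : G} (hx : x * x = 1) (hy : y * y = 1)
    (a b : DihedralGroup (orderOf (x * y))) :
    dihedralFun x y (a * b) = dihedralFun x y a * dihedralFun x y b := by
  rcases a with i | i <;> rcases b with j | j
  · obtain ⟨a, rfl⟩ := ZMod.intCast_surjective i
    obtain ⟨b, rfl⟩ := ZMod.intCast_surjective j
    rw [DihedralGroup.r_mul_r, ← Int.cast_add]
    simp only [dihedralFun, rotPow_intCast, zpow_add]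
  · obtain ⟨a, rfl⟩ := ZMod.intCast_surjective i
    obtain ⟨b, rfl⟩ := ZMod.intCast_surjective j
    rw [DihedralGroup.r_mul_sr, ← Int.cast_sub]
    simp only [dihedralFun, rotPow_intCast]
    rw [← mul_assoc, zpow_mul_x hx hy, zpow_sub, mul_assoc]
    congr 1
    exact ((Commute.refl (x * y)).zpow_zpow b a).inv_right.eq
  · obtain ⟨a, rfl⟩ := ZMod.intCast_surjective i
    obtain ⟨b, rfl⟩ := ZMod.intCast_surjective j
    rw [DihedralGroup.sr_mul_r, ← Int.cast_add]
    simp only [dihedralFun, rotPow_intCast, zpow_add, mul_assoc]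
  · obtain ⟨a, rfl⟩ := ZMod.intCast_surjective i
    obtain ⟨b, rfl⟩ := ZMod.intCast_surjective j
    rw [DihedralGroup.sr_mul_sr, ← Int.cast_sub]
    simp only [dihedralFun, rotPow_intCast]
    calc (x * y) ^ (b - a) = ((x * y) ^ a)⁻¹ * (x * y) ^ b := by
          rw [zpow_sub]
          exact ((Commute.refl (x * y)).zpow_zpow b a).inv_right.eq
      _ = (x * (x * y) ^ a * x) * (x * y) ^ b := by rw [conj_rot_zpow hx hy]
      _ = x * (x * y) ^ a * (x * (x * y) ^ b) := by group

/-- The homomorphism `DihedralGroup (orderOf (x*y)) →* G` determined by two involutions. -/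
noncomputable def dihedralHom {x y : G} (hx : x * x = 1) (hy : y * y = 1) :
    DihedralGroup (orderOf (x * y)) →* G :=
  MonoidHom.mk' (dihedralFun x y) (dihedralFun_mul hx hy)

theorem dihedralHom_r {x y : G} (hx : x * x = 1) (hy : y * y = 1) (i : ZMod (orderOf (x * y))) :
    dihedralHom hx hy (.r i) = rotPow (x * y) i := rfl

theorem dihedralHom_sr {x y : G} (hx : x * x = 1) (hy : y * y = 1) (i : ZMod (orderOf (x * y))) :
    dihedralHom hx hy (.sr i) = x * rotPow (x * y) i := rfl

theorem dihedralHom_injective {x y : G} (hx : x * x = 1) (hy : y * y = 1) (hx1 : x ≠ 1)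
    (hy1 : y ≠ 1) : Function.Injective (dihedralHom hx hy) := by
  rw [injective_iff_map_eq_one]
  intro a ha
  rcases a with i | i
  · rw [dihedralHom_r, rotPow_eq_one_iff] at ha
    rw [ha]; rfl
  · exfalso
    rw [dihedralHom_sr] at ha
    obtain ⟨k, rfl⟩ := ZMod.intCast_surjective i
    rw [rotPow_intCast] at ha
    apply refl_notMem_zpowers hx hy hx1 hy1 k
    rw [ha]
    exact Subgroup.one_mem _

theorem dihedralHom_range {x y : G} (hx : x * x = 1) (hy : y * y = 1) :
    (dihedralHom hx hy).range = Subgroup.closure ({x, y} : Set G) := by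
  apply le_antisymm
  · rintro _ ⟨a, rfl⟩
    rw [mem_closure_iff hx hy]
    rcases a with i | i
    · obtain ⟨k, rfl⟩ := ZMod.intCast_surjective i
      exact ⟨k, Or.inl (by rw [dihedralHom_r, rotPow_intCast])⟩
    · obtain ⟨k, rfl⟩ := ZMod.intCast_surjective i
      exact ⟨k, Or.inr (by rw [dihedralHom_sr, rotPow_intCast])⟩
  · rw [Subgroup.closure_le]
    rintro z (rfl | hz)
    · refine ⟨.sr 0, ?_⟩
      rw [dihedralHom_sr]
      have : rotPow (z * y) 0 = 1 := (rotPow_eq_one_iff _ _).mpr rfl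
      rw [this, mul_one]
    · rw [Set.mem_singleton_iff] at hz
      subst hz
      refine ⟨.sr 1, ?_⟩
      rw [dihedralHom_sr]
      have : rotPow (x * z) ((1 : ℤ) : ZMod (orderOf (x * z))) = (x * z) ^ (1 : ℤ) :=
        rotPow_intCast _ _
      rw [Int.cast_one, zpow_one] at this
      rw [this, x_mul_rot hx]

/-- Two distinct-from-one involutions generate a dihedral group of order `2 * orderOf (x*y)`. -/
noncomputable def dihedralEquiv {x y : G} (hx : x * x = 1) (hy : y * y = 1) (hx1 : x ≠ 1)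
    (hy1 : y ≠ 1) :
    DihedralGroup (orderOf (x * y)) ≃* ↥(Subgroup.closure ({x, y} : Set G)) :=
  (MonoidHom.ofInjective (dihedralHom_injective hx hy hx1 hy1)).trans
    (MulEquiv.subgroupCongr (dihedralHom_range hx hy))

theorem card_closure {x y : G} (hx : x * x = 1) (hy : y * y = 1) (hx1 : x ≠ 1)
    (hy1 : y ≠ 1) :
    Nat.card ↥(Subgroup.closure ({x, y} : Set G)) = 2 * orderOf (x * y) := by
  rw [← Nat.card_congr (dihedralEquiv hx hy hx1 hy1).toEquiv, DihedralGroup.nat_card]

end Cfsg.Agent.Lib.Helper4_DihedralIso
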