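import Mathlib
import Cfsg.Agent.Lib.Helper4_InvPairs
import Cfsg.Agent.Lib.Helper4_Dihedral
import Cfsg.Agent.Lib.Helper4_DihedralIso

set_option autoImplicit false

namespace Cfsg.Agent.Lib.Helper4_Isolated

open Cfsg.Agent.Lib.Helper4_InvPairs Cfsg.Agent.Lib.Helper4_Dihedral
  Cfsg.Agent.Lib.Helper4_DihedralIso

variable {G : Type*} [Group G]

/-- membership in a conjugate Sylow subgroup -/
theorem mem_smul_sylow_iff {p : ℕ} (P : Sylow p G) (h x : G) :
    x ∈ h • P ↔ h⁻¹ * x * h ∈ P := by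
  show x ∈ ((h • P : Sylow p G) : Subgroup G) ↔ _
  rw [Sylow.coe_subgroup_smul, Subgroup.mem_pointwise_smul_iff_inv_smul_mem, ← map_inv,
    MulAut.smul_def, MulAut.conj_apply, inv_inv]
  rfl

/-- An involution isolated in one Sylow 2-subgroup is isolated in every Sylow 2-subgroup
containing it. -/
theorem isolated_of_sylow [Finite G] {p : ℕ} [Fact p.Prime] (P P' : Sylow p G) (u : G)
    (hiso : ∀ g : G, g * u * g⁻¹ ∈ P → g * u * g⁻¹ = u) (huP' : u ∈ P') :
    ∀ g : G, g * u * g⁻¹ ∈ P' → g * u * g⁻¹ = u := by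
  obtain ⟨h, rfl⟩ := MulAction.exists_smul_eq G P P'
  have h1 : h⁻¹ * u * h = u := by
    have := (mem_smul_sylow_iff P h u).mp huP'
    have h2 := hiso h⁻¹ (by rwa [inv_inv])
    rwa [inv_inv] at h2
  intro g hg
  have h3 := (mem_smul_sylow_iff P h _).mp hg
  have h4 : (h⁻¹ * g) * u * (h⁻¹ * g)⁻¹ ∈ P := by
    have : (h⁻¹ * g) * u * (h⁻¹ * g)⁻¹ = h⁻¹ * (g * u * g⁻¹) * h := by group
    rw [this]; exact h3
  have h5 := hiso _ h4
  have h6 : g * u * g⁻¹ = h * ((h⁻¹ * g) * u * (h⁻¹ * g)⁻¹) * h⁻¹ := by group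
  rw [h6, h5]
  calc h * u * h⁻¹ = h * (h⁻¹ * u * h) * h⁻¹ := by rw [h1]
    _ = u := by group

/-- If `u` is isolated in a Sylow `p`-subgroup, `v` is conjugate to `u`, and `⟨u, v⟩` is a
`p`-group, then `v = u`. -/
theorem eq_of_isolated [Finite G] {p : ℕ} [Fact p.Prime] (P : Sylow p G) (u : G)
    (hiso : ∀ g : G, g * u * g⁻¹ ∈ P → g * u * g⁻¹ = u) (g : G)
    (hp : IsPGroup p (Subgroup.closure ({u, g * u * g⁻¹} : Set G))) :
    g * u * g⁻¹ = u := by
  obtain ⟨P', hP'⟩ := hp.exists_le_sylow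
  have hu : u ∈ P' := hP' (Subgroup.subset_closure (by simp))
  have hv : g * u * g⁻¹ ∈ P' := hP' (Subgroup.subset_closure (by simp))
  exact isolated_of_sylow P P' u hiso hu g hv

/-- Two involutions whose product has 2-power order generate a 2-group. -/
theorem isPGroup_closure {u w : G} (hu : orderOf u = 2) (hw : orderOf w = 2) (a : ℕ)
    (ha : orderOf (u * w) = 2 ^ a) : IsPGroup 2 (Subgroup.closure ({u, w} : Set G)) := by
  apply IsPGroup.of_card (n := a + 1)
  rw [card_closure (mul_self_of_orderOf_two hu) (mul_self_of_orderOf_two hw)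
    (ne_one_of_orderOf_two hu) (ne_one_of_orderOf_two hw), ha, pow_succ, mul_comm]

/-- Two commuting involutions generate a 2-group. -/
theorem isPGroup_closure_of_commute {u w : G} (hu : orderOf u = 2) (hw : orderOf w = 2)
    (hc : Commute u w) : IsPGroup 2 (Subgroup.closure ({u, w} : Set G)) := by
  by_cases h : u = w
  · apply isPGroup_closure hu hw 0
    rw [← h, mul_self_of_orderOf_two hu, orderOf_one, pow_zero]
  · apply isPGroup_closure hu hw 1
    rw [pow_one]
    apply orderOf_two_of_mul_self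
    · calc u * w * (u * w) = u * (w * u) * w := by group
        _ = u * (u * w) * w := by rw [hc.eq]
        _ = (u * u) * (w * w) := by group
        _ = 1 := by rw [mul_self_of_orderOf_two hu, mul_self_of_orderOf_two hw, one_mul]
    · intro h1
      apply h
      have : u = w⁻¹ := eq_inv_of_mul_eq_one_left h1
      rw [this, inv_eq_self_of_orderOf_two hw]

end Cfsg.Agent.Lib.Helper4_Isolated
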