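import Mathlib

set_option autoImplicit false

namespace Cfsg.Agent.Lib.Helper66_Basic

open scoped Pointwise

/-- if two coprime powers of `c` lie in a subgroup then so does `c` -/
theorem mem_of_pow_mem_of_coprime {G : Type*} [Group G] {H : Subgroup G} {c : G} {a b : ℕ}
    (hab : Nat.Coprime a b) (ha : c ^ a ∈ H) (hb : c ^ b ∈ H) : c ∈ H := by
  have h1 : (Nat.gcd a b : ℤ) = a * Nat.gcdA a b + b * Nat.gcdB a b := Nat.gcd_eq_gcd_ab a b
  rw [hab] at h1
  have h2 : c = (c ^ a) ^ (Nat.gcdA a b) * (c ^ b) ^ (Nat.gcdB a b) := by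
    rw [← zpow_natCast, ← zpow_natCast, ← zpow_mul, ← zpow_mul, ← zpow_add, ← h1]
    simp
  rw [h2]
  exact H.mul_mem (H.zpow_mem ha _) (H.zpow_mem hb _)

/-- an element of `p`-power order normalizing a Sylow `p`-subgroup lies in it -/
theorem mem_sylow_of_normalizer {G : Type*} [Group G] {p : ℕ} [Fact p.Prime] (P : Sylow p G)
    {c : G} (hc : c ∈ Subgroup.normalizer ((P : Subgroup G) : Set G)) {a : ℕ}
    (ha : orderOf c = p ^ a) : c ∈ (P : Subgroup G) := by
  have hz : IsPGroup p (Subgroup.zpowers c) := by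
    apply IsPGroup.of_card (n := a)
    rw [Nat.card_zpowers, ha]
  have hle : Subgroup.zpowers c ≤ Subgroup.normalizer ((P : Subgroup G) : Set G) := by
    rw [Subgroup.zpowers_le]; exact hc
  have hsup : IsPGroup p (Subgroup.zpowers c ⊔ (P : Subgroup G) : Subgroup G) :=
    hz.to_sup_of_normal_right' P.isPGroup' hle
  have := P.is_maximal' hsup le_sup_right
  have h2 : Subgroup.zpowers c ≤ (P : Subgroup G) := by
    rw [← this]; exact le_sup_left
  exact h2 (Subgroup.mem_zpowers c)

/-- the `p'`-exponent: a number `m` prime to `p` such that `c ^ m` has `p`-power order -/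
theorem exists_coprime_pow_pElement {G : Type*} [Group G] [Finite G] (p : ℕ) [hp : Fact p.Prime]
    (c : G) : ∃ m a : ℕ, Nat.Coprime m p ∧ orderOf (c ^ m) = p ^ a := by
  have hn : orderOf c ≠ 0 := (orderOf_pos c).ne'
  refine ⟨ordCompl[p] (orderOf c), (orderOf c).factorization p, ?_, ?_⟩
  · exact (Nat.coprime_ordCompl hp.out hn).symm
  · rw [orderOf_pow_of_dvd]
    · have h := Nat.ordProj_mul_ordCompl_eq_self (orderOf c) p
      have hpos : 0 < ordCompl[p] (orderOf c) := Nat.ordCompl_pos p hn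
      exact Nat.div_eq_of_eq_mul_left hpos h.symm
    · exact (Nat.ordCompl_pos p hn).ne'
    · exact Nat.ordCompl_dvd (orderOf c) p

end Cfsg.Agent.Lib.Helper66_Basic
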