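import Mathlib
import Cfsg.Agent.Lib.Helper4_InvPairs
import Cfsg.Agent.Lib.Helper4_Isolated
import Cfsg.Agent.Lib.Helper66_Basic
import Cfsg.Agent.Lib.Helper17_Sylow

set_option autoImplicit false
set_option linter.unusedSectionVars false
set_option linter.unusedVariables false

namespace Cfsg.Agent.Lib.Helper4_KleinSylow

open Cfsg.Agent.Lib.Helper4_InvPairs Cfsg.Agent.Lib.Helper4_Isolated

variable {G : Type*} [Group G]

/-- **Burnside's fusion lemma**: elements of an abelian Sylow subgroup that are conjugate in `G`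
are conjugate in its normalizer. -/
theorem burnside_fusion [Finite G] {p : ℕ} [Fact p.Prime] (P : Sylow p G)
    (hP : ∀ a ∈ P, ∀ b ∈ P, a * b = b * a) (x g : G) (hx : x ∈ P) (hy : g * x * g⁻¹ ∈ P) :
    ∃ n ∈ Subgroup.normalizer ((P : Subgroup G) : Set G), n * x * n⁻¹ = g * x * g⁻¹ := by
  obtain ⟨y, hydef⟩ : ∃ y, y = g * x * g⁻¹ := ⟨_, rfl⟩
  rw [← hydef] at hy ⊢
  set C := Subgroup.centralizer ({y} : Set G) with hC
  have hPC : (P : Subgroup G) ≤ C := by
    intro a ha
    rw [hC, Subgroup.mem_centralizer_iff]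
    intro z hz
    rw [Set.mem_singleton_iff] at hz
    subst hz
    exact hP z hy a ha
  have hgPC : ((g • P : Sylow p G) : Subgroup G) ≤ C := by
    intro z hz
    have h1 := (mem_smul_sylow_iff P g z).mp hz
    rw [hC, Subgroup.mem_centralizer_iff]
    intro w hw
    rw [Set.mem_singleton_iff] at hw
    subst hw
    have h2 := hP x hx _ h1
    rw [hydef]
    calc g * x * g⁻¹ * z = g * (x * (g⁻¹ * z * g)) * g⁻¹ := by group
      _ = g * ((g⁻¹ * z * g) * x) * g⁻¹ := by rw [h2]
      _ = z * (g * x * g⁻¹) := by group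
  obtain ⟨c, hc⟩ := MulAction.exists_smul_eq C ((g • P).subtype hgPC) (P.subtype hPC)
  rw [Sylow.smul_subtype] at hc
  have hc' : (c : G) • (g • P) = P := Sylow.subtype_injective hc
  rw [← mul_smul, Sylow.smul_eq_iff_mem_normalizer] at hc'
  refine ⟨(c : G) * g, hc', ?_⟩
  have hcy : y * (c : G) = (c : G) * y := by
    have h1 : (c : G) ∈ Subgroup.centralizer ({y} : Set G) := c.2
    rw [Subgroup.mem_centralizer_iff] at h1
    exact h1 y rfl
  calc (c : G) * g * x * ((c : G) * g)⁻¹ = (c : G) * (g * x * g⁻¹) * (c : G)⁻¹ := by group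
    _ = (c : G) * y * (c : G)⁻¹ := by rw [hydef]
    _ = y * (c : G) * (c : G)⁻¹ := by rw [hcy]
    _ = y := by group

/-- If `n` normalizes an abelian Sylow 2-subgroup `P` and `n^2` centralizes `a ∈ P`, then `n`
centralizes `a`. -/
theorem commute_of_sq_commute [Finite G] (P : Sylow 2 G)
    (hP : ∀ a ∈ P, ∀ b ∈ P, a * b = b * a) (n : G)
    (hn : n ∈ Subgroup.normalizer ((P : Subgroup G) : Set G)) (a : G) (ha : a ∈ P)
    (h2 : Commute (n ^ 2) a) : Commute n a := by
  obtain ⟨m, k, hm, hk⟩ := Cfsg.Agent.Lib.Helper66_Basic.exists_coprime_pow_pElement 2 n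
  have hmem : n ^ m ∈ (P : Subgroup G) :=
    Cfsg.Agent.Lib.Helper66_Basic.mem_sylow_of_normalizer P
      (Subgroup.pow_mem _ hn m) hk
  have hc1 : Commute (n ^ m) a := hP _ hmem a ha
  have hodd : Odd m := by
    rw [← Nat.not_even_iff_odd]
    intro he
    have : 2 ∣ Nat.gcd m 2 := Nat.dvd_gcd (even_iff_two_dvd.mp he) dvd_rfl
    rw [Nat.Coprime] at hm
    rw [hm] at this
    omega
  obtain ⟨j, hj⟩ := hodd
  have hpow : n ^ m = (n ^ 2) ^ j * n := by
    rw [hj, pow_succ, pow_mul]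
  rw [hpow] at hc1
  have h2j : Commute ((n ^ 2) ^ j) a := h2.pow_left j
  have hn_eq : n = ((n ^ 2) ^ j)⁻¹ * ((n ^ 2) ^ j * n) := by group
  rw [hn_eq]
  exact Commute.mul_left h2j.inv_left hc1

section klein

variable [Finite G] (P : Sylow 2 G) (hP : IsKleinFour (P : Subgroup G))

include hP

theorem klein_mul_self (x : G) (hx : x ∈ P) : x * x = 1 := by
  have := IsKleinFour.mul_self (⟨x, hx⟩ : (P : Subgroup G))
  exact congrArg Subtype.val this

theorem klein_comm (a : G) (ha : a ∈ P) (b : G) (hb : b ∈ P) : a * b = b * a := by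
  have h : IsMulCommutative (P : Subgroup G) := IsKleinFour.isMulCommutative
  have := h.is_comm.comm (⟨a, ha⟩ : (P : Subgroup G)) ⟨b, hb⟩
  exact congrArg Subtype.val this

theorem klein_card : Nat.card (P : Subgroup G) = 4 := hP.card_four

theorem klein_orderOf (x : G) (hx : x ∈ P) (hx1 : x ≠ 1) : orderOf x = 2 :=
  orderOf_two_of_mul_self (klein_mul_self P hP x hx) hx1

theorem klein_eq_mul (a b x : G) (ha : a ∈ P) (hb : b ∈ P) (hx : x ∈ P) (ha1 : a ≠ 1)
    (hb1 : b ≠ 1) (hab : a ≠ b) (hx1 : x ≠ 1) (hxa : x ≠ a) (hxb : x ≠ b) : x = a * b := by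
  have := IsKleinFour.eq_mul_of_ne_all (G := (P : Subgroup G))
    (x := ⟨a, ha⟩) (y := ⟨b, hb⟩) (z := ⟨x, hx⟩)
    (fun h => ha1 (congrArg Subtype.val h)) (fun h => hb1 (congrArg Subtype.val h))
    (fun h => hab (congrArg Subtype.val h)) (fun h => hx1 (congrArg Subtype.val h))
    (fun h => hxa (congrArg Subtype.val h)) (fun h => hxb (congrArg Subtype.val h))
  exact congrArg Subtype.val this

/-- If two distinct involutions of a Klein four Sylow 2-subgroup are conjugate, all are. -/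
theorem klein_all_conj (a b : G) (ha : a ∈ P) (hb : b ∈ P) (ha1 : a ≠ 1) (hb1 : b ≠ 1)
    (hab : a ≠ b) (hconj : IsConj a b) (x : G) (hx : x ∈ P) (hx1 : x ≠ 1) : IsConj a x := by
  obtain ⟨g, hg⟩ := isConj_iff.mp hconj
  obtain ⟨n, hn, hnab⟩ := burnside_fusion P (klein_comm P hP) a g ha (by rw [hg]; exact hb)
  rw [hg] at hnab
  by_cases hxa : x = a
  · rw [hxa]
  by_cases hxb : x = b
  · rw [hxb]; exact hconj
  have hxab := klein_eq_mul P hP a b x ha hb hx ha1 hb1 hab hx1 hxa hxb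
  -- the image of b under n
  have hnb : n * b * n⁻¹ ∈ (P : Subgroup G) :=
    (Subgroup.mem_normalizer_iff.mp hn b).mp hb
  have hnb1 : n * b * n⁻¹ ≠ 1 := by
    intro h
    apply hb1
    have : b = n⁻¹ * (n * b * n⁻¹) * n := by group
    rw [this, h]; group
  have hnbb : n * b * n⁻¹ ≠ b := by
    intro h
    apply hab
    have e1 : a = n⁻¹ * (n * a * n⁻¹) * n := by group
    have e2 : b = n⁻¹ * (n * b * n⁻¹) * n := by group
    rw [e1, e2, hnab, h]
  have hnba : n * b * n⁻¹ ≠ a := by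
    intro h
    -- then n^2 centralizes a
    have h2 : Commute (n ^ 2) a := by
      have : n ^ 2 * a * (n ^ 2)⁻¹ = a := by
        calc n ^ 2 * a * (n ^ 2)⁻¹ = n * (n * a * n⁻¹) * n⁻¹ := by rw [pow_two]; group
          _ = a := by rw [hnab, h]
      have e : n ^ 2 * a = a * n ^ 2 := by
        calc n ^ 2 * a = n ^ 2 * a * (n ^ 2)⁻¹ * n ^ 2 := by group
          _ = a * n ^ 2 := by rw [this]
      exact e
    have h3 := commute_of_sq_commute P (klein_comm P hP) n hn a ha h2
    apply hab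
    rw [← hnab, h3.eq]
    group
  have hnbab := klein_eq_mul P hP a b (n * b * n⁻¹) ha hb hnb ha1 hb1 hab hnb1 hnba hnbb
  rw [hxab, ← hnbab]
  exact hconj.trans (isConj_iff.mpr ⟨n, rfl⟩)

/-- Every involution of `G` is conjugate to an element of `P`. -/
theorem exists_conj_mem (t : G) (ht : orderOf t = 2) :
    ∃ y, y ∈ (P : Subgroup G) ∧ y ≠ 1 ∧ IsConj y t := by
  have hp : IsPGroup 2 (Subgroup.zpowers t) := by
    apply IsPGroup.of_card (n := 1)
    rw [Nat.card_zpowers, ht, pow_one]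
  obtain ⟨Q, hQ⟩ := hp.exists_le_sylow
  obtain ⟨g, rfl⟩ := MulAction.exists_smul_eq G P Q
  have h1 := (mem_smul_sylow_iff P g t).mp (hQ (Subgroup.mem_zpowers t))
  refine ⟨g⁻¹ * t * g, h1, ?_, ?_⟩
  · intro h
    apply ne_one_of_orderOf_two ht
    have : t = g * (g⁻¹ * t * g) * g⁻¹ := by group
    rw [this, h]; group
  · rw [isConj_iff]
    exact ⟨g, by group⟩

/-- the type of conjugacy classes of involutions -/
abbrev InvClasses (G : Type*) [Group G] : Type _ :=
  {C : ConjClasses G // ∃ t : G, orderOf t = 2 ∧ ConjClasses.mk t = C}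

/-- the map from non-identity elements of `P` to classes of involutions -/
def toClass : {x : G // x ∈ (P : Subgroup G) ∧ x ≠ 1} → InvClasses G :=
  fun x => ⟨ConjClasses.mk x.1, x.1, klein_orderOf P hP x.1 x.2.1 x.2.2, rfl⟩

theorem toClass_surjective : Function.Surjective (toClass P hP) := by
  rintro ⟨C, t, ht, rfl⟩
  obtain ⟨y, hy, hy1, hyt⟩ := exists_conj_mem P hP t ht
  refine ⟨⟨y, hy, hy1⟩, ?_⟩
  apply Subtype.ext
  exact ConjClasses.mk_eq_mk_iff_isConj.mpr hyt

theorem card_domain : Nat.card {x : G // x ∈ (P : Subgroup G) ∧ x ≠ 1} = 3 := by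
  rw [Cfsg.Agent.Lib.Helper17_Sylow.card_mem_ne_one, klein_card P hP]

/-- no fusion: three classes -/
theorem card_invClasses_of_no_fusion
    (h : ∀ x ∈ (P : Subgroup G), ∀ y ∈ (P : Subgroup G), IsConj x y → x = y) :
    Nat.card (InvClasses G) = 3 := by
  rw [← card_domain P hP]
  symm
  apply Nat.card_congr
  refine Equiv.ofBijective (toClass P hP) ⟨?_, toClass_surjective P hP⟩
  intro x y hxy
  have h1 : ConjClasses.mk x.1 = ConjClasses.mk y.1 := congrArg Subtype.val hxy
  rw [ConjClasses.mk_eq_mk_iff_isConj] at h1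
  exact Subtype.ext (h x.1 x.2.1 y.1 y.2.1 h1)

/-- fusion: one class -/
theorem card_invClasses_of_fusion (a b : G) (ha : a ∈ P) (hb : b ∈ P) (hab : a ≠ b)
    (hconj : IsConj a b) : Nat.card (InvClasses G) = 1 := by
  have ha1 : a ≠ 1 := by
    rintro rfl
    exact hab (isConj_one_right.mp hconj).symm
  have hb1 : b ≠ 1 := by
    rintro rfl
    exact hab (isConj_one_left.mp hconj)
  rw [Nat.card_eq_one_iff_unique]
  constructor
  · constructor
    intro C D
    obtain ⟨x, rfl⟩ := toClass_surjective P hP C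
    obtain ⟨y, rfl⟩ := toClass_surjective P hP D
    apply Subtype.ext
    show ConjClasses.mk x.1 = ConjClasses.mk y.1
    rw [ConjClasses.mk_eq_mk_iff_isConj]
    exact (klein_all_conj P hP a b ha hb ha1 hb1 hab hconj x.1 x.2.1 x.2.2).symm.trans
      (klein_all_conj P hP a b ha hb ha1 hb1 hab hconj y.1 y.2.1 y.2.2)
  · exact ⟨toClass P hP ⟨a, ha, ha1⟩⟩

/-- dichotomy -/
theorem fusion_dichotomy :
    (∀ x ∈ (P : Subgroup G), ∀ y ∈ (P : Subgroup G), IsConj x y → x = y) ∨
      ∃ a b : G, a ∈ P ∧ b ∈ P ∧ a ≠ b ∧ IsConj a b := by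
  by_cases h : ∀ x ∈ (P : Subgroup G), ∀ y ∈ (P : Subgroup G), IsConj x y → x = y
  · exact Or.inl h
  · right
    push Not at h
    obtain ⟨x, hx, y, hy, hc, hne⟩ := h
    exact ⟨x, y, hx, hy, hne, hc⟩

end klein

end Cfsg.Agent.Lib.Helper4_KleinSylow
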