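import Mathlib
import Cfsg.Prelude.Def_Blocks
import Cfsg.Agent.Lib.Helper78_LocalRing
import Cfsg.Agent.Lib.Helper78_CentralChar
import Cfsg.Agent.Lib.Helper78_CharFacts
import Cfsg.Agent.Lib.Helper80_CharBasic
import Cfsg.Agent.Lib.Helper16_Char
import Cfsg.Agent.Lib.Helper16_SectionNorm
import Cfsg.Agent.Lib.Helper1_Cores
import Cfsg.Agent.Lib.Helper4_KleinSylow
import Cfsg.Agent.Lib.Helper77_WeakOrth
import Cfsg.Agent.S4145

/-!
# The principal 2-block of a group with Klein four Sylow 2-subgroups and one class of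
involutions (helper16)
-/

set_option autoImplicit false
set_option linter.unusedSectionVars false

namespace Cfsg.Agent.Lib.Helper16_KleinBlock

open Cfsg Cfsg.Agent.Lib.Helper78_LocalRing Cfsg.Agent.Lib.Helper78_CentralChar
  Cfsg.Agent.Lib.Helper78_CharFacts Cfsg.Agent.Lib.Helper16_Char

open scoped ComplexConjugate

/-! ### A combinatorial lemma -/

/-- Four integers-valued data: a finite set `S` with a distinguished element `e`, nonzero integer
values `v` with `∑ v² = 4`, `v e = 1`, positive weights `d` with `d e = 1` and `∑ d v = 0`. Then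
`S = {e, a, b, c}` with `v a = 1`, `v c = -1`, `v b = ± 1`. -/
theorem four_elements {X : Type*} [DecidableEq X] (S : Finset X) (e : X) (he : e ∈ S)
    (v d : X → ℤ) (hve : v e = 1) (hde : d e = 1) (hv0 : ∀ x ∈ S, v x ≠ 0)
    (hd : ∀ x ∈ S, 0 < d x) (hsq : ∑ x ∈ S, (v x) ^ 2 = 4) (horth : ∑ x ∈ S, d x * v x = 0) :
    ∃ a b c : X, a ≠ e ∧ b ≠ e ∧ c ≠ e ∧ a ≠ b ∧ a ≠ c ∧ b ≠ c ∧
      (∀ w, w ∈ S ↔ w = e ∨ w = a ∨ w = b ∨ w = c) ∧
      v a = 1 ∧ (v b = 1 ∨ v b = -1) ∧ v c = -1 := by
  classical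
  set S' := S.erase e with hS'
  have hsq' : ∑ x ∈ S', (v x) ^ 2 = 3 := by
    have := Finset.add_sum_erase S (fun x => (v x) ^ 2) he
    simp only [hve] at this
    linarith
  have horth' : 1 + ∑ x ∈ S', d x * v x = 0 := by
    have := Finset.add_sum_erase S (fun x => d x * v x) he
    simp only [hve, hde] at this
    linarith
  have hmemS : ∀ x ∈ S', x ∈ S := fun x hx => Finset.mem_of_mem_erase hx
  have hv1 : ∀ x ∈ S', (v x) ^ 2 = 1 := by
    intro x hx
    by_contra hne
    have h0 := hv0 x (hmemS x hx)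
    have h4 : 4 ≤ (v x) ^ 2 := by
      rcases lt_or_gt_of_ne h0 with h | h
      · have h1 : v x ≤ -1 := by omega
        rcases eq_or_lt_of_le h1 with h2 | h2
        · exfalso; apply hne; rw [h2]; norm_num
        · nlinarith
      · have h1 : 1 ≤ v x := by omega
        rcases eq_or_lt_of_le h1 with h2 | h2
        · exfalso; apply hne; rw [← h2]; norm_num
        · nlinarith
    have hle : (v x) ^ 2 ≤ ∑ y ∈ S', (v y) ^ 2 :=
      Finset.single_le_sum (f := fun y => (v y) ^ 2) (fun y _ => sq_nonneg (v y)) hx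
    linarith
  have hv1' : ∀ x ∈ S', v x = 1 ∨ v x = -1 := by
    intro x hx
    have := hv1 x hx
    have h : (v x - 1) * (v x + 1) = 0 := by ring_nf; linarith
    rcases mul_eq_zero.mp h with h | h
    · left; linarith
    · right; linarith
  have hcard : S'.card = 3 := by
    have : ∑ x ∈ S', (v x) ^ 2 = ∑ x ∈ S', (1 : ℤ) := Finset.sum_congr rfl hv1
    rw [hsq', Finset.sum_const, nsmul_eq_mul, mul_one] at this
    exact_mod_cast this.symm
  have hdsum : (3 : ℤ) ≤ ∑ x ∈ S', d x := by
    have : ∑ x ∈ S', (1 : ℤ) ≤ ∑ x ∈ S', d x :=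
      Finset.sum_le_sum fun x hx => by have := hd x (hmemS x hx); omega
    rw [Finset.sum_const, nsmul_eq_mul, mul_one, hcard] at this
    exact_mod_cast this
  -- an element with value `1`
  have hex1 : ∃ a ∈ S', v a = 1 := by
    by_contra hcon
    push Not at hcon
    have hall : ∀ x ∈ S', d x * v x = - d x := by
      intro x hx
      rcases hv1' x hx with h | h
      · exact absurd h (hcon x hx)
      · rw [h]; ring
    rw [Finset.sum_congr rfl hall, Finset.sum_neg_distrib] at horth'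
    linarith
  have hex2 : ∃ c ∈ S', v c = -1 := by
    by_contra hcon
    push Not at hcon
    have hall : ∀ x ∈ S', d x * v x = d x := by
      intro x hx
      rcases hv1' x hx with h | h
      · rw [h]; ring
      · exact absurd h (hcon x hx)
    rw [Finset.sum_congr rfl hall] at horth'
    linarith
  obtain ⟨a, ha, hva⟩ := hex1
  obtain ⟨c, hc, hvc⟩ := hex2
  have hac : a ≠ c := by
    intro h
    rw [h, hvc] at hva
    norm_num at hva
  have hcT : c ∈ S'.erase a := Finset.mem_erase.mpr ⟨hac.symm, hc⟩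
  have hcardT : ((S'.erase a).erase c).card = 1 := by
    rw [Finset.card_erase_of_mem hcT, Finset.card_erase_of_mem ha, hcard]
  obtain ⟨b, hb⟩ := Finset.card_eq_one.mp hcardT
  have hbT : b ∈ (S'.erase a).erase c := by rw [hb]; exact Finset.mem_singleton_self b
  have hbc : b ≠ c := (Finset.mem_erase.mp hbT).1
  have hb2 := (Finset.mem_erase.mp hbT).2
  have hba : b ≠ a := (Finset.mem_erase.mp hb2).1
  have hbS' : b ∈ S' := (Finset.mem_erase.mp hb2).2
  refine ⟨a, b, c, (Finset.mem_erase.mp ha).1, (Finset.mem_erase.mp hbS').1,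
    (Finset.mem_erase.mp hc).1, hba.symm, hac, hbc, ?_, hva, hv1' b hbS', hvc⟩
  intro w
  constructor
  · intro hw
    by_cases hwe : w = e
    · exact Or.inl hwe
    · by_cases hwa : w = a
      · exact Or.inr (Or.inl hwa)
      · by_cases hwc : w = c
        · exact Or.inr (Or.inr (Or.inr hwc))
        · have : w ∈ (S'.erase a).erase c :=
            Finset.mem_erase.mpr ⟨hwc, Finset.mem_erase.mpr ⟨hwa, Finset.mem_erase.mpr ⟨hwe, hw⟩⟩⟩
          rw [hb, Finset.mem_singleton] at this
          exact Or.inr (Or.inr (Or.inl this))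
  · rintro (h | h | h | h)
    · rw [h]; exact he
    · rw [h]; exact hmemS a ha
    · rw [h]; exact hmemS b hbS'
    · rw [h]; exact hmemS c hc

/-! ### Group theory: the centralizer of an involution has a normal 2-complement -/

section GroupTheory

variable {G : Type*} [Group G] [Finite G]

open Cfsg.Agent.Lib.Helper4_KleinSylow

/-- With a Klein four Sylow `2`-subgroup `P`, an element of `N_G(P)` centralizing an involution
of `P` centralizes `P`. -/
theorem commute_of_normalizer_of_commute (P : Sylow 2 G) (hP : IsKleinFour (P : Subgroup G))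
    (z : G) (hzP : z ∈ P) (hz1 : z ≠ 1) (t : G)
    (ht : t ∈ Subgroup.normalizer ((P : Subgroup G) : Set G)) (htz : Commute t z)
    (a : G) (ha : a ∈ P) : Commute t a := by
  apply commute_of_sq_commute P (klein_comm P hP) t ht a ha
  by_cases ha1 : a = 1
  · rw [ha1]; exact Commute.one_right _
  by_cases haz : a = z
  · rw [haz]; exact htz.pow_left 2
  have hx : t * a * t⁻¹ ∈ (P : Subgroup G) := (Subgroup.mem_normalizer_iff.mp ht a).mp ha
  have hback : a = t⁻¹ * (t * a * t⁻¹) * t := by group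
  have hx1 : t * a * t⁻¹ ≠ 1 := by
    intro h
    apply ha1
    rw [hback, h]
    group
  have hxz : t * a * t⁻¹ ≠ z := by
    intro h
    apply haz
    rw [hback, h]
    calc t⁻¹ * z * t = t⁻¹ * (z * t) := by group
      _ = t⁻¹ * (t * z) := by rw [htz.eq]
      _ = z := by group
  by_cases hxa : t * a * t⁻¹ = a
  · have hta : Commute t a := by
      show t * a = a * t
      calc t * a = (t * a * t⁻¹) * t := by group
        _ = a * t := by rw [hxa]
    exact hta.pow_left 2
  · have hxza : t * a * t⁻¹ = z * a :=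
      klein_eq_mul P hP z a _ hzP ha hx hz1 ha1 (Ne.symm haz) hx1 hxz hxa
    have hzz : z * z = 1 := klein_mul_self P hP z hzP
    have h1 : t * (z * a) * t⁻¹ = a := by
      calc t * (z * a) * t⁻¹ = (t * z) * a * t⁻¹ := by group
        _ = (z * t) * a * t⁻¹ := by rw [htz.eq]
        _ = z * (t * a * t⁻¹) := by group
        _ = z * (z * a) := by rw [hxza]
        _ = (z * z) * a := by group
        _ = a := by rw [hzz, one_mul]
    show t ^ 2 * a = a * t ^ 2
    rw [pow_two]
    calc t * t * a = t * (t * a * t⁻¹) * t⁻¹ * (t * t) := by group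
      _ = t * (z * a) * t⁻¹ * (t * t) := by rw [hxza]
      _ = a * (t * t) := by rw [h1]

/-- The centralizer of an involution `z` of a Klein four Sylow `2`-subgroup has a normal
`2`-complement, and the `2`-part of its order is `4`. -/
theorem centralizer_normal_complement (P : Sylow 2 G) (hP : IsKleinFour (P : Subgroup G))
    (z : G) (hzP : z ∈ P) (hz1 : z ≠ 1) :
    (∃ k : ℕ, (pPrimeCore 2 (Subgroup.centralizer ({z} : Set G))).index = 2 ^ k) ∧
      (Nat.card (Subgroup.centralizer ({z} : Set G))).factorization 2 = 2 := by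
  have hPH : (P : Subgroup G) ≤ Subgroup.centralizer ({z} : Set G) := by
    intro a ha
    rw [Subgroup.mem_centralizer_iff]
    intro k hk
    rw [Set.mem_singleton_iff] at hk
    rw [hk]
    exact klein_comm P hP z hzP a ha
  set H := Subgroup.centralizer ({z} : Set G) with hH
  let Q : Sylow 2 H := P.subtype hPH
  have hQcoe : (Q : Subgroup H) = (P : Subgroup G).subgroupOf H := Sylow.coe_subtype P hPH
  have hQcard : Nat.card (Q : Subgroup H) = 4 := by
    rw [hQcoe, Nat.card_congr (Subgroup.subgroupOfEquivOfLe hPH).toEquiv]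
    exact hP.card_four
  have hNC : Subgroup.normalizer ((Q : Subgroup H) : Set H) ≤
      Subgroup.centralizer ((Q : Subgroup H) : Set H) := by
    intro t ht
    rw [hQcoe, ← Subgroup.subgroupOf_normalizer_eq hPH, Subgroup.mem_subgroupOf] at ht
    rw [Subgroup.mem_centralizer_iff]
    intro q hq
    rw [hQcoe] at hq
    have hqP : (q : G) ∈ (P : Subgroup G) := Subgroup.mem_subgroupOf.mp hq
    have htz : Commute (t : G) z :=
      (Subgroup.mem_centralizer_iff.mp t.2 z (Set.mem_singleton z)).symm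
    have := commute_of_normalizer_of_commute P hP z hzP hz1 (t : G) ht htz (q : G) hqP
    apply Subtype.ext
    push_cast
    exact this.eq.symm
  obtain ⟨K, hKn, hKc, hKcop, -, -⟩ := Cfsg.Agent.S4145.exists_normal_pcomplement Q hNC
  constructor
  · have hKle : K ≤ pPrimeCore 2 H := Cfsg.Agent.Lib.Helper1_Cores.le_pPrimeCore hKn hKcop
    have hdvd : (pPrimeCore 2 H).index ∣ K.index := Subgroup.index_dvd_of_le hKle
    have hKidx : K.index = 2 ^ 2 := by
      rw [hKc.symm.index_eq_card, hQcard]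
      norm_num
    rw [hKidx] at hdvd
    obtain ⟨k, -, hk⟩ := (Nat.dvd_prime_pow Nat.prime_two).mp hdvd
    exact ⟨k, hk⟩
  · have h1 := Q.card_eq_multiplicity
    rw [hQcard] at h1
    have h4 : (2 : ℕ) ^ 2 = 2 ^ (Nat.card H).factorization 2 := by
      rw [← h1]
      norm_num
    exact (Nat.pow_right_injective (le_refl 2) h4).symm

end GroupTheory

/-! ### Character values at involutions -/

section CharValues

variable {G : Type*} [Group G] [Finite G]

open Cfsg.Agent.Lib.Helper4_KleinSylow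

/-- If the irreducible character `ζ` has the constant value `v` on the non-identity elements of
the subgroup `N`, then `ζ 1 + (|N| - 1) v` is `|N|` times a natural number (the multiplicity of
the trivial character of `N`). -/
theorem sum_subgroup_eq (ζ : IrrCharacter G) (N : Subgroup G) (v : ℂ)
    (hv : ∀ x ∈ N, x ≠ 1 → (ζ : G → ℂ) x = v) :
    ∃ a : ℕ, (ζ : G → ℂ) 1 + ((Nat.card N : ℂ) - 1) * v = (Nat.card N : ℂ) * (a : ℂ) := by
  classical
  obtain ⟨n, ρ, -, hρ⟩ := ζ.2
  let _ : Fintype N := Fintype.ofFinite N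
  have hN : (Nat.card N : ℂ) ≠ 0 := by exact_mod_cast (Nat.card_pos (α := N)).ne'
  have : Invertible (Nat.card N : ℂ) := invertibleOfNonzero hN
  have h := Representation.card_inv_mul_sum_char_eq_finrank (ρ.comp N.subtype)
  refine ⟨Module.finrank ℂ (Representation.invariants (ρ.comp N.subtype)), ?_⟩
  rw [← h, ← mul_assoc, mul_inv_cancel₀ hN, one_mul]
  have hsum : ∑ g : N, Representation.character (ρ.comp N.subtype) g =
      ∑ g : N, (ζ : G → ℂ) (g : G) := by
    refine Finset.sum_congr rfl fun g _ => ?_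
    rw [← hρ]
    rfl
  rw [hsum]
  have h2 : ∑ g : N, ((ζ : G → ℂ) (g : G) - v) = (ζ : G → ℂ) 1 - v := by
    rw [Finset.sum_eq_single (1 : N)]
    · simp
    · intro b _ hb
      rw [hv b b.2 (fun h => hb (Subtype.ext h)), sub_self]
    · intro h
      exact absurd (Finset.mem_univ _) h
  rw [Finset.sum_sub_distrib, Finset.sum_const, Finset.card_univ, nsmul_eq_mul,
    ← Nat.card_eq_fintype_card] at h2
  linear_combination (-1 : ℂ) * h2

/-- The value of an irreducible character at an involution is an integer congruent to the degree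
modulo `4`, when a Sylow `2`-subgroup is a four-group all of whose involutions are conjugate. -/
theorem involution_value (P : Sylow 2 G) (hP : IsKleinFour (P : Subgroup G))
    (hone : ∀ s t : G, orderOf s = 2 → orderOf t = 2 → IsConj s t) (z : G) (hz : orderOf z = 2)
    (ζ : IrrCharacter G) (d : ℕ) (hd : (ζ : G → ℂ) 1 = (d : ℂ)) :
    ∃ v : ℤ, (ζ : G → ℂ) z = (v : ℂ) ∧ (4 : ℤ) ∣ (d : ℤ) - v := by
  have hval : ∀ x : G, orderOf x = 2 → (ζ : G → ℂ) x = (ζ : G → ℂ) z := by
    intro x hx
    obtain ⟨t, ht⟩ := isConj_iff.mp (hone z x hz hx)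
    rw [← ht, isIrrCharacter_isClassFunction ζ.2 z t]
  obtain ⟨a', ha'⟩ := sum_subgroup_eq ζ (P : Subgroup G) ((ζ : G → ℂ) z)
    (fun x hx hx1 => hval x (klein_orderOf P hP x hx hx1))
  obtain ⟨a, ha⟩ := sum_subgroup_eq ζ (Subgroup.zpowers z) ((ζ : G → ℂ) z) (by
    intro x hx hx1
    apply hval
    have h1 : orderOf x ∣ 2 := by
      rw [← hz]
      exact orderOf_dvd_of_mem_zpowers hx
    rcases (Nat.dvd_prime Nat.prime_two).mp h1 with h | h
    · exact absurd (orderOf_eq_one_iff.mp h) hx1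
    · exact h)
  rw [hP.card_four] at ha'
  rw [Nat.card_zpowers, hz] at ha
  rw [hd] at ha ha'
  have hv : (ζ : G → ℂ) z = ((2 * (a : ℤ) - (d : ℤ) : ℤ) : ℂ) := by
    push_cast
    linear_combination ha
  refine ⟨2 * (a : ℤ) - (d : ℤ), hv, ?_⟩
  rw [hv] at ha'
  have h4 : (d : ℤ) + 3 * (2 * (a : ℤ) - (d : ℤ)) = 4 * (a' : ℤ) := by
    have : (((d : ℤ) + 3 * (2 * (a : ℤ) - (d : ℤ)) : ℤ) : ℂ) = ((4 * (a' : ℤ) : ℤ) : ℂ) := by
      push_cast
      push_cast at ha'
      linear_combination ha'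
    exact_mod_cast this
  refine ⟨(a' : ℤ) - (2 * (a : ℤ) - (d : ℤ)), ?_⟩
  linarith

variable {M : Ideal AlgInt}

/-- A character of the principal `2`-block does not vanish at an element whose centralizer
contains a Sylow `2`-subgroup. -/
theorem irr_ne_zero_of_principal (hM : IsPModular 2 M) (P : Sylow 2 G) (z : G)
    (hPz : (P : Subgroup G) ≤ Subgroup.centralizer ({z} : Set G)) (ζ : IrrCharacter G)
    (hζ : ζ ∈ principalBlock M G) : (ζ : G → ℂ) z ≠ 0 := by
  intro h0
  have h1 : MemLocalIdeal M (centralChar (fun _ : G => (1 : ℂ)) z - centralChar (ζ : G → ℂ) z) :=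
    hζ z
  unfold centralChar at h1
  rw [h0, mul_zero, zero_div, sub_zero, mul_one, div_one, memLocalIdeal_natCast_iff hM] at h1
  have h2 : (Subgroup.centralizer ({z} : Set G)).index ∣ (P : Subgroup G).index :=
    Subgroup.index_dvd_of_le hPz
  exact P.not_dvd_index (dvd_trans h1 h2)

end CharValues

/-! ### The main theorem -/

section Main

variable {G : Type*} [Group G] [Finite G]

open Cfsg.Agent.Lib.Helper4_KleinSylow Cfsg.Agent.Lib.Helper16_SectionNorm

/-- **Brauer**: the principal `2`-block of a group with Klein four Sylow `2`-subgroups and one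
class of involutions. -/
theorem klein_principal_block (M : Ideal AlgInt) (hM : IsPModular 2 M) (P : Sylow 2 G)
    (hP : IsKleinFour (P : Subgroup G))
    (hone : ∀ s t : G, orderOf s = 2 → orderOf t = 2 → IsConj s t) :
    ∃ ζ₂ ζ₃ ζ₄ : IrrCharacter G, ∃ ε : ℤ, (ε = 1 ∨ ε = -1) ∧
      (ζ₂ : G → ℂ) ≠ (fun _ => 1) ∧ (ζ₃ : G → ℂ) ≠ (fun _ => 1) ∧ ζ₂ ≠ ζ₃ ∧ ζ₂ ≠ ζ₄ ∧ ζ₃ ≠ ζ₄ ∧
      principalBlock M G = {χ : IrrCharacter G | (χ : G → ℂ) = (fun _ => 1) ∨ χ = ζ₂ ∨ χ = ζ₃ ∨
        χ = ζ₄} ∧
      (∀ z : G, orderOf z = 2 → (ζ₂ : G → ℂ) z = 1 ∧ (ζ₃ : G → ℂ) z = (ε : ℂ) ∧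
        (ζ₄ : G → ℂ) z = -1) ∧
      (4 : ℤ) ∣ (charDegree (ζ₂ : G → ℂ) : ℤ) - 1 ∧
      (4 : ℤ) ∣ (charDegree (ζ₃ : G → ℂ) : ℤ) - ε ∧
      (4 : ℤ) ∣ (charDegree (ζ₄ : G → ℂ) : ℤ) + 1 ∧
      ∀ y : G, Odd (orderOf y) →
        1 + (ζ₂ : G → ℂ) y + (ε : ℂ) * (ζ₃ : G → ℂ) y - (ζ₄ : G → ℂ) y = 0 := by
  classical
  have hMp := isPrime_of_isPModular hM
  let _ : Fintype G := Fintype.ofFinite G
  have hfin : Finite (IrrCharacter G) := charFacts.finite
  have := Fintype.ofFinite (IrrCharacter G)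
  -- an involution of `P`
  obtain ⟨z, hzP, hz1⟩ : ∃ z : G, z ∈ (P : Subgroup G) ∧ z ≠ 1 := by
    by_contra hcon
    push Not at hcon
    have hbot : (P : Subgroup G) = ⊥ := (Subgroup.eq_bot_iff_forall _).mpr hcon
    have h4 := hP.card_four
    rw [hbot, Subgroup.card_bot] at h4
    omega
  have hz2 : orderOf z = 2 := klein_orderOf P hP z hzP hz1
  have hPH : (P : Subgroup G) ≤ Subgroup.centralizer ({z} : Set G) := by
    intro a ha
    rw [Subgroup.mem_centralizer_iff]
    intro k hk
    rw [Set.mem_singleton_iff] at hk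
    rw [hk]
    exact klein_comm P hP z hzP a ha
  -- degrees and values
  have hdeg : ∀ ψ : IrrCharacter G, ∃ d : ℕ, 0 < d ∧ (ψ : G → ℂ) 1 = (d : ℂ) :=
    fun ψ => isIrrCharacter_one_eq_natCast ψ.2
  choose d hdpos hd using hdeg
  have hval : ∀ ψ : IrrCharacter G, ∃ v : ℤ, (ψ : G → ℂ) z = (v : ℂ) ∧
      (4 : ℤ) ∣ (d ψ : ℤ) - v := fun ψ => involution_value P hP hone z hz2 ψ (d ψ) (hd ψ)
  choose v hv hv4 using hval
  -- the centralizer
  obtain ⟨hnc, hfac⟩ := centralizer_normal_complement P hP z hzP hz1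
  have hz' : ∃ k : ℕ, orderOf z = 2 ^ k := ⟨1, by rw [hz2, pow_one]⟩
  have hy1 : ¬ 2 ∣ orderOf (1 : Subgroup.centralizer ({z} : Set G)) := by
    rw [orderOf_one]; norm_num
  have hnorm := principal_section_norm_complex hM z hz' 1 hy1
  rw [principal_norm_of_normal_complement hM hnc 1 hy1, hfac] at hnorm
  simp only [OneMemClass.coe_one, mul_one] at hnorm
  -- the block as a finset
  set S : Finset (IrrCharacter G) := Finset.univ.filter (fun χ => χ ∈ principalBlock M G) with hSdef
  have hS : ∀ f : IrrCharacter G → ℂ, ∑ᶠ χ ∈ principalBlock M G, f χ = ∑ χ ∈ S, f χ := by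
    intro f
    have e := finsum_mem_eq_sum_ite (fun χ => χ ∈ principalBlock M G) f
    rw [show (∑ᶠ χ ∈ principalBlock M G, f χ) = _ from e, hSdef, Finset.sum_filter]
  have hB : IsPBlock M (principalBlock M G) := ⟨Cfsg.Agent.Lib.Helper80_CharBasic.oneIrr G, rfl⟩
  set e₁ : IrrCharacter G := Cfsg.Agent.Lib.Helper80_CharBasic.oneIrr G with he₁def
  have he₁val : ∀ g : G, (e₁ : G → ℂ) g = 1 := fun g => rfl
  have he₁ : e₁ ∈ S := by
    rw [hSdef, Finset.mem_filter]
    exact ⟨Finset.mem_univ _, sameBlock_refl hMp _⟩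
  have hve : v e₁ = 1 := by
    have h1 := hv e₁
    rw [he₁val] at h1
    exact_mod_cast h1.symm
  have hde : ((d e₁ : ℕ) : ℤ) = 1 := by
    have h1 := hd e₁
    rw [he₁val] at h1
    exact_mod_cast h1.symm
  have hv0 : ∀ x ∈ S, v x ≠ 0 := by
    intro x hx h0
    have hxB : x ∈ principalBlock M G := (Finset.mem_filter.mp hx).2
    apply irr_ne_zero_of_principal hM P z hPH x hxB
    rw [hv x, h0, Int.cast_zero]
  have hsq : ∑ x ∈ S, (v x) ^ 2 = 4 := by
    rw [hS] at hnorm
    have h1 : ∑ x ∈ S, (x : G → ℂ) z * conj ((x : G → ℂ) z) =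
        ((∑ x ∈ S, (v x) ^ 2 : ℤ) : ℂ) := by
      rw [Int.cast_sum]
      refine Finset.sum_congr rfl fun x _ => ?_
      rw [hv x, map_intCast (starRingEnd ℂ)]
      push_cast
      ring
    rw [h1] at hnorm
    exact_mod_cast hnorm
  have hzdvd : 2 ∣ orderOf z := by rw [hz2]
  have horth : ∑ x ∈ S, ((d x : ℕ) : ℤ) * v x = 0 := by
    have h0 := Cfsg.Agent.Lib.Helper77_WeakOrth.weak_orthogonality_block hM hB 1 z
      (by rw [orderOf_one]; norm_num) hzdvd
    rw [hS] at h0
    have h1 : ∑ x ∈ S, (x : G → ℂ) 1 * conj ((x : G → ℂ) z) =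
        ((∑ x ∈ S, ((d x : ℕ) : ℤ) * v x : ℤ) : ℂ) := by
      rw [Int.cast_sum]
      refine Finset.sum_congr rfl fun x _ => ?_
      rw [hv x, hd x, map_intCast (starRingEnd ℂ)]
      push_cast
      ring
    rw [h1] at h0
    exact_mod_cast h0
  obtain ⟨a, b, c, hae, hbe, hce, hab, hac, hbc, hmem, hva, hvb, hvc⟩ :=
    four_elements S e₁ he₁ v (fun x => ((d x : ℕ) : ℤ)) hve hde hv0
      (fun x _ => by exact_mod_cast hdpos x) hsq horth
  have hSeq : S = {e₁, a, b, c} := by
    ext w
    rw [hmem w]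
    simp
  have hsum4 : ∀ f : IrrCharacter G → ℂ, ∑ x ∈ S, f x = f e₁ + f a + f b + f c := by
    intro f
    have h1 : e₁ ∉ ({a, b, c} : Finset (IrrCharacter G)) := by
      simp [hae.symm, hbe.symm, hce.symm]
    have h2 : a ∉ ({b, c} : Finset (IrrCharacter G)) := by
      simp [hab, hac]
    have h3 : b ∉ ({c} : Finset (IrrCharacter G)) := by
      simp [hbc]
    rw [hSeq, Finset.sum_insert h1, Finset.sum_insert h2, Finset.sum_insert h3,
      Finset.sum_singleton]
    ring
  have hinv : ∀ (ψ : IrrCharacter G) (t : G), orderOf t = 2 → (ψ : G → ℂ) t = (v ψ : ℂ) := by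
    intro ψ t ht
    obtain ⟨u, hu⟩ := isConj_iff.mp (hone z t hz2 ht)
    rw [← hu, isIrrCharacter_isClassFunction ψ.2 z u, hv ψ]
  refine ⟨a, b, c, v b, hvb, ?_, ?_, hab, hac, hbc, ?_, ?_, ?_, ?_, ?_, ?_⟩
  · intro h
    exact hae (Subtype.ext h)
  · intro h
    exact hbe (Subtype.ext h)
  · ext w
    constructor
    · intro hw
      have hwS : w ∈ S := Finset.mem_filter.mpr ⟨Finset.mem_univ _, hw⟩
      rcases (hmem w).mp hwS with h | h | h | h
      · left
        rw [h]
        rfl
      · exact Or.inr (Or.inl h)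
      · exact Or.inr (Or.inr (Or.inl h))
      · exact Or.inr (Or.inr (Or.inr h))
    · intro hw
      have hwS : w ∈ S := by
        rw [hmem w]
        rcases hw with h | h | h | h
        · exact Or.inl (Subtype.ext h)
        · exact Or.inr (Or.inl h)
        · exact Or.inr (Or.inr (Or.inl h))
        · exact Or.inr (Or.inr (Or.inr h))
      exact (Finset.mem_filter.mp hwS).2
  · intro t ht
    refine ⟨?_, ?_, ?_⟩
    · rw [hinv a t ht, hva, Int.cast_one]
    · rw [hinv b t ht]
    · rw [hinv c t ht, hvc, Int.cast_neg, Int.cast_one]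
  · rw [charDegree_eq_of_one_eq_natCast (hd a)]
    have := hv4 a
    rwa [hva] at this
  · rw [charDegree_eq_of_one_eq_natCast (hd b)]
    exact hv4 b
  · rw [charDegree_eq_of_one_eq_natCast (hd c)]
    have := hv4 c
    rwa [hvc, sub_neg_eq_add] at this
  · intro y hy
    have hy2 : ¬ 2 ∣ orderOf y := by
      rw [← even_iff_two_dvd, Nat.not_even_iff_odd]
      exact hy
    have h0 := Cfsg.Agent.Lib.Helper77_WeakOrth.weak_orthogonality_block hM hB y z hy2 hzdvd
    rw [hS, hsum4] at h0
    rw [hv e₁, hv a, hv b, hv c, hve, hva, hvc, he₁val] at h0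
    simp only [map_intCast (starRingEnd ℂ)] at h0
    push_cast at h0
    linear_combination h0

end Main

end Cfsg.Agent.Lib.Helper16_KleinBlock
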