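import Mathlib
import Cfsg.Agent.Lib.Helper35_FrobeniusNPC

set_option autoImplicit false

/-!
# Groups of order `4 * odd` without normal 2-complement (helper30)

Elementary group theory used for Brauer's order formula for groups with a Klein four
Sylow 2-subgroup: the Sylow 2-subgroup is a four group all of whose involutions are conjugate,
all involutions of `G` are conjugate, and the centralizer of an involution has a normal
2-complement.
-/

namespace Cfsg.Agent.Lib.Helper30_KleinFour

open Subgroup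
open Cfsg.Agent.Lib.Helper35_FrobeniusNPC

universe u

section basics

variable {G : Type*} [Group G]

theorem inv_eq_self_of_order_two {t : G} (ht : orderOf t = 2) : t⁻¹ = t := by
  have h : t * t = 1 := by
    have := pow_orderOf_eq_one t
    rwa [ht, pow_two] at this
  exact inv_eq_of_mul_eq_one_left h

theorem mul_self_of_order_two {t : G} (ht : orderOf t = 2) : t * t = 1 := by
  have := pow_orderOf_eq_one t
  rwa [ht, pow_two] at this

theorem ne_one_of_order_two {t : G} (ht : orderOf t = 2) : t ≠ 1 := by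
  intro h
  rw [h, orderOf_one] at ht
  omega

theorem orderOf_conj_eq (c t : G) : orderOf (c * t * c⁻¹) = orderOf t := by
  have h := (MulAut.conj c).orderOf_eq t
  rwa [MulAut.conj_apply] at h

/-- a type with four elements, four of which are listed -/
theorem eq_of_card_four {α : Type*} (h : Nat.card α = 4) {a b c d : α}
    (hab : a ≠ b) (hac : a ≠ c) (had : a ≠ d) (hbc : b ≠ c) (hbd : b ≠ d) (hcd : c ≠ d) (x : α) :
    x = a ∨ x = b ∨ x = c ∨ x = d := by
  classical
  by_contra hx
  push Not at hx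
  obtain ⟨hxa, hxb, hxc, hxd⟩ := hx
  have : Finite α := Nat.finite_of_card_ne_zero (by omega)
  have := Fintype.ofFinite α
  have h5 : ({a, b, c, d, x} : Finset α).card = 5 := by
    rw [Finset.card_insert_of_notMem, Finset.card_insert_of_notMem, Finset.card_insert_of_notMem,
      Finset.card_insert_of_notMem, Finset.card_singleton]
    · simp [Ne.symm hxd]
    · simp [hcd, Ne.symm hxc]
    · simp [hbc, hbd, Ne.symm hxb]
    · simp [hab, hac, had, Ne.symm hxa]
  have hle := Finset.card_le_univ ({a, b, c, d, x} : Finset α)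
  rw [h5, ← Nat.card_eq_fintype_card, h] at hle
  omega

/-- a subgroup with four elements, four of which are listed -/
theorem mem_of_card_four {Q : Subgroup G} (h : Nat.card Q = 4) {a b c d : G}
    (ha : a ∈ Q) (hb : b ∈ Q) (hc : c ∈ Q) (hd : d ∈ Q)
    (hab : a ≠ b) (hac : a ≠ c) (had : a ≠ d) (hbc : b ≠ c) (hbd : b ≠ d) (hcd : c ≠ d)
    {x : G} (hx : x ∈ Q) : x = a ∨ x = b ∨ x = c ∨ x = d := by
  have := eq_of_card_four h (a := (⟨a, ha⟩ : Q)) (b := ⟨b, hb⟩) (c := ⟨c, hc⟩) (d := ⟨d, hd⟩)
    (by simpa using hab) (by simpa using hac) (by simpa using had) (by simpa using hbc)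
    (by simpa using hbd) (by simpa using hcd) ⟨x, hx⟩
  simpa using this

/-- an element of odd order commuting with the square-conjugate commutes -/
theorem commute_of_sq_commute {g x : G} (hg : Odd (orderOf g)) (h : Commute (g ^ 2) x) :
    Commute g x := by
  obtain ⟨k, hk⟩ := hg
  have h1 : g = (g ^ 2) ^ (k + 1) := by
    rw [← pow_mul]
    have : 2 * (k + 1) = orderOf g + 1 := by omega
    rw [this, pow_succ, pow_orderOf_eq_one, one_mul]
  rw [h1]
  exact h.pow_left _

/-- an element of odd order normalizing a group `Q` of order four and centralizing an involution of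
`Q` centralizes `Q`. -/
theorem centralizes_of_fix {Q : Subgroup G} (hQ : Nat.card Q = 4) {J : G} (hJQ : J ∈ Q)
    (hJ : orderOf J = 2) {g : G} (hgN : ∀ x ∈ Q, g * x * g⁻¹ ∈ Q) (hg : Odd (orderOf g))
    (hgJ : g * J * g⁻¹ = J) : ∀ x ∈ Q, g * x * g⁻¹ = x := by
  intro x hx
  by_cases hx1 : x = 1
  · rw [hx1]; group
  by_cases hxJ : x = J
  · rw [hxJ]; exact hgJ
  have hJ1 := ne_one_of_order_two hJ
  have hJinv := inv_eq_self_of_order_two hJ
  have hmem := mem_of_card_four hQ (a := 1) (b := J) (c := x) (d := x * J) (one_mem _) hJQ hx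
    (mul_mem hx hJQ) (Ne.symm hJ1) (Ne.symm hx1)
    (by
      intro h
      apply hxJ
      have : x = J⁻¹ := eq_inv_of_mul_eq_one_left h.symm
      rw [this, hJinv])
    (Ne.symm hxJ)
    (by
      intro h
      apply hx1
      have : x * J = 1 * J := by rw [one_mul]; exact h.symm
      exact mul_right_cancel this)
    (by
      intro h
      apply hJ1
      have : x * 1 = x * J := by rw [mul_one]; exact h
      exact (mul_left_cancel this).symm)
    (hgN x hx)
  rcases hmem with h | h | h | h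
  · exfalso
    apply hx1
    have : x = g⁻¹ * (g * x * g⁻¹) * g := by group
    rw [this, h]; group
  · exfalso
    apply hxJ
    have hgJ' : g⁻¹ * J * g = J := by
      calc g⁻¹ * J * g = g⁻¹ * (g * J * g⁻¹) * g := by rw [hgJ]
        _ = J := by group
    calc x = g⁻¹ * (g * x * g⁻¹) * g := by group
      _ = J := by rw [h, hgJ']
  · exact h
  · exfalso
    have h2 : g ^ 2 * x * (g ^ 2)⁻¹ = x := by
      calc g ^ 2 * x * (g ^ 2)⁻¹ = g * (g * x * g⁻¹) * g⁻¹ := by rw [pow_two]; group
        _ = g * (x * J) * g⁻¹ := by rw [h]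
        _ = (g * x * g⁻¹) * (g * J * g⁻¹) := by group
        _ = x * J * J := by rw [h, hgJ]
        _ = x := by rw [mul_assoc, mul_self_of_order_two hJ, mul_one]
    have hc : Commute (g ^ 2) x := by
      show g ^ 2 * x = x * g ^ 2
      calc g ^ 2 * x = (g ^ 2 * x * (g ^ 2)⁻¹) * g ^ 2 := by group
        _ = x * g ^ 2 := by rw [h2]
    have hc' := commute_of_sq_commute hg hc
    have : g * x * g⁻¹ = x := by
      rw [hc'.eq]; group
    rw [this] at h
    apply hJ1
    have : x * 1 = x * J := by rw [mul_one]; exact h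
    exact (mul_left_cancel this).symm

/-- a type with two elements, two of which are listed -/
theorem eq_of_card_two {α : Type*} (h : Nat.card α = 2) {a b : α} (hab : a ≠ b) (x : α) :
    x = a ∨ x = b := by
  classical
  by_contra hx
  push Not at hx
  obtain ⟨hxa, hxb⟩ := hx
  have : Finite α := Nat.finite_of_card_ne_zero (by omega)
  have := Fintype.ofFinite α
  have h3 : ({a, b, x} : Finset α).card = 3 := by
    rw [Finset.card_insert_of_notMem, Finset.card_insert_of_notMem, Finset.card_singleton]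
    · simp [Ne.symm hxb]
    · simp [hab, Ne.symm hxa]
  have hle := Finset.card_le_univ ({a, b, x} : Finset α)
  rw [h3, ← Nat.card_eq_fintype_card, h] at hle
  omega

end basics

section npc

variable {H : Type u} [Group H] [Finite H]

theorem card_two_group_dvd_four {h0 : ℕ} (hH : Nat.card H = 4 * h0) (hodd : Odd h0)
    {Q : Subgroup H} (hQ : IsPGroup 2 Q) : Nat.card Q ∣ 4 := by
  obtain ⟨k, hk⟩ := hQ.exists_card_eq
  have h1 : Nat.card Q ∣ 4 * h0 := hH ▸ Subgroup.card_subgroup_dvd_card Q
  have hcop : Nat.Coprime (Nat.card Q) h0 := by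
    rw [hk]
    exact Nat.Coprime.pow_left _ (Nat.coprime_two_left.2 hodd)
  exact Nat.Coprime.dvd_of_dvd_mul_right hcop h1

/-- a group of order `4 * odd` without normal 2-complement has a subgroup of order four normalized
but not centralized by an element of odd order -/
theorem exists_of_not_hasNPC {h0 : ℕ} (hH : Nat.card H = 4 * h0) (hodd : Odd h0)
    (hn : ¬ HasNPC 2 H) :
    ∃ Q : Subgroup H, Nat.card Q = 4 ∧ ∃ g : H, (∀ x ∈ Q, g * x * g⁻¹ ∈ Q) ∧ Odd (orderOf g) ∧
      ∃ x ∈ Q, g * x * g⁻¹ ≠ x := by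
  by_contra hcon
  push Not at hcon
  apply hn
  apply hasNPC_of_frobHyp
  intro Q hQ g hgN hgo
  have hgN' : ∀ x ∈ Q, g * x * g⁻¹ ∈ Q := fun x hx => (Subgroup.mem_normalizer_iff.1 hgN x).1 hx
  have hodd_g : Odd (orderOf g) := Nat.coprime_two_right.1 hgo
  rw [Subgroup.mem_centralizer_iff]
  intro x hx
  have hdvd := card_two_group_dvd_four hH hodd hQ
  have hle : Nat.card Q ≤ 4 := Nat.le_of_dvd (by norm_num) hdvd
  have hpos : 0 < Nat.card Q := Nat.card_pos
  have key : g * x * g⁻¹ = x := by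
    by_cases hx1 : x = 1
    · rw [hx1]; group
    have hcases : Nat.card Q = 1 ∨ Nat.card Q = 2 ∨ Nat.card Q = 4 := by
      have h3 : Nat.card Q ≠ 3 := by
        intro h3
        rw [h3] at hdvd
        omega
      omega
    rcases hcases with h | h | h
    · exfalso
      apply hx1
      have hbot := Subgroup.eq_bot_of_card_eq Q h
      rw [hbot] at hx
      exact Subgroup.mem_bot.1 hx
    · have h2 := eq_of_card_two h (a := (1 : Q)) (b := ⟨x, hx⟩)
        (by intro h'; apply hx1; exact (congrArg Subtype.val h').symm) ⟨g * x * g⁻¹, hgN' x hx⟩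
      rcases h2 with h2 | h2
      · exfalso
        apply hx1
        have h3 : g * x * g⁻¹ = 1 := congrArg Subtype.val h2
        calc x = g⁻¹ * (g * x * g⁻¹) * g := by group
          _ = 1 := by rw [h3]; group
      · exact congrArg Subtype.val h2
    · exact hcon Q h g hgN' hodd_g x hx
  calc x * g = (g * x * g⁻¹) * g := by rw [key]
    _ = g * x := by group

omit [Finite H] in
theorem exists_normal_of_hasNPC {h0 : ℕ} (hH : Nat.card H = 4 * h0) (hodd : Odd h0)
    (h : HasNPC 2 H) : ∃ K : Subgroup H, K.Normal ∧ Nat.card K = h0 := by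
  obtain ⟨K, hKn, hKc, n, hKi⟩ := h
  refine ⟨K, hKn, ?_⟩
  have h1 := K.card_mul_index
  rw [hKi, hH] at h1
  have hd1 : Nat.card K ∣ h0 := by
    have h2 : Nat.card K ∣ 4 * h0 := ⟨2 ^ n, h1.symm⟩
    have hc : Nat.Coprime (Nat.card K) 4 := by
      have : (4 : ℕ) = 2 ^ 2 := by norm_num
      rw [this]
      exact Nat.Coprime.pow_right 2 hKc
    exact Nat.Coprime.dvd_of_dvd_mul_left hc h2
  have hd2 : h0 ∣ Nat.card K := by
    have h2 : h0 ∣ Nat.card K * 2 ^ n := ⟨4, by rw [h1]; ring⟩
    exact Nat.Coprime.dvd_of_dvd_mul_right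
      (Nat.Coprime.pow_right n (Nat.coprime_two_right.2 hodd)) h2
  exact Nat.dvd_antisymm hd1 hd2

end npc

section main

variable {G : Type u} [Group G] [Finite G]

theorem card_sylow {g0 : ℕ} (hG : Nat.card G = 4 * g0) (hodd : Odd g0) (P : Sylow 2 G) :
    Nat.card (P : Subgroup G) = 4 := by
  have h1 := card_two_group_dvd_four hG hodd P.2
  have h2 := (P : Subgroup G).card_mul_index
  have h3 : ¬ 2 ∣ (P : Subgroup G).index := P.not_dvd_index
  have h4 : 4 ∣ Nat.card (P : Subgroup G) := by
    have h5 : 4 ∣ Nat.card (P : Subgroup G) * (P : Subgroup G).index := by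
      rw [h2, hG]
      exact dvd_mul_right 4 g0
    have hc : Nat.Coprime 4 (P : Subgroup G).index := by
      have h6 : Nat.Coprime 2 (P : Subgroup G).index :=
        (Nat.Prime.coprime_iff_not_dvd Nat.prime_two).2 h3
      have : (4 : ℕ) = 2 ^ 2 := by norm_num
      rw [this]
      exact Nat.Coprime.pow_left 2 h6
    exact Nat.Coprime.dvd_of_dvd_mul_right hc h5
  exact Nat.dvd_antisymm h1 h4

/-- an element of odd order normalizing, but not centralizing, the given Sylow 2-subgroup -/
theorem exists_normalizing {g0 : ℕ} (hG : Nat.card G = 4 * g0) (hodd : Odd g0)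
    (hnc : ¬ ∃ N : Subgroup G, N.Normal ∧ Nat.card N = g0) (P : Sylow 2 G) :
    ∃ m : G, (∀ x ∈ (P : Subgroup G), m * x * m⁻¹ ∈ (P : Subgroup G)) ∧ Odd (orderOf m) ∧
      ∃ x ∈ (P : Subgroup G), m * x * m⁻¹ ≠ x := by
  have hn : ¬ HasNPC 2 G := fun h => hnc (exists_normal_of_hasNPC hG hodd h)
  obtain ⟨Q, hQ4, g, hgN, hgo, x, hxQ, hx⟩ := exists_of_not_hasNPC hG hodd hn
  have hQp : IsPGroup 2 Q := IsPGroup.of_card (n := 2) (by rw [hQ4]; norm_num)
  obtain ⟨P', hP'⟩ := hQp.exists_le_sylow
  have hQP' : Q = (P' : Subgroup G) :=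
    Subgroup.eq_of_le_of_card_ge hP' (by rw [card_sylow hG hodd P', hQ4])
  obtain ⟨c, hc⟩ := MulAction.exists_smul_eq G P P'
  have hmem : ∀ y, y ∈ Q ↔ c⁻¹ * y * c ∈ (P : Subgroup G) := by
    intro y
    rw [hQP', ← hc, Sylow.coe_subgroup_smul, mem_conj_smul]
  refine ⟨c⁻¹ * g * c, ?_, ?_, c⁻¹ * x * c, (hmem x).1 hxQ, ?_⟩
  · intro y hy
    have hy' : c * y * c⁻¹ ∈ Q := by
      rw [hmem]
      convert hy using 1
      group
    have := (hmem _).1 (hgN _ hy')
    convert this using 1
    group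
  · have := orderOf_conj_eq c⁻¹ g
    rw [inv_inv] at this
    rw [this]
    exact hgo
  · intro h
    apply hx
    have h1 : c⁻¹ * (g * x * g⁻¹) * c = c⁻¹ * x * c := by
      rw [← h]; group
    have h2 : c⁻¹ * (g * x * g⁻¹) = c⁻¹ * x := mul_right_cancel h1
    exact mul_left_cancel h2

/-- the structure of the Sylow 2-subgroup: a four group whose involutions are permuted
transitively by an element `m` -/
theorem klein_structure {g0 : ℕ} (hG : Nat.card G = 4 * g0) (hodd : Odd g0)
    (hnc : ¬ ∃ N : Subgroup G, N.Normal ∧ Nat.card N = g0) (P : Sylow 2 G) {J : G}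
    (hJP : J ∈ (P : Subgroup G)) (hJ : orderOf J = 2) :
    ∃ m a : G, a ∈ (P : Subgroup G) ∧ orderOf a = 2 ∧ a ≠ J ∧ m * J * m⁻¹ = a ∧
      m * a * m⁻¹ = J * a ∧ J * a = a * J ∧
      ∀ x ∈ (P : Subgroup G), x = 1 ∨ x = J ∨ x = a ∨ x = J * a := by
  obtain ⟨m, hmN, hmo, x, hxP, hx⟩ := exists_normalizing hG hodd hnc P
  have hP4 := card_sylow hG hodd P
  have hJ1 := ne_one_of_order_two hJ
  have hJinv := inv_eq_self_of_order_two hJ
  have hmJ0 : m * J * m⁻¹ ≠ J := fun h => hx (centralizes_of_fix hP4 hJP hJ hmN hmo h x hxP)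
  obtain ⟨a, ha⟩ : ∃ a, a = m * J * m⁻¹ := ⟨_, rfl⟩
  have hmJ : a ≠ J := by rw [ha]; exact hmJ0
  have haP : a ∈ (P : Subgroup G) := by rw [ha]; exact hmN J hJP
  have hao : orderOf a = 2 := by rw [ha, orderOf_conj_eq]; exact hJ
  have ha1 := ne_one_of_order_two hao
  have hall : ∀ x ∈ (P : Subgroup G), x = 1 ∨ x = J ∨ x = a ∨ x = J * a := by
    intro x hx
    exact mem_of_card_four hP4 (one_mem _) hJP haP (mul_mem hJP haP) (Ne.symm hJ1) (Ne.symm ha1)
      (by
        intro h
        apply hmJ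
        have h2 : a = J⁻¹ := eq_inv_of_mul_eq_one_right h.symm
        rw [h2, hJinv])
      (Ne.symm hmJ)
      (by
        intro h
        apply ha1
        have h2 : J * 1 = J * a := by rw [mul_one]; exact h
        exact (mul_left_cancel h2).symm)
      (by
        intro h
        apply hJ1
        have h2 : 1 * a = J * a := by rw [one_mul]; exact h
        exact (mul_right_cancel h2).symm)
      hx
  have hcomm : J * a = a * J := by
    rcases hall (a * J) (mul_mem haP hJP) with h | h | h | h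
    · exfalso
      apply hmJ
      have h2 : a = J⁻¹ := eq_inv_of_mul_eq_one_left h
      rw [h2, hJinv]
    · exfalso
      apply ha1
      have h2 : a * J = 1 * J := by rw [one_mul]; exact h
      exact mul_right_cancel h2
    · exfalso
      apply hJ1
      have h2 : a * J = a * 1 := by rw [mul_one]; exact h
      exact mul_left_cancel h2
    · exact h.symm
  refine ⟨m, a, haP, hao, hmJ, ha.symm, ?_, hcomm, hall⟩
  rcases hall (m * a * m⁻¹) (hmN a haP) with h | h | h | h
  · exfalso
    apply ha1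
    calc a = m⁻¹ * (m * a * m⁻¹) * m := by group
      _ = 1 := by rw [h]; group
  · exfalso
    have h2 : m ^ 2 * J * (m ^ 2)⁻¹ = J := by
      calc m ^ 2 * J * (m ^ 2)⁻¹ = m * (m * J * m⁻¹) * m⁻¹ := by rw [pow_two]; group
        _ = m * a * m⁻¹ := by rw [ha]
        _ = J := h
    have hc : Commute (m ^ 2) J := by
      show m ^ 2 * J = J * m ^ 2
      calc m ^ 2 * J = (m ^ 2 * J * (m ^ 2)⁻¹) * m ^ 2 := by group
        _ = J * m ^ 2 := by rw [h2]
    have hc' := commute_of_sq_commute hmo hc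
    apply hmJ0
    rw [hc'.eq]; group
  · exfalso
    apply hmJ
    have h1 : m * a * m⁻¹ = m * J * m⁻¹ := by rw [h]; exact ha
    have h2 : m * a = m * J := mul_right_cancel h1
    exact mul_left_cancel h2
  · exact h

/-- all non-identity elements of the Sylow 2-subgroup are conjugate to `J` -/
theorem isConj_of_mem_sylow {g0 : ℕ} (hG : Nat.card G = 4 * g0) (hodd : Odd g0)
    (hnc : ¬ ∃ N : Subgroup G, N.Normal ∧ Nat.card N = g0) (P : Sylow 2 G) {J : G}
    (hJP : J ∈ (P : Subgroup G)) (hJ : orderOf J = 2) {x : G} (hx : x ∈ (P : Subgroup G))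
    (hx1 : x ≠ 1) : IsConj J x := by
  obtain ⟨m, a, -, -, -, hmJ, hma, -, hall⟩ := klein_structure hG hodd hnc P hJP hJ
  rcases hall x hx with h | h | h | h
  · exact absurd h hx1
  · rw [h]
  · rw [h, isConj_iff]
    exact ⟨m, hmJ⟩
  · rw [h, isConj_iff]
    refine ⟨m * m, ?_⟩
    rw [← hma, ← hmJ]
    group

/-- the Sylow 2-subgroup is abelian -/
theorem commute_of_mem_sylow {g0 : ℕ} (hG : Nat.card G = 4 * g0) (hodd : Odd g0) (P : Sylow 2 G)
    {x y : G} (hx : x ∈ (P : Subgroup G)) (hy : y ∈ (P : Subgroup G)) : x * y = y * x := by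
  have hP4 := card_sylow hG hodd P
  have := IsPGroup.isMulCommutative_of_card_eq_prime_sq (p := 2) (G := (P : Subgroup G))
    (by rw [hP4]; norm_num)
  have h : (⟨x, hx⟩ : (P : Subgroup G)) * ⟨y, hy⟩ = ⟨y, hy⟩ * ⟨x, hx⟩ := mul_comm' _ _
  exact congrArg Subtype.val h

/-- all involutions are conjugate -/
theorem isConj_of_order_two {g0 : ℕ} (hG : Nat.card G = 4 * g0) (hodd : Odd g0)
    (hnc : ¬ ∃ N : Subgroup G, N.Normal ∧ Nat.card N = g0) (P : Sylow 2 G) {J : G}
    (hJP : J ∈ (P : Subgroup G)) (hJ : orderOf J = 2) {t : G} (ht : orderOf t = 2) :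
    IsConj J t := by
  have hp : IsPGroup 2 (Subgroup.zpowers t) :=
    IsPGroup.of_card (n := 1) (by rw [Nat.card_zpowers, ht, pow_one])
  obtain ⟨P', hP'⟩ := hp.exists_le_sylow
  obtain ⟨c, hc⟩ := MulAction.exists_smul_eq G P P'
  have htP' : t ∈ (P' : Subgroup G) := hP' (Subgroup.mem_zpowers t)
  have hmem : c⁻¹ * t * c ∈ (P : Subgroup G) := by
    rw [← hc, Sylow.coe_subgroup_smul, mem_conj_smul] at htP'
    exact htP'
  have hne : c⁻¹ * t * c ≠ 1 := by
    intro h
    apply ne_one_of_order_two ht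
    calc t = c * (c⁻¹ * t * c) * c⁻¹ := by group
      _ = 1 := by rw [h]; group
  have h1 := isConj_of_mem_sylow hG hodd hnc P hJP hJ hmem hne
  refine h1.trans ?_
  rw [isConj_iff]
  exact ⟨c, by group⟩

/-- the centralizer of the involution `J` has a normal 2-complement -/
theorem centralizer_npc {g0 : ℕ} (hG : Nat.card G = 4 * g0) (hodd : Odd g0) (P : Sylow 2 G)
    {J : G} (hJP : J ∈ (P : Subgroup G)) (hJ : orderOf J = 2) :
    ∃ O : Subgroup (centralizer ({J} : Set G)), O.Normal ∧ Odd (Nat.card O) ∧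
      Nat.card (centralizer ({J} : Set G)) = 4 * Nat.card O := by
  have hPC : (P : Subgroup G) ≤ centralizer ({J} : Set G) := by
    intro x hx
    rw [Subgroup.mem_centralizer_singleton_iff]
    exact commute_of_mem_sylow hG hodd P hx hJP
  have h4 : 4 ∣ Nat.card (centralizer ({J} : Set G)) := by
    rw [← card_sylow hG hodd P]
    exact Subgroup.card_dvd_of_le hPC
  obtain ⟨c0, hc0⟩ := h4
  have hc0odd : Odd c0 := by
    have hdvd : Nat.card (centralizer ({J} : Set G)) ∣ 4 * g0 :=
      hG ▸ Subgroup.card_subgroup_dvd_card _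
    rw [hc0] at hdvd
    have : c0 ∣ g0 := Nat.dvd_of_mul_dvd_mul_left (by norm_num) hdvd
    exact Odd.of_dvd_nat hodd this
  by_cases hnpc : HasNPC 2 (centralizer ({J} : Set G))
  · obtain ⟨K, hKn, hKc⟩ := exists_normal_of_hasNPC hc0 hc0odd hnpc
    exact ⟨K, hKn, by rw [hKc]; exact hc0odd, by rw [hKc]; exact hc0⟩
  · exfalso
    obtain ⟨Q, hQ4, g, hgN, hgo, x, hxQ, hx⟩ := exists_of_not_hasNPC hc0 hc0odd hnpc
    have hJmem : J ∈ centralizer ({J} : Set G) := by
      rw [Subgroup.mem_centralizer_singleton_iff]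
    obtain ⟨Jc, hJcdef⟩ : ∃ Jc : centralizer ({J} : Set G), Jc = ⟨J, hJmem⟩ := ⟨_, rfl⟩
    have hJc : orderOf Jc = 2 := by
      rw [← hJ, hJcdef, ← Subgroup.orderOf_coe]
    have hcentral : ∀ y : centralizer ({J} : Set G), y * Jc * y⁻¹ = Jc := by
      intro y
      have hy := y.2
      rw [Subgroup.mem_centralizer_singleton_iff] at hy
      apply Subtype.ext
      rw [hJcdef]
      simp only [Subgroup.coe_mul, Subgroup.coe_inv]
      rw [hy]; group
    have hnormal : (zpowers Jc).Normal := by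
      refine ⟨fun n hn y => ?_⟩
      obtain ⟨k, rfl⟩ := Subgroup.mem_zpowers_iff.1 hn
      rw [← conj_zpow, hcentral y]
      exact Subgroup.zpow_mem_zpowers Jc k
    have hQp : IsPGroup 2 Q := IsPGroup.of_card (n := 2) (by rw [hQ4]; norm_num)
    have hzp : IsPGroup 2 (zpowers Jc) :=
      IsPGroup.of_card (n := 1) (by rw [Nat.card_zpowers, hJc, pow_one])
    have hsup : IsPGroup 2 (Q ⊔ zpowers Jc : Subgroup (centralizer ({J} : Set G))) :=
      IsPGroup.to_sup_of_normal_right hQp hzp
    have hle : Nat.card (Q ⊔ zpowers Jc : Subgroup (centralizer ({J} : Set G))) ≤ 4 :=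
      Nat.le_of_dvd (by norm_num) (card_two_group_dvd_four hc0 hc0odd hsup)
    have heq : Q = Q ⊔ zpowers Jc := Subgroup.eq_of_le_of_card_ge le_sup_left (by rw [hQ4]; exact hle)
    have hJQ : Jc ∈ Q := by
      rw [heq]
      exact (le_sup_right : zpowers Jc ≤ Q ⊔ zpowers Jc) (Subgroup.mem_zpowers Jc)
    exact hx (centralizes_of_fix hQ4 hJQ hJc hgN hgo (hcentral g) x hxQ)

end main

end Cfsg.Agent.Lib.Helper30_KleinFour
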