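import Mathlib
import Cfsg.Agent.Lib.Helper30_KleinFour
import Cfsg.Agent.Lib.Helper16_Char

set_option autoImplicit false

/-!
# Counting pairs of involutions with product in `J * O(C_G(J))` (helper30)

Counting lemmas for Brauer's order formula for groups with a Klein four Sylow 2-subgroup.
-/

namespace Cfsg.Agent.Lib.Helper30_KleinCount

open Subgroup
open Cfsg.Agent.Lib.Helper30_KleinFour

universe u

section general

variable {G : Type u} [Group G]

/-- the centralizer of `y ∈ N` computed inside `N` has the order of `N ⊓ C_G(y)` -/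
theorem card_centralizer_in_subgroup (N : Subgroup G) (y : G) (hy : y ∈ N) :
    Nat.card (Subgroup.centralizer ({(⟨y, hy⟩ : N)} : Set N)) =
      Nat.card ↥(N ⊓ Subgroup.centralizer ({y} : Set G)) := by
  refine Nat.card_congr ⟨fun x => ⟨x.1.1, ⟨x.1.2, ?_⟩⟩, fun x => ⟨⟨x.1, x.2.1⟩, ?_⟩, ?_, ?_⟩
  · have hx := x.2
    show (x.1.1 : G) ∈ Subgroup.centralizer ({y} : Set G)
    rw [Subgroup.mem_centralizer_iff] at hx ⊢
    intro k hk
    rw [Set.mem_singleton_iff] at hk
    have := hx ⟨y, hy⟩ (Set.mem_singleton _)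
    rw [hk]
    exact congrArg Subtype.val this
  · have hx : (x.1 : G) ∈ Subgroup.centralizer ({y} : Set G) := x.2.2
    rw [Subgroup.mem_centralizer_iff] at hx ⊢
    intro k hk
    rw [Set.mem_singleton_iff] at hk
    rw [hk]
    exact Subtype.ext (hx y (Set.mem_singleton _))
  · intro x; rfl
  · intro x; rfl

/-- class size times centralizer order -/
theorem card_class_mul [Finite G] (t : G) :
    Nat.card {w : G // IsConj t w} *
      Nat.card (Subgroup.centralizer ({t} : Set G)) = Nat.card G := by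
  classical
  have := Fintype.ofFinite G
  have h := Cfsg.Agent.Lib.Helper16_Char.sum_conj_eq t (fun _ : G => (1 : ℕ))
  rw [Finset.sum_const, Finset.card_univ, smul_eq_mul, mul_one, smul_eq_mul,
    ← Finset.card_filter] at h
  have h1 : Nat.card G = Fintype.card G := Nat.card_eq_fintype_card
  have h2 : Nat.card {w : G // IsConj t w} = (Finset.univ.filter (fun w : G => IsConj t w)).card := by
    rw [Nat.card_eq_fintype_card, Fintype.card_subtype]
  rw [h1, h, h2, mul_comm]

/-- the number of `h` conjugating `J` into the `N`-class of `t`, where `t ∈ N` is conjugate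
to `J` in `G` -/
theorem card_conj_into_class [Finite G] (N : Subgroup G) (J t : G) (ht : t ∈ N)
    (hJt : IsConj J t) :
    Nat.card {h : G // ∃ w : N, IsConj (⟨t, ht⟩ : N) w ∧ (w : G) = h⁻¹ * J * h} *
      Nat.card ↥(N ⊓ Subgroup.centralizer ({t} : Set G)) =
      Nat.card (Subgroup.centralizer ({J} : Set G)) * Nat.card N := by
  classical
  have := Fintype.ofFinite G
  have := Fintype.ofFinite N
  have h := Cfsg.Agent.Lib.Helper16_Char.sum_conj_eq J
    (fun k : G => if ∃ w : N, IsConj (⟨t, ht⟩ : N) w ∧ (w : G) = k then (1 : ℕ) else 0)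
  rw [← Finset.card_filter, smul_eq_mul] at h
  have h0 : Nat.card {h : G // ∃ w : N, IsConj (⟨t, ht⟩ : N) w ∧ (w : G) = h⁻¹ * J * h} =
      (Finset.univ.filter
        (fun h : G => ∃ w : N, IsConj (⟨t, ht⟩ : N) w ∧ (w : G) = h⁻¹ * J * h)).card := by
    rw [Nat.card_eq_fintype_card, Fintype.card_subtype]
  rw [h0, h]
  have h2 : ∀ k : G, (if IsConj J k then
      (if ∃ w : N, IsConj (⟨t, ht⟩ : N) w ∧ (w : G) = k then (1 : ℕ) else 0) else 0) =
      if ∃ w : N, IsConj (⟨t, ht⟩ : N) w ∧ (w : G) = k then (1 : ℕ) else 0 := by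
    intro k
    by_cases hk : ∃ w : N, IsConj (⟨t, ht⟩ : N) w ∧ (w : G) = k
    · rw [if_pos hk, if_pos]
      obtain ⟨w, hw, rfl⟩ := hk
      refine hJt.trans ?_
      obtain ⟨c, hc⟩ := isConj_iff.1 hw
      rw [isConj_iff]
      refine ⟨(c : G), ?_⟩
      rw [← hc]
      simp
    · rw [if_neg hk]
      simp
  simp only [h2]
  rw [← Finset.card_filter]
  have h3 : (Finset.univ.filter (fun k : G => ∃ w : N, IsConj (⟨t, ht⟩ : N) w ∧ (w : G) = k)) =
      (Finset.univ.filter (fun w : N => IsConj (⟨t, ht⟩ : N) w)).image (fun w : N => (w : G)) := by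
    ext k
    simp only [Finset.mem_filter, Finset.mem_univ, true_and, Finset.mem_image]
  have h4 : (Finset.univ.filter (fun w : N => IsConj (⟨t, ht⟩ : N) w)).card =
      Nat.card {w : N // IsConj (⟨t, ht⟩ : N) w} := by
    rw [Nat.card_eq_fintype_card, Fintype.card_subtype]
  rw [h3, Finset.card_image_of_injective _ Subtype.val_injective, mul_assoc,
    ← card_centralizer_in_subgroup N t ht, h4, card_class_mul]

end general

section quotient

variable {H : Type u} [Group H] [Finite H] (O : Subgroup H)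

omit [Finite H] in
theorem not_mem_of_order_two (hO : Odd (Nat.card O)) {x : H} (hx : orderOf x = 2) : x ∉ O := by
  intro h
  have h2 := O.orderOf_dvd_natCard h
  rw [hx] at h2
  exact (Nat.not_even_iff_odd.2 hO) (even_iff_two_dvd.2 h2)

theorem card_quotient_eq_four (hHO : Nat.card H = 4 * Nat.card O) : Nat.card (H ⧸ O) = 4 := by
  have h := O.card_eq_card_quotient_mul_card_subgroup
  rw [hHO] at h
  have hpos : 0 < Nat.card O := Nat.card_pos
  exact (Nat.eq_of_mul_eq_mul_right hpos h).symm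

omit [Finite H] in
theorem orderOf_mul_eq_two {Jc ac : H} (hJc : orderOf Jc = 2) (hac : orderOf ac = 2)
    (hne : ac ≠ Jc) (hcomm : Jc * ac = ac * Jc) : orderOf (Jc * ac) = 2 := by
  apply orderOf_eq_prime
  · rw [pow_two]
    calc Jc * ac * (Jc * ac) = Jc * (ac * Jc) * ac := by group
      _ = Jc * (Jc * ac) * ac := by rw [hcomm]
      _ = (Jc * Jc) * (ac * ac) := by group
      _ = 1 := by rw [mul_self_of_order_two hJc, mul_self_of_order_two hac, one_mul]
  · intro h
    apply hne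
    have h2 : ac = Jc⁻¹ := eq_inv_of_mul_eq_one_right h
    rw [h2, inv_eq_self_of_order_two hJc]

omit [Finite H] in
/-- an involution in the coset `t * O` of an involution `t` is conjugate to `t` -/
theorem isConj_of_coset (hO : Odd (Nat.card O)) {t w : H} (ht : orderOf t = 2)
    (hw : orderOf w = 2) (h : t⁻¹ * w ∈ O) : IsConj t w := by
  obtain ⟨o, ho⟩ : ∃ o, o = t⁻¹ * w := ⟨_, rfl⟩
  have hoO : o ∈ O := ho ▸ h
  have hw' : w = t * o := by rw [ho]; group
  have htinv := inv_eq_self_of_order_two ht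
  have hinv : t * o * t⁻¹ = o⁻¹ := by
    have hww := mul_self_of_order_two hw
    rw [hw'] at hww
    calc t * o * t⁻¹ = t * o * t := by rw [htinv]
      _ = (t * o * (t * o)) * o⁻¹ := by group
      _ = o⁻¹ := by rw [hww, one_mul]
  have hodd : Odd (orderOf o) := Odd.of_dvd_nat hO (O.orderOf_dvd_natCard hoO)
  obtain ⟨k, hk⟩ := hodd
  obtain ⟨j, hj⟩ : ∃ j, j = o ^ (k + 1) := ⟨_, rfl⟩
  have hjj : j * j = o := by
    rw [hj, ← pow_add]
    have h2 : k + 1 + (k + 1) = orderOf o + 1 := by omega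
    rw [h2, pow_succ, pow_orderOf_eq_one, one_mul]
  have hjinv : t * j * t⁻¹ = j⁻¹ := by
    rw [hj, ← conj_pow, hinv, inv_pow]
  rw [isConj_iff]
  refine ⟨j⁻¹, ?_⟩
  rw [inv_inv, hw', ← hjj]
  have h1 : j⁻¹ * t = t * j := by
    rw [← hjinv]; group
  rw [h1]; group

variable [hn : O.Normal]

/-- the four cosets of `O` -/
theorem quotient_elems (hO : Odd (Nat.card O)) (hHO : Nat.card H = 4 * Nat.card O)
    {Jc ac : H} (hJc : orderOf Jc = 2) (hac : orderOf ac = 2)
    (hne : ac ≠ Jc) (hcomm : Jc * ac = ac * Jc) (q : H ⧸ O) :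
    q = 1 ∨ q = (Jc : H ⧸ O) ∨ q = (ac : H ⧸ O) ∨ q = ((Jc * ac : H) : H ⧸ O) := by
  have h4 := card_quotient_eq_four O hHO
  have hJa := orderOf_mul_eq_two hJc hac hne hcomm
  have n1 : ∀ x : H, orderOf x = 2 → (x : H ⧸ O) ≠ 1 := fun x hx h =>
    not_mem_of_order_two O hO hx ((QuotientGroup.eq_one_iff x).1 h)
  refine eq_of_card_four h4 (Ne.symm (n1 Jc hJc)) (Ne.symm (n1 ac hac)) (Ne.symm (n1 _ hJa))
    ?_ ?_ ?_ q
  · intro h
    apply n1 _ hJa
    rw [QuotientGroup.mk_mul, h, ← QuotientGroup.mk_mul, mul_self_of_order_two hac,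
      QuotientGroup.mk_one]
  · intro h
    apply n1 ac hac
    rw [QuotientGroup.mk_mul] at h
    exact left_eq_mul.mp h
  · intro h
    apply n1 Jc hJc
    rw [QuotientGroup.mk_mul] at h
    exact right_eq_mul.mp h

/-- the product criterion in `H = C_G(J)` -/
theorem prod_mem_iff (hO : Odd (Nat.card O)) (hHO : Nat.card H = 4 * Nat.card O)
    {Jc ac : H} (hJc : orderOf Jc = 2) (hac : orderOf ac = 2)
    (hne : ac ≠ Jc) (hcomm : Jc * ac = ac * Jc) {uc vc : H} (hu : orderOf uc = 2)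
    (hv : orderOf vc = 2) :
    vc * uc * Jc ∈ O ↔
      (IsConj ac uc ∧ IsConj (Jc * ac) vc) ∨ (IsConj (Jc * ac) uc ∧ IsConj ac vc) := by
  have comm : ∀ x y : H ⧸ O, x * y = y * x := by
    have := IsPGroup.isMulCommutative_of_card_eq_prime_sq (p := 2) (G := H ⧸ O)
      (by rw [card_quotient_eq_four O hHO]; norm_num)
    exact fun x y => mul_comm' x y
  have hJa := orderOf_mul_eq_two hJc hac hne hcomm
  have n1 : ∀ x : H, orderOf x = 2 → (x : H ⧸ O) ≠ 1 := fun x hx h =>
    not_mem_of_order_two O hO hx ((QuotientGroup.eq_one_iff x).1 h)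
  have sq : ∀ x : H, orderOf x = 2 → (x : H ⧸ O) * (x : H ⧸ O) = 1 := fun x hx => by
    rw [← QuotientGroup.mk_mul, mul_self_of_order_two hx, QuotientGroup.mk_one]
  have conj_eq : ∀ t w : H, IsConj t w → (w : H ⧸ O) = (t : H ⧸ O) := by
    intro t w h
    obtain ⟨c, hc⟩ := isConj_iff.1 h
    rw [← hc, QuotientGroup.mk_mul, QuotientGroup.mk_mul, comm (c : H ⧸ O) t, mul_assoc,
      ← QuotientGroup.mk_mul, mul_inv_cancel, QuotientGroup.mk_one, mul_one]
  have key : ∀ t w : H, orderOf t = 2 → orderOf w = 2 → (w : H ⧸ O) = t → IsConj t w := by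
    intro t w ht hw htw
    apply isConj_of_coset O hO ht hw
    rw [← QuotientGroup.eq_one_iff, QuotientGroup.mk_mul, QuotientGroup.mk_inv, htw,
      inv_mul_cancel]
  constructor
  · intro h
    have h1 : (vc : H ⧸ O) * uc * Jc = 1 := by
      rw [← QuotientGroup.mk_mul, ← QuotientGroup.mk_mul]
      exact (QuotientGroup.eq_one_iff _).2 h
    rcases quotient_elems O hO hHO hJc hac hne hcomm (uc : H ⧸ O) with hq | hq | hq | hq
    · exact absurd hq (n1 uc hu)
    · exfalso
      apply n1 vc hv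
      rw [hq, mul_assoc, sq Jc hJc, mul_one] at h1
      exact h1
    · left
      refine ⟨key ac uc hac hu hq, key (Jc * ac) vc hJa hv ?_⟩
      rw [hq] at h1
      have h2 : ((Jc * ac : H) : H ⧸ O) * ac * Jc = 1 := by
        rw [QuotientGroup.mk_mul, mul_assoc (Jc : H ⧸ O), sq ac hac, mul_one, sq Jc hJc]
      have h3 : (vc : H ⧸ O) * ((ac : H ⧸ O) * Jc) = ((Jc * ac : H) : H ⧸ O) * ((ac : H ⧸ O) * Jc) := by
        rw [← mul_assoc, ← mul_assoc, h1, h2]
      exact mul_right_cancel h3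
    · right
      refine ⟨key (Jc * ac) uc hJa hu hq, key ac vc hac hv ?_⟩
      rw [hq] at h1
      have h2 : (ac : H ⧸ O) * ((Jc * ac : H) : H ⧸ O) * Jc = 1 := by
        rw [QuotientGroup.mk_mul, comm (Jc : H ⧸ O) ac, ← mul_assoc, sq ac hac, one_mul,
          sq Jc hJc]
      have h3 : (vc : H ⧸ O) * (((Jc * ac : H) : H ⧸ O) * Jc) =
          (ac : H ⧸ O) * (((Jc * ac : H) : H ⧸ O) * Jc) := by
        rw [← mul_assoc, ← mul_assoc, h1, h2]
      exact mul_right_cancel h3
  · rintro (⟨h1, h2⟩ | ⟨h1, h2⟩)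
    · rw [← QuotientGroup.eq_one_iff, QuotientGroup.mk_mul, QuotientGroup.mk_mul,
        conj_eq _ _ h1, conj_eq _ _ h2, QuotientGroup.mk_mul, mul_assoc (Jc : H ⧸ O),
        sq ac hac, mul_one, sq Jc hJc]
    · rw [← QuotientGroup.eq_one_iff, QuotientGroup.mk_mul, QuotientGroup.mk_mul,
        conj_eq _ _ h1, conj_eq _ _ h2, QuotientGroup.mk_mul, comm (Jc : H ⧸ O) ac,
        ← mul_assoc, sq ac hac, one_mul, sq Jc hJc]

/-- the two classes are disjoint -/
theorem not_both (hO : Odd (Nat.card O)) (hHO : Nat.card H = 4 * Nat.card O)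
    {Jc ac : H} (hJc : orderOf Jc = 2) {w : H} :
    ¬ (IsConj ac w ∧ IsConj (Jc * ac) w) := by
  rintro ⟨h1, h2⟩
  have comm : ∀ x y : H ⧸ O, x * y = y * x := by
    have := IsPGroup.isMulCommutative_of_card_eq_prime_sq (p := 2) (G := H ⧸ O)
      (by rw [card_quotient_eq_four O hHO]; norm_num)
    exact fun x y => mul_comm' x y
  have conj_eq : ∀ t w : H, IsConj t w → (w : H ⧸ O) = (t : H ⧸ O) := by
    intro t w h
    obtain ⟨c, hc⟩ := isConj_iff.1 h
    rw [← hc, QuotientGroup.mk_mul, QuotientGroup.mk_mul, comm (c : H ⧸ O) t, mul_assoc,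
      ← QuotientGroup.mk_mul, mul_inv_cancel, QuotientGroup.mk_one, mul_one]
  have h3 : (ac : H ⧸ O) = ((Jc * ac : H) : H ⧸ O) := by
    rw [← conj_eq _ _ h1, ← conj_eq _ _ h2]
  rw [QuotientGroup.mk_mul] at h3
  have h4 : (Jc : H ⧸ O) = 1 := right_eq_mul.mp h3
  exact not_mem_of_order_two O hO hJc ((QuotientGroup.eq_one_iff Jc).1 h4)

end quotient

section glevel

variable {G : Type u} [Group G] [Finite G] {J : G}

omit [Finite G] in
/-- if the product of two involutions lies in `O * J`, both centralize `J` -/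
theorem mem_centralizer_of_prod (hJ : orderOf J = 2) (O : Subgroup (centralizer ({J} : Set G)))
    (hO : Odd (Nat.card O)) {u v : G} (hu : orderOf u = 2) (hv : orderOf v = 2)
    (h : v * u * J ∈ O.map (centralizer ({J} : Set G)).subtype) :
    u ∈ centralizer ({J} : Set G) ∧ v ∈ centralizer ({J} : Set G) := by
  obtain ⟨k, hkO, hk⟩ := Subgroup.mem_map.1 h
  have hk' : (k : G) = v * u * J := hk
  have hkJ : (k : G) * J = J * (k : G) := by
    have := k.2
    rwa [Subgroup.mem_centralizer_singleton_iff] at this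
  have hJinv := inv_eq_self_of_order_two hJ
  have huinv := inv_eq_self_of_order_two hu
  have hvinv := inv_eq_self_of_order_two hv
  have hw : v * u = (k : G) * J := by
    rw [hk', mul_assoc (v * u), mul_self_of_order_two hJ, mul_one]
  have hodd : Odd (orderOf (k : G)) := by
    rw [Subgroup.orderOf_coe]
    exact Odd.of_dvd_nat hO (O.orderOf_dvd_natCard hkO)
  obtain ⟨n, hn⟩ := hodd
  have hpow : ((k : G) * J) ^ (2 * n + 1) = J := by
    have hc : Commute (k : G) J := hkJ
    rw [hc.mul_pow, ← hn, pow_orderOf_eq_one, one_mul, hn, pow_succ, pow_mul, pow_two,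
      mul_self_of_order_two hJ, one_pow, one_mul]
  have hinv : u * (v * u) * u⁻¹ = (v * u)⁻¹ := by
    calc u * (v * u) * u⁻¹ = u * v := by group
      _ = u⁻¹ * v⁻¹ := by rw [huinv, hvinv]
      _ = (v * u)⁻¹ := by rw [mul_inv_rev]
  have huJ : u * J * u⁻¹ = J := by
    calc u * J * u⁻¹ = u * (v * u) ^ (2 * n + 1) * u⁻¹ := by rw [hw, hpow]
      _ = (u * (v * u) * u⁻¹) ^ (2 * n + 1) := by rw [conj_pow]
      _ = ((v * u) ^ (2 * n + 1))⁻¹ := by rw [hinv, inv_pow]
      _ = J := by rw [hw, hpow, hJinv]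
  have huC : u ∈ centralizer ({J} : Set G) := by
    rw [Subgroup.mem_centralizer_singleton_iff]
    calc u * J = (u * J * u⁻¹) * u := by group
      _ = J * u := by rw [huJ]
  refine ⟨huC, ?_⟩
  have hJC : J ∈ centralizer ({J} : Set G) := by
    rw [Subgroup.mem_centralizer_singleton_iff]
  have hv' : v = (k : G) * J * u⁻¹ := by rw [← hw]; group
  rw [hv']
  exact mul_mem (mul_mem k.2 hJC) (inv_mem huC)

/-- the product criterion in `G` -/
theorem prod_mem_map_iff (hJ : orderOf J = 2) (O : Subgroup (centralizer ({J} : Set G)))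
    [O.Normal] (hO : Odd (Nat.card O))
    (hCO : Nat.card (centralizer ({J} : Set G)) = 4 * Nat.card O)
    {a : G} (ha : orderOf a = 2) (haJ : a ≠ J) (hcomm : J * a = a * J)
    (haC : a ∈ centralizer ({J} : Set G)) (hJaC : J * a ∈ centralizer ({J} : Set G))
    {u v : G} (hu : orderOf u = 2) (hv : orderOf v = 2) :
    v * u * J ∈ O.map (centralizer ({J} : Set G)).subtype ↔
      ((∃ w : centralizer ({J} : Set G), IsConj ⟨a, haC⟩ w ∧ (w : G) = u) ∧
        (∃ w : centralizer ({J} : Set G), IsConj ⟨J * a, hJaC⟩ w ∧ (w : G) = v)) ∨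
      ((∃ w : centralizer ({J} : Set G), IsConj ⟨J * a, hJaC⟩ w ∧ (w : G) = u) ∧
        (∃ w : centralizer ({J} : Set G), IsConj ⟨a, haC⟩ w ∧ (w : G) = v)) := by
  have hJC : J ∈ centralizer ({J} : Set G) := by
    rw [Subgroup.mem_centralizer_singleton_iff]
  have hJc : orderOf (⟨J, hJC⟩ : centralizer ({J} : Set G)) = 2 := by
    rw [Subgroup.orderOf_mk]; exact hJ
  have hac : orderOf (⟨a, haC⟩ : centralizer ({J} : Set G)) = 2 := by
    rw [Subgroup.orderOf_mk]; exact ha
  have hne : (⟨a, haC⟩ : centralizer ({J} : Set G)) ≠ ⟨J, hJC⟩ := by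
    intro h
    exact haJ (congrArg Subtype.val h)
  have hcomm' : (⟨J, hJC⟩ : centralizer ({J} : Set G)) * ⟨a, haC⟩ = ⟨a, haC⟩ * ⟨J, hJC⟩ :=
    Subtype.ext hcomm
  have hmul : (⟨J, hJC⟩ : centralizer ({J} : Set G)) * ⟨a, haC⟩ = ⟨J * a, hJaC⟩ := rfl
  constructor
  · intro h
    obtain ⟨huC, hvC⟩ := mem_centralizer_of_prod hJ O hO hu hv h
    obtain ⟨k, hkO, hk⟩ := Subgroup.mem_map.1 h
    have hk' : k = (⟨v, hvC⟩ : centralizer ({J} : Set G)) * ⟨u, huC⟩ * ⟨J, hJC⟩ :=
      Subtype.ext hk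
    rw [hk'] at hkO
    have huc : orderOf (⟨u, huC⟩ : centralizer ({J} : Set G)) = 2 := by
      rw [Subgroup.orderOf_mk]; exact hu
    have hvc : orderOf (⟨v, hvC⟩ : centralizer ({J} : Set G)) = 2 := by
      rw [Subgroup.orderOf_mk]; exact hv
    rcases (prod_mem_iff O hO hCO hJc hac hne hcomm' huc hvc).1 hkO with ⟨h1, h2⟩ | ⟨h1, h2⟩
    · left
      rw [hmul] at h2
      exact ⟨⟨_, h1, rfl⟩, ⟨_, h2, rfl⟩⟩
    · right
      rw [hmul] at h1
      exact ⟨⟨_, h1, rfl⟩, ⟨_, h2, rfl⟩⟩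
  · have horder : ∀ (w : centralizer ({J} : Set G)) (x : G), (w : G) = x → orderOf x = 2 →
        orderOf w = 2 := by
      intro w x hwx hx
      rw [← Subgroup.orderOf_coe, hwx, hx]
    rintro (⟨⟨w1, h1, e1⟩, ⟨w2, h2, e2⟩⟩ | ⟨⟨w1, h1, e1⟩, ⟨w2, h2, e2⟩⟩)
    · have h3 := (prod_mem_iff O hO hCO hJc hac hne hcomm' (horder w1 u e1 hu)
        (horder w2 v e2 hv)).2 (Or.inl ⟨h1, by rw [hmul]; exact h2⟩)
      refine Subgroup.mem_map.2 ⟨_, h3, ?_⟩
      simp only [Subgroup.coe_subtype, Subgroup.coe_mul, e1, e2]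
    · have h3 := (prod_mem_iff O hO hCO hJc hac hne hcomm' (horder w1 u e1 hu)
        (horder w2 v e2 hv)).2 (Or.inr ⟨by rw [hmul]; exact h1, h2⟩)
      refine Subgroup.mem_map.2 ⟨_, h3, ?_⟩
      simp only [Subgroup.coe_subtype, Subgroup.coe_mul, e1, e2]

/-- the two alternatives exclude each other -/
theorem not_both_map (hJ : orderOf J = 2) (O : Subgroup (centralizer ({J} : Set G)))
    [O.Normal] (hO : Odd (Nat.card O))
    (hCO : Nat.card (centralizer ({J} : Set G)) = 4 * Nat.card O)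
    {a : G} (haC : a ∈ centralizer ({J} : Set G)) (hJaC : J * a ∈ centralizer ({J} : Set G))
    {u : G} :
    ¬ ((∃ w : centralizer ({J} : Set G), IsConj ⟨a, haC⟩ w ∧ (w : G) = u) ∧
      (∃ w : centralizer ({J} : Set G), IsConj ⟨J * a, hJaC⟩ w ∧ (w : G) = u)) := by
  rintro ⟨⟨w1, h1, e1⟩, ⟨w2, h2, e2⟩⟩
  have hJC : J ∈ centralizer ({J} : Set G) := by
    rw [Subgroup.mem_centralizer_singleton_iff]
  have hJc : orderOf (⟨J, hJC⟩ : centralizer ({J} : Set G)) = 2 := by
    rw [Subgroup.orderOf_mk]; exact hJ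
  have hw : w1 = w2 := Subtype.ext (e1.trans e2.symm)
  rw [← hw] at h2
  have hmul : (⟨J, hJC⟩ : centralizer ({J} : Set G)) * ⟨a, haC⟩ = ⟨J * a, hJaC⟩ := rfl
  rw [← hmul] at h2
  exact not_both O hO hCO hJc ⟨h1, h2⟩

open Classical in
/-- the number of pairs `(h, g)` such that the product of the conjugates of `J` by `g` and `h`
lies in `O * J` -/
theorem count_pairs [Fintype G] (hJ : orderOf J = 2) (O : Subgroup (centralizer ({J} : Set G)))
    [O.Normal] (hO : Odd (Nat.card O))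
    (hCO : Nat.card (centralizer ({J} : Set G)) = 4 * Nat.card O)
    {a : G} (ha : orderOf a = 2) (haJ : a ≠ J) (hcomm : J * a = a * J)
    (hJa : IsConj J a) (hJJa : IsConj J (J * a)) :
    (∑ h : G, ∑ g : G,
      if (g⁻¹ * J * g) * (h⁻¹ * J * h) * J ∈ O.map (centralizer ({J} : Set G)).subtype
        then 1 else 0) *
      (Nat.card ↥(centralizer ({J} : Set G) ⊓ centralizer ({a} : Set G)) *
        Nat.card ↥(centralizer ({J} : Set G) ⊓ centralizer ({J * a} : Set G))) =
      2 * Nat.card (centralizer ({J} : Set G)) ^ 4 := by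
  have hJC : J ∈ centralizer ({J} : Set G) := by
    rw [Subgroup.mem_centralizer_singleton_iff]
  have haC : a ∈ centralizer ({J} : Set G) := by
    rw [Subgroup.mem_centralizer_singleton_iff]
    exact hcomm.symm
  have hJaC : J * a ∈ centralizer ({J} : Set G) := mul_mem hJC haC
  obtain ⟨A, hA⟩ : ∃ A : G → Prop, A = fun x =>
    ∃ w : centralizer ({J} : Set G), IsConj ⟨a, haC⟩ w ∧ (w : G) = x := ⟨_, rfl⟩
  obtain ⟨B, hB⟩ : ∃ B : G → Prop, B = fun x =>
    ∃ w : centralizer ({J} : Set G), IsConj ⟨J * a, hJaC⟩ w ∧ (w : G) = x := ⟨_, rfl⟩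
  have hind : ∀ h g : G,
      (if (g⁻¹ * J * g) * (h⁻¹ * J * h) * J ∈ O.map (centralizer ({J} : Set G)).subtype
        then 1 else 0) =
      (if A (h⁻¹ * J * h) then 1 else 0) * (if B (g⁻¹ * J * g) then 1 else 0) +
        (if B (h⁻¹ * J * h) then 1 else 0) * (if A (g⁻¹ * J * g) then 1 else 0) := by
    intro h g
    have hu : orderOf (h⁻¹ * J * h) = 2 := by
      have := orderOf_conj_eq h⁻¹ J
      rwa [inv_inv, hJ] at this
    have hv : orderOf (g⁻¹ * J * g) = 2 := by
      have := orderOf_conj_eq g⁻¹ J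
      rwa [inv_inv, hJ] at this
    have hiff := prod_mem_map_iff hJ O hO hCO ha haJ hcomm haC hJaC hu hv
    have nu := not_both_map hJ O hO hCO haC hJaC (u := h⁻¹ * J * h)
    have nv := not_both_map hJ O hO hCO haC hJaC (u := g⁻¹ * J * g)
    have hiff' : (g⁻¹ * J * g) * (h⁻¹ * J * h) * J ∈ O.map (centralizer ({J} : Set G)).subtype ↔
        (A (h⁻¹ * J * h) ∧ B (g⁻¹ * J * g)) ∨ (B (h⁻¹ * J * h) ∧ A (g⁻¹ * J * g)) := by
      rw [hA, hB]
      exact hiff
    have nu' : ¬ (A (h⁻¹ * J * h) ∧ B (h⁻¹ * J * h)) := by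
      rw [hA, hB]
      exact nu
    have nv' : ¬ (A (g⁻¹ * J * g) ∧ B (g⁻¹ * J * g)) := by
      rw [hA, hB]
      exact nv
    rw [if_congr hiff' rfl rfl]
    by_cases h1 : A (h⁻¹ * J * h)
    · have h3 : ¬ B (h⁻¹ * J * h) := fun h3 => nu' ⟨h1, h3⟩
      by_cases h2 : B (g⁻¹ * J * g)
      · simp [h1, h2, h3]
      · simp [h1, h2, h3]
    · by_cases h3 : B (h⁻¹ * J * h)
      · by_cases h4 : A (g⁻¹ * J * g)
        · simp [h1, h3, h4]
        · simp [h1, h3, h4]
      · simp [h1, h3]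
  simp only [hind]
  have hsplit : (∑ h : G, ∑ g : G,
      ((if A (h⁻¹ * J * h) then 1 else 0) * (if B (g⁻¹ * J * g) then 1 else 0) +
        (if B (h⁻¹ * J * h) then 1 else 0) * (if A (g⁻¹ * J * g) then 1 else 0))) =
      (∑ h : G, if A (h⁻¹ * J * h) then 1 else 0) * (∑ g : G, if B (g⁻¹ * J * g) then 1 else 0) +
      (∑ h : G, if B (h⁻¹ * J * h) then 1 else 0) * (∑ g : G, if A (g⁻¹ * J * g) then 1 else 0) := by
    rw [Finset.sum_mul_sum, Finset.sum_mul_sum, ← Finset.sum_add_distrib]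
    refine Finset.sum_congr rfl fun h _ => ?_
    rw [← Finset.sum_add_distrib]
  rw [hsplit]
  have hnA : (∑ h : G, if A (h⁻¹ * J * h) then 1 else 0) =
      Nat.card {h : G // A (h⁻¹ * J * h)} := by
    rw [← Finset.card_filter, Nat.card_eq_fintype_card, Fintype.card_subtype]
  have hnB : (∑ h : G, if B (h⁻¹ * J * h) then 1 else 0) =
      Nat.card {h : G // B (h⁻¹ * J * h)} := by
    rw [← Finset.card_filter, Nat.card_eq_fintype_card, Fintype.card_subtype]
  rw [hnA, hnB]
  have h1 : Nat.card {h : G // A (h⁻¹ * J * h)} *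
      Nat.card ↥(centralizer ({J} : Set G) ⊓ centralizer ({a} : Set G)) =
      Nat.card (centralizer ({J} : Set G)) * Nat.card (centralizer ({J} : Set G)) := by
    rw [hA]
    exact card_conj_into_class (centralizer ({J} : Set G)) J a haC hJa
  have h2 : Nat.card {h : G // B (h⁻¹ * J * h)} *
      Nat.card ↥(centralizer ({J} : Set G) ⊓ centralizer ({J * a} : Set G)) =
      Nat.card (centralizer ({J} : Set G)) * Nat.card (centralizer ({J} : Set G)) := by
    rw [hB]
    exact card_conj_into_class (centralizer ({J} : Set G)) J (J * a) hJaC hJJa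
  obtain ⟨nA, hnA'⟩ : ∃ n : ℕ, n = Nat.card {h : G // A (h⁻¹ * J * h)} := ⟨_, rfl⟩
  obtain ⟨nB, hnB'⟩ : ∃ n : ℕ, n = Nat.card {h : G // B (h⁻¹ * J * h)} := ⟨_, rfl⟩
  rw [← hnA'] at h1 ⊢
  rw [← hnB'] at h2 ⊢
  calc (nA * nB + nB * nA) *
      (Nat.card ↥(centralizer ({J} : Set G) ⊓ centralizer ({a} : Set G)) *
        Nat.card ↥(centralizer ({J} : Set G) ⊓ centralizer ({J * a} : Set G))) =
      2 * ((nA * Nat.card ↥(centralizer ({J} : Set G) ⊓ centralizer ({a} : Set G))) *
        (nB * Nat.card ↥(centralizer ({J} : Set G) ⊓ centralizer ({J * a} : Set G)))) := by ring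
    _ = 2 * Nat.card (centralizer ({J} : Set G)) ^ 4 := by rw [h1, h2]; ring

end glevel

end Cfsg.Agent.Lib.Helper30_KleinCount
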