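import Mathlib

/-!
# Arithmetic for groups of order `4 p^a q^b` (helper30)

Number theory used to pin down the degrees in the principal `2`-block of a simple group of order
`4 p^a q^b`: each signed degree `z = σ d` has one of three types, and the relation
`z₂ + z₃ + z₄ = -1` forces `z₃ = z₄ = -3`.
-/

set_option autoImplicit false

namespace Cfsg.Agent.Lib.Helper30_PQArith

/-- the type of a signed degree -/
def SType (p q : ℕ) (z : ℤ) : Prop :=
  ((p : ℤ) ∣ z ∧ (q : ℤ) ∣ z + 1) ∨ ((q : ℤ) ∣ z ∧ (p : ℤ) ∣ z + 1) ∨ z = -3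

theorem sType_symm {p q : ℕ} {z : ℤ} (h : SType p q z) : SType q p z := by
  rcases h with h | h | h
  · exact Or.inr (Or.inl h)
  · exact Or.inl h
  · exact Or.inr (Or.inr h)

/-- an odd prime dividing a natural number in `{1,2,3,4}` is `3`, and the number is `3` -/
theorem odd_prime_dvd_small {p : ℕ} (hp : p.Prime) (hp2 : p ≠ 2) {n : ℤ}
    (hn : n = 1 ∨ n = 2 ∨ n = 3 ∨ n = 4) (h : (p : ℤ) ∣ n) : p = 3 ∧ n = 3 := by
  have hn0 : 0 < n := by rcases hn with h | h | h | h <;> omega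
  have hle : (p : ℤ) ≤ n := Int.le_of_dvd hn0 h
  have hp2' := hp.two_le
  have hp4 : p ≤ 4 := by
    have : (p : ℤ) ≤ 4 := by rcases hn with h | h | h | h <;> omega
    exact_mod_cast this
  interval_cases p
  · exact absurd rfl hp2
  · refine ⟨rfl, ?_⟩
    rcases hn with h' | h' | h' | h'
    · rw [h'] at h; norm_num at h
    · rw [h'] at h; norm_num at h
    · exact h'
    · rw [h'] at h; norm_num at h
  · exfalso
    norm_num at hp

/-- the key combinatorial step, for `z₂` of the first type -/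
theorem three_types_aux {p q : ℕ} (hp : p.Prime) (hq : q.Prime) (hp2 : p ≠ 2) (hq2 : q ≠ 2)
    (hpq : p ≠ q) {z₂ z₃ z₄ : ℤ} (hsum : z₂ + z₃ + z₄ = -1)
    (h₂ : (p : ℤ) ∣ z₂ ∧ (q : ℤ) ∣ z₂ + 1) (h₃ : SType p q z₃) (h₄ : SType p q z₄) :
    z₃ = -3 ∧ z₄ = -3 := by
  obtain ⟨h2p, h2q⟩ := h₂
  rcases h₃ with ⟨h3p, h3q⟩ | ⟨h3q, h3p⟩ | h3
  · rcases h₄ with ⟨h4p, h4q⟩ | ⟨h4q, h4p⟩ | h4
    · exfalso
      have h := dvd_add (dvd_add h2q h3q) h4q
      have e : z₂ + 1 + (z₃ + 1) + (z₄ + 1) = 2 := by omega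
      rw [e] at h
      have := odd_prime_dvd_small hq hq2 (Or.inr (Or.inl rfl)) h
      omega
    · exfalso
      have h := dvd_add (dvd_add h2q h3q) h4q
      have e : z₂ + 1 + (z₃ + 1) + z₄ = 1 := by omega
      rw [e] at h
      have := odd_prime_dvd_small hq hq2 (Or.inl rfl) h
      omega
    · exfalso
      have h := dvd_add h2q h3q
      have e : z₂ + 1 + (z₃ + 1) = 4 := by omega
      rw [e] at h
      have := odd_prime_dvd_small hq hq2 (Or.inr (Or.inr (Or.inr rfl))) h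
      omega
  · rcases h₄ with ⟨h4p, h4q⟩ | ⟨h4q, h4p⟩ | h4
    · exfalso
      have h := dvd_add (dvd_add h2q h3q) h4q
      have e : z₂ + 1 + z₃ + (z₄ + 1) = 1 := by omega
      rw [e] at h
      have := odd_prime_dvd_small hq hq2 (Or.inl rfl) h
      omega
    · exfalso
      have h := dvd_add (dvd_add h2p h3p) h4p
      have e : z₂ + (z₃ + 1) + (z₄ + 1) = 1 := by omega
      rw [e] at h
      have := odd_prime_dvd_small hp hp2 (Or.inl rfl) h
      omega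
    · exfalso
      have h := dvd_add h2p h3p
      have e : z₂ + (z₃ + 1) = 3 := by omega
      rw [e] at h
      have h' := dvd_add h2q h3q
      have e' : z₂ + 1 + z₃ = 3 := by omega
      rw [e'] at h'
      have a1 := odd_prime_dvd_small hp hp2 (Or.inr (Or.inr (Or.inl rfl))) h
      have a2 := odd_prime_dvd_small hq hq2 (Or.inr (Or.inr (Or.inl rfl))) h'
      exact hpq (a1.1.trans a2.1.symm)
  · rcases h₄ with ⟨h4p, h4q⟩ | ⟨h4q, h4p⟩ | h4
    · exfalso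
      have h := dvd_add h2q h4q
      have e : z₂ + 1 + (z₄ + 1) = 4 := by omega
      rw [e] at h
      have := odd_prime_dvd_small hq hq2 (Or.inr (Or.inr (Or.inr rfl))) h
      omega
    · exfalso
      have h := dvd_add h2p h4p
      have e : z₂ + (z₄ + 1) = 3 := by omega
      rw [e] at h
      have h' := dvd_add h2q h4q
      have e' : z₂ + 1 + z₄ = 3 := by omega
      rw [e'] at h'
      have a1 := odd_prime_dvd_small hp hp2 (Or.inr (Or.inr (Or.inl rfl))) h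
      have a2 := odd_prime_dvd_small hq hq2 (Or.inr (Or.inr (Or.inl rfl))) h'
      exact hpq (a1.1.trans a2.1.symm)
    · exact ⟨h3, h4⟩

/-- **The degrees are forced.** -/
theorem three_types {p q : ℕ} (hp : p.Prime) (hq : q.Prime) (hp2 : p ≠ 2) (hq2 : q ≠ 2)
    (hpq : p ≠ q) {z₂ z₃ z₄ : ℤ} (hsum : z₂ + z₃ + z₄ = -1) (hpos : 0 < z₂)
    (h₂ : SType p q z₂) (h₃ : SType p q z₃) (h₄ : SType p q z₄) :
    z₃ = -3 ∧ z₄ = -3 := by
  rcases h₂ with h | h | h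
  · exact three_types_aux hp hq hp2 hq2 hpq hsum h h₃ h₄
  · exact three_types_aux hq hp hq2 hp2 (Ne.symm hpq) hsum h (sType_symm h₃) (sType_symm h₄)
  · omega

/-- an integer `≡ 2 (mod 4)` whose only prime divisor is `2` is `±2` -/
theorem eq_two_of_prime_factors {w : ℤ} (h4 : (4 : ℤ) ∣ w - 2 ∨ (4 : ℤ) ∣ w + 2)
    (hpr : ∀ r : ℕ, r.Prime → (r : ℤ) ∣ w → r = 2) : w = 2 ∨ w = -2 := by
  obtain ⟨e, he, hodd⟩ : ∃ e : ℤ, w = 2 * e ∧ ¬ (2 : ℤ) ∣ e := by
    rcases h4 with ⟨k, hk⟩ | ⟨k, hk⟩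
    · exact ⟨2 * k + 1, by omega, by omega⟩
    · exact ⟨2 * k - 1, by omega, by omega⟩
  have h1 : e.natAbs = 1 := by
    by_contra hne
    obtain ⟨r, hr, hre⟩ := Nat.exists_prime_and_dvd hne
    have hre' : (r : ℤ) ∣ e := Int.natCast_dvd.mpr hre
    have hrw : (r : ℤ) ∣ w := by rw [he]; exact Dvd.dvd.mul_left hre' 2
    have := hpr r hr hrw
    rw [this] at hre'
    exact hodd (by exact_mod_cast hre')
  rcases Int.natAbs_eq e with h | h
  · left; rw [he, h, h1]; norm_num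
  · right; rw [he, h, h1]; norm_num

/-- the type of a signed degree -/
theorem sType_of_degree {p q : ℕ} (hp : p.Prime) (hq : q.Prime) {d : ℕ} (hd1 : 1 < d)
    (hdpq : ∀ r : ℕ, r.Prime → r ∣ d → r = p ∨ r = q) {σ : ℤ} (hσ : σ = 1 ∨ σ = -1)
    (h4 : (4 : ℤ) ∣ (d : ℤ) - σ)
    (hw : ∀ r : ℕ, r.Prime → (r : ℤ) ∣ (d : ℤ) + σ → r = 2 ∨ r = p ∨ r = q) :
    SType p q (σ * d) := by
  have hσ2 : σ * σ = 1 := by rcases hσ with h | h <;> rw [h] <;> norm_num
  have hz1 : σ * d + 1 = σ * ((d : ℤ) + σ) := by rw [mul_add, hσ2]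
  -- a prime dividing both `d` and `d + σ` is impossible
  have hcop : ∀ r : ℕ, r.Prime → r ∣ d → ¬ (r : ℤ) ∣ (d : ℤ) + σ := by
    intro r hr hrd hrw
    have hrd' : (r : ℤ) ∣ (d : ℤ) := Int.natCast_dvd_natCast.mpr hrd
    have h1 : (r : ℤ) ∣ σ := by
      have := dvd_sub hrw hrd'
      simpa using this
    have h2 : (r : ℤ) ∣ 1 := by
      rw [← hσ2]; exact Dvd.dvd.mul_left h1 σ
    have h3 : r ∣ 1 := by exact_mod_cast h2
    exact hr.one_lt.ne' (Nat.dvd_one.mp h3)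
  have h4' : (4 : ℤ) ∣ ((d : ℤ) + σ) - 2 ∨ (4 : ℤ) ∣ ((d : ℤ) + σ) + 2 := by
    rcases hσ with h | h
    · left; rw [h] at h4 ⊢; obtain ⟨k, hk⟩ := h4; exact ⟨k, by omega⟩
    · right; rw [h] at h4 ⊢; obtain ⟨k, hk⟩ := h4; exact ⟨k, by omega⟩
  -- if neither `p` nor `q` divides `d + σ` then `d = 3`, `σ = -1`
  have hsmall : ¬ (p : ℤ) ∣ (d : ℤ) + σ → ¬ (q : ℤ) ∣ (d : ℤ) + σ → σ * d = -3 := by
    intro hpw hqw
    have := eq_two_of_prime_factors h4' (by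
      intro r hr hrw
      rcases hw r hr hrw with h | h | h
      · exact h
      · rw [h] at hrw; exact absurd hrw hpw
      · rw [h] at hrw; exact absurd hrw hqw)
    have hd1' : (1 : ℤ) < d := by exact_mod_cast hd1
    rcases hσ with h | h <;> rcases this with h' | h' <;> rw [h] at h' ⊢ <;> omega
  obtain ⟨r, hr, hrd⟩ := Nat.exists_prime_and_dvd (Nat.ne_of_gt hd1)
  by_cases hpd : p ∣ d
  · have hpw := hcop p hp hpd
    by_cases hqw : (q : ℤ) ∣ (d : ℤ) + σ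
    · left
      refine ⟨Dvd.dvd.mul_left (Int.natCast_dvd_natCast.mpr hpd) σ, ?_⟩
      rw [hz1]
      exact Dvd.dvd.mul_left hqw σ
    · exact Or.inr (Or.inr (hsmall hpw hqw))
  · have hqd : q ∣ d := by
      rcases hdpq r hr hrd with h | h
      · rw [h] at hrd; exact absurd hrd hpd
      · rw [h] at hrd; exact hrd
    have hqw := hcop q hq hqd
    by_cases hpw : (p : ℤ) ∣ (d : ℤ) + σ
    · right; left
      refine ⟨Dvd.dvd.mul_left (Int.natCast_dvd_natCast.mpr hqd) σ, ?_⟩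
      rw [hz1]
      exact Dvd.dvd.mul_left hpw σ
    · exact Or.inr (Or.inr (hsmall hpw hqw))

/-- prime divisors of the factors `wᵢ` in the order formula divide the group order -/
theorem prime_dvd_of_formula {N d₂ d₃ d₄ cJ cP : ℕ} {w₂ w₃ w₄ : ℤ}
    (h : (N : ℤ) * (w₂ * w₃ * w₄) * (cP : ℤ) ^ 2 = 8 * ((d₂ : ℤ) * d₃ * d₄) * (cJ : ℤ) ^ 3)
    (hd₂ : d₂ ∣ N) (hd₃ : d₃ ∣ N) (hd₄ : d₄ ∣ N) (hcJ : cJ ∣ N) (hN2 : 2 ∣ N)
    {r : ℕ} (hr : r.Prime) (hrw : (r : ℤ) ∣ w₂ ∨ (r : ℤ) ∣ w₃ ∨ (r : ℤ) ∣ w₄) : r ∣ N := by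
  have hrp : Prime (r : ℤ) := Nat.prime_iff_prime_int.mp hr
  have h1 : (r : ℤ) ∣ w₂ * w₃ * w₄ := by
    rcases hrw with h' | h' | h'
    · exact Dvd.dvd.mul_right (Dvd.dvd.mul_right h' _) _
    · exact Dvd.dvd.mul_right (Dvd.dvd.mul_left h' _) _
    · exact Dvd.dvd.mul_left h' _
  have h2 : (r : ℤ) ∣ 8 * ((d₂ : ℤ) * d₃ * d₄) * (cJ : ℤ) ^ 3 := by
    rw [← h]
    exact Dvd.dvd.mul_right (Dvd.dvd.mul_left h1 _) _
  have key : ∀ m : ℕ, m ∣ N → (r : ℤ) ∣ (m : ℤ) → r ∣ N := by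
    intro m hm hrm
    exact (Int.natCast_dvd_natCast.mp hrm).trans hm
  rcases hrp.dvd_or_dvd h2 with h3 | h3
  · rcases hrp.dvd_or_dvd h3 with h4 | h4
    · have h5 : (r : ℤ) ∣ (2 : ℤ) ^ 3 := by norm_num; exact h4
      have h6 := hrp.dvd_of_dvd_pow h5
      exact key 2 hN2 (by exact_mod_cast h6)
    · rcases hrp.dvd_or_dvd h4 with h5 | h5
      · rcases hrp.dvd_or_dvd h5 with h6 | h6
        · exact key d₂ hd₂ h6
        · exact key d₃ hd₃ h6
      · exact key d₄ hd₄ h5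
  · exact key cJ hcJ (hrp.dvd_of_dvd_pow h3)

end Cfsg.Agent.Lib.Helper30_PQArith
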