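import Cfsg.Agent.Lib.Helper81_CharBasic

/-!
# First orthogonality, finiteness of `IrrCharacter G`, completeness (helper81)
-/

set_option autoImplicit false

namespace Cfsg.Agent.Lib.Helper81_CharOrth

open Cfsg Cfsg.Agent.Lib.Helper81_CharBasic

universe u

variable {G : Type u} [Group G]

theorem card_ne_zero [Finite G] : (Nat.card G : ℂ) ≠ 0 := by
  have : Nat.card G ≠ 0 := Nat.card_pos.ne'
  exact_mod_cast this

/-- First orthogonality relation (bilinear form), for irreducible characters in the sense of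
`Cfsg.IsIrrCharacter`. -/
theorem sum_irr_mul_irr_inv [Fintype G] {χ ψ : G → ℂ} (hχ : IsIrrCharacter G χ)
    (hψ : IsIrrCharacter G ψ) :
    ∑ g : G, χ g * ψ g⁻¹ = if χ = ψ then (Nat.card G : ℂ) else 0 := by
  classical
  obtain ⟨n, ρ, hρ, rfl⟩ := hχ
  obtain ⟨m, σ, hσ, rfl⟩ := hψ
  have hc : (Nat.card G : ℂ) ≠ 0 := card_ne_zero
  haveI : Invertible (Nat.card G : ℂ) := invertibleOfNonzero hc
  have key := Representation.char_orthonormal ρ σ
  have key2 := Representation.char_orthonormal ρ ρ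
  have hrefl : Nonempty (ρ.Equiv ρ) := ⟨Representation.Equiv.refl ρ⟩
  rw [if_pos hrefl] at key2
  by_cases h : ρ.character = σ.character
  · rw [if_pos h]
    by_cases hne : Nonempty (σ.Equiv ρ)
    · rw [if_pos hne] at key
      field_simp at key
      rw [key]
    · rw [if_neg hne, ← h, key2] at key
      exact absurd key one_ne_zero
  · rw [if_neg h]
    have hne : ¬ Nonempty (σ.Equiv ρ) := by
      rintro ⟨φ⟩
      exact h (Representation.char_iso φ).symm
    rw [if_neg hne] at key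
    rcases mul_eq_zero.mp key with h0 | h0
    · exact absurd (inv_eq_zero.mp h0) hc
    · exact h0

theorem sum_irr_mul_self_inv [Fintype G] {χ : G → ℂ} (hχ : IsIrrCharacter G χ) :
    ∑ g : G, χ g * χ g⁻¹ = (Nat.card G : ℂ) := by
  rw [sum_irr_mul_irr_inv hχ hχ, if_pos rfl]

theorem sum_irr_mul_irr_inv_of_ne [Fintype G] {χ ψ : G → ℂ} (hχ : IsIrrCharacter G χ)
    (hψ : IsIrrCharacter G ψ) (h : χ ≠ ψ) :
    ∑ g : G, χ g * ψ g⁻¹ = 0 := by
  rw [sum_irr_mul_irr_inv hχ hψ, if_neg h]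

/-- Irreducible characters are linearly independent. -/
theorem linearIndependent_irr [Finite G] :
    LinearIndependent ℂ (fun χ : IrrCharacter G => (χ : G → ℂ)) := by
  classical
  haveI := Fintype.ofFinite G
  rw [linearIndependent_iff']
  intro s c hc ψ hψ
  have h1 : ∑ g : G, (∑ χ ∈ s, c χ • (χ : G → ℂ)) g * (ψ : G → ℂ) g⁻¹ = 0 := by
    rw [hc]; simp
  have h2 : ∑ g : G, (∑ χ ∈ s, c χ • (χ : G → ℂ)) g * (ψ : G → ℂ) g⁻¹
      = ∑ χ ∈ s, c χ * ∑ g : G, (χ : G → ℂ) g * (ψ : G → ℂ) g⁻¹ := by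
    simp only [Finset.sum_apply, Pi.smul_apply, smul_eq_mul, Finset.sum_mul, Finset.mul_sum]
    rw [Finset.sum_comm]
    refine Finset.sum_congr rfl fun χ _ => Finset.sum_congr rfl fun g _ => by ring
  rw [h2] at h1
  have h3 : ∑ χ ∈ s, c χ * ∑ g : G, (χ : G → ℂ) g * (ψ : G → ℂ) g⁻¹ = c ψ * (Nat.card G : ℂ) := by
    rw [Finset.sum_eq_single ψ]
    · rw [sum_irr_mul_self_inv ψ.2]
    · intro χ _ hne
      rw [sum_irr_mul_irr_inv_of_ne χ.2 ψ.2 (fun h => hne (Subtype.ext h)), mul_zero]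
    · intro h; exact absurd hψ h
  rw [h3] at h1
  exact (mul_eq_zero.mp h1).resolve_right card_ne_zero

instance finite_irrCharacter [Finite G] : Finite (IrrCharacter G) := by
  haveI := Fintype.ofFinite G
  exact (linearIndependent_irr (G := G)).finite

end Cfsg.Agent.Lib.Helper81_CharOrth
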