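import Mathlib
import Cfsg.Prelude.Def_Blocks
import Cfsg.Agent.Lib.Helper78_LocalRing
import Cfsg.Agent.Lib.Helper78_SecondMain
import Cfsg.Agent.Lib.Helper78_SecondMainChar
import Cfsg.Agent.Lib.Helper78_PRegSum
import Cfsg.Agent.Lib.Helper77_WeakOrth
import Cfsg.Agent.Lib.Helper80_CharBasic
import Cfsg.Agent.Lib.Helper80_CharComplete
import Cfsg.Agent.Lib.Helper81_CharOrth

/-!
# The norm of a column of the principal block at a `p`-element (helper30)

For a `p`-element `y` of a finite group `G` with centralizer `C`: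
`∑_{χ ∈ B₀(G)} χ(y) conj χ(y) = ∑_{ψ ∈ B₀(C)} ψ(1) conj ψ(1)`
(Brauer's second and third main theorems plus Osima's support theorem).
-/

set_option autoImplicit false

namespace Cfsg.Agent.Lib.Helper30_SectionNorm

open Cfsg Cfsg.Agent.Lib.Helper78_LocalRing

open scoped ComplexConjugate

universe u

section partition

variable {K : Type u} [Group K] [Finite K] {M : Ideal AlgInt}

/-- Summing over all irreducible characters = summing over a block `b₀`, provided the sums over
all other blocks vanish. -/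
theorem sum_eq_finsum_mem_block (hM : M.IsPrime) [Fintype (IrrCharacter K)]
    {b₀ : Set (IrrCharacter K)} (hb₀ : IsPBlock M b₀) (f : IrrCharacter K → ℂ)
    (hf : ∀ b : Set (IrrCharacter K), IsPBlock M b → b ≠ b₀ → ∑ᶠ ψ ∈ b, f ψ = 0) :
    ∑ ψ : IrrCharacter K, f ψ = ∑ᶠ ψ ∈ b₀, f ψ := by
  classical
  set g : IrrCharacter K → Set (IrrCharacter K) := fun ψ => blockOf M (ψ : K → ℂ) with hg
  have hfib : ∀ ψ₀ : IrrCharacter K,
      ∑ ψ ∈ Finset.univ.filter (fun ψ => g ψ = g ψ₀), f ψ = ∑ᶠ ψ ∈ g ψ₀, f ψ := by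
    intro ψ₀
    rw [finsum_mem_eq_finite_toFinset_sum _ (Set.toFinite _)]
    refine Finset.sum_congr ?_ (fun _ _ => rfl)
    ext ψ
    simp only [Finset.mem_filter, Finset.mem_univ, true_and, Set.Finite.mem_toFinset]
    constructor
    · intro h
      rw [← h]
      exact mem_blockOf_self hM ψ
    · intro h
      exact isPBlock_eq_of_mem_of_mem hM (isPBlock_blockOf ψ) (isPBlock_blockOf ψ₀)
        (mem_blockOf_self hM ψ) h
  obtain ⟨ψ₁, hψ₁⟩ := isPBlock_nonempty hM hb₀
  have hb₀' : b₀ = g ψ₁ := isPBlock_eq_blockOf hM hb₀ hψ₁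
  rw [← Finset.sum_fiberwise_of_maps_to (s := Finset.univ) (t := Finset.univ.image g) (g := g)
    (fun x _ => Finset.mem_image_of_mem g (Finset.mem_univ x)) f]
  rw [Finset.sum_eq_single_of_mem (g ψ₁) (Finset.mem_image_of_mem g (Finset.mem_univ ψ₁))]
  · rw [hfib ψ₁, hb₀']
  · intro b hb hne
    obtain ⟨ψ₀, -, rfl⟩ := Finset.mem_image.1 hb
    rw [hfib ψ₀]
    exact hf _ (isPBlock_blockOf ψ₀) (by rw [hb₀']; exact hne)

end partition


section key

open Cfsg.Agent.Lib.Helper78_SecondMain Cfsg.Agent.Lib.Helper78_SecondMainChar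
  Cfsg.Agent.Lib.Helper78_PRegSum

variable {G : Type u} [Group G] [Finite G] {p : ℕ} [Fact p.Prime] {M : Ideal AlgInt}

theorem isPBlock_principalBlock (K : Type u) [Group K] : IsPBlock M (principalBlock M K) :=
  ⟨Cfsg.Agent.Lib.Helper80_CharBasic.oneIrr K, rfl⟩

theorem self_mem_centralizer (y : G) : y ∈ Subgroup.centralizer ({y} : Set G) := by
  rw [Subgroup.mem_centralizer_iff]
  intro k hk
  rw [Set.mem_singleton_iff] at hk
  rw [hk]

theorem isPPart_self {y : G} (hy : ∃ k : ℕ, orderOf y = p ^ k) : IsPPart p y y := by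
  refine ⟨1, mul_one y, Commute.one_right y, hy, ?_⟩
  rw [orderOf_one]
  exact (Fact.out : p.Prime).one_lt.ne' ∘ Nat.dvd_one.1

/-- the principal block of `C_G(y)` induces the principal block of `G` -/
theorem principal_induces (hM : IsPModular p M) {y : G} (hy : ∃ k : ℕ, orderOf y = p ^ k) :
    IsInducedBlock M (Subgroup.centralizer ({y} : Set G))
      (principalBlock M (Subgroup.centralizer ({y} : Set G))) (principalBlock M G) :=
  (third_main hM _ _ (inducedBlockDefined_centralizer hM hy (isPBlock_principalBlock _))).2 rfl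

theorem centralizer_le_of_isPPart {y : G} (hy : ∃ k : ℕ, orderOf y = p ^ k) :
    ∀ z : G, IsPPart p y z →
      Subgroup.centralizer ({z} : Set G) ≤ Subgroup.centralizer ({y} : Set G) := by
  intro z hz
  have : y = z := isPPart_unique (Fact.out : p.Prime) (isPPart_self hy) hz
  rw [this]

/-- Fact 1: the principal idempotent of `C_G(y)` kills, at the section of `y`, the characters outside
the principal block. -/
theorem fact_one (hM : IsPModular p M) {y : G} (hy : ∃ k : ℕ, orderOf y = p ^ k)
    (χ : IrrCharacter G) (hχ : χ ∉ principalBlock M G) :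
    ∑ᶠ k : Subgroup.centralizer ({y} : Set G),
      blockCoeff (principalBlock M (Subgroup.centralizer ({y} : Set G))) k *
        (χ : G → ℂ) ((k : G) * y) = 0 :=
  second_main_idempotent hM _ _ _ (principal_induces hM hy) ⟨y, self_mem_centralizer y⟩
    (centralizer_le_of_isPPart hy) χ hχ

/-- the other block idempotents of `C_G(y)` kill the principal block characters -/
theorem fact_two_aux (hM : IsPModular p M) {y : G} (hy : ∃ k : ℕ, orderOf y = p ^ k)
    (b : Set (IrrCharacter (Subgroup.centralizer ({y} : Set G)))) (hb : IsPBlock M b)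
    (hne : b ≠ principalBlock M (Subgroup.centralizer ({y} : Set G)))
    (χ : IrrCharacter G) (hχ : χ ∈ principalBlock M G) :
    ∑ᶠ k : Subgroup.centralizer ({y} : Set G), blockCoeff b k * (χ : G → ℂ) ((k : G) * y) = 0 := by
  have hMp := isPrime_of_isPModular hM
  obtain ⟨B₁, hind⟩ := inducedBlockDefined_centralizer hM hy hb
  have hχ' : χ ∉ B₁ := by
    intro h
    have hB : B₁ = principalBlock M G :=
      isPBlock_eq_of_mem_of_mem hMp hind.2.1 (isPBlock_principalBlock G) h hχ
    rw [hB] at hind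
    exact hne ((third_main hM _ b ⟨_, hind⟩).1 hind)
  exact second_main_idempotent hM _ _ _ hind ⟨y, self_mem_centralizer y⟩
    (centralizer_le_of_isPPart hy) χ hχ'


/-- `∑_k e_b(k) ϑ(k) = ∑_{ψ ∈ b} |K|⁻¹ ψ(1) ∑_k conj ψ(k) ϑ(k)` -/
theorem sum_blockCoeff_mul {K : Type u} [Group K] [Fintype K] (b : Set (IrrCharacter K))
    (ϑ : K → ℂ) :
    ∑ᶠ k : K, blockCoeff b k * ϑ k =
      ∑ᶠ ψ ∈ b, (Nat.card K : ℂ)⁻¹ * ((ψ : K → ℂ) 1 * ∑ k : K, conj ((ψ : K → ℂ) k) * ϑ k) := by
  classical
  have hfin : (b : Set (IrrCharacter K)).Finite := Set.toFinite b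
  rw [finsum_eq_sum_of_fintype, finsum_mem_eq_finite_toFinset_sum _ hfin]
  unfold blockCoeff
  simp only [finsum_mem_eq_finite_toFinset_sum _ hfin]
  simp only [Finset.mul_sum, Finset.sum_mul]
  rw [Finset.sum_comm]
  refine Finset.sum_congr rfl fun ψ _ => Finset.sum_congr rfl fun k _ => ?_
  ring

theorem sum_all_irr_one_mul_conj {K : Type u} [Group K] [Fintype K] [DecidableEq K]
    [Fintype (IrrCharacter K)] (k : K) :
    ∑ ψ : IrrCharacter K, (ψ : K → ℂ) 1 * conj ((ψ : K → ℂ) k) =
      if k = 1 then (Nat.card K : ℂ) else 0 := by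
  have h := Cfsg.Agent.Lib.Helper80_CharComplete.second_orthogonality (1 : K) k
  rw [finsum_eq_sum_of_fintype] at h
  split_ifs with hk
  · rw [h.1 (by rw [hk])]
    have : Subgroup.centralizer ({1} : Set K) = ⊤ := by
      rw [Subgroup.centralizer_eq_top_iff_subset]
      intro x hx
      rw [Set.mem_singleton_iff] at hx
      rw [hx]
      exact Subgroup.one_mem _
    rw [this, Subgroup.card_top]
  · apply h.2
    rw [isConj_one_right]
    exact hk

/-- Fact 2: the principal idempotent of `C_G(y)` fixes, at the section of `y`, the characters of the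
principal block. -/
theorem fact_two (hM : IsPModular p M) {y : G} (hy : ∃ k : ℕ, orderOf y = p ^ k)
    (χ : IrrCharacter G) (hχ : χ ∈ principalBlock M G) :
    ∑ᶠ k : Subgroup.centralizer ({y} : Set G),
      blockCoeff (principalBlock M (Subgroup.centralizer ({y} : Set G))) k *
        (χ : G → ℂ) ((k : G) * y) = (χ : G → ℂ) y := by
  classical
  have hMp := isPrime_of_isPModular hM
  have : Fintype (Subgroup.centralizer ({y} : Set G)) := Fintype.ofFinite _
  have : Fintype (IrrCharacter (Subgroup.centralizer ({y} : Set G))) := Fintype.ofFinite _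
  set ϑ : Subgroup.centralizer ({y} : Set G) → ℂ := fun k => (χ : G → ℂ) ((k : G) * y) with hϑ
  set f : IrrCharacter (Subgroup.centralizer ({y} : Set G)) → ℂ := fun ψ =>
    (Nat.card (Subgroup.centralizer ({y} : Set G)) : ℂ)⁻¹ *
      ((ψ : Subgroup.centralizer ({y} : Set G) → ℂ) 1 *
        ∑ k : Subgroup.centralizer ({y} : Set G),
          conj ((ψ : Subgroup.centralizer ({y} : Set G) → ℂ) k) * ϑ k) with hf
  have hS : ∀ b : Set (IrrCharacter (Subgroup.centralizer ({y} : Set G))),
      ∑ᶠ k : Subgroup.centralizer ({y} : Set G), blockCoeff b k * ϑ k = ∑ᶠ ψ ∈ b, f ψ :=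
    fun b => sum_blockCoeff_mul b ϑ
  have hpart := sum_eq_finsum_mem_block hMp (isPBlock_principalBlock (M := M)
    (Subgroup.centralizer ({y} : Set G))) f (by
      intro b hb hne
      rw [← hS b]
      exact fact_two_aux hM hy b hb hne χ hχ)
  rw [hS, ← hpart]
  -- the sum over all characters
  have hcard : (Nat.card (Subgroup.centralizer ({y} : Set G)) : ℂ) ≠ 0 := by
    exact_mod_cast (Nat.card_pos (α := Subgroup.centralizer ({y} : Set G))).ne'
  simp only [hf, Finset.mul_sum]
  rw [Finset.sum_comm]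
  have hterm : ∀ k : Subgroup.centralizer ({y} : Set G),
      ∑ ψ : IrrCharacter (Subgroup.centralizer ({y} : Set G)),
        (Nat.card (Subgroup.centralizer ({y} : Set G)) : ℂ)⁻¹ *
          ((ψ : Subgroup.centralizer ({y} : Set G) → ℂ) 1 *
            (conj ((ψ : Subgroup.centralizer ({y} : Set G) → ℂ) k) * ϑ k)) =
      if k = 1 then ϑ k else 0 := by
    intro k
    have h1 : ∀ ψ : IrrCharacter (Subgroup.centralizer ({y} : Set G)),
        (Nat.card (Subgroup.centralizer ({y} : Set G)) : ℂ)⁻¹ *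
          ((ψ : Subgroup.centralizer ({y} : Set G) → ℂ) 1 *
            (conj ((ψ : Subgroup.centralizer ({y} : Set G) → ℂ) k) * ϑ k)) =
        (Nat.card (Subgroup.centralizer ({y} : Set G)) : ℂ)⁻¹ * ϑ k *
          ((ψ : Subgroup.centralizer ({y} : Set G) → ℂ) 1 *
            conj ((ψ : Subgroup.centralizer ({y} : Set G) → ℂ) k)) := fun ψ => by ring
    simp only [h1]
    rw [← Finset.mul_sum, sum_all_irr_one_mul_conj]
    split_ifs with hk
    · field_simp
    · rw [mul_zero]
  simp only [hterm]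
  rw [Finset.sum_ite_eq' Finset.univ (1 : Subgroup.centralizer ({y} : Set G)),
    if_pos (Finset.mem_univ _)]
  simp [hϑ]


theorem eq_one_of_isConj_mul {y : G} (hy : ∃ k : ℕ, orderOf y = p ^ k) {k : G}
    (hk : ¬ p ∣ orderOf k) (hc : Commute k y) (hconj : IsConj (k * y) y) : k = 1 := by
  obtain ⟨a, ha⟩ := hy
  have hord : orderOf (k * y) = orderOf y := by
    obtain ⟨c, hc'⟩ := isConj_iff.1 hconj
    have h := (MulAut.conj c).orderOf_eq (k * y)
    rw [MulAut.conj_apply, hc'] at h
    exact h.symm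
  have h1 : (k * y) ^ (p ^ a) = 1 := by
    rw [← ha, ← hord]
    exact pow_orderOf_eq_one _
  rw [hc.mul_pow, ← ha, pow_orderOf_eq_one, mul_one] at h1
  have h2 : orderOf k ∣ orderOf y ^ 1 := by
    rw [pow_one]
    exact orderOf_dvd_of_pow_eq_one h1
  rw [ha, pow_one] at h2
  obtain ⟨j, -, hj⟩ := (Nat.dvd_prime_pow (Fact.out : p.Prime)).1 h2
  have hj0 : j = 0 := by
    by_contra hne
    apply hk
    rw [hj]
    exact dvd_pow_self p hne
  rw [hj0, pow_zero] at hj
  exact orderOf_eq_one_iff.1 hj

/-- **The norm of the column of a `p`-element in the principal block.** -/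
theorem section_norm (hM : IsPModular p M) {y : G} (hy : ∃ k : ℕ, orderOf y = p ^ k) :
    ∑ᶠ χ ∈ principalBlock M G, (χ : G → ℂ) y * conj ((χ : G → ℂ) y) =
      ∑ᶠ ψ ∈ principalBlock M (Subgroup.centralizer ({y} : Set G)),
        (ψ : Subgroup.centralizer ({y} : Set G) → ℂ) 1 *
          conj ((ψ : Subgroup.centralizer ({y} : Set G) → ℂ) 1) := by
  classical
  have : Fintype G := Fintype.ofFinite G
  have : Fintype (Subgroup.centralizer ({y} : Set G)) := Fintype.ofFinite _
  have : Fintype (IrrCharacter G) := Fintype.ofFinite _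
  set e := blockCoeff (principalBlock M (Subgroup.centralizer ({y} : Set G))) with he
  set β : IrrCharacter G → ℂ := fun χ =>
    ∑ᶠ k : Subgroup.centralizer ({y} : Set G), e k * (χ : G → ℂ) ((k : G) * y) with hβ
  have h1 : ∑ᶠ χ ∈ principalBlock M G, (χ : G → ℂ) y * conj ((χ : G → ℂ) y) =
      ∑ χ : IrrCharacter G, β χ * conj ((χ : G → ℂ) y) := by
    rw [finsum_mem_def, finsum_eq_sum_of_fintype]
    refine Finset.sum_congr rfl fun χ _ => ?_
    by_cases hχ : χ ∈ principalBlock M G
    · rw [Set.indicator_of_mem hχ]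
      simp only [hβ, he]
      rw [fact_two hM hy χ hχ]
    · rw [Set.indicator_of_notMem hχ]
      simp only [hβ, he]
      rw [fact_one hM hy χ hχ, zero_mul]
  rw [h1]
  simp only [hβ]
  have h2 : ∀ χ : IrrCharacter G,
      (∑ᶠ k : Subgroup.centralizer ({y} : Set G), e k * (χ : G → ℂ) ((k : G) * y)) *
        conj ((χ : G → ℂ) y) =
      ∑ k : Subgroup.centralizer ({y} : Set G),
        e k * ((χ : G → ℂ) ((k : G) * y) * conj ((χ : G → ℂ) y)) := by
    intro χ
    rw [finsum_eq_sum_of_fintype, Finset.sum_mul]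
    refine Finset.sum_congr rfl fun k _ => ?_
    ring
  simp only [h2]
  rw [Finset.sum_comm]
  simp only [← Finset.mul_sum]
  have h3 : ∀ k : Subgroup.centralizer ({y} : Set G),
      e k * ∑ χ : IrrCharacter G, (χ : G → ℂ) ((k : G) * y) * conj ((χ : G → ℂ) y) =
        if k = 1 then e 1 * (Nat.card (Subgroup.centralizer ({y} : Set G)) : ℂ) else 0 := by
    intro k
    have hso := Cfsg.Agent.Lib.Helper80_CharComplete.second_orthogonality ((k : G) * y) y
    rw [finsum_eq_sum_of_fintype] at hso
    split_ifs with hk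
    · rw [hk] at hso ⊢
      have hc : IsConj (((1 : Subgroup.centralizer ({y} : Set G)) : G) * y) y := by
        rw [Subgroup.coe_one, one_mul]
      rw [hso.1 hc]
      simp only [Subgroup.coe_one, one_mul]
    · by_cases hdiv : p ∣ orderOf k
      · rw [he, Cfsg.Agent.Lib.Helper77_WeakOrth.blockCoeff_block_eq_zero_of_sing hM
          (isPBlock_principalBlock _) k hdiv, zero_mul]
      · have hnc : ¬ IsConj ((k : G) * y) y := by
          intro hc
          apply hk
          have hcomm : Commute (k : G) y :=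
            (Subgroup.mem_centralizer_iff.1 k.2 y (Set.mem_singleton y)).symm
          have hk' : ¬ p ∣ orderOf (k : G) := by rwa [Subgroup.orderOf_coe]
          have := eq_one_of_isConj_mul hy hk' hcomm hc
          exact Subtype.ext this
        rw [hso.2 hnc, mul_zero]
  simp only [h3]
  rw [Finset.sum_ite_eq' Finset.univ (1 : Subgroup.centralizer ({y} : Set G)),
    if_pos (Finset.mem_univ _)]
  rw [he]
  unfold blockCoeff
  have hcard : (Nat.card (Subgroup.centralizer ({y} : Set G)) : ℂ) ≠ 0 := by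
    exact_mod_cast (Nat.card_pos (α := Subgroup.centralizer ({y} : Set G))).ne'
  field_simp

end key

end Cfsg.Agent.Lib.Helper30_SectionNorm
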