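import Mathlib
import Cfsg.Prelude.Def_Blocks
import Cfsg.Agent.S0938
import Cfsg.Agent.Lib.Helper30_SectionNorm
import Cfsg.Agent.Lib.Helper78_LocalRing
import Cfsg.Agent.Lib.Helper77_WeakOrth
import Cfsg.Agent.Lib.Helper80_CharBasic
import Cfsg.Agent.Lib.Helper81_CharOrth

/-!
# The principal block idempotent of a `p`-nilpotent group (helper30)

If `O` is a normal `p'`-subgroup of `K` containing all `p`-regular elements, then the principal
block idempotent of `K` is `|O|⁻¹ ∑_{k ∈ O} k`.
-/

set_option autoImplicit false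

namespace Cfsg.Agent.Lib.Helper30_KleinBlock

open Cfsg Cfsg.Agent.Lib.Helper78_LocalRing Cfsg.Agent.Lib.Helper30_SectionNorm

open scoped ComplexConjugate

universe u

variable {K : Type u} [Group K] [Finite K] {p : ℕ} [Fact p.Prime] {M : Ideal AlgInt}

omit [Finite K] [Fact p.Prime] in
theorem oneIrr_mem (hM : IsPModular p M) :
    Cfsg.Agent.Lib.Helper80_CharBasic.oneIrr K ∈ principalBlock M K :=
  sameBlock_refl (isPrime_of_isPModular hM) _

/-- members of the principal block are trivial on normal `p'`-subgroups -/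
theorem apply_eq_of_mem_normal (hM : IsPModular p M) (O : Subgroup K) [O.Normal]
    (hO : ¬ p ∣ Nat.card O) {k : K} (hk : k ∈ O) (ψ : IrrCharacter K)
    (hψ : ψ ∈ principalBlock M K) : (ψ : K → ℂ) k = (ψ : K → ℂ) 1 := by
  obtain ⟨K0, -, hK0, -, -, hmax⟩ := Cfsg.Agent.S0938.result p M hM (principalBlock M K)
    (isPBlock_principalBlock K) (Cfsg.Agent.Lib.Helper80_CharBasic.oneIrr K) (oneIrr_mem hM)
  have hle : O ≤ K0 := hmax O inferInstance hO (fun g _ => rfl)
  have hk0 : k ∈ (K0 : Set K) := hle hk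
  rw [hK0] at hk0
  exact hk0 ψ hψ

/-- the sum of the coefficients of the principal block idempotent is `1` -/
theorem sum_blockCoeff_principal (hM : IsPModular p M) [Fintype K] :
    ∑ k : K, blockCoeff (principalBlock M K) k = 1 := by
  classical
  have h := sum_blockCoeff_mul (principalBlock M K) (fun _ : K => (1 : ℂ))
  rw [finsum_eq_sum_of_fintype] at h
  simp only [mul_one] at h
  rw [h]
  have hcard : (Nat.card K : ℂ) ≠ 0 := by
    exact_mod_cast (Nat.card_pos (α := K)).ne'
  have hterm : ∀ ψ : IrrCharacter K,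
      (Nat.card K : ℂ)⁻¹ * ((ψ : K → ℂ) 1 * ∑ k : K, conj ((ψ : K → ℂ) k)) =
        if ψ = Cfsg.Agent.Lib.Helper80_CharBasic.oneIrr K then 1 else 0 := by
    intro ψ
    have h1 := Cfsg.Agent.Lib.Helper81_CharOrth.sum_irr_mul_irr_inv
      (Cfsg.Agent.Lib.Helper80_CharBasic.isIrrCharacter_one K) ψ.2
    have h2 : ∑ k : K, conj ((ψ : K → ℂ) k) =
        ∑ g : K, (fun _ : K => (1 : ℂ)) g * (ψ : K → ℂ) g⁻¹ := by
      refine Finset.sum_congr rfl fun g _ => ?_
      rw [Cfsg.Agent.Lib.Helper80_CharBasic.irr_inv, one_mul]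
    rw [h2, h1]
    by_cases hψ : ψ = Cfsg.Agent.Lib.Helper80_CharBasic.oneIrr K
    · rw [if_pos hψ, if_pos]
      · rw [hψ]
        show (Nat.card K : ℂ)⁻¹ * ((1 : ℂ) * (Nat.card K : ℂ)) = 1
        field_simp
      · rw [hψ]
        rfl
    · rw [if_neg hψ, if_neg, mul_zero, mul_zero]
      intro h3
      apply hψ
      exact Subtype.ext h3.symm
  simp only [hterm]
  rw [finsum_mem_def, finsum_eq_single _ (Cfsg.Agent.Lib.Helper80_CharBasic.oneIrr K)]
  · rw [Set.indicator_of_mem (oneIrr_mem hM), if_pos rfl]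
  · intro ψ hψ
    by_cases hm : ψ ∈ principalBlock M K
    · rw [Set.indicator_of_mem hm, if_neg hψ]
    · rw [Set.indicator_of_notMem hm]

/-- **The principal block idempotent of a `p`-nilpotent group.** -/
theorem blockCoeff_principal_of_npc (hM : IsPModular p M) (O : Subgroup K) [O.Normal]
    (hO : ¬ p ∣ Nat.card O) (hreg : ∀ k : K, ¬ p ∣ orderOf k → k ∈ O) (k : K)
    [Decidable (k ∈ O)] :
    blockCoeff (principalBlock M K) k = if k ∈ O then (Nat.card O : ℂ)⁻¹ else 0 := by
  classical
  have := Fintype.ofFinite K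
  have hout : ∀ x : K, x ∉ O → blockCoeff (principalBlock M K) x = 0 := by
    intro x hx
    apply Cfsg.Agent.Lib.Helper77_WeakOrth.blockCoeff_block_eq_zero_of_sing hM
      (isPBlock_principalBlock K) x
    by_contra hdiv
    exact hx (hreg x hdiv)
  have hin : ∀ x : K, x ∈ O →
      blockCoeff (principalBlock M K) x = blockCoeff (principalBlock M K) 1 := by
    intro x hx
    unfold blockCoeff
    congr 1
    refine finsum_mem_congr rfl fun ψ hψ => ?_
    rw [apply_eq_of_mem_normal hM O hO hx ψ hψ]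
  have hsum := sum_blockCoeff_principal (K := K) hM
  have h1 : ∑ x : K, blockCoeff (principalBlock M K) x =
      ∑ x : K, if x ∈ O then blockCoeff (principalBlock M K) 1 else 0 := by
    refine Finset.sum_congr rfl fun x _ => ?_
    by_cases hx : x ∈ O
    · rw [if_pos hx, hin x hx]
    · rw [if_neg hx, hout x hx]
  rw [h1, Finset.sum_ite, Finset.sum_const, Finset.sum_const_zero, add_zero, nsmul_eq_mul] at hsum
  have hcardO : ((Finset.univ.filter (fun x : K => x ∈ O)).card : ℂ) = (Nat.card O : ℂ) := by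
    rw [Nat.card_eq_fintype_card, Fintype.card_subtype]
  rw [hcardO] at hsum
  have hne : (Nat.card O : ℂ) ≠ 0 := by
    exact_mod_cast (Nat.card_pos (α := O)).ne'
  split_ifs with hk
  · rw [hin k hk]
    field_simp
    rw [mul_comm]
    exact hsum
  · exact hout k hk

end Cfsg.Agent.Lib.Helper30_KleinBlock
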