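import Mathlib
import Cfsg.Prelude.Def_Blocks
import Cfsg.Agent.Lib.Helper30_SectionNorm
import Cfsg.Agent.Lib.Helper30_KleinBlock

/-!
# A pointwise form of Brauer's second main theorem (helper30)

Let `y` be a `p`-element of `G` whose centralizer `C` has a normal `p`-complement `O`.  Then every
character `χ` of the principal block of `G` satisfies `χ(k y) = χ(y)` for `k ∈ O`.
-/

set_option autoImplicit false

namespace Cfsg.Agent.Lib.Helper30_Pointwise

open Cfsg Cfsg.Agent.Lib.Helper78_LocalRing Cfsg.Agent.Lib.Helper30_SectionNorm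
  Cfsg.Agent.Lib.Helper30_KleinBlock
open Cfsg.Agent.Lib.Helper78_SecondMain Cfsg.Agent.Lib.Helper78_SecondMainChar
  Cfsg.Agent.Lib.Helper78_PRegSum

open scoped ComplexConjugate

universe u

variable {G : Type u} [Group G] [Finite G] {p : ℕ} [Fact p.Prime] {M : Ideal AlgInt}

omit [Finite G] [Fact p.Prime] in
/-- the `p`-part of `k y` is `y` when `k ∈ C(y)` is `p`-regular -/
theorem isPPart_mul {y : G} (hy : ∃ k : ℕ, orderOf y = p ^ k)
    (h : Subgroup.centralizer ({y} : Set G)) (hreg : ¬ p ∣ orderOf (h : G)) :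
    IsPPart p ((h : G) * y) y := by
  have hh : (h : G) ∈ Subgroup.centralizer ({y} : Set G) := h.2
  rw [Subgroup.mem_centralizer_singleton_iff] at hh
  exact ⟨(h : G), hh.symm, hh.symm, hy, hreg⟩

theorem centralizer_le_of_isPPart_mul {y : G} (hy : ∃ k : ℕ, orderOf y = p ^ k)
    (h : Subgroup.centralizer ({y} : Set G)) (hreg : ¬ p ∣ orderOf (h : G)) :
    ∀ z : G, IsPPart p ((h : G) * y) z →
      Subgroup.centralizer ({z} : Set G) ≤ Subgroup.centralizer ({y} : Set G) := by
  intro z hz
  have : y = z := isPPart_unique (Fact.out : p.Prime) (isPPart_mul hy h hreg) hz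
  rw [this]

/-- the other block idempotents of `C_G(y)` kill the principal block characters, at `k₀ y` -/
theorem fact_two_aux' (hM : IsPModular p M) {y : G} (hy : ∃ k : ℕ, orderOf y = p ^ k)
    (h : Subgroup.centralizer ({y} : Set G)) (hreg : ¬ p ∣ orderOf (h : G))
    (b : Set (IrrCharacter (Subgroup.centralizer ({y} : Set G)))) (hb : IsPBlock M b)
    (hne : b ≠ principalBlock M (Subgroup.centralizer ({y} : Set G)))
    (χ : IrrCharacter G) (hχ : χ ∈ principalBlock M G) :
    ∑ᶠ k : Subgroup.centralizer ({y} : Set G),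
      blockCoeff b k * (χ : G → ℂ) ((k : G) * ((h : G) * y)) = 0 := by
  have hMp := isPrime_of_isPModular hM
  obtain ⟨B₁, hind⟩ := inducedBlockDefined_centralizer hM hy hb
  have hχ' : χ ∉ B₁ := by
    intro h'
    have hB : B₁ = principalBlock M G :=
      isPBlock_eq_of_mem_of_mem hMp hind.2.1 (isPBlock_principalBlock G) h' hχ
    rw [hB] at hind
    exact hne ((third_main hM _ b ⟨_, hind⟩).1 hind)
  have hmem : (h : G) * y ∈ Subgroup.centralizer ({y} : Set G) :=
    mul_mem h.2 (self_mem_centralizer y)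
  exact second_main_idempotent hM _ _ _ hind ⟨(h : G) * y, hmem⟩
    (centralizer_le_of_isPPart_mul hy h hreg) χ hχ'

/-- the principal idempotent of `C_G(y)` fixes, at `k₀ y`, the characters of the principal
block -/
theorem fact_two' (hM : IsPModular p M) {y : G} (hy : ∃ k : ℕ, orderOf y = p ^ k)
    (h : Subgroup.centralizer ({y} : Set G)) (hreg : ¬ p ∣ orderOf (h : G))
    (χ : IrrCharacter G) (hχ : χ ∈ principalBlock M G) :
    ∑ᶠ k : Subgroup.centralizer ({y} : Set G),
      blockCoeff (principalBlock M (Subgroup.centralizer ({y} : Set G))) k *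
        (χ : G → ℂ) ((k : G) * ((h : G) * y)) = (χ : G → ℂ) ((h : G) * y) := by
  classical
  have hMp := isPrime_of_isPModular hM
  have : Fintype (Subgroup.centralizer ({y} : Set G)) := Fintype.ofFinite _
  have : Fintype (IrrCharacter (Subgroup.centralizer ({y} : Set G))) := Fintype.ofFinite _
  set ϑ : Subgroup.centralizer ({y} : Set G) → ℂ :=
    fun k => (χ : G → ℂ) ((k : G) * ((h : G) * y)) with hϑ
  set f : IrrCharacter (Subgroup.centralizer ({y} : Set G)) → ℂ := fun ψ =>
    (Nat.card (Subgroup.centralizer ({y} : Set G)) : ℂ)⁻¹ *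
      ((ψ : Subgroup.centralizer ({y} : Set G) → ℂ) 1 *
        ∑ k : Subgroup.centralizer ({y} : Set G),
          conj ((ψ : Subgroup.centralizer ({y} : Set G) → ℂ) k) * ϑ k) with hf
  have hS : ∀ b : Set (IrrCharacter (Subgroup.centralizer ({y} : Set G))),
      ∑ᶠ k : Subgroup.centralizer ({y} : Set G), blockCoeff b k * ϑ k = ∑ᶠ ψ ∈ b, f ψ :=
    fun b => sum_blockCoeff_mul b ϑ
  have hpart := sum_eq_finsum_mem_block hMp (isPBlock_principalBlock (M := M)
    (Subgroup.centralizer ({y} : Set G))) f (by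
      intro b hb hne
      rw [← hS b]
      exact fact_two_aux' hM hy h hreg b hb hne χ hχ)
  rw [hS, ← hpart]
  have hcard : (Nat.card (Subgroup.centralizer ({y} : Set G)) : ℂ) ≠ 0 := by
    exact_mod_cast (Nat.card_pos (α := Subgroup.centralizer ({y} : Set G))).ne'
  simp only [hf, Finset.mul_sum]
  rw [Finset.sum_comm]
  have hterm : ∀ k : Subgroup.centralizer ({y} : Set G),
      ∑ ψ : IrrCharacter (Subgroup.centralizer ({y} : Set G)),
        (Nat.card (Subgroup.centralizer ({y} : Set G)) : ℂ)⁻¹ *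
          ((ψ : Subgroup.centralizer ({y} : Set G) → ℂ) 1 *
            (conj ((ψ : Subgroup.centralizer ({y} : Set G) → ℂ) k) * ϑ k)) =
      if k = 1 then ϑ k else 0 := by
    intro k
    have h1 : ∀ ψ : IrrCharacter (Subgroup.centralizer ({y} : Set G)),
        (Nat.card (Subgroup.centralizer ({y} : Set G)) : ℂ)⁻¹ *
          ((ψ : Subgroup.centralizer ({y} : Set G) → ℂ) 1 *
            (conj ((ψ : Subgroup.centralizer ({y} : Set G) → ℂ) k) * ϑ k)) =
        (Nat.card (Subgroup.centralizer ({y} : Set G)) : ℂ)⁻¹ * ϑ k *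
          ((ψ : Subgroup.centralizer ({y} : Set G) → ℂ) 1 *
            conj ((ψ : Subgroup.centralizer ({y} : Set G) → ℂ) k)) := fun ψ => by ring
    simp only [h1]
    rw [← Finset.mul_sum, sum_all_irr_one_mul_conj]
    split_ifs with hk
    · field_simp
    · rw [mul_zero]
  simp only [hterm]
  rw [Finset.sum_ite_eq' Finset.univ (1 : Subgroup.centralizer ({y} : Set G)),
    if_pos (Finset.mem_univ _)]
  simp [hϑ]

/-- **Pointwise second main theorem for `p`-nilpotent centralizers.** -/
theorem apply_mul_eq (hM : IsPModular p M) {y : G} (hy : ∃ k : ℕ, orderOf y = p ^ k)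
    (O : Subgroup (Subgroup.centralizer ({y} : Set G))) [O.Normal]
    (hO : ¬ p ∣ Nat.card O)
    (hreg : ∀ k : Subgroup.centralizer ({y} : Set G), ¬ p ∣ orderOf k → k ∈ O)
    (χ : IrrCharacter G) (hχ : χ ∈ principalBlock M G)
    (k₀ : Subgroup.centralizer ({y} : Set G)) (hk₀ : k₀ ∈ O) :
    (χ : G → ℂ) ((k₀ : G) * y) = (χ : G → ℂ) y := by
  classical
  have : Fintype (Subgroup.centralizer ({y} : Set G)) := Fintype.ofFinite _
  have hp : p.Prime := Fact.out
  -- elements of `O` are `p`-regular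
  have hregO : ∀ k : Subgroup.centralizer ({y} : Set G), k ∈ O → ¬ p ∣ orderOf (k : G) := by
    intro k hk hdiv
    apply hO
    rw [Subgroup.orderOf_coe] at hdiv
    have h1 : orderOf (⟨k, hk⟩ : O) = orderOf k := Subgroup.orderOf_mk k hk
    have h2 : orderOf (⟨k, hk⟩ : O) ∣ Nat.card O := orderOf_dvd_natCard _
    rw [h1] at h2
    exact hdiv.trans h2
  have key : ∀ h : Subgroup.centralizer ({y} : Set G), h ∈ O →
      (χ : G → ℂ) ((h : G) * y) =
        ∑ k : Subgroup.centralizer ({y} : Set G),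
          (if k ∈ O then (Nat.card O : ℂ)⁻¹ else 0) * (χ : G → ℂ) ((k : G) * ((h : G) * y)) := by
    intro h hh
    rw [← fact_two' hM hy h (hregO h hh) χ hχ, finsum_eq_sum_of_fintype]
    refine Finset.sum_congr rfl fun k _ => ?_
    rw [blockCoeff_principal_of_npc hM O hO hreg k]
  rw [key k₀ hk₀]
  have h1 := key 1 (one_mem O)
  simp only [Subgroup.coe_one, one_mul] at h1
  rw [h1]
  -- reindex by right multiplication with `k₀`
  rw [← Equiv.sum_comp (Equiv.mulRight k₀)
    (fun k : Subgroup.centralizer ({y} : Set G) =>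
      (if k ∈ O then (Nat.card O : ℂ)⁻¹ else 0) * (χ : G → ℂ) ((k : G) * y))]
  refine Finset.sum_congr rfl fun k _ => ?_
  show (if k ∈ O then (Nat.card O : ℂ)⁻¹ else 0) * (χ : G → ℂ) ((k : G) * ((k₀ : G) * y)) =
    (if k * k₀ ∈ O then (Nat.card O : ℂ)⁻¹ else 0) * (χ : G → ℂ) (((k * k₀ :
      Subgroup.centralizer ({y} : Set G)) : G) * y)
  rw [Subgroup.coe_mul]
  have hiff : k * k₀ ∈ O ↔ k ∈ O := by
    constructor
    · intro h
      have := O.mul_mem h (O.inv_mem hk₀)
      rwa [mul_inv_cancel_right] at this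
    · intro h
      exact O.mul_mem h hk₀
  by_cases hk : k ∈ O
  · rw [if_pos hk, if_pos (hiff.mpr hk), mul_assoc]
  · rw [if_neg hk, if_neg (fun h => hk (hiff.mp h)), zero_mul, zero_mul]

end Cfsg.Agent.Lib.Helper30_Pointwise
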