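import Mathlib
import Cfsg.Agent.Lib.Helper23_ZStarA
import Cfsg.Agent.Lib.Helper23_ZStarB
import Cfsg.Agent.Lib.Helper23_PComp
import Cfsg.Agent.Lib.Helper22_Cores
import Cfsg.Agent.Lib.Helper50_UniqueInv2

/-!
# Glauberman's Z*-theorem from the Brauer–Suzuki theorem (helper23)

`zstar_of_brauerSuzuki`: if the Brauer–Suzuki theorem (in the exact shape of statement S0201) holds
for all finite groups of a universe, then every isolated involution `t` of a finite group `G` of
that universe is central modulo `O(G)`.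
-/

set_option autoImplicit false
set_option linter.unusedSectionVars false

namespace Cfsg.Agent.Lib.Helper23_ZStar

open Cfsg Cfsg.Agent.Lib.Helper4_InvPairs Cfsg.Agent.Lib.Helper23_ZStarA
  Cfsg.Agent.Lib.Helper23_ZStarB

universe u

/-- The Brauer–Suzuki theorem for all finite groups of the universe `u` (shape of S0201). -/
def BrauerSuzukiHyp : Prop :=
  ∀ (H : Type u) [Group H] [Finite H] (S : Sylow 2 H) (n : ℕ)
    (_e : (S : Subgroup H) ≃* QuaternionGroup (2 ^ (n + 1)))
    (_hO : ∀ N : Subgroup H, N.Normal → Odd (Nat.card N) → N = ⊥),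
    Nat.card (Subgroup.center H) = 2

section Aux

variable {G : Type*} [Group G] [Finite G]

/-- If `O(G) = 1` and `N ⊴ G` then `O(N) = 1`. -/
theorem pPrimeCore_normal_subgroup_eq_bot (hO : pPrimeCore 2 G = ⊥) (N : Subgroup G) [N.Normal] :
    pPrimeCore 2 ↥N = ⊥ := by
  have h := Cfsg.Agent.Lib.Helper22_Cores.map_pPrimeCore_of_isSubnormal 2
    (Subgroup.Normal.isSubnormal (inferInstance : N.Normal))
  rw [hO, inf_bot_eq] at h
  exact (Subgroup.map_eq_bot_iff_of_injective _ N.subtype_injective).mp h

/-- If `O(G) = 1` and `Z₀ ⊴ G` has order `2` then `O(G / Z₀) = 1`. -/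
theorem pPrimeCore_quotient_order_two_eq_bot (hO : pPrimeCore 2 G = ⊥) (Z₀ : Subgroup G)
    [Z₀.Normal] (hZ : Nat.card Z₀ = 2) : pPrimeCore 2 (G ⧸ Z₀) = ⊥ := by
  have : Fact (Nat.Prime 2) := ⟨Nat.prime_two⟩
  set π := QuotientGroup.mk' Z₀ with hπ
  set Kb := pPrimeCore 2 (G ⧸ Z₀) with hKb
  have hKbcop : (Nat.card Kb).Coprime 2 := Cfsg.Agent.Lib.Helper1_Cores.pPrimeCore_card_coprime 2
  set M := Kb.comap π with hM
  have hMn : M.Normal := Subgroup.Normal.comap (Cfsg.Agent.Lib.Helper1_Cores.pPrimeCore_normal 2) π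
  have hZM : Z₀ ≤ M := by
    intro x hx
    rw [hM, Subgroup.mem_comap]
    have : π x = 1 := (QuotientGroup.eq_one_iff x).mpr hx
    rw [this]
    exact Subgroup.one_mem _
  set N := Z₀.subgroupOf M with hN
  have hNn : N.Normal := Subgroup.Normal.subgroupOf inferInstance M
  have hNcard : Nat.card N = 2 := by
    rw [hN, Nat.card_congr (Subgroup.subgroupOfEquivOfLe hZM).toEquiv, hZ]
  have hNidx : N.index = Nat.card Kb := by
    have h1 : N.index = Z₀.relIndex M := rfl
    have h2 : Z₀ = (⊥ : Subgroup (G ⧸ Z₀)).comap π := by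
      rw [MonoidHom.comap_bot, hπ, QuotientGroup.ker_mk']
    have h3 : Z₀.relIndex M = ((⊥ : Subgroup (G ⧸ Z₀)).comap π).relIndex M :=
      congrArg (fun X : Subgroup G => X.relIndex M) h2
    rw [h1, h3, Subgroup.relIndex_comap, Subgroup.relIndex_bot_left, hM,
      Subgroup.map_comap_eq_self_of_surjective (QuotientGroup.mk'_surjective Z₀)]
  have hcop : Nat.Coprime (Nat.card N) N.index := by
    rw [hNcard, hNidx]; exact hKbcop.symm
  obtain ⟨H, hH⟩ := Subgroup.exists_right_complement'_of_coprime hcop
  have hHidx : H.index = 2 := by rw [hH.index_eq_card, hNcard]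
  have hHn : H.Normal := Subgroup.normal_of_index_eq_two hHidx
  have hHcard : Nat.card H = Nat.card Kb := by rw [← hH.symm.index_eq_card, hNidx]
  have hHle : H ≤ pPrimeCore 2 ↥M :=
    Cfsg.Agent.Lib.Helper1_Cores.le_pPrimeCore hHn (by rw [hHcard]; exact hKbcop)
  rw [pPrimeCore_normal_subgroup_eq_bot hO M, le_bot_iff] at hHle
  rw [hHle, Subgroup.card_bot] at hHcard
  exact Subgroup.eq_bot_of_card_eq _ hHcard.symm

/-- The commutator of an `OddProd` involution has odd order. -/
theorem OddProd.odd_commutator {t : G} (ht : OddProd t) (g : G) :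
    Odd (orderOf (t * g * t⁻¹ * g⁻¹)) := by
  have h : t * g * t⁻¹ * g⁻¹ = t * (g * t * g⁻¹) := by
    rw [inv_eq_self_of_orderOf_two ht.1]; group
  rw [h]; exact ht.2 g

/-- A central `OddProd`... any involution commuting with all its conjugates has trivial
commutators. -/
theorem OddProd.commutator_eq_one_of_commute {t : G} (ht : OddProd t) (g : G)
    (hc : Commute t (g * t * g⁻¹)) : t * g * t⁻¹ * g⁻¹ = 1 := by
  have h1 := ht.eq_of_commute g hc
  have h : t * g * t⁻¹ * g⁻¹ = t * (g * t * g⁻¹) := by
    rw [inv_eq_self_of_orderOf_two ht.1]; group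
  rw [h, h1, mul_self_of_orderOf_two ht.1]

end Aux

/-- **Glauberman's `Z*`-theorem**, assuming the Brauer–Suzuki theorem: an involution `t` all of
whose products `t * t^g` have odd order is central modulo `O(G)`. -/
theorem zstar_aux (hBS : BrauerSuzukiHyp.{u}) :
    ∀ (n : ℕ) (G : Type u) [Group G] [Finite G], Nat.card G = n → ∀ t : G, OddProd t →
      ∀ g : G, t * g * t⁻¹ * g⁻¹ ∈ pPrimeCore 2 G := by
  intro n
  induction n using Nat.strong_induction_on with
  | _ n ih =>
  intro G _ _ hn t ht g
  have : Fact (Nat.Prime 2) := ⟨Nat.prime_two⟩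
  have ht2 := mul_self_of_orderOf_two ht.1
  have hti := inv_eq_self_of_orderOf_two ht.1
  -- Step 1: `O(G) = 1`
  by_cases hO : pPrimeCore 2 G = ⊥
  swap
  · set K := pPrimeCore 2 G with hK
    have hKcop : (Nat.card K).Coprime 2 := Cfsg.Agent.Lib.Helper1_Cores.pPrimeCore_card_coprime 2
    have htK : t ∉ K := by
      intro h
      have h1 : orderOf t ∣ Nat.card K := Subgroup.orderOf_dvd_natCard _ h
      rw [ht.1] at h1
      have := Nat.Coprime.eq_one_of_dvd hKcop.symm h1
      omega
    have hlt : Nat.card (G ⧸ K) < n := by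
      have h1 := Subgroup.card_eq_card_quotient_mul_card_subgroup K
      have h2 : 1 < Nat.card K := by
        rw [Subgroup.one_lt_card_iff_ne_bot]; exact hO
      have h3 : 0 < Nat.card (G ⧸ K) := Nat.card_pos
      rw [← hn, h1]
      nlinarith
    have key := ih _ hlt (G ⧸ K) rfl (QuotientGroup.mk t) (ht.quotient K htK)
      (QuotientGroup.mk g)
    rw [Cfsg.Agent.Lib.Helper23_PComp.pPrimeCore_quotient_eq_bot G 2, Subgroup.mem_bot] at key
    exact (QuotientGroup.eq_one_iff _).mp key
  -- Step 2: `G` is generated by the conjugates of `t`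
  by_cases hN : Subgroup.normalClosure ({t} : Set G) = ⊤
  swap
  · set N := Subgroup.normalClosure ({t} : Set G) with hNdef
    have htN : t ∈ N := Subgroup.subset_normalClosure (Set.mem_singleton t)
    have hlt : Nat.card N < n := by
      rw [← hn]
      exact lt_of_le_of_ne (Subgroup.card_le_card_group N)
        (fun h => hN ((Subgroup.card_eq_iff_eq_top N).mp h))
    have hbot : pPrimeCore 2 ↥N = ⊥ := pPrimeCore_normal_subgroup_eq_bot hO N
    have hgN : g * t * g⁻¹ ∈ N := Subgroup.normalClosure_normal.conj_mem t htN g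
    have key := ih _ hlt N rfl ⟨t, htN⟩ (ht.subgroup N htN) ⟨g * t * g⁻¹, hgN⟩
    rw [hbot, Subgroup.mem_bot] at key
    have key' : t * (g * t * g⁻¹) * t⁻¹ * (g * t * g⁻¹)⁻¹ = 1 := congrArg Subtype.val key
    have hc : Commute t (g * t * g⁻¹) := by
      show t * (g * t * g⁻¹) = g * t * g⁻¹ * t
      have := congrArg (fun x => x * (g * t * g⁻¹) * t) key'
      simpa [mul_assoc] using this
    rw [OddProd.commutator_eq_one_of_commute ht g hc]
    exact Subgroup.one_mem _
  -- Step 3: `Z(G) = 1`
  by_cases hZ : Subgroup.center G = ⊥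
  swap
  · by_cases htZ : t ∈ Subgroup.center G
    · have hc : Commute t (g * t * g⁻¹) :=
        (Subgroup.mem_center_iff.mp htZ (g * t * g⁻¹)).symm
      rw [OddProd.commutator_eq_one_of_commute ht g hc]
      exact Subgroup.one_mem _
    · -- an involution of the center
      have hdvd : 2 ∣ Nat.card (Subgroup.center G) := by
        by_contra hnd
        have hcop : (Nat.card (Subgroup.center G)).Coprime 2 :=
          (Nat.Prime.coprime_iff_not_dvd Nat.prime_two).mpr hnd |>.symm
        have hle := Cfsg.Agent.Lib.Helper1_Cores.le_pPrimeCore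
          (inferInstance : (Subgroup.center G).Normal) hcop
        rw [hO, le_bot_iff] at hle
        exact hZ hle
      obtain ⟨z', hz'⟩ := exists_prime_orderOf_dvd_card' 2 hdvd
      set z : G := (z' : G) with hzdef
      have hzc : z ∈ Subgroup.center G := z'.2
      have hz2 : orderOf z = 2 := by rw [hzdef, Subgroup.orderOf_coe, hz']
      set Z₀ := Subgroup.zpowers z with hZ₀
      have hZ₀le : Z₀ ≤ Subgroup.center G := (Subgroup.zpowers_le).mpr hzc
      have hZ₀n : Z₀.Normal := by
        refine ⟨fun x hx y => ?_⟩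
        have : y * x * y⁻¹ = x := by
          rw [Subgroup.mem_center_iff.mp (hZ₀le hx) y, mul_inv_cancel_right]
        rw [this]; exact hx
      have hZ₀card : Nat.card Z₀ = 2 := by rw [hZ₀, Nat.card_zpowers, hz2]
      have htZ₀ : t ∉ Z₀ := fun h => htZ (hZ₀le h)
      have hlt : Nat.card (G ⧸ Z₀) < n := by
        have h1 := Subgroup.card_eq_card_quotient_mul_card_subgroup Z₀
        have h3 : 0 < Nat.card (G ⧸ Z₀) := Nat.card_pos
        rw [← hn, h1, hZ₀card]
        omega
      have key := ih _ hlt (G ⧸ Z₀) rfl (QuotientGroup.mk t) (ht.quotient Z₀ htZ₀)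
        (QuotientGroup.mk g)
      rw [pPrimeCore_quotient_order_two_eq_bot hO Z₀ hZ₀card, Subgroup.mem_bot] at key
      have hcZ : t * g * t⁻¹ * g⁻¹ ∈ Z₀ := (QuotientGroup.eq_one_iff _).mp key
      have hodd := OddProd.odd_commutator ht g
      have hd : orderOf (t * g * t⁻¹ * g⁻¹) ∣ 2 := by
        have := Subgroup.orderOf_dvd_natCard _ hcZ
        rwa [hZ₀card] at this
      have h1 : orderOf (t * g * t⁻¹ * g⁻¹) = 1 := by
        rcases (Nat.dvd_prime Nat.prime_two).mp hd with h | h
        · exact h
        · rw [h] at hodd; exact absurd hodd (by decide)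
      rw [orderOf_eq_one_iff.mp h1]
      exact Subgroup.one_mem _
  -- Step 4: Sylow analysis
  exfalso
  have ht1 : t ≠ 1 := ne_one_of_orderOf_two ht.1
  have htP : IsPGroup 2 (Subgroup.zpowers t) := by
    apply IsPGroup.of_card (n := 1)
    rw [Nat.card_zpowers, ht.1, pow_one]
  obtain ⟨S, hS⟩ := htP.exists_le_sylow
  have htS : t ∈ S := hS (Subgroup.mem_zpowers t)
  -- the theorem in centralizers of involutions
  have hIH : ∀ z : G, orderOf z = 2 → ∀ s : G, OddProd s → Commute s z → ∀ h : G, Commute h z →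
      s * h * s⁻¹ * h⁻¹ ∈ centralizerPPrimeCore 2 z := by
    intro z hz s hs hsz h hhz
    set C := Subgroup.centralizer ({z} : Set G) with hC
    have hCne : C ≠ ⊤ := by
      intro htop
      have hzc : z ∈ Subgroup.center G := by
        rw [Subgroup.mem_center_iff]
        intro x
        have hx : x ∈ C := htop ▸ Subgroup.mem_top x
        exact (Subgroup.mem_centralizer_iff.mp hx z (Set.mem_singleton z)).symm
      rw [hZ, Subgroup.mem_bot] at hzc
      exact ne_one_of_orderOf_two hz hzc
    have hlt : Nat.card C < n := by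
      rw [← hn]
      exact lt_of_le_of_ne (Subgroup.card_le_card_group C)
        (fun h => hCne ((Subgroup.card_eq_iff_eq_top C).mp h))
    have hsC : s ∈ C := by
      rw [hC, Subgroup.mem_centralizer_iff]
      intro k hk
      rw [Set.mem_singleton_iff] at hk
      rw [hk]; exact hsz.eq.symm
    have hhC : h ∈ C := by
      rw [hC, Subgroup.mem_centralizer_iff]
      intro k hk
      rw [Set.mem_singleton_iff] at hk
      rw [hk]; exact hhz.eq.symm
    have key := ih _ hlt C rfl ⟨s, hsC⟩ (hs.subgroup C hsC) ⟨h, hhC⟩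
    exact ⟨_, key, rfl⟩
  -- no other involution in `S`
  have huniq : ∀ u : G, u ∈ S → orderOf u = 2 → u = t := by
    intro u huS hu
    by_contra hut
    have hc : Commute t u := by
      have hmem : t * (u * t * u⁻¹) ∈ (S : Subgroup G) :=
        Subgroup.mul_mem _ htS (Subgroup.mul_mem _ (Subgroup.mul_mem _ huS htS)
          (Subgroup.inv_mem _ huS))
      obtain ⟨k, hk⟩ := (S.2 ⟨t * (u * t * u⁻¹), hmem⟩)
      have hk' : (t * (u * t * u⁻¹)) ^ 2 ^ k = 1 := congrArg Subtype.val hk
      have hd : orderOf (t * (u * t * u⁻¹)) ∣ 2 ^ k := orderOf_dvd_of_pow_eq_one hk'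
      have hodd := ht.2 u
      have h1 : orderOf (t * (u * t * u⁻¹)) = 1 := by
        obtain ⟨j, -, hj⟩ := (Nat.dvd_prime_pow Nat.prime_two).mp hd
        rcases Nat.eq_zero_or_pos j with h0 | h0
        · rw [hj, h0, pow_zero]
        · exfalso
          rw [hj] at hodd
          have : Even (2 ^ j) := (Nat.even_pow' h0.ne').mpr even_two
          exact (Nat.not_even_iff_odd.mpr hodd) this
      have h2 : t * (u * t * u⁻¹) = 1 := orderOf_eq_one_iff.mp h1
      have h3 : u * t * u⁻¹ = t := by
        have : u * t * u⁻¹ = t⁻¹ := by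
          rw [eq_inv_iff_mul_eq_one]
          have := congrArg (fun x => t⁻¹ * x * t) h2
          simpa [mul_assoc] using this
        rw [this, hti]
      show t * u = u * t
      have := congrArg (fun x => x * u) h3
      simpa [mul_assoc] using this.symm
    exact no_other_involution ht hN hIH u hu hut hc
  -- `S` has a unique involution
  have hU : Cfsg.Agent.Lib.Helper50_UniqueInv.UniqueInvolution (S : Subgroup G) := by
    intro a b ha hb ha1 hb1
    have hoa : orderOf (a : G) = 2 := by
      rw [Subgroup.orderOf_coe]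
      exact orderOf_eq_prime ha ha1
    have hob : orderOf (b : G) = 2 := by
      rw [Subgroup.orderOf_coe]
      exact orderOf_eq_prime hb hb1
    apply Subtype.ext
    rw [huniq a a.2 hoa, huniq b b.2 hob]
  have hOdd : ∀ N : Subgroup G, N.Normal → Odd (Nat.card N) → N = ⊥ := by
    intro N hNn hodd
    have hcop : (Nat.card N).Coprime 2 := Nat.Coprime.symm (Nat.coprime_two_left.mpr hodd)
    have hle := Cfsg.Agent.Lib.Helper1_Cores.le_pPrimeCore hNn hcop
    rwa [hO, le_bot_iff] at hle
  rcases Cfsg.Agent.Lib.Helper50_UniqueInv2.isCyclic_or_quaternion S.2 hU with hcyc | ⟨k, hk, ⟨e⟩⟩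
  · -- cyclic Sylow: normal complement, which is trivial
    have heven : 2 ∣ Nat.card G := by
      have := orderOf_dvd_natCard t
      rwa [ht.1] at this
    have hmin : (Nat.card G).minFac = 2 := (Nat.minFac_eq_two_iff _).mpr heven
    have hcompl := IsCyclic.isComplement' hmin hcyc
    set K := (MonoidHom.transferSylow S (hcyc.normalizer_le_centralizer hmin)).ker with hKdef
    have hKodd : Odd (Nat.card K) := by
      have h1 : Nat.card K = (S : Subgroup G).index := (hcompl.index_eq_card).symm
      rw [h1]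
      have := S.not_dvd_index
      rw [← Nat.not_even_iff_odd, even_iff_two_dvd]
      exact this
    have hKbot : K = ⊥ := hOdd K (MonoidHom.normal_ker _) hKodd
    have hStop : (S : Subgroup G) = ⊤ := by
      have h1 : (S : Subgroup G).index = Nat.card K := hcompl.index_eq_card
      rw [hKbot, Subgroup.card_bot] at h1
      exact Subgroup.index_eq_one.mp h1
    -- `G` is abelian
    have htc : t ∈ Subgroup.center G := by
      rw [Subgroup.mem_center_iff]
      intro x
      have hx : x ∈ (S : Subgroup G) := hStop ▸ Subgroup.mem_top x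
      have hcomm : ∀ a b : (S : Subgroup G), a * b = b * a := by
        intro a b
        obtain ⟨c, hc⟩ := hcyc.exists_generator
        obtain ⟨i, rfl⟩ := Subgroup.mem_zpowers_iff.mp (hc a)
        obtain ⟨j, rfl⟩ := Subgroup.mem_zpowers_iff.mp (hc b)
        rw [← zpow_add, ← zpow_add, add_comm]
      exact congrArg Subtype.val (hcomm ⟨x, hx⟩ ⟨t, htS⟩)
    rw [hZ, Subgroup.mem_bot] at htc
    exact ht1 htc
  · -- quaternion Sylow: Brauer–Suzuki
    obtain ⟨k', rfl⟩ : ∃ k', k = k' + 1 := ⟨k - 1, by omega⟩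
    have h2 := hBS G S k' e hOdd
    rw [hZ, Subgroup.card_bot] at h2
    omega

/-- **Glauberman's `Z*`-theorem** (assuming Brauer–Suzuki), `OddProd` form. -/
theorem zstar_of_brauerSuzuki (hBS : BrauerSuzukiHyp.{u}) {G : Type u} [Group G] [Finite G]
    {t : G} (ht : OddProd t) (g : G) : t * g * t⁻¹ * g⁻¹ ∈ pPrimeCore 2 G :=
  zstar_aux hBS (Nat.card G) G rfl t ht g

end Cfsg.Agent.Lib.Helper23_ZStar
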