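import Mathlib.GroupTheory.Sylow
import Mathlib.GroupTheory.Nilpotent
import Cfsg.Prelude.Def_IsolatedElements
import Cfsg.Agent.Lib.Helper49_CharP

/-!
helper49: isolated elements (`Cfsg.IsIsolated`): an isolated element of a `p`-subgroup is central
in it; conjugacy of an isolated `p`-element inside subgroups.
-/

set_option autoImplicit false

namespace Cfsg.Agent.Lib.Helper49_Isolated

open Cfsg
open scoped Pointwise

/-- A conjugate of an isolated element is isolated. -/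
theorem isIsolated_conj {G : Type*} [Group G] {x : G} (h : IsIsolated x) (a : G) :
    IsIsolated (a * x * a⁻¹) := by
  intro g hg
  have h1 : Commute x ((a⁻¹ * g * a) * x * (a⁻¹ * g * a)⁻¹) := by
    have e : (a⁻¹ * g * a) * x * (a⁻¹ * g * a)⁻¹ = a⁻¹ * (g * (a * x * a⁻¹) * g⁻¹) * a := by group
    rw [e]
    have e2 : x = a⁻¹ * (a * x * a⁻¹) * a := by group
    show x * _ = _ * x
    have := hg.eq
    calc x * (a⁻¹ * (g * (a * x * a⁻¹) * g⁻¹) * a)
        = a⁻¹ * ((a * x * a⁻¹) * (g * (a * x * a⁻¹) * g⁻¹)) * a := by group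
      _ = a⁻¹ * ((g * (a * x * a⁻¹) * g⁻¹) * (a * x * a⁻¹)) * a := by rw [this]
      _ = a⁻¹ * (g * (a * x * a⁻¹) * g⁻¹) * a * x := by group
  have h2 := h _ h1
  calc g * (a * x * a⁻¹) * g⁻¹ = a * ((a⁻¹ * g * a) * x * (a⁻¹ * g * a)⁻¹) * a⁻¹ := by group
    _ = a * x * a⁻¹ := by rw [h2]

/-- An isolated element of a `p`-subgroup of a finite group is central in it. -/
theorem commute_of_mem_pGroup {G : Type*} [Group G] [Finite G] {p : ℕ} [Fact p.Prime] {x : G}
    (hx : IsIsolated x) (R : Subgroup G) (hR : IsPGroup p R) (hxR : x ∈ R) :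
    ∀ r ∈ R, Commute x r := by
  classical
  set D : Subgroup G := R ⊓ Subgroup.centralizer ({x} : Set G) with hD
  have hmemD : ∀ g, g ∈ D ↔ g ∈ R ∧ Commute x g := by
    intro g
    rw [hD, Subgroup.mem_inf, Subgroup.mem_centralizer_iff]
    constructor
    · rintro ⟨h1, h2⟩
      exact ⟨h1, h2 x rfl⟩
    · rintro ⟨h1, h2⟩
      refine ⟨h1, ?_⟩
      intro y hy
      rw [Set.mem_singleton_iff] at hy
      rw [hy]; exact h2
  have hDR : D ≤ R := inf_le_left
  have hxD : x ∈ D := (hmemD x).mpr ⟨hxR, Commute.refl x⟩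
  suffices hDtop : D.subgroupOf R = ⊤ by
    intro r hr
    have : (⟨r, hr⟩ : R) ∈ D.subgroupOf R := by rw [hDtop]; trivial
    rw [Subgroup.mem_subgroupOf] at this
    exact ((hmemD r).mp this).2
  by_contra hne
  have : Group.IsNilpotent ↥R := hR.isNilpotent
  have hnc : NormalizerCondition ↥R := Group.normalizerCondition_of_isNilpotent
  have hlt := hnc (D.subgroupOf R) (lt_top_iff_ne_top.mpr hne)
  obtain ⟨n, hnN, hnD⟩ := SetLike.exists_of_lt hlt
  apply hnD
  rw [Subgroup.mem_subgroupOf, hmemD]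
  refine ⟨n.2, ?_⟩
  have h1 : (⟨x, hxR⟩ : R) ∈ D.subgroupOf R := by rwa [Subgroup.mem_subgroupOf]
  have h2 := (Subgroup.mem_normalizer_iff.mp hnN ⟨x, hxR⟩).mp h1
  rw [Subgroup.mem_subgroupOf] at h2
  have h3 : (n : G) * x * (n : G)⁻¹ ∈ D := by simpa using h2
  have h4 : (n : G) * x * (n : G)⁻¹ = x := hx _ ((hmemD _).mp h3).2
  show x * (n : G) = (n : G) * x
  calc x * (n : G) = ((n : G) * x * (n : G)⁻¹) * (n : G) := by rw [h4]
    _ = (n : G) * x := by group

/-- A conjugate of an isolated element lying in a common `p`-subgroup equals the element. -/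
theorem conj_eq_of_mem_pGroup {G : Type*} [Group G] [Finite G] {p : ℕ} [Fact p.Prime] {x : G}
    (hx : IsIsolated x) (R : Subgroup G) (hR : IsPGroup p R) (hxR : x ∈ R) (a : G)
    (haR : a * x * a⁻¹ ∈ R) : a * x * a⁻¹ = x :=
  hx a (commute_of_mem_pGroup hx R hR hxR _ haR)

/-- Two `G`-conjugates of an isolated `p`-element lying in a subgroup `H` are `H`-conjugate. -/
theorem exists_conj_of_mem {G : Type*} [Group G] [Finite G] {p : ℕ} [Fact p.Prime] {x : G}
    (hx : IsIsolated x) (hxp : ∃ k : ℕ, orderOf x = p ^ k) (H : Subgroup G) (hxH : x ∈ H) (g : G)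
    (hgH : g * x * g⁻¹ ∈ H) : ∃ h ∈ H, g * x * g⁻¹ = h * x * h⁻¹ := by
  classical
  obtain ⟨k, hk⟩ := hxp
  have hyo : orderOf (g * x * g⁻¹) = p ^ k := by
    have := orderOf_injective (MulAut.conj g).toMonoidHom (MulAut.conj g).injective x
    simp only [MulEquiv.coe_toMonoidHom, MulAut.conj_apply] at this
    rw [this, hk]
  have hpx : IsPGroup p (Subgroup.zpowers (⟨x, hxH⟩ : H)) := by
    apply IsPGroup.of_card (n := k)
    rw [Nat.card_zpowers, ← hk]
    exact Subgroup.orderOf_mk x hxH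
  have hpy : IsPGroup p (Subgroup.zpowers (⟨g * x * g⁻¹, hgH⟩ : H)) := by
    apply IsPGroup.of_card (n := k)
    rw [Nat.card_zpowers, ← hyo]
    exact Subgroup.orderOf_mk _ hgH
  obtain ⟨S', hS'⟩ := hpx.exists_le_sylow
  obtain ⟨S, hS⟩ := hpy.exists_le_sylow
  obtain ⟨h, hh⟩ := MulAction.exists_smul_eq ↥H S' S
  have hxS' : (⟨x, hxH⟩ : H) ∈ (S' : Subgroup H) := hS' (Subgroup.mem_zpowers _)
  have hyS : (⟨g * x * g⁻¹, hgH⟩ : H) ∈ (S : Subgroup H) := hS (Subgroup.mem_zpowers _)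
  have hhx : h * (⟨x, hxH⟩ : H) * h⁻¹ ∈ (S : Subgroup H) := by
    rw [← hh, Sylow.coe_subgroup_smul]
    have := Subgroup.smul_mem_pointwise_smul (⟨x, hxH⟩ : H) (MulAut.conj h) (S' : Subgroup H) hxS'
    simpa [MulAut.smul_def] using this
  -- work in the image of `S` in `G`
  set R : Subgroup G := (S : Subgroup H).map H.subtype with hR
  have hRp : IsPGroup p R := S.isPGroup'.map _
  have hyR : g * x * g⁻¹ ∈ R := ⟨_, hyS, rfl⟩
  have hxR : (h : G) * x * (h : G)⁻¹ ∈ R := ⟨_, hhx, by simp⟩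
  have hyiso : IsIsolated (g * x * g⁻¹) := isIsolated_conj hx g
  have e : (h : G) * x * (h : G)⁻¹ = ((h : G) * g⁻¹) * (g * x * g⁻¹) * ((h : G) * g⁻¹)⁻¹ := by group
  have := conj_eq_of_mem_pGroup hyiso R hRp hyR ((h : G) * g⁻¹) (by rw [← e]; exact hxR)
  exact ⟨h, h.2, by rw [e, this]⟩

end Cfsg.Agent.Lib.Helper49_Isolated
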