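import Mathlib
import Cfsg.Prelude.Def_TwoFusion
import Cfsg.Prelude.Def_IsolatedElements
import Cfsg.Prelude.Def_CaseTheorems
import Cfsg.Agent.Lib.Helper23_ZStar
import Cfsg.Agent.S0216
import Cfsg.Agent.S2968

/-!
# Glauberman's Z*-theorem: the usual formulations (helper23)

All statements take the Brauer–Suzuki theorem (`BrauerSuzukiHyp`, the shape of S0201) as a
hypothesis.
-/

set_option autoImplicit false
set_option linter.unusedSectionVars false

namespace Cfsg.Agent.Lib.Helper23_ZStarC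

open Cfsg Cfsg.Agent.Lib.Helper4_InvPairs Cfsg.Agent.Lib.Helper23_ZStarA
  Cfsg.Agent.Lib.Helper23_ZStar

universe u

variable {G : Type u} [Group G] [Finite G]

/-- Sylow form of isolation gives `OddProd`. -/
theorem oddProd_of_sylow (P : Sylow 2 G) (t : G) (ht : orderOf t = 2) (htP : t ∈ P)
    (hiso : ∀ g : G, g * t * g⁻¹ ∈ P → g * t * g⁻¹ = t) : OddProd t := by
  refine ⟨ht, fun g => ?_⟩
  have h := (Cfsg.Agent.S0216.result P t ht htP).mp hiso g
  have e : t * g * t⁻¹ * g⁻¹ = t * (g * t * g⁻¹) := by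
    rw [inv_eq_self_of_orderOf_two ht]; group
  rwa [e] at h

/-- An isolated involution (commuting form) is `OddProd`. -/
theorem oddProd_of_isIsolatedInvolution {t : G} (ht : IsIsolatedInvolution t) : OddProd t := by
  have : Fact (Nat.Prime 2) := ⟨Nat.prime_two⟩
  have htP : IsPGroup 2 (Subgroup.zpowers t) := by
    apply IsPGroup.of_card (n := 1)
    rw [Nat.card_zpowers, ht.1, pow_one]
  obtain ⟨P, hP⟩ := htP.exists_le_sylow
  have htS : t ∈ P := hP (Subgroup.mem_zpowers t)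
  obtain ⟨-, hsc, -⟩ := Cfsg.Agent.S2968.result P t htS ⟨1, by rw [ht.1, pow_one]⟩ ht.2
  apply oddProd_of_sylow P t ht.1 htS
  intro g hg
  have h1 : g * t * g⁻¹ ∈ Subgroup.zpowers t := hsc.2 t (Subgroup.mem_zpowers t) g hg
  obtain ⟨k, hk⟩ := Subgroup.mem_zpowers_iff.mp h1
  have ho : orderOf (g * t * g⁻¹) = 2 := by
    have := (MulAut.conj g).orderOf_eq t
    rw [MulAut.conj_apply] at this
    rw [this, ht.1]
  rcases Int.even_or_odd' k with ⟨j, hj | hj⟩
  · exfalso
    have : g * t * g⁻¹ = 1 := by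
      rw [← hk, hj, zpow_mul, zpow_ofNat, pow_two, mul_self_of_orderOf_two ht.1, one_zpow]
    rw [this, orderOf_one] at ho
    omega
  · rw [← hk, hj, zpow_add, zpow_mul, zpow_ofNat, pow_two, mul_self_of_orderOf_two ht.1, one_zpow,
      one_mul, zpow_one]

/-- `Z*`-theorem, Sylow form (the shape of S0215). -/
theorem zstar_sylow (hBS : BrauerSuzukiHyp.{u}) (P : Sylow 2 G) (t : G) (ht : orderOf t = 2)
    (htP : t ∈ P) (hiso : ∀ g : G, g * t * g⁻¹ ∈ P → g * t * g⁻¹ = t) (g : G) :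
    t * g * t⁻¹ * g⁻¹ ∈ pPrimeCore 2 G :=
  zstar_of_brauerSuzuki hBS (oddProd_of_sylow P t ht htP hiso) g

/-- `Z*`-theorem for isolated involutions. -/
theorem zstar_isolated (hBS : BrauerSuzukiHyp.{u}) {t : G} (ht : IsIsolatedInvolution t) (g : G) :
    t * g * t⁻¹ * g⁻¹ ∈ oddCore G :=
  zstar_of_brauerSuzuki hBS (oddProd_of_isIsolatedInvolution ht) g

/-- `Z*`-theorem, `InZStar` form. -/
theorem inZStar_of_isolated (hBS : BrauerSuzukiHyp.{u}) {t : G} (ht : IsIsolatedInvolution t) :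
    InZStar 2 t := by
  intro g
  have h := zstar_isolated hBS ht g
  have e : g * t * g⁻¹ * t⁻¹ = (t * g * t⁻¹ * g⁻¹)⁻¹ := by group
  rw [e]
  exact Subgroup.inv_mem _ h

/-- The odd core has odd order. -/
theorem odd_card_oddCore : Odd (Nat.card (pPrimeCore 2 G)) := by
  have h := Cfsg.Agent.Lib.Helper1_Cores.pPrimeCore_card_coprime (G := G) 2
  exact Nat.Coprime.odd_of_right h

end Cfsg.Agent.Lib.Helper23_ZStarC
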