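import Mathlib

/-!
# Arithmetic for the Brauer–Suzuki theorem with quaternion Sylow subgroups of order 8 (helper17)

Pure integer lemmas: the Cauchy–Schwarz case and the `2`-adic descent case.
-/

set_option autoImplicit false

namespace Cfsg.Agent.Lib.Helper17_BSQ8Arith

/-- The mod `4` obstruction, persistent case. -/
theorem zmod4_A : ∀ x y : ZMod 4, ¬ (2 * x = 0 ∧ 2 * y = 0) →
    (x * 3 - y * 3) ^ 2 ≠ x ^ 2 * 3 + y ^ 2 * 3 := by decide

/-- The mod `4` obstruction, first step. -/
theorem zmod4_B : ∀ x y : ZMod 4, ¬ (2 * x = 0 ∧ 2 * y = 0) →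
    (x * (2 * y - 1) - y * (2 * x - 1)) ^ 2 ≠ x ^ 2 * (2 * y - 1) + y ^ 2 * (2 * x - 1) := by
  decide

theorem two_mul_cast_eq_zero_iff (x : ℤ) : (2 * (x : ZMod 4) = 0) ↔ 2 ∣ x := by
  have : (2 * (x : ZMod 4)) = ((2 * x : ℤ) : ZMod 4) := by push_cast; ring
  rw [this, ZMod.intCast_zmod_eq_zero_iff_dvd]
  constructor
  · intro h
    have h4 : (4 : ℤ) ∣ 2 * x := by exact_mod_cast h
    omega
  · intro h
    have h4 : (4 : ℤ) ∣ 2 * x := by omega
    exact_mod_cast h4

/-- Descent: with `p ≡ q ≡ 3 (mod 4)` the equation has only the zero solution. -/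
theorem descent (n : ℕ) : ∀ x y p q : ℤ, x.natAbs + y.natAbs = n → p % 4 = 3 → q % 4 = 3 →
    (x * q - y * p) ^ 2 = x ^ 2 * q + y ^ 2 * p → x = 0 ∧ y = 0 := by
  induction n using Nat.strong_induction_on with
  | _ n ih =>
    intro x y p q hn hp hq h
    by_cases hev : 2 ∣ x ∧ 2 ∣ y
    · obtain ⟨⟨x', rfl⟩, ⟨y', rfl⟩⟩ := hev
      by_cases h0 : x' = 0 ∧ y' = 0
      · obtain ⟨rfl, rfl⟩ := h0
        simp
      · have hlt : x'.natAbs + y'.natAbs < n := by
          rw [← hn]
          have : x' ≠ 0 ∨ y' ≠ 0 := by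
            by_contra hc
            push Not at hc
            exact h0 hc
          rcases this with h1 | h1
          · have := Int.natAbs_pos.mpr h1
            simp only [Int.natAbs_mul]
            norm_num
            omega
          · have := Int.natAbs_pos.mpr h1
            simp only [Int.natAbs_mul]
            norm_num
            omega
        have h' : (x' * q - y' * p) ^ 2 = x' ^ 2 * q + y' ^ 2 * p := by
          have : 4 * (x' * q - y' * p) ^ 2 = 4 * (x' ^ 2 * q + y' ^ 2 * p) := by
            linear_combination h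
          linarith
        obtain ⟨rfl, rfl⟩ := ih _ hlt x' y' p q rfl hp hq h'
        simp
    · exfalso
      have hA := zmod4_A (x : ZMod 4) (y : ZMod 4) (by
        rw [two_mul_cast_eq_zero_iff, two_mul_cast_eq_zero_iff]
        exact hev)
      apply hA
      have hp' : (p : ZMod 4) = 3 := by
        have : ((p - 3 : ℤ) : ZMod 4) = 0 := by
          rw [ZMod.intCast_zmod_eq_zero_iff_dvd]
          exact_mod_cast (show (4 : ℤ) ∣ p - 3 by omega)
        push_cast at this
        linear_combination this
      have hq' : (q : ZMod 4) = 3 := by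
        have : ((q - 3 : ℤ) : ZMod 4) = 0 := by
          rw [ZMod.intCast_zmod_eq_zero_iff_dvd]
          exact_mod_cast (show (4 : ℤ) ∣ q - 3 by omega)
        push_cast at this
        linear_combination this
      have hc : (((x * q - y * p) ^ 2 : ℤ) : ZMod 4) = ((x ^ 2 * q + y ^ 2 * p : ℤ) : ZMod 4) := by
        rw [h]
      push_cast at hc
      rw [hp', hq'] at hc
      exact hc

/-- First step of the descent: `p ≡ 2x - 1`, `q ≡ 2y - 1 (mod 4)`. -/
theorem descent0 (x y p q : ℤ) (hp : (4 : ℤ) ∣ p - (2 * x - 1)) (hq : (4 : ℤ) ∣ q - (2 * y - 1))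
    (h : (x * q - y * p) ^ 2 = x ^ 2 * q + y ^ 2 * p) : x = 0 ∧ y = 0 := by
  by_cases hev : 2 ∣ x ∧ 2 ∣ y
  · obtain ⟨⟨x', hx'⟩, ⟨y', hy'⟩⟩ := hev
    refine descent _ x y p q rfl ?_ ?_ h
    · omega
    · omega
  · exfalso
    have hB := zmod4_B (x : ZMod 4) (y : ZMod 4) (by
      rw [two_mul_cast_eq_zero_iff, two_mul_cast_eq_zero_iff]
      exact hev)
    apply hB
    have hp' : (p : ZMod 4) = 2 * (x : ZMod 4) - 1 := by
      have : ((p - (2 * x - 1) : ℤ) : ZMod 4) = 0 := by
        rw [ZMod.intCast_zmod_eq_zero_iff_dvd]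
        exact_mod_cast hp
      push_cast at this
      linear_combination this
    have hq' : (q : ZMod 4) = 2 * (y : ZMod 4) - 1 := by
      have : ((q - (2 * y - 1) : ℤ) : ZMod 4) = 0 := by
        rw [ZMod.intCast_zmod_eq_zero_iff_dvd]
        exact_mod_cast hq
      push_cast at this
      linear_combination this
    have hc : (((x * q - y * p) ^ 2 : ℤ) : ZMod 4) = ((x ^ 2 * q + y ^ 2 * p : ℤ) : ZMod 4) := by
      rw [h]
    push_cast at hc
    rw [hp', hq'] at hc
    exact hc

/-- **The arithmetic core.**  Three characters with values `1, ε, -1` at `u`, degrees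
`da db dc`, values `ba bb bc` at the involution; `d - b = 4 m` and
`d = v + 4 r + 2 m`.  The three orthogonality relations force `bc = dc`. -/
theorem core (ε da db dc ba bb bc ma mb mc rb rc : ℤ) (hε : ε = 1 ∨ ε = -1)
    (hda : 0 < da) (hdb : 0 < db)
    (ema : da - ba = 4 * ma) (emb : db - bb = 4 * mb) (emc : dc - bc = 4 * mc)
    (erb : db = ε + 4 * rb + 2 * mb) (erc : dc = -1 + 4 * rc + 2 * mc)
    (h1 : 1 + da + ε * db - dc = 0) (h2 : 1 + ba + ε * bb - bc = 0)
    (h3 : da * db * dc + ba ^ 2 * db * dc + ε * bb ^ 2 * da * dc - bc ^ 2 * da * db = 0) :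
    bc = dc := by
  have hba : ba = da - 4 * ma := by linarith
  have hbb : bb = db - 4 * mb := by linarith
  have hbc : bc = dc - 4 * mc := by linarith
  suffices hmc0 : mc = 0 by rw [hbc, hmc0]; ring
  rcases hε with rfl | rfl
  · -- signs `1, 1, -1`: Cauchy–Schwarz
    have hdc' : dc = 1 + da + db := by linarith
    have hm : mc = ma + mb := by
      have : 4 * (ma + mb - mc) = 0 := by
        rw [hba, hbb, hbc] at h2
        linarith
      linarith
    have hE : ma ^ 2 * db * dc + mb ^ 2 * da * dc = mc ^ 2 * da * db := by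
      rw [hba, hbb, hbc] at h3
      have e1 : 16 * (ma ^ 2 * db * dc + mb ^ 2 * da * dc - mc ^ 2 * da * db) = 0 := by
        have h1' : 1 + da + db - dc = 0 := by linarith
        have h2' : ma + mb - mc = 0 := by linarith
        linear_combination h3 - da * db * dc * h1' + 8 * da * db * dc * h2'
      linarith
    -- `X = ma² db + mb² da`
    set X := ma ^ 2 * db + mb ^ 2 * da with hX
    have hXnn : 0 ≤ X := by positivity
    have hCS : (ma + mb) ^ 2 * (da * db) ≤ X * (da + db) := by
      have : X * (da + db) - (ma + mb) ^ 2 * (da * db) = (ma * db - mb * da) ^ 2 := by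
        rw [hX]; ring
      nlinarith [sq_nonneg (ma * db - mb * da)]
    have hE' : X * dc = mc ^ 2 * (da * db) := by rw [hX]; linarith
    have hX0 : X = 0 := by
      by_contra hne
      have hXpos : 0 < X := lt_of_le_of_ne hXnn (Ne.symm hne)
      have : X * dc ≤ X * (da + db) := by
        rw [hE', hm]; exact hCS
      have : dc ≤ da + db := le_of_mul_le_mul_left this hXpos
      linarith
    have hma0 : ma = 0 := by
      have h1 : 0 ≤ ma ^ 2 * db := by positivity
      have h2 : 0 ≤ mb ^ 2 * da := by positivity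
      have : ma ^ 2 * db = 0 := by rw [hX] at hX0; linarith
      rcases mul_eq_zero.mp this with h | h
      · exact pow_eq_zero_iff (two_ne_zero) |>.mp h
      · linarith
    have hmb0 : mb = 0 := by
      have h1 : 0 ≤ ma ^ 2 * db := by positivity
      have h2 : 0 ≤ mb ^ 2 * da := by positivity
      have : mb ^ 2 * da = 0 := by rw [hX] at hX0; linarith
      rcases mul_eq_zero.mp this with h | h
      · exact pow_eq_zero_iff (two_ne_zero) |>.mp h
      · linarith
    rw [hm, hma0, hmb0]; ring
  · -- signs `1, -1, -1`: descent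
    have hda' : da = db + dc - 1 := by linarith
    have hm : ma = mb + mc := by
      have : 4 * (ma - mb - mc) = 0 := by
        rw [hba, hbb, hbc] at h2
        linarith
      linarith
    have hE : ma ^ 2 * db * dc = mb ^ 2 * da * dc + mc ^ 2 * da * db := by
      rw [hba, hbb, hbc] at h3
      have e1 : 16 * (ma ^ 2 * db * dc - mb ^ 2 * da * dc - mc ^ 2 * da * db) = 0 := by
        have h1' : 1 + da - db - dc = 0 := by linarith
        have h2' : ma - mb - mc = 0 := by linarith
        linear_combination h3 - da * db * dc * h1' + 8 * da * db * dc * h2'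
      linarith
    have hE2 : (mb * dc - mc * db) ^ 2 = mb ^ 2 * dc + mc ^ 2 * db := by
      rw [hm, hda'] at hE
      linear_combination (-1 : ℤ) * hE
    have := descent0 mb mc db dc ⟨rb, by rw [erb]; ring⟩ ⟨rc, by rw [erc]; ring⟩ hE2
    exact this.2

end Cfsg.Agent.Lib.Helper17_BSQ8Arith
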