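import Mathlib
import Cfsg.Prelude.Def_Characters
import Cfsg.Prelude.Def_Blocks
import Cfsg.Agent.Lib.Helper3_CharEigen
import Cfsg.Agent.Lib.Helper16_Char
import Cfsg.Agent.Lib.Helper80_CharBasic

/-!
# Character-theoretic lemmas for the Brauer–Suzuki theorem, `Q₈` case (helper17)
-/

set_option autoImplicit false

namespace Cfsg.Agent.Lib.Helper17_BSQ8Char

open Cfsg Cfsg.Agent.Lib.Helper16_Char Cfsg.Agent.Lib.Helper3_CharEigen

open scoped ComplexConjugate

section

variable {G : Type*} [Group G] [Finite G]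

/-- The sum of an irreducible character over a subgroup is the order of the subgroup times a
natural number (the multiplicity of the trivial character). -/
theorem sum_subgroup_nat (ζ : IrrCharacter G) (N : Subgroup G) [Fintype N] :
    ∃ a : ℕ, ∑ g : N, (ζ : G → ℂ) (g : G) = (Nat.card N : ℂ) * (a : ℂ) := by
  classical
  obtain ⟨n, ρ, -, hρ⟩ := ζ.2
  have hN : (Nat.card N : ℂ) ≠ 0 := by exact_mod_cast (Nat.card_pos (α := N)).ne'
  have : Invertible (Nat.card N : ℂ) := invertibleOfNonzero hN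
  have h := Representation.card_inv_mul_sum_char_eq_finrank (ρ.comp N.subtype)
  refine ⟨Module.finrank ℂ (Representation.invariants (ρ.comp N.subtype)), ?_⟩
  rw [← h, ← mul_assoc, mul_inv_cancel₀ hN, one_mul]
  refine Finset.sum_congr rfl fun g _ => ?_
  rw [← hρ]
  rfl

/-- Geometric sum of a fourth root of unity. -/
theorem geom_four (w : ℂ) (hw : w ^ 4 = 1) :
    1 + w + w ^ 2 + w ^ 3 = if w = 1 then 4 else 0 := by
  split_ifs with h
  · rw [h]; norm_num
  · have h1 : (w - 1) * (1 + w + w ^ 2 + w ^ 3) = 0 := by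
      have : (w - 1) * (1 + w + w ^ 2 + w ^ 3) = w ^ 4 - 1 := by ring
      rw [this, hw, sub_self]
    rcases mul_eq_zero.mp h1 with h2 | h2
    · exact absurd (sub_eq_zero.mp h2) h
    · exact h2

/-- The multiplicity of the eigenvalue `i` of an element of order `4`. -/
theorem eig_mult (ζ : IrrCharacter G) (u : G) (hu : orderOf u = 4) :
    ∃ n : ℕ, (ζ : G → ℂ) 1 - Complex.I * (ζ : G → ℂ) u - (ζ : G → ℂ) (u ^ 2) +
      Complex.I * (ζ : G → ℂ) (u ^ 3) = 4 * (n : ℂ) := by
  classical
  obtain ⟨n, ρ, -, hρ⟩ := ζ.2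
  have h0 := char_pow_eq_sum ρ u 0
  have h1 := char_pow_eq_sum ρ u 1
  have h2 := char_pow_eq_sum ρ u 2
  have h3 := char_pow_eq_sum ρ u 3
  rw [pow_zero] at h0
  rw [pow_one] at h1
  rw [← hρ, h0, h1, h2, h3]
  refine ⟨Module.finrank ℂ (Module.End.eigenspace (ρ u) Complex.I), ?_⟩
  have hterm : ∀ μ ∈ eigSet (ρ u),
      (Module.finrank ℂ (Module.End.eigenspace (ρ u) μ) : ℂ) * μ ^ 0 -
        Complex.I * ((Module.finrank ℂ (Module.End.eigenspace (ρ u) μ) : ℂ) * μ ^ 1) -
        (Module.finrank ℂ (Module.End.eigenspace (ρ u) μ) : ℂ) * μ ^ 2 +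
        Complex.I * ((Module.finrank ℂ (Module.End.eigenspace (ρ u) μ) : ℂ) * μ ^ 3) =
      if μ = Complex.I then 4 * (Module.finrank ℂ (Module.End.eigenspace (ρ u) μ) : ℂ) else 0 := by
    intro μ hμ
    have hμ4 : μ ^ 4 = 1 := by
      have := eig_pow_orderOf ρ hμ
      rwa [hu] at this
    have hw : (-Complex.I * μ) ^ 4 = 1 := by
      rw [mul_pow, hμ4, mul_one]
      have : (-Complex.I) ^ 4 = ((-Complex.I) ^ 2) ^ 2 := by ring
      rw [this, neg_sq, Complex.I_sq]; norm_num
    have hg := geom_four _ hw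
    have hiff : (-Complex.I * μ = 1) ↔ μ = Complex.I := by
      constructor
      · intro h
        have : Complex.I * (-Complex.I * μ) = Complex.I * 1 := by rw [h]
        rw [← mul_assoc, mul_neg, Complex.I_mul_I, neg_neg, one_mul, mul_one] at this
        exact this
      · intro h
        rw [h, neg_mul, Complex.I_mul_I, neg_neg]
    have hlhs : (Module.finrank ℂ (Module.End.eigenspace (ρ u) μ) : ℂ) * μ ^ 0 -
        Complex.I * ((Module.finrank ℂ (Module.End.eigenspace (ρ u) μ) : ℂ) * μ ^ 1) -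
        (Module.finrank ℂ (Module.End.eigenspace (ρ u) μ) : ℂ) * μ ^ 2 +
        Complex.I * ((Module.finrank ℂ (Module.End.eigenspace (ρ u) μ) : ℂ) * μ ^ 3) =
        (Module.finrank ℂ (Module.End.eigenspace (ρ u) μ) : ℂ) *
          (1 + (-Complex.I * μ) + (-Complex.I * μ) ^ 2 + (-Complex.I * μ) ^ 3) := by
      have hI2 : Complex.I ^ 2 = -1 := Complex.I_sq
      have hI3 : Complex.I ^ 3 = -Complex.I := by
        rw [pow_succ, hI2]; ring
      ring_nf
      rw [hI2, hI3]
      ring
    rw [hlhs, hg]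
    by_cases h : μ = Complex.I
    · rw [if_pos (hiff.mpr h), if_pos h]; ring
    · rw [if_neg (fun h' => h (hiff.mp h')), if_neg h, mul_zero]
  rw [Finset.mul_sum, Finset.mul_sum, ← Finset.sum_sub_distrib, ← Finset.sum_sub_distrib,
    ← Finset.sum_add_distrib, Finset.sum_congr rfl hterm, Finset.sum_ite_eq']
  split_ifs with h
  · rfl
  · have hbot : Module.End.eigenspace (ρ u) Complex.I = ⊥ := by
      by_contra hne
      apply h
      rw [mem_eigSet]
      exact hne
    rw [hbot, finrank_bot]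
    simp

end

section ClassSum

variable {G : Type*} [Group G] [Fintype G] [DecidableEq G]

/-- The class sum formula: the sum of `ζ (x y)` over pairs of conjugates of `t`. -/
theorem sum_pairs (ζ : IrrCharacter G) (t : G) :
    ∑ x : G, ∑ y : G, (if IsConj t x ∧ IsConj t y then (ζ : G → ℂ) (x * y) else 0) =
      ((Subgroup.centralizer ({t} : Set G)).index : ℂ) ^ 2 * (ζ : G → ℂ) t ^ 2 /
        (ζ : G → ℂ) 1 := by
  obtain ⟨χ, n, ρ, hirr, rfl⟩ := ζ
  have : ρ.IsIrreducible := hirr
  simp only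
  have hu := classOp_eq_smul ρ t
  have hprod : classOp ρ t * classOp ρ t =
      (Cfsg.centralChar ρ.character t * Cfsg.centralChar ρ.character t) •
        (1 : Module.End ℂ (Fin n → ℂ)) := by
    rw [hu, smul_mul_smul_comm, mul_one]
  have htr1 : LinearMap.trace ℂ (Fin n → ℂ) (classOp ρ t * classOp ρ t) =
      Cfsg.centralChar ρ.character t * Cfsg.centralChar ρ.character t * (n : ℂ) := by
    rw [hprod, map_smul, LinearMap.trace_one, smul_eq_mul]
    simp
  have htr2 : LinearMap.trace ℂ (Fin n → ℂ) (classOp ρ t * classOp ρ t) =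
      ∑ x : G, ∑ y : G, (if IsConj t x ∧ IsConj t y then ρ.character (x * y) else 0) := by
    unfold classOp
    rw [Finset.sum_mul_sum, map_sum]
    refine Finset.sum_congr rfl fun x _ => ?_
    rw [map_sum]
    refine Finset.sum_congr rfl fun y _ => ?_
    by_cases hx : IsConj t x
    · by_cases hy : IsConj t y
      · rw [if_pos hx, if_pos hy, if_pos ⟨hx, hy⟩, ← map_mul]
        rfl
      · rw [if_neg hy, mul_zero, map_zero, if_neg (fun h => hy h.2)]
    · rw [if_neg hx, zero_mul, map_zero, if_neg (fun h => hx h.1)]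
  rw [← htr2, htr1]
  unfold Cfsg.centralChar
  rw [Representation.char_one]
  have hn : ((Module.finrank ℂ (Fin n → ℂ) : ℕ) : ℂ) ≠ 0 := by
    rw [Nat.cast_ne_zero]; exact (finrank_pos_of_irreducible ρ).ne'
  have hn' : (Module.finrank ℂ (Fin n → ℂ) : ℂ) = (n : ℂ) := by simp
  rw [hn'] at hn ⊢
  field_simp

/-- The number of ways of writing `g` as a product of two conjugates of `t`. -/
noncomputable def theta (t : G) (g : G) : ℂ :=
  ∑ x : G, ∑ y : G, if IsConj t x ∧ IsConj t y ∧ x * y = g then 1 else 0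

open scoped ComplexConjugate in
/-- The inner product of `theta t` with an irreducible character. -/
theorem classInner_theta (ζ : IrrCharacter G) (t : G) :
    classInner (theta t) (ζ : G → ℂ) = (Nat.card G : ℂ)⁻¹ *
      conj (((Subgroup.centralizer ({t} : Set G)).index : ℂ) ^ 2 * (ζ : G → ℂ) t ^ 2 /
        (ζ : G → ℂ) 1) := by
  unfold classInner
  congr 1
  rw [← sum_pairs ζ t, map_sum]
  unfold theta
  simp_rw [Finset.sum_mul, map_sum]
  rw [Finset.sum_comm]
  refine Finset.sum_congr rfl fun x _ => ?_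
  rw [Finset.sum_comm]
  refine Finset.sum_congr rfl fun y _ => ?_
  by_cases h : IsConj t x ∧ IsConj t y
  · rw [if_pos h]
    rw [Finset.sum_eq_single (x * y)]
    · rw [if_pos ⟨h.1, h.2, rfl⟩, one_mul]
    · intro g _ hg
      rw [if_neg (fun h' => hg h'.2.2.symm), zero_mul]
    · intro h'
      exact absurd (Finset.mem_univ _) h'
  · rw [if_neg h, map_zero]
    apply Finset.sum_eq_zero
    intro g _
    rw [if_neg (fun h' => h ⟨h'.1, h'.2.1⟩), zero_mul]

end ClassSum

end Cfsg.Agent.Lib.Helper17_BSQ8Char
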