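import Mathlib
import Cfsg.Prelude.Def_Blocks
import Cfsg.Agent.Lib.Helper78_LocalRing
import Cfsg.Agent.Lib.Helper78_CentralChar
import Cfsg.Agent.Lib.Helper78_CharFacts
import Cfsg.Agent.Lib.Helper80_CharBasic
import Cfsg.Agent.Lib.Helper16_Char
import Cfsg.Agent.Lib.Helper16_BlockOrth
import Cfsg.Agent.Lib.Helper16_SectionNorm
import Cfsg.Agent.Lib.Helper16_KleinBlock
import Cfsg.Agent.Lib.Helper77_WeakOrth
import Cfsg.Agent.Lib.Helper17_BSQ8Arith
import Cfsg.Agent.Lib.Helper17_BSQ8Group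
import Cfsg.Agent.Lib.Helper17_BSQ8Char
import Cfsg.Agent.S4835
import Cfsg.Agent.S0165

/-!
# The Brauer–Suzuki theorem for quaternion Sylow `2`-subgroups of order `8` (helper17)

If a Sylow `2`-subgroup of `G` is quaternion of order `8` and `G` has no nontrivial normal
subgroup of odd order, then `|Z(G)| = 2`.  Proof through the principal `2`-block: the column of an
element `u` of order `4`, block orthogonality, the involution-product class function and a
`2`-adic descent.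
-/

set_option autoImplicit false
set_option linter.unusedSectionVars false

namespace Cfsg.Agent.Lib.Helper17_BSQ8

open Cfsg Cfsg.Agent.Lib.Helper78_LocalRing Cfsg.Agent.Lib.Helper78_CentralChar
  Cfsg.Agent.Lib.Helper78_CharFacts Cfsg.Agent.Lib.Helper16_Char
  Cfsg.Agent.Lib.Helper17_BSQ8Group Cfsg.Agent.Lib.Helper17_BSQ8Char

open scoped ComplexConjugate

section

variable {G : Type*} [Group G] [Finite G] (S : Sylow 2 G)
  (e : (S : Subgroup G) ≃* QuaternionGroup 2)

/-- The numerical data of an irreducible character: degree `d`, value `b` at the involution,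
value `c` at the elements of order `4`, with `d - b = 4 m` and `d = c + 4 r + 2 m`. -/
theorem char_data
    (hnc : ∀ N : Subgroup G, N.Normal → ¬ Subgroup.IsComplement' N (S : Subgroup G))
    (ψ : IrrCharacter G) :
    ∃ (d : ℕ) (b c m r : ℤ), 0 < d ∧ (ψ : G → ℂ) 1 = (d : ℂ) ∧
      (ψ : G → ℂ) (tt (S : Subgroup G) e) = (b : ℂ) ∧
      (ψ : G → ℂ) (uu (S : Subgroup G) e) = (c : ℂ) ∧
      (d : ℤ) - b = 4 * m ∧ (d : ℤ) = c + 4 * r + 2 * m := by
  classical
  set t := tt (S : Subgroup G) e with ht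
  set u := uu (S : Subgroup G) e with hu
  have hcl := isIrrCharacter_isClassFunction ψ.2
  obtain ⟨d, hdpos, hd⟩ := isIrrCharacter_one_eq_natCast ψ.2
  have hou : orderOf u = 4 := orderOf_uu _ e
  have hu2 : u ^ 2 = t := uu_sq _ e
  have hu4 : u ^ 4 = 1 := by rw [← hou]; exact pow_orderOf_eq_one u
  have hu3 : u ^ 3 = u⁻¹ := by
    rw [eq_inv_iff_mul_eq_one, ← pow_succ]; exact hu4
  -- `ψ (u⁻¹) = ψ u`
  have hinv : (ψ : G → ℂ) u⁻¹ = (ψ : G → ℂ) u := by
    obtain ⟨y, -, hy⟩ := inv_conj (S : Subgroup G) e u (uu_mem _ e) hu2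
    rw [← hy]
    exact hcl u y
  -- the sum over `⟨u⟩`
  let _ : Fintype (Subgroup.zpowers u) := Fintype.ofFinite _
  obtain ⟨n₀, hn₀⟩ := sum_subgroup_nat ψ (Subgroup.zpowers u)
  have hsumu : ∑ g : Subgroup.zpowers u, (ψ : G → ℂ) (g : G) =
      (ψ : G → ℂ) 1 + (ψ : G → ℂ) u + (ψ : G → ℂ) (u ^ 2) + (ψ : G → ℂ) (u ^ 3) := by
    have h1 : ∑ g : Subgroup.zpowers u, (ψ : G → ℂ) (g : G) =
        ∑ i : Fin (orderOf u), (ψ : G → ℂ) (u ^ (i : ℕ)) := by
      rw [← Equiv.sum_comp (finEquivZPowers (isOfFinOrder_of_finite u))]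
      refine Finset.sum_congr rfl fun i _ => ?_
      rw [finEquivZPowers_apply]
    rw [h1, Fin.sum_univ_eq_sum_range (fun i => (ψ : G → ℂ) (u ^ i)), hou]
    rw [Finset.sum_range_succ, Finset.sum_range_succ, Finset.sum_range_succ,
      Finset.sum_range_one, pow_zero, pow_one]
  rw [hsumu, Nat.card_zpowers, hou, hu2, hu3, hinv, hd] at hn₀
  -- the sum over `S`
  let _ : Fintype (S : Subgroup G) := Fintype.ofFinite _
  obtain ⟨a₀, ha₀⟩ := sum_subgroup_nat ψ (S : Subgroup G)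
  have hsumS := sum_S (S : Subgroup G) e (ψ : G → ℂ) ((ψ : G → ℂ) u) (by
    intro s hs h
    obtain ⟨y, hy⟩ := isConj_iff.mp (isConj_uu S e hnc s hs h)
    rw [← hy]
    exact hcl u y)
  have hScard : Nat.card (S : Subgroup G) = 8 := by
    rw [Nat.card_congr e.toEquiv, Nat.card_eq_fintype_card, QuaternionGroup.card]
  rw [hsumS, hScard, hd] at ha₀
  -- the eigenvalue `i`
  obtain ⟨n₁, hn₁⟩ := eig_mult ψ u hou
  rw [hu2, hu3, hinv, hd] at hn₁
  have hb : (ψ : G → ℂ) t = (((d : ℤ) - 4 * (n₁ : ℤ) : ℤ) : ℂ) := by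
    push_cast
    linear_combination (-1 : ℂ) * hn₁
  have hc : (ψ : G → ℂ) u = ((2 * (a₀ : ℤ) - (n₀ : ℤ) : ℤ) : ℂ) := by
    push_cast
    have h6 : (6 : ℕ) • (ψ : G → ℂ) u = 6 * (ψ : G → ℂ) u := by
      rw [nsmul_eq_mul]; norm_num
    rw [h6] at ha₀
    push_cast at ha₀ hn₀
    linear_combination (1 / 4 : ℂ) * ha₀ - (1 / 4 : ℂ) * hn₀
  refine ⟨d, (d : ℤ) - 4 * (n₁ : ℤ), 2 * (a₀ : ℤ) - (n₀ : ℤ), (n₁ : ℤ), (n₀ : ℤ) - (a₀ : ℤ),
    hdpos, hd, hb, hc, by ring, ?_⟩
  have hfin : ((d : ℤ) : ℂ) =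
      ((2 * (a₀ : ℤ) - (n₀ : ℤ) + 4 * ((n₀ : ℤ) - (a₀ : ℤ)) + 2 * (n₁ : ℤ) : ℤ) : ℂ) := by
    rw [hb, hc] at hn₀
    push_cast at hn₀ ⊢
    linear_combination (1 / 2 : ℂ) * hn₀
  exact_mod_cast hfin

/-- The key character: in the fusion case there is an irreducible character with the involution
in its kernel and value `-1` at the elements of order `4`. -/
theorem exists_key_char
    (hnc : ∀ N : Subgroup G, N.Normal → ¬ Subgroup.IsComplement' N (S : Subgroup G)) :
    ∃ ψ : IrrCharacter G, (ψ : G → ℂ) (tt (S : Subgroup G) e) = (ψ : G → ℂ) 1 ∧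
      (ψ : G → ℂ) (uu (S : Subgroup G) e) = -1 := by
  classical
  obtain ⟨M, hM⟩ := Cfsg.Agent.S0165.exists_isPModular 2 Nat.prime_two
  have hMp := isPrime_of_isPModular hM
  let _ : Fintype G := Fintype.ofFinite G
  have hfin : Finite (IrrCharacter G) := charFacts.finite
  have := Fintype.ofFinite (IrrCharacter G)
  set t := tt (S : Subgroup G) e with ht
  set u := uu (S : Subgroup G) e with hu
  have hot : orderOf t = 2 := orderOf_tt _ e
  have hou : orderOf u = 4 := orderOf_uu _ e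
  -- data
  choose d b c m r hdpos hd hb hc hm hr using char_data S e hnc
  -- the centralizer of `u`
  obtain ⟨hncu, hfac⟩ := centralizer_uu S e
  have hu' : ∃ k : ℕ, orderOf u = 2 ^ k := ⟨2, by rw [hou]; norm_num⟩
  have ht' : ∃ k : ℕ, orderOf t = 2 ^ k := ⟨1, by rw [hot]; norm_num⟩
  have hy1 : ¬ 2 ∣ orderOf (1 : Subgroup.centralizer ({u} : Set G)) := by
    rw [orderOf_one]; norm_num
  have hnorm := Cfsg.Agent.Lib.Helper16_SectionNorm.principal_section_norm_complex hM u hu' 1 hy1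
  rw [Cfsg.Agent.Lib.Helper16_SectionNorm.principal_norm_of_normal_complement hM hncu 1 hy1,
    hfac] at hnorm
  simp only [OneMemClass.coe_one, mul_one] at hnorm
  -- the block as a finset
  set B : Finset (IrrCharacter G) := Finset.univ.filter (fun χ => χ ∈ principalBlock M G)
    with hBdef
  have hS : ∀ f : IrrCharacter G → ℂ, ∑ᶠ χ ∈ principalBlock M G, f χ = ∑ χ ∈ B, f χ := by
    intro f
    have e' := finsum_mem_eq_sum_ite (fun χ => χ ∈ principalBlock M G) f
    rw [show (∑ᶠ χ ∈ principalBlock M G, f χ) = _ from e', hBdef, Finset.sum_filter]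
  have hB : IsPBlock M (principalBlock M G) := ⟨Cfsg.Agent.Lib.Helper80_CharBasic.oneIrr G, rfl⟩
  set e₁ : IrrCharacter G := Cfsg.Agent.Lib.Helper80_CharBasic.oneIrr G with he₁def
  have he₁val : ∀ g : G, (e₁ : G → ℂ) g = 1 := fun g => rfl
  have he₁ : e₁ ∈ B := by
    rw [hBdef, Finset.mem_filter]
    exact ⟨Finset.mem_univ _, sameBlock_refl hMp _⟩
  have hce : c e₁ = 1 := by
    have h1 := hc e₁
    rw [he₁val] at h1
    exact_mod_cast h1.symm
  have hbe : b e₁ = 1 := by
    have h1 := hb e₁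
    rw [he₁val] at h1
    exact_mod_cast h1.symm
  have hde : ((d e₁ : ℕ) : ℤ) = 1 := by
    have h1 := hd e₁
    rw [he₁val] at h1
    exact_mod_cast h1.symm
  -- the characters not vanishing at `u`
  set B' : Finset (IrrCharacter G) := B.filter (fun χ => c χ ≠ 0) with hB'def
  have hB'sum : ∀ f : IrrCharacter G → ℤ, ∑ x ∈ B, f x * c x = ∑ x ∈ B', f x * c x := by
    intro f
    rw [hB'def]
    symm
    apply Finset.sum_filter_of_ne
    intro x _ hne hcx
    apply hne
    rw [hcx, mul_zero]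
  have he₁' : e₁ ∈ B' := by
    rw [hB'def, Finset.mem_filter]
    exact ⟨he₁, by rw [hce]; norm_num⟩
  have hsq : ∑ x ∈ B', (c x) ^ 2 = 4 := by
    rw [hS] at hnorm
    have h1 : ∑ x ∈ B, (x : G → ℂ) u * conj ((x : G → ℂ) u) =
        ((∑ x ∈ B, (c x) * (c x) : ℤ) : ℂ) := by
      rw [Int.cast_sum]
      refine Finset.sum_congr rfl fun x _ => ?_
      rw [hc x, map_intCast (starRingEnd ℂ)]
      push_cast
      ring
    rw [h1, hB'sum] at hnorm
    have h2 : ∑ x ∈ B', c x * c x = 4 := by exact_mod_cast hnorm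
    rw [← h2]
    refine Finset.sum_congr rfl fun x _ => ?_
    ring
  have hudvd : 2 ∣ orderOf u := by rw [hou]; norm_num
  have horth : ∑ x ∈ B', ((d x : ℕ) : ℤ) * c x = 0 := by
    have h0 := Cfsg.Agent.Lib.Helper77_WeakOrth.weak_orthogonality_block hM hB 1 u
      (by rw [orderOf_one]; norm_num) hudvd
    rw [hS] at h0
    have h1 : ∑ x ∈ B, (x : G → ℂ) 1 * conj ((x : G → ℂ) u) =
        ((∑ x ∈ B, ((d x : ℕ) : ℤ) * c x : ℤ) : ℂ) := by
      rw [Int.cast_sum]
      refine Finset.sum_congr rfl fun x _ => ?_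
      rw [hc x, hd x, map_intCast (starRingEnd ℂ)]
      push_cast
      ring
    rw [h1, hB'sum] at h0
    exact_mod_cast h0
  obtain ⟨χa, χb, χc, hae, hbe', hce', hab, hac, hbc, hmem, hva, hvb, hvc⟩ :=
    Cfsg.Agent.Lib.Helper16_KleinBlock.four_elements B' e₁ he₁' c (fun x => ((d x : ℕ) : ℤ))
      hce hde (fun x hx => (Finset.mem_filter.mp hx).2)
      (fun x _ => by exact_mod_cast hdpos x) hsq horth
  have hSeq : B' = {e₁, χa, χb, χc} := by
    ext w
    rw [hmem w]
    simp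
  have hsum4 : ∀ f : IrrCharacter G → ℤ, ∑ x ∈ B', f x = f e₁ + f χa + f χb + f χc := by
    intro f
    have h1 : e₁ ∉ ({χa, χb, χc} : Finset (IrrCharacter G)) := by
      simp [hae.symm, hbe'.symm, hce'.symm]
    have h2 : χa ∉ ({χb, χc} : Finset (IrrCharacter G)) := by
      simp [hab, hac]
    have h3 : χb ∉ ({χc} : Finset (IrrCharacter G)) := by
      simp [hbc]
    rw [hSeq, Finset.sum_insert h1, Finset.sum_insert h2, Finset.sum_insert h3,
      Finset.sum_singleton]
    ring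
  -- relation 1
  have hR1 : 1 + (d χa : ℤ) + c χb * (d χb : ℤ) - (d χc : ℤ) = 0 := by
    rw [hsum4, hce, hva, hvc, hde] at horth
    linarith
  -- relation 2: block orthogonality between `t` and `u`
  have hPt : IsPPart 2 t t := ⟨1, mul_one t, Commute.one_right t, ht', by rw [orderOf_one]; norm_num⟩
  have hPu : IsPPart 2 u u := ⟨1, mul_one u, Commute.one_right u, hu', by rw [orderOf_one]; norm_num⟩
  have hntu : ¬ IsConj t u := by
    intro h
    obtain ⟨y, hy⟩ := isConj_iff.mp h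
    have h1 : orderOf u = orderOf t := by
      rw [← hy]
      have hsc : SemiconjBy y t (y * t * y⁻¹) := by
        show y * t = y * t * y⁻¹ * y
        group
      exact (hsc.orderOf_eq y).symm
    rw [hot, hou] at h1
    omega
  have hR2 : 1 + b χa + c χb * b χb - b χc = 0 := by
    have h0 := Cfsg.Agent.Lib.Helper16_BlockOrth.block_orthogonality hM hB hPt hPu hntu
    rw [hS] at h0
    have h1 : ∑ x ∈ B, (x : G → ℂ) t * conj ((x : G → ℂ) u) =
        ((∑ x ∈ B, b x * c x : ℤ) : ℂ) := by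
      rw [Int.cast_sum]
      refine Finset.sum_congr rfl fun x _ => ?_
      rw [hc x, hb x, map_intCast (starRingEnd ℂ)]
      push_cast
      ring
    rw [h1, hB'sum] at h0
    have h2 : ∑ x ∈ B', b x * c x = 0 := by exact_mod_cast h0
    rw [hsum4, hce, hva, hvc, hbe] at h2
    linarith
  -- relation 3: the involution-product function
  have hθ : ∀ g z : G, IsPPart 2 g z → IsConj u z → theta t g = 0 := by
    intro g z hgz hz
    unfold theta
    apply Finset.sum_eq_zero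
    intro x _
    apply Finset.sum_eq_zero
    intro y _
    rw [if_neg]
    rintro ⟨hx, hy, hxy⟩
    obtain ⟨p, hp⟩ := isConj_iff.mp hx
    obtain ⟨q, hq⟩ := isConj_iff.mp hy
    have hx2 : x ^ 2 = 1 := by rw [← hp, conj_pow, ht, tt_sq]; group
    have hy2 : y ^ 2 = 1 := by rw [← hq, conj_pow, ht, tt_sq]; group
    have hx1 : x ≠ 1 := by
      intro h
      apply tt_ne_one (S : Subgroup G) e
      rw [← hp] at h
      have : tt (S : Subgroup G) e = p⁻¹ * (p * t * p⁻¹) * p := by rw [ht]; group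
      rw [this, h]; group
    exact no_pairs S e g z hgz hz x y hx2 hx1 hy2 hxy
  have hR3c : ∑ x ∈ B', ((b x : ℂ) ^ 2 / (d x : ℂ)) * (c x : ℂ) = 0 := by
    have h0 := Cfsg.Agent.Lib.Helper16_BlockOrth.blockPart_eq_zero hM hB (theta t) u hθ u u hPu
      (IsConj.refl u)
    unfold blockPart at h0
    rw [hS] at h0
    have hK : ((Subgroup.centralizer ({t} : Set G)).index : ℂ) ≠ 0 := by
      rw [Nat.cast_ne_zero]; exact Subgroup.index_ne_zero_of_finite
    have hGne : (Nat.card G : ℂ) ≠ 0 := by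
      rw [Nat.cast_ne_zero]; exact Nat.card_pos.ne'
    have h1 : ∑ x ∈ B, classInner (theta t) (x : G → ℂ) * (x : G → ℂ) u =
        ((Nat.card G : ℂ)⁻¹ * ((Subgroup.centralizer ({t} : Set G)).index : ℂ) ^ 2) *
          ∑ x ∈ B, ((b x : ℂ) ^ 2 / (d x : ℂ)) * (c x : ℂ) := by
      rw [Finset.mul_sum]
      refine Finset.sum_congr rfl fun x _ => ?_
      rw [classInner_theta, hb x, hc x, hd x]
      simp only [map_div₀, map_mul, map_pow, map_natCast, map_intCast]
      ring
    rw [h1] at h0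
    have h2 : ∑ x ∈ B, ((b x : ℂ) ^ 2 / (d x : ℂ)) * (c x : ℂ) = 0 := by
      rcases mul_eq_zero.mp h0 with h | h
      · exfalso
        exact (mul_ne_zero (inv_ne_zero hGne) (pow_ne_zero 2 hK)) h
      · exact h
    rw [← h2, hB'def]
    apply Finset.sum_filter_of_ne
    intro x _ hne hcx
    apply hne
    rw [hcx]; simp
  -- clear denominators
  have hda : ((d χa : ℕ) : ℂ) ≠ 0 := by
    rw [Nat.cast_ne_zero]; exact (hdpos χa).ne'
  have hdb : ((d χb : ℕ) : ℂ) ≠ 0 := by
    rw [Nat.cast_ne_zero]; exact (hdpos χb).ne'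
  have hdc : ((d χc : ℕ) : ℂ) ≠ 0 := by
    rw [Nat.cast_ne_zero]; exact (hdpos χc).ne'
  have hR3 : (d χa : ℤ) * (d χb : ℤ) * (d χc : ℤ) + b χa ^ 2 * (d χb : ℤ) * (d χc : ℤ) +
      c χb * b χb ^ 2 * (d χa : ℤ) * (d χc : ℤ) - b χc ^ 2 * (d χa : ℤ) * (d χb : ℤ) = 0 := by
    have h1 : e₁ ∉ ({χa, χb, χc} : Finset (IrrCharacter G)) := by
      simp [hae.symm, hbe'.symm, hce'.symm]
    have h2 : χa ∉ ({χb, χc} : Finset (IrrCharacter G)) := by
      simp [hab, hac]
    have h3 : χb ∉ ({χc} : Finset (IrrCharacter G)) := by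
      simp [hbc]
    rw [hSeq, Finset.sum_insert h1, Finset.sum_insert h2, Finset.sum_insert h3,
      Finset.sum_singleton, hce, hva, hvc, hbe] at hR3c
    have hde' : ((d e₁ : ℕ) : ℂ) = 1 := by exact_mod_cast hde
    rw [hde'] at hR3c
    have h4 : (((d χa : ℤ) * (d χb : ℤ) * (d χc : ℤ) + b χa ^ 2 * (d χb : ℤ) * (d χc : ℤ) +
      c χb * b χb ^ 2 * (d χa : ℤ) * (d χc : ℤ) - b χc ^ 2 * (d χa : ℤ) * (d χb : ℤ) : ℤ) : ℂ)
        = 0 := by
      push_cast
      push_cast at hR3c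
      field_simp at hR3c
      linear_combination hR3c
    exact_mod_cast h4
  have hfinal := Cfsg.Agent.Lib.Helper17_BSQ8Arith.core (c χb) (d χa) (d χb) (d χc)
    (b χa) (b χb) (b χc) (m χa) (m χb) (m χc) (r χb) (r χc) hvb
    (by exact_mod_cast hdpos χa) (by exact_mod_cast hdpos χb)
    (hm χa) (hm χb) (hm χc) (hr χb) (by have := hr χc; rw [hvc] at this; exact this)
    hR1 hR2 hR3
  refine ⟨χc, ?_, ?_⟩
  · rw [hb χc, hd χc, hfinal]
    push_cast
    rfl
  · rw [hc χc, hvc]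
    push_cast
    rfl

include S e in
/-- **Brauer–Suzuki for `Q₈`**: if a Sylow `2`-subgroup is quaternion of order `8` and `G` has no
nontrivial normal subgroup of odd order, then the centre of `G` has order `2`. -/
theorem card_center_of_Q8
    (hO : ∀ N : Subgroup G, N.Normal → Odd (Nat.card N) → N = ⊥) :
    Nat.card (Subgroup.center G) = 2 := by
  apply card_center_eq_two S e hO
  by_cases hnc : ∀ N : Subgroup G, N.Normal → ¬ Subgroup.IsComplement' N (S : Subgroup G)
  · obtain ⟨ψ, hψt, hψu⟩ := exists_key_char S e hnc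
    have hcl := isIrrCharacter_isClassFunction ψ.2
    obtain ⟨dψ, hdpos, hdψ⟩ := isIrrCharacter_one_eq_natCast ψ.2
    apply tt_mem_center_of_normal S e hO (Cfsg.Agent.S4835.irrKer ψ)
    · rw [Cfsg.Agent.S4835.mem_irrKer]
      exact hψt
    · intro s hs h hmem
      rw [Cfsg.Agent.S4835.mem_irrKer] at hmem
      obtain ⟨y, hy⟩ := isConj_iff.mp (isConj_uu S e hnc s hs h)
      rw [← hy, hcl _ y, hψu, hdψ] at hmem
      have h1 : ((-1 : ℤ) : ℂ) = ((dψ : ℤ) : ℂ) := by
        push_cast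
        exact hmem
      have h2 : (-1 : ℤ) = (dψ : ℤ) := by exact_mod_cast h1
      omega
  · push Not at hnc
    obtain ⟨N, hN, hc⟩ := hnc
    exact tt_mem_center_of_complement S e hO N hN hc

end

end Cfsg.Agent.Lib.Helper17_BSQ8
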