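import Mathlib.GroupTheory.Sylow

set_option autoImplicit false

namespace Cfsg.Agent.Lib.Helper2_Sylow

open Subgroup
open scoped Pointwise

section
variable {G : Type*} [Group G] {p : ℕ}

theorem mem_smul_sylow_iff (g x : G) (P : Sylow p G) :
    g * x * g⁻¹ ∈ (g • P : Sylow p G) ↔ x ∈ P := by
  show g * x * g⁻¹ ∈ MulAut.conj g • (P : Subgroup G) ↔ x ∈ (P : Subgroup G)
  rw [← MulAut.conj_apply, ← MulAut.smul_def]
  exact Subgroup.smul_mem_pointwise_smul_iff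

theorem mem_smul_sylow_iff' (g x : G) (P : Sylow p G) :
    x ∈ (g • P : Sylow p G) ↔ g⁻¹ * x * g ∈ P := by
  rw [← mem_smul_sylow_iff g (g⁻¹ * x * g) P]
  simp [mul_assoc]

end

variable {G : Type*} [Group G] [Finite G] {p : ℕ} [Fact p.Prime]

/-- Two `p`-subgroups of a subgroup `C` can be moved into a common Sylow `p`-subgroup of `G`
after conjugating one of them by an element of `C`. -/
theorem exists_mem_conj_le_sylow (C A B : Subgroup G) (hA : IsPGroup p A) (hB : IsPGroup p B)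
    (hAC : A ≤ C) (hBC : B ≤ C) :
    ∃ c ∈ C, ∃ Q : Sylow p G, A ≤ Q ∧ ∀ b ∈ B, c * b * c⁻¹ ∈ Q := by
  obtain ⟨R, hR⟩ := (hA.comap_subtype (K := C)).exists_le_sylow
  obtain ⟨R', hR'⟩ := (hB.comap_subtype (K := C)).exists_le_sylow
  obtain ⟨c, hc⟩ := MulAction.exists_smul_eq C R' R
  have hRp : IsPGroup p ((R : Subgroup C).map C.subtype) := R.2.map _
  obtain ⟨Q, hQ⟩ := hRp.exists_le_sylow
  refine ⟨c, c.2, Q, ?_, ?_⟩
  · intro a ha
    exact hQ ⟨⟨a, hAC ha⟩, hR (mem_subgroupOf.mpr ha), rfl⟩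
  · intro b hb
    have h1 : (⟨b, hBC hb⟩ : C) ∈ R' := hR' (mem_subgroupOf.mpr hb)
    have h2 : c * ⟨b, hBC hb⟩ * c⁻¹ ∈ R := by
      rw [← hc]
      exact (mem_smul_sylow_iff c _ R').mpr h1
    exact hQ ⟨_, h2, rfl⟩

/-- Every Sylow `p`-subgroup is a conjugate of a given one; membership form. -/
theorem exists_conj_sylow (P Q : Sylow p G) : ∃ g : G, ∀ x : G, x ∈ Q ↔ g⁻¹ * x * g ∈ P := by
  obtain ⟨g, rfl⟩ := MulAction.exists_smul_eq G P Q
  exact ⟨g, fun x => mem_smul_sylow_iff' g x P⟩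

end Cfsg.Agent.Lib.Helper2_Sylow
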