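import Mathlib.GroupTheory.Sylow
import Mathlib.GroupTheory.Nilpotent
import Mathlib.GroupTheory.Transfer
import Cfsg.Prelude.Def_Solvable

set_option autoImplicit false
open scoped Pointwise

namespace Cfsg.Agent.Lib.Helper50_Basic

/-- Sylow conjugacy inside a subgroup `K`, stated at the level of `G`. -/
theorem sylow_conj_in_subgroup {G : Type*} [Group G] [Finite G] {p : ℕ} [Fact p.Prime]
    {K R₀ Q : Subgroup G} (hR₀ : IsPGroup p R₀)
    (hidx : ¬ p ∣ R₀.relIndex K) (hQ : IsPGroup p Q) (hQK : Q ≤ K) :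
    ∃ r ∈ K, Q ≤ R₀.map (MulAut.conj r).toMonoidHom := by
  have hR₀' : IsPGroup p (R₀.subgroupOf K) := hR₀.comap_subtype
  let S₀ : Sylow p K := hR₀'.toSylow hidx
  have hQ' : IsPGroup p (Q.subgroupOf K) := hQ.comap_subtype
  obtain ⟨S, hS⟩ := hQ'.exists_le_sylow
  obtain ⟨r, hr⟩ := MulAction.exists_smul_eq K S₀ S
  refine ⟨r, r.2, ?_⟩
  intro q hq
  have hqS : (⟨q, hQK hq⟩ : K) ∈ S := hS (by simpa [Subgroup.mem_subgroupOf] using hq)
  rw [← hr] at hqS
  have h2 : (⟨q, hQK hq⟩ : K) ∈ MulAut.conj r • (S₀ : Subgroup K) := hqS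
  rw [Subgroup.mem_pointwise_smul_iff_inv_smul_mem] at h2
  have h3 : (MulAut.conj r)⁻¹ • (⟨q, hQK hq⟩ : K) ∈ R₀.subgroupOf K := h2
  rw [Subgroup.mem_subgroupOf] at h3
  refine ⟨_, h3, ?_⟩
  simp [MulAut.smul_def, MulAut.conj_apply, mul_assoc]

theorem relIndex_sup_normal {G : Type*} [Group G] [Finite G] (H N : Subgroup G) [N.Normal] :
    H.relIndex (H ⊔ N) = H.relIndex N := by
  have c1 := Subgroup.relIndex_mul_relIndex (H := H ⊓ N) (K := H) (L := H ⊔ N) inf_le_left le_sup_left
  have c2 := Subgroup.relIndex_mul_relIndex (H := H ⊓ N) (K := N) (L := H ⊔ N) inf_le_right le_sup_right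
  have e1 : N.relIndex (H ⊔ N) = (H ⊓ N).relIndex H := by
    rw [Subgroup.relIndex_sup_right, Subgroup.inf_relIndex_left]
  have e2 : (H ⊓ N).relIndex N = H.relIndex N := Subgroup.inf_relIndex_right H N
  rw [e1, e2, ← c1, mul_comm] at c2
  have hne : (H ⊓ N).relIndex H ≠ 0 := by
    rw [Subgroup.relIndex]; exact Subgroup.index_ne_zero_of_finite
  exact (Nat.eq_of_mul_eq_mul_left (Nat.pos_of_ne_zero hne) c2).symm

/-- If two conjugates of a subgroup coincide, the quotient of the conjugating elements normalizes. -/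
theorem mem_normalizer_of_map_conj_eq {G : Type*} [Group G] {P : Subgroup G} {g r : G}
    (heq : P.map (MulAut.conj g).toMonoidHom = P.map (MulAut.conj r).toMonoidHom) :
    r⁻¹ * g ∈ Subgroup.normalizer (P : Set G) := by
  rw [Subgroup.mem_normalizer_iff]
  intro h
  have e1 : ∀ h, h ∈ P → r⁻¹ * g * h * (r⁻¹ * g)⁻¹ ∈ P := by
    intro h hh
    have : g * h * g⁻¹ ∈ P.map (MulAut.conj r).toMonoidHom := by
      rw [← heq]; exact ⟨h, hh, by simp⟩
    obtain ⟨b, hb, hbe⟩ := this
    simp only [MulEquiv.coe_toMonoidHom, MulAut.conj_apply] at hbe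
    have : r⁻¹ * g * h * (r⁻¹ * g)⁻¹ = b := by
      calc r⁻¹ * g * h * (r⁻¹ * g)⁻¹ = r⁻¹ * (g * h * g⁻¹) * r := by group
        _ = r⁻¹ * (r * b * r⁻¹) * r := by rw [hbe]
        _ = b := by group
    rw [this]; exact hb
  have e2 : ∀ h, r⁻¹ * g * h * (r⁻¹ * g)⁻¹ ∈ P → h ∈ P := by
    intro h hh
    have : r * (r⁻¹ * g * h * (r⁻¹ * g)⁻¹) * r⁻¹ ∈ P.map (MulAut.conj g).toMonoidHom := by
      rw [heq]; exact ⟨_, hh, by simp⟩
    obtain ⟨b, hb, hbe⟩ := this
    simp only [MulEquiv.coe_toMonoidHom, MulAut.conj_apply] at hbe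
    have : h = b := by
      have e : g * b * g⁻¹ = g * h * g⁻¹ := by rw [hbe]; group
      have : g⁻¹ * (g * b * g⁻¹) * g = g⁻¹ * (g * h * g⁻¹) * g := by rw [e]
      simpa [mul_assoc] using this.symm
    rw [this]; exact hb
  exact ⟨e1 h, e2 h⟩

/-- A conjugate of a finite subgroup contained in the subgroup: the element normalizes. -/
theorem mem_normalizer_of_map_conj_le {G : Type*} [Group G] [Finite G] {H : Subgroup G} {g : G}
    (hle : H.map (MulAut.conj g).toMonoidHom ≤ H) : g ∈ Subgroup.normalizer (H : Set G) := by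
  have heq : H.map (MulAut.conj g).toMonoidHom = H := by
    apply Subgroup.eq_of_le_of_card_ge hle
    rw [Subgroup.card_map_of_injective (MulAut.conj g).injective]
  rw [Subgroup.mem_normalizer_iff]
  intro h
  constructor
  · intro hh; rw [← heq]; exact ⟨h, hh, rfl⟩
  · intro hh
    rw [← heq] at hh
    obtain ⟨b, hb, hbe⟩ := hh
    simp only [MulEquiv.coe_toMonoidHom, MulAut.conj_apply] at hbe
    have : h = b := by
      have : g⁻¹ * (g * b * g⁻¹) * g = g⁻¹ * (g * h * g⁻¹) * g := by rw [hbe]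
      simpa [mul_assoc] using this.symm
    rw [this]; exact hb

/-- In a finite `p`-group `T`, a subgroup `H` with `N_T(H) ≤ H` is all of `T`. -/
theorem le_of_pgroup_of_normalizer_le {G : Type*} [Group G] [Finite G] {p : ℕ} [Fact p.Prime]
    {H T : Subgroup G} (hT : IsPGroup p T) (hHT : H ≤ T)
    (h : T ⊓ Subgroup.normalizer (H : Set G) ≤ H) : T ≤ H := by
  have : Group.IsNilpotent T := hT.isNilpotent
  have hnc : NormalizerCondition T := Group.normalizerCondition_of_isNilpotent
  rw [normalizerCondition_iff_only_full_group_self_normalizing] at hnc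
  have h1 : Subgroup.normalizer ((H.subgroupOf T : Subgroup T) : Set T) = H.subgroupOf T := by
    rw [← Subgroup.subgroupOf_normalizer_eq hHT]
    apply le_antisymm
    · intro t ht
      rw [Subgroup.mem_subgroupOf] at ht ⊢
      exact h ⟨t.2, ht⟩
    · intro t ht
      rw [Subgroup.mem_subgroupOf] at ht ⊢
      exact Subgroup.le_normalizer ht
  have h2 := hnc _ h1
  rwa [Subgroup.subgroupOf_eq_top] at h2

/-- The join of two subgroups, one normal, of orders coprime to `p` has order coprime to `p`. -/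
theorem coprime_card_sup {G : Type*} [Group G] [Finite G] {p : ℕ} (N₁ N₂ : Subgroup G) [N₂.Normal]
    (h₁ : (Nat.card N₁).Coprime p) (h₂ : (Nat.card N₂).Coprime p) :
    (Nat.card (N₁ ⊔ N₂ : Subgroup G)).Coprime p := by
  have e : Nat.card (N₁ ⊔ N₂ : Subgroup G) = Nat.card N₂ * N₂.relIndex N₁ := by
    have := Subgroup.relIndex_mul_relIndex (H := ⊥) (K := N₂) (L := N₁ ⊔ N₂) bot_le le_sup_right
    rw [Subgroup.relIndex_bot_left, Subgroup.relIndex_bot_left, Subgroup.relIndex_sup_right] at this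
    exact this.symm
  rw [e]
  exact Nat.Coprime.mul_left h₂ (Nat.Coprime.coprime_dvd_left (Subgroup.relIndex_dvd_card _ _) h₁)

/-- `O_{p'}(G)` of a finite group has order coprime to `p`. -/
theorem pPrimeCore_card_coprime {G : Type*} [Group G] [Finite G] (p : ℕ) :
    (Nat.card (Cfsg.pPrimeCore p G)).Coprime p := by
  classical
  have hfin : Set.Finite {N : Subgroup G | N.Normal ∧ (Nat.card N).Coprime p} := Set.toFinite _
  have : Cfsg.pPrimeCore p G = hfin.toFinset.sup id := by
    rw [Cfsg.pPrimeCore, Finset.sup_id_eq_sSup, Set.Finite.coe_toFinset]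
  rw [this]
  have key : (hfin.toFinset.sup id).Normal ∧ (Nat.card (hfin.toFinset.sup id : Subgroup G)).Coprime p := by
    refine Finset.sup_induction (p := fun N : Subgroup G => N.Normal ∧ (Nat.card N).Coprime p) ?_ ?_ ?_
    · refine ⟨inferInstance, ?_⟩
      simp
    · rintro a ⟨ha, ha'⟩ b ⟨hb, hb'⟩
      exact ⟨inferInstance, coprime_card_sup a b ha' hb'⟩
    · intro b hb
      simpa using hb
  exact key.2

end Cfsg.Agent.Lib.Helper50_Basic
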