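import Mathlib

/-!
# Combinatorial core of the exceptional-characters argument (helper3)

Integer vectors `w i` with `(w 0 - w k)·(w 0 - w l) = 1 + δ_{kl}` and degree-zero differences are
of the form `w i - w j = ε (e_{θ i} - e_{θ j})`.
-/

set_option autoImplicit false

namespace Cfsg.Agent.Lib.Helper3_ExcComb

variable {I : Type*} [Fintype I] [DecidableEq I]

/-- the standard basis vector -/
def e (a : I) : I → ℤ := fun ψ => if ψ = a then 1 else 0

theorem sum_e_mul (a : I) (f : I → ℤ) : ∑ ψ, e a ψ * f ψ = f a := by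
  simp [e]

/-- A vector of norm 2 and "degree" 0 is a difference of two distinct basis vectors. -/
theorem eq_sub_of_norm_two (v d : I → ℤ) (hd : ∀ ψ, 0 < d ψ) (h2 : ∑ ψ, v ψ * v ψ = 2)
    (h0 : ∑ ψ, v ψ * d ψ = 0) : ∃ a b : I, a ≠ b ∧ ∀ ψ, v ψ = e a ψ - e b ψ := by
  -- a positive entry
  have hpos : ∃ a, 0 < v a := by
    by_contra hcon
    push Not at hcon
    have h1 : ∀ ψ ∈ Finset.univ, v ψ * d ψ ≤ 0 := fun ψ _ =>
      mul_nonpos_of_nonpos_of_nonneg (hcon ψ) (hd ψ).le
    have h3 := (Finset.sum_eq_zero_iff_of_nonpos h1).mp h0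
    have h4 : ∀ ψ, v ψ = 0 := by
      intro ψ
      have := h3 ψ (Finset.mem_univ ψ)
      rcases mul_eq_zero.mp this with h | h
      · exact h
      · exact absurd h (hd ψ).ne'
    simp [h4] at h2
  have hneg : ∃ b, v b < 0 := by
    by_contra hcon
    push Not at hcon
    have h1 : ∀ ψ ∈ Finset.univ, 0 ≤ v ψ * d ψ := fun ψ _ => mul_nonneg (hcon ψ) (hd ψ).le
    have h3 := (Finset.sum_eq_zero_iff_of_nonneg h1).mp h0
    have h4 : ∀ ψ, v ψ = 0 := by
      intro ψ
      have := h3 ψ (Finset.mem_univ ψ)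
      rcases mul_eq_zero.mp this with h | h
      · exact h
      · exact absurd h (hd ψ).ne'
    simp [h4] at h2
  obtain ⟨a, ha⟩ := hpos
  obtain ⟨b, hb⟩ := hneg
  have hab : a ≠ b := by
    intro h
    rw [h] at ha
    omega
  have hsplit : ∑ ψ, v ψ * v ψ =
      v a * v a + (v b * v b + ∑ ψ ∈ (Finset.univ.erase a).erase b, v ψ * v ψ) := by
    rw [← Finset.add_sum_erase Finset.univ (fun ψ => v ψ * v ψ) (Finset.mem_univ a),
      ← Finset.add_sum_erase (Finset.univ.erase a) (fun ψ => v ψ * v ψ)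
        (Finset.mem_erase.mpr ⟨hab.symm, Finset.mem_univ b⟩)]
  have hrest : 0 ≤ ∑ ψ ∈ (Finset.univ.erase a).erase b, v ψ * v ψ :=
    Finset.sum_nonneg (fun ψ _ => mul_self_nonneg (v ψ))
  have ha1 : 1 ≤ v a * v a := by nlinarith
  have hb1 : 1 ≤ v b * v b := by nlinarith
  have hrest0 : ∑ ψ ∈ (Finset.univ.erase a).erase b, v ψ * v ψ = 0 := by omega
  have ha2 : v a * v a = 1 := by omega
  have hb2 : v b * v b = 1 := by omega
  have hva : v a = 1 := by nlinarith
  have hvb : v b = -1 := by nlinarith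
  have hother := (Finset.sum_eq_zero_iff_of_nonneg (fun ψ _ => mul_self_nonneg (v ψ))).mp hrest0
  refine ⟨a, b, hab, ?_⟩
  intro ψ
  by_cases h1 : ψ = a
  · subst h1
    simp [e, hva, hab]
  by_cases h2 : ψ = b
  · subst h2
    simp [e, hvb, h1]
  have := hother ψ (Finset.mem_erase.mpr ⟨h2, Finset.mem_erase.mpr ⟨h1, Finset.mem_univ ψ⟩⟩)
  have h3 : v ψ = 0 := by
    rcases mul_eq_zero.mp this with h | h <;> exact h
  simp [e, h1, h2, h3]

theorem inner_sub_sub (a b c d : I) :
    ∑ ψ, (e a ψ - e b ψ) * (e c ψ - e d ψ) =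
      ((if a = c then 1 else 0) - (if a = d then 1 else 0)) -
        ((if b = c then 1 else 0) - (if b = d then 1 else 0)) := by
  have h1 : ∀ ψ, (e a ψ - e b ψ) * (e c ψ - e d ψ) =
      e a ψ * (e c ψ - e d ψ) - e b ψ * (e c ψ - e d ψ) := fun ψ => by ring
  simp_rw [h1]
  rw [Finset.sum_sub_distrib, sum_e_mul, sum_e_mul]
  simp only [e]

/-- Two differences of basis vectors with inner product one share exactly one end, on the same
side. -/
theorem share_of_inner_eq_one (a b c d : I) (hab : a ≠ b) (hcd : c ≠ d)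
    (h : ∑ ψ, (e a ψ - e b ψ) * (e c ψ - e d ψ) = 1) :
    (a = c ∧ b ≠ d) ∨ (b = d ∧ a ≠ c) := by
  rw [inner_sub_sub] at h
  by_cases h1 : a = c
  · by_cases h2 : b = d
    · subst h1 h2
      simp [hab, hab.symm] at h
    · left
      exact ⟨h1, h2⟩
  · by_cases h2 : b = d
    · right
      exact ⟨h2, h1⟩
    · exfalso
      rw [if_neg h1, if_neg h2] at h
      by_cases h3 : a = d
      · by_cases h4 : b = c
        · rw [if_pos h3, if_pos h4] at h
          omega
        · rw [if_pos h3, if_neg h4] at h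
          omega
      · by_cases h4 : b = c
        · rw [if_neg h3, if_pos h4] at h
          omega
        · rw [if_neg h3, if_neg h4] at h
          omega

/-- The combinatorial core of the exceptional characters theorem. -/
theorem exists_sign_of_gram {n : ℕ} (hn : 2 ≤ n) (w : Fin n → I → ℤ) (d : I → ℤ)
    (hd : ∀ ψ, 0 < d ψ)
    (h2 : ∀ k : Fin n, k ≠ ⟨0, by omega⟩ →
      ∑ ψ, (w ⟨0, by omega⟩ ψ - w k ψ) * (w ⟨0, by omega⟩ ψ - w k ψ) = 2)
    (h0 : ∀ k : Fin n, k ≠ ⟨0, by omega⟩ → ∑ ψ, (w ⟨0, by omega⟩ ψ - w k ψ) * d ψ = 0)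
    (h1 : ∀ k l : Fin n, k ≠ ⟨0, by omega⟩ → l ≠ ⟨0, by omega⟩ → k ≠ l →
      ∑ ψ, (w ⟨0, by omega⟩ ψ - w k ψ) * (w ⟨0, by omega⟩ ψ - w l ψ) = 1) :
    ∃ ε : ℤ, (ε = 1 ∨ ε = -1) ∧ ∃ θ : Fin n → I, Function.Injective θ ∧
      ∀ i j ψ, w i ψ - w j ψ = ε * (e (θ i) ψ - e (θ j) ψ) := by
  set z : Fin n := ⟨0, by omega⟩ with hz
  set k1 : Fin n := ⟨1, by omega⟩ with hk1
  have hk1z : k1 ≠ z := by
    intro h
    have := congrArg Fin.val h
    simp [hz, hk1] at this
  obtain ⟨θ0, -, -, -⟩ := eq_sub_of_norm_two (fun ψ => w z ψ - w k1 ψ) d hd (h2 k1 hk1z) (h0 k1 hk1z)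
  have hex : ∀ k : Fin n, ∃ a b : I, k ≠ z → (a ≠ b ∧ ∀ ψ, w z ψ - w k ψ = e a ψ - e b ψ) := by
    intro k
    by_cases hk : k = z
    · exact ⟨θ0, θ0, fun h => absurd hk h⟩
    · obtain ⟨a, b, hab, hv⟩ := eq_sub_of_norm_two (fun ψ => w z ψ - w k ψ) d hd (h2 k hk) (h0 k hk)
      exact ⟨a, b, fun _ => ⟨hab, hv⟩⟩
  choose a b hab using hex
  have hpair : ∀ k l, k ≠ z → l ≠ z → k ≠ l →
      (a k = a l ∧ b k ≠ b l) ∨ (b k = b l ∧ a k ≠ a l) := by
    intro k l hk hl hkl
    apply share_of_inner_eq_one _ _ _ _ (hab k hk).1 (hab l hl).1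
    have := h1 k l hk hl hkl
    simp_rw [(hab k hk).2, (hab l hl).2] at this
    exact this
  by_cases hall : ∀ k, k ≠ z → a k = a k1
  · -- `ε = 1`
    refine ⟨1, Or.inl rfl, fun k => if k = z then a k1 else b k, ?_, ?_⟩
    · intro k l hkl
      simp only at hkl
      by_cases hk : k = z
      · by_cases hl : l = z
        · rw [hk, hl]
        · rw [if_pos hk, if_neg hl] at hkl
          exact absurd ((hall l hl).trans hkl) (hab l hl).1
      · by_cases hl : l = z
        · rw [if_neg hk, if_pos hl] at hkl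
          exact absurd ((hall k hk).trans hkl.symm) (hab k hk).1
        · rw [if_neg hk, if_neg hl] at hkl
          by_contra hne
          rcases hpair k l hk hl hne with ⟨_, h⟩ | ⟨_, h⟩
          · exact h hkl
          · exact h ((hall k hk).trans (hall l hl).symm)
    · intro i j ψ
      have key : ∀ k, w z ψ - w k ψ =
          e (a k1) ψ - e (if k = z then a k1 else b k) ψ := by
        intro k
        by_cases hk : k = z
        · rw [if_pos hk, hk]
          ring
        · rw [if_neg hk, (hab k hk).2, hall k hk]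
      have hi := key i
      have hj := key j
      simp only
      linarith
  · -- `ε = -1`
    push Not at hall
    obtain ⟨k0, hk0, hk0a⟩ := hall
    have hk0k1 : k0 ≠ k1 := fun h => hk0a (by rw [h])
    have e2 : b k0 = b k1 := by
      rcases hpair k0 k1 hk0 hk1z hk0k1 with ⟨h, _⟩ | ⟨h, _⟩
      · exact absurd h hk0a
      · exact h
    have hb : ∀ k, k ≠ z → b k = b k1 := by
      intro k hk
      by_cases hkk1 : k = k1
      · rw [hkk1]
      by_contra hbk
      have e1 : a k = a k1 := by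
        rcases hpair k k1 hk hk1z hkk1 with ⟨h, _⟩ | ⟨h, _⟩
        · exact h
        · exact absurd h hbk
      have hkk0 : k ≠ k0 := fun h => hk0a (by rw [← h]; exact e1)
      rcases hpair k k0 hk hk0 hkk0 with ⟨h, _⟩ | ⟨h, _⟩
      · exact hk0a (h.symm.trans e1)
      · exact hbk (h.trans e2)
    refine ⟨-1, Or.inr rfl, fun k => if k = z then b k1 else a k, ?_, ?_⟩
    · intro k l hkl
      simp only at hkl
      by_cases hk : k = z
      · by_cases hl : l = z
        · rw [hk, hl]
        · rw [if_pos hk, if_neg hl] at hkl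
          exact absurd (hkl.symm.trans (hb l hl).symm) (hab l hl).1
      · by_cases hl : l = z
        · rw [if_neg hk, if_pos hl] at hkl
          exact absurd (hkl.trans (hb k hk).symm) (hab k hk).1
        · rw [if_neg hk, if_neg hl] at hkl
          by_contra hne
          rcases hpair k l hk hl hne with ⟨_, h⟩ | ⟨_, h⟩
          · exact h ((hb k hk).trans (hb l hl).symm)
          · exact h hkl
    · intro i j ψ
      have key : ∀ k, w z ψ - w k ψ =
          e (if k = z then b k1 else a k) ψ - e (b k1) ψ := by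
        intro k
        by_cases hk : k = z
        · rw [if_pos hk, hk]
          ring
        · rw [if_neg hk, (hab k hk).2, hb k hk]
      have hi := key i
      have hj := key j
      simp only
      linarith

end Cfsg.Agent.Lib.Helper3_ExcComb
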