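import Mathlib
import Cfsg.Prelude.Def_Characters
import Cfsg.Agent.Lib.Helper3_CharColumn
import Cfsg.Agent.Lib.Helper3_ExcComb
import Cfsg.Agent.Lib.Helper75_IndChar
import Cfsg.Agent.Lib.Helper75_TISubset
import Cfsg.Agent.Lib.Helper80_CharInd

/-!
# Exceptional characters (helper3)
-/

set_option autoImplicit false
set_option linter.unusedSectionVars false

namespace Cfsg.Agent.Lib.Helper3_Exceptional

open scoped ComplexConjugate
open Cfsg.Agent.Lib.Helper3_CharBridge Cfsg.Agent.Lib.Helper3_CharOrtho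
  Cfsg.Agent.Lib.Helper3_CharComplete Cfsg.Agent.Lib.Helper3_CharColumn
open Cfsg.Agent.Lib.Helper75_Induced Cfsg.Agent.Lib.Helper75_CharArith
  Cfsg.Agent.Lib.Helper75_IndChar Cfsg.Agent.Lib.Helper75_TISubset
open Cfsg.Agent.Lib.Helper3_ExcComb

variable {G : Type*} [Group G] [Fintype G]

theorem indFun_sub' (H : Subgroup G) (θ φ : H → ℂ) :
    Cfsg.indFun H (θ - φ) = Cfsg.indFun H θ - Cfsg.indFun H φ := by
  have : θ - φ = θ + (-1 : ℂ) • φ := by
    funext x
    simp [sub_eq_add_neg]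
  rw [this, indFun_add, indFun_smul]
  funext x
  simp [sub_eq_add_neg]

theorem classInner_sub_right' (φ ψ₁ ψ₂ : G → ℂ) :
    Cfsg.classInner φ (ψ₁ - ψ₂) = Cfsg.classInner φ ψ₁ - Cfsg.classInner φ ψ₂ := by
  have : ψ₁ - ψ₂ = ψ₁ + (-1 : ℂ) • ψ₂ := by
    funext x
    simp [sub_eq_add_neg]
  rw [this, classInner_add_right, classInner_smul_right]
  simp [sub_eq_add_neg]

/-- **Exceptional characters**. -/
theorem exceptional (S : Set G)
    (hTI : ∀ g : G, g ∉ Subgroup.normalizer S → ∀ s ∈ S, g * s * g⁻¹ ∈ S → s = 1)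
    (n : ℕ) (hn : 2 ≤ n) (χ : Fin n → (Subgroup.normalizer S → ℂ))
    (hirr : ∀ i, Cfsg.IsIrrCharacter (Subgroup.normalizer S) (χ i))
    (hinj : Function.Injective χ)
    (hvan : ∀ i, ∀ x : Subgroup.normalizer S, (x : G) ∉ S → χ i x = 0)
    (hdeg : ∀ i j, χ i 1 = χ j 1) :
    ∃ ε : ℂ, (ε = 1 ∨ ε = -1) ∧ ∃ θ : Fin n → (G → ℂ), (∀ i, Cfsg.IsIrrCharacter G (θ i)) ∧
      Function.Injective θ ∧ ∀ i j, Cfsg.indFun (Subgroup.normalizer S) (χ i) -
        Cfsg.indFun (Subgroup.normalizer S) (χ j) = ε • (θ i - θ j) := by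
  classical
  have : Fintype (Subgroup.normalizer S) := Fintype.ofFinite _
  set Φ : Fin n → G → ℂ := fun i => Cfsg.indFun (Subgroup.normalizer S) (χ i) with hΦdef
  have hΦ : ∀ i, Cfsg.IsCharacter G (Φ i) := fun i =>
    isCharacter_indFun _ (isCharacter_of_isIrrCharacter (hirr i))
  choose w hw hΦsum using fun i => exists_multiplicities (hΦ i)
  choose deg hdegpos hdeg' using fun ψ : Cfsg.IrrCharacter G => irr_one_eq_natCast ψ.2
  have hcoef : ∀ i j (ψ : Cfsg.IrrCharacter G),
      Cfsg.classInner (Φ i - Φ j) ψ = (((w i ψ : ℤ) - (w j ψ : ℤ) : ℤ) : ℂ) := by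
    intro i j ψ
    rw [classInner_sub_left, hw, hw]
    push_cast
    rfl
  have hcl : ∀ i j, Cfsg.IsClassFunction G (Φ i - Φ j) := fun i j =>
    isClassFunction_sub (isClassFunction_of_isCharacter (hΦ i))
      (isClassFunction_of_isCharacter (hΦ j))
  -- inner products in terms of the coefficient vectors
  have hinner : ∀ i j k l, Cfsg.classInner (Φ i - Φ j) (Φ k - Φ l) =
      ((∑ ψ : Cfsg.IrrCharacter G, ((w i ψ : ℤ) - (w j ψ : ℤ)) * ((w k ψ : ℤ) - (w l ψ : ℤ)) : ℤ)
        : ℂ) := by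
    intro i j k l
    rw [classInner_eq_sum_irr (hcl i j)]
    push_cast
    apply Finset.sum_congr rfl
    intro ψ _
    rw [hcoef, ← classInner_conj_symm, hcoef]
    push_cast
    simp
  -- the isometry
  have hiso : ∀ i j k l, Cfsg.classInner (Φ i - Φ j) (Φ k - Φ l) =
      Cfsg.classInner (χ i - χ j) (χ k - χ l) := by
    intro i j k l
    rw [hΦdef]
    simp only
    rw [← indFun_sub', ← indFun_sub']
    apply classInner_indFun_of_TI S hTI
    · exact isClassFunction_sub (isClassFunction_of_isIrrCharacter (hirr k))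
        (isClassFunction_of_isIrrCharacter (hirr l))
    · intro x hx
      rw [Pi.sub_apply, hvan i x hx, hvan j x hx, sub_zero]
    · intro x hx
      rw [Pi.sub_apply, hvan k x hx, hvan l x hx, sub_zero]
    · rw [Pi.sub_apply, hdeg i j, sub_self]
  have hχinner : ∀ i j k l, Cfsg.classInner (χ i - χ j) (χ k - χ l) =
      ((if i = k then 1 else 0) - (if i = l then 1 else 0)) -
        ((if j = k then 1 else 0) - (if j = l then 1 else 0)) := by
    intro i j k l
    rw [classInner_sub_left, classInner_sub_right', classInner_sub_right',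
      classInner_irr (hirr i) (hirr k), classInner_irr (hirr i) (hirr l),
      classInner_irr (hirr j) (hirr k), classInner_irr (hirr j) (hirr l)]
    simp only [hinj.eq_iff]
  set z : Fin n := ⟨0, by omega⟩ with hz
  -- apply the combinatorial lemma
  obtain ⟨ε, hε, θ, hθinj, hθ⟩ := exists_sign_of_gram hn (fun i ψ => (w i ψ : ℤ))
    (fun ψ => (deg ψ : ℤ)) (fun ψ => by exact_mod_cast hdegpos ψ)
    (by
      intro k hk
      have hk' : k ≠ z := hk
      have h1 := hinner z k z k
      rw [hiso, hχinner] at h1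
      simp only [if_true, if_neg hk', if_neg (Ne.symm hk')] at h1
      have h2 : ((2 : ℤ) : ℂ) = ((∑ ψ : Cfsg.IrrCharacter G,
          ((w z ψ : ℤ) - (w k ψ : ℤ)) * ((w z ψ : ℤ) - (w k ψ : ℤ)) : ℤ) : ℂ) := by
        rw [← h1]
        norm_num
      exact_mod_cast h2.symm)
    (by
      intro k hk
      have h1 : (Φ z - Φ k) 1 = 0 := by
        rw [Pi.sub_apply, hΦdef]
        simp only
        rw [Cfsg.Agent.Lib.Helper80_CharInd.indFun_one, Cfsg.Agent.Lib.Helper80_CharInd.indFun_one,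
          hdeg z k, sub_self]
      have h2 : (Φ z - Φ k) 1 = ((∑ ψ : Cfsg.IrrCharacter G,
          ((w z ψ : ℤ) - (w k ψ : ℤ)) * (deg ψ : ℤ) : ℤ) : ℂ) := by
        rw [Pi.sub_apply]
        conv_lhs => rw [hΦsum z, hΦsum k]
        simp only [Finset.sum_apply, Pi.smul_apply, smul_eq_mul, hdeg']
        rw [← Finset.sum_sub_distrib]
        push_cast
        apply Finset.sum_congr rfl
        intro ψ _
        ring
      rw [h2] at h1
      exact_mod_cast h1)
    (by
      intro k l hk hl hkl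
      have hk' : k ≠ z := hk
      have hl' : l ≠ z := hl
      have h1 := hinner z k z l
      rw [hiso, hχinner] at h1
      simp only [if_true, if_neg hk', if_neg (Ne.symm hl'), if_neg hkl] at h1
      have h2 : ((1 : ℤ) : ℂ) = ((∑ ψ : Cfsg.IrrCharacter G,
          ((w z ψ : ℤ) - (w k ψ : ℤ)) * ((w z ψ : ℤ) - (w l ψ : ℤ)) : ℤ) : ℂ) := by
        rw [← h1]
        norm_num
      exact_mod_cast h2.symm)
  refine ⟨(ε : ℂ), ?_, fun i => (θ i : G → ℂ), fun i => (θ i).2, ?_, ?_⟩
  · rcases hε with h | h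
    · left; rw [h]; norm_num
    · right; rw [h]; norm_num
  · intro i j hij
    exact hθinj (Subtype.ext hij)
  · intro i j
    show Φ i - Φ j = _
    conv_lhs => rw [hΦsum i, hΦsum j]
    rw [← Finset.sum_sub_distrib]
    have h1 : ∀ ψ : Cfsg.IrrCharacter G, (w i ψ : ℂ) • (ψ : G → ℂ) - (w j ψ : ℂ) • (ψ : G → ℂ) =
        (ε : ℂ) • ((if ψ = θ i then (ψ : G → ℂ) else 0) - (if ψ = θ j then (ψ : G → ℂ) else 0)) := by
      intro ψ
      have h2 := hθ i j ψ
      simp only [e] at h2
      have h3 : ((w i ψ : ℂ) - (w j ψ : ℂ)) =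
          (ε : ℂ) * ((if ψ = θ i then 1 else 0) - (if ψ = θ j then 1 else 0)) := by
        have := congrArg (fun x : ℤ => (x : ℂ)) h2
        push_cast at this
        exact this
      rw [← sub_smul, h3, mul_smul, sub_smul]
      congr 2
      · split_ifs <;> simp
      · split_ifs <;> simp
    simp_rw [h1]
    rw [← Finset.smul_sum, Finset.sum_sub_distrib, Finset.sum_ite_eq', Finset.sum_ite_eq']
    simp

end Cfsg.Agent.Lib.Helper3_Exceptional
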