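import Mathlib
import Cfsg.Prelude.Def_Characters
import Cfsg.Agent.Lib.Helper3_ExcComb

/-!
# A vector of norm three (helper55)

Combinatorial core for the Brauer–Suzuki generalized character `1 + χ₂ - χ₁`.
-/

set_option autoImplicit false

namespace Cfsg.Agent.Lib.Helper55_ExcTriple

open Cfsg.Agent.Lib.Helper3_ExcComb

variable {I : Type*} [Fintype I] [DecidableEq I]

/-- An integer vector of norm `3` with coefficient `1` at an index of degree `1` and total degree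
`0` is `e i₀ + e b - e a` with `d a = d b + 1`. -/
theorem eq_of_norm_three (v d : I → ℤ) (i₀ : I) (hd : ∀ ψ, 0 < d ψ)
    (h3 : ∑ ψ, v ψ * v ψ = 3) (hv0 : v i₀ = 1) (hd0 : d i₀ = 1) (h0 : ∑ ψ, v ψ * d ψ = 0) :
    ∃ a b : I, a ≠ i₀ ∧ b ≠ i₀ ∧ a ≠ b ∧ (∀ ψ, v ψ = e i₀ ψ + e b ψ - e a ψ) ∧
      d a = d b + 1 := by
  -- a negative entry
  have hneg : ∃ a, v a < 0 := by
    by_contra hcon
    push Not at hcon
    have h1 : ∀ ψ ∈ Finset.univ, 0 ≤ v ψ * d ψ := fun ψ _ => mul_nonneg (hcon ψ) (hd ψ).le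
    have h4 := (Finset.sum_eq_zero_iff_of_nonneg h1).mp h0 i₀ (Finset.mem_univ _)
    rw [hv0, hd0] at h4
    norm_num at h4
  obtain ⟨a, ha⟩ := hneg
  have hai : a ≠ i₀ := by
    intro h; rw [h, hv0] at ha; omega
  have hsplit : ∑ ψ, v ψ * v ψ =
      v i₀ * v i₀ + (v a * v a + ∑ ψ ∈ (Finset.univ.erase i₀).erase a, v ψ * v ψ) := by
    rw [← Finset.add_sum_erase Finset.univ (fun ψ => v ψ * v ψ) (Finset.mem_univ i₀),
      ← Finset.add_sum_erase (Finset.univ.erase i₀) (fun ψ => v ψ * v ψ)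
        (Finset.mem_erase.mpr ⟨hai, Finset.mem_univ a⟩)]
  have hrest : 0 ≤ ∑ ψ ∈ (Finset.univ.erase i₀).erase a, v ψ * v ψ :=
    Finset.sum_nonneg (fun ψ _ => mul_self_nonneg (v ψ))
  have ha1 : 1 ≤ v a * v a := by nlinarith
  rw [h3, hv0] at hsplit
  have ha2 : v a * v a = 1 := by
    have h4 : v a * v a ≤ 2 := by omega
    have h5 : v a * v a ≠ 2 := by
      intro h
      have h6 : -2 < v a := by nlinarith
      have h7 : v a = -1 := by omega
      rw [h7] at h; norm_num at h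
    omega
  have hva : v a = -1 := by nlinarith
  have hrest1 : ∑ ψ ∈ (Finset.univ.erase i₀).erase a, v ψ * v ψ = 1 := by omega
  -- find b
  obtain ⟨b, hbmem, hbne⟩ : ∃ b ∈ (Finset.univ.erase i₀).erase a, v b * v b ≠ 0 := by
    apply Finset.exists_ne_zero_of_sum_ne_zero
    rw [hrest1]; norm_num
  have hba : b ≠ a := (Finset.mem_erase.mp hbmem).1
  have hbi : b ≠ i₀ := (Finset.mem_erase.mp (Finset.mem_erase.mp hbmem).2).1
  have hsplit2 : ∑ ψ ∈ (Finset.univ.erase i₀).erase a, v ψ * v ψ =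
      v b * v b + ∑ ψ ∈ ((Finset.univ.erase i₀).erase a).erase b, v ψ * v ψ := by
    rw [← Finset.add_sum_erase _ (fun ψ => v ψ * v ψ) hbmem]
  have hrest2 : 0 ≤ ∑ ψ ∈ ((Finset.univ.erase i₀).erase a).erase b, v ψ * v ψ :=
    Finset.sum_nonneg (fun ψ _ => mul_self_nonneg (v ψ))
  have hb0 : 0 ≤ v b * v b := mul_self_nonneg _
  have hb1 : v b * v b = 1 := by
    have : 0 < v b * v b := lt_of_le_of_ne hb0 (Ne.symm hbne)
    omega
  have hrest0 : ∑ ψ ∈ ((Finset.univ.erase i₀).erase a).erase b, v ψ * v ψ = 0 := by omega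
  have hother := (Finset.sum_eq_zero_iff_of_nonneg (fun ψ _ => mul_self_nonneg (v ψ))).mp hrest0
  have hzero : ∀ ψ, ψ ≠ i₀ → ψ ≠ a → ψ ≠ b → v ψ = 0 := by
    intro ψ h1 h2 h3'
    have := hother ψ (Finset.mem_erase.mpr ⟨h3', Finset.mem_erase.mpr
      ⟨h2, Finset.mem_erase.mpr ⟨h1, Finset.mem_univ ψ⟩⟩⟩)
    rcases mul_eq_zero.mp this with h | h <;> exact h
  -- the degree sum
  have hdsplit : ∑ ψ, v ψ * d ψ = v i₀ * d i₀ + (v a * d a + (v b * d b +
      ∑ ψ ∈ ((Finset.univ.erase i₀).erase a).erase b, v ψ * d ψ)) := by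
    rw [← Finset.add_sum_erase Finset.univ (fun ψ => v ψ * d ψ) (Finset.mem_univ i₀),
      ← Finset.add_sum_erase (Finset.univ.erase i₀) (fun ψ => v ψ * d ψ)
        (Finset.mem_erase.mpr ⟨hai, Finset.mem_univ a⟩),
      ← Finset.add_sum_erase _ (fun ψ => v ψ * d ψ) hbmem]
  have hdrest : ∑ ψ ∈ ((Finset.univ.erase i₀).erase a).erase b, v ψ * d ψ = 0 := by
    apply Finset.sum_eq_zero
    intro ψ hψ
    have h1 := (Finset.mem_erase.mp hψ)
    have h2 := (Finset.mem_erase.mp h1.2)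
    have h3' := (Finset.mem_erase.mp h2.2)
    rw [hzero ψ h3'.1 h2.1 h1.1, zero_mul]
  rw [h0, hv0, hd0, hva, hdrest] at hdsplit
  have hvb : v b = 1 := by
    have h4 : v b = 1 ∨ v b = -1 := by
      have h5 : (v b - 1) * (v b + 1) = 0 := by nlinarith
      rcases mul_eq_zero.mp h5 with h | h
      · left; omega
      · right; omega
    rcases h4 with h | h
    · exact h
    · exfalso
      rw [h] at hdsplit
      have := hd a; have := hd b
      omega
  rw [hvb] at hdsplit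
  refine ⟨a, b, hai, hbi, hba.symm, ?_, by omega⟩
  intro ψ
  by_cases h1 : ψ = i₀
  · subst h1
    simp [e, hv0, hai.symm, hbi.symm]
  by_cases h2 : ψ = a
  · subst h2
    simp [e, hva, h1, hba.symm]
  by_cases h3' : ψ = b
  · subst h3'
    simp [e, hvb, h1, h2]
  simp [e, h1, h2, h3', hzero ψ h1 h2 h3']

end Cfsg.Agent.Lib.Helper55_ExcTriple
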