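import Mathlib
import Cfsg.Prelude.Def_Characters
import Cfsg.Agent.Lib.Helper55_ExcTriple
import Cfsg.Agent.Lib.Helper75_Induced
import Cfsg.Agent.Lib.Helper75_IndChar
import Cfsg.Agent.Lib.Helper75_LinChar
import Cfsg.Agent.Lib.Helper75_CharArith
import Cfsg.Agent.Lib.Helper3_CharOrtho
import Cfsg.Agent.Lib.Helper3_CharComplete
import Cfsg.Agent.Lib.Helper3_CharBridge
import Cfsg.Agent.Lib.Helper3_CharColumn
import Cfsg.Agent.Lib.Helper3_Exceptional
import Cfsg.Agent.Lib.Helper80_CharBasic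

/-!
# The Brauer–Suzuki generalized character `1 + χ₂ - χ₁` (helper55)

Abstract setting: `C ≤ Nn ≤ G` with `[Nn : C] = 2`, a linear character `lam` of `C` with
`lam² ≠ 1`, inverted by `Nn ∖ C`, such that the set `X = {x ∈ C : lam x ≠ 1}` is a T.I. set with
normalizer inside `Nn`.  Then `Θ = (1_C - lam)^G` equals `1_G + χ₂ - χ₁` for distinct non-principal
irreducible characters with `χ₁(1) = χ₂(1) + 1`; `Θ` vanishes off the conjugates of `X` and
`Θ x = 2 - lam x - (lam x)⁻¹` on `X`.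
-/

set_option autoImplicit false
set_option linter.unusedSectionVars false

namespace Cfsg.Agent.Lib.Helper55_BSChar

open scoped ComplexConjugate
open Cfsg.Agent.Lib.Helper3_CharBridge Cfsg.Agent.Lib.Helper3_CharOrtho
  Cfsg.Agent.Lib.Helper3_CharComplete Cfsg.Agent.Lib.Helper3_CharColumn
open Cfsg.Agent.Lib.Helper75_Induced Cfsg.Agent.Lib.Helper75_CharArith
  Cfsg.Agent.Lib.Helper75_IndChar Cfsg.Agent.Lib.Helper75_LinChar
open Cfsg.Agent.Lib.Helper3_ExcComb Cfsg.Agent.Lib.Helper55_ExcTriple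

variable {G : Type*} [Group G]

open scoped Classical in
/-- Extension of a function on a subgroup by the value `1`. -/
noncomputable def ext1 (C : Subgroup G) (lam : C → ℂ) : G → ℂ :=
  fun g => if h : g ∈ C then lam ⟨g, h⟩ else 1

theorem ext1_of_mem (C : Subgroup G) (lam : C → ℂ) {g : G} (hg : g ∈ C) :
    ext1 C lam g = lam ⟨g, hg⟩ := by
  unfold ext1; rw [dif_pos hg]

theorem ext1_of_not_mem (C : Subgroup G) (lam : C → ℂ) {g : G} (hg : g ∉ C) :
    ext1 C lam g = 1 := by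
  unfold ext1; rw [dif_neg hg]

theorem mem_of_ext1_ne_one (C : Subgroup G) (lam : C → ℂ) {g : G} (hg : ext1 C lam g ≠ 1) :
    g ∈ C := by
  by_contra h
  exact hg (ext1_of_not_mem C lam h)

theorem extendByZero_one_sub (C : Subgroup G) (lam : C → ℂ) (g : G) :
    Cfsg.extendByZero C (fun x => 1 - lam x) g = 1 - ext1 C lam g := by
  by_cases hg : g ∈ C
  · rw [extendByZero_of_mem C _ hg, ext1_of_mem C lam hg]
  · rw [extendByZero_of_not_mem C _ hg, ext1_of_not_mem C lam hg, sub_self]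

/-- conjugation by an element of `C` does not change `ext1`. -/
theorem ext1_conj_of_mem (C : Subgroup G) {lam : C → ℂ} (hlam : IsLin C lam) {g : G} (hg : g ∈ C)
    (x : G) : ext1 C lam (g⁻¹ * x * g) = ext1 C lam x := by
  by_cases hx : x ∈ C
  · have h1 : g⁻¹ * x * g ∈ C := C.mul_mem (C.mul_mem (C.inv_mem hg) hx) hg
    rw [ext1_of_mem C lam h1, ext1_of_mem C lam hx]
    have h2 : (⟨g⁻¹ * x * g, h1⟩ : C) = (⟨g, hg⟩ : C)⁻¹ * ⟨x, hx⟩ * ⟨g, hg⟩ := rfl
    rw [h2, hlam.map_mul, hlam.map_mul, hlam.map_inv]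
    have := hlam.ne_zero ⟨g, hg⟩
    field_simp
  · have h1 : g⁻¹ * x * g ∉ C := by
      intro h
      apply hx
      have := C.mul_mem (C.mul_mem hg h) (C.inv_mem hg)
      simpa [mul_assoc] using this
    rw [ext1_of_not_mem C lam h1, ext1_of_not_mem C lam hx]

section main

variable [Fintype G] (C Nn : Subgroup G) (lam : C → ℂ)

/-- The generalized character `(1_C - lam)^G`. -/
noncomputable def Theta : G → ℂ := Cfsg.indFun C (fun x => 1 - lam x)

theorem Theta_apply (g : G) :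
    Theta C lam g = (Nat.card C : ℂ)⁻¹ * ∑ y : G, (1 - ext1 C lam (y⁻¹ * g * y)) := by
  unfold Theta
  rw [indFun_apply]
  congr 1
  apply Finset.sum_congr rfl
  intro y _
  exact extendByZero_one_sub C lam _

theorem isClassFunction_Theta : Cfsg.IsClassFunction G (Theta C lam) :=
  isClassFunction_indFun C _

/-- `Θ` vanishes at elements none of whose conjugates lies in `X`. -/
theorem Theta_eq_zero (g : G) (h : ∀ y : G, ext1 C lam (y⁻¹ * g * y) = 1) :
    Theta C lam g = 0 := by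
  rw [Theta_apply]
  have : ∑ y : G, (1 - ext1 C lam (y⁻¹ * g * y)) = 0 := by
    apply Finset.sum_eq_zero
    intro y _
    rw [h y, sub_self]
  rw [this, mul_zero]

variable (hlam : IsLin C lam) (hCN : C ≤ Nn) (hcard : Nat.card Nn = 2 * Nat.card C)
  (hinv : ∀ g ∈ Nn, g ∉ C → ∀ x ∈ C, ext1 C lam (g⁻¹ * x * g) = (ext1 C lam x)⁻¹)
  (hTI : ∀ g x : G, ext1 C lam x ≠ 1 → ext1 C lam (g⁻¹ * x * g) ≠ 1 → g ∈ Nn)

include hlam hCN hcard hinv hTI

/-- The value of `Θ` on `X`. -/
theorem Theta_apply_of_ne (x : G) (hx : ext1 C lam x ≠ 1) :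
    Theta C lam x = 2 - ext1 C lam x - (ext1 C lam x)⁻¹ := by
  classical
  have hxC : x ∈ C := mem_of_ext1_ne_one C lam hx
  rw [Theta_apply]
  have hF : ∀ g : G, (1 - ext1 C lam (g⁻¹ * x * g)) =
      (if g ∈ C then (1 - ext1 C lam x) else 0) +
        (if g ∈ Nn ∧ g ∉ C then (1 - (ext1 C lam x)⁻¹) else 0) := by
    intro g
    by_cases hgC : g ∈ C
    · rw [if_pos hgC, if_neg (fun h => h.2 hgC), add_zero, ext1_conj_of_mem C hlam hgC]
    · rw [if_neg hgC, zero_add]
      by_cases hgN : g ∈ Nn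
      · rw [if_pos ⟨hgN, hgC⟩, hinv g hgN hgC x hxC]
      · rw [if_neg (fun h => hgN h.1)]
        by_contra hne
        apply hgN
        apply hTI g x hx
        intro h1
        apply hne
        rw [h1, sub_self]
  rw [Finset.sum_congr rfl (fun g _ => hF g), Finset.sum_add_distrib, Finset.sum_ite,
    Finset.sum_ite, Finset.sum_const_zero, Finset.sum_const_zero, add_zero, add_zero,
    Finset.sum_const, Finset.sum_const, nsmul_eq_mul, nsmul_eq_mul]
  have hc1 : (Finset.univ.filter (fun g : G => g ∈ C)).card = Nat.card C := by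
    rw [Nat.card_eq_fintype_card, Fintype.card_subtype]
  have hc2 : (Finset.univ.filter (fun g : G => g ∈ Nn ∧ g ∉ C)).card = Nat.card C := by
    rw [Finset.filter_and_not, Finset.card_sdiff_of_subset]
    · have h1 : (Finset.univ.filter (fun g : G => g ∈ Nn)).card = Nat.card Nn := by
        rw [Nat.card_eq_fintype_card, Fintype.card_subtype]
      rw [h1, hc1, hcard]; omega
    · intro g hg
      simp only [Finset.mem_filter, Finset.mem_univ, true_and] at hg ⊢
      exact hCN hg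
  rw [hc1, hc2]
  have hC0 : (Nat.card C : ℂ) ≠ 0 := by exact_mod_cast Nat.card_pos.ne'
  field_simp
  ring

theorem Theta_one : Theta C lam 1 = 0 := by
  apply Theta_eq_zero
  intro y
  have : y⁻¹ * 1 * y = 1 := by simp
  rw [this, ext1_of_mem C lam C.one_mem]
  exact hlam.2

variable (hsq : ∃ x : C, lam x * lam x ≠ 1)

include hsq

theorem lam_ne_one : lam ≠ (fun _ => (1 : ℂ)) := by
  intro h
  obtain ⟨x, hx⟩ := hsq
  apply hx
  rw [h]; norm_num

theorem lam_ne_inv : lam ≠ (fun x => (lam x)⁻¹) := by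
  intro h
  obtain ⟨x, hx⟩ := hsq
  apply hx
  have h1 := congrFun h x
  have h2 := hlam.ne_zero x
  calc lam x * lam x = lam x * (lam x)⁻¹ := by rw [← h1]
    _ = 1 := mul_inv_cancel₀ h2

theorem classInner_Theta_one :
    Cfsg.classInner (Theta C lam) (fun _ => (1 : ℂ)) = 1 := by
  classical
  have : Fintype C := Fintype.ofFinite C
  unfold Theta
  rw [frobenius_reciprocity C _ _ (isClassFunction_of_isIrrCharacter
    (Cfsg.Agent.Lib.Helper80_CharBasic.isIrrCharacter_one G))]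
  have h1 : (fun x : C => 1 - lam x) = (fun _ : C => (1 : ℂ)) - lam := by
    funext x; rfl
  rw [h1, classInner_sub_left,
    classInner_irr (Cfsg.Agent.Lib.Helper80_CharBasic.isIrrCharacter_one C)
      (Cfsg.Agent.Lib.Helper80_CharBasic.isIrrCharacter_one C),
    classInner_irr hlam.irr (Cfsg.Agent.Lib.Helper80_CharBasic.isIrrCharacter_one C),
    if_pos rfl, if_neg (lam_ne_one C Nn lam hlam hCN hcard hinv hTI hsq)]
  norm_num

theorem classInner_Theta_self :
    Cfsg.classInner (Theta C lam) (Theta C lam) = 3 := by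
  classical
  have : Fintype C := Fintype.ofFinite C
  have hone := Cfsg.Agent.Lib.Helper80_CharBasic.isIrrCharacter_one C
  have hli : IsLin C (fun x => (lam x)⁻¹) := hlam.inv
  have hne1 := lam_ne_one C Nn lam hlam hCN hcard hinv hTI hsq
  have hne2 := lam_ne_inv C Nn lam hlam hCN hcard hinv hTI hsq
  have hne3 : (fun x : C => (lam x)⁻¹) ≠ (fun _ => (1 : ℂ)) := by
    intro h
    apply hne1
    funext x
    have h2 : (lam x)⁻¹ = 1 := congrFun h x
    rw [inv_eq_one] at h2
    exact h2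
  have hfr := frobenius_reciprocity C (fun x : C => 1 - lam x) (Theta C lam)
    (isClassFunction_Theta C lam)
  rw [show Cfsg.classInner (Theta C lam) (Theta C lam) =
    Cfsg.classInner (Cfsg.indFun C fun x : C => 1 - lam x) (Theta C lam) from rfl, hfr]
  -- replace the restriction of Θ by `2 - lam - lam⁻¹`
  have hrepl : Cfsg.classInner (fun x : C => 1 - lam x) (fun h : C => Theta C lam h) =
      Cfsg.classInner (fun x : C => 1 - lam x)
        (((2 : ℂ) • (fun _ : C => (1 : ℂ)) - lam) - (fun x => (lam x)⁻¹)) := by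
    unfold Cfsg.classInner
    congr 1
    apply Finset.sum_congr rfl
    intro x _
    show (1 - lam x) * conj (Theta C lam (x : G)) =
      (1 - lam x) * conj ((2 : ℂ) * 1 - lam x - (lam x)⁻¹)
    by_cases hx : lam x = 1
    · rw [hx, sub_self, zero_mul, zero_mul]
    · have hx' : ext1 C lam (x : G) ≠ 1 := by
        rw [ext1_of_mem C lam x.2]; exact hx
      rw [Theta_apply_of_ne C Nn lam hlam hCN hcard hinv hTI (x : G) hx',
        ext1_of_mem C lam x.2, mul_one]
  rw [hrepl]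
  have h1 : (fun x : C => 1 - lam x) = (fun _ : C => (1 : ℂ)) - lam := by
    funext x; rfl
  rw [h1, classInner_sub_left,
    Cfsg.Agent.Lib.Helper3_Exceptional.classInner_sub_right',
    Cfsg.Agent.Lib.Helper3_Exceptional.classInner_sub_right',
    Cfsg.Agent.Lib.Helper3_Exceptional.classInner_sub_right',
    Cfsg.Agent.Lib.Helper3_Exceptional.classInner_sub_right',
    classInner_smul_right, classInner_smul_right,
    classInner_irr hone hone, classInner_irr hone hlam.irr, classInner_irr hone hli.irr,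
    classInner_irr hlam.irr hone, classInner_irr hlam.irr hlam.irr,
    classInner_irr hlam.irr hli.irr,
    if_pos rfl, if_pos rfl, if_neg (Ne.symm hne1), if_neg (Ne.symm hne3), if_neg hne1,
    if_neg hne2]
  have h2 : (starRingEnd ℂ) (2 : ℂ) = 2 := map_ofNat _ 2
  simp only [h2, mul_one, mul_zero, sub_zero, zero_sub, sub_neg_eq_add]
  norm_num

/-- **The decomposition** `Θ = 1 + χ₂ - χ₁`. -/
theorem exists_triple :
    ∃ χ₁ χ₂ : G → ℂ, Cfsg.IsIrrCharacter G χ₁ ∧ Cfsg.IsIrrCharacter G χ₂ ∧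
      χ₁ ≠ (fun _ => (1 : ℂ)) ∧ χ₂ ≠ (fun _ => (1 : ℂ)) ∧ χ₁ ≠ χ₂ ∧ χ₁ 1 = χ₂ 1 + 1 ∧
      ∀ g : G, Theta C lam g = 1 + χ₂ g - χ₁ g := by
  classical
  have hone := Cfsg.Agent.Lib.Helper80_CharBasic.isIrrCharacter_one G
  have hC1 : Cfsg.IsCharacter G (Cfsg.indFun C (fun _ : C => (1 : ℂ))) :=
    isCharacter_indFun C (isCharacter_of_isIrrCharacter
      (Cfsg.Agent.Lib.Helper80_CharBasic.isIrrCharacter_one C))
  have hC2 : Cfsg.IsCharacter G (Cfsg.indFun C lam) := isCharacter_indFun C hlam.1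
  obtain ⟨m₁, hm₁, -⟩ := exists_multiplicities hC1
  obtain ⟨m₂, hm₂, -⟩ := exists_multiplicities hC2
  have hThsub : Theta C lam = Cfsg.indFun C (fun _ : C => (1 : ℂ)) - Cfsg.indFun C lam := by
    unfold Theta
    rw [← Cfsg.Agent.Lib.Helper3_Exceptional.indFun_sub']
    rfl
  obtain ⟨v, hvdef⟩ : ∃ v : Cfsg.IrrCharacter G → ℤ, v = fun ψ => (m₁ ψ : ℤ) - (m₂ ψ : ℤ) :=
    ⟨_, rfl⟩
  have hv : ∀ ψ : Cfsg.IrrCharacter G, Cfsg.classInner (Theta C lam) ψ = ((v ψ : ℤ) : ℂ) := by
    intro ψ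
    rw [hThsub, classInner_sub_left, hm₁, hm₂, hvdef]
    push_cast
    rfl
  choose deg hdegpos hdeg using fun ψ : Cfsg.IrrCharacter G => irr_one_eq_natCast ψ.2
  obtain ⟨i₀, hi₀⟩ : ∃ i₀ : Cfsg.IrrCharacter G, i₀ = ⟨fun _ => (1 : ℂ), hone⟩ := ⟨_, rfl⟩
  have hcl := isClassFunction_Theta C lam
  -- norm
  have h3 : ∑ ψ, v ψ * v ψ = 3 := by
    have h1 := classInner_self_eq_sum hcl
    rw [classInner_Theta_self C Nn lam hlam hCN hcard hinv hTI hsq] at h1
    have h2 : ((3 : ℤ) : ℂ) = ((∑ ψ, v ψ * v ψ : ℤ) : ℂ) := by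
      push_cast
      rw [h1]
      apply Finset.sum_congr rfl
      intro ψ _
      rw [hv ψ, map_intCast]
    exact_mod_cast h2.symm
  have hv0 : v i₀ = 1 := by
    have h1 := hv i₀
    rw [hi₀] at h1
    simp only at h1
    rw [classInner_Theta_one C Nn lam hlam hCN hcard hinv hTI hsq] at h1
    rw [hi₀]
    exact_mod_cast h1.symm
  have hd0 : (deg i₀ : ℤ) = 1 := by
    have h1 := hdeg i₀
    rw [hi₀] at h1
    simp only at h1
    rw [hi₀]
    exact_mod_cast h1.symm
  have hexp : ∀ g : G, Theta C lam g = ∑ ψ : Cfsg.IrrCharacter G, ((v ψ : ℤ) : ℂ) * (ψ : G → ℂ) g := by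
    intro g
    have h1 := congrFun (classFunction_eq_sum (Theta C lam) hcl) g
    rw [h1, Finset.sum_apply]
    apply Finset.sum_congr rfl
    intro ψ _
    rw [Pi.smul_apply, smul_eq_mul, hv ψ]
  have h0 : ∑ ψ, v ψ * (deg ψ : ℤ) = 0 := by
    have h1 := hexp 1
    rw [Theta_one C Nn lam hlam hCN hcard hinv hTI] at h1
    have h2 : ((0 : ℤ) : ℂ) = ((∑ ψ, v ψ * (deg ψ : ℤ) : ℤ) : ℂ) := by
      push_cast
      rw [h1]
      apply Finset.sum_congr rfl
      intro ψ _
      rw [hdeg ψ]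
    exact_mod_cast h2.symm
  obtain ⟨a, b, hai, hbi, hab, hvab, hdab⟩ := eq_of_norm_three v (fun ψ => (deg ψ : ℤ)) i₀
    (fun ψ => by exact_mod_cast hdegpos ψ) h3 hv0 hd0 h0
  refine ⟨a.1, b.1, a.2, b.2, ?_, ?_, ?_, ?_, ?_⟩
  · intro h
    apply hai
    rw [hi₀]
    exact Subtype.ext h
  · intro h
    apply hbi
    rw [hi₀]
    exact Subtype.ext h
  · intro h
    exact hab (Subtype.ext h)
  · rw [hdeg a, hdeg b]
    have : ((deg a : ℤ) : ℂ) = ((deg b : ℤ) : ℂ) + 1 := by
      rw [hdab]; push_cast; ring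
    exact_mod_cast this
  · intro g
    rw [hexp g]
    have h1 : ∀ ψ : Cfsg.IrrCharacter G, ((v ψ : ℤ) : ℂ) * (ψ : G → ℂ) g =
        (if ψ = i₀ then (ψ : G → ℂ) g else 0) + (if ψ = b then (ψ : G → ℂ) g else 0) -
          (if ψ = a then (ψ : G → ℂ) g else 0) := by
      intro ψ
      rw [hvab ψ]
      unfold e
      push_cast
      split_ifs <;> ring
    rw [Finset.sum_congr rfl (fun ψ _ => h1 ψ), Finset.sum_sub_distrib, Finset.sum_add_distrib,
      Finset.sum_ite_eq', Finset.sum_ite_eq', Finset.sum_ite_eq']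
    simp only [Finset.mem_univ, if_true]
    rw [hi₀]

end main

end Cfsg.Agent.Lib.Helper55_BSChar
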