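import Mathlib

/-!
A linear character through a cyclic `2`-quotient (helper55).

If a finite group `C` is `K ⋊ ⟨a⟩`-like (`K` normal of odd order, `K ⊔ ⟨a⟩ = ⊤`, `a` of order
`2 ^ (m + 2)`), there is a homomorphism `C →* ℂˣ` which is trivial on `K`, maps `a` to `I`, and
is non-trivial only at elements whose order is divisible by `2 ^ (m + 1)`.  An endomorphism of
`C` preserving `K` and inverting `a` inverts this homomorphism.
-/

set_option autoImplicit false

namespace Cfsg.Agent.Lib.Helper55_CycQuot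

open Subgroup

/-- The imaginary unit as a unit of `ℂ`. -/
noncomputable def Iu : ℂˣ := Units.mk0 Complex.I Complex.I_ne_zero

theorem Iu_val : (Iu : ℂ) = Complex.I := rfl

theorem Iu_sq : Iu ^ 2 = -1 := by
  apply Units.ext
  rw [Units.val_pow_eq_pow_val, Iu_val, Complex.I_sq]
  rfl

theorem Iu_sq_ne_one : Iu ^ 2 ≠ 1 := by
  rw [Iu_sq]
  intro h
  have h1 := congrArg Units.val h
  rw [Units.val_neg, Units.val_one] at h1
  norm_num at h1

theorem Iu_pow_four : Iu ^ 4 = 1 := by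
  apply Units.ext
  rw [Units.val_pow_eq_pow_val, Iu_val, Complex.I_pow_four]
  rfl

theorem orderOf_Iu : orderOf Iu = 4 := by
  have h := orderOf_eq_prime_pow (p := 2) (n := 1) (x := Iu) (by
    rw [pow_one]; exact Iu_sq_ne_one) (by
    have : (2 : ℕ) ^ (1 + 1) = 4 := by norm_num
    rw [this]; exact Iu_pow_four)
  rw [h]
  norm_num

variable {C : Type*} [Group C]

theorem exists_hom [Finite C] (K : Subgroup C) [K.Normal]
    (hK : Odd (Nat.card K)) (a : C) (m : ℕ) (ha : orderOf a = 2 ^ (m + 2))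
    (hsup : K ⊔ zpowers a = ⊤) :
    ∃ f : C →* ℂˣ, f a = Iu ∧ (∀ k ∈ K, f k = 1) ∧
      ∀ x, f x ≠ 1 → 2 ^ (m + 1) ∣ orderOf x := by
  obtain ⟨q, hq⟩ : ∃ q : C ⧸ K, q = QuotientGroup.mk' K a := ⟨_, rfl⟩
  have hgen : ∀ x : C ⧸ K, x ∈ zpowers q := by
    intro x
    obtain ⟨c, rfl⟩ := QuotientGroup.mk'_surjective K x
    have hle : K ⊔ zpowers a ≤ (zpowers q).comap (QuotientGroup.mk' K) := by
      apply sup_le
      · intro k hk
        rw [Subgroup.mem_comap]
        have : QuotientGroup.mk' K k = 1 := (QuotientGroup.eq_one_iff k).mpr hk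
        rw [this]; exact one_mem _
      · rw [Subgroup.zpowers_le, Subgroup.mem_comap, ← hq]
        exact mem_zpowers q
    have hc : c ∈ K ⊔ zpowers a := by rw [hsup]; trivial
    exact hle hc
  have hqo : orderOf q = 2 ^ (m + 2) := by
    have h22 : m + 2 = (m + 1) + 1 := rfl
    rw [h22]
    apply orderOf_eq_prime_pow
    · intro h
      rw [hq, ← map_pow] at h
      have h1 : a ^ 2 ^ (m + 1) ∈ K := (QuotientGroup.eq_one_iff _).mp h
      have h2 : orderOf (a ^ 2 ^ (m + 1)) = 2 := by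
        rw [orderOf_pow_of_dvd (by positivity) (by rw [ha]; exact pow_dvd_pow 2 (by omega)), ha,
          Nat.pow_div (by omega) (by norm_num)]
        have : m + 2 - (m + 1) = 1 := by omega
        rw [this, pow_one]
      have h3 := Subgroup.orderOf_dvd_natCard K h1
      rw [h2] at h3
      exact (Nat.not_even_iff_odd.mpr hK) (even_iff_two_dvd.mpr h3)
    · rw [hq, ← map_pow, ← h22, ← ha, pow_orderOf_eq_one, map_one]
  have hdv : orderOf Iu ∣ orderOf q := by
    rw [orderOf_Iu, hqo]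
    have : (4 : ℕ) = 2 ^ 2 := by norm_num
    rw [this]
    exact pow_dvd_pow 2 (by omega)
  obtain ⟨f, hf⟩ : ∃ f : C ⧸ K →* ℂˣ, f = monoidHomOfForallMemZpowers hgen hdv := ⟨_, rfl⟩
  have hfq : f q = Iu := by rw [hf]; exact monoidHomOfForallMemZpowers_apply_gen hgen hdv
  refine ⟨f.comp (QuotientGroup.mk' K), ?_, ?_, ?_⟩
  · rw [MonoidHom.comp_apply, ← hq, hfq]
  · intro k hk
    rw [MonoidHom.comp_apply]
    have : QuotientGroup.mk' K k = 1 := (QuotientGroup.eq_one_iff k).mpr hk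
    rw [this, map_one]
  · intro x hx
    by_contra hnd
    apply hx
    rw [MonoidHom.comp_apply]
    obtain ⟨y, hy⟩ : ∃ y : C ⧸ K, y = QuotientGroup.mk' K x := ⟨_, rfl⟩
    rw [← hy]
    obtain ⟨k, hk⟩ := Subgroup.mem_zpowers_iff.mp (hgen y)
    have hyo1 : orderOf y ∣ orderOf x := by rw [hy]; exact orderOf_map_dvd _ x
    have hyo2 : orderOf y ∣ 2 ^ (m + 2) := by
      rw [← hqo]; exact orderOf_dvd_of_mem_zpowers (hgen y)
    obtain ⟨j, hj, hyj⟩ := (Nat.dvd_prime_pow Nat.prime_two).mp hyo2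
    have hjm : j ≤ m := by
      by_contra hcon
      push Not at hcon
      apply hnd
      refine dvd_trans ?_ hyo1
      rw [hyj]
      exact pow_dvd_pow 2 (by omega)
    have hy1 : y ^ 2 ^ m = 1 := by
      apply orderOf_dvd_iff_pow_eq_one.mp
      rw [hyj]; exact pow_dvd_pow 2 hjm
    have h4 : (4 : ℤ) ∣ k := by
      rw [← hk, ← zpow_natCast, ← zpow_mul] at hy1
      have h5 := orderOf_dvd_iff_zpow_eq_one.mpr hy1
      rw [hqo] at h5
      have h6 : ((2 ^ (m + 2) : ℕ) : ℤ) = 4 * ((2 ^ m : ℕ) : ℤ) := by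
        push_cast; ring
      rw [h6] at h5
      have h7 : ((2 ^ m : ℕ) : ℤ) ≠ 0 := by positivity
      exact (mul_dvd_mul_iff_right h7).mp h5
    rw [← hk, map_zpow, hfq]
    apply orderOf_dvd_iff_zpow_eq_one.mp
    rw [orderOf_Iu]
    exact_mod_cast h4

/-- An endomorphism preserving `K` and inverting `a` inverts any homomorphism to a commutative
group that is trivial on `K`. -/
theorem apply_endo {A : Type*} [CommGroup A] (K : Subgroup C) (a : C)
    (hsup : K ⊔ zpowers a = ⊤) (f : C →* A) (hfK : ∀ k ∈ K, f k = 1)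
    (σ : C →* C) (hσK : ∀ k ∈ K, σ k ∈ K) (hσa : σ a = a⁻¹) (x : C) :
    f (σ x) = (f x)⁻¹ := by
  obtain ⟨ψ, hψ⟩ : ∃ ψ : C →* A, ψ = (f.comp σ) * f := ⟨_, rfl⟩
  have hle : K ⊔ zpowers a ≤ ψ.ker := by
    apply sup_le
    · intro k hk
      rw [MonoidHom.mem_ker, hψ, MonoidHom.mul_apply, MonoidHom.comp_apply, hfK k hk,
        hfK _ (hσK k hk), one_mul]
    · rw [Subgroup.zpowers_le, MonoidHom.mem_ker, hψ, MonoidHom.mul_apply, MonoidHom.comp_apply,
        hσa, map_inv, inv_mul_cancel]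
  have hx : x ∈ ψ.ker := hle (by rw [hsup]; trivial)
  rw [MonoidHom.mem_ker, hψ, MonoidHom.mul_apply, MonoidHom.comp_apply] at hx
  exact eq_inv_of_mul_eq_one_left hx

end Cfsg.Agent.Lib.Helper55_CycQuot
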