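import Mathlib

/-!
Coordinates on a subgroup `P` of a group `G` isomorphic to a generalized quaternion group
`QuaternionGroup N`: the elements `A e i`, `XA e i` of `G` and basic facts (helper55).
-/

set_option autoImplicit false

namespace Cfsg.Agent.Lib.Helper55_QuatCoord

open Subgroup QuaternionGroup

variable {G : Type*} [Group G] {P : Subgroup G} {N : ℕ} (e : ↥P ≃* QuaternionGroup N)

/-- the element `a i` -/
def A (i : ZMod (2 * N)) : G := ((e.symm (a i) : ↥P) : G)

/-- the element `xa i` -/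
def XA (i : ZMod (2 * N)) : G := ((e.symm (xa i) : ↥P) : G)

theorem A_mem (i : ZMod (2 * N)) : A e i ∈ P := (e.symm (a i)).2

theorem XA_mem (i : ZMod (2 * N)) : XA e i ∈ P := (e.symm (xa i)).2

theorem A_mul_A (i j : ZMod (2 * N)) : A e i * A e j = A e (i + j) := by
  unfold A
  rw [← Subgroup.coe_mul, ← map_mul, a_mul_a]

theorem A_mul_XA (i j : ZMod (2 * N)) : A e i * XA e j = XA e (j - i) := by
  unfold A XA
  rw [← Subgroup.coe_mul, ← map_mul, a_mul_xa]

theorem XA_mul_A (i j : ZMod (2 * N)) : XA e i * A e j = XA e (i + j) := by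
  unfold A XA
  rw [← Subgroup.coe_mul, ← map_mul, xa_mul_a]

theorem XA_mul_XA (i j : ZMod (2 * N)) : XA e i * XA e j = A e ((N : ZMod (2 * N)) + j - i) := by
  unfold A XA
  rw [← Subgroup.coe_mul, ← map_mul, xa_mul_xa]

theorem A_zero : A e 0 = 1 := by
  unfold A
  rw [a_zero, map_one, Subgroup.coe_one]

theorem A_inv (i : ZMod (2 * N)) : (A e i)⁻¹ = A e (-i) := by
  rw [inv_eq_iff_mul_eq_one, A_mul_A, add_neg_cancel, A_zero]

theorem XA_inv (i : ZMod (2 * N)) : (XA e i)⁻¹ = XA e ((N : ZMod (2 * N)) + i) := by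
  rw [inv_eq_iff_mul_eq_one, XA_mul_XA]
  have h : (N : ZMod (2 * N)) + ((N : ZMod (2 * N)) + i) - i = 0 := by
    have h2 : ((2 * N : ℕ) : ZMod (2 * N)) = 0 := ZMod.natCast_self _
    push_cast at h2
    linear_combination h2
  rw [h, A_zero]

theorem A_injective : Function.Injective (A e) := by
  intro i j h
  have h1 : e.symm (a i) = e.symm (a j) := Subtype.ext h
  have h2 := e.symm.injective h1
  injection h2

theorem XA_injective : Function.Injective (XA e) := by
  intro i j h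
  have h1 : e.symm (xa i) = e.symm (xa j) := Subtype.ext h
  have h2 := e.symm.injective h1
  injection h2

theorem A_ne_XA (i j : ZMod (2 * N)) : A e i ≠ XA e j := by
  intro h
  have h1 : e.symm (a i) = e.symm (xa j) := Subtype.ext h
  have h2 := e.symm.injective h1
  cases h2

theorem cases_mem {x : G} (hx : x ∈ P) : (∃ i, x = A e i) ∨ ∃ i, x = XA e i := by
  have h : e.symm (e ⟨x, hx⟩) = ⟨x, hx⟩ := e.symm_apply_apply _
  cases hd : e ⟨x, hx⟩ with
  | a i =>
    left
    refine ⟨i, ?_⟩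
    rw [hd] at h
    exact (congrArg Subtype.val h).symm
  | xa i =>
    right
    refine ⟨i, ?_⟩
    rw [hd] at h
    exact (congrArg Subtype.val h).symm

theorem A_one_zpow (k : ℤ) : (A e 1) ^ k = A e (k : ZMod (2 * N)) := by
  induction k using Int.induction_on with
  | zero => simp [A_zero]
  | succ k ih =>
    rw [zpow_add_one, ih, A_mul_A]
    congr 1
    push_cast
    ring
  | pred k ih =>
    rw [zpow_sub_one, ih, A_inv, A_mul_A]
    congr 1
    push_cast
    ring

theorem A_eq_zpow (i : ZMod (2 * N)) : A e i = (A e 1) ^ (ZMod.cast i : ℤ) := by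
  rw [A_one_zpow, ZMod.intCast_zmod_cast]

theorem mem_zpowers_iff (x : G) : x ∈ zpowers (A e 1) ↔ ∃ i, x = A e i := by
  constructor
  · rintro ⟨k, rfl⟩
    exact ⟨_, A_one_zpow e k⟩
  · rintro ⟨i, rfl⟩
    exact ⟨_, (A_eq_zpow e i).symm⟩

theorem zpowers_le : zpowers (A e 1) ≤ P := Subgroup.zpowers_le.mpr (A_mem e 1)

/-- all commutators of elements of `P` lie in the cyclic subgroup `⟨A 1⟩` -/
theorem commutator_mem {x y : G} (hx : x ∈ P) (hy : y ∈ P) :
    x * y * x⁻¹ * y⁻¹ ∈ zpowers (A e 1) := by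
  rw [mem_zpowers_iff]
  rcases cases_mem e hx with ⟨i, rfl⟩ | ⟨i, rfl⟩ <;> rcases cases_mem e hy with ⟨j, rfl⟩ | ⟨j, rfl⟩
  · rw [A_inv, A_inv, A_mul_A, A_mul_A, A_mul_A]; exact ⟨_, rfl⟩
  · rw [A_inv, XA_inv, A_mul_XA, XA_mul_A, XA_mul_XA]; exact ⟨_, rfl⟩
  · rw [XA_inv, A_inv, XA_mul_A, XA_mul_XA, A_mul_A]; exact ⟨_, rfl⟩
  · rw [XA_inv, XA_inv, XA_mul_XA, A_mul_XA, XA_mul_XA]; exact ⟨_, rfl⟩

theorem commutator_le : ⁅P, P⁆ ≤ zpowers (A e 1) := by
  rw [Subgroup.commutator_le]
  intro x hx y hy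
  rw [commutatorElement_def]
  exact commutator_mem e hx hy

/-- the unique involution -/
theorem eq_of_sq_eq_one [NeZero N] {x : G} (hx : x ∈ P) (h2 : x ^ 2 = 1) (h1 : x ≠ 1) :
    x = A e (N : ZMod (2 * N)) := by
  have h2N : ((2 * N : ℕ) : ZMod (2 * N)) = 0 := ZMod.natCast_self _
  have hN0 : (N : ZMod (2 * N)) ≠ 0 := by
    rw [Ne, ZMod.natCast_eq_zero_iff]
    intro h
    have hpos : 0 < N := Nat.pos_of_ne_zero (NeZero.ne N)
    have := Nat.le_of_dvd hpos h
    omega
  rcases cases_mem e hx with ⟨i, rfl⟩ | ⟨i, rfl⟩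
  · rw [pow_two, A_mul_A, ← A_zero e] at h2
    have h3 := A_injective e h2
    -- i + i = 0
    have : NeZero (2 * N) := ⟨by have := NeZero.ne N; omega⟩
    have hv : ((i.val : ℕ) : ZMod (2 * N)) = i := ZMod.natCast_zmod_val i
    have h4 : ((i.val + i.val : ℕ) : ZMod (2 * N)) = 0 := by
      rw [Nat.cast_add, hv]; exact h3
    rw [ZMod.natCast_eq_zero_iff] at h4
    have hlt : i.val < 2 * N := ZMod.val_lt i
    obtain ⟨c, hc⟩ := h4
    have hc2 : c < 2 := by
      by_contra hcon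
      push Not at hcon
      have : 2 * N * 2 ≤ 2 * N * c := Nat.mul_le_mul_left _ hcon
      omega
    interval_cases c
    · exfalso
      apply h1
      have : i.val = 0 := by omega
      rw [← hv, this, Nat.cast_zero, A_zero]
    · have : i.val = N := by omega
      rw [← hv, this]
  · exfalso
    rw [pow_two, XA_mul_XA, ← A_zero e] at h2
    have h3 := A_injective e h2
    apply hN0
    linear_combination h3

end Cfsg.Agent.Lib.Helper55_QuatCoord
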