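import Mathlib
import Cfsg.Agent.Lib.Helper55_QuatCoord

/-!
More coordinates on a generalized quaternion subgroup (helper55): powers of `A e i`, the derived
subgroup is `⟨A e 2⟩`, its order.
-/

set_option autoImplicit false

namespace Cfsg.Agent.Lib.Helper55_QuatCoord

open Subgroup QuaternionGroup
open scoped commutatorElement

variable {G : Type*} [Group G] {P : Subgroup G} {N : ℕ} (e : ↥P ≃* QuaternionGroup N)

theorem A_pow (i : ZMod (2 * N)) (k : ℕ) : (A e i) ^ k = A e (k * i) := by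
  induction k with
  | zero => rw [pow_zero, Nat.cast_zero, zero_mul, A_zero]
  | succ k ih =>
    rw [pow_succ, ih, A_mul_A]
    congr 1
    push_cast
    ring

theorem two_N_eq_zero : (2 : ZMod (2 * N)) * (N : ZMod (2 * N)) = 0 := by
  have h2 : ((2 * N : ℕ) : ZMod (2 * N)) = 0 := ZMod.natCast_self _
  push_cast at h2
  exact h2

/-- all commutators of elements of `P` are even powers of `A 1` -/
theorem commutator_eq_A_two_mul {x y : G} (hx : x ∈ P) (hy : y ∈ P) :
    ∃ k : ZMod (2 * N), x * y * x⁻¹ * y⁻¹ = A e (2 * k) := by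
  have h2N := two_N_eq_zero (N := N)
  rcases cases_mem e hx with ⟨i, rfl⟩ | ⟨i, rfl⟩ <;> rcases cases_mem e hy with ⟨j, rfl⟩ | ⟨j, rfl⟩
  · rw [A_inv, A_inv, A_mul_A, A_mul_A, A_mul_A]
    refine ⟨0, ?_⟩
    congr 1
    ring
  · rw [A_inv, XA_inv, A_mul_XA, XA_mul_A, XA_mul_XA]
    refine ⟨i, ?_⟩
    congr 1
    linear_combination h2N
  · rw [XA_inv, A_inv, XA_mul_A, XA_mul_XA, A_mul_A]
    refine ⟨-j, ?_⟩
    congr 1
    linear_combination h2N
  · rw [XA_inv, XA_inv, XA_mul_XA, A_mul_XA, XA_mul_XA]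
    refine ⟨j - i, ?_⟩
    congr 1
    linear_combination h2N

theorem A_two_mul_mem (k : ZMod (2 * N)) : A e (2 * k) ∈ zpowers (A e 2) := by
  have h1 : A e (2 * k) = (A e 2) ^ (ZMod.cast k : ℤ) := by
    have h2 : A e 2 = (A e 1) ^ (2 : ℤ) := by
      rw [A_one_zpow]; congr 1; norm_num
    rw [h2, ← zpow_mul, A_one_zpow]
    congr 1
    push_cast
    rfl
  rw [h1]
  exact zpow_mem (mem_zpowers _) _

theorem commutator_le_two : ⁅P, P⁆ ≤ zpowers (A e 2) := by
  rw [Subgroup.commutator_le]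
  intro x hx y hy
  rw [commutatorElement_def]
  obtain ⟨k, hk⟩ := commutator_eq_A_two_mul e hx hy
  rw [hk]
  exact A_two_mul_mem e k

theorem A_two_mem_commutator : A e 2 ∈ ⁅P, P⁆ := by
  have h2N := two_N_eq_zero (N := N)
  have h1 : ⁅A e 1, XA e 0⁆ ∈ ⁅P, P⁆ :=
    Subgroup.commutator_mem_commutator (A_mem e 1) (XA_mem e 0)
  have h2 : ⁅A e 1, XA e 0⁆ = A e 2 := by
    rw [commutatorElement_def, XA_inv, A_inv, A_mul_XA, XA_mul_A, XA_mul_XA]
    congr 1
    linear_combination h2N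
  rwa [h2] at h1

theorem commutator_eq_zpowers : ⁅P, P⁆ = zpowers (A e 2) :=
  le_antisymm (commutator_le_two e) (Subgroup.zpowers_le.mpr (A_two_mem_commutator e))

end Cfsg.Agent.Lib.Helper55_QuatCoord
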