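import Mathlib

/-!
Thompson's transfer lemma in its "extremal" form, proved through the sign of the permutation
action on the cosets of a subgroup of index 2 in a Sylow 2-subgroup (helper55).
-/

set_option autoImplicit false

namespace Cfsg.Agent.Lib.Helper55_Transfer

open Subgroup

/-- The sign of a permutation of order at most two. -/
theorem sign_of_sq_eq_one {α : Type*} [Fintype α] [DecidableEq α] (σ : Equiv.Perm α)
    (hσ : σ ^ 2 = 1) : Equiv.Perm.sign σ = (-1 : ℤˣ) ^ (σ.support.card / 2) := by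
  by_cases h1 : σ = 1
  · subst h1
    simp
  · have ho : orderOf σ = 2 := orderOf_eq_prime hσ h1
    have hp : (orderOf σ).Prime := by rw [ho]; exact Nat.prime_two
    obtain ⟨n, hn⟩ := Equiv.Perm.cycleType_prime_order hp
    have hsum : σ.support.card = 2 * (n + 1) := by
      rw [← Equiv.Perm.sum_cycleType, hn, ho, Multiset.sum_replicate, smul_eq_mul, mul_comm]
    rw [Equiv.Perm.sign_of_cycleType, hn, ho, Multiset.sum_replicate, Multiset.card_replicate,
      hsum, smul_eq_mul, Nat.mul_div_cancel_left _ (by norm_num : 0 < 2)]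
    rw [pow_add, mul_comm (n + 1) 2, pow_mul]
    simp

/-- Class formula, in a weighted divisibility form: if `d` divides `[T : T_y] * m` for every point
`y`, then `d` divides `|Y| * m`. -/
theorem dvd_card_mul_of_dvd_index_stabilizer_mul {T Y : Type*} [Group T] [MulAction T Y] [Finite Y]
    (d m : ℕ) (h : ∀ y : Y, d ∣ (MulAction.stabilizer T y).index * m) : d ∣ Nat.card Y * m := by
  classical
  have := Fintype.ofFinite (Quotient (MulAction.orbitRel T Y))
  have e := MulAction.selfEquivSigmaOrbitsQuotientStabilizer T Y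
  have hfin : ∀ ω : Quotient (MulAction.orbitRel T Y),
      Finite (T ⧸ MulAction.stabilizer T ω.out) := by
    intro ω
    exact Finite.of_injective _ (MulAction.orbitEquivQuotientStabilizer T ω.out).symm.injective
  rw [Nat.card_congr e, Nat.card_sigma, Finset.sum_mul]
  apply Finset.dvd_sum
  intro ω _
  exact h ω.out


section main

variable {G : Type*} [Group G]

/-- The conjugates of `u` lying in `Q`. -/
abbrev ConjIn (Q : Subgroup G) (u : G) : Type _ := {y : G // y ∈ Q ∧ IsConj u y}

/-- Conjugation action of a subgroup normalizing `Q` on the conjugates of `u` in `Q`. -/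
@[instance_reducible]
def conjInAction (T Q : Subgroup G) (u : G) (hn : ∀ t ∈ T, ∀ y ∈ Q, t * y * t⁻¹ ∈ Q) :
    MulAction T (ConjIn Q u) where
  smul t y := ⟨t * y * t⁻¹, hn t t.2 y y.2.1,
    y.2.2.trans (isConj_iff.mpr ⟨(t : G), rfl⟩)⟩
  one_smul y := Subtype.ext (by show ((1 : T) : G) * y * ((1 : T) : G)⁻¹ = y; simp)
  mul_smul s t y := Subtype.ext (by
    show ((s * t : T) : G) * y * ((s * t : T) : G)⁻¹ = s * (t * y * (t : G)⁻¹) * (s : G)⁻¹
    simp [mul_assoc])

theorem conjInAction_smul_coe (T Q : Subgroup G) (u : G)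
    (hn : ∀ t ∈ T, ∀ y ∈ Q, t * y * t⁻¹ ∈ Q) (t : T) (y : ConjIn Q u) :
    ((letI := conjInAction T Q u hn; t • y : ConjIn Q u) : G) = t * y * (t : G)⁻¹ := rfl

/-- The stabilizer of `y` under conjugation by `T` has the order of `T ⊓ C_G(y)`. -/
theorem card_stabilizer_conjInAction (T Q : Subgroup G) (u : G)
    (hn : ∀ t ∈ T, ∀ y ∈ Q, t * y * t⁻¹ ∈ Q) (y : ConjIn Q u) :
    Nat.card (letI := conjInAction T Q u hn; MulAction.stabilizer T y) =
      Nat.card ↥(T ⊓ centralizer ({(y : G)} : Set G)) := by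
  let _ := conjInAction T Q u hn
  have h1 : MulAction.stabilizer T y = (T ⊓ centralizer ({(y : G)} : Set G)).subgroupOf T := by
    ext t
    rw [MulAction.mem_stabilizer_iff, mem_subgroupOf, mem_inf, mem_centralizer_iff]
    constructor
    · intro h
      refine ⟨t.2, ?_⟩
      intro z hz
      rw [Set.mem_singleton_iff] at hz
      subst hz
      have h' : (t : G) * y * (t : G)⁻¹ = y := congrArg Subtype.val h
      calc (y : G) * t = ((t : G) * y * (t : G)⁻¹) * t := by rw [h']
        _ = t * y := by group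
    · rintro ⟨_, h⟩
      apply Subtype.ext
      show (t : G) * y * (t : G)⁻¹ = y
      have := h (y : G) (Set.mem_singleton _)
      calc (t : G) * y * (t : G)⁻¹ = ((y : G) * t) * (t : G)⁻¹ := by rw [this]
        _ = y := by group
  rw [h1]
  exact Nat.card_congr (subgroupOfEquivOfLe inf_le_left).toEquiv

/-- The elements conjugating `u` into `Q` are in bijection with pairs (conjugate in `Q`,
element of the centralizer of `u`). -/
theorem card_conj_into (Q : Subgroup G) (u : G) :
    Nat.card {x : G // x⁻¹ * u * x ∈ Q} =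
      Nat.card (ConjIn Q u) * Nat.card ↥(centralizer ({u} : Set G)) := by
  classical
  rw [← Nat.card_prod]
  -- chosen conjugating elements
  have hg : ∀ y : ConjIn Q u, ∃ g : G, g * u * g⁻¹ = y := fun y => isConj_iff.mp y.2.2
  choose g hg using hg
  have hcomm : ∀ c : centralizer ({u} : Set G), (c : G) * u = u * c := fun c =>
    ((mem_centralizer_iff.mp c.2) u (Set.mem_singleton u)).symm
  refine Nat.card_congr
    { toFun := fun x => (⟨⟨x.1⁻¹ * u * x.1, x.2, isConj_iff.mpr ⟨x.1⁻¹, by simp⟩⟩,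
          ⟨x.1 * g ⟨x.1⁻¹ * u * x.1, x.2, isConj_iff.mpr ⟨x.1⁻¹, by simp⟩⟩, ?_⟩⟩ :
          ConjIn Q u × centralizer ({u} : Set G))
      invFun := fun yc => ⟨(yc.2 : G) * (g yc.1)⁻¹, ?_⟩
      left_inv := ?_
      right_inv := ?_ }
  · -- x * g y centralizes u
    rw [mem_centralizer_iff]
    intro z hz
    rw [Set.mem_singleton_iff] at hz
    subst hz
    set y : ConjIn Q z := ⟨x.1⁻¹ * z * x.1, x.2, isConj_iff.mpr ⟨x.1⁻¹, by simp⟩⟩ with hy
    have h := hg y
    have h' : g y * z * (g y)⁻¹ = x.1⁻¹ * z * x.1 := h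
    have h2 : x.1 * (g y * z * (g y)⁻¹) * x.1⁻¹ = z := by rw [h']; group
    calc z * (x.1 * g y) = (x.1 * (g y * z * (g y)⁻¹) * x.1⁻¹) * (x.1 * g y) := by rw [h2]
      _ = x.1 * g y * z := by group
  · -- c * (g y)⁻¹ conjugates u into Q
    have h := hg yc.1
    have hc := hcomm yc.2
    have : ((yc.2 : G) * (g yc.1)⁻¹)⁻¹ * u * ((yc.2 : G) * (g yc.1)⁻¹) = (yc.1 : G) := by
      calc ((yc.2 : G) * (g yc.1)⁻¹)⁻¹ * u * ((yc.2 : G) * (g yc.1)⁻¹)
          = g yc.1 * ((yc.2 : G)⁻¹ * (u * yc.2)) * (g yc.1)⁻¹ := by group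
        _ = g yc.1 * ((yc.2 : G)⁻¹ * (yc.2 * u)) * (g yc.1)⁻¹ := by rw [hc]
        _ = g yc.1 * u * (g yc.1)⁻¹ := by group
        _ = yc.1 := h
    rw [this]
    exact yc.1.2.1
  · -- left inverse
    intro x
    apply Subtype.ext
    show x.1 * g _ * (g _)⁻¹ = x.1
    group
  · -- right inverse
    rintro ⟨y, c⟩
    have h := hg y
    have hc := hcomm c
    have hy : ((c : G) * (g y)⁻¹)⁻¹ * u * ((c : G) * (g y)⁻¹) = (y : G) := by
      calc ((c : G) * (g y)⁻¹)⁻¹ * u * ((c : G) * (g y)⁻¹)
          = g y * ((c : G)⁻¹ * (u * c)) * (g y)⁻¹ := by group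
        _ = g y * ((c : G)⁻¹ * (c * u)) * (g y)⁻¹ := by rw [hc]
        _ = g y * u * (g y)⁻¹ := by group
        _ = y := h
    have hy' : (⟨((c : G) * (g y)⁻¹)⁻¹ * u * ((c : G) * (g y)⁻¹), by rw [hy]; exact y.2.1,
        isConj_iff.mpr ⟨((c : G) * (g y)⁻¹)⁻¹, by simp⟩⟩ : ConjIn Q u) = y := Subtype.ext hy
    apply Prod.ext
    · exact hy'
    · apply Subtype.ext
      show (c : G) * (g y)⁻¹ * g _ = c
      rw [hy']
      group


/-- A homomorphism to `ℤˣ` taking the value `-1` has a kernel of index two. -/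
theorem index_ker_eq_two_of_neg_one {H : Type*} [Group H] (φ : H →* ℤˣ) (u : H) (hu : φ u = -1) :
    φ.ker.index = 2 ∧ u ∉ φ.ker := by
  refine ⟨?_, ?_⟩
  · rw [Subgroup.index_ker]
    have htop : φ.range = ⊤ := by
      rw [eq_top_iff]
      intro z _
      rcases Int.units_eq_one_or z with rfl | rfl
      · exact one_mem _
      · exact ⟨u, hu⟩
    rw [htop, Subgroup.card_top, Nat.card_eq_fintype_card, Fintype.card_units_int]
  · rw [MonoidHom.mem_ker, hu]
    decide

/-- **Thompson's transfer lemma, extremal form.** Let `T` be a Sylow `2`-subgroup of the finite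
group `G`, `Q` a subgroup of index `2` in `T` and `u` an involution of `G`. Suppose that no conjugate
`y` of `u` lying in `Q` is extremal, in the sense that `2 * |C_T(y)|` divides `|C_G(u)|`. Then `G` has
a subgroup of index `2` not containing `u`. -/
theorem exists_index_two_of_nonextremal [Finite G] (T : Sylow 2 G)
    (Q : Subgroup G) (hQT : Q ≤ (T : Subgroup G)) (hQi : Q.relIndex (T : Subgroup G) = 2)
    (u : G) (hu : orderOf u = 2)
    (hext : ∀ y ∈ Q, IsConj u y →
      2 * Nat.card ↥((T : Subgroup G) ⊓ centralizer ({y} : Set G)) ∣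
        Nat.card ↥(centralizer ({u} : Set G))) :
    ∃ M : Subgroup G, M.index = 2 ∧ u ∉ M := by
  classical
  have : Fact (Nat.Prime 2) := ⟨Nat.prime_two⟩
  have huu : u * u = 1 := by rw [← sq, ← hu]; exact pow_orderOf_eq_one u
  have hui : u⁻¹ = u := by rw [inv_eq_iff_mul_eq_one]; exact huu
  -- `Q` is normalized by `T`
  have hQn : (Q.subgroupOf (T : Subgroup G)).Normal := normal_of_index_eq_two hQi
  have hn : ∀ t ∈ (T : Subgroup G), ∀ y ∈ Q, t * y * t⁻¹ ∈ Q := by
    intro t ht y hy
    have := hQn.conj_mem ⟨y, hQT hy⟩ (mem_subgroupOf.mpr hy) ⟨t, ht⟩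
    exact mem_subgroupOf.mp this
  -- orders
  have hcardT : Nat.card (T : Subgroup G) = 2 * Nat.card Q := by
    have h1 := Subgroup.relIndex_mul_index hQT
    have h2 := Q.card_mul_index
    have h3 := (T : Subgroup G).card_mul_index
    have hidx : (T : Subgroup G).index ≠ 0 := Subgroup.index_ne_zero_of_finite
    rw [hQi] at h1
    have : Nat.card (T : Subgroup G) * (T : Subgroup G).index =
        (2 * Nat.card Q) * (T : Subgroup G).index := by
      rw [h3, ← h2, ← h1]; ring
    exact Nat.eq_of_mul_eq_mul_right (Nat.pos_of_ne_zero hidx) this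
  -- the orbit count
  let _ := conjInAction (T : Subgroup G) Q u hn
  have hdiv : 2 * Nat.card (T : Subgroup G) ∣
      Nat.card (ConjIn Q u) * Nat.card ↥(centralizer ({u} : Set G)) := by
    apply dvd_card_mul_of_dvd_index_stabilizer_mul (T := (T : Subgroup G))
    intro y
    have h1 := (MulAction.stabilizer (T : Subgroup G) y).card_mul_index
    have h2 := card_stabilizer_conjInAction (T : Subgroup G) Q u hn y
    obtain ⟨k, hk⟩ := hext y y.2.1 y.2.2
    rw [hk, ← h1, ← h2]
    exact ⟨k, by ring⟩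
  -- fixed cosets
  set F : Set (G ⧸ Q) := {d | u • d = d} with hF
  have hpre : (QuotientGroup.mk ⁻¹' F : Set G) = {x : G | x⁻¹ * u * x ∈ Q} := by
    ext x
    show u • (x : G ⧸ Q) = (x : G ⧸ Q) ↔ x⁻¹ * u * x ∈ Q
    rw [show u • (x : G ⧸ Q) = ((u * x : G) : G ⧸ Q) from rfl, QuotientGroup.eq, mul_inv_rev, hui]
  have hZ : Nat.card {x : G // x⁻¹ * u * x ∈ Q} = Nat.card Q * Nat.card F := by
    rw [← QuotientGroup.card_preimage_mk, hpre]
    rfl
  have h4 : 4 ∣ Nat.card F := by
    have h5 : 4 * Nat.card Q ∣ Nat.card Q * Nat.card F := by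
      rw [← hZ, card_conj_into]
      have : 4 * Nat.card Q = 2 * Nat.card (T : Subgroup G) := by rw [hcardT]; ring
      rw [this]
      exact hdiv
    have hQpos : 0 < Nat.card Q := Nat.card_pos
    rw [mul_comm 4] at h5
    exact Nat.dvd_of_mul_dvd_mul_left hQpos h5
  -- the permutation induced by `u`
  have : Fintype (G ⧸ Q) := Fintype.ofFinite _
  set σ : Equiv.Perm (G ⧸ Q) := MulAction.toPermHom G (G ⧸ Q) u with hσ
  have hσ2 : σ ^ 2 = 1 := by
    rw [hσ, ← map_pow, sq, huu, map_one]
  have hsupp : σ.support.card + Nat.card F = Nat.card (G ⧸ Q) := by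
    have hFcard : Nat.card F = (Finset.univ.filter (fun d : G ⧸ Q => σ d = d)).card := by
      rw [Nat.card_eq_fintype_card, Fintype.card_ofFinset]
      · rfl
    rw [hFcard, Nat.card_eq_fintype_card, ← Finset.card_univ]
    have : σ.support = Finset.univ.filter (fun d : G ⧸ Q => ¬ σ d = d) := by
      ext d
      simp [Equiv.Perm.mem_support]
    rw [this, add_comm]
    exact Finset.card_filter_add_card_filter_not (s := (Finset.univ : Finset (G ⧸ Q)))
      (fun d : G ⧸ Q => σ d = d)
  have hidxQ : Nat.card (G ⧸ Q) = 2 * (T : Subgroup G).index := by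
    have h1 := Subgroup.relIndex_mul_index hQT
    rw [hQi] at h1
    have h0 : Nat.card (G ⧸ Q) = Q.index := rfl
    rw [h0, ← h1]
  have hodd : ¬ 2 ∣ (T : Subgroup G).index := T.not_dvd_index
  have hsign : Equiv.Perm.sign σ = -1 := by
    rw [sign_of_sq_eq_one σ hσ2]
    obtain ⟨f', hf'⟩ := h4
    have hs : σ.support.card = 2 * ((T : Subgroup G).index - 2 * f') := by omega
    rw [hs, Nat.mul_div_cancel_left _ (by norm_num : 0 < 2)]
    have hoddk : Odd ((T : Subgroup G).index - 2 * f') := by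
      rw [Nat.odd_iff]
      omega
    exact Odd.neg_one_pow hoddk
  obtain ⟨h1, h2⟩ := index_ker_eq_two_of_neg_one
    (Equiv.Perm.sign.comp (MulAction.toPermHom G (G ⧸ Q))) u hsign
  exact ⟨_, h1, h2⟩

end main

end Cfsg.Agent.Lib.Helper55_Transfer
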