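import Mathlib
import Cfsg.Agent.Lib.Helper55_Transfer
import Cfsg.Agent.Lib.Helper35_FrobeniusNPC
import Cfsg.Agent.Lib.Helper32_Sylow
import Cfsg.Agent.Lib.Helper34_Sylow
import Cfsg.Agent.Lib.Helper1_Cores

/-!
Normal 2-complements for groups whose Sylow 2-subgroup is "dihedral-like" (generated by a cyclic
subgroup and an involution inverting it) and in which the involutions of the cyclic part are
central (helper55).  Proved by induction with the extremal form of the Thompson transfer lemma.
-/

set_option autoImplicit false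

namespace Cfsg.Agent.Lib.Helper55_DihedralNPC

open Subgroup Cfsg.Agent.Lib.Helper35_FrobeniusNPC

universe u

/-- A normal subgroup of `p`-power index with a normal `p`-complement lifts it to the group. -/
theorem hasNPC_of_normal_of_index_pow {p : ℕ} [Fact p.Prime] {H : Type*} [Group H] [Finite H]
    (M : Subgroup H) [M.Normal] (j : ℕ) (hM : M.index = p ^ j) (h : HasNPC p ↥M) : HasNPC p H := by
  obtain ⟨K, hKn, hKc, a, hKi⟩ := h
  let N : Subgroup M := Cfsg.pPrimeCore p M
  have hKN : K ≤ N := Helper1_Cores.le_pPrimeCore hKn hKc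
  have hNc : (Nat.card N).Coprime p := Helper1_Cores.pPrimeCore_card_coprime p
  have hNi : ∃ b, N.index = p ^ b := by
    have h1 : N.index ∣ K.index := Subgroup.index_dvd_of_le hKN
    rw [hKi] at h1
    obtain ⟨b, _, hb⟩ := (Nat.dvd_prime_pow Fact.out).mp h1
    exact ⟨b, hb⟩
  obtain ⟨b, hb⟩ := hNi
  have hNchar : N.Characteristic := inferInstance
  refine ⟨N.map M.subtype, ConjAct.normal_of_characteristic_of_normal, ?_, b + j, ?_⟩
  · rw [Subgroup.card_map_of_injective M.subtype_injective]; exact hNc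
  · rw [Subgroup.index_map_subtype, hb, hM, pow_add]

/-- A group with a cyclic Sylow `2`-subgroup has a normal `2`-complement. -/
theorem hasNPC_of_isCyclic_sylow {H : Type*} [Group H] [Finite H] (P : Sylow 2 H)
    (hP : IsCyclic (P : Subgroup H)) : HasNPC 2 H := by
  by_cases h2 : 2 ∣ Nat.card H
  · have hp : (Nat.card H).minFac = 2 := (Nat.minFac_eq_two_iff _).mpr h2
    exact hasNPC_of_isComplement' inferInstance P (IsCyclic.isComplement' hp hP)
  · refine ⟨⊤, inferInstance, ?_, 0, ?_⟩
    · rw [Subgroup.card_top]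
      exact Nat.coprime_comm.mp ((Nat.Prime.coprime_iff_not_dvd Nat.prime_two).mpr h2)
    · simp

/-- **Dihedral-like Sylow 2-subgroups with central involutions.** Let `T = ⟨ρ⟩ ∪ σ⁻¹⟨ρ⟩` be a Sylow
`2`-subgroup of `H` with `σ² = 1`, `σ ρ σ⁻¹ = ρ⁻¹`, and suppose that every involution of `⟨ρ⟩` is
central in `H`. Then `H` has a normal `2`-complement. -/
theorem hasNPC_of_dihedralLike : ∀ (n : ℕ) (H : Type u) [Group H] [Finite H], Nat.card H = n →
    ∀ (T : Sylow 2 H) (ρ σ : H), ρ ∈ (T : Subgroup H) → σ ∈ (T : Subgroup H) →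
    (∀ y ∈ zpowers ρ, orderOf y = 2 → y ∈ center H) →
    σ * σ = 1 → σ * ρ * σ⁻¹ = ρ⁻¹ →
    (∀ x ∈ (T : Subgroup H), x ∈ zpowers ρ ∨ σ * x ∈ zpowers ρ) → HasNPC 2 H := by
  intro n
  induction n using Nat.strong_induction_on with
  | _ n ih =>
  intro H _ _ hcard T ρ σ hρ hσ hcent hσ2 hrel hform
  have hQT : zpowers ρ ≤ (T : Subgroup H) := zpowers_le.mpr hρ
  by_cases hσρ : σ ∈ zpowers ρ
  · -- cyclic
    have hT : (T : Subgroup H) = zpowers ρ := by
      apply le_antisymm
      · intro x hx
        rcases hform x hx with h | h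
        · exact h
        · have e : x = σ⁻¹ * (σ * x) := by group
          rw [e]; exact mul_mem (inv_mem hσρ) h
      · exact hQT
    apply hasNPC_of_isCyclic_sylow T
    rw [hT]; infer_instance
  · have hσinv : σ⁻¹ = σ := inv_eq_of_mul_eq_one_right hσ2
    have hσ1 : σ ≠ 1 := fun h => hσρ (h ▸ one_mem _)
    have hσo : orderOf σ = 2 := orderOf_eq_prime (by rw [pow_two]; exact hσ2) hσ1
    have hnorm : ∀ x ∈ zpowers ρ, σ * x * σ⁻¹ ∈ zpowers ρ := by
      intro x hx
      obtain ⟨k, rfl⟩ := hx
      have e : σ * ρ ^ k * σ⁻¹ = (ρ⁻¹) ^ k := by rw [← hrel, conj_zpow]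
      rw [e]; exact zpow_mem (inv_mem (mem_zpowers ρ)) k
    have hQi : (zpowers ρ).relIndex (T : Subgroup H) = 2 := by
      rw [Subgroup.relIndex, Subgroup.index_eq_two_iff]
      refine ⟨⟨σ, hσ⟩, ?_⟩
      intro b
      simp only [mem_subgroupOf, Subgroup.coe_mul]
      by_cases hb : (b : H) ∈ zpowers ρ
      · right
        refine ⟨hb, fun h => hσρ ?_⟩
        have e : σ = (b : H)⁻¹ * (b * σ) := by group
        rw [e]; exact mul_mem (inv_mem hb) h
      · left
        refine ⟨?_, hb⟩
        rcases hform b b.2 with h | h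
        · exact absurd h hb
        · have h1 := hnorm _ h
          have e : σ * (σ * b) * σ⁻¹ = b * σ := by rw [← mul_assoc, hσ2, one_mul, hσinv]
          rwa [e] at h1
    obtain ⟨M, hM2, hσM⟩ := Helper55_Transfer.exists_index_two_of_nonextremal T (zpowers ρ) hQT hQi
      σ hσo (by
        intro y hy hconj
        exfalso
        obtain ⟨g, hg⟩ := isConj_iff.mp hconj
        have hyo : orderOf y = 2 := by rw [← hg, Helper34_Sylow.orderOf_conj', hσo]
        have hyc := hcent y hy hyo
        have e : σ = y := by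
          have h1 : σ = g⁻¹ * y * g := by rw [← hg]; group
          rw [h1, mul_assoc, ← (mem_center_iff.mp hyc g), ← mul_assoc, inv_mul_cancel, one_mul]
        exact hσρ (e ▸ hy))
    have hMn : M.Normal := Subgroup.normal_of_index_eq_two hM2
    have hMi : M.index = 2 ^ 1 := by rw [hM2, pow_one]
    by_cases hρM : ρ ∈ M
    · have hTM : (T : Subgroup H) ⊓ M = zpowers ρ := by
        apply le_antisymm
        · rintro x ⟨hxT, hxM⟩
          rcases hform x hxT with h | h
          · exact h
          · exfalso; apply hσM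
            have e : σ = (σ * x) * x⁻¹ := by group
            rw [e]; exact mul_mem (zpowers_le.mpr hρM h) (inv_mem hxM)
        · exact le_inf hQT (zpowers_le.mpr hρM)
      have hcyc : IsCyclic ((Helper32_Sylow.sylowInfNormal T M : Sylow 2 M) : Subgroup M) := by
        rw [Helper32_Sylow.coe_sylowInfNormal, hTM]
        exact isCyclic_of_injective
          ((zpowers ρ).subgroupOfEquivOfLe (zpowers_le.mpr hρM)).toMonoidHom (MulEquiv.injective _)
      exact hasNPC_of_normal_of_index_pow M 1 hMi (hasNPC_of_isCyclic_sylow _ hcyc)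
    · have hmul := fun a b => Subgroup.mul_mem_iff_of_index_two hM2 (a := a) (b := b)
      have hσρM : σ * ρ ∈ M := (hmul σ ρ).mpr ⟨fun h => absurd h hσM, fun h => absurd h hρM⟩
      have hρ2M : ρ * ρ ∈ M := (hmul ρ ρ).mpr Iff.rfl
      have hlt : Nat.card M < n := by
        have h1 := M.card_mul_index
        rw [hM2, hcard] at h1
        have h2 : 0 < Nat.card M := Nat.card_pos
        omega
      -- parity of exponents
      have hpar : ∀ k : ℤ, (ρ ^ k ∈ M → ρ ^ k ∈ zpowers (ρ * ρ)) ∧
          (ρ ^ k ∉ M → ρ⁻¹ * ρ ^ k ∈ zpowers (ρ * ρ)) := by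
        intro k
        rcases Int.even_or_odd' k with ⟨j, rfl | rfl⟩
        · have e : ρ ^ (2 * j) = (ρ * ρ) ^ j := by rw [zpow_mul, zpow_two]
          refine ⟨fun _ => e ▸ zpow_mem (mem_zpowers _) j, fun h => absurd ?_ h⟩
          rw [e]; exact zpow_mem hρ2M j
        · have e : ρ ^ (2 * j + 1) = (ρ * ρ) ^ j * ρ := by rw [zpow_add_one, zpow_mul, zpow_two]
          refine ⟨fun h => absurd ?_ hρM, fun _ => ?_⟩
          · have e2 : ρ = ((ρ * ρ) ^ j)⁻¹ * ρ ^ (2 * j + 1) := by rw [e]; group
            rw [e2]; exact mul_mem (inv_mem (zpow_mem hρ2M j)) h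
          · have e2 : ρ⁻¹ * ρ ^ (2 * j + 1) = (ρ * ρ) ^ j := by
              rw [zpow_add_one, zpow_mul, zpow_two]
              have hc : Commute ρ⁻¹ ((ρ * ρ) ^ j) :=
                ((Commute.refl ρ).inv_left.mul_right (Commute.refl ρ).inv_left).zpow_right j
              rw [← mul_assoc, hc.eq, mul_assoc, inv_mul_cancel, mul_one]
            rw [e2]; exact zpow_mem (mem_zpowers _) j
      let T' : Sylow 2 M := Helper32_Sylow.sylowInfNormal T M
      have hT' : ∀ x : M, x ∈ (T' : Subgroup M) ↔ (x : H) ∈ (T : Subgroup H) := by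
        intro x
        rw [Helper32_Sylow.coe_sylowInfNormal, mem_subgroupOf, mem_inf]
        exact ⟨fun h => h.1, fun h => ⟨h, x.2⟩⟩
      -- transfer of membership in cyclic subgroups
      have hzp : ∀ y : M, (y : H) ∈ zpowers (ρ * ρ) → y ∈ zpowers (⟨ρ * ρ, hρ2M⟩ : M) := by
        intro y hy
        obtain ⟨k, hk⟩ := hy
        refine ⟨k, Subtype.ext ?_⟩
        rw [Subgroup.coe_zpow]
        exact hk
      apply hasNPC_of_normal_of_index_pow M 1 hMi
      apply ih (Nat.card M) hlt ↥M rfl T' ⟨ρ * ρ, hρ2M⟩ ⟨σ * ρ, hσρM⟩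
      · rw [hT']; exact mul_mem hρ hρ
      · rw [hT']; exact mul_mem hσ hρ
      · intro y hy hyo
        rw [mem_center_iff]
        intro g
        apply Subtype.ext
        have hyH : (y : H) ∈ zpowers ρ := by
          obtain ⟨k, hk⟩ := hy
          have e : (y : H) = (ρ * ρ) ^ k := by rw [← hk, Subgroup.coe_zpow]
          rw [e]; exact zpow_mem (mul_mem (mem_zpowers ρ) (mem_zpowers ρ)) k
        have hyoH : orderOf (y : H) = 2 := by rw [Subgroup.orderOf_coe]; exact hyo
        have h1 := mem_center_iff.mp (hcent _ hyH hyoH) (g : H)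
        simpa using h1
      · apply Subtype.ext
        show σ * ρ * (σ * ρ) = 1
        calc σ * ρ * (σ * ρ) = (σ * ρ * σ⁻¹) * ρ := by rw [hσinv]; simp only [mul_assoc]
          _ = 1 := by rw [hrel, inv_mul_cancel]
      · apply Subtype.ext
        show σ * ρ * (ρ * ρ) * (σ * ρ)⁻¹ = (ρ * ρ)⁻¹
        calc σ * ρ * (ρ * ρ) * (σ * ρ)⁻¹ = (σ * ρ * σ⁻¹) * (σ * ρ * σ⁻¹) := by group
          _ = (ρ * ρ)⁻¹ := by rw [hrel, mul_inv_rev]
      · intro x hx
        rw [hT'] at hx
        rcases hform x hx with h | h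
        · left
          apply hzp
          obtain ⟨k, hk⟩ := h
          have hk' : ρ ^ k = (x : H) := hk
          rw [← hk']
          exact (hpar k).1 (by rw [hk']; exact x.2)
        · right
          apply hzp
          show σ * ρ * (x : H) ∈ zpowers (ρ * ρ)
          obtain ⟨k, hk⟩ := h
          have hk' : ρ ^ k = σ * x := hk
          have hnot : ρ ^ k ∉ M := by
            rw [hk', hmul σ x]
            intro hiff
            exact hσM (hiff.mpr x.2)
          have e : σ * ρ * (x : H) = ρ⁻¹ * ρ ^ k := by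
            rw [hk', ← hrel]
            have : σ * ρ * σ⁻¹ * (σ * x) = σ * ρ * (x : H) := by group
            rw [this]
          rw [e]
          exact (hpar k).2 hnot

end Cfsg.Agent.Lib.Helper55_DihedralNPC
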