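import Mathlib
import Cfsg.Prelude.Def_Characters
import Cfsg.Agent.Lib.Helper55_QuatCoord
import Cfsg.Agent.Lib.Helper55_QuatCoord2
import Cfsg.Agent.Lib.Helper55_CycQuot
import Cfsg.Agent.Lib.Helper55_BSChar
import Cfsg.Agent.Lib.Helper75_LinChar
import Cfsg.Agent.Lib.Helper47_SubAPI
import Cfsg.Agent.Lib.Helper50_Basic
import Cfsg.Agent.Lib.Helper34_Sylow
import Cfsg.Agent.S0842
import Cfsg.Agent.S0843

/-!
# Brauer–Suzuki for generalized quaternion Sylow `2`-subgroups of order `≥ 16` (helper55)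

Instantiation of `Helper55_BSChar.exists_triple`: `C = C_G(D)`, `Nn = N_G(D)` for `D = S'`,
and the linear character of `C` with kernel of index `4` over the normal `2`-complement.
-/

set_option autoImplicit false

namespace Cfsg.Agent.Lib.Helper55_BSQuat

open Subgroup Cfsg.Agent.Lib.Helper55_QuatCoord Cfsg.Agent.Lib.Helper55_CycQuot
open scoped commutatorElement

section coords

variable {G : Type*} [Group G] {P : Subgroup G} {n : ℕ}
  (e : ↥P ≃* QuaternionGroup (2 ^ (n + 2)))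

theorem natCast_pow_ne_zero : ((2 ^ (n + 2) : ℕ) : ZMod (2 * 2 ^ (n + 2))) ≠ 0 := by
  rw [Ne, ZMod.natCast_eq_zero_iff]
  intro h
  have hpos : 0 < 2 ^ (n + 2) := by positivity
  have := Nat.le_of_dvd hpos h
  omega

theorem orderOf_A_two : orderOf (A e 2) = 2 ^ (n + 2) := by
  have h2N := two_N_eq_zero (N := 2 ^ (n + 2))
  have key := orderOf_eq_prime_pow (x := A e 2) (p := 2) (n := n + 1) ?_ ?_
  · exact key
  · rw [A_pow, ← A_zero e]
    intro h
    have h1 := A_injective e h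
    apply natCast_pow_ne_zero (n := n)
    rw [← h1]
    push_cast
    ring
  · rw [A_pow, ← A_zero e]
    congr 1
    push_cast
    push_cast at h2N
    linear_combination h2N

theorem orderOf_A_one : orderOf (A e 1) = 2 ^ (n + 3) := by
  have h2N := two_N_eq_zero (N := 2 ^ (n + 2))
  have key := orderOf_eq_prime_pow (x := A e 1) (p := 2) (n := n + 2) ?_ ?_
  · exact key
  · rw [A_pow, ← A_zero e, mul_one]
    intro h
    exact natCast_pow_ne_zero (n := n) (A_injective e h)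
  · rw [A_pow, ← A_zero e]
    congr 1
    push_cast
    push_cast at h2N
    linear_combination h2N

include e in
theorem card_commutator : Nat.card (⁅P, P⁆ : Subgroup G) = 2 ^ (n + 2) := by
  rw [commutator_eq_zpowers e, Nat.card_zpowers, orderOf_A_two]

theorem A_mem_centralizer (i : ZMod (2 * 2 ^ (n + 2))) :
    A e i ∈ centralizer ((⁅P, P⁆ : Subgroup G) : Set G) := by
  rw [mem_centralizer_iff]
  intro y hy
  have hy' : y ∈ zpowers (A e 1) := commutator_le e hy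
  obtain ⟨j, rfl⟩ := (mem_zpowers_iff e y).mp hy'
  rw [A_mul_A, A_mul_A]
  congr 1
  exact add_comm _ _

theorem XA_not_mem_centralizer (i : ZMod (2 * 2 ^ (n + 2))) :
    XA e i ∉ centralizer ((⁅P, P⁆ : Subgroup G) : Set G) := by
  intro hmem
  rw [mem_centralizer_iff] at hmem
  have h1 := hmem _ (A_two_mem_commutator e)
  rw [A_mul_XA, XA_mul_A] at h1
  have h2 := XA_injective e h1
  have h3 : ((4 : ℕ) : ZMod (2 * 2 ^ (n + 2))) = 0 := by
    push_cast
    linear_combination -h2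
  rw [ZMod.natCast_eq_zero_iff] at h3
  have h4 := Nat.le_of_dvd (by norm_num) h3
  have h5 : 2 ^ (n + 2) = 4 * 2 ^ n := by ring
  have h6 : 0 < 2 ^ n := by positivity
  omega

theorem inf_centralizer :
    P ⊓ centralizer ((⁅P, P⁆ : Subgroup G) : Set G) = zpowers (A e 1) := by
  apply le_antisymm
  · rintro x ⟨hxS, hxC⟩
    rcases cases_mem e hxS with ⟨i, rfl⟩ | ⟨i, rfl⟩
    · exact (mem_zpowers_iff e _).mpr ⟨i, rfl⟩
    · exact absurd hxC (XA_not_mem_centralizer e i)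
  · apply le_inf (zpowers_le e)
    intro x hx
    obtain ⟨i, rfl⟩ := (mem_zpowers_iff e x).mp hx
    exact A_mem_centralizer e i

theorem XA_conj_A (i j : ZMod (2 * 2 ^ (n + 2))) :
    (XA e i)⁻¹ * A e j * XA e i = (A e j)⁻¹ := by
  rw [XA_inv, XA_mul_A, XA_mul_XA, A_inv]
  congr 1
  ring

theorem le_normalizer_commutator [Finite G] :
    P ≤ normalizer ((⁅P, P⁆ : Subgroup G) : Set G) := by
  intro s hs
  apply Helper50_Basic.mem_normalizer_of_map_conj_le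
  have hSmap : P.map (MulAut.conj s).toMonoidHom = P := by
    ext x
    rw [Subgroup.mem_map]
    constructor
    · rintro ⟨w, hw, rfl⟩
      exact mul_mem (mul_mem hs hw) (inv_mem hs)
    · intro hx
      refine ⟨s⁻¹ * x * s, mul_mem (mul_mem (inv_mem hs) hx) hs, ?_⟩
      simp [MulAut.conj_apply, mul_assoc]
  rw [Subgroup.map_commutator, hSmap]

end coords

section conj

variable {G : Type*} [Group G]

/-- conjugation `x ↦ g⁻¹ x g` on a subgroup normalized by `g` -/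
def conjHom (C : Subgroup G) (g : G) (hg : g ∈ normalizer (C : Set G)) : C →* C where
  toFun x := ⟨g⁻¹ * x * g, by
    have h1 := (mem_normalizer_iff.mp (inv_mem hg) x).mp x.2
    rwa [inv_inv] at h1⟩
  map_one' := by apply Subtype.ext; simp
  map_mul' x y := by apply Subtype.ext; simp [mul_assoc]

theorem conjHom_coe (C : Subgroup G) (g : G) (hg : g ∈ normalizer (C : Set G)) (x : C) :
    ((conjHom C g hg x : C) : G) = g⁻¹ * x * g := rfl

end conj

section hom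

variable {G : Type*} [Group G] [Finite G] (S : Sylow 2 G) (n : ℕ)
  (e : (S : Subgroup G) ≃* QuaternionGroup (2 ^ (n + 2)))

/-- The linear character `λ₀` of `C_G(S')`. -/
theorem exists_lamHom :
    ∃ f : ↥(centralizer ((⁅(S : Subgroup G), (S : Subgroup G)⁆ : Subgroup G) : Set G)) →* ℂˣ,
      (∀ (i : ℕ) (h : A e (i : ZMod (2 * 2 ^ (n + 2))) ∈
          centralizer ((⁅(S : Subgroup G), (S : Subgroup G)⁆ : Subgroup G) : Set G)),
          f ⟨A e i, h⟩ = Iu ^ i) ∧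
      (∀ x, f x ≠ 1 → 2 ^ (n + 2) ∣ orderOf (x : G)) ∧
      (∀ g ∈ normalizer ((⁅(S : Subgroup G), (S : Subgroup G)⁆ : Subgroup G) : Set G),
        g ∉ centralizer ((⁅(S : Subgroup G), (S : Subgroup G)⁆ : Subgroup G) : Set G) →
        ∀ (x : G) (hx : x ∈ centralizer ((⁅(S : Subgroup G), (S : Subgroup G)⁆ : Subgroup G) : Set G))
          (h : g⁻¹ * x * g ∈
            centralizer ((⁅(S : Subgroup G), (S : Subgroup G)⁆ : Subgroup G) : Set G)),
          f ⟨g⁻¹ * x * g, h⟩ = (f ⟨x, hx⟩)⁻¹) := by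
  classical
  obtain ⟨D, hD⟩ : ∃ D : Subgroup G, D = ⁅(S : Subgroup G), (S : Subgroup G)⁆ := ⟨_, rfl⟩
  obtain ⟨K, hKodd, hKC, hNK, -, hKT, hidx⟩ := Cfsg.Agent.S0842.result S n e D hD
  rw [hD] at hKC hNK hKT hidx
  rw [inf_centralizer e] at hKT
  obtain ⟨C, hC⟩ : ∃ C : Subgroup G,
    C = centralizer ((⁅(S : Subgroup G), (S : Subgroup G)⁆ : Subgroup G) : Set G) := ⟨_, rfl⟩
  obtain ⟨Nn, hNn⟩ : ∃ Nn : Subgroup G,
    Nn = normalizer ((⁅(S : Subgroup G), (S : Subgroup G)⁆ : Subgroup G) : Set G) := ⟨_, rfl⟩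
  rw [← hC] at hKC hKT hidx ⊢
  rw [← hNn] at hNK hidx ⊢
  have hCN : C ≤ Nn := by rw [hC, hNn]; exact centralizer_le_normalizer _
  have hNnC : Nn ≤ normalizer (C : Set G) := by
    rw [hC, hNn]; exact Helper47_SubAPI.normalizer_le_normalizer_centralizer _
  have hAC : ∀ i, A e i ∈ C := by intro i; rw [hC]; exact A_mem_centralizer e i
  have hXAC : ∀ i, XA e i ∉ C := by intro i; rw [hC]; exact XA_not_mem_centralizer e i
  have hSN : (S : Subgroup G) ≤ Nn := by rw [hNn]; exact le_normalizer_commutator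
  -- the normal subgroup `K'` of `C`
  have hK'n : (K.subgroupOf C).Normal :=
    (normal_subgroupOf_iff_le_normalizer hKC).mpr (hCN.trans hNK)
  have hK'odd : Odd (Nat.card (K.subgroupOf C)) := by
    rw [Nat.card_congr (Subgroup.subgroupOfEquivOfLe hKC).toEquiv]; exact hKodd
  obtain ⟨a', ha'⟩ : ∃ a' : C, a' = ⟨A e 1, hAC 1⟩ := ⟨_, rfl⟩
  have ha'o : orderOf a' = 2 ^ ((n + 1) + 2) := by
    rw [ha', Subgroup.orderOf_mk, orderOf_A_one]
  have hsup : K.subgroupOf C ⊔ zpowers a' = ⊤ := by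
    have h1 : (K ⊔ zpowers (A e 1)).subgroupOf C = ⊤ := by rw [hKT]; exact subgroupOf_self C
    have hTC : zpowers (A e 1) ≤ C := by rw [Subgroup.zpowers_le]; exact hAC 1
    rw [subgroupOf_sup hKC hTC] at h1
    rw [eq_top_iff, ← h1]
    apply sup_le_sup_left
    intro x hx
    rw [mem_subgroupOf] at hx
    obtain ⟨k, hk⟩ := hx
    refine ⟨k, ?_⟩
    apply Subtype.ext
    rw [ha']
    simpa using hk
  obtain ⟨f, hfa, hfK, hfker⟩ := exists_hom (K.subgroupOf C) hK'odd a' (n + 1) ha'o hsup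
  refine ⟨f, ?_, ?_, ?_⟩
  · intro i h
    have h1 : (⟨A e (i : ZMod (2 * 2 ^ (n + 2))), h⟩ : C) = a' ^ i := by
      apply Subtype.ext
      rw [ha', Subgroup.coe_pow, A_pow, mul_one]
    rw [h1, map_pow, hfa]
  · intro x hx
    have := hfker x hx
    rwa [← Subgroup.orderOf_coe] at this
  · intro g hgN hgC x hx h
    -- the element `s₀ = XA 0`
    have hs₀N : XA e 0 ∈ Nn := hSN (XA_mem e 0)
    have hs₀C : XA e 0 ∉ C := hXAC 0
    have hc : g * (XA e 0)⁻¹ ∈ C := by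
      have h1 : (⟨g, hgN⟩ : Nn) * (⟨XA e 0, hs₀N⟩ : Nn)⁻¹ ∈ C.subgroupOf Nn := by
        rw [Subgroup.mul_mem_iff_of_index_two hidx, Subgroup.inv_mem_iff, mem_subgroupOf,
          mem_subgroupOf]
        exact ⟨fun h => absurd h hgC, fun h => absurd h hs₀C⟩
      rw [mem_subgroupOf] at h1
      exact h1
    obtain ⟨σ, hσ⟩ : ∃ σ : C →* C, σ = conjHom C (XA e 0) (hNnC hs₀N) := ⟨_, rfl⟩
    have hσK : ∀ k ∈ K.subgroupOf C, σ k ∈ K.subgroupOf C := by
      intro k hk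
      rw [mem_subgroupOf] at hk ⊢
      rw [hσ, conjHom_coe]
      have h1 := (mem_normalizer_iff.mp (inv_mem (hNK hs₀N)) k).mp hk
      rwa [inv_inv] at h1
    have hσa : σ a' = a'⁻¹ := by
      apply Subtype.ext
      rw [hσ, conjHom_coe, ha', Subgroup.coe_inv]
      exact XA_conj_A e 0 1
    obtain ⟨c', hc'⟩ : ∃ c' : C, c' = ⟨g * (XA e 0)⁻¹, hc⟩ := ⟨_, rfl⟩
    have h1 : (⟨g⁻¹ * x * g, h⟩ : C) = σ (c'⁻¹ * ⟨x, hx⟩ * c') := by
      apply Subtype.ext
      rw [hσ, conjHom_coe, hc']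
      simp only [Subgroup.coe_mul, Subgroup.coe_inv]
      group
    rw [h1, apply_endo (K.subgroupOf C) a' hsup f hfK σ hσK hσa, map_mul, map_mul, map_inv,
      mul_comm (f c')⁻¹, mul_assoc, inv_mul_cancel, mul_one]

/-- `exists_lamHom` with names for the centralizer and the normalizer. -/
theorem exists_lamHom' (C Nn : Subgroup G)
    (hC : C = centralizer ((⁅(S : Subgroup G), (S : Subgroup G)⁆ : Subgroup G) : Set G))
    (hNn : Nn = normalizer ((⁅(S : Subgroup G), (S : Subgroup G)⁆ : Subgroup G) : Set G)) :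
    ∃ f : ↥C →* ℂˣ,
      (∀ (i : ℕ) (h : A e (i : ZMod (2 * 2 ^ (n + 2))) ∈ C), f ⟨A e i, h⟩ = Iu ^ i) ∧
      (∀ x, f x ≠ 1 → 2 ^ (n + 2) ∣ orderOf (x : G)) ∧
      (∀ g ∈ Nn, g ∉ C → ∀ (x : G) (hx : x ∈ C) (h : g⁻¹ * x * g ∈ C),
          f ⟨g⁻¹ * x * g, h⟩ = (f ⟨x, hx⟩)⁻¹) := by
  subst hC
  subst hNn
  exact exists_lamHom S n e

end hom

section main

open Cfsg.Agent.Lib.Helper55_BSChar Cfsg.Agent.Lib.Helper75_LinChar

variable {G : Type*} [Group G] [Fintype G] (S : Sylow 2 G) (n : ℕ)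
  (e : (S : Subgroup G) ≃* QuaternionGroup (2 ^ (n + 2)))

/-- **Brauer–Suzuki, character part.**  Two non-principal irreducible characters with
`χ₁ 1 = χ₂ 1 + 1`, such that `1 + χ₂ - χ₁` vanishes at all elements whose order is not divisible
by `|S'| = 2 ^ (n + 2)`, and does not vanish at `A e i` for `4 ∤ i`. -/
theorem main :
    ∃ χ₁ χ₂ : G → ℂ, Cfsg.IsIrrCharacter G χ₁ ∧ Cfsg.IsIrrCharacter G χ₂ ∧
      χ₁ ≠ (fun _ => (1 : ℂ)) ∧ χ₂ ≠ (fun _ => (1 : ℂ)) ∧ χ₁ ≠ χ₂ ∧ χ₁ 1 = χ₂ 1 + 1 ∧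
      (∀ g : G, ¬ 2 ^ (n + 2) ∣ orderOf g → 1 + χ₂ g - χ₁ g = 0) ∧
      (∀ i : ℕ, ¬ 4 ∣ i →
        1 + χ₂ (A e (i : ZMod (2 * 2 ^ (n + 2)))) - χ₁ (A e (i : ZMod (2 * 2 ^ (n + 2)))) ≠ 0) := by
  classical
  obtain ⟨K, -, -, -, -, -, hidx⟩ := Cfsg.Agent.S0842.result S n e _ rfl
  have h843 := (Cfsg.Agent.S0843.result S n e _ rfl).2.1
  rw [card_commutator e] at h843
  obtain ⟨C, hC⟩ : ∃ C : Subgroup G,
    C = centralizer ((⁅(S : Subgroup G), (S : Subgroup G)⁆ : Subgroup G) : Set G) := ⟨_, rfl⟩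
  obtain ⟨Nn, hNn⟩ : ∃ Nn : Subgroup G,
    Nn = normalizer ((⁅(S : Subgroup G), (S : Subgroup G)⁆ : Subgroup G) : Set G) := ⟨_, rfl⟩
  have hAC : ∀ i, A e i ∈ C := by intro i; rw [hC]; exact A_mem_centralizer e i
  rw [← hC] at hidx h843
  rw [← hNn] at hidx h843
  obtain ⟨f, hfA, hfker, hfinv⟩ := exists_lamHom' S n e C Nn hC hNn
  have hCN : C ≤ Nn := by rw [hC, hNn]; exact centralizer_le_normalizer _
  have hNnC : Nn ≤ normalizer (C : Set G) := by
    rw [hC, hNn]; exact Helper47_SubAPI.normalizer_le_normalizer_centralizer _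
  obtain ⟨lam, hlamdef⟩ : ∃ lam : C → ℂ, lam = fun x => ((f x : ℂˣ) : ℂ) := ⟨_, rfl⟩
  have hlam : IsLin C lam := by
    rw [hlamdef]
    exact isLin_of_hom ((Units.coeHom ℂ).comp f)
  have hlam1 : ∀ x : C, lam x ≠ 1 → f x ≠ 1 := by
    intro x hx h
    apply hx
    rw [hlamdef]
    show ((f x : ℂˣ) : ℂ) = 1
    rw [h]; rfl
  have hcard : Nat.card Nn = 2 * Nat.card C := by
    rw [← Subgroup.index_mul_card (C.subgroupOf Nn), hidx,
      Nat.card_congr (Subgroup.subgroupOfEquivOfLe hCN).toEquiv]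
  have hinv : ∀ g ∈ Nn, g ∉ C → ∀ x ∈ C,
      ext1 C lam (g⁻¹ * x * g) = (ext1 C lam x)⁻¹ := by
    intro g hgN hgC x hx
    have hmem : g⁻¹ * x * g ∈ C := by
      have h1 := (mem_normalizer_iff.mp (inv_mem (hNnC hgN)) x).mp hx
      rwa [inv_inv] at h1
    rw [ext1_of_mem C lam hmem, ext1_of_mem C lam hx, hlamdef]
    show ((f ⟨g⁻¹ * x * g, hmem⟩ : ℂˣ) : ℂ) = ((f ⟨x, hx⟩ : ℂˣ) : ℂ)⁻¹
    rw [hfinv g hgN hgC x hx hmem, Units.val_inv_eq_inv_val]
  have hX : ∀ x : G, ext1 C lam x ≠ 1 → x ∈ C ∧ 2 ^ (n + 2) ∣ orderOf x := by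
    intro x hx
    have hxC := mem_of_ext1_ne_one C lam hx
    rw [ext1_of_mem C lam hxC] at hx
    exact ⟨hxC, hfker ⟨x, hxC⟩ (hlam1 _ hx)⟩
  have hTI : ∀ g x : G, ext1 C lam x ≠ 1 → ext1 C lam (g⁻¹ * x * g) ≠ 1 → g ∈ Nn := by
    intro g x hx hgx
    obtain ⟨hxC, hxo⟩ := hX x hx
    obtain ⟨hgxC, -⟩ := hX _ hgx
    have h1 := h843 g⁻¹ x hxC hxo (by rwa [inv_inv])
    have h2 := inv_mem h1
    rwa [inv_inv] at h2
  have hlamA : ∀ i : ℕ, lam ⟨A e (i : ZMod (2 * 2 ^ (n + 2))), hAC _⟩ = Complex.I ^ i := by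
    intro i
    rw [hlamdef]
    show ((f ⟨A e (i : ZMod (2 * 2 ^ (n + 2))), hAC _⟩ : ℂˣ) : ℂ) = Complex.I ^ i
    rw [hfA i (hAC _), Units.val_pow_eq_pow_val, Iu_val]
  have hsq : ∃ x : C, lam x * lam x ≠ 1 := by
    refine ⟨⟨A e ((1 : ℕ) : ZMod (2 * 2 ^ (n + 2))), hAC _⟩, ?_⟩
    rw [hlamA 1, pow_one, Complex.I_mul_I]
    norm_num
  obtain ⟨χ₁, χ₂, h1, h2, hne1, hne2, hne12, hdeg, hΘ⟩ :=
    exists_triple C Nn lam hlam hCN hcard hinv hTI hsq
  refine ⟨χ₁, χ₂, h1, h2, hne1, hne2, hne12, hdeg, ?_, ?_⟩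
  · intro g hg
    rw [← hΘ g]
    apply Theta_eq_zero
    intro y
    by_contra hne
    obtain ⟨-, ho⟩ := hX _ hne
    apply hg
    have h3 : y⁻¹ * g * y = y⁻¹ * g * (y⁻¹)⁻¹ := by rw [inv_inv]
    rwa [h3, Helper34_Sylow.orderOf_conj'] at ho
  · intro i hi
    rw [← hΘ]
    have hz : ext1 C lam (A e (i : ZMod (2 * 2 ^ (n + 2)))) = Complex.I ^ i := by
      rw [ext1_of_mem C lam (hAC _), hlamA i]
    have hz1 : ext1 C lam (A e (i : ZMod (2 * 2 ^ (n + 2)))) ≠ 1 := by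
      rw [hz]
      intro h
      apply hi
      have h4 : Iu ^ i = 1 := by
        apply Units.ext
        rw [Units.val_pow_eq_pow_val, Iu_val, h]
        rfl
      have h5 := orderOf_dvd_of_pow_eq_one h4
      rwa [orderOf_Iu] at h5
    rw [Theta_apply_of_ne C Nn lam hlam hCN hcard hinv hTI _ hz1]
    obtain ⟨z, hzdef⟩ : ∃ z : ℂ, z = ext1 C lam (A e (i : ZMod (2 * 2 ^ (n + 2)))) := ⟨_, rfl⟩
    rw [← hzdef] at hz1 ⊢
    have hz0 : z ≠ 0 := by
      rw [hzdef, hz]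
      exact pow_ne_zero _ Complex.I_ne_zero
    intro h
    apply hz1
    have h6 : (z - 1) ^ 2 = 0 := by
      have h7 : (z - 1) ^ 2 = -z * (2 - z - z⁻¹) := by
        field_simp
        ring
      rw [h7, h, mul_zero]
    have h8 := pow_eq_zero_iff (two_ne_zero) |>.mp h6
    exact sub_eq_zero.mp h8

end main

end Cfsg.Agent.Lib.Helper55_BSQuat
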