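import Mathlib
import Cfsg.Prelude.Def_Characters
import Cfsg.Agent.Lib.Helper55_QuatCoord
import Cfsg.Agent.Lib.Helper55_QuatCoord2
import Cfsg.Agent.Lib.Helper55_BSQuat
import Cfsg.Agent.Lib.Helper4_InvPairs
import Cfsg.Agent.Lib.Helper4_Isolated
import Cfsg.Agent.Lib.Helper2_Sylow

/-!
# Involutions in a group with generalized quaternion Sylow `2`-subgroups (helper55)

All involutions are conjugate to the central involution `tInv e` of `S`, two commuting
involutions coincide, and a product of two involutions never has order divisible by `4`.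
-/

set_option autoImplicit false

namespace Cfsg.Agent.Lib.Helper55_BSInvol

open Subgroup Cfsg.Agent.Lib.Helper55_QuatCoord Cfsg.Agent.Lib.Helper4_InvPairs

section group

variable {G : Type*} [Group G] {P : Subgroup G} {n : ℕ}
  (e : ↥P ≃* QuaternionGroup (2 ^ (n + 2)))

/-- the central involution of `P` -/
def tInv : G := A e ((2 ^ (n + 2) : ℕ) : ZMod (2 * 2 ^ (n + 2)))

theorem tInv_mem : tInv e ∈ P := A_mem e _

theorem orderOf_tInv : orderOf (tInv e) = 2 := by
  apply orderOf_two_of_mul_self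
  · unfold tInv
    rw [A_mul_A, ← A_zero e]
    congr 1
    have h2N := two_N_eq_zero (N := 2 ^ (n + 2))
    linear_combination h2N
  · unfold tInv
    rw [← A_zero e]
    intro h
    exact Cfsg.Agent.Lib.Helper55_BSQuat.natCast_pow_ne_zero (n := n) (A_injective e h)

theorem eq_tInv_of_mem {u : G} (hu : orderOf u = 2) (hmem : u ∈ P) : u = tInv e := by
  have : NeZero (2 ^ (n + 2)) := ⟨by positivity⟩
  apply eq_of_sq_eq_one e hmem
  · rw [pow_two]; exact mul_self_of_orderOf_two hu
  · exact ne_one_of_orderOf_two hu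

end group

section sylow

variable {G : Type*} [Group G] [Finite G] (S : Sylow 2 G) {n : ℕ}
  (e : (S : Subgroup G) ≃* QuaternionGroup (2 ^ (n + 2)))

include S in
/-- every `2`-subgroup is conjugate into `S` -/
theorem exists_conj_le (B : Subgroup G) (hB : IsPGroup 2 B) :
    ∃ g : G, ∀ x ∈ B, g⁻¹ * x * g ∈ (S : Subgroup G) := by
  have : Fact (Nat.Prime 2) := ⟨Nat.prime_two⟩
  obtain ⟨Q, hQ⟩ := hB.exists_le_sylow
  obtain ⟨g, hg⟩ := MulAction.exists_smul_eq G S Q
  refine ⟨g, fun x hx => ?_⟩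
  apply (Helper2_Sylow.mem_smul_sylow_iff' g x S).mp
  rw [hg]; exact hQ hx

omit [Finite G] in
theorem orderOf_conj_inv (g u : G) : orderOf (g⁻¹ * u * g) = orderOf u := by
  have := orderOf_injective (MulAut.conj g⁻¹).toMonoidHom (MulAut.conj g⁻¹).injective u
  simpa [MulAut.conj_apply] using this

theorem exists_conj_eq_tInv {u : G} (hu : orderOf u = 2) : ∃ g : G, g⁻¹ * u * g = tInv e := by
  have hB : IsPGroup 2 (zpowers u) := by
    apply IsPGroup.of_card (n := 1)
    rw [Nat.card_zpowers, hu, pow_one]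
  obtain ⟨g, hg⟩ := exists_conj_le S (zpowers u) hB
  refine ⟨g, ?_⟩
  apply eq_tInv_of_mem e _ (hg u (mem_zpowers u))
  rw [orderOf_conj_inv, hu]

theorem isConj_tInv {u : G} (hu : orderOf u = 2) : IsConj (tInv e) u := by
  obtain ⟨g, hg⟩ := exists_conj_eq_tInv S e hu
  rw [isConj_iff]
  refine ⟨g, ?_⟩
  rw [← hg]
  group

include S e in
theorem eq_of_commute {u w : G} (hu : orderOf u = 2) (hw : orderOf w = 2) (hc : Commute u w) :
    u = w := by
  have hB := Cfsg.Agent.Lib.Helper4_Isolated.isPGroup_closure_of_commute hu hw hc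
  obtain ⟨g, hg⟩ := exists_conj_le S _ hB
  have h1 := eq_tInv_of_mem e (u := g⁻¹ * u * g) (by rw [orderOf_conj_inv, hu])
    (hg u (subset_closure (Set.mem_insert _ _)))
  have h2 := eq_tInv_of_mem e (u := g⁻¹ * w * g) (by rw [orderOf_conj_inv, hw])
    (hg w (subset_closure (Set.mem_insert_of_mem _ (Set.mem_singleton _))))
  have h3 : g⁻¹ * u * g = g⁻¹ * w * g := h1.trans h2.symm
  exact mul_left_cancel (mul_right_cancel h3)

include S e in
/-- A product of two involutions does not have order divisible by `4`. -/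
theorem not_four_dvd_orderOf_mul {x y : G} (hx : orderOf x = 2) (hy : orderOf y = 2) :
    ¬ 4 ∣ orderOf (x * y) := by
  rintro ⟨k, hk⟩
  obtain ⟨g, hg⟩ : ∃ g : G, g = x * y := ⟨_, rfl⟩
  rw [← hg] at hk
  have ho : 0 < orderOf g := orderOf_pos g
  have hkpos : 0 < k := by
    rcases Nat.eq_zero_or_pos k with h | h
    · rw [h] at hk; omega
    · exact h
  have hxx := mul_self_of_orderOf_two hx
  have hyy := mul_self_of_orderOf_two hy
  have hxinv := inv_eq_self_of_orderOf_two hx
  have hyinv := inv_eq_self_of_orderOf_two hy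
  -- `x` inverts `g`
  have hinv : x * g * x⁻¹ = g⁻¹ := by
    rw [hg, hxinv, mul_inv_rev, hxinv, hyinv]
    calc x * (x * y) * x = (x * x) * y * x := by group
      _ = y * x := by rw [hxx, one_mul]
  obtain ⟨z, hz⟩ : ∃ z : G, z = g ^ (2 * k) := ⟨_, rfl⟩
  have hzo : orderOf z = 2 := by
    rw [hz, orderOf_pow_of_dvd (by omega) ⟨2, by rw [hk]; ring⟩, hk]
    have : 4 * k = 2 * k * 2 := by ring
    rw [this, Nat.mul_div_cancel_left _ (by omega : 0 < 2 * k)]
  have hzinv := inv_eq_self_of_orderOf_two hzo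
  have hxz : x * z * x⁻¹ = z := by
    rw [hz, ← conj_pow, hinv, inv_pow, ← hz, hzinv]
  have hc : Commute x z := by
    show x * z = z * x
    calc x * z = (x * z * x⁻¹) * x := by group
      _ = z * x := by rw [hxz]
  have hxeq : x = z := eq_of_commute S e hx hzo hc
  -- then `x` commutes with `g`
  have hcg : x * g * x⁻¹ = g := by
    rw [hxeq, hz]
    have : Commute (g ^ (2 * k)) g := (Commute.refl g).pow_left _
    calc g ^ (2 * k) * g * (g ^ (2 * k))⁻¹ = g * g ^ (2 * k) * (g ^ (2 * k))⁻¹ := by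
          rw [this.eq]
      _ = g := by group
  have hgg : g ^ 2 = 1 := by
    rw [pow_two]
    have h1 : g = g⁻¹ := hcg.symm.trans hinv
    calc g * g = g * g⁻¹ := by rw [← h1]
      _ = 1 := mul_inv_cancel g
  have hdvd := orderOf_dvd_of_pow_eq_one hgg
  have := Nat.le_of_dvd (by norm_num) hdvd
  omega

end sylow

end Cfsg.Agent.Lib.Helper55_BSInvol
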