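import Mathlib
import Cfsg.Prelude.Def_Characters
import Cfsg.Agent.Lib.Helper15_HallTilde
import Cfsg.Agent.Lib.Helper3_CharColumn
import Cfsg.Agent.Lib.Helper3_CharDegree
import Cfsg.Agent.Lib.Helper80_CharBasic
import Cfsg.Agent.Lib.Helper57_FrobNorm
import Cfsg.Agent.Lib.Helper25_VirtNorm

/-!
# Brauer–Suzuki: normal complements of Hall subgroups (Isaacs 8.22) — counting part (helper15)

With `HallData H` (coprime order/index, fusion control, elementary subgroups of order dividing
`|H|` conjugate into `H`), `ψ ↦ ψ̃` maps `Irr H` into `Irr G`, and the intersection of the kernels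
is a normal complement: `exists_normal_complement`.
-/

set_option autoImplicit false

namespace Cfsg.Agent.Lib.Helper15_HallCount

open Cfsg
open scoped ComplexConjugate
open Cfsg.Agent.Lib.Helper15_HallTilde Cfsg.Agent.Lib.Helper3_CharBridge
  Cfsg.Agent.Lib.Helper3_CharColumn Cfsg.Agent.Lib.Helper3_CharOrtho
  Cfsg.Agent.Lib.Helper75_CharArith

universe u

open scoped Classical

variable {G : Type u} [Group G] [Fintype G] {H : Subgroup G} (hD : HallData H)

/-- A chosen `H`-representative of the `π`-part of `g`. -/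
noncomputable def rep (g : G) : H := ⟨_, (hD.exists_conj_pow g).choose_spec⟩

theorem tilde_rep {ψ : H → ℂ} (hψ : IsClassFunction H ψ) (g : G) :
    tilde H hD.w ψ g = ψ (rep hD g) :=
  tilde_eq hD.fus hD.w hψ _

theorem rep_isConj_of_mem (h : H) : IsConj (rep hD (h : G)) h := by
  have hmem : ((rep hD (h : G) : H) : G) ∈ H := (rep hD (h : G)).2
  have hc : IsConj ((rep hD (h : G) : H) : G) (h : G) := by
    rw [isConj_comm, isConj_iff]
    refine ⟨(hD.exists_conj_pow (h : G)).choose, ?_⟩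
    exact congrArg (fun z => (hD.exists_conj_pow (h : G)).choose * z *
      (hD.exists_conj_pow (h : G)).choose⁻¹) (hD.pow_w_of_mem h.2).symm
  obtain ⟨k, hk, hk2⟩ := hD.fus _ hmem _ h.2 hc
  rw [isConj_iff]
  exact ⟨⟨k, hk⟩, Subtype.ext hk2⟩

/-- Sum over a conjugacy class. -/
theorem sum_ite_isConj (x : H) (c : H → ℂ) (hc : ∀ y, IsConj x y → c y = c x) :
    ∑ y : H, (if IsConj x y then c y else 0) = ((conjFinset x).card : ℂ) * c x := by
  have : ∀ y : H, (if IsConj x y then c y else 0) = if y ∈ conjFinset x then c x else 0 := by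
    intro y
    by_cases hy : IsConj x y
    · rw [if_pos hy, if_pos (mem_conjFinset.2 hy.symm), hc y hy]
    · rw [if_neg hy, if_neg (fun h => hy (mem_conjFinset.1 h).symm)]
  simp_rw [this]
  rw [Finset.sum_ite_mem, Finset.univ_inter, Finset.sum_const, nsmul_eq_mul]

/-- The weighted count. -/
noncomputable def q (h₀ : H) : ℕ :=
  ∑ g : G, if IsConj (rep hD g) h₀ then Nat.card (Subgroup.centralizer ({h₀} : Set H)) else 0

theorem q_cast (h₀ : H) : (q hD h₀ : ℂ) =
    ∑ ψ : IrrCharacter H, conj ((ψ : H → ℂ) h₀) * ∑ g : G, (ψ : H → ℂ) (rep hD g) := by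
  simp_rw [Finset.mul_sum]
  rw [Finset.sum_comm]
  rw [q, Nat.cast_sum]
  refine Finset.sum_congr rfl (fun g _ => ?_)
  have h1 := column_orthogonality (rep hD g) h₀
  simp_rw [mul_comm (conj _)]
  rw [h1]
  by_cases hc : IsConj (rep hD g) h₀
  · rw [if_pos hc, if_pos hc, card_centralizer_eq_of_isConj hc]
  · rw [if_neg hc, if_neg hc, Nat.cast_zero]

theorem q_pos (h₀ : H) : 0 < q hD h₀ := by
  have h1 : (if IsConj (rep hD (h₀ : G)) h₀ then
      Nat.card (Subgroup.centralizer ({h₀} : Set H)) else 0) ≤ q hD h₀ :=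
    Finset.single_le_sum (f := fun g : G => if IsConj (rep hD g) h₀ then
      Nat.card (Subgroup.centralizer ({h₀} : Set H)) else 0) (fun _ _ => Nat.zero_le _)
      (Finset.mem_univ (h₀ : G))
  rw [if_pos (rep_isConj_of_mem hD h₀)] at h1
  exact lt_of_lt_of_le Nat.card_pos h1

theorem sum_q : ∑ h₀ : H, q hD h₀ = Nat.card G * Nat.card H := by
  simp_rw [q]
  rw [Finset.sum_comm]
  have : ∀ g : G, ∑ h₀ : H, (if IsConj (rep hD g) h₀ then
      Nat.card (Subgroup.centralizer ({h₀} : Set H)) else 0) = Nat.card H := by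
    intro g
    have h1 := sum_ite_isConj (rep hD g)
      (fun y => (Nat.card (Subgroup.centralizer ({y} : Set H)) : ℂ))
      (fun y hy => by rw [card_centralizer_eq_of_isConj hy])
    have h2 := card_conjFinset_mul_card_centralizer (rep hD g)
    have h3 : ((∑ h₀ : H, (if IsConj (rep hD g) h₀ then
      Nat.card (Subgroup.centralizer ({h₀} : Set H)) else 0) : ℕ) : ℂ) = (Nat.card H : ℂ) := by
      rw [← h2]
      push_cast
      rw [← h1]
    exact_mod_cast h3
  simp_rw [this]
  rw [Finset.sum_const, Finset.card_univ, smul_eq_mul, Nat.card_eq_fintype_card (α := G)]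

theorem sum_rep_int (ψ : IrrCharacter H) :
    ∃ z : ℤ, ∑ g : G, (ψ : H → ℂ) (rep hD g) = (Nat.card G : ℂ) * z := by
  have hgen := hD.tilde_isGeneralizedCharacter (isCharacter_of_isIrrCharacter ψ.2)
  obtain ⟨z, hz⟩ := Cfsg.Agent.Lib.Helper57_FrobNorm.classInner_genChar_int hgen
    (isCharacter_of_isIrrCharacter (Cfsg.Agent.Lib.Helper80_CharBasic.isIrrCharacter_one G))
  refine ⟨z, ?_⟩
  rw [← hz, classInner, ← mul_assoc, mul_inv_cancel₀ card_ne_zero_complex, one_mul]
  refine Finset.sum_congr rfl (fun g _ => ?_)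
  rw [tilde_rep hD (isClassFunction_of_isIrrCharacter ψ.2), map_one, mul_one]

theorem isIntegral_irr (ψ : IrrCharacter H) (h : H) : IsIntegral ℤ ((ψ : H → ℂ) h) := by
  obtain ⟨n, ρ, hirr, hρ⟩ := ψ.2
  rw [← hρ]
  exact Cfsg.Agent.Lib.Helper3_CharEigen.isIntegral_char ρ h

theorem card_dvd_q (h₀ : H) : Nat.card G ∣ q hD h₀ := by
  apply Cfsg.Agent.Lib.Helper3_CharDegree.dvd_of_isIntegral_div Nat.card_pos.ne'
  rw [q_cast]
  choose z hz using sum_rep_int hD
  simp_rw [hz]
  have : (∑ ψ : IrrCharacter H, conj ((ψ : H → ℂ) h₀) * ((Nat.card G : ℂ) * (z ψ : ℂ))) /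
      (Nat.card G : ℂ) = ∑ ψ : IrrCharacter H, conj ((ψ : H → ℂ) h₀) * (z ψ : ℂ) := by
    rw [Finset.sum_div]
    refine Finset.sum_congr rfl (fun ψ _ => ?_)
    field_simp [card_ne_zero_complex (G := G)]
  rw [this]
  refine IsIntegral.sum _ (fun ψ _ => ?_)
  refine IsIntegral.mul ?_ isIntegral_algebraMap
  rw [← Cfsg.Agent.Lib.Helper80_CharBasic.irr_inv]
  exact isIntegral_irr ψ _

theorem q_eq (h₀ : H) : q hD h₀ = Nat.card G := by
  have hle : ∀ h ∈ (Finset.univ : Finset H), Nat.card G ≤ q hD h := fun h _ =>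
    Nat.le_of_dvd (q_pos hD h) (card_dvd_q hD h)
  have hsum : ∑ _h : H, Nat.card G = ∑ h : H, q hD h := by
    rw [sum_q, Finset.sum_const, Finset.card_univ, smul_eq_mul, Nat.card_eq_fintype_card (α := H),
      mul_comm]
  exact ((Finset.sum_eq_sum_iff_of_le hle).1 hsum h₀ (Finset.mem_univ _)).symm

/-- The key counting identity. -/
theorem sum_rep {F : H → ℂ} (hF : IsClassFunction H F) :
    (∑ g : G, F (rep hD g)) * (Nat.card H : ℂ) = (Nat.card G : ℂ) * ∑ h : H, F h := by
  have h1 : ∀ g : G, F (rep hD g) * (Nat.card H : ℂ) =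
      ∑ h₀ : H, (if IsConj (rep hD g) h₀ then
        F h₀ * (Nat.card (Subgroup.centralizer ({h₀} : Set H)) : ℂ) else 0) := by
    intro g
    rw [sum_ite_isConj (rep hD g)
      (fun y => F y * (Nat.card (Subgroup.centralizer ({y} : Set H)) : ℂ))
      (fun y hy => by
        rw [card_centralizer_eq_of_isConj hy, classFunction_apply_of_isConj hF hy])]
    rw [← card_conjFinset_mul_card_centralizer (rep hD g)]
    push_cast
    ring
  rw [Finset.sum_mul]
  simp_rw [h1]
  rw [Finset.sum_comm, Finset.mul_sum]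
  refine Finset.sum_congr rfl (fun h₀ _ => ?_)
  have h2 : ((q hD h₀ : ℕ) : ℂ) = (Nat.card G : ℂ) := by rw [q_eq]
  rw [← h2, q, Nat.cast_sum, Finset.sum_mul]
  refine Finset.sum_congr rfl (fun g _ => ?_)
  split_ifs <;> simp [mul_comm]

theorem classInner_tilde {ψ : H → ℂ} (hψ : IsClassFunction H ψ) :
    classInner (tilde H hD.w ψ) (tilde H hD.w ψ) = classInner ψ ψ := by
  have hF : IsClassFunction H (fun h => ψ h * conj (ψ h)) := by
    intro g h
    simp only
    rw [hψ g h]
  have h1 := sum_rep hD hF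
  rw [classInner, classInner]
  simp_rw [tilde_rep hD hψ]
  have hG : (Nat.card G : ℂ) ≠ 0 := card_ne_zero_complex
  have hH : (Nat.card H : ℂ) ≠ 0 := card_ne_zero_complex
  field_simp
  linear_combination h1

theorem tilde_one {ψ : H → ℂ} (hψ : IsClassFunction H ψ) : tilde H hD.w ψ 1 = ψ 1 :=
  hD.tilde_of_mem hψ 1

theorem tilde_isIrrCharacter (ψ : IrrCharacter H) :
    IsIrrCharacter G (tilde H hD.w (ψ : H → ℂ)) := by
  have hcf := isClassFunction_of_isIrrCharacter ψ.2
  have hgen := hD.tilde_isGeneralizedCharacter (isCharacter_of_isIrrCharacter ψ.2)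
  have hnorm : classInner (tilde H hD.w (ψ : H → ℂ)) (tilde H hD.w (ψ : H → ℂ)) = 1 := by
    rw [classInner_tilde hD hcf, classInner_self_of_isIrrCharacter ψ.2]
  rcases Cfsg.Agent.Lib.Helper25_VirtNorm.norm_one _ hgen hnorm with h | h
  · exact h
  · exfalso
    obtain ⟨n, hn, hn1⟩ := irr_one_eq_natCast h
    obtain ⟨m, hm, hm1⟩ := irr_one_eq_natCast ψ.2
    rw [Pi.neg_apply, tilde_one hD hcf, hm1] at hn1
    have : ((n + m : ℕ) : ℂ) = 0 := by
      push_cast
      rw [← hn1]
      ring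
    have h0 : n + m = 0 := by exact_mod_cast this
    omega

omit [Fintype G] in
/-- The kernel of a character is a normal subgroup. -/
theorem exists_normal_ker [Finite G] {χ : G → ℂ} (hχ : IsCharacter G χ) :
    ∃ N : Subgroup G, N.Normal ∧ ∀ g, g ∈ N ↔ χ g = χ 1 := by
  obtain ⟨n, ρ, rfl⟩ := hχ
  refine ⟨MonoidHom.ker ρ, MonoidHom.normal_ker ρ, fun g => ?_⟩
  rw [MonoidHom.mem_ker, Representation.char_one,
    Cfsg.Agent.Lib.Helper3_CharEigen.char_eq_finrank_iff]
  rfl

theorem rep_eq_one_iff (g : G) :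
    rep hD g = 1 ↔ ∀ ψ : IrrCharacter H, tilde H hD.w (ψ : H → ℂ) g = tilde H hD.w (ψ : H → ℂ) 1 := by
  rw [← isConj_one_left, isConj_iff_forall_irr]
  refine forall_congr' (fun ψ => ?_)
  rw [tilde_rep hD (isClassFunction_of_isIrrCharacter ψ.2),
    tilde_one hD (isClassFunction_of_isIrrCharacter ψ.2)]

theorem rep_eq_one_of_mem (h : H) (hh : rep hD (h : G) = 1) : h = 1 := by
  have := rep_isConj_of_mem hD h
  rw [hh, isConj_one_right] at this
  exact this

theorem card_rep_eq_one :
    (Finset.univ.filter (fun g : G => rep hD g = 1)).card * Nat.card H = Nat.card G := by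
  have h1 := q_eq hD 1
  rw [q] at h1
  have h2 : Nat.card (Subgroup.centralizer ({1} : Set H)) = Nat.card H := by
    have : Subgroup.centralizer ({1} : Set H) = ⊤ := by
      rw [Subgroup.centralizer_eq_top_iff_subset]
      simp
    rw [this, Subgroup.card_top]
  rw [h2] at h1
  rw [← h1, Finset.card_filter, Finset.sum_mul]
  refine Finset.sum_congr rfl (fun g _ => ?_)
  simp_rw [isConj_one_left]
  split_ifs <;> simp

include hD in
/-- **Brauer–Suzuki**: a Hall subgroup satisfying the fusion and elementary-subgroup conditions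
has a normal complement. -/
theorem exists_normal_complement :
    ∃ K : Subgroup G, K.Normal ∧ K ⊔ H = ⊤ ∧ K ⊓ H = ⊥ := by
  have hN : ∀ ψ : IrrCharacter H, ∃ N : Subgroup G, N.Normal ∧
      ∀ g, g ∈ N ↔ tilde H hD.w (ψ : H → ℂ) g = tilde H hD.w (ψ : H → ℂ) 1 := fun ψ =>
    exists_normal_ker (isCharacter_of_isIrrCharacter (tilde_isIrrCharacter hD ψ))
  choose N hNn hNm using hN
  set K : Subgroup G := ⨅ ψ, N ψ with hK
  have hKn : K.Normal := Subgroup.normal_iInf_normal hNn
  have hKmem : ∀ g, g ∈ K ↔ rep hD g = 1 := by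
    intro g
    rw [rep_eq_one_iff, hK, Subgroup.mem_iInf]
    exact forall_congr' (fun ψ => hNm ψ g)
  have hdisj : K ⊓ H = ⊥ := by
    rw [eq_bot_iff]
    intro x hx
    rw [Subgroup.mem_inf] at hx
    have h1 := rep_eq_one_of_mem hD ⟨x, hx.2⟩ ((hKmem x).1 hx.1)
    rw [Subgroup.mem_bot]
    exact congrArg (fun z : H => (z : G)) h1
  have hcard : Nat.card K * Nat.card H = Nat.card G := by
    rw [← card_rep_eq_one hD]
    congr 1
    rw [Nat.card_eq_fintype_card, Fintype.card_subtype]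
    congr 1
    ext g
    simp [hKmem]
  refine ⟨K, hKn, ?_, hdisj⟩
  exact (Subgroup.isComplement'_of_card_mul_and_disjoint hcard
    (disjoint_iff.2 hdisj)).sup_eq_top

end Cfsg.Agent.Lib.Helper15_HallCount
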