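import Cfsg.Agent.Lib.Helper79_ClassAlgebra2

/-!
# Class multiplication constants (helper79)

`prodCount x y z` is the number of pairs `(g, h)` with `g x g⁻¹ * (h y h⁻¹) = z` (as a complex
number).  `prodCount_eq` :
`prodCount x y z = |G| * ∑ χ, χ x⁻¹ * χ y⁻¹ * χ z / χ 1` (sum over `IrrCharacter G`).
-/

set_option autoImplicit false

namespace Cfsg.Agent.Lib.Helper79_ClassConst

open Cfsg Cfsg.Agent.Lib.Helper81_CharBasic Cfsg.Agent.Lib.Helper81_CharOrth
  Cfsg.Agent.Lib.Helper81_CharComplete Cfsg.Agent.Lib.Helper81_CharExpand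
  Cfsg.Agent.Lib.Helper79_ClassAlgebra Cfsg.Agent.Lib.Helper79_ClassAlgebra2

universe u

variable {G : Type u} [Group G] [Fintype G] [DecidableEq G]

/-- The number of pairs `(g, h)` with `g x g⁻¹ * (h y h⁻¹) = z`, as a complex number. -/
noncomputable def prodCount (x y z : G) : ℂ :=
  ∑ g : G, ∑ h : G, if g * x * g⁻¹ * (h * y * h⁻¹) = z then 1 else 0

theorem prodCount_eq_card (x y z : G) :
    prodCount x y z =
      ((Finset.univ.filter (fun p : G × G => p.1 * x * p.1⁻¹ * (p.2 * y * p.2⁻¹) = z)).card : ℂ) := by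
  unfold prodCount
  rw [Finset.card_filter]
  push_cast
  rw [← Finset.univ_product_univ, Finset.sum_product]

theorem isClassFunction_prodCount (x y : G) : IsClassFunction G (prodCount x y) := by
  intro z k
  unfold prodCount
  refine Fintype.sum_equiv (Equiv.mulLeft k⁻¹) _ _ (fun g => ?_)
  refine Fintype.sum_equiv (Equiv.mulLeft k⁻¹) _ _ (fun h => ?_)
  simp only [Equiv.coe_mulLeft]
  have : (k⁻¹ * g * x * (k⁻¹ * g)⁻¹ * (k⁻¹ * h * y * (k⁻¹ * h)⁻¹) = z) ↔
      (g * x * g⁻¹ * (h * y * h⁻¹) = k * z * k⁻¹) := by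
    constructor
    · intro h1; rw [← h1]; group
    · intro h1
      have : z = k⁻¹ * (k * z * k⁻¹) * k := by group
      rw [this, ← h1]; group
  exact (if_congr this rfl rfl).symm

theorem sum_prodCount_mul (x y : G) (F : G → ℂ) :
    ∑ w : G, prodCount x y w * F w = ∑ g : G, ∑ h : G, F (g * x * g⁻¹ * (h * y * h⁻¹)) := by
  unfold prodCount
  simp only [Finset.sum_mul]
  rw [Finset.sum_comm]
  refine Finset.sum_congr rfl fun g _ => ?_
  rw [Finset.sum_comm]
  refine Finset.sum_congr rfl fun h _ => ?_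
  simp

/-- Class multiplication constants in terms of irreducible characters. -/
theorem prodCount_eq [Fintype (IrrCharacter G)] (x y z : G) :
    prodCount x y z = (Fintype.card G : ℂ) *
      ∑ χ : IrrCharacter G, (χ : G → ℂ) x⁻¹ * (χ : G → ℂ) y⁻¹ * (χ : G → ℂ) z / (χ : G → ℂ) 1 := by
  have hcard : (Fintype.card G : ℂ) ≠ 0 := by exact_mod_cast Fintype.card_ne_zero
  have hcard' : (Nat.card G : ℂ) = (Fintype.card G : ℂ) := by rw [Nat.card_eq_fintype_card]
  rw [classFunction_expansion_apply (prodCount x y) (isClassFunction_prodCount x y) z,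
    Finset.mul_sum]
  refine Finset.sum_congr rfl fun χ _ => ?_
  have h1 : ∑ w : G, prodCount x y w * (χ : G → ℂ) w⁻¹ =
      (Fintype.card G : ℂ) * ((Fintype.card G : ℂ) * (χ : G → ℂ) x⁻¹ * (χ : G → ℂ) y⁻¹ /
        (χ : G → ℂ) 1) := by
    rw [sum_prodCount_mul x y (fun w => (χ : G → ℂ) w⁻¹)]
    have hne := irr_one_ne_zero χ.2
    have hcf : ∀ (u c : G), (χ : G → ℂ) (c * u * c⁻¹) = (χ : G → ℂ) u :=
      fun u c => (IsCharacter.isClassFunction (IsIrrCharacter.isCharacter χ.2)) u c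
    have h2 : ∀ g : G, ∑ h : G, (χ : G → ℂ) (g * x * g⁻¹ * (h * y * h⁻¹))⁻¹ =
        (Fintype.card G : ℂ) * (χ : G → ℂ) x⁻¹ * (χ : G → ℂ) y⁻¹ / (χ : G → ℂ) 1 := by
      intro g
      have h3 := irr_card_mul_mul χ.2 y⁻¹ x⁻¹
      have h4 : ∑ h : G, (χ : G → ℂ) (g * x * g⁻¹ * (h * y * h⁻¹))⁻¹ =
          ∑ k : G, (χ : G → ℂ) (y⁻¹ * (k * x⁻¹ * k⁻¹)) := by
        refine Fintype.sum_equiv ((Equiv.inv G).trans (Equiv.mulRight g)) _ _ (fun h => ?_)
        simp only [Equiv.trans_apply, Equiv.inv_apply, Equiv.coe_mulRight]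
        rw [← hcf _ h⁻¹]
        congr 1
        group
      rw [h4]
      field_simp
      linear_combination -h3
    simp only [h2, Finset.sum_const, Finset.card_univ, nsmul_eq_mul]
  rw [h1, hcard']
  field_simp

end Cfsg.Agent.Lib.Helper79_ClassConst

namespace Cfsg.Agent.Lib.Helper79_ClassConst

universe u

variable {G : Type u} [Group G] [Fintype G] [DecidableEq G]

/-- The count at the identity for the pair `(x, x⁻¹)`: pairs `(g, h)` with
`g x g⁻¹ * (h x⁻¹ h⁻¹) = 1` are those with `g⁻¹ h ∈ C_G(x)`. -/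
theorem prodCount_inv_one (x : G) :
    prodCount x x⁻¹ 1 =
      (Fintype.card G : ℂ) * (Nat.card ↥(Subgroup.centralizer ({x} : Set G)) : ℂ) := by
  classical
  unfold prodCount
  have hinner : ∀ g : G, (∑ h : G, if g * x * g⁻¹ * (h * x⁻¹ * h⁻¹) = 1 then (1 : ℂ) else 0) =
      (Nat.card ↥(Subgroup.centralizer ({x} : Set G)) : ℂ) := by
    intro g
    have h1 : (∑ h : G, if g * x * g⁻¹ * (h * x⁻¹ * h⁻¹) = 1 then (1 : ℂ) else 0) =
        ∑ k : G, if k ∈ Subgroup.centralizer ({x} : Set G) then (1 : ℂ) else 0 := by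
      refine Fintype.sum_equiv (Equiv.mulLeft g⁻¹) _ _ (fun h => ?_)
      simp only [Equiv.coe_mulLeft, Subgroup.mem_centralizer_iff, Set.mem_singleton_iff,
        forall_eq]
      have : (g * x * g⁻¹ * (h * x⁻¹ * h⁻¹) = 1) ↔ (x * (g⁻¹ * h) = g⁻¹ * h * x) := by
        constructor
        · intro h2
          have h3 : g * x * g⁻¹ = h * x * h⁻¹ := by
            have := eq_inv_of_mul_eq_one_left h2
            rw [this]; group
          calc x * (g⁻¹ * h) = g⁻¹ * (g * x * g⁻¹) * h := by group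
            _ = g⁻¹ * (h * x * h⁻¹) * h := by rw [h3]
            _ = g⁻¹ * h * x := by group
        · intro h2
          have h3 : h * x * h⁻¹ = g * x * g⁻¹ := by
            calc h * x * h⁻¹ = g * (g⁻¹ * h * x) * h⁻¹ := by group
              _ = g * (x * (g⁻¹ * h)) * h⁻¹ := by rw [h2]
              _ = g * x * g⁻¹ := by group
          calc g * x * g⁻¹ * (h * x⁻¹ * h⁻¹) = g * x * g⁻¹ * (h * x * h⁻¹)⁻¹ := by group
            _ = 1 := by rw [h3]; group
      exact if_congr this rfl rfl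
    rw [h1, Finset.sum_boole]
    rw [Nat.card_eq_fintype_card, Fintype.card_subtype]
  simp only [hinner, Finset.sum_const, Finset.card_univ, nsmul_eq_mul]

end Cfsg.Agent.Lib.Helper79_ClassConst
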