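import Mathlib
import Cfsg.Prelude.Def_Characters
import Cfsg.Agent.Lib.Helper55_BSQuat
import Cfsg.Agent.Lib.Helper55_BSInvol
import Cfsg.Agent.Lib.Helper17_Sylow
import Cfsg.Agent.Lib.Helper3_CharOrtho
import Cfsg.Agent.Lib.Helper3_CharComplete
import Cfsg.Agent.Lib.Helper3_CharBridge
import Cfsg.Agent.Lib.Helper78_CentralChar
import Cfsg.Agent.Lib.Helper80_CharBasic
import Cfsg.Agent.S0840

/-!
# Brauer–Suzuki: the involutions lie in the kernels of `χ₁`, `χ₂` (helper55)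
-/

set_option autoImplicit false

namespace Cfsg.Agent.Lib.Helper55_BSInvol

open scoped ComplexConjugate
open Subgroup Cfsg.Agent.Lib.Helper55_QuatCoord Cfsg.Agent.Lib.Helper3_CharOrtho
  Cfsg.Agent.Lib.Helper3_CharComplete Cfsg.Agent.Lib.Helper3_CharBridge

variable {G : Type*} [Group G] [Fintype G] (S : Sylow 2 G) (n : ℕ)
  (e : (S : Subgroup G) ≃* QuaternionGroup (2 ^ (n + 2)))

/-- **Brauer–Suzuki, second part.**  The characters of `Helper55_BSQuat.main` contain all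
involutions in their kernels. -/
theorem main_invol :
    ∃ χ₁ χ₂ : G → ℂ, Cfsg.IsIrrCharacter G χ₁ ∧ Cfsg.IsIrrCharacter G χ₂ ∧
      χ₁ ≠ (fun _ => (1 : ℂ)) ∧ χ₂ ≠ (fun _ => (1 : ℂ)) ∧ χ₁ ≠ χ₂ ∧ χ₁ 1 = χ₂ 1 + 1 ∧
      (∀ g : G, ¬ 2 ^ (n + 2) ∣ orderOf g → 1 + χ₂ g - χ₁ g = 0) ∧
      (∀ i : ℕ, ¬ 4 ∣ i →
        1 + χ₂ (A e (i : ZMod (2 * 2 ^ (n + 2)))) - χ₁ (A e (i : ZMod (2 * 2 ^ (n + 2)))) ≠ 0) ∧
      (∀ u : G, orderOf u = 2 → χ₁ u = χ₁ 1 ∧ χ₂ u = χ₂ 1) := by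
  classical
  obtain ⟨χ₁, χ₂, h1, h2, hne1, hne2, hne12, hdeg, hvan, hnv⟩ :=
    Cfsg.Agent.Lib.Helper55_BSQuat.main S n e
  refine ⟨χ₁, χ₂, h1, h2, hne1, hne2, hne12, hdeg, hvan, hnv, ?_⟩
  have hone := Cfsg.Agent.Lib.Helper80_CharBasic.isIrrCharacter_one G
  obtain ⟨t, ht⟩ : ∃ t : G, t = tInv e := ⟨_, rfl⟩
  have hto : orderOf t = 2 := by rw [ht]; exact orderOf_tInv e
  have hGne : (Nat.card G : ℂ) ≠ 0 := by
    rw [Nat.cast_ne_zero]; exact Nat.card_pos.ne'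
  obtain ⟨Θ, hΘ⟩ : ∃ Θ : G → ℂ, Θ = fun g => 1 + χ₂ g - χ₁ g := ⟨_, rfl⟩
  obtain ⟨c, hc⟩ : ∃ c : Cfsg.IrrCharacter G → ℂ,
    c = fun χ : Cfsg.IrrCharacter G =>
      (χ : G → ℂ) t * (χ : G → ℂ) t / (χ : G → ℂ) 1 := ⟨_, rfl⟩
  -- Step A
  have hA : ∀ g : G, Θ g * ∑ χ : Cfsg.IrrCharacter G, c χ * conj ((χ : G → ℂ) g) = 0 := by
    intro g
    by_cases hg : 2 ^ (n + 2) ∣ orderOf g
    · have h4 : 4 ∣ orderOf g := by
        refine dvd_trans ?_ hg
        have : (4 : ℕ) = 2 ^ 2 := by norm_num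
        rw [this]
        exact pow_dvd_pow 2 (by omega)
      have hempty : IsEmpty {p : G × G // IsConj t p.1 ∧ IsConj t p.2 ∧ p.1 * p.2 = g} := by
        refine ⟨fun ⟨p, hp1, hp2, hp3⟩ => ?_⟩
        have hx : orderOf p.1 = 2 := by rw [Helper17_Sylow.orderOf_of_isConj hp1]; exact hto
        have hy : orderOf p.2 = 2 := by rw [Helper17_Sylow.orderOf_of_isConj hp2]; exact hto
        apply not_four_dvd_orderOf_mul S e hx hy
        rw [hp3]; exact h4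
      have h840 := Cfsg.Agent.S0840.result t t g
      rw [Nat.card_of_isEmpty, Nat.cast_zero, finsum_eq_sum_of_fintype] at h840
      have hcl : (Nat.card {x : G // IsConj t x} : ℂ) ≠ 0 := by
        rw [Nat.cast_ne_zero]
        have : Nonempty {x : G // IsConj t x} := ⟨⟨t, IsConj.refl t⟩⟩
        exact Nat.card_pos.ne'
      have hsum : ∑ χ : Cfsg.IrrCharacter G, c χ * conj ((χ : G → ℂ) g) = 0 := by
        have h5 : ∑ χ : Cfsg.IrrCharacter G,
            (χ : G → ℂ) t * (χ : G → ℂ) t * conj ((χ : G → ℂ) g) / (χ : G → ℂ) 1 = 0 := by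
          rcases mul_eq_zero.mp h840.symm with h6 | h6
          · exfalso
            rcases div_eq_zero_iff.mp h6 with h7 | h7
            · rcases mul_eq_zero.mp h7 with h8 | h8 <;> exact hcl h8
            · exact hGne h7
          · exact h6
        rw [← h5, hc]
        apply Finset.sum_congr rfl
        intro χ _
        ring
      rw [hsum, mul_zero]
    · rw [hΘ]
      simp only
      rw [hvan g hg, zero_mul]
  -- Step B
  have hB : ∑ χ : Cfsg.IrrCharacter G, c χ * ∑ g : G, Θ g * conj ((χ : G → ℂ) g) = 0 := by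
    have h3 : ∑ g : G, Θ g * ∑ χ : Cfsg.IrrCharacter G, c χ * conj ((χ : G → ℂ) g) = 0 :=
      Finset.sum_eq_zero (fun g _ => hA g)
    rw [← h3]
    simp_rw [Finset.mul_sum]
    rw [Finset.sum_comm]
    apply Finset.sum_congr rfl
    intro g _
    apply Finset.sum_congr rfl
    intro χ _
    ring
  -- Step C
  have hC : ∀ χ : Cfsg.IrrCharacter G, ∑ g : G, Θ g * conj ((χ : G → ℂ) g) =
      (Nat.card G : ℂ) * ((if (fun _ : G => (1 : ℂ)) = (χ : G → ℂ) then 1 else 0) +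
        (if χ₂ = (χ : G → ℂ) then 1 else 0) - (if χ₁ = (χ : G → ℂ) then 1 else 0)) := by
    intro χ
    have h3 : Θ = (fun _ : G => (1 : ℂ)) + χ₂ - χ₁ := by
      rw [hΘ]; funext g; simp only [Pi.add_apply, Pi.sub_apply]
    have h4 : Cfsg.classInner Θ (χ : G → ℂ) =
        (if (fun _ : G => (1 : ℂ)) = (χ : G → ℂ) then 1 else 0) +
        (if χ₂ = (χ : G → ℂ) then 1 else 0) - (if χ₁ = (χ : G → ℂ) then 1 else 0) := by
      rw [h3, classInner_sub_left, classInner_add_left, classInner_irr hone χ.2,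
        classInner_irr h2 χ.2, classInner_irr h1 χ.2]
    rw [← h4]
    unfold Cfsg.classInner
    rw [← mul_assoc, mul_inv_cancel₀ hGne, one_mul]
  -- Step D
  obtain ⟨i₀, hi₀⟩ : ∃ i₀ : Cfsg.IrrCharacter G, i₀ = ⟨fun _ => (1 : ℂ), hone⟩ := ⟨_, rfl⟩
  obtain ⟨a, ha⟩ : ∃ a : Cfsg.IrrCharacter G, a = ⟨χ₁, h1⟩ := ⟨_, rfl⟩
  obtain ⟨b, hb⟩ : ∃ b : Cfsg.IrrCharacter G, b = ⟨χ₂, h2⟩ := ⟨_, rfl⟩
  have e1 : ∀ χ : Cfsg.IrrCharacter G, ((fun _ : G => (1 : ℂ)) = (χ : G → ℂ)) ↔ χ = i₀ :=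
    fun χ => ⟨fun h => by rw [hi₀]; exact Subtype.ext h.symm, fun h => by rw [h, hi₀]⟩
  have e2 : ∀ χ : Cfsg.IrrCharacter G, (χ₂ = (χ : G → ℂ)) ↔ χ = b :=
    fun χ => ⟨fun h => by rw [hb]; exact Subtype.ext h.symm, fun h => by rw [h, hb]⟩
  have e3 : ∀ χ : Cfsg.IrrCharacter G, (χ₁ = (χ : G → ℂ)) ↔ χ = a :=
    fun χ => ⟨fun h => by rw [ha]; exact Subtype.ext h.symm, fun h => by rw [h, ha]⟩
  have hD : c i₀ + c b - c a = 0 := by
    have h3 : ∑ χ : Cfsg.IrrCharacter G, c χ * ∑ g : G, Θ g * conj ((χ : G → ℂ) g) =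
        (Nat.card G : ℂ) * (c i₀ + c b - c a) := by
      have h4 : ∀ χ : Cfsg.IrrCharacter G, c χ * ∑ g : G, Θ g * conj ((χ : G → ℂ) g) =
          (Nat.card G : ℂ) * ((if χ = i₀ then c χ else 0) + (if χ = b then c χ else 0) -
            (if χ = a then c χ else 0)) := by
        intro χ
        rw [hC χ]
        simp only [e1, e2, e3]
        split_ifs <;> ring
      rw [Finset.sum_congr rfl (fun χ _ => h4 χ), ← Finset.mul_sum, Finset.sum_sub_distrib,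
        Finset.sum_add_distrib, Finset.sum_ite_eq', Finset.sum_ite_eq', Finset.sum_ite_eq']
      simp only [Finset.mem_univ, if_true]
    rw [h3] at hB
    rcases mul_eq_zero.mp hB with h5 | h5
    · exact absurd h5 hGne
    · exact h5
  -- Step E
  have hd0 : χ₂ 1 ≠ 0 := Cfsg.Agent.Lib.Helper78_CentralChar.isIrrCharacter_one_ne_zero h2
  have hd1 : χ₁ 1 ≠ 0 := Cfsg.Agent.Lib.Helper78_CentralChar.isIrrCharacter_one_ne_zero h1
  have hvt : 1 + χ₂ t - χ₁ t = 0 := by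
    apply hvan
    rw [hto]
    intro h
    have := Nat.le_of_dvd (by norm_num) h
    have h5 : 2 ^ (n + 2) = 4 * 2 ^ n := by ring
    have h6 : 0 < 2 ^ n := by positivity
    omega
  have hkey : χ₂ t = χ₂ 1 := by
    rw [hc, hi₀, ha, hb] at hD
    simp only at hD
    have hχ₁t : χ₁ t = 1 + χ₂ t := by linear_combination -hvt
    rw [hχ₁t, hdeg] at hD
    have hd1' : χ₂ 1 + 1 ≠ 0 := by rw [← hdeg]; exact hd1
    have h7 : (χ₂ 1 - χ₂ t) ^ 2 = 0 := by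
      field_simp at hD
      linear_combination hD
    have h8 := pow_eq_zero_iff (two_ne_zero) |>.mp h7
    exact (sub_eq_zero.mp h8).symm
  have hkey1 : χ₁ t = χ₁ 1 := by
    rw [hdeg, ← hkey]; linear_combination -hvt
  -- Step F
  intro u hu
  have hconj := isConj_tInv S e hu
  rw [← ht] at hconj
  obtain ⟨g, hg⟩ := isConj_iff.mp hconj
  rw [← hg]
  rw [isClassFunction_of_isIrrCharacter h1 t g, isClassFunction_of_isIrrCharacter h2 t g]
  exact ⟨hkey1, hkey⟩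

end Cfsg.Agent.Lib.Helper55_BSInvol
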