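import Mathlib
import Cfsg.Agent.S3278
import Cfsg.Agent.S4479
import Cfsg.Agent.S0165
import Cfsg.Agent.S0144
import Cfsg.Agent.Lib.Helper16_KleinBlock
import Cfsg.Agent.Lib.Helper30_KleinFour
import Cfsg.Agent.Lib.Helper30_KleinCount
import Cfsg.Agent.Lib.Helper30_PQArith
import Cfsg.Agent.Lib.Helper30_Deg3
import Cfsg.Agent.Lib.Helper30_Pointwise
import Cfsg.Agent.Lib.Helper77_BlockBasics
import Cfsg.Agent.Lib.Helper79_Linear
import Cfsg.Agent.Lib.Helper3_CharBridge

/-!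
# Simple groups of order `4 p^a q^b` (helper30)

A non-abelian finite simple group of order `4 p^a q^b` (`p, q` primes) is isomorphic to `A₅`.
The proof uses Brauer's description of the principal `2`-block for Klein four Sylow subgroups, the
order formula `S4479`, elementary number theory, a pointwise form of the second main theorem, and
the recognition theorem `S3278`.
-/

set_option autoImplicit false

namespace Cfsg.Agent.Lib.Helper30_FourPQ

open Cfsg Cfsg.Agent.Lib.Helper30_KleinFour Cfsg.Agent.Lib.Helper30_PQArith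
  Cfsg.Agent.Lib.Helper77_BlockBasics

open scoped commutatorElement

section basics

variable {G : Type*} [Group G] [Finite G] [IsSimpleGroup G]

omit [Finite G] in
theorem not_solvable (hna : ∃ x y : G, x * y ≠ y * x) : ¬ Group.IsSolvable G := by
  intro hs
  obtain ⟨x, y, hxy⟩ := hna
  exact hxy ((IsSimpleGroup.comm_iff_isSolvable.mpr hs) x y)

omit [Finite G] in
theorem perfect (hna : ∃ x y : G, x * y ≠ y * x) : commutator G = ⊤ := by
  rcases (inferInstance : (commutator G).Normal).eq_bot_or_eq_top with h | h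
  · exfalso
    obtain ⟨x, y, hxy⟩ := hna
    apply hxy
    have hmem : ⁅x, y⁆ ∈ commutator G := by
      rw [commutator_def]
      exact Subgroup.commutator_mem_commutator (Subgroup.mem_top x) (Subgroup.mem_top y)
    rw [h, Subgroup.mem_bot] at hmem
    exact commutatorElement_eq_one_iff_mul_comm.mp hmem
  · exact h

omit [IsSimpleGroup G] in
/-- in a perfect group the only linear character is trivial -/
theorem degree_ne_one (hperf : commutator G = ⊤) (χ : IrrCharacter G)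
    (hne : (χ : G → ℂ) ≠ fun _ => 1) : charDegree (χ : G → ℂ) ≠ 1 := by
  intro h1
  apply hne
  have h2 : (χ : G → ℂ) 1 = 1 := by rw [apply_one_eq_charDegree, h1]; simp
  funext g
  exact Cfsg.Agent.Lib.Helper79_Linear.linear_commutator ⟨χ, h2⟩
    (by rw [hperf]; exact Subgroup.mem_top g)

end basics

theorem prime_cases {r p q a b : ℕ} (hr : r.Prime) (hp : p.Prime) (hq : q.Prime)
    (h : r ∣ 4 * p ^ a * q ^ b) : r = 2 ∨ r = p ∨ r = q := by
  rcases (Nat.Prime.dvd_mul hr).mp h with h1 | h1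
  · rcases (Nat.Prime.dvd_mul hr).mp h1 with h2 | h2
    · left
      have h3 : r ∣ 2 ^ 2 := by norm_num; exact h2
      exact (Nat.prime_dvd_prime_iff_eq hr Nat.prime_two).mp (hr.dvd_of_dvd_pow h3)
    · right; left
      exact (Nat.prime_dvd_prime_iff_eq hr hp).mp (hr.dvd_of_dvd_pow h2)
  · right; right
    exact (Nat.prime_dvd_prime_iff_eq hr hq).mp (hr.dvd_of_dvd_pow h1)

/-- **Simple groups of order `4 p^a q^b`.** -/
theorem part_one {G : Type*} [Group G] [Finite G] [IsSimpleGroup G]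
    (hna : ∃ x y : G, x * y ≠ y * x) (p q a b : ℕ) (hp : p.Prime) (hq : q.Prime) (hpq : p ≠ q)
    (hG : Nat.card G = 4 * p ^ a * q ^ b) : Nonempty (G ≃* alternatingGroup (Fin 5)) := by
  classical
  have : Fact (Nat.Prime 2) := ⟨Nat.prime_two⟩
  have hns := not_solvable hna
  have hperf := perfect hna
  -- reductions
  have hp2 : p ≠ 2 := by
    rintro rfl
    apply hns
    exact Cfsg.Agent.S0144.result 2 q (a + 2) b Nat.prime_two hq (by rw [hG]; ring)
  have hq2 : q ≠ 2 := by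
    rintro rfl
    apply hns
    exact Cfsg.Agent.S0144.result 2 p (b + 2) a Nat.prime_two hp (by rw [hG]; ring)
  have ha0 : a ≠ 0 := by
    rintro rfl
    apply hns
    exact Cfsg.Agent.S0144.result 2 q 2 b Nat.prime_two hq (by rw [hG]; ring)
  have hpodd : Odd p := hp.odd_of_ne_two hp2
  have hqodd : Odd q := hq.odd_of_ne_two hq2
  obtain ⟨g₀, hg₀⟩ : ∃ g₀ : ℕ, g₀ = p ^ a * q ^ b := ⟨_, rfl⟩
  have hG' : Nat.card G = 4 * g₀ := by rw [hG, hg₀]; ring
  have hg₀odd : Odd g₀ := by rw [hg₀]; exact (hpodd.pow).mul (hqodd.pow)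
  have hg₀1 : 1 < g₀ := by
    rw [hg₀]
    have h1 : 2 ≤ p ^ a := by
      calc 2 ≤ p := hp.two_le
        _ = p ^ 1 := (pow_one p).symm
        _ ≤ p ^ a := Nat.pow_le_pow_right hp.pos (Nat.one_le_iff_ne_zero.mpr ha0)
    have h2 : 1 ≤ q ^ b := Nat.one_le_pow _ _ hq.pos
    nlinarith
  have hnc : ¬ ∃ N : Subgroup G, N.Normal ∧ Nat.card N = g₀ := by
    rintro ⟨N, hN, hNc⟩
    rcases hN.eq_bot_or_eq_top with h | h
    · rw [h, Subgroup.card_bot] at hNc; omega
    · rw [h, Subgroup.card_top, hG'] at hNc; omega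
  -- the Sylow 2-subgroup
  obtain ⟨P⟩ : Nonempty (Sylow 2 G) := inferInstance
  have hP4 : Nat.card (P : Subgroup G) = 4 := card_sylow hG' hg₀odd P
  obtain ⟨J, hJP, hJ⟩ : ∃ J : G, J ∈ (P : Subgroup G) ∧ orderOf J = 2 := by
    obtain ⟨x, hx⟩ := exists_prime_orderOf_dvd_card' (G := (P : Subgroup G)) 2
      (by rw [hP4]; norm_num)
    exact ⟨(x : G), x.2, by rw [Subgroup.orderOf_coe]; exact hx⟩
  obtain ⟨m, a', ha'P, ha'o, ha'J, hmJ, hma, hcomm, hall⟩ :=
    klein_structure hG' hg₀odd hnc P hJP hJ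
  have hsq : ∀ x ∈ (P : Subgroup G), x * x = 1 := by
    intro x hx
    rcases hall x hx with h | h | h | h
    · rw [h, one_mul]
    · rw [h]; exact mul_self_of_order_two hJ
    · rw [h]; exact mul_self_of_order_two ha'o
    · rw [h]
      calc J * a' * (J * a') = J * (a' * J) * a' := by group
        _ = J * (J * a') * a' := by rw [hcomm]
        _ = (J * J) * (a' * a') := by group
        _ = 1 := by rw [mul_self_of_order_two hJ, mul_self_of_order_two ha'o, one_mul]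
  have hPK : IsKleinFour (P : Subgroup G) := by
    have hnt : Nontrivial (P : Subgroup G) := by
      rw [← Finite.one_lt_card_iff_nontrivial, hP4]; norm_num
    refine ⟨hP4, ?_⟩
    rw [Monoid.exponent_eq_prime_iff Nat.prime_two]
    intro g hg1
    apply orderOf_eq_prime
    · rw [pow_two]
      exact Subtype.ext (hsq g g.2)
    · exact hg1
  have hone : ∀ s t : G, orderOf s = 2 → orderOf t = 2 → IsConj s t := by
    intro s t hs ht
    exact (isConj_of_order_two hG' hg₀odd hnc P hJP hJ hs).symm.trans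
      (isConj_of_order_two hG' hg₀odd hnc P hJP hJ ht)
  -- the principal block
  obtain ⟨M, hM⟩ := Cfsg.Agent.S0165.exists_isPModular 2 Nat.prime_two
  obtain ⟨ζ₂, ζ₃, ζ₄, ε, hε, h21, h31, h23, h24, h34, hB, hinv, hd2, hd3, hd4, hrel⟩ :=
    Cfsg.Agent.Lib.Helper16_KleinBlock.klein_principal_block M hM P hPK hone
  obtain ⟨hz2, hz3, hz4⟩ := hinv J hJ
  have h41 : (ζ₄ : G → ℂ) ≠ fun _ => 1 := by
    intro h
    have := congrFun h J
    rw [hz4] at this
    norm_num at this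
  have hform := Cfsg.Agent.S4479.result M hM g₀ hg₀odd hG' hnc P J hJP hJ ζ₂ ζ₃ ζ₄ 1 ε (-1) hB
    ⟨h21, h31, h41, h23, h24, h34⟩ ⟨Or.inl rfl, hε, Or.inr rfl⟩
    ⟨by rw [hz2]; norm_num, hz3, by rw [hz4]; norm_num⟩
  -- the degrees
  obtain ⟨d₂, hd₂⟩ : ∃ d : ℕ, d = charDegree (ζ₂ : G → ℂ) := ⟨_, rfl⟩
  obtain ⟨d₃, hd₃⟩ : ∃ d : ℕ, d = charDegree (ζ₃ : G → ℂ) := ⟨_, rfl⟩
  obtain ⟨d₄, hd₄⟩ : ∃ d : ℕ, d = charDegree (ζ₄ : G → ℂ) := ⟨_, rfl⟩
  rw [← hd₂] at hd2
  rw [← hd₃] at hd3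
  rw [← hd₄] at hd4
  rw [← hd₂, ← hd₃, ← hd₄] at hform
  have hd₂pos : 0 < d₂ := by rw [hd₂]; exact charDegree_pos ζ₂
  have hd₃pos : 0 < d₃ := by rw [hd₃]; exact charDegree_pos ζ₃
  have hd₄pos : 0 < d₄ := by rw [hd₄]; exact charDegree_pos ζ₄
  have hd₂1 : 1 < d₂ := by
    have := degree_ne_one hperf ζ₂ h21
    rw [← hd₂] at this
    omega
  have hd₃1 : 1 < d₃ := by
    have := degree_ne_one hperf ζ₃ h31
    rw [← hd₃] at this
    omega
  have hd₄1 : 1 < d₄ := by
    have := degree_ne_one hperf ζ₄ h41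
    rw [← hd₄] at this
    omega
  have hd₂N : d₂ ∣ Nat.card G := by rw [hd₂]; exact charDegree_dvd_card ζ₂
  have hd₃N : d₃ ∣ Nat.card G := by rw [hd₃]; exact charDegree_dvd_card ζ₃
  have hd₄N : d₄ ∣ Nat.card G := by rw [hd₄]; exact charDegree_dvd_card ζ₄
  -- the relation between the degrees
  have hsum : (d₂ : ℤ) + ε * d₃ + -1 * d₄ = -1 := by
    have h1 := hrel 1 (by rw [orderOf_one]; exact odd_one)
    rw [apply_one_eq_charDegree ζ₂, apply_one_eq_charDegree ζ₃, apply_one_eq_charDegree ζ₄,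
      ← hd₂, ← hd₃, ← hd₄] at h1
    have h2 : (((d₂ : ℤ) + ε * d₃ + -1 * d₄ : ℤ) : ℂ) = ((-1 : ℤ) : ℂ) := by
      push_cast
      linear_combination h1
    exact_mod_cast h2
  -- the order formula, in integers
  set cJ := Nat.card (Subgroup.centralizer ({J} : Set G)) with hcJ
  set cP := Nat.card (Subgroup.centralizer ((P : Subgroup G) : Set G)) with hcP
  have hcPpos : 0 < cP := Nat.card_pos
  have hw₂ : (0 : ℤ) < (d₂ : ℤ) + 1 := by positivity
  have hw₃ : (0 : ℤ) < (d₃ : ℤ) + ε := by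
    rcases hε with h | h <;> rw [h] <;> omega
  have hw₄ : (0 : ℤ) < (d₄ : ℤ) + -1 := by omega
  have hformZ : (Nat.card G : ℤ) * (((d₂ : ℤ) + 1) * ((d₃ : ℤ) + ε) * ((d₄ : ℤ) + -1)) *
      (cP : ℤ) ^ 2 = 8 * ((d₂ : ℤ) * d₃ * d₄) * (cJ : ℤ) ^ 3 := by
    have e2 : ((d₂ : ℚ) + ((1 : ℤ) : ℚ)) ≠ 0 := by
      have : ((((d₂ : ℤ) + 1 : ℤ)) : ℚ) ≠ 0 := by exact_mod_cast hw₂.ne'
      push_cast at this ⊢
      exact this
    have e3 : ((d₃ : ℚ) + (ε : ℚ)) ≠ 0 := by
      have : ((((d₃ : ℤ) + ε : ℤ)) : ℚ) ≠ 0 := by exact_mod_cast hw₃.ne'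
      push_cast at this ⊢
      exact this
    have e4 : ((d₄ : ℚ) + ((-1 : ℤ) : ℚ)) ≠ 0 := by
      have : ((((d₄ : ℤ) + -1 : ℤ)) : ℚ) ≠ 0 := by exact_mod_cast hw₄.ne'
      push_cast at this ⊢
      exact this
    have e5 : (cP : ℚ) ≠ 0 := by exact_mod_cast hcPpos.ne'
    have hq' : (Nat.card G : ℚ) * (((d₂ : ℚ) + ((1 : ℤ) : ℚ)) * ((d₃ : ℚ) + (ε : ℚ)) *
        ((d₄ : ℚ) + ((-1 : ℤ) : ℚ))) * (cP : ℚ) ^ 2 =
        8 * ((d₂ : ℚ) * d₃ * d₄) * (cJ : ℚ) ^ 3 := by
      rw [hform]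
      field_simp
    exact_mod_cast hq'
  have hcJN : cJ ∣ Nat.card G := Subgroup.card_subgroup_dvd_card _
  have hN2 : 2 ∣ Nat.card G := by rw [hG']; exact ⟨2 * g₀, by ring⟩
  have hwprime : ∀ r : ℕ, r.Prime →
      ((r : ℤ) ∣ (d₂ : ℤ) + 1 ∨ (r : ℤ) ∣ (d₃ : ℤ) + ε ∨ (r : ℤ) ∣ (d₄ : ℤ) + -1) →
      r = 2 ∨ r = p ∨ r = q := by
    intro r hr hrw
    have := prime_dvd_of_formula hformZ hd₂N hd₃N hd₄N hcJN hN2 hr hrw
    rw [hG] at this
    exact prime_cases hr hp hq this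
  have hdprime : ∀ d : ℕ, d ∣ Nat.card G → ∀ σ : ℤ, (σ = 1 ∨ σ = -1) → (4 : ℤ) ∣ (d : ℤ) - σ →
      ∀ r : ℕ, r.Prime → r ∣ d → r = p ∨ r = q := by
    intro d hdN σ hσ h4 r hr hrd
    have h1 := hrd.trans hdN
    rw [hG] at h1
    rcases prime_cases hr hp hq h1 with h | h | h
    · exfalso
      rw [h] at hrd
      obtain ⟨k, hk⟩ := h4
      obtain ⟨j, hj⟩ := hrd
      rcases hσ with h' | h' <;> rw [h'] at hk <;> rw [hj] at hk <;> push_cast at hk <;> omega
    · exact Or.inl h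
    · exact Or.inr h
  -- the types
  have ht₂ : SType p q (1 * (d₂ : ℤ)) :=
    sType_of_degree hp hq hd₂1 (hdprime d₂ hd₂N 1 (Or.inl rfl) hd2) (Or.inl rfl) hd2
      (fun r hr h => hwprime r hr (Or.inl h))
  have ht₃ : SType p q (ε * (d₃ : ℤ)) :=
    sType_of_degree hp hq hd₃1 (hdprime d₃ hd₃N ε hε hd3) hε hd3
      (fun r hr h => hwprime r hr (Or.inr (Or.inl h)))
  have hd4' : (4 : ℤ) ∣ (d₄ : ℤ) - -1 := by simpa using hd4
  have ht₄ : SType p q (-1 * (d₄ : ℤ)) :=
    sType_of_degree hp hq hd₄1 (hdprime d₄ hd₄N (-1) (Or.inr rfl) hd4') (Or.inr rfl) hd4'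
      (fun r hr h => hwprime r hr (Or.inr (Or.inr h)))
  obtain ⟨-, hz₄⟩ := three_types hp hq hp2 hq2 hpq (by linarith) (by positivity) ht₂ ht₃ ht₄
  have hd₄3 : d₄ = 3 := by omega
  -- the character of degree three
  have hθ3 : (ζ₄ : G → ℂ) 1 = 3 := by
    rw [apply_one_eq_charDegree, ← hd₄, hd₄3]; norm_num
  have hθchar : IsCharacter G (ζ₄ : G → ℂ) :=
    Cfsg.Agent.Lib.Helper3_CharBridge.isCharacter_of_isIrrCharacter ζ₄.2
  obtain ⟨O, hOn, hOodd, hCO⟩ := centralizer_npc hG' hg₀odd P hJP hJ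
  have hOnd : ¬ 2 ∣ Nat.card O := fun h => (Nat.not_even_iff_odd.2 hOodd) (even_iff_two_dvd.2 h)
  have hreg : ∀ k : Subgroup.centralizer ({J} : Set G), ¬ 2 ∣ orderOf k → k ∈ O := by
    intro k hk
    rw [← QuotientGroup.eq_one_iff]
    have h1 : orderOf (k : Subgroup.centralizer ({J} : Set G) ⧸ O) ∣ orderOf k :=
      orderOf_map_dvd (QuotientGroup.mk' O) k
    have h2 : orderOf (k : Subgroup.centralizer ({J} : Set G) ⧸ O) ∣ 4 := by
      rw [← Cfsg.Agent.Lib.Helper30_KleinCount.card_quotient_eq_four O hCO]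
      exact orderOf_dvd_natCard _
    have hcop : Nat.Coprime (orderOf k) 4 := by
      have h5 : Nat.Coprime (orderOf k) 2 :=
        ((Nat.Prime.coprime_iff_not_dvd Nat.prime_two).2 hk).symm
      have h4 : (4 : ℕ) = 2 ^ 2 := by norm_num
      rw [h4]
      exact Nat.Coprime.pow_right 2 h5
    have h3 : orderOf (k : Subgroup.centralizer ({J} : Set G) ⧸ O) = 1 :=
      Nat.eq_one_of_dvd_coprimes hcop h1 h2
    exact orderOf_eq_one_iff.1 h3
  have hy : ∃ k : ℕ, orderOf J = 2 ^ k := ⟨1, by rw [hJ, pow_one]⟩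
  have hζ₄B : ζ₄ ∈ principalBlock M G := by
    rw [hB]
    right; right; right; rfl
  have hPC : (P : Subgroup G) ≤ Subgroup.centralizer ({J} : Set G) := by
    intro x hx
    rw [Subgroup.mem_centralizer_singleton_iff]
    exact commute_of_mem_sylow hG' hg₀odd P hx hJP
  -- `O` centralizes `P`
  have hcommOP : ∀ k : Subgroup.centralizer ({J} : Set G), k ∈ O → ∀ s ∈ (P : Subgroup G),
      s * (k : G) = (k : G) * s := by
    intro k hk s hs
    have hsC : s ∈ Subgroup.centralizer ({J} : Set G) := hPC hs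
    obtain ⟨sc, hsc⟩ : ∃ sc : Subgroup.centralizer ({J} : Set G), sc = ⟨s, hsC⟩ := ⟨_, rfl⟩
    have hcO : k * sc * k⁻¹ * sc⁻¹ ∈ O := by
      have h1 : sc * k⁻¹ * sc⁻¹ ∈ O := hOn.conj_mem k⁻¹ (O.inv_mem hk) sc
      have : k * sc * k⁻¹ * sc⁻¹ = k * (sc * k⁻¹ * sc⁻¹) := by group
      rw [this]
      exact O.mul_mem hk h1
    have hval := Cfsg.Agent.Lib.Helper30_Pointwise.apply_mul_eq hM hy O hOnd hreg ζ₄ hζ₄B _ hcO
    rw [hz4] at hval
    have hkJ : (k : G) * J = J * (k : G) := by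
      have := k.2
      rw [Subgroup.mem_centralizer_singleton_iff] at this
      exact this
    have hsJ : s * J = J * s := by
      rw [Subgroup.mem_centralizer_singleton_iff] at hsC
      exact hsC
    have hval' : (ζ₄ : G → ℂ) ((k : G) * s * (k : G)⁻¹ * s⁻¹ * J) = -1 := by
      rw [← hval, hsc]
      simp only [Subgroup.coe_mul, Subgroup.coe_inv]
    have h1 := Cfsg.Agent.Lib.Helper30_Deg3.comm_eq_one_of_deg3 hθchar hθ3
      (mul_self_of_order_two hJ) hz4 hkJ hsJ hval'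
    calc s * (k : G) = ((k : G) * s * (k : G)⁻¹ * s⁻¹) * (s * (k : G)) := by rw [h1, one_mul]
      _ = (k : G) * s := by group
  -- `C(J)` centralizes `P`
  have hCle : Subgroup.centralizer ({J} : Set G) ≤
      Subgroup.centralizer ((P : Subgroup G) : Set G) := by
    set D : Subgroup G := Subgroup.centralizer ((P : Subgroup G) : Set G) ⊓
      Subgroup.centralizer ({J} : Set G) with hD
    have hDle : D ≤ Subgroup.centralizer ({J} : Set G) := inf_le_right
    have hOD : O.map (Subgroup.centralizer ({J} : Set G)).subtype ≤ D := by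
      rintro _ ⟨k, hk, rfl⟩
      refine Subgroup.mem_inf.mpr ⟨?_, k.2⟩
      rw [Subgroup.mem_centralizer_iff]
      intro s hs
      exact hcommOP k hk s hs
    have hPD : (P : Subgroup G) ≤ D := by
      intro x hx
      refine Subgroup.mem_inf.mpr ⟨?_, hPC hx⟩
      rw [Subgroup.mem_centralizer_iff]
      intro s hs
      exact commute_of_mem_sylow hG' hg₀odd P hs hx
    have h1 : Nat.card O ∣ Nat.card D := by
      rw [← Subgroup.card_map_of_injective
        (Subgroup.subtype_injective (Subgroup.centralizer ({J} : Set G)))]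
      exact Subgroup.card_dvd_of_le hOD
    have h2 : 4 ∣ Nat.card D := by
      rw [← hP4]
      exact Subgroup.card_dvd_of_le hPD
    have hcop : Nat.Coprime 4 (Nat.card O) := by
      have h4 : (4 : ℕ) = 2 ^ 2 := by norm_num
      rw [h4]
      exact Nat.Coprime.pow_left 2 ((Nat.Prime.coprime_iff_not_dvd Nat.prime_two).2 hOnd)
    have h3 : 4 * Nat.card O ∣ Nat.card D := hcop.mul_dvd_of_dvd_of_dvd h2 h1
    have h4 : Nat.card (Subgroup.centralizer ({J} : Set G)) ≤ Nat.card D := by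
      rw [hCO]
      exact Nat.le_of_dvd Nat.card_pos h3
    have h5 : D = Subgroup.centralizer ({J} : Set G) := Subgroup.eq_of_le_of_card_ge hDle h4
    rw [← h5]
    exact inf_le_left
  -- recognition
  have hn : ((P : Subgroup G).subgroupOf (Subgroup.centralizer ({J} : Set G))).Normal := by
    constructor
    intro n hn g
    rw [Subgroup.mem_subgroupOf] at hn ⊢
    have hg := hCle g.2
    rw [Subgroup.mem_centralizer_iff] at hg
    have : ((g * n * g⁻¹ : Subgroup.centralizer ({J} : Set G)) : G) = (n : G) := by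
      simp only [Subgroup.coe_mul, Subgroup.coe_inv]
      rw [← hg (n : G) hn, mul_inv_cancel_right]
    rw [this]
    exact hn
  have hodd : ¬ 2 ∣ (P : Subgroup G).relIndex (Subgroup.centralizer ({J} : Set G)) := by
    intro h
    apply P.not_dvd_index
    rw [← Subgroup.relIndex_mul_index hPC]
    exact Dvd.dvd.mul_right h _
  exact Cfsg.Agent.S3278.result J hJ (P : Subgroup G) hPC hPK hodd hn

end Cfsg.Agent.Lib.Helper30_FourPQ
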