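import Mathlib
import Cfsg.Agent.S0165
import Cfsg.Agent.S0840
import Cfsg.Agent.Lib.Helper30_SelfCent3
import Cfsg.Agent.Lib.Helper30_Deg3
import Cfsg.Agent.Lib.Helper75_CharProd
import Cfsg.Agent.Lib.Helper39_CharTools
import Cfsg.Agent.Lib.Helper79_Linear
import Cfsg.Agent.Lib.Helper77_BlockBasics
import Cfsg.Agent.Lib.Helper30_KleinCount

/-!
# Simple groups with a self-centralizing Sylow `3`-subgroup of order `3` and a character of
degree `3` (helper30)
-/

set_option autoImplicit false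

namespace Cfsg.Agent.Lib.Helper30_ThreePQ

open Cfsg Cfsg.Agent.Lib.Helper30_SelfCent3 Cfsg.Agent.Lib.Helper80_CharBasic
  Cfsg.Agent.Lib.Helper77_BlockBasics

open scoped ComplexConjugate

section chars

variable {G : Type*} [Group G] [Finite G] [IsSimpleGroup G]

omit [IsSimpleGroup G] [Finite G] in
/-- in a perfect group the only linear character is trivial -/
theorem eq_one_of_linear (hperf : commutator G = ⊤) (χ : IrrCharacter G)
    (h1 : (χ : G → ℂ) 1 = 1) : χ = oneIrr G := by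
  apply Subtype.ext
  funext g
  exact Cfsg.Agent.Lib.Helper79_Linear.linear_commutator ⟨χ, h1⟩
    (by rw [hperf]; exact Subgroup.mem_top g)

/-- **The character data.** -/
theorem deg3_data (hperf : commutator G = ⊤) {y : G} (hy : orderOf y = 3)
    (hC : Subgroup.centralizer ({y} : Set G) = Subgroup.zpowers y)
    (h3 : 3 ∣ Nat.card G) (h9 : ¬ 9 ∣ Nat.card G) (ψ : IrrCharacter G)
    (hψ : charDegree (ψ : G → ℂ) = 3) :
    ∃ (χp χm : IrrCharacter G) (d : ℕ), (d = 4 ∨ d = 7) ∧ (χp : G → ℂ) 1 = d ∧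
      (χm : G → ℂ) 1 = (d : ℂ) + 1 ∧
      (∀ F : IrrCharacter G → ℂ,
        ∑ᶠ χ : IrrCharacter G, F χ * conj ((χ : G → ℂ) y) = F (oneIrr G) + F χp - F χm) ∧
      ∀ τ : G, orderOf τ = 2 →
        (d = 7 → (χp : G → ℂ) τ = -1 ∧ (χm : G → ℂ) τ = 0) ∧
        (d = 4 → (χp : G → ℂ) τ = 0 ∧ (χm : G → ℂ) τ = 1) := by
  classical
  have := Fintype.ofFinite G
  obtain ⟨χp, χm, hpne, hmne, hpm, hpy, hmy, ⟨d, hdp, hdm, hd3⟩, hexp⟩ :=
    column_at_three hperf hy hC
  have hψchar : IsCharacter G (ψ : G → ℂ) :=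
    Cfsg.Agent.Lib.Helper3_CharBridge.isCharacter_of_isIrrCharacter ψ.2
  have hψ1 : (ψ : G → ℂ) 1 = 3 := by rw [apply_one_eq_charDegree, hψ]; norm_num
  -- `ψ` vanishes at `y`
  have hψy : (ψ : G → ℂ) y = 0 := by
    obtain ⟨n, ρ, hirr, hρ⟩ := ψ.2
    have := hirr
    have hn : n = 3 := by
      have h1 := Representation.char_one ρ
      rw [hρ, hψ1, Module.finrank_fin_fun] at h1
      exact_mod_cast h1.symm
    rw [← hρ]
    refine Cfsg.Agent.S0165.result ρ 3 1 Nat.prime_three (by simpa using h3) (by simpa using h9)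
      ?_ y (by rw [hy])
    rw [Module.finrank_fin_fun, hn, pow_one]
  -- the character `ψ ψ̄`
  obtain ⟨Θ, hΘdef⟩ : ∃ Θ : G → ℂ, Θ = (ψ : G → ℂ) * (fun g => conj ((ψ : G → ℂ) g)) := ⟨_, rfl⟩
  have hΘ : IsCharacter G Θ := by
    rw [hΘdef]
    exact Cfsg.Agent.Lib.Helper75_CharProd.isCharacter_mul hψchar
      (Cfsg.Agent.Lib.Helper75_CharProd.isCharacter_conj hψchar)
  have hΘv : ∀ g : G, Θ g = (ψ : G → ℂ) g * conj ((ψ : G → ℂ) g) := by
    intro g; rw [hΘdef]; rfl
  obtain ⟨m, hm, hsum⟩ := Cfsg.Agent.Lib.Helper39_CharTools.char_eq_sum_nat hΘ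
  -- multiplicity of the trivial character
  have hm1 : m (oneIrr G) = 1 := by
    have h1 := hm (oneIrr G)
    unfold classInner at h1
    have h2 : ∑ g : G, Θ g * conj (((oneIrr G : IrrCharacter G) : G → ℂ) g) =
        ∑ g : G, (ψ : G → ℂ) g * (ψ : G → ℂ) g⁻¹ := by
      refine Finset.sum_congr rfl fun g _ => ?_
      rw [hΘv, irr_inv]
      show _ * conj (1 : ℂ) = _
      simp
    rw [h2, irr_norm] at h1
    have hne : (Nat.card G : ℂ) ≠ 0 := by exact_mod_cast (Nat.card_pos (α := G)).ne'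
    rw [inv_mul_cancel₀ hne] at h1
    exact_mod_cast h1.symm
  -- evaluation at `y`
  have hmrel : m χm = 1 + m χp := by
    have h1 := hsum y
    rw [hΘv, hψy, zero_mul] at h1
    have h2 := hexp (fun χ => (m χ : ℂ))
    rw [finsum_eq_sum_of_fintype] at h2
    have h3 : ∑ χ : IrrCharacter G, (m χ : ℂ) * conj ((χ : G → ℂ) y) = 0 := by
      have := congrArg conj h1
      rw [map_zero, map_sum] at this
      rw [this]
      refine Finset.sum_congr rfl fun χ _ => ?_
      rw [map_mul, Complex.conj_natCast]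
    rw [h3, hm1] at h2
    have h4 : ((m χm : ℕ) : ℂ) = ((1 + m χp : ℕ) : ℂ) := by
      push_cast
      linear_combination h2
    exact_mod_cast h4
  -- the character `θ = ψ ψ̄ - 1 - χ₋`
  have hc1 : IsCharacter G (Θ - ((oneIrr G : IrrCharacter G) : G → ℂ)) := by
    apply Cfsg.Agent.Lib.Helper39_CharTools.isCharacter_sub_irr hΘ (oneIrr G).2
    rw [hm, hm1]
    norm_num
  have hc2 : IsCharacter G (Θ - ((oneIrr G : IrrCharacter G) : G → ℂ) - (χm : G → ℂ)) := by
    apply Cfsg.Agent.Lib.Helper39_CharTools.isCharacter_sub_irr hc1 χm.2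
    rw [Cfsg.Agent.Lib.Helper3_CharOrtho.classInner_sub_left, hm,
      Cfsg.Agent.Lib.Helper3_CharOrtho.classInner_irr (oneIrr G).2 χm.2, if_neg, sub_zero]
    · rw [hmrel]
      exact_mod_cast (Nat.succ_ne_zero _ ∘ (by omega : 1 + m χp = 0 → (m χp).succ = 0))
    · intro h
      exact hmne (Subtype.ext h.symm)
  obtain ⟨θ, hθdef⟩ : ∃ θ : G → ℂ,
      θ = Θ - ((oneIrr G : IrrCharacter G) : G → ℂ) - (χm : G → ℂ) := ⟨_, rfl⟩
  rw [← hθdef] at hc2
  have hθv : ∀ g : G, θ g = Θ g - 1 - (χm : G → ℂ) g := by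
    intro g; rw [hθdef]; rfl
  -- its degree
  obtain ⟨k, hk⟩ : ∃ k : ℕ, θ 1 = k := by
    obtain ⟨n, ρ, hρ⟩ := hc2
    exact ⟨Module.finrank ℂ (Fin n → ℂ), by rw [← hρ]; exact Representation.char_one ρ⟩
  have hdk : d + k = 7 := by
    have h1 := hθv 1
    rw [hk, hΘv, hψ1, hdm] at h1
    have h2 : ((d + k : ℕ) : ℂ) = ((7 : ℕ) : ℂ) := by
      push_cast
      have : conj (3 : ℂ) = 3 := by
        rw [show (3 : ℂ) = ((3 : ℕ) : ℂ) by norm_num, Complex.conj_natCast]
      rw [this] at h1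
      linear_combination h1
    exact_mod_cast h2
  have hd1 : d ≠ 1 := by
    intro h
    apply hpne
    apply eq_one_of_linear hperf
    rw [hdp, h]; norm_num
  have hd47 : d = 4 ∨ d = 7 := by omega
  refine ⟨χp, χm, d, hd47, hdp, hdm, hexp, ?_⟩
  intro τ hτ
  have hττ : τ * τ = 1 := by
    rw [← pow_two, ← hτ]; exact pow_orderOf_eq_one τ
  have hτ1 : τ ≠ 1 := by
    intro h; rw [h, orderOf_one] at hτ; omega
  -- `ψ(τ) = -1`
  have hψτ : (ψ : G → ℂ) τ = -1 := by
    rcases Cfsg.Agent.Lib.Helper30_Deg3.deg3_involution hperf hψchar hψ1 hττ with h | h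
    · exact h
    · exfalso
      have := Cfsg.Agent.Lib.Helper30_Deg3.eq_const_of_value_eq hψchar hτ1 (h.trans hψ1.symm) y
      rw [hψy, hψ1] at this
      norm_num at this
  have hΘτ : Θ τ = 1 := by
    rw [hΘv, hψτ]
    simp
  -- the column relation at `τ`
  have hcol : 1 + (χp : G → ℂ) τ - (χm : G → ℂ) τ = 0 := by
    have hnc : ¬ IsConj τ y := by
      intro hc
      obtain ⟨c, hc'⟩ := isConj_iff.mp hc
      have := (MulAut.conj c).orderOf_eq τ
      rw [MulAut.conj_apply, hc', hy, hτ] at this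
      omega
    have h1 := (Cfsg.Agent.Lib.Helper80_CharComplete.second_orthogonality τ y).2 hnc
    rw [hexp (fun χ => (χ : G → ℂ) τ)] at h1
    exact h1
  constructor
  · intro hd7
    have hk0 : k = 0 := by omega
    have hθ0 : θ = 0 :=
      Cfsg.Agent.Lib.Helper39_CharTools.eq_zero_of_isCharacter_of_one_eq_zero hc2
        (by rw [hk, hk0]; norm_num)
    have h1 := hθv τ
    rw [hθ0, hΘτ] at h1
    have hmτ : (χm : G → ℂ) τ = 0 := by
      simp only [Pi.zero_apply] at h1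
      linear_combination h1
    refine ⟨?_, hmτ⟩
    rw [hmτ] at hcol
    linear_combination hcol
  · intro hd4
    have hk3 : k = 3 := by omega
    have hθ1 : θ 1 = 3 := by rw [hk, hk3]; norm_num
    have hθy : θ y = 0 := by
      rw [hθv, hΘv, hψy, hmy]; ring
    have hθτ : θ τ = -1 := by
      rcases Cfsg.Agent.Lib.Helper30_Deg3.deg3_involution hperf hc2 hθ1 hττ with h | h
      · exact h
      · exfalso
        have := Cfsg.Agent.Lib.Helper30_Deg3.eq_const_of_value_eq hc2 hτ1 (h.trans hθ1.symm) y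
        rw [hθy, hθ1] at this
        norm_num at this
    have h1 := hθv τ
    rw [hθτ, hΘτ] at h1
    have hmτ : (χm : G → ℂ) τ = 1 := by linear_combination h1
    refine ⟨?_, hmτ⟩
    rw [hmτ] at hcol
    linear_combination hcol

end chars

section invert

variable {G : Type*} [Group G]

/-- if a product of two involutions has order three, the involutions are conjugate -/
theorem eq_conj_of_prod {x z y : G} (hx : x * x = 1) (hz : z * z = 1) (h : x * z = y)
    (hy3 : y * y * y = 1) : z = y * x * y⁻¹ := by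
  have hinv : y⁻¹ = y * y := by
    apply inv_eq_of_mul_eq_one_right
    rw [← mul_assoc]; exact hy3
  have hx' : ∀ w : G, x * (x * w) = w := fun w => by rw [← mul_assoc, hx, one_mul]
  have hz' : ∀ w : G, z * (z * w) = w := fun w => by rw [← mul_assoc, hz, one_mul]
  rw [hinv, ← h]
  simp only [mul_assoc, hx', hz']

/-- the first factor of a product of two involutions inverts the product -/
theorem inverts_of_prod {x z y : G} (hx : x * x = 1) (hz : z * z = 1) (h : x * z = y) :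
    x * y * x⁻¹ = y⁻¹ := by
  have hxinv : x⁻¹ = x := inv_eq_of_mul_eq_one_right hx
  have hzinv : z⁻¹ = z := inv_eq_of_mul_eq_one_right hz
  rw [hxinv, ← h, mul_inv_rev, hxinv, hzinv, ← mul_assoc, hx, one_mul]

/-- an element inverting `y` inverts every power of `y` -/
theorem inverts_zpowers {x y : G} (h : x * y * x⁻¹ = y⁻¹) {w : G}
    (hw : w ∈ Subgroup.zpowers y) : x * w * x⁻¹ = w⁻¹ := by
  obtain ⟨k, rfl⟩ := hw
  have h1 : MulAut.conj x y = y⁻¹ := by rw [MulAut.conj_apply]; exact h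
  have h2 := map_zpow (MulAut.conj x) y k
  rw [h1, MulAut.conj_apply] at h2
  simp only at h2 ⊢
  rw [h2, inv_zpow]

/-- the coset `x₀ ⟨y⟩` of an involution inverting `y` consists of involutions -/
theorem orderOf_mul_of_inverts {x y : G} (hx : orderOf x = 2) (hy : orderOf y = 3)
    (h : x * y * x⁻¹ = y⁻¹) {w : G} (hw : w ∈ Subgroup.zpowers y) : orderOf (x * w) = 2 := by
  have hxx : x * x = 1 := by rw [← pow_two, ← hx]; exact pow_orderOf_eq_one x
  have hxinv : x⁻¹ = x := inv_eq_of_mul_eq_one_right hxx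
  have hinv := inverts_zpowers h hw
  rw [hxinv] at hinv
  have : Fact (Nat.Prime 2) := ⟨Nat.prime_two⟩
  apply orderOf_eq_prime
  · rw [pow_two]
    calc x * w * (x * w) = (x * w * x) * w := by group
      _ = 1 := by rw [hinv, inv_mul_cancel]
  · intro h1
    have hxw : x = w⁻¹ := eq_inv_of_mul_eq_one_left h1
    have hdvd : orderOf x ∣ 3 := by
      rw [hxw, orderOf_inv, ← hy]
      exact orderOf_dvd_of_mem_zpowers hw
    rw [hx] at hdvd
    omega

end invert

section count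

variable {G : Type*} [Group G] [Finite G]

/-- the number of ways of writing `y` as a product of two involutions, when all involutions are
conjugate -/
theorem card_pairs {y u : G} (hy : orderOf y = 3)
    (hC : Subgroup.centralizer ({y} : Set G) = Subgroup.zpowers y) (hu : orderOf u = 2)
    (hall : ∀ v : G, orderOf v = 2 → IsConj u v)
    (hne : Nonempty {p : G × G // IsConj u p.1 ∧ IsConj u p.2 ∧ p.1 * p.2 = y}) :
    Nat.card {p : G × G // IsConj u p.1 ∧ IsConj u p.2 ∧ p.1 * p.2 = y} = 3 := by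
  have hord : ∀ v : G, IsConj u v → orderOf v = 2 := by
    intro v hv
    obtain ⟨c, hc⟩ := isConj_iff.mp hv
    have := (MulAut.conj c).orderOf_eq u
    rw [MulAut.conj_apply, hc, hu] at this
    exact this
  have hsq : ∀ v : G, orderOf v = 2 → v * v = 1 := by
    intro v hv
    rw [← pow_two, ← hv]; exact pow_orderOf_eq_one v
  obtain ⟨⟨⟨x₀, z₀⟩, hx₀, hz₀, hxz⟩⟩ := hne
  simp only at hx₀ hz₀ hxz
  have hx₀2 := hord x₀ hx₀
  have hinv₀ : x₀ * y * x₀⁻¹ = y⁻¹ :=
    inverts_of_prod (hsq x₀ hx₀2) (hsq z₀ (hord z₀ hz₀)) hxz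
  have hymem : y ∈ Subgroup.zpowers y := Subgroup.mem_zpowers y
  let f : Subgroup.zpowers y → {p : G × G // IsConj u p.1 ∧ IsConj u p.2 ∧ p.1 * p.2 = y} :=
    fun w => ⟨(x₀ * w, (x₀ * w)⁻¹ * y), by
      refine ⟨hall _ (orderOf_mul_of_inverts hx₀2 hy hinv₀ w.2), ?_, mul_inv_cancel_left _ _⟩
      have h1 := orderOf_mul_of_inverts hx₀2 hy hinv₀ w.2
      have h2 : (x₀ * (w : G))⁻¹ = x₀ * w := inv_eq_of_mul_eq_one_right (hsq _ h1)
      simp only
      rw [h2, mul_assoc]
      exact hall _ (orderOf_mul_of_inverts hx₀2 hy hinv₀ (mul_mem w.2 hymem))⟩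
  have hf : Function.Bijective f := by
    constructor
    · intro w w' h
      have h1 : x₀ * (w : G) = x₀ * (w' : G) := congrArg (fun p => p.1.1) h
      exact Subtype.ext (mul_left_cancel h1)
    · rintro ⟨⟨x, z⟩, hx, hz, hxz'⟩
      simp only at hx hz hxz'
      have hinv : x * y * x⁻¹ = y⁻¹ :=
        inverts_of_prod (hsq x (hord x hx)) (hsq z (hord z hz)) hxz'
      have hmem : x₀⁻¹ * x ∈ Subgroup.zpowers y := by
        rw [← hC, Subgroup.mem_centralizer_singleton_iff]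
        have h1 : x * y = y⁻¹ * x := by rw [← hinv]; group
        have h2 : x₀⁻¹ * y⁻¹ = y * x₀⁻¹ := by
          have : y = x₀⁻¹ * y⁻¹ * x₀ := by rw [← hinv₀]; group
          calc x₀⁻¹ * y⁻¹ = (x₀⁻¹ * y⁻¹ * x₀) * x₀⁻¹ := by group
            _ = y * x₀⁻¹ := by rw [← this]
        calc x₀⁻¹ * x * y = x₀⁻¹ * (x * y) := by group
          _ = x₀⁻¹ * (y⁻¹ * x) := by rw [h1]
          _ = (x₀⁻¹ * y⁻¹) * x := by group
          _ = y * x₀⁻¹ * x := by rw [h2]
          _ = y * (x₀⁻¹ * x) := by group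
      refine ⟨⟨x₀⁻¹ * x, hmem⟩, ?_⟩
      apply Subtype.ext
      have h1 : x₀ * (x₀⁻¹ * x) = x := by group
      show (x₀ * (x₀⁻¹ * x), (x₀ * (x₀⁻¹ * x))⁻¹ * y) = (x, z)
      rw [h1, ← hxz']
      congr 1
      group
  rw [← Nat.card_congr (Equiv.ofBijective f hf), Nat.card_zpowers, hy]

end count

section main

variable {G : Type*} [Group G] [Finite G] [IsSimpleGroup G]

/-- **The order relation.** -/
theorem order_relation (hperf : commutator G = ⊤) {y : G} (hy : orderOf y = 3)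
    (hC : Subgroup.centralizer ({y} : Set G) = Subgroup.zpowers y)
    (h3 : 3 ∣ Nat.card G) (h9 : ¬ 9 ∣ Nat.card G) (ψ : IrrCharacter G)
    (hψ : charDegree (ψ : G → ℂ) = 3) :
    ∃ u : G, orderOf u = 2 ∧ (∀ v : G, orderOf v = 2 → IsConj u v) ∧
      ((7 ∣ Nat.card G ∧ 8 ∣ Nat.card G ∧
          21 * Nat.card (Subgroup.centralizer ({u} : Set G)) ^ 2 = 8 * Nat.card G) ∨
        (4 ∣ Nat.card G ∧ 5 ∣ Nat.card G ∧
          15 * Nat.card (Subgroup.centralizer ({u} : Set G)) ^ 2 = 4 * Nat.card G)) := by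
  classical
  obtain ⟨χp, χm, d, hd47, hdp, hdm, hexp, hinv⟩ := deg3_data hperf hy hC h3 h9 ψ hψ
  have hy3 : y * y * y = 1 := by
    have : y ^ 3 = 1 := by rw [← hy]; exact pow_orderOf_eq_one y
    rw [← this, pow_succ, pow_two]
  -- degrees divide the group order
  have hdN : d ∣ Nat.card G := by
    have h1 := charDegree_dvd_card χp
    have h2 := apply_one_eq_charDegree χp
    rw [hdp] at h2
    have h3 : d = charDegree (χp : G → ℂ) := by exact_mod_cast h2
    rw [h3]; exact h1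
  have hd1N : d + 1 ∣ Nat.card G := by
    have h1 := charDegree_dvd_card χm
    have h2 := apply_one_eq_charDegree χm
    rw [hdm] at h2
    have h3 : d + 1 = charDegree (χm : G → ℂ) := by exact_mod_cast h2
    rw [h3]; exact h1
  have h2N : 2 ∣ Nat.card G := by
    rcases hd47 with h | h
    · rw [h] at hdN; exact Dvd.dvd.trans ⟨2, by norm_num⟩ hdN
    · rw [h] at hd1N; exact Dvd.dvd.trans ⟨4, by norm_num⟩ hd1N
  have : Fact (Nat.Prime 2) := ⟨Nat.prime_two⟩
  obtain ⟨u, hu⟩ := exists_prime_orderOf_dvd_card' (G := G) 2 h2N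
  have hsq : ∀ v : G, orderOf v = 2 → v * v = 1 := by
    intro v hv
    rw [← pow_two, ← hv]; exact pow_orderOf_eq_one v
  have hord : ∀ a v : G, orderOf a = 2 → IsConj a v → orderOf v = 2 := by
    intro a v ha hv
    obtain ⟨c, hc⟩ := isConj_iff.mp hv
    have := (MulAut.conj c).orderOf_eq a
    rw [MulAut.conj_apply, hc, ha] at this
    exact this
  -- the constant
  obtain ⟨κ, hκ7, hκ4⟩ : ∃ κ : ℂ, (d = 7 → κ = 8 / 7) ∧ (d = 4 → κ = 4 / 5) := by
    rcases hd47 with h | h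
    · exact ⟨4 / 5, fun h' => by omega, fun _ => rfl⟩
    · exact ⟨8 / 7, fun _ => rfl, fun h' => by omega⟩
  have hκ0 : κ ≠ 0 := by
    rcases hd47 with h | h
    · rw [hκ4 h]; norm_num
    · rw [hκ7 h]; norm_num
  have hcount : ∀ a b : G, orderOf a = 2 → orderOf b = 2 →
      (Nat.card {p : G × G // IsConj a p.1 ∧ IsConj b p.2 ∧ p.1 * p.2 = y} : ℂ) =
        (Nat.card {x : G // IsConj a x} : ℂ) * (Nat.card {x : G // IsConj b x} : ℂ) /
          (Nat.card G : ℂ) * κ := by
    intro a b ha hb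
    rw [Cfsg.Agent.S0840.result a b y]
    congr 1
    have h1 : (fun χ : IrrCharacter G =>
        (χ : G → ℂ) a * (χ : G → ℂ) b * conj ((χ : G → ℂ) y) / (χ : G → ℂ) 1) =
        fun χ : IrrCharacter G =>
          ((χ : G → ℂ) a * (χ : G → ℂ) b / (χ : G → ℂ) 1) * conj ((χ : G → ℂ) y) := by
      funext χ; ring
    rw [h1, hexp (fun χ => (χ : G → ℂ) a * (χ : G → ℂ) b / (χ : G → ℂ) 1), hdp, hdm]
    have hone : ∀ g : G, ((oneIrr G : IrrCharacter G) : G → ℂ) g = 1 := fun g => rfl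
    rw [hone, hone, hone]
    rcases hd47 with h | h
    · obtain ⟨hpa, hma⟩ := (hinv a ha).2 h
      obtain ⟨hpb, hmb⟩ := (hinv b hb).2 h
      rw [hpa, hpb, hma, hmb, hκ4 h, h]
      norm_num
    · obtain ⟨hpa, hma⟩ := (hinv a ha).1 h
      obtain ⟨hpb, hmb⟩ := (hinv b hb).1 h
      rw [hpa, hpb, hma, hmb, hκ7 h, h]
      norm_num
  have hclasspos : ∀ a : G, (Nat.card {x : G // IsConj a x} : ℂ) ≠ 0 := by
    intro a
    have : Nonempty {x : G // IsConj a x} := ⟨⟨a, IsConj.refl a⟩⟩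
    exact_mod_cast (Nat.card_pos (α := {x : G // IsConj a x})).ne'
  have hNpos : (Nat.card G : ℂ) ≠ 0 := by exact_mod_cast (Nat.card_pos (α := G)).ne'
  have hnonempty : ∀ a b : G, orderOf a = 2 → orderOf b = 2 →
      Nonempty {p : G × G // IsConj a p.1 ∧ IsConj b p.2 ∧ p.1 * p.2 = y} := by
    intro a b ha hb
    have h1 := hcount a b ha hb
    have h2 : (Nat.card {p : G × G // IsConj a p.1 ∧ IsConj b p.2 ∧ p.1 * p.2 = y} : ℂ) ≠ 0 := by
      rw [h1]
      exact mul_ne_zero (div_ne_zero (mul_ne_zero (hclasspos a) (hclasspos b)) hNpos) hκ0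
    have h3 : Nat.card {p : G × G // IsConj a p.1 ∧ IsConj b p.2 ∧ p.1 * p.2 = y} ≠ 0 := by
      exact_mod_cast h2
    exact (Nat.card_pos_iff.mp (Nat.pos_of_ne_zero h3)).1
  -- all involutions are conjugate
  have hall : ∀ v : G, orderOf v = 2 → IsConj u v := by
    intro v hv
    obtain ⟨⟨⟨x, z⟩, hx, hz, hxz⟩⟩ := hnonempty u v hu hv
    simp only at hx hz hxz
    have hz' := eq_conj_of_prod (hsq x (hord u x hu hx)) (hsq z (hord v z hv hz)) hxz hy3
    have hxz' : IsConj x z := isConj_iff.mpr ⟨y, hz'.symm⟩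
    exact (hx.trans hxz').trans hz.symm
  refine ⟨u, hu, hall, ?_⟩
  -- the count
  have h3c := card_pairs hy hC hu hall (hnonempty u u hu hu)
  have hform := hcount u u hu hu
  rw [h3c] at hform
  have hK := Cfsg.Agent.Lib.Helper30_KleinCount.card_class_mul u
  obtain ⟨K, hKdef⟩ : ∃ K : ℕ, K = Nat.card {w : G // IsConj u w} := ⟨_, rfl⟩
  obtain ⟨c, hcdef⟩ : ∃ c : ℕ, c = Nat.card (Subgroup.centralizer ({u} : Set G)) := ⟨_, rfl⟩
  obtain ⟨N, hNdef⟩ : ∃ N : ℕ, N = Nat.card G := ⟨_, rfl⟩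
  rw [← hKdef, ← hcdef, ← hNdef] at hK
  rw [← hKdef, ← hNdef] at hform
  rw [← hNdef] at hNpos hdN hd1N
  rw [← hcdef, ← hNdef]
  have hKc : (K : ℂ) * (c : ℂ) = (N : ℂ) := by exact_mod_cast hK
  have e0 : (3 : ℂ) * N = K * K * κ := by
    have : ((3 : ℕ) : ℂ) = 3 := by norm_num
    rw [this] at hform
    rw [hform]
    field_simp
  have e1 : (N : ℂ) * (3 * (c : ℂ) ^ 2) = (N : ℂ) * ((N : ℂ) * κ) := by
    calc (N : ℂ) * (3 * (c : ℂ) ^ 2) = (3 * N) * (c : ℂ) ^ 2 := by ring
      _ = (K * K * κ) * (c : ℂ) ^ 2 := by rw [e0]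
      _ = ((K : ℂ) * c) ^ 2 * κ := by ring
      _ = (N : ℂ) * ((N : ℂ) * κ) := by rw [hKc]; ring
  have e2 : 3 * (c : ℂ) ^ 2 = (N : ℂ) * κ := mul_left_cancel₀ hNpos e1
  rcases hd47 with h | h
  · right
    refine ⟨by rw [h] at hdN; exact hdN, by rw [h] at hd1N; exact hd1N, ?_⟩
    rw [hκ4 h] at e2
    have e3 : ((15 * c ^ 2 : ℕ) : ℂ) = ((4 * N : ℕ) : ℂ) := by
      push_cast
      linear_combination 5 * e2
    exact_mod_cast e3
  · left
    refine ⟨by rw [h] at hdN; exact hdN, by rw [h] at hd1N; exact hd1N, ?_⟩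
    rw [hκ7 h] at e2
    have e3 : ((21 * c ^ 2 : ℕ) : ℂ) = ((8 * N : ℕ) : ℂ) := by
      push_cast
      linear_combination 7 * e2
    exact_mod_cast e3

end main

section sylow

variable {G : Type*} [Group G] [Finite G]

/-- if all involutions are conjugate, the centralizer of an involution contains a Sylow
`2`-subgroup, up to order -/
theorem sylow_two_dvd_centralizer {u : G} (hu : orderOf u = 2)
    (hall : ∀ v : G, orderOf v = 2 → IsConj u v) (T : Sylow 2 G) :
    Nat.card (T : Subgroup G) ∣ Nat.card (Subgroup.centralizer ({u} : Set G)) := by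
  have : Fact (Nat.Prime 2) := ⟨Nat.prime_two⟩
  have h2N : 2 ∣ Nat.card G := by rw [← hu]; exact orderOf_dvd_natCard u
  have h2T : 2 ∣ Nat.card (T : Subgroup G) := T.dvd_card_of_dvd_card h2N
  have hnt : Nontrivial (T : Subgroup G) := by
    rw [← Finite.one_lt_card_iff_nontrivial]
    exact lt_of_lt_of_le (by norm_num) (Nat.le_of_dvd Nat.card_pos h2T)
  have hcnt : Nontrivial (Subgroup.center (T : Subgroup G)) := T.2.center_nontrivial
  have hcp : IsPGroup 2 (Subgroup.center (T : Subgroup G)) :=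
    T.2.to_subgroup (Subgroup.center (T : Subgroup G))
  obtain ⟨n, hn0, hn⟩ := hcp.nontrivial_iff_card.mp hcnt
  have h2Z : 2 ∣ Nat.card (Subgroup.center (T : Subgroup G)) := by
    rw [hn]; exact dvd_pow_self 2 (ne_of_gt hn0)
  obtain ⟨z, hz⟩ := exists_prime_orderOf_dvd_card' (G := Subgroup.center (T : Subgroup G)) 2 h2Z
  obtain ⟨z₁, hz₁⟩ : ∃ z₁ : G, z₁ = ((z : (T : Subgroup G)) : G) := ⟨_, rfl⟩
  have hz₁o : orderOf z₁ = 2 := by
    rw [hz₁, Subgroup.orderOf_coe, Subgroup.orderOf_coe]; exact hz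
  have hTle : (T : Subgroup G) ≤ Subgroup.centralizer ({z₁} : Set G) := by
    intro t ht
    rw [Subgroup.mem_centralizer_singleton_iff]
    have hzc := z.2
    rw [Subgroup.mem_center_iff] at hzc
    have := hzc ⟨t, ht⟩
    have h2 := Subtype.ext_iff.mp this
    simp only [Subgroup.coe_mul] at h2
    rw [hz₁]
    exact h2
  have hdvd := Subgroup.card_dvd_of_le hTle
  have hconj := hall z₁ hz₁o
  -- conjugate elements have centralizers of the same order
  have h1 := Cfsg.Agent.Lib.Helper30_KleinCount.card_class_mul u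
  have h2 := Cfsg.Agent.Lib.Helper30_KleinCount.card_class_mul z₁
  have hK : Nat.card {w : G // IsConj u w} = Nat.card {w : G // IsConj z₁ w} := by
    apply Nat.card_congr
    exact
      { toFun := fun w => ⟨w.1, hconj.symm.trans w.2⟩
        invFun := fun w => ⟨w.1, hconj.trans w.2⟩
        left_inv := fun w => rfl
        right_inv := fun w => rfl }
  have hKpos : 0 < Nat.card {w : G // IsConj z₁ w} := by
    have : Nonempty {w : G // IsConj z₁ w} := ⟨⟨z₁, IsConj.refl z₁⟩⟩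
    exact Nat.card_pos
  rw [hK, ← h2] at h1
  have hceq : Nat.card (Subgroup.centralizer ({u} : Set G)) =
      Nat.card (Subgroup.centralizer ({z₁} : Set G)) := Nat.eq_of_mul_eq_mul_left hKpos h1
  rw [hceq]
  exact hdvd

end sylow

end Cfsg.Agent.Lib.Helper30_ThreePQ
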