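import Mathlib

/-!
# The counting argument behind Brauer's theorem for a Sylow subgroup of prime order (helper16)

Pure combinatorics: a finite family of integer vectors `n χ : ι → ℤ` (`|ι| = p - 1 = e t`),
partitioned into classes (Galois orbits), with the two norm identities coming from block
orthogonality and the "trace in `{0, 1, -1}`" property of the class sums, splits into `e` constant
vectors `± 1` and one class of `t` vectors with disjoint supports of size `e`.
-/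

set_option autoImplicit false

namespace Cfsg.Agent.Lib.Helper16_BrauerArith

open Finset

/-- Weights `1 / N ρ` on at most `e + 1` points summing to `e + 1 / t`: all `N ρ` are one except
for one point with `N ρ = t`. -/
theorem weights {α : Type*} [DecidableEq α] (W : Finset α) (N : α → ℕ) (e t : ℕ)
    (ht : 0 < t) (hN : ∀ ρ ∈ W, 0 < N ρ) (hW : W.card ≤ e + 1)
    (hsum : ∑ ρ ∈ W, (1 : ℚ) / N ρ = e + 1 / t) :
    W.card = e + 1 ∧ ∃ ρs ∈ W, N ρs = t ∧ ∀ ρ ∈ W, ρ ≠ ρs → N ρ = 1 := by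
  classical
  set A := W.filter (fun ρ => N ρ = 1) with hA
  set Bs := W.filter (fun ρ => ¬ N ρ = 1) with hBs
  have hcard : A.card + Bs.card = W.card := by
    rw [hA, hBs]
    exact Finset.card_filter_add_card_filter_not (fun ρ => N ρ = 1)
  have hsplit : ∑ ρ ∈ W, (1 : ℚ) / N ρ = ∑ ρ ∈ A, (1 : ℚ) / N ρ + ∑ ρ ∈ Bs, (1 : ℚ) / N ρ := by
    rw [hA, hBs]
    exact (Finset.sum_filter_add_sum_filter_not W (fun ρ => N ρ = 1) _).symm
  have hAsum : ∑ ρ ∈ A, (1 : ℚ) / N ρ = A.card := by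
    rw [Finset.card_eq_sum_ones, Nat.cast_sum]
    refine Finset.sum_congr rfl fun ρ hρ => ?_
    rw [(Finset.mem_filter.mp hρ).2]
    simp
  have hBle : ∀ ρ ∈ Bs, (1 : ℚ) / N ρ ≤ 1 / 2 := by
    intro ρ hρ
    obtain ⟨hρW, hne⟩ := Finset.mem_filter.mp hρ
    have h2 : 2 ≤ N ρ := by
      have := hN ρ hρW
      omega
    have h2' : (2 : ℚ) ≤ N ρ := by exact_mod_cast h2
    rw [div_le_div_iff₀ (by linarith) (by norm_num)]
    linarith
  have hBsum : ∑ ρ ∈ Bs, (1 : ℚ) / N ρ ≤ Bs.card / 2 := by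
    calc ∑ ρ ∈ Bs, (1 : ℚ) / N ρ ≤ ∑ ρ ∈ Bs, (1 : ℚ) / 2 := Finset.sum_le_sum hBle
      _ = Bs.card / 2 := by rw [Finset.sum_const, nsmul_eq_mul]; ring
  have htq : (0 : ℚ) < t := by exact_mod_cast ht
  have ht1 : (1 : ℚ) / t ≤ 1 := by
    rw [div_le_one htq]
    exact_mod_cast ht
  have htpos : (0 : ℚ) < 1 / t := by positivity
  have hWq : (A.card : ℚ) + Bs.card ≤ e + 1 := by
    have : A.card + Bs.card ≤ e + 1 := hcard ▸ hW
    exact_mod_cast this
  rw [hsplit, hAsum] at hsum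
  rcases Nat.eq_zero_or_pos Bs.card with hB0 | hBpos
  · -- no heavy point
    have hBe : Bs = ∅ := Finset.card_eq_zero.mp hB0
    rw [hBe, Finset.sum_empty, add_zero] at hsum
    have hAe : A.card = e + 1 := by
      have h1 : (e : ℚ) < A.card := by linarith
      have h1' : e < A.card := by exact_mod_cast h1
      have h2 : A.card ≤ e + 1 := by omega
      omega
    have htone : t = 1 := by
      have : (1 : ℚ) / t = 1 := by
        rw [hAe] at hsum
        push_cast at hsum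
        linarith
      have h3 : (t : ℚ) = 1 := by
        field_simp at this
        linarith
      exact_mod_cast h3
    have hWc : W.card = e + 1 := by omega
    refine ⟨hWc, ?_⟩
    have hWne : W.Nonempty := by
      rw [← Finset.card_pos]
      omega
    obtain ⟨ρs, hρs⟩ := hWne
    have hall : ∀ ρ ∈ W, N ρ = 1 := by
      intro ρ hρ
      by_contra hne
      have : ρ ∈ Bs := Finset.mem_filter.mpr ⟨hρ, hne⟩
      rw [hBe] at this
      exact absurd this (Finset.notMem_empty ρ)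
    exact ⟨ρs, hρs, by rw [hall ρs hρs, htone], fun ρ hρ _ => hall ρ hρ⟩
  · -- a heavy point
    have hBq : (1 : ℚ) ≤ Bs.card := by exact_mod_cast hBpos
    have hB1 : Bs.card = 1 := by
      by_contra hne
      have h2 : (2 : ℚ) ≤ Bs.card := by
        have : 2 ≤ Bs.card := by omega
        exact_mod_cast this
      linarith
    obtain ⟨ρs, hρs⟩ := Finset.card_eq_one.mp hB1
    have hρsB : ρs ∈ Bs := by rw [hρs]; exact Finset.mem_singleton_self ρs
    obtain ⟨hρsW, hρsne⟩ := Finset.mem_filter.mp hρsB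
    rw [hρs, Finset.sum_singleton] at hsum
    have hhalf := hBle ρs hρsB
    have hAle : A.card ≤ e := by omega
    have hAe : A.card = e := by
      by_contra hne
      have h2 : (A.card : ℚ) ≤ e - 1 := by
        have : A.card + 1 ≤ e := by omega
        have h3 : ((A.card + 1 : ℕ) : ℚ) ≤ e := by exact_mod_cast this
        push_cast at h3
        linarith
      linarith
    have hNt : N ρs = t := by
      rw [hAe] at hsum
      have h3 : (1 : ℚ) / N ρs = 1 / t := by linarith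
      have hNq : (0 : ℚ) < N ρs := by exact_mod_cast hN ρs hρsW
      have h4 : (N ρs : ℚ) = t := by
        field_simp at h3
        linarith
      exact_mod_cast h4
    refine ⟨by omega, ρs, hρsW, hNt, fun ρ hρ hne => ?_⟩
    by_contra hne1
    have : ρ ∈ Bs := Finset.mem_filter.mpr ⟨hρ, hne1⟩
    rw [hρs] at this
    exact hne (Finset.mem_singleton.mp this)

/-- **The counting argument.**  `n χ i` integers (`χ : β`, `i : ι`, `|ι| = p - 1 = e t`); `r` an
equivalence relation on `β` whose classes have class sums `c ∈ {0, 1, -1}` independent of `i`, and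
such that equivalent `χ` have `n χ` equal up to a permutation of `ι`; `∑_χ n χ i ^ 2 = e + 1`,
`∑_χ (∑_i n χ i) ^ 2 = e p (p - 1)`, and no `n χ` vanishes identically. -/
theorem main {β ι : Type*} [Fintype β] [Fintype ι] [DecidableEq β] [DecidableEq ι]
    (r : Setoid β) [DecidableRel ⇑r] (n : β → ι → ℤ) (p e t : ℕ) (he : 0 < e) (ht : 0 < t)
    (het : e * t = p - 1) (hι : Fintype.card ι = p - 1)
    (hA : ∀ i, ∑ χ, n χ i ^ 2 = (e : ℤ) + 1)
    (hB : ∑ χ, (∑ i, n χ i) ^ 2 = ((e * p * (p - 1) : ℕ) : ℤ))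
    (hO : ∀ χ χ', r χ χ' → ∃ σ : Equiv.Perm ι, ∀ i, n χ' i = n χ (σ i))
    (hCT : ∀ χ, ∃ c : ℤ, (c = 0 ∨ c = 1 ∨ c = -1) ∧
      ∀ i, ∑ χ' ∈ univ.filter (fun χ' => r χ χ'), n χ' i = c)
    (hD0 : ∀ χ, ∃ i, n χ i ≠ 0) :
    ∃ (X Y : Finset β) (εX : β → ℤ) (ε : ℤ), Disjoint X Y ∧ X ∪ Y = univ ∧ X.card = e ∧
      Y.card = t ∧ (∀ χ ∈ X, (εX χ = 1 ∨ εX χ = -1) ∧ ∀ i, n χ i = - εX χ) ∧
      (ε = 1 ∨ ε = -1) ∧ (∀ θ ∈ Y, ∀ i, n θ i = 0 ∨ n θ i = ε) ∧
      (∀ i, ∃ θ ∈ Y, n θ i ≠ 0 ∧ ∀ θ' ∈ Y, n θ' i ≠ 0 → θ' = θ) ∧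
      (∀ θ ∈ Y, (univ.filter (fun i => n θ i ≠ 0)).card = e) := by
  classical
  have hp1 : 0 < p - 1 := by rw [← het]; positivity
  have hιne : Nonempty ι := by
    rw [← Fintype.card_pos_iff, hι]; exact hp1
  obtain ⟨i0⟩ := hιne
  -- classes
  set cls : β → Finset β := fun χ => univ.filter (fun χ' => r χ χ') with hclsdef
  have hmem_cls : ∀ χ χ', χ' ∈ cls χ ↔ r χ χ' := by
    intro χ χ'
    simp [hclsdef]
  have hself : ∀ χ, χ ∈ cls χ := fun χ => (hmem_cls χ χ).2 (r.refl χ)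
  have hcls_eq : ∀ χ χ', r χ χ' → cls χ = cls χ' := by
    intro χ χ' h
    ext ψ
    rw [hmem_cls, hmem_cls]
    exact ⟨fun h1 => r.trans (r.symm h) h1, fun h1 => r.trans h h1⟩
  choose c hc01 hcsum using hCT
  have hc_eq : ∀ χ χ', r χ χ' → c χ = c χ' := by
    intro χ χ' h
    rw [← hcsum χ i0, ← hcsum χ' i0]
    have := hcls_eq χ χ' h
    simp only [hclsdef] at this
    rw [this]
  set s : β → ℤ := fun χ => ∑ i, n χ i with hsdef
  have hs_eq : ∀ χ χ', r χ χ' → s χ' = s χ := by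
    intro χ χ' h
    obtain ⟨σ, hσ⟩ := hO χ χ' h
    simp only [hsdef]
    rw [Finset.sum_congr rfl (fun i _ => hσ i)]
    exact Equiv.sum_comp σ (n χ)
  set N : β → ℕ := fun χ => (cls χ).card with hNdef
  have hNpos : ∀ χ, 0 < N χ := fun χ => Finset.card_pos.2 ⟨χ, hself χ⟩
  have hN_eq : ∀ χ χ', r χ χ' → N χ = N χ' := by
    intro χ χ' h
    simp only [hNdef]
    rw [hcls_eq χ χ' h]
  have hNs : ∀ χ, (N χ : ℤ) * s χ = ((p - 1 : ℕ) : ℤ) * c χ := by
    intro χ
    have h1 : ∑ χ' ∈ cls χ, s χ' = (N χ : ℤ) * s χ := by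
      rw [Finset.sum_congr rfl (fun χ' hχ' => hs_eq χ χ' ((hmem_cls χ χ').1 hχ')),
        Finset.sum_const, nsmul_eq_mul]
    have h2 : ∑ χ' ∈ cls χ, s χ' = ((p - 1 : ℕ) : ℤ) * c χ := by
      simp only [hsdef]
      rw [Finset.sum_comm]
      have : ∀ i ∈ (univ : Finset ι), ∑ χ' ∈ cls χ, n χ' i = c χ := fun i _ => hcsum χ i
      rw [Finset.sum_congr rfl this, Finset.sum_const, nsmul_eq_mul, Finset.card_univ, hι]
    rw [← h1, h2]
  -- representatives
  set rep : β → β := fun χ => (Quotient.mk r χ).out with hrepdef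
  have hrep : ∀ χ, r (rep χ) χ := fun χ => Quotient.exact (Quotient.out_eq _)
  have hrep_eq : ∀ χ χ', r χ χ' → rep χ = rep χ' := by
    intro χ χ' h
    simp only [hrepdef]
    rw [Quotient.sound h]
  set R : Finset β := univ.image rep with hRdef
  have hR_rep : ∀ ρ ∈ R, rep ρ = ρ := by
    intro ρ hρ
    obtain ⟨χ, -, rfl⟩ := Finset.mem_image.mp hρ
    exact hrep_eq _ _ (hrep χ)
  have hR_inj : ∀ ρ ∈ R, ∀ ρ' ∈ R, r ρ ρ' → ρ = ρ' := by
    intro ρ hρ ρ' hρ' h
    rw [← hR_rep ρ hρ, ← hR_rep ρ' hρ']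
    exact hrep_eq _ _ h
  have hfiber : ∀ ρ ∈ R, univ.filter (fun χ => rep χ = ρ) = cls ρ := by
    intro ρ hρ
    ext χ
    rw [Finset.mem_filter, hmem_cls]
    constructor
    · rintro ⟨-, h⟩
      rw [← h]
      exact hrep χ
    · intro h
      refine ⟨Finset.mem_univ _, ?_⟩
      rw [← hrep_eq ρ χ h]
      exact hR_rep ρ hρ
  have hsumR : ∀ g : β → ℚ, ∑ χ, g χ = ∑ ρ ∈ R, ∑ χ ∈ cls ρ, g χ := by
    intro g
    rw [← Finset.sum_fiberwise_of_maps_to (s := univ) (t := R) (g := rep)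
      (fun χ _ => Finset.mem_image_of_mem rep (Finset.mem_univ χ)) g]
    exact Finset.sum_congr rfl fun ρ hρ => by rw [hfiber ρ hρ]
  -- the weight identity
  have hp1q : (0 : ℚ) < ((p - 1 : ℕ) : ℚ) := by exact_mod_cast hp1
  have hetq : ((p - 1 : ℕ) : ℚ) = e * t := by
    rw [← het]; push_cast; ring
  have htq : (0 : ℚ) < t := by exact_mod_cast ht
  have heq : (0 : ℚ) < e := by exact_mod_cast he
  have hpq : (p : ℚ) = e * t + 1 := by
    have : p = e * t + 1 := by omega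
    rw [this]; push_cast; ring
  have hweight : ∑ ρ ∈ R, ((c ρ : ℚ) ^ 2 / N ρ) = e + 1 / t := by
    have h1 : ∑ χ, ((s χ : ℚ)) ^ 2 = ((e * p * (p - 1) : ℕ) : ℚ) := by
      have hB' : ∑ χ, (s χ) ^ 2 = ((e * p * (p - 1) : ℕ) : ℤ) := hB
      exact_mod_cast hB'
    rw [hsumR] at h1
    have h2 : ∀ ρ ∈ R, ∑ χ ∈ cls ρ, ((s χ : ℚ)) ^ 2 =
        ((p - 1 : ℕ) : ℚ) ^ 2 * ((c ρ : ℚ) ^ 2 / N ρ) := by
      intro ρ _
      rw [Finset.sum_congr rfl (fun χ hχ => by rw [hs_eq ρ χ ((hmem_cls ρ χ).1 hχ)]),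
        Finset.sum_const, nsmul_eq_mul]
      have hNq : (0 : ℚ) < N ρ := by exact_mod_cast hNpos ρ
      have h3 : ((N ρ : ℚ)) * s ρ = ((p - 1 : ℕ) : ℚ) * c ρ := by
        exact_mod_cast hNs ρ
      show ((N ρ : ℕ) : ℚ) * (s ρ : ℚ) ^ 2 = _
      field_simp
      calc (N ρ : ℚ) ^ 2 * (s ρ : ℚ) ^ 2 = ((N ρ : ℚ) * s ρ) ^ 2 := by ring
        _ = (((p - 1 : ℕ) : ℚ) * c ρ) ^ 2 := by rw [h3]
        _ = _ := by ring
    rw [Finset.sum_congr rfl h2, ← Finset.mul_sum] at h1
    have h4 : ((e * p * (p - 1) : ℕ) : ℚ) = (e : ℚ) * p * ((p - 1 : ℕ) : ℚ) := by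
      push_cast; ring
    rw [h4, hetq, hpq] at h1
    have h5 : ((e : ℚ) * t) ^ 2 * (∑ ρ ∈ R, ((c ρ : ℚ) ^ 2 / N ρ)) =
        ((e : ℚ) * t) ^ 2 * (e + 1 / t) := by
      rw [h1]
      field_simp
    have h6 : ((e : ℚ) * t) ^ 2 ≠ 0 := by positivity
    exact mul_left_cancel₀ h6 h5
  set W : Finset β := R.filter (fun ρ => c ρ ≠ 0) with hWdef
  have hcsq : ∀ ρ, c ρ ≠ 0 → (c ρ : ℚ) ^ 2 = 1 := by
    intro ρ hne
    rcases hc01 ρ with h | h | h
    · exact absurd h hne
    · rw [h]; norm_num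
    · rw [h]; norm_num
  have hWsum : ∑ ρ ∈ W, (1 : ℚ) / N ρ = e + 1 / t := by
    rw [← hweight, hWdef, Finset.sum_filter]
    refine Finset.sum_congr rfl fun ρ _ => ?_
    split_ifs with h
    · rw [hcsq ρ h]
    · push Not at h
      rw [h]; simp
  -- the bound on the number of classes
  set T : Finset β := univ.filter (fun χ => n χ i0 ≠ 0) with hTdef
  have hTcard : (T.card : ℤ) ≤ e + 1 := by
    rw [← hA i0]
    calc (T.card : ℤ) = ∑ χ ∈ T, (1 : ℤ) := by simp
      _ ≤ ∑ χ ∈ T, n χ i0 ^ 2 := by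
        refine Finset.sum_le_sum fun χ hχ => ?_
        have hne : n χ i0 ≠ 0 := (Finset.mem_filter.mp hχ).2
        have : 0 < n χ i0 ^ 2 := by positivity
        omega
      _ ≤ ∑ χ, n χ i0 ^ 2 :=
        Finset.sum_le_sum_of_subset_of_nonneg (Finset.subset_univ T) (fun χ _ _ => sq_nonneg _)
  have hex : ∀ ρ, c ρ ≠ 0 → ∀ i, ∃ χ, r ρ χ ∧ n χ i ≠ 0 := by
    intro ρ hne i
    by_contra hcon
    push Not at hcon
    apply hne
    rw [← hcsum ρ i]
    refine Finset.sum_eq_zero fun χ hχ => ?_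
    exact hcon χ (Finset.mem_filter.mp hχ).2
  have hWcard : W.card ≤ e + 1 := by
    have hWT : W.card ≤ T.card := by
      let f : β → β := fun ρ => if h : c ρ ≠ 0 then (hex ρ h i0).choose else ρ
      apply Finset.card_le_card_of_injOn f
      · intro ρ hρ
        have hne : c ρ ≠ 0 := (Finset.mem_filter.mp hρ).2
        show f ρ ∈ T
        simp only [f, dif_pos hne]
        exact Finset.mem_filter.mpr ⟨Finset.mem_univ _, (hex ρ hne i0).choose_spec.2⟩
      · intro ρ hρ ρ' hρ' hff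
        have hρ1 := Finset.mem_coe.mp hρ
        have hρ1' := Finset.mem_coe.mp hρ'
        have hne : c ρ ≠ 0 := (Finset.mem_filter.mp hρ1).2
        have hne' : c ρ' ≠ 0 := (Finset.mem_filter.mp hρ1').2
        simp only [f, dif_pos hne, dif_pos hne'] at hff
        have h1 := (hex ρ hne i0).choose_spec.1
        have h2 := (hex ρ' hne' i0).choose_spec.1
        rw [hff] at h1
        exact hR_inj ρ (Finset.mem_filter.mp hρ1).1 ρ' (Finset.mem_filter.mp hρ1').1
          (r.trans h1 (r.symm h2))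
    have : (W.card : ℤ) ≤ e + 1 := le_trans (by exact_mod_cast hWT) hTcard
    exact_mod_cast this
  obtain ⟨hWc, ρs, hρsW, hNρs, hNone⟩ := weights W N e t ht (fun ρ _ => hNpos ρ) hWcard hWsum
  have hρsR : ρs ∈ R := (Finset.mem_filter.mp hρsW).1
  have hcρs : c ρs ≠ 0 := (Finset.mem_filter.mp hρsW).2
  -- the two families
  set X : Finset β := W.erase ρs with hXdef
  set Y : Finset β := cls ρs with hYdef
  have hXcard : X.card = e := by
    rw [hXdef, Finset.card_erase_of_mem hρsW, hWc]; rfl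
  have hYcard : Y.card = t := hNρs
  have hXprop : ∀ χ ∈ X, c χ ≠ 0 ∧ ∀ i, n χ i = c χ := by
    intro χ hχ
    obtain ⟨hne, hχW⟩ := Finset.mem_erase.mp hχ
    have hN1 : N χ = 1 := hNone χ hχW hne
    have hcls1 : cls χ = {χ} := by
      obtain ⟨a, ha⟩ := Finset.card_eq_one.mp hN1
      have : χ ∈ ({a} : Finset β) := ha ▸ hself χ
      rw [Finset.mem_singleton] at this
      rw [ha, this]
    refine ⟨(Finset.mem_filter.mp hχW).2, fun i => ?_⟩
    have := hcsum χ i
    have hcls1' : univ.filter (fun χ' => r χ χ') = {χ} := hcls1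
    rw [hcls1', Finset.sum_singleton] at this
    exact this
  have hdisj : Disjoint X Y := by
    rw [Finset.disjoint_left]
    intro χ hχX hχY
    obtain ⟨hne, hχW⟩ := Finset.mem_erase.mp hχX
    apply hne
    exact (hR_inj ρs hρsR χ (Finset.mem_filter.mp hχW).1 ((hmem_cls ρs χ).1 hχY)).symm
  -- exhaustion
  have hexh : ∀ i, ∃ θ ∈ Y, n θ i = c ρs ∧ ∀ χ, χ ∉ X → χ ≠ θ → n χ i = 0 := by
    intro i
    obtain ⟨θ, hθr, hθne⟩ := hex ρs hcρs i
    have hθY : θ ∈ Y := (hmem_cls ρs θ).2 hθr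
    have hθX : θ ∉ X := fun h => Finset.disjoint_left.mp hdisj h hθY
    have hsplit : ∑ χ, n χ i ^ 2 = ∑ χ ∈ X, n χ i ^ 2 + ∑ χ ∈ univ \ X, n χ i ^ 2 := by
      rw [← Finset.sum_sdiff (Finset.subset_univ X), add_comm]
    have hXsum : ∑ χ ∈ X, n χ i ^ 2 = e := by
      have : ∀ χ ∈ X, n χ i ^ 2 = 1 := by
        intro χ hχ
        obtain ⟨hne, hval⟩ := hXprop χ hχ
        rw [hval i]
        rcases hc01 χ with h | h | h
        · exact absurd h hne
        · rw [h]; norm_num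
        · rw [h]; norm_num
      rw [Finset.sum_congr rfl this, Finset.sum_const, hXcard]
      simp
    have hrest : ∑ χ ∈ univ \ X, n χ i ^ 2 = 1 := by
      have := hA i
      rw [hsplit, hXsum] at this
      linarith
    have hθmem : θ ∈ univ \ X := Finset.mem_sdiff.mpr ⟨Finset.mem_univ _, hθX⟩
    have hθsq : 1 ≤ n θ i ^ 2 := by
      have : 0 < n θ i ^ 2 := by positivity
      omega
    have hothers : ∀ χ, χ ∉ X → χ ≠ θ → n χ i = 0 := by
      intro χ hχX hχθ
      have hχmem : χ ∈ univ \ X := Finset.mem_sdiff.mpr ⟨Finset.mem_univ _, hχX⟩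
      have hpair : ({χ, θ} : Finset β) ⊆ univ \ X := by
        intro ψ hψ
        rcases Finset.mem_insert.mp hψ with h | h
        · rw [h]; exact hχmem
        · rw [Finset.mem_singleton.mp h]; exact hθmem
      have hle := Finset.sum_le_sum_of_subset_of_nonneg hpair
        (f := fun χ => n χ i ^ 2) (fun χ _ _ => sq_nonneg _)
      rw [Finset.sum_pair hχθ, hrest] at hle
      have h0 : n χ i ^ 2 ≤ 0 := by linarith
      have h1 : n χ i ^ 2 = 0 := le_antisymm h0 (sq_nonneg _)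
      exact pow_eq_zero_iff (by norm_num) |>.mp h1
    refine ⟨θ, hθY, ?_, hothers⟩
    have hsum := hcsum ρs i
    have hYsum : ∑ χ' ∈ Y, n χ' i = n θ i := by
      refine Finset.sum_eq_single_of_mem θ hθY fun χ hχY hχθ => ?_
      exact hothers χ (fun h => Finset.disjoint_left.mp hdisj h hχY) hχθ
    rw [← hsum]
    exact hYsum.symm
  have hunion : X ∪ Y = univ := by
    rw [Finset.eq_univ_iff_forall]
    intro χ
    by_contra hχ
    rw [Finset.mem_union, not_or] at hχ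
    obtain ⟨i, hi⟩ := hD0 χ
    obtain ⟨θ, hθY, -, hoth⟩ := hexh i
    exact hi (hoth χ hχ.1 (fun h => hχ.2 (h ▸ hθY)))
  -- supports
  have hsupp : ∀ θ ∈ Y, (univ.filter (fun i => n θ i ≠ 0)).card = e := by
    have hsame : ∀ θ ∈ Y, (univ.filter (fun i => n θ i ≠ 0)).card =
        (univ.filter (fun i => n ρs i ≠ 0)).card := by
      intro θ hθ
      obtain ⟨σ, hσ⟩ := hO ρs θ ((hmem_cls ρs θ).1 hθ)
      apply Finset.card_bij (fun i _ => σ i)
      · intro i hi
        rw [Finset.mem_filter] at hi ⊢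
        refine ⟨Finset.mem_univ _, ?_⟩
        rw [← hσ i]
        exact hi.2
      · intro i _ j _ hij
        exact σ.injective hij
      · intro j hj
        refine ⟨σ.symm j, ?_, by simp⟩
        rw [Finset.mem_filter] at hj ⊢
        refine ⟨Finset.mem_univ _, ?_⟩
        rw [hσ, Equiv.apply_symm_apply]
        exact hj.2
    have htotal : ∑ θ ∈ Y, (univ.filter (fun i => n θ i ≠ 0)).card = p - 1 := by
      have h1 : ∀ θ ∈ Y, (univ.filter (fun i => n θ i ≠ 0)).card =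
          ∑ i, if n θ i ≠ 0 then 1 else 0 := by
        intro θ _
        rw [Finset.card_filter]
      rw [Finset.sum_congr rfl h1, Finset.sum_comm]
      have h2 : ∀ i ∈ (univ : Finset ι), ∑ θ ∈ Y, (if n θ i ≠ 0 then 1 else 0) = 1 := by
        intro i _
        obtain ⟨θ, hθY, hθval, hoth⟩ := hexh i
        rw [Finset.sum_eq_single_of_mem θ hθY]
        · rw [if_pos]
          rw [hθval]; exact hcρs
        · intro χ hχY hχθ
          rw [if_neg]
          push Not
          exact hoth χ (fun h => Finset.disjoint_left.mp hdisj h hχY) hχθ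
      rw [Finset.sum_congr rfl h2, Finset.sum_const, Finset.card_univ, hι]
      simp
    rw [Finset.sum_congr rfl hsame, Finset.sum_const, hYcard, smul_eq_mul, ← het] at htotal
    intro θ hθ
    rw [hsame θ hθ]
    have : t * (univ.filter (fun i => n ρs i ≠ 0)).card = t * e := by rw [htotal]; ring
    exact Nat.eq_of_mul_eq_mul_left ht this
  refine ⟨X, Y, fun χ => - c χ, c ρs, hdisj, hunion, hXcard, hYcard, ?_, ?_, ?_, ?_, hsupp⟩
  · intro χ hχ
    obtain ⟨hne, hval⟩ := hXprop χ hχ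
    refine ⟨?_, fun i => by rw [hval i]; ring⟩
    show - c χ = 1 ∨ - c χ = -1
    rcases hc01 χ with h | h | h
    · exact absurd h hne
    · right; rw [h]
    · left; rw [h]; ring
  · rcases hc01 ρs with h | h | h
    · exact absurd h hcρs
    · left; exact h
    · right; exact h
  · intro θ hθ i
    obtain ⟨θ₀, hθ₀Y, hθ₀val, hoth⟩ := hexh i
    by_cases h : θ = θ₀
    · right; rw [h, hθ₀val]
    · left
      exact hoth θ (fun hX => Finset.disjoint_left.mp hdisj hX hθ) h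
  · intro i
    obtain ⟨θ₀, hθ₀Y, hθ₀val, hoth⟩ := hexh i
    refine ⟨θ₀, hθ₀Y, by rw [hθ₀val]; exact hcρs, fun θ' hθ' hne => ?_⟩
    by_contra hcon
    exact hne (hoth θ' (fun hX => Finset.disjoint_left.mp hdisj hX hθ') hcon)

end Cfsg.Agent.Lib.Helper16_BrauerArith
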