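import Mathlib
import Cfsg.Prelude.Def_Characters
import Cfsg.Prelude.Def_Blocks
import Cfsg.Prelude.Def_Local
import Cfsg.Agent.Lib.Helper78_LocalRing
import Cfsg.Agent.Lib.Helper78_CentralChar
import Cfsg.Agent.Lib.Helper78_Osima
import Cfsg.Agent.Lib.Helper78_CharFacts
import Cfsg.Agent.Lib.Helper78_PRegSum
import Cfsg.Agent.Lib.Helper78_SecondMainChar
import Cfsg.Agent.Lib.Helper78_Deficiency
import Cfsg.Agent.Lib.Helper16_Char
import Cfsg.Agent.Lib.Helper16_PrincipalSection
import Cfsg.Agent.Lib.Helper3_CharComplete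
import Cfsg.Agent.Lib.Helper1_Cores
import Cfsg.Agent.Lib.Helper80_CharBasic

/-!
# Part A of the S0960 / S4441 project (helper78, for helper57)

Local behaviour of the principal block when a Sylow `p`-subgroup `P` has order `p` and
`C_G(P) = P × V` with `V` a `p'`-group:

* `χ ∈ B₀(G)`  ⟹ `χ (x v) = χ x` for `1 ≠ x ∈ P`, `v ∈ V`;
* `χ ∉ B₀(G)`  ⟹ `∑_{v ∈ V} χ (x v) = 0` for `1 ≠ x ∈ P`.

Main statement: `principal_local` (statement verbatim from `pending/helper57/PartA.lean.txt`).
More general building blocks:

* `sum_regInd_mul_eq_zero`: for any `p`-element `x` and `χ ∉ B₀(G)`, the sum of `χ (x c)` over the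
  `p`-regular elements `c` of `C_G(x)` vanishes.
-/

set_option autoImplicit false
set_option linter.unusedSectionVars false

namespace Cfsg.Agent.Lib.Helper78_PartA

open Cfsg Cfsg.Agent.Lib.Helper78_LocalRing Cfsg.Agent.Lib.Helper78_CentralChar
  Cfsg.Agent.Lib.Helper78_Osima Cfsg.Agent.Lib.Helper78_CharFacts
  Cfsg.Agent.Lib.Helper78_PRegSum Cfsg.Agent.Lib.Helper78_SecondMainChar

open scoped ComplexConjugate

/-- A nontrivial element of a subgroup of prime order `p` has order `p`. -/
theorem orderOf_eq_of_card_prime {G : Type*} [Group G] {p : ℕ} (hp : p.Prime) {P : Subgroup G}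
    (hP : Nat.card P = p) {x : G} (hx : x ∈ P) (hx1 : x ≠ 1) : orderOf x = p := by
  have h1 : orderOf x ∣ p := by
    rw [← hP]
    exact Subgroup.orderOf_dvd_natCard P hx
  rcases (Nat.dvd_prime hp).mp h1 with h | h
  · exact absurd (orderOf_eq_one_iff.mp h) hx1
  · exact h

/-- A subgroup of prime order is generated by each of its nontrivial elements. -/
theorem zpowers_eq_of_card_prime {G : Type*} [Group G] {p : ℕ} (hp : p.Prime) {P : Subgroup G}
    (hP : Nat.card P = p) {x : G} (hx : x ∈ P) (hx1 : x ≠ 1) : Subgroup.zpowers x = P := by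
  have hfin : Finite P := Nat.finite_of_card_ne_zero (by rw [hP]; exact hp.ne_zero)
  apply Subgroup.eq_of_le_of_card_ge
  · rw [Subgroup.zpowers_le]
    exact hx
  · rw [Nat.card_zpowers, orderOf_eq_of_card_prime hp hP hx hx1, hP]

/-- For `χ` outside the principal block and a `p`-element `x`, the sum of `χ (x c)` over the
`p`-regular elements `c` of `C_G(x)` vanishes. -/
theorem sum_regInd_mul_eq_zero {G : Type*} [Group G] [Finite G] {p : ℕ} [Fact p.Prime]
    {M : Ideal AlgInt} (hM : IsPModular p M) (x : G) (hx : ∃ k : ℕ, orderOf x = p ^ k)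
    (χ : IrrCharacter G) (hχ : χ ∉ principalBlock M G) :
    ∑ᶠ c : Subgroup.centralizer ({x} : Set G),
      regInd p (Subgroup.centralizer ({x} : Set G)) c * (χ : G → ℂ) (x * (c : G)) = 0 := by
  classical
  have hMp := isPrime_of_isPModular hM
  let _ : Fintype (Subgroup.centralizer ({x} : Set G)) := Fintype.ofFinite _
  rw [finsum_eq_sum_of_fintype]
  have hχc := isIrrCharacter_isClassFunction χ.2
  have hcomm : ∀ c : Subgroup.centralizer ({x} : Set G), x * (c : G) = (c : G) * x :=
    fun c => Subgroup.mem_centralizer_iff.mp c.2 x (Set.mem_singleton x)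
  set ϑ : Subgroup.centralizer ({x} : Set G) → ℂ := fun c => (χ : G → ℂ) (x * (c : G)) with hϑdef
  have hϑ : IsClassFunction (Subgroup.centralizer ({x} : Set G)) ϑ := by
    intro c h
    show (χ : G → ℂ) (x * ((h * c * h⁻¹ : Subgroup.centralizer ({x} : Set G)) : G)) =
      (χ : G → ℂ) (x * (c : G))
    push_cast
    have : x * ((h : G) * (c : G) * (h : G)⁻¹) = (h : G) * (x * (c : G)) * (h : G)⁻¹ := by
      calc x * ((h : G) * (c : G) * (h : G)⁻¹) = (x * (h : G)) * (c : G) * (h : G)⁻¹ := by group
        _ = ((h : G) * x) * (c : G) * (h : G)⁻¹ := by rw [hcomm h]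
        _ = (h : G) * (x * (c : G)) * (h : G)⁻¹ := by group
    rw [this, hχc]
  have hPG : IsPBlock M (principalBlock M G) :=
    ⟨Cfsg.Agent.Lib.Helper80_CharBasic.oneIrr G, rfl⟩
  have hPH : IsPBlock M (principalBlock M (Subgroup.centralizer ({x} : Set G))) :=
    ⟨Cfsg.Agent.Lib.Helper80_CharBasic.oneIrr _, rfl⟩
  have hBχ : IsPBlock M (blockOf M (χ : G → ℂ)) := ⟨χ, rfl⟩
  have hχB : χ ∈ blockOf M (χ : G → ℂ) := mem_blockOf_self hMp χ
  -- the principal block of the centralizer does not induce the block of `χ`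
  have hnot : ¬ IsInducedBlock M (Subgroup.centralizer ({x} : Set G))
      (principalBlock M (Subgroup.centralizer ({x} : Set G))) (blockOf M (χ : G → ℂ)) := by
    intro hind
    have h0 : IsInducedBlock M (Subgroup.centralizer ({x} : Set G))
        (principalBlock M (Subgroup.centralizer ({x} : Set G))) (principalBlock M G) :=
      (third_main hM _ _ (inducedBlockDefined_centralizer hM hx hPH)).mpr rfl
    have := Cfsg.Agent.Lib.Helper78_Deficiency.isInducedBlock_unique hMp hind h0
    rw [← this] at hχ
    exact hχ hχB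
  -- second main theorem: the principal-block part of `ϑ` vanishes on `p`-regular elements
  have hsm : ∀ y : Subgroup.centralizer ({x} : Set G), ¬ p ∣ orderOf y →
      ∑ᶠ ψ ∈ principalBlock M (Subgroup.centralizer ({x} : Set G)),
        classInner ϑ (ψ : Subgroup.centralizer ({x} : Set G) → ℂ) *
          (ψ : Subgroup.centralizer ({x} : Set G) → ℂ) y = 0 := by
    intro y hy
    have := second_main_char hM x hx (blockOf M (χ : G → ℂ)) hBχ χ hχB
      (principalBlock M (Subgroup.centralizer ({x} : Set G))) hPH hnot y hy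
    unfold blockPart at this
    exact this
  -- characters outside the principal block of the centralizer kill the `p`-regular sum
  have hout : ∀ ψ : IrrCharacter (Subgroup.centralizer ({x} : Set G)),
      ψ ∉ principalBlock M (Subgroup.centralizer ({x} : Set G)) →
      ∑ c : Subgroup.centralizer ({x} : Set G),
        regInd p (Subgroup.centralizer ({x} : Set G)) c *
          (ψ : Subgroup.centralizer ({x} : Set G) → ℂ) c = 0 := by
    intro ψ hψ
    have h := omega_regInd_eq_zero hM ψ hψ
    unfold omega at h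
    have h1 := isIrrCharacter_one_ne_zero ψ.2
    rcases div_eq_zero_iff.mp h with h2 | h2
    · exact h2
    · exact absurd h2 h1
  have hsum := Cfsg.Agent.Lib.Helper3_CharComplete.classFunction_eq_sum ϑ hϑ
  have hval : ∀ c : Subgroup.centralizer ({x} : Set G), ϑ c =
      ∑ ψ : IrrCharacter (Subgroup.centralizer ({x} : Set G)),
        classInner ϑ (ψ : Subgroup.centralizer ({x} : Set G) → ℂ) *
          (ψ : Subgroup.centralizer ({x} : Set G) → ℂ) c := by
    intro c
    have := congrFun hsum c
    rw [Finset.sum_apply] at this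
    simp only [Pi.smul_apply, smul_eq_mul] at this
    exact this
  show ∑ c : Subgroup.centralizer ({x} : Set G),
      regInd p (Subgroup.centralizer ({x} : Set G)) c * ϑ c = 0
  calc ∑ c : Subgroup.centralizer ({x} : Set G),
        regInd p (Subgroup.centralizer ({x} : Set G)) c * ϑ c
      = ∑ c : Subgroup.centralizer ({x} : Set G),
          ∑ ψ : IrrCharacter (Subgroup.centralizer ({x} : Set G)),
            classInner ϑ (ψ : Subgroup.centralizer ({x} : Set G) → ℂ) *
              (regInd p (Subgroup.centralizer ({x} : Set G)) c *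
                (ψ : Subgroup.centralizer ({x} : Set G) → ℂ) c) := by
        refine Finset.sum_congr rfl fun c _ => ?_
        rw [hval c, Finset.mul_sum]
        refine Finset.sum_congr rfl fun ψ _ => ?_
        ring
    _ = ∑ ψ : IrrCharacter (Subgroup.centralizer ({x} : Set G)),
          classInner ϑ (ψ : Subgroup.centralizer ({x} : Set G) → ℂ) *
            ∑ c : Subgroup.centralizer ({x} : Set G),
              regInd p (Subgroup.centralizer ({x} : Set G)) c *
                (ψ : Subgroup.centralizer ({x} : Set G) → ℂ) c := by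
        rw [Finset.sum_comm]
        refine Finset.sum_congr rfl fun ψ _ => ?_
        rw [Finset.mul_sum]
    _ = ∑ ψ : IrrCharacter (Subgroup.centralizer ({x} : Set G)),
          if ψ ∈ principalBlock M (Subgroup.centralizer ({x} : Set G)) then
            classInner ϑ (ψ : Subgroup.centralizer ({x} : Set G) → ℂ) *
              ∑ c : Subgroup.centralizer ({x} : Set G),
                regInd p (Subgroup.centralizer ({x} : Set G)) c *
                  (ψ : Subgroup.centralizer ({x} : Set G) → ℂ) c
          else 0 := by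
        refine Finset.sum_congr rfl fun ψ _ => ?_
        split_ifs with hψ
        · rfl
        · rw [hout ψ hψ, mul_zero]
    _ = ∑ c : Subgroup.centralizer ({x} : Set G),
          regInd p (Subgroup.centralizer ({x} : Set G)) c *
            ∑ ψ : IrrCharacter (Subgroup.centralizer ({x} : Set G)),
              if ψ ∈ principalBlock M (Subgroup.centralizer ({x} : Set G)) then
                classInner ϑ (ψ : Subgroup.centralizer ({x} : Set G) → ℂ) *
                  (ψ : Subgroup.centralizer ({x} : Set G) → ℂ) c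
              else 0 := by
        simp_rw [Finset.mul_sum]
        rw [Finset.sum_comm]
        refine Finset.sum_congr rfl fun ψ _ => ?_
        split_ifs with hψ
        · refine Finset.sum_congr rfl fun c _ => ?_
          ring
        · simp
    _ = 0 := by
        refine Finset.sum_eq_zero fun c _ => ?_
        by_cases hc : p ∣ orderOf c
        · rw [regInd_of_sing hc, zero_mul]
        · rw [← Cfsg.Agent.Lib.Helper16_Char.finsum_mem_eq_sum_ite
            (fun ψ => ψ ∈ principalBlock M (Subgroup.centralizer ({x} : Set G)))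
            (fun ψ => classInner ϑ (ψ : Subgroup.centralizer ({x} : Set G) → ℂ) *
              (ψ : Subgroup.centralizer ({x} : Set G) → ℂ) c)]
          have h0 := hsm c hc
          rw [show (∑ᶠ (a : IrrCharacter (Subgroup.centralizer ({x} : Set G)))
              (_ : a ∈ {a | a ∈ principalBlock M (Subgroup.centralizer ({x} : Set G))}),
              classInner ϑ (a : Subgroup.centralizer ({x} : Set G) → ℂ) *
                (a : Subgroup.centralizer ({x} : Set G) → ℂ) c) = 0 from h0, mul_zero]

/-- With `P` of order `p`, `C_G(P) = P V`, `V ≤ C_G(P)` a `p'`-group and `1 ≠ x ∈ P`: an element of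
`C_G(x)` is `p`-regular iff it lies in `V`. -/
theorem pRegular_iff_mem {G : Type*} [Group G] [Finite G] {p : ℕ} [Fact p.Prime]
    (P : Sylow p G) (hP : Nat.card P = p)
    (V : Subgroup G) (hVc : V ≤ Subgroup.centralizer ((P : Subgroup G) : Set G))
    (hVp : (Nat.card V).Coprime p)
    (hC : ∀ c ∈ Subgroup.centralizer ((P : Subgroup G) : Set G),
      ∃ h ∈ (P : Subgroup G), ∃ v ∈ V, c = h * v)
    {x : G} (hx : x ∈ (P : Subgroup G)) (hx1 : x ≠ 1)
    (c : Subgroup.centralizer ({x} : Set G)) : ¬ p ∣ orderOf c ↔ (c : G) ∈ V := by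
  have hp : p.Prime := Fact.out
  have hz := zpowers_eq_of_card_prime hp hP hx hx1
  have hcP : (c : G) ∈ Subgroup.centralizer ((P : Subgroup G) : Set G) := by
    have := centralizer_singleton_le_zpowers x c.2
    rwa [hz] at this
  rw [← Subgroup.orderOf_coe]
  constructor
  · intro hreg
    obtain ⟨h, hh, v, hv, hcv⟩ := hC (c : G) hcP
    have hcomm : Commute h v := by
      have := Subgroup.mem_centralizer_iff.mp (hVc hv) h hh
      exact this
    have hhp : h ^ p = 1 := by
      have h1 : orderOf h ∣ p := by
        rw [← hP]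
        exact Subgroup.orderOf_dvd_natCard (P : Subgroup G) hh
      exact orderOf_dvd_iff_pow_eq_one.mp h1
    have hcp : (c : G) ^ p = v ^ p := by
      rw [hcv, hcomm.mul_pow, hhp, one_mul]
    have hcop : Nat.Coprime p (orderOf (c : G)) :=
      (Nat.Prime.coprime_iff_not_dvd hp).mpr hreg
    obtain ⟨m, hm⟩ := exists_pow_eq_self_of_coprime hcop
    rw [← hm, hcp]
    exact Subgroup.pow_mem V (Subgroup.pow_mem V hv p) m
  · intro hcV hd
    have h1 : orderOf (c : G) ∣ Nat.card V := Subgroup.orderOf_dvd_natCard V hcV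
    have := Nat.Coprime.eq_one_of_dvd hVp.symm (dvd_trans hd h1)
    exact hp.one_lt.ne' this

/-- With `P` of order `p`, `C_G(P) = P V`, `V ≤ C_G(P)` a `p'`-group and `1 ≠ x ∈ P`: `V` lies in
`O_{p'}(C_G(x))`. -/
theorem le_centralizerPPrimeCore {G : Type*} [Group G] [Finite G] {p : ℕ} [Fact p.Prime]
    (P : Sylow p G) (hP : Nat.card P = p)
    (V : Subgroup G) (hVc : V ≤ Subgroup.centralizer ((P : Subgroup G) : Set G))
    (hVp : (Nat.card V).Coprime p)
    (hC : ∀ c ∈ Subgroup.centralizer ((P : Subgroup G) : Set G),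
      ∃ h ∈ (P : Subgroup G), ∃ v ∈ V, c = h * v)
    {x : G} (hx : x ∈ (P : Subgroup G)) (hx1 : x ≠ 1) :
    V ≤ centralizerPPrimeCore p x := by
  have hp : p.Prime := Fact.out
  have hz := zpowers_eq_of_card_prime hp hP hx hx1
  have hVC : V ≤ Subgroup.centralizer ({x} : Set G) := by
    refine le_trans hVc (Subgroup.centralizer_le ?_)
    intro k hk
    rw [Set.mem_singleton_iff] at hk
    rw [hk]
    exact hx
  have hnormal : (V.subgroupOf (Subgroup.centralizer ({x} : Set G))).Normal := by
    constructor
    intro n hn g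
    rw [Subgroup.mem_subgroupOf] at hn ⊢
    have hgP : (g : G) ∈ Subgroup.centralizer ((P : Subgroup G) : Set G) := by
      have := centralizer_singleton_le_zpowers x g.2
      rwa [hz] at this
    obtain ⟨h, hh, v, hv, hgv⟩ := hC (g : G) hgP
    have hw : v * (n : G) * v⁻¹ ∈ V := V.mul_mem (V.mul_mem hv hn) (V.inv_mem hv)
    have hcomm : h * (v * (n : G) * v⁻¹) = (v * (n : G) * v⁻¹) * h :=
      (Subgroup.mem_centralizer_iff.mp (hVc hw) h hh)
    have : ((g * n * g⁻¹ : Subgroup.centralizer ({x} : Set G)) : G) = v * (n : G) * v⁻¹ := by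
      push_cast
      rw [hgv]
      calc h * v * (n : G) * (h * v)⁻¹ = h * (v * (n : G) * v⁻¹) * h⁻¹ := by group
        _ = (v * (n : G) * v⁻¹) * h * h⁻¹ := by rw [hcomm]
        _ = v * (n : G) * v⁻¹ := by group
    rw [this]
    exact hw
  have hcop : (Nat.card (V.subgroupOf (Subgroup.centralizer ({x} : Set G)))).Coprime p := by
    rw [Nat.card_congr (Subgroup.subgroupOfEquivOfLe hVC).toEquiv]
    exact hVp
  have hle := Cfsg.Agent.Lib.Helper1_Cores.le_pPrimeCore hnormal hcop
  intro v hv
  refine ⟨⟨v, hVC hv⟩, hle ?_, rfl⟩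
  rw [Subgroup.mem_subgroupOf]
  exact hv

open Classical in
/-- Part A: local behaviour of the principal block when a Sylow `p`-subgroup `P` has order `p` and
`C_G(P) = P × V` with `V` a `p'`-group. -/
theorem principal_local {G : Type*} [Group G] [Fintype G] (p : ℕ) [Fact p.Prime]
    (M : Ideal Cfsg.AlgInt) (hM : Cfsg.IsPModular p M) (P : Sylow p G) (hP : Nat.card P = p)
    (V : Subgroup G) (hVc : V ≤ Subgroup.centralizer ((P : Subgroup G) : Set G))
    (hVp : (Nat.card V).Coprime p)
    (hC : ∀ c ∈ Subgroup.centralizer ((P : Subgroup G) : Set G),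
      ∃ h ∈ (P : Subgroup G), ∃ v ∈ V, c = h * v)
    (χ : Cfsg.IrrCharacter G) :
    (χ ∈ Cfsg.principalBlock M G → ∀ x ∈ (P : Subgroup G), x ≠ 1 → ∀ v ∈ V,
        (χ : G → ℂ) (x * v) = (χ : G → ℂ) x) ∧
      (χ ∉ Cfsg.principalBlock M G → ∀ x ∈ (P : Subgroup G), x ≠ 1 →
        ∑ v : G, (if v ∈ V then (χ : G → ℂ) (x * v) else 0) = 0) := by
  have hp : p.Prime := Fact.out
  constructor
  · intro hχ x hx hx1 v hv
    have hord : ∃ k : ℕ, orderOf x = p ^ k :=
      ⟨1, by rw [pow_one]; exact orderOf_eq_of_card_prime hp hP hx hx1⟩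
    exact Cfsg.Agent.Lib.Helper16_PrincipalSection.principal_mul_centralizerPPrimeCore hM x hord v
      (le_centralizerPPrimeCore P hP V hVc hVp hC hx hx1 hv) χ hχ
  · intro hχ x hx hx1
    have hord : ∃ k : ℕ, orderOf x = p ^ k :=
      ⟨1, by rw [pow_one]; exact orderOf_eq_of_card_prime hp hP hx hx1⟩
    have hVC : V ≤ Subgroup.centralizer ({x} : Set G) := by
      refine le_trans hVc (Subgroup.centralizer_le ?_)
      intro k hk
      rw [Set.mem_singleton_iff] at hk
      rw [hk]
      exact hx
    have key := sum_regInd_mul_eq_zero hM x hord χ hχ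
    rw [finsum_eq_sum_of_fintype] at key
    refine Eq.trans ?_ key
    have h1 : ∑ v : G, (if v ∈ V then (χ : G → ℂ) (x * v) else 0) =
        ∑ v ∈ Finset.univ.filter (fun v : G => v ∈ Subgroup.centralizer ({x} : Set G)),
          (if v ∈ V then (χ : G → ℂ) (x * v) else 0) := by
      symm
      apply Finset.sum_filter_of_ne
      intro v _ hne
      by_contra hv
      apply hne
      rw [if_neg]
      intro hvV
      exact hv (hVC hvV)
    rw [h1, Finset.sum_subtype (Finset.univ.filter
      (fun v : G => v ∈ Subgroup.centralizer ({x} : Set G)))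
      (p := fun v : G => v ∈ Subgroup.centralizer ({x} : Set G)) (by simp)]
    refine Finset.sum_congr rfl fun c _ => ?_
    have hiff := pRegular_iff_mem P hP V hVc hVp hC hx hx1 c
    by_cases hc : (c : G) ∈ V
    · rw [if_pos hc, regInd_of_reg (hiff.mpr hc), one_mul]
    · rw [if_neg hc, regInd_of_sing (by
        by_contra hnd
        exact hc (hiff.mp hnd)), zero_mul]

end Cfsg.Agent.Lib.Helper78_PartA
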