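import Mathlib
import Cfsg.Prelude.Def_Blocks
import Cfsg.Agent.Lib.Helper25_AbDual
import Cfsg.Agent.Lib.Helper75_CharArith
import Cfsg.Agent.Lib.Helper79_Linear
import Cfsg.Agent.Lib.Helper78_PartA
import Cfsg.Agent.Lib.Helper3_CharBridge

/-!
# Sylow subgroup of prime order: local set-up (helper16)

`P` a Sylow `p`-subgroup of order `p`.

* `exists_compl` : `C_G(P) = P × V` with `V` a `p'`-group (Schur–Zassenhaus);
* `mult χ φ` : the multiplicity of the linear character `φ` of `P` in `χ|_P`; `nn χ φ` the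
  difference with the multiplicity of the trivial character;
* `value_eq`, `value_eq_nn` : `χ h = ∑_φ mult χ φ * φ h`, and `= ∑_φ nn χ φ * φ h` for `h ≠ 1`;
* `nn_eq` : `nn χ φ = p⁻¹ ∑_h χ h * (conj (φ h) - 1)`.
-/

set_option autoImplicit false
set_option linter.unusedSectionVars false

namespace Cfsg.Agent.Lib.Helper16_BrauerSetup

open Cfsg
open scoped ComplexConjugate

variable {G : Type*} [Group G] [Fintype G] {p : ℕ} [hp : Fact p.Prime] (P : Sylow p G)

theorem comm_of_card (hP : Nat.card P = p) : ∀ a b : ↥(P : Subgroup G), a * b = b * a := by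
  have hc : IsCyclic ↥(P : Subgroup G) := isCyclic_of_prime_card hP
  have hm : IsMulCommutative ↥(P : Subgroup G) := IsCyclic.isMulCommutative
  intro a b
  exact hm.is_comm.comm a b

theorem le_centralizer (hP : Nat.card P = p) :
    (P : Subgroup G) ≤ Subgroup.centralizer ((P : Subgroup G) : Set G) := by
  intro a ha
  rw [Subgroup.mem_centralizer_iff]
  intro b hb
  have := comm_of_card P hP ⟨b, hb⟩ ⟨a, ha⟩
  exact congrArg Subtype.val this

/-- `C_G(P) = P × V` with `V` a `p'`-group. -/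
theorem exists_compl (hP : Nat.card P = p) :
    ∃ V : Subgroup G, V ≤ Subgroup.centralizer ((P : Subgroup G) : Set G) ∧
      (Nat.card V).Coprime p ∧
      (∀ c ∈ Subgroup.centralizer ((P : Subgroup G) : Set G),
        ∃ h ∈ (P : Subgroup G), ∃ v ∈ V, c = h * v) ∧
      Nat.card (Subgroup.centralizer ((P : Subgroup G) : Set G)) = p * Nat.card V := by
  classical
  set C := Subgroup.centralizer ((P : Subgroup G) : Set G) with hC
  have hPC : (P : Subgroup G) ≤ C := le_centralizer P hP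
  set Q : Sylow p C := P.subtype hPC with hQ
  have hQcoe : (Q : Subgroup C) = (P : Subgroup G).subgroupOf C := rfl
  have hQcard : Nat.card (Q : Subgroup C) = p := by
    rw [hQcoe]
    rw [Nat.card_congr (Subgroup.subgroupOfEquivOfLe hPC).toEquiv]
    exact hP
  have hnormal : (Q : Subgroup C).Normal := by
    constructor
    intro n hn g
    have hn' : (n : G) ∈ (P : Subgroup G) := Subgroup.mem_subgroupOf.mp hn
    have hcomm : (g : G) * (n : G) = (n : G) * (g : G) :=
      (Subgroup.mem_centralizer_iff.mp g.2 (n : G) hn').symm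
    have : g * n * g⁻¹ = n := by
      apply Subtype.ext
      push_cast
      rw [hcomm, mul_assoc, mul_inv_cancel, mul_one]
    rw [this]
    exact hn
  have hcop : Nat.Coprime (Nat.card (Q : Subgroup C)) (Q : Subgroup C).index :=
    Q.card_coprime_index
  obtain ⟨H, hH⟩ := Subgroup.exists_right_complement'_of_coprime hcop
  have hmul : Nat.card (Q : Subgroup C) * Nat.card H = Nat.card C := hH.card_mul_card
  have hidx : Nat.card H = (Q : Subgroup C).index := by
    have h1 := (Q : Subgroup C).card_mul_index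
    rw [← hmul] at h1
    have hpos : 0 < Nat.card (Q : Subgroup C) := Nat.card_pos
    exact (Nat.eq_of_mul_eq_mul_left hpos h1).symm
  refine ⟨H.map C.subtype, ?_, ?_, ?_, ?_⟩
  · intro v hv
    obtain ⟨w, -, rfl⟩ := Subgroup.mem_map.mp hv
    exact w.2
  · rw [Subgroup.card_map_of_injective C.subtype_injective, hidx]
    rw [hQcard] at hcop
    exact hcop.symm
  · intro c hc
    have hcompl : Subgroup.IsComplement ((Q : Subgroup C) : Set C) (H : Set C) := hH
    obtain ⟨⟨a, b⟩, hab, -⟩ := (Subgroup.isComplement_iff_existsUnique.mp hcompl) ⟨c, hc⟩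
    refine ⟨(a : C), Subgroup.mem_subgroupOf.mp a.2, ((b : C) : G),
      Subgroup.mem_map.mpr ⟨(b : C), b.2, rfl⟩, ?_⟩
    have := congrArg Subtype.val hab
    simpa using this.symm
  · rw [Subgroup.card_map_of_injective C.subtype_injective, ← hmul, hQcard]

section mult

variable [Fintype ↥(P : Subgroup G)]

/-- The restriction of `χ` to `P`. -/
def resP (χ : IrrCharacter G) : ↥(P : Subgroup G) → ℂ := fun h => (χ : G → ℂ) h

theorem exists_mult (χ : IrrCharacter G) (φ : ↥(P : Subgroup G) →* ℂˣ) :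
    ∃ n : ℕ, classInner (resP P χ) (fun h => ((φ h : ℂˣ) : ℂ)) = n :=
  Cfsg.Agent.Lib.Helper75_CharArith.classInner_isCharacter_nat
    (Cfsg.Agent.Lib.Helper75_CharArith.isCharacter_restrict (P : Subgroup G)
      (Cfsg.Agent.Lib.Helper3_CharBridge.isCharacter_of_isIrrCharacter χ.2))
    (Cfsg.Agent.Lib.Helper3_CharBridge.isCharacter_of_isIrrCharacter
      (Cfsg.Agent.Lib.Helper79_Linear.isIrrCharacter_of_hom φ))

/-- The multiplicity of the linear character `φ` of `P` in `χ|_P`. -/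
noncomputable def mult (χ : IrrCharacter G) (φ : ↥(P : Subgroup G) →* ℂˣ) : ℕ :=
  (exists_mult P χ φ).choose

theorem mult_spec (χ : IrrCharacter G) (φ : ↥(P : Subgroup G) →* ℂˣ) :
    classInner (resP P χ) (fun h => ((φ h : ℂˣ) : ℂ)) = mult P χ φ :=
  (exists_mult P χ φ).choose_spec

/-- The multiplicity of `φ` minus the multiplicity of the trivial character. -/
noncomputable def nn (χ : IrrCharacter G) (φ : ↥(P : Subgroup G) →* ℂˣ) : ℤ :=
  (mult P χ φ : ℤ) - mult P χ 1

@[simp] theorem nn_one (χ : IrrCharacter G) : nn P χ 1 = 0 := by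
  unfold nn; ring

variable [Fintype (↥(P : Subgroup G) →* ℂˣ)]

/-- `χ h = ∑_φ mult χ φ * φ h` on `P`. -/
theorem value_eq (hP : Nat.card P = p) (χ : IrrCharacter G) (h : ↥(P : Subgroup G)) :
    (χ : G → ℂ) h = ∑ φ : ↥(P : Subgroup G) →* ℂˣ, (mult P χ φ : ℂ) * ((φ h : ℂˣ) : ℂ) := by
  have := Cfsg.Agent.Lib.Helper25_AbDual.fourier (comm_of_card P hP) (resP P χ) h
  rw [show (χ : G → ℂ) h = resP P χ h from rfl, this]
  refine Finset.sum_congr rfl fun φ _ => ?_
  rw [mult_spec]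

/-- `χ h = ∑_φ nn χ φ * φ h` for `1 ≠ h ∈ P`. -/
theorem value_eq_nn (hP : Nat.card P = p) (χ : IrrCharacter G) (h : ↥(P : Subgroup G))
    (hh : h ≠ 1) :
    (χ : G → ℂ) h = ∑ φ : ↥(P : Subgroup G) →* ℂˣ, (nn P χ φ : ℂ) * ((φ h : ℂˣ) : ℂ) := by
  classical
  rw [value_eq P hP χ h]
  have h0 := Cfsg.Agent.Lib.Helper25_AbDual.sum_hom_apply (comm_of_card P hP) h
  rw [if_neg hh] at h0
  have : ∑ φ : ↥(P : Subgroup G) →* ℂˣ, (nn P χ φ : ℂ) * ((φ h : ℂˣ) : ℂ) =
      ∑ φ : ↥(P : Subgroup G) →* ℂˣ, (mult P χ φ : ℂ) * ((φ h : ℂˣ) : ℂ) -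
        (mult P χ 1 : ℂ) * ∑ φ : ↥(P : Subgroup G) →* ℂˣ, ((φ h : ℂˣ) : ℂ) := by
    rw [Finset.mul_sum, ← Finset.sum_sub_distrib]
    refine Finset.sum_congr rfl fun φ _ => ?_
    unfold nn
    push_cast
    ring
  rw [this, h0, mul_zero, sub_zero]

/-- The degree: `χ 1 = p * mult χ 1 + ∑_φ nn χ φ`. -/
theorem value_one (hP : Nat.card P = p) (χ : IrrCharacter G) :
    (χ : G → ℂ) 1 = (p : ℂ) * (mult P χ 1 : ℂ) +
      ∑ φ : ↥(P : Subgroup G) →* ℂˣ, (nn P χ φ : ℂ) := by
  have h1 := value_eq P hP χ 1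
  simp only [map_one, Units.val_one, mul_one, OneMemClass.coe_one] at h1
  rw [h1]
  have hcard : (Fintype.card (↥(P : Subgroup G) →* ℂˣ) : ℂ) = p := by
    rw [← Nat.card_eq_fintype_card, Cfsg.Agent.Lib.Helper25_AbDual.card_hom (comm_of_card P hP)]
    exact_mod_cast hP
  have : ∑ φ : ↥(P : Subgroup G) →* ℂˣ, (nn P χ φ : ℂ) =
      ∑ φ : ↥(P : Subgroup G) →* ℂˣ, (mult P χ φ : ℂ) -
        ∑ φ : ↥(P : Subgroup G) →* ℂˣ, (mult P χ 1 : ℂ) := by
    rw [← Finset.sum_sub_distrib]
    refine Finset.sum_congr rfl fun φ _ => ?_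
    unfold nn
    push_cast
    ring
  rw [this, Finset.sum_const, Finset.card_univ, nsmul_eq_mul, hcard]
  ring

/-- `nn χ φ = p⁻¹ ∑_h χ h * (conj (φ h) - 1)`. -/
theorem nn_eq (hP : Nat.card P = p) (χ : IrrCharacter G) (φ : ↥(P : Subgroup G) →* ℂˣ) :
    (nn P χ φ : ℂ) = (p : ℂ)⁻¹ *
      ∑ h : ↥(P : Subgroup G), (χ : G → ℂ) h * (conj ((φ h : ℂˣ) : ℂ) - 1) := by
  have h1 := mult_spec P χ φ
  have h2 := mult_spec P χ 1
  unfold classInner at h1 h2
  have hP' : (Nat.card ↥(P : Subgroup G) : ℂ) = p := by exact_mod_cast hP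
  rw [hP'] at h1 h2
  unfold nn
  push_cast
  rw [← h1, ← h2, ← mul_sub, ← Finset.sum_sub_distrib]
  congr 1
  refine Finset.sum_congr rfl fun h _ => ?_
  simp only [resP, MonoidHom.one_apply, Units.val_one, map_one]
  ring

end mult

end Cfsg.Agent.Lib.Helper16_BrauerSetup
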