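import Mathlib
import Cfsg.Prelude.Def_Blocks
import Cfsg.Agent.S1504
import Cfsg.Agent.Lib.Helper25_AbDual
import Cfsg.Agent.Lib.Helper78_PartA
import Cfsg.Agent.Lib.Helper16_BrauerSetup

/-!
# Sylow subgroup of prime order: the automizer (helper16)

`autP P` is the image of `N_G(P)` in `Aut P`; it has order `e = |N_G(P) : C_G(P)|`, acts freely on
`P \ {1}`, and its orbits there are the `G`-conjugacy classes.
-/

set_option autoImplicit false
set_option linter.unusedSectionVars false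

namespace Cfsg.Agent.Lib.Helper16_BrauerAut

open Cfsg Cfsg.Agent.Lib.Helper16_BrauerSetup
open scoped ComplexConjugate

variable {G : Type*} [Group G] [Fintype G] {p : ℕ} [hp : Fact p.Prime] (P : Sylow p G)

/-- The automizer of `P`. -/
def autP : Subgroup (MulAut ↥(P : Subgroup G)) := (P : Subgroup G).normalizerMonoidHom.range

theorem card_autP (e : ℕ)
    (he : (Subgroup.centralizer ((P : Subgroup G) : Set G)).relIndex
      (Subgroup.normalizer ((P : Subgroup G) : Set G)) = e) : Nat.card (autP P) = e := by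
  unfold autP
  rw [← Subgroup.index_ker, Subgroup.normalizerMonoidHom_ker]
  exact he

theorem autP_conj {α : MulAut ↥(P : Subgroup G)} (hα : α ∈ autP P) (h : ↥(P : Subgroup G)) :
    IsConj (h : G) ((α h : ↥(P : Subgroup G)) : G) := by
  obtain ⟨g, rfl⟩ := hα
  rw [isConj_iff]
  exact ⟨(g : G), rfl⟩

/-- A power of a generator. -/
theorem exists_zpow_eq (hP : Nat.card P = p) {h : ↥(P : Subgroup G)} (hh : h ≠ 1)
    (z : ↥(P : Subgroup G)) : ∃ k : ℤ, h ^ k = z := by
  have hh' : (h : G) ≠ 1 := fun hc => hh (Subtype.ext hc)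
  have hz := Cfsg.Agent.Lib.Helper78_PartA.zpowers_eq_of_card_prime hp.out hP h.2 hh'
  have : (z : G) ∈ Subgroup.zpowers (h : G) := by rw [hz]; exact z.2
  obtain ⟨k, hk⟩ := Subgroup.mem_zpowers_iff.mp this
  refine ⟨k, Subtype.ext ?_⟩
  rw [← hk]
  simp

theorem aut_eq_of_apply (hP : Nat.card P = p) {α β : MulAut ↥(P : Subgroup G)}
    {h : ↥(P : Subgroup G)} (hh : h ≠ 1) (hαβ : α h = β h) : α = β := by
  ext z
  obtain ⟨k, rfl⟩ := exists_zpow_eq P hP hh z
  rw [map_zpow, map_zpow, hαβ]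

theorem exists_autP (hP : Nat.card P = p) {h h' : ↥(P : Subgroup G)} (hh : h ≠ 1)
    (hc : IsConj (h : G) (h' : G)) : ∃ α ∈ autP P, α h = h' := by
  obtain ⟨g, hg⟩ := isConj_iff.mp hc
  have hgN : g ∈ Subgroup.normalizer ((P : Subgroup G) : Set G) := by
    have hfin : Finite ((P : Subgroup G) : Set G) := Set.toFinite _
    apply Subgroup.mem_normalizer_fintype
    intro z hz
    obtain ⟨k, hk⟩ := exists_zpow_eq P hP hh ⟨z, hz⟩
    have hz' : z = (h : G) ^ k := by
      have := congrArg Subtype.val hk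
      simpa using this.symm
    rw [hz']
    have : g * (h : G) ^ k * g⁻¹ = (g * (h : G) * g⁻¹) ^ k := by
      rw [conj_zpow]
    rw [this, hg]
    exact Subgroup.zpow_mem _ h'.2 k
  refine ⟨(P : Subgroup G).normalizerMonoidHom ⟨g, hgN⟩, ⟨⟨g, hgN⟩, rfl⟩, ?_⟩
  apply Subtype.ext
  exact hg

/-- Sums over a `G`-conjugacy class in `P` are sums over the automizer. -/
theorem sum_conj_eq_sum_autP (hP : Nat.card P = p) [Fintype ↥(P : Subgroup G)]
    [Fintype (autP P)] {h : ↥(P : Subgroup G)} (hh : h ≠ 1) (F : ↥(P : Subgroup G) → ℂ) :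
    open scoped Classical in
    ∑ h' : ↥(P : Subgroup G), (if IsConj (h : G) (h' : G) then F h' else 0) =
      ∑ α : autP P, F (α.1 h) := by
  classical
  rw [← Finset.sum_filter]
  symm
  apply Finset.sum_bij (fun (α : autP P) _ => α.1 h)
  · intro α _
    exact Finset.mem_filter.mpr ⟨Finset.mem_univ _, autP_conj P α.2 h⟩
  · intro α _ β _ hαβ
    exact Subtype.ext (aut_eq_of_apply P hP hh hαβ)
  · intro h' hh'
    obtain ⟨α, hα, hαh⟩ := exists_autP P hP hh (Finset.mem_filter.mp hh').2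
    exact ⟨⟨α, hα⟩, Finset.mem_univ _, hαh⟩
  · intro α _
    rfl

/-- A nontrivial linear character of `P` is injective. -/
theorem hom_injective (hP : Nat.card P = p) {μ : ↥(P : Subgroup G) →* ℂˣ} (hμ : μ ≠ 1)
    {h : ↥(P : Subgroup G)} (hh : μ h = 1) : h = 1 := by
  by_contra hne
  apply hμ
  ext z
  obtain ⟨k, rfl⟩ := exists_zpow_eq P hP hne z
  rw [map_zpow, hh, one_zpow]
  rfl

/-- Twisting a nontrivial linear character by a nontrivial automorphism changes it. -/
theorem comp_eq_iff (hP : Nat.card P = p) {μ : ↥(P : Subgroup G) →* ℂˣ} (hμ : μ ≠ 1)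
    (α : MulAut ↥(P : Subgroup G)) : μ.comp α.toMonoidHom = μ ↔ α = 1 := by
  constructor
  · intro h
    ext z
    have h1 : μ (α z) = μ z := DFunLike.congr_fun h z
    have h2 : μ (α z * z⁻¹) = 1 := by
      rw [map_mul, h1, map_inv, mul_inv_cancel]
    have h3 := hom_injective P hP hμ h2
    have h4 : α z = z := by
      rw [mul_inv_eq_one] at h3
      exact h3
    rw [h4]
    rfl
  · rintro rfl
    ext z
    rfl

theorem comp_ne_one {μ : ↥(P : Subgroup G) →* ℂˣ} (hμ : μ ≠ 1)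
    (α : MulAut ↥(P : Subgroup G)) : μ.comp α.toMonoidHom ≠ 1 := by
  intro h
  apply hμ
  ext z
  have := DFunLike.congr_fun h (α.symm z)
  simpa using this

/-- The basic character sum: `∑_h (conj (μ h) - 1) (μ (α h) - 1) = p [α = 1] + p`. -/
theorem sum_twist (hP : Nat.card P = p) [Fintype ↥(P : Subgroup G)]
    {μ : ↥(P : Subgroup G) →* ℂˣ} (hμ : μ ≠ 1) (α : MulAut ↥(P : Subgroup G)) :
    open scoped Classical in
    ∑ h : ↥(P : Subgroup G), (conj ((μ h : ℂˣ) : ℂ) - 1) * (((μ (α h) : ℂˣ) : ℂ) - 1) =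
      (if α = 1 then (p : ℂ) else 0) + p := by
  classical
  have hcardP : (Fintype.card ↥(P : Subgroup G) : ℂ) = p := by
    rw [← Nat.card_eq_fintype_card]
    exact_mod_cast hP
  have e1 : ∀ h : ↥(P : Subgroup G),
      (conj ((μ h : ℂˣ) : ℂ) - 1) * (((μ (α h) : ℂˣ) : ℂ) - 1) =
        (((μ⁻¹ * μ.comp α.toMonoidHom) h : ℂˣ) : ℂ) - ((μ⁻¹ h : ℂˣ) : ℂ) -
          (((μ.comp α.toMonoidHom) h : ℂˣ) : ℂ) + 1 := by
    intro h
    rw [Cfsg.Agent.Lib.Helper25_AbDual.conj_hom, MonoidHom.mul_apply, Units.val_mul,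
      MonoidHom.inv_apply, ← map_inv]
    show _ = ((μ h⁻¹ : ℂˣ) : ℂ) * ((μ (α h) : ℂˣ) : ℂ) - _ - ((μ (α h) : ℂˣ) : ℂ) + 1
    ring
  simp_rw [e1]
  rw [Finset.sum_add_distrib, Finset.sum_sub_distrib, Finset.sum_sub_distrib]
  have hinv : μ⁻¹ ≠ 1 := fun h => hμ (Cfsg.Agent.S1504.hom_eq_one_of_inv_eq_one μ h)
  rw [Cfsg.Agent.S1504.sum_units_hom_eq_zero _ hinv,
    Cfsg.Agent.S1504.sum_units_hom_eq_zero _ (comp_ne_one P hμ α)]
  simp only [Finset.sum_const, Finset.card_univ, nsmul_eq_mul, mul_one, sub_zero, hcardP]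
  congr 1
  by_cases hα : α = 1
  · rw [if_pos hα]
    have : μ⁻¹ * μ.comp α.toMonoidHom = 1 := by
      rw [(comp_eq_iff P hP hμ α).mpr hα]
      exact inv_mul_cancel μ
    rw [this]
    simp [hcardP]
  · rw [if_neg hα]
    apply Cfsg.Agent.S1504.sum_units_hom_eq_zero
    intro h
    apply hα
    rw [← comp_eq_iff P hP hμ α]
    exact (inv_mul_eq_one.mp h).symm

end Cfsg.Agent.Lib.Helper16_BrauerAut
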