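import Mathlib
import Cfsg.Prelude.Def_Blocks
import Cfsg.Agent.Lib.Helper78_LocalRing
import Cfsg.Agent.Lib.Helper78_Osima
import Cfsg.Agent.Lib.Helper78_CharFacts
import Cfsg.Agent.Lib.Helper77_WeakOrth
import Cfsg.Agent.Lib.Helper3_CharColumn
import Cfsg.Agent.Lib.Helper3_CharComplete
import Cfsg.Agent.Lib.Helper79_RealOdd
import Cfsg.Agent.Lib.Helper80_CharBasic

/-!
# Blocks do not depend on the maximal ideal (helper82)

Two irreducible characters are *linked* when the `p`-regular part of their inner product,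
`ip0 p χ ψ = ∑_{x p-regular} χ x * conj (ψ x)`, is nonzero.  This relation does not mention any
maximal ideal.  We show that, for every maximal ideal `M` of the algebraic integers containing
`p`, the blocks relative to `M` are exactly the connected components of the linking graph:

* `ip0_eq_zero_of_not_sameBlock`: characters in different `M`-blocks are not linked
  (from weak block orthogonality, `Helper77_WeakOrth`);
* `memLocalRing_blockCoeff_of_closed`: a set of irreducible characters closed under linking has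
  an idempotent with local-integer coefficients (so it is a union of `M`-blocks by the converse of
  Osima's theorem, `Helper78_Osima`);
* `sameBlock_indep`: `SameBlock M χ ψ → SameBlock M' χ ψ` for `p`-modular `M`, `M'`.
-/

set_option autoImplicit false
set_option linter.unusedSectionVars false

namespace Cfsg.Agent.Lib.Helper82_Linking

open Cfsg Cfsg.Agent.Lib.Helper78_LocalRing

open scoped ComplexConjugate

section fin

variable {G : Type*} [Group G] [Fintype G]

/-- The `p`-regular part of the (unnormalised) inner product of two functions. -/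
noncomputable def ip0 (p : ℕ) (χ ψ : G → ℂ) : ℂ :=
  ∑ x : G, if p ∣ orderOf x then 0 else χ x * conj (ψ x)

/-- `∑_{χ ∈ A} χ x * conj (χ y)`. -/
noncomputable def tsum (A : Finset (IrrCharacter G)) (x y : G) : ℂ :=
  ∑ χ ∈ A, (χ : G → ℂ) x * conj ((χ : G → ℂ) y)

theorem tsum_conj (A : Finset (IrrCharacter G)) (x y : G) : conj (tsum A x y) = tsum A y x := by
  unfold tsum
  rw [map_sum]
  refine Finset.sum_congr rfl fun χ _ => ?_
  rw [map_mul, Complex.conj_conj, mul_comm]

/-- First orthogonality relation, unnormalised. -/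
theorem sum_mul_conj_irr (χ ψ : IrrCharacter G) :
    ∑ g : G, (χ : G → ℂ) g * conj ((ψ : G → ℂ) g) = if χ = ψ then (Nat.card G : ℂ) else 0 := by
  have h := (Cfsg.Agent.Lib.Helper78_CharFacts.charFacts (G := G)).orth χ ψ
  unfold classInner at h
  have hG : (Nat.card G : ℂ) ≠ 0 := by
    exact_mod_cast (Nat.card_pos (α := G)).ne'
  by_cases hχψ : χ = ψ
  · rw [if_pos hχψ] at h ⊢
    field_simp at h
    exact h
  · rw [if_neg hχψ] at h ⊢
    rcases mul_eq_zero.mp h with h | h
    · exact absurd (inv_eq_zero.mp h) hG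
    · exact h

/-- If a finite set `B` of irreducible characters satisfies weak orthogonality, then no member of
`B` is linked to a character outside `B`. -/
theorem ip0_eq_zero_of_weak {p : ℕ} (B : Finset (IrrCharacter G))
    (hw : ∀ x y : G, ¬ p ∣ orderOf x → p ∣ orderOf y → tsum B x y = 0)
    (χ ψ : IrrCharacter G) (hχ : χ ∈ B) (hψ : ψ ∉ B) :
    ip0 p (χ : G → ℂ) (ψ : G → ℂ) = 0 := by
  classical
  have hF : ∀ x : G, ∑ χ' ∈ B, ip0 p (χ' : G → ℂ) (ψ : G → ℂ) * conj ((χ' : G → ℂ) x) = 0 := by
    intro x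
    have h1 : ∑ χ' ∈ B, ip0 p (χ' : G → ℂ) (ψ : G → ℂ) * conj ((χ' : G → ℂ) x) =
        ∑ g : G, if p ∣ orderOf g then 0 else tsum B g x * conj ((ψ : G → ℂ) g) := by
      unfold ip0 tsum
      simp_rw [Finset.sum_mul]
      rw [Finset.sum_comm]
      refine Finset.sum_congr rfl fun g _ => ?_
      split_ifs with hg
      · simp
      · refine Finset.sum_congr rfl fun χ' _ => by ring
    rw [h1]
    by_cases hx : p ∣ orderOf x
    · refine Finset.sum_eq_zero fun g _ => ?_
      split_ifs with hg
      · rfl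
      · rw [hw g x hg hx, zero_mul]
    · have h2 : ∀ g : G, (if p ∣ orderOf g then 0 else tsum B g x * conj ((ψ : G → ℂ) g)) =
          tsum B g x * conj ((ψ : G → ℂ) g) := by
        intro g
        split_ifs with hg
        · rw [← tsum_conj B x g, hw x g hx hg, map_zero, zero_mul]
        · rfl
      simp_rw [h2]
      unfold tsum
      simp_rw [Finset.sum_mul]
      rw [Finset.sum_comm]
      refine Finset.sum_eq_zero fun χ' hχ' => ?_
      have h3 : ∑ g : G, (χ' : G → ℂ) g * conj ((χ' : G → ℂ) x) * conj ((ψ : G → ℂ) g) =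
          conj ((χ' : G → ℂ) x) * ∑ g : G, (χ' : G → ℂ) g * conj ((ψ : G → ℂ) g) := by
        rw [Finset.mul_sum]
        refine Finset.sum_congr rfl fun g _ => by ring
      rw [h3, sum_mul_conj_irr, if_neg (by rintro rfl; exact hψ hχ'), mul_zero]
  have h3 : ∑ x : G, (∑ χ' ∈ B, ip0 p (χ' : G → ℂ) (ψ : G → ℂ) * conj ((χ' : G → ℂ) x)) *
      (χ : G → ℂ) x = ip0 p (χ : G → ℂ) (ψ : G → ℂ) * (Nat.card G : ℂ) := by
    simp_rw [Finset.sum_mul]
    rw [Finset.sum_comm]
    rw [Finset.sum_eq_single χ]
    · have h4 : ∀ x : G, ip0 p (χ : G → ℂ) (ψ : G → ℂ) * conj ((χ : G → ℂ) x) * (χ : G → ℂ) x =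
          ip0 p (χ : G → ℂ) (ψ : G → ℂ) * ((χ : G → ℂ) x * conj ((χ : G → ℂ) x)) := by
        intro x; ring
      simp_rw [h4]
      rw [← Finset.mul_sum, sum_mul_conj_irr, if_pos rfl]
    · intro χ' _ hne
      have h4 : ∀ x : G, ip0 p (χ' : G → ℂ) (ψ : G → ℂ) * conj ((χ' : G → ℂ) x) * (χ : G → ℂ) x =
          ip0 p (χ' : G → ℂ) (ψ : G → ℂ) * ((χ : G → ℂ) x * conj ((χ' : G → ℂ) x)) := by
        intro x; ring
      simp_rw [h4]
      rw [← Finset.mul_sum, sum_mul_conj_irr, if_neg (Ne.symm hne), mul_zero]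
    · intro h; exact absurd hχ h
  simp_rw [hF] at h3
  have hG : (Nat.card G : ℂ) ≠ 0 := by
    exact_mod_cast (Nat.card_pos (α := G)).ne'
  simp only [zero_mul, Finset.sum_const_zero] at h3
  rcases mul_eq_zero.mp h3.symm with h | h
  · exact h
  · exact absurd h hG

/-- Characters in different blocks are not linked. -/
theorem ip0_eq_zero_of_not_sameBlock {p : ℕ} {M : Ideal AlgInt} (hM : IsPModular p M)
    (χ ψ : IrrCharacter G) (h : ¬ SameBlock M (χ : G → ℂ) (ψ : G → ℂ)) :
    ip0 p (χ : G → ℂ) (ψ : G → ℂ) = 0 := by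
  classical
  have hMp : M.IsPrime := isPrime_of_isPModular hM
  set B : Finset (IrrCharacter G) :=
    Finset.univ.filter (fun c : IrrCharacter G => SameBlock M (χ : G → ℂ) (c : G → ℂ)) with hBdef
  have hBset : (↑B : Set (IrrCharacter G)) = blockOf M (χ : G → ℂ) := by
    ext c
    simp [hBdef, blockOf]
  have hB : IsPBlock M (↑B : Set (IrrCharacter G)) := ⟨χ, hBset⟩
  apply ip0_eq_zero_of_weak B
  · intro x y hx hy
    have := Cfsg.Agent.Lib.Helper77_WeakOrth.weak_orthogonality_block hM hB x y hx hy
    rw [finsum_mem_coe_finset] at this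
    exact this
  · simp only [hBdef, Finset.mem_filter, Finset.mem_univ, true_and]
    exact sameBlock_refl hMp _
  · simp only [hBdef, Finset.mem_filter, Finset.mem_univ, true_and]
    exact h

/-- elements of different orders are not conjugate -/
theorem orderOf_eq_of_isConj {x y : G} (h : IsConj x y) : orderOf x = orderOf y := by
  obtain ⟨c, hc⟩ := isConj_iff.mp h
  rw [← hc]
  exact (orderOf_injective (MulAut.conj c).toMonoidHom (MulAut.conj c).injective x).symm

/-- A set closed under linking satisfies weak orthogonality. -/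
theorem tsum_eq_zero_of_closed {p : ℕ} (A : Finset (IrrCharacter G))
    (hA : ∀ χ ∈ A, ∀ ψ : IrrCharacter G, ψ ∉ A → ip0 p (χ : G → ℂ) (ψ : G → ℂ) = 0)
    (x y : G) (hx : ¬ p ∣ orderOf x) (hy : p ∣ orderOf y) : tsum A x y = 0 := by
  classical
  -- on `p`-regular elements, `tsum A · y = - tsum Aᶜ · y`
  have hcol : ∀ g : G, ¬ p ∣ orderOf g → tsum A g y = - tsum Aᶜ g y := by
    intro g hg
    have h1 := Cfsg.Agent.Lib.Helper3_CharColumn.column_orthogonality g y
    have hnc : ¬ IsConj g y := by
      intro hc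
      apply hg
      rw [orderOf_eq_of_isConj hc]
      exact hy
    rw [if_neg hnc] at h1
    have h2 : ∑ χ : IrrCharacter G, (χ : G → ℂ) g * conj ((χ : G → ℂ) y) =
        tsum A g y + tsum Aᶜ g y := by
      unfold tsum
      exact (Finset.sum_add_sum_compl A _).symm
    rw [eq_neg_iff_add_eq_zero, ← h2]
    convert h1
  have hS : ∑ g : G, (if p ∣ orderOf g then 0 else tsum A g y * conj (tsum A g y)) = 0 := by
    have h1 : ∀ g : G, (if p ∣ orderOf g then 0 else tsum A g y * conj (tsum A g y)) =
        - ∑ χ ∈ A, ∑ ψ ∈ Aᶜ, (conj ((χ : G → ℂ) y) * (ψ : G → ℂ) y) *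
          (if p ∣ orderOf g then 0 else (χ : G → ℂ) g * conj ((ψ : G → ℂ) g)) := by
      intro g
      split_ifs with hg
      · simp
      · have h2 : conj (tsum A g y) = - conj (tsum Aᶜ g y) := by
          rw [hcol g hg, map_neg]
        rw [h2, mul_neg, neg_inj]
        unfold tsum
        rw [map_sum, Finset.sum_mul]
        refine Finset.sum_congr rfl fun χ _ => ?_
        rw [Finset.mul_sum]
        refine Finset.sum_congr rfl fun ψ _ => ?_
        rw [map_mul, Complex.conj_conj]
        ring
    simp_rw [h1]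
    rw [Finset.sum_neg_distrib, neg_eq_zero, Finset.sum_comm]
    refine Finset.sum_eq_zero fun χ hχ => ?_
    rw [Finset.sum_comm]
    refine Finset.sum_eq_zero fun ψ hψ => ?_
    rw [← Finset.mul_sum]
    have := hA χ hχ ψ (Finset.mem_compl.mp hψ)
    unfold ip0 at this
    rw [this, mul_zero]
  have hS' : ∑ g : G, (if p ∣ orderOf g then (0 : ℝ) else Complex.normSq (tsum A g y)) = 0 := by
    have h1 : ((∑ g : G, (if p ∣ orderOf g then (0 : ℝ) else Complex.normSq (tsum A g y)) : ℝ) : ℂ)
        = 0 := by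
      rw [← hS]
      push_cast
      refine Finset.sum_congr rfl fun g _ => ?_
      split_ifs
      · rfl
      · rw [Complex.mul_conj]
    exact_mod_cast h1
  have hnn : ∀ g ∈ (Finset.univ : Finset G),
      0 ≤ (if p ∣ orderOf g then (0 : ℝ) else Complex.normSq (tsum A g y)) := by
    intro g _
    split_ifs
    · exact le_refl _
    · exact Complex.normSq_nonneg _
  have h := (Finset.sum_eq_zero_iff_of_nonneg hnn).mp hS' x (Finset.mem_univ x)
  rw [if_neg hx] at h
  exact Complex.normSq_eq_zero.mp h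

/-- the sum of the values of a character over a subgroup is `|H|` times a natural number -/
theorem sum_irr_subgroup (χ : IrrCharacter G) (H : Subgroup G) [Fintype H] :
    ∃ m : ℕ, ∑ h : H, (χ : G → ℂ) (h : G) = (Nat.card H : ℂ) * m := by
  obtain ⟨n, σ, -, hσ⟩ := χ.2
  have hH : (Nat.card H : ℂ) ≠ 0 := by
    rw [Nat.cast_ne_zero]; exact Nat.card_pos.ne'
  have : Invertible (Nat.card H : ℂ) := invertibleOfNonzero hH
  have h := Representation.card_inv_mul_sum_char_eq_finrank (σ.comp H.subtype)
  refine ⟨Module.finrank ℂ (Representation.invariants (σ.comp H.subtype)), ?_⟩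
  rw [← h, ← mul_assoc, mul_inv_cancel₀ hH, one_mul, ← hσ]
  rfl

theorem blockCoeff_coe_finset (A : Finset (IrrCharacter G)) (g : G) :
    blockCoeff (↑A : Set (IrrCharacter G)) g = (Nat.card G : ℂ)⁻¹ * tsum A 1 g := by
  unfold blockCoeff tsum
  rw [finsum_mem_coe_finset]

/-- A set of irreducible characters closed under linking has an idempotent with local-integer
coefficients. -/
theorem memLocalRing_blockCoeff_of_closed {p : ℕ} {M : Ideal AlgInt} (hM : IsPModular p M)
    (A : Finset (IrrCharacter G))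
    (hA : ∀ χ ∈ A, ∀ ψ : IrrCharacter G, ψ ∉ A → ip0 p (χ : G → ℂ) (ψ : G → ℂ) = 0) (g : G) :
    MemLocalRing M (blockCoeff (↑A : Set (IrrCharacter G)) g) := by
  classical
  have hp : p.Prime := hM.1
  have : Fact p.Prime := ⟨hp⟩
  have hMp : M.IsPrime := isPrime_of_isPModular hM
  rw [blockCoeff_coe_finset]
  have h1reg : ¬ p ∣ orderOf (1 : G) := by
    rw [orderOf_one]
    exact hp.one_lt.ne' ∘ Nat.dvd_one.mp
  by_cases hg : p ∣ orderOf g
  · rw [tsum_eq_zero_of_closed A hA 1 g h1reg hg, mul_zero]
    exact memLocalRing_zero hMp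
  · obtain ⟨P⟩ := (Sylow.nonempty : Nonempty (Sylow p G))
    have hsing : ∀ h : (P : Subgroup G), h ≠ 1 → p ∣ orderOf (h : G) := by
      intro h hh
      obtain ⟨k, hk⟩ := (IsPGroup.iff_orderOf.mp P.2) h
      rw [Subgroup.orderOf_coe, hk]
      have hk0 : k ≠ 0 := by
        rintro rfl
        rw [pow_zero, orderOf_eq_one_iff] at hk
        exact hh hk
      exact dvd_pow_self p hk0
    have hsum1 : ∑ h : (P : Subgroup G), tsum A (h : G) g = tsum A 1 g := by
      rw [Finset.sum_eq_single (1 : (P : Subgroup G))]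
      · rfl
      · intro h _ hh
        rw [← tsum_conj A g (h : G), tsum_eq_zero_of_closed A hA g (h : G) hg (hsing h hh),
          map_zero]
      · intro h; exact absurd (Finset.mem_univ _) h
    choose m hm using fun χ : IrrCharacter G => sum_irr_subgroup χ (P : Subgroup G)
    have hsum2 : ∑ h : (P : Subgroup G), tsum A (h : G) g =
        (Nat.card (P : Subgroup G) : ℂ) * ∑ χ ∈ A, (m χ : ℂ) * conj ((χ : G → ℂ) g) := by
      unfold tsum
      rw [Finset.sum_comm, Finset.mul_sum]
      refine Finset.sum_congr rfl fun χ _ => ?_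
      rw [← Finset.sum_mul, hm χ]
      ring
    have hidx : ((Nat.card G : ℕ) : ℂ) =
        (Nat.card (P : Subgroup G) : ℂ) * ((P : Subgroup G).index : ℂ) := by
      rw [← Nat.cast_mul, Subgroup.card_mul_index]
    have hPne : (Nat.card (P : Subgroup G) : ℂ) ≠ 0 := by
      rw [Nat.cast_ne_zero]; exact Nat.card_pos.ne'
    have hIne : (((P : Subgroup G).index : ℕ) : ℂ) ≠ 0 := by
      rw [Nat.cast_ne_zero]; exact Subgroup.index_ne_zero_of_finite
    have hval : (Nat.card G : ℂ)⁻¹ * tsum A 1 g =
        (((P : Subgroup G).index : ℕ) : ℂ)⁻¹ *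
          ∑ χ ∈ A, (m χ : ℂ) * conj ((χ : G → ℂ) g) := by
      rw [← hsum1, hsum2, hidx]
      field_simp
    rw [hval]
    apply memLocalRing_mul hMp
    · exact memLocalRing_inv_natCast hM (Sylow.not_dvd_index P)
    · apply memLocalRing_sum hMp
      intro χ _
      apply memLocalRing_mul hMp (memLocalRing_natCast hMp _)
      rw [← Cfsg.Agent.Lib.Helper80_CharBasic.irr_inv χ g]
      exact memLocalRing_algInt hMp
        ⟨(χ : G → ℂ) g⁻¹, Cfsg.Agent.Lib.Helper79_RealOdd.irr_isIntegral χ g⁻¹⟩

end fin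

/-- **Blocks do not depend on the maximal ideal**: two irreducible characters in the same block
relative to one maximal ideal over `p` are in the same block relative to any other. -/
theorem sameBlock_indep {G : Type*} [Group G] [Finite G] {p : ℕ} {M M' : Ideal AlgInt}
    (hM : IsPModular p M) (hM' : IsPModular p M') (χ ψ : IrrCharacter G)
    (h : SameBlock M (χ : G → ℂ) (ψ : G → ℂ)) : SameBlock M' (χ : G → ℂ) (ψ : G → ℂ) := by
  classical
  have := Fintype.ofFinite G
  have hMp : M.IsPrime := isPrime_of_isPModular hM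
  have hMp' : M'.IsPrime := isPrime_of_isPModular hM'
  set link : IrrCharacter G → IrrCharacter G → Prop :=
    fun a b => ip0 p (a : G → ℂ) (b : G → ℂ) ≠ 0 with hlink
  set A : Finset (IrrCharacter G) :=
    Finset.univ.filter (fun b : IrrCharacter G => Relation.ReflTransGen link χ b) with hAdef
  have hA : ∀ a ∈ A, ∀ b : IrrCharacter G, b ∉ A → ip0 p (a : G → ℂ) (b : G → ℂ) = 0 := by
    intro a ha b hb
    by_contra hne
    apply hb
    simp only [hAdef, Finset.mem_filter, Finset.mem_univ, true_and] at ha ⊢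
    exact ha.tail hne
  have hloc := memLocalRing_blockCoeff_of_closed hM A hA
  have hχA : χ ∈ (↑A : Set (IrrCharacter G)) := by
    simp only [hAdef, Finset.coe_filter, Finset.mem_univ, true_and, Set.mem_ofPred_eq]
    exact Relation.ReflTransGen.refl
  have hψA : ψ ∈ (↑A : Set (IrrCharacter G)) :=
    Cfsg.Agent.Lib.Helper78_CharFacts.mem_of_sameBlock_of_memLocalRing_blockCoeff' hMp _ hloc hχA h
  have hchain : Relation.ReflTransGen link χ ψ := by
    simpa [hAdef] using hψA
  clear hψA h
  induction hchain with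
  | refl => exact sameBlock_refl hMp' _
  | tail _ hbc ih =>
    refine sameBlock_trans hMp' ih ?_
    by_contra hns
    exact hbc (ip0_eq_zero_of_not_sameBlock hM' _ _ hns)

/-- `SameBlock` on irreducible characters is the same relation for all maximal ideals over `p`. -/
theorem sameBlock_iff {G : Type*} [Group G] [Finite G] {p : ℕ} {M M' : Ideal AlgInt}
    (hM : IsPModular p M) (hM' : IsPModular p M') (χ ψ : IrrCharacter G) :
    SameBlock M (χ : G → ℂ) (ψ : G → ℂ) ↔ SameBlock M' (χ : G → ℂ) (ψ : G → ℂ) :=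
  ⟨sameBlock_indep hM hM' χ ψ, sameBlock_indep hM' hM χ ψ⟩

end Cfsg.Agent.Lib.Helper82_Linking
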