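import Mathlib
import Cfsg.Prelude.Def_Blocks
import Cfsg.Agent.Lib.Helper3_CharColumn
import Cfsg.Agent.Lib.Helper3_CharComplete
import Cfsg.Agent.Lib.Helper78_PartA
import Cfsg.Agent.Lib.Helper78_SecondMainChar
import Cfsg.Agent.Lib.Helper82_Linking
import Cfsg.Agent.Lib.Helper16_BrauerSetup

/-!
# Sylow subgroup of prime order: the principal block on `P` (helper16)

`K_formula` : for `x, y ∈ P \ {1}`, `∑_{χ ∈ B₀} χ x * conj (χ y) = p` if `x`, `y` are conjugate
and `0` otherwise.
-/

set_option autoImplicit false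
set_option linter.unusedSectionVars false

namespace Cfsg.Agent.Lib.Helper16_BrauerK

open Cfsg Cfsg.Agent.Lib.Helper16_BrauerSetup Cfsg.Agent.Lib.Helper3_CharComplete
open scoped ComplexConjugate

variable {G : Type*} [Group G] [Fintype G] {p : ℕ} [hp : Fact p.Prime] (P : Sylow p G)

/-- `C_G(x) = C_G(P)` for `1 ≠ x ∈ P`. -/
theorem centralizer_singleton_eq (hP : Nat.card P = p) {x : G} (hx : x ∈ (P : Subgroup G))
    (hx1 : x ≠ 1) :
    Subgroup.centralizer ({x} : Set G) = Subgroup.centralizer ((P : Subgroup G) : Set G) := by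
  apply le_antisymm
  · have := Cfsg.Agent.Lib.Helper78_SecondMainChar.centralizer_singleton_le_zpowers x
    rwa [Cfsg.Agent.Lib.Helper78_PartA.zpowers_eq_of_card_prime hp.out hP hx hx1] at this
  · apply Subgroup.centralizer_le
    intro z hz
    rw [Set.mem_singleton_iff.mp hz]
    exact hx

open scoped Classical in
/-- The principal block on `P \ {1}`. -/
theorem K_formula {M : Ideal AlgInt} (hM : IsPModular p M) (hP : Nat.card P = p)
    {x y : G} (hx : x ∈ (P : Subgroup G)) (hy : y ∈ (P : Subgroup G))
    (hx1 : x ≠ 1) (hy1 : y ≠ 1) :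
    ∑ χ : IrrCharacter G, (if χ ∈ principalBlock M G then
        (χ : G → ℂ) x * conj ((χ : G → ℂ) y) else 0) =
      if IsConj x y then (p : ℂ) else 0 := by
  obtain ⟨V, hVc, hVp, hC, hcard⟩ := exists_compl P hP
  have hloc := fun χ => Cfsg.Agent.Lib.Helper78_PartA.principal_local p M hM P hP V hVc hVp hC χ
  have hVpos : (Nat.card V : ℂ) ≠ 0 := by
    rw [Nat.cast_ne_zero]; exact Nat.card_pos.ne'
  -- the inner sums
  have hS : ∀ χ : IrrCharacter G,
      ∑ v : G, (if v ∈ V then (χ : G → ℂ) (y * v) else 0) =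
        if χ ∈ principalBlock M G then (Nat.card V : ℂ) * (χ : G → ℂ) y else 0 := by
    intro χ
    split_ifs with hχ
    · have h1 : ∀ v : G, (if v ∈ V then (χ : G → ℂ) (y * v) else 0) =
          if v ∈ V then (χ : G → ℂ) y else 0 := by
        intro v
        split_ifs with hv
        · exact (hloc χ).1 hχ y hy hy1 v hv
        · rfl
      simp_rw [h1]
      rw [← Finset.sum_filter, Finset.sum_const, nsmul_eq_mul]
      congr 1
      rw [Nat.card_eq_fintype_card, Fintype.card_subtype]
    · exact (hloc χ).2 hχ y hy hy1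
  -- conjugacy of `x` and `y v`
  have hconj : ∀ v ∈ V, IsConj x (y * v) ↔ (v = 1 ∧ IsConj x y) := by
    intro v hv
    constructor
    · intro hc
      have hord := Cfsg.Agent.Lib.Helper82_Linking.orderOf_eq_of_isConj hc
      have hox := Cfsg.Agent.Lib.Helper78_PartA.orderOf_eq_of_card_prime hp.out hP hx hx1
      have hoy := Cfsg.Agent.Lib.Helper78_PartA.orderOf_eq_of_card_prime hp.out hP hy hy1
      have hcomm : Commute y v := Subgroup.mem_centralizer_iff.mp (hVc hv) y hy
      have hov : (orderOf v).Coprime p :=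
        Nat.Coprime.coprime_dvd_left (Subgroup.orderOf_dvd_natCard V hv) hVp
      have hmul : orderOf (y * v) = orderOf y * orderOf v := by
        apply hcomm.orderOf_mul_eq_mul_orderOf_of_coprime
        rw [hoy]
        exact hov.symm
      rw [hox, hmul, hoy] at hord
      have hv1 : orderOf v = 1 := by
        have hppos : 0 < p := hp.out.pos
        have : p * 1 = p * orderOf v := by rw [mul_one]; exact hord
        exact (Nat.eq_of_mul_eq_mul_left hppos this).symm
      have hv1' : v = 1 := orderOf_eq_one_iff.mp hv1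
      refine ⟨hv1', ?_⟩
      rw [hv1', mul_one] at hc
      exact hc
    · rintro ⟨rfl, hc⟩
      rw [mul_one]
      exact hc
  -- double counting
  have hdouble : ∑ χ : IrrCharacter G, (χ : G → ℂ) x *
      conj (∑ v : G, (if v ∈ V then (χ : G → ℂ) (y * v) else 0)) =
      if IsConj x y then (Nat.card (Subgroup.centralizer ({x} : Set G)) : ℂ) else 0 := by
    simp_rw [map_sum, Finset.mul_sum]
    rw [Finset.sum_comm]
    have h2 : ∀ v : G, ∑ χ : IrrCharacter G,
        (χ : G → ℂ) x * conj (if v ∈ V then (χ : G → ℂ) (y * v) else 0) =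
        if v = 1 then (if IsConj x y then
          (Nat.card (Subgroup.centralizer ({x} : Set G)) : ℂ) else 0) else 0 := by
      intro v
      by_cases hv : v ∈ V
      · simp_rw [if_pos hv]
        rw [Cfsg.Agent.Lib.Helper3_CharColumn.column_orthogonality x (y * v)]
        by_cases hv1 : v = 1
        · rw [if_pos hv1, hv1, mul_one]
        · rw [if_neg hv1, if_neg]
          intro hc
          exact hv1 ((hconj v hv).mp hc).1
      · simp_rw [if_neg hv]
        rw [if_neg (fun h1 => hv (by rw [h1]; exact V.one_mem))]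
        simp
    simp_rw [h2]
    rw [Finset.sum_ite_eq' Finset.univ (1 : G)]
    simp
  simp_rw [hS] at hdouble
  have hcardx : (Nat.card (Subgroup.centralizer ({x} : Set G)) : ℂ) = (p : ℂ) * Nat.card V := by
    rw [centralizer_singleton_eq P hP hx hx1, hcard]
    push_cast
    ring
  rw [hcardx] at hdouble
  have h3 : ∑ χ : IrrCharacter G, (χ : G → ℂ) x *
      conj (if χ ∈ principalBlock M G then (Nat.card V : ℂ) * (χ : G → ℂ) y else 0) =
      (Nat.card V : ℂ) * ∑ χ : IrrCharacter G, (if χ ∈ principalBlock M G then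
        (χ : G → ℂ) x * conj ((χ : G → ℂ) y) else 0) := by
    rw [Finset.mul_sum]
    refine Finset.sum_congr rfl fun χ _ => ?_
    split_ifs
    · rw [map_mul, Complex.conj_natCast]
      ring
    · simp
  rw [h3] at hdouble
  have h4 : (Nat.card V : ℂ) * ∑ χ : IrrCharacter G, (if χ ∈ principalBlock M G then
        (χ : G → ℂ) x * conj ((χ : G → ℂ) y) else 0) =
      (Nat.card V : ℂ) * (if IsConj x y then (p : ℂ) else 0) := by
    rw [hdouble]
    split_ifs
    · ring
    · ring
  exact mul_left_cancel₀ hVpos h4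

end Cfsg.Agent.Lib.Helper16_BrauerK
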