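import Mathlib
import Cfsg.Prelude.Def_Blocks
import Cfsg.Agent.Lib.Helper3_CharComplete
import Cfsg.Agent.Lib.Helper25_AbDual
import Cfsg.Agent.Lib.Helper16_BrauerSetup
import Cfsg.Agent.Lib.Helper16_BrauerK
import Cfsg.Agent.Lib.Helper16_BrauerAut

/-!
# Sylow subgroup of prime order: the two norm identities (helper16)

For the principal block `B₀` and the integers `nn χ φ` (multiplicity of `φ` in `χ|_P` minus the
multiplicity of the trivial character):

* `sum_nn_sq` : `∑_{χ ∈ B₀} (nn χ μ)² = e + 1` for `μ ≠ 1`;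
* `sum_rowsum_sq` : `∑_{χ ∈ B₀} (∑_φ nn χ φ)² = e p (p - 1)`.
-/

set_option autoImplicit false
set_option linter.unusedSectionVars false

namespace Cfsg.Agent.Lib.Helper16_BrauerNorm

open Cfsg Cfsg.Agent.Lib.Helper16_BrauerSetup Cfsg.Agent.Lib.Helper16_BrauerK
  Cfsg.Agent.Lib.Helper16_BrauerAut Cfsg.Agent.Lib.Helper3_CharComplete
open scoped ComplexConjugate

variable {G : Type*} [Group G] [Fintype G] {p : ℕ} [hp : Fact p.Prime] (P : Sylow p G)
  {M : Ideal AlgInt} [Fintype ↥(P : Subgroup G)]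

/-- The linear functional `χ ↦ ∑_h χ h * w h`. -/
noncomputable def LL (w : ↥(P : Subgroup G) → ℂ) (χ : IrrCharacter G) : ℂ :=
  ∑ h : ↥(P : Subgroup G), (χ : G → ℂ) h * w h

open scoped Classical in
/-- The Gram form of the principal block on functionals supported on `P \ {1}`. -/
theorem sum_LL_mul_conj (hM : IsPModular p M) (hP : Nat.card P = p) [Fintype (autP P)]
    (w w' : ↥(P : Subgroup G) → ℂ) (hw : w 1 = 0) (hw' : w' 1 = 0) :
    ∑ χ : IrrCharacter G, (if χ ∈ principalBlock M G then LL P w χ * conj (LL P w' χ) else 0) =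
      (p : ℂ) * ∑ α : autP P, ∑ h : ↥(P : Subgroup G), w h * conj (w' (α.1 h)) := by
  -- expand
  have h1 : ∀ χ : IrrCharacter G, LL P w χ * conj (LL P w' χ) =
      ∑ h : ↥(P : Subgroup G), ∑ h' : ↥(P : Subgroup G),
        w h * conj (w' h') * ((χ : G → ℂ) h * conj ((χ : G → ℂ) h')) := by
    intro χ
    unfold LL
    rw [map_sum, Finset.sum_mul_sum]
    refine Finset.sum_congr rfl fun h _ => Finset.sum_congr rfl fun h' _ => ?_
    rw [map_mul]
    ring
  have h2 : ∑ χ : IrrCharacter G,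
      (if χ ∈ principalBlock M G then LL P w χ * conj (LL P w' χ) else 0) =
      ∑ h : ↥(P : Subgroup G), ∑ h' : ↥(P : Subgroup G), w h * conj (w' h') *
        ∑ χ : IrrCharacter G, (if χ ∈ principalBlock M G then
          (χ : G → ℂ) h * conj ((χ : G → ℂ) h') else 0) := by
    have hthis : ∀ χ : IrrCharacter G, (if χ ∈ principalBlock M G then
        LL P w χ * conj (LL P w' χ) else 0) =
        ∑ h : ↥(P : Subgroup G), ∑ h' : ↥(P : Subgroup G),
          w h * conj (w' h') * (if χ ∈ principalBlock M G then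
            (χ : G → ℂ) h * conj ((χ : G → ℂ) h') else 0) := by
      intro χ
      rw [h1 χ]
      split_ifs
      · rfl
      · simp
    calc ∑ χ : IrrCharacter G,
          (if χ ∈ principalBlock M G then LL P w χ * conj (LL P w' χ) else 0)
        = ∑ χ : IrrCharacter G, ∑ h : ↥(P : Subgroup G), ∑ h' : ↥(P : Subgroup G),
          w h * conj (w' h') * (if χ ∈ principalBlock M G then
            (χ : G → ℂ) h * conj ((χ : G → ℂ) h') else 0) :=
          Finset.sum_congr rfl fun χ _ => hthis χ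
      _ = ∑ h : ↥(P : Subgroup G), ∑ χ : IrrCharacter G, ∑ h' : ↥(P : Subgroup G),
          w h * conj (w' h') * (if χ ∈ principalBlock M G then
            (χ : G → ℂ) h * conj ((χ : G → ℂ) h') else 0) := Finset.sum_comm
      _ = ∑ h : ↥(P : Subgroup G), ∑ h' : ↥(P : Subgroup G), ∑ χ : IrrCharacter G,
          w h * conj (w' h') * (if χ ∈ principalBlock M G then
            (χ : G → ℂ) h * conj ((χ : G → ℂ) h') else 0) :=
          Finset.sum_congr rfl fun h _ => Finset.sum_comm
      _ = _ := by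
          refine Finset.sum_congr rfl fun h _ => Finset.sum_congr rfl fun h' _ => ?_
          rw [Finset.mul_sum]
  rw [h2]
  -- evaluate the inner sums
  have h3 : ∀ h : ↥(P : Subgroup G), ∑ h' : ↥(P : Subgroup G), w h * conj (w' h') *
        ∑ χ : IrrCharacter G, (if χ ∈ principalBlock M G then
          (χ : G → ℂ) h * conj ((χ : G → ℂ) h') else 0) =
      (p : ℂ) * ∑ α : autP P, w h * conj (w' (α.1 h)) := by
    intro h
    by_cases hh : h = 1
    · rw [hh, hw]
      simp
    · have hh' : (h : G) ≠ 1 := fun hc => hh (Subtype.ext hc)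
      have h4 : ∀ h' : ↥(P : Subgroup G), w h * conj (w' h') *
          ∑ χ : IrrCharacter G, (if χ ∈ principalBlock M G then
            (χ : G → ℂ) h * conj ((χ : G → ℂ) h') else 0) =
          if IsConj (h : G) (h' : G) then (p : ℂ) * (w h * conj (w' h')) else 0 := by
        intro h'
        by_cases hh1 : h' = 1
        · rw [hh1, hw', map_zero, mul_zero, zero_mul, mul_zero, ite_self]
        · have hh1' : (h' : G) ≠ 1 := fun hc => hh1 (Subtype.ext hc)
          rw [K_formula P hM hP h.2 h'.2 hh' hh1']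
          split_ifs
          · ring
          · ring
      simp_rw [h4]
      rw [sum_conj_eq_sum_autP P hP hh (fun h' => (p : ℂ) * (w h * conj (w' h'))),
        Finset.mul_sum]
  simp_rw [h3]
  rw [← Finset.mul_sum, Finset.sum_comm]

open scoped Classical in
/-- **(A)**: `∑_{χ ∈ B₀} (nn χ μ)² = e + 1`. -/
theorem sum_nn_sq (hM : IsPModular p M) (hP : Nat.card P = p)
    [Fintype (↥(P : Subgroup G) →* ℂˣ)] (e : ℕ)
    (he : (Subgroup.centralizer ((P : Subgroup G) : Set G)).relIndex
      (Subgroup.normalizer ((P : Subgroup G) : Set G)) = e)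
    (μ : ↥(P : Subgroup G) →* ℂˣ) (hμ : μ ≠ 1) :
    ∑ χ : IrrCharacter G, (if χ ∈ principalBlock M G then ((nn P χ μ : ℤ) : ℂ) ^ 2 else 0) =
      (e : ℂ) + 1 := by
  have hfin : Fintype (autP P) := Fintype.ofFinite _
  have hp0 : (p : ℂ) ≠ 0 := by exact_mod_cast hp.out.ne_zero
  set w : ↥(P : Subgroup G) → ℂ := fun h => conj ((μ h : ℂˣ) : ℂ) - 1 with hwdef
  have hw1 : w 1 = 0 := by simp [hwdef]
  have hnn : ∀ χ : IrrCharacter G, ((nn P χ μ : ℤ) : ℂ) ^ 2 =
      (p : ℂ)⁻¹ * (p : ℂ)⁻¹ * (LL P w χ * conj (LL P w χ)) := by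
    intro χ
    have h1 := nn_eq P hP χ μ
    have h2 : conj ((nn P χ μ : ℤ) : ℂ) = ((nn P χ μ : ℤ) : ℂ) := map_intCast (starRingEnd ℂ) _
    have h3 : ((nn P χ μ : ℤ) : ℂ) = (p : ℂ)⁻¹ * LL P w χ := h1
    calc ((nn P χ μ : ℤ) : ℂ) ^ 2 = ((nn P χ μ : ℤ) : ℂ) * conj ((nn P χ μ : ℤ) : ℂ) := by
          rw [h2]; ring
      _ = (p : ℂ)⁻¹ * LL P w χ * conj ((p : ℂ)⁻¹ * LL P w χ) := by rw [h3]
      _ = _ := by
          rw [map_mul, map_inv₀, Complex.conj_natCast]
          ring
  have h5 : ∑ χ : IrrCharacter G,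
      (if χ ∈ principalBlock M G then ((nn P χ μ : ℤ) : ℂ) ^ 2 else 0) =
      (p : ℂ)⁻¹ * (p : ℂ)⁻¹ * ∑ χ : IrrCharacter G,
        (if χ ∈ principalBlock M G then LL P w χ * conj (LL P w χ) else 0) := by
    rw [Finset.mul_sum]
    refine Finset.sum_congr rfl fun χ _ => ?_
    split_ifs
    · exact hnn χ
    · simp
  rw [h5, sum_LL_mul_conj P hM hP w w hw1 hw1]
  have h6 : ∀ α : autP P, ∑ h : ↥(P : Subgroup G), w h * conj (w (α.1 h)) =
      (if α.1 = 1 then (p : ℂ) else 0) + p := by
    intro α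
    rw [← sum_twist P hP hμ α.1]
    refine Finset.sum_congr rfl fun h _ => ?_
    simp only [hwdef, map_sub, map_one, Complex.conj_conj]
  simp_rw [h6]
  rw [Finset.sum_add_distrib, Finset.sum_const, Finset.card_univ, nsmul_eq_mul]
  have h7 : ∑ α : autP P, (if α.1 = 1 then (p : ℂ) else 0) = p := by
    rw [Finset.sum_eq_single (⟨1, (autP P).one_mem⟩ : autP P)]
    · simp
    · intro α _ hα
      rw [if_neg]
      intro h
      exact hα (Subtype.ext h)
    · intro h
      exact absurd (Finset.mem_univ _) h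
  have h8 : (Fintype.card (autP P) : ℂ) = e := by
    rw [← Nat.card_eq_fintype_card, card_autP P e he]
  rw [h7, h8]
  field_simp
  ring

open scoped Classical in
/-- **(B)**: `∑_{χ ∈ B₀} (∑_φ nn χ φ)² = e p (p - 1)`. -/
theorem sum_rowsum_sq (hM : IsPModular p M) (hP : Nat.card P = p)
    [Fintype (↥(P : Subgroup G) →* ℂˣ)] (e : ℕ)
    (he : (Subgroup.centralizer ((P : Subgroup G) : Set G)).relIndex
      (Subgroup.normalizer ((P : Subgroup G) : Set G)) = e) :
    ∑ χ : IrrCharacter G, (if χ ∈ principalBlock M G then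
        (∑ φ : ↥(P : Subgroup G) →* ℂˣ, ((nn P χ φ : ℤ) : ℂ)) ^ 2 else 0) =
      (e : ℂ) * p * ((p : ℂ) - 1) := by
  have hfin : Fintype (autP P) := Fintype.ofFinite _
  have hp0 : (p : ℂ) ≠ 0 := by exact_mod_cast hp.out.ne_zero
  have hcardP : (Fintype.card ↥(P : Subgroup G) : ℂ) = p := by
    rw [← Nat.card_eq_fintype_card]
    exact_mod_cast hP
  set w : ↥(P : Subgroup G) → ℂ := fun h => if h = 1 then 0 else 1 with hwdef
  have hw1 : w 1 = 0 := by simp [hwdef]
  have hwconj : ∀ h, conj (w h) = w h := by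
    intro h
    simp only [hwdef]
    split_ifs <;> simp
  -- the row sum
  have hrow : ∀ χ : IrrCharacter G,
      ∑ φ : ↥(P : Subgroup G) →* ℂˣ, ((nn P χ φ : ℤ) : ℂ) = - LL P w χ := by
    intro χ
    simp_rw [nn_eq P hP χ]
    rw [← Finset.mul_sum, Finset.sum_comm]
    have h1 : ∀ h : ↥(P : Subgroup G), ∑ φ : ↥(P : Subgroup G) →* ℂˣ,
        (χ : G → ℂ) h * (conj ((φ h : ℂˣ) : ℂ) - 1) = - (p : ℂ) * ((χ : G → ℂ) h * w h) := by
      intro h
      rw [← Finset.mul_sum, Finset.sum_sub_distrib, ← map_sum,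
        Cfsg.Agent.Lib.Helper25_AbDual.sum_hom_apply (comm_of_card P hP) h]
      have hc : (Fintype.card (↥(P : Subgroup G) →* ℂˣ) : ℂ) = p := by
        rw [← Nat.card_eq_fintype_card,
          Cfsg.Agent.Lib.Helper25_AbDual.card_hom (comm_of_card P hP)]
        exact_mod_cast hP
      simp only [Finset.sum_const, Finset.card_univ, nsmul_eq_mul, mul_one, hc, hwdef]
      have hP' : (Nat.card ↥(P : Subgroup G) : ℂ) = p := by exact_mod_cast hP
      split_ifs with hh
      · rw [hP', Complex.conj_natCast]; ring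
      · rw [map_zero]; ring
    simp_rw [h1]
    rw [← Finset.mul_sum]
    unfold LL
    field_simp
  have h5 : ∑ χ : IrrCharacter G, (if χ ∈ principalBlock M G then
        (∑ φ : ↥(P : Subgroup G) →* ℂˣ, ((nn P χ φ : ℤ) : ℂ)) ^ 2 else 0) =
      ∑ χ : IrrCharacter G,
        (if χ ∈ principalBlock M G then LL P w χ * conj (LL P w χ) else 0) := by
    refine Finset.sum_congr rfl fun χ _ => ?_
    split_ifs
    · have hreal : conj (LL P w χ) = LL P w χ := by
        have h2 : LL P w χ = - ∑ φ : ↥(P : Subgroup G) →* ℂˣ, ((nn P χ φ : ℤ) : ℂ) := by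
          rw [hrow χ]; ring
        rw [h2, map_neg, map_sum]
        simp only [map_intCast]
      rw [hreal, hrow χ]
      ring
    · rfl
  rw [h5, sum_LL_mul_conj P hM hP w w hw1 hw1]
  have h6 : ∀ α : autP P, ∑ h : ↥(P : Subgroup G), w h * conj (w (α.1 h)) = (p : ℂ) - 1 := by
    intro α
    have h7 : ∀ h : ↥(P : Subgroup G), w h * conj (w (α.1 h)) = 1 - (if h = 1 then 1 else 0) := by
      intro h
      rw [hwconj]
      simp only [hwdef]
      by_cases hh : h = 1
      · rw [if_pos hh, if_pos hh]; ring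
      · rw [if_neg hh, if_neg hh, if_neg]
        · ring
        · intro hc
          apply hh
          have := congrArg α.1.symm hc
          simpa using this
    simp_rw [h7]
    rw [Finset.sum_sub_distrib, Finset.sum_ite_eq' Finset.univ (1 : ↥(P : Subgroup G))]
    simp [hcardP]
  simp_rw [h6]
  have h8 : (Fintype.card (autP P) : ℂ) = e := by
    rw [← Nat.card_eq_fintype_card, card_autP P e he]
  rw [Finset.sum_const, Finset.card_univ, nsmul_eq_mul, h8]
  ring

end Cfsg.Agent.Lib.Helper16_BrauerNorm
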