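import Mathlib
import Cfsg.Prelude.Def_Characters
import Cfsg.Agent.Lib.Helper3_CharEigen

/-!
# Galois action on character values: `σ_m (χ g) = χ (g ^ m)` (helper3).
-/

set_option autoImplicit false
set_option linter.unusedSectionVars false

namespace Cfsg.Agent.Lib.Helper3_CharGaloisAct

open Polynomial
open Cfsg.Agent.Lib.Helper3_CharEigen

section cyc

/-- The `n`-th cyclotomic subfield of `ℂ`. -/
noncomputable def cyc (n : ℕ) : IntermediateField ℚ ℂ :=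
  IntermediateField.adjoin ℚ {b : ℂ | ∃ n' ∈ ({n} : Set ℕ), n' ≠ 0 ∧ b ^ n' = 1}

instance cyc_isCyclotomicExtension (n : ℕ) : IsCyclotomicExtension {n} ℚ (cyc n) :=
  IntermediateField.isCyclotomicExtension_adjoin_of_exists_isPrimitiveRoot {n} ℚ ℂ
    (fun k _ hk0 => ⟨_, Complex.isPrimitiveRoot_exp k hk0⟩)

theorem mem_cyc {n : ℕ} (hn : n ≠ 0) {μ : ℂ} (h : μ ^ n = 1) : μ ∈ cyc n :=
  IntermediateField.subset_adjoin _ _ ⟨n, rfl, hn, h⟩

instance cyc_finiteDimensional (n : ℕ) [NeZero n] : FiniteDimensional ℚ (cyc n) :=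
  IsCyclotomicExtension.finiteDimensional {n} ℚ (cyc n)

instance cyc_isGalois (n : ℕ) [NeZero n] : IsGalois ℚ (cyc n) :=
  IsCyclotomicExtension.isGalois {n} ℚ (cyc n)

/-- Every automorphism of the cyclotomic field raises roots of unity to a fixed power coprime
to `n`. -/
theorem aut_eq_pow (n : ℕ) [NeZero n] (σ : cyc n ≃ₐ[ℚ] cyc n) :
    ∃ m : ℕ, m.Coprime n ∧ ∀ x : cyc n, x ^ n = 1 → σ x = x ^ m := by
  have hζ := IsCyclotomicExtension.zeta_spec n ℚ (cyc n)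
  refine ⟨((hζ.autToPow ℚ σ : (ZMod n)ˣ) : ZMod n).val, ZMod.val_coe_unit_coprime _, ?_⟩
  intro x hx
  obtain ⟨i, -, rfl⟩ := hζ.eq_pow_of_pow_eq_one hx
  rw [map_pow, ← hζ.autToPow_spec ℚ σ, ← pow_mul, ← pow_mul, mul_comm]

/-- For `m` coprime to `n` there is an automorphism of the cyclotomic field raising roots of
unity to the `m`-th power. -/
theorem exists_aut_pow (n : ℕ) [NeZero n] (m : ℕ) (hm : m.Coprime n) :
    ∃ σ : cyc n ≃ₐ[ℚ] cyc n, ∀ x : cyc n, x ^ n = 1 → σ x = x ^ m := by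
  have hirr : Irreducible (cyclotomic n ℚ) := cyclotomic.irreducible_rat (NeZero.pos n)
  have hζ := IsCyclotomicExtension.zeta_spec n ℚ (cyc n)
  set t : (ZMod n)ˣ := ZMod.unitOfCoprime m hm with ht
  set σ := (IsCyclotomicExtension.autEquivPow (cyc n) hirr).symm t with hσ
  refine ⟨σ, ?_⟩
  have h1 : hζ.autToPow ℚ σ = t := by
    have := (IsCyclotomicExtension.autEquivPow (cyc n) hirr).apply_symm_apply t
    rw [← hσ] at this
    rw [← this]
    rfl
  intro x hx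
  obtain ⟨i, -, rfl⟩ := hζ.eq_pow_of_pow_eq_one hx
  have h2 := hζ.autToPow_spec ℚ σ
  rw [h1, ht, ZMod.coe_unitOfCoprime, ZMod.val_natCast] at h2
  have h3 : IsCyclotomicExtension.zeta n ℚ (cyc n) ^ (m % n) =
      IsCyclotomicExtension.zeta n ℚ (cyc n) ^ m := by
    conv_rhs => rw [← Nat.div_add_mod m n, pow_add, pow_mul, hζ.pow_eq_one, one_pow, one_mul]
  rw [map_pow, ← h2, h3, ← pow_mul, ← pow_mul, mul_comm]

end cyc

section chars

variable {G : Type*} [Group G] [Finite G] {V : Type*} [AddCommGroup V] [Module ℂ V]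
  [FiniteDimensional ℂ V] (ρ : Representation ℂ G V)

theorem eig_pow_card {g : G} {μ : ℂ} (hμ : μ ∈ eigSet (ρ g)) : μ ^ Nat.card G = 1 := by
  obtain ⟨k, hk⟩ := orderOf_dvd_natCard g
  rw [hk, pow_mul, eig_pow_orderOf ρ hμ, one_pow]

theorem eig_mem_cyc {g : G} {μ : ℂ} (hμ : μ ∈ eigSet (ρ g)) : μ ∈ cyc (Nat.card G) :=
  mem_cyc Nat.card_pos.ne' (eig_pow_card ρ hμ)

/-- The character value `χ(g)` as an element of the cyclotomic field `ℚ(ζ_{|G|})`. -/
noncomputable def charK (g : G) : cyc (Nat.card G) :=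
  ∑ μ ∈ (eigSet (ρ g)).attach,
    (Module.finrank ℂ (Module.End.eigenspace (ρ g) μ.1) : cyc (Nat.card G)) *
      ⟨μ.1, eig_mem_cyc ρ μ.2⟩

theorem coe_charK (g : G) : ((charK ρ g : cyc (Nat.card G)) : ℂ) = ρ.character g := by
  have hφ : ∀ x : cyc (Nat.card G), (x : ℂ) = algebraMap (cyc (Nat.card G)) ℂ x := fun x => rfl
  have hφμ : ∀ μ : {μ // μ ∈ eigSet (ρ g)},
      algebraMap (cyc (Nat.card G)) ℂ ⟨μ.1, eig_mem_cyc ρ μ.2⟩ = μ.1 := fun μ => rfl
  rw [hφ, charK, map_sum, char_eq_sum ρ g,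
    ← Finset.sum_attach (eigSet (ρ g))
      (fun μ => (Module.finrank ℂ (Module.End.eigenspace (ρ g) μ) : ℂ) * μ)]
  refine Finset.sum_congr rfl (fun μ _ => ?_)
  rw [map_mul, map_natCast, hφμ]

/-- If `σ` raises `|G|`-th roots of unity to the `m`-th power, then `σ(χ(g)) = χ(g ^ m)`. -/
theorem coe_aut_charK (g : G) (σ : cyc (Nat.card G) ≃ₐ[ℚ] cyc (Nat.card G)) (m : ℕ)
    (hσ : ∀ x : cyc (Nat.card G), x ^ Nat.card G = 1 → σ x = x ^ m) :
    ((σ (charK ρ g) : cyc (Nat.card G)) : ℂ) = ρ.character (g ^ m) := by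
  have hφ : ∀ x : cyc (Nat.card G), (x : ℂ) = algebraMap (cyc (Nat.card G)) ℂ x := fun x => rfl
  have hφμ : ∀ μ : {μ // μ ∈ eigSet (ρ g)},
      algebraMap (cyc (Nat.card G)) ℂ ⟨μ.1, eig_mem_cyc ρ μ.2⟩ = μ.1 := fun μ => rfl
  rw [hφ, charK, map_sum, map_sum, char_pow_eq_sum ρ g m,
    ← Finset.sum_attach (eigSet (ρ g))
      (fun μ => (Module.finrank ℂ (Module.End.eigenspace (ρ g) μ) : ℂ) * μ ^ m)]
  refine Finset.sum_congr rfl (fun μ _ => ?_)
  have h1 : (⟨μ.1, eig_mem_cyc ρ μ.2⟩ : cyc (Nat.card G)) ^ Nat.card G = 1 := by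
    apply Subtype.ext
    simp [eig_pow_card ρ μ.2]
  rw [map_mul, map_natCast, hσ _ h1, map_mul, map_natCast, map_pow, hφμ]

/-- If `χ(g)` is rational and `m` is coprime to `|G|`, then `χ(g ^ m) = χ(g)`. -/
theorem char_pow_eq_of_rat (g : G) (q : ℚ) (hq : ρ.character g = (q : ℂ)) (m : ℕ)
    (hm : m.Coprime (Nat.card G)) : ρ.character (g ^ m) = ρ.character g := by
  have : NeZero (Nat.card G) := ⟨Nat.card_pos.ne'⟩
  obtain ⟨σ, hσ⟩ := exists_aut_pow (Nat.card G) m hm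
  rw [← coe_aut_charK ρ g σ m hσ]
  have h1 : charK ρ g = algebraMap ℚ (cyc (Nat.card G)) q := by
    apply Subtype.ext
    rw [coe_charK, hq]
    rfl
  rw [h1, AlgEquiv.commutes, ← h1, coe_charK]

/-- If `χ(g ^ m) = χ(g)` for all `m` coprime to `|G|`, then `χ(g)` is rational. -/
theorem exists_rat_of_forall_pow (g : G)
    (h : ∀ m : ℕ, m.Coprime (Nat.card G) → ρ.character (g ^ m) = ρ.character g) :
    ∃ q : ℚ, ρ.character g = (q : ℂ) := by
  have : NeZero (Nat.card G) := ⟨Nat.card_pos.ne'⟩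
  have hfix : ∀ σ : cyc (Nat.card G) ≃ₐ[ℚ] cyc (Nat.card G), σ (charK ρ g) = charK ρ g := by
    intro σ
    obtain ⟨m, hm, hσ⟩ := aut_eq_pow (Nat.card G) σ
    apply Subtype.ext
    rw [coe_aut_charK ρ g σ m hσ, h m hm, coe_charK]
  have hbot := (IsGalois.mem_bot_iff_fixed (F := ℚ) (charK ρ g)).mpr hfix
  obtain ⟨q, hq⟩ := IntermediateField.mem_bot.mp hbot
  refine ⟨q, ?_⟩
  rw [← coe_charK, ← hq]
  rfl

end chars

end Cfsg.Agent.Lib.Helper3_CharGaloisAct
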