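import Mathlib
import Cfsg.Prelude.Def_Blocks
import Cfsg.Agent.Lib.Helper78_LocalRing
import Cfsg.Agent.Lib.Helper78_CharFacts
import Cfsg.Agent.Lib.Helper82_Linking
import Cfsg.Agent.Lib.Helper75_GalConj
import Cfsg.Agent.Lib.Helper3_CharGaloisAct
import Cfsg.Agent.Lib.Helper79_RealOdd
import Cfsg.Agent.Lib.Helper80_CharBasic

/-!
# Galois stability of blocks (helper82)

* `sameBlock_iff_chain`: two irreducible characters are in the same block iff they are joined by a
  chain of linked characters (`ip0 p a b ≠ 0`).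
* `powIrr m hm χ`: the Galois conjugate `g ↦ χ (g ^ m)` (`m` coprime to `|G|`) as an irreducible
  character; `sameBlock_powIrr`: Galois conjugation preserves `SameBlock`.
* `exists_int_sum_mul_conj`: for a finite set `S` of irreducible characters stable under all
  `powIrr`, the number `∑ χ ∈ S, χ x * conj (χ y)` is a rational integer.
-/

set_option autoImplicit false
set_option linter.unusedSectionVars false

namespace Cfsg.Agent.Lib.Helper82_LinkingGalois

open Cfsg Cfsg.Agent.Lib.Helper78_LocalRing Cfsg.Agent.Lib.Helper82_Linking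
  Cfsg.Agent.Lib.Helper3_CharGaloisAct

open scoped ComplexConjugate

variable {G : Type*} [Group G] [Fintype G]

/-- Two irreducible characters lie in the same block iff they are joined by a chain of linked
characters. -/
theorem sameBlock_iff_chain {p : ℕ} {M : Ideal AlgInt} (hM : IsPModular p M)
    (χ ψ : IrrCharacter G) :
    SameBlock M (χ : G → ℂ) (ψ : G → ℂ) ↔
      Relation.ReflTransGen
        (fun a b : IrrCharacter G => ip0 p (a : G → ℂ) (b : G → ℂ) ≠ 0) χ ψ := by
  classical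
  have hMp : M.IsPrime := isPrime_of_isPModular hM
  set link : IrrCharacter G → IrrCharacter G → Prop :=
    fun a b => ip0 p (a : G → ℂ) (b : G → ℂ) ≠ 0 with hlink
  constructor
  · intro h
    set A : Finset (IrrCharacter G) :=
      Finset.univ.filter (fun b : IrrCharacter G => Relation.ReflTransGen link χ b) with hAdef
    have hA : ∀ a ∈ A, ∀ b : IrrCharacter G, b ∉ A → ip0 p (a : G → ℂ) (b : G → ℂ) = 0 := by
      intro a ha b hb
      by_contra hne
      apply hb
      simp only [hAdef, Finset.mem_filter, Finset.mem_univ, true_and] at ha ⊢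
      exact ha.tail hne
    have hloc := memLocalRing_blockCoeff_of_closed hM A hA
    have hχA : χ ∈ (↑A : Set (IrrCharacter G)) := by
      simp only [hAdef, Finset.coe_filter, Finset.mem_univ, true_and, Set.mem_ofPred_eq]
      exact Relation.ReflTransGen.refl
    have hψA : ψ ∈ (↑A : Set (IrrCharacter G)) :=
      Cfsg.Agent.Lib.Helper78_CharFacts.mem_of_sameBlock_of_memLocalRing_blockCoeff' hMp _ hloc
        hχA h
    simpa [hAdef] using hψA
  · intro hchain
    induction hchain with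
    | refl => exact sameBlock_refl hMp _
    | tail _ hbc ih =>
      refine sameBlock_trans hMp ih ?_
      by_contra hns
      exact hbc (ip0_eq_zero_of_not_sameBlock hM _ _ hns)

/-- The Galois conjugate `g ↦ χ (g ^ m)` of an irreducible character. -/
noncomputable def powIrr (m : ℕ) (hm : m.Coprime (Nat.card G)) (χ : IrrCharacter G) :
    IrrCharacter G :=
  ⟨fun g => (χ : G → ℂ) (g ^ m), Cfsg.Agent.Lib.Helper75_GalConj.isIrrCharacter_powMap χ.2 m hm⟩

@[simp] theorem powIrr_apply (m : ℕ) (hm : m.Coprime (Nat.card G)) (χ : IrrCharacter G) (g : G) :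
    (powIrr m hm χ : G → ℂ) g = (χ : G → ℂ) (g ^ m) := rfl

theorem powIrr_injective (m : ℕ) (hm : m.Coprime (Nat.card G)) :
    Function.Injective (powIrr (G := G) m hm) := by
  intro χ ψ h
  apply Subtype.ext
  funext g
  obtain ⟨g', rfl⟩ := (powCoprime hm.symm).surjective g
  rw [powCoprime_apply]
  exact congrFun (congrArg Subtype.val h) g'

theorem powIrr_oneIrr (m : ℕ) (hm : m.Coprime (Nat.card G)) :
    powIrr m hm (Cfsg.Agent.Lib.Helper80_CharBasic.oneIrr G) =
      Cfsg.Agent.Lib.Helper80_CharBasic.oneIrr G := by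
  apply Subtype.ext
  funext g
  rfl

theorem ip0_powIrr (p : ℕ) (m : ℕ) (hm : m.Coprime (Nat.card G)) (χ ψ : IrrCharacter G) :
    ip0 p (powIrr m hm χ : G → ℂ) (powIrr m hm ψ : G → ℂ) = ip0 p (χ : G → ℂ) (ψ : G → ℂ) := by
  unfold ip0
  refine Fintype.sum_equiv (powCoprime hm.symm) _ _ (fun g => ?_)
  rw [powCoprime_apply]
  have hord : orderOf (g ^ m) = orderOf g := by
    apply Nat.Coprime.orderOf_pow
    exact Nat.Coprime.coprime_dvd_left (orderOf_dvd_natCard g) hm.symm
  rw [hord]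
  rfl

/-- Galois conjugation preserves blocks. -/
theorem sameBlock_powIrr {p : ℕ} {M : Ideal AlgInt} (hM : IsPModular p M) (m : ℕ)
    (hm : m.Coprime (Nat.card G)) (χ ψ : IrrCharacter G)
    (h : SameBlock M (χ : G → ℂ) (ψ : G → ℂ)) :
    SameBlock M (powIrr m hm χ : G → ℂ) (powIrr m hm ψ : G → ℂ) := by
  rw [sameBlock_iff_chain hM] at h ⊢
  induction h with
  | refl => exact Relation.ReflTransGen.refl
  | tail _ hbc ih =>
    refine ih.tail ?_
    show ip0 p _ _ ≠ 0
    rw [ip0_powIrr]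
    exact hbc

/-- Reindexing a sum over a Galois-stable finite set. -/
theorem sum_powIrr {A : Type*} [AddCommMonoid A] (S : Finset (IrrCharacter G)) (m : ℕ)
    (hm : m.Coprime (Nat.card G)) (hS : ∀ χ ∈ S, powIrr m hm χ ∈ S) (f : IrrCharacter G → A) :
    ∑ χ ∈ S, f (powIrr m hm χ) = ∑ χ ∈ S, f χ := by
  classical
  have himg : Finset.image (powIrr m hm) S = S := by
    apply Finset.eq_of_subset_of_card_le
    · intro χ hχ
      obtain ⟨χ', hχ', rfl⟩ := Finset.mem_image.mp hχ
      exact hS χ' hχ'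
    · rw [Finset.card_image_of_injective S (powIrr_injective m hm)]
  conv_rhs => rw [← himg]
  rw [Finset.sum_image]
  intro a _ b _ hab
  exact powIrr_injective m hm hab

/-- The values of an irreducible character in the cyclotomic field. -/
noncomputable def chK (χ : IrrCharacter G) (g : G) : cyc (Nat.card G) :=
  charK (Classical.choose (Classical.choose_spec χ.2)) g

theorem coe_chK (χ : IrrCharacter G) (g : G) :
    ((chK χ g : cyc (Nat.card G)) : ℂ) = (χ : G → ℂ) g := by
  rw [chK, coe_charK]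
  exact congrFun (Classical.choose_spec (Classical.choose_spec χ.2)).2 g

theorem coe_aut_chK (χ : IrrCharacter G) (g : G)
    (σ : cyc (Nat.card G) ≃ₐ[ℚ] cyc (Nat.card G)) (m : ℕ)
    (hσ : ∀ x : cyc (Nat.card G), x ^ Nat.card G = 1 → σ x = x ^ m) :
    ((σ (chK χ g) : cyc (Nat.card G)) : ℂ) = (χ : G → ℂ) (g ^ m) := by
  rw [chK, coe_aut_charK _ g σ m hσ]
  exact congrFun (Classical.choose_spec (Classical.choose_spec χ.2)).2 (g ^ m)

/-- For a Galois-stable finite set `S` of irreducible characters, `∑ χ ∈ S, χ x * conj (χ y)` is a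
rational integer. -/
theorem exists_int_sum_mul_conj (S : Finset (IrrCharacter G))
    (hS : ∀ (m : ℕ) (hm : m.Coprime (Nat.card G)), ∀ χ ∈ S, powIrr m hm χ ∈ S) (x y : G) :
    ∃ z : ℤ, ∑ χ ∈ S, (χ : G → ℂ) x * conj ((χ : G → ℂ) y) = (z : ℂ) := by
  classical
  have : NeZero (Nat.card G) := ⟨Nat.card_pos.ne'⟩
  have hinv : ∀ χ : IrrCharacter G, conj ((χ : G → ℂ) y) = (χ : G → ℂ) y⁻¹ := fun χ =>
    (Cfsg.Agent.Lib.Helper80_CharBasic.irr_inv χ y).symm
  simp_rw [hinv]
  set L : cyc (Nat.card G) := ∑ χ ∈ S, chK χ x * chK χ y⁻¹ with hL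
  have hφ : ∀ z : cyc (Nat.card G), (z : ℂ) = algebraMap (cyc (Nat.card G)) ℂ z := fun z => rfl
  have hLc : ((L : cyc (Nat.card G)) : ℂ) = ∑ χ ∈ S, (χ : G → ℂ) x * (χ : G → ℂ) y⁻¹ := by
    rw [hφ, hL, map_sum]
    refine Finset.sum_congr rfl fun χ _ => ?_
    rw [map_mul, ← hφ, ← hφ, coe_chK, coe_chK]
  have hfix : ∀ σ : cyc (Nat.card G) ≃ₐ[ℚ] cyc (Nat.card G), σ L = L := by
    intro σ
    obtain ⟨m, hm, hσ⟩ := aut_eq_pow (Nat.card G) σ
    apply Subtype.ext
    rw [hLc, hφ, hL, map_sum, map_sum]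
    have h1 : ∀ χ ∈ S, algebraMap (cyc (Nat.card G)) ℂ (σ (chK χ x * chK χ y⁻¹)) =
        (powIrr m hm χ : G → ℂ) x * (powIrr m hm χ : G → ℂ) y⁻¹ := by
      intro χ _
      rw [map_mul, map_mul, ← hφ, ← hφ, coe_aut_chK χ x σ m hσ, coe_aut_chK χ y⁻¹ σ m hσ]
      rfl
    rw [Finset.sum_congr rfl h1]
    exact sum_powIrr S m hm (hS m hm) (fun χ => (χ : G → ℂ) x * (χ : G → ℂ) y⁻¹)
  have hbot := (IsGalois.mem_bot_iff_fixed (F := ℚ) L).mpr hfix
  obtain ⟨q, hq⟩ := IntermediateField.mem_bot.mp hbot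
  have hq' : ∑ χ ∈ S, (χ : G → ℂ) x * (χ : G → ℂ) y⁻¹ = (q : ℂ) := by
    rw [← hLc, ← hq]
    rfl
  have hint : IsIntegral ℤ (∑ χ ∈ S, (χ : G → ℂ) x * (χ : G → ℂ) y⁻¹) := by
    refine IsIntegral.sum _ fun χ _ => ?_
    exact (Cfsg.Agent.Lib.Helper79_RealOdd.irr_isIntegral χ x).mul
      (Cfsg.Agent.Lib.Helper79_RealOdd.irr_isIntegral χ y⁻¹)
  rw [hq'] at hint ⊢
  have hint' : IsIntegral ℤ q := by
    have : (q : ℂ) = algebraMap ℚ ℂ q := rfl
    rw [this] at hint
    exact (isIntegral_algebraMap_iff (algebraMap ℚ ℂ).injective).mp hint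
  obtain ⟨z, hz⟩ := IsIntegrallyClosed.isIntegral_iff.mp hint'
  refine ⟨z, ?_⟩
  rw [← hz]
  simp

end Cfsg.Agent.Lib.Helper82_LinkingGalois
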