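import Mathlib
import Cfsg.Prelude.Def_Blocks
import Cfsg.Agent.Lib.Helper3_CharComplete
import Cfsg.Agent.Lib.Helper25_AbDual
import Cfsg.Agent.Lib.Helper78_PartA
import Cfsg.Agent.Lib.Helper80_CharBasic
import Cfsg.Agent.Lib.Helper82_LinkingGalois
import Cfsg.Agent.Lib.Helper16_BrauerArith
import Cfsg.Agent.Lib.Helper16_BrauerSetup
import Cfsg.Agent.Lib.Helper16_BrauerK
import Cfsg.Agent.Lib.Helper16_BrauerAut
import Cfsg.Agent.Lib.Helper16_BrauerNorm
import Cfsg.Agent.Lib.Helper16_BrauerGal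

/-!
# Brauer's theorem for a Sylow subgroup of prime order: the structure of the principal block
(helper16)

`CTHyp` is the trace hypothesis delivered by the lattice argument (helper57); from it and block
orthogonality, `brauer_structure` splits the principal block into `e` non-exceptional characters
(`nn χ φ = -ε_χ` for all `φ ≠ 1`) and `t = (p - 1) / e` exceptional ones (`nn θ φ ∈ {0, ε}`, with
disjoint supports of size `e` covering the nontrivial `φ`).
-/

set_option autoImplicit false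
set_option linter.unusedSectionVars false

namespace Cfsg.Agent.Lib.Helper16_BrauerMain

open Cfsg Cfsg.Agent.Lib.Helper16_BrauerSetup Cfsg.Agent.Lib.Helper16_BrauerK
  Cfsg.Agent.Lib.Helper16_BrauerAut Cfsg.Agent.Lib.Helper16_BrauerNorm
  Cfsg.Agent.Lib.Helper16_BrauerGal Cfsg.Agent.Lib.Helper3_CharComplete
open scoped ComplexConjugate

/-- The trace hypothesis supplied by the lattice argument: for a suitable group `Γ` of exponents
(the Galois group of `ℚ_p(ζ_n)/ℚ_p`), a multiple of every `Γ`-orbit sum of a character constant on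
the cosets `x V` takes a constant value in `{0, 1, -1}` on `P \ {1}`. -/
def CTHyp (G : Type*) [Group G] [Fintype G] (p : ℕ) (P : Sylow p G) : Prop :=
  ∃ Γ : Set ℕ, 1 ∈ Γ ∧ (∀ k ∈ Γ, k.Coprime (Nat.card G)) ∧ (∀ k ∈ Γ, ∀ l ∈ Γ, k * l ∈ Γ) ∧
    (∀ k ∈ Γ, ∃ l ∈ Γ, k * l ≡ 1 [MOD Nat.card G]) ∧
    ∀ χ : IrrCharacter G,
      (∀ x ∈ (P : Subgroup G), x ≠ 1 →
        ∀ v ∈ Subgroup.centralizer ((P : Subgroup G) : Set G), ¬ p ∣ orderOf v →
          (χ : G → ℂ) (x * v) = (χ : G → ℂ) x) →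
      ∃ (m : ℕ) (δ : ℤ), 0 < m ∧ (δ = 0 ∨ δ = 1 ∨ δ = -1) ∧
        ∀ x ∈ (P : Subgroup G), x ≠ 1 →
          (m : ℂ) * ∑ᶠ χ' ∈ {χ' : IrrCharacter G |
              ∃ k ∈ Γ, ∀ g, (χ' : G → ℂ) g = (χ : G → ℂ) (g ^ k)}, (χ' : G → ℂ) x = (δ : ℂ)

variable {G : Type*} [Group G] [Fintype G] {p : ℕ} [hp : Fact p.Prime] (P : Sylow p G)
  {M : Ideal AlgInt}

/-- Members of the principal block are constant on `x V`. -/
theorem principal_const (hM : IsPModular p M) (hP : Nat.card P = p) (χ : IrrCharacter G)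
    (hχ : χ ∈ principalBlock M G) :
    ∀ x ∈ (P : Subgroup G), x ≠ 1 →
      ∀ v ∈ Subgroup.centralizer ((P : Subgroup G) : Set G), ¬ p ∣ orderOf v →
        (χ : G → ℂ) (x * v) = (χ : G → ℂ) x := by
  obtain ⟨V, hVc, hVp, hC, -⟩ := exists_compl P hP
  intro x hx hx1 v hv hreg
  have hvx : v ∈ Subgroup.centralizer ({x} : Set G) := by
    rw [centralizer_singleton_eq P hP hx hx1]
    exact hv
  have hvV : v ∈ V := by
    have := (Cfsg.Agent.Lib.Helper78_PartA.pRegular_iff_mem P hP V hVc hVp hC hx hx1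
      ⟨v, hvx⟩).mp (by rwa [← Subgroup.orderOf_coe])
    exact this
  exact (Cfsg.Agent.Lib.Helper78_PartA.principal_local p M hM P hP V hVc hVp hC χ).1 hχ x hx hx1
    v hvV

/-- The principal block is stable under the power maps. -/
theorem principal_twist (hM : IsPModular p M) {k : ℕ} (hk : k.Coprime (Nat.card G))
    {χ χ' : IrrCharacter G} (hχ : χ ∈ principalBlock M G)
    (h : ∀ g, (χ' : G → ℂ) g = (χ : G → ℂ) (g ^ k)) : χ' ∈ principalBlock M G := by
  have h1 : χ' = Cfsg.Agent.Lib.Helper82_LinkingGalois.powIrr k hk χ := by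
    apply Subtype.ext
    funext g
    exact h g
  have h2 := Cfsg.Agent.Lib.Helper82_LinkingGalois.sameBlock_powIrr hM k hk
    (Cfsg.Agent.Lib.Helper80_CharBasic.oneIrr G) χ hχ
  rw [Cfsg.Agent.Lib.Helper82_LinkingGalois.powIrr_oneIrr] at h2
  rw [h1]
  exact h2

section structure_thm

variable [Fintype ↥(P : Subgroup G)] [Fintype (↥(P : Subgroup G) →* ℂˣ)]

open scoped Classical in
/-- Sums over the principal block as a subtype. -/
theorem sum_subtype_block (B : Set (IrrCharacter G)) (f : IrrCharacter G → ℂ) :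
    ∑ χ : {χ : IrrCharacter G // χ ∈ B}, f χ.1 =
      ∑ χ : IrrCharacter G, (if χ ∈ B then f χ else 0) := by
  rw [← Finset.sum_filter]
  exact (Finset.sum_subtype (Finset.univ.filter (· ∈ B)) (by simp) f).symm

open scoped Classical in
/-- Sums over the nontrivial linear characters. -/
theorem sum_subtype_ne_one {A : Type*} [AddCommMonoid A] (f : (↥(P : Subgroup G) →* ℂˣ) → A)
    (hf : f 1 = 0) :
    ∑ i : {φ : ↥(P : Subgroup G) →* ℂˣ // φ ≠ 1}, f i.1 =
      ∑ φ : ↥(P : Subgroup G) →* ℂˣ, f φ := by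
  have h1 : ∑ φ : ↥(P : Subgroup G) →* ℂˣ, f φ =
      ∑ φ : ↥(P : Subgroup G) →* ℂˣ, (if φ ≠ 1 then f φ else 0) := by
    refine Finset.sum_congr rfl fun φ _ => ?_
    split_ifs with h
    · rfl
    · push Not at h
      rw [h, hf]
  rw [h1, ← Finset.sum_filter]
  exact (Finset.sum_subtype (Finset.univ.filter (· ≠ (1 : ↥(P : Subgroup G) →* ℂˣ)))
    (by simp) f).symm

open scoped Classical in
theorem card_ne_one (hP : Nat.card P = p) :
    Fintype.card {φ : ↥(P : Subgroup G) →* ℂˣ // φ ≠ 1} = p - 1 := by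
  rw [Fintype.card_subtype, Finset.filter_ne' Finset.univ (1 : ↥(P : Subgroup G) →* ℂˣ),
    Finset.card_erase_of_mem (Finset.mem_univ _), Finset.card_univ,
    ← Nat.card_eq_fintype_card, Cfsg.Agent.Lib.Helper25_AbDual.card_hom (comm_of_card P hP), hP]

/-- `e` divides `p - 1`. -/
theorem e_dvd (hP : Nat.card P = p) (e : ℕ)
    (he : (Subgroup.centralizer ((P : Subgroup G) : Set G)).relIndex
      (Subgroup.normalizer ((P : Subgroup G) : Set G)) = e) : e ∣ p - 1 := by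
  have hc : IsCyclic ↥(P : Subgroup G) := isCyclic_of_prime_card hP
  have h1 : Nat.card (MulAut ↥(P : Subgroup G)) = p - 1 := by
    rw [hc.card_mulAut, hP, Nat.totient_prime hp.out]
  rw [← card_autP P e he, ← h1]
  exact Subgroup.card_subgroup_dvd_card _

open scoped Classical in
/-- **Structure of the principal block** for a Sylow subgroup of prime order, from `CTHyp`. -/
theorem brauer_structure (hM : IsPModular p M) (hP : Nat.card P = p) (e : ℕ)
    (he : (Subgroup.centralizer ((P : Subgroup G) : Set G)).relIndex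
      (Subgroup.normalizer ((P : Subgroup G) : Set G)) = e)
    (hCT : CTHyp G p P) :
    ∃ (X Y : Finset (IrrCharacter G)) (εX : IrrCharacter G → ℤ) (ε : ℤ),
      (∀ χ, χ ∈ principalBlock M G ↔ χ ∈ X ∨ χ ∈ Y) ∧ Disjoint X Y ∧ X.card = e ∧
      e * Y.card = p - 1 ∧
      (∀ χ ∈ X, (εX χ = 1 ∨ εX χ = -1) ∧
        ∀ φ : ↥(P : Subgroup G) →* ℂˣ, φ ≠ 1 → nn P χ φ = - εX χ) ∧
      (ε = 1 ∨ ε = -1) ∧
      (∀ θ ∈ Y, ∀ φ : ↥(P : Subgroup G) →* ℂˣ, φ ≠ 1 → nn P θ φ = 0 ∨ nn P θ φ = ε) ∧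
      (∀ φ : ↥(P : Subgroup G) →* ℂˣ, φ ≠ 1 →
        ∃ θ ∈ Y, nn P θ φ ≠ 0 ∧ ∀ θ' ∈ Y, nn P θ' φ ≠ 0 → θ' = θ) ∧
      (∀ θ ∈ Y, (Finset.univ.filter
        (fun φ : ↥(P : Subgroup G) →* ℂˣ => nn P θ φ ≠ 0)).card = e) := by
  obtain ⟨Γ, hΓ1, hΓcop, hΓmul, hΓinv, hΓ⟩ := hCT
  have hppos : 0 < p := hp.out.pos
  have hp0 : (p : ℂ) ≠ 0 := by exact_mod_cast hp.out.ne_zero
  -- numerology
  obtain ⟨t, ht⟩ := e_dvd P hP e he
  have hp1 : 0 < p - 1 := by have := hp.out.two_le; omega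
  have hepos : 0 < e := by
    rcases Nat.eq_zero_or_pos e with h | h
    · rw [h, zero_mul] at ht; omega
    · exact h
  have htpos : 0 < t := by
    rcases Nat.eq_zero_or_pos t with h | h
    · rw [h, mul_zero] at ht; omega
    · exact h
  -- the block as a type, and the equivalence relation
  set B := principalBlock M G with hBdef
  let r : Setoid {χ : IrrCharacter G // χ ∈ B} :=
    { r := fun χ χ' => ∃ k ∈ Γ, ∀ g, (χ'.1 : G → ℂ) g = (χ.1 : G → ℂ) (g ^ k)
      iseqv :=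
        { refl := fun χ => ⟨1, hΓ1, fun g => by rw [pow_one]⟩
          symm := by
            rintro χ χ' ⟨k, hk, h⟩
            obtain ⟨l, hl, hkl⟩ := hΓinv k hk
            refine ⟨l, hl, fun g => ?_⟩
            rw [h (g ^ l), pow_pow_eq_self' hkl]
          trans := by
            rintro χ χ' χ'' ⟨k, hk, h⟩ ⟨l, hl, h'⟩
            refine ⟨l * k, hΓmul l hl k hk, fun g => ?_⟩
            rw [h' g, h (g ^ l), pow_mul] } }
  have hr : ∀ χ χ' : {χ : IrrCharacter G // χ ∈ B},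
      r χ χ' ↔ ∃ k ∈ Γ, ∀ g, (χ'.1 : G → ℂ) g = (χ.1 : G → ℂ) (g ^ k) := fun _ _ => Iff.rfl
  set n : {χ : IrrCharacter G // χ ∈ B} → {φ : ↥(P : Subgroup G) →* ℂˣ // φ ≠ 1} → ℤ :=
    fun χ i => nn P χ.1 i.1 with hndef
  -- (A)
  have hA : ∀ i, ∑ χ, n χ i ^ 2 = (e : ℤ) + 1 := by
    intro i
    have h1 := sum_nn_sq P hM hP e he i.1 i.2
    rw [← sum_subtype_block B (fun χ => ((nn P χ i.1 : ℤ) : ℂ) ^ 2)] at h1
    have h2 : ((∑ χ, n χ i ^ 2 : ℤ) : ℂ) = ((e : ℤ) + 1 : ℤ) := by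
      push_cast
      rw [← h1]
    exact_mod_cast h2
  -- (B)
  have hB : ∑ χ, (∑ i, n χ i) ^ 2 = ((e * p * (p - 1) : ℕ) : ℤ) := by
    have h1 := sum_rowsum_sq P hM hP e he
    rw [← sum_subtype_block B (fun χ =>
      (∑ φ : ↥(P : Subgroup G) →* ℂˣ, ((nn P χ φ : ℤ) : ℂ)) ^ 2)] at h1
    have h3 : ∀ χ : {χ : IrrCharacter G // χ ∈ B},
        ∑ i, ((n χ i : ℤ) : ℂ) = ∑ φ : ↥(P : Subgroup G) →* ℂˣ, ((nn P χ.1 φ : ℤ) : ℂ) := by
      intro χ
      rw [← sum_subtype_ne_one P (fun φ => ((nn P χ.1 φ : ℤ) : ℂ)) (by simp)]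
    have h2 : ((∑ χ, (∑ i, n χ i) ^ 2 : ℤ) : ℂ) = (((e * p * (p - 1) : ℕ) : ℤ) : ℂ) := by
      push_cast
      simp_rw [h3]
      rw [h1]
      have : ((p - 1 : ℕ) : ℂ) = (p : ℂ) - 1 := by
        rw [Nat.cast_sub hp.out.one_le, Nat.cast_one]
      rw [this]
    exact_mod_cast h2
  -- (O)
  have hO : ∀ χ χ', r χ χ' → ∃ σ : Equiv.Perm {φ : ↥(P : Subgroup G) →* ℂˣ // φ ≠ 1},
      ∀ i, n χ' i = n χ (σ i) := by
    rintro χ χ' ⟨k, hk, h⟩
    obtain ⟨l, hl, hkl⟩ := hΓinv k hk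
    refine ⟨powPerm P hP hkl, fun i => ?_⟩
    exact nn_twist P hkl h i.1
  -- (D0)
  have hD0 : ∀ χ : {χ : IrrCharacter G // χ ∈ B}, ∃ i, n χ i ≠ 0 := by
    intro χ
    by_contra hcon
    push Not at hcon
    obtain ⟨h, hh1, hh0⟩ := exists_value_ne_zero P hM hP χ.1 χ.2
    apply hh0
    rw [value_eq_nn P hP χ.1 h hh1]
    refine Finset.sum_eq_zero fun φ _ => ?_
    by_cases hφ : φ = 1
    · rw [hφ, nn_one]; simp
    · have := hcon ⟨φ, hφ⟩
      simp only [hndef] at this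
      rw [this]; simp
  -- (CT)
  have hCT' : ∀ χ : {χ : IrrCharacter G // χ ∈ B}, ∃ c : ℤ, (c = 0 ∨ c = 1 ∨ c = -1) ∧
      ∀ i, ∑ χ' ∈ Finset.univ.filter (fun χ' => r χ χ'), n χ' i = c := by
    intro χ
    obtain ⟨m, δ, hm, hδ, hval⟩ := hΓ χ.1 (principal_const P hM hP χ.1 χ.2)
    have hmC : (m : ℂ) ≠ 0 := by exact_mod_cast hm.ne'
    -- the orbit as a finset
    have horbit : ∀ f : IrrCharacter G → ℂ,
        ∑ᶠ χ' ∈ {χ' : IrrCharacter G |
          ∃ k ∈ Γ, ∀ g, (χ' : G → ℂ) g = (χ.1 : G → ℂ) (g ^ k)}, f χ' =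
        ∑ χ' ∈ Finset.univ.filter (fun χ' => r χ χ'), f χ'.1 := by
      intro f
      have hset : {χ' : IrrCharacter G |
          ∃ k ∈ Γ, ∀ g, (χ' : G → ℂ) g = (χ.1 : G → ℂ) (g ^ k)} =
          ↑((Finset.univ.filter (fun χ' => r χ χ')).map
            ⟨Subtype.val, Subtype.val_injective⟩) := by
        ext χ'
        simp only [Set.mem_ofPred_eq, Finset.coe_map, Function.Embedding.coeFn_mk, Set.mem_image,
          Finset.mem_coe, Finset.mem_filter, Finset.mem_univ, true_and]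
        constructor
        · rintro ⟨k, hk, h⟩
          exact ⟨⟨χ', principal_twist hM (hΓcop k hk) χ.2 h⟩, ⟨k, hk, h⟩, rfl⟩
        · rintro ⟨χ'', ⟨k, hk, h⟩, rfl⟩
          exact ⟨k, hk, h⟩
      rw [hset, finsum_mem_coe_finset, Finset.sum_map]
      rfl
    have hkey : ∀ i : {φ : ↥(P : Subgroup G) →* ℂˣ // φ ≠ 1},
        (m : ℤ) * ∑ χ' ∈ Finset.univ.filter (fun χ' => r χ χ'), n χ' i = -δ := by
      intro i
      have h1 : ((∑ χ' ∈ Finset.univ.filter (fun χ' => r χ χ'), n χ' i : ℤ) : ℂ) =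
          (p : ℂ)⁻¹ * ∑ h : ↥(P : Subgroup G),
            (∑ χ' ∈ Finset.univ.filter (fun χ' => r χ χ'), (χ'.1 : G → ℂ) h) *
              (conj ((i.1 h : ℂˣ) : ℂ) - 1) := by
        push_cast
        simp only [hndef]
        simp_rw [nn_eq P hP]
        rw [← Finset.mul_sum, Finset.sum_comm]
        congr 1
        refine Finset.sum_congr rfl fun h _ => ?_
        rw [Finset.sum_mul]
      have h2 : ∀ h : ↥(P : Subgroup G),
          (m : ℂ) * ((∑ χ' ∈ Finset.univ.filter (fun χ' => r χ χ'), (χ'.1 : G → ℂ) h) *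
              (conj ((i.1 h : ℂˣ) : ℂ) - 1)) = (δ : ℂ) * (conj ((i.1 h : ℂˣ) : ℂ) - 1) := by
        intro h
        by_cases hh : h = 1
        · rw [hh]; simp
        · have hh' : (h : G) ≠ 1 := fun hc => hh (Subtype.ext hc)
          have := hval (h : G) h.2 hh'
          rw [horbit (fun χ' => (χ' : G → ℂ) (h : G))] at this
          rw [← mul_assoc, this]
      have h3 : ∑ h : ↥(P : Subgroup G), (conj ((i.1 h : ℂˣ) : ℂ) - 1) = - (p : ℂ) := by
        rw [Finset.sum_sub_distrib, ← map_sum,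
          Cfsg.Agent.S1504.sum_units_hom_eq_zero i.1 i.2, map_zero]
        simp only [Finset.sum_const, Finset.card_univ, nsmul_eq_mul, mul_one]
        rw [← Nat.card_eq_fintype_card, hP]
        ring
      have h4 : ((m : ℤ) * ∑ χ' ∈ Finset.univ.filter (fun χ' => r χ χ'), n χ' i : ℤ) =
          ((-δ : ℤ) : ℂ) := by
        rw [Int.cast_mul, h1]
        rw [show ((m : ℤ) : ℂ) = (m : ℂ) by simp]
        rw [mul_left_comm, Finset.mul_sum]
        simp_rw [h2]
        rw [← Finset.mul_sum, h3]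
        push_cast
        field_simp
      exact_mod_cast h4
    have hiota : Nonempty {φ : ↥(P : Subgroup G) →* ℂˣ // φ ≠ 1} := by
      rw [← Fintype.card_pos_iff, card_ne_one P hP]
      exact hp1
    refine ⟨-δ, ?_, fun i => ?_⟩
    · rcases hδ with h | h | h
      · left; rw [h]; ring
      · right; right; rw [h]
      · right; left; rw [h]; ring
    · have hk := hkey i
      set c := ∑ χ' ∈ Finset.univ.filter (fun χ' => r χ χ'), n χ' i with hc
      have hm' : (1 : ℤ) ≤ m := by exact_mod_cast hm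
      rcases hδ with h | h | h
      · rw [h] at hk ⊢
        have : (m : ℤ) * c = 0 := by rw [hk]; ring
        rcases mul_eq_zero.mp this with h0 | h0
        · omega
        · rw [h0]; ring
      · rw [h] at hk ⊢
        have hc1 : c < 0 := by
          by_contra hcon
          push Not at hcon
          nlinarith
        have hc2 : c ≥ -1 := by
          by_contra hcon
          push Not at hcon
          nlinarith
        omega
      · rw [h] at hk ⊢
        have hc1 : c > 0 := by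
          by_contra hcon
          push Not at hcon
          nlinarith
        have hc2 : c ≤ 1 := by
          by_contra hcon
          push Not at hcon
          nlinarith
        omega
  -- the arithmetic
  obtain ⟨X, Y, εX, ε, hdisj, hunion, hXc, hYc, hXp, hε, hYp, hYu, hYs⟩ :=
    Cfsg.Agent.Lib.Helper16_BrauerArith.main r n p e t hepos htpos ht.symm (card_ne_one P hP)
      hA hB hO hCT' hD0
  -- translation back to `IrrCharacter G`
  let emb : {χ : IrrCharacter G // χ ∈ B} ↪ IrrCharacter G :=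
    ⟨Subtype.val, Subtype.val_injective⟩
  have hmemX : ∀ χ : IrrCharacter G, χ ∈ X.map emb ↔ ∃ h : χ ∈ B, (⟨χ, h⟩ : {χ // χ ∈ B}) ∈ X := by
    intro χ
    rw [Finset.mem_map]
    constructor
    · rintro ⟨x, hx, rfl⟩
      exact ⟨x.2, hx⟩
    · rintro ⟨h, hx⟩
      exact ⟨⟨χ, h⟩, hx, rfl⟩
  have hmemY : ∀ χ : IrrCharacter G, χ ∈ Y.map emb ↔ ∃ h : χ ∈ B, (⟨χ, h⟩ : {χ // χ ∈ B}) ∈ Y := by
    intro χ
    rw [Finset.mem_map]
    constructor
    · rintro ⟨x, hx, rfl⟩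
      exact ⟨x.2, hx⟩
    · rintro ⟨h, hx⟩
      exact ⟨⟨χ, h⟩, hx, rfl⟩
  refine ⟨X.map emb, Y.map emb, fun χ => if h : χ ∈ B then εX ⟨χ, h⟩ else 0, ε,
    ?_, ?_, ?_, ?_, ?_, hε, ?_, ?_, ?_⟩
  · intro χ
    constructor
    · intro h
      have : (⟨χ, h⟩ : {χ // χ ∈ B}) ∈ X ∪ Y := by rw [hunion]; exact Finset.mem_univ _
      rcases Finset.mem_union.mp this with h1 | h1
      · left; exact (hmemX χ).mpr ⟨h, h1⟩
      · right; exact (hmemY χ).mpr ⟨h, h1⟩
    · rintro (h | h)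
      · exact ((hmemX χ).mp h).1
      · exact ((hmemY χ).mp h).1
  · exact (Finset.disjoint_map emb).mpr hdisj
  · rw [Finset.card_map]; exact hXc
  · rw [Finset.card_map, hYc]; exact ht.symm
  · intro χ hχ
    obtain ⟨h, hx⟩ := (hmemX χ).mp hχ
    obtain ⟨h1, h2⟩ := hXp ⟨χ, h⟩ hx
    simp only [dif_pos h]
    exact ⟨h1, fun φ hφ => h2 ⟨φ, hφ⟩⟩
  · intro θ hθ φ hφ
    obtain ⟨h, hy⟩ := (hmemY θ).mp hθ
    exact hYp ⟨θ, h⟩ hy ⟨φ, hφ⟩
  · intro φ hφ
    obtain ⟨θ, hθY, hθne, hθu⟩ := hYu ⟨φ, hφ⟩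
    refine ⟨θ.1, (hmemY θ.1).mpr ⟨θ.2, hθY⟩, hθne, fun θ' hθ' hne => ?_⟩
    obtain ⟨h, hy⟩ := (hmemY θ').mp hθ'
    have := hθu ⟨θ', h⟩ hy hne
    exact congrArg Subtype.val this
  · intro θ hθ
    obtain ⟨h, hy⟩ := (hmemY θ).mp hθ
    rw [← hYs ⟨θ, h⟩ hy]
    have hset : Finset.univ.filter (fun φ : ↥(P : Subgroup G) →* ℂˣ => nn P θ φ ≠ 0) =
        (Finset.univ.filter (fun i : {φ : ↥(P : Subgroup G) →* ℂˣ // φ ≠ 1} =>
          n ⟨θ, h⟩ i ≠ 0)).map ⟨Subtype.val, Subtype.val_injective⟩ := by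
      ext φ
      simp only [Finset.mem_filter, Finset.mem_univ, true_and, Finset.mem_map,
        Function.Embedding.coeFn_mk]
      constructor
      · intro hne
        have hφ : φ ≠ 1 := by
          rintro rfl
          exact hne (nn_one P θ)
        exact ⟨⟨φ, hφ⟩, hne, rfl⟩
      · rintro ⟨i, hi, rfl⟩
        exact hi
    rw [hset, Finset.card_map]


end structure_thm

end Cfsg.Agent.Lib.Helper16_BrauerMain
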