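import Mathlib
import Cfsg.Prelude.Def_Blocks
import Cfsg.Agent.Lib.Helper3_CharComplete
import Cfsg.Agent.Lib.Helper25_AbDual
import Cfsg.Agent.Lib.Helper80_CharBasic
import Cfsg.Agent.Lib.Helper16_BlockOrth
import Cfsg.Agent.Lib.Helper16_BrauerSetup
import Cfsg.Agent.Lib.Helper16_BrauerMain

/-!
# Brauer's theorem for a Sylow subgroup of prime order: the two statements (helper16)

`card_and_degrees` (statement S0960) and `values` (statement S4441), both from the trace hypothesis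
`Helper16_BrauerMain.CTHyp`.
-/

set_option autoImplicit false
set_option linter.unusedSectionVars false

namespace Cfsg.Agent.Lib.Helper16_BrauerFinal

open Cfsg Cfsg.Agent.Lib.Helper16_BrauerSetup Cfsg.Agent.Lib.Helper16_BrauerMain
  Cfsg.Agent.Lib.Helper3_CharComplete
open scoped ComplexConjugate

variable {G : Type*} [Group G] [Fintype G] {p : ℕ} [hp : Fact p.Prime] (P : Sylow p G)
  {M : Ideal AlgInt}

/-- The degree as an integer. -/
theorem charDegree_cast (χ : IrrCharacter G) :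
    ((charDegree (χ : G → ℂ) : ℕ) : ℂ) = (χ : G → ℂ) 1 := by
  obtain ⟨n, -, hn⟩ := Cfsg.Agent.Lib.Helper80_CharBasic.irr_apply_one χ
  unfold charDegree
  rw [hn]
  simp

section

variable [Fintype ↥(P : Subgroup G)] [Fintype (↥(P : Subgroup G) →* ℂˣ)]

/-- The degree in terms of the multiplicities. -/
theorem degree_eq (hP : Nat.card P = p) (χ : IrrCharacter G) :
    ((charDegree (χ : G → ℂ) : ℕ) : ℤ) = (p : ℤ) * (mult P χ 1 : ℤ) +
      ∑ φ : ↥(P : Subgroup G) →* ℂˣ, nn P χ φ := by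
  have h1 := value_one P hP χ
  rw [← charDegree_cast χ] at h1
  have h2 : (((charDegree (χ : G → ℂ) : ℕ) : ℤ) : ℂ) = (((p : ℤ) * (mult P χ 1 : ℤ) +
      ∑ φ : ↥(P : Subgroup G) →* ℂˣ, nn P χ φ : ℤ) : ℂ) := by
    push_cast
    exact h1
  exact_mod_cast h2

open scoped Classical in
/-- Degree of a non-exceptional character. -/
theorem degree_X (hP : Nat.card P = p) (χ : IrrCharacter G) (ε : ℤ)
    (h : ∀ φ : ↥(P : Subgroup G) →* ℂˣ, φ ≠ 1 → nn P χ φ = - ε) :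
    ((charDegree (χ : G → ℂ) : ℕ) : ℤ) ≡ ε [ZMOD p] := by
  rw [degree_eq P hP χ]
  have h1 : ∑ φ : ↥(P : Subgroup G) →* ℂˣ, nn P χ φ = - ((p : ℤ) - 1) * ε := by
    rw [← sum_subtype_ne_one P (fun φ => nn P χ φ) (nn_one P χ)]
    rw [Finset.sum_congr rfl (fun i _ => h i.1 i.2), Finset.sum_const, Finset.card_univ,
      card_ne_one P hP, nsmul_eq_mul, Nat.cast_sub hp.out.one_le]
    push_cast
    ring
  rw [h1]
  have : (p : ℤ) * (mult P χ 1 : ℤ) + -((p : ℤ) - 1) * ε = ε + p * ((mult P χ 1 : ℤ) - ε) := by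
    ring
  rw [this]
  exact (Int.modEq_add_fac_self).symm.symm

end

section

variable [Fintype ↥(P : Subgroup G)] [Fintype (↥(P : Subgroup G) →* ℂˣ)]

open scoped Classical in
/-- Row sum of an exceptional character. -/
theorem rowsum_Y (θ : IrrCharacter G) (ε : ℤ) (e : ℕ)
    (h : ∀ φ : ↥(P : Subgroup G) →* ℂˣ, φ ≠ 1 → nn P θ φ = 0 ∨ nn P θ φ = ε)
    (hc : (Finset.univ.filter (fun φ : ↥(P : Subgroup G) →* ℂˣ => nn P θ φ ≠ 0)).card = e) :
    ∑ φ : ↥(P : Subgroup G) →* ℂˣ, nn P θ φ = ε * e := by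
  have h1 : ∑ φ : ↥(P : Subgroup G) →* ℂˣ, nn P θ φ =
      ∑ φ ∈ Finset.univ.filter (fun φ : ↥(P : Subgroup G) →* ℂˣ => nn P θ φ ≠ 0), nn P θ φ := by
    rw [Finset.sum_filter]
    refine Finset.sum_congr rfl fun φ _ => ?_
    split_ifs with h0
    · rfl
    · push Not at h0
      exact h0
  rw [h1]
  have h2 : ∀ φ ∈ Finset.univ.filter (fun φ : ↥(P : Subgroup G) →* ℂˣ => nn P θ φ ≠ 0),
      nn P θ φ = ε := by
    intro φ hφ
    have hne : nn P θ φ ≠ 0 := (Finset.mem_filter.mp hφ).2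
    have hφ1 : φ ≠ 1 := by
      rintro rfl
      exact hne (nn_one P θ)
    rcases h φ hφ1 with h3 | h3
    · exact absurd h3 hne
    · exact h3
  rw [Finset.sum_congr rfl h2, Finset.sum_const, hc, nsmul_eq_mul]
  ring

/-- Degree of an exceptional character. -/
theorem degree_Y (hP : Nat.card P = p) (θ : IrrCharacter G) (ε : ℤ) (e : ℕ)
    (h : ∀ φ : ↥(P : Subgroup G) →* ℂˣ, φ ≠ 1 → nn P θ φ = 0 ∨ nn P θ φ = ε)
    (hc : open scoped Classical in
      (Finset.univ.filter (fun φ : ↥(P : Subgroup G) →* ℂˣ => nn P θ φ ≠ 0)).card = e) :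
    ((charDegree (θ : G → ℂ) : ℕ) : ℤ) ≡ ε * e [ZMOD p] := by
  rw [degree_eq P hP θ, rowsum_Y P θ ε e h hc]
  have : (p : ℤ) * (mult P θ 1 : ℤ) + ε * e = ε * e + p * (mult P θ 1 : ℤ) := by ring
  rw [this]
  exact (Int.modEq_add_fac_self).symm.symm

/-- Values of a non-exceptional character on `P \ {1}`. -/
theorem value_X (hP : Nat.card P = p) (χ : IrrCharacter G) (ε : ℤ)
    (h : ∀ φ : ↥(P : Subgroup G) →* ℂˣ, φ ≠ 1 → nn P χ φ = - ε)
    (x : ↥(P : Subgroup G)) (hx : x ≠ 1) : (χ : G → ℂ) x = (ε : ℂ) := by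
  classical
  rw [value_eq_nn P hP χ x hx]
  have h1 : ∀ φ : ↥(P : Subgroup G) →* ℂˣ, ((nn P χ φ : ℤ) : ℂ) * ((φ x : ℂˣ) : ℂ) =
      - (ε : ℂ) * ((φ x : ℂˣ) : ℂ) + (if φ = 1 then (ε : ℂ) else 0) := by
    intro φ
    by_cases hφ : φ = 1
    · rw [if_pos hφ, hφ, nn_one]
      simp
    · rw [if_neg hφ, h φ hφ]
      push_cast
      ring
  simp_rw [h1]
  rw [Finset.sum_add_distrib, ← Finset.mul_sum,
    Cfsg.Agent.Lib.Helper25_AbDual.sum_hom_apply (comm_of_card P hP) x, if_neg hx,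
    Finset.sum_ite_eq' Finset.univ (1 : ↥(P : Subgroup G) →* ℂˣ)]
  simp

end

section

variable [Fintype ↥(P : Subgroup G)] [Fintype (↥(P : Subgroup G) →* ℂˣ)]

open scoped Classical in
/-- Fourier coefficients on `P`. -/
theorem fourier_coeff (hP : Nat.card P = p) (c : (↥(P : Subgroup G) →* ℂˣ) → ℂ)
    (φ : ↥(P : Subgroup G) →* ℂˣ) :
    ∑ h : ↥(P : Subgroup G), (∑ ψ : ↥(P : Subgroup G) →* ℂˣ, c ψ * ((ψ h : ℂˣ) : ℂ)) *
      conj ((φ h : ℂˣ) : ℂ) = (p : ℂ) * c φ := by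
  have hcardP : (Fintype.card ↥(P : Subgroup G) : ℂ) = p := by
    rw [← Nat.card_eq_fintype_card]
    exact_mod_cast hP
  simp_rw [Finset.sum_mul]
  rw [Finset.sum_comm]
  have h1 : ∀ ψ : ↥(P : Subgroup G) →* ℂˣ,
      ∑ h : ↥(P : Subgroup G), c ψ * ((ψ h : ℂˣ) : ℂ) * conj ((φ h : ℂˣ) : ℂ) =
        if ψ = φ then (p : ℂ) * c ψ else 0 := by
    intro ψ
    have h2 : ∀ h : ↥(P : Subgroup G), c ψ * ((ψ h : ℂˣ) : ℂ) * conj ((φ h : ℂˣ) : ℂ) =
        c ψ * (((ψ * φ⁻¹) h : ℂˣ) : ℂ) := by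
      intro h
      rw [Cfsg.Agent.Lib.Helper25_AbDual.conj_hom, MonoidHom.mul_apply, Units.val_mul,
        MonoidHom.inv_apply, ← map_inv]
      ring
    simp_rw [h2]
    rw [← Finset.mul_sum]
    split_ifs with hψ
    · rw [hψ, Cfsg.Agent.S1504.hom_mul_inv_self]
      simp only [MonoidHom.one_apply, Units.val_one, Finset.sum_const, Finset.card_univ,
        nsmul_eq_mul, mul_one, hcardP]
      ring
    · rw [Cfsg.Agent.S1504.sum_units_hom_eq_zero, mul_zero]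
      intro h
      exact hψ (Cfsg.Agent.S1504.hom_eq_of_mul_inv_eq_one ψ φ h)
  simp_rw [h1]
  rw [Finset.sum_ite_eq' Finset.univ φ]
  simp

end

/-- Block orthogonality between `P \ {1}` and the `p`-regular elements. -/
theorem orth_reg (hM : IsPModular p M) (hP : Nat.card P = p) {x g : G}
    (hx : x ∈ (P : Subgroup G)) (hx1 : x ≠ 1) (hg : ¬ p ∣ orderOf g) :
    ∑ᶠ χ ∈ principalBlock M G, (χ : G → ℂ) x * conj ((χ : G → ℂ) g) = 0 := by
  have hB : IsPBlock M (principalBlock M G) :=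
    ⟨Cfsg.Agent.Lib.Helper80_CharBasic.oneIrr G, rfl⟩
  have hox := Cfsg.Agent.Lib.Helper78_PartA.orderOf_eq_of_card_prime hp.out hP hx hx1
  refine Cfsg.Agent.Lib.Helper16_BlockOrth.block_orthogonality hM hB (g := x) (h := g) (x := x)
    (y := 1) ?_ ?_ ?_
  · refine ⟨1, mul_one x, Commute.one_right x, ⟨1, by rw [hox, pow_one]⟩, ?_⟩
    rw [orderOf_one]
    exact fun h => hp.out.one_lt.ne' (Nat.dvd_one.mp h)
  · exact ⟨g, one_mul g, Commute.one_left g, ⟨0, by rw [orderOf_one, pow_zero]⟩, hg⟩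
  · intro h
    exact hx1 (isConj_one_left.mp h)

section

variable [Fintype ↥(P : Subgroup G)] [Fintype (↥(P : Subgroup G) →* ℂˣ)]

open scoped Classical in
/-- The exceptional characters on the `p`-regular elements. -/
theorem exceptional_reg (hM : IsPModular p M) (hP : Nat.card P = p) (e : ℕ) (hepos : 0 < e)
    (X Y : Finset (IrrCharacter G)) (εX : IrrCharacter G → ℤ) (ε : ℤ)
    (hB : ∀ χ, χ ∈ principalBlock M G ↔ χ ∈ X ∨ χ ∈ Y) (hdisj : Disjoint X Y)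
    (hXp : ∀ χ ∈ X, (εX χ = 1 ∨ εX χ = -1) ∧
      ∀ φ : ↥(P : Subgroup G) →* ℂˣ, φ ≠ 1 → nn P χ φ = - εX χ)
    (hYp : ∀ θ ∈ Y, ∀ φ : ↥(P : Subgroup G) →* ℂˣ, φ ≠ 1 → nn P θ φ = 0 ∨ nn P θ φ = ε)
    (hYu : ∀ φ : ↥(P : Subgroup G) →* ℂˣ, φ ≠ 1 →
      ∃ θ ∈ Y, nn P θ φ ≠ 0 ∧ ∀ θ' ∈ Y, nn P θ' φ ≠ 0 → θ' = θ)
    (hYs : ∀ θ ∈ Y, (Finset.univ.filter
      (fun φ : ↥(P : Subgroup G) →* ℂˣ => nn P θ φ ≠ 0)).card = e)
    {g : G} (hg : ¬ p ∣ orderOf g) (θ : IrrCharacter G) (hθ : θ ∈ Y) :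
    (ε : ℂ) * conj ((θ : G → ℂ) g) = ∑ χ ∈ X, (εX χ : ℂ) * conj ((χ : G → ℂ) g) := by
  have hp0 : (p : ℂ) ≠ 0 := by exact_mod_cast hp.out.ne_zero
  set A : ℂ := ∑ χ ∈ X, (εX χ : ℂ) * conj ((χ : G → ℂ) g) with hA
  -- Step 1
  have hset : principalBlock M G = ↑(X ∪ Y) := by
    ext χ
    rw [Finset.coe_union, Set.mem_union, Finset.mem_coe, Finset.mem_coe]
    exact hB χ
  have hstep1 : ∀ h : ↥(P : Subgroup G), h ≠ 1 →
      A + ∑ θ' ∈ Y, (θ' : G → ℂ) h * conj ((θ' : G → ℂ) g) = 0 := by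
    intro h hh
    have hh' : (h : G) ≠ 1 := fun hc => hh (Subtype.ext hc)
    have h1 := orth_reg P hM hP h.2 hh' hg
    rw [hset, finsum_mem_coe_finset, Finset.sum_union hdisj] at h1
    rw [← h1]
    congr 1
    refine Finset.sum_congr rfl fun χ hχ => ?_
    rw [value_X P hP χ (εX χ) (hXp χ hχ).2 h hh]
  -- Step 2
  set c : (↥(P : Subgroup G) →* ℂˣ) → ℂ := fun φ =>
    (∑ θ' ∈ Y, ((nn P θ' φ : ℤ) : ℂ) * conj ((θ' : G → ℂ) g)) - (if φ = 1 then 0 else A)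
    with hcdef
  set F : ↥(P : Subgroup G) → ℂ := fun h =>
    ∑ φ : ↥(P : Subgroup G) →* ℂˣ, c φ * ((φ h : ℂˣ) : ℂ) with hFdef
  have hF : ∀ h : ↥(P : Subgroup G), h ≠ 1 → F h = 0 := by
    intro h hh
    simp only [hFdef, hcdef]
    simp_rw [sub_mul]
    rw [Finset.sum_sub_distrib]
    have e1 : ∑ φ : ↥(P : Subgroup G) →* ℂˣ,
        (∑ θ' ∈ Y, ((nn P θ' φ : ℤ) : ℂ) * conj ((θ' : G → ℂ) g)) * ((φ h : ℂˣ) : ℂ) =
        ∑ θ' ∈ Y, (θ' : G → ℂ) h * conj ((θ' : G → ℂ) g) := by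
      simp_rw [Finset.sum_mul]
      rw [Finset.sum_comm]
      refine Finset.sum_congr rfl fun θ' _ => ?_
      rw [value_eq_nn P hP θ' h hh, Finset.sum_mul]
      refine Finset.sum_congr rfl fun φ _ => ?_
      ring
    have e2 : ∑ φ : ↥(P : Subgroup G) →* ℂˣ,
        (if φ = 1 then 0 else A) * ((φ h : ℂˣ) : ℂ) = - A := by
      have e3 : ∀ φ : ↥(P : Subgroup G) →* ℂˣ, (if φ = 1 then 0 else A) * ((φ h : ℂˣ) : ℂ) =
          A * ((φ h : ℂˣ) : ℂ) - (if φ = 1 then A else 0) := by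
        intro φ
        split_ifs with hφ
        · rw [hφ]; simp
        · ring
      simp_rw [e3]
      rw [Finset.sum_sub_distrib, ← Finset.mul_sum,
        Cfsg.Agent.Lib.Helper25_AbDual.sum_hom_apply (comm_of_card P hP) h, if_neg hh,
        Finset.sum_ite_eq' Finset.univ (1 : ↥(P : Subgroup G) →* ℂˣ)]
      simp
    rw [e1, e2]
    have := hstep1 h hh
    rw [sub_neg_eq_add, add_comm]
    exact this
  -- Step 3
  have hcoef : ∀ φ : ↥(P : Subgroup G) →* ℂˣ, (p : ℂ) * c φ = F 1 := by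
    intro φ
    rw [← fourier_coeff P hP c φ]
    rw [Finset.sum_eq_single (1 : ↥(P : Subgroup G))]
    · simp [hFdef]
    · intro h _ hh
      have := hF h hh
      simp only [hFdef] at this
      rw [this, zero_mul]
    · intro h
      exact absurd (Finset.mem_univ _) h
  have hc1 : c 1 = 0 := by
    simp only [hcdef, nn_one]
    simp
  have hF1 : F 1 = 0 := by rw [← hcoef 1, hc1, mul_zero]
  have hc0 : ∀ φ : ↥(P : Subgroup G) →* ℂˣ, c φ = 0 := by
    intro φ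
    have := hcoef φ
    rw [hF1] at this
    rcases mul_eq_zero.mp this with h | h
    · exact absurd h hp0
    · exact h
  -- Step 4
  have hne : (Finset.univ.filter
      (fun φ : ↥(P : Subgroup G) →* ℂˣ => nn P θ φ ≠ 0)).Nonempty := by
    rw [← Finset.card_pos, hYs θ hθ]
    exact hepos
  obtain ⟨φ, hφ⟩ := hne
  have hφne : nn P θ φ ≠ 0 := (Finset.mem_filter.mp hφ).2
  have hφ1 : φ ≠ 1 := by
    rintro rfl
    exact hφne (nn_one P θ)
  obtain ⟨θ₀, hθ₀Y, hθ₀ne, hθ₀u⟩ := hYu φ hφ1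
  have hθθ₀ : θ = θ₀ := hθ₀u θ hθ hφne
  have hval : nn P θ φ = ε := by
    rcases hYp θ hθ φ hφ1 with h | h
    · exact absurd h hφne
    · exact h
  have hsum : ∑ θ' ∈ Y, ((nn P θ' φ : ℤ) : ℂ) * conj ((θ' : G → ℂ) g) =
      (ε : ℂ) * conj ((θ : G → ℂ) g) := by
    rw [Finset.sum_eq_single_of_mem θ hθ]
    · rw [hval]
    · intro θ' hθ' hne
      have : nn P θ' φ = 0 := by
        by_contra h0
        exact hne ((hθ₀u θ' hθ' h0).trans hθθ₀.symm)
      rw [this]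
      simp
  have := hc0 φ
  simp only [hcdef, if_neg hφ1] at this
  rw [hsum] at this
  exact sub_eq_zero.mp this

end

/-- **Statement S0960** from the trace hypothesis. -/
theorem card_and_degrees (hM : IsPModular p M) (hP : Nat.card P = p) (e : ℕ)
    (he : (Subgroup.centralizer ((P : Subgroup G) : Set G)).relIndex
      (Subgroup.normalizer ((P : Subgroup G) : Set G)) = e)
    (hCT : CTHyp G p P) :
    Nat.card (principalBlock M G) = e + (p - 1) / e ∧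
      ∀ χ ∈ principalBlock M G,
        (((charDegree (χ : G → ℂ) : ℕ) : ℤ) ≡ 1 [ZMOD p] ∨
          ((charDegree (χ : G → ℂ) : ℕ) : ℤ) ≡ -1 [ZMOD p] ∨
          ((charDegree (χ : G → ℂ) : ℕ) : ℤ) ≡ (e : ℤ) [ZMOD p] ∨
          ((charDegree (χ : G → ℂ) : ℕ) : ℤ) ≡ -(e : ℤ) [ZMOD p]) := by
  classical
  let _ : Fintype ↥(P : Subgroup G) := Fintype.ofFinite _
  have hfin : Finite (↥(P : Subgroup G) →* ℂˣ) :=
    Cfsg.Agent.Lib.Helper25_AbDual.finite_hom (comm_of_card P hP)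
  let _ : Fintype (↥(P : Subgroup G) →* ℂˣ) := Fintype.ofFinite _
  obtain ⟨X, Y, εX, ε, hB, hdisj, hXc, hYc, hXp, hε, hYp, hYu, hYs⟩ :=
    brauer_structure P hM hP e he hCT
  have hepos : 0 < e := by
    rcases Nat.eq_zero_or_pos e with h | h
    · rw [h, zero_mul] at hYc
      have := hp.out.two_le
      omega
    · exact h
  constructor
  · have hset : principalBlock M G = ↑(X ∪ Y) := by
      ext χ
      rw [Finset.coe_union, Set.mem_union, Finset.mem_coe, Finset.mem_coe]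
      exact hB χ
    rw [hset, Nat.card_coe_set_eq, Set.ncard_coe_finset, Finset.card_union_of_disjoint hdisj,
      hXc]
    congr 1
    exact (Nat.div_eq_of_eq_mul_right hepos hYc.symm).symm
  · intro χ hχ
    rcases (hB χ).mp hχ with h | h
    · obtain ⟨h1, h2⟩ := hXp χ h
      have := degree_X P hP χ (εX χ) h2
      rcases h1 with h3 | h3
      · left; rw [h3] at this; exact this
      · right; left; rw [h3] at this; exact this
    · have := degree_Y P hP χ ε e (hYp χ h) (hYs χ h)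
      rcases hε with h3 | h3
      · right; right; left; rw [h3, one_mul] at this; exact this
      · right; right; right; rw [h3, neg_one_mul] at this; exact this

/-- **Statement S4441** from the trace hypothesis. -/
theorem values (hM : IsPModular p M) (hP : Nat.card P = p) (e : ℕ)
    (he : (Subgroup.centralizer ((P : Subgroup G) : Set G)).relIndex
      (Subgroup.normalizer ((P : Subgroup G) : Set G)) = e)
    (hCT : CTHyp G p P) :
    ∃ X Y : Set (Cfsg.IrrCharacter G), Cfsg.principalBlock M G = X ∪ Y ∧ Disjoint X Y ∧ Nat.card X = e ∧ Nat.card Y = (p - 1) / e ∧ ∃ (εX : Cfsg.IrrCharacter G → ℤ) (ε : ℤ), (∀ χ ∈ X, (εX χ = 1 ∨ εX χ = -1) ∧ (Cfsg.charDegree (χ : G → ℂ) : ℤ) ≡ εX χ [ZMOD p] ∧ ∀ x : G, x ∈ (P : Subgroup G) → x ≠ 1 → ∀ y : G, y ∈ Subgroup.centralizer ((P : Subgroup G) : Set G) → ¬ p ∣ orderOf y → (χ : G → ℂ) (x * y) = (εX χ : ℂ)) ∧ (ε = 1 ∨ ε = -1) ∧ (∀ θ ∈ Y, (Cfsg.charDegree (θ : G →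 ℂ) : ℤ) ≡ ε * (e : ℤ) [ZMOD p]) ∧ (∀ θ ∈ Y, ∀ θ' ∈ Y, ∀ g : G, ¬ p ∣ orderOf g → (θ : G → ℂ) g = (θ' : G → ℂ) g) ∧ ∀ θ ∈ Y, ∀ g : G, ¬ p ∣ orderOf g → (ε : ℂ) * (θ : G → ℂ) g = ∑ᶠ χ ∈ X, (εX χ : ℂ) * (χ : G → ℂ) g := by
  classical
  let _ : Fintype ↥(P : Subgroup G) := Fintype.ofFinite _
  have hfin : Finite (↥(P : Subgroup G) →* ℂˣ) :=
    Cfsg.Agent.Lib.Helper25_AbDual.finite_hom (comm_of_card P hP)
  let _ : Fintype (↥(P : Subgroup G) →* ℂˣ) := Fintype.ofFinite _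
  obtain ⟨X, Y, εX, ε, hB, hdisj, hXc, hYc, hXp, hε, hYp, hYu, hYs⟩ :=
    brauer_structure P hM hP e he hCT
  have hepos : 0 < e := by
    rcases Nat.eq_zero_or_pos e with h | h
    · rw [h, zero_mul] at hYc
      have := hp.out.two_le
      omega
    · exact h
  have hεC : (ε : ℂ) ≠ 0 := by
    rcases hε with h | h <;> rw [h] <;> norm_num
  have hεconj : conj (ε : ℂ) = (ε : ℂ) := map_intCast (starRingEnd ℂ) ε
  have hreg := fun (g : G) (hg : ¬ p ∣ orderOf g) (θ : IrrCharacter G) (hθ : θ ∈ Y) =>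
    exceptional_reg P hM hP e hepos X Y εX ε hB hdisj hXp hYp hYu hYs hg θ hθ
  refine ⟨↑X, ↑Y, ?_, Finset.disjoint_coe.mpr hdisj, ?_, ?_, εX, ε, ?_, hε, ?_, ?_, ?_⟩
  · ext χ
    rw [Set.mem_union, Finset.mem_coe, Finset.mem_coe]
    exact hB χ
  · rw [Nat.card_coe_set_eq, Set.ncard_coe_finset, hXc]
  · rw [Nat.card_coe_set_eq, Set.ncard_coe_finset]
    exact (Nat.div_eq_of_eq_mul_right hepos hYc.symm).symm
  · intro χ hχ
    have hχX : χ ∈ X := Finset.mem_coe.mp hχ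
    obtain ⟨h1, h2⟩ := hXp χ hχX
    refine ⟨h1, degree_X P hP χ (εX χ) h2, ?_⟩
    intro x hx hx1 y hy hyreg
    have hχB : χ ∈ principalBlock M G := (hB χ).mpr (Or.inl hχX)
    rw [principal_const P hM hP χ hχB x hx hx1 y hy hyreg]
    exact value_X P hP χ (εX χ) h2 ⟨x, hx⟩ (fun h => hx1 (congrArg Subtype.val h))
  · intro θ hθ
    have hθY : θ ∈ Y := Finset.mem_coe.mp hθ
    exact degree_Y P hP θ ε e (hYp θ hθY) (hYs θ hθY)
  · intro θ hθ θ' hθ' g hg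
    have h1 := hreg g hg θ (Finset.mem_coe.mp hθ)
    have h2 := hreg g hg θ' (Finset.mem_coe.mp hθ')
    rw [← h2] at h1
    have h3 := mul_left_cancel₀ hεC h1
    exact (starRingEnd ℂ).injective h3
  · intro θ hθ g hg
    have h1 := hreg g hg θ (Finset.mem_coe.mp hθ)
    have h2 := congrArg (starRingEnd ℂ) h1
    rw [map_mul, hεconj, Complex.conj_conj, map_sum] at h2
    rw [h2, finsum_mem_coe_finset]
    refine Finset.sum_congr rfl fun χ _ => ?_
    rw [map_mul, map_intCast, Complex.conj_conj]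

end Cfsg.Agent.Lib.Helper16_BrauerFinal
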