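import Mathlib
import Cfsg.Prelude.Def_Blocks
import Cfsg.Agent.Lib.Helper25_AbDual
import Cfsg.Agent.Lib.Helper75_CharArith
import Cfsg.Agent.Lib.Helper75_LinChar
import Cfsg.Agent.Lib.Helper57_FrobNorm
import Cfsg.Agent.Lib.Helper79_Linear
import Cfsg.Agent.Lib.Helper3_CharBridge
import Cfsg.Agent.Lib.Helper16_BrauerSetup

/-!
# Blocks of defect one, general root: local set-up (helper16)

`P` a Sylow `p`-subgroup of order `p`, `V` the `p`-complement of `C_G(P) = P × V`, `θ ∈ Irr(V)`.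

* `IsPCompl P V` : the properties of `V` (as delivered by
  `Helper17_PCompl.exists_pcomplement_centralizer`);
* `sfun P V θ χ h = |V|⁻¹ ∑_{v ∈ V} χ (h v) conj (θ v)` : the `θ`-component of `χ` on `P`;
* `BGen P V θ` : the irreducible characters `χ` with `sfun P V θ χ` not identically zero on `P \ {1}`;
* `multg`, `nng` : the multiplicity of a linear character `φ` of `P` in `sfun P V θ χ` (a natural
  number: it is the multiplicity of `φ × θ` in `χ|_{P × V}`), and the difference with the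
  multiplicity of the trivial character;
* `value_eq`, `value_eq_nn`, `value_one`, `nng_eq` : Fourier expansions.
-/

set_option autoImplicit false
set_option linter.unusedSectionVars false

namespace Cfsg.Agent.Lib.Helper16_GenSetup

open Cfsg Cfsg.Agent.Lib.Helper16_BrauerSetup
open scoped ComplexConjugate

variable {G : Type*} [Group G] [Fintype G] {p : ℕ} [hp : Fact p.Prime] (P : Sylow p G)
  (V : Subgroup G)

/-- `V` is the normal `p`-complement of `C_G(P)`. -/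
structure IsPCompl : Prop where
  le : V ≤ Subgroup.centralizer ((P : Subgroup G) : Set G)
  coprime : (Nat.card V).Coprime p
  prod : ∀ c ∈ Subgroup.centralizer ((P : Subgroup G) : Set G),
    ∃ h ∈ (P : Subgroup G), ∃ v ∈ V, c = h * v
  reg : ∀ v ∈ Subgroup.centralizer ((P : Subgroup G) : Set G), ¬ p ∣ orderOf v → v ∈ V
  norm : ∀ n ∈ Subgroup.normalizer ((P : Subgroup G) : Set G), ∀ v ∈ V, n * v * n⁻¹ ∈ V

variable {P V}

theorem IsPCompl.commute (hV : IsPCompl P V) (h : ↥(P : Subgroup G)) (v : ↥V) :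
    Commute (h : G) (v : G) :=
  (Subgroup.mem_centralizer_iff.mp (hV.le v.2) (h : G) h.2)

variable (P V)

section sfun

variable [Fintype ↥V]

/-- The `θ`-component of `χ` on `P`: `s_χ(h) = |V|⁻¹ ∑_{v ∈ V} χ (h v) conj (θ v)`. -/
noncomputable def sfun (θ : IrrCharacter ↥V) (χ : IrrCharacter G) : ↥(P : Subgroup G) → ℂ :=
  fun h => (Nat.card V : ℂ)⁻¹ *
    ∑ v : ↥V, (χ : G → ℂ) ((h : G) * (v : G)) * conj ((θ : ↥V → ℂ) v)

/-- The characters whose `θ`-component does not vanish identically on `P \ {1}`. -/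
def BGen (θ : IrrCharacter ↥V) : Set (IrrCharacter G) :=
  {χ | ∃ h : ↥(P : Subgroup G), h ≠ 1 ∧ sfun P V θ χ h ≠ 0}

theorem mem_BGen (θ : IrrCharacter ↥V) (χ : IrrCharacter G) :
    χ ∈ BGen P V θ ↔ ∃ h : ↥(P : Subgroup G), h ≠ 1 ∧ sfun P V θ χ h ≠ 0 := Iff.rfl

end sfun

variable {P V}

/-- The multiplication map `P × V → G`. -/
def prodHom (hV : IsPCompl P V) : ↥(P : Subgroup G) × ↥V →* G :=
  MonoidHom.noncommCoprod (P : Subgroup G).subtype V.subtype (fun h v => hV.commute h v)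

@[simp] theorem prodHom_apply (hV : IsPCompl P V) (x : ↥(P : Subgroup G) × ↥V) :
    prodHom hV x = (x.1 : G) * (x.2 : G) := rfl

section mult

variable [Fintype ↥(P : Subgroup G)] [Fintype ↥V]

/-- The character `φ × θ` of `P × V`. -/
theorem isIrrCharacter_prod (θ : IrrCharacter ↥V) (φ : ↥(P : Subgroup G) →* ℂˣ) :
    IsIrrCharacter (↥(P : Subgroup G) × ↥V)
      (fun x => ((φ x.1 : ℂˣ) : ℂ) * (θ : ↥V → ℂ) x.2) := by
  have h1 : IsIrrCharacter (↥(P : Subgroup G) × ↥V) (fun x => (θ : ↥V → ℂ) x.2) :=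
    Cfsg.Agent.Lib.Helper57_FrobNorm.isIrrCharacter_comp_surjective
      (MonoidHom.snd ↥(P : Subgroup G) ↥V) (fun v => ⟨(1, v), rfl⟩) θ.2
  have h2 : Cfsg.Agent.Lib.Helper75_LinChar.IsLin (↥(P : Subgroup G) × ↥V)
      (fun x => ((φ x.1 : ℂˣ) : ℂ)) := by
    refine ⟨?_, ?_⟩
    · have := Cfsg.Agent.Lib.Helper3_CharBridge.isCharacter_of_isIrrCharacter
        (Cfsg.Agent.Lib.Helper79_Linear.isIrrCharacter_of_hom
          (φ.comp (MonoidHom.fst ↥(P : Subgroup G) ↥V)))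
      exact this
    · simp
  exact h2.mul_irr h1

theorem exists_multg (hV : IsPCompl P V) (θ : IrrCharacter ↥V) (χ : IrrCharacter G)
    (φ : ↥(P : Subgroup G) →* ℂˣ) :
    ∃ n : ℕ, classInner (fun x : ↥(P : Subgroup G) × ↥V => (χ : G → ℂ) (prodHom hV x))
      (fun x => ((φ x.1 : ℂˣ) : ℂ) * (θ : ↥V → ℂ) x.2) = n :=
  Cfsg.Agent.Lib.Helper75_CharArith.classInner_isCharacter_nat
    (Cfsg.Agent.Lib.Helper75_CharArith.isCharacter_comp (prodHom hV)
      (Cfsg.Agent.Lib.Helper3_CharBridge.isCharacter_of_isIrrCharacter χ.2))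
    (Cfsg.Agent.Lib.Helper3_CharBridge.isCharacter_of_isIrrCharacter (isIrrCharacter_prod θ φ))

/-- The multiplicity of `φ × θ` in `χ|_{P × V}`. -/
noncomputable def multg (hV : IsPCompl P V) (θ : IrrCharacter ↥V) (χ : IrrCharacter G)
    (φ : ↥(P : Subgroup G) →* ℂˣ) : ℕ :=
  (exists_multg hV θ χ φ).choose

theorem multg_spec' (hV : IsPCompl P V) (θ : IrrCharacter ↥V) (χ : IrrCharacter G)
    (φ : ↥(P : Subgroup G) →* ℂˣ) :
    classInner (fun x : ↥(P : Subgroup G) × ↥V => (χ : G → ℂ) (prodHom hV x))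
      (fun x => ((φ x.1 : ℂˣ) : ℂ) * (θ : ↥V → ℂ) x.2) = multg hV θ χ φ :=
  (exists_multg hV θ χ φ).choose_spec

/-- The multiplicity of `φ` in `sfun P V θ χ`. -/
theorem multg_spec (hV : IsPCompl P V) (θ : IrrCharacter ↥V) (χ : IrrCharacter G)
    (φ : ↥(P : Subgroup G) →* ℂˣ) :
    classInner (sfun P V θ χ) (fun h => ((φ h : ℂˣ) : ℂ)) = multg hV θ χ φ := by
  rw [← multg_spec' hV θ χ φ]
  unfold classInner sfun
  have hc : (Nat.card (↥(P : Subgroup G) × ↥V) : ℂ)⁻¹ =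
      (Nat.card ↥(P : Subgroup G) : ℂ)⁻¹ * (Nat.card ↥V : ℂ)⁻¹ := by
    rw [Nat.card_prod]
    push_cast
    rw [mul_inv]
  rw [hc]
  simp only [Fintype.sum_prod_type]
  rw [mul_assoc]
  congr 1
  rw [Finset.mul_sum]
  refine Finset.sum_congr rfl fun h _ => ?_
  rw [mul_assoc]
  congr 1
  rw [Finset.sum_mul]
  refine Finset.sum_congr rfl fun v _ => ?_
  rw [prodHom_apply, map_mul]
  ring

/-- The multiplicity of `φ` minus the multiplicity of the trivial character. -/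
noncomputable def nng (hV : IsPCompl P V) (θ : IrrCharacter ↥V) (χ : IrrCharacter G)
    (φ : ↥(P : Subgroup G) →* ℂˣ) : ℤ :=
  (multg hV θ χ φ : ℤ) - multg hV θ χ 1

@[simp] theorem nng_one (hV : IsPCompl P V) (θ : IrrCharacter ↥V) (χ : IrrCharacter G) :
    nng hV θ χ 1 = 0 := by
  unfold nng; ring

variable [Fintype (↥(P : Subgroup G) →* ℂˣ)]

/-- `s_χ h = ∑_φ multg χ φ * φ h` on `P`. -/
theorem value_eq (hP : Nat.card P = p) (hV : IsPCompl P V) (θ : IrrCharacter ↥V)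
    (χ : IrrCharacter G) (h : ↥(P : Subgroup G)) :
    sfun P V θ χ h =
      ∑ φ : ↥(P : Subgroup G) →* ℂˣ, (multg hV θ χ φ : ℂ) * ((φ h : ℂˣ) : ℂ) := by
  have := Cfsg.Agent.Lib.Helper25_AbDual.fourier (comm_of_card P hP) (sfun P V θ χ) h
  rw [this]
  refine Finset.sum_congr rfl fun φ _ => ?_
  rw [multg_spec]

/-- `s_χ h = ∑_φ nng χ φ * φ h` for `1 ≠ h ∈ P`. -/
theorem value_eq_nn (hP : Nat.card P = p) (hV : IsPCompl P V) (θ : IrrCharacter ↥V)
    (χ : IrrCharacter G) (h : ↥(P : Subgroup G)) (hh : h ≠ 1) :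
    sfun P V θ χ h =
      ∑ φ : ↥(P : Subgroup G) →* ℂˣ, (nng hV θ χ φ : ℂ) * ((φ h : ℂˣ) : ℂ) := by
  classical
  rw [value_eq hP hV θ χ h]
  have h0 := Cfsg.Agent.Lib.Helper25_AbDual.sum_hom_apply (comm_of_card P hP) h
  rw [if_neg hh] at h0
  have : ∑ φ : ↥(P : Subgroup G) →* ℂˣ, (nng hV θ χ φ : ℂ) * ((φ h : ℂˣ) : ℂ) =
      ∑ φ : ↥(P : Subgroup G) →* ℂˣ, (multg hV θ χ φ : ℂ) * ((φ h : ℂˣ) : ℂ) -
        (multg hV θ χ 1 : ℂ) * ∑ φ : ↥(P : Subgroup G) →* ℂˣ, ((φ h : ℂˣ) : ℂ) := by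
    rw [Finset.mul_sum, ← Finset.sum_sub_distrib]
    refine Finset.sum_congr rfl fun φ _ => ?_
    unfold nng
    push_cast
    ring
  rw [this, h0, mul_zero, sub_zero]

/-- `s_χ 1 = p * multg χ 1 + ∑_φ nng χ φ`. -/
theorem value_one (hP : Nat.card P = p) (hV : IsPCompl P V) (θ : IrrCharacter ↥V)
    (χ : IrrCharacter G) :
    sfun P V θ χ 1 = (p : ℂ) * (multg hV θ χ 1 : ℂ) +
      ∑ φ : ↥(P : Subgroup G) →* ℂˣ, (nng hV θ χ φ : ℂ) := by
  have h1 := value_eq hP hV θ χ 1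
  simp only [map_one, Units.val_one, mul_one] at h1
  rw [h1]
  have hcard : (Fintype.card (↥(P : Subgroup G) →* ℂˣ) : ℂ) = p := by
    rw [← Nat.card_eq_fintype_card, Cfsg.Agent.Lib.Helper25_AbDual.card_hom (comm_of_card P hP)]
    exact_mod_cast hP
  have : ∑ φ : ↥(P : Subgroup G) →* ℂˣ, (nng hV θ χ φ : ℂ) =
      ∑ φ : ↥(P : Subgroup G) →* ℂˣ, (multg hV θ χ φ : ℂ) -
        ∑ φ : ↥(P : Subgroup G) →* ℂˣ, (multg hV θ χ 1 : ℂ) := by
    rw [← Finset.sum_sub_distrib]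
    refine Finset.sum_congr rfl fun φ _ => ?_
    unfold nng
    push_cast
    ring
  rw [this, Finset.sum_const, Finset.card_univ, nsmul_eq_mul, hcard]
  ring

/-- `nng χ φ = p⁻¹ ∑_h s_χ h * (conj (φ h) - 1)`. -/
theorem nng_eq (hP : Nat.card P = p) (hV : IsPCompl P V) (θ : IrrCharacter ↥V)
    (χ : IrrCharacter G) (φ : ↥(P : Subgroup G) →* ℂˣ) :
    (nng hV θ χ φ : ℂ) = (p : ℂ)⁻¹ *
      ∑ h : ↥(P : Subgroup G), sfun P V θ χ h * (conj ((φ h : ℂˣ) : ℂ) - 1) := by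
  have h1 := multg_spec hV θ χ φ
  have h2 := multg_spec hV θ χ 1
  unfold classInner at h1 h2
  have hP' : (Nat.card ↥(P : Subgroup G) : ℂ) = p := by exact_mod_cast hP
  rw [hP'] at h1 h2
  unfold nng
  push_cast
  rw [← h1, ← h2, ← mul_sub, ← Finset.sum_sub_distrib]
  congr 1
  refine Finset.sum_congr rfl fun h _ => ?_
  simp only [MonoidHom.one_apply, Units.val_one, map_one]
  ring

end mult

end Cfsg.Agent.Lib.Helper16_GenSetup
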