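import Mathlib
import Cfsg.Agent.Lib.Helper78_FirstMainGT
import Cfsg.Agent.Lib.Helper78_BrDecomp

/-!
# Brauer's First Main Theorem (helper78)

With `N = N_G(D)` for a `p`-subgroup `D`:
* `firstMain_induced`: a block `b` of `N` with defect group `D` induces a block of `G` with defect
  group `D`;
* `firstMain_exists_block`: every block of `G` with defect group `D` is induced from a block of `N`
  with defect group `D`;
* `firstMain_unique`: that block is unique.
-/

set_option autoImplicit false

namespace Cfsg.Agent.Lib.Helper78_FirstMain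

open Cfsg Cfsg.Agent.Lib.Helper78_LocalRing Cfsg.Agent.Lib.Helper78_CentralChar
  Cfsg.Agent.Lib.Helper78_Osima Cfsg.Agent.Lib.Helper78_MinMax Cfsg.Agent.Lib.Helper78_Brauer
  Cfsg.Agent.Lib.Helper78_CharFacts Cfsg.Agent.Lib.Helper78_Defect
  Cfsg.Agent.Lib.Helper78_FirstMainGT Cfsg.Agent.Lib.Helper78_BrauerMap
  Cfsg.Agent.Lib.Helper78_BrDecomp

universe u
variable {G : Type u} [Group G] {M : Ideal AlgInt} {p : ℕ}

theorem centralizer_le_normalizer (D : Subgroup G) :
    Subgroup.centralizer (D : Set G) ≤ Subgroup.normalizer (D : Set G) := by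
  intro x hx
  rw [Subgroup.mem_set_normalizer_iff]
  intro h
  have key : ∀ d ∈ D, x * d * x⁻¹ = d := by
    intro d hd
    have := Subgroup.mem_centralizer_iff.1 hx d hd
    rw [← this, mul_inv_cancel_right]
  constructor
  · intro hh
    rw [SetLike.mem_coe, key h hh]
    exact hh
  · intro hh
    have h1 := key _ hh
    have h2 : h = x * h * x⁻¹ := by
      have := congrArg (fun z => x⁻¹ * z * x) h1
      beta_reduce at this
      have e1 : x⁻¹ * (x * (x * h * x⁻¹) * x⁻¹) * x = x * h * x⁻¹ := by group
      have e2 : x⁻¹ * (x * h * x⁻¹) * x = h := by group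
      rw [e1, e2] at this
      exact this.symm
    rw [h2]
    exact hh

theorem map_subgroupOf_normalizer (D : Subgroup G) :
    (D.subgroupOf (Subgroup.normalizer (D : Set G))).map
      (Subgroup.normalizer (D : Set G)).subtype = D :=
  Subgroup.map_subgroupOf_eq_of_le Subgroup.le_normalizer

theorem card_subgroupOf_normalizer (D : Subgroup G) :
    Nat.card (D.subgroupOf (Subgroup.normalizer (D : Set G))) = Nat.card D := by
  rw [← Subgroup.card_map_of_injective (Subgroup.normalizer (D : Set G)).subtype_injective,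
    map_subgroupOf_normalizer]

/-- Conjugates of the normal subgroup `D` of `N_G(D)` inside `N_G(D)`. -/
theorem le_of_le_map_conj (D : Subgroup G) {T : Subgroup (Subgroup.normalizer (D : Set G))}
    (n : Subgroup.normalizer (D : Set G))
    (h : T ≤ (D.subgroupOf (Subgroup.normalizer (D : Set G))).map (MulAut.conj n).toMonoidHom) :
    T ≤ D.subgroupOf (Subgroup.normalizer (D : Set G)) := by
  intro t ht
  obtain ⟨d, hd, rfl⟩ := h ht
  have hn : (D.subgroupOf (Subgroup.normalizer (D : Set G))).Normal := inferInstance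
  exact hn.conj_mem d hd n

variable [Finite G] [Fact p.Prime]

/-- If `D ≤ N` is (inside `N`) the image of a Sylow `p`-subgroup of `C_N(y)`, then `D`
centralizes `y` and is a maximal `p`-subgroup of `N ∩ C_G(y)`. -/
theorem max_of_sylow {D N : Subgroup G} (hDN : D ≤ N) (y : N)
    (Py : Sylow p (Subgroup.centralizer ({y} : Set N)))
    (hPy : D.subgroupOf N =
      (Py : Subgroup (Subgroup.centralizer ({y} : Set N))).map
        (Subgroup.centralizer ({y} : Set N)).subtype) :
    D ≤ Subgroup.centralizer ({(y : G)} : Set G) ∧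
    ∀ T : Subgroup G, IsPGroup p T → D ≤ T → T ≤ N →
      T ≤ Subgroup.centralizer ({(y : G)} : Set G) → T = D := by
  constructor
  · intro d hd
    have h1 : (⟨d, hDN hd⟩ : N) ∈ D.subgroupOf N := by
      simpa [Subgroup.mem_subgroupOf] using hd
    rw [hPy] at h1
    have h2 : (⟨d, hDN hd⟩ : N) ∈ Subgroup.centralizer ({y} : Set N) := map_sylow_le _ Py h1
    have h3 := Subgroup.mem_centralizer_iff.1 h2 y rfl
    rw [Subgroup.mem_centralizer_iff]
    intro z hz
    rw [Set.mem_singleton_iff] at hz
    subst hz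
    exact congrArg Subtype.val h3
  · intro T hT hDT hTN hTy
    -- `T' = T ∩ N` as a subgroup of `N`, inside `C_N(y)`
    have hT'p : IsPGroup p (T.subgroupOf N) := hT.comap_subtype
    have hT'C : T.subgroupOf N ≤ Subgroup.centralizer ({y} : Set N) := by
      intro t ht
      rw [Subgroup.mem_centralizer_iff]
      intro z hz
      rw [Set.mem_singleton_iff] at hz
      subst hz
      have h1 : (t : G) ∈ Subgroup.centralizer ({(z : G)} : Set G) := hTy ht
      exact Subtype.ext (Subgroup.mem_centralizer_iff.1 h1 _ rfl)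
    have hDT' : D.subgroupOf N ≤ T.subgroupOf N := fun t ht => hDT ht
    -- maximality of the Sylow subgroup
    have h1 : (T.subgroupOf N).subgroupOf (Subgroup.centralizer ({y} : Set N)) =
        (Py : Subgroup (Subgroup.centralizer ({y} : Set N))) := by
      refine Py.is_maximal' hT'p.comap_subtype ?_
      intro z hz
      have : (z : N) ∈ (Py : Subgroup (Subgroup.centralizer ({y} : Set N))).map
          (Subgroup.centralizer ({y} : Set N)).subtype := ⟨z, hz, rfl⟩
      rw [← hPy] at this
      exact hDT' this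
    have h2 : T.subgroupOf N = D.subgroupOf N := by
      rw [hPy, ← h1, Subgroup.map_subgroupOf_eq_of_le hT'C]
    have h3 : T = (T.subgroupOf N).map N.subtype := (Subgroup.map_subgroupOf_eq_of_le hTN).symm
    rw [h3, h2, Subgroup.map_subgroupOf_eq_of_le hDN]

/-- From maximality in `N ∩ C_G(l)` to: `D` is Sylow in `C_G(l)` and fusion of `l` in `C_G(D)` is
controlled by `N`. -/
theorem fusion_of_max {D : Subgroup G} (hD : IsPGroup p D) (l : Subgroup.normalizer (D : Set G))
    (hDl : D ≤ Subgroup.centralizer ({(l : G)} : Set G))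
    (hmax : ∀ T : Subgroup G, IsPGroup p T → D ≤ T → T ≤ Subgroup.normalizer (D : Set G) →
      T ≤ Subgroup.centralizer ({(l : G)} : Set G) → T = D) :
    (∃ Q : Sylow p (Subgroup.centralizer ({(l : G)} : Set G)),
      D = (Q : Subgroup (Subgroup.centralizer ({(l : G)} : Set G))).map
        (Subgroup.centralizer ({(l : G)} : Set G)).subtype) ∧
    ∀ h : Subgroup.normalizer (D : Set G), IsConj (l : G) (h : G) →
      (h : G) ∈ Subgroup.centralizer (D : Set G) → IsConj l h := by
  have hGmax := eq_of_isPGroup_of_le_centralizer (l : G) hmax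
  obtain ⟨Q, hQ⟩ := exists_sylow_eq_of_max hD hDl (fun T hT hDT hTC => hGmax T hT hDT hTC)
  refine ⟨⟨Q, hQ⟩, fun h hconj hh => ?_⟩
  have hDh : D ≤ Subgroup.centralizer ({(h : G)} : Set G) := by
    intro d hd
    rw [Subgroup.mem_centralizer_iff]
    intro z hz
    rw [Set.mem_singleton_iff] at hz
    subst hz
    exact (Subgroup.mem_centralizer_iff.1 hh d hd).symm
  obtain ⟨n, hn, hnl⟩ := exists_mem_normalizer_conj Q hQ hDh hconj
  exact isConj_iff.2 ⟨⟨n, hn⟩, Subtype.ext hnl⟩

/-- When fusion is controlled, the Brauer central character is the central character. -/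
theorem brauerCentralChar_eq_centralChar (D : Subgroup G) (l : Subgroup.normalizer (D : Set G))
    (hl : (l : G) ∈ Subgroup.centralizer (D : Set G))
    (hfus : ∀ h : Subgroup.normalizer (D : Set G), IsConj (l : G) (h : G) →
      (h : G) ∈ Subgroup.centralizer (D : Set G) → IsConj l h)
    {ξ : Subgroup.normalizer (D : Set G) → ℂ}
    (hξ : IsClassFunction (Subgroup.normalizer (D : Set G)) ξ) :
    brauerCentralChar D (Subgroup.normalizer (D : Set G)) ξ (l : G) = centralChar ξ l := by
  classical
  have := Fintype.ofFinite (Subgroup.normalizer (D : Set G))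
  rw [← omega_classIndicator hξ l]
  unfold omega brauerCentralChar
  rw [finsum_mem_def, finsum_eq_sum_of_fintype, Finset.sum_div]
  refine Finset.sum_congr rfl fun h _ => ?_
  have hiff : (IsConj (l : G) (h : G) ∧ (h : G) ∈ Subgroup.centralizer (D : Set G)) ↔
      IsConj l h := by
    constructor
    · rintro ⟨h1, h2⟩
      exact hfus h h1 h2
    · intro h1
      obtain ⟨n, hn⟩ := isConj_iff.1 h1
      have h3 : (h : G) = (n : G) * (l : G) * (n : G)⁻¹ := by
        rw [← hn]
        push_cast
        rfl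
      refine ⟨isConj_iff.2 ⟨(n : G), h3.symm⟩, ?_⟩
      rw [h3]
      exact conj_mem_centralizer_of_mem_normalizer n.2 hl
  unfold classIndicator
  simp only [Set.indicator_apply, Set.mem_ofPred_eq, hiff]
  split_ifs <;> ring

/-- A `p`-subgroup of `C_G(y)` has order at most that of a Sylow subgroup. -/
theorem card_le_of_le_centralizer {y : G} (Q : Sylow p (Subgroup.centralizer ({y} : Set G)))
    (T : Subgroup G) (hT : IsPGroup p T) (hTy : T ≤ Subgroup.centralizer ({y} : Set G)) :
    Nat.card T ≤ Nat.card ((Q : Subgroup (Subgroup.centralizer ({y} : Set G))).map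
      (Subgroup.centralizer ({y} : Set G)).subtype) := by
  obtain ⟨Q', hQ'⟩ := (hT.comap_subtype (K := Subgroup.centralizer ({y} : Set G))).exists_le_sylow
  have hQ' : T.subgroupOf (Subgroup.centralizer ({y} : Set G)) ≤
      (Q' : Subgroup (Subgroup.centralizer ({y} : Set G))) := hQ'
  have h1 : T ≤ (Q' : Subgroup (Subgroup.centralizer ({y} : Set G))).map
      (Subgroup.centralizer ({y} : Set G)).subtype := by
    have := Subgroup.map_mono (f := (Subgroup.centralizer ({y} : Set G)).subtype) hQ'
    rwa [Subgroup.map_subgroupOf_eq_of_le hTy] at this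
  calc Nat.card T ≤ _ := Subgroup.card_le_of_le h1
    _ = _ := by rw [card_map_sylow, card_map_sylow]

/-- **First Main Theorem, part (i)**: a block of `N_G(D)` with defect group `D` induces a block of
`G` with defect group `D`. -/
theorem firstMain_induced (hM : IsPModular p M) (D : Subgroup G) (hD : IsPGroup p D)
    {b : Set (IrrCharacter (Subgroup.normalizer (D : Set G)))} (hb : IsPBlock M b)
    (hDb : IsDefectGroup p M b (D.subgroupOf (Subgroup.normalizer (D : Set G)))) :
    ∃ B : Set (IrrCharacter G), IsPBlock M B ∧ IsDefectGroup p M B D ∧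
      IsInducedBlock M (Subgroup.normalizer (D : Set G)) b B := by
  classical
  have := Fintype.ofFinite G
  have := Fintype.ofFinite (Subgroup.normalizer (D : Set G))
  have hMp := isPrime_of_isPModular hM
  have hDN : D ≤ Subgroup.normalizer (D : Set G) := Subgroup.le_normalizer
  have hCN := centralizer_le_normalizer D
  obtain ⟨B, hind⟩ := inducedBlockDefined hM hD hDN hCN le_rfl hb
  have hB := hind.2.1
  refine ⟨B, hB, ?_, hind⟩
  obtain ⟨y, hy, Py, hPy⟩ := hDb
  obtain ⟨hDy, hmax⟩ := max_of_sylow hDN y Py hPy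
  obtain ⟨⟨Q, hQ⟩, hfus⟩ := fusion_of_max hD y hDy hmax
  have hyC : (y : G) ∈ Subgroup.centralizer (D : Set G) := by
    rw [Subgroup.mem_centralizer_iff]
    intro d hd
    exact (Subgroup.mem_centralizer_iff.1 (hDy hd) _ rfl).symm
  obtain ⟨ξ, hξ⟩ := isPBlock_nonempty hMp hb
  obtain ⟨χ, hχ⟩ := isPBlock_nonempty hMp hB
  have hξc := isIrrCharacter_isClassFunction ξ.2
  -- the central character of `χ` at `y` is a unit
  have hχy : ¬ MemLocalIdeal M (centralChar (χ : G → ℂ) (y : G)) := by
    intro hmem
    apply hy.2.2 ξ hξ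
    rw [← brauerCentralChar_eq_centralChar D y hyC hfus hξc]
    have h1 := memLocalIdeal_induced_sub_brauer hM D _ hD hDN le_rfl ξ.2 (y : G)
    have h2 := hind.2.2 ξ hξ χ hχ (y : G)
    have h3 := memLocalIdeal_add hMp (memLocalIdeal_sub hMp h2 h1) hmem
    have h4 : inducedCentralChar (Subgroup.normalizer (D : Set G)) (ξ : _ → ℂ) (y : G) -
        centralChar (χ : G → ℂ) (y : G) -
        (inducedCentralChar (Subgroup.normalizer (D : Set G)) (ξ : _ → ℂ) (y : G) -
          brauerCentralChar D (Subgroup.normalizer (D : Set G)) (ξ : _ → ℂ) (y : G)) +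
        centralChar (χ : G → ℂ) (y : G) =
        brauerCentralChar D (Subgroup.normalizer (D : Set G)) (ξ : _ → ℂ) (y : G) := by ring
    rwa [h4] at h3
  -- some defect group `E₀` of `B` has order at most `|D|`
  obtain ⟨g, hg⟩ := exists_isDefectClass' (G := G) hMp hB
  obtain ⟨Pg⟩ : Nonempty (Sylow p (Subgroup.centralizer ({g} : Set G))) := inferInstance
  have hE₀ : IsDefectGroup p M B ((Pg : Subgroup (Subgroup.centralizer ({g} : Set G))).map
      (Subgroup.centralizer ({g} : Set G)).subtype) := ⟨g, hg, Pg, rfl⟩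
  obtain ⟨x, hx⟩ := conj_le_centralizer_of_centralChar_not_mem hM hB hg Pg (y : G) ⟨χ, hχ, hχy⟩
  have hcard₀ : Nat.card ((Pg : Subgroup (Subgroup.centralizer ({g} : Set G))).map
      (Subgroup.centralizer ({g} : Set G)).subtype) ≤ Nat.card D := by
    have h1 := card_le_of_le_centralizer Q _ ((isPGroup_map_sylow _ Pg).map _) hx
    rw [card_map_conj, ← hQ] at h1
    exact h1
  -- `D` lies in a defect group `E` of `B`, which has the same order
  obtain ⟨E, hE, hDE⟩ := exists_isDefectGroup_ge_of_induced hM _ hb hB hind _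
    ⟨y, hy, Py, hPy⟩
  rw [map_subgroupOf_normalizer] at hDE
  have hcardE : Nat.card E ≤ Nat.card D := by
    rw [isDefectGroup_card_eq hM hB hE₀ hE]
    exact hcard₀
  have : D = E := Subgroup.eq_of_le_of_card_ge hDE hcardE
  rw [this]
  exact hE

/-- **First Main Theorem, part (ii), existence**: a block of `G` with defect group `D` is induced
from a block of `N_G(D)` with defect group `D`. -/
theorem firstMain_exists_block (hM : IsPModular p M) (D : Subgroup G) (hD : IsPGroup p D)
    {B : Set (IrrCharacter G)} (hB : IsPBlock M B) (hDB : IsDefectGroup p M B D) :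
    ∃ b : Set (IrrCharacter (Subgroup.normalizer (D : Set G))), IsPBlock M b ∧
      IsDefectGroup p M b (D.subgroupOf (Subgroup.normalizer (D : Set G))) ∧
      IsInducedBlock M (Subgroup.normalizer (D : Set G)) b B := by
  classical
  have := Fintype.ofFinite G
  have := Fintype.ofFinite (Subgroup.normalizer (D : Set G))
  have hMp := isPrime_of_isPModular hM
  have hDN : D ≤ Subgroup.normalizer (D : Set G) := Subgroup.le_normalizer
  have hCN := centralizer_le_normalizer D
  obtain ⟨x₀, hx₀, P₀, hP₀⟩ := hDB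
  have hDx₀ : D ≤ Subgroup.centralizer ({x₀} : Set G) := by
    rw [hP₀]; exact map_sylow_le _ P₀
  have hx₀C : x₀ ∈ Subgroup.centralizer (D : Set G) := by
    rw [Subgroup.mem_centralizer_iff]
    intro d hd
    exact (Subgroup.mem_centralizer_iff.1 (hDx₀ hd) _ rfl).symm
  obtain ⟨b, hind, ha⟩ := exists_block_inducing hM hD hDN hCN le_rfl hB
    (⟨x₀, hCN hx₀C⟩ : Subgroup.normalizer (D : Set G)) hx₀C hx₀.2.1
  have hb := hind.1
  refine ⟨b, hb, ?_, hind⟩
  obtain ⟨y, hy⟩ := exists_isDefectClass' (G := Subgroup.normalizer (D : Set G)) hMp hb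
  obtain ⟨Py⟩ : Nonempty (Sylow p (Subgroup.centralizer
    ({y} : Set (Subgroup.normalizer (D : Set G))))) := inferInstance
  set Db : Subgroup (Subgroup.normalizer (D : Set G)) :=
    (Py : Subgroup (Subgroup.centralizer ({y} : Set (Subgroup.normalizer (D : Set G))))).map
      (Subgroup.centralizer ({y} : Set (Subgroup.normalizer (D : Set G)))).subtype with hDb
  have hDb' : IsDefectGroup p M b Db := ⟨y, hy, Py, rfl⟩
  -- `D ≤ n Db n⁻¹` by the min-max theorem in `N`
  have hS : D.subgroupOf (Subgroup.normalizer (D : Set G)) ≤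
      Subgroup.centralizer ({(⟨x₀, hCN hx₀C⟩ : Subgroup.normalizer (D : Set G))} :
        Set (Subgroup.normalizer (D : Set G))) := by
    intro d hd
    rw [Subgroup.mem_centralizer_iff]
    intro z hz
    rw [Set.mem_singleton_iff] at hz
    subst hz
    have h1 : (d : G) ∈ Subgroup.centralizer ({x₀} : Set G) := hDx₀ hd
    exact Subtype.ext (Subgroup.mem_centralizer_iff.1 h1 _ rfl)
  obtain ⟨n, hn⟩ := le_conj_of_blockCoeff_not_mem hM hb hy Py _ ha _ hD.comap_subtype hS
  -- `|Db| ≤ |D|`
  obtain ⟨E, hE, hDbE⟩ := exists_isDefectGroup_ge_of_induced hM _ hb hB hind Db hDb'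
  have hcard : Nat.card Db ≤ Nat.card (D.subgroupOf (Subgroup.normalizer (D : Set G))) := by
    rw [card_subgroupOf_normalizer, isDefectGroup_card_eq hM hB hE ⟨x₀, hx₀, P₀, hP₀⟩,
      ← Subgroup.card_map_of_injective (K := Db)
        (Subgroup.normalizer (D : Set G)).subtype_injective]
    exact Subgroup.card_le_of_le hDbE
  have heq : D.subgroupOf (Subgroup.normalizer (D : Set G)) =
      Db.map (MulAut.conj n).toMonoidHom :=
    Subgroup.eq_of_le_of_card_ge hn (by rw [card_map_conj]; exact hcard)
  -- `Db = D` since `D` is normal in `N`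
  have hDbD : Db ≤ D.subgroupOf (Subgroup.normalizer (D : Set G)) := by
    intro d hd
    have h1 : n * d * n⁻¹ ∈ D.subgroupOf (Subgroup.normalizer (D : Set G)) := by
      rw [heq]; exact ⟨d, hd, rfl⟩
    have hnorm : (D.subgroupOf (Subgroup.normalizer (D : Set G))).Normal := inferInstance
    have h2 := hnorm.conj_mem _ h1 n⁻¹
    have h3 : n⁻¹ * (n * d * n⁻¹) * n⁻¹⁻¹ = d := by group
    rwa [h3] at h2
  have hfinal : D.subgroupOf (Subgroup.normalizer (D : Set G)) = Db := by
    refine (Subgroup.eq_of_le_of_card_ge hDbD ?_).symm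
    rw [heq, card_map_conj]
  exact ⟨y, hy, Py, hfinal⟩

theorem memLocalRing_centralChar (hM : M.IsPrime) {H : Type u} [Group H] [Finite H] {ξ : H → ℂ}
    (hξ : IsIrrCharacter H ξ) (h : H) : MemLocalRing M (centralChar ξ h) := by
  have := memLocalRing_algInt hM ⟨centralChar ξ h, isIntegral_centralChar_of_isIrrCharacter hξ h⟩
  simpa using this

/-- If a block of `N_G(D)` with defect group `D` has a unit central character at `l`, then `D`
centralizes `l`. -/
theorem le_centralizer_of_centralChar_not_mem (hM : IsPModular p M) (D : Subgroup G)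
    {b : Set (IrrCharacter (Subgroup.normalizer (D : Set G)))} (hb : IsPBlock M b)
    (hDb : IsDefectGroup p M b (D.subgroupOf (Subgroup.normalizer (D : Set G))))
    (l : Subgroup.normalizer (D : Set G))
    (h : ∃ ξ ∈ b, ¬ MemLocalIdeal M (centralChar ((ξ : IrrCharacter _) : _ → ℂ) l)) :
    D.subgroupOf (Subgroup.normalizer (D : Set G)) ≤
      Subgroup.centralizer ({l} : Set (Subgroup.normalizer (D : Set G))) := by
  obtain ⟨y, hy, Py, hPy⟩ := hDb
  obtain ⟨n, hn⟩ := conj_le_centralizer_of_centralChar_not_mem hM hb hy Py l h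
  rw [← hPy] at hn
  intro d hd
  apply hn
  have hnorm : (D.subgroupOf (Subgroup.normalizer (D : Set G))).Normal := inferInstance
  refine ⟨n⁻¹ * d * n⁻¹⁻¹, hnorm.conj_mem d hd n⁻¹, ?_⟩
  simp only [MulEquiv.coe_toMonoidHom, MulAut.conj_apply]
  group

/-- **First Main Theorem, part (ii), uniqueness.** -/
theorem firstMain_unique (hM : IsPModular p M) (D : Subgroup G) (hD : IsPGroup p D)
    {B : Set (IrrCharacter G)} (hB : IsPBlock M B)
    {b₁ b₂ : Set (IrrCharacter (Subgroup.normalizer (D : Set G)))}
    (hb₁ : IsPBlock M b₁)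
    (hD₁ : IsDefectGroup p M b₁ (D.subgroupOf (Subgroup.normalizer (D : Set G))))
    (h₁ : IsInducedBlock M (Subgroup.normalizer (D : Set G)) b₁ B)
    (hb₂ : IsPBlock M b₂)
    (hD₂ : IsDefectGroup p M b₂ (D.subgroupOf (Subgroup.normalizer (D : Set G))))
    (h₂ : IsInducedBlock M (Subgroup.normalizer (D : Set G)) b₂ B) : b₁ = b₂ := by
  classical
  have := Fintype.ofFinite G
  have := Fintype.ofFinite (Subgroup.normalizer (D : Set G))
  have := Fintype.ofFinite (ConjClasses (Subgroup.normalizer (D : Set G)))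
  have hMp := isPrime_of_isPModular hM
  have hcN := charFacts (G := Subgroup.normalizer (D : Set G))
  have hDN : D ≤ Subgroup.normalizer (D : Set G) := Subgroup.le_normalizer
  obtain ⟨ξ₁, hξ₁⟩ := isPBlock_nonempty hMp hb₁
  obtain ⟨ξ₂, hξ₂⟩ := isPBlock_nonempty hMp hb₂
  obtain ⟨χ, hχ⟩ := isPBlock_nonempty hMp hB
  have hξ₁c := isIrrCharacter_isClassFunction ξ₁.2
  have hξ₂c := isIrrCharacter_isClassFunction ξ₂.2
  have heR : ∀ l, MemLocalRing M (blockCoeff b₁ l) := osima_block hcN hMp hb₁
  -- the central characters of `ξ₁` and `ξ₂` agree wherever `e_{b₁}` is a unit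
  have hcc : ∀ l : Subgroup.normalizer (D : Set G), ¬ MemLocalIdeal M (blockCoeff b₁ l) →
      MemLocalIdeal M (centralChar (ξ₁ : _ → ℂ) l - centralChar (ξ₂ : _ → ℂ) l) := by
    intro l ha
    -- it is enough to know that `D` centralizes `l`
    have hfin : D.subgroupOf (Subgroup.normalizer (D : Set G)) ≤
        Subgroup.centralizer ({l} : Set (Subgroup.normalizer (D : Set G))) →
        MemLocalIdeal M (centralChar (ξ₁ : _ → ℂ) l - centralChar (ξ₂ : _ → ℂ) l) := by
      intro hDl'
      have hDl : D ≤ Subgroup.centralizer ({(l : G)} : Set G) := by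
        intro d hd
        have h3 := Subgroup.mem_centralizer_iff.1
          (hDl' (show (⟨d, hDN hd⟩ : Subgroup.normalizer (D : Set G)) ∈ D.subgroupOf _ by
            simpa [Subgroup.mem_subgroupOf] using hd)) l rfl
        rw [Subgroup.mem_centralizer_iff]
        intro z hz
        rw [Set.mem_singleton_iff] at hz
        subst hz
        exact congrArg Subtype.val h3
      have hlC : (l : G) ∈ Subgroup.centralizer (D : Set G) := by
        rw [Subgroup.mem_centralizer_iff]
        intro d hd
        exact (Subgroup.mem_centralizer_iff.1 (hDl hd) _ rfl).symm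
      have hmax : ∀ T : Subgroup G, IsPGroup p T → D ≤ T →
          T ≤ Subgroup.normalizer (D : Set G) →
          T ≤ Subgroup.centralizer ({(l : G)} : Set G) → T = D := by
        intro T hT hDT hTN hTl
        obtain ⟨y₁, hy₁, Py₁, hPy₁⟩ := hD₁
        have hT'C : T.subgroupOf (Subgroup.normalizer (D : Set G)) ≤
            Subgroup.centralizer ({l} : Set (Subgroup.normalizer (D : Set G))) := by
          intro t ht
          rw [Subgroup.mem_centralizer_iff]
          intro z hz
          rw [Set.mem_singleton_iff] at hz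
          subst hz
          have h1 : (t : G) ∈ Subgroup.centralizer ({(z : G)} : Set G) := hTl ht
          exact Subtype.ext (Subgroup.mem_centralizer_iff.1 h1 _ rfl)
        obtain ⟨n, hn⟩ := le_conj_of_blockCoeff_not_mem hM hb₁ hy₁ Py₁ l ha _
          hT.comap_subtype hT'C
        rw [← hPy₁] at hn
        have h4 : T.subgroupOf (Subgroup.normalizer (D : Set G)) ≤
            D.subgroupOf (Subgroup.normalizer (D : Set G)) := le_of_le_map_conj D n hn
        have h5 := Subgroup.map_mono (f := (Subgroup.normalizer (D : Set G)).subtype) h4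
        rw [Subgroup.map_subgroupOf_eq_of_le hTN, map_subgroupOf_normalizer] at h5
        exact le_antisymm h5 hDT
      obtain ⟨-, hfus⟩ := fusion_of_max hD l hDl hmax
      rw [← brauerCentralChar_eq_centralChar D l hlC hfus hξ₁c,
        ← brauerCentralChar_eq_centralChar D l hlC hfus hξ₂c]
      have a1 := memLocalIdeal_induced_sub_brauer hM D _ hD hDN le_rfl ξ₁.2 (l : G)
      have a2 := memLocalIdeal_induced_sub_brauer hM D _ hD hDN le_rfl ξ₂.2 (l : G)
      have c1 := h₁.2.2 ξ₁ hξ₁ χ hχ (l : G)
      have c2 := h₂.2.2 ξ₂ hξ₂ χ hχ (l : G)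
      have h6 := memLocalIdeal_add hMp (memLocalIdeal_sub hMp (memLocalIdeal_sub hMp c1 a1) c2) a2
      have h7 : inducedCentralChar (Subgroup.normalizer (D : Set G)) (ξ₁ : _ → ℂ) (l : G) -
          centralChar (χ : G → ℂ) (l : G) -
          (inducedCentralChar (Subgroup.normalizer (D : Set G)) (ξ₁ : _ → ℂ) (l : G) -
            brauerCentralChar D (Subgroup.normalizer (D : Set G)) (ξ₁ : _ → ℂ) (l : G)) -
          (inducedCentralChar (Subgroup.normalizer (D : Set G)) (ξ₂ : _ → ℂ) (l : G) -
            centralChar (χ : G → ℂ) (l : G)) +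
          (inducedCentralChar (Subgroup.normalizer (D : Set G)) (ξ₂ : _ → ℂ) (l : G) -
            brauerCentralChar D (Subgroup.normalizer (D : Set G)) (ξ₂ : _ → ℂ) (l : G)) =
          brauerCentralChar D (Subgroup.normalizer (D : Set G)) (ξ₁ : _ → ℂ) (l : G) -
          brauerCentralChar D (Subgroup.normalizer (D : Set G)) (ξ₂ : _ → ℂ) (l : G) := by ring
      rwa [h7] at h6
    by_cases hu₁ : MemLocalIdeal M (centralChar (ξ₁ : _ → ℂ) l)
    · by_cases hu₂ : MemLocalIdeal M (centralChar (ξ₂ : _ → ℂ) l)
      · exact memLocalIdeal_sub hMp hu₁ hu₂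
      · exact hfin (le_centralizer_of_centralChar_not_mem hM D hb₂ hD₂ l ⟨ξ₂, hξ₂, hu₂⟩)
    · exact hfin (le_centralizer_of_centralChar_not_mem hM D hb₁ hD₁ l ⟨ξ₁, hξ₁, hu₁⟩)
  -- hence `ω_{ξ₁}(e_{b₁}) ≡ ω_{ξ₂}(e_{b₁})`
  have hkey : MemLocalIdeal M (omega (ξ₁ : _ → ℂ) (blockCoeff b₁) -
      omega (ξ₂ : _ → ℂ) (blockCoeff b₁)) := by
    rw [omega_eq_sum_conjClasses hξ₁c (blockCoeff_isClassFunction b₁),
      omega_eq_sum_conjClasses hξ₂c (blockCoeff_isClassFunction b₁), ← Finset.sum_sub_distrib]
    refine memLocalIdeal_sum hMp _ _ fun c _ => ?_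
    rw [← mul_sub]
    by_cases ha : MemLocalIdeal M (blockCoeff b₁ c.out)
    · exact memLocalIdeal_mul_right hMp ha (memLocalRing_sub hMp
        (memLocalRing_centralChar hMp ξ₁.2 _) (memLocalRing_centralChar hMp ξ₂.2 _))
    · exact memLocalIdeal_mul_left hMp (heR _) (hcc _ ha)
  rw [omega_blockCoeff hcN, omega_blockCoeff hcN, Set.indicator_of_mem hξ₁] at hkey
  have hξ₂b₁ : ξ₂ ∈ b₁ := by
    by_contra hne
    rw [Set.indicator_of_notMem hne, sub_zero] at hkey
    exact not_memLocalIdeal_one hMp hkey
  exact isPBlock_eq_of_mem_of_mem hMp hb₁ hb₂ hξ₂b₁ hξ₂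

end Cfsg.Agent.Lib.Helper78_FirstMain
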