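import Mathlib
import Cfsg.Prelude.Def_Blocks
import Cfsg.Agent.Lib.Helper78_LocalRing
import Cfsg.Agent.Lib.Helper78_CentralChar
import Cfsg.Agent.Lib.Helper78_MinMax
import Cfsg.Agent.Lib.Helper78_Defect
import Cfsg.Agent.Lib.Helper78_FirstMain
import Cfsg.Agent.Lib.Helper78_FirstMainGT
import Cfsg.Agent.Lib.Helper16_Vanish
import Cfsg.Agent.Lib.Helper16_CentralDefect

/-!
# Classes with unit central character meet the centre of the defect group (helper16)

`exists_conj_centralizing` (S0929): if `P` is a defect group of `B` and the central character of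
`B` at `g` is a unit, some conjugate `x` of `g` centralizes `P` and has its `p`-part in `Z(P)`.
-/

set_option autoImplicit false
set_option linter.unusedSectionVars false

namespace Cfsg.Agent.Lib.Helper16_CentralFusion

open Cfsg Cfsg.Agent.Lib.Helper78_LocalRing Cfsg.Agent.Lib.Helper78_CentralChar
  Cfsg.Agent.Lib.Helper78_MinMax Cfsg.Agent.Lib.Helper78_Defect
  Cfsg.Agent.Lib.Helper78_FirstMain Cfsg.Agent.Lib.Helper78_FirstMainGT
  Cfsg.Agent.Lib.Helper16_Vanish Cfsg.Agent.Lib.Helper16_CentralDefect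

/-- In a block with a normal defect group `D`, a unit central character at `l` forces the `p`-part
of `l` into `D`.  Stated for `N = N_G(D)`. -/
theorem ppart_mem_of_centralChar_not_mem {G : Type*} [Group G] [Finite G] {p : ℕ} [Fact p.Prime]
    {M : Ideal AlgInt} (hM : IsPModular p M) (D : Subgroup G)
    {b : Set (IrrCharacter (Subgroup.normalizer (D : Set G)))} (hb : IsPBlock M b)
    (hDb : IsDefectGroup p M b (D.subgroupOf (Subgroup.normalizer (D : Set G))))
    (l z : Subgroup.normalizer (D : Set G)) (hz : IsPPart p l z)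
    (h : ∃ ξ ∈ b, ¬ MemLocalIdeal M (centralChar ((ξ : IrrCharacter _) : _ → ℂ) l)) :
    (z : G) ∈ D := by
  have hMp : M.IsPrime := hM.2.1.isPrime
  obtain ⟨ξ, hξ, hl⟩ := h
  have hne : ((ξ : IrrCharacter _) : _ → ℂ) l ≠ 0 := by
    intro h0
    apply hl
    unfold centralChar
    rw [h0, mul_zero, zero_div]
    exact memLocalIdeal_zero hMp
  have hex : ∃ E : Subgroup (Subgroup.normalizer (D : Set G)), IsDefectGroup p M b E ∧ z ∈ E := by
    by_contra hcon
    push Not at hcon
    exact hne (irr_eq_zero_of_not_mem_defectGroup hM hb ξ hξ hz hcon)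
  obtain ⟨E, ⟨y', hy', P', hEP'⟩, hzE⟩ := hex
  obtain ⟨y, hy, Py, hPy⟩ := hDb
  have hEp : IsPGroup p E := by
    rw [hEP']
    exact isPGroup_map_sylow _ P'
  have hEle : E ≤ Subgroup.centralizer ({y'} : Set (Subgroup.normalizer (D : Set G))) := by
    rw [hEP']
    exact map_sylow_le _ P'
  obtain ⟨n, hn⟩ := le_conj_of_blockCoeff_not_mem hM hb hy Py y' hy'.2.1 E hEp hEle
  rw [← hPy] at hn
  have := le_of_le_map_conj D n hn hzE
  rwa [Subgroup.mem_subgroupOf] at this

/-- **S0929.** -/
theorem exists_conj_centralizing {G : Type*} [Group G] [Finite G] {p : ℕ} [Fact p.Prime]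
    {M : Ideal AlgInt} (hM : IsPModular p M) {B : Set (IrrCharacter G)} (hB : IsPBlock M B)
    {P : Subgroup G} (hP : IsDefectGroup p M B P) (g : G)
    (hg : ∃ χ ∈ B, ¬ MemLocalIdeal M (centralChar ((χ : IrrCharacter G) : G → ℂ) g)) :
    ∃ x : G, IsConj g x ∧ x ∈ Subgroup.centralizer (P : Set G) ∧
      ∀ z : G, IsPPart p x z → z ∈ P ∧ ∀ w ∈ P, z * w = w * z := by
  have hMp : M.IsPrime := hM.2.1.isPrime
  have hPp : IsPGroup p P := isDefectGroup_isPGroup hP
  obtain ⟨b, hb, hDb, hind⟩ := firstMain_exists_block hM P hPp hB hP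
  obtain ⟨χ, hχ, hχg⟩ := hg
  obtain ⟨ξ, hξ⟩ := isPBlock_nonempty hMp hb
  have hξc := isIrrCharacter_isClassFunction ξ.2
  have h1 : ¬ MemLocalIdeal M
      (inducedCentralChar (Subgroup.normalizer (P : Set G)) (ξ : _ → ℂ) g) := by
    intro h
    apply hχg
    have h2 := memLocalIdeal_sub hMp h (hind.2.2 ξ hξ χ hχ g)
    rwa [sub_sub_cancel] at h2
  obtain ⟨l, hgl, hl⟩ := exists_class_of_inducedCentralChar_not_mem hMp _ hξc g h1
  have hPl := le_centralizer_of_centralChar_not_mem hM P hb hDb l ⟨ξ, hξ, hl⟩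
  have hcomm : ∀ d ∈ P, d * (l : G) = (l : G) * d := by
    intro d hd
    have hdN : d ∈ Subgroup.normalizer (P : Set G) := Subgroup.le_normalizer hd
    have h2 : (⟨d, hdN⟩ : Subgroup.normalizer (P : Set G)) ∈
        P.subgroupOf (Subgroup.normalizer (P : Set G)) := by
      rw [Subgroup.mem_subgroupOf]
      exact hd
    have h3 := hPl h2
    rw [Subgroup.mem_centralizer_iff] at h3
    have h4 := h3 l rfl
    exact (congrArg Subtype.val h4).symm
  refine ⟨(l : G), hgl, ?_, ?_⟩
  · rw [Subgroup.mem_centralizer_iff]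
    intro d hd
    exact hcomm d hd
  · intro z hz
    obtain ⟨y', hzy, hzc, ⟨k, hk⟩, hy'⟩ := hz
    have hp : p.Prime := Fact.out
    have hcop : Nat.Coprime (orderOf y') (orderOf z) := by
      rw [hk]
      apply Nat.Coprime.pow_right
      rw [Nat.coprime_comm]
      exact (Nat.Prime.coprime_iff_not_dvd hp).mpr hy'
    obtain ⟨E, hE⟩ := exists_pow_eq_right hzc.symm hcop (orderOf_pos z).ne'
    have hE' : (l : G) ^ E = z := by
      rw [← hzy, hzc.eq]
      exact hE
    -- `z` as an element of the normalizer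
    set zN : Subgroup.normalizer (P : Set G) := l ^ E with hzN
    have hzNz : (zN : G) = z := by
      rw [hzN]
      push_cast
      exact hE'
    constructor
    · rw [← hzNz]
      apply ppart_mem_of_centralChar_not_mem hM P hb hDb l zN _ ⟨ξ, hξ, hl⟩
      refine ⟨zN⁻¹ * l, by group, ?_, ⟨k, ?_⟩, ?_⟩
      · rw [hzN]
        exact (Commute.refl (l ^ E)).inv_right.mul_right ((Commute.refl l).pow_left E)
      · rw [← hk, ← hzNz]
        exact (Subgroup.orderOf_coe zN).symm
      · have : ((zN⁻¹ * l : Subgroup.normalizer (P : Set G)) : G) = y' := by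
          push_cast
          rw [hzNz, ← hzy]
          group
        rw [← Subgroup.orderOf_coe, this]
        exact hy'
    · intro w hw
      rw [← hE']
      exact ((Commute.pow_right (show Commute w (l : G) from hcomm w hw) E)).eq.symm

end Cfsg.Agent.Lib.Helper16_CentralFusion
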