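import Mathlib
import Cfsg.Prelude.Def_Blocks
import Cfsg.Agent.Lib.Helper78_LocalRing
import Cfsg.Agent.Lib.Helper78_CentralChar
import Cfsg.Agent.Lib.Helper78_Defect
import Cfsg.Agent.Lib.Helper78_FirstMainGT
import Cfsg.Agent.Lib.Helper77_DefectOrder
import Cfsg.Agent.Lib.Helper16_CentralDefect
import Cfsg.Agent.Lib.Helper16_CentralFusion
import Cfsg.Agent.Lib.Helper16_HeightZero

/-!
# Induced blocks: fusion of the centres of the defect groups, defect zero (helper16)

* `isPPart_subgroup` : `p`-parts of elements of a subgroup lie in the subgroup.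
* `isPPart_conj` : conjugates of `p`-parts.
* `exists_conj_mem_center_of_induced` (S0930).
* `blockDefect_eq_zero_iff_of_induced` (S0931).
-/

set_option autoImplicit false
set_option linter.unusedSectionVars false

namespace Cfsg.Agent.Lib.Helper16_InducedFusion

open Cfsg Cfsg.Agent.Lib.Helper78_LocalRing Cfsg.Agent.Lib.Helper78_CentralChar
  Cfsg.Agent.Lib.Helper78_Defect Cfsg.Agent.Lib.Helper78_FirstMainGT
  Cfsg.Agent.Lib.Helper16_CentralDefect Cfsg.Agent.Lib.Helper16_CentralFusion
  Cfsg.Agent.Lib.Helper16_HeightZero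

/-- The `p`-part of an element of a subgroup lies in the subgroup. -/
theorem isPPart_subgroup {G : Type*} [Group G] [Finite G] {p : ℕ} (hp : p.Prime)
    {H : Subgroup G} (l : H) (z : G) (hz : IsPPart p (l : G) z) :
    ∃ z' : H, (z' : G) = z ∧ IsPPart p l z' := by
  obtain ⟨y', hzy, hzc, ⟨k, hk⟩, hy'⟩ := hz
  have hcop : Nat.Coprime (orderOf y') (orderOf z) := by
    rw [hk]
    apply Nat.Coprime.pow_right
    rw [Nat.coprime_comm]
    exact (Nat.Prime.coprime_iff_not_dvd hp).mpr hy'
  obtain ⟨E, hE⟩ := exists_pow_eq_right hzc.symm hcop (orderOf_pos z).ne'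
  have hE' : (l : G) ^ E = z := by
    rw [← hzy, hzc.eq]
    exact hE
  have hzNz : ((l ^ E : H) : G) = z := by
    push_cast
    exact hE'
  refine ⟨l ^ E, hzNz, (l ^ E)⁻¹ * l, by group, ?_, ⟨k, ?_⟩, ?_⟩
  · exact (Commute.refl (l ^ E)).inv_right.mul_right ((Commute.refl l).pow_left E)
  · rw [← hk, ← hzNz]
    exact (Subgroup.orderOf_coe (l ^ E)).symm
  · have : (((l ^ E)⁻¹ * l : H) : G) = y' := by
      push_cast
      rw [hE', ← hzy]
      group
    rw [← Subgroup.orderOf_coe, this]
    exact hy'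

/-- Conjugates of `p`-parts are `p`-parts. -/
theorem isPPart_conj {G : Type*} [Group G] {p : ℕ} {g x : G} (h : IsPPart p g x) (s : G) :
    IsPPart p (s * g * s⁻¹) (s * x * s⁻¹) := by
  obtain ⟨y, hxy, hc, ⟨k, hk⟩, hy⟩ := h
  refine ⟨s * y * s⁻¹, ?_, ?_, ⟨k, ?_⟩, ?_⟩
  · rw [← hxy]; group
  · show s * x * s⁻¹ * (s * y * s⁻¹) = s * y * s⁻¹ * (s * x * s⁻¹)
    calc s * x * s⁻¹ * (s * y * s⁻¹) = s * (x * y) * s⁻¹ := by group
      _ = s * (y * x) * s⁻¹ := by rw [hc.eq]
      _ = s * y * s⁻¹ * (s * x * s⁻¹) := by group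
  · rw [← hk]
    exact (MulAut.conj s).orderOf_eq x
  · have : orderOf (s * y * s⁻¹) = orderOf y := (MulAut.conj s).orderOf_eq y
    rw [this]
    exact hy

/-- `p`-parts are unique. -/
theorem isPPart_unique {G : Type*} [Group G] [Finite G] {p : ℕ} (hp : p.Prime) {g x x' : G}
    (h : IsPPart p g x) (h' : IsPPart p g x') : x = x' := by
  have h1 : ((Cfsg.Agent.Lib.Helper77_WeakOrth.twoSided g g) ^ 1) (1 : G) = 1 := by
    rw [Cfsg.Agent.Lib.Helper77_WeakOrth.twoSided_pow_apply]
    group
  have h2 := Cfsg.Agent.Lib.Helper16_Vanish.twoSided_fixed_imp hp h h' 1 1 h1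
    (by
      intro hd
      exact hp.one_lt.ne' (Nat.dvd_one.mp hd))
  simpa using h2

/-- **S0930**: if `b` (with defect group `D`) induces `B` (with defect group `P`), every element of
`Z(P)` is conjugate to an element of `Z(D)`. -/
theorem exists_conj_mem_center_of_induced {G : Type*} [Group G] [Finite G] {p : ℕ}
    [Fact p.Prime] {M : Ideal AlgInt} (hM : IsPModular p M) (H : Subgroup G)
    {b : Set (IrrCharacter H)} {B : Set (IrrCharacter G)} (hind : IsInducedBlock M H b B)
    {D : Subgroup H} (hD : IsDefectGroup p M b D) {P : Subgroup G}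
    (hP : IsDefectGroup p M B P) (x : G) (hx : x ∈ P) (hxc : ∀ w ∈ P, x * w = w * x) :
    ∃ g : G, g * x * g⁻¹ ∈ D.map H.subtype ∧
      ∀ w ∈ D.map H.subtype, (g * x * g⁻¹) * w = w * (g * x * g⁻¹) := by
  have hp : p.Prime := Fact.out
  have hMp : M.IsPrime := hM.2.1.isPrime
  obtain ⟨hb, hB, hcong⟩ := hind
  obtain ⟨y, hy, Py, hPy⟩ := hP
  rw [hPy] at hx
  obtain ⟨x', hx'P, hx'x⟩ := hx
  have hcen : ∀ w ∈ (Py : Subgroup (Subgroup.centralizer ({y} : Set G))), x' * w = w * x' := by
    intro w hw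
    apply Subtype.ext
    push_cast
    have hwP : (w : G) ∈ P := by
      rw [hPy]
      exact ⟨w, hw, rfl⟩
    have := hxc (w : G) hwP
    rw [← hx'x] at this
    exact this
  obtain ⟨χ, hχ⟩ := isPBlock_nonempty hMp hB
  obtain ⟨ξ, hξ⟩ := isPBlock_nonempty hMp hb
  have hξc := isIrrCharacter_isClassFunction ξ.2
  have hunit := centralChar_not_memLocalIdeal_mul hM hB hy Py x' hx'P hcen χ hχ
  have hx'x' : ((x' : Subgroup.centralizer ({y} : Set G)) : G) = x := hx'x
  rw [hx'x'] at hunit
  have h1 : ¬ MemLocalIdeal M (inducedCentralChar H (ξ : H → ℂ) (x * y)) := by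
    intro h
    apply hunit
    have h2 := memLocalIdeal_sub hMp h (hcong ξ hξ χ hχ (x * y))
    rwa [sub_sub_cancel] at h2
  obtain ⟨l, hgl, hl⟩ := exists_class_of_inducedCentralChar_not_mem hMp H hξc (x * y) h1
  obtain ⟨l', hll', -, hl'z⟩ := exists_conj_centralizing hM hb hD l ⟨ξ, hξ, hl⟩
  -- `l'` is `G`-conjugate to `x * y`
  obtain ⟨t, ht⟩ := isConj_iff.mp hll'
  obtain ⟨s, hs⟩ := isConj_iff.mp hgl
  have hconj : ((t : G) * s) * (x * y) * ((t : G) * s)⁻¹ = (l' : G) := by
    rw [← ht]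
    push_cast
    rw [← hs]
    group
  -- the `p`-part of `x * y` is `x`
  have hxy : x * y = y * x := by
    rw [← hx'x]
    have := x'.2
    rw [Subgroup.mem_centralizer_iff] at this
    exact (this y (Set.mem_singleton _)).symm
  obtain ⟨k, hk⟩ := exists_orderOf_eq_pow_of_mem Py.isPGroup' hx'P
  have hk' : orderOf x = p ^ k := by
    rw [← hk, ← hx'x]
    exact (Subgroup.orderOf_coe x')
  have hreg := not_dvd_orderOf_of_defectClass hM hB hy
  have hpp : IsPPart p (x * y) x := ⟨y, rfl, hxy, ⟨k, hk'⟩, hreg⟩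
  have hpp' := isPPart_conj hpp ((t : G) * s)
  rw [hconj] at hpp'
  obtain ⟨z', hz'z, hz'⟩ := isPPart_subgroup hp l' _ hpp'
  obtain ⟨hz'D, hz'c⟩ := hl'z z' hz'
  refine ⟨(t : G) * s, ?_, ?_⟩
  · rw [← hz'z]
    exact ⟨z', hz'D, rfl⟩
  · rintro _ ⟨w, hw, rfl⟩
    rw [← hz'z]
    have := congrArg Subtype.val (hz'c w hw)
    simpa using this

/-- The order of a defect group is `p` to the defect. -/
theorem card_eq_pow_blockDefect {G : Type*} [Group G] [Finite G] {p : ℕ}
    [Fact p.Prime] {M : Ideal AlgInt} (hM : IsPModular p M) {B : Set (IrrCharacter G)}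
    (hB : IsPBlock M B) {P : Subgroup G} (hP : IsDefectGroup p M B P) :
    Nat.card P = p ^ blockDefect p B := by
  obtain ⟨y, hy, Py, rfl⟩ := hP
  rw [← Cfsg.Agent.Lib.Helper77_DefectOrder.card_defectGroup hM hB hy]
  rw [Nat.card_congr ((Py : Subgroup (Subgroup.centralizer ({y} : Set G))).equivMapOfInjective
    (Subgroup.centralizer ({y} : Set G)).subtype
    (Subgroup.centralizer ({y} : Set G)).subtype_injective).symm.toEquiv]
  exact Py.card_eq_multiplicity

/-- Every block has a defect group. -/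
theorem exists_isDefectGroup {G : Type*} [Group G] [Finite G] {p : ℕ}
    [Fact p.Prime] {M : Ideal AlgInt} (hM : IsPModular p M) {B : Set (IrrCharacter G)}
    (hB : IsPBlock M B) : ∃ P : Subgroup G, IsDefectGroup p M B P := by
  obtain ⟨y, hy⟩ := Cfsg.Agent.Lib.Helper78_CharFacts.exists_isDefectClass' hM.2.1.isPrime hB
  obtain ⟨Py⟩ : Nonempty (Sylow p (Subgroup.centralizer ({y} : Set G))) := inferInstance
  exact ⟨_, y, hy, Py, rfl⟩

theorem blockDefect_eq_zero_iff_card {G : Type*} [Group G] [Finite G] {p : ℕ}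
    [Fact p.Prime] {M : Ideal AlgInt} (hM : IsPModular p M) {B : Set (IrrCharacter G)}
    (hB : IsPBlock M B) {P : Subgroup G} (hP : IsDefectGroup p M B P) :
    blockDefect p B = 0 ↔ P = ⊥ := by
  have hp : p.Prime := Fact.out
  have hc := card_eq_pow_blockDefect hM hB hP
  constructor
  · intro h
    rw [h, pow_zero] at hc
    exact Subgroup.card_eq_one.mp hc
  · intro h
    rw [h, Subgroup.card_bot] at hc
    by_contra hne
    have : 1 < p ^ blockDefect p B := Nat.one_lt_pow hne hp.one_lt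
    omega

/-- **S0931**: if `b` induces `B` then `b` has defect zero iff `B` has. -/
theorem blockDefect_eq_zero_iff_of_induced {G : Type*} [Group G] [Finite G] {p : ℕ}
    [Fact p.Prime] {M : Ideal AlgInt} (hM : IsPModular p M) (H : Subgroup G)
    {b : Set (IrrCharacter H)} {B : Set (IrrCharacter G)} (hind : IsInducedBlock M H b B) :
    blockDefect p b = 0 ↔ blockDefect p B = 0 := by
  have hb := hind.1
  have hB := hind.2.1
  obtain ⟨D, hD⟩ := exists_isDefectGroup hM hb
  obtain ⟨P, hP⟩ := exists_isDefectGroup hM hB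
  rw [blockDefect_eq_zero_iff_card hM hb hD, blockDefect_eq_zero_iff_card hM hB hP]
  constructor
  · intro hD0
    by_contra hP0
    have hPp : IsPGroup p P := isDefectGroup_isPGroup hP
    have hnt : Nontrivial P := (Subgroup.nontrivial_iff_ne_bot P).mpr hP0
    have hcen : Nontrivial (Subgroup.center P) := hPp.center_nontrivial
    obtain ⟨c, hc⟩ := exists_ne (1 : Subgroup.center P)
    have hxc : ∀ w ∈ P, ((c : P) : G) * w = w * ((c : P) : G) := by
      intro w hw
      have := c.2
      rw [Subgroup.mem_center_iff] at this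
      have h1 := this ⟨w, hw⟩
      have := congrArg Subtype.val h1
      simpa using this.symm
    obtain ⟨g, hg, -⟩ := exists_conj_mem_center_of_induced hM H hind hD hP ((c : P) : G)
      (c : P).2 hxc
    rw [hD0, Subgroup.map_bot, Subgroup.mem_bot] at hg
    have h1 : ((c : P) : G) = 1 := by
      have : ((c : P) : G) = g⁻¹ * (g * ((c : P) : G) * g⁻¹) * g := by group
      rw [this, hg]
      group
    apply hc
    apply Subtype.ext
    apply Subtype.ext
    simpa using h1
  · intro hP0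
    obtain ⟨E, hE, hDE⟩ := exists_isDefectGroup_ge_of_induced hM H hb hB hind D hD
    have hE0 : E = ⊥ := by
      rw [← blockDefect_eq_zero_iff_card hM hB hE, blockDefect_eq_zero_iff_card hM hB hP]
      exact hP0
    rw [hE0, le_bot_iff] at hDE
    exact (Subgroup.map_eq_bot_iff_of_injective D H.subtype_injective).mp hDE

end Cfsg.Agent.Lib.Helper16_InducedFusion
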