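import Mathlib
import Cfsg.Prelude.Def_Blocks
import Cfsg.Agent.Lib.Helper3_CharColumn
import Cfsg.Agent.Lib.Helper3_CharOrtho
import Cfsg.Agent.Lib.Helper75_Clifford
import Cfsg.Agent.Lib.Helper78_PartA
import Cfsg.Agent.Lib.Helper16_InducedFusion
import Cfsg.Agent.Lib.Helper16_BrauerSetup
import Cfsg.Agent.Lib.Helper16_BrauerK
import Cfsg.Agent.Lib.Helper16_BrauerAut
import Cfsg.Agent.Lib.Helper16_GenSetup

/-!
# Blocks of defect one, general root: the elementary orthogonality relation (helper16)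

`P` a Sylow `p`-subgroup of order `p`, `C_G(P) = P × V`, `θ ∈ Irr(V)`, `T = stab hV θ` the
stabilizer of `θ` in `N_G(P)`.  For `1 ≠ h ∈ P` and `h' ∈ P`:

`∑_{χ ∈ Irr G} s_χ(h) conj (s_χ(h')) = p` if `h' = n h n⁻¹` for some `n ∈ T`, and `0` otherwise
(`K_formula`).  Only column orthogonality and uniqueness of `p`-parts are used.
-/

set_option autoImplicit false
set_option linter.unusedSectionVars false

namespace Cfsg.Agent.Lib.Helper16_GenK

open Cfsg Cfsg.Agent.Lib.Helper16_BrauerSetup Cfsg.Agent.Lib.Helper16_GenSetup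
open scoped ComplexConjugate

variable {G : Type*} [Group G] [Fintype G] {p : ℕ} [hp : Fact p.Prime] {P : Sylow p G}
  {V : Subgroup G}

/-- Column orthogonality, counting conjugating elements. -/
theorem sum_irr_eq_card_conj [DecidableEq G] (a b : G) :
    ∑ χ : IrrCharacter G, (χ : G → ℂ) a * conj ((χ : G → ℂ) b) =
      ((Finset.univ.filter (fun g : G => g * a * g⁻¹ = b)).card : ℂ) := by
  rw [Cfsg.Agent.Lib.Helper3_CharColumn.column_orthogonality a b]
  split_ifs with h
  · obtain ⟨g0, hg0⟩ := isConj_iff.mp h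
    congr 1
    rw [← Fintype.card_subtype, ← Nat.card_eq_fintype_card]
    apply Nat.card_congr
    refine ⟨fun c => ⟨g0 * (c : G), ?_⟩, fun g => ⟨g0⁻¹ * (g : G), ?_⟩, ?_, ?_⟩
    · have hc : (c : G) * a = a * (c : G) := by
        have := Subgroup.mem_centralizer_iff.mp c.2 a (Set.mem_singleton a)
        exact this.symm
      calc g0 * (c : G) * a * (g0 * (c : G))⁻¹ = g0 * ((c : G) * a) * (c : G)⁻¹ * g0⁻¹ := by group
        _ = g0 * (a * (c : G)) * (c : G)⁻¹ * g0⁻¹ := by rw [hc]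
        _ = g0 * a * g0⁻¹ := by group
        _ = b := hg0
    · rw [Subgroup.mem_centralizer_iff]
      intro z hz
      rw [Set.mem_singleton_iff.mp hz]
      have hg : (g : G) * a * (g : G)⁻¹ = b := g.2
      have h1 : (g : G) * a = b * (g : G) := by
        calc (g : G) * a = ((g : G) * a * (g : G)⁻¹) * (g : G) := by group
          _ = b * (g : G) := by rw [hg]
      have h2 : g0 * a = b * g0 := by
        calc g0 * a = (g0 * a * g0⁻¹) * g0 := by group
          _ = b * g0 := by rw [hg0]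
      calc a * (g0⁻¹ * (g : G)) = g0⁻¹ * (g0 * a) * g0⁻¹ * (g : G) := by group
        _ = g0⁻¹ * (b * g0) * g0⁻¹ * (g : G) := by rw [h2]
        _ = g0⁻¹ * (b * (g : G)) := by group
        _ = g0⁻¹ * ((g : G) * a) := by rw [h1]
        _ = g0⁻¹ * (g : G) * a := by group
    · intro c
      apply Subtype.ext
      show g0⁻¹ * (g0 * (c : G)) = (c : G)
      group
    · intro g
      apply Subtype.ext
      show g0 * (g0⁻¹ * (g : G)) = (g : G)
      group
  · symm
    rw [Nat.cast_eq_zero, Finset.card_eq_zero, Finset.filter_eq_empty_iff]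
    intro g _ hg
    exact h (isConj_iff.mpr ⟨g, hg⟩)

/-- Conjugation by an element of `N_G(P)` on `V`. -/
def conjV (hV : IsPCompl P V) (n : G)
    (hn : n ∈ Subgroup.normalizer ((P : Subgroup G) : Set G)) : ↥V ≃* ↥V where
  toFun v := ⟨n * (v : G) * n⁻¹, hV.norm n hn v v.2⟩
  invFun v := ⟨n⁻¹ * (v : G) * n, by
    have := hV.norm n⁻¹ (Subgroup.inv_mem _ hn) v v.2
    simpa using this⟩
  left_inv v := by
    apply Subtype.ext
    show n⁻¹ * (n * (v : G) * n⁻¹) * n = (v : G)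
    group
  right_inv v := by
    apply Subtype.ext
    show n * (n⁻¹ * (v : G) * n) * n⁻¹ = (v : G)
    group
  map_mul' v w := by
    apply Subtype.ext
    show n * ((v : G) * (w : G)) * n⁻¹ = n * (v : G) * n⁻¹ * (n * (w : G) * n⁻¹)
    group

@[simp] theorem conjV_coe (hV : IsPCompl P V) (n : G)
    (hn : n ∈ Subgroup.normalizer ((P : Subgroup G) : Set G)) (v : ↥V) :
    ((conjV hV n hn v : ↥V) : G) = n * (v : G) * n⁻¹ := rfl

/-- The stabilizer of `θ` in `N_G(P)`. -/
def stab (hV : IsPCompl P V) (θ : IrrCharacter ↥V) : Subgroup G where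
  carrier := {n | n ∈ Subgroup.normalizer ((P : Subgroup G) : Set G) ∧
    ∀ v v' : ↥V, (v' : G) = n * (v : G) * n⁻¹ → (θ : ↥V → ℂ) v' = (θ : ↥V → ℂ) v}
  one_mem' := by
    refine ⟨Subgroup.one_mem _, fun v v' h => ?_⟩
    have : v' = v := Subtype.ext (by rw [h]; group)
    rw [this]
  mul_mem' := by
    rintro a b ⟨ha, ha'⟩ ⟨hb, hb'⟩
    refine ⟨Subgroup.mul_mem _ ha hb, fun v v' h => ?_⟩
    have h1 := hb' v (conjV hV b hb v) rfl
    have h2 := ha' (conjV hV b hb v) v' (by rw [h, conjV_coe]; group)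
    rw [h2, h1]
  inv_mem' := by
    rintro a ⟨ha, ha'⟩
    refine ⟨Subgroup.inv_mem _ ha, fun v v' h => ?_⟩
    have h1 := ha' v' v (by rw [h]; group)
    exact h1.symm

theorem mem_stab_iff (hV : IsPCompl P V) (θ : IrrCharacter ↥V) (n : G) :
    n ∈ stab hV θ ↔ n ∈ Subgroup.normalizer ((P : Subgroup G) : Set G) ∧
      ∀ v v' : ↥V, (v' : G) = n * (v : G) * n⁻¹ → (θ : ↥V → ℂ) v' = (θ : ↥V → ℂ) v := Iff.rfl

theorem stab_le_normalizer (hV : IsPCompl P V) (θ : IrrCharacter ↥V) :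
    stab hV θ ≤ Subgroup.normalizer ((P : Subgroup G) : Set G) := fun _ hn => hn.1

theorem mem_stab_iff' (hV : IsPCompl P V) (θ : IrrCharacter ↥V) (n : G)
    (hn : n ∈ Subgroup.normalizer ((P : Subgroup G) : Set G)) :
    n ∈ stab hV θ ↔ (fun v : ↥V => (θ : ↥V → ℂ) (conjV hV n hn v)) = (θ : ↥V → ℂ) := by
  constructor
  · rintro ⟨-, h⟩
    funext v
    exact h v (conjV hV n hn v) rfl
  · intro h
    refine ⟨hn, fun v v' hv => ?_⟩
    have : v' = conjV hV n hn v := Subtype.ext hv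
    rw [this]
    exact congrFun h v

/-- `C_G(P) ≤ T`. -/
theorem centralizer_le_stab (hV : IsPCompl P V) (θ : IrrCharacter ↥V) :
    Subgroup.centralizer ((P : Subgroup G) : Set G) ≤ stab hV θ := by
  intro c hc
  have hcN : c ∈ Subgroup.normalizer ((P : Subgroup G) : Set G) :=
    Subgroup.centralizer_le_normalizer _ hc
  refine ⟨hcN, fun v v' hv => ?_⟩
  obtain ⟨h, hh, w, hw, rfl⟩ := hV.prod c hc
  have hcomm : Commute h (v : G) := hV.commute ⟨h, hh⟩ v
  have : v' = ⟨w, hw⟩ * v * (⟨w, hw⟩ : ↥V)⁻¹ := by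
    apply Subtype.ext
    rw [hv]
    push_cast
    calc h * w * (v : G) * (h * w)⁻¹ = h * (w * (v : G) * w⁻¹) * h⁻¹ := by group
      _ = w * (v : G) * w⁻¹ := by
        have h2 : Commute h (w * (v : G) * w⁻¹) :=
          hV.commute ⟨h, hh⟩ (⟨w, hw⟩ * v * (⟨w, hw⟩ : ↥V)⁻¹)
        rw [h2.eq]; group
  rw [this]
  exact Cfsg.Agent.Lib.Helper3_CharBridge.isClassFunction_of_isIrrCharacter θ.2 v ⟨w, hw⟩

/-- An element conjugating a nontrivial element of `P` into `P` normalizes `P`. -/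
theorem mem_normalizer_of_conj_mem (hP : Nat.card P = p) {h : ↥(P : Subgroup G)} (hh : h ≠ 1)
    {g : G} (hg : g * (h : G) * g⁻¹ ∈ (P : Subgroup G)) :
    g ∈ Subgroup.normalizer ((P : Subgroup G) : Set G) := by
  have hfin : Finite ((P : Subgroup G) : Set G) := Set.toFinite _
  apply Subgroup.mem_normalizer_fintype
  intro z hz
  obtain ⟨k, hk⟩ := Cfsg.Agent.Lib.Helper16_BrauerAut.exists_zpow_eq P hP hh ⟨z, hz⟩
  have hz' : z = (h : G) ^ k := by
    have := congrArg Subtype.val hk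
    simpa using this.symm
  rw [hz']
  have : g * (h : G) ^ k * g⁻¹ = (g * (h : G) * g⁻¹) ^ k := by
    rw [conj_zpow]
  rw [this]
  exact Subgroup.zpow_mem _ hg k

/-- `|C_G(P)| = p |V|`. -/
theorem card_centralizer (hP : Nat.card P = p) (hV : IsPCompl P V) :
    Nat.card (Subgroup.centralizer ((P : Subgroup G) : Set G)) = p * Nat.card V := by
  have hcard : Nat.card (↥(P : Subgroup G) × ↥V) = p * Nat.card V := by
    rw [Nat.card_prod, hP]
  rw [← hcard]
  symm
  apply Nat.card_congr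
  have hPC : (P : Subgroup G) ≤ Subgroup.centralizer ((P : Subgroup G) : Set G) :=
    le_centralizer P hP
  have hmem : ∀ x : ↥(P : Subgroup G) × ↥V,
      prodHom hV x ∈ Subgroup.centralizer ((P : Subgroup G) : Set G) := fun x =>
    Subgroup.mul_mem _ (hPC x.1.2) (hV.le x.2.2)
  refine Equiv.ofBijective (fun x => ⟨prodHom hV x, hmem x⟩) ⟨?_, ?_⟩
  · intro x y hxy
    have h1 : (x.1 : G) * (x.2 : G) = (y.1 : G) * (y.2 : G) := congrArg Subtype.val hxy
    -- `y.1⁻¹ x.1 = y.2 x.2⁻¹ ∈ P ∩ V`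
    have h2 : (y.1 : G)⁻¹ * (x.1 : G) = (y.2 : G) * (x.2 : G)⁻¹ := by
      calc (y.1 : G)⁻¹ * (x.1 : G) = (y.1 : G)⁻¹ * ((x.1 : G) * (x.2 : G)) * (x.2 : G)⁻¹ := by
            group
        _ = (y.1 : G)⁻¹ * ((y.1 : G) * (y.2 : G)) * (x.2 : G)⁻¹ := by rw [h1]
        _ = (y.2 : G) * (x.2 : G)⁻¹ := by group
    have h3 : (y.1 : G)⁻¹ * (x.1 : G) ∈ (P : Subgroup G) :=
      Subgroup.mul_mem _ (Subgroup.inv_mem _ y.1.2) x.1.2
    have h4 : (y.1 : G)⁻¹ * (x.1 : G) ∈ V := by
      rw [h2]; exact Subgroup.mul_mem _ y.2.2 (Subgroup.inv_mem _ x.2.2)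
    have h5 : (y.1 : G)⁻¹ * (x.1 : G) = 1 := by
      have ho1 : orderOf ((y.1 : G)⁻¹ * (x.1 : G)) ∣ p := by
        have := Subgroup.orderOf_dvd_natCard _ h3
        rwa [hP] at this
      have ho2 : orderOf ((y.1 : G)⁻¹ * (x.1 : G)) ∣ Nat.card V :=
        Subgroup.orderOf_dvd_natCard _ h4
      have ho3 : orderOf ((y.1 : G)⁻¹ * (x.1 : G)) ∣ 1 := by
        have := Nat.dvd_gcd ho2 ho1
        rwa [hV.coprime] at this
      exact orderOf_eq_one_iff.mp (Nat.dvd_one.mp ho3)
    have h6 : (x.1 : G) = (y.1 : G) := by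
      have := inv_mul_eq_one.mp h5
      exact this.symm
    have h7 : (x.2 : G) = (y.2 : G) := by
      rw [h6] at h1
      exact mul_left_cancel h1
    exact Prod.ext (Subtype.ext h6) (Subtype.ext h7)
  · rintro ⟨c, hc⟩
    obtain ⟨h, hh, v, hv, rfl⟩ := hV.prod c hc
    exact ⟨(⟨h, hh⟩, ⟨v, hv⟩), rfl⟩

/-- Conjugates of `h v` with `1 ≠ h ∈ P`, `v ∈ V`. -/
theorem conj_mul_iff (hV : IsPCompl P V) (h h' : ↥(P : Subgroup G))
    (v w : ↥V) (g : G) :
    g * ((h : G) * (v : G)) * g⁻¹ = (h' : G) * (w : G) ↔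
      g * (h : G) * g⁻¹ = (h' : G) ∧ g * (v : G) * g⁻¹ = (w : G) := by
  constructor
  · intro hg
    have hpp : ∀ (a : ↥(P : Subgroup G)) (u : ↥V), IsPPart p ((a : G) * (u : G)) (a : G) := by
      intro a u
      refine ⟨(u : G), rfl, hV.commute a u, ?_, ?_⟩
      · obtain ⟨k, hk⟩ := IsPGroup.iff_orderOf.mp P.isPGroup' a
        exact ⟨k, by rw [Subgroup.orderOf_coe]; exact hk⟩
      · intro hd
        have h1 : orderOf (u : G) ∣ Nat.card V := Subgroup.orderOf_dvd_natCard _ u.2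
        have h2 : p ∣ Nat.card V := hd.trans h1
        have h3 := Nat.dvd_gcd h2 (dvd_refl p)
        rw [hV.coprime] at h3
        exact hp.out.one_lt.ne' (Nat.dvd_one.mp h3)
    have h1 := Cfsg.Agent.Lib.Helper16_InducedFusion.isPPart_conj (hpp h v) g
    rw [hg] at h1
    have h2 := Cfsg.Agent.Lib.Helper16_InducedFusion.isPPart_unique hp.out h1 (hpp h' w)
    refine ⟨h2, ?_⟩
    calc g * (v : G) * g⁻¹ = (g * (h : G) * g⁻¹)⁻¹ * (g * ((h : G) * (v : G)) * g⁻¹) := by group
      _ = (h' : G)⁻¹ * ((h' : G) * (w : G)) := by rw [h2, hg]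
      _ = (w : G) := by group
  · rintro ⟨h1, h2⟩
    calc g * ((h : G) * (v : G)) * g⁻¹ = (g * (h : G) * g⁻¹) * (g * (v : G) * g⁻¹) := by group
      _ = (h' : G) * (w : G) := by rw [h1, h2]

section K

variable [Fintype ↥(P : Subgroup G)] [Fintype ↥V]

open scoped Classical in
/-- The number of elements of `T` conjugating `h` to `h'`. -/
theorem card_conj_stab (hP : Nat.card P = p) (hV : IsPCompl P V) (θ : IrrCharacter ↥V)
    {h : ↥(P : Subgroup G)} (hh : h ≠ 1) (h' : ↥(P : Subgroup G)) :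
    (Finset.univ.filter (fun g : G => g * (h : G) * g⁻¹ = (h' : G) ∧ g ∈ stab hV θ)).card =
      if ∃ n ∈ stab hV θ, n * (h : G) * n⁻¹ = (h' : G) then p * Nat.card V else 0 := by
  split_ifs with hex
  · obtain ⟨n, hn, hnh⟩ := hex
    rw [← card_centralizer hP hV, ← Fintype.card_subtype, ← Nat.card_eq_fintype_card]
    symm
    apply Nat.card_congr
    have hh' : (h : G) ≠ 1 := fun hc => hh (Subtype.ext hc)
    have hcen := Cfsg.Agent.Lib.Helper16_BrauerK.centralizer_singleton_eq P hP h.2 hh'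
    refine ⟨fun c => ⟨n * (c : G), ?_, ?_⟩, fun g => ⟨n⁻¹ * (g : G), ?_⟩, ?_, ?_⟩
    · have hc : (c : G) * (h : G) = (h : G) * (c : G) :=
        (Subgroup.mem_centralizer_iff.mp c.2 (h : G) h.2).symm
      calc n * (c : G) * (h : G) * (n * (c : G))⁻¹
          = n * ((c : G) * (h : G)) * (c : G)⁻¹ * n⁻¹ := by group
        _ = n * ((h : G) * (c : G)) * (c : G)⁻¹ * n⁻¹ := by rw [hc]
        _ = n * (h : G) * n⁻¹ := by group
        _ = (h' : G) := hnh
    · exact Subgroup.mul_mem _ hn (centralizer_le_stab hV θ c.2)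
    · rw [← hcen, Subgroup.mem_centralizer_iff]
      intro z hz
      rw [Set.mem_singleton_iff.mp hz]
      have hg : (g : G) * (h : G) * (g : G)⁻¹ = (h' : G) := g.2.1
      have h1 : (g : G) * (h : G) = (h' : G) * (g : G) := by
        calc (g : G) * (h : G) = ((g : G) * (h : G) * (g : G)⁻¹) * (g : G) := by group
          _ = (h' : G) * (g : G) := by rw [hg]
      have h2 : n * (h : G) = (h' : G) * n := by
        calc n * (h : G) = (n * (h : G) * n⁻¹) * n := by group
          _ = (h' : G) * n := by rw [hnh]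
      calc (h : G) * (n⁻¹ * (g : G)) = n⁻¹ * (n * (h : G)) * n⁻¹ * (g : G) := by group
        _ = n⁻¹ * ((h' : G) * n) * n⁻¹ * (g : G) := by rw [h2]
        _ = n⁻¹ * ((h' : G) * (g : G)) := by group
        _ = n⁻¹ * ((g : G) * (h : G)) := by rw [h1]
        _ = n⁻¹ * (g : G) * (h : G) := by group
    · intro c
      apply Subtype.ext
      show n⁻¹ * (n * (c : G)) = (c : G)
      group
    · intro g
      apply Subtype.ext
      show n * (n⁻¹ * (g : G)) = (g : G)
      group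
  · rw [Finset.card_eq_zero, Finset.filter_eq_empty_iff]
    intro g _ hg
    exact hex ⟨g, hg.2, hg.1⟩

open scoped Classical in
/-- **The elementary orthogonality relation.** -/
theorem K_formula (hP : Nat.card P = p) (hV : IsPCompl P V) (θ : IrrCharacter ↥V)
    {h : ↥(P : Subgroup G)} (hh : h ≠ 1) (h' : ↥(P : Subgroup G)) :
    ∑ χ : IrrCharacter G, sfun P V θ χ h * conj (sfun P V θ χ h') =
      if ∃ n ∈ stab hV θ, n * (h : G) * n⁻¹ = (h' : G) then (p : ℂ) else 0 := by
  have hVpos : (Nat.card V : ℂ) ≠ 0 := by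
    rw [Nat.cast_ne_zero]; exact Nat.card_pos.ne'
  set c : ℂ := (Nat.card V : ℂ)⁻¹ with hc
  -- Step A/B: expand and apply column orthogonality
  have hA : ∀ χ : IrrCharacter G, sfun P V θ χ h * conj (sfun P V θ χ h') =
      c * c * ∑ v : ↥V, ∑ w : ↥V, conj ((θ : ↥V → ℂ) v) * (θ : ↥V → ℂ) w *
        ((χ : G → ℂ) ((h : G) * (v : G)) * conj ((χ : G → ℂ) ((h' : G) * (w : G)))) := by
    intro χ
    unfold sfun
    rw [map_mul, map_inv₀, Complex.conj_natCast, map_sum]
    rw [show ∀ a b c d : ℂ, a * b * (c * d) = a * c * (b * d) from fun a b c d => by ring,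
      Finset.sum_mul_sum]
    congr 1
    refine Finset.sum_congr rfl fun v _ => Finset.sum_congr rfl fun w _ => ?_
    rw [map_mul, Complex.conj_conj]
    ring
  have hB : ∑ χ : IrrCharacter G, sfun P V θ χ h * conj (sfun P V θ χ h') =
      c * c * ∑ v : ↥V, ∑ w : ↥V, conj ((θ : ↥V → ℂ) v) * (θ : ↥V → ℂ) w *
        ((Finset.univ.filter
          (fun g : G => g * ((h : G) * (v : G)) * g⁻¹ = (h' : G) * (w : G))).card : ℂ) := by
    simp_rw [hA]
    rw [← Finset.mul_sum, Finset.sum_comm]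
    congr 1
    refine Finset.sum_congr rfl fun v _ => ?_
    rw [Finset.sum_comm]
    refine Finset.sum_congr rfl fun w _ => ?_
    rw [← Finset.mul_sum, sum_irr_eq_card_conj]
  rw [hB]
  -- Step C: the inner sum over `w`
  have hN : ∀ g : G, g * (h : G) * g⁻¹ = (h' : G) →
      g ∈ Subgroup.normalizer ((P : Subgroup G) : Set G) := fun g hg =>
    mem_normalizer_of_conj_mem hP hh (by rw [hg]; exact h'.2)
  have hC : ∀ v : ↥V, ∑ w : ↥V, conj ((θ : ↥V → ℂ) v) * (θ : ↥V → ℂ) w *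
        ((Finset.univ.filter
          (fun g : G => g * ((h : G) * (v : G)) * g⁻¹ = (h' : G) * (w : G))).card : ℂ) =
      ∑ g : G, (if hg : g * (h : G) * g⁻¹ = (h' : G) then
        (θ : ↥V → ℂ) (conjV hV g (hN g hg) v) * conj ((θ : ↥V → ℂ) v) else 0) := by
    intro v
    have h1 : ∀ w : ↥V, ((Finset.univ.filter
          (fun g : G => g * ((h : G) * (v : G)) * g⁻¹ = (h' : G) * (w : G))).card : ℂ) =
        ∑ g : G, (if g * ((h : G) * (v : G)) * g⁻¹ = (h' : G) * (w : G) then (1 : ℂ) else 0) := by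
      intro w
      rw [Finset.card_filter]
      push_cast
      rfl
    simp_rw [h1, Finset.mul_sum]
    rw [Finset.sum_comm]
    refine Finset.sum_congr rfl fun g _ => ?_
    by_cases hg : g * (h : G) * g⁻¹ = (h' : G)
    · rw [dif_pos hg]
      rw [Finset.sum_eq_single (conjV hV g (hN g hg) v)]
      · rw [if_pos]
        · ring
        · rw [conj_mul_iff hV]
          exact ⟨hg, rfl⟩
      · intro w _ hw
        rw [if_neg, mul_zero]
        intro hcon
        apply hw
        apply Subtype.ext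
        rw [conjV_coe]
        exact ((conj_mul_iff hV h h' v w g).mp hcon).2.symm
      · intro hcon
        exact absurd (Finset.mem_univ _) hcon
    · rw [dif_neg hg]
      apply Finset.sum_eq_zero
      intro w _
      rw [if_neg, mul_zero]
      intro hcon
      exact hg ((conj_mul_iff hV h h' v w g).mp hcon).1
  simp_rw [hC]
  rw [Finset.sum_comm]
  -- Step D: the sum over `v`
  have hD : ∀ g : G, ∑ v : ↥V, (if hg : g * (h : G) * g⁻¹ = (h' : G) then
        (θ : ↥V → ℂ) (conjV hV g (hN g hg) v) * conj ((θ : ↥V → ℂ) v) else 0) =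
      if g * (h : G) * g⁻¹ = (h' : G) ∧ g ∈ stab hV θ then (Nat.card V : ℂ) else 0 := by
    intro g
    by_cases hg : g * (h : G) * g⁻¹ = (h' : G)
    · simp only [dif_pos hg]
      have hirr : IsIrrCharacter ↥V (fun v : ↥V => (θ : ↥V → ℂ) (conjV hV g (hN g hg) v)) :=
        Cfsg.Agent.Lib.Helper75_Clifford.isIrrCharacter_comp_equiv (conjV hV g (hN g hg)) θ.2
      have h1 := Cfsg.Agent.Lib.Helper3_CharOrtho.classInner_irr hirr θ.2
      unfold classInner at h1
      have h2 : ∑ v : ↥V, (θ : ↥V → ℂ) (conjV hV g (hN g hg) v) * conj ((θ : ↥V → ℂ) v) =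
          (Nat.card V : ℂ) * (if (fun v : ↥V => (θ : ↥V → ℂ) (conjV hV g (hN g hg) v)) =
            (θ : ↥V → ℂ) then 1 else 0) := by
        rw [← h1, ← mul_assoc, mul_inv_cancel₀ hVpos, one_mul]
      rw [h2]
      by_cases hs : g ∈ stab hV θ
      · rw [if_pos ((mem_stab_iff' hV θ g (hN g hg)).mp hs), if_pos ⟨hg, hs⟩, mul_one]
      · rw [if_neg (fun hc => hs ((mem_stab_iff' hV θ g (hN g hg)).mpr hc)),
          if_neg (fun hc => hs hc.2), mul_zero]
    · simp only [dif_neg hg]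
      rw [if_neg (fun hc => hg hc.1)]
      simp
  simp_rw [hD]
  rw [← Finset.sum_filter, Finset.sum_const, nsmul_eq_mul, card_conj_stab hP hV θ hh h']
  split_ifs
  · push_cast
    rw [hc]
    field_simp
  · simp

end K

end Cfsg.Agent.Lib.Helper16_GenK
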