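import Mathlib

/-!
# G2 of the S0960/S4441 project (helper57's plan): `C_G(P) = P × V` for a Sylow subgroup of prime order

`exists_pcomplement_centralizer`: Burnside's normal complement `V` of `P` in `C_G(P)`, with the
properties needed by (CT), PartA and the final assembly.
-/

set_option autoImplicit false

namespace Cfsg.Agent.Lib.Helper17_PCompl

open Subgroup

/-- In a finite group with a normal subgroup `K` of index `p`, every `p`-regular element lies
in `K`. -/
theorem mem_of_not_dvd_orderOf {C : Type*} [Group C] [Finite C] (p : ℕ) [Fact p.Prime]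
    (K : Subgroup C) [K.Normal] (hK : K.index = p) (v : C) (hv : ¬ p ∣ orderOf v) : v ∈ K := by
  rw [← QuotientGroup.eq_one_iff]
  have h1 : orderOf (v : C ⧸ K) ∣ orderOf v := orderOf_dvd_of_pow_eq_one (by
    rw [← QuotientGroup.mk_pow, pow_orderOf_eq_one, QuotientGroup.mk_one])
  have h2 : orderOf (v : C ⧸ K) ∣ p := by
    have : Nat.card (C ⧸ K) = p := by rw [← Subgroup.index_eq_card, hK]
    rw [← this]
    exact orderOf_dvd_natCard _
  have hp : p.Prime := Fact.out
  rcases (Nat.dvd_prime hp).mp h2 with h | h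
  · exact orderOf_eq_one_iff.mp h
  · exact absurd (h ▸ h1) hv

/-- G2: `C_G(P) = P × V` for a Sylow subgroup `P` of prime order (Burnside's normal complement in
`C_G(P)`), with the properties needed by (CT), PartA and the final assembly. -/
theorem exists_pcomplement_centralizer {G : Type*} [Group G] [Finite G] (p : ℕ) [Fact p.Prime]
    (P : Sylow p G) (hP : Nat.card P = p) :
    ∃ V : Subgroup G, V ≤ Subgroup.centralizer ((P : Subgroup G) : Set G) ∧
      (Nat.card V).Coprime p ∧
      (∀ c ∈ Subgroup.centralizer ((P : Subgroup G) : Set G),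
        ∃ h ∈ (P : Subgroup G), ∃ v ∈ V, c = h * v) ∧
      (∀ v ∈ Subgroup.centralizer ((P : Subgroup G) : Set G), ¬ p ∣ orderOf v → v ∈ V) ∧
      (∀ n ∈ Subgroup.normalizer ((P : Subgroup G) : Set G), ∀ v ∈ V, n * v * n⁻¹ ∈ V) := by
  have hp : p.Prime := Fact.out
  set C : Subgroup G := Subgroup.centralizer ((P : Subgroup G) : Set G) with hC
  -- `P` is cyclic, hence abelian, hence contained in `C`
  have hPC : (P : Subgroup G) ≤ C := by
    have hcyc : IsCyclic (P : Subgroup G) := isCyclic_of_prime_card hP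
    obtain ⟨g, hg⟩ := hcyc.exists_generator
    intro x hx y hy
    obtain ⟨i, hi⟩ := hg ⟨x, hx⟩
    obtain ⟨j, hj⟩ := hg ⟨y, hy⟩
    have hi' : (g : G) ^ i = x := by simpa using congrArg Subtype.val hi
    have hj' : (g : G) ^ j = y := by simpa using congrArg Subtype.val hj
    rw [← hi', ← hj', ← zpow_add, ← zpow_add, add_comm]
  let P' : Sylow p C := P.subtype hPC
  have hP'coe : (P' : Subgroup C) = (P : Subgroup G).subgroupOf C := Sylow.coe_subtype P hPC
  have hcent : Subgroup.normalizer ((P' : Subgroup C) : Set C) ≤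
      Subgroup.centralizer ((P' : Subgroup C) : Set C) := by
    intro c _ x hx
    rw [SetLike.mem_coe, hP'coe, Subgroup.mem_subgroupOf] at hx
    exact Subtype.ext (c.2 x hx)
  set K : Subgroup C := (MonoidHom.transferSylow P' hcent).ker with hKdef
  have hcompl : IsComplement' K (P' : Subgroup C) :=
    MonoidHom.ker_transferSylow_isComplement' P' hcent
  have hKcard : ¬ p ∣ Nat.card K := MonoidHom.not_dvd_card_ker_transferSylow P' hcent
  have hP'card : Nat.card (P' : Subgroup C) = p := by
    rw [hP'coe]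
    exact (Nat.card_congr (Subgroup.subgroupOfEquivOfLe hPC).toEquiv).trans hP
  have hKindex : K.index = p := by rw [hcompl.symm.index_eq_card, hP'card]
  -- p-regular elements of `C` lie in `K`
  have hreg : ∀ v : C, ¬ p ∣ orderOf v → v ∈ K := fun v hv =>
    mem_of_not_dvd_orderOf p K hKindex v hv
  refine ⟨K.map C.subtype, ?_, ?_, ?_, ?_, ?_⟩
  · rintro _ ⟨k, -, rfl⟩
    exact k.2
  · rw [Nat.card_congr (K.equivMapOfInjective C.subtype C.subtype_injective).symm.toEquiv]
    exact (Nat.Coprime.symm ((Nat.Prime.coprime_iff_not_dvd hp).mpr hKcard))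
  · intro c hc
    obtain ⟨⟨⟨h, hh⟩, ⟨k, hk⟩⟩, hhk⟩ := hcompl.symm.2 (⟨c, hc⟩ : C)
    simp only at hhk
    rw [SetLike.mem_coe, hP'coe, Subgroup.mem_subgroupOf] at hh
    refine ⟨h, hh, k, ⟨k, hk, rfl⟩, ?_⟩
    have := congrArg Subtype.val hhk
    simpa using this.symm
  · intro v hv hvp
    refine ⟨⟨v, hv⟩, hreg ⟨v, hv⟩ ?_, rfl⟩
    rwa [Subgroup.orderOf_mk]
  · rintro n hn _ ⟨k, hk, rfl⟩
    have hnC : n * (k : G) * n⁻¹ ∈ C := by
      intro x hx
      -- n⁻¹ x n ∈ P, so k commutes with it
      have hx' : n⁻¹ * x * n ∈ (P : Subgroup G) := by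
        have := (Subgroup.mem_normalizer_iff'.mp (Subgroup.inv_mem _ hn) x)
        have h2 := (Subgroup.mem_normalizer_iff.mp (Subgroup.inv_mem _ hn) x).mp hx
        simpa using h2
      have hk' := k.2 (n⁻¹ * x * n) hx'
      calc x * (n * (k : G) * n⁻¹) = n * ((n⁻¹ * x * n) * (k : G)) * n⁻¹ := by group
        _ = n * ((k : G) * (n⁻¹ * x * n)) * n⁻¹ := by rw [hk']
        _ = n * (k : G) * n⁻¹ * x := by group
    refine ⟨⟨n * (k : G) * n⁻¹, hnC⟩, hreg _ ?_, rfl⟩
    rw [Subgroup.orderOf_mk]
    have : orderOf (n * (k : G) * n⁻¹) = orderOf (k : G) := by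
      have := orderOf_injective (MulAut.conj n).toMonoidHom (MulAut.conj n).injective (k : G)
      simpa using this
    rw [this, Subgroup.orderOf_coe]
    intro hdvd
    exact hKcard (hdvd.trans (by
      have := orderOf_dvd_natCard (⟨k, hk⟩ : K)
      rwa [Subgroup.orderOf_mk] at this))

end Cfsg.Agent.Lib.Helper17_PCompl
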