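import Mathlib
import Cfsg.Prelude.Def_Blocks
import Cfsg.Prelude.Def_BlockRank
import Cfsg.Agent.Lib.Helper77_QuotBlocks
import Cfsg.Agent.Lib.Helper77_DefectOrder
import Cfsg.Agent.Lib.Helper77_WeakOrth
import Cfsg.Agent.Lib.Helper77_BlockBasics
import Cfsg.Agent.Lib.Helper78_LocalRing
import Cfsg.Agent.Lib.Helper78_CentralChar
import Cfsg.Agent.S4566
import Cfsg.Agent.S4808
import Cfsg.Agent.S0914

set_option autoImplicit false

namespace Cfsg.Agent.Lib.Helper77_CentralDefect

open Cfsg Cfsg.Agent.Lib.Helper78_LocalRing Cfsg.Agent.Lib.Helper77_BlockBasics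
  Cfsg.Agent.Lib.Helper77_QuotBlocks

open scoped ComplexConjugate

/-- A central element multiplies an irreducible character by a scalar. -/
theorem irr_mul_center {G : Type*} [Group G] [Finite G] (χ : IrrCharacter G) (u : G)
    (hu : u ∈ Subgroup.center G) (a : G) :
    (χ : G → ℂ) (a * u) = (χ : G → ℂ) u * (χ : G → ℂ) a / (χ : G → ℂ) 1 := by
  obtain ⟨χ, n, ρ, hirr, rfl⟩ := χ
  simp only
  have hu' : u ∈ Submonoid.center G := by
    rw [Submonoid.mem_center_iff]; exact Subgroup.mem_center_iff.mp hu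
  obtain ⟨c, hc⟩ := Cfsg.Agent.S4566.char_mul_central ρ hirr u hu'
  have h1 : ρ.character 1 ≠ 0 :=
    Cfsg.Agent.Lib.Helper78_CentralChar.isIrrCharacter_one_ne_zero ⟨n, ρ, hirr, rfl⟩
  have hcu : ρ.character u = c * ρ.character 1 := by
    have := hc 1
    rwa [one_mul] at this
  rw [hc a, hcu]
  field_simp

/-- Summing an irreducible character over a coset of a central subgroup. -/
theorem sum_mul_central {G : Type*} [Group G] [Finite G] (χ : IrrCharacter G) (P : Subgroup G)
    [P.Normal] [Fintype P] (hPZ : P ≤ Subgroup.center G)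
    [Decidable (P ≤ Cfsg.Agent.S4835.irrKer χ)] (x : G) :
    ∑ u : P, (χ : G → ℂ) (x * (u : G)) =
      if P ≤ Cfsg.Agent.S4835.irrKer χ then (Nat.card P : ℂ) * (χ : G → ℂ) x else 0 := by
  have h1 : (χ : G → ℂ) 1 ≠ 0 :=
    Cfsg.Agent.Lib.Helper78_CentralChar.isIrrCharacter_one_ne_zero χ.2
  simp_rw [fun u : P => irr_mul_center χ (u : G) (hPZ u.2) x]
  rw [← Finset.sum_div, ← Finset.sum_mul, Cfsg.Agent.S4808.sum_over_normal χ P]
  split_ifs
  · field_simp
  · simp

/-- The product of a `p`-regular element with a nontrivial central `p`-element is `p`-singular. -/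
theorem dvd_orderOf_mul_central {G : Type*} [Group G] [Finite G] {p : ℕ} [Fact p.Prime]
    (P : Subgroup G) (hP : IsPGroup p P) (hPZ : P ≤ Subgroup.center G) (x : G)
    (hx : ¬ p ∣ orderOf x) (u : G) (hu : u ∈ P) (hu1 : u ≠ 1) : p ∣ orderOf (x * u) := by
  have hp : p.Prime := Fact.out
  obtain ⟨k, hk⟩ := (IsPGroup.iff_orderOf.mp hP) ⟨u, hu⟩
  rw [← Subgroup.orderOf_coe] at hk
  simp only at hk
  have hk0 : k ≠ 0 := by
    rintro rfl
    rw [pow_zero, orderOf_eq_one_iff] at hk
    exact hu1 hk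
  have hcomm : Commute x u := Subgroup.mem_center_iff.mp (hPZ hu) x
  have hcop : (orderOf x).Coprime (orderOf u) := by
    rw [hk]
    exact Nat.Coprime.pow_right k ((Nat.Prime.coprime_iff_not_dvd hp).mpr hx).symm
  rw [hcomm.orderOf_mul_eq_mul_orderOf_of_coprime hcop, hk]
  exact dvd_mul_of_dvd_right (dvd_pow_self p hk0) _

/-- A defect group is a `p`-group of order `p ^ d(B)`. -/
theorem card_of_isDefectGroup {G : Type*} [Group G] [Finite G] {p : ℕ} [Fact p.Prime]
    {M : Ideal AlgInt} (hM : IsPModular p M) {B : Set (IrrCharacter G)} (hB : IsPBlock M B)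
    {P : Subgroup G} (hD : IsDefectGroup p M B P) :
    IsPGroup p P ∧ Nat.card P = p ^ blockDefect p B := by
  obtain ⟨g, hg, S, rfl⟩ := hD
  constructor
  · exact S.2.map _
  · rw [← Cfsg.Agent.Lib.Helper77_DefectOrder.card_defectGroup hM hB hg,
      ← Sylow.card_eq_multiplicity S]
    exact Nat.card_congr
      (Subgroup.equivMapOfInjective _ _ (Subgroup.subtype_injective _)).symm.toEquiv


/-- **Gram identity for a central `p`-subgroup**: on `p`-regular elements the block sum
`Σ_{χ ∈ B} χ(x) conj χ(y)` is `|P|` times the same sum over the members with `P` in the kernel. -/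
theorem gram_central {G : Type*} [Group G] [Finite G] {p : ℕ} [Fact p.Prime]
    {M : Ideal AlgInt} (hM : IsPModular p M) {B : Set (IrrCharacter G)} (hB : IsPBlock M B)
    (P : Subgroup G) (hP : IsPGroup p P) (hPZ : P ≤ Subgroup.center G) (x y : G)
    (hx : ¬ p ∣ orderOf x) (hy : ¬ p ∣ orderOf y) :
    ∑ᶠ χ ∈ B, (χ : G → ℂ) x * conj ((χ : G → ℂ) y) =
      (Nat.card P : ℂ) * ∑ᶠ χ ∈ {χ : IrrCharacter G | χ ∈ B ∧ P ≤ Cfsg.Agent.S4835.irrKer χ},
        (χ : G → ℂ) x * conj ((χ : G → ℂ) y) := by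
  classical
  have := Fintype.ofFinite G
  have := Fintype.ofFinite P
  have hPn : P.Normal := by
    constructor
    intro u hu g
    have := Subgroup.mem_center_iff.mp (hPZ hu) g
    have h2 : g * u * g⁻¹ = u := by rw [this]; group
    rw [h2]; exact hu
  have hfin : Finite (IrrCharacter G) := Cfsg.Agent.Lib.Helper78_CharFacts.charFacts.finite
  have h1 : ∑ u : P, ∑ᶠ χ ∈ B, (χ : G → ℂ) x * conj ((χ : G → ℂ) (y * (u : G))) =
      ∑ᶠ χ ∈ B, (χ : G → ℂ) x * conj ((χ : G → ℂ) y) := by
    rw [Finset.sum_eq_single (1 : P)]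
    · simp
    · intro u _ hu
      apply Cfsg.Agent.Lib.Helper77_WeakOrth.weak_orthogonality_block hM hB x _ hx
      apply dvd_orderOf_mul_central P hP hPZ y hy u u.2
      intro h
      exact hu (Subtype.ext h)
    · intro h
      exact absurd (Finset.mem_univ _) h
  rw [← h1]
  simp_rw [finsum_mem_eq_finite_toFinset_sum _ (Set.toFinite _)]
  rw [Finset.sum_comm]
  simp_rw [← Finset.mul_sum, ← map_sum, sum_mul_central _ P hPZ y]
  rw [Finset.mul_sum]
  have hsub : (Set.toFinite {χ : IrrCharacter G | χ ∈ B ∧ P ≤ Cfsg.Agent.S4835.irrKer χ}).toFinset =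
      (Set.toFinite B).toFinset.filter (fun χ => P ≤ Cfsg.Agent.S4835.irrKer χ) := by
    ext χ
    simp
  rw [hsub, Finset.sum_filter]
  refine Finset.sum_congr rfl fun χ _ => ?_
  split_ifs
  · rw [map_mul, Complex.conj_natCast]
    ring
  · simp

/-- **Uniqueness**: a block with central defect group `P` has at most one member with `P` in its
kernel. -/
theorem eq_of_ker_of_central_defect {G : Type*} [Group G] [Finite G] {p : ℕ} [Fact p.Prime]
    {M : Ideal AlgInt} (hM : IsPModular p M) {B : Set (IrrCharacter G)} (hB : IsPBlock M B)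
    (P : Subgroup G) (hD : IsDefectGroup p M B P) (hPZ : P ≤ Subgroup.center G)
    (θ θ' : IrrCharacter G) (hθ : θ ∈ B) (hθ' : θ' ∈ B)
    (hk : ∀ u ∈ P, (θ : G → ℂ) u = (θ : G → ℂ) 1)
    (hk' : ∀ u ∈ P, (θ' : G → ℂ) u = (θ' : G → ℂ) 1) : θ = θ' := by
  classical
  have hp : p.Prime := Fact.out
  have hMp : M.IsPrime := isPrime_of_isPModular hM
  have hPn : P.Normal := by
    constructor
    intro u hu g
    have := Subgroup.mem_center_iff.mp (hPZ hu) g
    have h2 : g * u * g⁻¹ = u := by rw [this]; group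
    rw [h2]; exact hu
  obtain ⟨hP, hcard⟩ := card_of_isDefectGroup hM hB hD
  obtain ⟨χ, hχ⟩ := exists_quot_char P θ hk
  obtain ⟨χ', hχ'⟩ := exists_quot_char P θ' hk'
  -- `χ, χ'` lie in the same block of `G ⧸ P`
  have hsame : SameBlock M (χ : G ⧸ P → ℂ) (χ' : G ⧸ P → ℂ) := by
    apply sameBlock_of_comp_mk hM P hP _ χ χ'
    · rw [← hχ, ← hχ']
      exact isPBlock_sameBlock hMp hB hθ hθ'
    · intro y _ u hu
      exact Subgroup.mem_center_iff.mp (hPZ hu) y
  -- `χ` has defect zero
  have hdeg : charDegree (χ : G ⧸ P → ℂ) = charDegree (θ : G → ℂ) := by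
    unfold charDegree
    rw [hχ]
    rfl
  have hblock : blockOf M (χ : G ⧸ P → ℂ) = {χ} := by
    rw [← Cfsg.Agent.S0914.result p M hM χ, not_dvd_div_iff hp χ, hdeg]
    have hcardG : Nat.card G = Nat.card (G ⧸ P) * Nat.card P :=
      Subgroup.card_eq_card_quotient_mul_card_subgroup P
    have hfac : (Nat.card G).factorization p =
        (Nat.card (G ⧸ P)).factorization p + blockDefect p B := by
      rw [hcardG, Nat.factorization_mul (Nat.card_pos).ne' (Nat.card_pos).ne', hcard,
        Finsupp.add_apply, Nat.Prime.factorization_pow hp]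
      simp
    have hle1 := factorization_charDegree_le p θ
    have hdef : blockDefect p B = (Nat.card G).factorization p -
        sInf ((fun χ : IrrCharacter G => (charDegree (χ : G → ℂ)).factorization p) '' B) := rfl
    have hinf : sInf ((fun χ : IrrCharacter G => (charDegree (χ : G → ℂ)).factorization p) '' B) ≤
        (charDegree (θ : G → ℂ)).factorization p := Nat.sInf_le ⟨θ, hθ, rfl⟩
    omega
  have hmem : χ' ∈ blockOf M (χ : G ⧸ P → ℂ) := hsame
  rw [hblock, Set.mem_singleton_iff] at hmem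
  apply Subtype.ext
  rw [hχ, hχ', hmem]

end Cfsg.Agent.Lib.Helper77_CentralDefect
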