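import Mathlib
import Cfsg.Prelude.Def_Characters
import Cfsg.Prelude.Def_Blocks
import Cfsg.Agent.Lib.Helper78_LocalRing
import Cfsg.Agent.Lib.Helper78_CentralChar
import Cfsg.Agent.Lib.Helper78_Osima
import Cfsg.Agent.Lib.Helper78_CharFacts
import Cfsg.Agent.Lib.Helper78_PRegSum
import Cfsg.Agent.Lib.Helper78_FirstMain
import Cfsg.Agent.Lib.Helper77_CentralDefect
import Cfsg.Agent.Lib.Helper77_PRoots
import Cfsg.Agent.Lib.Helper79_Linear
import Cfsg.Agent.Lib.Helper81_Twist
import Cfsg.Agent.Lib.Helper80_CharBasic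
import Cfsg.Agent.Lib.Helper3_CharEigen
import Cfsg.Agent.Lib.Helper3_CharColumn

/-!
# Characters and blocks of a group `H = Z × V`, `Z` a central `p`-subgroup, `V` a `p'`-group
(helper78)

Abstract local analysis used for `C_G(P) = P × V` when a Sylow `p`-subgroup `P` has order `p`.

* `CP p Z V` : the hypotheses (`Z` central `p`-subgroup, `|V|` prime to `p`, `H = Z V`);
* `CP.projZ : H →* Z` : the projection; `CP.reg_iff` : the `p`-regular elements are those of `V`;
* `CP.sum_eq` : `∑_c F c = ∑_{z ∈ Z} ∑_{c p-regular} F (z c)`;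
* `lamHom ψ : Z →* ℂˣ` : the scalars by which `Z` acts in `ψ ∈ Irr H`; `irr_mul_left`;
* `twistIrr φ θ` : the irreducible character `c ↦ φ (projZ c) * θ c`;
* `CP.sameBlock_iff` : two irreducible characters of `H` lie in the same `p`-block iff they agree
  on the `p`-regular elements.
-/

set_option autoImplicit false
set_option linter.unusedSectionVars false

namespace Cfsg.Agent.Lib.Helper78_CentralProd

open Cfsg Cfsg.Agent.Lib.Helper78_LocalRing Cfsg.Agent.Lib.Helper78_CentralChar
  Cfsg.Agent.Lib.Helper78_Osima Cfsg.Agent.Lib.Helper78_CharFacts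
  Cfsg.Agent.Lib.Helper78_PRegSum

open scoped ComplexConjugate

variable {H : Type*} [Group H] {p : ℕ}

/-- `H = Z × V` with `Z` a central `p`-subgroup and `V` a subgroup of order prime to `p`. -/
structure CP (p : ℕ) (Z V : Subgroup H) : Prop where
  central : Z ≤ Subgroup.center H
  pgroup : IsPGroup p Z
  coprime : (Nat.card V).Coprime p
  prod : ∀ c : H, ∃ z ∈ Z, ∃ v ∈ V, c = z * v

namespace CP

variable {Z V : Subgroup H}

theorem comm (h : CP p Z V) {z : H} (hz : z ∈ Z) (c : H) : z * c = c * z :=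
  (Subgroup.mem_center_iff.mp (h.central hz) c).symm

/-- `Z ∩ V = 1`. -/
theorem eq_one_of_mem [Finite H] [hp : Fact p.Prime] (h : CP p Z V) {z : H} (hz : z ∈ Z)
    (hv : z ∈ V) : z = 1 := by
  obtain ⟨k, hk⟩ := (IsPGroup.iff_orderOf.mp h.pgroup) ⟨z, hz⟩
  rw [Subgroup.orderOf_mk] at hk
  have h1 : orderOf z ∣ Nat.card V := Subgroup.orderOf_dvd_natCard V hv
  rw [hk] at h1
  have h2 : Nat.Coprime (p ^ k) (Nat.card V) := (Nat.Coprime.pow_right k h.coprime).symm
  have h3 : p ^ k = 1 := Nat.Coprime.eq_one_of_dvd h2 h1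
  rw [h3] at hk
  exact orderOf_eq_one_iff.mp hk

/-- Uniqueness of the decomposition. -/
theorem unique [Finite H] [Fact p.Prime] (h : CP p Z V) {z z' v v' : H} (hz : z ∈ Z)
    (hz' : z' ∈ Z) (hv : v ∈ V) (hv' : v' ∈ V) (he : z * v = z' * v') : z = z' ∧ v = v' := by
  have h1 : z'⁻¹ * z = v' * v⁻¹ := by
    have : z'⁻¹ * (z * v) * v⁻¹ = z'⁻¹ * (z' * v') * v⁻¹ := by rw [he]
    simpa [mul_assoc] using this
  have h2 : z'⁻¹ * z = 1 :=
    h.eq_one_of_mem (Z.mul_mem (Z.inv_mem hz') hz) (by rw [h1]; exact V.mul_mem hv' (V.inv_mem hv))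
  have h3 : z = z' := by
    have := congrArg (fun t => z' * t) h2
    simpa using this
  refine ⟨h3, ?_⟩
  rw [h3] at he
  exact mul_left_cancel he

/-- The `Z`-component of an element. -/
noncomputable def projFun (h : CP p Z V) (c : H) : H := (h.prod c).choose

theorem projFun_mem (h : CP p Z V) (c : H) : h.projFun c ∈ Z := (h.prod c).choose_spec.1

theorem projFun_spec (h : CP p Z V) (c : H) : (h.projFun c)⁻¹ * c ∈ V := by
  obtain ⟨_, v, hv, hc⟩ := (h.prod c).choose_spec
  have : (h.projFun c)⁻¹ * c = v := by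
    have hc' : c = h.projFun c * v := hc
    calc (h.projFun c)⁻¹ * c = (h.projFun c)⁻¹ * (h.projFun c * v) := by rw [← hc']
      _ = v := by group
  rw [this]
  exact hv

theorem projFun_eq [Finite H] [Fact p.Prime] (h : CP p Z V) {z v : H} (hz : z ∈ Z) (hv : v ∈ V) :
    h.projFun (z * v) = z := by
  have h1 := h.projFun_mem (z * v)
  have h2 := h.projFun_spec (z * v)
  have h3 : h.projFun (z * v) * ((h.projFun (z * v))⁻¹ * (z * v)) = z * v := by group
  exact (h.unique h1 hz h2 hv h3).1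

/-- The projection `H → Z`. -/
noncomputable def projZ [Finite H] [Fact p.Prime] (h : CP p Z V) : H →* Z where
  toFun c := ⟨h.projFun c, h.projFun_mem c⟩
  map_one' := by
    apply Subtype.ext
    have := h.projFun_eq (z := 1) (v := 1) Z.one_mem V.one_mem
    simpa using this
  map_mul' c d := by
    apply Subtype.ext
    show h.projFun (c * d) = h.projFun c * h.projFun d
    have hc := h.projFun_spec c
    have hd := h.projFun_spec d
    have hzc := h.projFun_mem c
    have hzd := h.projFun_mem d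
    have e : c * d = (h.projFun c * h.projFun d) *
        (((h.projFun c)⁻¹ * c) * ((h.projFun d)⁻¹ * d)) := by
      have hcm : h.projFun d * ((h.projFun c)⁻¹ * c) = ((h.projFun c)⁻¹ * c) * h.projFun d :=
        h.comm hzd _
      calc c * d = h.projFun c * (((h.projFun c)⁻¹ * c) * h.projFun d) * ((h.projFun d)⁻¹ * d) := by
            group
        _ = h.projFun c * (h.projFun d * ((h.projFun c)⁻¹ * c)) * ((h.projFun d)⁻¹ * d) := by
            rw [hcm]
        _ = _ := by group
    rw [e]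
    exact h.projFun_eq (Z.mul_mem hzc hzd) (V.mul_mem hc hd)

theorem coe_projZ [Finite H] [Fact p.Prime] (h : CP p Z V) (c : H) :
    ((h.projZ c : Z) : H) = h.projFun c := rfl

theorem projZ_mul_of_mem [Finite H] [Fact p.Prime] (h : CP p Z V) {z v : H} (hz : z ∈ Z)
    (hv : v ∈ V) : h.projZ (z * v) = ⟨z, hz⟩ :=
  Subtype.ext (h.projFun_eq hz hv)

theorem projZ_of_mem_V [Finite H] [Fact p.Prime] (h : CP p Z V) {v : H} (hv : v ∈ V) :
    h.projZ v = 1 := by
  have := h.projZ_mul_of_mem Z.one_mem hv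
  rw [one_mul] at this
  rw [this]
  rfl

theorem projZ_of_mem_Z [Finite H] [Fact p.Prime] (h : CP p Z V) {z : H} (hz : z ∈ Z) :
    h.projZ z = ⟨z, hz⟩ := by
  have := h.projZ_mul_of_mem hz V.one_mem
  rwa [mul_one] at this

theorem projZ_eq_one_iff [Finite H] [Fact p.Prime] (h : CP p Z V) (c : H) :
    h.projZ c = 1 ↔ c ∈ V := by
  constructor
  · intro hc
    have h1 := h.projFun_spec c
    have h2 : h.projFun c = 1 := by
      have := congrArg Subtype.val hc
      simpa [coe_projZ] using this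
    rwa [h2, inv_one, one_mul] at h1
  · exact h.projZ_of_mem_V

/-- The `p`-regular elements are the elements of `V`. -/
theorem reg_iff [Finite H] [hp : Fact p.Prime] (h : CP p Z V) (c : H) :
    ¬ p ∣ orderOf c ↔ c ∈ V := by
  constructor
  · intro hreg
    rw [← h.projZ_eq_one_iff]
    -- the image of `c` in the `p`-group `Z` has order dividing `orderOf c`
    have h1 : orderOf (h.projZ c) ∣ orderOf c := orderOf_map_dvd h.projZ c
    obtain ⟨k, hk⟩ := (IsPGroup.iff_orderOf.mp h.pgroup) (h.projZ c)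
    rw [hk] at h1
    rcases Nat.eq_zero_or_pos k with h0 | h0
    · rw [h0, pow_zero] at hk
      exact orderOf_eq_one_iff.mp hk
    · exact absurd (dvd_trans (dvd_pow_self p h0.ne') h1) hreg
  · intro hcV hd
    have h1 : orderOf c ∣ Nat.card V := Subgroup.orderOf_dvd_natCard V hcV
    have := Nat.Coprime.eq_one_of_dvd h.coprime.symm (dvd_trans hd h1)
    exact hp.out.one_lt.ne' this

theorem regInd_eq [Finite H] [Fact p.Prime] (h : CP p Z V) (c : H) [Decidable (c ∈ V)] :
    regInd p H c = if c ∈ V then 1 else 0 := by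
  split_ifs with hc
  · exact regInd_of_reg ((h.reg_iff c).mpr hc)
  · exact regInd_of_sing (by
      by_contra hn
      exact hc ((h.reg_iff c).mp hn))

/-- Summation over `H = Z × V`. -/
theorem sum_eq [Fintype H] [Fact p.Prime] [Fintype Z] (h : CP p Z V) {A : Type*}
    [AddCommMonoid A] [Module ℂ A] (F : H → A) :
    ∑ c : H, F c = ∑ z : Z, ∑ c : H, regInd p H c • F ((z : H) * c) := by
  classical
  have h1 : ∀ c : H, F c = ∑ z : Z, if h.projZ c = z then F c else 0 := by
    intro c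
    rw [Finset.sum_ite_eq Finset.univ (h.projZ c)]
    simp
  rw [Finset.sum_congr rfl (fun c _ => h1 c), Finset.sum_comm]
  refine Finset.sum_congr rfl fun z _ => ?_
  rw [← Equiv.sum_comp (Equiv.mulLeft (z : H))]
  refine Finset.sum_congr rfl fun c _ => ?_
  rw [Equiv.coe_mulLeft]
  have h2 : h.projZ ((z : H) * c) = z ↔ c ∈ V := by
    rw [map_mul, h.projZ_of_mem_Z z.2]
    rw [← h.projZ_eq_one_iff]
    constructor
    · intro h3
      have : (⟨(z : H), z.2⟩ : Z) = z := rfl
      rw [this] at h3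
      exact mul_left_cancel (h3.trans (mul_one z).symm)
    · intro h3
      rw [h3, mul_one]
  by_cases hc : c ∈ V
  · rw [if_pos (h2.mpr hc), regInd_of_reg ((h.reg_iff c).mpr hc), one_smul]
  · rw [if_neg (fun h3 => hc (h2.mp h3)), regInd_of_sing (by
      by_contra hn
      exact hc ((h.reg_iff c).mp hn)), zero_smul]

/-- `|H| = |Z| |V|`. -/
theorem card_eq [Finite H] [Fact p.Prime] (h : CP p Z V) :
    Nat.card H = Nat.card Z * Nat.card V := by
  classical
  have hcompl : Subgroup.IsComplement' Z V := by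
    apply Subgroup.isComplement'_of_disjoint_and_mul_eq_univ
    · rw [Subgroup.disjoint_def]
      intro x hx hv
      exact h.eq_one_of_mem hx hv
    · rw [Set.eq_univ_iff_forall]
      intro c
      obtain ⟨z, hz, v, hv, hc⟩ := h.prod c
      exact ⟨z, hz, v, hv, hc.symm⟩
  exact hcompl.card_mul_card.symm

end CP

section irr

variable [Finite H] [hp : Fact p.Prime] {Z V : Subgroup H} {M : Ideal AlgInt}

/-- The scalar by which a central element acts. -/
noncomputable def lam (ψ : IrrCharacter H) (z : H) : ℂ := (ψ : H → ℂ) z / (ψ : H → ℂ) 1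

theorem lam_one (ψ : IrrCharacter H) : lam ψ 1 = 1 := by
  unfold lam
  exact div_self (isIrrCharacter_one_ne_zero ψ.2)

theorem irr_mul_left (h : CP p Z V) (ψ : IrrCharacter H) {z : H} (hz : z ∈ Z) (c : H) :
    (ψ : H → ℂ) (z * c) = lam ψ z * (ψ : H → ℂ) c := by
  rw [h.comm hz c, Cfsg.Agent.Lib.Helper77_CentralDefect.irr_mul_center ψ z (h.central hz) c]
  unfold lam
  ring

theorem lam_mul (h : CP p Z V) (ψ : IrrCharacter H) {z z' : H} (hz : z ∈ Z) :
    lam ψ (z * z') = lam ψ z * lam ψ z' := by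
  unfold lam
  rw [irr_mul_left h ψ hz z']
  unfold lam
  ring

theorem lam_ne_zero (h : CP p Z V) (ψ : IrrCharacter H) {z : H} (hz : z ∈ Z) : lam ψ z ≠ 0 := by
  intro h0
  have h1 := lam_mul h ψ hz (z' := z⁻¹)
  rw [mul_inv_cancel, lam_one, h0, zero_mul] at h1
  exact one_ne_zero h1

/-- The central character restricted to `Z`, as a homomorphism. -/
noncomputable def lamHom (h : CP p Z V) (ψ : IrrCharacter H) : Z →* ℂˣ where
  toFun z := Units.mk0 (lam ψ (z : H)) (lam_ne_zero h ψ z.2)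
  map_one' := by
    apply Units.ext
    simp [lam_one]
  map_mul' z z' := by
    apply Units.ext
    simp only [Subgroup.coe_mul, Units.val_mk0, Units.val_mul]
    exact lam_mul h ψ z.2

theorem lamHom_apply (h : CP p Z V) (ψ : IrrCharacter H) (z : Z) :
    ((lamHom h ψ z : ℂˣ) : ℂ) = lam ψ (z : H) := rfl

theorem lam_pow_eq_one (h : CP p Z V) (ψ : IrrCharacter H) {z : H} (hz : z ∈ Z) :
    ∃ k : ℕ, lam ψ z ^ (p ^ k) = 1 := by
  obtain ⟨k, hk⟩ := (IsPGroup.iff_orderOf.mp h.pgroup) ⟨z, hz⟩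
  refine ⟨k, ?_⟩
  have h1 : (⟨z, hz⟩ : Z) ^ (p ^ k) = 1 := by
    rw [← hk]
    exact pow_orderOf_eq_one _
  have h2 := congrArg (lamHom h ψ) h1
  rw [map_pow, map_one] at h2
  have h3 := congrArg (fun u : ℂˣ => (u : ℂ)) h2
  simpa [lamHom_apply] using h3

theorem lam_sub_one_mem (hM : IsPModular p M) (h : CP p Z V) (ψ : IrrCharacter H) {z : H}
    (hz : z ∈ Z) : MemLocalIdeal M (lam ψ z - 1) := by
  obtain ⟨k, hk⟩ := lam_pow_eq_one h ψ hz
  exact Cfsg.Agent.Lib.Helper77_PRoots.memLocalIdeal_sub_one_of_pow_eq_one hM _ k hk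

theorem lam_memLocalRing (hM : IsPModular p M) (h : CP p Z V) (ψ : IrrCharacter H) {z : H}
    (hz : z ∈ Z) : MemLocalRing M (lam ψ z) := by
  have hMp := isPrime_of_isPModular hM
  have h1 := memLocalRing_of_memLocalIdeal (lam_sub_one_mem hM h ψ hz)
  have h2 := memLocalRing_add hMp h1 (memLocalRing_one hMp)
  simpa using h2

theorem norm_lam (h : CP p Z V) (ψ : IrrCharacter H) {z : H} (hz : z ∈ Z) :
    lam ψ z * conj (lam ψ z) = 1 := by
  obtain ⟨k, hk⟩ := lam_pow_eq_one h ψ hz
  have hpos : 0 < p ^ k := Nat.pow_pos hp.out.pos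
  have hn : ‖lam ψ z‖ = 1 := by
    have := congrArg norm hk
    rw [norm_pow, norm_one] at this
    exact (pow_eq_one_iff_of_nonneg (norm_nonneg _) hpos.ne').mp this
  rw [Complex.mul_conj, Complex.normSq_eq_norm_sq, hn]
  simp

/-- `Z` lies in the kernel of `θ`. -/
def KerZ (Z : Subgroup H) (θ : IrrCharacter H) : Prop :=
  ∀ z ∈ Z, (θ : H → ℂ) z = (θ : H → ℂ) 1

theorem lam_eq_one_of_kerZ {θ : IrrCharacter H} (hθ : KerZ Z θ) {z : H} (hz : z ∈ Z) :
    lam θ z = 1 := by
  unfold lam
  rw [hθ z hz]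
  exact div_self (isIrrCharacter_one_ne_zero θ.2)

theorem kerZ_mul_left (h : CP p Z V) {θ : IrrCharacter H} (hθ : KerZ Z θ) {z : H} (hz : z ∈ Z)
    (c : H) : (θ : H → ℂ) (z * c) = (θ : H → ℂ) c := by
  rw [irr_mul_left h θ hz c, lam_eq_one_of_kerZ hθ hz, one_mul]

/-- The twist of an irreducible character by a linear character of `Z`. -/
noncomputable def twistIrr (h : CP p Z V) (φ : Z →* ℂˣ) (θ : IrrCharacter H) : IrrCharacter H :=
  ⟨(fun c => (((φ.comp h.projZ) c : ℂˣ) : ℂ)) * (θ : H → ℂ),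
    Cfsg.Agent.Lib.Helper81_Twist.isIrrCharacter_linear_mul
      (Cfsg.Agent.Lib.Helper79_Linear.isIrrCharacter_of_hom (φ.comp h.projZ))
      (by simp) θ.2⟩

theorem twistIrr_apply (h : CP p Z V) (φ : Z →* ℂˣ) (θ : IrrCharacter H) (c : H) :
    (twistIrr h φ θ : H → ℂ) c = ((φ (h.projZ c) : ℂˣ) : ℂ) * (θ : H → ℂ) c := rfl

theorem twistIrr_of_mem_V (h : CP p Z V) (φ : Z →* ℂˣ) (θ : IrrCharacter H) {c : H}
    (hc : c ∈ V) : (twistIrr h φ θ : H → ℂ) c = (θ : H → ℂ) c := by
  rw [twistIrr_apply, h.projZ_of_mem_V hc, map_one]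
  simp

theorem twistIrr_of_reg (h : CP p Z V) (φ : Z →* ℂˣ) (θ : IrrCharacter H) {c : H}
    (hc : ¬ p ∣ orderOf c) : (twistIrr h φ θ : H → ℂ) c = (θ : H → ℂ) c :=
  twistIrr_of_mem_V h φ θ ((h.reg_iff c).mp hc)

theorem twistIrr_mul_left (h : CP p Z V) (φ : Z →* ℂˣ) {θ : IrrCharacter H} (hθ : KerZ Z θ)
    {z : H} (hz : z ∈ Z) (c : H) :
    (twistIrr h φ θ : H → ℂ) (z * c) =
      ((φ ⟨z, hz⟩ : ℂˣ) : ℂ) * (twistIrr h φ θ : H → ℂ) c := by
  rw [twistIrr_apply, twistIrr_apply, map_mul, h.projZ_of_mem_Z hz, map_mul,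
    kerZ_mul_left h hθ hz]
  push_cast
  ring

/-- Removing the central character: `ψ°`. -/
noncomputable def untwist (h : CP p Z V) (ψ : IrrCharacter H) : IrrCharacter H :=
  twistIrr h (lamHom h ψ)⁻¹ ψ

theorem untwist_of_reg (h : CP p Z V) (ψ : IrrCharacter H) {c : H} (hc : ¬ p ∣ orderOf c) :
    (untwist h ψ : H → ℂ) c = (ψ : H → ℂ) c := twistIrr_of_reg h _ ψ hc

theorem untwist_kerZ (h : CP p Z V) (ψ : IrrCharacter H) : KerZ Z (untwist h ψ) := by
  intro z hz
  unfold untwist
  rw [twistIrr_apply, twistIrr_apply, h.projZ_of_mem_Z hz, map_one, map_one]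
  simp only [MonoidHom.inv_apply, Units.val_inv_eq_inv_val, lamHom_apply, Units.val_one, one_mul]
  unfold lam
  have h1 := isIrrCharacter_one_ne_zero ψ.2
  have h2 : (ψ : H → ℂ) z ≠ 0 := by
    have := lam_ne_zero h ψ hz
    unfold lam at this
    intro h0
    rw [h0, zero_div] at this
    exact this rfl
  field_simp

theorem twistIrr_untwist (h : CP p Z V) (ψ : IrrCharacter H) :
    twistIrr h (lamHom h ψ) (untwist h ψ) = ψ := by
  apply Subtype.ext
  funext c
  unfold untwist
  rw [twistIrr_apply, twistIrr_apply]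
  simp only [MonoidHom.inv_apply, Units.val_inv_eq_inv_val]
  have h2 : (((lamHom h ψ) (h.projZ c) : ℂˣ) : ℂ) ≠ 0 := Units.ne_zero _
  field_simp

end irr

section inner

variable [Fintype H] [hp : Fact p.Prime] {Z V : Subgroup H} {M : Ideal AlgInt}

/-- The inner product over the `p`-regular elements of two irreducible characters with `Z` in
their kernels. -/
theorem sum_reg_kerZ (h : CP p Z V) {θ θ' : IrrCharacter H} (hθ : KerZ Z θ) (hθ' : KerZ Z θ') :
    (Nat.card Z : ℂ) * ∑ c : H, regInd p H c * ((θ : H → ℂ) c * conj ((θ' : H → ℂ) c)) =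
      if θ = θ' then (Nat.card H : ℂ) else 0 := by
  classical
  have := Fintype.ofFinite Z
  have h1 := h.sum_eq (fun c => (θ : H → ℂ) c * conj ((θ' : H → ℂ) c))
  have h2 : ∀ z : Z, ∑ c : H, regInd p H c •
      ((θ : H → ℂ) ((z : H) * c) * conj ((θ' : H → ℂ) ((z : H) * c))) =
      ∑ c : H, regInd p H c * ((θ : H → ℂ) c * conj ((θ' : H → ℂ) c)) := by
    intro z
    refine Finset.sum_congr rfl fun c _ => ?_
    rw [kerZ_mul_left h hθ z.2, kerZ_mul_left h hθ' z.2, smul_eq_mul]
  rw [Finset.sum_congr rfl (fun z _ => h2 z), Finset.sum_const, Finset.card_univ,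
    nsmul_eq_mul, ← Nat.card_eq_fintype_card] at h1
  rw [← h1]
  have h3 := (charFacts (G := H)).orth θ θ'
  unfold classInner at h3
  have hne : (Nat.card H : ℂ) ≠ 0 := by exact_mod_cast Nat.card_pos.ne'
  split_ifs with he
  · rw [if_pos he] at h3
    field_simp at h3
    exact h3
  · rw [if_neg he] at h3
    rcases mul_eq_zero.mp h3 with h4 | h4
    · exact absurd (inv_eq_zero.mp h4) hne
    · exact h4

/-- The inner product over the `p`-regular elements of two irreducible characters. -/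
theorem sum_reg (h : CP p Z V) (ψ ψ' : IrrCharacter H) :
    (Nat.card Z : ℂ) * ∑ c : H, regInd p H c * ((ψ : H → ℂ) c * conj ((ψ' : H → ℂ) c)) =
      if untwist h ψ = untwist h ψ' then (Nat.card H : ℂ) else 0 := by
  rw [← sum_reg_kerZ h (untwist_kerZ h ψ) (untwist_kerZ h ψ')]
  congr 1
  refine Finset.sum_congr rfl fun c _ => ?_
  by_cases hc : p ∣ orderOf c
  · rw [regInd_of_sing hc, zero_mul, zero_mul]
  · rw [untwist_of_reg h ψ hc, untwist_of_reg h ψ' hc]

/-- Two irreducible characters agreeing on the `p`-regular elements have the same `ψ°`. -/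
theorem untwist_eq_of_reg (h : CP p Z V) {ψ ψ' : IrrCharacter H}
    (hreg : ∀ c : H, ¬ p ∣ orderOf c → (ψ : H → ℂ) c = (ψ' : H → ℂ) c) :
    untwist h ψ = untwist h ψ' := by
  apply Subtype.ext
  funext c
  obtain ⟨z, hz, v, hv, rfl⟩ := h.prod c
  rw [kerZ_mul_left h (untwist_kerZ h ψ) hz, kerZ_mul_left h (untwist_kerZ h ψ') hz,
    untwist_of_reg h ψ ((h.reg_iff v).mpr hv), untwist_of_reg h ψ' ((h.reg_iff v).mpr hv)]
  exact hreg v ((h.reg_iff v).mpr hv)

theorem reg_of_untwist_eq (h : CP p Z V) {ψ ψ' : IrrCharacter H}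
    (he : untwist h ψ = untwist h ψ') (c : H) (hc : ¬ p ∣ orderOf c) :
    (ψ : H → ℂ) c = (ψ' : H → ℂ) c := by
  rw [← untwist_of_reg h ψ hc, ← untwist_of_reg h ψ' hc, he]

/-- Two members of `Irr H` with `Z` in their kernels which agree on the `p`-regular elements are
equal. -/
theorem eq_of_kerZ_of_reg (h : CP p Z V) {θ θ' : IrrCharacter H} (hθ : KerZ Z θ)
    (hθ' : KerZ Z θ')
    (hreg : ∀ c : H, ¬ p ∣ orderOf c → (θ : H → ℂ) c = (θ' : H → ℂ) c) : θ = θ' := by
  apply Subtype.ext
  funext c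
  obtain ⟨z, hz, v, hv, rfl⟩ := h.prod c
  rw [kerZ_mul_left h hθ hz, kerZ_mul_left h hθ' hz]
  exact hreg v ((h.reg_iff v).mpr hv)

/-- **Blocks of `Z × V`**: two irreducible characters lie in the same `p`-block iff they agree on
the `p`-regular elements. -/
theorem sameBlock_iff (hM : IsPModular p M) (h : CP p Z V) (ψ ψ' : IrrCharacter H) :
    SameBlock M (ψ : H → ℂ) (ψ' : H → ℂ) ↔
      ∀ c : H, ¬ p ∣ orderOf c → (ψ : H → ℂ) c = (ψ' : H → ℂ) c := by
  classical
  have hMp := isPrime_of_isPModular hM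
  constructor
  · intro hsb
    apply reg_of_untwist_eq h
    by_contra hne
    -- the separating class function
    set ε : H → ℂ := fun c => regInd p H c * ((ψ' : H → ℂ) 1 * conj ((ψ' : H → ℂ) c)) *
      ((Nat.card Z : ℂ) / (Nat.card H : ℂ)) with hε
    have hψ'c := isIrrCharacter_isClassFunction ψ'.2
    have hεc : IsClassFunction H ε := by
      intro g k
      simp only [hε]
      rw [regInd_isClassFunction g k, hψ'c g k]
    have hcard := h.card_eq
    have hZne : (Nat.card Z : ℂ) ≠ 0 := by exact_mod_cast Nat.card_pos.ne'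
    have hHne : (Nat.card H : ℂ) ≠ 0 := by exact_mod_cast Nat.card_pos.ne'
    have hratio : (Nat.card Z : ℂ) / (Nat.card H : ℂ) = 1 / (Nat.card V : ℂ) := by
      rw [hcard]
      push_cast
      have hVne : (Nat.card V : ℂ) ≠ 0 := by exact_mod_cast Nat.card_pos.ne'
      field_simp
    have hεR : ∀ g, MemLocalRing M (ε g) := by
      intro g
      simp only [hε]
      refine memLocalRing_mul hMp (memLocalRing_mul hMp (regInd_memLocalRing hMp g)
        (memLocalRing_mul hMp ?_ ?_)) ?_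
      · rw [(isIrrCharacter_one_eq_charDegree ψ'.2).1]
        exact memLocalRing_natCast hMp _
      · rw [← Cfsg.Agent.Lib.Helper80_CharBasic.irr_inv ψ' g]
        obtain ⟨n, ρ, hirr, hρ⟩ := ψ'.2
        rw [← hρ]
        have := memLocalRing_algInt hMp
          ⟨_, Cfsg.Agent.Lib.Helper3_CharEigen.isIntegral_char ρ g⁻¹⟩
        simpa using this
      · rw [hratio]
        have := memLocalRing_natCast_div hM 1 (b := Nat.card V) (by
          intro hd
          have := Nat.Coprime.eq_one_of_dvd h.coprime.symm hd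
          exact hp.out.one_lt.ne' this)
        simpa using this
    have hkey := memLocalIdeal_omega_sub hMp (isIrrCharacter_isClassFunction ψ.2) hψ'c hsb hεc hεR
    have h1ne := isIrrCharacter_one_ne_zero ψ.2
    have h1ne' := isIrrCharacter_one_ne_zero ψ'.2
    have hω : omega (ψ : H → ℂ) ε = 0 := by
      unfold omega
      have h2 := sum_reg h ψ ψ'
      rw [if_neg hne] at h2
      have h3 : ∑ c : H, regInd p H c * ((ψ : H → ℂ) c * conj ((ψ' : H → ℂ) c)) = 0 := by
        rcases mul_eq_zero.mp h2 with h4 | h4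
        · exact absurd h4 hZne
        · exact h4
      have h4 : ∑ g : H, ε g * (ψ : H → ℂ) g =
          ((ψ' : H → ℂ) 1 * ((Nat.card Z : ℂ) / (Nat.card H : ℂ))) *
            ∑ c : H, regInd p H c * ((ψ : H → ℂ) c * conj ((ψ' : H → ℂ) c)) := by
        rw [Finset.mul_sum]
        refine Finset.sum_congr rfl fun c _ => ?_
        simp only [hε]
        ring
      rw [h4, h3, mul_zero, zero_div]
    have hω' : omega (ψ' : H → ℂ) ε = 1 := by
      unfold omega
      have h2 := sum_reg h ψ' ψ'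
      rw [if_pos rfl] at h2
      have h4 : ∑ g : H, ε g * (ψ' : H → ℂ) g =
          ((ψ' : H → ℂ) 1 / (Nat.card H : ℂ)) *
            ((Nat.card Z : ℂ) *
              ∑ c : H, regInd p H c * ((ψ' : H → ℂ) c * conj ((ψ' : H → ℂ) c))) := by
        rw [Finset.mul_sum, Finset.mul_sum]
        refine Finset.sum_congr rfl fun c _ => ?_
        simp only [hε]
        ring
      rw [h4, h2]
      field_simp
    rw [hω, hω', zero_sub] at hkey
    have := memLocalIdeal_neg hkey
    rw [neg_neg] at this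
    exact not_memLocalIdeal_one hMp this
  · intro hreg g
    obtain ⟨z, hz, v, hv, rfl⟩ := h.prod g
    have hvreg := (h.reg_iff v).mpr hv
    have h1reg : ¬ p ∣ orderOf (1 : H) := by
      rw [orderOf_one]
      exact hp.out.not_dvd_one
    have e1 : (ψ : H → ℂ) 1 = (ψ' : H → ℂ) 1 := hreg 1 h1reg
    have ev : (ψ : H → ℂ) v = (ψ' : H → ℂ) v := hreg v hvreg
    unfold centralChar
    rw [irr_mul_left h ψ hz v, irr_mul_left h ψ' hz v, ← e1, ← ev]
    set X : ℂ := ((Subgroup.centralizer ({z * v} : Set H)).index : ℂ) * (ψ : H → ℂ) v /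
      (ψ : H → ℂ) 1 with hX
    have hXR : MemLocalRing M X := by
      have h2 := Cfsg.Agent.Lib.Helper78_FirstMain.memLocalRing_centralChar hMp ψ.2 (z * v)
      unfold centralChar at h2
      rw [irr_mul_left h ψ hz v] at h2
      have h3 := lam_memLocalRing hM h ψ (Z.inv_mem hz)
      have h4 := memLocalRing_mul hMp h3 h2
      have h5 : lam ψ z⁻¹ * lam ψ z = 1 := by
        rw [← lam_mul h ψ (Z.inv_mem hz), inv_mul_cancel, lam_one]
      have h6 : lam ψ z⁻¹ * (((Subgroup.centralizer ({z * v} : Set H)).index : ℂ) *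
          (lam ψ z * (ψ : H → ℂ) v) / (ψ : H → ℂ) 1) = X := by
        rw [hX]
        calc lam ψ z⁻¹ * (((Subgroup.centralizer ({z * v} : Set H)).index : ℂ) *
            (lam ψ z * (ψ : H → ℂ) v) / (ψ : H → ℂ) 1)
            = (lam ψ z⁻¹ * lam ψ z) * (((Subgroup.centralizer ({z * v} : Set H)).index : ℂ) *
              (ψ : H → ℂ) v / (ψ : H → ℂ) 1) := by ring
          _ = _ := by rw [h5, one_mul]
      rwa [h6] at h4
    have h7 : ((Subgroup.centralizer ({z * v} : Set H)).index : ℂ) *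
        (lam ψ z * (ψ : H → ℂ) v) / (ψ : H → ℂ) 1 -
        ((Subgroup.centralizer ({z * v} : Set H)).index : ℂ) *
        (lam ψ' z * (ψ : H → ℂ) v) / (ψ : H → ℂ) 1 = (lam ψ z - lam ψ' z) * X := by
      rw [hX]
      ring
    rw [h7]
    have h8 : MemLocalIdeal M (lam ψ z - lam ψ' z) := by
      have := memLocalIdeal_sub hMp (lam_sub_one_mem hM h ψ hz) (lam_sub_one_mem hM h ψ' hz)
      have e : lam ψ z - 1 - (lam ψ' z - 1) = lam ψ z - lam ψ' z := by ring
      rwa [e] at this
    exact memLocalIdeal_mul_right hMp h8 hXR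

/-- Membership in the block of `θ`. -/
theorem mem_blockOf_iff_reg (hM : IsPModular p M) (h : CP p Z V) (θ ψ : IrrCharacter H) :
    ψ ∈ blockOf M (θ : H → ℂ) ↔
      ∀ c : H, ¬ p ∣ orderOf c → (ψ : H → ℂ) c = (θ : H → ℂ) c := by
  rw [mem_blockOf_iff, sameBlock_iff hM h θ ψ]
  constructor
  · intro h1 c hc
    exact (h1 c hc).symm
  · intro h1 c hc
    exact (h1 c hc).symm

/-- Every member of the block of `θ` (`Z ≤ ker θ`) is a twist of `θ`. -/
theorem exists_twist_of_mem (hM : IsPModular p M) (h : CP p Z V) {θ : IrrCharacter H}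
    (hθ : KerZ Z θ) {ψ : IrrCharacter H} (hψ : ψ ∈ blockOf M (θ : H → ℂ)) :
    ∃ φ : Z →* ℂˣ, ψ = twistIrr h φ θ := by
  refine ⟨lamHom h ψ, ?_⟩
  have h1 := (mem_blockOf_iff_reg hM h θ ψ).mp hψ
  have h2 : untwist h ψ = θ := by
    apply eq_of_kerZ_of_reg h (untwist_kerZ h ψ) hθ
    intro c hc
    rw [untwist_of_reg h ψ hc]
    exact h1 c hc
  rw [← h2, twistIrr_untwist]

theorem twist_mem_blockOf (hM : IsPModular p M) (h : CP p Z V) (θ : IrrCharacter H)
    (φ : Z →* ℂˣ) : twistIrr h φ θ ∈ blockOf M (θ : H → ℂ) := by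
  rw [mem_blockOf_iff_reg hM h]
  intro c hc
  exact twistIrr_of_reg h φ θ hc

/-- Every block contains a member with `Z` in its kernel. -/
theorem exists_kerZ_mem (hM : IsPModular p M) (h : CP p Z V) {b : Set (IrrCharacter H)}
    (hb : IsPBlock M b) : ∃ θ ∈ b, KerZ Z θ := by
  have hMp := isPrime_of_isPModular hM
  obtain ⟨ψ, hψ⟩ := isPBlock_nonempty hMp hb
  refine ⟨untwist h ψ, ?_, untwist_kerZ h ψ⟩
  have h1 : untwist h ψ ∈ blockOf M (ψ : H → ℂ) := by
    rw [mem_blockOf_iff_reg hM h]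
    intro c hc
    exact untwist_of_reg h ψ hc
  rw [isPBlock_eq_blockOf hMp hb hψ]
  exact h1

/-- The sum of the central character over `Z`. -/
theorem sum_lam (h : CP p Z V) (ψ : IrrCharacter H) [Fintype Z] [Decidable (KerZ Z ψ)] :
    ∑ z : Z, lam ψ (z : H) = if KerZ Z ψ then (Nat.card Z : ℂ) else 0 := by
  split_ifs with hk
  · rw [Finset.sum_congr rfl (fun z _ => lam_eq_one_of_kerZ hk z.2), Finset.sum_const,
      Finset.card_univ, nsmul_eq_mul, mul_one, Nat.card_eq_fintype_card]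
  · unfold KerZ at hk
    push Not at hk
    obtain ⟨z₀, hz₀, hne⟩ := hk
    have hl : lam ψ z₀ ≠ 1 := by
      unfold lam
      intro h1
      apply hne
      have h2 := isIrrCharacter_one_ne_zero ψ.2
      field_simp at h1
      exact h1
    have h3 : lam ψ z₀ * ∑ z : Z, lam ψ (z : H) = ∑ z : Z, lam ψ (z : H) := by
      have e1 : ∑ z : Z, lam ψ (z : H) =
          ∑ z : Z, lam ψ (((Equiv.mulLeft (⟨z₀, hz₀⟩ : Z)) z : Z) : H) :=
        (Equiv.sum_comp (Equiv.mulLeft (⟨z₀, hz₀⟩ : Z)) (fun z : Z => lam ψ (z : H))).symm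
      rw [Finset.mul_sum]
      refine Eq.trans ?_ e1.symm
      refine Finset.sum_congr rfl fun z _ => ?_
      rw [Equiv.coe_mulLeft, Subgroup.coe_mul, lam_mul h ψ hz₀]
    have h4 : (lam ψ z₀ - 1) * ∑ z : Z, lam ψ (z : H) = 0 := by
      rw [sub_mul, h3, one_mul, sub_self]
    rcases mul_eq_zero.mp h4 with h5 | h5
    · exact absurd (sub_eq_zero.mp h5) hl
    · exact h5

/-- The regular character of `H / Z`. -/
theorem sum_kerZ_deg_mul (h : CP p Z V) (c : H)
    [DecidablePred (fun θ : IrrCharacter H => KerZ Z θ)] [Decidable (c ∈ Z)] :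
    (Nat.card Z : ℂ) * ∑ θ : IrrCharacter H,
        (if KerZ Z θ then (θ : H → ℂ) 1 * (θ : H → ℂ) c else 0) =
      if c ∈ Z then (Nat.card H : ℂ) else 0 := by
  classical
  have := Fintype.ofFinite Z
  have h1 : ∀ θ : IrrCharacter H, (Nat.card Z : ℂ) *
      (if KerZ Z θ then (θ : H → ℂ) 1 * (θ : H → ℂ) c else 0) =
      ∑ z : Z, (θ : H → ℂ) ((z : H) * c) * conj ((θ : H → ℂ) 1) := by
    intro θ
    have h2 : ∀ z : Z, (θ : H → ℂ) ((z : H) * c) * conj ((θ : H → ℂ) 1) =
        lam θ (z : H) * ((θ : H → ℂ) 1 * (θ : H → ℂ) c) := by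
      intro z
      rw [irr_mul_left h θ z.2, (isIrrCharacter_one_eq_charDegree θ.2).1, Complex.conj_natCast]
      ring
    rw [Finset.sum_congr rfl (fun z _ => h2 z), ← Finset.sum_mul, sum_lam h θ]
    split_ifs <;> ring
  rw [Finset.mul_sum, Finset.sum_congr rfl (fun θ _ => h1 θ), Finset.sum_comm]
  have h3 : ∀ z : Z, ∑ θ : IrrCharacter H,
      (θ : H → ℂ) ((z : H) * c) * conj ((θ : H → ℂ) 1) =
      if (z : H) * c = 1 then (Nat.card H : ℂ) else 0 := by
    intro z
    have h4 := Cfsg.Agent.Lib.Helper3_CharColumn.column_orthogonality ((z : H) * c) 1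
    have h5 : (∑ θ : IrrCharacter H, (θ : H → ℂ) ((z : H) * c) * conj ((θ : H → ℂ) 1)) =
        if IsConj ((z : H) * c) 1 then
          (Nat.card (Subgroup.centralizer ({(z : H) * c} : Set H)) : ℂ) else 0 := by
      convert h4
    rw [h5]
    by_cases hzc : (z : H) * c = 1
    · rw [if_pos hzc, if_pos (by rw [hzc])]
      rw [hzc]
      have : Subgroup.centralizer ({(1 : H)} : Set H) = ⊤ := by
        rw [eq_top_iff]
        intro g _
        rw [Subgroup.mem_centralizer_iff]
        intro k hk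
        rw [Set.mem_singleton_iff.mp hk]
        simp
      rw [this, Subgroup.card_top]
    · rw [if_neg hzc, if_neg]
      intro hc
      exact hzc (isConj_one_left.mp hc)
  rw [Finset.sum_congr rfl (fun z _ => h3 z)]
  by_cases hc : c ∈ Z
  · rw [if_pos hc, Finset.sum_eq_single (⟨c⁻¹, Z.inv_mem hc⟩ : Z)]
    · simp
    · intro z _ hz
      rw [if_neg]
      intro h6
      apply hz
      apply Subtype.ext
      exact eq_inv_of_mul_eq_one_left h6
    · intro h6
      exact absurd (Finset.mem_univ _) h6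
  · rw [if_neg hc]
    apply Finset.sum_eq_zero
    intro z _
    rw [if_neg]
    intro h6
    apply hc
    have : c = (z : H)⁻¹ := eq_inv_of_mul_eq_one_right h6
    rw [this]
    exact Z.inv_mem z.2

/-- Expansion of the value at `1` of a function on `H` along the irreducible characters with `Z`
in their kernels, through the inner products on the `p`-regular elements. -/
theorem regular_expansion (h : CP p Z V) (F : H → ℂ)
    [DecidablePred (fun θ : IrrCharacter H => KerZ Z θ)] :
    ∑ θ : IrrCharacter H, (if KerZ Z θ then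
        ((Nat.card Z : ℂ) / (Nat.card H : ℂ) *
          ∑ c : H, regInd p H c * (F c * conj ((θ : H → ℂ) c))) * (θ : H → ℂ) 1 else 0) =
      F 1 := by
  classical
  have hZne : (Nat.card Z : ℂ) ≠ 0 := by exact_mod_cast Nat.card_pos.ne'
  have hHne : (Nat.card H : ℂ) ≠ 0 := by exact_mod_cast Nat.card_pos.ne'
  have h1 : ∀ θ : IrrCharacter H, (if KerZ Z θ then
        ((Nat.card Z : ℂ) / (Nat.card H : ℂ) *
          ∑ c : H, regInd p H c * (F c * conj ((θ : H → ℂ) c))) * (θ : H → ℂ) 1 else 0) =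
      ∑ c : H, (regInd p H c * F c / (Nat.card H : ℂ)) * ((Nat.card Z : ℂ) *
        conj (if KerZ Z θ then (θ : H → ℂ) 1 * (θ : H → ℂ) c else 0)) := by
    intro θ
    split_ifs with hk
    · rw [Finset.mul_sum, Finset.sum_mul]
      refine Finset.sum_congr rfl fun c _ => ?_
      rw [map_mul, (isIrrCharacter_one_eq_charDegree θ.2).1, Complex.conj_natCast]
      ring
    · simp
  rw [Finset.sum_congr rfl (fun θ _ => h1 θ), Finset.sum_comm]
  have h2 : ∀ c : H, ∑ θ : IrrCharacter H, (regInd p H c * F c / (Nat.card H : ℂ)) *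
      ((Nat.card Z : ℂ) * conj (if KerZ Z θ then (θ : H → ℂ) 1 * (θ : H → ℂ) c else 0)) =
      if c = 1 then F 1 else 0 := by
    intro c
    rw [← Finset.mul_sum, ← Finset.mul_sum, ← map_sum]
    have h3 := sum_kerZ_deg_mul h c
    have h4 : (Nat.card Z : ℂ) * conj (∑ θ : IrrCharacter H,
        (if KerZ Z θ then (θ : H → ℂ) 1 * (θ : H → ℂ) c else 0)) =
        if c ∈ Z then (Nat.card H : ℂ) else 0 := by
      have := congrArg conj h3
      rw [map_mul, Complex.conj_natCast] at this
      rw [this]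
      split_ifs <;> simp
    rw [h4]
    by_cases hc1 : c = 1
    · rw [if_pos hc1, hc1, if_pos Z.one_mem, regInd_of_reg (by
        rw [orderOf_one]; exact hp.out.not_dvd_one)]
      field_simp
    · rw [if_neg hc1]
      by_cases hcZ : c ∈ Z
      · have hsing : p ∣ orderOf c := by
          by_contra hreg
          exact hc1 (h.eq_one_of_mem hcZ ((h.reg_iff c).mp hreg))
        rw [regInd_of_sing hsing]
        simp
      · rw [if_neg hcZ, mul_zero]
  rw [Finset.sum_congr rfl (fun c _ => h2 c), Finset.sum_ite_eq' Finset.univ (1 : H)]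
  simp

end inner

end Cfsg.Agent.Lib.Helper78_CentralProd
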