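import Mathlib
import Cfsg.Agent.S0963
import Cfsg.Agent.S0921
import Cfsg.Agent.Lib.Helper78_CharFacts
import Cfsg.Agent.Lib.Helper77_WeakOrth
import Cfsg.Agent.Lib.Helper75_Induced

/-!
# Blocks of a normal subgroup covered by blocks of the group (helper16)

`N` normal in `G`.  For a block `b` of `N`, `gClosure N b` is the union of the `G`-conjugates of `b`
and `covF N b` its idempotent coefficient function on `N` (a `G`-invariant class function with
local-integer values).
* `omega_extZero_eq` : if `θ` is a constituent of `χ_N` then `ω_χ(F) = ω_θ(F)` for `G`-invariant `F`.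
* `mem_gClosure_of_sameBlock` : the engine behind S0964.
* `exists_over` : every irreducible character of `N` lies under some irreducible character of `G`.
-/

set_option autoImplicit false

namespace Cfsg.Agent.Lib.Helper16_Cover

open Cfsg Cfsg.Agent.Lib.Helper16_Char Cfsg.Agent.Lib.Helper16_Clifford
  Cfsg.Agent.Lib.Helper16_Orbit Cfsg.Agent.Lib.Helper78_LocalRing Cfsg.Agent.Lib.Helper78_Osima
  Cfsg.Agent.Lib.Helper78_CentralChar Cfsg.Agent.Lib.Helper78_CharFacts
open scoped ComplexConjugate

universe u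

section General

variable {H : Type*} [Group H]

theorem index_centralizer_equiv (α : H ≃* H) (n : H) :
    (Subgroup.centralizer ({α n} : Set H)).index = (Subgroup.centralizer ({n} : Set H)).index := by
  have h : Subgroup.centralizer ({α n} : Set H)
      = (Subgroup.centralizer ({n} : Set H)).map (α : H →* H) := by
    ext x
    rw [Subgroup.mem_centralizer_singleton_iff]
    constructor
    · intro hx
      refine ⟨α.symm x, ?_, by simp⟩
      rw [SetLike.mem_coe, Subgroup.mem_centralizer_singleton_iff]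
      apply α.injective
      rw [map_mul, map_mul, MulEquiv.apply_symm_apply]
      exact hx
    · rintro ⟨y, hy, rfl⟩
      rw [SetLike.mem_coe, Subgroup.mem_centralizer_singleton_iff] at hy
      show α y * α n = α n * α y
      rw [← map_mul, ← map_mul, hy]
  rw [h, Subgroup.index_map_equiv]

end General

section Conj

variable {G : Type u} [Group G] (N : Subgroup G) [hN : N.Normal] {M : Ideal AlgInt}

theorem centralChar_cj (x : G) (φ : N → ℂ) (n : N) :
    centralChar (cj N x φ) n = centralChar φ ((MulAut.conjNormal x⁻¹ : MulAut N) n) := by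
  unfold centralChar cj
  rw [index_centralizer_equiv (MulAut.conjNormal x⁻¹ : MulAut N) n, map_one]

theorem sameBlock_cj (x : G) {φ φ' : N → ℂ} (h : SameBlock M φ φ') :
    SameBlock M (cj N x φ) (cj N x φ') := by
  intro n
  rw [centralChar_cj, centralChar_cj]
  exact h _

/-- conjugation as a permutation of the irreducible characters of `N` -/
noncomputable def cjIrr (x : G) : IrrCharacter N ≃ IrrCharacter N where
  toFun φ := ⟨cj N x φ, cj_irr N x φ.2⟩
  invFun φ := ⟨cj N x⁻¹ φ, cj_irr N x⁻¹ φ.2⟩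
  left_inv φ := Subtype.ext (cj_inv_cj N x φ)
  right_inv φ := Subtype.ext (cj_cj_inv N x φ)

/-- the union of the `G`-conjugates of a set of irreducible characters of `N` -/
def gClosure (b : Set (IrrCharacter N)) : Set (IrrCharacter N) :=
  {φ | ∃ x : G, ∃ θ ∈ b, (φ : N → ℂ) = cj N x (θ : N → ℂ)}

theorem subset_gClosure (b : Set (IrrCharacter N)) : b ⊆ gClosure N b := by
  intro θ hθ
  exact ⟨1, θ, hθ, (cj_one N _).symm⟩

theorem cjIrr_mem_gClosure (b : Set (IrrCharacter N)) (y : G) {φ : IrrCharacter N}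
    (hφ : φ ∈ gClosure N b) : cjIrr N y φ ∈ gClosure N b := by
  obtain ⟨x, θ, hθ, h⟩ := hφ
  refine ⟨y * x, θ, hθ, ?_⟩
  show cj N y (φ : N → ℂ) = _
  rw [h, cj_mul]

theorem cjIrr_mem_gClosure_iff (b : Set (IrrCharacter N)) (y : G) (φ : IrrCharacter N) :
    cjIrr N y φ ∈ gClosure N b ↔ φ ∈ gClosure N b := by
  constructor
  · intro h
    have := cjIrr_mem_gClosure N b y⁻¹ h
    have e : cjIrr N y⁻¹ (cjIrr N y φ) = φ := Subtype.ext (cj_inv_cj N y φ)
    rwa [e] at this
  · exact cjIrr_mem_gClosure N b y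

theorem gClosure_closed (hM : M.IsPrime) {b : Set (IrrCharacter N)} (hb : IsPBlock M b) :
    ∀ φ ∈ gClosure N b, ∀ ψ : IrrCharacter N,
      SameBlock M (φ : N → ℂ) (ψ : N → ℂ) → ψ ∈ gClosure N b := by
  rintro φ ⟨x, θ, hθ, h⟩ ψ hsb
  have h1 : SameBlock M (cj N x⁻¹ (φ : N → ℂ)) (cj N x⁻¹ (ψ : N → ℂ)) := sameBlock_cj N x⁻¹ hsb
  rw [h, cj_inv_cj] at h1
  have h2 : cjIrr N x⁻¹ ψ ∈ b := isPBlock_mem_of_sameBlock hM hb hθ h1
  refine ⟨x, cjIrr N x⁻¹ ψ, h2, ?_⟩
  show (ψ : N → ℂ) = cj N x (cj N x⁻¹ (ψ : N → ℂ))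
  rw [cj_cj_inv]

end Conj

section Cover

set_option linter.unusedSectionVars false

variable {G : Type u} [Group G] [Fintype G] (N : Subgroup G) [hN : N.Normal] [Fintype N]
  {M : Ideal AlgInt}

/-- the idempotent coefficient function of the `G`-closure of `b` -/
noncomputable def covF (b : Set (IrrCharacter N)) : N → ℂ := blockCoeff (gClosure N b)

theorem cj_covF (b : Set (IrrCharacter N)) (x : G) : cj N x (covF N b) = covF N b := by
  classical
  have : Finite (IrrCharacter N) := (charFacts (G := N)).finite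
  have := Fintype.ofFinite (IrrCharacter N)
  funext n
  unfold covF cj
  rw [blockCoeff_eq_sum, blockCoeff_eq_sum]
  congr 1
  rw [← Equiv.sum_comp (cjIrr N x) (fun φ => (gClosure N b).indicator
    (fun φ : IrrCharacter N => (φ : N → ℂ) 1 * conj ((φ : N → ℂ) n)) φ)]
  refine Finset.sum_congr rfl fun φ _ => ?_
  by_cases hφ : φ ∈ gClosure N b
  · rw [Set.indicator_of_mem hφ, Set.indicator_of_mem ((cjIrr_mem_gClosure_iff N b x φ).mpr hφ)]
    show _ = cj N x φ 1 * conj (cj N x φ n)
    unfold cj
    rw [map_one]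
  · rw [Set.indicator_of_notMem hφ,
      Set.indicator_of_notMem (mt (cjIrr_mem_gClosure_iff N b x φ).mp hφ)]

theorem covF_memLocalRing (hM : M.IsPrime) {b : Set (IrrCharacter N)} (hb : IsPBlock M b)
    (n : N) : MemLocalRing M (covF N b n) :=
  osima' hM _ (gClosure_closed N hM hb) n

theorem omega_covF (b : Set (IrrCharacter N)) (θ : IrrCharacter N) :
    omega (θ : N → ℂ) (covF N b) = (gClosure N b).indicator (fun _ => (1 : ℂ)) θ :=
  omega_blockCoeff charFacts _ θ

/-- if `θ` lies under `χ` then `χ` and `θ` agree on `G`-invariant functions on `N` -/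
theorem omega_extZero_eq (χ : IrrCharacter G) (θ : IrrCharacter N)
    (hθ : classInner (fun n : N => (χ : G → ℂ) n) (θ : N → ℂ) ≠ 0) (F : N → ℂ)
    (hF : ∀ x : G, cj N x F = F) :
    omega (χ : G → ℂ) (extZero N F) = omega (θ : N → ℂ) F := by
  classical
  unfold omega
  rw [sum_extZero_mul]
  exact sum_mul_char_eq N χ θ ((Cfsg.Agent.S0963.result N χ θ).mp hθ) F hF

theorem memLocalRing_extZero (hM : M.IsPrime) (F : N → ℂ) (hF : ∀ n, MemLocalRing M (F n))
    (g : G) : MemLocalRing M (extZero N F g) := by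
  by_cases hg : g ∈ N
  · have := extZero_mem N F ⟨g, hg⟩
    rw [this]
    exact hF _
  · rw [extZero_not_mem N F hg]
    exact memLocalRing_zero hM

theorem memLocalIdeal_omega_extZero_sub (hM : M.IsPrime) {χ χ' : IrrCharacter G}
    (hsb : SameBlock M (χ : G → ℂ) (χ' : G → ℂ)) (F : N → ℂ) (hF : ∀ x : G, cj N x F = F)
    (hFR : ∀ n, MemLocalRing M (F n)) :
    MemLocalIdeal M (omega (χ : G → ℂ) (extZero N F) - omega (χ' : G → ℂ) (extZero N F)) :=
  memLocalIdeal_omega_sub hM (isIrrCharacter_isClassFunction χ.2)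
    (isIrrCharacter_isClassFunction χ'.2) hsb (extZero_isClassFunction N F hF)
    (memLocalRing_extZero N hM F hFR)

/-- engine behind S0964 -/
theorem mem_gClosure_of_sameBlock (hM : M.IsPrime) {b : Set (IrrCharacter N)}
    (hb : IsPBlock M b) {χ χ' : IrrCharacter G}
    (hsb : SameBlock M (χ : G → ℂ) (χ' : G → ℂ)) {θ : IrrCharacter N}
    (hθb : θ ∈ gClosure N b)
    (hθ : classInner (fun n : N => (χ : G → ℂ) n) (θ : N → ℂ) ≠ 0) {ψ : IrrCharacter N}
    (hψ : classInner (fun n : N => (χ' : G → ℂ) n) (ψ : N → ℂ) ≠ 0) : ψ ∈ gClosure N b := by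
  by_contra hψS
  have h1 : omega (χ : G → ℂ) (extZero N (covF N b)) = 1 := by
    rw [omega_extZero_eq N χ θ hθ _ (cj_covF N b), omega_covF, Set.indicator_of_mem hθb]
  have h2 : omega (χ' : G → ℂ) (extZero N (covF N b)) = 0 := by
    rw [omega_extZero_eq N χ' ψ hψ _ (cj_covF N b), omega_covF, Set.indicator_of_notMem hψS]
  have h := memLocalIdeal_omega_extZero_sub N hM hsb (covF N b) (cj_covF N b)
    (covF_memLocalRing N hM hb)
  rw [h1, h2, sub_zero] at h
  exact not_memLocalIdeal_one hM h

/-- every irreducible character of `N` lies under an irreducible character of `G` -/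
theorem exists_over (θ : IrrCharacter N) :
    ∃ χ : IrrCharacter G, classInner (fun n : N => (χ : G → ℂ) n) (θ : N → ℂ) ≠ 0 := by
  classical
  by_contra hcon
  push Not at hcon
  have h0 : Cfsg.indFun N (θ : N → ℂ) = 0 := by
    apply Cfsg.Agent.Lib.Helper3_CharComplete.eq_zero_of_forall_classInner_irr_eq_zero _
      (Cfsg.Agent.Lib.Helper75_Induced.isClassFunction_indFun N _)
    intro χ hχ
    rw [Cfsg.Agent.Lib.Helper75_Induced.frobenius_reciprocity N _ χ
      (isIrrCharacter_isClassFunction hχ),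
      ← Cfsg.Agent.Lib.Helper3_CharOrtho.classInner_conj_symm]
    have := hcon ⟨χ, hχ⟩
    simp only at this
    rw [this, map_zero]
  have h1 := congrFun h0 1
  rw [Cfsg.Agent.Lib.Helper75_Induced.indFun_apply] at h1
  have h2 : ∀ x : G, Cfsg.extendByZero N (θ : N → ℂ) (x⁻¹ * 1 * x) = (θ : N → ℂ) 1 := by
    intro x
    have : x⁻¹ * 1 * x = ((1 : N) : G) := by simp
    rw [this, Cfsg.Agent.Lib.Helper75_Induced.extendByZero_coe]
  rw [Finset.sum_congr rfl (fun x _ => h2 x), Finset.sum_const, Finset.card_univ,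
    nsmul_eq_mul] at h1
  have hN0 : (Nat.card N : ℂ) ≠ 0 := by
    rw [Nat.cast_ne_zero]; exact Nat.card_pos.ne'
  have hG0 : (Fintype.card G : ℂ) ≠ 0 := by
    rw [Nat.cast_ne_zero]; exact Fintype.card_ne_zero
  have hθ1 : (θ : N → ℂ) 1 ≠ 0 := isIrrCharacter_one_ne_zero θ.2
  exact mul_ne_zero (inv_ne_zero hN0) (mul_ne_zero hG0 hθ1) h1

/-- elements outside a normal subgroup of `p`-power index are `p`-singular -/
theorem dvd_orderOf_of_not_mem {p : ℕ} [Fact p.Prime] {k : ℕ} (hidx : N.index = p ^ k) {g : G}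
    (hg : g ∉ N) : p ∣ orderOf g := by
  have h1 : orderOf (QuotientGroup.mk' N g) ∣ p ^ k := by
    rw [← hidx]
    exact orderOf_dvd_natCard _
  obtain ⟨j, -, hj⟩ := (Nat.dvd_prime_pow (Fact.out : p.Prime)).mp h1
  have hj0 : j ≠ 0 := by
    intro h0
    rw [h0, pow_zero, orderOf_eq_one_iff] at hj
    exact hg ((QuotientGroup.eq_one_iff g).mp hj)
  have h2 : p ∣ orderOf (QuotientGroup.mk' N g) := by
    rw [hj]
    exact dvd_pow_self p hj0
  exact dvd_trans h2 (orderOf_map_dvd _ g)

/-- engine behind S0966: two blocks of `G` covering the same block of a normal subgroup of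
`p`-power index coincide -/
theorem mem_of_cover {p : ℕ} [Fact p.Prime] (hM : IsPModular p M) {k : ℕ}
    (hidx : N.index = p ^ k) {B : Set (IrrCharacter G)} (hB : IsPBlock M B)
    {χ χ' : IrrCharacter G} (hχ : χ ∈ B) {θ θ' : IrrCharacter N}
    (hsb : SameBlock M (θ : N → ℂ) (θ' : N → ℂ))
    (hθ : classInner (fun n : N => (χ : G → ℂ) n) (θ : N → ℂ) ≠ 0)
    (hθ' : classInner (fun n : N => (χ' : G → ℂ) n) (θ' : N → ℂ) ≠ 0) : χ' ∈ B := by
  classical
  have hMp := isPrime_of_isPModular hM
  set F : N → ℂ := fun n => blockCoeff B (n : G) with hFdef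
  have hF : ∀ x : G, cj N x F = F := by
    intro x
    funext n
    unfold cj
    simp only [hFdef]
    rw [MulAut.conjNormal_apply]
    exact blockCoeff_isClassFunction B (n : G) x⁻¹
  have hext : extZero N F = blockCoeff B := by
    funext g
    by_cases hg : g ∈ N
    · exact extZero_mem N F ⟨g, hg⟩
    · rw [extZero_not_mem N F hg]
      exact (Cfsg.Agent.Lib.Helper77_WeakOrth.blockCoeff_block_eq_zero_of_sing hM hB g
        (dvd_orderOf_of_not_mem N hidx hg)).symm
  have h1 : omega (θ : N → ℂ) F = 1 := by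
    rw [← omega_extZero_eq N χ θ hθ F hF, hext, omega_blockCoeff charFacts B χ,
      Set.indicator_of_mem hχ]
  by_contra hχ'
  have h2 : omega (θ' : N → ℂ) F = 0 := by
    rw [← omega_extZero_eq N χ' θ' hθ' F hF, hext, omega_blockCoeff charFacts B χ',
      Set.indicator_of_notMem hχ']
  have hFc : IsClassFunction N F := by
    intro n h
    simp only [hFdef]
    exact blockCoeff_isClassFunction B (n : G) (h : G)
  have h3 := memLocalIdeal_omega_sub hMp (isIrrCharacter_isClassFunction θ.2)
    (isIrrCharacter_isClassFunction θ'.2) hsb hFc (fun n => osima_block' hMp hB (n : G))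
  rw [h1, h2, sub_zero] at h3
  exact not_memLocalIdeal_one hMp h3

theorem mk_out_eq (c : ConjClasses G) : ConjClasses.mk c.out = c := Quotient.out_eq c

/-- congruence version of `omega_extZero_eq` (engine behind S0965) -/
theorem memLocalIdeal_omega_extZero_sub_of_congr (hM : M.IsPrime) (χ : G → ℂ)
    (hχ : IsClassFunction G χ) (θ : N → ℂ)
    (H : ∀ n : N, MemLocalIdeal M (centralChar χ (n : G) - inducedCentralChar N θ (n : G)))
    (F : N → ℂ) (hF : ∀ x : G, cj N x F = F) (hFR : ∀ n, MemLocalRing M (F n)) :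
    MemLocalIdeal M (omega χ (extZero N F) - omega θ F) := by
  classical
  rw [omega_eq_sum_conjClasses hχ (extZero_isClassFunction N F hF)]
  have h2 : omega θ F = ∑ c : ConjClasses G,
      ∑ m ∈ Finset.univ.filter (fun m : N => ConjClasses.mk (m : G) = c), F m * θ m / θ 1 := by
    unfold omega
    rw [Finset.sum_div, Finset.sum_fiberwise]
  rw [h2, ← Finset.sum_sub_distrib]
  refine memLocalIdeal_sum hM _ _ fun c _ => ?_
  by_cases hc : c.out ∈ N
  · have hT : ∑ m ∈ Finset.univ.filter (fun m : N => ConjClasses.mk (m : G) = c),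
        F m * θ m / θ 1 = extZero N F c.out * inducedCentralChar N θ c.out := by
      rw [inducedCentralChar_eq_sum, Finset.sum_div, Finset.mul_sum, Finset.sum_filter]
      refine Finset.sum_congr rfl fun m _ => ?_
      by_cases hm : ConjClasses.mk (m : G) = c
      · have hconj : IsConj c.out (m : G) := by
          rw [← ConjClasses.mk_eq_mk_iff_isConj, mk_out_eq, hm]
        have hFm : F m = extZero N F c.out := by
          rw [eq_of_isConj_of_invariant N F hF m ⟨c.out, hc⟩ hconj.symm]
          exact (extZero_mem N F ⟨c.out, hc⟩).symm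
        rw [if_pos hm, if_pos hconj, hFm]
        ring
      · have hconj : ¬ IsConj c.out (m : G) := by
          intro h
          apply hm
          rw [← mk_out_eq c, ConjClasses.mk_eq_mk_iff_isConj]
          exact h.symm
        rw [if_neg hm, if_neg hconj, zero_div, mul_zero]
    rw [hT, ← mul_sub]
    exact memLocalIdeal_mul_left hM (memLocalRing_extZero N hM F hFR _) (H ⟨c.out, hc⟩)
  · have hT : ∑ m ∈ Finset.univ.filter (fun m : N => ConjClasses.mk (m : G) = c),
        F m * θ m / θ 1 = 0 := by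
      apply Finset.sum_eq_zero
      intro m hm
      exfalso
      apply hc
      have hm' := (Finset.mem_filter.mp hm).2
      have hconj : IsConj (m : G) c.out := by
        rw [← ConjClasses.mk_eq_mk_iff_isConj, mk_out_eq, hm']
      obtain ⟨x, hx⟩ := isConj_iff.mp hconj
      rw [← hx]
      exact hN.conj_mem _ m.2 x
    rw [extZero_not_mem N F hc, zero_mul, hT, sub_zero]
    exact memLocalIdeal_zero hM

end Cover

end Cfsg.Agent.Lib.Helper16_Cover
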