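import Mathlib
import Cfsg.Prelude.Def_Blocks
import Cfsg.Prelude.Def_BlockLocal
import Cfsg.Agent.Lib.Helper78_LocalRing
import Cfsg.Agent.Lib.Helper78_CentralChar
import Cfsg.Agent.Lib.Helper81_CharOrth2

/-!
# Transport of block-theoretic notions along group isomorphisms (helper78)

* `centralChar_comp_mulEquiv`, `sameBlock_comp_mulEquiv`.
* `irrComp φ χ`: the irreducible character `χ ∘ φ`.
* `conjEquiv`: conjugation by an element normalizing a subgroup, as an automorphism of the
  subgroup; `stabilizesBlock_principal`: every element normalizing `K` stabilizes the principal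
  block of `K`.
-/

set_option autoImplicit false
set_option linter.unusedSectionVars false

namespace Cfsg.Agent.Lib.Helper78_Transport

open Cfsg Cfsg.Agent.Lib.Helper78_LocalRing Cfsg.Agent.Lib.Helper78_CentralChar

universe u v

variable {G : Type u} [Group G] {H : Type v} [Group H] {M : Ideal AlgInt}

theorem centralizer_map_mulEquiv (φ : H ≃* G) (h : H) :
    Subgroup.centralizer ({φ h} : Set G) =
      (Subgroup.centralizer ({h} : Set H)).map (φ : H →* G) := by
  ext x
  rw [Subgroup.mem_centralizer_iff, Subgroup.mem_map]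
  constructor
  · intro hx
    refine ⟨φ.symm x, ?_, by simp⟩
    rw [Subgroup.mem_centralizer_iff]
    intro y hy
    rw [Set.mem_singleton_iff] at hy
    subst hy
    have := hx (φ y) (Set.mem_singleton _)
    apply φ.injective
    rw [map_mul, map_mul, MulEquiv.apply_symm_apply]
    exact this
  · rintro ⟨y, hy, rfl⟩ k hk
    rw [Set.mem_singleton_iff] at hk
    subst hk
    rw [Subgroup.mem_centralizer_iff] at hy
    have := hy h (Set.mem_singleton _)
    show φ h * φ y = φ y * φ h
    rw [← map_mul, ← map_mul, this]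

theorem index_centralizer_mulEquiv (φ : H ≃* G) (h : H) :
    (Subgroup.centralizer ({φ h} : Set G)).index =
      (Subgroup.centralizer ({h} : Set H)).index := by
  rw [centralizer_map_mulEquiv]
  exact Subgroup.index_map_equiv _ φ

theorem centralChar_comp_mulEquiv (φ : H ≃* G) (χ : G → ℂ) (h : H) :
    centralChar (χ ∘ φ) h = centralChar χ (φ h) := by
  unfold centralChar
  rw [index_centralizer_mulEquiv]
  simp only [Function.comp_apply, map_one]

theorem sameBlock_comp_mulEquiv (φ : H ≃* G) {χ ψ : G → ℂ} (h : SameBlock M χ ψ) :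
    SameBlock M (χ ∘ φ) (ψ ∘ φ) := by
  intro g
  rw [centralChar_comp_mulEquiv, centralChar_comp_mulEquiv]
  exact h (φ g)

/-- The irreducible character `χ ∘ φ`. -/
noncomputable def irrComp (φ : H ≃* G) (χ : IrrCharacter G) : IrrCharacter H :=
  ⟨(χ : G → ℂ) ∘ φ, Cfsg.Agent.Lib.Helper81_CharOrth2.isIrrCharacter_comp_mulEquiv φ χ.2⟩

theorem irrComp_apply (φ : H ≃* G) (χ : IrrCharacter G) (h : H) :
    (irrComp φ χ : H → ℂ) h = (χ : G → ℂ) (φ h) := rfl

/-- Conjugation by the inverse of an element normalizing `K`, as an automorphism of `K`. -/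
noncomputable def conjEquiv (K : Subgroup G) (g : G)
    (hg : g ∈ Subgroup.normalizer (K : Set G)) : K ≃* K where
  toFun k := ⟨g⁻¹ * (k : G) * g, by
    have h1 : g⁻¹ ∈ Subgroup.normalizer (K : Set G) := inv_mem hg
    have := (Subgroup.mem_set_normalizer_iff.mp h1 (k : G)).mp k.2
    simpa using this⟩
  invFun k := ⟨g * (k : G) * g⁻¹, (Subgroup.mem_set_normalizer_iff.mp hg (k : G)).mp k.2⟩
  left_inv k := by
    apply Subtype.ext
    show g * (g⁻¹ * (k : G) * g) * g⁻¹ = k
    group
  right_inv k := by
    apply Subtype.ext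
    show g⁻¹ * (g * (k : G) * g⁻¹) * g = k
    group
  map_mul' a b := by
    apply Subtype.ext
    show g⁻¹ * ((a : G) * (b : G)) * g = (g⁻¹ * (a : G) * g) * (g⁻¹ * (b : G) * g)
    group

theorem conjEquiv_apply (K : Subgroup G) (g : G) (hg : g ∈ Subgroup.normalizer (K : Set G))
    (k : K) : ((conjEquiv K g hg k : K) : G) = g⁻¹ * (k : G) * g := rfl

/-- The `g`-conjugate of an irreducible character of `K`. -/
theorem isConjCharOf_irrComp (K : Subgroup G) (g : G)
    (hg : g ∈ Subgroup.normalizer (K : Set G)) (χ : IrrCharacter K) :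
    IsConjCharOf K g (χ : K → ℂ) (irrComp (conjEquiv K g hg) χ : K → ℂ) := by
  intro k k' hk
  rw [irrComp_apply]
  have : conjEquiv K g hg k' = k := by
    apply Subtype.ext
    rw [conjEquiv_apply, hk]
    group
  rw [this]

/-- Every element normalizing `K` stabilizes the principal block of `K`. -/
theorem stabilizesBlock_principal (K : Subgroup G) (g : G)
    (hg : g ∈ Subgroup.normalizer (K : Set G)) :
    StabilizesBlock K (principalBlock M K) g := by
  refine ⟨hg, fun χ hχ => ⟨irrComp (conjEquiv K g hg) χ, ?_, isConjCharOf_irrComp K g hg χ⟩⟩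
  have h1 : SameBlock M (fun _ : K => (1 : ℂ)) (χ : K → ℂ) := hχ
  have h2 := sameBlock_comp_mulEquiv (conjEquiv K g hg) h1
  exact h2

end Cfsg.Agent.Lib.Helper78_Transport
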