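import Mathlib
import Cfsg.Prelude.Def_Blocks
import Cfsg.Prelude.Def_BlockLocal
import Cfsg.Agent.Lib.Helper78_LocalRing
import Cfsg.Agent.Lib.Helper78_CentralChar
import Cfsg.Agent.Lib.Helper78_Osima
import Cfsg.Agent.Lib.Helper78_MinMax
import Cfsg.Agent.Lib.Helper78_Transport

/-!
# Transport of blocks along a group isomorphism (helper78)

For `φ : H ≃* G`: `mapBlock φ B` (the set of the `χ ∘ φ`, `χ ∈ B`), and the transport of
`IsPBlock`, `blockCoeff`, `IsDefectClass`, `IsDefectGroup`, `omega`.  Also a `Sylow`-free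
characterization of `IsDefectGroup`.
-/

set_option autoImplicit false
set_option linter.unusedSectionVars false

namespace Cfsg.Agent.Lib.Helper78_TransportBlocks

open Cfsg Cfsg.Agent.Lib.Helper78_LocalRing Cfsg.Agent.Lib.Helper78_CentralChar
  Cfsg.Agent.Lib.Helper78_Osima Cfsg.Agent.Lib.Helper78_MinMax
  Cfsg.Agent.Lib.Helper78_Transport

universe u v

variable {G : Type u} [Group G] {H : Type v} [Group H] {M : Ideal AlgInt} {p : ℕ}

theorem irrComp_symm_irrComp (φ : H ≃* G) (χ : IrrCharacter G) :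
    irrComp φ.symm (irrComp φ χ) = χ := by
  apply Subtype.ext
  funext g
  rw [irrComp_apply, irrComp_apply, MulEquiv.apply_symm_apply]

theorem irrComp_irrComp_symm (φ : H ≃* G) (ξ : IrrCharacter H) :
    irrComp φ (irrComp φ.symm ξ) = ξ := by
  apply Subtype.ext
  funext h
  rw [irrComp_apply, irrComp_apply, MulEquiv.symm_apply_apply]

theorem irrComp_injective (φ : H ≃* G) : Function.Injective (irrComp φ) := by
  intro χ χ' h
  have := congrArg (irrComp φ.symm) h
  rwa [irrComp_symm_irrComp, irrComp_symm_irrComp] at this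

/-- The set of the characters `χ ∘ φ`, `χ ∈ B`. -/
def mapBlock (φ : H ≃* G) (B : Set (IrrCharacter G)) : Set (IrrCharacter H) := irrComp φ '' B

theorem irrComp_mem_mapBlock (φ : H ≃* G) {B : Set (IrrCharacter G)} {χ : IrrCharacter G}
    (h : χ ∈ B) : irrComp φ χ ∈ mapBlock φ B := ⟨χ, h, rfl⟩

theorem mem_mapBlock_iff (φ : H ≃* G) (B : Set (IrrCharacter G)) (ξ : IrrCharacter H) :
    ξ ∈ mapBlock φ B ↔ irrComp φ.symm ξ ∈ B := by
  constructor
  · rintro ⟨χ, hχ, rfl⟩
    rwa [irrComp_symm_irrComp]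
  · intro h
    exact ⟨_, h, irrComp_irrComp_symm φ ξ⟩

theorem mapBlock_symm_mapBlock (φ : H ≃* G) (B : Set (IrrCharacter G)) :
    mapBlock φ.symm (mapBlock φ B) = B := by
  ext χ
  rw [mem_mapBlock_iff, mem_mapBlock_iff]
  have : irrComp φ.symm (irrComp φ.symm.symm χ) = χ := irrComp_symm_irrComp φ χ
  rw [this]

theorem mapBlock_mapBlock_symm (φ : H ≃* G) (b : Set (IrrCharacter H)) :
    mapBlock φ (mapBlock φ.symm b) = b :=
  mapBlock_symm_mapBlock φ.symm b

theorem sameBlock_comp_iff (φ : H ≃* G) {χ ψ : G → ℂ} :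
    SameBlock M (χ ∘ φ) (ψ ∘ φ) ↔ SameBlock M χ ψ := by
  constructor
  · intro h
    have := sameBlock_comp_mulEquiv φ.symm h
    have e1 : (χ ∘ φ) ∘ φ.symm = χ := by funext g; simp
    have e2 : (ψ ∘ φ) ∘ φ.symm = ψ := by funext g; simp
    rwa [e1, e2] at this
  · exact sameBlock_comp_mulEquiv φ

theorem mapBlock_blockOf (φ : H ≃* G) (χ : IrrCharacter G) :
    mapBlock φ (blockOf M (χ : G → ℂ)) = blockOf M (irrComp φ χ : H → ℂ) := by
  ext ξ
  rw [mem_mapBlock_iff]
  show SameBlock M (χ : G → ℂ) (irrComp φ.symm ξ : G → ℂ) ↔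
    SameBlock M (irrComp φ χ : H → ℂ) (ξ : H → ℂ)
  have h1 : (ξ : H → ℂ) = (irrComp φ.symm ξ : G → ℂ) ∘ φ := by
    funext h
    show _ = (ξ : H → ℂ) (φ.symm (φ h))
    rw [MulEquiv.symm_apply_apply]
  rw [h1]
  exact (sameBlock_comp_iff φ).symm

theorem isPBlock_mapBlock (φ : H ≃* G) {B : Set (IrrCharacter G)} (hB : IsPBlock M B) :
    IsPBlock M (mapBlock φ B) := by
  obtain ⟨χ, rfl⟩ := hB
  exact ⟨irrComp φ χ, mapBlock_blockOf φ χ⟩

theorem blockCoeff_mapBlock (φ : H ≃* G) (B : Set (IrrCharacter G)) (h : H) :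
    blockCoeff (mapBlock φ B) h = blockCoeff B (φ h) := by
  unfold blockCoeff mapBlock
  rw [Nat.card_congr φ.toEquiv, finsum_mem_image (fun a _ b _ hab => irrComp_injective φ hab)]
  congr 1
  refine finsum_congr fun χ => ?_
  refine finsum_congr fun _ => ?_
  rw [irrComp_apply, irrComp_apply, map_one]

theorem isDefectClass_mapBlock (φ : H ≃* G) (B : Set (IrrCharacter G)) (h : H) :
    IsDefectClass M (mapBlock φ B) h ↔ IsDefectClass M B (φ h) := by
  unfold IsDefectClass
  rw [blockCoeff_mapBlock]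
  have : (∀ ξ ∈ mapBlock φ B, ¬ MemLocalIdeal M (centralChar (ξ : H → ℂ) h)) ↔
      ∀ χ ∈ B, ¬ MemLocalIdeal M (centralChar (χ : G → ℂ) (φ h)) := by
    unfold mapBlock
    rw [Set.forall_mem_image]
    refine forall_congr' fun χ => forall_congr' fun _ => ?_
    have : (irrComp φ χ : H → ℂ) = (χ : G → ℂ) ∘ φ := rfl
    rw [this, centralChar_comp_mulEquiv]
  rw [this]

/-- A `Sylow`-free characterization of defect groups. -/
theorem isDefectGroup_iff [Finite G] [Fact p.Prime] (B : Set (IrrCharacter G)) (D : Subgroup G) :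
    IsDefectGroup p M B D ↔ ∃ g : G, IsDefectClass M B g ∧
      D ≤ Subgroup.centralizer ({g} : Set G) ∧ IsPGroup p D ∧
      Nat.card D = p ^ (Nat.card (Subgroup.centralizer ({g} : Set G))).factorization p := by
  constructor
  · rintro ⟨g, hg, P, rfl⟩
    refine ⟨g, hg, map_sylow_le _ P, isPGroup_map_sylow _ P, ?_⟩
    rw [Subgroup.card_map_of_injective (Subgroup.subtype_injective _)]
    exact P.card_eq_multiplicity
  · rintro ⟨g, hg, hDC, hDp, hcard⟩
    have hD' : IsPGroup p (D.subgroupOf (Subgroup.centralizer ({g} : Set G))) :=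
      hDp.comap_subtype
    obtain ⟨P, hP⟩ := hD'.exists_le_sylow
    refine ⟨g, hg, P, ?_⟩
    have hc1 : Nat.card (D.subgroupOf (Subgroup.centralizer ({g} : Set G))) = Nat.card D :=
      Nat.card_congr (Subgroup.subgroupOfEquivOfLe hDC).toEquiv
    have hc2 : Nat.card (P : Subgroup (Subgroup.centralizer ({g} : Set G))) =
        p ^ (Nat.card (Subgroup.centralizer ({g} : Set G))).factorization p :=
      P.card_eq_multiplicity
    have heq : D.subgroupOf (Subgroup.centralizer ({g} : Set G)) =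
        (P : Subgroup (Subgroup.centralizer ({g} : Set G))) :=
      Subgroup.eq_of_le_of_card_ge hP (by rw [hc1, hc2, hcard])
    rw [← heq, Subgroup.map_subgroupOf_eq_of_le hDC]

theorem isDefectGroup_mapBlock [Finite G] [Fact p.Prime] (φ : H ≃* G)
    {B : Set (IrrCharacter G)} {D : Subgroup G} (hD : IsDefectGroup p M B D) :
    IsDefectGroup p M (mapBlock φ B) (D.map (φ.symm : G →* H)) := by
  have : Finite H := Finite.of_equiv G φ.symm.toEquiv
  rw [isDefectGroup_iff] at hD ⊢
  obtain ⟨g, hg, hDC, hDp, hcard⟩ := hD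
  refine ⟨φ.symm g, ?_, ?_, hDp.map _, ?_⟩
  · rw [isDefectClass_mapBlock, MulEquiv.apply_symm_apply]
    exact hg
  · rintro _ ⟨d, hd, rfl⟩
    rw [Subgroup.mem_centralizer_iff]
    intro k hk
    rw [Set.mem_singleton_iff] at hk
    subst hk
    have h1 := Subgroup.mem_centralizer_iff.mp (hDC hd) g rfl
    show φ.symm g * φ.symm d = φ.symm d * φ.symm g
    rw [← map_mul, ← map_mul, h1]
  · rw [Subgroup.card_map_of_injective φ.symm.injective, hcard]
    congr 2
    have h2 := centralizer_map_mulEquiv φ (φ.symm g)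
    rw [MulEquiv.apply_symm_apply] at h2
    rw [h2, Subgroup.card_map_of_injective φ.injective]

theorem omega_comp [Fintype G] [Fintype H] (φ : H ≃* G) (ξ f : G → ℂ) :
    omega (ξ ∘ φ) (f ∘ φ) = omega ξ f := by
  unfold omega
  simp only [Function.comp_apply, map_one]
  congr 1
  exact Fintype.sum_equiv φ.toEquiv _ _ (fun _ => rfl)

end Cfsg.Agent.Lib.Helper78_TransportBlocks
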