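import Mathlib
import Cfsg.Prelude.Def_Blocks
import Cfsg.Prelude.Def_BlockLocal
import Cfsg.Prelude.Def_BrauerPairs
import Cfsg.Agent.Lib.Helper78_LocalRing
import Cfsg.Agent.Lib.Helper78_CentralChar
import Cfsg.Agent.Lib.Helper78_Osima
import Cfsg.Agent.Lib.Helper78_CharFacts
import Cfsg.Agent.Lib.Helper78_AlgHom
import Cfsg.Agent.Lib.Helper78_Brauer
import Cfsg.Agent.Lib.Helper78_BrauerMap
import Cfsg.Agent.Lib.Helper78_BrDecomp
import Cfsg.Agent.Lib.Helper78_Defect
import Cfsg.Agent.Lib.Helper78_Deficiency
import Cfsg.Agent.Lib.Helper78_FirstMainGT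
import Cfsg.Agent.Lib.Helper78_FirstMain
import Cfsg.Agent.Lib.Helper78_SecondMain
import Cfsg.Agent.Lib.Helper78_TransportBlocks
import Cfsg.Agent.Lib.Helper1_Cores
import Cfsg.Agent.S0912

/-!
# The Brauer correspondence on the level of idempotents (helper78)

* `pointwise_of_omega_indicator`: a class function which is idempotent modulo the ideal and whose
  central character values are congruent to the indicator of a closed set `S` of characters is
  congruent, coefficient by coefficient, to the idempotent of `S`.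
* `isDefectGroup_subgroupOf_of_induced`: if `P ≤ H ≤ N_G(P)`, `B` has defect group `P` and the
  block `b` of `H` induces `B`, then `b` has defect group `P`.
* `br_blockCoeff_sub_mem`: if `B` has defect group `P` and `b` is its Brauer correspondent in
  `N_G(P)`, the Brauer image of `e_B` is congruent to `e_b` coefficient by coefficient.
* `eq_of_blockCoeff_congr`, `corr_unique`.
-/

set_option autoImplicit false
set_option linter.unusedSectionVars false

namespace Cfsg.Agent.Lib.Helper78_BrauerCorr

open Cfsg Cfsg.Agent.Lib.Helper78_LocalRing Cfsg.Agent.Lib.Helper78_CentralChar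
  Cfsg.Agent.Lib.Helper78_Osima Cfsg.Agent.Lib.Helper78_CharFacts
  Cfsg.Agent.Lib.Helper78_AlgHom Cfsg.Agent.Lib.Helper78_Brauer
  Cfsg.Agent.Lib.Helper78_BrauerMap Cfsg.Agent.Lib.Helper78_BrDecomp
  Cfsg.Agent.Lib.Helper78_Defect Cfsg.Agent.Lib.Helper78_Deficiency
  Cfsg.Agent.Lib.Helper78_FirstMainGT Cfsg.Agent.Lib.Helper78_FirstMain
  Cfsg.Agent.Lib.Helper78_SecondMain
  Cfsg.Agent.Lib.Helper78_TransportBlocks

universe u

variable {G : Type u} [Group G] {M : Ideal AlgInt} {p : ℕ}

/-- A class function with local-integer values which is idempotent modulo the ideal and whose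
central character values are congruent to the indicator of the closed set `S` is congruent,
coefficient by coefficient, to the idempotent of `S`. -/
theorem pointwise_of_omega_indicator [Fintype G] (hc : CharFacts G) (hMp : M.IsPrime)
    {cc : G → ℂ} (hcc : IsClassFunction G cc) (hcR : ∀ g, MemLocalRing M (cc g))
    (hidem : ∀ g, MemLocalIdeal M (conv cc cc g - cc g)) (S : Set (IrrCharacter G))
    (hSclosed : ∀ χ ∈ S, ∀ ψ : IrrCharacter G, SameBlock M (χ : G → ℂ) (ψ : G → ℂ) → ψ ∈ S)
    (hom : ∀ ξ : IrrCharacter G,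
      MemLocalIdeal M (omega (ξ : G → ℂ) cc - S.indicator (fun _ => (1 : ℂ)) ξ)) (g : G) :
    MemLocalIdeal M (cc g - blockCoeff S g) := by
  classical
  have hfc : IsClassFunction G (blockCoeff S) := blockCoeff_isClassFunction S
  have hfR : ∀ c, MemLocalRing M (blockCoeff S c) := osima hc hMp S hSclosed
  have hce : ∀ c, MemLocalIdeal M (blockCoeff S c - conv cc (blockCoeff S) c) := by
    refine blockCoeff_sub_conv_mem_of_omega_sub_one_mem hc hMp hcc hcR hidem S hSclosed ?_
    intro ψ hψ
    have := hom ψ
    rwa [Set.indicator_of_mem hψ] at this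
  set u : G → ℂ := cc - blockCoeff S with hu_def
  have huc : IsClassFunction G u := sub_isClassFunction hcc hfc
  have huR : ∀ c, MemLocalRing M (u c) := fun c => memLocalRing_sub hMp (hcR c) (hfR c)
  have homu : ∀ ξ : IrrCharacter G,
      omega (ξ : G → ℂ) u = omega (ξ : G → ℂ) cc - S.indicator (fun _ => (1 : ℂ)) ξ := by
    intro ξ
    rw [hu_def, omega_sub, omega_blockCoeff hc]
  have h2 : conv u u - u = (conv cc cc - cc) +
      ((blockCoeff S - conv cc (blockCoeff S)) + (blockCoeff S - conv cc (blockCoeff S))) := by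
    refine eq_of_omega_eq hc (sub_isClassFunction (conv_isClassFunction huc huc) huc) ?_ ?_
    · intro g k
      simp only [Pi.add_apply, Pi.sub_apply]
      rw [conv_isClassFunction hcc hcc g k, hcc g k, hfc g k,
        conv_isClassFunction hcc hfc g k]
    · intro ξ
      rw [omega_sub, omega_conv ξ.2 u huc, homu, omega_add, omega_add, omega_sub, omega_sub,
        omega_conv ξ.2 cc hcc, omega_conv ξ.2 cc hfc, omega_blockCoeff hc]
      by_cases hξ : ξ ∈ S
      · rw [Set.indicator_of_mem hξ]; ring
      · rw [Set.indicator_of_notMem hξ]; ring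
  have huidem : ∀ c, MemLocalIdeal M (conv u u c - u c) := by
    intro c
    have h3 := congrFun h2 c
    simp only [Pi.add_apply, Pi.sub_apply] at h3
    rw [h3]
    exact memLocalIdeal_add hMp (hidem c) (memLocalIdeal_add hMp (hce c) (hce c))
  have hurad : ∀ ξ : IrrCharacter G, MemLocalIdeal M (omega (ξ : G → ℂ) u) := by
    intro ξ
    rw [homu]
    exact hom ξ
  exact pointwise_mem_of_idem hc hMp huc huR huidem hurad g

/-- Two blocks whose idempotents are congruent coefficient by coefficient are equal. -/
theorem eq_of_blockCoeff_congr [Finite G] (hMp : M.IsPrime) {b₁ b₂ : Set (IrrCharacter G)}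
    (h₁ : IsPBlock M b₁) (h₂ : IsPBlock M b₂)
    (h : ∀ g, MemLocalIdeal M (blockCoeff b₁ g - blockCoeff b₂ g)) : b₁ = b₂ := by
  classical
  have := Fintype.ofFinite G
  have hc := Cfsg.Agent.Lib.Helper78_CharFacts.charFacts (G := G)
  obtain ⟨ξ, hξ⟩ := isPBlock_nonempty hMp h₁
  by_contra hne
  have hξ₂ : ξ ∉ b₂ := fun h' => hne (isPBlock_eq_of_mem_of_mem hMp h₁ h₂ hξ h')
  have h3 := memLocalIdeal_omega_of_pointwise hMp ξ.2
    (sub_isClassFunction (blockCoeff_isClassFunction b₁) (blockCoeff_isClassFunction b₂)) h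
  rw [omega_sub, omega_blockCoeff hc, omega_blockCoeff hc, Set.indicator_of_mem hξ,
    Set.indicator_of_notMem hξ₂, sub_zero] at h3
  exact not_memLocalIdeal_one hMp h3

theorem card_subgroupOf_of_le {P H : Subgroup G} (hPH : P ≤ H) :
    Nat.card (P.subgroupOf H) = Nat.card P :=
  Nat.card_congr (Subgroup.subgroupOfEquivOfLe hPH).toEquiv

/-- If `P ≤ H ≤ N_G(P)`, `B` has defect group `P` and the block `b` of `H` induces `B`, then `b`
has defect group `P`. -/
theorem isDefectGroup_subgroupOf_of_induced [Finite G] [Fact p.Prime] (hM : IsPModular p M)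
    {P H : Subgroup G} (hPH : P ≤ H) (hHN : H ≤ Subgroup.normalizer (P : Set G))
    {B : Set (IrrCharacter G)} (hBP : IsDefectGroup p M B P)
    {b : Set (IrrCharacter H)} (hind : IsInducedBlock M H b B) :
    IsDefectGroup p M b (P.subgroupOf H) := by
  have hb := hind.1
  have hB := hind.2.1
  have hP : IsPGroup p P := isDefectGroup_isPGroup hBP
  obtain ⟨Db, hDb⟩ := exists_isDefectGroup hM hb
  have h1 : pCore p H ≤ Db := Cfsg.Agent.S0912.result p M hM b hb Db hDb
  have hPn : (P.subgroupOf H).Normal := (Subgroup.normal_subgroupOf_iff_le_normalizer hPH).2 hHN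
  have h2 : P.subgroupOf H ≤ Db :=
    (Cfsg.Agent.Lib.Helper1_Cores.le_pCore hPn hP.comap_subtype).trans h1
  obtain ⟨E, hE, hDE⟩ := exists_isDefectGroup_ge_of_induced hM H hb hB hind Db hDb
  have h3 : Nat.card Db ≤ Nat.card (P.subgroupOf H) := by
    have e1 : Nat.card (Db.map H.subtype) = Nat.card Db :=
      Subgroup.card_map_of_injective (Subgroup.subtype_injective H)
    rw [card_subgroupOf_of_le hPH, isDefectGroup_card_eq hM hB hE hBP, ← e1]
    exact Subgroup.card_le_of_le hDE
  have : P.subgroupOf H = Db := Subgroup.eq_of_le_of_card_ge h2 h3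
  rw [this]
  exact hDb

section Normalizer

variable [Finite G] [Fact p.Prime]

/-- The central character values of the Brauer image of `e_B`, for `B` with defect group `P` and
Brauer correspondent `b`. -/
theorem omega_br_indicator [Fintype G] (hM : IsPModular p M) {P : Subgroup G}
    [Fintype (Subgroup.normalizer (P : Set G))]
    {B : Set (IrrCharacter G)} (hBP : IsDefectGroup p M B P)
    {b : Set (IrrCharacter (Subgroup.normalizer (P : Set G)))}
    (hind : IsInducedBlock M (Subgroup.normalizer (P : Set G)) b B)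
    (ξ : IrrCharacter (Subgroup.normalizer (P : Set G))) :
    MemLocalIdeal M (omega (ξ : Subgroup.normalizer (P : Set G) → ℂ)
      (br P (Subgroup.normalizer (P : Set G)) (blockCoeff B)) -
        b.indicator (fun _ => (1 : ℂ)) ξ) := by
  classical
  have hMp := isPrime_of_isPModular hM
  have hcG := Cfsg.Agent.Lib.Helper78_CharFacts.charFacts (G := G)
  have hb := hind.1
  have hB := hind.2.1
  have hP : IsPGroup p P := isDefectGroup_isPGroup hBP
  have hPN : P ≤ Subgroup.normalizer (P : Set G) := Subgroup.le_normalizer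
  have hCN := centralizer_le_normalizer P
  have hec : IsClassFunction G (blockCoeff B) := blockCoeff_isClassFunction _
  have heR : ∀ g, MemLocalRing M (blockCoeff B g) := osima_block hcG hMp hB
  obtain ⟨χ, hχ⟩ := exists_irr_brauer hM hP hCN le_rfl ξ.2
  have h1 := hχ (blockCoeff B) hec heR
  rw [omega_blockCoeff hcG] at h1
  -- `blockOf ξ` induces `blockOf χ`
  have hindξ : IsInducedBlock M (Subgroup.normalizer (P : Set G))
      (blockOf M (ξ : Subgroup.normalizer (P : Set G) → ℂ)) (blockOf M (χ : G → ℂ)) := by
    refine ⟨isPBlock_blockOf ξ, isPBlock_blockOf χ, fun ξ' hξ' χ' hχ' g => ?_⟩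
    have a1 := memLocalIdeal_induced_sub_brauer hM P _ hP hPN le_rfl ξ'.2 g
    have a2 := memLocalIdeal_brauerCentralChar_sub hMp (le_refl _) ξ'.2 ξ.2
      (sameBlock_symm hξ') g
    have a3 := hχ (classIndicator g) (classIndicator_isClassFunction g)
      (memLocalRing_classIndicator hMp g)
    rw [omega_br_classIndicator, omega_classIndicator (isIrrCharacter_isClassFunction χ.2)] at a3
    have a4 : MemLocalIdeal M (centralChar (χ : G → ℂ) g - centralChar (χ' : G → ℂ) g) := hχ' g
    have a5 := memLocalIdeal_add hMp (memLocalIdeal_add hMp (memLocalIdeal_add hMp a1 a2) a3) a4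
    have a6 : inducedCentralChar (Subgroup.normalizer (P : Set G))
          (ξ' : Subgroup.normalizer (P : Set G) → ℂ) g -
          brauerCentralChar P (Subgroup.normalizer (P : Set G))
            (ξ' : Subgroup.normalizer (P : Set G) → ℂ) g +
        (brauerCentralChar P (Subgroup.normalizer (P : Set G))
            (ξ' : Subgroup.normalizer (P : Set G) → ℂ) g -
          brauerCentralChar P (Subgroup.normalizer (P : Set G))
            (ξ : Subgroup.normalizer (P : Set G) → ℂ) g) +
        (brauerCentralChar P (Subgroup.normalizer (P : Set G))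
            (ξ : Subgroup.normalizer (P : Set G) → ℂ) g - centralChar (χ : G → ℂ) g) +
        (centralChar (χ : G → ℂ) g - centralChar (χ' : G → ℂ) g) =
        inducedCentralChar (Subgroup.normalizer (P : Set G))
          (ξ' : Subgroup.normalizer (P : Set G) → ℂ) g - centralChar (χ' : G → ℂ) g := by ring
    rwa [a6] at a5
  by_cases hξ : ξ ∈ b
  · rw [Set.indicator_of_mem hξ]
    -- `χ ∈ B`
    have hbeq : b = blockOf M (ξ : Subgroup.normalizer (P : Set G) → ℂ) :=
      isPBlock_eq_blockOf hMp hb hξ
    have hBeq : B = blockOf M (χ : G → ℂ) := by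
      rw [hbeq] at hind
      exact isInducedBlock_unique hMp hind hindξ
    have hχB : χ ∈ B := by rw [hBeq]; exact mem_blockOf_self hMp χ
    rwa [Set.indicator_of_mem hχB] at h1
  · rw [Set.indicator_of_notMem hξ, sub_zero]
    have hχB : χ ∉ B := by
      intro hχB
      apply hξ
      have hBeq : B = blockOf M (χ : G → ℂ) := isPBlock_eq_blockOf hMp hB hχB
      rw [← hBeq] at hindξ
      have d1 := isDefectGroup_subgroupOf_of_induced hM hPN le_rfl hBP hind
      have d2 := isDefectGroup_subgroupOf_of_induced hM hPN le_rfl hBP hindξ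
      have := firstMain_unique hM P hP hB hb d1 hind (isPBlock_blockOf ξ) d2 hindξ
      rw [this]
      exact mem_blockOf_self hMp ξ
    rwa [Set.indicator_of_notMem hχB, sub_zero] at h1

/-- If `B` has defect group `P` and `b` is its Brauer correspondent in `N_G(P)`, the Brauer image
of `e_B` is congruent to `e_b` coefficient by coefficient. -/
theorem br_blockCoeff_sub_mem (hM : IsPModular p M) {P : Subgroup G}
    {B : Set (IrrCharacter G)} (hBP : IsDefectGroup p M B P)
    {b : Set (IrrCharacter (Subgroup.normalizer (P : Set G)))}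
    (hind : IsInducedBlock M (Subgroup.normalizer (P : Set G)) b B)
    (n : Subgroup.normalizer (P : Set G)) :
    MemLocalIdeal M (br P (Subgroup.normalizer (P : Set G)) (blockCoeff B) n -
      blockCoeff b n) := by
  classical
  have := Fintype.ofFinite G
  have := Fintype.ofFinite (Subgroup.normalizer (P : Set G))
  have hMp := isPrime_of_isPModular hM
  have hcG := Cfsg.Agent.Lib.Helper78_CharFacts.charFacts (G := G)
  have hcN := Cfsg.Agent.Lib.Helper78_CharFacts.charFacts (G := Subgroup.normalizer (P : Set G))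
  have hb := hind.1
  have hB := hind.2.1
  have hP : IsPGroup p P := isDefectGroup_isPGroup hBP
  have hCN := centralizer_le_normalizer P
  have hec : IsClassFunction G (blockCoeff B) := blockCoeff_isClassFunction _
  have heR : ∀ g, MemLocalRing M (blockCoeff B g) := osima_block hcG hMp hB
  refine pointwise_of_omega_indicator hcN hMp (br_isClassFunction le_rfl hec)
    (br_memLocalRing hMp heR) (br_blockCoeff_idem hM hP hCN hB) b
    (fun _ hχ _ h => isPBlock_mem_of_sameBlock hMp hb hχ h)
    (fun ξ => omega_br_indicator hM hBP hind ξ) n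

/-- Two blocks of `G` with defect group `P` whose idempotents are congruent on `C_G(P)` are
equal. -/
theorem corr_unique (hM : IsPModular p M) {P : Subgroup G}
    {B₁ B₂ : Set (IrrCharacter G)} (hB₁ : IsPBlock M B₁) (hB₂ : IsPBlock M B₂)
    (hP₁ : IsDefectGroup p M B₁ P) (hP₂ : IsDefectGroup p M B₂ P)
    (h : ∀ x : G, x ∈ Subgroup.centralizer (P : Set G) →
      MemLocalIdeal M (blockCoeff B₁ x - blockCoeff B₂ x)) : B₁ = B₂ := by
  classical
  have := Fintype.ofFinite (Subgroup.normalizer (P : Set G))
  have hMp := isPrime_of_isPModular hM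
  have hP : IsPGroup p P := isDefectGroup_isPGroup hP₁
  obtain ⟨b₁, hb₁, -, hind₁⟩ := firstMain_exists_block hM P hP hB₁ hP₁
  obtain ⟨b₂, hb₂, -, hind₂⟩ := firstMain_exists_block hM P hP hB₂ hP₂
  have hbb : b₁ = b₂ := by
    refine eq_of_blockCoeff_congr hMp hb₁ hb₂ fun n => ?_
    have e1 := br_blockCoeff_sub_mem hM hP₁ hind₁ n
    have e2 := br_blockCoeff_sub_mem hM hP₂ hind₂ n
    have e3 : MemLocalIdeal M (br P (Subgroup.normalizer (P : Set G)) (blockCoeff B₁) n -
        br P (Subgroup.normalizer (P : Set G)) (blockCoeff B₂) n) := by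
      by_cases hn : (n : G) ∈ Subgroup.centralizer (P : Set G)
      · rw [br_apply_of_mem _ hn, br_apply_of_mem _ hn]
        exact h _ hn
      · rw [br_apply_of_notMem _ hn, br_apply_of_notMem _ hn, sub_zero]
        exact memLocalIdeal_zero hMp
    have e4 := memLocalIdeal_add hMp (memLocalIdeal_sub hMp e3 e1) e2
    have e5 : br P (Subgroup.normalizer (P : Set G)) (blockCoeff B₁) n -
        br P (Subgroup.normalizer (P : Set G)) (blockCoeff B₂) n -
        (br P (Subgroup.normalizer (P : Set G)) (blockCoeff B₁) n - blockCoeff b₁ n) +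
        (br P (Subgroup.normalizer (P : Set G)) (blockCoeff B₂) n - blockCoeff b₂ n) =
        blockCoeff b₁ n - blockCoeff b₂ n := by ring
    rwa [e5] at e4
  rw [hbb] at hind₁
  exact isInducedBlock_unique hMp hind₁ hind₂

end Normalizer

end Cfsg.Agent.Lib.Helper78_BrauerCorr
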