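import Mathlib
import Cfsg.Prelude.Def_Blocks
import Cfsg.Prelude.Def_BlockLocal
import Cfsg.Agent.Lib.Helper78_LocalRing
import Cfsg.Agent.Lib.Helper78_CentralChar
import Cfsg.Agent.Lib.Helper78_Osima
import Cfsg.Agent.Lib.Helper78_PRegSum
import Cfsg.Agent.Lib.Helper78_Transport
import Cfsg.Agent.Lib.Helper78_TransportBlocks

/-!
# Transitivity of block induction (helper78)

* `omega_restrict_classIndicator`: `ω_ξ((class indicator of g)|_H)` is the induced central
  character.
* `isInducedBlock_iff_omega`: `b` induces `B` iff `ω_ξ(f|_H) ≡ ω_χ(f)` for all class functions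
  `f` with local-integer values.
* `isInducedBlock_trans`: for `K ≤ H ≤ G` (the subgroup `K₁` of `H` being identified with the
  subgroup `K` of `G` through `φ`), if `b` induces the block `c` of `H`, then `c` induces `B` iff
  `b` induces `B`.
-/

set_option autoImplicit false
set_option linter.unusedSectionVars false

namespace Cfsg.Agent.Lib.Helper78_InducedTrans

open Cfsg Cfsg.Agent.Lib.Helper78_LocalRing Cfsg.Agent.Lib.Helper78_CentralChar
  Cfsg.Agent.Lib.Helper78_Osima Cfsg.Agent.Lib.Helper78_PRegSum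
  Cfsg.Agent.Lib.Helper78_Transport Cfsg.Agent.Lib.Helper78_TransportBlocks

universe u

variable {G : Type u} [Group G] {M : Ideal AlgInt} {p : ℕ}

theorem omega_restrict_classIndicator (H : Subgroup G) [Fintype H] (ξ : H → ℂ) (g : G) :
    omega ξ (fun h : H => classIndicator g (h : G)) = inducedCentralChar H ξ g := by
  classical
  unfold omega inducedCentralChar
  rw [finsum_mem_def, finsum_eq_sum_of_fintype, Finset.sum_div]
  refine Finset.sum_congr rfl fun h _ => ?_
  unfold classIndicator
  simp only [Set.indicator_apply, Set.mem_ofPred_eq]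
  split_ifs with hc
  · rw [one_mul]
  · rw [zero_mul, zero_div]

theorem isInducedBlock_iff_omega [Fintype G] (hM : M.IsPrime) (H : Subgroup G) [Fintype H]
    {b : Set (IrrCharacter H)} {B : Set (IrrCharacter G)} (hb : IsPBlock M b)
    (hB : IsPBlock M B) :
    IsInducedBlock M H b B ↔ ∀ ξ ∈ b, ∀ χ ∈ B, ∀ f : G → ℂ, IsClassFunction G f →
      (∀ g, MemLocalRing M (f g)) →
      MemLocalIdeal M (omega (ξ : H → ℂ) (fun h : H => f h) - omega (χ : G → ℂ) f) := by
  constructor
  · intro hind ξ hξ χ hχ f hf hfR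
    exact memLocalIdeal_omega_restrict_sub hM H (ξ : H → ℂ)
      (isIrrCharacter_isClassFunction χ.2) (fun g => hind.2.2 ξ hξ χ hχ g) hf hfR
  · intro h
    refine ⟨hb, hB, fun ξ hξ χ hχ g => ?_⟩
    have := h ξ hξ χ hχ (classIndicator g) (classIndicator_isClassFunction g)
      (memLocalRing_classIndicator hM g)
    rwa [omega_restrict_classIndicator,
      omega_classIndicator (isIrrCharacter_isClassFunction χ.2)] at this

/-- Transitivity of block induction. -/
theorem isInducedBlock_trans [Fintype G] (hM : M.IsPrime) {H K : Subgroup G} {K₁ : Subgroup H}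
    [Fintype H] [Fintype K] [Fintype K₁]
    (φ : K₁ ≃* K) (hφ : ∀ k : K₁, ((φ k : K) : G) = ((k : H) : G))
    {b : Set (IrrCharacter K)} {c : Set (IrrCharacter H)} {B : Set (IrrCharacter G)}
    (hB : IsPBlock M B)
    (h1 : IsInducedBlock M K₁ (mapBlock φ b) c) :
    IsInducedBlock M H c B ↔ IsInducedBlock M K b B := by
  classical
  have hc : IsPBlock M c := h1.2.1
  have hb : IsPBlock M b := by
    have := isPBlock_mapBlock φ.symm h1.1
    rwa [mapBlock_symm_mapBlock] at this
  -- the key comparison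
  have key : ∀ ξ ∈ b, ∀ ζ ∈ c, ∀ f : G → ℂ, IsClassFunction G f → (∀ g, MemLocalRing M (f g)) →
      MemLocalIdeal M (omega (ξ : K → ℂ) (fun k : K => f k) -
        omega (ζ : H → ℂ) (fun h : H => f h)) := by
    intro ξ hξ ζ hζ f hf hfR
    have hfH : IsClassFunction H (fun h : H => f h) := by
      intro h k
      show f ((k * h * k⁻¹ : H) : G) = f h
      push_cast
      exact hf _ _
    have a1 := (isInducedBlock_iff_omega hM K₁ h1.1 hc).mp h1 (irrComp φ ξ)
      (irrComp_mem_mapBlock φ hξ) ζ hζ (fun h : H => f h) hfH (fun h => hfR _)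
    have a2 : omega (irrComp φ ξ : K₁ → ℂ) (fun k : K₁ => f ((k : H) : G)) =
        omega (ξ : K → ℂ) (fun k : K => f k) := by
      have e1 : (irrComp φ ξ : K₁ → ℂ) = (ξ : K → ℂ) ∘ φ := rfl
      have e2 : (fun k : K₁ => f ((k : H) : G)) = (fun k : K => f k) ∘ φ := by
        funext k
        show _ = f ((φ k : K) : G)
        rw [hφ]
      rw [e1, e2, omega_comp]
    rwa [a2] at a1
  constructor
  · intro h2
    obtain ⟨ζ, hζ⟩ := isPBlock_nonempty hM hc
    rw [isInducedBlock_iff_omega hM K hb hB]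
    intro ξ hξ χ hχ f hf hfR
    have a1 := key ξ hξ ζ hζ f hf hfR
    have a2 := (isInducedBlock_iff_omega hM H hc hB).mp h2 ζ hζ χ hχ f hf hfR
    have a3 := memLocalIdeal_add hM a1 a2
    rwa [sub_add_sub_cancel] at a3
  · intro h3
    obtain ⟨ξ, hξ⟩ := isPBlock_nonempty hM hb
    rw [isInducedBlock_iff_omega hM H hc hB]
    intro ζ hζ χ hχ f hf hfR
    have a1 := key ξ hξ ζ hζ f hf hfR
    have a2 := (isInducedBlock_iff_omega hM K hb hB).mp h3 ξ hξ χ hχ f hf hfR
    have a3 := memLocalIdeal_sub hM a2 a1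
    have a4 : omega (ξ : K → ℂ) (fun k : K => f k) - omega (χ : G → ℂ) f -
        (omega (ξ : K → ℂ) (fun k : K => f k) - omega (ζ : H → ℂ) (fun h : H => f h)) =
        omega (ζ : H → ℂ) (fun h : H => f h) - omega (χ : G → ℂ) f := by ring
    rwa [a4] at a3

end Cfsg.Agent.Lib.Helper78_InducedTrans
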