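import Mathlib
import Cfsg.Prelude.Def_Blocks
import Cfsg.Prelude.Def_BlockLocal
import Cfsg.Agent.Lib.Helper78_LocalRing
import Cfsg.Agent.Lib.Helper78_FirstMainGT
import Cfsg.Agent.Lib.Helper78_FirstMain
import Cfsg.Agent.Lib.Helper78_Transport
import Cfsg.Agent.Lib.Helper78_TransportBlocks
import Cfsg.Agent.Lib.Helper78_BrauerCorr
import Cfsg.Agent.Lib.Helper78_InducedTrans
import Cfsg.Agent.Lib.Helper16_Orbit
import Cfsg.Agent.Lib.Helper16_Cover
import Cfsg.Agent.S0934
import Cfsg.Agent.S0958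
import Cfsg.Agent.S0964
import Cfsg.Agent.S0971

/-!
# The Extended First Main Theorem (helper78, S0973)
-/

set_option autoImplicit false
set_option linter.unusedSectionVars false

namespace Cfsg.Agent.Lib.Helper78_ExtFirstMain

open Cfsg Cfsg.Agent.Lib.Helper78_LocalRing
  Cfsg.Agent.Lib.Helper78_FirstMainGT Cfsg.Agent.Lib.Helper78_FirstMain
  Cfsg.Agent.Lib.Helper78_Transport Cfsg.Agent.Lib.Helper78_TransportBlocks
  Cfsg.Agent.Lib.Helper78_BrauerCorr Cfsg.Agent.Lib.Helper78_InducedTrans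
  Cfsg.Agent.Lib.Helper16_Orbit Cfsg.Agent.Lib.Helper16_Cover

universe u

variable {G : Type u} [Group G] {M : Ideal AlgInt} {p : ℕ}

/-- `P` together with its centralizer in `N_G(P)` maps onto `P C_G(P)`. -/
theorem map_sup_centralizer (P : Subgroup G) :
    ((P.subgroupOf (Subgroup.normalizer (P : Set G))) ⊔
      Subgroup.centralizer ((P.subgroupOf (Subgroup.normalizer (P : Set G)) :
        Subgroup (Subgroup.normalizer (P : Set G))) : Set (Subgroup.normalizer (P : Set G)))).map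
        (Subgroup.normalizer (P : Set G)).subtype = P ⊔ Subgroup.centralizer (P : Set G) := by
  have hPN : P ≤ Subgroup.normalizer (P : Set G) := Subgroup.le_normalizer
  rw [Subgroup.map_sup, Subgroup.map_subgroupOf_eq_of_le hPN]
  congr 1
  ext c
  constructor
  · rintro ⟨n, hn, rfl⟩
    rw [Subgroup.mem_centralizer_iff]
    intro q hq
    have := Subgroup.mem_centralizer_iff.mp hn ⟨q, hPN hq⟩ (Subgroup.mem_subgroupOf.mpr hq)
    exact congrArg Subtype.val this
  · intro hc
    refine ⟨⟨c, centralizer_le_normalizer P hc⟩, ?_, rfl⟩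
    rw [SetLike.mem_coe, Subgroup.mem_centralizer_iff]
    intro q hq
    apply Subtype.ext
    exact Subgroup.mem_centralizer_iff.mp hc (q : G) (Subgroup.mem_subgroupOf.mp hq)

/-- The identification of `(P ∩ N) C_N(P ∩ N)`, `N = N_G(P)`, with `P C_G(P)`. -/
noncomputable def supEquiv (P : Subgroup G) :
    ↥((P.subgroupOf (Subgroup.normalizer (P : Set G))) ⊔
      Subgroup.centralizer ((P.subgroupOf (Subgroup.normalizer (P : Set G)) :
        Subgroup (Subgroup.normalizer (P : Set G))) : Set (Subgroup.normalizer (P : Set G)))) ≃*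
      ↥(P ⊔ Subgroup.centralizer (P : Set G)) :=
  (Subgroup.equivMapOfInjective _ (Subgroup.normalizer (P : Set G)).subtype
    (Subgroup.subtype_injective _)).trans (MulEquiv.subgroupCongr (map_sup_centralizer P))

theorem supEquiv_coe (P : Subgroup G)
    (l : ↥((P.subgroupOf (Subgroup.normalizer (P : Set G))) ⊔
      Subgroup.centralizer ((P.subgroupOf (Subgroup.normalizer (P : Set G)) :
        Subgroup (Subgroup.normalizer (P : Set G))) : Set (Subgroup.normalizer (P : Set G))))) :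
    ((supEquiv P l : ↥(P ⊔ Subgroup.centralizer (P : Set G))) : G) =
      ((l : Subgroup.normalizer (P : Set G)) : G) := rfl

variable [Finite G] [Fact p.Prime]

/-- Part (i): some block of `P C_G(P)` with defect group `P` induces `B`. -/
theorem exists_induced_of_defect (hM : IsPModular p M) {B : Set (IrrCharacter G)}
    (hB : IsPBlock M B) {P : Subgroup G} (hP : IsDefectGroup p M B P) :
    ∃ b : Set (IrrCharacter ↥(P ⊔ Subgroup.centralizer (P : Set G))),
      IsDefectGroup p M b (P.subgroupOf (P ⊔ Subgroup.centralizer (P : Set G))) ∧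
      IsInducedBlock M (P ⊔ Subgroup.centralizer (P : Set G)) b B := by
  have hPp : IsPGroup p P := isDefectGroup_isPGroup hP
  have hLN : P ⊔ Subgroup.centralizer (P : Set G) ≤ Subgroup.normalizer (P : Set G) :=
    sup_le Subgroup.le_normalizer (centralizer_le_normalizer P)
  obtain ⟨b, hb⟩ := (Cfsg.Agent.S0958.result p M hM P _ hPp (le_refl _) hLN B hB).mpr
    ⟨P, hP, 1, by
      rintro _ ⟨q, hq, rfl⟩
      simpa using hq⟩
  exact ⟨b, isDefectGroup_subgroupOf_of_induced hM le_sup_left hLN hP hb, hb⟩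

/-- Part (ii): two blocks of `P C_G(P)` inducing `B` are conjugate under `N_G(P)`. -/
theorem conj_of_induced (hM : IsPModular p M) {B : Set (IrrCharacter G)}
    (hB : IsPBlock M B) {P : Subgroup G} (hP : IsDefectGroup p M B P)
    (b b' : Set (IrrCharacter ↥(P ⊔ Subgroup.centralizer (P : Set G))))
    (hind : IsInducedBlock M (P ⊔ Subgroup.centralizer (P : Set G)) b B)
    (hind' : IsInducedBlock M (P ⊔ Subgroup.centralizer (P : Set G)) b' B) :
    ∃ n ∈ Subgroup.normalizer (P : Set G), ∀ θ ∈ b, ∃ θ' ∈ b',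
      ∀ x : ↥(P ⊔ Subgroup.centralizer (P : Set G)),
      ∀ hx : n * (x : G) * n⁻¹ ∈ P ⊔ Subgroup.centralizer (P : Set G),
        (θ' : ↥(P ⊔ Subgroup.centralizer (P : Set G)) → ℂ) x =
          (θ : ↥(P ⊔ Subgroup.centralizer (P : Set G)) → ℂ) ⟨n * (x : G) * n⁻¹, hx⟩ := by
  classical
  have := Fintype.ofFinite G
  have := Fintype.ofFinite (Subgroup.normalizer (P : Set G))
  have := Fintype.ofFinite ↥(P ⊔ Subgroup.centralizer (P : Set G))
  have := Fintype.ofFinite ↥((P.subgroupOf (Subgroup.normalizer (P : Set G))) ⊔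
      Subgroup.centralizer ((P.subgroupOf (Subgroup.normalizer (P : Set G)) :
        Subgroup (Subgroup.normalizer (P : Set G))) : Set (Subgroup.normalizer (P : Set G))))
  have hMp := isPrime_of_isPModular hM
  have hPp : IsPGroup p P := isDefectGroup_isPGroup hP
  have hPN : P ≤ Subgroup.normalizer (P : Set G) := Subgroup.le_normalizer
  haveI hQn : (P.subgroupOf (Subgroup.normalizer (P : Set G))).Normal :=
    (Subgroup.normal_subgroupOf_iff_le_normalizer hPN).2 le_rfl
  have hQp : IsPGroup p (P.subgroupOf (Subgroup.normalizer (P : Set G))) := hPp.comap_subtype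
  have hφ := supEquiv_coe P
  have hb₁ : IsPBlock M (mapBlock (supEquiv P) b) := isPBlock_mapBlock _ hind.1
  have hb₁' : IsPBlock M (mapBlock (supEquiv P) b') := isPBlock_mapBlock _ hind'.1
  obtain ⟨⟨β, hβ⟩, -⟩ := Cfsg.Agent.S0971.result p M hM
    (P.subgroupOf (Subgroup.normalizer (P : Set G))) hQp (mapBlock (supEquiv P) b) hb₁
  obtain ⟨⟨β', hβ'⟩, -⟩ := Cfsg.Agent.S0971.result p M hM
    (P.subgroupOf (Subgroup.normalizer (P : Set G))) hQp (mapBlock (supEquiv P) b') hb₁'
  have hβB : IsInducedBlock M (Subgroup.normalizer (P : Set G)) β B :=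
    (isInducedBlock_trans hMp (supEquiv P) hφ hB hβ).mpr hind
  have hβ'B : IsInducedBlock M (Subgroup.normalizer (P : Set G)) β' B :=
    (isInducedBlock_trans hMp (supEquiv P) hφ hB hβ').mpr hind'
  have d1 := isDefectGroup_subgroupOf_of_induced hM hPN le_rfl hP hβB
  have d2 := isDefectGroup_subgroupOf_of_induced hM hPN le_rfl hP hβ'B
  have hββ' : β = β' := firstMain_unique hM P hPp hB hβB.1 d1 hβB hβ'B.1 d2 hβ'B
  subst hββ'
  obtain ⟨ξ, hξ⟩ := isPBlock_nonempty hMp hb₁
  obtain ⟨ξ', hξ'⟩ := isPBlock_nonempty hMp hb₁'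
  obtain ⟨χ, hχ, hcon⟩ := Cfsg.Agent.S0934.result p M hM _ (mapBlock (supEquiv P) b) β hβ ξ hξ
  obtain ⟨χ', hχ', hcon'⟩ :=
    Cfsg.Agent.S0934.result p M hM _ (mapBlock (supEquiv P) b') β hβ' ξ' hξ'
  obtain ⟨g, θ₁, hθ₁, hconj⟩ := Cfsg.Agent.S0964.result p M hM _ β hβ.2.1
    (mapBlock (supEquiv P) b) hb₁ χ hχ ξ hξ hcon χ' hχ' ξ' hcon'
  refine ⟨(g : G), g.2, fun θ hθ => ?_⟩
  have hθ₁' : irrComp (supEquiv P) θ ∈ mapBlock (supEquiv P) b := irrComp_mem_mapBlock _ hθ
  have hmem : cjIrr _ g⁻¹ (irrComp (supEquiv P) θ) ∈ mapBlock (supEquiv P) b' := by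
    have hsb := isPBlock_sameBlock hMp hb₁ hθ₁ hθ₁'
    have hsb' := sameBlock_cj _ g⁻¹ hsb
    have e : cj _ g⁻¹ θ₁.1 = ξ'.1 := by
      funext n
      show _ = (ξ' : _ → ℂ) n
      rw [hconj n]
      unfold cj
      refine congrArg _ (Subtype.ext ?_)
      rw [MulAut.conjNormal_apply]
      simp
    rw [e] at hsb'
    exact isPBlock_mem_of_sameBlock hMp hb₁' hξ' hsb'
  refine ⟨irrComp (supEquiv P).symm (cjIrr _ g⁻¹ (irrComp (supEquiv P) θ)),
    (mem_mapBlock_iff (supEquiv P) b' _).mp hmem, fun x hx => ?_⟩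
  rw [irrComp_apply]
  show cj _ g⁻¹ (irrComp (supEquiv P) θ : _ → ℂ) ((supEquiv P).symm x) = _
  unfold cj
  rw [irrComp_apply]
  refine congrArg _ (Subtype.ext ?_)
  rw [hφ, MulAut.conjNormal_apply]
  have hx' : ((((supEquiv P).symm x : _) : Subgroup.normalizer (P : Set G)) : G) = (x : G) := by
    rw [← hφ, MulEquiv.apply_symm_apply]
  simp [hx']

end Cfsg.Agent.Lib.Helper78_ExtFirstMain
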