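import Mathlib
import Cfsg.Prelude.Def_Blocks
import Cfsg.Prelude.Def_BlockLocal
import Cfsg.Prelude.Def_BrauerPairs
import Cfsg.Agent.Lib.Helper78_LocalRing
import Cfsg.Agent.Lib.Helper78_CentralChar
import Cfsg.Agent.Lib.Helper78_Osima
import Cfsg.Agent.Lib.Helper78_CharFacts
import Cfsg.Agent.Lib.Helper78_BrauerMap
import Cfsg.Agent.Lib.Helper78_PRegSum
import Cfsg.Agent.Lib.Helper78_ExtConv
import Cfsg.Agent.Lib.Helper78_SecondMain
import Cfsg.Agent.Lib.Helper80_CharBasic

/-!
# Brauer pairs (helper78)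

* `brauerOmega_eq_omega`: `brauerOmega Q β ξ = ω_ξ(β|_{C_G(Q)})`.
* `exists_irr_brauerOmega`: to an irreducible character `ξ` of `C_G(Q)` is attached an irreducible
  character `χ'` of `G` with `brauerOmega Q z ξ ≡ ω_χ'(z)`.
* `isBrauerPairOf_iff_mem`: `(Q, e)` is a Brauer pair of `B` iff the character attached to a
  member of `e` lies in `B`.
* `isBrauerPairOf_principal_iff`: Brauer's Third Main Theorem for Brauer pairs (S4663).
* `existsUnique_isBrauerPairOf`: every Brauer pair belongs to a unique block (S4657).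
-/

set_option autoImplicit false
set_option linter.unusedSectionVars false

namespace Cfsg.Agent.Lib.Helper78_BrauerPairs

open Cfsg Cfsg.Agent.Lib.Helper78_LocalRing Cfsg.Agent.Lib.Helper78_CentralChar
  Cfsg.Agent.Lib.Helper78_Osima Cfsg.Agent.Lib.Helper78_CharFacts
  Cfsg.Agent.Lib.Helper78_BrauerMap Cfsg.Agent.Lib.Helper78_PRegSum
  Cfsg.Agent.Lib.Helper78_ExtConv Cfsg.Agent.Lib.Helper78_SecondMain

universe u

variable {G : Type u} [Group G] {M : Ideal AlgInt} {p : ℕ}

theorem brauerOmega_eq_omega (Q : Subgroup G) [Fintype (Subgroup.centralizer (Q : Set G))]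
    (β : G → ℂ) (ξ : Subgroup.centralizer (Q : Set G) → ℂ) :
    brauerOmega Q β ξ = omega ξ (res (Subgroup.centralizer (Q : Set G)) β) := by
  unfold brauerOmega omega
  rw [finsum_eq_sum_of_fintype, Finset.sum_div]
  rfl

/-- The irreducible character of `G` attached to an irreducible character of `C_G(Q)`. -/
theorem exists_irr_brauerOmega [Fintype G] (hM : IsPModular p M) (Q : Subgroup G)
    (hQ : IsPGroup p Q) (ξ : IrrCharacter (Subgroup.centralizer (Q : Set G))) :
    ∃ χ' : IrrCharacter G, ∀ z : G → ℂ, IsClassFunction G z → (∀ g, MemLocalRing M (z g)) →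
      MemLocalIdeal M (brauerOmega Q z (ξ : Subgroup.centralizer (Q : Set G) → ℂ) -
        omega (χ' : G → ℂ) z) := by
  classical
  have := Fintype.ofFinite (Subgroup.centralizer (Q : Set G))
  obtain ⟨χ', h⟩ := exists_irr_res hM Q hQ ξ
  refine ⟨χ', fun z hz hzR => ?_⟩
  rw [brauerOmega_eq_omega]
  exact h z hz hzR

/-- `brauerOmega` of a class function of `G` only depends on the block of `ξ`. -/
theorem memLocalIdeal_brauerOmega_sub [Fintype G] (hM : M.IsPrime) (Q : Subgroup G)
    {ξ ξ' : IrrCharacter (Subgroup.centralizer (Q : Set G))}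
    (hsb : SameBlock M (ξ : Subgroup.centralizer (Q : Set G) → ℂ)
      (ξ' : Subgroup.centralizer (Q : Set G) → ℂ))
    {z : G → ℂ} (hz : IsClassFunction G z) (hzR : ∀ g, MemLocalRing M (z g)) :
    MemLocalIdeal M (brauerOmega Q z (ξ : Subgroup.centralizer (Q : Set G) → ℂ) -
      brauerOmega Q z (ξ' : Subgroup.centralizer (Q : Set G) → ℂ)) := by
  classical
  have := Fintype.ofFinite (Subgroup.centralizer (Q : Set G))
  rw [brauerOmega_eq_omega, brauerOmega_eq_omega]
  exact memLocalIdeal_omega_sub hM (isIrrCharacter_isClassFunction ξ.2)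
    (isIrrCharacter_isClassFunction ξ'.2) hsb
    (res_isClassFunction _ (fun q _ x => hz x q)) (res_memLocalRing _ hzR)

/-- `(Q, e)` is a Brauer pair of the block `B` iff the character of `G` attached to a member of `e`
lies in `B`. -/
theorem isBrauerPairOf_iff_mem [Fintype G] (hM : IsPModular p M) (Q : Subgroup G)
    (hQ : IsPGroup p Q) {e : Set (IrrCharacter (Subgroup.centralizer (Q : Set G)))}
    (he : IsPBlock M e) {B : Set (IrrCharacter G)} (hB : IsPBlock M B)
    {ξ : IrrCharacter (Subgroup.centralizer (Q : Set G))} (hξ : ξ ∈ e) {χ' : IrrCharacter G}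
    (hχ' : ∀ z : G → ℂ, IsClassFunction G z → (∀ g, MemLocalRing M (z g)) →
      MemLocalIdeal M (brauerOmega Q z (ξ : Subgroup.centralizer (Q : Set G) → ℂ) -
        omega (χ' : G → ℂ) z)) :
    IsBrauerPairOf p M B Q e ↔ χ' ∈ B := by
  have hMp := isPrime_of_isPModular hM
  have hcG := Cfsg.Agent.Lib.Helper78_CharFacts.charFacts (G := G)
  have hec : IsClassFunction G (blockCoeff B) := blockCoeff_isClassFunction _
  have heR : ∀ g, MemLocalRing M (blockCoeff B g) := osima_block hcG hMp hB
  have h1 := hχ' (blockCoeff B) hec heR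
  rw [omega_blockCoeff hcG] at h1
  constructor
  · intro h
    by_contra hne
    rw [Set.indicator_of_notMem hne, sub_zero] at h1
    have h2 := h.2.2 ξ hξ
    have h3 := memLocalIdeal_sub hMp h1 h2
    rw [sub_sub_cancel] at h3
    exact not_memLocalIdeal_one hMp h3
  · intro hmem
    rw [Set.indicator_of_mem hmem] at h1
    refine ⟨⟨hQ, he⟩, hB, fun ξ' hξ' => ?_⟩
    have h2 := memLocalIdeal_brauerOmega_sub hMp Q (isPBlock_sameBlock hMp he hξ' hξ) hec heR
    have h3 := memLocalIdeal_add hMp h2 h1
    have h4 : brauerOmega Q (blockCoeff B) (ξ' : Subgroup.centralizer (Q : Set G) → ℂ) -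
        brauerOmega Q (blockCoeff B) (ξ : Subgroup.centralizer (Q : Set G) → ℂ) +
        (brauerOmega Q (blockCoeff B) (ξ : Subgroup.centralizer (Q : Set G) → ℂ) - 1) =
        brauerOmega Q (blockCoeff B) (ξ' : Subgroup.centralizer (Q : Set G) → ℂ) - 1 := by ring
    rwa [h4] at h3

/-- **Every Brauer pair belongs to exactly one block** (S4657). -/
theorem existsUnique_isBrauerPairOf [Fintype G] (hM : IsPModular p M) (Q : Subgroup G)
    (hQ : IsPGroup p Q) {e : Set (IrrCharacter (Subgroup.centralizer (Q : Set G)))}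
    (he : IsPBlock M e) : ∃! B : Set (IrrCharacter G), IsBrauerPairOf p M B Q e := by
  have hMp := isPrime_of_isPModular hM
  obtain ⟨ξ, hξ⟩ := isPBlock_nonempty hMp he
  obtain ⟨χ', hχ'⟩ := exists_irr_brauerOmega hM Q hQ ξ
  refine ⟨blockOf M (χ' : G → ℂ), ?_, ?_⟩
  · exact (isBrauerPairOf_iff_mem hM Q hQ he (isPBlock_blockOf χ') hξ hχ').mpr
      (mem_blockOf_self hMp χ')
  · intro B hB
    have hmem := (isBrauerPairOf_iff_mem hM Q hQ he hB.2.1 hξ hχ').mp hB
    exact isPBlock_eq_blockOf hMp hB.2.1 hmem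

/-- **Brauer's Third Main Theorem for Brauer pairs** (S4663). -/
theorem isBrauerPairOf_principal_iff [Fintype G] [Fact p.Prime] (hM : IsPModular p M)
    (Q : Subgroup G) (hQ : IsPGroup p Q)
    (e : Set (IrrCharacter (Subgroup.centralizer (Q : Set G)))) (he : IsPBlock M e) :
    IsBrauerPairOf p M (principalBlock M G) Q e ↔
      e = principalBlock M (Subgroup.centralizer (Q : Set G)) := by
  classical
  have hMp := isPrime_of_isPModular hM
  have := Fintype.ofFinite (Subgroup.centralizer (Q : Set G))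
  have hPG : IsPBlock M (principalBlock M G) :=
    ⟨Cfsg.Agent.Lib.Helper80_CharBasic.oneIrr G, rfl⟩
  have hPC : IsPBlock M (principalBlock M (Subgroup.centralizer (Q : Set G))) :=
    ⟨Cfsg.Agent.Lib.Helper80_CharBasic.oneIrr _, rfl⟩
  have honeG : Cfsg.Agent.Lib.Helper80_CharBasic.oneIrr G ∈ principalBlock M G :=
    mem_blockOf_self hMp (Cfsg.Agent.Lib.Helper80_CharBasic.oneIrr G)
  have honeC : Cfsg.Agent.Lib.Helper80_CharBasic.oneIrr (Subgroup.centralizer (Q : Set G)) ∈
      principalBlock M (Subgroup.centralizer (Q : Set G)) :=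
    mem_blockOf_self hMp (Cfsg.Agent.Lib.Helper80_CharBasic.oneIrr _)
  obtain ⟨ξ, hξ⟩ := isPBlock_nonempty hMp he
  obtain ⟨χ', hχ'⟩ := exists_irr_brauerOmega hM Q hQ ξ
  rw [isBrauerPairOf_iff_mem hM Q hQ he hPG hξ hχ']
  -- the value on the sum of the `p`-regular elements
  have h1 := hχ' (regInd p G) regInd_isClassFunction (regInd_memLocalRing hMp)
  rw [brauerOmega_eq_omega] at h1
  have h2 : res (Subgroup.centralizer (Q : Set G)) (regInd p G) =
      regInd p (Subgroup.centralizer (Q : Set G)) := by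
    funext c
    exact regInd_coe _ c
  rw [h2] at h1
  constructor
  · intro hmem
    -- `ω_χ'(s_G) ∉ m`
    have h3 : ¬ MemLocalIdeal M (omega (χ' : G → ℂ) (regInd p G)) := by
      intro hcon
      have h4 := memLocalIdeal_omega_sub hMp (isIrrCharacter_isClassFunction χ'.2)
        (isIrrCharacter_isClassFunction (Cfsg.Agent.Lib.Helper80_CharBasic.oneIrr G).2)
        (isPBlock_sameBlock hMp hPG hmem honeG)
        (regInd_isClassFunction (p := p) (G := G)) (regInd_memLocalRing hMp)
      have h5 := memLocalIdeal_sub hMp hcon h4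
      rw [sub_sub_cancel] at h5
      exact not_memLocalIdeal_omega_one_regInd (G := G) hM h5
    have h6 : ¬ MemLocalIdeal M (omega (ξ : Subgroup.centralizer (Q : Set G) → ℂ)
        (regInd p (Subgroup.centralizer (Q : Set G)))) := by
      intro hcon
      apply h3
      have := memLocalIdeal_sub hMp hcon h1
      rwa [sub_sub_cancel] at this
    have h7 : ξ ∈ principalBlock M (Subgroup.centralizer (Q : Set G)) := by
      by_contra hne
      rw [omega_regInd_eq_zero hM ξ hne] at h6
      exact h6 (memLocalIdeal_zero hMp)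
    exact isPBlock_eq_of_mem_of_mem hMp he hPC hξ h7
  · intro heq
    have hξP : ξ ∈ principalBlock M (Subgroup.centralizer (Q : Set G)) := heq ▸ hξ
    have h3 : ¬ MemLocalIdeal M (omega (ξ : Subgroup.centralizer (Q : Set G) → ℂ)
        (regInd p (Subgroup.centralizer (Q : Set G)))) := by
      intro hcon
      have h4 := memLocalIdeal_omega_sub hMp (isIrrCharacter_isClassFunction ξ.2)
        (isIrrCharacter_isClassFunction
          (Cfsg.Agent.Lib.Helper80_CharBasic.oneIrr (Subgroup.centralizer (Q : Set G))).2)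
        (isPBlock_sameBlock hMp hPC hξP honeC)
        (regInd_isClassFunction (p := p) (G := Subgroup.centralizer (Q : Set G)))
        (regInd_memLocalRing hMp)
      have h5 := memLocalIdeal_sub hMp hcon h4
      rw [sub_sub_cancel] at h5
      exact not_memLocalIdeal_omega_one_regInd (G := Subgroup.centralizer (Q : Set G)) hM h5
    have h6 : ¬ MemLocalIdeal M (omega (χ' : G → ℂ) (regInd p G)) := by
      intro hcon
      apply h3
      have := memLocalIdeal_add hMp h1 hcon
      rwa [sub_add_cancel] at this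
    by_contra hne
    rw [omega_regInd_eq_zero hM χ' hne] at h6
    exact h6 (memLocalIdeal_zero hMp)

end Cfsg.Agent.Lib.Helper78_BrauerPairs
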