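import Mathlib
import Cfsg.Prelude.Def_Blocks
import Cfsg.Prelude.Def_BlockLocal
import Cfsg.Prelude.Def_BrauerPairs
import Cfsg.Prelude.Def_BlockRank
import Cfsg.Prelude.Def_Transfer
import Cfsg.Agent.Lib.Helper78_LocalRing
import Cfsg.Agent.Lib.Helper78_CentralChar
import Cfsg.Agent.Lib.Helper78_BrauerPairs
import Cfsg.Agent.Lib.Helper78_Transport
import Cfsg.Agent.Lib.Helper35_FrobeniusNPC
import Cfsg.Agent.Lib.Helper16_BlockOrth
import Cfsg.Agent.Lib.Helper80_CharBasic
import Cfsg.Agent.S0938

/-!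
# Nilpotency of the principal block (helper78)

* `isNilpotentBlock_principal_iff_frobHyp`: the principal block is nilpotent iff Frobenius'
  condition holds (`N_G(Q)/C_G(Q)` is a `p`-group for every `p`-subgroup `Q`).
* `hasNormalPComplement_iff_isNilpotentBlock` (S4691).
* `isNilpotentBlock_principal_iff_blockRank` (S4646).
-/

set_option autoImplicit false
set_option linter.unusedSectionVars false

namespace Cfsg.Agent.Lib.Helper78_NilpotentPrincipal

open Cfsg Cfsg.Agent.Lib.Helper78_LocalRing Cfsg.Agent.Lib.Helper78_CentralChar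
  Cfsg.Agent.Lib.Helper78_BrauerPairs Cfsg.Agent.Lib.Helper78_Transport
  Cfsg.Agent.Lib.Helper35_FrobeniusNPC Cfsg.Agent.Lib.Helper16_BlockOrth

universe u

variable {G : Type u} [Group G] {M : Ideal AlgInt} {p : ℕ}

theorem hasNormalPComplement_iff_hasNPC [Finite G] [Fact p.Prime] :
    HasNormalPComplement p G ↔ HasNPC p G := by
  constructor
  · rintro ⟨P, N, hN, hc⟩
    exact hasNPC_of_isComplement' hN P hc
  · rintro ⟨K, hKn, hKc, n, hKi⟩
    obtain ⟨P⟩ : Nonempty (Sylow p G) := inferInstance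
    exact ⟨P, K, hKn, isComplement'_of_npc hKc hKi P⟩

theorem normalizer_le_normalizer_centralizer (Q : Subgroup G) :
    Subgroup.normalizer (Q : Set G) ≤
      Subgroup.normalizer ((Subgroup.centralizer (Q : Set G) : Subgroup G) : Set G) := by
  intro g hg
  have key : ∀ (a : G), a ∈ Subgroup.normalizer (Q : Set G) →
      ∀ c ∈ Subgroup.centralizer (Q : Set G), a * c * a⁻¹ ∈ Subgroup.centralizer (Q : Set G) := by
    intro a ha c hc
    rw [Subgroup.mem_centralizer_iff] at hc ⊢
    intro q hq
    have ha' : a⁻¹ ∈ Subgroup.normalizer (Q : Set G) := inv_mem ha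
    have hq' : a⁻¹ * q * a⁻¹⁻¹ ∈ (Q : Set G) :=
      (Subgroup.mem_set_normalizer_iff.mp ha' q).mp hq
    rw [inv_inv] at hq'
    have h1 := hc _ hq'
    calc q * (a * c * a⁻¹) = a * ((a⁻¹ * q * a) * c) * a⁻¹ := by group
      _ = a * (c * (a⁻¹ * q * a)) * a⁻¹ := by rw [h1]
      _ = a * c * a⁻¹ * q := by group
  rw [Subgroup.mem_set_normalizer_iff]
  intro c
  constructor
  · intro hc
    exact key g hg c hc
  · intro hc
    have := key g⁻¹ (inv_mem hg) _ hc
    have h2 : g⁻¹ * (g * c * g⁻¹) * g⁻¹⁻¹ = c := by group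
    rwa [h2] at this

/-- The principal block is nilpotent iff Frobenius' condition holds. -/
theorem isNilpotentBlock_principal_iff_frobHyp [Fintype G] [hp : Fact p.Prime]
    (hM : IsPModular p M) :
    IsNilpotentBlock p M (principalBlock M G) ↔ FrobHyp p G := by
  have hMp := isPrime_of_isPModular hM
  have hPG : IsPBlock M (principalBlock M G) :=
    ⟨Cfsg.Agent.Lib.Helper80_CharBasic.oneIrr G, rfl⟩
  constructor
  · intro h Q hQ g hg hgo
    have hPC : IsPBlock M (principalBlock M (Subgroup.centralizer (Q : Set G))) :=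
      ⟨Cfsg.Agent.Lib.Helper80_CharBasic.oneIrr _, rfl⟩
    have hpair := (isBrauerPairOf_principal_iff hM Q hQ _ hPC).mpr rfl
    refine h.2 Q _ hpair g hg
      (stabilizesBlock_principal _ g (normalizer_le_normalizer_centralizer Q hg)) ?_
    intro hdvd
    have := Nat.Coprime.eq_one_of_dvd hgo.symm hdvd
    exact hp.1.one_lt.ne' this
  · intro hF
    refine ⟨hPG, fun Q e hpair x hx _ hreg => ?_⟩
    refine hF Q hpair.1.1 x hx ?_
    exact ((Nat.Prime.coprime_iff_not_dvd hp.1).mpr hreg).symm

/-- **S4691**: `G` has a normal `p`-complement iff its principal block is nilpotent. -/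
theorem hasNormalPComplement_iff_isNilpotentBlock [Fintype G] [Fact p.Prime]
    (hM : IsPModular p M) :
    HasNormalPComplement p G ↔ IsNilpotentBlock p M (principalBlock M G) := by
  rw [hasNormalPComplement_iff_hasNPC, isNilpotentBlock_principal_iff_frobHyp hM]
  exact ⟨frobHyp_of_hasNPC, hasNPC_of_frobHyp⟩

end Cfsg.Agent.Lib.Helper78_NilpotentPrincipal
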