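import Mathlib
import Cfsg.Prelude.Def_Blocks
import Cfsg.Prelude.Def_BlockLocal
import Cfsg.Prelude.Def_BrauerPairs
import Cfsg.Agent.Lib.Helper78_LocalRing
import Cfsg.Agent.Lib.Helper78_CentralChar
import Cfsg.Agent.Lib.Helper78_Osima
import Cfsg.Agent.Lib.Helper78_CharFacts
import Cfsg.Agent.Lib.Helper78_AlgHom
import Cfsg.Agent.Lib.Helper78_BrauerMap
import Cfsg.Agent.Lib.Helper78_BrDecomp
import Cfsg.Agent.Lib.Helper78_ExtConv
import Cfsg.Agent.Lib.Helper78_SecondMain
import Cfsg.Agent.Lib.Helper78_BrauerPairs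
import Cfsg.Agent.Lib.Helper78_Transport
import Cfsg.Agent.Lib.Helper78_TransportBlocks

/-!
# Brauer pairs: the Brauer map on stable idempotents (helper78)

For a subgroup `K` of `G` (in use `K = C_G(Q)`), a `p`-subgroup `P` normalizing `K` with
`C_G(P) ≤ K`, a set `S` of irreducible characters of `K` and an irreducible character `ξ` of
`C_G(P)`, `lam P K S ξ` is the value of the central character of `ξ` on the Brauer-map image at `P`
of the idempotent of `S`.  On sets `S` which are closed (unions of blocks) and `P`-stable it is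
multiplicative (`lam_inter`) and additive (`lam_union`) modulo the local ideal.
-/

set_option autoImplicit false
set_option linter.unusedSectionVars false

namespace Cfsg.Agent.Lib.Helper78_SubpairBasic

open Cfsg Cfsg.Agent.Lib.Helper78_LocalRing Cfsg.Agent.Lib.Helper78_CentralChar
  Cfsg.Agent.Lib.Helper78_Osima Cfsg.Agent.Lib.Helper78_CharFacts
  Cfsg.Agent.Lib.Helper78_AlgHom
  Cfsg.Agent.Lib.Helper78_BrauerMap Cfsg.Agent.Lib.Helper78_BrDecomp
  Cfsg.Agent.Lib.Helper78_ExtConv Cfsg.Agent.Lib.Helper78_SecondMain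
  Cfsg.Agent.Lib.Helper78_BrauerPairs Cfsg.Agent.Lib.Helper78_Transport
  Cfsg.Agent.Lib.Helper78_TransportBlocks

universe u v

/-! ### Closed sets of irreducible characters -/

section Closed

variable {H : Type v} [Group H] {M : Ideal AlgInt}

/-- A set of irreducible characters is closed when it is a union of blocks. -/
def Closed (M : Ideal AlgInt) (S : Set (IrrCharacter H)) : Prop :=
  ∀ χ ∈ S, ∀ ψ : IrrCharacter H, SameBlock M (χ : H → ℂ) (ψ : H → ℂ) → ψ ∈ S

theorem closed_of_isPBlock (hM : M.IsPrime) {b : Set (IrrCharacter H)} (hb : IsPBlock M b) :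
    Closed M b := fun _ hχ _ h => isPBlock_mem_of_sameBlock hM hb hχ h

theorem closed_univ : Closed M (Set.univ : Set (IrrCharacter H)) := fun _ _ _ _ => Set.mem_univ _

theorem closed_empty : Closed M (∅ : Set (IrrCharacter H)) := fun _ h _ _ => absurd h (by simp)

theorem closed_inter {S S' : Set (IrrCharacter H)} (hS : Closed M S) (hS' : Closed M S') :
    Closed M (S ∩ S') := fun χ hχ ψ h => ⟨hS χ hχ.1 ψ h, hS' χ hχ.2 ψ h⟩

theorem closed_union {S S' : Set (IrrCharacter H)} (hS : Closed M S) (hS' : Closed M S') :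
    Closed M (S ∪ S') := fun χ hχ ψ h => by
  rcases hχ with hχ | hχ
  · exact Or.inl (hS χ hχ ψ h)
  · exact Or.inr (hS' χ hχ ψ h)

theorem closed_diff (hM : M.IsPrime) {S S' : Set (IrrCharacter H)} (hS : Closed M S)
    (hS' : Closed M S') : Closed M (S \ S') := fun χ hχ ψ h =>
  ⟨hS χ hχ.1 ψ h, fun hψ => hχ.2 (hS' ψ hψ χ (sameBlock_symm h))⟩

theorem block_subset_or_disjoint (hM : M.IsPrime) {b S : Set (IrrCharacter H)}
    (hb : IsPBlock M b) (hS : Closed M S) : b ⊆ S ∨ Disjoint b S := by
  by_cases h : ∃ χ ∈ b, χ ∈ S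
  · obtain ⟨χ, hχb, hχS⟩ := h
    left
    intro ψ hψ
    exact hS χ hχS ψ (isPBlock_sameBlock hM hb hχb hψ)
  · right
    rw [Set.disjoint_left]
    intro χ hχb hχS
    exact h ⟨χ, hχb, hχS⟩

variable [Fintype H]

theorem blockCoeff_inter (hc : CharFacts H) (S S' : Set (IrrCharacter H)) :
    blockCoeff (S ∩ S') = conv (blockCoeff S) (blockCoeff S') := by
  classical
  refine eq_of_omega_eq hc (blockCoeff_isClassFunction _)
    (conv_isClassFunction (blockCoeff_isClassFunction S) (blockCoeff_isClassFunction S')) ?_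
  intro χ
  rw [omega_conv χ.2 _ (blockCoeff_isClassFunction S'), omega_blockCoeff hc, omega_blockCoeff hc,
    omega_blockCoeff hc]
  by_cases h1 : χ ∈ S <;> by_cases h2 : χ ∈ S' <;>
    simp [Set.indicator_apply, h1, h2]

theorem blockCoeff_union (hc : CharFacts H) {S S' : Set (IrrCharacter H)}
    (hd : Disjoint S S') : blockCoeff (S ∪ S') = blockCoeff S + blockCoeff S' := by
  classical
  have hcl : IsClassFunction H (blockCoeff S + blockCoeff S') := by
    intro g k
    simp only [Pi.add_apply]
    rw [blockCoeff_isClassFunction S g k, blockCoeff_isClassFunction S' g k]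
  refine eq_of_omega_eq hc (blockCoeff_isClassFunction _) hcl ?_
  intro χ
  rw [omega_add, omega_blockCoeff hc, omega_blockCoeff hc, omega_blockCoeff hc]
  rw [Set.disjoint_left] at hd
  by_cases h1 : χ ∈ S <;> by_cases h2 : χ ∈ S'
  · exact absurd h2 (hd h1)
  · simp [Set.indicator_apply, h1, h2]
  · simp [Set.indicator_apply, h1, h2]
  · simp [Set.indicator_apply, h1, h2]

theorem blockCoeff_empty : blockCoeff (∅ : Set (IrrCharacter H)) = 0 := by
  funext g
  unfold blockCoeff
  simp

end Closed

variable {G : Type u} [Group G] {M : Ideal AlgInt} {p : ℕ}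

/-! ### Stability under conjugation -/

/-- `S` is stable under conjugation by the elements of `P`. -/
def PStable (K P : Subgroup G) (S : Set (IrrCharacter K)) : Prop :=
  ∀ x ∈ P, StabilizesBlock K S x

theorem conjEquiv_inv (K : Subgroup G) (x : G) (hx : x ∈ Subgroup.normalizer (K : Set G))
    (hx' : x⁻¹ ∈ Subgroup.normalizer (K : Set G)) :
    conjEquiv K x⁻¹ hx' = (conjEquiv K x hx).symm := by
  ext k
  show x⁻¹⁻¹ * (k : G) * x⁻¹ = x * (k : G) * x⁻¹
  rw [inv_inv]

theorem stabilizesBlock_iff (K : Subgroup G) (S : Set (IrrCharacter K)) (x : G)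
    (hx : x ∈ Subgroup.normalizer (K : Set G)) :
    StabilizesBlock K S x ↔ mapBlock (conjEquiv K x hx) S ⊆ S := by
  constructor
  · rintro ⟨-, h⟩ _ ⟨χ, hχ, rfl⟩
    obtain ⟨χ', hχ', hconj⟩ := h χ hχ
    have : irrComp (conjEquiv K x hx) χ = χ' := by
      apply Subtype.ext
      funext k'
      rw [irrComp_apply]
      refine (hconj (conjEquiv K x hx k') k' ?_).symm
      rw [conjEquiv_apply]
      group
    rw [this]
    exact hχ'
  · intro h
    refine ⟨hx, fun χ hχ => ⟨irrComp (conjEquiv K x hx) χ, h (irrComp_mem_mapBlock _ hχ),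
      isConjCharOf_irrComp K x hx χ⟩⟩

theorem mapBlock_eq_of_pstable {K P : Subgroup G} (hPK : P ≤ Subgroup.normalizer (K : Set G))
    {S : Set (IrrCharacter K)} (hS : PStable K P S) {x : G} (hx : x ∈ P) :
    mapBlock (conjEquiv K x (hPK hx)) S = S := by
  apply Set.Subset.antisymm
  · exact (stabilizesBlock_iff K S x (hPK hx)).mp (hS x hx)
  · intro θ hθ
    have h1 := (stabilizesBlock_iff K S x⁻¹ (hPK (P.inv_mem hx))).mp (hS x⁻¹ (P.inv_mem hx))
    rw [conjEquiv_inv K x (hPK hx)] at h1
    rw [mem_mapBlock_iff]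
    exact h1 (irrComp_mem_mapBlock _ hθ)

theorem blockCoeff_conj_of_pstable {K P : Subgroup G}
    (hPK : P ≤ Subgroup.normalizer (K : Set G))
    {S : Set (IrrCharacter K)} (hS : PStable K P S) {x : G} (hx : x ∈ P) (k : K) :
    blockCoeff S (conjEquiv K x (hPK hx) k) = blockCoeff S k := by
  rw [← blockCoeff_mapBlock, mapBlock_eq_of_pstable hPK hS hx]

/-- The idempotent of a `P`-stable set, extended by zero, is invariant under conjugation by
`P`. -/
theorem ext_blockCoeff_invariant {K P : Subgroup G}
    (hPK : P ≤ Subgroup.normalizer (K : Set G))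
    {S : Set (IrrCharacter K)} (hS : PStable K P S) (q : G) (hq : q ∈ P) (g : G) :
    ext K (blockCoeff S) (q * g * q⁻¹) = ext K (blockCoeff S) g := by
  have hqN := hPK hq
  by_cases hg : g ∈ K
  · have hg' : q * g * q⁻¹ ∈ K := (Subgroup.mem_set_normalizer_iff.mp hqN g).mp hg
    rw [ext_of_mem K _ hg, ext_of_mem K _ hg']
    have h1 := blockCoeff_conj_of_pstable hPK hS (P.inv_mem hq) ⟨g, hg⟩
    rw [← h1]
    congr 1
    apply Subtype.ext
    rw [conjEquiv_apply, inv_inv]
  · have hg' : q * g * q⁻¹ ∉ K := fun h =>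
      hg ((Subgroup.mem_set_normalizer_iff.mp hqN g).mpr h)
    rw [ext_of_notMem K _ hg, ext_of_notMem K _ hg']

theorem pstable_inter {K P : Subgroup G} (hPK : P ≤ Subgroup.normalizer (K : Set G))
    {S S' : Set (IrrCharacter K)} (hS : PStable K P S) (hS' : PStable K P S') :
    PStable K P (S ∩ S') := by
  intro x hx
  rw [stabilizesBlock_iff K _ x (hPK hx)]
  rintro _ ⟨χ, hχ, rfl⟩
  exact ⟨(stabilizesBlock_iff K S x (hPK hx)).mp (hS x hx) (irrComp_mem_mapBlock _ hχ.1),
    (stabilizesBlock_iff K S' x (hPK hx)).mp (hS' x hx) (irrComp_mem_mapBlock _ hχ.2)⟩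

theorem pstable_diff {K P : Subgroup G} (hPK : P ≤ Subgroup.normalizer (K : Set G))
    {S S' : Set (IrrCharacter K)} (hS : PStable K P S) (hS' : PStable K P S') :
    PStable K P (S \ S') := by
  intro x hx
  rw [stabilizesBlock_iff K _ x (hPK hx)]
  rintro _ ⟨χ, hχ, rfl⟩
  refine ⟨(stabilizesBlock_iff K S x (hPK hx)).mp (hS x hx) (irrComp_mem_mapBlock _ hχ.1), ?_⟩
  intro hmem
  apply hχ.2
  have h1 := mapBlock_eq_of_pstable hPK hS' hx
  rw [← h1] at hmem
  obtain ⟨χ', hχ', heq⟩ := hmem
  rw [← irrComp_injective _ heq]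
  exact hχ'

theorem pstable_univ (K P : Subgroup G) (hPK : P ≤ Subgroup.normalizer (K : Set G)) :
    PStable K P (Set.univ : Set (IrrCharacter K)) := by
  intro x hx
  rw [stabilizesBlock_iff K _ x (hPK hx)]
  exact Set.subset_univ _

/-! ### The functional `lam` -/

/-- The central character of `ξ` on the Brauer-map image at `P` of the idempotent of `S`. -/
noncomputable def lam (P K : Subgroup G) (S : Set (IrrCharacter K))
    (ξ : Subgroup.centralizer (P : Set G) → ℂ) : ℂ :=
  brauerOmega P (subgroupBlockCoeff K S) ξ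

theorem subgroupBlockCoeff_eq_ext (K : Subgroup G) (S : Set (IrrCharacter K)) :
    subgroupBlockCoeff K S = ext K (blockCoeff S) := by
  classical
  funext g
  unfold subgroupBlockCoeff
  by_cases hg : g ∈ K
  · rw [dif_pos hg, ext_of_mem K _ hg]
  · rw [dif_neg hg, ext_of_notMem K _ hg]

/-- The Brauer-map image at `P` of the idempotent of `S`, as a function on `C_G(P)`. -/
noncomputable def rs (P K : Subgroup G) (S : Set (IrrCharacter K)) :
    Subgroup.centralizer (P : Set G) → ℂ :=
  res (Subgroup.centralizer (P : Set G)) (ext K (blockCoeff S))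

theorem lam_eq_omega (P K : Subgroup G) [Fintype (Subgroup.centralizer (P : Set G))]
    (S : Set (IrrCharacter K)) (ξ : Subgroup.centralizer (P : Set G) → ℂ) :
    lam P K S ξ = omega ξ (rs P K S) := by
  unfold lam rs
  rw [brauerOmega_eq_omega, subgroupBlockCoeff_eq_ext]

theorem rs_apply {P K : Subgroup G} (hCK : Subgroup.centralizer (P : Set G) ≤ K)
    (S : Set (IrrCharacter K)) (c : Subgroup.centralizer (P : Set G)) :
    rs P K S c = blockCoeff S ⟨(c : G), hCK c.2⟩ := by
  unfold rs
  rw [res_apply, ext_of_mem K _ (hCK c.2)]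

theorem rs_isClassFunction [Finite G] {P K : Subgroup G}
    (hCK : Subgroup.centralizer (P : Set G) ≤ K)
    (S : Set (IrrCharacter K)) : IsClassFunction (Subgroup.centralizer (P : Set G)) (rs P K S) := by
  classical
  have := Fintype.ofFinite K
  intro c k
  rw [rs_apply hCK, rs_apply hCK]
  have := blockCoeff_isClassFunction S ⟨(c : G), hCK c.2⟩ ⟨(k : G), hCK k.2⟩
  rw [← this]
  rfl

theorem rs_memLocalRing [Finite G] (hM : M.IsPrime) {P K : Subgroup G}
    (hCK : Subgroup.centralizer (P : Set G) ≤ K)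
    {S : Set (IrrCharacter K)} (hS : Closed M S) (c : Subgroup.centralizer (P : Set G)) :
    MemLocalRing M (rs P K S c) := by
  rw [rs_apply hCK]
  exact osima' hM S hS _

section Lam

variable [Fintype G] {P K : Subgroup G}

/-- The Brauer map is multiplicative on stable closed sets, coefficient by coefficient. -/
theorem rs_inter (hM : IsPModular p M) (hP : IsPGroup p P)
    (hPK : P ≤ Subgroup.normalizer (K : Set G))
    [Fintype (Subgroup.centralizer (P : Set G))] [Fintype K]
    {S S' : Set (IrrCharacter K)} (hS : Closed M S) (hS' : Closed M S')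
    (hSP : PStable K P S) (hS'P : PStable K P S') (c : Subgroup.centralizer (P : Set G)) :
    MemLocalIdeal M (rs P K (S ∩ S') c - conv (rs P K S) (rs P K S') c) := by
  have hMp := isPrime_of_isPModular hM
  have hcK := Cfsg.Agent.Lib.Helper78_CharFacts.charFacts (G := K)
  have h := res_conv_mem hM P hP (ext_blockCoeff_invariant hPK hSP)
    (ext_blockCoeff_invariant hPK hS'P)
    (ext_memLocalRing hMp K (osima' hMp S hS)) (ext_memLocalRing hMp K (osima' hMp S' hS')) c
  rw [ext_conv, ← blockCoeff_inter hcK] at h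
  exact h

theorem memLocalRing_lam (hM : M.IsPrime)
    (hCK : Subgroup.centralizer (P : Set G) ≤ K)
    {S : Set (IrrCharacter K)} (hS : Closed M S)
    (ξ : IrrCharacter (Subgroup.centralizer (P : Set G))) :
    MemLocalRing M (lam P K S (ξ : Subgroup.centralizer (P : Set G) → ℂ)) := by
  classical
  have := Fintype.ofFinite (Subgroup.centralizer (P : Set G))
  rw [lam_eq_omega]
  exact memLocalRing_omega hM ξ.2 (rs_isClassFunction hCK S) (rs_memLocalRing hM hCK hS)

/-- **Multiplicativity** of `lam` on stable closed sets. -/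
theorem lam_inter (hM : IsPModular p M) (hP : IsPGroup p P)
    (hPK : P ≤ Subgroup.normalizer (K : Set G))
    (hCK : Subgroup.centralizer (P : Set G) ≤ K)
    {S S' : Set (IrrCharacter K)} (hS : Closed M S) (hS' : Closed M S')
    (hSP : PStable K P S) (hS'P : PStable K P S')
    (ξ : IrrCharacter (Subgroup.centralizer (P : Set G))) :
    MemLocalIdeal M (lam P K (S ∩ S') (ξ : Subgroup.centralizer (P : Set G) → ℂ) -
      lam P K S (ξ : Subgroup.centralizer (P : Set G) → ℂ) *
        lam P K S' (ξ : Subgroup.centralizer (P : Set G) → ℂ)) := by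
  classical
  have := Fintype.ofFinite (Subgroup.centralizer (P : Set G))
  have := Fintype.ofFinite K
  have hMp := isPrime_of_isPModular hM
  rw [lam_eq_omega, lam_eq_omega, lam_eq_omega,
    ← omega_conv ξ.2 _ (rs_isClassFunction hCK S'), ← omega_sub]
  refine memLocalIdeal_omega_of_pointwise hMp ξ.2 ?_ ?_
  · exact sub_isClassFunction (rs_isClassFunction hCK _)
      (conv_isClassFunction (rs_isClassFunction hCK S) (rs_isClassFunction hCK S'))
  · intro c
    exact rs_inter hM hP hPK hS hS' hSP hS'P c

/-- `lam` of a stable closed set is congruent to `0` or `1`. -/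
theorem lam_dichotomy (hM : IsPModular p M) (hP : IsPGroup p P)
    (hPK : P ≤ Subgroup.normalizer (K : Set G))
    (hCK : Subgroup.centralizer (P : Set G) ≤ K)
    {S : Set (IrrCharacter K)} (hS : Closed M S) (hSP : PStable K P S)
    (ξ : IrrCharacter (Subgroup.centralizer (P : Set G))) :
    MemLocalIdeal M (lam P K S (ξ : Subgroup.centralizer (P : Set G) → ℂ)) ∨
      MemLocalIdeal M (lam P K S (ξ : Subgroup.centralizer (P : Set G) → ℂ) - 1) := by
  have hMp := isPrime_of_isPModular hM
  have h1 := lam_inter hM hP hPK hCK hS hS hSP hSP ξ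
  rw [Set.inter_self] at h1
  have hR := memLocalRing_lam hMp hCK hS ξ
  set a := lam P K S (ξ : Subgroup.centralizer (P : Set G) → ℂ) with ha
  have h2 : a - a * a = -(a * (a - 1)) := by ring
  rw [h2] at h1
  have h3 := memLocalIdeal_neg h1
  rw [neg_neg] at h3
  exact (memLocalIdeal_mul_iff hMp hR (memLocalRing_sub hMp hR (memLocalRing_one hMp))).1 h3

/-- **Additivity** of `lam` on disjoint sets. -/
theorem lam_union {S S' : Set (IrrCharacter K)} (hd : Disjoint S S')
    (ξ : Subgroup.centralizer (P : Set G) → ℂ) :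
    lam P K (S ∪ S') ξ = lam P K S ξ + lam P K S' ξ := by
  classical
  have := Fintype.ofFinite (Subgroup.centralizer (P : Set G))
  have := Fintype.ofFinite K
  have hcK := Cfsg.Agent.Lib.Helper78_CharFacts.charFacts (G := K)
  rw [lam_eq_omega, lam_eq_omega, lam_eq_omega, ← omega_add]
  congr 1
  unfold rs
  rw [blockCoeff_union hcK hd, ext_add]
  rfl

theorem lam_empty (ξ : Subgroup.centralizer (P : Set G) → ℂ) :
    lam P K (∅ : Set (IrrCharacter K)) ξ = 0 := by
  classical
  have := Fintype.ofFinite (Subgroup.centralizer (P : Set G))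
  rw [lam_eq_omega]
  unfold rs omega
  rw [blockCoeff_empty]
  have : ∀ c : Subgroup.centralizer (P : Set G),
      res (Subgroup.centralizer (P : Set G)) (ext K (0 : K → ℂ)) c = 0 := by
    intro c
    rw [res_apply]
    by_cases hc : (c : G) ∈ K
    · rw [ext_of_mem K _ hc]; rfl
    · rw [ext_of_notMem K _ hc]
  simp [this]

theorem lam_univ (hCK : Subgroup.centralizer (P : Set G) ≤ K)
    (ξ : IrrCharacter (Subgroup.centralizer (P : Set G))) :
    lam P K (Set.univ : Set (IrrCharacter K))
      (ξ : Subgroup.centralizer (P : Set G) → ℂ) = 1 := by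
  classical
  have := Fintype.ofFinite (Subgroup.centralizer (P : Set G))
  have := Fintype.ofFinite K
  have hcK := Cfsg.Agent.Lib.Helper78_CharFacts.charFacts (G := K)
  rw [lam_eq_omega]
  have : rs P K (Set.univ : Set (IrrCharacter K)) =
      classIndicator (1 : Subgroup.centralizer (P : Set G)) := by
    funext c
    rw [rs_apply hCK, blockCoeff_univ hcK]
    unfold classIndicator
    simp only [Set.indicator_apply, Set.mem_ofPred_eq, isConj_one_right]
    have : (⟨(c : G), hCK c.2⟩ : K) = 1 ↔ c = 1 := by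
      constructor
      · intro h
        exact Subtype.ext (by simpa using congrArg (fun k : K => (k : G)) h)
      · intro h
        exact Subtype.ext (by
          simpa using congrArg (fun k : Subgroup.centralizer (P : Set G) => (k : G)) h)
    simp only [this]
  rw [this, omega_classIndicator_one ξ.2]

/-- `lam` only depends on the block of `ξ`. -/
theorem lam_sameBlock (hM : M.IsPrime) (hCK : Subgroup.centralizer (P : Set G) ≤ K)
    {S : Set (IrrCharacter K)} (hS : Closed M S)
    {ξ ξ' : IrrCharacter (Subgroup.centralizer (P : Set G))}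
    (hsb : SameBlock M (ξ : Subgroup.centralizer (P : Set G) → ℂ)
      (ξ' : Subgroup.centralizer (P : Set G) → ℂ)) :
    MemLocalIdeal M (lam P K S (ξ : Subgroup.centralizer (P : Set G) → ℂ) -
      lam P K S (ξ' : Subgroup.centralizer (P : Set G) → ℂ)) := by
  classical
  have := Fintype.ofFinite (Subgroup.centralizer (P : Set G))
  rw [lam_eq_omega, lam_eq_omega]
  exact memLocalIdeal_omega_sub hM (isIrrCharacter_isClassFunction ξ.2)
    (isIrrCharacter_isClassFunction ξ'.2) hsb (rs_isClassFunction hCK S)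
    (rs_memLocalRing hM hCK hS)

end Lam

end Cfsg.Agent.Lib.Helper78_SubpairBasic
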