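import Mathlib
import Cfsg.Prelude.Def_Blocks
import Cfsg.Prelude.Def_BlockLocal
import Cfsg.Prelude.Def_BrauerPairs
import Cfsg.Agent.Lib.Helper78_LocalRing
import Cfsg.Agent.Lib.Helper78_CentralChar
import Cfsg.Agent.Lib.Helper78_Osima
import Cfsg.Agent.Lib.Helper78_CharFacts
import Cfsg.Agent.Lib.Helper78_AlgHom
import Cfsg.Agent.Lib.Helper78_BrauerMap
import Cfsg.Agent.Lib.Helper78_BrDecomp
import Cfsg.Agent.Lib.Helper78_ExtConv
import Cfsg.Agent.Lib.Helper78_SecondMain
import Cfsg.Agent.Lib.Helper78_Transport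
import Cfsg.Agent.Lib.Helper78_TransportBlocks
import Cfsg.Agent.Lib.Helper78_NilpotentPrincipal
import Cfsg.Agent.Lib.Helper78_SubpairBasic

/-!
# Normal inclusion of Brauer pairs: existence and uniqueness (helper78, S4656)
-/

set_option autoImplicit false
set_option linter.unusedSectionVars false

namespace Cfsg.Agent.Lib.Helper78_SubpairNormal

open Cfsg Cfsg.Agent.Lib.Helper78_LocalRing Cfsg.Agent.Lib.Helper78_CentralChar
  Cfsg.Agent.Lib.Helper78_Osima Cfsg.Agent.Lib.Helper78_CharFacts
  Cfsg.Agent.Lib.Helper78_AlgHom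
  Cfsg.Agent.Lib.Helper78_BrauerMap Cfsg.Agent.Lib.Helper78_BrDecomp
  Cfsg.Agent.Lib.Helper78_ExtConv Cfsg.Agent.Lib.Helper78_SecondMain
  Cfsg.Agent.Lib.Helper78_Transport
  Cfsg.Agent.Lib.Helper78_TransportBlocks Cfsg.Agent.Lib.Helper78_NilpotentPrincipal
  Cfsg.Agent.Lib.Helper78_SubpairBasic

universe u v w

section General

variable {H₁ : Type u} [Group H₁] {H₂ : Type v} [Group H₂] {H₃ : Type w} [Group H₃]

theorem irrComp_trans (φ : H₁ ≃* H₂) (ψ : H₂ ≃* H₃) (χ : IrrCharacter H₃) :
    irrComp (φ.trans ψ) χ = irrComp φ (irrComp ψ χ) := Subtype.ext rfl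

theorem mapBlock_trans (φ : H₁ ≃* H₂) (ψ : H₂ ≃* H₃) (S : Set (IrrCharacter H₃)) :
    mapBlock (φ.trans ψ) S = mapBlock φ (mapBlock ψ S) := by
  ext θ
  constructor
  · rintro ⟨χ, hχ, rfl⟩
    exact ⟨irrComp ψ χ, ⟨χ, hχ, rfl⟩, (irrComp_trans φ ψ χ).symm⟩
  · rintro ⟨_, ⟨χ, hχ, rfl⟩, rfl⟩
    exact ⟨χ, hχ, irrComp_trans φ ψ χ⟩

theorem mapBlock_refl (S : Set (IrrCharacter H₁)) : mapBlock (MulEquiv.refl H₁) S = S := by
  ext θ
  constructor
  · rintro ⟨χ, hχ, rfl⟩
    have : irrComp (MulEquiv.refl H₁) χ = χ := Subtype.ext rfl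
    rwa [this]
  · intro h
    exact ⟨θ, h, Subtype.ext rfl⟩

end General

variable {G : Type u} [Group G] {M : Ideal AlgInt} {p : ℕ}

theorem conjEquiv_eq_refl (K : Subgroup G) (x : G) (hx : x ∈ Subgroup.normalizer (K : Set G))
    (h : x = 1) : conjEquiv K x hx = MulEquiv.refl K := by
  subst h
  ext k
  show (1 : G)⁻¹ * (k : G) * 1 = k
  simp

theorem conjEquiv_eq_trans (K : Subgroup G) (x y z : G)
    (hx : x ∈ Subgroup.normalizer (K : Set G)) (hy : y ∈ Subgroup.normalizer (K : Set G))
    (hz : z ∈ Subgroup.normalizer (K : Set G)) (h : z = x * y) :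
    conjEquiv K z hz = (conjEquiv K x hx).trans (conjEquiv K y hy) := by
  subst h
  ext k
  show (x * y)⁻¹ * (k : G) * (x * y) = y⁻¹ * (x⁻¹ * (k : G) * x) * y
  group

/-- The action of `P` on the sets of irreducible characters of a subgroup `K` it normalizes. -/
noncomputable def setAction (K P : Subgroup G) (hPK : P ≤ Subgroup.normalizer (K : Set G)) :
    MulAction P (Set (IrrCharacter K)) where
  smul x S := mapBlock (conjEquiv K (x : G) (hPK x.2)) S
  one_smul S := by
    show mapBlock (conjEquiv K ((1 : P) : G) (hPK (1 : P).2)) S = S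
    rw [conjEquiv_eq_refl K _ _ (Subgroup.coe_one P), mapBlock_refl]
  mul_smul x y S := by
    show mapBlock (conjEquiv K ((x * y : P) : G) (hPK (x * y).2)) S =
      mapBlock (conjEquiv K (x : G) (hPK x.2)) (mapBlock (conjEquiv K (y : G) (hPK y.2)) S)
    rw [conjEquiv_eq_trans K (x : G) (y : G) _ (hPK x.2) (hPK y.2) _ (Subgroup.coe_mul P x y),
      mapBlock_trans]

/-- The union of the `P`-conjugates of `f`. -/
def orbitUnion (K P : Subgroup G) (hPK : P ≤ Subgroup.normalizer (K : Set G))
    (f : Set (IrrCharacter K)) : Set (IrrCharacter K) :=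
  ⋃ x : P, mapBlock (conjEquiv K (x : G) (hPK x.2)) f

section Orbit

variable {K P : Subgroup G} (hPK : P ≤ Subgroup.normalizer (K : Set G))

theorem pstable_iff_smul {S : Set (IrrCharacter K)} :
    PStable K P S ↔ ∀ x : P, mapBlock (conjEquiv K (x : G) (hPK x.2)) S = S := by
  constructor
  · intro h x
    exact mapBlock_eq_of_pstable hPK h x.2
  · intro h x hx
    rw [stabilizesBlock_iff K S x (hPK hx)]
    exact (h ⟨x, hx⟩).le

theorem subset_orbitUnion (f : Set (IrrCharacter K)) : f ⊆ orbitUnion K P hPK f := by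
  intro θ hθ
  refine Set.mem_iUnion.mpr ⟨1, ?_⟩
  letI := setAction K P hPK
  have h1 : (1 : P) • f = f := one_smul P f
  show θ ∈ (1 : P) • f
  rw [h1]
  exact hθ

theorem closed_orbitUnion (hM : M.IsPrime) {f : Set (IrrCharacter K)} (hf : IsPBlock M f) :
    Closed M (orbitUnion K P hPK f) := by
  intro χ hχ ψ h
  obtain ⟨x, hx⟩ := Set.mem_iUnion.mp hχ
  exact Set.mem_iUnion.mpr ⟨x, closed_of_isPBlock hM (isPBlock_mapBlock _ hf) χ hx ψ h⟩

theorem pstable_orbitUnion (f : Set (IrrCharacter K)) : PStable K P (orbitUnion K P hPK f) := by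
  letI := setAction K P hPK
  rw [pstable_iff_smul hPK]
  intro y
  have key : ∀ y : P, mapBlock (conjEquiv K (y : G) (hPK y.2)) (orbitUnion K P hPK f) ⊆
      orbitUnion K P hPK f := by
    intro y θ hθ
    obtain ⟨χ, hχ, rfl⟩ := hθ
    obtain ⟨x, hx⟩ := Set.mem_iUnion.mp hχ
    refine Set.mem_iUnion.mpr ⟨y * x, ?_⟩
    have h1 : (y * x) • f = y • (x • f) := mul_smul y x f
    show irrComp _ χ ∈ (y * x) • f
    rw [h1]
    exact irrComp_mem_mapBlock _ hx
  apply Set.Subset.antisymm (key y)
  intro θ hθ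
  have h2 := key y⁻¹ (irrComp_mem_mapBlock (conjEquiv K ((y⁻¹ : P) : G) (hPK (y⁻¹).2)) hθ)
  have h3 : irrComp (conjEquiv K (y : G) (hPK y.2))
      (irrComp (conjEquiv K ((y⁻¹ : P) : G) (hPK (y⁻¹).2)) θ) = θ := by
    apply Subtype.ext
    funext k
    rw [irrComp_apply, irrComp_apply]
    refine congrArg _ (Subtype.ext ?_)
    rw [conjEquiv_apply, conjEquiv_apply]
    push_cast
    group
  rw [← h3]
  exact irrComp_mem_mapBlock _ h2

theorem omega_sum {H : Type*} [Group H] [Fintype H] {ι : Type*} (s : Finset ι) (χ : H → ℂ)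
    (F : ι → H → ℂ) : omega χ (fun g => ∑ i ∈ s, F i g) = ∑ i ∈ s, omega χ (F i) := by
  unfold omega
  rw [← Finset.sum_div]
  congr 1
  simp_rw [Finset.sum_mul]
  rw [Finset.sum_comm]

/-- The Brauer-map image at `P` of the idempotent of the orbit of a block which is not `P`-stable
vanishes modulo the ideal. -/
theorem rs_orbitUnion_mem [Fintype G] [Fact p.Prime] (hM : IsPModular p M) (hP : IsPGroup p P)
    (hCK : Subgroup.centralizer (P : Set G) ≤ K)
    {f : Set (IrrCharacter K)} (hf : IsPBlock M f) (hns : ¬ PStable K P f)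
    (c : Subgroup.centralizer (P : Set G)) :
    MemLocalIdeal M (rs P K (orbitUnion K P hPK f) c) := by
  classical
  letI := setAction K P hPK
  have := Fintype.ofFinite K
  have := Fintype.ofFinite P
  have hMp := isPrime_of_isPModular hM
  have hcK := Cfsg.Agent.Lib.Helper78_CharFacts.charFacts (G := K)
  have hsmul : ∀ (x : P) (S : Set (IrrCharacter K)),
      x • S = mapBlock (conjEquiv K (x : G) (hPK x.2)) S := fun _ _ => rfl
  set Stab := MulAction.stabilizer P f with hStab
  have hne : Stab ≠ ⊤ := by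
    intro h
    apply hns
    rw [pstable_iff_smul hPK]
    intro x
    have : x ∈ Stab := h ▸ Subgroup.mem_top x
    rw [MulAction.mem_stabilizer_iff] at this
    exact this
  obtain ⟨n, hn⟩ := hP.index Stab
  have hn1 : n ≠ 0 := by
    intro h0
    rw [h0, pow_zero] at hn
    exact hne (Subgroup.index_eq_one.mp hn)
  have hcard : Nat.card Stab * p ^ n = Nat.card P := by
    rw [← hn]
    exact Subgroup.card_mul_index Stab
  -- the identity `∑ₓ e_{x • f} = |Stab| e_O`
  have hid : (fun k : K => ∑ x : P, blockCoeff (x • f) k) =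
      fun k : K => (Nat.card Stab : ℂ) * blockCoeff (orbitUnion K P hPK f) k := by
    refine eq_of_omega_eq hcK ?_ ?_ ?_
    · intro k g
      simp only
      refine Finset.sum_congr rfl fun x _ => ?_
      exact blockCoeff_isClassFunction _ k g
    · intro k g
      simp only
      rw [blockCoeff_isClassFunction _ k g]
    · intro θ
      rw [omega_sum, omega_smul, omega_blockCoeff hcK]
      simp_rw [omega_blockCoeff hcK]
      by_cases hθ : θ ∈ orbitUnion K P hPK f
      · rw [Set.indicator_of_mem hθ, mul_one]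
        obtain ⟨x₀, hx₀⟩ := Set.mem_iUnion.mp hθ
        have hx₀' : θ ∈ x₀ • f := hx₀
        have hiff : ∀ x : P, θ ∈ x • f ↔ x₀⁻¹ * x ∈ Stab := by
          intro x
          rw [MulAction.mem_stabilizer_iff, mul_smul, inv_smul_eq_iff]
          constructor
          · intro hx
            exact isPBlock_eq_of_mem_of_mem hMp (isPBlock_mapBlock _ hf)
              (isPBlock_mapBlock _ hf) hx hx₀'
          · intro hx
            rw [hx]
            exact hx₀'
        have h1 : ∀ x : P, (x • f).indicator (fun _ => (1 : ℂ)) θ =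
            if x₀⁻¹ * x ∈ Stab then 1 else 0 := by
          intro x
          rw [Set.indicator_apply]
          simp only [hiff x]
        simp_rw [h1]
        rw [Finset.sum_boole]
        congr 1
        rw [Nat.card_eq_fintype_card, ← Finset.card_univ (α := Stab)]
        symm
        refine Finset.card_bij (fun s _ => x₀ * (s : P)) ?_ ?_ ?_
        · intro s _
          rw [Finset.mem_filter]
          refine ⟨Finset.mem_univ _, ?_⟩
          rw [inv_mul_cancel_left]
          exact s.2
        · intro s _ s' _ h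
          exact Subtype.ext (mul_left_cancel h)
        · intro x hx
          rw [Finset.mem_filter] at hx
          exact ⟨⟨x₀⁻¹ * x, hx.2⟩, Finset.mem_univ _, by simp⟩
      · rw [Set.indicator_of_notMem hθ, mul_zero]
        refine Finset.sum_eq_zero fun x _ => ?_
        rw [Set.indicator_of_notMem]
        intro hx
        exact hθ (Set.mem_iUnion.mpr ⟨x, hx⟩)
  have hval : ∑ x : P, blockCoeff (x • f) ⟨(c : G), hCK c.2⟩ =
      (Nat.card Stab : ℂ) * blockCoeff (orbitUnion K P hPK f) ⟨(c : G), hCK c.2⟩ :=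
    congrFun hid ⟨(c : G), hCK c.2⟩
  have h2 : ∀ x : P, blockCoeff (x • f) ⟨(c : G), hCK c.2⟩ = blockCoeff f ⟨(c : G), hCK c.2⟩ := by
    intro x
    rw [hsmul, blockCoeff_mapBlock]
    congr 1
    apply Subtype.ext
    rw [conjEquiv_apply]
    have := Subgroup.mem_centralizer_iff.mp c.2 (x : G) x.2
    calc (x : G)⁻¹ * (c : G) * (x : G) = (x : G)⁻¹ * ((c : G) * (x : G)) := by group
      _ = (x : G)⁻¹ * ((x : G) * (c : G)) := by rw [this]
      _ = (c : G) := by group
  rw [Finset.sum_congr rfl (fun x _ => h2 x), Finset.sum_const, Finset.card_univ,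
    nsmul_eq_mul, ← Nat.card_eq_fintype_card, ← hcard] at hval
  rw [rs_apply hCK]
  have hS0 : (Nat.card Stab : ℂ) ≠ 0 := by
    rw [Nat.cast_ne_zero]
    exact Nat.card_pos.ne'
  have h3 : blockCoeff (orbitUnion K P hPK f) ⟨(c : G), hCK c.2⟩ =
      ((p ^ n : ℕ) : ℂ) * blockCoeff f ⟨(c : G), hCK c.2⟩ := by
    have h4 : (Nat.card Stab : ℂ) * blockCoeff (orbitUnion K P hPK f) ⟨(c : G), hCK c.2⟩ =
        (Nat.card Stab : ℂ) * (((p ^ n : ℕ) : ℂ) * blockCoeff f ⟨(c : G), hCK c.2⟩) := by
      rw [← hval]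
      push_cast
      ring
    exact mul_left_cancel₀ hS0 h4
  rw [h3]
  refine memLocalIdeal_mul_right hMp ?_ (osima_block' hMp hf _)
  rw [memLocalIdeal_natCast_iff hM]
  exact dvd_pow_self p hn1

end Orbit

section Exists

variable [Fintype G] [Fact p.Prime] {K P : Subgroup G}

/-- Existence of a `P`-stable block below a given stable closed set. -/
theorem exists_stable_block_of_not_mem (hM : IsPModular p M) (hP : IsPGroup p P)
    (hPK : P ≤ Subgroup.normalizer (K : Set G))
    (hCK : Subgroup.centralizer (P : Set G) ≤ K)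
    (ξ : IrrCharacter (Subgroup.centralizer (P : Set G))) :
    ∀ (n : ℕ) (S : Set (IrrCharacter K)), S.ncard = n → Closed M S → PStable K P S →
      ¬ MemLocalIdeal M (lam P K S (ξ : Subgroup.centralizer (P : Set G) → ℂ)) →
      ∃ f : Set (IrrCharacter K), f ⊆ S ∧ IsPBlock M f ∧ PStable K P f ∧
        ¬ MemLocalIdeal M (lam P K f (ξ : Subgroup.centralizer (P : Set G) → ℂ)) := by
  classical
  have := Fintype.ofFinite (Subgroup.centralizer (P : Set G))
  have hMp := isPrime_of_isPModular hM
  have hcK := Cfsg.Agent.Lib.Helper78_CharFacts.charFacts (G := K)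
  have hfin := hcK.finite
  intro n
  induction n using Nat.strong_induction_on with
  | _ n ih =>
    intro S hn hS hSP hlam
    have hne : S.Nonempty := by
      by_contra h
      rw [Set.not_nonempty_iff_eq_empty] at h
      rw [h, lam_empty] at hlam
      exact hlam (memLocalIdeal_zero hMp)
    obtain ⟨θ, hθ⟩ := hne
    set f := blockOf M (θ : K → ℂ) with hf_def
    have hf : IsPBlock M f := isPBlock_blockOf θ
    have hfS : f ⊆ S := fun ψ hψ => hS θ hθ ψ hψ
    set O := orbitUnion K P hPK f with hO_def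
    have hOS : O ⊆ S := by
      intro ψ hψ
      obtain ⟨x, hx⟩ := Set.mem_iUnion.mp hψ
      obtain ⟨χ, hχ, rfl⟩ := hx
      have := mapBlock_eq_of_pstable hPK hSP x.2
      rw [← this]
      exact irrComp_mem_mapBlock _ (hfS hχ)
    have hOc : Closed M O := closed_orbitUnion hPK hMp hf
    have hOP : PStable K P O := pstable_orbitUnion hPK f
    have hTc : Closed M (S \ O) := closed_diff hMp hS hOc
    have hTP : PStable K P (S \ O) := pstable_diff hPK hSP hOP
    have hunion : S = O ∪ (S \ O) := (Set.union_sdiff_cancel hOS).symm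
    have hdisj : Disjoint O (S \ O) := Set.disjoint_sdiff_right
    have hsum := lam_union (P := P) hdisj (ξ : Subgroup.centralizer (P : Set G) → ℂ)
    rw [← hunion] at hsum
    by_cases hT : MemLocalIdeal M (lam P K (S \ O) (ξ : Subgroup.centralizer (P : Set G) → ℂ))
    · -- `lam O ∉ m`
      have hO : ¬ MemLocalIdeal M (lam P K O (ξ : Subgroup.centralizer (P : Set G) → ℂ)) := by
        intro hO
        apply hlam
        rw [hsum]
        exact memLocalIdeal_add hMp hO hT
      have hfP : PStable K P f := by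
        by_contra hns
        apply hO
        rw [lam_eq_omega]
        exact memLocalIdeal_omega_of_pointwise hMp ξ.2 (rs_isClassFunction hCK O)
          (fun c => rs_orbitUnion_mem hPK hM hP hCK hf hns c)
      have hOf : O = f := by
        apply Set.Subset.antisymm
        · intro ψ hψ
          obtain ⟨x, hx⟩ := Set.mem_iUnion.mp hψ
          rwa [(pstable_iff_smul hPK).mp hfP x] at hx
        · exact subset_orbitUnion hPK f
      rw [hOf] at hO
      exact ⟨f, hfS, hf, hfP, hO⟩
    · -- induction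
      have hlt : (S \ O).ncard < n := by
        rw [← hn]
        apply Set.ncard_lt_ncard _ (Set.toFinite S)
        refine ⟨Set.sdiff_subset, fun h => ?_⟩
        have : θ ∈ S \ O := h hθ
        exact this.2 (subset_orbitUnion hPK f (mem_blockOf_self hMp θ))
      obtain ⟨f', hf'S, hf', hf'P, hf'lam⟩ := ih _ hlt (S \ O) rfl hTc hTP hT
      exact ⟨f', fun ψ hψ => (hf'S hψ).1, hf', hf'P, hf'lam⟩

/-- Existence of a `P`-stable block `f` of `K` with `lam f ≡ 1`. -/
theorem exists_stable_block (hM : IsPModular p M) (hP : IsPGroup p P)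
    (hPK : P ≤ Subgroup.normalizer (K : Set G))
    (hCK : Subgroup.centralizer (P : Set G) ≤ K)
    (ξ : IrrCharacter (Subgroup.centralizer (P : Set G))) :
    ∃ f : Set (IrrCharacter K), IsPBlock M f ∧ PStable K P f ∧
      MemLocalIdeal M (lam P K f (ξ : Subgroup.centralizer (P : Set G) → ℂ) - 1) := by
  have hMp := isPrime_of_isPModular hM
  obtain ⟨f, -, hf, hfP, hlam⟩ := exists_stable_block_of_not_mem hM hP hPK hCK ξ _ Set.univ rfl
    closed_univ (pstable_univ K P hPK) (by
      rw [lam_univ hCK ξ]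
      exact not_memLocalIdeal_one hMp)
  refine ⟨f, hf, hfP, ?_⟩
  rcases lam_dichotomy hM hP hPK hCK (closed_of_isPBlock hMp hf) hfP ξ with h | h
  · exact absurd h hlam
  · exact h

/-- Uniqueness of the `P`-stable block `f` of `K` with `lam f ≡ 1`. -/
theorem stable_block_unique (hM : IsPModular p M) (hP : IsPGroup p P)
    (hPK : P ≤ Subgroup.normalizer (K : Set G))
    (hCK : Subgroup.centralizer (P : Set G) ≤ K)
    (ξ : IrrCharacter (Subgroup.centralizer (P : Set G)))
    {f f' : Set (IrrCharacter K)} (hf : IsPBlock M f) (hf' : IsPBlock M f')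
    (hfP : PStable K P f) (hf'P : PStable K P f')
    (h : MemLocalIdeal M (lam P K f (ξ : Subgroup.centralizer (P : Set G) → ℂ) - 1))
    (h' : MemLocalIdeal M (lam P K f' (ξ : Subgroup.centralizer (P : Set G) → ℂ) - 1)) :
    f = f' := by
  have hMp := isPrime_of_isPModular hM
  by_contra hne
  have hd : f ∩ f' = ∅ := by
    rw [← Set.disjoint_iff_inter_eq_empty]
    exact isPBlock_disjoint_of_ne hMp hf hf' hne
  have h1 := lam_inter hM hP hPK hCK (closed_of_isPBlock hMp hf) (closed_of_isPBlock hMp hf')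
    hfP hf'P ξ
  rw [hd, lam_empty, zero_sub] at h1
  have hR' := memLocalRing_lam (P := P) hMp hCK (closed_of_isPBlock hMp hf') ξ
  set a := lam P K f (ξ : Subgroup.centralizer (P : Set G) → ℂ) with ha
  set b := lam P K f' (ξ : Subgroup.centralizer (P : Set G) → ℂ) with hb
  have h2 : MemLocalIdeal M ((a - 1) * b) := memLocalIdeal_mul_right hMp h hR'
  have h3 := memLocalIdeal_add hMp (memLocalIdeal_add hMp h1 h2) h'
  have h4 : -(a * b) + (a - 1) * b + (b - 1) = -1 := by ring
  rw [h4] at h3
  have h5 := memLocalIdeal_neg h3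
  rw [neg_neg] at h5
  exact not_memLocalIdeal_one hMp h5

end Exists

/-- **S4656**: for a Brauer pair `(P, e)` and `Q` normal in `P` there is exactly one block `f` of
`C_G(Q)` with `(Q, f)` normally below `(P, e)`. -/
theorem existsUnique_isNormalSubpair [Fintype G] [Fact p.Prime] (hM : IsPModular p M) (P Q : Subgroup G)
    (e : Set (IrrCharacter (Subgroup.centralizer (P : Set G))))
    (hPe : IsBrauerPair p M P e) (hQP : Q ≤ P) (hPN : P ≤ Subgroup.normalizer (Q : Set G)) :
    ∃! f : Set (IrrCharacter (Subgroup.centralizer (Q : Set G))),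
      IsNormalSubpair p M Q f P e := by
  have hMp := isPrime_of_isPModular hM
  have hP := hPe.1
  have hPK : P ≤ Subgroup.normalizer
      ((Subgroup.centralizer (Q : Set G) : Subgroup G) : Set G) :=
    fun x hx => normalizer_le_normalizer_centralizer Q (hPN hx)
  have hCK : Subgroup.centralizer (P : Set G) ≤ Subgroup.centralizer (Q : Set G) :=
    Subgroup.centralizer_le hQP
  obtain ⟨ξ, hξ⟩ := isPBlock_nonempty hMp hPe.2
  obtain ⟨f, hf, hfP, hlam⟩ := exists_stable_block hM hP hPK hCK ξ
  have hfc := closed_of_isPBlock hMp hf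
  refine ⟨f, ⟨⟨hP.to_le hQP, hf⟩, hPe, hQP, hPN, hfP, fun ξ' hξ' => ?_⟩, ?_⟩
  · have h1 := lam_sameBlock (P := P) hMp hCK hfc (isPBlock_sameBlock hMp hPe.2 hξ' hξ)
    have h2 := memLocalIdeal_add hMp h1 hlam
    rwa [sub_add_sub_cancel] at h2
  · rintro f' ⟨hQf', -, -, -, hf'P, hlam'⟩
    exact (stable_block_unique hM hP hPK hCK ξ hf hQf'.2 hfP hf'P hlam (hlam' ξ hξ)).symm

end Cfsg.Agent.Lib.Helper78_SubpairNormal
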