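import Mathlib
import Cfsg.Prelude.Def_Blocks
import Cfsg.Prelude.Def_BlockLocal
import Cfsg.Prelude.Def_BrauerPairs
import Cfsg.Agent.Lib.Helper78_LocalRing
import Cfsg.Agent.Lib.Helper78_CentralChar
import Cfsg.Agent.Lib.Helper78_Osima
import Cfsg.Agent.Lib.Helper78_CharFacts
import Cfsg.Agent.Lib.Helper78_AlgHom
import Cfsg.Agent.Lib.Helper78_BrauerMap
import Cfsg.Agent.Lib.Helper78_BrDecomp
import Cfsg.Agent.Lib.Helper78_ExtConv
import Cfsg.Agent.Lib.Helper78_SecondMain
import Cfsg.Agent.Lib.Helper78_BrauerPairs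
import Cfsg.Agent.Lib.Helper78_Transport
import Cfsg.Agent.Lib.Helper78_TransportBlocks
import Cfsg.Agent.Lib.Helper78_NilpotentPrincipal
import Cfsg.Agent.Lib.Helper78_BrauerCorr
import Cfsg.Agent.Lib.Helper78_SubpairBasic
import Cfsg.Agent.Lib.Helper78_SubpairNormal

/-!
# Transitivity of the Brauer map on stable idempotents (helper78, S4658)

For a function `φ` on `G` with local-integer values which is idempotent for convolution and
invariant under conjugation by a `p`-subgroup `R` and by `C_G(R)`, `brSet R φ` is the set of the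
irreducible characters of `C_G(R)` whose central character takes the value `1` (modulo the ideal)
on the Brauer-map image of `φ` at `R`.  It is closed, the Brauer-map image of `φ` is congruent to
its idempotent, and Brauer maps at larger `p`-subgroups `P ≥ R` normalizing `R` factor through it.
-/

set_option autoImplicit false
set_option linter.unusedSectionVars false

namespace Cfsg.Agent.Lib.Helper78_SubpairTrans

open Cfsg Cfsg.Agent.Lib.Helper78_LocalRing Cfsg.Agent.Lib.Helper78_CentralChar
  Cfsg.Agent.Lib.Helper78_Osima Cfsg.Agent.Lib.Helper78_CharFacts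
  Cfsg.Agent.Lib.Helper78_AlgHom
  Cfsg.Agent.Lib.Helper78_BrauerMap Cfsg.Agent.Lib.Helper78_BrDecomp
  Cfsg.Agent.Lib.Helper78_ExtConv Cfsg.Agent.Lib.Helper78_SecondMain
  Cfsg.Agent.Lib.Helper78_BrauerPairs Cfsg.Agent.Lib.Helper78_Transport
  Cfsg.Agent.Lib.Helper78_TransportBlocks Cfsg.Agent.Lib.Helper78_NilpotentPrincipal
  Cfsg.Agent.Lib.Helper78_BrauerCorr
  Cfsg.Agent.Lib.Helper78_SubpairBasic Cfsg.Agent.Lib.Helper78_SubpairNormal

universe u

variable {G : Type u} [Group G] {M : Ideal AlgInt} {p : ℕ}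

/-- The irreducible characters of `C_G(R)` occurring in the Brauer-map image of `φ` at `R`. -/
def brSet (M : Ideal AlgInt) (R : Subgroup G) [Fintype (Subgroup.centralizer (R : Set G))]
    (φ : G → ℂ) : Set (IrrCharacter (Subgroup.centralizer (R : Set G))) :=
  {ζ | MemLocalIdeal M (omega (ζ : Subgroup.centralizer (R : Set G) → ℂ)
    (res (Subgroup.centralizer (R : Set G)) φ) - 1)}

section BrSet

variable [Fintype G] {R : Subgroup G} [Fintype (Subgroup.centralizer (R : Set G))] {φ : G → ℂ}

theorem res_isClassFunction_of_invariant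
    (hφC : ∀ y ∈ Subgroup.centralizer (R : Set G), ∀ g, φ (y * g * y⁻¹) = φ g) :
    IsClassFunction (Subgroup.centralizer (R : Set G))
      (res (Subgroup.centralizer (R : Set G)) φ) :=
  res_isClassFunction _ hφC

theorem res_idem (hM : IsPModular p M) (hR : IsPGroup p R)
    (hφR : ∀ g, MemLocalRing M (φ g))
    (hφinv : ∀ q ∈ R, ∀ g, φ (q * g * q⁻¹) = φ g) (hφi : conv φ φ = φ)
    (c : Subgroup.centralizer (R : Set G)) :
    MemLocalIdeal M (conv (res (Subgroup.centralizer (R : Set G)) φ)
      (res (Subgroup.centralizer (R : Set G)) φ) c -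
        res (Subgroup.centralizer (R : Set G)) φ c) := by
  have h := res_conv_mem hM R hR hφinv hφinv hφR hφR c
  rw [hφi] at h
  have := memLocalIdeal_neg h
  rwa [neg_sub] at this

theorem omega_res_dichotomy (hM : IsPModular p M) (hR : IsPGroup p R)
    (hφR : ∀ g, MemLocalRing M (φ g))
    (hφinv : ∀ q ∈ R, ∀ g, φ (q * g * q⁻¹) = φ g)
    (hφC : ∀ y ∈ Subgroup.centralizer (R : Set G), ∀ g, φ (y * g * y⁻¹) = φ g)
    (hφi : conv φ φ = φ) (ζ : IrrCharacter (Subgroup.centralizer (R : Set G))) :
    MemLocalIdeal M (omega (ζ : Subgroup.centralizer (R : Set G) → ℂ)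
        (res (Subgroup.centralizer (R : Set G)) φ) -
      (brSet M R φ).indicator (fun _ => (1 : ℂ)) ζ) := by
  classical
  have hMp := isPrime_of_isPModular hM
  by_cases hζ : ζ ∈ brSet M R φ
  · rw [Set.indicator_of_mem hζ]
    exact hζ
  · rw [Set.indicator_of_notMem hζ, sub_zero]
    rcases omega_idem_dichotomy hMp (res_isClassFunction_of_invariant hφC)
      (res_memLocalRing _ hφR) (res_idem hM hR hφR hφinv hφi) ζ.2 with h | h
    · exact h
    · exact absurd h hζ

theorem closed_brSet (hM : M.IsPrime)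
    (hφR : ∀ g, MemLocalRing M (φ g))
    (hφC : ∀ y ∈ Subgroup.centralizer (R : Set G), ∀ g, φ (y * g * y⁻¹) = φ g) :
    Closed M (brSet M R φ) := by
  intro χ hχ ψ hsb
  have h1 := memLocalIdeal_omega_sub hM (isIrrCharacter_isClassFunction χ.2)
    (isIrrCharacter_isClassFunction ψ.2) hsb (res_isClassFunction_of_invariant hφC)
    (res_memLocalRing _ hφR)
  have h2 := memLocalIdeal_sub hM hχ h1
  have h3 : omega (χ : Subgroup.centralizer (R : Set G) → ℂ)
        (res (Subgroup.centralizer (R : Set G)) φ) - 1 -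
      (omega (χ : Subgroup.centralizer (R : Set G) → ℂ)
        (res (Subgroup.centralizer (R : Set G)) φ) -
        omega (ψ : Subgroup.centralizer (R : Set G) → ℂ)
          (res (Subgroup.centralizer (R : Set G)) φ)) =
      omega (ψ : Subgroup.centralizer (R : Set G) → ℂ)
        (res (Subgroup.centralizer (R : Set G)) φ) - 1 := by ring
  rw [h3] at h2
  exact h2

/-- The Brauer-map image of `φ` at `R` is congruent to the idempotent of `brSet R φ`. -/
theorem res_sub_blockCoeff_brSet (hM : IsPModular p M) (hR : IsPGroup p R)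
    (hφR : ∀ g, MemLocalRing M (φ g))
    (hφinv : ∀ q ∈ R, ∀ g, φ (q * g * q⁻¹) = φ g)
    (hφC : ∀ y ∈ Subgroup.centralizer (R : Set G), ∀ g, φ (y * g * y⁻¹) = φ g)
    (hφi : conv φ φ = φ) (c : Subgroup.centralizer (R : Set G)) :
    MemLocalIdeal M (res (Subgroup.centralizer (R : Set G)) φ c - blockCoeff (brSet M R φ) c) := by
  have hMp := isPrime_of_isPModular hM
  have hcC := Cfsg.Agent.Lib.Helper78_CharFacts.charFacts (G := Subgroup.centralizer (R : Set G))
  exact pointwise_of_omega_indicator hcC hMp (res_isClassFunction_of_invariant hφC)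
    (res_memLocalRing _ hφR) (res_idem hM hR hφR hφinv hφi) (brSet M R φ)
    (closed_brSet hMp hφR hφC)
    (fun ζ => omega_res_dichotomy hM hR hφR hφinv hφC hφi ζ) c

/-- `brSet R φ` is stable under the elements normalizing `R` and fixing `φ`. -/
theorem pstable_brSet {P : Subgroup G} (hPR : P ≤ Subgroup.normalizer (R : Set G))
    (hφP : ∀ q ∈ P, ∀ g, φ (q * g * q⁻¹) = φ g) :
    PStable (Subgroup.centralizer (R : Set G)) P (brSet M R φ) := by
  intro x hx
  have hxN : x ∈ Subgroup.normalizer
      ((Subgroup.centralizer (R : Set G) : Subgroup G) : Set G) :=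
    normalizer_le_normalizer_centralizer R (hPR hx)
  rw [stabilizesBlock_iff _ _ x hxN]
  rintro _ ⟨ζ, hζ, rfl⟩
  show MemLocalIdeal M (omega (irrComp (conjEquiv _ x hxN) ζ :
    Subgroup.centralizer (R : Set G) → ℂ) (res (Subgroup.centralizer (R : Set G)) φ) - 1)
  have h1 : res (Subgroup.centralizer (R : Set G)) φ =
      res (Subgroup.centralizer (R : Set G)) φ ∘ (conjEquiv _ x hxN) := by
    funext c
    show φ (c : G) = φ ((conjEquiv _ x hxN c : Subgroup.centralizer (R : Set G)) : G)
    rw [conjEquiv_apply]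
    have := hφP x⁻¹ (P.inv_mem hx) (c : G)
    rw [inv_inv] at this
    exact this.symm
  have h2 : (irrComp (conjEquiv _ x hxN) ζ : Subgroup.centralizer (R : Set G) → ℂ) =
      (ζ : Subgroup.centralizer (R : Set G) → ℂ) ∘ (conjEquiv _ x hxN) := rfl
  rw [h1, h2, omega_comp]
  exact hζ

/-- Brauer maps at `P ≥ R` factor through the Brauer map at `R`. -/
theorem omega_res_sub_lam (hM : IsPModular p M) (hR : IsPGroup p R) {P : Subgroup G}
    [Fintype (Subgroup.centralizer (P : Set G))] (hRP : R ≤ P)
    (hφR : ∀ g, MemLocalRing M (φ g))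
    (hφinv : ∀ q ∈ R, ∀ g, φ (q * g * q⁻¹) = φ g)
    (hφC : ∀ y ∈ Subgroup.centralizer (R : Set G), ∀ g, φ (y * g * y⁻¹) = φ g)
    (hφi : conv φ φ = φ) (ξ : IrrCharacter (Subgroup.centralizer (P : Set G))) :
    MemLocalIdeal M (omega (ξ : Subgroup.centralizer (P : Set G) → ℂ)
        (res (Subgroup.centralizer (P : Set G)) φ) -
      lam P (Subgroup.centralizer (R : Set G)) (brSet M R φ)
        (ξ : Subgroup.centralizer (P : Set G) → ℂ)) := by
  have hMp := isPrime_of_isPModular hM
  have hCK : Subgroup.centralizer (P : Set G) ≤ Subgroup.centralizer (R : Set G) :=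
    Subgroup.centralizer_le hRP
  rw [lam_eq_omega, ← omega_sub]
  refine memLocalIdeal_omega_of_pointwise hMp ξ.2 ?_ ?_
  · refine sub_isClassFunction (res_isClassFunction _ (fun y hy g => hφC y (hCK hy) g))
      (rs_isClassFunction hCK _)
  · intro c
    show MemLocalIdeal M (φ (c : G) - rs P (Subgroup.centralizer (R : Set G)) (brSet M R φ) c)
    rw [rs_apply hCK]
    exact res_sub_blockCoeff_brSet hM hR hφR hφinv hφC hφi ⟨(c : G), hCK c.2⟩

end BrSet

/-! ### Normal inclusion and blocks -/

section NormalStep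

variable [Fintype G] [Fact p.Prime]

/-- Along a normal inclusion `(Q, f) ⊴ (P, e)`, `(P, e)` is a Brauer pair of `B` iff `(Q, f)`
is. -/
theorem isBrauerPairOf_iff_of_isNormalSubpair (hM : IsPModular p M) {P Q : Subgroup G}
    {e : Set (IrrCharacter (Subgroup.centralizer (P : Set G)))}
    {f : Set (IrrCharacter (Subgroup.centralizer (Q : Set G)))}
    (h : IsNormalSubpair p M Q f P e) {B : Set (IrrCharacter G)} (hB : IsPBlock M B) :
    IsBrauerPairOf p M B P e ↔ IsBrauerPairOf p M B Q f := by
  classical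
  have := Fintype.ofFinite (Subgroup.centralizer (P : Set G))
  have := Fintype.ofFinite (Subgroup.centralizer (Q : Set G))
  have hMp := isPrime_of_isPModular hM
  have hcG := Cfsg.Agent.Lib.Helper78_CharFacts.charFacts (G := G)
  obtain ⟨hQf, hPe, hQP, hPN, hfP, hlam⟩ := h
  have hP := hPe.1
  have hQ := hQf.1
  have hPK : P ≤ Subgroup.normalizer
      ((Subgroup.centralizer (Q : Set G) : Subgroup G) : Set G) :=
    fun x hx => normalizer_le_normalizer_centralizer Q (hPN hx)
  have hCK : Subgroup.centralizer (P : Set G) ≤ Subgroup.centralizer (Q : Set G) :=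
    Subgroup.centralizer_le hQP
  have hec : IsClassFunction G (blockCoeff B) := blockCoeff_isClassFunction _
  have heR : ∀ g, MemLocalRing M (blockCoeff B g) := osima_block hcG hMp hB
  have hinv : ∀ (q : G) (g : G), blockCoeff B (q * g * q⁻¹) = blockCoeff B g :=
    fun q g => hec g q
  have hidem : conv (blockCoeff B) (blockCoeff B) = blockCoeff B := conv_blockCoeff_self hcG B
  set S := brSet M Q (blockCoeff B) with hS
  have hSc : Closed M S := closed_brSet hMp heR (fun y _ g => hinv y g)
  have hSP : PStable (Subgroup.centralizer (Q : Set G)) P S :=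
    pstable_brSet hPN (fun q _ g => hinv q g)
  have hfc : Closed M f := closed_of_isPBlock hMp hQf.2
  obtain ⟨ξ₀, hξ₀⟩ := isPBlock_nonempty hMp hPe.2
  -- the two conditions
  have hQiff : IsBrauerPairOf p M B Q f ↔ f ⊆ S := by
    constructor
    · intro hpair θ hθ
      have := hpair.2.2 θ hθ
      rw [brauerOmega_eq_omega] at this
      exact this
    · intro hsub
      refine ⟨hQf, hB, fun θ hθ => ?_⟩
      rw [brauerOmega_eq_omega]
      exact hsub hθ
  have hfac : ∀ ξ : IrrCharacter (Subgroup.centralizer (P : Set G)),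
      MemLocalIdeal M (brauerOmega P (blockCoeff B) (ξ : Subgroup.centralizer (P : Set G) → ℂ) -
        lam P (Subgroup.centralizer (Q : Set G)) S
          (ξ : Subgroup.centralizer (P : Set G) → ℂ)) := by
    intro ξ
    rw [brauerOmega_eq_omega]
    exact omega_res_sub_lam hM hQ hQP heR (fun q _ g => hinv q g) (fun y _ g => hinv y g) hidem ξ
  have hmul := lam_inter hM hP hPK hCK hfc hSc hfP hSP
  rw [hQiff]
  constructor
  · intro hpair
    rcases block_subset_or_disjoint hMp hQf.2 hSc with hsub | hdis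
    · exact hsub
    · exfalso
      have h1 := hmul ξ₀
      rw [Set.disjoint_iff_inter_eq_empty.mp hdis, lam_empty, zero_sub] at h1
      have h2 := hpair.2.2 ξ₀ hξ₀
      have h3 := memLocalIdeal_sub hMp h2 (hfac ξ₀)
      rw [sub_sub_sub_cancel_left] at h3
      -- `lam S ≡ 1`, `lam f ≡ 1`, `lam f * lam S ≡ 0`
      set a := lam P (Subgroup.centralizer (Q : Set G)) f
        (ξ₀ : Subgroup.centralizer (P : Set G) → ℂ) with ha
      set b := lam P (Subgroup.centralizer (Q : Set G)) S
        (ξ₀ : Subgroup.centralizer (P : Set G) → ℂ) with hb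
      have h4 : MemLocalIdeal M (a - 1) := hlam ξ₀ hξ₀
      have hbR : MemLocalRing M b := memLocalRing_lam hMp hCK hSc ξ₀
      have h5 : MemLocalIdeal M ((a - 1) * b) := memLocalIdeal_mul_right hMp h4 hbR
      have h6 := memLocalIdeal_add hMp (memLocalIdeal_add hMp h1 h5) h3
      have h7 : -(a * b) + (a - 1) * b + (b - 1) = -1 := by ring
      rw [h7] at h6
      have h8 := memLocalIdeal_neg h6
      rw [neg_neg] at h8
      exact not_memLocalIdeal_one hMp h8
  · intro hsub
    refine ⟨hPe, hB, fun ξ hξ => ?_⟩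
    have h1 := hmul ξ
    rw [Set.inter_eq_left.mpr hsub] at h1
    set a := lam P (Subgroup.centralizer (Q : Set G)) f
      (ξ : Subgroup.centralizer (P : Set G) → ℂ) with ha
    set b := lam P (Subgroup.centralizer (Q : Set G)) S
      (ξ : Subgroup.centralizer (P : Set G) → ℂ) with hb
    have h4 : MemLocalIdeal M (a - 1) := hlam ξ hξ
    have hbR : MemLocalRing M b := memLocalRing_lam hMp hCK hSc ξ
    -- `a ≡ a b`, `a ≡ 1` hence `b ≡ 1`
    have h5 : MemLocalIdeal M ((a - 1) * b) := memLocalIdeal_mul_right hMp h4 hbR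
    have h6 := memLocalIdeal_sub hMp (memLocalIdeal_sub hMp h4 h1) h5
    have h7 : (a - 1) - (a - a * b) - (a - 1) * b = b - 1 := by ring
    rw [h7] at h6
    have h8 := memLocalIdeal_add hMp (hfac ξ) h6
    rwa [sub_add_sub_cancel] at h8

/-- **S4658**: if `(Q, f) ≤ (P, e)`, then `(P, e)` is a Brauer pair of `B` iff `(Q, f)` is. -/
theorem isBrauerPairOf_iff_of_subpairLE (hM : IsPModular p M) {P Q : Subgroup G}
    {e : Set (IrrCharacter (Subgroup.centralizer (P : Set G)))}
    {f : Set (IrrCharacter (Subgroup.centralizer (Q : Set G)))}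
    (hle : SubpairLE p M Q f P e) {B : Set (IrrCharacter G)} (hB : IsPBlock M B) :
    IsBrauerPairOf p M B P e ↔ IsBrauerPairOf p M B Q f := by
  have key : ∀ a b : BrauerPairIdx G, Relation.ReflTransGen (NormalSubpairRel p M) a b →
      (IsBrauerPairOf p M B b.1 b.2 ↔ IsBrauerPairOf p M B a.1 a.2) := by
    intro a b hab
    induction hab with
    | refl => exact Iff.rfl
    | tail _ hbc ih => exact (isBrauerPairOf_iff_of_isNormalSubpair hM hbc hB).trans ih
  exact key ⟨Q, f⟩ ⟨P, e⟩ hle

end NormalStep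

end Cfsg.Agent.Lib.Helper78_SubpairTrans
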