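import Mathlib
import Cfsg.Prelude.Def_Blocks
import Cfsg.Prelude.Def_BlockLocal
import Cfsg.Prelude.Def_BrauerPairs
import Cfsg.Agent.Lib.Helper78_LocalRing
import Cfsg.Agent.Lib.Helper78_CentralChar
import Cfsg.Agent.Lib.Helper78_Osima
import Cfsg.Agent.Lib.Helper78_CharFacts
import Cfsg.Agent.Lib.Helper78_AlgHom
import Cfsg.Agent.Lib.Helper78_BrauerMap
import Cfsg.Agent.Lib.Helper78_BrDecomp
import Cfsg.Agent.Lib.Helper78_ExtConv
import Cfsg.Agent.Lib.Helper78_SecondMain
import Cfsg.Agent.Lib.Helper78_BrauerPairs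
import Cfsg.Agent.Lib.Helper78_Transport
import Cfsg.Agent.Lib.Helper78_TransportBlocks
import Cfsg.Agent.Lib.Helper78_NilpotentPrincipal
import Cfsg.Agent.Lib.Helper78_BrauerCorr
import Cfsg.Agent.Lib.Helper78_SubpairBasic
import Cfsg.Agent.Lib.Helper78_SubpairNormal
import Cfsg.Agent.Lib.Helper78_SubpairTrans
import Cfsg.Agent.Lib.Helper78_MinMax
import Cfsg.Agent.Lib.Helper78_Defect
import Cfsg.Agent.Lib.Helper78_FirstMainGT
import Cfsg.Agent.Lib.Helper78_FirstMain

/-!
# Maximal Brauer pairs and defect groups (helper78, S4659)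

The subgroup of a maximal Brauer pair of a block is a defect group of the block.
-/

set_option autoImplicit false
set_option linter.unusedSectionVars false

namespace Cfsg.Agent.Lib.Helper78_MaxPair

open Cfsg Cfsg.Agent.Lib.Helper78_LocalRing Cfsg.Agent.Lib.Helper78_CentralChar
  Cfsg.Agent.Lib.Helper78_Osima Cfsg.Agent.Lib.Helper78_CharFacts
  Cfsg.Agent.Lib.Helper78_AlgHom
  Cfsg.Agent.Lib.Helper78_BrauerMap Cfsg.Agent.Lib.Helper78_BrDecomp
  Cfsg.Agent.Lib.Helper78_ExtConv Cfsg.Agent.Lib.Helper78_SecondMain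
  Cfsg.Agent.Lib.Helper78_BrauerPairs Cfsg.Agent.Lib.Helper78_Transport
  Cfsg.Agent.Lib.Helper78_TransportBlocks Cfsg.Agent.Lib.Helper78_NilpotentPrincipal
  Cfsg.Agent.Lib.Helper78_BrauerCorr
  Cfsg.Agent.Lib.Helper78_SubpairBasic Cfsg.Agent.Lib.Helper78_SubpairNormal
  Cfsg.Agent.Lib.Helper78_SubpairTrans Cfsg.Agent.Lib.Helper78_MinMax
  Cfsg.Agent.Lib.Helper78_Defect Cfsg.Agent.Lib.Helper78_FirstMainGT
  Cfsg.Agent.Lib.Helper78_FirstMain

universe u

variable {G : Type u} [Group G] {M : Ideal AlgInt} {p : ℕ}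

/-! ### Orbits of a subgroup `N` on a subgroup `K` and regrouping of `omega` -/

/-- Conjugacy under the elements of `N`, as a relation on the subgroup `K`. -/
def orbSetoid (K N : Subgroup G) : Setoid K where
  r c c' := ∃ n ∈ N, n * (c : G) * n⁻¹ = (c' : G)
  iseqv := ⟨fun c => ⟨1, N.one_mem, by simp⟩,
    fun ⟨n, hn, h⟩ => ⟨n⁻¹, N.inv_mem hn, by rw [← h]; group⟩,
    fun ⟨n, hn, h⟩ ⟨m, hm, h'⟩ => ⟨m * n, N.mul_mem hm hn, by rw [← h', ← h]; group⟩⟩

/-- The indicator function of an orbit. -/
noncomputable def orbInd (K N : Subgroup G) (q : Quotient (orbSetoid K N)) : K → ℂ :=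
  fun c => by classical exact if (Quotient.mk (orbSetoid K N) c) = q then 1 else 0

theorem orbInd_isClassFunction {K N : Subgroup G} (hKN : K ≤ N) (q : Quotient (orbSetoid K N)) :
    IsClassFunction K (orbInd K N q) := by
  classical
  intro c k
  unfold orbInd
  have : Quotient.mk (orbSetoid K N) (k * c * k⁻¹) = Quotient.mk (orbSetoid K N) c := by
    apply Quotient.sound
    refine ⟨(k : G)⁻¹, N.inv_mem (hKN k.2), ?_⟩
    push_cast
    group
  rw [this]

theorem orbInd_memLocalRing (hM : M.IsPrime) (K N : Subgroup G) (q : Quotient (orbSetoid K N))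
    (c : K) : MemLocalRing M (orbInd K N q c) := by
  classical
  unfold orbInd
  split_ifs
  · exact memLocalRing_one hM
  · exact memLocalRing_zero hM

/-- Regrouping the value of `omega` on a function which is constant on orbits. -/
theorem omega_eq_sum_orbits {K N : Subgroup G} [Fintype K] [Fintype (Quotient (orbSetoid K N))]
    (ξ : K → ℂ) {a : K → ℂ}
    (ha : ∀ c c' : K, (orbSetoid K N).r c c' → a c = a c') :
    omega ξ a = ∑ q : Quotient (orbSetoid K N), a q.out * omega ξ (orbInd K N q) := by
  classical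
  unfold omega
  have h1 : ∀ q : Quotient (orbSetoid K N),
      a q.out * ((∑ c : K, orbInd K N q c * ξ c) / ξ 1) =
        (∑ c : K, a q.out * (orbInd K N q c * ξ c)) / ξ 1 := by
    intro q
    rw [← mul_div_assoc, Finset.mul_sum]
  rw [Finset.sum_congr rfl (fun q _ => h1 q), ← Finset.sum_div, Finset.sum_comm]
  congr 1
  refine Finset.sum_congr rfl fun c _ => ?_
  have h2 : ∀ q : Quotient (orbSetoid K N), a q.out * (orbInd K N q c * ξ c) =
      if q = Quotient.mk (orbSetoid K N) c then a c * ξ c else 0 := by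
    intro q
    unfold orbInd
    by_cases hq : q = Quotient.mk (orbSetoid K N) c
    · rw [if_pos hq, if_pos hq.symm, one_mul]
      congr 1
      apply ha
      have : Quotient.mk (orbSetoid K N) q.out = Quotient.mk (orbSetoid K N) c := by
        rw [Quotient.out_eq]
        exact hq
      exact Quotient.exact this
    · rw [if_neg hq, if_neg (fun h => hq h.symm), zero_mul, mul_zero]
  rw [Finset.sum_congr rfl (fun q _ => h2 q), Finset.sum_ite_eq' Finset.univ]
  simp

/-! ### Maximal pairs -/

theorem normalizer_le (P : Subgroup G) : Subgroup.normalizer (P : Set G) ≤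
    Subgroup.normalizer ((Subgroup.centralizer (P : Set G) : Subgroup G) : Set G) :=
  fun _ hx => normalizer_le_normalizer_centralizer P hx

theorem mapBlock_conjEquiv_congr (K : Subgroup G) {y y' : G} (h : y = y')
    (hy : y ∈ Subgroup.normalizer (K : Set G)) (hy' : y' ∈ Subgroup.normalizer (K : Set G))
    (S : Set (IrrCharacter K)) :
    mapBlock (conjEquiv K y hy) S = mapBlock (conjEquiv K y' hy') S := by
  subst h
  rfl

section Max

variable [Fintype G] [Fact p.Prime]

/-- If `(P, e)` is a maximal Brauer pair of `B`, the Brauer map at a strictly larger `p`-subgroup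
of the stabilizer of `e` kills the idempotent of `e`. -/
theorem rs_mem_of_maximal (hM : IsPModular p M) {B : Set (IrrCharacter G)} {P : Subgroup G}
    {e : Set (IrrCharacter (Subgroup.centralizer (P : Set G)))}
    (hmax : IsMaximalBrauerPair p M B P e) {R : Subgroup G} (hPR : P ≤ R) (hne : R ≠ P)
    (hR : IsPGroup p R) (hRN : R ≤ Subgroup.normalizer (P : Set G))
    (hRe : PStable (Subgroup.centralizer (P : Set G)) R e)
    (c : Subgroup.centralizer (R : Set G)) :
    MemLocalIdeal M (rs R (Subgroup.centralizer (P : Set G)) e c) := by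
  classical
  have := Fintype.ofFinite (Subgroup.centralizer (R : Set G))
  have := Fintype.ofFinite (Subgroup.centralizer (P : Set G))
  have hMp := isPrime_of_isPModular hM
  have hcR := Cfsg.Agent.Lib.Helper78_CharFacts.charFacts (G := Subgroup.centralizer (R : Set G))
  obtain ⟨hBe, hmax'⟩ := hmax
  have hPe := hBe.1
  have hB := hBe.2.1
  have hRK : R ≤ Subgroup.normalizer
      ((Subgroup.centralizer (P : Set G) : Subgroup G) : Set G) := hRN.trans (normalizer_le P)
  have hCK : Subgroup.centralizer (R : Set G) ≤ Subgroup.centralizer (P : Set G) :=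
    Subgroup.centralizer_le hPR
  have hec := closed_of_isPBlock hMp hPe.2
  by_contra hc
  have hex : ∃ ζ : IrrCharacter (Subgroup.centralizer (R : Set G)),
      ¬ MemLocalIdeal M (lam R (Subgroup.centralizer (P : Set G)) e
        (ζ : Subgroup.centralizer (R : Set G) → ℂ)) := by
    by_contra hall
    push Not at hall
    apply hc
    have hidem : ∀ g, MemLocalIdeal M
        (conv (rs R (Subgroup.centralizer (P : Set G)) e)
          (rs R (Subgroup.centralizer (P : Set G)) e) g -
            rs R (Subgroup.centralizer (P : Set G)) e g) := by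
      intro g
      have h1 := rs_inter hM hR hRK hec hec hRe hRe g
      rw [Set.inter_self] at h1
      have h2 := memLocalIdeal_neg h1
      rwa [neg_sub] at h2
    have h3 := pointwise_of_omega_indicator hcR hMp (rs_isClassFunction hCK e)
      (rs_memLocalRing hMp hCK hec) hidem ∅ closed_empty (fun ζ => by
        rw [Set.indicator_empty]
        show MemLocalIdeal M (omega (ζ : Subgroup.centralizer (R : Set G) → ℂ)
          (rs R (Subgroup.centralizer (P : Set G)) e) - 0)
        rw [sub_zero, ← lam_eq_omega]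
        exact hall ζ) c
    rw [Helper78_SubpairBasic.blockCoeff_empty, Pi.zero_apply, sub_zero] at h3
    exact h3
  obtain ⟨ζ, hζ⟩ := hex
  have h1 : MemLocalIdeal M (lam R (Subgroup.centralizer (P : Set G)) e
      (ζ : Subgroup.centralizer (R : Set G) → ℂ) - 1) :=
    (lam_dichotomy hM hR hRK hCK hec hRe ζ).resolve_left hζ
  have hsub : IsNormalSubpair p M P e R (blockOf M (ζ : Subgroup.centralizer (R : Set G) → ℂ)) := by
    refine ⟨hPe, ⟨hR, isPBlock_blockOf ζ⟩, hPR, hRN, hRe, fun ζ' hζ' => ?_⟩
    have h2 := lam_sameBlock (P := R) hMp hCK hec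
      (isPBlock_sameBlock hMp (isPBlock_blockOf ζ) hζ' (mem_blockOf_self hMp ζ))
    have h3 := memLocalIdeal_add hMp h2 h1
    rwa [sub_add_sub_cancel] at h3
  have hle : SubpairLE p M P e R (blockOf M (ζ : Subgroup.centralizer (R : Set G) → ℂ)) :=
    Relation.ReflTransGen.single hsub
  have hBR : IsBrauerPairOf p M B R (blockOf M (ζ : Subgroup.centralizer (R : Set G) → ℂ)) :=
    (isBrauerPairOf_iff_of_subpairLE hM hle hB).mpr hBe
  exact hne (hmax' R _ hBR hle)

/-- If `(P, e)` is maximal and the idempotent of the `N_G(P)`-orbit of `e` does not vanish at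
`c ∈ C_G(P)` (modulo the ideal), then `P` is a maximal `p`-subgroup of `N_G(P) ∩ C_G(c)`. -/
theorem max_of_blockCoeff_orbit (hM : IsPModular p M) {B : Set (IrrCharacter G)} {P : Subgroup G}
    {e : Set (IrrCharacter (Subgroup.centralizer (P : Set G)))}
    (hmax : IsMaximalBrauerPair p M B P e) (c : Subgroup.centralizer (P : Set G))
    (hc : ¬ MemLocalIdeal M (blockCoeff (orbitUnion (Subgroup.centralizer (P : Set G))
      (Subgroup.normalizer (P : Set G)) (normalizer_le P) e) c))
    (T : Subgroup G) (hT : IsPGroup p T) (hPT : P ≤ T)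
    (hTN : T ≤ Subgroup.normalizer (P : Set G))
    (hTc : T ≤ Subgroup.centralizer ({(c : G)} : Set G)) : T = P := by
  classical
  by_contra hne
  have := Fintype.ofFinite (Subgroup.centralizer (T : Set G))
  have := Fintype.ofFinite (Subgroup.centralizer (P : Set G))
  have hMp := isPrime_of_isPModular hM
  have hcT := Cfsg.Agent.Lib.Helper78_CharFacts.charFacts (G := Subgroup.centralizer (T : Set G))
  have hPe := hmax.1.1
  have he := hPe.2
  have hNK := normalizer_le P
  have hTK : T ≤ Subgroup.normalizer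
      ((Subgroup.centralizer (P : Set G) : Subgroup G) : Set G) := hTN.trans hNK
  have hCK : Subgroup.centralizer (T : Set G) ≤ Subgroup.centralizer (P : Set G) :=
    Subgroup.centralizer_le hPT
  have hOc : Closed M (orbitUnion (Subgroup.centralizer (P : Set G))
      (Subgroup.normalizer (P : Set G)) (normalizer_le P) e) := closed_orbitUnion hNK hMp he
  have hON : PStable (Subgroup.centralizer (P : Set G)) (Subgroup.normalizer (P : Set G))
      (orbitUnion (Subgroup.centralizer (P : Set G))
      (Subgroup.normalizer (P : Set G)) (normalizer_le P) e) := pstable_orbitUnion hNK e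
  have hOT : PStable (Subgroup.centralizer (P : Set G)) T
      (orbitUnion (Subgroup.centralizer (P : Set G))
      (Subgroup.normalizer (P : Set G)) (normalizer_le P) e) := fun x hx => hON x (hTN hx)
  have hcT' : (c : G) ∈ Subgroup.centralizer (T : Set G) := by
    rw [Subgroup.mem_centralizer_iff]
    intro t ht
    have h1 := hTc ht
    rw [Subgroup.mem_centralizer_iff] at h1
    exact (h1 (c : G) (Set.mem_singleton _)).symm
  have h1 : rs T (Subgroup.centralizer (P : Set G)) (orbitUnion (Subgroup.centralizer (P : Set G))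
      (Subgroup.normalizer (P : Set G)) (normalizer_le P) e) ⟨(c : G), hcT'⟩ =
      blockCoeff (orbitUnion (Subgroup.centralizer (P : Set G))
      (Subgroup.normalizer (P : Set G)) (normalizer_le P) e) c := by
    rw [rs_apply hCK]
  -- some `ζ` with `lam ∉ m`
  have hex : ∃ ζ : IrrCharacter (Subgroup.centralizer (T : Set G)),
      ¬ MemLocalIdeal M (lam T (Subgroup.centralizer (P : Set G))
        (orbitUnion (Subgroup.centralizer (P : Set G))
        (Subgroup.normalizer (P : Set G)) (normalizer_le P) e)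
        (ζ : Subgroup.centralizer (T : Set G) → ℂ)) := by
    by_contra hall
    push Not at hall
    apply hc
    have hidem : ∀ g, MemLocalIdeal M (conv (rs T (Subgroup.centralizer (P : Set G))
        (orbitUnion (Subgroup.centralizer (P : Set G))
        (Subgroup.normalizer (P : Set G)) (normalizer_le P) e))
        (rs T (Subgroup.centralizer (P : Set G)) (orbitUnion (Subgroup.centralizer (P : Set G))
        (Subgroup.normalizer (P : Set G)) (normalizer_le P) e)) g -
        rs T (Subgroup.centralizer (P : Set G)) (orbitUnion (Subgroup.centralizer (P : Set G))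
        (Subgroup.normalizer (P : Set G)) (normalizer_le P) e) g) := by
      intro g
      have h1 := rs_inter hM hT hTK hOc hOc hOT hOT g
      rw [Set.inter_self] at h1
      have h2 := memLocalIdeal_neg h1
      rwa [neg_sub] at h2
    have h3 := pointwise_of_omega_indicator hcT hMp (rs_isClassFunction hCK _)
      (rs_memLocalRing hMp hCK hOc) hidem ∅ closed_empty (fun ζ => by
        rw [Set.indicator_empty]
        show MemLocalIdeal M (omega (ζ : Subgroup.centralizer (T : Set G) → ℂ)
          (rs T (Subgroup.centralizer (P : Set G)) (orbitUnion (Subgroup.centralizer (P : Set G))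
        (Subgroup.normalizer (P : Set G)) (normalizer_le P) e)) - 0)
        rw [sub_zero, ← lam_eq_omega]
        exact hall ζ) ⟨(c : G), hcT'⟩
    rw [Helper78_SubpairBasic.blockCoeff_empty, Pi.zero_apply, sub_zero, h1] at h3
    exact h3
  obtain ⟨ζ, hζ⟩ := hex
  obtain ⟨f, hfO, hf, hfT, hflam⟩ :=
    exists_stable_block_of_not_mem hM hT hTK hCK ζ _ _ rfl hOc hOT hζ
  have hex2 : ∃ c' : Subgroup.centralizer (T : Set G),
      ¬ MemLocalIdeal M (rs T (Subgroup.centralizer (P : Set G)) f c') := by
    by_contra hall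
    push Not at hall
    apply hflam
    rw [lam_eq_omega]
    exact memLocalIdeal_omega_of_pointwise hMp ζ.2 (rs_isClassFunction hCK f) hall
  obtain ⟨c', hc'⟩ := hex2
  -- `f = x • e`
  obtain ⟨θ, hθ⟩ := isPBlock_nonempty hMp hf
  obtain ⟨x, hx⟩ := Set.mem_iUnion.mp (hfO hθ)
  have hfx : f = mapBlock (conjEquiv (Subgroup.centralizer (P : Set G)) (x : G) (hNK x.2)) e :=
    isPBlock_eq_of_mem_of_mem hMp hf (isPBlock_mapBlock _ he) hθ hx
  -- the conjugate subgroup
  have hR'p : IsPGroup p (T.map (MulAut.conj (x : G)⁻¹).toMonoidHom) := hT.map _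
  have hxP : ∀ y : G, y ∈ P ↔ (x : G) * y * (x : G)⁻¹ ∈ P :=
    fun y => Subgroup.mem_set_normalizer_iff.mp x.2 y
  have hPR' : P ≤ T.map (MulAut.conj (x : G)⁻¹).toMonoidHom := by
    intro y hy
    refine ⟨(x : G) * y * (x : G)⁻¹, hPT ((hxP y).mp hy), ?_⟩
    simp only [MulEquiv.coe_toMonoidHom, MulAut.conj_apply]
    group
  have hR'ne : T.map (MulAut.conj (x : G)⁻¹).toMonoidHom ≠ P := by
    intro h
    apply hne
    apply le_antisymm _ hPT
    intro t ht
    have h2 : (x : G)⁻¹ * t * (x : G) ∈ T.map (MulAut.conj (x : G)⁻¹).toMonoidHom :=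
      ⟨t, ht, by simp⟩
    rw [h] at h2
    have h3 := (hxP _).mp h2
    have h4 : (x : G) * ((x : G)⁻¹ * t * (x : G)) * (x : G)⁻¹ = t := by group
    rwa [h4] at h3
  have hR'N : T.map (MulAut.conj (x : G)⁻¹).toMonoidHom ≤ Subgroup.normalizer (P : Set G) := by
    rintro _ ⟨t, ht, rfl⟩
    simp only [MulEquiv.coe_toMonoidHom, MulAut.conj_apply, inv_inv]
    exact Subgroup.mul_mem _ (Subgroup.mul_mem _ (Subgroup.inv_mem _ x.2) (hTN ht)) x.2
  have hR'e : PStable (Subgroup.centralizer (P : Set G))
      (T.map (MulAut.conj (x : G)⁻¹).toMonoidHom) e := by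
    letI := setAction (Subgroup.centralizer (P : Set G)) (Subgroup.normalizer (P : Set G)) hNK
    rw [pstable_iff_smul (hR'N.trans hNK)]
    rintro ⟨y, hy⟩
    obtain ⟨t, ht, hty⟩ := hy
    have key : ((x⁻¹ * ⟨t, hTN ht⟩ * x : Subgroup.normalizer (P : Set G))) • e = e := by
      rw [mul_smul, mul_smul]
      have h5 : (⟨t, hTN ht⟩ : Subgroup.normalizer (P : Set G)) • (x • e) = x • e := by
        show mapBlock (conjEquiv (Subgroup.centralizer (P : Set G)) t _)
          (mapBlock (conjEquiv (Subgroup.centralizer (P : Set G)) (x : G) _) e) =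
          mapBlock (conjEquiv (Subgroup.centralizer (P : Set G)) (x : G) _) e
        rw [← hfx]
        exact mapBlock_eq_of_pstable hTK hfT ht
      rw [h5, ← mul_smul, inv_mul_cancel, one_smul]
    have h6 : y = (((x⁻¹ * ⟨t, hTN ht⟩ * x : Subgroup.normalizer (P : Set G))) : G) := by
      rw [← hty]
      simp only [MulEquiv.coe_toMonoidHom, MulAut.conj_apply, inv_inv]
      push_cast
      rfl
    show mapBlock (conjEquiv (Subgroup.centralizer (P : Set G)) y _) e = e
    rw [mapBlock_conjEquiv_congr (Subgroup.centralizer (P : Set G)) h6 _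
      (hNK (x⁻¹ * ⟨t, hTN ht⟩ * x : Subgroup.normalizer (P : Set G)).2)]
    exact key
  -- the conjugate element
  have hc'R : (x : G)⁻¹ * (c' : G) * (x : G) ∈
      Subgroup.centralizer ((T.map (MulAut.conj (x : G)⁻¹).toMonoidHom : Subgroup G) : Set G) := by
    rw [Subgroup.mem_centralizer_iff]
    rintro _ ⟨t, ht, rfl⟩
    simp only [MulEquiv.coe_toMonoidHom, MulAut.conj_apply, inv_inv]
    have h7 := Subgroup.mem_centralizer_iff.mp c'.2 t ht
    calc (x : G)⁻¹ * t * (x : G) * ((x : G)⁻¹ * (c' : G) * (x : G))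
        = (x : G)⁻¹ * (t * (c' : G)) * (x : G) := by group
      _ = (x : G)⁻¹ * ((c' : G) * t) * (x : G) := by rw [h7]
      _ = (x : G)⁻¹ * (c' : G) * (x : G) * ((x : G)⁻¹ * t * (x : G)) := by group
  have hCK' : Subgroup.centralizer
      ((T.map (MulAut.conj (x : G)⁻¹).toMonoidHom : Subgroup G) : Set G) ≤
      Subgroup.centralizer (P : Set G) := Subgroup.centralizer_le hPR'
  have h8 := rs_mem_of_maximal hM hmax hPR' hR'ne hR'p hR'N hR'e ⟨_, hc'R⟩
  apply hc'
  rw [rs_apply hCK]
  rw [rs_apply hCK'] at h8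
  have h9 : blockCoeff f ⟨(c' : G), hCK c'.2⟩ =
      blockCoeff e ⟨(x : G)⁻¹ * (c' : G) * (x : G), hCK' hc'R⟩ := by
    rw [hfx, blockCoeff_mapBlock]
    congr 1
  rw [h9]
  exact h8

/-- The subgroup of a Brauer pair of `B` lies in a defect group of `B`. -/
theorem exists_isDefectGroup_ge_of_pair (hM : IsPModular p M) {B : Set (IrrCharacter G)}
    {P : Subgroup G} {e : Set (IrrCharacter (Subgroup.centralizer (P : Set G)))}
    (hBe : IsBrauerPairOf p M B P e) : ∃ E : Subgroup G, IsDefectGroup p M B E ∧ P ≤ E := by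
  classical
  have := Fintype.ofFinite (Subgroup.centralizer (P : Set G))
  have hMp := isPrime_of_isPModular hM
  have hcG := Cfsg.Agent.Lib.Helper78_CharFacts.charFacts (G := G)
  obtain ⟨hPe, hB, hlam⟩ := hBe
  have hP := hPe.1
  obtain ⟨ξ₀, hξ₀⟩ := isPBlock_nonempty hMp hPe.2
  have hec : IsClassFunction G (blockCoeff B) := blockCoeff_isClassFunction _
  have hex : ∃ c₁ : Subgroup.centralizer (P : Set G), ¬ MemLocalIdeal M (blockCoeff B (c₁ : G)) := by
    by_contra hall
    push Not at hall
    have h1 := hlam ξ₀ hξ₀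
    rw [brauerOmega_eq_omega] at h1
    have h2 : MemLocalIdeal M (omega (ξ₀ : Subgroup.centralizer (P : Set G) → ℂ)
        (res (Subgroup.centralizer (P : Set G)) (blockCoeff B))) :=
      memLocalIdeal_omega_of_pointwise hMp ξ₀.2
        (res_isClassFunction _ (fun q _ x => hec x q)) (fun c => hall c)
    have h3 := memLocalIdeal_sub hMp h2 h1
    rw [sub_sub_cancel] at h3
    exact not_memLocalIdeal_one hMp h3
  obtain ⟨c₁, hc₁⟩ := hex
  obtain ⟨g, hg⟩ := exists_isDefectClass' hMp hB
  obtain ⟨D⟩ := (inferInstance : Nonempty (Sylow p (Subgroup.centralizer ({g} : Set G))))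
  have hPc : P ≤ Subgroup.centralizer ({(c₁ : G)} : Set G) := by
    intro y hy
    rw [Subgroup.mem_centralizer_iff]
    intro z hz
    rw [Set.mem_singleton_iff] at hz
    subst hz
    exact (Subgroup.mem_centralizer_iff.mp c₁.2 y hy).symm
  obtain ⟨x, hx⟩ := le_conj_of_blockCoeff_not_mem hM hB hg D (c₁ : G) hc₁ P hP hPc
  have hg' := isDefectClass_conj hg x
  refine exists_isDefectGroup_ge hg' P hP ?_
  intro y hy
  obtain ⟨d, hd, rfl⟩ := hx hy
  have hdg : d ∈ Subgroup.centralizer ({g} : Set G) := map_sylow_le _ D hd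
  have h4 := Subgroup.mem_centralizer_iff.mp hdg g (Set.mem_singleton _)
  rw [Subgroup.mem_centralizer_iff]
  intro z hz
  rw [Set.mem_singleton_iff] at hz
  subst hz
  simp only [MulEquiv.coe_toMonoidHom, MulAut.conj_apply]
  calc x * g * x⁻¹ * (x * d * x⁻¹) = x * (g * d) * x⁻¹ := by group
    _ = x * (d * g) * x⁻¹ := by rw [h4]
    _ = x * d * x⁻¹ * (x * g * x⁻¹) := by group

/-- A class of `C_G(P)` on which the idempotent of the orbit of `e` and the central character of
`e` on the `N_G(P)`-orbit sum are both nonzero modulo the ideal. -/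
theorem exists_good_class (hM : IsPModular p M) {P : Subgroup G}
    {e : Set (IrrCharacter (Subgroup.centralizer (P : Set G)))} (he : IsPBlock M e)
    {ξ₀ : IrrCharacter (Subgroup.centralizer (P : Set G))} (hξ₀ : ξ₀ ∈ e)
    [Fintype (Subgroup.centralizer (P : Set G))] :
    ∃ c : Subgroup.centralizer (P : Set G),
      ¬ MemLocalIdeal M (blockCoeff (orbitUnion (Subgroup.centralizer (P : Set G))
        (Subgroup.normalizer (P : Set G)) (normalizer_le P) e) c) ∧
      ¬ MemLocalIdeal M (omega (ξ₀ : Subgroup.centralizer (P : Set G) → ℂ)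
        (orbInd (Subgroup.centralizer (P : Set G)) (Subgroup.normalizer (P : Set G))
          (Quotient.mk _ c))) := by
  classical
  have := Fintype.ofFinite (Quotient (orbSetoid (Subgroup.centralizer (P : Set G))
    (Subgroup.normalizer (P : Set G))))
  have hMp := isPrime_of_isPModular hM
  have hcC := Cfsg.Agent.Lib.Helper78_CharFacts.charFacts (G := Subgroup.centralizer (P : Set G))
  have hNK := normalizer_le P
  have hCN := centralizer_le_normalizer P
  have hOc : Closed M (orbitUnion (Subgroup.centralizer (P : Set G))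
      (Subgroup.normalizer (P : Set G)) (normalizer_le P) e) := closed_orbitUnion hNK hMp he
  have hON : PStable (Subgroup.centralizer (P : Set G)) (Subgroup.normalizer (P : Set G))
      (orbitUnion (Subgroup.centralizer (P : Set G))
      (Subgroup.normalizer (P : Set G)) (normalizer_le P) e) := pstable_orbitUnion hNK e
  have h1 : omega (ξ₀ : Subgroup.centralizer (P : Set G) → ℂ)
      (blockCoeff (orbitUnion (Subgroup.centralizer (P : Set G))
      (Subgroup.normalizer (P : Set G)) (normalizer_le P) e)) = 1 := by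
    rw [omega_blockCoeff hcC, Set.indicator_of_mem (subset_orbitUnion hNK e hξ₀)]
  have hconst : ∀ c c' : Subgroup.centralizer (P : Set G),
      (orbSetoid (Subgroup.centralizer (P : Set G)) (Subgroup.normalizer (P : Set G))).r c c' →
      blockCoeff (orbitUnion (Subgroup.centralizer (P : Set G))
        (Subgroup.normalizer (P : Set G)) (normalizer_le P) e) c =
      blockCoeff (orbitUnion (Subgroup.centralizer (P : Set G))
        (Subgroup.normalizer (P : Set G)) (normalizer_le P) e) c' := by
    rintro c c' ⟨n, hn, hnc⟩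
    have h2 := blockCoeff_conj_of_pstable hNK hON (Subgroup.inv_mem _ hn) c
    rw [← h2]
    congr 1
    apply Subtype.ext
    rw [conjEquiv_apply, inv_inv]
    exact hnc
  rw [omega_eq_sum_orbits _ hconst] at h1
  have hex : ∃ q : Quotient (orbSetoid (Subgroup.centralizer (P : Set G))
      (Subgroup.normalizer (P : Set G))),
      ¬ MemLocalIdeal M (blockCoeff (orbitUnion (Subgroup.centralizer (P : Set G))
        (Subgroup.normalizer (P : Set G)) (normalizer_le P) e) q.out *
        omega (ξ₀ : Subgroup.centralizer (P : Set G) → ℂ)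
          (orbInd (Subgroup.centralizer (P : Set G)) (Subgroup.normalizer (P : Set G)) q)) := by
    by_contra hall
    push Not at hall
    have := memLocalIdeal_sum hMp Finset.univ _ (fun q _ => hall q)
    rw [h1] at this
    exact not_memLocalIdeal_one hMp this
  obtain ⟨q, hq⟩ := hex
  have hR1 := osima' hMp _ hOc q.out
  have hR2 := memLocalRing_omega hMp ξ₀.2 (orbInd_isClassFunction hCN q)
    (orbInd_memLocalRing hMp _ _ q)
  rw [memLocalIdeal_mul_iff hMp hR1 hR2] at hq
  push Not at hq
  refine ⟨q.out, hq.1, ?_⟩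
  rw [Quotient.out_eq]
  exact hq.2

/-- When `P` is a maximal `p`-subgroup of `N_G(P) ∩ C_G(c)`, the class of `c` meets `C_G(P)` in
the `N_G(P)`-orbit of `c`. -/
theorem res_classIndicator_eq {P : Subgroup G} (hP : IsPGroup p P)
    (c : Subgroup.centralizer (P : Set G))
    (hmax : ∀ T : Subgroup G, IsPGroup p T → P ≤ T → T ≤ Subgroup.normalizer (P : Set G) →
      T ≤ Subgroup.centralizer ({(c : G)} : Set G) → T = P) :
    res (Subgroup.centralizer (P : Set G)) (classIndicator (c : G)) =
      orbInd (Subgroup.centralizer (P : Set G)) (Subgroup.normalizer (P : Set G))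
        (Quotient.mk _ c) := by
  classical
  have hCN := centralizer_le_normalizer P
  have hPc : P ≤ Subgroup.centralizer ({(c : G)} : Set G) := by
    intro y hy
    rw [Subgroup.mem_centralizer_iff]
    intro z hz
    rw [Set.mem_singleton_iff] at hz
    subst hz
    exact (Subgroup.mem_centralizer_iff.mp c.2 y hy).symm
  obtain ⟨-, hfus⟩ := fusion_of_max hP ⟨(c : G), hCN c.2⟩ hPc hmax
  funext c'
  rw [res_apply]
  unfold classIndicator orbInd
  rw [Set.indicator_apply]
  have hiff : (c' : G) ∈ {k : G | IsConj (c : G) k} ↔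
      Quotient.mk (orbSetoid (Subgroup.centralizer (P : Set G))
        (Subgroup.normalizer (P : Set G))) c' = Quotient.mk _ c := by
    constructor
    · intro h
      have h1 := hfus ⟨(c' : G), hCN c'.2⟩ h c'.2
      obtain ⟨n, hn⟩ := isConj_iff.mp h1
      apply Quotient.sound
      refine ⟨(n : G)⁻¹, Subgroup.inv_mem _ n.2, ?_⟩
      have h2 : (n : G) * (c : G) * (n : G)⁻¹ = (c' : G) := by
        have := congrArg (fun z : Subgroup.normalizer (P : Set G) => (z : G)) hn
        simpa using this
      rw [← h2]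
      group
    · intro h
      obtain ⟨n, -, hn⟩ := Quotient.exact h
      show IsConj (c : G) (c' : G)
      refine isConj_iff.mpr ⟨n⁻¹, ?_⟩
      rw [← hn]
      group
  by_cases h : (c' : G) ∈ {k : G | IsConj (c : G) k}
  · rw [if_pos h, if_pos (hiff.mp h)]
  · rw [if_neg h, if_neg (fun h' => h (hiff.mpr h'))]

/-- **S4659**: the subgroup of a maximal Brauer pair of `B` is a defect group of `B`. -/
theorem isDefectGroup_of_isMaximalBrauerPair (hM : IsPModular p M) {B : Set (IrrCharacter G)}
    {P : Subgroup G} {e : Set (IrrCharacter (Subgroup.centralizer (P : Set G)))}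
    (hmax : IsMaximalBrauerPair p M B P e) : IsDefectGroup p M B P := by
  classical
  have := Fintype.ofFinite (Subgroup.centralizer (P : Set G))
  have hMp := isPrime_of_isPModular hM
  have hBe := hmax.1
  have hPe := hBe.1
  have hP := hPe.1
  have he := hPe.2
  have hB := hBe.2.1
  have hCN := centralizer_le_normalizer P
  obtain ⟨ξ₀, hξ₀⟩ := isPBlock_nonempty hMp he
  obtain ⟨χ', hχ'⟩ := exists_irr_brauerOmega hM P hP ξ₀
  have hχ'B : χ' ∈ B := (isBrauerPairOf_iff_mem hM P hP he hB hξ₀ hχ').mp hBe
  obtain ⟨E, hE, hPE⟩ := exists_isDefectGroup_ge_of_pair hM hBe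
  obtain ⟨c, hc1, hc2⟩ := exists_good_class hM he hξ₀
  have hmaxc := max_of_blockCoeff_orbit hM hmax c hc1
  have hres := res_classIndicator_eq hP c hmaxc
  have hcc : ¬ MemLocalIdeal M (centralChar (χ' : G → ℂ) (c : G)) := by
    have h1 := hχ' (classIndicator (c : G)) (classIndicator_isClassFunction _)
      (memLocalRing_classIndicator hMp _)
    rw [brauerOmega_eq_omega, hres,
      omega_classIndicator (isIrrCharacter_isClassFunction χ'.2)] at h1
    intro h
    apply hc2
    have := memLocalIdeal_add hMp h1 h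
    rwa [sub_add_cancel] at this
  have hPc : P ≤ Subgroup.centralizer ({(c : G)} : Set G) := by
    intro y hy
    rw [Subgroup.mem_centralizer_iff]
    intro z hz
    rw [Set.mem_singleton_iff] at hz
    subst hz
    exact (Subgroup.mem_centralizer_iff.mp c.2 y hy).symm
  obtain ⟨⟨Q, hQ⟩, -⟩ := fusion_of_max hP ⟨(c : G), hCN c.2⟩ hPc hmaxc
  obtain ⟨g, hg, D, rfl⟩ := hE
  obtain ⟨x, hx⟩ := conj_le_centralizer_of_centralChar_not_mem hM hB hg D (c : G)
    ⟨χ', hχ'B, hcc⟩
  have hcard : Nat.card ((D : Subgroup (Subgroup.centralizer ({g} : Set G))).map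
      (Subgroup.centralizer ({g} : Set G)).subtype) ≤ Nat.card P := by
    calc _ = Nat.card (((D : Subgroup (Subgroup.centralizer ({g} : Set G))).map
          (Subgroup.centralizer ({g} : Set G)).subtype).map (MulAut.conj x).toMonoidHom) :=
          (card_map_conj _ _).symm
      _ ≤ Nat.card ((Q : Subgroup (Subgroup.centralizer ({(c : G)} : Set G))).map
          (Subgroup.centralizer ({(c : G)} : Set G)).subtype) :=
          card_le_of_le_centralizer Q _ ((isPGroup_map_sylow _ D).map _) hx
      _ = Nat.card P := by rw [← hQ]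
  have hPeq : P = (D : Subgroup (Subgroup.centralizer ({g} : Set G))).map
      (Subgroup.centralizer ({g} : Set G)).subtype :=
    Subgroup.eq_of_le_of_card_ge hPE hcard
  rw [hPeq]
  exact ⟨g, hg, D, rfl⟩

end Max

end Cfsg.Agent.Lib.Helper78_MaxPair
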