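import Mathlib
import Cfsg.Prelude.Def_Characters
import Cfsg.Prelude.Def_Blocks
import Cfsg.Agent.Lib.Helper78_LocalRing
import Cfsg.Agent.Lib.Helper78_CentralChar
import Cfsg.Agent.Lib.Helper78_Osima
import Cfsg.Agent.Lib.Helper78_CharFacts
import Cfsg.Agent.Lib.Helper78_PRegSum
import Cfsg.Agent.Lib.Helper78_SecondMainChar
import Cfsg.Agent.Lib.Helper78_Deficiency
import Cfsg.Agent.Lib.Helper78_PartA
import Cfsg.Agent.Lib.Helper78_CentralProd
import Cfsg.Agent.Lib.Helper78_ExtFirstMain
import Cfsg.Agent.Lib.Helper16_BrauerSetup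
import Cfsg.Agent.Lib.Helper16_BrauerK
import Cfsg.Agent.Lib.Helper77_RegProj
import Cfsg.Agent.Lib.Helper3_CharComplete
import Cfsg.Agent.Lib.Helper3_CharColumn
import Cfsg.Agent.Lib.Helper16_Char
import Cfsg.Agent.Lib.Helper78_Transport
import Cfsg.Agent.Lib.Helper78_MaxPair

/-!
# Blocks with a defect group of order `p` that is a Sylow subgroup: the local analysis (helper78)

`P` a Sylow `p`-subgroup of order `p`, `C = C_G(P) = P × V`, `N = N_G(P)`.  For `θ ∈ Irr(C)` and
`χ ∈ Irr(G)`,
`aCoef p C θ χ x = (p / |C|) ∑_{c ∈ C p-regular} χ (x c) conj (θ c)`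
is the multiplicity of `θ|_V` in the class function `v ↦ χ (x v)` of `V`.
-/

set_option autoImplicit false
set_option linter.unusedSectionVars false

namespace Cfsg.Agent.Lib.Helper78_PartAGen

open Cfsg Cfsg.Agent.Lib.Helper78_LocalRing Cfsg.Agent.Lib.Helper78_CentralChar
  Cfsg.Agent.Lib.Helper78_Osima Cfsg.Agent.Lib.Helper78_CharFacts
  Cfsg.Agent.Lib.Helper78_PRegSum Cfsg.Agent.Lib.Helper78_SecondMainChar
  Cfsg.Agent.Lib.Helper78_CentralProd

open scoped ComplexConjugate

variable {G : Type*} [Group G] {p : ℕ}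

/-- `C_G(P)`. -/
abbrev CC (P : Sylow p G) : Subgroup G := Subgroup.centralizer ((P : Subgroup G) : Set G)

/-- `N_G(P)`. -/
abbrev NN (P : Sylow p G) : Subgroup G := Subgroup.normalizer ((P : Subgroup G) : Set G)

/-- `P` as a subgroup of `C_G(P)`. -/
abbrev ZZ (P : Sylow p G) : Subgroup (CC P) := (P : Subgroup G).subgroupOf (CC P)

/-- The coefficient `a(θ, χ, x) = (p / |H|) ∑_{c ∈ H p-regular} χ (x c) conj (θ c)`. -/
noncomputable def aCoef (p : ℕ) (H : Subgroup G) (θ : H → ℂ) (χ : G → ℂ) (x : G) : ℂ :=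
  (p : ℂ) / (Nat.card H : ℂ) *
    ∑ᶠ c : H, regInd p H c * (χ (x * (c : G)) * conj (θ c))

section setup

variable [Finite G] [hp : Fact p.Prime] (P : Sylow p G)

/-- `C_G(P) = P × V`. -/
theorem exists_cp (hP : Nat.card P = p) : ∃ V : Subgroup (CC P), CP p (ZZ P) V := by
  classical
  have := Fintype.ofFinite G
  obtain ⟨V, hVc, hVp, hC, -⟩ := Cfsg.Agent.Lib.Helper16_BrauerSetup.exists_compl P hP
  refine ⟨V.subgroupOf (CC P), ?_, ?_, ?_, ?_⟩
  · intro z hz
    rw [Subgroup.mem_center_iff]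
    intro c
    apply Subtype.ext
    push_cast
    exact (Subgroup.mem_centralizer_iff.mp c.2 (z : G) (Subgroup.mem_subgroupOf.mp hz)).symm
  · exact P.2.comap_subtype
  · rw [Nat.card_congr (Subgroup.subgroupOfEquivOfLe hVc).toEquiv]
    exact hVp
  · intro c
    obtain ⟨h, hh, v, hv, hcv⟩ := hC (c : G) c.2
    have hhC : h ∈ CC P := Cfsg.Agent.Lib.Helper16_BrauerSetup.le_centralizer P hP hh
    refine ⟨⟨h, hhC⟩, Subgroup.mem_subgroupOf.mpr hh, ⟨v, hVc hv⟩, Subgroup.mem_subgroupOf.mpr hv,
      ?_⟩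
    apply Subtype.ext
    exact hcv

theorem card_ZZ (hP : Nat.card P = p) : Nat.card (ZZ P) = p := by
  classical
  have := Fintype.ofFinite G
  rw [Nat.card_congr (Subgroup.subgroupOfEquivOfLe
    (Cfsg.Agent.Lib.Helper16_BrauerSetup.le_centralizer P hP)).toEquiv]
  exact hP

end setup

section second

variable [Finite G] [hp : Fact p.Prime] {M : Ideal AlgInt}

/-- `c ↦ χ (x c)` is a class function on any subgroup of `C_G(x)`. -/
theorem isClassFunction_shift (χ : IrrCharacter G) (x : G) (H : Subgroup G)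
    (hH : H ≤ Subgroup.centralizer ({x} : Set G)) :
    IsClassFunction H (fun c : H => (χ : G → ℂ) (x * (c : G))) := by
  have hχc := isIrrCharacter_isClassFunction χ.2
  have hcomm : ∀ c : H, x * (c : G) = (c : G) * x :=
    fun c => Subgroup.mem_centralizer_iff.mp (hH c.2) x (Set.mem_singleton x)
  intro c k
  show (χ : G → ℂ) (x * ((k * c * k⁻¹ : H) : G)) = (χ : G → ℂ) (x * (c : G))
  push_cast
  have : x * ((k : G) * (c : G) * (k : G)⁻¹) = (k : G) * (x * (c : G)) * (k : G)⁻¹ := by
    calc x * ((k : G) * (c : G) * (k : G)⁻¹) = (x * (k : G)) * (c : G) * (k : G)⁻¹ := by group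
      _ = ((k : G) * x) * (c : G) * (k : G)⁻¹ := by rw [hcomm k]
      _ = (k : G) * (x * (c : G)) * (k : G)⁻¹ := by group
  rw [this, hχc]

/-- **Second main theorem, `θ`-form**: if the block `b` of `H = C_G(x)` induces `B` and `χ ∉ B`
then `∑_{c p-regular} χ (x c) conj (θ c) = 0` for every `θ ∈ b`. -/
theorem sum_reg_shift_eq_zero (hM : IsPModular p M) (x : G) (hx : ∃ k : ℕ, orderOf x = p ^ k)
    (H : Subgroup G) (hH : H = Subgroup.centralizer ({x} : Set G))
    {b : Set (IrrCharacter H)} {B : Set (IrrCharacter G)} (hind : IsInducedBlock M H b B)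
    {θ : IrrCharacter H} (hθ : θ ∈ b) {χ : IrrCharacter G} (hχ : χ ∉ B) :
    ∑ᶠ c : H, regInd p H c * ((χ : G → ℂ) (x * (c : G)) * conj ((θ : H → ℂ) c)) = 0 := by
  classical
  subst hH
  have hMp := isPrime_of_isPModular hM
  let _ : Fintype (Subgroup.centralizer ({x} : Set G)) := Fintype.ofFinite _
  rw [finsum_eq_sum_of_fintype]
  set ϑ : Subgroup.centralizer ({x} : Set G) → ℂ := fun c => (χ : G → ℂ) (x * (c : G)) with hϑdef
  have hϑ : IsClassFunction (Subgroup.centralizer ({x} : Set G)) ϑ :=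
    isClassFunction_shift χ x _ le_rfl
  have hb := hind.1
  have hBχ : IsPBlock M (blockOf M (χ : G → ℂ)) := ⟨χ, rfl⟩
  have hχB : χ ∈ blockOf M (χ : G → ℂ) := mem_blockOf_self hMp χ
  have hnot : ¬ IsInducedBlock M (Subgroup.centralizer ({x} : Set G)) b
      (blockOf M (χ : G → ℂ)) := by
    intro hind'
    have := Cfsg.Agent.Lib.Helper78_Deficiency.isInducedBlock_unique hMp hind hind'
    rw [this] at hχ
    exact hχ hχB
  have hsm : ∀ y : Subgroup.centralizer ({x} : Set G), ¬ p ∣ orderOf y →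
      ∑ᶠ ψ ∈ b, classInner ϑ (ψ : Subgroup.centralizer ({x} : Set G) → ℂ) *
          (ψ : Subgroup.centralizer ({x} : Set G) → ℂ) y = 0 := by
    intro y hy
    have := second_main_char hM x hx (blockOf M (χ : G → ℂ)) hBχ χ hχB b hb hnot y hy
    unfold blockPart at this
    exact this
  have hout : ∀ ψ : IrrCharacter (Subgroup.centralizer ({x} : Set G)), ψ ∉ b →
      ∑ c : Subgroup.centralizer ({x} : Set G),
        regInd p (Subgroup.centralizer ({x} : Set G)) c *
          ((ψ : Subgroup.centralizer ({x} : Set G) → ℂ) c *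
            conj ((θ : Subgroup.centralizer ({x} : Set G) → ℂ) c)) = 0 := by
    intro ψ hψ
    have h := Cfsg.Agent.Lib.Helper77_RegProj.sum_pRegularPart_mul_conj_eq_zero hM b
      (fun g => osima_block' hMp hb g) ψ θ hψ hθ
    rw [← h]
    refine Finset.sum_congr rfl fun c _ => ?_
    rw [← regInd_mul, mul_assoc]
  have hsum := Cfsg.Agent.Lib.Helper3_CharComplete.classFunction_eq_sum ϑ hϑ
  have hval : ∀ c : Subgroup.centralizer ({x} : Set G), ϑ c =
      ∑ ψ : IrrCharacter (Subgroup.centralizer ({x} : Set G)),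
        classInner ϑ (ψ : Subgroup.centralizer ({x} : Set G) → ℂ) *
          (ψ : Subgroup.centralizer ({x} : Set G) → ℂ) c := by
    intro c
    have := congrFun hsum c
    rw [Finset.sum_apply] at this
    simp only [Pi.smul_apply, smul_eq_mul] at this
    exact this
  show ∑ c : Subgroup.centralizer ({x} : Set G),
      regInd p (Subgroup.centralizer ({x} : Set G)) c *
        (ϑ c * conj ((θ : Subgroup.centralizer ({x} : Set G) → ℂ) c)) = 0
  calc ∑ c : Subgroup.centralizer ({x} : Set G),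
        regInd p (Subgroup.centralizer ({x} : Set G)) c *
          (ϑ c * conj ((θ : Subgroup.centralizer ({x} : Set G) → ℂ) c))
      = ∑ c : Subgroup.centralizer ({x} : Set G),
          ∑ ψ : IrrCharacter (Subgroup.centralizer ({x} : Set G)),
            classInner ϑ (ψ : Subgroup.centralizer ({x} : Set G) → ℂ) *
              (regInd p (Subgroup.centralizer ({x} : Set G)) c *
                ((ψ : Subgroup.centralizer ({x} : Set G) → ℂ) c *
                  conj ((θ : Subgroup.centralizer ({x} : Set G) → ℂ) c))) := by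
        refine Finset.sum_congr rfl fun c _ => ?_
        rw [hval c, Finset.sum_mul, Finset.mul_sum]
        refine Finset.sum_congr rfl fun ψ _ => ?_
        ring
    _ = ∑ ψ : IrrCharacter (Subgroup.centralizer ({x} : Set G)),
          classInner ϑ (ψ : Subgroup.centralizer ({x} : Set G) → ℂ) *
            ∑ c : Subgroup.centralizer ({x} : Set G),
              regInd p (Subgroup.centralizer ({x} : Set G)) c *
                ((ψ : Subgroup.centralizer ({x} : Set G) → ℂ) c *
                  conj ((θ : Subgroup.centralizer ({x} : Set G) → ℂ) c)) := by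
        rw [Finset.sum_comm]
        refine Finset.sum_congr rfl fun ψ _ => ?_
        rw [Finset.mul_sum]
    _ = ∑ ψ : IrrCharacter (Subgroup.centralizer ({x} : Set G)),
          if ψ ∈ b then
            classInner ϑ (ψ : Subgroup.centralizer ({x} : Set G) → ℂ) *
              ∑ c : Subgroup.centralizer ({x} : Set G),
                regInd p (Subgroup.centralizer ({x} : Set G)) c *
                  ((ψ : Subgroup.centralizer ({x} : Set G) → ℂ) c *
                    conj ((θ : Subgroup.centralizer ({x} : Set G) → ℂ) c))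
          else 0 := by
        refine Finset.sum_congr rfl fun ψ _ => ?_
        split_ifs with hψ
        · rfl
        · rw [hout ψ hψ, mul_zero]
    _ = ∑ c : Subgroup.centralizer ({x} : Set G),
          (regInd p (Subgroup.centralizer ({x} : Set G)) c *
            conj ((θ : Subgroup.centralizer ({x} : Set G) → ℂ) c)) *
            ∑ ψ : IrrCharacter (Subgroup.centralizer ({x} : Set G)),
              if ψ ∈ b then
                classInner ϑ (ψ : Subgroup.centralizer ({x} : Set G) → ℂ) *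
                  (ψ : Subgroup.centralizer ({x} : Set G) → ℂ) c
              else 0 := by
        simp_rw [Finset.mul_sum]
        rw [Finset.sum_comm]
        refine Finset.sum_congr rfl fun ψ _ => ?_
        split_ifs with hψ
        · refine Finset.sum_congr rfl fun c _ => ?_
          ring
        · simp
    _ = 0 := by
        refine Finset.sum_eq_zero fun c _ => ?_
        by_cases hc : p ∣ orderOf c
        · rw [regInd_of_sing hc, zero_mul, zero_mul]
        · rw [← Cfsg.Agent.Lib.Helper16_Char.finsum_mem_eq_sum_ite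
            (fun ψ => ψ ∈ b)
            (fun ψ => classInner ϑ (ψ : Subgroup.centralizer ({x} : Set G) → ℂ) *
              (ψ : Subgroup.centralizer ({x} : Set G) → ℂ) c)]
          have h0 := hsm c hc
          rw [show (∑ᶠ (a : IrrCharacter (Subgroup.centralizer ({x} : Set G)))
              (_ : a ∈ {a | a ∈ b}),
              classInner ϑ (a : Subgroup.centralizer ({x} : Set G) → ℂ) *
                (a : Subgroup.centralizer ({x} : Set G) → ℂ) c) = 0 from h0, mul_zero]

end second

section loc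

variable [Finite G] [hp : Fact p.Prime] {M : Ideal AlgInt} (P : Sylow p G)

theorem orderOf_eq_pow (hP : Nat.card P = p) {x : G} (hx : x ∈ (P : Subgroup G)) (hx1 : x ≠ 1) :
    ∃ k : ℕ, orderOf x = p ^ k :=
  ⟨1, by rw [pow_one]; exact Cfsg.Agent.Lib.Helper78_PartA.orderOf_eq_of_card_prime hp.out hP hx hx1⟩

theorem cc_eq (hP : Nat.card P = p) {x : G} (hx : x ∈ (P : Subgroup G)) (hx1 : x ≠ 1) :
    CC P = Subgroup.centralizer ({x} : Set G) := by
  classical
  have := Fintype.ofFinite G
  exact (Cfsg.Agent.Lib.Helper16_BrauerK.centralizer_singleton_eq P hP hx hx1).symm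

/-- **(PA1)** Second main theorem: `a(θ, χ, x) = 0` for `χ` outside the block induced by the block
of `θ`. -/
theorem aCoef_eq_zero_of_not_mem (hM : IsPModular p M) (hP : Nat.card P = p)
    {b : Set (IrrCharacter (CC P))} {B : Set (IrrCharacter G)}
    (hind : IsInducedBlock M (CC P) b B) {θ : IrrCharacter (CC P)} (hθ : θ ∈ b)
    {χ : IrrCharacter G} (hχ : χ ∉ B) {x : G} (hx : x ∈ (P : Subgroup G)) (hx1 : x ≠ 1) :
    aCoef p (CC P) (θ : CC P → ℂ) (χ : G → ℂ) x = 0 := by
  unfold aCoef
  rw [sum_reg_shift_eq_zero hM x (orderOf_eq_pow P hP hx hx1) (CC P) (cc_eq P hP hx hx1) hind hθ hχ,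
    mul_zero]

theorem conj_mem_CC (n : NN P) (c : CC P) : (n : G) * (c : G) * (n : G)⁻¹ ∈ CC P :=
  (Subgroup.mem_set_normalizer_iff.mp (Cfsg.Agent.Lib.Helper78_MaxPair.normalizer_le
    (P : Subgroup G) n.2) (c : G)).mp c.2

/-- The conjugate `c ↦ θ (n c n⁻¹)` of an irreducible character of `C_G(P)` by `n ∈ N_G(P)`. -/
noncomputable def conjIrr (n : NN P) (θ : IrrCharacter (CC P)) : IrrCharacter (CC P) :=
  Cfsg.Agent.Lib.Helper78_Transport.irrComp
    (Cfsg.Agent.Lib.Helper78_Transport.conjEquiv (CC P) ((n : G)⁻¹)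
      (Cfsg.Agent.Lib.Helper78_MaxPair.normalizer_le (P : Subgroup G) (inv_mem n.2))) θ

theorem conjIrr_apply (n : NN P) (θ : IrrCharacter (CC P)) (c : CC P) :
    (conjIrr P n θ : CC P → ℂ) c =
      (θ : CC P → ℂ) ⟨(n : G) * (c : G) * (n : G)⁻¹, conj_mem_CC P n c⟩ := by
  unfold conjIrr
  rw [Cfsg.Agent.Lib.Helper78_Transport.irrComp_apply]
  refine congrArg _ (Subtype.ext ?_)
  rw [Cfsg.Agent.Lib.Helper78_Transport.conjEquiv_apply, inv_inv]

theorem conjIrr_one (θ : IrrCharacter (CC P)) : conjIrr P 1 θ = θ := by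
  apply Subtype.ext
  funext c
  rw [conjIrr_apply]
  refine congrArg _ (Subtype.ext ?_)
  simp

theorem conjIrr_mul (n m : NN P) (θ : IrrCharacter (CC P)) :
    conjIrr P (n * m) θ = conjIrr P m (conjIrr P n θ) := by
  apply Subtype.ext
  funext c
  rw [conjIrr_apply, conjIrr_apply, conjIrr_apply]
  refine congrArg _ (Subtype.ext ?_)
  push_cast
  group

theorem conjIrr_eq_iff (n n₀ : NN P) (θ : IrrCharacter (CC P)) :
    conjIrr P n θ = conjIrr P n₀ θ ↔ conjIrr P (n * n₀⁻¹) θ = θ := by
  constructor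
  · intro h
    rw [conjIrr_mul, h, ← conjIrr_mul, mul_inv_cancel, conjIrr_one]
  · intro h
    have := congrArg (conjIrr P n₀) h
    rw [← conjIrr_mul, inv_mul_cancel_right] at this
    exact this

theorem kerZ_conjIrr (n : NN P) {θ : IrrCharacter (CC P)} (hθ : KerZ (ZZ P) θ) :
    KerZ (ZZ P) (conjIrr P n θ) := by
  intro z hz
  rw [conjIrr_apply, conjIrr_apply]
  have h1 : (⟨(n : G) * ((1 : CC P) : G) * (n : G)⁻¹, conj_mem_CC P n 1⟩ : CC P) = 1 := by
    apply Subtype.ext
    simp
  rw [h1]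
  apply hθ
  rw [Subgroup.mem_subgroupOf]
  have hzP : (z : G) ∈ (P : Subgroup G) := Subgroup.mem_subgroupOf.mp hz
  exact (Subgroup.mem_set_normalizer_iff.mp n.2 (z : G)).mp hzP

/-- Conjugation by `N_G(P)` moves the argument of `a(θ, χ, ·)`. -/
theorem aCoef_conjIrr (n : NN P) (θ : IrrCharacter (CC P)) (χ : IrrCharacter G) (x : G) :
    aCoef p (CC P) (conjIrr P n θ : CC P → ℂ) (χ : G → ℂ) x =
      aCoef p (CC P) (θ : CC P → ℂ) (χ : G → ℂ) ((n : G) * x * (n : G)⁻¹) := by
  unfold aCoef
  congr 1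
  have hχc := isIrrCharacter_isClassFunction χ.2
  set e : CC P ≃* CC P := (Cfsg.Agent.Lib.Helper78_Transport.conjEquiv (CC P) ((n : G)⁻¹)
      (Cfsg.Agent.Lib.Helper78_MaxPair.normalizer_le (P : Subgroup G) (inv_mem n.2))) with he
  have hec : ∀ c : CC P, ((e c : CC P) : G) = (n : G) * (c : G) * (n : G)⁻¹ := by
    intro c
    rw [he, Cfsg.Agent.Lib.Helper78_Transport.conjEquiv_apply, inv_inv]
  have key : ∑ᶠ c : CC P, regInd p (CC P) c *
      ((χ : G → ℂ) ((n : G) * x * (n : G)⁻¹ * (c : G)) * conj ((θ : CC P → ℂ) c)) =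
      ∑ᶠ c : CC P, regInd p (CC P) (e.toEquiv c) *
      ((χ : G → ℂ) ((n : G) * x * (n : G)⁻¹ * ((e.toEquiv c : CC P) : G)) *
        conj ((θ : CC P → ℂ) (e.toEquiv c))) :=
    (finsum_comp_equiv e.toEquiv (f := fun c : CC P => regInd p (CC P) c *
      ((χ : G → ℂ) ((n : G) * x * (n : G)⁻¹ * (c : G)) * conj ((θ : CC P → ℂ) c)))).symm
  rw [key]
  refine finsum_congr fun c => ?_
  have h1 : regInd p (CC P) (e.toEquiv c) = regInd p (CC P) c := by
    have ho : orderOf (e c) = orderOf c := MulEquiv.orderOf_eq e c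
    by_cases hc : p ∣ orderOf c
    · rw [regInd_of_sing hc, regInd_of_sing (by
        show p ∣ orderOf (e c)
        rw [ho]; exact hc)]
    · rw [regInd_of_reg hc, regInd_of_reg (by
        show ¬ p ∣ orderOf (e c)
        rw [ho]; exact hc)]
  have h2 : (θ : CC P → ℂ) (e.toEquiv c) = (conjIrr P n θ : CC P → ℂ) c := by
    rw [conjIrr_apply]
    refine congrArg _ (Subtype.ext ?_)
    exact hec c
  have h3 : (χ : G → ℂ) ((n : G) * x * (n : G)⁻¹ * ((e.toEquiv c : CC P) : G)) =
      (χ : G → ℂ) (x * (c : G)) := by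
    have : ((e.toEquiv c : CC P) : G) = (n : G) * (c : G) * (n : G)⁻¹ := hec c
    rw [this]
    have e2 : (n : G) * x * (n : G)⁻¹ * ((n : G) * (c : G) * (n : G)⁻¹) =
        (n : G) * (x * (c : G)) * (n : G)⁻¹ := by group
    rw [e2, hχc]
  rw [h1, h2, h3]

end loc

end Cfsg.Agent.Lib.Helper78_PartAGen
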