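import Mathlib
import Cfsg.Prelude.Def_Blocks
import Cfsg.Agent.Lib.Helper17_PCompl
import Cfsg.Agent.Lib.Helper57_FrobNorm
import Cfsg.Agent.Lib.Helper75_CharArith
import Cfsg.Agent.Lib.Helper3_CharBridge
import Cfsg.Agent.Lib.Helper78_PRegSum
import Cfsg.Agent.Lib.Helper78_CentralProd
import Cfsg.Agent.Lib.Helper78_PartAGen
import Cfsg.Agent.Lib.Helper16_BrauerSetup
import Cfsg.Agent.Lib.Helper16_GenSetup
import Cfsg.Agent.Lib.Helper16_GenK
import Cfsg.Agent.Lib.Helper16_GenFinal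

/-!
# Blocks of defect one, general root: bridge to the local block analysis (helper16)

Translation between the notation of `Helper78_PartAGen` (characters `θ_C` of `C = C_G(P)` with `P`
in the kernel, coefficients `aCoef p C θ_C χ x`) and the notation of `Helper16_GenSetup`
(characters `θ` of the `p`-complement `V` of `C`, components `sfun P V θ χ`).

* `exists_isPCompl`, `cp_of_isPCompl`;
* `resV hV θ_C hker : IrrCharacter V` (restriction), `infl hP hV θ : IrrCharacter C` (inflation);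
* `aCoef_eq_sfun`, `stab_eq`, `resV_conjIrr`, `isConjθ_iff`.
-/

set_option autoImplicit false
set_option linter.unusedSectionVars false

namespace Cfsg.Agent.Lib.Helper16_GenBridge

open Cfsg Cfsg.Agent.Lib.Helper16_BrauerSetup
  Cfsg.Agent.Lib.Helper16_GenSetup Cfsg.Agent.Lib.Helper16_GenK Cfsg.Agent.Lib.Helper16_GenFinal
  Cfsg.Agent.Lib.Helper78_PRegSum Cfsg.Agent.Lib.Helper78_CentralProd
  Cfsg.Agent.Lib.Helper78_PartAGen
open scoped ComplexConjugate

variable {G : Type*} [Group G] [Fintype G] {p : ℕ} [hp : Fact p.Prime] {P : Sylow p G}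
  {V : Subgroup G}

/-- `C_G(P)` has a normal `p`-complement. -/
theorem exists_isPCompl (hP : Nat.card P = p) : ∃ V : Subgroup G, IsPCompl P V := by
  obtain ⟨V, h1, h2, h3, h4, h5⟩ :=
    Cfsg.Agent.Lib.Helper17_PCompl.exists_pcomplement_centralizer p P hP
  exact ⟨V, ⟨h1, h2, h3, h4, h5⟩⟩

/-- `C_G(P) = P × V` in the form of `Helper78_CentralProd`. -/
theorem cp_of_isPCompl (hP : Nat.card P = p) (hV : IsPCompl P V) :
    CP p (ZZ P) (V.subgroupOf (CC P)) := by
  refine ⟨?_, ?_, ?_, ?_⟩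
  · intro z hz
    rw [Subgroup.mem_center_iff]
    intro c
    apply Subtype.ext
    push_cast
    exact (Subgroup.mem_centralizer_iff.mp c.2 (z : G) (Subgroup.mem_subgroupOf.mp hz)).symm
  · exact P.2.comap_subtype
  · rw [Nat.card_congr (Subgroup.subgroupOfEquivOfLe hV.le).toEquiv]
    exact hV.coprime
  · intro c
    obtain ⟨h, hh, v, hv, hcv⟩ := hV.prod (c : G) c.2
    have hhC : h ∈ CC P := le_centralizer P hP hh
    refine ⟨⟨h, hhC⟩, Subgroup.mem_subgroupOf.mpr hh, ⟨v, hV.le hv⟩, Subgroup.mem_subgroupOf.mpr hv,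
      ?_⟩
    apply Subtype.ext
    exact hcv

/-- The inclusion `V → C_G(P)`. -/
def incl (hV : IsPCompl P V) : ↥V →* ↥(CC P) := Subgroup.inclusion hV.le

@[simp] theorem coe_incl (hV : IsPCompl P V) (v : ↥V) : ((incl hV v : ↥(CC P)) : G) = (v : G) := rfl

theorem incl_injective (hV : IsPCompl P V) : Function.Injective (incl hV) :=
  Subgroup.inclusion_injective hV.le

/-- The `p`-regular elements of `C_G(P)` are the elements of `V`. -/
theorem reg_iff (hV : IsPCompl P V) (c : ↥(CC P)) : ¬ p ∣ orderOf c ↔ (c : G) ∈ V := by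
  have ho : orderOf (c : G) = orderOf c := Subgroup.orderOf_coe c
  constructor
  · intro h
    apply hV.reg (c : G) c.2
    rwa [ho]
  · intro h hdvd
    have h1 : orderOf (c : G) ∣ Nat.card V := Subgroup.orderOf_dvd_natCard V h
    rw [ho] at h1
    have h2 : p ∣ Nat.card V := hdvd.trans h1
    have := hV.coprime
    rw [Nat.coprime_comm, Nat.Prime.coprime_iff_not_dvd hp.out] at this
    exact this h2

/-- Sums over the `p`-regular elements of `C_G(P)` are sums over `V`. -/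
theorem sum_regInd_eq (hV : IsPCompl P V) [Fintype ↥V] [Fintype ↥(CC P)] (F : ↥(CC P) → ℂ) :
    ∑ c : ↥(CC P), regInd p ↥(CC P) c * F c = ∑ v : ↥V, F (incl hV v) := by
  classical
  have h1 : ∀ c : ↥(CC P), regInd p ↥(CC P) c * F c = if (c : G) ∈ V then F c else 0 := by
    intro c
    split_ifs with hc
    · rw [regInd_of_reg ((reg_iff hV c).mpr hc), one_mul]
    · rw [regInd_of_sing (by
        by_contra hn
        exact hc ((reg_iff hV c).mp hn)), zero_mul]
  rw [Finset.sum_congr rfl (fun c _ => h1 c), ← Finset.sum_filter]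
  have h2 : Finset.univ.filter (fun c : ↥(CC P) => (c : G) ∈ V) =
      Finset.univ.image (incl hV) := by
    ext c
    simp only [Finset.mem_filter, Finset.mem_univ, true_and, Finset.mem_image]
    constructor
    · intro hc
      exact ⟨⟨(c : G), hc⟩, Subtype.ext rfl⟩
    · rintro ⟨v, rfl⟩
      exact v.2
  rw [h2, Finset.sum_image (fun a _ b _ hab => incl_injective hV hab)]

section characters

variable [Fintype ↥V]

/-- `P` lies in the kernel of `θ_C`. -/
def KerP (θC : IrrCharacter ↥(CC P)) : Prop :=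
  ∀ x : ↥(CC P), (x : G) ∈ (P : Subgroup G) → (θC : ↥(CC P) → ℂ) x = (θC : ↥(CC P) → ℂ) 1

theorem kerZ_of_kerP {θC : IrrCharacter ↥(CC P)} (hker : KerP θC) : KerZ (ZZ P) θC :=
  fun z hz => hker z (Subgroup.mem_subgroupOf.mp hz)

theorem kerP_of_kerZ {θC : IrrCharacter ↥(CC P)} (hker : KerZ (ZZ P) θC) : KerP θC :=
  fun x hx => hker x (Subgroup.mem_subgroupOf.mpr hx)

/-- The restriction to `V` of an irreducible character of `C_G(P)` with `P` in its kernel is
irreducible. -/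
theorem isIrrCharacter_res (hP : Nat.card P = p) (hV : IsPCompl P V)
    (θC : IrrCharacter ↥(CC P)) (hker : KerP θC) :
    IsIrrCharacter ↥V (fun v => (θC : ↥(CC P) → ℂ) (incl hV v)) := by
  classical
  let _ : Fintype ↥(CC P) := Fintype.ofFinite _
  have hchar : IsCharacter ↥V (fun v => (θC : ↥(CC P) → ℂ) (incl hV v)) :=
    Cfsg.Agent.Lib.Helper75_CharArith.isCharacter_comp (incl hV)
      (Cfsg.Agent.Lib.Helper3_CharBridge.isCharacter_of_isIrrCharacter θC.2)
  apply Cfsg.Agent.Lib.Helper75_CharArith.isIrrCharacter_of_classInner_self hchar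
  have hcp := cp_of_isPCompl hP hV
  have h1 := sum_reg_kerZ hcp (kerZ_of_kerP hker) (kerZ_of_kerP hker)
  rw [if_pos rfl, sum_regInd_eq hV, card_ZZ P hP] at h1
  have hcard : (Nat.card ↥(CC P) : ℂ) = (p : ℂ) * (Nat.card V : ℂ) := by
    have := card_centralizer hP hV
    rw [this]
    push_cast
    rfl
  rw [hcard] at h1
  have hp0 : (p : ℂ) ≠ 0 := by exact_mod_cast hp.out.ne_zero
  have hV0 : (Nat.card V : ℂ) ≠ 0 := by
    rw [Nat.cast_ne_zero]; exact Nat.card_pos.ne'
  have h2 := mul_left_cancel₀ hp0 h1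
  unfold classInner
  rw [h2]
  exact inv_mul_cancel₀ hV0

/-- The restriction `θ_C|_V`. -/
noncomputable def resV (hP : Nat.card P = p) (hV : IsPCompl P V)
    (θC : IrrCharacter ↥(CC P)) (hker : KerP θC) : IrrCharacter ↥V :=
  ⟨fun v => (θC : ↥(CC P) → ℂ) (incl hV v), isIrrCharacter_res hP hV θC hker⟩

@[simp] theorem resV_apply (hP : Nat.card P = p) (hV : IsPCompl P V)
    (θC : IrrCharacter ↥(CC P)) (hker : KerP θC) (v : ↥V) :
    (resV hP hV θC hker : ↥V → ℂ) v = (θC : ↥(CC P) → ℂ) (incl hV v) := rfl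

/-- **Bridge**: `a(θ_C, χ, x) = sfun P V (θ_C|_V) χ x`. -/
theorem aCoef_eq_sfun (hP : Nat.card P = p) (hV : IsPCompl P V)
    (θC : IrrCharacter ↥(CC P)) (hker : KerP θC) (χ : IrrCharacter G)
    (x : ↥(P : Subgroup G)) :
    aCoef p (CC P) (θC : ↥(CC P) → ℂ) (χ : G → ℂ) (x : G) =
      sfun P V (resV hP hV θC hker) χ x := by
  classical
  let _ : Fintype ↥(CC P) := Fintype.ofFinite _
  unfold aCoef sfun
  rw [finsum_eq_sum_of_fintype, sum_regInd_eq hV]
  have hcard : (Nat.card ↥(CC P) : ℂ) = (p : ℂ) * (Nat.card V : ℂ) := by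
    have := card_centralizer hP hV
    rw [this]
    push_cast
    rfl
  have hp0 : (p : ℂ) ≠ 0 := by exact_mod_cast hp.out.ne_zero
  have hV0 : (Nat.card V : ℂ) ≠ 0 := by
    rw [Nat.cast_ne_zero]; exact Nat.card_pos.ne'
  rw [hcard]
  congr 1
  field_simp

end characters

section projection

/-- `P`-translation invariance of a character with `P` in its kernel. -/
theorem kerP_mul_left (hP : Nat.card P = p) (hV : IsPCompl P V) {θC : IrrCharacter ↥(CC P)}
    (hker : KerP θC) {z : ↥(CC P)} (hz : (z : G) ∈ (P : Subgroup G)) (c : ↥(CC P)) :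
    (θC : ↥(CC P) → ℂ) (z * c) = (θC : ↥(CC P) → ℂ) c :=
  kerZ_mul_left (cp_of_isPCompl hP hV) (kerZ_of_kerP hker) (Subgroup.mem_subgroupOf.mpr hz) c

/-- The projection `C_G(P) = P × V → V`. -/
noncomputable def projV (hP : Nat.card P = p) (hV : IsPCompl P V) : ↥(CC P) →* ↥V where
  toFun c := ⟨(((((cp_of_isPCompl hP hV).projZ c : ↥(ZZ P)) : ↥(CC P))⁻¹ * c : ↥(CC P)) : G),
    Subgroup.mem_subgroupOf.mp ((cp_of_isPCompl hP hV).projFun_spec c)⟩
  map_one' := by
    apply Subtype.ext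
    simp
  map_mul' c d := by
    apply Subtype.ext
    have hcp := cp_of_isPCompl hP hV
    have hcomm : ∀ (z : ↥(ZZ P)) (y : ↥(CC P)), (z : ↥(CC P)) * y = y * (z : ↥(CC P)) :=
      fun z y => hcp.comm z.2 y
    have key : (((hcp.projZ (c * d) : ↥(ZZ P)) : ↥(CC P))⁻¹ * (c * d) : ↥(CC P)) =
        (((hcp.projZ c : ↥(ZZ P)) : ↥(CC P))⁻¹ * c) *
          (((hcp.projZ d : ↥(ZZ P)) : ↥(CC P))⁻¹ * d) := by
      rw [map_mul]
      push_cast
      have h1 := hcomm (hcp.projZ d)⁻¹ c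
      push_cast at h1
      have h2 := hcomm (hcp.projZ d)⁻¹ (((hcp.projZ c : ↥(ZZ P)) : ↥(CC P)))⁻¹
      push_cast at h2
      calc (((hcp.projZ c : ↥(ZZ P)) : ↥(CC P)) * ((hcp.projZ d : ↥(ZZ P)) : ↥(CC P)))⁻¹ * (c * d)
          = ((((hcp.projZ d : ↥(ZZ P)) : ↥(CC P)))⁻¹ * (((hcp.projZ c : ↥(ZZ P)) : ↥(CC P)))⁻¹) *
              (c * d) := by rw [mul_inv_rev]
        _ = ((((hcp.projZ c : ↥(ZZ P)) : ↥(CC P)))⁻¹ * (((hcp.projZ d : ↥(ZZ P)) : ↥(CC P)))⁻¹) *
              (c * d) := by rw [h2]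
        _ = ((hcp.projZ c : ↥(ZZ P)) : ↥(CC P))⁻¹ *
              ((((hcp.projZ d : ↥(ZZ P)) : ↥(CC P)))⁻¹ * c) * d := by group
        _ = ((hcp.projZ c : ↥(ZZ P)) : ↥(CC P))⁻¹ *
              (c * (((hcp.projZ d : ↥(ZZ P)) : ↥(CC P)))⁻¹) * d := by rw [h1]
        _ = _ := by group
    have key' := congrArg (fun y : ↥(CC P) => (y : G)) key
    exact key'

theorem projV_incl (hP : Nat.card P = p) (hV : IsPCompl P V) (v : ↥V) :
    projV hP hV (incl hV v) = v := by
  apply Subtype.ext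
  show (((((cp_of_isPCompl hP hV).projZ (incl hV v) : ↥(ZZ P)) : ↥(CC P))⁻¹ * incl hV v :
    ↥(CC P)) : G) = (v : G)
  rw [(cp_of_isPCompl hP hV).projZ_of_mem_V (Subgroup.mem_subgroupOf.mpr v.2)]
  simp

theorem projV_surjective (hP : Nat.card P = p) (hV : IsPCompl P V) :
    Function.Surjective (projV hP hV) := fun v => ⟨incl hV v, projV_incl hP hV v⟩

/-- `c = z * projV c` with `z ∈ P`. -/
theorem exists_eq_mul_projV (hP : Nat.card P = p) (hV : IsPCompl P V) (c : ↥(CC P)) :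
    ∃ z : ↥(CC P), (z : G) ∈ (P : Subgroup G) ∧ c = z * incl hV (projV hP hV c) := by
  refine ⟨(((cp_of_isPCompl hP hV).projZ c : ↥(ZZ P)) : ↥(CC P)),
    Subgroup.mem_subgroupOf.mp ((cp_of_isPCompl hP hV).projZ c).2, ?_⟩
  apply Subtype.ext
  show (c : G) = ((((cp_of_isPCompl hP hV).projZ c : ↥(ZZ P)) : ↥(CC P)) : G) *
    (((((cp_of_isPCompl hP hV).projZ c : ↥(ZZ P)) : ↥(CC P))⁻¹ * c : ↥(CC P)) : G)
  push_cast
  group

variable [Fintype ↥V]

/-- The inflation of `θ ∈ Irr(V)` to `C_G(P) = P × V`. -/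
noncomputable def infl (hP : Nat.card P = p) (hV : IsPCompl P V) (θ : IrrCharacter ↥V) :
    IrrCharacter ↥(CC P) :=
  ⟨fun c => (θ : ↥V → ℂ) (projV hP hV c),
    Cfsg.Agent.Lib.Helper57_FrobNorm.isIrrCharacter_comp_surjective (projV hP hV)
      (projV_surjective hP hV) θ.2⟩

@[simp] theorem infl_apply (hP : Nat.card P = p) (hV : IsPCompl P V) (θ : IrrCharacter ↥V)
    (c : ↥(CC P)) : (infl hP hV θ : ↥(CC P) → ℂ) c = (θ : ↥V → ℂ) (projV hP hV c) := rfl

theorem projV_of_mem_P (hP : Nat.card P = p) (hV : IsPCompl P V) {z : ↥(CC P)}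
    (hz : (z : G) ∈ (P : Subgroup G)) : projV hP hV z = 1 := by
  apply Subtype.ext
  show (((((cp_of_isPCompl hP hV).projZ z : ↥(ZZ P)) : ↥(CC P))⁻¹ * z : ↥(CC P)) : G) = 1
  rw [(cp_of_isPCompl hP hV).projZ_of_mem_Z (Subgroup.mem_subgroupOf.mpr hz)]
  simp

theorem kerP_infl (hP : Nat.card P = p) (hV : IsPCompl P V) (θ : IrrCharacter ↥V) :
    KerP (infl hP hV θ) := by
  intro x hx
  rw [infl_apply, infl_apply, projV_of_mem_P hP hV hx, map_one]

theorem resV_infl (hP : Nat.card P = p) (hV : IsPCompl P V) (θ : IrrCharacter ↥V) :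
    resV hP hV (infl hP hV θ) (kerP_infl hP hV θ) = θ := by
  apply Subtype.ext
  funext v
  rw [resV_apply, infl_apply, projV_incl]

/-- A character of `C_G(P)` with `P` in its kernel is determined by its restriction to `V`. -/
theorem value_eq_resV (hP : Nat.card P = p) (hV : IsPCompl P V) (θC : IrrCharacter ↥(CC P))
    (hker : KerP θC) (c : ↥(CC P)) :
    (θC : ↥(CC P) → ℂ) c = (resV hP hV θC hker : ↥V → ℂ) (projV hP hV c) := by
  obtain ⟨z, hz, hc⟩ := exists_eq_mul_projV hP hV c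
  rw [resV_apply]
  conv_lhs => rw [hc]
  exact kerP_mul_left hP hV hker hz _

theorem infl_resV (hP : Nat.card P = p) (hV : IsPCompl P V) (θC : IrrCharacter ↥(CC P))
    (hker : KerP θC) : infl hP hV (resV hP hV θC hker) = θC := by
  apply Subtype.ext
  funext c
  rw [infl_apply, ← value_eq_resV]

theorem resV_injective (hP : Nat.card P = p) (hV : IsPCompl P V) {θC θC' : IrrCharacter ↥(CC P)}
    (hker : KerP θC) (hker' : KerP θC') (h : resV hP hV θC hker = resV hP hV θC' hker') :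
    θC = θC' := by
  rw [← infl_resV hP hV θC hker, ← infl_resV hP hV θC' hker', h]

end projection

section stabilizer

variable [Fintype ↥V]

theorem projV_mul_incl (hP : Nat.card P = p) (hV : IsPCompl P V) {z : ↥(CC P)}
    (hz : (z : G) ∈ (P : Subgroup G)) (v : ↥V) : projV hP hV (z * incl hV v) = v := by
  rw [map_mul, projV_of_mem_P hP hV hz, projV_incl, one_mul]

/-- Conjugation by `n ∈ N_G(P)` commutes with the projection `C_G(P) → V`. -/
theorem projV_conj (hP : Nat.card P = p) (hV : IsPCompl P V) {n : G}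
    (hn : n ∈ Subgroup.normalizer ((P : Subgroup G) : Set G)) (c c' : ↥(CC P))
    (hc : (c' : G) = n * (c : G) * n⁻¹) :
    projV hP hV c' = conjV hV n hn (projV hP hV c) := by
  obtain ⟨z, hz, hcz⟩ := exists_eq_mul_projV hP hV c
  have hzn : n * (z : G) * n⁻¹ ∈ (P : Subgroup G) :=
    (Subgroup.mem_set_normalizer_iff.mp hn (z : G)).mp hz
  have hznC : n * (z : G) * n⁻¹ ∈ CC P := le_centralizer P hP hzn
  have e : c' = (⟨n * (z : G) * n⁻¹, hznC⟩ : ↥(CC P)) *
      incl hV (conjV hV n hn (projV hP hV c)) := by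
    apply Subtype.ext
    rw [hc]
    have h1 := congrArg (fun y : ↥(CC P) => (y : G)) hcz
    simp only [Subgroup.coe_mul, coe_incl] at h1
    push_cast
    rw [coe_incl, conjV_coe]
    conv_lhs => rw [h1]
    group
  rw [e]
  exact projV_mul_incl hP hV hzn _

/-- **Bridge**: the stabilizer `T` of `θ_C` in `N_G(P)` (as in the statement S4442) is
`stab hV (θ_C|_V)`. -/
theorem stab_eq (hP : Nat.card P = p) (hV : IsPCompl P V) (θC : IrrCharacter ↥(CC P))
    (hker : KerP θC) (T : Subgroup G)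
    (hT : ∀ g : G, g ∈ T ↔ (g ∈ Subgroup.normalizer ((P : Subgroup G) : Set G) ∧
      ∀ c c' : ↥(CC P), (c' : G) = g * c * g⁻¹ →
        (θC : ↥(CC P) → ℂ) c' = (θC : ↥(CC P) → ℂ) c)) :
    stab hV (resV hP hV θC hker) = T := by
  ext n
  rw [mem_stab_iff, hT]
  constructor
  · rintro ⟨hn, h⟩
    refine ⟨hn, fun c c' hc => ?_⟩
    rw [value_eq_resV hP hV θC hker c', value_eq_resV hP hV θC hker c, projV_conj hP hV hn c c' hc]
    exact h _ _ rfl
  · rintro ⟨hn, h⟩
    refine ⟨hn, fun v v' hv => ?_⟩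
    rw [resV_apply, resV_apply]
    exact h (incl hV v) (incl hV v') hv

theorem kerP_conjIrr (n : ↥(NN P)) {θC : IrrCharacter ↥(CC P)} (hker : KerP θC) :
    KerP (conjIrr P n θC) :=
  kerP_of_kerZ (kerZ_conjIrr P n (kerZ_of_kerP hker))

/-- Restriction to `V` commutes with conjugation by `N_G(P)`. -/
theorem resV_conjIrr (hP : Nat.card P = p) (hV : IsPCompl P V) (n : ↥(NN P))
    (θC : IrrCharacter ↥(CC P)) (hker : KerP θC) :
    resV hP hV (conjIrr P n θC) (kerP_conjIrr n hker) =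
      conjθ hV (n : G) n.2 (resV hP hV θC hker) := by
  apply Subtype.ext
  funext v
  rw [resV_apply, conjIrr_apply, conjθ_apply, resV_apply]
  refine congrArg _ (Subtype.ext ?_)
  rfl

/-- `N_G(P)`-conjugacy of characters of `C_G(P)` with `P` in the kernel, in terms of `V`. -/
theorem isConjθ_iff (hP : Nat.card P = p) (hV : IsPCompl P V) (θC θC' : IrrCharacter ↥(CC P))
    (hker : KerP θC) (hker' : KerP θC') :
    IsConjθ hV (resV hP hV θC hker) (resV hP hV θC' hker') ↔
      ∃ n : ↥(NN P), θC' = conjIrr P n θC := by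
  constructor
  · rintro ⟨n, hn, h⟩
    refine ⟨⟨n, hn⟩, ?_⟩
    apply resV_injective hP hV hker' (kerP_conjIrr ⟨n, hn⟩ hker)
    rw [h, resV_conjIrr hP hV ⟨n, hn⟩ θC hker]
  · rintro ⟨n, rfl⟩
    exact ⟨(n : G), n.2, resV_conjIrr hP hV n θC hker⟩

end stabilizer

end Cfsg.Agent.Lib.Helper16_GenBridge
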