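import Mathlib
import Cfsg.Prelude.Def_Blocks
import Cfsg.Agent.S1504
import Cfsg.Agent.Lib.Helper3_CharComplete
import Cfsg.Agent.Lib.Helper25_AbDual
import Cfsg.Agent.Lib.Helper57_FrobNorm
import Cfsg.Agent.Lib.Helper80_CharBasic
import Cfsg.Agent.Lib.Helper16_BrauerSetup
import Cfsg.Agent.Lib.Helper16_BrauerMain
import Cfsg.Agent.Lib.Helper16_BrauerFinal
import Cfsg.Agent.Lib.Helper16_GenSetup
import Cfsg.Agent.Lib.Helper16_GenK

/-!
# Blocks of defect one, general root: consequences of the structure theorem (helper16)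

Block-free consequences of `Helper16_GenMain.gen_structure`, in the notation of
`Helper16_GenSetup` (`P` Sylow of order `p`, `C_G(P) = P × V`, `θ ∈ Irr(V)`).

* `sfun_X` : a character with all `nng χ φ = -ε` (`φ ≠ 1`) has `sfun P V θ χ = ε` on `P \ {1}`;
* `s1 hV θ χ : ℤ` : the integer `sfun P V θ χ 1 = ⟨χ|_V, θ⟩`; `s1_X`, `s1_Y`, `s1_zero`: its residue
  mod `p`;
* `conjθ hV n hn θ` : the conjugate character `v ↦ θ (n v n⁻¹)`; `sfun_conj`;
* `degree_eq_sum` : `χ(1) = ∑_{θ'} θ'(1) s1(θ', χ)`; `card_orbit`; `degree_congr`;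
* `exceptional_reg` : the relation on `p`-regular elements from block orthogonality.
-/

set_option autoImplicit false
set_option linter.unusedSectionVars false

namespace Cfsg.Agent.Lib.Helper16_GenFinal

open Cfsg Cfsg.Agent.Lib.Helper16_BrauerSetup Cfsg.Agent.Lib.Helper16_BrauerMain
  Cfsg.Agent.Lib.Helper16_GenSetup Cfsg.Agent.Lib.Helper16_GenK
  Cfsg.Agent.Lib.Helper3_CharComplete
open scoped ComplexConjugate

variable {G : Type*} [Group G] [Fintype G] {p : ℕ} [hp : Fact p.Prime] {P : Sylow p G}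
  {V : Subgroup G}

section values

variable [Fintype ↥(P : Subgroup G)] [Fintype ↥V] [Fintype (↥(P : Subgroup G) →* ℂˣ)]

/-- **(F1)** Values of the `θ`-component of a non-exceptional character on `P \ {1}`. -/
theorem sfun_X (hP : Nat.card P = p) (hV : IsPCompl P V) (θ : IrrCharacter ↥V)
    (χ : IrrCharacter G) (ε : ℤ)
    (h : ∀ φ : ↥(P : Subgroup G) →* ℂˣ, φ ≠ 1 → nng hV θ χ φ = - ε)
    (x : ↥(P : Subgroup G)) (hx : x ≠ 1) : sfun P V θ χ x = (ε : ℂ) := by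
  classical
  rw [value_eq_nn hP hV θ χ x hx]
  have h1 : ∀ φ : ↥(P : Subgroup G) →* ℂˣ, ((nng hV θ χ φ : ℤ) : ℂ) * ((φ x : ℂˣ) : ℂ) =
      - (ε : ℂ) * ((φ x : ℂˣ) : ℂ) + (if φ = 1 then (ε : ℂ) else 0) := by
    intro φ
    by_cases hφ : φ = 1
    · rw [if_pos hφ, hφ, nng_one]
      simp
    · rw [if_neg hφ, h φ hφ]
      push_cast
      ring
  simp_rw [h1]
  rw [Finset.sum_add_distrib, ← Finset.mul_sum,
    Cfsg.Agent.Lib.Helper25_AbDual.sum_hom_apply (comm_of_card P hP) x, if_neg hx,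
    Finset.sum_ite_eq' Finset.univ (1 : ↥(P : Subgroup G) →* ℂˣ)]
  simp

/-- The integer `sfun P V θ χ 1 = ⟨χ|_V, θ⟩`. -/
noncomputable def s1 (hV : IsPCompl P V) (θ : IrrCharacter ↥V) (χ : IrrCharacter G) : ℤ :=
  (p : ℤ) * (multg hV θ χ 1 : ℤ) + ∑ φ : ↥(P : Subgroup G) →* ℂˣ, nng hV θ χ φ

theorem s1_cast (hP : Nat.card P = p) (hV : IsPCompl P V) (θ : IrrCharacter ↥V)
    (χ : IrrCharacter G) : ((s1 hV θ χ : ℤ) : ℂ) = sfun P V θ χ 1 := by
  rw [value_one hP hV θ χ]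
  unfold s1
  push_cast
  rfl

open scoped Classical in
/-- **(F2)** for a non-exceptional character. -/
theorem s1_X (hP : Nat.card P = p) (hV : IsPCompl P V) (θ : IrrCharacter ↥V)
    (χ : IrrCharacter G) (ε : ℤ)
    (h : ∀ φ : ↥(P : Subgroup G) →* ℂˣ, φ ≠ 1 → nng hV θ χ φ = - ε) :
    s1 hV θ χ ≡ ε [ZMOD p] := by
  unfold s1
  have h1 : ∑ φ : ↥(P : Subgroup G) →* ℂˣ, nng hV θ χ φ = - ((p : ℤ) - 1) * ε := by
    rw [← sum_subtype_ne_one P (fun φ => nng hV θ χ φ) (nng_one hV θ χ)]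
    rw [Finset.sum_congr rfl (fun i _ => h i.1 i.2), Finset.sum_const, Finset.card_univ,
      card_ne_one P hP, nsmul_eq_mul, Nat.cast_sub hp.out.one_le]
    push_cast
    ring
  rw [h1]
  have : (p : ℤ) * (multg hV θ χ 1 : ℤ) + -((p : ℤ) - 1) * ε =
      ε + p * ((multg hV θ χ 1 : ℤ) - ε) := by
    ring
  rw [this]
  exact (Int.modEq_add_fac_self).symm.symm

open scoped Classical in
/-- Row sum of an exceptional character. -/
theorem rowsum_Y (hV : IsPCompl P V) (θ : IrrCharacter ↥V) (ψ : IrrCharacter G) (ε : ℤ) (e : ℕ)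
    (h : ∀ φ : ↥(P : Subgroup G) →* ℂˣ, φ ≠ 1 → nng hV θ ψ φ = 0 ∨ nng hV θ ψ φ = ε)
    (hc : (Finset.univ.filter (fun φ : ↥(P : Subgroup G) →* ℂˣ => nng hV θ ψ φ ≠ 0)).card = e) :
    ∑ φ : ↥(P : Subgroup G) →* ℂˣ, nng hV θ ψ φ = ε * e := by
  have h1 : ∑ φ : ↥(P : Subgroup G) →* ℂˣ, nng hV θ ψ φ =
      ∑ φ ∈ Finset.univ.filter (fun φ : ↥(P : Subgroup G) →* ℂˣ => nng hV θ ψ φ ≠ 0),
        nng hV θ ψ φ := by
    rw [Finset.sum_filter]
    refine Finset.sum_congr rfl fun φ _ => ?_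
    split_ifs with h0
    · rfl
    · push Not at h0
      exact h0
  rw [h1]
  have h2 : ∀ φ ∈ Finset.univ.filter (fun φ : ↥(P : Subgroup G) →* ℂˣ => nng hV θ ψ φ ≠ 0),
      nng hV θ ψ φ = ε := by
    intro φ hφ
    have hne : nng hV θ ψ φ ≠ 0 := (Finset.mem_filter.mp hφ).2
    have hφ1 : φ ≠ 1 := by
      rintro rfl
      exact hne (nng_one hV θ ψ)
    rcases h φ hφ1 with h3 | h3
    · exact absurd h3 hne
    · exact h3
  rw [Finset.sum_congr rfl h2, Finset.sum_const, hc, nsmul_eq_mul]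
  ring

/-- **(F2)** for an exceptional character. -/
theorem s1_Y (hV : IsPCompl P V) (θ : IrrCharacter ↥V) (ψ : IrrCharacter G) (ε : ℤ) (e : ℕ)
    (h : ∀ φ : ↥(P : Subgroup G) →* ℂˣ, φ ≠ 1 → nng hV θ ψ φ = 0 ∨ nng hV θ ψ φ = ε)
    (hc : open scoped Classical in
      (Finset.univ.filter (fun φ : ↥(P : Subgroup G) →* ℂˣ => nng hV θ ψ φ ≠ 0)).card = e) :
    s1 hV θ ψ ≡ ε * e [ZMOD p] := by
  unfold s1
  rw [rowsum_Y hV θ ψ ε e h hc]
  have : (p : ℤ) * (multg hV θ ψ 1 : ℤ) + ε * e = ε * e + p * (multg hV θ ψ 1 : ℤ) := by ring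
  rw [this]
  exact (Int.modEq_add_fac_self).symm.symm

/-- If the `θ`-component vanishes on `P \ {1}` then all `nng` vanish. -/
theorem nng_eq_zero_of_vanish (hP : Nat.card P = p) (hV : IsPCompl P V) (θ : IrrCharacter ↥V)
    (χ : IrrCharacter G) (h0 : ∀ h : ↥(P : Subgroup G), h ≠ 1 → sfun P V θ χ h = 0)
    (φ : ↥(P : Subgroup G) →* ℂˣ) : nng hV θ χ φ = 0 := by
  have h1 := nng_eq hP hV θ χ φ
  have h2 : ∑ h : ↥(P : Subgroup G), sfun P V θ χ h * (conj ((φ h : ℂˣ) : ℂ) - 1) = 0 := by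
    refine Finset.sum_eq_zero fun h _ => ?_
    by_cases hh : h = 1
    · rw [hh]
      simp
    · rw [h0 h hh, zero_mul]
  rw [h2, mul_zero] at h1
  exact_mod_cast h1

/-- **(F2)** for a character whose `θ`-component vanishes on `P \ {1}`. -/
theorem s1_zero (hP : Nat.card P = p) (hV : IsPCompl P V) (θ : IrrCharacter ↥V)
    (χ : IrrCharacter G) (h0 : ∀ h : ↥(P : Subgroup G), h ≠ 1 → sfun P V θ χ h = 0) :
    s1 hV θ χ ≡ 0 [ZMOD p] := by
  unfold s1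
  rw [Finset.sum_eq_zero (fun φ _ => nng_eq_zero_of_vanish hP hV θ χ h0 φ), add_zero]
  exact (Int.modEq_zero_iff_dvd).mpr (dvd_mul_right _ _)

end values

section conjugation

variable [Fintype ↥V]

/-- The conjugate `v ↦ θ (n v n⁻¹)` of `θ ∈ Irr(V)` by `n ∈ N_G(P)`. -/
noncomputable def conjθ (hV : IsPCompl P V) (n : G)
    (hn : n ∈ Subgroup.normalizer ((P : Subgroup G) : Set G)) (θ : IrrCharacter ↥V) :
    IrrCharacter ↥V :=
  ⟨fun v => (θ : ↥V → ℂ) (conjV hV n hn v),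
    Cfsg.Agent.Lib.Helper57_FrobNorm.isIrrCharacter_comp_surjective
      (conjV hV n hn).toMonoidHom (conjV hV n hn).surjective θ.2⟩

@[simp] theorem conjθ_apply (hV : IsPCompl P V) (n : G)
    (hn : n ∈ Subgroup.normalizer ((P : Subgroup G) : Set G)) (θ : IrrCharacter ↥V) (v : ↥V) :
    (conjθ hV n hn θ : ↥V → ℂ) v = (θ : ↥V → ℂ) (conjV hV n hn v) := rfl

theorem conjθ_one (hV : IsPCompl P V) (θ : IrrCharacter ↥V) :
    conjθ hV 1 (Subgroup.one_mem _) θ = θ := by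
  apply Subtype.ext
  funext v
  rw [conjθ_apply]
  refine congrArg _ (Subtype.ext ?_)
  rw [conjV_coe]
  group

theorem conjθ_mul (hV : IsPCompl P V) (n m : G)
    (hn : n ∈ Subgroup.normalizer ((P : Subgroup G) : Set G))
    (hm : m ∈ Subgroup.normalizer ((P : Subgroup G) : Set G)) (θ : IrrCharacter ↥V) :
    conjθ hV (n * m) (Subgroup.mul_mem _ hn hm) θ = conjθ hV m hm (conjθ hV n hn θ) := by
  apply Subtype.ext
  funext v
  rw [conjθ_apply, conjθ_apply, conjθ_apply]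
  refine congrArg _ (Subtype.ext ?_)
  rw [conjV_coe, conjV_coe, conjV_coe]
  group

/-- `n ∈ T` iff `θ^n = θ`. -/
theorem mem_stab_iff_conjθ (hV : IsPCompl P V) (θ : IrrCharacter ↥V) (n : G)
    (hn : n ∈ Subgroup.normalizer ((P : Subgroup G) : Set G)) :
    n ∈ stab hV θ ↔ conjθ hV n hn θ = θ := by
  rw [mem_stab_iff' hV θ n hn]
  constructor
  · intro h
    exact Subtype.ext h
  · intro h
    exact congrArg Subtype.val h

theorem conj_mem_P {n : G} (hn : n ∈ Subgroup.normalizer ((P : Subgroup G) : Set G))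
    (h : ↥(P : Subgroup G)) : n * (h : G) * n⁻¹ ∈ (P : Subgroup G) :=
  (Subgroup.mem_set_normalizer_iff.mp hn (h : G)).mp h.2

/-- The `θ^n`-component of `χ` is the `θ`-component moved by `n`. -/
theorem sfun_conj (hV : IsPCompl P V) (n : G)
    (hn : n ∈ Subgroup.normalizer ((P : Subgroup G) : Set G)) (θ : IrrCharacter ↥V)
    (χ : IrrCharacter G) (h : ↥(P : Subgroup G)) :
    sfun P V (conjθ hV n hn θ) χ h = sfun P V θ χ ⟨n * (h : G) * n⁻¹, conj_mem_P hn h⟩ := by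
  unfold sfun
  congr 1
  refine (Finset.sum_congr rfl fun v _ => ?_).trans
    (Equiv.sum_comp (conjV hV n hn).toEquiv
      (fun w : ↥V => (χ : G → ℂ) ((n * (h : G) * n⁻¹) * (w : G)) * conj ((θ : ↥V → ℂ) w)))
  have hχc := Cfsg.Agent.Lib.Helper80_CharBasic.irr_conj χ
  have e1 : (n * (h : G) * n⁻¹) * (((conjV hV n hn).toEquiv v : ↥V) : G) =
      n * ((h : G) * (v : G)) * n⁻¹ := by
    show (n * (h : G) * n⁻¹) * (n * (v : G) * n⁻¹) = _
    group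
  show (χ : G → ℂ) ((h : G) * (v : G)) * conj ((θ : ↥V → ℂ) (conjV hV n hn v)) =
    (χ : G → ℂ) ((n * (h : G) * n⁻¹) * (((conjV hV n hn).toEquiv v : ↥V) : G)) *
      conj ((θ : ↥V → ℂ) ((conjV hV n hn).toEquiv v))
  rw [e1, hχc]
  rfl

/-- The `θ`-component is invariant under the stabilizer `T` of `θ`. -/
theorem sfun_stab (hV : IsPCompl P V) (θ : IrrCharacter ↥V) (χ : IrrCharacter G) {n : G}
    (hn : n ∈ stab hV θ) (h : ↥(P : Subgroup G)) :
    sfun P V θ χ ⟨n * (h : G) * n⁻¹, conj_mem_P (stab_le_normalizer hV θ hn) h⟩ =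
      sfun P V θ χ h := by
  rw [← sfun_conj hV n (stab_le_normalizer hV θ hn) θ χ h,
    (mem_stab_iff_conjθ hV θ n (stab_le_normalizer hV θ hn)).mp hn]

end conjugation

section orbit

variable [Fintype ↥V]

theorem conjθ_congr (hV : IsPCompl P V) {n n' : G} (h : n = n')
    (hn : n ∈ Subgroup.normalizer ((P : Subgroup G) : Set G))
    (hn' : n' ∈ Subgroup.normalizer ((P : Subgroup G) : Set G)) (θ : IrrCharacter ↥V) :
    conjθ hV n hn θ = conjθ hV n' hn' θ := by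
  subst h
  rfl

/-- `θ'` is an `N_G(P)`-conjugate of `θ`. -/
def IsConjθ (hV : IsPCompl P V) (θ θ' : IrrCharacter ↥V) : Prop :=
  ∃ n : G, ∃ hn : n ∈ Subgroup.normalizer ((P : Subgroup G) : Set G), θ' = conjθ hV n hn θ

/-- The action of `N_G(P)` on `Irr(V)`: `n • θ' = θ'^{n⁻¹}`. -/
@[reducible] noncomputable def actN (hV : IsPCompl P V) :
    MulAction ↥(Subgroup.normalizer ((P : Subgroup G) : Set G)) (IrrCharacter ↥V) where
  smul n θ' := conjθ hV ((n : G)⁻¹) (Subgroup.inv_mem _ n.2) θ'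
  one_smul θ' := by
    show conjθ hV (((1 : ↥(Subgroup.normalizer ((P : Subgroup G) : Set G))) : G)⁻¹) _ θ' = θ'
    rw [conjθ_congr hV (by simp) _ (Subgroup.one_mem _) θ', conjθ_one]
  mul_smul n m θ' := by
    show conjθ hV (((n * m : ↥(Subgroup.normalizer ((P : Subgroup G) : Set G))) : G)⁻¹) _ θ' =
      conjθ hV ((n : G)⁻¹) _ (conjθ hV ((m : G)⁻¹) _ θ')
    rw [← conjθ_mul hV ((m : G)⁻¹) ((n : G)⁻¹) (Subgroup.inv_mem _ m.2) (Subgroup.inv_mem _ n.2) θ']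
    exact conjθ_congr hV (by simp) _ _ θ'

/-- The number of `N_G(P)`-conjugates of `θ` is `|N_G(P) : T|`. -/
theorem ncard_conjθ (hV : IsPCompl P V) (θ : IrrCharacter ↥V) :
    {θ' : IrrCharacter ↥V | IsConjθ hV θ θ'}.ncard =
      (stab hV θ).relIndex (Subgroup.normalizer ((P : Subgroup G) : Set G)) := by
  let _ : MulAction ↥(Subgroup.normalizer ((P : Subgroup G) : Set G)) (IrrCharacter ↥V) :=
    actN hV
  have hsm : ∀ (n : ↥(Subgroup.normalizer ((P : Subgroup G) : Set G))) (θ' : IrrCharacter ↥V),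
      n • θ' = conjθ hV ((n : G)⁻¹) (Subgroup.inv_mem _ n.2) θ' := fun _ _ => rfl
  have h1 : {θ' : IrrCharacter ↥V | IsConjθ hV θ θ'} =
      MulAction.orbit ↥(Subgroup.normalizer ((P : Subgroup G) : Set G)) θ := by
    ext θ'
    rw [Set.mem_ofPred_eq, MulAction.mem_orbit_iff]
    constructor
    · rintro ⟨n, hn, rfl⟩
      refine ⟨⟨n⁻¹, Subgroup.inv_mem _ hn⟩, ?_⟩
      rw [hsm]
      exact conjθ_congr hV (by simp) _ _ θ
    · rintro ⟨n, rfl⟩
      exact ⟨(n : G)⁻¹, Subgroup.inv_mem _ n.2, hsm n θ⟩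
  have h2 : MulAction.stabilizer ↥(Subgroup.normalizer ((P : Subgroup G) : Set G)) θ =
      (stab hV θ).subgroupOf (Subgroup.normalizer ((P : Subgroup G) : Set G)) := by
    ext n
    rw [MulAction.mem_stabilizer_iff, Subgroup.mem_subgroupOf, hsm,
      ← mem_stab_iff_conjθ hV θ ((n : G)⁻¹) (Subgroup.inv_mem _ n.2), Subgroup.inv_mem_iff]
  rw [h1, ← MulAction.index_stabilizer, h2]
  rfl

end orbit

section degree

variable [Fintype ↥(P : Subgroup G)] [Fintype ↥V] [Fintype (↥(P : Subgroup G) →* ℂˣ)]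

/-- `sfun P V θ χ 1 = ⟨χ|_V, θ⟩`. -/
theorem sfun_one_eq (θ : IrrCharacter ↥V) (χ : IrrCharacter G) :
    sfun P V θ χ 1 = classInner (fun v : ↥V => (χ : G → ℂ) (v : G)) (θ : ↥V → ℂ) := by
  unfold sfun classInner
  simp

/-- `χ(1) = ∑_{θ' ∈ Irr(V)} θ'(1) ⟨χ|_V, θ'⟩`. -/
theorem degree_eq_sum (hP : Nat.card P = p) (hV : IsPCompl P V) (χ : IrrCharacter G) :
    ((charDegree (χ : G → ℂ) : ℕ) : ℤ) =
      ∑ θ' : IrrCharacter ↥V, ((charDegree (θ' : ↥V → ℂ) : ℕ) : ℤ) * s1 hV θ' χ := by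
  have hcl : IsClassFunction ↥V (fun v : ↥V => (χ : G → ℂ) (v : G)) := by
    intro v w
    show (χ : G → ℂ) ((w * v * w⁻¹ : ↥V) : G) = (χ : G → ℂ) (v : G)
    push_cast
    exact Cfsg.Agent.Lib.Helper80_CharBasic.irr_conj χ _ _
  have h1 := congrFun (classFunction_eq_sum _ hcl) 1
  rw [Finset.sum_apply] at h1
  simp only [Pi.smul_apply, smul_eq_mul, OneMemClass.coe_one] at h1
  have h2 : (((charDegree (χ : G → ℂ) : ℕ) : ℤ) : ℂ) =
      ((∑ θ' : IrrCharacter ↥V, ((charDegree (θ' : ↥V → ℂ) : ℕ) : ℤ) * s1 hV θ' χ : ℤ) : ℂ) := by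
    push_cast
    rw [Cfsg.Agent.Lib.Helper16_BrauerFinal.charDegree_cast χ, h1]
    refine Finset.sum_congr rfl fun θ' _ => ?_
    rw [Cfsg.Agent.Lib.Helper16_BrauerFinal.charDegree_cast θ', s1_cast hP hV θ' χ, sfun_one_eq]
    ring
  exact_mod_cast h2

end degree

section degree2

variable [Fintype ↥(P : Subgroup G)] [Fintype ↥V] [Fintype (↥(P : Subgroup G) →* ℂˣ)]

/-- `⟨χ|_V, θ^n⟩ = ⟨χ|_V, θ⟩`. -/
theorem s1_conj (hP : Nat.card P = p) (hV : IsPCompl P V) (n : G)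
    (hn : n ∈ Subgroup.normalizer ((P : Subgroup G) : Set G)) (θ : IrrCharacter ↥V)
    (χ : IrrCharacter G) : s1 hV (conjθ hV n hn θ) χ = s1 hV θ χ := by
  have h1 := s1_cast hP hV (conjθ hV n hn θ) χ
  have h2 := s1_cast hP hV θ χ
  rw [sfun_conj hV n hn θ χ 1] at h1
  have h3 : (⟨n * ((1 : ↥(P : Subgroup G)) : G) * n⁻¹, conj_mem_P hn 1⟩ : ↥(P : Subgroup G)) = 1 := by
    apply Subtype.ext
    simp
  rw [h3, ← h2] at h1
  exact_mod_cast h1

theorem charDegree_conjθ (hV : IsPCompl P V) (n : G)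
    (hn : n ∈ Subgroup.normalizer ((P : Subgroup G) : Set G)) (θ : IrrCharacter ↥V) :
    charDegree (conjθ hV n hn θ : ↥V → ℂ) = charDegree (θ : ↥V → ℂ) := by
  unfold charDegree
  rw [conjθ_apply, map_one]

open scoped Classical in
/-- **(F3)** If the `θ'`-components of `χ` vanish on `P \ {1}` for all `θ'` not `N_G(P)`-conjugate to
`θ`, then `χ(1) ≡ |N_G(P) : T| θ(1) ⟨χ|_V, θ⟩ (mod p)`. -/
theorem degree_congr (hP : Nat.card P = p) (hV : IsPCompl P V) (θ : IrrCharacter ↥V)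
    (χ : IrrCharacter G)
    (hvan : ∀ θ' : IrrCharacter ↥V, ¬ IsConjθ hV θ θ' →
      ∀ h : ↥(P : Subgroup G), h ≠ 1 → sfun P V θ' χ h = 0) :
    ((charDegree (χ : G → ℂ) : ℕ) : ℤ) ≡
      (((stab hV θ).relIndex (Subgroup.normalizer ((P : Subgroup G) : Set G)) : ℕ) : ℤ) *
        ((charDegree (θ : ↥V → ℂ) : ℕ) : ℤ) * s1 hV θ χ [ZMOD p] := by
  rw [degree_eq_sum hP hV χ, ← ncard_conjθ hV θ,
    Set.ncard_eq_toFinset_card' {θ' : IrrCharacter ↥V | IsConjθ hV θ θ'}]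
  rw [← Finset.sum_filter_add_sum_filter_not Finset.univ (fun θ' => IsConjθ hV θ θ')]
  have h1 : ∑ θ' ∈ Finset.univ.filter (fun θ' => IsConjθ hV θ θ'),
      ((charDegree (θ' : ↥V → ℂ) : ℕ) : ℤ) * s1 hV θ' χ =
      (({θ' : IrrCharacter ↥V | IsConjθ hV θ θ'}.toFinset.card : ℕ) : ℤ) *
        ((charDegree (θ : ↥V → ℂ) : ℕ) : ℤ) * s1 hV θ χ := by
    have hc : ∀ θ' ∈ Finset.univ.filter (fun θ' => IsConjθ hV θ θ'),
        ((charDegree (θ' : ↥V → ℂ) : ℕ) : ℤ) * s1 hV θ' χ =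
          ((charDegree (θ : ↥V → ℂ) : ℕ) : ℤ) * s1 hV θ χ := by
      intro θ' hθ'
      obtain ⟨n, hn, rfl⟩ := (Finset.mem_filter.mp hθ').2
      rw [charDegree_conjθ, s1_conj hP]
    rw [Finset.sum_congr rfl hc, Finset.sum_const, nsmul_eq_mul]
    have : Finset.univ.filter (fun θ' => IsConjθ hV θ θ') =
        {θ' : IrrCharacter ↥V | IsConjθ hV θ θ'}.toFinset := by
      ext θ'
      simp
    rw [this]
    ring
  have h2 : ∑ θ' ∈ Finset.univ.filter (fun θ' => ¬ IsConjθ hV θ θ'),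
      ((charDegree (θ' : ↥V → ℂ) : ℕ) : ℤ) * s1 hV θ' χ ≡ 0 [ZMOD p] := by
    rw [Int.modEq_zero_iff_dvd]
    refine Finset.dvd_sum fun θ' hθ' => ?_
    have := s1_zero hP hV θ' χ (hvan θ' (Finset.mem_filter.mp hθ').2)
    exact Dvd.dvd.mul_left (Int.modEq_zero_iff_dvd.mp this) _
  rw [h1]
  have := Int.ModEq.add_left ((({θ' : IrrCharacter ↥V | IsConjθ hV θ θ'}.toFinset.card : ℕ) : ℤ) *
        ((charDegree (θ : ↥V → ℂ) : ℕ) : ℤ) * s1 hV θ χ) h2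
  rw [add_zero] at this
  exact this

end degree2

section regular

variable [Fintype ↥(P : Subgroup G)] [Fintype ↥V] [Fintype (↥(P : Subgroup G) →* ℂˣ)]

open scoped Classical in
/-- **(F4)** The exceptional characters on a `p`-regular element `g`, from the orthogonality
`∑_{χ ∈ X ∪ Y} sfun P V θ χ h * conj (χ g) = 0` (`h ∈ P \ {1}`). -/
theorem exceptional_reg (hP : Nat.card P = p) (hV : IsPCompl P V) (θ : IrrCharacter ↥V)
    (e : ℕ) (hepos : 0 < e)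
    (X Y : Finset (IrrCharacter G)) (εX : IrrCharacter G → ℤ) (ε : ℤ)
    (hdisj : Disjoint X Y)
    (hXp : ∀ χ ∈ X, (εX χ = 1 ∨ εX χ = -1) ∧
      ∀ φ : ↥(P : Subgroup G) →* ℂˣ, φ ≠ 1 → nng hV θ χ φ = - εX χ)
    (hYp : ∀ ψ ∈ Y, ∀ φ : ↥(P : Subgroup G) →* ℂˣ, φ ≠ 1 →
      nng hV θ ψ φ = 0 ∨ nng hV θ ψ φ = ε)
    (hYu : ∀ φ : ↥(P : Subgroup G) →* ℂˣ, φ ≠ 1 →
      ∃ ψ ∈ Y, nng hV θ ψ φ ≠ 0 ∧ ∀ ψ' ∈ Y, nng hV θ ψ' φ ≠ 0 → ψ' = ψ)
    (hYs : ∀ ψ ∈ Y, (Finset.univ.filter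
      (fun φ : ↥(P : Subgroup G) →* ℂˣ => nng hV θ ψ φ ≠ 0)).card = e)
    {g : G}
    (horth : ∀ h : ↥(P : Subgroup G), h ≠ 1 →
      ∑ χ ∈ X ∪ Y, sfun P V θ χ h * conj ((χ : G → ℂ) g) = 0)
    (ψ : IrrCharacter G) (hψ : ψ ∈ Y) :
    (ε : ℂ) * conj ((ψ : G → ℂ) g) = ∑ χ ∈ X, (εX χ : ℂ) * conj ((χ : G → ℂ) g) := by
  have hp0 : (p : ℂ) ≠ 0 := by exact_mod_cast hp.out.ne_zero
  set A : ℂ := ∑ χ ∈ X, (εX χ : ℂ) * conj ((χ : G → ℂ) g) with hA
  -- Step 1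
  have hstep1 : ∀ h : ↥(P : Subgroup G), h ≠ 1 →
      A + ∑ ψ' ∈ Y, sfun P V θ ψ' h * conj ((ψ' : G → ℂ) g) = 0 := by
    intro h hh
    have h1 := horth h hh
    rw [Finset.sum_union hdisj] at h1
    rw [← h1]
    congr 1
    refine Finset.sum_congr rfl fun χ hχ => ?_
    rw [sfun_X hP hV θ χ (εX χ) (hXp χ hχ).2 h hh]
  -- Step 2
  set c : (↥(P : Subgroup G) →* ℂˣ) → ℂ := fun φ =>
    (∑ ψ' ∈ Y, ((nng hV θ ψ' φ : ℤ) : ℂ) * conj ((ψ' : G → ℂ) g)) - (if φ = 1 then 0 else A)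
    with hcdef
  set F : ↥(P : Subgroup G) → ℂ := fun h =>
    ∑ φ : ↥(P : Subgroup G) →* ℂˣ, c φ * ((φ h : ℂˣ) : ℂ) with hFdef
  have hF : ∀ h : ↥(P : Subgroup G), h ≠ 1 → F h = 0 := by
    intro h hh
    simp only [hFdef, hcdef]
    simp_rw [sub_mul]
    rw [Finset.sum_sub_distrib]
    have e1 : ∑ φ : ↥(P : Subgroup G) →* ℂˣ,
        (∑ ψ' ∈ Y, ((nng hV θ ψ' φ : ℤ) : ℂ) * conj ((ψ' : G → ℂ) g)) * ((φ h : ℂˣ) : ℂ) =
        ∑ ψ' ∈ Y, sfun P V θ ψ' h * conj ((ψ' : G → ℂ) g) := by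
      simp_rw [Finset.sum_mul]
      rw [Finset.sum_comm]
      refine Finset.sum_congr rfl fun ψ' _ => ?_
      rw [value_eq_nn hP hV θ ψ' h hh, Finset.sum_mul]
      refine Finset.sum_congr rfl fun φ _ => ?_
      ring
    have e2 : ∑ φ : ↥(P : Subgroup G) →* ℂˣ,
        (if φ = 1 then 0 else A) * ((φ h : ℂˣ) : ℂ) = - A := by
      have e3 : ∀ φ : ↥(P : Subgroup G) →* ℂˣ, (if φ = 1 then 0 else A) * ((φ h : ℂˣ) : ℂ) =
          A * ((φ h : ℂˣ) : ℂ) - (if φ = 1 then A else 0) := by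
        intro φ
        split_ifs with hφ
        · rw [hφ]; simp
        · ring
      simp_rw [e3]
      rw [Finset.sum_sub_distrib, ← Finset.mul_sum,
        Cfsg.Agent.Lib.Helper25_AbDual.sum_hom_apply (comm_of_card P hP) h, if_neg hh,
        Finset.sum_ite_eq' Finset.univ (1 : ↥(P : Subgroup G) →* ℂˣ)]
      simp
    rw [e1, e2]
    have := hstep1 h hh
    rw [sub_neg_eq_add, add_comm]
    exact this
  -- Step 3
  have hcoef : ∀ φ : ↥(P : Subgroup G) →* ℂˣ, (p : ℂ) * c φ = F 1 := by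
    intro φ
    rw [← Cfsg.Agent.Lib.Helper16_BrauerFinal.fourier_coeff P hP c φ]
    rw [Finset.sum_eq_single (1 : ↥(P : Subgroup G))]
    · simp [hFdef]
    · intro h _ hh
      have := hF h hh
      simp only [hFdef] at this
      rw [this, zero_mul]
    · intro h
      exact absurd (Finset.mem_univ _) h
  have hc1 : c 1 = 0 := by
    simp only [hcdef, nng_one]
    simp
  have hF1 : F 1 = 0 := by rw [← hcoef 1, hc1, mul_zero]
  have hc0 : ∀ φ : ↥(P : Subgroup G) →* ℂˣ, c φ = 0 := by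
    intro φ
    have := hcoef φ
    rw [hF1] at this
    rcases mul_eq_zero.mp this with h | h
    · exact absurd h hp0
    · exact h
  -- Step 4
  have hne : (Finset.univ.filter
      (fun φ : ↥(P : Subgroup G) →* ℂˣ => nng hV θ ψ φ ≠ 0)).Nonempty := by
    rw [← Finset.card_pos, hYs ψ hψ]
    exact hepos
  obtain ⟨φ, hφ⟩ := hne
  have hφne : nng hV θ ψ φ ≠ 0 := (Finset.mem_filter.mp hφ).2
  have hφ1 : φ ≠ 1 := by
    rintro rfl
    exact hφne (nng_one hV θ ψ)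
  obtain ⟨ψ₀, hψ₀Y, hψ₀ne, hψ₀u⟩ := hYu φ hφ1
  have hψψ₀ : ψ = ψ₀ := hψ₀u ψ hψ hφne
  have hval : nng hV θ ψ φ = ε := by
    rcases hYp ψ hψ φ hφ1 with h | h
    · exact absurd h hφne
    · exact h
  have hsum : ∑ ψ' ∈ Y, ((nng hV θ ψ' φ : ℤ) : ℂ) * conj ((ψ' : G → ℂ) g) =
      (ε : ℂ) * conj ((ψ : G → ℂ) g) := by
    rw [Finset.sum_eq_single_of_mem ψ hψ]
    · rw [hval]
    · intro ψ' hψ' hne
      have : nng hV θ ψ' φ = 0 := by
        by_contra h0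
        exact hne ((hψ₀u ψ' hψ' h0).trans hψψ₀.symm)
      rw [this]
      simp
  have := hc0 φ
  simp only [hcdef, if_neg hφ1] at this
  rw [hsum] at this
  exact sub_eq_zero.mp this

end regular

end Cfsg.Agent.Lib.Helper16_GenFinal
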