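import Mathlib
import Cfsg.Prelude.Def_Blocks
import Cfsg.Agent.Lib.Helper16_Char
import Cfsg.Agent.Lib.Helper16_BrauerSetup

/-!
# Sylow subgroup of prime order: power maps and non-vanishing (helper16)

* `exists_value_ne_zero` : a member of the principal block does not vanish identically on
  `P \ {1}`;
* `mult_twist`, `nn_twist` : the multiplicities of `g ↦ χ (g ^ k)` on `P` are those of `χ`
  permuted by `φ ↦ φ ^ l` (`k l ≡ 1`);
* `powPerm` : the permutation `φ ↦ φ ^ l` of the nontrivial linear characters of `P`.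
-/

set_option autoImplicit false
set_option linter.unusedSectionVars false

namespace Cfsg.Agent.Lib.Helper16_BrauerGal

open Cfsg Cfsg.Agent.Lib.Helper16_BrauerSetup
open scoped ComplexConjugate

variable {G : Type*} [Group G] [Fintype G] {p : ℕ} [hp : Fact p.Prime] (P : Sylow p G)
  {M : Ideal AlgInt}

/-- A member of the principal block does not vanish on all of `P \ {1}`. -/
theorem exists_value_ne_zero (hM : IsPModular p M) (hP : Nat.card P = p) (χ : IrrCharacter G)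
    (hχ : χ ∈ principalBlock M G) :
    ∃ h : ↥(P : Subgroup G), h ≠ 1 ∧ (χ : G → ℂ) h ≠ 0 := by
  by_contra hcon
  push Not at hcon
  have hnt : Nontrivial ↥(P : Subgroup G) := by
    rw [← Finite.one_lt_card_iff_nontrivial, hP]
    exact hp.out.one_lt
  obtain ⟨x, hx⟩ := exists_ne (1 : ↥(P : Subgroup G))
  have hχx : (χ : G → ℂ) (x : G) = 0 := hcon x hx
  have hsame : MemLocalIdeal M (centralChar (fun _ : G => (1 : ℂ)) (x : G) -
      centralChar (χ : G → ℂ) (x : G)) := hχ (x : G)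
  unfold centralChar at hsame
  rw [hχx, mul_zero, zero_div, sub_zero, mul_one, div_one] at hsame
  refine Cfsg.Agent.Lib.Helper16_Char.natCast_not_memLocalIdeal p M hM _ ?_ hsame
  intro hdvd
  have hle : (P : Subgroup G) ≤ Subgroup.centralizer ({(x : G)} : Set G) := by
    intro a ha
    rw [Subgroup.mem_centralizer_iff]
    intro b hb
    rw [Set.mem_singleton_iff.mp hb]
    have := comm_of_card P hP x ⟨a, ha⟩
    exact congrArg Subtype.val this
  exact P.not_dvd_index (dvd_trans hdvd (Subgroup.index_dvd_of_le hle))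

/-- `(g ^ k) ^ l = g` when `k l ≡ 1` modulo the group order. -/
theorem pow_pow_eq_self {k l : ℕ} (hkl : k * l ≡ 1 [MOD Nat.card G]) (g : G) :
    (g ^ k) ^ l = g := by
  rw [← pow_mul]
  have h1 : k * l ≡ 1 [MOD orderOf g] := hkl.of_dvd (orderOf_dvd_natCard g)
  have := (pow_eq_pow_iff_modEq (x := g)).mpr h1
  rw [this, pow_one]

theorem pow_pow_eq_self' {k l : ℕ} (hkl : k * l ≡ 1 [MOD Nat.card G]) (g : G) :
    (g ^ l) ^ k = g := by
  rw [← pow_mul, mul_comm, pow_mul]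
  exact pow_pow_eq_self hkl g

/-- The power map on `P`. -/
def powEquiv {k l : ℕ} (hkl : k * l ≡ 1 [MOD Nat.card G]) :
    ↥(P : Subgroup G) ≃ ↥(P : Subgroup G) where
  toFun h := h ^ l
  invFun h := h ^ k
  left_inv h := by
    apply Subtype.ext
    push_cast
    exact pow_pow_eq_self' hkl (h : G)
  right_inv h := by
    apply Subtype.ext
    push_cast
    exact pow_pow_eq_self hkl (h : G)

section mult

variable [Fintype ↥(P : Subgroup G)]

/-- Multiplicities of a Galois conjugate. -/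
theorem mult_twist {k l : ℕ} (hkl : k * l ≡ 1 [MOD Nat.card G]) {χ χ' : IrrCharacter G}
    (hχ : ∀ g, (χ' : G → ℂ) g = (χ : G → ℂ) (g ^ k)) (φ : ↥(P : Subgroup G) →* ℂˣ) :
    mult P χ' φ = mult P χ (φ ^ l) := by
  have h1 := mult_spec P χ' φ
  have h2 := mult_spec P χ (φ ^ l)
  have h3 : classInner (resP P χ') (fun h => ((φ h : ℂˣ) : ℂ)) =
      classInner (resP P χ) (fun h => (((φ ^ l) h : ℂˣ) : ℂ)) := by
    unfold classInner
    congr 1
    rw [← Equiv.sum_comp (powEquiv P hkl)]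
    refine Finset.sum_congr rfl fun h _ => ?_
    have e1 : resP P χ' ((powEquiv P hkl) h) = resP P χ h := by
      show (χ' : G → ℂ) ((h ^ l : ↥(P : Subgroup G)) : G) = (χ : G → ℂ) h
      rw [hχ]
      push_cast
      rw [pow_pow_eq_self' hkl]
    have e2 : ((φ ((powEquiv P hkl) h) : ℂˣ) : ℂ) = (((φ ^ l) h : ℂˣ) : ℂ) := by
      show ((φ (h ^ l) : ℂˣ) : ℂ) = _
      rw [map_pow, MonoidHom.pow_apply]
    show resP P χ' ((powEquiv P hkl) h) * conj ((φ ((powEquiv P hkl) h) : ℂˣ) : ℂ) =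
      resP P χ h * conj (((φ ^ l) h : ℂˣ) : ℂ)
    rw [e1, e2]
  rw [h1, h2] at h3
  exact_mod_cast h3

theorem nn_twist {k l : ℕ} (hkl : k * l ≡ 1 [MOD Nat.card G]) {χ χ' : IrrCharacter G}
    (hχ : ∀ g, (χ' : G → ℂ) g = (χ : G → ℂ) (g ^ k)) (φ : ↥(P : Subgroup G) →* ℂˣ) :
    nn P χ' φ = nn P χ (φ ^ l) := by
  unfold nn
  have h1 : ((1 : ↥(P : Subgroup G) →* ℂˣ)) ^ l = 1 := one_pow (M := ↥(P : Subgroup G) →* ℂˣ) l
  rw [mult_twist P hkl hχ φ, mult_twist P hkl hχ 1, h1]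

end mult

/-- `φ ^ p = 1` for a linear character of `P`. -/
theorem hom_pow_card (hP : Nat.card P = p) (φ : ↥(P : Subgroup G) →* ℂˣ) : φ ^ p = 1 := by
  ext h
  rw [MonoidHom.pow_apply, ← map_pow]
  have : h ^ p = 1 := by
    have h0 : h ^ Nat.card ↥(P : Subgroup G) = 1 := pow_card_eq_one'
    rwa [hP] at h0
  rw [this, map_one]
  rfl

theorem hom_pow_pow (hP : Nat.card P = p) {k l : ℕ} (hkl : k * l ≡ 1 [MOD Nat.card G])
    (φ : ↥(P : Subgroup G) →* ℂˣ) : (φ ^ k) ^ l = φ := by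
  have hpdvd : p ∣ Nat.card G := by
    rw [← hP]
    exact Subgroup.card_subgroup_dvd_card _
  have h1 : k * l ≡ 1 [MOD p] := hkl.of_dvd hpdvd
  have h2 : orderOf φ ∣ p := orderOf_dvd_of_pow_eq_one (hom_pow_card P hP φ)
  have h3 : k * l ≡ 1 [MOD orderOf φ] := h1.of_dvd h2
  have h4 : φ ^ (k * l) = φ ^ 1 := (pow_eq_pow_iff_modEq (x := φ)).mpr h3
  calc (φ ^ k) ^ l = φ ^ (k * l) := (pow_mul φ k l).symm
    _ = φ ^ 1 := h4
    _ = φ := pow_one φ

/-- The permutation `φ ↦ φ ^ l` of the nontrivial linear characters of `P`. -/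
def powPerm (hP : Nat.card P = p) {k l : ℕ} (hkl : k * l ≡ 1 [MOD Nat.card G]) :
    Equiv.Perm {φ : ↥(P : Subgroup G) →* ℂˣ // φ ≠ 1} where
  toFun φ := ⟨φ.1 ^ l, fun h => φ.2 (by
    have := hom_pow_pow P hP (k := l) (l := k) (by rwa [mul_comm]) φ.1
    rw [← this, h]
    exact one_pow (M := ↥(P : Subgroup G) →* ℂˣ) k)⟩
  invFun φ := ⟨φ.1 ^ k, fun h => φ.2 (by
    have := hom_pow_pow P hP hkl φ.1
    rw [← this, h]
    exact one_pow (M := ↥(P : Subgroup G) →* ℂˣ) l)⟩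
  left_inv φ := by
    apply Subtype.ext
    exact hom_pow_pow P hP (k := l) (l := k) (by rwa [mul_comm]) φ.1
  right_inv φ := by
    apply Subtype.ext
    exact hom_pow_pow P hP hkl φ.1

@[simp] theorem powPerm_apply (hP : Nat.card P = p) {k l : ℕ}
    (hkl : k * l ≡ 1 [MOD Nat.card G]) (φ : {φ : ↥(P : Subgroup G) →* ℂˣ // φ ≠ 1}) :
    ((powPerm P hP hkl φ : {φ : ↥(P : Subgroup G) →* ℂˣ // φ ≠ 1}) :
      ↥(P : Subgroup G) →* ℂˣ) = φ.1 ^ l := rfl

end Cfsg.Agent.Lib.Helper16_BrauerGal
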