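import Mathlib
import Cfsg.Prelude.Def_Blocks
import Cfsg.Agent.Lib.Helper16_BrauerSetup
import Cfsg.Agent.Lib.Helper16_BrauerGal
import Cfsg.Agent.Lib.Helper16_GenSetup

/-!
# Blocks of defect one, general root: power maps (helper16)

For `k` coprime to `|G|` with `k ≡ 1` modulo the `p'`-part of `|G|` (a `p`-conjugation) and
`χ' = χ ∘ (· ^ k)`:

* `sfun_twist` : `s_{χ'}(h) = s_χ(h ^ k)`;
* `multg_twist`, `nng_twist` : the multiplicities of `χ'` are those of `χ` permuted by `φ ↦ φ ^ l`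
  (`k l ≡ 1`);
* `mem_BGen_twist` : `BGen` is stable.
-/

set_option autoImplicit false
set_option linter.unusedSectionVars false

namespace Cfsg.Agent.Lib.Helper16_GenGal

open Cfsg Cfsg.Agent.Lib.Helper16_BrauerSetup Cfsg.Agent.Lib.Helper16_BrauerGal
  Cfsg.Agent.Lib.Helper16_GenSetup
open scoped ComplexConjugate

variable {G : Type*} [Group G] [Fintype G] {p : ℕ} [hp : Fact p.Prime] {P : Sylow p G}
  {V : Subgroup G}

/-- `|V|` divides the `p'`-part of `|G|`. -/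
theorem card_V_dvd (hV : IsPCompl P V) :
    Nat.card V ∣ Nat.card G / p ^ (Nat.card G).factorization p := by
  have h1 : Nat.card V ∣ Nat.card G := Subgroup.card_subgroup_dvd_card V
  have h2 : Nat.card G = p ^ (Nat.card G).factorization p *
      (Nat.card G / p ^ (Nat.card G).factorization p) :=
    (Nat.ordProj_mul_ordCompl_eq_self (Nat.card G) p).symm
  rw [h2] at h1
  exact (Nat.Coprime.pow_right _ hV.coprime).dvd_of_dvd_mul_left h1

/-- A `p`-conjugation fixes the elements of `V`. -/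
theorem pow_eq_self_of_mem (hV : IsPCompl P V) {k : ℕ}
    (hk1 : k ≡ 1 [MOD Nat.card G / p ^ (Nat.card G).factorization p]) (v : ↥V) :
    (v : G) ^ k = (v : G) := by
  have h1 : orderOf (v : G) ∣ Nat.card V := Subgroup.orderOf_dvd_natCard V v.2
  have h2 : k ≡ 1 [MOD orderOf (v : G)] := hk1.of_dvd (h1.trans (card_V_dvd hV))
  have := (pow_eq_pow_iff_modEq (x := (v : G))).mpr h2
  rw [this, pow_one]

section twist

variable [Fintype ↥V]

/-- The `θ`-component of a `p`-conjugate. -/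
theorem sfun_twist (hV : IsPCompl P V) (θ : IrrCharacter ↥V) {k : ℕ}
    (hk1 : k ≡ 1 [MOD Nat.card G / p ^ (Nat.card G).factorization p])
    {χ χ' : IrrCharacter G} (hχ : ∀ g, (χ' : G → ℂ) g = (χ : G → ℂ) (g ^ k))
    (h : ↥(P : Subgroup G)) :
    sfun P V θ χ' h = sfun P V θ χ (h ^ k) := by
  unfold sfun
  congr 1
  refine Finset.sum_congr rfl fun v _ => ?_
  rw [hχ, (hV.commute h v).mul_pow, pow_eq_self_of_mem hV hk1 v]
  push_cast
  rfl

variable [Fintype ↥(P : Subgroup G)]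

/-- Multiplicities of a `p`-conjugate. -/
theorem multg_twist (hV : IsPCompl P V) (θ : IrrCharacter ↥V) {k l : ℕ}
    (hkl : k * l ≡ 1 [MOD Nat.card G])
    (hk1 : k ≡ 1 [MOD Nat.card G / p ^ (Nat.card G).factorization p])
    {χ χ' : IrrCharacter G} (hχ : ∀ g, (χ' : G → ℂ) g = (χ : G → ℂ) (g ^ k))
    (φ : ↥(P : Subgroup G) →* ℂˣ) :
    multg hV θ χ' φ = multg hV θ χ (φ ^ l) := by
  have h1 := multg_spec hV θ χ' φ
  have h2 := multg_spec hV θ χ (φ ^ l)
  have h3 : classInner (sfun P V θ χ') (fun h => ((φ h : ℂˣ) : ℂ)) =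
      classInner (sfun P V θ χ) (fun h => (((φ ^ l) h : ℂˣ) : ℂ)) := by
    unfold classInner
    congr 1
    rw [← Equiv.sum_comp (powEquiv P hkl)]
    refine Finset.sum_congr rfl fun h _ => ?_
    have e1 : sfun P V θ χ' ((powEquiv P hkl) h) = sfun P V θ χ h := by
      rw [sfun_twist hV θ hk1 hχ]
      congr 1
      apply Subtype.ext
      show (((h ^ l : ↥(P : Subgroup G)) ^ k : ↥(P : Subgroup G)) : G) = (h : G)
      push_cast
      exact pow_pow_eq_self' hkl (h : G)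
    have e2 : ((φ ((powEquiv P hkl) h) : ℂˣ) : ℂ) = (((φ ^ l) h : ℂˣ) : ℂ) := by
      show ((φ (h ^ l) : ℂˣ) : ℂ) = _
      rw [map_pow, MonoidHom.pow_apply]
    show sfun P V θ χ' ((powEquiv P hkl) h) * conj ((φ ((powEquiv P hkl) h) : ℂˣ) : ℂ) =
      sfun P V θ χ h * conj (((φ ^ l) h : ℂˣ) : ℂ)
    rw [e1, e2]
  rw [h1, h2] at h3
  exact_mod_cast h3

theorem nng_twist (hV : IsPCompl P V) (θ : IrrCharacter ↥V) {k l : ℕ}
    (hkl : k * l ≡ 1 [MOD Nat.card G])
    (hk1 : k ≡ 1 [MOD Nat.card G / p ^ (Nat.card G).factorization p])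
    {χ χ' : IrrCharacter G} (hχ : ∀ g, (χ' : G → ℂ) g = (χ : G → ℂ) (g ^ k))
    (φ : ↥(P : Subgroup G) →* ℂˣ) :
    nng hV θ χ' φ = nng hV θ χ (φ ^ l) := by
  unfold nng
  have h1 : ((1 : ↥(P : Subgroup G) →* ℂˣ)) ^ l = 1 := one_pow (M := ↥(P : Subgroup G) →* ℂˣ) l
  rw [multg_twist hV θ hkl hk1 hχ φ, multg_twist hV θ hkl hk1 hχ 1, h1]

/-- `BGen` is stable under `p`-conjugation. -/
theorem mem_BGen_twist (hV : IsPCompl P V) (θ : IrrCharacter ↥V) {k l : ℕ}
    (hkl : k * l ≡ 1 [MOD Nat.card G])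
    (hk1 : k ≡ 1 [MOD Nat.card G / p ^ (Nat.card G).factorization p])
    {χ χ' : IrrCharacter G} (hχ : ∀ g, (χ' : G → ℂ) g = (χ : G → ℂ) (g ^ k))
    (hB : χ ∈ BGen P V θ) : χ' ∈ BGen P V θ := by
  obtain ⟨h, hh, hne⟩ := hB
  have hback : (h ^ l) ^ k = h := by
    apply Subtype.ext
    push_cast
    exact pow_pow_eq_self' hkl (h : G)
  refine ⟨h ^ l, ?_, ?_⟩
  · intro hc
    rw [hc, one_pow] at hback
    exact hh hback.symm
  · rw [sfun_twist hV θ hk1 hχ, hback]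
    exact hne

end twist

end Cfsg.Agent.Lib.Helper16_GenGal
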