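import Mathlib
import Cfsg.Prelude.Def_Blocks
import Cfsg.Agent.Lib.Helper25_AbDual
import Cfsg.Agent.Lib.Helper16_BrauerSetup
import Cfsg.Agent.Lib.Helper16_BrauerAut
import Cfsg.Agent.Lib.Helper16_GenSetup
import Cfsg.Agent.Lib.Helper16_GenK

/-!
# Blocks of defect one, general root: the automizer of `θ` and the two norm identities (helper16)

`autT hV θ` is the image in `Aut P` of the stabilizer `T` of `θ` in `N_G(P)`; it has order
`e = |T : C_G(P)|`.  With `nng` the multiplicities of `GenSetup`: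

* `sum_nn_sq` : `∑_χ (nng χ μ)² = e + 1` for `μ ≠ 1`;
* `sum_rowsum_sq` : `∑_χ (∑_φ nng χ φ)² = e p (p - 1)`.

Both sums are over all irreducible characters of `G`; the terms outside `BGen P V θ` vanish
(`nng_eq_zero`).
-/

set_option autoImplicit false
set_option linter.unusedSectionVars false

namespace Cfsg.Agent.Lib.Helper16_GenNorm

open Cfsg Cfsg.Agent.Lib.Helper16_BrauerSetup Cfsg.Agent.Lib.Helper16_BrauerAut
  Cfsg.Agent.Lib.Helper16_GenSetup Cfsg.Agent.Lib.Helper16_GenK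
open scoped ComplexConjugate

variable {G : Type*} [Group G] [Fintype G] {p : ℕ} [hp : Fact p.Prime] {P : Sylow p G}
  {V : Subgroup G}

/-- The automizer of `θ`: the image of its stabilizer in `Aut P`. -/
def autT (hV : IsPCompl P V) (θ : IrrCharacter ↥V) : Subgroup (MulAut ↥(P : Subgroup G)) :=
  ((stab hV θ).subgroupOf (Subgroup.normalizer ((P : Subgroup G) : Set G))).map
    (P : Subgroup G).normalizerMonoidHom

theorem mem_autT_iff (hV : IsPCompl P V) (θ : IrrCharacter ↥V) (α : MulAut ↥(P : Subgroup G)) :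
    α ∈ autT hV θ ↔ ∃ n ∈ stab hV θ, ∀ h : ↥(P : Subgroup G), ((α h : ↥(P : Subgroup G)) : G) =
      n * (h : G) * n⁻¹ := by
  constructor
  · rintro ⟨n, hn, rfl⟩
    exact ⟨(n : G), Subgroup.mem_subgroupOf.mp hn, fun h => rfl⟩
  · rintro ⟨n, hn, hα⟩
    refine ⟨⟨n, stab_le_normalizer hV θ hn⟩, Subgroup.mem_subgroupOf.mpr hn, ?_⟩
    ext h
    exact (hα h).symm

theorem card_autT (hV : IsPCompl P V) (θ : IrrCharacter ↥V) (e : ℕ)
    (he : (Subgroup.centralizer ((P : Subgroup G) : Set G)).relIndex (stab hV θ) = e) :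
    Nat.card (autT hV θ) = e := by
  unfold autT
  rw [← Subgroup.relIndex_ker, Subgroup.normalizerMonoidHom_ker,
    Subgroup.relIndex_subgroupOf (stab_le_normalizer hV θ)]
  exact he

theorem autT_le_autP (hV : IsPCompl P V) (θ : IrrCharacter ↥V) : autT hV θ ≤ autP P := by
  rintro α ⟨n, -, rfl⟩
  exact ⟨n, rfl⟩

/-- `e` divides `p - 1`. -/
theorem e_dvd (hP : Nat.card P = p) (hV : IsPCompl P V) (θ : IrrCharacter ↥V) (e : ℕ)
    (he : (Subgroup.centralizer ((P : Subgroup G) : Set G)).relIndex (stab hV θ) = e) :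
    e ∣ p - 1 := by
  have hc : IsCyclic ↥(P : Subgroup G) := isCyclic_of_prime_card hP
  have h1 : Nat.card (MulAut ↥(P : Subgroup G)) = p - 1 := by
    rw [hc.card_mulAut, hP, Nat.totient_prime hp.out]
  rw [← card_autT hV θ e he, ← h1]
  exact Subgroup.card_subgroup_dvd_card _

/-- Sums over the `T`-conjugates of `h` in `P` are sums over the automizer of `θ`. -/
theorem sum_stab_eq_sum_autT (hP : Nat.card P = p) (hV : IsPCompl P V) (θ : IrrCharacter ↥V)
    [Fintype ↥(P : Subgroup G)] [Fintype (autT hV θ)] {h : ↥(P : Subgroup G)} (hh : h ≠ 1)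
    (F : ↥(P : Subgroup G) → ℂ) :
    open scoped Classical in
    ∑ h' : ↥(P : Subgroup G),
      (if ∃ n ∈ stab hV θ, n * (h : G) * n⁻¹ = (h' : G) then F h' else 0) =
      ∑ α : autT hV θ, F (α.1 h) := by
  classical
  rw [← Finset.sum_filter]
  symm
  apply Finset.sum_bij (fun (α : autT hV θ) _ => α.1 h)
  · intro α _
    obtain ⟨n, hn, hα⟩ := (mem_autT_iff hV θ α.1).mp α.2
    exact Finset.mem_filter.mpr ⟨Finset.mem_univ _, n, hn, (hα h).symm⟩
  · intro α _ β _ hαβ
    exact Subtype.ext (aut_eq_of_apply P hP hh hαβ)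
  · intro h' hh'
    obtain ⟨n, hn, hnh⟩ := (Finset.mem_filter.mp hh').2
    have hnN := stab_le_normalizer hV θ hn
    refine ⟨⟨(P : Subgroup G).normalizerMonoidHom ⟨n, hnN⟩,
      (mem_autT_iff hV θ _).mpr ⟨n, hn, fun z => rfl⟩⟩, Finset.mem_univ _, ?_⟩
    apply Subtype.ext
    exact hnh
  · intro α _
    rfl

section norm

variable [Fintype ↥(P : Subgroup G)] [Fintype ↥V]

/-- The linear functional `χ ↦ ∑_h s_χ h * w h`. -/
noncomputable def LLg (θ : IrrCharacter ↥V) (w : ↥(P : Subgroup G) → ℂ) (χ : IrrCharacter G) : ℂ :=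
  ∑ h : ↥(P : Subgroup G), sfun P V θ χ h * w h

/-- The Gram form on functionals supported on `P \ {1}`. -/
theorem sum_LLg_mul_conj (hP : Nat.card P = p) (hV : IsPCompl P V) (θ : IrrCharacter ↥V)
    [Fintype (autT hV θ)]
    (w w' : ↥(P : Subgroup G) → ℂ) (hw : w 1 = 0) :
    ∑ χ : IrrCharacter G, LLg θ w χ * conj (LLg θ w' χ) =
      (p : ℂ) * ∑ α : autT hV θ, ∑ h : ↥(P : Subgroup G), w h * conj (w' (α.1 h)) := by
  classical
  -- expand
  have h1 : ∀ χ : IrrCharacter G, LLg θ w χ * conj (LLg θ w' χ) =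
      ∑ h : ↥(P : Subgroup G), ∑ h' : ↥(P : Subgroup G),
        w h * conj (w' h') * (sfun P V θ χ h * conj (sfun P V θ χ h')) := by
    intro χ
    unfold LLg
    rw [map_sum, Finset.sum_mul_sum]
    refine Finset.sum_congr rfl fun h _ => Finset.sum_congr rfl fun h' _ => ?_
    rw [map_mul]
    ring
  have h2 : ∑ χ : IrrCharacter G, LLg θ w χ * conj (LLg θ w' χ) =
      ∑ h : ↥(P : Subgroup G), ∑ h' : ↥(P : Subgroup G), w h * conj (w' h') *
        ∑ χ : IrrCharacter G, sfun P V θ χ h * conj (sfun P V θ χ h') := by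
    calc ∑ χ : IrrCharacter G, LLg θ w χ * conj (LLg θ w' χ)
        = ∑ χ : IrrCharacter G, ∑ h : ↥(P : Subgroup G), ∑ h' : ↥(P : Subgroup G),
          w h * conj (w' h') * (sfun P V θ χ h * conj (sfun P V θ χ h')) :=
          Finset.sum_congr rfl fun χ _ => h1 χ
      _ = ∑ h : ↥(P : Subgroup G), ∑ χ : IrrCharacter G, ∑ h' : ↥(P : Subgroup G),
          w h * conj (w' h') * (sfun P V θ χ h * conj (sfun P V θ χ h')) := Finset.sum_comm
      _ = ∑ h : ↥(P : Subgroup G), ∑ h' : ↥(P : Subgroup G), ∑ χ : IrrCharacter G,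
          w h * conj (w' h') * (sfun P V θ χ h * conj (sfun P V θ χ h')) :=
          Finset.sum_congr rfl fun h _ => Finset.sum_comm
      _ = _ := by
          refine Finset.sum_congr rfl fun h _ => Finset.sum_congr rfl fun h' _ => ?_
          rw [Finset.mul_sum]
  rw [h2]
  -- evaluate the inner sums
  have h3 : ∀ h : ↥(P : Subgroup G), ∑ h' : ↥(P : Subgroup G), w h * conj (w' h') *
        ∑ χ : IrrCharacter G, sfun P V θ χ h * conj (sfun P V θ χ h') =
      (p : ℂ) * ∑ α : autT hV θ, w h * conj (w' (α.1 h)) := by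
    intro h
    by_cases hh : h = 1
    · rw [hh, hw]
      simp
    · have h4 : ∀ h' : ↥(P : Subgroup G), w h * conj (w' h') *
          ∑ χ : IrrCharacter G, sfun P V θ χ h * conj (sfun P V θ χ h') =
          if ∃ n ∈ stab hV θ, n * (h : G) * n⁻¹ = (h' : G) then
            (p : ℂ) * (w h * conj (w' h')) else 0 := by
        intro h'
        rw [K_formula hP hV θ hh h']
        split_ifs
        · ring
        · ring
      simp_rw [h4]
      rw [sum_stab_eq_sum_autT hP hV θ hh (fun h' => (p : ℂ) * (w h * conj (w' h'))),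
        Finset.mul_sum]
  simp_rw [h3]
  rw [← Finset.mul_sum, Finset.sum_comm]

variable [Fintype (↥(P : Subgroup G) →* ℂˣ)]

/-- **(A)**: `∑_χ (nng χ μ)² = e + 1`. -/
theorem sum_nn_sq (hP : Nat.card P = p) (hV : IsPCompl P V) (θ : IrrCharacter ↥V) (e : ℕ)
    (he : (Subgroup.centralizer ((P : Subgroup G) : Set G)).relIndex (stab hV θ) = e)
    (μ : ↥(P : Subgroup G) →* ℂˣ) (hμ : μ ≠ 1) :
    ∑ χ : IrrCharacter G, ((nng hV θ χ μ : ℤ) : ℂ) ^ 2 = (e : ℂ) + 1 := by
  classical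
  have hfin : Fintype (autT hV θ) := Fintype.ofFinite _
  have hp0 : (p : ℂ) ≠ 0 := by exact_mod_cast hp.out.ne_zero
  set w : ↥(P : Subgroup G) → ℂ := fun h => conj ((μ h : ℂˣ) : ℂ) - 1 with hwdef
  have hw1 : w 1 = 0 := by simp [hwdef]
  have hnn : ∀ χ : IrrCharacter G, ((nng hV θ χ μ : ℤ) : ℂ) ^ 2 =
      (p : ℂ)⁻¹ * (p : ℂ)⁻¹ * (LLg θ w χ * conj (LLg θ w χ)) := by
    intro χ
    have h1 := nng_eq hP hV θ χ μ
    have h2 : conj ((nng hV θ χ μ : ℤ) : ℂ) = ((nng hV θ χ μ : ℤ) : ℂ) :=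
      map_intCast (starRingEnd ℂ) _
    have h3 : ((nng hV θ χ μ : ℤ) : ℂ) = (p : ℂ)⁻¹ * LLg θ w χ := h1
    calc ((nng hV θ χ μ : ℤ) : ℂ) ^ 2
        = ((nng hV θ χ μ : ℤ) : ℂ) * conj ((nng hV θ χ μ : ℤ) : ℂ) := by
          rw [h2]; ring
      _ = (p : ℂ)⁻¹ * LLg θ w χ * conj ((p : ℂ)⁻¹ * LLg θ w χ) := by rw [h3]
      _ = _ := by
          rw [map_mul, map_inv₀, Complex.conj_natCast]
          ring
  have h5 : ∑ χ : IrrCharacter G, ((nng hV θ χ μ : ℤ) : ℂ) ^ 2 =
      (p : ℂ)⁻¹ * (p : ℂ)⁻¹ * ∑ χ : IrrCharacter G, LLg θ w χ * conj (LLg θ w χ) := by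
    rw [Finset.mul_sum]
    exact Finset.sum_congr rfl fun χ _ => hnn χ
  rw [h5, sum_LLg_mul_conj hP hV θ w w hw1]
  have h6 : ∀ α : autT hV θ, ∑ h : ↥(P : Subgroup G), w h * conj (w (α.1 h)) =
      (if α.1 = 1 then (p : ℂ) else 0) + p := by
    intro α
    rw [← sum_twist P hP hμ α.1]
    refine Finset.sum_congr rfl fun h _ => ?_
    simp only [hwdef, map_sub, map_one, Complex.conj_conj]
  simp_rw [h6]
  rw [Finset.sum_add_distrib, Finset.sum_const, Finset.card_univ, nsmul_eq_mul]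
  have h7 : ∑ α : autT hV θ, (if α.1 = 1 then (p : ℂ) else 0) = p := by
    rw [Finset.sum_eq_single (⟨1, (autT hV θ).one_mem⟩ : autT hV θ)]
    · simp
    · intro α _ hα
      rw [if_neg]
      intro h
      exact hα (Subtype.ext h)
    · intro h
      exact absurd (Finset.mem_univ _) h
  have h8 : (Fintype.card (autT hV θ) : ℂ) = e := by
    rw [← Nat.card_eq_fintype_card, card_autT hV θ e he]
  rw [h7, h8]
  field_simp
  ring

/-- **(B)**: `∑_χ (∑_φ nng χ φ)² = e p (p - 1)`. -/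
theorem sum_rowsum_sq (hP : Nat.card P = p) (hV : IsPCompl P V) (θ : IrrCharacter ↥V) (e : ℕ)
    (he : (Subgroup.centralizer ((P : Subgroup G) : Set G)).relIndex (stab hV θ) = e) :
    ∑ χ : IrrCharacter G,
        (∑ φ : ↥(P : Subgroup G) →* ℂˣ, ((nng hV θ χ φ : ℤ) : ℂ)) ^ 2 =
      (e : ℂ) * p * ((p : ℂ) - 1) := by
  classical
  have hfin : Fintype (autT hV θ) := Fintype.ofFinite _
  have hp0 : (p : ℂ) ≠ 0 := by exact_mod_cast hp.out.ne_zero
  have hcardP : (Fintype.card ↥(P : Subgroup G) : ℂ) = p := by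
    rw [← Nat.card_eq_fintype_card]
    exact_mod_cast hP
  set w : ↥(P : Subgroup G) → ℂ := fun h => if h = 1 then 0 else 1 with hwdef
  have hw1 : w 1 = 0 := by simp [hwdef]
  have hwconj : ∀ h, conj (w h) = w h := by
    intro h
    simp only [hwdef]
    split_ifs <;> simp
  -- the row sum
  have hrow : ∀ χ : IrrCharacter G,
      ∑ φ : ↥(P : Subgroup G) →* ℂˣ, ((nng hV θ χ φ : ℤ) : ℂ) = - LLg θ w χ := by
    intro χ
    simp_rw [nng_eq hP hV θ χ]
    rw [← Finset.mul_sum, Finset.sum_comm]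
    have h1 : ∀ h : ↥(P : Subgroup G), ∑ φ : ↥(P : Subgroup G) →* ℂˣ,
        sfun P V θ χ h * (conj ((φ h : ℂˣ) : ℂ) - 1) = - (p : ℂ) * (sfun P V θ χ h * w h) := by
      intro h
      rw [← Finset.mul_sum, Finset.sum_sub_distrib, ← map_sum,
        Cfsg.Agent.Lib.Helper25_AbDual.sum_hom_apply (comm_of_card P hP) h]
      have hc : (Fintype.card (↥(P : Subgroup G) →* ℂˣ) : ℂ) = p := by
        rw [← Nat.card_eq_fintype_card,
          Cfsg.Agent.Lib.Helper25_AbDual.card_hom (comm_of_card P hP)]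
        exact_mod_cast hP
      simp only [Finset.sum_const, Finset.card_univ, nsmul_eq_mul, mul_one, hc, hwdef]
      have hP' : (Nat.card ↥(P : Subgroup G) : ℂ) = p := by exact_mod_cast hP
      split_ifs with hh
      · rw [hP', Complex.conj_natCast]; ring
      · rw [map_zero]; ring
    simp_rw [h1]
    rw [← Finset.mul_sum]
    unfold LLg
    field_simp
  have h5 : ∑ χ : IrrCharacter G,
        (∑ φ : ↥(P : Subgroup G) →* ℂˣ, ((nng hV θ χ φ : ℤ) : ℂ)) ^ 2 =
      ∑ χ : IrrCharacter G, LLg θ w χ * conj (LLg θ w χ) := by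
    refine Finset.sum_congr rfl fun χ _ => ?_
    have hreal : conj (LLg θ w χ) = LLg θ w χ := by
      have h2 : LLg θ w χ = - ∑ φ : ↥(P : Subgroup G) →* ℂˣ, ((nng hV θ χ φ : ℤ) : ℂ) := by
        rw [hrow χ]; ring
      rw [h2, map_neg, map_sum]
      simp only [map_intCast]
    rw [hreal, hrow χ]
    ring
  rw [h5, sum_LLg_mul_conj hP hV θ w w hw1]
  have h6 : ∀ α : autT hV θ, ∑ h : ↥(P : Subgroup G), w h * conj (w (α.1 h)) = (p : ℂ) - 1 := by
    intro α
    have h7 : ∀ h : ↥(P : Subgroup G), w h * conj (w (α.1 h)) = 1 - (if h = 1 then 1 else 0) := by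
      intro h
      rw [hwconj]
      simp only [hwdef]
      by_cases hh : h = 1
      · rw [if_pos hh, if_pos hh]; ring
      · rw [if_neg hh, if_neg hh, if_neg]
        · ring
        · intro hc
          apply hh
          have := congrArg α.1.symm hc
          simpa using this
    simp_rw [h7]
    rw [Finset.sum_sub_distrib, Finset.sum_ite_eq' Finset.univ (1 : ↥(P : Subgroup G))]
    simp [hcardP]
  simp_rw [h6]
  have h8 : (Fintype.card (autT hV θ) : ℂ) = e := by
    rw [← Nat.card_eq_fintype_card, card_autT hV θ e he]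
  rw [Finset.sum_const, Finset.card_univ, nsmul_eq_mul, h8]
  ring

/-- Outside `BGen` all `nng` vanish. -/
theorem nng_eq_zero (hP : Nat.card P = p) (hV : IsPCompl P V) (θ : IrrCharacter ↥V)
    {χ : IrrCharacter G} (hχ : χ ∉ BGen P V θ) (φ : ↥(P : Subgroup G) →* ℂˣ) :
    nng hV θ χ φ = 0 := by
  have h1 := nng_eq hP hV θ χ φ
  have h2 : ∑ h : ↥(P : Subgroup G), sfun P V θ χ h * (conj ((φ h : ℂˣ) : ℂ) - 1) = 0 := by
    apply Finset.sum_eq_zero
    intro h _
    by_cases hh : h = 1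
    · rw [hh]; simp
    · have : sfun P V θ χ h = 0 := by
        by_contra hne
        exact hχ ⟨h, hh, hne⟩
      rw [this, zero_mul]
  rw [h2, mul_zero] at h1
  exact_mod_cast h1

/-- Members of `BGen` have some nonzero `nng`. -/
theorem exists_nng_ne_zero (hP : Nat.card P = p) (hV : IsPCompl P V) (θ : IrrCharacter ↥V)
    {χ : IrrCharacter G} (hχ : χ ∈ BGen P V θ) :
    ∃ φ : ↥(P : Subgroup G) →* ℂˣ, φ ≠ 1 ∧ nng hV θ χ φ ≠ 0 := by
  obtain ⟨h, hh, hne⟩ := hχ
  by_contra hcon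
  push Not at hcon
  apply hne
  rw [value_eq_nn hP hV θ χ h hh]
  apply Finset.sum_eq_zero
  intro φ _
  by_cases hφ : φ = 1
  · rw [hφ, nng_one]; simp
  · rw [hcon φ hφ]; simp

end norm

end Cfsg.Agent.Lib.Helper16_GenNorm
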