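import Mathlib
import Cfsg.Prelude.Def_Blocks
import Cfsg.Agent.S1504
import Cfsg.Agent.Lib.Helper25_AbDual
import Cfsg.Agent.Lib.Helper16_BrauerArith
import Cfsg.Agent.Lib.Helper16_BrauerSetup
import Cfsg.Agent.Lib.Helper16_BrauerGal
import Cfsg.Agent.Lib.Helper16_BrauerMain
import Cfsg.Agent.Lib.Helper16_GenSetup
import Cfsg.Agent.Lib.Helper16_GenK
import Cfsg.Agent.Lib.Helper16_GenNorm
import Cfsg.Agent.Lib.Helper16_GenGal

/-!
# Blocks of defect one, general root: the structure theorem (helper16)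

`P` a Sylow `p`-subgroup of order `p`, `C_G(P) = P × V`, `θ ∈ Irr(V)`, `T = stab hV θ`,
`e = |T : C_G(P)|`.  From the lattice hypothesis `CTGen` (helper57) and the multiplicity-freeness
`H1V` (helper17), the set `BGen P V θ` is `X ⊔ Y` with `|X| = e`, `e |Y| = p - 1`, and the integers
`nng χ φ` have the shape of Brauer's theorem (`gen_structure`).  No block theory is used.
-/

set_option autoImplicit false
set_option linter.unusedSectionVars false

namespace Cfsg.Agent.Lib.Helper16_GenMain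

open Cfsg Cfsg.Agent.Lib.Helper16_BrauerSetup Cfsg.Agent.Lib.Helper16_BrauerGal
  Cfsg.Agent.Lib.Helper16_BrauerMain
  Cfsg.Agent.Lib.Helper16_GenSetup Cfsg.Agent.Lib.Helper16_GenK Cfsg.Agent.Lib.Helper16_GenNorm
  Cfsg.Agent.Lib.Helper16_GenGal
open scoped ComplexConjugate

/-- The trace hypothesis supplied by the lattice argument (helper57): for a suitable group `Γ` of
`p`-conjugations, a multiple of every `Γ`-orbit sum of irreducible characters is, on the elements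
`x v` (`1 ≠ x ∈ P`, `v ∈ C_G(P)` `p`-regular), `δ ψ(v)` with `δ ∈ {0, 1, -1}` and `ψ` an irreducible
character of `N_G(P)` with `P` in its kernel. -/
def CTGen (G : Type*) [Group G] [Fintype G] (p : ℕ) (P : Sylow p G) : Prop :=
  ∃ Γ : Set ℕ, 1 ∈ Γ ∧ (∀ k ∈ Γ, k.Coprime (Nat.card G)) ∧ (∀ k ∈ Γ, ∀ l ∈ Γ, k * l ∈ Γ) ∧
    (∀ k ∈ Γ, ∃ l ∈ Γ, k * l ≡ 1 [MOD Nat.card G]) ∧
    (∀ k ∈ Γ, k ≡ 1 [MOD Nat.card G / p ^ (Nat.card G).factorization p]) ∧
    ∀ χ : IrrCharacter G, ∃ (s : ℕ) (δ : ℤ)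
      (ψ : IrrCharacter ↥(Subgroup.normalizer ((P : Subgroup G) : Set G))),
      0 < s ∧ (δ = 0 ∨ δ = 1 ∨ δ = -1) ∧
      (∀ h : ↥(Subgroup.normalizer ((P : Subgroup G) : Set G)), (h : G) ∈ (P : Subgroup G) →
        (ψ : ↥(Subgroup.normalizer ((P : Subgroup G) : Set G)) → ℂ) h =
          (ψ : ↥(Subgroup.normalizer ((P : Subgroup G) : Set G)) → ℂ) 1) ∧
      ∀ x ∈ (P : Subgroup G), x ≠ 1 →
        ∀ v : ↥(Subgroup.normalizer ((P : Subgroup G) : Set G)),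
          (v : G) ∈ Subgroup.centralizer ((P : Subgroup G) : Set G) → ¬ p ∣ orderOf v →
          (s : ℂ) * ∑ᶠ χ' ∈ {χ' : IrrCharacter G |
              ∃ k ∈ Γ, ∀ g, (χ' : G → ℂ) g = (χ : G → ℂ) (g ^ k)}, (χ' : G → ℂ) (x * (v : G)) =
            (δ : ℂ) * (ψ : ↥(Subgroup.normalizer ((P : Subgroup G) : Set G)) → ℂ) v

variable {G : Type*} [Group G] [Fintype G] {p : ℕ} [hp : Fact p.Prime] {P : Sylow p G}
  {V : Subgroup G}

theorem IsPCompl.mem_normalizer (hV : IsPCompl P V) (v : ↥V) :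
    (v : G) ∈ Subgroup.normalizer ((P : Subgroup G) : Set G) :=
  Subgroup.centralizer_le_normalizer _ (hV.le v.2)

/-- Multiplicity-freeness (helper17's (H1), in the `V`-form): an irreducible character of `N_G(P)`
with `P` in its kernel contains `θ` at most once on restriction to `V`. -/
def H1V [Fintype ↥V] (hV : IsPCompl P V) (θ : IrrCharacter ↥V) : Prop :=
  ∀ ψ : IrrCharacter ↥(Subgroup.normalizer ((P : Subgroup G) : Set G)),
    (∀ h : ↥(Subgroup.normalizer ((P : Subgroup G) : Set G)), (h : G) ∈ (P : Subgroup G) →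
      (ψ : ↥(Subgroup.normalizer ((P : Subgroup G) : Set G)) → ℂ) h =
        (ψ : ↥(Subgroup.normalizer ((P : Subgroup G) : Set G)) → ℂ) 1) →
    ((Nat.card V : ℂ)⁻¹ * ∑ v : ↥V,
        (ψ : ↥(Subgroup.normalizer ((P : Subgroup G) : Set G)) → ℂ)
          ⟨(v : G), IsPCompl.mem_normalizer hV v⟩ * conj ((θ : ↥V → ℂ) v) = 0 ∨
      (Nat.card V : ℂ)⁻¹ * ∑ v : ↥V,
        (ψ : ↥(Subgroup.normalizer ((P : Subgroup G) : Set G)) → ℂ)
          ⟨(v : G), IsPCompl.mem_normalizer hV v⟩ * conj ((θ : ↥V → ℂ) v) = 1)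

section structure_thm

variable [Fintype ↥(P : Subgroup G)] [Fintype ↥V] [Fintype (↥(P : Subgroup G) →* ℂˣ)]

open scoped Classical in
/-- **Structure of `BGen P V θ`** for a Sylow subgroup of prime order, from `CTGen` and `H1V`. -/
theorem gen_structure (hP : Nat.card P = p) (hV : IsPCompl P V) (θ : IrrCharacter ↥V) (e : ℕ)
    (he : (Subgroup.centralizer ((P : Subgroup G) : Set G)).relIndex (stab hV θ) = e)
    (hCT : CTGen G p P) (hH1 : H1V hV θ) :
    ∃ (X Y : Finset (IrrCharacter G)) (εX : IrrCharacter G → ℤ) (ε : ℤ),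
      (∀ χ, χ ∈ BGen P V θ ↔ χ ∈ X ∨ χ ∈ Y) ∧ Disjoint X Y ∧ X.card = e ∧
      e * Y.card = p - 1 ∧
      (∀ χ ∈ X, (εX χ = 1 ∨ εX χ = -1) ∧
        ∀ φ : ↥(P : Subgroup G) →* ℂˣ, φ ≠ 1 → nng hV θ χ φ = - εX χ) ∧
      (ε = 1 ∨ ε = -1) ∧
      (∀ ψ ∈ Y, ∀ φ : ↥(P : Subgroup G) →* ℂˣ, φ ≠ 1 → nng hV θ ψ φ = 0 ∨ nng hV θ ψ φ = ε) ∧
      (∀ φ : ↥(P : Subgroup G) →* ℂˣ, φ ≠ 1 →
        ∃ ψ ∈ Y, nng hV θ ψ φ ≠ 0 ∧ ∀ ψ' ∈ Y, nng hV θ ψ' φ ≠ 0 → ψ' = ψ) ∧
      (∀ ψ ∈ Y, (Finset.univ.filter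
        (fun φ : ↥(P : Subgroup G) →* ℂˣ => nng hV θ ψ φ ≠ 0)).card = e) := by
  obtain ⟨Γ, hΓ1, hΓcop, hΓmul, hΓinv, hΓone, hΓ⟩ := hCT
  have hppos : 0 < p := hp.out.pos
  have hp0 : (p : ℂ) ≠ 0 := by exact_mod_cast hp.out.ne_zero
  have hVpos : (Nat.card V : ℂ) ≠ 0 := by
    rw [Nat.cast_ne_zero]; exact Nat.card_pos.ne'
  -- numerology
  obtain ⟨t, ht⟩ := e_dvd hP hV θ e he
  have hp1 : 0 < p - 1 := by have := hp.out.two_le; omega
  have hepos : 0 < e := by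
    rcases Nat.eq_zero_or_pos e with h | h
    · rw [h, zero_mul] at ht; omega
    · exact h
  have htpos : 0 < t := by
    rcases Nat.eq_zero_or_pos t with h | h
    · rw [h, mul_zero] at ht; omega
    · exact h
  -- the set as a type, and the equivalence relation
  set B := BGen P V θ with hBdef
  let r : Setoid {χ : IrrCharacter G // χ ∈ B} :=
    { r := fun χ χ' => ∃ k ∈ Γ, ∀ g, (χ'.1 : G → ℂ) g = (χ.1 : G → ℂ) (g ^ k)
      iseqv :=
        { refl := fun χ => ⟨1, hΓ1, fun g => by rw [pow_one]⟩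
          symm := by
            rintro χ χ' ⟨k, hk, h⟩
            obtain ⟨l, hl, hkl⟩ := hΓinv k hk
            refine ⟨l, hl, fun g => ?_⟩
            rw [h (g ^ l), pow_pow_eq_self' hkl]
          trans := by
            rintro χ χ' χ'' ⟨k, hk, h⟩ ⟨l, hl, h'⟩
            refine ⟨l * k, hΓmul l hl k hk, fun g => ?_⟩
            rw [h' g, h (g ^ l), pow_mul] } }
  have hr : ∀ χ χ' : {χ : IrrCharacter G // χ ∈ B},
      r χ χ' ↔ ∃ k ∈ Γ, ∀ g, (χ'.1 : G → ℂ) g = (χ.1 : G → ℂ) (g ^ k) := fun _ _ => Iff.rfl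
  set n : {χ : IrrCharacter G // χ ∈ B} → {φ : ↥(P : Subgroup G) →* ℂˣ // φ ≠ 1} → ℤ :=
    fun χ i => nng hV θ χ.1 i.1 with hndef
  -- sums over `B` are sums over all characters
  have hsumB : ∀ f : IrrCharacter G → ℂ, (∀ χ, χ ∉ B → f χ = 0) →
      ∑ χ : {χ : IrrCharacter G // χ ∈ B}, f χ.1 = ∑ χ : IrrCharacter G, f χ := by
    intro f hf
    rw [sum_subtype_block B f]
    refine Finset.sum_congr rfl fun χ _ => ?_
    split_ifs with h
    · rfl
    · exact (hf χ h).symm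
  -- (A)
  have hA : ∀ i, ∑ χ, n χ i ^ 2 = (e : ℤ) + 1 := by
    intro i
    have h1 := sum_nn_sq hP hV θ e he i.1 i.2
    rw [← hsumB (fun χ => ((nng hV θ χ i.1 : ℤ) : ℂ) ^ 2)
      (fun χ hχ => by rw [nng_eq_zero hP hV θ hχ]; simp)] at h1
    have h2 : ((∑ χ, n χ i ^ 2 : ℤ) : ℂ) = ((e : ℤ) + 1 : ℤ) := by
      push_cast
      rw [← h1]
    exact_mod_cast h2
  -- (B)
  have hB : ∑ χ, (∑ i, n χ i) ^ 2 = ((e * p * (p - 1) : ℕ) : ℤ) := by
    have h1 := sum_rowsum_sq hP hV θ e he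
    rw [← hsumB (fun χ => (∑ φ : ↥(P : Subgroup G) →* ℂˣ, ((nng hV θ χ φ : ℤ) : ℂ)) ^ 2)
      (fun χ hχ => by
        have : ∀ φ : ↥(P : Subgroup G) →* ℂˣ, ((nng hV θ χ φ : ℤ) : ℂ) = 0 := fun φ => by
          rw [nng_eq_zero hP hV θ hχ]; simp
        simp [this])] at h1
    have h3 : ∀ χ : {χ : IrrCharacter G // χ ∈ B},
        ∑ i, ((n χ i : ℤ) : ℂ) = ∑ φ : ↥(P : Subgroup G) →* ℂˣ, ((nng hV θ χ.1 φ : ℤ) : ℂ) := by
      intro χ
      rw [← sum_subtype_ne_one P (fun φ => ((nng hV θ χ.1 φ : ℤ) : ℂ)) (by simp)]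
    have h2 : ((∑ χ, (∑ i, n χ i) ^ 2 : ℤ) : ℂ) = (((e * p * (p - 1) : ℕ) : ℤ) : ℂ) := by
      push_cast
      simp_rw [h3]
      rw [h1]
      have : ((p - 1 : ℕ) : ℂ) = (p : ℂ) - 1 := by
        rw [Nat.cast_sub hp.out.one_le, Nat.cast_one]
      rw [this]
    exact_mod_cast h2
  -- (O)
  have hO : ∀ χ χ', r χ χ' → ∃ σ : Equiv.Perm {φ : ↥(P : Subgroup G) →* ℂˣ // φ ≠ 1},
      ∀ i, n χ' i = n χ (σ i) := by
    rintro χ χ' ⟨k, hk, h⟩
    obtain ⟨l, hl, hkl⟩ := hΓinv k hk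
    refine ⟨powPerm P hP hkl, fun i => ?_⟩
    exact nng_twist hV θ hkl (hΓone k hk) h i.1
  -- (D0)
  have hD0 : ∀ χ : {χ : IrrCharacter G // χ ∈ B}, ∃ i, n χ i ≠ 0 := by
    intro χ
    obtain ⟨φ, hφ, hne⟩ := exists_nng_ne_zero hP hV θ χ.2
    exact ⟨⟨φ, hφ⟩, hne⟩
  -- (CT)
  have hCT' : ∀ χ : {χ : IrrCharacter G // χ ∈ B}, ∃ c : ℤ, (c = 0 ∨ c = 1 ∨ c = -1) ∧
      ∀ i, ∑ χ' ∈ Finset.univ.filter (fun χ' => r χ χ'), n χ' i = c := by
    intro χ
    obtain ⟨m, δ₀, ψ, hm, hδ₀, hψP, hval⟩ := hΓ χ.1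
    have hmC : (m : ℂ) ≠ 0 := by exact_mod_cast hm.ne'
    -- the multiplicity of `θ` in `ψ|_V`
    set μ : ℂ := (Nat.card V : ℂ)⁻¹ * ∑ v : ↥V,
        (ψ : ↥(Subgroup.normalizer ((P : Subgroup G) : Set G)) → ℂ)
          ⟨(v : G), IsPCompl.mem_normalizer hV v⟩ * conj ((θ : ↥V → ℂ) v) with hμdef
    have hμ : μ = 0 ∨ μ = 1 := hH1 ψ hψP
    -- `δ = δ₀ μ`
    obtain ⟨δ, hδ, hδμ⟩ : ∃ δ : ℤ, (δ = 0 ∨ δ = 1 ∨ δ = -1) ∧ (δ : ℂ) = (δ₀ : ℂ) * μ := by
      rcases hμ with h | h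
      · exact ⟨0, Or.inl rfl, by rw [h]; simp⟩
      · exact ⟨δ₀, hδ₀, by rw [h]; simp⟩
    -- the orbit as a finset
    have horbit : ∀ f : IrrCharacter G → ℂ,
        ∑ᶠ χ' ∈ {χ' : IrrCharacter G |
          ∃ k ∈ Γ, ∀ g, (χ' : G → ℂ) g = (χ.1 : G → ℂ) (g ^ k)}, f χ' =
        ∑ χ' ∈ Finset.univ.filter (fun χ' => r χ χ'), f χ'.1 := by
      intro f
      have hset : {χ' : IrrCharacter G |
          ∃ k ∈ Γ, ∀ g, (χ' : G → ℂ) g = (χ.1 : G → ℂ) (g ^ k)} =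
          ↑((Finset.univ.filter (fun χ' => r χ χ')).map
            ⟨Subtype.val, Subtype.val_injective⟩) := by
        ext χ'
        simp only [Set.mem_ofPred_eq, Finset.coe_map, Function.Embedding.coeFn_mk, Set.mem_image,
          Finset.mem_coe, Finset.mem_filter, Finset.mem_univ, true_and]
        constructor
        · rintro ⟨k, hk, h⟩
          obtain ⟨l, hl, hkl⟩ := hΓinv k hk
          exact ⟨⟨χ', mem_BGen_twist hV θ hkl (hΓone k hk) h χ.2⟩, ⟨k, hk, h⟩, rfl⟩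
        · rintro ⟨χ'', ⟨k, hk, h⟩, rfl⟩
          exact ⟨k, hk, h⟩
      rw [hset, finsum_mem_coe_finset, Finset.sum_map]
      rfl
    -- the orbit sum of the `θ`-components
    have hsval : ∀ h : ↥(P : Subgroup G), h ≠ 1 →
        (m : ℂ) * ∑ χ' ∈ Finset.univ.filter (fun χ' => r χ χ'), sfun P V θ χ'.1 h = (δ : ℂ) := by
      intro h hh
      have hh' : (h : G) ≠ 1 := fun hc => hh (Subtype.ext hc)
      have h1 : ∀ v : ↥V, (m : ℂ) * ∑ χ' ∈ Finset.univ.filter (fun χ' => r χ χ'),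
          (χ'.1 : G → ℂ) ((h : G) * (v : G)) =
          (δ₀ : ℂ) * (ψ : ↥(Subgroup.normalizer ((P : Subgroup G) : Set G)) → ℂ)
            ⟨(v : G), IsPCompl.mem_normalizer hV v⟩ := by
        intro v
        have hreg : ¬ p ∣ orderOf (⟨(v : G), IsPCompl.mem_normalizer hV v⟩ :
            ↥(Subgroup.normalizer ((P : Subgroup G) : Set G))) := by
          rw [← Subgroup.orderOf_coe]
          intro hd
          have h2 : orderOf (v : G) ∣ Nat.card V := Subgroup.orderOf_dvd_natCard _ v.2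
          have h3 := Nat.dvd_gcd (hd.trans h2) (dvd_refl p)
          rw [hV.coprime] at h3
          exact hp.out.one_lt.ne' (Nat.dvd_one.mp h3)
        have := hval (h : G) h.2 hh' ⟨(v : G), IsPCompl.mem_normalizer hV v⟩ (hV.le v.2) hreg
        rw [horbit (fun χ' => (χ' : G → ℂ) ((h : G) * (v : G)))] at this
        exact this
      unfold sfun
      rw [← Finset.mul_sum, Finset.sum_comm]
      simp_rw [← Finset.sum_mul]
      rw [mul_left_comm, Finset.mul_sum]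
      simp_rw [← mul_assoc, h1]
      rw [hδμ, hμdef, Finset.mul_sum, Finset.mul_sum, Finset.mul_sum]
      refine Finset.sum_congr rfl fun v _ => ?_
      ring
    have hkey : ∀ i : {φ : ↥(P : Subgroup G) →* ℂˣ // φ ≠ 1},
        (m : ℤ) * ∑ χ' ∈ Finset.univ.filter (fun χ' => r χ χ'), n χ' i = -δ := by
      intro i
      have h1 : ((∑ χ' ∈ Finset.univ.filter (fun χ' => r χ χ'), n χ' i : ℤ) : ℂ) =
          (p : ℂ)⁻¹ * ∑ h : ↥(P : Subgroup G),
            (∑ χ' ∈ Finset.univ.filter (fun χ' => r χ χ'), sfun P V θ χ'.1 h) *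
              (conj ((i.1 h : ℂˣ) : ℂ) - 1) := by
        push_cast
        simp only [hndef]
        simp_rw [nng_eq hP hV θ]
        rw [← Finset.mul_sum, Finset.sum_comm]
        congr 1
        refine Finset.sum_congr rfl fun h _ => ?_
        rw [Finset.sum_mul]
      have h2 : ∀ h : ↥(P : Subgroup G),
          (m : ℂ) * ((∑ χ' ∈ Finset.univ.filter (fun χ' => r χ χ'), sfun P V θ χ'.1 h) *
              (conj ((i.1 h : ℂˣ) : ℂ) - 1)) = (δ : ℂ) * (conj ((i.1 h : ℂˣ) : ℂ) - 1) := by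
        intro h
        by_cases hh : h = 1
        · rw [hh]; simp
        · rw [← mul_assoc, hsval h hh]
      have h3 : ∑ h : ↥(P : Subgroup G), (conj ((i.1 h : ℂˣ) : ℂ) - 1) = - (p : ℂ) := by
        rw [Finset.sum_sub_distrib, ← map_sum,
          Cfsg.Agent.S1504.sum_units_hom_eq_zero i.1 i.2, map_zero]
        simp only [Finset.sum_const, Finset.card_univ, nsmul_eq_mul, mul_one]
        rw [← Nat.card_eq_fintype_card, hP]
        ring
      have h4 : ((m : ℤ) * ∑ χ' ∈ Finset.univ.filter (fun χ' => r χ χ'), n χ' i : ℤ) =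
          ((-δ : ℤ) : ℂ) := by
        rw [Int.cast_mul, h1]
        rw [show ((m : ℤ) : ℂ) = (m : ℂ) by simp]
        rw [mul_left_comm, Finset.mul_sum]
        simp_rw [h2]
        rw [← Finset.mul_sum, h3]
        push_cast
        field_simp
      exact_mod_cast h4
    have hiota : Nonempty {φ : ↥(P : Subgroup G) →* ℂˣ // φ ≠ 1} := by
      rw [← Fintype.card_pos_iff, card_ne_one P hP]
      exact hp1
    refine ⟨-δ, ?_, fun i => ?_⟩
    · rcases hδ with h | h | h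
      · left; rw [h]; ring
      · right; right; rw [h]
      · right; left; rw [h]; ring
    · have hk := hkey i
      set c := ∑ χ' ∈ Finset.univ.filter (fun χ' => r χ χ'), n χ' i with hc
      have hm' : (1 : ℤ) ≤ m := by exact_mod_cast hm
      rcases hδ with h | h | h
      · rw [h] at hk ⊢
        have : (m : ℤ) * c = 0 := by rw [hk]; ring
        rcases mul_eq_zero.mp this with h0 | h0
        · omega
        · rw [h0]; ring
      · rw [h] at hk ⊢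
        have hc1 : c < 0 := by
          by_contra hcon
          push Not at hcon
          nlinarith
        have hc2 : c ≥ -1 := by
          by_contra hcon
          push Not at hcon
          nlinarith
        omega
      · rw [h] at hk ⊢
        have hc1 : c > 0 := by
          by_contra hcon
          push Not at hcon
          nlinarith
        have hc2 : c ≤ 1 := by
          by_contra hcon
          push Not at hcon
          nlinarith
        omega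
  -- the arithmetic
  obtain ⟨X, Y, εX, ε, hdisj, hunion, hXc, hYc, hXp, hε, hYp, hYu, hYs⟩ :=
    Cfsg.Agent.Lib.Helper16_BrauerArith.main r n p e t hepos htpos ht.symm (card_ne_one P hP)
      hA hB hO hCT' hD0
  -- translation back to `IrrCharacter G`
  let emb : {χ : IrrCharacter G // χ ∈ B} ↪ IrrCharacter G :=
    ⟨Subtype.val, Subtype.val_injective⟩
  have hmemX : ∀ χ : IrrCharacter G, χ ∈ X.map emb ↔ ∃ h : χ ∈ B, (⟨χ, h⟩ : {χ // χ ∈ B}) ∈ X := by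
    intro χ
    rw [Finset.mem_map]
    constructor
    · rintro ⟨x, hx, rfl⟩
      exact ⟨x.2, hx⟩
    · rintro ⟨h, hx⟩
      exact ⟨⟨χ, h⟩, hx, rfl⟩
  have hmemY : ∀ χ : IrrCharacter G, χ ∈ Y.map emb ↔ ∃ h : χ ∈ B, (⟨χ, h⟩ : {χ // χ ∈ B}) ∈ Y := by
    intro χ
    rw [Finset.mem_map]
    constructor
    · rintro ⟨x, hx, rfl⟩
      exact ⟨x.2, hx⟩
    · rintro ⟨h, hx⟩
      exact ⟨⟨χ, h⟩, hx, rfl⟩
  refine ⟨X.map emb, Y.map emb, fun χ => if h : χ ∈ B then εX ⟨χ, h⟩ else 0, ε,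
    ?_, ?_, ?_, ?_, ?_, hε, ?_, ?_, ?_⟩
  · intro χ
    constructor
    · intro h
      have : (⟨χ, h⟩ : {χ // χ ∈ B}) ∈ X ∪ Y := by rw [hunion]; exact Finset.mem_univ _
      rcases Finset.mem_union.mp this with h1 | h1
      · left; exact (hmemX χ).mpr ⟨h, h1⟩
      · right; exact (hmemY χ).mpr ⟨h, h1⟩
    · rintro (h | h)
      · exact ((hmemX χ).mp h).1
      · exact ((hmemY χ).mp h).1
  · exact (Finset.disjoint_map emb).mpr hdisj
  · rw [Finset.card_map]; exact hXc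
  · rw [Finset.card_map, hYc]; exact ht.symm
  · intro χ hχ
    obtain ⟨h, hx⟩ := (hmemX χ).mp hχ
    obtain ⟨h1, h2⟩ := hXp ⟨χ, h⟩ hx
    simp only [dif_pos h]
    exact ⟨h1, fun φ hφ => h2 ⟨φ, hφ⟩⟩
  · intro ψ hψ φ hφ
    obtain ⟨h, hy⟩ := (hmemY ψ).mp hψ
    exact hYp ⟨ψ, h⟩ hy ⟨φ, hφ⟩
  · intro φ hφ
    obtain ⟨ψ, hψY, hψne, hψu⟩ := hYu ⟨φ, hφ⟩
    refine ⟨ψ.1, (hmemY ψ.1).mpr ⟨ψ.2, hψY⟩, hψne, fun ψ' hψ' hne => ?_⟩
    obtain ⟨h, hy⟩ := (hmemY ψ').mp hψ'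
    have := hψu ⟨ψ', h⟩ hy hne
    exact congrArg Subtype.val this
  · intro ψ hψ
    obtain ⟨h, hy⟩ := (hmemY ψ).mp hψ
    rw [← hYs ⟨ψ, h⟩ hy]
    have hset : Finset.univ.filter (fun φ : ↥(P : Subgroup G) →* ℂˣ => nng hV θ ψ φ ≠ 0) =
        (Finset.univ.filter (fun i : {φ : ↥(P : Subgroup G) →* ℂˣ // φ ≠ 1} =>
          n ⟨ψ, h⟩ i ≠ 0)).map ⟨Subtype.val, Subtype.val_injective⟩ := by
      ext φ
      simp only [Finset.mem_filter, Finset.mem_univ, true_and, Finset.mem_map,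
        Function.Embedding.coeFn_mk]
      constructor
      · intro hne
        have hφ : φ ≠ 1 := by
          rintro rfl
          exact hne (nng_one hV θ ψ)
        exact ⟨⟨φ, hφ⟩, hne, rfl⟩
      · rintro ⟨i, hi, rfl⟩
        exact hi
    rw [hset, Finset.card_map]

end structure_thm

end Cfsg.Agent.Lib.Helper16_GenMain
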