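import Mathlib
import Cfsg.Prelude.Def_Characters
import Cfsg.Prelude.Def_Blocks
import Cfsg.Agent.Lib.Helper3_CharColumn
import Cfsg.Agent.Lib.Helper3_CharCenter
import Cfsg.Agent.Lib.Helper3_CharEigen
import Cfsg.Agent.Lib.Helper3_AbelianIndex
import Cfsg.Agent.Lib.Helper75_LinChar
import Cfsg.Agent.Lib.Helper16_Quot
import Cfsg.Agent.Lib.Helper57_FrobNorm
import Cfsg.Agent.Lib.Helper80_CharBasic

/-!
# Galois conjugate characters: kernels, quotients, faithful characters (helper76)

Character-theoretic lemmas used for S4845.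
-/

set_option autoImplicit false
set_option linter.unusedSectionVars false
open scoped ComplexConjugate
open scoped commutatorElement

namespace Cfsg.Agent.Lib.Helper76_GalConj

open Cfsg

section basics

variable {G : Type*} [Group G]

/-- The kernel of an irreducible character, as a subgroup. -/
noncomputable def kerC (χ : IrrCharacter G) : Subgroup G :=
  MonoidHom.ker (χ.2.choose_spec.choose : G →* Module.End ℂ (Fin χ.2.choose → ℂ))

instance kerC_normal (χ : IrrCharacter G) : (kerC χ).Normal := by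
  unfold kerC
  infer_instance

theorem irr_one_eq_charDegree (χ : IrrCharacter G) :
    (χ : G → ℂ) 1 = (charDegree (χ : G → ℂ) : ℂ) := by
  obtain ⟨n, hn, h⟩ := Cfsg.Agent.Lib.Helper80_CharBasic.irr_apply_one χ
  unfold charDegree
  rw [h]
  simp

theorem charDegree_pos (χ : IrrCharacter G) : 0 < charDegree (χ : G → ℂ) := by
  obtain ⟨n, hn, h⟩ := Cfsg.Agent.Lib.Helper80_CharBasic.irr_apply_one χ
  have h2 := irr_one_eq_charDegree χ
  rw [h] at h2
  have : n = charDegree (χ : G → ℂ) := by exact_mod_cast h2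
  omega

theorem irr_one_ne_zero (χ : IrrCharacter G) : (χ : G → ℂ) 1 ≠ 0 := by
  rw [irr_one_eq_charDegree]
  exact_mod_cast (charDegree_pos χ).ne'

theorem charDegree_eq_iff (χ ψ : IrrCharacter G) :
    charDegree (χ : G → ℂ) = charDegree (ψ : G → ℂ) ↔ (χ : G → ℂ) 1 = (ψ : G → ℂ) 1 := by
  rw [irr_one_eq_charDegree, irr_one_eq_charDegree]
  constructor
  · intro h; rw [h]
  · intro h; exact_mod_cast h

variable [Finite G]

theorem mem_kerC (χ : IrrCharacter G) (g : G) :
    g ∈ kerC χ ↔ (χ : G → ℂ) g = (χ : G → ℂ) 1 := by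
  unfold kerC
  have hspec := χ.2.choose_spec.choose_spec
  rw [MonoidHom.mem_ker]
  have h := Cfsg.Agent.Lib.Helper3_CharEigen.char_eq_finrank_iff χ.2.choose_spec.choose g
  have e1 : (χ : G → ℂ) g = (χ.2.choose_spec.choose).character g :=
    (congrFun hspec.2 g).symm
  have e2 : (χ : G → ℂ) 1 = (Module.finrank ℂ (Fin χ.2.choose → ℂ) : ℂ) := by
    rw [← Representation.char_one (χ.2.choose_spec.choose)]
    exact (congrFun hspec.2 1).symm
  rw [e1, e2, h]
  rfl

omit [Finite G] in
/-- Irreducible characters are class functions (`IsConj` form). -/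
theorem irr_conj' (χ : IrrCharacter G) (g h : G) :
    (χ : G → ℂ) (h⁻¹ * g * h) = (χ : G → ℂ) g := by
  have := Cfsg.Agent.Lib.Helper80_CharBasic.irr_conj χ g h⁻¹
  rwa [inv_inv] at this

/-- Central elements act as scalars: multiplicativity of `χ` against central elements. -/
theorem irr_mul_central (χ : IrrCharacter G) {z : G}
    (hz : z ∈ Subgroup.center G) (g : G) :
    (χ : G → ℂ) (g * z) * (χ : G → ℂ) 1 = (χ : G → ℂ) z * (χ : G → ℂ) g := by
  have := Fintype.ofFinite G
  obtain ⟨n, ρ, hρ, hχ⟩ := χ.2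
  rw [← hχ]
  have := hρ
  obtain ⟨c, hc⟩ := Helper3_CharCenter.exists_scalar_of_mem_center ρ hz
  have key : ∀ g, ρ.character (g * z) = c * ρ.character g := by
    intro g
    simp only [Representation.character, map_mul, hc]
    rw [show (LinearMap.id : (Fin n → ℂ) →ₗ[ℂ] (Fin n → ℂ)) = 1 from rfl, mul_smul_comm, mul_one,
      map_smul, smul_eq_mul]
  have h1 := key 1
  rw [one_mul] at h1
  rw [key g, h1]; ring

/-- On the centre, `|χ(z)|² = χ(1)²`. -/
theorem irr_center_normSq (χ : IrrCharacter G) {z : G} (hz : z ∈ Subgroup.center G) :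
    (χ : G → ℂ) z * conj ((χ : G → ℂ) z) = (χ : G → ℂ) 1 ^ 2 := by
  have h := irr_mul_central χ hz z⁻¹
  rw [inv_mul_cancel, Cfsg.Agent.Lib.Helper80_CharBasic.irr_inv] at h
  rw [← h]; ring

/-- The degree divides the index of the centre. -/
theorem charDegree_dvd_index_center (χ : IrrCharacter G) :
    charDegree (χ : G → ℂ) ∣ (Subgroup.center G).index := by
  have := Fintype.ofFinite G
  obtain ⟨n, ρ, hρ, hχ⟩ := χ.2
  have := hρ
  have h := Helper3_CharCenter.finrank_dvd_index_center ρ
  have h1 : (χ : G → ℂ) 1 = (Module.finrank ℂ (Fin n → ℂ) : ℂ) := by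
    rw [← hχ, Representation.char_one]
  rw [irr_one_eq_charDegree] at h1
  have h2 : charDegree (χ : G → ℂ) = Module.finrank ℂ (Fin n → ℂ) := by exact_mod_cast h1
  rw [h2]; exact h

theorem charDegree_dvd_card (χ : IrrCharacter G) :
    charDegree (χ : G → ℂ) ∣ Nat.card G :=
  (charDegree_dvd_index_center χ).trans (Subgroup.index_dvd_card _)

/-- Degree bound by the index of an abelian subgroup. -/
theorem charDegree_le_index_of_abelian (χ : IrrCharacter G) (A : Subgroup G)
    (hA : ∀ a ∈ A, ∀ b ∈ A, a * b = b * a) : charDegree (χ : G → ℂ) ≤ A.index := by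
  obtain ⟨n, ρ, hρ, hχ⟩ := χ.2
  have := hρ
  have h := Helper3_AbelianIndex.finrank_le_index_of_abelian ρ A hA
  have h1 : (χ : G → ℂ) 1 = (Module.finrank ℂ (Fin n → ℂ) : ℂ) := by
    rw [← hχ, Representation.char_one]
  rw [irr_one_eq_charDegree] at h1
  have h2 : charDegree (χ : G → ℂ) = Module.finrank ℂ (Fin n → ℂ) := by exact_mod_cast h1
  rw [h2]; exact h

/-- Characters of abelian groups are linear. -/
theorem charDegree_eq_one_of_comm (hA : ∀ a b : G, a * b = b * a) (χ : IrrCharacter G) :
    charDegree (χ : G → ℂ) = 1 := by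
  have h1 := charDegree_dvd_index_center χ
  have h2 : Subgroup.center G = ⊤ := by
    ext x
    simp only [Subgroup.mem_center_iff, Subgroup.mem_top, iff_true]
    intro g
    exact hA g x
  rw [h2, Subgroup.index_top, Nat.dvd_one] at h1
  exact h1

/-- Some irreducible character separates `g ≠ 1` from `1`. -/
theorem exists_irr_ne {g : G} (hg : g ≠ 1) :
    ∃ ξ : IrrCharacter G, (ξ : G → ℂ) g ≠ (ξ : G → ℂ) 1 := by
  have := Fintype.ofFinite G
  by_contra hcon
  push Not at hcon
  have h := (Helper3_CharColumn.isConj_iff_forall_irr g 1).mpr hcon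
  exact hg (isConj_one_left.mp h)

end basics

section quotient

variable {G : Type*} [Group G]

/-- Inflation of an irreducible character of the quotient. -/
noncomputable def infl (N : Subgroup G) [N.Normal] (χ : IrrCharacter (G ⧸ N)) : IrrCharacter G :=
  ⟨fun g => (χ : G ⧸ N → ℂ) (QuotientGroup.mk' N g),
    Cfsg.Agent.Lib.Helper57_FrobNorm.isIrrCharacter_comp_surjective (QuotientGroup.mk' N)
      (QuotientGroup.mk'_surjective N) χ.2⟩

@[simp] theorem infl_apply (N : Subgroup G) [N.Normal] (χ : IrrCharacter (G ⧸ N)) (g : G) :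
    (infl N χ : G → ℂ) g = (χ : G ⧸ N → ℂ) (QuotientGroup.mk g) := rfl

theorem charDegree_infl (N : Subgroup G) [N.Normal] (χ : IrrCharacter (G ⧸ N)) :
    charDegree (infl N χ : G → ℂ) = charDegree (χ : G ⧸ N → ℂ) := by
  unfold charDegree
  rw [infl_apply]
  rfl

variable [Finite G]

/-- An irreducible character with the normal subgroup `N` in its kernel is inflated from an
irreducible character of `G ⧸ N`. -/
theorem exists_quot_char (N : Subgroup G) [N.Normal]
    (θ : IrrCharacter G) (h : N ≤ kerC θ) :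
    ∃ χ : IrrCharacter (G ⧸ N), infl N χ = θ := by
  have h' : ∀ u ∈ N, (θ : G → ℂ) u = (θ : G → ℂ) 1 := fun u hu => (mem_kerC θ u).mp (h hu)
  obtain ⟨θ, n, ρ, hirr, rfl⟩ := θ
  have : ρ.IsIrreducible := hirr
  simp only at h'
  have htriv : Representation.IsTrivial (ρ.comp N.subtype) := by
    constructor
    intro u
    have h1 := h' u u.2
    rw [Representation.char_one] at h1
    have := (Cfsg.Agent.Lib.Helper3_CharEigen.char_eq_finrank_iff ρ (u : G)).mp h1
    exact this
  refine ⟨⟨(Representation.ofQuotient ρ N).character, n, Representation.ofQuotient ρ N,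
    Cfsg.Agent.Lib.Helper16_Quot.ofQuotient_irreducible ρ N, rfl⟩, ?_⟩
  apply Subtype.ext
  funext g
  simp only [infl_apply]
  rw [Cfsg.Agent.Lib.Helper16_Quot.ofQuotient_character]

theorem kerC_infl (N : Subgroup G) [N.Normal] (χ : IrrCharacter (G ⧸ N)) :
    kerC (infl N χ) = (kerC χ).comap (QuotientGroup.mk' N) := by
  ext g
  rw [mem_kerC, Subgroup.mem_comap, mem_kerC]
  simp only [infl_apply, QuotientGroup.mk'_apply, QuotientGroup.mk_one]

theorem le_kerC_infl (N : Subgroup G) [N.Normal] (χ : IrrCharacter (G ⧸ N)) :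
    N ≤ kerC (infl N χ) := by
  intro g hg
  rw [mem_kerC]
  simp only [infl_apply]
  rw [(QuotientGroup.eq_one_iff g).mpr hg, QuotientGroup.mk_one]

end quotient


section gc

/-- All non-linear irreducible characters of the same degree are Galois conjugate. -/
def GC (P : Type*) [Group P] : Prop :=
  ∀ χ ψ : IrrCharacter P, charDegree (χ : P → ℂ) ≠ 1 →
    charDegree (χ : P → ℂ) = charDegree (ψ : P → ℂ) →
    ∃ k : ℕ, Nat.Coprime k (Nat.card P) ∧ ∀ g : P, (ψ : P → ℂ) g = (χ : P → ℂ) (g ^ k)

variable {G : Type*} [Group G] [Finite G]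

theorem mem_of_pow_mem_of_coprime (H : Subgroup G) {k : ℕ} (hk : k.Coprime (Nat.card G)) {g : G}
    (h : g ^ k ∈ H) : g ∈ H := by
  have hk' : k.Coprime (orderOf g) := Nat.Coprime.coprime_dvd_right (orderOf_dvd_natCard g) hk
  obtain ⟨m, hm⟩ := exists_pow_eq_self_of_coprime hk'
  rw [← hm]
  exact H.pow_mem h m

/-- Galois conjugate characters have the same kernel. -/
theorem kerC_eq_of_galConj {χ ψ : IrrCharacter G} {k : ℕ} (hk : k.Coprime (Nat.card G))
    (h : ∀ g : G, (ψ : G → ℂ) g = (χ : G → ℂ) (g ^ k)) : kerC ψ = kerC χ := by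
  have h1 : (ψ : G → ℂ) 1 = (χ : G → ℂ) 1 := by rw [h 1, one_pow]
  ext g
  rw [mem_kerC, mem_kerC, h1, h g]
  constructor
  · intro hg
    have : g ^ k ∈ kerC χ := (mem_kerC χ _).mpr hg
    exact (mem_kerC χ g).mp (mem_of_pow_mem_of_coprime _ hk this)
  · intro hg
    have : g ∈ kerC χ := (mem_kerC χ g).mpr hg
    exact (mem_kerC χ _).mp ((kerC χ).pow_mem this k)

/-- A linear character (as a homomorphism) non-trivial at a given element outside `G'`. -/
theorem exists_hom_ne_one {g : G} (hg : g ∉ commutator G) : ∃ f : G →* ℂˣ, f g ≠ 1 := by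
  have ha : (Abelianization.of g : Abelianization G) ≠ 1 := by
    intro h
    apply hg
    have : (QuotientGroup.mk g : G ⧸ commutator G) = 1 := h
    exact (QuotientGroup.eq_one_iff g).mp this
  have : NeZero (Monoid.exponent (Abelianization G)) := ⟨Monoid.exponent_ne_zero_of_finite⟩
  obtain ⟨φ, hφ⟩ :=
    CommGroup.exists_apply_ne_one_of_hasEnoughRootsOfUnity (Abelianization G) ℂ ha
  exact ⟨φ.comp Abelianization.of, hφ⟩

/-- The product of an irreducible character with a linear character coming from a homomorphism. -/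
noncomputable def twist (f : G →* ℂˣ) (χ : IrrCharacter G) : IrrCharacter G :=
  ⟨(fun g => ((f g : ℂˣ) : ℂ)) * (χ : G → ℂ), by
    have := Fintype.ofFinite G
    exact Helper75_LinChar.IsLin.mul_irr
      (Helper75_LinChar.isLin_of_hom ((Units.coeHom ℂ).comp f)) χ.2⟩

theorem twist_apply (f : G →* ℂˣ) (χ : IrrCharacter G) (g : G) :
    (twist f χ : G → ℂ) g = ((f g : ℂˣ) : ℂ) * (χ : G → ℂ) g := rfl

theorem charDegree_twist (f : G →* ℂˣ) (χ : IrrCharacter G) :
    charDegree (twist f χ : G → ℂ) = charDegree (χ : G → ℂ) := by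
  rw [charDegree_eq_iff, twist_apply, map_one, Units.val_one, one_mul]

/-- Under `GC`, the kernel of a non-linear irreducible character lies in the derived subgroup. -/
theorem GC.kerC_le_commutator (hgc : GC G) (χ : IrrCharacter G)
    (hχ : charDegree (χ : G → ℂ) ≠ 1) : kerC χ ≤ commutator G := by
  intro g hg
  by_contra hgc'
  obtain ⟨f, hf⟩ := exists_hom_ne_one hgc'
  obtain ⟨k, hk, hval⟩ := hgc χ (twist f χ) hχ (charDegree_twist f χ).symm
  have h1 := hval g
  rw [twist_apply, (mem_kerC χ _).mp ((kerC χ).pow_mem hg k), (mem_kerC χ g).mp hg] at h1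
  have h2 : ((f g : ℂˣ) : ℂ) = 1 := by
    have := irr_one_ne_zero χ
    field_simp at h1
    exact h1
  exact hf (Units.ext h2)

/-- `GC` passes to quotients. -/
theorem GC.quotient (hgc : GC G) (N : Subgroup G) [N.Normal] : GC (G ⧸ N) := by
  intro χ ψ hχ hdeg
  obtain ⟨k, hk, hval⟩ := hgc (infl N χ) (infl N ψ) (by rwa [charDegree_infl])
    (by rw [charDegree_infl, charDegree_infl]; exact hdeg)
  refine ⟨k, Nat.Coprime.coprime_dvd_right ?_ hk, ?_⟩
  · exact Subgroup.card_quotient_dvd_card N
  · intro q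
    obtain ⟨g, rfl⟩ := QuotientGroup.mk_surjective q
    have := hval g
    simp only [infl_apply, QuotientGroup.mk_pow] at this
    exact this

/-- A non-abelian group has a non-linear irreducible character. -/
theorem exists_nonlinear (h : ¬ ∀ a b : G, a * b = b * a) :
    ∃ χ : IrrCharacter G, charDegree (χ : G → ℂ) ≠ 1 := by
  by_contra hcon
  push Not at hcon
  apply h
  intro a b
  have hc : ⁅a, b⁆ = 1 := by
    by_contra hne
    obtain ⟨ξ, hξ⟩ := exists_irr_ne hne
    apply hξ
    have hlin : Helper75_LinChar.IsLin G (ξ : G → ℂ) := by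
      refine ⟨?_, ?_⟩
      · obtain ⟨n, ρ, _, hρ⟩ := ξ.2
        exact ⟨n, ρ, hρ⟩
      · rw [irr_one_eq_charDegree, hcon ξ]; simp
    rw [commutatorElement_def, hlin.map_mul, hlin.map_mul, hlin.map_mul, hlin.map_inv,
      hlin.map_inv, hlin.2]
    have ha := hlin.ne_zero a
    have hb := hlin.ne_zero b
    field_simp
  exact commutatorElement_eq_one_iff_mul_comm.mp hc

/-- If `G' ≤ ker χ` then `χ` is linear. -/
theorem charDegree_eq_one_of_commutator_le (χ : IrrCharacter G) (h : commutator G ≤ kerC χ) :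
    charDegree (χ : G → ℂ) = 1 := by
  obtain ⟨χ', rfl⟩ := exists_quot_char (commutator G) χ h
  rw [charDegree_infl]
  apply charDegree_eq_one_of_comm
  intro a b
  exact mul_comm (G := Abelianization G) a b

end gc


section center

variable {G : Type*} [Group G] [Finite G]

/-- The (normalised) central character `z ↦ χ(z)/χ(1)` as a monoid homomorphism. -/
noncomputable def centralHom (χ : IrrCharacter G) : Subgroup.center G →* ℂ where
  toFun z := (χ : G → ℂ) z / (χ : G → ℂ) 1
  map_one' := div_self (irr_one_ne_zero χ)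
  map_mul' a b := by
    have h := irr_mul_central χ b.2 (a : G)
    have h0 := irr_one_ne_zero χ
    simp only [Subgroup.coe_mul]
    field_simp
    rw [h]; ring

theorem centralHom_apply (χ : IrrCharacter G) (z : Subgroup.center G) :
    centralHom χ z = (χ : G → ℂ) z / (χ : G → ℂ) 1 := rfl

theorem irr_eq_centralHom_mul (χ : IrrCharacter G) (z : Subgroup.center G) :
    (χ : G → ℂ) z = (χ : G → ℂ) 1 * centralHom χ z := by
  rw [centralHom_apply]
  have h0 := irr_one_ne_zero χ
  field_simp

theorem centralHom_injective (χ : IrrCharacter G)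
    (h : ∀ z ∈ Subgroup.center G, z ∈ kerC χ → z = 1) : Function.Injective (centralHom χ) := by
  rw [injective_iff_map_eq_one]
  intro z hz
  have h0 := irr_one_ne_zero χ
  have : (z : G) ∈ kerC χ := by
    rw [mem_kerC]
    rw [centralHom_apply, div_eq_one_iff_eq h0] at hz
    exact hz
  exact Subtype.ext (h z z.2 this)

/-- A group with a faithful irreducible character has cyclic centre. -/
theorem isCyclic_center_of_faithful (χ : IrrCharacter G) (h : kerC χ = ⊥) :
    IsCyclic (Subgroup.center G) := by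
  apply isCyclic_of_injective_ringHom (centralHom χ)
  apply centralHom_injective
  intro z _ hz
  rw [h, Subgroup.mem_bot] at hz
  exact hz

theorem sum_normSq [Fintype G] (χ : IrrCharacter G) :
    ∑ g : G, Complex.normSq ((χ : G → ℂ) g) = (Nat.card G : ℝ) := by
  have h := Helper80_CharBasic.irr_norm χ
  have h2 : ∀ g : G, (χ : G → ℂ) g * (χ : G → ℂ) g⁻¹ =
      ((Complex.normSq ((χ : G → ℂ) g) : ℝ) : ℂ) := by
    intro g
    rw [Helper80_CharBasic.irr_inv, Complex.mul_conj]
  simp_rw [h2] at h
  exact_mod_cast h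

theorem normSq_center (χ : IrrCharacter G) {z : G} (hz : z ∈ Subgroup.center G) :
    Complex.normSq ((χ : G → ℂ) z) = ((charDegree (χ : G → ℂ) : ℝ)) ^ 2 := by
  have h := irr_center_normSq χ hz
  rw [Complex.mul_conj, irr_one_eq_charDegree] at h
  exact_mod_cast h

theorem deg_sq_mul_card_center_le (χ : IrrCharacter G) :
    charDegree (χ : G → ℂ) ^ 2 * Nat.card (Subgroup.center G) ≤ Nat.card G := by
  classical
  have := Fintype.ofFinite G
  have h1 := sum_normSq χ
  have h2 : ∑ g ∈ Finset.univ.filter (fun g : G => g ∈ Subgroup.center G),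
      Complex.normSq ((χ : G → ℂ) g) ≤ ∑ g : G, Complex.normSq ((χ : G → ℂ) g) :=
    Finset.sum_le_sum_of_subset_of_nonneg (Finset.filter_subset _ _)
      (fun g _ _ => Complex.normSq_nonneg _)
  have h3 : ∑ g ∈ Finset.univ.filter (fun g : G => g ∈ Subgroup.center G),
      Complex.normSq ((χ : G → ℂ) g) =
      (Nat.card (Subgroup.center G) : ℝ) * ((charDegree (χ : G → ℂ) : ℝ)) ^ 2 := by
    rw [Finset.sum_congr rfl (fun g hg => normSq_center χ (Finset.mem_filter.mp hg).2)]
    rw [Finset.sum_const, nsmul_eq_mul, Nat.card_eq_fintype_card, Fintype.card_subtype]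
  rw [h3, h1] at h2
  have h4 : ((charDegree (χ : G → ℂ) ^ 2 * Nat.card (Subgroup.center G) : ℕ) : ℝ) ≤
      (Nat.card G : ℝ) := by
    push_cast
    linarith
  exact_mod_cast h4

theorem deg_sq_mul_card_center_eq (χ : IrrCharacter G)
    (hvan : ∀ g : G, g ∉ Subgroup.center G → (χ : G → ℂ) g = 0) :
    charDegree (χ : G → ℂ) ^ 2 * Nat.card (Subgroup.center G) = Nat.card G := by
  classical
  have := Fintype.ofFinite G
  have h1 := sum_normSq χ
  have h2 : ∑ g ∈ Finset.univ.filter (fun g : G => g ∈ Subgroup.center G),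
      Complex.normSq ((χ : G → ℂ) g) = ∑ g : G, Complex.normSq ((χ : G → ℂ) g) := by
    apply Finset.sum_subset (Finset.filter_subset _ _)
    intro g _ hg
    have : g ∉ Subgroup.center G := fun h => hg (Finset.mem_filter.mpr ⟨Finset.mem_univ _, h⟩)
    rw [hvan g this, map_zero]
  have h3 : ∑ g ∈ Finset.univ.filter (fun g : G => g ∈ Subgroup.center G),
      Complex.normSq ((χ : G → ℂ) g) =
      (Nat.card (Subgroup.center G) : ℝ) * ((charDegree (χ : G → ℂ) : ℝ)) ^ 2 := by
    rw [Finset.sum_congr rfl (fun g hg => normSq_center χ (Finset.mem_filter.mp hg).2)]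
    rw [Finset.sum_const, nsmul_eq_mul, Nat.card_eq_fintype_card, Fintype.card_subtype]
  rw [h3, h1] at h2
  have h4 : ((charDegree (χ : G → ℂ) ^ 2 * Nat.card (Subgroup.center G) : ℕ) : ℝ) =
      (Nat.card G : ℝ) := by
    push_cast
    linarith
  exact_mod_cast h4

theorem deg_sq_le_index_center (χ : IrrCharacter G) :
    charDegree (χ : G → ℂ) ^ 2 ≤ (Subgroup.center G).index := by
  have h := deg_sq_mul_card_center_le χ
  rw [← Subgroup.index_mul_card (Subgroup.center G)] at h
  exact Nat.le_of_mul_le_mul_right h Nat.card_pos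

/-- Vanishing off the centre: a criterion. -/
theorem irr_eq_zero_of_conj_mul_central (χ : IrrCharacter G) {g c : G}
    (hc : c ∈ Subgroup.center G) (hconj : (χ : G → ℂ) (g * c) = (χ : G → ℂ) g)
    (hne : c ∉ kerC χ) : (χ : G → ℂ) g = 0 := by
  have h := irr_mul_central χ hc g
  rw [hconj] at h
  rw [mem_kerC] at hne
  by_contra h0
  apply hne
  have : (χ : G → ℂ) g * (χ : G → ℂ) 1 = (χ : G → ℂ) g * (χ : G → ℂ) c := by rw [h]; ring
  exact (mul_left_cancel₀ h0 this).symm

/-- If `G' ≤ Z(G)` and `G' ∩ ker χ = 1`, then `χ` vanishes off the centre. -/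
theorem irr_vanish_off_center (χ : IrrCharacter G)
    (hcl : commutator G ≤ Subgroup.center G)
    (hker : ∀ c ∈ commutator G, c ∈ kerC χ → c = 1) (g : G) (hg : g ∉ Subgroup.center G) :
    (χ : G → ℂ) g = 0 := by
  rw [Subgroup.mem_center_iff] at hg
  push Not at hg
  obtain ⟨h, hh⟩ := hg
  have hc : ⁅g⁻¹, h⁻¹⁆ ∈ commutator G := by
    rw [commutator_def]
    exact Subgroup.commutator_mem_commutator (Subgroup.mem_top _) (Subgroup.mem_top _)
  apply irr_eq_zero_of_conj_mul_central χ (hcl hc)
  · have : g * ⁅g⁻¹, h⁻¹⁆ = h⁻¹ * g * h := by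
      rw [commutatorElement_def]; group
    rw [this, irr_conj']
  · intro hk
    have h1 := hker _ hc hk
    rw [commutatorElement_eq_one_iff_mul_comm] at h1
    apply hh
    have : g * h = h * g := by
      have h2 : (g⁻¹ * h⁻¹)⁻¹ = (h⁻¹ * g⁻¹)⁻¹ := by rw [h1]
      simpa [mul_inv_rev] using h2.symm
    exact this.symm

/-- A faithful irreducible character of a group of class at most two has
`χ(1)² = [G : Z(G)]`. -/
theorem deg_sq_eq_of_class_two (χ : IrrCharacter G)
    (hcl : commutator G ≤ Subgroup.center G)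
    (hker : ∀ c ∈ commutator G, c ∈ kerC χ → c = 1) :
    charDegree (χ : G → ℂ) ^ 2 = (Subgroup.center G).index := by
  have h := deg_sq_mul_card_center_eq χ (irr_vanish_off_center χ hcl hker)
  rw [← Subgroup.index_mul_card (Subgroup.center G)] at h
  exact Nat.eq_of_mul_eq_mul_right Nat.card_pos h

end center


section linear

variable {G : Type*} [Group G] [Finite G]

/-- A linear character has `G'` in its kernel. -/
theorem commutator_le_kerC_of_linear (ξ : IrrCharacter G) (h : charDegree (ξ : G → ℂ) = 1) :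
    commutator G ≤ kerC ξ := by
  have hlin : Helper75_LinChar.IsLin G (ξ : G → ℂ) := by
    refine ⟨?_, ?_⟩
    · obtain ⟨n, ρ, _, hρ⟩ := ξ.2
      exact ⟨n, ρ, hρ⟩
    · rw [irr_one_eq_charDegree, h]; simp
  rw [commutator_def, Subgroup.commutator_le]
  intro a _ b _
  rw [mem_kerC, commutatorElement_def, hlin.map_mul, hlin.map_mul, hlin.map_mul, hlin.map_inv,
    hlin.map_inv, hlin.2]
  have ha := hlin.ne_zero a
  have hb := hlin.ne_zero b
  field_simp

/-- Degrees of irreducible characters of `p`-groups are powers of `p`. -/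
theorem charDegree_eq_prime_pow (p : ℕ) [hp : Fact p.Prime] (hG : IsPGroup p G)
    (χ : IrrCharacter G) : ∃ j : ℕ, charDegree (χ : G → ℂ) = p ^ j := by
  obtain ⟨n, hn⟩ := hG.exists_card_eq
  have h := charDegree_dvd_card χ
  rw [hn] at h
  obtain ⟨j, _, hj⟩ := (Nat.dvd_prime_pow hp.out).mp h
  exact ⟨j, hj⟩

end linear

end Cfsg.Agent.Lib.Helper76_GalConj
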