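import Mathlib
import Cfsg.Agent.Lib.Helper57_FrobNorm
import Cfsg.Agent.Lib.Helper32_PGroup
import Cfsg.Agent.Lib.Helper32_Sylow
import Cfsg.Agent.S0135

/-!
# Characters of a group with a "Frobenius-type" normal subgroup, part 2 (helper57)

`L` a finite group, `M` a normal subgroup such that no element outside `M` commutes with a
nonidentity element of `M`; `e = |L : M|`.  Then `gcd(e, |M|) = 1`, the degree of every
irreducible character not constant on `M` is divisible by `e`, the squares of the degrees of the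
irreducible characters constant on `M` sum to `e`, and a complex number `q` such that
`q * (χ(1) / e)` is an integer for all relevant `χ` is an integer.
-/

set_option autoImplicit false
set_option linter.unusedSectionVars false

namespace Cfsg.Agent.Lib.Helper57_FrobNorm2

open scoped ComplexConjugate
open Cfsg.Agent.Lib.Helper3_CharBridge Cfsg.Agent.Lib.Helper3_CharOrtho
  Cfsg.Agent.Lib.Helper3_CharComplete Cfsg.Agent.Lib.Helper3_CharColumn
  Cfsg.Agent.Lib.Helper75_CharArith Cfsg.Agent.Lib.Helper57_FrobNorm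

section Vanish

variable {G : Type*} [Group G] [Finite G]

/-- The sum of a character over a subgroup is a natural multiple of the order of the subgroup. -/
theorem sum_subgroup_char' {θ : G → ℂ} (hθ : Cfsg.IsCharacter G θ) (P : Subgroup G)
    [Fintype P] : ∃ d : ℕ, ∑ x : P, θ (x : G) = (Nat.card P : ℂ) * d := by
  obtain ⟨d, hd⟩ := classInner_isCharacter_nat (isCharacter_restrict P hθ)
    (isCharacter_of_isIrrCharacter (Cfsg.Agent.Lib.Helper80_CharBasic.isIrrCharacter_one P))
  refine ⟨d, ?_⟩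
  unfold Cfsg.classInner at hd
  have hP : (Nat.card P : ℂ) ≠ 0 := card_ne_zero_complex
  have h2 : ∑ x : P, (fun h : P => θ (h : G)) x * conj ((fun _ : P => (1 : ℂ)) x) =
      ∑ x : P, θ (x : G) := by simp
  rw [h2] at hd
  rw [← hd]
  field_simp

/-- A character vanishing at all `p`-singular elements has degree divisible by the full power of
`p` dividing the group order. -/
theorem pow_dvd_of_vanish' {p : ℕ} (hp : p.Prime)
    (θ : G → ℂ) (hθ : Cfsg.IsCharacter G θ) (n : ℕ) (hn : θ 1 = n)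
    (hvan : ∀ y : G, p ∣ orderOf y → θ y = 0) :
    p ^ (Nat.card G).factorization p ∣ n := by
  classical
  have : Fact p.Prime := ⟨hp⟩
  obtain ⟨P⟩ : Nonempty (Sylow p G) := inferInstance
  have hPcard : Nat.card (P : Subgroup G) = p ^ (Nat.card G).factorization p :=
    P.card_eq_multiplicity
  have := Fintype.ofFinite (P : Subgroup G)
  have hsum1 : ∑ x : (P : Subgroup G), θ (x : G) = θ 1 := by
    rw [Finset.sum_eq_single (1 : (P : Subgroup G))]
    · simp
    · intro x _ hx
      have hx1 : (x : G) ≠ 1 := fun h => hx (Subtype.ext h)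
      obtain ⟨j, hj⟩ := (P.isPGroup'.to_le le_rfl) x
      have hord : orderOf (x : G) ∣ p ^ j := by
        rw [orderOf_dvd_iff_pow_eq_one]
        simpa using congrArg Subtype.val hj
      obtain ⟨i, _, hi⟩ := (Nat.dvd_prime_pow hp).mp hord
      have hi0 : i ≠ 0 := by
        rintro rfl
        rw [pow_zero, orderOf_eq_one_iff] at hi
        exact hx1 hi
      exact hvan _ (by rw [hi]; exact dvd_pow_self p hi0)
    · intro h; exact absurd (Finset.mem_univ _) h
  obtain ⟨d, hd⟩ := sum_subgroup_char' hθ (P : Subgroup G)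
  rw [hsum1, hn, hPcard] at hd
  have hd' : n = p ^ (Nat.card G).factorization p * d := by exact_mod_cast hd
  exact ⟨d, hd'⟩

end Vanish

section Frobenius

variable {L : Type*} [Group L] [Fintype L] (M : Subgroup L) [M.Normal]

/-- The index of `M` is coprime to the order of `M`. -/
theorem not_dvd_card_of_dvd_index
    (hF : ∀ x : L, x ∉ M → ∀ k ∈ M, x * k = k * x → k = 1) {p : ℕ} (hp : p.Prime)
    (hpi : p ∣ M.index) : ¬ p ∣ Nat.card M := by
  intro hpM
  have : Fact p.Prime := ⟨hp⟩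
  obtain ⟨P⟩ : Nonempty (Sylow p L) := inferInstance
  -- an element of `P` outside `M`
  have hPM : ¬ (P : Subgroup L) ≤ M := by
    intro hle
    exact P.not_dvd_index (hpi.trans (Subgroup.index_dvd_of_le hle))
  obtain ⟨x, hxP, hxM⟩ := SetLike.not_le_iff_exists.mp hPM
  -- `P ⊓ M` is nontrivial
  have hPM1 : (P : Subgroup L) ⊓ M ≠ ⊥ := by
    intro h
    have h1 := Cfsg.Agent.Lib.Helper32_Sylow.not_dvd_relIndex_inf_normal P M
    rw [h, Subgroup.relIndex_bot_left] at h1
    exact h1 hpM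
  have hn : (((P : Subgroup L) ⊓ M).subgroupOf (P : Subgroup L)).Normal := by
    have : ((P : Subgroup L) ⊓ M).subgroupOf (P : Subgroup L) = M.subgroupOf (P : Subgroup L) := by
      rw [inf_comm, Subgroup.inf_subgroupOf_right]
    rw [this]
    infer_instance
  have hne : ((P : Subgroup L) ⊓ M).subgroupOf (P : Subgroup L) ≠ ⊥ := by
    intro h
    apply hPM1
    rw [eq_bot_iff]
    intro y hy
    have h1 : (⟨y, (Subgroup.mem_inf.mp hy).1⟩ : (P : Subgroup L)) ∈
        ((P : Subgroup L) ⊓ M).subgroupOf (P : Subgroup L) := Subgroup.mem_subgroupOf.mpr hy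
    rw [h, Subgroup.mem_bot] at h1
    rw [Subgroup.mem_bot]
    exact congrArg Subtype.val h1
  obtain ⟨z, hzN, hzc, hz1⟩ :=
    Cfsg.Agent.Lib.Helper32_PGroup.exists_mem_center_of_normal P.isPGroup' _ hne
  have hzM : (z : L) ∈ M := (Subgroup.mem_inf.mp (Subgroup.mem_subgroupOf.mp hzN)).2
  have hcomm := Subgroup.mem_center_iff.mp hzc ⟨x, hxP⟩
  have hcomm' : x * (z : L) = (z : L) * x := congrArg Subtype.val hcomm
  exact hz1 (Subtype.ext (hF x hxM z hzM hcomm'))

/-- The degree of an irreducible character which is not constant on `M` is divisible by the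
index of `M`. -/
theorem index_dvd_degree (hF : ∀ x : L, x ∉ M → ∀ k ∈ M, x * k = k * x → k = 1) {χ : L → ℂ}
    (hχ : Cfsg.IsIrrCharacter L χ) (hk : ∃ k ∈ M, χ k ≠ χ 1) {n : ℕ} (hn : χ 1 = n) :
    M.index ∣ n := by
  rw [Nat.dvd_iff_prime_pow_dvd_dvd]
  intro p k hp hpk
  rcases Nat.eq_zero_or_pos k with rfl | hk0
  · simp
  have hpi : p ∣ M.index := (dvd_pow_self p hk0.ne').trans hpk
  have hpM := not_dvd_card_of_dvd_index M hF hp hpi
  have hvan : ∀ y : L, p ∣ orderOf y → χ y = 0 := by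
    intro y hy
    apply vanish_off M hF hχ hk
    intro hyM
    apply hpM
    have := Subgroup.orderOf_dvd_natCard M hyM
    exact hy.trans this
  have h1 := pow_dvd_of_vanish' hp χ (isCharacter_of_isIrrCharacter hχ) n hn hvan
  have hidx : M.index ≠ 0 := Subgroup.index_ne_zero_of_finite
  have hM0 : Nat.card M ≠ 0 := Nat.card_pos.ne'
  have hfac : (Nat.card L).factorization p = M.index.factorization p := by
    rw [← Subgroup.card_mul_index M, Nat.factorization_mul hM0 hidx]
    simp [Nat.factorization_eq_zero_of_not_dvd hpM]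
  rw [hfac] at h1
  have hle : k ≤ M.index.factorization p := (hp.pow_dvd_iff_le_factorization hidx).mp hpk
  exact (pow_dvd_pow p hle).trans h1

/-- The degree of an irreducible character divides the group order. -/
theorem degree_dvd_card {χ : L → ℂ} (hχ : Cfsg.IsIrrCharacter L χ) {d : ℕ} (hd : χ 1 = d) :
    d ∣ Nat.card L := by
  obtain ⟨n, ρ, hirr, hρ⟩ := hχ
  have hdvd := @Cfsg.Agent.S0135.result L _ _ (Fin n → ℂ) _ _ _ ρ hirr
  rw [Module.finrank_fin_fun] at hdvd
  have h1 : χ 1 = n := by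
    rw [← hρ, Representation.char_one]
    simp
  have : (d : ℂ) = n := by rw [← hd, h1]
  have : d = n := by exact_mod_cast this
  rw [this]
  exact hdvd

open Classical in
/-- The squares of the degrees of the irreducible characters which are constant on `M` add up
to the index of `M` (multiplied form). -/
theorem card_mul_sum_sq_const (hF : ∀ x : L, x ∉ M → ∀ k ∈ M, x * k = k * x → k = 1) :
    (Nat.card M : ℂ) * ∑ φ : Cfsg.IrrCharacter L,
      (if (∃ k ∈ M, (φ : L → ℂ) k ≠ (φ : L → ℂ) 1) then 0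
        else (φ : L → ℂ) 1 * (φ : L → ℂ) 1) = (Nat.card L : ℂ) := by
  set E : ℂ := ∑ φ : Cfsg.IrrCharacter L,
      (if (∃ k ∈ M, (φ : L → ℂ) k ≠ (φ : L → ℂ) 1) then 0
        else (φ : L → ℂ) 1 * (φ : L → ℂ) 1) with hE
  -- the function `Λ`
  have hΛ : ∀ x : L, ∑ φ : Cfsg.IrrCharacter L,
      (if (∃ k ∈ M, (φ : L → ℂ) k ≠ (φ : L → ℂ) 1) then (φ : L → ℂ) 1 * (φ : L → ℂ) x else 0) =
      (if x ∈ M then -E else 0) + (if x = 1 then (Nat.card L : ℂ) else 0) := by
    intro x
    by_cases hxM : x ∈ M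
    · rw [if_pos hxM]
      -- split the full sum
      have hsplit : ∑ φ : Cfsg.IrrCharacter L, (φ : L → ℂ) 1 * (φ : L → ℂ) x =
          ∑ φ : Cfsg.IrrCharacter L,
            (if (∃ k ∈ M, (φ : L → ℂ) k ≠ (φ : L → ℂ) 1) then (φ : L → ℂ) 1 * (φ : L → ℂ) x
              else 0) + E := by
        rw [hE, ← Finset.sum_add_distrib]
        refine Finset.sum_congr rfl (fun φ _ => ?_)
        split_ifs with h
        · rw [add_zero]
        · rw [zero_add]
          have : (φ : L → ℂ) x = (φ : L → ℂ) 1 := by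
            by_contra hne
            exact h ⟨x, hxM, hne⟩
          rw [this]
      by_cases hx1 : x = 1
      · rw [if_pos hx1]
        have h2 : ∑ φ : Cfsg.IrrCharacter L, (φ : L → ℂ) 1 * (φ : L → ℂ) x = (Nat.card L : ℂ) := by
          rw [hx1, ← sum_sq_irr_one]
          refine Finset.sum_congr rfl (fun φ _ => ?_)
          rw [sq]
        rw [h2] at hsplit
        linear_combination -hsplit
      · rw [if_neg hx1, add_zero]
        rw [sum_irr_one_mul_eq_zero hx1] at hsplit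
        linear_combination -hsplit
    · rw [if_neg hxM, zero_add]
      have hx1 : x ≠ 1 := by
        rintro rfl
        exact hxM M.one_mem
      rw [if_neg hx1]
      apply Finset.sum_eq_zero
      intro φ _
      split_ifs with h
      · rw [vanish_off M hF φ.2 h hxM, mul_zero]
      · rfl
  -- sum over the group
  have hsum : ∑ x : L, ∑ φ : Cfsg.IrrCharacter L,
      (if (∃ k ∈ M, (φ : L → ℂ) k ≠ (φ : L → ℂ) 1) then (φ : L → ℂ) 1 * (φ : L → ℂ) x else 0) =
      0 := by
    rw [Finset.sum_comm]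
    apply Finset.sum_eq_zero
    intro φ _
    split_ifs with h
    · rw [← Finset.mul_sum]
      have hne : (φ : L → ℂ) ≠ fun _ => 1 := by
        intro h1
        obtain ⟨k, -, hk⟩ := h
        apply hk
        rw [h1]
      rw [sum_irr_eq_zero_of_ne_one φ.2 hne, mul_zero]
    · simp
  rw [Finset.sum_congr rfl (fun x _ => hΛ x), Finset.sum_add_distrib, Finset.sum_ite_eq'] at hsum
  simp only [Finset.mem_univ, if_true] at hsum
  have hcount : ∑ x : L, (if x ∈ M then -E else 0) = (Nat.card M : ℂ) * (-E) := by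
    rw [Finset.sum_ite, Finset.sum_const, Finset.sum_const_zero, add_zero, nsmul_eq_mul]
    congr 2
    rw [Nat.card_eq_fintype_card, Fintype.card_subtype]
  rw [hcount] at hsum
  linear_combination -hsum

open Classical in
/-- A complex number `q` such that `q * (χ(1) / e)` is an integer for every irreducible
character `χ` not constant on `M` is an integer (provided there is such a character). -/
theorem int_of_mul_degree_int (hF : ∀ x : L, x ∉ M → ∀ k ∈ M, x * k = k * x → k = 1) (q : ℂ)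
    (hχ₀ : ∃ χ₀ : L → ℂ, Cfsg.IsIrrCharacter L χ₀ ∧ ∃ k ∈ M, χ₀ k ≠ χ₀ 1)
    (hq : ∀ χ : L → ℂ, Cfsg.IsIrrCharacter L χ → (∃ k ∈ M, χ k ≠ χ 1) → ∀ n : ℕ,
      χ 1 = (M.index : ℂ) * n → ∃ w : ℤ, q * n = w) : ∃ w : ℤ, q = w := by
  have he0 : M.index ≠ 0 := Subgroup.index_ne_zero_of_finite
  have he0' : (M.index : ℂ) ≠ 0 := by exact_mod_cast he0
  have hM0' : (Nat.card M : ℂ) ≠ 0 := by
    have : Nat.card M ≠ 0 := Nat.card_pos.ne'
    exact_mod_cast this
  have key : ∀ φ : Cfsg.IrrCharacter L, ∃ (n : ℕ) (w : ℤ), q * n = w ∧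
      (if (∃ k ∈ M, (φ : L → ℂ) k ≠ (φ : L → ℂ) 1) then (φ : L → ℂ) 1 else 0) =
        (M.index : ℂ) * n := by
    intro φ
    by_cases h : ∃ k ∈ M, (φ : L → ℂ) k ≠ (φ : L → ℂ) 1
    · obtain ⟨d, -, hd⟩ := irr_one_eq_natCast φ.2
      obtain ⟨n, hn⟩ := index_dvd_degree M hF φ.2 h hd
      have hd' : (φ : L → ℂ) 1 = (M.index : ℂ) * n := by
        rw [hd, hn]
        push_cast
        ring
      obtain ⟨w, hw⟩ := hq φ φ.2 h n hd'
      exact ⟨n, w, hw, by rw [if_pos h, hd']⟩
    · exact ⟨0, 0, by simp, by rw [if_neg h]; simp⟩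
  choose n w hw hn using key
  -- the sum of the squares of the relevant degrees
  have hE := card_mul_sum_sq_const M hF
  have hsq := sum_sq_irr_one (G := L)
  have hsplit : ∑ φ : Cfsg.IrrCharacter L, (φ : L → ℂ) 1 ^ 2 =
      ∑ φ : Cfsg.IrrCharacter L, ((M.index : ℂ) * n φ) ^ 2 +
      ∑ φ : Cfsg.IrrCharacter L,
      (if (∃ k ∈ M, (φ : L → ℂ) k ≠ (φ : L → ℂ) 1) then 0
        else (φ : L → ℂ) 1 * (φ : L → ℂ) 1) := by
    rw [← Finset.sum_add_distrib]
    refine Finset.sum_congr rfl (fun φ _ => ?_)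
    rw [← hn φ]
    split_ifs with h
    · ring
    · ring
  have hLM : (Nat.card L : ℂ) = (Nat.card M : ℂ) * (M.index : ℂ) := by
    rw [← Subgroup.card_mul_index M]
    push_cast
    ring
  -- `e * ∑ n² = |M| - 1`
  have hrel : (M.index : ℂ) * ∑ φ : Cfsg.IrrCharacter L, ((n φ : ℂ)) ^ 2 =
      (Nat.card M : ℂ) - 1 := by
    have h1 : ∑ φ : Cfsg.IrrCharacter L, ((M.index : ℂ) * n φ) ^ 2 =
        (M.index : ℂ) ^ 2 * ∑ φ : Cfsg.IrrCharacter L, ((n φ : ℂ)) ^ 2 := by
      rw [Finset.mul_sum]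
      refine Finset.sum_congr rfl (fun φ _ => ?_)
      ring
    rw [hsq, h1] at hsplit
    set E : ℂ := ∑ φ : Cfsg.IrrCharacter L,
      (if (∃ k ∈ M, (φ : L → ℂ) k ≠ (φ : L → ℂ) 1) then 0
        else (φ : L → ℂ) 1 * (φ : L → ℂ) 1) with hEdef
    have hEe : E = (M.index : ℂ) := by
      have : (Nat.card M : ℂ) * E = (Nat.card M : ℂ) * (M.index : ℂ) := by rw [hE, hLM]
      exact mul_left_cancel₀ hM0' this
    rw [hEe, hLM] at hsplit
    have : (M.index : ℂ) * ((M.index : ℂ) * ∑ φ : Cfsg.IrrCharacter L, ((n φ : ℂ)) ^ 2) =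
        (M.index : ℂ) * ((Nat.card M : ℂ) - 1) := by
      linear_combination -hsplit
    exact mul_left_cancel₀ he0' this
  -- `q * (|M| - 1)` is an integer
  have h1 : q * ((Nat.card M : ℂ) - 1) =
      ((M.index * ∑ φ : Cfsg.IrrCharacter L, w φ * n φ : ℤ) : ℂ) := by
    rw [← hrel]
    push_cast
    rw [Finset.mul_sum, Finset.mul_sum, Finset.mul_sum]
    refine Finset.sum_congr rfl (fun φ _ => ?_)
    rw [← hw φ]
    ring
  -- `q * |M|` is an integer
  obtain ⟨χ₀, hχ₀, hk₀⟩ := hχ₀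
  have hn₀ := hn ⟨χ₀, hχ₀⟩
  rw [if_pos hk₀] at hn₀
  have hdvd : M.index * n ⟨χ₀, hχ₀⟩ ∣ Nat.card L := by
    apply degree_dvd_card hχ₀
    have hn₀' : χ₀ 1 = (M.index : ℂ) * n ⟨χ₀, hχ₀⟩ := hn₀
    rw [hn₀']
    push_cast
    ring
  rw [← Subgroup.card_mul_index M, mul_comm (Nat.card M)] at hdvd
  obtain ⟨r, hr⟩ := (Nat.mul_dvd_mul_iff_left (Nat.pos_of_ne_zero he0)).mp hdvd
  have h2 : q * (Nat.card M : ℂ) = ((w ⟨χ₀, hχ₀⟩ * r : ℤ) : ℂ) := by
    rw [hr]
    push_cast
    rw [← hw ⟨χ₀, hχ₀⟩]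
    ring
  refine ⟨w ⟨χ₀, hχ₀⟩ * r - M.index * ∑ φ : Cfsg.IrrCharacter L, w φ * n φ, ?_⟩
  have : q = q * (Nat.card M : ℂ) - q * ((Nat.card M : ℂ) - 1) := by ring
  rw [this, h1, h2]
  push_cast
  ring

open Classical in
/-- Evaluation on `M \ {1}` of a class function whose multiplicities on the characters not
constant on `M` are proportional to the degrees. -/
theorem eval_on_kernel (hF : ∀ x : L, x ∉ M → ∀ k ∈ M, x * k = k * x → k = 1) (F : L → ℂ)
    (hFc : Cfsg.IsClassFunction L F) (c : ℂ)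
    (hc : ∀ φ : Cfsg.IrrCharacter L, (∃ k ∈ M, (φ : L → ℂ) k ≠ (φ : L → ℂ) 1) →
      Cfsg.classInner F φ = c * (φ : L → ℂ) 1) {k : L} (hkM : k ∈ M) (hk1 : k ≠ 1) :
    F k = ∑ φ : Cfsg.IrrCharacter L,
      (if (∃ k ∈ M, (φ : L → ℂ) k ≠ (φ : L → ℂ) 1) then 0
        else Cfsg.classInner F φ * (φ : L → ℂ) 1) - c * (M.index : ℂ) := by
  have hM0' : (Nat.card M : ℂ) ≠ 0 := by
    have : Nat.card M ≠ 0 := Nat.card_pos.ne'
    exact_mod_cast this
  have hE := card_mul_sum_sq_const M hF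
  set E : ℂ := ∑ φ : Cfsg.IrrCharacter L,
      (if (∃ k ∈ M, (φ : L → ℂ) k ≠ (φ : L → ℂ) 1) then 0
        else (φ : L → ℂ) 1 * (φ : L → ℂ) 1) with hEdef
  have hEe : E = (M.index : ℂ) := by
    have hLM : (Nat.card L : ℂ) = (Nat.card M : ℂ) * (M.index : ℂ) := by
      rw [← Subgroup.card_mul_index M]
      push_cast
      ring
    have : (Nat.card M : ℂ) * E = (Nat.card M : ℂ) * (M.index : ℂ) := by rw [hE, hLM]
    exact mul_left_cancel₀ hM0' this
  have hk := congrFun (classFunction_eq_sum F hFc) k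
  simp only [Finset.sum_apply, Pi.smul_apply, smul_eq_mul] at hk
  have hterm : ∀ φ : Cfsg.IrrCharacter L,
      Cfsg.classInner F φ * (φ : L → ℂ) k =
      c * ((φ : L → ℂ) 1 * (φ : L → ℂ) k) +
      ((if (∃ k ∈ M, (φ : L → ℂ) k ≠ (φ : L → ℂ) 1) then 0
        else Cfsg.classInner F φ * (φ : L → ℂ) 1) -
      c * (if (∃ k ∈ M, (φ : L → ℂ) k ≠ (φ : L → ℂ) 1) then 0
        else (φ : L → ℂ) 1 * (φ : L → ℂ) 1)) := by
    intro φ
    split_ifs with hφ
    · rw [hc φ hφ]
      ring
    · have : (φ : L → ℂ) k = (φ : L → ℂ) 1 := by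
        by_contra hne
        exact hφ ⟨k, hkM, hne⟩
      rw [this]
      ring
  rw [hk, Finset.sum_congr rfl (fun φ _ => hterm φ), Finset.sum_add_distrib, ← Finset.mul_sum,
    sum_irr_one_mul_eq_zero hk1, mul_zero, zero_add, Finset.sum_sub_distrib, ← Finset.mul_sum,
    ← hEdef, hEe]

end Frobenius

end Cfsg.Agent.Lib.Helper57_FrobNorm2
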