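import Mathlib
import Cfsg.Prelude.Def_Characters

/-!
# The `p`-regular elements of a `q`-elementary group (`q ≠ p`) form a subgroup (helper57)

`exists_pRegular_subgroup`: in a finite `q`-elementary group `E` and for a prime `p ≠ q`, there is
a subgroup `K` whose elements are exactly the elements of order prime to `p`, and
`|E| = p ^ ν_p(|E|) * |K|`.
-/

set_option autoImplicit false

namespace Cfsg.Agent.Lib.Helper57_PRegElem

open Subgroup
open scoped Pointwise

/-- A `p`-element of a group with a normal subgroup `Z` of index prime to `p` lies in `Z`. -/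
theorem mem_of_pow_prime_order {E : Type*} [Group E] [Finite E] {p q : ℕ} (hp : p.Prime)
    (hq : q.Prime) (hpq : p ≠ q) (Z : Subgroup E) [Z.Normal] {k : ℕ} (hk : Z.index = q ^ k)
    {e : E} {i : ℕ} (he : e ^ (p ^ i) = 1) : e ∈ Z := by
  have h1 : orderOf (QuotientGroup.mk' Z e) ∣ p ^ i := by
    apply orderOf_dvd_of_pow_eq_one
    rw [← map_pow, he, map_one]
  have h2 : orderOf (QuotientGroup.mk' Z e) ∣ q ^ k := by
    rw [← hk, Subgroup.index_eq_card]
    exact orderOf_dvd_natCard _
  have hc : Nat.Coprime (p ^ i) (q ^ k) :=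
    Nat.Coprime.pow _ _ ((Nat.coprime_primes hp hq).mpr hpq)
  have h3 : orderOf (QuotientGroup.mk' Z e) = 1 := Nat.eq_one_of_dvd_coprimes hc h1 h2
  rw [orderOf_eq_one_iff] at h3
  rw [← QuotientGroup.ker_mk' Z, MonoidHom.mem_ker]
  exact h3

/-- In a finite `q`-elementary group, for a prime `p ≠ q`, the `p`-regular elements form a subgroup
`K` with `|E| = |E|_p * |K|`. -/
theorem exists_pRegular_subgroup {E : Type*} [Group E] [Finite E] {p q : ℕ} (hp : p.Prime)
    (hq : q.Prime) (hpq : p ≠ q) (hE : Cfsg.IsElementary q E) :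
    ∃ K : Subgroup E, (∀ e : E, e ∈ K ↔ ¬ p ∣ orderOf e) ∧
      Nat.card E = p ^ (Nat.card E).factorization p * Nat.card K := by
  have : Fact p.Prime := ⟨hp⟩
  obtain ⟨x, hxc, -, k, hk⟩ := hE
  have hZn : (zpowers x).Normal := by
    constructor
    intro y hy g
    obtain ⟨j, rfl⟩ := Subgroup.mem_zpowers_iff.mp hy
    have hc : Commute g x := Subgroup.mem_center_iff.mp hxc g
    have h1 : g * x ^ j * g⁻¹ = x ^ j := by
      rw [(hc.zpow_right j).eq, mul_inv_cancel_right]
    rw [h1]
    exact Subgroup.zpow_mem_zpowers _ _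
  obtain ⟨P⟩ : Nonempty (Sylow p E) := inferInstance
  -- `P` is central
  have hPc : ∀ u ∈ (P : Subgroup E), u ∈ center E := by
    intro u hu
    obtain ⟨i, hi⟩ := P.2 ⟨u, hu⟩
    have hi' : u ^ (p ^ i) = 1 := by
      have := congrArg Subtype.val hi
      simpa using this
    have huZ : u ∈ zpowers x := mem_of_pow_prime_order hp hq hpq (zpowers x) hk hi'
    obtain ⟨j, rfl⟩ := Subgroup.mem_zpowers_iff.mp huZ
    exact zpow_mem hxc j
  have hPn : (P : Subgroup E).Normal := by
    constructor
    intro n hn g
    have hc : Commute g n := Subgroup.mem_center_iff.mp (hPc n hn) g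
    rw [hc.eq, mul_inv_cancel_right]
    exact hn
  obtain ⟨K, hK⟩ := Subgroup.exists_right_complement'_of_coprime (N := (P : Subgroup E))
    P.card_coprime_index
  have hcard : Nat.card (P : Subgroup E) * Nat.card K = Nat.card E := hK.card_mul_card
  have hPcard : Nat.card (P : Subgroup E) = p ^ (Nat.card E).factorization p :=
    P.card_eq_multiplicity
  have hKidx : Nat.card K = (P : Subgroup E).index := by
    have h1 := (P : Subgroup E).card_mul_index
    have hpos : 0 < Nat.card (P : Subgroup E) := Nat.card_pos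
    exact Nat.eq_of_mul_eq_mul_left hpos (hcard.trans h1.symm)
  have hpK : ¬ p ∣ Nat.card K := by
    rw [hKidx]
    exact P.not_dvd_index
  refine ⟨K, ?_, by rw [← hPcard, hcard]⟩
  intro e
  constructor
  · intro he hdvd
    apply hpK
    have h1 : orderOf e ∣ Nat.card K := by
      have := orderOf_dvd_natCard (⟨e, he⟩ : K)
      rwa [Subgroup.orderOf_mk] at this
    exact hdvd.trans h1
  · intro hreg
    -- write `e = u * k'`
    have hmem : e ∈ ((P : Subgroup E) : Set E) * (K : Set E) := by
      have := (Subgroup.isComplement'_def.mp hK).mul_eq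
      rw [this]; exact Set.mem_univ e
    obtain ⟨u, hu, k', hk', rfl⟩ := Set.mem_mul.mp hmem
    have hcomm : Commute u k' := (Subgroup.mem_center_iff.mp (hPc u hu) k').symm
    -- `u ^ |K| = (u k') ^ |K|` is both `p`-regular and a `p`-element
    have hk'pow : k' ^ Nat.card K = 1 := by
      have h0 : (⟨k', hk'⟩ : K) ^ Nat.card K = 1 := pow_card_eq_one'
      have h1 := congrArg Subtype.val h0
      rwa [Subgroup.coe_pow, Subgroup.coe_one] at h1
    have hw : (u * k') ^ Nat.card K = u ^ Nat.card K := by
      rw [hcomm.mul_pow, hk'pow, mul_one]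
    have hw1 : u ^ Nat.card K = 1 := by
      by_contra hne
      -- order of `w` is a nontrivial power of `p`
      obtain ⟨i, hi⟩ := P.2 ⟨u, hu⟩
      have hi' : u ^ (p ^ i) = 1 := by
        have := congrArg Subtype.val hi
        simpa using this
      have hwp : (u ^ Nat.card K) ^ (p ^ i) = 1 := by
        rw [← pow_mul, mul_comm, pow_mul, hi', one_pow]
      obtain ⟨j, -, hj⟩ := (Nat.dvd_prime_pow hp).mp (orderOf_dvd_of_pow_eq_one hwp)
      have hj0 : j ≠ 0 := by
        rintro rfl
        rw [pow_zero, orderOf_eq_one_iff] at hj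
        exact hne hj
      have hpw : p ∣ orderOf (u ^ Nat.card K) := by
        rw [hj]; exact dvd_pow_self p hj0
      have hdvd : orderOf (u ^ Nat.card K) ∣ orderOf (u * k') := by
        rw [← hw]; exact orderOf_pow_dvd _
      exact hreg (hpw.trans hdvd)
    have hu1 : u = 1 := by
      have h1 : orderOf u ∣ Nat.card K := orderOf_dvd_of_pow_eq_one hw1
      have h2 : orderOf u ∣ Nat.card (P : Subgroup E) := by
        have := orderOf_dvd_natCard (⟨u, hu⟩ : (P : Subgroup E))
        rwa [Subgroup.orderOf_mk] at this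
      have hc : Nat.Coprime (Nat.card (P : Subgroup E)) (Nat.card K) := by
        rw [hKidx]; exact P.card_coprime_index
      have := Nat.eq_one_of_dvd_coprimes hc h2 h1
      exact orderOf_eq_one_iff.mp this
    rw [hu1, one_mul]
    exact hk'

end Cfsg.Agent.Lib.Helper57_PRegElem
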