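import Mathlib
import Cfsg.Prelude.Def_Characters
import Cfsg.Agent.Lib.Helper57_PRegElem
import Cfsg.Agent.Lib.Helper57_FrobNorm2
import Cfsg.Agent.Lib.Helper75_CharProd
import Cfsg.Agent.Lib.Helper75_Induced
import Cfsg.Agent.Lib.Helper3_CharEigen

/-!
# Integrality of `p ^ a * [χ on p-regular elements, ξ]` from Brauer's local induction (helper57)

`regPart p α` is the class function equal to `α` on the `p`-regular elements and `0` elsewhere.
From the conclusion of Brauer's local induction theorem (statement S0874) for all primes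
`q ≠ p` we deduce that `p ^ a * [regPart p α, β]` is an integer for all characters `α`, `β` of
`G`, where `p ^ a` is the `p`-part of `|G|`.
-/

set_option autoImplicit false
set_option linter.unusedSectionVars false

namespace Cfsg.Agent.Lib.Helper57_PRegInt

open scoped ComplexConjugate
open Cfsg.Agent.Lib.Helper3_CharBridge Cfsg.Agent.Lib.Helper3_CharOrtho
  Cfsg.Agent.Lib.Helper75_CharArith Cfsg.Agent.Lib.Helper75_CharProd
  Cfsg.Agent.Lib.Helper75_Induced Cfsg.Agent.Lib.Helper75_Clifford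

/-- The truncation of a function to the `p`-regular elements. -/
noncomputable def regPart {G : Type*} [Group G] (p : ℕ) (α : G → ℂ) : G → ℂ :=
  fun g => if p ∣ orderOf g then 0 else α g

theorem regPart_of_dvd {G : Type*} [Group G] {p : ℕ} (α : G → ℂ) {g : G} (h : p ∣ orderOf g) :
    regPart p α g = 0 := if_pos h

theorem regPart_of_not_dvd {G : Type*} [Group G] {p : ℕ} (α : G → ℂ) {g : G}
    (h : ¬ p ∣ orderOf g) : regPart p α g = α g := if_neg h

theorem regPart_isClassFunction {G : Type*} [Group G] (p : ℕ) {α : G → ℂ}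
    (hα : Cfsg.IsClassFunction G α) : Cfsg.IsClassFunction G (regPart p α) := by
  intro g h
  have ho : orderOf (h * g * h⁻¹) = orderOf g := by
    have := orderOf_injective (MulAut.conj h).toMonoidHom (MulAut.conj h).injective g
    simpa using this
  unfold regPart
  rw [ho, hα g h]

/-- The conclusion of Brauer's local induction theorem (statement S0874) at the prime `q`. -/
def BrauerLocal (G : Type*) [Group G] [Fintype G] (q : ℕ) : Prop :=
  ∃ (m : ℤ) (l : List ((E : Subgroup G) × ((E → ℂ) × ℤ))), ¬ (q : ℤ) ∣ m ∧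
    (∀ t ∈ l, Cfsg.IsElementary q t.1 ∧ Cfsg.IsCharacter t.1 t.2.1) ∧
    (fun _ : G => (m : ℂ)) = (l.map fun t => (t.2.2 : ℂ) • Cfsg.indFun t.1 t.2.1).sum

/-- In a `q`-elementary group, `|E|_p / |E|` times the sum of a character over the `p`-regular
elements is a natural number. -/
theorem sum_reg_elementary {E : Type*} [Group E] [Fintype E] {p q : ℕ} (hp : p.Prime)
    (hq : q.Prime) (hpq : p ≠ q) (hE : Cfsg.IsElementary q E) {ψ : E → ℂ}
    (hψ : Cfsg.IsCharacter E ψ) :
    ∃ d : ℕ, ((p ^ (Nat.card E).factorization p : ℕ) : ℂ) * (Nat.card E : ℂ)⁻¹ *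
      ∑ e : E, (if p ∣ orderOf e then 0 else ψ e) = d := by
  classical
  obtain ⟨K, hK, hcard⟩ := Cfsg.Agent.Lib.Helper57_PRegElem.exists_pRegular_subgroup hp hq hpq hE
  obtain ⟨d, hd⟩ := Cfsg.Agent.Lib.Helper57_FrobNorm2.sum_subgroup_char' hψ K
  refine ⟨d, ?_⟩
  have h1 : ∑ e : E, (if p ∣ orderOf e then 0 else ψ e) = ∑ x : K, ψ (x : E) := by
    have h2 : ∀ e : E, (if p ∣ orderOf e then (0 : ℂ) else ψ e) = if e ∈ K then ψ e else 0 := by
      intro e
      by_cases h : p ∣ orderOf e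
      · rw [if_pos h, if_neg (fun hk => (hK e).mp hk h)]
      · rw [if_neg h, if_pos ((hK e).mpr h)]
    rw [Finset.sum_congr rfl (fun e _ => h2 e), ← Finset.sum_filter]
    exact Finset.sum_subtype (Finset.univ.filter (fun e => e ∈ K)) (by simp) ψ
  rw [h1, hd]
  have hE0 : (Nat.card E : ℂ) ≠ 0 := by
    rw [Nat.cast_ne_zero]; exact Nat.card_pos.ne'
  have hc : (Nat.card E : ℂ) = ((p ^ (Nat.card E).factorization p : ℕ) : ℂ) * (Nat.card K : ℂ) := by
    rw [← Nat.cast_mul, ← hcard]
  have hp0 : ((p ^ (Nat.card E).factorization p : ℕ) : ℂ) ≠ 0 := by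
    rw [Nat.cast_ne_zero]; exact pow_ne_zero _ hp.ne_zero
  have hK0 : (Nat.card K : ℂ) ≠ 0 := by
    rw [Nat.cast_ne_zero]; exact Nat.card_pos.ne'
  rw [hc]
  field_simp

/-- One induced term: `p ^ a * [regPart p α * Ind φ, β]` is an integer for a character `φ` of a
`q`-elementary subgroup. -/
theorem term_int {G : Type*} [Group G] [Fintype G] {p q : ℕ} (hp : p.Prime) (hq : q.Prime)
    (hpq : p ≠ q) (E : Subgroup G) (hE : Cfsg.IsElementary q E) {φ : E → ℂ}
    (hφ : Cfsg.IsCharacter E φ) {α β : G → ℂ} (hα : Cfsg.IsCharacter G α)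
    (hβ : Cfsg.IsCharacter G β) :
    ∃ z : ℤ, ((p ^ (Nat.card G).factorization p : ℕ) : ℂ) *
      Cfsg.classInner (regPart p α * Cfsg.indFun E φ) β = z := by
  classical
  have hαc := isClassFunction_of_isCharacter hα
  have hβc := isClassFunction_of_isCharacter hβ
  have : Fintype E := Fintype.ofFinite E
  rw [mul_comm (regPart p α), indFun_mul E φ (regPart_isClassFunction p hαc),
    frobenius_reciprocity E _ β hβc]
  -- the character `ψ = φ * α|_E * conj β|_E`
  have hψ : Cfsg.IsCharacter E (φ * (fun e : E => α e) * (fun e : E => conj (β e))) :=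
    isCharacter_mul (isCharacter_mul hφ (isCharacter_restrict E hα))
      (isCharacter_conj (isCharacter_restrict E hβ))
  obtain ⟨d, hd⟩ := sum_reg_elementary hp hq hpq hE hψ
  have hle : (Nat.card E).factorization p ≤ (Nat.card G).factorization p := by
    have hdvd : Nat.card E ∣ Nat.card G := Subgroup.card_subgroup_dvd_card E
    exact (Nat.factorization_le_iff_dvd Nat.card_pos.ne' Nat.card_pos.ne').mpr hdvd p
  refine ⟨((p ^ ((Nat.card G).factorization p - (Nat.card E).factorization p) * d : ℕ) : ℤ), ?_⟩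
  have hsum : ∑ e : E, (φ * res E (regPart p α)) e * conj (β e) =
      ∑ e : E, (if p ∣ orderOf e then 0
        else (φ * (fun e : E => α e) * (fun e : E => conj (β e))) e) := by
    refine Finset.sum_congr rfl fun e _ => ?_
    have ho : orderOf (e : G) = orderOf e := Subgroup.orderOf_coe e
    by_cases h : p ∣ orderOf e
    · rw [if_pos h]
      have : res E (regPart p α) e = 0 := by
        show regPart p α (e : G) = 0
        exact regPart_of_dvd α (ho ▸ h)
      rw [Pi.mul_apply, this, mul_zero, zero_mul]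
    · rw [if_neg h]
      have : res E (regPart p α) e = α e := by
        show regPart p α (e : G) = α e
        exact regPart_of_not_dvd α (ho ▸ h)
      rw [Pi.mul_apply, this, Pi.mul_apply, Pi.mul_apply]
  unfold Cfsg.classInner
  rw [hsum]
  have hpow : ((p ^ (Nat.card G).factorization p : ℕ) : ℂ) =
      ((p ^ ((Nat.card G).factorization p - (Nat.card E).factorization p) : ℕ) : ℂ) *
        ((p ^ (Nat.card E).factorization p : ℕ) : ℂ) := by
    rw [← Nat.cast_mul, ← pow_add, Nat.sub_add_cancel hle]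
  rw [hpow, mul_assoc, ← mul_assoc ((p ^ (Nat.card E).factorization p : ℕ) : ℂ), hd]
  push_cast
  ring

/-- List induction for `brauerLocal_mul_int`. -/
theorem list_int {G : Type*} [Group G] [Fintype G] {p q : ℕ} (hp : p.Prime) (hq : q.Prime)
    (hpq : p ≠ q) {α β : G → ℂ} (hα : Cfsg.IsCharacter G α) (hβ : Cfsg.IsCharacter G β)
    (l : List ((E : Subgroup G) × ((E → ℂ) × ℤ)))
    (hl : ∀ t ∈ l, Cfsg.IsElementary q t.1 ∧ Cfsg.IsCharacter t.1 t.2.1) :
    ∃ z : ℤ, ((p ^ (Nat.card G).factorization p : ℕ) : ℂ) *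
      Cfsg.classInner (regPart p α * (l.map fun t => (t.2.2 : ℂ) • Cfsg.indFun t.1 t.2.1).sum) β
        = z := by
  induction l with
  | nil =>
    refine ⟨0, ?_⟩
    simp [classInner_zero_left]
  | cons t l ih =>
    obtain ⟨z₁, hz₁⟩ := ih (fun s hs => hl s (List.mem_cons_of_mem _ hs))
    obtain ⟨hE, hφ⟩ := hl t List.mem_cons_self
    obtain ⟨z₂, hz₂⟩ := term_int hp hq hpq t.1 hE hφ hα hβ
    refine ⟨t.2.2 * z₂ + z₁, ?_⟩
    rw [List.map_cons, List.sum_cons, mul_add, classInner_add_left, mul_add, hz₁]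
    have h1 : regPart p α * ((t.2.2 : ℂ) • Cfsg.indFun t.1 t.2.1) =
        (t.2.2 : ℂ) • (regPart p α * Cfsg.indFun t.1 t.2.1) := by
      funext g
      simp only [Pi.mul_apply, Pi.smul_apply, smul_eq_mul]
      ring
    rw [h1, classInner_smul_left, mul_left_comm, hz₂]
    push_cast
    ring

/-- From Brauer's local induction at `q ≠ p`: `m * (p ^ a * [regPart p α, β])` is an integer. -/
theorem brauerLocal_mul_int {G : Type*} [Group G] [Fintype G] {p q : ℕ} (hp : p.Prime)
    (hq : q.Prime) (hpq : p ≠ q) (hB : BrauerLocal G q) {α β : G → ℂ}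
    (hα : Cfsg.IsCharacter G α) (hβ : Cfsg.IsCharacter G β) :
    ∃ m : ℤ, ¬ (q : ℤ) ∣ m ∧ ∃ z : ℤ, (m : ℂ) * (((p ^ (Nat.card G).factorization p : ℕ) : ℂ) *
      Cfsg.classInner (regPart p α) β) = z := by
  obtain ⟨m, l, hm, hl, hsum⟩ := hB
  obtain ⟨z, hz⟩ := list_int hp hq hpq hα hβ l hl
  refine ⟨m, hm, z, ?_⟩
  rw [← hz, ← hsum]
  have h1 : (regPart p α * fun _ : G => (m : ℂ)) = (m : ℂ) • regPart p α := by
    funext g
    simp only [Pi.mul_apply, Pi.smul_apply, smul_eq_mul]
    ring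
  rw [h1, classInner_smul_left]
  ring

/-- Character values are algebraic integers. -/
theorem isIntegral_of_isCharacter {G : Type*} [Group G] [Finite G] {α : G → ℂ}
    (hα : Cfsg.IsCharacter G α) (g : G) : IsIntegral ℤ (α g) := by
  obtain ⟨n, ρ, rfl⟩ := hα
  exact Cfsg.Agent.Lib.Helper3_CharEigen.isIntegral_char ρ g

/-- **Integrality.** If Brauer's local induction theorem holds for `G` at every prime `q ≠ p`,
then `p ^ a * [regPart p α, β]` is an integer for all characters `α`, `β`, where `p ^ a` is the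
`p`-part of `|G|`. -/
theorem regInner_int {G : Type*} [Group G] [Fintype G] {p : ℕ} (hp : p.Prime)
    (hB : ∀ q : ℕ, q.Prime → q ≠ p → BrauerLocal G q) {α β : G → ℂ}
    (hα : Cfsg.IsCharacter G α) (hβ : Cfsg.IsCharacter G β) :
    ∃ n : ℤ, ((p ^ (Nat.card G).factorization p : ℕ) : ℂ) *
      Cfsg.classInner (regPart p α) β = n := by
  set N : ℂ := ((p ^ (Nat.card G).factorization p : ℕ) : ℂ) *
      Cfsg.classInner (regPart p α) β with hN
  set W : ℂ := ∑ g : G, regPart p α g * conj (β g) with hW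
  set m' : ℕ := (Nat.card G) / p ^ (Nat.card G).factorization p with hm'
  have hG0 : Nat.card G ≠ 0 := Nat.card_pos.ne'
  have hGm : p ^ (Nat.card G).factorization p * m' = Nat.card G :=
    Nat.ordProj_mul_ordCompl_eq_self (Nat.card G) p
  have hm'0 : m' ≠ 0 := by
    intro h
    rw [h, mul_zero] at hGm
    exact hG0 hGm.symm
  have hpm' : ¬ p ∣ m' := Nat.not_dvd_ordCompl hp hG0
  -- `m' * N = W`
  have hWN : (m' : ℂ) * N = W := by
    have hGc : (Nat.card G : ℂ) = ((p ^ (Nat.card G).factorization p : ℕ) : ℂ) * (m' : ℂ) := by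
      rw [← Nat.cast_mul, hGm]
    have hG0' : (Nat.card G : ℂ) ≠ 0 := Nat.cast_ne_zero.mpr hG0
    have hp0 : ((p ^ (Nat.card G).factorization p : ℕ) : ℂ) ≠ 0 := by
      rw [Nat.cast_ne_zero]; exact pow_ne_zero _ hp.ne_zero
    have hm0 : (m' : ℂ) ≠ 0 := Nat.cast_ne_zero.mpr hm'0
    rw [hN]
    unfold Cfsg.classInner
    rw [← hW, hGc]
    field_simp
  -- `W` is an algebraic integer
  have hWint : IsIntegral ℤ W := by
    rw [hW]
    refine IsIntegral.sum _ fun g _ => ?_
    refine IsIntegral.mul ?_ (map_isIntegral_int (starRingEnd ℂ) (isIntegral_of_isCharacter hβ g))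
    unfold regPart
    split_ifs
    · exact isIntegral_zero
    · exact isIntegral_of_isCharacter hα g
  -- `W` is rational
  obtain ⟨q₀, hq₀, hq₀p⟩ : ∃ q₀ : ℕ, q₀.Prime ∧ q₀ ≠ p := by
    by_cases h2 : p = 2
    · exact ⟨3, Nat.prime_three, by omega⟩
    · exact ⟨2, Nat.prime_two, fun h => h2 h.symm⟩
  have hWrat : ∃ r : ℚ, W = r := by
    obtain ⟨m₀, hm₀, z₀, hz₀⟩ := brauerLocal_mul_int hp hq₀ hq₀p.symm (hB q₀ hq₀ hq₀p) hα hβ
    have hm₀0 : (m₀ : ℂ) ≠ 0 := by
      rw [Int.cast_ne_zero]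
      rintro rfl
      exact hm₀ (dvd_zero _)
    refine ⟨(m' : ℚ) * z₀ / m₀, ?_⟩
    rw [← hWN]
    push_cast
    rw [← hz₀, ← hN]
    field_simp
  obtain ⟨w, hw⟩ := (IsIntegral.exists_int_iff_exists_rat hWint).mp hWrat
  -- `m'` divides `w`
  have hdvd : (m' : ℤ) ∣ w := by
    rw [Int.natCast_dvd, Nat.dvd_iff_prime_pow_dvd_dvd]
    intro q k hq hqk
    rcases Nat.eq_zero_or_pos k with rfl | hk
    · rw [pow_zero]; exact one_dvd _
    have hqp : q ≠ p := by
      rintro rfl
      exact hpm' ((dvd_pow_self q hk.ne').trans hqk)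
    obtain ⟨mq, hmq, zq, hzq⟩ := brauerLocal_mul_int hp hq hqp.symm (hB q hq hqp) hα hβ
    have hint : mq * w = (m' : ℤ) * zq := by
      have : ((mq * w : ℤ) : ℂ) = (((m' : ℤ) * zq : ℤ) : ℂ) := by
        push_cast
        rw [← hw, ← hzq, ← hN, ← hWN]
        ring
      exact_mod_cast this
    have hqk' : ((q : ℤ)) ^ k ∣ mq * w := by
      rw [hint]
      exact Dvd.dvd.mul_right (by exact_mod_cast hqk) zq
    have := Prime.pow_dvd_of_dvd_mul_left (Nat.prime_iff_prime_int.mp hq) k hmq hqk'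
    have h2 : ((q ^ k : ℕ) : ℤ) ∣ w := by
      push_cast; exact this
    exact Int.natCast_dvd.mp h2
  obtain ⟨n, hn⟩ := hdvd
  refine ⟨n, ?_⟩
  have hm0 : (m' : ℂ) ≠ 0 := Nat.cast_ne_zero.mpr hm'0
  have h1 : (m' : ℂ) * N = (m' : ℂ) * n := by
    rw [hWN, hw, hn]
    push_cast
    ring
  exact mul_left_cancel₀ hm0 h1

end Cfsg.Agent.Lib.Helper57_PRegInt
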