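import Mathlib
import Cfsg.Prelude.Def_Blocks
import Cfsg.Prelude.Def_BlockRank
import Cfsg.Agent.Lib.Helper57_PRegInt
import Cfsg.Agent.Lib.Helper77_RegProj
import Cfsg.Agent.Lib.Helper77_BlockBasics
import Cfsg.Agent.Lib.Helper78_CharFacts

/-!
# Height zero characters and the `p`-regular inner products (helper57)

For irreducible characters `χ`, `ξ` of `G` put `N(χ, ξ) = p ^ a * [χ on p-regular elements, ξ]`
(`p ^ a` the `p`-part of `|G|`).  Assuming these numbers are integers (`RegInt`, which follows from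
Brauer's local induction theorem, see `Helper57_PRegInt.regInner_int`) we prove, with ordinary
characters only:

* `N(χ, ξ) = N(ξ, χ)`, `N(χ, ξ) = 0` for `χ`, `ξ` in different blocks;
* `r(χ, ξ) = (|G| / p ^ a) * N(χ, ξ) / χ(1)` is an integer, and `r(χ, ξ) ≡ r(ψ, ξ)` modulo `p`
  for `χ`, `ψ` in the same block;
* a class function with integral multiplicities vanishing on the `p`-singular elements has
  degree divisible by `p ^ a`;
* for `χ ∈ B`: `χ` has height zero iff `p ∤ r(χ, χ)` iff `ν_p (N(χ, ξ)) = ν_p (ξ(1))` for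
  some/all `ξ ∈ B`.
-/

set_option autoImplicit false
set_option linter.unusedSectionVars false

namespace Cfsg.Agent.Lib.Helper57_HeightZero

open Cfsg
open scoped ComplexConjugate
open Cfsg.Agent.Lib.Helper3_CharBridge Cfsg.Agent.Lib.Helper3_CharOrtho
  Cfsg.Agent.Lib.Helper3_CharComplete
  Cfsg.Agent.Lib.Helper75_CharArith Cfsg.Agent.Lib.Helper57_PRegInt
  Cfsg.Agent.Lib.Helper78_LocalRing Cfsg.Agent.Lib.Helper78_Osima
  Cfsg.Agent.Lib.Helper78_CharFacts Cfsg.Agent.Lib.Helper78_CentralChar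
  Cfsg.Agent.Lib.Helper77_BlockBasics

variable {G : Type*} [Group G] [Fintype G] {p : ℕ}

/-- Integrality of the `p`-regular inner products of irreducible characters. -/
def RegInt (G : Type*) [Group G] [Fintype G] (p : ℕ) : Prop :=
  ∀ χ ξ : IrrCharacter G, ∃ n : ℤ, ((p ^ (Nat.card G).factorization p : ℕ) : ℂ) *
    classInner (regPart p (χ : G → ℂ)) (ξ : G → ℂ) = n

theorem regInt_of_brauerLocal (hp : p.Prime)
    (hB : ∀ q : ℕ, q.Prime → q ≠ p → BrauerLocal G q) : RegInt G p :=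
  fun χ ξ => regInner_int hp hB (isCharacter_of_isIrrCharacter χ.2)
    (isCharacter_of_isIrrCharacter ξ.2)

/-- Symmetry of the `p`-regular inner product. -/
theorem regInner_symm (χ ξ : G → ℂ) :
    conj (classInner (regPart p χ) ξ) = classInner (regPart p ξ) χ := by
  rw [classInner_conj_symm]
  unfold classInner
  congr 1
  refine Finset.sum_congr rfl fun g _ => ?_
  by_cases h : p ∣ orderOf g
  · rw [regPart_of_dvd _ h, regPart_of_dvd _ h, map_zero, mul_zero, zero_mul]
  · rw [regPart_of_not_dvd _ h, regPart_of_not_dvd _ h]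

/-- `regPart` agrees with the frozen `pRegularPart`. -/
theorem pRegularPart_eq_regPart (χ : G → ℂ) : pRegularPart p χ = regPart p χ := by
  funext g
  by_cases h : p ∣ orderOf g
  · rw [regPart_of_dvd _ h, Cfsg.Agent.Lib.Helper77_RegProj.pRegularPart_of_sing _ h]
  · rw [regPart_of_not_dvd _ h, Cfsg.Agent.Lib.Helper77_RegProj.pRegularPart_of_reg _ h]

/-- The central-character form of the `p`-regular inner product. -/
theorem omega_regPart (χ ξ : G → ℂ) (h1 : χ 1 ≠ 0) :
    omega χ (regPart p (fun g => conj (ξ g))) * χ 1 =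
      (Nat.card G : ℂ) * classInner (regPart p χ) ξ := by
  unfold omega classInner
  rw [div_mul_cancel₀ _ h1]
  have hG0 : (Nat.card G : ℂ) ≠ 0 := Nat.cast_ne_zero.mpr Nat.card_pos.ne'
  rw [← mul_assoc, mul_inv_cancel₀ hG0, one_mul]
  refine Finset.sum_congr rfl fun g _ => ?_
  by_cases h : p ∣ orderOf g
  · rw [regPart_of_dvd _ h, regPart_of_dvd _ h, zero_mul, zero_mul]
  · rw [regPart_of_not_dvd _ h, regPart_of_not_dvd _ h, mul_comm]

/-- `omega χ f` is an algebraic integer when `f` is a class function with algebraic integer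
values and `χ` is irreducible. -/
theorem isIntegral_omega {χ : G → ℂ} (hχ : IsIrrCharacter G χ) {f : G → ℂ}
    (hf : IsClassFunction G f) (hfi : ∀ g, IsIntegral ℤ (f g)) : IsIntegral ℤ (omega χ f) := by
  classical
  rw [omega_eq_sum_conjClasses (isClassFunction_of_isIrrCharacter hχ) hf]
  refine IsIntegral.sum _ fun c _ => ?_
  exact IsIntegral.mul (hfi _) (isIntegral_centralChar_of_isIrrCharacter hχ _)

theorem isClassFunction_conj {ξ : G → ℂ} (hξ : IsClassFunction G ξ) :
    IsClassFunction G (fun g => conj (ξ g)) := by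
  intro g h
  show conj (ξ (h * g * h⁻¹)) = conj (ξ g)
  rw [hξ g h]

theorem isIntegral_regPart_conj {ξ : G → ℂ} (hξ : IsCharacter G ξ) (g : G) :
    IsIntegral ℤ (regPart p (fun g => conj (ξ g)) g) := by
  unfold regPart
  split_ifs
  · exact isIntegral_zero
  · exact map_isIntegral_int (starRingEnd ℂ) (isIntegral_of_isCharacter hξ g)

/-- A class function with integral multiplicities that vanishes on the `p`-singular elements has
degree divisible by the `p`-part of `|G|`. -/
theorem pow_dvd_of_vanish_int (hp : p.Prime) {θ : G → ℂ} (hθ : IsClassFunction G θ)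
    (hint : ∀ ξ : IrrCharacter G, ∃ n : ℤ, classInner θ (ξ : G → ℂ) = n)
    (hvan : ∀ y : G, p ∣ orderOf y → θ y = 0) :
    ∃ k : ℤ, θ 1 = ((p ^ (Nat.card G).factorization p : ℕ) : ℂ) * k := by
  classical
  have : Fact p.Prime := ⟨hp⟩
  obtain ⟨P⟩ : Nonempty (Sylow p G) := inferInstance
  have hPcard : Nat.card (P : Subgroup G) = p ^ (Nat.card G).factorization p :=
    P.card_eq_multiplicity
  have := Fintype.ofFinite (P : Subgroup G)
  have hsum1 : ∑ x : (P : Subgroup G), θ (x : G) = θ 1 := by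
    rw [Finset.sum_eq_single (1 : (P : Subgroup G))]
    · simp
    · intro x _ hx
      have hx1 : (x : G) ≠ 1 := fun h => hx (Subtype.ext h)
      obtain ⟨j, hj⟩ := (P.isPGroup'.to_le le_rfl) x
      have hord : orderOf (x : G) ∣ p ^ j := by
        rw [orderOf_dvd_iff_pow_eq_one]
        simpa using congrArg Subtype.val hj
      obtain ⟨i, _, hi⟩ := (Nat.dvd_prime_pow hp).mp hord
      have hi0 : i ≠ 0 := by
        rintro rfl
        rw [pow_zero, orderOf_eq_one_iff] at hi
        exact hx1 hi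
      exact hvan _ (by rw [hi]; exact dvd_pow_self p hi0)
    · intro h; exact absurd (Finset.mem_univ _) h
  choose n hn using hint
  have hd : ∀ ξ : IrrCharacter G, ∃ d : ℕ,
      ∑ x : (P : Subgroup G), (ξ : G → ℂ) (x : G) = (Nat.card (P : Subgroup G) : ℂ) * d :=
    fun ξ => Cfsg.Agent.Lib.Helper57_FrobNorm2.sum_subgroup_char'
      (isCharacter_of_isIrrCharacter ξ.2) (P : Subgroup G)
  choose d hd using hd
  refine ⟨∑ ξ : IrrCharacter G, n ξ * (d ξ : ℤ), ?_⟩
  rw [← hsum1]
  have hexp : ∀ x : G, θ x = ∑ ξ : IrrCharacter G, (n ξ : ℂ) * (ξ : G → ℂ) x := by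
    intro x
    conv_lhs => rw [classFunction_eq_sum θ hθ]
    rw [Finset.sum_apply]
    refine Finset.sum_congr rfl fun ξ _ => ?_
    rw [Pi.smul_apply, smul_eq_mul, hn ξ]
  simp_rw [hexp]
  rw [Finset.sum_comm]
  simp_rw [← Finset.mul_sum, hd, hPcard]
  push_cast
  rw [Finset.mul_sum]
  refine Finset.sum_congr rfl fun ξ _ => ?_
  ring

/-- The integer `N(χ, ξ) = p ^ a * [χ on p-regular elements, ξ]`. -/
noncomputable def NN (hI : RegInt G p) (χ ξ : IrrCharacter G) : ℤ := (hI χ ξ).choose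

theorem NN_spec (hI : RegInt G p) (χ ξ : IrrCharacter G) :
    ((p ^ (Nat.card G).factorization p : ℕ) : ℂ) *
      classInner (regPart p (χ : G → ℂ)) (ξ : G → ℂ) = NN hI χ ξ := (hI χ ξ).choose_spec

theorem NN_symm (hI : RegInt G p) (χ ξ : IrrCharacter G) : NN hI χ ξ = NN hI ξ χ := by
  have h1 := NN_spec hI χ ξ
  have h2 := NN_spec hI ξ χ
  have h3 := congrArg conj h1
  rw [map_mul, map_natCast, regInner_symm, h2, map_intCast] at h3
  exact_mod_cast h3.symm

/-- The `p'`-part of the group order. -/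
noncomputable def mPrime (G : Type*) [Group G] (p : ℕ) : ℕ :=
  Nat.card G / p ^ (Nat.card G).factorization p

theorem pow_mul_mPrime (G : Type*) [Group G] (p : ℕ) :
    p ^ (Nat.card G).factorization p * mPrime G p = Nat.card G :=
  Nat.ordProj_mul_ordCompl_eq_self (Nat.card G) p

theorem not_dvd_mPrime (hp : p.Prime) : ¬ p ∣ mPrime G p :=
  Nat.not_dvd_ordCompl hp Nat.card_pos.ne'

theorem mPrime_ne_zero : mPrime G p ≠ 0 := by
  intro h
  have := pow_mul_mPrime G p
  rw [h, mul_zero] at this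
  exact Nat.card_pos.ne' this.symm

/-- The integer `r(χ, ξ)`, the value of the central character of `χ` on the `p`-regular part of
the conjugate of `ξ`. -/
theorem exists_rr (hI : RegInt G p) (χ ξ : IrrCharacter G) :
    ∃ r : ℤ, omega (χ : G → ℂ) (regPart p (fun g => conj ((ξ : G → ℂ) g))) = r ∧
      r * (charDegree (χ : G → ℂ) : ℤ) = (mPrime G p : ℤ) * NN hI χ ξ := by
  have hdeg := apply_one_eq_charDegree χ
  have hpos := charDegree_pos χ
  have hd0 : ((charDegree (χ : G → ℂ) : ℕ) : ℂ) ≠ 0 := Nat.cast_ne_zero.mpr hpos.ne'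
  have h1 : (χ : G → ℂ) 1 ≠ 0 := by rw [hdeg]; exact hd0
  have hω := omega_regPart (p := p) (χ : G → ℂ) (ξ : G → ℂ) h1
  have hG : (Nat.card G : ℂ) = ((p ^ (Nat.card G).factorization p : ℕ) : ℂ) * (mPrime G p : ℂ) := by
    rw [← Nat.cast_mul, pow_mul_mPrime]
  have hkey : omega (χ : G → ℂ) (regPart p (fun g => conj ((ξ : G → ℂ) g))) *
      (charDegree (χ : G → ℂ) : ℂ) = (mPrime G p : ℂ) * (NN hI χ ξ : ℂ) := by
    rw [← hdeg, hω, hG, ← NN_spec hI χ ξ]
    ring
  have hint : IsIntegral ℤ (omega (χ : G → ℂ) (regPart p (fun g => conj ((ξ : G → ℂ) g)))) :=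
    isIntegral_omega χ.2
      (regPart_isClassFunction p (isClassFunction_conj (isClassFunction_of_isIrrCharacter ξ.2)))
      (isIntegral_regPart_conj (isCharacter_of_isIrrCharacter ξ.2))
  have hrat : ∃ q : ℚ, omega (χ : G → ℂ) (regPart p (fun g => conj ((ξ : G → ℂ) g))) = q := by
    refine ⟨(mPrime G p : ℚ) * (NN hI χ ξ : ℚ) / (charDegree (χ : G → ℂ) : ℚ), ?_⟩
    push_cast
    rw [eq_div_iff hd0, hkey]
  obtain ⟨r, hr⟩ := (IsIntegral.exists_int_iff_exists_rat hint).mp hrat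
  refine ⟨r, hr, ?_⟩
  rw [hr] at hkey
  exact_mod_cast hkey

/-- The integer `r(χ, ξ)`. -/
noncomputable def rr (hI : RegInt G p) (χ ξ : IrrCharacter G) : ℤ := (exists_rr hI χ ξ).choose

theorem rr_spec (hI : RegInt G p) (χ ξ : IrrCharacter G) :
    omega (χ : G → ℂ) (regPart p (fun g => conj ((ξ : G → ℂ) g))) = rr hI χ ξ :=
  (exists_rr hI χ ξ).choose_spec.1

theorem rr_mul (hI : RegInt G p) (χ ξ : IrrCharacter G) :
    rr hI χ ξ * (charDegree (χ : G → ℂ) : ℤ) = (mPrime G p : ℤ) * NN hI χ ξ :=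
  (exists_rr hI χ ξ).choose_spec.2

section Block

variable {M : Ideal AlgInt} {B : Set (IrrCharacter G)}

/-- `r(χ, ξ) ≡ r(ψ, ξ)` modulo `p` for `χ`, `ψ` in the same block. -/
theorem rr_congr (hM : IsPModular p M) (hB : IsPBlock M B) (hI : RegInt G p)
    {χ ψ : IrrCharacter G} (hχ : χ ∈ B) (hψ : ψ ∈ B) (ξ : IrrCharacter G) :
    (p : ℤ) ∣ rr hI χ ξ - rr hI ψ ξ := by
  have hM' := isPrime_of_isPModular hM
  have hsb := isPBlock_sameBlock hM' hB hχ hψ
  have hf : IsClassFunction G (regPart p (fun g => conj ((ξ : G → ℂ) g))) :=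
    regPart_isClassFunction p (isClassFunction_conj (isClassFunction_of_isIrrCharacter ξ.2))
  have hfR : ∀ g, MemLocalRing M (regPart p (fun g => conj ((ξ : G → ℂ) g)) g) := by
    intro g
    have hint := isIntegral_regPart_conj (p := p) (isCharacter_of_isIrrCharacter ξ.2) g
    exact memLocalRing_algInt hM' ⟨_, hint⟩
  have h := memLocalIdeal_omega_sub hM' (isClassFunction_of_isIrrCharacter χ.2)
    (isClassFunction_of_isIrrCharacter ψ.2) hsb hf hfR
  rw [rr_spec hI χ ξ, rr_spec hI ψ ξ, ← Int.cast_sub] at h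
  exact (memLocalIdeal_intCast_iff hM _).mp h

/-- Weak block orthogonality: `N(χ, ξ) = 0` for `χ ∈ B`, `ξ ∉ B`. -/
theorem NN_eq_zero_of_not_mem (hM : IsPModular p M) (hB : IsPBlock M B) (hI : RegInt G p)
    {χ ξ : IrrCharacter G} (hχ : χ ∈ B) (hξ : ξ ∉ B) : NN hI χ ξ = 0 := by
  classical
  have hM' := isPrime_of_isPModular hM
  have h := Cfsg.Agent.Lib.Helper77_RegProj.sum_pRegularPart_mul_conj_eq_zero hM B
    (fun g => osima_block' hM' hB g) ξ χ hξ hχ
  rw [pRegularPart_eq_regPart] at h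
  rw [NN_symm]
  have h2 := NN_spec hI ξ χ
  unfold classInner at h2
  rw [h, mul_zero, mul_zero] at h2
  exact_mod_cast h2.symm

/-- The valuation condition in terms of `r(ξ, χ)`. -/
theorem val_iff (hp : p.Prime) (hI : RegInt G p) (χ ξ : IrrCharacter G) :
    (NN hI χ ξ ≠ 0 ∧ padicValInt p (NN hI χ ξ) = (charDegree (ξ : G → ℂ)).factorization p) ↔
      ¬ (p : ℤ) ∣ rr hI ξ χ := by
  have : Fact p.Prime := ⟨hp⟩
  have h := rr_mul hI ξ χ
  rw [NN_symm hI ξ χ] at h
  have hd0 : ((charDegree (ξ : G → ℂ) : ℕ) : ℤ) ≠ 0 :=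
    Int.natCast_ne_zero.mpr (charDegree_pos ξ).ne'
  have hm0 : ((mPrime G p : ℕ) : ℤ) ≠ 0 := Int.natCast_ne_zero.mpr mPrime_ne_zero
  have hmv : padicValInt p ((mPrime G p : ℕ) : ℤ) = 0 := by
    apply padicValInt.eq_zero_of_not_dvd
    rw [Int.natCast_dvd_natCast]
    exact not_dvd_mPrime hp
  have hdv : padicValInt p ((charDegree (ξ : G → ℂ) : ℕ) : ℤ) =
      (charDegree (ξ : G → ℂ)).factorization p := by
    rw [padicValInt.of_nat, Nat.factorization_def _ hp]
  constructor
  · rintro ⟨hn0, hval⟩ hdvd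
    have hr0 : rr hI ξ χ ≠ 0 := by
      intro h0
      rw [h0, zero_mul] at h
      exact (mul_ne_zero hm0 hn0) h.symm
    have h1 := congrArg (padicValInt p) h
    rw [padicValInt.mul hr0 hd0, padicValInt.mul hm0 hn0, hmv, hdv, hval, zero_add] at h1
    have h2 : padicValInt p (rr hI ξ χ) = 0 := by omega
    rcases padicValInt.eq_zero_iff.mp h2 with h3 | h3 | h3
    · exact hp.one_lt.ne' h3
    · exact hr0 h3
    · exact h3 hdvd
  · intro hnd
    have hr0 : rr hI ξ χ ≠ 0 := by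
      rintro h0
      rw [h0] at hnd
      exact hnd (dvd_zero _)
    have hn0 : NN hI χ ξ ≠ 0 := by
      intro h0
      rw [h0, mul_zero] at h
      exact (mul_ne_zero hr0 hd0) h
    refine ⟨hn0, ?_⟩
    have h1 := congrArg (padicValInt p) h
    rw [padicValInt.mul hr0 hd0, padicValInt.mul hm0 hn0, hmv, hdv,
      padicValInt.eq_zero_of_not_dvd hnd] at h1
    omega

/-- Height zero in terms of `r(χ, χ)`. -/
theorem height_zero_iff (hp : p.Prime) (hM : IsPModular p M) (hB : IsPBlock M B)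
    (hI : RegInt G p) {χ : IrrCharacter G} (hχ : χ ∈ B) :
    blockHeight p B (χ : G → ℂ) = 0 ↔ ¬ (p : ℤ) ∣ rr hI χ χ := by
  have hpi : Prime (p : ℤ) := Nat.prime_iff_prime_int.mp hp
  set S : Set ℕ := (fun ψ : IrrCharacter G => (charDegree (ψ : G → ℂ)).factorization p) '' B
    with hS
  have hSne : S.Nonempty := ⟨_, χ, hχ, rfl⟩
  have hle : sInf S ≤ (charDegree (χ : G → ℂ)).factorization p := Nat.sInf_le ⟨χ, hχ, rfl⟩
  have hht : blockHeight p B (χ : G → ℂ) = (charDegree (χ : G → ℂ)).factorization p - sInf S := rfl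
  constructor
  · intro h0 hdvd
    rw [hht] at h0
    have heq : (charDegree (χ : G → ℂ)).factorization p = sInf S := by omega
    -- all `N(χ, ξ)` are divisible by `p ^ (h₀ + 1)`
    have hdiv : ∀ ξ : IrrCharacter G, ∃ k : ℤ, NN hI χ ξ = ((p ^ (sInf S + 1) : ℕ) : ℤ) * k := by
      intro ξ
      by_cases hξ : ξ ∈ B
      · have h1 : (p : ℤ) ∣ rr hI ξ χ := by
          have := rr_congr hM hB hI hξ hχ χ
          have h2 := dvd_sub hdvd this
          have h3 : rr hI χ χ - (rr hI ξ χ - rr hI χ χ) = 2 * rr hI χ χ - rr hI ξ χ := by ring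
          have h4 : (p : ℤ) ∣ rr hI ξ χ := by
            have := dvd_add this hdvd
            rwa [sub_add_cancel] at this
          exact h4
        have h2 := rr_mul hI ξ χ
        rw [NN_symm hI ξ χ] at h2
        have hmin : sInf S ≤ (charDegree (ξ : G → ℂ)).factorization p := Nat.sInf_le ⟨ξ, hξ, rfl⟩
        have h3 : ((p ^ (sInf S) : ℕ) : ℤ) ∣ ((charDegree (ξ : G → ℂ) : ℕ) : ℤ) := by
          rw [Int.natCast_dvd_natCast]
          exact (pow_dvd_pow p hmin).trans (Nat.ordProj_dvd _ p)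
        have h4 : ((p ^ (sInf S + 1) : ℕ) : ℤ) ∣ (mPrime G p : ℤ) * NN hI χ ξ := by
          rw [← h2, pow_succ, mul_comm (p ^ sInf S) p]
          push_cast
          exact mul_dvd_mul h1 (by exact_mod_cast h3)
        have h5 : ((p : ℤ)) ^ (sInf S + 1) ∣ NN hI χ ξ := by
          apply Prime.pow_dvd_of_dvd_mul_left hpi (sInf S + 1) _ (by exact_mod_cast h4)
          rw [Int.natCast_dvd_natCast]
          exact not_dvd_mPrime hp
        obtain ⟨k, hk⟩ := h5
        exact ⟨k, by rw [hk]; push_cast; ring⟩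
      · exact ⟨0, by rw [NN_eq_zero_of_not_mem hM hB hI hχ hξ, mul_zero]⟩
    -- the class function `θ = p ^ a / p ^ (h₀ + 1) * χ` on `p`-regular elements
    set c : ℂ := (((p ^ (sInf S + 1) : ℕ) : ℂ))⁻¹ * ((p ^ (Nat.card G).factorization p : ℕ) : ℂ)
      with hc
    have hpc : ((p ^ (sInf S + 1) : ℕ) : ℂ) ≠ 0 := by
      rw [Nat.cast_ne_zero]; exact pow_ne_zero _ hp.ne_zero
    have hpa : ((p ^ (Nat.card G).factorization p : ℕ) : ℂ) ≠ 0 := by
      rw [Nat.cast_ne_zero]; exact pow_ne_zero _ hp.ne_zero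
    have hθc : IsClassFunction G (c • regPart p (χ : G → ℂ)) := by
      intro g h
      show c * regPart p (χ : G → ℂ) (h * g * h⁻¹) = c * regPart p (χ : G → ℂ) g
      rw [regPart_isClassFunction p (isClassFunction_of_isIrrCharacter χ.2) g h]
    have hθint : ∀ ξ : IrrCharacter G, ∃ n : ℤ,
        classInner (c • regPart p (χ : G → ℂ)) (ξ : G → ℂ) = n := by
      intro ξ
      obtain ⟨k, hk⟩ := hdiv ξ
      refine ⟨k, ?_⟩
      rw [classInner_smul_left, hc, mul_assoc, NN_spec hI χ ξ, hk, Int.cast_mul, Int.cast_natCast,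
        ← mul_assoc, inv_mul_cancel₀ hpc, one_mul]
    have hθvan : ∀ y : G, p ∣ orderOf y → (c • regPart p (χ : G → ℂ)) y = 0 := by
      intro y hy
      show c * regPart p (χ : G → ℂ) y = 0
      rw [regPart_of_dvd _ hy, mul_zero]
    obtain ⟨k, hk⟩ := pow_dvd_of_vanish_int hp hθc hθint hθvan
    have h1 : ¬ p ∣ orderOf (1 : G) := by
      rw [orderOf_one]; exact hp.one_lt.ne' ∘ Nat.dvd_one.mp
    have hθ1 : (c • regPart p (χ : G → ℂ)) 1 = c * (charDegree (χ : G → ℂ) : ℂ) := by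
      show c * regPart p (χ : G → ℂ) 1 = _
      rw [regPart_of_not_dvd _ h1, apply_one_eq_charDegree]
    rw [hθ1, hc] at hk
    have hk' : ((charDegree (χ : G → ℂ) : ℕ) : ℂ) = ((p ^ (sInf S + 1) : ℕ) : ℂ) * (k : ℂ) := by
      field_simp at hk
      linear_combination hk
    have hk'' : ((charDegree (χ : G → ℂ) : ℕ) : ℤ) = ((p ^ (sInf S + 1) : ℕ) : ℤ) * k := by
      exact_mod_cast hk'
    have hdvd' : p ^ (sInf S + 1) ∣ charDegree (χ : G → ℂ) := by
      rw [← Int.natCast_dvd_natCast]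
      exact ⟨k, hk''⟩
    have := (hp.pow_dvd_iff_le_factorization (charDegree_pos χ).ne').mp hdvd'
    omega
  · intro hnd
    rw [hht]
    obtain ⟨ψ, hψ, hψe⟩ := Nat.sInf_mem hSne
    have hndψ : ¬ (p : ℤ) ∣ rr hI ψ χ := by
      intro h
      apply hnd
      have := rr_congr hM hB hI hχ hψ χ
      have := dvd_add this h
      rwa [sub_add_cancel] at this
    have h1 := rr_mul hI ψ χ
    have h2 := rr_mul hI χ ψ
    rw [NN_symm hI ψ χ, ← h2] at h1
    -- `p ^ ν(χ(1))` divides `r(ψ, χ) * ψ(1)`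
    have h3 : ((p : ℤ)) ^ ((charDegree (χ : G → ℂ)).factorization p) ∣
        rr hI ψ χ * ((charDegree (ψ : G → ℂ) : ℕ) : ℤ) := by
      rw [h1]
      apply Dvd.dvd.mul_left
      have : p ^ ((charDegree (χ : G → ℂ)).factorization p) ∣ charDegree (χ : G → ℂ) :=
        Nat.ordProj_dvd _ p
      exact_mod_cast (Int.natCast_dvd_natCast.mpr this)
    have h4 := Prime.pow_dvd_of_dvd_mul_left hpi _ hndψ h3
    have h5 : p ^ ((charDegree (χ : G → ℂ)).factorization p) ∣ charDegree (ψ : G → ℂ) := by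
      rw [← Int.natCast_dvd_natCast]
      exact_mod_cast h4
    have h6 := (hp.pow_dvd_iff_le_factorization (charDegree_pos ψ).ne').mp h5
    have : (charDegree (ψ : G → ℂ)).factorization p = sInf S := hψe
    omega

end Block

/-! ### Generalized characters -/

/-- A class function all of whose multiplicities are integers is a generalized character. -/
theorem isGeneralizedCharacter_of_int {θ : G → ℂ} (hθ : IsClassFunction G θ)
    (h : ∀ ξ : IrrCharacter G, ∃ n : ℤ, classInner θ (ξ : G → ℂ) = n) :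
    IsGeneralizedCharacter G θ := by
  classical
  choose n hn using h
  refine ⟨∑ ξ : IrrCharacter G, ((n ξ).toNat : ℂ) • (ξ : G → ℂ),
    ∑ ξ : IrrCharacter G, ((-n ξ).toNat : ℂ) • (ξ : G → ℂ), ?_, ?_, ?_⟩
  · apply isCharacter_sum
    intro ξ _
    have : (((n ξ).toNat : ℂ) • (ξ : G → ℂ)) = (n ξ).toNat • (ξ : G → ℂ) := by
      funext g; simp
    rw [this]
    exact isCharacter_nsmul _ (isCharacter_of_isIrrCharacter ξ.2)
  · apply isCharacter_sum
    intro ξ _
    have : (((-n ξ).toNat : ℂ) • (ξ : G → ℂ)) = (-n ξ).toNat • (ξ : G → ℂ) := by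
      funext g; simp
    rw [this]
    exact isCharacter_nsmul _ (isCharacter_of_isIrrCharacter ξ.2)
  · conv_lhs => rw [classFunction_eq_sum θ hθ]
    rw [← Finset.sum_sub_distrib]
    refine Finset.sum_congr rfl fun ξ _ => ?_
    rw [hn ξ, ← sub_smul]
    congr 1
    have := (n ξ).toNat_sub_toNat_neg
    have h2 : ((((n ξ).toNat : ℤ) - ((-n ξ).toNat : ℤ) : ℤ) : ℂ) = (n ξ : ℂ) := by rw [this]
    rw [← h2]
    push_cast
    ring

/-- The function of the statements: `c * χ` on the `p`-regular elements, `0` elsewhere. -/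
theorem tilde_eq (c : ℂ) (χ : G → ℂ) :
    (fun x : G => if p ∣ orderOf x then (0 : ℂ) else c * χ x) = c • regPart p χ := by
  funext x
  by_cases h : p ∣ orderOf x
  · rw [if_pos h, Pi.smul_apply, regPart_of_dvd _ h, smul_zero]
  · rw [if_neg h, Pi.smul_apply, regPart_of_not_dvd _ h, smul_eq_mul]

theorem tilde_isClassFunction (c : ℂ) {χ : G → ℂ} (hχ : IsClassFunction G χ) :
    IsClassFunction G (c • regPart p χ) := by
  intro g h
  show c * regPart p χ (h * g * h⁻¹) = c * regPart p χ g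
  rw [regPart_isClassFunction p hχ g h]

/-- **S0961**, from integrality. -/
theorem isGeneralizedCharacter_tilde (hI : RegInt G p) (χ : IrrCharacter G) :
    IsGeneralizedCharacter G (fun x : G => if p ∣ orderOf x then 0 else
      ((p ^ (Nat.card G).factorization p : ℕ) : ℂ) * (χ : G → ℂ) x) := by
  rw [tilde_eq]
  apply isGeneralizedCharacter_of_int (tilde_isClassFunction _ (isClassFunction_of_isIrrCharacter χ.2))
  intro ξ
  exact ⟨NN hI χ ξ, by rw [classInner_smul_left, NN_spec]⟩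

/-- `p ^ ν(χ(1))` divides `N(χ, ξ)`. -/
theorem pow_dvd_NN (hp : p.Prime) (hI : RegInt G p) (χ ξ : IrrCharacter G) :
    ((p : ℤ)) ^ ((charDegree (χ : G → ℂ)).factorization p) ∣ NN hI χ ξ := by
  have hpi : Prime (p : ℤ) := Nat.prime_iff_prime_int.mp hp
  have h := rr_mul hI χ ξ
  have h1 : ((p : ℤ)) ^ ((charDegree (χ : G → ℂ)).factorization p) ∣
      (mPrime G p : ℤ) * NN hI χ ξ := by
    rw [← h]
    apply Dvd.dvd.mul_left
    have : p ^ ((charDegree (χ : G → ℂ)).factorization p) ∣ charDegree (χ : G → ℂ) :=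
      Nat.ordProj_dvd _ p
    exact_mod_cast (Int.natCast_dvd_natCast.mpr this)
  apply Prime.pow_dvd_of_dvd_mul_left hpi _ _ h1
  rw [Int.natCast_dvd_natCast]
  exact not_dvd_mPrime hp

/-- **S4425**, first half, from integrality. -/
theorem isGeneralizedCharacter_tilde_div (hp : p.Prime) (hI : RegInt G p) (χ : IrrCharacter G) :
    IsGeneralizedCharacter G (fun x : G => if p ∣ orderOf x then (0 : ℂ) else
      ((p ^ ((Nat.card G).factorization p - (charDegree (χ : G → ℂ)).factorization p) : ℕ) : ℂ) *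
        (χ : G → ℂ) x) := by
  rw [tilde_eq]
  apply isGeneralizedCharacter_of_int (tilde_isClassFunction _ (isClassFunction_of_isIrrCharacter χ.2))
  intro ξ
  obtain ⟨k, hk⟩ := pow_dvd_NN hp hI χ ξ
  refine ⟨k, ?_⟩
  have hle := factorization_charDegree_le p χ
  have hb0 : ((p ^ (charDegree (χ : G → ℂ)).factorization p : ℕ) : ℂ) ≠ 0 := by
    rw [Nat.cast_ne_zero]; exact pow_ne_zero _ hp.ne_zero
  have hsplit : ((p ^ (Nat.card G).factorization p : ℕ) : ℂ) =
      ((p ^ ((Nat.card G).factorization p - (charDegree (χ : G → ℂ)).factorization p) : ℕ) : ℂ) *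
        ((p ^ (charDegree (χ : G → ℂ)).factorization p : ℕ) : ℂ) := by
    rw [← Nat.cast_mul, ← pow_add, Nat.sub_add_cancel hle]
  have h1 := NN_spec hI χ ξ
  rw [hsplit, hk] at h1
  rw [classInner_smul_left]
  have h2 : ((p ^ (charDegree (χ : G → ℂ)).factorization p : ℕ) : ℂ) *
      (((p ^ ((Nat.card G).factorization p - (charDegree (χ : G → ℂ)).factorization p) : ℕ) : ℂ) *
        classInner (regPart p (χ : G → ℂ)) (ξ : G → ℂ)) =
      ((p ^ (charDegree (χ : G → ℂ)).factorization p : ℕ) : ℂ) * (k : ℂ) := by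
    rw [← mul_assoc, mul_comm ((p ^ (charDegree (χ : G → ℂ)).factorization p : ℕ) : ℂ), h1]
    push_cast
    ring
  exact mul_left_cancel₀ hb0 h2

/-- **S4425**, second half (no hypothesis needed). -/
theorem not_isGeneralizedCharacter_tilde_div (hp : p.Prime) (χ : IrrCharacter G) :
    ¬ IsGeneralizedCharacter G (fun x : G => if p ∣ orderOf x then (0 : ℂ) else
      ((p ^ (Nat.card G).factorization p : ℕ) : ℂ) /
        ((p ^ ((charDegree (χ : G → ℂ)).factorization p + 1) : ℕ) : ℂ) * (χ : G → ℂ) x) := by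
  intro hgen
  rw [tilde_eq] at hgen
  have hc := Cfsg.Agent.Lib.Helper57_FrobNorm.isClassFunction_of_isGeneralizedCharacter hgen
  have hint : ∀ ξ : IrrCharacter G, ∃ n : ℤ, classInner
      ((((p ^ (Nat.card G).factorization p : ℕ) : ℂ) /
        ((p ^ ((charDegree (χ : G → ℂ)).factorization p + 1) : ℕ) : ℂ)) •
          regPart p (χ : G → ℂ)) (ξ : G → ℂ) = n :=
    fun ξ => Cfsg.Agent.Lib.Helper57_FrobNorm.classInner_genChar_int hgen
      (isCharacter_of_isIrrCharacter ξ.2)
  have hvan : ∀ y : G, p ∣ orderOf y →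
      ((((p ^ (Nat.card G).factorization p : ℕ) : ℂ) /
        ((p ^ ((charDegree (χ : G → ℂ)).factorization p + 1) : ℕ) : ℂ)) •
          regPart p (χ : G → ℂ)) y = 0 := by
    intro y hy
    rw [Pi.smul_apply, regPart_of_dvd _ hy, smul_zero]
  obtain ⟨k, hk⟩ := pow_dvd_of_vanish_int hp hc hint hvan
  have h1 : ¬ p ∣ orderOf (1 : G) := by
    rw [orderOf_one]; exact hp.one_lt.ne' ∘ Nat.dvd_one.mp
  rw [Pi.smul_apply, regPart_of_not_dvd _ h1, apply_one_eq_charDegree, smul_eq_mul] at hk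
  have hpa : ((p ^ (Nat.card G).factorization p : ℕ) : ℂ) ≠ 0 := by
    rw [Nat.cast_ne_zero]; exact pow_ne_zero _ hp.ne_zero
  have hpb : ((p ^ ((charDegree (χ : G → ℂ)).factorization p + 1) : ℕ) : ℂ) ≠ 0 := by
    rw [Nat.cast_ne_zero]; exact pow_ne_zero _ hp.ne_zero
  have hk' : ((charDegree (χ : G → ℂ) : ℕ) : ℂ) =
      ((p ^ ((charDegree (χ : G → ℂ)).factorization p + 1) : ℕ) : ℂ) * (k : ℂ) := by
    field_simp at hk
    linear_combination hk
  have hk'' : ((charDegree (χ : G → ℂ) : ℕ) : ℤ) =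
      ((p ^ ((charDegree (χ : G → ℂ)).factorization p + 1) : ℕ) : ℤ) * k := by
    exact_mod_cast hk'
  have hdvd' : p ^ ((charDegree (χ : G → ℂ)).factorization p + 1) ∣ charDegree (χ : G → ℂ) := by
    rw [← Int.natCast_dvd_natCast]
    exact ⟨k, hk''⟩
  have := (hp.pow_dvd_iff_le_factorization (charDegree_pos χ).ne').mp hdvd'
  omega

/-- **S4426**, from integrality. -/
theorem height_zero_tfae (hp : p.Prime) {M : Ideal AlgInt} (hM : IsPModular p M)
    {B : Set (IrrCharacter G)} (hB : IsPBlock M B) (hI : RegInt G p) (χ : IrrCharacter G)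
    (hχ : χ ∈ B) :
    (blockHeight p B (χ : G → ℂ) = 0 ↔ ∃ ξ ∈ B, ∃ n : ℤ,
      classInner (fun x : G => if p ∣ orderOf x then (0 : ℂ) else
        ((p ^ (Nat.card G).factorization p : ℕ) : ℂ) * (χ : G → ℂ) x) (ξ : G → ℂ) = (n : ℂ) ∧
        n ≠ 0 ∧ padicValInt p n = (charDegree (ξ : G → ℂ)).factorization p) ∧
    (blockHeight p B (χ : G → ℂ) = 0 ↔ ∀ ξ ∈ B, ∃ n : ℤ,
      classInner (fun x : G => if p ∣ orderOf x then (0 : ℂ) else
        ((p ^ (Nat.card G).factorization p : ℕ) : ℂ) * (χ : G → ℂ) x) (ξ : G → ℂ) = (n : ℂ) ∧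
        n ≠ 0 ∧ padicValInt p n = (charDegree (ξ : G → ℂ)).factorization p) := by
  have hbridge : ∀ ξ : IrrCharacter G, classInner (fun x : G => if p ∣ orderOf x then (0 : ℂ) else
        ((p ^ (Nat.card G).factorization p : ℕ) : ℂ) * (χ : G → ℂ) x) (ξ : G → ℂ) =
        (NN hI χ ξ : ℂ) := by
    intro ξ
    rw [tilde_eq, classInner_smul_left, NN_spec]
  have hcond : ∀ ξ : IrrCharacter G, (∃ n : ℤ,
      classInner (fun x : G => if p ∣ orderOf x then (0 : ℂ) else
        ((p ^ (Nat.card G).factorization p : ℕ) : ℂ) * (χ : G → ℂ) x) (ξ : G → ℂ) = (n : ℂ) ∧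
        n ≠ 0 ∧ padicValInt p n = (charDegree (ξ : G → ℂ)).factorization p) ↔
      ¬ (p : ℤ) ∣ rr hI ξ χ := by
    intro ξ
    rw [← val_iff hp hI χ ξ]
    constructor
    · rintro ⟨n, hn, hn0, hnv⟩
      rw [hbridge] at hn
      have : NN hI χ ξ = n := by exact_mod_cast hn
      rw [this]
      exact ⟨hn0, hnv⟩
    · rintro ⟨hn0, hnv⟩
      exact ⟨NN hI χ ξ, hbridge ξ, hn0, hnv⟩
  have hmove : ∀ ξ ∈ B, (¬ (p : ℤ) ∣ rr hI ξ χ ↔ ¬ (p : ℤ) ∣ rr hI χ χ) := by
    intro ξ hξ
    have h := rr_congr hM hB hI hξ hχ χ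
    constructor
    · intro h1 h2
      apply h1
      have := dvd_add h h2
      rwa [sub_add_cancel] at this
    · intro h1 h2
      apply h1
      have := dvd_sub h2 h
      rwa [sub_sub_cancel] at this
  have hht := height_zero_iff hp hM hB hI hχ
  constructor
  · rw [hht]
    constructor
    · intro h
      exact ⟨χ, hχ, (hcond χ).mpr h⟩
    · rintro ⟨ξ, hξ, hc⟩
      exact (hmove ξ hξ).mp ((hcond ξ).mp hc)
  · rw [hht]
    constructor
    · intro h ξ hξ
      exact (hcond ξ).mpr ((hmove ξ hξ).mpr h)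
    · intro h
      exact (hcond χ).mp (h χ hχ)

end Cfsg.Agent.Lib.Helper57_HeightZero
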