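import Mathlib
import Cfsg.Agent.Lib.Helper57_HeightZero

/-!
# The trace of the `p`-regular Gram matrix of a block (helper57)

For a `p`-block `e` of a finite group `K`, with `Γ(ψ, ψ') = [ψ°, ψ']` the inner products of the
`p`-regular parts of the members of `e`: `∑_{ψ ∈ e} Γ(ψ, ψ) = l(e)`, the `p`-regular rank of `e`
(`sum_regInner_self_eq_blockRank`).  (`Γ` is the orthogonal projection onto the span of the
`ψ°`; its trace is its rank.)
-/

set_option autoImplicit false
set_option linter.unusedSectionVars false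

namespace Cfsg.Agent.Lib.Helper57_GramTrace

open Cfsg
open scoped ComplexConjugate
open Cfsg.Agent.Lib.Helper3_CharBridge Cfsg.Agent.Lib.Helper3_CharOrtho
  Cfsg.Agent.Lib.Helper3_CharComplete
  Cfsg.Agent.Lib.Helper75_CharArith Cfsg.Agent.Lib.Helper57_PRegInt
  Cfsg.Agent.Lib.Helper57_HeightZero
  Cfsg.Agent.Lib.Helper78_LocalRing Cfsg.Agent.Lib.Helper78_CharFacts

variable {K : Type*} [Group K] [Fintype K] {p : ℕ} {M : Ideal AlgInt}

/-- `regPart` is idempotent. -/
theorem regPart_regPart (α : K → ℂ) : regPart p (regPart p α) = regPart p α := by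
  funext g
  by_cases h : p ∣ orderOf g
  · rw [regPart_of_dvd _ h, regPart_of_dvd _ h]
  · rw [regPart_of_not_dvd _ h]

theorem regPart_add (α β : K → ℂ) : regPart p (α + β) = regPart p α + regPart p β := by
  funext g
  by_cases h : p ∣ orderOf g
  · simp [regPart_of_dvd _ h]
  · simp [regPart_of_not_dvd _ h]

theorem regPart_smul (c : ℂ) (α : K → ℂ) : regPart p (c • α) = c • regPart p α := by
  funext g
  by_cases h : p ∣ orderOf g
  · simp [regPart_of_dvd _ h]
  · simp [regPart_of_not_dvd _ h]

theorem regPart_sum {ι : Type*} (s : Finset ι) (f : ι → K → ℂ) :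
    regPart p (∑ i ∈ s, f i) = ∑ i ∈ s, regPart p (f i) := by
  classical
  induction s using Finset.induction_on with
  | empty =>
    funext g
    by_cases h : p ∣ orderOf g
    · simp [regPart_of_dvd _ h]
    · simp [regPart_of_not_dvd _ h]
  | insert a s ha ih => rw [Finset.sum_insert ha, Finset.sum_insert ha, regPart_add, ih]

/-- Weak block orthogonality without integrality hypotheses: `[ψ₀°, ψ] = 0` for `ψ₀ ∈ e`,
`ψ ∉ e`. -/
theorem regInner_eq_zero_of_not_mem (hM : IsPModular p M) {e : Set (IrrCharacter K)}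
    (he : IsPBlock M e) {ψ₀ ψ : IrrCharacter K} (hψ₀ : ψ₀ ∈ e) (hψ : ψ ∉ e) :
    classInner (regPart p (ψ₀ : K → ℂ)) (ψ : K → ℂ) = 0 := by
  classical
  have hM' := isPrime_of_isPModular hM
  have h := Cfsg.Agent.Lib.Helper77_RegProj.sum_pRegularPart_mul_conj_eq_zero hM e
    (fun g => osima_block' hM' he g) ψ ψ₀ hψ hψ₀
  rw [pRegularPart_eq_regPart] at h
  have h2 : classInner (regPart p (ψ : K → ℂ)) (ψ₀ : K → ℂ) = 0 := by
    unfold classInner
    rw [h, mul_zero]
  rw [← regInner_symm, h2, map_zero]

/-- `ψ₀° = ∑_ψ [ψ₀°, ψ] ψ°`. -/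
theorem regPart_eq_sum_regPart (ψ₀ : IrrCharacter K) :
    regPart p (ψ₀ : K → ℂ) = ∑ ψ : IrrCharacter K,
      classInner (regPart p (ψ₀ : K → ℂ)) (ψ : K → ℂ) • regPart p (ψ : K → ℂ) := by
  have hcl : IsClassFunction K (regPart p (ψ₀ : K → ℂ)) :=
    regPart_isClassFunction p (isClassFunction_of_isIrrCharacter ψ₀.2)
  have h1 := classFunction_eq_sum _ hcl
  have h2 := congrArg (regPart p) h1
  rw [regPart_regPart, regPart_sum] at h2
  simp_rw [regPart_smul] at h2
  exact h2

section Trace

variable (p) in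
/-- The vectors `ψ°` for `ψ ∈ e` (and `0` for `ψ ∉ e`). -/
noncomputable def vec (e : Set (IrrCharacter K)) [DecidablePred (· ∈ e)] (ψ : IrrCharacter K) :
    K → ℂ := if ψ ∈ e then regPart p (ψ : K → ℂ) else 0

/-- The span of the `p`-regular parts of the members of `e`. -/
noncomputable def regSpan (p : ℕ) (e : Set (IrrCharacter K)) : Submodule ℂ (K → ℂ) :=
  Submodule.span ℂ ((fun χ : IrrCharacter K => pRegularPart p (χ : K → ℂ)) '' e)

theorem finrank_regSpan (e : Set (IrrCharacter K)) :
    Module.finrank ℂ (regSpan p e) = blockRank p e := rfl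

theorem vec_mem (e : Set (IrrCharacter K)) [DecidablePred (· ∈ e)] (ψ : IrrCharacter K) :
    vec p e ψ ∈ regSpan p e := by
  unfold vec
  split_ifs with h
  · apply Submodule.subset_span
    exact ⟨ψ, h, pRegularPart_eq_regPart _⟩
  · exact Submodule.zero_mem _

/-- The functional `f ↦ [f, ψ]`. -/
noncomputable def innerL (ψ : K → ℂ) : (K → ℂ) →ₗ[ℂ] ℂ where
  toFun f := classInner f ψ
  map_add' f g := classInner_add_left f g ψ
  map_smul' c f := by
    rw [classInner_smul_left]
    rfl

/-- The synthesis map `x ↦ ∑_ψ x_ψ v_ψ`. -/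
noncomputable def synth (p : ℕ) (e : Set (IrrCharacter K)) [DecidablePred (· ∈ e)] :
    (IrrCharacter K → ℂ) →ₗ[ℂ] regSpan p e :=
  LinearMap.codRestrict (regSpan p e) (Fintype.linearCombination ℂ (vec p e)) (fun x => by
    rw [Fintype.linearCombination_apply]
    exact Submodule.sum_mem _ fun ψ _ => Submodule.smul_mem _ _ (vec_mem e ψ))

/-- The analysis map `v ↦ ([v, ψ])_{ψ ∈ e}`. -/
noncomputable def analysis (p : ℕ) (e : Set (IrrCharacter K)) [DecidablePred (· ∈ e)] :
    regSpan p e →ₗ[ℂ] (IrrCharacter K → ℂ) :=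
  LinearMap.pi (fun ψ => if ψ ∈ e then (innerL (ψ : K → ℂ)).comp (regSpan p e).subtype else 0)

theorem analysis_apply (e : Set (IrrCharacter K)) [DecidablePred (· ∈ e)] (v : regSpan p e)
    (ψ : IrrCharacter K) :
    analysis p e v ψ = if ψ ∈ e then classInner (v : K → ℂ) (ψ : K → ℂ) else 0 := by
  unfold analysis
  rw [LinearMap.pi_apply]
  split_ifs <;> rfl

theorem synth_apply_coe (e : Set (IrrCharacter K)) [DecidablePred (· ∈ e)]
    (x : IrrCharacter K → ℂ) :
    ((synth p e x : regSpan p e) : K → ℂ) = ∑ ψ : IrrCharacter K, x ψ • vec p e ψ := by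
  unfold synth
  rw [LinearMap.codRestrict_apply, Fintype.linearCombination_apply]

/-- `synth ∘ analysis = id` on the span. -/
theorem synth_analysis (hM : IsPModular p M) {e : Set (IrrCharacter K)} (he : IsPBlock M e)
    [DecidablePred (· ∈ e)] (v : regSpan p e) : synth p e (analysis p e v) = v := by
  apply Subtype.ext
  rw [synth_apply_coe]
  simp_rw [analysis_apply]
  have key : ∀ f ∈ regSpan p e, ∑ ψ : IrrCharacter K,
      (if ψ ∈ e then classInner f (ψ : K → ℂ) else 0) • vec p e ψ = f := by
    intro f hf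
    unfold regSpan at hf
    induction hf using Submodule.span_induction with
    | mem f hf =>
      obtain ⟨ψ₀, hψ₀, rfl⟩ := hf
      simp only [pRegularPart_eq_regPart]
      conv_rhs => rw [regPart_eq_sum_regPart ψ₀]
      refine Finset.sum_congr rfl fun ψ _ => ?_
      unfold vec
      split_ifs with h
      · rfl
      · rw [regInner_eq_zero_of_not_mem hM he hψ₀ h, zero_smul, zero_smul]
    | zero =>
      refine Finset.sum_eq_zero fun ψ _ => ?_
      split_ifs
      · rw [classInner_zero_left, zero_smul]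
      · rw [zero_smul]
    | add f g _ _ hf hg =>
      conv_rhs => rw [← hf, ← hg]
      rw [← Finset.sum_add_distrib]
      refine Finset.sum_congr rfl fun ψ _ => ?_
      split_ifs
      · rw [classInner_add_left, add_smul]
      · rw [zero_smul, add_zero]
    | smul c f _ hf =>
      conv_rhs => rw [← hf]
      rw [Finset.smul_sum]
      refine Finset.sum_congr rfl fun ψ _ => ?_
      split_ifs
      · rw [classInner_smul_left, mul_smul]
      · simp
  exact key _ v.2

/-- **The trace of the Gram projection is the `p`-regular rank.** -/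
theorem sum_regInner_self_eq_blockRank (hM : IsPModular p M) {e : Set (IrrCharacter K)}
    (he : IsPBlock M e) [DecidablePred (· ∈ e)] :
    ∑ ψ : IrrCharacter K, (if ψ ∈ e then
      classInner (regPart p (ψ : K → ℂ)) (ψ : K → ℂ) else 0) = (blockRank p e : ℂ) := by
  classical
  have h1 : (synth p e).comp (analysis p e) = LinearMap.id := by
    ext v : 1
    exact synth_analysis hM he v
  have h2 : LinearMap.trace ℂ _ ((analysis p e).comp (synth p e)) =
      LinearMap.trace ℂ _ ((synth p e).comp (analysis p e)) :=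
    LinearMap.trace_comp_comm' _ _
  rw [h1, LinearMap.trace_id, finrank_regSpan] at h2
  rw [← h2, LinearMap.trace_eq_matrix_trace ℂ (Pi.basisFun ℂ (IrrCharacter K)), Matrix.trace]
  refine Finset.sum_congr rfl fun ψ _ => ?_
  rw [Matrix.diag_apply, LinearMap.toMatrix_apply, Pi.basisFun_repr, Pi.basisFun_apply,
    LinearMap.comp_apply, analysis_apply]
  split_ifs with h
  · rw [synth_apply_coe]
    congr 1
    rw [Finset.sum_eq_single ψ]
    · rw [Pi.single_eq_same, one_smul]
      unfold vec
      rw [if_pos h]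
    · intro ψ' _ hne
      rw [Pi.single_eq_of_ne hne, zero_smul]
    · intro hh
      exact absurd (Finset.mem_univ _) hh
  · rfl

end Trace

end Cfsg.Agent.Lib.Helper57_GramTrace
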