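import Mathlib
import Cfsg.Agent.Lib.Helper57_HeightZero

/-!
# The Brauer–Feit counting argument (helper57)

With `N(χ, ξ) = p ^ a [χ on p-regular elements, ξ]` (integers, `Helper57_HeightZero.NN`):

* `sum_NN_sq`: `∑_ξ N(χ, ξ)² = p ^ a * N(χ, χ)`;
* for `χ ∈ B` of height zero, `e_ξ = N(χ, ξ) / p ^ (a - d)` are nonzero integers, divisible by
  `p ^ ht ξ`, with `∑_{ξ ∈ B} e_ξ² = p ^ d * e_χ`;
* `four_mul_sum_le`: `4 * ∑_{ξ ∈ B, ξ ≠ χ} p ^ (2 ht ξ) ≤ p ^ (2 d)` (Brauer–Feit);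
* `height_add_two_le`: a character of positive height `h` in `B` has `h + 2 ≤ d`;
* `two_mul_card_le`: if `B` has a character of positive height then `2 k(B) ≤ p ^ (2 d - 2)`.
-/

set_option autoImplicit false
set_option linter.unusedSectionVars false

namespace Cfsg.Agent.Lib.Helper57_BrauerFeit

open Cfsg
open scoped ComplexConjugate
open Cfsg.Agent.Lib.Helper3_CharBridge Cfsg.Agent.Lib.Helper3_CharOrtho
  Cfsg.Agent.Lib.Helper3_CharComplete
  Cfsg.Agent.Lib.Helper75_CharArith Cfsg.Agent.Lib.Helper57_PRegInt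
  Cfsg.Agent.Lib.Helper57_HeightZero
  Cfsg.Agent.Lib.Helper78_LocalRing Cfsg.Agent.Lib.Helper77_BlockBasics

variable {G : Type*} [Group G] [Fintype G] {p : ℕ}

/-- Parseval for the row of `χ`: `∑_ξ N(χ, ξ)² = p ^ a * N(χ, χ)`. -/
theorem sum_NN_sq (hI : RegInt G p) (χ : IrrCharacter G) :
    ∑ ξ : IrrCharacter G, NN hI χ ξ ^ 2 =
      ((p ^ (Nat.card G).factorization p : ℕ) : ℤ) * NN hI χ χ := by
  set c : ℂ := ((p ^ (Nat.card G).factorization p : ℕ) : ℂ) with hc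
  have hcl : IsClassFunction G (c • regPart p (χ : G → ℂ)) :=
    tilde_isClassFunction c (isClassFunction_of_isIrrCharacter χ.2)
  have h1 := classInner_self_eq_sum hcl
  have h2 : ∀ ξ : IrrCharacter G, classInner (c • regPart p (χ : G → ℂ)) (ξ : G → ℂ) =
      (NN hI χ ξ : ℂ) := fun ξ => by rw [classInner_smul_left, NN_spec]
  simp_rw [h2, map_intCast] at h1
  have h3 : classInner (c • regPart p (χ : G → ℂ)) (c • regPart p (χ : G → ℂ)) =
      c * (NN hI χ χ : ℂ) := by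
    rw [classInner_smul_left, classInner_smul_right, ← NN_spec hI χ χ]
    have hcc : conj c = c := by rw [hc, map_natCast]
    rw [hcc]
    have h4 : classInner (regPart p (χ : G → ℂ)) (regPart p (χ : G → ℂ)) =
        classInner (regPart p (χ : G → ℂ)) (χ : G → ℂ) := by
      unfold classInner
      congr 1
      refine Finset.sum_congr rfl fun g _ => ?_
      by_cases h : p ∣ orderOf g
      · rw [regPart_of_dvd _ h, zero_mul, zero_mul]
      · rw [regPart_of_not_dvd _ h]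
    rw [h4]
  rw [h3] at h1
  have h5 : ((((p ^ (Nat.card G).factorization p : ℕ) : ℤ) * NN hI χ χ : ℤ) : ℂ) =
      ((∑ ξ : IrrCharacter G, NN hI χ ξ ^ 2 : ℤ) : ℂ) := by
    rw [Int.cast_mul, Int.cast_natCast, ← hc, h1, Int.cast_sum]
    refine Finset.sum_congr rfl fun ξ _ => ?_
    push_cast
    ring
  exact_mod_cast h5.symm

section Block

variable {M : Ideal AlgInt} {B : Set (IrrCharacter G)}

open Classical in
/-- The members of the block as a finset. -/
noncomputable def bset (B : Set (IrrCharacter G)) : Finset (IrrCharacter G) :=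
  Finset.univ.filter (fun ξ => ξ ∈ B)

theorem mem_bset {ξ : IrrCharacter G} : ξ ∈ bset B ↔ ξ ∈ B := by
  unfold bset
  simp

theorem card_bset : (bset B).card = Nat.card B := by
  classical
  rw [Nat.card_eq_fintype_card, ← Set.toFinset_card]
  congr 1
  ext ξ
  simp [mem_bset]

/-- The row sum restricted to the block. -/
theorem sum_NN_sq_block (hM : IsPModular p M) (hB : IsPBlock M B) (hI : RegInt G p)
    {χ : IrrCharacter G} (hχ : χ ∈ B) :
    ∑ ξ ∈ bset B, NN hI χ ξ ^ 2 =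
      ((p ^ (Nat.card G).factorization p : ℕ) : ℤ) * NN hI χ χ := by
  classical
  rw [← sum_NN_sq hI χ]
  unfold bset
  rw [Finset.sum_filter]
  refine Finset.sum_congr rfl fun ξ _ => ?_
  split_ifs with h
  · rfl
  · rw [NN_eq_zero_of_not_mem hM hB hI hχ h]
    ring

/-- The minimal valuation of a degree in `B`. -/
noncomputable def h0 (p : ℕ) (B : Set (IrrCharacter G)) : ℕ :=
  sInf ((fun ψ : IrrCharacter G => (charDegree (ψ : G → ℂ)).factorization p) '' B)

theorem h0_le {ξ : IrrCharacter G} (hξ : ξ ∈ B) :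
    h0 p B ≤ (charDegree (ξ : G → ℂ)).factorization p := Nat.sInf_le ⟨ξ, hξ, rfl⟩

theorem blockHeight_eq (ξ : IrrCharacter G) :
    blockHeight p B (ξ : G → ℂ) = (charDegree (ξ : G → ℂ)).factorization p - h0 p B := rfl

theorem blockDefect_eq : blockDefect p B = (Nat.card G).factorization p - h0 p B := rfl

theorem val_eq_h0_add {ξ : IrrCharacter G} (hξ : ξ ∈ B) :
    (charDegree (ξ : G → ℂ)).factorization p = h0 p B + blockHeight p B (ξ : G → ℂ) := by
  rw [blockHeight_eq]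
  have := h0_le (p := p) hξ
  omega

theorem h0_add_defect {ξ : IrrCharacter G} (hξ : ξ ∈ B) :
    h0 p B + blockDefect p B = (Nat.card G).factorization p := by
  rw [blockDefect_eq]
  have h1 := h0_le (p := p) hξ
  have h2 := factorization_charDegree_le p ξ
  omega

theorem exists_height_zero_mem (hne : B.Nonempty) :
    ∃ χ ∈ B, blockHeight p B (χ : G → ℂ) = 0 := by
  have hSne : ((fun ψ : IrrCharacter G => (charDegree (ψ : G → ℂ)).factorization p) '' B).Nonempty :=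
    hne.image _
  obtain ⟨χ, hχ, hχe⟩ := Nat.sInf_mem hSne
  refine ⟨χ, hχ, ?_⟩
  rw [blockHeight_eq]
  have : (charDegree (χ : G → ℂ)).factorization p = h0 p B := hχe
  omega

/-- For `χ` of height zero: `N(χ, ξ) ≠ 0` with `ν_p(N(χ, ξ)) = ν_p(ξ(1))` for all `ξ ∈ B`. -/
theorem NN_val_of_height_zero (hp : p.Prime) (hM : IsPModular p M) (hB : IsPBlock M B)
    (hI : RegInt G p) {χ ξ : IrrCharacter G} (hχ : χ ∈ B) (hξ : ξ ∈ B)
    (h0χ : blockHeight p B (χ : G → ℂ) = 0) :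
    NN hI χ ξ ≠ 0 ∧ padicValInt p (NN hI χ ξ) = (charDegree (ξ : G → ℂ)).factorization p := by
  rw [val_iff hp hI χ ξ]
  have h1 := (height_zero_iff hp hM hB hI hχ).mp h0χ
  intro h2
  apply h1
  have h := rr_congr hM hB hI hξ hχ χ
  have := dvd_sub h2 h
  rwa [sub_sub_cancel] at this

/-- For `ψ` of positive height: `p ^ (ν(ψ(1)) + 1)` divides `N(ψ, ψ)`. -/
theorem pow_succ_dvd_NN_self (hp : p.Prime) (hM : IsPModular p M) (hB : IsPBlock M B)
    (hI : RegInt G p) {ψ : IrrCharacter G} (hψ : ψ ∈ B)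
    (hpos : blockHeight p B (ψ : G → ℂ) ≠ 0) :
    ((p : ℤ)) ^ ((charDegree (ψ : G → ℂ)).factorization p + 1) ∣ NN hI ψ ψ := by
  have hpi : Prime (p : ℤ) := Nat.prime_iff_prime_int.mp hp
  have h1 : (p : ℤ) ∣ rr hI ψ ψ := by
    by_contra h
    exact hpos ((height_zero_iff hp hM hB hI hψ).mpr h)
  have h := rr_mul hI ψ ψ
  have h2 : ((p : ℤ)) ^ ((charDegree (ψ : G → ℂ)).factorization p + 1) ∣
      (mPrime G p : ℤ) * NN hI ψ ψ := by
    rw [← h, pow_succ, mul_comm (((p : ℤ)) ^ _) (p : ℤ)]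
    apply mul_dvd_mul h1
    have : p ^ ((charDegree (ψ : G → ℂ)).factorization p) ∣ charDegree (ψ : G → ℂ) :=
      Nat.ordProj_dvd _ p
    exact_mod_cast (Int.natCast_dvd_natCast.mpr this)
  apply Prime.pow_dvd_of_dvd_mul_left hpi _ _ h2
  rw [Int.natCast_dvd_natCast]
  exact not_dvd_mPrime hp

/-- Normalized row identity: if `N(χ, ξ) = p ^ v * f ξ` for all `ξ`, `v ≤ a`, then
`∑_{ξ ∈ B} (f ξ)² = p ^ (a - v) * f χ`. -/
theorem row_identity (hp : p.Prime) (hM : IsPModular p M) (hB : IsPBlock M B) (hI : RegInt G p)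
    {χ : IrrCharacter G} (hχ : χ ∈ B) {v : ℕ} (hv : v ≤ (Nat.card G).factorization p)
    (f : IrrCharacter G → ℤ) (hf : ∀ ξ, NN hI χ ξ = (p : ℤ) ^ v * f ξ) :
    ∑ ξ ∈ bset B, f ξ ^ 2 = (p : ℤ) ^ ((Nat.card G).factorization p - v) * f χ := by
  have h := sum_NN_sq_block hM hB hI hχ
  simp_rw [hf] at h
  have hp0 : ((p : ℤ)) ^ (2 * v) ≠ 0 := pow_ne_zero _ (by exact_mod_cast hp.ne_zero)
  have h1 : ∑ ξ ∈ bset B, ((p : ℤ) ^ v * f ξ) ^ 2 = (p : ℤ) ^ (2 * v) * ∑ ξ ∈ bset B, f ξ ^ 2 := by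
    rw [Finset.mul_sum]
    refine Finset.sum_congr rfl fun ξ _ => ?_
    ring
  have h2 : ((p ^ (Nat.card G).factorization p : ℕ) : ℤ) * ((p : ℤ) ^ v * f χ) =
      (p : ℤ) ^ (2 * v) * ((p : ℤ) ^ ((Nat.card G).factorization p - v) * f χ) := by
    have : ((p ^ (Nat.card G).factorization p : ℕ) : ℤ) =
        (p : ℤ) ^ ((Nat.card G).factorization p - v) * (p : ℤ) ^ v := by
      rw [← pow_add, Nat.sub_add_cancel hv]
      push_cast
      rfl
    rw [this]
    ring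
  rw [h1, h2] at h
  exact mul_left_cancel₀ hp0 h

/-- `4 x (D - x) ≤ D²`, summed form. -/
theorem four_mul_sum_erase_le [DecidableEq (IrrCharacter G)] (s : Finset (IrrCharacter G))
    (f : IrrCharacter G → ℤ) {χ : IrrCharacter G} (hχ : χ ∈ s) (D : ℤ)
    (h : ∑ ξ ∈ s, f ξ ^ 2 = D * f χ) : 4 * ∑ ξ ∈ s.erase χ, f ξ ^ 2 ≤ D ^ 2 := by
  have h1 := Finset.add_sum_erase s (fun ξ => f ξ ^ 2) hχ
  have h2 : ∑ ξ ∈ s.erase χ, f ξ ^ 2 = D * f χ - f χ ^ 2 := by
    rw [← h, ← h1]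
    ring
  rw [h2]
  nlinarith [sq_nonneg (D - 2 * f χ)]

/-- **Brauer–Feit**, weighted form: for `χ ∈ B` of height zero,
`4 * ∑_{ξ ∈ B, ξ ≠ χ} p ^ (2 ht ξ) ≤ p ^ (2 d)`. -/
theorem four_mul_sum_le [DecidableEq (IrrCharacter G)] (hp : p.Prime) (hM : IsPModular p M)
    (hB : IsPBlock M B) (hI : RegInt G p) {χ : IrrCharacter G} (hχ : χ ∈ B)
    (h0χ : blockHeight p B (χ : G → ℂ) = 0) :
    4 * ∑ ξ ∈ (bset B).erase χ, p ^ (2 * blockHeight p B (ξ : G → ℂ)) ≤
      p ^ (2 * blockDefect p B) := by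
  have : Fact p.Prime := ⟨hp⟩
  have hpz : (p : ℤ) ≠ 0 := by exact_mod_cast hp.ne_zero
  have hvχ : (charDegree (χ : G → ℂ)).factorization p = h0 p B := by
    rw [val_eq_h0_add hχ, h0χ, add_zero]
  have hdiv : ∀ ξ, (p : ℤ) ^ h0 p B ∣ NN hI χ ξ := fun ξ => by
    rw [← hvχ]; exact pow_dvd_NN hp hI χ ξ
  choose e he using hdiv
  have hv : h0 p B ≤ (Nat.card G).factorization p := by
    rw [← hvχ]; exact factorization_charDegree_le p χ
  have hrow := row_identity hp hM hB hI hχ hv e he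
  have hd : (Nat.card G).factorization p - h0 p B = blockDefect p B := rfl
  rw [hd] at hrow
  have hmain := four_mul_sum_erase_le (bset B) e (mem_bset.mpr hχ) _ hrow
  -- each `e ξ ^ 2 ≥ p ^ (2 ht ξ)`
  have hterm : ∀ ξ ∈ (bset B).erase χ,
      ((p : ℤ)) ^ (2 * blockHeight p B (ξ : G → ℂ)) ≤ e ξ ^ 2 := by
    intro ξ hξ
    have hξB : ξ ∈ B := mem_bset.mp (Finset.mem_of_mem_erase hξ)
    obtain ⟨hn0, hval⟩ := NN_val_of_height_zero hp hM hB hI hχ hξB h0χ
    have he0 : e ξ ≠ 0 := by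
      intro h0
      rw [he ξ, h0, mul_zero] at hn0
      exact hn0 rfl
    have hpv : padicValInt p ((p : ℤ) ^ h0 p B) = h0 p B := by
      have : ((p : ℤ)) ^ h0 p B = ((p ^ h0 p B : ℕ) : ℤ) := by push_cast; rfl
      rw [this, padicValInt.of_nat, padicValNat.prime_pow]
    have hval2 : padicValInt p (e ξ) = blockHeight p B (ξ : G → ℂ) := by
      rw [he ξ, padicValInt.mul (pow_ne_zero _ hpz) he0, hpv, val_eq_h0_add hξB] at hval
      omega
    obtain ⟨t, ht⟩ : (p : ℤ) ^ blockHeight p B (ξ : G → ℂ) ∣ e ξ := by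
      rw [← hval2]; exact padicValInt_dvd (e ξ)
    have ht0 : t ≠ 0 := by
      rintro rfl
      rw [mul_zero] at ht
      exact he0 ht
    have ht1 : 1 ≤ t ^ 2 := by
      have := sq_nonneg t
      have h2 : t ^ 2 ≠ 0 := pow_ne_zero _ ht0
      omega
    rw [ht, mul_pow, ← pow_mul, mul_comm (blockHeight p B (ξ : G → ℂ)) 2]
    have hpos : (0 : ℤ) ≤ (p : ℤ) ^ (2 * blockHeight p B (ξ : G → ℂ)) := by positivity
    nlinarith
  have hsum : ∑ ξ ∈ (bset B).erase χ, ((p : ℤ)) ^ (2 * blockHeight p B (ξ : G → ℂ)) ≤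
      ∑ ξ ∈ (bset B).erase χ, e ξ ^ 2 := Finset.sum_le_sum hterm
  have hfin : (4 : ℤ) * ∑ ξ ∈ (bset B).erase χ, ((p : ℤ)) ^ (2 * blockHeight p B (ξ : G → ℂ)) ≤
      ((p : ℤ) ^ blockDefect p B) ^ 2 := by linarith
  have hcast : ((4 * ∑ ξ ∈ (bset B).erase χ, p ^ (2 * blockHeight p B (ξ : G → ℂ)) : ℕ) : ℤ) ≤
      ((p ^ (2 * blockDefect p B) : ℕ) : ℤ) := by
    push_cast
    rw [mul_comm 2 (blockDefect p B), pow_mul]
    exact hfin
  exact_mod_cast hcast

/-- Brauer–Feit, weighted: `4 * ∑_{ξ ∈ B} p ^ (2 ht ξ) ≤ p ^ (2 d) + 4`. -/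
theorem four_mul_sum_le' (hp : p.Prime) (hM : IsPModular p M)
    (hB : IsPBlock M B) (hI : RegInt G p) :
    4 * ∑ ξ ∈ bset B, p ^ (2 * blockHeight p B (ξ : G → ℂ)) ≤ p ^ (2 * blockDefect p B) + 4 := by
  classical
  obtain ⟨χ, hχ, h0χ⟩ := exists_height_zero_mem (p := p)
    (isPBlock_nonempty (isPrime_of_isPModular hM) hB)
  have h := four_mul_sum_le hp hM hB hI hχ h0χ
  rw [← Finset.add_sum_erase (bset B) _ (mem_bset.mpr hχ), h0χ]
  simp only [mul_zero, pow_zero]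
  omega

/-- **Brauer–Feit**: `4 k(B) ≤ p ^ (2 d) + 4`. -/
theorem four_mul_card_le (hp : p.Prime) (hM : IsPModular p M)
    (hB : IsPBlock M B) (hI : RegInt G p) :
    4 * Nat.card B ≤ p ^ (2 * blockDefect p B) + 4 := by
  have h := four_mul_sum_le' hp hM hB hI
  have h1 : (bset B).card ≤ ∑ ξ ∈ bset B, p ^ (2 * blockHeight p B (ξ : G → ℂ)) := by
    rw [Finset.card_eq_sum_ones]
    exact Finset.sum_le_sum fun ξ _ => Nat.one_le_pow _ _ hp.pos
  rw [card_bset] at h1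
  omega

/-- A character of positive height `h` in a block of defect `d` has `h + 2 ≤ d`. -/
theorem height_add_two_le (hp : p.Prime) (hM : IsPModular p M)
    (hB : IsPBlock M B) (hI : RegInt G p) {ψ : IrrCharacter G} (hψ : ψ ∈ B)
    (hpos : blockHeight p B (ψ : G → ℂ) ≠ 0) :
    blockHeight p B (ψ : G → ℂ) + 2 ≤ blockDefect p B := by
  classical
  have hpz : (p : ℤ) ≠ 0 := by exact_mod_cast hp.ne_zero
  obtain ⟨χ, hχ, h0χ⟩ := exists_height_zero_mem (p := p) ⟨ψ, hψ⟩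
  have hne : χ ≠ ψ := by
    rintro rfl
    exact hpos h0χ
  set v := (charDegree (ψ : G → ℂ)).factorization p with hvdef
  have hv : v ≤ (Nat.card G).factorization p := factorization_charDegree_le p ψ
  have hdiv : ∀ ξ, (p : ℤ) ^ v ∣ NN hI ψ ξ := fun ξ => pow_dvd_NN hp hI ψ ξ
  choose f hf using hdiv
  have hrow := row_identity hp hM hB hI hψ hv f hf
  -- `f χ ≠ 0`
  have hfχ : f χ ≠ 0 := by
    intro h0
    have := (NN_val_of_height_zero hp hM hB hI hχ hψ h0χ).1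
    rw [NN_symm, hf χ, h0, mul_zero] at this
    exact this rfl
  -- `p ∣ f ψ`
  have hpf : (p : ℤ) ∣ f ψ := by
    have h1 := pow_succ_dvd_NN_self hp hM hB hI hψ hpos
    rw [hf ψ, pow_succ] at h1
    exact (mul_dvd_mul_iff_left (pow_ne_zero v hpz)).mp h1
  -- `f ψ ^ 2 + 1 ≤ D * f ψ`
  set D : ℤ := (p : ℤ) ^ ((Nat.card G).factorization p - v) with hD
  have hDpos : 0 < D := by positivity
  have h2 : f ψ ^ 2 + f χ ^ 2 ≤ ∑ ξ ∈ bset B, f ξ ^ 2 := by
    rw [← Finset.add_sum_erase (bset B) (fun ξ => f ξ ^ 2) (mem_bset.mpr hψ)]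
    have hmem : χ ∈ (bset B).erase ψ := Finset.mem_erase.mpr ⟨hne, mem_bset.mpr hχ⟩
    have := Finset.single_le_sum (f := fun ξ => f ξ ^ 2) (fun ξ _ => sq_nonneg (f ξ)) hmem
    linarith
  have hχ1 : 1 ≤ f χ ^ 2 := by
    have := sq_nonneg (f χ)
    have h2 : f χ ^ 2 ≠ 0 := pow_ne_zero _ hfχ
    omega
  rw [hrow] at h2
  have hfpos : 0 < f ψ := by
    by_contra hle
    rw [not_lt] at hle
    have : D * f ψ ≤ 0 := mul_nonpos_of_nonneg_of_nonpos hDpos.le hle
    nlinarith [sq_nonneg (f ψ)]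
  have hflt : f ψ < D := by
    by_contra hle
    rw [not_lt] at hle
    nlinarith
  have hple : (p : ℤ) ≤ f ψ := Int.le_of_dvd hfpos hpf
  -- so `p < p ^ (a - v)`, hence `2 ≤ a - v`
  have h2le : 2 ≤ (Nat.card G).factorization p - v := by
    by_contra hlt
    rw [not_le] at hlt
    have hDle : D ≤ (p : ℤ) := by
      rw [hD]
      have h1 : (Nat.card G).factorization p - v ≤ 1 := by omega
      calc (p : ℤ) ^ ((Nat.card G).factorization p - v) ≤ (p : ℤ) ^ 1 :=
            pow_le_pow_right₀ (by exact_mod_cast hp.one_lt.le) h1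
        _ = p := pow_one _
    linarith
  have h3 := val_eq_h0_add (p := p) hψ
  have h4 := h0_add_defect (p := p) hψ
  omega

/-- If `B` contains a character of positive height then `2 k(B) ≤ p ^ (2 d - 2)`. -/
theorem two_mul_card_le (hp : p.Prime) (hM : IsPModular p M)
    (hB : IsPBlock M B) (hI : RegInt G p) {ψ : IrrCharacter G} (hψ : ψ ∈ B)
    (hpos : blockHeight p B (ψ : G → ℂ) ≠ 0) :
    2 * Nat.card B ≤ p ^ (2 * blockDefect p B - 2) := by
  classical
  have hpz : (p : ℤ) ≠ 0 := by exact_mod_cast hp.ne_zero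
  obtain ⟨χ, hχ, h0χ⟩ := exists_height_zero_mem (p := p) ⟨ψ, hψ⟩
  have hd := height_add_two_le hp hM hB hI hψ hpos
  set d := blockDefect p B with hddef
  set h := blockHeight p B (ψ : G → ℂ) with hhdef
  have hh1 : 1 ≤ h := Nat.one_le_iff_ne_zero.mpr hpos
  -- the two parts of the block
  set s0 := (bset B).filter (fun ξ : IrrCharacter G => blockHeight p B (ξ : G → ℂ) = 0) with hs0
  set s1 := (bset B).filter (fun ξ : IrrCharacter G => ¬ blockHeight p B (ξ : G → ℂ) = 0) with hs1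
  have hcard : s0.card + s1.card = Nat.card B := by
    rw [← card_bset, hs0, hs1]
    exact Finset.card_filter_add_card_filter_not _
  -- bound for `s1` from the row of `χ`
  have hb1 : 4 * s1.card ≤ p ^ (2 * d - 2) := by
    have hmain := four_mul_sum_le hp hM hB hI hχ h0χ
    have hsub : s1 ⊆ (bset B).erase χ := by
      intro ξ hξ
      rw [hs1, Finset.mem_filter] at hξ
      refine Finset.mem_erase.mpr ⟨?_, hξ.1⟩
      rintro rfl
      exact hξ.2 h0χ
    have h1 : s1.card * p ^ 2 ≤ ∑ ξ ∈ s1, p ^ (2 * blockHeight p B (ξ : G → ℂ)) := by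
      rw [← smul_eq_mul]
      apply Finset.card_nsmul_le_sum
      intro ξ hξ
      rw [hs1, Finset.mem_filter] at hξ
      apply Nat.pow_le_pow_right hp.pos
      have : 1 ≤ blockHeight p B (ξ : G → ℂ) := Nat.one_le_iff_ne_zero.mpr hξ.2
      omega
    have h2 : ∑ ξ ∈ s1, p ^ (2 * blockHeight p B (ξ : G → ℂ)) ≤
        ∑ ξ ∈ (bset B).erase χ, p ^ (2 * blockHeight p B (ξ : G → ℂ)) :=
      Finset.sum_le_sum_of_subset hsub
    have h3 : 4 * s1.card * p ^ 2 ≤ p ^ (2 * d - 2) * p ^ 2 := by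
      rw [← pow_add]
      have : 2 * d - 2 + 2 = 2 * d := by omega
      rw [this]
      calc 4 * s1.card * p ^ 2 = 4 * (s1.card * p ^ 2) := by ring
        _ ≤ 4 * ∑ ξ ∈ (bset B).erase χ, p ^ (2 * blockHeight p B (ξ : G → ℂ)) :=
            Nat.mul_le_mul_left 4 (h1.trans h2)
        _ ≤ p ^ (2 * d) := hmain
    exact Nat.le_of_mul_le_mul_right h3 (pow_pos hp.pos 2)
  -- bound for `s0` from the row of `ψ`
  have hb0 : 4 * s0.card ≤ p ^ (2 * d - 2) := by
    set v := (charDegree (ψ : G → ℂ)).factorization p with hvdef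
    have hv : v ≤ (Nat.card G).factorization p := factorization_charDegree_le p ψ
    have hdiv : ∀ ξ, (p : ℤ) ^ v ∣ NN hI ψ ξ := fun ξ => pow_dvd_NN hp hI ψ ξ
    choose f hf using hdiv
    have hrow := row_identity hp hM hB hI hψ hv f hf
    have hmain := four_mul_sum_erase_le (bset B) f (mem_bset.mpr hψ) _ hrow
    have hsub : s0 ⊆ (bset B).erase ψ := by
      intro ξ hξ
      rw [hs0, Finset.mem_filter] at hξ
      refine Finset.mem_erase.mpr ⟨?_, hξ.1⟩
      rintro rfl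
      exact hpos hξ.2
    have hterm : ∀ ξ ∈ s0, (1 : ℤ) ≤ f ξ ^ 2 := by
      intro ξ hξ
      rw [hs0, Finset.mem_filter] at hξ
      have hξB : ξ ∈ B := mem_bset.mp hξ.1
      have hfξ : f ξ ≠ 0 := by
        intro h0
        have := (NN_val_of_height_zero hp hM hB hI hξB hψ hξ.2).1
        rw [NN_symm, hf ξ, h0, mul_zero] at this
        exact this rfl
      have := sq_nonneg (f ξ)
      have h2 : f ξ ^ 2 ≠ 0 := pow_ne_zero _ hfξ
      omega
    have h1 : (s0.card : ℤ) ≤ ∑ ξ ∈ s0, f ξ ^ 2 := by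
      have := Finset.card_nsmul_le_sum s0 (fun ξ => f ξ ^ 2) 1 hterm
      simpa using this
    have h2 : ∑ ξ ∈ s0, f ξ ^ 2 ≤ ∑ ξ ∈ (bset B).erase ψ, f ξ ^ 2 :=
      Finset.sum_le_sum_of_subset_of_nonneg hsub fun ξ _ _ => sq_nonneg (f ξ)
    have h3 : (4 : ℤ) * s0.card ≤ ((p : ℤ) ^ ((Nat.card G).factorization p - v)) ^ 2 := by
      linarith
    have hav : (Nat.card G).factorization p - v = d - h := by
      have h3 := val_eq_h0_add (p := p) hψ
      have h4 := h0_add_defect (p := p) hψ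
      omega
    rw [hav, ← pow_mul] at h3
    have h4 : ((4 * s0.card : ℕ) : ℤ) ≤ ((p ^ ((d - h) * 2) : ℕ) : ℤ) := by
      push_cast
      exact h3
    have h5 : 4 * s0.card ≤ p ^ ((d - h) * 2) := by exact_mod_cast h4
    refine h5.trans (Nat.pow_le_pow_right hp.pos ?_)
    omega
  omega

end Block

end Cfsg.Agent.Lib.Helper57_BrauerFeit
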