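import Mathlib
import Cfsg.Agent.Lib.Helper57_BrauerFeit
import Cfsg.Agent.Lib.Helper78_PRegSum
import Cfsg.Agent.Lib.Helper75_Induced
import Cfsg.Agent.Lib.Helper75_IndChar

/-!
# Block parts of induced characters (helper57)

If the block `b` of `H ≤ G` induces the block `B₀` of `G` and `ξ ∈ b`, then for every block `B`
of `G` the degree `n_B = ∑_{χ ∈ B} [ξ^G, χ] χ(1)` of the `B`-part of `ξ^G` satisfies
`n_B = ξ^G(1) * w_B` with `w_B = ω_ξ(e_B|_H)`, and `w_B ≡ 1` or `0` modulo the local ideal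
according as `B = B₀` or not.  Hence `ν_p(n_{B₀}) = ν_p(ξ^G(1))` and `n_B = 0` or
`ν_p(n_B) > ν_p(ξ^G(1))` for `B ≠ B₀`.
-/

set_option autoImplicit false
set_option linter.unusedSectionVars false

namespace Cfsg.Agent.Lib.Helper57_IndBlock

open Cfsg
open scoped ComplexConjugate
open Cfsg.Agent.Lib.Helper3_CharBridge Cfsg.Agent.Lib.Helper3_CharOrtho
  Cfsg.Agent.Lib.Helper3_CharComplete
  Cfsg.Agent.Lib.Helper75_CharArith Cfsg.Agent.Lib.Helper57_BrauerFeit
  Cfsg.Agent.Lib.Helper78_LocalRing Cfsg.Agent.Lib.Helper77_BlockBasics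
  Cfsg.Agent.Lib.Helper78_Osima Cfsg.Agent.Lib.Helper78_CharFacts
  Cfsg.Agent.Lib.Helper75_Induced Cfsg.Agent.Lib.Helper75_IndChar

variable {G : Type*} [Group G] [Fintype G] {p : ℕ} {M : Ideal AlgInt}

/-- `bset` as the `toFinset` of the finite set `B`. -/
theorem toFinset_eq_bset (B : Set (IrrCharacter G)) :
    (Set.toFinite B).toFinset = bset B := by
  ext ξ
  simp [mem_bset]

theorem blockPart_apply (B : Set (IrrCharacter G)) (ϑ : G → ℂ) (g : G) :
    blockPart B ϑ g = ∑ χ ∈ bset B, classInner ϑ (χ : G → ℂ) * (χ : G → ℂ) g := by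
  classical
  unfold blockPart
  have hinst : Fintype.ofFinite G = ‹Fintype G› := Subsingleton.elim _ _
  rw [hinst, finsum_mem_eq_finite_toFinset_sum _ (Set.toFinite B), toFinset_eq_bset]

theorem blockCoeff_eq_sum_bset (B : Set (IrrCharacter G)) (g : G) :
    blockCoeff B g = (Nat.card G : ℂ)⁻¹ *
      ∑ χ ∈ bset B, (χ : G → ℂ) 1 * conj ((χ : G → ℂ) g) := by
  unfold blockCoeff
  rw [finsum_mem_eq_finite_toFinset_sum _ (Set.toFinite B), toFinset_eq_bset]

/-- `∑_{χ ∈ B} [ξ^G, χ] χ(1) = [G:H] ∑_{h ∈ H} e_B(h) ξ(h)`. -/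
theorem sum_classInner_indFun_mul_deg (H : Subgroup G) [Fintype H] (ξ : H → ℂ)
    (B : Set (IrrCharacter G)) :
    ∑ χ ∈ bset B, classInner (indFun H ξ) (χ : G → ℂ) * (χ : G → ℂ) 1 =
      (Nat.card H : ℂ)⁻¹ * (Nat.card G : ℂ) * ∑ h : H, blockCoeff B (h : G) * ξ h := by
  have hG : (Nat.card G : ℂ) ≠ 0 := by
    rw [Nat.cast_ne_zero]; exact Nat.card_pos.ne'
  have h1 : ∀ χ : IrrCharacter G, classInner (indFun H ξ) (χ : G → ℂ) =
      (Nat.card H : ℂ)⁻¹ * ∑ h : H, ξ h * conj ((χ : G → ℂ) h) := fun χ => by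
    rw [frobenius_reciprocity H ξ (χ : G → ℂ) (isClassFunction_of_isIrrCharacter χ.2)]
    rfl
  simp_rw [h1, blockCoeff_eq_sum_bset]
  rw [mul_assoc, Finset.mul_sum]
  simp_rw [Finset.mul_sum, Finset.sum_mul, Finset.mul_sum]
  rw [Finset.sum_comm]
  refine Finset.sum_congr rfl fun h _ => ?_
  refine Finset.sum_congr rfl fun χ _ => ?_
  field_simp

/-! ### Arithmetic in the local ring -/

/-- If `n = D * w` with `w` in the local ideal, then `n = 0` or `ν_p(D) < ν_p(n)`. -/
theorem val_of_ideal_ratio (hM : IsPModular p M) {n D : ℕ} (_hD : D ≠ 0) {w : ℂ}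
    (h : (n : ℂ) = D * w) (hw : MemLocalIdeal M w) :
    n = 0 ∨ D.factorization p < n.factorization p := by
  have hp : p.Prime := hM.1
  have hM' := isPrime_of_isPModular hM
  by_contra hcon
  rw [not_or, not_lt] at hcon
  obtain ⟨hn0, hle⟩ := hcon
  have hn := Nat.ordProj_mul_ordCompl_eq_self n p
  have hDd := Nat.ordProj_mul_ordCompl_eq_self D p
  have hnd : ¬ p ∣ n / p ^ n.factorization p := Nat.not_dvd_ordCompl hp hn0
  apply hnd
  rw [← memLocalIdeal_natCast_iff hM]
  have hpC : (p : ℂ) ≠ 0 := Nat.cast_ne_zero.mpr hp.ne_zero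
  have hpow : (p : ℂ) ^ n.factorization p ≠ 0 := pow_ne_zero _ hpC
  have key : ((n / p ^ n.factorization p : ℕ) : ℂ) =
      ((p ^ (D.factorization p - n.factorization p) * (D / p ^ D.factorization p) : ℕ) : ℂ) * w := by
    apply mul_left_cancel₀ hpow
    have e1 : (p : ℂ) ^ n.factorization p * ((n / p ^ n.factorization p : ℕ) : ℂ) = (n : ℂ) := by
      exact_mod_cast congrArg (Nat.cast : ℕ → ℂ) hn
    have e2 : (p : ℂ) ^ n.factorization p *
        (((p ^ (D.factorization p - n.factorization p) * (D / p ^ D.factorization p) : ℕ) : ℂ) * w)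
        = (D : ℂ) * w := by
      have : p ^ n.factorization p * (p ^ (D.factorization p - n.factorization p) *
          (D / p ^ D.factorization p)) = D := by
        rw [← mul_assoc, ← pow_add, Nat.add_sub_cancel' hle]
        exact hDd
      rw [← mul_assoc]
      congr 1
      exact_mod_cast congrArg (Nat.cast : ℕ → ℂ) this
    rw [e1, e2, h]
  rw [key]
  exact memLocalIdeal_mul_left hM' (memLocalRing_natCast hM' _) hw

/-- If `n = D * w` with `w ≡ 1` modulo the local ideal, then `n ≠ 0` and `ν_p(n) = ν_p(D)`. -/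
theorem val_of_unit_ratio (hM : IsPModular p M) {n D : ℕ} (hD : D ≠ 0) {w : ℂ}
    (h : (n : ℂ) = D * w) (hw : MemLocalIdeal M (w - 1)) :
    n ≠ 0 ∧ n.factorization p = D.factorization p := by
  have hp : p.Prime := hM.1
  have hM' := isPrime_of_isPModular hM
  have hwR : MemLocalRing M w := by
    have := memLocalRing_add hM' (memLocalRing_of_memLocalIdeal hw) (memLocalRing_one hM')
    rwa [sub_add_cancel] at this
  have hDC : (D : ℂ) ≠ 0 := Nat.cast_ne_zero.mpr hD
  have hn0 : n ≠ 0 := by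
    intro hn
    rw [hn, Nat.cast_zero] at h
    have hw0 : w = 0 := by
      rcases mul_eq_zero.mp h.symm with h1 | h1
      · exact absurd h1 hDC
      · exact h1
    rw [hw0, zero_sub] at hw
    have := memLocalIdeal_neg hw
    rw [neg_neg] at this
    exact not_memLocalIdeal_one hM' this
  refine ⟨hn0, ?_⟩
  -- `D = n * w'` with `w' = w⁻¹`; avoid inverses: argue by the two strict cases
  by_contra hne
  rcases lt_or_gt_of_ne hne with hlt | hgt
  · -- `ν(n) < ν(D)`: then `n' = p^(k-j) D' w` lies in the ideal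
    have hn := Nat.ordProj_mul_ordCompl_eq_self n p
    have hDd := Nat.ordProj_mul_ordCompl_eq_self D p
    have hnd : ¬ p ∣ n / p ^ n.factorization p := Nat.not_dvd_ordCompl hp hn0
    apply hnd
    rw [← memLocalIdeal_natCast_iff hM]
    have hpC : (p : ℂ) ≠ 0 := Nat.cast_ne_zero.mpr hp.ne_zero
    have hpow : (p : ℂ) ^ n.factorization p ≠ 0 := pow_ne_zero _ hpC
    have key : ((n / p ^ n.factorization p : ℕ) : ℂ) =
        ((p ^ (D.factorization p - n.factorization p) * (D / p ^ D.factorization p) : ℕ) : ℂ)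
          * w := by
      apply mul_left_cancel₀ hpow
      have e1 : (p : ℂ) ^ n.factorization p * ((n / p ^ n.factorization p : ℕ) : ℂ) = (n : ℂ) := by
        exact_mod_cast congrArg (Nat.cast : ℕ → ℂ) hn
      have e2 : (p : ℂ) ^ n.factorization p *
          (((p ^ (D.factorization p - n.factorization p) * (D / p ^ D.factorization p) : ℕ) : ℂ)
            * w) = (D : ℂ) * w := by
        have : p ^ n.factorization p * (p ^ (D.factorization p - n.factorization p) *
            (D / p ^ D.factorization p)) = D := by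
          rw [← mul_assoc, ← pow_add, Nat.add_sub_cancel' hlt.le]
          exact hDd
        rw [← mul_assoc]
        congr 1
        exact_mod_cast congrArg (Nat.cast : ℕ → ℂ) this
      rw [e1, e2, h]
    rw [key]
    apply memLocalIdeal_mul_right hM' _ hwR
    rw [memLocalIdeal_natCast_iff hM]
    apply Dvd.dvd.mul_right
    exact dvd_pow_self p (by omega)
  · -- `ν(D) < ν(n)`: then `D' w = p^(j-k) n'` lies in the ideal, hence so does `D'`
    have hn := Nat.ordProj_mul_ordCompl_eq_self n p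
    have hDd := Nat.ordProj_mul_ordCompl_eq_self D p
    have hnd : ¬ p ∣ D / p ^ D.factorization p := Nat.not_dvd_ordCompl hp hD
    apply hnd
    rw [← memLocalIdeal_natCast_iff hM]
    have hpC : (p : ℂ) ≠ 0 := Nat.cast_ne_zero.mpr hp.ne_zero
    have hpow : (p : ℂ) ^ D.factorization p ≠ 0 := pow_ne_zero _ hpC
    have key : ((D / p ^ D.factorization p : ℕ) : ℂ) * w =
        ((p ^ (n.factorization p - D.factorization p) * (n / p ^ n.factorization p) : ℕ) : ℂ) := by
      apply mul_left_cancel₀ hpow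
      have e1 : (p : ℂ) ^ D.factorization p * (((D / p ^ D.factorization p : ℕ) : ℂ) * w) =
          (D : ℂ) * w := by
        rw [← mul_assoc]
        congr 1
        exact_mod_cast congrArg (Nat.cast : ℕ → ℂ) hDd
      have e2 : (p : ℂ) ^ D.factorization p *
          ((p ^ (n.factorization p - D.factorization p) * (n / p ^ n.factorization p) : ℕ) : ℂ)
          = (n : ℂ) := by
        have : p ^ D.factorization p * (p ^ (n.factorization p - D.factorization p) *
            (n / p ^ n.factorization p)) = n := by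
          rw [← mul_assoc, ← pow_add, Nat.add_sub_cancel' hgt.le]
          exact hn
        exact_mod_cast congrArg (Nat.cast : ℕ → ℂ) this
      rw [e1, e2, h]
    have h1 : MemLocalIdeal M (((D / p ^ D.factorization p : ℕ) : ℂ) * w) := by
      rw [key, memLocalIdeal_natCast_iff hM]
      apply Dvd.dvd.mul_right
      exact dvd_pow_self p (by omega)
    have h2 : MemLocalIdeal M (((D / p ^ D.factorization p : ℕ) : ℂ) * (w - 1)) :=
      memLocalIdeal_mul_left hM' (memLocalRing_natCast hM' _) hw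
    have h3 := memLocalIdeal_sub hM' h1 h2
    have h4 : ((D / p ^ D.factorization p : ℕ) : ℂ) * w -
        ((D / p ^ D.factorization p : ℕ) : ℂ) * (w - 1) = ((D / p ^ D.factorization p : ℕ) : ℂ) := by
      ring
    rwa [h4] at h3

/-! ### The block parts of an induced character -/

/-- The degree of the `B`-part of `ξ^G` is `ξ^G(1) * ω_ξ(e_B|_H)`. -/
theorem blockPart_indFun_one (H : Subgroup G) [Fintype H] (ξ : IrrCharacter H)
    (B : Set (IrrCharacter G)) :
    blockPart B (indFun H (ξ : H → ℂ)) 1 =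
      indFun H (ξ : H → ℂ) 1 * omega (ξ : H → ℂ) (fun h : H => blockCoeff B (h : G)) := by
  have hξ1 : (ξ : H → ℂ) 1 ≠ 0 := Cfsg.Agent.Lib.Helper78_CentralChar.isIrrCharacter_one_ne_zero ξ.2
  rw [blockPart_apply, sum_classInner_indFun_mul_deg, indFun_one]
  unfold omega
  field_simp

/-- The degree of the `B`-part of `ξ^G` is a natural number. -/
theorem exists_nat_blockPart_indFun_one (H : Subgroup G) [Fintype H] (ξ : IrrCharacter H)
    (B : Set (IrrCharacter G)) :
    ∃ n : ℕ, blockPart B (indFun H (ξ : H → ℂ)) 1 = n := by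
  have hch := isCharacter_indFun H (isCharacter_of_isIrrCharacter ξ.2)
  have hm : ∀ χ : IrrCharacter G, ∃ m : ℕ,
      classInner (indFun H (ξ : H → ℂ)) (χ : G → ℂ) = m := fun χ =>
    classInner_isCharacter_nat hch (isCharacter_of_isIrrCharacter χ.2)
  choose m hm using hm
  refine ⟨∑ χ ∈ bset B, m χ * charDegree (χ : G → ℂ), ?_⟩
  rw [blockPart_apply]
  push_cast
  refine Finset.sum_congr rfl fun χ _ => ?_
  rw [hm χ, apply_one_eq_charDegree]

/-- The degree of `ξ^G`. -/
theorem indFun_one_eq_natCast (H : Subgroup G) [Fintype H] (ξ : IrrCharacter H) :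
    indFun H (ξ : H → ℂ) 1 = ((H.index * charDegree (ξ : H → ℂ) : ℕ) : ℂ) := by
  have hH : (Nat.card H : ℂ) ≠ 0 := by
    rw [Nat.cast_ne_zero]; exact Nat.card_pos.ne'
  rw [indFun_one, apply_one_eq_charDegree, ← Subgroup.card_mul_index H]
  push_cast
  field_simp

theorem charDegree_indFun (H : Subgroup G) [Fintype H] (ξ : IrrCharacter H) :
    charDegree (indFun H (ξ : H → ℂ)) = H.index * charDegree (ξ : H → ℂ) :=
  Cfsg.Agent.Lib.Helper78_CentralChar.charDegree_eq_of_one_eq_natCast (indFun_one_eq_natCast H ξ)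

theorem charDegree_indFun_ne_zero (H : Subgroup G) [Fintype H] (ξ : IrrCharacter H) :
    charDegree (indFun H (ξ : H → ℂ)) ≠ 0 := by
  rw [charDegree_indFun]
  exact Nat.mul_ne_zero (Subgroup.index_ne_zero_of_finite) (charDegree_pos ξ).ne'

/-- **Block parts of induced characters.**  If `b` induces `B₀` and `ξ ∈ b`, then the degree
`n_B` of the `B`-part of `ξ^G` has `ν_p(n_{B₀}) = ν_p(ξ^G(1))`, while for `B ≠ B₀` either
`n_B = 0` or `ν_p(n_B) > ν_p(ξ^G(1))`. -/
theorem factorization_blockPart_indFun (hM : IsPModular p M) (H : Subgroup G) [Fintype H]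
    {b : Set (IrrCharacter H)} {B₀ : Set (IrrCharacter G)} (hind : IsInducedBlock M H b B₀)
    {ξ : IrrCharacter H} (hξ : ξ ∈ b) {B : Set (IrrCharacter G)} (hB : IsPBlock M B) :
    ∃ n : ℕ, blockPart B (indFun H (ξ : H → ℂ)) 1 = n ∧
      (B = B₀ → n ≠ 0 ∧
        n.factorization p = (charDegree (indFun H (ξ : H → ℂ))).factorization p) ∧
      (B ≠ B₀ → n = 0 ∨
        (charDegree (indFun H (ξ : H → ℂ))).factorization p < n.factorization p) := by
  classical
  have hM' := isPrime_of_isPModular hM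
  obtain ⟨n, hn⟩ := exists_nat_blockPart_indFun_one H ξ B
  refine ⟨n, hn, ?_, ?_⟩
  all_goals
    obtain ⟨χ₀, hχ₀⟩ := isPBlock_nonempty hM' hind.2.1
    have hD0 := charDegree_indFun_ne_zero H ξ
    have hrel : (n : ℂ) = (charDegree (indFun H (ξ : H → ℂ)) : ℂ) *
        omega (ξ : H → ℂ) (fun h : H => blockCoeff B (h : G)) := by
      rw [← hn, blockPart_indFun_one, indFun_one_eq_natCast, charDegree_indFun]
    have hcong := Cfsg.Agent.Lib.Helper78_PRegSum.memLocalIdeal_omega_restrict_sub hM' H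
      (ξ : H → ℂ) (isClassFunction_of_isIrrCharacter χ₀.2)
      (fun g => hind.2.2 ξ hξ χ₀ hχ₀ g) (blockCoeff_isClassFunction B)
      (fun g => osima_block' hM' hB g)
    rw [omega_blockCoeff charFacts B χ₀] at hcong
  · intro hBB
    rw [Set.indicator_of_mem (hBB ▸ hχ₀)] at hcong
    exact val_of_unit_ratio hM hD0 hrel hcong
  · intro hBB
    have hnot : χ₀ ∉ B := fun h => hBB (isPBlock_eq_of_mem_of_mem hM' hB hind.2.1 h hχ₀)
    rw [Set.indicator_of_notMem hnot, sub_zero] at hcong
    exact val_of_ideal_ratio hM hD0 hrel hcong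

end Cfsg.Agent.Lib.Helper57_IndBlock
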