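import Mathlib
import Cfsg.Agent.Lib.Helper57_GramTrace
import Cfsg.Agent.Lib.Helper57_IndBlock
import Cfsg.Agent.Lib.Helper57_FrobNorm2
import Cfsg.Agent.Lib.Helper16_Cover
import Cfsg.Agent.Lib.Helper75_Induced
import Cfsg.Agent.Lib.Helper3_CharColumn

/-!
# An equivariant Brauer graph theorem (helper57)

`N` normal in `G`.  A `G`-stable set `S` of irreducible characters of `N` that is closed under
"orbit linking" (`∑_t [(θ^t)°, ψ] = 0` for `θ ∈ S`, `ψ ∉ S`) has an idempotent with local-integer
coefficients, hence is a union of blocks of `N` (`sameBlock_closed_of_linking`).  No Brauer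
characters are used: the integrality comes from restricting the induced class function
`(∑_{θ ∈ S} conj θ(x) θ)^G` to a Sylow `p`-subgroup of `G`.
-/

set_option autoImplicit false
set_option linter.unusedSectionVars false

namespace Cfsg.Agent.Lib.Helper57_Graph

open Cfsg
open scoped ComplexConjugate
open Cfsg.Agent.Lib.Helper3_CharBridge Cfsg.Agent.Lib.Helper3_CharOrtho
  Cfsg.Agent.Lib.Helper3_CharComplete Cfsg.Agent.Lib.Helper3_CharColumn
  Cfsg.Agent.Lib.Helper75_CharArith Cfsg.Agent.Lib.Helper57_PRegInt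
  Cfsg.Agent.Lib.Helper57_HeightZero Cfsg.Agent.Lib.Helper57_BrauerFeit
  Cfsg.Agent.Lib.Helper57_GramTrace Cfsg.Agent.Lib.Helper57_IndBlock
  Cfsg.Agent.Lib.Helper78_LocalRing Cfsg.Agent.Lib.Helper78_CharFacts
  Cfsg.Agent.Lib.Helper16_Orbit Cfsg.Agent.Lib.Helper16_Cover

section General

variable {K : Type*} [Group K] [Fintype K] {p : ℕ} {M : Ideal AlgInt}

/-- A class function with local-integer multiplicities that vanishes on the `p`-singular elements
has degree divisible by the `p`-part of `|K|` in the local ring. -/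
theorem memLocalRing_deg_div (hM : IsPModular p M) {θ : K → ℂ} (hθ : IsClassFunction K θ)
    (hint : ∀ ξ : IrrCharacter K, MemLocalRing M (classInner θ (ξ : K → ℂ)))
    (hvan : ∀ y : K, p ∣ orderOf y → θ y = 0) :
    MemLocalRing M (θ 1 / ((p ^ (Nat.card K).factorization p : ℕ) : ℂ)) := by
  classical
  have hp : p.Prime := hM.1
  have hMp := isPrime_of_isPModular hM
  have : Fact p.Prime := ⟨hp⟩
  obtain ⟨P⟩ : Nonempty (Sylow p K) := inferInstance
  have hPcard : Nat.card (P : Subgroup K) = p ^ (Nat.card K).factorization p :=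
    P.card_eq_multiplicity
  have := Fintype.ofFinite (P : Subgroup K)
  have hsum1 : ∑ x : (P : Subgroup K), θ (x : K) = θ 1 := by
    rw [Finset.sum_eq_single (1 : (P : Subgroup K))]
    · simp
    · intro x _ hx
      have hx1 : (x : K) ≠ 1 := fun h => hx (Subtype.ext h)
      obtain ⟨j, hj⟩ := (P.isPGroup'.to_le le_rfl) x
      have hord : orderOf (x : K) ∣ p ^ j := by
        rw [orderOf_dvd_iff_pow_eq_one]
        simpa using congrArg Subtype.val hj
      obtain ⟨i, _, hi⟩ := (Nat.dvd_prime_pow hp).mp hord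
      have hi0 : i ≠ 0 := by
        rintro rfl
        rw [pow_zero, orderOf_eq_one_iff] at hi
        exact hx1 hi
      exact hvan _ (by rw [hi]; exact dvd_pow_self p hi0)
    · intro h; exact absurd (Finset.mem_univ _) h
  have hd : ∀ ξ : IrrCharacter K, ∃ d : ℕ,
      ∑ x : (P : Subgroup K), (ξ : K → ℂ) (x : K) = (Nat.card (P : Subgroup K) : ℂ) * d :=
    fun ξ => Cfsg.Agent.Lib.Helper57_FrobNorm2.sum_subgroup_char'
      (isCharacter_of_isIrrCharacter ξ.2) (P : Subgroup K)
  choose d hd using hd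
  have hexp : ∀ x : K, θ x = ∑ ξ : IrrCharacter K, classInner θ (ξ : K → ℂ) * (ξ : K → ℂ) x := by
    intro x
    conv_lhs => rw [classFunction_eq_sum θ hθ]
    rw [Finset.sum_apply]
    refine Finset.sum_congr rfl fun ξ _ => ?_
    rw [Pi.smul_apply, smul_eq_mul]
  have hP0 : ((p ^ (Nat.card K).factorization p : ℕ) : ℂ) ≠ 0 := by
    exact_mod_cast (pow_pos hp.pos _).ne'
  have key : θ 1 / ((p ^ (Nat.card K).factorization p : ℕ) : ℂ) =
      ∑ ξ : IrrCharacter K, classInner θ (ξ : K → ℂ) * (d ξ : ℂ) := by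
    rw [div_eq_iff hP0, ← hsum1]
    simp_rw [hexp]
    rw [Finset.sum_comm]
    simp_rw [← Finset.mul_sum, hd, hPcard]
    rw [Finset.sum_mul]
    refine Finset.sum_congr rfl fun ξ _ => ?_
    ring
  rw [key]
  exact memLocalRing_sum hMp _ _ fun ξ _ =>
    memLocalRing_mul hMp (hint ξ) (memLocalRing_natCast hMp _)

/-- Converse of Osima's theorem: a set of irreducible characters whose idempotent has
local-integer coefficients is a union of blocks. -/
theorem sameBlock_closed_of_memLocalRing (hM : M.IsPrime) (S : Set (IrrCharacter K))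
    (hS : ∀ g, MemLocalRing M (blockCoeff S g)) :
    ∀ φ ∈ S, ∀ ψ : IrrCharacter K, SameBlock M (φ : K → ℂ) (ψ : K → ℂ) → ψ ∈ S := by
  intro φ hφ ψ hsb
  by_contra hψ
  have hcK := Cfsg.Agent.Lib.Helper78_CharFacts.charFacts (G := K)
  have h1 := Cfsg.Agent.Lib.Helper78_Osima.memLocalIdeal_omega_sub hM
    (isClassFunction_of_isIrrCharacter φ.2) (isClassFunction_of_isIrrCharacter ψ.2) hsb
    (Cfsg.Agent.Lib.Helper78_Osima.blockCoeff_isClassFunction S) hS
  rw [Cfsg.Agent.Lib.Helper78_Osima.omega_blockCoeff hcK,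
    Cfsg.Agent.Lib.Helper78_Osima.omega_blockCoeff hcK, Set.indicator_of_mem hφ,
    Set.indicator_of_notMem hψ, sub_zero] at h1
  exact not_memLocalIdeal_one hM h1

end General

section Conj

variable {G : Type*} [Group G] [Fintype G] (N : Subgroup G) [hN : N.Normal] [Fintype N] {p : ℕ}
  {M : Ideal AlgInt}

theorem cj_apply (t : G) (φ : N → ℂ) (n : N) :
    cj N t φ n = φ ((MulAut.conjNormal t⁻¹ : MulAut N) n) := rfl

theorem cj_smul (t : G) (c : ℂ) (φ : N → ℂ) : cj N t (c • φ) = c • cj N t φ := by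
  funext n
  rfl

theorem cj_add (t : G) (φ ψ : N → ℂ) : cj N t (φ + ψ) = cj N t φ + cj N t ψ := by
  funext n
  rfl

theorem cj_sub (t : G) (φ ψ : N → ℂ) : cj N t (φ - ψ) = cj N t φ - cj N t ψ := by
  funext n
  rfl

theorem classInner_cj (t : G) (α β : N → ℂ) :
    classInner (cj N t α) (cj N t β) = classInner α β := by
  unfold classInner
  congr 1
  exact Equiv.sum_comp (MulAut.conjNormal t⁻¹ : MulAut N).toEquiv (fun n => α n * conj (β n))

theorem classInner_cj_left (t : G) (α β : N → ℂ) :
    classInner (cj N t α) β = classInner α (cj N t⁻¹ β) := by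
  rw [← classInner_cj N t⁻¹ (cj N t α) β, cj_inv_cj]

theorem regPart_cj (t : G) (α : N → ℂ) : regPart p (cj N t α) = cj N t (regPart p α) := by
  funext n
  have ho : orderOf ((MulAut.conjNormal t⁻¹ : MulAut N) n) = orderOf n :=
    orderOf_injective (MulAut.conjNormal t⁻¹ : MulAut N).toMonoidHom
      (MulAut.conjNormal t⁻¹ : MulAut N).injective n
  by_cases h : p ∣ orderOf n
  · rw [regPart_of_dvd _ h, cj_apply, regPart_of_dvd _ (by rw [ho]; exact h)]
  · rw [regPart_of_not_dvd _ h, cj_apply, cj_apply, regPart_of_not_dvd _ (by rw [ho]; exact h)]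

theorem cj_one_apply (t : G) (φ : N → ℂ) : cj N t φ 1 = φ 1 := by
  rw [cj_apply, map_one]

theorem coe_cjIrr (t : G) (θ : IrrCharacter N) :
    ((cjIrr N t θ : IrrCharacter N) : N → ℂ) = cj N t (θ : N → ℂ) := rfl

/-- Symmetry of the orbit-linking sums. -/
theorem sum_regInner_cj_symm (α β : N → ℂ) :
    ∑ t : G, classInner (regPart p (cj N t α)) β =
      conj (∑ t : G, classInner (regPart p (cj N t β)) α) := by
  rw [map_sum, ← Equiv.sum_comp (Equiv.inv G)]
  refine Finset.sum_congr rfl fun t _ => ?_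
  rw [Equiv.inv_apply, regInner_symm (p := p), regPart_cj, classInner_cj_left, inv_inv]

end Conj

section Main

variable {G : Type*} [Group G] [Fintype G] (N : Subgroup G) [hN : N.Normal] [Fintype N] {p : ℕ}
  {M : Ideal AlgInt}

/-- `ϑ_x = ∑_{θ ∈ S} conj θ(x) θ`. -/
noncomputable def vth (S : Set (IrrCharacter N)) (x : N) : N → ℂ :=
  ∑ θ ∈ bset S, conj ((θ : N → ℂ) x) • (θ : N → ℂ)

/-- `A_x = ∑_t (ϑ_x)^t`. -/
noncomputable def avg (S : Set (IrrCharacter N)) (x : N) : N → ℂ :=
  ∑ t : G, cj N t (vth N S x)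

theorem avg_eq (S : Set (IrrCharacter N)) (x : N) :
    avg N S x = ∑ t : G, ∑ θ ∈ bset S, conj ((θ : N → ℂ) x) • cj N t (θ : N → ℂ) := by
  unfold avg vth
  refine Finset.sum_congr rfl fun t _ => ?_
  rw [cj_sum]
  refine Finset.sum_congr rfl fun θ _ => ?_
  rw [cj_smul]

theorem avg_isClassFunction (S : Set (IrrCharacter N)) (x : N) :
    IsClassFunction N (avg N S x) := by
  rw [avg_eq]
  refine isClassFunction_sum _ _ fun t _ => isClassFunction_sum _ _ fun θ _ =>
    isClassFunction_smul _ ?_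
  exact isClassFunction_of_isIrrCharacter (cj_irr N t θ.2)

/-- Both `A_x` and `A_x°` are orthogonal to the irreducible characters outside `S`. -/
theorem inner_avg_eq_zero (S : Set (IrrCharacter N))
    (hst : ∀ (t : G) (θ : IrrCharacter N), θ ∈ S → cjIrr N t θ ∈ S)
    (hcl : ∀ θ ∈ S, ∀ ψ : IrrCharacter N, ψ ∉ S →
      ∑ t : G, classInner (regPart p (cj N t (θ : N → ℂ))) (ψ : N → ℂ) = 0)
    (x : N) (ψ : IrrCharacter N) (hψ : ψ ∉ S) :
    classInner (regPart p (avg N S x)) (ψ : N → ℂ) = 0 ∧
      classInner (avg N S x) (ψ : N → ℂ) = 0 := by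
  classical
  rw [avg_eq]
  constructor
  · rw [regPart_sum, classInner_sum_left]
    simp_rw [regPart_sum, classInner_sum_left, regPart_smul, classInner_smul_left]
    rw [Finset.sum_comm]
    refine Finset.sum_eq_zero fun θ hθ => ?_
    rw [← Finset.mul_sum, hcl θ (mem_bset.mp hθ) ψ hψ, mul_zero]
  · rw [classInner_sum_left]
    refine Finset.sum_eq_zero fun t _ => ?_
    rw [classInner_sum_left]
    refine Finset.sum_eq_zero fun θ hθ => ?_
    rw [classInner_smul_left]
    have h1 : cjIrr N t θ ∈ S := hst t θ (mem_bset.mp hθ)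
    have h2 : classInner (cj N t (θ : N → ℂ)) (ψ : N → ℂ) = 0 := by
      have := classInner_irr (cjIrr N t θ).2 ψ.2
      rw [coe_cjIrr] at this
      rw [this, if_neg]
      intro h
      apply hψ
      have : cjIrr N t θ = ψ := Subtype.ext h
      rw [← this]
      exact h1
    rw [h2, mul_zero]

/-- **Key lemma**: for `p`-regular `x`, `A_x` vanishes on the `p`-singular elements. -/
theorem regPart_avg (S : Set (IrrCharacter N))
    (hst : ∀ (t : G) (θ : IrrCharacter N), θ ∈ S → cjIrr N t θ ∈ S)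
    (hcl : ∀ θ ∈ S, ∀ ψ : IrrCharacter N, ψ ∉ S →
      ∑ t : G, classInner (regPart p (cj N t (θ : N → ℂ))) (ψ : N → ℂ) = 0)
    (x : N) (hx : ¬ p ∣ orderOf x) : regPart p (avg N S x) = avg N S x := by
  classical
  -- the complement has the same properties
  have hst' : ∀ (t : G) (θ : IrrCharacter N), θ ∈ Sᶜ → cjIrr N t θ ∈ Sᶜ := by
    intro t θ hθ h
    apply hθ
    have := hst t⁻¹ _ h
    have e : cjIrr N t⁻¹ (cjIrr N t θ) = θ := Subtype.ext (cj_inv_cj N t θ)
    rwa [e] at this
  have hcl' : ∀ θ ∈ Sᶜ, ∀ ψ : IrrCharacter N, ψ ∉ Sᶜ →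
      ∑ t : G, classInner (regPart p (cj N t (θ : N → ℂ))) (ψ : N → ℂ) = 0 := by
    intro θ hθ ψ hψ
    have hψS : ψ ∈ S := by
      by_contra h
      exact hψ h
    rw [sum_regInner_cj_symm, hcl ψ hψS θ hθ, map_zero]
  -- the total is supported on the `p`-regular elements
  have htot : regPart p (avg N S x + avg N Sᶜ x) = avg N S x + avg N Sᶜ x := by
    funext n
    by_cases hn : p ∣ orderOf n
    · rw [regPart_of_dvd _ hn]
      symm
      rw [avg_eq, avg_eq, ← Finset.sum_add_distrib, Finset.sum_apply]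
      refine Finset.sum_eq_zero fun t _ => ?_
      have hsplit : ∀ f : IrrCharacter N → N → ℂ,
          ∑ θ ∈ bset S, f θ + ∑ θ ∈ bset Sᶜ, f θ = ∑ θ : IrrCharacter N, f θ := by
        intro f
        unfold bset
        rw [Finset.sum_filter, Finset.sum_filter, ← Finset.sum_add_distrib]
        refine Finset.sum_congr rfl fun θ _ => ?_
        by_cases h : θ ∈ S
        · rw [if_pos h, if_neg (Set.notMem_compl_iff.mpr h), add_zero]
        · rw [if_neg h, if_pos (Set.mem_compl h), zero_add]
      rw [hsplit, Finset.sum_apply]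
      simp_rw [Pi.smul_apply, smul_eq_mul, cj_apply]
      have hco := column_orthogonality ((MulAut.conjNormal t⁻¹ : MulAut N) n) x
      have hnc : ¬ IsConj ((MulAut.conjNormal t⁻¹ : MulAut N) n) x := by
        intro hc
        have ho : orderOf ((MulAut.conjNormal t⁻¹ : MulAut N) n) = orderOf n :=
          orderOf_injective (MulAut.conjNormal t⁻¹ : MulAut N).toMonoidHom
            (MulAut.conjNormal t⁻¹ : MulAut N).injective n
        obtain ⟨c, hc⟩ := isConj_iff.mp hc
        have ho2 : orderOf x = orderOf ((MulAut.conjNormal t⁻¹ : MulAut N) n) := by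
          rw [← hc]
          exact orderOf_injective (MulAut.conj c).toMonoidHom (MulAut.conj c).injective _
        rw [ho2, ho] at hx
        exact hx hn
      rw [if_neg hnc] at hco
      rw [← hco]
      refine Finset.sum_congr rfl fun θ _ => ?_
      rw [mul_comm]
    · rw [regPart_of_not_dvd _ hn]
  -- the difference is orthogonal to everything
  have hD : regPart p (avg N S x) - avg N S x = 0 := by
    apply eq_zero_of_forall_classInner_irr_eq_zero
    · exact isClassFunction_sub (regPart_isClassFunction p (avg_isClassFunction N S x))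
        (avg_isClassFunction N S x)
    · intro ψ' hψ'
      set ψ : IrrCharacter N := ⟨ψ', hψ'⟩ with hψdef
      show classInner _ (ψ : N → ℂ) = 0
      by_cases hψ : ψ ∈ S
      · have hD2 : regPart p (avg N S x) - avg N S x =
            -(regPart p (avg N Sᶜ x) - avg N Sᶜ x) := by
          rw [regPart_add] at htot
          have : regPart p (avg N S x) - avg N S x + (regPart p (avg N Sᶜ x) - avg N Sᶜ x) =
              0 := by
            rw [sub_add_sub_comm, htot, sub_self]
          exact eq_neg_of_add_eq_zero_left this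
        have h := inner_avg_eq_zero N Sᶜ hst' hcl' x ψ (fun h => h hψ)
        rw [hD2]
        have hneg : ∀ f : N → ℂ, classInner (-f) (ψ : N → ℂ) = -classInner f (ψ : N → ℂ) := by
          intro f
          have : -f = (-1 : ℂ) • f := by simp
          rw [this, classInner_smul_left]
          ring
        rw [hneg, classInner_sub_left, h.1, h.2, sub_zero, neg_zero]
      · have h := inner_avg_eq_zero N S hst hcl x ψ hψ
        rw [classInner_sub_left, h.1, h.2, sub_zero]
  exact sub_eq_zero.mp hD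

/-- The induced class function of `ϑ_x` on `N`. -/
theorem indFun_vth_coe (S : Set (IrrCharacter N)) (x n : N) :
    indFun N (vth N S x) (n : G) = (Nat.card N : ℂ)⁻¹ * avg N S x n := by
  rw [Cfsg.Agent.Lib.Helper75_Induced.indFun_apply]
  congr 1
  unfold avg
  rw [Finset.sum_apply]
  refine Finset.sum_congr rfl fun t _ => ?_
  have hmem : t⁻¹ * (n : G) * t ∈ N := by
    have := hN.conj_mem (n : G) n.2 t⁻¹
    simpa using this
  rw [Cfsg.Agent.Lib.Helper75_Induced.extendByZero_of_mem N _ hmem, cj_apply_coe N t _ n hmem]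

theorem indFun_vth_not_mem (S : Set (IrrCharacter N)) (x : N) {g : G} (hg : g ∉ N) :
    indFun N (vth N S x) g = 0 := by
  rw [Cfsg.Agent.Lib.Helper75_Induced.indFun_apply]
  have : ∀ t : G, extendByZero N (vth N S x) (t⁻¹ * g * t) = 0 := by
    intro t
    apply Cfsg.Agent.Lib.Helper75_Induced.extendByZero_of_not_mem
    intro h
    apply hg
    have := hN.conj_mem _ h t
    simpa [mul_assoc] using this
  simp_rw [this]
  rw [Finset.sum_const_zero, mul_zero]

/-- The multiplicities of `(ϑ_x)^G` are local integers. -/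
theorem memLocalRing_inner_indFun_vth (hM : M.IsPrime) (S : Set (IrrCharacter N)) (x : N)
    (χ : IrrCharacter G) :
    MemLocalRing M (classInner (indFun N (vth N S x)) (χ : G → ℂ)) := by
  rw [Cfsg.Agent.Lib.Helper75_Induced.frobenius_reciprocity N _ _
    (isClassFunction_of_isIrrCharacter χ.2)]
  unfold vth
  rw [classInner_sum_left]
  refine memLocalRing_sum hM _ _ fun θ _ => ?_
  rw [classInner_smul_left]
  refine memLocalRing_mul hM ?_ ?_
  · rw [← Cfsg.Agent.Lib.Helper80_CharBasic.irr_inv θ x]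
    have hint : IsIntegral ℤ ((θ : N → ℂ) x⁻¹) :=
      isIntegral_of_isCharacter (isCharacter_of_isIrrCharacter θ.2) _
    exact memLocalRing_algInt hM ⟨_, hint⟩
  · obtain ⟨m, hm⟩ := classInner_isCharacter_nat (isCharacter_of_isIrrCharacter θ.2)
      (isCharacter_restrict N (isCharacter_of_isIrrCharacter χ.2))
    rw [hm]
    exact memLocalRing_natCast hM m

theorem vth_one_eq (S : Set (IrrCharacter N)) (x : N) :
    vth N S x 1 = (Nat.card N : ℂ) * blockCoeff S x := by
  have hN0 : (Nat.card N : ℂ) ≠ 0 := card_ne_zero_complex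
  rw [blockCoeff_eq_sum_bset, ← mul_assoc, mul_inv_cancel₀ hN0, one_mul]
  unfold vth
  rw [Finset.sum_apply]
  refine Finset.sum_congr rfl fun θ _ => ?_
  rw [Pi.smul_apply, smul_eq_mul, mul_comm]

theorem avg_one_eq (S : Set (IrrCharacter N)) (x : N) :
    avg N S x 1 = (Nat.card G : ℂ) * vth N S x 1 := by
  unfold avg
  rw [Finset.sum_apply]
  simp_rw [cj_one_apply]
  rw [Finset.sum_const, Finset.card_univ, nsmul_eq_mul, Nat.card_eq_fintype_card]

/-- `ϑ_1` is `G`-invariant when `S` is `G`-stable. -/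
theorem cj_vth_one (S : Set (IrrCharacter N))
    (hst : ∀ (t : G) (θ : IrrCharacter N), θ ∈ S → cjIrr N t θ ∈ S) (t : G) :
    cj N t (vth N S 1) = vth N S 1 := by
  unfold vth
  rw [cj_sum]
  simp_rw [cj_smul]
  refine Finset.sum_bij (fun θ _ => cjIrr N t θ) ?_ ?_ ?_ ?_
  · intro θ hθ
    exact mem_bset.mpr (hst t θ (mem_bset.mp hθ))
  · intro θ₁ _ θ₂ _ h
    exact (cjIrr N t).injective h
  · intro θ hθ
    refine ⟨cjIrr N t⁻¹ θ, mem_bset.mpr (hst t⁻¹ θ (mem_bset.mp hθ)), ?_⟩
    exact Subtype.ext (cj_cj_inv N t θ)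
  · intro θ _
    rw [coe_cjIrr, cj_one_apply]

/-- **The idempotent of a `G`-stable, orbit-linking-closed set has local-integer coefficients.** -/
theorem memLocalRing_blockCoeff_of_linking (hM : IsPModular p M) (S : Set (IrrCharacter N))
    (hst : ∀ (t : G) (θ : IrrCharacter N), θ ∈ S → cjIrr N t θ ∈ S)
    (hcl : ∀ θ ∈ S, ∀ ψ : IrrCharacter N, ψ ∉ S →
      ∑ t : G, classInner (regPart p (cj N t (θ : N → ℂ))) (ψ : N → ℂ) = 0)
    (x : N) : MemLocalRing M (blockCoeff S x) := by
  have hp : p.Prime := hM.1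
  have hMp := isPrime_of_isPModular hM
  have hN0 : (Nat.card N : ℂ) ≠ 0 := card_ne_zero_complex
  have hG0 : (Nat.card G : ℂ) ≠ 0 := card_ne_zero_complex
  by_cases hx : p ∣ orderOf x
  · -- `p`-singular: the coefficient vanishes
    have h1 := regPart_avg N S hst hcl (1 : N) (by rw [orderOf_one]; exact hp.not_dvd_one)
    have h2 : avg N S 1 x = 0 := by
      rw [← h1, regPart_of_dvd _ hx]
    have h3 : avg N S 1 x = (Nat.card G : ℂ) * vth N S 1 x := by
      unfold avg
      rw [Finset.sum_apply]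
      simp_rw [cj_vth_one N S hst]
      rw [Finset.sum_const, Finset.card_univ, nsmul_eq_mul, Nat.card_eq_fintype_card]
    have h4 : vth N S 1 x = 0 := by
      rw [h3] at h2
      rcases mul_eq_zero.mp h2 with h | h
      · exact absurd h hG0
      · exact h
    have h5 : blockCoeff S x = (Nat.card N : ℂ)⁻¹ * conj (vth N S 1 x) := by
      rw [blockCoeff_eq_sum_bset]
      congr 1
      unfold vth
      rw [Finset.sum_apply, map_sum]
      refine Finset.sum_congr rfl fun θ _ => ?_
      rw [Pi.smul_apply, smul_eq_mul, map_mul, Complex.conj_conj]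
    rw [h5, h4, map_zero, mul_zero]
    exact memLocalRing_zero hMp
  · -- `p`-regular: Sylow restriction of the induced class function
    have hreg := regPart_avg N S hst hcl x hx
    have hvan : ∀ y : G, p ∣ orderOf y → indFun N (vth N S x) y = 0 := by
      intro y hy
      by_cases hyN : y ∈ N
      · have := indFun_vth_coe N S x ⟨y, hyN⟩
        rw [show ((⟨y, hyN⟩ : N) : G) = y from rfl] at this
        rw [this, ← hreg, regPart_of_dvd, mul_zero]
        rw [← Subgroup.orderOf_coe]
        exact hy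
      · exact indFun_vth_not_mem N S x hyN
    have hdiv := memLocalRing_deg_div hM
      (Cfsg.Agent.Lib.Helper75_Induced.isClassFunction_indFun N (vth N S x))
      (memLocalRing_inner_indFun_vth N hMp S x) hvan
    have h1 : indFun N (vth N S x) 1 = (Nat.card G : ℂ) * blockCoeff S x := by
      have := indFun_vth_coe N S x 1
      rw [show ((1 : N) : G) = 1 from rfl] at this
      rw [this, avg_one_eq, vth_one_eq]
      field_simp
    set a := (Nat.card G).factorization p with ha
    have hcard : Nat.card G = p ^ a * (Nat.card G / p ^ a) :=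
      (Nat.mul_div_cancel' (Nat.ordProj_dvd _ _)).symm
    have hm : ¬ p ∣ Nat.card G / p ^ a :=
      Nat.not_dvd_ordCompl hp (Nat.card_pos (α := G)).ne'
    have hpa0 : ((p ^ a : ℕ) : ℂ) ≠ 0 := by exact_mod_cast (pow_pos hp.pos _).ne'
    have hm0 : ((Nat.card G / p ^ a : ℕ) : ℂ) ≠ 0 := by
      rw [Nat.cast_ne_zero]
      rintro h
      rw [h] at hm
      exact hm (dvd_zero p)
    have h2 : blockCoeff S x = indFun N (vth N S x) 1 / ((p ^ a : ℕ) : ℂ) *
        ((Nat.card G / p ^ a : ℕ) : ℂ)⁻¹ := by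
      rw [h1]
      have : (Nat.card G : ℂ) = ((p ^ a : ℕ) : ℂ) * ((Nat.card G / p ^ a : ℕ) : ℂ) := by
        exact_mod_cast hcard
      rw [this]
      field_simp
    rw [h2]
    exact memLocalRing_mul hMp hdiv (memLocalRing_inv_natCast hM hm)

/-- **Equivariant Brauer graph theorem.** -/
theorem sameBlock_closed_of_linking (hM : IsPModular p M) (S : Set (IrrCharacter N))
    (hst : ∀ (t : G) (θ : IrrCharacter N), θ ∈ S → cjIrr N t θ ∈ S)
    (hcl : ∀ θ ∈ S, ∀ ψ : IrrCharacter N, ψ ∉ S →
      ∑ t : G, classInner (regPart p (cj N t (θ : N → ℂ))) (ψ : N → ℂ) = 0) :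
    ∀ φ ∈ S, ∀ ψ : IrrCharacter N, SameBlock M (φ : N → ℂ) (ψ : N → ℂ) → ψ ∈ S :=
  sameBlock_closed_of_memLocalRing (isPrime_of_isPModular hM) S
    (memLocalRing_blockCoeff_of_linking N hM S hst hcl)

end Main

end Cfsg.Agent.Lib.Helper57_Graph
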