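import Mathlib
import Cfsg.Agent.Lib.Helper57_Graph

/-!
# Every character of a covered block lies under the covering block (helper57)

`N` normal in `G`, `B` a block of `G`.  The set `under N B` of irreducible characters of `N` lying
under some member of `B` is `G`-stable and closed under orbit linking, hence a union of blocks of
`N` (`Helper57_Graph.sameBlock_closed_of_linking`).  So if `B` covers `b` then every `θ ∈ b` lies
under some `χ ∈ B` (`exists_over_of_covers`).
-/

set_option autoImplicit false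
set_option linter.unusedSectionVars false

namespace Cfsg.Agent.Lib.Helper57_CoverUnder

open Cfsg
open scoped ComplexConjugate
open Cfsg.Agent.Lib.Helper3_CharBridge Cfsg.Agent.Lib.Helper3_CharOrtho
  Cfsg.Agent.Lib.Helper3_CharComplete Cfsg.Agent.Lib.Helper3_CharColumn
  Cfsg.Agent.Lib.Helper75_CharArith Cfsg.Agent.Lib.Helper57_PRegInt
  Cfsg.Agent.Lib.Helper57_HeightZero Cfsg.Agent.Lib.Helper57_BrauerFeit
  Cfsg.Agent.Lib.Helper57_GramTrace Cfsg.Agent.Lib.Helper57_IndBlock
  Cfsg.Agent.Lib.Helper57_Graph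
  Cfsg.Agent.Lib.Helper78_LocalRing Cfsg.Agent.Lib.Helper78_CharFacts
  Cfsg.Agent.Lib.Helper16_Orbit Cfsg.Agent.Lib.Helper16_Cover

variable {G : Type*} [Group G] [Fintype G] (N : Subgroup G) [hN : N.Normal] [Fintype N] {p : ℕ}
  {M : Ideal AlgInt}

/-- The irreducible characters of `N` lying under some member of `B`. -/
def under (B : Set (IrrCharacter G)) : Set (IrrCharacter N) :=
  {θ | ∃ χ ∈ B, classInner (fun n : N => (χ : G → ℂ) n) (θ : N → ℂ) ≠ 0}

theorem cj_restrict {χ : G → ℂ} (hχ : IsClassFunction G χ) (t : G) :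
    cj N t (fun n : N => χ n) = fun n : N => χ n := by
  funext n
  have hmem : t⁻¹ * (n : G) * t ∈ N := by
    have := hN.conj_mem (n : G) n.2 t⁻¹
    simpa using this
  rw [cj_apply_coe N t _ n hmem]
  show χ (t⁻¹ * (n : G) * t) = χ n
  have := hχ (n : G) t⁻¹
  rwa [inv_inv] at this

theorem under_stable (B : Set (IrrCharacter G)) (t : G) (θ : IrrCharacter N)
    (hθ : θ ∈ under N B) : cjIrr N t θ ∈ under N B := by
  obtain ⟨χ, hχ, h⟩ := hθ
  refine ⟨χ, hχ, ?_⟩
  rw [coe_cjIrr, ← cj_restrict N (isClassFunction_of_isIrrCharacter χ.2) t, classInner_cj]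
  exact h

theorem extendByZero_regPart (ψ : N → ℂ) (g : G) :
    extendByZero N (regPart p ψ) g = regPart p (extendByZero N ψ) g := by
  by_cases hg : g ∈ N
  · by_cases hp : p ∣ orderOf g
    · rw [regPart_of_dvd _ hp, Cfsg.Agent.Lib.Helper75_Induced.extendByZero_of_mem N _ hg,
        regPart_of_dvd]
      rw [← Subgroup.orderOf_coe]
      exact hp
    · rw [regPart_of_not_dvd _ hp, Cfsg.Agent.Lib.Helper75_Induced.extendByZero_of_mem N _ hg,
        Cfsg.Agent.Lib.Helper75_Induced.extendByZero_of_mem N _ hg, regPart_of_not_dvd]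
      rw [← Subgroup.orderOf_coe]
      exact hp
  · rw [Cfsg.Agent.Lib.Helper75_Induced.extendByZero_of_not_mem N _ hg]
    by_cases hp : p ∣ orderOf g
    · rw [regPart_of_dvd _ hp]
    · rw [regPart_of_not_dvd _ hp, Cfsg.Agent.Lib.Helper75_Induced.extendByZero_of_not_mem N _ hg]

/-- Induction from a normal subgroup commutes with restriction to the `p`-regular elements. -/
theorem regPart_indFun (ψ : N → ℂ) : regPart p (indFun N ψ) = indFun N (regPart p ψ) := by
  funext g
  rw [Cfsg.Agent.Lib.Helper75_Induced.indFun_apply]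
  have ho : ∀ t : G, orderOf (t⁻¹ * g * t) = orderOf g := by
    intro t
    have := orderOf_injective (MulAut.conj t⁻¹).toMonoidHom (MulAut.conj t⁻¹).injective g
    simpa [MulAut.conj_apply] using this
  by_cases hp : p ∣ orderOf g
  · rw [regPart_of_dvd _ hp]
    symm
    have : ∀ t : G, extendByZero N (regPart p ψ) (t⁻¹ * g * t) = 0 := by
      intro t
      rw [extendByZero_regPart, regPart_of_dvd]
      rw [ho]
      exact hp
    simp_rw [this]
    rw [Finset.sum_const_zero, mul_zero]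
  · rw [regPart_of_not_dvd _ hp, Cfsg.Agent.Lib.Helper75_Induced.indFun_apply]
    congr 1
    refine Finset.sum_congr rfl fun t _ => ?_
    rw [extendByZero_regPart, regPart_of_not_dvd]
    rw [ho]
    exact hp

/-- If `θ` lies under `χ` and `F` is a `G`-invariant function on `N`, then
`[F, χ_N] = (χ(1)/θ(1)) [F, θ]`. -/
theorem classInner_restrict_of_under (χ : IrrCharacter G) (θ : IrrCharacter N)
    (hθ : classInner (fun n : N => (χ : G → ℂ) n) (θ : N → ℂ) ≠ 0) (F : N → ℂ)
    (hF : ∀ t : G, cj N t F = F) :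
    classInner F (fun n : N => (χ : G → ℂ) n) =
      (χ : G → ℂ) 1 / (θ : N → ℂ) 1 * classInner F (θ : N → ℂ) := by
  classical
  have hF' : ∀ t : G, cj N t (fun n => conj (F n)) = fun n => conj (F n) := by
    intro t
    funext n
    have := congrFun (hF t) n
    rw [cj_apply] at this ⊢
    show conj (F _) = conj (F n)
    rw [this]
  have h := sum_mul_char_eq N (χ : G → ℂ) (θ : N → ℂ)
    ((Cfsg.Agent.S0963.result N χ θ).mp hθ) (fun n => conj (F n)) hF'
  obtain ⟨a, _, ha⟩ := irr_one_eq_natCast χ.2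
  obtain ⟨b, hb0, hb⟩ := irr_one_eq_natCast θ.2
  have h2 := congrArg conj h
  rw [map_div₀, map_div₀, map_sum, map_sum, ha, hb, Complex.conj_natCast, Complex.conj_natCast]
    at h2
  simp_rw [map_mul, Complex.conj_conj] at h2
  unfold classInner
  rw [ha, hb]
  have hb' : (b : ℂ) ≠ 0 := by exact_mod_cast hb0.ne'
  have ha' : (a : ℂ) ≠ 0 := by
    rw [← ha]
    exact Cfsg.Agent.Lib.Helper78_CentralChar.isIrrCharacter_one_ne_zero χ.2
  rw [div_eq_div_iff ha' hb'] at h2
  field_simp
  linear_combination h2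

theorem under_linking (hM : IsPModular p M) {B : Set (IrrCharacter G)} (hB : IsPBlock M B)
    (θ : IrrCharacter N) (hθ : θ ∈ under N B) (ψ : IrrCharacter N) (hψ : ψ ∉ under N B) :
    ∑ t : G, classInner (regPart p (cj N t (θ : N → ℂ))) (ψ : N → ℂ) = 0 := by
  classical
  by_contra hne
  obtain ⟨χ₁, hχ₁, hχθ⟩ := hθ
  have hne' : ∑ t : G, classInner (regPart p (cj N t (ψ : N → ℂ))) (θ : N → ℂ) ≠ 0 := by
    intro h
    apply hne
    rw [sum_regInner_cj_symm, h, map_zero]
  -- the invariant function `F`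
  set F : N → ℂ := ∑ t : G, cj N t (regPart p (ψ : N → ℂ)) with hFdef
  have hFinv : ∀ s : G, cj N s F = F := by
    intro s
    rw [hFdef, cj_sum]
    simp_rw [← cj_mul]
    exact Equiv.sum_comp (Equiv.mulLeft s) (fun t => cj N t (regPart p (ψ : N → ℂ)))
  have hFθ : classInner F (θ : N → ℂ) ≠ 0 := by
    rw [hFdef, classInner_sum_left]
    simp_rw [← regPart_cj]
    exact hne'
  have hχ₁c := isClassFunction_of_isIrrCharacter χ₁.2
  -- `X = [(ψ^G)°, χ₁] ≠ 0`
  have hX : classInner (regPart p (indFun N (ψ : N → ℂ))) (χ₁ : G → ℂ) ≠ 0 := by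
    rw [regPart_indFun, Cfsg.Agent.Lib.Helper75_Induced.frobenius_reciprocity N _ _ hχ₁c]
    have h1 : classInner F (fun n : N => (χ₁ : G → ℂ) n) =
        (Nat.card G : ℂ) * classInner (regPart p (ψ : N → ℂ)) (fun n : N => (χ₁ : G → ℂ) n) := by
      rw [hFdef, classInner_sum_left]
      have : ∀ t : G, classInner (cj N t (regPart p (ψ : N → ℂ)))
          (fun n : N => (χ₁ : G → ℂ) n) =
          classInner (regPart p (ψ : N → ℂ)) (fun n : N => (χ₁ : G → ℂ) n) := by
        intro t
        conv_lhs => rw [← cj_restrict N hχ₁c t]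
        rw [classInner_cj]
      simp_rw [this]
      rw [Finset.sum_const, Finset.card_univ, nsmul_eq_mul, Nat.card_eq_fintype_card]
    have h2 := classInner_restrict_of_under N χ₁ θ hχθ F hFinv
    rw [h1] at h2
    intro h0
    rw [h0, mul_zero] at h2
    have h3 : (χ₁ : G → ℂ) 1 / (θ : N → ℂ) 1 ≠ 0 :=
      div_ne_zero (Cfsg.Agent.Lib.Helper78_CentralChar.isIrrCharacter_one_ne_zero χ₁.2)
        (Cfsg.Agent.Lib.Helper78_CentralChar.isIrrCharacter_one_ne_zero θ.2)
    exact (mul_ne_zero h3 hFθ) h2.symm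
  -- but `X = 0` since no member of `B` lies over `ψ`
  apply hX
  have hcl : IsClassFunction G (indFun N (ψ : N → ℂ)) :=
    Cfsg.Agent.Lib.Helper75_Induced.isClassFunction_indFun N _
  conv_lhs => rw [classFunction_eq_sum _ hcl]
  rw [regPart_sum, classInner_sum_left]
  refine Finset.sum_eq_zero fun χ _ => ?_
  rw [regPart_smul, classInner_smul_left]
  by_cases hχ : χ ∈ B
  · have h1 : classInner (indFun N (ψ : N → ℂ)) (χ : G → ℂ) = 0 := by
      rw [Cfsg.Agent.Lib.Helper75_Induced.frobenius_reciprocity N _ _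
        (isClassFunction_of_isIrrCharacter χ.2)]
      by_contra h
      apply hψ
      refine ⟨χ, hχ, ?_⟩
      intro h0
      apply h
      rw [← classInner_conj_symm, h0, map_zero]
    rw [h1, zero_mul]
  · have h1 : classInner (regPart p (χ : G → ℂ)) (χ₁ : G → ℂ) = 0 := by
      rw [← regInner_symm, regInner_eq_zero_of_not_mem hM hB hχ₁ hχ, map_zero]
    rw [h1, mul_zero]

/-- **Every member of a covered block lies under the covering block.** -/
theorem exists_over_of_covers (hM : IsPModular p M) {B : Set (IrrCharacter G)}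
    (hB : IsPBlock M B) {b : Set (IrrCharacter N)} (hb : IsPBlock M b)
    (hcov : ∃ χ ∈ B, ∃ θ ∈ b, classInner (fun n : N => (χ : G → ℂ) n) (θ : N → ℂ) ≠ 0)
    (θ : IrrCharacter N) (hθ : θ ∈ b) :
    ∃ χ ∈ B, classInner (fun n : N => (χ : G → ℂ) n) (θ : N → ℂ) ≠ 0 := by
  have hMp := isPrime_of_isPModular hM
  obtain ⟨χ₀, hχ₀, θ₀, hθ₀, h0⟩ := hcov
  have hmem : θ₀ ∈ under N B := ⟨χ₀, hχ₀, h0⟩
  have hclosed := sameBlock_closed_of_linking N hM (under N B) (under_stable N B)
    (fun θ' hθ' ψ hψ => under_linking N hM hB θ' hθ' ψ hψ)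
  exact hclosed θ₀ hmem θ (isPBlock_sameBlock hMp hb hθ₀ hθ)

end Cfsg.Agent.Lib.Helper57_CoverUnder
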