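import Mathlib
import Cfsg.Agent.Lib.Helper74_PQuot
import Cfsg.Agent.Lib.Helper16_Cover
import Cfsg.Agent.Lib.Helper75_CanonExt
import Cfsg.Agent.Lib.Helper75_Gallagher
import Cfsg.Agent.Lib.Helper79_CharVals
import Cfsg.Agent.Lib.Helper80_CharBasic
import Cfsg.Agent.S4106
import Cfsg.Agent.S0856

/-!
# Extensions of characters from a normal subgroup of `p`-power index (helper76)

* `lin_mul_cancel`: Gallagher cancellation `β * c = β' * c → β = β'`;
* `res_mem_principalBlock`, `ext_mem_principalBlock`: principal blocks of `G` and of a normal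
  subgroup (of `p`-power index for the second);
* `coprime_of_pow_hyp`: an exponent acting as `1 + p` on `p`-elements and trivially on
  `p'`-elements is coprime to the group order;
* `lin_pow_of_trivial`: `β (g ^ k) = β g ^ (1 + p)` for linear `β` trivial on `N ⊇ O^p(G)`;
* `card_linP`: for `G / N` cyclic, nontrivial of `p`-power order, exactly `p` linear characters
  of `G` trivial on `N` have `β ^ p = 1`.
-/

set_option autoImplicit false
set_option linter.unusedSectionVars false

namespace Cfsg.Agent.Lib.Helper76_ResidualExt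

open Cfsg
open scoped ComplexConjugate
open Cfsg.Agent.Lib.Helper3_CharBridge Cfsg.Agent.Lib.Helper3_CharOrtho
  Cfsg.Agent.Lib.Helper75_LinChar Cfsg.Agent.Lib.Helper75_Induced
  Cfsg.Agent.Lib.Helper80_CharBasic Cfsg.Agent.Lib.Helper78_LocalRing

universe u

section gallagher

variable {G : Type u} [Group G] [Finite G]

/-- Gallagher cancellation: if `c ∈ Irr G` restricts irreducibly to `N ⊴ G` and `β`, `β'` are
linear characters trivial on `N` with `β * c = β' * c`, then `β = β'`. -/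
theorem lin_mul_cancel (N : Subgroup G) [hN : N.Normal] {β β' c : G → ℂ} (hβ : IsLin G β)
    (hβ' : IsLin G β') (hβN : ∀ n : N, β n = 1) (hβ'N : ∀ n : N, β' n = 1)
    (hc : IsIrrCharacter G c) (hcN : IsIrrCharacter N (fun n : N => c n))
    (h : β * c = β' * c) : β = β' := by
  classical
  have := Fintype.ofFinite G
  have := Fintype.ofFinite N
  have hone : IsIrrCharacter N (fun _ : N => (1 : ℂ)) := isIrrCharacter_one N
  have hprodeq : (fun _ : N => (1 : ℂ)) * (fun n : N => c n) = fun n : N => c n := by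
    funext n; simp
  have hcc : IsClassFunction G c := isClassFunction_of_isIrrCharacter hc
  have hbij := Cfsg.Agent.S0856.result N (fun _ => 1) (fun n : N => c n) hone hcN
    (fun _ _ => rfl) (fun g n => hcc n g) (by rw [hprodeq]; exact hcN) c hc (fun _ => rfl)
  have hmem : ∀ b : G → ℂ, IsLin G b → (∀ n : N, b n = 1) →
      b ∈ {β : G → ℂ | IsIrrCharacter G β ∧
        classInner (indFun N (fun _ : N => (1 : ℂ))) β ≠ 0} := by
    intro b hb hbN
    refine ⟨hb.irr, ?_⟩
    rw [frobenius_reciprocity N _ b (isClassFunction_of_isIrrCharacter hb.irr)]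
    have h1 : (fun h : N => b h) = fun _ => 1 := funext hbN
    rw [h1, classInner_self_of_isIrrCharacter hone]
    exact one_ne_zero
  exact hbij.injOn (hmem β hβ hβN) (hmem β' hβ' hβ'N) h

end gallagher

section blocks

variable {G : Type u} [Group G] [Finite G] {p : ℕ} {M : Ideal AlgInt}

theorem isPBlock_principalBlock (H : Type u) [Group H] : IsPBlock M (principalBlock M H) :=
  ⟨oneIrr H, rfl⟩

theorem oneIrr_mem_principalBlock (hM : M.IsPrime) (H : Type u) [Group H] :
    oneIrr H ∈ principalBlock M H :=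
  sameBlock_refl hM _

/-- An irreducible restriction of a member of the principal block of `G` to a normal subgroup
lies in the principal block of the subgroup. -/
theorem res_mem_principalBlock (hM : M.IsPrime) (N : Subgroup G) [hN : N.Normal]
    (χ : IrrCharacter G) (hχ : χ ∈ principalBlock M G) (ψ : IrrCharacter N)
    (hψ : (ψ : N → ℂ) = fun n : N => (χ : G → ℂ) n) : ψ ∈ principalBlock M N := by
  classical
  have := Fintype.ofFinite G
  have := Fintype.ofFinite N
  have h1 : classInner (fun n : N => ((oneIrr G : IrrCharacter G) : G → ℂ) n)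
      ((oneIrr N : IrrCharacter N) : N → ℂ) ≠ 0 := by
    have h2 : (fun n : N => ((oneIrr G : IrrCharacter G) : G → ℂ) n) =
        ((oneIrr N : IrrCharacter N) : N → ℂ) := rfl
    rw [h2, classInner_self_of_isIrrCharacter (oneIrr N).2]
    exact one_ne_zero
  have h3 : classInner (fun n : N => (χ : G → ℂ) n) (ψ : N → ℂ) ≠ 0 := by
    rw [← hψ, classInner_self_of_isIrrCharacter ψ.2]
    exact one_ne_zero
  have h4 := Cfsg.Agent.Lib.Helper16_Cover.mem_gClosure_of_sameBlock N hM
    (isPBlock_principalBlock (M := M) N) (χ := oneIrr G) (χ' := χ) hχ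
    (Cfsg.Agent.Lib.Helper16_Cover.subset_gClosure N _ (oneIrr_mem_principalBlock hM N)) h1 h3
  obtain ⟨x, θ, hθ, hx⟩ := h4
  have h5 := Cfsg.Agent.Lib.Helper16_Cover.sameBlock_cj N x
    (φ := fun _ : N => (1 : ℂ)) (φ' := (θ : N → ℂ)) hθ
  rw [← hx] at h5
  exact h5

/-- An extension to `G` of a member of the principal block of a normal subgroup of `p`-power
index lies in the principal block of `G`. -/
theorem ext_mem_principalBlock [Fact p.Prime] (hM : IsPModular p M) (N : Subgroup G)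
    [hN : N.Normal] {k : ℕ} (hidx : N.index = p ^ k) (θ : IrrCharacter N)
    (hθ : θ ∈ principalBlock M N) (χ : IrrCharacter G)
    (hres : ∀ n : N, (χ : G → ℂ) n = (θ : N → ℂ) n) : χ ∈ principalBlock M G := by
  classical
  have := Fintype.ofFinite G
  have := Fintype.ofFinite N
  have hMp := isPrime_of_isPModular hM
  have h1 : classInner (fun n : N => ((oneIrr G : IrrCharacter G) : G → ℂ) n)
      ((oneIrr N : IrrCharacter N) : N → ℂ) ≠ 0 := by
    have h2 : (fun n : N => ((oneIrr G : IrrCharacter G) : G → ℂ) n) =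
        ((oneIrr N : IrrCharacter N) : N → ℂ) := rfl
    rw [h2, classInner_self_of_isIrrCharacter (oneIrr N).2]
    exact one_ne_zero
  have h3 : classInner (fun n : N => (χ : G → ℂ) n) (θ : N → ℂ) ≠ 0 := by
    have h4 : (fun n : N => (χ : G → ℂ) n) = (θ : N → ℂ) := funext hres
    rw [h4, classInner_self_of_isIrrCharacter θ.2]
    exact one_ne_zero
  exact Cfsg.Agent.Lib.Helper16_Cover.mem_of_cover N hM hidx
    (B := principalBlock M G) (isPBlock_principalBlock (M := M) G)
    (χ := oneIrr G) (χ' := χ) (oneIrr_mem_principalBlock hMp G)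
    (θ := oneIrr N) (θ' := θ) hθ h1 h3

end blocks

section powers

variable {G : Type u} [Group G] [Finite G]

/-- An exponent acting as `1 + p` on `p`-elements and trivially on `p'`-elements is coprime to
the group order. -/
theorem coprime_of_pow_hyp (p : ℕ) (hp : p.Prime) (k : ℕ)
    (hk₁ : ∀ g : G, (∃ j : ℕ, orderOf g = p ^ j) → g ^ k = g ^ (1 + p))
    (hk₂ : ∀ g : G, Nat.Coprime (orderOf g) p → g ^ k = g) : k.Coprime (Nat.card G) := by
  apply Nat.Coprime.symm
  apply Nat.coprime_of_dvd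
  intro q hq hqG hqk
  have := Fintype.ofFinite G
  have : Fact q.Prime := ⟨hq⟩
  obtain ⟨g, hg⟩ := exists_prime_orderOf_dvd_card' q hqG
  have hmod : k ≡ 1 [MOD q] := by
    by_cases hqp : q = p
    · have h1 := hk₁ g ⟨1, by rw [hg, hqp, pow_one]⟩
      rw [pow_eq_pow_iff_modEq, hg] at h1
      have h2 : 1 + p ≡ 1 [MOD q] := by
        rw [hqp]
        simp [Nat.ModEq]
      exact h1.trans h2
    · have h1 := hk₂ g (by rw [hg]; exact (Nat.coprime_primes hq hp).mpr hqp)
      have h2 : g ^ k = g ^ 1 := by rw [h1, pow_one]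
      rw [pow_eq_pow_iff_modEq, hg] at h2
      exact h2
  have h3 : k ≡ 0 [MOD q] := (Nat.modEq_zero_iff_dvd).mpr hqk
  have h4 : (1 : ℕ) ≡ 0 [MOD q] := hmod.symm.trans h3
  have h5 : q ∣ 1 := (Nat.modEq_zero_iff_dvd).mp h4
  exact hq.one_lt.ne' (Nat.dvd_one.mp h5)

/-- For a linear character `β` trivial on a normal subgroup `N` containing all `p'`-elements,
`β (g ^ k) = β g ^ (1 + p)`. -/
theorem lin_pow_of_trivial (p : ℕ) (hp : p.Prime) (N : Subgroup G)
    (hN : ∀ g : G, Nat.Coprime (orderOf g) p → g ∈ N) (k : ℕ)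
    (hk₁ : ∀ g : G, (∃ j : ℕ, orderOf g = p ^ j) → g ^ k = g ^ (1 + p))
    (hk₂ : ∀ g : G, Nat.Coprime (orderOf g) p → g ^ k = g) {β : G → ℂ} (hβ : IsLin G β)
    (hβN : ∀ n : N, β n = 1) (g : G) : β (g ^ k) = β g ^ (1 + p) := by
  obtain ⟨u, y, huy, hu, hy, ⟨j, huj⟩, hyc⟩ :=
    Cfsg.Agent.S4106.exists_decomp p hp g (isOfFinOrder_of_finite g)
  have hcomm : Commute u y := by
    obtain ⟨a, rfl⟩ := Subgroup.mem_zpowers_iff.mp hu
    obtain ⟨b, rfl⟩ := Subgroup.mem_zpowers_iff.mp hy
    exact (Commute.refl g).zpow_zpow a b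
  have hyN : β y = 1 := hβN ⟨y, hN y hyc⟩
  have hykN : β (y ^ k) = 1 := by rw [hk₂ y hyc, hyN]
  have huord : ∃ i : ℕ, orderOf u = p ^ i := by
    have h1 : orderOf u ∣ p ^ j := orderOf_dvd_of_pow_eq_one huj
    obtain ⟨i, -, hi⟩ := (Nat.dvd_prime_pow hp).mp h1
    exact ⟨i, hi⟩
  rw [← huy, hcomm.mul_pow, hβ.map_mul, hykN, mul_one, hk₁ u huord, hβ.map_pow, hβ.map_mul, hyN,
    mul_one]

end powers

section count

variable {G : Type u} [Group G] [Finite G]

/-- The linear characters of `G` trivial on `N` with `β ^ p = 1`. -/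
abbrev LinP (N : Subgroup G) (p : ℕ) : Type u :=
  {β : G → ℂ // IsLin G β ∧ (∀ n : N, β n = 1) ∧ ∀ g : G, β g ^ p = 1}

/-- If `G / N` is a nontrivial cyclic `p`-group, exactly `p` linear characters of `G` trivial on
`N` have `p`-th power `1`. -/
theorem card_linP (p : ℕ) [Fact p.Prime] (N : Subgroup G) [hNn : N.Normal]
    (hcyc : IsCyclic (G ⧸ N)) (hpq : IsPGroup p (G ⧸ N)) (hnt : N ≠ ⊤) :
    Nat.card (LinP N p) = p := by
  classical
  have hp : p.Prime := Fact.out
  have : NeZero p := ⟨hp.ne_zero⟩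
  obtain ⟨q, hq⟩ := hcyc.exists_generator
  obtain ⟨g₀, rfl⟩ := QuotientGroup.mk_surjective q
  have hord : orderOf (QuotientGroup.mk g₀ : G ⧸ N) = Nat.card (G ⧸ N) :=
    orderOf_eq_card_of_forall_mem_zpowers hq
  have hpdvd : p ∣ orderOf (QuotientGroup.mk g₀ : G ⧸ N) := by
    rw [hord]
    obtain ⟨m, hm⟩ := IsPGroup.iff_card.mp hpq
    rw [hm]
    apply dvd_pow_self
    rintro rfl
    rw [pow_zero] at hm
    exact hnt (Subgroup.index_eq_one.mp hm)
  -- every element is a power of `g₀` times an element of `N`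
  have hdec : ∀ x : G, ∃ j : ℕ, ∃ n : N, x = g₀ ^ j * (n : G) := by
    intro x
    have hx := hq (QuotientGroup.mk x)
    rw [← mem_powers_iff_mem_zpowers] at hx
    obtain ⟨j, hj⟩ := hx
    have h1 : (QuotientGroup.mk (g₀ ^ j) : G ⧸ N) = QuotientGroup.mk x := by
      rw [QuotientGroup.mk_pow]
      exact hj
    have h2 : (g₀ ^ j)⁻¹ * x ∈ N := QuotientGroup.eq.mp h1
    exact ⟨j, ⟨_, h2⟩, by simp⟩
  let Φ : LinP N p → rootsOfUnity p ℂ := fun β =>
    ⟨Units.mk0 (β.1 g₀) (β.2.1.ne_zero g₀), by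
      rw [mem_rootsOfUnity]
      apply Units.ext
      simp [β.2.2.2 g₀]⟩
  have hΦ : ∀ β : LinP N p, (((Φ β : rootsOfUnity p ℂ) : ℂˣ) : ℂ) = β.1 g₀ := fun β => rfl
  have hinj : Function.Injective Φ := by
    intro β β' h
    have h1 : β.1 g₀ = β'.1 g₀ := by rw [← hΦ β, ← hΦ β', h]
    apply Subtype.ext
    funext x
    obtain ⟨j, n, rfl⟩ := hdec x
    rw [β.2.1.map_mul, β'.2.1.map_mul, β.2.1.map_pow, β'.2.1.map_pow, β.2.2.1 n, β'.2.2.1 n, h1]
  have hsurj : Function.Surjective Φ := by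
    intro ζ
    have hζ : (ζ : ℂˣ) ^ p = 1 := (mem_rootsOfUnity p _).mp ζ.2
    have hdvd : orderOf (ζ : ℂˣ) ∣ orderOf (QuotientGroup.mk g₀ : G ⧸ N) :=
      (orderOf_dvd_of_pow_eq_one hζ).trans hpdvd
    let φ : G ⧸ N →* ℂˣ := monoidHomOfForallMemZpowers hq hdvd
    have hφ : φ (QuotientGroup.mk g₀) = (ζ : ℂˣ) := monoidHomOfForallMemZpowers_apply_gen hq hdvd
    let f : G →* ℂ := (Units.coeHom ℂ).comp (φ.comp (QuotientGroup.mk' N))
    have hf : ∀ x : G, f x = ((φ (QuotientGroup.mk x) : ℂˣ) : ℂ) := fun x => rfl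
    have hφp : ∀ y : G ⧸ N, φ y ^ p = 1 := by
      intro y
      have hy := hq y
      rw [← mem_powers_iff_mem_zpowers] at hy
      obtain ⟨j, rfl⟩ := hy
      rw [map_pow, hφ, ← pow_mul, mul_comm, pow_mul, hζ, one_pow]
    refine ⟨⟨fun x => f x, isLin_of_hom f, ?_, ?_⟩, ?_⟩
    · intro n
      show f (n : G) = 1
      rw [hf, (QuotientGroup.eq_one_iff (n : G)).mpr n.2, map_one, Units.val_one]
    · intro x
      show f x ^ p = 1
      rw [hf, ← Units.val_pow_eq_pow_val, hφp, Units.val_one]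
    · apply Subtype.ext
      apply Units.ext
      rw [hΦ]
      show f g₀ = _
      rw [hf, hφ]
  rw [Nat.card_congr (Equiv.ofBijective Φ ⟨hinj, hsurj⟩), Complex.card_rootsOfUnity p]

end count

end Cfsg.Agent.Lib.Helper76_ResidualExt
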