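import Mathlib
import Cfsg.Agent.Lib.Helper57_IndBlock
import Cfsg.Agent.Lib.Helper57_CoverUnder
import Cfsg.Agent.Lib.Helper78_BrauerMap
import Cfsg.Agent.Lib.Helper78_InducedTrans
import Cfsg.Agent.Lib.Helper80_RelDegree
import Cfsg.Agent.Lib.Helper76_ResidualExt

/-!
# Principal blocks: induction from overgroups of `P C_G(P)` and characters of `p'`-degree
lying over a given character (helper76)

* `over_trans`: transitivity of "lying over" along group homomorphisms;
* `principal_induces_of_le`: if `P ≤ H` is a `p`-subgroup with `C_G(P) ≤ H`, the principal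
  block of `H` induces the principal block of `G`;
* `exists_pprime_of_induced`: if `b` induces `B` and `ψ ∈ b` with `p ∤ [G:H] ψ(1)`, some
  `χ ∈ B` of degree prime to `p` is a constituent of `ψ^G`;
* `exists_over_pprime`: for `Y ⊴ X` of index prime to `p` and `η` in the principal block of `Y`
  of degree prime to `p`, some `ψ` in the principal block of `X` of degree prime to `p` lies
  over `η`.
-/

set_option autoImplicit false
set_option linter.unusedSectionVars false

namespace Cfsg.Agent.Lib.Helper76_PrincipalOver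

open Cfsg
open scoped ComplexConjugate
open Cfsg.Agent.Lib.Helper3_CharBridge Cfsg.Agent.Lib.Helper3_CharOrtho
  Cfsg.Agent.Lib.Helper3_CharComplete
  Cfsg.Agent.Lib.Helper75_CharArith Cfsg.Agent.Lib.Helper57_BrauerFeit
  Cfsg.Agent.Lib.Helper78_LocalRing Cfsg.Agent.Lib.Helper77_BlockBasics
  Cfsg.Agent.Lib.Helper78_Osima Cfsg.Agent.Lib.Helper78_CharFacts
  Cfsg.Agent.Lib.Helper75_Induced Cfsg.Agent.Lib.Helper75_IndChar
  Cfsg.Agent.Lib.Helper57_IndBlock

/-- Transitivity of "lying over" along homomorphisms `K → H → G`. -/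
theorem over_trans {G H K : Type*} [Group G] [Group H] [Group K] [Fintype H] [Fintype K]
    (g : H →* G) (f : K →* H) {χ : G → ℂ} (hχ : IsCharacter G χ)
    (ψ : IrrCharacter H) (θ : IrrCharacter K)
    (h1 : classInner (fun h : H => χ (g h)) (ψ : H → ℂ) ≠ 0)
    (h2 : classInner (fun k : K => (ψ : H → ℂ) (f k)) (θ : K → ℂ) ≠ 0) :
    classInner (fun k : K => χ (g (f k))) (θ : K → ℂ) ≠ 0 := by
  classical
  obtain ⟨m, hm, hsum⟩ := exists_multiplicities (isCharacter_comp g hχ)
  have hn : ∀ ψ' : IrrCharacter H, ∃ n : ℕ,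
      classInner (fun k : K => (ψ' : H → ℂ) (f k)) (θ : K → ℂ) = n := fun ψ' =>
    classInner_isCharacter_nat (isCharacter_comp f (isCharacter_of_isIrrCharacter ψ'.2))
      (isCharacter_of_isIrrCharacter θ.2)
  choose n hn using hn
  have hfun : (fun k : K => χ (g (f k))) =
      ∑ ψ' : IrrCharacter H, (m ψ' : ℂ) • (fun k : K => (ψ' : H → ℂ) (f k)) := by
    funext k
    have := congrFun hsum (f k)
    rw [Finset.sum_apply] at this
    rw [Finset.sum_apply]
    simpa using this
  rw [hfun, classInner_sum_left]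
  have hterm : ∀ ψ' : IrrCharacter H,
      classInner ((m ψ' : ℂ) • (fun k : K => (ψ' : H → ℂ) (f k))) (θ : K → ℂ) =
        ((m ψ' * n ψ' : ℕ) : ℂ) := by
    intro ψ'
    rw [classInner_smul_left, hn ψ']
    push_cast
    ring
  rw [Finset.sum_congr rfl fun ψ' _ => hterm ψ', ← Nat.cast_sum]
  rw [Nat.cast_ne_zero]
  have hmψ : m ψ ≠ 0 := by
    intro h0
    apply h1
    rw [hm ψ, h0, Nat.cast_zero]
  have hnψ : n ψ ≠ 0 := by
    intro h0
    apply h2
    rw [hn ψ, h0, Nat.cast_zero]
  intro hzero
  have := (Finset.sum_eq_zero_iff.mp hzero) ψ (Finset.mem_univ _)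
  exact (Nat.mul_ne_zero hmψ hnψ) this


section induces

universe u
variable {G : Type u} [Group G] [Finite G] {p : ℕ} {M : Ideal AlgInt}

theorem isPBlock_principal (H : Type u) [Group H] : IsPBlock M (principalBlock M H) :=
  ⟨Cfsg.Agent.Lib.Helper80_CharBasic.oneIrr H, rfl⟩

/-- The number of elements of `H` conjugate in `G` to `g`, and the class size of `g`, are
congruent modulo `p` when `H` contains a `p`-subgroup `P` together with its centralizer. -/
theorem memLocalIdeal_induced_one_sub (hM : IsPModular p M) (H P : Subgroup G)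
    (hP : IsPGroup p P) (hPH : P ≤ H) (hCH : Subgroup.centralizer (P : Set G) ≤ H) (g : G) :
    MemLocalIdeal M (inducedCentralChar H (fun _ : H => (1 : ℂ)) g -
      centralChar (fun _ : G => (1 : ℂ)) g) := by
  classical
  have := Fintype.ofFinite G
  have := Fintype.ofFinite H
  have hMp := isPrime_of_isPModular hM
  set F1 : G → ℂ := classIndicator g with hF1
  set F2 : G → ℂ := fun x => if x ∈ H then classIndicator g x else 0 with hF2
  have hF1inv : ∀ q ∈ P, ∀ x : G, F1 (q * x * q⁻¹) = F1 x := fun q _ x =>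
    classIndicator_isClassFunction g x q
  have hF2inv : ∀ q ∈ P, ∀ x : G, F2 (q * x * q⁻¹) = F2 x := by
    intro q hq x
    have hqH : q ∈ H := hPH hq
    have hiff : q * x * q⁻¹ ∈ H ↔ x ∈ H := by
      constructor
      · intro h
        have := H.mul_mem (H.mul_mem (H.inv_mem hqH) h) hqH
        simpa [mul_assoc] using this
      · intro h
        exact H.mul_mem (H.mul_mem hqH h) (H.inv_mem hqH)
    simp only [hF2, hiff, classIndicator_isClassFunction g x q]
  have hR1 : ∀ x, MemLocalRing M (F1 x) := fun x => memLocalRing_classIndicator hMp g x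
  have hR2 : ∀ x, MemLocalRing M (F2 x) := by
    intro x
    simp only [hF2]
    split_ifs
    · exact memLocalRing_classIndicator hMp g x
    · exact memLocalRing_zero hMp
  have e1 := Cfsg.Agent.Lib.Helper78_BrauerMap.sum_sub_sum_centralizer_mem P hP hM F1 hF1inv hR1
  have e2 := Cfsg.Agent.Lib.Helper78_BrauerMap.sum_sub_sum_centralizer_mem P hP hM F2 hF2inv hR2
  have hcent : ∑ x ∈ Finset.univ.filter
        (fun x : G => x ∈ Subgroup.centralizer (P : Set G)), F2 x =
      ∑ x ∈ Finset.univ.filter (fun x : G => x ∈ Subgroup.centralizer (P : Set G)), F1 x := by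
    refine Finset.sum_congr rfl fun x hx => ?_
    have hxC : x ∈ Subgroup.centralizer (P : Set G) := (Finset.mem_filter.mp hx).2
    simp only [hF2, if_pos (hCH hxC), hF1]
  rw [hcent] at e2
  have e3 := memLocalIdeal_sub hMp e2 e1
  have hsum1 : ∑ x, F1 x = centralChar (fun _ : G => (1 : ℂ)) g := by
    have h := omega_classIndicator (χ := fun _ : G => (1 : ℂ)) (fun _ _ => rfl) g
    rw [← h]
    unfold omega
    simp only [mul_one, div_one]
    rfl
  have hsum2 : ∑ x, F2 x = inducedCentralChar H (fun _ : H => (1 : ℂ)) g := by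
    rw [← Cfsg.Agent.Lib.Helper78_InducedTrans.omega_restrict_classIndicator H
      (fun _ : H => (1 : ℂ)) g]
    unfold omega
    simp only [mul_one, div_one]
    have h1 : ∑ x, F2 x = ∑ x ∈ Finset.univ.filter (fun x : G => x ∈ H), classIndicator g x := by
      rw [Finset.sum_filter]
    rw [h1]
    exact Finset.sum_subtype _ (fun x => by simp) _
  rw [hsum1, hsum2] at e3
  have e4 : inducedCentralChar H (fun _ : H => (1 : ℂ)) g -
      ∑ x ∈ Finset.univ.filter (fun x : G => x ∈ Subgroup.centralizer (P : Set G)), F1 x -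
      (centralChar (fun _ : G => (1 : ℂ)) g -
      ∑ x ∈ Finset.univ.filter (fun x : G => x ∈ Subgroup.centralizer (P : Set G)), F1 x) =
      inducedCentralChar H (fun _ : H => (1 : ℂ)) g -
      centralChar (fun _ : G => (1 : ℂ)) g := by ring
  rw [← e4]
  exact e3

/-- If `P ≤ H` is a `p`-subgroup with `C_G(P) ≤ H`, the principal block of `H` induces the
principal block of `G`. -/
theorem principal_induces_of_le (hM : IsPModular p M) (H P : Subgroup G)
    (hP : IsPGroup p P) (hPH : P ≤ H) (hCH : Subgroup.centralizer (P : Set G) ≤ H) :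
    IsInducedBlock M H (principalBlock M H) (principalBlock M G) := by
  classical
  have := Fintype.ofFinite G
  have := Fintype.ofFinite H
  have hMp := isPrime_of_isPModular hM
  refine ⟨isPBlock_principal H, isPBlock_principal G, fun ξ hξ χ hχ g => ?_⟩
  -- step 1: replace `ξ` by the trivial character of `H`
  have a1 : MemLocalIdeal M (inducedCentralChar H (ξ : H → ℂ) g -
      inducedCentralChar H (fun _ : H => (1 : ℂ)) g) := by
    rw [← Cfsg.Agent.Lib.Helper78_InducedTrans.omega_restrict_classIndicator H (ξ : H → ℂ) g,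
      ← Cfsg.Agent.Lib.Helper78_InducedTrans.omega_restrict_classIndicator H
        (fun _ : H => (1 : ℂ)) g]
    refine memLocalIdeal_omega_sub hMp (isClassFunction_of_isIrrCharacter ξ.2)
      (fun _ _ => rfl) (sameBlock_symm hξ) ?_ ?_
    · intro x h
      exact classIndicator_isClassFunction g (x : G) (h : G)
    · intro x
      exact memLocalRing_classIndicator hMp g (x : G)
  have a2 := memLocalIdeal_induced_one_sub hM H P hP hPH hCH g
  have a3 : MemLocalIdeal M (centralChar (fun _ : G => (1 : ℂ)) g -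
      centralChar (χ : G → ℂ) g) := hχ g
  have a4 := memLocalIdeal_add hMp (memLocalIdeal_add hMp a1 a2) a3
  have e : inducedCentralChar H (ξ : H → ℂ) g - inducedCentralChar H (fun _ : H => (1 : ℂ)) g +
      (inducedCentralChar H (fun _ : H => (1 : ℂ)) g - centralChar (fun _ : G => (1 : ℂ)) g) +
      (centralChar (fun _ : G => (1 : ℂ)) g - centralChar (χ : G → ℂ) g) =
      inducedCentralChar H (ξ : H → ℂ) g - centralChar (χ : G → ℂ) g := by ring
  rwa [e] at a4

end induces

section fin

universe u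
variable {G : Type u} [Group G] [Fintype G] {p : ℕ} {M : Ideal AlgInt}

/-- If `b` induces `B` and `ψ ∈ b` has `p ∤ [G:H] ψ(1)`, then some `χ ∈ B` of degree prime to `p`
is a constituent of `ψ^G`. -/
theorem exists_pprime_of_induced [Fact p.Prime] (hM : IsPModular p M) (H : Subgroup G)
    [Fintype H]
    {b : Set (IrrCharacter H)} {B : Set (IrrCharacter G)} (hind : IsInducedBlock M H b B)
    (ψ : IrrCharacter H) (hψ : ψ ∈ b) (hidx : ¬ p ∣ H.index)
    (hdeg : ¬ p ∣ charDegree (ψ : H → ℂ)) :
    ∃ χ ∈ B, ¬ p ∣ charDegree (χ : G → ℂ) ∧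
      classInner (indFun H (ψ : H → ℂ)) (χ : G → ℂ) ≠ 0 := by
  classical
  have hp : p.Prime := Fact.out
  obtain ⟨n, hn, h1, -⟩ := factorization_blockPart_indFun hM H hind hψ hind.2.1
  obtain ⟨hn0, hnfac⟩ := h1 rfl
  rw [charDegree_indFun] at hnfac
  have hpn : ¬ p ∣ n := by
    intro hd
    have h2 : 1 ≤ n.factorization p :=
      (hp.dvd_iff_one_le_factorization hn0).mp hd
    have h3 : (H.index * charDegree (ψ : H → ℂ)).factorization p = 0 := by
      apply Nat.factorization_eq_zero_of_not_dvd
      intro h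
      rcases hp.dvd_mul.mp h with h | h
      · exact hidx h
      · exact hdeg h
    omega
  have hch := isCharacter_indFun H (isCharacter_of_isIrrCharacter ψ.2)
  have hm : ∀ χ : IrrCharacter G, ∃ m : ℕ,
      classInner (indFun H (ψ : H → ℂ)) (χ : G → ℂ) = m := fun χ =>
    classInner_isCharacter_nat hch (isCharacter_of_isIrrCharacter χ.2)
  choose m hm using hm
  by_contra hcon
  push Not at hcon
  apply hpn
  have hsum : (n : ℂ) = ((∑ χ ∈ bset B, m χ * charDegree (χ : G → ℂ) : ℕ) : ℂ) := by
    rw [← hn, blockPart_apply]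
    push_cast
    refine Finset.sum_congr rfl fun χ _ => ?_
    rw [hm χ, apply_one_eq_charDegree]
  have hsum' : n = ∑ χ ∈ bset B, m χ * charDegree (χ : G → ℂ) := by exact_mod_cast hsum
  rw [hsum']
  refine Finset.dvd_sum fun χ hχ => ?_
  by_cases hmz : m χ = 0
  · rw [hmz, zero_mul]
    exact dvd_zero _
  · by_contra hnd
    have hnd' : ¬ p ∣ charDegree (χ : G → ℂ) := fun h => hnd (Dvd.dvd.mul_left h _)
    have := hcon χ (mem_bset.mp hχ) hnd'
    apply hmz
    have h5 : (m χ : ℂ) = 0 := by rw [← hm χ]; exact this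
    exact_mod_cast h5


/-- For `Y ⊴ X` of index prime to `p` and `η` in the principal block of `Y` of degree prime to
`p`, some `ψ` in the principal block of `X` of degree prime to `p` lies over `η`. -/
theorem exists_over_pprime [Fact p.Prime] (hM : IsPModular p M) (Y : Subgroup G) [hY : Y.Normal]
    [Fintype Y] (hidx : ¬ p ∣ Y.index) (η : IrrCharacter Y) (hη : η ∈ principalBlock M Y)
    (hdeg : ¬ p ∣ charDegree (η : Y → ℂ)) :
    ∃ ψ ∈ principalBlock M G, ¬ p ∣ charDegree (ψ : G → ℂ) ∧
      classInner (fun y : Y => (ψ : G → ℂ) y) (η : Y → ℂ) ≠ 0 := by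
  classical
  have hp : p.Prime := Fact.out
  have hMp := isPrime_of_isPModular hM
  have hcov : ∃ χ ∈ principalBlock M G, ∃ θ ∈ principalBlock M Y,
      classInner (fun n : Y => (χ : G → ℂ) n) (θ : Y → ℂ) ≠ 0 := by
    refine ⟨Cfsg.Agent.Lib.Helper80_CharBasic.oneIrr G,
      Cfsg.Agent.Lib.Helper76_ResidualExt.oneIrr_mem_principalBlock hMp G,
      Cfsg.Agent.Lib.Helper80_CharBasic.oneIrr Y,
      Cfsg.Agent.Lib.Helper76_ResidualExt.oneIrr_mem_principalBlock hMp Y, ?_⟩
    have h2 : (fun n : Y => ((Cfsg.Agent.Lib.Helper80_CharBasic.oneIrr G : IrrCharacter G) :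
        G → ℂ) n) = ((Cfsg.Agent.Lib.Helper80_CharBasic.oneIrr Y : IrrCharacter Y) : Y → ℂ) := rfl
    rw [h2, classInner_self_of_isIrrCharacter (Cfsg.Agent.Lib.Helper80_CharBasic.oneIrr Y).2]
    exact one_ne_zero
  obtain ⟨ψ, hψ, hover⟩ := Cfsg.Agent.Lib.Helper57_CoverUnder.exists_over_of_covers Y hM
    (isPBlock_principal (M := M) G) (isPBlock_principal (M := M) Y) hcov η hη
  refine ⟨ψ, hψ, ?_, hover⟩
  obtain ⟨e, he, hediv⟩ := Cfsg.Agent.Lib.Helper80_RelDegree.rel_degree_dvd Y (ψ : G → ℂ) ψ.2
    (η : Y → ℂ) η.2 hover (charDegree (ψ : G → ℂ)) (charDegree (η : Y → ℂ))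
    (apply_one_eq_charDegree ψ) (apply_one_eq_charDegree η)
  rw [he]
  intro h
  rcases hp.dvd_mul.mp h with h | h
  · exact hidx (dvd_trans h hediv)
  · exact hdeg h

end fin


end Cfsg.Agent.Lib.Helper76_PrincipalOver
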