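import Mathlib
import Cfsg.Prelude.Def_Characters
import Cfsg.Prelude.Def_Blocks
import Cfsg.Agent.Lib.Helper76_GalConj
import Cfsg.Agent.Lib.Helper76_PrincipalOver
import Cfsg.Agent.Lib.Helper75_Induced
import Cfsg.Agent.Lib.Helper75_IndChar
import Cfsg.Agent.Lib.Helper75_LinChar
import Cfsg.Agent.Lib.Helper75_CharArith
import Cfsg.Agent.Lib.Helper75_Clifford
import Cfsg.Agent.Lib.Helper80_CharBasic
import Cfsg.Agent.Lib.Helper3_CharOrtho

/-!
# Kernels of irreducible characters of `p'`-degree, part 1 (helper76)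

Basic tools: constituents of degree prime to `p`, translation by kernel elements, and the fact
that the intersection of the kernels of the `p'`-degree irreducible characters meets a Sylow
`p`-subgroup `P` inside `P'`.
-/

set_option autoImplicit false
set_option linter.unusedSectionVars false
open scoped ComplexConjugate
open scoped commutatorElement

namespace Cfsg.Agent.Lib.Helper76_KerPPrime

open Cfsg
open Cfsg.Agent.Lib.Helper3_CharBridge Cfsg.Agent.Lib.Helper3_CharOrtho
open Cfsg.Agent.Lib.Helper76_GalConj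

variable {G : Type*} [Group G]

/-- Translation by an element of the kernel does not change the character value. -/
theorem irr_mul_of_mem_kerC (χ : IrrCharacter G) {x : G} (hx : x ∈ kerC χ) (y : G) :
    (χ : G → ℂ) (x * y) = (χ : G → ℂ) y := by
  unfold kerC at hx
  have hspec := χ.2.choose_spec.choose_spec
  rw [MonoidHom.mem_ker] at hx
  have e : ∀ g, (χ : G → ℂ) g = (χ.2.choose_spec.choose).character g :=
    fun g => (congrFun hspec.2 g).symm
  have hmul : (χ.2.choose_spec.choose) (x * y) = (χ.2.choose_spec.choose) y := by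
    rw [map_mul, hx, one_mul]
  rw [e, e]
  show LinearMap.trace ℂ _ ((χ.2.choose_spec.choose) (x * y)) =
    LinearMap.trace ℂ _ ((χ.2.choose_spec.choose) y)
  rw [hmul]

/-- A character whose degree is not divisible by `p` has an irreducible constituent whose degree
is not divisible by `p`. -/
theorem exists_constituent_not_dvd [Fintype G] (p : ℕ) {φ : G → ℂ} (hφ : IsCharacter G φ)
    (a : ℕ) (ha : φ 1 = a) (hpa : ¬ p ∣ a) :
    ∃ χ : IrrCharacter G, classInner φ (χ : G → ℂ) ≠ 0 ∧ ¬ p ∣ charDegree (χ : G → ℂ) := by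
  classical
  obtain ⟨m, hm, hsum⟩ := Cfsg.Agent.Lib.Helper75_CharArith.exists_multiplicities hφ
  by_contra hcon
  push Not at hcon
  apply hpa
  have h1 : (a : ℂ) = ((∑ χ : IrrCharacter G, m χ * charDegree (χ : G → ℂ) : ℕ) : ℂ) := by
    rw [← ha]
    conv_lhs => rw [hsum]
    rw [Finset.sum_apply]
    push_cast
    apply Finset.sum_congr rfl
    intro χ _
    rw [Pi.smul_apply, smul_eq_mul, irr_one_eq_charDegree]
  have h2 : a = ∑ χ : IrrCharacter G, m χ * charDegree (χ : G → ℂ) := by exact_mod_cast h1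
  rw [h2]
  apply Finset.dvd_sum
  intro χ _
  by_cases h0 : m χ = 0
  · rw [h0, zero_mul]; exact dvd_zero p
  · have h3 : classInner φ (χ : G → ℂ) ≠ 0 := by
      rw [hm χ]; exact_mod_cast h0
    exact Dvd.dvd.mul_left (hcon χ h3) _

/-- If the trivial character is a constituent of `χ|_N` (`N` normal), then `N ≤ ker χ`. -/
theorem le_kerC_of_one_constituent [Finite G] (N : Subgroup G) [hN : N.Normal] [Fintype N]
    (χ : IrrCharacter G)
    (h : classInner (fun n : N => (χ : G → ℂ) n) (fun _ : N => (1 : ℂ)) ≠ 0) : N ≤ kerC χ := by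
  classical
  let _ : Fintype G := Fintype.ofFinite G
  have h1 : IsIrrCharacter N (fun _ : N => (1 : ℂ)) :=
    (Cfsg.Agent.Lib.Helper80_CharBasic.oneIrr N).2
  have hcl := Cfsg.Agent.Lib.Helper75_Clifford.clifford N hN χ.2 h1 h
  have hset : {ψ : N → ℂ | ∃ g : G, ψ =
      Cfsg.Agent.Lib.Helper75_Clifford.conjFun N hN (fun _ : N => (1 : ℂ)) g} =
      {fun _ : N => (1 : ℂ)} := by
    ext ψ
    simp only [Set.mem_ofPred_eq, Set.mem_singleton_iff]
    constructor
    · rintro ⟨g, rfl⟩; rfl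
    · intro hψ; exact ⟨1, hψ⟩
  rw [hset, finsum_mem_singleton] at hcl
  intro n hn
  rw [mem_kerC]
  have e1 := congrFun hcl ⟨n, hn⟩
  have e2 := congrFun hcl 1
  simp only [Cfsg.Agent.Lib.Helper75_Clifford.res_apply, Pi.smul_apply, smul_eq_mul, mul_one,
    Subgroup.coe_one] at e1 e2
  rw [e1, e2]

/-- If `N ≤ ker χ`, the restriction `χ|_N` is the constant `χ(1)`. -/
theorem res_eq_const_of_le_kerC [Finite G] (N : Subgroup G) (χ : IrrCharacter G)
    (h : N ≤ kerC χ) : (fun n : N => (χ : G → ℂ) n) = fun _ : N => (χ : G → ℂ) 1 := by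
  funext n
  exact (mem_kerC χ n).mp (h n.2)

/-- If `N ≤ ker χ`, then `χ|_N` has no nontrivial irreducible constituent. -/
theorem classInner_res_eq_zero_of_le_kerC [Finite G] (N : Subgroup G) [Fintype N]
    (χ : IrrCharacter G) (h : N ≤ kerC χ) (θ : IrrCharacter N)
    (hθ : θ ≠ Cfsg.Agent.Lib.Helper80_CharBasic.oneIrr N) :
    classInner (fun n : N => (χ : G → ℂ) n) (θ : N → ℂ) = 0 := by
  rw [res_eq_const_of_le_kerC N χ h]
  have e : (fun _ : N => (χ : G → ℂ) 1) = (χ : G → ℂ) 1 • (fun _ : N => (1 : ℂ)) := by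
    funext n; simp
  rw [e, classInner_smul_left]
  have h0 : classInner (fun _ : N => (1 : ℂ)) (θ : N → ℂ) = 0 := by
    apply classInner_of_isIrrCharacter_of_ne (Cfsg.Agent.Lib.Helper80_CharBasic.oneIrr N).2 θ.2
    intro hh
    apply hθ
    apply Subtype.ext
    exact hh.symm
  rw [h0, mul_zero]

/-- An element of the Sylow `p`-subgroup `P` lying in the kernel of every irreducible character
of degree prime to `p` lies in `P'`. -/
theorem mem_commutator_of_mem_kernels [Finite G] (p : ℕ) [Fact p.Prime] (P : Sylow p G) {x : G}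
    (hxP : x ∈ (P : Subgroup G))
    (hx : ∀ χ : IrrCharacter G, ¬ p ∣ charDegree (χ : G → ℂ) → x ∈ kerC χ) :
    x ∈ ⁅(P : Subgroup G), (P : Subgroup G)⁆ := by
  classical
  let _ : Fintype G := Fintype.ofFinite G
  let _ : Fintype (P : Subgroup G) := Fintype.ofFinite _
  by_contra hxc
  have hxc' : (⟨x, hxP⟩ : (P : Subgroup G)) ∉ commutator (P : Subgroup G) := by
    intro h
    apply hxc
    rw [← Subgroup.map_subtype_commutator]
    exact ⟨⟨x, hxP⟩, h, rfl⟩
  obtain ⟨f, hf⟩ := exists_hom_ne_one hxc'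
  set lam : ↥(P : Subgroup G) → ℂ := fun y => ((f y : ℂˣ) : ℂ) with hlam
  have hlin : Cfsg.Agent.Lib.Helper75_LinChar.IsLin (P : Subgroup G) lam :=
    Cfsg.Agent.Lib.Helper75_LinChar.isLin_of_hom ((Units.coeHom ℂ).comp f)
  have hirr : IsIrrCharacter (P : Subgroup G) lam := hlin.irr
  have hΦ : IsCharacter G (indFun (P : Subgroup G) lam) :=
    Cfsg.Agent.Lib.Helper75_IndChar.isCharacter_indFun _ hlin.1
  have hdeg : indFun (P : Subgroup G) lam 1 = ((P : Subgroup G).index : ℂ) := by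
    rw [Cfsg.Agent.Lib.Helper75_Induced.indFun_one, hlin.2, mul_one,
      ← Subgroup.card_mul_index (P : Subgroup G)]
    have hP0 : (Nat.card (P : Subgroup G) : ℂ) ≠ 0 := by
      rw [Nat.cast_ne_zero]; exact Nat.card_pos.ne'
    push_cast
    field_simp
  obtain ⟨χ, hχ1, hχ2⟩ := exists_constituent_not_dvd p hΦ _ hdeg P.not_dvd_index
  have hxk := hx χ hχ2
  rw [Cfsg.Agent.Lib.Helper75_Induced.frobenius_reciprocity (P : Subgroup G) lam (χ : G → ℂ)
    (isClassFunction_of_isIrrCharacter χ.2)] at hχ1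
  unfold classInner at hχ1
  have hS : ∑ y : (P : Subgroup G), lam y * conj ((χ : G → ℂ) y) ≠ 0 := by
    intro h0
    apply hχ1
    rw [h0, mul_zero]
  have hshift : ∑ y : (P : Subgroup G), lam y * conj ((χ : G → ℂ) y) =
      lam ⟨x, hxP⟩ * ∑ y : (P : Subgroup G), lam y * conj ((χ : G → ℂ) y) := by
    rw [Finset.mul_sum]
    symm
    apply Fintype.sum_equiv (Equiv.mulLeft (⟨x, hxP⟩ : (P : Subgroup G)))
    intro y
    simp only [Equiv.coe_mulLeft]
    rw [hlin.map_mul, Subgroup.coe_mul, irr_mul_of_mem_kerC χ hxk, mul_assoc]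
  have h1 : lam ⟨x, hxP⟩ = 1 := by
    have h2 : (lam ⟨x, hxP⟩ - 1) * ∑ y : (P : Subgroup G), lam y * conj ((χ : G → ℂ) y) = 0 := by
      rw [sub_mul, one_mul, ← hshift, sub_self]
    rcases mul_eq_zero.mp h2 with h3 | h3
    · exact sub_eq_zero.mp h3
    · exact absurd h3 hS
  apply hf
  rw [hlam] at h1
  exact Units.ext h1

/-- For `χ` of degree prime to `p`, the sum of `χ` over `P'` does not vanish: `χ|_P` has a
linear constituent, which is trivial on `P'`. -/
theorem classInner_res_commutator_ne_zero [Finite G] (p : ℕ) [Fact p.Prime] (P : Sylow p G)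
    [Fintype ↥⁅(P : Subgroup G), (P : Subgroup G)⁆]
    (χ : IrrCharacter G) (hχ : ¬ p ∣ charDegree (χ : G → ℂ)) :
    classInner (fun x : ↥⁅(P : Subgroup G), (P : Subgroup G)⁆ => (χ : G → ℂ) x)
      (fun _ => (1 : ℂ)) ≠ 0 := by
  classical
  have hp : p.Prime := Fact.out
  let _ : Fintype (P : Subgroup G) := Fintype.ofFinite _
  have hle : ⁅(P : Subgroup G), (P : Subgroup G)⁆ ≤ (P : Subgroup G) :=
    Subgroup.commutator_le_self _
  -- a linear constituent of `χ|_P`
  have hres : IsCharacter (P : Subgroup G) (fun y : (P : Subgroup G) => (χ : G → ℂ) y) :=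
    Cfsg.Agent.Lib.Helper75_CharArith.isCharacter_restrict _ (isCharacter_of_isIrrCharacter χ.2)
  have hdeg1 : (fun y : (P : Subgroup G) => (χ : G → ℂ) y) 1 = (charDegree (χ : G → ℂ) : ℂ) := by
    show (χ : G → ℂ) ((1 : (P : Subgroup G)) : G) = _
    rw [Subgroup.coe_one, irr_one_eq_charDegree]
  obtain ⟨μ, hμ1, hμ2⟩ := exists_constituent_not_dvd p hres _ hdeg1 hχ
  have hμdeg : charDegree (μ : ↥(P : Subgroup G) → ℂ) = 1 := by
    obtain ⟨j, hj⟩ := charDegree_eq_prime_pow p P.isPGroup' μ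
    rcases Nat.eq_zero_or_pos j with h0 | hpos
    · rw [hj, h0, pow_zero]
    · exfalso; apply hμ2; rw [hj]; exact dvd_pow_self p hpos.ne'
  have hker := commutator_le_kerC_of_linear μ hμdeg
  have hμc : (fun k : ↥⁅(P : Subgroup G), (P : Subgroup G)⁆ =>
      (μ : ↥(P : Subgroup G) → ℂ) (Subgroup.inclusion hle k)) = fun _ => (1 : ℂ) := by
    funext k
    have hk : Subgroup.inclusion hle k ∈ commutator (P : Subgroup G) := by
      have h1 : (k : G) ∈ (commutator (P : Subgroup G)).map (P : Subgroup G).subtype := by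
        rw [Subgroup.map_subtype_commutator]; exact k.2
      obtain ⟨y, hy, hyk⟩ := h1
      have : Subgroup.inclusion hle k = y := Subtype.ext hyk.symm
      rw [this]; exact hy
    have h2 := (mem_kerC μ _).mp (hker hk)
    rw [h2, irr_one_eq_charDegree, hμdeg, Nat.cast_one]
  have h2 : classInner (fun k : ↥⁅(P : Subgroup G), (P : Subgroup G)⁆ =>
      (μ : ↥(P : Subgroup G) → ℂ) (Subgroup.inclusion hle k))
      ((Cfsg.Agent.Lib.Helper80_CharBasic.oneIrr ↥⁅(P : Subgroup G), (P : Subgroup G)⁆ :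
        IrrCharacter _) : _ → ℂ) ≠ 0 := by
    rw [hμc]
    have e : classInner (fun _ : ↥⁅(P : Subgroup G), (P : Subgroup G)⁆ => (1 : ℂ))
        (fun _ => (1 : ℂ)) = 1 :=
      classInner_self_of_isIrrCharacter (Cfsg.Agent.Lib.Helper80_CharBasic.oneIrr _).2
    show classInner (fun _ : ↥⁅(P : Subgroup G), (P : Subgroup G)⁆ => (1 : ℂ))
      (fun _ => (1 : ℂ)) ≠ 0
    rw [e]
    exact one_ne_zero
  exact Cfsg.Agent.Lib.Helper76_PrincipalOver.over_trans (P : Subgroup G).subtype
    (Subgroup.inclusion hle) (isCharacter_of_isIrrCharacter χ.2) μ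
    (Cfsg.Agent.Lib.Helper80_CharBasic.oneIrr _) hμ1 h2

/-- Sum over a product `N H` with `N` normal and `N ∩ H = 1`. -/
theorem sum_sup_of_disjoint (N H : Subgroup G) [hN : N.Normal] (hNH : N ⊓ H = ⊥)
    [Fintype N] [Fintype H] [Fintype ↥(N ⊔ H)] (f : G → ℂ) :
    ∑ w : ↥(N ⊔ H), f w = ∑ n : N, ∑ h : H, f ((n : G) * h) := by
  classical
  have hmem : ∀ q : N × H, (q.1 : G) * q.2 ∈ N ⊔ H := fun q =>
    (N ⊔ H).mul_mem (le_sup_left (a := N) q.1.2) (le_sup_right (b := H) q.2.2)
  have hbij : Function.Bijective (fun q : N × H => (⟨(q.1 : G) * q.2, hmem q⟩ : ↥(N ⊔ H))) := by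
    constructor
    · rintro ⟨n, h⟩ ⟨n', h'⟩ heq
      have heq' : (n : G) * h = n' * h' := congrArg Subtype.val heq
      have h1 : (n' : G)⁻¹ * n = h' * (h : G)⁻¹ := by
        calc (n' : G)⁻¹ * n = (n' : G)⁻¹ * (n * h) * (h : G)⁻¹ := by group
          _ = (n' : G)⁻¹ * (n' * h') * (h : G)⁻¹ := by rw [heq']
          _ = h' * (h : G)⁻¹ := by group
      have h2 : (n' : G)⁻¹ * n ∈ N ⊓ H := by
        refine ⟨N.mul_mem (N.inv_mem n'.2) n.2, ?_⟩
        rw [h1]; exact H.mul_mem h'.2 (H.inv_mem h.2)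
      rw [hNH, Subgroup.mem_bot] at h2
      have h3 : (n : G) = n' := by
        have := inv_mul_eq_one.mp h2
        exact this.symm
      have h4 : (h : G) = h' := by
        rw [h3] at heq'
        exact mul_left_cancel heq'
      exact Prod.ext (Subtype.ext h3) (Subtype.ext h4)
    · rintro ⟨w, hw⟩
      rw [Subgroup.mem_sup_of_normal_left] at hw
      obtain ⟨n, hn, h, hh, rfl⟩ := hw
      exact ⟨(⟨n, hn⟩, ⟨h, hh⟩), rfl⟩
  rw [← Fintype.sum_prod_type']
  exact (Fintype.sum_bijective _ hbij _ _ (fun q => rfl)).symm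

/-- If `χ` has degree prime to `p` and the normal subgroup `N` (with `P ∩ N = 1`) lies in
`ker χ`, then the normal core of `N P'` lies in `ker χ`. -/
theorem normalCore_le_kerC [Finite G] (p : ℕ) [Fact p.Prime] (P : Sylow p G) (N : Subgroup G)
    [hN : N.Normal] (hNP : (P : Subgroup G) ⊓ N = ⊥) (χ : IrrCharacter G)
    (hχ : ¬ p ∣ charDegree (χ : G → ℂ)) (hNχ : N ≤ kerC χ) :
    (N ⊔ ⁅(P : Subgroup G), (P : Subgroup G)⁆).normalCore ≤ kerC χ := by
  classical
  let _ : Fintype G := Fintype.ofFinite G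
  let _ : Fintype N := Fintype.ofFinite N
  let _ : Fintype ↥⁅(P : Subgroup G), (P : Subgroup G)⁆ := Fintype.ofFinite _
  let _ : Fintype ↥(N ⊔ ⁅(P : Subgroup G), (P : Subgroup G)⁆) := Fintype.ofFinite _
  let _ : Fintype ↥(N ⊔ ⁅(P : Subgroup G), (P : Subgroup G)⁆).normalCore := Fintype.ofFinite _
  set P' : Subgroup G := ⁅(P : Subgroup G), (P : Subgroup G)⁆ with hP'
  set W : Subgroup G := N ⊔ P' with hW
  have hdisj : N ⊓ P' = ⊥ := by
    rw [eq_bot_iff, ← hNP]
    exact le_inf (inf_le_right.trans (Subgroup.commutator_le_self _)) inf_le_left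
  have h0 := classInner_res_commutator_ne_zero p P χ hχ
  -- the sum over `W`
  have hsumW : ∑ w : W, (χ : G → ℂ) w = (Nat.card N : ℂ) * ∑ x : P', (χ : G → ℂ) x := by
    rw [sum_sup_of_disjoint N P' hdisj (χ : G → ℂ)]
    have : ∀ n : N, ∑ h : P', (χ : G → ℂ) ((n : G) * h) = ∑ x : P', (χ : G → ℂ) x := by
      intro n
      apply Finset.sum_congr rfl
      intro h _
      exact irr_mul_of_mem_kerC χ (hNχ n.2) h
    simp_rw [this]
    rw [Finset.sum_const, Finset.card_univ, nsmul_eq_mul, ← Nat.card_eq_fintype_card]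
  have h1 : classInner (fun w : W => (χ : G → ℂ) (W.subtype w))
      ((Cfsg.Agent.Lib.Helper80_CharBasic.oneIrr W : IrrCharacter W) : W → ℂ) ≠ 0 := by
    unfold classInner at h0 ⊢
    show (Nat.card W : ℂ)⁻¹ * ∑ w : W, (χ : G → ℂ) w * conj (1 : ℂ) ≠ 0
    simp only [map_one, mul_one] at h0 ⊢
    rw [hsumW]
    have hW0 : (Nat.card W : ℂ) ≠ 0 := by
      rw [Nat.cast_ne_zero]; exact Nat.card_pos.ne'
    have hN0 : (Nat.card N : ℂ) ≠ 0 := by
      rw [Nat.cast_ne_zero]; exact Nat.card_pos.ne'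
    have hS : ∑ x : P', (χ : G → ℂ) x ≠ 0 := by
      intro hz
      apply h0
      rw [hz, mul_zero]
    exact mul_ne_zero (inv_ne_zero hW0) (mul_ne_zero hN0 hS)
  have hCW : W.normalCore ≤ W := Subgroup.normalCore_le W
  have h2 : classInner (fun k : W.normalCore =>
      ((Cfsg.Agent.Lib.Helper80_CharBasic.oneIrr W : IrrCharacter W) : W → ℂ)
        (Subgroup.inclusion hCW k))
      ((Cfsg.Agent.Lib.Helper80_CharBasic.oneIrr W.normalCore : IrrCharacter _) : _ → ℂ) ≠ 0 := by
    have e : classInner (fun _ : W.normalCore => (1 : ℂ)) (fun _ => (1 : ℂ)) = 1 :=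
      classInner_self_of_isIrrCharacter (Cfsg.Agent.Lib.Helper80_CharBasic.oneIrr _).2
    show classInner (fun _ : W.normalCore => (1 : ℂ)) (fun _ => (1 : ℂ)) ≠ 0
    rw [e]
    exact one_ne_zero
  have h3 := Cfsg.Agent.Lib.Helper76_PrincipalOver.over_trans W.subtype
    (Subgroup.inclusion hCW) (isCharacter_of_isIrrCharacter χ.2)
    (Cfsg.Agent.Lib.Helper80_CharBasic.oneIrr W)
    (Cfsg.Agent.Lib.Helper80_CharBasic.oneIrr W.normalCore) h1 h2
  exact le_kerC_of_one_constituent W.normalCore χ h3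

end Cfsg.Agent.Lib.Helper76_KerPPrime
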