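import Mathlib
import Cfsg.Prelude.Def_Characters
import Cfsg.Agent.Lib.Helper3_CharOrtho
import Cfsg.Agent.Lib.Helper3_CharColumn
import Cfsg.Agent.Lib.Helper3_CharComplete
import Cfsg.Agent.Lib.Helper75_Induced
import Cfsg.Agent.Lib.Helper75_Clifford
import Cfsg.Agent.Lib.Helper76_GalConj
import Cfsg.Agent.Lib.Helper76_KerPPrime
import Cfsg.Agent.Lib.Helper78_PartA
import Cfsg.Agent.Lib.Helper16_BrauerSetup
import Cfsg.Agent.Lib.Helper16_BrauerK

/-!
# General blocks of defect one: the elementary column relation (F1-gen) (helper17)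

`G` finite, `P` a Sylow `p`-subgroup of order `p`, `C = C_G(P)`, `θ ∈ Irr C` with `P ≤ ker θ`.
For `χ ∈ Irr G` and `x ∈ P` put

  `aCoef P θ χ x = (p / |C|) ∑_{c ∈ C p-regular} χ (x c) conj (θ c)`.

`f1_gen`: for `x, x' ∈ P \ 1` and two such characters `θ, θ'`,

  `∑_χ aCoef θ χ x * conj (aCoef θ' χ x') = (p / |C|) #{n : G | n x n⁻¹ = x' ∧ θ'^n = θ}`.

Only column orthogonality in `G` and the `p`-part/`p'`-part decomposition are used.
-/

set_option autoImplicit false
set_option linter.unusedSectionVars false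
open scoped ComplexConjugate

namespace Cfsg.Agent.Lib.Helper17_F1Gen

open Cfsg

section group

variable {G : Type*} [Group G]

/-- The `p`-part of a conjugacy: `g (x c) g⁻¹ = x' c'` with `x, x'` of order `p`, `c, c'` of order
prime to `p` (each commuting pair) forces `g x g⁻¹ = x'`. -/
theorem conj_ppart [Finite G] {p : ℕ} (hp : p.Prime) {g x c x' c' : G} (hxc : Commute x c)
    (hxc' : Commute x' c') (hox : orderOf x = p) (hox' : orderOf x' = p)
    (hc : ¬ p ∣ orderOf c) (hc' : ¬ p ∣ orderOf c') (h : g * (x * c) * g⁻¹ = x' * c') :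
    g * x * g⁻¹ = x' := by
  set m := orderOf c * orderOf c' with hm
  have hcop : Nat.Coprime m p := by
    apply Nat.Coprime.mul_left
    · exact (Nat.Coprime.symm ((Nat.Prime.coprime_iff_not_dvd hp).mpr hc))
    · exact (Nat.Coprime.symm ((Nat.Prime.coprime_iff_not_dvd hp).mpr hc'))
  obtain ⟨m', -, hm'⟩ := Nat.exists_mul_mod_eq_one_of_coprime hcop hp.one_lt
  set a := m * m' with ha
  have hca : c ^ a = 1 := by
    rw [ha, hm, mul_assoc, pow_mul, pow_orderOf_eq_one, one_pow]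
  have hca' : c' ^ a = 1 := by
    rw [ha, hm, mul_comm (orderOf c), mul_assoc, pow_mul, pow_orderOf_eq_one, one_pow]
  have hxa : x ^ a = x := by
    rw [← pow_mod_orderOf, hox, hm', pow_one]
  have hxa' : x' ^ a = x' := by
    rw [← pow_mod_orderOf, hox', hm', pow_one]
  have h1 : (g * (x * c) * g⁻¹) ^ a = (x' * c') ^ a := by rw [h]
  rw [conj_pow, hxc.mul_pow, hxc'.mul_pow, hca, hca', hxa, hxa', mul_one, mul_one] at h1
  exact h1

theorem conj_regpart [Finite G] {p : ℕ} (hp : p.Prime) {g x c x' c' : G} (hxc : Commute x c)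
    (hxc' : Commute x' c') (hox : orderOf x = p) (hox' : orderOf x' = p)
    (hc : ¬ p ∣ orderOf c) (hc' : ¬ p ∣ orderOf c') (h : g * (x * c) * g⁻¹ = x' * c') :
    g * c * g⁻¹ = c' := by
  have h1 := conj_ppart hp hxc hxc' hox hox' hc hc' h
  have h2 : g * (x * c) * g⁻¹ = (g * x * g⁻¹) * (g * c * g⁻¹) := by group
  rw [h2, h1] at h
  exact mul_left_cancel h

theorem orderOf_conj_eq (t c : G) : orderOf (t * c * t⁻¹) = orderOf c := by
  have := MulEquiv.orderOf_eq (MulAut.conj t) c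
  rwa [MulAut.conj_apply] at this

/-- Conjugation by `n` with `n x n⁻¹ ∈ P`, `1 ≠ x ∈ P`, `|P| = p` normalizes `P`. -/
theorem conj_mem_of_conj_gen {p : ℕ} (hp : p.Prime) {P : Subgroup G} (hP : Nat.card P = p)
    {x n : G} (hx : x ∈ P) (hx1 : x ≠ 1) (hnx : n * x * n⁻¹ ∈ P) {y : G} (hy : y ∈ P) :
    n * y * n⁻¹ ∈ P := by
  have hz := Cfsg.Agent.Lib.Helper78_PartA.zpowers_eq_of_card_prime hp hP hx hx1
  rw [← hz] at hy
  obtain ⟨k, rfl⟩ := Subgroup.mem_zpowers_iff.mp hy
  rw [← conj_zpow]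
  exact P.zpow_mem hnx k

theorem conj_mem_of_conj_gen' {p : ℕ} (hp : p.Prime) {P : Subgroup G} (hP : Nat.card P = p)
    {x n : G} (hx : x ∈ P) (hx1 : x ≠ 1) (hnx : n * x * n⁻¹ ∈ P) {y : G} (hy : y ∈ P) :
    n⁻¹ * y * n ∈ P := by
  have hnx1 : n * x * n⁻¹ ≠ 1 := by
    intro h
    apply hx1
    have : x = n⁻¹ * (n * x * n⁻¹) * n := by group
    rw [this, h]; group
  have h2 : n⁻¹ * (n * x * n⁻¹) * n⁻¹⁻¹ ∈ P := by
    have : n⁻¹ * (n * x * n⁻¹) * n⁻¹⁻¹ = x := by group
    rw [this]; exact hx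
  have := conj_mem_of_conj_gen hp hP hnx hnx1 h2 hy
  rwa [inv_inv] at this

/-- Such an `n` normalizes the centralizer of `P`. -/
theorem conj_mem_centralizer {p : ℕ} (hp : p.Prime) {P : Subgroup G} (hP : Nat.card P = p)
    {x n : G} (hx : x ∈ P) (hx1 : x ≠ 1) (hnx : n * x * n⁻¹ ∈ P) {c : G}
    (hc : c ∈ Subgroup.centralizer (P : Set G)) :
    n * c * n⁻¹ ∈ Subgroup.centralizer (P : Set G) := by
  rw [Subgroup.mem_centralizer_iff]
  intro y hy
  have hy' : n⁻¹ * y * n ∈ P := conj_mem_of_conj_gen' hp hP hx hx1 hnx hy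
  have h1 := Subgroup.mem_centralizer_iff.mp hc _ hy'
  have h2 : y * (n * c * n⁻¹) = n * ((n⁻¹ * y * n) * c) * n⁻¹ := by group
  have h3 : n * c * n⁻¹ * y = n * (c * (n⁻¹ * y * n)) * n⁻¹ := by group
  rw [h2, h3, h1]

end group


section column

variable {G : Type*} [Group G] [Fintype G]

/-- Column orthogonality, counting form. -/
theorem column_count [DecidableEq G] (g h : G) :
    ∑ χ : IrrCharacter G, (χ : G → ℂ) g * conj ((χ : G → ℂ) h) =
      ∑ t : G, if t * g * t⁻¹ = h then (1 : ℂ) else 0 := by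
  classical
  rw [Cfsg.Agent.Lib.Helper3_CharColumn.column_orthogonality g h]
  split_ifs with hc
  · obtain ⟨t₀, ht₀⟩ := isConj_iff.mp hc
    rw [← Equiv.sum_comp (Equiv.mulLeft t₀)]
    have h1 : ∀ z : G, (if (Equiv.mulLeft t₀ z) * g * (Equiv.mulLeft t₀ z)⁻¹ = h then (1 : ℂ)
        else 0) = if z ∈ Subgroup.centralizer ({g} : Set G) then 1 else 0 := by
      intro z
      have h2 : ((Equiv.mulLeft t₀ z) * g * (Equiv.mulLeft t₀ z)⁻¹ = h) ↔
          z ∈ Subgroup.centralizer ({g} : Set G) := by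
        rw [Equiv.coe_mulLeft, Subgroup.mem_centralizer_iff]
        constructor
        · intro h3 y hy
          rw [Set.mem_singleton_iff.mp hy]
          rw [← ht₀] at h3
          have h4 : t₀ * z * g * (t₀ * z)⁻¹ = t₀ * (z * g * z⁻¹) * t₀⁻¹ := by group
          rw [h4] at h3
          have h5 : z * g * z⁻¹ = g := by
            have := mul_left_cancel (mul_right_cancel h3)
            exact this
          calc g * z = (z * g * z⁻¹) * z := by rw [h5]
            _ = z * g := by group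
        · intro h3
          have h5 := h3 g (Set.mem_singleton g)
          rw [← ht₀]
          have h4 : t₀ * z * g * (t₀ * z)⁻¹ = t₀ * ((z * g) * z⁻¹) * t₀⁻¹ := by group
          rw [h4, ← h5]
          group
      by_cases h6 : z ∈ Subgroup.centralizer ({g} : Set G)
      · rw [if_pos h6, if_pos (h2.mpr h6)]
      · rw [if_neg h6, if_neg (fun h7 => h6 (h2.mp h7))]
    simp_rw [h1]
    rw [Finset.sum_boole, Nat.card_eq_fintype_card, Fintype.card_subtype]
  · symm
    apply Finset.sum_eq_zero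
    intro t _
    rw [if_neg]
    intro h1
    exact hc (isConj_iff.mpr ⟨t, h1⟩)

end column


section structureC

variable {G : Type*} [Group G] [Fintype G] {p : ℕ} [hp : Fact p.Prime] (P : Sylow p G)

/-- A `P`-invariant function on `C = C_G(P)` sums to `p` times its sum over the `p`-regular
elements of `C`. -/
theorem sum_centralizer_eq (hP : Nat.card P = p)
    [Fintype ↥(Subgroup.centralizer ((P : Subgroup G) : Set G))]
    (F : ↥(Subgroup.centralizer ((P : Subgroup G) : Set G)) → ℂ)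
    (hF : ∀ y c : ↥(Subgroup.centralizer ((P : Subgroup G) : Set G)),
      (y : G) ∈ (P : Subgroup G) → F (y * c) = F c) :
    ∑ c : ↥(Subgroup.centralizer ((P : Subgroup G) : Set G)), F c =
      (p : ℂ) * ∑ c : ↥(Subgroup.centralizer ((P : Subgroup G) : Set G)),
        if p ∣ orderOf (c : G) then 0 else F c := by
  classical
  obtain ⟨V, hVc, hVp, hC, hcard⟩ := Cfsg.Agent.Lib.Helper16_BrauerSetup.exists_compl P hP
  have hPC := Cfsg.Agent.Lib.Helper16_BrauerSetup.le_centralizer P hP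
  have : Fintype ↥(P : Subgroup G) := Fintype.ofFinite _
  have : Fintype ↥V := Fintype.ofFinite _
  let e : ↥(P : Subgroup G) × ↥V → ↥(Subgroup.centralizer ((P : Subgroup G) : Set G)) :=
    fun hv => ⟨(hv.1 : G) * (hv.2 : G), Subgroup.mul_mem _ (hPC hv.1.2) (hVc hv.2.2)⟩
  have hsurj : Function.Surjective e := by
    intro c
    obtain ⟨h, hh, v, hv, hcv⟩ := hC c c.2
    exact ⟨(⟨h, hh⟩, ⟨v, hv⟩), Subtype.ext hcv.symm⟩
  have hbij : Function.Bijective e := by
    rw [Fintype.bijective_iff_surjective_and_card]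
    refine ⟨hsurj, ?_⟩
    rw [Fintype.card_prod, ← Nat.card_eq_fintype_card, ← Nat.card_eq_fintype_card,
      ← Nat.card_eq_fintype_card, hcard]
    congr 1
  have hreg : ∀ hv : ↥(P : Subgroup G) × ↥V, p ∣ orderOf ((e hv : _) : G) ↔ hv.1 ≠ 1 := by
    intro hv
    have hcomm : Commute (hv.1 : G) (hv.2 : G) :=
      (Subgroup.mem_centralizer_iff.mp (hVc hv.2.2) _ hv.1.2)
    have hov : (orderOf (hv.2 : G)).Coprime p :=
      Nat.Coprime.coprime_dvd_left (Subgroup.orderOf_dvd_natCard V hv.2.2) hVp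
    constructor
    · intro hdvd h1
      have : ((e hv : _) : G) = (hv.2 : G) := by
        show (hv.1 : G) * (hv.2 : G) = hv.2
        rw [h1, OneMemClass.coe_one, one_mul]
      rw [this] at hdvd
      exact (Nat.Prime.coprime_iff_not_dvd hp.out).mp hov.symm hdvd
    · intro h1
      have h1' : (hv.1 : G) ≠ 1 := fun h => h1 (Subtype.ext h)
      have hoh := Cfsg.Agent.Lib.Helper78_PartA.orderOf_eq_of_card_prime hp.out hP hv.1.2 h1'
      have hmul : orderOf ((hv.1 : G) * (hv.2 : G)) = orderOf (hv.1 : G) * orderOf (hv.2 : G) := by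
        apply hcomm.orderOf_mul_eq_mul_orderOf_of_coprime
        rw [hoh]
        exact hov.symm
      show p ∣ orderOf ((hv.1 : G) * (hv.2 : G))
      rw [hmul, hoh]
      exact Dvd.intro _ rfl
  have hFe : ∀ hv : ↥(P : Subgroup G) × ↥V, F (e hv) = F (e (1, hv.2)) := by
    intro hv
    have h1 : e hv = (⟨(hv.1 : G), hPC hv.1.2⟩ : ↥(Subgroup.centralizer ((P : Subgroup G) : Set G))) *
        e (1, hv.2) := by
      apply Subtype.ext
      show (hv.1 : G) * (hv.2 : G) = (hv.1 : G) * (((1 : ↥(P : Subgroup G)) : G) * (hv.2 : G))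
      rw [OneMemClass.coe_one, one_mul]
    rw [h1]
    exact hF _ _ hv.1.2
  rw [← hbij.sum_comp, ← hbij.sum_comp (fun c => if p ∣ orderOf (c : G) then 0 else F c)]
  rw [Fintype.sum_prod_type, Fintype.sum_prod_type]
  have hL : ∀ h : ↥(P : Subgroup G), ∑ v : ↥V, F (e (h, v)) = ∑ v : ↥V, F (e (1, v)) := by
    intro h
    exact Finset.sum_congr rfl (fun v _ => hFe (h, v))
  simp_rw [hL]
  rw [Finset.sum_const, Finset.card_univ, nsmul_eq_mul, ← Nat.card_eq_fintype_card]
  have hPc : Nat.card ↥(P : Subgroup G) = p := hP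
  rw [hPc]
  congr 1
  rw [Finset.sum_eq_single (1 : ↥(P : Subgroup G))]
  · refine Finset.sum_congr rfl (fun v _ => ?_)
    rw [if_neg]
    intro hd
    exact ((hreg (1, v)).mp hd) rfl
  · intro h _ hne
    apply Finset.sum_eq_zero
    intro v _
    rw [if_pos ((hreg (h, v)).mpr hne)]
  · intro h
    exact absurd (Finset.mem_univ _) h

end structureC


section main

variable {G : Type*} [Group G] [Fintype G] {p : ℕ} [hp : Fact p.Prime] (P : Sylow p G)
  [Fintype ↥(Subgroup.centralizer ((P : Subgroup G) : Set G))]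

local notation "CC" => Subgroup.centralizer ((P : Subgroup G) : Set G)

/-- `a(θ, χ, x) = (p / |C|) ∑_{c ∈ C p-regular} χ (x c) conj (θ c)`. -/
noncomputable def aCoef (θ : ↥(Subgroup.centralizer ((P : Subgroup G) : Set G)) → ℂ) (χ : G → ℂ)
    (x : G) : ℂ :=
  ((p : ℂ) / (Nat.card ↥(Subgroup.centralizer ((P : Subgroup G) : Set G)) : ℂ)) *
    ∑ c : ↥(Subgroup.centralizer ((P : Subgroup G) : Set G)),
      if p ∣ orderOf (c : G) then 0 else χ (x * (c : G)) * conj (θ c)

/-- An irreducible character of `C` with `P` in its kernel is invariant under translation by `P`. -/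
theorem irr_mul_of_ker {θ : ↥(Subgroup.centralizer ((P : Subgroup G) : Set G)) → ℂ}
    (hθ : IsIrrCharacter ↥(Subgroup.centralizer ((P : Subgroup G) : Set G)) θ)
    (hker : ∀ c : ↥(Subgroup.centralizer ((P : Subgroup G) : Set G)),
      (c : G) ∈ (P : Subgroup G) → θ c = θ 1)
    (y c : ↥(Subgroup.centralizer ((P : Subgroup G) : Set G))) (hy : (y : G) ∈ (P : Subgroup G)) :
    θ (y * c) = θ c := by
  have h1 : y ∈ Cfsg.Agent.Lib.Helper76_GalConj.kerC (⟨θ, hθ⟩ : IrrCharacter _) := by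
    rw [Cfsg.Agent.Lib.Helper76_GalConj.mem_kerC]
    exact hker y hy
  exact Cfsg.Agent.Lib.Helper76_KerPPrime.irr_mul_of_mem_kerC (⟨θ, hθ⟩ : IrrCharacter _) h1 c

/-- Orthogonality on the `p`-regular elements of `C` for characters with `P` in the kernel. -/
theorem sum_reg_irr (hP : Nat.card P = p)
    {α β : ↥(Subgroup.centralizer ((P : Subgroup G) : Set G)) → ℂ}
    (hα : IsIrrCharacter ↥(Subgroup.centralizer ((P : Subgroup G) : Set G)) α)
    (hβ : IsIrrCharacter ↥(Subgroup.centralizer ((P : Subgroup G) : Set G)) β)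
    (hkα : ∀ c : ↥(Subgroup.centralizer ((P : Subgroup G) : Set G)),
      (c : G) ∈ (P : Subgroup G) → α c = α 1)
    (hkβ : ∀ c : ↥(Subgroup.centralizer ((P : Subgroup G) : Set G)),
      (c : G) ∈ (P : Subgroup G) → β c = β 1) [Decidable (α = β)] :
    (p : ℂ) * ∑ c : ↥(Subgroup.centralizer ((P : Subgroup G) : Set G)),
        (if p ∣ orderOf (c : G) then 0 else α c * conj (β c)) =
      (Nat.card ↥(Subgroup.centralizer ((P : Subgroup G) : Set G)) : ℂ) *
        (if α = β then 1 else 0) := by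
  rw [← sum_centralizer_eq P hP (fun c => α c * conj (β c))]
  · have h1 := Cfsg.Agent.Lib.Helper3_CharOrtho.classInner_irr hα hβ
    unfold Cfsg.classInner at h1
    have hC0 : (Nat.card ↥(Subgroup.centralizer ((P : Subgroup G) : Set G)) : ℂ) ≠ 0 := by
      rw [Nat.cast_ne_zero]; exact Nat.card_pos.ne'
    rw [inv_mul_eq_iff_eq_mul₀ hC0] at h1
    rw [h1]
    congr 1
    split_ifs <;> rfl
  · intro y c hy
    show α (y * c) * conj (β (y * c)) = α c * conj (β c)
    rw [irr_mul_of_ker P hα hkα y c hy, irr_mul_of_ker P hβ hkβ y c hy]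


/-- Conjugation by an element normalizing a subgroup, as an automorphism of the subgroup. -/
noncomputable def conjAut (H : Subgroup G) (t : G) (h : ∀ c ∈ H, t * c * t⁻¹ ∈ H) : ↥H ≃* ↥H :=
  MulEquiv.ofBijective
    ({ toFun := fun c => ⟨t * (c : G) * t⁻¹, h c c.2⟩
       map_one' := by
        apply Subtype.ext
        show t * ((1 : ↥H) : G) * t⁻¹ = ((1 : ↥H) : G)
        rw [OneMemClass.coe_one]; group
       map_mul' := by
        intro a b
        apply Subtype.ext
        show t * ((a * b : ↥H) : G) * t⁻¹ = (t * (a : G) * t⁻¹) * (t * (b : G) * t⁻¹)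
        rw [Subgroup.coe_mul]; group } : ↥H →* ↥H)
    (by
      have hinj : Function.Injective (fun c : ↥H => (⟨t * (c : G) * t⁻¹, h c c.2⟩ : ↥H)) := by
        intro a b hab
        have h1 : t * (a : G) * t⁻¹ = t * (b : G) * t⁻¹ := congrArg Subtype.val hab
        apply Subtype.ext
        exact mul_left_cancel (mul_right_cancel h1)
      exact ⟨hinj, Finite.injective_iff_surjective.mp hinj⟩)

theorem conjAut_apply (H : Subgroup G) (t : G) (h : ∀ c ∈ H, t * c * t⁻¹ ∈ H) (c : ↥H) :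
    ((conjAut H t h c : ↥H) : G) = t * (c : G) * t⁻¹ := rfl


/-- **(F1-gen)**, the elementary column relation for the coefficients `aCoef`. -/
theorem f1_gen (hP : Nat.card P = p)
    {θ θ' : ↥(Subgroup.centralizer ((P : Subgroup G) : Set G)) → ℂ}
    (hθ : IsIrrCharacter ↥(Subgroup.centralizer ((P : Subgroup G) : Set G)) θ)
    (hθ' : IsIrrCharacter ↥(Subgroup.centralizer ((P : Subgroup G) : Set G)) θ')
    (hker : ∀ c : ↥(Subgroup.centralizer ((P : Subgroup G) : Set G)),
      (c : G) ∈ (P : Subgroup G) → θ c = θ 1)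
    (hker' : ∀ c : ↥(Subgroup.centralizer ((P : Subgroup G) : Set G)),
      (c : G) ∈ (P : Subgroup G) → θ' c = θ' 1)
    {x x' : G} (hx : x ∈ (P : Subgroup G)) (hx' : x' ∈ (P : Subgroup G)) (hx1 : x ≠ 1)
    (hx'1 : x' ≠ 1) :
    ∑ χ : IrrCharacter G, aCoef P θ (χ : G → ℂ) x * conj (aCoef P θ' (χ : G → ℂ) x') =
      ((p : ℂ) / (Nat.card ↥(Subgroup.centralizer ((P : Subgroup G) : Set G)) : ℂ)) *
        (Nat.card {n : G // n * x * n⁻¹ = x' ∧
          ∀ (c : G) (hc : c ∈ Subgroup.centralizer ((P : Subgroup G) : Set G))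
            (hc' : n * c * n⁻¹ ∈ Subgroup.centralizer ((P : Subgroup G) : Set G)),
            θ' ⟨n * c * n⁻¹, hc'⟩ = θ ⟨c, hc⟩} : ℂ) := by
  classical
  set κ : ℂ := (p : ℂ) / (Nat.card ↥CC : ℂ) with hκ
  have hκconj : conj κ = κ := by
    rw [hκ, map_div₀, Complex.conj_natCast, Complex.conj_natCast]
  have hC0 : (Nat.card ↥CC : ℂ) ≠ 0 := by
    rw [Nat.cast_ne_zero]; exact Nat.card_pos.ne'
  have hp0 : (p : ℂ) ≠ 0 := by
    rw [Nat.cast_ne_zero]; exact hp.out.ne_zero
  have hox := Cfsg.Agent.Lib.Helper78_PartA.orderOf_eq_of_card_prime hp.out hP hx hx1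
  have hox' := Cfsg.Agent.Lib.Helper78_PartA.orderOf_eq_of_card_prime hp.out hP hx' hx'1
  let w : ↥CC → ℂ := fun c => if p ∣ orderOf (c : G) then 0 else 1
  -- Step 1 : expand the product
  have h1 : ∀ χ : IrrCharacter G, aCoef P θ (χ : G → ℂ) x * conj (aCoef P θ' (χ : G → ℂ) x') =
      κ * κ * ∑ c : ↥CC, ∑ c' : ↥CC, w c * w c' * (conj (θ c) * θ' c') *
        ((χ : G → ℂ) (x * (c : G)) * conj ((χ : G → ℂ) (x' * (c' : G)))) := by
    intro χ
    unfold aCoef
    rw [map_mul, hκconj, map_sum]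
    rw [mul_mul_mul_comm, Finset.sum_mul_sum]
    congr 1
    refine Finset.sum_congr rfl (fun c _ => Finset.sum_congr rfl (fun c' _ => ?_))
    show _ = (if p ∣ orderOf (c : G) then (0 : ℂ) else 1) * (if p ∣ orderOf (c' : G) then (0 : ℂ) else 1) * _ * _
    by_cases hc : p ∣ orderOf (c : G)
    · rw [if_pos hc, if_pos hc]; ring
    · by_cases hc' : p ∣ orderOf (c' : G)
      · rw [if_pos hc', if_pos hc', map_zero]; ring
      · rw [if_neg hc, if_neg hc', if_neg hc, if_neg hc', map_mul, Complex.conj_conj]; ring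
  rw [Finset.sum_congr rfl (fun χ _ => h1 χ)]
  rw [← Finset.mul_sum, Finset.sum_comm]
  -- Step 2 : column orthogonality
  have h2 : ∀ c : ↥CC, ∑ χ : IrrCharacter G, ∑ c' : ↥CC, w c * w c' * (conj (θ c) * θ' c') *
        ((χ : G → ℂ) (x * (c : G)) * conj ((χ : G → ℂ) (x' * (c' : G)))) =
      ∑ t : G, ∑ c' : ↥CC, w c * w c' * (conj (θ c) * θ' c') *
        (if t * (x * (c : G)) * t⁻¹ = x' * (c' : G) then (1 : ℂ) else 0) := by
    intro c
    rw [Finset.sum_comm, Finset.sum_comm (s := (Finset.univ : Finset G))]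
    refine Finset.sum_congr rfl (fun c' _ => ?_)
    rw [← Finset.mul_sum, ← Finset.mul_sum, column_count]
  simp_rw [h2]
  rw [Finset.sum_comm]
  -- Step 4 : the inner sum over c'
  have hnorm : ∀ t : G, t * x * t⁻¹ = x' → ∀ c ∈ CC, t * c * t⁻¹ ∈ CC := by
    intro t ht c hc
    exact conj_mem_centralizer hp.out hP hx hx1 (by rw [ht]; exact hx') hc
  have hcomm : ∀ (y : G), y ∈ (P : Subgroup G) → ∀ c : ↥CC, Commute y (c : G) := by
    intro y hy c
    exact (Subgroup.mem_centralizer_iff.mp c.2 y hy)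
  have h4 : ∀ (t : G) (c : ↥CC), ∑ c' : ↥CC, w c * w c' * (conj (θ c) * θ' c') *
        (if t * (x * (c : G)) * t⁻¹ = x' * (c' : G) then (1 : ℂ) else 0) =
      if t * x * t⁻¹ = x' then
        w c * (conj (θ c) * Cfsg.extendByZero CC θ' (t * (c : G) * t⁻¹)) else 0 := by
    intro t c
    by_cases hc : p ∣ orderOf (c : G)
    · have hw : w c = 0 := if_pos hc
      simp only [hw, zero_mul, Finset.sum_const_zero]
      split_ifs <;> rfl
    have hw : w c = 1 := if_neg hc
    by_cases ht : t * x * t⁻¹ = x'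
    · rw [if_pos ht]
      have hmem : t * (c : G) * t⁻¹ ∈ CC := hnorm t ht c c.2
      rw [Finset.sum_eq_single (⟨t * (c : G) * t⁻¹, hmem⟩ : ↥CC)]
      · have hw' : w ⟨t * (c : G) * t⁻¹, hmem⟩ = 1 := by
          show (if p ∣ orderOf (t * (c : G) * t⁻¹) then (0 : ℂ) else 1) = 1
          rw [orderOf_conj_eq, if_neg hc]
        rw [hw, hw', Cfsg.Agent.Lib.Helper75_Induced.extendByZero_of_mem CC θ' hmem, if_pos]
        · ring
        · show t * (x * (c : G)) * t⁻¹ = x' * (t * (c : G) * t⁻¹)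
          rw [← ht]; group
      · intro c' _ hne
        rw [if_neg, mul_zero]
        intro hcon
        apply hne
        apply Subtype.ext
        show (c' : G) = t * (c : G) * t⁻¹
        have h5 : t * (x * (c : G)) * t⁻¹ = x' * (t * (c : G) * t⁻¹) := by
          rw [← ht]; group
        rw [h5] at hcon
        exact (mul_left_cancel hcon).symm
      · intro h; exact absurd (Finset.mem_univ _) h
    · rw [if_neg ht]
      apply Finset.sum_eq_zero
      intro c' _
      by_cases hc' : p ∣ orderOf (c' : G)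
      · have hw' : w c' = 0 := if_pos hc'
        rw [hw']; ring
      · rw [if_neg, mul_zero]
        intro hcon
        exact ht (conj_ppart hp.out (hcomm x hx c) (hcomm x' hx' c') hox hox' hc hc' hcon)
  simp_rw [h4]
  have h5 : ∀ t : G, ∑ c : ↥CC, (if t * x * t⁻¹ = x' then
        w c * (conj (θ c) * Cfsg.extendByZero CC θ' (t * (c : G) * t⁻¹)) else 0) =
      ((Nat.card ↥CC : ℂ) / (p : ℂ)) * (if (t * x * t⁻¹ = x' ∧
          ∀ (c : G) (hc : c ∈ CC) (hc' : t * c * t⁻¹ ∈ CC), θ' ⟨t * c * t⁻¹, hc'⟩ = θ ⟨c, hc⟩)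
        then 1 else 0) := by
    intro t
    by_cases ht : t * x * t⁻¹ = x'
    · simp only [if_pos ht]
      set α : ↥CC → ℂ := fun c => θ' (conjAut CC t (hnorm t ht) c) with hα
      have hαirr : IsIrrCharacter ↥CC α :=
        Cfsg.Agent.Lib.Helper75_Clifford.isIrrCharacter_comp_equiv (conjAut CC t (hnorm t ht)) hθ'
      have hkα : ∀ c : ↥CC, (c : G) ∈ (P : Subgroup G) → α c = α 1 := by
        intro c hc
        have h6 : ((conjAut CC t (hnorm t ht) c : ↥CC) : G) ∈ (P : Subgroup G) := by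
          rw [conjAut_apply]
          exact conj_mem_of_conj_gen hp.out hP hx hx1 (by rw [ht]; exact hx') hc
        show θ' (conjAut CC t (hnorm t ht) c) = θ' (conjAut CC t (hnorm t ht) 1)
        rw [hker' _ h6, map_one]
      have h7 := sum_reg_irr P hP hαirr hθ hkα hker
      have h8 : ∑ c : ↥CC, w c * (conj (θ c) * Cfsg.extendByZero CC θ' (t * (c : G) * t⁻¹)) =
          ∑ c : ↥CC, (if p ∣ orderOf (c : G) then 0 else α c * conj (θ c)) := by
        refine Finset.sum_congr rfl (fun c _ => ?_)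
        rw [Cfsg.Agent.Lib.Helper75_Induced.extendByZero_of_mem CC θ' (hnorm t ht c c.2)]
        show (if p ∣ orderOf (c : G) then (0 : ℂ) else 1) * _ = _
        by_cases hc : p ∣ orderOf (c : G)
        · rw [if_pos hc, if_pos hc, zero_mul]
        · rw [if_neg hc, if_neg hc, one_mul, mul_comm]
          rfl
      rw [h8]
      have h9 : (α = θ) ↔ ∀ (c : G) (hc : c ∈ CC) (hc' : t * c * t⁻¹ ∈ CC),
          θ' ⟨t * c * t⁻¹, hc'⟩ = θ ⟨c, hc⟩ := by
        constructor
        · intro h c hc hc'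
          have := congrFun h ⟨c, hc⟩
          exact this
        · intro h
          funext c
          exact h c c.2 (hnorm t ht c c.2)
      have h10 : ∑ c : ↥CC, (if p ∣ orderOf (c : G) then 0 else α c * conj (θ c)) =
          ((Nat.card ↥CC : ℂ) / (p : ℂ)) * (if α = θ then 1 else 0) := by
        rw [div_mul_eq_mul_div, eq_div_iff hp0, mul_comm]
        exact h7
      rw [h10]
      congr 1
      by_cases h11 : α = θ
      · rw [if_pos h11, if_pos ⟨ht, h9.mp h11⟩]
      · rw [if_neg h11, if_neg (fun h12 => h11 (h9.mpr h12.2))]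
    · simp only [if_neg ht, Finset.sum_const_zero]
      rw [if_neg (fun h => ht h.1), mul_zero]
  simp_rw [h5]
  rw [← Finset.mul_sum, Finset.sum_boole, ← mul_assoc]
  have h13 : κ * κ * ((Nat.card ↥CC : ℂ) / (p : ℂ)) = κ := by
    rw [hκ]
    field_simp
  rw [h13]
  congr 2
  rw [Nat.card_eq_fintype_card, Fintype.card_subtype]


/-- `p`-regular elements are fixed by `k`-th powers for `k ≡ 1` modulo the `p'`-part of `|G|`. -/
theorem pow_eq_self_of_reg {k : ℕ}
    (hk : k ≡ 1 [MOD Nat.card G / p ^ (Nat.card G).factorization p]) {c : G}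
    (hc : ¬ p ∣ orderOf c) : c ^ k = c := by
  have h1 : orderOf c ∣ Nat.card G := orderOf_dvd_natCard c
  have h2 : orderOf c ∣ Nat.card G / p ^ (Nat.card G).factorization p := by
    have h3 : p ^ (Nat.card G).factorization p * (Nat.card G / p ^ (Nat.card G).factorization p) =
        Nat.card G := Nat.ordProj_mul_ordCompl_eq_self (Nat.card G) p
    rw [← h3] at h1
    have hcop : Nat.Coprime (orderOf c) (p ^ (Nat.card G).factorization p) :=
      Nat.Coprime.pow_right _ (Nat.Coprime.symm ((Nat.Prime.coprime_iff_not_dvd hp.out).mpr hc))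
    exact hcop.dvd_of_dvd_mul_left h1
  have h4 : k ≡ 1 [MOD orderOf c] := hk.of_dvd h2
  have := (pow_eq_pow_iff_modEq (x := c)).mpr h4
  rwa [pow_one] at this

/-- **Galois twist**: `a(θ, χ^(k), x) = a(θ, χ, x^k)` for `x ∈ P` and `k ≡ 1` modulo the
`p'`-part of `|G|`. -/
theorem aCoef_twist (θ : ↥CC → ℂ) (χ : G → ℂ) {k : ℕ}
    (hk : k ≡ 1 [MOD Nat.card G / p ^ (Nat.card G).factorization p]) {x : G}
    (hx : x ∈ (P : Subgroup G)) :
    aCoef P θ (fun g => χ (g ^ k)) x = aCoef P θ χ (x ^ k) := by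
  unfold aCoef
  congr 1
  refine Finset.sum_congr rfl (fun c _ => ?_)
  by_cases hc : p ∣ orderOf (c : G)
  · rw [if_pos hc, if_pos hc]
  · rw [if_neg hc, if_neg hc]
    have hcomm : Commute x (c : G) := Subgroup.mem_centralizer_iff.mp c.2 x hx
    show χ ((x * (c : G)) ^ k) * _ = _
    rw [hcomm.mul_pow, pow_eq_self_of_reg hk hc]

/-- **(F1-gen)**, orbit form: the column sum is `p` if `x'` is conjugate to `x` under the
stabilizer of `θ` (more generally under an element carrying `θ'` to `θ`), and `0` otherwise. -/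
theorem f1_gen' (hP : Nat.card P = p)
    {θ θ' : ↥CC → ℂ} (hθ : IsIrrCharacter ↥CC θ) (hθ' : IsIrrCharacter ↥CC θ')
    (hker : ∀ c : ↥CC, (c : G) ∈ (P : Subgroup G) → θ c = θ 1)
    (hker' : ∀ c : ↥CC, (c : G) ∈ (P : Subgroup G) → θ' c = θ' 1)
    {x x' : G} (hx : x ∈ (P : Subgroup G)) (hx' : x' ∈ (P : Subgroup G)) (hx1 : x ≠ 1)
    (hx'1 : x' ≠ 1)
    [Decidable (∃ n : G, n * x * n⁻¹ = x' ∧ ∀ (c : G) (hc : c ∈ CC) (hc' : n * c * n⁻¹ ∈ CC),
            θ' ⟨n * c * n⁻¹, hc'⟩ = θ ⟨c, hc⟩)] :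
    ∑ χ : IrrCharacter G, aCoef P θ (χ : G → ℂ) x * conj (aCoef P θ' (χ : G → ℂ) x') =
      if (∃ n : G, n * x * n⁻¹ = x' ∧ ∀ (c : G) (hc : c ∈ CC) (hc' : n * c * n⁻¹ ∈ CC),
            θ' ⟨n * c * n⁻¹, hc'⟩ = θ ⟨c, hc⟩) then (p : ℂ) else 0 := by
  rw [f1_gen P hP hθ hθ' hker hker' hx hx' hx1 hx'1]
  have hC0 : (Nat.card ↥CC : ℂ) ≠ 0 := by
    rw [Nat.cast_ne_zero]; exact Nat.card_pos.ne'
  split_ifs with hex
  · obtain ⟨n₀, hn₀, hcond₀⟩ := hex
    have hcard : Nat.card {n : G // n * x * n⁻¹ = x' ∧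
        ∀ (c : G) (hc : c ∈ CC) (hc' : n * c * n⁻¹ ∈ CC), θ' ⟨n * c * n⁻¹, hc'⟩ = θ ⟨c, hc⟩} =
        Nat.card ↥CC := by
      have hcent := Cfsg.Agent.Lib.Helper16_BrauerK.centralizer_singleton_eq P hP hx hx1
      have hclass : ∀ (d e : G) (hd : d ∈ CC) (he : e ∈ CC) (hde : d * e * d⁻¹ ∈ CC),
          θ ⟨d * e * d⁻¹, hde⟩ = θ ⟨e, he⟩ := by
        intro d e hd he hde
        have := Cfsg.Agent.Lib.Helper3_CharBridge.isClassFunction_of_isIrrCharacter hθ
          ⟨e, he⟩ ⟨d, hd⟩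
        exact this
      refine Nat.card_congr (Equiv.symm ?_)
      refine Equiv.ofBijective (fun c : ↥CC => ⟨n₀ * (c : G), ?_, ?_⟩) ⟨?_, ?_⟩
      · have hcx : (c : G) * x * (c : G)⁻¹ = x := by
          have := Subgroup.mem_centralizer_iff.mp c.2 x hx
          rw [← this]; group
        calc n₀ * (c : G) * x * (n₀ * (c : G))⁻¹ = n₀ * ((c : G) * x * (c : G)⁻¹) * n₀⁻¹ := by group
          _ = x' := by rw [hcx, hn₀]
      · intro e he he'
        have h1 : (c : G) * e * (c : G)⁻¹ ∈ CC :=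
          Subgroup.mul_mem _ (Subgroup.mul_mem _ c.2 he) (Subgroup.inv_mem _ c.2)
        have h2 : n₀ * (c : G) * e * (n₀ * (c : G))⁻¹ = n₀ * ((c : G) * e * (c : G)⁻¹) * n₀⁻¹ := by
          group
        have h3 : n₀ * ((c : G) * e * (c : G)⁻¹) * n₀⁻¹ ∈ CC := by rw [← h2]; exact he'
        have h4 : (⟨n₀ * (c : G) * e * (n₀ * (c : G))⁻¹, he'⟩ : ↥CC) =
            ⟨n₀ * ((c : G) * e * (c : G)⁻¹) * n₀⁻¹, h3⟩ := Subtype.ext h2
        rw [h4, hcond₀ _ h1 h3]
        exact hclass (c : G) e c.2 he h1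
      · intro a b hab
        have h1 : n₀ * (a : G) = n₀ * (b : G) := congrArg Subtype.val hab
        exact Subtype.ext (mul_left_cancel h1)
      · rintro ⟨n, hn, hcond⟩
        have h1 : n₀⁻¹ * n ∈ CC := by
          rw [← hcent, Subgroup.mem_centralizer_iff]
          intro y hy
          rw [Set.mem_singleton_iff.mp hy]
          have h2 : n * x * n⁻¹ = n₀ * x * n₀⁻¹ := by rw [hn, hn₀]
          have h3 : x = n⁻¹ * (n₀ * x * n₀⁻¹) * n := by rw [← h2]; group
          calc x * (n₀⁻¹ * n) = n₀⁻¹ * (n₀ * x * n₀⁻¹) * n := by group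
            _ = n₀⁻¹ * (n * x * n⁻¹) * n := by rw [h2]
            _ = n₀⁻¹ * n * x := by group
        refine ⟨⟨n₀⁻¹ * n, h1⟩, ?_⟩
        apply Subtype.ext
        show n₀ * (n₀⁻¹ * n) = n
        group
    rw [hcard, div_mul_cancel₀ _ hC0]
  · have hemp : IsEmpty {n : G // n * x * n⁻¹ = x' ∧
        ∀ (c : G) (hc : c ∈ CC) (hc' : n * c * n⁻¹ ∈ CC), θ' ⟨n * c * n⁻¹, hc'⟩ = θ ⟨c, hc⟩} := by
      constructor
      rintro ⟨n, hn⟩
      exact hex ⟨n, hn⟩
    have h0 := @Nat.card_of_isEmpty _ hemp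
    rw [h0, Nat.cast_zero, mul_zero]

end main

end Cfsg.Agent.Lib.Helper17_F1Gen
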