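import Mathlib
import Cfsg.Prelude.Def_Blocks
import Cfsg.Prelude.Def_BlockRank
import Cfsg.Agent.Lib.Helper77_CentralDefect
import Cfsg.Agent.Lib.Helper77_QuotBlocks
import Cfsg.Agent.Lib.Helper77_WeakOrth
import Cfsg.Agent.Lib.Helper77_BlockBasics
import Cfsg.Agent.Lib.Helper78_LocalRing
import Cfsg.Agent.Lib.Helper78_CentralChar
import Cfsg.Agent.Lib.Helper16_Quot
import Cfsg.Agent.Lib.Helper3_CharEigen
import Cfsg.Agent.S4808
import Cfsg.Agent.S0914
import Cfsg.Agent.Lib.Helper78_MinMax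
import Cfsg.Agent.Lib.Helper78_FirstMainGT
import Cfsg.Agent.Lib.Helper16_Vanish
import Cfsg.Agent.Lib.Helper16_BlockOrth
import Cfsg.Agent.Lib.Helper80_CharBasic

set_option autoImplicit false

namespace Cfsg.Agent.Lib.Helper77_NormalDefect

open Cfsg Cfsg.Agent.Lib.Helper78_LocalRing Cfsg.Agent.Lib.Helper77_BlockBasics
  Cfsg.Agent.Lib.Helper77_QuotBlocks Cfsg.Agent.Lib.Helper77_CentralDefect

open scoped ComplexConjugate

/-- Summing an irreducible character over a coset of a normal subgroup. -/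
theorem sum_mul_normal {G : Type*} [Group G] [Finite G] (χ : IrrCharacter G) (P : Subgroup G)
    [P.Normal] [Fintype P] [Decidable (P ≤ Cfsg.Agent.S4835.irrKer χ)] (x : G) :
    ∑ v : P, (χ : G → ℂ) (x * (v : G)) =
      if P ≤ Cfsg.Agent.S4835.irrKer χ then (Nat.card P : ℂ) * (χ : G → ℂ) x else 0 := by
  obtain ⟨m, σ, hσ, hσχ⟩ := χ.2
  have := hσ
  split_ifs with h
  · have h1 : ∀ v : P, (χ : G → ℂ) (x * (v : G)) = (χ : G → ℂ) x := by
      intro v
      have hv := (Cfsg.Agent.S4835.mem_irrKer χ _).mp (h v.2)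
      rw [← hσχ, Representation.char_one] at hv
      have hid := (Cfsg.Agent.Lib.Helper3_CharEigen.char_eq_finrank_iff σ (v : G)).mp hv
      rw [← hσχ]
      unfold Representation.character
      rw [map_mul, hid]
      rfl
    simp only [h1, Finset.sum_const, Finset.card_univ, nsmul_eq_mul, Nat.card_eq_fintype_card]
  · rcases Cfsg.Agent.Lib.Helper16_Quot.invSubrep_eq_bot_or_top σ P with hb | ht
    · have hinv : Representation.invariants (σ.comp P.subtype) = ⊥ :=
        congrArg Subrepresentation.toSubmodule hb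
      have hA : (∑ v : P, σ (v : G)) = 0 := by
        apply LinearMap.ext
        intro w
        have hw : (∑ v : P, σ (v : G)) w ∈ Representation.invariants (σ.comp P.subtype) := by
          intro u
          simp only [MonoidHom.comp_apply, Subgroup.coe_subtype]
          rw [LinearMap.sum_apply, map_sum]
          rw [← Equiv.sum_comp (Equiv.mulLeft u) (fun v : P => (σ (v : G)) w)]
          refine Finset.sum_congr rfl fun v _ => ?_
          simp only [Equiv.coe_mulLeft, Subgroup.coe_mul, map_mul]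
          rfl
        rw [hinv, Submodule.mem_bot] at hw
        rw [hw]
        rfl
      rw [← hσχ]
      unfold Representation.character
      simp_rw [map_mul]
      rw [← map_sum, ← Finset.mul_sum, hA, mul_zero, map_zero]
    · exfalso
      apply h
      have htriv := Cfsg.Agent.Lib.Helper16_Quot.isTrivial_of_invSubrep_eq_top σ P ht
      intro n hn
      rw [Cfsg.Agent.S4835.mem_irrKer, ← hσχ, Representation.char_one]
      apply (Cfsg.Agent.Lib.Helper3_CharEigen.char_eq_finrank_iff σ n).mpr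
      exact htriv.out ⟨n, hn⟩

/-- The product of a `p`-regular element with a commuting nontrivial `p`-element is
`p`-singular. -/
theorem dvd_orderOf_mul_of_commute {G : Type*} [Group G] {p : ℕ} [Fact p.Prime]
    (x u : G) (hx : ¬ p ∣ orderOf x) (hu : ∃ k : ℕ, orderOf u = p ^ k) (hu1 : u ≠ 1)
    (hcomm : Commute x u) : p ∣ orderOf (x * u) := by
  have hp : p.Prime := Fact.out
  obtain ⟨k, hk⟩ := hu
  have hk0 : k ≠ 0 := by
    rintro rfl
    rw [pow_zero, orderOf_eq_one_iff] at hk
    exact hu1 hk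
  have hcop : (orderOf x).Coprime (orderOf u) := by
    rw [hk]
    exact Nat.Coprime.pow_right k ((Nat.Prime.coprime_iff_not_dvd hp).mpr hx).symm
  rw [hcomm.orderOf_mul_eq_mul_orderOf_of_coprime hcop, hk]
  exact dvd_mul_of_dvd_right (dvd_pow_self p hk0) _

theorem exists_orderOf_eq_of_mem {G : Type*} [Group G] {p : ℕ} [Fact p.Prime] {P : Subgroup G}
    (hP : IsPGroup p P) {u : G} (hu : u ∈ P) : ∃ k : ℕ, orderOf u = p ^ k := by
  obtain ⟨k, hk⟩ := (IsPGroup.iff_orderOf.mp hP) ⟨u, hu⟩
  rw [← Subgroup.orderOf_coe] at hk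
  exact ⟨k, hk⟩

/-- **Gram identity for a normal `p`-subgroup centralized by the `p`-regular elements**. -/
theorem gram_normal {G : Type*} [Group G] [Finite G] {p : ℕ} [Fact p.Prime]
    {M : Ideal AlgInt} (hM : IsPModular p M) {B : Set (IrrCharacter G)} (hB : IsPBlock M B)
    (P : Subgroup G) [P.Normal] (hP : IsPGroup p P)
    (hreg : ∀ y : G, ¬ p ∣ orderOf y → ∀ u ∈ P, y * u = u * y) (x y : G)
    (hx : ¬ p ∣ orderOf x) (hy : ¬ p ∣ orderOf y) :
    ∑ᶠ χ ∈ B, (χ : G → ℂ) x * conj ((χ : G → ℂ) y) =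
      (Nat.card P : ℂ) * ∑ᶠ χ ∈ {χ : IrrCharacter G | χ ∈ B ∧ P ≤ Cfsg.Agent.S4835.irrKer χ},
        (χ : G → ℂ) x * conj ((χ : G → ℂ) y) := by
  classical
  have := Fintype.ofFinite G
  have := Fintype.ofFinite P
  have hfin : Finite (IrrCharacter G) := Cfsg.Agent.Lib.Helper78_CharFacts.charFacts.finite
  have h1 : ∑ u : P, ∑ᶠ χ ∈ B, (χ : G → ℂ) x * conj ((χ : G → ℂ) (y * (u : G))) =
      ∑ᶠ χ ∈ B, (χ : G → ℂ) x * conj ((χ : G → ℂ) y) := by
    rw [Finset.sum_eq_single (1 : P)]
    · simp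
    · intro u _ hu
      apply Cfsg.Agent.Lib.Helper77_WeakOrth.weak_orthogonality_block hM hB x _ hx
      apply dvd_orderOf_mul_of_commute y u hy (exists_orderOf_eq_of_mem hP u.2) _
        (hreg y hy u u.2)
      intro h
      exact hu (Subtype.ext h)
    · intro h
      exact absurd (Finset.mem_univ _) h
  rw [← h1]
  simp_rw [finsum_mem_eq_finite_toFinset_sum _ (Set.toFinite _)]
  rw [Finset.sum_comm]
  simp_rw [← Finset.mul_sum, ← map_sum, sum_mul_normal _ P y]
  rw [Finset.mul_sum]
  have hsub : (Set.toFinite {χ : IrrCharacter G | χ ∈ B ∧ P ≤ Cfsg.Agent.S4835.irrKer χ}).toFinset =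
      (Set.toFinite B).toFinset.filter (fun χ => P ≤ Cfsg.Agent.S4835.irrKer χ) := by
    ext χ
    simp
  rw [hsub, Finset.sum_filter]
  refine Finset.sum_congr rfl fun χ _ => ?_
  split_ifs
  · rw [map_mul, Complex.conj_natCast]
    ring
  · simp

/-- A member of a block with normal defect group `P` having `P` in its kernel has `p`-part of the
degree equal to the `p`-part of the index of `P`, and its deflation to `G ⧸ P` is alone in its
block. -/
theorem defl_of_normal_defect {G : Type*} [Group G] [Finite G] {p : ℕ} [Fact p.Prime]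
    {M : Ideal AlgInt} (hM : IsPModular p M) {B : Set (IrrCharacter G)} (hB : IsPBlock M B)
    (P : Subgroup G) [P.Normal] (hD : IsDefectGroup p M B P)
    (θ : IrrCharacter G) (hθ : θ ∈ B) (χ : IrrCharacter (G ⧸ P))
    (hχ : (θ : G → ℂ) = (χ : G ⧸ P → ℂ) ∘ QuotientGroup.mk) :
    (charDegree (θ : G → ℂ)).factorization p = P.index.factorization p ∧
      blockOf M (χ : G ⧸ P → ℂ) = {χ} := by
  classical
  have hp : p.Prime := Fact.out
  obtain ⟨hP, hcard⟩ := card_of_isDefectGroup hM hB hD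
  have hdeg : charDegree (χ : G ⧸ P → ℂ) = charDegree (θ : G → ℂ) := by
    unfold charDegree
    rw [hχ]
    rfl
  have hcardG : Nat.card G = Nat.card (G ⧸ P) * Nat.card P :=
    Subgroup.card_eq_card_quotient_mul_card_subgroup P
  have hfac : (Nat.card G).factorization p =
      (Nat.card (G ⧸ P)).factorization p + blockDefect p B := by
    rw [hcardG, Nat.factorization_mul (Nat.card_pos).ne' (Nat.card_pos).ne', hcard,
      Finsupp.add_apply, Nat.Prime.factorization_pow hp]
    simp
  have hle1 := factorization_charDegree_le p θ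
  have hle2 := factorization_charDegree_le p χ
  rw [hdeg] at hle2
  have hdef : blockDefect p B = (Nat.card G).factorization p -
      sInf ((fun χ : IrrCharacter G => (charDegree (χ : G → ℂ)).factorization p) '' B) := rfl
  have hinf : sInf ((fun χ : IrrCharacter G => (charDegree (χ : G → ℂ)).factorization p) '' B) ≤
      (charDegree (θ : G → ℂ)).factorization p := Nat.sInf_le ⟨θ, hθ, rfl⟩
  constructor
  · rw [Subgroup.index_eq_card]
    omega
  · rw [← Cfsg.Agent.S0914.result p M hM χ, not_dvd_div_iff hp χ, hdeg]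
    omega

/-- **Uniqueness of the canonical character**: a block with normal defect group `P` centralized by
all `p`-regular elements has at most one member with `P` in its kernel. -/
theorem eq_of_ker_of_normal_defect {G : Type*} [Group G] [Finite G] {p : ℕ} [Fact p.Prime]
    {M : Ideal AlgInt} (hM : IsPModular p M) {B : Set (IrrCharacter G)} (hB : IsPBlock M B)
    (P : Subgroup G) [P.Normal] (hD : IsDefectGroup p M B P)
    (hreg : ∀ y : G, ¬ p ∣ orderOf y → ∀ u ∈ P, y * u = u * y)
    (θ θ' : IrrCharacter G) (hθ : θ ∈ B) (hθ' : θ' ∈ B)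
    (hk : ∀ u ∈ P, (θ : G → ℂ) u = (θ : G → ℂ) 1)
    (hk' : ∀ u ∈ P, (θ' : G → ℂ) u = (θ' : G → ℂ) 1) : θ = θ' := by
  have hMp : M.IsPrime := isPrime_of_isPModular hM
  obtain ⟨hP, -⟩ := card_of_isDefectGroup hM hB hD
  obtain ⟨χ, hχ⟩ := exists_quot_char P θ hk
  obtain ⟨χ', hχ'⟩ := exists_quot_char P θ' hk'
  have hsame : SameBlock M (χ : G ⧸ P → ℂ) (χ' : G ⧸ P → ℂ) := by
    apply sameBlock_of_comp_mk hM P hP hreg χ χ'
    rw [← hχ, ← hχ']
    exact isPBlock_sameBlock hMp hB hθ hθ'
  have hblock := (defl_of_normal_defect hM hB P hD θ hθ χ hχ).2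
  have hmem : χ' ∈ blockOf M (χ : G ⧸ P → ℂ) := hsame
  rw [hblock, Set.mem_singleton_iff] at hmem
  apply Subtype.ext
  rw [hχ, hχ', hmem]


/-- If a block has a normal defect group, it is its only defect group. -/
theorem defectGroup_eq_of_normal {G : Type*} [Group G] [Finite G] {p : ℕ} [Fact p.Prime]
    {M : Ideal AlgInt} (hM : IsPModular p M) {B : Set (IrrCharacter G)} (hB : IsPBlock M B)
    (P : Subgroup G) [hPn : P.Normal] (hD : IsDefectGroup p M B P)
    (D : Subgroup G) (hD' : IsDefectGroup p M B D) : D = P := by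
  have hcard := Cfsg.Agent.Lib.Helper78_FirstMainGT.isDefectGroup_card_eq hM hB hD' hD
  have hle : D ≤ P := by
    have hDp := Cfsg.Agent.Lib.Helper78_FirstMainGT.isDefectGroup_isPGroup hD'
    obtain ⟨g, hg, S, hS⟩ := hD
    obtain ⟨g', hg', S', hS'⟩ := hD'
    obtain ⟨x, hx⟩ := Cfsg.Agent.Lib.Helper78_MinMax.le_conj_of_blockCoeff_not_mem hM hB hg S g'
      hg'.2.1 D hDp (by rw [hS']; exact Cfsg.Agent.Lib.Helper78_MinMax.map_sylow_le _ S')
    intro s hs
    obtain ⟨d, hd, rfl⟩ := hx hs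
    rw [← hS] at hd
    simp only [MulEquiv.coe_toMonoidHom, MulAut.conj_apply]
    exact hPn.conj_mem d hd x
  exact Subgroup.eq_of_le_of_card_ge hle (le_of_eq hcard)

/-- Members of a block with normal defect group `P` vanish at elements whose `p`-part is not in
`P`. -/
theorem irr_eq_zero_of_ppart_not_mem {G : Type*} [Group G] [Finite G] {p : ℕ} [Fact p.Prime]
    {M : Ideal AlgInt} (hM : IsPModular p M) {B : Set (IrrCharacter G)} (hB : IsPBlock M B)
    (P : Subgroup G) [P.Normal] (hD : IsDefectGroup p M B P)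
    (χ : IrrCharacter G) (hχ : χ ∈ B) {g x : G} (hg : IsPPart p g x) (hx : x ∉ P) :
    (χ : G → ℂ) g = 0 := by
  apply Cfsg.Agent.Lib.Helper16_Vanish.irr_eq_zero_of_not_mem_defectGroup hM hB χ hχ hg
  intro D hD'
  rw [defectGroup_eq_of_normal hM hB P hD D hD']
  exact hx

/-- `P ⊔ C_G(P) = ⊤` makes `P` normal. -/
theorem normal_of_sup_centralizer {G : Type*} [Group G] (P : Subgroup G)
    (hG : P ⊔ Subgroup.centralizer (P : Set G) = ⊤) : P.Normal := by
  rw [← Subgroup.normalizer_eq_top_iff, eq_top_iff, ← hG]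
  exact sup_le Subgroup.le_normalizer (Subgroup.centralizer_le_normalizer _)

/-- If `G = P C_G(P)` for the `p`-group `P`, every `p`-regular element centralizes `P`. -/
theorem commute_of_sup_centralizer {G : Type*} [Group G] [Finite G] {p : ℕ} [Fact p.Prime]
    (P : Subgroup G) [P.Normal] (hP : IsPGroup p P)
    (hG : P ⊔ Subgroup.centralizer (P : Set G) = ⊤) (y : G) (hy : ¬ p ∣ orderOf y) :
    ∀ u ∈ P, y * u = u * y := by
  have hCn : (Subgroup.centralizer (P : Set G)).Normal := Subgroup.normal_centralizer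
  have hQ : IsPGroup p (G ⧸ Subgroup.centralizer (P : Set G)) := by
    intro q
    obtain ⟨g, rfl⟩ := QuotientGroup.mk_surjective q
    have hg : g ∈ P ⊔ Subgroup.centralizer (P : Set G) := by rw [hG]; trivial
    obtain ⟨t, ht, c, hc, rfl⟩ := Subgroup.mem_sup_of_normal_right.mp hg
    obtain ⟨k, hk⟩ := hP ⟨t, ht⟩
    refine ⟨k, ?_⟩
    have h1 : (QuotientGroup.mk (t * c) : G ⧸ Subgroup.centralizer (P : Set G)) =
        QuotientGroup.mk t := by
      rw [QuotientGroup.eq]
      simpa using hc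
    rw [h1, ← QuotientGroup.mk_pow]
    have h2 : t ^ p ^ k = 1 := by
      have := congrArg Subtype.val hk
      simpa using this
    rw [h2]
    rfl
  obtain ⟨n, hn⟩ := IsPGroup.iff_card.mp hQ
  rw [← Subgroup.index_eq_card] at hn
  exact commute_of_index_centralizer P hn y hy

/-- If `G = P C_G(P)`, conjugation on `P` by `G` is conjugation by `P`. -/
theorem conj_eq_conj_of_sup_centralizer {G : Type*} [Group G] (P : Subgroup G) [P.Normal]
    (hG : P ⊔ Subgroup.centralizer (P : Set G) = ⊤) (s u : G) (hu : u ∈ P) :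
    ∃ t ∈ P, s * u * s⁻¹ = t * u * t⁻¹ := by
  have hs : s ∈ P ⊔ Subgroup.centralizer (P : Set G) := by rw [hG]; trivial
  obtain ⟨t, ht, c, hc, rfl⟩ := Subgroup.mem_sup_of_normal_left.mp hs
  refine ⟨t, ht, ?_⟩
  have hcu : u * c = c * u := Subgroup.mem_centralizer_iff.mp hc u hu
  calc t * c * u * (t * c)⁻¹ = t * (c * u) * c⁻¹ * t⁻¹ := by group
    _ = t * (u * c) * c⁻¹ * t⁻¹ := by rw [hcu]
    _ = t * u * t⁻¹ := by group

/-- The sum over a finite group of the inverse class sizes is the number of classes. -/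
theorem sum_inv_card_conj (H : Type*) [Group H] [Fintype H] [DecidableEq H]
    [DecidableRel (IsConj : H → H → Prop)] :
    ∑ u : H, ((Finset.univ.filter (fun v : H => IsConj v u)).card : ℂ)⁻¹ =
      (Nat.card (ConjClasses H) : ℂ) := by
  classical
  rw [← Finset.sum_fiberwise (s := Finset.univ) (g := fun u : H => ConjClasses.mk u)]
  have h1 : ∀ c : ConjClasses H, ∑ u ∈ Finset.univ.filter (fun u : H => ConjClasses.mk u = c),
      ((Finset.univ.filter (fun v : H => IsConj v u)).card : ℂ)⁻¹ = 1 := by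
    intro c
    obtain ⟨u₀, rfl⟩ := ConjClasses.mk_surjective c
    have h2 : ∀ u ∈ Finset.univ.filter (fun u : H => ConjClasses.mk u = ConjClasses.mk u₀),
        ((Finset.univ.filter (fun v : H => IsConj v u)).card : ℂ)⁻¹ =
        ((Finset.univ.filter (fun u : H => ConjClasses.mk u = ConjClasses.mk u₀)).card : ℂ)⁻¹ := by
      intro u hu
      rw [Finset.mem_filter] at hu
      have hset : Finset.univ.filter (fun v : H => IsConj v u) =
          Finset.univ.filter (fun u : H => ConjClasses.mk u = ConjClasses.mk u₀) := by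
        ext v
        simp only [Finset.mem_filter, Finset.mem_univ, true_and]
        rw [← hu.2, ConjClasses.mk_eq_mk_iff_isConj]
      rw [hset]
    rw [Finset.sum_congr rfl h2, Finset.sum_const, nsmul_eq_mul]
    apply mul_inv_cancel₀
    rw [Nat.cast_ne_zero]
    apply Finset.card_ne_zero_of_mem (a := u₀)
    simp
  rw [Finset.sum_congr rfl (fun c _ => h1 c), Finset.sum_const, Finset.card_univ, nsmul_eq_mul,
    mul_one, Nat.card_eq_fintype_card]


/-- An element of the kernel does not change the character value. -/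
theorem irr_mul_ker {G : Type*} [Group G] [Finite G] (χ : IrrCharacter G) (x v : G)
    (hv : (χ : G → ℂ) v = (χ : G → ℂ) 1) : (χ : G → ℂ) (x * v) = (χ : G → ℂ) x := by
  obtain ⟨m, σ, hσ, hσχ⟩ := χ.2
  rw [← hσχ, Representation.char_one] at hv
  have hid := (Cfsg.Agent.Lib.Helper3_CharEigen.char_eq_finrank_iff σ v).mp hv
  rw [← hσχ]
  unfold Representation.character
  rw [map_mul, hid]
  rfl

/-- **Summation over `p`-sections of elements of `P`.** If `F` vanishes at the elements whose
`p`-part is outside the normal `p`-subgroup `P`, and `p`-regular elements centralize `P`, then the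
sum of `F` over `G` is the sum over `u ∈ P` and `p`-regular `y` of `F (u * y)`. -/
theorem sum_eq_sum_sections {G : Type*} [Group G] [Fintype G] [DecidableEq G] {p : ℕ}
    [Fact p.Prime] (P : Subgroup G) [Fintype P] (hP : IsPGroup p P)
    (hreg : ∀ y : G, ¬ p ∣ orderOf y → ∀ u ∈ P, y * u = u * y) (F : G → ℂ)
    (hF : ∀ g x : G, IsPPart p g x → x ∉ P → F g = 0) :
    ∑ g : G, F g = ∑ u : P, ∑ y ∈ Finset.univ.filter (fun y : G => ¬ p ∣ orderOf y),
      F ((u : G) * y) := by
  have hp : p.Prime := Fact.out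
  set R : Finset G := Finset.univ.filter (fun y : G => ¬ p ∣ orderOf y) with hR
  rw [← Finset.sum_product' (Finset.univ : Finset P) R (fun u y => F ((u : G) * y))]
  have hinj : Set.InjOn (fun z : P × G => (z.1 : G) * z.2)
      ((Finset.univ : Finset P) ×ˢ R : Finset (P × G)) := by
    rintro ⟨u, y⟩ ha ⟨u', y'⟩ hb hab
    simp only [Finset.coe_product, Set.mem_prod, Finset.mem_coe, hR, Finset.mem_filter,
      Finset.mem_univ, true_and] at ha hb
    simp only at hab
    have hw : y = ((u : G)⁻¹ * (u' : G)) * y' := by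
      calc y = (u : G)⁻¹ * ((u : G) * y) := by group
        _ = (u : G)⁻¹ * ((u' : G) * y') := by rw [hab]
        _ = ((u : G)⁻¹ * (u' : G)) * y' := by group
    have hwP : (u : G)⁻¹ * (u' : G) ∈ P := P.mul_mem (P.inv_mem u.2) u'.2
    have hw1 : (u : G)⁻¹ * (u' : G) = 1 := by
      by_contra hne
      apply ha
      rw [hw, ← hreg y' hb _ hwP]
      exact dvd_orderOf_mul_of_commute y' _ hb (exists_orderOf_eq_of_mem hP hwP) hne
        (hreg y' hb _ hwP)
    have hu : u = u' := by
      apply Subtype.ext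
      exact inv_mul_eq_one.mp hw1
    rw [hw1, one_mul] at hw
    rw [hw, hu]
  rw [← Finset.sum_image (f := F) hinj]
  symm
  apply Finset.sum_subset (Finset.subset_univ _)
  intro g _ hg
  obtain ⟨x, hx⟩ := Cfsg.Agent.Lib.Helper16_BlockOrth.exists_isPPart hp g
  apply hF g x hx
  intro hxP
  apply hg
  obtain ⟨y', hxy, -, -, hy'⟩ := hx
  rw [Finset.mem_image]
  refine ⟨(⟨x, hxP⟩, y'), ?_, hxy⟩
  rw [Finset.mem_product, hR, Finset.mem_filter]
  exact ⟨Finset.mem_univ _, Finset.mem_univ _, hy'⟩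

/-- **Gram identity on the `p`-section of an element of `P`.** -/
theorem section_gram {G : Type*} [Group G] [Finite G] {p : ℕ} [Fact p.Prime]
    {M : Ideal AlgInt} (hM : IsPModular p M) {B : Set (IrrCharacter G)} (hB : IsPBlock M B)
    (P : Subgroup G) [P.Normal] [Fintype P] [DecidableRel (IsConj : P → P → Prop)]
    (hP : IsPGroup p P) (hG : P ⊔ Subgroup.centralizer (P : Set G) = ⊤)
    (θ : IrrCharacter G) (hθ : θ ∈ B) (hθk : ∀ u ∈ P, (θ : G → ℂ) u = (θ : G → ℂ) 1)
    (huniq : ∀ χ ∈ B, (∀ u ∈ P, (χ : G → ℂ) u = (χ : G → ℂ) 1) → χ = θ)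
    (u : P) (y : G) (hy : ¬ p ∣ orderOf y) :
    ((Finset.univ.filter (fun v : P => IsConj v u)).card : ℂ) *
      ∑ᶠ χ ∈ B, (χ : G → ℂ) ((u : G) * y) * conj ((χ : G → ℂ) ((u : G) * y)) =
      (Nat.card P : ℂ) * ((θ : G → ℂ) y * conj ((θ : G → ℂ) y)) := by
  classical
  have := Fintype.ofFinite G
  have hfin : Finite (IrrCharacter G) := Cfsg.Agent.Lib.Helper78_CharFacts.charFacts.finite
  have hreg := commute_of_sup_centralizer P hP hG
  -- the double sum
  have hS1 : ∑ v : P, ∑ᶠ χ ∈ B, (χ : G → ℂ) (y * (v : G)) * conj ((χ : G → ℂ) ((u : G) * y)) =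
      (Nat.card P : ℂ) * ((θ : G → ℂ) y * conj ((θ : G → ℂ) y)) := by
    simp_rw [finsum_mem_eq_finite_toFinset_sum _ (Set.toFinite B)]
    rw [Finset.sum_comm]
    simp_rw [← Finset.sum_mul, sum_mul_normal _ P y]
    rw [Finset.sum_eq_single θ]
    · rw [if_pos (show P ≤ Cfsg.Agent.S4835.irrKer θ from
        fun v hv => (Cfsg.Agent.S4835.mem_irrKer θ v).mpr (hθk v hv))]
      have : (θ : G → ℂ) ((u : G) * y) = (θ : G → ℂ) y := by
        rw [← hreg y hy u u.2]
        exact irr_mul_ker θ y u (hθk u u.2)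
      rw [this]
      ring
    · intro χ hχ hne
      rw [Set.Finite.mem_toFinset] at hχ
      rw [if_neg, zero_mul]
      intro hle
      exact hne (huniq χ hχ (fun v hv => (Cfsg.Agent.S4835.mem_irrKer χ v).mp (hle hv)))
    · intro h
      exact absurd ((Set.Finite.mem_toFinset _).mpr hθ) h
  rw [← hS1, ← Finset.sum_filter_add_sum_filter_not Finset.univ (fun v : P => IsConj v u)]
  have h2 : ∑ v ∈ Finset.univ.filter (fun v : P => ¬ IsConj v u),
      ∑ᶠ χ ∈ B, (χ : G → ℂ) (y * (v : G)) * conj ((χ : G → ℂ) ((u : G) * y)) = 0 := by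
    apply Finset.sum_eq_zero
    intro v hv
    rw [Finset.mem_filter] at hv
    have hv1 : IsPPart p (y * (v : G)) (v : G) :=
      ⟨y, (hreg y hy v v.2).symm, (hreg y hy v v.2).symm, exists_orderOf_eq_of_mem hP v.2, hy⟩
    have hu1 : IsPPart p ((u : G) * y) (u : G) :=
      ⟨y, rfl, (hreg y hy u u.2).symm, exists_orderOf_eq_of_mem hP u.2, hy⟩
    apply Cfsg.Agent.Lib.Helper16_BlockOrth.block_orthogonality hM hB hv1 hu1
    intro hconj
    apply hv.2
    obtain ⟨s, hs⟩ := isConj_iff.mp hconj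
    obtain ⟨t, ht, hst⟩ := conj_eq_conj_of_sup_centralizer P hG s (v : G) v.2
    rw [isConj_iff]
    refine ⟨⟨t, ht⟩, ?_⟩
    apply Subtype.ext
    simp only [Subgroup.coe_mul, InvMemClass.coe_inv]
    rw [← hst, hs]
  have h1 : ∑ v ∈ Finset.univ.filter (fun v : P => IsConj v u),
      ∑ᶠ χ ∈ B, (χ : G → ℂ) (y * (v : G)) * conj ((χ : G → ℂ) ((u : G) * y)) =
      ∑ v ∈ Finset.univ.filter (fun v : P => IsConj v u),
      ∑ᶠ χ ∈ B, (χ : G → ℂ) ((u : G) * y) * conj ((χ : G → ℂ) ((u : G) * y)) := by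
    refine Finset.sum_congr rfl fun v hv => ?_
    rw [Finset.mem_filter] at hv
    obtain ⟨t, ht⟩ := isConj_iff.mp hv.2.symm
    have hvt : (v : G) = (t : G) * (u : G) * (t : G)⁻¹ := by
      have := congrArg Subtype.val ht
      simpa using this.symm
    have hyt : y * (t : G) = (t : G) * y := hreg y hy t t.2
    have hyu : y * (u : G) = (u : G) * y := hreg y hy u u.2
    have hconj : y * (v : G) = (t : G) * ((u : G) * y) * (t : G)⁻¹ := by
      rw [hvt]
      calc y * ((t : G) * (u : G) * (t : G)⁻¹) = (y * (t : G)) * (u : G) * (t : G)⁻¹ := by group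
        _ = (t : G) * (y * (u : G)) * (t : G)⁻¹ := by rw [hyt]; group
        _ = (t : G) * ((u : G) * y) * (t : G)⁻¹ := by rw [hyu]
    refine finsum_congr fun χ => finsum_congr fun _ => ?_
    rw [hconj, Cfsg.Agent.Lib.Helper78_CentralChar.isIrrCharacter_isClassFunction χ.2]
  rw [h1, h2, add_zero, Finset.sum_const, nsmul_eq_mul]


/-- **Counting the block**: if `G = P C_G(P)` and `B` is a block with defect group `P` and
canonical character `θ`, then `B` has as many members as `P` has conjugacy classes. -/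
theorem card_block_of_sup_centralizer {G : Type*} [Group G] [Finite G] {p : ℕ} [Fact p.Prime]
    {M : Ideal AlgInt} (hM : IsPModular p M) {B : Set (IrrCharacter G)} (hB : IsPBlock M B)
    (P : Subgroup G) [P.Normal] (hD : IsDefectGroup p M B P)
    (hG : P ⊔ Subgroup.centralizer (P : Set G) = ⊤)
    (θ : IrrCharacter G) (hθ : θ ∈ B) (hθk : ∀ u ∈ P, (θ : G → ℂ) u = (θ : G → ℂ) 1)
    (huniq : ∀ χ ∈ B, (∀ u ∈ P, (χ : G → ℂ) u = (χ : G → ℂ) 1) → χ = θ) :
    Nat.card B = Nat.card (ConjClasses P) := by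
  classical
  have := Fintype.ofFinite G
  have := Fintype.ofFinite P
  have hfin : Finite (IrrCharacter G) := Cfsg.Agent.Lib.Helper78_CharFacts.charFacts.finite
  obtain ⟨hP, -⟩ := card_of_isDefectGroup hM hB hD
  have hreg := commute_of_sup_centralizer P hP hG
  have hGne : (Nat.card G : ℂ) ≠ 0 := by exact_mod_cast (Nat.card_pos (α := G)).ne'
  set R : Finset G := Finset.univ.filter (fun y : G => ¬ p ∣ orderOf y) with hR
  set F1 : G → ℂ := fun g => ∑ᶠ χ ∈ B, (χ : G → ℂ) g * conj ((χ : G → ℂ) g) with hF1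
  set F2 : G → ℂ := fun g => (θ : G → ℂ) g * conj ((θ : G → ℂ) g) with hF2
  have hvan1 : ∀ g x : G, IsPPart p g x → x ∉ P → F1 g = 0 := by
    intro g x hg hx
    simp only [hF1]
    rw [finsum_mem_eq_finite_toFinset_sum _ (Set.toFinite B)]
    apply Finset.sum_eq_zero
    intro χ hχ
    rw [Set.Finite.mem_toFinset] at hχ
    rw [irr_eq_zero_of_ppart_not_mem hM hB P hD χ hχ hg hx, zero_mul]
  have hvan2 : ∀ g x : G, IsPPart p g x → x ∉ P → F2 g = 0 := by
    intro g x hg hx
    simp only [hF2]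
    rw [irr_eq_zero_of_ppart_not_mem hM hB P hD θ hθ hg hx, zero_mul]
  -- total sums
  have hA1 : ∑ g : G, F1 g = (Nat.card G : ℂ) * (Nat.card B : ℂ) := by
    simp only [hF1]
    simp_rw [finsum_mem_eq_finite_toFinset_sum _ (Set.toFinite B)]
    rw [Finset.sum_comm]
    have : ∀ χ : IrrCharacter G, ∑ g : G, (χ : G → ℂ) g * conj ((χ : G → ℂ) g) =
        (Nat.card G : ℂ) := by
      intro χ
      rw [← Cfsg.Agent.Lib.Helper80_CharBasic.irr_norm χ]
      refine Finset.sum_congr rfl fun g _ => ?_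
      rw [Cfsg.Agent.Lib.Helper80_CharBasic.irr_inv χ g]
    simp_rw [this]
    rw [Finset.sum_const, nsmul_eq_mul, mul_comm]
    congr 2
    rw [Nat.card_coe_set_eq, Set.ncard_eq_toFinset_card B (Set.toFinite B)]
  have hA2 : ∑ g : G, F2 g = (Nat.card G : ℂ) := by
    simp only [hF2]
    rw [← Cfsg.Agent.Lib.Helper80_CharBasic.irr_norm θ]
    refine Finset.sum_congr rfl fun g _ => ?_
    rw [Cfsg.Agent.Lib.Helper80_CharBasic.irr_inv θ g]
  rw [sum_eq_sum_sections P hP hreg F1 hvan1] at hA1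
  rw [sum_eq_sum_sections P hP hreg F2 hvan2] at hA2
  -- `θ` on sections
  have hθsec : ∀ (u : P) (y : G), y ∈ R → F2 ((u : G) * y) = F2 y := by
    intro u y hy
    rw [hR, Finset.mem_filter] at hy
    simp only [hF2]
    have : (θ : G → ℂ) ((u : G) * y) = (θ : G → ℂ) y := by
      rw [← hreg y hy.2 u u.2]
      exact irr_mul_ker θ y u (hθk u u.2)
    rw [this]
  have hA2' : (Nat.card P : ℂ) * ∑ y ∈ R, F2 y = (Nat.card G : ℂ) := by
    rw [← hA2]
    rw [Finset.sum_congr rfl (fun u _ => Finset.sum_congr rfl (fun y hy => hθsec u y hy))]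
    rw [Finset.sum_const, Finset.card_univ, nsmul_eq_mul, Nat.card_eq_fintype_card]
  -- the block on sections
  have hn0 : ∀ u : P, ((Finset.univ.filter (fun v : P => IsConj v u)).card : ℂ) ≠ 0 := by
    intro u
    rw [Nat.cast_ne_zero]
    apply Finset.card_ne_zero_of_mem (a := u)
    rw [Finset.mem_filter]
    exact ⟨Finset.mem_univ _, IsConj.refl u⟩
  have hsec : ∀ (u : P) (y : G), y ∈ R → F1 ((u : G) * y) =
      ((Finset.univ.filter (fun v : P => IsConj v u)).card : ℂ)⁻¹ *
        ((Nat.card P : ℂ) * F2 y) := by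
    intro u y hy
    rw [hR, Finset.mem_filter] at hy
    have := section_gram hM hB P hP hG θ hθ hθk huniq u y hy.2
    rw [eq_inv_mul_iff_mul_eq₀ (hn0 u)]
    exact this
  rw [Finset.sum_congr rfl (fun u _ => Finset.sum_congr rfl (fun y hy => hsec u y hy))] at hA1
  simp_rw [← Finset.mul_sum] at hA1
  rw [← Finset.sum_mul, hA2', sum_inv_card_conj P] at hA1
  have hfinal : (Nat.card (ConjClasses P) : ℂ) = (Nat.card B : ℂ) := by
    apply mul_right_cancel₀ hGne
    rw [hA1, mul_comm]
  exact_mod_cast hfinal.symm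

end Cfsg.Agent.Lib.Helper77_NormalDefect
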