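import Mathlib
import Cfsg.Prelude.Def_Blocks
import Cfsg.Prelude.Def_BlockRank
import Cfsg.Agent.Lib.Helper77_NormalDefect
import Cfsg.Agent.Lib.Helper77_QuotBlocks
import Cfsg.Agent.Lib.Helper77_RegProj
import Cfsg.Agent.Lib.Helper80_CharBasic
import Cfsg.Agent.Lib.Helper78_LocalRing
import Cfsg.Agent.S4667

set_option autoImplicit false

namespace Cfsg.Agent.Lib.Helper77_QuotRank

open Cfsg Cfsg.Agent.Lib.Helper78_LocalRing Cfsg.Agent.Lib.Helper77_QuotBlocks
  Cfsg.Agent.Lib.Helper77_NormalDefect Cfsg.Agent.Lib.Helper77_RegProj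

open scoped ComplexConjugate

section Inflation

variable {G : Type*} [Group G] (Q : Subgroup G) [Q.Normal]

/-- Subrepresentations of a representation of `G ⧸ Q` and of its inflation to `G` coincide. -/
def subrepEquivInfl {V : Type*} [AddCommGroup V] [Module ℂ V]
    (σ : Representation ℂ (G ⧸ Q) V) :
    Subrepresentation (σ.comp (QuotientGroup.mk' Q)) ≃o Subrepresentation σ where
  toFun W := ⟨W.toSubmodule, fun q v hv => by
    obtain ⟨g, rfl⟩ := QuotientGroup.mk_surjective q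
    exact W.apply_mem_toSubmodule g hv⟩
  invFun W := ⟨W.toSubmodule, fun g v hv => W.apply_mem_toSubmodule (QuotientGroup.mk g) hv⟩
  left_inv _ := rfl
  right_inv _ := rfl
  map_rel_iff' := Iff.rfl

/-- The inflation of an irreducible character of `G ⧸ Q` is an irreducible character of `G`. -/
theorem isIrrCharacter_comp_mk (χ : IrrCharacter (G ⧸ Q)) :
    IsIrrCharacter G ((χ : G ⧸ Q → ℂ) ∘ QuotientGroup.mk) := by
  obtain ⟨χ, n, σ, hσ, rfl⟩ := χ
  have : σ.IsIrreducible := hσ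
  refine ⟨n, σ.comp (QuotientGroup.mk' Q), ?_, rfl⟩
  exact (subrepEquivInfl Q σ).isSimpleOrder_iff.mpr inferInstance

/-- Inflation of irreducible characters. -/
noncomputable def infl (χ : IrrCharacter (G ⧸ Q)) : IrrCharacter G :=
  ⟨(χ : G ⧸ Q → ℂ) ∘ QuotientGroup.mk, isIrrCharacter_comp_mk Q χ⟩

theorem infl_apply (χ : IrrCharacter (G ⧸ Q)) (g : G) :
    (infl Q χ : G → ℂ) g = (χ : G ⧸ Q → ℂ) (QuotientGroup.mk g) := rfl

theorem infl_injective : Function.Injective (infl Q) := by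
  intro χ ψ h
  apply Subtype.ext
  funext q
  obtain ⟨g, rfl⟩ := QuotientGroup.mk_surjective q
  have := congrArg (fun θ : IrrCharacter G => (θ : G → ℂ) g) h
  simpa [infl_apply] using this

theorem infl_ker (χ : IrrCharacter (G ⧸ Q)) (u : G) (hu : u ∈ Q) :
    (infl Q χ : G → ℂ) u = (infl Q χ : G → ℂ) 1 := by
  rw [infl_apply, infl_apply, (QuotientGroup.eq_one_iff u).mpr hu]
  rfl

end Inflation


/-- The rank formula, as a sum over the `p`-regular elements. -/
theorem rank_formula {G : Type*} [Group G] [Fintype G] {p : ℕ} [Fact p.Prime]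
    {M : Ideal AlgInt} (hM : IsPModular p M) {B : Set (IrrCharacter G)} (hB : IsPBlock M B) :
    (Nat.card G : ℂ) * (blockRank p B : ℂ) =
      ∑ x ∈ Finset.univ.filter (fun x : G => ¬ p ∣ orderOf x),
        ∑ᶠ χ ∈ B, (χ : G → ℂ) x * conj ((χ : G → ℂ) x) := by
  classical
  rw [Cfsg.Agent.S4667.result p M hM B hB, Finset.sum_filter]
  refine Finset.sum_congr rfl fun x _ => ?_
  split_ifs with hx
  · have : ∀ χ : IrrCharacter G, pRegularPart p (χ : G → ℂ) x * (χ : G → ℂ) x⁻¹ = 0 := by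
      intro χ
      rw [pRegularPart_of_sing _ hx, zero_mul]
    simp_rw [this]
    simp
  · refine finsum_congr fun χ => finsum_congr fun _ => ?_
    rw [pRegularPart_of_reg _ hx, Cfsg.Agent.Lib.Helper80_CharBasic.irr_inv χ x]

/-- The `p`-regular elements of `G` and of `G ⧸ Q` correspond, when `Q` is a normal `p`-subgroup
centralized by the `p`-regular elements. -/
theorem sum_reg_comp_mk {G : Type*} [Group G] [Fintype G] {p : ℕ} [Fact p.Prime]
    (Q : Subgroup G) [Q.Normal] [Fintype (G ⧸ Q)] (hQ : IsPGroup p Q)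
    (hreg : ∀ y : G, ¬ p ∣ orderOf y → ∀ u ∈ Q, y * u = u * y) (f : G ⧸ Q → ℂ) :
    ∑ x ∈ Finset.univ.filter (fun x : G => ¬ p ∣ orderOf x), f (QuotientGroup.mk x) =
      ∑ q ∈ Finset.univ.filter (fun q : G ⧸ Q => ¬ p ∣ orderOf q), f q := by
  classical
  apply Finset.sum_nbij (fun x : G => (QuotientGroup.mk x : G ⧸ Q))
  · intro x hx
    rw [Finset.mem_filter] at hx ⊢
    refine ⟨Finset.mem_univ _, fun h => hx.2 (dvd_trans h ?_)⟩
    exact orderOf_map_dvd (QuotientGroup.mk' Q) x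
  · intro x hx x' hx' h
    simp only [Finset.coe_filter, Finset.mem_univ, true_and, Set.mem_ofPred_eq] at hx hx'
    have hw : x⁻¹ * x' ∈ Q := QuotientGroup.eq.mp h
    by_contra hne
    have hw1 : x⁻¹ * x' ≠ 1 := by
      intro h1
      apply hne
      exact (inv_mul_eq_one.mp h1)
    have := dvd_orderOf_mul_of_commute x _ hx (exists_orderOf_eq_of_mem hQ hw) hw1
      (hreg x hx _ hw)
    rw [mul_inv_cancel_left] at this
    exact hx' this
  · intro q hq
    simp only [Finset.coe_filter, Finset.mem_univ, true_and, Set.mem_ofPred_eq] at hq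
    obtain ⟨y, hy, rfl⟩ := exists_reg_lift Q q hq
    refine ⟨y, ?_, rfl⟩
    simp only [Finset.coe_filter, Finset.mem_univ, true_and, Set.mem_ofPred_eq]
    exact hy
  · intro x _
    rfl

/-- **Blocks of `G` and `G ⧸ Q` have the same `p`-regular rank**, for a normal `p`-subgroup `Q`
centralized by all `p`-regular elements, when the block `Bbar` of `G ⧸ Q` consists of the
characters whose inflation lies in the block `B`. -/
theorem blockRank_eq_of_quot {G : Type*} [Group G] [Finite G] {p : ℕ} [Fact p.Prime]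
    {M : Ideal AlgInt} (hM : IsPModular p M) (Q : Subgroup G) [Q.Normal] (hQ : IsPGroup p Q)
    (hreg : ∀ y : G, ¬ p ∣ orderOf y → ∀ u ∈ Q, y * u = u * y)
    {B : Set (IrrCharacter G)} (hB : IsPBlock M B)
    {Bbar : Set (IrrCharacter (G ⧸ Q))} (hBbar : IsPBlock M Bbar)
    (hlink : ∀ χ : IrrCharacter (G ⧸ Q), χ ∈ Bbar ↔ infl Q χ ∈ B) :
    blockRank p B = blockRank p Bbar := by
  classical
  have := Fintype.ofFinite G
  have := Fintype.ofFinite (G ⧸ Q)
  have hGne : (Nat.card G : ℂ) ≠ 0 := by exact_mod_cast (Nat.card_pos (α := G)).ne'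
  have h1 := rank_formula hM hB
  have h2 := rank_formula hM hBbar
  -- the members of `B` with `Q` in the kernel are the inflations of the members of `Bbar`
  have hbij : Set.BijOn (infl Q) Bbar
      {χ : IrrCharacter G | χ ∈ B ∧ Q ≤ Cfsg.Agent.S4835.irrKer χ} := by
    refine ⟨?_, (infl_injective Q).injOn, ?_⟩
    · intro χ hχ
      exact ⟨(hlink χ).mp hχ, fun u hu => (Cfsg.Agent.S4835.mem_irrKer _ u).mpr (infl_ker Q χ u hu)⟩
    · rintro θ ⟨hθB, hθk⟩
      obtain ⟨χ, hχ⟩ := exists_quot_char Q θ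
        (fun u hu => (Cfsg.Agent.S4835.mem_irrKer θ u).mp (hθk hu))
      have hθ : infl Q χ = θ := Subtype.ext hχ.symm
      refine ⟨χ, (hlink χ).mpr ?_, hθ⟩
      rw [hθ]
      exact hθB
  have hkey : ∀ x ∈ Finset.univ.filter (fun x : G => ¬ p ∣ orderOf x),
      ∑ᶠ χ ∈ B, (χ : G → ℂ) x * conj ((χ : G → ℂ) x) =
      (Nat.card Q : ℂ) * (fun q : G ⧸ Q => ∑ᶠ χ ∈ Bbar, (χ : G ⧸ Q → ℂ) q *
        conj ((χ : G ⧸ Q → ℂ) q)) (QuotientGroup.mk x) := by
    intro x hx
    rw [Finset.mem_filter] at hx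
    rw [gram_normal hM hB Q hQ hreg x x hx.2 hx.2]
    congr 1
    symm
    apply finsum_mem_eq_of_bijOn (infl Q) hbij
    intro χ _
    rfl
  have h3 := sum_reg_comp_mk Q hQ hreg (fun q : G ⧸ Q => ∑ᶠ χ ∈ Bbar, (χ : G ⧸ Q → ℂ) q *
        conj ((χ : G ⧸ Q → ℂ) q))
  rw [Finset.sum_congr rfl hkey, ← Finset.mul_sum, h3, ← h2] at h1
  have hcard : (Nat.card G : ℂ) = (Nat.card Q : ℂ) * (Nat.card (G ⧸ Q) : ℂ) := by
    rw [Subgroup.card_eq_card_quotient_mul_card_subgroup Q]
    push_cast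
    ring
  rw [← mul_assoc, ← hcard] at h1
  have := mul_left_cancel₀ hGne h1
  exact_mod_cast this

end Cfsg.Agent.Lib.Helper77_QuotRank
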