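import Mathlib
import Cfsg.Prelude.Def_Blocks
import Cfsg.Agent.Lib.Helper78_LocalRing
import Cfsg.Agent.Lib.Helper78_CentralChar
import Cfsg.Agent.Lib.Helper78_CharFacts
import Cfsg.Agent.Lib.Helper78_Osima
import Cfsg.Agent.Lib.Helper78_BrauerMap
import Cfsg.Agent.Lib.Helper78_MinMax
import Cfsg.Agent.Lib.Helper78_Defect
import Cfsg.Agent.Lib.Helper78_PGroupSum
import Cfsg.Agent.Lib.Helper77_QuotRank

/-!
# Defect groups of blocks of a quotient (helper77)

If a block `B̄` of `G ⧸ N` is contained in the block `B` of `G`, every defect group of `B̄` is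
contained in the image of a defect group of `B`.
-/

set_option autoImplicit false
set_option linter.unusedSectionVars false

namespace Cfsg.Agent.Lib.Helper77_QuotDefect

open Cfsg Cfsg.Agent.Lib.Helper78_LocalRing Cfsg.Agent.Lib.Helper78_Osima
  Cfsg.Agent.Lib.Helper78_CharFacts Cfsg.Agent.Lib.Helper78_CentralChar

/-- A `p`-subgroup of a quotient is contained in the image of a `p`-subgroup. -/
theorem exists_pgroup_map_ge {G : Type*} [Group G] [Finite G] {p : ℕ} [Fact p.Prime]
    (N : Subgroup G) [N.Normal] (Dbar : Subgroup (G ⧸ N)) (hD : IsPGroup p Dbar) :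
    ∃ S : Subgroup G, IsPGroup p S ∧ S ≤ Dbar.comap (QuotientGroup.mk' N) ∧
      Dbar ≤ S.map (QuotientGroup.mk' N) := by
  set Q : Subgroup G := Dbar.comap (QuotientGroup.mk' N) with hQ
  set f : Q →* Dbar := (QuotientGroup.mk' N).subgroupComap Dbar with hf
  have hfs : Function.Surjective f :=
    MonoidHom.subgroupComap_surjective_of_surjective _ _ (QuotientGroup.mk'_surjective N)
  obtain ⟨P₀⟩ : Nonempty (Sylow p Q) := inferInstance
  have htop : ((P₀.mapSurjective hfs : Sylow p Dbar) : Subgroup Dbar) = ⊤ :=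
    ((P₀.mapSurjective hfs).is_maximal' (hD.to_subgroup ⊤) le_top).symm
  rw [Sylow.coe_mapSurjective] at htop
  refine ⟨(P₀ : Subgroup Q).map Q.subtype, P₀.isPGroup'.map _, Subgroup.map_subtype_le _, ?_⟩
  intro d hd
  have : (⟨d, hd⟩ : Dbar) ∈ (P₀ : Subgroup Q).map f := by rw [htop]; trivial
  obtain ⟨q, hq, hqd⟩ := this
  refine ⟨(q : G), ⟨q, hq, rfl⟩, ?_⟩
  have := congrArg (fun w : Dbar => (w : G ⧸ N)) hqd
  exact this

section main

variable {G : Type*} [Group G] [Fintype G] (N : Subgroup G) [N.Normal]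
  [Fintype (G ⧸ N)] [DecidableEq (G ⧸ N)]

/-- The image in `ℂ[G ⧸ N]` of the idempotent of `B`. -/
noncomputable def imgCoeff (B : Set (IrrCharacter G)) : G ⧸ N → ℂ :=
  fun q => ∑ x : G, if (QuotientGroup.mk x : G ⧸ N) = q then blockCoeff B x else 0

theorem imgCoeff_isClassFunction (B : Set (IrrCharacter G)) :
    IsClassFunction (G ⧸ N) (imgCoeff N B) := by
  intro q r
  obtain ⟨y, rfl⟩ := QuotientGroup.mk_surjective r
  unfold imgCoeff
  rw [← Equiv.sum_comp (MulAut.conj y).toEquiv]
  refine Finset.sum_congr rfl fun x _ => ?_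
  have h1 : blockCoeff B ((MulAut.conj y).toEquiv x) = blockCoeff B x := by
    show blockCoeff B (y * x * y⁻¹) = blockCoeff B x
    exact blockCoeff_isClassFunction B x y
  have h2 : ((QuotientGroup.mk ((MulAut.conj y).toEquiv x) : G ⧸ N) =
      (QuotientGroup.mk y : G ⧸ N) * q * (QuotientGroup.mk y : G ⧸ N)⁻¹) ↔
      (QuotientGroup.mk x : G ⧸ N) = q := by
    show ((QuotientGroup.mk (y * x * y⁻¹) : G ⧸ N) = _) ↔ _
    rw [QuotientGroup.mk_mul, QuotientGroup.mk_mul, QuotientGroup.mk_inv]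
    constructor
    · intro h
      have := congrArg (fun w => (QuotientGroup.mk y : G ⧸ N)⁻¹ * w * (QuotientGroup.mk y : G ⧸ N)) h
      simpa [mul_assoc] using this
    · intro h
      rw [h]
  rw [h1]
  by_cases hx : (QuotientGroup.mk x : G ⧸ N) = q
  · rw [if_pos hx, if_pos (h2.mpr hx)]
  · rw [if_neg hx, if_neg (fun h => hx (h2.mp h))]

theorem imgCoeff_memLocalRing {M : Ideal AlgInt} (hM : M.IsPrime) {B : Set (IrrCharacter G)}
    (hB : IsPBlock M B) (q : G ⧸ N) : MemLocalRing M (imgCoeff N B q) := by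
  unfold imgCoeff
  refine memLocalRing_sum hM _ _ fun x _ => ?_
  split_ifs
  · exact osima_block' hM hB x
  · exact memLocalRing_zero hM

theorem omega_imgCoeff (B : Set (IrrCharacter G)) (χ : IrrCharacter (G ⧸ N)) :
    omega (χ : G ⧸ N → ℂ) (imgCoeff N B) =
      omega (Cfsg.Agent.Lib.Helper77_QuotRank.infl N χ : G → ℂ) (blockCoeff B) := by
  unfold omega imgCoeff
  have h1 : (Cfsg.Agent.Lib.Helper77_QuotRank.infl N χ : G → ℂ) 1 = (χ : G ⧸ N → ℂ) 1 := rfl
  rw [h1]
  congr 1
  simp only [Finset.sum_mul]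
  rw [Finset.sum_comm]
  refine Finset.sum_congr rfl fun x _ => ?_
  rw [Finset.sum_eq_single (QuotientGroup.mk x : G ⧸ N)]
  · rw [if_pos rfl]
    rfl
  · intro q _ hq
    rw [if_neg (fun h => hq h.symm), zero_mul]
  · intro h
    exact absurd (Finset.mem_univ _) h

end main

/-- **Defect groups of a block of a quotient.** If the block `B̄` of `G ⧸ N` is contained in the
block `B` of `G`, then every defect group of `B̄` lies in the image of a defect group of `B`. -/
theorem exists_isDefectGroup_map_ge {G : Type*} [Group G] [Finite G] {p : ℕ} [Fact p.Prime]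
    {M : Ideal AlgInt} (hM : IsPModular p M) (N : Subgroup G) [N.Normal]
    (Bbar : Set (IrrCharacter (G ⧸ N))) (hBbar : IsPBlock M Bbar) (B : Set (IrrCharacter G))
    (hB : IsPBlock M B)
    (hsub : ∀ χ ∈ Bbar, ∀ ψ : IrrCharacter G,
      (ψ : G → ℂ) = (χ : G ⧸ N → ℂ) ∘ QuotientGroup.mk → ψ ∈ B)
    (Dbar : Subgroup (G ⧸ N)) (hDbar : IsDefectGroup p M Bbar Dbar) :
    ∃ P : Subgroup G, IsDefectGroup p M B P ∧ Dbar ≤ P.map (QuotientGroup.mk' N) := by
  classical
  have := Fintype.ofFinite G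
  have := Fintype.ofFinite (G ⧸ N)
  have hMp : M.IsPrime := isPrime_of_isPModular hM
  obtain ⟨gbar, hgbar, Pbar, rfl⟩ := hDbar
  set Dbar : Subgroup (G ⧸ N) := (Pbar : Subgroup _).map
    (Subgroup.centralizer ({gbar} : Set (G ⧸ N))).subtype with hDbar
  have hDp : IsPGroup p Dbar := Pbar.isPGroup'.map _
  have hDc : Dbar ≤ Subgroup.centralizer ({gbar} : Set (G ⧸ N)) := Subgroup.map_subtype_le _
  -- the image of the idempotent of `B`
  set A : G ⧸ N → ℂ := imgCoeff N B with hA
  have hAc : IsClassFunction (G ⧸ N) A := imgCoeff_isClassFunction N B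
  have hAR : ∀ q, MemLocalRing M (A q) := imgCoeff_memLocalRing N hMp hB
  set f : G ⧸ N → ℂ := fun q => if MemLocalIdeal M (A q) then 0 else A q with hf
  have hfc : IsClassFunction (G ⧸ N) f := by
    intro q r
    simp only [hf]
    rw [hAc q r]
  have hfR : ∀ q, MemLocalRing M (f q) := by
    intro q
    simp only [hf]
    split_ifs
    · exact memLocalRing_zero hMp
    · exact hAR q
  have hu : ∀ χ ∈ Bbar, ¬ MemLocalIdeal M (omega ((χ : IrrCharacter (G ⧸ N)) : G ⧸ N → ℂ) f) := by
    intro χ hχ hmem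
    have h1 : omega (χ : G ⧸ N → ℂ) A = 1 := by
      rw [hA, omega_imgCoeff, omega_blockCoeff charFacts B
        (Cfsg.Agent.Lib.Helper77_QuotRank.infl N χ),
        Set.indicator_of_mem (hsub χ hχ (Cfsg.Agent.Lib.Helper77_QuotRank.infl N χ) rfl)]
    have hAfc : IsClassFunction (G ⧸ N) (A - f) := by
      intro q r
      simp only [Pi.sub_apply]
      rw [hAc q r, hfc q r]
    have h2 : MemLocalIdeal M (omega (χ : G ⧸ N → ℂ) (A - f)) := by
      refine Cfsg.Agent.Lib.Helper78_BrauerMap.memLocalIdeal_omega_of_pointwise hMp χ.2 hAfc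
        (fun q => ?_)
      simp only [Pi.sub_apply, hf]
      split_ifs with h
      · rw [sub_zero]; exact h
      · rw [sub_self]; exact memLocalIdeal_zero hMp
    rw [omega_sub, h1] at h2
    have := memLocalIdeal_add hMp h2 hmem
    rw [sub_add_cancel] at this
    exact not_memLocalIdeal_one hMp this
  obtain ⟨xbar, hfx, hDx⟩ := Cfsg.Agent.Lib.Helper78_MinMax.exists_centralized_of_blockCoeff hM
    hBbar hfc hfR hu gbar hgbar.2.1 Dbar hDp hDc
  have hAx : ¬ MemLocalIdeal M (A xbar) := by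
    intro h
    apply hfx
    simp only [hf]
    rw [if_pos h]
  -- lift the defect group
  obtain ⟨S₁, hS₁, hSle, hDS⟩ := exists_pgroup_map_ge N Dbar hDp
  set F : G → ℂ := fun x => if (QuotientGroup.mk x : G ⧸ N) = xbar then
    (if MemLocalIdeal M (blockCoeff B x) then 0 else blockCoeff B x) else 0 with hF
  have hFinv : ∀ q ∈ S₁, ∀ x : G, F (q * x * q⁻¹) = F x := by
    intro q hq x
    have hqD : (QuotientGroup.mk q : G ⧸ N) ∈ Dbar := hSle hq
    have hqc := Subgroup.mem_centralizer_iff.mp (hDx hqD) xbar (Set.mem_singleton xbar)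
    have h1 : ((QuotientGroup.mk (q * x * q⁻¹) : G ⧸ N) = xbar) ↔
        ((QuotientGroup.mk x : G ⧸ N) = xbar) := by
      rw [QuotientGroup.mk_mul, QuotientGroup.mk_mul, QuotientGroup.mk_inv]
      constructor
      · intro h
        have h' := congrArg (fun w => (QuotientGroup.mk q : G ⧸ N)⁻¹ * w *
          (QuotientGroup.mk q : G ⧸ N)) h
        simp only [mul_assoc, inv_mul_cancel_left, inv_mul_cancel, mul_one] at h'
        rw [h', hqc, inv_mul_cancel_left]
      · intro h
        rw [h, ← hqc, mul_inv_cancel_right]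
    have h2 : blockCoeff B (q * x * q⁻¹) = blockCoeff B x := blockCoeff_isClassFunction B x q
    simp only [hF, h2]
    by_cases hx : (QuotientGroup.mk x : G ⧸ N) = xbar
    · rw [if_pos hx, if_pos (h1.mpr hx)]
    · rw [if_neg hx, if_neg (fun h => hx (h1.mp h))]
  have hFR : ∀ x : G, MemLocalRing M (F x) := by
    intro x
    simp only [hF]
    split_ifs
    · exact memLocalRing_zero hMp
    · exact osima_block' hMp hB x
    · exact memLocalRing_zero hMp
  have hsum : ¬ MemLocalIdeal M (∑ x, F x) := by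
    intro h
    apply hAx
    have hdiff : MemLocalIdeal M (A xbar - ∑ x, F x) := by
      rw [hA]
      unfold imgCoeff
      rw [← Finset.sum_sub_distrib]
      refine memLocalIdeal_sum hMp _ _ fun x _ => ?_
      simp only [hF]
      by_cases hx : (QuotientGroup.mk x : G ⧸ N) = xbar
      · rw [if_pos hx, if_pos hx]
        by_cases ha : MemLocalIdeal M (blockCoeff B x)
        · rw [if_pos ha, sub_zero]; exact ha
        · rw [if_neg ha, sub_self]; exact memLocalIdeal_zero hMp
      · rw [if_neg hx, if_neg hx, sub_zero]; exact memLocalIdeal_zero hMp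
    have := memLocalIdeal_add hMp hdiff h
    rwa [sub_add_cancel] at this
  obtain ⟨x, hFx, hfix⟩ := Cfsg.Agent.Lib.Helper78_PGroupSum.exists_conj_fixed_ne_zero S₁ hS₁ hM F
    hFinv hFR hsum
  have hxa : ¬ MemLocalIdeal M (blockCoeff B x) := by
    intro h
    apply hFx
    simp only [hF]
    rw [if_pos h]
    simp
  have hS₁x : S₁ ≤ Subgroup.centralizer ({x} : Set G) := by
    intro q hq
    rw [Subgroup.mem_centralizer_iff]
    intro y hy
    rw [Set.mem_singleton_iff] at hy
    subst hy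
    have := hfix q hq
    calc y * q = (q * y * q⁻¹) * q := by rw [this]
      _ = q * y := by group
  -- the max part of the min-max theorem
  obtain ⟨g₀, hg₀⟩ := exists_isDefectClass' hMp hB
  obtain ⟨D₀⟩ : Nonempty (Sylow p (Subgroup.centralizer ({g₀} : Set G))) := inferInstance
  obtain ⟨t, ht⟩ := Cfsg.Agent.Lib.Helper78_MinMax.le_conj_of_blockCoeff_not_mem hM hB hg₀ D₀ x hxa
    S₁ hS₁ hS₁x
  set T : Subgroup G := ((D₀ : Subgroup (Subgroup.centralizer ({g₀} : Set G))).map
    (Subgroup.centralizer ({g₀} : Set G)).subtype).map (MulAut.conj t).toMonoidHom with hT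
  have hTp : IsPGroup p T := (D₀.isPGroup'.map _).map _
  have hTc : T ≤ Subgroup.centralizer ({t * g₀ * t⁻¹} : Set G) := by
    rw [Cfsg.Agent.Lib.Helper78_Defect.centralizer_conj]
    exact Subgroup.map_mono (Subgroup.map_subtype_le _)
  obtain ⟨E, hE, hTE⟩ := Cfsg.Agent.Lib.Helper78_Defect.exists_isDefectGroup_ge
    (Cfsg.Agent.Lib.Helper78_Defect.isDefectClass_conj hg₀ t) T hTp hTc
  exact ⟨E, hE, hDS.trans (Subgroup.map_mono (ht.trans hTE))⟩

end Cfsg.Agent.Lib.Helper77_QuotDefect
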