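import Mathlib
import Cfsg.Agent.Lib.Helper57_BrauerFeit
import Cfsg.Agent.Lib.Helper77_WeakOrth

/-!
# The `p`-part of the dimension of a block (helper57)

For a `p`-block `B` of `G` with `|G|_p = p ^ a` and `h₀ = min ν_p(χ(1))` (so `d(B) = a - h₀`):
`ν_p(∑_{χ ∈ B} χ(1)²) = a + h₀ = 2a - d(B)` (`factorization_block_dim`).

The proof uses, for `χ₁ ∈ B` of height zero, the integers `r(ψ, χ₁)` (all congruent modulo `p`
to the `p`-unit `r(χ₁, χ₁)`), the identity `∑_ψ ψ(1) r(ψ, χ₁) ψ = |G| χ₁°` and the fact that a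
generalized character vanishing off the `p`-regular elements has degree divisible by `p ^ a`.
-/

set_option autoImplicit false
set_option linter.unusedSectionVars false

namespace Cfsg.Agent.Lib.Helper57_BlockDim

open Cfsg
open scoped ComplexConjugate
open Cfsg.Agent.Lib.Helper3_CharBridge Cfsg.Agent.Lib.Helper3_CharOrtho
  Cfsg.Agent.Lib.Helper3_CharComplete
  Cfsg.Agent.Lib.Helper75_CharArith Cfsg.Agent.Lib.Helper57_PRegInt
  Cfsg.Agent.Lib.Helper57_HeightZero Cfsg.Agent.Lib.Helper57_BrauerFeit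
  Cfsg.Agent.Lib.Helper78_LocalRing Cfsg.Agent.Lib.Helper77_BlockBasics

variable {G : Type*} [Group G] [Fintype G] {p : ℕ} {M : Ideal AlgInt} {B : Set (IrrCharacter G)}

/-- Expansion of `p ^ a χ°` along the block of `χ`. -/
theorem sum_NN_mul (hM : IsPModular p M) (hB : IsPBlock M B) (hI : RegInt G p)
    {χ : IrrCharacter G} (hχ : χ ∈ B) (x : G) :
    ∑ ψ ∈ bset B, (NN hI χ ψ : ℂ) * (ψ : G → ℂ) x =
      ((p ^ (Nat.card G).factorization p : ℕ) : ℂ) * regPart p (χ : G → ℂ) x := by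
  classical
  set c : ℂ := ((p ^ (Nat.card G).factorization p : ℕ) : ℂ) with hc
  have hcl : IsClassFunction G (c • regPart p (χ : G → ℂ)) :=
    tilde_isClassFunction c (isClassFunction_of_isIrrCharacter χ.2)
  have h1 := congrFun (classFunction_eq_sum _ hcl) x
  rw [Finset.sum_apply] at h1
  rw [Pi.smul_apply, smul_eq_mul] at h1
  rw [h1]
  unfold bset
  rw [Finset.sum_filter]
  refine Finset.sum_congr rfl fun ψ _ => ?_
  rw [Pi.smul_apply, smul_eq_mul, classInner_smul_left, NN_spec]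
  split_ifs with h
  · rfl
  · rw [NN_eq_zero_of_not_mem hM hB hI hχ h]
    simp

/-- Osima: `∑_{ψ ∈ B} ψ(1) ψ(y) = 0` for `p`-singular `y`. -/
theorem sum_deg_mul_eq_zero (hM : IsPModular p M) (hB : IsPBlock M B) (y : G)
    (hy : p ∣ orderOf y) :
    ∑ ψ ∈ bset B, (charDegree (ψ : G → ℂ) : ℂ) * (ψ : G → ℂ) y = 0 := by
  classical
  have h1 : ¬ p ∣ orderOf (1 : G) := by
    rw [orderOf_one]
    exact hM.1.one_lt.ne' ∘ Nat.dvd_one.mp
  have h := Cfsg.Agent.Lib.Helper77_WeakOrth.weak_orthogonality_block hM hB 1 y h1 hy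
  rw [finsum_mem_eq_finite_toFinset_sum _ (Set.toFinite B)] at h
  have hts : (Set.toFinite B).toFinset = bset B := by
    ext ξ
    simp [mem_bset]
  rw [hts] at h
  have h2 := congrArg conj h
  rw [map_sum, map_zero] at h2
  rw [← h2]
  refine Finset.sum_congr rfl fun ψ _ => ?_
  rw [map_mul, apply_one_eq_charDegree, map_natCast, Complex.conj_conj]

/-- The key identity: for `χ₁ ∈ B`,
`r(χ₁, χ₁) * ∑_{ψ ∈ B} ψ(1)² = |G|_{p'} p ^ a χ₁(1) - p ^ (a + h₀ + 1) k` for an integer `k`. -/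
theorem exists_block_dim_identity (hp : p.Prime) (hM : IsPModular p M) (hB : IsPBlock M B)
    (hI : RegInt G p) {χ₁ : IrrCharacter G} (h1B : χ₁ ∈ B) :
    ∃ k : ℤ, rr hI χ₁ χ₁ * ∑ ψ ∈ bset B, (charDegree (ψ : G → ℂ) : ℤ) ^ 2 =
      (mPrime G p : ℤ) * (p : ℤ) ^ (Nat.card G).factorization p *
          (charDegree (χ₁ : G → ℂ) : ℤ) -
        (p : ℤ) ^ ((Nat.card G).factorization p + h0 p B + 1) * k := by
  classical
  set a := (Nat.card G).factorization p with ha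
  set h := h0 p B with hh
  set r₁ := rr hI χ₁ χ₁ with hr₁
  have hpi : Prime (p : ℤ) := Nat.prime_iff_prime_int.mp hp
  have hpC : (p : ℂ) ≠ 0 := Nat.cast_ne_zero.mpr hp.ne_zero
  -- the coefficients
  have hdiv : ∀ ψ ∈ B, (p : ℤ) ^ (h + 1) ∣
      (charDegree (ψ : G → ℂ) : ℤ) * (rr hI ψ χ₁ - r₁) := by
    intro ψ hψ
    rw [pow_succ]
    apply mul_dvd_mul
    · have : p ^ h ∣ charDegree (ψ : G → ℂ) :=
        (pow_dvd_pow p (h0_le hψ)).trans (Nat.ordProj_dvd _ p)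
      exact_mod_cast (Int.natCast_dvd_natCast.mpr this)
    · exact rr_congr hM hB hI hψ h1B χ₁
  obtain ⟨c, hcs⟩ : ∃ c : IrrCharacter G → ℤ, ∀ ψ ∈ B, (p : ℤ) ^ (h + 1) * c ψ =
      (charDegree (ψ : G → ℂ) : ℤ) * (rr hI ψ χ₁ - r₁) :=
    ⟨fun ψ => (charDegree (ψ : G → ℂ) : ℤ) * (rr hI ψ χ₁ - r₁) / (p : ℤ) ^ (h + 1),
      fun ψ hψ => Int.mul_ediv_cancel' (hdiv ψ hψ)⟩
  obtain ⟨Θ, hΘ⟩ : ∃ Θ : G → ℂ, Θ = ∑ ψ ∈ bset B, (c ψ : ℂ) • (ψ : G → ℂ) := ⟨_, rfl⟩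
  have hΘx : ∀ x, Θ x = ∑ ψ ∈ bset B, (c ψ : ℂ) * (ψ : G → ℂ) x := by
    intro x
    rw [hΘ, Finset.sum_apply]
    rfl
  have hcl : IsClassFunction G Θ := by
    rw [hΘ]
    exact isClassFunction_sum _ _ (fun ψ _ =>
      isClassFunction_smul _ (isClassFunction_of_isIrrCharacter ψ.2))
  have hint : ∀ ξ : IrrCharacter G, ∃ n : ℤ, classInner Θ (ξ : G → ℂ) = n := by
    intro ξ
    refine ⟨∑ ψ ∈ bset B, c ψ * (if (ψ : G → ℂ) = (ξ : G → ℂ) then 1 else 0), ?_⟩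
    rw [hΘ, classInner_sum_left]
    push_cast
    refine Finset.sum_congr rfl fun ψ _ => ?_
    rw [classInner_smul_left, classInner_irr ψ.2 ξ.2]
  -- the scaled version
  have hscaled : ∀ x, ((p : ℂ)) ^ (h + 1) * Θ x =
      (mPrime G p : ℂ) * (((p ^ a : ℕ) : ℂ) * regPart p (χ₁ : G → ℂ) x) -
        (r₁ : ℂ) * ∑ ψ ∈ bset B, (charDegree (ψ : G → ℂ) : ℂ) * (ψ : G → ℂ) x := by
    intro x
    rw [hΘx, ← sum_NN_mul hM hB hI h1B x, Finset.mul_sum, Finset.mul_sum, Finset.mul_sum,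
      ← Finset.sum_sub_distrib]
    refine Finset.sum_congr rfl fun ψ hψ => ?_
    have e1 := hcs ψ (mem_bset.mp hψ)
    have e2 := rr_mul hI ψ χ₁
    rw [NN_symm] at e2
    have e1' := congrArg (Int.cast : ℤ → ℂ) e1
    have e2' := congrArg (Int.cast : ℤ → ℂ) e2
    push_cast at e1' e2'
    linear_combination ((ψ : G → ℂ) x) * e1' + ((ψ : G → ℂ) x) * e2'
  have hvan : ∀ y : G, p ∣ orderOf y → Θ y = 0 := by
    intro y hy
    have h1 := hscaled y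
    rw [regPart_of_dvd _ hy, sum_deg_mul_eq_zero hM hB y hy] at h1
    simp only [mul_zero, sub_zero] at h1
    rcases mul_eq_zero.mp h1 with h2 | h2
    · exact absurd h2 (pow_ne_zero _ hpC)
    · exact h2
  obtain ⟨k, hk⟩ := pow_dvd_of_vanish_int hp hcl hint hvan
  rw [← ha] at hk
  have h1' : ¬ p ∣ orderOf (1 : G) := by
    rw [orderOf_one]
    exact hp.one_lt.ne' ∘ Nat.dvd_one.mp
  have hs1 := hscaled 1
  rw [hk, regPart_of_not_dvd _ h1', apply_one_eq_charDegree] at hs1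
  have hs2 : ∑ ψ ∈ bset B, (charDegree (ψ : G → ℂ) : ℂ) * (ψ : G → ℂ) 1 =
      ((∑ ψ ∈ bset B, (charDegree (ψ : G → ℂ) : ℤ) ^ 2 : ℤ) : ℂ) := by
    push_cast
    refine Finset.sum_congr rfl fun ψ _ => ?_
    rw [apply_one_eq_charDegree]
    ring
  rw [hs2] at hs1
  refine ⟨k, ?_⟩
  have h3 : ((r₁ * ∑ ψ ∈ bset B, (charDegree (ψ : G → ℂ) : ℤ) ^ 2 : ℤ) : ℂ) =
      (((mPrime G p : ℤ) * (p : ℤ) ^ a * (charDegree (χ₁ : G → ℂ) : ℤ) -
        (p : ℤ) ^ (a + h + 1) * k : ℤ) : ℂ) := by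
    push_cast
    push_cast at hs1
    linear_combination hs1
  exact_mod_cast h3

/-- Arithmetic: `r * S = p ^ n * q` with `p ∤ r`, `p ∤ q` gives `p ^ n ∥ S`. -/
theorem arith2 (hp : p.Prime) {S r q : ℤ} {n : ℕ} (h : r * S = (p : ℤ) ^ n * q)
    (hr : ¬ (p : ℤ) ∣ r) (hq : ¬ (p : ℤ) ∣ q) :
    (p : ℤ) ^ n ∣ S ∧ ¬ (p : ℤ) ^ (n + 1) ∣ S := by
  have hpi : Prime (p : ℤ) := Nat.prime_iff_prime_int.mp hp
  have hp0 : (p : ℤ) ≠ 0 := by exact_mod_cast hp.ne_zero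
  constructor
  · apply Prime.pow_dvd_of_dvd_mul_left hpi n hr
    rw [h]
    exact Dvd.intro _ rfl
  · intro hd
    have h2 : (p : ℤ) ^ (n + 1) ∣ (p : ℤ) ^ n * q := by
      rw [← h]
      exact Dvd.dvd.mul_left hd r
    rw [pow_succ] at h2
    exact hq ((mul_dvd_mul_iff_left (pow_ne_zero n hp0)).mp h2)

/-- **The `p`-part of the dimension of a block**: `ν_p(∑_{χ ∈ B} χ(1)²) = a + h₀ = 2a - d`. -/
theorem factorization_block_dim (hp : p.Prime) (hM : IsPModular p M) (hB : IsPBlock M B)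
    (hI : RegInt G p) :
    (∑ ψ ∈ bset B, charDegree (ψ : G → ℂ) ^ 2).factorization p =
      (Nat.card G).factorization p + h0 p B := by
  have hpi : Prime (p : ℤ) := Nat.prime_iff_prime_int.mp hp
  have hM' := isPrime_of_isPModular hM
  obtain ⟨χ₀, h0B⟩ := isPBlock_nonempty hM' hB
  obtain ⟨χ₁, h1B, h1h⟩ := exists_height_zero_mem (p := p) ⟨χ₀, h0B⟩
  obtain ⟨k, hk⟩ := exists_block_dim_identity hp hM hB hI h1B
  have hr : ¬ (p : ℤ) ∣ rr hI χ₁ χ₁ := (height_zero_iff hp hM hB hI h1B).mp h1h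
  have hval : (charDegree (χ₁ : G → ℂ)).factorization p = h0 p B := by
    rw [val_eq_h0_add h1B, h1h, add_zero]
  obtain ⟨u, hu, hup⟩ : ∃ u : ℕ, charDegree (χ₁ : G → ℂ) = p ^ h0 p B * u ∧ ¬ p ∣ u := by
    refine ⟨charDegree (χ₁ : G → ℂ) / p ^ (charDegree (χ₁ : G → ℂ)).factorization p, ?_, ?_⟩
    · rw [← hval]
      exact (Nat.ordProj_mul_ordCompl_eq_self _ p).symm
    · exact Nat.not_dvd_ordCompl hp (charDegree_pos χ₁).ne'
  have hq : rr hI χ₁ χ₁ * ∑ ψ ∈ bset B, (charDegree (ψ : G → ℂ) : ℤ) ^ 2 =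
      (p : ℤ) ^ ((Nat.card G).factorization p + h0 p B) *
        ((mPrime G p : ℤ) * (u : ℤ) - (p : ℤ) * k) := by
    rw [hk, hu]
    push_cast
    ring
  have hqnd : ¬ (p : ℤ) ∣ ((mPrime G p : ℤ) * (u : ℤ) - (p : ℤ) * k) := by
    intro hd
    have h2 : (p : ℤ) ∣ (mPrime G p : ℤ) * (u : ℤ) := by
      have := dvd_add hd (Dvd.intro k rfl : (p : ℤ) ∣ (p : ℤ) * k)
      rwa [sub_add_cancel] at this
    rcases hpi.dvd_or_dvd h2 with h | h
    · exact not_dvd_mPrime hp (Int.natCast_dvd_natCast.mp h)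
    · exact hup (Int.natCast_dvd_natCast.mp h)
  obtain ⟨hd1, hd2⟩ := arith2 hp hq hr hqnd
  have hcast : ∑ ψ ∈ bset B, (charDegree (ψ : G → ℂ) : ℤ) ^ 2 =
      ((∑ ψ ∈ bset B, charDegree (ψ : G → ℂ) ^ 2 : ℕ) : ℤ) := by
    push_cast
    rfl
  rw [hcast] at hd1 hd2
  have hd1' : p ^ ((Nat.card G).factorization p + h0 p B) ∣
      ∑ ψ ∈ bset B, charDegree (ψ : G → ℂ) ^ 2 := by
    exact_mod_cast hd1
  have hd2' : ¬ p ^ ((Nat.card G).factorization p + h0 p B + 1) ∣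
      ∑ ψ ∈ bset B, charDegree (ψ : G → ℂ) ^ 2 := by
    intro h
    apply hd2
    exact_mod_cast h
  have hS0 : ∑ ψ ∈ bset B, charDegree (ψ : G → ℂ) ^ 2 ≠ 0 := by
    intro h
    apply hd2'
    rw [h]
    exact dvd_zero _
  have e1 := (hp.pow_dvd_iff_le_factorization hS0).mp hd1'
  have e2 : ¬ _ := fun hle => hd2' ((hp.pow_dvd_iff_le_factorization hS0).mpr hle)
  omega

end Cfsg.Agent.Lib.Helper57_BlockDim
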