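import Mathlib
import Cfsg.Prelude.Def_Blocks
import Cfsg.Agent.Lib.Helper77_QuotDefect
import Cfsg.Agent.Lib.Helper77_QuotBlocks
import Cfsg.Agent.Lib.Helper77_CentralDefect
import Cfsg.Agent.Lib.Helper77_BlockBasics
import Cfsg.Agent.S4491
import Cfsg.Agent.S0912
import Cfsg.Agent.S4808

/-!
# Blocks of `G ⧸ N` for a normal `p`-subgroup `N` (helper77)

Every block `B` of `G` contains a block of `G ⧸ N` whose defect groups are exactly the images of the
defect groups of `B`.
-/

set_option autoImplicit false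
set_option linter.unusedSectionVars false

namespace Cfsg.Agent.Lib.Helper77_QuotDefect2

open Cfsg Cfsg.Agent.Lib.Helper78_LocalRing Cfsg.Agent.Lib.Helper78_Osima
  Cfsg.Agent.Lib.Helper78_CharFacts Cfsg.Agent.Lib.Helper78_CentralChar
  Cfsg.Agent.Lib.Helper77_BlockBasics

open scoped ComplexConjugate

section conjugacy

variable {G : Type*} [Group G] [Finite G] {p : ℕ} [Fact p.Prime] {M : Ideal AlgInt}

/-- A conjugate of a defect group is a defect group. -/
theorem isDefectGroup_map_conj (hM : IsPModular p M) {B : Set (IrrCharacter G)}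
    (hB : IsPBlock M B) {P : Subgroup G} (hP : IsDefectGroup p M B P) (x : G) :
    IsDefectGroup p M B (P.map (MulAut.conj x).toMonoidHom) := by
  have hcardP := (Cfsg.Agent.Lib.Helper77_CentralDefect.card_of_isDefectGroup hM hB hP)
  obtain ⟨g, hg, D, rfl⟩ := hP
  set T : Subgroup G := ((D : Subgroup (Subgroup.centralizer ({g} : Set G))).map
    (Subgroup.centralizer ({g} : Set G)).subtype).map (MulAut.conj x).toMonoidHom with hT
  have hTp : IsPGroup p T := hcardP.1.map _
  have hTc : T ≤ Subgroup.centralizer ({x * g * x⁻¹} : Set G) := by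
    rw [Cfsg.Agent.Lib.Helper78_Defect.centralizer_conj]
    exact Subgroup.map_mono (Subgroup.map_subtype_le _)
  obtain ⟨E, hE, hTE⟩ := Cfsg.Agent.Lib.Helper78_Defect.exists_isDefectGroup_ge
    (Cfsg.Agent.Lib.Helper78_Defect.isDefectClass_conj hg x) T hTp hTc
  have hcardE := (Cfsg.Agent.Lib.Helper77_CentralDefect.card_of_isDefectGroup hM hB hE).2
  have hcardT : Nat.card T = p ^ blockDefect p B := by
    rw [hT, Subgroup.card_map_of_injective (MulAut.conj x).injective]
    exact hcardP.2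
  have : T = E := Subgroup.eq_of_le_of_card_ge hTE (by rw [hcardT, hcardE])
  rw [this]
  exact hE

/-- Defect groups of a block are conjugate. -/
theorem exists_conj_eq (hM : IsPModular p M) {B : Set (IrrCharacter G)}
    (hB : IsPBlock M B) {P P' : Subgroup G} (hP : IsDefectGroup p M B P)
    (hP' : IsDefectGroup p M B P') : ∃ x : G, P' = P.map (MulAut.conj x).toMonoidHom := by
  have hcardP := (Cfsg.Agent.Lib.Helper77_CentralDefect.card_of_isDefectGroup hM hB hP)
  have hcardP' := (Cfsg.Agent.Lib.Helper77_CentralDefect.card_of_isDefectGroup hM hB hP')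
  obtain ⟨g, hg, D, rfl⟩ := hP
  obtain ⟨g', hg', D', rfl⟩ := hP'
  obtain ⟨x, hx⟩ := Cfsg.Agent.Lib.Helper78_MinMax.le_conj_of_blockCoeff_not_mem hM hB hg D g'
    hg'.2.1 _ hcardP'.1 (Subgroup.map_subtype_le _)
  refine ⟨x, Subgroup.eq_of_le_of_card_ge hx ?_⟩
  rw [Subgroup.card_map_of_injective (MulAut.conj x).injective, hcardP.2, hcardP'.2]

end conjugacy

section main

variable {G : Type*} [Group G] [Finite G] {p : ℕ} [Fact p.Prime] {M : Ideal AlgInt}

open Cfsg.Agent.Lib.Helper77_QuotRank (infl infl_apply infl_injective infl_ker)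

/-- The irreducible characters of `G ⧸ N` whose inflation lies in `B`. -/
def quotSet (N : Subgroup G) [N.Normal] (B : Set (IrrCharacter G)) :
    Set (IrrCharacter (G ⧸ N)) := {χ | infl N χ ∈ B}

theorem quotSet_closed (hMp : M.IsPrime) (N : Subgroup G) [N.Normal]
    {B : Set (IrrCharacter G)} (hB : IsPBlock M B) (χ : IrrCharacter (G ⧸ N))
    (hχ : χ ∈ quotSet N B) (ψ : IrrCharacter (G ⧸ N))
    (h : SameBlock M (χ : G ⧸ N → ℂ) (ψ : G ⧸ N → ℂ)) : ψ ∈ quotSet N B := by
  have h2 := Cfsg.Agent.Lib.Helper77_QuotBlocks.sameBlock_comp_mk hMp N h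
  exact isPBlock_mem_of_sameBlock hMp hB hχ h2

theorem charDegree_infl (N : Subgroup G) [N.Normal] (χ : IrrCharacter (G ⧸ N)) :
    charDegree (infl N χ : G → ℂ) = charDegree (χ : G ⧸ N → ℂ) := rfl

/-- The sum of the squares of the degrees in `B` is `|N|` times the sum over the characters of
`G ⧸ N` inflating into `B`. -/
theorem sum_deg_sq_eq (hM : IsPModular p M) (N : Subgroup G) [N.Normal] (hN : IsPGroup p N)
    {B : Set (IrrCharacter G)} (hB : IsPBlock M B) :
    ∑ᶠ χ ∈ B, charDegree (χ : G → ℂ) ^ 2 =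
      Nat.card N * ∑ᶠ χ ∈ quotSet N B, charDegree (χ : G ⧸ N → ℂ) ^ 2 := by
  classical
  have := Fintype.ofFinite G
  have := Fintype.ofFinite N
  have hp : p.Prime := Fact.out
  have hMp : M.IsPrime := isPrime_of_isPModular hM
  have hfin : Finite (IrrCharacter G) := charFacts.finite
  have hfin' : Finite (IrrCharacter (G ⧸ N)) := charFacts.finite
  have hGne : (Nat.card G : ℂ) ≠ 0 := by exact_mod_cast (Nat.card_pos (α := G)).ne'
  set BF : Finset (IrrCharacter G) := (Set.toFinite B).toFinset with hBF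
  have hmemBF : ∀ χ, χ ∈ BF ↔ χ ∈ B := fun χ => Set.Finite.mem_toFinset _
  set SF : Finset (IrrCharacter (G ⧸ N)) := (Set.toFinite (quotSet N B)).toFinset with hSF
  have hmemSF : ∀ χ, χ ∈ SF ↔ χ ∈ quotSet N B := fun χ => Set.Finite.mem_toFinset _
  rw [finsum_mem_eq_finite_toFinset_sum _ (Set.toFinite B),
    finsum_mem_eq_finite_toFinset_sum _ (Set.toFinite (quotSet N B))]
  -- the coefficient at `1` in two ways
  have h1 : ∑ u : N, blockCoeff B (u : G) = blockCoeff B 1 := by
    rw [Finset.sum_eq_single (1 : N)]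
    · rfl
    · intro u _ hu
      apply Cfsg.Agent.Lib.Helper77_WeakOrth.blockCoeff_block_eq_zero_of_sing hM hB
      obtain ⟨k, hk⟩ := (IsPGroup.iff_orderOf.mp hN) u
      rw [Subgroup.orderOf_coe, hk]
      rcases Nat.eq_zero_or_pos k with h0 | h0
      · exfalso
        rw [h0, pow_zero, orderOf_eq_one_iff] at hk
        exact hu hk
      · exact dvd_pow_self p h0.ne'
    · intro h
      exact absurd (Finset.mem_univ _) h
  have hdeg : ∀ θ : IrrCharacter G, (θ : G → ℂ) 1 * conj ((θ : G → ℂ) 1) =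
      ((charDegree (θ : G → ℂ) ^ 2 : ℕ) : ℂ) := by
    intro θ
    rw [apply_one_eq_charDegree θ, Complex.conj_natCast]
    push_cast
    ring
  have h2 : blockCoeff B 1 = (Nat.card G : ℂ)⁻¹ *
      ((∑ χ ∈ BF, charDegree (χ : G → ℂ) ^ 2 : ℕ) : ℂ) := by
    unfold blockCoeff
    rw [finsum_mem_eq_finite_toFinset_sum _ (Set.toFinite B)]
    congr 1
    rw [Nat.cast_sum]
    exact Finset.sum_congr rfl fun θ _ => hdeg θ
  have h3 : ∑ u : N, blockCoeff B (u : G) = (Nat.card G : ℂ)⁻¹ * ((Nat.card N : ℂ) *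
      ((∑ χ ∈ BF.filter (fun χ => N ≤ Cfsg.Agent.S4835.irrKer χ),
        charDegree (χ : G → ℂ) ^ 2 : ℕ) : ℂ)) := by
    unfold blockCoeff
    rw [← Finset.mul_sum]
    congr 1
    simp_rw [finsum_mem_eq_finite_toFinset_sum _ (Set.toFinite B)]
    rw [Finset.sum_comm, Finset.sum_filter, Nat.cast_sum, Finset.mul_sum]
    refine Finset.sum_congr rfl fun θ _ => ?_
    rw [← Finset.mul_sum, ← map_sum, Cfsg.Agent.S4808.sum_over_normal θ N]
    split_ifs with hle
    · rw [map_mul, Complex.conj_natCast, ← hdeg θ]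
      ring
    · simp
  have h4 : ((∑ χ ∈ BF, charDegree (χ : G → ℂ) ^ 2 : ℕ) : ℂ) = ((Nat.card N *
      ∑ χ ∈ BF.filter (fun χ => N ≤ Cfsg.Agent.S4835.irrKer χ),
        charDegree (χ : G → ℂ) ^ 2 : ℕ) : ℂ) := by
    have := h3.symm.trans (h1.trans h2)
    push_cast at this ⊢
    field_simp at this
    linear_combination -this
  have h5 : ∑ χ ∈ BF, charDegree (χ : G → ℂ) ^ 2 = Nat.card N *
      ∑ χ ∈ BF.filter (fun χ => N ≤ Cfsg.Agent.S4835.irrKer χ),
        charDegree (χ : G → ℂ) ^ 2 := by exact_mod_cast h4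
  rw [h5]
  congr 1
  -- the bijection given by inflation
  have himg : BF.filter (fun χ => N ≤ Cfsg.Agent.S4835.irrKer χ) = SF.image (infl N) := by
    ext χ
    rw [Finset.mem_filter, Finset.mem_image, hmemBF]
    constructor
    · rintro ⟨hχB, hle⟩
      obtain ⟨χ', hχ'⟩ := Cfsg.Agent.Lib.Helper77_QuotBlocks.exists_quot_char N χ
        (fun u hu => (Cfsg.Agent.S4835.mem_irrKer χ u).mp (hle hu))
      have hχeq : infl N χ' = χ := Subtype.ext hχ'.symm
      refine ⟨χ', (hmemSF χ').mpr ?_, hχeq⟩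
      show infl N χ' ∈ B
      rw [hχeq]; exact hχB
    · rintro ⟨χ', hχ', rfl⟩
      refine ⟨(hmemSF χ').mp hχ', fun u hu => ?_⟩
      exact (Cfsg.Agent.S4835.mem_irrKer _ u).mpr (infl_ker N χ' u hu)
  rw [himg, Finset.sum_image (fun a _ b _ h => infl_injective N h)]
  rfl

/-- Divisibility of a sum over a union of blocks, block by block. -/
theorem dvd_finsum_of_dvd_blocks {H : Type*} [Group H] [Finite H] (hMp : M.IsPrime)
    (f : IrrCharacter H → ℕ) (k : ℕ) :
    ∀ (c : ℕ) (S : Set (IrrCharacter H)), Nat.card S = c →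
    (∀ χ ∈ S, ∀ ψ : IrrCharacter H, SameBlock M (χ : H → ℂ) (ψ : H → ℂ) → ψ ∈ S) →
    (∀ χ ∈ S, k ∣ ∑ᶠ ψ ∈ blockOf M (χ : H → ℂ), f ψ) → k ∣ ∑ᶠ ψ ∈ S, f ψ := by
  classical
  have := Fintype.ofFinite H
  have hfin : Finite (IrrCharacter H) := charFacts.finite
  intro c
  induction c using Nat.strong_induction_on with
  | _ c ih =>
    intro S hc hS hdvd
    rcases S.eq_empty_or_nonempty with hemp | ⟨χ, hχ⟩
    · rw [hemp, finsum_mem_empty]
      exact dvd_zero k
    · set b : Set (IrrCharacter H) := blockOf M (χ : H → ℂ) with hb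
      have hbS : b ⊆ S := fun ψ hψ => hS χ hχ ψ hψ
      have hχb : χ ∈ b := mem_blockOf_self hMp χ
      set S' : Set (IrrCharacter H) := S \ b with hS'
      have hunion : S = b ∪ S' := by
        rw [hS', Set.union_sdiff_cancel hbS]
      have hdisj : Disjoint b S' := Set.disjoint_sdiff_right
      have hsum : ∑ᶠ ψ ∈ S, f ψ = ∑ᶠ ψ ∈ b, f ψ + ∑ᶠ ψ ∈ S', f ψ := by
        conv_lhs => rw [hunion]
        exact finsum_mem_union hdisj (Set.toFinite b) (Set.toFinite S')
      rw [hsum]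
      refine dvd_add (hdvd χ hχ) ?_
      have hlt : Nat.card S' < c := by
        rw [← hc, hS']
        have := Fintype.ofFinite (IrrCharacter H)
        rw [Nat.card_eq_fintype_card, Nat.card_eq_fintype_card, ← Set.toFinset_card,
          ← Set.toFinset_card]
        apply Finset.card_lt_card
        rw [Set.toFinset_ssubset_toFinset]
        refine ⟨Set.sdiff_subset, fun h => ?_⟩
        exact (h hχ).2 hχb
      refine ih _ hlt S' rfl ?_ ?_
      · intro θ hθ ψ hψ
        refine ⟨hS θ hθ.1 ψ hψ, fun hψb => hθ.2 ?_⟩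
        exact sameBlock_trans hMp hψb (sameBlock_symm hψ)
      · intro θ hθ
        exact hdvd θ hθ.1

/-- Order of the image of a subgroup containing `N`. -/
theorem card_map_mk_mul (N : Subgroup G) [N.Normal] {P : Subgroup G} (hNP : N ≤ P) :
    Nat.card (P.map (QuotientGroup.mk' N)) * Nat.card N = Nat.card P := by
  have hcomap : (P.map (QuotientGroup.mk' N)).comap (QuotientGroup.mk' N) = P := by
    apply Subgroup.comap_map_eq_self
    rw [QuotientGroup.ker_mk']
    exact hNP
  have hidx : (P.map (QuotientGroup.mk' N)).index = P.index := by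
    rw [← Subgroup.index_comap_of_surjective _ (QuotientGroup.mk'_surjective N), hcomap]
  have h1 := Subgroup.card_mul_index P
  have h2 := Subgroup.card_mul_index (P.map (QuotientGroup.mk' N))
  have h3 : Nat.card G = Nat.card (G ⧸ N) * Nat.card N :=
    Subgroup.card_eq_card_quotient_mul_card_subgroup N
  have hpos : 0 < P.index := Nat.pos_of_ne_zero Subgroup.index_ne_zero_of_finite
  have : Nat.card (P.map (QuotientGroup.mk' N)) * Nat.card N * P.index =
      Nat.card P * P.index := by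
    rw [h1, h3, ← h2, hidx]
    ring
  exact Nat.eq_of_mul_eq_mul_right hpos this

/-- Every block has a defect group. -/
theorem exists_dg {H : Type*} [Group H] [Finite H] (hM : IsPModular p M)
    {B : Set (IrrCharacter H)} (hB : IsPBlock M B) : ∃ D : Subgroup H, IsDefectGroup p M B D := by
  obtain ⟨g, hg⟩ := exists_isDefectClass' (isPrime_of_isPModular hM) hB
  obtain ⟨P⟩ : Nonempty (Sylow p (Subgroup.centralizer ({g} : Set H))) := inferInstance
  exact ⟨_, g, hg, P, rfl⟩

theorem hsub_of_mem (hM : IsPModular p M) (N : Subgroup G) [N.Normal]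
    {B : Set (IrrCharacter G)} (hB : IsPBlock M B) (χ : IrrCharacter (G ⧸ N))
    (hχ : χ ∈ quotSet N B) :
    ∀ ψ' ∈ blockOf M (χ : G ⧸ N → ℂ), ∀ ψ : IrrCharacter G,
      (ψ : G → ℂ) = (ψ' : G ⧸ N → ℂ) ∘ QuotientGroup.mk → ψ ∈ B := by
  intro ψ' hψ' ψ hψ
  have hMp : M.IsPrime := isPrime_of_isPModular hM
  have h1 : ψ' ∈ quotSet N B := quotSet_closed hMp N hB χ hχ ψ' hψ'
  have h2 : ψ = infl N ψ' := Subtype.ext hψ
  rw [h2]
  exact h1

/-- A normal `p`-subgroup lies in every defect group. -/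
theorem le_of_isDefectGroup (hM : IsPModular p M) (N : Subgroup G) [hNn : N.Normal]
    (hN : IsPGroup p N) {B : Set (IrrCharacter G)} (hB : IsPBlock M B) {P : Subgroup G}
    (hP : IsDefectGroup p M B P) : N ≤ P :=
  le_trans (Cfsg.Agent.Lib.Helper1_Cores.le_pCore hNn hN) (Cfsg.Agent.S0912.result p M hM B hB P hP)

/-- The defect of a block of `G ⧸ N` inside `B` is at most the defect of `B` minus the exponent
of `|N|`. -/
theorem pow_defect_mul_le (hM : IsPModular p M) (N : Subgroup G) [N.Normal] (hN : IsPGroup p N)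
    {B : Set (IrrCharacter G)} (hB : IsPBlock M B) (χ : IrrCharacter (G ⧸ N))
    (hχ : χ ∈ quotSet N B) :
    p ^ blockDefect p (blockOf M (χ : G ⧸ N → ℂ)) * Nat.card N ≤ p ^ blockDefect p B := by
  have hBbar : IsPBlock M (blockOf M (χ : G ⧸ N → ℂ)) := isPBlock_blockOf χ
  obtain ⟨Dbar, hDbar⟩ := exists_dg hM hBbar
  obtain ⟨P, hP, hle⟩ := Cfsg.Agent.Lib.Helper77_QuotDefect.exists_isDefectGroup_map_ge hM N _ hBbar
    B hB (hsub_of_mem hM N hB χ hχ) Dbar hDbar
  have h1 := (Cfsg.Agent.Lib.Helper77_CentralDefect.card_of_isDefectGroup hM hBbar hDbar).2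
  have h2 := (Cfsg.Agent.Lib.Helper77_CentralDefect.card_of_isDefectGroup hM hB hP).2
  have h3 := card_map_mk_mul N (le_of_isDefectGroup hM N hN hB hP)
  rw [← h1, ← h2, ← h3]
  exact Nat.mul_le_mul_right _ (Subgroup.card_le_of_le hle)

theorem finsum_deg_sq_pos {H : Type*} [Group H] [Finite H] (hMp : M.IsPrime)
    {B : Set (IrrCharacter H)} (hB : IsPBlock M B) :
    0 < ∑ᶠ χ ∈ B, charDegree (χ : H → ℂ) ^ 2 := by
  classical
  have := Fintype.ofFinite H
  have hfin : Finite (IrrCharacter H) := charFacts.finite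
  obtain ⟨χ₀, hχ₀⟩ := isPBlock_nonempty hMp hB
  rw [finsum_mem_eq_finite_toFinset_sum _ (Set.toFinite B)]
  apply Finset.sum_pos
  · intro χ _
    exact pow_pos (charDegree_pos χ) 2
  · exact ⟨χ₀, (Set.Finite.mem_toFinset _).mpr hχ₀⟩

/-- Some block of `G ⧸ N` inside `B` has the largest possible defect. -/
theorem exists_max_defect (hM : IsPModular p M) (N : Subgroup G) [N.Normal] (hN : IsPGroup p N)
    {B : Set (IrrCharacter G)} (hB : IsPBlock M B) :
    ∃ χ : IrrCharacter (G ⧸ N), χ ∈ quotSet N B ∧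
      p ^ blockDefect p (blockOf M (χ : G ⧸ N → ℂ)) * Nat.card N = p ^ blockDefect p B := by
  classical
  have hp : p.Prime := Fact.out
  have hMp : M.IsPrime := isPrime_of_isPModular hM
  by_contra hcon
  simp only [not_exists, not_and] at hcon
  obtain ⟨n, hn⟩ := IsPGroup.iff_card.mp hN
  set a := (Nat.card G).factorization p with ha
  set abar := (Nat.card (G ⧸ N)).factorization p with habar
  set d := blockDefect p B with hd
  have hcard : Nat.card G = Nat.card (G ⧸ N) * Nat.card N :=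
    Subgroup.card_eq_card_quotient_mul_card_subgroup N
  have ha_eq : a = abar + n := by
    rw [ha, hcard, Nat.factorization_mul (Nat.card_pos).ne' (Nat.card_pos).ne', hn,
      Finsupp.add_apply, Nat.Prime.factorization_pow hp]
    simp [habar]
  have hd_le : d ≤ a := Nat.sub_le _ _
  have hS := Cfsg.Agent.S4491.result p M hM B hB
  have hsum := sum_deg_sq_eq hM N hN hB
  have hposB := finsum_deg_sq_pos hMp hB
  have hQne : ∑ᶠ χ ∈ quotSet N B, charDegree (χ : G ⧸ N → ℂ) ^ 2 ≠ 0 := by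
    intro h0
    rw [hsum, h0, mul_zero] at hposB
    exact lt_irrefl _ hposB
  have hνQ : n + (∑ᶠ χ ∈ quotSet N B, charDegree (χ : G ⧸ N → ℂ) ^ 2).factorization p =
      2 * a - d := by
    rw [← hS, hsum, Nat.factorization_mul (Nat.card_pos).ne' hQne, hn, Finsupp.add_apply,
      Nat.Prime.factorization_pow hp]
    simp
  have hdvd : p ^ (2 * abar + n + 1 - d) ∣
      ∑ᶠ χ ∈ quotSet N B, charDegree (χ : G ⧸ N → ℂ) ^ 2 := by
    refine dvd_finsum_of_dvd_blocks hMp _ _ _ _ rfl (quotSet_closed hMp N hB) ?_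
    intro χ hχ
    have hBbar : IsPBlock M (blockOf M (χ : G ⧸ N → ℂ)) := isPBlock_blockOf χ
    have h1 := pow_defect_mul_le hM N hN hB χ hχ
    have h2 := hcon χ hχ
    rw [hn, ← pow_add] at h1 h2
    have h3 : blockDefect p (blockOf M (χ : G ⧸ N → ℂ)) + n ≤ d :=
      (Nat.pow_le_pow_iff_right hp.one_lt).mp h1
    have h4 : blockDefect p (blockOf M (χ : G ⧸ N → ℂ)) + n ≠ d := fun h => h2 (by rw [h])
    have h5 := Cfsg.Agent.S4491.result p M hM _ hBbar
    rw [hp.pow_dvd_iff_le_factorization (finsum_deg_sq_pos hMp hBbar).ne', h5]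
    omega
  rw [hp.pow_dvd_iff_le_factorization hQne] at hdvd
  omega

/-- **Blocks of `G ⧸ N` for a normal `p`-subgroup `N`.** -/
theorem exists_block_quot (hM : IsPModular p M) (N : Subgroup G) [N.Normal] (hN : IsPGroup p N)
    {B : Set (IrrCharacter G)} (hB : IsPBlock M B) :
    ∃ Bbar : Set (IrrCharacter (G ⧸ N)), IsPBlock M Bbar ∧
      (∀ χ ∈ Bbar, ∀ ψ : IrrCharacter G,
        (ψ : G → ℂ) = (χ : G ⧸ N → ℂ) ∘ QuotientGroup.mk → ψ ∈ B) ∧
      ∀ Dbar : Subgroup (G ⧸ N), IsDefectGroup p M Bbar Dbar ↔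
        ∃ P : Subgroup G, IsDefectGroup p M B P ∧ Dbar = P.map (QuotientGroup.mk' N) := by
  classical
  have hp : p.Prime := Fact.out
  have hMp : M.IsPrime := isPrime_of_isPModular hM
  obtain ⟨χ₀, hχ₀, hcard⟩ := exists_max_defect hM N hN hB
  set Bbar : Set (IrrCharacter (G ⧸ N)) := blockOf M (χ₀ : G ⧸ N → ℂ) with hBbar_def
  have hBbar : IsPBlock M Bbar := isPBlock_blockOf χ₀
  have hsub := hsub_of_mem hM N hB χ₀ hχ₀
  have hforward : ∀ Dbar : Subgroup (G ⧸ N), IsDefectGroup p M Bbar Dbar →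
      ∃ P : Subgroup G, IsDefectGroup p M B P ∧ Dbar = P.map (QuotientGroup.mk' N) := by
    intro Dbar hDbar
    obtain ⟨P, hP, hle⟩ := Cfsg.Agent.Lib.Helper77_QuotDefect.exists_isDefectGroup_map_ge hM N _
      hBbar B hB hsub Dbar hDbar
    refine ⟨P, hP, Subgroup.eq_of_le_of_card_ge hle ?_⟩
    have h1 := (Cfsg.Agent.Lib.Helper77_CentralDefect.card_of_isDefectGroup hM hBbar hDbar).2
    have h2 := (Cfsg.Agent.Lib.Helper77_CentralDefect.card_of_isDefectGroup hM hB hP).2
    have h3 := card_map_mk_mul N (le_of_isDefectGroup hM N hN hB hP)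
    have hNpos : 0 < Nat.card N := Nat.card_pos
    have : Nat.card (P.map (QuotientGroup.mk' N)) * Nat.card N = Nat.card Dbar * Nat.card N := by
      rw [h3, h2, h1, hcard]
    exact (Nat.eq_of_mul_eq_mul_right hNpos this).le
  refine ⟨Bbar, hBbar, hsub, fun Dbar => ⟨hforward Dbar, ?_⟩⟩
  rintro ⟨P, hP, rfl⟩
  obtain ⟨D₁, hD₁⟩ := exists_dg hM hBbar
  obtain ⟨P₁, hP₁, rfl⟩ := hforward D₁ hD₁
  obtain ⟨x, rfl⟩ := exists_conj_eq hM hB hP₁ hP
  have hmap : (P₁.map (MulAut.conj x).toMonoidHom).map (QuotientGroup.mk' N) =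
      (P₁.map (QuotientGroup.mk' N)).map
        (MulAut.conj (QuotientGroup.mk' N x)).toMonoidHom := by
    rw [Subgroup.map_map, Subgroup.map_map]
    congr 1
  rw [hmap]
  exact isDefectGroup_map_conj hM hBbar hD₁ _

end main

end Cfsg.Agent.Lib.Helper77_QuotDefect2
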