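import Mathlib
import Cfsg.Prelude.Def_Blocks
import Cfsg.Prelude.Def_BlockLocal
import Cfsg.Prelude.Def_BrauerPairs
import Cfsg.Agent.Lib.Helper16_Cover
import Cfsg.Agent.Lib.Helper15_QuasiElem
import Cfsg.Agent.Lib.Helper75_CharArith
import Cfsg.Agent.Lib.Helper77_QuotDefect2

/-!
# Stable blocks of a normal subgroup whose idempotent is a block idempotent of the group (helper77)
-/

set_option autoImplicit false
set_option linter.unusedSectionVars false

namespace Cfsg.Agent.Lib.Helper77_StableCover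

open Cfsg Cfsg.Agent.Lib.Helper16_Char Cfsg.Agent.Lib.Helper16_Clifford
  Cfsg.Agent.Lib.Helper16_Orbit Cfsg.Agent.Lib.Helper16_Cover
  Cfsg.Agent.Lib.Helper78_LocalRing Cfsg.Agent.Lib.Helper78_Osima
  Cfsg.Agent.Lib.Helper78_CentralChar Cfsg.Agent.Lib.Helper78_CharFacts
open scoped ComplexConjugate

universe u

section Cover

variable {G : Type u} [Group G] [Fintype G] (N : Subgroup G) [hN : N.Normal] [Fintype N]
  {M : Ideal AlgInt}

/-- Every irreducible character of `G` lies over an irreducible character of `N`. -/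
theorem exists_under (χ : IrrCharacter G) :
    ∃ θ : IrrCharacter N, classInner (fun n : N => (χ : G → ℂ) n) (θ : N → ℂ) ≠ 0 := by
  have h1 : IsCharacter N (fun n : N => (χ : G → ℂ) n) :=
    Cfsg.Agent.Lib.Helper75_CharArith.isCharacter_restrict N
      (Cfsg.Agent.Lib.Helper3_CharBridge.isCharacter_of_isIrrCharacter χ.2)
  obtain ⟨φ, hφ, hne⟩ := Cfsg.Agent.Lib.Helper15_QuasiElem.exists_constituent h1
    (isIrrCharacter_one_ne_zero χ.2)
  exact ⟨⟨φ, hφ⟩, hne⟩

/-- The conjugate given by `StabilizesBlock` is `cjIrr`. -/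
theorem cjIrr_mem_of_stabilizes {c : Set (IrrCharacter N)} {x : G}
    (h : StabilizesBlock N c x) {θ : IrrCharacter N} (hθ : θ ∈ c) : cjIrr N x θ ∈ c := by
  obtain ⟨θ', hθ', hconj⟩ := h.2 θ hθ
  have : cjIrr N x θ = θ' := by
    apply Subtype.ext
    funext n
    show cj N x (θ : N → ℂ) n = (θ' : N → ℂ) n
    unfold cj
    symm
    apply hconj
    rw [MulAut.conjNormal_apply]
    group
  rw [this]
  exact hθ'

theorem gClosure_eq_of_stable {c : Set (IrrCharacter N)}
    (hst : ∀ x : G, StabilizesBlock N c x) : gClosure N c = c := by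
  apply Set.Subset.antisymm
  · rintro φ ⟨x, θ, hθ, h⟩
    have h1 := cjIrr_mem_of_stabilizes N (hst x) hθ
    have h2 : cjIrr N x θ = φ := Subtype.ext h.symm
    rw [← h2]
    exact h1
  · exact subset_gClosure N c

/-- If `c` is a `G`-stable block of `N`, `B` is a block of `G` covering `c`, and the idempotent of `B`
is supported on `N`, then the idempotents of `B` and `c` agree. -/
theorem blockCoeff_eq_extZero (hM : M.IsPrime) {c : Set (IrrCharacter N)} (hc : IsPBlock M c)
    (hcst : gClosure N c = c) {B : Set (IrrCharacter G)} (hB : IsPBlock M B)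
    (hsupp : ∀ g : G, g ∉ N → blockCoeff B g = 0)
    (hcov : ∃ χ ∈ B, ∃ θ ∈ c, classInner (fun n : N => (χ : G → ℂ) n) (θ : N → ℂ) ≠ 0) :
    blockCoeff B = extZero N (blockCoeff c) := by
  classical
  obtain ⟨χ, hχ, θ, hθ, hχθ⟩ := hcov
  have hinv : ∀ x : G, cj N x (blockCoeff c) = blockCoeff c := by
    intro x
    have := cj_covF N c x
    unfold covF at this
    rw [hcst] at this
    exact this
  set F : N → ℂ := fun n => blockCoeff B (n : G) with hFdef
  have hF : ∀ x : G, cj N x F = F := by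
    intro x
    funext n
    unfold cj
    simp only [hFdef]
    rw [MulAut.conjNormal_apply]
    exact blockCoeff_isClassFunction B (n : G) x⁻¹
  have hext : extZero N F = blockCoeff B := by
    funext g
    by_cases hg : g ∈ N
    · exact extZero_mem N F ⟨g, hg⟩
    · rw [extZero_not_mem N F hg]
      exact (hsupp g hg).symm
  have hFc : IsClassFunction N F := by
    intro n h
    simp only [hFdef]
    exact blockCoeff_isClassFunction B (n : G) (h : G)
  refine eq_of_omega_eq charFacts (blockCoeff_isClassFunction B)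
    (extZero_isClassFunction N _ hinv) ?_
  intro χ'
  obtain ⟨θ', hχθ'⟩ := exists_under N χ'
  rw [omega_blockCoeff charFacts B χ', omega_extZero_eq N χ' θ' hχθ' _ hinv,
    omega_blockCoeff charFacts c θ']
  by_cases hχ' : χ' ∈ B
  · have hθ' : θ' ∈ c := by
      have := mem_gClosure_of_sameBlock N hM hc (isPBlock_sameBlock hM hB hχ hχ')
        (subset_gClosure N c hθ) hχθ hχθ'
      rwa [hcst] at this
    rw [Set.indicator_of_mem hχ', Set.indicator_of_mem hθ']
  · have hθ' : θ' ∉ c := by
      intro hθ'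
      have h1 : omega (θ : N → ℂ) F = 1 := by
        rw [← omega_extZero_eq N χ θ hχθ F hF, hext, omega_blockCoeff charFacts B χ,
          Set.indicator_of_mem hχ]
      have h2 : omega (θ' : N → ℂ) F = 0 := by
        rw [← omega_extZero_eq N χ' θ' hχθ' F hF, hext, omega_blockCoeff charFacts B χ',
          Set.indicator_of_notMem hχ']
      have h3 := memLocalIdeal_omega_sub hM (isIrrCharacter_isClassFunction θ.2)
        (isIrrCharacter_isClassFunction θ'.2) (isPBlock_sameBlock hM hc hθ hθ') hFc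
        (fun n => osima_block' hM hB (n : G))
      rw [h1, h2, sub_zero] at h3
      exact not_memLocalIdeal_one hM h3
    rw [Set.indicator_of_notMem hχ', Set.indicator_of_notMem hθ']

theorem extZero_eq_subgroupBlockCoeff (c : Set (IrrCharacter N)) :
    extZero N (blockCoeff c) = subgroupBlockCoeff N c := by
  funext g
  unfold extZero subgroupBlockCoeff
  by_cases hg : g ∈ N
  · rw [dif_pos hg]
  · rw [dif_neg hg]

end Cover

section PPowerIndex

variable {G : Type u} [Group G] [Fintype G] (N : Subgroup G) [hN : N.Normal] [Fintype N]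
  {M : Ideal AlgInt} {p : ℕ} [Fact p.Prime]

open Cfsg.Agent.Lib.Helper77_BlockBasics Cfsg.Agent.Lib.Helper77_QuotDefect2

/-- If `N` has `p`-power index, a `G`-stable block of `N` has the same idempotent as a block of
`G`. -/
theorem exists_block_eq (hM : IsPModular p M) {k : ℕ} (hidx : N.index = p ^ k)
    {c : Set (IrrCharacter N)} (hc : IsPBlock M c) (hst : ∀ x : G, StabilizesBlock N c x) :
    ∃ B : Set (IrrCharacter G), IsPBlock M B ∧
      ∀ g : G, blockCoeff B g = subgroupBlockCoeff N c g := by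
  have hMp := isPrime_of_isPModular hM
  obtain ⟨θ, hθ⟩ := isPBlock_nonempty hMp hc
  obtain ⟨χ, hχ⟩ := exists_over N θ
  have hB : IsPBlock M (blockOf M (χ : G → ℂ)) := isPBlock_blockOf χ
  refine ⟨blockOf M (χ : G → ℂ), hB, ?_⟩
  have := blockCoeff_eq_extZero N hMp hc (gClosure_eq_of_stable N hst) hB
    (fun g hg => Cfsg.Agent.Lib.Helper77_WeakOrth.blockCoeff_block_eq_zero_of_sing hM hB g
      (dvd_orderOf_of_not_mem N hidx hg))
    ⟨χ, mem_blockOf_self hMp χ, θ, hθ, hχ⟩
  intro g
  rw [this, extZero_eq_subgroupBlockCoeff]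

theorem blockCoeff_one_eq {H : Type u} [Group H] [Finite H] (B : Set (IrrCharacter H)) :
    blockCoeff B 1 = (Nat.card H : ℂ)⁻¹ *
      ((∑ᶠ χ ∈ B, charDegree (χ : H → ℂ) ^ 2 : ℕ) : ℂ) := by
  classical
  have := Fintype.ofFinite H
  have hfin : Finite (IrrCharacter H) := charFacts.finite
  unfold blockCoeff
  rw [finsum_mem_eq_finite_toFinset_sum _ (Set.toFinite B),
    finsum_mem_eq_finite_toFinset_sum _ (Set.toFinite B)]
  congr 1
  rw [Nat.cast_sum]
  refine Finset.sum_congr rfl fun θ _ => ?_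
  rw [apply_one_eq_charDegree θ, Complex.conj_natCast]
  push_cast
  ring

/-- Degree formula when the idempotents of `B` and `c` agree. -/
theorem sum_deg_sq_eq_index_mul {c : Set (IrrCharacter N)} {B : Set (IrrCharacter G)}
    (h : ∀ g : G, blockCoeff B g = subgroupBlockCoeff N c g) :
    ∑ᶠ χ ∈ B, charDegree (χ : G → ℂ) ^ 2 =
      N.index * ∑ᶠ θ ∈ c, charDegree (θ : N → ℂ) ^ 2 := by
  have h1 := h 1
  have h2 : subgroupBlockCoeff N c 1 = blockCoeff c 1 := by
    unfold subgroupBlockCoeff
    rw [dif_pos N.one_mem]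
    rfl
  rw [h2, blockCoeff_one_eq, blockCoeff_one_eq] at h1
  have hG : (Nat.card G : ℂ) ≠ 0 := by exact_mod_cast (Nat.card_pos (α := G)).ne'
  have hN0 : (Nat.card N : ℂ) ≠ 0 := by exact_mod_cast (Nat.card_pos (α := N)).ne'
  have hcard : (Nat.card G : ℂ) = (Nat.card N : ℂ) * (N.index : ℂ) := by
    exact_mod_cast (Subgroup.card_mul_index N).symm
  have h3 : ((∑ᶠ χ ∈ B, charDegree (χ : G → ℂ) ^ 2 : ℕ) : ℂ) =
      ((N.index * ∑ᶠ θ ∈ c, charDegree (θ : N → ℂ) ^ 2 : ℕ) : ℂ) := by
    rw [hcard] at h1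
    have hidx0 : (N.index : ℂ) ≠ 0 := by
      exact_mod_cast (Subgroup.index_ne_zero_of_finite (H := N))
    field_simp at h1
    rw [Nat.cast_mul]
    exact h1
  exact_mod_cast h3

/-- Defects when the idempotents of `B` and `c` agree. -/
theorem blockDefect_eq_add (hM : IsPModular p M) {k : ℕ} (hidx : N.index = p ^ k)
    {c : Set (IrrCharacter N)} (hc : IsPBlock M c) {B : Set (IrrCharacter G)}
    (hB : IsPBlock M B) (h : ∀ g : G, blockCoeff B g = subgroupBlockCoeff N c g) :
    blockDefect p B = blockDefect p c + k := by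
  have hp : p.Prime := Fact.out
  have hMp := isPrime_of_isPModular hM
  have h1 := Cfsg.Agent.S4491.result p M hM B hB
  have h2 := Cfsg.Agent.S4491.result p M hM c hc
  have h3 := sum_deg_sq_eq_index_mul N h
  have hcpos := finsum_deg_sq_pos hMp hc
  have ha : (Nat.card G).factorization p = (Nat.card N).factorization p + k := by
    rw [← Subgroup.card_mul_index N, hidx,
      Nat.factorization_mul (Nat.card_pos).ne' (pow_pos hp.pos k).ne', Finsupp.add_apply,
      Nat.Prime.factorization_pow hp]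
    simp
  have hν : (∑ᶠ χ ∈ B, charDegree (χ : G → ℂ) ^ 2).factorization p =
      k + (∑ᶠ θ ∈ c, charDegree (θ : N → ℂ) ^ 2).factorization p := by
    rw [h3, hidx, Nat.factorization_mul (pow_pos hp.pos k).ne' hcpos.ne', Finsupp.add_apply,
      Nat.Prime.factorization_pow hp]
    simp
  have hd1 : blockDefect p B ≤ (Nat.card G).factorization p := Nat.sub_le _ _
  have hd2 : blockDefect p c ≤ (Nat.card N).factorization p := Nat.sub_le _ _
  omega

/-- **Defect groups** when the idempotent of the block `B` of `G` is the idempotent of the block `c`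
of the normal subgroup `N` of `p`-power index. -/
theorem defect_groups_of_eq (hM : IsPModular p M) {k : ℕ} (hidx : N.index = p ^ k)
    {c : Set (IrrCharacter N)} (hc : IsPBlock M c) {B : Set (IrrCharacter G)}
    (hB : IsPBlock M B) (h : ∀ g : G, blockCoeff B g = subgroupBlockCoeff N c g)
    {P : Subgroup G} (hP : IsDefectGroup p M B P) :
    N ⊔ P = ⊤ ∧ IsDefectGroup p M c ((P ⊓ N).subgroupOf N) := by
  classical
  have hp : p.Prime := Fact.out
  have hMp := isPrime_of_isPModular hM
  have hcardP := Cfsg.Agent.Lib.Helper77_CentralDefect.card_of_isDefectGroup hM hB hP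
  obtain ⟨g, hg, D, hPD⟩ := hP
  have hgN : g ∈ N := by
    by_contra hgN
    apply hg.2.1
    rw [h g]
    unfold subgroupBlockCoeff
    rw [dif_neg hgN]
    exact memLocalIdeal_zero hMp
  set n : N := ⟨g, hgN⟩ with hn
  have hcn : blockCoeff c n = blockCoeff B g := by
    rw [h g]
    unfold subgroupBlockCoeff
    rw [dif_pos hgN]
  obtain ⟨Q, hQ⟩ := exists_dg hM hc
  have hcardQ := Cfsg.Agent.Lib.Helper77_CentralDefect.card_of_isDefectGroup hM hc hQ
  have hQ₀ := hQ
  obtain ⟨n₁, hn₁, D₁, hQD⟩ := hQ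
  set S : Subgroup N := (P ⊓ N).subgroupOf N with hS
  have hSp : IsPGroup p S := (hcardP.1.to_le inf_le_left).comap_subtype
  have hPcent : P ≤ Subgroup.centralizer ({g} : Set G) := by
    rw [hPD]
    exact Subgroup.map_subtype_le _
  have hSc : S ≤ Subgroup.centralizer ({n} : Set N) := by
    intro s hs
    rw [Subgroup.mem_centralizer_singleton_iff]
    have h1 : (s : G) ∈ P := (Subgroup.mem_subgroupOf.mp hs).1
    have h2 := Subgroup.mem_centralizer_singleton_iff.mp (hPcent h1)
    apply Subtype.ext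
    exact h2
  obtain ⟨x, hx⟩ := Cfsg.Agent.Lib.Helper78_MinMax.le_conj_of_blockCoeff_not_mem hM hc hn₁ D₁ n
    (by rw [hcn]; exact hg.2.1) S hSp hSc
  rw [← hQD] at hx
  have hQ' := isDefectGroup_map_conj hM hc hQ₀ x
  -- the cardinality of `S`
  have hQG : IsPGroup p (Q.map N.subtype) := hcardQ.1.map _
  have hQGc : Q.map N.subtype ≤ Subgroup.centralizer ({(n₁ : G)} : Set G) := by
    rintro _ ⟨q, hq, rfl⟩
    have hq' : q ∈ Subgroup.centralizer ({n₁} : Set N) := by
      rw [hQD] at hq
      exact Subgroup.map_subtype_le _ hq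
    rw [Subgroup.mem_centralizer_singleton_iff] at hq' ⊢
    exact congrArg Subtype.val hq'
  have hBn₁ : ¬ MemLocalIdeal M (blockCoeff B (n₁ : G)) := by
    rw [h]
    unfold subgroupBlockCoeff
    rw [dif_pos n₁.2]
    exact hn₁.2.1
  obtain ⟨y, hy⟩ := Cfsg.Agent.Lib.Helper78_MinMax.le_conj_of_blockCoeff_not_mem hM hB hg D
    (n₁ : G) hBn₁ _ hQG hQGc
  rw [← hPD] at hy
  have hle : Q.map N.subtype ≤ (P ⊓ N).map (MulAut.conj y).toMonoidHom := by
    rintro _ ⟨q, hq, rfl⟩
    obtain ⟨z, hz, hzq⟩ := hy ⟨q, hq, rfl⟩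
    refine ⟨z, ⟨hz, ?_⟩, hzq⟩
    have hz' : z = y⁻¹ * (q : G) * y := by
      have h1 : y * z * y⁻¹ = (q : G) := hzq
      rw [← h1]
      group
    rw [SetLike.mem_coe, hz']
    have := hN.conj_mem (q : G) q.2 y⁻¹
    rwa [inv_inv] at this
  have hcard : Nat.card Q ≤ Nat.card S := by
    calc Nat.card Q = Nat.card (Q.map N.subtype) :=
          (Subgroup.card_map_of_injective (Subgroup.subtype_injective N)).symm
      _ ≤ Nat.card ((P ⊓ N).map (MulAut.conj y).toMonoidHom) := Subgroup.card_le_of_le hle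
      _ = Nat.card (P ⊓ N : Subgroup G) :=
          Subgroup.card_map_of_injective (MulAut.conj y).injective
      _ = Nat.card S :=
          (Nat.card_congr (Subgroup.subgroupOfEquivOfLe inf_le_right).toEquiv).symm
  have hSQ : S = Q.map (MulAut.conj x).toMonoidHom :=
    Subgroup.eq_of_le_of_card_ge hx (by
      rw [Subgroup.card_map_of_injective (MulAut.conj x).injective]
      exact hcard)
  refine ⟨?_, by rw [hSQ]; exact hQ'⟩
  -- `N ⊔ P = ⊤`
  have hd := blockDefect_eq_add N hM hidx hc hB h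
  have hcardS : Nat.card S = p ^ blockDefect p c := by
    rw [hSQ, Subgroup.card_map_of_injective (MulAut.conj x).injective, hcardQ.2]
  rw [← Subgroup.index_eq_one]
  have h1 : N.relIndex (N ⊔ P) * (N ⊔ P).index = N.index :=
    Subgroup.relIndex_mul_index le_sup_left
  rw [Subgroup.relIndex_sup_left] at h1
  have h2 : Nat.card (N.subgroupOf P) * N.relIndex P = Nat.card P :=
    Subgroup.card_mul_index (N.subgroupOf P)
  have h3 : Nat.card (N.subgroupOf P) = Nat.card S := by
    rw [← Subgroup.inf_subgroupOf_left N P]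
    exact (Nat.card_congr (Subgroup.subgroupOfEquivOfLe inf_le_left).toEquiv).trans
      (Nat.card_congr (Subgroup.subgroupOfEquivOfLe inf_le_right).toEquiv).symm
  rw [h3, hcardS, hcardP.2, hd, pow_add] at h2
  have h4 : N.relIndex P = p ^ k := Nat.eq_of_mul_eq_mul_left (pow_pos hp.pos _) h2
  rw [h4, hidx] at h1
  exact Nat.eq_of_mul_eq_mul_left (pow_pos hp.pos k) (by rw [h1, mul_one])

end PPowerIndex

end Cfsg.Agent.Lib.Helper77_StableCover
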