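import Mathlib
import Cfsg.Prelude.Def_Blocks
import Cfsg.Prelude.Def_BlockLocal
import Cfsg.Prelude.Def_BrauerPairs
import Cfsg.Agent.Lib.Helper77_QuotDefect2
import Cfsg.Agent.Lib.Helper77_StableCover
import Cfsg.Agent.Lib.Helper80_BrolineGarrison
import Cfsg.Agent.S0887

/-!
# Weights force centric radical Brauer pairs (helper77, S4694)
-/

set_option autoImplicit false
set_option linter.unusedSectionVars false

namespace Cfsg.Agent.Lib.Helper77_Weight

open Cfsg Cfsg.Agent.Lib.Helper78_LocalRing Cfsg.Agent.Lib.Helper78_Osima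
  Cfsg.Agent.Lib.Helper78_CharFacts Cfsg.Agent.Lib.Helper78_CentralChar
  Cfsg.Agent.Lib.Helper77_BlockBasics Cfsg.Agent.Lib.Helper77_QuotDefect2
  Cfsg.Agent.Lib.Helper77_QuotBlocks

open scoped ComplexConjugate
open Cfsg.Agent.Lib.Helper77_QuotRank (infl infl_apply)

section central

variable {G : Type*} [Group G] [Finite G] {p : ℕ} [Fact p.Prime] {M : Ideal AlgInt}

/-- A block containing a character that has the central `p`-subgroup `Z` in its kernel and is of
defect zero as a character of `G ⧸ Z` has defect group `Z`. -/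
theorem isDefectGroup_of_central (hM : IsPModular p M) {B : Set (IrrCharacter G)}
    (hB : IsPBlock M B) (Z : Subgroup G) (hZc : Z ≤ Subgroup.center G) (hZ : IsPGroup p Z)
    (θ : IrrCharacter G) (hθ : θ ∈ B) (hk : ∀ u ∈ Z, (θ : G → ℂ) u = (θ : G → ℂ) 1)
    (hdeg : (Nat.card G).factorization p ≤
      (charDegree (θ : G → ℂ)).factorization p + (Nat.card Z).factorization p) :
    IsDefectGroup p M B Z := by
  classical
  have hp : p.Prime := Fact.out
  have hMp : M.IsPrime := isPrime_of_isPModular hM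
  have hZn : Z.Normal := by
    constructor
    intro u hu g
    have := Subgroup.mem_center_iff.mp (hZc hu) g
    have h2 : g * u * g⁻¹ = u := by rw [this]; group
    rw [h2]; exact hu
  obtain ⟨D, hD⟩ := exists_dg hM hB
  have hZD : Z ≤ D := le_of_isDefectGroup hM Z hZ hB hD
  obtain ⟨Bbar, hBbar, hinfl, hdg⟩ := exists_block_quot hM Z hZ hB
  obtain ⟨χ, hχ⟩ := exists_quot_char Z θ hk
  -- `χ` lies in `Bbar`
  obtain ⟨ψ, hψ⟩ := isPBlock_nonempty hMp hBbar
  have hψB : infl Z ψ ∈ B := hinfl ψ hψ (infl Z ψ) rfl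
  have hsame : SameBlock M (ψ : G ⧸ Z → ℂ) (χ : G ⧸ Z → ℂ) := by
    apply sameBlock_of_comp_mk hM Z hZ _ ψ χ
    · rw [← hχ]
      exact isPBlock_sameBlock hMp hB hψB hθ
    · intro y _ u hu
      exact Subgroup.mem_center_iff.mp (hZc hu) y
  have hχB : χ ∈ Bbar := isPBlock_mem_of_sameBlock hMp hBbar hψ hsame
  -- `χ` has defect zero
  have hdegχ : charDegree (χ : G ⧸ Z → ℂ) = charDegree (θ : G → ℂ) := by
    unfold charDegree
    rw [hχ]
    rfl
  have hcardG : Nat.card G = Nat.card (G ⧸ Z) * Nat.card Z :=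
    Subgroup.card_eq_card_quotient_mul_card_subgroup Z
  have hfac : (Nat.card G).factorization p =
      (Nat.card (G ⧸ Z)).factorization p + (Nat.card Z).factorization p := by
    rw [hcardG, Nat.factorization_mul (Nat.card_pos).ne' (Nat.card_pos).ne', Finsupp.add_apply]
  have hblock : blockOf M (χ : G ⧸ Z → ℂ) = {χ} := by
    rw [← Cfsg.Agent.S0914.result p M hM χ, not_dvd_div_iff hp χ, hdegχ]
    omega
  have hBeq : Bbar = {χ} := by
    rw [isPBlock_eq_blockOf hMp hBbar hχB, hblock]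
  have hdef0 : blockDefect p Bbar = 0 := by
    rw [blockDefect_eq_zero_iff p Bbar ⟨χ, hχB⟩]
    intro χ' hχ'
    rw [hBeq, Set.mem_singleton_iff] at hχ'
    rw [hχ', hdegχ]
    omega
  have hDbar : IsDefectGroup p M Bbar (D.map (QuotientGroup.mk' Z)) :=
    (hdg _).mpr ⟨D, hD, rfl⟩
  have hcard := (Cfsg.Agent.Lib.Helper77_CentralDefect.card_of_isDefectGroup hM hBbar hDbar).2
  rw [hdef0, pow_zero, Subgroup.card_eq_one] at hcard
  have hDZ : D ≤ Z := by
    intro d hd
    have h1 : (QuotientGroup.mk' Z) d ∈ D.map (QuotientGroup.mk' Z) := ⟨d, hd, rfl⟩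
    rw [hcard, Subgroup.mem_bot] at h1
    exact (QuotientGroup.eq_one_iff d).mp h1
  rw [le_antisymm hZD hDZ]
  exact hD

end central

section weight

universe u

variable {X : Type u} [Group X] [Fintype X] {p : ℕ} [Fact p.Prime] {M : Ideal AlgInt}

/-- The `p`-part inequality given by `S0887`. -/
theorem val_le_of_under (N : Subgroup X) [N.Normal] [Fintype N] (χ : IrrCharacter X)
    (θ : IrrCharacter N)
    (hcon : classInner (fun n : N => (χ : X → ℂ) n) (θ : N → ℂ) ≠ 0) :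
    (charDegree (χ : X → ℂ)).factorization p + (Nat.card N).factorization p ≤
      (charDegree (θ : N → ℂ)).factorization p + (Nat.card X).factorization p := by
  obtain ⟨hd, hq⟩ := Cfsg.Agent.S0887.result N χ χ.2 θ θ.2 hcon (charDegree (χ : X → ℂ))
    (charDegree (θ : N → ℂ)) (apply_one_eq_charDegree χ) (apply_one_eq_charDegree θ)
  have hc0 : charDegree (χ : X → ℂ) ≠ 0 := by
    intro h0
    have h1 := apply_one_eq_charDegree χ
    rw [h0] at h1
    exact Cfsg.Agent.Lib.Helper75_Clifford.irr_one_ne_zero χ.2 (by simpa using h1)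
  obtain ⟨k, hk⟩ := hd
  have hd0 : charDegree (θ : N → ℂ) ≠ 0 := by
    intro h0; rw [h0, zero_mul] at hk; exact hc0 hk
  have hk0 : k ≠ 0 := by
    intro h0; rw [h0, mul_zero] at hk; exact hc0 hk
  rw [hk, Nat.mul_div_cancel_left _ (Nat.pos_of_ne_zero hd0)] at hq
  have hidx : N.index ≠ 0 := Subgroup.index_ne_zero_of_finite
  have h1 : k.factorization p ≤ N.index.factorization p :=
    (Nat.factorization_le_iff_dvd hk0 hidx).mpr hq p
  have h2 : Nat.card X = N.index * Nat.card N := (Subgroup.index_mul_card N).symm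
  rw [hk, Nat.factorization_mul hd0 hk0, h2,
    Nat.factorization_mul hidx (Nat.card_pos).ne']
  simp only [Finsupp.add_apply]
  omega


/-- `|Z| θ(1)² ≤ |N|` if `Z ≤ ker θ`. -/
theorem card_mul_sq_le {N : Type*} [Group N] [Fintype N] (θ : IrrCharacter N) (Z : Subgroup N)
    (hk : ∀ z ∈ Z, (θ : N → ℂ) z = (θ : N → ℂ) 1) :
    Nat.card Z * charDegree (θ : N → ℂ) ^ 2 ≤ Nat.card N := by
  classical
  have h1 := Cfsg.Agent.Lib.Helper3_CharOrtho.classInner_self_of_isIrrCharacter θ.2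
  unfold classInner at h1
  have hN0 : (Nat.card N : ℂ) ≠ 0 := by exact_mod_cast (Nat.card_pos).ne'
  have h2 : ∑ g : N, (θ : N → ℂ) g * conj ((θ : N → ℂ) g) = (Nat.card N : ℂ) := by
    rw [inv_mul_eq_iff_eq_mul₀ hN0, mul_one] at h1
    exact h1
  have h3 : ∑ g : N, Complex.normSq ((θ : N → ℂ) g) = (Nat.card N : ℝ) := by
    have h4 : ((∑ g : N, Complex.normSq ((θ : N → ℂ) g) : ℝ) : ℂ) = ((Nat.card N : ℝ) : ℂ) := by
      push_cast
      rw [← h2]
      apply Finset.sum_congr rfl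
      intro g _
      rw [Complex.mul_conj]
    exact_mod_cast h4
  have h5 : ∑ g ∈ Finset.univ.filter (fun g : N => g ∈ Z), Complex.normSq ((θ : N → ℂ) g) ≤
      ∑ g : N, Complex.normSq ((θ : N → ℂ) g) :=
    Finset.sum_le_sum_of_subset_of_nonneg (Finset.filter_subset _ _)
      (fun g _ _ => Complex.normSq_nonneg _)
  have h6 : ∑ g ∈ Finset.univ.filter (fun g : N => g ∈ Z), Complex.normSq ((θ : N → ℂ) g) =
      (Nat.card Z : ℝ) * (charDegree (θ : N → ℂ) : ℝ) ^ 2 := by
    have h7 : ∀ g ∈ Finset.univ.filter (fun g : N => g ∈ Z),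
        Complex.normSq ((θ : N → ℂ) g) = (charDegree (θ : N → ℂ) : ℝ) ^ 2 := by
      intro g hg
      rw [Finset.mem_filter] at hg
      rw [hk g hg.2, Cfsg.Agent.Lib.Helper80_Codegree.apply_one_eq_charDegree θ,
        Complex.normSq_natCast, sq]
    rw [Finset.sum_congr rfl h7, Finset.sum_const, nsmul_eq_mul]
    congr 2
    rw [Nat.card_eq_fintype_card, Fintype.card_subtype]
  rw [h3, h6] at h5
  exact_mod_cast h5

/-- In a group with a weight character relative to the normal `p`-subgroup `Qx`, every normal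
`p`-subgroup lies in `Qx`. -/
theorem normal_pgroup_le (χ : IrrCharacter X) (Qx : Subgroup X) [Qx.Normal]
    (hQ : IsPGroup p Qx) (hQk : ∀ q ∈ Qx, (χ : X → ℂ) q = (χ : X → ℂ) 1)
    (hdeg : (charDegree (χ : X → ℂ)).factorization p + (Nat.card Qx).factorization p =
      (Nat.card X).factorization p)
    (R : Subgroup X) [R.Normal] (hR : IsPGroup p R) : R ≤ Qx := by
  classical
  have hp : p.Prime := Fact.out
  have hR'p : IsPGroup p (R ⊔ Qx : Subgroup X) := IsPGroup.to_sup_of_normal_right hR hQ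
  have : Fintype (R ⊔ Qx : Subgroup X) := Fintype.ofFinite _
  obtain ⟨θ, hθ⟩ := Cfsg.Agent.Lib.Helper77_StableCover.exists_under (R ⊔ Qx) χ
  have h1 := val_le_of_under (p := p) (R ⊔ Qx) χ θ hθ
  have hk : ∀ z ∈ Qx.subgroupOf (R ⊔ Qx), (θ : (R ⊔ Qx : Subgroup X) → ℂ) z =
      (θ : (R ⊔ Qx : Subgroup X) → ℂ) 1 := by
    intro z hz
    exact Cfsg.Agent.Lib.Helper80_BrolineGarrison.ker_constituent _
      (Cfsg.Agent.Lib.Helper75_CharArith.isCharacter_restrict (R ⊔ Qx)
        (Cfsg.Agent.Lib.Helper3_CharBridge.isCharacter_of_isIrrCharacter χ.2)) θ hθ z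
      (hQk z hz)
  have h2 := card_mul_sq_le θ (Qx.subgroupOf (R ⊔ Qx)) hk
  have hcQ : Nat.card (Qx.subgroupOf (R ⊔ Qx)) = Nat.card Qx :=
    Nat.card_congr (Subgroup.subgroupOfEquivOfLe le_sup_right).toEquiv
  obtain ⟨n, hn⟩ := IsPGroup.iff_card.mp hR'p
  obtain ⟨m, hm⟩ := IsPGroup.iff_card.mp hQ
  have hd : charDegree (θ : (R ⊔ Qx : Subgroup X) → ℂ) ∣ Nat.card (R ⊔ Qx : Subgroup X) :=
    Cfsg.Agent.Lib.Helper77_BlockBasics.charDegree_dvd_card θ
  rw [hn] at hd
  obtain ⟨a, ha, hda⟩ := (Nat.dvd_prime_pow hp).mp hd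
  rw [hcQ, hm, hn, hda, ← pow_mul, ← pow_add] at h2
  have h3 : m + a * 2 ≤ n := (Nat.pow_le_pow_iff_right hp.one_lt).mp h2
  rw [hn, hda, hp.factorization_pow, hp.factorization_pow] at h1
  rw [hm, hp.factorization_pow] at hdeg
  simp only [Finsupp.single_eq_same] at h1 hdeg
  have h4 : n ≤ m := by omega
  have h5 : Qx = R ⊔ Qx := Subgroup.eq_of_le_of_card_ge le_sup_right (by
    rw [hn, hm]; exact Nat.pow_le_pow_right hp.pos h4)
  rw [h5]
  exact le_sup_left


/-- In a group with a weight character `χ` relative to the normal `p`-subgroup `Qx`, a normal subgroup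
`Cx` commuting with `Qx` has an irreducible character `θ` under `χ` with `Qx ⊓ Cx` in its kernel
and of defect zero modulo `Qx ⊓ Cx`. -/
theorem exists_defect_zero_under (χ : IrrCharacter X) (Qx Cx : Subgroup X) [Qx.Normal]
    [Cx.Normal] [Fintype Cx]
    (hQk : ∀ q ∈ Qx, (χ : X → ℂ) q = (χ : X → ℂ) 1)
    (hdeg : (charDegree (χ : X → ℂ)).factorization p + (Nat.card Qx).factorization p =
      (Nat.card X).factorization p) :
    ∃ θ : IrrCharacter Cx, classInner (fun c : Cx => (χ : X → ℂ) c) (θ : Cx → ℂ) ≠ 0 ∧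
      (∀ c : Cx, (c : X) ∈ Qx → (θ : Cx → ℂ) c = (θ : Cx → ℂ) 1) ∧
      (Nat.card Cx).factorization p ≤ (charDegree (θ : Cx → ℂ)).factorization p +
        (Nat.card (Qx ⊓ Cx : Subgroup X)).factorization p := by
  classical
  have hp : p.Prime := Fact.out
  have : Fintype (Qx ⊔ Cx : Subgroup X) := Fintype.ofFinite _
  obtain ⟨θ', hθ'⟩ := Cfsg.Agent.Lib.Helper77_StableCover.exists_under (Qx ⊔ Cx) χ
  have h1 := val_le_of_under (p := p) (Qx ⊔ Cx) χ θ' hθ'
  have hχL : IsCharacter (Qx ⊔ Cx : Subgroup X) (fun l : (Qx ⊔ Cx : Subgroup X) => (χ : X → ℂ) l) :=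
    Cfsg.Agent.Lib.Helper75_CharArith.isCharacter_restrict (Qx ⊔ Cx)
      (Cfsg.Agent.Lib.Helper3_CharBridge.isCharacter_of_isIrrCharacter χ.2)
  have hk : ∀ z ∈ Qx.subgroupOf (Qx ⊔ Cx), (θ' : (Qx ⊔ Cx : Subgroup X) → ℂ) z =
      (θ' : (Qx ⊔ Cx : Subgroup X) → ℂ) 1 := by
    intro z hz
    exact Cfsg.Agent.Lib.Helper80_BrolineGarrison.ker_constituent _ hχL θ' hθ' z (hQk z hz)
  obtain ⟨ψ, hψ⟩ := exists_quot_char (Qx.subgroupOf (Qx ⊔ Cx)) θ' hk
  let f : Cx →* (Qx ⊔ Cx : Subgroup X) ⧸ Qx.subgroupOf (Qx ⊔ Cx) :=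
    (QuotientGroup.mk' (Qx.subgroupOf (Qx ⊔ Cx))).comp (Subgroup.inclusion le_sup_right)
  have hf : Function.Surjective f := by
    intro y
    obtain ⟨l, rfl⟩ := QuotientGroup.mk_surjective y
    have hl : (l : X) ∈ ((Qx ⊔ Cx : Subgroup X) : Set X) := l.2
    rw [Subgroup.normal_mul] at hl
    obtain ⟨q, hq, c, hc, hqc⟩ := hl
    refine ⟨⟨c, hc⟩, ?_⟩
    show (QuotientGroup.mk (Subgroup.inclusion le_sup_right ⟨c, hc⟩) :
      (Qx ⊔ Cx : Subgroup X) ⧸ Qx.subgroupOf (Qx ⊔ Cx)) = QuotientGroup.mk l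
    rw [QuotientGroup.eq]
    rw [Subgroup.mem_subgroupOf]
    have : (((Subgroup.inclusion (le_sup_right : Cx ≤ Qx ⊔ Cx) ⟨c, hc⟩)⁻¹ * l :
        (Qx ⊔ Cx : Subgroup X)) : X) = c⁻¹ * (q * c) := by
      have hqc' : q * c = (l : X) := hqc
      rw [hqc']; rfl
    rw [this]
    have := ‹Qx.Normal›.conj_mem q hq c⁻¹
    simpa [mul_assoc] using this
  have hθirr : IsIrrCharacter Cx (fun c : Cx => (ψ : _ → ℂ) (f c)) :=
    Cfsg.Agent.Lib.Helper57_FrobNorm.isIrrCharacter_comp_surjective f hf ψ.2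
  have hθval : ∀ c : Cx, (ψ : _ → ℂ) (f c) =
      (θ' : (Qx ⊔ Cx : Subgroup X) → ℂ) (Subgroup.inclusion le_sup_right c) := by
    intro c
    rw [hψ]
    rfl
  refine ⟨⟨_, hθirr⟩, ?_, ?_, ?_⟩
  · -- `θ` lies under `χ`
    show classInner (fun c : Cx => (χ : X → ℂ) c) (fun c : Cx => (ψ : _ → ℂ) (f c)) ≠ 0
    obtain ⟨m, hm, hsum⟩ := Cfsg.Agent.Lib.Helper75_CharArith.exists_multiplicities hχL
    have hθch : IsCharacter Cx (fun c : Cx => (ψ : _ → ℂ) (f c)) :=
      Cfsg.Agent.Lib.Helper3_CharBridge.isCharacter_of_isIrrCharacter hθirr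
    have hnat : ∀ η : IrrCharacter (Qx ⊔ Cx : Subgroup X), ∃ k : ℕ,
        classInner (fun c : Cx => (η : (Qx ⊔ Cx : Subgroup X) → ℂ)
          (Subgroup.inclusion le_sup_right c)) (fun c : Cx => (ψ : _ → ℂ) (f c)) = k := by
      intro η
      exact Cfsg.Agent.Lib.Helper75_CharArith.classInner_isCharacter_nat
        (Cfsg.Agent.Lib.Helper75_CharArith.isCharacter_comp (Subgroup.inclusion le_sup_right)
          (Cfsg.Agent.Lib.Helper3_CharBridge.isCharacter_of_isIrrCharacter η.2)) hθch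
    choose k hk' using hnat
    have hexp : (fun c : Cx => (χ : X → ℂ) c) =
        ∑ η : IrrCharacter (Qx ⊔ Cx : Subgroup X), (m η : ℂ) •
          (fun c : Cx => (η : (Qx ⊔ Cx : Subgroup X) → ℂ) (Subgroup.inclusion le_sup_right c)) := by
      funext c
      have h2 := congrFun hsum (Subgroup.inclusion le_sup_right c)
      simp only [Finset.sum_apply, Pi.smul_apply, smul_eq_mul] at h2 ⊢
      rw [← h2]
      rfl
    rw [hexp, Cfsg.Agent.Lib.Helper3_CharOrtho.classInner_sum_left]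
    simp_rw [Cfsg.Agent.Lib.Helper3_CharOrtho.classInner_smul_left, hk']
    have hkθ : k θ' = 1 := by
      have h3 := hk' θ'
      have h4 : (fun c : Cx => (θ' : (Qx ⊔ Cx : Subgroup X) → ℂ)
          (Subgroup.inclusion le_sup_right c)) = (fun c : Cx => (ψ : _ → ℂ) (f c)) := by
        funext c
        exact (hθval c).symm
      rw [h4, Cfsg.Agent.Lib.Helper3_CharOrtho.classInner_self_of_isIrrCharacter hθirr] at h3
      exact_mod_cast h3.symm
    have hmθ : m θ' ≠ 0 := by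
      intro h0
      apply hθ'
      rw [hm θ', h0]
      simp
    have hpos : 0 < ∑ η : IrrCharacter (Qx ⊔ Cx : Subgroup X), m η * k η := by
      apply Finset.sum_pos'
      · intro η _; exact Nat.zero_le _
      · exact ⟨θ', Finset.mem_univ _, by rw [hkθ, mul_one]; exact Nat.pos_of_ne_zero hmθ⟩
    have hcast : (∑ η : IrrCharacter (Qx ⊔ Cx : Subgroup X), (m η : ℂ) * (k η : ℂ)) =
        ((∑ η : IrrCharacter (Qx ⊔ Cx : Subgroup X), m η * k η : ℕ) : ℂ) := by
      push_cast; rfl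
    rw [hcast]
    exact_mod_cast hpos.ne'
  · intro c hc
    show (ψ : _ → ℂ) (f c) = (ψ : _ → ℂ) (f 1)
    rw [hθval, hθval]
    have h2 := hk (Subgroup.inclusion le_sup_right c) (by
      rw [Subgroup.mem_subgroupOf]; exact hc)
    rw [h2]
    rfl
  · -- the count
    have hdegθ : charDegree (fun c : Cx => (ψ : _ → ℂ) (f c)) =
        charDegree (θ' : (Qx ⊔ Cx : Subgroup X) → ℂ) := by
      apply Cfsg.Agent.Lib.Helper78_CentralChar.charDegree_eq_of_one_eq_natCast
      rw [hθval, ← Cfsg.Agent.Lib.Helper80_Codegree.apply_one_eq_charDegree θ']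
      rfl
    show (Nat.card Cx).factorization p ≤
      (charDegree (fun c : Cx => (ψ : _ → ℂ) (f c))).factorization p +
        (Nat.card (Qx ⊓ Cx : Subgroup X)).factorization p
    rw [hdegθ]
    have hr : Qx.relIndex (Qx ⊔ Cx) = (Qx ⊓ Cx).relIndex Cx := by
      rw [Subgroup.relIndex_sup_left, Subgroup.inf_relIndex_right]
    have hL : Nat.card (Qx ⊔ Cx : Subgroup X) = Nat.card Qx * Qx.relIndex (Qx ⊔ Cx) := by
      have h2 := Subgroup.card_mul_index (Qx.subgroupOf (Qx ⊔ Cx))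
      rw [Nat.card_congr (Subgroup.subgroupOfEquivOfLe (le_sup_left : Qx ≤ Qx ⊔ Cx)).toEquiv] at h2
      exact h2.symm
    have hC : Nat.card Cx = Nat.card (Qx ⊓ Cx : Subgroup X) * (Qx ⊓ Cx).relIndex Cx := by
      have h2 := Subgroup.card_mul_index ((Qx ⊓ Cx).subgroupOf Cx)
      rw [Nat.card_congr (Subgroup.subgroupOfEquivOfLe (inf_le_right : Qx ⊓ Cx ≤ Cx)).toEquiv] at h2
      exact h2.symm
    have hr0 : (Qx ⊓ Cx).relIndex Cx ≠ 0 := by
      intro h0
      rw [h0, mul_zero] at hC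
      exact (Nat.card_pos (α := Cx)).ne' hC
    rw [hL, hr, Nat.factorization_mul (Nat.card_pos).ne' hr0] at h1
    rw [hC, Nat.factorization_mul (Nat.card_pos).ne' hr0]
    simp only [Finsupp.add_apply] at h1 ⊢
    omega


open Cfsg.Agent.Lib.Helper16_Orbit Cfsg.Agent.Lib.Helper16_Cover in
/-- **Weights force centric pairs**, abstract form: if the block `F` of `X` has the idempotent of the
`X`-stable block `c` of the normal subgroup `Cx`, and contains a weight character relative to the normal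
`p`-subgroup `Qx` commuting with `Cx`, then `Qx ⊓ Cx` is a defect group of `c`. -/
theorem isDefectGroup_of_weight (hM : IsPModular p M) (Qx Cx : Subgroup X) [Qx.Normal]
    [hCn : Cx.Normal] [Fintype Cx] (hQ : IsPGroup p Qx)
    (hcomm : ∀ q ∈ Qx, ∀ c ∈ Cx, q * c = c * q)
    {c : Set (IrrCharacter Cx)} (hc : IsPBlock M c) (hst : ∀ x : X, StabilizesBlock Cx c x)
    {F : Set (IrrCharacter X)}
    (hFc : ∀ x : X, blockCoeff F x = subgroupBlockCoeff Cx c x)
    (χ : IrrCharacter X) (hχ : χ ∈ F)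
    (hQk : ∀ q ∈ Qx, (χ : X → ℂ) q = (χ : X → ℂ) 1)
    (hdeg : (charDegree (χ : X → ℂ)).factorization p + (Nat.card Qx).factorization p =
      (Nat.card X).factorization p) :
    IsDefectGroup p M c ((Qx ⊓ Cx).subgroupOf Cx) := by
  classical
  obtain ⟨θ, hθχ, hθk, hθdeg⟩ := exists_defect_zero_under (p := p) χ Qx Cx hQk hdeg
  -- `θ ∈ c`
  have hcl : gClosure Cx c = c := Cfsg.Agent.Lib.Helper77_StableCover.gClosure_eq_of_stable Cx hst
  have hinv : ∀ x : X, cj Cx x (blockCoeff c) = blockCoeff c := by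
    intro x
    have := cj_covF Cx c x
    unfold covF at this
    rw [hcl] at this
    exact this
  have hext : extZero Cx (blockCoeff c) = blockCoeff F := by
    rw [Cfsg.Agent.Lib.Helper77_StableCover.extZero_eq_subgroupBlockCoeff]
    funext x
    exact (hFc x).symm
  have hθc : θ ∈ c := by
    have h1 := omega_extZero_eq Cx χ θ hθχ (blockCoeff c) hinv
    rw [hext, omega_blockCoeff charFacts F χ, Set.indicator_of_mem hχ,
      omega_blockCoeff charFacts c θ] at h1
    by_contra hn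
    rw [Set.indicator_of_notMem hn] at h1
    exact one_ne_zero h1
  -- apply the central lemma
  apply isDefectGroup_of_central hM hc ((Qx ⊓ Cx).subgroupOf Cx) ?_ ?_ θ hθc ?_ ?_
  · intro z hz
    rw [Subgroup.mem_subgroupOf] at hz
    rw [Subgroup.mem_center_iff]
    intro g
    apply Subtype.ext
    exact (hcomm (z : X) hz.1 (g : X) g.2).symm
  · exact (hQ.to_le inf_le_left).comap_subtype
  · intro u hu
    rw [Subgroup.mem_subgroupOf] at hu
    exact hθk u hu.1
  · rw [Nat.card_congr (Subgroup.subgroupOfEquivOfLe (inf_le_right : Qx ⊓ Cx ≤ Cx)).toEquiv]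
    exact hθdeg

end weight

end Cfsg.Agent.Lib.Helper77_Weight
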