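import Mathlib
import Cfsg.Prelude.Def_Characters
import Cfsg.Prelude.Def_Blocks
import Cfsg.Agent.Lib.Helper78_PartAGen
import Cfsg.Agent.Lib.Helper78_BrauerMap
import Cfsg.Agent.Lib.Helper78_ExtFirstMain
import Cfsg.Agent.Lib.Helper77_BlockBasics
import Cfsg.Agent.Lib.Helper16_BlockOrth
import Cfsg.Agent.S0914
import Cfsg.Agent.S0928
import Cfsg.Agent.Lib.Helper77_Weight
import Cfsg.Agent.Lib.Helper78_Defect
import Cfsg.Agent.Lib.Helper78_FirstMainGT
import Cfsg.Agent.Lib.Helper78_Deficiency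
import Cfsg.Agent.Lib.Helper17_F1Gen

/-!
# Blocks with a defect group of order `p` that is a Sylow subgroup: the local analysis, part 2
(helper78)

`P` a Sylow `p`-subgroup of order `p`, `C = C_G(P)`, `N = N_G(P)`, `B` a block with defect group
`P`, `b` a block of `C` inducing `B`, `θ ∈ b` with `P ≤ ker θ`, `T` the stabilizer of `θ` in `N`.

* `exists_conjIrr_of_induced` : blocks of `C` inducing `B` are `N`-conjugate (through their
  canonical characters);
* `card_fiber` : `#{n ∈ N | θ^n = θ^{n₀}} = |T|`;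
* `card_mul_apply_eq` **(PA2)** : `|T| χ(x) = θ(1) ∑_{n ∈ N} a(θ, χ, n x n⁻¹)` for `χ ∈ B`, `1 ≠ x ∈ P`;
* `aCoef_eq_zero_of_not_conj` : `a(θ', χ, x) = 0` for `χ ∈ B` and `θ'` not `N`-conjugate to `θ`;
* `exists_aCoef_ne_zero` **(PA3)**;
* `sum_conj_aCoef_mul_eq_zero` **(PA4)** (block orthogonality);
* `exists_root` **(PA5)**.
-/

set_option autoImplicit false
set_option linter.unusedSectionVars false

namespace Cfsg.Agent.Lib.Helper78_PartAGen2

open Cfsg Cfsg.Agent.Lib.Helper78_LocalRing Cfsg.Agent.Lib.Helper78_CentralChar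
  Cfsg.Agent.Lib.Helper78_Osima Cfsg.Agent.Lib.Helper78_CharFacts
  Cfsg.Agent.Lib.Helper78_PRegSum Cfsg.Agent.Lib.Helper78_SecondMainChar
  Cfsg.Agent.Lib.Helper78_CentralProd Cfsg.Agent.Lib.Helper78_PartAGen

open scoped ComplexConjugate

universe u

variable {G : Type u} [Group G] {p : ℕ} [Finite G] [hp : Fact p.Prime] {M : Ideal AlgInt}

/-- The extended first main theorem for a subgroup equal to `P C_G(P)`. -/
theorem conj_of_induced' (hM : IsPModular p M) {B : Set (IrrCharacter G)}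
    (hB : IsPBlock M B) {P : Subgroup G} (hP : IsDefectGroup p M B P) (H : Subgroup G)
    (hH : H = P ⊔ Subgroup.centralizer (P : Set G))
    (b b' : Set (IrrCharacter H))
    (hind : IsInducedBlock M H b B) (hind' : IsInducedBlock M H b' B) :
    ∃ n ∈ Subgroup.normalizer (P : Set G), ∀ θ ∈ b, ∃ θ' ∈ b',
      ∀ x : H, ∀ hx : n * (x : G) * n⁻¹ ∈ H,
        (θ' : H → ℂ) x = (θ : H → ℂ) ⟨n * (x : G) * n⁻¹, hx⟩ := by
  subst hH
  exact Cfsg.Agent.Lib.Helper78_ExtFirstMain.conj_of_induced hM hB hP b b' hind hind'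

variable (P : Sylow p G)

theorem cc_eq_sup (hP : Nat.card P = p) :
    CC P = (P : Subgroup G) ⊔ Subgroup.centralizer ((P : Subgroup G) : Set G) := by
  classical
  have := Fintype.ofFinite G
  exact (sup_eq_right.mpr (Cfsg.Agent.Lib.Helper16_BrauerSetup.le_centralizer P hP)).symm

/-- Two blocks of `C_G(P)` inducing the same block `B` (with defect group `P`): their canonical
characters are conjugate under `N_G(P)`. -/
theorem exists_conjIrr_of_induced (hM : IsPModular p M) (hP : Nat.card P = p)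
    {B : Set (IrrCharacter G)} (hB : IsPBlock M B)
    (hBP : IsDefectGroup p M B (P : Subgroup G))
    {b b' : Set (IrrCharacter (CC P))} (hind : IsInducedBlock M (CC P) b B)
    (hind' : IsInducedBlock M (CC P) b' B) {θ θ' : IrrCharacter (CC P)} (hθ : θ ∈ b)
    (hθ' : θ' ∈ b') (hk' : KerZ (ZZ P) θ') (hk : KerZ (ZZ P) θ) :
    ∃ n : NN P, θ' = conjIrr P n θ := by
  classical
  have := Fintype.ofFinite (CC P)
  have hMp := isPrime_of_isPModular hM
  obtain ⟨n, hn, h⟩ := conj_of_induced' hM hB hBP (CC P) (cc_eq_sup P hP) b b' hind hind'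
  obtain ⟨ξ, hξ, hval⟩ := h θ hθ
  refine ⟨⟨n, hn⟩, ?_⟩
  have hξe : ξ = conjIrr P ⟨n, hn⟩ θ := by
    apply Subtype.ext
    funext c
    rw [hval c (conj_mem_CC P ⟨n, hn⟩ c), conjIrr_apply]
  obtain ⟨V, hcp⟩ := exists_cp P hP
  have hsb : SameBlock M (θ' : CC P → ℂ) (ξ : CC P → ℂ) :=
    isPBlock_sameBlock hMp hind'.1 hθ' hξ
  have hreg := (sameBlock_iff hM hcp θ' ξ).mp hsb
  rw [← hξe]
  exact eq_of_kerZ_of_reg hcp hk' (by rw [hξe]; exact kerZ_conjIrr P ⟨n, hn⟩ hk) hreg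

section stab

variable {θ : IrrCharacter (CC P)} (T : Subgroup G)
  (hT : ∀ g : G, g ∈ T ↔ (g ∈ NN P ∧ ∀ c c' : CC P, (c' : G) = g * c * g⁻¹ →
    (θ : CC P → ℂ) c' = (θ : CC P → ℂ) c))

include hT in
theorem mem_T_iff (n : NN P) : (n : G) ∈ T ↔ conjIrr P n θ = θ := by
  rw [hT]
  constructor
  · rintro ⟨-, h⟩
    apply Subtype.ext
    funext c
    rw [conjIrr_apply]
    exact h c ⟨_, conj_mem_CC P n c⟩ rfl
  · intro h
    refine ⟨n.2, fun c c' hc' => ?_⟩
    have h1 : c' = ⟨(n : G) * (c : G) * (n : G)⁻¹, conj_mem_CC P n c⟩ := Subtype.ext hc'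
    rw [h1, ← conjIrr_apply, h]

include hT in
theorem T_le : T ≤ NN P := fun g hg => ((hT g).mp hg).1

include hT in
/-- The fibres of `n ↦ θ^n` have `|T|` elements. -/
theorem card_fiber (n₀ : NN P) :
    Nat.card {n : NN P // conjIrr P n θ = conjIrr P n₀ θ} = Nat.card T := by
  apply Nat.card_congr
  refine ⟨fun n => ⟨((n.1 * n₀⁻¹ : NN P) : G), ?_⟩,
    fun t => ⟨(⟨(t : G), T_le P T hT t.2⟩ : NN P) * n₀, ?_⟩, ?_, ?_⟩
  · exact (mem_T_iff P T hT _).mpr ((conjIrr_eq_iff P n.1 n₀ θ).mp n.2)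
  · rw [conjIrr_eq_iff, mul_inv_cancel_right]
    exact (mem_T_iff P T hT _).mp t.2
  · intro n
    apply Subtype.ext
    apply Subtype.ext
    simp
  · intro t
    apply Subtype.ext
    simp

end stab

section main

theorem aCoef_eq_sum [Fintype (CC P)] (θ' : CC P → ℂ) (χ : G → ℂ) (x : G) :
    aCoef p (CC P) θ' χ x = (p : ℂ) / (Nat.card (CC P) : ℂ) *
      ∑ c : CC P, regInd p (CC P) c * (χ (x * (c : G)) * conj (θ' c)) := by
  unfold aCoef
  rw [finsum_eq_sum_of_fintype]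

theorem conjIrr_apply_one (n : NN P) (θ : IrrCharacter (CC P)) :
    (conjIrr P n θ : CC P → ℂ) 1 = (θ : CC P → ℂ) 1 := by
  rw [conjIrr_apply]
  refine congrArg _ (Subtype.ext ?_)
  simp

/-- **Regular expansion**: `χ (x) = ∑_{θ', P ≤ ker θ'} a(θ', χ, x) θ'(1)`. -/
theorem apply_eq_sum_aCoef (hP : Nat.card P = p) [Fintype (CC P)]
    [DecidablePred (fun θ' : IrrCharacter (CC P) => KerZ (ZZ P) θ')] (χ : G → ℂ) (x : G) :
    ∑ θ' : IrrCharacter (CC P), (if KerZ (ZZ P) θ' then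
      aCoef p (CC P) (θ' : CC P → ℂ) χ x * (θ' : CC P → ℂ) 1 else 0) = χ x := by
  obtain ⟨V, hcp⟩ := exists_cp P hP
  have h := regular_expansion hcp (fun c : CC P => χ (x * (c : G)))
  simp only [Subgroup.coe_one, mul_one] at h
  rw [← h]
  refine Finset.sum_congr rfl fun θ' _ => ?_
  rw [aCoef_eq_sum, card_ZZ P hP]

variable {θ : IrrCharacter (CC P)} (T : Subgroup G)
  (hT : ∀ g : G, g ∈ T ↔ (g ∈ NN P ∧ ∀ c c' : CC P, (c' : G) = g * c * g⁻¹ →
    (θ : CC P → ℂ) c' = (θ : CC P → ℂ) c))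

/-- If `a(θ', χ, x) ≠ 0` for some `χ ∈ B` then `θ'` is `N`-conjugate to `θ`. -/
theorem exists_conjIrr_of_aCoef_ne_zero (hM : IsPModular p M) (hP : Nat.card P = p)
    {B : Set (IrrCharacter G)} (hB : IsPBlock M B)
    (hBP : IsDefectGroup p M B (P : Subgroup G))
    {b : Set (IrrCharacter (CC P))} (hind : IsInducedBlock M (CC P) b B) (hθ : θ ∈ b)
    (hk : KerZ (ZZ P) θ) {θ' : IrrCharacter (CC P)} (hk' : KerZ (ZZ P) θ')
    {χ : IrrCharacter G} (hχ : χ ∈ B) {x : G} (hx : x ∈ (P : Subgroup G)) (hx1 : x ≠ 1)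
    (hne : aCoef p (CC P) (θ' : CC P → ℂ) (χ : G → ℂ) x ≠ 0) :
    ∃ n : NN P, θ' = conjIrr P n θ := by
  classical
  have := Fintype.ofFinite G
  have := Fintype.ofFinite (CC P)
  have hMp := isPrime_of_isPModular hM
  have hPC : (P : Subgroup G) ≤ CC P := Cfsg.Agent.Lib.Helper16_BrauerSetup.le_centralizer P hP
  obtain ⟨B', hind'⟩ := Cfsg.Agent.Lib.Helper78_BrauerMap.inducedBlockDefined hM P.2 hPC le_rfl
    (Cfsg.Agent.Lib.Helper78_FirstMain.centralizer_le_normalizer (P : Subgroup G))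
    (isPBlock_blockOf (M := M) θ')
  have hBB' : B' = B := by
    by_contra hne'
    have hχ' : χ ∉ B' := fun h => hne' (isPBlock_eq_of_mem_of_mem hMp hind'.2.1 hB h hχ)
    exact hne (aCoef_eq_zero_of_not_mem P hM hP hind' (mem_blockOf_self hMp θ') hχ' hx hx1)
  rw [hBB'] at hind'
  exact exists_conjIrr_of_induced P hM hP hB hBP hind hind' hθ (mem_blockOf_self hMp θ') hk' hk

include hT in
/-- **(PA2)** `|T| χ(x) = θ(1) ∑_{n ∈ N} a(θ, χ, n x n⁻¹)` for `χ ∈ B` and `1 ≠ x ∈ P`. -/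
theorem card_mul_apply_eq (hM : IsPModular p M) (hP : Nat.card P = p)
    {B : Set (IrrCharacter G)} (hB : IsPBlock M B)
    (hBP : IsDefectGroup p M B (P : Subgroup G))
    {b : Set (IrrCharacter (CC P))} (hind : IsInducedBlock M (CC P) b B) (hθ : θ ∈ b)
    (hk : KerZ (ZZ P) θ) {χ : IrrCharacter G} (hχ : χ ∈ B) {x : G}
    (hx : x ∈ (P : Subgroup G)) (hx1 : x ≠ 1) :
    (Nat.card T : ℂ) * (χ : G → ℂ) x = (θ : CC P → ℂ) 1 *
      ∑ᶠ n : NN P, aCoef p (CC P) (θ : CC P → ℂ) (χ : G → ℂ) ((n : G) * x * (n : G)⁻¹) := by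
  classical
  have := Fintype.ofFinite G
  have := Fintype.ofFinite (CC P)
  have := Fintype.ofFinite (NN P)
  rw [finsum_eq_sum_of_fintype]
  set F : IrrCharacter (CC P) → ℂ := fun θ' => if KerZ (ZZ P) θ' then
      aCoef p (CC P) (θ' : CC P → ℂ) (χ : G → ℂ) x * (θ' : CC P → ℂ) 1 else 0 with hF
  have hexp : ∑ θ' : IrrCharacter (CC P), F θ' = (χ : G → ℂ) x :=
    apply_eq_sum_aCoef P hP (χ : G → ℂ) x
  have hkey : ∀ θ' : IrrCharacter (CC P), (Nat.card T : ℂ) * F θ' =
      ∑ n : NN P, if conjIrr P n θ = θ' then F θ' else 0 := by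
    intro θ'
    by_cases hF0 : F θ' = 0
    · rw [hF0, mul_zero]
      symm
      apply Finset.sum_eq_zero
      intro n _
      split_ifs <;> rfl
    · have hk' : KerZ (ZZ P) θ' := by
        by_contra hnk
        apply hF0
        simp only [hF]
        rw [if_neg hnk]
      have hane : aCoef p (CC P) (θ' : CC P → ℂ) (χ : G → ℂ) x ≠ 0 := by
        intro h0
        apply hF0
        simp only [hF]
        rw [if_pos hk', h0, zero_mul]
      obtain ⟨n₀, hn₀⟩ := exists_conjIrr_of_aCoef_ne_zero P hM hP hB hBP hind hθ hk hk' hχ hx hx1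
        hane
      rw [Finset.sum_ite, Finset.sum_const_zero, add_zero, Finset.sum_const, nsmul_eq_mul]
      congr 1
      rw [← card_fiber P T hT n₀, Nat.card_eq_fintype_card, Fintype.card_subtype, hn₀]
  calc (Nat.card T : ℂ) * (χ : G → ℂ) x
      = ∑ θ' : IrrCharacter (CC P), (Nat.card T : ℂ) * F θ' := by
        rw [← hexp, Finset.mul_sum]
    _ = ∑ θ' : IrrCharacter (CC P), ∑ n : NN P, if conjIrr P n θ = θ' then F θ' else 0 :=
        Finset.sum_congr rfl fun θ' _ => hkey θ'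
    _ = ∑ n : NN P, ∑ θ' : IrrCharacter (CC P), if conjIrr P n θ = θ' then F θ' else 0 :=
        Finset.sum_comm
    _ = ∑ n : NN P, F (conjIrr P n θ) := by
        refine Finset.sum_congr rfl fun n _ => ?_
        rw [Finset.sum_ite_eq Finset.univ (conjIrr P n θ)]
        simp
    _ = ∑ n : NN P, (θ : CC P → ℂ) 1 *
          aCoef p (CC P) (θ : CC P → ℂ) (χ : G → ℂ) ((n : G) * x * (n : G)⁻¹) := by
        refine Finset.sum_congr rfl fun n _ => ?_
        simp only [hF]
        rw [if_pos (kerZ_conjIrr P n hk), aCoef_conjIrr, conjIrr_apply_one, mul_comm]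
    _ = _ := by rw [Finset.mul_sum]

/-- `a(θ', χ, x) = 0` for `χ ∈ B` when `θ'` (with `P` in its kernel) is not `N`-conjugate to
`θ`. -/
theorem aCoef_eq_zero_of_not_conj (hM : IsPModular p M) (hP : Nat.card P = p)
    {B : Set (IrrCharacter G)} (hB : IsPBlock M B)
    (hBP : IsDefectGroup p M B (P : Subgroup G))
    {b : Set (IrrCharacter (CC P))} (hind : IsInducedBlock M (CC P) b B) (hθ : θ ∈ b)
    (hk : KerZ (ZZ P) θ) {θ' : IrrCharacter (CC P)} (hk' : KerZ (ZZ P) θ')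
    (hnc : ∀ n : NN P, θ' ≠ conjIrr P n θ)
    {χ : IrrCharacter G} (hχ : χ ∈ B) {x : G} (hx : x ∈ (P : Subgroup G)) (hx1 : x ≠ 1) :
    aCoef p (CC P) (θ' : CC P → ℂ) (χ : G → ℂ) x = 0 := by
  by_contra hne
  obtain ⟨n, hn⟩ := exists_conjIrr_of_aCoef_ne_zero P hM hP hB hBP hind hθ hk hk' hχ hx hx1 hne
  exact hnc n hn

/-- An element of order `p` is conjugate into `P`. -/
theorem exists_conj_mem_of_orderOf_eq {g : G} (hg : orderOf g = p) :
    ∃ h : G, h * g * h⁻¹ ∈ (P : Subgroup G) := by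
  have hpg : IsPGroup p (Subgroup.zpowers g) := by
    apply IsPGroup.of_card_dvd_pow (n := 1)
    rw [Nat.card_zpowers, hg, pow_one]
  obtain ⟨Q, hQ⟩ := hpg.exists_le_sylow
  obtain ⟨h, hh⟩ := MulAction.exists_smul_eq G Q P
  refine ⟨h, ?_⟩
  rw [← hh, Sylow.coe_subgroup_smul, Subgroup.mem_pointwise_smul_iff_inv_smul_mem]
  have h1 : g ∈ (Q : Subgroup G) := hQ (Subgroup.mem_zpowers g)
  have h2 : (MulAut.conj h)⁻¹ • (h * g * h⁻¹) = g := by
    rw [MulAut.smul_def, MulAut.conj_inv_apply]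
    group
  rw [h2]
  exact h1

/-- **(PA3)** Every member of `B` has a nonzero coefficient `a(θ, χ, x)` for some `1 ≠ x ∈ P`. -/
theorem exists_aCoef_ne_zero (hM : IsPModular p M) (hP : Nat.card P = p)
    {B : Set (IrrCharacter G)} (hB : IsPBlock M B)
    (hBP : IsDefectGroup p M B (P : Subgroup G))
    {b : Set (IrrCharacter (CC P))} (hind : IsInducedBlock M (CC P) b B)
    {θ : IrrCharacter (CC P)} (hθ : θ ∈ b)
    (hk : KerZ (ZZ P) θ) {χ : IrrCharacter G} (hχ : χ ∈ B) :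
    ∃ x ∈ (P : Subgroup G), x ≠ 1 ∧ aCoef p (CC P) (θ : CC P → ℂ) (χ : G → ℂ) x ≠ 0 := by
  classical
  by_contra hcon
  push Not at hcon
  have := Fintype.ofFinite G
  have := Fintype.ofFinite (CC P)
  have hMp := isPrime_of_isPModular hM
  -- `χ` vanishes on `P \ 1`
  have hvanP : ∀ x ∈ (P : Subgroup G), x ≠ 1 → (χ : G → ℂ) x = 0 := by
    intro x hx hx1
    rw [← apply_eq_sum_aCoef P hP (χ : G → ℂ) x]
    apply Finset.sum_eq_zero
    intro θ' _
    split_ifs with hk'
    · by_cases hc : ∃ n : NN P, θ' = conjIrr P n θ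
      · obtain ⟨n, rfl⟩ := hc
        rw [aCoef_conjIrr, hcon _ ((Subgroup.mem_set_normalizer_iff.mp n.2 x).mp hx)
          (by
            intro h1
            apply hx1
            have : x = (n : G)⁻¹ * ((n : G) * x * (n : G)⁻¹) * (n : G) := by group
            rw [this, h1]
            group), zero_mul]
      · push Not at hc
        rw [aCoef_eq_zero_of_not_conj P hM hP hB hBP hind hθ hk hk' hc hχ hx hx1, zero_mul]
    · rfl
  -- hence on all elements of order `p`
  have hvan : ∀ g : G, orderOf g = p → (χ : G → ℂ) g = 0 := by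
    intro g hg
    obtain ⟨h, hh⟩ := exists_conj_mem_of_orderOf_eq P hg
    have hχc := isIrrCharacter_isClassFunction χ.2
    rw [← hχc g h]
    apply hvanP _ hh
    intro h1
    have : g = 1 := by
      have : g = h⁻¹ * (h * g * h⁻¹) * h := by group
      rw [this, h1]
      group
    rw [this, orderOf_one] at hg
    exact hp.out.one_lt.ne hg
  have h1 := Cfsg.Agent.S0928.result p χ hvan
  have h2 : ¬ p ∣ Nat.card G / charDegree (χ : G → ℂ) :=
    (Cfsg.Agent.Lib.Helper77_BlockBasics.not_dvd_div_iff hp.out χ).mpr (le_of_eq h1.symm)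
  have h3 : blockOf M (χ : G → ℂ) = {χ} := (Cfsg.Agent.S0914.result p M hM χ).mp h2
  have h4 : B = {χ} := by rw [isPBlock_eq_blockOf hMp hB hχ, h3]
  have h5 : blockDefect p B = 0 := by
    rw [Cfsg.Agent.Lib.Helper77_BlockBasics.blockDefect_eq_zero_iff p B ⟨χ, hχ⟩]
    intro ψ hψ
    rw [h4, Set.mem_singleton_iff] at hψ
    rw [hψ, h1]
  have h6 := Cfsg.Agent.Lib.Helper78_Deficiency.card_isDefectGroup hM hB hBP
  rw [h5, pow_zero] at h6
  rw [hP] at h6
  exact hp.out.one_lt.ne' h6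

/-- **(PA4)** Block orthogonality against the coefficients `a(θ', χ, x)`: if the `p`-part of `g`
is not conjugate to `x` then `∑_{χ ∈ B} conj (a(θ', χ, x)) χ(g) = 0`. -/
theorem sum_conj_aCoef_mul_eq_zero (hM : IsPModular p M) (hP : Nat.card P = p)
    {B : Set (IrrCharacter G)} (hB : IsPBlock M B) (θ' : CC P → ℂ) {x : G}
    (hx : x ∈ (P : Subgroup G)) (hx1 : x ≠ 1) {g z : G} (hg : IsPPart p g z)
    (hnc : ¬ IsConj z x) :
    ∑ᶠ χ ∈ B, conj (aCoef p (CC P) θ' ((χ : IrrCharacter G) : G → ℂ) x) *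
      ((χ : IrrCharacter G) : G → ℂ) g = 0 := by
  classical
  have := Fintype.ofFinite G
  have := Fintype.ofFinite (CC P)
  have hfin : Finite (IrrCharacter G) := charFacts.finite
  have := Fintype.ofFinite (IrrCharacter G)
  have hox := Cfsg.Agent.Lib.Helper78_PartA.orderOf_eq_of_card_prime hp.out hP hx hx1
  have horth : ∀ c : CC P, ¬ p ∣ orderOf c →
      ∑ χ : IrrCharacter G, (if χ ∈ B then (χ : G → ℂ) g * conj ((χ : G → ℂ) (x * (c : G)))
        else 0) = 0 := by
    intro c hc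
    have hpart : IsPPart p (x * (c : G)) x := by
      refine ⟨(c : G), rfl, ?_, ⟨1, by rw [pow_one]; exact hox⟩, ?_⟩
      · exact (Subgroup.mem_centralizer_iff.mp c.2 x hx)
      · rw [Subgroup.orderOf_coe]
        exact hc
    have := Cfsg.Agent.Lib.Helper16_BlockOrth.block_orthogonality hM hB hg hpart hnc
    exact ((Cfsg.Agent.Lib.Helper16_Char.finsum_mem_eq_sum_ite (fun χ => χ ∈ B)
      (fun χ => (χ : G → ℂ) g * conj ((χ : G → ℂ) (x * (c : G))))).symm).trans this
  rw [show (∑ᶠ χ ∈ B, conj (aCoef p (CC P) θ' ((χ : IrrCharacter G) : G → ℂ) x) *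
      ((χ : IrrCharacter G) : G → ℂ) g) =
      ∑ χ : IrrCharacter G, (if χ ∈ B then
        conj (aCoef p (CC P) θ' (χ : G → ℂ) x) * (χ : G → ℂ) g else 0) from
    Cfsg.Agent.Lib.Helper16_Char.finsum_mem_eq_sum_ite (fun χ => χ ∈ B)
      (fun χ => conj (aCoef p (CC P) θ' (χ : G → ℂ) x) * (χ : G → ℂ) g)]
  have hterm : ∀ χ : IrrCharacter G, (if χ ∈ B then
        conj (aCoef p (CC P) θ' (χ : G → ℂ) x) * (χ : G → ℂ) g else 0) =
      ∑ c : CC P, ((p : ℂ) / (Nat.card (CC P) : ℂ) * regInd p (CC P) c * θ' c) *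
        (if χ ∈ B then (χ : G → ℂ) g * conj ((χ : G → ℂ) (x * (c : G))) else 0) := by
    intro χ
    split_ifs with hχ
    · rw [aCoef_eq_sum, map_mul, map_sum, Finset.mul_sum, Finset.sum_mul]
      refine Finset.sum_congr rfl fun c _ => ?_
      have hr : conj (regInd p (CC P) c) = regInd p (CC P) c := by
        by_cases hc : p ∣ orderOf c
        · rw [regInd_of_sing hc, map_zero]
        · rw [regInd_of_reg hc, map_one]
      rw [map_mul, map_mul, map_div₀, Complex.conj_natCast, Complex.conj_natCast, hr,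
        Complex.conj_conj]
      ring
    · simp
  rw [Finset.sum_congr rfl (fun χ _ => hterm χ), Finset.sum_comm]
  apply Finset.sum_eq_zero
  intro c _
  rw [← Finset.mul_sum]
  by_cases hc : p ∣ orderOf c
  · rw [regInd_of_sing hc]
    simp
  · rw [horth c hc, mul_zero]

/-- **(PA4)** for `p`-regular `g`. -/
theorem sum_conj_aCoef_mul_eq_zero_of_reg (hM : IsPModular p M) (hP : Nat.card P = p)
    {B : Set (IrrCharacter G)} (hB : IsPBlock M B) (θ' : CC P → ℂ) {x : G}
    (hx : x ∈ (P : Subgroup G)) (hx1 : x ≠ 1) {g : G} (hg : ¬ p ∣ orderOf g) :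
    ∑ᶠ χ ∈ B, conj (aCoef p (CC P) θ' ((χ : IrrCharacter G) : G → ℂ) x) *
      ((χ : IrrCharacter G) : G → ℂ) g = 0 := by
  apply sum_conj_aCoef_mul_eq_zero P hM hP hB θ' hx hx1 (z := 1)
  · exact ⟨g, one_mul g, Commute.one_left g, ⟨0, by rw [orderOf_one, pow_zero]⟩, hg⟩
  · intro hc
    exact hx1 (isConj_one_right.mp hc)

/-- The existence half of the extended first main theorem for a subgroup equal to `P C_G(P)`. -/
theorem exists_induced_of_defect' (hM : IsPModular p M) {B : Set (IrrCharacter G)}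
    (hB : IsPBlock M B) {Q : Subgroup G} (hQ : IsDefectGroup p M B Q) (H : Subgroup G)
    (hH : H = Q ⊔ Subgroup.centralizer (Q : Set G)) :
    ∃ b : Set (IrrCharacter H), IsInducedBlock M H b B := by
  subst hH
  obtain ⟨b, -, hb⟩ := Cfsg.Agent.Lib.Helper78_ExtFirstMain.exists_induced_of_defect hM hB hQ
  exact ⟨b, hb⟩

/-- **(PA5)** A block with defect group `P` has a root `b` in `C_G(P)` with a canonical character
`θ ∈ b`, `P ≤ ker θ`. -/
theorem exists_root (hM : IsPModular p M) (hP : Nat.card P = p)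
    {B : Set (IrrCharacter G)} (hB : IsPBlock M B)
    (hBP : IsDefectGroup p M B (P : Subgroup G)) :
    ∃ (b : Set (IrrCharacter (CC P))) (θ : IrrCharacter (CC P)),
      IsInducedBlock M (CC P) b B ∧ θ ∈ b ∧ KerZ (ZZ P) θ := by
  classical
  have := Fintype.ofFinite (CC P)
  obtain ⟨b, hb⟩ := exists_induced_of_defect' hM hB hBP (CC P) (cc_eq_sup P hP)
  obtain ⟨V, hcp⟩ := exists_cp P hP
  obtain ⟨θ, hθ, hk⟩ := exists_kerZ_mem hM hcp hb.1
  exact ⟨b, θ, hb, hθ, hk⟩

/-- The kernel condition in the form of the frozen statements. -/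
theorem kerZ_iff (θ : IrrCharacter (CC P)) :
    KerZ (ZZ P) θ ↔ ∀ x : CC P, (x : G) ∈ (P : Subgroup G) →
      (θ : CC P → ℂ) x = (θ : CC P → ℂ) 1 :=
  ⟨fun h x hx => h x (Subgroup.mem_subgroupOf.mpr hx),
    fun h z hz => h z (Subgroup.mem_subgroupOf.mp hz)⟩

/-- **(PA5), converse**: a block induced from `C_G(P)` has defect group `P`. -/
theorem isDefectGroup_of_induced (hM : IsPModular p M) (hP : Nat.card P = p)
    {B : Set (IrrCharacter G)} {b : Set (IrrCharacter (CC P))}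
    (hind : IsInducedBlock M (CC P) b B) : IsDefectGroup p M B (P : Subgroup G) := by
  classical
  have := Fintype.ofFinite G
  have := Fintype.ofFinite (CC P)
  have hMp := isPrime_of_isPModular hM
  obtain ⟨V, hcp⟩ := exists_cp P hP
  obtain ⟨θ, hθ, hk⟩ := exists_kerZ_mem hM hcp hind.1
  have hcard := hcp.card_eq
  rw [card_ZZ P hP] at hcard
  have hdeg : (Nat.card (CC P)).factorization p ≤
      (charDegree (θ : CC P → ℂ)).factorization p + (Nat.card (ZZ P)).factorization p := by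
    rw [hcard, card_ZZ P hP, Nat.factorization_mul hp.out.ne_zero Nat.card_pos.ne',
      Finsupp.add_apply, Nat.Prime.factorization_self hp.out,
      Nat.factorization_eq_zero_of_not_dvd (by
        intro hd
        have := Nat.Coprime.eq_one_of_dvd hcp.coprime.symm hd
        exact hp.out.one_lt.ne' this)]
    omega
  have hD := Cfsg.Agent.Lib.Helper77_Weight.isDefectGroup_of_central hM hind.1 (ZZ P) hcp.central
    hcp.pgroup θ hθ hk hdeg
  obtain ⟨E, hE, hle⟩ := Cfsg.Agent.Lib.Helper78_Defect.exists_isDefectGroup_ge_of_induced hM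
    (CC P) hind.1 hind.2.1 hind (ZZ P) hD
  have hPC : (P : Subgroup G) ≤ CC P := Cfsg.Agent.Lib.Helper16_BrauerSetup.le_centralizer P hP
  rw [Subgroup.map_subgroupOf_eq_of_le hPC] at hle
  have hEp : IsPGroup p E := Cfsg.Agent.Lib.Helper78_FirstMainGT.isDefectGroup_isPGroup hE
  have hEP : E = (P : Subgroup G) := P.is_maximal' hEp hle
  rw [← hEP]
  exact hE

/-- Bridge to the definition of `Helper17_F1Gen`. -/
theorem aCoef_eq_f1gen [Fintype G] [Fintype (CC P)] (θ' : CC P → ℂ) (χ : G → ℂ) (x : G) :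
    aCoef p (CC P) θ' χ x = Cfsg.Agent.Lib.Helper17_F1Gen.aCoef P θ' χ x := by
  rw [aCoef_eq_sum]
  unfold Cfsg.Agent.Lib.Helper17_F1Gen.aCoef
  congr 1
  refine Finset.sum_congr rfl fun c _ => ?_
  by_cases hc : p ∣ orderOf (c : G)
  · rw [if_pos hc, regInd_of_sing (by rwa [Subgroup.orderOf_coe] at hc), zero_mul]
  · rw [if_neg hc, regInd_of_reg (by rwa [Subgroup.orderOf_coe] at hc), one_mul]

end main

end Cfsg.Agent.Lib.Helper78_PartAGen2
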