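import Mathlib
import Cfsg.Prelude.Def_Blocks
import Cfsg.Agent.Lib.Helper25_AbDual
import Cfsg.Agent.Lib.Helper78_CentralProd
import Cfsg.Agent.Lib.Helper78_PartAGen
import Cfsg.Agent.Lib.Helper78_PartAGen2
import Cfsg.Agent.Lib.Helper16_BrauerSetup
import Cfsg.Agent.Lib.Helper16_BrauerFinal
import Cfsg.Agent.Lib.Helper16_GenSetup
import Cfsg.Agent.Lib.Helper16_GenK
import Cfsg.Agent.Lib.Helper16_GenMain
import Cfsg.Agent.Lib.Helper16_GenFinal
import Cfsg.Agent.Lib.Helper16_GenConj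
import Cfsg.Agent.Lib.Helper16_GenBridge

/-!
# Blocks of defect one, general root: the glue (helper16)

A block `B` with defect group `P` (a Sylow subgroup of order `p`), root `b` in `C_G(P)` and
canonical character `θ_C ∈ b` is `BGen P V (θ_C|_V)`; the vanishing and orthogonality hypotheses of
`Helper16_GenFinal` / `Helper16_GenConj` hold for it (`block_facts`).  Then `s4442_glue` is the
statement S4442 from the lattice hypothesis `CTGen` and the multiplicity-freeness `H1V`.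
-/

set_option autoImplicit false
set_option linter.unusedSectionVars false

namespace Cfsg.Agent.Lib.Helper16_GenGlue

open Cfsg Cfsg.Agent.Lib.Helper16_BrauerSetup
  Cfsg.Agent.Lib.Helper16_GenSetup Cfsg.Agent.Lib.Helper16_GenK Cfsg.Agent.Lib.Helper16_GenMain
  Cfsg.Agent.Lib.Helper16_GenFinal Cfsg.Agent.Lib.Helper16_GenConj
  Cfsg.Agent.Lib.Helper16_GenBridge
  Cfsg.Agent.Lib.Helper78_CentralProd Cfsg.Agent.Lib.Helper78_PartAGen
  Cfsg.Agent.Lib.Helper78_PartAGen2
open scoped ComplexConjugate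

variable {G : Type*} [Group G] [Fintype G] {p : ℕ} [hp : Fact p.Prime] {P : Sylow p G}
  {V : Subgroup G} {M : Ideal AlgInt}

section facts

variable [Fintype ↥V]

/-- **`B = BGen P V (θ_C|_V)`** (PA1 + PA3). -/
theorem block_eq_BGen (hM : IsPModular p M) (hP : Nat.card P = p) (hV : IsPCompl P V)
    {B : Set (IrrCharacter G)} (hB : IsPBlock M B)
    (hBP : IsDefectGroup p M B (P : Subgroup G))
    {b : Set (IrrCharacter ↥(CC P))} (hind : IsInducedBlock M (CC P) b B)
    {θC : IrrCharacter ↥(CC P)} (hθ : θC ∈ b) (hker : KerP θC) :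
    B = BGen P V (resV hP hV θC hker) := by
  ext χ
  rw [mem_BGen]
  constructor
  · intro hχ
    obtain ⟨x, hx, hx1, hne⟩ := exists_aCoef_ne_zero P hM hP hB hBP hind hθ (kerZ_of_kerP hker) hχ
    refine ⟨⟨x, hx⟩, fun h => hx1 (congrArg Subtype.val h), ?_⟩
    rw [← aCoef_eq_sfun hP hV θC hker χ ⟨x, hx⟩]
    exact hne
  · rintro ⟨h, hh, hne⟩
    by_contra hχ
    apply hne
    rw [← aCoef_eq_sfun hP hV θC hker χ h]
    exact aCoef_eq_zero_of_not_mem P hM hP hind hθ hχ h.2 (fun hc => hh (Subtype.ext hc))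

/-- **Vanishing** of the `θ'`-components of `χ ∈ B` for `θ'` not conjugate to `θ_C|_V` (PA2). -/
theorem block_vanish (hM : IsPModular p M) (hP : Nat.card P = p) (hV : IsPCompl P V)
    {B : Set (IrrCharacter G)} (hB : IsPBlock M B)
    (hBP : IsDefectGroup p M B (P : Subgroup G))
    {b : Set (IrrCharacter ↥(CC P))} (hind : IsInducedBlock M (CC P) b B)
    {θC : IrrCharacter ↥(CC P)} (hθ : θC ∈ b) (hker : KerP θC)
    {χ : IrrCharacter G} (hχ : χ ∈ B) (θ' : IrrCharacter ↥V)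
    (hnc : ¬ IsConjθ hV (resV hP hV θC hker) θ') (h : ↥(P : Subgroup G)) (hh : h ≠ 1) :
    sfun P V θ' χ h = 0 := by
  have hnc' : ∀ n : ↥(NN P), infl hP hV θ' ≠ conjIrr P n θC := by
    intro n hn
    apply hnc
    have := (isConjθ_iff hP hV θC (infl hP hV θ') hker (kerP_infl hP hV θ')).mpr ⟨n, hn⟩
    rwa [resV_infl] at this
  have h0 := aCoef_eq_zero_of_not_conj P hM hP hB hBP hind hθ (kerZ_of_kerP hker)
    (kerZ_of_kerP (kerP_infl hP hV θ')) hnc' hχ h.2 (fun hc => hh (Subtype.ext hc))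
  rw [aCoef_eq_sfun hP hV (infl hP hV θ') (kerP_infl hP hV θ') χ h, resV_infl] at h0
  exact h0

/-- **Orthogonality** against the `p`-regular elements (PA4). -/
theorem block_orth (hM : IsPModular p M) (hP : Nat.card P = p) (hV : IsPCompl P V)
    {B : Set (IrrCharacter G)} (hB : IsPBlock M B)
    (θC : IrrCharacter ↥(CC P)) (hker : KerP θC)
    (S : Finset (IrrCharacter G)) (hS : B = ↑S)
    {g : G} (hg : ¬ p ∣ orderOf g) (h : ↥(P : Subgroup G)) (hh : h ≠ 1) :
    ∑ χ ∈ S, sfun P V (resV hP hV θC hker) χ h * conj ((χ : G → ℂ) g) = 0 := by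
  have h0 := sum_conj_aCoef_mul_eq_zero_of_reg P hM hP hB (θC : ↥(CC P) → ℂ) h.2
    (fun hc => hh (Subtype.ext hc)) hg
  rw [hS, finsum_mem_coe_finset] at h0
  have h1 := congrArg (starRingEnd ℂ) h0
  rw [map_sum, map_zero] at h1
  rw [← h1]
  refine Finset.sum_congr rfl fun χ _ => ?_
  rw [map_mul, Complex.conj_conj, aCoef_eq_sfun hP hV θC hker χ h]

end facts

/-- **Statement S4442** from the lattice hypothesis `CTGen` and the multiplicity-freeness `H1V`. -/
theorem s4442_glue (hM : IsPModular p M) (hP : Nat.card P = p)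
    (B : Set (IrrCharacter G)) (hB : IsPBlock M B)
    (hBP : IsDefectGroup p M B (P : Subgroup G))
    (b : Set (IrrCharacter ↥(Subgroup.centralizer ((P : Subgroup G) : Set G))))
    (hind : IsInducedBlock M (Subgroup.centralizer ((P : Subgroup G) : Set G)) b B)
    (θ : IrrCharacter ↥(Subgroup.centralizer ((P : Subgroup G) : Set G))) (hθ : θ ∈ b)
    (hθP : ∀ x : ↥(Subgroup.centralizer ((P : Subgroup G) : Set G)),
      (x : G) ∈ (P : Subgroup G) →
        (θ : ↥(Subgroup.centralizer ((P : Subgroup G) : Set G)) → ℂ) x =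
          (θ : ↥(Subgroup.centralizer ((P : Subgroup G) : Set G)) → ℂ) 1)
    (T : Subgroup G)
    (hT : ∀ g : G, g ∈ T ↔ (g ∈ Subgroup.normalizer ((P : Subgroup G) : Set G) ∧
      ∀ c c' : ↥(Subgroup.centralizer ((P : Subgroup G) : Set G)), (c' : G) = g * c * g⁻¹ →
        (θ : ↥(Subgroup.centralizer ((P : Subgroup G) : Set G)) → ℂ) c' =
          (θ : ↥(Subgroup.centralizer ((P : Subgroup G) : Set G)) → ℂ) c))
    (e f : ℕ) (he : (Subgroup.centralizer ((P : Subgroup G) : Set G)).relIndex T = e)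
    (hf : (Subgroup.centralizer ((P : Subgroup G) : Set G)).relIndex
      (Subgroup.normalizer ((P : Subgroup G) : Set G)) = f)
    (hCT : CTGen G p P)
    (hH1 : ∀ (V : Subgroup G) [Fintype ↥V] (hV : IsPCompl P V) (θ' : IrrCharacter ↥V),
      H1V hV θ') :
    e ∣ p - 1 ∧ Nat.card B = e + (p - 1) / e ∧
      ∃ X Y : Set (IrrCharacter G), B = X ∪ Y ∧ Disjoint X Y ∧ Nat.card X = e ∧
        Nat.card Y = (p - 1) / e ∧
        (∀ χ ∈ X, (charDegree (χ : G → ℂ) : ℤ) ≡
            ((f / e * charDegree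
              (θ : ↥(Subgroup.centralizer ((P : Subgroup G) : Set G)) → ℂ) : ℕ) : ℤ) [ZMOD p] ∨
          (charDegree (χ : G → ℂ) : ℤ) ≡
            -((f / e * charDegree
              (θ : ↥(Subgroup.centralizer ((P : Subgroup G) : Set G)) → ℂ) : ℕ) : ℤ) [ZMOD p]) ∧
        (∃ ε : ℤ, (ε = 1 ∨ ε = -1) ∧ ∀ ψ ∈ Y, (charDegree (ψ : G → ℂ) : ℤ) ≡
          ε * ((f * charDegree
            (θ : ↥(Subgroup.centralizer ((P : Subgroup G) : Set G)) → ℂ) : ℕ) : ℤ) [ZMOD p]) ∧
        ∀ ψ ∈ Y, ∀ ψ' ∈ Y, ∀ g : G, ¬ p ∣ orderOf g → (ψ : G → ℂ) g = (ψ' : G → ℂ) g := by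
  classical
  obtain ⟨V, hV⟩ := exists_isPCompl (P := P) hP
  let _ : Fintype ↥(P : Subgroup G) := Fintype.ofFinite _
  let _ : Fintype ↥V := Fintype.ofFinite _
  have hfin : Finite (↥(P : Subgroup G) →* ℂˣ) :=
    Cfsg.Agent.Lib.Helper25_AbDual.finite_hom (comm_of_card P hP)
  let _ : Fintype (↥(P : Subgroup G) →* ℂˣ) := Fintype.ofFinite _
  have hker : KerP θ := hθP
  set θV : IrrCharacter ↥V := resV hP hV θ hker with hθV
  have hstab : stab hV θV = T := stab_eq hP hV θ hker T hT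
  have he' : (Subgroup.centralizer ((P : Subgroup G) : Set G)).relIndex (stab hV θV) = e := by
    rw [hstab]; exact he
  obtain ⟨X, Y, εX, ε, hBXY, hdisj, hXc, hYc, hXp, hε, hYp, hYu, hYs⟩ :=
    gen_structure hP hV θV e he' hCT (hH1 V hV θV)
  have hBeq : B = BGen P V θV := block_eq_BGen hM hP hV hB hBP hind hθ hker
  have hepos : 0 < e := by
    rcases Nat.eq_zero_or_pos e with h | h
    · rw [h, zero_mul] at hYc
      have := hp.out.two_le
      omega
    · exact h
  have hset : B = ↑(X ∪ Y) := by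
    ext χ
    rw [hBeq, Finset.coe_union, Set.mem_union, Finset.mem_coe, Finset.mem_coe]
    exact hBXY χ
  have hvan : ∀ χ ∈ B, ∀ θ' : IrrCharacter ↥V, ¬ IsConjθ hV θV θ' →
      ∀ h : ↥(P : Subgroup G), h ≠ 1 → sfun P V θ' χ h = 0 :=
    fun χ hχ θ' hnc h hh => block_vanish hM hP hV hB hBP hind hθ hker hχ θ' hnc h hh
  have hreg : ∀ g : G, ¬ p ∣ orderOf g → ∀ ψ ∈ Y,
      (ε : ℂ) * conj ((ψ : G → ℂ) g) = ∑ χ ∈ X, (εX χ : ℂ) * conj ((χ : G → ℂ) g) :=
    fun g hg ψ hψ => exceptional_reg hP hV θV e hepos X Y εX ε hdisj hXp hYp hYu hYs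
      (fun h hh => block_orth hM hP hV hB θ hker (X ∪ Y) hset hg h hh) ψ hψ
  -- indices
  have hCT' : Subgroup.centralizer ((P : Subgroup G) : Set G) ≤ T := by
    rw [← hstab]; exact centralizer_le_stab hV θV
  have hTN : T ≤ Subgroup.normalizer ((P : Subgroup G) : Set G) := by
    rw [← hstab]; exact stab_le_normalizer hV θV
  have hidx : e * T.relIndex (Subgroup.normalizer ((P : Subgroup G) : Set G)) = f := by
    rw [← he, ← hf]
    exact Subgroup.relIndex_mul_relIndex _ T _ hCT' hTN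
  have hfe : f / e = T.relIndex (Subgroup.normalizer ((P : Subgroup G) : Set G)) :=
    Nat.div_eq_of_eq_mul_right hepos hidx.symm
  have hdegθ : charDegree (θV : ↥V → ℂ) =
      charDegree (θ : ↥(Subgroup.centralizer ((P : Subgroup G) : Set G)) → ℂ) := by
    unfold charDegree
    rw [hθV, resV_apply, map_one]
  have hdeg : ∀ χ ∈ B, ((charDegree (χ : G → ℂ) : ℕ) : ℤ) ≡
      ((T.relIndex (Subgroup.normalizer ((P : Subgroup G) : Set G)) : ℕ) : ℤ) *
        ((charDegree (θ : ↥(Subgroup.centralizer ((P : Subgroup G) : Set G)) → ℂ) : ℕ) : ℤ) *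
          s1 hV θV χ [ZMOD p] := by
    intro χ hχ
    have := degree_congr hP hV θV χ (hvan χ hχ)
    rwa [hstab, hdegθ] at this
  have hεC : (ε : ℂ) ≠ 0 := by
    rcases hε with h | h <;> rw [h] <;> norm_num
  refine ⟨⟨Y.card, hYc.symm⟩, ?_, ↑X, ↑Y, ?_, Finset.disjoint_coe.mpr hdisj, ?_, ?_, ?_, ⟨ε, hε, ?_⟩,
    ?_⟩
  · rw [hset, Nat.card_coe_set_eq, Set.ncard_coe_finset, Finset.card_union_of_disjoint hdisj, hXc]
    congr 1
    exact (Nat.div_eq_of_eq_mul_right hepos hYc.symm).symm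
  · rw [hset, Finset.coe_union]
  · rw [Nat.card_coe_set_eq, Set.ncard_coe_finset, hXc]
  · rw [Nat.card_coe_set_eq, Set.ncard_coe_finset]
    exact (Nat.div_eq_of_eq_mul_right hepos hYc.symm).symm
  · intro χ hχ
    have hχX : χ ∈ X := Finset.mem_coe.mp hχ
    have hχB : χ ∈ B := by
      rw [hset]
      exact Finset.mem_coe.mpr (Finset.mem_union_left _ hχX)
    obtain ⟨h1, h2⟩ := hXp χ hχX
    have hs := s1_X hP hV θV χ (εX χ) h2
    have hd := hdeg χ hχB
    have hd2 : ((charDegree (χ : G → ℂ) : ℕ) : ℤ) ≡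
        ((T.relIndex (Subgroup.normalizer ((P : Subgroup G) : Set G)) : ℕ) : ℤ) *
          ((charDegree (θ : ↥(Subgroup.centralizer ((P : Subgroup G) : Set G)) → ℂ) : ℕ) : ℤ) *
            εX χ [ZMOD p] := hd.trans (Int.ModEq.mul_left _ hs)
    rw [hfe]
    push_cast
    rcases h1 with h3 | h3
    · left
      rw [h3, mul_one] at hd2
      exact hd2
    · right
      rw [h3, mul_neg, mul_one] at hd2
      exact hd2
  · intro ψ hψ
    have hψY : ψ ∈ Y := Finset.mem_coe.mp hψ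
    have hψB : ψ ∈ B := by
      rw [hset]
      exact Finset.mem_coe.mpr (Finset.mem_union_right _ hψY)
    have hs := s1_Y hV θV ψ ε e (hYp ψ hψY) (hYs ψ hψY)
    have hd := hdeg ψ hψB
    have hd2 := hd.trans (Int.ModEq.mul_left _ hs)
    rw [← hidx]
    push_cast
    have e1 : ((T.relIndex (Subgroup.normalizer ((P : Subgroup G) : Set G)) : ℕ) : ℤ) *
        ((charDegree (θ : ↥(Subgroup.centralizer ((P : Subgroup G) : Set G)) → ℂ) : ℕ) : ℤ) *
          (ε * (e : ℤ)) =
        ε * ((e : ℤ) * ((T.relIndex (Subgroup.normalizer ((P : Subgroup G) : Set G)) : ℕ) : ℤ) *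
          ((charDegree (θ : ↥(Subgroup.centralizer ((P : Subgroup G) : Set G)) → ℂ) : ℕ) : ℤ)) := by
      ring
    rw [e1] at hd2
    exact hd2
  · intro ψ hψ ψ' hψ' g hg
    have h1 := hreg g hg ψ (Finset.mem_coe.mp hψ)
    have h2 := hreg g hg ψ' (Finset.mem_coe.mp hψ')
    rw [← h2] at h1
    have h3 := mul_left_cancel₀ hεC h1
    exact (starRingEnd ℂ).injective h3

end Cfsg.Agent.Lib.Helper16_GenGlue
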