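import Mathlib

/-!
# Converting a basis in powers of `x - 1` into a basis in powers of `x`

(A self-contained piece of helper57's sub-lemma D1, requested by helper3.)
-/

set_option autoImplicit false

namespace Cfsg.Agent.Lib.Helper17_DRConv

open Module

variable {R : Type*} [CommRing R] {L : Type*} [AddCommGroup L] [Module R L]

/-- `(x - 1) ^ i v` lies in the span of `x ^ j v`, `j ≤ i`. -/
theorem sub_one_pow_apply_mem_span (x : L →ₗ[R] L) (v : L) (i : ℕ) :
    ((x - 1) ^ i) v ∈ Submodule.span R {z | ∃ j : ℕ, j ≤ i ∧ z = (x ^ j) v} := by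
  induction i with
  | zero =>
    apply Submodule.subset_span
    exact ⟨0, le_rfl, by simp⟩
  | succ i ih =>
    rw [pow_succ', Module.End.mul_apply]
    -- `(x - 1)` maps the `i`-span into the `(i+1)`-span
    have hmap : ∀ z ∈ Submodule.span R {z | ∃ j : ℕ, j ≤ i ∧ z = (x ^ j) v},
        (x - 1) z ∈ Submodule.span R {z | ∃ j : ℕ, j ≤ i + 1 ∧ z = (x ^ j) v} := by
      intro z hz
      induction hz using Submodule.span_induction with
      | mem z hz =>
        obtain ⟨j, hj, rfl⟩ := hz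
        rw [LinearMap.sub_apply]
        apply Submodule.sub_mem
        · apply Submodule.subset_span
          refine ⟨j + 1, by omega, ?_⟩
          rw [pow_succ', Module.End.mul_apply]
        · apply Submodule.subset_span
          exact ⟨j, by omega, by simp⟩
      | zero => simp
      | add y z _ _ hy hz =>
        rw [map_add]
        exact Submodule.add_mem _ hy hz
      | smul r y _ hy =>
        rw [map_smul]
        exact Submodule.smul_mem _ r hy
    exact hmap _ ih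

/-- A family indexed by the index type of a finite basis that spans the whole module is a basis. -/
theorem exists_basis_of_span_eq_top {ι : Type*} [Finite ι] (𝔟 : Basis ι R L) (f : ι → L)
    (hf : ⊤ ≤ Submodule.span R (Set.range f)) : ∃ 𝔟' : Basis ι R L, ∀ j, 𝔟' j = f j := by
  have : Module.Finite R L := Module.Finite.of_basis 𝔟
  let φ : L →ₗ[R] L := 𝔟.constr R f
  have hsurj : Function.Surjective φ := by
    rw [← LinearMap.range_eq_top, Basis.constr_range]
    exact top_le_iff.1 hf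
  have hinj : Function.Injective φ :=
    OrzechProperty.injective_of_surjective_endomorphism φ hsurj
  have hbij : Function.Bijective φ := ⟨hinj, hsurj⟩
  refine ⟨𝔟.map (LinearEquiv.ofBijective φ hbij), fun j => ?_⟩
  rw [Basis.map_apply]
  show φ (𝔟 j) = f j
  exact 𝔟.constr_basis R f j

/-- **Basis conversion (H3).** -/
theorem basis_of_ypow_basis (x : L →ₗ[R] L) {a b c n m : ℕ}
    (𝔟 : Module.Basis (Fin a ⊕ (Fin b × Fin n) ⊕ (Fin c × Fin m)) R L)
    (u : Fin b → L) (w : Fin c → L)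
    (hu : ∀ k (i : Fin n), 𝔟 (Sum.inr (Sum.inl (k, i))) = ((x - 1) ^ (i : ℕ)) (u k))
    (hw : ∀ k (i : Fin m), 𝔟 (Sum.inr (Sum.inr (k, i))) = ((x - 1) ^ (i : ℕ)) (w k)) :
    ∃ 𝔟' : Module.Basis (Fin a ⊕ (Fin b × Fin n) ⊕ (Fin c × Fin m)) R L,
      (∀ i, 𝔟' (Sum.inl i) = 𝔟 (Sum.inl i)) ∧
      (∀ k (i : Fin n), 𝔟' (Sum.inr (Sum.inl (k, i))) = (x ^ (i : ℕ)) (u k)) ∧
      (∀ k (i : Fin m), 𝔟' (Sum.inr (Sum.inr (k, i))) = (x ^ (i : ℕ)) (w k)) := by
  let f : (Fin a ⊕ (Fin b × Fin n) ⊕ (Fin c × Fin m)) → L := fun j =>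
    match j with
    | Sum.inl i => 𝔟 (Sum.inl i)
    | Sum.inr (Sum.inl (k, i)) => (x ^ (i : ℕ)) (u k)
    | Sum.inr (Sum.inr (k, i)) => (x ^ (i : ℕ)) (w k)
  have hspan : ⊤ ≤ Submodule.span R (Set.range f) := by
    rw [← 𝔟.span_eq]
    apply Submodule.span_le.2
    rintro _ ⟨j, rfl⟩
    rcases j with i | ⟨k, i⟩ | ⟨k, i⟩
    · exact Submodule.subset_span ⟨Sum.inl i, rfl⟩
    · rw [hu]
      refine Submodule.span_mono ?_ (sub_one_pow_apply_mem_span x (u k) (i : ℕ))
      rintro _ ⟨j, hj, rfl⟩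
      exact ⟨Sum.inr (Sum.inl (k, ⟨j, lt_of_le_of_lt hj i.2⟩)), rfl⟩
    · rw [hw]
      refine Submodule.span_mono ?_ (sub_one_pow_apply_mem_span x (w k) (i : ℕ))
      rintro _ ⟨j, hj, rfl⟩
      exact ⟨Sum.inr (Sum.inr (k, ⟨j, lt_of_le_of_lt hj i.2⟩)), rfl⟩
  obtain ⟨𝔟', h𝔟'⟩ := exists_basis_of_span_eq_top 𝔟 f hspan
  exact ⟨𝔟', fun i => h𝔟' _, fun k i => h𝔟' _, fun k i => h𝔟' _⟩

end Cfsg.Agent.Lib.Helper17_DRConv
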