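import Mathlib
import Cfsg.Agent.Lib.Helper17_DRConv

/-!
# Diederichsen–Reiner for `C_p` over `ℤ_[p]` (lemma D1 of helper57's plan for S0960/S4441)

A finite free `ℤ_[p]`-module `L` with an automorphism `x`, `x ^ p = 1`, has a basis adapted to a
decomposition `L = T ⊕ Y ⊕ F` into trivial pieces, pieces on which `1 + x + ⋯ + x^(p-1)` vanishes
(cyclic with basis `u, x u, …, x^(p-2) u`) and free pieces (basis `w, x w, …, x^(p-1) w`).

Main result: `Cfsg.Agent.Lib.Helper3_DR.dr`.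
-/

set_option autoImplicit false

namespace Cfsg.Agent.Lib.Helper3_DR

open Finset

variable {p : ℕ} [hp : Fact p.Prime]

/-! ### `p`-adic divisibility -/

theorem isUnit_of_not_dvd {β : ℤ_[p]} (h : ¬ (p : ℤ_[p]) ∣ β) : IsUnit β := by
  rw [PadicInt.isUnit_iff]
  rcases lt_or_eq_of_le (PadicInt.norm_le_one β) with h1 | h1
  · exact absurd ((PadicInt.norm_lt_one_iff_dvd β).1 h1) h
  · exact h1

theorem p_ne_zero : (p : ℤ_[p]) ≠ 0 := by
  exact_mod_cast hp.out.ne_zero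

theorem not_isUnit_p : ¬ IsUnit (p : ℤ_[p]) := PadicInt.prime_p.not_isUnit

theorem eq_zero_of_forall_pow_dvd {a : ℤ_[p]} (h : ∀ k : ℕ, (p : ℤ_[p]) ^ k ∣ a) : a = 0 := by
  by_contra ha
  have hf : FiniteMultiplicity (p : ℤ_[p]) a := FiniteMultiplicity.of_not_isUnit not_isUnit_p ha
  obtain ⟨n, hn⟩ := hf
  exact hn (h (n + 1))

section General

variable {L : Type*} [AddCommGroup L] [Module ℤ_[p] L]

/-- Lemma Q: lifting a "basis modulo `N`" of `M`, for `p • M ≤ N ≤ M`. -/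
theorem exists_lift_family [IsNoetherian ℤ_[p] L] (M : Submodule ℤ_[p] L) :
    ∀ N : Submodule ℤ_[p] L, N ≤ M → (∀ m ∈ M, (p : ℤ_[p]) • m ∈ N) →
      ∃ (n : ℕ) (m : Fin n → L), (∀ i, m i ∈ M) ∧ Submodule.span ℤ_[p] (Set.range m) ⊔ N = M ∧
        ∀ α : Fin n → ℤ_[p], ∑ i, α i • m i ∈ N → ∀ i, (p : ℤ_[p]) ∣ α i := by
  intro N
  induction N using IsNoetherian.induction with
  | hgt N ih =>
    intro hNM hpM
    by_cases hEq : N = M
    · refine ⟨0, Fin.elim0, fun i => i.elim0, ?_, fun _ _ i => i.elim0⟩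
      simp [hEq]
    · have : ∃ m' ∈ M, m' ∉ N := by
        by_contra hcon
        push Not at hcon
        exact hEq (le_antisymm hNM hcon)
      obtain ⟨m', hm'M, hm'N⟩ := this
      set N' : Submodule ℤ_[p] L := N ⊔ Submodule.span ℤ_[p] {m'} with hN'
      have hlt : N' > N := by
        refine lt_of_le_of_ne le_sup_left ?_
        intro h
        apply hm'N
        rw [h]
        exact Submodule.mem_sup_right (Submodule.mem_span_singleton_self m')
      have hN'M : N' ≤ M := by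
        refine sup_le hNM ?_
        rw [Submodule.span_singleton_le_iff_mem]
        exact hm'M
      obtain ⟨n, m, hmM, hspan, hind⟩ := ih N' hlt hN'M
        (fun z hz => Submodule.mem_sup_left (hpM z hz))
      refine ⟨n + 1, Fin.cons m' m, ?_, ?_, ?_⟩
      · intro i
        refine Fin.cases ?_ ?_ i
        · simpa using hm'M
        · intro j
          simpa using hmM j
      · rw [← hspan]
        have : Set.range (Fin.cons m' m : Fin (n + 1) → L) = insert m' (Set.range m) := by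
          ext z
          constructor
          · rintro ⟨i, rfl⟩
            refine Fin.cases ?_ ?_ i
            · simp
            · intro j
              simp
          · rintro (rfl | ⟨j, rfl⟩)
            · exact ⟨0, by simp⟩
            · exact ⟨j.succ, by simp⟩
        rw [this, Submodule.span_insert, hN']
        ac_rfl
      · intro α hα
        rw [Fin.sum_univ_succ] at hα
        simp only [Fin.cons_zero, Fin.cons_succ] at hα
        have h1 : ∑ i : Fin n, α i.succ • m i ∈ N' := by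
          have : ∑ i : Fin n, α i.succ • m i
              = (α 0 • m' + ∑ i : Fin n, α i.succ • m i) + (-(α 0)) • m' := by
            rw [neg_smul]; abel
          rw [this]
          exact Submodule.add_mem _ (Submodule.mem_sup_left hα)
            (Submodule.mem_sup_right (Submodule.smul_mem _ _ (Submodule.mem_span_singleton_self m')))
        have h2 := hind (fun i => α i.succ) h1
        have h3 : ∑ i : Fin n, α i.succ • m i ∈ N := by
          refine Submodule.sum_mem _ (fun i _ => ?_)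
          obtain ⟨c, hc⟩ := h2 i
          rw [hc, mul_smul]
          exact hpM _ (Submodule.smul_mem _ _ (hmM i))
        have h4 : α 0 • m' ∈ N := by
          have : α 0 • m' = (α 0 • m' + ∑ i : Fin n, α i.succ • m i)
              - ∑ i : Fin n, α i.succ • m i := by abel
          rw [this]
          exact Submodule.sub_mem _ hα h3
        intro i
        refine Fin.cases ?_ ?_ i
        · by_contra hnd
          obtain ⟨u, hu⟩ := isUnit_of_not_dvd hnd
          apply hm'N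
          have : m' = (↑u⁻¹ : ℤ_[p]) • (α 0 • m') := by
            rw [← hu, smul_smul, Units.inv_mul, one_smul]
          rw [this]
          exact Submodule.smul_mem _ _ h4
        · intro j
          exact h2 j

/-- A family that is independent modulo `p` (relative to any submodule `N₀`) is linearly
independent, in a torsion-free module. -/
theorem linearIndependent_of_mod_p [Module.IsTorsionFree ℤ_[p] L] {ι : Type*} [Fintype ι]
    (e : ι → L) (N₀ : Submodule ℤ_[p] L)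
    (h : ∀ α : ι → ℤ_[p], ∑ i, α i • e i ∈ N₀ → ∀ i, (p : ℤ_[p]) ∣ α i) :
    LinearIndependent ℤ_[p] e := by
  rw [Fintype.linearIndependent_iff]
  have key : ∀ k : ℕ, ∀ α : ι → ℤ_[p], ∑ i, α i • e i = 0 → ∀ i, (p : ℤ_[p]) ^ k ∣ α i := by
    intro k
    induction k with
    | zero => intro α _ i; simp
    | succ k ih =>
      intro α hα i
      have h1 := h α (by rw [hα]; exact N₀.zero_mem)
      choose β hβ using h1
      have h2 : ∑ i, β i • e i = 0 := by
        have : (p : ℤ_[p]) • ∑ i, β i • e i = 0 := by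
          rw [Finset.smul_sum, ← hα]
          refine Finset.sum_congr rfl (fun i _ => ?_)
          rw [hβ i, mul_smul]
        exact (smul_eq_zero.1 this).resolve_left p_ne_zero
      obtain ⟨c, hc⟩ := ih β h2 i
      refine ⟨c, ?_⟩
      rw [hβ i, hc, pow_succ]
      ring
  intro α hα i
  exact eq_zero_of_forall_pow_dvd (fun k => key k α hα i)

end General

/-! ### The polynomial identity `ν = y^(p-1) + p (1 + y h)` -/

section PolyId

open Polynomial

/-- In `ℤ_[p][X]`: `∑_{i<p} (X+1)^i = X^(p-1) + p (1 + X r')`. -/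
theorem exists_poly_identity :
    ∃ r' : ℤ_[p][X], ∑ i ∈ range p, (X + 1 : ℤ_[p][X]) ^ i
      = X ^ (p - 1) + C (p : ℤ_[p]) * (1 + X * r') := by
  obtain ⟨r, hr⟩ := exists_add_pow_prime_eq hp.out (X : ℤ_[p][X]) 1
  have hp1 : p - 1 + 1 = p := Nat.sub_add_cancel hp.out.one_le
  have h1 : (∑ i ∈ range p, (X + 1 : ℤ_[p][X]) ^ i) * X = (X ^ (p - 1) + C (p : ℤ_[p]) * r) * X := by
    have := geom_sum_mul (X + 1 : ℤ_[p][X]) p
    rw [add_sub_cancel_right] at this
    rw [this, hr]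
    have hX : (X : ℤ_[p][X]) ^ p = X ^ (p - 1) * X := by rw [← pow_succ, hp1]
    rw [hX]
    simp only [one_pow, mul_one, map_natCast]
    ring
  have h2 : ∑ i ∈ range p, (X + 1 : ℤ_[p][X]) ^ i = X ^ (p - 1) + C (p : ℤ_[p]) * r :=
    mul_right_cancel₀ X_ne_zero h1
  -- constant coefficient of r is 1
  have h3 : r.coeff 0 = 1 := by
    have := congrArg (Polynomial.eval 0) h2
    simp only [eval_finsetSum, eval_pow, eval_add, eval_X, eval_one, zero_add, one_pow,
      sum_const, card_range, eval_mul, eval_C, nsmul_eq_mul, mul_one] at this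
    rw [zero_pow (Nat.sub_ne_zero_of_lt hp.out.one_lt), zero_add, ← coeff_zero_eq_eval_zero] at this
    have h4 : (p : ℤ_[p]) * 1 = (p : ℤ_[p]) * r.coeff 0 := by rw [mul_one]; exact this
    exact (mul_left_cancel₀ p_ne_zero h4).symm
  refine ⟨r.divX, ?_⟩
  rw [h2]
  congr 2
  conv_lhs => rw [← divX_mul_X_add r, h3]
  simp only [map_one]
  ring

variable {L : Type*} [AddCommGroup L] [Module ℤ_[p] L]

theorem exists_h (x : Module.End ℤ_[p] L) :
    ∃ h : Module.End ℤ_[p] L, Commute h (x - 1) ∧ Commute h x ∧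
      ∑ i ∈ range p, x ^ i = (x - 1) ^ (p - 1) + (p : ℤ_[p]) • (1 + (x - 1) * h) := by
  obtain ⟨r', hr'⟩ := exists_poly_identity (p := p)
  refine ⟨aeval (x - 1) r', ?_, ?_, ?_⟩
  · have : Commute (aeval (x - 1) r') (aeval (x - 1) (X : ℤ_[p][X])) := by
      unfold Commute SemiconjBy
      rw [← map_mul, ← map_mul, mul_comm]
    rwa [aeval_X] at this
  · have : Commute (aeval (x - 1) r') (aeval (x - 1) (X + 1 : ℤ_[p][X])) := by
      unfold Commute SemiconjBy
      rw [← map_mul, ← map_mul, mul_comm]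
    rwa [map_add, aeval_X, map_one, sub_add_cancel] at this
  · have := congrArg (aeval (x - 1)) hr'
    simp only [map_sum, map_pow, map_add, aeval_X, map_one, sub_add_cancel, map_mul, aeval_C] at this
    rw [this]
    congr 1

end PolyId

/-! ### The operators `y = x - 1`, `ν = 1 + x + ⋯ + x^(p-1)` and the sublattices `F`, `L'` -/

section Lattice

variable {L : Type*} [AddCommGroup L] [Module ℤ_[p] L]

/-- `ν = ∑_{i<p} x^i`. -/
noncomputable def nu (x : Module.End ℤ_[p] L) : Module.End ℤ_[p] L := ∑ i ∈ range p, x ^ i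

variable {x : Module.End ℤ_[p] L}

theorem nu_mul_y (hx : x ^ p = 1) : nu x * (x - 1) = 0 := by
  unfold nu
  rw [geom_sum_mul, hx, sub_self]

theorem y_mul_nu (hx : x ^ p = 1) : (x - 1) * nu x = 0 := by
  unfold nu
  rw [mul_geom_sum, hx, sub_self]

theorem nu_mul_x (hx : x ^ p = 1) : nu x * x = nu x := by
  have := nu_mul_y hx
  rw [mul_sub, mul_one, sub_eq_zero] at this
  exact this

theorem nu_mul_pow (hx : x ^ p = 1) (i : ℕ) : nu x * x ^ i = nu x := by
  induction i with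
  | zero => simp
  | succ i ih => rw [pow_succ, ← mul_assoc, ih, nu_mul_x hx]

theorem nu_mul_nu (hx : x ^ p = 1) : nu x * nu x = (p : ℤ_[p]) • nu x := by
  conv_lhs => rhs; unfold nu
  rw [Finset.mul_sum]
  simp only [nu_mul_pow hx, sum_const, card_range]
  rw [← Nat.cast_smul_eq_nsmul ℤ_[p]]

theorem commute_x_nu : Commute x (nu x) := by
  unfold nu
  exact Commute.sum_right _ _ _ (fun i _ => (Commute.refl x).pow_right i)

theorem y_nu_apply (hx : x ^ p = 1) (l : L) : (x - 1) (nu x l) = 0 := by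
  have := congrArg (fun f : Module.End ℤ_[p] L => f l) (y_mul_nu hx)
  simpa using this

theorem nu_y_apply (hx : x ^ p = 1) (l : L) : nu x ((x - 1) l) = 0 := by
  have := congrArg (fun f : Module.End ℤ_[p] L => f l) (nu_mul_y hx)
  simpa using this

theorem nu_nu_apply (hx : x ^ p = 1) (l : L) : nu x (nu x l) = (p : ℤ_[p]) • nu x l := by
  have := congrArg (fun f : Module.End ℤ_[p] L => f l) (nu_mul_nu hx)
  simpa using this

/-- `F`: the fixed points of `x`. -/
noncomputable def Fx (x : Module.End ℤ_[p] L) : Submodule ℤ_[p] L := LinearMap.ker (x - 1)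

/-- `L'`: the kernel of `ν`. -/
noncomputable def Lp (x : Module.End ℤ_[p] L) : Submodule ℤ_[p] L := LinearMap.ker (nu x)

theorem mem_Fx {l : L} : l ∈ Fx x ↔ (x - 1) l = 0 := LinearMap.mem_ker

theorem mem_Fx' {l : L} : l ∈ Fx x ↔ x l = l := by
  rw [mem_Fx, LinearMap.sub_apply, Module.End.one_apply, sub_eq_zero]

theorem mem_Lp {l : L} : l ∈ Lp x ↔ nu x l = 0 := LinearMap.mem_ker

theorem pow_apply_of_mem_Fx {l : L} (hl : l ∈ Fx x) (i : ℕ) : (x ^ i) l = l := by
  induction i with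
  | zero => simp
  | succ i ih => rw [pow_succ, Module.End.mul_apply, mem_Fx'.1 hl, ih]

theorem nu_apply_of_mem_Fx {l : L} (hl : l ∈ Fx x) : nu x l = (p : ℤ_[p]) • l := by
  unfold nu
  rw [LinearMap.sum_apply]
  simp only [pow_apply_of_mem_Fx hl, sum_const, card_range]
  rw [← Nat.cast_smul_eq_nsmul ℤ_[p]]

theorem nu_mem_Fx (hx : x ^ p = 1) (l : L) : nu x l ∈ Fx x := mem_Fx.2 (y_nu_apply hx l)

theorem y_mem_Lp (hx : x ^ p = 1) (l : L) : (x - 1) l ∈ Lp x := mem_Lp.2 (nu_y_apply hx l)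

variable [Module.IsTorsionFree ℤ_[p] L]

theorem Fx_inf_Lp : Fx x ⊓ Lp x = ⊥ := by
  rw [eq_bot_iff]
  rintro l ⟨h1, h2⟩
  have h3 := nu_apply_of_mem_Fx (SetLike.mem_coe.1 h1)
  rw [mem_Lp.1 (SetLike.mem_coe.1 h2)] at h3
  exact (Submodule.mem_bot _).2 ((smul_eq_zero.1 h3.symm).resolve_left p_ne_zero)

theorem mem_Fx_of_smul {l : L} (h : (p : ℤ_[p]) • l ∈ Fx x) : l ∈ Fx x := by
  rw [mem_Fx] at h ⊢
  rw [map_smul] at h
  exact (smul_eq_zero.1 h).resolve_left p_ne_zero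

theorem mem_Lp_of_smul {l : L} (h : (p : ℤ_[p]) • l ∈ Lp x) : l ∈ Lp x := by
  rw [mem_Lp] at h ⊢
  rw [map_smul] at h
  exact (smul_eq_zero.1 h).resolve_left p_ne_zero

omit [Module.IsTorsionFree ℤ_[p] L] in
theorem smul_mem_Fx_sup_Lp (hx : x ^ p = 1) (l : L) : (p : ℤ_[p]) • l ∈ Fx x ⊔ Lp x := by
  have : (p : ℤ_[p]) • l = nu x l + ((p : ℤ_[p]) • l - nu x l) := by abel
  rw [this]
  refine Submodule.add_mem_sup (nu_mem_Fx hx l) ?_
  rw [mem_Lp, map_sub, map_smul, nu_nu_apply hx, sub_self]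

theorem y_injOn_Lp {l : L} (hl : l ∈ Lp x) (h : (x - 1) l = 0) : l = 0 := by
  have : l ∈ Fx x ⊓ Lp x := ⟨mem_Fx.2 h, hl⟩
  rw [Fx_inf_Lp] at this
  exact (Submodule.mem_bot _).1 this

end Lattice

/-! ### Lattices killed by `ν`: the `y`-adic filtration -/

section Filtration

variable {L : Type*} [AddCommGroup L] [Module ℤ_[p] L] [Module.IsTorsionFree ℤ_[p] L]
variable {x h : Module.End ℤ_[p] L}

/-- The data of the polynomial identity. -/
structure HId (x h : Module.End ℤ_[p] L) : Prop where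
  hx : x ^ p = 1
  hc : Commute h x
  hid : nu x = (x - 1) ^ (p - 1) + (p : ℤ_[p]) • (1 + (x - 1) * h)

omit [Module.IsTorsionFree ℤ_[p] L] in
theorem exists_HId (hx : x ^ p = 1) : ∃ h : Module.End ℤ_[p] L, HId x h := by
  obtain ⟨h, _, h2, h3⟩ := exists_h (p := p) x
  exact ⟨h, hx, h2, h3⟩

omit [Module.IsTorsionFree ℤ_[p] L] in
theorem HId.commute_nu (H : HId x h) : Commute h (nu x) := by
  unfold nu
  exact Commute.sum_right _ _ _ (fun i _ => H.hc.pow_right i)

omit [Module.IsTorsionFree ℤ_[p] L] in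
theorem HId.h_mem_Lp (H : HId x h) {l : L} (hl : l ∈ Lp x) : h l ∈ Lp x := by
  rw [mem_Lp] at hl ⊢
  have := congrArg (fun f : Module.End ℤ_[p] L => f l) H.commute_nu.eq
  simp only [Module.End.mul_apply] at this
  rw [← this, hl, map_zero]

omit [Module.IsTorsionFree ℤ_[p] L] in
theorem HId.ypow_mem_Lp (H : HId x h) {l : L} (hl : l ∈ Lp x) (i : ℕ) : ((x - 1) ^ i) l ∈ Lp x := by
  induction i with
  | zero => simpa using hl
  | succ i _ =>
    rw [pow_succ', Module.End.mul_apply]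
    exact y_mem_Lp H.hx _

omit [Module.IsTorsionFree ℤ_[p] L] in
theorem HId.nu_apply (H : HId x h) (l : L) :
    nu x l = ((x - 1) ^ (p - 1)) l + (p : ℤ_[p]) • (l + (x - 1) (h l)) := by
  have := congrArg (fun f : Module.End ℤ_[p] L => f l) H.hid
  simpa using this

omit [Module.IsTorsionFree ℤ_[p] L] in
/-- On `L'`: `y^(p-1) l = p • (-(l + y h l))`. -/
theorem HId.ypow_eq (H : HId x h) {l : L} (hl : l ∈ Lp x) :
    ((x - 1) ^ (p - 1)) l = (p : ℤ_[p]) • (-(l + (x - 1) (h l))) := by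
  have := H.nu_apply l
  rw [mem_Lp.1 hl] at this
  rw [smul_neg]
  exact eq_neg_of_add_eq_zero_left this.symm

omit [Module.IsTorsionFree ℤ_[p] L] in
theorem HId.ypow_mem_smul (H : HId x h) {l : L} (hl : l ∈ Lp x) :
    ∃ l' ∈ Lp x, ((x - 1) ^ (p - 1)) l = (p : ℤ_[p]) • l' :=
  ⟨-(l + (x - 1) (h l)), Submodule.neg_mem _ (Submodule.add_mem _ hl (y_mem_Lp H.hx _)), H.ypow_eq hl⟩

omit [Module.IsTorsionFree ℤ_[p] L] in
theorem HId.smul_mem_map_y (H : HId x h) {l : L} (hl : l ∈ Lp x) :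
    (p : ℤ_[p]) • l ∈ (Lp x).map (x - 1) := by
  have hp1 : p - 1 = (p - 2) + 1 := by have := hp.out.two_le; omega
  have h1 := H.ypow_eq hl
  rw [hp1, pow_succ', Module.End.mul_apply] at h1
  refine ⟨-(((x - 1) ^ (p - 2)) l + (p : ℤ_[p]) • h l), ?_, ?_⟩
  · exact Submodule.neg_mem _ (Submodule.add_mem _ (H.ypow_mem_Lp hl _)
      (Submodule.smul_mem _ _ (H.h_mem_Lp hl)))
  · rw [map_neg, map_add, h1, map_smul]
    simp only [smul_neg, smul_add, neg_add_rev, neg_neg]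
    abel

/-- If `y^(p-2) z ∈ p L'` then `z ∈ y L'`. -/
theorem HId.mem_map_y_of_ypow (H : HId x h) {z l : L} (hz : z ∈ Lp x) (hl : l ∈ Lp x)
    (hzl : ((x - 1) ^ (p - 2)) z = (p : ℤ_[p]) • l) : z ∈ (Lp x).map (x - 1) := by
  have hp1 : p - 1 = (p - 2) + 1 := by have := hp.out.two_le; omega
  have h1 := H.ypow_eq hz
  rw [hp1, pow_succ', Module.End.mul_apply, hzl, map_smul] at h1
  have h2 : (x - 1) l = -(z + (x - 1) (h z)) :=
    smul_right_injective L p_ne_zero h1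
  refine ⟨-(l + h z), Submodule.neg_mem _ (Submodule.add_mem _ hl (H.h_mem_Lp hz)), ?_⟩
  rw [map_neg, map_add, h2]
  abel

end Filtration

/-! ### Lemma S': lifting a basis of `L' / y L'` -/

section SPrime

variable {L : Type*} [AddCommGroup L] [Module ℤ_[p] L] [Module.IsTorsionFree ℤ_[p] L]
variable {x h : Module.End ℤ_[p] L}
variable {ι : Type*} [Fintype ι] (v : ι → L)

/-- Claim A: the `y`-adic independence. -/
theorem HId.claimA (H : HId x h) (hv : ∀ i, v i ∈ Lp x)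
    (hind : ∀ α : ι → ℤ_[p], ∑ i, α i • v i ∈ (Lp x).map (x - 1) → ∀ i, (p : ℤ_[p]) ∣ α i) :
    ∀ m : ℕ, m ≤ p - 1 → ∀ (g : ι → ℕ → ℤ_[p]) (a b : L), a ∈ Lp x → b ∈ Lp x →
      ∑ i, ∑ j ∈ range m, g i j • ((x - 1) ^ j) (v i) = (p : ℤ_[p]) • a + ((x - 1) ^ m) b →
      ∀ i, ∀ j < m, (p : ℤ_[p]) ∣ g i j := by
  intro m
  induction m with
  | zero => intro _ g a b _ _ _ i j hj; omega
  | succ m ih =>
    intro hm g a b ha hb hsum
    have hsplit : ∑ i, ∑ j ∈ range (m + 1), g i j • ((x - 1) ^ j) (v i)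
        = ∑ i, ∑ j ∈ range m, g i j • ((x - 1) ^ j) (v i)
          + ((x - 1) ^ m) (∑ i, g i m • v i) := by
      simp only [Finset.sum_range_succ, Finset.sum_add_distrib, map_sum, map_smul]
    have hzL : ∑ i, g i m • v i ∈ Lp x :=
      Submodule.sum_mem _ (fun i _ => Submodule.smul_mem _ _ (hv i))
    have hlow : ∑ i, ∑ j ∈ range m, g i j • ((x - 1) ^ j) (v i)
        = (p : ℤ_[p]) • a + ((x - 1) ^ m) ((x - 1) b - ∑ i, g i m • v i) := by
      rw [map_sub, ← Module.End.mul_apply, ← pow_succ]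
      have e := hsum
      rw [hsplit] at e
      rw [eq_sub_of_add_eq e]
      abel
    have hdiv := ih (by omega) g a ((x - 1) b - ∑ i, g i m • v i) ha
      (Submodule.sub_mem _ (y_mem_Lp H.hx b) hzL) hlow
    -- the top level
    have hex : ∀ i j, ∃ c : ℤ_[p], j < m → g i j = (p : ℤ_[p]) * c := by
      intro i j
      by_cases hj : j < m
      · obtain ⟨c, hc⟩ := hdiv i j hj
        exact ⟨c, fun _ => hc⟩
      · exact ⟨0, fun h => absurd h hj⟩
    choose g' hg' using hex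
    set a' : L := ∑ i, ∑ j ∈ range m, g' i j • ((x - 1) ^ j) (v i) with ha'
    have ha'L : a' ∈ Lp x :=
      Submodule.sum_mem _ (fun i _ => Submodule.sum_mem _ (fun j _ =>
        Submodule.smul_mem _ _ (H.ypow_mem_Lp (hv i) j)))
    have hpa' : ∑ i, ∑ j ∈ range m, g i j • ((x - 1) ^ j) (v i) = (p : ℤ_[p]) • a' := by
      rw [ha', Finset.smul_sum]
      refine Finset.sum_congr rfl (fun i _ => ?_)
      rw [Finset.smul_sum]
      refine Finset.sum_congr rfl (fun j hj => ?_)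
      rw [hg' i j (Finset.mem_range.1 hj), mul_smul]
    have h1 : ((x - 1) ^ m) (∑ i, g i m • v i - (x - 1) b) = (p : ℤ_[p]) • (a - a') := by
      rw [hpa'] at hlow
      rw [smul_sub, hlow, map_sub, map_sub]
      abel
    have hpm : p - 2 = (p - 2 - m) + m := by omega
    have h2 : ((x - 1) ^ (p - 2)) (∑ i, g i m • v i - (x - 1) b)
        = (p : ℤ_[p]) • ((x - 1) ^ (p - 2 - m)) (a - a') := by
      rw [hpm, pow_add, Module.End.mul_apply, h1, map_smul]
      congr 3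
      omega
    have h3 : ∑ i, g i m • v i - (x - 1) b ∈ (Lp x).map (x - 1) :=
      H.mem_map_y_of_ypow (Submodule.sub_mem _ hzL (y_mem_Lp H.hx b))
        (H.ypow_mem_Lp (Submodule.sub_mem _ ha ha'L) _) h2
    have h4 : ∑ i, g i m • v i ∈ (Lp x).map (x - 1) := by
      have : ∑ i, g i m • v i = (∑ i, g i m • v i - (x - 1) b) + (x - 1) b := by abel
      rw [this]
      exact Submodule.add_mem _ h3 ⟨b, hb, rfl⟩
    have h5 := hind (fun i => g i m) h4
    intro i j hj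
    rcases Nat.lt_succ_iff_lt_or_eq.1 hj with hj' | rfl
    · exact hdiv i j hj'
    · exact h5 i

/-- `ℕ`-indexed linear independence of `y^j v_i`, `j < p - 1`. -/
theorem HId.indep (H : HId x h) (hv : ∀ i, v i ∈ Lp x)
    (hind : ∀ α : ι → ℤ_[p], ∑ i, α i • v i ∈ (Lp x).map (x - 1) → ∀ i, (p : ℤ_[p]) ∣ α i) :
    ∀ g : ι → ℕ → ℤ_[p], ∑ i, ∑ j ∈ range (p - 1), g i j • ((x - 1) ^ j) (v i) = 0 →
      ∀ i, ∀ j < p - 1, g i j = 0 := by
  have key : ∀ k : ℕ, ∀ g : ι → ℕ → ℤ_[p],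
      ∑ i, ∑ j ∈ range (p - 1), g i j • ((x - 1) ^ j) (v i) = 0 →
      ∀ i, ∀ j < p - 1, (p : ℤ_[p]) ^ k ∣ g i j := by
    intro k
    induction k with
    | zero => intro g _ i j _; simp
    | succ k ih =>
      intro g hg i j hj
      have hdiv := H.claimA v hv hind (p - 1) le_rfl g 0 0 (Submodule.zero_mem _)
        (Submodule.zero_mem _) (by rw [hg]; simp)
      have hex : ∀ i j, ∃ c : ℤ_[p], j < p - 1 → g i j = (p : ℤ_[p]) * c := by
        intro i j
        by_cases hj : j < p - 1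
        · obtain ⟨c, hc⟩ := hdiv i j hj
          exact ⟨c, fun _ => hc⟩
        · exact ⟨0, fun h => absurd h hj⟩
      choose g' hg' using hex
      have h2 : ∑ i, ∑ j ∈ range (p - 1), g' i j • ((x - 1) ^ j) (v i) = 0 := by
        have : (p : ℤ_[p]) • ∑ i, ∑ j ∈ range (p - 1), g' i j • ((x - 1) ^ j) (v i) = 0 := by
          rw [← hg, Finset.smul_sum]
          refine Finset.sum_congr rfl (fun i _ => ?_)
          rw [Finset.smul_sum]
          refine Finset.sum_congr rfl (fun j hj => ?_)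
          rw [hg' i j (Finset.mem_range.1 hj), mul_smul]
        exact (smul_eq_zero.1 this).resolve_left p_ne_zero
      obtain ⟨c, hc⟩ := ih g' h2 i j hj
      refine ⟨c, ?_⟩
      rw [hg' i j hj, hc, pow_succ]
      ring
  intro g hg i j hj
  exact eq_zero_of_forall_pow_dvd (fun k => key k g hg i j hj)

omit [Module.IsTorsionFree ℤ_[p] L] [Fintype ι] in
theorem span_step
    (hspan : Lp x ≤ Submodule.span ℤ_[p] (Set.range v) ⊔ (Lp x).map (x - 1)) :
    ∀ m : ℕ, ∀ l ∈ Lp x,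
      ∃ s ∈ Submodule.span ℤ_[p] {z | ∃ i, ∃ j < m, z = ((x - 1) ^ j) (v i)},
        ∃ l' ∈ Lp x, l = s + ((x - 1) ^ m) l' := by
  intro m
  induction m with
  | zero =>
    intro l hl
    exact ⟨0, Submodule.zero_mem _, l, hl, by simp⟩
  | succ m ih =>
    intro l hl
    obtain ⟨s, hs, l₁, hl₁, rfl⟩ := ih l hl
    obtain ⟨s₁, hs₁, z, hz, hsz⟩ := Submodule.mem_sup.1 (hspan hl₁)
    obtain ⟨l₂, hl₂, rfl⟩ := hz
    refine ⟨s + ((x - 1) ^ m) s₁, Submodule.add_mem _ ?_ ?_, l₂, hl₂, ?_⟩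
    · refine Submodule.span_mono ?_ hs
      rintro z ⟨i, j, hj, rfl⟩
      exact ⟨i, j, Nat.lt_succ_of_lt hj, rfl⟩
    · have : ((x - 1) ^ m) s₁ ∈ (Submodule.span ℤ_[p] (Set.range v)).map ((x - 1) ^ m) :=
        ⟨s₁, hs₁, rfl⟩
      rw [Submodule.map_span] at this
      refine Submodule.span_mono ?_ this
      rintro z ⟨_, ⟨i, rfl⟩, rfl⟩
      exact ⟨i, m, Nat.lt_succ_self m, rfl⟩
    · rw [← hsz, map_add, pow_succ, Module.End.mul_apply]
      abel

omit [Module.IsTorsionFree ℤ_[p] L] [Fintype ι] in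
theorem HId.span_eq [IsNoetherian ℤ_[p] L] (H : HId x h)
    (hspan : Lp x ≤ Submodule.span ℤ_[p] (Set.range v) ⊔ (Lp x).map (x - 1)) :
    Lp x ≤ Submodule.span ℤ_[p] {z | ∃ i, ∃ j < p - 1, z = ((x - 1) ^ j) (v i)} := by
  apply Submodule.le_of_le_smul_of_le_jacobson_bot (I := Ideal.span {(p : ℤ_[p])})
    (IsNoetherian.noetherian _)
  · rw [IsLocalRing.jacobson_eq_maximalIdeal ⊥ bot_ne_top, PadicInt.maximalIdeal_eq_span_p]
  · intro l hl
    obtain ⟨s, hs, l', hl', rfl⟩ := span_step v hspan (p - 1) l hl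
    obtain ⟨l'', hl'', e⟩ := H.ypow_mem_smul hl'
    rw [e]
    refine Submodule.add_mem_sup hs ?_
    rw [Submodule.ideal_span_singleton_smul, Submodule.mem_smul_pointwise_iff_exists]
    exact ⟨l'', hl'', rfl⟩

end SPrime

/-! ### Gluing -/

section Glue

open Pointwise

variable {L : Type*} [AddCommGroup L] [Module ℤ_[p] L]
variable {x h : Module.End ℤ_[p] L}

/-- Nakayama over `ℤ_[p]`. -/
theorem le_of_le_sup_smul [IsNoetherian ℤ_[p] L] (M S : Submodule ℤ_[p] L)
    (hM : M ≤ S ⊔ (p : ℤ_[p]) • M) : M ≤ S := by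
  apply Submodule.le_of_le_smul_of_le_jacobson_bot (I := Ideal.span {(p : ℤ_[p])})
    (IsNoetherian.noetherian _)
  · rw [IsLocalRing.jacobson_eq_maximalIdeal ⊥ bot_ne_top, PadicInt.maximalIdeal_eq_span_p]
  · rwa [Submodule.ideal_span_singleton_smul]

theorem smul_le_self' (M : Submodule ℤ_[p] L) : (p : ℤ_[p]) • M ≤ M := by
  intro m hm
  rw [Submodule.mem_smul_pointwise_iff_exists] at hm
  obtain ⟨b, hb, rfl⟩ := hm
  exact M.smul_mem _ hb

theorem exists_w [IsNoetherian ℤ_[p] L] (hx : x ^ p = 1) : ∃ (c : ℕ) (w : Fin c → L),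
    Submodule.span ℤ_[p] (Set.range w) ⊔ (Fx x ⊔ Lp x) = ⊤ ∧
    ∀ α : Fin c → ℤ_[p], ∑ k, α k • w k ∈ Fx x ⊔ Lp x → ∀ k, (p : ℤ_[p]) ∣ α k := by
  obtain ⟨c, w, _, h1, h2⟩ := exists_lift_family (⊤ : Submodule ℤ_[p] L) (Fx x ⊔ Lp x) le_top
    (fun m _ => smul_mem_Fx_sup_Lp hx m)
  exact ⟨c, w, h1, h2⟩

theorem dvd_of_nu_w {c : ℕ} (w : Fin c → L)
    (hw : ∀ α : Fin c → ℤ_[p], ∑ k, α k • w k ∈ Fx x ⊔ Lp x → ∀ k, (p : ℤ_[p]) ∣ α k)
    (α : Fin c → ℤ_[p]) (hα : ∑ k, α k • nu x (w k) ∈ (p : ℤ_[p]) • Fx x) :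
    ∀ k, (p : ℤ_[p]) ∣ α k := by
  rw [Submodule.mem_smul_pointwise_iff_exists] at hα
  obtain ⟨f, hf, e⟩ := hα
  apply hw
  have : ∑ k, α k • w k = f + (∑ k, α k • w k - f) := by abel
  rw [this]
  refine Submodule.add_mem_sup hf ?_
  rw [mem_Lp, map_sub, map_sum]
  simp only [map_smul]
  rw [← e, nu_apply_of_mem_Fx hf, sub_self]

theorem dvd_of_y_w {c : ℕ} (w : Fin c → L)
    (hw : ∀ α : Fin c → ℤ_[p], ∑ k, α k • w k ∈ Fx x ⊔ Lp x → ∀ k, (p : ℤ_[p]) ∣ α k)
    (α : Fin c → ℤ_[p]) (hα : ∑ k, α k • (x - 1) (w k) ∈ (Lp x).map (x - 1)) :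
    ∀ k, (p : ℤ_[p]) ∣ α k := by
  obtain ⟨l, hl, e⟩ := hα
  apply hw
  have : ∑ k, α k • w k = (∑ k, α k • w k - l) + l := by abel
  rw [this]
  refine Submodule.add_mem_sup ?_ hl
  rw [mem_Fx, map_sub, map_sum]
  simp only [map_smul]
  rw [e, sub_self]

theorem exists_t [Module.IsTorsionFree ℤ_[p] L] [IsNoetherian ℤ_[p] L] (hx : x ^ p = 1) {c : ℕ}
    (w : Fin c → L)
    (hw : ∀ α : Fin c → ℤ_[p], ∑ k, α k • w k ∈ Fx x ⊔ Lp x → ∀ k, (p : ℤ_[p]) ∣ α k) :
    ∃ (a : ℕ) (t : Fin a → L), (∀ i, t i ∈ Fx x) ∧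
      LinearIndependent ℤ_[p] (Sum.elim (fun k => nu x (w k)) t) ∧
      Fx x ≤ Submodule.span ℤ_[p] (Set.range (fun k => nu x (w k)))
        ⊔ Submodule.span ℤ_[p] (Set.range t) := by
  set N : Submodule ℤ_[p] L :=
    (p : ℤ_[p]) • Fx x ⊔ Submodule.span ℤ_[p] (Set.range (fun k => nu x (w k))) with hN
  have hνw : Submodule.span ℤ_[p] (Set.range (fun k => nu x (w k))) ≤ Fx x := by
    rw [Submodule.span_le, Set.range_subset_iff]
    exact fun k => nu_mem_Fx hx _
  have hNM : N ≤ Fx x := sup_le (smul_le_self' _) hνw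
  obtain ⟨a, t, htF, hspan, hind⟩ := exists_lift_family (Fx x) N hNM
    (fun m hm => Submodule.mem_sup_left (Submodule.smul_mem_pointwise_smul m _ _ hm))
  refine ⟨a, t, htF, ?_, ?_⟩
  · refine linearIndependent_of_mod_p _ ((p : ℤ_[p]) • Fx x) ?_
    intro α hα
    rw [Fintype.sum_sum_type] at hα
    simp only [Sum.elim_inl, Sum.elim_inr] at hα
    have hνmem : ∑ k, α (Sum.inl k) • nu x (w k)
        ∈ Submodule.span ℤ_[p] (Set.range (fun k => nu x (w k))) :=
      Submodule.sum_mem _ (fun k _ => Submodule.smul_mem _ _ (Submodule.subset_span ⟨k, rfl⟩))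
    have h1 : ∑ i, α (Sum.inr i) • t i ∈ N := by
      have : ∑ i, α (Sum.inr i) • t i
          = (∑ k, α (Sum.inl k) • nu x (w k) + ∑ i, α (Sum.inr i) • t i)
            - ∑ k, α (Sum.inl k) • nu x (w k) := by abel
      rw [this]
      exact Submodule.sub_mem _ (Submodule.mem_sup_left hα) (Submodule.mem_sup_right hνmem)
    have h2 := hind (fun i => α (Sum.inr i)) h1
    have h3 : ∑ i, α (Sum.inr i) • t i ∈ (p : ℤ_[p]) • Fx x := by
      refine Submodule.sum_mem _ (fun i _ => ?_)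
      obtain ⟨d, hd⟩ := h2 i
      rw [hd, mul_smul]
      exact Submodule.smul_mem_pointwise_smul _ _ _ (Submodule.smul_mem _ _ (htF i))
    have h4 : ∑ k, α (Sum.inl k) • nu x (w k) ∈ (p : ℤ_[p]) • Fx x := by
      have : ∑ k, α (Sum.inl k) • nu x (w k)
          = (∑ k, α (Sum.inl k) • nu x (w k) + ∑ i, α (Sum.inr i) • t i)
            - ∑ i, α (Sum.inr i) • t i := by abel
      rw [this]
      exact Submodule.sub_mem _ hα h3
    have h5 := dvd_of_nu_w w hw (fun k => α (Sum.inl k)) h4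
    rintro (k | i)
    · exact h5 k
    · exact h2 i
  · apply le_of_le_sup_smul
    refine hspan.ge.trans ?_
    rw [hN]
    exact sup_le (le_sup_of_le_left le_sup_right)
      (sup_le le_sup_right (le_sup_of_le_left le_sup_left))

theorem exists_u [IsNoetherian ℤ_[p] L] (H : HId x h) {c : ℕ}
    (w : Fin c → L)
    (hw : ∀ α : Fin c → ℤ_[p], ∑ k, α k • w k ∈ Fx x ⊔ Lp x → ∀ k, (p : ℤ_[p]) ∣ α k) :
    ∃ (b : ℕ) (u : Fin b → L), (∀ k, u k ∈ Lp x) ∧
      (∀ α : Fin c ⊕ Fin b → ℤ_[p],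
        ∑ i, α i • (Sum.elim (fun k => (x - 1) (w k)) u) i ∈ (Lp x).map (x - 1) →
          ∀ i, (p : ℤ_[p]) ∣ α i) ∧
      Lp x ≤ Submodule.span ℤ_[p] (Set.range (Sum.elim (fun k => (x - 1) (w k)) u))
        ⊔ (Lp x).map (x - 1) := by
  set N : Submodule ℤ_[p] L :=
    (Lp x).map (x - 1) ⊔ Submodule.span ℤ_[p] (Set.range (fun k => (x - 1) (w k))) with hN
  have hyw : Submodule.span ℤ_[p] (Set.range (fun k => (x - 1) (w k))) ≤ Lp x := by
    rw [Submodule.span_le, Set.range_subset_iff]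
    exact fun k => y_mem_Lp H.hx _
  have hmap : (Lp x).map (x - 1) ≤ Lp x := by
    rintro _ ⟨l, _, rfl⟩
    exact y_mem_Lp H.hx l
  have hNM : N ≤ Lp x := sup_le hmap hyw
  obtain ⟨b, u, huL, hspan, hind⟩ := exists_lift_family (Lp x) N hNM
    (fun m hm => Submodule.mem_sup_left (H.smul_mem_map_y hm))
  refine ⟨b, u, huL, ?_, ?_⟩
  · intro α hα
    rw [Fintype.sum_sum_type] at hα
    simp only [Sum.elim_inl, Sum.elim_inr] at hα
    have hymem : ∑ k, α (Sum.inl k) • (x - 1) (w k)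
        ∈ Submodule.span ℤ_[p] (Set.range (fun k => (x - 1) (w k))) :=
      Submodule.sum_mem _ (fun k _ => Submodule.smul_mem _ _ (Submodule.subset_span ⟨k, rfl⟩))
    have h1 : ∑ i, α (Sum.inr i) • u i ∈ N := by
      have : ∑ i, α (Sum.inr i) • u i
          = (∑ k, α (Sum.inl k) • (x - 1) (w k) + ∑ i, α (Sum.inr i) • u i)
            - ∑ k, α (Sum.inl k) • (x - 1) (w k) := by abel
      rw [this]
      exact Submodule.sub_mem _ (Submodule.mem_sup_left hα) (Submodule.mem_sup_right hymem)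
    have h2 := hind (fun i => α (Sum.inr i)) h1
    have h3 : ∑ i, α (Sum.inr i) • u i ∈ (Lp x).map (x - 1) := by
      refine Submodule.sum_mem _ (fun i _ => ?_)
      obtain ⟨d, hd⟩ := h2 i
      rw [hd, mul_smul]
      exact H.smul_mem_map_y (Submodule.smul_mem _ _ (huL i))
    have h4 : ∑ k, α (Sum.inl k) • (x - 1) (w k) ∈ (Lp x).map (x - 1) := by
      have : ∑ k, α (Sum.inl k) • (x - 1) (w k)
          = (∑ k, α (Sum.inl k) • (x - 1) (w k) + ∑ i, α (Sum.inr i) • u i)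
            - ∑ i, α (Sum.inr i) • u i := by abel
      rw [this]
      exact Submodule.sub_mem _ hα h3
    have h5 := dvd_of_y_w w hw (fun k => α (Sum.inl k)) h4
    rintro (k | i)
    · exact h5 k
    · exact h2 i
  · refine hspan.ge.trans ?_
    rw [hN, Set.Sum.elim_range, Submodule.span_union]
    exact sup_le (le_sup_of_le_left le_sup_right)
      (sup_le le_sup_right (le_sup_of_le_left le_sup_left))

end Glue

/-! ### Assembly of the `y`-form basis -/

section Assembly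

variable {L : Type*} [AddCommGroup L] [Module ℤ_[p] L]
variable {x h : Module.End ℤ_[p] L}

theorem nu_ypow_succ_apply (hx : x ^ p = 1) (j : ℕ) (l : L) :
    nu x (((x - 1) ^ (j + 1)) l) = 0 := by
  rw [pow_succ', Module.End.mul_apply]
  exact nu_y_apply hx _

/-- The family of the `y`-form basis. -/
noncomputable def fam {a b c : ℕ} (y : Module.End ℤ_[p] L) (t : Fin a → L) (u : Fin b → L)
    (w : Fin c → L) : Fin a ⊕ (Fin b × Fin (p - 1)) ⊕ (Fin c × Fin p) → L :=
  Sum.elim t (Sum.elim (fun kj => (y ^ (kj.2 : ℕ)) (u kj.1)) (fun kj => (y ^ (kj.2 : ℕ)) (w kj.1)))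

variable {a b c : ℕ} (t : Fin a → L) (u : Fin b → L) (w : Fin c → L)

/-- `ℕ`-indexed independence of the glued family. -/
theorem HId.indep_glue [Module.IsTorsionFree ℤ_[p] L] (H : HId x h)
    (ht : ∀ i, t i ∈ Fx x) (hu : ∀ k, u k ∈ Lp x)
    (hI1 : LinearIndependent ℤ_[p] (Sum.elim (fun k => nu x (w k)) t))
    (hI2 : ∀ g : Fin c ⊕ Fin b → ℕ → ℤ_[p],
      ∑ i, ∑ j ∈ range (p - 1), g i j • ((x - 1) ^ j) ((Sum.elim (fun k => (x - 1) (w k)) u) i) = 0 →
        ∀ i, ∀ j < p - 1, g i j = 0)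
    (τ : Fin a → ℤ_[p]) (β : Fin b → ℕ → ℤ_[p]) (γ : Fin c → ℕ → ℤ_[p])
    (hE : ∑ i, τ i • t i + ∑ k, ∑ j ∈ range (p - 1), β k j • ((x - 1) ^ j) (u k)
      + ∑ k, ∑ j ∈ range p, γ k j • ((x - 1) ^ j) (w k) = 0) :
    (∀ i, τ i = 0) ∧ (∀ k, ∀ j < p - 1, β k j = 0) ∧ (∀ k, ∀ j < p, γ k j = 0) := by
  have hp1 : p = (p - 1) + 1 := (Nat.sub_add_cancel hp.out.one_le).symm
  -- rewrite the `w`-block
  have hwblock : ∀ k, ∑ j ∈ range p, γ k j • ((x - 1) ^ j) (w k)
      = ∑ j ∈ range (p - 1), γ k (j + 1) • ((x - 1) ^ j) ((x - 1) (w k)) + γ k 0 • w k := by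
    intro k
    have hr : range p = range (p - 1 + 1) := congrArg range hp1
    rw [hr, Finset.sum_range_succ']
    simp only [pow_zero, Module.End.one_apply]
    refine congrArg₂ (· + ·) (Finset.sum_congr rfl (fun j _ => ?_)) rfl
    rw [pow_succ, Module.End.mul_apply]
  -- apply ν
  have hν := congrArg (nu x) hE
  rw [map_zero, map_add, map_add, map_sum, map_sum, map_sum] at hν
  have hν1 : ∑ i, nu x (τ i • t i) = ∑ i, (τ i * (p : ℤ_[p])) • t i := by
    refine Finset.sum_congr rfl (fun i _ => ?_)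
    rw [map_smul, nu_apply_of_mem_Fx (ht i), smul_smul]
  have hν2 : ∑ k, nu x (∑ j ∈ range (p - 1), β k j • ((x - 1) ^ j) (u k)) = 0 := by
    refine Finset.sum_eq_zero (fun k _ => ?_)
    rw [map_sum]
    refine Finset.sum_eq_zero (fun j _ => ?_)
    rw [map_smul, mem_Lp.1 (H.ypow_mem_Lp (hu k) j), smul_zero]
  have hν3 : ∑ k, nu x (∑ j ∈ range p, γ k j • ((x - 1) ^ j) (w k))
      = ∑ k, γ k 0 • nu x (w k) := by
    refine Finset.sum_congr rfl (fun k _ => ?_)
    rw [hwblock k, map_add, map_sum, map_smul]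
    have : ∑ j ∈ range (p - 1), nu x (γ k (j + 1) • ((x - 1) ^ j) ((x - 1) (w k))) = 0 := by
      refine Finset.sum_eq_zero (fun j _ => ?_)
      rw [map_smul, mem_Lp.1 (H.ypow_mem_Lp (y_mem_Lp H.hx _) j), smul_zero]
    rw [this, zero_add]
  rw [hν1, hν2, hν3, add_zero] at hν
  -- use hI1
  have hI1' := Fintype.linearIndependent_iff.1 hI1
    (Sum.elim (fun k => γ k 0) (fun i => τ i * (p : ℤ_[p])))
    (by
      rw [Fintype.sum_sum_type]
      simp only [Sum.elim_inl, Sum.elim_inr]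
      rw [add_comm]
      exact hν)
  have hτ : ∀ i, τ i = 0 := by
    intro i
    have := hI1' (Sum.inr i)
    simp only [Sum.elim_inr] at this
    exact (mul_eq_zero.1 this).resolve_right p_ne_zero
  have hγ0 : ∀ k, γ k 0 = 0 := by
    intro k
    have := hI1' (Sum.inl k)
    simpa using this
  -- the rest
  have hE2 : ∑ i, ∑ j ∈ range (p - 1),
      (Sum.elim (fun k j => γ k (j + 1)) (fun k j => β k j) : Fin c ⊕ Fin b → ℕ → ℤ_[p]) i j
        • ((x - 1) ^ j) ((Sum.elim (fun k => (x - 1) (w k)) u) i) = 0 := by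
    rw [Fintype.sum_sum_type]
    simp only [Sum.elim_inl, Sum.elim_inr]
    rw [← hE]
    simp only [hτ, zero_smul, Finset.sum_const_zero, zero_add, hwblock, hγ0, add_zero]
    rw [add_comm]
  have h3 := hI2 _ hE2
  refine ⟨hτ, ?_, ?_⟩
  · intro k j hj
    have := h3 (Sum.inr k) j hj
    simpa using this
  · intro k j hj
    rcases Nat.eq_zero_or_eq_succ_pred j with rfl | hj'
    · exact hγ0 k
    · have := h3 (Sum.inl k) (j - 1) (by omega)
      simp only [Sum.elim_inl] at this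
      rw [hj']
      exact this

theorem fam_inl {a b c : ℕ} (y : Module.End ℤ_[p] L) (t : Fin a → L) (u : Fin b → L)
    (w : Fin c → L) (i : Fin a) : fam y t u w (Sum.inl i) = t i := rfl

theorem fam_inr_inl {a b c : ℕ} (y : Module.End ℤ_[p] L) (t : Fin a → L) (u : Fin b → L)
    (w : Fin c → L) (k : Fin b) (j : Fin (p - 1)) :
    fam y t u w (Sum.inr (Sum.inl (k, j))) = (y ^ (j : ℕ)) (u k) := rfl

theorem fam_inr_inr {a b c : ℕ} (y : Module.End ℤ_[p] L) (t : Fin a → L) (u : Fin b → L)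
    (w : Fin c → L) (k : Fin c) (j : Fin p) :
    fam y t u w (Sum.inr (Sum.inr (k, j))) = (y ^ (j : ℕ)) (w k) := rfl

theorem HId.linearIndependent_fam [Module.IsTorsionFree ℤ_[p] L] (H : HId x h)
    (ht : ∀ i, t i ∈ Fx x) (hu : ∀ k, u k ∈ Lp x)
    (hI1 : LinearIndependent ℤ_[p] (Sum.elim (fun k => nu x (w k)) t))
    (hI2 : ∀ g : Fin c ⊕ Fin b → ℕ → ℤ_[p],
      ∑ i, ∑ j ∈ range (p - 1), g i j • ((x - 1) ^ j) ((Sum.elim (fun k => (x - 1) (w k)) u) i) = 0 →
        ∀ i, ∀ j < p - 1, g i j = 0) :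
    LinearIndependent ℤ_[p] (fam (x - 1) t u w) := by
  rw [Fintype.linearIndependent_iff]
  intro G hG
  have hE : ∑ i, G (Sum.inl i) • t i
      + ∑ k, ∑ j ∈ range (p - 1),
          (if hj : j < p - 1 then G (Sum.inr (Sum.inl (k, ⟨j, hj⟩))) else 0) • ((x - 1) ^ j) (u k)
      + ∑ k, ∑ j ∈ range p,
          (if hj : j < p then G (Sum.inr (Sum.inr (k, ⟨j, hj⟩))) else 0) • ((x - 1) ^ j) (w k)
      = 0 := by
    rw [← hG, Fintype.sum_sum_type, Fintype.sum_sum_type, Fintype.sum_prod_type,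
      Fintype.sum_prod_type, add_assoc]
    refine congrArg₂ (· + ·) rfl (congrArg₂ (· + ·) ?_ ?_)
    · refine Finset.sum_congr rfl (fun k _ => ?_)
      rw [Finset.sum_range]
      refine Finset.sum_congr rfl (fun j _ => ?_)
      rw [dif_pos j.2, fam_inr_inl]
    · refine Finset.sum_congr rfl (fun k _ => ?_)
      rw [Finset.sum_range]
      refine Finset.sum_congr rfl (fun j _ => ?_)
      rw [dif_pos j.2, fam_inr_inr]
  obtain ⟨h1, h2, h3⟩ := H.indep_glue t u w ht hu hI1 hI2 _ _ _ hE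
  rintro (i | ⟨k, j⟩ | ⟨k, j⟩)
  · exact h1 i
  · have := h2 k j j.2
    rwa [dif_pos j.2] at this
  · have := h3 k j j.2
    rwa [dif_pos j.2] at this

theorem HId.span_glue [IsNoetherian ℤ_[p] L] (H : HId x h)
    (hW : Submodule.span ℤ_[p] (Set.range w) ⊔ (Fx x ⊔ Lp x) = ⊤)
    (hF : Fx x ≤ Submodule.span ℤ_[p] (Set.range (fun k => nu x (w k)))
        ⊔ Submodule.span ℤ_[p] (Set.range t))
    (hL : Lp x ≤ Submodule.span ℤ_[p] (Set.range (Sum.elim (fun k => (x - 1) (w k)) u))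
        ⊔ (Lp x).map (x - 1)) :
    ⊤ ≤ Submodule.span ℤ_[p] (Set.range (fam (x - 1) t u w)) := by
  have hp1 : p - 1 < p := Nat.sub_lt hp.out.pos one_pos
  have htS : ∀ i, t i ∈ Submodule.span ℤ_[p] (Set.range (fam (x - 1) t u w)) :=
    fun i => Submodule.subset_span ⟨Sum.inl i, rfl⟩
  have huS : ∀ k j, j < p - 1 →
      ((x - 1) ^ j) (u k) ∈ Submodule.span ℤ_[p] (Set.range (fam (x - 1) t u w)) :=
    fun k j hj => Submodule.subset_span ⟨Sum.inr (Sum.inl (k, ⟨j, hj⟩)), rfl⟩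
  have hwS : ∀ k j, j < p →
      ((x - 1) ^ j) (w k) ∈ Submodule.span ℤ_[p] (Set.range (fam (x - 1) t u w)) :=
    fun k j hj => Submodule.subset_span ⟨Sum.inr (Sum.inr (k, ⟨j, hj⟩)), rfl⟩
  have hw0 : ∀ k, w k ∈ Submodule.span ℤ_[p] (Set.range (fam (x - 1) t u w)) := by
    intro k
    simpa using hwS k 0 hp.out.pos
  have hLS : Lp x ≤ Submodule.span ℤ_[p] (Set.range (fam (x - 1) t u w)) := by
    refine (H.span_eq _ hL).trans ?_
    rw [Submodule.span_le]
    rintro z ⟨i, j, hj, rfl⟩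
    rcases i with k | k
    · simp only [Sum.elim_inl]
      rw [← Module.End.mul_apply, ← pow_succ]
      exact hwS k (j + 1) (by omega)
    · exact huS k j hj
  have hFS : Fx x ≤ Submodule.span ℤ_[p] (Set.range (fam (x - 1) t u w)) := by
    refine hF.trans (sup_le ?_ ?_)
    · rw [Submodule.span_le, Set.range_subset_iff]
      intro k
      rw [SetLike.mem_coe, H.nu_apply]
      exact Submodule.add_mem _ (hwS k (p - 1) hp1)
        (Submodule.smul_mem _ _ (Submodule.add_mem _ (hw0 k) (hLS (y_mem_Lp H.hx _))))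
    · rw [Submodule.span_le, Set.range_subset_iff]
      exact htS
  rw [← hW]
  refine sup_le ?_ (sup_le hFS hLS)
  rw [Submodule.span_le, Set.range_subset_iff]
  exact hw0

end Assembly

/-- The `y`-form of Diederichsen–Reiner (`y = x - 1`). -/
theorem dr_y {L : Type*} [AddCommGroup L] [Module ℤ_[p] L] [Module.Free ℤ_[p] L]
    [Module.Finite ℤ_[p] L] (x : L →ₗ[ℤ_[p]] L) (hx : x ^ p = 1) :
    ∃ (a b c : ℕ) (𝔟 : Module.Basis (Fin a ⊕ (Fin b × Fin (p - 1)) ⊕ (Fin c × Fin p)) ℤ_[p] L)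
      (u : Fin b → L) (w : Fin c → L),
      (∀ i, x (𝔟 (Sum.inl i)) = 𝔟 (Sum.inl i)) ∧
      (∀ k, ∑ i ∈ Finset.range p, (x ^ i) (u k) = 0) ∧
      (∀ k (i : Fin (p - 1)), 𝔟 (Sum.inr (Sum.inl (k, i))) = ((x - 1) ^ (i : ℕ)) (u k)) ∧
      (∀ k (i : Fin p), 𝔟 (Sum.inr (Sum.inr (k, i))) = ((x - 1) ^ (i : ℕ)) (w k)) := by
  obtain ⟨h, H⟩ := exists_HId hx
  obtain ⟨c, w, hW, hw⟩ := exists_w hx
  obtain ⟨a, t, ht, hI1, hF⟩ := exists_t hx w hw
  obtain ⟨b, u, hu, hind, hL⟩ := exists_u H w hw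
  have hv : ∀ i, Sum.elim (fun k => (x - 1) (w k)) u i ∈ Lp x := by
    rintro (k | k)
    · exact y_mem_Lp hx _
    · exact hu k
  have hI2 := H.indep _ hv hind
  refine ⟨a, b, c, Module.Basis.mk (H.linearIndependent_fam t u w ht hu hI1 hI2)
    (H.span_glue t u w hW hF hL), u, w, ?_, ?_, ?_, ?_⟩
  · intro i
    rw [Module.Basis.mk_apply]
    exact mem_Fx'.1 (ht i)
  · intro k
    have := mem_Lp.1 (hu k)
    unfold nu at this
    rwa [LinearMap.sum_apply] at this
  · intro k i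
    rw [Module.Basis.mk_apply]
    rfl
  · intro k i
    rw [Module.Basis.mk_apply]
    rfl


/-- **Diederichsen–Reiner** for `C_p` over `ℤ_[p]` (lemma D1): a finite free `ℤ_[p]`-module with an
automorphism `x` of order dividing `p` has a basis consisting of fixed vectors, cyclic pieces
`u, x u, …, x^(p-2) u` killed by `1 + x + ⋯ + x^(p-1)`, and free pieces `w, x w, …, x^(p-1) w`. -/
theorem dr {L : Type*} [AddCommGroup L] [Module ℤ_[p] L] [Module.Free ℤ_[p] L]
    [Module.Finite ℤ_[p] L] (x : L →ₗ[ℤ_[p]] L) (hx : x ^ p = 1) :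
    ∃ (a b c : ℕ) (𝔟 : Module.Basis (Fin a ⊕ (Fin b × Fin (p - 1)) ⊕ (Fin c × Fin p)) ℤ_[p] L)
      (u : Fin b → L) (w : Fin c → L),
      (∀ i, x (𝔟 (Sum.inl i)) = 𝔟 (Sum.inl i)) ∧
      (∀ k, ∑ i ∈ Finset.range p, (x ^ i) (u k) = 0) ∧
      (∀ k (i : Fin (p - 1)), 𝔟 (Sum.inr (Sum.inl (k, i))) = (x ^ (i : ℕ)) (u k)) ∧
      (∀ k (i : Fin p), 𝔟 (Sum.inr (Sum.inr (k, i))) = (x ^ (i : ℕ)) (w k)) := by
  obtain ⟨a, b, c, 𝔟, u, w, h1, h2, h3, h4⟩ := dr_y x hx
  obtain ⟨𝔟', h1', h2', h3'⟩ :=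
    Cfsg.Agent.Lib.Helper17_DRConv.basis_of_ypow_basis x 𝔟 u w h3 h4
  refine ⟨a, b, c, 𝔟', u, w, ?_, h2, h2', h3'⟩
  intro i
  rw [h1' i]
  exact h1 i

end Cfsg.Agent.Lib.Helper3_DR
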