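import Mathlib

/-!
# Definitions for the lattice lemma (CT) of the S0960/S4441 project (helper57)

`x` is an endomorphism of an `R`-module `L` with `x ^ p = 1` (the action of a generator of a
group of order `p`).  `nuE p x = 1 + x + ... + x^(p-1)` is the norm operator.
`InA p x ψ`: `ψ` preserves the flag `ker (x-1) ⊇ range ν`, `ker ν ⊇ range (x-1)`.
`InK p x ψ`: `ψ` maps `ker (x-1)` into `range ν` and `ker ν` into `range (x-1)`
(i.e. `ψ` induces zero on the Tate groups `H^0` and `H^{-1}`).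
-/

set_option autoImplicit false

namespace Cfsg.Agent.Lib.Helper57_LatDefs

variable {R : Type*} [CommRing R] {L : Type*} [AddCommGroup L] [Module R L]

/-- The norm operator `1 + x + ... + x^(p-1)`. -/
def nuE (p : ℕ) (x : Module.End R L) : Module.End R L := ∑ i ∈ Finset.range p, x ^ i

/-- `ψ` induces the zero map on `H^0 = ker (x-1) / range ν` and `H^{-1} = ker ν / range (x-1)`. -/
def InK (p : ℕ) (x ψ : Module.End R L) : Prop :=
  (∀ l, x l = l → ∃ m, ψ l = nuE p x m) ∧ (∀ l, nuE p x l = 0 → ∃ m, ψ l = x m - m)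

/-- `ψ` preserves the four submodules `ker (x-1)`, `range ν`, `ker ν`, `range (x-1)`. -/
def InA (p : ℕ) (x ψ : Module.End R L) : Prop :=
  (∀ l, x l = l → x (ψ l) = ψ l) ∧ (∀ m, ∃ m', ψ (nuE p x m) = nuE p x m') ∧
    (∀ l, nuE p x l = 0 → nuE p x (ψ l) = 0) ∧ (∀ m, ∃ m', ψ (x m - m) = x m' - m')

/-- The lattice is `ℚ`-irreducible: every stable sublattice is zero or of full rank. -/
def IsQIrred {G : Type*} [Group G] (ρ : Representation R G L) : Prop :=
  ∀ L₁ : Submodule R L, (∀ g, L₁.map (ρ g) ≤ L₁) →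
    L₁ = ⊥ ∨ Module.finrank R L₁ = Module.finrank R L

end Cfsg.Agent.Lib.Helper57_LatDefs
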