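import Mathlib
import Cfsg.Agent.Lib.Helper57_LatDefs
import Cfsg.Agent.Lib.Helper3_DR

/-!
# The `P`-local lemma (PL) of the S0960/S4441 project (statements by helper57)

From a Diederichsen–Reiner basis of a `ℤ_p[C_p]`-lattice (`T` trivial part, `Y` the part killed by the
norm, `F` the free part) we prove:
* `pl_surj_of_dr`: every flag-preserving endomorphism is congruent mod `InK` to one commuting with `x`;
* `pl_trace_of_dr`: local dichotomy (invertible or nilpotent mod `InK`) forces `tr (x^i) ∈ {0, 1, -1}`.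
-/

set_option autoImplicit false

namespace Cfsg.Agent.Lib.Helper13_PLocal

open Cfsg.Agent.Lib.Helper57_LatDefs

variable {p : ℕ} [hp : Fact p.Prime] {L : Type*} [AddCommGroup L] [Module ℤ_[p] L]

section DR

variable {a b c : ℕ}
  (𝔟 : Module.Basis (Fin a ⊕ (Fin b × Fin (p - 1)) ⊕ (Fin c × Fin p)) ℤ_[p] L)
  (x : Module.End ℤ_[p] L) (hx : x ^ p = 1)
  (u : Fin b → L) (w : Fin c → L)
  (hT : ∀ i, x (𝔟 (Sum.inl i)) = 𝔟 (Sum.inl i))
  (hU : ∀ k, ∑ i ∈ Finset.range p, (x ^ i) (u k) = 0)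
  (hY : ∀ k (i : Fin (p - 1)), 𝔟 (Sum.inr (Sum.inl (k, i))) = (x ^ (i : ℕ)) (u k))
  (hF : ∀ k (i : Fin p), 𝔟 (Sum.inr (Sum.inr (k, i))) = (x ^ (i : ℕ)) (w k))

include hx in
theorem pow_mod (n : ℕ) : x ^ n = x ^ (n % p) := by
  conv_lhs => rw [← Nat.div_add_mod n p]
  rw [pow_add, pow_mul, hx, one_pow, one_mul]

include hx hF in
/-- Powers of `x` on the generators of the free part. -/
theorem pow_w (n : ℕ) (k : Fin c) :
    (x ^ n) (w k) = 𝔟 (Sum.inr (Sum.inr (k, ⟨n % p, Nat.mod_lt _ hp.out.pos⟩))) := by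
  rw [hF, pow_mod x hx n]

include hU in
theorem pow_pred_u (k : Fin b) :
    (x ^ (p - 1)) (u k) = - ∑ i ∈ Finset.range (p - 1), (x ^ i) (u k) := by
  have h := hU k
  have hp1 : Finset.range p = Finset.range ((p - 1) + 1) := by
    congr 1
    have := hp.out.pos
    omega
  rw [hp1, Finset.sum_range_succ] at h
  exact eq_neg_of_add_eq_zero_right h

include hU hY in
theorem pow_pred_u' (k : Fin b) :
    (x ^ (p - 1)) (u k) = - ∑ i : Fin (p - 1), 𝔟 (Sum.inr (Sum.inl (k, i))) := by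
  rw [pow_pred_u x u hU k, Fin.sum_univ_eq_sum_range (fun i => (x ^ i) (u k)) (p - 1) |>.symm]
  congr 1
  exact Finset.sum_congr rfl (fun i _ => (hY k i).symm)

include hx hU hY in
/-- Powers of `x` on the generators of the norm-zero part. -/
theorem pow_u (n : ℕ) (k : Fin b) :
    (x ^ n) (u k) = if h : n % p < p - 1 then 𝔟 (Sum.inr (Sum.inl (k, ⟨n % p, h⟩)))
      else - ∑ i : Fin (p - 1), 𝔟 (Sum.inr (Sum.inl (k, i))) := by
  rw [pow_mod x hx n]
  split_ifs with h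
  · rw [hY]
  · have : n % p = p - 1 := by
      have := Nat.mod_lt n hp.out.pos
      omega
    rw [this, pow_pred_u' 𝔟 x u hU hY k]

/-! ### Block projections -/

/-- A predicate on the index set which is constant on the blocks. -/
def blockPred (ZT : Fin a → Prop) (ZY : Fin b → Prop) (ZF : Fin c → Prop) :
    (Fin a ⊕ (Fin b × Fin (p - 1)) ⊕ (Fin c × Fin p)) → Prop :=
  Sum.elim ZT (Sum.elim (fun ki => ZY ki.1) (fun ki => ZF ki.1))

open Classical in
/-- Projection onto the span of the blocks selected by `ZT`, `ZY`, `ZF`. -/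
noncomputable def proj (ZT : Fin a → Prop) (ZY : Fin b → Prop) (ZF : Fin c → Prop) :
    Module.End ℤ_[p] L :=
  𝔟.constr ℤ_[p] (fun j => if blockPred (p := p) ZT ZY ZF j then 𝔟 j else 0)

variable (ZT : Fin a → Prop) (ZY : Fin b → Prop) (ZF : Fin c → Prop)

open Classical in
theorem proj_basis (j : Fin a ⊕ (Fin b × Fin (p - 1)) ⊕ (Fin c × Fin p)) :
    proj 𝔟 ZT ZY ZF (𝔟 j) = if blockPred (p := p) ZT ZY ZF j then 𝔟 j else 0 := by
  unfold proj
  rw [Module.Basis.constr_basis]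

open Classical in
theorem proj_T (i : Fin a) :
    proj 𝔟 ZT ZY ZF (𝔟 (Sum.inl i)) = if ZT i then 𝔟 (Sum.inl i) else 0 := by
  rw [proj_basis]; rfl

open Classical in
theorem proj_Y (k : Fin b) (i : Fin (p - 1)) :
    proj 𝔟 ZT ZY ZF (𝔟 (Sum.inr (Sum.inl (k, i)))) =
      if ZY k then 𝔟 (Sum.inr (Sum.inl (k, i))) else 0 := by
  rw [proj_basis]; rfl

open Classical in
theorem proj_F (k : Fin c) (i : Fin p) :
    proj 𝔟 ZT ZY ZF (𝔟 (Sum.inr (Sum.inr (k, i)))) =
      if ZF k then 𝔟 (Sum.inr (Sum.inr (k, i))) else 0 := by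
  rw [proj_basis]; rfl

open Classical in
theorem repr_proj (l : L) (j : Fin a ⊕ (Fin b × Fin (p - 1)) ⊕ (Fin c × Fin p)) :
    𝔟.repr (proj 𝔟 ZT ZY ZF l) j = if blockPred (p := p) ZT ZY ZF j then 𝔟.repr l j else 0 := by
  have key : (𝔟.coord j) ∘ₗ (proj 𝔟 ZT ZY ZF) =
      if blockPred (p := p) ZT ZY ZF j then 𝔟.coord j else 0 := by
    apply 𝔟.ext
    intro j'
    rw [LinearMap.comp_apply, proj_basis]
    by_cases hjj : j' = j
    · subst hjj
      split_ifs <;> simp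
    · split_ifs <;> simp [Module.Basis.coord_apply, hjj]
  have := LinearMap.congr_fun key l
  rw [LinearMap.comp_apply, Module.Basis.coord_apply] at this
  rw [this]
  split_ifs <;> simp [Module.Basis.coord_apply]

include hx hU hY in
open Classical in
theorem proj_pow_u (n : ℕ) (k : Fin b) :
    proj 𝔟 ZT ZY ZF ((x ^ n) (u k)) = if ZY k then (x ^ n) (u k) else 0 := by
  rw [pow_u 𝔟 x hx u hU hY n k]
  split_ifs with h1 h2 h2
  · rw [proj_Y, if_pos h2]
  · rw [proj_Y, if_neg h2]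
  · rw [map_neg, map_sum]
    congr 1
    exact Finset.sum_congr rfl (fun i _ => by rw [proj_Y, if_pos h2])
  · rw [map_neg, map_sum, neg_eq_zero]
    exact Finset.sum_eq_zero (fun i _ => by rw [proj_Y, if_neg h2])

include hx hF in
open Classical in
theorem proj_pow_w (n : ℕ) (k : Fin c) :
    proj 𝔟 ZT ZY ZF ((x ^ n) (w k)) = if ZF k then (x ^ n) (w k) else 0 := by
  rw [pow_w 𝔟 x hx w hF n k, proj_F]

include hx hT hU hY hF in
/-- Block projections commute with `x`. -/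
theorem proj_commute : Commute (proj 𝔟 ZT ZY ZF) x := by
  classical
  apply 𝔟.ext
  intro j
  change proj 𝔟 ZT ZY ZF (x (𝔟 j)) = x (proj 𝔟 ZT ZY ZF (𝔟 j))
  rcases j with i | ⟨k, i⟩ | ⟨k, i⟩
  · rw [hT, proj_T]
    split_ifs
    · rw [hT]
    · rw [map_zero]
  · rw [proj_Y, hY]
    have h1 : x ((x ^ (i : ℕ)) (u k)) = (x ^ ((i : ℕ) + 1)) (u k) := by
      rw [pow_succ']; rfl
    rw [h1, proj_pow_u 𝔟 x hx u hU hY]
    split_ifs
    · rw [h1]
    · rw [map_zero]
  · rw [proj_F, hF]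
    have h1 : x ((x ^ (i : ℕ)) (w k)) = (x ^ ((i : ℕ) + 1)) (w k) := by
      rw [pow_succ']; rfl
    rw [h1, proj_pow_w 𝔟 x hx w hF]
    split_ifs
    · rw [h1]
    · rw [map_zero]

/-! ### The norm operator -/

theorem nuE_apply (l : L) : nuE p x l = ∑ i ∈ Finset.range p, (x ^ i) l := by
  unfold nuE
  rw [LinearMap.sum_apply]

/-- Anything commuting with `x` commutes with the norm. -/
theorem commute_nuE {φ : Module.End ℤ_[p] L} (h : Commute φ x) : Commute φ (nuE p x) := by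
  unfold nuE
  exact Commute.sum_right _ _ _ (fun i _ => h.pow_right i)

include hx in
theorem x_mul_nuE : x * nuE p x = nuE p x := by
  by_cases hp0 : p = 0
  · subst hp0
    simp [nuE]
  unfold nuE
  rw [Finset.mul_sum]
  have h1 : ∀ i ∈ Finset.range p, x * x ^ i = x ^ (i + 1) := fun i _ => (pow_succ' x i).symm
  rw [Finset.sum_congr rfl h1]
  have hp1 : Finset.range p = Finset.range ((p - 1) + 1) := by
    congr 1; omega
  rw [hp1, Finset.sum_range_succ, Finset.sum_range_succ']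
  have : p - 1 + 1 = p := by omega
  rw [this, hx, pow_zero]

include hx in
theorem nuE_mul_pow (n : ℕ) : nuE p x * x ^ n = nuE p x := by
  induction n with
  | zero => rw [pow_zero, mul_one]
  | succ n ih =>
    rw [pow_succ, ← mul_assoc, ih]
    have := x_mul_nuE x hx
    rw [(commute_nuE x (Commute.refl x)).eq] at this
    exact this

theorem nuE_fixed {l : L} (hl : x l = l) : nuE p x l = (p : ℤ_[p]) • l := by
  rw [nuE_apply]
  have : ∀ i : ℕ, (x ^ i) l = l := by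
    intro i
    induction i with
    | zero => simp
    | succ i ih => rw [pow_succ, Module.End.mul_apply, hl, ih]
  rw [Finset.sum_congr rfl (fun i _ => this i), Finset.sum_const, Finset.card_range, Nat.cast_smul_eq_nsmul]

include hT in
theorem nuE_T (i : Fin a) : nuE p x (𝔟 (Sum.inl i)) = (p : ℤ_[p]) • 𝔟 (Sum.inl i) :=
  nuE_fixed x (hT i)

include hx hU hY in
theorem nuE_Y (k : Fin b) (i : Fin (p - 1)) : nuE p x (𝔟 (Sum.inr (Sum.inl (k, i)))) = 0 := by
  rw [hY, ← Module.End.mul_apply, nuE_mul_pow x hx, nuE_apply]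
  exact hU k

include hF in
theorem nuE_w (k : Fin c) : nuE p x (w k) = ∑ i : Fin p, 𝔟 (Sum.inr (Sum.inr (k, i))) := by
  rw [nuE_apply, ← Fin.sum_univ_eq_sum_range (fun i => (x ^ i) (w k)) p]
  exact Finset.sum_congr rfl (fun i _ => (hF k i).symm)

include hx hF in
theorem nuE_F (k : Fin c) (i : Fin p) :
    nuE p x (𝔟 (Sum.inr (Sum.inr (k, i)))) = ∑ i' : Fin p, 𝔟 (Sum.inr (Sum.inr (k, i'))) := by
  rw [hF, ← Module.End.mul_apply, nuE_mul_pow x hx, nuE_w 𝔟 x w hF]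

/-! ### Coordinate functionals -/

theorem apply_expand (g : L →ₗ[ℤ_[p]] ℤ_[p]) (f : Module.End ℤ_[p] L) (m : L) :
    g (f m) = ∑ j, 𝔟.repr m j * g (f (𝔟 j)) := by
  conv_lhs => rw [← 𝔟.sum_repr m]
  simp only [map_sum, map_smul, smul_eq_mul]

theorem dvd_apply (d : ℤ_[p]) (g : L →ₗ[ℤ_[p]] ℤ_[p]) (f : Module.End ℤ_[p] L)
    (h : ∀ j, d ∣ g (f (𝔟 j))) (m : L) : d ∣ g (f m) := by
  rw [apply_expand 𝔟 g f m]
  exact Finset.dvd_sum (fun j _ => dvd_mul_of_dvd_right (h j) _)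

include hx hT hU hY hF in
/-- (DT): the `T`-coordinates of a norm are divisible by `p`. -/
theorem p_dvd_coordT_nuE (j : Fin a) (m : L) :
    (p : ℤ_[p]) ∣ 𝔟.repr (nuE p x m) (Sum.inl j) := by
  have := dvd_apply 𝔟 (p : ℤ_[p]) (𝔟.coord (Sum.inl j)) (nuE p x) ?_ m
  · simpa [Module.Basis.coord_apply] using this
  · rintro (i | ⟨k, i⟩ | ⟨k, i⟩)
    · rw [nuE_T 𝔟 x hT, map_smul, smul_eq_mul]
      exact Dvd.intro _ rfl
    · rw [nuE_Y 𝔟 x hx u hU hY, map_zero]
      exact dvd_zero _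
    · rw [nuE_F 𝔟 x hx w hF, map_sum]
      apply Finset.dvd_sum
      intro i' _
      simp [Module.Basis.coord_apply]

/-- The sum of the coordinates of the block `Y_k`. -/
noncomputable def sY (k : Fin b) : L →ₗ[ℤ_[p]] ℤ_[p] :=
  ∑ i : Fin (p - 1), 𝔟.coord (Sum.inr (Sum.inl (k, i)))

theorem sY_apply (k : Fin b) (l : L) :
    sY 𝔟 k l = ∑ i : Fin (p - 1), 𝔟.repr l (Sum.inr (Sum.inl (k, i))) := by
  unfold sY
  rw [LinearMap.sum_apply]
  rfl

theorem sY_T (k : Fin b) (i : Fin a) : sY 𝔟 k (𝔟 (Sum.inl i)) = 0 := by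
  rw [sY_apply]
  exact Finset.sum_eq_zero (fun i' _ => by simp)

theorem sY_F (k : Fin b) (k' : Fin c) (i : Fin p) : sY 𝔟 k (𝔟 (Sum.inr (Sum.inr (k', i)))) = 0 := by
  rw [sY_apply]
  exact Finset.sum_eq_zero (fun i' _ => by simp)

theorem sY_Y (k k' : Fin b) (i : Fin (p - 1)) :
    sY 𝔟 k (𝔟 (Sum.inr (Sum.inl (k', i)))) = if k' = k then 1 else 0 := by
  rw [sY_apply]
  split_ifs with h
  · subst h
    rw [Finset.sum_eq_single i]
    · simp
    · intro i' _ hne
      simp [hne.symm]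
    · intro h; exact absurd (Finset.mem_univ _) h
  · exact Finset.sum_eq_zero (fun i' _ => by simp [h])

theorem sY_sumY (k k' : Fin b) :
    sY 𝔟 k (∑ i : Fin (p - 1), 𝔟 (Sum.inr (Sum.inl (k', i)))) =
      if k' = k then ((p - 1 : ℕ) : ℤ_[p]) else 0 := by
  rw [map_sum]
  simp only [sY_Y]
  split_ifs <;> simp

open Classical in
theorem sY_proj (k : Fin b) (l : L) :
    sY 𝔟 k (proj 𝔟 ZT ZY ZF l) = if ZY k then sY 𝔟 k l else 0 := by
  rw [sY_apply, sY_apply]
  simp only [repr_proj]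
  by_cases h : ZY k
  · rw [if_pos h]
    exact Finset.sum_congr rfl (fun i _ => if_pos h)
  · rw [if_neg h]
    exact Finset.sum_eq_zero (fun i _ => if_neg h)

include hx hT hU hY hF in
/-- (DY): the sum of the `Y_k`-coordinates of an element of `range (x - 1)` is divisible by `p`. -/
theorem p_dvd_sY_sub (k : Fin b) (m : L) : (p : ℤ_[p]) ∣ sY 𝔟 k (x m - m) := by
  have hp2 := hp.out.two_le
  have := dvd_apply 𝔟 (p : ℤ_[p]) (sY 𝔟 k) (x - 1) ?_ m
  · simpa using this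
  · rintro (i | ⟨k', i⟩ | ⟨k', i⟩)
    · rw [LinearMap.sub_apply, hT, Module.End.one_apply, sub_self, map_zero]
      exact dvd_zero _
    · rw [LinearMap.sub_apply, Module.End.one_apply, map_sub]
      have h1 : x (𝔟 (Sum.inr (Sum.inl (k', i)))) = (x ^ ((i : ℕ) + 1)) (u k') := by
        rw [hY, pow_succ']; rfl
      rw [h1, pow_u 𝔟 x hx u hU hY]
      split_ifs with h
      · rw [sY_Y, sY_Y, sub_self]
        exact dvd_zero _
      · rw [map_neg, sY_sumY, sY_Y]
        split_ifs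
        · refine ⟨-1, ?_⟩
          have : ((p - 1 : ℕ) : ℤ_[p]) = (p : ℤ_[p]) - 1 := by
            rw [Nat.cast_sub (by omega)]; simp
          rw [this]; ring
        · simp
    · rw [LinearMap.sub_apply, Module.End.one_apply, map_sub]
      have h1 : x (𝔟 (Sum.inr (Sum.inr (k', i)))) = (x ^ ((i : ℕ) + 1)) (w k') := by
        rw [hF, pow_succ']; rfl
      rw [h1, pow_w 𝔟 x hx w hF, sY_F, sY_F, sub_self]
      exact dvd_zero _

theorem not_p_dvd_one : ¬ (p : ℤ_[p]) ∣ 1 := by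
  intro h
  exact PadicInt.p_nonunit (isUnit_of_dvd_one h)

theorem not_p_dvd_neg_one : ¬ (p : ℤ_[p]) ∣ -1 := by
  intro h
  exact not_p_dvd_one ((dvd_neg).mp h)

/-! ### The trace of `x ^ n` -/

theorem pow_fixed {l : L} (hl : x l = l) (n : ℕ) : (x ^ n) l = l := by
  induction n with
  | zero => simp
  | succ i ih => rw [pow_succ, Module.End.mul_apply, hl, ih]

theorem trace_eq_sum_repr (f : Module.End ℤ_[p] L) :
    LinearMap.trace ℤ_[p] L f = ∑ j, 𝔟.repr (f (𝔟 j)) j := by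
  rw [LinearMap.trace_eq_matrix_trace ℤ_[p] 𝔟 f, Matrix.trace]
  exact Finset.sum_congr rfl (fun j _ => by rw [Matrix.diag_apply, LinearMap.toMatrix_apply])

include hx hT hU hY hF in
theorem trace_pow (n : ℕ) (hn0 : 0 < n) (hnp : n < p) :
    LinearMap.trace ℤ_[p] L (x ^ n) = (a : ℤ_[p]) - (b : ℤ_[p]) := by
  have hp2 := hp.out.two_le
  rw [trace_eq_sum_repr 𝔟, Fintype.sum_sum_type, Fintype.sum_sum_type]
  have hTsum : ∑ i : Fin a, 𝔟.repr ((x ^ n) (𝔟 (Sum.inl i))) (Sum.inl i) = (a : ℤ_[p]) := by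
    have : ∀ i : Fin a, 𝔟.repr ((x ^ n) (𝔟 (Sum.inl i))) (Sum.inl i) = 1 := by
      intro i
      rw [pow_fixed x (hT i)]
      simp
    simp [this]
  have hFsum : ∑ ki : Fin c × Fin p,
      𝔟.repr ((x ^ n) (𝔟 (Sum.inr (Sum.inr ki)))) (Sum.inr (Sum.inr ki)) = 0 := by
    apply Finset.sum_eq_zero
    rintro ⟨k, i⟩ _
    rw [hF, ← Module.End.mul_apply, ← pow_add, pow_w 𝔟 x hx w hF]
    have hne : (⟨(n + (i : ℕ)) % p, Nat.mod_lt _ hp.out.pos⟩ : Fin p) ≠ i := by
      intro h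
      have h' := congrArg Fin.val h
      simp only at h'
      have hi := i.isLt
      by_cases hlt : n + (i : ℕ) < p
      · rw [Nat.mod_eq_of_lt hlt] at h'; omega
      · rw [Nat.mod_eq_sub_mod (by omega), Nat.mod_eq_of_lt (by omega)] at h'; omega
    simp [hne]
  have hYsum : ∑ ki : Fin b × Fin (p - 1),
      𝔟.repr ((x ^ n) (𝔟 (Sum.inr (Sum.inl ki)))) (Sum.inr (Sum.inl ki)) = -(b : ℤ_[p]) := by
    rw [Fintype.sum_prod_type]
    have : ∀ k : Fin b, ∑ i : Fin (p - 1),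
        𝔟.repr ((x ^ n) (𝔟 (Sum.inr (Sum.inl (k, i))))) (Sum.inr (Sum.inl (k, i))) = -1 := by
      intro k
      have hi0 : p - 1 - n < p - 1 := by omega
      rw [Finset.sum_eq_single (⟨p - 1 - n, hi0⟩ : Fin (p - 1))]
      · rw [hY, ← Module.End.mul_apply, ← pow_add, pow_u 𝔟 x hx u hU hY]
        have hmod : (n + (p - 1 - n)) % p = p - 1 := by
          have : n + (p - 1 - n) = p - 1 := by omega
          rw [this, Nat.mod_eq_of_lt (by omega)]
        rw [dif_neg (by simp only [hmod]; omega)]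
        rw [map_neg, map_sum, Finsupp.neg_apply, Finsupp.finsetSum_apply]
        rw [Finset.sum_eq_single (⟨p - 1 - n, hi0⟩ : Fin (p - 1))]
        · simp
        · intro i' _ hne
          simp [hne]
        · intro h; exact absurd (Finset.mem_univ _) h
      · intro i _ hne
        rw [hY, ← Module.End.mul_apply, ← pow_add, pow_u 𝔟 x hx u hU hY]
        have hi := i.isLt
        have hne' : (i : ℕ) ≠ p - 1 - n := fun h => hne (Fin.ext h)
        have hlt : (n + (i : ℕ)) % p < p - 1 := by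
          by_cases hlt : n + (i : ℕ) < p
          · rw [Nat.mod_eq_of_lt hlt]; omega
          · rw [Nat.mod_eq_sub_mod (by omega), Nat.mod_eq_of_lt (by omega)]; omega
        rw [dif_pos hlt]
        have hne2 : (⟨(n + (i : ℕ)) % p, hlt⟩ : Fin (p - 1)) ≠ i := by
          intro h
          have h' := congrArg Fin.val h
          simp only at h'
          by_cases hlt' : n + (i : ℕ) < p
          · rw [Nat.mod_eq_of_lt hlt'] at h'; omega
          · rw [Nat.mod_eq_sub_mod (by omega), Nat.mod_eq_of_lt (by omega)] at h'; omega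
        simp [hne2]
      · intro h; exact absurd (Finset.mem_univ _) h
    simp [this]
  rw [hTsum, hYsum, hFsum]
  ring

/-! ### The dichotomy forces at most one block of type `T` or `Y` -/

include hY in
theorem u_eq_basis (k : Fin b) :
    u k = 𝔟 (Sum.inr (Sum.inl (k, ⟨0, by have := hp.out.two_le; omega⟩))) := by
  rw [hY]; simp

theorem pow_apply_fixed {φ : Module.End ℤ_[p] L} {l : L} (hl : φ l = l) (n : ℕ) : (φ ^ n) l = l :=
  pow_fixed φ hl n

include hx hT hU hY hF in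
open Classical in
theorem not_nilp_of_T (i₀ : Fin a) (h0 : ZT i₀) :
    ¬ ∃ k : ℕ, InK p x ((proj 𝔟 ZT ZY ZF) ^ k) := by
  rintro ⟨k, hk⟩
  obtain ⟨m, hm⟩ := hk.1 (𝔟 (Sum.inl i₀)) (hT i₀)
  have h1 : proj 𝔟 ZT ZY ZF (𝔟 (Sum.inl i₀)) = 𝔟 (Sum.inl i₀) := by
    rw [proj_T, if_pos h0]
  rw [pow_fixed _ h1 k] at hm
  have h2 := p_dvd_coordT_nuE 𝔟 x hx u w hT hU hY hF i₀ m
  rw [← hm] at h2
  simp only [Module.Basis.repr_self, Finsupp.single_eq_same] at h2
  exact not_p_dvd_one h2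

include hx hT hU hY hF in
open Classical in
theorem not_nilp_of_Y (k₀ : Fin b) (h0 : ZY k₀) :
    ¬ ∃ k : ℕ, InK p x ((proj 𝔟 ZT ZY ZF) ^ k) := by
  rintro ⟨k, hk⟩
  have hu := u_eq_basis 𝔟 x u hY k₀
  have hnu : nuE p x (u k₀) = 0 := by rw [nuE_apply]; exact hU k₀
  obtain ⟨m, hm⟩ := hk.2 (u k₀) hnu
  have h1 : proj 𝔟 ZT ZY ZF (u k₀) = u k₀ := by
    rw [hu, proj_Y, if_pos h0]
  rw [pow_fixed _ h1 k] at hm
  have h2 := p_dvd_sY_sub 𝔟 x hx u w hT hU hY hF k₀ m
  rw [← hm, hu, sY_Y, if_pos rfl] at h2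
  exact not_p_dvd_one h2

include hx hT hU hY hF in
open Classical in
theorem not_inv_of_T (i₁ : Fin a) (h1 : ¬ ZT i₁) :
    ¬ ∃ φ' : Module.End ℤ_[p] L, Commute φ' x ∧ InK p x (proj 𝔟 ZT ZY ZF * φ' - 1) := by
  rintro ⟨φ', -, hk⟩
  obtain ⟨m, hm⟩ := hk.1 (𝔟 (Sum.inl i₁)) (hT i₁)
  have h2 := p_dvd_coordT_nuE 𝔟 x hx u w hT hU hY hF i₁ m
  rw [← hm, LinearMap.sub_apply, Module.End.mul_apply, Module.End.one_apply, map_sub,
    Finsupp.sub_apply, repr_proj] at h2
  have h3 : ¬ blockPred (p := p) ZT ZY ZF (Sum.inl i₁) := h1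
  rw [if_neg h3] at h2
  simp only [Module.Basis.repr_self, Finsupp.single_eq_same, zero_sub] at h2
  exact not_p_dvd_neg_one h2

include hx hT hU hY hF in
open Classical in
theorem not_inv_of_Y (k₁ : Fin b) (h1 : ¬ ZY k₁) :
    ¬ ∃ φ' : Module.End ℤ_[p] L, Commute φ' x ∧ InK p x (proj 𝔟 ZT ZY ZF * φ' - 1) := by
  rintro ⟨φ', -, hk⟩
  have hu := u_eq_basis 𝔟 x u hY k₁
  have hnu : nuE p x (u k₁) = 0 := by rw [nuE_apply]; exact hU k₁
  obtain ⟨m, hm⟩ := hk.2 (u k₁) hnu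
  have h2 := p_dvd_sY_sub 𝔟 x hx u w hT hU hY hF k₁ m
  rw [← hm, LinearMap.sub_apply, Module.End.mul_apply, Module.End.one_apply, map_sub,
    sY_proj, if_neg h1, hu, sY_Y, if_pos rfl, zero_sub] at h2
  exact not_p_dvd_neg_one h2

include hx hT hU hY hF in
theorem card_blocks_le_one
    (hdich : ∀ φ : Module.End ℤ_[p] L, Commute φ x →
      (∃ φ' : Module.End ℤ_[p] L, Commute φ' x ∧ InK p x (φ * φ' - 1)) ∨
        (∃ k : ℕ, InK p x (φ ^ k))) : a + b ≤ 1 := by
  classical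
  by_contra hcon
  have hcases : (1 ≤ a ∧ 1 ≤ b) ∨ 2 ≤ a ∨ 2 ≤ b := by omega
  rcases hcases with ⟨ha, hb⟩ | ha | hb
  · -- projection onto `T`
    rcases hdich (proj 𝔟 (fun _ => True) (fun _ => False) (fun _ => False))
      (proj_commute 𝔟 x hx u w hT hU hY hF _ _ _) with h | h
    · exact not_inv_of_Y 𝔟 x hx u w hT hU hY hF _ _ _ (⟨0, hb⟩ : Fin b) (fun h => h) h
    · exact not_nilp_of_T 𝔟 x hx u w hT hU hY hF _ _ _ (⟨0, ha⟩ : Fin a) trivial h
  · -- projection onto the first `T`-line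
    have h0a : 0 < a := by omega
    have h1a : 1 < a := by omega
    let i0 : Fin a := ⟨0, h0a⟩
    let i1 : Fin a := ⟨1, h1a⟩
    have hne : ¬ (i1 = i0) := by
      intro h'
      have := congrArg Fin.val h'
      simp [i0, i1] at this
    rcases hdich (proj 𝔟 (fun i => i = i0) (fun _ => False) (fun _ => False))
      (proj_commute 𝔟 x hx u w hT hU hY hF _ _ _) with h | h
    · exact not_inv_of_T 𝔟 x hx u w hT hU hY hF (fun i => i = i0) (fun _ => False)
        (fun _ => False) i1 hne h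
    · exact not_nilp_of_T 𝔟 x hx u w hT hU hY hF (fun i => i = i0) (fun _ => False)
        (fun _ => False) i0 rfl h
  · -- projection onto the first `Y`-block
    have h0b : 0 < b := by omega
    have h1b : 1 < b := by omega
    let k0 : Fin b := ⟨0, h0b⟩
    let k1 : Fin b := ⟨1, h1b⟩
    have hne : ¬ (k1 = k0) := by
      intro h'
      have := congrArg Fin.val h'
      simp [k0, k1] at this
    rcases hdich (proj 𝔟 (fun _ => False) (fun k => k = k0) (fun _ => False))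
      (proj_commute 𝔟 x hx u w hT hU hY hF _ _ _) with h | h
    · exact not_inv_of_Y 𝔟 x hx u w hT hU hY hF (fun _ => False) (fun k => k = k0)
        (fun _ => False) k1 hne h
    · exact not_nilp_of_Y 𝔟 x hx u w hT hU hY hF (fun _ => False) (fun k => k = k0)
        (fun _ => False) k0 rfl h

include hx hT hU hY hF in
/-- PL2 from a Diederichsen–Reiner basis. -/
theorem pl_trace_of_dr
    (hdich : ∀ φ : Module.End ℤ_[p] L, Commute φ x →
      (∃ φ' : Module.End ℤ_[p] L, Commute φ' x ∧ InK p x (φ * φ' - 1)) ∨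
        (∃ k : ℕ, InK p x (φ ^ k))) :
    ∃ δ : ℤ, (δ = 0 ∨ δ = 1 ∨ δ = -1) ∧
      ∀ i : ℕ, 0 < i → i < p → LinearMap.trace ℤ_[p] L (x ^ i) = (δ : ℤ_[p]) := by
  have hab := card_blocks_le_one 𝔟 x hx u w hT hU hY hF hdich
  refine ⟨(a : ℤ) - (b : ℤ), ?_, ?_⟩
  · omega
  · intro i hi0 hip
    rw [trace_pow 𝔟 x hx u w hT hU hY hF i hi0 hip]
    push_cast
    ring

/-! ### The three components -/

include 𝔟 in
theorem p_smul_eq_zero {v : L} (h : (p : ℤ_[p]) • v = 0) : v = 0 := by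
  apply 𝔟.ext_elem
  intro j
  have := congrArg (fun z => 𝔟.repr z j) h
  simp only [map_smul, Finsupp.smul_apply, smul_eq_mul, map_zero, Finsupp.zero_apply] at this
  rcases mul_eq_zero.mp this with h0 | h0
  · exact absurd h0 (by exact_mod_cast hp.out.ne_zero)
  · simpa using h0

open Classical in
theorem proj_eq_sum (l : L) :
    proj 𝔟 ZT ZY ZF l = ∑ j, if blockPred (p := p) ZT ZY ZF j then 𝔟.repr l j • 𝔟 j else 0 := by
  unfold proj
  rw [Module.Basis.constr_apply_fintype]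
  apply Finset.sum_congr rfl
  intro j _
  rw [Module.Basis.equivFun_apply]
  split_ifs
  · rfl
  · rw [smul_zero]

/-- Projection onto the trivial part. -/
noncomputable abbrev pT : Module.End ℤ_[p] L :=
  proj 𝔟 (fun _ : Fin a => True) (fun _ : Fin b => False) (fun _ : Fin c => False)

/-- Projection onto the norm-zero part. -/
noncomputable abbrev pY : Module.End ℤ_[p] L :=
  proj 𝔟 (fun _ : Fin a => False) (fun _ : Fin b => True) (fun _ : Fin c => False)

/-- Projection onto the free part. -/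
noncomputable abbrev pF : Module.End ℤ_[p] L :=
  proj 𝔟 (fun _ : Fin a => False) (fun _ : Fin b => False) (fun _ : Fin c => True)

theorem pT_eq (l : L) : pT 𝔟 l = ∑ i : Fin a, 𝔟.repr l (Sum.inl i) • 𝔟 (Sum.inl i) := by
  classical
  rw [proj_eq_sum, Fintype.sum_sum_type, Fintype.sum_sum_type]
  simp [blockPred]

theorem pY_eq (l : L) : pY 𝔟 l = ∑ k : Fin b, ∑ i : Fin (p - 1),
    𝔟.repr l (Sum.inr (Sum.inl (k, i))) • 𝔟 (Sum.inr (Sum.inl (k, i))) := by
  classical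
  rw [proj_eq_sum, Fintype.sum_sum_type, Fintype.sum_sum_type, Fintype.sum_prod_type]
  simp [blockPred]

theorem pF_eq (l : L) : pF 𝔟 l = ∑ k : Fin c, ∑ i : Fin p,
    𝔟.repr l (Sum.inr (Sum.inr (k, i))) • 𝔟 (Sum.inr (Sum.inr (k, i))) := by
  classical
  rw [proj_eq_sum, Fintype.sum_sum_type, Fintype.sum_sum_type]
  simp [blockPred, Fintype.sum_prod_type]

theorem decomp (l : L) : l = pT 𝔟 l + pY 𝔟 l + pF 𝔟 l := by
  classical
  apply 𝔟.ext_elem
  intro j
  simp only [map_add, Finsupp.add_apply, repr_proj]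
  rcases j with i | ⟨k, i⟩ | ⟨k, i⟩ <;> simp [blockPred]

include hT in
theorem x_pT (v : L) : x (pT 𝔟 v) = pT 𝔟 v := by
  rw [pT_eq, map_sum]
  exact Finset.sum_congr rfl (fun i _ => by rw [map_smul, hT])

include hx hU hY in
theorem nuE_pY (v : L) : nuE p x (pY 𝔟 v) = 0 := by
  rw [pY_eq, map_sum]
  apply Finset.sum_eq_zero
  intro k _
  rw [map_sum]
  apply Finset.sum_eq_zero
  intro i _
  rw [map_smul, nuE_Y 𝔟 x hx u hU hY, smul_zero]

/-! ### Fixed vectors and norm-zero vectors -/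

omit hp in
theorem add_mod_eq_iff {n i : ℕ} (hi : i < p) : (n + i) % p = n % p ↔ i = 0 := by
  constructor
  · intro h
    have h1 : n + i ≡ n + 0 [MOD p] := by simpa [Nat.ModEq] using h
    have h2 : i ≡ 0 [MOD p] := Nat.ModEq.add_left_cancel' n h1
    have h3 : i % p = 0 := by simpa [Nat.ModEq] using h2
    rwa [Nat.mod_eq_of_lt hi] at h3
  · rintro rfl; simp

include hx hT hU hY hF in
/-- The coordinates of the free part move cyclically under `x`. -/
theorem repr_pow_F (n : ℕ) (l : L) (k : Fin c) :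
    𝔟.repr ((x ^ n) l) (Sum.inr (Sum.inr (k, ⟨n % p, Nat.mod_lt _ hp.out.pos⟩))) =
      𝔟.repr l (Sum.inr (Sum.inr (k, ⟨0, hp.out.pos⟩))) := by
  have key : (𝔟.coord (Sum.inr (Sum.inr (k, ⟨n % p, Nat.mod_lt _ hp.out.pos⟩)))) ∘ₗ (x ^ n) =
      𝔟.coord (Sum.inr (Sum.inr (k, ⟨0, hp.out.pos⟩))) := by
    apply 𝔟.ext
    rintro (i | ⟨k', i⟩ | ⟨k', i⟩)
    · rw [LinearMap.comp_apply, pow_fixed x (hT i)]
      simp [Module.Basis.coord_apply]
    · have h1 : (x ^ n) (𝔟 (Sum.inr (Sum.inl (k', i)))) = (x ^ (n + (i : ℕ))) (u k') := by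
        rw [hY, ← Module.End.mul_apply, ← pow_add]
      rw [LinearMap.comp_apply, h1, pow_u 𝔟 x hx u hU hY]
      split_ifs
      · simp [Module.Basis.coord_apply]
      · simp [Module.Basis.coord_apply]
    · have h1 : (x ^ n) (𝔟 (Sum.inr (Sum.inr (k', i)))) = (x ^ (n + (i : ℕ))) (w k') := by
        rw [hF, ← Module.End.mul_apply, ← pow_add]
      rw [LinearMap.comp_apply, h1, pow_w 𝔟 x hx w hF]
      simp only [Module.Basis.coord_apply, Module.Basis.repr_self, Finsupp.single_apply]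
      have hiff : ((Sum.inr (Sum.inr (k', ⟨(n + (i : ℕ)) % p, Nat.mod_lt _ hp.out.pos⟩)) :
          Fin a ⊕ (Fin b × Fin (p - 1)) ⊕ (Fin c × Fin p)) =
            Sum.inr (Sum.inr (k, ⟨n % p, Nat.mod_lt _ hp.out.pos⟩))) ↔
          ((Sum.inr (Sum.inr (k', i)) : Fin a ⊕ (Fin b × Fin (p - 1)) ⊕ (Fin c × Fin p)) =
            Sum.inr (Sum.inr (k, ⟨0, hp.out.pos⟩))) := by
        simp only [Sum.inr.injEq, Prod.mk.injEq, Fin.mk.injEq]
        constructor
        · rintro ⟨h1, h2⟩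
          exact ⟨h1, Fin.ext ((add_mod_eq_iff i.isLt).mp h2)⟩
        · rintro ⟨h1, h2⟩
          refine ⟨h1, ?_⟩
          have : (i : ℕ) = 0 := congrArg Fin.val h2
          exact (add_mod_eq_iff i.isLt).mpr this
      by_cases h : (Sum.inr (Sum.inr (k', i)) : Fin a ⊕ (Fin b × Fin (p - 1)) ⊕ (Fin c × Fin p)) =
            Sum.inr (Sum.inr (k, ⟨0, hp.out.pos⟩))
      · rw [if_pos h, if_pos (hiff.mpr h)]
      · rw [if_neg h, if_neg (fun h' => h (hiff.mp h'))]
  have := LinearMap.congr_fun key l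
  simpa [Module.Basis.coord_apply] using this

include hx hT hU hY hF in
theorem repr_F_const {l : L} (hl : x l = l) (k : Fin c) (i : Fin p) :
    𝔟.repr l (Sum.inr (Sum.inr (k, i))) = 𝔟.repr l (Sum.inr (Sum.inr (k, ⟨0, hp.out.pos⟩))) := by
  have h := repr_pow_F 𝔟 x hx u w hT hU hY hF (i : ℕ) l k
  rw [pow_fixed x hl] at h
  have hi : (⟨(i : ℕ) % p, Nat.mod_lt _ hp.out.pos⟩ : Fin p) = i :=
    Fin.ext (Nat.mod_eq_of_lt i.isLt)
  rw [hi] at h
  exact h

include hx hT hU hY hF in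
/-- (K1') a fixed vector is congruent to its `T`-component modulo norms. -/
theorem fixed_sub_pT_mem {l : L} (hl : x l = l) :
    l - pT 𝔟 l ∈ LinearMap.range (nuE p x) := by
  -- the `Y`-component vanishes
  have hcomm := proj_commute 𝔟 x hx u w hT hU hY hF
    (fun _ : Fin a => False) (fun _ : Fin b => True) (fun _ : Fin c => False)
  have hy : pY 𝔟 l = 0 := by
    apply p_smul_eq_zero 𝔟
    have h1 : x (pY 𝔟 l) = pY 𝔟 l := by
      have := LinearMap.congr_fun hcomm.eq l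
      simp only [Module.End.mul_apply] at this
      rw [← this, hl]
    rw [← nuE_fixed x h1, nuE_pY 𝔟 x hx u hU hY]
  -- the `F`-component is a norm
  have hcommF := proj_commute 𝔟 x hx u w hT hU hY hF
    (fun _ : Fin a => False) (fun _ : Fin b => False) (fun _ : Fin c => True)
  have hf : pF 𝔟 l = nuE p x (∑ k : Fin c,
      𝔟.repr l (Sum.inr (Sum.inr (k, ⟨0, hp.out.pos⟩))) • w k) := by
    rw [pF_eq, map_sum]
    apply Finset.sum_congr rfl
    intro k _
    rw [map_smul, nuE_w 𝔟 x w hF, Finset.smul_sum]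
    exact Finset.sum_congr rfl (fun i _ => by
      rw [repr_F_const 𝔟 x hx u w hT hU hY hF hl k i])
  have hdec := decomp 𝔟 l
  rw [hy, add_zero] at hdec
  refine ⟨∑ k : Fin c, 𝔟.repr l (Sum.inr (Sum.inr (k, ⟨0, hp.out.pos⟩))) • w k, ?_⟩
  rw [← hf]
  symm
  rw [sub_eq_iff_eq_add']
  exact hdec

include hx hT hU hY hF in
theorem repr_nuE_T (l : L) (j : Fin a) :
    𝔟.repr (nuE p x l) (Sum.inl j) = (p : ℤ_[p]) * 𝔟.repr l (Sum.inl j) := by
  have key : (𝔟.coord (Sum.inl j)) ∘ₗ (nuE p x) = (p : ℤ_[p]) • 𝔟.coord (Sum.inl j) := by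
    apply 𝔟.ext
    rintro (i | ⟨k, i⟩ | ⟨k, i⟩)
    · rw [LinearMap.comp_apply, nuE_T 𝔟 x hT]
      simp [Module.Basis.coord_apply]
    · rw [LinearMap.comp_apply, nuE_Y 𝔟 x hx u hU hY]
      simp [Module.Basis.coord_apply]
    · rw [LinearMap.comp_apply, nuE_F 𝔟 x hx w hF]
      simp [Module.Basis.coord_apply]
  have := LinearMap.congr_fun key l
  simpa [Module.Basis.coord_apply] using this

include hx hT hU hY hF in
theorem repr_nuE_F (l : L) (k : Fin c) :
    𝔟.repr (nuE p x l) (Sum.inr (Sum.inr (k, ⟨0, hp.out.pos⟩))) =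
      ∑ i : Fin p, 𝔟.repr l (Sum.inr (Sum.inr (k, i))) := by
  have key : (𝔟.coord (Sum.inr (Sum.inr (k, ⟨0, hp.out.pos⟩)))) ∘ₗ (nuE p x) =
      ∑ i : Fin p, 𝔟.coord (Sum.inr (Sum.inr (k, i))) := by
    apply 𝔟.ext
    rintro (i | ⟨k', i⟩ | ⟨k', i⟩)
    · rw [LinearMap.comp_apply, nuE_T 𝔟 x hT, LinearMap.sum_apply]
      simp [Module.Basis.coord_apply]
    · rw [LinearMap.comp_apply, nuE_Y 𝔟 x hx u hU hY, LinearMap.sum_apply]
      simp [Module.Basis.coord_apply]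
    · rw [LinearMap.comp_apply, nuE_F 𝔟 x hx w hF, LinearMap.sum_apply, map_sum]
      simp only [Module.Basis.coord_apply, Module.Basis.repr_self, Finsupp.single_apply,
        Sum.inr.injEq, Prod.mk.injEq]
      by_cases hk : k' = k
      · subst hk
        simp
      · simp [hk]
  have := LinearMap.congr_fun key l
  simpa [Module.Basis.coord_apply, LinearMap.sum_apply] using this

include hx hT hU hY hF in
/-- (K2') a norm-zero vector is congruent to its `Y`-component modulo `range (x - 1)`. -/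
theorem nuzero_sub_pY_mem {l : L} (hl : nuE p x l = 0) :
    l - pY 𝔟 l ∈ LinearMap.range (x - 1) := by
  -- the `T`-component vanishes
  have ht : pT 𝔟 l = 0 := by
    rw [pT_eq]
    apply Finset.sum_eq_zero
    intro j _
    have h1 := repr_nuE_T 𝔟 x hx u w hT hU hY hF l j
    rw [hl, map_zero, Finsupp.zero_apply] at h1
    rcases mul_eq_zero.mp h1.symm with h0 | h0
    · exact absurd h0 (by exact_mod_cast hp.out.ne_zero)
    · rw [h0, zero_smul]
  have hsum : ∀ k : Fin c, ∑ i : Fin p, 𝔟.repr l (Sum.inr (Sum.inr (k, i))) = 0 := by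
    intro k
    rw [← repr_nuE_F 𝔟 x hx u w hT hU hY hF l k, hl, map_zero, Finsupp.zero_apply]
  have hdec := decomp 𝔟 l
  rw [ht, zero_add] at hdec
  have hlf : l - pY 𝔟 l = pF 𝔟 l := by
    rw [sub_eq_iff_eq_add']
    exact hdec
  rw [hlf]
  refine ⟨∑ k : Fin c, ∑ i : Fin p, 𝔟.repr l (Sum.inr (Sum.inr (k, i))) •
    ((∑ i' ∈ Finset.range (i : ℕ), x ^ i') (w k)), ?_⟩
  rw [pF_eq, map_sum]
  apply Finset.sum_congr rfl
  intro k _
  rw [map_sum]
  have h1 : ∀ i : Fin p, (x - 1) (𝔟.repr l (Sum.inr (Sum.inr (k, i))) •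
      ((∑ i' ∈ Finset.range (i : ℕ), x ^ i') (w k))) =
      𝔟.repr l (Sum.inr (Sum.inr (k, i))) • 𝔟 (Sum.inr (Sum.inr (k, i))) -
        𝔟.repr l (Sum.inr (Sum.inr (k, i))) • w k := by
    intro i
    rw [map_smul, ← Module.End.mul_apply, mul_geom_sum, LinearMap.sub_apply,
      Module.End.one_apply, smul_sub, hF]
  rw [Finset.sum_congr rfl (fun i _ => h1 i), Finset.sum_sub_distrib, ← Finset.sum_smul,
    hsum k, zero_smul, sub_zero]

/-! ### The endomorphism `φ` commuting with `x` -/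

theorem map_range_nuE {ψ φ : Module.End ℤ_[p] L} (hψ : InA p x ψ) (hφ : Commute φ x)
    {v : L} (hv : v ∈ LinearMap.range (nuE p x)) :
    (ψ - φ) v ∈ LinearMap.range (nuE p x) := by
  obtain ⟨m₀, rfl⟩ := hv
  obtain ⟨m₁, hm₁⟩ := hψ.2.1 m₀
  refine ⟨m₁ - φ m₀, ?_⟩
  have h1 : φ (nuE p x m₀) = nuE p x (φ m₀) := by
    have := LinearMap.congr_fun (commute_nuE x hφ).eq m₀
    simpa [Module.End.mul_apply] using this
  rw [LinearMap.sub_apply, hm₁, h1, map_sub]

theorem map_range_sub {ψ φ : Module.End ℤ_[p] L} (hψ : InA p x ψ) (hφ : Commute φ x)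
    {v : L} (hv : v ∈ LinearMap.range (x - 1)) :
    (ψ - φ) v ∈ LinearMap.range (x - 1) := by
  obtain ⟨m₀, rfl⟩ := hv
  obtain ⟨m₁, hm₁⟩ := hψ.2.2.2 m₀
  refine ⟨m₁ - φ m₀, ?_⟩
  have h1 : φ (x m₀) = x (φ m₀) := by
    have := LinearMap.congr_fun hφ.eq m₀
    simpa [Module.End.mul_apply] using this
  simp only [LinearMap.sub_apply, Module.End.one_apply, map_sub] at hm₁ ⊢
  rw [h1, ← hm₁]
  abel

/-- The candidate endomorphism. -/
noncomputable def phi (ψ : Module.End ℤ_[p] L) : Module.End ℤ_[p] L :=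
  𝔟.constr ℤ_[p] (Sum.elim (fun i => pT 𝔟 (ψ (𝔟 (Sum.inl i))))
    (Sum.elim (fun ki => (x ^ (ki.2 : ℕ)) (pY 𝔟 (ψ (u ki.1)))) (fun _ => 0)))

variable (ψ : Module.End ℤ_[p] L)

theorem phi_T (i : Fin a) : phi 𝔟 x u ψ (𝔟 (Sum.inl i)) = pT 𝔟 (ψ (𝔟 (Sum.inl i))) := by
  unfold phi
  rw [Module.Basis.constr_basis]; rfl

theorem phi_Y (k : Fin b) (i : Fin (p - 1)) :
    phi 𝔟 x u ψ (𝔟 (Sum.inr (Sum.inl (k, i)))) = (x ^ (i : ℕ)) (pY 𝔟 (ψ (u k))) := by
  unfold phi
  rw [Module.Basis.constr_basis]; rfl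

theorem phi_F (k : Fin c) (i : Fin p) : phi 𝔟 x u ψ (𝔟 (Sum.inr (Sum.inr (k, i)))) = 0 := by
  unfold phi
  rw [Module.Basis.constr_basis]; rfl

include hx hU hY in
theorem phi_pow_u (n : ℕ) (k : Fin b) :
    phi 𝔟 x u ψ ((x ^ n) (u k)) = (x ^ n) (pY 𝔟 (ψ (u k))) := by
  rw [pow_u 𝔟 x hx u hU hY n k]
  split_ifs with h
  · rw [phi_Y]
    exact (LinearMap.congr_fun (pow_mod x hx n) _).symm
  · have hn : n % p = p - 1 := by
      have := Nat.mod_lt n hp.out.pos
      omega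
    rw [map_neg, map_sum]
    have h1 : ∀ i : Fin (p - 1), phi 𝔟 x u ψ (𝔟 (Sum.inr (Sum.inl (k, i)))) =
        (x ^ (i : ℕ)) (pY 𝔟 (ψ (u k))) := fun i => phi_Y 𝔟 x u ψ k i
    rw [Finset.sum_congr rfl (fun i _ => h1 i),
      Fin.sum_univ_eq_sum_range (fun i => (x ^ i) (pY 𝔟 (ψ (u k)))) (p - 1)]
    have h2 := pow_pred_u x (fun _ : Fin 1 => pY 𝔟 (ψ (u k)))
      (fun _ => by
        have := nuE_pY 𝔟 x hx u hU hY (ψ (u k))
        rwa [nuE_apply] at this) 0
    rw [← h2, pow_mod x hx n, hn]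

include hx hT hU hY hF in
theorem phi_commute : Commute (phi 𝔟 x u ψ) x := by
  apply 𝔟.ext
  intro j
  change phi 𝔟 x u ψ (x (𝔟 j)) = x (phi 𝔟 x u ψ (𝔟 j))
  rcases j with i | ⟨k, i⟩ | ⟨k, i⟩
  · rw [hT, phi_T, x_pT 𝔟 x hT]
  · have h1 : x (𝔟 (Sum.inr (Sum.inl (k, i)))) = (x ^ ((i : ℕ) + 1)) (u k) := by
      rw [hY, pow_succ']; rfl
    rw [h1, phi_pow_u 𝔟 x hx u hU hY, phi_Y, pow_succ']; rfl
  · have h1 : x (𝔟 (Sum.inr (Sum.inr (k, i)))) = (x ^ ((i : ℕ) + 1)) (w k) := by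
      rw [hF, pow_succ']; rfl
    rw [h1, pow_w 𝔟 x hx w hF, phi_F, phi_F, map_zero]

include hx hT hU hY hF in
/-- PL1 from a Diederichsen–Reiner basis. -/
theorem pl_surj_of_dr (hψ : InA p x ψ) :
    ∃ φ : Module.End ℤ_[p] L, Commute φ x ∧ InK p x (ψ - φ) := by
  have hφ := phi_commute 𝔟 x hx u w hT hU hY hF ψ
  refine ⟨phi 𝔟 x u ψ, hφ, ?_, ?_⟩
  · -- fixed vectors
    intro l hl
    have hmem : (ψ - phi 𝔟 x u ψ) l ∈ LinearMap.range (nuE p x) := by
      have hsplit : l = pT 𝔟 l + (l - pT 𝔟 l) := by abel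
      rw [hsplit, map_add]
      apply Submodule.add_mem
      · rw [pT_eq, map_sum]
        apply Submodule.sum_mem
        intro i _
        rw [map_smul]
        apply Submodule.smul_mem
        rw [LinearMap.sub_apply, phi_T]
        exact fixed_sub_pT_mem 𝔟 x hx u w hT hU hY hF (hψ.1 _ (hT i))
      · exact map_range_nuE x hψ hφ (fixed_sub_pT_mem 𝔟 x hx u w hT hU hY hF hl)
    obtain ⟨m, hm⟩ := hmem
    exact ⟨m, hm.symm⟩
  · -- norm-zero vectors
    intro l hl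
    have hmem : (ψ - phi 𝔟 x u ψ) l ∈ LinearMap.range (x - 1) := by
      have hsplit : l = pY 𝔟 l + (l - pY 𝔟 l) := by abel
      rw [hsplit, map_add]
      apply Submodule.add_mem
      · rw [pY_eq, map_sum]
        apply Submodule.sum_mem
        intro k _
        rw [map_sum]
        apply Submodule.sum_mem
        intro i _
        rw [map_smul]
        apply Submodule.smul_mem
        -- `Y(k,i) = u_k + (x^i - 1) u_k`
        have hu0 : nuE p x (u k) = 0 := by rw [nuE_apply]; exact hU k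
        have h1 : 𝔟 (Sum.inr (Sum.inl (k, i))) =
            u k + (x - 1) ((∑ i' ∈ Finset.range (i : ℕ), x ^ i') (u k)) := by
          rw [← Module.End.mul_apply, mul_geom_sum, LinearMap.sub_apply, Module.End.one_apply,
            hY]
          abel
        rw [h1, map_add]
        apply Submodule.add_mem
        · have h2 : phi 𝔟 x u ψ (u k) = pY 𝔟 (ψ (u k)) := by
            have := phi_pow_u 𝔟 x hx u hU hY ψ 0 k
            simpa using this
          rw [LinearMap.sub_apply, h2]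
          exact nuzero_sub_pY_mem 𝔟 x hx u w hT hU hY hF (hψ.2.2.1 _ hu0)
        · exact map_range_sub x hψ hφ ⟨_, rfl⟩
      · exact map_range_sub x hψ hφ (nuzero_sub_pY_mem 𝔟 x hx u w hT hU hY hF hl)
    obtain ⟨m, hm⟩ := hmem
    refine ⟨m, ?_⟩
    rw [← hm, LinearMap.sub_apply, Module.End.one_apply]

end DR

section Final

variable [Module.Free ℤ_[p] L] [Module.Finite ℤ_[p] L]

/-- PL1: every flag-preserving endomorphism is congruent mod `InK` to one commuting with `x`. -/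
theorem pl_surj (x : Module.End ℤ_[p] L) (hx : x ^ p = 1) (ψ : Module.End ℤ_[p] L)
    (hψ : InA p x ψ) : ∃ φ : Module.End ℤ_[p] L, Commute φ x ∧ InK p x (ψ - φ) := by
  obtain ⟨a, b, c, 𝔟, u, w, hT, hU, hY, hF⟩ := Cfsg.Agent.Lib.Helper3_DR.dr x hx
  exact pl_surj_of_dr 𝔟 x hx u w hT hU hY hF ψ hψ

/-- PL2: if every endomorphism commuting with `x` is invertible or nilpotent modulo `InK`, then the
trace of `x ^ i` (`0 < i < p`) is a constant `δ ∈ {0, 1, -1}`. -/
theorem pl_trace (x : Module.End ℤ_[p] L) (hx : x ^ p = 1)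
    (hdich : ∀ φ : Module.End ℤ_[p] L, Commute φ x →
      (∃ φ' : Module.End ℤ_[p] L, Commute φ' x ∧ InK p x (φ * φ' - 1)) ∨
        (∃ k : ℕ, InK p x (φ ^ k))) :
    ∃ δ : ℤ, (δ = 0 ∨ δ = 1 ∨ δ = -1) ∧
      ∀ i : ℕ, 0 < i → i < p → LinearMap.trace ℤ_[p] L (x ^ i) = (δ : ℤ_[p]) := by
  obtain ⟨a, b, c, 𝔟, u, w, hT, hU, hY, hF⟩ := Cfsg.Agent.Lib.Helper3_DR.dr x hx
  exact pl_trace_of_dr 𝔟 x hx u w hT hU hY hF hdich

end Final

end Cfsg.Agent.Lib.Helper13_PLocal
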