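import Mathlib
import Cfsg.Prelude.Def_Characters
import Cfsg.Prelude.Def_Blocks
import Cfsg.Agent.Lib.Helper57_LatDefs
import Cfsg.Agent.Lib.Helper78_Osima
import Cfsg.Agent.Lib.Helper78_CharFacts
import Cfsg.Agent.Lib.Helper80_CharBasic
import Cfsg.Agent.Lib.Helper3_CharBridge
import Cfsg.Agent.Lib.Helper3_CharComplete
import Cfsg.Agent.Lib.Helper75_CharArith

/-!
# D5 + D6 of the S0960/S4441 project (helper57's plan): characters of `ℤ_[p]`-lattices

* `latChar j ρ`: the complex character of a `ℤ_[p]`-lattice through `j : ℚ_[p] →+* ℂ`.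
* `isCharacter_latChar` (D6): it is a character.
* `exists_qirred_lattice` (D5): if the central idempotent of a nonempty set `𝒪` of irreducible
  characters has coefficients in `j(ℚ_p)`, there is a `ℚ_p`-irreducible lattice all of whose
  constituents lie in `𝒪`.
-/

set_option autoImplicit false
open Cfsg.Agent.Lib.Helper57_LatDefs
open scoped ComplexConjugate

universe u

namespace Cfsg.Agent.Lib.Helper17_LatChar

/-- The complex-valued character of a `ℤ_[p]`-lattice, through an embedding `j : ℚ_[p] →+* ℂ`. -/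
noncomputable def latChar {p : ℕ} [Fact p.Prime] {G : Type*} [Group G] {L : Type*} [AddCommGroup L]
    [Module ℤ_[p] L] (j : ℚ_[p] →+* ℂ) (ρ : Representation ℤ_[p] G L) : G → ℂ :=
  fun g => j ((LinearMap.trace ℤ_[p] L (ρ g) : ℤ_[p]) : ℚ_[p])

/-- Base change of a representation over a commutative ring `R` on a free module with a finite
basis, along a ring hom `J : R →+* ℂ`, as a representation on `Fin n → ℂ`. -/
noncomputable def baseChangeRep {R : Type*} [CommRing R] {G : Type*} [Group G] {L : Type*}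
    [AddCommGroup L] [Module R L] {n : ℕ} (b : Module.Basis (Fin n) R L) (J : R →+* ℂ)
    (ρ : Representation R G L) : Representation ℂ G (Fin n → ℂ) :=
  ((Matrix.toLinAlgEquiv' : Matrix (Fin n) (Fin n) ℂ ≃ₐ[ℂ] _).toAlgHom.toRingHom.toMonoidHom.comp
    ((RingHom.mapMatrix J : Matrix (Fin n) (Fin n) R →+* Matrix (Fin n) (Fin n) ℂ).toMonoidHom.comp
      ((LinearMap.toMatrixAlgEquiv b).toAlgHom.toRingHom.toMonoidHom))).comp ρ

theorem baseChangeRep_character {R : Type*} [CommRing R] {G : Type*} [Group G] {L : Type*}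
    [AddCommGroup L] [Module R L] {n : ℕ} (b : Module.Basis (Fin n) R L) (J : R →+* ℂ)
    (ρ : Representation R G L) (g : G) :
    (baseChangeRep b J ρ).character g = J (LinearMap.trace R L (ρ g)) := by
  unfold baseChangeRep Representation.character
  simp only [MonoidHom.coe_comp, Function.comp_apply]
  show LinearMap.trace ℂ _ (Matrix.toLinAlgEquiv' ((LinearMap.toMatrixAlgEquiv b (ρ g)).map J)) = _
  rw [LinearMap.trace_eq_matrix_trace R b (ρ g)]
  have h1 : LinearMap.trace ℂ _ (Matrix.toLinAlgEquiv' ((LinearMap.toMatrixAlgEquiv b (ρ g)).map J))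
      = Matrix.trace ((LinearMap.toMatrixAlgEquiv b (ρ g)).map J) := by
    rw [LinearMap.trace_eq_matrix_trace ℂ (Pi.basisFun ℂ (Fin n))]
    congr 1
    ext i k
    simp [Matrix.toLinAlgEquiv'_apply, Matrix.mulVec, dotProduct, Pi.single_apply]
  rw [h1]
  simp [Matrix.trace, LinearMap.toMatrixAlgEquiv_apply, LinearMap.toMatrix_apply]

/-- D6: the character of a lattice is a character. -/
theorem isCharacter_latChar {p : ℕ} [Fact p.Prime] {G : Type*} [Group G] [Finite G] {L : Type*}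
    [AddCommGroup L] [Module ℤ_[p] L] [Module.Free ℤ_[p] L] [Module.Finite ℤ_[p] L]
    (j : ℚ_[p] →+* ℂ) (ρ : Representation ℤ_[p] G L) : Cfsg.IsCharacter G (latChar j ρ) := by
  refine ⟨Module.finrank ℤ_[p] L, baseChangeRep (Module.finBasis ℤ_[p] L)
    (j.comp PadicInt.Coe.ringHom) ρ, ?_⟩
  funext g
  rw [baseChangeRep_character]
  rfl

/-! ### Generic algebra: stable submodules and the operator of a central element -/

section generic

variable {R : Type*} [CommRing R] {G : Type*} [Group G] {M : Type*} [AddCommGroup M] [Module R M]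

/-- Restriction of a representation to a stable submodule. -/
def subRep (ρ : Representation R G M) (N : Submodule R M) (hN : ∀ g, N.map (ρ g) ≤ N) :
    Representation R G N where
  toFun g := (ρ g).restrict (fun x hx => hN g (Submodule.mem_map_of_mem hx))
  map_one' := by ext x; simp
  map_mul' g h := by ext x; simp

@[simp] theorem subRep_apply_coe (ρ : Representation R G M) (N : Submodule R M)
    (hN : ∀ g, N.map (ρ g) ≤ N) (g : G) (x : N) : ((subRep ρ N hN g x : N) : M) = ρ g x := rfl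

/-- The operator `∑ y, e y • ρ y`. -/
def opOf [Fintype G] (ρ : Representation R G M) (e : G → R) : Module.End R M := ∑ y, e y • ρ y

theorem opOf_apply [Fintype G] (ρ : Representation R G M) (e : G → R) (m : M) :
    opOf ρ e m = ∑ y, e y • ρ y m := by
  simp [opOf, LinearMap.sum_apply]

theorem opOf_comm [Fintype G] (ρ : Representation R G M) (e : G → R)
    (he : ∀ g y, e (g * y * g⁻¹) = e y) (g : G) (m : M) :
    ρ g (opOf ρ e m) = opOf ρ e (ρ g m) := by
  rw [opOf_apply, opOf_apply, map_sum]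
  rw [← Equiv.sum_comp (MulAut.conj g).toEquiv (fun y => e y • ρ y (ρ g m))]
  refine Finset.sum_congr rfl fun y _ => ?_
  simp only [MulEquiv.toEquiv_eq_coe, EquivLike.coe_coe, MulAut.conj_apply, he, map_smul]
  congr 1
  rw [← Module.End.mul_apply, ← Module.End.mul_apply, ← map_mul, ← map_mul]
  simp

theorem opOf_subRep_coe [Fintype G] (ρ : Representation R G M) (N : Submodule R M)
    (hN : ∀ g, N.map (ρ g) ≤ N) (e : G → R) (x : N) :
    ((opOf (subRep ρ N hN) e x : N) : M) = opOf ρ e (x : M) := by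
  rw [opOf_apply, opOf_apply]
  simp

theorem trace_opOf [Fintype G] (ρ : Representation R G M) (e : G → R) :
    LinearMap.trace R M (opOf ρ e) = ∑ y, e y * LinearMap.trace R M (ρ y) := by
  simp [opOf, map_sum]

/-- The eigen-submodule `{m | (∑ y, e y • ρ y) m = c • m}`. -/
def eigenSub [Fintype G] (ρ : Representation R G M) (e : G → R) (c : R) : Submodule R M :=
  LinearMap.ker (opOf ρ e - c • (1 : Module.End R M))

theorem mem_eigenSub [Fintype G] (ρ : Representation R G M) (e : G → R) (c : R) (m : M) :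
    m ∈ eigenSub ρ e c ↔ opOf ρ e m = c • m := by
  simp [eigenSub, sub_eq_zero]

theorem eigenSub_stable [Fintype G] (ρ : Representation R G M) (e : G → R)
    (he : ∀ g y, e (g * y * g⁻¹) = e y) (c : R) (g : G) :
    (eigenSub ρ e c).map (ρ g) ≤ eigenSub ρ e c := by
  rintro _ ⟨m, hm, rfl⟩
  rw [SetLike.mem_coe, mem_eigenSub] at hm
  rw [mem_eigenSub, ← opOf_comm ρ e he, hm, map_smul]

/-- On a stable submodule of the eigen-submodule, the operator is the scalar `c`. -/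
theorem opOf_subRep_eq_smul [Fintype G] (ρ : Representation R G M) (e : G → R) (c : R)
    (N : Submodule R M) (hN : ∀ g, N.map (ρ g) ≤ N) (hNe : N ≤ eigenSub ρ e c) :
    opOf (subRep ρ N hN) e = c • (1 : Module.End R N) := by
  ext x
  rw [opOf_subRep_coe]
  have := (mem_eigenSub ρ e c x).mp (hNe x.2)
  rw [this]
  rfl

/-- The left regular representation on functions. -/
def regRep (R : Type*) [CommRing R] (G : Type*) [Group G] : Representation R G (G → R) where
  toFun g := LinearMap.funLeft R R (fun x => g⁻¹ * x)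
  map_one' := by ext f x; simp [LinearMap.funLeft_apply]
  map_mul' g h := by ext f x; simp [LinearMap.funLeft_apply, mul_assoc]

@[simp] theorem regRep_apply (g : G) (f : G → R) (x : G) : regRep R G g f x = f (g⁻¹ * x) := rfl

theorem opOf_regRep_apply [Fintype G] (e f : G → R) (x : G) :
    opOf (regRep R G) e f x = ∑ y, e y * f (y⁻¹ * x) := by
  rw [opOf_apply]
  simp [Finset.sum_apply]

/-- A nonzero stable submodule of minimal rank, inside a given nonzero stable submodule. -/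
theorem exists_min_stable (ρ : Representation R G M) (N₀ : Submodule R M)
    (hN₀ : ∀ g, N₀.map (ρ g) ≤ N₀) (hne : N₀ ≠ ⊥) :
    ∃ N : Submodule R M, N ≤ N₀ ∧ (∀ g, N.map (ρ g) ≤ N) ∧ N ≠ ⊥ ∧
      ∀ N' : Submodule R M, N' ≤ N → (∀ g, N'.map (ρ g) ≤ N') → N' ≠ ⊥ →
        Module.finrank R N ≤ Module.finrank R N' := by
  classical
  let P : ℕ → Prop := fun n => ∃ N : Submodule R M, N ≤ N₀ ∧ (∀ g, N.map (ρ g) ≤ N) ∧ N ≠ ⊥ ∧
    Module.finrank R N = n
  have hP : ∃ n, P n := ⟨_, N₀, le_rfl, hN₀, hne, rfl⟩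
  obtain ⟨N, hN1, hN2, hN3, hN4⟩ := Nat.find_spec hP
  refine ⟨N, hN1, hN2, hN3, fun N' h1 h2 h3 => ?_⟩
  rw [hN4]
  exact Nat.find_min' hP ⟨N', h1.trans hN1, h2, h3, rfl⟩

/-- The restriction to a minimal stable submodule is `ℚ`-irreducible. -/
theorem isQIrred_subRep [Nontrivial R] [Module.Finite R M]
    (ρ : Representation R G M) (N : Submodule R M)
    (hN : ∀ g, N.map (ρ g) ≤ N) [Module.Finite R N]
    (hmin : ∀ N' : Submodule R M, N' ≤ N → (∀ g, N'.map (ρ g) ≤ N') → N' ≠ ⊥ →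
        Module.finrank R N ≤ Module.finrank R N') :
    IsQIrred (subRep ρ N hN) := by
  intro L₁ hL₁
  by_cases h0 : L₁ = ⊥
  · exact Or.inl h0
  refine Or.inr (le_antisymm (Submodule.finrank_le L₁) ?_)
  have hinj : Function.Injective N.subtype := N.injective_subtype
  have e1 : Module.finrank R (L₁.map N.subtype) = Module.finrank R L₁ :=
    (Submodule.equivMapOfInjective N.subtype hinj L₁).finrank_eq.symm
  rw [← e1]
  refine hmin _ ?_ ?_ ?_
  · rintro _ ⟨x, -, rfl⟩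
    exact x.2
  · intro g
    rintro _ ⟨_, ⟨x, hx, rfl⟩, rfl⟩
    refine ⟨subRep ρ N hN g x, hL₁ g (Submodule.mem_map_of_mem hx), rfl⟩
  · intro h
    apply h0
    rw [Submodule.eq_bot_iff] at h ⊢
    intro x hx
    have := h _ (Submodule.mem_map_of_mem (f := N.subtype) hx)
    exact Subtype.ext this

end generic

/-! ### The integral multiple of the central idempotent -/

/-- A finite family of `p`-adic numbers has a common denominator `p ^ N`. -/
theorem exists_pow_mul_norm_le_one {p : ℕ} [Fact p.Prime] {ι : Type*} [Fintype ι]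
    (x : ι → ℚ_[p]) : ∃ N : ℕ, ∀ i, ‖(p : ℚ_[p]) ^ N * x i‖ ≤ 1 := by
  have hp1 : (1 : ℝ) < p := by exact_mod_cast (Fact.out : p.Prime).one_lt
  obtain ⟨N, hN⟩ := pow_unbounded_of_one_lt (∑ i, ‖x i‖) hp1
  refine ⟨N, fun i => ?_⟩
  rw [norm_mul, Padic.norm_p_pow, zpow_neg, zpow_natCast]
  have hpos : (0 : ℝ) < (p : ℝ) ^ N := by positivity
  rw [inv_mul_le_iff₀ hpos, mul_one]
  refine le_trans ?_ hN.le
  exact Finset.single_le_sum (f := fun i => ‖x i‖) (fun i _ => norm_nonneg _) (Finset.mem_univ i)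

/-- The ring hom `ℤ_[p] →+* ℂ` induced by `j`. -/
noncomputable def jInt {p : ℕ} [Fact p.Prime] (j : ℚ_[p] →+* ℂ) : ℤ_[p] →+* ℂ :=
  j.comp PadicInt.Coe.ringHom

theorem jInt_apply {p : ℕ} [Fact p.Prime] (j : ℚ_[p] →+* ℂ) (z : ℤ_[p]) :
    jInt j z = j (z : ℚ_[p]) := rfl

theorem jInt_injective {p : ℕ} [Fact p.Prime] (j : ℚ_[p] →+* ℂ) : Function.Injective (jInt j) :=
  j.injective.comp Subtype.val_injective

theorem latChar_apply {p : ℕ} [Fact p.Prime] {G : Type*} [Group G] {L : Type*} [AddCommGroup L]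
    [Module ℤ_[p] L] (j : ℚ_[p] →+* ℂ) (ρ : Representation ℤ_[p] G L) (g : G) :
    latChar j ρ g = jInt j (LinearMap.trace ℤ_[p] L (ρ g)) := rfl

theorem exists_integral_coeff {p : ℕ} [Fact p.Prime] {G : Type u} [Group G] [Fintype G]
    (j : ℚ_[p] →+* ℂ) (𝒪 : Finset (Cfsg.IrrCharacter G))
    (hK : ∀ g : G, ∑ ψ ∈ 𝒪, (ψ : G → ℂ) 1 * (ψ : G → ℂ) g ∈ j.range) :
    ∃ (N : ℕ) (e : G → ℤ_[p]), ∀ y : G, jInt j (e y) =
      (p : ℂ) ^ N * ∑ ψ ∈ 𝒪, (ψ : G → ℂ) 1 * (ψ : G → ℂ) y⁻¹ := by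
  choose a ha using hK
  obtain ⟨N, hN⟩ := exists_pow_mul_norm_le_one (fun y : G => a y⁻¹)
  refine ⟨N, fun y => ⟨(p : ℚ_[p]) ^ N * a y⁻¹, hN y⟩, fun y => ?_⟩
  show j ((p : ℚ_[p]) ^ N * a y⁻¹) = _
  rw [map_mul, map_pow, map_natCast, ha]

open Cfsg.Agent.Lib.Helper78_Osima in
/-- The block idempotent of any set of irreducible characters is an idempotent for convolution. -/
theorem conv_blockCoeff_self {G : Type u} [Group G] [Fintype G] (S : Set (Cfsg.IrrCharacter G)) :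
    conv (Cfsg.blockCoeff S) (Cfsg.blockCoeff S) = Cfsg.blockCoeff S := by
  have hc := Cfsg.Agent.Lib.Helper78_CharFacts.charFacts (G := G)
  refine eq_of_omega_eq hc (conv_isClassFunction (blockCoeff_isClassFunction S)
    (blockCoeff_isClassFunction S)) (blockCoeff_isClassFunction S) fun χ => ?_
  rw [omega_conv χ.2 _ (blockCoeff_isClassFunction S), omega_blockCoeff hc]
  by_cases h : χ ∈ S
  · simp [Set.indicator_of_mem h]
  · simp [Set.indicator_of_notMem h]

/-- The sum in the hypothesis, at `y⁻¹`, in terms of the block idempotent. -/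
theorem sum_eq_card_mul_blockCoeff {G : Type u} [Group G] [Fintype G]
    (𝒪 : Finset (Cfsg.IrrCharacter G)) (y : G) :
    ∑ ψ ∈ 𝒪, (ψ : G → ℂ) 1 * (ψ : G → ℂ) y⁻¹ =
      (Nat.card G : ℂ) * Cfsg.blockCoeff (𝒪 : Set (Cfsg.IrrCharacter G)) y := by
  unfold Cfsg.blockCoeff
  rw [finsum_mem_coe_finset, ← mul_assoc, mul_inv_cancel₀, one_mul]
  · refine Finset.sum_congr rfl fun ψ _ => ?_
    rw [Cfsg.Agent.Lib.Helper80_CharBasic.irr_inv]
  · exact_mod_cast (Nat.card_pos (α := G)).ne'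

theorem coeff_facts {p : ℕ} [Fact p.Prime] {G : Type u} [Group G] [Fintype G]
    (j : ℚ_[p] →+* ℂ) (𝒪 : Finset (Cfsg.IrrCharacter G)) (h𝒪 : 𝒪.Nonempty) (N : ℕ)
    (e : G → ℤ_[p])
    (he : ∀ y : G, jInt j (e y) = (p : ℂ) ^ N * ∑ ψ ∈ 𝒪, (ψ : G → ℂ) 1 * (ψ : G → ℂ) y⁻¹) :
    (∀ g y, e (g * y * g⁻¹) = e y) ∧
    (∀ x, ∑ y, e y * e (y⁻¹ * x) = ((p : ℤ_[p]) ^ N * (Nat.card G : ℤ_[p])) * e x) ∧
    e 1 ≠ 0 := by
  have hp0 : (p : ℂ) ≠ 0 := by exact_mod_cast (Fact.out : p.Prime).ne_zero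
  refine ⟨fun g y => ?_, fun x => ?_, fun h1 => ?_⟩
  · apply jInt_injective j
    rw [he, he]
    congr 1
    refine Finset.sum_congr rfl fun ψ _ => ?_
    rw [mul_inv_rev, mul_inv_rev, inv_inv, ← mul_assoc, Cfsg.Agent.Lib.Helper80_CharBasic.irr_conj]
  · apply jInt_injective j
    rw [map_sum, map_mul, map_mul, map_pow, map_natCast, map_natCast, he]
    simp_rw [map_mul, he, sum_eq_card_mul_blockCoeff]
    have h2 := congrFun (conv_blockCoeff_self (𝒪 : Set (Cfsg.IrrCharacter G))) x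
    unfold Cfsg.Agent.Lib.Helper78_Osima.conv at h2
    set bc := Cfsg.blockCoeff (𝒪 : Set (Cfsg.IrrCharacter G)) with hbc
    calc ∑ y, (p : ℂ) ^ N * ((Nat.card G : ℂ) * bc y) *
          ((p : ℂ) ^ N * ((Nat.card G : ℂ) * bc (y⁻¹ * x)))
        = ((p : ℂ) ^ N * (Nat.card G : ℂ)) ^ 2 * ∑ y, bc y * bc (y⁻¹ * x) := by
          rw [Finset.mul_sum]
          refine Finset.sum_congr rfl fun y _ => ?_
          ring
      _ = _ := by rw [h2]; ring
  · have h2 := he 1
    rw [h1, map_zero, inv_one] at h2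
    have h3 : ∑ ψ ∈ 𝒪, (ψ : G → ℂ) 1 * (ψ : G → ℂ) 1 ≠ 0 := by
      choose n hn0 hn using fun ψ : Cfsg.IrrCharacter G =>
        Cfsg.Agent.Lib.Helper80_CharBasic.irr_apply_one ψ
      simp_rw [hn]
      have : (∑ ψ ∈ 𝒪, ((n ψ : ℕ) : ℂ) * (n ψ : ℂ)) = ((∑ ψ ∈ 𝒪, n ψ * n ψ : ℕ) : ℂ) := by
        push_cast
        rfl
      rw [this, Nat.cast_ne_zero]
      have : 0 < ∑ ψ ∈ 𝒪, n ψ * n ψ :=
        Finset.sum_pos (fun ψ _ => Nat.mul_pos (hn0 ψ) (hn0 ψ)) h𝒪
      omega
    exact (mul_ne_zero (pow_ne_zero N hp0) h3) h2.symm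

/-! ### The constituents of a lattice on which the idempotent acts as a scalar -/

/-- If the integral multiple of the idempotent of `𝒪` acts on a lattice as the scalar
`p ^ N * |G|`, all constituents of the lattice lie in `𝒪`. -/
theorem classInner_eq_zero_of_opOf {p : ℕ} [Fact p.Prime] {G : Type u} [Group G] [Fintype G]
    (j : ℚ_[p] →+* ℂ) (𝒪 : Finset (Cfsg.IrrCharacter G)) (N : ℕ) (e : G → ℤ_[p])
    (he : ∀ y : G, jInt j (e y) = (p : ℂ) ^ N * ∑ ψ ∈ 𝒪, (ψ : G → ℂ) 1 * (ψ : G → ℂ) y⁻¹)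
    {L : Type*} [AddCommGroup L] [Module ℤ_[p] L] [Module.Free ℤ_[p] L] [Module.Finite ℤ_[p] L]
    (ρ : Representation ℤ_[p] G L)
    (hρ : opOf ρ e = ((p : ℤ_[p]) ^ N * (Nat.card G : ℤ_[p])) • (1 : Module.End ℤ_[p] L))
    (ψ : Cfsg.IrrCharacter G) (hψ : ψ ∉ 𝒪) :
    Cfsg.classInner (latChar j ρ) (ψ : G → ℂ) = 0 := by
  classical
  have hp0 : (p : ℂ) ≠ 0 := by exact_mod_cast (Fact.out : p.Prime).ne_zero
  have hG0 : (Nat.card G : ℂ) ≠ 0 := by exact_mod_cast (Nat.card_pos (α := G)).ne'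
  set χ := latChar j ρ with hχdef
  have hχ : Cfsg.IsCharacter G χ := isCharacter_latChar j ρ
  set n := Module.finrank ℤ_[p] L with hn
  -- the trace identity
  have h1 : ∑ y, jInt j (e y) * χ y = (p : ℂ) ^ N * (Nat.card G : ℂ) * (n : ℂ) := by
    have := congrArg (fun T => jInt j (LinearMap.trace ℤ_[p] L T)) hρ
    simp only [trace_opOf, map_sum, map_mul, map_smul, LinearMap.trace_one, smul_eq_mul, map_pow,
      map_natCast] at this
    exact this
  -- degree
  have h2 : χ 1 = (n : ℂ) := by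
    rw [hχdef, latChar_apply, map_one, LinearMap.trace_one, map_natCast]
  obtain ⟨m, hm, hsum⟩ := Cfsg.Agent.Lib.Helper75_CharArith.exists_multiplicities hχ
  choose d hd0 hd using fun ψ : Cfsg.IrrCharacter G =>
    Cfsg.Agent.Lib.Helper80_CharBasic.irr_apply_one ψ
  -- first expression of n
  have h3 : ∑ ψ ∈ 𝒪, (d ψ : ℂ) * (m ψ : ℂ) = (n : ℂ) := by
    have h4 : ∑ y, jInt j (e y) * χ y =
        (p : ℂ) ^ N * (Nat.card G : ℂ) * ∑ ψ ∈ 𝒪, (d ψ : ℂ) * (m ψ : ℂ) := by
      simp_rw [he, Finset.mul_sum, Finset.sum_mul]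
      rw [Finset.sum_comm]
      refine Finset.sum_congr rfl fun ψ _ => ?_
      rw [← hm ψ]
      unfold Cfsg.classInner
      rw [Finset.mul_sum, Finset.mul_sum, Finset.mul_sum]
      refine Finset.sum_congr rfl fun y _ => ?_
      rw [Cfsg.Agent.Lib.Helper80_CharBasic.irr_inv, hd]
      field_simp
    rw [h4] at h1
    exact mul_left_cancel₀ (mul_ne_zero (pow_ne_zero N hp0) hG0) h1
  -- second expression of n
  have h5 : ∑ ψ : Cfsg.IrrCharacter G, (d ψ : ℂ) * (m ψ : ℂ) = (n : ℂ) := by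
    rw [← h2]
    conv_rhs => rw [hsum]
    rw [Finset.sum_apply]
    refine Finset.sum_congr rfl fun ψ _ => ?_
    rw [Pi.smul_apply, hd, smul_eq_mul, mul_comm]
  have h6 : ∑ ψ ∈ 𝒪, d ψ * m ψ = ∑ ψ : Cfsg.IrrCharacter G, d ψ * m ψ := by
    have : ((∑ ψ ∈ 𝒪, d ψ * m ψ : ℕ) : ℂ) = ((∑ ψ : Cfsg.IrrCharacter G, d ψ * m ψ : ℕ) : ℂ) := by
      push_cast
      rw [h3, h5]
    exact_mod_cast this
  have h7 : ∑ ψ ∈ Finset.univ \ 𝒪, d ψ * m ψ = 0 := by
    have := Finset.sum_sdiff (Finset.subset_univ 𝒪) (f := fun ψ => d ψ * m ψ)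
    omega
  have h8 : d ψ * m ψ = 0 :=
    (Finset.sum_eq_zero_iff.mp h7) ψ (Finset.mem_sdiff.mpr ⟨Finset.mem_univ _, hψ⟩)
  have h9 : m ψ = 0 := by
    rcases Nat.mul_eq_zero.mp h8 with h | h
    · exact absurd h (hd0 ψ).ne'
    · exact h
  rw [hm ψ, h9, Nat.cast_zero]

/-! ### D5 -/

/-- D5: if the central idempotent of a nonempty set `𝒪` of irreducible characters has coefficients in
`j(ℚ_p)`, there is a `ℚ_p`-irreducible lattice all of whose constituents lie in `𝒪`. -/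
theorem exists_qirred_lattice {p : ℕ} [Fact p.Prime] {G : Type u} [Group G] [Fintype G]
    (j : ℚ_[p] →+* ℂ) (𝒪 : Finset (Cfsg.IrrCharacter G)) (h𝒪 : 𝒪.Nonempty)
    (hK : ∀ g : G, ∑ ψ ∈ 𝒪, (ψ : G → ℂ) 1 * (ψ : G → ℂ) g ∈ j.range) :
    ∃ (L : Type u) (_ : AddCommGroup L) (_ : Module ℤ_[p] L) (_ : Module.Free ℤ_[p] L)
      (_ : Module.Finite ℤ_[p] L) (ρ : Representation ℤ_[p] G L),
      IsQIrred ρ ∧ Module.finrank ℤ_[p] L ≠ 0 ∧
        ∀ ψ : Cfsg.IrrCharacter G, ψ ∉ 𝒪 → Cfsg.classInner (latChar j ρ) (ψ : G → ℂ) = 0 := by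
  obtain ⟨N, e, he⟩ := exists_integral_coeff j 𝒪 hK
  obtain ⟨hcl, hconv, he1⟩ := coeff_facts j 𝒪 h𝒪 N e he
  set c : ℤ_[p] := (p : ℤ_[p]) ^ N * (Nat.card G : ℤ_[p]) with hc
  have hne : eigenSub (regRep ℤ_[p] G) e c ≠ ⊥ := by
    intro h
    have : e ∈ eigenSub (regRep ℤ_[p] G) e c := by
      rw [mem_eigenSub]
      funext x
      rw [opOf_regRep_apply, hconv]
      rfl
    rw [h, Submodule.mem_bot] at this
    exact he1 (congrFun this 1)
  obtain ⟨L, hL1, hL2, hL3, hL4⟩ :=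
    exists_min_stable (regRep ℤ_[p] G) _ (eigenSub_stable (regRep ℤ_[p] G) e hcl c) hne
  refine ⟨L, inferInstance, inferInstance, inferInstance, inferInstance,
    subRep (regRep ℤ_[p] G) L hL2, isQIrred_subRep (regRep ℤ_[p] G) L hL2 hL4, ?_, ?_⟩
  · rw [Ne, Submodule.finrank_eq_zero]
    exact hL3
  · exact classInner_eq_zero_of_opOf j 𝒪 N e he _
      (opOf_subRep_eq_smul (regRep ℤ_[p] G) e c L hL2 hL1)

end Cfsg.Agent.Lib.Helper17_LatChar
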