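import Mathlib

/-!
# An embedding of `ℚ_[p]` into `ℂ`

(helper57's sub-lemma D2 for the S0960/S4441 project.)  The algebraic closure of `ℚ_[p]` is an
algebraically closed field of characteristic zero and cardinality continuum, hence is isomorphic to
`ℂ`; composing with the canonical inclusion gives a ring homomorphism `ℚ_[p] →+* ℂ`.
-/

set_option autoImplicit false

namespace Cfsg.Agent.Lib.Helper17_PadicEmbed

open Cardinal

/-- `ℚ_[p]` has at most continuum many elements: it is a quotient of a set of sequences of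
rationals. -/
theorem mk_padic_le (p : ℕ) [Fact p.Prime] : #ℚ_[p] ≤ 𝔠 := by
  have h1 : #ℚ_[p] ≤ #(CauSeq ℚ (padicNorm p)) :=
    Cardinal.mk_le_of_surjective (f := (Quotient.mk'' : CauSeq ℚ (padicNorm p) → ℚ_[p]))
      Quotient.mk''_surjective
  have h2 : #(CauSeq ℚ (padicNorm p)) ≤ #(ℕ → ℚ) :=
    Cardinal.mk_le_of_injective (f := fun s : CauSeq ℚ (padicNorm p) => (s : ℕ → ℚ))
      (fun a b h => CauSeq.ext (fun i => congrFun h i))
  have h3 : #(ℕ → ℚ) = 𝔠 := by
    rw [← Cardinal.power_def, Cardinal.mk_nat, Cardinal.mkRat, Cardinal.aleph0_power_aleph0]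
  exact h1.trans (h2.trans h3.le)

/-- `ℚ_[p]` has exactly continuum many elements. -/
theorem mk_padic (p : ℕ) [Fact p.Prime] : #ℚ_[p] = 𝔠 :=
  le_antisymm (mk_padic_le p) (continuum_le_cardinal_of_nontriviallyNormedField ℚ_[p])

/-- The algebraic closure of `ℚ_[p]` has continuum many elements. -/
theorem mk_algebraicClosure_padic (p : ℕ) [Fact p.Prime] : #(AlgebraicClosure ℚ_[p]) = 𝔠 := by
  apply le_antisymm
  · have h := Algebra.IsAlgebraic.cardinalMk_le_max ℚ_[p] (AlgebraicClosure ℚ_[p])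
    rw [mk_padic] at h
    exact h.trans (max_le le_rfl Cardinal.aleph0_le_continuum)
  · rw [← mk_padic p]
    exact Cardinal.mk_le_of_injective (algebraMap ℚ_[p] (AlgebraicClosure ℚ_[p])).injective

/-- The algebraic closure of `ℚ_[p]` is isomorphic, as a ring, to `ℂ`. -/
theorem nonempty_algebraicClosure_padic_ringEquiv (p : ℕ) [Fact p.Prime] :
    Nonempty (AlgebraicClosure ℚ_[p] ≃+* ℂ) := by
  have : CharZero (AlgebraicClosure ℚ_[p]) :=
    charZero_of_injective_algebraMap (algebraMap ℚ_[p] (AlgebraicClosure ℚ_[p])).injective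
  apply IsAlgClosed.ringEquiv_of_equiv_of_charZero
  · rw [mk_algebraicClosure_padic]
    exact Cardinal.aleph0_lt_continuum
  · rw [← Cardinal.eq, mk_algebraicClosure_padic, Cardinal.mk_complex]

/-- **D2.**  There is a ring homomorphism from `ℚ_[p]` into `ℂ`. -/
theorem exists_padic_ringHom (p : ℕ) [Fact p.Prime] : Nonempty (ℚ_[p] →+* ℂ) := by
  obtain ⟨e⟩ := nonempty_algebraicClosure_padic_ringEquiv p
  exact ⟨(e : AlgebraicClosure ℚ_[p] →+* ℂ).comp (algebraMap ℚ_[p] (AlgebraicClosure ℚ_[p]))⟩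

end Cfsg.Agent.Lib.Helper17_PadicEmbed
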