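import Mathlib

/-!
# Endomorphisms of `ℚ_p`-irreducible `ℤ_p G`-lattices are local modulo `p`

(helper57's sub-lemma D3 for the S0960/S4441 project.)  `L` is a finite free `ℤ_[p]`-module with a
representation `ρ` of a finite group `G` such that every `G`-stable sublattice is `0` or of full
rank.  Then every `G`-endomorphism `e` of `L` is invertible or satisfies `e ^ k = p • f`
(`unit_or_nilpotent_mod_p`).

Proof: a nonzero `e` is injective; if no `e ^ k L` lies in `pL`, compactness of `ℤ_p^n` gives a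
nonzero element of `N = ⋂ e^k L`, which is `G`-stable, hence of full rank, and `e` is bijective on
`N`; comparing determinants, `e` is invertible on `L`.
-/

set_option autoImplicit false
set_option linter.unusedSectionVars false

namespace Cfsg.Agent.Lib.Helper17_LatticeLocal

open Module

variable {p : ℕ} [Fact p.Prime] {L : Type*} [AddCommGroup L]
  [Module ℤ_[p] L] [Module.Free ℤ_[p] L] [Module.Finite ℤ_[p] L]

/-- Dividing a linear endomorphism by `p` when all its values are divisible by `p`. -/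
theorem exists_eq_smul_of_forall_mem (h : L →ₗ[ℤ_[p]] L)
    (hh : ∀ x, ∃ z, h x = (p : ℤ_[p]) • z) : ∃ f : L →ₗ[ℤ_[p]] L, h = (p : ℤ_[p]) • f := by
  have hp0 : (p : ℤ_[p]) ≠ 0 := by exact_mod_cast (Fact.out : p.Prime).ne_zero
  let m : L →ₗ[ℤ_[p]] L := (p : ℤ_[p]) • LinearMap.id
  have hm : Function.Injective m := by
    intro x y hxy
    simp only [m, LinearMap.smul_apply, LinearMap.id_coe, id_eq] at hxy
    exact smul_right_injective L hp0 hxy
  have hr : ∀ x, h x ∈ LinearMap.range m := by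
    intro x
    obtain ⟨z, hz⟩ := hh x
    exact ⟨z, by simp [m, hz]⟩
  refine ⟨((LinearEquiv.ofInjective m hm).symm : _ →ₗ[ℤ_[p]] L) ∘ₗ h.codRestrict _ hr, ?_⟩
  ext x
  have key : m ((LinearEquiv.ofInjective m hm).symm ⟨h x, hr x⟩) = h x := by
    have := (LinearEquiv.ofInjective m hm).apply_symm_apply ⟨h x, hr x⟩
    exact congrArg Subtype.val this
  simp only [LinearMap.smul_apply, LinearMap.coe_comp, LinearEquiv.coe_coe, Function.comp_apply]
  have key2 : (p : ℤ_[p]) • ((LinearEquiv.ofInjective m hm).symm ⟨h x, hr x⟩) = h x := key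
  exact key2.symm


/-- In coordinates, divisibility by `p` is the condition that all coordinates have norm `< 1`. -/
theorem exists_eq_smul_iff_coord {n : ℕ} (φ : L ≃ₗ[ℤ_[p]] (Fin n → ℤ_[p])) (y : L) :
    (∃ z, y = (p : ℤ_[p]) • z) ↔ ∀ i, ‖φ y i‖ < 1 := by
  constructor
  · rintro ⟨z, rfl⟩ i
    rw [PadicInt.norm_lt_one_iff_dvd]
    simp only [map_smul, Pi.smul_apply, smul_eq_mul]
    exact dvd_mul_right _ _
  · intro h
    have h' : ∀ i, ∃ c, φ y i = (p : ℤ_[p]) * c := fun i =>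
      (PadicInt.norm_lt_one_iff_dvd _).1 (h i)
    choose c hc using h'
    refine ⟨φ.symm c, ?_⟩
    apply φ.injective
    ext i
    simp [hc i]

/-- Compactness: if no power of `e` has image inside `pL`, then `⋂ e^k L` is not inside `pL`. -/
theorem exists_mem_iInf_range_not_dvd (e : L →ₗ[ℤ_[p]] L)
    (h : ∀ k : ℕ, ∃ x, ¬ ∃ z, (e ^ k) x = (p : ℤ_[p]) • z) :
    ∃ y, (∀ k : ℕ, y ∈ LinearMap.range (e ^ k)) ∧ ¬ ∃ z, y = (p : ℤ_[p]) • z := by
  classical
  let n := finrank ℤ_[p] L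
  let b := Module.finBasis ℤ_[p] L
  let φ : L ≃ₗ[ℤ_[p]] (Fin n → ℤ_[p]) := b.equivFun
  let E : ℕ → ((Fin n → ℤ_[p]) →ₗ[ℤ_[p]] (Fin n → ℤ_[p])) := fun k =>
    (φ : L →ₗ[ℤ_[p]] (Fin n → ℤ_[p])) ∘ₗ (e ^ k) ∘ₗ (φ.symm : (Fin n → ℤ_[p]) →ₗ[ℤ_[p]] L)
  let C : Set (Fin n → ℤ_[p]) := {v | ¬ ∀ i, ‖v i‖ < 1}
  have hCclosed : IsClosed C := by
    have hopen : IsOpen {v : Fin n → ℤ_[p] | ∀ i, ‖v i‖ < 1} := by
      have : {v : Fin n → ℤ_[p] | ∀ i, ‖v i‖ < 1} =
          Set.pi Set.univ (fun _ : Fin n => Metric.ball (0 : ℤ_[p]) 1) := by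
        ext v
        simp [Set.mem_pi, Metric.mem_ball, dist_eq_norm]
      rw [this]
      exact isOpen_set_pi Set.finite_univ (fun _ _ => Metric.isOpen_ball)
    exact hopen.isClosed_compl
  have hEcont : ∀ k, Continuous (E k) := fun k => LinearMap.continuous_on_pi (E k)
  have hRcompact : ∀ k, IsCompact (Set.range (E k)) := fun k =>
    isCompact_range (hEcont k)
  let t : ℕ → Set (Fin n → ℤ_[p]) := fun k => Set.range (E k) ∩ C
  have htd : ∀ k, t (k + 1) ⊆ t k := by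
    rintro k v ⟨⟨w, rfl⟩, hvC⟩
    refine ⟨⟨φ (e (φ.symm w)), ?_⟩, hvC⟩
    simp only [E, LinearMap.coe_comp, LinearEquiv.coe_coe, Function.comp_apply,
      LinearEquiv.symm_apply_apply]
    rw [pow_succ]
    rfl
  have htn : ∀ k, (t k).Nonempty := by
    intro k
    obtain ⟨x, hx⟩ := h k
    refine ⟨φ ((e ^ k) x), ⟨φ x, by simp [E]⟩, ?_⟩
    intro hlt
    exact hx ((exists_eq_smul_iff_coord φ _).2 hlt)
  have ht0 : IsCompact (t 0) := (hRcompact 0).inter_right hCclosed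
  have htcl : ∀ k, IsClosed (t k) := fun k => (hRcompact k).isClosed.inter hCclosed
  obtain ⟨v, hv⟩ := IsCompact.nonempty_iInter_of_sequence_nonempty_isCompact_isClosed t htd htn
    ht0 htcl
  rw [Set.mem_iInter] at hv
  refine ⟨φ.symm v, ?_, ?_⟩
  · intro k
    obtain ⟨⟨w, hw⟩, -⟩ := hv k
    refine ⟨φ.symm w, ?_⟩
    apply φ.injective
    simpa [E] using hw
  · intro hz
    have := (exists_eq_smul_iff_coord φ _).1 hz
    simp only [LinearEquiv.apply_symm_apply] at this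
    exact (hv 0).2 this



/-- A full-rank sublattice on which an injective endomorphism is bijective forces the endomorphism
to be invertible. -/
theorem isUnit_of_bijOn_fullRank (e : L →ₗ[ℤ_[p]] L) (he : Function.Injective e)
    (N : Submodule ℤ_[p] L) (hrank : finrank ℤ_[p] N = finrank ℤ_[p] L)
    (hmap : ∀ y ∈ N, e y ∈ N) (hsurj : ∀ y ∈ N, ∃ y' ∈ N, e y' = y) : IsUnit e := by
  -- the restriction of `e` to `N`
  let eN : N →ₗ[ℤ_[p]] N := e.restrict hmap
  have heN : Function.Bijective eN := by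
    constructor
    · intro a b hab
      apply Subtype.ext
      apply he
      exact congrArg Subtype.val hab
    · intro y
      obtain ⟨y', hy', hyy⟩ := hsurj y y.2
      exact ⟨⟨y', hy'⟩, Subtype.ext hyy⟩
  let eN' : N ≃ₗ[ℤ_[p]] N := LinearEquiv.ofBijective eN heN
  let φ : N ≃ₗ[ℤ_[p]] L := LinearEquiv.ofFinrankEq N L hrank
  let P : L →ₗ[ℤ_[p]] L := N.subtype ∘ₗ (φ.symm : L →ₗ[ℤ_[p]] N)
  let e'' : L ≃ₗ[ℤ_[p]] L := φ.symm.trans (eN'.trans φ)
  let e' : L →ₗ[ℤ_[p]] L := (e'' : L →ₗ[ℤ_[p]] L)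
  have hP : Function.Injective P := by
    intro x y hxy
    have : (φ.symm x : L) = (φ.symm y : L) := hxy
    exact φ.symm.injective (Subtype.ext this)
  have hrel : e ∘ₗ P = P ∘ₗ e' := by
    ext x
    simp [P, e', e'', eN', eN, LinearMap.restrict_apply]
  have hdetP : LinearMap.det P ≠ 0 := by
    intro h0
    have := (LinearMap.det_eq_zero_iff_ker_ne_bot (f := P)).1 h0
    exact this (LinearMap.ker_eq_bot.2 hP)
  have hdet : LinearMap.det e * LinearMap.det P = LinearMap.det P * LinearMap.det e' := by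
    rw [← LinearMap.det_comp, ← LinearMap.det_comp, hrel]
  have hdet' : LinearMap.det e = LinearMap.det e' := by
    have : LinearMap.det P * LinearMap.det e = LinearMap.det P * LinearMap.det e' := by
      rw [← hdet, mul_comm]
    exact mul_left_cancel₀ hdetP this
  have hunit' : IsUnit (LinearMap.det e') := LinearEquiv.isUnit_det' e''
  rw [LinearMap.isUnit_iff_isUnit_det, hdet']
  exact hunit'





variable {G : Type*} [Group G] [Finite G] (ρ : Representation ℤ_[p] G L)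

/-- `ℚ_p ⊗ L` is irreducible: every `G`-stable sublattice is zero or of full rank. -/
def IsQIrred : Prop := ∀ L₁ : Submodule ℤ_[p] L, (∀ g, L₁.map (ρ g) ≤ L₁) →
    L₁ = ⊥ ∨ Module.finrank ℤ_[p] L₁ = Module.finrank ℤ_[p] L

/-- `e` commutes with the action of `G`. -/
def Comm (e : L →ₗ[ℤ_[p]] L) : Prop := ∀ g, e ∘ₗ ρ g = ρ g ∘ₗ e

theorem Comm.apply {ρ : Representation ℤ_[p] G L} {e : L →ₗ[ℤ_[p]] L} (he : Comm ρ e) (g : G)
    (x : L) : e (ρ g x) = ρ g (e x) := by
  have := congrArg (fun f : L →ₗ[ℤ_[p]] L => f x) (he g)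
  simpa using this

theorem comm_of_apply {ρ : Representation ℤ_[p] G L} {e : L →ₗ[ℤ_[p]] L}
    (h : ∀ g x, e (ρ g x) = ρ g (e x)) : Comm ρ e := by
  intro g
  ext x
  simpa using h g x

theorem Comm.pow {ρ : Representation ℤ_[p] G L} {e : L →ₗ[ℤ_[p]] L} (he : Comm ρ e) (k : ℕ) :
    Comm ρ (e ^ k) := by
  induction k with
  | zero => exact comm_of_apply (fun g x => by simp)
  | succ k ih =>
    apply comm_of_apply
    intro g x
    rw [pow_succ]
    simp only [Module.End.mul_apply]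
    rw [he.apply, ih.apply]

theorem comm_zero : Comm ρ (0 : L →ₗ[ℤ_[p]] L) := comm_of_apply (fun g x => by simp)

/-- If `p • f` commutes with `G` then so does `f`. -/
theorem comm_of_smul {f : L →ₗ[ℤ_[p]] L} (h : Comm ρ ((p : ℤ_[p]) • f)) : Comm ρ f := by
  have hp0 : (p : ℤ_[p]) ≠ 0 := by exact_mod_cast (Fact.out : p.Prime).ne_zero
  apply comm_of_apply
  intro g x
  have := h.apply g x
  simp only [LinearMap.smul_apply, map_smul] at this
  exact smul_right_injective L hp0 this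

/-- The inverse of an invertible commuting endomorphism commutes. -/
theorem comm_inv {e : L →ₗ[ℤ_[p]] L} (he : Comm ρ e) (u : (L →ₗ[ℤ_[p]] L)ˣ) (hu : (u : L →ₗ[ℤ_[p]] L) = e) :
    Comm ρ ((u⁻¹ : (L →ₗ[ℤ_[p]] L)ˣ) : L →ₗ[ℤ_[p]] L) := by
  apply comm_of_apply
  intro g x
  have h1 : ∀ y, ((u⁻¹ : (L →ₗ[ℤ_[p]] L)ˣ) : L →ₗ[ℤ_[p]] L) (e y) = y := by
    intro y
    have : ((u⁻¹ : (L →ₗ[ℤ_[p]] L)ˣ) : L →ₗ[ℤ_[p]] L) * e = 1 := by
      rw [← hu]; exact Units.inv_mul u
    have := congrArg (fun f : L →ₗ[ℤ_[p]] L => f y) this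
    simpa using this
  have h2 : ∀ y, e (((u⁻¹ : (L →ₗ[ℤ_[p]] L)ˣ) : L →ₗ[ℤ_[p]] L) y) = y := by
    intro y
    have : e * ((u⁻¹ : (L →ₗ[ℤ_[p]] L)ˣ) : L →ₗ[ℤ_[p]] L) = 1 := by
      rw [← hu]; exact Units.mul_inv u
    have := congrArg (fun f : L →ₗ[ℤ_[p]] L => f y) this
    simpa using this
  -- apply `u⁻¹` to `e (ρ g (u⁻¹ x)) = ρ g (e (u⁻¹ x)) = ρ g x`
  have h3 := he.apply g (((u⁻¹ : (L →ₗ[ℤ_[p]] L)ˣ) : L →ₗ[ℤ_[p]] L) x)
  rw [h2] at h3
  rw [← h3, h1]

/-- A nonzero commuting endomorphism of a `ℚ_p`-irreducible lattice is injective. -/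
theorem injective_of_ne_zero (hirr : IsQIrred ρ) {e : L →ₗ[ℤ_[p]] L} (he : Comm ρ e)
    (h0 : e ≠ 0) : Function.Injective e := by
  rw [← LinearMap.ker_eq_bot]
  have hstab : ∀ g, (LinearMap.ker e).map (ρ g) ≤ LinearMap.ker e := by
    rintro g _ ⟨x, hx, rfl⟩
    have hx' : e x = 0 := hx
    show e (ρ g x) = 0
    rw [he.apply, hx', map_zero]
  rcases hirr _ hstab with h | h
  · exact h
  · exfalso
    have hrn := Submodule.finrank_quotient_add_finrank (LinearMap.ker e)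
    rw [h] at hrn
    have hq0 : finrank ℤ_[p] (L ⧸ LinearMap.ker e) = 0 := by omega
    have hr0 : finrank ℤ_[p] (LinearMap.range e) = 0 := by
      rw [← (LinearMap.quotKerEquivRange e).finrank_eq]
      exact hq0
    have hbot : LinearMap.range e = ⊥ := Submodule.finrank_eq_zero.1 hr0
    exact h0 (LinearMap.range_eq_bot.1 hbot)

/-- **D3 (LOC).**  For a `ℚ_p`-irreducible `ℤ_p G`-lattice `L`, every `G`-endomorphism of `L` is
invertible (in particular a unit modulo `p`) or nilpotent modulo `p`. -/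
theorem unit_or_nilpotent_mod_p (hirr : IsQIrred ρ) (e : L →ₗ[ℤ_[p]] L) (he : Comm ρ e) :
    (∃ e' f, Comm ρ e' ∧ Comm ρ f ∧ e * e' = 1 + (p : ℤ_[p]) • f) ∨
    (∃ (k : ℕ) (f : L →ₗ[ℤ_[p]] L), Comm ρ f ∧ e ^ k = (p : ℤ_[p]) • f) := by
  by_cases hA : ∃ k : ℕ, ∀ x, ∃ z, (e ^ k) x = (p : ℤ_[p]) • z
  · right
    obtain ⟨k, hk⟩ := hA
    obtain ⟨f, hf⟩ := exists_eq_smul_of_forall_mem (e ^ k) hk
    refine ⟨k, f, ?_, hf⟩
    apply comm_of_smul
    rw [← hf]
    exact he.pow k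
  · left
    have hB : ∀ k : ℕ, ∃ x, ¬ ∃ z, (e ^ k) x = (p : ℤ_[p]) • z := by
      intro k
      by_contra hk
      exact hA ⟨k, fun x => by
        by_contra hx
        exact hk ⟨x, hx⟩⟩
    obtain ⟨y, hy, hyp⟩ := exists_mem_iInf_range_not_dvd e hB
    have he0 : e ≠ 0 := by
      rintro rfl
      obtain ⟨x, hx⟩ := hB 1
      exact hx ⟨0, by simp⟩
    have hinj := injective_of_ne_zero ρ hirr he he0
    let N : Submodule ℤ_[p] L := ⨅ k : ℕ, LinearMap.range (e ^ k)
    have hyN : y ∈ N := (Submodule.mem_iInf _).2 hy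
    have hNne : N ≠ ⊥ := by
      intro h
      have hy0 : y = 0 := by
        rw [h] at hyN
        simpa using hyN
      exact hyp ⟨0, by simp [hy0]⟩
    have hNstab : ∀ g, N.map (ρ g) ≤ N := by
      rintro g _ ⟨x, hx, rfl⟩
      have hx' := (Submodule.mem_iInf _).1 hx
      refine (Submodule.mem_iInf _).2 (fun k => ?_)
      obtain ⟨w, rfl⟩ := hx' k
      exact ⟨ρ g w, (he.pow k).apply g w⟩
    have hrank := (hirr N hNstab).resolve_left hNne
    have hmap : ∀ y ∈ N, e y ∈ N := by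
      intro y hy
      have hy' := (Submodule.mem_iInf _).1 hy
      refine (Submodule.mem_iInf _).2 (fun k => ?_)
      obtain ⟨w, rfl⟩ := hy' k
      refine ⟨e w, ?_⟩
      rw [← Module.End.mul_apply, ← pow_succ, pow_succ', Module.End.mul_apply]
    have hsurj : ∀ y ∈ N, ∃ y' ∈ N, e y' = y := by
      intro y hy
      have hy' := (Submodule.mem_iInf _).1 hy
      obtain ⟨w1, hw1⟩ := hy' 1
      have hw1' : e w1 = y := by simpa using hw1
      refine ⟨w1, (Submodule.mem_iInf _).2 (fun k => ?_), hw1'⟩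
      obtain ⟨w, hw⟩ := hy' (k + 1)
      refine ⟨w, hinj ?_⟩
      rw [← Module.End.mul_apply, ← pow_succ', hw, hw1']
    obtain ⟨u, hu⟩ := isUnit_of_bijOn_fullRank e hinj N hrank hmap hsurj
    refine ⟨((u⁻¹ : (L →ₗ[ℤ_[p]] L)ˣ) : L →ₗ[ℤ_[p]] L), 0, comm_inv ρ he u hu, comm_zero ρ, ?_⟩
    rw [← hu]
    simp

end Cfsg.Agent.Lib.Helper17_LatticeLocal
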