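import Mathlib

/-!
# Conjugation action on endomorphisms, `P`-level Tate ideals, orbit sums (helper57)

Part of the S0960/S4441 project (lattice lemma (CT)).
-/

set_option autoImplicit false
set_option linter.unusedSectionVars false

namespace Cfsg.Agent.Lib.Helper57_LatTr

open Finset

variable {R : Type*} [CommRing R] {L : Type*} [AddCommGroup L] [Module R L]
variable {G : Type*} [Group G] (ρ : Representation R G L)

/-! ## Conjugation -/

/-- Conjugation of an endomorphism by a group element. -/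
def cj (g : G) (φ : Module.End R L) : Module.End R L := ρ g * φ * ρ g⁻¹

theorem cj_apply (g : G) (φ : Module.End R L) (l : L) : cj ρ g φ l = ρ g (φ (ρ g⁻¹ l)) := rfl

@[simp] theorem cj_one_left (φ : Module.End R L) : cj ρ 1 φ = φ := by
  simp [cj]

theorem cj_mul_left (g h : G) (φ : Module.End R L) : cj ρ (g * h) φ = cj ρ g (cj ρ h φ) := by
  simp only [cj, map_mul, mul_inv_rev, mul_assoc]

theorem rho_mul_inv (g : G) : ρ g * ρ g⁻¹ = 1 := by
  rw [← map_mul, mul_inv_cancel, map_one]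

theorem rho_inv_mul (g : G) : ρ g⁻¹ * ρ g = 1 := by
  rw [← map_mul, inv_mul_cancel, map_one]

@[simp] theorem cj_zero (g : G) : cj ρ g 0 = 0 := by simp [cj]

@[simp] theorem cj_one (g : G) : cj ρ g 1 = 1 := by
  simp [cj, rho_mul_inv]

theorem cj_add (g : G) (φ ψ : Module.End R L) : cj ρ g (φ + ψ) = cj ρ g φ + cj ρ g ψ := by
  simp [cj, mul_add, add_mul]

theorem cj_sub (g : G) (φ ψ : Module.End R L) : cj ρ g (φ - ψ) = cj ρ g φ - cj ρ g ψ := by
  simp [cj, mul_sub, sub_mul]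

theorem cj_neg (g : G) (φ : Module.End R L) : cj ρ g (-φ) = -cj ρ g φ := by
  simp [cj]

theorem cj_smul (g : G) (r : R) (φ : Module.End R L) : cj ρ g (r • φ) = r • cj ρ g φ := by
  simp [cj]

theorem cj_mul (g : G) (φ ψ : Module.End R L) : cj ρ g (φ * ψ) = cj ρ g φ * cj ρ g ψ := by
  have h := rho_inv_mul ρ g
  calc cj ρ g (φ * ψ) = ρ g * φ * 1 * ψ * ρ g⁻¹ := by simp [cj, mul_assoc]
    _ = ρ g * φ * (ρ g⁻¹ * ρ g) * ψ * ρ g⁻¹ := by rw [h]
    _ = cj ρ g φ * cj ρ g ψ := by simp only [cj, mul_assoc]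

theorem cj_pow (g : G) (φ : Module.End R L) (k : ℕ) : cj ρ g (φ ^ k) = cj ρ g φ ^ k := by
  induction k with
  | zero => simp
  | succ k ih => rw [pow_succ, cj_mul, ih, pow_succ]

theorem cj_sum {ι : Type*} (s : Finset ι) (g : G) (f : ι → Module.End R L) :
    cj ρ g (∑ i ∈ s, f i) = ∑ i ∈ s, cj ρ g (f i) := by
  simp [cj, Finset.mul_sum, Finset.sum_mul]

theorem cj_nsmul (g : G) (n : ℕ) (φ : Module.End R L) : cj ρ g (n • φ) = n • cj ρ g φ := by
  induction n with
  | zero => simp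
  | succ n ih => rw [succ_nsmul, cj_add, ih, succ_nsmul]

theorem cj_rho (g h : G) : cj ρ g (ρ h) = ρ (g * h * g⁻¹) := by
  simp [cj, map_mul]

theorem cj_eq_self_iff (g : G) (φ : Module.End R L) : cj ρ g φ = φ ↔ Commute φ (ρ g) := by
  constructor
  · intro h
    have : ρ g * φ * ρ g⁻¹ * ρ g = φ * ρ g := by
      have h' : ρ g * φ * ρ g⁻¹ = φ := h
      rw [h']
    rw [mul_assoc, rho_inv_mul, mul_one] at this
    exact this.symm
  · intro h
    have h' : φ * ρ g = ρ g * φ := h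
    show ρ g * φ * ρ g⁻¹ = φ
    rw [← h', mul_assoc, rho_mul_inv, mul_one]


/-! ## The norm operator, fixed vectors, augmentation submodule -/

section plevel

variable (P : Subgroup G) [Fintype P]

/-- The norm operator of `P`. -/
def nuP : Module.End R L := ∑ h : P, ρ (h : G)

/-- `l` is fixed by `P`. -/
def IsFix (l : L) : Prop := ∀ h ∈ P, ρ h l = l

/-- The augmentation submodule `I_P L`. -/
def augS : Submodule R L := Submodule.span R {y | ∃ h ∈ P, ∃ m : L, y = ρ h m - m}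

/-- `φ` commutes with `P`. -/
def CommP (φ : Module.End R L) : Prop := ∀ h ∈ P, Commute φ (ρ h)

/-- `ψ` induces zero on `H^0` and `H^{-1}`. -/
def InKP (ψ : Module.End R L) : Prop :=
  (∀ l, IsFix ρ P l → ∃ m, ψ l = nuP ρ P m) ∧ (∀ l, nuP ρ P l = 0 → ψ l ∈ augS ρ P)

/-- `ψ` preserves fixed vectors, `range ν`, `ker ν` and the augmentation submodule. -/
def InAP (ψ : Module.End R L) : Prop :=
  (∀ l, IsFix ρ P l → IsFix ρ P (ψ l)) ∧ (∀ m, ∃ m', ψ (nuP ρ P m) = nuP ρ P m') ∧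
    (∀ l, nuP ρ P l = 0 → nuP ρ P (ψ l) = 0) ∧ (∀ y ∈ augS ρ P, ψ y ∈ augS ρ P)

theorem nuP_apply (l : L) : nuP ρ P l = ∑ h : P, ρ (h : G) l := by
  simp [nuP, LinearMap.sum_apply]

theorem rho_mul_nuP {h : G} (hh : h ∈ P) : ρ h * nuP ρ P = nuP ρ P := by
  unfold nuP
  rw [Finset.mul_sum]
  refine Fintype.sum_equiv (Equiv.mulLeft (⟨h, hh⟩ : P)) _ _ (fun k => ?_)
  simp [map_mul]

theorem nuP_mul_rho {h : G} (hh : h ∈ P) : nuP ρ P * ρ h = nuP ρ P := by
  unfold nuP
  rw [Finset.sum_mul]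
  refine Fintype.sum_equiv (Equiv.mulRight (⟨h, hh⟩ : P)) _ _ (fun k => ?_)
  simp [map_mul]

theorem isFix_nuP (m : L) : IsFix ρ P (nuP ρ P m) := by
  intro h hh
  have := rho_mul_nuP ρ P hh
  calc ρ h (nuP ρ P m) = (ρ h * nuP ρ P) m := rfl
    _ = nuP ρ P m := by rw [this]

theorem nuP_of_isFix {l : L} (hl : IsFix ρ P l) : nuP ρ P l = (Fintype.card P : R) • l := by
  rw [nuP_apply]
  have : ∀ h : P, ρ (h : G) l = l := fun h => hl h h.2
  simp [this, Finset.sum_const, Finset.card_univ, Nat.cast_smul_eq_nsmul]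

theorem nuP_augS {y : L} (hy : y ∈ augS ρ P) : nuP ρ P y = 0 := by
  unfold augS at hy
  induction hy using Submodule.span_induction with
  | mem y hy =>
    obtain ⟨h, hh, m, rfl⟩ := hy
    rw [map_sub]
    have := nuP_mul_rho ρ P hh
    have h2 : nuP ρ P (ρ h m) = (nuP ρ P * ρ h) m := rfl
    rw [h2, this, sub_self]
  | zero => simp
  | add x y _ _ hx hy => rw [map_add, hx, hy, add_zero]
  | smul r x _ hx => rw [map_smul, hx, smul_zero]

theorem sub_mem_augS {h : G} (hh : h ∈ P) (m : L) : ρ h m - m ∈ augS ρ P :=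
  Submodule.subset_span ⟨h, hh, m, rfl⟩

theorem card_smul_sub_nuP_mem (m : L) : (Fintype.card P : R) • m - nuP ρ P m ∈ augS ρ P := by
  have : (Fintype.card P : R) • m - nuP ρ P m = ∑ h : P, -(ρ (h : G) m - m) := by
    rw [nuP_apply]
    simp [Finset.sum_sub_distrib, Finset.sum_const, Finset.card_univ, Nat.cast_smul_eq_nsmul]
  rw [this]
  exact Submodule.sum_mem _ (fun h _ => Submodule.neg_mem _ (sub_mem_augS ρ P h.2 m))

/-! ### Closure properties -/

theorem inKP_zero : InKP ρ P 0 :=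
  ⟨fun _ _ => ⟨0, by simp⟩, fun _ _ => by simp⟩

theorem InKP.add {a b : Module.End R L} (ha : InKP ρ P a) (hb : InKP ρ P b) : InKP ρ P (a + b) := by
  refine ⟨fun l hl => ?_, fun l hl => ?_⟩
  · obtain ⟨m, hm⟩ := ha.1 l hl
    obtain ⟨m', hm'⟩ := hb.1 l hl
    exact ⟨m + m', by rw [LinearMap.add_apply, hm, hm', map_add]⟩
  · rw [LinearMap.add_apply]
    exact Submodule.add_mem _ (ha.2 l hl) (hb.2 l hl)

theorem InKP.neg {a : Module.End R L} (ha : InKP ρ P a) : InKP ρ P (-a) := by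
  refine ⟨fun l hl => ?_, fun l hl => ?_⟩
  · obtain ⟨m, hm⟩ := ha.1 l hl
    exact ⟨-m, by rw [LinearMap.neg_apply, hm, map_neg]⟩
  · rw [LinearMap.neg_apply]
    exact Submodule.neg_mem _ (ha.2 l hl)

theorem InKP.sub {a b : Module.End R L} (ha : InKP ρ P a) (hb : InKP ρ P b) : InKP ρ P (a - b) := by
  rw [sub_eq_add_neg]
  exact ha.add ρ P (hb.neg ρ P)

theorem InKP.smul {a : Module.End R L} (ha : InKP ρ P a) (r : R) : InKP ρ P (r • a) := by
  refine ⟨fun l hl => ?_, fun l hl => ?_⟩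
  · obtain ⟨m, hm⟩ := ha.1 l hl
    exact ⟨r • m, by rw [LinearMap.smul_apply, hm, map_smul]⟩
  · rw [LinearMap.smul_apply]
    exact Submodule.smul_mem _ _ (ha.2 l hl)

theorem InKP.sum {ι : Type*} (s : Finset ι) {f : ι → Module.End R L}
    (hf : ∀ i ∈ s, InKP ρ P (f i)) : InKP ρ P (∑ i ∈ s, f i) := by
  classical
  induction s using Finset.induction_on with
  | empty => simpa using inKP_zero ρ P
  | insert a s ha ih =>
    rw [Finset.sum_insert ha]
    exact (hf a (Finset.mem_insert_self a s)).add ρ P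
      (ih (fun i hi => hf i (Finset.mem_insert_of_mem hi)))

theorem InKP.mul_left {a k : Module.End R L} (ha : InAP ρ P a) (hk : InKP ρ P k) :
    InKP ρ P (a * k) := by
  refine ⟨fun l hl => ?_, fun l hl => ?_⟩
  · obtain ⟨m, hm⟩ := hk.1 l hl
    obtain ⟨m', hm'⟩ := ha.2.1 m
    exact ⟨m', by rw [Module.End.mul_apply, hm, hm']⟩
  · rw [Module.End.mul_apply]
    exact ha.2.2.2 _ (hk.2 l hl)

theorem InKP.mul_right {a k : Module.End R L} (hk : InKP ρ P k) (ha : InAP ρ P a) :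
    InKP ρ P (k * a) := by
  refine ⟨fun l hl => ?_, fun l hl => ?_⟩
  · rw [Module.End.mul_apply]
    exact hk.1 _ (ha.1 l hl)
  · rw [Module.End.mul_apply]
    exact hk.2 _ (ha.2.2.1 l hl)

theorem InKP.inAP {k : Module.End R L} (hk : InKP ρ P k) : InAP ρ P k := by
  refine ⟨fun l hl => ?_, fun m => ?_, fun l hl => ?_, fun y hy => ?_⟩
  · obtain ⟨m, hm⟩ := hk.1 l hl
    rw [hm]
    exact isFix_nuP ρ P m
  · exact hk.1 _ (isFix_nuP ρ P m)
  · exact nuP_augS ρ P (hk.2 l hl)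
  · exact hk.2 y (nuP_augS ρ P hy)

theorem commP_nuP {φ : Module.End R L} (hφ : CommP ρ P φ) : Commute φ (nuP ρ P) := by
  unfold nuP
  exact Commute.sum_right _ _ _ (fun h _ => hφ h h.2)

theorem CommP.inAP {φ : Module.End R L} (hφ : CommP ρ P φ) : InAP ρ P φ := by
  have hc : ∀ l, φ (nuP ρ P l) = nuP ρ P (φ l) := fun l => by
    have := commP_nuP ρ P hφ
    calc φ (nuP ρ P l) = (φ * nuP ρ P) l := rfl
      _ = (nuP ρ P * φ) l := by rw [this.eq]
  have hc' : ∀ h ∈ P, ∀ l, φ (ρ h l) = ρ h (φ l) := fun h hh l => by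
    calc φ (ρ h l) = (φ * ρ h) l := rfl
      _ = (ρ h * φ) l := by rw [(hφ h hh).eq]
  refine ⟨fun l hl h hh => ?_, fun m => ⟨φ m, hc m⟩, fun l hl => ?_, fun y hy => ?_⟩
  · rw [← hc' h hh, hl h hh]
  · rw [← hc, hl, map_zero]
  · unfold augS at hy ⊢
    induction hy using Submodule.span_induction with
    | mem y hy =>
      obtain ⟨h, hh, m, rfl⟩ := hy
      rw [map_sub, hc' h hh]
      exact Submodule.subset_span ⟨h, hh, φ m, rfl⟩
    | zero => simp
    | add x y _ _ hx hy => rw [map_add]; exact Submodule.add_mem _ hx hy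
    | smul r x _ hx => rw [map_smul]; exact Submodule.smul_mem _ _ hx

theorem inAP_one : InAP ρ P 1 :=
  ⟨fun _ hl => hl, fun m => ⟨m, rfl⟩, fun _ hl => hl, fun _ hy => hy⟩

theorem InAP.mul {a b : Module.End R L} (ha : InAP ρ P a) (hb : InAP ρ P b) : InAP ρ P (a * b) := by
  refine ⟨fun l hl => ha.1 _ (hb.1 l hl), fun m => ?_, fun l hl => ha.2.2.1 _ (hb.2.2.1 l hl),
    fun y hy => ha.2.2.2 _ (hb.2.2.2 y hy)⟩
  obtain ⟨m', hm'⟩ := hb.2.1 m
  obtain ⟨m'', hm''⟩ := ha.2.1 m'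
  exact ⟨m'', by rw [Module.End.mul_apply, hm', hm'']⟩

theorem InAP.add {a b : Module.End R L} (ha : InAP ρ P a) (hb : InAP ρ P b) : InAP ρ P (a + b) := by
  refine ⟨fun l hl h hh => ?_, fun m => ?_, fun l hl => ?_, fun y hy => ?_⟩
  · rw [LinearMap.add_apply, map_add, ha.1 l hl h hh, hb.1 l hl h hh]
  · obtain ⟨m', hm'⟩ := ha.2.1 m
    obtain ⟨m'', hm''⟩ := hb.2.1 m
    exact ⟨m' + m'', by rw [LinearMap.add_apply, hm', hm'', map_add]⟩
  · rw [LinearMap.add_apply, map_add, ha.2.2.1 l hl, hb.2.2.1 l hl, add_zero]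
  · rw [LinearMap.add_apply]
    exact Submodule.add_mem _ (ha.2.2.2 y hy) (hb.2.2.2 y hy)

theorem InAP.smul {a : Module.End R L} (ha : InAP ρ P a) (r : R) : InAP ρ P (r • a) := by
  refine ⟨fun l hl h hh => ?_, fun m => ?_, fun l hl => ?_, fun y hy => ?_⟩
  · rw [LinearMap.smul_apply, map_smul, ha.1 l hl h hh]
  · obtain ⟨m', hm'⟩ := ha.2.1 m
    exact ⟨r • m', by rw [LinearMap.smul_apply, hm', map_smul]⟩
  · rw [LinearMap.smul_apply, map_smul, ha.2.2.1 l hl, smul_zero]
  · rw [LinearMap.smul_apply]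
    exact Submodule.smul_mem _ _ (ha.2.2.2 y hy)

theorem InAP.neg {a : Module.End R L} (ha : InAP ρ P a) : InAP ρ P (-a) := by
  have := ha.smul ρ P (-1 : R)
  simpa using this

theorem InAP.sub {a b : Module.End R L} (ha : InAP ρ P a) (hb : InAP ρ P b) : InAP ρ P (a - b) := by
  rw [sub_eq_add_neg]
  exact ha.add ρ P (hb.neg ρ P)

theorem inAP_zero : InAP ρ P 0 := (inKP_zero ρ P).inAP ρ P

theorem InAP.pow {a : Module.End R L} (ha : InAP ρ P a) (k : ℕ) : InAP ρ P (a ^ k) := by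
  induction k with
  | zero => simpa using inAP_one ρ P
  | succ k ih => rw [pow_succ]; exact ih.mul ρ P ha

/-- `|P| • φ` induces zero. -/
theorem inKP_card_smul {φ : Module.End R L} (hφ : InAP ρ P φ) :
    InKP ρ P ((Fintype.card P : R) • φ) := by
  refine ⟨fun l hl => ⟨φ l, ?_⟩, fun l hl => ?_⟩
  · rw [LinearMap.smul_apply, nuP_of_isFix ρ P (hφ.1 l hl)]
  · rw [LinearMap.smul_apply]
    have h1 := card_smul_sub_nuP_mem ρ P (φ l)
    rw [hφ.2.2.1 l hl, sub_zero] at h1
    exact h1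

theorem inKP_rho_sub_one {h : G} (hh : h ∈ P) : InKP ρ P (ρ h - 1) := by
  refine ⟨fun l hl => ⟨0, ?_⟩, fun l _ => ?_⟩
  · rw [LinearMap.sub_apply, hl h hh, Module.End.one_apply, sub_self, map_zero]
  · rw [LinearMap.sub_apply, Module.End.one_apply]
    exact sub_mem_augS ρ P hh l

/-- The trace from `1` to `P`. -/
def trP (ψ : Module.End R L) : Module.End R L := ∑ h : P, cj ρ (h : G) ψ

theorem trP_apply (ψ : Module.End R L) (l : L) :
    trP ρ P ψ l = ∑ h : P, ρ (h : G) (ψ (ρ (h : G)⁻¹ l)) := by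
  simp [trP, LinearMap.sum_apply, cj_apply]

theorem inKP_trP (ψ : Module.End R L) : InKP ρ P (trP ρ P ψ) := by
  refine ⟨fun l hl => ⟨ψ l, ?_⟩, fun l hl => ?_⟩
  · rw [trP_apply, nuP_apply]
    refine Finset.sum_congr rfl (fun h _ => ?_)
    rw [hl _ (P.inv_mem h.2)]
  · rw [trP_apply]
    have h1 : ∑ h : P, ρ (h : G) (ψ (ρ (h : G)⁻¹ l)) =
        ∑ h : P, (ρ (h : G) (ψ (ρ (h : G)⁻¹ l)) - ψ (ρ (h : G)⁻¹ l)) +
          ∑ h : P, ψ (ρ (h : G)⁻¹ l) := by
      rw [← Finset.sum_add_distrib]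
      exact Finset.sum_congr rfl (fun h _ => by abel)
    have h2 : ∑ h : P, ψ (ρ (h : G)⁻¹ l) = 0 := by
      rw [← map_sum]
      have : ∑ h : P, ρ (h : G)⁻¹ l = nuP ρ P l := by
        rw [nuP_apply]
        exact Fintype.sum_equiv (Equiv.inv P) _ _ (fun h => by simp)
      rw [this, hl, map_zero]
    rw [h1, h2, add_zero]
    exact Submodule.sum_mem _ (fun h _ => sub_mem_augS ρ P h.2 _)


/-! ### The normalizer acts -/

theorem conj_mem_of_mem_normalizer {n : G} (hn : n ∈ Subgroup.normalizer (P : Set G)) {h : G} (hh : h ∈ P) :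
    n * h * n⁻¹ ∈ P := (Subgroup.mem_normalizer_iff.mp hn h).mp hh

theorem conj_mem_of_mem_normalizer' {n : G} (hn : n ∈ Subgroup.normalizer (P : Set G)) {h : G} (hh : h ∈ P) :
    n⁻¹ * h * n ∈ P := by
  have := conj_mem_of_mem_normalizer P (Subgroup.inv_mem _ hn) hh
  simpa using this

theorem isFix_rho_normalizer {n : G} (hn : n ∈ Subgroup.normalizer (P : Set G)) {l : L} (hl : IsFix ρ P l) :
    IsFix ρ P (ρ n l) := by
  intro h hh
  have h1 : h * n = n * (n⁻¹ * h * n) := by group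
  calc ρ h (ρ n l) = ρ (h * n) l := by rw [map_mul]; rfl
    _ = ρ (n * (n⁻¹ * h * n)) l := by rw [h1]
    _ = ρ n (ρ (n⁻¹ * h * n) l) := by rw [map_mul]; rfl
    _ = ρ n l := by rw [hl _ (conj_mem_of_mem_normalizer' P hn hh)]

theorem rho_normalizer_mul_nuP {n : G} (hn : n ∈ Subgroup.normalizer (P : Set G)) :
    ρ n * nuP ρ P = nuP ρ P * ρ n := by
  unfold nuP
  rw [Finset.mul_sum, Finset.sum_mul]
  let e : P ≃ P :=
    { toFun := fun h => ⟨n * h * n⁻¹, conj_mem_of_mem_normalizer P hn h.2⟩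
      invFun := fun h => ⟨n⁻¹ * h * n, conj_mem_of_mem_normalizer' P hn h.2⟩
      left_inv := fun h => by ext; simp [mul_assoc]
      right_inv := fun h => by ext; simp [mul_assoc] }
  refine Fintype.sum_equiv e _ _ (fun h => ?_)
  simp only [e, Equiv.coe_fn_mk]
  rw [← map_mul, ← map_mul]
  congr 1
  group

theorem augS_rho_normalizer {n : G} (hn : n ∈ Subgroup.normalizer (P : Set G)) {y : L} (hy : y ∈ augS ρ P) :
    ρ n y ∈ augS ρ P := by
  unfold augS at hy ⊢
  induction hy using Submodule.span_induction with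
  | mem y hy =>
    obtain ⟨h, hh, m, rfl⟩ := hy
    refine Submodule.subset_span ⟨n * h * n⁻¹, conj_mem_of_mem_normalizer P hn hh, ρ n m, ?_⟩
    rw [map_sub]
    congr 1
    have h1 : n * h = n * h * n⁻¹ * n := by group
    calc ρ n (ρ h m) = ρ (n * h) m := by rw [map_mul]; rfl
      _ = ρ (n * h * n⁻¹ * n) m := by rw [← h1]
      _ = ρ (n * h * n⁻¹) (ρ n m) := by rw [map_mul (f := ρ) (n * h * n⁻¹) n]; rfl
  | zero => simp
  | add x y _ _ hx hy => rw [map_add]; exact Submodule.add_mem _ hx hy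
  | smul r x _ hx => rw [map_smul]; exact Submodule.smul_mem _ _ hx

theorem inAP_rho_normalizer {n : G} (hn : n ∈ Subgroup.normalizer (P : Set G)) : InAP ρ P (ρ n) := by
  have hc : ∀ l, ρ n (nuP ρ P l) = nuP ρ P (ρ n l) := fun l => by
    calc ρ n (nuP ρ P l) = (ρ n * nuP ρ P) l := rfl
      _ = (nuP ρ P * ρ n) l := by rw [rho_normalizer_mul_nuP ρ P hn]
  refine ⟨fun l hl => isFix_rho_normalizer ρ P hn hl, fun m => ⟨ρ n m, hc m⟩, fun l hl => ?_,
    fun y hy => augS_rho_normalizer ρ P hn hy⟩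
  rw [← hc, hl, map_zero]

theorem InKP.conj {n : G} (hn : n ∈ Subgroup.normalizer (P : Set G)) {φ : Module.End R L} (hφ : InKP ρ P φ) :
    InKP ρ P (cj ρ n φ) := by
  unfold cj
  exact ((hφ.mul_left ρ P (inAP_rho_normalizer ρ P hn)).mul_right ρ P
    (inAP_rho_normalizer ρ P (Subgroup.inv_mem _ hn)))

theorem InAP.conj {n : G} (hn : n ∈ Subgroup.normalizer (P : Set G)) {φ : Module.End R L} (hφ : InAP ρ P φ) :
    InAP ρ P (cj ρ n φ) := by
  unfold cj
  exact (((inAP_rho_normalizer ρ P hn).mul ρ P hφ).mul ρ P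
    (inAP_rho_normalizer ρ P (Subgroup.inv_mem _ hn)))

theorem CommP.conj {n : G} (hn : n ∈ Subgroup.normalizer (P : Set G)) {φ : Module.End R L} (hφ : CommP ρ P φ) :
    CommP ρ P (cj ρ n φ) := by
  intro h hh
  rw [← cj_eq_self_iff]
  have h1 : h * n = n * (n⁻¹ * h * n) := by group
  rw [← cj_mul_left, h1, cj_mul_left]
  congr 1
  rw [cj_eq_self_iff]
  exact hφ _ (conj_mem_of_mem_normalizer' P hn hh)

theorem CommP.conj_mem {h : G} (hh : h ∈ P) {φ : Module.End R L} (hφ : CommP ρ P φ) :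
    cj ρ h φ = φ := (cj_eq_self_iff ρ h φ).mpr (hφ h hh)

/-! ## Orbit sums -/

/-- **Orbit lemma.**  If `P` acts on a finite set `X`, freely off its fixed points, and `c` is an
equivariant function to endomorphisms, the sum of `c` is congruent to the sum over the fixed points
modulo traces from `1` to `P`. -/
theorem orbit_sum {X : Type*} [Fintype X] [MulAction P X] [DecidableEq X]
    [DecidablePred fun x : X => ∀ h : P, h • x = x]
    (c : X → Module.End R L) (hc : ∀ (h : P) (x : X), c (h • x) = cj ρ (h : G) (c x))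
    (hfree : ∀ x : X, (∃ h : P, h • x ≠ x) → ∀ h : P, h • x = x → h = 1) :
    ∃ ψ : Module.End R L,
      ∑ x, c x = ∑ x ∈ Finset.univ.filter (fun x : X => ∀ h : P, h • x = x), c x + trP ρ P ψ := by
  classical
  let s : MulAction.orbitRel.Quotient P X → X := Quotient.out
  let T : Finset (MulAction.orbitRel.Quotient P X) :=
    Finset.univ.filter (fun ω => ¬ ∀ h : P, h • s ω = s ω)
  refine ⟨∑ ω ∈ T, c (s ω), ?_⟩
  rw [← Finset.sum_filter_add_sum_filter_not Finset.univ (fun x : X => ∀ h : P, h • x = x)]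
  congr 1
  -- the non-fixed part
  have hfixinv : ∀ (x : X) (h : P), (∀ k : P, k • (h • x) = h • x) → ∀ k : P, k • x = x := by
    intro x h hx k
    have h1 : h⁻¹ • (h • x) = h • x := hx h⁻¹
    rw [inv_smul_smul] at h1
    have h2 := hx k
    rw [← h1] at h2
    exact h2
  have hfixinv' : ∀ (x : X) (h : P), (∀ k : P, k • x = x) → ∀ k : P, k • (h • x) = h • x := by
    intro x h hx k
    rw [hx h, hx k]
  have key : ∑ x ∈ Finset.univ.filter (fun x : X => ¬ ∀ h : P, h • x = x), c x =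
      ∑ hω ∈ (Finset.univ : Finset P) ×ˢ T, c (hω.1 • s hω.2) := by
    symm
    refine Finset.sum_bij (fun hω _ => hω.1 • s hω.2) ?_ ?_ ?_ ?_
    · intro hω hmem
      rw [Finset.mem_product] at hmem
      have h2 := (Finset.mem_filter.mp hmem.2).2
      rw [Finset.mem_filter]
      exact ⟨Finset.mem_univ _, fun hcon => h2 (hfixinv _ _ hcon)⟩
    · intro a ha b hb hab
      rw [Finset.mem_product] at ha hb
      have hq : a.2 = b.2 := by
        have h1 : (Quotient.mk'' (a.1 • s a.2) : MulAction.orbitRel.Quotient P X) = a.2 := by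
          have := MulAction.orbitRel.Quotient.quotient_smul_eq (G := P) (g := a.1) (a := s a.2)
          exact this.trans (Quotient.out_eq' a.2)
        have h2 : (Quotient.mk'' (b.1 • s b.2) : MulAction.orbitRel.Quotient P X) = b.2 := by
          have := MulAction.orbitRel.Quotient.quotient_smul_eq (G := P) (g := b.1) (a := s b.2)
          exact this.trans (Quotient.out_eq' b.2)
        rw [← h1, ← h2]
        exact congrArg _ hab
      have hab' : a.1 • s a.2 = b.1 • s a.2 := by rw [hab, hq]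
      have h3 : (b.1⁻¹ * a.1) • s a.2 = s a.2 := by
        rw [mul_smul, hab', inv_smul_smul]
      have hnf : ∃ h : P, h • s a.2 ≠ s a.2 := by
        have h2 := (Finset.mem_filter.mp ha.2).2
        push Not at h2
        exact h2
      have h4 := hfree _ hnf _ h3
      have h5 : a.1 = b.1 := by
        have : b.1 * (b.1⁻¹ * a.1) = b.1 * 1 := by rw [h4]
        simpa using this
      exact Prod.ext h5 hq
    · intro x hx
      have hx' := (Finset.mem_filter.mp hx).2
      have h1 : (Quotient.mk'' (s (Quotient.mk'' x)) : MulAction.orbitRel.Quotient P X) =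
          Quotient.mk'' x := Quotient.out_eq' _
      have h2 := Quotient.exact' h1
      rw [MulAction.orbitRel_apply] at h2
      obtain ⟨h, hh⟩ := h2
      -- hh : h • x = s ⟦x⟧
      refine ⟨(h⁻¹, Quotient.mk'' x), ?_, ?_⟩
      · rw [Finset.mem_product]
        refine ⟨Finset.mem_univ _, ?_⟩
        rw [Finset.mem_filter]
        refine ⟨Finset.mem_univ _, fun hcon => hx' ?_⟩
        have hh' : s (Quotient.mk'' x) = h • x := hh.symm
        rw [hh'] at hcon
        exact hfixinv _ _ hcon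
      · show h⁻¹ • s (Quotient.mk'' x) = x
        have hh' : s (Quotient.mk'' x) = h • x := hh.symm
        rw [hh', inv_smul_smul]
    · intro hω _
      rfl
  rw [key, Finset.sum_product, trP]
  refine Finset.sum_congr rfl (fun h _ => ?_)
  rw [cj_sum]
  exact Finset.sum_congr rfl (fun ω _ => hc h (s ω))


/-! ## The relative trace from `P` to `G` -/

section reltr

variable [Fintype (G ⧸ P)]

/-- The relative trace `Tr_P^G`, computed with the representatives `Quotient.out`. -/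
noncomputable def relTr (φ₀ : Module.End R L) : Module.End R L :=
  ∑ q : G ⧸ P, cj ρ (Quotient.out q) φ₀

theorem cj_eq_of_coset {φ₀ : Module.End R L} (hφ : CommP ρ P φ₀) {g g' : G}
    (h : g⁻¹ * g' ∈ P) : cj ρ g' φ₀ = cj ρ g φ₀ := by
  have h1 : g' = g * (g⁻¹ * g') := by group
  rw [h1, cj_mul_left, hφ.conj_mem ρ P h]

theorem cj_out {φ₀ : Module.End R L} (hφ : CommP ρ P φ₀) (g : G) :
    cj ρ (Quotient.out (g : G ⧸ P)) φ₀ = cj ρ g φ₀ := by
  apply cj_eq_of_coset ρ P hφ
  have h1 : ((Quotient.out (g : G ⧸ P) : G) : G ⧸ P) = (g : G ⧸ P) := QuotientGroup.out_eq' _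
  have h2 := QuotientGroup.eq.mp h1
  have h3 := P.inv_mem h2
  simpa using h3

theorem cj_relTr {φ₀ : Module.End R L} (hφ : CommP ρ P φ₀) (g : G) :
    cj ρ g (relTr ρ P φ₀) = relTr ρ P φ₀ := by
  unfold relTr
  rw [cj_sum]
  have h1 : ∀ q : G ⧸ P, cj ρ g (cj ρ (Quotient.out q) φ₀) = cj ρ (Quotient.out (g • q)) φ₀ := by
    intro q
    rw [← cj_mul_left]
    have h2 : g • q = ((g * Quotient.out q : G) : G ⧸ P) := by
      conv_lhs => rw [← QuotientGroup.out_eq' q]
      rfl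
    rw [h2, cj_out ρ P hφ]
  rw [Finset.sum_congr rfl (fun q _ => h1 q)]
  exact Fintype.sum_equiv (MulAction.toPerm g) _ _ (fun q => rfl)

/-- `relTr φ₀` commutes with all of `G`. -/
theorem commute_relTr {φ₀ : Module.End R L} (hφ : CommP ρ P φ₀) (g : G) :
    Commute (relTr ρ P φ₀) (ρ g) :=
  (cj_eq_self_iff ρ g _).mp (cj_relTr ρ P hφ g)

/-- **TI congruence.**  If `P` has prime order `p` and `φ₀` commutes with `P` and is invariant
under the normalizer of `P` modulo `InKP`, then `Tr_P^G φ₀ ≡ m • φ₀` modulo `InKP`, with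
`m ≡ |G : P|` modulo `p`. -/
theorem relTr_congr {p : ℕ} [hp : Fact p.Prime] (hcard : Fintype.card P = p)
    {φ₀ : Module.End R L} (hφ : CommP ρ P φ₀)
    (hN : ∀ n ∈ Subgroup.normalizer (P : Set G), InKP ρ P (cj ρ n φ₀ - φ₀)) :
    ∃ m : ℕ, m ≡ Fintype.card (G ⧸ P) [MOD p] ∧ InKP ρ P (relTr ρ P φ₀ - m • φ₀) := by
  classical
  have hcard' : Nat.card P = p := by rw [Nat.card_eq_fintype_card, hcard]
  have : Fact (Nat.card P).Prime := ⟨by rw [hcard']; exact hp.out⟩
  have hc : ∀ (h : P) (q : G ⧸ P),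
      cj ρ (Quotient.out (h • q)) φ₀ = cj ρ (h : G) (cj ρ (Quotient.out q) φ₀) := by
    intro h q
    rw [← cj_mul_left]
    have h2 : h • q = (((h : G) * Quotient.out q : G) : G ⧸ P) := by
      conv_lhs => rw [← QuotientGroup.out_eq' q]
      rfl
    rw [h2, cj_out ρ P hφ]
  have hfree : ∀ q : G ⧸ P, (∃ h : P, h • q ≠ q) → ∀ h : P, h • q = q → h = 1 := by
    intro q ⟨h0, hh0⟩ h hh
    rcases Subgroup.eq_bot_or_eq_top_of_prime_card (MulAction.stabilizer P q) with hb | ht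
    · have : h ∈ MulAction.stabilizer P q := hh
      rw [hb] at this
      exact Subgroup.mem_bot.mp this
    · exfalso
      have : h0 ∈ MulAction.stabilizer P q := by rw [ht]; exact Subgroup.mem_top _
      exact hh0 this
  obtain ⟨ψ, hψ⟩ := orbit_sum ρ P (fun q : G ⧸ P => cj ρ (Quotient.out q) φ₀) hc hfree
  refine ⟨(Finset.univ.filter (fun q : G ⧸ P => ∀ h : P, h • q = q)).card, ?_, ?_⟩
  · have h1 := (IsPGroup.of_card (n := 1) (by rw [hcard', pow_one] : Nat.card P = p ^ 1)).card_modEq_card_fixedPoints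
      (G ⧸ P)
    rw [Nat.card_eq_fintype_card] at h1
    refine Nat.ModEq.symm (h1.trans ?_)
    have h2 : Nat.card (MulAction.fixedPoints P (G ⧸ P)) =
        (Finset.univ.filter (fun q : G ⧸ P => ∀ h : P, h • q = q)).card := by
      rw [Nat.card_eq_fintype_card, ← Fintype.card_subtype]
      exact Fintype.card_congr (Equiv.subtypeEquivRight (fun q => MulAction.mem_fixedPoints))
    rw [h2]
  · have h3 : relTr ρ P φ₀ = ∑ q : G ⧸ P, cj ρ (Quotient.out q) φ₀ := rfl
    rw [h3, hψ]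
    have h4 : ∑ q ∈ Finset.univ.filter (fun q : G ⧸ P => ∀ h : P, h • q = q),
          cj ρ (Quotient.out q) φ₀ + trP ρ P ψ -
        (Finset.univ.filter (fun q : G ⧸ P => ∀ h : P, h • q = q)).card • φ₀ =
        ∑ q ∈ Finset.univ.filter (fun q : G ⧸ P => ∀ h : P, h • q = q),
          (cj ρ (Quotient.out q) φ₀ - φ₀) + trP ρ P ψ := by
      rw [Finset.sum_sub_distrib, Finset.sum_const]
      abel
    rw [h4]
    refine InKP.add ρ P (InKP.sum ρ P _ (fun q hq => hN _ ?_)) (inKP_trP ρ P ψ)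
    have hq' := (Finset.mem_filter.mp hq).2
    -- `q.out` normalizes `P`
    have h5 : ∀ n, n ∈ (P : Set G) → (Quotient.out q)⁻¹ * n * ((Quotient.out q)⁻¹)⁻¹ ∈ (P : Set G) := by
      intro n hn
      have h6 := hq' ⟨n, hn⟩
      have h7 : (⟨n, hn⟩ : P) • q = ((n * Quotient.out q : G) : G ⧸ P) := by
        conv_lhs => rw [← QuotientGroup.out_eq' q]
        rfl
      rw [h7] at h6
      have h8 : ((n * Quotient.out q : G) : G ⧸ P) = ((Quotient.out q : G) : G ⧸ P) := by
        rw [h6, QuotientGroup.out_eq']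
      have h9 := QuotientGroup.eq.mp h8
      have h10 := P.inv_mem h9
      simp only [mul_inv_rev, inv_inv] at h10 ⊢
      simpa [mul_assoc] using h10
    have h11 := Subgroup.mem_normalizer_fintype h5
    have h12 := Subgroup.inv_mem _ h11
    simpa using h12

end reltr

end plevel

end Cfsg.Agent.Lib.Helper57_LatTr
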