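import Mathlib
import Cfsg.Agent.Lib.Helper57_LatTr

/-!
# The averaging idempotent over a subgroup of invertible order (helper57)

Part of the S0960/S4441 project (lattice lemma (CT)).
-/

set_option autoImplicit false
set_option linter.unusedSectionVars false

namespace Cfsg.Agent.Lib.Helper57_AvgIdem

open Finset Cfsg.Agent.Lib.Helper57_LatTr

variable {R : Type*} [CommRing R] {L : Type*} [AddCommGroup L] [Module R L]
variable {G : Type*} [Group G] (ρ : Representation R G L) (V : Subgroup G) [Fintype V]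

/-- The sum of the operators of `V`. -/
def sumV : Module.End R L := ∑ v : V, ρ (v : G)

theorem rho_mul_sumV {g : G} (hg : g ∈ V) : ρ g * sumV ρ V = sumV ρ V := by
  unfold sumV
  rw [Finset.mul_sum]
  refine Fintype.sum_equiv (Equiv.mulLeft (⟨g, hg⟩ : V)) _ _ (fun k => ?_)
  simp [map_mul]

theorem sumV_mul_rho {g : G} (hg : g ∈ V) : sumV ρ V * ρ g = sumV ρ V := by
  unfold sumV
  rw [Finset.sum_mul]
  refine Fintype.sum_equiv (Equiv.mulRight (⟨g, hg⟩ : V)) _ _ (fun k => ?_)
  simp [map_mul]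

theorem sumV_mul_sumV : sumV ρ V * sumV ρ V = (Fintype.card V : R) • sumV ρ V := by
  have h1 : sumV ρ V * sumV ρ V = ∑ v : V, ρ (v : G) * sumV ρ V := by
    conv_lhs => rw [sumV, Finset.sum_mul]
    rfl
  rw [h1, Finset.sum_congr rfl (fun v _ => rho_mul_sumV ρ V v.2), Finset.sum_const,
    Finset.card_univ, Nat.cast_smul_eq_nsmul]

/-- The averaging idempotent, `u` being an inverse of `|V|`. -/
def avgV (u : R) : Module.End R L := u • sumV ρ V

variable {u : R} (hu : u * (Fintype.card V : R) = 1)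

include hu

theorem avgV_mul_avgV : avgV ρ V u * avgV ρ V u = avgV ρ V u := by
  unfold avgV
  rw [smul_mul_smul_comm, sumV_mul_sumV, smul_smul, mul_assoc, hu, mul_one]

theorem rho_mul_avgV {g : G} (hg : g ∈ V) : ρ g * avgV ρ V u = avgV ρ V u := by
  unfold avgV
  rw [mul_smul_comm, rho_mul_sumV ρ V hg]

theorem avgV_mul_rho {g : G} (hg : g ∈ V) : avgV ρ V u * ρ g = avgV ρ V u := by
  unfold avgV
  rw [smul_mul_assoc, sumV_mul_rho ρ V hg]

omit hu in
theorem commute_avgV {h : G} (hh : ∀ v ∈ V, Commute v h) : Commute (avgV ρ V u) (ρ h) := by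
  unfold avgV sumV
  apply Commute.smul_left
  apply Commute.sum_left
  intro v _
  show ρ (v : G) * ρ h = ρ h * ρ (v : G)
  rw [← map_mul, ← map_mul, (hh v v.2).eq]

omit hu in
theorem cj_avgV {n : G} (hn : ∀ v ∈ V, n * v * n⁻¹ ∈ V) (hn' : ∀ v ∈ V, n⁻¹ * v * n ∈ V) :
    cj ρ n (avgV ρ V u) = avgV ρ V u := by
  unfold avgV sumV
  rw [cj_smul, cj_sum]
  congr 1
  let e : V ≃ V :=
    { toFun := fun v => ⟨n * v * n⁻¹, hn v v.2⟩
      invFun := fun v => ⟨n⁻¹ * v * n, hn' v v.2⟩
      left_inv := fun v => by ext; simp [mul_assoc]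
      right_inv := fun v => by ext; simp [mul_assoc] }
  refine Fintype.sum_equiv e _ _ (fun v => ?_)
  rw [cj_rho]
  rfl

omit hu in
theorem trace_mul_avgV [Module.Free R L] [Module.Finite R L] (g : G)
    (hconst : ∀ v ∈ V, LinearMap.trace R L (ρ (g * v)) = LinearMap.trace R L (ρ g))
    (hu : u * (Fintype.card V : R) = 1) :
    LinearMap.trace R L (ρ g * avgV ρ V u) = LinearMap.trace R L (ρ g) := by
  unfold avgV sumV
  rw [mul_smul_comm, Finset.mul_sum, map_smul, map_sum]
  have : ∀ v : V, LinearMap.trace R L (ρ g * ρ (v : G)) = LinearMap.trace R L (ρ g) := by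
    intro v
    rw [← map_mul]
    exact hconst v v.2
  rw [Finset.sum_congr rfl (fun v _ => this v), Finset.sum_const, Finset.card_univ, smul_eq_mul,
    nsmul_eq_mul, ← mul_assoc, hu, one_mul]

end Cfsg.Agent.Lib.Helper57_AvgIdem
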