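import Mathlib
import Cfsg.Agent.Lib.Helper57_LatDefs
import Cfsg.Agent.Lib.Helper57_LatTr

/-!
# The `N`-equivariant dichotomy and the bridge to the `x`-level predicates (helper57)

Part of the S0960/S4441 project (lattice lemma (CT)).
-/

set_option autoImplicit false
set_option linter.unusedSectionVars false

namespace Cfsg.Agent.Lib.Helper57_LatLocal

open Finset Cfsg.Agent.Lib.Helper57_LatDefs Cfsg.Agent.Lib.Helper57_LatTr

variable {R : Type*} [CommRing R] {L : Type*} [AddCommGroup L] [Module R L]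
variable {G : Type*} [Group G] (ρ : Representation R G L)

/-- The conclusion of the locality lemma D3: every `G`-endomorphism is invertible or nilpotent
modulo `p`. -/
def LocalProp (p : ℕ) : Prop :=
  ∀ e : Module.End R L, (∀ g, Commute e (ρ g)) →
    (∃ e' f : Module.End R L, (∀ g, Commute e' (ρ g)) ∧ (∀ g, Commute f (ρ g)) ∧
        e * e' = 1 + (p : R) • f) ∨
      (∃ (k : ℕ) (f : Module.End R L), (∀ g, Commute f (ρ g)) ∧ e ^ k = (p : R) • f)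

section

variable (P : Subgroup G) [Fintype P]

theorem inKP_sub_pow {a κ : Module.End R L} (ha : InAP ρ P a) (hκ : InKP ρ P κ) (k : ℕ) :
    InKP ρ P ((a - κ) ^ k - a ^ k) := by
  induction k with
  | zero => simpa using inKP_zero ρ P
  | succ k ih =>
    have h1 : (a - κ) ^ (k + 1) - a ^ (k + 1) = ((a - κ) ^ k - a ^ k) * (a - κ) - a ^ k * κ := by
      rw [pow_succ, pow_succ]
      noncomm_ring
    rw [h1]
    exact (ih.mul_right ρ P (ha.sub ρ P (hκ.inAP ρ P))).sub ρ P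
      (hκ.mul_left ρ P (ha.pow ρ P k))

theorem commP_of_forall {φ : Module.End R L} (h : ∀ g, Commute φ (ρ g)) : CommP ρ P φ :=
  fun g _ => h g

/-- **The `N`-equivariant dichotomy.** -/
theorem n_dich {p : ℕ} [hp : Fact p.Prime] [Fintype (G ⧸ P)] (hloc : LocalProp ρ p)
    (hcard : Fintype.card P = p) (hsyl : ¬ p ∣ Fintype.card (G ⧸ P))
    {φ₀ : Module.End R L} (hφ : CommP ρ P φ₀)
    (hN : ∀ n ∈ Subgroup.normalizer (P : Set G), InKP ρ P (cj ρ n φ₀ - φ₀)) :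
    (∃ φ' : Module.End R L, CommP ρ P φ' ∧ InKP ρ P (φ₀ * φ' - 1)) ∨
      (∃ k : ℕ, InKP ρ P (φ₀ ^ k)) := by
  obtain ⟨m, hm, hκ⟩ := relTr_congr ρ P hcard hφ hN
  have hpm : ¬ p ∣ m := fun h => hsyl ((Nat.modEq_zero_iff_dvd.mp
    (hm.symm.trans (Nat.modEq_zero_iff_dvd.mpr h))))
  have hpR : ∀ f : Module.End R L, InAP ρ P f → InKP ρ P ((p : R) • f) := by
    intro f hf
    have := inKP_card_smul ρ P hf
    rwa [hcard] at this
  set Φ := relTr ρ P φ₀ with hΦ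
  set κ := Φ - m • φ₀ with hκdef
  have hmφ : m • φ₀ = Φ - κ := by rw [hκdef]; abel
  have hΦc : ∀ g, Commute Φ (ρ g) := fun g => commute_relTr ρ P hφ g
  rcases hloc Φ hΦc with ⟨e', f, he', hf, hef⟩ | ⟨k, f, hf, hk⟩
  · left
    refine ⟨m • e', fun g hg => ?_, ?_⟩
    · exact (he' g).smul_left m
    · have h1 : φ₀ * (m • e') - 1 = (p : R) • f - κ * e' := by
        have : φ₀ * (m • e') = (m • φ₀) * e' := by
          rw [mul_smul_comm, smul_mul_assoc]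
        rw [this, hmφ, sub_mul, hef]
        abel
      rw [h1]
      exact (hpR f ((commP_of_forall ρ P hf).inAP ρ P)).sub ρ P
        (hκ.mul_right ρ P ((commP_of_forall ρ P he').inAP ρ P))
  · right
    refine ⟨k, ?_⟩
    -- `(m φ₀)^k ≡ Φ^k = p f`
    have hΦA : InAP ρ P Φ := (commP_of_forall ρ P hΦc).inAP ρ P
    have h1 : InKP ρ P ((m • φ₀) ^ k) := by
      have h2 := inKP_sub_pow ρ P hΦA hκ k
      rw [← hmφ, hk] at h2
      have h3 := h2.add ρ P (hpR f ((commP_of_forall ρ P hf).inAP ρ P))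
      simpa using h3
    have h4 : (m • φ₀) ^ k = (m ^ k) • φ₀ ^ k := by
      rw [smul_pow]
    rw [h4] at h1
    -- `m^k` is invertible mod `p`
    have hcop : Nat.Coprime (m ^ k) p :=
      Nat.Coprime.pow_left k ((Nat.Coprime.symm ((Nat.Prime.coprime_iff_not_dvd hp.out).mpr hpm)))
    have hgcd : Int.gcd ((m ^ k : ℕ) : ℤ) (p : ℤ) = 1 := by
      rw [Int.gcd_natCast_natCast]; exact hcop
    have hbez := Int.gcd_eq_gcd_ab ((m ^ k : ℕ) : ℤ) (p : ℤ)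
    rw [hgcd] at hbez
    set u := Int.gcdA ((m ^ k : ℕ) : ℤ) (p : ℤ) with hu
    set v := Int.gcdB ((m ^ k : ℕ) : ℤ) (p : ℤ) with hv
    have hφA : InAP ρ P φ₀ := hφ.inAP ρ P
    have h5 : φ₀ ^ k = (u : R) • ((m ^ k) • φ₀ ^ k) + (p : R) • ((v : R) • φ₀ ^ k) := by
      have h6 : (1 : R) = ((m ^ k : ℕ) : R) * (u : R) + (p : R) * (v : R) := by
        have := congrArg (Int.cast : ℤ → R) hbez
        push_cast at this
        push_cast
        exact this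
      calc φ₀ ^ k = (1 : R) • φ₀ ^ k := (one_smul _ _).symm
        _ = (((m ^ k : ℕ) : R) * (u : R) + (p : R) * (v : R)) • φ₀ ^ k := by rw [← h6]
        _ = (u : R) • ((m ^ k) • φ₀ ^ k) + (p : R) • ((v : R) • φ₀ ^ k) := by
          rw [add_smul, mul_smul, mul_smul, smul_comm ((m ^ k : ℕ) : R) (u : R),
            Nat.cast_smul_eq_nsmul]
    rw [h5]
    exact (h1.smul ρ P (u : R)).add ρ P (hpR _ ((hφA.pow ρ P k).smul ρ P (v : R)))

end


/-! ## Bridge: `P = zpowers x₀` of order `p`, `x = ρ x₀` -/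

section bridge

variable {p : ℕ} (x₀ : G) (hx₀ : orderOf x₀ = p) (hp0 : 0 < p) [Fintype (Subgroup.zpowers x₀)]

include hx₀ hp0

theorem isOfFinOrder_x₀ : IsOfFinOrder x₀ := by
  rw [← orderOf_pos_iff, hx₀]; exact hp0

theorem sum_zpowers {M : Type*} [AddCommMonoid M] (F : G → M) :
    ∑ h : Subgroup.zpowers x₀, F (h : G) = ∑ i ∈ Finset.range p, F (x₀ ^ i) := by
  have hfin := isOfFinOrder_x₀ x₀ hx₀ hp0
  subst hx₀
  rw [← Fin.sum_univ_eq_sum_range (fun i => F (x₀ ^ i))]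
  symm
  refine Fintype.sum_equiv (finEquivZPowers hfin) _ _ (fun i => ?_)
  rw [finEquivZPowers_apply]

theorem nuP_eq_nuE : nuP ρ (Subgroup.zpowers x₀) = nuE p (ρ x₀) := by
  unfold nuP nuE
  rw [sum_zpowers x₀ hx₀ hp0 (fun g => ρ g)]
  exact Finset.sum_congr rfl (fun i _ => map_pow ρ x₀ i)

theorem mem_zpowers_iff_pow {g : G} : g ∈ Subgroup.zpowers x₀ ↔ ∃ i : ℕ, g = x₀ ^ i := by
  have hfin := isOfFinOrder_x₀ x₀ hx₀ hp0
  rw [← hfin.mem_powers_iff_mem_zpowers, Submonoid.mem_powers_iff]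
  exact ⟨fun ⟨i, hi⟩ => ⟨i, hi.symm⟩, fun ⟨i, hi⟩ => ⟨i, hi.symm⟩⟩

theorem isFix_iff (l : L) : IsFix ρ (Subgroup.zpowers x₀) l ↔ ρ x₀ l = l := by
  constructor
  · intro h
    exact h x₀ (Subgroup.mem_zpowers x₀)
  · intro h g hg
    obtain ⟨i, rfl⟩ := (mem_zpowers_iff_pow x₀ hx₀ hp0).mp hg
    rw [map_pow]
    clear hg
    induction i with
    | zero => simp
    | succ i ih => rw [pow_succ, Module.End.mul_apply, h, ih]

theorem mem_augS_iff (y : L) :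
    y ∈ augS ρ (Subgroup.zpowers x₀) ↔ ∃ m, y = ρ x₀ m - m := by
  constructor
  · intro hy
    have hle : augS ρ (Subgroup.zpowers x₀) ≤ LinearMap.range (ρ x₀ - 1) := by
      unfold augS
      rw [Submodule.span_le]
      rintro y ⟨g, hg, m, rfl⟩
      obtain ⟨i, rfl⟩ := (mem_zpowers_iff_pow x₀ hx₀ hp0).mp hg
      rw [map_pow]
      have h1 : (ρ x₀) ^ i - 1 = (ρ x₀ - 1) * ∑ k ∈ Finset.range i, (ρ x₀) ^ k :=
        (mul_geom_sum (ρ x₀) i).symm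
      have h2 : ((ρ x₀) ^ i) m - m = ((ρ x₀) ^ i - 1) m := by simp
      rw [SetLike.mem_coe, h2, h1]
      exact ⟨(∑ k ∈ Finset.range i, (ρ x₀) ^ k) m, rfl⟩
    obtain ⟨m, hm⟩ := hle hy
    exact ⟨m, by rw [← hm]; simp⟩
  · rintro ⟨m, rfl⟩
    exact sub_mem_augS ρ _ (Subgroup.mem_zpowers x₀) m

theorem commP_iff (φ : Module.End R L) :
    CommP ρ (Subgroup.zpowers x₀) φ ↔ Commute φ (ρ x₀) := by
  constructor
  · intro h
    exact h x₀ (Subgroup.mem_zpowers x₀)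
  · intro h g hg
    obtain ⟨i, rfl⟩ := (mem_zpowers_iff_pow x₀ hx₀ hp0).mp hg
    rw [map_pow]
    exact h.pow_right i

theorem inKP_iff (ψ : Module.End R L) :
    InKP ρ (Subgroup.zpowers x₀) ψ ↔ InK p (ρ x₀) ψ := by
  unfold InKP InK
  rw [nuP_eq_nuE ρ x₀ hx₀ hp0]
  constructor
  · rintro ⟨h1, h2⟩
    exact ⟨fun l hl => h1 l ((isFix_iff ρ x₀ hx₀ hp0 l).mpr hl),
      fun l hl => (mem_augS_iff ρ x₀ hx₀ hp0 _).mp (h2 l hl)⟩
  · rintro ⟨h1, h2⟩
    exact ⟨fun l hl => h1 l ((isFix_iff ρ x₀ hx₀ hp0 l).mp hl),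
      fun l hl => (mem_augS_iff ρ x₀ hx₀ hp0 _).mpr (h2 l hl)⟩

theorem inAP_iff (ψ : Module.End R L) :
    InAP ρ (Subgroup.zpowers x₀) ψ ↔ InA p (ρ x₀) ψ := by
  unfold InAP InA
  rw [nuP_eq_nuE ρ x₀ hx₀ hp0]
  constructor
  · rintro ⟨h1, h2, h3, h4⟩
    refine ⟨fun l hl => (isFix_iff ρ x₀ hx₀ hp0 _).mp (h1 l ((isFix_iff ρ x₀ hx₀ hp0 l).mpr hl)),
      h2, h3, fun m => ?_⟩
    exact (mem_augS_iff ρ x₀ hx₀ hp0 _).mp
      (h4 _ ((mem_augS_iff ρ x₀ hx₀ hp0 _).mpr ⟨m, rfl⟩))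
  · rintro ⟨h1, h2, h3, h4⟩
    refine ⟨fun l hl => (isFix_iff ρ x₀ hx₀ hp0 _).mpr (h1 l ((isFix_iff ρ x₀ hx₀ hp0 l).mp hl)),
      h2, h3, fun y hy => ?_⟩
    obtain ⟨m, rfl⟩ := (mem_augS_iff ρ x₀ hx₀ hp0 y).mp hy
    exact (mem_augS_iff ρ x₀ hx₀ hp0 _).mpr (h4 m)

end bridge

end Cfsg.Agent.Lib.Helper57_LatLocal
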