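import Mathlib

/-!
# A scalar lemma in characteristic `p` (helper57)

If `u ^ p = u` in a ring of characteristic `p` and every `u - c` (`c` an integer) is right-invertible
or nilpotent, then `u` is a scalar.  Part of the S0960/S4441 project.
-/

set_option autoImplicit false

namespace Cfsg.Agent.Lib.Helper57_ScalarLemma

open Polynomial

/-- `∏_{a ∈ 𝔽_p} (X - a) = X^p - X`. -/
theorem prod_X_sub_C_zmod (p : ℕ) [hp : Fact p.Prime] :
    ∏ a : ZMod p, (X - C a) = (X ^ p - X : (ZMod p)[X]) := by
  have h1 := FiniteField.roots_X_pow_card_sub_X (ZMod p)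
  rw [ZMod.card] at h1
  have hmonic : (X ^ p - X : (ZMod p)[X]).Monic := by
    apply monic_X_pow_sub
    rw [degree_X]
    exact_mod_cast hp.out.one_lt
  have hdeg : (X ^ p - X : (ZMod p)[X]).natDegree = p :=
    FiniteField.X_pow_card_sub_X_natDegree_eq (ZMod p) hp.out.one_lt
  have h2 := prod_multiset_X_sub_C_of_monic_of_roots_card_eq hmonic
    (by rw [h1, hdeg]; simp [ZMod.card])
  rw [h1] at h2
  rw [← h2]
  rfl

/-- In a commutative ring with `p = 0`: `∏_{a ∈ 𝔽_p} (s - a.val) = s^p - s`. -/
theorem prod_sub_val {S : Type*} [CommRing S] (p : ℕ) [hp : Fact p.Prime] (hp0 : (p : S) = 0)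
    (s : S) : ∏ a : ZMod p, (s - ((a.val : ℕ) : S)) = s ^ p - s := by
  have := ringChar.charP S
  have hdvd : ringChar S ∣ p := ringChar.dvd hp0
  let φ : ZMod p →+* S := ZMod.castHom hdvd S
  have h1 := congrArg (Polynomial.eval₂ φ s) (prod_X_sub_C_zmod p)
  rw [eval₂_finsetProd] at h1
  simp only [eval₂_sub, eval₂_X, eval₂_C, eval₂_pow] at h1
  rw [← h1]
  refine Finset.prod_congr rfl (fun a _ => ?_)
  congr 1
  show ((a.val : ℕ) : S) = (ZMod.castHom hdvd S) a
  rw [ZMod.castHom_apply, ZMod.natCast_val]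

/-- **Scalar lemma.** -/
theorem scalar_of_dich {Q : Type*} [Ring Q] {p : ℕ} [hp : Fact p.Prime] (hp0 : (p : Q) = 0) (u : Q)
    (hu : u ^ p = u)
    (hd : ∀ c : ℕ, (∃ b, (u - (c : Q)) * b = 1) ∨ IsNilpotent (u - (c : Q))) :
    ∃ c : ℕ, u = (c : Q) := by
  rcases subsingleton_or_nontrivial Q with hsub | hnt
  · exact ⟨0, Subsingleton.elim _ _⟩
  -- the commutative subring generated by `u`
  let S : Subring Q := Subring.closure {u}
  letI : CommRing S := Subring.closureCommRingOfComm (by
    intro a ha b hb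
    rw [Set.mem_singleton_iff] at ha hb
    rw [ha, hb])
  let ũ : S := ⟨u, Subring.subset_closure (Set.mem_singleton u)⟩
  have hpS : (p : S) = 0 := by
    apply Subtype.ext
    push_cast
    exact hp0
  by_cases hnil : ∃ c : ℕ, IsNilpotent (u - (c : Q))
  · obtain ⟨c, k, hk⟩ := hnil
    refine ⟨c, ?_⟩
    -- `a = u - c` satisfies `a ^ p = a`
    have hntS : Nontrivial S := by
      refine ⟨⟨0, 1, fun h => ?_⟩⟩
      have := congrArg (Subtype.val : S → Q) h
      exact zero_ne_one this
    have : CharP S p := ringChar.of_eq (CharP.ringChar_of_prime_eq_zero hp.out hpS)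
    have h1 : (ũ - (c : S)) ^ p = ũ - (c : S) := by
      rw [sub_pow_char]
      have h2 : ((c : S)) ^ p = (c : S) := by
        have := map_natCast (frobenius S p) c
        rwa [frobenius_def] at this
      have h3 : ũ ^ p = ũ := Subtype.ext (by push_cast; exact hu)
      rw [h2, h3]
    have h1' : (u - (c : Q)) ^ p = u - (c : Q) := by
      have := congrArg (Subtype.val : S → Q) h1
      push_cast at this
      exact this
    have h4 : ∀ j : ℕ, (u - (c : Q)) ^ (p ^ j) = u - (c : Q) := by
      intro j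
      induction j with
      | zero => simp
      | succ j ih => rw [pow_succ, pow_mul, ih, h1']
    have h5 : k ≤ p ^ k := (Nat.lt_pow_self hp.out.one_lt).le
    have h6 : (u - (c : Q)) ^ (p ^ k) = 0 := pow_eq_zero_of_le h5 hk
    rw [h4 k] at h6
    exact sub_eq_zero.mp h6
  · exfalso
    push Not at hnil
    have hinv : ∀ c : ℕ, ∃ b, (u - (c : Q)) * b = 1 := fun c =>
      (hd c).resolve_right (hnil c)
    -- every partial product is right-invertible
    have key : ∀ A : Finset (ZMod p),
        ∃ b : Q, ((∏ a ∈ A, (ũ - ((a.val : ℕ) : S)) : S) : Q) * b = 1 := by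
      intro A
      classical
      induction A using Finset.induction_on with
      | empty => exact ⟨1, by simp⟩
      | insert a A ha ih =>
        obtain ⟨bA, hbA⟩ := ih
        obtain ⟨ba, hba⟩ := hinv a.val
        refine ⟨ba * bA, ?_⟩
        rw [Finset.prod_insert ha, mul_comm]
        push_cast
        have : (((∏ x ∈ A, (ũ - ((x.val : ℕ) : S)) : S) : Q) * (u - ((a.val : ℕ) : Q))) * (ba * bA) =
            ((∏ x ∈ A, (ũ - ((x.val : ℕ) : S)) : S) : Q) * ((u - ((a.val : ℕ) : Q)) * ba) * bA := by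
          noncomm_ring
        rw [this, hba, mul_one, hbA]
    obtain ⟨b, hb⟩ := key Finset.univ
    rw [prod_sub_val p hpS ũ] at hb
    have h3 : ((ũ ^ p - ũ : S) : Q) = 0 := by
      push_cast
      rw [hu, sub_self]
    rw [h3, zero_mul] at hb
    exact zero_ne_one hb

end Cfsg.Agent.Lib.Helper57_ScalarLemma
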