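import Mathlib
import Cfsg.Agent.Lib.Helper57_LatDefs
import Cfsg.Agent.Lib.Helper57_LatTr
import Cfsg.Agent.Lib.Helper57_LatLocal
import Cfsg.Agent.Lib.Helper57_ScalarLemma

/-!
# The ring `𝔄 / 𝔎` and the normalizer acting by scalars (helper57)

Part of the S0960/S4441 project (lattice lemma (CT)), Step 2.
-/

set_option autoImplicit false
set_option linter.unusedSectionVars false

namespace Cfsg.Agent.Lib.Helper57_LatQuot

open Finset Cfsg.Agent.Lib.Helper57_LatDefs Cfsg.Agent.Lib.Helper57_LatTr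
  Cfsg.Agent.Lib.Helper57_LatLocal Cfsg.Agent.Lib.Helper57_ScalarLemma

variable {R : Type*} [CommRing R] {L : Type*} [AddCommGroup L] [Module R L]
variable {G : Type*} [Group G] (ρ : Representation R G L) (P : Subgroup G) [Fintype P]

/-- The subring `𝔄` of flag-preserving endomorphisms. -/
def Asub : Subring (Module.End R L) where
  carrier := {ψ | InAP ρ P ψ}
  mul_mem' := fun ha hb => InAP.mul ρ P ha hb
  one_mem' := inAP_one ρ P
  add_mem' := fun ha hb => InAP.add ρ P ha hb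
  zero_mem' := inAP_zero ρ P
  neg_mem' := fun ha => InAP.neg ρ P ha

theorem mem_Asub (ψ : Module.End R L) : ψ ∈ Asub ρ P ↔ InAP ρ P ψ := Iff.rfl

/-- The ring congruence `𝔎` on `𝔄`. -/
def Kcon : RingCon (Asub ρ P) where
  r a b := InKP ρ P ((a : Module.End R L) - (b : Module.End R L))
  iseqv :=
    { refl := fun a => by simpa using inKP_zero ρ P
      symm := fun {a b} h => by
        have := InKP.neg ρ P h
        simpa using this
      trans := fun {a b c} h1 h2 => by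
        have := InKP.add ρ P h1 h2
        simpa using this }
  mul' := fun {a b c d} h1 h2 => by
    show InKP ρ P (((a * c : Asub ρ P) : Module.End R L) - ((b * d : Asub ρ P) : Module.End R L))
    have h3 : ((a * c : Asub ρ P) : Module.End R L) - ((b * d : Asub ρ P) : Module.End R L) =
        (a : Module.End R L) * ((c : Module.End R L) - (d : Module.End R L)) +
          ((a : Module.End R L) - (b : Module.End R L)) * (d : Module.End R L) := by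
      push_cast
      noncomm_ring
    rw [h3]
    exact InKP.add ρ P (InKP.mul_left ρ P a.2 h2) (InKP.mul_right ρ P h1 d.2)
  add' := fun {a b c d} h1 h2 => by
    show InKP ρ P (((a + c : Asub ρ P) : Module.End R L) - ((b + d : Asub ρ P) : Module.End R L))
    have h3 : ((a + c : Asub ρ P) : Module.End R L) - ((b + d : Asub ρ P) : Module.End R L) =
        ((a : Module.End R L) - (b : Module.End R L)) +
          ((c : Module.End R L) - (d : Module.End R L)) := by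
      push_cast
      abel
    rw [h3]
    exact InKP.add ρ P h1 h2

/-- The quotient ring `𝔄 / 𝔎`. -/
abbrev Q : Type _ := (Kcon ρ P).Quotient

/-- The class of a flag-preserving endomorphism. -/
def mkQ (ψ : Module.End R L) (hψ : InAP ρ P ψ) : Q ρ P := ((⟨ψ, hψ⟩ : Asub ρ P) : Q ρ P)

theorem mkQ_eq_iff {ψ ψ' : Module.End R L} (hψ : InAP ρ P ψ) (hψ' : InAP ρ P ψ') :
    mkQ ρ P ψ hψ = mkQ ρ P ψ' hψ' ↔ InKP ρ P (ψ - ψ') :=
  (Kcon ρ P).eq

theorem mkQ_mul {ψ ψ' : Module.End R L} (hψ : InAP ρ P ψ) (hψ' : InAP ρ P ψ') :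
    mkQ ρ P (ψ * ψ') (hψ.mul ρ P hψ') = mkQ ρ P ψ hψ * mkQ ρ P ψ' hψ' := rfl

theorem mkQ_add {ψ ψ' : Module.End R L} (hψ : InAP ρ P ψ) (hψ' : InAP ρ P ψ') :
    mkQ ρ P (ψ + ψ') (hψ.add ρ P hψ') = mkQ ρ P ψ hψ + mkQ ρ P ψ' hψ' := rfl

theorem mkQ_sub {ψ ψ' : Module.End R L} (hψ : InAP ρ P ψ) (hψ' : InAP ρ P ψ') :
    mkQ ρ P (ψ - ψ') (hψ.sub ρ P hψ') = mkQ ρ P ψ hψ - mkQ ρ P ψ' hψ' := rfl

theorem mkQ_one : mkQ ρ P 1 (inAP_one ρ P) = 1 := rfl

theorem mkQ_zero : mkQ ρ P 0 (inAP_zero ρ P) = 0 := rfl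

theorem mkQ_pow {ψ : Module.End R L} (hψ : InAP ρ P ψ) (k : ℕ) :
    mkQ ρ P (ψ ^ k) (hψ.pow ρ P k) = mkQ ρ P ψ hψ ^ k := rfl

theorem mkQ_congr {ψ ψ' : Module.End R L} (h : ψ = ψ') (hψ : InAP ρ P ψ) (hψ' : InAP ρ P ψ') :
    mkQ ρ P ψ hψ = mkQ ρ P ψ' hψ' := by
  subst h; rfl

theorem mkQ_surj (q : Q ρ P) : ∃ (ψ : Module.End R L) (hψ : InAP ρ P ψ), q = mkQ ρ P ψ hψ := by
  induction q using Quotient.inductionOn' with
  | h a => exact ⟨a.1, a.2, rfl⟩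

theorem mkQ_eq_zero_iff {ψ : Module.End R L} (hψ : InAP ρ P ψ) :
    mkQ ρ P ψ hψ = 0 ↔ InKP ρ P ψ := by
  rw [← mkQ_zero, mkQ_eq_iff, sub_zero]

theorem mkQ_natCast (c : ℕ) :
    mkQ ρ P ((c : Module.End R L)) (by
      have := (inAP_one ρ P).smul ρ P (c : R)
      have h2 : (c : R) • (1 : Module.End R L) = (c : Module.End R L) := by
        rw [Nat.cast_smul_eq_nsmul, nsmul_eq_mul, mul_one]
      rwa [h2] at this) = (c : Q ρ P) := rfl


/-! ## Step 2: the normalizer acts by scalars -/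

section step2

variable {p : ℕ} [hp : Fact p.Prime] [Fintype (G ⧸ P)]

theorem inAP_natCast (c : ℕ) : InAP ρ P ((c : Module.End R L)) := by
  have := (inAP_one ρ P).smul ρ P (c : R)
  have h2 : (c : R) • (1 : Module.End R L) = (c : Module.End R L) := by
    rw [Nat.cast_smul_eq_nsmul, nsmul_eq_mul, mul_one]
  rwa [h2] at this

theorem cj_natCast (g : G) (c : ℕ) : cj ρ g ((c : Module.End R L)) = (c : Module.End R L) := by
  have h2 : (c : Module.End R L) = (c : R) • (1 : Module.End R L) := by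
    rw [Nat.cast_smul_eq_nsmul, nsmul_eq_mul, mul_one]
  rw [h2, cj_smul, cj_one]

theorem natCast_p_eq_zero (hcard : Fintype.card P = p) : ((p : ℕ) : Q ρ P) = 0 := by
  have h1 : ((p : ℕ) : Q ρ P) = mkQ ρ P ((p : Module.End R L)) (inAP_natCast ρ P p) := rfl
  rw [h1, mkQ_eq_zero_iff]
  have := inKP_card_smul ρ P (inAP_one ρ P)
  rw [hcard] at this
  have h2 : (p : R) • (1 : Module.End R L) = (p : Module.End R L) := by
    rw [Nat.cast_smul_eq_nsmul, nsmul_eq_mul, mul_one]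
  rwa [h2] at this

/-- The dichotomy in `𝔄 / 𝔎` for elements commuting with the normalizer. -/
theorem q_dich (hloc : LocalProp ρ p) (hcard : Fintype.card P = p)
    (hsyl : ¬ p ∣ Fintype.card (G ⧸ P))
    (hsurj : ∀ ψ, InAP ρ P ψ → ∃ φ, CommP ρ P φ ∧ InKP ρ P (ψ - φ))
    {ψ : Module.End R L} (hψ : InAP ρ P ψ)
    (hN : ∀ n ∈ Subgroup.normalizer (P : Set G), InKP ρ P (cj ρ n ψ - ψ)) :
    (∃ b : Q ρ P, mkQ ρ P ψ hψ * b = 1) ∨ IsNilpotent (mkQ ρ P ψ hψ) := by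
  obtain ⟨φ₀, hφ₀, hψφ⟩ := hsurj ψ hψ
  have hφA := hφ₀.inAP ρ P
  have heq : mkQ ρ P ψ hψ = mkQ ρ P φ₀ hφA := (mkQ_eq_iff ρ P hψ hφA).mpr hψφ
  have hN' : ∀ n ∈ Subgroup.normalizer (P : Set G), InKP ρ P (cj ρ n φ₀ - φ₀) := by
    intro n hn
    have h1 : cj ρ n φ₀ - φ₀ = -(cj ρ n (ψ - φ₀)) + (cj ρ n ψ - ψ) + (ψ - φ₀) := by
      rw [cj_sub]; abel
    rw [h1]
    exact ((InKP.neg ρ P (hψφ.conj ρ P hn)).add ρ P (hN n hn)).add ρ P hψφ
  rcases n_dich ρ P hloc hcard hsyl hφ₀ hN' with ⟨φ', hφ', h⟩ | ⟨k, hk⟩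
  · left
    have hφ'A := hφ'.inAP ρ P
    refine ⟨mkQ ρ P φ' hφ'A, ?_⟩
    rw [heq, ← mkQ_mul, ← mkQ_one]
    exact (mkQ_eq_iff ρ P _ _).mpr h
  · right
    refine ⟨k, ?_⟩
    rw [heq, ← mkQ_pow, mkQ_eq_zero_iff]
    exact hk

/-- Elements of the normalizer act on `H^0`, `H^{-1}` by a common scalar. -/
theorem rho_scalar (hloc : LocalProp ρ p) (hcard : Fintype.card P = p)
    (hsyl : ¬ p ∣ Fintype.card (G ⧸ P))
    (hsurj : ∀ ψ, InAP ρ P ψ → ∃ φ, CommP ρ P φ ∧ InKP ρ P (ψ - φ))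
    (C : Subgroup G) (hC1 : ∀ c ∈ C, InKP ρ P (ρ c - 1))
    (hNab : ∀ n ∈ Subgroup.normalizer (P : Set G), ∀ n' ∈ Subgroup.normalizer (P : Set G),
      n⁻¹ * (n' * n * n'⁻¹) ∈ C)
    (hNexp : ∀ n ∈ Subgroup.normalizer (P : Set G), n ^ (p - 1) ∈ C)
    {n : G} (hn : n ∈ Subgroup.normalizer (P : Set G)) :
    ∃ c : ℕ, InKP ρ P (ρ n - (c : Module.End R L)) := by
  have hnA := inAP_rho_normalizer ρ P hn
  set u := mkQ ρ P (ρ n) hnA with hu
  have hp1 : p - 1 + 1 = p := Nat.sub_add_cancel hp.out.one_le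
  have hupow : u ^ p = u := by
    have h1 : u ^ (p - 1) = 1 := by
      rw [hu, ← mkQ_pow, ← mkQ_one, mkQ_eq_iff, ← map_pow]
      exact hC1 _ (hNexp n hn)
    rw [← hp1, pow_succ, h1, one_mul]
  have hd : ∀ c : ℕ, (∃ b, (u - (c : Q ρ P)) * b = 1) ∨ IsNilpotent (u - (c : Q ρ P)) := by
    intro c
    have hψ : InAP ρ P (ρ n - (c : Module.End R L)) := hnA.sub ρ P (inAP_natCast ρ P c)
    have hN : ∀ n' ∈ Subgroup.normalizer (P : Set G),
        InKP ρ P (cj ρ n' (ρ n - (c : Module.End R L)) - (ρ n - (c : Module.End R L))) := by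
      intro n' hn'
      have h1 : cj ρ n' (ρ n - (c : Module.End R L)) - (ρ n - (c : Module.End R L)) =
          ρ n * (ρ (n⁻¹ * (n' * n * n'⁻¹)) - 1) := by
        rw [cj_sub, cj_natCast, cj_rho, mul_sub, mul_one, ← map_mul]
        have : n * (n⁻¹ * (n' * n * n'⁻¹)) = n' * n * n'⁻¹ := by group
        rw [this]
        abel
      rw [h1]
      exact InKP.mul_left ρ P hnA (hC1 _ (hNab n hn n' hn'))
    have := q_dich ρ P hloc hcard hsyl hsurj hψ hN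
    exact this
  obtain ⟨c, hc⟩ := scalar_of_dich (natCast_p_eq_zero ρ P hcard) u hupow hd
  refine ⟨c, ?_⟩
  have h2 : (c : Q ρ P) = mkQ ρ P ((c : Module.End R L)) (inAP_natCast ρ P c) := rfl
  rw [hu, h2, mkQ_eq_iff] at hc
  exact hc

/-- **Step 2.**  If the centralizer acts trivially on `H^0`, `H^{-1}`, every `P`-endomorphism is
invertible or nilpotent modulo `𝔎`. -/
theorem dichP (hloc : LocalProp ρ p) (hcard : Fintype.card P = p)
    (hsyl : ¬ p ∣ Fintype.card (G ⧸ P))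
    (hsurj : ∀ ψ, InAP ρ P ψ → ∃ φ, CommP ρ P φ ∧ InKP ρ P (ψ - φ))
    (C : Subgroup G) (hC1 : ∀ c ∈ C, InKP ρ P (ρ c - 1))
    (hNab : ∀ n ∈ Subgroup.normalizer (P : Set G), ∀ n' ∈ Subgroup.normalizer (P : Set G),
      n⁻¹ * (n' * n * n'⁻¹) ∈ C)
    (hNexp : ∀ n ∈ Subgroup.normalizer (P : Set G), n ^ (p - 1) ∈ C)
    {φ₀ : Module.End R L} (hφ : CommP ρ P φ₀) :
    (∃ φ' : Module.End R L, CommP ρ P φ' ∧ InKP ρ P (φ₀ * φ' - 1)) ∨
      (∃ k : ℕ, InKP ρ P (φ₀ ^ k)) := by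
  refine n_dich ρ P hloc hcard hsyl hφ (fun n hn => ?_)
  have hn' : n⁻¹ ∈ Subgroup.normalizer (P : Set G) := Subgroup.inv_mem _ hn
  obtain ⟨c, hc⟩ := rho_scalar ρ P hloc hcard hsyl hsurj C hC1 hNab hNexp hn
  obtain ⟨c', hc'⟩ := rho_scalar ρ P hloc hcard hsyl hsurj C hC1 hNab hNexp hn'
  have hnA := inAP_rho_normalizer ρ P hn
  have hnA' := inAP_rho_normalizer ρ P hn'
  have hφA := hφ.inAP ρ P
  have e1 : mkQ ρ P (ρ n) hnA = (c : Q ρ P) :=
    (mkQ_eq_iff ρ P hnA (inAP_natCast ρ P c)).mpr hc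
  have e2 : mkQ ρ P (ρ n⁻¹) hnA' = (c' : Q ρ P) :=
    (mkQ_eq_iff ρ P hnA' (inAP_natCast ρ P c')).mpr hc'
  have e3 : (c : Q ρ P) * (c' : Q ρ P) = 1 := by
    rw [← e1, ← e2, ← mkQ_mul, ← mkQ_one]
    exact mkQ_congr ρ P (rho_mul_inv ρ n) _ _
  have hcjA : InAP ρ P (cj ρ n φ₀) := hφA.conj ρ P hn
  have e4 : mkQ ρ P (cj ρ n φ₀) hcjA = mkQ ρ P φ₀ hφA := by
    have h1 : mkQ ρ P (cj ρ n φ₀) hcjA =
        mkQ ρ P (ρ n) hnA * mkQ ρ P φ₀ hφA * mkQ ρ P (ρ n⁻¹) hnA' := rfl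
    rw [h1, e1, e2, (Nat.cast_commute c (mkQ ρ P φ₀ hφA)).eq, mul_assoc, e3, mul_one]
  exact (mkQ_eq_iff ρ P hcjA hφA).mp e4

end step2

end Cfsg.Agent.Lib.Helper57_LatQuot
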