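import Mathlib

/-!
# The normalizer of a cyclic group of prime order modulo its centralizer (helper57)

`N(⟨x₀⟩)/C(x₀)` is abelian of exponent dividing `p - 1`.  Part of the S0960/S4441 project.
-/

set_option autoImplicit false

namespace Cfsg.Agent.Lib.Helper57_NormCyc

variable {G : Type*} [Group G] {p : ℕ} [hp : Fact p.Prime] {x₀ : G}

theorem exists_conj_eq_pow (hx₀ : orderOf x₀ = p) {n : G}
    (hn : n ∈ Subgroup.normalizer (Subgroup.zpowers x₀ : Set G)) :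
    ∃ k : ℕ, n * x₀ * n⁻¹ = x₀ ^ k := by
  have h1 : n * x₀ * n⁻¹ ∈ Subgroup.zpowers x₀ :=
    (Subgroup.mem_normalizer_iff.mp hn x₀).mp (Subgroup.mem_zpowers x₀)
  have hfin : IsOfFinOrder x₀ := by
    rw [← orderOf_pos_iff, hx₀]; exact hp.out.pos
  rw [← hfin.mem_powers_iff_mem_zpowers, Submonoid.mem_powers_iff] at h1
  obtain ⟨k, hk⟩ := h1
  exact ⟨k, hk.symm⟩

theorem conj_pow_eq {n : G} {k : ℕ} (h : n * x₀ * n⁻¹ = x₀ ^ k) (j : ℕ) :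
    n * x₀ ^ j * n⁻¹ = x₀ ^ (k * j) := by
  rw [← conj_pow, h, pow_mul]

theorem conj_pow_eq' {n : G} {k : ℕ} (h : n⁻¹ * x₀ * n = x₀ ^ k) (j : ℕ) :
    n⁻¹ * x₀ ^ j * n = x₀ ^ (k * j) := by
  have h' : n⁻¹ * x₀ * (n⁻¹)⁻¹ = x₀ ^ k := by rwa [inv_inv]
  have := conj_pow_eq h' j
  rwa [inv_inv] at this

/-- The commutator-type element `n⁻¹ (n' n n'⁻¹)` centralizes `x₀`. -/
theorem comm_commute (hx₀ : orderOf x₀ = p) {n n' : G}
    (hn : n ∈ Subgroup.normalizer (Subgroup.zpowers x₀ : Set G))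
    (hn' : n' ∈ Subgroup.normalizer (Subgroup.zpowers x₀ : Set G)) :
    Commute (n⁻¹ * (n' * n * n'⁻¹)) x₀ := by
  obtain ⟨k, hk⟩ := exists_conj_eq_pow hx₀ hn
  obtain ⟨k', hk'⟩ := exists_conj_eq_pow hx₀ hn'
  obtain ⟨l, hl⟩ := exists_conj_eq_pow hx₀ (Subgroup.inv_mem _ hn)
  obtain ⟨l', hl'⟩ := exists_conj_eq_pow hx₀ (Subgroup.inv_mem _ hn')
  rw [inv_inv] at hl hl'
  -- `x₀ = x₀^(l*k)` and `x₀ = x₀^(l'*k')`
  have e1 : x₀ ^ (l * k) = x₀ := by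
    rw [← conj_pow_eq' hl k, ← hk]; group
  have e2 : x₀ ^ (l' * k') = x₀ := by
    rw [← conj_pow_eq' hl' k', ← hk']; group
  have key : (n⁻¹ * (n' * n * n'⁻¹)) * x₀ * (n⁻¹ * (n' * n * n'⁻¹))⁻¹ = x₀ := by
    have h1 : (n⁻¹ * (n' * n * n'⁻¹)) * x₀ * (n⁻¹ * (n' * n * n'⁻¹))⁻¹ =
        n⁻¹ * (n' * (n * (n'⁻¹ * x₀ * n') * n⁻¹) * n'⁻¹) * n := by group
    rw [h1, hl', conj_pow_eq hk, conj_pow_eq hk', conj_pow_eq' hl]
    have h2 : l * (k' * (k * l')) = (l * k) * (l' * k') := by ring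
    rw [h2, pow_mul, e1, e2]
  have : (n⁻¹ * (n' * n * n'⁻¹)) * x₀ = x₀ * (n⁻¹ * (n' * n * n'⁻¹)) := by
    calc (n⁻¹ * (n' * n * n'⁻¹)) * x₀
        = ((n⁻¹ * (n' * n * n'⁻¹)) * x₀ * (n⁻¹ * (n' * n * n'⁻¹))⁻¹) * (n⁻¹ * (n' * n * n'⁻¹)) := by
          group
      _ = x₀ * (n⁻¹ * (n' * n * n'⁻¹)) := by rw [key]
  exact this

theorem conj_npow_eq {n : G} {k : ℕ} (h : n * x₀ * n⁻¹ = x₀ ^ k) (m : ℕ) :
    n ^ m * x₀ * (n ^ m)⁻¹ = x₀ ^ (k ^ m) := by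
  induction m with
  | zero => simp
  | succ m ih =>
    have h1 : n ^ (m + 1) * x₀ * (n ^ (m + 1))⁻¹ = n * (n ^ m * x₀ * (n ^ m)⁻¹) * n⁻¹ := by
      rw [pow_succ']; group
    rw [h1, ih, conj_pow_eq h, pow_succ']

/-- `n ^ (p - 1)` centralizes `x₀`. -/
theorem pow_commute (hx₀ : orderOf x₀ = p) {n : G}
    (hn : n ∈ Subgroup.normalizer (Subgroup.zpowers x₀ : Set G)) :
    Commute (n ^ (p - 1)) x₀ := by
  obtain ⟨k, hk⟩ := exists_conj_eq_pow hx₀ hn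
  have hx1 : x₀ ≠ 1 := by
    intro h
    rw [h, orderOf_one] at hx₀
    exact hp.out.one_lt.ne hx₀
  have hpk : ¬ p ∣ k := by
    intro hdvd
    have h1 : x₀ ^ k = 1 := by
      rw [← hx₀] at hdvd
      exact orderOf_dvd_iff_pow_eq_one.mp hdvd
    rw [h1] at hk
    apply hx1
    have : x₀ = n⁻¹ * (n * x₀ * n⁻¹) * n := by group
    rw [this, hk]; group
  have hcop : Nat.Coprime k p := ((Nat.Prime.coprime_iff_not_dvd hp.out).mpr hpk).symm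
  have hfer : k ^ (p - 1) ≡ 1 [MOD p] := by
    have := Nat.ModEq.pow_totient hcop
    rwa [Nat.totient_prime hp.out] at this
  have key : n ^ (p - 1) * x₀ * (n ^ (p - 1))⁻¹ = x₀ := by
    rw [conj_npow_eq hk]
    have : x₀ ^ (k ^ (p - 1)) = x₀ ^ 1 := by
      rw [pow_eq_pow_iff_modEq, hx₀]
      exact hfer
    rw [this, pow_one]
  have : n ^ (p - 1) * x₀ = x₀ * n ^ (p - 1) := by
    calc n ^ (p - 1) * x₀ = (n ^ (p - 1) * x₀ * (n ^ (p - 1))⁻¹) * n ^ (p - 1) := by group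
      _ = x₀ * n ^ (p - 1) := by rw [key]
  exact this

end Cfsg.Agent.Lib.Helper57_NormCyc
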