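import Mathlib
import Cfsg.Agent.Lib.Helper57_LatDefs
import Cfsg.Agent.Lib.Helper57_LatTr
import Cfsg.Agent.Lib.Helper57_LatLocal
import Cfsg.Agent.Lib.Helper57_LatQuot
import Cfsg.Agent.Lib.Helper57_AvgIdem
import Cfsg.Agent.Lib.Helper57_NormCyc
import Cfsg.Agent.Lib.Helper17_LatticeLocal

/-!
# The lattice lemma (CT) (helper57)

For a `ℚ_p`-irreducible `ℤ_p G`-lattice `L`, `P = ⟨x₀⟩` a Sylow subgroup of order `p` with
`C_G(P) = P × V`, whose character is constant on the cosets `x V` (`1 ≠ x ∈ P`): the trace of every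
`1 ≠ x ∈ P` on `L` is a constant `δ ∈ {0, 1, -1}`.  Here modulo the `P`-local lemma PL.
-/

set_option autoImplicit false
set_option linter.unusedSectionVars false

namespace Cfsg.Agent.Lib.Helper57_CT

open Finset Cfsg.Agent.Lib.Helper57_LatDefs Cfsg.Agent.Lib.Helper57_LatTr
  Cfsg.Agent.Lib.Helper57_LatLocal Cfsg.Agent.Lib.Helper57_LatQuot
  Cfsg.Agent.Lib.Helper57_AvgIdem Cfsg.Agent.Lib.Helper57_NormCyc

variable {p : ℕ} [hp : Fact p.Prime]

/-- The statement of PL1 for a lattice `L`. -/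
def PLSurj (p : ℕ) [Fact p.Prime] (L : Type*) [AddCommGroup L] [Module ℤ_[p] L] : Prop :=
  ∀ x : Module.End ℤ_[p] L, x ^ p = 1 → ∀ ψ : Module.End ℤ_[p] L, InA p x ψ →
    ∃ φ : Module.End ℤ_[p] L, Commute φ x ∧ InK p x (ψ - φ)

/-- The statement of PL2 for a lattice `L`. -/
def PLTrace (p : ℕ) [Fact p.Prime] (L : Type*) [AddCommGroup L] [Module ℤ_[p] L] : Prop :=
  ∀ x : Module.End ℤ_[p] L, x ^ p = 1 →
    (∀ φ : Module.End ℤ_[p] L, Commute φ x →
      (∃ φ' : Module.End ℤ_[p] L, Commute φ' x ∧ InK p x (φ * φ' - 1)) ∨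
        (∃ k : ℕ, InK p x (φ ^ k))) →
    ∃ δ : ℤ, (δ = 0 ∨ δ = 1 ∨ δ = -1) ∧
      ∀ i : ℕ, 0 < i → i < p → LinearMap.trace ℤ_[p] L (x ^ i) = (δ : ℤ_[p])

section restrict

variable {L : Type*} [AddCommGroup L] [Module ℤ_[p] L]

/-- The norm operator of a restriction. -/
theorem nuE_restrict_apply (x : Module.End ℤ_[p] L) (N : Submodule ℤ_[p] L)
    (h : ∀ l ∈ N, x l ∈ N) (m : N) :
    ((nuE p (x.restrict h) m : N) : L) = nuE p x (m : L) := by
  unfold nuE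
  rw [LinearMap.sum_apply, LinearMap.sum_apply]
  push_cast
  refine Finset.sum_congr rfl (fun i _ => ?_)
  rw [Module.End.pow_restrict i h]
  rfl

end restrict

variable {G : Type*} [Group G] [Finite G] {L : Type*} [AddCommGroup L] [Module ℤ_[p] L]
  [Module.Free ℤ_[p] L] [Module.Finite ℤ_[p] L]

theorem localProp_of_isQIrred (ρ : Representation ℤ_[p] G L)
    (hirr : Cfsg.Agent.Lib.Helper17_LatticeLocal.IsQIrred ρ) : LocalProp ρ p := by
  intro e he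
  have hc : Cfsg.Agent.Lib.Helper17_LatticeLocal.Comm ρ e := fun g => (he g).eq
  rcases Cfsg.Agent.Lib.Helper17_LatticeLocal.unit_or_nilpotent_mod_p ρ hirr e hc with
    ⟨e', f, he', hf, h⟩ | ⟨k, f, hf, h⟩
  · exact Or.inl ⟨e', f, fun g => he' g, fun g => hf g, h⟩
  · exact Or.inr ⟨k, f, fun g => hf g, h⟩

/-- **(CT)** modulo the `P`-local lemma. -/
theorem ct_of_pl (ρ : Representation ℤ_[p] G L)
    (hirr : Cfsg.Agent.Lib.Helper17_LatticeLocal.IsQIrred ρ)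
    (hsurjL : PLSurj p L) (htrL : PLTrace p L)
    (htrN : ∀ N : Submodule ℤ_[p] L, PLTrace p N)
    (x₀ : G) (hx₀ : orderOf x₀ = p) (hsyl : ¬ p ∣ (Subgroup.zpowers x₀).index)
    (V : Subgroup G) (hVc : ∀ v ∈ V, Commute v x₀) (hVp : (Nat.card V).Coprime p)
    (hVn : ∀ n ∈ Subgroup.normalizer (Subgroup.zpowers x₀ : Set G), ∀ v ∈ V, n * v * n⁻¹ ∈ V)
    (hC : ∀ c : G, Commute c x₀ → ∃ i : ℕ, ∃ v ∈ V, c = x₀ ^ i * v)
    (hconst : ∀ i : ℕ, 0 < i → i < p → ∀ v ∈ V,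
      LinearMap.trace ℤ_[p] L (ρ (x₀ ^ i * v)) = LinearMap.trace ℤ_[p] L (ρ (x₀ ^ i))) :
    ∃ δ : ℤ, (δ = 0 ∨ δ = 1 ∨ δ = -1) ∧
      ∀ i : ℕ, 0 < i → i < p → LinearMap.trace ℤ_[p] L (ρ (x₀ ^ i)) = (δ : ℤ_[p]) := by
  classical
  set P : Subgroup G := Subgroup.zpowers x₀ with hPdef
  letI : Fintype P := Fintype.ofFinite P
  letI : Fintype (G ⧸ P) := Fintype.ofFinite _
  letI : Fintype V := Fintype.ofFinite V
  have hp0 : 0 < p := hp.out.pos
  have hcard : Fintype.card P = p := by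
    rw [← Nat.card_eq_fintype_card]
    exact (Nat.card_zpowers x₀).trans hx₀
  have hsyl' : ¬ p ∣ Fintype.card (G ⧸ P) := by
    rw [← Nat.card_eq_fintype_card, ← Subgroup.index_eq_card]
    exact hsyl
  have hloc := localProp_of_isQIrred ρ hirr
  have hxp : (ρ x₀) ^ p = 1 := by
    have h0 : x₀ ^ p = 1 := by rw [← hx₀]; exact pow_orderOf_eq_one x₀
    rw [← map_pow, h0, map_one]
  -- the inverse of `|V|`
  have hunit : IsUnit ((Fintype.card V : ℕ) : ℤ_[p]) := by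
    rw [PadicInt.isUnit_iff, PadicInt.norm_natCast_eq_one_iff, ← Nat.card_eq_fintype_card]
    exact hVp.symm
  obtain ⟨u, hu⟩ := hunit.exists_left_inv
  set ε := avgV ρ V u with hε
  have hεε : ε * ε = ε := avgV_mul_avgV ρ V hu
  have hεx : Commute ε (ρ x₀) := commute_avgV ρ V hVc
  have hεP : CommP ρ P ε := (commP_iff ρ x₀ hx₀ hp0 ε).mpr hεx
  have hεN : ∀ n ∈ Subgroup.normalizer (P : Set G), cj ρ n ε = ε := by
    intro n hn
    refine cj_avgV ρ V (hVn n hn) (fun v hv => ?_)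
    have := hVn n⁻¹ (Subgroup.inv_mem _ hn) v hv
    rwa [inv_inv] at this
  have hεA : InAP ρ P ε := hεP.inAP ρ P
  rcases n_dich ρ P hloc hcard hsyl' hεP
    (fun n hn => by rw [hεN n hn, sub_self]; exact inKP_zero ρ P) with ⟨φ', hφ', h⟩ | ⟨k, hk⟩
  · -- Case B: `ε` acts as the identity on `H`
    have h1 : InKP ρ P (1 - ε) := by
      have h2 : 1 - ε = -((1 - ε) * (ε * φ' - 1)) := by
        have h3 : (1 - ε) * ε = 0 := by rw [sub_mul, one_mul, hεε, sub_self]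
        have h4 : (1 - ε) * (ε * φ' - 1) = (1 - ε) * ε * φ' - (1 - ε) := by noncomm_ring
        rw [h4, h3, zero_mul, zero_sub, neg_neg]
      rw [h2]
      exact InKP.neg ρ P (InKP.mul_left ρ P ((inAP_one ρ P).sub ρ P hεA) h)
    have hV1 : ∀ v ∈ V, InKP ρ P (ρ v - 1) := by
      intro v hv
      have h2 : ρ v - 1 = (ρ v - 1) * (1 - ε) := by
        have h3 : (ρ v - 1) * ε = 0 := by
          rw [sub_mul, one_mul, rho_mul_avgV ρ V hu hv, sub_self]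
        have h4 : (ρ v - 1) * (1 - ε) = (ρ v - 1) - (ρ v - 1) * ε := by noncomm_ring
        rw [h4, h3, sub_zero]
      rw [h2]
      have hvP : CommP ρ P (ρ v) := by
        rw [commP_iff ρ x₀ hx₀ hp0]
        show ρ v * ρ x₀ = ρ x₀ * ρ v
        rw [← map_mul, ← map_mul, (hVc v hv).eq]
      exact InKP.mul_left ρ P ((hvP.inAP ρ P).sub ρ P (inAP_one ρ P)) h1
    have hC1 : ∀ c ∈ Subgroup.centralizer ({x₀} : Set G), InKP ρ P (ρ c - 1) := by
      intro c hc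
      rw [Subgroup.mem_centralizer_singleton_iff] at hc
      obtain ⟨i, v, hv, rfl⟩ := hC c hc
      have hxi : x₀ ^ i ∈ P := Subgroup.pow_mem _ (Subgroup.mem_zpowers x₀) i
      have h2 : ρ (x₀ ^ i * v) - 1 = ρ (x₀ ^ i) * (ρ v - 1) + (ρ (x₀ ^ i) - 1) := by
        rw [map_mul]; noncomm_ring
      rw [h2]
      have hxiP : CommP ρ P (ρ (x₀ ^ i)) := by
        rw [commP_iff ρ x₀ hx₀ hp0, map_pow]
        exact (Commute.refl (ρ x₀)).pow_left i
      exact (InKP.mul_left ρ P (hxiP.inAP ρ P) (hV1 v hv)).add ρ P (inKP_rho_sub_one ρ P hxi)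
    have hNab : ∀ n ∈ Subgroup.normalizer (P : Set G), ∀ n' ∈ Subgroup.normalizer (P : Set G),
        n⁻¹ * (n' * n * n'⁻¹) ∈ Subgroup.centralizer ({x₀} : Set G) := by
      intro n hn n' hn'
      rw [Subgroup.mem_centralizer_singleton_iff]
      exact (comm_commute hx₀ hn hn').eq
    have hNexp : ∀ n ∈ Subgroup.normalizer (P : Set G),
        n ^ (p - 1) ∈ Subgroup.centralizer ({x₀} : Set G) := by
      intro n hn
      rw [Subgroup.mem_centralizer_singleton_iff]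
      exact (pow_commute hx₀ hn).eq
    have hsurj : ∀ ψ, InAP ρ P ψ → ∃ φ, CommP ρ P φ ∧ InKP ρ P (ψ - φ) := by
      intro ψ hψ
      obtain ⟨φ, hφ, hφK⟩ := hsurjL (ρ x₀) hxp ψ ((inAP_iff ρ x₀ hx₀ hp0 ψ).mp hψ)
      exact ⟨φ, (commP_iff ρ x₀ hx₀ hp0 φ).mpr hφ, (inKP_iff ρ x₀ hx₀ hp0 _).mpr hφK⟩
    have hdich : ∀ φ : Module.End ℤ_[p] L, Commute φ (ρ x₀) →
        (∃ φ' : Module.End ℤ_[p] L, Commute φ' (ρ x₀) ∧ InK p (ρ x₀) (φ * φ' - 1)) ∨
          (∃ k : ℕ, InK p (ρ x₀) (φ ^ k)) := by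
      intro φ hφ
      rcases dichP ρ P hloc hcard hsyl' hsurj _ hC1 hNab hNexp
        ((commP_iff ρ x₀ hx₀ hp0 φ).mpr hφ) with ⟨φ'', hφ'', h''⟩ | ⟨k, hk⟩
      · exact Or.inl ⟨φ'', (commP_iff ρ x₀ hx₀ hp0 φ'').mp hφ'',
          (inKP_iff ρ x₀ hx₀ hp0 _).mp h''⟩
      · exact Or.inr ⟨k, (inKP_iff ρ x₀ hx₀ hp0 _).mp hk⟩
    obtain ⟨δ, hδ, htr⟩ := htrL (ρ x₀) hxp hdich
    refine ⟨δ, hδ, fun i hi hip => ?_⟩
    rw [map_pow]
    exact htr i hi hip
  · -- Case A: `ε` acts as zero on `H`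
    have hεK : InKP ρ P ε := by
      cases k with
      | zero =>
        rw [pow_zero] at hk
        have := InKP.mul_left ρ P hεA hk
        rwa [mul_one] at this
      | succ k =>
        have hidem : IsIdempotentElem ε := hεε
        rwa [hidem.pow_succ_eq] at hk
    have hεK' : InK p (ρ x₀) ε := (inKP_iff ρ x₀ hx₀ hp0 ε).mp hεK
    set N₁ : Submodule ℤ_[p] L := LinearMap.range ε with hN₁
    have hmemN : ∀ l : L, l ∈ N₁ ↔ ε l = l := by
      intro l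
      constructor
      · rintro ⟨m, rfl⟩
        calc ε (ε m) = (ε * ε) m := rfl
          _ = ε m := by rw [hεε]
      · intro h
        exact ⟨l, h⟩
    have hεcomm : ∀ l, ε (ρ x₀ l) = ρ x₀ (ε l) := fun l => by
      calc ε (ρ x₀ l) = (ε * ρ x₀) l := rfl
        _ = (ρ x₀ * ε) l := by rw [hεx.eq]
    have hstab : ∀ l ∈ N₁, ρ x₀ l ∈ N₁ := by
      intro l hl
      rw [hmemN] at hl ⊢
      rw [hεcomm, hl]
    set x₁ : Module.End ℤ_[p] N₁ := (ρ x₀).restrict hstab with hx₁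
    have hx₁p : x₁ ^ p = 1 := by
      rw [hx₁, Module.End.pow_restrict p hstab]
      ext l
      simp [hxp]
    have hεnu : ∀ l, ε (nuE p (ρ x₀) l) = nuE p (ρ x₀) (ε l) := by
      intro l
      have hc : Commute ε (nuE p (ρ x₀)) := by
        unfold nuE
        exact Commute.sum_right _ _ _ (fun i _ => hεx.pow_right i)
      calc ε (nuE p (ρ x₀) l) = (ε * nuE p (ρ x₀)) l := rfl
        _ = (nuE p (ρ x₀) * ε) l := by rw [hc.eq]
    have hK1 : InK p x₁ 1 := by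
      refine ⟨fun l hl => ?_, fun l hl => ?_⟩
      · have hl' : ρ x₀ (l : L) = (l : L) := by
          have := congrArg (Subtype.val : N₁ → L) hl
          simpa [hx₁] using this
        obtain ⟨m₀, hm₀⟩ := hεK'.1 (l : L) hl'
        have hlε : ε (l : L) = (l : L) := (hmemN _).mp l.2
        refine ⟨⟨ε m₀, ⟨m₀, rfl⟩⟩, ?_⟩
        apply Subtype.ext
        rw [nuE_restrict_apply]
        show (l : L) = nuE p (ρ x₀) (ε m₀)
        rw [← hεnu, ← hm₀]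
        simp only [hlε]
      · have hl' : nuE p (ρ x₀) (l : L) = 0 := by
          have := congrArg (Subtype.val : N₁ → L) hl
          rw [nuE_restrict_apply] at this
          simpa using this
        obtain ⟨m₀, hm₀⟩ := hεK'.2 (l : L) hl'
        have hlε : ε (l : L) = (l : L) := (hmemN _).mp l.2
        refine ⟨⟨ε m₀, ⟨m₀, rfl⟩⟩, ?_⟩
        apply Subtype.ext
        show (l : L) = ρ x₀ (ε m₀) - ε m₀
        rw [← hεcomm, ← map_sub, ← hm₀, hlε, hlε]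
    have hdich₁ : ∀ φ : Module.End ℤ_[p] N₁, Commute φ x₁ →
        (∃ φ' : Module.End ℤ_[p] N₁, Commute φ' x₁ ∧ InK p x₁ (φ * φ' - 1)) ∨
          (∃ k : ℕ, InK p x₁ (φ ^ k)) := fun φ _ => Or.inr ⟨0, by rw [pow_zero]; exact hK1⟩
    obtain ⟨δ, hδ, htr⟩ := htrN N₁ x₁ hx₁p hdich₁
    refine ⟨δ, hδ, fun i hi hip => ?_⟩
    rw [← htr i hi hip, ← trace_mul_avgV ρ V (x₀ ^ i) (hconst i hi hip) hu]
    -- `tr (x^i ε) = tr (x₁^i)`
    let π : L →ₗ[ℤ_[p]] N₁ := ε.rangeRestrict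
    let ι : N₁ →ₗ[ℤ_[p]] L := N₁.subtype
    have h1 : ρ (x₀ ^ i) * avgV ρ V u = (ρ (x₀ ^ i) ∘ₗ ι) ∘ₗ π := by
      ext l
      rfl
    have h2 : π ∘ₗ (ρ (x₀ ^ i) ∘ₗ ι) = x₁ ^ i := by
      rw [hx₁, Module.End.pow_restrict i hstab]
      ext l
      show ε (ρ (x₀ ^ i) (l : L)) = ((ρ x₀) ^ i) (l : L)
      rw [map_pow]
      have hc : Commute ε ((ρ x₀) ^ i) := hεx.pow_right i
      calc ε (((ρ x₀) ^ i) (l : L)) = (ε * (ρ x₀) ^ i) (l : L) := rfl
        _ = ((ρ x₀) ^ i * ε) (l : L) := by rw [hc.eq]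
        _ = ((ρ x₀) ^ i) (ε (l : L)) := rfl
        _ = ((ρ x₀) ^ i) (l : L) := by rw [(hmemN _).mp l.2]
    rw [h1, LinearMap.trace_comp_comm', h2]

end Cfsg.Agent.Lib.Helper57_CT
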