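import Mathlib
import Cfsg.Prelude.Def_Characters
import Cfsg.Agent.Lib.Helper75_GalConj
import Cfsg.Agent.Lib.Helper75_CharArith
import Cfsg.Agent.Lib.Helper3_CharComplete
import Cfsg.Agent.Lib.Helper3_CharColumn

/-!
# Orbits of power maps on irreducible characters (helper57)

Part of the S0960/S4441 project: the decomposition of a character invariant under a set `Γ` of
power maps, supported on one `Γ`-orbit, is a multiple of the orbit sum.
-/

set_option autoImplicit false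
open scoped ComplexConjugate

namespace Cfsg.Agent.Lib.Helper57_GalOrbit

open Cfsg Cfsg.Agent.Lib.Helper3_CharComplete Cfsg.Agent.Lib.Helper75_CharArith

variable {G : Type*} [Group G] [Fintype G]

/-- The Galois conjugate `g ↦ χ (g ^ k)`. -/
noncomputable def pw (k : ℕ) (hk : k.Coprime (Nat.card G)) (χ : IrrCharacter G) : IrrCharacter G :=
  ⟨fun g => (χ : G → ℂ) (g ^ k), Cfsg.Agent.Lib.Helper75_GalConj.isIrrCharacter_powMap χ.2 k hk⟩

@[simp] theorem pw_apply (k : ℕ) (hk : k.Coprime (Nat.card G)) (χ : IrrCharacter G) (g : G) :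
    (pw k hk χ : G → ℂ) g = (χ : G → ℂ) (g ^ k) := rfl

theorem pw_injective (k : ℕ) (hk : k.Coprime (Nat.card G)) :
    Function.Injective (pw (G := G) k hk) := by
  intro χ ψ h
  apply Subtype.ext
  funext g
  obtain ⟨g', rfl⟩ := (powCoprime hk.symm).surjective g
  rw [powCoprime_apply]
  exact congrFun (congrArg Subtype.val h) g'

theorem sum_pw {A : Type*} [AddCommMonoid A] (S : Finset (IrrCharacter G)) (k : ℕ)
    (hk : k.Coprime (Nat.card G)) (hS : ∀ χ ∈ S, pw k hk χ ∈ S) (f : IrrCharacter G → A) :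
    ∑ χ ∈ S, f (pw k hk χ) = ∑ χ ∈ S, f χ := by
  classical
  have himg : Finset.image (pw k hk) S = S := by
    apply Finset.eq_of_subset_of_card_le
    · intro χ hχ
      obtain ⟨χ', hχ', rfl⟩ := Finset.mem_image.mp hχ
      exact hS χ' hχ'
    · rw [Finset.card_image_of_injective S (pw_injective k hk)]
  conv_rhs => rw [← himg]
  rw [Finset.sum_image]
  intro a _ b _ hab
  exact pw_injective k hk hab

/-- Inner products are invariant under simultaneous power maps. -/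
theorem classInner_pow (φ ψ : G → ℂ) (k : ℕ) (hk : k.Coprime (Nat.card G)) :
    classInner (fun g => φ (g ^ k)) (fun g => ψ (g ^ k)) = classInner φ ψ := by
  unfold classInner
  congr 1
  refine Fintype.sum_equiv (powCoprime hk.symm) _ _ (fun g => ?_)
  rw [powCoprime_apply]

section orbit

variable (Γ : Set ℕ) (hΓc : ∀ k ∈ Γ, k.Coprime (Nat.card G)) (hΓ1 : 1 ∈ Γ)
  (hΓm : ∀ k ∈ Γ, ∀ l ∈ Γ, k * l ∈ Γ)

open Classical in
/-- The `Γ`-orbit of `χ`, as a finset. -/
noncomputable def orb (χ : IrrCharacter G) : Finset (IrrCharacter G) :=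
  Finset.univ.filter (fun χ' => ∃ k ∈ Γ, ∀ g, (χ' : G → ℂ) g = (χ : G → ℂ) (g ^ k))

theorem mem_orb {χ χ' : IrrCharacter G} :
    χ' ∈ orb Γ χ ↔ ∃ k ∈ Γ, ∀ g, (χ' : G → ℂ) g = (χ : G → ℂ) (g ^ k) := by
  classical
  simp [orb]

include hΓ1 in
theorem self_mem_orb (χ : IrrCharacter G) : χ ∈ orb Γ χ :=
  (mem_orb Γ).mpr ⟨1, hΓ1, fun g => by rw [pow_one]⟩

include hΓm in
theorem pw_mem_orb {χ χ' : IrrCharacter G} (h : χ' ∈ orb Γ χ) {k : ℕ} (hk : k ∈ Γ)
    (hkc : k.Coprime (Nat.card G)) : pw k hkc χ' ∈ orb Γ χ := by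
  obtain ⟨l, hl, hl'⟩ := (mem_orb Γ).mp h
  refine (mem_orb Γ).mpr ⟨k * l, hΓm k hk l hl, fun g => ?_⟩
  rw [pw_apply, hl', pow_mul]

include hΓc in
theorem eq_pw_of_mem_orb {χ χ' : IrrCharacter G} (h : χ' ∈ orb Γ χ) :
    ∃ (k : ℕ) (hk : k ∈ Γ), χ' = pw k (hΓc k hk) χ := by
  obtain ⟨l, hl, hl'⟩ := (mem_orb Γ).mp h
  exact ⟨l, hl, Subtype.ext (funext hl')⟩

include hΓc in
/-- **Orbit decomposition.**  A `Γ`-invariant character whose constituents lie in the `Γ`-orbit of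
`χ` is `m` times the orbit sum. -/
theorem eq_mul_orbit_sum {φ : G → ℂ} (hφ : IsCharacter G φ)
    (hinv : ∀ k ∈ Γ, ∀ g, φ (g ^ k) = φ g) (χ : IrrCharacter G)
    (hoff : ∀ ψ : IrrCharacter G, ψ ∉ orb Γ χ → classInner φ (ψ : G → ℂ) = 0) :
    ∃ m : ℕ, ∀ g, φ g = (m : ℂ) * ∑ ψ ∈ orb Γ χ, (ψ : G → ℂ) g := by
  classical
  obtain ⟨m, hm⟩ := classInner_isCharacter_nat hφ
    (Cfsg.Agent.Lib.Helper3_CharBridge.isCharacter_of_isIrrCharacter χ.2)
  refine ⟨m, fun g => ?_⟩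
  have hcl : IsClassFunction G φ := by
    obtain ⟨n, ρ, rfl⟩ := hφ
    intro a b
    exact Representation.char_conj ρ _ _
  have hmult : ∀ ψ ∈ orb Γ χ, classInner φ (ψ : G → ℂ) = m := by
    intro ψ hψ
    obtain ⟨k, hk, rfl⟩ := eq_pw_of_mem_orb Γ hΓc hψ
    rw [← hm]
    have h1 := classInner_pow φ (χ : G → ℂ) k (hΓc k hk)
    rw [← h1]
    congr 1
    funext g
    exact (hinv k hk g).symm
  have h2 := congrFun (classFunction_eq_sum φ hcl) g
  rw [h2, Finset.sum_apply]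
  rw [← Finset.sum_subset (Finset.subset_univ (orb Γ χ))]
  · rw [Finset.mul_sum]
    refine Finset.sum_congr rfl (fun ψ hψ => ?_)
    rw [Pi.smul_apply, smul_eq_mul, hmult ψ hψ]
  · intro ψ _ hψ
    rw [Pi.smul_apply, hoff ψ hψ, zero_smul]

end orbit

end Cfsg.Agent.Lib.Helper57_GalOrbit
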