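import Mathlib
import Cfsg.Prelude.Def_Characters
import Cfsg.Agent.Lib.Helper3_CharGaloisAct

/-!
# Galois descent for character values over an arbitrary subfield `K₀` of `ℂ` (helper75, D4).

`K₀(ζ_n)` is Galois over `K₀`; its automorphisms raise `n`-th roots of unity to powers `k`;
the set `S` of these exponents is a "multiplicative subgroup mod `n`", characters with values in
`K₀` satisfy `χ (g ^ k) = χ g` for `k ∈ S`, and a `K₀`-combination of irreducible characters that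
is invariant under `g ↦ g ^ k` (`k ∈ S`) takes values in `K₀`.
-/

set_option autoImplicit false
set_option linter.unusedSectionVars false

namespace Cfsg.Agent.Lib.Helper75_GalDescent

open Polynomial
open Cfsg.Agent.Lib.Helper3_CharEigen

section cycK

variable (K₀ : Subfield ℂ)

/-- The field `K₀(ζ_n)` inside `ℂ`. -/
noncomputable def cycK (n : ℕ) : IntermediateField K₀ ℂ :=
  IntermediateField.adjoin K₀ {b : ℂ | ∃ n' ∈ ({n} : Set ℕ), n' ≠ 0 ∧ b ^ n' = 1}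

instance cycK_isCyclotomicExtension (n : ℕ) : IsCyclotomicExtension {n} K₀ (cycK K₀ n) :=
  IntermediateField.isCyclotomicExtension_adjoin_of_exists_isPrimitiveRoot {n} K₀ ℂ
    (fun k _ hk0 => ⟨_, Complex.isPrimitiveRoot_exp k hk0⟩)

theorem mem_cycK {n : ℕ} (hn : n ≠ 0) {μ : ℂ} (h : μ ^ n = 1) : μ ∈ cycK K₀ n :=
  IntermediateField.subset_adjoin _ _ ⟨n, rfl, hn, h⟩

instance cycK_finiteDimensional (n : ℕ) [NeZero n] : FiniteDimensional K₀ (cycK K₀ n) :=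
  IsCyclotomicExtension.finiteDimensional {n} K₀ (cycK K₀ n)

instance cycK_isGalois (n : ℕ) [NeZero n] : IsGalois K₀ (cycK K₀ n) :=
  IsCyclotomicExtension.isGalois {n} K₀ (cycK K₀ n)

/-- The set of exponents `k` realised by `K₀`-automorphisms of `K₀(ζ_n)`. -/
def galPowers (n : ℕ) : Set ℕ :=
  {k | ∃ σ : cycK K₀ n ≃ₐ[K₀] cycK K₀ n, ∀ x : cycK K₀ n, x ^ n = 1 → σ x = x ^ k}

/-- Every automorphism of `K₀(ζ_n)` raises roots of unity to a fixed power coprime to `n`. -/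
theorem autK_eq_pow (n : ℕ) [NeZero n] (σ : cycK K₀ n ≃ₐ[K₀] cycK K₀ n) :
    ∃ m : ℕ, m.Coprime n ∧ ∀ x : cycK K₀ n, x ^ n = 1 → σ x = x ^ m := by
  have hζ := IsCyclotomicExtension.zeta_spec n K₀ (cycK K₀ n)
  refine ⟨((hζ.autToPow K₀ σ : (ZMod n)ˣ) : ZMod n).val, ZMod.val_coe_unit_coprime _, ?_⟩
  intro x hx
  obtain ⟨i, -, rfl⟩ := hζ.eq_pow_of_pow_eq_one hx
  rw [map_pow, ← hζ.autToPow_spec K₀ σ, ← pow_mul, ← pow_mul, mul_comm]

theorem exists_mem_galPowers (n : ℕ) [NeZero n] (σ : cycK K₀ n ≃ₐ[K₀] cycK K₀ n) :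
    ∃ m ∈ galPowers K₀ n, ∀ x : cycK K₀ n, x ^ n = 1 → σ x = x ^ m := by
  obtain ⟨m, -, hm⟩ := autK_eq_pow K₀ n σ
  exact ⟨m, ⟨σ, hm⟩, hm⟩

theorem one_mem_galPowers (n : ℕ) : 1 ∈ galPowers K₀ n :=
  ⟨AlgEquiv.refl, fun x _ => by simp⟩

theorem mul_mem_galPowers (n : ℕ) {k l : ℕ} (hk : k ∈ galPowers K₀ n)
    (hl : l ∈ galPowers K₀ n) : k * l ∈ galPowers K₀ n := by
  obtain ⟨σ, hσ⟩ := hk
  obtain ⟨τ, hτ⟩ := hl
  refine ⟨τ.trans σ, fun x hx => ?_⟩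
  rw [AlgEquiv.trans_apply, hτ x hx, map_pow, hσ x hx, ← pow_mul]

theorem coprime_of_mem_galPowers (n : ℕ) [NeZero n] {k : ℕ} (hk : k ∈ galPowers K₀ n) :
    k.Coprime n := by
  obtain ⟨σ, hσ⟩ := hk
  have hζ := IsCyclotomicExtension.zeta_spec n K₀ (cycK K₀ n)
  have h1 : IsPrimitiveRoot (σ (IsCyclotomicExtension.zeta n K₀ (cycK K₀ n))) n :=
    hζ.map_of_injective σ.injective
  rw [hσ _ hζ.pow_eq_one] at h1
  exact (hζ.pow_iff_coprime (NeZero.pos n) k).mp h1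

theorem exists_inv_mem_galPowers (n : ℕ) [NeZero n] {k : ℕ} (hk : k ∈ galPowers K₀ n) :
    ∃ l ∈ galPowers K₀ n, k * l ≡ 1 [MOD n] := by
  obtain ⟨σ, hσ⟩ := hk
  obtain ⟨l, hl, hl'⟩ := exists_mem_galPowers K₀ n σ.symm
  refine ⟨l, hl, ?_⟩
  have hζ := IsCyclotomicExtension.zeta_spec n K₀ (cycK K₀ n)
  have h1 : IsCyclotomicExtension.zeta n K₀ (cycK K₀ n) ^ (k * l) =
      IsCyclotomicExtension.zeta n K₀ (cycK K₀ n) ^ 1 := by
    have h2 := σ.apply_symm_apply (IsCyclotomicExtension.zeta n K₀ (cycK K₀ n))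
    rw [hl' _ hζ.pow_eq_one, map_pow, hσ _ hζ.pow_eq_one, ← pow_mul] at h2
    rw [h2, pow_one]
  have hfin : IsOfFinOrder (IsCyclotomicExtension.zeta n K₀ (cycK K₀ n)) :=
    isOfFinOrder_iff_pow_eq_one.mpr ⟨n, NeZero.pos n, hζ.pow_eq_one⟩
  have h3 := hfin.pow_eq_pow_iff_modEq.mp h1
  rwa [← hζ.eq_orderOf] at h3

end cycK

section chars

variable (K₀ : Subfield ℂ)
variable {G : Type*} [Group G] [Finite G] {V : Type*} [AddCommGroup V] [Module ℂ V]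
  [FiniteDimensional ℂ V] (ρ : Representation ℂ G V)

open Cfsg.Agent.Lib.Helper3_CharGaloisAct in
theorem eig_mem_cycK {g : G} {μ : ℂ} (hμ : μ ∈ eigSet (ρ g)) : μ ∈ cycK K₀ (Nat.card G) :=
  mem_cycK K₀ Nat.card_pos.ne' (eig_pow_card ρ hμ)

/-- The character value `χ(g)` as an element of `K₀(ζ_{|G|})`. -/
noncomputable def charKK (g : G) : cycK K₀ (Nat.card G) :=
  ∑ μ ∈ (eigSet (ρ g)).attach,
    (Module.finrank ℂ (Module.End.eigenspace (ρ g) μ.1) : cycK K₀ (Nat.card G)) *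
      ⟨μ.1, eig_mem_cycK K₀ ρ μ.2⟩

theorem coe_charKK (g : G) :
    ((charKK K₀ ρ g : cycK K₀ (Nat.card G)) : ℂ) = ρ.character g := by
  have hφ : ∀ x : cycK K₀ (Nat.card G), (x : ℂ) = algebraMap (cycK K₀ (Nat.card G)) ℂ x :=
    fun x => rfl
  have hφμ : ∀ μ : {μ // μ ∈ eigSet (ρ g)},
      algebraMap (cycK K₀ (Nat.card G)) ℂ ⟨μ.1, eig_mem_cycK K₀ ρ μ.2⟩ = μ.1 := fun μ => rfl
  rw [hφ, charKK, map_sum, char_eq_sum ρ g,
    ← Finset.sum_attach (eigSet (ρ g))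
      (fun μ => (Module.finrank ℂ (Module.End.eigenspace (ρ g) μ) : ℂ) * μ)]
  refine Finset.sum_congr rfl (fun μ _ => ?_)
  rw [map_mul, map_natCast, hφμ]

open Cfsg.Agent.Lib.Helper3_CharGaloisAct in
/-- If `σ` raises `|G|`-th roots of unity to the `m`-th power, then `σ(χ(g)) = χ(g ^ m)`. -/
theorem coe_aut_charKK (g : G) (σ : cycK K₀ (Nat.card G) ≃ₐ[K₀] cycK K₀ (Nat.card G)) (m : ℕ)
    (hσ : ∀ x : cycK K₀ (Nat.card G), x ^ Nat.card G = 1 → σ x = x ^ m) :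
    ((σ (charKK K₀ ρ g) : cycK K₀ (Nat.card G)) : ℂ) = ρ.character (g ^ m) := by
  have hφ : ∀ x : cycK K₀ (Nat.card G), (x : ℂ) = algebraMap (cycK K₀ (Nat.card G)) ℂ x :=
    fun x => rfl
  have hφμ : ∀ μ : {μ // μ ∈ eigSet (ρ g)},
      algebraMap (cycK K₀ (Nat.card G)) ℂ ⟨μ.1, eig_mem_cycK K₀ ρ μ.2⟩ = μ.1 := fun μ => rfl
  rw [hφ, charKK, map_sum, map_sum, char_pow_eq_sum ρ g m,
    ← Finset.sum_attach (eigSet (ρ g))
      (fun μ => (Module.finrank ℂ (Module.End.eigenspace (ρ g) μ) : ℂ) * μ ^ m)]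
  refine Finset.sum_congr rfl (fun μ _ => ?_)
  have h1 : (⟨μ.1, eig_mem_cycK K₀ ρ μ.2⟩ : cycK K₀ (Nat.card G)) ^ Nat.card G = 1 := by
    apply Subtype.ext
    simp [eig_pow_card ρ μ.2]
  rw [map_mul, map_natCast, hσ _ h1, map_mul, map_natCast, map_pow, hφμ]

/-- Packaged form: a character has a lift to `K₀(ζ_{|G|})` on which the Galois group acts by
powers. -/
theorem exists_lift_of_isCharacter {χ : G → ℂ} (hχ : Cfsg.IsCharacter G χ) :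
    ∃ f : G → cycK K₀ (Nat.card G), (∀ g, ((f g : cycK K₀ (Nat.card G)) : ℂ) = χ g) ∧
      ∀ (σ : cycK K₀ (Nat.card G) ≃ₐ[K₀] cycK K₀ (Nat.card G)) (m : ℕ),
        (∀ x : cycK K₀ (Nat.card G), x ^ Nat.card G = 1 → σ x = x ^ m) →
        ∀ g, ((σ (f g) : cycK K₀ (Nat.card G)) : ℂ) = χ (g ^ m) := by
  obtain ⟨n, ρ, rfl⟩ := hχ
  exact ⟨charKK K₀ ρ, coe_charKK K₀ ρ, fun σ m hσ g => coe_aut_charKK K₀ ρ g σ m hσ⟩

theorem isCharacter_of_isIrr {χ : G → ℂ} (hχ : Cfsg.IsIrrCharacter G χ) :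
    Cfsg.IsCharacter G χ := by
  obtain ⟨n, ρ, -, h⟩ := hχ
  exact ⟨n, ρ, h⟩

end chars

/-- D4: Galois descent for character values over an arbitrary subfield `K₀` of `ℂ`.
`S` = the set of exponents `k` such that some `K₀`-automorphism of `K₀(ζ_n)`, `n = |G|`, raises
`n`-th roots of unity to the `k`-th power. -/
theorem exists_galois_powers {G : Type*} [Group G] [Finite G] (K₀ : Subfield ℂ) :
    ∃ S : Set ℕ, 1 ∈ S ∧ (∀ k ∈ S, k.Coprime (Nat.card G)) ∧ (∀ k ∈ S, ∀ l ∈ S, k * l ∈ S) ∧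
      (∀ k ∈ S, ∃ l ∈ S, k * l ≡ 1 [MOD Nat.card G]) ∧
      (∀ χ : G → ℂ, Cfsg.IsCharacter G χ → (∀ g, χ g ∈ K₀) → ∀ k ∈ S, ∀ g, χ (g ^ k) = χ g) ∧
      (∀ (s : Finset (Cfsg.IrrCharacter G)) (c : Cfsg.IrrCharacter G → ℂ), (∀ ψ ∈ s, c ψ ∈ K₀) →
        (∀ k ∈ S, ∀ g, ∑ ψ ∈ s, c ψ * (ψ : G → ℂ) (g ^ k) = ∑ ψ ∈ s, c ψ * (ψ : G → ℂ) g) →
        ∀ g, ∑ ψ ∈ s, c ψ * (ψ : G → ℂ) g ∈ K₀) := by
  have hne : NeZero (Nat.card G) := ⟨Nat.card_pos.ne'⟩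
  refine ⟨galPowers K₀ (Nat.card G), one_mem_galPowers K₀ _,
    fun k hk => coprime_of_mem_galPowers K₀ _ hk,
    fun k hk l hl => mul_mem_galPowers K₀ _ hk hl,
    fun k hk => exists_inv_mem_galPowers K₀ _ hk, ?_, ?_⟩
  · intro χ hχ hK k hk g
    obtain ⟨f, hf, hfσ⟩ := exists_lift_of_isCharacter K₀ hχ
    obtain ⟨σ, hσ⟩ := hk
    rw [← hfσ σ k hσ g]
    have h1 : f g = algebraMap K₀ (cycK K₀ (Nat.card G)) ⟨χ g, hK g⟩ := by
      apply Subtype.ext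
      rw [hf]
      rfl
    rw [h1, AlgEquiv.commutes, ← h1, hf]
  · intro s c hc hinv g
    classical
    choose f hf hfσ using fun ψ : Cfsg.IrrCharacter G =>
      exists_lift_of_isCharacter K₀ (isCharacter_of_isIrr ψ.2)
    set c' : Cfsg.IrrCharacter G → K₀ := fun ψ => if h : c ψ ∈ K₀ then ⟨c ψ, h⟩ else 0 with hc'
    have hc'c : ∀ ψ ∈ s, ((c' ψ : K₀) : ℂ) = c ψ := by
      intro ψ hψ
      simp only [hc', dif_pos (hc ψ hψ)]
    set y : cycK K₀ (Nat.card G) :=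
      ∑ ψ ∈ s, algebraMap K₀ (cycK K₀ (Nat.card G)) (c' ψ) * f ψ g with hy
    have hφ : ∀ x : cycK K₀ (Nat.card G), (x : ℂ) = algebraMap (cycK K₀ (Nat.card G)) ℂ x :=
      fun x => rfl
    have hKφ : ∀ a : K₀, algebraMap (cycK K₀ (Nat.card G)) ℂ
        (algebraMap K₀ (cycK K₀ (Nat.card G)) a) = (a : ℂ) := fun a => rfl
    have hycoe : ((y : cycK K₀ (Nat.card G)) : ℂ) = ∑ ψ ∈ s, c ψ * (ψ : G → ℂ) g := by
      rw [hφ, hy, map_sum]
      refine Finset.sum_congr rfl (fun ψ hψ => ?_)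
      rw [map_mul, hKφ, hc'c ψ hψ, ← hφ, hf]
    have hfix : ∀ σ : cycK K₀ (Nat.card G) ≃ₐ[K₀] cycK K₀ (Nat.card G), σ y = y := by
      intro σ
      obtain ⟨m, hm, hσ⟩ := exists_mem_galPowers K₀ (Nat.card G) σ
      apply Subtype.ext
      rw [hycoe, ← hinv m hm g, hφ, hy, map_sum, map_sum]
      refine Finset.sum_congr rfl (fun ψ hψ => ?_)
      rw [map_mul, map_mul, AlgEquiv.commutes, hKφ, hc'c ψ hψ, ← hφ, hfσ ψ σ m hσ]
    have hbot := (IsGalois.mem_bot_iff_fixed (F := K₀) y).mpr hfix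
    obtain ⟨q, hq⟩ := IntermediateField.mem_bot.mp hbot
    rw [← hycoe, ← hq]
    exact q.2

end Cfsg.Agent.Lib.Helper75_GalDescent
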