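import Mathlib
import Cfsg.Prelude.Def_Characters
import Cfsg.Agent.Lib.Helper57_CT
import Cfsg.Agent.Lib.Helper57_GalOrbit
import Cfsg.Agent.Lib.Helper17_PadicEmbed
import Cfsg.Agent.Lib.Helper75_GalDescent
import Cfsg.Agent.Lib.Helper17_LatChar
import Cfsg.Agent.Lib.Helper13_PLocal
import Cfsg.Agent.Lib.Helper17_PCompl

/-!
# The hypothesis (CT') in complex-character form (helper57)

`ct_hyp`: for a Sylow subgroup `P` of order `p` there is a set `Γ` of Galois exponents such that for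
every irreducible character `χ` constant on the cosets `x · (p-regular part of C_G(P))`, `1 ≠ x ∈ P`,
some positive multiple `m` of the `Γ`-orbit sum of `χ` takes a constant value `δ ∈ {0, 1, -1}` on
`P \\ {1}`.
-/

set_option autoImplicit false
set_option linter.unusedSectionVars false
open scoped ComplexConjugate

namespace Cfsg.Agent.Lib.Helper57_CTHyp

open Cfsg Cfsg.Agent.Lib.Helper57_LatDefs Cfsg.Agent.Lib.Helper57_CT
  Cfsg.Agent.Lib.Helper57_GalOrbit Cfsg.Agent.Lib.Helper17_LatChar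

universe u

variable {G : Type u} [Group G] [Fintype G] {p : ℕ} [hp : Fact p.Prime]

/-- The lattice character takes values in `j(ℚ_p)`. -/
theorem latChar_mem_fieldRange {L : Type*} [AddCommGroup L] [Module ℤ_[p] L] (j : ℚ_[p] →+* ℂ)
    (ρ : Representation ℤ_[p] G L) (g : G) : latChar j ρ g ∈ j.fieldRange :=
  RingHom.mem_fieldRange.mpr ⟨_, rfl⟩

theorem latChar_eq_iff {L : Type*} [AddCommGroup L] [Module ℤ_[p] L] (j : ℚ_[p] →+* ℂ)
    (ρ : Representation ℤ_[p] G L) (g h : G) :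
    latChar j ρ g = latChar j ρ h ↔
      LinearMap.trace ℤ_[p] L (ρ g) = LinearMap.trace ℤ_[p] L (ρ h) := by
  unfold latChar
  constructor
  · intro h1
    have h2 := j.injective h1
    exact Subtype.ext h2
  · intro h1
    rw [h1]

theorem latChar_one {L : Type*} [AddCommGroup L] [Module ℤ_[p] L] [Module.Free ℤ_[p] L]
    [Module.Finite ℤ_[p] L] (j : ℚ_[p] →+* ℂ) (ρ : Representation ℤ_[p] G L) :
    latChar j ρ 1 = (Module.finrank ℤ_[p] L : ℂ) := by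
  unfold latChar
  rw [map_one, LinearMap.trace_one]
  simp

/-- The core of `ct_hyp`, for a fixed generator `x₀`, complement `V`, embedding `j` and the Galois
exponents `Γ` of `j(ℚ_p)`. -/
theorem ct_core (j : ℚ_[p] →+* ℂ) (Γ : Set ℕ) (hΓ1 : 1 ∈ Γ)
    (hΓc : ∀ k ∈ Γ, k.Coprime (Nat.card G)) (hΓm : ∀ k ∈ Γ, ∀ l ∈ Γ, k * l ∈ Γ)
    (hΓinv : ∀ χ : G → ℂ, IsCharacter G χ → (∀ g, χ g ∈ j.fieldRange) →
      ∀ k ∈ Γ, ∀ g, χ (g ^ k) = χ g)
    (hΓdesc : ∀ (s : Finset (IrrCharacter G)) (c : IrrCharacter G → ℂ),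
      (∀ ψ ∈ s, c ψ ∈ j.fieldRange) →
      (∀ k ∈ Γ, ∀ g, ∑ ψ ∈ s, c ψ * (ψ : G → ℂ) (g ^ k) = ∑ ψ ∈ s, c ψ * (ψ : G → ℂ) g) →
      ∀ g, ∑ ψ ∈ s, c ψ * (ψ : G → ℂ) g ∈ j.fieldRange)
    (x₀ : G) (hx₀ : orderOf x₀ = p) (hsyl : ¬ p ∣ (Subgroup.zpowers x₀).index)
    (V : Subgroup G) (hVc : ∀ v ∈ V, Commute v x₀) (hVp : (Nat.card V).Coprime p)
    (hVn : ∀ n ∈ Subgroup.normalizer (Subgroup.zpowers x₀ : Set G), ∀ v ∈ V, n * v * n⁻¹ ∈ V)
    (hC : ∀ c : G, Commute c x₀ → ∃ i : ℕ, ∃ v ∈ V, c = x₀ ^ i * v)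
    (χ : IrrCharacter G)
    (hχ : ∀ i : ℕ, ¬ p ∣ i → ∀ v ∈ V, (χ : G → ℂ) (x₀ ^ i * v) = (χ : G → ℂ) (x₀ ^ i)) :
    ∃ (m : ℕ) (δ : ℤ), 0 < m ∧ (δ = 0 ∨ δ = 1 ∨ δ = -1) ∧ ∀ i : ℕ, 0 < i → i < p →
      (m : ℂ) * ∑ ψ ∈ orb Γ χ, (ψ : G → ℂ) (x₀ ^ i) = (δ : ℂ) := by
  classical
  -- the orbit idempotent has coefficients in `j(ℚ_p)`
  have hK : ∀ g : G, ∑ ψ ∈ orb Γ χ, (ψ : G → ℂ) 1 * (ψ : G → ℂ) g ∈ j.range := by
    intro g
    have h1 := hΓdesc (orb Γ χ) (fun ψ => (ψ : G → ℂ) 1) (fun ψ _ => ?_) (fun k hk g => ?_) g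
    · exact RingHom.mem_range.mpr (RingHom.mem_fieldRange.mp h1)
    · obtain ⟨n, _, hn⟩ := Cfsg.Agent.Lib.Helper3_CharColumn.irr_one_eq_natCast ψ.2
      rw [hn]
      exact natCast_mem _ n
    · have h2 := sum_pw (orb Γ χ) k (hΓc k hk)
        (fun ψ hψ => pw_mem_orb Γ hΓm hψ hk (hΓc k hk))
        (fun ψ => (ψ : G → ℂ) 1 * (ψ : G → ℂ) g)
      rw [← h2]
      refine Finset.sum_congr rfl (fun ψ _ => ?_)
      rw [pw_apply, pw_apply, one_pow]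
  obtain ⟨L, iL1, iL2, iL3, iL4, ρ, hirr, hrank, hoff⟩ :=
    exists_qirred_lattice j (orb Γ χ) ⟨χ, self_mem_orb Γ hΓ1 χ⟩ hK
  have hφ : IsCharacter G (latChar j ρ) := isCharacter_latChar j ρ
  have hinv := hΓinv (latChar j ρ) hφ (latChar_mem_fieldRange j ρ)
  obtain ⟨m, hm⟩ := eq_mul_orbit_sum Γ hΓc hφ hinv χ hoff
  have hm0 : 0 < m := by
    rcases Nat.eq_zero_or_pos m with h0 | h0
    · exfalso
      have h1 := hm 1
      rw [h0, Nat.cast_zero, zero_mul, latChar_one] at h1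
      exact hrank (by exact_mod_cast h1)
    · exact h0
  -- constancy of the lattice character on the cosets of `V`
  have hpG : p ∣ Nat.card G := by
    rw [← hx₀]; exact orderOf_dvd_natCard x₀
  have hconst : ∀ i : ℕ, 0 < i → i < p → ∀ v ∈ V,
      LinearMap.trace ℤ_[p] L (ρ (x₀ ^ i * v)) = LinearMap.trace ℤ_[p] L (ρ (x₀ ^ i)) := by
    intro i hi hip v hv
    rw [← latChar_eq_iff j ρ, hm, hm]
    congr 1
    refine Finset.sum_congr rfl (fun ψ hψ => ?_)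
    obtain ⟨k, hk, hψk⟩ := (mem_orb Γ).mp hψ
    rw [hψk, hψk]
    have hcomm : Commute (x₀ ^ i) v := ((hVc v hv).symm.pow_left i)
    rw [hcomm.mul_pow, ← pow_mul]
    have hpik : ¬ p ∣ i * k := by
      intro hdvd
      rcases (Nat.Prime.dvd_mul hp.out).mp hdvd with h | h
      · exact absurd (Nat.le_of_dvd hi h) (not_le.mpr hip)
      · have := Nat.Coprime.eq_one_of_dvd ((hΓc k hk).symm.coprime_dvd_left hpG) h
        exact hp.out.one_lt.ne' this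
    exact hχ (i * k) hpik (v ^ k) (V.pow_mem hv k)
  have hirr' : Cfsg.Agent.Lib.Helper17_LatticeLocal.IsQIrred ρ := hirr
  obtain ⟨δ, hδ, htr⟩ := ct_of_pl ρ hirr'
    (fun x hx ψ hψ => Cfsg.Agent.Lib.Helper13_PLocal.pl_surj x hx ψ hψ)
    (fun x hx hd => Cfsg.Agent.Lib.Helper13_PLocal.pl_trace x hx hd)
    (fun N x hx hd => Cfsg.Agent.Lib.Helper13_PLocal.pl_trace x hx hd)
    x₀ hx₀ hsyl V hVc hVp hVn hC hconst
  refine ⟨m, δ, hm0, hδ, fun i hi hip => ?_⟩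
  rw [← hm]
  unfold latChar
  rw [htr i hi hip]
  simp


/-- A generator of a group of prime order inside `G`. -/
theorem exists_generator_sylow (P : Sylow p G) (hP : Nat.card P = p) :
    ∃ x₀ : G, orderOf x₀ = p ∧ Subgroup.zpowers x₀ = (P : Subgroup G) := by
  have : IsCyclic (P : Subgroup G) := isCyclic_of_prime_card hP
  obtain ⟨g, hg⟩ := IsCyclic.exists_generator (α := (P : Subgroup G))
  have ho : orderOf g = p := by
    rw [orderOf_eq_card_of_forall_mem_zpowers hg, hP]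
  refine ⟨(g : G), by rw [Subgroup.orderOf_coe, ho], ?_⟩
  apply le_antisymm
  · rw [Subgroup.zpowers_le]
    exact g.2
  · intro x hx
    have := hg ⟨x, hx⟩
    obtain ⟨n, hn⟩ := Subgroup.mem_zpowers_iff.mp this
    refine Subgroup.mem_zpowers_iff.mpr ⟨n, ?_⟩
    have := Subtype.ext_iff.mp hn
    simpa using this

/-- **(CT') in complex-character form.** -/
theorem ct_hyp (p : ℕ) [hp : Fact p.Prime] (P : Sylow p G) (hP : Nat.card P = p) :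
    ∃ Γ : Set ℕ, 1 ∈ Γ ∧ (∀ k ∈ Γ, k.Coprime (Nat.card G)) ∧ (∀ k ∈ Γ, ∀ l ∈ Γ, k * l ∈ Γ) ∧
      (∀ k ∈ Γ, ∃ l ∈ Γ, k * l ≡ 1 [MOD Nat.card G]) ∧
      ∀ χ : IrrCharacter G,
        (∀ x ∈ (P : Subgroup G), x ≠ 1 →
          ∀ v ∈ Subgroup.centralizer ((P : Subgroup G) : Set G), ¬ p ∣ orderOf v →
            (χ : G → ℂ) (x * v) = (χ : G → ℂ) x) →
        ∃ (m : ℕ) (δ : ℤ), 0 < m ∧ (δ = 0 ∨ δ = 1 ∨ δ = -1) ∧
          ∀ x ∈ (P : Subgroup G), x ≠ 1 →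
            (m : ℂ) * ∑ᶠ χ' ∈ {χ' : IrrCharacter G |
              ∃ k ∈ Γ, ∀ g, (χ' : G → ℂ) g = (χ : G → ℂ) (g ^ k)}, (χ' : G → ℂ) x = (δ : ℂ) := by
  classical
  obtain ⟨j⟩ := Cfsg.Agent.Lib.Helper17_PadicEmbed.exists_padic_ringHom p
  obtain ⟨Γ, hΓ1, hΓc, hΓm, hΓi, hΓinv, hΓdesc⟩ :=
    Cfsg.Agent.Lib.Helper75_GalDescent.exists_galois_powers (G := G) j.fieldRange
  refine ⟨Γ, hΓ1, hΓc, hΓm, hΓi, fun χ hχ => ?_⟩
  obtain ⟨x₀, hx₀, hgen⟩ := exists_generator_sylow P hP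
  obtain ⟨V, hVle, hVp, hVC, hVreg, hVn⟩ :=
    Cfsg.Agent.Lib.Helper17_PCompl.exists_pcomplement_centralizer p P hP
  have hfin : IsOfFinOrder x₀ := by
    rw [← orderOf_pos_iff, hx₀]; exact hp.out.pos
  have hx₀P : x₀ ∈ (P : Subgroup G) := by rw [← hgen]; exact Subgroup.mem_zpowers x₀
  have hsyl : ¬ p ∣ (Subgroup.zpowers x₀).index := by
    rw [hgen]; exact P.not_dvd_index
  have hVc : ∀ v ∈ V, Commute v x₀ := by
    intro v hv
    have := Subgroup.mem_centralizer_iff.mp (hVle hv) x₀ hx₀P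
    exact this.symm
  have hVn' : ∀ n ∈ Subgroup.normalizer (Subgroup.zpowers x₀ : Set G), ∀ v ∈ V,
      n * v * n⁻¹ ∈ V := by
    rw [hgen]; exact hVn
  have hmemP : ∀ h ∈ (P : Subgroup G), ∃ i : ℕ, h = x₀ ^ i := by
    intro h hh
    rw [← hgen, ← hfin.mem_powers_iff_mem_zpowers, Submonoid.mem_powers_iff] at hh
    obtain ⟨i, hi⟩ := hh
    exact ⟨i, hi.symm⟩
  have hC : ∀ c : G, Commute c x₀ → ∃ i : ℕ, ∃ v ∈ V, c = x₀ ^ i * v := by
    intro c hc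
    have hcC : c ∈ Subgroup.centralizer ((P : Subgroup G) : Set G) := by
      rw [Subgroup.mem_centralizer_iff]
      intro h hh
      obtain ⟨i, rfl⟩ := hmemP h hh
      exact ((hc.pow_right i).eq).symm
    obtain ⟨h, hh, v, hv, rfl⟩ := hVC c hcC
    obtain ⟨i, rfl⟩ := hmemP h hh
    exact ⟨i, v, hv, rfl⟩
  have hpow_ne : ∀ i : ℕ, ¬ p ∣ i → x₀ ^ i ≠ 1 := by
    intro i hi h1
    apply hi
    rw [← hx₀]
    exact orderOf_dvd_of_pow_eq_one h1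
  have hχ' : ∀ i : ℕ, ¬ p ∣ i → ∀ v ∈ V,
      (χ : G → ℂ) (x₀ ^ i * v) = (χ : G → ℂ) (x₀ ^ i) := by
    intro i hi v hv
    refine hχ (x₀ ^ i) (Subgroup.pow_mem _ hx₀P i) (hpow_ne i hi) v (hVle hv) ?_
    intro hdvd
    have h1 : orderOf v ∣ Nat.card V := by
      have := orderOf_dvd_natCard (⟨v, hv⟩ : V)
      rwa [Subgroup.orderOf_mk] at this
    have h2 : p ∣ Nat.card V := hdvd.trans h1
    have := Nat.Coprime.eq_one_of_dvd hVp.symm h2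
    exact hp.out.one_lt.ne' this
  obtain ⟨m, δ, hm0, hδ, hval⟩ := ct_core j Γ hΓ1 hΓc hΓm hΓinv hΓdesc x₀ hx₀ hsyl V hVc hVp
    hVn' hC χ hχ'
  refine ⟨m, δ, hm0, hδ, fun x hx hx1 => ?_⟩
  have hset : {χ' : IrrCharacter G | ∃ k ∈ Γ, ∀ g, (χ' : G → ℂ) g = (χ : G → ℂ) (g ^ k)} =
      ↑(orb Γ χ) := by
    ext χ'
    rw [Finset.mem_coe, mem_orb]
    rfl
  rw [hset, finsum_mem_coe_finset]
  obtain ⟨i, rfl⟩ := hmemP x hx
  have hmod : x₀ ^ i = x₀ ^ (i % p) := by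
    rw [← hx₀, pow_mod_orderOf]
  have hi0 : 0 < i % p := by
    rcases Nat.eq_zero_or_pos (i % p) with h0 | h0
    · exfalso
      apply hx1
      rw [hmod, h0, pow_zero]
    · exact h0
  rw [hmod]
  exact hval (i % p) hi0 (Nat.mod_lt _ hp.out.pos)

end Cfsg.Agent.Lib.Helper57_CTHyp
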