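import Mathlib

/-!
# An arithmetic lemma on multiplicities (helper75)

If `b : X → ℕ` on a set `X` of `n ≥ 2` elements satisfies `n ∑ b² = (∑ b)² + s` with
`s ≤ n - 1`, then either `s = 0` and `b` is constant, or `s = n - 1` and `b` is constant
except at one point where it is one more (resp. one less).
This is the arithmetic behind "a character of a cyclic group with `|ψ(x)| = 1` off the identity
is `a ρ ± λ`".
-/

set_option autoImplicit false

namespace Cfsg.Agent.Lib.Helper75_MultArith

open Finset

/-- The structure lemma. -/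
theorem mult_structure {X : Type*} [Fintype X] [DecidableEq X] (b : X → ℕ) (n s : ℕ)
    (hn : Fintype.card X = n) (hn2 : 2 ≤ n) (hs : s ≤ n - 1)
    (h : n * ∑ x, b x ^ 2 = (∑ x, b x) ^ 2 + s) :
    (s = 0 ∧ ∃ a, ∀ x, b x = a) ∨
      (s = n - 1 ∧ ∃ a x₀, (∀ x, b x = if x = x₀ then a + 1 else a) ∨
        (∀ x, b x = if x = x₀ then a else a + 1)) := by
  classical
  have hne : (univ : Finset X).Nonempty := by
    rw [univ_nonempty_iff, ← Fintype.card_pos_iff]; omega
  obtain ⟨x₀, -, hmin⟩ := exists_min_image univ b hne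
  set a := b x₀ with ha
  have hab : ∀ x, a ≤ b x := fun x => hmin x (mem_univ x)
  -- work in ℤ
  let c : X → ℤ := fun x => (b x : ℤ) - a
  have hc0 : ∀ x, 0 ≤ c x := fun x => by
    have := hab x
    simp only [c]; omega
  have hcx₀ : c x₀ = 0 := by simp [c, ha]
  set d : ℤ := ∑ x, c x with hd
  set q : ℤ := ∑ x, c x ^ 2 with hq
  have hsumb : ((∑ x, b x : ℕ) : ℤ) = d + a * n := by
    rw [hd, ← hn]
    push_cast
    simp only [c, sum_sub_distrib, sum_const, card_univ, nsmul_eq_mul]
    ring
  have hsumb2 : ((∑ x, b x ^ 2 : ℕ) : ℤ) = q + 2 * a * d + a ^ 2 * n := by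
    rw [hq, hd, ← hn]
    push_cast
    have : ∀ x, ((b x : ℤ)) ^ 2 = c x ^ 2 + 2 * a * c x + (a : ℤ) ^ 2 := by
      intro x; simp only [c]; ring
    simp_rw [this]
    rw [sum_add_distrib, sum_add_distrib, ← mul_sum, sum_const, card_univ, nsmul_eq_mul]
    ring
  have hZ : (n : ℤ) * q = d ^ 2 + s := by
    have h' : ((n * ∑ x, b x ^ 2 : ℕ) : ℤ) = (((∑ x, b x) ^ 2 + s : ℕ) : ℤ) := by rw [h]
    rw [Nat.cast_mul, hsumb2, Nat.cast_add, Nat.cast_pow, hsumb] at h'
    nlinarith [h']
  have hd0 : 0 ≤ d := sum_nonneg (fun x _ => hc0 x)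
  -- (i) q ≥ d
  have hqd : d ≤ q := by
    apply sum_le_sum
    intro x _
    have := hc0 x
    nlinarith [sq_nonneg (c x - 1), sq_nonneg (c x)]
  -- (ii) Cauchy-Schwarz on the complement of x₀
  have hCS : d ^ 2 ≤ (n - 1 : ℤ) * q := by
    have h1 : d = ∑ x ∈ univ.erase x₀, c x := by
      rw [hd, ← add_sum_erase univ c (mem_univ x₀), hcx₀, zero_add]
    have h2 : q = ∑ x ∈ univ.erase x₀, c x ^ 2 := by
      rw [hq, ← add_sum_erase univ (fun x => c x ^ 2) (mem_univ x₀), hcx₀]
      simp
    have h3 := sq_sum_le_card_mul_sum_sq (s := univ.erase x₀) (f := c)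
    rw [card_erase_of_mem (mem_univ x₀), card_univ, hn] at h3
    rw [h1, h2]
    have : ((n - 1 : ℕ) : ℤ) = (n : ℤ) - 1 := by
      rw [Nat.cast_sub (by omega)]; simp
    rw [this] at h3
    exact h3
  have hnZ : (2 : ℤ) ≤ n := by exact_mod_cast hn2
  have hsZ : (s : ℤ) ≤ n - 1 := by
    have : ((n - 1 : ℕ) : ℤ) = (n : ℤ) - 1 := by
      rw [Nat.cast_sub (by omega)]; simp
    rw [← this]; exact_mod_cast hs
  have hs0 : (0 : ℤ) ≤ s := Nat.cast_nonneg s
  -- d² ≤ (n-1) s
  have hds : d ^ 2 ≤ (n - 1 : ℤ) * s := by nlinarith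
  have hb_of_c : ∀ x, (b x : ℤ) = c x + a := fun x => by simp [c]
  by_cases hs00 : s = 0
  · left
    refine ⟨hs00, a, fun x => ?_⟩
    have hd00 : d = 0 := by
      rw [hs00] at hds
      simp at hds
      nlinarith
    have hcx : c x = 0 := by
      have := (sum_eq_zero_iff_of_nonneg (fun x _ => hc0 x)).mp hd00 x (mem_univ x)
      exact this
    have := hb_of_c x
    rw [hcx] at this
    omega
  · right
    have hspos : (1 : ℤ) ≤ s := by
      have : 1 ≤ s := Nat.one_le_iff_ne_zero.mpr hs00
      exact_mod_cast this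
    -- d ≥ 1
    have hd1 : 1 ≤ d := by
      by_contra hlt
      have hd00 : d = 0 := by omega
      have hq0 : q = 0 := by
        apply sum_eq_zero
        intro x _
        have := (sum_eq_zero_iff_of_nonneg (fun x _ => hc0 x)).mp hd00 x (mem_univ x)
        rw [this]; simp
      rw [hd00, hq0] at hZ
      nlinarith
    -- d ≤ n - 1
    have hdn : d ≤ n - 1 := by nlinarith
    -- d (n - d) ≤ s
    have hkey : d * (n - d) ≤ s := by nlinarith
    have hprod : (d - 1) * (n - d - 1) ≥ 0 := by
      apply mul_nonneg <;> linarith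
    have hseq : (s : ℤ) = n - 1 := by nlinarith
    have hprod0 : (d - 1) * (n - d - 1) = 0 := by nlinarith
    have hsn : s = n - 1 := by
      have : ((n - 1 : ℕ) : ℤ) = (n : ℤ) - 1 := by
        rw [Nat.cast_sub (by omega)]; simp
      have h5 : (s : ℤ) = ((n - 1 : ℕ) : ℤ) := by rw [this]; exact hseq
      exact_mod_cast h5
    refine ⟨hsn, a, ?_⟩
    rcases mul_eq_zero.mp hprod0 with h1 | h1
    · -- d = 1
      have hd1' : d = 1 := by linarith
      -- q = 1
      have hq1 : q = 1 := by
        rw [hd1', hseq] at hZ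
        have : (n : ℤ) * q = n := by linarith
        have hn0 : (n : ℤ) ≠ 0 := by linarith
        exact mul_left_cancel₀ hn0 (by rw [this, mul_one])
      -- exactly one `c x = 1`
      have hex : ∃ x₁, c x₁ ≠ 0 := by
        by_contra hcon
        push Not at hcon
        have : d = 0 := sum_eq_zero (fun x _ => hcon x)
        omega
      obtain ⟨x₁, hx₁⟩ := hex
      have hx₁pos : 1 ≤ c x₁ := by
        have := hc0 x₁; omega
      have hrest : ∑ x ∈ univ.erase x₁, c x = 1 - c x₁ := by
        have := add_sum_erase univ c (mem_univ x₁)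
        rw [← hd, hd1'] at this
        linarith
      have hrest0 : 0 ≤ ∑ x ∈ univ.erase x₁, c x := sum_nonneg (fun x _ => hc0 x)
      have hcx₁ : c x₁ = 1 := by linarith
      have hothers : ∀ x, x ≠ x₁ → c x = 0 := by
        intro x hx
        have h0 : ∑ x ∈ univ.erase x₁, c x = 0 := by rw [hrest, hcx₁]; ring
        exact (sum_eq_zero_iff_of_nonneg (fun x _ => hc0 x)).mp h0 x
          (mem_erase.mpr ⟨hx, mem_univ x⟩)
      refine ⟨x₁, Or.inl fun x => ?_⟩
      by_cases hx : x = x₁
      · rw [if_pos hx, hx]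
        have := hb_of_c x₁
        rw [hcx₁] at this
        omega
      · rw [if_neg hx]
        have := hb_of_c x
        rw [hothers x hx] at this
        omega
    · -- d = n - 1
      have hdn' : d = n - 1 := by linarith
      have hqn : q = n - 1 := by
        rw [hdn', hseq] at hZ
        have : (n : ℤ) * q = n * (n - 1) := by nlinarith
        have hn0 : (n : ℤ) ≠ 0 := by linarith
        exact mul_left_cancel₀ hn0 this
      -- each c x ∈ {0, 1}
      have hle1 : ∀ x, c x ≤ 1 := by
        intro x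
        by_contra hgt
        have hgt' : 2 ≤ c x := by omega
        have h6 : ∑ x, (c x ^ 2 - c x) = 0 := by
          rw [sum_sub_distrib, ← hq, ← hd, hqn, hdn']; ring
        have h7 : ∀ y ∈ univ, 0 ≤ c y ^ 2 - c y := by
          intro y _
          have := hc0 y
          nlinarith [sq_nonneg (c y - 1)]
        have := (sum_eq_zero_iff_of_nonneg h7).mp h6 x (mem_univ x)
        nlinarith
      -- the zero set is exactly {x₀}
      have hone : ∀ x, x ≠ x₀ → c x = 1 := by
        intro x hx
        by_contra hne1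
        have hcx0 : c x = 0 := by
          have := hc0 x; have := hle1 x; omega
        -- then the sum is at most n - 2
        have h8 : d = ∑ y ∈ (univ.erase x₀).erase x, c y := by
          rw [hd, ← add_sum_erase univ c (mem_univ x₀), hcx₀, zero_add,
            ← add_sum_erase (univ.erase x₀) c (mem_erase.mpr ⟨hx, mem_univ x⟩), hcx0, zero_add]
        have h9 : ∑ y ∈ (univ.erase x₀).erase x, c y ≤ ∑ _y ∈ (univ.erase x₀).erase x, (1 : ℤ) :=
          sum_le_sum (fun y _ => hle1 y)
        rw [sum_const, card_erase_of_mem (mem_erase.mpr ⟨hx, mem_univ x⟩),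
          card_erase_of_mem (mem_univ x₀), card_univ, hn] at h9
        have h10 : ((n - 1 - 1 : ℕ) : ℤ) = (n : ℤ) - 2 := by
          have : n - 1 - 1 = n - 2 := by omega
          rw [this, Nat.cast_sub (by omega)]; simp
        simp only [nsmul_eq_mul, mul_one] at h9
        rw [h10, ← h8, hdn'] at h9
        linarith
      refine ⟨x₀, Or.inr fun x => ?_⟩
      by_cases hx : x = x₀
      · rw [if_pos hx, hx]
      · rw [if_neg hx]
        have := hb_of_c x
        rw [hone x hx] at this
        omega

end Cfsg.Agent.Lib.Helper75_MultArith
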