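import Cfsg.Agent.Lib.Helper75_CanonExt
import Cfsg.Agent.Lib.Helper75_MultArith
import Cfsg.Agent.Lib.Helper3_CharColumn

/-!
# Characters of a finite commutative group with small values off the identity (helper75)

For a finite commutative group `A` of order `n`:
* `irr_one`, `card_irr`, `sum_irr_apply` (the regular character vanishes off `1`);
* `char_vanish`: a character vanishing off `1` has degree divisible by `n`;
* `char_structure`: a character `ψ` with `ψ(x) ∈ {0, 1, -1}` for all `x ≠ 1`, not all zero, is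
  `a ρ + ε λ₀` with `ρ` the regular character, `ε = ± 1` and `λ₀` a linear character: so
  `ψ(x) = ε λ₀(x)` for `x ≠ 1` and `ψ(1) = n a + ε`.
-/

set_option autoImplicit false
set_option linter.unusedSectionVars false
open scoped ComplexConjugate

namespace Cfsg.Agent.Lib.Helper75_CommChar

open Cfsg.Agent.Lib.Helper3_CharBridge Cfsg.Agent.Lib.Helper3_CharOrtho
  Cfsg.Agent.Lib.Helper3_CharComplete Cfsg.Agent.Lib.Helper3_CharColumn
  Cfsg.Agent.Lib.Helper75_CharArith Cfsg.Agent.Lib.Helper75_LinChar
  Cfsg.Agent.Lib.Helper75_CanonExt Cfsg.Agent.Lib.Helper75_MultArith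

variable {A : Type*} [Group A] [Fintype A] (hcomm : ∀ a b : A, a * b = b * a)

include hcomm in
theorem irr_one (lam : Cfsg.IrrCharacter A) : (lam : A → ℂ) 1 = 1 :=
  (isLin_of_comm hcomm lam.2).2

include hcomm in
theorem card_irr : Fintype.card (Cfsg.IrrCharacter A) = Fintype.card A := by
  have h := column_orthogonality_self (G := A) 1
  have h2 : ∀ χ : Cfsg.IrrCharacter A, (χ : A → ℂ) 1 * conj ((χ : A → ℂ) 1) = 1 := by
    intro χ
    rw [irr_one hcomm χ]; simp
  rw [Finset.sum_congr rfl (fun χ _ => h2 χ), Finset.sum_const, Finset.card_univ,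
    nsmul_eq_mul, mul_one] at h
  have h3 : Nat.card (Subgroup.centralizer ({(1 : A)} : Set A)) = Fintype.card A := by
    have : Subgroup.centralizer ({(1 : A)} : Set A) = ⊤ := by
      rw [eq_top_iff]
      intro x _
      rw [Subgroup.mem_centralizer_singleton_iff]
      simp
    rw [this, Subgroup.card_top, Nat.card_eq_fintype_card]
  rw [h3] at h
  exact_mod_cast h

include hcomm in
theorem sum_irr_apply {x : A} (hx : x ≠ 1) : ∑ lam : Cfsg.IrrCharacter A, (lam : A → ℂ) x = 0 := by
  classical
  have h := column_orthogonality (G := A) x 1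
  rw [if_neg (fun hh => hx (isConj_one_left.mp hh))] at h
  rw [← h]
  apply Finset.sum_congr rfl
  intro χ _
  rw [irr_one hcomm χ]; simp

/-- A character vanishing off the identity has degree divisible by the group order. -/
theorem char_vanish {ψ : A → ℂ} (hψ : Cfsg.IsCharacter A ψ) (h0 : ∀ x : A, x ≠ 1 → ψ x = 0) :
    ∃ a : ℕ, ψ 1 = (Nat.card A : ℂ) * a := by
  classical
  obtain ⟨a, ha⟩ := classInner_isCharacter_nat hψ (isLin_one (G := A)).1
  refine ⟨a, ?_⟩
  unfold Cfsg.classInner at ha
  rw [Finset.sum_eq_single (1 : A)] at ha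
  · have hA : (Nat.card A : ℂ) ≠ 0 := by
      rw [Nat.cast_ne_zero]; exact Nat.card_pos.ne'
    rw [← ha]
    field_simp
    simp
  · intro x _ hx
    rw [h0 x hx, zero_mul]
  · intro h; exact absurd (Finset.mem_univ _) h

include hcomm in
/-- Structure of a character with values in `{0, 1, -1}` off the identity, not all zero. -/
theorem char_structure {ψ : A → ℂ} (hψ : Cfsg.IsCharacter A ψ) (z : A → ℤ)
    (hz : ∀ x : A, x ≠ 1 → ψ x = z x)
    (hz1 : ∀ x : A, x ≠ 1 → z x = 0 ∨ z x = 1 ∨ z x = -1) {x₁ : A} (hx₁ : x₁ ≠ 1)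
    (hx₁z : z x₁ ≠ 0) :
    ∃ (ε : ℤ) (a : ℕ) (lam₀ : Cfsg.IrrCharacter A), (ε = 1 ∨ ε = -1) ∧
      ψ 1 = (Nat.card A : ℂ) * a + ε ∧ ∀ x : A, x ≠ 1 → ψ x = ε * (lam₀ : A → ℂ) x := by
  classical
  set n := Fintype.card A with hn
  have hnA : Nat.card A = n := Nat.card_eq_fintype_card
  have hn2 : 2 ≤ n := by
    have : 1 < Fintype.card A := Fintype.one_lt_card_iff.mpr ⟨x₁, 1, hx₁⟩
    omega
  obtain ⟨b, hb, hsum⟩ := exists_multiplicities hψ
  have hval : ∀ x : A, ψ x = ∑ lam : Cfsg.IrrCharacter A, (b lam : ℂ) * (lam : A → ℂ) x := by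
    intro x
    have := congrFun hsum x
    rw [Finset.sum_apply] at this
    simpa using this
  -- degree
  have hdeg : ψ 1 = ((∑ lam : Cfsg.IrrCharacter A, b lam : ℕ) : ℂ) := by
    rw [hval 1]
    push_cast
    apply Finset.sum_congr rfl
    intro lam _
    rw [irr_one hcomm lam, mul_one]
  -- the support off the identity
  set T : Finset A := Finset.univ.filter (fun x => x ≠ 1 ∧ z x ≠ 0) with hT
  have hTsub : T ⊆ Finset.univ.erase 1 := by
    intro x hx
    rw [hT, Finset.mem_filter] at hx
    exact Finset.mem_erase.mpr ⟨hx.2.1, Finset.mem_univ x⟩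
  have hTcard : T.card ≤ n - 1 := by
    have := Finset.card_le_card hTsub
    rwa [Finset.card_erase_of_mem (Finset.mem_univ _), Finset.card_univ] at this
  have hx₁T : x₁ ∈ T := by
    rw [hT, Finset.mem_filter]
    exact ⟨Finset.mem_univ _, hx₁, hx₁z⟩
  -- norm
  have hnorm : ∑ x : A, ψ x * conj (ψ x) = ((∑ lam, b lam) ^ 2 + T.card : ℕ) := by
    rw [← Finset.add_sum_erase _ _ (Finset.mem_univ (1 : A))]
    push_cast
    congr 1
    · rw [hdeg, Complex.conj_natCast]
      push_cast
      ring
    · have : ∀ x ∈ Finset.univ.erase (1 : A), ψ x * conj (ψ x) =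
          if x ∈ T then (1 : ℂ) else 0 := by
        intro x hx
        have hx1 : x ≠ 1 := (Finset.mem_erase.mp hx).1
        rw [hz x hx1, map_intCast]
        by_cases hxT : x ∈ T
        · rw [if_pos hxT]
          rw [hT, Finset.mem_filter] at hxT
          rcases hz1 x hx1 with h | h | h
          · exact absurd h hxT.2.2
          · rw [h]; norm_num
          · rw [h]; norm_num
        · rw [if_neg hxT]
          have : z x = 0 := by
            by_contra hne
            apply hxT
            rw [hT, Finset.mem_filter]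
            exact ⟨Finset.mem_univ _, hx1, hne⟩
          rw [this]; simp
      rw [Finset.sum_congr rfl this, Finset.sum_ite_mem, Finset.sum_const, nsmul_eq_mul, mul_one]
      congr 1
      congr 1
      exact Finset.inter_eq_right.mpr hTsub
  -- Parseval
  have hpars : ∑ x : A, ψ x * conj (ψ x) =
      ((n * ∑ lam : Cfsg.IrrCharacter A, b lam ^ 2 : ℕ) : ℂ) := by
    have h1 := classInner_self_eq_sum (isClassFunction_of_isCharacter hψ)
    unfold Cfsg.classInner at h1
    have hA : (Nat.card A : ℂ) ≠ 0 := by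
      rw [Nat.cast_ne_zero]; exact Nat.card_pos.ne'
    have h2 : ∑ x : A, ψ x * conj (ψ x) = (Nat.card A : ℂ) *
        ∑ χ : Cfsg.IrrCharacter A, ((Nat.card A : ℂ)⁻¹ * ∑ g : A, ψ g * conj ((χ : A → ℂ) g)) *
          conj ((Nat.card A : ℂ)⁻¹ * ∑ g : A, ψ g * conj ((χ : A → ℂ) g)) := by
      rw [← h1]
      field_simp
    rw [h2, hnA]
    push_cast
    congr 1
    apply Finset.sum_congr rfl
    intro χ _
    have := hb χ
    unfold Cfsg.classInner at this
    rw [hnA] at this
    rw [this, Complex.conj_natCast]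
    ring
  have hmain : n * ∑ lam : Cfsg.IrrCharacter A, b lam ^ 2 = (∑ lam, b lam) ^ 2 + T.card := by
    have := hpars.symm.trans hnorm
    exact_mod_cast this
  have hcardX : Fintype.card (Cfsg.IrrCharacter A) = n := card_irr hcomm
  rcases mult_structure b n T.card hcardX hn2 hTcard hmain with ⟨h0, -⟩ | ⟨hfull, a, lam₀, hcase⟩
  · exfalso
    rw [Finset.card_eq_zero] at h0
    rw [h0] at hx₁T
    exact absurd hx₁T (Finset.notMem_empty _)
  · -- uniform description of the multiplicities
    have hunif : ∃ (ε : ℤ) (a' : ℕ), (ε = 1 ∨ ε = -1) ∧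
        ∀ lam : Cfsg.IrrCharacter A, (b lam : ℂ) = (a' : ℂ) + if lam = lam₀ then (ε : ℂ) else 0 := by
      rcases hcase with h | h
      · refine ⟨1, a, Or.inl rfl, ?_⟩
        intro lam
        rw [h lam]
        split_ifs <;> simp
      · refine ⟨-1, a + 1, Or.inr rfl, ?_⟩
        intro lam
        rw [h lam]
        split_ifs <;> simp
    obtain ⟨ε, a', hε, hb'⟩ := hunif
    have hvalx : ∀ x : A, ψ x = (a' : ℂ) * (∑ lam : Cfsg.IrrCharacter A, (lam : A → ℂ) x) +
        ε * (lam₀ : A → ℂ) x := by
      intro x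
      rw [hval x, Finset.mul_sum]
      have : ∀ lam : Cfsg.IrrCharacter A, (b lam : ℂ) * (lam : A → ℂ) x =
          (a' : ℂ) * (lam : A → ℂ) x + if lam = lam₀ then (ε : ℂ) * (lam₀ : A → ℂ) x else 0 := by
        intro lam
        rw [hb' lam]
        split_ifs with h
        · rw [h]; ring
        · ring
      rw [Finset.sum_congr rfl (fun lam _ => this lam), Finset.sum_add_distrib,
        Finset.sum_ite_eq' Finset.univ lam₀, if_pos (Finset.mem_univ _)]
    refine ⟨ε, a', lam₀, hε, ?_, ?_⟩
    · rw [hvalx 1]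
      have : ∑ lam : Cfsg.IrrCharacter A, (lam : A → ℂ) 1 = (n : ℂ) := by
        rw [Finset.sum_congr rfl (fun lam _ => irr_one hcomm lam), Finset.sum_const,
          Finset.card_univ, hcardX, nsmul_eq_mul, mul_one]
      rw [this, irr_one hcomm lam₀, hnA]
      ring
    · intro x hx
      rw [hvalx x, sum_irr_apply hcomm hx, mul_zero, zero_add]

end Cfsg.Agent.Lib.Helper75_CommChar
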