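import Mathlib
import Cfsg.Prelude.Def_Characters
import Cfsg.Prelude.Def_Blocks
import Cfsg.Agent.S0914
import Cfsg.Agent.S0919
import Cfsg.Agent.Lib.Helper77_BlockBasics
import Cfsg.Agent.Lib.Helper77_QuotDefect2
import Cfsg.Agent.Lib.Helper78_PartAGen2

/-!
# Groups with a Sylow `p`-subgroup of order `p`: blocks of positive defect and their roots
(helper78)

`P` a Sylow `p`-subgroup of order `p`, `C = C_G(P)`, `N = N_G(P)`.

* `isDefectGroup_sylow` : a block of positive defect has defect group `P`;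
* `not_dvd_charDegree_iff` : `p ∤ χ(1)` iff the block of `χ` has positive defect;
* `indBlk M P θ` : the block of `G` induced by the block of `θ ∈ Irr(C)`;
* `indBlk_conjIrr` : `N`-conjugate characters induce the same block;
* `exists_root_fiber` : the characters `θ` with `P ≤ ker θ` inducing a given block of positive
  defect form one `N`-orbit.
-/

set_option autoImplicit false
set_option linter.unusedSectionVars false

namespace Cfsg.Agent.Lib.Helper78_McKayA

open Cfsg Cfsg.Agent.Lib.Helper78_LocalRing Cfsg.Agent.Lib.Helper78_CentralChar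
  Cfsg.Agent.Lib.Helper78_CharFacts
  Cfsg.Agent.Lib.Helper78_CentralProd Cfsg.Agent.Lib.Helper78_PartAGen
  Cfsg.Agent.Lib.Helper78_PartAGen2 Cfsg.Agent.Lib.Helper78_Transport
  Cfsg.Agent.Lib.Helper78_TransportBlocks

open scoped ComplexConjugate

universe u

variable {G : Type u} [Group G] {p : ℕ} [Finite G] [hp : Fact p.Prime] {M : Ideal AlgInt}

/-- If `p` divides `|G|` exactly once, a Sylow `p`-subgroup has order `p`. -/
theorem card_sylow_eq (hdiv : p ∣ Nat.card G) (hsq : ¬ p ^ 2 ∣ Nat.card G) (P : Sylow p G) :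
    Nat.card P = p := by
  have h1 := P.card_eq_multiplicity
  have hG : Nat.card G ≠ 0 := Nat.card_pos.ne'
  have h2 : 1 ≤ (Nat.card G).factorization p :=
    (hp.out.dvd_iff_one_le_factorization hG).mp hdiv
  have h3 : ¬ 2 ≤ (Nat.card G).factorization p := fun h =>
    hsq ((hp.out.pow_dvd_iff_le_factorization hG).mpr h)
  have h4 : (Nat.card G).factorization p = 1 := by omega
  rw [h1, h4, pow_one]

variable (P : Sylow p G)

theorem factorization_card (hP : Nat.card P = p) : (Nat.card G).factorization p = 1 := by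
  have h1 := P.card_eq_multiplicity
  rw [hP] at h1
  have h2 : p ^ 1 = p ^ (Nat.card G).factorization p := by rw [pow_one]; exact h1
  exact (Nat.pow_right_injective hp.out.two_le h2).symm

/-- A block of positive defect has the Sylow subgroup `P` (of order `p`) as a defect group. -/
theorem isDefectGroup_sylow (hM : IsPModular p M) (hP : Nat.card P = p)
    {B : Set (IrrCharacter G)} (hB : IsPBlock M B) (hd : 0 < blockDefect p B) :
    IsDefectGroup p M B (P : Subgroup G) := by
  obtain ⟨D, hD⟩ := Cfsg.Agent.Lib.Helper78_Deficiency.exists_isDefectGroup hM hB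
  have hcard := Cfsg.Agent.Lib.Helper78_Deficiency.card_isDefectGroup hM hB hD
  have hDp : IsPGroup p D := Cfsg.Agent.Lib.Helper78_FirstMainGT.isDefectGroup_isPGroup hD
  obtain ⟨Q, hQ⟩ := hDp.exists_le_sylow
  have hQc : Nat.card Q = p := by
    rw [Q.card_eq_multiplicity, factorization_card P hP, pow_one]
  have hle : p ≤ Nat.card D := by
    rw [hcard]
    calc p = p ^ 1 := (pow_one p).symm
      _ ≤ p ^ blockDefect p B := Nat.pow_le_pow_right hp.out.pos hd
  have hDQ : D = (Q : Subgroup G) := Subgroup.eq_of_le_of_card_ge hQ (by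
    show Nat.card (Q : Subgroup G) ≤ Nat.card D
    rw [hQc]; exact hle)
  obtain ⟨g, hg⟩ := MulAction.exists_smul_eq G Q P
  have h1 := Cfsg.Agent.Lib.Helper77_QuotDefect2.isDefectGroup_map_conj hM hB hD g
  have h2 : D.map (MulAut.conj g).toMonoidHom = (P : Subgroup G) := by
    rw [hDQ, ← hg]
    rfl
  rw [← h2]
  exact h1

/-- With `|G|_p = p`: the degree of `χ` is prime to `p` iff its block has positive defect. -/
theorem not_dvd_charDegree_iff (hM : IsPModular p M) (hP : Nat.card P = p)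
    (χ : IrrCharacter G) :
    ¬ p ∣ charDegree (χ : G → ℂ) ↔ 0 < blockDefect p (blockOf M (χ : G → ℂ)) := by
  have hMp := isPrime_of_isPModular hM
  have hfac := factorization_card P hP
  have hne : (blockOf M (χ : G → ℂ)).Nonempty := ⟨χ, mem_blockOf_self hMp χ⟩
  have hpos := Cfsg.Agent.Lib.Helper77_BlockBasics.charDegree_pos χ
  constructor
  · intro h
    rw [Nat.pos_iff_ne_zero]
    intro h0
    have h1 := (Cfsg.Agent.Lib.Helper77_BlockBasics.blockDefect_eq_zero_iff p _ hne).mp h0 χ
      (mem_blockOf_self hMp χ)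
    rw [hfac, Nat.factorization_eq_zero_of_not_dvd h] at h1
    omega
  · intro h hdvd
    have h1 : (Nat.card G).factorization p ≤ (charDegree (χ : G → ℂ)).factorization p := by
      rw [hfac]
      exact (hp.out.dvd_iff_one_le_factorization hpos.ne').mp hdvd
    have h2 := (Cfsg.Agent.Lib.Helper77_BlockBasics.not_dvd_div_iff hp.out χ).mpr h1
    have h3 := (Cfsg.Agent.S0914.result p M hM χ).mp h2
    have h4 : blockDefect p (blockOf M (χ : G → ℂ)) = 0 := by
      rw [Cfsg.Agent.Lib.Helper77_BlockBasics.blockDefect_eq_zero_iff p _ hne]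
      intro ψ hψ
      rw [h3] at hψ
      rw [Set.mem_singleton_iff.mp hψ]
      exact h1
    omega

/-! ### The induced block -/

/-- The block of `G` induced by the block of `θ ∈ Irr(C_G(P))`. -/
def indBlk (M : Ideal AlgInt) (θ : IrrCharacter (CC P)) : Set (IrrCharacter G) :=
  {χ | IsInducedBlock M (CC P) (blockOf M (θ : CC P → ℂ)) (blockOf M (χ : G → ℂ))}

theorem le_cc (hP : Nat.card P = p) : (P : Subgroup G) ≤ CC P := by
  classical
  have := Fintype.ofFinite G
  exact Cfsg.Agent.Lib.Helper16_BrauerSetup.le_centralizer P hP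

theorem exists_induced (hM : IsPModular p M) (hP : Nat.card P = p) (θ : IrrCharacter (CC P)) :
    ∃ B : Set (IrrCharacter G), IsInducedBlock M (CC P) (blockOf M (θ : CC P → ℂ)) B :=
  Cfsg.Agent.S0919.result p M hM (P : Subgroup G) (CC P) P.isPGroup' (le_cc P hP) le_rfl
    (Subgroup.centralizer_le_normalizer _) _ (isPBlock_blockOf θ)

theorem indBlk_eq_of_induced (hM : IsPModular p M) {θ : IrrCharacter (CC P)}
    {b : Set (IrrCharacter (CC P))} {B : Set (IrrCharacter G)}
    (hind : IsInducedBlock M (CC P) b B) (hθ : θ ∈ b) : indBlk P M θ = B := by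
  have hMp := isPrime_of_isPModular hM
  have hb : b = blockOf M (θ : CC P → ℂ) := isPBlock_eq_blockOf hMp hind.1 hθ
  ext χ
  constructor
  · intro hχ
    have h1 : IsInducedBlock M (CC P) b (blockOf M (χ : G → ℂ)) := by rw [hb]; exact hχ
    have h2 := Cfsg.Agent.Lib.Helper78_Deficiency.isInducedBlock_unique hMp h1 hind
    rw [← h2]
    exact mem_blockOf_self hMp χ
  · intro hχ
    show IsInducedBlock M (CC P) (blockOf M (θ : CC P → ℂ)) (blockOf M (χ : G → ℂ))
    rw [← hb, ← isPBlock_eq_blockOf hMp hind.2.1 hχ]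
    exact hind

theorem indBlk_spec (hM : IsPModular p M) (hP : Nat.card P = p) (θ : IrrCharacter (CC P)) :
    IsInducedBlock M (CC P) (blockOf M (θ : CC P → ℂ)) (indBlk P M θ) := by
  obtain ⟨B, hB⟩ := exists_induced P hM hP θ
  rw [indBlk_eq_of_induced P hM hB (mem_blockOf_self (isPrime_of_isPModular hM) θ)]
  exact hB

theorem isPBlock_indBlk (hM : IsPModular p M) (hP : Nat.card P = p) (θ : IrrCharacter (CC P)) :
    IsPBlock M (indBlk P M θ) := (indBlk_spec P hM hP θ).2.1

theorem isDefectGroup_indBlk (hM : IsPModular p M) (hP : Nat.card P = p)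
    (θ : IrrCharacter (CC P)) : IsDefectGroup p M (indBlk P M θ) (P : Subgroup G) :=
  isDefectGroup_of_induced P hM hP (indBlk_spec P hM hP θ)

theorem blockDefect_indBlk (hM : IsPModular p M) (hP : Nat.card P = p)
    (θ : IrrCharacter (CC P)) : 0 < blockDefect p (indBlk P M θ) := by
  have h1 := Cfsg.Agent.Lib.Helper78_Deficiency.card_isDefectGroup hM (isPBlock_indBlk P hM hP θ)
    (isDefectGroup_indBlk P hM hP θ)
  rw [Nat.pos_iff_ne_zero]
  intro h0
  rw [h0, pow_zero] at h1
  have h2 : Nat.card (P : Subgroup G) = p := hP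
  rw [h2] at h1
  exact hp.out.one_lt.ne' h1

theorem not_dvd_of_mem_indBlk (hM : IsPModular p M) (hP : Nat.card P = p)
    (θ : IrrCharacter (CC P)) {χ : IrrCharacter G} (hχ : χ ∈ indBlk P M θ) :
    ¬ p ∣ charDegree (χ : G → ℂ) := by
  rw [not_dvd_charDegree_iff P hM hP χ,
    ← isPBlock_eq_blockOf (isPrime_of_isPModular hM) (isPBlock_indBlk P hM hP θ) hχ]
  exact blockDefect_indBlk P hM hP θ

/-! ### Conjugate characters induce the same block -/

theorem inducedCentralChar_conjIrr (n : NN P) (ξ : IrrCharacter (CC P)) (g : G) :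
    inducedCentralChar (CC P) (conjIrr P n ξ : CC P → ℂ) g =
      inducedCentralChar (CC P) (ξ : CC P → ℂ) g := by
  unfold inducedCentralChar
  rw [finsum_mem_def, finsum_mem_def]
  set e : CC P ≃* CC P := (conjEquiv (CC P) ((n : G)⁻¹)
      (Cfsg.Agent.Lib.Helper78_MaxPair.normalizer_le (P : Subgroup G) (inv_mem n.2))) with he
  have hec : ∀ c : CC P, ((e c : CC P) : G) = (n : G) * (c : G) * (n : G)⁻¹ := by
    intro c
    rw [he, conjEquiv_apply, inv_inv]
  rw [← finsum_comp_equiv e.toEquiv (f := fun h : CC P =>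
    Set.indicator {h : CC P | IsConj g (h : G)} (fun h => (ξ : CC P → ℂ) h / (ξ : CC P → ℂ) 1) h)]
  refine finsum_congr fun h => ?_
  have hmem : (e.toEquiv h ∈ {h : CC P | IsConj g (h : G)}) ↔
      (h ∈ {h : CC P | IsConj g (h : G)}) := by
    simp only [Set.mem_ofPred_eq, MulEquiv.toEquiv_eq_coe, MulEquiv.coe_toEquiv]
    rw [hec]
    have hc : IsConj (h : G) ((n : G) * (h : G) * (n : G)⁻¹) :=
      isConj_iff.mpr ⟨(n : G), rfl⟩
    exact ⟨fun h1 => h1.trans hc.symm, fun h1 => h1.trans hc⟩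
  by_cases hh : h ∈ {h : CC P | IsConj g (h : G)}
  · rw [Set.indicator_of_mem hh, Set.indicator_of_mem (hmem.mpr hh), conjIrr_apply,
      conjIrr_apply_one]
    have h3 : (⟨(n : G) * (h : G) * (n : G)⁻¹, conj_mem_CC P n h⟩ : CC P) = e.toEquiv h :=
      Subtype.ext (hec h).symm
    rw [h3]
  · rw [Set.indicator_of_notMem hh, Set.indicator_of_notMem (fun h1 => hh (hmem.mp h1))]

theorem sameBlock_conjIrr (n : NN P) {θ ξ : IrrCharacter (CC P)}
    (h : SameBlock M (θ : CC P → ℂ) (ξ : CC P → ℂ)) :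
    SameBlock M (conjIrr P n θ : CC P → ℂ) (conjIrr P n ξ : CC P → ℂ) :=
  sameBlock_comp_mulEquiv _ h

theorem conjIrr_inv_conjIrr (n : NN P) (θ : IrrCharacter (CC P)) :
    conjIrr P n⁻¹ (conjIrr P n θ) = θ := by
  rw [← conjIrr_mul, mul_inv_cancel, conjIrr_one]

theorem conjIrr_conjIrr_inv (n : NN P) (θ : IrrCharacter (CC P)) :
    conjIrr P n (conjIrr P n⁻¹ θ) = θ := by
  rw [← conjIrr_mul, inv_mul_cancel, conjIrr_one]

/-- `N_G(P)`-conjugate characters of `C_G(P)` induce the same block of `G`. -/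
theorem indBlk_conjIrr (hM : IsPModular p M) (hP : Nat.card P = p) (n : NN P)
    (θ : IrrCharacter (CC P)) : indBlk P M (conjIrr P n θ) = indBlk P M θ := by
  have hMp := isPrime_of_isPModular hM
  have hspec := indBlk_spec P hM hP θ
  refine indBlk_eq_of_induced P hM (b := blockOf M (conjIrr P n θ : CC P → ℂ)) ?_
    (mem_blockOf_self hMp _)
  refine ⟨isPBlock_blockOf _, hspec.2.1, fun ξ' hξ' χ hχ g => ?_⟩
  have h1 : SameBlock M (θ : CC P → ℂ) (conjIrr P n⁻¹ ξ' : CC P → ℂ) := by
    have := sameBlock_conjIrr P (M := M) n⁻¹ hξ'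
    rwa [conjIrr_inv_conjIrr] at this
  have h2 := hspec.2.2 (conjIrr P n⁻¹ ξ') h1 χ hχ g
  rwa [inducedCentralChar_conjIrr] at h2

/-- The characters `θ` with `P ≤ ker θ` inducing a given block of positive defect form exactly
one `N_G(P)`-orbit. -/
theorem exists_root_fiber (hM : IsPModular p M) (hP : Nat.card P = p)
    {B : Set (IrrCharacter G)} (hB : IsPBlock M B) (hd : 0 < blockDefect p B) :
    ∃ θ₀ : IrrCharacter (CC P), KerZ (ZZ P) θ₀ ∧ indBlk P M θ₀ = B ∧
      ∀ θ : IrrCharacter (CC P), KerZ (ZZ P) θ →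
        (indBlk P M θ = B ↔ ∃ n : NN P, θ = conjIrr P n θ₀) := by
  have hMp := isPrime_of_isPModular hM
  have hBP := isDefectGroup_sylow P hM hP hB hd
  obtain ⟨b, θ₀, hind, hθ₀, hk₀⟩ := exists_root P hM hP hB hBP
  have h0 : indBlk P M θ₀ = B := indBlk_eq_of_induced P hM hind hθ₀
  refine ⟨θ₀, hk₀, h0, fun θ hk => ⟨fun h => ?_, ?_⟩⟩
  · have hind' := indBlk_spec P hM hP θ
    rw [h] at hind'
    exact exists_conjIrr_of_induced P hM hP hB hBP hind hind' hθ₀ (mem_blockOf_self hMp θ) hk hk₀
  · rintro ⟨n, rfl⟩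
    rw [indBlk_conjIrr P hM hP, h0]

/-! ### Stabilizers and the orbit count -/

/-- The stabilizer of `θ` in `N_G(P)`. -/
def stabN (θ : IrrCharacter (CC P)) : Subgroup (NN P) where
  carrier := {n | conjIrr P n θ = θ}
  one_mem' := conjIrr_one P θ
  mul_mem' := by
    intro a b ha hb
    show conjIrr P (a * b) θ = θ
    rw [conjIrr_mul, show conjIrr P a θ = θ from ha]
    exact hb
  inv_mem' := by
    intro a ha
    show conjIrr P a⁻¹ θ = θ
    have h1 : conjIrr P a θ = θ := ha
    calc conjIrr P a⁻¹ θ = conjIrr P a⁻¹ (conjIrr P a θ) := by rw [h1]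
      _ = θ := conjIrr_inv_conjIrr P a θ

theorem mem_stabN (θ : IrrCharacter (CC P)) (n : NN P) :
    n ∈ stabN P θ ↔ conjIrr P n θ = θ := Iff.rfl

theorem card_stabN_conjIrr (m : NN P) (θ : IrrCharacter (CC P)) :
    Nat.card (stabN P (conjIrr P m θ)) = Nat.card (stabN P θ) := by
  have key : ∀ n : NN P, n ∈ stabN P (conjIrr P m θ) ↔ m * n * m⁻¹ ∈ stabN P θ := by
    intro n
    rw [mem_stabN, mem_stabN, ← conjIrr_mul, conjIrr_eq_iff]
  apply Nat.card_congr
  refine ⟨fun n => ⟨m * n.1 * m⁻¹, (key n.1).mp n.2⟩,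
    fun t => ⟨m⁻¹ * t.1 * m, (key _).mpr (by
      have : m * (m⁻¹ * t.1 * m) * m⁻¹ = t.1 := by group
      rw [this]; exact t.2)⟩, ?_, ?_⟩
  · intro n
    apply Subtype.ext
    show m⁻¹ * (m * n.1 * m⁻¹) * m = n.1
    group
  · intro t
    apply Subtype.ext
    show m * (m⁻¹ * t.1 * m) * m⁻¹ = t.1
    group

theorem card_fiber_stabN (n₀ : NN P) (θ : IrrCharacter (CC P)) :
    Nat.card {n : NN P // conjIrr P n θ = conjIrr P n₀ θ} = Nat.card (stabN P θ) := by
  apply Nat.card_congr
  refine ⟨fun n => ⟨n.1 * n₀⁻¹, (conjIrr_eq_iff P n.1 n₀ θ).mp n.2⟩,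
    fun t => ⟨t.1 * n₀, by
      rw [conjIrr_eq_iff, mul_inv_cancel_right]
      exact t.2⟩, ?_, ?_⟩
  · intro n
    apply Subtype.ext
    show n.1 * n₀⁻¹ * n₀ = n.1
    group
  · intro t
    apply Subtype.ext
    show t.1 * n₀ * n₀⁻¹ = t.1
    group

open scoped Classical in
/-- Orbit counting: the stabilizer orders along one orbit add up to `|N_G(P)|`. -/
theorem sum_card_stabN_orbit [Fintype (IrrCharacter (CC P))] (θ₀ : IrrCharacter (CC P)) :
    (∑ θ : IrrCharacter (CC P),
      if ∃ n : NN P, θ = conjIrr P n θ₀ then Nat.card (stabN P θ) else 0) = Nat.card (NN P) := by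
  have := Fintype.ofFinite (NN P)
  rw [Nat.card_eq_fintype_card, ← Finset.card_univ,
    Finset.card_eq_sum_card_fiberwise (f := fun n : NN P => conjIrr P n θ₀)
      (t := (Finset.univ : Finset (IrrCharacter (CC P)))) (fun _ _ => Finset.mem_univ _)]
  refine Finset.sum_congr rfl fun θ _ => ?_
  split_ifs with h
  · obtain ⟨n₀, rfl⟩ := h
    rw [card_stabN_conjIrr, ← card_fiber_stabN P n₀ θ₀, Nat.card_eq_fintype_card,
      Fintype.card_subtype]
  · symm
    rw [Finset.card_eq_zero, Finset.filter_eq_empty_iff]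
    intro n _ hn
    exact h ⟨n, hn.symm⟩

open scoped Classical in
/-- **The weighted count.** `|N_G(P)|` times the number of irreducible characters of degree prime
to `p` is the sum over the characters `θ` of `C_G(P)` with `P ≤ ker θ` of `|N_θ|` times the size
of the block induced by `θ`. -/
theorem card_mul_card [Fintype (IrrCharacter (CC P))] [Fintype (IrrCharacter G)]
    (hM : IsPModular p M) (hP : Nat.card P = p) :
    Nat.card (NN P) * Nat.card {χ : IrrCharacter G // ¬ p ∣ charDegree (χ : G → ℂ)} =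
      ∑ θ : IrrCharacter (CC P),
        if KerZ (ZZ P) θ then Nat.card (stabN P θ) * Nat.card (indBlk P M θ) else 0 := by
  have hMp := isPrime_of_isPModular hM
  -- pointwise identity
  have key : ∀ χ : IrrCharacter G,
      (if ¬ p ∣ charDegree (χ : G → ℂ) then Nat.card (NN P) else 0) =
        ∑ θ : IrrCharacter (CC P),
          if KerZ (ZZ P) θ ∧ χ ∈ indBlk P M θ then Nat.card (stabN P θ) else 0 := by
    intro χ
    by_cases hχ : ¬ p ∣ charDegree (χ : G → ℂ)
    · rw [if_pos hχ]
      have hd := (not_dvd_charDegree_iff P hM hP χ).mp hχ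
      obtain ⟨θ₀, hk₀, h0, hfib⟩ := exists_root_fiber P hM hP (isPBlock_blockOf χ) hd
      rw [← sum_card_stabN_orbit P θ₀]
      refine Finset.sum_congr rfl fun θ _ => ?_
      have hiff : (KerZ (ZZ P) θ ∧ χ ∈ indBlk P M θ) ↔ ∃ n : NN P, θ = conjIrr P n θ₀ := by
        constructor
        · rintro ⟨hk, hmem⟩
          refine (hfib θ hk).mp ?_
          exact isPBlock_eq_blockOf hMp (isPBlock_indBlk P hM hP θ) hmem
        · rintro ⟨n, rfl⟩
          refine ⟨kerZ_conjIrr P n hk₀, ?_⟩
          rw [indBlk_conjIrr P hM hP, h0]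
          exact mem_blockOf_self hMp χ
      simp only [hiff]
    · rw [if_neg hχ]
      symm
      apply Finset.sum_eq_zero
      intro θ _
      rw [if_neg]
      rintro ⟨-, hmem⟩
      exact hχ (not_dvd_of_mem_indBlk P hM hP θ hmem)
  have h1 : Nat.card {χ : IrrCharacter G // ¬ p ∣ charDegree (χ : G → ℂ)} =
      (Finset.univ.filter fun χ : IrrCharacter G => ¬ p ∣ charDegree (χ : G → ℂ)).card := by
    rw [Nat.card_eq_fintype_card, Fintype.card_subtype]
  rw [h1, mul_comm, ← smul_eq_mul, ← Finset.sum_const, Finset.sum_filter]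
  rw [Finset.sum_congr rfl fun χ _ => key χ, Finset.sum_comm]
  refine Finset.sum_congr rfl fun θ _ => ?_
  split_ifs with hk
  · have h2 : Nat.card (indBlk P M θ) =
        (Finset.univ.filter fun χ : IrrCharacter G => χ ∈ indBlk P M θ).card := by
      rw [Nat.card_eq_fintype_card, Fintype.card_subtype]
    rw [h2, mul_comm, ← smul_eq_mul, ← Finset.sum_const, Finset.sum_filter]
    refine Finset.sum_congr rfl fun χ _ => ?_
    simp only [hk, true_and]
  · apply Finset.sum_eq_zero
    intro χ _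
    rw [if_neg]
    exact fun h => hk h.1

end Cfsg.Agent.Lib.Helper78_McKayA
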