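import Mathlib
import Cfsg.Prelude.Def_Blocks
import Cfsg.Agent.Lib.Helper23_ZStarB
import Cfsg.Agent.Lib.Helper57_CTHyp
import Cfsg.Agent.Lib.Helper75_CommChar
import Cfsg.Agent.Lib.Helper77_BlockBasics
import Cfsg.Agent.Lib.Helper78_LocalRing
import Cfsg.Agent.Lib.Helper78_McKayA
import Cfsg.Agent.Lib.Helper78_PartAGen2
import Cfsg.Agent.Lib.Helper80_CharBasic
import Cfsg.Agent.Lib.Helper16_BrauerSetup
import Cfsg.Agent.Lib.Helper16_BrauerMain
import Cfsg.Agent.Lib.Helper16_BrauerFinal
import Cfsg.Agent.Lib.Helper16_GenSetup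
import Cfsg.Agent.Lib.Helper16_GenBridge
import Cfsg.Agent.Lib.Helper16_GenGlue

/-!
# Brauer's theorem for a self-centralizing Sylow subgroup of prime order (helper16)

`P` a Sylow subgroup of order `p` with `C_G(P) = P`, `e = |N_G(P) : P|`.

* `isPCompl_bot` : the trivial subgroup is the `p`-complement of `C_G(P)`;
* `blockOf_eq_BGen` : the block of an irreducible character of degree prime to `p` is some
  `BGen P V θ`;
* `mem_principalBlock_iff` : when `C_G(P) = P`, the principal block consists of the irreducible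
  characters of degree prime to `p`;
* `brauer_self_centralizing` : the irreducible characters of degree prime to `p` are `X ⊔ Y`,
  `|X| = e`, `e |Y| = p - 1`, with signs, congruences of the degrees, values on `P \ {1}`, and the
  signed relation on `p`-regular elements.
-/

set_option autoImplicit false
set_option linter.unusedSectionVars false

namespace Cfsg.Agent.Lib.Helper16_SelfCent

open Cfsg Cfsg.Agent.Lib.Helper16_BrauerSetup Cfsg.Agent.Lib.Helper16_GenSetup
  Cfsg.Agent.Lib.Helper16_GenBridge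
open scoped ComplexConjugate

variable {G : Type*} [Group G] [Fintype G] {p : ℕ} [hp : Fact p.Prime] {P : Sylow p G}
  {V : Subgroup G} {M : Ideal AlgInt}

/-- If `C_G(P) = P` then the trivial subgroup is the `p`-complement of `C_G(P)`. -/
theorem isPCompl_bot (hP : Nat.card P = p)
    (hC : Subgroup.centralizer ((P : Subgroup G) : Set G) = (P : Subgroup G)) :
    IsPCompl P (⊥ : Subgroup G) where
  le := bot_le
  coprime := by
    rw [Subgroup.card_bot]
    exact Nat.coprime_one_left p
  prod := by
    intro c hc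
    rw [hC] at hc
    exact ⟨c, hc, 1, Subgroup.one_mem _, (mul_one c).symm⟩
  reg := by
    intro v hv hreg
    rw [hC] at hv
    rw [Subgroup.mem_bot]
    have h1 : v ^ p = 1 := by
      have := pow_card_eq_one' (G := ↥(P : Subgroup G)) (x := ⟨v, hv⟩)
      rw [hP] at this
      exact congrArg Subtype.val this
    have h2 : orderOf v ∣ p := orderOf_dvd_of_pow_eq_one h1
    rcases (Nat.dvd_prime hp.out).mp h2 with h3 | h3
    · exact orderOf_eq_one_iff.mp h3
    · exact absurd (dvd_of_eq h3.symm) hreg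
  norm := by
    intro n _ v hv
    rw [Subgroup.mem_bot] at hv ⊢
    rw [hv]
    group

section block

variable [Fintype ↥V]

/-- The block of an irreducible character of degree prime to `p` is some `BGen P V θ`. -/
theorem blockOf_eq_BGen (hM : IsPModular p M) (hP : Nat.card P = p) (hV : IsPCompl P V)
    (z : IrrCharacter G) (hz : ¬ p ∣ charDegree (z : G → ℂ)) :
    ∃ θ : IrrCharacter ↥V, blockOf M (z : G → ℂ) = BGen P V θ := by
  have hB : IsPBlock M (blockOf M (z : G → ℂ)) :=
    Cfsg.Agent.Lib.Helper78_LocalRing.isPBlock_blockOf z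
  have hd : 0 < blockDefect p (blockOf M (z : G → ℂ)) :=
    (Cfsg.Agent.Lib.Helper78_McKayA.not_dvd_charDegree_iff P hM hP z).mp hz
  have hBP : IsDefectGroup p M (blockOf M (z : G → ℂ)) (P : Subgroup G) :=
    Cfsg.Agent.Lib.Helper78_McKayA.isDefectGroup_sylow P hM hP hB hd
  obtain ⟨b, θC, hind, hθ, hkZ⟩ := Cfsg.Agent.Lib.Helper78_PartAGen2.exists_root P hM hP hB hBP
  have hker : KerP θC := kerP_of_kerZ hkZ
  exact ⟨resV hP hV θC hker,
    Cfsg.Agent.Lib.Helper16_GenGlue.block_eq_BGen hM hP hV hB hBP hind hθ hker⟩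

end block

/-- When `C_G(P) = P`, the principal block consists of the irreducible characters of degree prime
to `p`. -/
theorem mem_principalBlock_iff (hM : IsPModular p M) (hP : Nat.card P = p)
    (hC : Subgroup.centralizer ((P : Subgroup G) : Set G) = (P : Subgroup G))
    (χ : IrrCharacter G) :
    χ ∈ principalBlock M G ↔ ¬ p ∣ charDegree (χ : G → ℂ) := by
  classical
  have hMp := Cfsg.Agent.Lib.Helper78_LocalRing.isPrime_of_isPModular hM
  have hV := isPCompl_bot hP hC
  let _ : Fintype ↥(⊥ : Subgroup G) := Fintype.ofFinite _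
  have hone : principalBlock M G =
      blockOf M ((Cfsg.Agent.Lib.Helper80_CharBasic.oneIrr G : IrrCharacter G) : G → ℂ) := rfl
  have h1deg : ¬ p ∣ charDegree
      ((Cfsg.Agent.Lib.Helper80_CharBasic.oneIrr G : IrrCharacter G) : G → ℂ) := by
    have : charDegree
        ((Cfsg.Agent.Lib.Helper80_CharBasic.oneIrr G : IrrCharacter G) : G → ℂ) = 1 := by
      unfold charDegree
      show ⌊((1 : ℂ)).re⌋₊ = 1
      simp
    rw [this]
    exact hp.out.one_lt.ne' ∘ Nat.dvd_one.mp
  have hsub : Subsingleton (IrrCharacter ↥(⊥ : Subgroup G)) := by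
    have hcomm : ∀ a b : ↥(⊥ : Subgroup G), a * b = b * a := by
      intro a b
      have ha : a = 1 := Subsingleton.elim _ _
      rw [ha, one_mul, mul_one]
    have h1 := Cfsg.Agent.Lib.Helper75_CommChar.card_irr hcomm
    have h2 : Fintype.card ↥(⊥ : Subgroup G) = 1 := by
      rw [← Nat.card_eq_fintype_card, Subgroup.card_bot]
    rw [h2] at h1
    exact Fintype.card_le_one_iff_subsingleton.mp (le_of_eq h1)
  constructor
  · intro hχ
    have hBχ := Cfsg.Agent.Lib.Helper78_LocalRing.isPBlock_eq_blockOf hMp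
      (Cfsg.Agent.Lib.Helper78_LocalRing.isPBlock_blockOf
        (M := M) (Cfsg.Agent.Lib.Helper80_CharBasic.oneIrr G)) (hone ▸ hχ)
    rw [Cfsg.Agent.Lib.Helper78_McKayA.not_dvd_charDegree_iff P hM hP χ, ← hBχ,
      ← Cfsg.Agent.Lib.Helper78_McKayA.not_dvd_charDegree_iff P hM hP]
    exact h1deg
  · intro hχ
    obtain ⟨θ, hθ⟩ := blockOf_eq_BGen (V := (⊥ : Subgroup G)) hM hP hV χ hχ
    obtain ⟨θ', hθ'⟩ := blockOf_eq_BGen (V := (⊥ : Subgroup G)) hM hP hV
      (Cfsg.Agent.Lib.Helper80_CharBasic.oneIrr G) h1deg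
    have : θ = θ' := Subsingleton.elim _ _
    rw [hone, hθ', ← this, ← hθ]
    exact Cfsg.Agent.Lib.Helper78_LocalRing.mem_blockOf_self hMp χ

end Cfsg.Agent.Lib.Helper16_SelfCent
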