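import Mathlib
import Cfsg.Agent.Lib.Helper77_BSWDefs

/-!
# Common group-theoretic tools for the packages B6a, B6b, B6c of S3282 (helper2)

* conjugates of subgroups (`mem_mc`, `mc_eq_self_iff`, `centralizer_conj`, ...);
* `card_of_factor`: `N = A B` with `A ∩ B = 1` gives `|N| = |A| |B|` and `N = A ⊔ B`;
* `fpf_inverts`: an involution acting fixed-point-freely on a finite subgroup inverts it;
* `invol_structure`: the involutions of `N(A)` for `A` of odd order with `C(A) ≤ A` on which all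
  involutions of `N(A)` act fixed-point-freely;
* `le_conj_K`, `normalizer_of_le_K` : consequences of `Setup`/`Basics`.
-/

set_option autoImplicit false

namespace Cfsg.Agent.Lib.Helper2_BSW_Common

open Cfsg.Agent.Lib.Helper77_BSWDefs

variable {G : Type*} [Group G]

/-- The conjugate `g Q g⁻¹`. -/
abbrev mc (g : G) (Q : Subgroup G) : Subgroup G := Q.map (MulAut.conj g).toMonoidHom

theorem mem_mc {Q : Subgroup G} {g x : G} : x ∈ mc g Q ↔ g⁻¹ * x * g ∈ Q := by
  rw [mc, Subgroup.mem_map_equiv]; simp [MulAut.conj_symm_apply]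

theorem conj_mem_mc {Q : Subgroup G} {g x : G} (hx : x ∈ Q) : g * x * g⁻¹ ∈ mc g Q := by
  rw [mem_mc]
  have : g⁻¹ * (g * x * g⁻¹) * g = x := by group
  rw [this]; exact hx

theorem mc_one (Q : Subgroup G) : mc 1 Q = Q := by
  ext x; rw [mem_mc]; simp

theorem mc_mc (a b : G) (Q : Subgroup G) : mc a (mc b Q) = mc (a * b) Q := by
  ext x
  rw [mem_mc, mem_mc, mem_mc]
  have : b⁻¹ * (a⁻¹ * x * a) * b = (a * b)⁻¹ * x * (a * b) := by group
  rw [this]

theorem mc_eq_self_iff {Q : Subgroup G} {g : G} :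
    mc g Q = Q ↔ g ∈ Subgroup.normalizer (Q : Set G) := by
  rw [Subgroup.mem_normalizer_iff_map_conj_eq, mc, MulEquiv.toMonoidHom_eq_coe]

theorem mc_eq_iff {Q R : Subgroup G} {g : G} : mc g Q = R ↔ Q = mc g⁻¹ R := by
  constructor
  · rintro rfl; rw [mc_mc, inv_mul_cancel, mc_one]
  · rintro rfl; rw [mc_mc, mul_inv_cancel, mc_one]

theorem mc_injective (g : G) : Function.Injective (mc g : Subgroup G → Subgroup G) := by
  intro Q R h
  have := congrArg (mc g⁻¹) h
  simpa [mc_mc, mc_one] using this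

theorem card_mc (g : G) (Q : Subgroup G) : Nat.card (mc g Q) = Nat.card Q :=
  Subgroup.card_map_of_injective (MulAut.conj g).injective

theorem mc_of_mem {Q : Subgroup G} {g : G} (hg : g ∈ Q) : mc g Q = Q :=
  mc_eq_self_iff.2 (Subgroup.le_normalizer hg)

theorem centralizer_conj (g x : G) :
    Subgroup.centralizer ({g * x * g⁻¹} : Set G) = mc g (Subgroup.centralizer ({x} : Set G)) := by
  ext y
  rw [mem_mc, Subgroup.mem_centralizer_singleton_iff, Subgroup.mem_centralizer_singleton_iff]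
  constructor
  · intro h
    have : g⁻¹ * y * g * x = g⁻¹ * (y * (g * x * g⁻¹)) * g := by group
    rw [this, h]; group
  · intro h
    have : y * (g * x * g⁻¹) = g * (g⁻¹ * y * g * x) * g⁻¹ := by group
    rw [this, h]; group

theorem normalizer_mc (g : G) (Q : Subgroup G) :
    Subgroup.normalizer ((mc g Q : Subgroup G) : Set G) =
      mc g (Subgroup.normalizer (Q : Set G)) :=
  (Subgroup.map_equiv_normalizer_eq Q (MulAut.conj g)).symm

/-- `N = A B` with `A ∩ B = 1`. -/
theorem card_of_factor {A B N : Subgroup G} (hA : A ≤ N) (hB : B ≤ N) (hAB : A ⊓ B = ⊥)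
    (hN : ∀ n ∈ N, ∃ a ∈ A, ∃ b ∈ B, n = a * b) :
    Nat.card N = Nat.card A * Nat.card B ∧ N = A ⊔ B := by
  constructor
  · rw [← Nat.card_prod]
    symm
    let f : ↥A × ↥B → ↥N := fun p => ⟨(p.1 : G) * (p.2 : G), N.mul_mem (hA p.1.2) (hB p.2.2)⟩
    apply Nat.card_eq_of_bijective f
    constructor
    · rintro ⟨a, b⟩ ⟨a', b'⟩ hab
      have e : (a : G) * (b : G) = (a' : G) * (b' : G) := congrArg Subtype.val hab
      have e2 : (a' : G)⁻¹ * (a : G) = (b' : G) * (b : G)⁻¹ := by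
        rw [inv_mul_eq_iff_eq_mul, ← mul_assoc, ← e]; group
      have hm : (a' : G)⁻¹ * (a : G) ∈ A ⊓ B := by
        refine ⟨A.mul_mem (A.inv_mem a'.2) a.2, ?_⟩
        rw [e2]; exact B.mul_mem b'.2 (B.inv_mem b.2)
      rw [hAB, Subgroup.mem_bot] at hm
      have ha : (a : G) = a' := by
        have := inv_mul_eq_one.1 hm; exact this.symm
      have hb : (b : G) = b' := by
        rw [ha] at e; exact mul_left_cancel e
      exact Prod.ext (Subtype.ext ha) (Subtype.ext hb)
    · rintro ⟨n, hn⟩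
      obtain ⟨a, ha, b, hb, rfl⟩ := hN n hn
      exact ⟨(⟨a, ha⟩, ⟨b, hb⟩), rfl⟩
  · apply le_antisymm
    · intro n hn
      obtain ⟨a, ha, b, hb, rfl⟩ := hN n hn
      exact Subgroup.mul_mem_sup ha hb
    · exact sup_le hA hB

/-- An involution normalizing a finite subgroup and centralizing no non-identity element of it
inverts it. -/
theorem fpf_inverts (H : Subgroup G) [Finite ↥H] (t : G) (htt : t * t = 1)
    (hnorm : ∀ h ∈ H, t * h * t⁻¹ ∈ H) (hfpf : ∀ h ∈ H, t * h = h * t → h = 1) :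
    ∀ h ∈ H, t * h * t⁻¹ = h⁻¹ := by
  have conj_conj : ∀ x : G, t * (t * x * t⁻¹) * t⁻¹ = x := by
    intro x
    have : t * (t * x * t⁻¹) * t⁻¹ = (t * t) * x * (t * t)⁻¹ := by group
    rw [this, htt]; simp
  have conj_comm_inv : ∀ y : G,
      t * (y⁻¹ * (t * y * t⁻¹)) * t⁻¹ = (y⁻¹ * (t * y * t⁻¹))⁻¹ := by
    intro y
    have h1 : t * (y⁻¹ * (t * y * t⁻¹)) * t⁻¹ = (t * y * t⁻¹)⁻¹ * (t * (t * y * t⁻¹) * t⁻¹) := by
      group
    rw [h1, conj_conj y]; group
  let φ : H → H := fun h => ⟨(h : G)⁻¹ * (t * h * t⁻¹), H.mul_mem (H.inv_mem h.2) (hnorm h h.2)⟩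
  have hinj : Function.Injective φ := by
    intro h h' hh
    have e : (h : G)⁻¹ * (t * h * t⁻¹) = (h' : G)⁻¹ * (t * h' * t⁻¹) := congrArg Subtype.val hh
    have e2 : (h' : G) * (h : G)⁻¹ = (t * h' * t⁻¹) * (t * h * t⁻¹)⁻¹ := by
      rw [eq_mul_inv_iff_mul_eq, mul_assoc, e]; group
    have e3 : (t * (h' : G) * t⁻¹) * (t * (h : G) * t⁻¹)⁻¹ = t * ((h' : G) * (h : G)⁻¹) * t⁻¹ := by
      group
    have hcomm : t * ((h' : G) * (h : G)⁻¹) = ((h' : G) * (h : G)⁻¹) * t := by
      rw [← mul_inv_eq_iff_eq_mul, ← e3, ← e2]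
    have := hfpf _ (H.mul_mem h'.2 (H.inv_mem h.2)) hcomm
    have h2 : (h' : G) = h := mul_inv_eq_one.1 this
    exact Subtype.ext h2.symm
  have hsurj : Function.Surjective φ := Finite.surjective_of_injective hinj
  intro g hg
  obtain ⟨h, hh⟩ := hsurj ⟨g, hg⟩
  have e : g = (h : G)⁻¹ * (t * h * t⁻¹) := (congrArg Subtype.val hh).symm
  rw [e]
  exact conj_comm_inv h

theorem mul_self_of_orderOf_two {v : G} (hv : orderOf v = 2) : v * v = 1 := by
  rw [← pow_two, ← hv, pow_orderOf_eq_one]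

theorem inv_of_orderOf_two {v : G} (hv : orderOf v = 2) : v⁻¹ = v :=
  inv_eq_of_mul_eq_one_left (mul_self_of_orderOf_two hv)

theorem ne_one_of_orderOf_two {v : G} (hv : orderOf v = 2) : v ≠ 1 := by
  rintro rfl; simp at hv

/-- In a finite subgroup of odd order every element is a square. -/
theorem exists_sq_of_odd (A : Subgroup G) [Finite ↥A] (hodd : Odd (Nat.card A)) {c : G}
    (hc : c ∈ A) : ∃ y ∈ A, y * y = c := by
  obtain ⟨m, hm⟩ := hodd
  refine ⟨c ^ (m + 1), A.pow_mem hc _, ?_⟩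
  have h1 : c ^ Nat.card A = 1 := by
    have := pow_card_eq_one' (G := ↥A) (x := ⟨c, hc⟩)
    exact congrArg Subtype.val this
  rw [← pow_add]
  have : m + 1 + (m + 1) = Nat.card A + 1 := by omega
  rw [this, pow_succ, h1, one_mul]

/-- In a finite subgroup of odd order the only element with `a * a = 1` is `1`. -/
theorem eq_one_of_sq_of_odd (A : Subgroup G) [Finite ↥A] (hodd : Odd (Nat.card A)) {a : G}
    (ha : a ∈ A) (haa : a * a = 1) : a = 1 := by
  have h1 : orderOf a ∣ 2 := orderOf_dvd_of_pow_eq_one (by rw [pow_two]; exact haa)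
  have h2 : orderOf a ∣ Nat.card A := by
    have := orderOf_dvd_natCard (⟨a, ha⟩ : ↥A)
    rwa [Subgroup.orderOf_mk] at this
  have h3 : orderOf a ∣ Nat.gcd 2 (Nat.card A) := Nat.dvd_gcd h1 h2
  have h4 : Nat.gcd 2 (Nat.card A) = 1 := by
    obtain ⟨m, hm⟩ := hodd
    rw [hm]; simp
  rw [h4] at h3
  exact orderOf_eq_one_iff.1 (Nat.dvd_one.1 h3)

/-- The involutions of `N(A)`, for `A` of odd order with `C(A) ≤ A` on which every involution
of `N(A)` acts fixed-point-freely. -/
theorem invol_structure (A : Subgroup G) [Finite ↥A] (hodd : Odd (Nat.card A))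
    (hCA : ∀ g : G, (∀ a ∈ A, g * a = a * g) → g ∈ A)
    (hfpf : ∀ v : G, orderOf v = 2 → v ∈ Subgroup.normalizer (A : Set G) →
      ∀ a ∈ A, v * a = a * v → a = 1)
    (u : G) (hu : orderOf u = 2) (huN : u ∈ Subgroup.normalizer (A : Set G)) :
    (∀ a ∈ A, u * a * u⁻¹ = a⁻¹) ∧
    A ⊓ (Subgroup.normalizer (A : Set G) ⊓ Subgroup.centralizer ({u} : Set G)) = ⊥ ∧
    (∀ n ∈ Subgroup.normalizer (A : Set G), ∃ a ∈ A,
      ∃ b ∈ Subgroup.normalizer (A : Set G) ⊓ Subgroup.centralizer ({u} : Set G), n = a * b) ∧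
    (∀ v ∈ Subgroup.normalizer (A : Set G) ⊓ Subgroup.centralizer ({u} : Set G),
      orderOf v = 2 → v = u) := by
  have hinv : ∀ v : G, orderOf v = 2 → v ∈ Subgroup.normalizer (A : Set G) →
      ∀ a ∈ A, v * a * v⁻¹ = a⁻¹ := by
    intro v hv hvN
    exact fpf_inverts A v (mul_self_of_orderOf_two hv)
      (fun a ha => (Subgroup.mem_normalizer_iff.1 hvN a).1 ha) (hfpf v hv hvN)
  -- two involutions of `N(A)` differ by an element of `A`
  have hdiff : ∀ v : G, orderOf v = 2 → v ∈ Subgroup.normalizer (A : Set G) → v * u⁻¹ ∈ A := by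
    intro v hv hvN
    apply hCA
    intro a ha
    have h1 := hinv u hu huN a⁻¹ (A.inv_mem ha)
    have h2 := hinv v hv hvN a⁻¹ (A.inv_mem ha)
    rw [inv_inv] at h1 h2
    have h3 : u⁻¹ * a * u = a⁻¹ := by
      have : u⁻¹ * a * u = u⁻¹ * (u * a⁻¹ * u⁻¹) * u := by rw [h1]
      rw [this]; group
    have : v * u⁻¹ * a * (v * u⁻¹)⁻¹ = a := by
      have e : v * u⁻¹ * a * (v * u⁻¹)⁻¹ = v * (u⁻¹ * a * u) * v⁻¹ := by group
      rw [e, h3, h2]
    calc v * u⁻¹ * a = (v * u⁻¹ * a * (v * u⁻¹)⁻¹) * (v * u⁻¹) := by group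
      _ = a * (v * u⁻¹) := by rw [this]
  refine ⟨hinv u hu huN, ?_, ?_, ?_⟩
  · rw [eq_bot_iff]
    rintro a ⟨ha, -, hau⟩
    rw [Subgroup.mem_bot]
    have : a * u = u * a := Subgroup.mem_centralizer_singleton_iff.1 hau
    exact hfpf u hu huN a ha this.symm
  · intro n hn
    have hv2 : orderOf (n * u * n⁻¹) = 2 := by
      have := orderOf_injective (MulAut.conj n).toMonoidHom (MulAut.conj n).injective u
      simpa [MulAut.conj_apply, hu] using this
    have hvN : n * u * n⁻¹ ∈ Subgroup.normalizer (A : Set G) :=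
      Subgroup.mul_mem _ (Subgroup.mul_mem _ hn huN) (Subgroup.inv_mem _ hn)
    obtain ⟨y, hy, hyy⟩ := exists_sq_of_odd A hodd (hdiff _ hv2 hvN)
    have hyu : u * y⁻¹ * u⁻¹ = y := by
      have := hinv u hu huN y⁻¹ (A.inv_mem hy); rwa [inv_inv] at this
    have hconj : y * u * y⁻¹ = n * u * n⁻¹ := by
      calc y * u * y⁻¹ = y * (u * y⁻¹ * u⁻¹) * u := by group
        _ = y * y * u := by rw [hyu]
        _ = n * u * n⁻¹ := by rw [hyy]; group
    refine ⟨y, hy, y⁻¹ * n, Subgroup.mem_inf.2 ⟨?_, ?_⟩, by group⟩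
    · exact Subgroup.mul_mem _ (Subgroup.inv_mem _ (Subgroup.le_normalizer hy)) hn
    · rw [Subgroup.mem_centralizer_singleton_iff]
      have : y⁻¹ * n * u = y⁻¹ * (n * u * n⁻¹) * n := by group
      rw [this, ← hconj]; group
  · rintro v ⟨hvN, hvu⟩ hv
    have hc := hdiff v hv hvN
    have hvu' : v * u = u * v := Subgroup.mem_centralizer_singleton_iff.1 hvu
    have hcu : u * (v * u⁻¹) = (v * u⁻¹) * u := by
      calc u * (v * u⁻¹) = (u * v) * u⁻¹ := by group
        _ = (v * u) * u⁻¹ := by rw [hvu']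
        _ = (v * u⁻¹) * u := by group
    have := hfpf u hu huN _ hc hcu
    exact mul_inv_eq_one.1 this

variable {t s : G} {K : Subgroup G}

/-- A subgroup of `C(u)`, `u = x t x⁻¹`, whose only involution is `u` lies in `x K x⁻¹`. -/
theorem le_conj_K (h : Setup t s K) (hB : Basics t s K) {u x : G} (hux : u = x * t * x⁻¹)
    (W : Subgroup G) (hW : W ≤ Subgroup.centralizer ({u} : Set G))
    (huniq : ∀ v ∈ W, orderOf v = 2 → v = u) : W ≤ mc x K := by
  intro w hw
  rw [mem_mc]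
  have h1 : x⁻¹ * w * x ∈ Subgroup.centralizer ({t} : Set G) := by
    have := hW hw
    rw [Subgroup.mem_centralizer_singleton_iff] at this ⊢
    rw [hux] at this
    have e : x⁻¹ * w * x * t = x⁻¹ * (w * (x * t * x⁻¹)) * x := by group
    rw [e, this]; group
  rcases (hB.mem_H_iff _).1 h1 with hK | ⟨a, ha, hwa⟩
  · exact hK
  · have h2 : orderOf (x⁻¹ * w * x) = 2 := by rw [hwa]; exact hB.orderOf_mul_s a ha
    have h3 : orderOf w = 2 := by
      have := orderOf_injective (MulAut.conj x⁻¹).toMonoidHom (MulAut.conj x⁻¹).injective w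
      simp only [MulEquiv.coe_toMonoidHom, MulAut.conj_apply, inv_inv] at this
      rw [← this]; exact h2
    have h4 := huniq w hw h3
    have h5 : x⁻¹ * w * x = t := by rw [h4, hux]; group
    rw [h5]
    exact h.htK

/-- The normalizer of a non-trivial subgroup of `K` is `H = C(t)`. -/
theorem normalizer_of_le_K (h : Setup t s K) (hB : Basics t s K) (X : Subgroup G) (hX : X ≤ K)
    (hX1 : X ≠ ⊥) : Subgroup.normalizer (X : Set G) = Subgroup.centralizer ({t} : Set G) := by
  obtain ⟨⟨y, hy⟩, hy1⟩ := (Subgroup.ne_bot_iff_exists_ne_one).1 hX1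
  have hy1' : y ≠ 1 := fun e => hy1 (Subtype.ext e)
  have key : ∀ g ∈ Subgroup.centralizer ({t} : Set G), ∀ n ∈ X, g * n * g⁻¹ ∈ X := by
    intro g hg n hn
    rcases (hB.mem_H_iff g).1 hg with hK | ⟨a, ha, rfl⟩
    · have : g * n * g⁻¹ = n := by
        rw [h.comm g hK n (hX hn)]; group
      rw [this]; exact hn
    · have e1 : s * n * s⁻¹ = n⁻¹ := h.hinv n (hX hn)
      have : a * s * n * (a * s)⁻¹ = n⁻¹ := by
        calc a * s * n * (a * s)⁻¹ = a * (s * n * s⁻¹) * a⁻¹ := by group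
          _ = a * n⁻¹ * a⁻¹ := by rw [e1]
          _ = n⁻¹ := by rw [h.comm a ha n⁻¹ (K.inv_mem (hX hn))]; group
      rw [this]; exact X.inv_mem hn
  apply le_antisymm
  · intro g hg
    have := (Subgroup.mem_normalizer_iff''.1 hg y).1 hy
    exact hB.mem_H_of_conj_mem y (hX hy) hy1' g (hX this)
  · intro g hg
    rw [Subgroup.mem_normalizer_iff]
    intro n
    constructor
    · exact key g hg n
    · intro hn
      have := key g⁻¹ (Subgroup.inv_mem _ hg) _ hn
      have e : g⁻¹ * (g * n * g⁻¹) * g⁻¹⁻¹ = n := by group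
      rwa [e] at this

theorem card_subtype_ne (α : Type*) [Finite α] (a : α) :
    Nat.card {x : α // x ≠ a} = Nat.card α - 1 := by
  classical
  have := Fintype.ofFinite α
  rw [Nat.card_eq_fintype_card, Nat.card_eq_fintype_card]
  exact Set.card_ne_eq a

/-- A subgroup `W` normalizing a finite subgroup `D` and acting freely (by conjugation) on
`D ∖ 1` has order dividing `|D| - 1`. -/
theorem card_dvd_of_free_conj (W D : Subgroup G) [Finite ↥D]
    (hWD : W ≤ Subgroup.normalizer (D : Set G))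
    (hfree : ∀ w ∈ W, ∀ y ∈ D, y ≠ 1 → w * y = y * w → w = 1) :
    Nat.card W ∣ Nat.card D - 1 := by
  let β := {y : ↥D // y ≠ 1}
  let act : MulAction ↥W β :=
    { smul := fun w y => ⟨⟨(w : G) * (y.1 : G) * (w : G)⁻¹,
          (Subgroup.mem_normalizer_iff.1 (hWD w.2) _).1 y.1.2⟩, by
        intro e
        apply y.2
        have e' : (w : G) * (y.1 : G) * (w : G)⁻¹ = 1 := congrArg Subtype.val e
        apply Subtype.ext
        show (y.1 : G) = 1
        have : (y.1 : G) = (w : G)⁻¹ * ((w : G) * (y.1 : G) * (w : G)⁻¹) * (w : G) := by group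
        rw [this, e']; group⟩
      one_smul := by
        intro y
        apply Subtype.ext; apply Subtype.ext
        show ((1 : ↥W) : G) * (y.1 : G) * ((1 : ↥W) : G)⁻¹ = (y.1 : G)
        simp
      mul_smul := by
        intro a b y
        apply Subtype.ext; apply Subtype.ext
        show ((a * b : ↥W) : G) * (y.1 : G) * ((a * b : ↥W) : G)⁻¹ =
          (a : G) * ((b : G) * (y.1 : G) * (b : G)⁻¹) * (a : G)⁻¹
        simp only [Subgroup.coe_mul]; group }
  have hstab : ∀ b : β, MulAction.stabilizer ↥W b = ⊥ := by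
    intro b
    rw [eq_bot_iff]
    intro w hw
    rw [Subgroup.mem_bot]
    have h1 : w • b = b := hw
    have h2 : (w : G) * (b.1 : G) * (w : G)⁻¹ = (b.1 : G) :=
      congrArg (fun z : β => ((z.1 : ↥D) : G)) h1
    have h3 : (w : G) * (b.1 : G) = (b.1 : G) * (w : G) := by
      calc (w : G) * (b.1 : G) = ((w : G) * (b.1 : G) * (w : G)⁻¹) * (w : G) := by group
        _ = (b.1 : G) * (w : G) := by rw [h2]
    have hb1 : (b.1 : G) ≠ 1 := fun e => b.2 (Subtype.ext e)
    exact Subtype.ext (hfree w w.2 b.1 b.1.2 hb1 h3)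
  have e := MulAction.selfEquivOrbitsQuotientProd hstab
  have hcard : Nat.card β = Nat.card (Quotient (MulAction.orbitRel ↥W β)) * Nat.card ↥W := by
    rw [← Nat.card_prod]; exact Nat.card_congr e
  have hβ : Nat.card β = Nat.card D - 1 := card_subtype_ne ↥D 1
  rw [← hβ, hcard]
  exact Dvd.intro_left _ rfl

end Cfsg.Agent.Lib.Helper2_BSW_Common
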