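import Mathlib

set_option autoImplicit false

/-!
# Orbit counting for conjugation actions on invariant subsets (helper59)

* `dvd_card_of_dvd_index_stabilizer`: a common divisor of all orbit lengths divides the size of
  the set acted upon;
* `conjOn A X hX`: the conjugation action of a subgroup `A` on an `A`-invariant set `X`;
* `card_dvd_card_of_conj_free`: if no non-identity element of `A` centralizes an element of
  the invariant set `X`, then `|A|` divides `|X|`;
* `pow_dvd_card_of_conj_no_order`: if no element of prime order `r` of `A` centralizes an element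
  of `X`, then the full power of `r` dividing `|A|` divides `|X|`.
-/

namespace Cfsg.Agent.Lib.Helper59_ConjOrbits

open MulAction

theorem dvd_card_of_dvd_index_stabilizer {A X : Type*} [Group A] [MulAction A X] [Finite X]
    (m : ℕ) (h : ∀ x : X, m ∣ (stabilizer A x).index) : m ∣ Nat.card X := by
  classical
  have _ : Fintype (orbitRel.Quotient A X) := Fintype.ofFinite _
  have e := selfEquivSigmaOrbitsQuotientStabilizer A X
  have hfin : ∀ ω : orbitRel.Quotient A X, Finite (A ⧸ stabilizer A ω.out) := by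
    intro ω
    exact Finite.of_injective (fun q => (e.symm ⟨ω, q⟩)) (by
      intro q q' hq
      have := e.symm.injective hq
      simpa using this)
  rw [Nat.card_congr e, Nat.card_sigma]
  apply Finset.dvd_sum
  intro ω _
  exact h ω.out

section Conj

variable {G : Type*} [Group G]

/-- The conjugation action of a subgroup on an invariant set. -/
@[reducible] def conjOn (A : Subgroup G) (X : Set G)
    (hX : ∀ a ∈ A, ∀ x ∈ X, a * x * a⁻¹ ∈ X) : MulAction A X where
  smul a x := ⟨(a : G) * x * (a : G)⁻¹, hX a a.2 x x.2⟩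
  one_smul x := by
    apply Subtype.ext
    change ((1 : A) : G) * x * ((1 : A) : G)⁻¹ = x
    simp
  mul_smul a b x := by
    apply Subtype.ext
    change ((a * b : A) : G) * x * ((a * b : A) : G)⁻¹ = (a : G) * ((b : G) * x * (b : G)⁻¹) * (a : G)⁻¹
    simp [mul_assoc]

theorem conjOn_smul_coe (A : Subgroup G) (X : Set G)
    (hX : ∀ a ∈ A, ∀ x ∈ X, a * x * a⁻¹ ∈ X) (a : A) (x : X) :
    (((conjOn A X hX).toSMul.smul a x : X) : G) = (a : G) * x * (a : G)⁻¹ := rfl

theorem card_dvd_card_of_conj_free (A : Subgroup G) [Finite A] (X : Set G) [Finite X]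
    (hX : ∀ a ∈ A, ∀ x ∈ X, a * x * a⁻¹ ∈ X)
    (hfree : ∀ a ∈ A, ∀ x ∈ X, a * x * a⁻¹ = x → a = 1) : Nat.card A ∣ Nat.card X := by
  let _ : MulAction A X := conjOn A X hX
  apply dvd_card_of_dvd_index_stabilizer (A := A) (X := X)
  intro x
  have hbot : stabilizer A x = ⊥ := by
    rw [eq_bot_iff]
    intro a ha
    rw [mem_stabilizer_iff] at ha
    have h1 : (a : G) * x * (a : G)⁻¹ = x := congrArg Subtype.val ha
    have := hfree a a.2 x x.2 h1
    rw [Subgroup.mem_bot]
    exact Subtype.ext this
  rw [hbot, Subgroup.index_bot]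

theorem pow_dvd_card_of_conj_no_order (A : Subgroup G) [Finite A] (X : Set G) [Finite X]
    (hX : ∀ a ∈ A, ∀ x ∈ X, a * x * a⁻¹ ∈ X) (r k : ℕ) (hr : r.Prime)
    (hk : r ^ k ∣ Nat.card A)
    (hno : ∀ a ∈ A, ∀ x ∈ X, a * x * a⁻¹ = x → orderOf a ≠ r) : r ^ k ∣ Nat.card X := by
  let _ : MulAction A X := conjOn A X hX
  apply dvd_card_of_dvd_index_stabilizer (A := A) (X := X)
  intro x
  have hcop : ¬ r ∣ Nat.card (stabilizer A x) := by
    intro hdvd
    have : Fact r.Prime := ⟨hr⟩
    obtain ⟨s, hs⟩ := exists_prime_orderOf_dvd_card' (G := stabilizer A x) r hdvd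
    have hs2 := s.2
    rw [mem_stabilizer_iff] at hs2
    have h1 : ((s : A) : G) * x * ((s : A) : G)⁻¹ = x := congrArg Subtype.val hs2
    apply hno (s : A) (s : A).2 x x.2 h1
    rw [Subgroup.orderOf_coe, Subgroup.orderOf_coe, hs]
  have hmul := (stabilizer A x).index_mul_card
  rw [← hmul] at hk
  exact (Nat.Coprime.pow_left k ((Nat.Prime.coprime_iff_not_dvd hr).2 hcop)).dvd_of_dvd_mul_right hk

end Conj

end Cfsg.Agent.Lib.Helper59_ConjOrbits
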