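import Mathlib
import Cfsg.Agent.Lib.Helper2_BSW_Common
import Cfsg.Agent.Lib.Helper59_ConjOrbits

/-!
# S2490 (order 7920 + disconnected prime graph ⇒ simple): definitions and generic lemmas

`NoMix H A`: no element of `H` has order `a * b` with `a ∈ A`, `b ∉ A` primes.
`Opp A a b`: `a` and `b` lie on opposite sides of `A`.
-/

set_option autoImplicit false

namespace Cfsg.Agent.Lib.Helper62_S2490_Defs

/-- No element of `H` has order `a * b` with `a ∈ A`, `b ∉ A` primes. -/
def NoMix (H : Type*) [Group H] (A : Set ℕ) : Prop :=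
  ∀ a ∈ A, ∀ b ∉ A, a.Prime → b.Prime → ¬ ∃ g : H, orderOf g = a * b

/-- `a` and `b` lie on opposite sides of `A`. -/
def Opp (A : Set ℕ) (a b : ℕ) : Prop := (a ∈ A ↔ b ∉ A)

theorem Opp.symm {A : Set ℕ} {a b : ℕ} (h : Opp A a b) : Opp A b a := by
  unfold Opp at *; tauto

theorem Opp.ne {A : Set ℕ} {a b : ℕ} (h : Opp A a b) : a ≠ b := by
  rintro rfl
  unfold Opp at h; tauto

/-- If `a`, `b` are opposite and `b`, `c` are not opposite then `a`, `c` are opposite. -/
theorem Opp.trans_not {A : Set ℕ} {a b c : ℕ} (h : Opp A a b) (h' : ¬ Opp A b c) : Opp A a c := by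
  unfold Opp at *; tauto

theorem not_opp_self (A : Set ℕ) (a : ℕ) : ¬ Opp A a a := by
  unfold Opp; tauto

/-- Two primes not opposite to a common third one are not opposite. -/
theorem not_opp_of_not_opp {A : Set ℕ} {a b c : ℕ} (h : ¬ Opp A a b) (h' : ¬ Opp A a c) :
    ¬ Opp A b c := by
  unfold Opp at *; tauto

theorem NoMix.subgroup {G : Type*} [Group G] {A : Set ℕ} (h : NoMix G A) (K : Subgroup G) :
    NoMix K A := by
  rintro a ha b hb hap hbp ⟨g, hg⟩
  exact h a ha b hb hap hbp ⟨(g : G), by rw [Subgroup.orderOf_coe]; exact hg⟩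

/-- Commuting elements of opposite prime orders do not exist. -/
theorem NoMix.not_commute {H : Type*} [Group H] {A : Set ℕ} (h : NoMix H A) {a b : ℕ}
    (ha : a.Prime) (hb : b.Prime) (hab : Opp A a b) {x y : H} (hx : orderOf x = a)
    (hy : orderOf y = b) (hc : Commute x y) : False := by
  have hne : a ≠ b := hab.ne
  have hcop : Nat.Coprime (orderOf x) (orderOf y) := by
    rw [hx, hy]; exact (Nat.coprime_primes ha hb).2 hne
  have ho : orderOf (x * y) = a * b := by
    rw [hc.orderOf_mul_eq_mul_orderOf_of_coprime hcop, hx, hy]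
  by_cases haA : a ∈ A
  · exact h a haA b (hab.1 haA) ha hb ⟨x * y, ho⟩
  · have hbA : b ∈ A := by
      by_contra hbA
      exact haA (hab.2 hbA)
    exact h b hbA a haA hb ha ⟨x * y, by rw [ho, mul_comm]⟩

/-- A nontrivial element of finite order has a power of prime order. -/
theorem exists_pow_prime_order {H : Type*} [Group H] (w : H) (hfin : IsOfFinOrder w) (hw : w ≠ 1) :
    ∃ b k : ℕ, b.Prime ∧ b ∣ orderOf w ∧ orderOf (w ^ k) = b := by
  have h1 : orderOf w ≠ 1 := fun h => hw (orderOf_eq_one_iff.1 h)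
  obtain ⟨b, hb, hbd⟩ := Nat.exists_prime_and_dvd h1
  exact ⟨b, orderOf w / b, hb, hbd, orderOf_pow_orderOf_div hfin.orderOf_pos.ne' hbd⟩

/-- Commuting nontrivial elements whose orders only involve mutually opposite primes do not exist. -/
theorem NoMix.false_of_commute {H : Type*} [Group H] {A : Set ℕ} (h : NoMix H A) {x y : H}
    (hxf : IsOfFinOrder x) (hyf : IsOfFinOrder y) (hx : x ≠ 1) (hy : y ≠ 1) (hc : Commute x y)
    (hopp : ∀ a b : ℕ, a.Prime → b.Prime → a ∣ orderOf x → b ∣ orderOf y → Opp A a b) : False := by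
  obtain ⟨a, k, ha, had, hak⟩ := exists_pow_prime_order x hxf hx
  obtain ⟨b, l, hb, hbd, hbl⟩ := exists_pow_prime_order y hyf hy
  exact h.not_commute ha hb (hopp a b ha hb had hbd) hak hbl (hc.pow_pow k l)

/-- The hypothesis of S2490 gives `NoMix`. -/
theorem noMix_of_hyp {G : Type*} [Group G] [Finite G] {A : Set ℕ}
    (h : ∀ a ∈ A, ∀ b ∉ A, a.Prime → b.Prime → a ∣ Nat.card G → b ∣ Nat.card G →
      ¬ ∃ g : G, orderOf g = a * b) : NoMix G A := by
  rintro a ha b hb hap hbp ⟨g, hg⟩
  have hd : a * b ∣ Nat.card G := hg ▸ orderOf_dvd_natCard g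
  exact h a ha b hb hap hbp (dvd_trans (dvd_mul_right a b) hd) (dvd_trans (dvd_mul_left b a) hd)
    ⟨g, hg⟩

/-- Elements of a `p`-group have orders divisible only by `p`. -/
theorem prime_eq_of_dvd_orderOf_of_isPGroup {G : Type*} [Group G] {p : ℕ} [Fact p.Prime]
    {Q : Subgroup G} (hQ : IsPGroup p Q) {w : G} (hw : w ∈ Q) {b : ℕ} (hb : b.Prime)
    (hbd : b ∣ orderOf w) : b = p := by
  obtain ⟨k, hk⟩ := hQ ⟨w, hw⟩
  have h1 : (w : G) ^ p ^ k = 1 := by
    have := congrArg Subtype.val hk
    simpa using this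
  have h2 : orderOf w ∣ p ^ k := orderOf_dvd_of_pow_eq_one h1
  exact (Nat.prime_dvd_prime_iff_eq hb (Fact.out)).1 (hb.dvd_of_dvd_pow (dvd_trans hbd h2))

/-- **Frobenius-type lemma.** A `q`-subgroup acts semiregularly on a normal `r`-subgroup when
`r`, `q` are opposite. -/
theorem card_dvd_pred_of_opp {G : Type*} [Group G] [Finite G] {A : Set ℕ} (h : NoMix G A)
    {r q : ℕ} [hr : Fact r.Prime] [hq : Fact q.Prime] (hopp : Opp A r q) (Y Q : Subgroup G) [Y.Normal]
    (hY : IsPGroup r Y) (hQ : IsPGroup q Q) : Nat.card Q ∣ Nat.card Y - 1 := by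
  apply Cfsg.Agent.Lib.Helper2_BSW_Common.card_dvd_of_free_conj Q Y
  · rw [Subgroup.normalizer_eq_top]; exact le_top
  · intro w hw y hy hy1 hcomm
    by_contra hw1
    refine h.false_of_commute (isOfFinOrder_of_finite w) (isOfFinOrder_of_finite y) hw1 hy1 hcomm ?_
    intro a b ha hb had hbd
    rw [prime_eq_of_dvd_orderOf_of_isPGroup hQ hw ha had,
      prime_eq_of_dvd_orderOf_of_isPGroup hY hy hb hbd]
    exact hopp.symm

/-- An element of prime order `s` normalizing `W` and acting fixed-point-freely on it: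
`|W| ≡ 1 (mod s)`. -/
theorem card_modEq_one_of_fpf {G : Type*} [Group G] {s : ℕ} (hs : s.Prime) (x : G)
    (hx : orderOf x = s) (W : Subgroup G) [Finite W]
    (hn : ∀ w ∈ W, x * w * x⁻¹ ∈ W) (hfpf : ∀ w ∈ W, x * w = w * x → w = 1) :
    Nat.card W ≡ 1 [MOD s] := by
  have hxW : x ∈ Subgroup.normalizer (W : Set G) := by
    rw [Subgroup.mem_normalizer_iff]
    intro w
    constructor
    · exact hn w
    · intro hw
      -- x⁻¹ = x ^ (s - 1) also normalizes
      have hpow : ∀ n : ℕ, ∀ v ∈ W, x ^ n * v * (x ^ n)⁻¹ ∈ W := by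
        intro n
        induction n with
        | zero => intro v hv; simpa using hv
        | succ n ih =>
          intro v hv
          have := hn _ (ih v hv)
          have e : x ^ (n + 1) * v * (x ^ (n + 1))⁻¹ = x * (x ^ n * v * (x ^ n)⁻¹) * x⁻¹ := by
            rw [pow_succ']; group
          rw [e]; exact this
      have hx1 : x ^ s = 1 := hx ▸ pow_orderOf_eq_one x
      have hinv : x⁻¹ = x ^ (s - 1) := by
        have : x ^ (s - 1) * x = 1 := by
          rw [← pow_succ, Nat.sub_add_cancel hs.one_lt.le, hx1]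
        exact (eq_inv_of_mul_eq_one_left this).symm ▸ rfl
      have := hpow (s - 1) _ hw
      rw [← hinv] at this
      have e : x⁻¹ * (x * w * x⁻¹) * x⁻¹⁻¹ = w := by group
      rwa [e] at this
  have hle : Subgroup.zpowers x ≤ Subgroup.normalizer (W : Set G) := by
    rw [Subgroup.zpowers_le]; exact hxW
  have hcard : Nat.card (Subgroup.zpowers x) = s := by rw [Nat.card_zpowers, hx]
  have hdvd := Cfsg.Agent.Lib.Helper2_BSW_Common.card_dvd_of_free_conj (Subgroup.zpowers x) W hle
    (by
      intro w hw y hy hy1 hcomm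
      by_contra hw1
      -- w generates zpowers x
      have hwo : orderOf w = s := by
        have h1 : orderOf w ∣ s := by
          have := orderOf_dvd_natCard (⟨w, hw⟩ : Subgroup.zpowers x)
          rw [hcard, Subgroup.orderOf_mk] at this
          exact this
        rcases (Nat.dvd_prime hs).1 h1 with h | h
        · exact absurd (orderOf_eq_one_iff.1 h) hw1
        · exact h
      have hxw : x ∈ Subgroup.zpowers w := by
        have hle' : Subgroup.zpowers w ≤ Subgroup.zpowers x := by
          rw [Subgroup.zpowers_le]; exact hw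
        have hfin : Finite (Subgroup.zpowers x) := by
          apply Nat.finite_of_card_ne_zero; rw [hcard]; exact hs.pos.ne'
        have heq : Subgroup.zpowers w = Subgroup.zpowers x := by
          apply Subgroup.eq_of_le_of_card_ge hle'
          rw [hcard, Nat.card_zpowers, hwo]
        rw [heq]; exact Subgroup.mem_zpowers x
      obtain ⟨i, hi⟩ := Subgroup.mem_zpowers_iff.1 hxw
      have hcx : x * y = y * x := by
        rw [← hi]
        exact ((Commute.zpow_left (show Commute w y from hcomm) i)).eq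
      exact hy1 (hfpf y hy hcx))
  rw [hcard] at hdvd
  have hpos : 1 ≤ Nat.card W := Nat.one_le_iff_ne_zero.2 Nat.card_pos.ne'
  exact ((Nat.modEq_iff_dvd' hpos).2 hdvd).symm


/-- An element all of whose conjugation images of `W` stay in `W` normalizes `W` (finite order). -/
theorem mem_normalizer_of_conj_mem {G : Type*} [Group G] (x : G) (hfin : IsOfFinOrder x)
    (W : Subgroup G) (hn : ∀ w ∈ W, x * w * x⁻¹ ∈ W) : x ∈ Subgroup.normalizer (W : Set G) := by
  rw [Subgroup.mem_normalizer_iff]
  intro w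
  refine ⟨hn w, fun hw => ?_⟩
  have hpow : ∀ n : ℕ, ∀ v ∈ W, x ^ n * v * (x ^ n)⁻¹ ∈ W := by
    intro n
    induction n with
    | zero => intro v hv; simpa using hv
    | succ n ih =>
      intro v hv
      have := hn _ (ih v hv)
      have e : x ^ (n + 1) * v * (x ^ (n + 1))⁻¹ = x * (x ^ n * v * (x ^ n)⁻¹) * x⁻¹ := by
        rw [pow_succ']; group
      rw [e]; exact this
  obtain ⟨n, hnpos, hn1⟩ := hfin.exists_pow_eq_one
  have hinv : x⁻¹ = x ^ (n - 1) := by
    have : x ^ (n - 1) * x = 1 := by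
      rw [← pow_succ, Nat.sub_add_cancel hnpos, hn1]
    exact (eq_inv_of_mul_eq_one_left this).symm ▸ rfl
  have := hpow (n - 1) _ hw
  rw [← hinv] at this
  have e : x⁻¹ * (x * w * x⁻¹) * x⁻¹⁻¹ = w := by group
  rwa [e] at this

/-- An element of order `11` normalizing a subgroup of order `2, 3, 4, 5, 8, 9` or `16`
centralizes it. -/
theorem commute_of_small {G : Type*} [Group G] (z : G) (hz : orderOf z = 11) (W : Subgroup G)
    [Finite W] (hW : Nat.card W = 2 ∨ Nat.card W = 3 ∨ Nat.card W = 4 ∨ Nat.card W = 5 ∨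
      Nat.card W = 8 ∨ Nat.card W = 9 ∨ Nat.card W = 16)
    (hn : ∀ w ∈ W, z * w * z⁻¹ ∈ W) : ∀ w ∈ W, z * w = w * z := by
  classical
  have hzfin : IsOfFinOrder z := by
    rw [← orderOf_pos_iff, hz]; norm_num
  have hzN := mem_normalizer_of_conj_mem z hzfin W hn
  set Z : Subgroup G := Subgroup.zpowers z with hZ
  have hZcard : Nat.card Z = 11 := by rw [Nat.card_zpowers, hz]
  have hZfin : Finite Z := by
    apply Nat.finite_of_card_ne_zero; rw [hZcard]; norm_num
  set C : Subgroup G := W ⊓ Subgroup.centralizer {z} with hC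
  have hCW : C ≤ W := inf_le_left
  have hCfin : Finite C := Finite.of_injective (Subgroup.inclusion hCW) (Subgroup.inclusion_injective hCW)
  set X : Set G := (W : Set G) \ (C : Set G) with hX
  have hXfin : Finite X := Finite.Set.finite_diff _ _
  have hZN : ∀ a ∈ Z, a ∈ Subgroup.normalizer (W : Set G) := by
    intro a ha
    exact (Subgroup.zpowers_le.2 hzN) ha
  have hZc : ∀ a ∈ Z, a * z = z * a := by
    intro a ha
    obtain ⟨i, rfl⟩ := Subgroup.mem_zpowers_iff.1 ha
    exact ((Commute.refl z).zpow_left i).eq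
  have hmemC : ∀ w : G, w ∈ C ↔ w ∈ W ∧ z * w = w * z := by
    intro w
    rw [hC, Subgroup.mem_inf, Subgroup.mem_centralizer_iff]
    constructor
    · rintro ⟨h1, h2⟩
      exact ⟨h1, h2 z rfl⟩
    · rintro ⟨h1, h2⟩
      refine ⟨h1, ?_⟩
      intro y hy
      rw [Set.mem_singleton_iff] at hy
      rw [hy]; exact h2
  have hinv : ∀ a ∈ Z, ∀ x ∈ X, a * x * a⁻¹ ∈ X := by
    intro a ha x hx
    rw [hX, Set.mem_sdiff] at hx ⊢
    refine ⟨(Subgroup.mem_normalizer_iff.1 (hZN a ha) x).1 hx.1, ?_⟩
    intro hc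
    apply hx.2
    rw [SetLike.mem_coe, hmemC] at hc ⊢
    refine ⟨hx.1, ?_⟩
    have h1 : Commute z (a * x * a⁻¹) := hc.2
    have haz : Commute z a := (hZc a ha).symm
    have h2 : Commute z (a⁻¹ * (a * x * a⁻¹) * a) := (haz.inv_right.mul_right h1).mul_right haz
    have e : a⁻¹ * (a * x * a⁻¹) * a = x := by group
    rw [e] at h2
    exact h2.eq
  have hdvd : 11 ^ 1 ∣ Nat.card X := by
    apply Cfsg.Agent.Lib.Helper59_ConjOrbits.pow_dvd_card_of_conj_no_order Z X hinv 11 1
      (by norm_num) (by rw [hZcard]; norm_num)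
    intro a ha x hx hfix hao
    -- a generates Z, so z commutes with x
    have hle' : Subgroup.zpowers a ≤ Z := Subgroup.zpowers_le.2 ha
    have heq : Subgroup.zpowers a = Z := by
      apply Subgroup.eq_of_le_of_card_ge hle'
      rw [hZcard, Nat.card_zpowers, hao]
    have hza : z ∈ Subgroup.zpowers a := by rw [heq]; exact Subgroup.mem_zpowers z
    obtain ⟨i, hi⟩ := Subgroup.mem_zpowers_iff.1 hza
    have hax : Commute a x := by
      have : a * x = x * a := by
        have := congrArg (fun t => t * a) hfix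
        simpa [mul_assoc] using this
      exact this
    rw [hX, Set.mem_sdiff] at hx
    apply hx.2
    rw [SetLike.mem_coe, hmemC]
    refine ⟨hx.1, ?_⟩
    rw [← hi]
    exact (hax.zpow_left i).eq
  rw [pow_one] at hdvd
  -- cardinalities
  have hsub : (C : Set G) ⊆ (W : Set G) := hCW
  have hcardX : Nat.card X = Nat.card W - Nat.card C := by
    rw [Nat.card_coe_set_eq, hX, Set.ncard_sdiff hsub (Set.toFinite _)]
    rw [← Nat.card_coe_set_eq, ← Nat.card_coe_set_eq]
    rfl
  have hCdvd : Nat.card C ∣ Nat.card W := Subgroup.card_dvd_of_le hCW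
  have hCpos : 0 < Nat.card C := Nat.card_pos
  have hCle : Nat.card C ≤ Nat.card W := Nat.le_of_dvd Nat.card_pos hCdvd
  have hCeq : Nat.card C = Nat.card W := by
    rw [hcardX] at hdvd
    rcases hW with h | h | h | h | h | h | h <;> rw [h] at hdvd hCdvd hCle ⊢ <;>
      (generalize Nat.card C = c at *; interval_cases c <;> omega)
  have hCW' : C = W := Subgroup.eq_of_le_of_card_ge hCW hCeq.ge
  intro w hw
  rw [← hCW'] at hw
  exact ((hmemC w).1 hw).2

/-- The conjugation action of `G` on a normal subgroup `M`. -/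
@[reducible] def conjAct {G : Type*} [Group G] (M : Subgroup G) [M.Normal] :
    MulDistribMulAction G M :=
  MulDistribMulAction.compHom M (MulAut.conjNormal (H := M))

open scoped Pointwise in
/-- An element `x` of prime order `ℓ` not dividing `|M|` (`M` normal) normalizes some Sylow
`r`-subgroup of `M`. -/
theorem exists_normalized_sylow {G : Type*} [Group G] [Finite G] (M : Subgroup G) [hM : M.Normal]
    {ℓ : ℕ} (hℓ : ℓ.Prime) (x : G) (hx : orderOf x = ℓ) (hcop : ¬ ℓ ∣ Nat.card M)
    (r : ℕ) [Fact r.Prime] :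
    ∃ P : Sylow r M, ∀ w : M, w ∈ P → (⟨x * w * x⁻¹, hM.conj_mem w w.2 x⟩ : M) ∈ P := by
  classical
  have : Fact ℓ.Prime := ⟨hℓ⟩
  let _ : MulDistribMulAction G M := conjAct M
  set Z : Subgroup G := Subgroup.zpowers x with hZ
  have hZp : IsPGroup ℓ Z := by
    apply IsPGroup.of_card (n := 1)
    rw [Nat.card_zpowers, hx, pow_one]
  have hcard : ¬ ℓ ∣ Nat.card (Sylow r M) := by
    intro h
    obtain ⟨P⟩ : Nonempty (Sylow r M) := inferInstance
    have h1 : Nat.card (Sylow r M) ∣ (P : Subgroup M).index := Sylow.card_dvd_index P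
    have h2 : (P : Subgroup M).index ∣ Nat.card M := Subgroup.index_dvd_card _
    exact hcop (dvd_trans h (dvd_trans h1 h2))
  obtain ⟨P, hP⟩ := hZp.nonempty_fixed_point_of_prime_not_dvd_card (Sylow r M) hcard
  refine ⟨P, ?_⟩
  intro w hw
  have hfix : (⟨x, Subgroup.mem_zpowers x⟩ : Z) • P = P := hP ⟨x, Subgroup.mem_zpowers x⟩
  have h1 : x • P = P := hfix
  have h2 : x • w ∈ x • P := by
    show x • w ∈ x • (P : Subgroup M)
    exact Subgroup.smul_mem_pointwise_smul w x _ hw
  rw [h1] at h2
  have h3 : x • w = (⟨x * w * x⁻¹, hM.conj_mem w w.2 x⟩ : M) := by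
    apply Subtype.ext
    rfl
  rw [← h3]
  exact h2

end Cfsg.Agent.Lib.Helper62_S2490_Defs
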