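import Mathlib
import Cfsg.Agent.S4441
import Cfsg.Agent.Lib.Helper62_S2490_Defs
import Cfsg.Agent.Lib.Helper23_ZStarB
import Cfsg.Agent.Lib.Helper30_KleinBlock
import Cfsg.Agent.Lib.Helper74_CharTools
import Cfsg.Agent.Lib.Helper75_LinChar
import Cfsg.Agent.Lib.Helper77_BlockBasics
import Cfsg.Agent.Lib.Helper80_CharBasic

/-!
# S2490-CHAR (helper61, package for helper62's S2490)

The contradiction from Brauer's theorem on blocks with a Sylow subgroup of prime order
(`Cfsg.Agent.S4441.result`, `p = 11`, `e = 2`): a perfect group `H` of order dividing `7920`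
with a Sylow `11`-subgroup `P` of order `11`, `|N(P) : C(P)| = 2`, an involution in `C(P)` and
all nontrivial normal subgroups of order divisible by `11` does not exist.
-/

set_option autoImplicit false

namespace Cfsg.Agent.Lib.Helper61_S2490_CHAR

open Cfsg Cfsg.Agent.Lib.Helper62_S2490_Defs Cfsg.Agent.Lib.Helper80_CharBasic

/-- A linear irreducible character of a perfect group is principal. -/
theorem eq_oneIrr_of_perfect {H : Type*} [Group H] [Finite H] (hperf : commutator H = ⊤)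
    (ψ : IrrCharacter H) (h1 : charDegree (ψ : H → ℂ) = 1) : ψ = oneIrr H := by
  apply Cfsg.Agent.Lib.Helper23_ZStarB.eq_oneIrr_of_forall
  have hψ1 : (ψ : H → ℂ) 1 = 1 := by
    rw [Cfsg.Agent.Lib.Helper77_BlockBasics.apply_one_eq_charDegree ψ, h1]
    simp
  have hlin : Cfsg.Agent.Lib.Helper75_LinChar.IsLin H (ψ : H → ℂ) :=
    ⟨Cfsg.Agent.Lib.Helper3_CharBridge.isCharacter_of_isIrrCharacter ψ.2, hψ1⟩
  have hle : commutator H ≤ Cfsg.Agent.Lib.Helper23_ZStarB.irrKer ψ := by
    rw [commutator_def, Subgroup.commutator_le]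
    intro a _ b _
    rw [Cfsg.Agent.Lib.Helper23_ZStarB.mem_irrKer, commutatorElement_def, hlin.map_mul,
      hlin.map_mul, hlin.map_mul, hlin.map_inv, hlin.map_inv, hψ1]
    have ha := hlin.ne_zero a
    have hb := hlin.ne_zero b
    field_simp
  intro g
  have : g ∈ Cfsg.Agent.Lib.Helper23_ZStarB.irrKer ψ := hle (by rw [hperf]; trivial)
  exact this

theorem num1 (d : ℕ) (h1 : d ∣ 7920) (h2 : (d + 1) ∣ 7920) (h3 : d % 11 = 1) : d = 1 := by
  have hc : Nat.Coprime d (d + 1) := by simp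
  have h4 : d * (d + 1) ∣ 7920 := hc.mul_dvd_of_dvd_of_dvd h1 h2
  have h5 : d * (d + 1) ≤ 7920 := Nat.le_of_dvd (by norm_num) h4
  have h6 : d < 89 := by nlinarith
  interval_cases d <;> omega

theorem num2 (m : ℕ) (h1 : m ∣ 7920) (h2 : (m + 1) ∣ 7920) (h3 : (m + 1) % 11 = 10) : m = 9 := by
  have hc : Nat.Coprime m (m + 1) := by simp
  have h4 : m * (m + 1) ∣ 7920 := hc.mul_dvd_of_dvd_of_dvd h1 h2
  have h5 : m * (m + 1) ≤ 7920 := Nat.le_of_dvd (by norm_num) h4
  have h6 : m < 89 := by nlinarith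
  interval_cases m <;> omega


/-- A character which is `-1` on `P ∖ 1` and `10` at `1` (for `|P| = 11`) sums to zero on `P`. -/
theorem sum_eq_zero_of_values {H : Type*} [Group H] (P : Subgroup H) [Fintype P]
    (hP : Fintype.card P = 11) (f : H → ℂ) (h1 : f 1 = 10)
    (hx : ∀ x : P, x ≠ 1 → f x = -1) : ∑ z : P, f z = 0 := by
  classical
  rw [← Finset.add_sum_erase Finset.univ (fun z : P => f z) (Finset.mem_univ (1 : P))]
  have h2 : ∑ x ∈ (Finset.univ : Finset P).erase 1, f x = ∑ x ∈ (Finset.univ : Finset P).erase 1, (-1 : ℂ) := by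
    refine Finset.sum_congr rfl (fun x hx' => ?_)
    exact hx x (Finset.ne_of_mem_erase hx')
  rw [h2, Finset.sum_const, Finset.card_erase_of_mem (Finset.mem_univ _), Finset.card_univ, hP]
  simp only [Subgroup.coe_one, h1]
  norm_num

/-- S2490-CHAR. The contradiction from Brauer's theorem
(`Cfsg.Agent.S4441.result`, `p = 11`, `e = 2`). -/
theorem char_contra {H : Type*} [Group H] [Finite H] (hcard : Nat.card H ∣ 7920) (P : Sylow 11 H)
    (hP : Nat.card P = 11)
    (he : (Subgroup.centralizer ((P : Subgroup H) : Set H)).relIndex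
      (Subgroup.normalizer ((P : Subgroup H) : Set H)) = 2)
    (hperf : commutator H = ⊤) (t : H) (ht : orderOf t = 2)
    (htC : t ∈ Subgroup.centralizer ((P : Subgroup H) : Set H))
    (hN : ∀ M : Subgroup H, M.Normal → M ≠ ⊥ → 11 ∣ Nat.card M) : False := by
  classical
  let _ : Fintype H := Fintype.ofFinite H
  have : Fact (Nat.Prime 11) := ⟨by norm_num⟩
  obtain ⟨M, hM⟩ := Cfsg.Agent.Lib.Helper23_ZStarB.exists_pModular 11 (by norm_num)
  obtain ⟨X, Y, hB, hdisj, hcX, hcY, εX, ε, hX, hε, hYdeg, -, hrel⟩ :=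
    Cfsg.Agent.S4441.result 11 M hM (by norm_num) P hP 2 he
  have hdeg1 : charDegree ((oneIrr H : IrrCharacter H) : H → ℂ) = 1 := by
    show ⌊((1 : ℂ)).re⌋₊ = 1
    simp
  have h1B : oneIrr H ∈ X ∪ Y := by
    rw [← hB]
    exact Cfsg.Agent.Lib.Helper30_KleinBlock.oneIrr_mem hM
  -- the principal character lies in `X`
  have h1X : oneIrr H ∈ X := by
    rcases h1B with h | h
    · exact h
    · exfalso
      have h2 := hYdeg _ h
      rw [hdeg1] at h2
      rcases hε with rfl | rfl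
      · norm_num [Int.ModEq] at h2
      · norm_num [Int.ModEq] at h2
  have hε1 : εX (oneIrr H) = 1 := by
    obtain ⟨h2, h3, -⟩ := hX _ h1X
    rw [hdeg1] at h3
    rcases h2 with h2 | h2
    · exact h2
    · rw [h2] at h3
      norm_num [Int.ModEq] at h3
  -- the second member of `X`
  obtain ⟨y, hy, hyu⟩ := (Nat.card_eq_two_iff' (⟨oneIrr H, h1X⟩ : X)).mp hcX
  set χ : IrrCharacter H := y.1 with hχdef
  have hχX : χ ∈ X := y.2
  have hχne : χ ≠ oneIrr H := by
    intro h
    apply hy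
    exact Subtype.ext h
  have hXeq : X = {oneIrr H, χ} := by
    ext ψ
    constructor
    · intro hψ
      by_cases h : ψ = oneIrr H
      · left; exact h
      · right
        have := hyu ⟨ψ, hψ⟩ (fun h' => h (congrArg Subtype.val h'))
        exact congrArg Subtype.val this
    · rintro (h | h)
      · rw [h]; exact h1X
      · rw [Set.mem_singleton_iff] at h
        rw [h]; exact hχX
  -- a member of `Y`
  have hYne : Nonempty Y := by
    have : 0 < Nat.card Y := by rw [hcY]; norm_num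
    exact (Nat.card_pos_iff.mp this).1
  obtain ⟨⟨θ, hθ⟩⟩ := hYne
  have hrel1 := hrel θ hθ 1 (by rw [orderOf_one]; norm_num)
  rw [hXeq, finsum_mem_pair hχne.symm, hε1] at hrel1
  obtain ⟨hεχ, hχdeg, hχval⟩ := hX χ hχX
  have hθdeg := hYdeg θ hθ
  set d := charDegree (χ : H → ℂ) with hd
  set m := charDegree (θ : H → ℂ) with hm
  have hd1 : (χ : H → ℂ) 1 = (d : ℂ) :=
    Cfsg.Agent.Lib.Helper77_BlockBasics.apply_one_eq_charDegree χ
  have hm1 : (θ : H → ℂ) 1 = (m : ℂ) :=
    Cfsg.Agent.Lib.Helper77_BlockBasics.apply_one_eq_charDegree θ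
  have hdd : d ∣ 7920 :=
    (Cfsg.Agent.Lib.Helper77_BlockBasics.charDegree_dvd_card χ).trans hcard
  have hmd : m ∣ 7920 :=
    (Cfsg.Agent.Lib.Helper77_BlockBasics.charDegree_dvd_card θ).trans hcard
  have hd0 : 0 < d := Nat.pos_of_dvd_of_pos hdd (by norm_num)
  have hm0 : 0 < m := Nat.pos_of_dvd_of_pos hmd (by norm_num)
  have hrelZ : ε * (m : ℤ) = 1 + εX χ * (d : ℤ) := by
    have h1 : ((oneIrr H : IrrCharacter H) : H → ℂ) 1 = 1 := rfl
    rw [hd1, hm1, h1] at hrel1
    have : ((ε * (m : ℤ) : ℤ) : ℂ) = ((1 + εX χ * (d : ℤ) : ℤ) : ℂ) := by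
      push_cast
      rw [hrel1]
      ring
    exact_mod_cast this
  -- determine the degrees
  have hkey : εX χ = -1 ∧ d = 10 := by
    rcases hε with hε' | hε' <;> rcases hεχ with hεχ' | hεχ'
    · -- m = 1 + d
      exfalso
      rw [hε', hεχ'] at hrelZ
      rw [hεχ'] at hχdeg
      have h3 : d % 11 = 1 := by
        have := hχdeg
        unfold Int.ModEq at this
        omega
      have h4 : m = d + 1 := by omega
      rw [h4] at hmd
      have h5 := num1 d hdd hmd h3
      exact hχne (eq_oneIrr_of_perfect hperf χ h5)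
    · exfalso
      rw [hε', hεχ'] at hrelZ
      omega
    · exfalso
      rw [hε', hεχ'] at hrelZ
      omega
    · refine ⟨hεχ', ?_⟩
      rw [hε', hεχ'] at hrelZ
      rw [hεχ'] at hχdeg
      have h4 : d = m + 1 := by omega
      have h3 : (m + 1) % 11 = 10 := by
        have := hχdeg
        unfold Int.ModEq at this
        omega
      rw [h4] at hdd
      have h5 := num2 m hmd hdd h3
      omega
  obtain ⟨hεχ', hd10⟩ := hkey
  have hχ1 : (χ : H → ℂ) 1 = 10 := by rw [hd1, hd10]; norm_num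
  -- values on `P ∖ 1` and on `(P ∖ 1) t`
  have ht11 : ¬ 11 ∣ orderOf t := by rw [ht]; norm_num
  have hvx : ∀ x : (P : Subgroup H), x ≠ 1 → (χ : H → ℂ) x = -1 := by
    intro x hx
    have := hχval x x.2 (fun h => hx (Subtype.ext h)) 1 (Subgroup.one_mem _)
      (by rw [orderOf_one]; norm_num)
    rw [mul_one, hεχ'] at this
    rw [this]; norm_num
  have hvxt : ∀ x : (P : Subgroup H), x ≠ 1 → (χ : H → ℂ) ((x : H) * t) = -1 := by
    intro x hx
    have := hχval x x.2 (fun h => hx (Subtype.ext h)) t htC ht11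
    rw [hεχ'] at this
    rw [this]; norm_num
  have hcP : Fintype.card (P : Subgroup H) = 11 := by rw [← Nat.card_eq_fintype_card]; exact hP
  have hsum0 : ∑ z : (P : Subgroup H), (χ : H → ℂ) z = 0 :=
    sum_eq_zero_of_values (P : Subgroup H) hcP _ hχ1 hvx
  have hsumt := Cfsg.Agent.Lib.Helper74_CharTools.sum_shift_eq_zero
    (Cfsg.Agent.Lib.Helper3_CharBridge.isCharacter_of_isIrrCharacter χ.2) (P : Subgroup H) hsum0 t
  -- hence `χ t = 10`
  have hχt : (χ : H → ℂ) t = 10 := by
    rw [← Finset.add_sum_erase Finset.univ _ (Finset.mem_univ (1 : (P : Subgroup H)))] at hsumt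
    have h2 : ∑ x ∈ (Finset.univ : Finset (P : Subgroup H)).erase 1, (χ : H → ℂ) ((x : H) * t) =
        ∑ x ∈ (Finset.univ : Finset (P : Subgroup H)).erase 1, (-1 : ℂ) := by
      refine Finset.sum_congr rfl (fun x hx' => ?_)
      exact hvxt x (Finset.ne_of_mem_erase hx')
    rw [h2, Finset.sum_const, Finset.card_erase_of_mem (Finset.mem_univ _), Finset.card_univ,
      hcP] at hsumt
    simp only [Subgroup.coe_one, one_mul] at hsumt
    have : (χ : H → ℂ) t = 10 := by
      have h3 : (χ : H → ℂ) t + (11 - 1) • (-1 : ℂ) = 0 := hsumt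
      norm_num at h3
      linear_combination h3
    exact this
  -- `t` lies in the kernel of `χ`
  have htK : t ∈ Cfsg.Agent.Lib.Helper23_ZStarB.irrKer χ := by
    rw [Cfsg.Agent.Lib.Helper23_ZStarB.mem_irrKer, hχt, hχ1]
  have ht1 : t ≠ 1 := by
    intro h
    rw [h, orderOf_one] at ht
    norm_num at ht
  have hKne : Cfsg.Agent.Lib.Helper23_ZStarB.irrKer χ ≠ ⊥ := by
    intro h
    rw [h, Subgroup.mem_bot] at htK
    exact ht1 htK
  have h11K := hN _ (Cfsg.Agent.Lib.Helper23_ZStarB.irrKer_normal χ) hKne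
  obtain ⟨z, hz⟩ := exists_prime_orderOf_dvd_card' 11 h11K
  have hzo : orderOf (z : H) = 11 := by rw [Subgroup.orderOf_coe]; exact hz
  have hpz : IsPGroup 11 (Subgroup.zpowers (z : H)) :=
    IsPGroup.of_card (n := 1) (by rw [Nat.card_zpowers, hzo, pow_one])
  obtain ⟨Q, hQ⟩ := hpz.exists_le_sylow
  obtain ⟨g, hg⟩ := MulAction.exists_smul_eq H Q P
  have hmem : g * (z : H) * g⁻¹ ∈ (P : Subgroup H) := by
    rw [← hg, Sylow.coe_subgroup_smul]
    have : (z : H) ∈ (Q : Subgroup H) := hQ (Subgroup.mem_zpowers _)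
    have h2 := Subgroup.smul_mem_pointwise_smul (z : H) (MulAut.conj g) _ this
    simpa [MulAut.smul_def] using h2
  have hne1 : g * (z : H) * g⁻¹ ≠ 1 := by
    intro h
    have : (z : H) = 1 := by
      have := congrArg (fun w => g⁻¹ * w * g) h
      simpa [mul_assoc] using this
    rw [this, orderOf_one] at hzo
    norm_num at hzo
  have hv1 := hvx ⟨g * (z : H) * g⁻¹, hmem⟩ (fun h => hne1 (congrArg Subtype.val h))
  have hv2 : (χ : H → ℂ) (g * (z : H) * g⁻¹) = (χ : H → ℂ) 1 := by
    have : g * (z : H) * g⁻¹ ∈ Cfsg.Agent.Lib.Helper23_ZStarB.irrKer χ :=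
      (Cfsg.Agent.Lib.Helper23_ZStarB.irrKer_normal χ).conj_mem _ z.2 g
    exact this
  rw [hχ1] at hv2
  have : (χ : H → ℂ) (g * (z : H) * g⁻¹) = -1 := hv1
  rw [hv2] at this
  norm_num at this

end Cfsg.Agent.Lib.Helper61_S2490_CHAR
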