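import Mathlib
import Cfsg.Prelude.Def_Characters

/-!
# The class-multiplication sum for pairs of conjugate involutions (helper62)

`invSum G z x = ∑_χ χ(z)² conj(χ(x)) / χ(1)`, the character sum of `Cfsg.Agent.S0840.result z z x`.
-/

set_option autoImplicit false

namespace Cfsg.Agent.Lib.Helper62_InvCount_Defs

open scoped ComplexConjugate

/-- The character sum in the class multiplication formula for `(z, z) ↦ x`. -/
noncomputable def invSum (G : Type*) [Group G] (z x : G) : ℂ :=
  ∑ᶠ χ : Cfsg.IrrCharacter G,
    (χ : G → ℂ) z * (χ : G → ℂ) z * conj ((χ : G → ℂ) x) / (χ : G → ℂ) 1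

end Cfsg.Agent.Lib.Helper62_InvCount_Defs
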