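import Mathlib
import Cfsg.Prelude.Def_Blocks
import Cfsg.Agent.S4441
import Cfsg.Agent.Lib.Helper62_InvCount_Defs
import Cfsg.Agent.Lib.Helper23_ZStarB
import Cfsg.Agent.Lib.Helper30_KleinBlock
import Cfsg.Agent.Lib.Helper74_CharTools
import Cfsg.Agent.Lib.Helper77_BlockBasics
import Cfsg.Agent.Lib.Helper80_CharBasic
import Cfsg.Agent.Lib.Helper16_SelfCent
import Cfsg.Agent.Lib.Helper3_CharColumn
import Cfsg.Agent.Lib.Helper61_S2490_CHAR
import Cfsg.Agent.Lib.Helper17_Sylow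

/-!
# INV-BR4 (helper47, package for helper62's S0977): Brauer's theorem on blocks of defect one with
`e = 4`, `C_G(P) = P`, in the form needed for the involution count.

General part (`blockData`): for any `e`, the data of `Cfsg.Agent.S4441.result` as `Finset`s, plus the
vanishing outside the block on `P ∖ 1`, `∑_{θ ∈ Y} θ(x) = -ε`, and the formula
`invSum(z,x) = ∑_{χ ∈ X} ε_χ χ(z)²/χ(1) - ε θ(z)²/θ(1)` for `p`-regular `z`.
-/

set_option autoImplicit false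
set_option linter.unusedSectionVars false
set_option linter.unusedVariables false

namespace Cfsg.Agent.Lib.Helper47_INV_BR4

open Cfsg Cfsg.Agent.Lib.Helper62_InvCount_Defs Cfsg.Agent.Lib.Helper80_CharBasic
open scoped ComplexConjugate

section general

variable {G : Type*} [Group G] [Fintype G]

/-- `∑_{θ ∈ Y} θ(x) = -ε` from column orthogonality of `x` against `1`. -/
theorem sumY_eq (X Y : Finset (IrrCharacter G)) (εX : IrrCharacter G → ℤ) (ε : ℤ)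
    (hdisj : Disjoint X Y) (x : G) (hx1 : x ≠ 1)
    (hXx : ∀ χ ∈ X, (χ : G → ℂ) x = (εX χ : ℂ))
    (hout : ∀ χ : IrrCharacter G, χ ∉ X → χ ∉ Y → (χ : G → ℂ) x = 0)
    (θ₀ : IrrCharacter G) (hY1 : ∀ θ ∈ Y, (θ : G → ℂ) 1 = (θ₀ : G → ℂ) 1)
    (hrel1 : (ε : ℂ) * (θ₀ : G → ℂ) 1 = ∑ χ ∈ X, (εX χ : ℂ) * (χ : G → ℂ) 1) :
    ∑ θ ∈ Y, (θ : G → ℂ) x = -(ε : ℂ) := by
  classical
  have hconj1 : ∀ χ : IrrCharacter G, conj ((χ : G → ℂ) 1) = (χ : G → ℂ) 1 := by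
    intro χ
    obtain ⟨n, _, hn⟩ := irr_apply_one χ
    rw [hn, Complex.conj_natCast]
  have hd0 : (θ₀ : G → ℂ) 1 ≠ 0 := by
    obtain ⟨n, hn, h⟩ := irr_apply_one θ₀
    rw [h]
    exact_mod_cast hn.ne'
  have hcol := Cfsg.Agent.Lib.Helper3_CharColumn.column_orthogonality x (1 : G)
  rw [if_neg (fun h => hx1 (isConj_one_left.mp h))] at hcol
  rw [← Finset.sum_add_sum_compl (X ∪ Y), Finset.sum_union hdisj] at hcol
  have h3 : ∑ χ ∈ (X ∪ Y)ᶜ, (χ : G → ℂ) x * conj ((χ : G → ℂ) 1) = 0 := by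
    apply Finset.sum_eq_zero
    intro χ hχ
    rw [Finset.mem_compl, Finset.mem_union, not_or] at hχ
    rw [hout χ hχ.1 hχ.2, zero_mul]
  have h1 : ∑ χ ∈ X, (χ : G → ℂ) x * conj ((χ : G → ℂ) 1) = (ε : ℂ) * (θ₀ : G → ℂ) 1 := by
    rw [hrel1]
    refine Finset.sum_congr rfl fun χ hχ => ?_
    rw [hXx χ hχ, hconj1]
  have h2 : ∑ θ ∈ Y, (θ : G → ℂ) x * conj ((θ : G → ℂ) 1) =
      (∑ θ ∈ Y, (θ : G → ℂ) x) * (θ₀ : G → ℂ) 1 := by
    rw [Finset.sum_mul]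
    refine Finset.sum_congr rfl fun θ hθ => ?_
    rw [hconj1, hY1 θ hθ]
  rw [h1, h2, h3, add_zero, ← add_mul] at hcol
  have := (mul_eq_zero.1 hcol).resolve_right hd0
  linear_combination this

/-- The involution sum in terms of the block. -/
theorem invSum_eq (X Y : Finset (IrrCharacter G)) (εX : IrrCharacter G → ℤ) (ε : ℤ)
    (hdisj : Disjoint X Y) (x z : G)
    (hXx : ∀ χ ∈ X, (χ : G → ℂ) x = (εX χ : ℂ))
    (hout : ∀ χ : IrrCharacter G, χ ∉ X → χ ∉ Y → (χ : G → ℂ) x = 0)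
    (θ₀ : IrrCharacter G) (hY1 : ∀ θ ∈ Y, (θ : G → ℂ) 1 = (θ₀ : G → ℂ) 1)
    (hYz : ∀ θ ∈ Y, (θ : G → ℂ) z = (θ₀ : G → ℂ) z)
    (hsumY : ∑ θ ∈ Y, (θ : G → ℂ) x = -(ε : ℂ)) :
    invSum G z x = ∑ χ ∈ X, (εX χ : ℂ) * ((χ : G → ℂ) z) ^ 2 / (χ : G → ℂ) 1 -
      (ε : ℂ) * ((θ₀ : G → ℂ) z) ^ 2 / (θ₀ : G → ℂ) 1 := by
  classical
  unfold invSum
  rw [finsum_eq_sum_of_fintype]
  rw [← Finset.sum_add_sum_compl (X ∪ Y), Finset.sum_union hdisj]
  have h3 : ∑ χ ∈ (X ∪ Y)ᶜ, (χ : G → ℂ) z * (χ : G → ℂ) z * conj ((χ : G → ℂ) x) /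
      (χ : G → ℂ) 1 = 0 := by
    apply Finset.sum_eq_zero
    intro χ hχ
    rw [Finset.mem_compl, Finset.mem_union, not_or] at hχ
    rw [hout χ hχ.1 hχ.2, map_zero, mul_zero, zero_div]
  have h1 : ∑ χ ∈ X, (χ : G → ℂ) z * (χ : G → ℂ) z * conj ((χ : G → ℂ) x) / (χ : G → ℂ) 1 =
      ∑ χ ∈ X, (εX χ : ℂ) * ((χ : G → ℂ) z) ^ 2 / (χ : G → ℂ) 1 := by
    refine Finset.sum_congr rfl fun χ hχ => ?_
    rw [hXx χ hχ, map_intCast]
    ring
  have h2 : ∑ θ ∈ Y, (θ : G → ℂ) z * (θ : G → ℂ) z * conj ((θ : G → ℂ) x) / (θ : G → ℂ) 1 =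
      ((θ₀ : G → ℂ) z) ^ 2 / (θ₀ : G → ℂ) 1 * conj (∑ θ ∈ Y, (θ : G → ℂ) x) := by
    rw [map_sum, Finset.mul_sum]
    refine Finset.sum_congr rfl fun θ hθ => ?_
    rw [hYz θ hθ, hY1 θ hθ]
    ring
  rw [h1, h2, h3, add_zero, hsumY, map_neg, map_intCast]
  ring

/-- The data of Brauer's theorem (S4441) for `C_G(P) = P`, as `Finset`s, with the vanishing of the
characters outside the block on `P ∖ 1`. -/
theorem block_data {p : ℕ} [hp : Fact p.Prime] (hp2 : p ≠ 2)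
    (P : Sylow p G) (hP : Nat.card P = p)
    (hC : Subgroup.centralizer ((P : Subgroup G) : Set G) = (P : Subgroup G))
    (e : ℕ) (he : (Subgroup.centralizer ((P : Subgroup G) : Set G)).relIndex
      (Subgroup.normalizer ((P : Subgroup G) : Set G)) = e) :
    ∃ (X Y : Finset (IrrCharacter G)) (εX : IrrCharacter G → ℤ) (ε : ℤ),
      Disjoint X Y ∧ X.card = e ∧ Y.card = (p - 1) / e ∧ (oneIrr G ∈ X ∨ oneIrr G ∈ Y) ∧
      (∀ χ ∈ X, (εX χ = 1 ∨ εX χ = -1) ∧ ((charDegree (χ : G → ℂ) : ℤ) ≡ εX χ [ZMOD p]) ∧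
        ∀ x ∈ (P : Subgroup G), x ≠ 1 → (χ : G → ℂ) x = (εX χ : ℂ)) ∧
      (ε = 1 ∨ ε = -1) ∧
      (∀ θ ∈ Y, (charDegree (θ : G → ℂ) : ℤ) ≡ ε * (e : ℤ) [ZMOD p]) ∧
      (∀ θ ∈ Y, ∀ θ' ∈ Y, ∀ g : G, ¬ p ∣ orderOf g → (θ : G → ℂ) g = (θ' : G → ℂ) g) ∧
      (∀ θ ∈ Y, ∀ g : G, ¬ p ∣ orderOf g →
        (ε : ℂ) * (θ : G → ℂ) g = ∑ χ ∈ X, (εX χ : ℂ) * (χ : G → ℂ) g) ∧
      (∀ χ : IrrCharacter G, χ ∉ X → χ ∉ Y → ∀ x ∈ (P : Subgroup G), x ≠ 1 →
        (χ : G → ℂ) x = 0) := by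
  classical
  have hp' : p.Prime := hp.out
  obtain ⟨M, hM⟩ := Cfsg.Agent.Lib.Helper23_ZStarB.exists_pModular p hp'
  obtain ⟨X, Y, hB, hdisj, hcX, hcY, εX, ε, hX, hε, hYdeg, hYreg, hrel⟩ :=
    Cfsg.Agent.S4441.result p M hM hp2 P hP e he
  set X' : Finset (IrrCharacter G) := Finset.univ.filter (fun χ => χ ∈ X) with hX'
  set Y' : Finset (IrrCharacter G) := Finset.univ.filter (fun χ => χ ∈ Y) with hY'
  have hXs : X = (X' : Set (IrrCharacter G)) := by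
    ext χ; simp [hX']
  have hYs : Y = (Y' : Set (IrrCharacter G)) := by
    ext χ; simp [hY']
  have hmX : ∀ χ, χ ∈ X' ↔ χ ∈ X := by
    intro χ; simp [hX']
  have hmY : ∀ χ, χ ∈ Y' ↔ χ ∈ Y := by
    intro χ; simp [hY']
  have h1reg : ¬ p ∣ orderOf (1 : G) := by
    rw [orderOf_one]
    exact fun h => hp'.one_lt.ne' (Nat.dvd_one.mp h)
  refine ⟨X', Y', εX, ε, ?_, ?_, ?_, ?_, ?_, hε, ?_, ?_, ?_, ?_⟩
  · rw [Finset.disjoint_left]
    intro χ h1 h2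
    exact Set.disjoint_left.1 hdisj ((hmX χ).1 h1) ((hmY χ).1 h2)
  · rw [← hcX, hXs, Nat.card_coe_set_eq, Set.ncard_coe_finset]
  · rw [← hcY, hYs, Nat.card_coe_set_eq, Set.ncard_coe_finset]
  · have h1B : oneIrr G ∈ X ∪ Y := by
      rw [← hB]
      exact Cfsg.Agent.Lib.Helper30_KleinBlock.oneIrr_mem hM
    rcases h1B with h | h
    · left; exact (hmX _).2 h
    · right; exact (hmY _).2 h
  · intro χ hχ
    obtain ⟨h1, h2, h3⟩ := hX χ ((hmX χ).1 hχ)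
    refine ⟨h1, h2, ?_⟩
    intro x hx hx1
    have := h3 x hx hx1 1 (one_mem _) h1reg
    rwa [mul_one] at this
  · intro θ hθ
    exact hYdeg θ ((hmY θ).1 hθ)
  · intro θ hθ θ' hθ' g hg
    exact hYreg θ ((hmY θ).1 hθ) θ' ((hmY θ').1 hθ') g hg
  · intro θ hθ g hg
    have := hrel θ ((hmY θ).1 hθ) g hg
    rw [this, hXs, finsum_mem_coe_finset]
  · intro χ hχX hχY x hx hx1
    have hnB : χ ∉ principalBlock M G := by
      rw [hB]
      rintro (h | h)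
      · exact hχX ((hmX χ).2 h)
      · exact hχY ((hmY χ).2 h)
    rw [Cfsg.Agent.Lib.Helper16_SelfCent.mem_principalBlock_iff hM hP hC χ, not_not] at hnB
    have hfac : (Nat.card G).factorization p = 1 := by
      have h1 := Sylow.card_eq_multiplicity P
      rw [hP] at h1
      have h2 : p ^ 1 = p ^ (Nat.card G).factorization p := by rw [pow_one]; exact h1
      exact (Nat.pow_right_injective hp'.two_le h2).symm
    have hG0 : Nat.card G ≠ 0 := Nat.card_pos.ne'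
    have hd1 : p ^ 1 ∣ Nat.card G := by
      rw [hp'.pow_dvd_iff_le_factorization hG0, hfac]
    have hd2 : ¬ p ^ (1 + 1) ∣ Nat.card G := by
      rw [hp'.pow_dvd_iff_le_factorization hG0, hfac]
      norm_num
    have hox : p ∣ orderOf x := by
      have h1 : orderOf (⟨x, hx⟩ : (P : Subgroup G)) ∣ p := by
        have := orderOf_dvd_natCard (⟨x, hx⟩ : (P : Subgroup G))
        rwa [hP] at this
      rw [Subgroup.orderOf_mk] at h1
      rcases (Nat.dvd_prime hp').mp h1 with h | h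
      · exact absurd (orderOf_eq_one_iff.mp h) hx1
      · rw [h]
    exact Cfsg.Agent.Lib.Helper74_CharTools.irr_vanish_of_defect_zero χ p 1 hp' hd1 hd2
      (by rw [pow_one]; exact hnB) x hox

end general

/-- INV-BR4 (L; character theory: `Cfsg.Agent.S4441.result` with `e = 4`). -/
theorem brauer_e4 {G : Type*} [Group G] [Finite G] {p : ℕ} [Fact p.Prime] (hp5 : 5 ≤ p)
    (P : Sylow p G) (hP : Nat.card P = p)
    (hC : Subgroup.centralizer ((P : Subgroup G) : Set G) = (P : Subgroup G))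
    (hN : Nat.card (Subgroup.normalizer ((P : Subgroup G) : Set G)) = 4 * p)
    (hperf : commutator G = ⊤)
    (x : G) (hx : x ∈ (P : Subgroup G)) (hx1 : x ≠ 1) :
    ∃ (χ₁ χ₂ χ₃ θ : Cfsg.IrrCharacter G) (η₁ η₂ η₃ ε : ℤ),
      (χ₁ ≠ χ₂ ∧ χ₁ ≠ χ₃ ∧ χ₂ ≠ χ₃ ∧ θ ≠ χ₁ ∧ θ ≠ χ₂ ∧ θ ≠ χ₃) ∧
      ((η₁ = 1 ∨ η₁ = -1) ∧ (η₂ = 1 ∨ η₂ = -1) ∧ (η₃ = 1 ∨ η₃ = -1) ∧ (ε = 1 ∨ ε = -1)) ∧
      (2 ≤ Cfsg.charDegree (χ₁ : G → ℂ) ∧ 2 ≤ Cfsg.charDegree (χ₂ : G → ℂ) ∧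
        2 ≤ Cfsg.charDegree (χ₃ : G → ℂ) ∧ 2 ≤ Cfsg.charDegree (θ : G → ℂ)) ∧
      (((Cfsg.charDegree (χ₁ : G → ℂ) : ℤ) ≡ η₁ [ZMOD p]) ∧
        ((Cfsg.charDegree (χ₂ : G → ℂ) : ℤ) ≡ η₂ [ZMOD p]) ∧
        ((Cfsg.charDegree (χ₃ : G → ℂ) : ℤ) ≡ η₃ [ZMOD p]) ∧
        ((Cfsg.charDegree (θ : G → ℂ) : ℤ) ≡ 4 * ε [ZMOD p])) ∧
      (ε * (Cfsg.charDegree (θ : G → ℂ) : ℤ) = 1 + η₁ * (Cfsg.charDegree (χ₁ : G → ℂ) : ℤ) +
        η₂ * (Cfsg.charDegree (χ₂ : G → ℂ) : ℤ) + η₃ * (Cfsg.charDegree (χ₃ : G → ℂ) : ℤ)) ∧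
      (Cfsg.charDegree (χ₁ : G → ℂ) ∣ Nat.card G ∧ Cfsg.charDegree (χ₂ : G → ℂ) ∣ Nat.card G ∧
        Cfsg.charDegree (χ₃ : G → ℂ) ∣ Nat.card G ∧ Cfsg.charDegree (θ : G → ℂ) ∣ Nat.card G) ∧
      ∀ z : G, orderOf z = 2 →
        ((ε : ℂ) * (θ : G → ℂ) z = 1 + (η₁ : ℂ) * (χ₁ : G → ℂ) z + (η₂ : ℂ) * (χ₂ : G → ℂ) z +
          (η₃ : ℂ) * (χ₃ : G → ℂ) z) ∧
        invSum G z x = 1 + (η₁ : ℂ) * ((χ₁ : G → ℂ) z) ^ 2 / (Cfsg.charDegree (χ₁ : G → ℂ) : ℂ) +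
          (η₂ : ℂ) * ((χ₂ : G → ℂ) z) ^ 2 / (Cfsg.charDegree (χ₂ : G → ℂ) : ℂ) +
          (η₃ : ℂ) * ((χ₃ : G → ℂ) z) ^ 2 / (Cfsg.charDegree (χ₃ : G → ℂ) : ℂ) -
          (ε : ℂ) * ((θ : G → ℂ) z) ^ 2 / (Cfsg.charDegree (θ : G → ℂ) : ℂ) := by
  classical
  let _ : Fintype G := Fintype.ofFinite G
  have hp' : p.Prime := Fact.out
  have hp2 : p ≠ 2 := by omega
  have he : (Subgroup.centralizer ((P : Subgroup G) : Set G)).relIndex
      (Subgroup.normalizer ((P : Subgroup G) : Set G)) = 4 := by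
    have h1 := Cfsg.Agent.Lib.Helper17_Sylow.card_mul_relIndex_of_le
      (Subgroup.centralizer_le_normalizer (s := ((P : Subgroup G) : Set G)))
    set k := (Subgroup.centralizer ((P : Subgroup G) : Set G)).relIndex
      (Subgroup.normalizer ((P : Subgroup G) : Set G)) with hk
    have h2 : Nat.card (Subgroup.centralizer ((P : Subgroup G) : Set G)) = p := by
      rw [hC]; exact hP
    rw [h2, hN] at h1
    have hpos : 0 < p := hp'.pos
    have : p * k = p * 4 := by rw [h1]; ring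
    exact Nat.eq_of_mul_eq_mul_left hpos this
  obtain ⟨X, Y, εX, ε, hdisj, hXc, hYc, h1mem, hX, hε, hYdeg, hYreg, hrel, hout⟩ :=
    block_data hp2 P hP hC 4 he
  have h1reg : ¬ p ∣ orderOf (1 : G) := by
    rw [orderOf_one]
    exact fun h => hp'.one_lt.ne' (Nat.dvd_one.mp h)
  have hzreg : ∀ z : G, orderOf z = 2 → ¬ p ∣ orderOf z := by
    intro z hz h
    rw [hz] at h
    have := Nat.le_of_dvd (by norm_num) h
    omega
  have hXx : ∀ χ ∈ X, (χ : G → ℂ) x = (εX χ : ℂ) := fun χ hχ => (hX χ hχ).2.2 x hx hx1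
  have houtx : ∀ χ : IrrCharacter G, χ ∉ X → χ ∉ Y → (χ : G → ℂ) x = 0 :=
    fun χ h1 h2 => hout χ h1 h2 x hx hx1
  have hd : ∀ χ : IrrCharacter G, (χ : G → ℂ) 1 = (charDegree (χ : G → ℂ) : ℂ) :=
    fun χ => Cfsg.Agent.Lib.Helper77_BlockBasics.apply_one_eq_charDegree χ
  have hdvd : ∀ χ : IrrCharacter G, charDegree (χ : G → ℂ) ∣ Nat.card G :=
    fun χ => Cfsg.Agent.Lib.Helper77_BlockBasics.charDegree_dvd_card χ
  have hdeg2 : ∀ χ : IrrCharacter G, χ ≠ oneIrr G → 2 ≤ charDegree (χ : G → ℂ) := by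
    intro χ hχ
    by_contra hlt
    have hpos := Cfsg.Agent.Lib.Helper77_BlockBasics.charDegree_pos χ
    have h1 : charDegree (χ : G → ℂ) = 1 := by omega
    exact hχ (Cfsg.Agent.Lib.Helper61_S2490_CHAR.eq_oneIrr_of_perfect hperf χ h1)
  have hone : ∀ g : G, ((oneIrr G : IrrCharacter G) : G → ℂ) g = 1 := fun g => rfl
  have hdeg1 : charDegree ((oneIrr G : IrrCharacter G) : G → ℂ) = 1 := by
    show ⌊((1 : ℂ)).re⌋₊ = 1
    simp
  have hYpos : 0 < Y.card := by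
    rw [hYc]
    apply Nat.div_pos <;> omega
  rcases h1mem with h1X | h1Y
  · -- the principal character lies in `X`
    have hε1 : εX (oneIrr G) = 1 := by
      obtain ⟨h2, h3, -⟩ := hX _ h1X
      rw [hdeg1] at h3
      rcases h2 with h2 | h2
      · exact h2
      · exfalso
        rw [h2] at h3
        have h4 := (Int.modEq_iff_dvd.1 h3)
        have h5 : (p : ℤ) ∣ 2 := by
          have : (-1 : ℤ) - ((1 : ℕ) : ℤ) = -2 := by norm_num
          rw [this] at h4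
          exact (dvd_neg.1 h4)
        have h6 : (p : ℤ) ≤ 2 := Int.le_of_dvd (by norm_num) h5
        omega
    have hcard3 : (X.erase (oneIrr G)).card = 3 := by
      rw [Finset.card_erase_of_mem h1X, hXc]
    obtain ⟨a, b, c, hab, hac, hbc, hE⟩ := Finset.card_eq_three.1 hcard3
    have haE : a ∈ X.erase (oneIrr G) := by rw [hE]; simp
    have hbE : b ∈ X.erase (oneIrr G) := by rw [hE]; simp
    have hcE : c ∈ X.erase (oneIrr G) := by rw [hE]; simp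
    obtain ⟨ha1, haX⟩ := Finset.mem_erase.1 haE
    obtain ⟨hb1, hbX⟩ := Finset.mem_erase.1 hbE
    obtain ⟨hc1, hcX⟩ := Finset.mem_erase.1 hcE
    obtain ⟨θ, hθ⟩ := Finset.card_pos.1 hYpos
    have hθnX : ∀ χ ∈ X, θ ≠ χ := by
      rintro χ hχ rfl
      exact Finset.disjoint_left.1 hdisj hχ hθ
    have hθ1 : θ ≠ oneIrr G := hθnX _ h1X
    have hsum : ∀ f : IrrCharacter G → ℂ,
        ∑ χ ∈ X, f χ = f (oneIrr G) + f a + f b + f c := by
      intro f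
      rw [← Finset.add_sum_erase X f h1X, hE, Finset.sum_insert (by simp [hab, hac]),
        Finset.sum_insert (by simp [hbc]), Finset.sum_singleton]
      ring
    have hY1 : ∀ θ' ∈ Y, (θ' : G → ℂ) 1 = (θ : G → ℂ) 1 :=
      fun θ' hθ' => hYreg θ' hθ' θ hθ 1 h1reg
    have hrel1 := hrel θ hθ 1 h1reg
    have hsumY := sumY_eq X Y εX ε hdisj x hx1 hXx houtx θ hY1 hrel1
    refine ⟨a, b, c, θ, εX a, εX b, εX c, ε,
      ⟨hab, hac, hbc, hθnX a haX, hθnX b hbX, hθnX c hcX⟩,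
      ⟨(hX a haX).1, (hX b hbX).1, (hX c hcX).1, hε⟩,
      ⟨hdeg2 a ha1, hdeg2 b hb1, hdeg2 c hc1, hdeg2 θ hθ1⟩,
      ⟨(hX a haX).2.1, (hX b hbX).2.1, (hX c hcX).2.1, ?_⟩, ?_,
      ⟨hdvd a, hdvd b, hdvd c, hdvd θ⟩, ?_⟩
    · have := hYdeg θ hθ
      rw [mul_comm] at this
      exact_mod_cast this
    · rw [hsum, hε1, hone, hd, hd, hd, hd] at hrel1
      have : ((ε * (charDegree (θ : G → ℂ) : ℤ) : ℤ) : ℂ) =
          ((1 + εX a * (charDegree (a : G → ℂ) : ℤ) + εX b * (charDegree (b : G → ℂ) : ℤ) +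
            εX c * (charDegree (c : G → ℂ) : ℤ) : ℤ) : ℂ) := by
        push_cast
        rw [hrel1]
        ring
      exact_mod_cast this
    · intro z hz
      have hzr := hzreg z hz
      have hYz : ∀ θ' ∈ Y, (θ' : G → ℂ) z = (θ : G → ℂ) z :=
        fun θ' hθ' => hYreg θ' hθ' θ hθ z hzr
      constructor
      · have := hrel θ hθ z hzr
        rw [hsum, hε1, hone] at this
        rw [this]
        push_cast
        ring
      · rw [invSum_eq X Y εX ε hdisj x z hXx houtx θ hY1 hYz hsumY, hsum, hε1, hone, hone,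
          hd, hd, hd, hd]
        push_cast
        ring
  · -- the principal character lies in `Y`: `p = 5`, relabel
    have hcong := hYdeg _ h1Y
    rw [hdeg1] at hcong
    have hdvd5 := Int.modEq_iff_dvd.1 hcong
    have hε' : ε = -1 ∧ p = 5 := by
      rcases hε with h | h
      · exfalso
        rw [h] at hdvd5
        have h5 : (p : ℤ) ∣ 3 := by
          have : (1 : ℤ) * ((4 : ℕ) : ℤ) - ((1 : ℕ) : ℤ) = 3 := by norm_num
          rwa [this] at hdvd5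
        have h6 : (p : ℤ) ≤ 3 := Int.le_of_dvd (by norm_num) h5
        omega
      · refine ⟨h, ?_⟩
        rw [h] at hdvd5
        have h5 : (p : ℤ) ∣ 5 := by
          have : (-1 : ℤ) * ((4 : ℕ) : ℤ) - ((1 : ℕ) : ℤ) = -5 := by norm_num
          rw [this] at hdvd5
          exact dvd_neg.1 hdvd5
        have h6 : p ∣ 5 := by exact_mod_cast h5
        exact (Nat.prime_dvd_prime_iff_eq hp' (by norm_num)).1 h6
    obtain ⟨hεm, hp5'⟩ := hε'
    have hXpos : 0 < X.card := by rw [hXc]; norm_num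
    obtain ⟨d, hdX⟩ := Finset.card_pos.1 hXpos
    have hcard3 : (X.erase d).card = 3 := by
      rw [Finset.card_erase_of_mem hdX, hXc]
    obtain ⟨a, b, c, hab, hac, hbc, hE⟩ := Finset.card_eq_three.1 hcard3
    have haE : a ∈ X.erase d := by rw [hE]; simp
    have hbE : b ∈ X.erase d := by rw [hE]; simp
    have hcE : c ∈ X.erase d := by rw [hE]; simp
    obtain ⟨had, haX⟩ := Finset.mem_erase.1 haE
    obtain ⟨hbd, hbX⟩ := Finset.mem_erase.1 hbE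
    obtain ⟨hcd, hcX⟩ := Finset.mem_erase.1 hcE
    have hXne1 : ∀ χ ∈ X, χ ≠ oneIrr G := by
      rintro χ hχ rfl
      exact Finset.disjoint_left.1 hdisj hχ h1Y
    have hsum : ∀ f : IrrCharacter G → ℂ, ∑ χ ∈ X, f χ = f d + f a + f b + f c := by
      intro f
      rw [← Finset.add_sum_erase X f hdX, hE, Finset.sum_insert (by simp [hab, hac]),
        Finset.sum_insert (by simp [hbc]), Finset.sum_singleton]
      ring
    have hY1 : ∀ θ' ∈ Y, (θ' : G → ℂ) 1 = ((oneIrr G : IrrCharacter G) : G → ℂ) 1 :=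
      fun θ' hθ' => hYreg θ' hθ' _ h1Y 1 h1reg
    have hrel1 := hrel _ h1Y 1 h1reg
    have hsumY := sumY_eq X Y εX ε hdisj x hx1 hXx houtx (oneIrr G) hY1 hrel1
    refine ⟨a, b, c, d, εX a, εX b, εX c, -εX d,
      ⟨hab, hac, hbc, had.symm, hbd.symm, hcd.symm⟩,
      ⟨(hX a haX).1, (hX b hbX).1, (hX c hcX).1, ?_⟩,
      ⟨hdeg2 a (hXne1 a haX), hdeg2 b (hXne1 b hbX), hdeg2 c (hXne1 c hcX),
        hdeg2 d (hXne1 d hdX)⟩,
      ⟨(hX a haX).2.1, (hX b hbX).2.1, (hX c hcX).2.1, ?_⟩, ?_,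
      ⟨hdvd a, hdvd b, hdvd c, hdvd d⟩, ?_⟩
    · rcases (hX d hdX).1 with h | h
      · right; rw [h]
      · left; rw [h]; norm_num
    · refine (hX d hdX).2.1.trans ?_
      rw [Int.modEq_iff_dvd, hp5']
      exact ⟨-εX d, by push_cast; ring⟩
    · rw [hsum, hεm, hone, hd, hd, hd, hd] at hrel1
      have : (((-εX d) * (charDegree (d : G → ℂ) : ℤ) : ℤ) : ℂ) =
          ((1 + εX a * (charDegree (a : G → ℂ) : ℤ) + εX b * (charDegree (b : G → ℂ) : ℤ) +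
            εX c * (charDegree (c : G → ℂ) : ℤ) : ℤ) : ℂ) := by
        push_cast
        push_cast at hrel1
        linear_combination hrel1
      exact_mod_cast this
    · intro z hz
      have hzr := hzreg z hz
      have hYz : ∀ θ' ∈ Y, (θ' : G → ℂ) z = ((oneIrr G : IrrCharacter G) : G → ℂ) z :=
        fun θ' hθ' => hYreg θ' hθ' _ h1Y z hzr
      constructor
      · have := hrel _ h1Y z hzr
        rw [hsum, hεm, hone] at this
        push_cast at this ⊢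
        linear_combination this
      · rw [invSum_eq X Y εX ε hdisj x z hXx houtx (oneIrr G) hY1 hYz hsumY, hsum, hεm, hone,
          hone, hd, hd, hd, hd]
        push_cast
        ring

end Cfsg.Agent.Lib.Helper47_INV_BR4
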