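/-
S0977 package INV-AR4320 (architect: helper62): the arithmetic for order 4320.
Degrees of the four non-trivial characters of the principal 5-block are among 4, 6, 9, 16, 24, 36,
54; a bound `c ≤ 148` from the class equation and column orthogonality; then a kernel-checked
search over the values at the involution (`decide +kernel`, about 75 s).
-/
import Mathlib

set_option autoImplicit false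

namespace Cfsg.Agent.Lib.Helper55_INV_AR4320

/-- the sign attached to a degree by its residue mod 5 -/
def sg (d : ℕ) : ℤ := if d % 5 = 1 then 1 else -1

def degs : List ℕ := [4, 6, 9, 16, 24, 36, 54]

def divs : List ℕ := [1, 2, 3, 4, 5, 6, 8, 9, 10, 12, 15, 16, 18, 20, 24, 27, 30, 32, 36, 40, 45,
  48, 54, 60, 72, 80, 90, 96, 108, 120, 135, 144]

/-- the bracket of the class-multiplication equation, times the product of the degrees -/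
def val (d₁ d₂ d₃ D : ℕ) (η₁ η₂ η₃ ε a₁ a₂ a₃ b : ℤ) : ℤ :=
  (d₁ : ℤ) * d₂ * d₃ * D + η₁ * a₁ ^ 2 * ((d₂ : ℤ) * d₃ * D) + η₂ * a₂ ^ 2 * ((d₁ : ℤ) * d₃ * D) +
    η₃ * a₃ ^ 2 * ((d₁ : ℤ) * d₂ * D) - ε * b ^ 2 * ((d₁ : ℤ) * d₂ * d₃)

/-- innermost test: the admissible values of `c` -/
def Inner (P v col : ℤ) (good : Prop) : Prop :=
  5 * col ^ 2 * P ≤ 4320 * v →
    ∀ c ∈ divs, col ≤ (c : ℤ) → 5 * (c : ℤ) ^ 2 * P = 4320 * v → (c = 24 ∨ c = 48) ∧ good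

instance (P v col : ℤ) (good : Prop) [Decidable good] : Decidable (Inner P v col good) :=
  inferInstanceAs (Decidable (5 * col ^ 2 * P ≤ 4320 * v →
    ∀ c ∈ divs, col ≤ (c : ℤ) → 5 * (c : ℤ) ^ 2 * P = 4320 * v → (c = 24 ∨ c = 48) ∧ good))

/-- test for given values `a₁ a₂ a₃` and `K = k` -/
def Mid (d₁ d₂ d₃ D : ℕ) (η₁ η₂ η₃ ε a₁ a₂ a₃ K : ℤ) : Prop :=
  0 ≤ K → K ≤ (D : ℤ) →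
    Inner ((d₁ : ℤ) * d₂ * d₃ * D) (val d₁ d₂ d₃ D η₁ η₂ η₃ ε a₁ a₂ a₃ ((D : ℤ) - 2 * K))
      (1 + a₁ ^ 2 + a₂ ^ 2 + a₃ ^ 2 + ((D : ℤ) - 2 * K) ^ 2) (d₁ * d₂ * d₃ * D = 1296)

instance (d₁ d₂ d₃ D : ℕ) (η₁ η₂ η₃ ε a₁ a₂ a₃ K : ℤ) :
    Decidable (Mid d₁ d₂ d₃ D η₁ η₂ η₃ ε a₁ a₂ a₃ K) :=
  inferInstanceAs (Decidable (0 ≤ K → K ≤ (D : ℤ) →
    Inner ((d₁ : ℤ) * d₂ * d₃ * D) (val d₁ d₂ d₃ D η₁ η₂ η₃ ε a₁ a₂ a₃ ((D : ℤ) - 2 * K))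
      (1 + a₁ ^ 2 + a₂ ^ 2 + a₃ ^ 2 + ((D : ℤ) - 2 * K) ^ 2) (d₁ * d₂ * d₃ * D = 1296)))

/-- the search over `j₁ j₂ j₃` -/
def Search (d₁ d₂ d₃ D : ℕ) (η₁ η₂ η₃ ε : ℤ) : Prop :=
  ∀ j₁ : ℕ, j₁ ≤ d₁ → 1 + ((d₁ : ℤ) - 2 * j₁) ^ 2 ≤ 148 →
  ∀ j₂ : ℕ, j₂ ≤ d₂ → 1 + ((d₁ : ℤ) - 2 * j₁) ^ 2 + ((d₂ : ℤ) - 2 * j₂) ^ 2 ≤ 148 →
  ∀ j₃ : ℕ, j₃ ≤ d₃ →
    1 + ((d₁ : ℤ) - 2 * j₁) ^ 2 + ((d₂ : ℤ) - 2 * j₂) ^ 2 + ((d₃ : ℤ) - 2 * j₃) ^ 2 ≤ 148 →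
    Mid d₁ d₂ d₃ D η₁ η₂ η₃ ε ((d₁ : ℤ) - 2 * j₁) ((d₂ : ℤ) - 2 * j₂) ((d₃ : ℤ) - 2 * j₃)
      (ε * (η₁ * j₁ + η₂ * j₂ + η₃ * j₃))

set_option synthInstance.maxSize 4000 in
set_option synthInstance.maxHeartbeats 2000000 in
instance (d₁ d₂ d₃ D : ℕ) (η₁ η₂ η₃ ε : ℤ) : Decidable (Search d₁ d₂ d₃ D η₁ η₂ η₃ ε) :=
  inferInstanceAs (Decidable (∀ j₁ : ℕ, j₁ ≤ d₁ → 1 + ((d₁ : ℤ) - 2 * j₁) ^ 2 ≤ 148 →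
  ∀ j₂ : ℕ, j₂ ≤ d₂ → 1 + ((d₁ : ℤ) - 2 * j₁) ^ 2 + ((d₂ : ℤ) - 2 * j₂) ^ 2 ≤ 148 →
  ∀ j₃ : ℕ, j₃ ≤ d₃ →
    1 + ((d₁ : ℤ) - 2 * j₁) ^ 2 + ((d₂ : ℤ) - 2 * j₂) ^ 2 + ((d₃ : ℤ) - 2 * j₃) ^ 2 ≤ 148 →
    Mid d₁ d₂ d₃ D η₁ η₂ η₃ ε ((d₁ : ℤ) - 2 * j₁) ((d₂ : ℤ) - 2 * j₂) ((d₃ : ℤ) - 2 * j₃)
      (ε * (η₁ * j₁ + η₂ * j₂ + η₃ * j₃))))

set_option maxRecDepth 1000000 in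
theorem search' :
    ∀ d₁ ∈ degs, ∀ d₂ ∈ degs, ∀ d₃ ∈ degs, ∀ D ∈ degs,
      (-sg D) * (D : ℤ) = 1 + sg d₁ * d₁ + sg d₂ * d₂ + sg d₃ * d₃ →
      1 + d₁ ^ 2 + d₂ ^ 2 + d₃ ^ 2 + D ^ 2 ≤ 4320 →
      Search d₁ d₂ d₃ D (sg d₁) (sg d₂) (sg d₃) (-sg D) := by
  decide +kernel


/-- instance of `Search` used for the zero equation -/
def ZMid (d₁ d₂ d₃ D : ℕ) (η₁ η₂ η₃ ε a₁ a₂ a₃ K : ℤ) (j₁ : ℕ) : Prop :=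
  0 ≤ K → K ≤ (D : ℤ) → val d₁ d₂ d₃ D η₁ η₂ η₃ ε a₁ a₂ a₃ ((D : ℤ) - 2 * K) = 0 → j₁ = 0

instance (d₁ d₂ d₃ D : ℕ) (η₁ η₂ η₃ ε a₁ a₂ a₃ K : ℤ) (j₁ : ℕ) :
    Decidable (ZMid d₁ d₂ d₃ D η₁ η₂ η₃ ε a₁ a₂ a₃ K j₁) :=
  inferInstanceAs (Decidable (0 ≤ K → K ≤ (D : ℤ) →
    val d₁ d₂ d₃ D η₁ η₂ η₃ ε a₁ a₂ a₃ ((D : ℤ) - 2 * K) = 0 → j₁ = 0))

def ZSearch (d₁ d₂ d₃ D : ℕ) (η₁ η₂ η₃ ε : ℤ) : Prop :=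
  ∀ j₁ : ℕ, j₁ ≤ d₁ → ∀ j₂ : ℕ, j₂ ≤ d₂ → ∀ j₃ : ℕ, j₃ ≤ d₃ →
    ZMid d₁ d₂ d₃ D η₁ η₂ η₃ ε ((d₁ : ℤ) - 2 * j₁) ((d₂ : ℤ) - 2 * j₂) ((d₃ : ℤ) - 2 * j₃)
      (ε * (η₁ * j₁ + η₂ * j₂ + η₃ * j₃)) j₁

set_option synthInstance.maxSize 4000 in
set_option synthInstance.maxHeartbeats 2000000 in
instance (d₁ d₂ d₃ D : ℕ) (η₁ η₂ η₃ ε : ℤ) : Decidable (ZSearch d₁ d₂ d₃ D η₁ η₂ η₃ ε) :=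
  inferInstanceAs (Decidable (∀ j₁ : ℕ, j₁ ≤ d₁ → ∀ j₂ : ℕ, j₂ ≤ d₂ → ∀ j₃ : ℕ, j₃ ≤ d₃ →
    ZMid d₁ d₂ d₃ D η₁ η₂ η₃ ε ((d₁ : ℤ) - 2 * j₁) ((d₂ : ℤ) - 2 * j₂) ((d₃ : ℤ) - 2 * j₃)
      (ε * (η₁ * j₁ + η₂ * j₂ + η₃ * j₃)) j₁))

set_option maxRecDepth 1000000 in
theorem zero_search :
    ∀ d₁ ∈ degs, ∀ d₂ ∈ degs, ∀ d₃ ∈ degs, ∀ D ∈ degs,
      (-sg D) * (D : ℤ) = 1 + sg d₁ * d₁ + sg d₂ * d₂ + sg d₃ * d₃ →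
      d₁ * d₂ * d₃ * D = 1296 →
      ZSearch d₁ d₂ d₃ D (sg d₁) (sg d₂) (sg d₃) (-sg D) := by
  decide +kernel

set_option synthInstance.maxSize 4000 in
set_option synthInstance.maxHeartbeats 2000000 in
theorem mem_degs : ∀ d : ℕ, d ≤ 65 → 2 ≤ d → d ∣ 4320 → (d % 5 = 1 ∨ d % 5 = 4) → d ∈ degs := by
  decide +kernel

set_option synthInstance.maxSize 4000 in
set_option synthInstance.maxHeartbeats 2000000 in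
theorem mem_divs : ∀ c : ℕ, c ≤ 148 → 0 < c → c ∣ 4320 → c ∈ divs := by
  decide +kernel


theorem six_le (d : ℕ) (η : ℤ) (hη : η = 1 ∨ η = -1) (h2 : 2 ≤ d) (hc : (d : ℤ) ≡ η [ZMOD 5]) :
    6 * η ≤ (d : ℤ) := by
  unfold Int.ModEq at hc
  rcases hη with rfl | rfl <;> omega

theorem sg_eq (d : ℕ) (η : ℤ) (hη : η = 1 ∨ η = -1) (hc : (d : ℤ) ≡ η [ZMOD 5]) :
    (d % 5 = 1 ∨ d % 5 = 4) ∧ η = sg d := by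
  unfold Int.ModEq at hc
  unfold sg
  rcases hη with rfl | rfl
  · have h : d % 5 = 1 := by omega
    exact ⟨Or.inl h, by rw [if_pos h]⟩
  · have h : d % 5 = 4 := by omega
    have h' : ¬ d % 5 = 1 := by omega
    exact ⟨Or.inr h, by rw [if_neg h']⟩

theorem term_le (d : ℕ) (η a X : ℤ) (h6 : 6 * η ≤ (d : ℤ)) (hX : 0 ≤ X) :
    6 * (η * a ^ 2 * X) ≤ a ^ 2 * ((d : ℤ) * X) := by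
  have hn : 0 ≤ a ^ 2 * X := mul_nonneg (sq_nonneg a) hX
  calc 6 * (η * a ^ 2 * X) = (6 * η) * (a ^ 2 * X) := by ring
    _ ≤ (d : ℤ) * (a ^ 2 * X) := mul_le_mul_of_nonneg_right h6 hn
    _ = a ^ 2 * ((d : ℤ) * X) := by ring

/-- the bound `c ≤ 148` -/
theorem cbound (d₁ d₂ d₃ D : ℕ) (η₁ η₂ η₃ ε : ℤ)
    (hη₁ : η₁ = 1 ∨ η₁ = -1) (hη₂ : η₂ = 1 ∨ η₂ = -1) (hη₃ : η₃ = 1 ∨ η₃ = -1)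
    (hε : ε = 1 ∨ ε = -1)
    (h2₁ : 2 ≤ d₁) (h2₂ : 2 ≤ d₂) (h2₃ : 2 ≤ d₃) (h2D : 2 ≤ D)
    (hc₁ : (d₁ : ℤ) ≡ η₁ [ZMOD 5]) (hc₂ : (d₂ : ℤ) ≡ η₂ [ZMOD 5]) (hc₃ : (d₃ : ℤ) ≡ η₃ [ZMOD 5])
    (hcD : (D : ℤ) ≡ 4 * ε [ZMOD 5]) (a₁ a₂ a₃ b : ℤ) (c : ℕ)
    (hcol : 1 + a₁ ^ 2 + a₂ ^ 2 + a₃ ^ 2 + b ^ 2 ≤ (c : ℤ))
    (heq : 5 * (c : ℤ) ^ 2 * ((d₁ : ℤ) * d₂ * d₃ * D) =
      4320 * val d₁ d₂ d₃ D η₁ η₂ η₃ ε a₁ a₂ a₃ b) : c ≤ 148 := by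
  have h6₁ := six_le d₁ η₁ hη₁ h2₁ hc₁
  have h6₂ := six_le d₂ η₂ hη₂ h2₂ hc₂
  have h6₃ := six_le d₃ η₃ hη₃ h2₃ hc₃
  have h6D : 6 * (-ε) ≤ (D : ℤ) := by
    apply six_le D (-ε) (by rcases hε with rfl | rfl <;> simp) h2D
    unfold Int.ModEq at hcD ⊢
    rcases hε with rfl | rfl <;> omega
  have p₁ : (0 : ℤ) < d₁ := by exact_mod_cast (by omega : 0 < d₁)
  have p₂ : (0 : ℤ) < d₂ := by exact_mod_cast (by omega : 0 < d₂)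
  have p₃ : (0 : ℤ) < d₃ := by exact_mod_cast (by omega : 0 < d₃)
  have pD : (0 : ℤ) < D := by exact_mod_cast (by omega : 0 < D)
  have t₁ := term_le d₁ η₁ a₁ ((d₂ : ℤ) * d₃ * D) h6₁ (by positivity)
  have t₂ := term_le d₂ η₂ a₂ ((d₁ : ℤ) * d₃ * D) h6₂ (by positivity)
  have t₃ := term_le d₃ η₃ a₃ ((d₁ : ℤ) * d₂ * D) h6₃ (by positivity)
  have t₄ := term_le D (-ε) b ((d₁ : ℤ) * d₂ * d₃) h6D (by positivity)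
  have hP : (0 : ℤ) < (d₁ : ℤ) * d₂ * d₃ * D := by positivity
  set P : ℤ := (d₁ : ℤ) * d₂ * d₃ * D with hPdef
  have h1 : 6 * val d₁ d₂ d₃ D η₁ η₂ η₃ ε a₁ a₂ a₃ b ≤
      (6 + (a₁ ^ 2 + a₂ ^ 2 + a₃ ^ 2 + b ^ 2)) * P := by
    unfold val
    have e₁ : a₁ ^ 2 * ((d₁ : ℤ) * ((d₂ : ℤ) * d₃ * D)) = a₁ ^ 2 * P := by rw [hPdef]; ring
    have e₂ : a₂ ^ 2 * ((d₂ : ℤ) * ((d₁ : ℤ) * d₃ * D)) = a₂ ^ 2 * P := by rw [hPdef]; ring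
    have e₃ : a₃ ^ 2 * ((d₃ : ℤ) * ((d₁ : ℤ) * d₂ * D)) = a₃ ^ 2 * P := by rw [hPdef]; ring
    have e₄ : b ^ 2 * ((D : ℤ) * ((d₁ : ℤ) * d₂ * d₃)) = b ^ 2 * P := by rw [hPdef]; ring
    rw [e₁] at t₁; rw [e₂] at t₂; rw [e₃] at t₃; rw [e₄] at t₄
    have e₅ : (6 + (a₁ ^ 2 + a₂ ^ 2 + a₃ ^ 2 + b ^ 2)) * P =
        6 * P + a₁ ^ 2 * P + a₂ ^ 2 * P + a₃ ^ 2 * P + b ^ 2 * P := by ring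
    rw [e₅]
    have e₆ : -ε * b ^ 2 * ((d₁ : ℤ) * d₂ * d₃) = -(ε * b ^ 2 * ((d₁ : ℤ) * d₂ * d₃)) := by ring
    rw [e₆] at t₄
    linarith
  have h2 : (6 + (a₁ ^ 2 + a₂ ^ 2 + a₃ ^ 2 + b ^ 2)) * P ≤ ((c : ℤ) + 5) * P :=
    mul_le_mul_of_nonneg_right (by linarith) hP.le
  have h3 : 30 * (c : ℤ) ^ 2 * P ≤ 4320 * ((c : ℤ) + 5) * P := by
    have : 30 * (c : ℤ) ^ 2 * P = 6 * (5 * (c : ℤ) ^ 2 * P) := by ring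
    rw [this, heq]
    linarith
  have h4 : 30 * (c : ℤ) ^ 2 ≤ 4320 * ((c : ℤ) + 5) := le_of_mul_le_mul_right h3 hP
  by_contra hcon
  have h5 : (149 : ℤ) ≤ c := by exact_mod_cast (by omega : 149 ≤ c)
  nlinarith


theorem le65 (a b c d : ℕ) (h : 1 + a ^ 2 + b ^ 2 + c ^ 2 + d ^ 2 ≤ 4320) : a ≤ 65 := by
  by_contra hcon
  have : 66 ≤ a := by omega
  nlinarith

theorem k_eq (d₁ d₂ d₃ D : ℕ) (η₁ η₂ η₃ ε : ℤ) (hε : ε = 1 ∨ ε = -1) (j₁ j₂ j₃ k : ℕ)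
    (hrel : ε * (D : ℤ) = 1 + η₁ * d₁ + η₂ * d₂ + η₃ * d₃)
    (hrelt : ε * ((D : ℤ) - 2 * k) = 1 + η₁ * ((d₁ : ℤ) - 2 * j₁) + η₂ * ((d₂ : ℤ) - 2 * j₂) +
      η₃ * ((d₃ : ℤ) - 2 * j₃)) :
    (k : ℤ) = ε * (η₁ * j₁ + η₂ * j₂ + η₃ * j₃) := by
  rcases hε with rfl | rfl <;> linarith

set_option maxHeartbeats 1000000 in
theorem AR4320 (d₁ d₂ d₃ D : ℕ) (η₁ η₂ η₃ ε : ℤ)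
    (hη₁ : η₁ = 1 ∨ η₁ = -1) (hη₂ : η₂ = 1 ∨ η₂ = -1) (hη₃ : η₃ = 1 ∨ η₃ = -1)
    (hε : ε = 1 ∨ ε = -1)
    (h2₁ : 2 ≤ d₁) (h2₂ : 2 ≤ d₂) (h2₃ : 2 ≤ d₃) (h2D : 2 ≤ D)
    (hc₁ : (d₁ : ℤ) ≡ η₁ [ZMOD 5]) (hc₂ : (d₂ : ℤ) ≡ η₂ [ZMOD 5]) (hc₃ : (d₃ : ℤ) ≡ η₃ [ZMOD 5])
    (hcD : (D : ℤ) ≡ 4 * ε [ZMOD 5])
    (hrel : ε * (D : ℤ) = 1 + η₁ * d₁ + η₂ * d₂ + η₃ * d₃)
    (hdv₁ : d₁ ∣ 4320) (hdv₂ : d₂ ∣ 4320) (hdv₃ : d₃ ∣ 4320) (hdvD : D ∣ 4320)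
    (hsq : 1 + d₁ ^ 2 + d₂ ^ 2 + d₃ ^ 2 + D ^ 2 ≤ 4320)
    (j₁ j₂ j₃ k c : ℕ) (hj₁ : j₁ ≤ d₁) (hj₂ : j₂ ≤ d₂) (hj₃ : j₃ ≤ d₃) (hk : k ≤ D)
    (hrelt : ε * ((D : ℤ) - 2 * k) = 1 + η₁ * ((d₁ : ℤ) - 2 * j₁) + η₂ * ((d₂ : ℤ) - 2 * j₂) +
      η₃ * ((d₃ : ℤ) - 2 * j₃))
    (hc : c ∣ 4320) (hcpos : 0 < c)
    (hcol : 1 + ((d₁ : ℤ) - 2 * j₁) ^ 2 + ((d₂ : ℤ) - 2 * j₂) ^ 2 + ((d₃ : ℤ) - 2 * j₃) ^ 2 +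
      ((D : ℤ) - 2 * k) ^ 2 ≤ c)
    (heq : 5 * (c : ℤ) ^ 2 * (d₁ * d₂ * d₃ * D) = 4320 * ((d₁ : ℤ) * d₂ * d₃ * D +
      η₁ * ((d₁ : ℤ) - 2 * j₁) ^ 2 * (d₂ * d₃ * D) + η₂ * ((d₂ : ℤ) - 2 * j₂) ^ 2 * (d₁ * d₃ * D) +
      η₃ * ((d₃ : ℤ) - 2 * j₃) ^ 2 * (d₁ * d₂ * D) - ε * ((D : ℤ) - 2 * k) ^ 2 * (d₁ * d₂ * d₃))) :
    ¬ 32 ∣ c ∧
    ∀ j₁' j₂' j₃' k' : ℕ, j₁' ≤ d₁ → j₂' ≤ d₂ → j₃' ≤ d₃ → k' ≤ D →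
      ε * ((D : ℤ) - 2 * k') = 1 + η₁ * ((d₁ : ℤ) - 2 * j₁') + η₂ * ((d₂ : ℤ) - 2 * j₂') +
        η₃ * ((d₃ : ℤ) - 2 * j₃') →
      (d₁ : ℤ) * d₂ * d₃ * D + η₁ * ((d₁ : ℤ) - 2 * j₁') ^ 2 * (d₂ * d₃ * D) +
        η₂ * ((d₂ : ℤ) - 2 * j₂') ^ 2 * (d₁ * d₃ * D) +
        η₃ * ((d₃ : ℤ) - 2 * j₃') ^ 2 * (d₁ * d₂ * D) -
        ε * ((D : ℤ) - 2 * k') ^ 2 * (d₁ * d₂ * d₃) = 0 →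
      j₁' = 0 := by
  -- the bound on `c`
  have hc148 : c ≤ 148 :=
    cbound d₁ d₂ d₃ D η₁ η₂ η₃ ε hη₁ hη₂ hη₃ hε h2₁ h2₂ h2₃ h2D hc₁ hc₂ hc₃ hcD _ _ _ _ c hcol heq
  have hcdiv : c ∈ divs := mem_divs c hc148 hcpos hc
  -- the degrees
  obtain ⟨hm₁, hs₁⟩ := sg_eq d₁ η₁ hη₁ hc₁
  obtain ⟨hm₂, hs₂⟩ := sg_eq d₂ η₂ hη₂ hc₂
  obtain ⟨hm₃, hs₃⟩ := sg_eq d₃ η₃ hη₃ hc₃
  have hcD' : (D : ℤ) ≡ -ε [ZMOD 5] := by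
    unfold Int.ModEq at hcD ⊢
    rcases hε with rfl | rfl <;> omega
  obtain ⟨hmD, hsD⟩ := sg_eq D (-ε) (by rcases hε with rfl | rfl <;> simp) hcD'
  have hεD : ε = -sg D := by rw [← hsD, neg_neg]
  have hd₁ : d₁ ∈ degs := mem_degs d₁ (le65 d₁ d₂ d₃ D hsq) h2₁ hdv₁ hm₁
  have hd₂ : d₂ ∈ degs := mem_degs d₂ (le65 d₂ d₁ d₃ D (by linarith)) h2₂ hdv₂ hm₂
  have hd₃ : d₃ ∈ degs := mem_degs d₃ (le65 d₃ d₁ d₂ D (by linarith)) h2₃ hdv₃ hm₃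
  have hdD : D ∈ degs := mem_degs D (le65 D d₁ d₂ d₃ (by linarith)) h2D hdvD hmD
  have hk' := k_eq d₁ d₂ d₃ D η₁ η₂ η₃ ε hε j₁ j₂ j₃ k hrel hrelt
  subst hs₁ hs₂ hs₃ hεD
  have hrel' : (-sg D) * (D : ℤ) = 1 + sg d₁ * d₁ + sg d₂ * d₂ + sg d₃ * d₃ := hrel
  -- pruning bounds
  have hc148' : (c : ℤ) ≤ 148 := by exact_mod_cast hc148
  have hS := search' d₁ hd₁ d₂ hd₂ d₃ hd₃ D hdD hrel' hsq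
    j₁ hj₁ (by linarith [sq_nonneg ((d₂ : ℤ) - 2 * j₂), sq_nonneg ((d₃ : ℤ) - 2 * j₃),
      sq_nonneg ((D : ℤ) - 2 * k)])
    j₂ hj₂ (by linarith [sq_nonneg ((d₃ : ℤ) - 2 * j₃), sq_nonneg ((D : ℤ) - 2 * k)])
    j₃ hj₃ (by linarith [sq_nonneg ((D : ℤ) - 2 * k)])
  unfold Mid at hS
  rw [← hk'] at hS
  have hI := hS (by positivity) (by exact_mod_cast hk)
  unfold Inner at hI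
  have heq' : 5 * (c : ℤ) ^ 2 * ((d₁ : ℤ) * d₂ * d₃ * D) =
      4320 * val d₁ d₂ d₃ D (sg d₁) (sg d₂) (sg d₃) (-sg D) ((d₁ : ℤ) - 2 * j₁)
        ((d₂ : ℤ) - 2 * j₂) ((d₃ : ℤ) - 2 * j₃) ((D : ℤ) - 2 * k) := by
    unfold val
    exact heq
  have hP : (0 : ℤ) ≤ (d₁ : ℤ) * d₂ * d₃ * D := by positivity
  have hcolpos : (0 : ℤ) ≤ 1 + ((d₁ : ℤ) - 2 * j₁) ^ 2 + ((d₂ : ℤ) - 2 * j₂) ^ 2 +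
      ((d₃ : ℤ) - 2 * j₃) ^ 2 + ((D : ℤ) - 2 * k) ^ 2 := by positivity
  have hF : 5 * (1 + ((d₁ : ℤ) - 2 * j₁) ^ 2 + ((d₂ : ℤ) - 2 * j₂) ^ 2 +
      ((d₃ : ℤ) - 2 * j₃) ^ 2 + ((D : ℤ) - 2 * k) ^ 2) ^ 2 * ((d₁ : ℤ) * d₂ * d₃ * D) ≤
      4320 * val d₁ d₂ d₃ D (sg d₁) (sg d₂) (sg d₃) (-sg D) ((d₁ : ℤ) - 2 * j₁)
        ((d₂ : ℤ) - 2 * j₂) ((d₃ : ℤ) - 2 * j₃) ((D : ℤ) - 2 * k) := by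
    rw [← heq']
    have h1 : (1 + ((d₁ : ℤ) - 2 * j₁) ^ 2 + ((d₂ : ℤ) - 2 * j₂) ^ 2 +
      ((d₃ : ℤ) - 2 * j₃) ^ 2 + ((D : ℤ) - 2 * k) ^ 2) ^ 2 ≤ (c : ℤ) ^ 2 :=
      pow_le_pow_left₀ hcolpos hcol 2
    have h2 := mul_le_mul_of_nonneg_right h1 hP
    linarith
  obtain ⟨hc24, hgood⟩ := hI hF c hcdiv hcol heq'
  refine ⟨?_, ?_⟩
  · rcases hc24 with rfl | rfl <;> decide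
  · intro j₁' j₂' j₃' k' hj₁' hj₂' hj₃' hk'' hrelt' hzero
    have hkk := k_eq d₁ d₂ d₃ D (sg d₁) (sg d₂) (sg d₃) (-sg D) hε j₁' j₂' j₃' k' hrel' hrelt'
    have hZ := zero_search d₁ hd₁ d₂ hd₂ d₃ hd₃ D hdD hrel' hgood j₁' hj₁' j₂' hj₂' j₃' hj₃'
    unfold ZMid at hZ
    rw [← hkk] at hZ
    apply hZ (by positivity) (by exact_mod_cast hk'')
    unfold val
    exact hzero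

end Cfsg.Agent.Lib.Helper55_INV_AR4320
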