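import Mathlib
import Cfsg.Agent.S0840
import Cfsg.Agent.Lib.Helper30_KleinCount
import Cfsg.Agent.Lib.Helper62_InvCount_Defs

/-!
# INV-CORE (package of S0976 / S0977 / S0980, architect helper62; formalized by helper5)

`P` a self-centralizing Sylow `p`-subgroup of order `p` (odd), `|N_G(P)|` even, `1 ≠ x ∈ P`.
There is an involution `t` inverting `x`; `x` is a product of two conjugates of `t` in exactly `p`
ways, and is never a product of two conjugates of an involution not conjugate to `t`. With the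
class multiplication formula S0840 this gives `p |C(t)|² = |G| invSum(t,x)` and
`invSum(z,x) = 0` for involutions `z` not conjugate to `t`.
-/

set_option autoImplicit false
open Cfsg Cfsg.Agent.Lib.Helper62_InvCount_Defs
open scoped ComplexConjugate

namespace Cfsg.Agent.Lib.Helper5_INV_CORE

section basic

variable {G : Type*} [Group G]

theorem mul_self_of_orderOf_two {t : G} (ht : orderOf t = 2) : t * t = 1 := by
  rw [← pow_two, ← ht]; exact pow_orderOf_eq_one t

theorem inv_of_orderOf_two {t : G} (ht : orderOf t = 2) : t⁻¹ = t :=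
  inv_eq_of_mul_eq_one_right (mul_self_of_orderOf_two ht)

/-- the first factor of a product of two involutions inverts the product -/
theorem inverts_of_prod' {u v x : G} (hu : u * u = 1) (hv : v * v = 1) (h : u * v = x) :
    u * x * u⁻¹ = x⁻¹ := by
  have huinv : u⁻¹ = u := inv_eq_of_mul_eq_one_right hu
  have hvinv : v⁻¹ = v := inv_eq_of_mul_eq_one_right hv
  rw [huinv, ← h, mul_inv_rev, huinv, hvinv, ← mul_assoc, hu, one_mul]

/-- an element inverting `w` inverts its powers -/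
theorem inverts_pow {t w : G} (h : t * w * t⁻¹ = w⁻¹) (k : ℕ) :
    t * w ^ k * t⁻¹ = (w ^ k)⁻¹ := by
  have h1 : MulAut.conj t w = w⁻¹ := by rw [MulAut.conj_apply]; exact h
  have h2 := map_pow (MulAut.conj t) w k
  rw [h1, MulAut.conj_apply, inv_pow] at h2
  exact h2

/-- an element inverting `x` inverts every element of `zpowers x` -/
theorem inverts_zpowers' {t x : G} (h : t * x * t⁻¹ = x⁻¹) {w : G}
    (hw : w ∈ Subgroup.zpowers x) : t * w * t⁻¹ = w⁻¹ := by
  obtain ⟨k, rfl⟩ := hw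
  have h1 : MulAut.conj t x = x⁻¹ := by rw [MulAut.conj_apply]; exact h
  have h2 := map_zpow (MulAut.conj t) x k
  rw [h1, MulAut.conj_apply] at h2
  simp only at h2 ⊢
  rw [h2, inv_zpow]

/-- if `t` inverts `w` and `w` has odd order dividing `2k+1`, then `t * w` is the conjugate of
`t` by `w ^ k` -/
theorem conj_eq_mul_of_inverts {t w : G} (k : ℕ) (hinv : t * w * t⁻¹ = w⁻¹)
    (hw : w ^ (2 * k + 1) = 1) : w ^ k * t * (w ^ k)⁻¹ = t * w := by
  have h1 : t * w ^ k * t⁻¹ = (w ^ k)⁻¹ := inverts_pow hinv k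
  have h2 : (w ^ k)⁻¹ * (w ^ k)⁻¹ = w := by
    have h3 : w * (w ^ k * w ^ k) = 1 := by
      rw [← pow_add, ← pow_succ', ← two_mul]; exact hw
    have h4 : (w ^ k * w ^ k)⁻¹ = w := inv_eq_of_mul_eq_one_left h3
    calc (w ^ k)⁻¹ * (w ^ k)⁻¹ = (w ^ k * w ^ k)⁻¹ := by rw [mul_inv_rev]
      _ = w := h4
  have h5 : w ^ k * t = t * (w ^ k)⁻¹ := by
    calc w ^ k * t = (t * w ^ k * t⁻¹)⁻¹ * t := by rw [h1, inv_inv]
      _ = t * (w ^ k)⁻¹ := by group
  rw [h5, mul_assoc, h2]

end basic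

section count

variable {G : Type*} [Group G] [Finite G]

/-- a pair of involutions with product `x` has its first member in `t P`, conjugate to `t` -/
theorem isConj_of_pair (P : Subgroup G) {t x : G} (k : ℕ)
    (hinvP : ∀ w ∈ P, t * w * t⁻¹ = w⁻¹) (hpow : ∀ w ∈ P, w ^ (2 * k + 1) = 1)
    (hxP : x ∈ P) (hCx : ∀ g : G, g * x = x * g → g ∈ P)
    {u v : G} (hu : u * u = 1) (hv : v * v = 1) (huv : u * v = x) :
    t⁻¹ * u ∈ P ∧ IsConj t u := by
  have hinv : u * x * u⁻¹ = x⁻¹ := inverts_of_prod' hu hv huv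
  have hinvt : t * x * t⁻¹ = x⁻¹ := hinvP x hxP
  have hmem : t⁻¹ * u ∈ P := by
    apply hCx
    have h1 : u * x = x⁻¹ * u := by rw [← hinv]; group
    have h2 : t⁻¹ * x⁻¹ = x * t⁻¹ := by
      have : x = t⁻¹ * x⁻¹ * t := by rw [← hinvt]; group
      calc t⁻¹ * x⁻¹ = (t⁻¹ * x⁻¹ * t) * t⁻¹ := by group
        _ = x * t⁻¹ := by rw [← this]
    calc t⁻¹ * u * x = t⁻¹ * (u * x) := by group
      _ = t⁻¹ * (x⁻¹ * u) := by rw [h1]
      _ = (t⁻¹ * x⁻¹) * u := by group
      _ = x * t⁻¹ * u := by rw [h2]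
      _ = x * (t⁻¹ * u) := by group
  refine ⟨hmem, ?_⟩
  have h3 := conj_eq_mul_of_inverts k (hinvP _ hmem) (hpow _ hmem)
  have h4 : t * (t⁻¹ * u) = u := by group
  rw [h4] at h3
  exact isConj_iff.mpr ⟨_, h3⟩

/-- the number of ways of writing `x` as a product of two conjugates of `t` -/
theorem card_pairs_eq (P : Subgroup G) {t x : G} (k : ℕ) (ht : orderOf t = 2)
    (hinvP : ∀ w ∈ P, t * w * t⁻¹ = w⁻¹) (hpow : ∀ w ∈ P, w ^ (2 * k + 1) = 1)
    (hxP : x ∈ P) (hCx : ∀ g : G, g * x = x * g → g ∈ P) :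
    Nat.card {q : G × G // IsConj t q.1 ∧ IsConj t q.2 ∧ q.1 * q.2 = x} = Nat.card P := by
  have htt : t * t = 1 := mul_self_of_orderOf_two ht
  have htinv : t⁻¹ = t := inv_of_orderOf_two ht
  have hconj : ∀ w ∈ P, IsConj t (t * w) := fun w hw =>
    isConj_iff.mpr ⟨_, conj_eq_mul_of_inverts k (hinvP w hw) (hpow w hw)⟩
  have hord : ∀ v : G, IsConj t v → v * v = 1 := by
    intro v hv
    obtain ⟨c, hc⟩ := isConj_iff.mp hv
    rw [← hc]
    calc c * t * c⁻¹ * (c * t * c⁻¹) = c * (t * t) * c⁻¹ := by group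
      _ = 1 := by rw [htt]; group
  let f : P → {q : G × G // IsConj t q.1 ∧ IsConj t q.2 ∧ q.1 * q.2 = x} :=
    fun w => ⟨(t * w, t * (w * x)), by
      refine ⟨hconj _ w.2, hconj _ (P.mul_mem w.2 hxP), ?_⟩
      have h1 := hinvP _ w.2
      rw [htinv] at h1
      show t * (w : G) * (t * ((w : G) * x)) = x
      calc t * (w : G) * (t * ((w : G) * x)) = (t * (w : G) * t) * (w : G) * x := by group
        _ = x := by rw [h1]; group⟩
  have hf : Function.Bijective f := by
    constructor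
    · intro w w' h
      have h1 : t * (w : G) = t * (w' : G) := congrArg (fun q => q.1.1) h
      exact Subtype.ext (mul_left_cancel h1)
    · rintro ⟨⟨u, v⟩, hu, hv, huv⟩
      simp only at hu hv huv
      obtain ⟨hmem, -⟩ := isConj_of_pair P k hinvP hpow hxP hCx (hord u hu) (hord v hv) huv
      refine ⟨⟨t⁻¹ * u, hmem⟩, ?_⟩
      apply Subtype.ext
      show (t * (t⁻¹ * u), t * (t⁻¹ * u * x)) = (u, v)
      have h1 : t * (t⁻¹ * u) = u := by group
      have h2 : t * (t⁻¹ * u * x) = v := by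
        have huinv : u⁻¹ = u := inv_eq_of_mul_eq_one_right (hord u hu)
        calc t * (t⁻¹ * u * x) = u * x := by group
          _ = u⁻¹ * x := by rw [huinv]
          _ = v := by rw [← huv]; group
      rw [h1, h2]
  rw [← Nat.card_congr (Equiv.ofBijective f hf)]

end count

section main

/-- **INV-CORE.** -/
theorem invol_core {G : Type*} [Group G] [Finite G] {p : ℕ} [Fact p.Prime] (hp2 : p ≠ 2)
    (P : Sylow p G) (hP : Nat.card P = p)
    (hC : Subgroup.centralizer ((P : Subgroup G) : Set G) = (P : Subgroup G))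
    (heven : 2 ∣ Nat.card (Subgroup.normalizer ((P : Subgroup G) : Set G)))
    (x : G) (hx : x ∈ (P : Subgroup G)) (hx1 : x ≠ 1) :
    ∃ t : G, orderOf t = 2 ∧ t * x * t⁻¹ = x⁻¹ ∧
      (p : ℂ) * (Nat.card (Subgroup.centralizer ({t} : Set G)) : ℂ) ^ 2 =
        (Nat.card G : ℂ) * invSum G t x ∧
      ∀ z : G, orderOf z = 2 → ¬ IsConj t z → invSum G z x = 0 := by
  classical
  have hp : p.Prime := Fact.out
  have hodd : Odd p := hp.odd_of_ne_two hp2
  obtain ⟨k, hk⟩ := hodd
  -- `P = zpowers x`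
  have hPx : ∀ w ∈ (P : Subgroup G), w ∈ Subgroup.zpowers x := by
    intro w hw
    have h1 : Subgroup.zpowers (⟨x, hx⟩ : (P : Subgroup G)) = ⊤ :=
      zpowers_eq_top_of_prime_card (G := (P : Subgroup G)) hP
        (fun h => hx1 (congrArg Subtype.val h))
    have h2 : (⟨w, hw⟩ : (P : Subgroup G)) ∈ Subgroup.zpowers (⟨x, hx⟩ : (P : Subgroup G)) := by
      rw [h1]; exact Subgroup.mem_top _
    obtain ⟨i, hi⟩ := h2
    exact ⟨i, by simpa using congrArg Subtype.val hi⟩
  have hpowP : ∀ w ∈ (P : Subgroup G), w ^ (2 * k + 1) = 1 := by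
    intro w hw
    have h1 : (⟨w, hw⟩ : (P : Subgroup G)) ^ Nat.card (P : Subgroup G) = 1 := pow_card_eq_one'
    rw [hP] at h1
    have h2 : w ^ p = 1 := by simpa using congrArg Subtype.val h1
    rw [← hk]
    exact h2
  -- the centralizer of `x` is `P`
  have hCx : ∀ g : G, g * x = x * g → g ∈ (P : Subgroup G) := by
    intro g hg
    rw [← hC, Subgroup.mem_centralizer_iff]
    intro w hw
    obtain ⟨i, rfl⟩ := hPx w hw
    have h1 : Commute g x := hg
    exact ((h1.zpow_right i).eq).symm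
  -- an involution of the normalizer
  have : Fact (Nat.Prime 2) := ⟨Nat.prime_two⟩
  obtain ⟨t, ht, htN⟩ : ∃ t : G, orderOf t = 2 ∧
      t ∈ Subgroup.normalizer ((P : Subgroup G) : Set G) := by
    obtain ⟨t', ht'⟩ := exists_prime_orderOf_dvd_card'
      (G := Subgroup.normalizer ((P : Subgroup G) : Set G)) 2 heven
    exact ⟨(t' : G), by rw [Subgroup.orderOf_coe]; exact ht', t'.2⟩
  have htt : t * t = 1 := mul_self_of_orderOf_two ht
  have htinv : t⁻¹ = t := inv_of_orderOf_two ht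
  -- `t ∉ P`
  have htP : t ∉ (P : Subgroup G) := by
    intro h
    have h1 := hpowP _ h
    have h2 : orderOf t ∣ 2 * k + 1 := orderOf_dvd_of_pow_eq_one h1
    rw [ht] at h2
    omega
  -- `t` inverts `x`
  have hy : t * x * t⁻¹ ∈ (P : Subgroup G) :=
    (Subgroup.mem_normalizer_iff.mp htN x).mp hx
  have hinvx : t * x * t⁻¹ = x⁻¹ := by
    -- `w = x * (t x t⁻¹)` is centralized by `t`
    set y := t * x * t⁻¹ with hydef
    obtain ⟨i, hi⟩ := hPx y hy
    have hxy : x * y = y * x := by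
      rw [← hi]
      exact ((Commute.refl x).zpow_right i).eq
    have hty : t * y * t⁻¹ = x := by
      rw [hydef, htinv]
      calc t * (t * x * t) * t =
          (t * t) * x * (t * t) := by group
        _ = x := by rw [htt]; group
    have hw : x * y ∈ (P : Subgroup G) := (P : Subgroup G).mul_mem hx hy
    have htw : t * (x * y) = (x * y) * t := by
      have h1 : t * (x * y) * t⁻¹ = x * y := by
        calc t * (x * y) * t⁻¹ =
            (t * x * t⁻¹) * (t * y * t⁻¹) := by group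
          _ = y * x := by rw [hty]
          _ = x * y := hxy.symm
      calc t * (x * y) = (t * (x * y) * t⁻¹) * t := by group
        _ = (x * y) * t := by rw [h1]
    by_contra hne
    have hw1 : x * y ≠ 1 := by
      intro h
      exact hne (eq_inv_of_mul_eq_one_right h)
    -- `x * y` generates `P`, so `t` centralizes `P`
    have hgen : ∀ w ∈ (P : Subgroup G), w ∈ Subgroup.zpowers (x * y) := by
      intro w hw'
      have h1 : Subgroup.zpowers (⟨x * y, hw⟩ : (P : Subgroup G)) = ⊤ :=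
        zpowers_eq_top_of_prime_card (G := (P : Subgroup G)) hP
          (fun h => hw1 (congrArg Subtype.val h))
      have h2 : (⟨w, hw'⟩ : (P : Subgroup G)) ∈
          Subgroup.zpowers (⟨x * y, hw⟩ : (P : Subgroup G)) := by
        rw [h1]; exact Subgroup.mem_top _
      obtain ⟨j, hj⟩ := h2
      exact ⟨j, by simpa using congrArg Subtype.val hj⟩
    apply htP
    rw [← hC, Subgroup.mem_centralizer_iff]
    intro w hw'
    obtain ⟨j, rfl⟩ := hgen w hw'
    have h1 : Commute t (x * y) := htw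
    exact ((h1.zpow_right j).eq).symm
  have hinvP : ∀ w ∈ (P : Subgroup G), t * w * t⁻¹ = w⁻¹ :=
    fun w hw => inverts_zpowers' hinvx (hPx w hw)
  refine ⟨t, ht, hinvx, ?_, ?_⟩
  · -- the count
    have hcard := card_pairs_eq (P : Subgroup G) k ht hinvP hpowP hx hCx
    rw [hP] at hcard
    have hform := Cfsg.Agent.S0840.result t t x
    rw [hcard] at hform
    have hK := Cfsg.Agent.Lib.Helper30_KleinCount.card_class_mul t
    obtain ⟨K, hKdef⟩ : ∃ K : ℕ, K = Nat.card {w : G // IsConj t w} := ⟨_, rfl⟩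
    obtain ⟨c, hcdef⟩ :
      ∃ c : ℕ, c = Nat.card (Subgroup.centralizer ({t} : Set G)) := ⟨_, rfl⟩
    obtain ⟨N, hNdef⟩ : ∃ N : ℕ, N = Nat.card G := ⟨_, rfl⟩
    have hNpos : (N : ℂ) ≠ 0 := by
      rw [hNdef]; exact_mod_cast (Nat.card_pos (α := G)).ne'
    rw [← hKdef, ← hcdef, ← hNdef] at hK
    rw [← hKdef, ← hNdef] at hform
    rw [← hcdef, ← hNdef]
    have hKc : (K : ℂ) * (c : ℂ) = (N : ℂ) := by exact_mod_cast hK
    have hS : invSum G t x = ∑ᶠ χ : Cfsg.IrrCharacter G,
        (χ : G → ℂ) t * (χ : G → ℂ) t * conj ((χ : G → ℂ) x) / (χ : G → ℂ) 1 := rfl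
    rw [hS]
    set S := ∑ᶠ χ : Cfsg.IrrCharacter G,
        (χ : G → ℂ) t * (χ : G → ℂ) t * conj ((χ : G → ℂ) x) / (χ : G → ℂ) 1
    have e0 : (p : ℂ) * N = K * K * S := by
      rw [hform]
      field_simp
    have e1 : (N : ℂ) * ((p : ℂ) * (c : ℂ) ^ 2) = (N : ℂ) * ((N : ℂ) * S) := by
      calc (N : ℂ) * ((p : ℂ) * (c : ℂ) ^ 2) = ((p : ℂ) * N) * (c : ℂ) ^ 2 := by ring
        _ = (K * K * S) * (c : ℂ) ^ 2 := by rw [e0]
        _ = ((K : ℂ) * c) ^ 2 * S := by ring
        _ = (N : ℂ) * ((N : ℂ) * S) := by rw [hKc]; ring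
    exact mul_left_cancel₀ hNpos e1
  · intro z hz hnc
    have hzz : z * z = 1 := mul_self_of_orderOf_two hz
    have hordz : ∀ v : G, IsConj z v → v * v = 1 := by
      intro v hv
      obtain ⟨c, hc⟩ := isConj_iff.mp hv
      rw [← hc]
      calc c * z * c⁻¹ * (c * z * c⁻¹) = c * (z * z) * c⁻¹ := by group
        _ = 1 := by rw [hzz]; group
    have hempty : IsEmpty {q : G × G // IsConj z q.1 ∧ IsConj z q.2 ∧ q.1 * q.2 = x} := by
      constructor
      rintro ⟨⟨u, v⟩, hu, hv, huv⟩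
      simp only at hu hv huv
      obtain ⟨-, hconj⟩ :=
        isConj_of_pair (P : Subgroup G) k hinvP hpowP hx hCx (hordz u hu) (hordz v hv) huv
      exact hnc (hconj.trans hu.symm)
    have hform := Cfsg.Agent.S0840.result z z x
    rw [Nat.card_of_isEmpty] at hform
    have hS : invSum G z x = ∑ᶠ χ : Cfsg.IrrCharacter G,
        (χ : G → ℂ) z * (χ : G → ℂ) z * conj ((χ : G → ℂ) x) / (χ : G → ℂ) 1 := rfl
    rw [hS]
    have hclasspos : (Nat.card {w : G // IsConj z w} : ℂ) ≠ 0 := by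
      have : Nonempty {w : G // IsConj z w} := ⟨⟨z, IsConj.refl z⟩⟩
      exact_mod_cast (Nat.card_pos (α := {w : G // IsConj z w})).ne'
    have hNpos : (Nat.card G : ℂ) ≠ 0 := by exact_mod_cast (Nat.card_pos (α := G)).ne'
    have h0 : ((0 : ℕ) : ℂ) = 0 := Nat.cast_zero
    rw [h0] at hform
    have h1 := hform.symm
    rw [mul_eq_zero] at h1
    rcases h1 with h1 | h1
    · exfalso
      rw [div_eq_zero_iff] at h1
      rcases h1 with h1 | h1
      · rw [mul_self_eq_zero] at h1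
        exact hclasspos h1
      · exact hNpos h1
    · exact h1

end main

end Cfsg.Agent.Lib.Helper5_INV_CORE
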