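import Mathlib
import Cfsg.Prelude.Def_Blocks
import Cfsg.Agent.Lib.Helper62_InvCount_Defs
import Cfsg.Agent.S1001
import Cfsg.Agent.Lib.Helper17_Sylow
import Cfsg.Agent.Lib.Helper74_CharTools
import Cfsg.Agent.Lib.Helper30_ThreePQ
import Cfsg.Agent.Lib.Helper30_FourPQ
import Cfsg.Agent.Lib.Helper3_CharColumn
import Cfsg.Agent.Lib.Helper5_INV_CORE
import Cfsg.Agent.Lib.Helper47_INV_BR4
import Cfsg.Agent.Lib.Helper55_INV_AR4320

/-!
# No simple group of order 4320 (helper11; package S0977-FIN of helper62)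
-/

set_option autoImplicit false

namespace Cfsg.Agent.Lib.Helper11_INV_S0977

open Cfsg Cfsg.Agent.Lib.Helper62_InvCount_Defs Cfsg.Agent.Lib.Helper80_CharBasic
open scoped ComplexConjugate

/-- `‖χ(g)‖ ≤ χ(1)` for an irreducible character. -/
theorem irr_norm_le' {G : Type*} [Group G] [Finite G] (χ : Cfsg.IrrCharacter G) (g : G) :
    ‖(χ : G → ℂ) g‖ ≤ (Cfsg.charDegree (χ : G → ℂ) : ℝ) := by
  obtain ⟨m, σ, hσ, hσχ⟩ := χ.2
  have h1 : (χ : G → ℂ) 1 = (m : ℂ) := by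
    rw [← hσχ, Representation.char_one]; simp
  rw [Cfsg.Agent.Lib.Helper78_CentralChar.charDegree_eq_of_one_eq_natCast h1, ← hσχ]
  have := Cfsg.Agent.Lib.Helper3_CharEigen.norm_char_le σ g
  simpa using this

/-- Parity of the value at an involution, with the bound `j ≤ χ(1)`. -/
theorem parity_le {G : Type*} [Group G] [Finite G] (χ : Cfsg.IrrCharacter G) (t : G)
    (ht : orderOf t = 2) :
    ∃ j : ℕ, j ≤ Cfsg.charDegree (χ : G → ℂ) ∧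
      (χ : G → ℂ) t = (((Cfsg.charDegree (χ : G → ℂ) : ℤ) - 2 * (j : ℤ) : ℤ) : ℂ) := by
  obtain ⟨j, hj⟩ := Cfsg.Agent.Lib.Helper74_CharTools.involution_parity χ t ht
  refine ⟨j, ?_, by rw [hj]; push_cast; ring⟩
  have h1 := irr_norm_le' χ t
  rw [hj] at h1
  have h2 : ((Cfsg.charDegree (χ : G → ℂ) : ℂ) - 2 * (j : ℂ)) =
      (((Cfsg.charDegree (χ : G → ℂ) : ℝ) - 2 * (j : ℝ) : ℝ) : ℂ) := by
    push_cast; ring
  rw [h2, Complex.norm_real, Real.norm_eq_abs] at h1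
  have h3 := (abs_le.mp h1).1
  have h4 : (j : ℝ) ≤ (Cfsg.charDegree (χ : G → ℂ) : ℝ) := by linarith
  exact_mod_cast h4

/-- The group-theoretic setting: a self-centralizing Sylow `5`-subgroup of order `5` with
normalizer of order `20`. -/
theorem setup {G : Type*} [Group G] [Finite G] [IsSimpleGroup G] (hG : Nat.card G = 4320) :
    ∃ (P : Sylow 5 G) (x : G), Nat.card P = 5 ∧
      Subgroup.centralizer ((P : Subgroup G) : Set G) = (P : Subgroup G) ∧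
      Nat.card (Subgroup.normalizer ((P : Subgroup G) : Set G)) = 4 * 5 ∧
      x ∈ (P : Subgroup G) ∧ x ≠ 1 := by
  have : Fact (Nat.Prime 5) := ⟨by norm_num⟩
  obtain ⟨P⟩ : Nonempty (Sylow 5 G) := inferInstance
  have hP : Nat.card (P : Subgroup G) = 5 := by
    have := Cfsg.Agent.Lib.Helper17_Sylow.card_sylow_eq_pow (p := 5) (k := 1) (m := 864)
      (by rw [hG]; norm_num) (by norm_num) P
    simpa using this
  -- an element of order 5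
  have h5 : 5 ∣ Nat.card (P : Subgroup G) := by rw [hP]
  obtain ⟨y, hy⟩ := exists_prime_orderOf_dvd_card' (G := (P : Subgroup G)) 5 h5
  have hx5 : orderOf (y : G) = 5 := by rw [Subgroup.orderOf_coe]; exact hy
  have hx1 : (y : G) ≠ 1 := by
    intro h
    rw [h, orderOf_one] at hx5
    norm_num at hx5
  have hPz : (P : Subgroup G) = Subgroup.zpowers (y : G) :=
    Cfsg.Agent.Lib.Helper17_Sylow.sylow_eq_zpowers P hP (y : G) y.2 hx5
  have hS := Cfsg.Agent.S1001.result (G := G) 5 3 5 (by norm_num) (by rw [hG]; norm_num) (y : G) hx5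
  have hcz : Subgroup.centralizer ((Subgroup.zpowers (y : G) : Subgroup G) : Set G) =
      Subgroup.centralizer ({(y : G)} : Set G) := by
    apply le_antisymm
    · apply Subgroup.centralizer_le
      intro z hz
      rw [Set.mem_singleton_iff] at hz
      rw [hz]
      exact Subgroup.mem_zpowers _
    · intro g hg
      rw [Subgroup.mem_centralizer_iff] at hg ⊢
      intro z hz
      obtain ⟨k, rfl⟩ := Subgroup.mem_zpowers_iff.mp hz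
      have hc : Commute (y : G) g := hg (y : G) rfl
      exact hc.zpow_left k
  have hC : Subgroup.centralizer ((P : Subgroup G) : Set G) = (P : Subgroup G) := by
    rw [hPz, hcz, hS]
  refine ⟨P, (y : G), hP, hC, ?_, y.2, hx1⟩
  -- the order of the normalizer
  have he := Cfsg.Agent.Lib.Helper17_Sylow.relIndex_centralizer_normalizer_dvd_pred
    (p := 5) (P : Subgroup G) hP
  have hCN : Subgroup.centralizer ((P : Subgroup G) : Set G) ≤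
      Subgroup.normalizer ((P : Subgroup G) : Set G) := Subgroup.centralizer_le_normalizer _
  have hmul := Cfsg.Agent.Lib.Helper17_Sylow.card_mul_relIndex_of_le hCN
  have hns := Cfsg.Agent.Lib.Helper17_Sylow.card_normalizer_mul_card_sylow P
  have hmod : Nat.card (Sylow 5 G) ≡ 1 [MOD 5] := card_sylow_modEq_one 5 G
  rw [hG] at hns
  rw [hC, hP] at hmul
  set e := (Subgroup.centralizer ((P : Subgroup G) : Set G)).relIndex
    (Subgroup.normalizer ((P : Subgroup G) : Set G)) with he_def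
  rw [hC] at he_def
  rw [← he_def] at hmul
  set n5 := Nat.card (Sylow 5 G)
  set N := Nat.card (Subgroup.normalizer ((P : Subgroup G) : Set G))
  have hele : e ≤ 4 := Nat.le_of_dvd (by norm_num) he
  unfold Nat.ModEq at hmod
  have he4 : e = 4 := by
    rw [← hmul] at hns
    interval_cases e
    · simp at he
    · omega
    · omega
    · norm_num at he
    · rfl
  omega

/-- Five distinct indices contribute at most the whole sum. -/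
theorem five_le {α M : Type*} [Fintype α] [DecidableEq α] [AddCommMonoid M] [PartialOrder M]
    [IsOrderedAddMonoid M] (f : α → M) (hf : ∀ a, 0 ≤ f a) (a b c d e : α)
    (hab : a ≠ b) (hac : a ≠ c) (had : a ≠ d) (hae : a ≠ e) (hbc : b ≠ c) (hbd : b ≠ d)
    (hbe : b ≠ e) (hcd : c ≠ d) (hce : c ≠ e) (hde : d ≠ e) :
    f a + f b + f c + f d + f e ≤ ∑ x, f x := by
  have hsub : ∑ x ∈ ({a, b, c, d, e} : Finset α), f x ≤ ∑ x, f x :=
    Finset.sum_le_sum_of_subset_of_nonneg (Finset.subset_univ _) (fun x _ _ => hf x)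
  rw [Finset.sum_insert (by simp [hab, hac, had, hae]),
    Finset.sum_insert (by simp [hbc, hbd, hbe]),
    Finset.sum_insert (by simp [hcd, hce]), Finset.sum_pair hde] at hsub
  calc f a + f b + f c + f d + f e = f a + (f b + (f c + (f d + f e))) := by
        simp only [add_assoc]
    _ ≤ _ := hsub

/-- Clearing denominators in the formula for `invSum`. -/
theorem clear_denoms (S η₁ η₂ η₃ ε a₁ a₂ a₃ b d₁ d₂ d₃ D : ℂ) (h₁ : d₁ ≠ 0) (h₂ : d₂ ≠ 0)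
    (h₃ : d₃ ≠ 0) (hD : D ≠ 0)
    (hS : S = 1 + η₁ * a₁ ^ 2 / d₁ + η₂ * a₂ ^ 2 / d₂ + η₃ * a₃ ^ 2 / d₃ - ε * b ^ 2 / D) :
    S * (d₁ * d₂ * d₃ * D) = d₁ * d₂ * d₃ * D + η₁ * a₁ ^ 2 * (d₂ * d₃ * D) +
      η₂ * a₂ ^ 2 * (d₁ * d₃ * D) + η₃ * a₃ ^ 2 * (d₁ * d₂ * D) - ε * b ^ 2 * (d₁ * d₂ * d₃) := by
  rw [hS]
  field_simp

theorem charDegree_oneIrr {G : Type*} [Group G] [Finite G] :
    Cfsg.charDegree ((oneIrr G : Cfsg.IrrCharacter G) : G → ℂ) = 1 := by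
  have h := Cfsg.Agent.Lib.Helper77_BlockBasics.apply_one_eq_charDegree (oneIrr G)
  have h1 : ((oneIrr G : Cfsg.IrrCharacter G) : G → ℂ) 1 = 1 := rfl
  rw [h1] at h
  exact_mod_cast h.symm

/-- **No simple group has order 4320.** -/
theorem no_simple_4320 {G : Type*} [Group G] [Finite G] [IsSimpleGroup G] :
    Nat.card G ≠ 4320 := by
  classical
  intro hG
  have : Fact (Nat.Prime 5) := ⟨by norm_num⟩
  obtain ⟨P, x, hP, hC, hN, hxP, hx1⟩ := setup hG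
  -- `G` is perfect
  have hnp : ¬ (Nat.card G).Prime := by rw [hG]; norm_num
  have hna : ∃ a b : G, a * b ≠ b * a := by
    by_contra h
    push Not at h
    exact Cfsg.Agent.Lib.Helper17_Sylow.not_isMulCommutative_of_not_prime hnp ⟨⟨h⟩⟩
  have hperf : commutator G = ⊤ := Cfsg.Agent.Lib.Helper30_FourPQ.perfect hna
  obtain ⟨χ₁, χ₂, χ₃, θ, η₁, η₂, η₃, ε, ⟨h12, h13, h23, hθ1, hθ2, hθ3⟩, ⟨hη₁, hη₂, hη₃, hε⟩,
    ⟨h2₁, h2₂, h2₃, h2D⟩, ⟨hc₁, hc₂, hc₃, hcD⟩, hrel, ⟨hdv₁, hdv₂, hdv₃, hdvD⟩, hz⟩ :=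
    Cfsg.Agent.Lib.Helper47_INV_BR4.brauer_e4 (p := 5) (by norm_num) P hP hC hN hperf x hxP hx1
  obtain ⟨t, ht, -, hcore, hzero⟩ :=
    Cfsg.Agent.Lib.Helper5_INV_CORE.invol_core (p := 5) (by norm_num) P hP hC
      (by rw [hN]; norm_num) x hxP hx1
  set d₁ := Cfsg.charDegree (χ₁ : G → ℂ) with hd₁
  set d₂ := Cfsg.charDegree (χ₂ : G → ℂ) with hd₂
  set d₃ := Cfsg.charDegree (χ₃ : G → ℂ) with hd₃
  set D := Cfsg.charDegree (θ : G → ℂ) with hD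
  set c := Nat.card (Subgroup.centralizer ({t} : Set G)) with hc
  -- the data at an involution
  have key : ∀ z : G, orderOf z = 2 → ∃ j₁ j₂ j₃ k : ℕ, j₁ ≤ d₁ ∧ j₂ ≤ d₂ ∧ j₃ ≤ d₃ ∧ k ≤ D ∧
      (χ₁ : G → ℂ) z = (((d₁ : ℤ) - 2 * (j₁ : ℤ) : ℤ) : ℂ) ∧
      (χ₂ : G → ℂ) z = (((d₂ : ℤ) - 2 * (j₂ : ℤ) : ℤ) : ℂ) ∧
      (χ₃ : G → ℂ) z = (((d₃ : ℤ) - 2 * (j₃ : ℤ) : ℤ) : ℂ) ∧
      (θ : G → ℂ) z = (((D : ℤ) - 2 * (k : ℤ) : ℤ) : ℂ) ∧
      ε * ((D : ℤ) - 2 * k) = 1 + η₁ * ((d₁ : ℤ) - 2 * j₁) + η₂ * ((d₂ : ℤ) - 2 * j₂) +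
        η₃ * ((d₃ : ℤ) - 2 * j₃) ∧
      invSum G z x * (((d₁ : ℤ) * d₂ * d₃ * D : ℤ) : ℂ) =
        (((d₁ : ℤ) * d₂ * d₃ * D + η₁ * ((d₁ : ℤ) - 2 * j₁) ^ 2 * (d₂ * d₃ * D) +
          η₂ * ((d₂ : ℤ) - 2 * j₂) ^ 2 * (d₁ * d₃ * D) +
          η₃ * ((d₃ : ℤ) - 2 * j₃) ^ 2 * (d₁ * d₂ * D) -
          ε * ((D : ℤ) - 2 * k) ^ 2 * (d₁ * d₂ * d₃) : ℤ) : ℂ) := by
    intro z hzo
    obtain ⟨j₁, hj₁, hv₁⟩ := parity_le χ₁ z hzo
    obtain ⟨j₂, hj₂, hv₂⟩ := parity_le χ₂ z hzo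
    obtain ⟨j₃, hj₃, hv₃⟩ := parity_le χ₃ z hzo
    obtain ⟨k, hk, hvθ⟩ := parity_le θ z hzo
    obtain ⟨hr, hs⟩ := hz z hzo
    refine ⟨j₁, j₂, j₃, k, hj₁, hj₂, hj₃, hk, hv₁, hv₂, hv₃, hvθ, ?_, ?_⟩
    · rw [hv₁, hv₂, hv₃, hvθ] at hr
      exact_mod_cast hr
    · have h1 : (d₁ : ℂ) ≠ 0 := by
        have : d₁ ≠ 0 := by omega
        exact_mod_cast this
      have h2 : (d₂ : ℂ) ≠ 0 := by
        have : d₂ ≠ 0 := by omega
        exact_mod_cast this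
      have h3 : (d₃ : ℂ) ≠ 0 := by
        have : d₃ ≠ 0 := by omega
        exact_mod_cast this
      have h4 : (D : ℂ) ≠ 0 := by
        have : D ≠ 0 := by omega
        exact_mod_cast this
      have := clear_denoms _ _ _ _ _ _ _ _ _ _ _ _ _ h1 h2 h3 h4 hs
      rw [hv₁, hv₂, hv₃, hvθ] at this
      push_cast at this ⊢
      exact this
  obtain ⟨j₁, j₂, j₃, k, hj₁, hj₂, hj₃, hk, hv₁, hv₂, hv₃, hvθ, hrelt, hst⟩ := key t ht
  let _ : Fintype G := Fintype.ofFinite G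
  have hone : ∀ ψ : Cfsg.IrrCharacter G, 2 ≤ Cfsg.charDegree (ψ : G → ℂ) → oneIrr G ≠ ψ := by
    intro ψ h2 h
    rw [← h, charDegree_oneIrr] at h2
    omega
  -- the degree equation
  have hsq : 1 + d₁ ^ 2 + d₂ ^ 2 + d₃ ^ 2 + D ^ 2 ≤ 4320 := by
    have h := Cfsg.Agent.Lib.Helper74_CharTools.sum_sq_charDegree (G := G)
    have h5 := five_le (fun ψ : Cfsg.IrrCharacter G => Cfsg.charDegree (ψ : G → ℂ) ^ 2)
      (fun _ => Nat.zero_le _) (oneIrr G) χ₁ χ₂ χ₃ θ (hone χ₁ h2₁) (hone χ₂ h2₂) (hone χ₃ h2₃)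
      (hone θ h2D) h12 h13 hθ1.symm h23 hθ2.symm hθ3.symm
    rw [h, hG] at h5
    simp only [charDegree_oneIrr] at h5
    simpa using h5
  -- column orthogonality at `t`
  have hcol : 1 + ((d₁ : ℤ) - 2 * j₁) ^ 2 + ((d₂ : ℤ) - 2 * j₂) ^ 2 + ((d₃ : ℤ) - 2 * j₃) ^ 2 +
      ((D : ℤ) - 2 * k) ^ 2 ≤ c := by
    have h := Cfsg.Agent.Lib.Helper3_CharColumn.column_orthogonality_self t
    have h' : ∑ ψ : Cfsg.IrrCharacter G, Complex.normSq ((ψ : G → ℂ) t) = (c : ℝ) := by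
      have : ((∑ ψ : Cfsg.IrrCharacter G, Complex.normSq ((ψ : G → ℂ) t) : ℝ) : ℂ) =
          ((c : ℝ) : ℂ) := by
        push_cast
        rw [← h]
        refine Finset.sum_congr rfl fun ψ _ => ?_
        rw [Complex.mul_conj]
      exact_mod_cast this
    have h5 := five_le (fun ψ : Cfsg.IrrCharacter G => Complex.normSq ((ψ : G → ℂ) t))
      (fun _ => Complex.normSq_nonneg _) (oneIrr G) χ₁ χ₂ χ₃ θ (hone χ₁ h2₁) (hone χ₂ h2₂)
      (hone χ₃ h2₃) (hone θ h2D) h12 h13 hθ1.symm h23 hθ2.symm hθ3.symm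
    rw [h'] at h5
    have e1 : ((oneIrr G : Cfsg.IrrCharacter G) : G → ℂ) t = 1 := rfl
    have hn : ∀ a : ℤ, Complex.normSq ((a : ℂ)) = ((a ^ 2 : ℤ) : ℝ) := by
      intro a
      rw [show ((a : ℂ)) = (((a : ℝ)) : ℂ) by push_cast; rfl, Complex.normSq_ofReal]
      push_cast
      ring
    rw [hv₁, hv₂, hv₃, hvθ, e1, hn, hn, hn, hn, Complex.normSq_one] at h5
    exact_mod_cast h5
  -- the equation for `t`
  have heq : 5 * (c : ℤ) ^ 2 * (d₁ * d₂ * d₃ * D) = 4320 * ((d₁ : ℤ) * d₂ * d₃ * D +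
      η₁ * ((d₁ : ℤ) - 2 * j₁) ^ 2 * (d₂ * d₃ * D) + η₂ * ((d₂ : ℤ) - 2 * j₂) ^ 2 * (d₁ * d₃ * D) +
      η₃ * ((d₃ : ℤ) - 2 * j₃) ^ 2 * (d₁ * d₂ * D) - ε * ((D : ℤ) - 2 * k) ^ 2 * (d₁ * d₂ * d₃)) := by
    have h1 : ((5 : ℕ) : ℂ) * (c : ℂ) ^ 2 * (((d₁ : ℤ) * d₂ * d₃ * D : ℤ) : ℂ) =
        (Nat.card G : ℂ) * ((((d₁ : ℤ) * d₂ * d₃ * D +
          η₁ * ((d₁ : ℤ) - 2 * j₁) ^ 2 * (d₂ * d₃ * D) +
          η₂ * ((d₂ : ℤ) - 2 * j₂) ^ 2 * (d₁ * d₃ * D) +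
          η₃ * ((d₃ : ℤ) - 2 * j₃) ^ 2 * (d₁ * d₂ * D) -
          ε * ((D : ℤ) - 2 * k) ^ 2 * (d₁ * d₂ * d₃) : ℤ)) : ℂ) := by
      rw [hcore, mul_assoc, hst]
    rw [hG] at h1
    exact_mod_cast h1
  have hcdvd : c ∣ 4320 := by
    rw [← hG]
    exact Subgroup.card_subgroup_dvd_card _
  have hcpos : 0 < c := Nat.card_pos
  obtain ⟨h32, hAR⟩ := Cfsg.Agent.Lib.Helper55_INV_AR4320.AR4320 d₁ d₂ d₃ D η₁ η₂ η₃ ε hη₁ hη₂ hη₃ hε
    h2₁ h2₂ h2₃ h2D (by exact_mod_cast hc₁) (by exact_mod_cast hc₂) (by exact_mod_cast hc₃)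
    (by exact_mod_cast hcD) hrel (hG ▸ hdv₁) (hG ▸ hdv₂) (hG ▸ hdv₃) (hG ▸ hdvD) hsq
    j₁ j₂ j₃ k c hj₁ hj₂ hj₃ hk hrelt hcdvd hcpos hcol heq
  -- all involutions are conjugate
  have hall : ∀ v : G, orderOf v = 2 → IsConj t v := by
    intro v hv
    by_contra hnc
    have h0 := hzero v hv hnc
    obtain ⟨j₁', j₂', j₃', k', hj₁', hj₂', hj₃', hk', hv₁', -, -, -, hrel', hs'⟩ := key v hv
    rw [h0, zero_mul] at hs'
    have hE : ((d₁ : ℤ) * d₂ * d₃ * D + η₁ * ((d₁ : ℤ) - 2 * j₁') ^ 2 * (d₂ * d₃ * D) +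
          η₂ * ((d₂ : ℤ) - 2 * j₂') ^ 2 * (d₁ * d₃ * D) +
          η₃ * ((d₃ : ℤ) - 2 * j₃') ^ 2 * (d₁ * d₂ * D) -
          ε * ((D : ℤ) - 2 * k') ^ 2 * (d₁ * d₂ * d₃)) = 0 := by
      exact_mod_cast hs'.symm
    have hj0 := hAR j₁' j₂' j₃' k' hj₁' hj₂' hj₃' hk' hrel' hE
    have hval : (χ₁ : G → ℂ) v = (χ₁ : G → ℂ) 1 := by
      rw [hv₁', Cfsg.Agent.Lib.Helper77_BlockBasics.apply_one_eq_charDegree, hj0]
      push_cast
      ring
    have hv1 := Cfsg.Agent.Lib.Helper74_CharTools.eq_one_of_apply_eq χ₁ (hone χ₁ h2₁).symm v hval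
    rw [hv1, orderOf_one] at hv
    norm_num at hv
  have : Fact (Nat.Prime 2) := ⟨Nat.prime_two⟩
  obtain ⟨T⟩ : Nonempty (Sylow 2 G) := inferInstance
  have hT : Nat.card (T : Subgroup G) = 2 ^ 5 :=
    Cfsg.Agent.Lib.Helper17_Sylow.card_sylow_eq_pow (p := 2) (k := 5) (m := 135)
      (by rw [hG]; norm_num) (by norm_num) T
  have hdvd := Cfsg.Agent.Lib.Helper30_ThreePQ.sylow_two_dvd_centralizer ht hall T
  rw [hT, show (2 : ℕ) ^ 5 = 32 by norm_num] at hdvd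
  exact h32 hdvd

end Cfsg.Agent.Lib.Helper11_INV_S0977
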