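/-
Central closedness of Steinberg groups of simply-laced type with "enough room" (helper35), abstract part.

Setting: a group `Γ` with elements `X r t` (`r < n` a root index, `t` in a commutative ring `F`), a partial sum
`sm a b = some (r, d)` (meaning `a + b = r` with structure constant `d = ±1`: `⁅X b u, X a t⁆ = X r (d t u)`), and a
relation `Cm r s` (meaning: the root elements of `r` and `s` commute).  Under three combinatorial conditions on the
root data (see `Sys`) every central extension `ψ : E → Γ` admits lifts `Y r t` of the `X r t` satisfying the same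
relations.  This is the argument of Milnor, Introduction to algebraic K-theory, Theorem 5.10 (Kervaire, Steinberg),
generalised to simply-laced root systems (Stein); no hypothesis on the ring.
-/
import Mathlib
import Cfsg.Agent.Lib.Helper81_UceA

set_option autoImplicit false
set_option linter.unusedVariables false
set_option linter.unusedSectionVars false

namespace Cfsg.Agent.Lib.Helper35_SteinAbs

open Cfsg.Agent.Lib.Helper81_UceA
open scoped commutatorElement

section Grp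

variable {E Γ : Type*} [Group E] [Group Γ] {ψ : E →* Γ}

theorem lift_comm_eq (h : CExt ψ) {a a' b b' : E} (ha : ψ a = ψ a') (hb : ψ b = ψ b') : ⁅a, b⁆ = ⁅a', b'⁆ := by
  rw [commutatorElement_def, commutatorElement_def]
  exact h.commutator_eq ha hb

theorem conj_commutator (e a b : E) : e * ⁅a, b⁆ * e⁻¹ = ⁅e * a * e⁻¹, e * b * e⁻¹⁆ := by
  simp only [commutatorElement_def]
  group

/-- If the image of `e` commutes with the images of `a` and `b`, then `e` commutes with `⁅a, b⁆`. -/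
theorem commute_commutator_of_commute (h : CExt ψ) {e a b : E} (ha : Commute (ψ e) (ψ a))
    (hb : Commute (ψ e) (ψ b)) : Commute e ⁅a, b⁆ := by
  have h1 : ψ (e * a * e⁻¹) = ψ a := by
    rw [map_mul, map_mul, map_inv, ha.eq, mul_inv_cancel_right]
  have h2 : ψ (e * b * e⁻¹) = ψ b := by
    rw [map_mul, map_mul, map_inv, hb.eq, mul_inv_cancel_right]
  have h3 : e * ⁅a, b⁆ * e⁻¹ = ⁅a, b⁆ := by rw [conj_commutator, lift_comm_eq h h1 h2]
  show e * ⁅a, b⁆ = ⁅a, b⁆ * e
  calc e * ⁅a, b⁆ = e * ⁅a, b⁆ * e⁻¹ * e := by group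
    _ = ⁅a, b⁆ * e := by rw [h3]

/-- Two lifts of the same element commute with the same elements. -/
theorem commute_of_lift_eq (h : CExt ψ) {a a' e : E} (ha : ψ a = ψ a') (hc : Commute a e) : Commute a' e := by
  obtain ⟨z, hz, rfl⟩ := h.exists_mul_of_eq ha
  have hz' : z * e = e * z := h.comm_of_ker hz e
  show a * z * e = e * (a * z)
  calc a * z * e = a * (z * e) := by group
    _ = a * (e * z) := by rw [hz']
    _ = (a * e) * z := by group
    _ = (e * a) * z := by rw [hc.eq]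
    _ = e * (a * z) := by group

/-- The special case of the Hall-Witt identity used to compare two decompositions of a root. -/
theorem hall_witt_special {x y z : E} (hxz : Commute x z) (hPQ : Commute ⁅y, x⁆ ⁅z, y⁆)
    (hRP : Commute ⁅⁅z, y⁆, x⁆ ⁅y, x⁆) : ⁅z, ⁅y, x⁆⁆ = ⁅⁅z, y⁆, x⁆ := by
  set P := ⁅y, x⁆ with hP
  set Q := ⁅z, y⁆ with hQ
  set R := ⁅Q, x⁆ with hR
  have hxz' : z * x * z⁻¹ = x := by
    have := hxz.eq
    calc z * x * z⁻¹ = (x * z) * z⁻¹ := by rw [this]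
      _ = x := by group
  have hzy : z * y * z⁻¹ = Q * y := by
    rw [hQ, commutatorElement_def]
    group
  have hPQ' : Q * P * Q⁻¹ = P := by
    have := hPQ.eq
    calc Q * P * Q⁻¹ = (P * Q) * Q⁻¹ := by rw [this]
      _ = P := by group
  have key : z * P * z⁻¹ = R * P := by
    calc z * P * z⁻¹ = ⁅z * y * z⁻¹, z * x * z⁻¹⁆ := by rw [hP, conj_commutator]
      _ = ⁅Q * y, x⁆ := by rw [hxz', hzy]
      _ = Q * (y * x * y⁻¹ * x⁻¹) * Q⁻¹ * (Q * x * Q⁻¹ * x⁻¹) := by
        rw [commutatorElement_def]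
        group
      _ = Q * P * Q⁻¹ * R := by rw [hP, hR, commutatorElement_def, commutatorElement_def]
      _ = P * R := by rw [hPQ']
      _ = R * P := hRP.eq.symm
  calc ⁅z, P⁆ = z * P * z⁻¹ * P⁻¹ := by rw [commutatorElement_def]
    _ = R * P * P⁻¹ := by rw [key]
    _ = R := by group

theorem commutator_mul_right (x y y' : E) : ⁅x, y * y'⁆ = ⁅x, y⁆ * (y * ⁅x, y'⁆ * y⁻¹) := by
  simp only [commutatorElement_def]
  group

theorem commutator_mul_left (x x' y : E) : ⁅x * x', y⁆ = (x * ⁅x', y⁆ * x⁻¹) * ⁅x, y⁆ := by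
  simp only [commutatorElement_def]
  group

end Grp

/-- The hypotheses: relations in `Γ` and the combinatorial conditions on the root data. -/
structure Sys (F : Type*) [CommRing F] {Γ : Type*} [Group Γ] (n : ℕ) (X : ℕ → F → Γ)
    (sm : ℕ → ℕ → Option (ℕ × ℤ)) (Cm : ℕ → ℕ → Prop) (can : ℕ → ℕ × ℕ) (dep : ℕ → ℕ → ℕ) : Prop where
  add : ∀ r < n, ∀ t u : F, X r t * X r u = X r (t + u)
  cm : ∀ r s, Cm r s → ∀ t u : F, Commute (X r t) (X s u)
  sm_rel : ∀ a b r d, sm a b = some (r, d) → ∀ t u : F, ⁅X b u, X a t⁆ = X r ((d : F) * t * u)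
  sq : ∀ a b r d, sm a b = some (r, d) → d * d = 1
  lt : ∀ a b r d, sm a b = some (r, d) → a < n ∧ b < n ∧ r < n
  cm_sum : ∀ a b r d, sm a b = some (r, d) → Cm a r ∧ Cm b r
  cm_self : ∀ r < n, Cm r r
  c1 : ∀ r s, r < n → Cm r s → ∃ a b d, sm a b = some (r, d) ∧ Cm a s ∧ Cm b s
  can_dec : ∀ r < n, ∃ d, sm (can r).1 (can r).2 = some (r, d)
  par : ∀ x y r d, sm x y = some (r, d) → ∃ a m c p q d₁ d₂ d₃ d₄,
    sm a m = some (p, d₁) ∧ sm m c = some (q, d₂) ∧ Cm a c ∧ Cm p q ∧ sm p c = some (r, d₃) ∧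
    sm a q = some (r, d₄) ∧ d₃ * d₁ = d₄ * d₂ ∧
    ((x = p ∧ y = c ∧ ((p, c) = can r ∨ dep a q < dep p c)) ∨
      (x = a ∧ y = q ∧ ((a, q) = can r ∨ dep p c < dep a q)))

section Main

variable {F : Type*} [CommRing F] {E Γ : Type*} [Group E] [Group Γ] {ψ : E →* Γ}
variable {n : ℕ} {X : ℕ → F → Γ} {sm : ℕ → ℕ → Option (ℕ × ℤ)} {Cm : ℕ → ℕ → Prop} {can : ℕ → ℕ × ℕ}
  {dep : ℕ → ℕ → ℕ}

/-- A chosen lift. -/
noncomputable def lft (hψ : CExt ψ) (g : Γ) : E := Classical.choose (hψ.surj g)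

theorem map_lft (hψ : CExt ψ) (g : Γ) : ψ (lft hψ g) = g := Classical.choose_spec (hψ.surj g)

theorem sq_cast (S : Sys F n X sm Cm can dep) {a b r : ℕ} {d : ℤ} (h : sm a b = some (r, d)) :
    (d : F) * (d : F) = 1 := by
  have := S.sq a b r d h
  rw [← Int.cast_mul, this, Int.cast_one]

/-- Step 1: lifts of commuting root elements commute. -/
theorem lift_commute (S : Sys F n X sm Cm can dep) (hψ : CExt ψ) {r s : ℕ} (hr : r < n) (h : Cm r s)
    {e₁ e₂ : E} {t u : F} (h1 : ψ e₁ = X r t) (h2 : ψ e₂ = X s u) : Commute e₁ e₂ := by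
  obtain ⟨a, b, d, hab, has, hbs⟩ := S.c1 r s hr h
  set β := lft hψ (X b 1) with hβ
  set α := lft hψ (X a ((d : F) * t)) with hα
  have hβα : ψ ⁅β, α⁆ = ψ e₁ := by
    rw [map_commutatorElement, hβ, hα, map_lft, map_lft, S.sm_rel a b r d hab, h1]
    congr 1
    have := sq_cast S hab
    calc (d : F) * ((d : F) * t) * 1 = ((d : F) * (d : F)) * t := by ring
      _ = t := by rw [this, one_mul]
  have hc : Commute e₂ ⁅β, α⁆ := by
    apply commute_commutator_of_commute hψ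
    · rw [h2, hβ, map_lft]
      exact (S.cm b s hbs 1 u).symm
    · rw [h2, hα, map_lft]
      exact (S.cm a s has _ u).symm
  exact commute_of_lift_eq hψ hβα hc.symm

/-- The commutator of lifts of `X b u` and `X a t`. -/
noncomputable def f (hψ : CExt ψ) (X : ℕ → F → Γ) (a b : ℕ) (t u : F) : E :=
  ⁅lft hψ (X b u), lft hψ (X a t)⁆

theorem f_eq (hψ : CExt ψ) {a b : ℕ} {t u : F} {e₁ e₂ : E} (h1 : ψ e₁ = X b u) (h2 : ψ e₂ = X a t) :
    ⁅e₁, e₂⁆ = f hψ X a b t u := by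
  unfold f
  apply lift_comm_eq hψ
  · rw [h1, map_lft]
  · rw [h2, map_lft]

theorem map_f (S : Sys F n X sm Cm can dep) (hψ : CExt ψ) {a b r : ℕ} {d : ℤ} (h : sm a b = some (r, d))
    (t u : F) : ψ (f hψ X a b t u) = X r ((d : F) * t * u) := by
  unfold f
  rw [map_commutatorElement, map_lft, map_lft, S.sm_rel a b r d h]

theorem f_add_left (S : Sys F n X sm Cm can dep) (hψ : CExt ψ) {a b r : ℕ} {d : ℤ} (h : sm a b = some (r, d))
    (t t' u : F) : f hψ X a b (t + t') u = f hψ X a b t u * f hψ X a b t' u := by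
  obtain ⟨ha, hb, hr⟩ := S.lt a b r d h
  set x := lft hψ (X b u) with hx
  set y := lft hψ (X a t) with hy
  set y' := lft hψ (X a t') with hy'
  have h1 : ψ (y * y') = X a (t + t') := by rw [map_mul, hy, hy', map_lft, map_lft, S.add a ha]
  have h2 : ψ x = X b u := map_lft hψ _
  rw [← f_eq hψ h2 h1, commutator_mul_right]
  have hc : Commute y ⁅x, y'⁆ := by
    apply lift_commute S hψ ha (S.cm_sum a b r d h).1 (map_lft hψ _) (t := t) (u := (d : F) * t' * u)
    have := map_f S hψ h t' u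
    unfold f at this
    exact this
  have h3 : y * ⁅x, y'⁆ * y⁻¹ = ⁅x, y'⁆ := by
    rw [hc.eq]
    group
  rw [h3]
  rfl

theorem f_add_right (S : Sys F n X sm Cm can dep) (hψ : CExt ψ) {a b r : ℕ} {d : ℤ} (h : sm a b = some (r, d))
    (t u u' : F) : f hψ X a b t (u + u') = f hψ X a b t u * f hψ X a b t u' := by
  obtain ⟨ha, hb, hr⟩ := S.lt a b r d h
  set x := lft hψ (X b u) with hx
  set x' := lft hψ (X b u') with hx'
  set y := lft hψ (X a t) with hy
  have h1 : ψ (x * x') = X b (u + u') := by rw [map_mul, hx, hx', map_lft, map_lft, S.add b hb]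
  have h2 : ψ y = X a t := map_lft hψ _
  rw [← f_eq hψ h1 h2, commutator_mul_left]
  have hm : ψ ⁅x', y⁆ = X r ((d : F) * t * u') := by
    have := map_f S hψ h t u'
    unfold f at this
    exact this
  have hm' : ψ ⁅x, y⁆ = X r ((d : F) * t * u) := by
    have := map_f S hψ h t u
    unfold f at this
    exact this
  have hc : Commute x ⁅x', y⁆ :=
    lift_commute S hψ hb (S.cm_sum a b r d h).2 (map_lft hψ _) hm
  have h3 : x * ⁅x', y⁆ * x⁻¹ = ⁅x', y⁆ := by
    rw [hc.eq]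
    group
  rw [h3]
  have hc2 : Commute ⁅x', y⁆ ⁅x, y⁆ := lift_commute S hψ hr (S.cm_self r hr) hm hm'
  rw [hc2.eq]
  rfl

/-- Step 2: the Hall-Witt comparison. -/
theorem f_hw (S : Sys F n X sm Cm can dep) (hψ : CExt ψ) {a m c p q r : ℕ} {d₁ d₂ d₃ d₄ : ℤ}
    (h1 : sm a m = some (p, d₁)) (h2 : sm m c = some (q, d₂)) (hac : Cm a c) (hpq : Cm p q)
    (h3 : sm p c = some (r, d₃)) (h4 : sm a q = some (r, d₄)) (t u v : F) :
    f hψ X p c ((d₁ : F) * t * u) v = f hψ X a q t ((d₂ : F) * u * v) := by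
  obtain ⟨ha, hm, hp⟩ := S.lt a m p d₁ h1
  obtain ⟨-, hc, hq⟩ := S.lt m c q d₂ h2
  obtain ⟨-, -, hr⟩ := S.lt p c r d₃ h3
  set x := lft hψ (X a t) with hx
  set y := lft hψ (X m u) with hy
  set z := lft hψ (X c v) with hz
  have hP : ψ ⁅y, x⁆ = X p ((d₁ : F) * t * u) := by
    have := map_f S hψ h1 t u
    unfold f at this
    exact this
  have hQ : ψ ⁅z, y⁆ = X q ((d₂ : F) * u * v) := by
    have := map_f S hψ h2 u v
    unfold f at this
    exact this
  have hxψ : ψ x = X a t := map_lft hψ _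
  have hzψ : ψ z = X c v := map_lft hψ _
  have e1 : ⁅z, ⁅y, x⁆⁆ = f hψ X p c ((d₁ : F) * t * u) v := f_eq hψ hzψ hP
  have e2 : ⁅⁅z, y⁆, x⁆ = f hψ X a q t ((d₂ : F) * u * v) := f_eq hψ hQ hxψ
  rw [← e1, ← e2]
  apply hall_witt_special
  · exact lift_commute S hψ ha hac hxψ hzψ
  · exact lift_commute S hψ hp hpq hP hQ
  · have hR : ψ ⁅⁅z, y⁆, x⁆ = X r ((d₄ : F) * t * ((d₂ : F) * u * v)) := by
      rw [e2]
      exact map_f S hψ h4 _ _
    exact (lift_commute S hψ hp (S.cm_sum p c r d₃ h3).1 hP hR).symm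

/-- `f` depends only on the product of its arguments, for both decompositions of a Hall-Witt configuration. -/
theorem f_pd (S : Sys F n X sm Cm can dep) (hψ : CExt ψ) {a m c p q r : ℕ} {d₁ d₂ d₃ d₄ : ℤ}
    (h1 : sm a m = some (p, d₁)) (h2 : sm m c = some (q, d₂)) (hac : Cm a c) (hpq : Cm p q)
    (h3 : sm p c = some (r, d₃)) (h4 : sm a q = some (r, d₄)) :
    (∀ t u : F, f hψ X p c t u = f hψ X p c (t * u) 1) ∧ (∀ t u : F, f hψ X a q t u = f hψ X a q (t * u) 1) := by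
  have hw := f_hw S hψ h1 h2 hac hpq h3 h4
  have s1 := sq_cast S h1
  have s2 := sq_cast S h2
  -- (i) `u = 1`
  have hi : ∀ t v : F, f hψ X p c ((d₁ : F) * t) v = f hψ X a q t ((d₂ : F) * v) := by
    intro t v
    have := hw t 1 v
    rwa [mul_one, mul_one] at this
  have hstar : ∀ t u v : F, f hψ X p c (t * u) v = f hψ X p c t (u * v) := by
    intro t u v
    have e1 := hw ((d₁ : F) * t) u v
    have e2 := hi ((d₁ : F) * t) (u * v)
    have e3 : (d₁ : F) * ((d₁ : F) * t) = t := by rw [← mul_assoc, s1, one_mul]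
    rw [e3] at e1 e2
    rw [e1, e2, mul_assoc]
  have hstar2 : ∀ t u v : F, f hψ X a q t (u * v) = f hψ X a q (t * u) v := by
    intro t u v
    have e1 := hw t u ((d₂ : F) * v)
    have e2 := hi (t * u) ((d₂ : F) * v)
    have e3 : (d₂ : F) * u * ((d₂ : F) * v) = u * v := by
      calc (d₂ : F) * u * ((d₂ : F) * v) = ((d₂ : F) * (d₂ : F)) * (u * v) := by ring
        _ = u * v := by rw [s2, one_mul]
    have e4 : (d₂ : F) * ((d₂ : F) * v) = v := by rw [← mul_assoc, s2, one_mul]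
    rw [e3] at e1
    rw [e4, ← mul_assoc] at e2
    rw [← e1, e2]
  constructor
  · intro t u
    have e1 := hstar 1 t u
    have e2 := hstar 1 (t * u) 1
    rw [one_mul] at e1 e2
    rw [mul_one] at e2
    rw [e1, e2]
  · intro t u
    have := hstar2 t u 1
    rwa [mul_one] at this

/-- The lift attached to a decomposition. -/
noncomputable def g (hψ : CExt ψ) (X : ℕ → F → Γ) (sm : ℕ → ℕ → Option (ℕ × ℤ)) (a b : ℕ) (m : F) : E :=
  match sm a b with
  | some (_, d) => f hψ X a b ((d : F) * m) 1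
  | none => 1

theorem g_eq (hψ : CExt ψ) {a b r : ℕ} {d : ℤ} (h : sm a b = some (r, d)) (m : F) :
    g hψ X sm a b m = f hψ X a b ((d : F) * m) 1 := by
  unfold g
  rw [h]

theorem g_hw (S : Sys F n X sm Cm can dep) (hψ : CExt ψ) {a m c p q r : ℕ} {d₁ d₂ d₃ d₄ : ℤ}
    (h1 : sm a m = some (p, d₁)) (h2 : sm m c = some (q, d₂)) (hac : Cm a c) (hpq : Cm p q)
    (h3 : sm p c = some (r, d₃)) (h4 : sm a q = some (r, d₄)) (hs : d₃ * d₁ = d₄ * d₂) (k : F) :
    g hψ X sm p c k = g hψ X sm a q k := by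
  rw [g_eq hψ h3, g_eq hψ h4]
  obtain ⟨pd1, pd2⟩ := f_pd S hψ h1 h2 hac hpq h3 h4
  have hw := f_hw S hψ h1 h2 hac hpq h3 h4 ((d₁ : F) * (d₃ : F) * k) 1 1
  have s1 := sq_cast S h1
  have s2 := sq_cast S h2
  have hs' : (d₃ : F) * (d₁ : F) = (d₄ : F) * (d₂ : F) := by
    rw [← Int.cast_mul, ← Int.cast_mul, hs]
  have e1 : (d₁ : F) * ((d₁ : F) * (d₃ : F) * k) * 1 = (d₃ : F) * k := by
    calc (d₁ : F) * ((d₁ : F) * (d₃ : F) * k) * 1 = ((d₁ : F) * (d₁ : F)) * ((d₃ : F) * k) := by ring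
      _ = (d₃ : F) * k := by rw [s1, one_mul]
  rw [e1, mul_one] at hw
  rw [hw, pd2]
  congr 1
  calc (d₁ : F) * (d₃ : F) * k * ((d₂ : F) * 1) = ((d₃ : F) * (d₁ : F)) * (d₂ : F) * k := by ring
    _ = ((d₄ : F) * (d₂ : F)) * (d₂ : F) * k := by rw [hs']
    _ = (d₄ : F) * ((d₂ : F) * (d₂ : F)) * k := by ring
    _ = (d₄ : F) * k := by rw [s2, mul_one]

/-- All decompositions of a root give the same lift. -/
theorem g_eq_can (S : Sys F n X sm Cm can dep) (hψ : CExt ψ) :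
    ∀ (k x y r : ℕ) (d : ℤ), dep x y = k → sm x y = some (r, d) →
      ∀ m : F, g hψ X sm x y m = g hψ X sm (can r).1 (can r).2 m := by
  intro k
  induction k using Nat.strong_induction_on with
  | _ k ih =>
    intro x y r d hk hxy m
    obtain ⟨a, mm, c, p, q, d₁, d₂, d₃, d₄, h1, h2, hac, hpq, h3, h4, hs, hcase⟩ := S.par x y r d hxy
    rcases hcase with ⟨rfl, rfl, hc | hc⟩ | ⟨rfl, rfl, hc | hc⟩
    · rw [← hc]
    · rw [g_hw S hψ h1 h2 hac hpq h3 h4 hs]
      exact ih (dep a q) (hk ▸ hc) a q r d₄ rfl h4 m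
    · rw [← hc]
    · rw [← g_hw S hψ h1 h2 hac hpq h3 h4 hs]
      exact ih (dep p c) (hk ▸ hc) p c r d₃ rfl h3 m

/-- `f` depends only on the product of its arguments, for every decomposition. -/
theorem f_pd_all (S : Sys F n X sm Cm can dep) (hψ : CExt ψ) {x y r : ℕ} {d : ℤ} (hxy : sm x y = some (r, d))
    (t u : F) : f hψ X x y t u = f hψ X x y (t * u) 1 := by
  obtain ⟨a, mm, c, p, q, d₁, d₂, d₃, d₄, h1, h2, hac, hpq, h3, h4, hs, hcase⟩ := S.par x y r d hxy
  obtain ⟨pd1, pd2⟩ := f_pd S hψ h1 h2 hac hpq h3 h4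
  rcases hcase with ⟨rfl, rfl, -⟩ | ⟨rfl, rfl, -⟩
  · exact pd1 t u
  · exact pd2 t u

/-- The lifts. -/
noncomputable def Y (hψ : CExt ψ) (X : ℕ → F → Γ) (sm : ℕ → ℕ → Option (ℕ × ℤ)) (can : ℕ → ℕ × ℕ) (r : ℕ)
    (m : F) : E := g hψ X sm (can r).1 (can r).2 m

theorem map_Y (S : Sys F n X sm Cm can dep) (hψ : CExt ψ) {r : ℕ} (hr : r < n) (m : F) :
    ψ (Y hψ X sm can r m) = X r m := by
  obtain ⟨d, hd⟩ := S.can_dec r hr
  unfold Y
  rw [g_eq hψ hd, map_f S hψ hd]
  congr 1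
  have := sq_cast S hd
  calc (d : F) * ((d : F) * m) * 1 = ((d : F) * (d : F)) * m := by ring
    _ = m := by rw [this, one_mul]

theorem Y_add (S : Sys F n X sm Cm can dep) (hψ : CExt ψ) {r : ℕ} (hr : r < n) (t u : F) :
    Y hψ X sm can r t * Y hψ X sm can r u = Y hψ X sm can r (t + u) := by
  obtain ⟨d, hd⟩ := S.can_dec r hr
  unfold Y
  rw [g_eq hψ hd, g_eq hψ hd, g_eq hψ hd, mul_add, f_add_left S hψ hd]

theorem Y_commute (S : Sys F n X sm Cm can dep) (hψ : CExt ψ) {r s : ℕ} (hr : r < n) (hs : s < n)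
    (h : Cm r s) (t u : F) : Commute (Y hψ X sm can r t) (Y hψ X sm can s u) :=
  lift_commute S hψ hr h (map_Y S hψ hr t) (map_Y S hψ hs u)

theorem Y_comm (S : Sys F n X sm Cm can dep) (hψ : CExt ψ) {a b r : ℕ} {d : ℤ} (h : sm a b = some (r, d))
    (t u : F) : ⁅Y hψ X sm can b u, Y hψ X sm can a t⁆ = Y hψ X sm can r ((d : F) * t * u) := by
  obtain ⟨ha, hb, hr⟩ := S.lt a b r d h
  rw [f_eq hψ (map_Y S hψ hb u) (map_Y S hψ ha t), f_pd_all S hψ h]
  unfold Y
  rw [← g_eq_can S hψ (dep a b) a b r d rfl h, g_eq hψ h]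
  congr 1
  have := sq_cast S h
  calc t * u = ((d : F) * (d : F)) * (t * u) := by rw [this, one_mul]
    _ = (d : F) * ((d : F) * t * u) := by ring

/-- The abstract theorem: lifts of the root elements satisfying the same relations. -/
theorem exists_lifts (S : Sys F n X sm Cm can dep) (hψ : CExt ψ) :
    ∃ Y : ℕ → F → E, (∀ r < n, ∀ t : F, ψ (Y r t) = X r t) ∧
      (∀ r < n, ∀ t u : F, Y r t * Y r u = Y r (t + u)) ∧
      (∀ r s, r < n → s < n → Cm r s → ∀ t u : F, Commute (Y r t) (Y s u)) ∧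
      (∀ a b r d, sm a b = some (r, d) → ∀ t u : F, ⁅Y b u, Y a t⁆ = Y r ((d : F) * t * u)) :=
  ⟨Y hψ X sm can, fun r hr t => map_Y S hψ hr t, fun r hr t u => Y_add S hψ hr t u,
    fun r s hr hs h t u => Y_commute S hψ hr hs h t u, fun a b r d h t u => Y_comm S hψ h t u⟩

end Main

end Cfsg.Agent.Lib.Helper35_SteinAbs
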