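import Mathlib
import Cfsg.Agent.Lib.Helper66_S96Defs

set_option autoImplicit false
set_option linter.unusedSectionVars false

/-!
Basic calculus for a family of root elements of type `D` (helper66): conjugation forms of the
commutator relations, and membership of the root elements in the subgroups of the vector stabiliser
argument.
-/

namespace Cfsg.Agent.Lib.Helper66_S96

open Cfsg.Agent.Lib.Helper66_S92

variable {ι : Type*} {K : Type*} [Field K] {G : Type*} [Group G]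
  {X : ι ⊕ ι → ι ⊕ ι → K → G}

theorem X_mem_Gs (o a c : ι ⊕ ι) (t : K) (ha : a ≠ ng o) (hc : c ≠ ng o) : X a c t ∈ Gs X o :=
  Subgroup.subset_closure ⟨a, c, t, ha, hc, rfl⟩

theorem X_mem_Ls (o a c : ι ⊕ ι) (t : K) (ha : a ≠ o) (ha' : a ≠ ng o) (hc : c ≠ o)
    (hc' : c ≠ ng o) : X a c t ∈ Ls X o :=
  Subgroup.subset_closure ⟨a, c, t, ha, ha', hc, hc', rfl⟩

theorem Ls_le_Gs (o : ι ⊕ ι) : Ls X o ≤ Gs X o := by
  unfold Ls
  rw [Subgroup.closure_le]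
  rintro _ ⟨a, c, t, -, ha', -, hc', rfl⟩
  exact X_mem_Gs o a c t ha' hc'

theorem Gs_le_Ps (o : ι ⊕ ι) : Gs X o ≤ Ps X o := le_sup_left

theorem Ts_le_Ps (o : ι ⊕ ι) : Ts X ≤ Ps X o := le_sup_right

theorem HD_mem_Ts (a c : ι ⊕ ι) (s : K) (h1 : c ≠ a) (h2 : c ≠ ng a) (hs : s ≠ 0) :
    HD X a c s ∈ Ts X :=
  Subgroup.subset_closure ⟨a, c, s, h1, h2, hs, rfl⟩

theorem HD_mem_Tso (o a c : ι ⊕ ι) (s : K) (h1 : c ≠ a) (h2 : c ≠ ng a) (ha : a ≠ o)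
    (ha' : a ≠ ng o) (hc : c ≠ o) (hc' : c ≠ ng o) (hs : s ≠ 0) : HD X a c s ∈ Tso X o :=
  Subgroup.subset_closure ⟨a, c, s, h1, h2, ha, ha', hc, hc', hs, rfl⟩

theorem Tso_le_Ts (o : ι ⊕ ι) : Tso X o ≤ Ts X := by
  unfold Tso
  rw [Subgroup.closure_le]
  rintro _ ⟨a, c, s, h1, h2, -, -, -, -, hs, rfl⟩
  exact HD_mem_Ts a c s h1 h2 hs

theorem HD_one (X : ι ⊕ ι → ι ⊕ ι → K → G) (a c : ι ⊕ ι) : HD X a c 1 = 1 := by
  unfold HD
  rw [mul_inv_cancel]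

namespace DStAB

variable (h : DStAB X)
include h

theorem X_zero (a c : ι ⊕ ι) : X a c 0 = 1 := by
  have := h.add a c 0 0
  rw [add_zero] at this
  exact mul_eq_left.mp this

theorem X_inv (a c : ι ⊕ ι) (t : K) : (X a c t)⁻¹ = X a c (-t) := by
  rw [inv_eq_iff_mul_eq_one, h.add, add_neg_cancel, h.X_zero]

theorem X_mul_neg (a c : ι ⊕ ι) (t : K) : X a c t * X a c (-t) = 1 := by
  rw [h.add, add_neg_cancel, h.X_zero]

theorem X_neg_mul (a c : ι ⊕ ι) (t : K) : X a c (-t) * X a c t = 1 := by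
  rw [h.add, neg_add_cancel, h.X_zero]

theorem opp' (a : ι ⊕ ι) (t : K) : X (ng a) a t = 1 := by
  rw [h.anti, h.opp]

theorem cj_comm (a c d e : ι ⊕ ι) (t u : K) (h1 : d ≠ ng a) (h2 : d ≠ ng c)
    (h3 : e ≠ ng a) (h4 : e ≠ ng c) : X a c t * X d e u * (X a c t)⁻¹ = X d e u := by
  rw [h.comm a c d e t u h1 h2 h3 h4, mul_inv_cancel_right]

theorem cj_comm2 (a c : ι ⊕ ι) (t u : K) :
    X a c t * X (ng a) c u * (X a c t)⁻¹ = X (ng a) c u := by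
  rw [h.comm2 a c t u, mul_inv_cancel_right]

theorem cj_comm2' (a c : ι ⊕ ι) (t u : K) :
    X (ng a) c u * X a c t * (X (ng a) c u)⁻¹ = X a c t := by
  rw [← h.comm2 a c t u, mul_inv_cancel_right]

theorem cj_a2 (a c e : ι ⊕ ι) (t u : K) (h1 : a ≠ c) (h2 : a ≠ ng c) (h3 : a ≠ e)
    (h4 : a ≠ ng e) (h5 : c ≠ e) (h6 : c ≠ ng e) :
    X a c t * X (ng c) e u * (X a c t)⁻¹ = X a e (t * u) * X (ng c) e u := by
  rw [← h.a2 a c e t u h1 h2 h3 h4 h5 h6]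
  group

theorem cj_a2' (a c e : ι ⊕ ι) (t u : K) (h1 : a ≠ c) (h2 : a ≠ ng c) (h3 : a ≠ e)
    (h4 : a ≠ ng e) (h5 : c ≠ e) (h6 : c ≠ ng e) :
    X (ng c) e u * X a c t * (X (ng c) e u)⁻¹ = X a e (-(t * u)) * X a c t := by
  have e1 : X a e (-(t * u)) = (X a e (t * u))⁻¹ := by
    rw [h.X_inv]
  rw [e1, ← h.a2 a c e t u h1 h2 h3 h4 h5 h6]
  group

/-! ### membership -/

theorem X_mem_Qs (j c : ι ⊕ ι) (t : K) : X j c t ∈ Qs X j := by
  by_cases hc : c = ng j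
  · subst hc
    rw [h.opp]
    exact one_mem _
  · exact Subgroup.subset_closure ⟨c, t, hc, rfl⟩

theorem X_mem_Qs' (j c : ι ⊕ ι) (t : K) : X c j t ∈ Qs X j := by
  rw [h.anti]
  exact h.X_mem_Qs j c (-t)

omit h in
theorem Qs_le_Gs (o : ι ⊕ ι) : Qs X o ≤ Gs X o := by
  unfold Qs
  rw [Subgroup.closure_le]
  rintro _ ⟨c, t, hc, rfl⟩
  exact X_mem_Gs o o c t (ne_ng o) hc

end DStAB

end Cfsg.Agent.Lib.Helper66_S96
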