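import Mathlib
import Cfsg.Agent.Lib.Helper66_S96Calc
import Cfsg.Agent.Lib.Helper35_SteinAbs

set_option autoImplicit false
set_option linter.unusedVariables false
set_option linter.unusedSectionVars false

/-!
# S96 market, package D_STEIN (helper14)

A `DStAB` family (Steinberg relations of type `D_l` without the rank one relations) lifts to every
central extension when there are at least five indices, over any field (Milnor 5.10 / Stein).
Direct proof: `φ_e(t,u) = ⁅lift X a e t, lift X e' c u⁆` is bi-additive, depends only on `t u` and not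
on `e` (Hall-Witt), `Y a c t := φ_e(t,1)`; the relation `comm2` (orthogonal roots with the same
support) needs an extra argument.
-/

namespace Cfsg.Agent.Lib.Helper66_S96

open Cfsg.Agent.Lib.Helper66_S92 Cfsg.Agent.Lib.Helper81_UceA Cfsg.Agent.Lib.Helper35_SteinAbs
open scoped commutatorElement

section h14_stein

variable {K : Type*} [Field K] {ι : Type*} {E S : Type*} [Group E] [Group S] {π : E →* S}
  {XS : ι ⊕ ι → ι ⊕ ι → K → S}

/-- the underlying index of `a : ι ⊕ ι` -/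
def h14_sp : ι ⊕ ι → ι := Sum.elim id id

@[simp] theorem h14_sp_ng (a : ι ⊕ ι) : h14_sp (ng a) = h14_sp a := by
  cases a <;> rfl

theorem h14_sp_ne_iff (a c : ι ⊕ ι) : h14_sp a ≠ h14_sp c ↔ a ≠ c ∧ a ≠ ng c := by
  cases a <;> cases c <;> simp [h14_sp, ng]

theorem h14_n1 {a c : ι ⊕ ι} (h : h14_sp a ≠ h14_sp c) : a ≠ c := ((h14_sp_ne_iff a c).mp h).1

theorem h14_n2 {a c : ι ⊕ ι} (h : h14_sp a ≠ h14_sp c) : a ≠ ng c := ((h14_sp_ne_iff a c).mp h).2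

theorem h14_n3 {a c : ι ⊕ ι} (h : h14_sp a ≠ h14_sp c) : ng a ≠ c :=
  fun H => h14_n2 h.symm H.symm

theorem h14_n4 {a c : ι ⊕ ι} (h : h14_sp a ≠ h14_sp c) : ng a ≠ ng c :=
  fun H => h14_n1 h (ng_injective H)

theorem h14_n5 {a c : ι ⊕ ι} (h : h14_sp a ≠ h14_sp c) : a ≠ ng (ng c) := by
  rw [ng_ng]; exact h14_n1 h

theorem h14_n6 {a c : ι ⊕ ι} (h : h14_sp a ≠ h14_sp c) : ng a ≠ ng (ng c) := by
  rw [ng_ng]; exact h14_n3 h

theorem h14_exists_fresh [Fintype ι] [DecidableEq ι] (s : Finset ι) (hs : s.card < Fintype.card ι) :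
    ∃ e : ι ⊕ ι, h14_sp e ∉ s := by
  obtain ⟨i, hi⟩ : ∃ i, i ∉ s := by
    by_contra hcon
    push Not at hcon
    have : s = Finset.univ := Finset.eq_univ_iff_forall.mpr hcon
    rw [this, Finset.card_univ] at hs
    exact lt_irrefl _ hs
  exact ⟨Sum.inl i, hi⟩

theorem h14_fresh2 [Fintype ι] [DecidableEq ι] (h3 : 3 ≤ Fintype.card ι) (a c : ι ⊕ ι) :
    ∃ e : ι ⊕ ι, h14_sp a ≠ h14_sp e ∧ h14_sp c ≠ h14_sp e := by
  obtain ⟨e, he⟩ := h14_exists_fresh ({h14_sp a, h14_sp c} : Finset ι)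
    (lt_of_le_of_lt Finset.card_le_two (by omega))
  simp only [Finset.mem_insert, Finset.mem_singleton, not_or] at he
  exact ⟨e, Ne.symm he.1, Ne.symm he.2⟩

theorem h14_fresh3 [Fintype ι] [DecidableEq ι] (h4 : 4 ≤ Fintype.card ι) (a c d : ι ⊕ ι) :
    ∃ e : ι ⊕ ι, h14_sp a ≠ h14_sp e ∧ h14_sp c ≠ h14_sp e ∧ h14_sp d ≠ h14_sp e := by
  obtain ⟨e, he⟩ := h14_exists_fresh ({h14_sp a, h14_sp c, h14_sp d} : Finset ι)
    (lt_of_le_of_lt Finset.card_le_three (by omega))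
  simp only [Finset.mem_insert, Finset.mem_singleton, not_or] at he
  exact ⟨e, Ne.symm he.1, Ne.symm he.2.1, Ne.symm he.2.2⟩

theorem h14_fresh4 [Fintype ι] [DecidableEq ι] (h5 : 5 ≤ Fintype.card ι) (a c d e' : ι ⊕ ι) :
    ∃ e : ι ⊕ ι, h14_sp a ≠ h14_sp e ∧ h14_sp c ≠ h14_sp e ∧ h14_sp d ≠ h14_sp e ∧
      h14_sp e' ≠ h14_sp e := by
  obtain ⟨e, he⟩ := h14_exists_fresh ({h14_sp a, h14_sp c, h14_sp d, h14_sp e'} : Finset ι)
    (lt_of_le_of_lt Finset.card_le_four (by omega))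
  simp only [Finset.mem_insert, Finset.mem_singleton, not_or] at he
  exact ⟨e, Ne.symm he.1, Ne.symm he.2.1, Ne.symm he.2.2.1, Ne.symm he.2.2.2⟩

/-- the commutator of the lifts of `XS a e t` and `XS (ng e) c u` -/
noncomputable def h14_ph (hπ : CExt π) (XS : ι ⊕ ι → ι ⊕ ι → K → S) (e a c : ι ⊕ ι) (t u : K) : E :=
  ⁅lft hπ (XS a e t), lft hπ (XS (ng e) c u)⁆

theorem h14_ph_eq (hπ : CExt π) {e a c : ι ⊕ ι} {t u : K} {x y : E}
    (hx : π x = XS a e t) (hy : π y = XS (ng e) c u) : ⁅x, y⁆ = h14_ph hπ XS e a c t u := by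
  unfold h14_ph
  apply lift_comm_eq hπ
  · rw [hx, map_lft]
  · rw [hy, map_lft]

theorem h14_map_comm (h : DStAB XS) {e a c : ι ⊕ ι}
    (hac : h14_sp a ≠ h14_sp c) (hae : h14_sp a ≠ h14_sp e) (hce : h14_sp c ≠ h14_sp e)
    {x y : E} {t u : K} (hx : π x = XS a e t) (hy : π y = XS (ng e) c u) :
    π ⁅x, y⁆ = XS a c (t * u) := by
  rw [map_commutatorElement, hx, hy, commutatorElement_def]
  exact h.a2 a e c t u (h14_n1 hae) (h14_n2 hae) (h14_n1 hac) (h14_n2 hac) (h14_n1 hce.symm)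
    (h14_n2 hce.symm)

theorem h14_map_ph (hπ : CExt π) (h : DStAB XS) {e a c : ι ⊕ ι}
    (hac : h14_sp a ≠ h14_sp c) (hae : h14_sp a ≠ h14_sp e) (hce : h14_sp c ≠ h14_sp e) (t u : K) :
    π (h14_ph hπ XS e a c t u) = XS a c (t * u) :=
  h14_map_comm h hac hae hce (map_lft hπ _) (map_lft hπ _)

variable [Fintype ι] [DecidableEq ι]

/-- (L1) lifts of commuting root elements commute -/
theorem h14_lift_commute (h5 : 5 ≤ Fintype.card ι) (hπ : CExt π) (h : DStAB XS)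
    {a c d e : ι ⊕ ι} (hac : h14_sp a ≠ h14_sp c)
    (h1 : d ≠ ng a) (h2 : d ≠ ng c) (h3 : e ≠ ng a) (h4 : e ≠ ng c)
    {x y : E} {t u : K} (hx : π x = XS a c t) (hy : π y = XS d e u) : Commute x y := by
  obtain ⟨f, hfa, hfc, hfd, hfe⟩ := h14_fresh4 h5 a c d e
  set α := lft hπ (XS a f t) with hα
  set β := lft hπ (XS (ng f) c 1) with hβ
  have hαβ : π ⁅α, β⁆ = π x := by
    rw [hx, h14_map_comm h hac hfa hfc (map_lft hπ _) (map_lft hπ _), mul_one]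
  have hc : Commute y ⁅α, β⁆ := by
    apply commute_commutator_of_commute hπ
    · rw [hy, hα, map_lft]
      exact (h.comm a f d e t u h1 (h14_n2 hfd) h3 (h14_n2 hfe)).symm
    · rw [hy, hβ, map_lft]
      exact (h.comm (ng f) c d e 1 u (h14_n5 hfd) h2 (h14_n5 hfe) h4).symm
  exact commute_of_lift_eq hπ hαβ hc.symm

theorem h14_ph_add_left (h5 : 5 ≤ Fintype.card ι) (hπ : CExt π) (h : DStAB XS) {e a c : ι ⊕ ι}
    (hac : h14_sp a ≠ h14_sp c) (hae : h14_sp a ≠ h14_sp e) (hce : h14_sp c ≠ h14_sp e)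
    (t t' u : K) :
    h14_ph hπ XS e a c (t + t') u = h14_ph hπ XS e a c t u * h14_ph hπ XS e a c t' u := by
  set x := lft hπ (XS a e t) with hx
  set x' := lft hπ (XS a e t') with hx'
  set y := lft hπ (XS (ng e) c u) with hy
  have hxm : π x = XS a e t := map_lft hπ _
  have hxm' : π x' = XS a e t' := map_lft hπ _
  have hym : π y = XS (ng e) c u := map_lft hπ _
  have h1 : π (x * x') = XS a e (t + t') := by rw [map_mul, hxm, hxm', h.add]
  rw [← h14_ph_eq hπ h1 hym, commutator_mul_left]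
  have hm : π ⁅x, y⁆ = XS a c (t * u) := h14_map_comm h hac hae hce hxm hym
  have hm' : π ⁅x', y⁆ = XS a c (t' * u) := h14_map_comm h hac hae hce hxm' hym
  have hc : Commute x ⁅x', y⁆ :=
    h14_lift_commute h5 hπ h hae (ne_ng a) (h14_n2 hae) (h14_n2 hac.symm) (h14_n2 hce) hxm hm'
  have h3 : x * ⁅x', y⁆ * x⁻¹ = ⁅x', y⁆ := by
    rw [hc.eq]
    group
  rw [h3]
  have hc2 : Commute ⁅x', y⁆ ⁅x, y⁆ :=
    h14_lift_commute h5 hπ h hac (ne_ng a) (h14_n2 hac) (h14_n2 hac.symm) (ne_ng c) hm' hm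
  rw [hc2.eq]
  rfl

theorem h14_ph_add_right (h5 : 5 ≤ Fintype.card ι) (hπ : CExt π) (h : DStAB XS) {e a c : ι ⊕ ι}
    (hac : h14_sp a ≠ h14_sp c) (hae : h14_sp a ≠ h14_sp e) (hce : h14_sp c ≠ h14_sp e)
    (t u u' : K) :
    h14_ph hπ XS e a c t (u + u') = h14_ph hπ XS e a c t u * h14_ph hπ XS e a c t u' := by
  set x := lft hπ (XS a e t) with hx
  set y := lft hπ (XS (ng e) c u) with hy
  set y' := lft hπ (XS (ng e) c u') with hy'
  have hxm : π x = XS a e t := map_lft hπ _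
  have hym : π y = XS (ng e) c u := map_lft hπ _
  have hym' : π y' = XS (ng e) c u' := map_lft hπ _
  have h1 : π (y * y') = XS (ng e) c (u + u') := by rw [map_mul, hym, hym', h.add]
  rw [← h14_ph_eq hπ hxm h1, commutator_mul_right]
  have hm' : π ⁅x, y'⁆ = XS a c (t * u') := h14_map_comm h hac hae hce hxm hym'
  have hec : h14_sp (ng e) ≠ h14_sp c := by rw [h14_sp_ng]; exact hce.symm
  have hc : Commute y ⁅x, y'⁆ :=
    h14_lift_commute h5 hπ h hec (h14_n5 hae) (h14_n2 hac) (h14_n5 hce) (ne_ng c) hym hm'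
  have h3 : y * ⁅x, y'⁆ * y⁻¹ = ⁅x, y'⁆ := by
    rw [hc.eq]
    group
  rw [h3]
  rfl

theorem h14_ph_zero_left (h5 : 5 ≤ Fintype.card ι) (hπ : CExt π) (h : DStAB XS) {e a c : ι ⊕ ι}
    (hac : h14_sp a ≠ h14_sp c) (hae : h14_sp a ≠ h14_sp e) (hce : h14_sp c ≠ h14_sp e) (u : K) :
    h14_ph hπ XS e a c 0 u = 1 := by
  have := h14_ph_add_left h5 hπ h hac hae hce 0 0 u
  rw [add_zero] at this
  exact mul_eq_left.mp this.symm

theorem h14_ph_zero_right (h5 : 5 ≤ Fintype.card ι) (hπ : CExt π) (h : DStAB XS) {e a c : ι ⊕ ι}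
    (hac : h14_sp a ≠ h14_sp c) (hae : h14_sp a ≠ h14_sp e) (hce : h14_sp c ≠ h14_sp e) (t : K) :
    h14_ph hπ XS e a c t 0 = 1 := by
  have := h14_ph_add_right h5 hπ h hac hae hce t 0 0
  rw [add_zero] at this
  exact mul_eq_left.mp this.symm

theorem h14_ph_neg_left (h5 : 5 ≤ Fintype.card ι) (hπ : CExt π) (h : DStAB XS) {e a c : ι ⊕ ι}
    (hac : h14_sp a ≠ h14_sp c) (hae : h14_sp a ≠ h14_sp e) (hce : h14_sp c ≠ h14_sp e) (t u : K) :
    h14_ph hπ XS e a c (-t) u = (h14_ph hπ XS e a c t u)⁻¹ := by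
  rw [eq_inv_iff_mul_eq_one, ← h14_ph_add_left h5 hπ h hac hae hce, neg_add_cancel,
    h14_ph_zero_left h5 hπ h hac hae hce]

theorem h14_ph_neg_right (h5 : 5 ≤ Fintype.card ι) (hπ : CExt π) (h : DStAB XS) {e a c : ι ⊕ ι}
    (hac : h14_sp a ≠ h14_sp c) (hae : h14_sp a ≠ h14_sp e) (hce : h14_sp c ≠ h14_sp e) (t u : K) :
    h14_ph hπ XS e a c t (-u) = (h14_ph hπ XS e a c t u)⁻¹ := by
  rw [eq_inv_iff_mul_eq_one, ← h14_ph_add_right h5 hπ h hac hae hce, neg_add_cancel,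
    h14_ph_zero_right h5 hπ h hac hae hce]

/-- (L2) the Hall-Witt comparison -/
theorem h14_hw (h5 : 5 ≤ Fintype.card ι) (hπ : CExt π) (h : DStAB XS) {a c e f : ι ⊕ ι}
    (hac : h14_sp a ≠ h14_sp c) (hae : h14_sp a ≠ h14_sp e) (haf : h14_sp a ≠ h14_sp f)
    (hce : h14_sp c ≠ h14_sp e) (hcf : h14_sp c ≠ h14_sp f) (hef : h14_sp e ≠ h14_sp f)
    (t u v : K) :
    h14_ph hπ XS f a c (t * u) v = h14_ph hπ XS e a c t (u * v) := by
  set x := lft hπ (XS a e t) with hx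
  set y := lft hπ (XS (ng e) f u) with hy
  set z := lft hπ (XS (ng f) c v) with hz
  have hxm : π x = XS a e t := map_lft hπ _
  have hym : π y = XS (ng e) f u := map_lft hπ _
  have hzm : π z = XS (ng f) c v := map_lft hπ _
  have hnec : h14_sp (ng e) ≠ h14_sp c := by rw [h14_sp_ng]; exact hce.symm
  have hnef : h14_sp (ng e) ≠ h14_sp f := by rw [h14_sp_ng]; exact hef
  -- P' = ⁅x, y⁆ lifts XS a f (t u), Q' = ⁅y, z⁆ lifts XS (ng e) c (u v)
  have hP : π ⁅x, y⁆ = XS a f (t * u) := h14_map_comm h haf hae hef.symm hxm hym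
  have hQ : π ⁅y, z⁆ = XS (ng e) c (u * v) := h14_map_comm h hnec hnef hcf hym hzm
  have hPi : π (⁅x, y⁆)⁻¹ = XS a f (-(t * u)) := by rw [map_inv, hP, h.X_inv]
  have hQi : π (⁅y, z⁆)⁻¹ = XS (ng e) c (-(u * v)) := by rw [map_inv, hQ, h.X_inv]
  have e1 : ⁅z, ⁅y, x⁆⁆ = h14_ph hπ XS f a c (t * u) v := by
    rw [← commutatorElement_inv x y, ← commutatorElement_inv (⁅x, y⁆)⁻¹ z,
      h14_ph_eq hπ hPi hzm, h14_ph_neg_left h5 hπ h hac haf hcf, inv_inv]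
  have e2 : ⁅⁅z, y⁆, x⁆ = h14_ph hπ XS e a c t (u * v) := by
    rw [← commutatorElement_inv y z, ← commutatorElement_inv x (⁅y, z⁆)⁻¹,
      h14_ph_eq hπ hxm hQi, h14_ph_neg_right h5 hπ h hac hae hce, inv_inv]
  rw [← e1, ← e2]
  have hR : π ⁅⁅z, y⁆, x⁆ = XS a c (t * (u * v)) := by
    rw [e2]; exact h14_map_ph hπ h hac hae hce _ _
  apply hall_witt_special
  · exact h14_lift_commute h5 hπ h hae (h14_n4 haf.symm) (h14_n4 hef.symm) (h14_n2 hac.symm)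
      (h14_n2 hce) hxm hzm
  · have hPQ : Commute ⁅x, y⁆ ⁅y, z⁆ :=
      h14_lift_commute h5 hπ h haf (h14_n4 hae.symm) (h14_n4 hef) (h14_n2 hac.symm)
        (h14_n2 hcf) hP hQ
    rw [← commutatorElement_inv x y, ← commutatorElement_inv y z]
    exact hPQ.inv_inv
  · have hRP : Commute ⁅⁅z, y⁆, x⁆ ⁅x, y⁆ :=
      h14_lift_commute h5 hπ h hac (ne_ng a) (h14_n2 hac) (h14_n2 haf.symm) (h14_n2 hcf.symm)
        hR hP
    rw [← commutatorElement_inv x y]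
    exact hRP.inv_right

theorem h14_ph_indep_ne (h5 : 5 ≤ Fintype.card ι) (hπ : CExt π) (h : DStAB XS) {a c e f : ι ⊕ ι}
    (hac : h14_sp a ≠ h14_sp c) (hae : h14_sp a ≠ h14_sp e) (haf : h14_sp a ≠ h14_sp f)
    (hce : h14_sp c ≠ h14_sp e) (hcf : h14_sp c ≠ h14_sp f) (hef : h14_sp e ≠ h14_sp f)
    (t v : K) :
    h14_ph hπ XS f a c t v = h14_ph hπ XS e a c t v := by
  have := h14_hw h5 hπ h hac hae haf hce hcf hef t 1 v
  rwa [mul_one, one_mul] at this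

theorem h14_ph_indep (h5 : 5 ≤ Fintype.card ι) (hπ : CExt π) (h : DStAB XS) {a c e f : ι ⊕ ι}
    (hac : h14_sp a ≠ h14_sp c) (hae : h14_sp a ≠ h14_sp e) (haf : h14_sp a ≠ h14_sp f)
    (hce : h14_sp c ≠ h14_sp e) (hcf : h14_sp c ≠ h14_sp f) (t v : K) :
    h14_ph hπ XS f a c t v = h14_ph hπ XS e a c t v := by
  obtain ⟨g, hag, hcg, heg, hfg⟩ := h14_fresh4 h5 a c e f
  rw [h14_ph_indep_ne h5 hπ h hac hag haf hcg hcf hfg.symm t v,
    ← h14_ph_indep_ne h5 hπ h hac hag hae hcg hce heg.symm t v]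

theorem h14_ph_prod (h5 : 5 ≤ Fintype.card ι) (hπ : CExt π) (h : DStAB XS) {a c e : ι ⊕ ι}
    (hac : h14_sp a ≠ h14_sp c) (hae : h14_sp a ≠ h14_sp e) (hce : h14_sp c ≠ h14_sp e)
    (t v : K) :
    h14_ph hπ XS e a c t v = h14_ph hπ XS e a c (t * v) 1 := by
  obtain ⟨f, haf, hcf, hef⟩ := h14_fresh3 (by omega) a c e
  have := h14_hw h5 hπ h hac hae haf hce hcf hef t v 1
  rw [mul_one] at this
  rw [← this, h14_ph_indep h5 hπ h hac hae haf hce hcf]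


/-- the lifts -/
noncomputable def h14_Y (hπ : CExt π) (XS : ι ⊕ ι → ι ⊕ ι → K → S) (a c : ι ⊕ ι) (t : K) : E :=
  open Classical in
  if hr : h14_sp a ≠ h14_sp c ∧ ∃ e : ι ⊕ ι, h14_sp a ≠ h14_sp e ∧ h14_sp c ≠ h14_sp e then
    h14_ph hπ XS (Classical.choose hr.2) a c t 1
  else 1

theorem h14_Y_eq (h5 : 5 ≤ Fintype.card ι) (hπ : CExt π) (h : DStAB XS) {a c e : ι ⊕ ι}
    (hac : h14_sp a ≠ h14_sp c) (hae : h14_sp a ≠ h14_sp e) (hce : h14_sp c ≠ h14_sp e) (t : K) :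
    h14_Y hπ XS a c t = h14_ph hπ XS e a c t 1 := by
  have hr : h14_sp a ≠ h14_sp c ∧ ∃ e : ι ⊕ ι, h14_sp a ≠ h14_sp e ∧ h14_sp c ≠ h14_sp e :=
    ⟨hac, e, hae, hce⟩
  unfold h14_Y
  rw [dif_pos hr]
  obtain ⟨h1, h2⟩ := Classical.choose_spec hr.2
  exact h14_ph_indep h5 hπ h hac hae h1 hce h2 t 1

theorem h14_Y_one (hπ : CExt π) {a c : ι ⊕ ι} (hac : h14_sp a = h14_sp c) (t : K) :
    h14_Y hπ XS a c t = 1 := by
  unfold h14_Y
  rw [dif_neg]
  rintro ⟨h1, -⟩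
  exact h1 hac

theorem h14_XS_one (h : DStAB XS) {a c : ι ⊕ ι} (hac : h14_sp a = h14_sp c) (t : K) :
    XS a c t = 1 := by
  by_cases h1 : a = c
  · subst h1; exact h.diag a t
  · by_cases h2 : a = ng c
    · subst h2; exact h.opp' c t
    · exact absurd hac ((h14_sp_ne_iff a c).mpr ⟨h1, h2⟩)

theorem h14_map_Y (h5 : 5 ≤ Fintype.card ι) (hπ : CExt π) (h : DStAB XS) (a c : ι ⊕ ι) (t : K) :
    π (h14_Y hπ XS a c t) = XS a c t := by
  by_cases hac : h14_sp a = h14_sp c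
  · rw [h14_Y_one hπ hac, map_one, h14_XS_one h hac]
  · obtain ⟨e, hae, hce⟩ := h14_fresh2 (by omega) a c
    rw [h14_Y_eq h5 hπ h hac hae hce, h14_map_ph hπ h hac hae hce, mul_one]

theorem h14_Y_add (h5 : 5 ≤ Fintype.card ι) (hπ : CExt π) (h : DStAB XS) (a c : ι ⊕ ι) (t u : K) :
    h14_Y hπ XS a c t * h14_Y hπ XS a c u = h14_Y hπ XS a c (t + u) := by
  by_cases hac : h14_sp a = h14_sp c
  · rw [h14_Y_one hπ hac, h14_Y_one hπ hac, h14_Y_one hπ hac, mul_one]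
  · obtain ⟨e, hae, hce⟩ := h14_fresh2 (by omega) a c
    rw [h14_Y_eq h5 hπ h hac hae hce, h14_Y_eq h5 hπ h hac hae hce, h14_Y_eq h5 hπ h hac hae hce,
      h14_ph_add_left h5 hπ h hac hae hce]

theorem h14_Y_anti (h5 : 5 ≤ Fintype.card ι) (hπ : CExt π) (h : DStAB XS) (a c : ι ⊕ ι) (t : K) :
    h14_Y hπ XS c a t = h14_Y hπ XS a c (-t) := by
  by_cases hac : h14_sp a = h14_sp c
  · rw [h14_Y_one hπ hac, h14_Y_one hπ hac.symm]
  · obtain ⟨e, hae, hce⟩ := h14_fresh2 (by omega) a c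
    have hca : h14_sp c ≠ h14_sp a := fun H => hac H.symm
    have hce' : h14_sp c ≠ h14_sp (ng e) := by rw [h14_sp_ng]; exact hce
    have hae' : h14_sp a ≠ h14_sp (ng e) := by rw [h14_sp_ng]; exact hae
    rw [h14_Y_eq h5 hπ h hac hae hce, h14_ph_neg_left h5 hπ h hac hae hce,
      h14_Y_eq h5 hπ h hca hce' hae']
    -- `(ph e a c t 1)⁻¹ = ⁅lift X e' c 1, lift X a e t⁆`
    unfold h14_ph
    rw [commutatorElement_inv]
    have e1 : π (lft hπ (XS (ng e) c 1)) = XS c (ng e) (-1) := by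
      rw [map_lft, h.anti (ng e) c (-1), neg_neg]
    have e2 : π (lft hπ (XS a e t)) = XS (ng (ng e)) a (-t) := by
      rw [map_lft, ng_ng, h.anti e a t]
    have e3 := h14_ph_eq hπ e1 e2
    rw [e3, h14_ph_prod h5 hπ h hca hce' hae']
    unfold h14_ph
    rw [neg_mul_neg, one_mul]

theorem h14_Y_comm (h5 : 5 ≤ Fintype.card ι) (hπ : CExt π) (h : DStAB XS) (a c d e : ι ⊕ ι)
    (t u : K) (h1 : d ≠ ng a) (h2 : d ≠ ng c) (h3 : e ≠ ng a) (h4 : e ≠ ng c) :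
    h14_Y hπ XS a c t * h14_Y hπ XS d e u = h14_Y hπ XS d e u * h14_Y hπ XS a c t := by
  by_cases hac : h14_sp a = h14_sp c
  · rw [h14_Y_one hπ hac, one_mul, mul_one]
  · exact (h14_lift_commute h5 hπ h hac h1 h2 h3 h4 (h14_map_Y h5 hπ h a c t)
      (h14_map_Y h5 hπ h d e u)).eq

theorem h14_Y_a2 (h5 : 5 ≤ Fintype.card ι) (hπ : CExt π) (h : DStAB XS) (a c e : ι ⊕ ι) (t u : K)
    (hac : h14_sp a ≠ h14_sp c) (hae : h14_sp a ≠ h14_sp e) (hce : h14_sp c ≠ h14_sp e) :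
    ⁅h14_Y hπ XS a c t, h14_Y hπ XS (ng c) e u⁆ = h14_Y hπ XS a e (t * u) := by
  rw [h14_ph_eq hπ (h14_map_Y h5 hπ h a c t) (h14_map_Y h5 hπ h (ng c) e u),
    h14_ph_prod h5 hπ h hae hac hce.symm, h14_Y_eq h5 hπ h hae hac hce.symm]


/-- the group-theoretic core of the `comm2` argument -/
theorem h14_kappa {E : Type*} [Group E] {a b A B D : E}
    (hκ : ∀ x : E, Commute ⁅a, b⁆ x) (hc₀ : ∀ x : E, Commute ⁅A, B⁆ x)
    (hD : ⁅a, B⁆ = D) (hD' : ⁅A, b⁆ = D⁻¹) (hAD : Commute A D) (hBD : Commute B D) :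
    ⁅A * a, B * b⁆ = ⁅a, b⁆ * ⁅A, B⁆ := by
  have key : ⁅A * a, B * b⁆ =
      A * (⁅a, B⁆ * (B * ⁅a, b⁆ * B⁻¹)) * A⁻¹ * (⁅A, B⁆ * (B * ⁅A, b⁆ * B⁻¹)) := by
    simp only [commutatorElement_def]
    group
  rw [key, hD, hD']
  have h1 : B * ⁅a, b⁆ * B⁻¹ = ⁅a, b⁆ := by
    rw [← (hκ B).eq]
    group
  have h2 : B * D⁻¹ * B⁻¹ = D⁻¹ := by
    rw [hBD.inv_right.eq]
    group
  have h3 : A * (D * ⁅a, b⁆) * A⁻¹ = D * ⁅a, b⁆ := by
    have : Commute A (D * ⁅a, b⁆) := hAD.mul_right (hκ A).symm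
    rw [this.eq]
    group
  rw [h1, h2, h3]
  have h4 := (hc₀ D⁻¹).eq
  have h5 := (hκ D).eq
  calc D * ⁅a, b⁆ * (⁅A, B⁆ * D⁻¹) = D * ⁅a, b⁆ * (D⁻¹ * ⁅A, B⁆) := by rw [h4]
    _ = (D * ⁅a, b⁆) * D⁻¹ * ⁅A, B⁆ := by group
    _ = (⁅a, b⁆ * D) * D⁻¹ * ⁅A, B⁆ := by rw [h5]
    _ = ⁅a, b⁆ * ⁅A, B⁆ := by group

theorem h14_Y_comm2 (h5 : 5 ≤ Fintype.card ι) (hπ : CExt π) (h : DStAB XS) (p q : ι ⊕ ι)
    (t u : K) :
    h14_Y hπ XS p q t * h14_Y hπ XS (ng p) q u = h14_Y hπ XS (ng p) q u * h14_Y hπ XS p q t := by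
  by_cases hpq : h14_sp p = h14_sp q
  · rw [h14_Y_one hπ hpq, one_mul, mul_one]
  · obtain ⟨o, hpo, hqo⟩ := h14_fresh2 (by omega) p q
    have hop : h14_sp o ≠ h14_sp p := hpo.symm
    have hoq : h14_sp o ≠ h14_sp q := hqo.symm
    have hnpq : h14_sp (ng p) ≠ h14_sp q := by rw [h14_sp_ng]; exact hpq
    have hnpo : h14_sp (ng p) ≠ h14_sp o := by rw [h14_sp_ng]; exact hpo
    have hqno : h14_sp q ≠ h14_sp (ng o) := by rw [h14_sp_ng]; exact hqo
    have hnop : h14_sp (ng o) ≠ h14_sp p := by rw [h14_sp_ng]; exact hop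
    have hnonp : h14_sp (ng o) ≠ h14_sp (ng p) := by rw [h14_sp_ng, h14_sp_ng]; exact hop
    have hqp : h14_sp q ≠ h14_sp p := fun H => hpq H.symm
    have hqnp : h14_sp q ≠ h14_sp (ng p) := by rw [h14_sp_ng]; exact hqp
    have honp : h14_sp o ≠ h14_sp (ng p) := by rw [h14_sp_ng]; exact hop
    -- notation
    have hg : h14_Y hπ XS (ng o) q 1 = h14_Y hπ XS q (ng o) (-1) :=
      h14_Y_anti h5 hπ h q (ng o) 1
    have hA : ⁅h14_Y hπ XS (ng o) q 1, h14_Y hπ XS o p t⁆ = h14_Y hπ XS p q t := by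
      have := h14_Y_a2 h5 hπ h q (ng o) p (-1) t hqno hqp hnop
      rw [ng_ng] at this
      rw [hg, this, h14_Y_anti h5 hπ h p q, neg_mul, one_mul, neg_neg]
    have hB : ⁅h14_Y hπ XS (ng o) q 1, h14_Y hπ XS o (ng p) u⁆ = h14_Y hπ XS (ng p) q u := by
      have := h14_Y_a2 h5 hπ h q (ng o) (ng p) (-1) u hqno hqnp hnonp
      rw [ng_ng] at this
      rw [hg, this, h14_Y_anti h5 hπ h (ng p) q, neg_mul, one_mul, neg_neg]
    have hD : ⁅h14_Y hπ XS o p t, h14_Y hπ XS (ng p) q u⁆ = h14_Y hπ XS o q (t * u) :=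
      h14_Y_a2 h5 hπ h o p q t u hop hoq hpq
    have hD' : ⁅h14_Y hπ XS p q t, h14_Y hπ XS o (ng p) u⁆ = (h14_Y hπ XS o q (t * u))⁻¹ := by
      have := h14_Y_a2 h5 hπ h o (ng p) q u t honp hoq hnpq
      rw [ng_ng] at this
      rw [← commutatorElement_inv, this, mul_comm]
    have hAD : Commute (h14_Y hπ XS p q t) (h14_Y hπ XS o q (t * u)) :=
      h14_Y_comm h5 hπ h p q o q t (t * u) (h14_n2 hop) (h14_n2 hoq) (h14_n2 hqp) (ne_ng q)
    have hBD : Commute (h14_Y hπ XS (ng p) q u) (h14_Y hπ XS o q (t * u)) :=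
      h14_Y_comm h5 hπ h (ng p) q o q u (t * u) (h14_n5 hop) (h14_n2 hoq) (h14_n5 hqp) (ne_ng q)
    have hκ : ∀ x : E, Commute ⁅h14_Y hπ XS o p t, h14_Y hπ XS o (ng p) u⁆ x := by
      apply hπ.commute_of_ker
      rw [map_commutatorElement, h14_map_Y h5 hπ h, h14_map_Y h5 hπ h,
        commutatorElement_eq_one_iff_commute, h.anti p o t, h.anti (ng p) o u]
      exact h.comm2 p o (-t) (-u)
    have hc₀ : ∀ x : E, Commute ⁅h14_Y hπ XS p q t, h14_Y hπ XS (ng p) q u⁆ x := by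
      apply hπ.commute_of_ker
      rw [map_commutatorElement, h14_map_Y h5 hπ h, h14_map_Y h5 hπ h,
        commutatorElement_eq_one_iff_commute]
      exact h.comm2 p q t u
    have hk := h14_kappa hκ hc₀ hD hD' hAD hBD
    -- the left side is the conjugate of `κ` by `g`
    have hconj : ⁅h14_Y hπ XS p q t * h14_Y hπ XS o p t,
        h14_Y hπ XS (ng p) q u * h14_Y hπ XS o (ng p) u⁆ =
        ⁅h14_Y hπ XS o p t, h14_Y hπ XS o (ng p) u⁆ := by
      have e1 : h14_Y hπ XS p q t * h14_Y hπ XS o p t =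
          h14_Y hπ XS (ng o) q 1 * h14_Y hπ XS o p t * (h14_Y hπ XS (ng o) q 1)⁻¹ := by
        rw [← hA, commutatorElement_def]
        group
      have e2 : h14_Y hπ XS (ng p) q u * h14_Y hπ XS o (ng p) u =
          h14_Y hπ XS (ng o) q 1 * h14_Y hπ XS o (ng p) u * (h14_Y hπ XS (ng o) q 1)⁻¹ := by
        rw [← hB, commutatorElement_def]
        group
      rw [e1, e2, ← conj_commutator, ← (hκ (h14_Y hπ XS (ng o) q 1)).eq]
      group
    rw [hconj] at hk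
    have h1 : ⁅h14_Y hπ XS p q t, h14_Y hπ XS (ng p) q u⁆ = 1 := by
      have := hk.symm
      exact mul_eq_left.mp this
    exact (commutatorElement_eq_one_iff_commute.mp h1).eq

end h14_stein

/-! ## D_STEIN : lifting the relations to a central extension (Stein / Milnor 5.10), five indices -/

theorem exists_dStAB_lift {K : Type*} [Field K] {ι : Type*} [Fintype ι] [DecidableEq ι]
    (h5 : 5 ≤ Fintype.card ι) {E S : Type*} [Group E] [Group S] {π : E →* S} (hπ : CExt π)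
    {XS : ι ⊕ ι → ι ⊕ ι → K → S} (h : DStAB XS) :
    ∃ Y : ι ⊕ ι → ι ⊕ ι → K → E, (∀ a c t, π (Y a c t) = XS a c t) ∧ DStAB Y := by
  refine ⟨h14_Y hπ XS, h14_map_Y h5 hπ h, ?_⟩
  exact
    { anti := fun a c t => h14_Y_anti h5 hπ h a c t
      opp := fun a t => h14_Y_one hπ (h14_sp_ng a).symm t
      diag := fun a t => h14_Y_one hπ rfl t
      add := h14_Y_add h5 hπ h
      comm := h14_Y_comm h5 hπ h
      comm2 := h14_Y_comm2 h5 hπ h
      a2 := fun a c e t u h1 h2 h3 h4 h5' h6 => by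
        have := h14_Y_a2 h5 hπ h a c e t u ((h14_sp_ne_iff a c).mpr ⟨h1, h2⟩)
          ((h14_sp_ne_iff a e).mpr ⟨h3, h4⟩) ((h14_sp_ne_iff c e).mpr ⟨h5', h6⟩)
        rw [commutatorElement_def] at this
        exact this }

end Cfsg.Agent.Lib.Helper66_S96
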