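import Mathlib
import Cfsg.Agent.Lib.Helper14_S96_STEIN

set_option autoImplicit false
set_option linter.unusedVariables false
set_option linter.unusedSectionVars false

/-!
# S96 market: lifting a `DStAB` family to a central extension with only FOUR indices (helper14)

`Helper14_S96_STEIN` needs five indices only to prove that lifts of commuting root elements commute
for two orthogonal roots with disjoint supports.  Here the whole construction is redone from that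
commutation property (`h14q_LC`) and `4 ≤ card ι`, and the property is proved
* in characteristic `≠ 2` without any torus: the two decompositions `X a c t = [X a d t₁, X d' c t₂]`
  and `X a c t = [X a e' t₁, X e c t₂]` give `c = c⁻¹` for the central bi-additive commutator `c`;
* when some `s ≠ 0` has `s * s ≠ 1`, by the torus argument with `HD X a c s`.
-/

namespace Cfsg.Agent.Lib.Helper66_S96

open Cfsg.Agent.Lib.Helper66_S92 Cfsg.Agent.Lib.Helper81_UceA Cfsg.Agent.Lib.Helper35_SteinAbs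
open scoped commutatorElement

section h14q_stein

variable {K : Type*} [Field K] {ι : Type*} {E S : Type*} [Group E] [Group S] {π : E →* S}
  {XS : ι ⊕ ι → ι ⊕ ι → K → S}

/-- lifts of commuting root elements commute -/
def h14q_LC (π : E →* S) (XS : ι ⊕ ι → ι ⊕ ι → K → S) : Prop :=
  ∀ (a c d e : ι ⊕ ι) (x y : E) (t u : K), h14_sp a ≠ h14_sp c → d ≠ ng a → d ≠ ng c → e ≠ ng a →
    e ≠ ng c → π x = XS a c t → π y = XS d e u → Commute x y

theorem h14q_lc (L : h14q_LC π XS) {a c d e : ι ⊕ ι} (hac : h14_sp a ≠ h14_sp c)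
    (h1 : d ≠ ng a) (h2 : d ≠ ng c) (h3 : e ≠ ng a) (h4 : e ≠ ng c)
    {x y : E} {t u : K} (hx : π x = XS a c t) (hy : π y = XS d e u) : Commute x y :=
  L a c d e x y t u hac h1 h2 h3 h4 hx hy

/-- lifts commute when there is an index outside the supports -/
theorem h14q_lc_of_fresh (hπ : CExt π) (h : DStAB XS) {a c d e f : ι ⊕ ι}
    (hac : h14_sp a ≠ h14_sp c) (h1 : d ≠ ng a) (h2 : d ≠ ng c) (h3 : e ≠ ng a) (h4 : e ≠ ng c)
    (hfa : h14_sp a ≠ h14_sp f) (hfc : h14_sp c ≠ h14_sp f) (hfd : h14_sp d ≠ h14_sp f)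
    (hfe : h14_sp e ≠ h14_sp f)
    {x y : E} {t u : K} (hx : π x = XS a c t) (hy : π y = XS d e u) : Commute x y := by
  set α := lft hπ (XS a f t) with hα
  set β := lft hπ (XS (ng f) c 1) with hβ
  have hαβ : π ⁅α, β⁆ = π x := by
    rw [hx, h14_map_comm h hac hfa hfc (map_lft hπ _) (map_lft hπ _), mul_one]
  have hc : Commute y ⁅α, β⁆ := by
    apply commute_commutator_of_commute hπ
    · rw [hy, hα, map_lft]
      exact (h.comm a f d e t u h1 (h14_n2 hfd) h3 (h14_n2 hfe)).symm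
    · rw [hy, hβ, map_lft]
      exact (h.comm (ng f) c d e 1 u (h14_n5 hfd) h2 (h14_n5 hfe) h4).symm
  exact commute_of_lift_eq hπ hαβ hc.symm

variable [Fintype ι] [DecidableEq ι]

theorem h14q_ph_add_left (L : h14q_LC π XS) (h4 : 4 ≤ Fintype.card ι) (hπ : CExt π) (h : DStAB XS) {e a c : ι ⊕ ι}
    (hac : h14_sp a ≠ h14_sp c) (hae : h14_sp a ≠ h14_sp e) (hce : h14_sp c ≠ h14_sp e)
    (t t' u : K) :
    h14_ph hπ XS e a c (t + t') u = h14_ph hπ XS e a c t u * h14_ph hπ XS e a c t' u := by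
  set x := lft hπ (XS a e t) with hx
  set x' := lft hπ (XS a e t') with hx'
  set y := lft hπ (XS (ng e) c u) with hy
  have hxm : π x = XS a e t := map_lft hπ _
  have hxm' : π x' = XS a e t' := map_lft hπ _
  have hym : π y = XS (ng e) c u := map_lft hπ _
  have h1 : π (x * x') = XS a e (t + t') := by rw [map_mul, hxm, hxm', h.add]
  rw [← h14_ph_eq hπ h1 hym, commutator_mul_left]
  have hm : π ⁅x, y⁆ = XS a c (t * u) := h14_map_comm h hac hae hce hxm hym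
  have hm' : π ⁅x', y⁆ = XS a c (t' * u) := h14_map_comm h hac hae hce hxm' hym
  have hc : Commute x ⁅x', y⁆ :=
    h14q_lc L hae (ne_ng a) (h14_n2 hae) (h14_n2 hac.symm) (h14_n2 hce) hxm hm'
  have h3 : x * ⁅x', y⁆ * x⁻¹ = ⁅x', y⁆ := by
    rw [hc.eq]
    group
  rw [h3]
  have hc2 : Commute ⁅x', y⁆ ⁅x, y⁆ :=
    h14q_lc L hac (ne_ng a) (h14_n2 hac) (h14_n2 hac.symm) (ne_ng c) hm' hm
  rw [hc2.eq]
  rfl

theorem h14q_ph_add_right (L : h14q_LC π XS) (h4 : 4 ≤ Fintype.card ι) (hπ : CExt π) (h : DStAB XS) {e a c : ι ⊕ ι}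
    (hac : h14_sp a ≠ h14_sp c) (hae : h14_sp a ≠ h14_sp e) (hce : h14_sp c ≠ h14_sp e)
    (t u u' : K) :
    h14_ph hπ XS e a c t (u + u') = h14_ph hπ XS e a c t u * h14_ph hπ XS e a c t u' := by
  set x := lft hπ (XS a e t) with hx
  set y := lft hπ (XS (ng e) c u) with hy
  set y' := lft hπ (XS (ng e) c u') with hy'
  have hxm : π x = XS a e t := map_lft hπ _
  have hym : π y = XS (ng e) c u := map_lft hπ _
  have hym' : π y' = XS (ng e) c u' := map_lft hπ _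
  have h1 : π (y * y') = XS (ng e) c (u + u') := by rw [map_mul, hym, hym', h.add]
  rw [← h14_ph_eq hπ hxm h1, commutator_mul_right]
  have hm' : π ⁅x, y'⁆ = XS a c (t * u') := h14_map_comm h hac hae hce hxm hym'
  have hec : h14_sp (ng e) ≠ h14_sp c := by rw [h14_sp_ng]; exact hce.symm
  have hc : Commute y ⁅x, y'⁆ :=
    h14q_lc L hec (h14_n5 hae) (h14_n2 hac) (h14_n5 hce) (ne_ng c) hym hm'
  have h3 : y * ⁅x, y'⁆ * y⁻¹ = ⁅x, y'⁆ := by
    rw [hc.eq]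
    group
  rw [h3]
  rfl

theorem h14q_ph_zero_left (L : h14q_LC π XS) (h4 : 4 ≤ Fintype.card ι) (hπ : CExt π) (h : DStAB XS) {e a c : ι ⊕ ι}
    (hac : h14_sp a ≠ h14_sp c) (hae : h14_sp a ≠ h14_sp e) (hce : h14_sp c ≠ h14_sp e) (u : K) :
    h14_ph hπ XS e a c 0 u = 1 := by
  have := h14q_ph_add_left L h4 hπ h hac hae hce 0 0 u
  rw [add_zero] at this
  exact mul_eq_left.mp this.symm

theorem h14q_ph_zero_right (L : h14q_LC π XS) (h4 : 4 ≤ Fintype.card ι) (hπ : CExt π) (h : DStAB XS) {e a c : ι ⊕ ι}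
    (hac : h14_sp a ≠ h14_sp c) (hae : h14_sp a ≠ h14_sp e) (hce : h14_sp c ≠ h14_sp e) (t : K) :
    h14_ph hπ XS e a c t 0 = 1 := by
  have := h14q_ph_add_right L h4 hπ h hac hae hce t 0 0
  rw [add_zero] at this
  exact mul_eq_left.mp this.symm

theorem h14q_ph_neg_left (L : h14q_LC π XS) (h4 : 4 ≤ Fintype.card ι) (hπ : CExt π) (h : DStAB XS) {e a c : ι ⊕ ι}
    (hac : h14_sp a ≠ h14_sp c) (hae : h14_sp a ≠ h14_sp e) (hce : h14_sp c ≠ h14_sp e) (t u : K) :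
    h14_ph hπ XS e a c (-t) u = (h14_ph hπ XS e a c t u)⁻¹ := by
  rw [eq_inv_iff_mul_eq_one, ← h14q_ph_add_left L h4 hπ h hac hae hce, neg_add_cancel,
    h14q_ph_zero_left L h4 hπ h hac hae hce]

theorem h14q_ph_neg_right (L : h14q_LC π XS) (h4 : 4 ≤ Fintype.card ι) (hπ : CExt π) (h : DStAB XS) {e a c : ι ⊕ ι}
    (hac : h14_sp a ≠ h14_sp c) (hae : h14_sp a ≠ h14_sp e) (hce : h14_sp c ≠ h14_sp e) (t u : K) :
    h14_ph hπ XS e a c t (-u) = (h14_ph hπ XS e a c t u)⁻¹ := by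
  rw [eq_inv_iff_mul_eq_one, ← h14q_ph_add_right L h4 hπ h hac hae hce, neg_add_cancel,
    h14q_ph_zero_right L h4 hπ h hac hae hce]

/-- (L2) the Hall-Witt comparison -/
theorem h14q_hw (L : h14q_LC π XS) (h4 : 4 ≤ Fintype.card ι) (hπ : CExt π) (h : DStAB XS) {a c e f : ι ⊕ ι}
    (hac : h14_sp a ≠ h14_sp c) (hae : h14_sp a ≠ h14_sp e) (haf : h14_sp a ≠ h14_sp f)
    (hce : h14_sp c ≠ h14_sp e) (hcf : h14_sp c ≠ h14_sp f) (hef : h14_sp e ≠ h14_sp f)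
    (t u v : K) :
    h14_ph hπ XS f a c (t * u) v = h14_ph hπ XS e a c t (u * v) := by
  set x := lft hπ (XS a e t) with hx
  set y := lft hπ (XS (ng e) f u) with hy
  set z := lft hπ (XS (ng f) c v) with hz
  have hxm : π x = XS a e t := map_lft hπ _
  have hym : π y = XS (ng e) f u := map_lft hπ _
  have hzm : π z = XS (ng f) c v := map_lft hπ _
  have hnec : h14_sp (ng e) ≠ h14_sp c := by rw [h14_sp_ng]; exact hce.symm
  have hnef : h14_sp (ng e) ≠ h14_sp f := by rw [h14_sp_ng]; exact hef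
  -- P' = ⁅x, y⁆ lifts XS a f (t u), Q' = ⁅y, z⁆ lifts XS (ng e) c (u v)
  have hP : π ⁅x, y⁆ = XS a f (t * u) := h14_map_comm h haf hae hef.symm hxm hym
  have hQ : π ⁅y, z⁆ = XS (ng e) c (u * v) := h14_map_comm h hnec hnef hcf hym hzm
  have hPi : π (⁅x, y⁆)⁻¹ = XS a f (-(t * u)) := by rw [map_inv, hP, h.X_inv]
  have hQi : π (⁅y, z⁆)⁻¹ = XS (ng e) c (-(u * v)) := by rw [map_inv, hQ, h.X_inv]
  have e1 : ⁅z, ⁅y, x⁆⁆ = h14_ph hπ XS f a c (t * u) v := by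
    rw [← commutatorElement_inv x y, ← commutatorElement_inv (⁅x, y⁆)⁻¹ z,
      h14_ph_eq hπ hPi hzm, h14q_ph_neg_left L h4 hπ h hac haf hcf, inv_inv]
  have e2 : ⁅⁅z, y⁆, x⁆ = h14_ph hπ XS e a c t (u * v) := by
    rw [← commutatorElement_inv y z, ← commutatorElement_inv x (⁅y, z⁆)⁻¹,
      h14_ph_eq hπ hxm hQi, h14q_ph_neg_right L h4 hπ h hac hae hce, inv_inv]
  rw [← e1, ← e2]
  have hR : π ⁅⁅z, y⁆, x⁆ = XS a c (t * (u * v)) := by
    rw [e2]; exact h14_map_ph hπ h hac hae hce _ _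
  apply hall_witt_special
  · exact h14q_lc L hae (h14_n4 haf.symm) (h14_n4 hef.symm) (h14_n2 hac.symm)
      (h14_n2 hce) hxm hzm
  · have hPQ : Commute ⁅x, y⁆ ⁅y, z⁆ :=
      h14q_lc L haf (h14_n4 hae.symm) (h14_n4 hef) (h14_n2 hac.symm)
        (h14_n2 hcf) hP hQ
    rw [← commutatorElement_inv x y, ← commutatorElement_inv y z]
    exact hPQ.inv_inv
  · have hRP : Commute ⁅⁅z, y⁆, x⁆ ⁅x, y⁆ :=
      h14q_lc L hac (ne_ng a) (h14_n2 hac) (h14_n2 haf.symm) (h14_n2 hcf.symm)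
        hR hP
    rw [← commutatorElement_inv x y]
    exact hRP.inv_right

theorem h14q_ph_indep_ne (L : h14q_LC π XS) (h4 : 4 ≤ Fintype.card ι) (hπ : CExt π) (h : DStAB XS) {a c e f : ι ⊕ ι}
    (hac : h14_sp a ≠ h14_sp c) (hae : h14_sp a ≠ h14_sp e) (haf : h14_sp a ≠ h14_sp f)
    (hce : h14_sp c ≠ h14_sp e) (hcf : h14_sp c ≠ h14_sp f) (hef : h14_sp e ≠ h14_sp f)
    (t v : K) :
    h14_ph hπ XS f a c t v = h14_ph hπ XS e a c t v := by
  have := h14q_hw L h4 hπ h hac hae haf hce hcf hef t 1 v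
  rwa [mul_one, one_mul] at this

theorem h14q_ph_indep (L : h14q_LC π XS) (h4 : 4 ≤ Fintype.card ι) (hπ : CExt π) (h : DStAB XS) {a c e f : ι ⊕ ι}
    (hac : h14_sp a ≠ h14_sp c) (hae : h14_sp a ≠ h14_sp e) (haf : h14_sp a ≠ h14_sp f)
    (hce : h14_sp c ≠ h14_sp e) (hcf : h14_sp c ≠ h14_sp f) (t v : K) :
    h14_ph hπ XS f a c t v = h14_ph hπ XS e a c t v := by
  by_cases hef : h14_sp e = h14_sp f
  · obtain ⟨g, hag, hcg, heg⟩ := h14_fresh3 h4 a c e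
    have hfg : h14_sp f ≠ h14_sp g := hef ▸ heg
    rw [h14q_ph_indep_ne L h4 hπ h hac hag haf hcg hcf hfg.symm t v,
      ← h14q_ph_indep_ne L h4 hπ h hac hag hae hcg hce heg.symm t v]
  · exact h14q_ph_indep_ne L h4 hπ h hac hae haf hce hcf hef t v

theorem h14q_ph_prod (L : h14q_LC π XS) (h4 : 4 ≤ Fintype.card ι) (hπ : CExt π) (h : DStAB XS) {a c e : ι ⊕ ι}
    (hac : h14_sp a ≠ h14_sp c) (hae : h14_sp a ≠ h14_sp e) (hce : h14_sp c ≠ h14_sp e)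
    (t v : K) :
    h14_ph hπ XS e a c t v = h14_ph hπ XS e a c (t * v) 1 := by
  obtain ⟨f, haf, hcf, hef⟩ := h14_fresh3 h4 a c e
  have := h14q_hw L h4 hπ h hac hae haf hce hcf hef t v 1
  rw [mul_one] at this
  rw [← this, h14q_ph_indep L h4 hπ h hac hae haf hce hcf]


/-- the lifts -/
theorem h14q_Y_eq (L : h14q_LC π XS) (h4 : 4 ≤ Fintype.card ι) (hπ : CExt π) (h : DStAB XS) {a c e : ι ⊕ ι}
    (hac : h14_sp a ≠ h14_sp c) (hae : h14_sp a ≠ h14_sp e) (hce : h14_sp c ≠ h14_sp e) (t : K) :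
    h14_Y hπ XS a c t = h14_ph hπ XS e a c t 1 := by
  have hr : h14_sp a ≠ h14_sp c ∧ ∃ e : ι ⊕ ι, h14_sp a ≠ h14_sp e ∧ h14_sp c ≠ h14_sp e :=
    ⟨hac, e, hae, hce⟩
  unfold h14_Y
  rw [dif_pos hr]
  obtain ⟨h1, h2⟩ := Classical.choose_spec hr.2
  exact h14q_ph_indep L h4 hπ h hac hae h1 hce h2 t 1

theorem h14q_map_Y (L : h14q_LC π XS) (h4 : 4 ≤ Fintype.card ι) (hπ : CExt π) (h : DStAB XS) (a c : ι ⊕ ι) (t : K) :
    π (h14_Y hπ XS a c t) = XS a c t := by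
  by_cases hac : h14_sp a = h14_sp c
  · rw [h14_Y_one hπ hac, map_one, h14_XS_one h hac]
  · obtain ⟨e, hae, hce⟩ := h14_fresh2 (by omega) a c
    rw [h14q_Y_eq L h4 hπ h hac hae hce, h14_map_ph hπ h hac hae hce, mul_one]

theorem h14q_Y_add (L : h14q_LC π XS) (h4 : 4 ≤ Fintype.card ι) (hπ : CExt π) (h : DStAB XS) (a c : ι ⊕ ι) (t u : K) :
    h14_Y hπ XS a c t * h14_Y hπ XS a c u = h14_Y hπ XS a c (t + u) := by
  by_cases hac : h14_sp a = h14_sp c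
  · rw [h14_Y_one hπ hac, h14_Y_one hπ hac, h14_Y_one hπ hac, mul_one]
  · obtain ⟨e, hae, hce⟩ := h14_fresh2 (by omega) a c
    rw [h14q_Y_eq L h4 hπ h hac hae hce, h14q_Y_eq L h4 hπ h hac hae hce, h14q_Y_eq L h4 hπ h hac hae hce,
      h14q_ph_add_left L h4 hπ h hac hae hce]

theorem h14q_Y_anti (L : h14q_LC π XS) (h4 : 4 ≤ Fintype.card ι) (hπ : CExt π) (h : DStAB XS) (a c : ι ⊕ ι) (t : K) :
    h14_Y hπ XS c a t = h14_Y hπ XS a c (-t) := by
  by_cases hac : h14_sp a = h14_sp c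
  · rw [h14_Y_one hπ hac, h14_Y_one hπ hac.symm]
  · obtain ⟨e, hae, hce⟩ := h14_fresh2 (by omega) a c
    have hca : h14_sp c ≠ h14_sp a := fun H => hac H.symm
    have hce' : h14_sp c ≠ h14_sp (ng e) := by rw [h14_sp_ng]; exact hce
    have hae' : h14_sp a ≠ h14_sp (ng e) := by rw [h14_sp_ng]; exact hae
    rw [h14q_Y_eq L h4 hπ h hac hae hce, h14q_ph_neg_left L h4 hπ h hac hae hce,
      h14q_Y_eq L h4 hπ h hca hce' hae']
    -- `(ph e a c t 1)⁻¹ = ⁅lift X e' c 1, lift X a e t⁆`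
    unfold h14_ph
    rw [commutatorElement_inv]
    have e1 : π (lft hπ (XS (ng e) c 1)) = XS c (ng e) (-1) := by
      rw [map_lft, h.anti (ng e) c (-1), neg_neg]
    have e2 : π (lft hπ (XS a e t)) = XS (ng (ng e)) a (-t) := by
      rw [map_lft, ng_ng, h.anti e a t]
    have e3 := h14_ph_eq hπ e1 e2
    rw [e3, h14q_ph_prod L h4 hπ h hca hce' hae']
    unfold h14_ph
    rw [neg_mul_neg, one_mul]

theorem h14q_Y_comm (L : h14q_LC π XS) (h4 : 4 ≤ Fintype.card ι) (hπ : CExt π) (h : DStAB XS) (a c d e : ι ⊕ ι)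
    (t u : K) (k1 : d ≠ ng a) (k2 : d ≠ ng c) (k3 : e ≠ ng a) (k4 : e ≠ ng c) :
    h14_Y hπ XS a c t * h14_Y hπ XS d e u = h14_Y hπ XS d e u * h14_Y hπ XS a c t := by
  by_cases hac : h14_sp a = h14_sp c
  · rw [h14_Y_one hπ hac, one_mul, mul_one]
  · exact (h14q_lc L hac k1 k2 k3 k4 (h14q_map_Y L h4 hπ h a c t)
      (h14q_map_Y L h4 hπ h d e u)).eq

theorem h14q_Y_a2 (L : h14q_LC π XS) (h4 : 4 ≤ Fintype.card ι) (hπ : CExt π) (h : DStAB XS) (a c e : ι ⊕ ι) (t u : K)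
    (hac : h14_sp a ≠ h14_sp c) (hae : h14_sp a ≠ h14_sp e) (hce : h14_sp c ≠ h14_sp e) :
    ⁅h14_Y hπ XS a c t, h14_Y hπ XS (ng c) e u⁆ = h14_Y hπ XS a e (t * u) := by
  rw [h14_ph_eq hπ (h14q_map_Y L h4 hπ h a c t) (h14q_map_Y L h4 hπ h (ng c) e u),
    h14q_ph_prod L h4 hπ h hae hac hce.symm, h14q_Y_eq L h4 hπ h hae hac hce.symm]


/-- the group-theoretic core of the `comm2` argument -/
theorem h14q_Y_comm2 (L : h14q_LC π XS) (h4 : 4 ≤ Fintype.card ι) (hπ : CExt π) (h : DStAB XS) (p q : ι ⊕ ι)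
    (t u : K) :
    h14_Y hπ XS p q t * h14_Y hπ XS (ng p) q u = h14_Y hπ XS (ng p) q u * h14_Y hπ XS p q t := by
  by_cases hpq : h14_sp p = h14_sp q
  · rw [h14_Y_one hπ hpq, one_mul, mul_one]
  · obtain ⟨o, hpo, hqo⟩ := h14_fresh2 (by omega) p q
    have hop : h14_sp o ≠ h14_sp p := hpo.symm
    have hoq : h14_sp o ≠ h14_sp q := hqo.symm
    have hnpq : h14_sp (ng p) ≠ h14_sp q := by rw [h14_sp_ng]; exact hpq
    have hnpo : h14_sp (ng p) ≠ h14_sp o := by rw [h14_sp_ng]; exact hpo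
    have hqno : h14_sp q ≠ h14_sp (ng o) := by rw [h14_sp_ng]; exact hqo
    have hnop : h14_sp (ng o) ≠ h14_sp p := by rw [h14_sp_ng]; exact hop
    have hnonp : h14_sp (ng o) ≠ h14_sp (ng p) := by rw [h14_sp_ng, h14_sp_ng]; exact hop
    have hqp : h14_sp q ≠ h14_sp p := fun H => hpq H.symm
    have hqnp : h14_sp q ≠ h14_sp (ng p) := by rw [h14_sp_ng]; exact hqp
    have honp : h14_sp o ≠ h14_sp (ng p) := by rw [h14_sp_ng]; exact hop
    -- notation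
    have hg : h14_Y hπ XS (ng o) q 1 = h14_Y hπ XS q (ng o) (-1) :=
      h14q_Y_anti L h4 hπ h q (ng o) 1
    have hA : ⁅h14_Y hπ XS (ng o) q 1, h14_Y hπ XS o p t⁆ = h14_Y hπ XS p q t := by
      have := h14q_Y_a2 L h4 hπ h q (ng o) p (-1) t hqno hqp hnop
      rw [ng_ng] at this
      rw [hg, this, h14q_Y_anti L h4 hπ h p q, neg_mul, one_mul, neg_neg]
    have hB : ⁅h14_Y hπ XS (ng o) q 1, h14_Y hπ XS o (ng p) u⁆ = h14_Y hπ XS (ng p) q u := by
      have := h14q_Y_a2 L h4 hπ h q (ng o) (ng p) (-1) u hqno hqnp hnonp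
      rw [ng_ng] at this
      rw [hg, this, h14q_Y_anti L h4 hπ h (ng p) q, neg_mul, one_mul, neg_neg]
    have hD : ⁅h14_Y hπ XS o p t, h14_Y hπ XS (ng p) q u⁆ = h14_Y hπ XS o q (t * u) :=
      h14q_Y_a2 L h4 hπ h o p q t u hop hoq hpq
    have hD' : ⁅h14_Y hπ XS p q t, h14_Y hπ XS o (ng p) u⁆ = (h14_Y hπ XS o q (t * u))⁻¹ := by
      have := h14q_Y_a2 L h4 hπ h o (ng p) q u t honp hoq hnpq
      rw [ng_ng] at this
      rw [← commutatorElement_inv, this, mul_comm]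
    have hAD : Commute (h14_Y hπ XS p q t) (h14_Y hπ XS o q (t * u)) :=
      h14q_Y_comm L h4 hπ h p q o q t (t * u) (h14_n2 hop) (h14_n2 hoq) (h14_n2 hqp) (ne_ng q)
    have hBD : Commute (h14_Y hπ XS (ng p) q u) (h14_Y hπ XS o q (t * u)) :=
      h14q_Y_comm L h4 hπ h (ng p) q o q u (t * u) (h14_n5 hop) (h14_n2 hoq) (h14_n5 hqp) (ne_ng q)
    have hκ : ∀ x : E, Commute ⁅h14_Y hπ XS o p t, h14_Y hπ XS o (ng p) u⁆ x := by
      apply hπ.commute_of_ker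
      rw [map_commutatorElement, h14q_map_Y L h4 hπ h, h14q_map_Y L h4 hπ h,
        commutatorElement_eq_one_iff_commute, h.anti p o t, h.anti (ng p) o u]
      exact h.comm2 p o (-t) (-u)
    have hc₀ : ∀ x : E, Commute ⁅h14_Y hπ XS p q t, h14_Y hπ XS (ng p) q u⁆ x := by
      apply hπ.commute_of_ker
      rw [map_commutatorElement, h14q_map_Y L h4 hπ h, h14q_map_Y L h4 hπ h,
        commutatorElement_eq_one_iff_commute]
      exact h.comm2 p q t u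
    have hk := h14_kappa hκ hc₀ hD hD' hAD hBD
    -- the left side is the conjugate of `κ` by `g`
    have hconj : ⁅h14_Y hπ XS p q t * h14_Y hπ XS o p t,
        h14_Y hπ XS (ng p) q u * h14_Y hπ XS o (ng p) u⁆ =
        ⁅h14_Y hπ XS o p t, h14_Y hπ XS o (ng p) u⁆ := by
      have e1 : h14_Y hπ XS p q t * h14_Y hπ XS o p t =
          h14_Y hπ XS (ng o) q 1 * h14_Y hπ XS o p t * (h14_Y hπ XS (ng o) q 1)⁻¹ := by
        rw [← hA, commutatorElement_def]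
        group
      have e2 : h14_Y hπ XS (ng p) q u * h14_Y hπ XS o (ng p) u =
          h14_Y hπ XS (ng o) q 1 * h14_Y hπ XS o (ng p) u * (h14_Y hπ XS (ng o) q 1)⁻¹ := by
        rw [← hB, commutatorElement_def]
        group
      rw [e1, e2, ← conj_commutator, ← (hκ (h14_Y hπ XS (ng o) q 1)).eq]
      group
    rw [hconj] at hk
    have h1 : ⁅h14_Y hπ XS p q t, h14_Y hπ XS (ng p) q u⁆ = 1 := by
      have := hk.symm
      exact mul_eq_left.mp this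
    exact (commutatorElement_eq_one_iff_commute.mp h1).eq

/-- the lifting theorem from the commutation property and four indices -/
theorem h14q_exists_of_LC (L : h14q_LC π XS) (h4 : 4 ≤ Fintype.card ι) (hπ : CExt π)
    (h : DStAB XS) :
    ∃ Y : ι ⊕ ι → ι ⊕ ι → K → E, (∀ a c t, π (Y a c t) = XS a c t) ∧ DStAB Y := by
  refine ⟨h14_Y hπ XS, h14q_map_Y L h4 hπ h, ?_⟩
  exact
    { anti := fun a c t => h14q_Y_anti L h4 hπ h a c t
      opp := fun a t => h14_Y_one hπ (h14_sp_ng a).symm t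
      diag := fun a t => h14_Y_one hπ rfl t
      add := h14q_Y_add L h4 hπ h
      comm := h14q_Y_comm L h4 hπ h
      comm2 := h14q_Y_comm2 L h4 hπ h
      a2 := fun a c e t u h1 h2 h3 h4' h5' h6 => by
        have := h14q_Y_a2 L h4 hπ h a c e t u ((h14_sp_ne_iff a c).mpr ⟨h1, h2⟩)
          ((h14_sp_ne_iff a e).mpr ⟨h3, h4'⟩) ((h14_sp_ne_iff c e).mpr ⟨h5', h6⟩)
        rw [commutatorElement_def] at this
        exact this }

omit [Fintype ι] [DecidableEq ι]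

/-! ### two orthogonal roots with disjoint supports: the central commutator -/

/-- the commutator of the lifts of `XS p q t` and `XS p2 q2 u` -/
noncomputable def h14q_C (hπ : CExt π) (XS : ι ⊕ ι → ι ⊕ ι → K → S) (p q p2 q2 : ι ⊕ ι) (t u : K) :
    E := ⁅lft hπ (XS p q t), lft hπ (XS p2 q2 u)⁆

theorem h14q_C_eq (hπ : CExt π) {p q p2 q2 : ι ⊕ ι} {t u : K} {x y : E}
    (hx : π x = XS p q t) (hy : π y = XS p2 q2 u) : ⁅x, y⁆ = h14q_C hπ XS p q p2 q2 t u := by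
  unfold h14q_C
  apply lift_comm_eq hπ
  · rw [hx, map_lft]
  · rw [hy, map_lft]

theorem h14q_C_central (hπ : CExt π) (h : DStAB XS) {p q p2 q2 : ι ⊕ ι}
    (hpp2 : h14_sp p ≠ h14_sp p2) (hpq2 : h14_sp p ≠ h14_sp q2) (hqp2 : h14_sp q ≠ h14_sp p2)
    (hqq2 : h14_sp q ≠ h14_sp q2) (t u : K) (z : E) :
    Commute (h14q_C hπ XS p q p2 q2 t u) z := by
  apply hπ.commute_of_ker
  unfold h14q_C
  rw [map_commutatorElement, map_lft, map_lft, commutatorElement_eq_one_iff_commute]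
  exact h.comm p q p2 q2 t u (h14_n2 hpp2.symm) (h14_n2 hqp2.symm) (h14_n2 hpq2.symm)
    (h14_n2 hqq2.symm)

theorem h14q_C_add_right (hπ : CExt π) (h : DStAB XS) {p q p2 q2 : ι ⊕ ι}
    (hpp2 : h14_sp p ≠ h14_sp p2) (hpq2 : h14_sp p ≠ h14_sp q2) (hqp2 : h14_sp q ≠ h14_sp p2)
    (hqq2 : h14_sp q ≠ h14_sp q2) (t u u' : K) :
    h14q_C hπ XS p q p2 q2 t (u + u') =
      h14q_C hπ XS p q p2 q2 t u * h14q_C hπ XS p q p2 q2 t u' := by
  set x := lft hπ (XS p q t) with hx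
  set y := lft hπ (XS p2 q2 u) with hy
  set y' := lft hπ (XS p2 q2 u') with hy'
  have hxm : π x = XS p q t := map_lft hπ _
  have h1 : π (y * y') = XS p2 q2 (u + u') := by
    rw [map_mul, hy, hy', map_lft, map_lft, h.add]
  rw [← h14q_C_eq hπ hxm h1, commutator_mul_right]
  have hc := h14q_C_central hπ h hpp2 hpq2 hqp2 hqq2 t u' y
  have e : y * ⁅x, y'⁆ * y⁻¹ = ⁅x, y'⁆ := by
    have : ⁅x, y'⁆ = h14q_C hπ XS p q p2 q2 t u' := rfl
    rw [this, ← hc.eq]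
    group
  rw [e]
  rfl

theorem h14q_C_add_left (hπ : CExt π) (h : DStAB XS) {p q p2 q2 : ι ⊕ ι}
    (hpp2 : h14_sp p ≠ h14_sp p2) (hpq2 : h14_sp p ≠ h14_sp q2) (hqp2 : h14_sp q ≠ h14_sp p2)
    (hqq2 : h14_sp q ≠ h14_sp q2) (t t' u : K) :
    h14q_C hπ XS p q p2 q2 (t + t') u =
      h14q_C hπ XS p q p2 q2 t u * h14q_C hπ XS p q p2 q2 t' u := by
  set x := lft hπ (XS p q t) with hx
  set x' := lft hπ (XS p q t') with hx'
  set y := lft hπ (XS p2 q2 u) with hy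
  have hym : π y = XS p2 q2 u := map_lft hπ _
  have h1 : π (x * x') = XS p q (t + t') := by
    rw [map_mul, hx, hx', map_lft, map_lft, h.add]
  rw [← h14q_C_eq hπ h1 hym, commutator_mul_left]
  have hc := h14q_C_central hπ h hpp2 hpq2 hqp2 hqq2 t' u x
  have hc2 := h14q_C_central hπ h hpp2 hpq2 hqp2 hqq2 t' u (h14q_C hπ XS p q p2 q2 t u)
  have e : x * ⁅x', y⁆ * x⁻¹ = ⁅x', y⁆ := by
    have : ⁅x', y⁆ = h14q_C hπ XS p q p2 q2 t' u := rfl
    rw [this, ← hc.eq]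
    group
  rw [e]
  exact hc2.eq

theorem h14q_C_zero_right (hπ : CExt π) (h : DStAB XS) {p q p2 q2 : ι ⊕ ι}
    (hpp2 : h14_sp p ≠ h14_sp p2) (hpq2 : h14_sp p ≠ h14_sp q2) (hqp2 : h14_sp q ≠ h14_sp p2)
    (hqq2 : h14_sp q ≠ h14_sp q2) (t : K) : h14q_C hπ XS p q p2 q2 t 0 = 1 := by
  have := h14q_C_add_right hπ h hpp2 hpq2 hqp2 hqq2 t 0 0
  rw [add_zero] at this
  exact mul_eq_left.mp this.symm

theorem h14q_C_neg_right (hπ : CExt π) (h : DStAB XS) {p q p2 q2 : ι ⊕ ι}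
    (hpp2 : h14_sp p ≠ h14_sp p2) (hpq2 : h14_sp p ≠ h14_sp q2) (hqp2 : h14_sp q ≠ h14_sp p2)
    (hqq2 : h14_sp q ≠ h14_sp q2) (t u : K) :
    h14q_C hπ XS p q p2 q2 t (-u) = (h14q_C hπ XS p q p2 q2 t u)⁻¹ := by
  rw [eq_inv_iff_mul_eq_one, ← h14q_C_add_right hπ h hpp2 hpq2 hqp2 hqq2, neg_add_cancel,
    h14q_C_zero_right hπ h hpp2 hpq2 hqp2 hqq2]

theorem h14q_C_zero_left (hπ : CExt π) (h : DStAB XS) {p q p2 q2 : ι ⊕ ι}
    (hpp2 : h14_sp p ≠ h14_sp p2) (hpq2 : h14_sp p ≠ h14_sp q2) (hqp2 : h14_sp q ≠ h14_sp p2)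
    (hqq2 : h14_sp q ≠ h14_sp q2) (u : K) : h14q_C hπ XS p q p2 q2 0 u = 1 := by
  have := h14q_C_add_left hπ h hpp2 hpq2 hqp2 hqq2 0 0 u
  rw [add_zero] at this
  exact mul_eq_left.mp this.symm

theorem h14q_C_neg_left (hπ : CExt π) (h : DStAB XS) {p q p2 q2 : ι ⊕ ι}
    (hpp2 : h14_sp p ≠ h14_sp p2) (hpq2 : h14_sp p ≠ h14_sp q2) (hqp2 : h14_sp q ≠ h14_sp p2)
    (hqq2 : h14_sp q ≠ h14_sp q2) (t u : K) :
    h14q_C hπ XS p q p2 q2 (-t) u = (h14q_C hπ XS p q p2 q2 t u)⁻¹ := by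
  rw [eq_inv_iff_mul_eq_one, ← h14q_C_add_left hπ h hpp2 hpq2 hqp2 hqq2, neg_add_cancel,
    h14q_C_zero_left hπ h hpp2 hpq2 hqp2 hqq2]

/-- first decomposition: `X p q2 (t₁ t₂) = [X p q t₁, X q' q2 t₂]` conjugated by a lift of
`X q p2 u` -/
theorem h14q_claimA (hπ : CExt π) (h : DStAB XS) {p q p2 q2 : ι ⊕ ι}
    (hpq : h14_sp p ≠ h14_sp q) (hpp2 : h14_sp p ≠ h14_sp p2) (hpq2 : h14_sp p ≠ h14_sp q2)
    (hqp2 : h14_sp q ≠ h14_sp p2) (hqq2 : h14_sp q ≠ h14_sp q2) (hp2q2 : h14_sp p2 ≠ h14_sp q2)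
    (t₁ t₂ u : K) :
    h14q_C hπ XS p q2 q p2 (t₁ * t₂) u = h14q_C hπ XS p q p2 q2 t₁ (u * t₂) := by
  set xa := lft hπ (XS p q t₁) with hxa'
  set xb := lft hπ (XS (ng q) q2 t₂) with hxb'
  set y := lft hπ (XS q p2 u) with hy'
  have hxa : π xa = XS p q t₁ := map_lft hπ _
  have hxb : π xb = XS (ng q) q2 t₂ := map_lft hπ _
  have hy : π y = XS q p2 u := map_lft hπ _
  have hP : π ⁅xa, xb⁆ = XS p q2 (t₁ * t₂) := h14_map_comm h hpq2 hpq hqq2.symm hxa hxb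
  have hy2 : π y = XS p2 q (-u) := by rw [hy, h.anti p2 q u]
  have hz : π ⁅y, xb⁆ = XS p2 q2 (-u * t₂) := h14_map_comm h hp2q2 hqp2.symm hqq2.symm hy2 hxb
  have hyxa : Commute y xa :=
    h14q_lc_of_fresh hπ h (f := q2) hqp2 (h14_n2 hpq) (h14_n2 hpp2) (ne_ng q) (h14_n2 hqp2)
      hqq2 hp2q2 hpq2 hqq2 hy hxa
  have e1 : y * xa * y⁻¹ = xa := by
    rw [hyxa.eq]
    group
  have e2 : y * xb * y⁻¹ = ⁅y, xb⁆ * xb := by
    rw [commutatorElement_def]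
    group
  have e3 : y * ⁅xa, xb⁆ * y⁻¹ = ⁅xa, ⁅y, xb⁆ * xb⁆ := by rw [conj_commutator, e1, e2]
  rw [commutator_mul_right] at e3
  have e4 : ⁅xa, ⁅y, xb⁆⁆ = h14q_C hπ XS p q p2 q2 t₁ (-u * t₂) := h14q_C_eq hπ hxa hz
  have hzP : Commute ⁅y, xb⁆ ⁅xa, xb⁆ :=
    h14q_lc_of_fresh hπ h (f := q) hp2q2 (h14_n2 hpp2) (h14_n2 hpq2) (h14_n2 hp2q2.symm)
      (ne_ng q2) hqp2.symm hqq2.symm hpq hqq2.symm hz hP
  have e5 : ⁅y, xb⁆ * ⁅xa, xb⁆ * ⁅y, xb⁆⁻¹ = ⁅xa, xb⁆ := by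
    rw [hzP.eq]
    group
  rw [e4, e5] at e3
  have e6 : h14q_C hπ XS p q2 q p2 (t₁ * t₂) u = ⁅⁅xa, xb⁆, y⁆ := (h14q_C_eq hπ hP hy).symm
  have e7 : ⁅⁅xa, xb⁆, y⁆ = (y * ⁅xa, xb⁆ * y⁻¹ * ⁅xa, xb⁆⁻¹)⁻¹ := by
    rw [commutatorElement_def]
    group
  rw [e6, e7, e3, mul_inv_cancel_right, neg_mul,
    h14q_C_neg_right hπ h hpp2 hpq2 hqp2 hqq2, inv_inv]

/-- second decomposition: `X p q2 (t₁ t₂) = [X p p2' t₁, X p2 q2 t₂]` conjugated by a lift of
`X q p2 u` -/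
theorem h14q_claimB (hπ : CExt π) (h : DStAB XS) {p q p2 q2 : ι ⊕ ι}
    (hpq : h14_sp p ≠ h14_sp q) (hpp2 : h14_sp p ≠ h14_sp p2) (hpq2 : h14_sp p ≠ h14_sp q2)
    (hqp2 : h14_sp q ≠ h14_sp p2) (hqq2 : h14_sp q ≠ h14_sp q2) (hp2q2 : h14_sp p2 ≠ h14_sp q2)
    (t₁ t₂ u : K) :
    (h14q_C hπ XS p q2 q p2 (t₁ * t₂) u)⁻¹ = h14q_C hπ XS p q p2 q2 (t₁ * u) t₂ := by
  set xa := lft hπ (XS p (ng p2) t₁) with hxa'
  set xb := lft hπ (XS p2 q2 t₂) with hxb'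
  set y := lft hπ (XS q p2 u) with hy'
  have hxa : π xa = XS p (ng p2) t₁ := map_lft hπ _
  have hxb : π xb = XS p2 q2 t₂ := map_lft hπ _
  have hxb2 : π xb = XS (ng (ng p2)) q2 t₂ := by rw [hxb, ng_ng]
  have hy : π y = XS q p2 u := map_lft hπ _
  have hpn : h14_sp p ≠ h14_sp (ng p2) := by rw [h14_sp_ng]; exact hpp2
  have hqn : h14_sp q ≠ h14_sp (ng p2) := by rw [h14_sp_ng]; exact hqp2
  have hq2n : h14_sp q2 ≠ h14_sp (ng p2) := by rw [h14_sp_ng]; exact hp2q2.symm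
  have hP : π ⁅xa, xb⁆ = XS p q2 (t₁ * t₂) := h14_map_comm h hpq2 hpn hq2n hxa hxb2
  -- `⁅xa, y⁆` lifts `X p q (-(t₁ u))`
  have hy2 : π y = XS (ng (ng p2)) q (-u) := by rw [hy, ng_ng, h.anti p2 q u]
  have hz0 : π ⁅xa, y⁆ = XS p q (t₁ * -u) := h14_map_comm h hpq hpn hqn hxa hy2
  have hz : π ⁅y, xa⁆ = XS p q (t₁ * u) := by
    rw [← commutatorElement_inv, map_inv, hz0, h.X_inv, mul_neg, neg_neg]
  have hyxb : Commute y xb :=
    h14q_lc_of_fresh hπ h (f := p) hqp2 (h14_n2 hqp2.symm) (ne_ng p2) (h14_n2 hqq2.symm)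
      (h14_n2 hp2q2.symm) hpq.symm hpp2.symm hpp2.symm hpq2.symm hy hxb
  have e1 : y * xb * y⁻¹ = xb := by
    rw [hyxb.eq]
    group
  have e2 : y * xa * y⁻¹ = ⁅y, xa⁆ * xa := by
    rw [commutatorElement_def]
    group
  have e3 : y * ⁅xa, xb⁆ * y⁻¹ = ⁅⁅y, xa⁆ * xa, xb⁆ := by rw [conj_commutator, e1, e2]
  rw [commutator_mul_left] at e3
  have e4 : ⁅⁅y, xa⁆, xb⁆ = h14q_C hπ XS p q p2 q2 (t₁ * u) t₂ := h14q_C_eq hπ hz hxb
  have hzP : Commute ⁅y, xa⁆ ⁅xa, xb⁆ :=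
    h14q_lc_of_fresh hπ h (f := p2) hpq (ne_ng p) (h14_n2 hpq) (h14_n2 hpq2.symm)
      (h14_n2 hqq2.symm) hpp2 hqp2 hpp2 hp2q2.symm hz hP
  have e5 : ⁅y, xa⁆ * ⁅xa, xb⁆ * ⁅y, xa⁆⁻¹ = ⁅xa, xb⁆ := by
    rw [hzP.eq]
    group
  rw [e4, e5] at e3
  have e6 : h14q_C hπ XS p q2 q p2 (t₁ * t₂) u = ⁅⁅xa, xb⁆, y⁆ := (h14q_C_eq hπ hP hy).symm
  have e7 : (⁅⁅xa, xb⁆, y⁆)⁻¹ = y * ⁅xa, xb⁆ * y⁻¹ * ⁅xa, xb⁆⁻¹ := by
    rw [commutatorElement_def]
    group
  have hcc := (h14q_C_central hπ h hpp2 hpq2 hqp2 hqq2 (t₁ * u) t₂ ⁅xa, xb⁆).eq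
  rw [e6, e7, e3, ← hcc, mul_inv_cancel_right]

/-- in characteristic `≠ 2`, lifts of root elements with four distinct supports commute -/
theorem h14q_four_odd (h2 : (2 : K) ≠ 0) (hπ : CExt π) (h : DStAB XS) {p q p2 q2 : ι ⊕ ι}
    (hpq : h14_sp p ≠ h14_sp q) (hpp2 : h14_sp p ≠ h14_sp p2) (hpq2 : h14_sp p ≠ h14_sp q2)
    (hqp2 : h14_sp q ≠ h14_sp p2) (hqq2 : h14_sp q ≠ h14_sp q2) (hp2q2 : h14_sp p2 ≠ h14_sp q2)
    {x y : E} {t u : K} (hx : π x = XS p q t) (hy : π y = XS p2 q2 u) : Commute x y := by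
  have A := h14q_claimA hπ h hpq hpp2 hpq2 hqp2 hqq2 hp2q2
  have B := h14q_claimB hπ h hpq hpp2 hpq2 hqp2 hqq2 hp2q2
  -- `C t u = C 1 (u t)`
  have h1 : ∀ t u : K, h14q_C hπ XS p q p2 q2 t u = h14q_C hπ XS p q p2 q2 1 (u * t) := by
    intro t u
    have a1 := A t 1 u
    have a2 := A 1 t u
    simp only [one_mul, mul_one] at a1 a2
    rw [← a1, a2]
  -- `(C 1 v)⁻¹ = C 1 v`
  have h3 : ∀ v : K, (h14q_C hπ XS p q p2 q2 1 v)⁻¹ = h14q_C hπ XS p q p2 q2 1 v := by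
    intro v
    have a2 := A 1 v 1
    have b1 := B v 1 1
    simp only [one_mul, mul_one] at a2 b1
    rw [a2] at b1
    rw [b1, h1 v 1, one_mul]
  have h4 : ∀ v : K, h14q_C hπ XS p q p2 q2 1 (v + v) = 1 := by
    intro v
    rw [h14q_C_add_right hπ h hpp2 hpq2 hqp2 hqq2]
    nth_rewrite 1 [← h3 v]
    exact inv_mul_cancel _
  have h5 : h14q_C hπ XS p q p2 q2 t u = 1 := by
    rw [h1 t u]
    have : u * t = u * t / 2 + u * t / 2 := by field_simp; ring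
    rw [this]
    exact h4 _
  have h6 : ⁅x, y⁆ = 1 := by rw [h14q_C_eq hπ hx hy, h5]
  exact commutatorElement_eq_one_iff_commute.mp h6

/-- the torus argument: if some `s ≠ 0` has `s * s ≠ 1` and the torus elements `HD XS p q s` act on the
root elements by the characters `chD`, lifts of root elements with four distinct supports commute -/
theorem h14q_four_torus [DecidableEq ι] (hs : ∃ s : K, s ≠ 0 ∧ s * s ≠ 1) (hπ : CExt π)
    (h : DStAB XS)
    (hd : ∀ a c : ι ⊕ ι, c ≠ a → c ≠ ng a → ∀ s : K, s ≠ 0 → ∀ (d e : ι ⊕ ι) (u : K),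
      HD XS a c s * XS d e u * (HD XS a c s)⁻¹ = XS d e (chD a c s d * chD a c s e * u))
    {p q p2 q2 : ι ⊕ ι}
    (hpq : h14_sp p ≠ h14_sp q) (hpp2 : h14_sp p ≠ h14_sp p2) (hpq2 : h14_sp p ≠ h14_sp q2)
    (hqp2 : h14_sp q ≠ h14_sp p2) (hqq2 : h14_sp q ≠ h14_sp q2) (hp2q2 : h14_sp p2 ≠ h14_sp q2)
    {x y : E} {t u : K} (hx : π x = XS p q t) (hy : π y = XS p2 q2 u) : Commute x y := by
  obtain ⟨s, hs0, hs1⟩ := hs
  set k := lft hπ (HD XS p q s) with hk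
  have hkm : π k = HD XS p q s := map_lft hπ _
  have hinv : ∀ t' u' : K, h14q_C hπ XS p q p2 q2 (s * s * t') u' = h14q_C hπ XS p q p2 q2 t' u' := by
    intro t' u'
    set x' := lft hπ (XS p q t') with hx'
    set y' := lft hπ (XS p2 q2 u') with hy'
    have e1 : π (k * x' * k⁻¹) = XS p q (s * s * t') := by
      rw [map_mul, map_mul, map_inv, hkm, hx', map_lft,
        hd p q (h14_n1 hpq.symm) (h14_n2 hpq.symm) s hs0 p q t']
      congr 1
      have c1 : chD p q s p = s := by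
        unfold chD
        rw [if_pos (Or.inl rfl)]
      have c2 : chD p q s q = s := by
        unfold chD
        rw [if_pos (Or.inr rfl)]
      rw [c1, c2]
    have e2 : π (k * y' * k⁻¹) = XS p2 q2 u' := by
      rw [map_mul, map_mul, map_inv, hkm, hy', map_lft,
        hd p q (h14_n1 hpq.symm) (h14_n2 hpq.symm) s hs0 p2 q2 u']
      congr 1
      have c1 : chD p q s p2 = 1 := by
        unfold chD
        rw [if_neg, if_neg]
        · rintro (h' | h')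
          · exact h14_n2 hpp2.symm h'
          · exact h14_n2 hqp2.symm h'
        · rintro (h' | h')
          · exact h14_n1 hpp2.symm h'
          · exact h14_n1 hqp2.symm h'
      have c2 : chD p q s q2 = 1 := by
        unfold chD
        rw [if_neg, if_neg]
        · rintro (h' | h')
          · exact h14_n2 hpq2.symm h'
          · exact h14_n2 hqq2.symm h'
        · rintro (h' | h')
          · exact h14_n1 hpq2.symm h'
          · exact h14_n1 hqq2.symm h'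
      rw [c1, c2, one_mul, one_mul]
    have e3 : k * ⁅x', y'⁆ * k⁻¹ = h14q_C hπ XS p q p2 q2 (s * s * t') u' := by
      rw [conj_commutator]
      exact h14q_C_eq hπ e1 e2
    have e4 : k * ⁅x', y'⁆ * k⁻¹ = ⁅x', y'⁆ := by
      have hc := (h14q_C_central hπ h hpp2 hpq2 hqp2 hqq2 t' u' k).eq
      have : ⁅x', y'⁆ = h14q_C hπ XS p q p2 q2 t' u' := rfl
      rw [this, ← hc]
      group
    rw [← e3, e4]
    rfl
  have hone : ∀ t' u' : K, h14q_C hπ XS p q p2 q2 ((s * s - 1) * t') u' = 1 := by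
    intro t' u'
    have e : (s * s - 1) * t' = s * s * t' + -t' := by ring
    rw [e, h14q_C_add_left hπ h hpp2 hpq2 hqp2 hqq2, hinv,
      h14q_C_neg_left hπ h hpp2 hpq2 hqp2 hqq2, mul_inv_cancel]
  have hne : s * s - 1 ≠ 0 := sub_ne_zero.mpr hs1
  have h5 : h14q_C hπ XS p q p2 q2 t u = 1 := by
    have := hone (t / (s * s - 1)) u
    rwa [mul_div_cancel₀ _ hne] at this
  have h6 : ⁅x, y⁆ = 1 := by rw [h14q_C_eq hπ hx hy, h5]
  exact commutatorElement_eq_one_iff_commute.mp h6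

variable [Fintype ι] [DecidableEq ι]

/-- the commutation property from the four-support case -/
theorem h14q_LC_of_four (h4 : 4 ≤ Fintype.card ι) (hπ : CExt π) (h : DStAB XS)
    (hfour : ∀ (p q p2 q2 : ι ⊕ ι) (x y : E) (t u : K), h14_sp p ≠ h14_sp q →
      h14_sp p ≠ h14_sp p2 → h14_sp p ≠ h14_sp q2 → h14_sp q ≠ h14_sp p2 → h14_sp q ≠ h14_sp q2 →
      h14_sp p2 ≠ h14_sp q2 → π x = XS p q t → π y = XS p2 q2 u → Commute x y) :
    h14q_LC π XS := by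
  intro a c d e x y t u hac h1 h2 h3 h4' hx hy
  by_cases hde : h14_sp d = h14_sp e
  · have : π y = 1 := by rw [hy, h14_XS_one h hde]
    exact (hπ.commute_of_ker this x).symm
  by_cases hda : h14_sp d = h14_sp a
  · obtain ⟨f, hfa, hfc, hfe⟩ := h14_fresh3 h4 a c e
    exact h14q_lc_of_fresh hπ h hac h1 h2 h3 h4' hfa hfc (hda ▸ hfa) hfe hx hy
  by_cases hdc : h14_sp d = h14_sp c
  · obtain ⟨f, hfa, hfc, hfe⟩ := h14_fresh3 h4 a c e
    exact h14q_lc_of_fresh hπ h hac h1 h2 h3 h4' hfa hfc (hdc ▸ hfc) hfe hx hy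
  by_cases hea : h14_sp e = h14_sp a
  · obtain ⟨f, hfa, hfc, hfd⟩ := h14_fresh3 h4 a c d
    exact h14q_lc_of_fresh hπ h hac h1 h2 h3 h4' hfa hfc hfd (hea ▸ hfa) hx hy
  by_cases hec : h14_sp e = h14_sp c
  · obtain ⟨f, hfa, hfc, hfd⟩ := h14_fresh3 h4 a c d
    exact h14q_lc_of_fresh hπ h hac h1 h2 h3 h4' hfa hfc hfd (hec ▸ hfc) hx hy
  exact hfour a c d e x y t u hac (fun H => hda H.symm) (fun H => hea H.symm)
    (fun H => hdc H.symm) (fun H => hec H.symm) hde hx hy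

end h14q_stein

/-! ## The lifting theorems for four indices -/

/-- characteristic `≠ 2`, four indices, any field: no torus, no rank one relations -/
theorem exists_dStAB_lift_four_odd {K : Type*} [Field K] {ι : Type*} [Fintype ι] [DecidableEq ι]
    (h4 : 4 ≤ Fintype.card ι) (h2 : (2 : K) ≠ 0) {E S : Type*} [Group E] [Group S] {π : E →* S}
    (hπ : CExt π) {XS : ι ⊕ ι → ι ⊕ ι → K → S} (h : DStAB XS) :
    ∃ Y : ι ⊕ ι → ι ⊕ ι → K → E, (∀ a c t, π (Y a c t) = XS a c t) ∧ DStAB Y :=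
  h14q_exists_of_LC (h14q_LC_of_four h4 hπ h
    (fun p q p2 q2 x y t u hpq hpp2 hpq2 hqp2 hqq2 hp2q2 hx hy =>
      h14q_four_odd h2 hπ h hpq hpp2 hpq2 hqp2 hqq2 hp2q2 hx hy)) h4 hπ h

/-- four indices, a field with some `s ≠ 0`, `s * s ≠ 1` (i.e. more than three elements), and the torus
calculus `WCalcD.hd_conj` -/
theorem exists_dStAB_lift_four_torus {K : Type*} [Field K] {ι : Type*} [Fintype ι] [DecidableEq ι]
    (h4 : 4 ≤ Fintype.card ι) (hs : ∃ s : K, s ≠ 0 ∧ s * s ≠ 1) {E S : Type*} [Group E] [Group S]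
    {π : E →* S} (hπ : CExt π) {XS : ι ⊕ ι → ι ⊕ ι → K → S} (h : DStAB XS) (C : WCalcD XS) :
    ∃ Y : ι ⊕ ι → ι ⊕ ι → K → E, (∀ a c t, π (Y a c t) = XS a c t) ∧ DStAB Y :=
  h14q_exists_of_LC (h14q_LC_of_four h4 hπ h
    (fun p q p2 q2 x y t u hpq hpp2 hpq2 hqp2 hqq2 hp2q2 hx hy =>
      h14q_four_torus hs hπ h C.hd_conj hpq hpp2 hpq2 hqp2 hqq2 hp2q2 hx hy)) h4 hπ h

/-- four indices, every finite field with at least three elements -/
theorem exists_dStAB_lift_four {K : Type*} [Field K] [Fintype K] {ι : Type*} [Fintype ι]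
    [DecidableEq ι] (h4 : 4 ≤ Fintype.card ι) (hq : 3 ≤ Fintype.card K) {E S : Type*} [Group E]
    [Group S] {π : E →* S} (hπ : CExt π) {XS : ι ⊕ ι → ι ⊕ ι → K → S} (h : DStAB XS)
    (C : WCalcD XS) :
    ∃ Y : ι ⊕ ι → ι ⊕ ι → K → E, (∀ a c t, π (Y a c t) = XS a c t) ∧ DStAB Y := by
  classical
  by_cases h2 : (2 : K) = 0
  · -- characteristic two, at least four elements: some `s ≠ 0, 1`, and then `s * s ≠ 1`
    have hex : ∃ s : K, s ≠ 0 ∧ s ≠ 1 := by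
      by_contra hcon
      push Not at hcon
      have hsub : (Finset.univ : Finset K) ⊆ {0, 1} := by
        intro s _
        by_cases hs0 : s = 0
        · simp [hs0]
        · simp [hcon s hs0]
      have := Finset.card_le_card hsub
      have h2' : ({0, 1} : Finset K).card ≤ 2 := Finset.card_le_two
      rw [Finset.card_univ] at this
      omega
    obtain ⟨s, hs0, hs1⟩ := hex
    refine exists_dStAB_lift_four_torus h4 ⟨s, hs0, ?_⟩ hπ h C
    intro hss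
    have h1 : (s - 1) * (s - 1) = 0 := by
      have e : (s - 1) * (s - 1) = s * s - 2 * s + 1 := by ring
      rw [e, hss, h2, zero_mul, sub_zero]
      have : (1 : K) + 1 = 2 := one_add_one_eq_two
      rw [this, h2]
    have h3 : s - 1 = 0 := by
      rcases mul_eq_zero.mp h1 with h' | h' <;> exact h'
    exact hs1 (sub_eq_zero.mp h3)
  · exact exists_dStAB_lift_four_odd h4 h2 hπ h

end Cfsg.Agent.Lib.Helper66_S96
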