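import Mathlib
import Cfsg.Prelude.Def_Classical
import Cfsg.Agent.Lib.Helper66_S96Defs

set_option autoImplicit false

/-!
The model of the Steinberg relations of type `D` inside `Ω⁺_{2l}(F) = Cfsg.Omega F (Cfsg.quadFormPlus l F)`
(helper66, S2096 / S2097): the matrix of an element, the action on vectors, and the root elements
`XO l F a c t` with matrix `XMatD a c t` (for `3 ≤ l`, package `D_MODEL_A`).
-/

namespace Cfsg.Agent.Lib.Helper66_S96

open Cfsg.Agent.Lib.Helper66_S92

variable (l : ℕ) (F : Type*) [Field F]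

/-- `Ω⁺_{2l}(F)` as a type -/
abbrev OmP : Type _ := ↥(Cfsg.Omega F (Cfsg.quadFormPlus l F))

/-- the matrix of an element of `Ω⁺_{2l}(F)` -/
def toMatO : OmP l F →* Matrix (Fin l ⊕ Fin l) (Fin l ⊕ Fin l) F :=
  ((Units.coeHom (Matrix (Fin l ⊕ Fin l) (Fin l ⊕ Fin l) F)).comp
    (Cfsg.isometryGroup F (Cfsg.quadFormPlus l F)).subtype).comp
      (Cfsg.Omega F (Cfsg.quadFormPlus l F)).subtype

theorem toMatO_apply (g : OmP l F) :
    toMatO l F g = ((g : ↥(Cfsg.isometryGroup F (Cfsg.quadFormPlus l F))) :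
      Matrix.GeneralLinearGroup (Fin l ⊕ Fin l) F).1 := rfl

theorem toMatO_injective : Function.Injective (toMatO l F) := by
  intro g h hgh
  apply Subtype.ext
  apply Subtype.ext
  apply Units.ext
  exact hgh

/-- the action of `Ω⁺_{2l}(F)` on vectors -/
noncomputable def actO : OmP l F →* Module.End F (Fin l ⊕ Fin l → F) where
  toFun g := Matrix.toLin' (toMatO l F g)
  map_one' := by
    rw [map_one, Matrix.toLin'_one]
    rfl
  map_mul' g h := by
    rw [map_mul, Matrix.toLin'_mul]
    rfl

theorem actO_apply (g : OmP l F) (v : Fin l ⊕ Fin l → F) :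
    actO l F g v = Matrix.mulVec (toMatO l F g) v := rfl

theorem actO_injective : Function.Injective (actO l F) := by
  intro g h hgh
  apply toMatO_injective
  have : Matrix.toLin' (toMatO l F g) = Matrix.toLin' (toMatO l F h) := hgh
  exact Matrix.toLin'.injective this

open Classical in
/-- the root elements in `Ω⁺_{2l}(F)` (the matrix `XMatD a c t` lies in `Ω⁺` for `3 ≤ l`) -/
noncomputable def XO (a c : Fin l ⊕ Fin l) (t : F) : OmP l F :=
  if h : ∃ g : OmP l F, toMatO l F g = XMatD a c t then h.choose else 1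

theorem XO_coe_of_exists (a c : Fin l ⊕ Fin l) (t : F)
    (h : ∃ g : OmP l F, toMatO l F g = XMatD a c t) : toMatO l F (XO l F a c t) = XMatD a c t := by
  unfold XO
  rw [dif_pos h]
  exact h.choose_spec

/-- a Clifford system for the hyperbolic form on `K^(ι ⊕ ι)`: `e a` is the image of `b_a` -/
structure IsCliffSys {ι : Type*} {A : Type*} [Ring A] (e : ι ⊕ ι → A) : Prop where
  sq : ∀ a, e a * e a = 0
  anti : ∀ a c, c ≠ ng a → e a * e c = -(e c * e a)
  opp : ∀ a, e a * e (ng a) + e (ng a) * e a = 1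

end Cfsg.Agent.Lib.Helper66_S96
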