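import Mathlib
import Cfsg.Agent.Lib.Helper66_S92Defs

set_option autoImplicit false
set_option linter.unusedSectionVars false

/-!
Basic calculus for a family of root elements of type `C` (helper66): conjugation forms of the
commutator relations, and membership of the root elements in the subgroups of the vector stabiliser
argument.
-/

namespace Cfsg.Agent.Lib.Helper66_S92

variable {ι : Type*} {K : Type*} [Field K] {G : Type*} [Group G]
  {X : ι ⊕ ι → ι ⊕ ι → K → G}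

namespace CStAB

variable (h : CStAB X)
include h

theorem X_zero (a c : ι ⊕ ι) : X a c 0 = 1 := by
  have := h.add a c 0 0
  rw [add_zero] at this
  exact mul_eq_left.mp this

theorem X_inv (a c : ι ⊕ ι) (t : K) : (X a c t)⁻¹ = X a c (-t) := by
  rw [inv_eq_iff_mul_eq_one, h.add, add_neg_cancel, h.X_zero]

theorem X_mul_neg (a c : ι ⊕ ι) (t : K) : X a c t * X a c (-t) = 1 := by
  rw [h.add, add_neg_cancel, h.X_zero]

theorem X_neg_mul (a c : ι ⊕ ι) (t : K) : X a c (-t) * X a c t = 1 := by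
  rw [h.add, neg_add_cancel, h.X_zero]

theorem opp' (a : ι ⊕ ι) (t : K) : X (ng a) a t = 1 := by
  rw [h.symm, h.opp]

theorem cj_comm (a c d e : ι ⊕ ι) (t u : K) (h1 : d ≠ ng a) (h2 : d ≠ ng c)
    (h3 : e ≠ ng a) (h4 : e ≠ ng c) : X a c t * X d e u * (X a c t)⁻¹ = X d e u := by
  rw [h.comm a c d e t u h1 h2 h3 h4, mul_inv_cancel_right]

theorem cj_a2 (a c e : ι ⊕ ι) (t u : K) (h1 : a ≠ c) (h2 : a ≠ ng c) (h3 : a ≠ e)
    (h4 : a ≠ ng e) (h5 : c ≠ e) (h6 : c ≠ ng e) :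
    X a c t * X (ng c) e u * (X a c t)⁻¹ = X a e (-(om K c * t * u)) * X (ng c) e u := by
  rw [← h.a2 a c e t u h1 h2 h3 h4 h5 h6]
  group

theorem cj_a2' (a c e : ι ⊕ ι) (t u : K) (h1 : a ≠ c) (h2 : a ≠ ng c) (h3 : a ≠ e)
    (h4 : a ≠ ng e) (h5 : c ≠ e) (h6 : c ≠ ng e) :
    X (ng c) e u * X a c t * (X (ng c) e u)⁻¹ = X a e (om K c * t * u) * X a c t := by
  have e1 : X a e (om K c * t * u) = (X a e (-(om K c * t * u)))⁻¹ := by
    rw [h.X_inv, neg_neg]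
  rw [e1, ← h.a2 a c e t u h1 h2 h3 h4 h5 h6]
  group

theorem cj_ssl (a c : ι ⊕ ι) (t u : K) (h1 : a ≠ c) (h2 : a ≠ ng c) :
    X a c t * X (ng c) a u * (X a c t)⁻¹ = X a a (-(2 * om K c * t * u)) * X (ng c) a u := by
  rw [← h.ssl a c t u h1 h2]
  group

theorem cj_ssl' (a c : ι ⊕ ι) (t u : K) (h1 : a ≠ c) (h2 : a ≠ ng c) :
    X (ng c) a u * X a c t * (X (ng c) a u)⁻¹ = X a a (2 * om K c * t * u) * X a c t := by
  have e1 : X a a (2 * om K c * t * u) = (X a a (-(2 * om K c * t * u)))⁻¹ := by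
    rw [h.X_inv, neg_neg]
  rw [e1, ← h.ssl a c t u h1 h2]
  group

theorem cj_ls (a e : ι ⊕ ι) (t u : K) (h1 : e ≠ a) (h2 : e ≠ ng a) :
    X a a t * X (ng a) e u * (X a a t)⁻¹ =
      X a e (-(om K a * t * u)) * X e e (-(t * u ^ 2)) * X (ng a) e u := by
  rw [← h.ls a e t u h1 h2]
  group

theorem cj_ls' (a e : ι ⊕ ι) (t u : K) (h1 : e ≠ a) (h2 : e ≠ ng a) :
    X (ng a) e u * X a a t * (X (ng a) e u)⁻¹ =
      X a e (om K a * t * u) * X e e (t * u ^ 2) * X a a t := by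
  have hc : X a e (om K a * t * u) * X e e (t * u ^ 2) =
      X e e (t * u ^ 2) * X a e (om K a * t * u) :=
    h.comm a e e e _ _ (fun h' => h2 h') (ne_ng e) (fun h' => h2 h') (ne_ng e)
  have e1 : X a e (om K a * t * u) = (X a e (-(om K a * t * u)))⁻¹ := by
    rw [h.X_inv, neg_neg]
  have e2 : X e e (t * u ^ 2) = (X e e (-(t * u ^ 2)))⁻¹ := by
    rw [h.X_inv, neg_neg]
  have e3 : X a e (om K a * t * u) * X e e (t * u ^ 2) =
      (X a a t * X (ng a) e u * (X a a t)⁻¹ * (X (ng a) e u)⁻¹)⁻¹ := by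
    rw [hc, h.ls a e t u h1 h2, mul_inv_rev, ← e1, ← e2]
  rw [e3]
  group

/-! ### membership -/

theorem X_mem_Qs (j c : ι ⊕ ι) (t : K) : X j c t ∈ Qs X j := by
  by_cases hc : c = ng j
  · subst hc
    rw [h.opp]
    exact one_mem _
  · exact Subgroup.subset_closure ⟨c, t, hc, rfl⟩

theorem X_mem_Qs' (j c : ι ⊕ ι) (t : K) : X c j t ∈ Qs X j := by
  rw [h.symm]
  exact h.X_mem_Qs j c t

omit h in
theorem X_mem_Gs (o a c : ι ⊕ ι) (t : K) (ha : a ≠ ng o) (hc : c ≠ ng o) : X a c t ∈ Gs X o :=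
  Subgroup.subset_closure ⟨a, c, t, ha, hc, rfl⟩

omit h in
theorem X_mem_Ls (o a c : ι ⊕ ι) (t : K) (ha : a ≠ o) (ha' : a ≠ ng o) (hc : c ≠ o)
    (hc' : c ≠ ng o) : X a c t ∈ Ls X o :=
  Subgroup.subset_closure ⟨a, c, t, ha, ha', hc, hc', rfl⟩

omit h in
theorem Ls_le_Gs (o : ι ⊕ ι) : Ls X o ≤ Gs X o := by
  unfold Ls
  rw [Subgroup.closure_le]
  rintro _ ⟨a, c, t, -, ha', -, hc', rfl⟩
  exact X_mem_Gs o a c t ha' hc'

theorem Qs_le_Gs (o : ι ⊕ ι) : Qs X o ≤ Gs X o := by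
  unfold Qs
  rw [Subgroup.closure_le]
  rintro _ ⟨c, t, hc, rfl⟩
  exact X_mem_Gs o o c t (ne_ng o) hc

end CStAB

end Cfsg.Agent.Lib.Helper66_S92
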