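import Mathlib
import Cfsg.Agent.Lib.Helper5_SteinbergA

namespace Cfsg.Agent.Lib.Helper5_SteinbergA

variable {K : Type*} [Field K] {G : Type*} [Group G] {X : Bool → K → G}

/-- the torus element -/
def hh (X : Bool → K → G) (t : K) : G := W X true t * (W X true 1)⁻¹

/-- generation hypothesis -/
def Gen (X : Bool → K → G) : Prop :=
  Subgroup.closure (Set.range fun p : Bool × K => X p.1 p.2) = ⊤

namespace Rel

theorem hh_one (_h : Rel X) : hh X 1 = 1 := by
  unfold hh; group

theorem hh_conj_x (h : Rel X) {t : K} (ht : t ≠ 0) (u : K) :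
    hh X t * X true u * (hh X t)⁻¹ = X true (t ^ 2 * u) := by
  have h1 : hh X t * X true u * (hh X t)⁻¹ =
      W X true t * ((W X true 1)⁻¹ * X true u * ((W X true 1)⁻¹)⁻¹) * (W X true t)⁻¹ := by
    unfold hh; group
  rw [h1, h.W_inv, h.conjW_t (by simp), h.conjW_f ht]
  congr 1
  simp

theorem hh_conj_y (h : Rel X) {t : K} (ht : t ≠ 0) (u : K) :
    hh X t * X false u * (hh X t)⁻¹ = X false (t⁻¹ ^ 2 * u) := by
  have h1 : hh X t * X false u * (hh X t)⁻¹ =
      W X true t * ((W X true 1)⁻¹ * X false u * ((W X true 1)⁻¹)⁻¹) * (W X true t)⁻¹ := by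
    unfold hh; group
  rw [h1, h.W_inv, h.conjW_f (by simp), h.conjW_t ht]
  congr 1
  simp

theorem hh_conj_w (h : Rel X) {t : K} (ht : t ≠ 0) {u : K} (hu : u ≠ 0) :
    hh X t * W X true u * (hh X t)⁻¹ = W X true (t ^ 2 * u) := by
  have h2 : hh X t * W X true u * (hh X t)⁻¹ =
      (hh X t * X true u * (hh X t)⁻¹) * (hh X t * X (!true) (-u⁻¹) * (hh X t)⁻¹) *
        (hh X t * X true u * (hh X t)⁻¹) := by
    conv_lhs => arg 1; arg 2; unfold W
    group
  rw [h2, h.hh_conj_x ht]
  simp only [Bool.not_true]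
  rw [h.hh_conj_y ht]
  unfold W
  simp only [Bool.not_true]
  congr 3
  field_simp

theorem hh_conj_hh (h : Rel X) {t : K} (ht : t ≠ 0) {u : K} (hu : u ≠ 0) :
    hh X t * hh X u * (hh X t)⁻¹ = hh X (t ^ 2 * u) * (hh X (t ^ 2))⁻¹ := by
  have h1 : hh X t * hh X u * (hh X t)⁻¹ =
      (hh X t * W X true u * (hh X t)⁻¹) * (hh X t * W X true 1 * (hh X t)⁻¹)⁻¹ := by
    conv_lhs => arg 1; arg 2; unfold hh
    group
  rw [h1, h.hh_conj_w ht hu, h.hh_conj_w ht one_ne_zero, mul_one]
  unfold hh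
  group

omit [Field K] in
/-- an element commuting with all generators is central -/
theorem mem_center_of_comm (hg : Gen X) (z : G) (hz : ∀ b v, z * X b v = X b v * z) :
    z ∈ Subgroup.center G := by
  have h1 : Subgroup.closure (Set.range fun p : Bool × K => X p.1 p.2) ≤
      Subgroup.centralizer {z} := by
    rw [Subgroup.closure_le]
    rintro _ ⟨p, rfl⟩
    rw [SetLike.mem_coe, Subgroup.mem_centralizer_iff]
    intro y hy
    rw [Set.mem_singleton_iff] at hy
    subst hy
    exact hz p.1 p.2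
  rw [hg] at h1
  rw [Subgroup.mem_center_iff]
  intro g
  have := h1 (Subgroup.mem_top g)
  rw [Subgroup.mem_centralizer_iff] at this
  exact (this z rfl).symm

theorem symbol_mem_center (h : Rel X) (hg : Gen X) {t u : K} (ht : t ≠ 0) (hu : u ≠ 0) :
    hh X t * hh X u * (hh X (t * u))⁻¹ ∈ Subgroup.center G := by
  apply mem_center_of_comm hg
  intro b v
  have key : ∀ (b : Bool) (v : K), (hh X t * hh X u * (hh X (t * u))⁻¹) * X b v *
      (hh X t * hh X u * (hh X (t * u))⁻¹)⁻¹ = X b v := by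
    intro b v
    have e : (hh X t * hh X u * (hh X (t * u))⁻¹) * X b v *
      (hh X t * hh X u * (hh X (t * u))⁻¹)⁻¹ =
      hh X t * (hh X u * ((hh X (t * u))⁻¹ * X b v * ((hh X (t * u))⁻¹)⁻¹) * (hh X u)⁻¹) *
        (hh X t)⁻¹ := by group
    rw [e]
    have htu : t * u ≠ 0 := mul_ne_zero ht hu
    cases b
    · have e1 : (hh X (t * u))⁻¹ * X false v * ((hh X (t * u))⁻¹)⁻¹ =
          X false ((t * u) ^ 2 * v) := by
        have := h.hh_conj_y htu ((t * u) ^ 2 * v)
        have e2 : (t * u)⁻¹ ^ 2 * ((t * u) ^ 2 * v) = v := by field_simp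
        rw [e2] at this
        rw [← this]; group
      rw [e1, h.hh_conj_y hu, h.hh_conj_y ht]
      congr 1
      field_simp
    · have e1 : (hh X (t * u))⁻¹ * X true v * ((hh X (t * u))⁻¹)⁻¹ =
          X true ((t * u)⁻¹ ^ 2 * v) := by
        have := h.hh_conj_x htu ((t * u)⁻¹ ^ 2 * v)
        have e2 : (t * u) ^ 2 * ((t * u)⁻¹ ^ 2 * v) = v := by field_simp
        rw [e2] at this
        rw [← this]; group
      rw [e1, h.hh_conj_x hu, h.hh_conj_x ht]
      congr 1
      field_simp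
  have := key b v
  rw [mul_inv_eq_iff_eq_mul] at this
  exact this

end Rel

end Cfsg.Agent.Lib.Helper5_SteinbergA
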