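import Mathlib
import Cfsg.Agent.Lib.Helper5_SteinbergB

namespace Cfsg.Agent.Lib.Helper5_SteinbergA

variable {K : Type*} [Field K] {G : Type*} [Group G] {X : Bool → K → G}

namespace Rel

/-- powers of a generator -/
theorem hh_pow_form (h : Rel X) (hg : Gen X) {ν : K} (hν : ν ≠ 0) (i : ℕ) :
    ∃ z ∈ Subgroup.center G, hh X (ν ^ i) = z * (hh X ν) ^ i := by
  induction i with
  | zero => exact ⟨1, one_mem _, by rw [pow_zero, h.hh_one, pow_zero, one_mul]⟩
  | succ i ih =>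
    obtain ⟨z, hz, hzi⟩ := ih
    have hc := h.symbol_mem_center hg (pow_ne_zero i hν) hν
    refine ⟨(hh X (ν ^ i) * hh X ν * (hh X (ν ^ i * ν))⁻¹)⁻¹ * z, mul_mem (inv_mem hc) hz, ?_⟩
    rw [pow_succ, pow_succ, ← mul_assoc, mul_assoc _ z, ← hzi]
    group

theorem hh_comm [Finite K] (h : Rel X) (hg : Gen X) {t u : K} (ht : t ≠ 0) (hu : u ≠ 0) :
    hh X t * hh X u = hh X u * hh X t := by
  obtain ⟨ν, hν⟩ := IsCyclic.exists_monoid_generator (α := Kˣ)
  obtain ⟨i, hi⟩ := hν (Units.mk0 t ht)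
  obtain ⟨j, hj⟩ := hν (Units.mk0 u hu)
  have hi' : (ν : K) ^ i = t := by
    have := congrArg (fun x : Kˣ => (x : K)) hi
    simpa using this
  have hj' : (ν : K) ^ j = u := by
    have := congrArg (fun x : Kˣ => (x : K)) hj
    simpa using this
  obtain ⟨z₁, hz₁, e₁⟩ := h.hh_pow_form hg ν.ne_zero i
  obtain ⟨z₂, hz₂, e₂⟩ := h.hh_pow_form hg ν.ne_zero j
  rw [hi'] at e₁
  rw [hj'] at e₂
  rw [Subgroup.mem_center_iff] at hz₁ hz₂
  rw [e₁, e₂]
  set a := hh X (ν : K)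
  calc z₁ * a ^ i * (z₂ * a ^ j) = z₁ * (a ^ i * z₂) * a ^ j := by group
    _ = z₁ * (z₂ * a ^ i) * a ^ j := by rw [hz₂]
    _ = (z₁ * z₂) * (a ^ i * a ^ j) := by group
    _ = (z₂ * z₁) * (a ^ j * a ^ i) := by rw [hz₂ z₁, ← pow_add, ← pow_add, add_comm]
    _ = z₂ * (z₁ * a ^ j) * a ^ i := by group
    _ = z₂ * (a ^ j * z₁) * a ^ i := by rw [hz₁]
    _ = z₂ * a ^ j * (z₁ * a ^ i) := by group

theorem hh_sq_mul [Finite K] (h : Rel X) (hg : Gen X) {t u : K} (ht : t ≠ 0) (hu : u ≠ 0) :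
    hh X (t ^ 2 * u) = hh X (t ^ 2) * hh X u := by
  have h1 := h.hh_conj_hh ht hu
  rw [h.hh_comm hg ht hu, mul_inv_cancel_right, eq_mul_inv_iff_mul_eq] at h1
  rw [← h1]
  exact h.hh_comm hg hu (pow_ne_zero 2 ht)

theorem w1_conj_hh (h : Rel X) {q : K} (hq : q ≠ 0) :
    W X true 1 * hh X q * (W X true 1)⁻¹ = hh X q⁻¹ := by
  have h1 : W X true 1 * hh X q * (W X true 1)⁻¹ =
      (W X true 1 * W X true q * (W X true 1)⁻¹) * (W X true 1)⁻¹ := by
    unfold hh; group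
  rw [h1, h.W_conj_W true one_ne_zero hq, one_pow, one_mul]
  rfl

theorem w_mul_w (h : Rel X) {p q : K} (hq : q ≠ 0) :
    W X true p * W X true q = hh X p * hh X q⁻¹ * (W X true 1) ^ 2 := by
  rw [← h.w1_conj_hh hq]
  unfold hh
  group

theorem y_eq (h : Rel X) {s : K} (hs : s ≠ 0) :
    X false s = X true s⁻¹ * W X true (-s⁻¹) * X true s⁻¹ := by
  rw [W_true_eq]
  have e : -(-s⁻¹)⁻¹ = s := by field_simp
  rw [e]
  have e2 : X true s⁻¹ * (X true (-s⁻¹) * X false s * X true (-s⁻¹)) * X true s⁻¹ =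
      (X true s⁻¹ * X true (-s⁻¹)) * X false s * (X true (-s⁻¹) * X true s⁻¹) := by group
  rw [e2, h.add, h.add, add_neg_cancel, neg_add_cancel, h.X_zero, one_mul, mul_one]

theorem x_eq (h : Rel X) {s : K} (hs : s ≠ 0) :
    X true s = X false s⁻¹ * W X true s * X false s⁻¹ := by
  have h1 := h.W_not true hs
  rw [← h1]
  simp only [Bool.not_true]
  rw [W_false_eq]
  have e : -(-s⁻¹)⁻¹ = s := by field_simp
  rw [e]
  have e2 : X false s⁻¹ * (X false (-s⁻¹) * X true s * X false (-s⁻¹)) * X false s⁻¹ =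
      (X false s⁻¹ * X false (-s⁻¹)) * X true s * (X false (-s⁻¹) * X false s⁻¹) := by group
  rw [e2, h.add, h.add, add_neg_cancel, neg_add_cancel, h.X_zero, one_mul, mul_one]

theorem decomp1 (h : Rel X) {a b : K} (ha : a ≠ 0) (hab : 1 + a * b ≠ 0) :
    X false a * X true b = X true (b / (1 + a * b)) *
      (W X true (-a⁻¹) * W X true (a⁻¹ + b)) * X false (a / (1 + a * b)) := by
  have hd : a⁻¹ + b ≠ 0 := by
    intro h0
    apply hab
    have : a * (a⁻¹ + b) = 0 := by rw [h0, mul_zero]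
    rw [mul_add, mul_inv_cancel₀ ha] at this
    exact this
  have ha' : -a⁻¹ ≠ 0 := neg_ne_zero.mpr (inv_ne_zero ha)
  calc X false a * X true b
      = X true a⁻¹ * W X true (-a⁻¹) * (X true a⁻¹ * X true b) := by
        rw [h.y_eq ha]; group
    _ = X true a⁻¹ * W X true (-a⁻¹) *
          (X false (a⁻¹ + b)⁻¹ * W X true (a⁻¹ + b) * X false (a⁻¹ + b)⁻¹) := by
        rw [h.add, ← h.x_eq hd]
    _ = X true a⁻¹ * (W X true (-a⁻¹) * X false (a⁻¹ + b)⁻¹ * (W X true (-a⁻¹))⁻¹) *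
          (W X true (-a⁻¹) * W X true (a⁻¹ + b)) * X false (a⁻¹ + b)⁻¹ := by group
    _ = X true (a⁻¹ + -((-a⁻¹) ^ 2 * (a⁻¹ + b)⁻¹)) *
          (W X true (-a⁻¹) * W X true (a⁻¹ + b)) * X false (a⁻¹ + b)⁻¹ := by
        rw [h.conjW_f ha', h.add]
    _ = _ := by
        have e1 : a⁻¹ + -((-a⁻¹) ^ 2 * (a⁻¹ + b)⁻¹) = b / (1 + a * b) := by
          field_simp
          ring
        have e2 : (a⁻¹ + b)⁻¹ = a / (1 + a * b) := by
          field_simp
        rw [e1, e2]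

theorem decomp2 (h : Rel X) {a b : K} (hb : b ≠ 0) (hab : 1 + a * b ≠ 0) :
    X false a * X true b = X true (b / (1 + a * b)) *
      (W X true (-(a + b⁻¹)⁻¹) * W X true b) * X false (a / (1 + a * b)) := by
  have he : a + b⁻¹ ≠ 0 := by
    intro h0
    apply hab
    have : (a + b⁻¹) * b = 0 := by rw [h0, zero_mul]
    rw [add_mul, inv_mul_cancel₀ hb, add_comm] at this
    exact this
  have hb' : -b ≠ 0 := neg_ne_zero.mpr hb
  calc X false a * X true b
      = (X false a * X false b⁻¹) * W X true b * X false b⁻¹ := by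
        rw [h.x_eq hb]; group
    _ = (X true (a + b⁻¹)⁻¹ * W X true (-(a + b⁻¹)⁻¹) * X true (a + b⁻¹)⁻¹) *
          W X true b * X false b⁻¹ := by
        rw [h.add, ← h.y_eq he]
    _ = X true (a + b⁻¹)⁻¹ * (W X true (-(a + b⁻¹)⁻¹) * W X true b) *
          ((W X true (-b)) * X true (a + b⁻¹)⁻¹ * (W X true (-b))⁻¹ * X false b⁻¹) := by
        rw [← h.W_inv true b]; group
    _ = X true (a + b⁻¹)⁻¹ * (W X true (-(a + b⁻¹)⁻¹) * W X true b) *
          X false (-((-b)⁻¹ ^ 2 * (a + b⁻¹)⁻¹) + b⁻¹) := by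
        rw [h.conjW_t hb', h.add]
    _ = _ := by
        have hab1 : 1 + b * a ≠ 0 := by rwa [mul_comm]
        have hab2 : a * b + 1 ≠ 0 := by rwa [add_comm]
        have e2 : (a + b⁻¹)⁻¹ = b / (1 + a * b) := by
          rw [eq_div_iff hab, inv_mul_eq_iff_eq_mul₀ he]
          field_simp
          ring
        have e1 : -((-b)⁻¹ ^ 2 * (a + b⁻¹)⁻¹) + b⁻¹ = a / (1 + a * b) := by
          rw [e2]
          field_simp
          ring
        rw [e1, e2]

theorem key (h : Rel X) {a b : K} (ha : a ≠ 0) (hb : b ≠ 0) (hab : 1 + a * b ≠ 0) :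
    W X true (-a⁻¹) * W X true (a⁻¹ + b) = W X true (-(a + b⁻¹)⁻¹) * W X true b := by
  have h1 := h.decomp1 ha hab
  rw [h.decomp2 hb hab] at h1
  exact (mul_left_cancel (mul_right_cancel h1)).symm

end Rel

end Cfsg.Agent.Lib.Helper5_SteinbergA
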