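import Mathlib
import Cfsg.Agent.Lib.Helper5_SteinbergC

namespace Cfsg.Agent.Lib.Helper5_SteinbergA

variable {K : Type*} [Field K] {G : Type*} [Group G] {X : Bool → K → G}

/-- two non-squares of a finite field differ by a square -/
theorem exists_sq_mul [Finite K] {t u : K} (ht : ¬ IsSquare t) (hu : ¬ IsSquare u) :
    ∃ a : K, a ≠ 0 ∧ u = a ^ 2 * t := by
  classical
  have := Fintype.ofFinite K
  have ht0 : t ≠ 0 := by rintro rfl; exact ht IsSquare.zero
  have hu0 : u ≠ 0 := by rintro rfl; exact hu IsSquare.zero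
  have h1 : quadraticChar K (u * t) = 1 := by
    rw [map_mul, quadraticChar_neg_one_iff_not_isSquare.mpr ht,
      quadraticChar_neg_one_iff_not_isSquare.mpr hu]
    norm_num
  rw [quadraticChar_one_iff_isSquare (mul_ne_zero hu0 ht0)] at h1
  obtain ⟨s, hs⟩ := h1
  have hs0 : s ≠ 0 := by
    rintro rfl
    rw [mul_zero] at hs
    exact mul_ne_zero hu0 ht0 hs
  refine ⟨s * t⁻¹, mul_ne_zero hs0 (inv_ne_zero ht0), ?_⟩
  have : (s * t⁻¹) ^ 2 * t = (s * s) * t⁻¹ := by field_simp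
  rw [this, ← hs]
  field_simp

/-- if some element is not a square then there are two non-squares adding up to one -/
theorem exists_nonsq_pair [Finite K] {ν : K} (hν : ¬ IsSquare ν) :
    ∃ r : K, ¬ IsSquare r ∧ ¬ IsSquare (1 - r) := by
  by_contra hcon
  push Not at hcon
  -- minus one is not a square
  have hν0 : ν ≠ 0 := by rintro rfl; exact hν IsSquare.zero
  have hm1 : ¬ IsSquare (-1 : K) := by
    intro hsq
    have h1 : ¬ IsSquare ν⁻¹ := by
      intro h
      apply hν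
      obtain ⟨s, hs⟩ := h
      exact ⟨s⁻¹, by rw [← mul_inv, ← hs, inv_inv]⟩
    have h2 := hcon ν hν
    have h3 := hcon ν⁻¹ h1
    -- 1 - ν⁻¹ = (ν - 1) / ν, ν - 1 = -(1 - ν)
    obtain ⟨a, ha⟩ := h2
    obtain ⟨b, hb⟩ := h3
    obtain ⟨i, hi⟩ := hsq
    have hb0 : b ≠ 0 := by
      rintro rfl
      rw [mul_zero, sub_eq_zero] at hb
      apply hν
      rw [← inv_inv ν, ← hb, inv_one]
      exact IsSquare.one
    apply hν
    refine ⟨i * a * b⁻¹, ?_⟩
    have e1 : ν * (b * b) = ν - 1 := by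
      rw [← hb]; field_simp
    have e2 : ν - 1 = (i * i) * (a * a) := by
      rw [← hi, ← ha]; ring
    have : ν * (b * b) = (i * i) * (a * a) := by rw [e1, e2]
    field_simp
    linear_combination this
  have hall : ∀ n : ℕ, IsSquare ((n : K)) := by
    intro n
    induction n with
    | zero => rw [Nat.cast_zero]; exact IsSquare.zero
    | succ n ih =>
      by_cases hn : (n : K) = 0
      · rw [Nat.cast_succ, hn, zero_add]; exact IsSquare.one
      · have h1 : ¬ IsSquare (-(n : K)) := by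
          intro h
          apply hm1
          obtain ⟨s, hs⟩ := h
          obtain ⟨m, hm⟩ := ih
          have hm0 : m ≠ 0 := by
            rintro rfl
            rw [mul_zero] at hm
            exact hn hm
          refine ⟨s * m⁻¹, ?_⟩
          have : s * m⁻¹ * (s * m⁻¹) = (s * s) * (m * m)⁻¹ := by field_simp
          rw [this, ← hs, ← hm]
          field_simp
        have h2 := hcon _ h1
        rw [sub_neg_eq_add, add_comm] at h2
        rw [Nat.cast_succ]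
        exact h2
  classical
  have := Fintype.ofFinite K
  apply hm1
  have h1 := hall (Fintype.card K - 1)
  have h2 : ((Fintype.card K - 1 : ℕ) : K) = -1 := by
    rw [Nat.cast_sub Fintype.card_pos, Nat.cast_card_eq_zero, Nat.cast_one, zero_sub]
  rwa [h2] at h1

namespace Rel

theorem rel_one_sub (h : Rel X) {t : K} (ht : t ≠ 0) (ht1 : t ≠ 1) :
    hh X t * hh X (1 - t)⁻¹ = hh X (t * (1 - t)⁻¹) := by
  have h1t : 1 - t ≠ 0 := sub_ne_zero.mpr (Ne.symm ht1)
  have ha : -t⁻¹ ≠ 0 := neg_ne_zero.mpr (inv_ne_zero ht)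
  have hab : 1 + (-t⁻¹) * 1 ≠ 0 := by
    rw [mul_one]
    intro h0
    apply ht1
    have : t * (1 + -t⁻¹) = 0 := by rw [h0, mul_zero]
    rw [mul_add, mul_one, mul_neg, mul_inv_cancel₀ ht] at this
    linear_combination this
  have hk := h.key ha one_ne_zero hab
  have e1 : -(-t⁻¹)⁻¹ = t := by field_simp
  have e2 : (-t⁻¹)⁻¹ + 1 = 1 - t := by field_simp; ring
  have e3 : -(-t⁻¹ + 1⁻¹)⁻¹ = t * (1 - t)⁻¹ := by
    have : -t⁻¹ + 1⁻¹ = -(1 - t) * t⁻¹ := by field_simp; ring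
    rw [this]
    field_simp
  rw [e1, e2, e3, h.w_mul_w h1t, h.w_mul_w one_ne_zero, inv_one, h.hh_one, mul_one] at hk
  exact mul_right_cancel hk

theorem hh_mul_one_sub [Finite K] (h : Rel X) (hg : Gen X) {t : K} (ht : t ≠ 0) (ht1 : t ≠ 1) :
    hh X t * hh X (1 - t) = hh X (t * (1 - t)) := by
  have h1t : 1 - t ≠ 0 := sub_ne_zero.mpr (Ne.symm ht1)
  have h1 := h.rel_one_sub ht ht1
  set u := 1 - t with hu
  have hui : u⁻¹ ≠ 0 := inv_ne_zero h1t
  have e1 : hh X u⁻¹ = hh X (u⁻¹ ^ 2) * hh X u := by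
    rw [← h.hh_sq_mul hg hui h1t]
    congr 1; field_simp
  have e2 : hh X (t * u⁻¹) = hh X (u⁻¹ ^ 2) * hh X (t * u) := by
    rw [← h.hh_sq_mul hg hui (mul_ne_zero ht h1t)]
    congr 1; field_simp
  rw [e1, e2, ← mul_assoc, h.hh_comm hg ht (pow_ne_zero 2 hui), mul_assoc] at h1
  exact mul_left_cancel h1

/-- squares of non-squares -/
theorem hh_sq_nonsq [Finite K] (h : Rel X) (hg : Gen X) {t : K} (ht : ¬ IsSquare t) :
    hh X (t ^ 2) = hh X t * hh X t := by
  obtain ⟨r, hr, hr1⟩ := exists_nonsq_pair ht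
  have hr0 : r ≠ 0 := by rintro rfl; exact hr IsSquare.zero
  have hr10 : 1 - r ≠ 0 := by intro h0; rw [h0] at hr1; exact hr1 IsSquare.zero
  have hrne1 : r ≠ 1 := by rintro rfl; exact hr IsSquare.one
  -- first for r
  have hrr : hh X (r ^ 2) = hh X r * hh X r := by
    obtain ⟨c, hc0, hc⟩ := exists_sq_mul hr hr1
    have h1 := h.hh_mul_one_sub hg hr0 hrne1
    rw [hc, h.hh_sq_mul hg hc0 hr0] at h1
    have e : r * (c ^ 2 * r) = c ^ 2 * r ^ 2 := by ring
    rw [e, h.hh_sq_mul hg hc0 (pow_ne_zero 2 hr0), ← mul_assoc,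
      h.hh_comm hg hr0 (pow_ne_zero 2 hc0), mul_assoc] at h1
    exact (mul_left_cancel h1).symm
  obtain ⟨b, hb0, hb⟩ := exists_sq_mul hr ht
  have hb2 : b ^ 2 ≠ 0 := pow_ne_zero 2 hb0
  have e1 : t ^ 2 = (b ^ 2) ^ 2 * r ^ 2 := by rw [hb]; ring
  have e2 : hh X ((b ^ 2) ^ 2) = hh X (b ^ 2) * hh X (b ^ 2) := by
    have := h.hh_sq_mul hg hb0 hb2
    rw [← this]; congr 1; ring
  rw [e1, h.hh_sq_mul hg hb2 (pow_ne_zero 2 hr0), e2, hrr, hb, h.hh_sq_mul hg hb0 hr0]
  have c1 := h.hh_comm hg hb2 hr0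
  calc hh X (b ^ 2) * hh X (b ^ 2) * (hh X r * hh X r)
      = hh X (b ^ 2) * (hh X (b ^ 2) * hh X r) * hh X r := by group
    _ = hh X (b ^ 2) * (hh X r * hh X (b ^ 2)) * hh X r := by rw [c1]
    _ = _ := by group

theorem hh_mul [Finite K] (h : Rel X) (hg : Gen X) {t u : K} (ht : t ≠ 0) (hu : u ≠ 0) :
    hh X (t * u) = hh X t * hh X u := by
  by_cases hst : IsSquare t
  · obtain ⟨s, rfl⟩ := hst
    have hs0 : s ≠ 0 := by rintro rfl; exact ht (mul_zero 0)
    rw [← pow_two]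
    exact h.hh_sq_mul hg hs0 hu
  by_cases hsu : IsSquare u
  · obtain ⟨s, rfl⟩ := hsu
    have hs0 : s ≠ 0 := by rintro rfl; exact hu (mul_zero 0)
    rw [← pow_two, mul_comm, h.hh_sq_mul hg hs0 ht]
    exact h.hh_comm hg (pow_ne_zero 2 hs0) ht
  obtain ⟨a, ha0, rfl⟩ := exists_sq_mul hst hsu
  have e : t * (a ^ 2 * t) = a ^ 2 * t ^ 2 := by ring
  rw [e, h.hh_sq_mul hg ha0 (pow_ne_zero 2 ht), h.hh_sq_mul hg ha0 ht, h.hh_sq_nonsq hg hst,
    ← mul_assoc, ← mul_assoc, h.hh_comm hg ht (pow_ne_zero 2 ha0)]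

end Rel

end Cfsg.Agent.Lib.Helper5_SteinbergA
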