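import Mathlib
import Cfsg.Agent.Lib.Helper5_SteinbergD

namespace Cfsg.Agent.Lib.Helper5_SteinbergA

variable {K : Type*} [Field K] {G : Type*} [Group G] {X : Bool → K → G}

/-- the normal form map -/
def nf (X : Bool → K → G) : (K × Kˣ) ⊕ (K × Kˣ × K) → G
  | Sum.inl p => X true p.1 * hh X (p.2 : K)
  | Sum.inr p => X true p.1 * hh X (p.2.1 : K) * W X true 1 * X true p.2.2

namespace Rel

theorem hh_mul_x (h : Rel X) {t : K} (ht : t ≠ 0) (a : K) :
    hh X t * X true a = X true (t ^ 2 * a) * hh X t := by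
  rw [← h.hh_conj_x ht]; group

theorem w_mul_hh (h : Rel X) {t : K} (ht : t ≠ 0) :
    W X true 1 * hh X t = hh X t⁻¹ * W X true 1 := by
  rw [← h.w1_conj_hh ht]; group

theorem hh_neg_one_sq [Finite K] (h : Rel X) (hg : Gen X) : hh X (-1) * hh X (-1) = 1 := by
  rw [← h.hh_mul hg (by simp) (by simp), neg_one_mul, neg_neg, h.hh_one]

theorem w_sq [Finite K] (h : Rel X) (hg : Gen X) :
    W X true 1 * W X true 1 = hh X (-1) := by
  have e : hh X (-1) = (W X true 1)⁻¹ * (W X true 1)⁻¹ := by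
    unfold hh; rw [h.W_inv true 1]
  have h2 := h.hh_neg_one_sq hg
  have h3 : hh X (-1) = (hh X (-1))⁻¹ := eq_inv_of_mul_eq_one_left h2
  rw [h3, e, mul_inv_rev, inv_inv]

theorem w_inv_eq [Finite K] (h : Rel X) (hg : Gen X) :
    (W X true 1)⁻¹ = W X true 1 * W X true 1 * W X true 1 := by
  have h2 := h.hh_neg_one_sq hg
  rw [← h.w_sq hg] at h2
  rw [inv_eq_iff_mul_eq_one]
  rw [← h2]; group

theorem w_sq_comm_x (h : Rel X) (v : K) :
    W X true 1 * W X true 1 * X true v = X true v * (W X true 1 * W X true 1) := by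
  have h1 : W X true 1 * W X true 1 * X true v * (W X true 1 * W X true 1)⁻¹ =
      W X true 1 * (W X true 1 * X true v * (W X true 1)⁻¹) * (W X true 1)⁻¹ := by group
  rw [h.conjW_t one_ne_zero, h.conjW_f one_ne_zero] at h1
  have e : -((1 : K) ^ 2 * -((1 : K)⁻¹ ^ 2 * v)) = v := by simp
  rw [e, mul_inv_eq_iff_eq_mul] at h1
  exact h1

theorem wxw [Finite K] (h : Rel X) (hg : Gen X) {c : K} (hc : c ≠ 0) :
    W X true 1 * X true c * W X true 1 =
      X true (-c⁻¹) * hh X (-c⁻¹) * W X true 1 * X true (-c⁻¹) := by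
  have hci : c⁻¹ ≠ 0 := inv_ne_zero hc
  have h1 : W X true 1 * X true c * W X true 1 =
      (W X true 1 * X true c * (W X true 1)⁻¹) * (W X true 1 * W X true 1) := by group
  rw [h1, h.conjW_t one_ne_zero]
  have e : -((1 : K)⁻¹ ^ 2 * c) = -c := by simp
  rw [e, h.y_eq (neg_ne_zero.mpr hc)]
  have e2 : (-c)⁻¹ = -c⁻¹ := by rw [inv_neg]
  rw [e2, neg_neg]
  have e3 : W X true c⁻¹ = hh X c⁻¹ * W X true 1 := by unfold hh; group
  rw [e3, mul_assoc _ (X true (-c⁻¹)) _, ← h.w_sq_comm_x, h.w_sq hg]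
  have e4 : hh X (-c⁻¹) = hh X c⁻¹ * hh X (-1) := by
    rw [← h.hh_mul hg hci (by simp)]; congr 1; ring
  rw [e4]
  have e5 := h.w_mul_hh (t := (-1 : K)) (by simp)
  have e6 : ((-1 : K))⁻¹ = -1 := by simp
  rw [e6] at e5
  calc X true (-c⁻¹) * (hh X c⁻¹ * W X true 1) * (hh X (-1) * X true (-c⁻¹))
      = X true (-c⁻¹) * hh X c⁻¹ * (W X true 1 * hh X (-1)) * X true (-c⁻¹) := by group
    _ = X true (-c⁻¹) * hh X c⁻¹ * (hh X (-1) * W X true 1) * X true (-c⁻¹) := by rw [e5]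
    _ = _ := by group

theorem x_mul_nf (h : Rel X) (c : K) (s : (K × Kˣ) ⊕ (K × Kˣ × K)) :
    X true c * nf X s ∈ Set.range (nf X) := by
  rcases s with ⟨a, t⟩ | ⟨a, t, b⟩
  · refine ⟨Sum.inl (c + a, t), ?_⟩
    simp only [nf]
    rw [← h.add]; group
  · refine ⟨Sum.inr (c + a, t, b), ?_⟩
    simp only [nf]
    rw [← h.add]; group

theorem w_mul_nf [Finite K] (h : Rel X) (hg : Gen X) (s : (K × Kˣ) ⊕ (K × Kˣ × K)) :
    W X true 1 * nf X s ∈ Set.range (nf X) := by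
  rcases s with ⟨a, t⟩ | ⟨a, t, b⟩
  · -- w x(a) h(t) = w h(t) x(t⁻² a) = h(t⁻¹) w x(t⁻² a)
    refine ⟨Sum.inr (0, t⁻¹, (t : K)⁻¹ ^ 2 * a), ?_⟩
    simp only [nf]
    rw [h.X_zero, one_mul, Units.val_inv_eq_inv_val]
    have e1 := h.hh_mul_x t.ne_zero ((t : K)⁻¹ ^ 2 * a)
    have e2 : (t : K) ^ 2 * ((t : K)⁻¹ ^ 2 * a) = a := by
      have := t.ne_zero; field_simp
    rw [e2] at e1
    rw [← h.w_mul_hh t.ne_zero, mul_assoc (W X true 1), e1]
  · have e1 := h.hh_mul_x t.ne_zero ((t : K)⁻¹ ^ 2 * a)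
    have e2 : (t : K) ^ 2 * ((t : K)⁻¹ ^ 2 * a) = a := by
      have := t.ne_zero; field_simp
    rw [e2] at e1
    have e0 : W X true 1 * nf X (Sum.inr (a, t, b)) =
        hh X (t : K)⁻¹ * (W X true 1 * X true ((t : K)⁻¹ ^ 2 * a) * W X true 1) * X true b := by
      simp only [nf]
      rw [← e1]
      have := h.w_mul_hh t.ne_zero
      calc W X true 1 * (hh X ↑t * X true ((t : K)⁻¹ ^ 2 * a) * W X true 1 * X true b)
          = (W X true 1 * hh X ↑t) * X true ((t : K)⁻¹ ^ 2 * a) * W X true 1 * X true b := by group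
        _ = _ := by rw [this]; group
    rw [e0]
    by_cases ha : a = 0
    · subst ha
      rw [mul_zero, h.X_zero, mul_one, h.w_sq hg]
      have hti : (t : K)⁻¹ ≠ 0 := inv_ne_zero t.ne_zero
      rw [← h.hh_mul hg hti (by simp)]
      have hne : (t : K)⁻¹ * -1 ≠ 0 := mul_ne_zero hti (by simp)
      refine ⟨Sum.inl (((t : K)⁻¹ * -1) ^ 2 * b, Units.mk0 _ hne), ?_⟩
      simp only [nf, Units.val_mk0]
      rw [h.hh_mul_x hne]
    · have hc : (t : K)⁻¹ ^ 2 * a ≠ 0 := mul_ne_zero (pow_ne_zero 2 (inv_ne_zero t.ne_zero)) ha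
      rw [h.wxw hg hc]
      set c := (t : K)⁻¹ ^ 2 * a with hcdef
      have hti : (t : K)⁻¹ ≠ 0 := inv_ne_zero t.ne_zero
      have hci : -c⁻¹ ≠ 0 := neg_ne_zero.mpr (inv_ne_zero hc)
      have hne : (t : K)⁻¹ * -c⁻¹ ≠ 0 := mul_ne_zero hti hci
      refine ⟨Sum.inr ((t : K)⁻¹ ^ 2 * (-c⁻¹), Units.mk0 _ hne, -c⁻¹ + b), ?_⟩
      simp only [nf, Units.val_mk0]
      have e7 := h.hh_mul_x hti (-c⁻¹)
      rw [h.hh_mul hg hti hci, ← h.add, ← mul_assoc (X true _), ← e7]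
      group

theorem w_inv_mul_nf [Finite K] (h : Rel X) (hg : Gen X) (s : (K × Kˣ) ⊕ (K × Kˣ × K)) :
    (W X true 1)⁻¹ * nf X s ∈ Set.range (nf X) := by
  rw [h.w_inv_eq hg]
  obtain ⟨s1, hs1⟩ := h.w_mul_nf hg s
  obtain ⟨s2, hs2⟩ := h.w_mul_nf hg s1
  obtain ⟨s3, hs3⟩ := h.w_mul_nf hg s2
  refine ⟨s3, ?_⟩
  rw [hs3, hs2, hs1]; group

theorem y_mul_nf [Finite K] (h : Rel X) (hg : Gen X) (c : K) (s : (K × Kˣ) ⊕ (K × Kˣ × K)) :
    X false c * nf X s ∈ Set.range (nf X) := by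
  have e : X false c = W X true 1 * X true (-c) * (W X true 1)⁻¹ := by
    rw [h.conjW_t one_ne_zero]; congr 1; simp
  obtain ⟨s1, hs1⟩ := h.w_inv_mul_nf hg s
  obtain ⟨s2, hs2⟩ := h.x_mul_nf (-c) s1
  obtain ⟨s3, hs3⟩ := h.w_mul_nf hg s2
  refine ⟨s3, ?_⟩
  rw [hs3, hs2, hs1, e]; group

theorem nf_surjective [Finite K] (h : Rel X) (hg : Gen X) : Function.Surjective (nf X) := by
  have key : ∀ g : G, g ∈ Subgroup.closure (Set.range fun p : Bool × K => X p.1 p.2) →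
      ∀ s, g * nf X s ∈ Set.range (nf X) := by
    intro g hgm
    induction hgm using Subgroup.closure_induction'' with
    | one => intro s; rw [one_mul]; exact ⟨s, rfl⟩
    | mem x hx =>
      obtain ⟨⟨b, v⟩, rfl⟩ := hx
      intro s
      cases b
      · exact h.y_mul_nf hg v s
      · exact h.x_mul_nf v s
    | inv_mem x hx =>
      obtain ⟨⟨b, v⟩, rfl⟩ := hx
      intro s
      simp only
      rw [h.X_inv]
      cases b
      · exact h.y_mul_nf hg (-v) s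
      · exact h.x_mul_nf (-v) s
    | mul x y _ _ hx hy =>
      intro s
      obtain ⟨s1, hs1⟩ := hy s
      obtain ⟨s2, hs2⟩ := hx s1
      exact ⟨s2, by rw [hs2, hs1, mul_assoc]⟩
  intro g
  have hgm : g ∈ Subgroup.closure (Set.range fun p : Bool × K => X p.1 p.2) := by
    rw [hg]; exact Subgroup.mem_top g
  obtain ⟨s, hs⟩ := key g hgm (Sum.inl (0, 1))
  refine ⟨s, ?_⟩
  rw [hs]
  simp only [nf, Units.val_one]
  rw [h.X_zero, h.hh_one, mul_one, mul_one]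

end Rel

end Cfsg.Agent.Lib.Helper5_SteinbergA
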