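import Mathlib
import Cfsg.Agent.Lib.Helper5_SteinbergE
import Cfsg.Agent.Lib.Helper5_SLGen
import Cfsg.Agent.Lib.Helper5_PSLCard

namespace Cfsg.Agent.Lib.Helper5_SteinbergA

open Matrix

variable {K : Type*} [Field K]

/-- images of the generators -/
def mx : Bool × K → Matrix.SpecialLinearGroup (Fin 2) K
  | (true, t) => ⟨!![1, t; 0, 1], by simp [Matrix.det_fin_two]⟩
  | (false, t) => ⟨!![1, 0; t, 1], by simp [Matrix.det_fin_two]⟩

theorem mx_true (t : K) : (mx (true, t) : Matrix (Fin 2) (Fin 2) K) = !![1, t; 0, 1] := rfl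

theorem mx_false (t : K) : (mx (false, t) : Matrix (Fin 2) (Fin 2) K) = !![1, 0; t, 1] := rfl

theorem mx_add (b : Bool) (t u : K) : mx (b, t) * mx (b, u) = mx (b, t + u) := by
  cases b <;>
  · ext i j
    simp only [Matrix.SpecialLinearGroup.coe_mul, mx_true, mx_false]
    fin_cases i <;> fin_cases j <;>
      simp [Matrix.mul_apply, Fin.sum_univ_two, add_comm]

theorem mx_conj (b : Bool) {t : K} (ht : t ≠ 0) (u : K) :
    (mx (b, t) * mx (!b, -t⁻¹) * mx (b, t)) * mx (b, u) =
      mx (!b, -(t⁻¹ ^ 2 * u)) * (mx (b, t) * mx (!b, -t⁻¹) * mx (b, t)) := by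
  cases b <;>
  · apply Subtype.ext
    simp only [Bool.not_true, Bool.not_false, Matrix.SpecialLinearGroup.coe_mul, mx_true, mx_false,
      Matrix.mul_fin_two]
    congr 1
    ext i j
    fin_cases i <;> fin_cases j <;>
    · simp only [Fin.zero_eta, Fin.mk_one, Fin.isValue, cons_val', cons_val_zero, cons_val_one,
        cons_val_fin_one]
      field_simp
      ring

/-- the relators -/
def relators (K : Type*) [Field K] : Set (FreeGroup (Bool × K)) :=
  {g : FreeGroup (Bool × K) | ∃ (b : Bool) (t u : K), g = FreeGroup.of (b, t) * FreeGroup.of (b, u) * (FreeGroup.of (b, t + u))⁻¹} ∪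
          {g | ∃ (b : Bool) (t u : K), t ≠ 0 ∧
            g = (FreeGroup.of (b, t) * FreeGroup.of (!b, -t⁻¹) * FreeGroup.of (b, t)) * FreeGroup.of (b, u) *
                  (FreeGroup.of (b, t) * FreeGroup.of (!b, -t⁻¹) * FreeGroup.of (b, t))⁻¹ * (FreeGroup.of (!b, -(t⁻¹ ^ 2 * u)))⁻¹}

theorem lift_relators : ∀ r ∈ relators K, FreeGroup.lift (mx (K := K)) r = 1 := by
  rintro r (⟨b, t, u, rfl⟩ | ⟨b, t, u, ht, rfl⟩)
  · simp only [map_mul, map_inv, FreeGroup.lift_apply_of]
    rw [mx_add, mul_inv_cancel]
  · simp only [map_mul, map_inv, FreeGroup.lift_apply_of]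
    rw [mx_conj b ht]
    group

/-- the generators of the presented group -/
def XX (K : Type*) [Field K] (b : Bool) (t : K) : PresentedGroup (relators K) :=
  PresentedGroup.of (b, t)

theorem rel_XX : Rel (XX K) := by
  constructor
  · intro b t u
    have h1 : (PresentedGroup.mk (relators K)) (FreeGroup.of (b, t) * FreeGroup.of (b, u) * (FreeGroup.of (b, t + u))⁻¹) = 1 :=
      PresentedGroup.one_of_mem (Or.inl ⟨b, t, u, rfl⟩)
    rw [map_mul, map_mul, map_inv, mul_inv_eq_one] at h1
    exact h1
  · intro b t u ht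
    have h1 : (PresentedGroup.mk (relators K)) ((FreeGroup.of (b, t) * FreeGroup.of (!b, -t⁻¹) * FreeGroup.of (b, t)) * FreeGroup.of (b, u) *
                  (FreeGroup.of (b, t) * FreeGroup.of (!b, -t⁻¹) * FreeGroup.of (b, t))⁻¹ * (FreeGroup.of (!b, -(t⁻¹ ^ 2 * u)))⁻¹) = 1 :=
      PresentedGroup.one_of_mem (Or.inr ⟨b, t, u, ht, rfl⟩)
    simp only [map_mul, map_inv] at h1
    rw [mul_inv_eq_one] at h1
    exact h1

theorem gen_XX : Gen (XX K) := by
  unfold Gen
  have : (fun p : Bool × K => XX K p.1 p.2) = PresentedGroup.of := by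
    funext p; rfl
  rw [this]
  exact PresentedGroup.closure_range_of _

/-- the natural map -/
def proj (K : Type*) [Field K] : PresentedGroup (relators K) →* Matrix.SpecialLinearGroup (Fin 2) K :=
  PresentedGroup.toGroup lift_relators

theorem proj_of (p : Bool × K) : proj K (PresentedGroup.of p) = mx p :=
  PresentedGroup.toGroup.of lift_relators

theorem proj_surjective : Function.Surjective (proj K) := by
  intro A
  refine Cfsg.Agent.Lib.Helper5_SLGen.transvection_induction
    (fun A => ∃ g, proj K g = A) ?_ ?_ A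
  · intro i j hij c
    fin_cases i <;> fin_cases j
    · exact absurd rfl hij
    · refine ⟨PresentedGroup.of (true, c), ?_⟩
      rw [proj_of]
      ext i j
      rw [mx_true, Matrix.SpecialLinearGroup.transvection_coe]
      fin_cases i <;> fin_cases j <;>
        simp [Matrix.single]
    · refine ⟨PresentedGroup.of (false, c), ?_⟩
      rw [proj_of]
      ext i j
      rw [mx_false, Matrix.SpecialLinearGroup.transvection_coe]
      fin_cases i <;> fin_cases j <;>
        simp [Matrix.single]
    · exact absurd rfl hij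
  · rintro A B ⟨g, rfl⟩ ⟨g', rfl⟩
    exact ⟨g * g', map_mul _ _ _⟩

theorem proj_bijective [Finite K] : Function.Bijective (proj K) := by
  classical
  have := Fintype.ofFinite K
  have hs := rel_XX.nf_surjective (gen_XX (K := K))
  have hfin : Finite (PresentedGroup (relators K)) := Finite.of_surjective _ hs
  apply proj_surjective.bijective_of_nat_card_le
  calc Nat.card (PresentedGroup (relators K))
      ≤ Nat.card ((K × Kˣ) ⊕ (K × Kˣ × K)) := Nat.card_le_card_of_surjective _ hs
    _ = Fintype.card K * (Fintype.card K ^ 2 - 1) := by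
        rw [Nat.card_eq_fintype_card, Fintype.card_sum, Fintype.card_prod, Fintype.card_prod,
          Fintype.card_prod, Fintype.card_units]
        have hq : 1 ≤ Fintype.card K := Fintype.card_pos
        obtain ⟨m, hm⟩ : ∃ m, Fintype.card K = m + 1 := ⟨Fintype.card K - 1, by omega⟩
        rw [hm]
        have : (m + 1) ^ 2 - 1 = m * (m + 2) := by
          have : (m + 1) ^ 2 = m * (m + 2) + 1 := by ring
          omega
        rw [this, Nat.add_sub_cancel]
        ring
    _ = Nat.card (Matrix.SpecialLinearGroup (Fin 2) K) :=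
        (Cfsg.Agent.Lib.Helper5_PSLCard.card_SL_two).symm

/-- the rank one Steinberg presentation of `SL₂` over a finite field -/
theorem main [Finite K] :
    ∃ e : PresentedGroup (relators K) ≃* Matrix.SpecialLinearGroup (Fin 2) K,
      (∀ t : K, ((e (PresentedGroup.of (true, t)) : Matrix (Fin 2) (Fin 2) K)) = !![1, t; 0, 1]) ∧
      (∀ t : K, ((e (PresentedGroup.of (false, t)) : Matrix (Fin 2) (Fin 2) K)) = !![1, 0; t, 1]) := by
  refine ⟨MulEquiv.ofBijective (proj K) proj_bijective, ?_, ?_⟩
  · intro t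
    rw [MulEquiv.ofBijective_apply]
    exact congrArg Subtype.val (proj_of (true, t))
  · intro t
    rw [MulEquiv.ofBijective_apply]
    exact congrArg Subtype.val (proj_of (false, t))

end Cfsg.Agent.Lib.Helper5_SteinbergA
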