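import Mathlib
import Cfsg.Agent.Lib.Helper5_SteinbergF

/-!
Universal property of `SL₂(K)`, `K` a finite field, from the rank one Steinberg relations,
and the passage from "torus data" `(x, t, h)` to the Steinberg relations.
-/

namespace Cfsg.Agent.Lib.Helper5_SLPresA

open Cfsg.Agent.Lib.Helper5_SteinbergA

variable {K : Type*} [Field K] {G : Type*} [Group G]

theorem lift_relators_of_rel {X : Bool → K → G} (h : Rel X) :
    ∀ r ∈ relators K, FreeGroup.lift (fun p : Bool × K => X p.1 p.2) r = 1 := by
  rintro r (⟨b, t, u, rfl⟩ | ⟨b, t, u, ht, rfl⟩)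
  · simp only [map_mul, map_inv, FreeGroup.lift_apply_of]
    rw [h.add, mul_inv_cancel]
  · simp only [map_mul, map_inv, FreeGroup.lift_apply_of]
    rw [h.conj b t u ht, mul_inv_cancel]

/-- the universal property -/
theorem exists_hom_of_rel [Finite K] {X : Bool → K → G} (h : Rel X) :
    ∃ Φ : Matrix.SpecialLinearGroup (Fin 2) K →* G, ∀ b a, Φ (mx (b, a)) = X b a := by
  let e : PresentedGroup (relators K) ≃* Matrix.SpecialLinearGroup (Fin 2) K :=
    MulEquiv.ofBijective (proj K) proj_bijective
  refine ⟨(PresentedGroup.toGroup (lift_relators_of_rel h)).comp e.symm.toMonoidHom, ?_⟩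
  intro b a
  have h1 : e.symm (mx (b, a)) = PresentedGroup.of (b, a) := by
    rw [MulEquiv.symm_apply_eq]
    exact (proj_of (b, a)).symm
  rw [MonoidHom.comp_apply]
  show (PresentedGroup.toGroup (lift_relators_of_rel h)) (e.symm (mx (b, a))) = X b a
  rw [h1, PresentedGroup.toGroup.of]

/-- the matrices `mx` generate `SL₂` -/
theorem closure_mx : Subgroup.closure (Set.range (mx (K := K))) = ⊤ := by
  rw [eq_top_iff]
  intro A _
  refine Cfsg.Agent.Lib.Helper5_SLGen.transvection_induction
    (fun A => A ∈ Subgroup.closure (Set.range (mx (K := K)))) ?_ ?_ A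
  · intro i j hij c
    apply Subgroup.subset_closure
    fin_cases i <;> fin_cases j
    · exact absurd rfl hij
    · refine ⟨(true, c), ?_⟩
      ext i j
      rw [mx_true, Matrix.SpecialLinearGroup.transvection_coe]
      fin_cases i <;> fin_cases j <;> simp [Matrix.single]
    · refine ⟨(false, c), ?_⟩
      ext i j
      rw [mx_false, Matrix.SpecialLinearGroup.transvection_coe]
      fin_cases i <;> fin_cases j <;> simp [Matrix.single]
    · exact absurd rfl hij
  · intro A B hA hB
    exact mul_mem hA hB

/-- two homs out of `SL₂` agreeing on the `mx` are equal -/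
theorem hom_ext_mx {H : Type*} [Group H] (f g : Matrix.SpecialLinearGroup (Fin 2) K →* H)
    (hfg : ∀ p, f (mx p) = g (mx p)) : f = g := by
  apply MonoidHom.eq_of_eqOn_dense (closure_mx (K := K))
  rintro _ ⟨p, rfl⟩
  exact hfg p

end Cfsg.Agent.Lib.Helper5_SLPresA
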