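import Mathlib
import Cfsg.Agent.Lib.Helper5_SLPresA

set_option autoImplicit false

/-!
Steinberg relations of type `A` for a family `x i j t` of root elements in a group, and the
conjugation calculus of the Weyl elements `w i j s = x i j s * x j i (-s⁻¹) * x i j s`.
-/

namespace Cfsg.Agent.Lib.Helper66_StCalc

variable {ι : Type*} {K : Type*} [Field K] {G : Type*} [Group G]

/-- Steinberg relations (A), (B) for a family of root elements -/
structure StRelAB (x : ι → ι → K → G) : Prop where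
  diag : ∀ i t, x i i t = 1
  add : ∀ i j t u, x i j t * x i j u = x i j (t + u)
  comm : ∀ i j k l t u, i ≠ j → k ≠ l → i ≠ l → j ≠ k → x i j t * x k l u = x k l u * x i j t
  comm3 : ∀ i j l t u, i ≠ j → j ≠ l → i ≠ l →
    x i j t * x j l u * (x i j t)⁻¹ * (x j l u)⁻¹ = x i l (t * u)

/-- Steinberg relations (A), (B), (B') for a family of root elements -/
structure StRel (x : ι → ι → K → G) : Prop extends StRelAB x where
  rank1 : ∀ i j t u, i ≠ j → t ≠ 0 →
    (x i j t * x j i (-t⁻¹) * x i j t) * x i j u * (x i j t * x j i (-t⁻¹) * x i j t)⁻¹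
      = x j i (-(t⁻¹ ^ 2 * u))

/-- the Weyl element -/
def w (x : ι → ι → K → G) (i j : ι) (s : K) : G := x i j s * x j i (-s⁻¹) * x i j s

namespace StRelAB

variable {x : ι → ι → K → G} (h : StRelAB x)
include h

theorem x_zero (i j : ι) : x i j 0 = 1 := by
  have := h.add i j 0 0
  rw [add_zero] at this
  exact mul_eq_left.mp this

theorem x_inv (i j : ι) (t : K) : (x i j t)⁻¹ = x i j (-t) := by
  rw [inv_eq_iff_mul_eq_one, h.add, add_neg_cancel, h.x_zero]

theorem x_mul_neg (i j : ι) (t : K) : x i j t * x i j (-t) = 1 := by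
  rw [h.add, add_neg_cancel, h.x_zero]

theorem x_neg_mul (i j : ι) (t : K) : x i j (-t) * x i j t = 1 := by
  rw [h.add, neg_add_cancel, h.x_zero]

theorem cj_comm (i j k l : ι) (t u : K) (hij : i ≠ j) (hkl : k ≠ l) (hil : i ≠ l)
    (hjk : j ≠ k) : MulAut.conj (x i j t) (x k l u) = x k l u := by
  rw [MulAut.conj_apply, h.comm i j k l t u hij hkl hil hjk, mul_inv_cancel_right]

theorem cj_a (i j l : ι) (t u : K) (hij : i ≠ j) (hjl : j ≠ l) (hil : i ≠ l) :
    MulAut.conj (x i j t) (x j l u) = x i l (t * u) * x j l u := by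
  rw [MulAut.conj_apply, ← h.comm3 i j l t u hij hjl hil]
  group

theorem cj_b (i j l : ι) (t u : K) (hij : i ≠ j) (hjl : j ≠ l) (hil : i ≠ l) :
    MulAut.conj (x j l u) (x i j t) = x i l (-(t * u)) * x i j t := by
  rw [MulAut.conj_apply, ← h.x_inv, ← h.comm3 i j l t u hij hjl hil]
  group

/-- `x a c p * x b c q * x a c r = x b c q * x a c (p + r)` in a column -/
theorem col_collapse (a b c : ι) (p q r : K) (hac : a ≠ c) (hbc : b ≠ c) :
    x a c p * x b c q * x a c r = x b c q * x a c (p + r) := by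
  rw [h.comm a c b c p q hac hbc hac hbc.symm, mul_assoc, h.add]

/-- `x c a p * x c b q * x c a r = x c b q * x c a (p + r)` in a row -/
theorem row_collapse (a b c : ι) (p q r : K) (hca : c ≠ a) (hcb : c ≠ b) :
    x c a p * x c b q * x c a r = x c b q * x c a (p + r) := by
  rw [h.comm c a c b p q hca hcb hcb hca.symm, mul_assoc, h.add]

theorem w_cj1 (i j k : ι) (s u : K) (hij : i ≠ j) (hik : i ≠ k) (hjk : j ≠ k) (hs : s ≠ 0) :
    MulAut.conj (w x i j s) (x i k u) = x j k (-s⁻¹ * u) := by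
  unfold w
  rw [map_mul, map_mul, MulAut.mul_apply, MulAut.mul_apply,
    h.cj_comm i j i k s u hij hik hik hij.symm,
    h.cj_a j i k (-s⁻¹) u hij.symm hik hjk, map_mul,
    h.cj_a i j k s (-s⁻¹ * u) hij hjk hik, h.cj_comm i j i k s u hij hik hik hij.symm]
  have e : s * (-s⁻¹ * u) = -u := by field_simp
  rw [e, h.col_collapse i j k (-u) _ u hik hjk, neg_add_cancel, h.x_zero, mul_one]

theorem w_cj2 (i j k : ι) (s u : K) (hij : i ≠ j) (hik : i ≠ k) (hjk : j ≠ k) (hs : s ≠ 0) :
    MulAut.conj (w x i j s) (x j k u) = x i k (s * u) := by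
  unfold w
  rw [map_mul, map_mul, MulAut.mul_apply, MulAut.mul_apply,
    h.cj_a i j k s u hij hjk hik, map_mul,
    h.cj_a j i k (-s⁻¹) (s * u) hij.symm hik hjk,
    h.cj_comm j i j k (-s⁻¹) u hij.symm hjk hjk hij]
  have e : -s⁻¹ * (s * u) = -u := by field_simp
  rw [e, h.col_collapse j i k (-u) _ u hjk hik, neg_add_cancel, h.x_zero, mul_one,
    h.cj_comm i j i k s (s * u) hij hik hik hij.symm]

theorem w_cj3 (i j k : ι) (s u : K) (hij : i ≠ j) (hik : i ≠ k) (hjk : j ≠ k) (hs : s ≠ 0) :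
    MulAut.conj (w x i j s) (x k i u) = x k j (-(s * u)) := by
  unfold w
  rw [map_mul, map_mul, MulAut.mul_apply, MulAut.mul_apply,
    h.cj_b k i j u s hik.symm hij hjk.symm, map_mul,
    h.cj_b k j i (-(u * s)) (-s⁻¹) hjk.symm hij.symm hik.symm,
    h.cj_comm j i k i (-s⁻¹) u hij.symm hik.symm hij.symm hik]
  have e : -(-(u * s) * -s⁻¹) = -u := by field_simp
  rw [e, h.row_collapse i j k (-u) _ u hik.symm hjk.symm, neg_add_cancel, h.x_zero, mul_one,
    h.cj_comm i j k j s _ hij hjk.symm hij hjk, mul_comm]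

theorem w_cj4 (i j k : ι) (s u : K) (hij : i ≠ j) (hik : i ≠ k) (hjk : j ≠ k) (hs : s ≠ 0) :
    MulAut.conj (w x i j s) (x k j u) = x k i (s⁻¹ * u) := by
  unfold w
  rw [map_mul, map_mul, MulAut.mul_apply, MulAut.mul_apply,
    h.cj_comm i j k j s u hij hjk.symm hij hjk,
    h.cj_b k j i u (-s⁻¹) hjk.symm hij.symm hik.symm, map_mul,
    h.cj_b k i j (-(u * -s⁻¹)) s hik.symm hij hjk.symm,
    h.cj_comm i j k j s u hij hjk.symm hij hjk]
  have e : -(-(u * -s⁻¹) * s) = -u := by field_simp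
  have e2 : -(u * -s⁻¹) = s⁻¹ * u := by ring
  rw [e, e2, h.row_collapse j i k (-u) _ u hjk.symm hik.symm, neg_add_cancel, h.x_zero, mul_one]

theorem w_cj_disj (i j k l : ι) (s u : K) (hij : i ≠ j) (hkl : k ≠ l) (hik : i ≠ k) (hil : i ≠ l)
    (hjk : j ≠ k) (hjl : j ≠ l) :
    MulAut.conj (w x i j s) (x k l u) = x k l u := by
  unfold w
  rw [map_mul, map_mul, MulAut.mul_apply, MulAut.mul_apply,
    h.cj_comm i j k l s u hij hkl hil hjk, h.cj_comm j i k l (-s⁻¹) u hij.symm hkl hjl hik,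
    h.cj_comm i j k l s u hij hkl hil hjk]

/-- the rank one relation (B') follows from (A), (B) when a third index is available -/
theorem rank1_of_third (i j k : ι) (s u : K) (hij : i ≠ j) (hik : i ≠ k) (hjk : j ≠ k)
    (hs : s ≠ 0) :
    MulAut.conj (w x i j s) (x i j u) = x j i (-(s⁻¹ ^ 2 * u)) := by
  have e : x i j u = x i k u * x k j 1 * (x i k u)⁻¹ * (x k j 1)⁻¹ := by
    rw [h.comm3 i k j u 1 hik hjk.symm hij, mul_one]
  rw [e, map_mul, map_mul, map_mul, map_inv, map_inv, h.w_cj1 i j k s u hij hik hjk hs,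
    h.w_cj4 i j k s 1 hij hik hjk hs, h.comm3 j k i _ _ hjk hik.symm hij.symm]
  congr 1
  ring

end StRelAB

namespace StRel

variable {x : ι → ι → K → G} (h : StRel x)
include h

theorem w_cj_self (i j : ι) (s u : K) (hij : i ≠ j) (hs : s ≠ 0) :
    MulAut.conj (w x i j s) (x i j u) = x j i (-(s⁻¹ ^ 2 * u)) := by
  rw [MulAut.conj_apply]
  exact h.rank1 i j s u hij hs

end StRel

end Cfsg.Agent.Lib.Helper66_StCalc
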