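import Mathlib
import Cfsg.Agent.Lib.Helper66_StCalc

set_option autoImplicit false

/-!
Rank one consequences of the Steinberg relations over a finite field: every pair of opposite
root subgroups is the image of `SL₂(K)`; torus elements `hh i j c`; the three term relation.
-/

namespace Cfsg.Agent.Lib.Helper66_StCalc

open Cfsg.Agent.Lib.Helper5_SteinbergA Cfsg.Agent.Lib.Helper5_SLPresA Matrix

variable {ι : Type*} {K : Type*} [Field K] {G : Type*} [Group G]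

/-- the pair of opposite root subgroups -/
def pairX (x : ι → ι → K → G) (i j : ι) : Bool → K → G
  | true => x i j
  | false => x j i

/-- the torus element -/
def hh (x : ι → ι → K → G) (i j : ι) (c : K) : G := w x i j c * (w x i j 1)⁻¹

/-- the monomial matrix -/
def Wm (s : K) (hs : s ≠ 0) : Matrix.SpecialLinearGroup (Fin 2) K :=
  ⟨!![0, s; -s⁻¹, 0], by simp [Matrix.det_fin_two_of, hs]⟩

/-- the diagonal matrix -/
def Dm (c : K) (hc : c ≠ 0) : Matrix.SpecialLinearGroup (Fin 2) K :=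
  ⟨!![c, 0; 0, c⁻¹], by simp [Matrix.det_fin_two_of, hc]⟩

theorem Wm_coe (s : K) (hs : s ≠ 0) :
    (Wm s hs : Matrix (Fin 2) (Fin 2) K) = !![0, s; -s⁻¹, 0] := rfl

theorem Dm_coe (c : K) (hc : c ≠ 0) :
    (Dm c hc : Matrix (Fin 2) (Fin 2) K) = !![c, 0; 0, c⁻¹] := rfl

theorem Wm_eq (s : K) (hs : s ≠ 0) : mx (true, s) * mx (false, -s⁻¹) * mx (true, s) = Wm s hs := by
  apply Subtype.ext
  rw [Matrix.SpecialLinearGroup.coe_mul, Matrix.SpecialLinearGroup.coe_mul, mx_true, mx_false,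
    Wm_coe, Matrix.mul_fin_two, Matrix.mul_fin_two]
  ext a b
  fin_cases a <;> fin_cases b <;> simp [hs]

theorem Wm_mul_inv (a b : K) (ha : a ≠ 0) (hb : b ≠ 0) :
    Wm a ha * (Wm b hb)⁻¹ = Dm (a * b⁻¹) (mul_ne_zero ha (inv_ne_zero hb)) := by
  apply Subtype.ext
  rw [Matrix.SpecialLinearGroup.coe_mul, Matrix.SpecialLinearGroup.coe_inv, Wm_coe, Wm_coe, Dm_coe,
    Matrix.adjugate_fin_two_of, Matrix.mul_fin_two]
  ext p q
  fin_cases p <;> fin_cases q <;> simp <;> field_simp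

theorem Wm_mul_Dm (a c : K) (ha : a ≠ 0) (hc : c ≠ 0) :
    Wm a ha * Dm c hc = Wm (a * c⁻¹) (mul_ne_zero ha (inv_ne_zero hc)) := by
  apply Subtype.ext
  rw [Matrix.SpecialLinearGroup.coe_mul, Wm_coe, Wm_coe, Dm_coe, Matrix.mul_fin_two]
  ext p q
  fin_cases p <;> fin_cases q <;> simp <;> field_simp

theorem Dm_mul_Dm (c c' : K) (hc : c ≠ 0) (hc' : c' ≠ 0) :
    Dm c hc * Dm c' hc' = Dm (c * c') (mul_ne_zero hc hc') := by
  apply Subtype.ext
  rw [Matrix.SpecialLinearGroup.coe_mul, Dm_coe, Dm_coe, Dm_coe, Matrix.mul_fin_two]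
  ext p q
  fin_cases p <;> fin_cases q <;> simp <;> field_simp

namespace StRel

variable {x : ι → ι → K → G} (h : StRel x)
include h

theorem rel_pair {i j : ι} (hij : i ≠ j) : Rel (pairX x i j) := by
  constructor
  · intro b t u
    cases b <;> exact h.add _ _ _ _
  · intro b t u ht
    cases b
    · exact h.rank1 j i t u hij.symm ht
    · exact h.rank1 i j t u hij ht

theorem w_inv {i j : ι} (hij : i ≠ j) (s : K) : (w x i j s)⁻¹ = w x i j (-s) :=
  (h.rel_pair hij).W_inv true s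

theorem w_swap {i j : ι} (hij : i ≠ j) {s : K} (hs : s ≠ 0) : w x j i s = w x i j (-s⁻¹) := by
  have h1 := (h.rel_pair hij).W_not true (t := -s⁻¹) (neg_ne_zero.mpr (inv_ne_zero hs))
  have e : -(-s⁻¹)⁻¹ = s := by
    rw [inv_neg, inv_inv, neg_neg]
  rw [e] at h1
  exact h1

variable [Finite K]

theorem exists_phi {i j : ι} (hij : i ≠ j) :
    ∃ Φ : Matrix.SpecialLinearGroup (Fin 2) K →* G,
      (∀ t, Φ (mx (true, t)) = x i j t) ∧ (∀ t, Φ (mx (false, t)) = x j i t) ∧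
      (∀ s (hs : s ≠ 0), Φ (Wm s hs) = w x i j s) ∧
      (∀ c (hc : c ≠ 0), Φ (Dm c hc) = hh x i j c) := by
  obtain ⟨Φ, hΦ⟩ := exists_hom_of_rel (h.rel_pair hij)
  have h1 : ∀ t, Φ (mx (true, t)) = x i j t := fun t => hΦ true t
  have h2 : ∀ t, Φ (mx (false, t)) = x j i t := fun t => hΦ false t
  have h3 : ∀ s (hs : s ≠ 0), Φ (Wm s hs) = w x i j s := by
    intro s hs
    rw [← Wm_eq s hs, map_mul, map_mul, h1, h2]
    rfl
  refine ⟨Φ, h1, h2, h3, ?_⟩
  intro c hc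
  have e : Dm c hc = Wm c hc * (Wm 1 one_ne_zero)⁻¹ := by
    rw [Wm_mul_inv]
    congr 1
    rw [inv_one, mul_one]
  rw [e, map_mul, map_inv, h3, h3]
  rfl

theorem w_mul_w_inv {i j : ι} (hij : i ≠ j) {a b : K} (ha : a ≠ 0) (hb : b ≠ 0) :
    w x i j a * (w x i j b)⁻¹ = hh x i j (a * b⁻¹) := by
  obtain ⟨Φ, -, -, h3, h4⟩ := h.exists_phi hij
  rw [← h3 a ha, ← h3 b hb, ← map_inv, ← map_mul, Wm_mul_inv, h4]

theorem w_mul_hh {i j : ι} (hij : i ≠ j) {a c : K} (ha : a ≠ 0) (hc : c ≠ 0) :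
    w x i j a * hh x i j c = w x i j (a * c⁻¹) := by
  obtain ⟨Φ, -, -, h3, h4⟩ := h.exists_phi hij
  rw [← h3 a ha, ← h4 c hc, ← map_mul, Wm_mul_Dm, h3]

theorem hh_mul {i j : ι} (hij : i ≠ j) {c c' : K} (hc : c ≠ 0) (hc' : c' ≠ 0) :
    hh x i j c * hh x i j c' = hh x i j (c * c') := by
  obtain ⟨Φ, -, -, -, h4⟩ := h.exists_phi hij
  rw [← h4 c hc, ← h4 c' hc', ← map_mul, Dm_mul_Dm, h4]

omit [Finite K] h in
theorem hh_one (i j : ι) : hh x i j 1 = 1 := by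
  unfold hh
  rw [mul_inv_cancel]

theorem hh_inv {i j : ι} (hij : i ≠ j) {c : K} (hc : c ≠ 0) :
    (hh x i j c)⁻¹ = hh x i j c⁻¹ := by
  rw [inv_eq_iff_mul_eq_one, h.hh_mul hij hc (inv_ne_zero hc), mul_inv_cancel₀ hc, StRel.hh_one]

theorem hh_swap {i j : ι} (hij : i ≠ j) {c : K} (hc : c ≠ 0) :
    hh x j i c = hh x i j c⁻¹ := by
  unfold hh
  rw [h.w_swap hij hc, h.w_swap hij one_ne_zero,
    h.w_mul_w_inv hij (neg_ne_zero.mpr (inv_ne_zero hc))
      (neg_ne_zero.mpr (inv_ne_zero one_ne_zero))]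
  unfold hh
  congr 2
  simp

omit [Finite K] in
/-- conjugation by the torus element on `x j k` -/
theorem hh_cj2 (i j k : ι) (c u : K) (hij : i ≠ j) (hik : i ≠ k) (hjk : j ≠ k) (hc : c ≠ 0) :
    MulAut.conj (hh x i j c) (x j k u) = x j k (c⁻¹ * u) := by
  unfold hh
  rw [h.w_inv hij, map_mul, MulAut.mul_apply,
    h.w_cj2 i j k (-1) u hij hik hjk (neg_ne_zero.mpr one_ne_zero),
    h.w_cj1 i j k c (-1 * u) hij hik hjk hc]
  congr 1
  ring

omit [Finite K] in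
/-- conjugation by the torus element on `x k j` -/
theorem hh_cj4 (i j k : ι) (c u : K) (hij : i ≠ j) (hik : i ≠ k) (hjk : j ≠ k) (hc : c ≠ 0) :
    MulAut.conj (hh x i j c) (x k j u) = x k j (c * u) := by
  unfold hh
  rw [h.w_inv hij, map_mul, MulAut.mul_apply,
    h.w_cj4 i j k (-1) u hij hik hjk (neg_ne_zero.mpr one_ne_zero),
    h.w_cj3 i j k c ((-1)⁻¹ * u) hij hik hjk hc]
  congr 1
  rw [inv_neg, inv_one]
  ring

/-- the three term relation between torus elements -/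
theorem hh_three (i j k : ι) (c : K) (hij : i ≠ j) (hik : i ≠ k) (hjk : j ≠ k) (hc : c ≠ 0) :
    hh x i k c = hh x j k c * hh x i j c := by
  have hc1 : (-c) ≠ 0 := neg_ne_zero.mpr hc
  have h1 : (1 : K) ≠ 0 := one_ne_zero
  have hm1 : (-1 : K) ≠ 0 := neg_ne_zero.mpr one_ne_zero
  -- conjugating `w i j s` by `g = w j k 1`
  have hw : ∀ s : K, s ≠ 0 → MulAut.conj (w x j k 1) (w x i j s) = w x i k (-s) := by
    intro s hs
    have e1 : MulAut.conj (w x j k 1) (x i j s) = x i k (-s) := by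
      rw [h.w_cj3 j k i 1 s hjk hij.symm hik.symm h1, one_mul]
    have e2 : MulAut.conj (w x j k 1) (x j i (-s⁻¹)) = x k i (-(-s)⁻¹) := by
      rw [h.w_cj1 j k i 1 (-s⁻¹) hjk hij.symm hik.symm h1]
      congr 1
      rw [inv_one, inv_neg]
      ring
    show MulAut.conj (w x j k 1) (x i j s * x j i (-s⁻¹) * x i j s)
      = x i k (-s) * x k i (-(-s)⁻¹) * x i k (-s)
    rw [map_mul, map_mul, e1, e2]
  have s1 : MulAut.conj (w x j k 1) (hh x i j c) = hh x i k c := by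
    have : hh x i j c = w x i j c * (w x i j 1)⁻¹ := rfl
    rw [this, map_mul, map_inv, hw c hc, hw 1 h1, h.w_mul_w_inv hik hc1 hm1]
    congr 1
    rw [inv_neg, inv_one]
    ring
  have s2 : MulAut.conj (hh x i j c) (w x j k 1) = w x j k c⁻¹ := by
    show MulAut.conj (hh x i j c) (x j k 1 * x k j (-1⁻¹) * x j k 1)
      = x j k c⁻¹ * x k j (-c⁻¹⁻¹) * x j k c⁻¹
    rw [map_mul, map_mul, h.hh_cj2 i j k c 1 hij hik hjk hc,
      h.hh_cj4 i j k c (-1⁻¹) hij hik hjk hc]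
    congr 2
    · rw [mul_one]
    · congr 1
      rw [inv_one, inv_inv]
      ring
    · rw [mul_one]
  have s3 : hh x j k c = w x j k 1 * (w x j k c⁻¹)⁻¹ := by
    rw [h.w_mul_w_inv hjk h1 (inv_ne_zero hc), inv_inv, one_mul]
  rw [← s1, s3, ← s2, MulAut.conj_apply, MulAut.conj_apply]
  group

end StRel

end Cfsg.Agent.Lib.Helper66_StCalc
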