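import Mathlib
import Cfsg.Agent.Lib.Helper66_S92Calc
import Cfsg.Agent.Lib.Helper66_StRank

set_option autoImplicit false
set_option linter.unusedSectionVars false

/-!
Rank one consequences of the Steinberg relations of type `C` over a finite field (helper66): every
pair of opposite root subgroups is the image of `SL₂(K)`; relations between the Weyl elements `WC`
and the torus elements `HC` of one root.
-/

namespace Cfsg.Agent.Lib.Helper66_S92

open Cfsg.Agent.Lib.Helper5_SteinbergA Cfsg.Agent.Lib.Helper5_SLPresA Cfsg.Agent.Lib.Helper66_StCalc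
  Matrix

variable {ι : Type*} {K : Type*} [Field K] {G : Type*} [Group G]
  {X : ι ⊕ ι → ι ⊕ ι → K → G}

theorem Dm_mul_Wm (a c : K) (ha : a ≠ 0) (hc : c ≠ 0) :
    Dm c hc * Wm a ha = Wm (c * a) (mul_ne_zero hc ha) := by
  apply Subtype.ext
  rw [Matrix.SpecialLinearGroup.coe_mul, Wm_coe, Wm_coe, Dm_coe, Matrix.mul_fin_two]
  ext p q
  fin_cases p <;> fin_cases q <;> simp <;> field_simp

theorem Wm_inv (a : K) (ha : a ≠ 0) : (Wm a ha)⁻¹ = Wm (-a) (neg_ne_zero.mpr ha) := by
  apply Subtype.ext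
  rw [Matrix.SpecialLinearGroup.coe_inv, Wm_coe, Wm_coe, Matrix.adjugate_fin_two_of]
  ext p q
  fin_cases p <;> fin_cases q <;> simp [inv_neg]

theorem HC_one (X : ι ⊕ ι → ι ⊕ ι → K → G) (a c : ι ⊕ ι) : HC X a c 1 = 1 := by
  unfold HC
  rw [mul_inv_cancel]

namespace CSt

variable (h : CSt X)
include h

theorem wc_inv (a c : ι ⊕ ι) (hac : c ≠ ng a) (s : K) : (WC X a c s)⁻¹ = WC X a c (-s) :=
  (h.rank1 a c hac).W_inv true s

variable [Finite K]

theorem exists_phiC (a c : ι ⊕ ι) (hac : c ≠ ng a) :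
    ∃ Φ : Matrix.SpecialLinearGroup (Fin 2) K →* G,
      (∀ t, Φ (mx (true, t)) = pairC X a c true t) ∧
      (∀ t, Φ (mx (false, t)) = pairC X a c false t) ∧
      (∀ s (hs : s ≠ 0), Φ (Wm s hs) = WC X a c s) ∧
      (∀ s (hs : s ≠ 0), Φ (Dm s hs) = HC X a c s) := by
  obtain ⟨Φ, hΦ⟩ := exists_hom_of_rel (h.rank1 a c hac)
  have h1 : ∀ t, Φ (mx (true, t)) = pairC X a c true t := fun t => hΦ true t
  have h2 : ∀ t, Φ (mx (false, t)) = pairC X a c false t := fun t => hΦ false t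
  have h3 : ∀ s (hs : s ≠ 0), Φ (Wm s hs) = WC X a c s := by
    intro s hs
    rw [← Wm_eq s hs, map_mul, map_mul, h1, h2]
    rfl
  refine ⟨Φ, h1, h2, h3, ?_⟩
  intro s hs
  have e : Dm s hs = Wm s hs * (Wm 1 one_ne_zero)⁻¹ := by
    rw [Wm_mul_inv]
    congr 1
    rw [inv_one, mul_one]
  rw [e, map_mul, map_inv, h3, h3]
  rfl

theorem wc_mul_inv (a c : ι ⊕ ι) (hac : c ≠ ng a) (s t : K) (hs : s ≠ 0) (ht : t ≠ 0) :
    WC X a c s * (WC X a c t)⁻¹ = HC X a c (s * t⁻¹) := by
  obtain ⟨Φ, -, -, h3, h4⟩ := h.exists_phiC a c hac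
  rw [← h3 s hs, ← h3 t ht, ← map_inv, ← map_mul, Wm_mul_inv, h4]

theorem wc_mul_hc (a c : ι ⊕ ι) (hac : c ≠ ng a) (s t : K) (hs : s ≠ 0) (ht : t ≠ 0) :
    WC X a c s * HC X a c t = WC X a c (s * t⁻¹) := by
  obtain ⟨Φ, -, -, h3, h4⟩ := h.exists_phiC a c hac
  rw [← h3 s hs, ← h4 t ht, ← map_mul, Wm_mul_Dm, h3]

theorem hc_mul_wc (a c : ι ⊕ ι) (hac : c ≠ ng a) (s t : K) (hs : s ≠ 0) (ht : t ≠ 0) :
    HC X a c t * WC X a c s = WC X a c (t * s) := by
  obtain ⟨Φ, -, -, h3, h4⟩ := h.exists_phiC a c hac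
  rw [← h3 s hs, ← h4 t ht, ← map_mul, Dm_mul_Wm, h3]

theorem hc_mul (a c : ι ⊕ ι) (hac : c ≠ ng a) (s t : K) (hs : s ≠ 0) (ht : t ≠ 0) :
    HC X a c s * HC X a c t = HC X a c (s * t) := by
  obtain ⟨Φ, -, -, -, h4⟩ := h.exists_phiC a c hac
  rw [← h4 s hs, ← h4 t ht, ← map_mul, Dm_mul_Dm, h4]

theorem hc_inv (a c : ι ⊕ ι) (hac : c ≠ ng a) (s : K) (hs : s ≠ 0) :
    (HC X a c s)⁻¹ = HC X a c s⁻¹ := by
  rw [inv_eq_iff_mul_eq_one, h.hc_mul a c hac s s⁻¹ hs (inv_ne_zero hs), mul_inv_cancel₀ hs, HC_one]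

omit [Finite K] in
theorem pairC_ng (a c : ι ⊕ ι) (b : Bool) (t : K) :
    pairC X (ng a) (ng c) b t = pairC X a c (!b) (om K a * om K c * t) := by
  cases b
  · show X (ng (ng a)) (ng (ng c)) (om K (ng c) * t) = X a c (-(om K a * (om K a * om K c * t)))
    rw [ng_ng, ng_ng, om_ng]
    congr 1
    have := om_mul_self (K := K) a
    linear_combination (om K c * t) * this
  · show X (ng a) (ng c) (-(om K (ng a) * t)) = X (ng a) (ng c) (om K c * (om K a * om K c * t))
    rw [om_ng]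
    congr 1
    have := om_mul_self (K := K) c
    linear_combination (-(om K a * t)) * this

omit [Finite K] in
theorem wc_ng (a c : ι ⊕ ι) (hac : c ≠ ng a) (s : K) (hs : s ≠ 0) :
    WC X (ng a) (ng c) s = WC X a c (-(om K a * om K c * s⁻¹)) := by
  have hε : om K a * om K c * (om K a * om K c) = 1 := by
    have h1 := om_mul_self (K := K) a
    have h2 := om_mul_self (K := K) c
    linear_combination (om K c * om K c) * h1 + h2
  have hε0 : om K a * om K c ≠ 0 := mul_ne_zero (om_ne_zero a) (om_ne_zero c)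
  have hεinv : (om K a * om K c)⁻¹ = om K a * om K c := (eq_inv_of_mul_eq_one_left hε).symm
  have e1 : WC X (ng a) (ng c) s = W (pairC X a c) false (om K a * om K c * s) := by
    show pairC X (ng a) (ng c) true s * pairC X (ng a) (ng c) false (-s⁻¹) *
      pairC X (ng a) (ng c) true s = pairC X a c false (om K a * om K c * s) *
        pairC X a c (!false) (-(om K a * om K c * s)⁻¹) * pairC X a c false (om K a * om K c * s)
    rw [h.pairC_ng, h.pairC_ng]
    congr 2
    simp only [Bool.not_true, Bool.not_false]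
    congr 1
    rw [mul_inv, hεinv]
    ring
  have ht : (-(om K a * om K c * s⁻¹) : K) ≠ 0 :=
    neg_ne_zero.mpr (mul_ne_zero hε0 (inv_ne_zero hs))
  have e2 := (h.rank1 a c hac).W_not true ht
  have e3 : -(-(om K a * om K c * s⁻¹))⁻¹ = om K a * om K c * s := by
    rw [inv_neg, neg_neg, mul_inv, hεinv, inv_inv]
  rw [e3] at e2
  rw [e1]
  exact e2

omit [Finite K] in
theorem pairC_symm (a c : ι ⊕ ι) (b : Bool) (t : K) :
    pairC X c a b t = pairC X a c b (om K a * om K c * t) := by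
  cases b
  · show X (ng c) (ng a) (om K a * t) = X (ng a) (ng c) (om K c * (om K a * om K c * t))
    rw [h.symm]
    congr 1
    have := om_mul_self (K := K) c
    linear_combination (-(om K a * t)) * this
  · show X c a (-(om K c * t)) = X a c (-(om K a * (om K a * om K c * t)))
    rw [h.symm]
    congr 1
    have := om_mul_self (K := K) a
    linear_combination (om K c * t) * this

omit [Finite K] in
theorem wc_symm (a c : ι ⊕ ι) (s : K) :
    WC X c a s = WC X a c (om K a * om K c * s) := by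
  have hε : om K a * om K c * (om K a * om K c) = 1 := by
    have h1 := om_mul_self (K := K) a
    have h2 := om_mul_self (K := K) c
    linear_combination (om K c * om K c) * h1 + h2
  have hε0 : om K a * om K c ≠ 0 := mul_ne_zero (om_ne_zero a) (om_ne_zero c)
  have hεinv : (om K a * om K c)⁻¹ = om K a * om K c := (eq_inv_of_mul_eq_one_left hε).symm
  show pairC X c a true s * pairC X c a false (-s⁻¹) * pairC X c a true s =
    pairC X a c true (om K a * om K c * s) * pairC X a c false (-(om K a * om K c * s)⁻¹) *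
      pairC X a c true (om K a * om K c * s)
  rw [h.pairC_symm a c true s, h.pairC_symm a c false (-s⁻¹)]
  have e : om K a * om K c * -s⁻¹ = -(om K a * om K c * s)⁻¹ := by
    rw [mul_inv, hεinv]
    ring
  rw [e]

theorem hc_ng (a c : ι ⊕ ι) (hac : c ≠ ng a) (s : K) (hs : s ≠ 0) :
    HC X (ng a) (ng c) s = HC X a c s⁻¹ := by
  have hε0 : om K a * om K c ≠ 0 := mul_ne_zero (om_ne_zero a) (om_ne_zero c)
  unfold HC
  rw [h.wc_ng a c hac s hs, h.wc_ng a c hac 1 one_ne_zero]
  have e := h.wc_mul_inv a c hac (-(om K a * om K c * s⁻¹)) (-(om K a * om K c * 1⁻¹))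
    (neg_ne_zero.mpr (mul_ne_zero hε0 (inv_ne_zero hs)))
    (neg_ne_zero.mpr (mul_ne_zero hε0 (inv_ne_zero one_ne_zero)))
  unfold HC at e
  rw [e]
  congr 2
  have e2 : -(om K a * om K c * s⁻¹) * (-(om K a * om K c * 1⁻¹))⁻¹ =
      s⁻¹ * ((om K a * om K c) * (om K a * om K c)⁻¹) := by
    rw [inv_one, mul_one, inv_neg]
    ring
  rw [e2, mul_inv_cancel₀ hε0, mul_one]

theorem hc_symm (a c : ι ⊕ ι) (hac : c ≠ ng a) (s : K) (hs : s ≠ 0) :
    HC X c a s = HC X a c s := by
  have hε0 : om K a * om K c ≠ 0 := mul_ne_zero (om_ne_zero a) (om_ne_zero c)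
  unfold HC
  rw [h.wc_symm a c s, h.wc_symm a c 1]
  have e := h.wc_mul_inv a c hac (om K a * om K c * s) (om K a * om K c * 1)
    (mul_ne_zero hε0 hs) (mul_ne_zero hε0 one_ne_zero)
  unfold HC at e
  rw [e]
  congr 2
  have e2 : om K a * om K c * s * (om K a * om K c * 1)⁻¹ =
      s * ((om K a * om K c) * (om K a * om K c)⁻¹) := by
    rw [mul_one]
    ring
  rw [e2, mul_inv_cancel₀ hε0, mul_one]

end CSt

end Cfsg.Agent.Lib.Helper66_S92
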