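import Mathlib
import Cfsg.Agent.Lib.Helper66_S96Calc
import Cfsg.Agent.Lib.Helper66_S92Rank

set_option autoImplicit false
set_option linter.unusedSectionVars false

/-!
Rank one consequences of the Steinberg relations of type `D` over a finite field (helper66): every
pair of opposite root subgroups is the image of `SL₂(K)`; relations between the Weyl elements `WD`
and the torus elements `HD` of one root.
-/

namespace Cfsg.Agent.Lib.Helper66_S96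

open Cfsg.Agent.Lib.Helper5_SteinbergA Cfsg.Agent.Lib.Helper5_SLPresA Cfsg.Agent.Lib.Helper66_StCalc
  Cfsg.Agent.Lib.Helper66_S92 Matrix

variable {ι : Type*} {K : Type*} [Field K] {G : Type*} [Group G]
  {X : ι ⊕ ι → ι ⊕ ι → K → G}

namespace DSt

variable (h : DSt X)
include h

theorem wd_inv (a c : ι ⊕ ι) (h1 : c ≠ a) (h2 : c ≠ ng a) (s : K) :
    (WD X a c s)⁻¹ = WD X a c (-s) :=
  (h.rank1 a c h1 h2).W_inv true s

omit h in
theorem pairD_ng (a c : ι ⊕ ι) (b : Bool) (t : K) :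
    pairD X (ng a) (ng c) b t = pairD X a c (!b) (-t) := by
  cases b
  · show X (ng (ng a)) (ng (ng c)) (-t) = X a c (-t)
    rw [ng_ng, ng_ng]
  · show X (ng a) (ng c) t = X (ng a) (ng c) (- -t)
    rw [neg_neg]

theorem pairD_anti (a c : ι ⊕ ι) (b : Bool) (t : K) :
    pairD X c a b t = pairD X a c b (-t) := by
  cases b
  · show X (ng c) (ng a) (-t) = X (ng a) (ng c) (- -t)
    rw [h.anti (ng a) (ng c)]
  · show X c a t = X a c (-t)
    rw [h.anti a c]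

theorem wd_ng (a c : ι ⊕ ι) (h1 : c ≠ a) (h2 : c ≠ ng a) (s : K) (hs : s ≠ 0) :
    WD X (ng a) (ng c) s = WD X a c s⁻¹ := by
  have e1 : WD X (ng a) (ng c) s = W (pairD X a c) false (-s) := by
    show pairD X (ng a) (ng c) true s * pairD X (ng a) (ng c) false (-s⁻¹) *
      pairD X (ng a) (ng c) true s = pairD X a c false (-s) *
        pairD X a c (!false) (-(-s)⁻¹) * pairD X a c false (-s)
    rw [pairD_ng, pairD_ng]
    simp only [Bool.not_true, Bool.not_false, inv_neg, neg_neg]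
  have e2 := (h.rank1 a c h1 h2).W_not true (inv_ne_zero hs)
  rw [inv_inv] at e2
  rw [e1]
  exact e2

theorem wd_anti (a c : ι ⊕ ι) (s : K) : WD X c a s = WD X a c (-s) := by
  show pairD X c a true s * pairD X c a false (-s⁻¹) * pairD X c a true s =
    pairD X a c true (-s) * pairD X a c false (-(-s)⁻¹) * pairD X a c true (-s)
  rw [h.pairD_anti a c true s, h.pairD_anti a c false (-s⁻¹), inv_neg]

variable [Finite K]

theorem exists_phiD (a c : ι ⊕ ι) (h1 : c ≠ a) (h2 : c ≠ ng a) :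
    ∃ Φ : Matrix.SpecialLinearGroup (Fin 2) K →* G,
      (∀ t, Φ (mx (true, t)) = pairD X a c true t) ∧
      (∀ t, Φ (mx (false, t)) = pairD X a c false t) ∧
      (∀ s (hs : s ≠ 0), Φ (Wm s hs) = WD X a c s) ∧
      (∀ s (hs : s ≠ 0), Φ (Dm s hs) = HD X a c s) := by
  obtain ⟨Φ, hΦ⟩ := exists_hom_of_rel (h.rank1 a c h1 h2)
  have e1 : ∀ t, Φ (mx (true, t)) = pairD X a c true t := fun t => hΦ true t
  have e2 : ∀ t, Φ (mx (false, t)) = pairD X a c false t := fun t => hΦ false t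
  have e3 : ∀ s (hs : s ≠ 0), Φ (Wm s hs) = WD X a c s := by
    intro s hs
    rw [← Wm_eq s hs, map_mul, map_mul, e1, e2]
    rfl
  refine ⟨Φ, e1, e2, e3, ?_⟩
  intro s hs
  have e : Dm s hs = Wm s hs * (Wm 1 one_ne_zero)⁻¹ := by
    rw [Wm_mul_inv]
    congr 1
    rw [inv_one, mul_one]
  rw [e, map_mul, map_inv, e3, e3]
  rfl

theorem wd_mul_inv (a c : ι ⊕ ι) (h1 : c ≠ a) (h2 : c ≠ ng a) (s t : K) (hs : s ≠ 0) (ht : t ≠ 0) :
    WD X a c s * (WD X a c t)⁻¹ = HD X a c (s * t⁻¹) := by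
  obtain ⟨Φ, -, -, h3, h4⟩ := h.exists_phiD a c h1 h2
  rw [← h3 s hs, ← h3 t ht, ← map_inv, ← map_mul, Wm_mul_inv, h4]

theorem wd_mul_hd (a c : ι ⊕ ι) (h1 : c ≠ a) (h2 : c ≠ ng a) (s t : K) (hs : s ≠ 0) (ht : t ≠ 0) :
    WD X a c s * HD X a c t = WD X a c (s * t⁻¹) := by
  obtain ⟨Φ, -, -, h3, h4⟩ := h.exists_phiD a c h1 h2
  rw [← h3 s hs, ← h4 t ht, ← map_mul, Wm_mul_Dm, h3]

theorem hd_mul_wd (a c : ι ⊕ ι) (h1 : c ≠ a) (h2 : c ≠ ng a) (s t : K) (hs : s ≠ 0) (ht : t ≠ 0) :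
    HD X a c t * WD X a c s = WD X a c (t * s) := by
  obtain ⟨Φ, -, -, h3, h4⟩ := h.exists_phiD a c h1 h2
  rw [← h3 s hs, ← h4 t ht, ← map_mul, Dm_mul_Wm, h3]

theorem hd_mul (a c : ι ⊕ ι) (h1 : c ≠ a) (h2 : c ≠ ng a) (s t : K) (hs : s ≠ 0) (ht : t ≠ 0) :
    HD X a c s * HD X a c t = HD X a c (s * t) := by
  obtain ⟨Φ, -, -, -, h4⟩ := h.exists_phiD a c h1 h2
  rw [← h4 s hs, ← h4 t ht, ← map_mul, Dm_mul_Dm, h4]

theorem hd_inv (a c : ι ⊕ ι) (h1 : c ≠ a) (h2 : c ≠ ng a) (s : K) (hs : s ≠ 0) :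
    (HD X a c s)⁻¹ = HD X a c s⁻¹ := by
  rw [inv_eq_iff_mul_eq_one, h.hd_mul a c h1 h2 s s⁻¹ hs (inv_ne_zero hs), mul_inv_cancel₀ hs, HD_one]

/-- `HD X a c s` written with the Weyl element of parameter `-1` -/
theorem hd_eq (a c : ι ⊕ ι) (h1 : c ≠ a) (h2 : c ≠ ng a) (s : K) :
    HD X a c s = WD X a c s * WD X a c (-1) := by
  unfold HD
  rw [h.wd_inv a c h1 h2 1]

theorem wd_one_sq (a c : ι ⊕ ι) (h1 : c ≠ a) (h2 : c ≠ ng a) :
    WD X a c 1 * WD X a c 1 = HD X a c (-1) := by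
  have e : WD X a c 1 = (WD X a c (-1))⁻¹ := by
    rw [h.wd_inv a c h1 h2 (-1), neg_neg]
  conv_lhs => rw [e]
  conv_lhs => rw [← e]
  have := h.wd_mul_inv a c h1 h2 1 (-1) one_ne_zero (neg_ne_zero.mpr one_ne_zero)
  rw [← e] at this
  rw [this, inv_neg, inv_one, mul_neg, mul_one]

theorem hd_ng (a c : ι ⊕ ι) (h1 : c ≠ a) (h2 : c ≠ ng a) (s : K) (hs : s ≠ 0) :
    HD X (ng a) (ng c) s = HD X a c s⁻¹ := by
  unfold HD
  rw [h.wd_ng a c h1 h2 s hs, h.wd_ng a c h1 h2 1 one_ne_zero, inv_one]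

theorem hd_symm (a c : ι ⊕ ι) (h1 : c ≠ a) (h2 : c ≠ ng a) (s : K) (hs : s ≠ 0) :
    HD X c a s = HD X a c s := by
  have hm : (-1 : K) ≠ 0 := neg_ne_zero.mpr one_ne_zero
  unfold HD
  rw [h.wd_anti a c s, h.wd_anti a c 1]
  have e := h.wd_mul_inv a c h1 h2 (-s) (-1) (neg_ne_zero.mpr hs) hm
  unfold HD at e
  rw [e]
  congr 2
  rw [inv_neg, inv_one, neg_mul_neg, mul_one]

end DSt

end Cfsg.Agent.Lib.Helper66_S96
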