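import Mathlib
import Cfsg.Prelude.Def_KGroupFacts
import Cfsg.Agent.Lib.Helper66_S96Rank
import Cfsg.Agent.Lib.Helper66_S96Defs2
import Cfsg.Agent.Lib.Helper81_UceA

set_option autoImplicit false
set_option linter.unusedVariables false

/-!
Market `s96_packages` wave 2 (helper66, S2096 / S2097), package D_PERF: a group generated by a
`DStAB` family (at least three indices) is perfect, and the elements `zD` are central.  (helper39)
-/

namespace Cfsg.Agent.Lib.Helper66_S96

open Cfsg.Agent.Lib.Helper5_SteinbergA Cfsg.Agent.Lib.Helper66_S92 Cfsg.Agent.Lib.Helper81_UceA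

universe u v

section abstract

variable {ι : Type*} [DecidableEq ι] {K : Type*} [Field K] {G : Type*} [Group G]
  {X : ι ⊕ ι → ι ⊕ ι → K → G}

/-- the underlying index -/
def h39_idx {ι : Type*} : ι ⊕ ι → ι := Sum.elim id id

theorem h39_idx_ng {ι : Type*} (a : ι ⊕ ι) : h39_idx (ng a) = h39_idx a := by
  cases a <;> rfl

theorem h39_ne_of_idx {ι : Type*} {a c : ι ⊕ ι} (h : h39_idx a ≠ h39_idx c) :
    a ≠ c ∧ a ≠ ng c := by
  constructor
  · rintro rfl
    exact h rfl
  · rintro rfl
    exact h (h39_idx_ng c)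

/-- a third index -/
theorem h39_exists_third {ι : Type*} [DecidableEq ι] [Fintype ι] (h3 : 3 ≤ Fintype.card ι)
    (i j : ι) : ∃ k : ι, k ≠ i ∧ k ≠ j := by
  by_contra hcon
  push Not at hcon
  have hsub : (Finset.univ : Finset ι) ⊆ {i, j} := by
    intro k _
    by_cases hk : k = i
    · simp [hk]
    · simp [hcon k hk]
  have := Finset.card_le_card hsub
  have h2 : ({i, j} : Finset ι).card ≤ 2 := Finset.card_le_two
  rw [Finset.card_univ] at this
  omega

/-! ## D_PERF : perfectness, and the elements `zD` are central -/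

theorem commutator_eq_top_of_dStAB [Fintype ι] (h3 : 3 ≤ Fintype.card ι) (h : DStAB X)
    (hgen : Subgroup.closure {g | ∃ a c t, g = X a c t} = ⊤) : commutator G = ⊤ := by
  rw [eq_top_iff, ← hgen, Subgroup.closure_le]
  rintro g ⟨a, e, v, rfl⟩
  by_cases he1 : e = a
  · rw [he1, h.diag]
    exact Subgroup.one_mem _
  by_cases he2 : e = ng a
  · rw [he2, h.opp]
    exact Subgroup.one_mem _
  obtain ⟨k, hka, hke⟩ := h39_exists_third h3 (h39_idx a) (h39_idx e)
  have hac := h39_ne_of_idx (a := a) (c := Sum.inl k) (fun hh => hka hh.symm)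
  have hce := h39_ne_of_idx (a := Sum.inl k) (c := e) (fun hh => hke hh)
  have hae1 : a ≠ e := fun hh => he1 hh.symm
  have hae2 : a ≠ ng e := by
    intro hh
    apply he2
    rw [hh, ng_ng]
  have key := h.a2 a (Sum.inl k) e 1 v hac.1 hac.2 hae1 hae2 hce.1 hce.2
  rw [one_mul] at key
  rw [← key]
  exact Subgroup.commutator_mem_commutator (Subgroup.mem_top _) (Subgroup.mem_top _)

theorem h39_chD_neg_one (a c d : ι ⊕ ι) :
    chD a c (-1 : K) d * chD a (ng c) (-1 : K) d = 1 := by
  unfold chD
  rw [ng_ng]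
  have hinv : ((-1 : K))⁻¹ = -1 := by
    rw [inv_neg, inv_one]
  by_cases h1 : d = a
  · simp [h1]
  by_cases h2 : d = c
  · simp [h2]
  by_cases h3 : d = ng a
  · simp [h3, hinv]
  by_cases h4 : d = ng c
  · simp [h4, hinv]
  simp [h1, h2, h3, h4]

theorem zD_mem_center (h : DSt X) (C : WCalcD X)
    (hgen : Subgroup.closure {g | ∃ a c t, g = X a c t} = ⊤) (a c : ι ⊕ ι) (h1 : c ≠ a)
    (h2 : c ≠ ng a) : zD X a c ∈ Subgroup.center G := by
  have hn1 : (-1 : K) ≠ 0 := neg_ne_zero.mpr one_ne_zero
  have h1' : ng c ≠ a := by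
    intro hh
    apply h2
    rw [← hh, ng_ng]
  have h2' : ng c ≠ ng a := by
    intro hh
    apply h1
    have := congrArg ng hh
    rwa [ng_ng, ng_ng] at this
  -- `zD` commutes with the generators
  have hconj : ∀ d e u, zD X a c * X d e u * (zD X a c)⁻¹ = X d e u := by
    intro d e u
    unfold zD
    have e1 := C.hd_conj a (ng c) h1' h2' (-1) hn1 d e u
    have e2 := C.hd_conj a c h1 h2 (-1) hn1 d e
      (chD a (ng c) (-1 : K) d * chD a (ng c) (-1 : K) e * u)
    calc HD X a c (-1) * HD X a (ng c) (-1) * X d e u * (HD X a c (-1) * HD X a (ng c) (-1))⁻¹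
        = HD X a c (-1) * (HD X a (ng c) (-1) * X d e u * (HD X a (ng c) (-1))⁻¹) *
            (HD X a c (-1))⁻¹ := by group
      _ = X d e (chD a c (-1 : K) d * chD a c (-1 : K) e *
            (chD a (ng c) (-1 : K) d * chD a (ng c) (-1 : K) e * u)) := by rw [e1, e2]
      _ = X d e u := by
          congr 1
          have k1 := h39_chD_neg_one (K := K) a c d
          have k2 := h39_chD_neg_one (K := K) a c e
          calc chD a c (-1 : K) d * chD a c (-1 : K) e *
                (chD a (ng c) (-1 : K) d * chD a (ng c) (-1 : K) e * u)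
              = (chD a c (-1 : K) d * chD a (ng c) (-1 : K) d) *
                (chD a c (-1 : K) e * chD a (ng c) (-1 : K) e) * u := by ring
            _ = u := by rw [k1, k2, one_mul, one_mul]
  have hle : Subgroup.closure {g | ∃ a c t, g = X a c t} ≤
      Subgroup.centralizer ({zD X a c} : Set G) := by
    rw [Subgroup.closure_le]
    rintro g ⟨d, e, u, rfl⟩
    rw [SetLike.mem_coe, Subgroup.mem_centralizer_iff]
    intro z hz
    rw [Set.mem_singleton_iff.mp hz]
    have := hconj d e u
    rw [mul_inv_eq_iff_eq_mul] at this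
    exact this
  rw [hgen] at hle
  rw [Subgroup.mem_center_iff]
  intro g
  have := (Subgroup.mem_centralizer_iff.mp (hle (Subgroup.mem_top g))) (zD X a c) rfl
  exact this.symm

theorem zD_eq_one_of_neg_one_eq (X : ι ⊕ ι → ι ⊕ ι → K → G) (h2 : (-1 : K) = 1) (a c : ι ⊕ ι) :
    zD X a c = 1 := by
  unfold zD HD
  rw [h2, mul_inv_cancel, mul_inv_cancel, one_mul]

end abstract

end Cfsg.Agent.Lib.Helper66_S96
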