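import Mathlib
import Cfsg.Agent.Lib.Helper44_ReflProd
import Cfsg.Agent.Lib.Helper44_StdForms

set_option autoImplicit false

/-!
For the hyperbolic form `Σ x_i y_i`: the matrix interchanging `x_i ↔ y_i` for all `i` is the product of the `m`
reflections in `e_i - f_i`, whose norms are all `-1` (helper44).  Any characteristic.
-/

namespace Cfsg.Agent.Lib.Helper44_SwapPairs

open Cfsg Matrix Cfsg.Agent.Lib.Helper44_Refl Cfsg.Agent.Lib.Helper44_ReflProd
  Cfsg.Agent.Lib.Helper44_StdForms

variable (m : ℕ) (F : Type*) [Field F]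

/-- The index of the hyperbolic pair a coordinate belongs to. -/
def idx : Fin m ⊕ Fin m → ℕ := Sum.elim (fun j => (j : ℕ)) (fun j => (j : ℕ))

/-- The matrix interchanging `x_i ↔ y_i` for `i < k`. -/
def swapK (k : ℕ) : Matrix (Fin m ⊕ Fin m) (Fin m ⊕ Fin m) F :=
  Matrix.of fun a b =>
    if idx m a < k then (if b = a.swap then (1 : F) else 0) else (if b = a then 1 else 0)

theorem swapK_mulVec (k : ℕ) (x : Fin m ⊕ Fin m → F) (a : Fin m ⊕ Fin m) :
    (swapK m F k *ᵥ x) a = if idx m a < k then x a.swap else x a := by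
  simp only [Matrix.mulVec, dotProduct, swapK, Matrix.of_apply]
  split_ifs with h
  · simp
  · simp

theorem swapK_zero : swapK m F 0 = 1 := by
  apply matrix_ext_mulVec
  intro x
  funext a
  rw [swapK_mulVec, Matrix.one_mulVec]
  simp

theorem swapK_top : swapK m F m = Matrix.fromBlocks 0 1 1 0 := by
  ext a b
  rcases a with a | a <;> rcases b with b | b <;>
    simp [swapK, idx, Matrix.one_apply, eq_comm]

theorem polar_single_inl (j : Fin m) (x : Fin m ⊕ Fin m → F) :
    QuadraticMap.polar (⇑(qfPlus m F)) (Pi.single (Sum.inl j) 1) x = x (Sum.inr j) := by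
  rw [coe_qfPlus, polar_quadFormPlus]
  simp [Pi.single_apply]

theorem polar_single_inr (j : Fin m) (x : Fin m ⊕ Fin m → F) :
    QuadraticMap.polar (⇑(qfPlus m F)) (Pi.single (Sum.inr j) 1) x = x (Sum.inl j) := by
  rw [coe_qfPlus, polar_quadFormPlus]
  simp [Pi.single_apply]

theorem qfPlus_single_inl (j : Fin m) : qfPlus m F (Pi.single (Sum.inl j) 1) = 0 := by
  rw [coe_qfPlus]; simp [Cfsg.quadFormPlus]

theorem qfPlus_single_inr (j : Fin m) : qfPlus m F (Pi.single (Sum.inr j) 1) = 0 := by
  rw [coe_qfPlus]; simp [Cfsg.quadFormPlus]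

theorem qfPlus_sub (j : Fin m) :
    qfPlus m F (Pi.single (Sum.inl j) 1 - Pi.single (Sum.inr j) 1) = -1 := by
  have := map_sub_smul (qfPlus m F) (Pi.single (Sum.inr j) 1) (Pi.single (Sum.inl j) 1) 1
  simp only [one_smul, one_mul, mul_one] at this
  rw [this, qfPlus_single_inl, qfPlus_single_inr, polar_single_inr]
  simp

/-- The reflection in `e_j - f_j` interchanges the coordinates `x_j` and `y_j`. -/
theorem refl_sub_mulVec (j : Fin m) (x : Fin m ⊕ Fin m → F) (a : Fin m ⊕ Fin m) :
    (Cfsg.reflectionMatrix (⇑(qfPlus m F)) (Pi.single (Sum.inl j) 1 - Pi.single (Sum.inr j) 1)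
      *ᵥ x) a = if idx m a = j then x a.swap else x a := by
  rw [reflectionMatrix_mulVec, qfPlus_sub, QuadraticMap.polar_sub_left, polar_single_inl,
    polar_single_inr]
  have hinv : ((-1 : F))⁻¹ = -1 := by norm_num
  rw [hinv]
  rcases a with a | a
  · simp only [Pi.sub_apply, Pi.smul_apply, smul_eq_mul, Pi.single_apply, idx, Sum.elim_inl,
      Sum.swap_inl, Sum.inl.injEq, reduceCtorEq, if_false, sub_zero]
    by_cases h : a = j
    · subst h; simp
    · have h' : ¬ (a : ℕ) = (j : ℕ) := fun hh => h (Fin.ext hh)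
      simp [h, h']
  · simp only [Pi.sub_apply, Pi.smul_apply, smul_eq_mul, Pi.single_apply, idx, Sum.elim_inr,
      Sum.swap_inr, Sum.inr.injEq, reduceCtorEq, if_false, zero_sub]
    by_cases h : a = j
    · subst h; simp
    · have h' : ¬ (a : ℕ) = (j : ℕ) := fun hh => h (Fin.ext hh)
      simp [h, h']

theorem idx_swap (a : Fin m ⊕ Fin m) : idx m a.swap = idx m a := by
  rcases a with a | a <;> rfl

/-- The matrix interchanging the first `k` hyperbolic pairs is a product of `k` reflections of norm `-1`. -/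
theorem swapK_isReflProd (k : ℕ) (hk : k ≤ m) :
    IsReflProd (qfPlus m F) (swapK m F k) k ((-1) ^ k) := by
  induction k with
  | zero =>
    rw [swapK_zero]
    exact (IsReflProd.one _).congr rfl rfl (by simp)
  | succ i ih =>
    have him : i < m := hk
    set j₀ : Fin m := ⟨i, him⟩ with hj₀
    have hne : qfPlus m F (Pi.single (Sum.inl j₀) 1 - Pi.single (Sum.inr j₀) 1) ≠ 0 := by
      rw [qfPlus_sub]; simp
    have hstep : swapK m F (i + 1)
        = Cfsg.reflectionMatrix (⇑(qfPlus m F))
            (Pi.single (Sum.inl j₀) 1 - Pi.single (Sum.inr j₀) 1) * swapK m F i := by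
      apply matrix_ext_mulVec
      intro x
      funext a
      rw [← Matrix.mulVec_mulVec, refl_sub_mulVec, swapK_mulVec, swapK_mulVec, swapK_mulVec,
        idx_swap, Sum.swap_swap]
      have hj : (j₀ : ℕ) = i := rfl
      rw [hj]
      by_cases h1 : idx m a = i
      · have h2 : ¬ idx m a < i := by omega
        have h3 : idx m a < i + 1 := by omega
        rw [if_pos h1, if_neg h2, if_pos h3]
      · by_cases h2 : idx m a < i
        · have h3 : idx m a < i + 1 := by omega
          rw [if_neg h1, if_pos h2, if_pos h3]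
        · have h3 : ¬ idx m a < i + 1 := by omega
          rw [if_neg h1, if_neg h2, if_neg h3]
    rw [hstep]
    refine ((IsReflProd.refl _ hne).mul (ih (by omega))).congr rfl (by ring) ?_
    rw [qfPlus_sub, pow_succ]
    ring

/-- The full interchange `x ↔ y` is a product of `m` reflections with norms multiplying to `(-1)^m`. -/
theorem swap_isReflProd :
    IsReflProd (qfPlus m F) (Matrix.fromBlocks 0 1 1 0) m ((-1) ^ m) := by
  rw [← swapK_top]
  exact swapK_isReflProd m F m le_rfl

end Cfsg.Agent.Lib.Helper44_SwapPairs
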