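import Mathlib
import Cfsg.Agent.Lib.Helper44_OmegaOdd
import Cfsg.Agent.Lib.Helper44_SwapPairs

set_option autoImplicit false

/-!
The Levi subgroup `diag(A, A⁻ᵀ)` of the orthogonal group of the hyperbolic form `Σ x_i y_i` (helper44):
the homomorphism `leviHom : GL_m(F) → O⁺_{2m}(F)` and, in odd characteristic, the spinor character of its
elements: `θ (diag(A, A⁻ᵀ)) = 1` iff `det A` is a square.
-/

namespace Cfsg.Agent.Lib.Helper44_Levi

open Cfsg Matrix Cfsg.Agent.Lib.Helper44_Orth Cfsg.Agent.Lib.Helper44_Refl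
  Cfsg.Agent.Lib.Helper44_Spinor Cfsg.Agent.Lib.Helper44_ReflProd Cfsg.Agent.Lib.Helper44_StdForms
  Cfsg.Agent.Lib.Helper44_SwapPairs Cfsg.Agent.Lib.Helper44_OmegaOdd Cfsg.Agent.Lib.Helper44_FinSq

variable (m : ℕ) (F : Type*) [Field F]

/-- The block matrix `diag(A, Bᵀ)`. -/
def blk (A B : Matrix (Fin m) (Fin m) F) : Matrix (Fin m ⊕ Fin m) (Fin m ⊕ Fin m) F :=
  Matrix.fromBlocks A 0 0 Bᵀ

theorem blk_mul (A B A' B' : Matrix (Fin m) (Fin m) F) :
    blk m F A B * blk m F A' B' = blk m F (A * A') (B' * B) := by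
  simp [blk, Matrix.fromBlocks_multiply, Matrix.transpose_mul]

theorem blk_one : blk m F 1 1 = 1 := by
  simp [blk]

/-- `diag(A, A⁻ᵀ)` as an invertible matrix. -/
def leviGL (A : GL (Fin m) F) : GL (Fin m ⊕ Fin m) F where
  val := blk m F A.1 (A⁻¹).1
  inv := blk m F (A⁻¹).1 A.1
  val_inv := by
    rw [blk_mul, ← Units.val_mul, mul_inv_cancel]
    exact blk_one m F
  inv_val := by
    rw [blk_mul, ← Units.val_mul, inv_mul_cancel]
    exact blk_one m F

theorem leviGL_coe (A : GL (Fin m) F) :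
    ((leviGL m F A : GL (Fin m ⊕ Fin m) F) : Matrix (Fin m ⊕ Fin m) (Fin m ⊕ Fin m) F)
      = Matrix.fromBlocks (A : Matrix (Fin m) (Fin m) F) 0 0
          ((A : Matrix (Fin m) (Fin m) F)⁻¹).transpose := by
  rw [← Matrix.coe_units_inv]
  rfl

theorem quadFormPlus_eq_dot (v : Fin m ⊕ Fin m → F) :
    Cfsg.quadFormPlus m F v = (v ∘ Sum.inl) ⬝ᵥ (v ∘ Sum.inr) := by
  simp [Cfsg.quadFormPlus, dotProduct]

theorem blk_isometry (A B : Matrix (Fin m) (Fin m) F) (h : B * A = 1) (v : Fin m ⊕ Fin m → F) :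
    Cfsg.quadFormPlus m F (blk m F A B *ᵥ v) = Cfsg.quadFormPlus m F v := by
  rw [quadFormPlus_eq_dot, quadFormPlus_eq_dot, blk, Matrix.fromBlocks_mulVec]
  simp only [Matrix.zero_mulVec, add_zero, zero_add]
  have h1 : (Sum.elim (A *ᵥ (v ∘ Sum.inl)) (Bᵀ *ᵥ (v ∘ Sum.inr)) : Fin m ⊕ Fin m → F) ∘ Sum.inl
      = A *ᵥ (v ∘ Sum.inl) := by
    funext i; simp
  have h3 : (Sum.elim (A *ᵥ (v ∘ Sum.inl)) (Bᵀ *ᵥ (v ∘ Sum.inr)) : Fin m ⊕ Fin m → F) ∘ Sum.inr
      = Bᵀ *ᵥ (v ∘ Sum.inr) := by
    funext i; simp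
  rw [h1, h3, Matrix.dotProduct_mulVec, Matrix.vecMul_transpose, Matrix.mulVec_mulVec, h,
    Matrix.one_mulVec]

theorem leviGL_mem (A : GL (Fin m) F) :
    leviGL m F A ∈ Cfsg.isometryGroup F (⇑(qfPlus m F)) := by
  rw [mem_isometryGroup_iff]
  intro u
  rw [coe_qfPlus]
  apply blk_isometry
  rw [← Units.val_mul, inv_mul_cancel]
  rfl

/-- The Levi homomorphism `A ↦ diag(A, A⁻ᵀ)`. -/
def leviHom : GL (Fin m) F →* ↥(Cfsg.isometryGroup F (⇑(qfPlus m F))) where
  toFun A := ⟨leviGL m F A, leviGL_mem m F A⟩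
  map_one' := by
    apply Subtype.ext
    apply Units.ext
    change blk m F (1 : GL (Fin m) F).1 ((1 : GL (Fin m) F)⁻¹).1 = 1
    rw [inv_one]
    exact blk_one m F
  map_mul' A B := by
    apply Subtype.ext
    apply Units.ext
    change blk m F (A * B).1 ((A * B)⁻¹).1 = blk m F A.1 (A⁻¹).1 * blk m F B.1 (B⁻¹).1
    rw [blk_mul, _root_.mul_inv_rev]
    rfl

theorem leviHom_coe (A : GL (Fin m) F) :
    ((leviHom m F A : GL (Fin m ⊕ Fin m) F) : Matrix (Fin m ⊕ Fin m) (Fin m ⊕ Fin m) F)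
      = Matrix.fromBlocks (A : Matrix (Fin m) (Fin m) F) 0 0
          ((A : Matrix (Fin m) (Fin m) F)⁻¹).transpose :=
  leviGL_coe m F A

theorem det_leviHom (A : GL (Fin m) F) :
    ((leviHom m F A : GL (Fin m ⊕ Fin m) F) : Matrix (Fin m ⊕ Fin m) (Fin m ⊕ Fin m) F).det = 1 := by
  change (blk m F A.1 (A⁻¹).1).det = 1
  rw [blk, Matrix.det_fromBlocks_zero₁₂, Matrix.det_transpose, ← Matrix.det_mul, ← Units.val_mul,
    mul_inv_cancel]
  simp


theorem nondegenerate_qfPlus : (QuadraticMap.polarBilin (qfPlus m F)).Nondegenerate := by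
  refine (LinearMap.BilinForm.nondegenerate_iff_det_ne_zero (Pi.basisFun F (Fin m ⊕ Fin m))).mpr ?_
  have : LinearMap.BilinForm.toMatrix (Pi.basisFun F (Fin m ⊕ Fin m))
      (QuadraticMap.polarBilin (qfPlus m F))
      = Matrix.of (fun i j : Fin m ⊕ Fin m =>
          QuadraticMap.polar (Cfsg.quadFormPlus m F) (Pi.single i 1) (Pi.single j 1)) := by
    ext i j
    simp [LinearMap.BilinForm.toMatrix_apply, coe_qfPlus]
  rw [this, det_gram_quadFormPlus]
  exact pow_ne_zero _ (neg_ne_zero.mpr one_ne_zero)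

/-! ### Scaled swaps and diagonal elements -/

theorem qfPlus_sub_smul (j : Fin m) (d : F) :
    qfPlus m F (Pi.single (Sum.inl j) 1 - d • Pi.single (Sum.inr j) 1) = -d := by
  rw [map_sub_smul, qfPlus_single_inl, qfPlus_single_inr, polar_single_inr]
  simp

/-- The reflection in `e_j - d f_j` maps `(x_j, y_j)` to `(d⁻¹ y_j, d x_j)`. -/
theorem refl_sub_smul_mulVec (j : Fin m) {d : F} (hd : d ≠ 0) (x : Fin m ⊕ Fin m → F)
    (a : Fin m ⊕ Fin m) :
    (Cfsg.reflectionMatrix (⇑(qfPlus m F))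
        (Pi.single (Sum.inl j) 1 - d • Pi.single (Sum.inr j) 1) *ᵥ x) a
      = if a = Sum.inl j then d⁻¹ * x (Sum.inr j)
        else if a = Sum.inr j then d * x (Sum.inl j) else x a := by
  rw [reflectionMatrix_mulVec, qfPlus_sub_smul, QuadraticMap.polar_sub_left,
    QuadraticMap.polar_smul_left, polar_single_inl, polar_single_inr]
  rcases a with a | a
  · by_cases h : a = j
    · subst h
      simp only [Pi.sub_apply, Pi.smul_apply, smul_eq_mul, Pi.single_apply, if_true,
        reduceCtorEq, if_false, mul_zero, sub_zero, mul_one]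
      field_simp
      ring
    · have h' : (Sum.inl a : Fin m ⊕ Fin m) ≠ Sum.inl j := fun hh => h (Sum.inl.inj hh)
      simp [h, h']
  · by_cases h : a = j
    · subst h
      simp only [Pi.sub_apply, Pi.smul_apply, smul_eq_mul, Pi.single_apply, if_true,
        reduceCtorEq, if_false, mul_zero, zero_sub, mul_one]
      field_simp
      ring
    · have h' : (Sum.inr a : Fin m ⊕ Fin m) ≠ Sum.inr j := fun hh => h (Sum.inr.inj hh)
      simp [h, h']

/-- `r_{e_j - f_j} r_{e_j - d f_j} = diag(…, d, …; …, d⁻¹, …)`. -/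
theorem refl_mul_refl_eq (j : Fin m) {d : F} (hd : d ≠ 0) :
    Cfsg.reflectionMatrix (⇑(qfPlus m F)) (Pi.single (Sum.inl j) 1 - Pi.single (Sum.inr j) 1)
      * Cfsg.reflectionMatrix (⇑(qfPlus m F))
          (Pi.single (Sum.inl j) 1 - d • Pi.single (Sum.inr j) 1)
      = blk m F (Matrix.diagonal (fun i => if i = j then d else 1))
          (Matrix.diagonal (fun i => if i = j then d⁻¹ else 1)) := by
  apply matrix_ext_mulVec
  intro x
  funext a
  have h1 := refl_sub_smul_mulVec m F j (one_ne_zero) (Cfsg.reflectionMatrix (⇑(qfPlus m F))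
    (Pi.single (Sum.inl j) 1 - d • Pi.single (Sum.inr j) 1) *ᵥ x) a
  rw [one_smul] at h1
  rw [← Matrix.mulVec_mulVec, h1, blk, Matrix.diagonal_transpose, Matrix.fromBlocks_mulVec]
  simp only [Matrix.zero_mulVec, add_zero, zero_add, inv_one, one_mul]
  rcases a with a | a
  · by_cases h : a = j
    · subst h
      rw [if_pos rfl, refl_sub_smul_mulVec m F a hd]
      simp [Matrix.mulVec_diagonal]
    · have h' : (Sum.inl a : Fin m ⊕ Fin m) ≠ Sum.inl j := fun hh => h (Sum.inl.inj hh)
      rw [if_neg h', if_neg (by simp), refl_sub_smul_mulVec m F j hd, if_neg h', if_neg (by simp)]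
      simp [Matrix.mulVec_diagonal, h]
  · by_cases h : a = j
    · subst h
      rw [if_neg (by simp), if_pos rfl, refl_sub_smul_mulVec m F a hd]
      simp [Matrix.mulVec_diagonal]
    · have h' : (Sum.inr a : Fin m ⊕ Fin m) ≠ Sum.inr j := fun hh => h (Sum.inr.inj hh)
      rw [if_neg (by simp), if_neg h', refl_sub_smul_mulVec m F j hd, if_neg (by simp), if_neg h']
      simp [Matrix.mulVec_diagonal, h]

/-- The diagonal element `diag(D, D⁻¹)` restricted to the first `k` pairs is a product of `2k` reflections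
with norms multiplying to the product of the entries. -/
theorem diag_isReflProd (D : Fin m → F) (hD : ∀ i, D i ≠ 0) (k : ℕ) (hk : k ≤ m) :
    IsReflProd (qfPlus m F)
      (blk m F (Matrix.diagonal (fun i : Fin m => if (i : ℕ) < k then D i else 1))
        (Matrix.diagonal (fun i : Fin m => if (i : ℕ) < k then (D i)⁻¹ else 1)))
      (2 * k) (∏ i : Fin m, if (i : ℕ) < k then D i else 1) := by
  induction k with
  | zero =>
    simp only [Nat.not_lt_zero, if_false, Matrix.diagonal_one, Finset.prod_const_one, mul_zero]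
    rw [blk_one]
    exact IsReflProd.one _
  | succ i ih =>
    have him : i < m := hk
    set j₀ : Fin m := ⟨i, him⟩ with hj₀
    set d := D j₀ with hd
    have hd0 : d ≠ 0 := hD j₀
    have hne1 : qfPlus m F (Pi.single (Sum.inl j₀) 1 - Pi.single (Sum.inr j₀) 1) ≠ 0 := by
      rw [qfPlus_sub]; simp
    have hne2 : qfPlus m F (Pi.single (Sum.inl j₀) 1 - d • Pi.single (Sum.inr j₀) 1) ≠ 0 := by
      rw [qfPlus_sub_smul]; simpa using hd0
    have hfun1 : (fun l : Fin m => if (l : ℕ) < i + 1 then D l else 1)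
        = fun l : Fin m => (if l = j₀ then d else 1) * (if (l : ℕ) < i then D l else 1) := by
      funext l
      by_cases h1 : l = j₀
      · subst h1
        simp [hj₀, hd]
      · have h2 : (l : ℕ) ≠ i := fun hh => h1 (Fin.ext hh)
        by_cases h3 : (l : ℕ) < i
        · have h4 : (l : ℕ) < i + 1 := by omega
          simp [h1, h3, h4]
        · have h4 : ¬ (l : ℕ) < i + 1 := by omega
          simp [h1, h3, h4]
    have hfun2 : (fun l : Fin m => if (l : ℕ) < i + 1 then (D l)⁻¹ else 1)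
        = fun l : Fin m => (if (l : ℕ) < i then (D l)⁻¹ else 1) * (if l = j₀ then d⁻¹ else 1) := by
      funext l
      by_cases h1 : l = j₀
      · subst h1
        simp [hj₀, hd]
      · have h2 : (l : ℕ) ≠ i := fun hh => h1 (Fin.ext hh)
        by_cases h3 : (l : ℕ) < i
        · have h4 : (l : ℕ) < i + 1 := by omega
          simp [h1, h3, h4]
        · have h4 : ¬ (l : ℕ) < i + 1 := by omega
          simp [h1, h3, h4]
    have hstep : blk m F (Matrix.diagonal (fun l : Fin m => if (l : ℕ) < i + 1 then D l else 1))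
        (Matrix.diagonal (fun l : Fin m => if (l : ℕ) < i + 1 then (D l)⁻¹ else 1))
        = (Cfsg.reflectionMatrix (⇑(qfPlus m F))
            (Pi.single (Sum.inl j₀) 1 - Pi.single (Sum.inr j₀) 1)
          * Cfsg.reflectionMatrix (⇑(qfPlus m F))
            (Pi.single (Sum.inl j₀) 1 - d • Pi.single (Sum.inr j₀) 1))
          * blk m F (Matrix.diagonal (fun l : Fin m => if (l : ℕ) < i then D l else 1))
            (Matrix.diagonal (fun l : Fin m => if (l : ℕ) < i then (D l)⁻¹ else 1)) := by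
      rw [refl_mul_refl_eq m F j₀ hd0, blk_mul, Matrix.diagonal_mul_diagonal,
        Matrix.diagonal_mul_diagonal, hfun1, hfun2]
    rw [hstep]
    refine (((IsReflProd.refl _ hne1).mul (IsReflProd.refl _ hne2)).mul (ih (by omega))).congr rfl
      (by ring) ?_
    rw [qfPlus_sub, qfPlus_sub_smul, hfun1, Finset.prod_mul_distrib, Finset.prod_ite_eq']
    simp


/-! ### The spinor character on the Levi subgroup (odd characteristic) -/

section odd

variable [Fintype F]

theorem transvection_pow (i j : Fin m) (h : i ≠ j) (c : F) (k : ℕ) :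
    (Matrix.transvection i j c) ^ k = Matrix.transvection i j ((k : F) * c) := by
  induction k with
  | zero => simp [Matrix.transvection_zero]
  | succ k ih =>
    rw [pow_succ, ih, Matrix.transvection_mul_transvection_same i j h]
    congr 1
    push_cast
    ring

theorem units_int_eq_one_of_pow {u : ℤˣ} {k : ℕ} (hk : Odd k) (h : u ^ k = 1) : u = 1 := by
  rcases Int.units_eq_one_or u with h1 | h1
  · exact h1
  · rw [h1, hk.neg_one_pow] at h
    exact absurd h (by decide)

theorem theta_leviHom_transvection (h2 : (2 : F) ≠ 0) (A : GL (Fin m) F)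
    (t : Matrix.TransvectionStruct (Fin m) F) (hA : A.1 = t.toMatrix) :
    theta (qfPlus m F) (leviHom m F A) = 1 := by
  have hp : Nat.Prime (ringChar F) := CharP.char_is_prime F (ringChar F)
  have hodd : Odd (ringChar F) := by
    rcases hp.eq_two_or_odd' with h | h
    · exact absurd h (ringChar_ne_two_of_two_ne_zero h2)
    · exact h
  have hpow : A ^ (ringChar F) = 1 := by
    apply Units.ext
    rw [Units.val_pow_eq_pow_val, hA, Matrix.TransvectionStruct.toMatrix,
      transvection_pow m F t.i t.j t.hij, CharP.cast_eq_zero F (ringChar F), zero_mul,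
      Matrix.transvection_zero]
    rfl
  apply units_int_eq_one_of_pow hodd
  rw [← map_pow, ← map_pow, hpow, map_one, map_one]

theorem units_int_mul_eq_one_iff (a b : ℤˣ) : a * b = 1 ↔ (a = 1 ↔ b = 1) := by
  rcases Int.units_eq_one_or a with ha | ha <;> rcases Int.units_eq_one_or b with hb | hb <;>
    subst ha hb <;> decide

theorem theta_leviHom_diagonal (h2 : (2 : F) ≠ 0) (A : GL (Fin m) F) (D : Fin m → F)
    (hA : A.1 = Matrix.diagonal D) :
    theta (qfPlus m F) (leviHom m F A) = 1 ↔ IsSquare (A.1.det) := by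
  classical
  have hdet : (∏ i, D i) ≠ 0 := by
    have h1 : A.1.det ≠ 0 := by
      have := (Matrix.isUnit_iff_isUnit_det A.1).mp A.isUnit
      exact this.ne_zero
    rwa [hA, Matrix.det_diagonal] at h1
  have hD : ∀ i, D i ≠ 0 := fun i => (Finset.prod_ne_zero_iff.mp hdet) i (Finset.mem_univ i)
  have hinv : (A⁻¹).1 = Matrix.diagonal (fun i => (D i)⁻¹) := by
    rw [Matrix.coe_units_inv, hA]
    apply Matrix.inv_eq_right_inv
    rw [Matrix.diagonal_mul_diagonal]
    have : (fun i => D i * (D i)⁻¹) = fun _ => (1 : F) := by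
      funext i; exact mul_inv_cancel₀ (hD i)
    rw [this, Matrix.diagonal_one]
  have hrp := diag_isReflProd m F D hD m le_rfl
  have hlt : ∀ i : Fin m, ((i : ℕ) < m) = True := fun i => eq_true i.2
  simp only [hlt, if_true] at hrp
  obtain ⟨vs, hvs, hM, hlen, hprod⟩ := hrp
  have hmat : ((leviHom m F A : GL (Fin m ⊕ Fin m) F) : Matrix (Fin m ⊕ Fin m) (Fin m ⊕ Fin m) F)
      = (vs.map (fun v => Cfsg.reflectionMatrix (⇑(qfPlus m F)) v)).prod := by
    rw [← hM, ← hA, ← hinv]
    rfl
  have hQ := Cfsg.Agent.Lib.Helper44_Levi.nondegenerate_qfPlus m F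
  have e1 := mem_omega_iff_det_theta h2 (qfPlus m F) hQ (leviHom m F A)
  have e2 := mem_omega_iff (qfPlus m F) h2 (leviHom m F A) vs hvs hmat
  rw [det_leviHom, hlen, hprod] at *
  rw [hA, Matrix.det_diagonal]
  constructor
  · intro h
    exact ((e2.mp (e1.mpr ⟨rfl, h⟩))).2
  · intro h
    exact (e1.mp (e2.mpr ⟨⟨m, by ring⟩, h⟩)).2

/-- **Spinor character on the Levi subgroup**: `θ(diag(A, A⁻ᵀ)) = 1` iff `det A` is a square. -/
theorem theta_leviHom_eq_one_iff (h2 : (2 : F) ≠ 0) (A : GL (Fin m) F) :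
    theta (qfPlus m F) (leviHom m F A) = 1 ↔ IsSquare (A.1.det) := by
  classical
  have hAdet : A.1.det ≠ 0 := ((Matrix.isUnit_iff_isUnit_det A.1).mp A.isUnit).ne_zero
  have key : ∀ A' : GL (Fin m) F, A'.1 = A.1 →
      (theta (qfPlus m F) (leviHom m F A') = 1 ↔ IsSquare (A.1.det)) := by
    refine Matrix.diagonal_transvection_induction_of_det_ne_zero
      (fun M => ∀ A' : GL (Fin m) F, A'.1 = M →
        (theta (qfPlus m F) (leviHom m F A') = 1 ↔ IsSquare M.det)) A.1 hAdet ?_ ?_ ?_
    · intro D _ A' hA'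
      rw [← hA']
      exact theta_leviHom_diagonal m F h2 A' D hA'
    · intro t A' hA'
      rw [theta_leviHom_transvection m F h2 A' t hA', Matrix.TransvectionStruct.det]
      exact ⟨fun _ => ⟨1, by ring⟩, fun _ => rfl⟩
    · intro M N hM hN PM PN A' hA'
      set M' : GL (Fin m) F := Matrix.GeneralLinearGroup.mkOfDetNeZero M hM with hM'
      set N' : GL (Fin m) F := Matrix.GeneralLinearGroup.mkOfDetNeZero N hN with hN'
      have hA'' : A' = M' * N' := by
        apply Units.ext
        rw [hA']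
        rfl
      rw [hA'', map_mul, map_mul, units_int_mul_eq_one_iff, PM M' rfl, PN N' rfl, Matrix.det_mul,
        isSquare_mul_iff_iff hM hN]
  exact key A rfl

/-- In odd characteristic `diag(A, A⁻ᵀ)` lies in `Ω` iff `det A` is a square. -/
theorem leviHom_mem_omega_iff (h2 : (2 : F) ≠ 0) (A : GL (Fin m) F) :
    leviHom m F A ∈ Cfsg.Omega F (⇑(qfPlus m F)) ↔ IsSquare (A.1.det) := by
  rw [mem_omega_iff_det_theta h2 (qfPlus m F) (nondegenerate_qfPlus m F), det_leviHom,
    theta_leviHom_eq_one_iff m F h2 A]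
  exact ⟨fun h => h.2, fun h => ⟨rfl, h⟩⟩

end odd

end Cfsg.Agent.Lib.Helper44_Levi
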