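import Mathlib
import Cfsg.Prelude.Def_Classical
import Cfsg.Prelude.Def_ClassicalGeometry
import Cfsg.Agent.Lib.Helper44_StdForms
import Cfsg.Agent.Lib.Helper44_FinSq
import Cfsg.Agent.Lib.Helper44_ReflProd

set_option autoImplicit false

/-!
The involutions negating the first `i` hyperbolic pairs of the standard forms, and when they lie in `Ω`
(helper44).
-/

namespace Cfsg.Agent.Lib.Helper44_NegPairs

open Cfsg Matrix Cfsg.Agent.Lib.Helper44_StdForms Cfsg.Agent.Lib.Helper44_FinSq
  Cfsg.Agent.Lib.Helper44_ReflProd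

variable {F : Type*} [Field F]

/-- For `q` odd, `q ^ i ≡ 1 (mod 4)` iff `i` is even or `q ≢ 3 (mod 4)`. -/
theorem pow_mod_four {q : ℕ} (hq : Odd q) (i : ℕ) : q ^ i % 4 = 1 ↔ (Even i ∨ q % 4 ≠ 3) := by
  have hq4 : q % 4 = 1 ∨ q % 4 = 3 := by
    rw [Nat.odd_iff] at hq; omega
  rw [Nat.pow_mod]
  rcases hq4 with h | h
  · rw [h]; simp
  · rw [h]
    rcases Nat.even_or_odd i with hi | hi
    · obtain ⟨j, rfl⟩ := hi
      have : 3 ^ (j + j) % 4 = 1 := by
        rw [← two_mul, pow_mul, Nat.pow_mod]; norm_num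
      simp [this]
    · obtain ⟨j, rfl⟩ := hi
      have : 3 ^ (2 * j + 1) % 4 = 3 := by
        rw [pow_succ, pow_mul, Nat.mul_mod, Nat.pow_mod]; norm_num
      rw [this]
      simp

/-- `(-1)^i` is a square in the field with `q` elements (`q` odd) iff `q^i ≡ 1 (mod 4)`. -/
theorem isSquare_neg_one_pow_iff [Fintype F] {q : ℕ} (hF : Fintype.card F = q) (hq : Odd q) (i : ℕ) :
    IsSquare ((-1 : F) ^ i) ↔ q ^ i % 4 = 1 := by
  rw [pow_mod_four hq]
  rcases Nat.even_or_odd i with hi | hi
  · simp [hi.neg_one_pow, hi]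
  · rw [hi.neg_one_pow, FiniteField.isSquare_neg_one_iff, hF]
    have : ¬ Even i := Nat.not_even_iff_odd.mpr hi
    simp [this]

theorem even_two_mul_and_iff (i : ℕ) (P : Prop) : (Even (2 * i) ∧ P) ↔ P := by
  simp

/-! ### Plus type -/

theorem plus_iff [Fintype F] (h2 : (2 : F) ≠ 0) {m : ℕ} (i : ℕ) (him : i ≤ m) :
    (∃ g : ↥(Cfsg.isometryGroup F (Cfsg.quadFormPlus m F)),
      g ∈ Cfsg.Omega F (Cfsg.quadFormPlus m F) ∧
      ((g : Matrix.GeneralLinearGroup (Fin m ⊕ Fin m) F) : Matrix (Fin m ⊕ Fin m) (Fin m ⊕ Fin m) F)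
        = Matrix.diagonal (fun k : Fin m ⊕ Fin m =>
            if (Sum.elim (fun j : Fin m => (j : ℕ)) (fun j : Fin m => (j : ℕ)) k) < i
              then (-1 : F) else 1)) ↔ IsSquare ((-1 : F) ^ i) := by
  have hmat : Matrix.diagonal (fun k : Fin m ⊕ Fin m =>
      if (Sum.elim (fun j : Fin m => (j : ℕ)) (fun j : Fin m => (j : ℕ)) k) < i then (-1 : F) else 1)
      = negPairs (F := F) (Sum.inl : Fin m → Fin m ⊕ Fin m) Sum.inr i := by
    rw [negPairs]
    congr 1
    funext k
    rcases k with k | k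
    · split_ifs with h1 h2 h2
      · rfl
      · exact absurd ⟨k, h1, by simp⟩ h2
      · obtain ⟨j, hj, hh⟩ := h2
        have hkj : k = j := by simpa using hh
        subst hkj
        exact absurd hj h1
      · rfl
    · split_ifs with h1 h2 h2
      · rfl
      · exact absurd ⟨k, h1, by simp⟩ h2
      · obtain ⟨j, hj, hh⟩ := h2
        have hkj : k = j := by simpa using hh
        subst hkj
        exact absurd hj h1
      · rfl
  rw [hmat, ← coe_qfPlus]
  have hrp := negPairs_isReflProd (qfPlus m F) (Sum.inl : Fin m → Fin m ⊕ Fin m) Sum.inr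
    Sum.inl_injective Sum.inr_injective (fun _ _ => Sum.inl_ne_inr)
    (by
      intro j
      rw [coe_qfPlus]
      constructor <;> simp [Cfsg.quadFormPlus])
    (by
      intro j x
      rw [coe_qfPlus, polar_quadFormPlus, polar_quadFormPlus]
      constructor <;> simp [Pi.single_apply])
    i him
  rw [IsReflProd.exists_mem_omega_iff h2 hrp, even_two_mul_and_iff]

/-! ### Odd dimension -/

theorem odd_iff [Fintype F] (h2 : (2 : F) ≠ 0) {m : ℕ} (i : ℕ) (him : i ≤ m) :
    (∃ g : ↥(Cfsg.isometryGroup F (Cfsg.quadFormOdd m F)),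
      g ∈ Cfsg.Omega F (Cfsg.quadFormOdd m F) ∧
      ((g : Matrix.GeneralLinearGroup (Unit ⊕ (Fin m ⊕ Fin m)) F) :
          Matrix (Unit ⊕ (Fin m ⊕ Fin m)) (Unit ⊕ (Fin m ⊕ Fin m)) F)
        = Matrix.diagonal (fun k : Unit ⊕ (Fin m ⊕ Fin m) =>
            if (Sum.elim (fun _ : Unit => i)
              (Sum.elim (fun j : Fin m => (j : ℕ)) (fun j : Fin m => (j : ℕ))) k) < i
              then (-1 : F) else 1)) ↔ IsSquare ((-1 : F) ^ i) := by
  have hmat : Matrix.diagonal (fun k : Unit ⊕ (Fin m ⊕ Fin m) =>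
      if (Sum.elim (fun _ : Unit => i)
        (Sum.elim (fun j : Fin m => (j : ℕ)) (fun j : Fin m => (j : ℕ))) k) < i then (-1 : F) else 1)
      = negPairs (F := F) (fun j : Fin m => (Sum.inr (Sum.inl j) : Unit ⊕ (Fin m ⊕ Fin m)))
          (fun j : Fin m => Sum.inr (Sum.inr j)) i := by
    rw [negPairs]
    congr 1
    funext k
    rcases k with k | k | k
    · split_ifs with h1 h2 h2
      · rfl
      · exact absurd h1 (by simp)
      · obtain ⟨j, hj, hh⟩ := h2
        simp at hh
      · rfl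
    · split_ifs with h1 h2 h2
      · rfl
      · exact absurd ⟨k, h1, by simp⟩ h2
      · obtain ⟨j, hj, hh⟩ := h2
        have hkj : k = j := by simpa using hh
        subst hkj
        exact absurd hj h1
      · rfl
    · split_ifs with h1 h2 h2
      · rfl
      · exact absurd ⟨k, h1, by simp⟩ h2
      · obtain ⟨j, hj, hh⟩ := h2
        have hkj : k = j := by simpa using hh
        subst hkj
        exact absurd hj h1
      · rfl
  rw [hmat, ← coe_qfOdd]
  have hrp := negPairs_isReflProd (qfOdd m F)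
    (fun j : Fin m => (Sum.inr (Sum.inl j) : Unit ⊕ (Fin m ⊕ Fin m)))
    (fun j : Fin m => Sum.inr (Sum.inr j))
    (fun _ _ h => by simpa using h) (fun _ _ h => by simpa using h) (fun _ _ => by simp)
    (by
      intro j
      rw [coe_qfOdd]
      constructor <;> simp [Cfsg.quadFormOdd])
    (by
      intro j x
      rw [coe_qfOdd, polar_quadFormOdd, polar_quadFormOdd]
      constructor <;> simp [Pi.single_apply])
    i him
  rw [IsReflProd.exists_mem_omega_iff h2 hrp, even_two_mul_and_iff]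

/-! ### Minus type -/

theorem minus_iff [Fintype F] (h2 : (2 : F) ≠ 0) {m : ℕ} (a b : F) (i : ℕ) (him : i ≤ m) :
    (∃ g : ↥(Cfsg.isometryGroup F (Cfsg.quadFormMinus m F a b)),
      g ∈ Cfsg.Omega F (Cfsg.quadFormMinus m F a b) ∧
      ((g : Matrix.GeneralLinearGroup ((Fin m ⊕ Fin m) ⊕ Fin 2) F) :
          Matrix ((Fin m ⊕ Fin m) ⊕ Fin 2) ((Fin m ⊕ Fin m) ⊕ Fin 2) F)
        = Matrix.diagonal (fun k : (Fin m ⊕ Fin m) ⊕ Fin 2 =>
            if (Sum.elim (Sum.elim (fun j : Fin m => (j : ℕ)) (fun j : Fin m => (j : ℕ)))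
              (fun _ : Fin 2 => i) k) < i
              then (-1 : F) else 1)) ↔ IsSquare ((-1 : F) ^ i) := by
  have hmat : Matrix.diagonal (fun k : (Fin m ⊕ Fin m) ⊕ Fin 2 =>
      if (Sum.elim (Sum.elim (fun j : Fin m => (j : ℕ)) (fun j : Fin m => (j : ℕ)))
        (fun _ : Fin 2 => i) k) < i then (-1 : F) else 1)
      = negPairs (F := F) (fun j : Fin m => (Sum.inl (Sum.inl j) : (Fin m ⊕ Fin m) ⊕ Fin 2))
          (fun j : Fin m => Sum.inl (Sum.inr j)) i := by
    rw [negPairs]
    congr 1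
    funext k
    rcases k with (k | k) | k
    · split_ifs with h1 h2 h2
      · rfl
      · exact absurd ⟨k, h1, by simp⟩ h2
      · obtain ⟨j, hj, hh⟩ := h2
        have hkj : k = j := by simpa using hh
        subst hkj
        exact absurd hj h1
      · rfl
    · split_ifs with h1 h2 h2
      · rfl
      · exact absurd ⟨k, h1, by simp⟩ h2
      · obtain ⟨j, hj, hh⟩ := h2
        have hkj : k = j := by simpa using hh
        subst hkj
        exact absurd hj h1
      · rfl
    · split_ifs with h1 h2 h2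
      · rfl
      · exact absurd h1 (by simp)
      · obtain ⟨j, hj, hh⟩ := h2
        simp at hh
      · rfl
  rw [hmat, ← coe_qfMinus]
  have hrp := negPairs_isReflProd (qfMinus m F a b)
    (fun j : Fin m => (Sum.inl (Sum.inl j) : (Fin m ⊕ Fin m) ⊕ Fin 2))
    (fun j : Fin m => Sum.inl (Sum.inr j))
    (fun _ _ h => by simpa using h) (fun _ _ h => by simpa using h) (fun _ _ => by simp)
    (by
      intro j
      rw [coe_qfMinus]
      constructor <;> simp [Cfsg.quadFormMinus])
    (by
      intro j x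
      rw [coe_qfMinus, polar_quadFormMinus, polar_quadFormMinus]
      constructor <;> simp [Pi.single_apply])
    i him
  rw [IsReflProd.exists_mem_omega_iff h2 hrp, even_two_mul_and_iff]

end Cfsg.Agent.Lib.Helper44_NegPairs
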