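import Mathlib
import Cfsg.Agent.Lib.Helper44_Scaling
import Cfsg.Agent.Lib.Helper44_Eichler

set_option autoImplicit false

/-!
The centraliser of `Ω` in the isometry group consists of `±1` (helper44): an isometry commuting with the Eichler
transformations (which lie in `Ω`) fixes every singular line, and then is a scalar.
-/

namespace Cfsg.Agent.Lib.Helper44_Center

open Cfsg Matrix Module Cfsg.Agent.Lib.Helper44_Orth Cfsg.Agent.Lib.Helper44_Refl
  Cfsg.Agent.Lib.Helper44_Spinor Cfsg.Agent.Lib.Helper44_Supplement Cfsg.Agent.Lib.Helper44_CD2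
  Cfsg.Agent.Lib.Helper44_Eichler Cfsg.Agent.Lib.Helper44_Scaling
  Cfsg.Agent.Lib.Helper14_CartanDieudonne

variable {ι : Type} [Fintype ι] [DecidableEq ι] {F : Type*} [Field F]

/-- An isometry commuting with the Eichler transformation `r_z r_{z+a}` (`a` singular, `z ⊥ a` non-singular)
maps `a` to a multiple of `a`. -/
theorem fix_singular_line (Q : QuadraticForm F (ι → F))
    (hQ : (QuadraticMap.polarBilin Q).Nondegenerate) {Z : Matrix ι ι F} (hZ : IsIsom Q Z)
    {a z : ι → F} (ha : Q a = 0) (hz : Q z ≠ 0) (haz : QuadraticMap.polar (⇑Q) a z = 0)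
    (hcomm : Z * (Cfsg.reflectionMatrix (⇑Q) z * Cfsg.reflectionMatrix (⇑Q) (z + a))
      = (Cfsg.reflectionMatrix (⇑Q) z * Cfsg.reflectionMatrix (⇑Q) (z + a)) * Z) :
    ∃ α : F, Z *ᵥ a = α • a := by
  set y : ι → F := -(Q z)⁻¹ • z with hy
  have hQy : Q y ≠ 0 := by
    rw [hy, QuadraticMap.map_smul]
    simp only [smul_eq_mul]
    exact mul_ne_zero (mul_ne_zero (neg_ne_zero.mpr (inv_ne_zero hz)) (neg_ne_zero.mpr (inv_ne_zero hz))) hz
  have hay : QuadraticMap.polar (⇑Q) a y = 0 := by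
    rw [hy, QuadraticMap.polar_smul_right, haz, smul_zero]
  have hG : ∀ x, (Cfsg.reflectionMatrix (⇑Q) z * Cfsg.reflectionMatrix (⇑Q) (z + a)) *ᵥ x
      = eich Q a y x := fun x => refl_refl_eq_eich Q ha haz hz x
  -- a vector orthogonal to `a` but not to `y`
  obtain ⟨x₀, hx₀a, hx₀y⟩ : ∃ x₀, QuadraticMap.polar (⇑Q) x₀ a = 0 ∧
      QuadraticMap.polar (⇑Q) x₀ y ≠ 0 := by
    by_contra hcon
    push Not at hcon
    have hmem : y ∈ orth Q (orth Q (Submodule.span F {a})) := by
      rw [mem_orth]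
      intro n hn
      apply hcon
      rw [mem_orth'] at hn
      exact hn a (Submodule.mem_span_singleton_self a)
    rw [orth_orth Q hQ] at hmem
    obtain ⟨c, hc⟩ := Submodule.mem_span_singleton.mp hmem
    apply hQy
    rw [← hc, QuadraticMap.map_smul, ha, smul_zero]
  have h1 : Z *ᵥ ((Cfsg.reflectionMatrix (⇑Q) z * Cfsg.reflectionMatrix (⇑Q) (z + a)) *ᵥ x₀)
      = (Cfsg.reflectionMatrix (⇑Q) z * Cfsg.reflectionMatrix (⇑Q) (z + a)) *ᵥ (Z *ᵥ x₀) := by
    rw [Matrix.mulVec_mulVec, Matrix.mulVec_mulVec, hcomm]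
  rw [hG, hG] at h1
  simp only [eich, hx₀a, zero_smul, mul_zero, sub_zero] at h1
  rw [Matrix.mulVec_add, Matrix.mulVec_smul] at h1
  set c := QuadraticMap.polar (⇑Q) x₀ y with hc
  set p := QuadraticMap.polar (⇑Q) (Z *ᵥ x₀) y with hp
  set r := QuadraticMap.polar (⇑Q) (Z *ᵥ x₀) a with hr
  have h2 : Z *ᵥ a = (c⁻¹ * (p - Q y * r)) • a + (-(c⁻¹ * r)) • y := by
    have h3 : c • Z *ᵥ a = p • a - r • y - (Q y * r) • a := by
      have := congrArg (fun v => v - Z *ᵥ x₀) h1
      simp only [add_sub_cancel_left] at this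
      rw [this]
      abel
    have h4 : Z *ᵥ a = c⁻¹ • (c • Z *ᵥ a) := by
      rw [smul_smul, inv_mul_cancel₀ hx₀y, one_smul]
    rw [h4, h3]
    simp only [smul_sub, smul_smul, neg_smul, mul_sub]
    rw [sub_smul]
    abel
  have h5 : Q (Z *ᵥ a) = 0 := by rw [hZ a, ha]
  rw [h2, Cfsg.Agent.Lib.Helper44_QuadClass.map_smul_add, ha,
    QuadraticMap.polar_smul_right, hay] at h5
  simp only [smul_eq_mul, mul_zero, add_zero, zero_add] at h5
  rw [QuadraticMap.map_smul] at h5
  simp only [smul_eq_mul] at h5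
  have h6 : c⁻¹ * r = 0 := by
    rcases mul_eq_zero.mp h5 with h | h
    · rcases mul_eq_zero.mp h with h | h <;> simpa using h
    · exact absurd h hQy
  refine ⟨c⁻¹ * (p - Q y * r), ?_⟩
  rw [h2, h6, neg_zero, zero_smul, add_zero]

/-- An isometry fixing every singular line is `±1`, given a hyperbolic pair `e, f` and a non-singular vector
orthogonal to both. -/
theorem scalar_of_fix_singular_lines (Q : QuadraticForm F (ι → F)) {Z : Matrix ι ι F}
    (hZ : IsIsom Q Z) (hfix : ∀ a : ι → F, Q a = 0 → ∃ α : F, Z *ᵥ a = α • a)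
    {e f w₀ : ι → F} (he : Q e = 0) (hf : Q f = 0) (hef : QuadraticMap.polar (⇑Q) e f = 1)
    (hw₀ : Q w₀ ≠ 0) (hew : QuadraticMap.polar (⇑Q) e w₀ = 0)
    (hfw : QuadraticMap.polar (⇑Q) f w₀ = 0) :
    ∃ l : F, l * l = 1 ∧ Z = l • (1 : Matrix ι ι F) := by
  obtain ⟨l, hl⟩ := hfix e he
  obtain ⟨μ, hμ⟩ := hfix f hf
  have hfe : QuadraticMap.polar (⇑Q) f e = 1 := by rw [QuadraticMap.polar_comm, hef]
  have hlμ : l * μ = 1 := by
    have := hZ.polar e f
    rw [hl, hμ, QuadraticMap.polar_smul_left, QuadraticMap.polar_smul_right, hef] at this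
    simpa using this
  have hl0 : l ≠ 0 := left_ne_zero_of_mul_eq_one hlμ
  have hμ0 : μ ≠ 0 := right_ne_zero_of_mul_eq_one hlμ
  -- action on vectors orthogonal to `e` and `f`
  have key : ∀ w : ι → F, QuadraticMap.polar (⇑Q) e w = 0 → QuadraticMap.polar (⇑Q) f w = 0 →
      Z *ᵥ w = l • w + (Q w * (μ - l)) • f := by
    intro w hwe hwf
    have hs : Q (w + e - Q w • f) = 0 := by
      have h1 : w + e - Q w • f = w + (e - Q w • f) := by abel
      rw [h1, QuadraticMap.map_add (⇑Q) w (e - Q w • f), map_sub_smul Q f e (Q w), he, hf, hfe,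
        QuadraticMap.polar_sub_right, QuadraticMap.polar_smul_right]
      have hwe' : QuadraticMap.polar (⇑Q) w e = 0 := by rw [QuadraticMap.polar_comm, hwe]
      have hwf' : QuadraticMap.polar (⇑Q) w f = 0 := by rw [QuadraticMap.polar_comm, hwf]
      rw [hwe', hwf']
      simp only [smul_eq_mul]
      ring
    obtain ⟨ν, hν⟩ := hfix _ hs
    have hZw : Z *ᵥ w = ν • w + (ν - l) • e + (Q w * (μ - ν)) • f := by
      have h1 : w = (w + e - Q w • f) - e + Q w • f := by abel
      conv_lhs => rw [h1]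
      rw [Matrix.mulVec_add, Matrix.mulVec_sub, Matrix.mulVec_smul, hν, hl, hμ]
      simp only [smul_sub, smul_add, sub_smul, mul_sub, smul_smul]
      abel_nf
      simp only [mul_comm]
      abel_nf
    -- `Z w` is orthogonal to `e` and `f`
    have h1 : QuadraticMap.polar (⇑Q) (Z *ᵥ w) (Z *ᵥ e) = 0 := by
      rw [hZ.polar, QuadraticMap.polar_comm, hwe]
    have h2 : QuadraticMap.polar (⇑Q) (Z *ᵥ w) (Z *ᵥ f) = 0 := by
      rw [hZ.polar, QuadraticMap.polar_comm, hwf]
    rw [hl, QuadraticMap.polar_smul_right] at h1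
    rw [hμ, QuadraticMap.polar_smul_right] at h2
    have h1' : QuadraticMap.polar (⇑Q) (Z *ᵥ w) e = 0 := by
      rcases smul_eq_zero.mp h1 with h | h
      · exact absurd h hl0
      · exact h
    have h2' : QuadraticMap.polar (⇑Q) (Z *ᵥ w) f = 0 := by
      rcases smul_eq_zero.mp h2 with h | h
      · exact absurd h hμ0
      · exact h
    have hee : QuadraticMap.polar (⇑Q) e e = 0 := by rw [Helper44_Refl.polar_self, he, mul_zero]
    have hff : QuadraticMap.polar (⇑Q) f f = 0 := by rw [Helper44_Refl.polar_self, hf, mul_zero]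
    have hwe' : QuadraticMap.polar (⇑Q) w e = 0 := by rw [QuadraticMap.polar_comm, hwe]
    have hwf' : QuadraticMap.polar (⇑Q) w f = 0 := by rw [QuadraticMap.polar_comm, hwf]
    rw [hZw] at h2'
    simp only [QuadraticMap.polar_add_left, QuadraticMap.polar_smul_left, hwf', hef, hff,
      smul_eq_mul, mul_zero, mul_one, zero_add, add_zero] at h2'
    have hνl : ν = l := sub_eq_zero.mp h2'
    rw [hZw, hνl, sub_self, zero_smul, add_zero]
  have hμl : μ = l := by
    have h1 := key w₀ hew hfw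
    have h2 : QuadraticMap.polar (⇑Q) (Z *ᵥ w₀) (Z *ᵥ e) = 0 := by
      rw [hZ.polar, QuadraticMap.polar_comm, hew]
    rw [hl, QuadraticMap.polar_smul_right, h1] at h2
    have hw₀e : QuadraticMap.polar (⇑Q) w₀ e = 0 := by rw [QuadraticMap.polar_comm, hew]
    simp only [QuadraticMap.polar_add_left, QuadraticMap.polar_smul_left, hw₀e, hfe,
      smul_eq_mul, mul_zero, mul_one, zero_add] at h2
    rcases mul_eq_zero.mp h2 with h | h
    · exact absurd h hl0
    · rcases mul_eq_zero.mp h with h | h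
      · exact absurd h hw₀
      · exact sub_eq_zero.mp h
  refine ⟨l, by rw [← hμl] at hlμ ⊢; exact hlμ, ?_⟩
  apply matrix_ext_mulVec
  intro x
  rw [Matrix.smul_mulVec, Matrix.one_mulVec]
  -- decompose `x`
  set w := x - QuadraticMap.polar (⇑Q) f x • e - QuadraticMap.polar (⇑Q) e x • f with hw
  have hee : QuadraticMap.polar (⇑Q) e e = 0 := by rw [Helper44_Refl.polar_self, he, mul_zero]
  have hff : QuadraticMap.polar (⇑Q) f f = 0 := by rw [Helper44_Refl.polar_self, hf, mul_zero]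
  have hwe : QuadraticMap.polar (⇑Q) e w = 0 := by
    rw [hw]
    simp only [QuadraticMap.polar_sub_right, QuadraticMap.polar_smul_right, hee, hef, smul_eq_mul,
      mul_zero, mul_one, sub_zero, sub_self]
  have hwf : QuadraticMap.polar (⇑Q) f w = 0 := by
    rw [hw]
    simp only [QuadraticMap.polar_sub_right, QuadraticMap.polar_smul_right, hff, hfe, smul_eq_mul,
      mul_zero, mul_one, sub_self]
  have hx : x = w + QuadraticMap.polar (⇑Q) f x • e + QuadraticMap.polar (⇑Q) e x • f := by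
    rw [hw]; abel
  have hkw := key w hwe hwf
  rw [hμl, sub_self, mul_zero, zero_smul, add_zero] at hkw
  conv_lhs => rw [hx]
  rw [Matrix.mulVec_add, Matrix.mulVec_add, Matrix.mulVec_smul, Matrix.mulVec_smul, hkw, hl, hμ, hμl]
  conv_rhs => rw [hx]
  simp only [smul_add, smul_smul, mul_comm]

variable [Fintype F]

/-- The Eichler transformation `r_z r_{z+a}` (`a` singular, `z ⊥ a` non-singular) lies in `Ω`. -/
theorem eichler_mem_omega (Q : QuadraticForm F (ι → F))
    (hQ : (QuadraticMap.polarBilin Q).Nondegenerate)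
    (hex : Fintype.card F ≠ 2 ∨ Fintype.card ι ≠ 4) {a z : ι → F} (ha : Q a = 0) (hz : Q z ≠ 0)
    (haz : QuadraticMap.polar (⇑Q) a z = 0) :
    reflT Q z * reflT Q (z + a) ∈ Cfsg.Omega F (⇑Q) := by
  have hza : Q (z + a) = Q z := by
    rw [QuadraticMap.map_add (⇑Q) z a, ha, QuadraticMap.polar_comm, haz]; ring
  have h := prod_mem_omega_of Q hQ hex [z, z + a]
    (by
      intro v hv
      rcases List.mem_cons.mp hv with rfl | hv
      · exact hz
      · rw [List.mem_singleton.mp hv, hza]; exact hz)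
    ⟨1, rfl⟩
    (by
      simp only [List.map_cons, List.map_nil, List.prod_cons, List.prod_nil, mul_one]
      rw [hza]
      exact ⟨Q z, rfl⟩)
  simpa using h

/-- **Centraliser of `Ω`**: an isometry commuting with every element of `Ω` is `±1` (dimension at least three,
Witt index at least one). -/
theorem centralizer_omega (Q : QuadraticForm F (ι → F))
    (hQ : (QuadraticMap.polarBilin Q).Nondegenerate)
    (hex : Fintype.card F ≠ 2 ∨ Fintype.card ι ≠ 4) (hn : 3 ≤ Fintype.card ι)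
    {e f w₀ : ι → F} (he : Q e = 0) (hf : Q f = 0) (hef : QuadraticMap.polar (⇑Q) e f = 1)
    (hw₀ : Q w₀ ≠ 0) (hew : QuadraticMap.polar (⇑Q) e w₀ = 0)
    (hfw : QuadraticMap.polar (⇑Q) f w₀ = 0)
    (z₀ : ↥(Cfsg.isometryGroup F (⇑Q))) (hz₀ : ∀ g ∈ Cfsg.Omega F (⇑Q), z₀ * g = g * z₀) :
    ∃ l : F, l * l = 1 ∧
      ((z₀ : Matrix.GeneralLinearGroup ι F) : Matrix ι ι F) = l • (1 : Matrix ι ι F) := by
  apply scalar_of_fix_singular_lines Q (isIsom_of_mem Q z₀) ?_ he hf hef hw₀ hew hfw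
  intro a ha
  by_cases ha0 : a = 0
  · exact ⟨1, by rw [ha0]; simp⟩
  · obtain ⟨z, hzo, hz⟩ := exists_nonsingular_orth Q hQ (Submodule.span F {a})
      (by rw [finrank_span_singleton ha0]; omega)
    have haz : QuadraticMap.polar (⇑Q) a z = 0 :=
      (mem_orth Q _ z).mp hzo a (Submodule.mem_span_singleton_self a)
    have hza : Q (z + a) = Q z := by
      rw [QuadraticMap.map_add (⇑Q) z a, ha, QuadraticMap.polar_comm, haz]; ring
    have hza0 : Q (z + a) ≠ 0 := by rw [hza]; exact hz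
    have hc := hz₀ _ (eichler_mem_omega Q hQ hex ha hz haz)
    have hc' := congrArg (fun g : ↥(Cfsg.isometryGroup F (⇑Q)) =>
      ((g : Matrix.GeneralLinearGroup ι F) : Matrix ι ι F)) hc
    have e1 : ((((z₀ * (reflT Q z * reflT Q (z + a)) : ↥(Cfsg.isometryGroup F (⇑Q))) :
        Matrix.GeneralLinearGroup ι F)) : Matrix ι ι F)
        = ((z₀ : Matrix.GeneralLinearGroup ι F) : Matrix ι ι F)
          * (Cfsg.reflectionMatrix (⇑Q) z * Cfsg.reflectionMatrix (⇑Q) (z + a)) := by
      rw [← reflT_coe Q z hz, ← reflT_coe Q (z + a) hza0]; rfl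
    have e2 : ((((reflT Q z * reflT Q (z + a) * z₀ : ↥(Cfsg.isometryGroup F (⇑Q))) :
        Matrix.GeneralLinearGroup ι F)) : Matrix ι ι F)
        = (Cfsg.reflectionMatrix (⇑Q) z * Cfsg.reflectionMatrix (⇑Q) (z + a))
          * ((z₀ : Matrix.GeneralLinearGroup ι F) : Matrix ι ι F) := by
      rw [← reflT_coe Q z hz, ← reflT_coe Q (z + a) hza0]; rfl
    rw [e1, e2] at hc'
    exact fix_singular_line Q hQ (isIsom_of_mem Q z₀) ha hz haz hc'

end Cfsg.Agent.Lib.Helper44_Center
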