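import Mathlib
import Cfsg.Agent.Lib.Helper44_Center
import Cfsg.Agent.Lib.Helper44_Index

set_option autoImplicit false

/-!
The order of `PΩ(Q) = Ω(Q)/Z(Ω(Q))` in terms of the order of the isometry group (helper44):
`|PΩ| · |Z(Ω)| · [O : Ω] = |O|`, with `Z(Ω) = {±1} ∩ Ω`.
-/

namespace Cfsg.Agent.Lib.Helper44_POmegaCard

open Cfsg Matrix Module Cfsg.Agent.Lib.Helper44_Orth Cfsg.Agent.Lib.Helper44_Refl
  Cfsg.Agent.Lib.Helper44_Spinor Cfsg.Agent.Lib.Helper44_Center Cfsg.Agent.Lib.Helper44_Index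

variable {ι : Type} [Fintype ι] [DecidableEq ι] {F : Type*} [Field F]

/-- `|PΩ| · |Z(Ω)| · [O : Ω] = |O|`. -/
theorem card_pomega_mul (Q : (ι → F) → F) :
    Nat.card (Cfsg.POmega F Q) * Nat.card ↥(Subgroup.center ↥(Cfsg.Omega F Q))
      * (Cfsg.Omega F Q).index = Nat.card ↥(Cfsg.isometryGroup F Q) := by
  rw [← Subgroup.card_mul_index (Cfsg.Omega F Q),
    Subgroup.card_eq_card_quotient_mul_card_subgroup (Subgroup.center ↥(Cfsg.Omega F Q))]

/-- `-1` commutes with every isometry. -/
theorem negOne_comm (Q : QuadraticForm F (ι → F)) (g : ↥(Cfsg.isometryGroup F (⇑Q))) :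
    negOne Q * g = g * negOne Q := by
  apply Subtype.ext
  apply Units.ext
  show (-1 : Matrix ι ι F) * ((g : Matrix.GeneralLinearGroup ι F) : Matrix ι ι F)
    = ((g : Matrix.GeneralLinearGroup ι F) : Matrix ι ι F) * (-1)
  simp

/-- If the centraliser of `Ω` consists of `±1` and `-1 ∉ Ω` (or `-1 = 1`), then `Ω` has trivial centre. -/
theorem card_center_eq_one (Q : QuadraticForm F (ι → F))
    (hcent : ∀ z₀ : ↥(Cfsg.isometryGroup F (⇑Q)), (∀ g ∈ Cfsg.Omega F (⇑Q), z₀ * g = g * z₀) →
      ∃ l : F, l * l = 1 ∧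
        ((z₀ : Matrix.GeneralLinearGroup ι F) : Matrix ι ι F) = l • (1 : Matrix ι ι F))
    (hneg : (2 : F) = 0 ∨ negOne Q ∉ Cfsg.Omega F (⇑Q)) :
    Nat.card ↥(Subgroup.center ↥(Cfsg.Omega F (⇑Q))) = 1 := by
  rw [Nat.card_eq_one_iff_unique]
  refine ⟨⟨?_⟩, ⟨1⟩⟩
  intro a b
  have key : ∀ z : ↥(Subgroup.center ↥(Cfsg.Omega F (⇑Q))), z = 1 := by
    intro z
    obtain ⟨l, hl, hz⟩ := hcent z.1.1 (by
      intro g hg
      have := (Subgroup.mem_center_iff.mp z.2) ⟨g, hg⟩
      have h2 := congrArg Subtype.val this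
      exact h2.symm)
    have hl' : l = 1 ∨ l = -1 := by
      have : (l - 1) * (l + 1) = 0 := by linear_combination hl
      rcases mul_eq_zero.mp this with h | h
      · left; exact sub_eq_zero.mp h
      · right; exact eq_neg_of_add_eq_zero_left h
    have hl1 : l = 1 → z = 1 := by
      intro h1
      apply Subtype.ext
      apply Subtype.ext
      apply Subtype.ext
      apply Units.ext
      rw [hz, h1, one_smul]
      rfl
    rcases hl' with h1 | h1
    · exact hl1 h1
    · rcases hneg with h2 | hneg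
      · apply hl1
        rw [h1]
        have : (1 : F) + 1 = 0 := by rw [← h2]; ring
        exact neg_eq_of_add_eq_zero_left this
      · exfalso
        apply hneg
        have : z.1.1 = negOne Q := by
          apply Subtype.ext
          apply Units.ext
          rw [hz, h1, negOne_coe]
          simp
        rw [← this]
        exact z.1.2
  rw [key a, key b]

/-- If the centraliser of `Ω` consists of `±1`, `2 ≠ 0` and `-1 ∈ Ω`, then `Ω` has centre of order two. -/
theorem card_center_eq_two (Q : QuadraticForm F (ι → F)) (h2 : (2 : F) ≠ 0) [Nonempty ι]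
    (hcent : ∀ z₀ : ↥(Cfsg.isometryGroup F (⇑Q)), (∀ g ∈ Cfsg.Omega F (⇑Q), z₀ * g = g * z₀) →
      ∃ l : F, l * l = 1 ∧
        ((z₀ : Matrix.GeneralLinearGroup ι F) : Matrix ι ι F) = l • (1 : Matrix ι ι F))
    (hneg : negOne Q ∈ Cfsg.Omega F (⇑Q)) :
    Nat.card ↥(Subgroup.center ↥(Cfsg.Omega F (⇑Q))) = 2 := by
  have hcentral : (⟨negOne Q, hneg⟩ : ↥(Cfsg.Omega F (⇑Q))) ∈ Subgroup.center ↥(Cfsg.Omega F (⇑Q)) := by
    rw [Subgroup.mem_center_iff]
    intro g
    apply Subtype.ext
    exact (negOne_comm Q g.1).symm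
  rw [Nat.card_eq_two_iff]
  refine ⟨1, ⟨⟨negOne Q, hneg⟩, hcentral⟩, ?_, ?_⟩
  · intro h
    have h1 := congrArg (fun z : ↥(Subgroup.center ↥(Cfsg.Omega F (⇑Q))) =>
      ((z.1.1 : Matrix.GeneralLinearGroup ι F) : Matrix ι ι F)) h
    simp only at h1
    have h3 : (1 : Matrix ι ι F) = -1 := h1
    obtain ⟨i⟩ := ‹Nonempty ι›
    have h4 := congrFun (congrFun h3 i) i
    simp only [Matrix.one_apply_eq, Matrix.neg_apply] at h4
    apply h2
    have : (1 : F) + 1 = 0 := by nth_rewrite 1 [h4]; ring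
    rw [← this]; ring
  · ext z
    simp only [Set.mem_insert_iff, Set.mem_singleton_iff, Set.mem_univ, iff_true]
    obtain ⟨l, hl, hz⟩ := hcent z.1.1 (by
      intro g hg
      have := (Subgroup.mem_center_iff.mp z.2) ⟨g, hg⟩
      have h2 := congrArg Subtype.val this
      exact h2.symm)
    have hl' : l = 1 ∨ l = -1 := by
      have : (l - 1) * (l + 1) = 0 := by linear_combination hl
      rcases mul_eq_zero.mp this with h | h
      · left; exact sub_eq_zero.mp h
      · right; exact eq_neg_of_add_eq_zero_left h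
    rcases hl' with h1 | h1
    · left
      apply Subtype.ext
      apply Subtype.ext
      apply Subtype.ext
      apply Units.ext
      rw [hz, h1, one_smul]
      rfl
    · right
      apply Subtype.ext
      apply Subtype.ext
      apply Subtype.ext
      apply Units.ext
      rw [hz, h1]
      show (-1 : F) • (1 : Matrix ι ι F) = -1
      simp

end Cfsg.Agent.Lib.Helper44_POmegaCard
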