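import Cfsg.Prelude.Def_Classical
import Cfsg.Prelude.Def_ClassicalGeometry

/-!
Transfer of isometry groups (`Cfsg.isometryGroup`, `Cfsg.specialIsometryGroup`) along a ring
isomorphism of the base fields.  Useful to reduce statements about "a field with `q` elements"
to the concrete field `ZMod q` / `GaloisField`, where finite checks can be done by computation.
-/

set_option autoImplicit false

namespace Cfsg.Agent.Lib.Helper61_IsometryTransfer

open Matrix

/-- A group isomorphism that matches two subgroups restricts to an isomorphism between them. -/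
def subEquiv {G G' : Type*} [Group G] [Group G'] (E : G ≃* G') (H : Subgroup G) (H' : Subgroup G')
    (h : ∀ g, E g ∈ H' ↔ g ∈ H) : H ≃* H' where
  toFun x := ⟨E x.1, (h x.1).2 x.2⟩
  invFun y := ⟨E.symm y.1, (h _).1 (by simp)⟩
  left_inv x := by ext; simp
  right_inv y := by ext; simp
  map_mul' x y := by ext; simp

@[simp] theorem subEquiv_coe {G G' : Type*} [Group G] [Group G'] (E : G ≃* G') (H : Subgroup G)
    (H' : Subgroup G') (h : ∀ g, E g ∈ H' ↔ g ∈ H) (x : H) :
    ((subEquiv E H H' h x : H') : G') = E x.1 := rfl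

section
variable {ι : Type} [Fintype ι] [DecidableEq ι] {F K : Type*} [Field F] [Field K]

/-- The isomorphism `GL(ι, F) ≃* GL(ι, K)` induced by a ring isomorphism (entrywise). -/
def glEquiv (e : F ≃+* K) : Matrix.GeneralLinearGroup ι F ≃* Matrix.GeneralLinearGroup ι K :=
  Units.mapEquiv (RingEquiv.mapMatrix (m := ι) e).toMulEquiv

theorem glEquiv_coe (e : F ≃+* K) (g : Matrix.GeneralLinearGroup ι F) :
    ((glEquiv e g : Matrix.GeneralLinearGroup ι K) : Matrix ι ι K) =
      (g : Matrix ι ι F).map e := rfl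

theorem mem_isometryGroup_iff (Q : (ι → F) → F) (g : Matrix.GeneralLinearGroup ι F) :
    g ∈ isometryGroup F Q ↔ ∀ u, Q ((g : Matrix ι ι F) *ᵥ u) = Q u :=
  ⟨fun h u => h u u, fun h u _ => h u⟩

theorem mem_specialIsometryGroup_iff (Q : (ι → F) → F) (g : isometryGroup F Q) :
    g ∈ specialIsometryGroup F Q ↔ ((g : Matrix.GeneralLinearGroup ι F) : Matrix ι ι F).det = 1 := by
  unfold specialIsometryGroup
  rw [MonoidHom.mem_ker]
  constructor
  · intro h
    have := congrArg Units.val h
    simpa using this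
  · intro h
    apply Units.ext
    simpa using h

theorem mem_isometryGroup_map (e : F ≃+* K) (QF : (ι → F) → F) (QK : (ι → K) → K)
    (hQ : ∀ v, e (QF v) = QK (e ∘ v)) (g : Matrix.GeneralLinearGroup ι F) :
    glEquiv e g ∈ isometryGroup K QK ↔ g ∈ isometryGroup F QF := by
  rw [mem_isometryGroup_iff, mem_isometryGroup_iff, glEquiv_coe]
  have key : ∀ u : ι → F, (g : Matrix ι ι F).map e *ᵥ (e ∘ u) = e ∘ ((g : Matrix ι ι F) *ᵥ u) := by
    intro u
    funext i
    exact (RingHom.map_mulVec (e : F →+* K) (g : Matrix ι ι F) u i).symm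
  constructor
  · intro h u
    apply e.injective
    rw [hQ, hQ, ← key, h]
  · intro h u
    have hu : u = e ∘ (e.symm ∘ u) := by ext i; simp
    rw [hu, key, ← hQ, ← hQ, h]

/-- Isometry groups of corresponding forms over isomorphic fields are isomorphic. -/
def isometryGroupEquiv (e : F ≃+* K) (QF : (ι → F) → F) (QK : (ι → K) → K)
    (hQ : ∀ v, e (QF v) = QK (e ∘ v)) : isometryGroup F QF ≃* isometryGroup K QK :=
  subEquiv (glEquiv e) _ _ (mem_isometryGroup_map e QF QK hQ)

theorem isometryGroupEquiv_coe (e : F ≃+* K) (QF : (ι → F) → F) (QK : (ι → K) → K)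
    (hQ : ∀ v, e (QF v) = QK (e ∘ v)) (g : isometryGroup F QF) :
    (((isometryGroupEquiv e QF QK hQ g : isometryGroup K QK) :
      Matrix.GeneralLinearGroup ι K) : Matrix ι ι K) =
      ((g : Matrix.GeneralLinearGroup ι F) : Matrix ι ι F).map e := rfl

theorem mem_specialIsometryGroup_map (e : F ≃+* K) (QF : (ι → F) → F) (QK : (ι → K) → K)
    (hQ : ∀ v, e (QF v) = QK (e ∘ v)) (g : isometryGroup F QF) :
    isometryGroupEquiv e QF QK hQ g ∈ specialIsometryGroup K QK ↔
      g ∈ specialIsometryGroup F QF := by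
  rw [mem_specialIsometryGroup_iff, mem_specialIsometryGroup_iff, isometryGroupEquiv_coe]
  have : ((g : Matrix.GeneralLinearGroup ι F) : Matrix ι ι F).map e =
      (e : F →+* K).mapMatrix ((g : Matrix.GeneralLinearGroup ι F) : Matrix ι ι F) := rfl
  rw [this, ← RingHom.map_det]
  constructor
  · intro h
    apply e.injective
    simpa using h
  · intro h
    rw [h]; simp

/-- Special isometry groups of corresponding forms over isomorphic fields are isomorphic. -/
def specialIsometryGroupEquiv (e : F ≃+* K) (QF : (ι → F) → F) (QK : (ι → K) → K)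
    (hQ : ∀ v, e (QF v) = QK (e ∘ v)) :
    specialIsometryGroup F QF ≃* specialIsometryGroup K QK :=
  subEquiv (isometryGroupEquiv e QF QK hQ) _ _ (mem_specialIsometryGroup_map e QF QK hQ)

end

section forms
variable {F K : Type*} [Field F] [Field K]

theorem quadFormOdd_map (m : ℕ) (e : F ≃+* K) (v : Unit ⊕ (Fin m ⊕ Fin m) → F) :
    e (quadFormOdd m F v) = quadFormOdd m K (e ∘ v) := by
  simp [quadFormOdd, map_sum]

theorem quadFormPlus_map (m : ℕ) (e : F ≃+* K) (v : Fin m ⊕ Fin m → F) :
    e (quadFormPlus m F v) = quadFormPlus m K (e ∘ v) := by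
  simp [quadFormPlus, map_sum]

theorem quadFormMinus_map (m : ℕ) (e : F ≃+* K) (a b : F) (v : (Fin m ⊕ Fin m) ⊕ Fin 2 → F) :
    e (quadFormMinus m F a b v) = quadFormMinus m K (e a) (e b) (e ∘ v) := by
  simp [quadFormMinus, map_sum]

end forms

end Cfsg.Agent.Lib.Helper61_IsometryTransfer
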