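import Mathlib
import Cfsg.Prelude.Def_Classical
import Cfsg.Agent.S0750
import Cfsg.Agent.Lib.Helper44_Orth
import Cfsg.Agent.Lib.Helper61_IsometryTransfer

set_option autoImplicit false
set_option linter.unusedSectionVars false

namespace Cfsg.Agent.Lib.Helper5_OrthOrder

open Matrix Cfsg

section basics
variable {ι : Type} [Fintype ι] [DecidableEq ι] {F : Type*} [Field F]

/-- A hyperbolic pair for `Q`. -/
def IsHP (Q : QuadraticForm F (ι → F)) (u v : ι → F) : Prop :=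
  Q u = 0 ∧ Q v = 0 ∧ QuadraticMap.polar (⇑Q) u v = 1

lemma Q_comb (Q : QuadraticForm F (ι → F)) {u v : ι → F} (h : IsHP Q u v) (a b : F) :
    Q (a • u + b • v) = a * b := by
  obtain ⟨h1, h2, h3⟩ := h
  rw [QuadraticMap.map_add (⇑Q), QuadraticMap.map_smul, QuadraticMap.map_smul, h1, h2,
    QuadraticMap.polar_smul_left, QuadraticMap.polar_smul_right, h3]
  simp

lemma comb_inj (Q : QuadraticForm F (ι → F)) {u v : ι → F} (h : IsHP Q u v) (a b : F)
    (hab : a • u + b • v = 0) : a = 0 ∧ b = 0 := by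
  obtain ⟨h1, h2, h3⟩ := h
  have huu : QuadraticMap.polar (⇑Q) u u = 0 := by
    rw [QuadraticMap.polar_self, h1]; simp
  have hvv : QuadraticMap.polar (⇑Q) v v = 0 := by
    rw [QuadraticMap.polar_self, h2]; simp
  have e1 : QuadraticMap.polar (⇑Q) (a • u + b • v) v = a := by
    rw [QuadraticMap.polar_add_left, QuadraticMap.polar_smul_left, QuadraticMap.polar_smul_left, h3, hvv]
    simp
  have e2 : QuadraticMap.polar (⇑Q) u (a • u + b • v) = b := by
    rw [QuadraticMap.polar_add_right, QuadraticMap.polar_smul_right, QuadraticMap.polar_smul_right, h3, huu]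
    simp
  rw [hab] at e1 e2
  simp at e1 e2
  exact ⟨e1.symm, e2.symm⟩

/-- the linear map `(a, b) ↦ a • u + b • v` -/
def comb (u v : ι → F) : (F × F) →ₗ[F] (ι → F) :=
  LinearMap.coprod (LinearMap.toSpanSingleton F (ι → F) u) (LinearMap.toSpanSingleton F (ι → F) v)

lemma comb_apply (u v : ι → F) (c : F × F) : comb u v c = c.1 • u + c.2 • v := by
  simp [comb]

lemma comb_injective (Q : QuadraticForm F (ι → F)) {u v : ι → F} (h : IsHP Q u v) :
    Function.Injective (comb u v) := by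
  rw [← LinearMap.ker_eq_bot, LinearMap.ker_eq_bot']
  intro c hc
  rw [comb_apply] at hc
  obtain ⟨h1, h2⟩ := comb_inj Q h _ _ hc
  exact Prod.ext h1 h2

/-- Witt: the isometry group is transitive on hyperbolic pairs (matrix form). -/
theorem exists_isometry_of_isHP [Finite F] (Q : QuadraticForm F (ι → F))
    (hnd : ∀ x, (∀ y, QuadraticMap.polar (⇑Q) x y = 0) → x = 0)
    {u v u' v' : ι → F} (h : IsHP Q u v) (h' : IsHP Q u' v') :
    ∃ g : GL ι F, (∀ x, Q ((g : Matrix ι ι F) *ᵥ x) = Q x) ∧ (g : Matrix ι ι F) *ᵥ u = u' ∧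
      (g : Matrix ι ι F) *ᵥ v = v' := by
  have hQnd : (QuadraticMap.polarBilin Q).Nondegenerate := by
    constructor
    · intro x hx
      exact hnd x (fun y => by simpa using hx y)
    · intro y hy
      refine hnd y (fun x => ?_)
      rw [QuadraticMap.polar_comm]
      simpa using hy x
  set L := LinearEquiv.ofInjective (comb u v) (comb_injective Q h) with hL
  set L' := LinearEquiv.ofInjective (comb u' v') (comb_injective Q h') with hL'
  set φ := L.symm.trans L' with hφ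
  have hφQ : ∀ x : LinearMap.range (comb u v), Q (φ x : ι → F) = Q (x : ι → F) := by
    intro x
    obtain ⟨c, rfl⟩ := L.surjective x
    rw [hφ, LinearEquiv.trans_apply, LinearEquiv.symm_apply_apply, hL, hL',
      LinearEquiv.ofInjective_apply, LinearEquiv.ofInjective_apply, comb_apply, comb_apply,
      Q_comb Q h, Q_comb Q h']
  obtain ⟨g, hg1, hg2⟩ := Cfsg.Agent.S0750.result Q hQnd _ _ φ hφQ
  have key : ∀ c : F × F, g (comb u v c) = comb u' v' c := by
    intro c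
    have := hg2 (L c)
    rw [hφ, LinearEquiv.trans_apply, LinearEquiv.symm_apply_apply, hL, hL',
      LinearEquiv.ofInjective_apply, LinearEquiv.ofInjective_apply] at this
    exact this
  refine ⟨⟨LinearMap.toMatrix' g.toLinearMap, LinearMap.toMatrix' g.symm.toLinearMap, ?_, ?_⟩, ?_, ?_, ?_⟩
  · rw [← LinearMap.toMatrix'_mul]
    have : (g.toLinearMap * g.symm.toLinearMap) = 1 := by
      ext x; simp
    rw [this, LinearMap.toMatrix'_one]
  · rw [← LinearMap.toMatrix'_mul]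
    have : (g.symm.toLinearMap * g.toLinearMap) = 1 := by
      ext x; simp
    rw [this, LinearMap.toMatrix'_one]
  · intro x
    show Q (LinearMap.toMatrix' g.toLinearMap *ᵥ x) = Q x
    rw [LinearMap.toMatrix'_mulVec]
    exact hg1 x
  · show LinearMap.toMatrix' g.toLinearMap *ᵥ u = u'
    rw [LinearMap.toMatrix'_mulVec]
    have := key (1, 0)
    simpa [comb_apply] using this
  · show LinearMap.toMatrix' g.toLinearMap *ᵥ v = v'
    rw [LinearMap.toMatrix'_mulVec]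
    have := key (0, 1)
    simpa [comb_apply] using this

end basics

section hyp
variable {κ : Type} [Fintype κ] [DecidableEq κ] {F : Type*} [Field F]

/-- `x₀ x₁ + Q'(rest)` on `Fin 2 ⊕ κ` -/
def QH (Q' : QuadraticForm F (κ → F)) : QuadraticForm F (Fin 2 ⊕ κ → F) :=
  QuadraticMap.linMulLin (LinearMap.proj (Sum.inl 0)) (LinearMap.proj (Sum.inl 1))
    + Q'.comp (LinearMap.funLeft F F Sum.inr)

lemma QH_apply (Q' : QuadraticForm F (κ → F)) (v : Fin 2 ⊕ κ → F) :
    QH Q' v = v (Sum.inl 0) * v (Sum.inl 1) + Q' (v ∘ Sum.inr) := by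
  simp [QH, LinearMap.funLeft]

lemma polar_QH (Q' : QuadraticForm F (κ → F)) (x y : Fin 2 ⊕ κ → F) :
    QuadraticMap.polar (⇑(QH Q')) x y = x (Sum.inl 0) * y (Sum.inl 1) + x (Sum.inl 1) * y (Sum.inl 0)
      + QuadraticMap.polar (⇑Q') (x ∘ Sum.inr) (y ∘ Sum.inr) := by
  unfold QuadraticMap.polar
  rw [QH_apply, QH_apply, QH_apply]
  have : (x + y) ∘ Sum.inr = x ∘ Sum.inr + y ∘ Sum.inr := rfl
  rw [this]
  simp only [Pi.add_apply]
  ring

/-- the standard hyperbolic pair -/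
def e0 : Fin 2 ⊕ κ → F := Pi.single (Sum.inl 0) 1
def f0 : Fin 2 ⊕ κ → F := Pi.single (Sum.inl 1) 1

lemma e0_inr : (e0 : Fin 2 ⊕ κ → F) ∘ Sum.inr = 0 := by
  ext i; simp [e0]
lemma f0_inr : (f0 : Fin 2 ⊕ κ → F) ∘ Sum.inr = 0 := by
  ext i; simp [f0]

lemma polar_e0 (Q' : QuadraticForm F (κ → F)) (x : Fin 2 ⊕ κ → F) :
    QuadraticMap.polar (⇑(QH Q')) x e0 = x (Sum.inl 1) := by
  rw [polar_QH, e0_inr]
  simp [e0]

lemma polar_f0 (Q' : QuadraticForm F (κ → F)) (x : Fin 2 ⊕ κ → F) :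
    QuadraticMap.polar (⇑(QH Q')) x f0 = x (Sum.inl 0) := by
  rw [polar_QH, f0_inr]
  simp [f0]

lemma isHP_e0_f0 (Q' : QuadraticForm F (κ → F)) : IsHP (QH Q') e0 f0 := by
  refine ⟨?_, ?_, ?_⟩
  · rw [QH_apply, e0_inr]; simp [e0]
  · rw [QH_apply, f0_inr]; simp [f0]
  · rw [polar_f0]; simp [e0]

end hyp

section blocks
variable {κ : Type} [Fintype κ] [DecidableEq κ] {F : Type*} [Field F]

/-- block embedding -/
def blk (N : Matrix κ κ F) : Matrix (Fin 2 ⊕ κ) (Fin 2 ⊕ κ) F := fromBlocks 1 0 0 N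

lemma blk_mulVec (N : Matrix κ κ F) (v : Fin 2 ⊕ κ → F) :
    blk N *ᵥ v = Sum.elim (v ∘ Sum.inl) (N *ᵥ (v ∘ Sum.inr)) := by
  rw [blk, Matrix.fromBlocks_mulVec]
  simp

lemma blk_mul (N N' : Matrix κ κ F) : blk N * blk N' = blk (N * N') := by
  simp [blk, Matrix.fromBlocks_multiply]

lemma blk_one : blk (1 : Matrix κ κ F) = 1 := by
  simp [blk, Matrix.fromBlocks_one]

lemma QH_blk (Q' : QuadraticForm F (κ → F)) (N : Matrix κ κ F) (hN : ∀ w, Q' (N *ᵥ w) = Q' w)
    (v : Fin 2 ⊕ κ → F) : QH Q' (blk N *ᵥ v) = QH Q' v := by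
  rw [blk_mulVec, QH_apply, QH_apply]
  simp [hN]

lemma blk_mulVec_e0 (N : Matrix κ κ F) : blk N *ᵥ (e0 : Fin 2 ⊕ κ → F) = e0 := by
  rw [blk_mulVec, e0_inr]
  ext i
  rcases i with i | i <;> simp [e0]

lemma blk_mulVec_f0 (N : Matrix κ κ F) : blk N *ᵥ (f0 : Fin 2 ⊕ κ → F) = f0 := by
  rw [blk_mulVec, f0_inr]
  ext i
  rcases i with i | i <;> simp [f0]

lemma polar_mulVec {ι : Type} [Fintype ι] (Q : QuadraticForm F (ι → F)) (M : Matrix ι ι F)
    (hM : ∀ v, Q (M *ᵥ v) = Q v) (x y : ι → F) :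
    QuadraticMap.polar (⇑Q) (M *ᵥ x) (M *ᵥ y) = QuadraticMap.polar (⇑Q) x y := by
  unfold QuadraticMap.polar
  rw [← Matrix.mulVec_add, hM, hM, hM]

lemma eq_blk_of_fix (Q' : QuadraticForm F (κ → F)) (M : Matrix (Fin 2 ⊕ κ) (Fin 2 ⊕ κ) F)
    (hM : ∀ v, QH Q' (M *ᵥ v) = QH Q' v) (he : M *ᵥ e0 = e0) (hf : M *ᵥ f0 = f0) :
    (∀ w, Q' (M.toBlocks₂₂ *ᵥ w) = Q' w) ∧ M = blk M.toBlocks₂₂ := by
  have hcol_e : ∀ i, M i (Sum.inl 0) = (e0 : _ → F) i := by
    intro i
    have := congrFun he i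
    unfold e0 at this
    rw [Matrix.mulVec_single_one] at this
    exact this
  have hcol_f : ∀ i, M i (Sum.inl 1) = (f0 : _ → F) i := by
    intro i
    have := congrFun hf i
    unfold f0 at this
    rw [Matrix.mulVec_single_one] at this
    exact this
  have hA : M.toBlocks₁₁ = 1 := by
    ext x y
    fin_cases y <;> fin_cases x <;> simp [toBlocks₁₁, hcol_e, hcol_f, e0, f0]
  have hC : M.toBlocks₂₁ = 0 := by
    ext x y
    fin_cases y <;> simp [toBlocks₂₁, hcol_e, hcol_f, e0, f0]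
  have hB : M.toBlocks₁₂ = 0 := by
    ext x j
    have h1 := polar_mulVec (QH Q') M hM (Pi.single (Sum.inr j) 1) e0
    have h2 := polar_mulVec (QH Q') M hM (Pi.single (Sum.inr j) 1) f0
    rw [he, polar_e0, polar_e0, Matrix.mulVec_single_one] at h1
    rw [hf, polar_f0, polar_f0, Matrix.mulVec_single_one] at h2
    fin_cases x
    · simpa [toBlocks₁₂] using h2
    · simpa [toBlocks₁₂] using h1
  have hfb : M = blk M.toBlocks₂₂ := by
    conv_lhs => rw [← fromBlocks_toBlocks M, hA, hC, hB]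
    rfl
  refine ⟨?_, hfb⟩
  intro w
  have := hM (Sum.elim 0 w)
  rw [hfb, blk_mulVec, QH_apply, QH_apply] at this
  simpa using this

end blocks

section action
variable {ι : Type} [Fintype ι] [DecidableEq ι] {F : Type*} [Field F]

/-- Hyperbolic pairs. -/
def HPt (Q : QuadraticForm F (ι → F)) : Type _ := {p : (ι → F) × (ι → F) // IsHP Q p.1 p.2}

lemma mem_iso (Q : (ι → F) → F) (g : GL ι F) :
    g ∈ isometryGroup F Q ↔ ∀ v, Q ((g : Matrix ι ι F) *ᵥ v) = Q v :=
  Cfsg.Agent.Lib.Helper44_Orth.mem_isometryGroup_iff Q g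

lemma isHP_mulVec (Q : QuadraticForm F (ι → F)) (M : Matrix ι ι F) (hM : ∀ v, Q (M *ᵥ v) = Q v)
    {u v : ι → F} (h : IsHP Q u v) : IsHP Q (M *ᵥ u) (M *ᵥ v) := by
  obtain ⟨h1, h2, h3⟩ := h
  exact ⟨by rw [hM, h1], by rw [hM, h2], by rw [polar_mulVec Q M hM, h3]⟩

instance (Q : QuadraticForm F (ι → F)) : MulAction (isometryGroup F (⇑Q)) (HPt Q) where
  smul g p := ⟨((g.1 : Matrix ι ι F) *ᵥ p.1.1, (g.1 : Matrix ι ι F) *ᵥ p.1.2),
    isHP_mulVec Q _ ((mem_iso _ g.1).mp g.2) p.2⟩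
  one_smul p := by
    apply Subtype.ext
    show (((1 : isometryGroup F (⇑Q)).1 : Matrix ι ι F) *ᵥ p.1.1,
      ((1 : isometryGroup F (⇑Q)).1 : Matrix ι ι F) *ᵥ p.1.2) = p.1
    simp
  mul_smul g h p := by
    apply Subtype.ext
    show (((g * h).1 : Matrix ι ι F) *ᵥ p.1.1, ((g * h).1 : Matrix ι ι F) *ᵥ p.1.2)
      = ((g.1 : Matrix ι ι F) *ᵥ ((h.1 : Matrix ι ι F) *ᵥ p.1.1),
          (g.1 : Matrix ι ι F) *ᵥ ((h.1 : Matrix ι ι F) *ᵥ p.1.2))
    simp [Matrix.mulVec_mulVec]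

lemma smul_HPt_val (Q : QuadraticForm F (ι → F)) (g : isometryGroup F (⇑Q)) (p : HPt Q) :
    (g • p).1 = ((g.1 : Matrix ι ι F) *ᵥ p.1.1, (g.1 : Matrix ι ι F) *ᵥ p.1.2) := rfl

theorem pretransitive [Finite F] (Q : QuadraticForm F (ι → F))
    (hnd : ∀ x, (∀ y, QuadraticMap.polar (⇑Q) x y = 0) → x = 0) :
    MulAction.IsPretransitive (isometryGroup F (⇑Q)) (HPt Q) where
  exists_smul_eq p p' := by
    obtain ⟨g, hg, h1, h2⟩ := exists_isometry_of_isHP Q hnd p.2 p'.2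
    refine ⟨⟨g, (mem_iso _ g).mpr hg⟩, ?_⟩
    apply Subtype.ext
    rw [smul_HPt_val]
    simp only [h1, h2]

end action

section stab
variable {κ : Type} [Fintype κ] [DecidableEq κ] {F : Type*} [Field F]

/-- the standard hyperbolic pair `(e0, f0)` -/
def hp0 (Q' : QuadraticForm F (κ → F)) : HPt (QH Q') := ⟨(e0, f0), isHP_e0_f0 Q'⟩

lemma mem_stabilizer_hp0 (Q' : QuadraticForm F (κ → F)) (g : isometryGroup F (⇑(QH Q'))) :
    g ∈ MulAction.stabilizer (isometryGroup F (⇑(QH Q'))) (hp0 Q') ↔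
      (g.1 : Matrix (Fin 2 ⊕ κ) (Fin 2 ⊕ κ) F) *ᵥ e0 = e0 ∧
      (g.1 : Matrix (Fin 2 ⊕ κ) (Fin 2 ⊕ κ) F) *ᵥ f0 = f0 := by
  rw [MulAction.mem_stabilizer_iff]
  constructor
  · intro h
    have h1 := congrArg Subtype.val h
    rw [smul_HPt_val] at h1
    simp only [hp0, Prod.mk.injEq] at h1
    exact h1
  · rintro ⟨h1, h2⟩
    apply Subtype.ext
    rw [smul_HPt_val]
    simp only [hp0, h1, h2]

lemma det_blk (N : Matrix κ κ F) : (blk N).det = N.det := by
  rw [blk, Matrix.det_fromBlocks_zero₂₁, Matrix.det_one, one_mul]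

/-- GL-level block embedding -/
def blkGL (N : GL κ F) : GL (Fin 2 ⊕ κ) F :=
  ⟨blk (N : Matrix κ κ F), blk ((N⁻¹ : GL κ F) : Matrix κ κ F),
    by rw [blk_mul, ← Units.val_mul, mul_inv_cancel, Units.val_one, blk_one],
    by rw [blk_mul, ← Units.val_mul, inv_mul_cancel, Units.val_one, blk_one]⟩

/-- The stabiliser of the standard hyperbolic pair is the isometry group of `Q'`. -/
noncomputable def stabEquiv (Q' : QuadraticForm F (κ → F)) :
    MulAction.stabilizer (isometryGroup F (⇑(QH Q'))) (hp0 Q') ≃ isometryGroup F (⇑Q') where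
  toFun g :=
    have hg := (mem_stabilizer_hp0 Q' g.1).mp g.2
    have hfix := eq_blk_of_fix Q' _ ((mem_iso _ g.1.1).mp g.1.2) hg.1 hg.2
    ⟨Matrix.GeneralLinearGroup.mk'' ((g.1.1 : Matrix (Fin 2 ⊕ κ) (Fin 2 ⊕ κ) F).toBlocks₂₂) (by
      rw [← det_blk, ← hfix.2]
      exact Matrix.isUnits_det_units g.1.1), (mem_iso _ _).mpr hfix.1⟩
  invFun N := ⟨⟨blkGL N.1, (mem_iso _ _).mpr (QH_blk Q' _ ((mem_iso _ N.1).mp N.2))⟩,
    (mem_stabilizer_hp0 Q' _).mpr ⟨blk_mulVec_e0 _, blk_mulVec_f0 _⟩⟩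
  left_inv g := by
    have hg := (mem_stabilizer_hp0 Q' g.1).mp g.2
    have hfix := eq_blk_of_fix Q' _ ((mem_iso _ g.1.1).mp g.1.2) hg.1 hg.2
    apply Subtype.ext
    apply Subtype.ext
    apply Units.ext
    exact hfix.2.symm
  right_inv N := by
    apply Subtype.ext
    apply Units.ext
    show (blk (N.1 : Matrix κ κ F)).toBlocks₂₂ = N.1
    rw [blk, toBlocks_fromBlocks₂₂]

theorem card_isometryGroup_QH [Fintype F] (Q' : QuadraticForm F (κ → F))
    (hnd : ∀ x, (∀ y, QuadraticMap.polar (⇑(QH Q')) x y = 0) → x = 0) :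
    Nat.card (isometryGroup F (⇑(QH Q'))) = Nat.card (HPt (QH Q')) * Nat.card (isometryGroup F (⇑Q')) := by
  have := pretransitive (QH Q') hnd
  have h1 := Subgroup.card_mul_index
    (MulAction.stabilizer (isometryGroup F (⇑(QH Q'))) (hp0 Q'))
  rw [MulAction.index_stabilizer_of_transitive, Nat.card_congr (stabEquiv Q')] at h1
  rw [← h1, mul_comm]

end stab

section count
variable {ι : Type} [Fintype ι] [DecidableEq ι] {F : Type*} [Field F]

/-- every nonzero singular vector has a hyperbolic partner -/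
lemma exists_partner (Q : QuadraticForm F (ι → F))
    (hnd : ∀ x, (∀ y, QuadraticMap.polar (⇑Q) x y = 0) → x = 0)
    {u : ι → F} (hu : u ≠ 0) (hQu : Q u = 0) : ∃ v, IsHP Q u v := by
  obtain ⟨w, hw⟩ : ∃ w, QuadraticMap.polar (⇑Q) u w ≠ 0 := by
    by_contra h
    push Not at h
    exact hu (hnd u h)
  obtain ⟨w', h1⟩ : ∃ w', QuadraticMap.polar (⇑Q) u w' = 1 :=
    ⟨(QuadraticMap.polar (⇑Q) u w)⁻¹ • w, by
      rw [QuadraticMap.polar_smul_right, smul_eq_mul, inv_mul_cancel₀ hw]⟩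
  have huu : QuadraticMap.polar (⇑Q) u u = 0 := by
    rw [QuadraticMap.polar_self, hQu]; simp
  refine ⟨w' - Q w' • u, hQu, ?_, ?_⟩
  · rw [sub_eq_add_neg, ← neg_smul, QuadraticMap.map_add (⇑Q), QuadraticMap.map_smul, hQu,
      QuadraticMap.polar_smul_right, QuadraticMap.polar_comm, h1]
    simp
  · rw [QuadraticMap.polar_sub_right, QuadraticMap.polar_smul_right, huu, h1]
    simp

/-- partner fibres of `u` and `g u` have the same size -/
lemma card_partners_mulVec (Q : QuadraticForm F (ι → F)) (g : GL ι F)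
    (hg : ∀ v, Q ((g : Matrix ι ι F) *ᵥ v) = Q v) (u : ι → F) :
    Nat.card {v : ι → F // Q v = 0 ∧ QuadraticMap.polar (⇑Q) u v = 1} =
      Nat.card {v : ι → F // Q v = 0 ∧ QuadraticMap.polar (⇑Q) ((g : Matrix ι ι F) *ᵥ u) v = 1} := by
  let E : (ι → F) ≃ (ι → F) :=
    { toFun := fun v => (g : Matrix ι ι F) *ᵥ v
      invFun := fun v => ((g⁻¹ : GL ι F) : Matrix ι ι F) *ᵥ v
      left_inv := fun v => by
        simp only [Matrix.mulVec_mulVec, ← Units.val_mul, inv_mul_cancel, Units.val_one, Matrix.one_mulVec]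
      right_inv := fun v => by
        simp only [Matrix.mulVec_mulVec, ← Units.val_mul, mul_inv_cancel, Units.val_one, Matrix.one_mulVec] }
  refine Nat.card_congr (Equiv.subtypeEquiv E ?_)
  intro v
  show _ ↔ Q ((g : Matrix ι ι F) *ᵥ v) = 0 ∧
    QuadraticMap.polar (⇑Q) ((g : Matrix ι ι F) *ᵥ u) ((g : Matrix ι ι F) *ᵥ v) = 1
  rw [hg, polar_mulVec Q _ hg]

end count

section countQH
variable {κ : Type} [Fintype κ] [DecidableEq κ] {F : Type*} [Field F]

/-- partners of `e0` are parametrised by `κ → F` -/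
def partnersE0 (Q' : QuadraticForm F (κ → F)) :
    {v : Fin 2 ⊕ κ → F // QH Q' v = 0 ∧ QuadraticMap.polar (⇑(QH Q')) e0 v = 1} ≃ (κ → F) where
  toFun v := v.1 ∘ Sum.inr
  invFun w := ⟨Sum.elim ![-Q' w, 1] w, by
    constructor
    · rw [QH_apply]; simp
    · rw [QuadraticMap.polar_comm, polar_e0]; simp⟩
  left_inv v := by
    obtain ⟨v, h1, h2⟩ := v
    rw [QuadraticMap.polar_comm, polar_e0] at h2
    rw [QH_apply, h2, mul_one] at h1
    apply Subtype.ext
    ext i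
    rcases i with i | i
    · fin_cases i
      · simp only [Sum.elim_inl]
        show -Q' (v ∘ Sum.inr) = v (Sum.inl 0)
        linear_combination -h1
      · simp only [Sum.elim_inl]
        exact h2.symm
    · simp
  right_inv w := by
    ext i; simp

theorem card_HPt [Fintype F] (Q' : QuadraticForm F (κ → F))
    (hnd : ∀ x, (∀ y, QuadraticMap.polar (⇑(QH Q')) x y = 0) → x = 0) :
    Nat.card (HPt (QH Q')) =
      (Nat.card {v : Fin 2 ⊕ κ → F // QH Q' v = 0} - 1) * Fintype.card F ^ Fintype.card κ := by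
  classical
  set Q := QH Q' with hQ
  have e : HPt Q ≃ Σ u : {u : Fin 2 ⊕ κ → F // Q u = 0},
      {v : Fin 2 ⊕ κ → F // Q v = 0 ∧ QuadraticMap.polar (⇑Q) u.1 v = 1} :=
    { toFun := fun p => ⟨⟨p.1.1, p.2.1⟩, p.1.2, p.2.2.1, p.2.2.2⟩
      invFun := fun s => ⟨(s.1.1, s.2.1), s.1.2, s.2.2.1, s.2.2.2⟩
      left_inv := fun p => rfl
      right_inv := fun s => rfl }
  rw [Nat.card_congr e, Nat.card_sigma]
  set z : {u : Fin 2 ⊕ κ → F // Q u = 0} := ⟨0, map_zero Q⟩ with hz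
  rw [← Finset.add_sum_erase Finset.univ _ (Finset.mem_univ z)]
  have h0 : Nat.card {v : Fin 2 ⊕ κ → F // Q v = 0 ∧ QuadraticMap.polar (⇑Q) z.1 v = 1} = 0 := by
    have : IsEmpty {v : Fin 2 ⊕ κ → F // Q v = 0 ∧ QuadraticMap.polar (⇑Q) z.1 v = 1} :=
      ⟨fun v => by have := v.2.2; simp [hz] at this⟩
    exact Nat.card_of_isEmpty
  have h1 : ∀ u ∈ Finset.univ.erase z,
      Nat.card {v : Fin 2 ⊕ κ → F // Q v = 0 ∧ QuadraticMap.polar (⇑Q) u.1 v = 1}
        = Fintype.card F ^ Fintype.card κ := by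
    intro u hu
    have hu0 : u.1 ≠ 0 := by
      intro h
      exact Finset.ne_of_mem_erase hu (Subtype.ext h)
    obtain ⟨v, hv⟩ := exists_partner Q hnd hu0 u.2
    obtain ⟨g, hg, hg1, -⟩ := exists_isometry_of_isHP Q hnd hv (isHP_e0_f0 Q')
    rw [card_partners_mulVec Q g hg u.1, hg1, Nat.card_congr (partnersE0 Q'), Nat.card_eq_fintype_card,
      Fintype.card_fun]
  rw [h0, zero_add, Finset.sum_congr rfl h1, Finset.sum_const, Finset.card_erase_of_mem (Finset.mem_univ _),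
    Finset.card_univ, smul_eq_mul, Nat.card_eq_fintype_card]

/-- The recursion for orders of orthogonal groups. -/
theorem card_isometryGroup_QH' [Fintype F] (Q' : QuadraticForm F (κ → F))
    (hnd : ∀ x, (∀ y, QuadraticMap.polar (⇑(QH Q')) x y = 0) → x = 0) :
    Nat.card (isometryGroup F (⇑(QH Q'))) =
      (Nat.card {v : Fin 2 ⊕ κ → F // QH Q' v = 0} - 1) * Fintype.card F ^ Fintype.card κ
        * Nat.card (isometryGroup F (⇑Q')) := by
  rw [card_isometryGroup_QH Q' hnd, card_HPt Q' hnd]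

end countQH

section reindex
variable {ι ι' : Type} [Fintype ι] [DecidableEq ι] [Fintype ι'] [DecidableEq ι'] {F : Type*} [Field F]

/-- `GL` along a reindexing of the index type. -/
def glReindex (e : ι ≃ ι') : GL ι F ≃* GL ι' F :=
  Units.mapEquiv (Matrix.reindexAlgEquiv F F e).toMulEquiv

lemma glReindex_coe (e : ι ≃ ι') (g : GL ι F) :
    ((glReindex e g : GL ι' F) : Matrix ι' ι' F) = (g : Matrix ι ι F).submatrix e.symm e.symm := rfl

lemma mem_isometryGroup_reindex (e : ι ≃ ι') (Q : (ι → F) → F) (Q₂ : (ι' → F) → F)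
    (hQ : ∀ w, Q₂ w = Q (w ∘ e)) (g : GL ι F) :
    glReindex e g ∈ isometryGroup F Q₂ ↔ g ∈ isometryGroup F Q := by
  rw [mem_iso, mem_iso, glReindex_coe]
  have key : ∀ w : ι' → F, ((g : Matrix ι ι F).submatrix e.symm e.symm *ᵥ w) ∘ e
      = (g : Matrix ι ι F) *ᵥ (w ∘ e) := by
    intro w
    rw [Matrix.submatrix_mulVec_equiv]
    ext i
    simp
  constructor
  · intro h v
    have := h (v ∘ e.symm)
    rw [hQ, hQ, key] at this
    have hv : (v ∘ e.symm) ∘ e = v := by ext i; simp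
    rwa [hv] at this
  · intro h w
    rw [hQ, hQ, key, h]

theorem card_isometryGroup_reindex (e : ι ≃ ι') (Q : (ι → F) → F) (Q₂ : (ι' → F) → F)
    (hQ : ∀ w, Q₂ w = Q (w ∘ e)) :
    Nat.card (isometryGroup F Q₂) = Nat.card (isometryGroup F Q) :=
  (Nat.card_congr (Cfsg.Agent.Lib.Helper61_IsometryTransfer.subEquiv (glReindex e) _ _
    (mem_isometryGroup_reindex e Q Q₂ hQ)).toEquiv).symm

theorem card_zeros_reindex (e : ι ≃ ι') (Q : (ι → F) → F) (Q₂ : (ι' → F) → F)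
    (hQ : ∀ w, Q₂ w = Q (w ∘ e)) :
    Nat.card {w : ι' → F // Q₂ w = 0} = Nat.card {v : ι → F // Q v = 0} := by
  refine Nat.card_congr (Equiv.subtypeEquiv (Equiv.arrowCongr e.symm (Equiv.refl F)) ?_)
  intro w
  rw [hQ]
  have : (Equiv.arrowCongr e.symm (Equiv.refl F)) w = w ∘ e := by
    ext i; simp [Equiv.arrowCongr]
  rw [this]

end reindex

section step
variable {κ ι' : Type} [Fintype κ] [DecidableEq κ] [Fintype ι'] [DecidableEq ι'] {F : Type*} [Field F]

/-- nondegeneracy passes to the orthogonal sum with a hyperbolic plane -/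
lemma nondeg_QH (Q' : QuadraticForm F (κ → F))
    (h' : ∀ x, (∀ y, QuadraticMap.polar (⇑Q') x y = 0) → x = 0) :
    ∀ x, (∀ y, QuadraticMap.polar (⇑(QH Q')) x y = 0) → x = 0 := by
  intro x hx
  have h0 : x (Sum.inl 0) = 0 := by rw [← polar_f0 Q' x]; exact hx _
  have h1 : x (Sum.inl 1) = 0 := by rw [← polar_e0 Q' x]; exact hx _
  have h2 : x ∘ Sum.inr = 0 := by
    apply h'
    intro w
    have := hx (Sum.elim 0 w)
    rw [polar_QH] at this
    simpa [h0, h1] using this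
  ext i
  rcases i with i | i
  · fin_cases i
    · exact h0
    · exact h1
  · exact congrFun h2 i

/-- The recursion for orders of orthogonal groups, for a form presented on another index type. -/
theorem card_step [Fintype F] (e : Fin 2 ⊕ κ ≃ ι') (Q' : QuadraticForm F (κ → F))
    (h' : ∀ x, (∀ y, QuadraticMap.polar (⇑Q') x y = 0) → x = 0)
    (Q₂ : (ι' → F) → F) (hQ : ∀ w, Q₂ w = QH Q' (w ∘ e)) :
    Nat.card (isometryGroup F Q₂) =
      (Nat.card {w : ι' → F // Q₂ w = 0} - 1) * Fintype.card F ^ Fintype.card κ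
        * Nat.card (isometryGroup F (⇑Q')) := by
  rw [card_isometryGroup_reindex e (⇑(QH Q')) Q₂ hQ, card_zeros_reindex e (⇑(QH Q')) Q₂ hQ,
    card_isometryGroup_QH' Q' (nondeg_QH Q' h')]

end step

end Cfsg.Agent.Lib.Helper5_OrthOrder
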