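import Mathlib
import Cfsg.Prelude.Def_KGroupFacts
import Cfsg.Agent.Lib.Helper14_S96_STEIN4
import Cfsg.Agent.Lib.Helper39_S96_PERF
import Cfsg.Agent.S0293
import Cfsg.Agent.S0296
import Cfsg.Agent.Lib.helper19_M23Defs

/-!
# S2054 package KER4 (helper19's market `s2054_packages`), in the form `ker4_of`:
the statement of KER4 with the statement of package UNIV as a hypothesis.
-/

set_option autoImplicit false

namespace Cfsg.Agent.Lib.Helper11_M23_KER4

open Cfsg Cfsg.Spor Cfsg.Agent.Lib.Helper66_S96 Cfsg.Agent.Lib.Helper66_S92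
  Cfsg.Agent.Lib.Helper81_UceA Cfsg.Agent.Lib.helper19_M23

/-- the statement of package UNIV -/
def UnivStmt : Prop :=
    ∃ (Gh : Type) (_ : Group Gh) (_ : Finite Gh) (Y0 : I8 → I8 → ZMod 3 → Gh)
      (θ : Gh →* Cfsg.POmega (ZMod 3) (Cfsg.quadFormPlus 4 (ZMod 3))),
      DStAB Y0 ∧ rootClosure Y0 = ⊤ ∧ Function.Surjective θ ∧
      θ.ker ≤ Subgroup.center Gh ∧ (∀ x ∈ θ.ker, x ^ 4 = 1) ∧
      ∀ {Γ : Type} [Group Γ] (Y : I8 → I8 → ZMod 3 → Γ), DStAB Y →
        ∃ f : Gh →* Γ, ∀ a c t, f (Y0 a c t) = Y a c t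

/-- the image of a root closure under a homomorphism -/
theorem map_rootClosure {G H : Type*} [Group G] [Group H] (f : G →* H)
    (X : I8 → I8 → ZMod 3 → G) :
    (rootClosure X).map f = rootClosure (fun a c t => f (X a c t)) := by
  unfold rootClosure
  rw [MonoidHom.map_closure]
  congr 1
  ext g
  constructor
  · rintro ⟨x, ⟨a, c, t, rfl⟩, rfl⟩
    exact ⟨a, c, t, rfl⟩
  · rintro ⟨a, c, t, rfl⟩
    exact ⟨X a c t, ⟨a, c, t, rfl⟩, rfl⟩

/-- a `DStAB` family restricted to its root closure -/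
theorem dStAB_restrict {G : Type*} [Group G] (X : I8 → I8 → ZMod 3 → G) (h : DStAB X) :
    DStAB (fun a c t => (⟨X a c t, Subgroup.subset_closure ⟨a, c, t, rfl⟩⟩ : rootClosure X)) where
  anti a c t := Subtype.ext (h.anti a c t)
  opp a t := Subtype.ext (h.opp a t)
  diag a t := Subtype.ext (h.diag a t)
  add a c t u := Subtype.ext (h.add a c t u)
  comm a c d e t u h1 h2 h3 h4 := Subtype.ext (h.comm a c d e t u h1 h2 h3 h4)
  comm2 a c t u := Subtype.ext (h.comm2 a c t u)
  a2 a c e t u h1 h2 h3 h4 h5 h6 := Subtype.ext (h.a2 a c e t u h1 h2 h3 h4 h5 h6)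

/-- the root closure of a `DStAB` family is perfect -/
theorem commutator_rootClosure {G : Type*} [Group G] (X : I8 → I8 → ZMod 3 → G) (h : DStAB X) :
    commutator (rootClosure X) = ⊤ := by
  apply commutator_eq_top_of_dStAB (ι := Fin 4) (by simp) (dStAB_restrict X h)
  rw [eq_top_iff]
  rintro ⟨x, hx⟩ -
  have key : ∀ y (hy : y ∈ rootClosure X), (⟨y, hy⟩ : rootClosure X) ∈
      Subgroup.closure {g : rootClosure X | ∃ a c t, g =
        (⟨X a c t, Subgroup.subset_closure ⟨a, c, t, rfl⟩⟩ : rootClosure X)} := by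
    intro y hy
    unfold rootClosure at hy
    induction hy using Subgroup.closure_induction with
    | mem y hy =>
      obtain ⟨a, c, t, rfl⟩ := hy
      exact Subgroup.subset_closure ⟨a, c, t, rfl⟩
    | one => exact Subgroup.one_mem _
    | mul y₁ y₂ h₁ h₂ ih₁ ih₂ => exact Subgroup.mul_mem _ ih₁ ih₂
    | inv y h ih => exact Subgroup.inv_mem _ ih
  exact key x hx

theorem three_pow_dvd_card_POmega :
    3 ^ 12 ∣ Nat.card (Cfsg.POmega (ZMod 3) (Cfsg.quadFormPlus 4 (ZMod 3))) := by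
  have h := Cfsg.Agent.S0293.result (F := ZMod 3) (q := 3) (ZMod.card 3) 4 (le_refl 4)
  have hg : Nat.gcd 4 (3 ^ 4 - 1) = 4 := by norm_num
  rw [hg] at h
  have h2 : (3 : ℕ) ^ 12 ∣ 4 * Nat.card (Cfsg.POmega (ZMod 3) (Cfsg.quadFormPlus 4 (ZMod 3))) := by
    rw [h]
    exact Dvd.dvd.mul_right (Dvd.dvd.mul_right (by norm_num) _) _
  exact (Nat.Coprime.dvd_of_dvd_mul_left (by norm_num) h2)

theorem ker4_of (hU : UnivStmt)
    {G : Type} [Group G] [Finite G] (XS : I8 → I8 → ZMod 3 → G) (hXS : DStAB XS)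
    (hnc : ∃ a c d e t u, XS a c t * XS d e u ≠ XS d e u * XS a c t)
    {Γ : Type} [Group Γ] (σ : Γ →* G) (hσ : CExt σ) :
    3 ^ 12 ∣ Nat.card (rootClosure XS) ∧
    ∃ Kt : Subgroup Γ, Kt.map σ = rootClosure XS ∧ commutator Kt = ⊤ ∧
      ∀ x ∈ Kt, σ x = 1 → x ^ 4 = 1 := by
  classical
  obtain ⟨Y, hY, hYd⟩ := exists_dStAB_lift_four_odd (K := ZMod 3) (ι := Fin 4) (by simp)
    (by decide) hσ hXS
  obtain ⟨Gh, _, _, Y0, θ, hY0, hgen, hθs, hθc, hθ4, huniv⟩ := hU
  obtain ⟨f, hf⟩ := huniv Y hYd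
  have hYeq : (fun a c t => σ (Y a c t)) = XS := by
    funext a c t
    exact hY a c t
  have hmapσ : (rootClosure Y).map σ = rootClosure XS := by
    rw [map_rootClosure, hYeq]
  have hrange : f.range = rootClosure Y := by
    rw [MonoidHom.range_eq_map, ← hgen, map_rootClosure]
    congr 1
    funext a c t
    exact hf a c t
  have hφY : ∀ a c t, (σ.comp f) (Y0 a c t) = XS a c t := by
    intro a c t
    rw [MonoidHom.comp_apply, hf, hY]
  have hφrange : (σ.comp f).range = rootClosure XS := by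
    rw [MonoidHom.range_eq_map, ← Subgroup.map_map, ← MonoidHom.range_eq_map, hrange, hmapσ]
  -- the kernel of `σ ∘ f` lies in the kernel of `θ`
  have hsimple : IsSimpleGroup (Cfsg.POmega (ZMod 3) (Cfsg.quadFormPlus 4 (ZMod 3))) :=
    Cfsg.Agent.S0296.result (F := ZMod 3) 4 (le_refl 4)
  have hN1 : (σ.comp f).ker ≤ θ.ker := by
    have hnorm : ((σ.comp f).ker.map θ).Normal :=
      Subgroup.Normal.map (MonoidHom.normal_ker _) θ hθs
    rcases hnorm.eq_bot_or_eq_top with hbot | htop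
    · intro n hn
      rw [MonoidHom.mem_ker]
      have : θ n ∈ (σ.comp f).ker.map θ := Subgroup.mem_map_of_mem θ hn
      rw [hbot, Subgroup.mem_bot] at this
      exact this
    · exfalso
      -- every element is a product of an element of the kernel of `σ ∘ f` and a central element
      have hdec : ∀ x : Gh, ∃ n ∈ (σ.comp f).ker, ∃ k ∈ θ.ker, x = n * k := by
        intro x
        have hx : θ x ∈ (σ.comp f).ker.map θ := by rw [htop]; trivial
        obtain ⟨n, hn, hnx⟩ := hx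
        refine ⟨n, hn, n⁻¹ * x, ?_, by group⟩
        rw [MonoidHom.mem_ker, map_mul, map_inv, hnx, inv_mul_cancel]
      obtain ⟨a, c, d, e, t, u, hne⟩ := hnc
      apply hne
      obtain ⟨n₁, hn₁, k₁, hk₁, h₁⟩ := hdec (Y0 a c t)
      obtain ⟨n₂, hn₂, k₂, hk₂, h₂⟩ := hdec (Y0 d e u)
      have e₁ : XS a c t = (σ.comp f) k₁ := by
        rw [← hφY, h₁, map_mul, MonoidHom.mem_ker.mp hn₁, one_mul]
      have e₂ : XS d e u = (σ.comp f) k₂ := by
        rw [← hφY, h₂, map_mul, MonoidHom.mem_ker.mp hn₂, one_mul]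
      have hc : k₁ * k₂ = k₂ * k₁ := by
        have := hθc hk₂
        rw [Subgroup.mem_center_iff] at this
        exact this k₁
      rw [e₁, e₂, ← map_mul, ← map_mul, hc]
  refine ⟨?_, rootClosure Y, hmapσ, commutator_rootClosure Y hYd, ?_⟩
  · -- the order
    have hcardGh : Nat.card Gh = Nat.card θ.ker *
        Nat.card (Cfsg.POmega (ZMod 3) (Cfsg.quadFormPlus 4 (ZMod 3))) := by
      rw [Subgroup.card_eq_card_quotient_mul_card_subgroup θ.ker, mul_comm,
        Nat.card_congr (QuotientGroup.quotientKerEquivOfSurjective θ hθs).toEquiv]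
    have hcardGh' : Nat.card Gh = Nat.card (σ.comp f).ker * Nat.card (rootClosure XS) := by
      rw [Subgroup.card_eq_card_quotient_mul_card_subgroup (σ.comp f).ker, mul_comm,
        Nat.card_congr (QuotientGroup.quotientKerEquivRange (σ.comp f)).toEquiv, hφrange]
    have h3 : 3 ^ 12 ∣ Nat.card (σ.comp f).ker * Nat.card (rootClosure XS) := by
      rw [← hcardGh', hcardGh]
      exact Dvd.dvd.mul_left three_pow_dvd_card_POmega _
    have hcop : Nat.Coprime (3 ^ 12) (Nat.card (σ.comp f).ker) := by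
      apply Nat.Coprime.pow_left
      rw [Nat.Prime.coprime_iff_not_dvd Nat.prime_three]
      intro hdvd
      obtain ⟨x, hx⟩ := exists_prime_orderOf_dvd_card' 3 hdvd
      have hx4 : (x : Gh) ^ 4 = 1 := hθ4 _ (hN1 x.2)
      have hx3 : (x : Gh) ^ 3 = 1 := by
        have := pow_orderOf_eq_one x
        rw [hx] at this
        exact congrArg Subtype.val this
      have hx1 : (x : Gh) = 1 := by
        have : (x : Gh) ^ 4 = (x : Gh) ^ 3 * x := pow_succ _ 3
        rw [hx4, hx3, one_mul] at this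
        exact this.symm
      have : orderOf x = 1 := by
        rw [orderOf_eq_one_iff]
        exact Subtype.ext hx1
      omega
    exact hcop.dvd_of_dvd_mul_left h3
  · intro x hx hσx
    rw [← hrange] at hx
    obtain ⟨n, rfl⟩ := hx
    have hn : n ∈ (σ.comp f).ker := by
      rw [MonoidHom.mem_ker, MonoidHom.comp_apply]
      exact hσx
    rw [← map_pow, hθ4 n (hN1 hn), map_one]

end Cfsg.Agent.Lib.Helper11_M23_KER4
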