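import Mathlib
import Cfsg.Prelude.Def_Classical
import Cfsg.Agent.Lib.Helper44_Orth

/-!
# Elementary hyperbolic orthogonal matrices (root elements of `O⁺_{2m}(F)`), for S1082

Index set `I m = Fin m ⊕ Fin m`, involution `pr = Sum.swap`, basis vectors `bv a`.
For `a ≠ b`, `a ≠ pr b` (`Adm a b`), `Tmat a b t = 1 + t (E_{ab} - E_{b'a'})` is an isometry of
`quadFormPlus m F`, over every field.  `T a b t` is the corresponding element of the isometry group
(and `1` for non-admissible pairs), `Ek m F k` the group generated by the `T a b t` with both indices `≥ k`,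
`E m F = Ek m F 0`.
-/

set_option autoImplicit false

namespace Cfsg.Agent.Lib.Helper45_D4Defs

open Matrix Cfsg.Agent.Lib.Helper44_Orth

variable {m : ℕ} {F : Type*} [Field F]

/-- The index set. -/
abbrev I (m : ℕ) : Type := Fin m ⊕ Fin m

/-- The involution `a ↦ a'`. -/
def pr (a : I m) : I m := Sum.swap a

@[simp] theorem pr_pr (a : I m) : pr (pr a) = a := Sum.swap_swap a

theorem pr_ne (a : I m) : pr a ≠ a := by
  cases a <;> simp [pr]

theorem ne_pr (a : I m) : a ≠ pr a := fun h => pr_ne a h.symm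

theorem pr_inj {a b : I m} : pr a = pr b ↔ a = b := by
  constructor
  · intro h
    have := congrArg pr h
    simpa using this
  · rintro rfl; rfl

theorem pr_eq_iff {a b : I m} : pr a = b ↔ a = pr b := by
  constructor
  · rintro rfl; simp
  · rintro rfl; simp

@[simp] theorem pr_inl (i : Fin m) : pr (Sum.inl i : I m) = Sum.inr i := rfl
@[simp] theorem pr_inr (i : Fin m) : pr (Sum.inr i : I m) = Sum.inl i := rfl

/-- The underlying index in `Fin m`. -/
def idx (a : I m) : Fin m := Sum.elim id id a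

@[simp] theorem idx_inl (i : Fin m) : idx (Sum.inl i : I m) = i := rfl
@[simp] theorem idx_inr (i : Fin m) : idx (Sum.inr i : I m) = i := rfl
@[simp] theorem idx_pr (a : I m) : idx (pr a) = idx a := by cases a <;> rfl

/-- Basis vectors. -/
def bv (a : I m) : I m → F := Pi.single a 1

@[simp] theorem bv_apply_self (a : I m) : (bv a : I m → F) a = 1 := by simp [bv]

theorem bv_apply (a c : I m) : (bv a : I m → F) c = if c = a then 1 else 0 := by
  simp [bv, Pi.single_apply]

/-- Admissible pairs (roots). -/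
def Adm (a b : I m) : Prop := a ≠ b ∧ a ≠ pr b

instance (a b : I m) : Decidable (Adm a b) := inferInstanceAs (Decidable (_ ∧ _))

theorem Adm.flip {a b : I m} (h : Adm a b) : Adm (pr b) (pr a) := by
  refine ⟨fun h1 => h.1 (pr_inj.mp h1).symm, ?_⟩
  rw [pr_pr]
  intro h1
  exact h.2 h1.symm

theorem Adm.symm {a b : I m} (h : Adm a b) : Adm b a :=
  ⟨fun h1 => h.1 h1.symm, fun h1 => h.2 (pr_eq_iff.mp h1.symm)⟩

theorem adm_flip_iff {a b : I m} : Adm (pr b) (pr a) ↔ Adm a b := by
  constructor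
  · intro h
    have := h.flip
    simpa using this
  · exact Adm.flip

/-- `X_{ab} = E_{ab} - E_{b'a'}`. -/
def Xmat (a b : I m) : Matrix (I m) (I m) F :=
  Matrix.single a b 1 - Matrix.single (pr b) (pr a) 1

/-- `T_{ab}(t) = 1 + t X_{ab}`. -/
def Tmat (a b : I m) (t : F) : Matrix (I m) (I m) F := 1 + t • Xmat a b

theorem mat_ext_mulVec {M N : Matrix (I m) (I m) F} (h : ∀ x, M *ᵥ x = N *ᵥ x) : M = N := by
  apply Matrix.toLin'.injective
  apply LinearMap.ext
  intro x
  simp only [Matrix.toLin'_apply]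
  exact h x

theorem Xmat_mulVec (a b : I m) (x : I m → F) :
    (Xmat a b : Matrix (I m) (I m) F) *ᵥ x = x b • bv a - x (pr a) • bv (pr b) := by
  funext c
  simp only [Xmat, Matrix.sub_mulVec, Matrix.single_mulVec, Pi.sub_apply, Pi.smul_apply, bv_apply,
    smul_eq_mul, one_mul, Function.update_apply, Pi.zero_apply]
  split_ifs <;> simp

theorem Tmat_mulVec (a b : I m) (t : F) (x : I m → F) :
    Tmat a b t *ᵥ x = x + (t * x b) • bv a - (t * x (pr a)) • bv (pr b) := by
  rw [Tmat, Matrix.add_mulVec, Matrix.one_mulVec, Matrix.smul_mulVec, Xmat_mulVec, smul_sub,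
    smul_smul, smul_smul, add_sub_assoc]

theorem Tmat_mulVec_apply (a b : I m) (t : F) (x : I m → F) (c : I m) :
    (Tmat a b t *ᵥ x) c = x c + (if c = a then t * x b else 0) - (if c = pr b then t * x (pr a) else 0) := by
  rw [Tmat_mulVec]
  simp only [Pi.add_apply, Pi.sub_apply, Pi.smul_apply, bv_apply, smul_eq_mul]
  split_ifs <;> simp

theorem Tmat_zero (a b : I m) : Tmat a b (0 : F) = 1 := by
  simp [Tmat]

theorem Tmat_mul {a b : I m} (hab : Adm a b) (t u : F) :
    Tmat a b t * Tmat a b u = Tmat a b (t + u) := by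
  apply mat_ext_mulVec
  intro x
  rw [← Matrix.mulVec_mulVec]
  funext c
  simp only [Tmat_mulVec_apply]
  have h1 : pr b ≠ a := fun h => hab.2 h.symm
  have h2 : b ≠ a := fun h => hab.1 h.symm
  have h3 : pr a ≠ pr b := fun h => hab.1 (pr_inj.mp h)
  have h4 : pr a ≠ a := pr_ne a
  have h5 : b ≠ pr b := ne_pr b
  simp only [h1, h2, h3, h4, h5, if_false, pr_pr, add_zero, sub_zero]
  split_ifs <;> ring

/-! ### The quadratic form -/

theorem Q_def (v : I m → F) :
    Cfsg.quadFormPlus m F v = ∑ i : Fin m, v (Sum.inl i) * v (Sum.inr i) := rfl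

/-- The polar form, as a sum over the whole index set. -/
def Bf (x y : I m → F) : F := ∑ c : I m, x c * y (pr c)

theorem Q_add (x w : I m → F) :
    Cfsg.quadFormPlus m F (x + w) = Cfsg.quadFormPlus m F x + Cfsg.quadFormPlus m F w + Bf x w := by
  simp only [Q_def, Bf, Fintype.sum_sum_type, pr_inl, pr_inr, Pi.add_apply]
  rw [← Finset.sum_add_distrib, ← Finset.sum_add_distrib, ← Finset.sum_add_distrib]
  apply Finset.sum_congr rfl
  intro i _
  ring

theorem Bf_bv_right (x : I m → F) (a : I m) : Bf x (bv a) = x (pr a) := by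
  simp only [Bf, bv_apply, pr_eq_iff, mul_ite, mul_one, mul_zero, Finset.sum_ite_eq', Finset.mem_univ,
    if_true]

theorem Bf_sub_right (x y z : I m → F) : Bf x (y - z) = Bf x y - Bf x z := by
  simp only [Bf, Pi.sub_apply, mul_sub, Finset.sum_sub_distrib]

theorem Bf_smul_right (x y : I m → F) (c : F) : Bf x (c • y) = c * Bf x y := by
  simp only [Bf, Pi.smul_apply, smul_eq_mul, Finset.mul_sum]
  apply Finset.sum_congr rfl
  intro i _
  ring

theorem Q_pair {a b : I m} (hab : Adm a b) (α β : F) :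
    Cfsg.quadFormPlus m F (α • bv a - β • bv (pr b)) = 0 := by
  rw [Q_def]
  apply Finset.sum_eq_zero
  intro i _
  simp only [Pi.sub_apply, Pi.smul_apply, bv_apply, smul_eq_mul]
  have h1 := hab.1
  have h2 := hab.2
  rcases a with a | a <;> rcases b with b | b <;>
    simp only [pr_inl, pr_inr, Sum.inl.injEq, Sum.inr.injEq, reduceCtorEq, if_false, mul_zero, sub_zero,
      zero_sub, mul_one, zero_mul, neg_zero, mul_neg] <;>
    simp only [pr_inl, pr_inr, ne_eq, Sum.inl.injEq, Sum.inr.injEq, reduceCtorEq, not_false_eq_true] at h1 h2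
  · by_cases h : i = a
    · subst h
      have : ¬ (i = b) := h1
      simp [this]
    · simp [h]
  · by_cases h : i = a
    · subst h
      have : ¬ (i = b) := h1
      simp [this]
    · simp [h]

theorem Q_Tmat {a b : I m} (hab : Adm a b) (t : F) (x : I m → F) :
    Cfsg.quadFormPlus m F (Tmat a b t *ᵥ x) = Cfsg.quadFormPlus m F x := by
  rw [Tmat_mulVec, add_sub_assoc, Q_add, Q_pair hab, Bf_sub_right, Bf_smul_right, Bf_smul_right, Bf_bv_right,
    Bf_bv_right, pr_pr]
  ring

/-! ### Group elements -/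

/-- `T_{ab}(t)` as an element of `GL`. -/
def TGL (a b : I m) (hab : Adm a b) (t : F) : Matrix.GeneralLinearGroup (I m) F :=
  ⟨Tmat a b t, Tmat a b (-t), by rw [Tmat_mul hab, add_neg_cancel, Tmat_zero],
    by rw [Tmat_mul hab, neg_add_cancel, Tmat_zero]⟩

/-- `T_{ab}(t)` as an isometry of `quadFormPlus m F`; `1` when `(a, b)` is not admissible. -/
def T (a b : I m) (t : F) : ↥(Cfsg.isometryGroup F (Cfsg.quadFormPlus m F)) :=
  if hab : Adm a b then
    ⟨TGL a b hab t, (mem_isometryGroup_iff _ _).mpr (fun x => Q_Tmat hab t x)⟩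
  else 1

theorem T_coe {a b : I m} (hab : Adm a b) (t : F) :
    (((T a b t : ↥(Cfsg.isometryGroup F (Cfsg.quadFormPlus m F))) :
      Matrix.GeneralLinearGroup (I m) F) : Matrix (I m) (I m) F) = Tmat a b t := by
  rw [T, dif_pos hab]
  rfl

theorem T_of_not_adm {a b : I m} (hab : ¬ Adm a b) (t : F) :
    (T a b t : ↥(Cfsg.isometryGroup F (Cfsg.quadFormPlus m F))) = 1 := by
  rw [T, dif_neg hab]

/-- Equality of isometries from equality of matrices. -/
theorem iso_ext {g h : ↥(Cfsg.isometryGroup F (Cfsg.quadFormPlus m F))}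
    (e : ((g : Matrix.GeneralLinearGroup (I m) F) : Matrix (I m) (I m) F) =
      ((h : Matrix.GeneralLinearGroup (I m) F) : Matrix (I m) (I m) F)) : g = h :=
  Subtype.ext (Units.ext e)

theorem coe_mul' (g h : ↥(Cfsg.isometryGroup F (Cfsg.quadFormPlus m F))) :
    (((g * h : ↥(Cfsg.isometryGroup F (Cfsg.quadFormPlus m F))) :
      Matrix.GeneralLinearGroup (I m) F) : Matrix (I m) (I m) F) =
    ((g : Matrix.GeneralLinearGroup (I m) F) : Matrix (I m) (I m) F) *
      ((h : Matrix.GeneralLinearGroup (I m) F) : Matrix (I m) (I m) F) := rfl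

theorem coe_one' :
    (((1 : ↥(Cfsg.isometryGroup F (Cfsg.quadFormPlus m F))) :
      Matrix.GeneralLinearGroup (I m) F) : Matrix (I m) (I m) F) = 1 := rfl

theorem T_mul (a b : I m) (t u : F) :
    (T a b t : ↥(Cfsg.isometryGroup F (Cfsg.quadFormPlus m F))) * T a b u = T a b (t + u) := by
  by_cases hab : Adm a b
  · apply iso_ext
    rw [coe_mul', T_coe hab, T_coe hab, T_coe hab, Tmat_mul hab]
  · rw [T_of_not_adm hab, T_of_not_adm hab, T_of_not_adm hab, one_mul]

theorem T_zero (a b : I m) : (T a b (0 : F) : ↥(Cfsg.isometryGroup F (Cfsg.quadFormPlus m F))) = 1 := by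
  by_cases hab : Adm a b
  · apply iso_ext
    rw [T_coe hab, Tmat_zero, coe_one']
  · rw [T_of_not_adm hab]

theorem T_inv (a b : I m) (t : F) :
    (T a b t : ↥(Cfsg.isometryGroup F (Cfsg.quadFormPlus m F)))⁻¹ = T a b (-t) := by
  rw [inv_eq_iff_mul_eq_one, T_mul, add_neg_cancel, T_zero]

theorem Xmat_flip (a b : I m) : (Xmat a b : Matrix (I m) (I m) F) = - Xmat (pr b) (pr a) := by
  simp only [Xmat, pr_pr, neg_sub]

theorem Tmat_flip (a b : I m) (t : F) : Tmat a b t = Tmat (pr b) (pr a) (-t) := by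
  rw [Tmat, Tmat, Xmat_flip a b, smul_neg, neg_smul]

theorem T_flip (a b : I m) (t : F) :
    (T a b t : ↥(Cfsg.isometryGroup F (Cfsg.quadFormPlus m F))) = T (pr b) (pr a) (-t) := by
  by_cases hab : Adm a b
  · apply iso_ext
    rw [T_coe hab, T_coe hab.flip, Tmat_flip]
  · rw [T_of_not_adm hab, T_of_not_adm (fun h => hab (adm_flip_iff.mp h))]

variable (m F)

/-- The group generated by the root elements `T a b t` with both indices `≥ k`. -/
def Ek (k : ℕ) : Subgroup ↥(Cfsg.isometryGroup F (Cfsg.quadFormPlus m F)) :=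
  Subgroup.closure {g | ∃ (a b : I m) (t : F), Adm a b ∧ k ≤ (idx a).val ∧ k ≤ (idx b).val ∧ g = T a b t}

/-- The elementary orthogonal group: generated by all root elements. -/
def E : Subgroup ↥(Cfsg.isometryGroup F (Cfsg.quadFormPlus m F)) := Ek m F 0

variable {m F}

theorem T_mem_Ek {k : ℕ} {a b : I m} (ha : k ≤ (idx a).val) (hb : k ≤ (idx b).val) (t : F) :
    T a b t ∈ Ek m F k := by
  by_cases hab : Adm a b
  · exact Subgroup.subset_closure ⟨a, b, t, hab, ha, hb, rfl⟩
  · rw [T_of_not_adm hab]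
    exact Subgroup.one_mem _

theorem T_mem_E (a b : I m) (t : F) : T a b t ∈ E m F :=
  T_mem_Ek (Nat.zero_le _) (Nat.zero_le _) t

theorem Ek_mono {k l : ℕ} (h : k ≤ l) : Ek m F l ≤ Ek m F k := by
  apply Subgroup.closure_mono
  rintro g ⟨a, b, t, hab, ha, hb, rfl⟩
  exact ⟨a, b, t, hab, h.trans ha, h.trans hb, rfl⟩

theorem Ek_le_E (k : ℕ) : Ek m F k ≤ E m F := Ek_mono (Nat.zero_le k)

/-! ### The polar form and isometries -/

theorem Bf_eq_Q (x y : I m → F) :
    Bf x y = Cfsg.quadFormPlus m F (x + y) - Cfsg.quadFormPlus m F x - Cfsg.quadFormPlus m F y := by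
  rw [Q_add]
  ring

theorem Bf_iso (g : ↥(Cfsg.isometryGroup F (Cfsg.quadFormPlus m F))) (x y : I m → F) :
    Bf (((g : Matrix.GeneralLinearGroup (I m) F) : Matrix (I m) (I m) F) *ᵥ x)
      (((g : Matrix.GeneralLinearGroup (I m) F) : Matrix (I m) (I m) F) *ᵥ y) = Bf x y := by
  have hg := (mem_isometryGroup_iff _ _).mp g.2
  rw [Bf_eq_Q, Bf_eq_Q, ← Matrix.mulVec_add, hg, hg, hg]

theorem Q_iso (g : ↥(Cfsg.isometryGroup F (Cfsg.quadFormPlus m F))) (x : I m → F) :
    Cfsg.quadFormPlus m F (((g : Matrix.GeneralLinearGroup (I m) F) : Matrix (I m) (I m) F) *ᵥ x) =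
      Cfsg.quadFormPlus m F x :=
  (mem_isometryGroup_iff _ _).mp g.2 x

theorem Bf_bv_left (a : I m) (y : I m → F) : Bf (bv a) y = y (pr a) := by
  simp only [Bf, bv_apply, ite_mul, one_mul, zero_mul, Finset.sum_ite_eq', Finset.mem_univ, if_true]

theorem Bf_comm (x y : I m → F) : Bf x y = Bf y x := by
  rw [Bf_eq_Q, Bf_eq_Q, add_comm x y]
  ring

theorem Q_bv (a : I m) : Cfsg.quadFormPlus m F (bv a : I m → F) = 0 := by
  rw [Q_def]
  apply Finset.sum_eq_zero
  intro i _
  rcases a with a | a <;> simp [bv_apply]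

variable (m F)

/-- The pointwise stabiliser of the first `k` hyperbolic pairs. -/
def Lk (k : ℕ) : Subgroup ↥(Cfsg.isometryGroup F (Cfsg.quadFormPlus m F)) where
  carrier := {g | ∀ a : I m, (idx a).val < k →
    ((g : Matrix.GeneralLinearGroup (I m) F) : Matrix (I m) (I m) F) *ᵥ bv a = bv a}
  one_mem' := by
    intro a _
    rw [coe_one', Matrix.one_mulVec]
  mul_mem' := by
    intro g h hg hh a ha
    rw [coe_mul', ← Matrix.mulVec_mulVec, hh a ha, hg a ha]
  inv_mem' := by
    intro g hg a ha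
    have h1 : ((g⁻¹ * g : ↥(Cfsg.isometryGroup F (Cfsg.quadFormPlus m F))) :
        Matrix.GeneralLinearGroup (I m) F).1 *ᵥ bv a = bv a := by
      rw [inv_mul_cancel, coe_one', Matrix.one_mulVec]
    rw [coe_mul', ← Matrix.mulVec_mulVec, hg a ha] at h1
    exact h1

variable {m F}

theorem mem_Lk {k : ℕ} {g : ↥(Cfsg.isometryGroup F (Cfsg.quadFormPlus m F))} :
    g ∈ Lk m F k ↔ ∀ a : I m, (idx a).val < k →
      ((g : Matrix.GeneralLinearGroup (I m) F) : Matrix (I m) (I m) F) *ᵥ bv a = bv a := Iff.rfl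

theorem Lk_zero : Lk m F 0 = ⊤ := by
  ext g
  simp [mem_Lk]

theorem T_mulVec {a b : I m} (hab : Adm a b) (t : F) (x : I m → F) :
    (((T a b t : ↥(Cfsg.isometryGroup F (Cfsg.quadFormPlus m F))) :
      Matrix.GeneralLinearGroup (I m) F) : Matrix (I m) (I m) F) *ᵥ x =
      x + (t * x b) • bv a - (t * x (pr a)) • bv (pr b) := by
  rw [T_coe hab, Tmat_mulVec]

theorem T_mulVec_apply {a b : I m} (hab : Adm a b) (t : F) (x : I m → F) (c : I m) :
    ((((T a b t : ↥(Cfsg.isometryGroup F (Cfsg.quadFormPlus m F))) :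
      Matrix.GeneralLinearGroup (I m) F) : Matrix (I m) (I m) F) *ᵥ x) c =
      x c + (if c = a then t * x b else 0) - (if c = pr b then t * x (pr a) else 0) := by
  rw [T_coe hab, Tmat_mulVec_apply]

/-- A root element with both indices `≥ k` fixes the basis vectors with index `< k`. -/
theorem T_mulVec_bv_of_lt {k : ℕ} {a b : I m} (ha : k ≤ (idx a).val) (hb : k ≤ (idx b).val) (t : F)
    {c : I m} (hc : (idx c).val < k) :
    (((T a b t : ↥(Cfsg.isometryGroup F (Cfsg.quadFormPlus m F))) :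
      Matrix.GeneralLinearGroup (I m) F) : Matrix (I m) (I m) F) *ᵥ bv c = bv c := by
  by_cases hab : Adm a b
  · rw [T_mulVec hab]
    have h1 : (bv c : I m → F) b = 0 := by
      rw [bv_apply, if_neg]
      rintro rfl
      omega
    have h2 : (bv c : I m → F) (pr a) = 0 := by
      rw [bv_apply, if_neg]
      intro h
      have := congrArg (fun z => (idx z).val) h
      simp only [idx_pr] at this
      omega
    rw [h1, h2, mul_zero, zero_smul, zero_smul, add_zero, sub_zero]
  · rw [T_of_not_adm hab, coe_one', Matrix.one_mulVec]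

theorem Ek_le_Lk (k : ℕ) : Ek m F k ≤ Lk m F k := by
  rw [Ek, Subgroup.closure_le]
  rintro g ⟨a, b, t, hab, ha, hb, rfl⟩
  intro c hc
  exact T_mulVec_bv_of_lt ha hb t hc

/-! ### The elements `n` and `h` -/

/-- `n_{ab}(t) = T_{ab}(t) T_{ba}(-t⁻¹) T_{ab}(t)`. -/
def Nel (a b : I m) (t : F) : ↥(Cfsg.isometryGroup F (Cfsg.quadFormPlus m F)) :=
  T a b t * T b a (-t⁻¹) * T a b t

/-- `h_{ab}(t) = n_{ab}(σ t) n_{ab}(-σ)` (for a sign `σ = ±1`; the result does not depend on `σ`). -/
def Hel (a b : I m) (σ t : F) : ↥(Cfsg.isometryGroup F (Cfsg.quadFormPlus m F)) :=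
  Nel a b (σ * t) * Nel a b (-σ)

end Cfsg.Agent.Lib.Helper45_D4Defs
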