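import Mathlib
import Cfsg.Agent.Lib.Helper45_D4Defs

/-!
# S1082-COMM (architect helper45): the uniform commutator formula for the root elements `T a b t`
of the hyperbolic orthogonal group
-/

set_option autoImplicit false
open Cfsg Matrix Cfsg.Agent.Lib.Helper45_D4Defs

namespace Cfsg.Agent.Lib.Helper31_D4_COMM

variable {m : ℕ} {F : Type*} [Field F]

theorem comm_single_mul (i j k l : I m) :
    (Matrix.single i j (1 : F)) * Matrix.single k l (1 : F) =
      if j = k then Matrix.single i l (1 : F) else 0 := by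
  by_cases h : j = k
  · subst h
    rw [if_pos rfl, Matrix.single_mul_single_same, mul_one]
  · rw [if_neg h, Matrix.single_mul_single_of_ne _ _ _ _ h]

theorem comm_XY (a b c d : I m) :
    (Xmat a b : Matrix (I m) (I m) F) * Xmat c d =
      (if b = c then Matrix.single a d (1 : F) else 0)
      - (if b = pr d then Matrix.single a (pr c) (1 : F) else 0)
      - (if pr a = c then Matrix.single (pr b) d (1 : F) else 0)
      + (if pr a = pr d then Matrix.single (pr b) (pr c) (1 : F) else 0) := by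
  simp only [Xmat, sub_mul, mul_sub, comm_single_mul]
  abel

theorem comm_XX {a b : I m} (hab : Adm a b) : (Xmat a b : Matrix (I m) (I m) F) * Xmat a b = 0 := by
  rw [comm_XY]
  have h1 : ¬ b = a := fun h => hab.1 h.symm
  have h2 : ¬ b = pr b := ne_pr b
  have h3 : ¬ pr a = a := pr_ne a
  have h4 : ¬ pr a = pr b := fun h => hab.1 (pr_inj.mp h)
  rw [if_neg h1, if_neg h2, if_neg h3, if_neg h4]
  simp

theorem comm_XYX {a b c d : I m} (hab : Adm a b) (hcd : Adm c d) (h1 : (c, d) ≠ (b, a))
    (h2 : (c, d) ≠ (pr a, pr b)) :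
    (Xmat a b : Matrix (I m) (I m) F) * Xmat c d * Xmat a b = 0 := by
  rw [comm_XY]
  have hc1 := hcd.1
  have hc2 := hcd.2
  have ha1 := hab.1
  have ha2 := hab.2
  simp only [Xmat, sub_mul, add_mul, mul_sub, ite_mul, zero_mul, comm_single_mul]
  have e1 : ¬ (b = c ∧ d = a) := fun ⟨h, h'⟩ => h1 (by rw [h, h'])
  have e2 : ¬ (b = c ∧ d = pr b) := fun ⟨h, h'⟩ => hc2 (by rw [h', pr_pr, h])
  have e3 : ¬ (b = pr d ∧ pr c = a) := fun ⟨h, h'⟩ => h2 (by
    rw [← h', pr_pr, h, pr_pr])
  have e4 : ¬ (b = pr d ∧ pr c = pr b) := fun ⟨h, h'⟩ => hc2 (by rw [pr_inj.mp h', h])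
  have e5 : ¬ (pr a = c ∧ d = a) := fun ⟨h, h'⟩ => hc2 (by rw [h', h])
  have e6 : ¬ (pr a = c ∧ d = pr b) := fun ⟨h, h'⟩ => h2 (by rw [h, h'])
  have e7 : ¬ (pr a = pr d ∧ pr c = a) := fun ⟨h, h'⟩ => hc2 (by
    rw [← pr_inj.mp h, ← h', pr_pr])
  have e8 : ¬ (pr a = pr d ∧ pr c = pr b) := fun ⟨h, h'⟩ => h1 (by
    rw [pr_inj.mp h', ← pr_inj.mp h])
  simp only [← ite_and, if_neg e1, if_neg e2, if_neg e3, if_neg e4, if_neg e5, if_neg e6, if_neg e7, if_neg e8,
    sub_zero, add_zero]

theorem comm_ring_identity {R : Type*} [Ring R] (A B : R) (hA : A * A = 0) (hB : B * B = 0)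
    (hABA : A * B * A = 0) (hBAB : B * A * B = 0) :
    (1 - B) * (1 - A) * (1 + B) * (1 + A) = 1 + (B * A - A * B) := by
  have key : (1 - B) * (1 - A) * (1 + B) * (1 + A) =
      1 + (B * A - A * B) - A * A - B * B - A * B * A - (B * B) * A + B * (A * A) + B * A * B
        + (B * A * B) * A := by
    noncomm_ring
  rw [key, hA, hB, hABA, hBAB]
  simp

theorem comm_matrix {a b c d : I m} (hab : Adm a b) (hcd : Adm c d) (h1 : (c, d) ≠ (b, a))
    (h2 : (c, d) ≠ (pr a, pr b)) (t u : F) :
    Tmat c d (-u) * Tmat a b (-t) * Tmat c d u * Tmat a b t =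
      1 + (u * t) • ((Xmat c d : Matrix (I m) (I m) F) * Xmat a b - Xmat a b * Xmat c d) := by
  have hXX := comm_XX (F := F) hab
  have hYY := comm_XX (F := F) hcd
  have hXYX := comm_XYX (F := F) hab hcd h1 h2
  have h1' : (a, b) ≠ (d, c) := by
    intro h
    apply h1
    rw [Prod.mk.injEq] at h ⊢
    exact ⟨h.2.symm, h.1.symm⟩
  have h2' : (a, b) ≠ (pr c, pr d) := by
    intro h
    apply h2
    rw [Prod.mk.injEq] at h ⊢
    exact ⟨by rw [h.1, pr_pr], by rw [h.2, pr_pr]⟩
  have hYXY := comm_XYX (F := F) hcd hab h1' h2'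
  have e := comm_ring_identity (t • (Xmat a b : Matrix (I m) (I m) F)) (u • Xmat c d)
    (by rw [smul_mul_smul_comm, hXX, smul_zero]) (by rw [smul_mul_smul_comm, hYY, smul_zero])
    (by rw [smul_mul_smul_comm, smul_mul_smul_comm, hXYX, smul_zero])
    (by rw [smul_mul_smul_comm, smul_mul_smul_comm, hYXY, smul_zero])
  have e1 : Tmat c d (-u) = 1 - u • (Xmat c d : Matrix (I m) (I m) F) := by
    rw [Tmat, neg_smul, sub_eq_add_neg]
  have e2 : Tmat a b (-t) = 1 - t • (Xmat a b : Matrix (I m) (I m) F) := by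
    rw [Tmat, neg_smul, sub_eq_add_neg]
  rw [e1, e2, Tmat, Tmat, e, smul_mul_smul_comm, smul_mul_smul_comm, mul_comm t u, ← smul_sub]

theorem comm_bracket (a b c d : I m) :
    (Xmat c d : Matrix (I m) (I m) F) * Xmat a b - Xmat a b * Xmat c d =
      - (if b = c then (Xmat a d : Matrix (I m) (I m) F) else 0)
      + (if b = pr d then (Xmat a (pr c) : Matrix (I m) (I m) F) else 0)
      + (if pr a = c then (Xmat (pr b) d : Matrix (I m) (I m) F) else 0)
      + (if a = d then (Xmat c b : Matrix (I m) (I m) F) else 0) := by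
  rw [comm_XY c d a b, comm_XY a b c d]
  have q1 : (d = a) = (a = d) := propext eq_comm
  have q2 : (d = pr b) = (b = pr d) := propext ⟨fun h => by rw [h, pr_pr], fun h => by rw [h, pr_pr]⟩
  have q3 : (pr c = a) = (pr a = c) := propext ⟨fun h => by rw [← h, pr_pr], fun h => by rw [← h, pr_pr]⟩
  have q4 : (pr c = pr b) = (b = c) := propext ⟨fun h => (pr_inj.mp h).symm, fun h => by rw [h]⟩
  have q5 : (pr a = pr d) = (a = d) := propext pr_inj
  simp only [q1, q2, q3, q4, q5]
  split_ifs <;> (try simp only [Xmat, pr_pr]) <;> abel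

theorem comm_T_coe {x y : I m} (hxy : x ≠ y) (s : F) :
    (((T x y s : ↥(Cfsg.isometryGroup F (Cfsg.quadFormPlus m F))) :
      Matrix.GeneralLinearGroup (I m) F) : Matrix (I m) (I m) F) = 1 + s • Xmat x y := by
  by_cases h : Adm x y
  · rw [T_coe h, Tmat]
  · have hx : x = pr y := by
      by_contra h'
      exact h ⟨hxy, h'⟩
    rw [T_of_not_adm h, coe_one', hx, Xmat, pr_pr, sub_self, smul_zero, add_zero]

theorem COMM {a b c d : I m} (hab : Adm a b) (hcd : Adm c d) (h1 : (c, d) ≠ (b, a))
    (h2 : (c, d) ≠ (pr a, pr b)) (t u : F) :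
    (T c d u : ↥(Cfsg.isometryGroup F (Cfsg.quadFormPlus m F)))⁻¹ * (T a b t)⁻¹ * T c d u * T a b t =
      (if b = c then T a d (-(u * t)) else 1) * (if b = pr d then T a (pr c) (u * t) else 1) *
      (if pr a = c then T (pr b) d (u * t) else 1) * (if a = d then T c b (u * t) else 1) := by
  apply iso_ext
  have hL : ((((T c d u : ↥(Cfsg.isometryGroup F (Cfsg.quadFormPlus m F)))⁻¹ * (T a b t)⁻¹ * T c d u *
      T a b t : ↥(Cfsg.isometryGroup F (Cfsg.quadFormPlus m F))) :
      Matrix.GeneralLinearGroup (I m) F) : Matrix (I m) (I m) F) =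
      1 + (u * t) • (- (if b = c then (Xmat a d : Matrix (I m) (I m) F) else 0)
      + (if b = pr d then (Xmat a (pr c) : Matrix (I m) (I m) F) else 0)
      + (if pr a = c then (Xmat (pr b) d : Matrix (I m) (I m) F) else 0)
      + (if a = d then (Xmat c b : Matrix (I m) (I m) F) else 0)) := by
    rw [T_inv, T_inv, coe_mul', coe_mul', coe_mul', T_coe hcd, T_coe hab, T_coe hcd, T_coe hab,
      comm_matrix hab hcd h1 h2, comm_bracket]
  rw [hL]
  by_cases p1 : b = c
  · have p2 : ¬ b = pr d := by rw [p1]; exact hcd.2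
    have p3 : ¬ pr a = c := by
      rw [← p1]
      intro h
      exact hab.2 (by rw [← h, pr_pr])
    have p4 : ¬ a = d := by
      intro h
      apply h1
      rw [p1, h]
    rw [if_pos p1, if_neg p2, if_neg p3, if_neg p4, if_pos p1, if_neg p2, if_neg p3, if_neg p4,
      mul_one, mul_one, mul_one, comm_T_coe p4, add_zero, add_zero, add_zero, smul_neg, neg_smul]
  · by_cases p2 : b = pr d
    · have hd : d = pr b := by rw [p2, pr_pr]
      have p3 : ¬ pr a = c := by
        intro h
        apply h2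
        rw [← h, hd]
      have p4 : ¬ a = d := by
        rw [hd]
        exact hab.2
      have hne : a ≠ pr c := by
        intro h
        apply p3
        rw [h, pr_pr]
      rw [if_neg p1, if_pos p2, if_neg p3, if_neg p4, if_neg p1, if_pos p2, if_neg p3, if_neg p4,
        one_mul, mul_one, mul_one, comm_T_coe hne, neg_zero, zero_add, add_zero, add_zero]
    · by_cases p3 : pr a = c
      · have p4 : ¬ a = d := by
          intro h
          apply hcd.2
          rw [← p3, h]
        have hne : pr b ≠ d := by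
          intro h
          apply p2
          rw [← h, pr_pr]
        rw [if_neg p1, if_neg p2, if_pos p3, if_neg p4, if_neg p1, if_neg p2, if_pos p3, if_neg p4,
          one_mul, one_mul, mul_one, comm_T_coe hne, neg_zero, zero_add, zero_add, add_zero]
      · by_cases p4 : a = d
        · have hne : c ≠ b := fun h => p1 h.symm
          rw [if_neg p1, if_neg p2, if_neg p3, if_pos p4, if_neg p1, if_neg p2, if_neg p3, if_pos p4,
            one_mul, one_mul, one_mul, comm_T_coe hne, neg_zero, zero_add, zero_add, zero_add]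
        · rw [if_neg p1, if_neg p2, if_neg p3, if_neg p4, if_neg p1, if_neg p2, if_neg p3, if_neg p4,
            one_mul, one_mul, one_mul, coe_one', neg_zero, zero_add, zero_add, zero_add, smul_zero,
            add_zero]

end Cfsg.Agent.Lib.Helper31_D4_COMM
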