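import Mathlib
import Cfsg.Agent.Lib.Helper45_D4Defs

/-!
# S1082-TRANS (architect helper45): `E_k` is transitive on the non-zero singular vectors supported on
the indices `≥ k`
-/

set_option autoImplicit false
open Cfsg Matrix Cfsg.Agent.Lib.Helper45_D4Defs

namespace Cfsg.Agent.Lib.Helper31_D4_TRANS

variable {m : ℕ} {F : Type*} [Field F]

/-- the action of an isometry on a vector -/
def tact (h : ↥(Cfsg.isometryGroup F (Cfsg.quadFormPlus m F))) (v : I m → F) : I m → F :=
  ((h : Matrix.GeneralLinearGroup (I m) F) : Matrix (I m) (I m) F) *ᵥ v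

theorem tact_mul (g h : ↥(Cfsg.isometryGroup F (Cfsg.quadFormPlus m F))) (v : I m → F) :
    tact (g * h) v = tact g (tact h v) := by
  unfold tact
  rw [coe_mul', Matrix.mulVec_mulVec]

theorem tact_one (v : I m → F) :
    tact (1 : ↥(Cfsg.isometryGroup F (Cfsg.quadFormPlus m F))) v = v := by
  unfold tact
  rw [coe_one', Matrix.one_mulVec]

/-- vectors supported on the indices `≥ k` -/
def TSupp (k : ℕ) (v : I m → F) : Prop := ∀ a : I m, (idx a).val < k → v a = 0

theorem tsupp_tact {k : ℕ} {h : ↥(Cfsg.isometryGroup F (Cfsg.quadFormPlus m F))}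
    (hh : h ∈ Ek m F k) {v : I m → F} (hv : TSupp k v) : TSupp k (tact h v) := by
  intro a ha
  have hfix : tact h (bv (pr a)) = bv (pr a) := (Ek_le_Lk k hh) (pr a) (by rwa [idx_pr])
  calc tact h v a = Bf (tact h v) (bv (pr a)) := by rw [Bf_bv_right, pr_pr]
    _ = Bf (tact h v) (tact h (bv (pr a))) := by rw [hfix]
    _ = Bf v (bv (pr a)) := Bf_iso h v _
    _ = v a := by rw [Bf_bv_right, pr_pr]
    _ = 0 := hv a ha

theorem tact_T_apply {a b : I m} (hab : Adm a b) (t : F) (x : I m → F) (c : I m) :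
    tact (T a b t) x c =
      x c + (if c = a then t * x b else 0) - (if c = pr b then t * x (pr a) else 0) :=
  T_mulVec_apply hab t x c

theorem tsupp_le {k : ℕ} {v : I m → F} (hs : TSupp k v) {a : I m} (ha : v a ≠ 0) :
    k ≤ (idx a).val := by
  by_contra h
  exact ha (hs a (by omega))

/-- Phase A, first case: some `x`-coordinate is non-zero. -/
theorem trans_phaseA1 {k : ℕ} (hk : k + 2 ≤ m) (v : I m → F) (hs : TSupp k v) (j : Fin m)
    (hj : v (Sum.inl j) ≠ 0) :
    ∃ h ∈ Ek m F k, tact h v (Sum.inl ⟨k, by omega⟩) = 1 := by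
  have hkm : k < m := by omega
  have hlm : k + 1 < m := by omega
  set ek : I m := Sum.inl ⟨k, hkm⟩ with hek
  set el : I m := Sum.inl ⟨k + 1, hlm⟩ with hel
  have hjk : k ≤ j.val := by
    have := tsupp_le hs hj
    simpa using this
  have idx_ek : (idx ek).val = k := rfl
  have idx_el : (idx el).val = k + 1 := rfl
  -- step 1: make the `k`-th coordinate non-zero
  obtain ⟨h1, hh1, hw1⟩ : ∃ h1 ∈ Ek m F k, tact h1 v ek ≠ 0 := by
    by_cases h : v ek = 0
    · have hne : (⟨k, hkm⟩ : Fin m) ≠ j := by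
        rintro rfl
        exact hj h
      have hadm : Adm ek (Sum.inl j : I m) := by
        refine ⟨fun e => hne (Sum.inl.inj e), ?_⟩
        rw [pr_inl]
        exact Sum.inl_ne_inr
      refine ⟨T ek (Sum.inl j) 1, T_mem_Ek (by rw [idx_ek]) (by simpa using hjk) 1, ?_⟩
      rw [tact_T_apply hadm, if_pos rfl, pr_inl, if_neg Sum.inl_ne_inr, h, zero_add, one_mul, sub_zero]
      exact hj
    · exact ⟨1, Subgroup.one_mem _, by rwa [tact_one]⟩
  -- step 2: make the `(k+1)`-st coordinate equal to one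
  have hadm2 : Adm el ek := by
    refine ⟨fun e => ?_, ?_⟩
    · have := Sum.inl.inj e
      rw [Fin.mk.injEq] at this
      omega
    · rw [pr_inl]
      exact Sum.inl_ne_inr
  set w1 := tact h1 v with hw1def
  set t2 : F := (1 - w1 el) / w1 ek with ht2
  have hw2 : tact (T el ek t2) w1 el = 1 := by
    rw [tact_T_apply hadm2, if_pos rfl, pr_inl, if_neg Sum.inl_ne_inr, ht2, div_mul_cancel₀ _ hw1]
    ring
  -- step 3: make the `k`-th coordinate equal to one
  set w2 := tact (T el ek t2) w1 with hw2def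
  have hw3 : tact (T ek el (1 - w2 ek)) w2 ek = 1 := by
    rw [tact_T_apply hadm2.symm, if_pos rfl, pr_inl, if_neg Sum.inl_ne_inr, hw2]
    ring
  refine ⟨T ek el (1 - w2 ek) * (T el ek t2 * h1), ?_, ?_⟩
  · refine Subgroup.mul_mem _ (T_mem_Ek (by rw [idx_ek]) (by rw [idx_el]; omega) _)
      (Subgroup.mul_mem _ (T_mem_Ek (by rw [idx_el]; omega) (by rw [idx_ek]) _) hh1)
  · rw [tact_mul, tact_mul]
    exact hw3

/-- Phase A: reach a vector whose `k`-th `x`-coordinate is `1`. -/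
theorem trans_phaseA {k : ℕ} (hk : k + 2 ≤ m) (v : I m → F) (hs : TSupp k v) (hv : v ≠ 0) :
    ∃ h ∈ Ek m F k, tact h v (Sum.inl ⟨k, by omega⟩) = 1 := by
  have hkm : k < m := by omega
  have hlm : k + 1 < m := by omega
  by_cases hx : ∃ j : Fin m, v (Sum.inl j) ≠ 0
  · obtain ⟨j, hj⟩ := hx
    exact trans_phaseA1 hk v hs j hj
  · push Not at hx
    obtain ⟨j, hj⟩ : ∃ j : Fin m, v (Sum.inr j) ≠ 0 := by
      by_contra hcon
      push Not at hcon
      apply hv
      funext a
      rcases a with a | a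
      · exact hx a
      · exact hcon a
    have hjk : k ≤ j.val := by
      have := tsupp_le hs hj
      simpa using this
    -- an index `i ≠ j`, `i ≥ k`
    obtain ⟨i, hik, hij⟩ : ∃ i : Fin m, k ≤ i.val ∧ i ≠ j := by
      by_cases hjk' : j.val = k
      · refine ⟨⟨k + 1, hlm⟩, by simp, ?_⟩
        intro e
        have := congrArg Fin.val e
        simp at this
        omega
      · refine ⟨⟨k, hkm⟩, le_refl _, ?_⟩
        intro e
        exact hjk' (congrArg Fin.val e).symm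
    have hadm : Adm (Sum.inl i : I m) (Sum.inr j) := by
      refine ⟨Sum.inl_ne_inr, ?_⟩
      rw [pr_inr]
      exact fun e => hij (Sum.inl.inj e)
    have hg : T (Sum.inl i : I m) (Sum.inr j) (1 : F) ∈ Ek m F k :=
      T_mem_Ek (by simpa using hik) (by simpa using hjk) 1
    have hw : tact (T (Sum.inl i : I m) (Sum.inr j) (1 : F)) v (Sum.inl i) ≠ 0 := by
      rw [tact_T_apply hadm, if_pos rfl, pr_inr, if_neg (fun e => hij (Sum.inl.inj e)), hx i, zero_add,
        one_mul, sub_zero]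
      exact hj
    obtain ⟨h', hh', hw'⟩ := trans_phaseA1 hk _ (tsupp_tact hg hs) i hw
    refine ⟨h' * T (Sum.inl i : I m) (Sum.inr j) (1 : F), Subgroup.mul_mem _ hh' hg, ?_⟩
    rw [tact_mul]
    exact hw'

/-- Phase B: clear all coordinates outside `{e_k, f_k}`. -/
theorem trans_phaseB {k : ℕ} (hk : k + 2 ≤ m) (s : Finset (I m)) :
    ∀ v : I m → F, TSupp k v → v (Sum.inl ⟨k, by omega⟩) = 1 →
      (∀ c : I m, c ≠ Sum.inl ⟨k, by omega⟩ → c ≠ Sum.inr ⟨k, by omega⟩ → v c ≠ 0 → c ∈ s) →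
      ∃ h ∈ Ek m F k, tact h v (Sum.inl ⟨k, by omega⟩) = 1 ∧
        ∀ c : I m, c ≠ Sum.inl ⟨k, by omega⟩ → c ≠ Sum.inr ⟨k, by omega⟩ → tact h v c = 0 := by
  classical
  have hkm : k < m := by omega
  induction s using Finset.induction_on with
  | empty =>
    intro v _ h1 hc
    refine ⟨1, Subgroup.one_mem _, by rwa [tact_one], ?_⟩
    intro c hc1 hc2
    rw [tact_one]
    by_contra hne
    exact absurd (hc c hc1 hc2 hne) (Finset.notMem_empty c)
  | insert c0 s' hc0 ih =>
    intro v hs h1 hc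
    by_cases hbad : c0 = Sum.inl ⟨k, hkm⟩ ∨ c0 = Sum.inr ⟨k, hkm⟩ ∨ v c0 = 0
    · apply ih v hs h1
      intro c hc1 hc2 hne
      rcases Finset.mem_insert.mp (hc c hc1 hc2 hne) with e | e
      · exfalso
        rcases hbad with hb | hb | hb
        · exact hc1 (e.trans hb)
        · exact hc2 (e.trans hb)
        · exact hne (by rw [e]; exact hb)
      · exact e
    · push Not at hbad
      obtain ⟨hb1, hb2, hb3⟩ := hbad
      have hadm : Adm c0 (Sum.inl ⟨k, hkm⟩ : I m) := ⟨hb1, by rw [pr_inl]; exact hb2⟩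
      have hck : k ≤ (idx c0).val := tsupp_le hs hb3
      have hg : T c0 (Sum.inl ⟨k, hkm⟩ : I m) (-(v c0)) ∈ Ek m F k :=
        T_mem_Ek hck (le_refl _) _
      set w := tact (T c0 (Sum.inl ⟨k, hkm⟩ : I m) (-(v c0))) v with hw
      have hwc : ∀ c : I m, c ≠ Sum.inr ⟨k, hkm⟩ → c ≠ c0 → w c = v c := by
        intro c hcf hcc
        rw [hw, tact_T_apply hadm, if_neg hcc, pr_inl, if_neg hcf, add_zero, sub_zero]
      have hw0 : w c0 = 0 := by
        rw [hw, tact_T_apply hadm, if_pos rfl, pr_inl, if_neg hb2, h1]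
        ring
      have hw1 : w (Sum.inl ⟨k, hkm⟩) = 1 := by
        rw [hwc _ Sum.inl_ne_inr (fun e => hb1 e.symm), h1]
      obtain ⟨h', hh', hr1, hr2⟩ := ih w (tsupp_tact hg hs) hw1 (by
        intro c hc1 hc2 hne
        have hcc : c ≠ c0 := by
          rintro rfl
          exact hne hw0
        rw [hwc c hc2 hcc] at hne
        rcases Finset.mem_insert.mp (hc c hc1 hc2 hne) with e | e
        · exact absurd e hcc
        · exact e)
      refine ⟨h' * T c0 (Sum.inl ⟨k, hkm⟩ : I m) (-(v c0)), Subgroup.mul_mem _ hh' hg, ?_, ?_⟩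
      · rw [tact_mul]; exact hr1
      · intro c hc1 hc2
        rw [tact_mul]
        exact hr2 c hc1 hc2

theorem TRANS {k : ℕ} (hk : k + 2 ≤ m) (v : I m → F) (hv : v ≠ 0)
    (hQ : Cfsg.quadFormPlus m F v = 0) (h0 : ∀ a : I m, (idx a).val < k → v a = 0) :
    ∃ h ∈ Ek m F k, ((h : Matrix.GeneralLinearGroup (I m) F) : Matrix (I m) (I m) F) *ᵥ v =
      bv (Sum.inl ⟨k, by omega⟩) := by
  classical
  have hkm : k < m := by omega
  obtain ⟨h1, hh1, hw1⟩ := trans_phaseA hk v h0 hv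
  obtain ⟨h2, hh2, hr1, hr2⟩ := trans_phaseB hk Finset.univ (tact h1 v) (tsupp_tact hh1 h0) hw1
    (fun c _ _ _ => Finset.mem_univ c)
  refine ⟨h2 * h1, Subgroup.mul_mem _ hh2 hh1, ?_⟩
  change tact (h2 * h1) v = _
  rw [tact_mul]
  have hQw : Cfsg.quadFormPlus m F (tact h2 (tact h1 v)) = 0 := by
    unfold tact
    rw [Q_iso h2, Q_iso h1, hQ]
  have hfk : tact h2 (tact h1 v) (Sum.inr ⟨k, hkm⟩) = 0 := by
    rw [Q_def, Finset.sum_eq_single (⟨k, hkm⟩ : Fin m)] at hQw
    · rw [hr1, one_mul] at hQw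
      exact hQw
    · intro i _ hi
      rw [hr2 (Sum.inl i) (fun e => hi (Sum.inl.inj e)) Sum.inl_ne_inr, zero_mul]
    · intro h
      exact absurd (Finset.mem_univ _) h
  funext c
  by_cases hc1 : c = Sum.inl ⟨k, hkm⟩
  · rw [hc1, hr1, bv_apply_self]
  · by_cases hc2 : c = Sum.inr ⟨k, hkm⟩
    · rw [hc2, hfk, bv_apply, if_neg Sum.inr_ne_inl]
    · rw [hr2 c hc1 hc2, bv_apply, if_neg hc1]

end Cfsg.Agent.Lib.Helper31_D4_TRANS
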