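import Mathlib
import Cfsg.Agent.Lib.Helper45_D4Defs

/-!
# S1082 package R3 (helper64, architect helper45)

`Nel a b t` is monomial, `Hel a b σ t` is diagonal (for `σ = ±1`), hence multiplicative in `t`.
-/

set_option autoImplicit false
set_option linter.unusedSimpArgs false
set_option linter.unusedVariables false

open Cfsg Matrix Cfsg.Agent.Lib.Helper45_D4Defs

namespace Cfsg.Agent.Lib.Helper64_D4_R3

variable {m : ℕ} {F : Type*} [Field F]

/-- the monomial action of `Nel a b t` -/
theorem Nel_mulVec {a b : I m} (hab : Adm a b) {t : F} (ht : t ≠ 0) (x : I m → F) (c : I m) :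
    ((((Nel a b t : ↥(Cfsg.isometryGroup F (Cfsg.quadFormPlus m F))) :
      Matrix.GeneralLinearGroup (I m) F) : Matrix (I m) (I m) F) *ᵥ x) c =
      if c = a then t * x b else if c = b then -t⁻¹ * x a else
      if c = pr a then t⁻¹ * x (pr b) else if c = pr b then -t * x (pr a) else x c := by
  have e1 : a ≠ b := hab.1
  have e2 : a ≠ pr b := hab.2
  have e3 : b ≠ a := fun h => e1 h.symm
  have e4 : pr b ≠ a := fun h => e2 h.symm
  have e5 : pr a ≠ a := pr_ne a
  have e6 : a ≠ pr a := ne_pr a
  have e7 : b ≠ pr b := ne_pr b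
  have e8 : pr b ≠ b := pr_ne b
  have e9 : pr a ≠ pr b := fun h => e1 (pr_inj.mp h)
  have e10 : pr b ≠ pr a := fun h => e9 h.symm
  have e11 : pr a ≠ b := fun h => e2 (pr_eq_iff.mp h)
  have e12 : b ≠ pr a := fun h => e11 h.symm
  simp only [Nel, coe_mul', ← Matrix.mulVec_mulVec, T_mulVec_apply hab, T_mulVec_apply hab.symm,
    pr_pr, e1, e2, e3, e4, e5, e6, e7, e8, e9, e10, e11, e12, if_true, if_false, add_zero, sub_zero]
  by_cases h1 : c = a
  · subst h1
    simp only [e1, e2, e6, if_true, if_false, sub_zero, add_zero]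
    field_simp
    ring
  · by_cases h2 : c = b
    · subst h2
      simp only [e3, e7, e12, if_true, if_false, sub_zero, add_zero]
      field_simp
      ring
    · by_cases h3 : c = pr a
      · subst h3
        simp only [e5, e11, e9, if_true, if_false, sub_zero, add_zero]
        field_simp
        ring
      · by_cases h4 : c = pr b
        · subst h4
          simp only [e4, e8, e10, if_true, if_false, sub_zero, add_zero]
          field_simp
          ring
        · simp only [h1, h2, h3, h4, if_false, sub_zero, add_zero]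

/-- the diagonal action of `Hel a b σ t` -/
theorem Hel_mulVec {a b : I m} (hab : Adm a b) {σ : F} (hσ : σ = 1 ∨ σ = -1) {t : F} (ht : t ≠ 0)
    (x : I m → F) (c : I m) :
    ((((Hel a b σ t : ↥(Cfsg.isometryGroup F (Cfsg.quadFormPlus m F))) :
      Matrix.GeneralLinearGroup (I m) F) : Matrix (I m) (I m) F) *ᵥ x) c =
      if c = a then t * x a else if c = b then t⁻¹ * x b else
      if c = pr a then t⁻¹ * x (pr a) else if c = pr b then t * x (pr b) else x c := by
  have e1 : a ≠ b := hab.1
  have e2 : a ≠ pr b := hab.2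
  have e3 : b ≠ a := fun h => e1 h.symm
  have e4 : pr b ≠ a := fun h => e2 h.symm
  have e5 : pr a ≠ a := pr_ne a
  have e6 : a ≠ pr a := ne_pr a
  have e7 : b ≠ pr b := ne_pr b
  have e8 : pr b ≠ b := pr_ne b
  have e9 : pr a ≠ pr b := fun h => e1 (pr_inj.mp h)
  have e10 : pr b ≠ pr a := fun h => e9 h.symm
  have e11 : pr a ≠ b := fun h => e2 (pr_eq_iff.mp h)
  have e12 : b ≠ pr a := fun h => e11 h.symm
  have hσ0 : σ ≠ 0 := by
    rcases hσ with h | h <;> rw [h] <;> simp
  have hσt : σ * t ≠ 0 := mul_ne_zero hσ0 ht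
  have hnσ : -σ ≠ 0 := neg_ne_zero.mpr hσ0
  have hσσ : σ * σ = 1 := by
    rcases hσ with h | h <;> rw [h] <;> simp
  rw [Hel, coe_mul', ← Matrix.mulVec_mulVec, Nel_mulVec hab hσt]
  simp only [Nel_mulVec hab hnσ, e1, e2, e3, e4, e5, e6, e7, e8, e9, e10, e11, e12, if_true,
    if_false]
  by_cases h1 : c = a
  · simp only [h1, if_true]
    field_simp
  · by_cases h2 : c = b
    · simp only [h1, h2, e3, if_true, if_false]
      field_simp
    · by_cases h3 : c = pr a
      · simp only [h3, e5, e11, if_true, if_false]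
        field_simp
      · by_cases h4 : c = pr b
        · simp only [h4, e4, e8, e10, if_true, if_false]
          field_simp
        · simp only [h1, h2, h3, h4, if_false]

theorem R3 {a b : I m} (hab : Adm a b) {σ : F} (hσ : σ = 1 ∨ σ = -1) {t₁ t₂ : F} (h₁ : t₁ ≠ 0)
    (h₂ : t₂ ≠ 0) :
    (Hel a b σ t₁ : ↥(Cfsg.isometryGroup F (Cfsg.quadFormPlus m F))) * Hel a b σ t₂ =
      Hel a b σ (t₁ * t₂) := by
  have e1 : a ≠ b := hab.1
  have e2 : a ≠ pr b := hab.2
  have e3 : b ≠ a := fun h => e1 h.symm
  have e4 : pr b ≠ a := fun h => e2 h.symm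
  have e5 : pr a ≠ a := pr_ne a
  have e6 : a ≠ pr a := ne_pr a
  have e7 : b ≠ pr b := ne_pr b
  have e8 : pr b ≠ b := pr_ne b
  have e9 : pr a ≠ pr b := fun h => e1 (pr_inj.mp h)
  have e10 : pr b ≠ pr a := fun h => e9 h.symm
  have e11 : pr a ≠ b := fun h => e2 (pr_eq_iff.mp h)
  have e12 : b ≠ pr a := fun h => e11 h.symm
  apply iso_ext
  apply mat_ext_mulVec
  intro x
  rw [coe_mul', ← Matrix.mulVec_mulVec]
  funext c
  rw [Hel_mulVec hab hσ h₁, Hel_mulVec hab hσ (mul_ne_zero h₁ h₂)]
  simp only [Hel_mulVec hab hσ h₂, e1, e2, e3, e4, e5, e6, e7, e8, e9, e10, e11, e12, if_true,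
    if_false]
  by_cases h1 : c = a
  · simp only [h1, if_true]
    ring
  · by_cases h2 : c = b
    · simp only [h2, e3, if_true, if_false]
      rw [mul_inv]
      ring
    · by_cases h3 : c = pr a
      · simp only [h3, e5, e11, if_true, if_false]
        rw [mul_inv]
        ring
      · by_cases h4 : c = pr b
        · simp only [h4, e4, e8, e10, if_true, if_false]
          ring
        · simp only [h1, h2, h3, h4, if_false]

end Cfsg.Agent.Lib.Helper64_D4_R3
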