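import Mathlib
import Cfsg.Agent.Lib.Helper45_D4Defs
import Cfsg.Agent.Lib.Helper64_D4_R3

/-!
# S1082 packages LAST_conj and LAST_comm (helper64, architect helper45)

The isometries fixing all basis vectors except those of the last hyperbolic pair are monomial
(diagonal or a swap on the last pair); they normalise `E` and their commutators lie in `E`.
-/

set_option autoImplicit false
set_option linter.unusedSimpArgs false
set_option linter.unusedVariables false

open Cfsg Matrix Cfsg.Agent.Lib.Helper45_D4Defs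

namespace Cfsg.Agent.Lib.Helper64_D4_LAST

variable {m : ℕ} {F : Type*} [Field F]

/-- the matrix of an isometry -/
abbrev mat (g : ↥(Cfsg.isometryGroup F (Cfsg.quadFormPlus m F))) : Matrix (I m) (I m) F :=
  ((g : Matrix.GeneralLinearGroup (I m) F) : Matrix (I m) (I m) F)

/-- isometries agreeing on the basis vectors are equal -/
theorem iso_ext_bv {g h : ↥(Cfsg.isometryGroup F (Cfsg.quadFormPlus m F))}
    (H : ∀ c : I m, mat g *ᵥ bv c = mat h *ᵥ bv c) : g = h := by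
  apply iso_ext
  ext i j
  have := congrFun (H j) i
  simp only [bv, Matrix.mulVec_single_one, Matrix.col_apply] at this
  exact this

theorem mat_mul (g h : ↥(Cfsg.isometryGroup F (Cfsg.quadFormPlus m F))) (x : I m → F) :
    mat (g * h) *ᵥ x = mat g *ᵥ (mat h *ᵥ x) := by
  rw [mat, coe_mul', ← Matrix.mulVec_mulVec]

theorem mat_one (x : I m → F) :
    mat (1 : ↥(Cfsg.isometryGroup F (Cfsg.quadFormPlus m F))) *ᵥ x = x := by
  rw [mat, coe_one', Matrix.one_mulVec]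

theorem mat_inv_apply (g : ↥(Cfsg.isometryGroup F (Cfsg.quadFormPlus m F))) (x : I m → F) :
    mat g⁻¹ *ᵥ (mat g *ᵥ x) = x := by
  rw [← mat_mul, inv_mul_cancel, mat_one]

theorem mat_apply_inv (g : ↥(Cfsg.isometryGroup F (Cfsg.quadFormPlus m F))) (x : I m → F) :
    mat g *ᵥ (mat g⁻¹ *ᵥ x) = x := by
  rw [← mat_mul, mul_inv_cancel, mat_one]

theorem mat_injective (g : ↥(Cfsg.isometryGroup F (Cfsg.quadFormPlus m F))) {x y : I m → F}
    (h : mat g *ᵥ x = mat g *ᵥ y) : x = y := by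
  rw [← mat_inv_apply g x, h, mat_inv_apply]

/-- `g` fixes all basis vectors outside the hyperbolic pair `n` -/
def Fix (n : Fin m) (g : ↥(Cfsg.isometryGroup F (Cfsg.quadFormPlus m F))) : Prop :=
  ∀ c : I m, idx c ≠ n → mat g *ᵥ bv c = bv c

/-- diagonal type -/
def TD (n : Fin m) (g : ↥(Cfsg.isometryGroup F (Cfsg.quadFormPlus m F))) (α : F) : Prop :=
  α ≠ 0 ∧ Fix n g ∧ mat g *ᵥ bv (Sum.inl n) = α • bv (Sum.inl n) ∧
    mat g *ᵥ bv (Sum.inr n) = α⁻¹ • bv (Sum.inr n)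

/-- swap type -/
def TS (n : Fin m) (g : ↥(Cfsg.isometryGroup F (Cfsg.quadFormPlus m F))) (β : F) : Prop :=
  β ≠ 0 ∧ Fix n g ∧ mat g *ᵥ bv (Sum.inl n) = β • bv (Sum.inr n) ∧
    mat g *ᵥ bv (Sum.inr n) = β⁻¹ • bv (Sum.inl n)

theorem idx_eq_cases {n : Fin m} (c : I m) (h : idx c = n) : c = Sum.inl n ∨ c = Sum.inr n := by
  rcases c with i | i
  · left; simp only [idx_inl] at h; rw [h]
  · right; simp only [idx_inr] at h; rw [h]

/-- coordinates of the image of a vector of the last pair -/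
theorem fix_coord {n : Fin m} {g : ↥(Cfsg.isometryGroup F (Cfsg.quadFormPlus m F))}
    (hg : Fix n g) {d : I m} (hd : idx d = n) {c : I m} (hc : idx c ≠ n) :
    (mat g *ᵥ bv d) c = 0 := by
  have h1 : (mat g *ᵥ bv d) c = Bf (bv (pr c)) (mat g *ᵥ bv d) := by
    rw [Bf_bv_left, pr_pr]
  have h2 : mat g *ᵥ bv (pr c) = bv (pr c) := hg (pr c) (by rw [idx_pr]; exact hc)
  rw [h1]
  conv_lhs => rw [← h2]
  rw [mat, Bf_iso, Bf_bv_left, pr_pr, bv_apply, if_neg]
  rintro rfl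
  exact hc hd

theorem fix_decomp {n : Fin m} {g : ↥(Cfsg.isometryGroup F (Cfsg.quadFormPlus m F))}
    (hg : Fix n g) {d : I m} (hd : idx d = n) :
    mat g *ᵥ bv d = (mat g *ᵥ bv d) (Sum.inl n) • bv (Sum.inl n) +
      (mat g *ᵥ bv d) (Sum.inr n) • bv (Sum.inr n) := by
  funext c
  simp only [Pi.add_apply, Pi.smul_apply, bv_apply, smul_eq_mul]
  by_cases hc : idx c = n
  · rcases idx_eq_cases c hc with h | h
    · subst h; simp
    · subst h; simp
  · rw [fix_coord hg hd hc]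
    have h1 : c ≠ Sum.inl n := by rintro rfl; exact hc rfl
    have h2 : c ≠ Sum.inr n := by rintro rfl; exact hc rfl
    simp [h1, h2]

theorem Q_pair_n (n : Fin m) (α β : F) :
    Cfsg.quadFormPlus m F (α • bv (Sum.inl n) + β • bv (Sum.inr n)) = α * β := by
  rw [Q_def, Finset.sum_eq_single n]
  · simp [bv_apply]
  · intro i _ hi
    simp [bv_apply, hi]
  · intro h; exact absurd (Finset.mem_univ _) h

theorem Bf_pair_n (n : Fin m) (α β γ δ : F) :
    Bf (α • bv (Sum.inl n) + β • bv (Sum.inr n) : I m → F)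
      (γ • bv (Sum.inl n) + δ • bv (Sum.inr n)) = α * δ + β * γ := by
  simp only [Bf, Fintype.sum_sum_type, pr_inl, pr_inr, Pi.add_apply, Pi.smul_apply, bv_apply,
    smul_eq_mul]
  rw [Finset.sum_eq_single n, Finset.sum_eq_single n]
  · simp
  · intro i _ hi; simp [hi]
  · intro h; exact absurd (Finset.mem_univ _) h
  · intro i _ hi; simp [hi]
  · intro h; exact absurd (Finset.mem_univ _) h

/-- **structure**: an isometry fixing the basis vectors outside the pair `n` is of diagonal or of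
swap type -/
theorem structure_of_fix {n : Fin m} {g : ↥(Cfsg.isometryGroup F (Cfsg.quadFormPlus m F))}
    (hg : Fix n g) : (∃ α, TD n g α) ∨ (∃ β, TS n g β) := by
  obtain ⟨α, hα⟩ : ∃ α : F, α = (mat g *ᵥ bv (Sum.inl n)) (Sum.inl n) := ⟨_, rfl⟩
  obtain ⟨β, hβ⟩ : ∃ β : F, β = (mat g *ᵥ bv (Sum.inl n)) (Sum.inr n) := ⟨_, rfl⟩
  obtain ⟨γ, hγ⟩ : ∃ γ : F, γ = (mat g *ᵥ bv (Sum.inr n)) (Sum.inl n) := ⟨_, rfl⟩
  obtain ⟨δ, hδ⟩ : ∃ δ : F, δ = (mat g *ᵥ bv (Sum.inr n)) (Sum.inr n) := ⟨_, rfl⟩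
  have he : mat g *ᵥ bv (Sum.inl n) = α • bv (Sum.inl n) + β • bv (Sum.inr n) := by
    rw [hα, hβ]; exact fix_decomp hg (by simp)
  have hf : mat g *ᵥ bv (Sum.inr n) = γ • bv (Sum.inl n) + δ • bv (Sum.inr n) := by
    rw [hγ, hδ]; exact fix_decomp hg (by simp)
  have q1 : α * β = 0 := by
    have := Q_iso g (bv (Sum.inl n))
    rw [Q_bv] at this
    change Cfsg.quadFormPlus m F (mat g *ᵥ bv (Sum.inl n)) = 0 at this
    rw [he, Q_pair_n] at this
    exact this
  have q2 : γ * δ = 0 := by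
    have := Q_iso g (bv (Sum.inr n))
    rw [Q_bv] at this
    change Cfsg.quadFormPlus m F (mat g *ᵥ bv (Sum.inr n)) = 0 at this
    rw [hf, Q_pair_n] at this
    exact this
  have q3 : α * δ + β * γ = 1 := by
    have := Bf_iso g (bv (Sum.inl n)) (bv (Sum.inr n))
    change Bf (mat g *ᵥ bv (Sum.inl n)) (mat g *ᵥ bv (Sum.inr n)) = _ at this
    rw [he, hf, Bf_pair_n, Bf_bv_left, pr_inl, bv_apply_self] at this
    exact this
  by_cases hβ0 : β = 0
  · left
    rw [hβ0, zero_mul, add_zero] at q3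
    have hα0 : α ≠ 0 := left_ne_zero_of_mul_eq_one q3
    have hδ' : δ = α⁻¹ := eq_inv_of_mul_eq_one_right q3
    have hδ0 : δ ≠ 0 := right_ne_zero_of_mul_eq_one q3
    have hγ0 : γ = 0 := by
      rcases mul_eq_zero.mp q2 with h | h
      · exact h
      · exact absurd h hδ0
    refine ⟨α, hα0, hg, ?_, ?_⟩
    · rw [he, hβ0, zero_smul, add_zero]
    · rw [hf, hγ0, zero_smul, zero_add, hδ']
  · right
    have hα0 : α = 0 := by
      rcases mul_eq_zero.mp q1 with h | h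
      · exact h
      · exact absurd h hβ0
    rw [hα0, zero_mul, zero_add] at q3
    have hγ' : γ = β⁻¹ := eq_inv_of_mul_eq_one_right q3
    have hγ0 : γ ≠ 0 := right_ne_zero_of_mul_eq_one q3
    have hδ0 : δ = 0 := by
      rcases mul_eq_zero.mp q2 with h | h
      · exact absurd h hγ0
      · exact h
    refine ⟨β, hβ0, hg, ?_, ?_⟩
    · rw [he, hα0, zero_smul, zero_add]
    · rw [hf, hδ0, zero_smul, add_zero, hγ']

/-! ### Monomial isometries -/

/-- `g` maps every basis vector to a multiple of a basis vector -/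
def Mono (g : ↥(Cfsg.isometryGroup F (Cfsg.quadFormPlus m F))) (π : I m → I m) (μ : I m → F) :
    Prop :=
  ∀ c : I m, mat g *ᵥ bv c = μ c • bv (π c)

theorem Bf_smul_smul (x y : I m → F) (r s : F) : Bf (r • x) (s • y) = r * s * Bf x y := by
  rw [Bf_smul_right, Bf_comm, Bf_smul_right, Bf_comm]
  ring

theorem Bf_bv_bv (a c : I m) : Bf (bv a : I m → F) (bv c) = if pr a = c then 1 else 0 := by
  rw [Bf_bv_left, bv_apply]

theorem mono_pair {g : ↥(Cfsg.isometryGroup F (Cfsg.quadFormPlus m F))} {π : I m → I m}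
    {μ : I m → F} (h : Mono g π μ) (c : I m) : μ c * μ (pr c) = 1 ∧ π (pr c) = pr (π c) := by
  have h1 := Bf_iso g (bv c) (bv (pr c))
  change Bf (mat g *ᵥ bv c) (mat g *ᵥ bv (pr c)) = _ at h1
  rw [h c, h (pr c), Bf_smul_smul, Bf_bv_bv, Bf_bv_bv, if_pos rfl] at h1
  by_cases h2 : pr (π c) = π (pr c)
  · rw [if_pos h2, mul_one] at h1
    exact ⟨h1, h2.symm⟩
  · rw [if_neg h2, mul_zero] at h1
    exact absurd h1 zero_ne_one

theorem mono_ne_zero {g : ↥(Cfsg.isometryGroup F (Cfsg.quadFormPlus m F))} {π : I m → I m}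
    {μ : I m → F} (h : Mono g π μ) (c : I m) : μ c ≠ 0 :=
  left_ne_zero_of_mul_eq_one (mono_pair h c).1

theorem mono_inj {g : ↥(Cfsg.isometryGroup F (Cfsg.quadFormPlus m F))} {π : I m → I m}
    {μ : I m → F} (h : Mono g π μ) : Function.Injective π := by
  intro c d hcd
  by_contra hne
  have h1 := Bf_iso g (bv c) (bv (pr d))
  change Bf (mat g *ᵥ bv c) (mat g *ᵥ bv (pr d)) = _ at h1
  rw [h c, h (pr d), Bf_smul_smul, Bf_bv_bv, Bf_bv_bv, (mono_pair h d).2, hcd, if_pos rfl,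
    if_neg (fun h3 => hne (pr_inj.mp h3)), mul_one] at h1
  exact mul_ne_zero (mono_ne_zero h c) (mono_ne_zero h (pr d)) h1

theorem mono_adm {g : ↥(Cfsg.isometryGroup F (Cfsg.quadFormPlus m F))} {π : I m → I m}
    {μ : I m → F} (h : Mono g π μ) {a b : I m} (hab : Adm a b) : Adm (π a) (π b) := by
  refine ⟨fun h1 => hab.1 (mono_inj h h1), fun h1 => hab.2 (mono_inj h ?_)⟩
  rw [h1, (mono_pair h b).2]

/-- conjugating a root element by a monomial isometry gives a root element -/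
theorem conj_mono {g : ↥(Cfsg.isometryGroup F (Cfsg.quadFormPlus m F))} {π : I m → I m}
    {μ : I m → F} (h : Mono g π μ) {a b : I m} (hab : Adm a b) (t : F) :
    g * T a b t * g⁻¹ = T (π a) (π b) (t * μ a * μ (pr b)) := by
  have hab' := mono_adm h hab
  have hinj := mono_inj h
  rw [mul_inv_eq_iff_eq_mul]
  apply iso_ext_bv
  intro c
  rw [mat_mul, mat_mul, mat, mat, T_mulVec hab, T_mulVec hab', Matrix.mulVec_sub, Matrix.mulVec_add,
    Matrix.mulVec_smul, Matrix.mulVec_smul]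
  change mat g *ᵥ bv c + _ • (mat g *ᵥ bv a) - _ • (mat g *ᵥ bv (pr b)) = _
  rw [h c, h a, h (pr b), (mono_pair h b).2]
  simp only [Pi.smul_apply, bv_apply, smul_eq_mul, ← (mono_pair h a).2]
  have hb1 : μ b * μ (pr b) = 1 := (mono_pair h b).1
  have ha1 : μ a * μ (pr a) = 1 := (mono_pair h a).1
  by_cases h1 : c = b
  · subst h1
    have h2 : ¬ (pr a = c) := fun h3 => hab.2 (pr_eq_iff.mp h3)
    have h3 : ¬ (π (pr a) = π c) := fun h4 => h2 (hinj h4)
    simp only [if_true, h2, h3, if_false, mul_zero, zero_smul, sub_zero, mul_one, smul_add, smul_smul]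
    have e : t * μ a * μ (pr c) * μ c = t * μ a := by linear_combination (t * μ a) * hb1
    rw [e, zero_mul, zero_smul, sub_zero]
  · have h1' : ¬ (b = c) := fun h3 => h1 h3.symm
    have h1'' : ¬ (π b = π c) := fun h3 => h1' (hinj h3)
    by_cases h2 : pr a = c
    · subst h2
      simp only [if_true, h1', h1'', if_false, mul_zero, zero_smul, add_zero, mul_one, smul_sub,
        smul_smul]
      have e : t * μ a * μ (pr b) * μ (pr a) = t * μ (pr b) := by
        linear_combination (t * μ (pr b)) * ha1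
      rw [e, zero_mul, zero_smul, add_zero]
    · have h2' : ¬ (π (pr a) = π c) := fun h3 => h2 (hinj h3)
      simp only [h1', h1'', h2, h2', if_false, mul_zero, zero_smul, add_zero, sub_zero]

/-! ### The two types are monomial -/

/-- the scalars of the two types -/
def muD (n : Fin m) (α : F) (c : I m) : F :=
  if c = Sum.inl n then α else if c = Sum.inr n then α⁻¹ else 1

/-- the swap of the last pair -/
def swp (n : Fin m) (c : I m) : I m :=
  if c = Sum.inl n then Sum.inr n else if c = Sum.inr n then Sum.inl n else c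

theorem mono_of_TD {n : Fin m} {g : ↥(Cfsg.isometryGroup F (Cfsg.quadFormPlus m F))} {α : F}
    (h : TD n g α) : Mono g id (muD n α) := by
  obtain ⟨h0, hfix, he, hf⟩ := h
  intro c
  by_cases hc : idx c = n
  · rcases idx_eq_cases c hc with h1 | h1
    · subst h1
      rw [he, muD, if_pos rfl]; rfl
    · subst h1
      have : (Sum.inr n : I m) ≠ Sum.inl n := by simp
      rw [hf, muD, if_neg this, if_pos rfl]; rfl
  · have h1 : c ≠ Sum.inl n := by rintro rfl; exact hc rfl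
    have h2 : c ≠ Sum.inr n := by rintro rfl; exact hc rfl
    rw [hfix c hc, muD, if_neg h1, if_neg h2, one_smul]; rfl

theorem mono_of_TS {n : Fin m} {g : ↥(Cfsg.isometryGroup F (Cfsg.quadFormPlus m F))} {β : F}
    (h : TS n g β) : Mono g (swp n) (muD n β) := by
  obtain ⟨h0, hfix, he, hf⟩ := h
  intro c
  by_cases hc : idx c = n
  · rcases idx_eq_cases c hc with h1 | h1
    · subst h1
      rw [he, muD, if_pos rfl, swp, if_pos rfl]
    · subst h1
      have : (Sum.inr n : I m) ≠ Sum.inl n := by simp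
      rw [hf, muD, if_neg this, if_pos rfl, swp, if_neg this, if_pos rfl]
  · have h1 : c ≠ Sum.inl n := by rintro rfl; exact hc rfl
    have h2 : c ≠ Sum.inr n := by rintro rfl; exact hc rfl
    rw [hfix c hc, muD, if_neg h1, if_neg h2, one_smul, swp, if_neg h1, if_neg h2]

theorem fix_of_mem_Lk (hm : 2 ≤ m) {l : ↥(Cfsg.isometryGroup F (Cfsg.quadFormPlus m F))}
    (hl : l ∈ Lk m F (m - 1)) : Fix (⟨m - 1, by omega⟩ : Fin m) l := by
  intro c hc
  apply (mem_Lk.mp hl) c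
  have h1 : (idx c).val < m := (idx c).2
  have h2 : (idx c).val ≠ m - 1 := fun h => hc (Fin.ext h)
  omega

theorem LAST_conj (hm : 2 ≤ m) (l : ↥(Cfsg.isometryGroup F (Cfsg.quadFormPlus m F)))
    (hl : l ∈ Lk m F (m - 1)) {a b : I m} (hab : Adm a b) (t : F) : l * T a b t * l⁻¹ ∈ E m F := by
  rcases structure_of_fix (fix_of_mem_Lk hm hl) with ⟨α, h⟩ | ⟨β, h⟩
  · rw [conj_mono (mono_of_TD h) hab]
    exact T_mem_E _ _ _
  · rw [conj_mono (mono_of_TS h) hab]
    exact T_mem_E _ _ _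

/-! ### Products and inverses of the two types -/

theorem mat_smul (g : ↥(Cfsg.isometryGroup F (Cfsg.quadFormPlus m F))) (r : F) (x : I m → F) :
    mat g *ᵥ (r • x) = r • (mat g *ᵥ x) := Matrix.mulVec_smul _ _ _

theorem Fix.mul {n : Fin m} {g h : ↥(Cfsg.isometryGroup F (Cfsg.quadFormPlus m F))}
    (hg : Fix n g) (hh : Fix n h) : Fix n (g * h) := by
  intro c hc
  rw [mat_mul, hh c hc, hg c hc]

theorem Fix.inv {n : Fin m} {g : ↥(Cfsg.isometryGroup F (Cfsg.quadFormPlus m F))}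
    (hg : Fix n g) : Fix n g⁻¹ := by
  intro c hc
  conv_lhs => rw [← hg c hc]
  rw [mat_inv_apply]

theorem TD.congr {n : Fin m} {g : ↥(Cfsg.isometryGroup F (Cfsg.quadFormPlus m F))} {α α' : F}
    (h : TD n g α) (e : α = α') : TD n g α' := e ▸ h

theorem TD.mul {n : Fin m} {g h : ↥(Cfsg.isometryGroup F (Cfsg.quadFormPlus m F))} {α α' : F}
    (hg : TD n g α) (hh : TD n h α') : TD n (g * h) (α * α') := by
  obtain ⟨g0, gfix, ge, gf⟩ := hg
  obtain ⟨h0, hfix, he, hf⟩ := hh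
  refine ⟨mul_ne_zero g0 h0, gfix.mul hfix, ?_, ?_⟩
  · rw [mat_mul, he, mat_smul, ge, smul_smul, mul_comm]
  · rw [mat_mul, hf, mat_smul, gf, smul_smul, mul_inv, mul_comm]

theorem TD.mul_TS {n : Fin m} {g h : ↥(Cfsg.isometryGroup F (Cfsg.quadFormPlus m F))} {α β : F}
    (hg : TD n g α) (hh : TS n h β) : TS n (g * h) (β * α⁻¹) := by
  obtain ⟨g0, gfix, ge, gf⟩ := hg
  obtain ⟨h0, hfix, he, hf⟩ := hh
  refine ⟨mul_ne_zero h0 (inv_ne_zero g0), gfix.mul hfix, ?_, ?_⟩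
  · rw [mat_mul, he, mat_smul, gf, smul_smul]
  · rw [mat_mul, hf, mat_smul, ge, smul_smul, mul_inv, inv_inv]

theorem TS.mul_TD {n : Fin m} {g h : ↥(Cfsg.isometryGroup F (Cfsg.quadFormPlus m F))} {α β : F}
    (hg : TS n g β) (hh : TD n h α) : TS n (g * h) (α * β) := by
  obtain ⟨g0, gfix, ge, gf⟩ := hg
  obtain ⟨h0, hfix, he, hf⟩ := hh
  refine ⟨mul_ne_zero h0 g0, gfix.mul hfix, ?_, ?_⟩
  · rw [mat_mul, he, mat_smul, ge, smul_smul]
  · rw [mat_mul, hf, mat_smul, gf, smul_smul, mul_inv]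

theorem TS.mul {n : Fin m} {g h : ↥(Cfsg.isometryGroup F (Cfsg.quadFormPlus m F))} {β β' : F}
    (hg : TS n g β) (hh : TS n h β') : TD n (g * h) (β' * β⁻¹) := by
  obtain ⟨g0, gfix, ge, gf⟩ := hg
  obtain ⟨h0, hfix, he, hf⟩ := hh
  refine ⟨mul_ne_zero h0 (inv_ne_zero g0), gfix.mul hfix, ?_, ?_⟩
  · rw [mat_mul, he, mat_smul, gf, smul_smul]
  · rw [mat_mul, hf, mat_smul, ge, smul_smul, mul_inv, inv_inv]

theorem TD.inv {n : Fin m} {g : ↥(Cfsg.isometryGroup F (Cfsg.quadFormPlus m F))} {α : F}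
    (hg : TD n g α) : TD n g⁻¹ α⁻¹ := by
  obtain ⟨g0, gfix, ge, gf⟩ := hg
  refine ⟨inv_ne_zero g0, gfix.inv, ?_, ?_⟩
  · have h1 : mat g⁻¹ *ᵥ (mat g *ᵥ bv (Sum.inl n)) = bv (Sum.inl n) := mat_inv_apply _ _
    rw [ge, mat_smul] at h1
    calc mat g⁻¹ *ᵥ bv (Sum.inl n) = α⁻¹ • (α • (mat g⁻¹ *ᵥ bv (Sum.inl n))) := by
          rw [smul_smul, inv_mul_cancel₀ g0, one_smul]
      _ = α⁻¹ • bv (Sum.inl n) := by rw [h1]
  · have h1 : mat g⁻¹ *ᵥ (mat g *ᵥ bv (Sum.inr n)) = bv (Sum.inr n) := mat_inv_apply _ _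
    rw [gf, mat_smul] at h1
    calc mat g⁻¹ *ᵥ bv (Sum.inr n) = α • (α⁻¹ • (mat g⁻¹ *ᵥ bv (Sum.inr n))) := by
          rw [smul_smul, mul_inv_cancel₀ g0, one_smul]
      _ = α⁻¹⁻¹ • bv (Sum.inr n) := by rw [h1, inv_inv]

theorem TS.inv {n : Fin m} {g : ↥(Cfsg.isometryGroup F (Cfsg.quadFormPlus m F))} {β : F}
    (hg : TS n g β) : TS n g⁻¹ β := by
  obtain ⟨g0, gfix, ge, gf⟩ := hg
  refine ⟨g0, gfix.inv, ?_, ?_⟩
  · have h1 : mat g⁻¹ *ᵥ (mat g *ᵥ bv (Sum.inr n)) = bv (Sum.inr n) := mat_inv_apply _ _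
    rw [gf, mat_smul] at h1
    calc mat g⁻¹ *ᵥ bv (Sum.inl n) = β • (β⁻¹ • (mat g⁻¹ *ᵥ bv (Sum.inl n))) := by
          rw [smul_smul, mul_inv_cancel₀ g0, one_smul]
      _ = β • bv (Sum.inr n) := by rw [h1]
  · have h1 : mat g⁻¹ *ᵥ (mat g *ᵥ bv (Sum.inl n)) = bv (Sum.inl n) := mat_inv_apply _ _
    rw [ge, mat_smul] at h1
    calc mat g⁻¹ *ᵥ bv (Sum.inr n) = β⁻¹ • (β • (mat g⁻¹ *ᵥ bv (Sum.inr n))) := by
          rw [smul_smul, inv_mul_cancel₀ g0, one_smul]
      _ = β⁻¹ • bv (Sum.inl n) := by rw [h1]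

theorem TD.unique {n : Fin m} {g h : ↥(Cfsg.isometryGroup F (Cfsg.quadFormPlus m F))} {α : F}
    (hg : TD n g α) (hh : TD n h α) : g = h := by
  obtain ⟨g0, gfix, ge, gf⟩ := hg
  obtain ⟨h0, hfix, he, hf⟩ := hh
  apply iso_ext_bv
  intro c
  by_cases hc : idx c = n
  · rcases idx_eq_cases c hc with h1 | h1
    · subst h1; rw [ge, he]
    · subst h1; rw [gf, hf]
  · rw [gfix c hc, hfix c hc]

/-! ### The diagonal elements with square parameter lie in `E` -/

open Cfsg.Agent.Lib.Helper64_D4_R3 in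
theorem Hel_mem_E (a b : I m) (σ t : F) : (Hel a b σ t) ∈ E m F := by
  have hN : ∀ s : F, Nel a b s ∈ E m F := fun s =>
    Subgroup.mul_mem _ (Subgroup.mul_mem _ (T_mem_E _ _ _) (T_mem_E _ _ _)) (T_mem_E _ _ _)
  exact Subgroup.mul_mem _ (hN _) (hN _)

/-- the element `d(c²)` -/
def Dsq (j n : Fin m) (c : F) : ↥(Cfsg.isometryGroup F (Cfsg.quadFormPlus m F)) :=
  Hel (Sum.inl j) (Sum.inl n) 1 c⁻¹ * Hel (Sum.inl j) (Sum.inr n) 1 c

open Cfsg.Agent.Lib.Helper64_D4_R3 in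
theorem Dsq_mulVec {j n : Fin m} (hjn : j ≠ n) {c : F} (hc : c ≠ 0) (x : I m → F) (d : I m) :
    (mat (Dsq j n c) *ᵥ x) d =
      if d = Sum.inl n then c * c * x d else if d = Sum.inr n then (c * c)⁻¹ * x d else x d := by
  have hadm1 : Adm (Sum.inl j : I m) (Sum.inl n) := by
    constructor
    · intro h; exact hjn (Sum.inl.inj h)
    · simp
  have hadm2 : Adm (Sum.inl j : I m) (Sum.inr n) := by
    constructor
    · simp
    · rw [pr_inr]; intro h; exact hjn (Sum.inl.inj h)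
  have hσ : (1 : F) = 1 ∨ (1 : F) = -1 := Or.inl rfl
  have hnj : n ≠ j := fun h => hjn h.symm
  rw [Dsq, mat_mul, mat, Hel_mulVec hadm1 hσ (inv_ne_zero hc)]
  simp only [Hel_mulVec hadm2 hσ hc, pr_inl, pr_inr, inv_inv, Sum.inl.injEq, Sum.inr.injEq,
    reduceCtorEq, if_false, if_true, hjn, hnj]
  rcases d with i | i
  · simp only [Sum.inl.injEq, reduceCtorEq, if_false]
    by_cases h1 : i = j
    · subst h1
      simp only [if_true, hjn, if_false]
      field_simp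
    · by_cases h2 : i = n
      · subst h2
        simp only [h1, if_false, if_true]
        ring
      · simp only [h1, h2, if_false]
  · simp only [Sum.inr.injEq, reduceCtorEq, if_false]
    by_cases h1 : i = j
    · subst h1
      simp only [if_true, hjn, if_false]
      field_simp
    · by_cases h2 : i = n
      · subst h2
        simp only [h1, if_false, if_true]
        rw [mul_inv]
        ring
      · simp only [h1, h2, if_false]

theorem Dsq_TD {j n : Fin m} (hjn : j ≠ n) {c : F} (hc : c ≠ 0) : TD n (Dsq j n c : ↥(Cfsg.isometryGroup F (Cfsg.quadFormPlus m F))) (c * c) := by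
  refine ⟨mul_ne_zero hc hc, ?_, ?_, ?_⟩
  · intro d hd
    have h1 : d ≠ Sum.inl n := by rintro rfl; exact hd rfl
    have h2 : d ≠ Sum.inr n := by rintro rfl; exact hd rfl
    funext d'
    rw [Dsq_mulVec hjn hc, bv_apply]
    by_cases h3 : d' = d
    · subst h3
      rw [if_neg h1, if_neg h2]
    · rw [if_neg h3]
      split_ifs <;> simp
  · funext d'
    rw [Dsq_mulVec hjn hc]
    simp only [Pi.smul_apply, bv_apply, smul_eq_mul]
    by_cases h3 : d' = Sum.inl n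
    · rw [if_pos h3]
    · rw [if_neg h3]
      split_ifs <;> simp
  · funext d'
    rw [Dsq_mulVec hjn hc]
    simp only [Pi.smul_apply, bv_apply, smul_eq_mul]
    by_cases h3 : d' = Sum.inr n
    · have h4 : d' ≠ Sum.inl n := by rw [h3]; simp
      rw [if_neg h4, if_pos h3]
    · rw [if_neg h3]
      split_ifs <;> simp

theorem TD_sq_mem_E {j n : Fin m} (hjn : j ≠ n) {g : ↥(Cfsg.isometryGroup F (Cfsg.quadFormPlus m F))}
    {c : F} (hg : TD n g (c * c)) : g ∈ E m F := by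
  have hc : c ≠ 0 := fun h => hg.1 (by rw [h, mul_zero])
  rw [hg.unique (Dsq_TD hjn hc)]
  exact Subgroup.mul_mem _ (Hel_mem_E _ _ _ _) (Hel_mem_E _ _ _ _)

theorem LAST_comm (hm : 2 ≤ m) (l₁ l₂ : ↥(Cfsg.isometryGroup F (Cfsg.quadFormPlus m F)))
    (h₁ : l₁ ∈ Lk m F (m - 1)) (h₂ : l₂ ∈ Lk m F (m - 1)) : l₁ * l₂ * l₁⁻¹ * l₂⁻¹ ∈ E m F := by
  have hjn : (⟨0, by omega⟩ : Fin m) ≠ ⟨m - 1, by omega⟩ := by
    intro h
    have := congrArg Fin.val h
    simp only at this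
    omega
  have e : l₁ * l₂ * l₁⁻¹ * l₂⁻¹ = (l₁ * l₂) * (l₂ * l₁)⁻¹ := by group
  rw [e]
  rcases structure_of_fix (fix_of_mem_Lk hm h₁) with ⟨α₁, t₁⟩ | ⟨β₁, t₁⟩ <;>
    rcases structure_of_fix (fix_of_mem_Lk hm h₂) with ⟨α₂, t₂⟩ | ⟨β₂, t₂⟩
  · -- diagonal, diagonal
    have h := (t₁.mul t₂).mul (t₂.mul t₁).inv
    have h0 := h.1
    refine TD_sq_mem_E hjn (c := 1) (h.congr ?_)
    have a1 := t₁.1
    have a2 := t₂.1
    field_simp
  · -- diagonal, swap
    have h := (t₁.mul_TS t₂).mul (t₂.mul_TD t₁).inv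
    refine TD_sq_mem_E hjn (c := α₁) (h.congr ?_)
    have a1 := t₁.1
    have a2 := t₂.1
    field_simp
  · -- swap, diagonal
    have h := (t₁.mul_TD t₂).mul (t₂.mul_TS t₁).inv
    refine TD_sq_mem_E hjn (c := α₂⁻¹) (h.congr ?_)
    have a1 := t₁.1
    have a2 := t₂.1
    field_simp
  · -- swap, swap
    have h := (t₁.mul t₂).mul (t₂.mul t₁).inv
    refine TD_sq_mem_E hjn (c := β₂ * β₁⁻¹) (h.congr ?_)
    have a1 := t₁.1
    have a2 := t₂.1
    field_simp

end Cfsg.Agent.Lib.Helper64_D4_LAST
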