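import Mathlib
import Cfsg.Agent.Lib.Helper45_D4Defs

/-!
# S1082 package PAIR (helper64, architect helper45)

The stabiliser of `e_k` in `E_k` is transitive on the singular vectors `y` with `B(e_k, y) = 1`
supported on the indices `≥ k`.
-/

set_option autoImplicit false
set_option linter.unusedSimpArgs false
set_option linter.unusedVariables false

open Cfsg Matrix Cfsg.Agent.Lib.Helper45_D4Defs

namespace Cfsg.Agent.Lib.Helper64_D4_PAIR

variable {m : ℕ} {F : Type*} [Field F]

/-- the inductive statement: all coordinates of index `> k` outside `S` already vanish -/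
theorem pair_aux {k : ℕ} (hk : k < m) (S : Finset (I m)) :
    ∀ y : I m → F, Cfsg.quadFormPlus m F y = 0 → y (Sum.inr ⟨k, hk⟩) = 1 →
      (∀ a : I m, (idx a).val < k → y a = 0) →
      (∀ c : I m, k < (idx c).val → c ∉ S → y c = 0) →
      ∃ h ∈ Ek m F k,
        ((h : Matrix.GeneralLinearGroup (I m) F) : Matrix (I m) (I m) F) *ᵥ bv (Sum.inl ⟨k, hk⟩) =
          bv (Sum.inl ⟨k, hk⟩) ∧
        ((h : Matrix.GeneralLinearGroup (I m) F) : Matrix (I m) (I m) F) *ᵥ y =
          bv (Sum.inr ⟨k, hk⟩) := by
  classical
  induction S using Finset.induction_on with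
  | empty =>
    intro y hQ h1 h0 hS
    refine ⟨1, Subgroup.one_mem _, ?_, ?_⟩
    · rw [coe_one', Matrix.one_mulVec]
    · rw [coe_one', Matrix.one_mulVec]
      -- `y` is supported on `inl k`, `inr k`
      have hsupp : ∀ c : I m, (idx c).val ≠ k → y c = 0 := by
        intro c hc
        rcases lt_or_gt_of_ne hc with h | h
        · exact h0 c h
        · exact hS c h (Finset.notMem_empty c)
      have hinl : y (Sum.inl ⟨k, hk⟩) = 0 := by
        rw [Q_def] at hQ
        rw [Finset.sum_eq_single (⟨k, hk⟩ : Fin m)] at hQ
        · rw [h1, mul_one] at hQ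
          exact hQ
        · intro i _ hi
          have : y (Sum.inl i) = 0 := by
            apply hsupp
            intro h
            apply hi
            exact Fin.ext h
          rw [this, zero_mul]
        · intro h
          exact absurd (Finset.mem_univ _) h
      funext c
      rw [bv_apply]
      by_cases hc : c = Sum.inr ⟨k, hk⟩
      · rw [if_pos hc, hc, h1]
      · rw [if_neg hc]
        rcases c with i | i
        · by_cases hi : i = ⟨k, hk⟩
          · rw [hi]; exact hinl
          · apply hsupp
            intro h
            apply hi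
            exact Fin.ext h
        · apply hsupp
          intro h
          apply hc
          congr 1
          exact Fin.ext h
  | insert c S hcS ih =>
    intro y hQ h1 h0 hS
    by_cases hck : k < (idx c).val
    · -- clear the coordinate `c`
      have hadm : Adm (Sum.inl ⟨k, hk⟩ : I m) (pr c) := by
        constructor
        · intro h
          have := congrArg (fun z => (idx z).val) h
          simp only [idx_inl, idx_pr] at this
          omega
        · rw [pr_pr]
          intro h
          have := congrArg (fun z => (idx z).val) h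
          simp only [idx_inl] at this
          omega
      set g : ↥(Cfsg.isometryGroup F (Cfsg.quadFormPlus m F)) :=
        T (Sum.inl ⟨k, hk⟩) (pr c) (y c) with hg
      have hgE : g ∈ Ek m F k := by
        apply T_mem_Ek
        · simp
        · rw [idx_pr]; exact hck.le
      have hne1 : c ≠ Sum.inl ⟨k, hk⟩ := by
        intro h
        rw [h] at hck
        simp at hck
      have hne2 : c ≠ Sum.inr ⟨k, hk⟩ := by
        intro h
        rw [h] at hck
        simp at hck
      -- the new vector
      set y' : I m → F :=
        ((g : Matrix.GeneralLinearGroup (I m) F) : Matrix (I m) (I m) F) *ᵥ y with hy'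
      have hy'c : ∀ d : I m, y' d = y d + (if d = Sum.inl ⟨k, hk⟩ then y c * y (pr c) else 0)
          - (if d = c then y c else 0) := by
        intro d
        rw [hy', hg, T_mulVec_apply hadm]
        simp only [pr_pr, pr_inl, h1, mul_one]
      have hge : ((g : Matrix.GeneralLinearGroup (I m) F) : Matrix (I m) (I m) F) *ᵥ
          bv (Sum.inl ⟨k, hk⟩) = bv (Sum.inl ⟨k, hk⟩) := by
        rw [hg, T_mulVec hadm]
        have z1 : (bv (Sum.inl ⟨k, hk⟩ : I m) : I m → F) (pr c) = 0 := by
          rw [bv_apply, if_neg]
          intro h
          exact hne2 (by rw [← pr_pr c, h]; rfl)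
        have z2 : (bv (Sum.inl ⟨k, hk⟩ : I m) : I m → F) (pr (Sum.inl ⟨k, hk⟩)) = 0 := by
          rw [bv_apply, if_neg]
          simp
        rw [z1, z2, mul_zero, zero_smul, zero_smul, add_zero, sub_zero]
      obtain ⟨h, hhE, hh1, hh2⟩ := ih y' (by rw [hy', Q_iso]; exact hQ)
        (by
          rw [hy'c]
          have n1 : (Sum.inr ⟨k, hk⟩ : I m) ≠ Sum.inl ⟨k, hk⟩ := by simp
          rw [if_neg n1, if_neg (fun h => hne2 h.symm), h1, add_zero, sub_zero])
        (by
          intro a ha
          rw [hy'c]
          have n1 : a ≠ Sum.inl ⟨k, hk⟩ := by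
            intro h
            rw [h] at ha
            simp at ha
          have n2 : a ≠ c := by
            intro h
            rw [h] at ha
            omega
          rw [if_neg n1, if_neg n2, h0 a ha, add_zero, sub_zero])
        (by
          intro d hd hdS
          rw [hy'c]
          have n1 : d ≠ Sum.inl ⟨k, hk⟩ := by
            intro h
            rw [h] at hd
            simp at hd
          rw [if_neg n1, add_zero]
          by_cases hdc : d = c
          · rw [if_pos hdc, hdc, sub_self]
          · rw [if_neg hdc, sub_zero]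
            apply hS d hd
            rw [Finset.mem_insert]
            push Not
            exact ⟨hdc, hdS⟩)
      refine ⟨h * g, Subgroup.mul_mem _ hhE hgE, ?_, ?_⟩
      · rw [coe_mul', ← Matrix.mulVec_mulVec, hge, hh1]
      · rw [coe_mul', ← Matrix.mulVec_mulVec]
        exact hh2
    · -- nothing to do for `c`
      apply ih y hQ h1 h0
      intro d hd hdS
      apply hS d hd
      rw [Finset.mem_insert]
      push Not
      refine ⟨?_, hdS⟩
      intro h
      rw [h] at hd
      exact hck hd

theorem PAIR {k : ℕ} (hk : k + 2 ≤ m) (y : I m → F) (hQ : Cfsg.quadFormPlus m F y = 0)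
    (h1 : y (Sum.inr ⟨k, by omega⟩) = 1) (h0 : ∀ a : I m, (idx a).val < k → y a = 0) :
    ∃ h ∈ Ek m F k,
      ((h : Matrix.GeneralLinearGroup (I m) F) : Matrix (I m) (I m) F) *ᵥ bv (Sum.inl ⟨k, by omega⟩) =
        bv (Sum.inl ⟨k, by omega⟩) ∧
      ((h : Matrix.GeneralLinearGroup (I m) F) : Matrix (I m) (I m) F) *ᵥ y =
        bv (Sum.inr ⟨k, by omega⟩) :=
  pair_aux (by omega) Finset.univ y hQ h1 h0 (fun c _ hc => absurd (Finset.mem_univ c) hc)

end Cfsg.Agent.Lib.Helper64_D4_PAIR
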