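import Mathlib
import Cfsg.Agent.Lib.Helper45_D4Defs
import Cfsg.Agent.Lib.Helper31_D4_COMM
import Cfsg.Agent.Lib.Helper31_D4_TRANS
import Cfsg.Agent.Lib.Helper64_D4_PAIR
import Cfsg.Agent.Lib.Helper64_D4_LAST

/-!
# `Ω⁺_{2m}(F) = [O, O]` is the elementary subgroup `E`, over every field, `m ≥ 3` (S1082)

`O = E · L` with `L` the pointwise stabiliser of the first `m - 1` hyperbolic pairs (induction on the number of fixed
pairs, by the transitivity packages TRANS and PAIR), `L` normalises `E` and has its commutators in `E`, and every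
root element is a commutator.
-/

set_option autoImplicit false

namespace Cfsg.Agent.Lib.Helper45_D4Orth

open Cfsg Matrix Cfsg.Agent.Lib.Helper45_D4Defs
open scoped commutatorElement

variable {m : ℕ} {F : Type*} [Field F]

/-! ### The reduction step -/

theorem mulVec_ne_zero (g : ↥(Cfsg.isometryGroup F (Cfsg.quadFormPlus m F))) {x : I m → F}
    (hx : x ≠ 0) : ((g : Matrix.GeneralLinearGroup (I m) F) : Matrix (I m) (I m) F) *ᵥ x ≠ 0 := by
  intro h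
  apply hx
  have h1 : ((g⁻¹ * g : ↥(Cfsg.isometryGroup F (Cfsg.quadFormPlus m F))) :
      Matrix.GeneralLinearGroup (I m) F).1 *ᵥ x = x := by
    rw [inv_mul_cancel, coe_one', Matrix.one_mulVec]
  rw [coe_mul', ← Matrix.mulVec_mulVec, h, Matrix.mulVec_zero] at h1
  exact h1.symm

theorem bv_ne_zero (a : I m) : (bv a : I m → F) ≠ 0 := by
  intro h
  have := congrFun h a
  rw [bv_apply_self] at this
  exact one_ne_zero this

/-- The coordinates with index `< k` of the image under `g ∈ L_k` of a basis vector of index `≥ k` vanish. -/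
theorem coord_zero {k : ℕ} {g : ↥(Cfsg.isometryGroup F (Cfsg.quadFormPlus m F))} (hg : g ∈ Lk m F k)
    {c : I m} (hc : k ≤ (idx c).val) {a : I m} (ha : (idx a).val < k) :
    (((g : Matrix.GeneralLinearGroup (I m) F) : Matrix (I m) (I m) F) *ᵥ bv c) a = 0 := by
  have h1 : (idx (pr a)).val < k := by rw [idx_pr]; exact ha
  have h2 := Bf_iso g (bv (pr a)) (bv c)
  rw [hg (pr a) h1, Bf_bv_left, Bf_bv_left, pr_pr] at h2
  rw [h2, bv_apply, if_neg]
  rintro rfl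
  omega

theorem STEP {k : ℕ} (hk : k + 2 ≤ m) (g : ↥(Cfsg.isometryGroup F (Cfsg.quadFormPlus m F)))
    (hg : g ∈ Lk m F k) : ∃ h ∈ Ek m F k, h * g ∈ Lk m F (k + 1) := by
  have hkm : k < m := by omega
  -- first move `g e_k` back to `e_k`
  obtain ⟨h1, hh1, e1⟩ := Cfsg.Agent.Lib.Helper31_D4_TRANS.TRANS hk
    (((g : Matrix.GeneralLinearGroup (I m) F) : Matrix (I m) (I m) F) *ᵥ bv (Sum.inl ⟨k, hkm⟩))
    (mulVec_ne_zero g (bv_ne_zero _)) (by rw [Q_iso, Q_bv])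
    (fun a ha => coord_zero hg (c := Sum.inl ⟨k, hkm⟩) (le_refl k) ha)
  have hg1 : h1 * g ∈ Lk m F k := Subgroup.mul_mem _ (Ek_le_Lk k hh1) hg
  have e1' : (((h1 * g : ↥(Cfsg.isometryGroup F (Cfsg.quadFormPlus m F))) :
      Matrix.GeneralLinearGroup (I m) F) : Matrix (I m) (I m) F) *ᵥ bv (Sum.inl ⟨k, hkm⟩) =
      bv (Sum.inl ⟨k, hkm⟩) := by
    rw [coe_mul', ← Matrix.mulVec_mulVec, e1]
  -- then move the image of `f_k`
  have hy1 : ((((h1 * g : ↥(Cfsg.isometryGroup F (Cfsg.quadFormPlus m F))) :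
      Matrix.GeneralLinearGroup (I m) F) : Matrix (I m) (I m) F) *ᵥ bv (Sum.inr ⟨k, hkm⟩))
      (Sum.inr ⟨k, hkm⟩) = 1 := by
    have h2 := Bf_iso (h1 * g) (bv (Sum.inl ⟨k, hkm⟩)) (bv (Sum.inr ⟨k, hkm⟩))
    rw [e1', Bf_bv_left, Bf_bv_left, pr_inl, bv_apply_self] at h2
    exact h2
  obtain ⟨h2, hh2, e2, e3⟩ := Cfsg.Agent.Lib.Helper64_D4_PAIR.PAIR hk
    ((((h1 * g : ↥(Cfsg.isometryGroup F (Cfsg.quadFormPlus m F))) :
      Matrix.GeneralLinearGroup (I m) F) : Matrix (I m) (I m) F) *ᵥ bv (Sum.inr ⟨k, hkm⟩))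
    (by rw [Q_iso, Q_bv]) hy1
    (fun a ha => coord_zero hg1 (c := Sum.inr ⟨k, hkm⟩) (le_refl k) ha)
  refine ⟨h2 * h1, Subgroup.mul_mem _ hh2 hh1, ?_⟩
  have hg2 : h2 * (h1 * g) ∈ Lk m F k := Subgroup.mul_mem _ (Ek_le_Lk k hh2) hg1
  rw [mul_assoc]
  intro a ha
  by_cases hlt : (idx a).val < k
  · exact hg2 a hlt
  · have hak : (idx a).val = k := by omega
    rcases a with i | i
    · have hi : i = ⟨k, hkm⟩ := Fin.ext hak
      subst hi
      rw [coe_mul', ← Matrix.mulVec_mulVec, e1', e2]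
    · have hi : i = ⟨k, hkm⟩ := Fin.ext hak
      subst hi
      rw [coe_mul', ← Matrix.mulVec_mulVec, e3]

/-- `O = E · L_k` for `k ≤ m - 1`. -/
theorem exists_mul_mem_Lk (k : ℕ) (hk : k + 1 ≤ m)
    (g : ↥(Cfsg.isometryGroup F (Cfsg.quadFormPlus m F))) : ∃ h ∈ E m F, h * g ∈ Lk m F k := by
  induction k with
  | zero => exact ⟨1, Subgroup.one_mem _, by rw [Lk_zero]; exact Subgroup.mem_top _⟩
  | succ k ih =>
    obtain ⟨h, hh, hg⟩ := ih (by omega)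
    obtain ⟨h', hh', hg'⟩ := STEP (by omega) (h * g) hg
    exact ⟨h' * h, Subgroup.mul_mem _ (Ek_le_E k hh') hh, by rw [mul_assoc]; exact hg'⟩

/-! ### `E` is normal with abelian quotient -/

theorem conj_mem_E_of_mem_L (hm : 2 ≤ m) {l : ↥(Cfsg.isometryGroup F (Cfsg.quadFormPlus m F))}
    (hl : l ∈ Lk m F (m - 1)) {x : ↥(Cfsg.isometryGroup F (Cfsg.quadFormPlus m F))} (hx : x ∈ E m F) :
    l * x * l⁻¹ ∈ E m F := by
  have key : E m F ≤ (E m F).comap (MulAut.conj l).toMonoidHom := by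
    rw [E, Ek, Subgroup.closure_le]
    rintro g ⟨a, b, t, hab, -, -, rfl⟩
    show l * T a b t * l⁻¹ ∈ E m F
    exact Cfsg.Agent.Lib.Helper64_D4_LAST.LAST_conj hm l hl hab t
  exact key hx

theorem E_normal (hm : 2 ≤ m) : (E m F).Normal := by
  constructor
  intro x hx g
  obtain ⟨h, hh, hl⟩ := exists_mul_mem_Lk (m - 1) (by omega) g
  -- `g = h⁻¹ * (h * g)`
  have e : g * x * g⁻¹ = h⁻¹ * ((h * g) * x * (h * g)⁻¹) * h := by group
  rw [e]
  exact Subgroup.mul_mem _ (Subgroup.mul_mem _ (Subgroup.inv_mem _ hh) (conj_mem_E_of_mem_L hm hl hx)) hh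

theorem commutator_le_E (hm : 2 ≤ m) :
    commutator ↥(Cfsg.isometryGroup F (Cfsg.quadFormPlus m F)) ≤ E m F := by
  haveI := E_normal (F := F) hm
  rw [commutator_def, Subgroup.commutator_le]
  intro g₁ _ g₂ _
  obtain ⟨h₁, hh₁, hl₁⟩ := exists_mul_mem_Lk (m - 1) (by omega) g₁
  obtain ⟨h₂, hh₂, hl₂⟩ := exists_mul_mem_Lk (m - 1) (by omega) g₂
  rw [← QuotientGroup.eq_one_iff]
  show (QuotientGroup.mk' (E m F)) ⁅g₁, g₂⁆ = 1
  rw [map_commutatorElement]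
  show ⁅((g₁ : ↥(Cfsg.isometryGroup F (Cfsg.quadFormPlus m F))) :
      ↥(Cfsg.isometryGroup F (Cfsg.quadFormPlus m F)) ⧸ E m F), ((g₂ : _) : _ ⧸ E m F)⁆ = 1
  have q1 : ((g₁ : ↥(Cfsg.isometryGroup F (Cfsg.quadFormPlus m F))) :
      ↥(Cfsg.isometryGroup F (Cfsg.quadFormPlus m F)) ⧸ E m F) = ((h₁ * g₁ : _) : _ ⧸ E m F) := by
    rw [QuotientGroup.mk_mul, (QuotientGroup.eq_one_iff h₁).mpr hh₁, one_mul]
  have q2 : ((g₂ : ↥(Cfsg.isometryGroup F (Cfsg.quadFormPlus m F))) :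
      ↥(Cfsg.isometryGroup F (Cfsg.quadFormPlus m F)) ⧸ E m F) = ((h₂ * g₂ : _) : _ ⧸ E m F) := by
    rw [QuotientGroup.mk_mul, (QuotientGroup.eq_one_iff h₂).mpr hh₂, one_mul]
  rw [q1, q2]
  show ⁅(QuotientGroup.mk' (E m F)) (h₁ * g₁), (QuotientGroup.mk' (E m F)) (h₂ * g₂)⁆ = 1
  rw [← map_commutatorElement]
  show ((⁅h₁ * g₁, h₂ * g₂⁆ : ↥(Cfsg.isometryGroup F (Cfsg.quadFormPlus m F))) : _ ⧸ E m F) = 1
  rw [QuotientGroup.eq_one_iff, commutatorElement_def]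
  exact Cfsg.Agent.Lib.Helper64_D4_LAST.LAST_comm hm _ _ hl₁ hl₂

/-! ### `E` is perfect -/

theorem exists_third (hm : 3 ≤ m) (x y : Fin m) : ∃ i : Fin m, i ≠ x ∧ i ≠ y := by
  by_cases h0 : (⟨0, by omega⟩ : Fin m) ≠ x ∧ (⟨0, by omega⟩ : Fin m) ≠ y
  · exact ⟨_, h0⟩
  by_cases h1 : (⟨1, by omega⟩ : Fin m) ≠ x ∧ (⟨1, by omega⟩ : Fin m) ≠ y
  · exact ⟨_, h1⟩
  refine ⟨⟨2, by omega⟩, ?_, ?_⟩ <;>
  · simp only [Fin.ext_iff, ne_eq, not_and_or, not_not] at *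
    omega

theorem T_mem_commutator (hm : 3 ≤ m) {a b : I m} (hab : Adm a b) (t : F) :
    T a b t ∈ commutator ↥(Cfsg.isometryGroup F (Cfsg.quadFormPlus m F)) := by
  obtain ⟨i, hia, hib⟩ := exists_third hm (idx a) (idx b)
  have hca : ∀ z : I m, idx z ≠ i → z ≠ Sum.inl i ∧ z ≠ pr (Sum.inl i : I m) := by
    intro z hz
    constructor
    · rintro rfl; exact hz rfl
    · rintro rfl; exact hz rfl
  have hac : Adm a (Sum.inl i) := hca a (fun h => hia h.symm)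
  have hcb : Adm (Sum.inl i : I m) b := (show Adm b (Sum.inl i) from hca b (fun h => hib h.symm)).symm
  have key := Cfsg.Agent.Lib.Helper31_D4_COMM.COMM (F := F) hac hcb
    (by intro h; exact hab.1 (Prod.ext_iff.mp h).2.symm)
    (by intro h; exact hac.2 (pr_eq_iff.mp (Prod.ext_iff.mp h).1.symm)) t (-1)
  rw [if_pos rfl, if_neg (by intro h; exact hcb.2 h), if_neg (by intro h; exact hac.2 (pr_eq_iff.mp h)),
    if_neg hab.1, mul_one, mul_one, mul_one] at key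
  have hmem : ∀ x y : ↥(Cfsg.isometryGroup F (Cfsg.quadFormPlus m F)),
      x * y * x⁻¹ * y⁻¹ ∈ commutator ↥(Cfsg.isometryGroup F (Cfsg.quadFormPlus m F)) := by
    intro x y
    rw [commutator_def, ← commutatorElement_def]
    exact Subgroup.commutator_mem_commutator (Subgroup.mem_top _) (Subgroup.mem_top _)
  have e : T a b t = (T (Sum.inl i) b (-1 : F) : ↥(Cfsg.isometryGroup F (Cfsg.quadFormPlus m F)))⁻¹ *
      (T a (Sum.inl i) t)⁻¹ * ((T (Sum.inl i) b (-1 : F))⁻¹)⁻¹ * ((T a (Sum.inl i) t)⁻¹)⁻¹ := by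
    rw [inv_inv, inv_inv, key]
    congr 1
    ring
  rw [e]
  exact hmem _ _

theorem E_le_commutator (hm : 3 ≤ m) :
    E m F ≤ commutator ↥(Cfsg.isometryGroup F (Cfsg.quadFormPlus m F)) := by
  rw [E, Ek, Subgroup.closure_le]
  rintro g ⟨a, b, t, hab, -, -, rfl⟩
  exact T_mem_commutator hm hab t

/-- `Ω⁺_{2m}(F)` is the elementary subgroup. -/
theorem Omega_eq_E (hm : 3 ≤ m) : Cfsg.Omega F (Cfsg.quadFormPlus m F) = E m F :=
  le_antisymm (commutator_le_E (by omega)) (E_le_commutator hm)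

/-! ### `E` is not abelian -/

theorem T_ne_one {a b : I m} (hab : Adm a b) {t : F} (ht : t ≠ 0) :
    (T a b t : ↥(Cfsg.isometryGroup F (Cfsg.quadFormPlus m F))) ≠ 1 := by
  intro h
  have h1 := T_mulVec_apply hab t (bv b) a
  rw [h, coe_one', Matrix.one_mulVec, if_pos rfl, if_neg hab.2, bv_apply_self, bv_apply, if_neg hab.1,
    mul_one, sub_zero, zero_add] at h1
  exact ht h1.symm

theorem E_not_comm (hm : 3 ≤ m) : ∃ x y : ↥(E m F), x * y ≠ y * x := by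
  have h0 : (0 : ℕ) < m := by omega
  have h1 : (1 : ℕ) < m := by omega
  have h2 : (2 : ℕ) < m := by omega
  have hab : Adm (Sum.inl ⟨0, h0⟩ : I m) (Sum.inl ⟨1, h1⟩) := by
    constructor <;> simp [pr, Fin.ext_iff]
  have hcd : Adm (Sum.inl ⟨1, h1⟩ : I m) (Sum.inl ⟨2, h2⟩) := by
    constructor <;> simp [pr, Fin.ext_iff]
  have hac : Adm (Sum.inl ⟨0, h0⟩ : I m) (Sum.inl ⟨2, h2⟩) := by
    constructor <;> simp [pr, Fin.ext_iff]
  have key := Cfsg.Agent.Lib.Helper31_D4_COMM.COMM (F := F) hab hcd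
    (by simp [Fin.ext_iff]) (by simp [pr]) 1 1
  rw [if_pos rfl, if_neg (by simp [pr]), if_neg (by simp [pr]), if_neg (by simp [Fin.ext_iff]),
    mul_one, mul_one, mul_one] at key
  refine ⟨⟨T (Sum.inl ⟨1, h1⟩) (Sum.inl ⟨2, h2⟩) 1, T_mem_E _ _ _⟩,
    ⟨T (Sum.inl ⟨0, h0⟩) (Sum.inl ⟨1, h1⟩) 1, T_mem_E _ _ _⟩, ?_⟩
  intro h
  have h' := congrArg Subtype.val h
  simp only [Subgroup.coe_mul] at h'
  apply T_ne_one (F := F) hac (t := -(1 * 1)) (by simp)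
  rw [← key, mul_assoc, h']
  group

end Cfsg.Agent.Lib.Helper45_D4Orth
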