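import Mathlib
import Cfsg.Agent.Lib.Helper66_S96Defs2
import Cfsg.Agent.Lib.Helper45_D4Orth
import Cfsg.Agent.S0790

set_option autoImplicit false
set_option linter.unusedVariables false
set_option linter.unusedSectionVars false

/-!
# S96 market, package D_CENTER (helper14)

The centre of `Ω⁺_{2l}(F)` (`3 ≤ l`) consists of the elements with matrix `±1`; `-1 ∉ Ω⁺_{2l}(q)` for
`l` odd and `q ≡ 3 mod 4`.
-/

namespace Cfsg.Agent.Lib.Helper66_S96

open Cfsg.Agent.Lib.Helper66_S92
open Cfsg.Agent.Lib.Helper45_D4Defs Cfsg.Agent.Lib.Helper45_D4Orth Cfsg.Agent.Lib.Helper44_Orth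

section h14_center

variable (l : ℕ) (F : Type*) [Field F]

/-- a central element of `Ω⁺` commutes with the matrices `Xmat a b` -/
theorem h14_comm_Xmat (hl : 3 ≤ l) (g : OmP l F) (hg : g ∈ Subgroup.center (OmP l F))
    {a b : I l} (hab : Adm a b) :
    toMatO l F g * (Xmat a b : Matrix (I l) (I l) F) = Xmat a b * toMatO l F g := by
  have hmem : (T a b (1 : F) : ↥(Cfsg.isometryGroup F (Cfsg.quadFormPlus l F))) ∈
      Cfsg.Omega F (Cfsg.quadFormPlus l F) := by
    rw [Omega_eq_E hl]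
    exact T_mem_E a b 1
  have h1 := (Subgroup.mem_center_iff.mp hg) ⟨T a b (1 : F), hmem⟩
  have h2 := congrArg (toMatO l F) h1
  rw [map_mul, map_mul] at h2
  have h3 : toMatO l F ⟨T a b (1 : F), hmem⟩ = Tmat a b 1 := by
    rw [toMatO_apply]
    exact T_coe hab 1
  rw [h3, Tmat, one_smul, mul_add, add_mul, mul_one, one_mul] at h2
  exact (add_left_cancel h2).symm

variable {l F}

theorem h14_offdiag {M : Matrix (I l) (I l) F}
    (hM : ∀ a b : I l, Adm a b → M * (Xmat a b : Matrix (I l) (I l) F) = Xmat a b * M)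
    {a b i : I l} (hab : Adm a b) (hia : i ≠ a) (hib : i ≠ pr b) : M i a = 0 := by
  have h := congrFun (congrFun (hM a b hab) i) b
  have hb : b ≠ pr a := fun h => hab.2 (by rw [h, pr_pr])
  rw [Xmat, Matrix.mul_sub, Matrix.sub_mul, Matrix.sub_apply, Matrix.sub_apply,
    Matrix.mul_single_apply_same, Matrix.mul_single_apply_of_ne _ _ _ _ _ hb,
    Matrix.single_mul_apply_of_ne _ _ _ _ _ hia, Matrix.single_mul_apply_of_ne _ _ _ _ _ hib,
    mul_one, sub_zero, sub_zero] at h
  exact h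

theorem h14_diag {M : Matrix (I l) (I l) F}
    (hM : ∀ a b : I l, Adm a b → M * (Xmat a b : Matrix (I l) (I l) F) = Xmat a b * M)
    {a b : I l} (hab : Adm a b) : M a a = M b b := by
  have h := congrFun (congrFun (hM a b hab) a) b
  have hb : b ≠ pr a := fun h => hab.2 (by rw [h, pr_pr])
  rw [Xmat, Matrix.mul_sub, Matrix.sub_mul, Matrix.sub_apply, Matrix.sub_apply,
    Matrix.mul_single_apply_same, Matrix.mul_single_apply_of_ne _ _ _ _ _ hb,
    Matrix.single_mul_apply_same, Matrix.single_mul_apply_of_ne _ _ _ _ _ hab.2,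
    mul_one, one_mul, sub_zero, sub_zero] at h
  exact h

theorem h14_adm_of_idx {a b : I l} (h : idx a ≠ idx b) : Adm a b :=
  ⟨fun H => h (by rw [H]), fun H => h (by rw [H, idx_pr])⟩

theorem h14_exists_idx (hl : 3 ≤ l) (x y : Fin l) : ∃ k : Fin l, k ≠ x ∧ k ≠ y :=
  exists_third hl x y

/-- a matrix commuting with all `Xmat a b` is scalar -/
theorem h14_scalar (hl : 3 ≤ l) {M : Matrix (I l) (I l) F}
    (hM : ∀ a b : I l, Adm a b → M * (Xmat a b : Matrix (I l) (I l) F) = Xmat a b * M)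
    (a₀ : I l) : M = M a₀ a₀ • (1 : Matrix (I l) (I l) F) := by
  have hdiag : ∀ a b : I l, M a a = M b b := by
    intro a b
    obtain ⟨k, hka, hkb⟩ := h14_exists_idx hl (idx a) (idx b)
    have h1 : Adm a (Sum.inl k) := h14_adm_of_idx (by rw [idx_inl]; exact fun h => hka h.symm)
    have h2 : Adm b (Sum.inl k) := h14_adm_of_idx (by rw [idx_inl]; exact fun h => hkb h.symm)
    rw [h14_diag hM h1, h14_diag hM h2]
  ext i j
  rw [Matrix.smul_apply, Matrix.one_apply, smul_eq_mul]
  by_cases hij : i = j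
  · subst hij
    rw [if_pos rfl, mul_one]
    exact hdiag i a₀
  · rw [if_neg hij, mul_zero]
    -- `M i j = 0`: choose `b` with support outside `{idx j, idx i}`
    obtain ⟨k, hkj, hki⟩ := h14_exists_idx hl (idx j) (idx i)
    have h1 : Adm j (Sum.inl k) := h14_adm_of_idx (by rw [idx_inl]; exact fun h => hkj h.symm)
    have h2 : i ≠ pr (Sum.inl k : I l) := by
      intro h
      apply hki
      rw [h, idx_pr, idx_inl]
    exact h14_offdiag hM h1 hij h2

end h14_center

/-! ## D_CENTER : the centre of `Ω⁺_{2l}(F)` -/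

theorem center_OmP (l : ℕ) (F : Type*) [Field F] (hl : 3 ≤ l) (g : OmP l F)
    (hg : g ∈ Subgroup.center (OmP l F)) : toMatO l F g = 1 ∨ toMatO l F g = -1 := by
  have hM : ∀ a b : I l, Adm a b →
      toMatO l F g * (Xmat a b : Matrix (I l) (I l) F) = Xmat a b * toMatO l F g :=
    fun a b hab => h14_comm_Xmat l F hl g hg hab
  set k₀ : Fin l := ⟨0, by omega⟩ with hk₀
  have hs := h14_scalar hl hM (Sum.inl k₀)
  set c : F := toMatO l F g (Sum.inl k₀) (Sum.inl k₀) with hc
  -- `c ^ 2 = 1` since `g` is an isometry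
  have hiso := (mem_isometryGroup_iff (Cfsg.quadFormPlus l F) g.1.1).mp g.1.2
    (bv (Sum.inl k₀) + bv (Sum.inr k₀))
  have hmat : ((g.1.1 : Matrix.GeneralLinearGroup (I l) F) : Matrix (I l) (I l) F) =
      c • (1 : Matrix (I l) (I l) F) := by
    rw [← hs]
    rfl
  have hQ : Cfsg.quadFormPlus l F (bv (Sum.inl k₀) + bv (Sum.inr k₀)) = 1 := by
    unfold Cfsg.quadFormPlus
    rw [Finset.sum_eq_single k₀]
    · simp [bv]
    · intro i _ hi
      simp [bv, hi]
    · intro h
      exact absurd (Finset.mem_univ _) h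
  have hQ' : Cfsg.quadFormPlus l F (c • (bv (Sum.inl k₀) + bv (Sum.inr k₀))) = c * c := by
    unfold Cfsg.quadFormPlus
    rw [Finset.sum_eq_single k₀]
    · simp [bv]
    · intro i _ hi
      simp [bv, hi]
    · intro h
      exact absurd (Finset.mem_univ _) h
  rw [hmat, Matrix.smul_mulVec, Matrix.one_mulVec, hQ, hQ'] at hiso
  have h2 : (c - 1) * (c + 1) = 0 := by linear_combination hiso
  rcases mul_eq_zero.mp h2 with h3 | h3
  · left
    rw [hs, sub_eq_zero.mp h3, one_smul]
  · right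
    rw [hs, eq_neg_of_add_eq_zero_left h3, neg_smul, one_smul]

theorem mem_center_OmP (l : ℕ) (F : Type*) [Field F] (g : OmP l F)
    (hg : toMatO l F g = 1 ∨ toMatO l F g = -1) : g ∈ Subgroup.center (OmP l F) := by
  rw [Subgroup.mem_center_iff]
  intro h
  apply toMatO_injective
  rw [map_mul, map_mul]
  rcases hg with hg | hg
  · rw [hg, mul_one, one_mul]
  · rw [hg, mul_neg, neg_mul, mul_one, one_mul]

/-- `-1 ∉ Ω⁺_{2l}(q)` for `l` odd and `q ≡ 3 mod 4` (from `Cfsg.Agent.S0790.result`) -/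
theorem neg_not_mem_OmP (l : ℕ) (F : Type*) [Field F] [Fintype F] (hodd : Odd l)
    (h3 : Fintype.card F % 4 = 3) (g : OmP l F) : toMatO l F g ≠ -1 := by
  intro hg
  have hq : Odd (Fintype.card F) := by
    rw [Nat.odd_iff]
    omega
  have hl : 1 ≤ l := by
    obtain ⟨k, rfl⟩ := hodd
    omega
  have key := (Cfsg.Agent.S0790.result (F := F) rfl hq l hl).mp ⟨g.1, g.2, hg⟩
  rcases (Cfsg.Agent.S0790.arith hq).mp key with h | h
  · exact (Nat.not_even_iff_odd.mpr hodd) h
  · exact h h3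

end Cfsg.Agent.Lib.Helper66_S96
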