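import Mathlib
import Cfsg.Agent.Lib.Helper66_S96Defs2
import Cfsg.Agent.Lib.Helper45_D4Orth

set_option autoImplicit false

/-!
D_MODEL_A (helper66, S2096 / S2097): the root elements `XO l F a c t` of `Ω⁺_{2l}(F)` have the matrix
`XMatD a c t` and generate `Ω⁺_{2l}(F)` (`3 ≤ l`), from helper45's `Omega_eq_E`.
-/

namespace Cfsg.Agent.Lib.Helper66_S96

open Cfsg.Agent.Lib.Helper66_S92 Cfsg.Agent.Lib.Helper45_D4Defs Cfsg.Agent.Lib.Helper45_D4Orth

variable (l : ℕ) (F : Type*) [Field F]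

theorem h66_pr_eq_ng (a : Fin l ⊕ Fin l) : pr a = ng a := rfl

/-- the matrix of the model is helper45's `Tmat` -/
theorem XMatD_eq_Tmat (a c : Fin l ⊕ Fin l) (t : F) (hc : c ≠ ng a) :
    XMatD a c t = Tmat a (ng c) t := by
  rw [XMatD, if_neg hc, Tmat, Xmat, h66_pr_eq_ng, h66_pr_eq_ng, ng_ng, smul_sub, add_sub_assoc]
  congr 2
  · ext i j
    simp [Matrix.single, Matrix.smul_apply]
  · ext i j
    simp [Matrix.single, Matrix.smul_apply]

theorem XMatD_diag (a : Fin l ⊕ Fin l) (t : F) : XMatD a a t = 1 := by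
  rw [XMatD, if_neg (ne_ng a), add_sub_cancel_right]

theorem XMatD_opp (a : Fin l ⊕ Fin l) (t : F) : XMatD a (ng a) t = 1 := by
  rw [XMatD, if_pos rfl]

theorem h66_adm (a c : Fin l ⊕ Fin l) (h1 : c ≠ a) (h2 : c ≠ ng a) : Adm a (ng c) := by
  constructor
  · intro h
    apply h2
    rw [h, ng_ng]
  · rw [h66_pr_eq_ng, ng_ng]
    exact fun h => h1 h.symm

theorem T_mem_Omega (hl : 3 ≤ l) (a b : Fin l ⊕ Fin l) (t : F) :
    (T a b t : ↥(Cfsg.isometryGroup F (Cfsg.quadFormPlus l F))) ∈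
      Cfsg.Omega F (Cfsg.quadFormPlus l F) := by
  rw [Omega_eq_E hl]
  exact T_mem_E a b t

theorem exists_XMatD (hl : 3 ≤ l) (a c : Fin l ⊕ Fin l) (t : F) :
    ∃ g : OmP l F, toMatO l F g = XMatD a c t := by
  by_cases h2 : c = ng a
  · subst h2
    exact ⟨1, by rw [map_one, XMatD_opp]⟩
  by_cases h1 : c = a
  · subst h1
    exact ⟨1, by rw [map_one, XMatD_diag]⟩
  refine ⟨⟨T a (ng c) t, T_mem_Omega l F hl a (ng c) t⟩, ?_⟩
  rw [toMatO_apply, XMatD_eq_Tmat l F a c t h2]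
  exact T_coe (h66_adm l a c h1 h2) t

/-- D_MODEL_A, first half -/
theorem XO_coe (hl : 3 ≤ l) (a c : Fin l ⊕ Fin l) (t : F) :
    toMatO l F (XO l F a c t) = XMatD a c t :=
  XO_coe_of_exists l F a c t (exists_XMatD l F hl a c t)

theorem XO_val (hl : 3 ≤ l) (a c : Fin l ⊕ Fin l) (h1 : c ≠ a) (h2 : c ≠ ng a) (t : F) :
    ((XO l F a c t : OmP l F) : ↥(Cfsg.isometryGroup F (Cfsg.quadFormPlus l F))) = T a (ng c) t := by
  apply iso_ext
  have := XO_coe l F hl a c t
  rw [toMatO_apply, XMatD_eq_Tmat l F a c t h2] at this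
  rw [this]
  exact (T_coe (h66_adm l a c h1 h2) t).symm

/-- D_MODEL_A, second half -/
theorem XO_gen (hl : 3 ≤ l) :
    Subgroup.closure {g : OmP l F | ∃ a c t, g = XO l F a c t} = ⊤ := by
  rw [eq_top_iff]
  rintro ⟨g, hg⟩ -
  have key : ∀ x (hx : x ∈ E l F) (hx' : x ∈ Cfsg.Omega F (Cfsg.quadFormPlus l F)),
      (⟨x, hx'⟩ : OmP l F) ∈ Subgroup.closure {g : OmP l F | ∃ a c t, g = XO l F a c t} := by
    intro x hx
    unfold E Ek at hx
    induction hx using Subgroup.closure_induction with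
    | mem x hx =>
      obtain ⟨a, b, t, hab, -, -, rfl⟩ := hx
      intro hx'
      apply Subgroup.subset_closure
      refine ⟨a, ng b, t, ?_⟩
      apply Subtype.ext
      have h1 : ng b ≠ a := fun h => hab.2 h.symm
      have h2 : ng b ≠ ng a := fun h => hab.1 (ng_injective h).symm
      rw [XO_val l F hl a (ng b) h1 h2 t, ng_ng]
    | one =>
      intro hx'
      exact Subgroup.one_mem _
    | mul x y hx hy ihx ihy =>
      intro hx'
      have hxO : x ∈ Cfsg.Omega F (Cfsg.quadFormPlus l F) := by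
        rw [Omega_eq_E hl]; exact hx
      have hyO : y ∈ Cfsg.Omega F (Cfsg.quadFormPlus l F) := by
        rw [Omega_eq_E hl]; exact hy
      exact Subgroup.mul_mem _ (ihx hxO) (ihy hyO)
    | inv x hx ihx =>
      intro hx'
      have hxO : x ∈ Cfsg.Omega F (Cfsg.quadFormPlus l F) := by
        rw [Omega_eq_E hl]; exact hx
      exact Subgroup.inv_mem _ (ihx hxO)
  have hgE : g ∈ E l F := by
    rw [← Omega_eq_E hl]; exact hg
  exact key g hgE hg

end Cfsg.Agent.Lib.Helper66_S96
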