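import Mathlib
import Cfsg.Agent.Lib.Helper66_S96Model
import Cfsg.Agent.Lib.Helper31_D4_COMM

set_option autoImplicit false
set_option linter.unusedVariables false
set_option linter.unusedSectionVars false

/-!
# S96 market, package D_MODEL_B (helper14)

The root elements `XO l F a c t` of `Ω⁺_{2l}(F)` satisfy the Steinberg relations of type `D`
(`DStAB`) and act on vectors as in the model (`IsActD`).  The image of `XO l F a c t` in the isometry
group is helper45's `T a (pr c) t`; the relations are `T_mul`, `T_flip`, `COMM`.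
-/

namespace Cfsg.Agent.Lib.Helper66_S96

open Cfsg.Agent.Lib.Helper66_S92
open Cfsg.Agent.Lib.Helper45_D4Defs Cfsg.Agent.Lib.Helper31_D4_COMM

section h14_modelB

variable (l : ℕ) (F : Type*) [Field F]

theorem h14_ng_eq_pr (a : Fin l ⊕ Fin l) : ng a = pr a := rfl

/-- the image of `XO l F a c t` in the isometry group is `T a (pr c) t` -/
theorem h14_XO_val (hl : 3 ≤ l) (a c : Fin l ⊕ Fin l) (t : F) :
    ((XO l F a c t : OmP l F) : ↥(Cfsg.isometryGroup F (Cfsg.quadFormPlus l F))) = T a (pr c) t := by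
  apply iso_ext
  have h1 : (((XO l F a c t : OmP l F) : ↥(Cfsg.isometryGroup F (Cfsg.quadFormPlus l F))) :
      Matrix.GeneralLinearGroup (Fin l ⊕ Fin l) F).1 = XMatD a c t := by
    rw [← toMatO_apply, XO_coe l F hl]
  rw [h1]
  by_cases hab : Adm a (pr c)
  · rw [T_coe hab, Tmat, Xmat, XMatD]
    have hc : c ≠ ng a := by
      intro h
      apply hab.1
      rw [h, h14_ng_eq_pr, pr_pr]
    rw [if_neg hc, pr_pr, smul_sub, Matrix.smul_single, Matrix.smul_single, smul_eq_mul, mul_one,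
      add_sub_assoc]
    rfl
  · rw [T_of_not_adm hab, coe_one', XMatD]
    by_cases hc : c = ng a
    · rw [if_pos hc]
    · rw [if_neg hc]
      have hca : c = a := by
        by_contra hne
        apply hab
        refine ⟨?_, ?_⟩
        · intro h
          apply hc
          rw [h, h14_ng_eq_pr, pr_pr]
        · rw [pr_pr]
          exact fun h => hne h.symm
      subst hca
      rw [add_sub_cancel_right]


variable {l F}

theorem h14_comm_of_eq_one {G : Type*} [Group G] {x y : G} (h : x⁻¹ * y⁻¹ * x * y = 1) :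
    y * x = x * y := by
  have : x * y = y * x * (x⁻¹ * y⁻¹ * x * y) := by group
  rw [h, mul_one] at this
  exact this.symm

theorem h14_T_anti (a c : I l) (t : F) :
    (T c (pr a) t : ↥(Cfsg.isometryGroup F (Cfsg.quadFormPlus l F))) = T a (pr c) (-t) := by
  rw [T_flip c (pr a) t, pr_pr]

theorem h14_T_opp (a : I l) (t : F) :
    (T a (pr (pr a)) t : ↥(Cfsg.isometryGroup F (Cfsg.quadFormPlus l F))) = 1 :=
  T_of_not_adm (fun h => h.1 (pr_pr a).symm) t

theorem h14_T_diag (a : I l) (t : F) :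
    (T a (pr a) t : ↥(Cfsg.isometryGroup F (Cfsg.quadFormPlus l F))) = 1 :=
  T_of_not_adm (fun h => h.2 (pr_pr a).symm) t

theorem h14_T_comm (a c d e : I l) (t u : F) (h1 : d ≠ pr a) (h2 : d ≠ pr c) (h3 : e ≠ pr a)
    (h4 : e ≠ pr c) :
    (T a (pr c) t : ↥(Cfsg.isometryGroup F (Cfsg.quadFormPlus l F))) * T d (pr e) u =
      T d (pr e) u * T a (pr c) t := by
  by_cases hab : Adm a (pr c)
  · by_cases hcd : Adm d (pr e)
    · have hc := COMM (F := F) hab hcd (fun h => h2 (Prod.mk.injEq _ _ _ _ ▸ h).1)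
        (fun h => h1 (Prod.mk.injEq _ _ _ _ ▸ h).1) t u
      have e1 : ¬ pr c = d := fun h => h2 h.symm
      have e2 : ¬ pr c = pr (pr e) := fun h => h4 (by rw [pr_pr] at h; exact h.symm)
      have e3 : ¬ pr a = d := fun h => h1 h.symm
      have e4 : ¬ a = pr e := fun h => h3 (by rw [h, pr_pr])
      rw [if_neg e1, if_neg e2, if_neg e3, if_neg e4, mul_one, mul_one, mul_one] at hc
      exact h14_comm_of_eq_one hc
    · rw [T_of_not_adm hcd, one_mul, mul_one]
  · rw [T_of_not_adm hab, one_mul, mul_one]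

theorem h14_T_comm2 (a c : I l) (t u : F) :
    (T a (pr c) t : ↥(Cfsg.isometryGroup F (Cfsg.quadFormPlus l F))) * T (pr a) (pr c) u =
      T (pr a) (pr c) u * T a (pr c) t := by
  by_cases hab : Adm a (pr c)
  · have hac : a ≠ c := fun h => hab.2 (by rw [pr_pr]; exact h)
    have hcd : Adm (pr a) (pr c) :=
      ⟨fun h => hac (pr_inj.mp h), fun h => hab.1 (by rw [pr_pr] at h; rw [← h, pr_pr])⟩
    have hc := COMM (F := F) hab hcd
      (fun h => hac (pr_inj.mp (Prod.mk.injEq _ _ _ _ ▸ h).1))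
      (fun h => pr_ne c (by have := (Prod.mk.injEq _ _ _ _ ▸ h).2; rw [pr_pr] at this; exact this)) t u
    have e1 : ¬ pr c = pr a := fun h => hac (pr_inj.mp h).symm
    have e2 : ¬ pr c = pr (pr c) := fun h => pr_ne c (by rw [pr_pr] at h; exact h)
    have e4 : ¬ a = pr c := hab.1
    rw [if_neg e1, if_neg e2, if_pos rfl, if_neg e4, pr_pr, one_mul, one_mul, mul_one,
      T_of_not_adm (fun h => h.2 (pr_pr c).symm)] at hc
    exact h14_comm_of_eq_one hc
  · rw [T_of_not_adm hab, one_mul, mul_one]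

theorem h14_T_a2 (a c e : I l) (t u : F) (h1 : a ≠ c) (h2 : a ≠ pr c) (h3 : a ≠ e) (h4 : a ≠ pr e)
    (h5 : c ≠ e) (h6 : c ≠ pr e) :
    (T a (pr c) t : ↥(Cfsg.isometryGroup F (Cfsg.quadFormPlus l F))) * T (pr c) (pr e) u *
      (T a (pr c) t)⁻¹ * (T (pr c) (pr e) u)⁻¹ = T a (pr e) (t * u) := by
  have hab : Adm (pr c) (pr e) :=
    ⟨fun h => h5 (pr_inj.mp h), fun h => h6 (by rw [pr_pr] at h; rw [← h, pr_pr])⟩
  have hcd : Adm a (pr c) := ⟨h2, fun h => h1 (by rw [pr_pr] at h; exact h)⟩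
  have hc := COMM (F := F) hab hcd (fun h => h4 (Prod.mk.injEq _ _ _ _ ▸ h).1)
    (fun h => h1 (by have := (Prod.mk.injEq _ _ _ _ ▸ h).1; rw [pr_pr] at this; exact this)) (-u) (-t)
  have e1 : ¬ pr e = a := fun h => h4 h.symm
  have e2 : ¬ pr e = pr (pr c) := fun h => h6 (by rw [pr_pr] at h; exact h.symm)
  have e3 : ¬ pr (pr c) = a := fun h => h1 (by rw [pr_pr] at h; exact h.symm)
  rw [if_neg e1, if_neg e2, if_neg e3, if_pos rfl, one_mul, one_mul, one_mul, T_inv, T_inv, neg_neg,
    neg_neg, neg_mul_neg] at hc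
  rw [T_inv, T_inv]
  exact hc

end h14_modelB

/-! ## D_MODEL_B : the relations and the action in the model -/

theorem dStAB_XO (l : ℕ) (F : Type*) [Field F] (hl : 3 ≤ l) : DStAB (XO l F) where
  anti a c t := by
    apply Subtype.ext
    rw [h14_XO_val l F hl, h14_XO_val l F hl]
    exact h14_T_anti a c t
  opp a t := by
    apply Subtype.ext
    rw [h14_XO_val l F hl, h14_ng_eq_pr]
    exact h14_T_opp a t
  diag a t := by
    apply Subtype.ext
    rw [h14_XO_val l F hl]
    exact h14_T_diag a t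
  add a c t u := by
    apply Subtype.ext
    rw [Subgroup.coe_mul, h14_XO_val l F hl, h14_XO_val l F hl, h14_XO_val l F hl, T_mul]
  comm a c d e t u h1 h2 h3 h4 := by
    apply Subtype.ext
    rw [Subgroup.coe_mul, Subgroup.coe_mul, h14_XO_val l F hl, h14_XO_val l F hl]
    exact h14_T_comm a c d e t u h1 h2 h3 h4
  comm2 a c t u := by
    apply Subtype.ext
    rw [Subgroup.coe_mul, Subgroup.coe_mul, h14_XO_val l F hl, h14_XO_val l F hl, h14_ng_eq_pr]
    exact h14_T_comm2 a c t u
  a2 a c e t u h1 h2 h3 h4 h5 h6 := by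
    apply Subtype.ext
    rw [Subgroup.coe_mul, Subgroup.coe_mul, Subgroup.coe_mul, Subgroup.coe_inv, Subgroup.coe_inv,
      h14_XO_val l F hl, h14_XO_val l F hl, h14_XO_val l F hl, h14_ng_eq_pr]
    exact h14_T_a2 a c e t u h1 h2 h3 h4 h5 h6

theorem isActD_XO (l : ℕ) (F : Type*) [Field F] (hl : 3 ≤ l) : IsActD (XO l F) (actO l F) := by
  intro a c t v
  rw [actO_apply, XO_coe l F hl, XMatD, xactD]
  by_cases hc : c = ng a
  · rw [if_pos hc, if_pos hc, Matrix.one_mulVec]
  · rw [if_neg hc, if_neg hc, Matrix.sub_mulVec, Matrix.add_mulVec, Matrix.one_mulVec,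
      Matrix.single_mulVec, Matrix.single_mulVec]
    rfl

end Cfsg.Agent.Lib.Helper66_S96
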