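/-
Schur multipliers from a universal perfect central extension (helper35): if `θ : Δ → G` is a finite perfect central
extension through which every central extension of `G` factors, the Schur multiplier of `G` (in the sense of
`Cfsg.HasSchurMultiplier`) is the kernel of `θ`.
-/
import Mathlib
import Cfsg.Prelude.Def_KGroupFacts
import Cfsg.Agent.Lib.Helper81_UceA

set_option autoImplicit false

namespace Cfsg.Agent.Lib.Helper35_SteinSchur

open Cfsg Cfsg.Agent.Lib.Helper81_UceA

universe u v

theorem finite_of_surjective_of_finite_ker {Δ G : Type*} [Group Δ] [Group G] [Finite G] (θ : Δ →* G)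
    (hsurj : Function.Surjective θ) [Finite θ.ker] : Finite Δ := by
  have e := QuotientGroup.quotientKerEquivOfSurjective θ hsurj
  have : Finite (Δ ⧸ θ.ker) := Finite.of_equiv G e.symm.toEquiv
  have h := Subgroup.card_eq_card_quotient_mul_card_subgroup θ.ker
  apply Nat.finite_of_card_ne_zero
  rw [h]
  exact Nat.mul_ne_zero Nat.card_pos.ne' Nat.card_pos.ne'

theorem hasSchurMultiplier_of_uce {G : Type u} [Group G] {Δ : Type u} [Group Δ] [Finite Δ] (θ : Δ →* G)
    (hsurj : Function.Surjective θ) (hcen : θ.ker ≤ Subgroup.center Δ) (hperf : commutator Δ = ⊤)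
    (huce : ∀ {Γ : Type u} [Group Γ] (σ : Γ →* G), Function.Surjective σ → σ.ker ≤ Subgroup.center Γ →
      ∃ τ : Δ →* Γ, σ.comp τ = θ)
    {A : Type v} [CommGroup A] (e : A ≃* θ.ker) : Cfsg.HasSchurMultiplier G A := by
  constructor
  · refine ⟨Δ, inferInstance, inferInstance, θ, ⟨hsurj, hcen, ?_⟩, ⟨e.symm⟩⟩
    rw [hperf]
    exact le_top
  · intro Γ _ _ σ hσ
    obtain ⟨hs, hc, hcomm⟩ := hσ
    obtain ⟨τ, hτ⟩ := huce σ hs hc
    have hC : CExt σ := ⟨hs, hc⟩
    have hστ : ∀ x, σ (τ x) = θ x := fun x => DFunLike.congr_fun hτ x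
    have hle : commutator Γ ≤ τ.range := by
      rw [commutator_def, Subgroup.commutator_le]
      intro a _ b _
      rw [commutatorElement_def]
      obtain ⟨x, hx⟩ := hsurj (σ a)
      obtain ⟨y, hy⟩ := hsurj (σ b)
      have ha : σ a = σ (τ x) := by rw [hστ, hx]
      have hb : σ b = σ (τ y) := by rw [hστ, hy]
      rw [hC.commutator_eq ha hb]
      refine ⟨x * y * x⁻¹ * y⁻¹, ?_⟩
      rw [map_mul, map_mul, map_mul, map_inv, map_inv]
    have hmap : ∀ x : θ.ker, τ (x : Δ) ∈ σ.ker := by
      intro x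
      rw [MonoidHom.mem_ker, hστ]
      exact x.2
    set ρ : θ.ker →* σ.ker := (τ.comp θ.ker.subtype).codRestrict σ.ker hmap with hρ
    refine ⟨ρ.comp e.toMonoidHom, ?_⟩
    rintro ⟨k, hk⟩
    obtain ⟨x, rfl⟩ := hle (hcomm hk)
    have hx : x ∈ θ.ker := by
      rw [MonoidHom.mem_ker, ← hστ]
      exact hk
    refine ⟨e.symm ⟨x, hx⟩, ?_⟩
    apply Subtype.ext
    rw [MonoidHom.comp_apply]
    show τ ((e (e.symm ⟨x, hx⟩) : θ.ker) : Δ) = τ x
    rw [MulEquiv.apply_symm_apply]

/-- A group of order dividing a prime is cyclic of that order. -/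
theorem exists_mulEquiv_zmod {K : Type*} [Group K] {p n : ℕ} (hp : p.Prime) (hn : n ∣ p) (hK : Nat.card K = n) :
    Nonempty (Multiplicative (ZMod n) ≃* K) := by
  have hn0 : n ≠ 0 := by
    rintro rfl
    rw [zero_dvd_iff] at hn
    exact hp.ne_zero hn
  have : Finite K := Nat.finite_of_card_ne_zero (by rw [hK]; exact hn0)
  have hcyc : IsCyclic K := by
    rcases (Nat.dvd_prime hp).mp hn with h1 | h1
    · have : Subsingleton K := (Nat.card_eq_one_iff_unique.mp (by rw [hK, h1])).1
      exact isCyclic_of_subsingleton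
    · have : Fact p.Prime := ⟨hp⟩
      exact isCyclic_of_prime_card (p := p) (by rw [hK, h1])
  have := zmodCyclicMulEquiv hcyc
  rw [hK] at this
  exact ⟨this⟩

end Cfsg.Agent.Lib.Helper35_SteinSchur
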