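import Mathlib
import Cfsg.Prelude.Def_KGroupFacts
import Cfsg.Agent.Lib.Helper66_S96Rank
import Cfsg.Agent.Lib.Helper66_S96Defs2
import Cfsg.Agent.Lib.Helper81_UceA

set_option autoImplicit false
set_option linter.unusedVariables false

/-!
Market `s96_packages` wave 2 (helper66, S2096 / S2097), package D_TRANSFER: the relations `DStAB`
under homomorphisms, products, subgroups.  (helper39)
-/

namespace Cfsg.Agent.Lib.Helper66_S96

open Cfsg.Agent.Lib.Helper5_SteinbergA Cfsg.Agent.Lib.Helper66_S92 Cfsg.Agent.Lib.Helper81_UceA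

universe u v

section abstract

variable {ι : Type*} [DecidableEq ι] {K : Type*} [Field K] {G : Type*} [Group G]
  {X : ι ⊕ ι → ι ⊕ ι → K → G}

/-! ## D_TRANSFER : the relations under homomorphisms, products, subgroups -/

theorem dStAB_map {H : Type*} [Group H] (f : G →* H) (h : DStAB X) :
    DStAB (fun a c t => f (X a c t)) := by
  refine ⟨?_, ?_, ?_, ?_, ?_, ?_, ?_⟩
  · intro a c t
    exact congrArg f (h.anti a c t)
  · intro a t
    change f (X a (ng a) t) = 1
    rw [h.opp, map_one]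
  · intro a t
    change f (X a a t) = 1
    rw [h.diag, map_one]
  · intro a c t u
    change f (X a c t) * f (X a c u) = f (X a c (t + u))
    rw [← map_mul, h.add]
  · intro a c d e t u h1 h2 h3 h4
    change f (X a c t) * f (X d e u) = f (X d e u) * f (X a c t)
    rw [← map_mul, ← map_mul, h.comm a c d e t u h1 h2 h3 h4]
  · intro a c t u
    change f (X a c t) * f (X (ng a) c u) = f (X (ng a) c u) * f (X a c t)
    rw [← map_mul, ← map_mul, h.comm2]
  · intro a c e t u h1 h2 h3 h4 h5 h6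
    change f (X a c t) * f (X (ng c) e u) * (f (X a c t))⁻¹ * (f (X (ng c) e u))⁻¹ =
      f (X a e (t * u))
    rw [← map_inv, ← map_inv, ← map_mul, ← map_mul, ← map_mul, h.a2 a c e t u h1 h2 h3 h4 h5 h6]

theorem dStAB_of_map_injective {H : Type*} [Group H] (f : G →* H) (hf : Function.Injective f)
    (h : DStAB (fun a c t => f (X a c t))) : DStAB X := by
  refine ⟨?_, ?_, ?_, ?_, ?_, ?_, ?_⟩
  · intro a c t
    exact hf (h.anti a c t)
  · intro a t
    apply hf
    rw [map_one]
    exact h.opp a t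
  · intro a t
    apply hf
    rw [map_one]
    exact h.diag a t
  · intro a c t u
    apply hf
    rw [map_mul]
    exact h.add a c t u
  · intro a c d e t u h1 h2 h3 h4
    apply hf
    rw [map_mul, map_mul]
    exact h.comm a c d e t u h1 h2 h3 h4
  · intro a c t u
    apply hf
    rw [map_mul, map_mul]
    exact h.comm2 a c t u
  · intro a c e t u h1 h2 h3 h4 h5 h6
    apply hf
    rw [map_mul, map_mul, map_mul, map_inv, map_inv]
    exact h.a2 a c e t u h1 h2 h3 h4 h5 h6

theorem dStAB_prod {G' : Type*} [Group G'] {X' : ι ⊕ ι → ι ⊕ ι → K → G'} (h : DStAB X)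
    (h' : DStAB X') : DStAB (fun a c t => ((X a c t, X' a c t) : G × G')) := by
  refine ⟨?_, ?_, ?_, ?_, ?_, ?_, ?_⟩
  · intro a c t
    exact Prod.ext (h.anti a c t) (h'.anti a c t)
  · intro a t
    exact Prod.ext (h.opp a t) (h'.opp a t)
  · intro a t
    exact Prod.ext (h.diag a t) (h'.diag a t)
  · intro a c t u
    exact Prod.ext (h.add a c t u) (h'.add a c t u)
  · intro a c d e t u h1 h2 h3 h4
    exact Prod.ext (h.comm a c d e t u h1 h2 h3 h4) (h'.comm a c d e t u h1 h2 h3 h4)
  · intro a c t u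
    exact Prod.ext (h.comm2 a c t u) (h'.comm2 a c t u)
  · intro a c e t u h1 h2 h3 h4 h5 h6
    exact Prod.ext (h.a2 a c e t u h1 h2 h3 h4 h5 h6) (h'.a2 a c e t u h1 h2 h3 h4 h5 h6)

theorem map_WD {H : Type*} [Group H] (f : G →* H) (X : ι ⊕ ι → ι ⊕ ι → K → G) (a c : ι ⊕ ι)
    (s : K) : f (WD X a c s) = WD (fun a c t => f (X a c t)) a c s := by
  rw [WD_eq, WD_eq, map_mul, map_mul]

theorem map_HD {H : Type*} [Group H] (f : G →* H) (X : ι ⊕ ι → ι ⊕ ι → K → G) (a c : ι ⊕ ι)
    (s : K) : f (HD X a c s) = HD (fun a c t => f (X a c t)) a c s := by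
  unfold HD
  rw [map_mul, map_inv, map_WD, map_WD]

theorem map_zD {H : Type*} [Group H] (f : G →* H) (X : ι ⊕ ι → ι ⊕ ι → K → G) (a c : ι ⊕ ι) :
    f (zD X a c) = zD (fun a c t => f (X a c t)) a c := by
  unfold zD
  rw [map_mul, map_HD, map_HD]

/-- the family of generators of a subgroup generated by a family, generates it -/
theorem closure_subtype_top {E : Type*} [Group E] (Y : ι ⊕ ι → ι ⊕ ι → K → E)
    (Z : ι ⊕ ι → ι ⊕ ι → K → ↥(Subgroup.closure {g : E | ∃ a c t, g = Y a c t}))
    (hZ : ∀ a c t, ((Z a c t : ↥(Subgroup.closure {g : E | ∃ a c t, g = Y a c t})) : E) = Y a c t) :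
    Subgroup.closure {g | ∃ a c t, g = Z a c t} = ⊤ := by
  have hset : {g : ↥(Subgroup.closure {g : E | ∃ a c t, g = Y a c t}) | ∃ a c t, g = Z a c t} =
      ((↑) : ↥(Subgroup.closure {g : E | ∃ a c t, g = Y a c t}) → E) ⁻¹'
        {g : E | ∃ a c t, g = Y a c t} := by
    ext g
    simp only [Set.mem_setOf_eq, Set.mem_preimage]
    constructor
    · rintro ⟨a, c, t, rfl⟩
      exact ⟨a, c, t, hZ a c t⟩
    · rintro ⟨a, c, t, hg⟩
      exact ⟨a, c, t, Subtype.ext (hg.trans (hZ a c t).symm)⟩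
  rw [hset]
  exact Subgroup.closure_closure_coe_preimage

end abstract

end Cfsg.Agent.Lib.Helper66_S96
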