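import Mathlib
import Cfsg.Agent.Lib.Helper66_S96Rank
import Cfsg.Agent.Lib.Helper81_UceA

set_option autoImplicit false
set_option linter.unusedVariables false
set_option linter.unusedSectionVars false

/-!
# S2096 / S2097 (architect helper66): package D_WCJ_ALL (helper41)

Assembly of the uniform conjugation formula for the Weyl elements `WD X a c s` from the parts
`WCJPartsD X` and the rank one relations.  Port of `Helper58_S92_WCJ_ALL` to type `D`.
-/

namespace Cfsg.Agent.Lib.Helper66_S96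

open Cfsg.Agent.Lib.Helper5_SteinbergA Cfsg.Agent.Lib.Helper66_S92 Cfsg.Agent.Lib.Helper81_UceA

variable {ι : Type*} [DecidableEq ι] {K : Type*} [Field K] {G : Type*} [Group G]
  {X : ι ⊕ ι → ι ⊕ ι → K → G}

/-! ### evaluation of `sgD`, `muD` -/

theorem h41_classify (a c d : ι ⊕ ι) :
    d = a ∨ d = ng c ∨ d = c ∨ d = ng a ∨ (d ≠ a ∧ d ≠ ng c ∧ d ≠ c ∧ d ≠ ng a) := by
  by_cases h1 : d = a
  · exact Or.inl h1
  by_cases h2 : d = ng c
  · exact Or.inr (Or.inl h2)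
  by_cases h3 : d = c
  · exact Or.inr (Or.inr (Or.inl h3))
  by_cases h4 : d = ng a
  · exact Or.inr (Or.inr (Or.inr (Or.inl h4)))
  exact Or.inr (Or.inr (Or.inr (Or.inr ⟨h1, h2, h3, h4⟩)))

theorem h41_ngc_ne_a (a c : ι ⊕ ι) (h2 : c ≠ ng a) : ng c ≠ a := by
  intro h
  apply h2
  rw [← h, ng_ng]

theorem h41_nga_ne_ngc (a c : ι ⊕ ι) (h1 : c ≠ a) : ng a ≠ ng c :=
  fun h => h1 (ng_injective h).symm

theorem h41_sgD_a (a c : ι ⊕ ι) : sgD a c a = ng c := if_pos rfl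

theorem h41_sgD_ngc (a c : ι ⊕ ι) (h2 : c ≠ ng a) : sgD a c (ng c) = a := by
  unfold sgD
  rw [if_neg (h41_ngc_ne_a a c h2), if_pos rfl]

theorem h41_sgD_c (a c : ι ⊕ ι) (h1 : c ≠ a) : sgD a c c = ng a := by
  unfold sgD
  rw [if_neg h1, if_neg (ne_ng c), if_pos rfl]

theorem h41_sgD_nga (a c : ι ⊕ ι) (h1 : c ≠ a) (h2 : c ≠ ng a) : sgD a c (ng a) = c := by
  unfold sgD
  rw [if_neg (ng_ne a), if_neg (h41_nga_ne_ngc a c h1), if_neg (Ne.symm h2), if_pos rfl]

theorem h41_sgD_out (a c d : ι ⊕ ι) (h1 : d ≠ a) (h2 : d ≠ ng c) (h3 : d ≠ c) (h4 : d ≠ ng a) :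
    sgD a c d = d := by
  unfold sgD
  rw [if_neg h1, if_neg h2, if_neg h3, if_neg h4]

theorem h41_muD_a (a c : ι ⊕ ι) (s : K) : muD a c s a = -s⁻¹ := if_pos rfl

theorem h41_muD_ngc (a c : ι ⊕ ι) (s : K) (h2 : c ≠ ng a) : muD a c s (ng c) = s := by
  unfold muD
  rw [if_neg (h41_ngc_ne_a a c h2), if_pos rfl]

theorem h41_muD_c (a c : ι ⊕ ι) (s : K) (h1 : c ≠ a) : muD a c s c = s⁻¹ := by
  unfold muD
  rw [if_neg h1, if_neg (ne_ng c), if_pos rfl]

theorem h41_muD_nga (a c : ι ⊕ ι) (s : K) (h1 : c ≠ a) (h2 : c ≠ ng a) :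
    muD a c s (ng a) = -s := by
  unfold muD
  rw [if_neg (ng_ne a), if_neg (h41_nga_ne_ngc a c h1), if_neg (Ne.symm h2), if_pos rfl]

theorem h41_muD_out (a c d : ι ⊕ ι) (s : K) (h1 : d ≠ a) (h2 : d ≠ ng c) (h3 : d ≠ c)
    (h4 : d ≠ ng a) : muD a c s d = 1 := by
  unfold muD
  rw [if_neg h1, if_neg h2, if_neg h3, if_neg h4]

/-! ### the two self cases, from the rank one relations -/

theorem h41_wcj_self (h : DSt X) (a c : ι ⊕ ι) (h1 : c ≠ a) (h2 : c ≠ ng a) (s : K) (hs : s ≠ 0)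
    (u : K) : WD X a c s * X a c u * (WD X a c s)⁻¹ = X (ng a) (ng c) (s⁻¹ ^ 2 * u) := by
  have e1 : X a c u = pairD X a c true u := rfl
  rw [e1]
  show W (pairD X a c) true s * pairD X a c true u * (W (pairD X a c) true s)⁻¹ = _
  rw [(h.rank1 a c h1 h2).conjW_t hs, pairD_false, neg_neg]

theorem h41_wcj_self' (h : DSt X) (a c : ι ⊕ ι) (h1 : c ≠ a) (h2 : c ≠ ng a) (s : K) (hs : s ≠ 0)
    (u : K) : WD X a c s * X (ng a) (ng c) u * (WD X a c s)⁻¹ = X a c (s ^ 2 * u) := by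
  have e1 : X (ng a) (ng c) u = pairD X a c false (-u) := by rw [pairD_false, neg_neg]
  rw [e1]
  show W (pairD X a c) true s * pairD X a c false (-u) * (W (pairD X a c) true s)⁻¹ = _
  rw [(h.rank1 a c h1 h2).conjW_f hs, pairD_true]
  congr 1
  ring

/-- the formula is symmetric in `d`, `e` -/
theorem h41_sym (h : DStAB X) (a c : ι ⊕ ι) (s : K) (d e : ι ⊕ ι)
    (hde : ∀ u : K, WD X a c s * X d e u * (WD X a c s)⁻¹ =
      X (sgD a c d) (sgD a c e) (muD a c s d * muD a c s e * u)) (u : K) :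
    WD X a c s * X e d u * (WD X a c s)⁻¹ =
      X (sgD a c e) (sgD a c d) (muD a c s e * muD a c s d * u) := by
  rw [h.anti d e, h.anti (sgD a c d) (sgD a c e), hde]
  congr 1
  ring

/-- a trivial element stays trivial -/
theorem h41_triv (g : G) : g * 1 * g⁻¹ = 1 := by group

/-! ## D_WCJ_ALL : assembly of the conjugation formula -/

theorem wd_conj_all (h : DSt X) (P : WCJPartsD X) (a c : ι ⊕ ι) (h1 : c ≠ a) (h2 : c ≠ ng a)
    (s : K) (hs : s ≠ 0) (d e : ι ⊕ ι) (u : K) :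
    WD X a c s * X d e u * (WD X a c s)⁻¹ =
      X (sgD a c d) (sgD a c e) (muD a c s d * muD a c s e * u) := by
  have hA := h.toDStAB
  have hac : a ≠ c := Ne.symm h1
  have hac' : a ≠ ng c := Ne.symm (h41_ngc_ne_a a c h2)
  -- special index, outside index
  have g_ao : ∀ e : ι ⊕ ι, e ≠ a → e ≠ ng c → e ≠ c → e ≠ ng a → ∀ u : K,
      WD X a c s * X a e u * (WD X a c s)⁻¹ =
        X (sgD a c a) (sgD a c e) (muD a c s a * muD a c s e * u) := by
    intro e he1 he2 he3 he4 u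
    rw [h41_sgD_a, h41_sgD_out a c e he1 he2 he3 he4, h41_muD_a,
      h41_muD_out a c e s he1 he2 he3 he4, P.A4 a c e s u hs hac hac' he1 he4 he3 he2]
    congr 1
    ring
  have g_ngco : ∀ e : ι ⊕ ι, e ≠ a → e ≠ ng c → e ≠ c → e ≠ ng a → ∀ u : K,
      WD X a c s * X (ng c) e u * (WD X a c s)⁻¹ =
        X (sgD a c (ng c)) (sgD a c e) (muD a c s (ng c) * muD a c s e * u) := by
    intro e he1 he2 he3 he4 u
    rw [h41_sgD_ngc a c h2, h41_sgD_out a c e he1 he2 he3 he4, h41_muD_ngc a c s h2,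
      h41_muD_out a c e s he1 he2 he3 he4, P.A3 a c e s u hs hac hac' he1 he4 he3 he2]
    congr 1
    ring
  have g_co : ∀ e : ι ⊕ ι, e ≠ a → e ≠ ng c → e ≠ c → e ≠ ng a → ∀ u : K,
      WD X a c s * X c e u * (WD X a c s)⁻¹ =
        X (sgD a c c) (sgD a c e) (muD a c s c * muD a c s e * u) := by
    intro e he1 he2 he3 he4 u
    rw [h41_sgD_c a c h1, h41_sgD_out a c e he1 he2 he3 he4, h41_muD_c a c s h1,
      h41_muD_out a c e s he1 he2 he3 he4, P.A2 a c e s u hs hac hac' he1 he4 he3 he2]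
    congr 1
    ring
  have g_ngao : ∀ e : ι ⊕ ι, e ≠ a → e ≠ ng c → e ≠ c → e ≠ ng a → ∀ u : K,
      WD X a c s * X (ng a) e u * (WD X a c s)⁻¹ =
        X (sgD a c (ng a)) (sgD a c e) (muD a c s (ng a) * muD a c s e * u) := by
    intro e he1 he2 he3 he4 u
    rw [h41_sgD_nga a c h1 h2, h41_sgD_out a c e he1 he2 he3 he4, h41_muD_nga a c s h1 h2,
      h41_muD_out a c e s he1 he2 he3 he4, P.A1 a c e s u hs hac hac' he1 he4 he3 he2]
    congr 1
    ring
  have g_oo : ∀ d e : ι ⊕ ι, d ≠ a → d ≠ ng c → d ≠ c → d ≠ ng a →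
      e ≠ a → e ≠ ng c → e ≠ c → e ≠ ng a → ∀ u : K,
      WD X a c s * X d e u * (WD X a c s)⁻¹ =
        X (sgD a c d) (sgD a c e) (muD a c s d * muD a c s e * u) := by
    intro d e hd1 hd2 hd3 hd4 he1 he2 he3 he4 u
    rw [h41_sgD_out a c d hd1 hd2 hd3 hd4, h41_sgD_out a c e he1 he2 he3 he4,
      h41_muD_out a c d s hd1 hd2 hd3 hd4, h41_muD_out a c e s he1 he2 he3 he4,
      P.disj a c d e s u hd1 hd4 hd3 hd2 he1 he4 he3 he2]
    congr 1
    ring
  -- both indices special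
  have g_a_c : ∀ u : K, WD X a c s * X a c u * (WD X a c s)⁻¹ =
      X (sgD a c a) (sgD a c c) (muD a c s a * muD a c s c * u) := by
    intro u
    rw [h41_sgD_a, h41_sgD_c a c h1, h41_muD_a, h41_muD_c a c s h1, h41_wcj_self h a c h1 h2 s hs,
      hA.anti (ng a) (ng c)]
    congr 1
    ring
  have g_nga_ngc : ∀ u : K, WD X a c s * X (ng a) (ng c) u * (WD X a c s)⁻¹ =
      X (sgD a c (ng a)) (sgD a c (ng c)) (muD a c s (ng a) * muD a c s (ng c) * u) := by
    intro u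
    rw [h41_sgD_nga a c h1 h2, h41_sgD_ngc a c h2, h41_muD_nga a c s h1 h2, h41_muD_ngc a c s h2,
      h41_wcj_self' h a c h1 h2 s hs, hA.anti a c]
    congr 1
    ring
  have g_a_ngc : ∀ u : K, WD X a c s * X a (ng c) u * (WD X a c s)⁻¹ =
      X (sgD a c a) (sgD a c (ng c)) (muD a c s a * muD a c s (ng c) * u) := by
    intro u
    rw [h41_sgD_a, h41_sgD_ngc a c h2, h41_muD_a, h41_muD_ngc a c s h2, P.B1 a c s u hs hac hac',
      hA.anti a (ng c)]
    congr 1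
    field_simp
  have g_nga_c : ∀ u : K, WD X a c s * X (ng a) c u * (WD X a c s)⁻¹ =
      X (sgD a c (ng a)) (sgD a c c) (muD a c s (ng a) * muD a c s c * u) := by
    intro u
    rw [h41_sgD_nga a c h1 h2, h41_sgD_c a c h1, h41_muD_nga a c s h1 h2, h41_muD_c a c s h1,
      P.B2 a c s u hs hac hac', hA.anti (ng a) c]
    congr 1
    field_simp
  -- trivial elements
  have g_diag : ∀ d : ι ⊕ ι, ∀ u : K, WD X a c s * X d d u * (WD X a c s)⁻¹ =
      X (sgD a c d) (sgD a c d) (muD a c s d * muD a c s d * u) := by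
    intro d u
    rw [hA.diag, hA.diag, h41_triv]
  have g_a_nga : ∀ u : K, WD X a c s * X a (ng a) u * (WD X a c s)⁻¹ =
      X (sgD a c a) (sgD a c (ng a)) (muD a c s a * muD a c s (ng a) * u) := by
    intro u
    rw [h41_sgD_a, h41_sgD_nga a c h1 h2, hA.opp, hA.opp', h41_triv]
  have g_c_ngc : ∀ u : K, WD X a c s * X c (ng c) u * (WD X a c s)⁻¹ =
      X (sgD a c c) (sgD a c (ng c)) (muD a c s c * muD a c s (ng c) * u) := by
    intro u
    rw [h41_sgD_c a c h1, h41_sgD_ngc a c h2, hA.opp, hA.opp', h41_triv]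
  rcases h41_classify a c d with rfl | rfl | rfl | rfl | ⟨hd1, hd2, hd3, hd4⟩
  · -- `d = a`
    rcases h41_classify d c e with rfl | rfl | rfl | rfl | ⟨he1, he2, he3, he4⟩
    · exact g_diag _ u
    · exact g_a_ngc u
    · exact g_a_c u
    · exact g_a_nga u
    · exact g_ao e he1 he2 he3 he4 u
  · -- `d = ng c`
    rcases h41_classify a c e with rfl | rfl | rfl | rfl | ⟨he1, he2, he3, he4⟩
    · exact h41_sym hA e c s e (ng c) g_a_ngc u
    · exact g_diag _ u
    · exact h41_sym hA a e s e (ng e) g_c_ngc u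
    · exact h41_sym hA a c s (ng a) (ng c) g_nga_ngc u
    · exact g_ngco e he1 he2 he3 he4 u
  · -- `d = c`
    rcases h41_classify a d e with rfl | rfl | rfl | rfl | ⟨he1, he2, he3, he4⟩
    · exact h41_sym hA e d s e d g_a_c u
    · exact g_c_ngc u
    · exact g_diag _ u
    · exact h41_sym hA a d s (ng a) d g_nga_c u
    · exact g_co e he1 he2 he3 he4 u
  · -- `d = ng a`
    rcases h41_classify a c e with rfl | rfl | rfl | rfl | ⟨he1, he2, he3, he4⟩
    · exact h41_sym hA e c s e (ng e) g_a_nga u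
    · exact g_nga_ngc u
    · exact g_nga_c u
    · exact g_diag _ u
    · exact g_ngao e he1 he2 he3 he4 u
  · -- `d` outside
    rcases h41_classify a c e with rfl | rfl | rfl | rfl | ⟨he1, he2, he3, he4⟩
    · exact h41_sym hA e c s e d (g_ao d hd1 hd2 hd3 hd4) u
    · exact h41_sym hA a c s (ng c) d (g_ngco d hd1 hd2 hd3 hd4) u
    · exact h41_sym hA a e s e d (g_co d hd1 hd2 hd3 hd4) u
    · exact h41_sym hA a c s (ng a) d (g_ngao d hd1 hd2 hd3 hd4) u
    · exact g_oo d e hd1 hd2 hd3 hd4 he1 he2 he3 he4 u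

end Cfsg.Agent.Lib.Helper66_S96
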