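import Mathlib
import Cfsg.Agent.Lib.Helper66_S96Calc

/-!
# S2096 market (architect helper66), package D_WCJ_A

Conjugation by the Weyl element `WD X a c s`: roots with one index outside `{a, a', c, c'}`.
-/

set_option autoImplicit false
set_option linter.unusedVariables false
set_option linter.unusedSectionVars false

namespace Cfsg.Agent.Lib.Helper66_S96

open Cfsg.Agent.Lib.Helper5_SteinbergA Cfsg.Agent.Lib.Helper66_S92

variable {ι : Type*} [DecidableEq ι] {K : Type*} [Field K] {G : Type*} [Group G]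
  {X : ι ⊕ ι → ι ⊕ ι → K → G}

/-- conjugation by `WD` as a composition of three conjugations -/
theorem h46_WD_conj (X : ι ⊕ ι → ι ⊕ ι → K → G) (a c : ι ⊕ ι) (s : K) (g : G) :
    WD X a c s * g * (WD X a c s)⁻¹ =
      MulAut.conj (X a c s) (MulAut.conj (X (ng a) (ng c) s⁻¹) (MulAut.conj (X a c s) g)) := by
  rw [WD_eq, neg_neg]
  simp only [MulAut.conj_apply]
  group

theorem h46_ng_ne_ng {a c : ι ⊕ ι} (h : a ≠ c) : ng a ≠ ng c := fun h' => h (ng_injective h')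

theorem h46_ng_ne_of {a c : ι ⊕ ι} (h : a ≠ ng c) : ng a ≠ c := fun h' => h (by rw [← h', ng_ng])

theorem h46_ne_ng_of {a c : ι ⊕ ι} (h : a ≠ ng c) : c ≠ ng a := fun h' => h (by rw [h', ng_ng])

theorem h46_ne_ng_symm {a c : ι ⊕ ι} (h : a ≠ ng c) : ng c ≠ a := fun h' => h h'.symm

/-- collapse of a sandwich in a commuting pair of root subgroups -/
theorem h46_sandwich (h : DStAB X) (a c d e : ι ⊕ ι) (t v t' : K)
    (h1 : d ≠ ng a) (h2 : d ≠ ng c) (h3 : e ≠ ng a) (h4 : e ≠ ng c) (ht : t + t' = 0) :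
    X a c t * X d e v * X a c t' = X d e v := by
  rw [h.comm a c d e t v h1 h2 h3 h4, mul_assoc, h.add, ht, h.X_zero, mul_one]

/-- `X a c s` fixes `X c e v` -/
theorem h46_fix_c (h : DStAB X) (a c e : ι ⊕ ι) (s v : K) (hac' : a ≠ ng c)
    (he2 : e ≠ ng a) (he4 : e ≠ ng c) :
    MulAut.conj (X a c s) (X c e v) = X c e v := by
  rw [MulAut.conj_apply]
  exact h.cj_comm a c c e _ _ (h46_ne_ng_of hac') (ne_ng c) he2 he4

/-- `X a c s` fixes `X a e v` -/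
theorem h46_fix_a (h : DStAB X) (a c e : ι ⊕ ι) (s v : K) (hac' : a ≠ ng c)
    (he2 : e ≠ ng a) (he4 : e ≠ ng c) :
    MulAut.conj (X a c s) (X a e v) = X a e v := by
  rw [MulAut.conj_apply]
  exact h.cj_comm a c a e _ _ (ne_ng a) hac' he2 he4

/-- `X a c s` moves `X (ng c) e v` -/
theorem h46_mv_c (h : DStAB X) (a c e : ι ⊕ ι) (s v : K) (hac : a ≠ c) (hac' : a ≠ ng c)
    (he1 : e ≠ a) (he2 : e ≠ ng a) (he3 : e ≠ c) (he4 : e ≠ ng c) :
    MulAut.conj (X a c s) (X (ng c) e v) = X a e (s * v) * X (ng c) e v := by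
  rw [MulAut.conj_apply]
  exact h.cj_a2 a c e s v hac hac' he1.symm (fun h' => he2 (by rw [h', ng_ng])) he3.symm
    (fun h' => he4 (by rw [h', ng_ng]))

/-- `X a c s` moves `X (ng a) e v` -/
theorem h46_mv_a (h : DStAB X) (a c e : ι ⊕ ι) (s v : K) (hac : a ≠ c) (hac' : a ≠ ng c)
    (he1 : e ≠ a) (he2 : e ≠ ng a) (he3 : e ≠ c) (he4 : e ≠ ng c) :
    MulAut.conj (X a c s) (X (ng a) e v) = X c e (-(s * v)) * X (ng a) e v := by
  rw [MulAut.conj_apply, h.anti c a s,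
    h.cj_a2 c a e (-s) v hac.symm (h46_ne_ng_of hac') he3.symm
      (fun h' => he4 (by rw [h', ng_ng])) he1.symm (fun h' => he2 (by rw [h', ng_ng])), neg_mul]

theorem wcjD_A1 (h : DStAB X) (a c e : ι ⊕ ι) (s u : K) (hs : s ≠ 0) (hac : a ≠ c) (hac' : a ≠ ng c)
    (he1 : e ≠ a) (he2 : e ≠ ng a) (he3 : e ≠ c) (he4 : e ≠ ng c) :
    WD X a c s * X (ng a) e u * (WD X a c s)⁻¹ = X c e (-(s * u)) := by
  have hss : s⁻¹ * s = 1 := inv_mul_cancel₀ hs
  have hn1 : e ≠ ng (ng a) := by rwa [ng_ng]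
  have hn3 : e ≠ ng (ng c) := by rwa [ng_ng]
  -- the middle factor
  have s2a : MulAut.conj (X (ng a) (ng c) s⁻¹) (X c e (-(s * u))) =
      X (ng a) e (-u) * X c e (-(s * u)) := by
    have := h46_mv_c h (ng a) (ng c) e s⁻¹ (-(s * u)) (h46_ng_ne_ng hac)
      (by rw [ng_ng]; exact h46_ng_ne_of hac') he2 hn1 he4 hn3
    rw [ng_ng] at this
    rw [this]
    congr 2
    linear_combination (-u) * hss
  have s2b : MulAut.conj (X (ng a) (ng c) s⁻¹) (X (ng a) e u) = X (ng a) e u :=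
    h46_fix_a h (ng a) (ng c) e s⁻¹ u (by rw [ng_ng]; exact h46_ng_ne_of hac') hn1 hn3
  rw [h46_WD_conj, h46_mv_a h a c e s u hac hac' he1 he2 he3 he4, map_mul, s2a, s2b,
    h46_sandwich h (ng a) e c e (-u) (-(s * u)) u (by rw [ng_ng]; exact hac.symm)
      (fun h' => he4 (by rw [h', ng_ng])) hn1 (ne_ng e) (neg_add_cancel u),
    h46_fix_c h a c e s _ hac' he2 he4]

theorem wcjD_A2 (h : DStAB X) (a c e : ι ⊕ ι) (s u : K) (hs : s ≠ 0) (hac : a ≠ c) (hac' : a ≠ ng c)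
    (he1 : e ≠ a) (he2 : e ≠ ng a) (he3 : e ≠ c) (he4 : e ≠ ng c) :
    WD X a c s * X c e u * (WD X a c s)⁻¹ = X (ng a) e (s⁻¹ * u) := by
  have hss : s * s⁻¹ = 1 := mul_inv_cancel₀ hs
  have hn1 : e ≠ ng (ng a) := by rwa [ng_ng]
  have hn3 : e ≠ ng (ng c) := by rwa [ng_ng]
  have s2 : MulAut.conj (X (ng a) (ng c) s⁻¹) (X c e u) =
      X (ng a) e (s⁻¹ * u) * X c e u := by
    have := h46_mv_c h (ng a) (ng c) e s⁻¹ u (h46_ng_ne_ng hac)
      (by rw [ng_ng]; exact h46_ng_ne_of hac') he2 hn1 he4 hn3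
    rw [ng_ng] at this
    exact this
  have s3 : MulAut.conj (X a c s) (X (ng a) e (s⁻¹ * u)) =
      X c e (-u) * X (ng a) e (s⁻¹ * u) := by
    rw [h46_mv_a h a c e s _ hac hac' he1 he2 he3 he4]
    congr 2
    linear_combination (-u) * hss
  rw [h46_WD_conj, h46_fix_c h a c e s u hac' he2 he4, s2, map_mul, s3,
    h46_fix_c h a c e s u hac' he2 he4,
    h46_sandwich h c e (ng a) e (-u) _ u (h46_ng_ne_ng hac) (h46_ng_ne_ng he1.symm) he4 (ne_ng e)
      (neg_add_cancel u)]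

theorem wcjD_A3 (h : DStAB X) (a c e : ι ⊕ ι) (s u : K) (hs : s ≠ 0) (hac : a ≠ c) (hac' : a ≠ ng c)
    (he1 : e ≠ a) (he2 : e ≠ ng a) (he3 : e ≠ c) (he4 : e ≠ ng c) :
    WD X a c s * X (ng c) e u * (WD X a c s)⁻¹ = X a e (s * u) := by
  have hss : s⁻¹ * s = 1 := inv_mul_cancel₀ hs
  have hn1 : e ≠ ng (ng a) := by rwa [ng_ng]
  have hn3 : e ≠ ng (ng c) := by rwa [ng_ng]
  have s2a : MulAut.conj (X (ng a) (ng c) s⁻¹) (X a e (s * u)) =
      X (ng c) e (-u) * X a e (s * u) := by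
    have := h46_mv_a h (ng a) (ng c) e s⁻¹ (s * u) (h46_ng_ne_ng hac)
      (by rw [ng_ng]; exact h46_ng_ne_of hac') he2 hn1 he4 hn3
    rw [ng_ng] at this
    rw [this]
    congr 2
    linear_combination (-u) * hss
  have s2b : MulAut.conj (X (ng a) (ng c) s⁻¹) (X (ng c) e u) = X (ng c) e u :=
    h46_fix_c h (ng a) (ng c) e s⁻¹ u (by rw [ng_ng]; exact h46_ng_ne_of hac') hn1 hn3
  rw [h46_WD_conj, h46_mv_c h a c e s u hac hac' he1 he2 he3 he4, map_mul, s2a, s2b,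
    h46_sandwich h (ng c) e a e (-u) (s * u) u (by rw [ng_ng]; exact hac)
      (fun h' => he2 (by rw [h', ng_ng])) hn3 (ne_ng e) (neg_add_cancel u),
    h46_fix_a h a c e s _ hac' he2 he4]

theorem wcjD_A4 (h : DStAB X) (a c e : ι ⊕ ι) (s u : K) (hs : s ≠ 0) (hac : a ≠ c) (hac' : a ≠ ng c)
    (he1 : e ≠ a) (he2 : e ≠ ng a) (he3 : e ≠ c) (he4 : e ≠ ng c) :
    WD X a c s * X a e u * (WD X a c s)⁻¹ = X (ng c) e (-(s⁻¹ * u)) := by
  have hss : s * s⁻¹ = 1 := mul_inv_cancel₀ hs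
  have hn1 : e ≠ ng (ng a) := by rwa [ng_ng]
  have hn3 : e ≠ ng (ng c) := by rwa [ng_ng]
  have s2 : MulAut.conj (X (ng a) (ng c) s⁻¹) (X a e u) =
      X (ng c) e (-(s⁻¹ * u)) * X a e u := by
    have := h46_mv_a h (ng a) (ng c) e s⁻¹ u (h46_ng_ne_ng hac)
      (by rw [ng_ng]; exact h46_ng_ne_of hac') he2 hn1 he4 hn3
    rw [ng_ng] at this
    exact this
  have s3 : MulAut.conj (X a c s) (X (ng c) e (-(s⁻¹ * u))) =
      X a e (-u) * X (ng c) e (-(s⁻¹ * u)) := by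
    rw [h46_mv_c h a c e s _ hac hac' he1 he2 he3 he4]
    congr 2
    linear_combination (-u) * hss
  rw [h46_WD_conj, h46_fix_a h a c e s u hac' he2 he4, s2, map_mul, s3,
    h46_fix_a h a c e s u hac' he2 he4,
    h46_sandwich h a e (ng c) e (-u) _ u (h46_ng_ne_ng hac.symm) (h46_ng_ne_ng he3.symm) he2
      (ne_ng e) (neg_add_cancel u)]

end Cfsg.Agent.Lib.Helper66_S96
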