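import Mathlib
import Cfsg.Agent.Lib.Helper66_S96Calc
import Cfsg.Agent.Lib.Helper46_S96_WCJA

/-!
# S2096 market (architect helper66), package D_RANK1

The rank one relations follow from `DStAB` when there is a third index.
-/

set_option autoImplicit false
set_option linter.unusedVariables false
set_option linter.unusedSectionVars false

namespace Cfsg.Agent.Lib.Helper66_S96

open Cfsg.Agent.Lib.Helper5_SteinbergA Cfsg.Agent.Lib.Helper66_S92

variable {ι : Type*} [DecidableEq ι] {K : Type*} [Field K] {G : Type*} [Group G]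
  {X : ι ⊕ ι → ι ⊕ ι → K → G}

/-- the rank one conjugation formula for the root of `X a c` -/
theorem h46_rank1_core (h : DStAB X) (a c e : ι ⊕ ι) (h1 : c ≠ a) (h2 : c ≠ ng a)
    (he1 : e ≠ a) (he2 : e ≠ ng a) (he3 : e ≠ c) (he4 : e ≠ ng c) (s u : K) (hs : s ≠ 0) :
    WD X a c s * X a c u * (WD X a c s)⁻¹ = X (ng a) (ng c) (s⁻¹ ^ 2 * u) := by
  have hac : a ≠ c := h1.symm
  have hac' : a ≠ ng c := h46_ne_ng_of h2
  have hne1 : ng e ≠ a := h46_ng_ne_of he2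
  have hne2 : ng e ≠ ng a := h46_ng_ne_ng he1
  have hne3 : ng e ≠ c := h46_ng_ne_of he4
  have hne4 : ng e ≠ ng c := h46_ng_ne_ng he3
  -- `X a c u` as a commutator
  have e0 : X a c u = X a e u * X (ng e) c 1 * (X a e u)⁻¹ * (X (ng e) c 1)⁻¹ := by
    rw [h.a2 a e c u 1 he1.symm hne1.symm hac hac' he3 he4, mul_one]
  -- conjugation of the two factors
  have c1 : WD X a c s * X a e u * (WD X a c s)⁻¹ = X (ng c) e (-(s⁻¹ * u)) :=
    wcjD_A4 h a c e s u hs hac hac' he1 he2 he3 he4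
  have c2 : WD X a c s * X (ng e) c 1 * (WD X a c s)⁻¹ = X (ng e) (ng a) s⁻¹ := by
    rw [h.anti c (ng e) 1, wcjD_A2 h a c (ng e) s (-1) hs hac hac' hne1 hne2 hne3 hne4,
      h.anti (ng e) (ng a)]
    congr 1
    ring
  -- the commutator of the conjugates
  have c3 : X (ng c) e (-(s⁻¹ * u)) * X (ng e) (ng a) s⁻¹ * (X (ng c) e (-(s⁻¹ * u)))⁻¹ *
      (X (ng e) (ng a) s⁻¹)⁻¹ = X (ng a) (ng c) (s⁻¹ ^ 2 * u) := by
    rw [h.a2 (ng c) e (ng a) _ _ he4.symm hne4.symm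
      (h46_ng_ne_ng h1) (by rw [ng_ng]; exact h46_ng_ne_of h2) he2
      (by rw [ng_ng]; exact he1), h.anti (ng a) (ng c)]
    congr 1
    ring
  have hconj : ∀ g1 g2 : G, WD X a c s * (g1 * g2 * g1⁻¹ * g2⁻¹) * (WD X a c s)⁻¹ =
      (WD X a c s * g1 * (WD X a c s)⁻¹) * (WD X a c s * g2 * (WD X a c s)⁻¹) *
        (WD X a c s * g1 * (WD X a c s)⁻¹)⁻¹ * (WD X a c s * g2 * (WD X a c s)⁻¹)⁻¹ := by
    intro g1 g2
    group
  rw [e0, hconj, c1, c2, c3]

theorem rank1_of_third (h : DStAB X) (a c e : ι ⊕ ι) (h1 : c ≠ a) (h2 : c ≠ ng a)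
    (he1 : e ≠ a) (he2 : e ≠ ng a) (he3 : e ≠ c) (he4 : e ≠ ng c) : Rel (pairD X a c) := by
  refine ⟨?_, ?_⟩
  · intro b t u
    cases b
    · show X (ng a) (ng c) (-t) * X (ng a) (ng c) (-u) = X (ng a) (ng c) (-(t + u))
      rw [h.add, neg_add]
    · exact h.add a c t u
  · intro b t u ht
    cases b
    · -- `b = false`
      have key := h46_rank1_core h (ng a) (ng c) e (h46_ng_ne_ng h1)
        (by rw [ng_ng]; exact h46_ng_ne_of h2) he2 (by rwa [ng_ng]) he4 (by rwa [ng_ng])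
        (-t) (-u) (neg_ne_zero.mpr ht)
      rw [WD_eq, ng_ng, ng_ng] at key
      have e1 : - -(-t)⁻¹ = -t⁻¹ := by rw [neg_neg, inv_neg]
      have e2 : (-t)⁻¹ ^ 2 * -u = -(t⁻¹ ^ 2 * u) := by rw [inv_neg, neg_sq, mul_neg]
      rw [e1, e2] at key
      exact key
    · -- `b = true`
      have key := h46_rank1_core h a c e h1 h2 he1 he2 he3 he4 t u ht
      rw [WD_eq] at key
      show X a c t * X (ng a) (ng c) (- -t⁻¹) * X a c t * X a c u *
        (X a c t * X (ng a) (ng c) (- -t⁻¹) * X a c t)⁻¹ = X (ng a) (ng c) (- -(t⁻¹ ^ 2 * u))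
      rw [key, neg_neg]

end Cfsg.Agent.Lib.Helper66_S96
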