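import Mathlib
import Cfsg.Agent.Lib.Helper66_S96Calc

/-!
# s96 package D_WCJ_B (helper66's market): Weyl conjugation, disjoint roots and the orthogonal roots
with the same support
-/

set_option autoImplicit false
set_option linter.unusedVariables false
set_option linter.unusedSectionVars false

namespace Cfsg.Agent.Lib.Helper66_S96

open Cfsg.Agent.Lib.Helper5_SteinbergA Cfsg.Agent.Lib.Helper66_S92

variable {ι : Type*} [DecidableEq ι] {K : Type*} [Field K] {G : Type*} [Group G]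
  {X : ι ⊕ ι → ι ⊕ ι → K → G}

/-- an element commuting with both kinds of factors of `WD` is fixed by `WD`-conjugation -/
theorem h52_wd_conj_of_comm (a c : ι ⊕ ι) (s : K) (g : G)
    (h1 : ∀ t, X a c t * g = g * X a c t)
    (h2 : ∀ t, X (ng a) (ng c) t * g = g * X (ng a) (ng c) t) :
    WD X a c s * g * (WD X a c s)⁻¹ = g := by
  rw [mul_inv_eq_iff_eq_mul, WD_eq]
  calc X a c s * X (ng a) (ng c) (- -s⁻¹) * X a c s * g
      = X a c s * X (ng a) (ng c) (- -s⁻¹) * (X a c s * g) := by group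
    _ = X a c s * X (ng a) (ng c) (- -s⁻¹) * (g * X a c s) := by rw [h1]
    _ = X a c s * (X (ng a) (ng c) (- -s⁻¹) * g) * X a c s := by group
    _ = X a c s * (g * X (ng a) (ng c) (- -s⁻¹)) * X a c s := by rw [h2]
    _ = (X a c s * g) * X (ng a) (ng c) (- -s⁻¹) * X a c s := by group
    _ = (g * X a c s) * X (ng a) (ng c) (- -s⁻¹) * X a c s := by rw [h1]
    _ = g * (X a c s * X (ng a) (ng c) (- -s⁻¹) * X a c s) := by group

theorem wcjD_disj (h : DStAB X) (a c d e : ι ⊕ ι) (s u : K)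
    (hd1 : d ≠ a) (hd2 : d ≠ ng a) (hd3 : d ≠ c) (hd4 : d ≠ ng c)
    (he1 : e ≠ a) (he2 : e ≠ ng a) (he3 : e ≠ c) (he4 : e ≠ ng c) :
    WD X a c s * X d e u * (WD X a c s)⁻¹ = X d e u := by
  apply h52_wd_conj_of_comm
  · intro t
    exact h.comm a c d e t u hd2 hd4 he2 he4
  · intro t
    exact h.comm (ng a) (ng c) d e t u (by rwa [ng_ng]) (by rwa [ng_ng]) (by rwa [ng_ng])
      (by rwa [ng_ng])

theorem wcjD_B1 (h : DStAB X) (a c : ι ⊕ ι) (s u : K) (hs : s ≠ 0) (hac : a ≠ c) (hac' : a ≠ ng c) :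
    WD X a c s * X a (ng c) u * (WD X a c s)⁻¹ = X a (ng c) u := by
  apply h52_wd_conj_of_comm
  · intro t
    rw [h.anti c a, h.anti (ng c) a]
    exact h.comm2 c a (-t) (-u)
  · intro t
    have := h.comm2 (ng a) (ng c) t u
    rwa [ng_ng] at this

theorem wcjD_B2 (h : DStAB X) (a c : ι ⊕ ι) (s u : K) (hs : s ≠ 0) (hac : a ≠ c) (hac' : a ≠ ng c) :
    WD X a c s * X (ng a) c u * (WD X a c s)⁻¹ = X (ng a) c u := by
  apply h52_wd_conj_of_comm
  · intro t
    exact h.comm2 a c t u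
  · intro t
    rw [h.anti (ng c) (ng a), h.anti c (ng a)]
    have := h.comm2 (ng c) (ng a) (-t) (-u)
    rwa [ng_ng] at this

end Cfsg.Agent.Lib.Helper66_S96
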