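import Mathlib
import Cfsg.Agent.Lib.Helper66_S96Rank

set_option autoImplicit false
set_option linter.unusedVariables false
set_option linter.unusedSectionVars false

/-!
Package D_T1 of helper66's `s96_packages` market (S2096, type `D`), core: the torus relation
`HD X a c s * HD X (ng a) e s = HD X c e s`, with the two conjugation formulas of package D_WW
(`wh_conj`, `hw_conj`) passed as hypotheses.
-/

namespace Cfsg.Agent.Lib.Helper66_S96

open Cfsg.Agent.Lib.Helper5_SteinbergA Cfsg.Agent.Lib.Helper66_S92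

variable {ι : Type*} [DecidableEq ι] {K : Type*} [Field K] {G : Type*} [Group G]
  {X : ι ⊕ ι → ι ⊕ ι → K → G}

theorem h58_t1D_core [Finite K] (h : DSt X)
    (hwh : ∀ a c : ι ⊕ ι, c ≠ a → c ≠ ng a → ∀ s : K, s ≠ 0 → ∀ (d e : ι ⊕ ι), e ≠ d → e ≠ ng d →
      ∀ u : K, u ≠ 0 →
        WD X a c s * HD X d e u * (WD X a c s)⁻¹ = HD X (sgD a c d) (sgD a c e) u)
    (hhw : ∀ a c : ι ⊕ ι, c ≠ a → c ≠ ng a → ∀ s : K, s ≠ 0 → ∀ (d e : ι ⊕ ι), e ≠ d → e ≠ ng d →
      ∀ u : K, u ≠ 0 →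
        HD X a c s * WD X d e u * (HD X a c s)⁻¹ = WD X d e (chD a c s d * chD a c s e * u))
    (a c e : ι ⊕ ι) (h1 : c ≠ a) (h2 : c ≠ ng a) (h3 : e ≠ a) (h4 : e ≠ ng a) (h5 : e ≠ c)
    (h6 : e ≠ ng c) (s : K) (hs : s ≠ 0) :
    HD X a c s * HD X (ng a) e s = HD X c e s := by
  have h3' : e ≠ ng (ng a) := by rw [ng_ng]; exact h3
  have hna : ng a ≠ a := ng_ne a
  have han : a ≠ ng a := ne_ng a
  have hane : a ≠ ng e := fun hh => h4 (by rw [hh, ng_ng])
  have hae : a ≠ e := fun hh => h3 hh.symm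
  have hcna : c ≠ ng a := h2
  have hcne : c ≠ ng e := fun hh => h6 (by rw [hh, ng_ng])
  have hce : c ≠ e := fun hh => h5 hh.symm
  -- conjugation of `HD X a c s` by `n = WD X (ng a) e 1`
  have e1 := hwh (ng a) e h4 h3' 1 one_ne_zero a c h1 h2 s hs
  have s1 : sgD (ng a) e a = e := by
    unfold sgD
    rw [if_neg han, if_neg hane, if_neg hae, ng_ng, if_pos rfl]
  have s2 : sgD (ng a) e c = c := by
    unfold sgD
    rw [if_neg hcna, if_neg hcne, if_neg hce, ng_ng, if_neg h1]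
  rw [s1, s2, h.hd_symm c e h5 h6 s hs] at e1
  -- conjugation of `n` by `(HD X a c s)⁻¹ = HD X a c s⁻¹`
  have e2 := hhw a c h1 h2 s⁻¹ (inv_ne_zero hs) (ng a) e h4 h3' 1 one_ne_zero
  have c1 : chD a c s⁻¹ (ng a) = s := by
    unfold chD
    have : ¬ (ng a = a ∨ ng a = c) := by
      rintro (hh | hh)
      · exact hna hh
      · exact h2 hh.symm
    rw [if_neg this, if_pos (Or.inl rfl), inv_inv]
  have c2 : chD a c s⁻¹ e = 1 := by
    unfold chD
    have t1 : ¬ (e = a ∨ e = c) := by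
      rintro (hh | hh)
      · exact h3 hh
      · exact h5 hh
    have t2 : ¬ (e = ng a ∨ e = ng c) := by
      rintro (hh | hh)
      · exact h4 hh
      · exact h6 hh
    rw [if_neg t1, if_neg t2]
  rw [c1, c2, mul_one, mul_one, ← h.hd_inv a c h1 h2 s hs, inv_inv] at e2
  -- e2 : (HD X a c s)⁻¹ * WD X (ng a) e 1 * HD X a c s = WD X (ng a) e s
  rw [← e1]
  have e3 : WD X (ng a) e 1 * HD X a c s * (WD X (ng a) e 1)⁻¹ =
      HD X a c s * ((HD X a c s)⁻¹ * WD X (ng a) e 1 * HD X a c s) * (WD X (ng a) e 1)⁻¹ := by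
    group
  rw [e3, e2, mul_assoc]
  rfl

end Cfsg.Agent.Lib.Helper66_S96
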