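import Mathlib
import Cfsg.Agent.Lib.Helper66_S96Rank

set_option autoImplicit false
set_option linter.unusedVariables false
set_option linter.unusedSectionVars false

/-!
# S2096 / S2097 (architect helper66): package D_TOR (helper99)

Conjugation by the torus elements `HD X a c s = WD X a c s * WD X a c (-1)` of type `D`, from the
conjugation formula for the Weyl elements.  Port of `Helper58_S92_TOR`.  The lemmas `h99_*` on
`sgD`, `muD`, `chD` are reused by the package D_WW.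
-/

namespace Cfsg.Agent.Lib.Helper66_S96

open Cfsg.Agent.Lib.Helper5_SteinbergA Cfsg.Agent.Lib.Helper66_S92

variable {ι : Type*} [DecidableEq ι] {K : Type*} [Field K] {G : Type*} [Group G]
  {X : ι ⊕ ι → ι ⊕ ι → K → G}

/-! ### the five positions of an index relative to a root `(a, c)` -/

theorem h99_classify (a c d : ι ⊕ ι) :
    d = a ∨ d = ng c ∨ d = c ∨ d = ng a ∨ (d ≠ a ∧ d ≠ ng c ∧ d ≠ c ∧ d ≠ ng a) := by
  by_cases h1 : d = a
  · exact Or.inl h1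
  by_cases h2 : d = ng c
  · exact Or.inr (Or.inl h2)
  by_cases h3 : d = c
  · exact Or.inr (Or.inr (Or.inl h3))
  by_cases h4 : d = ng a
  · exact Or.inr (Or.inr (Or.inr (Or.inl h4)))
  · exact Or.inr (Or.inr (Or.inr (Or.inr ⟨h1, h2, h3, h4⟩)))

theorem h99_ngc_ne_a (a c : ι ⊕ ι) (h2 : c ≠ ng a) : ng c ≠ a :=
  fun h' => h2 ((ng_eq_iff c a).mp h')

theorem h99_nga_ne_ngc (a c : ι ⊕ ι) (h1 : c ≠ a) : ng a ≠ ng c :=
  fun h' => h1 (ng_injective h').symm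

theorem h99_nga_ne_c (a c : ι ⊕ ι) (h2 : c ≠ ng a) : ng a ≠ c := fun h' => h2 h'.symm

/-! ### values of `sgD` -/

theorem h99_sgD_a (a c : ι ⊕ ι) : sgD a c a = ng c := if_pos rfl

theorem h99_sgD_ngc (a c : ι ⊕ ι) (h2 : c ≠ ng a) : sgD a c (ng c) = a := by
  unfold sgD
  rw [if_neg (h99_ngc_ne_a a c h2), if_pos rfl]

theorem h99_sgD_c (a c : ι ⊕ ι) (h1 : c ≠ a) : sgD a c c = ng a := by
  unfold sgD
  rw [if_neg h1, if_neg (ne_ng c), if_pos rfl]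

theorem h99_sgD_nga (a c : ι ⊕ ι) (h1 : c ≠ a) (h2 : c ≠ ng a) : sgD a c (ng a) = c := by
  unfold sgD
  rw [if_neg (ng_ne a), if_neg (h99_nga_ne_ngc a c h1), if_neg (h99_nga_ne_c a c h2), if_pos rfl]

theorem h99_sgD_out (a c d : ι ⊕ ι) (h1 : d ≠ a) (h2 : d ≠ ng c) (h3 : d ≠ c) (h4 : d ≠ ng a) :
    sgD a c d = d := by
  unfold sgD
  rw [if_neg h1, if_neg h2, if_neg h3, if_neg h4]

/-! ### values of `muD` -/

theorem h99_muD_a (a c : ι ⊕ ι) (s : K) : muD a c s a = -s⁻¹ := if_pos rfl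

theorem h99_muD_ngc (a c : ι ⊕ ι) (s : K) (h2 : c ≠ ng a) : muD a c s (ng c) = s := by
  unfold muD
  rw [if_neg (h99_ngc_ne_a a c h2), if_pos rfl]

theorem h99_muD_c (a c : ι ⊕ ι) (s : K) (h1 : c ≠ a) : muD a c s c = s⁻¹ := by
  unfold muD
  rw [if_neg h1, if_neg (ne_ng c), if_pos rfl]

theorem h99_muD_nga (a c : ι ⊕ ι) (s : K) (h1 : c ≠ a) (h2 : c ≠ ng a) :
    muD a c s (ng a) = -s := by
  unfold muD
  rw [if_neg (ng_ne a), if_neg (h99_nga_ne_ngc a c h1), if_neg (h99_nga_ne_c a c h2), if_pos rfl]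

theorem h99_muD_out (a c d : ι ⊕ ι) (s : K) (h1 : d ≠ a) (h2 : d ≠ ng c) (h3 : d ≠ c)
    (h4 : d ≠ ng a) : muD a c s d = 1 := by
  unfold muD
  rw [if_neg h1, if_neg h2, if_neg h3, if_neg h4]

/-! ### values of `chD` -/

theorem h99_chD_a (a c : ι ⊕ ι) (s : K) : chD a c s a = s := if_pos (Or.inl rfl)

theorem h99_chD_c (a c : ι ⊕ ι) (s : K) : chD a c s c = s := if_pos (Or.inr rfl)

theorem h99_chD_nga (a c : ι ⊕ ι) (s : K) (h2 : c ≠ ng a) : chD a c s (ng a) = s⁻¹ := by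
  unfold chD
  rw [if_neg (not_or.mpr ⟨ng_ne a, h99_nga_ne_c a c h2⟩), if_pos (Or.inl rfl)]

theorem h99_chD_ngc (a c : ι ⊕ ι) (s : K) (h2 : c ≠ ng a) : chD a c s (ng c) = s⁻¹ := by
  unfold chD
  rw [if_neg (not_or.mpr ⟨h99_ngc_ne_a a c h2, ng_ne c⟩), if_pos (Or.inr rfl)]

theorem h99_chD_out (a c d : ι ⊕ ι) (s : K) (h1 : d ≠ a) (h2 : d ≠ ng c) (h3 : d ≠ c)
    (h4 : d ≠ ng a) : chD a c s d = 1 := by
  unfold chD
  rw [if_neg (not_or.mpr ⟨h1, h3⟩), if_neg (not_or.mpr ⟨h4, h2⟩)]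

/-! ### `sgD a c` is an involution, and the product of the coefficients -/

theorem h99_sgD_sgD (a c d : ι ⊕ ι) (h1 : c ≠ a) (h2 : c ≠ ng a) : sgD a c (sgD a c d) = d := by
  rcases h99_classify a c d with hd | hd | hd | hd | ⟨hd1, hd2, hd3, hd4⟩
  · rw [hd, h99_sgD_a, h99_sgD_ngc a c h2]
  · rw [hd, h99_sgD_ngc a c h2, h99_sgD_a]
  · rw [hd, h99_sgD_c a c h1, h99_sgD_nga a c h1 h2]
  · rw [hd, h99_sgD_nga a c h1 h2, h99_sgD_c a c h1]
  · rw [h99_sgD_out a c d hd1 hd2 hd3 hd4, h99_sgD_out a c d hd1 hd2 hd3 hd4]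

theorem h99_mu_mul (a c d : ι ⊕ ι) (h1 : c ≠ a) (h2 : c ≠ ng a) (s : K) :
    muD a c s (sgD a c d) * muD a c (-1) d = chD a c s d := by
  have hm : ((-1 : K))⁻¹ = -1 := by rw [inv_neg, inv_one]
  rcases h99_classify a c d with hd | hd | hd | hd | ⟨hd1, hd2, hd3, hd4⟩
  · rw [hd, h99_sgD_a, h99_muD_ngc a c s h2, h99_muD_a, h99_chD_a, hm]
    ring
  · rw [hd, h99_sgD_ngc a c h2, h99_muD_a, h99_muD_ngc a c (-1) h2, h99_chD_ngc a c s h2]
    ring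
  · rw [hd, h99_sgD_c a c h1, h99_muD_nga a c s h1 h2, h99_muD_c a c (-1) h1, h99_chD_c, hm]
    ring
  · rw [hd, h99_sgD_nga a c h1 h2, h99_muD_c a c s h1, h99_muD_nga a c (-1) h1 h2,
      h99_chD_nga a c s h2]
    ring
  · rw [h99_sgD_out a c d hd1 hd2 hd3 hd4, h99_muD_out a c d s hd1 hd2 hd3 hd4,
      h99_muD_out a c d (-1) hd1 hd2 hd3 hd4, h99_chD_out a c d s hd1 hd2 hd3 hd4, mul_one]

/-- `HD X a c s` written with the Weyl element of parameter `-1` (no finiteness needed) -/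
theorem h99_hd_eq (h : DSt X) (a c : ι ⊕ ι) (h1 : c ≠ a) (h2 : c ≠ ng a) (s : K) :
    HD X a c s = WD X a c s * WD X a c (-1) := by
  unfold HD
  rw [h.wd_inv a c h1 h2 1]

/-! ## D_TOR : conjugation by the torus elements -/

theorem hd_conj_all (h : DSt X)
    (hW : ∀ a c : ι ⊕ ι, c ≠ a → c ≠ ng a → ∀ s : K, s ≠ 0 → ∀ (d e : ι ⊕ ι) (u : K),
      WD X a c s * X d e u * (WD X a c s)⁻¹ =
        X (sgD a c d) (sgD a c e) (muD a c s d * muD a c s e * u))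
    (a c : ι ⊕ ι) (h1 : c ≠ a) (h2 : c ≠ ng a) (s : K) (hs : s ≠ 0) (d e : ι ⊕ ι) (u : K) :
    HD X a c s * X d e u * (HD X a c s)⁻¹ = X d e (chD a c s d * chD a c s e * u) := by
  have hm1 : (-1 : K) ≠ 0 := neg_ne_zero.mpr one_ne_zero
  rw [h99_hd_eq h a c h1 h2 s]
  have e2 : WD X a c s * WD X a c (-1) * X d e u * (WD X a c s * WD X a c (-1))⁻¹ =
      WD X a c s * (WD X a c (-1) * X d e u * (WD X a c (-1))⁻¹) * (WD X a c s)⁻¹ := by group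
  rw [e2, hW a c h1 h2 (-1) hm1 d e u, hW a c h1 h2 s hs, h99_sgD_sgD a c d h1 h2,
    h99_sgD_sgD a c e h1 h2]
  congr 1
  rw [← h99_mu_mul a c d h1 h2 s, ← h99_mu_mul a c e h1 h2 s]
  ring

end Cfsg.Agent.Lib.Helper66_S96
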