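import Mathlib
import Cfsg.Agent.Lib.Helper66_S96Rank
import Cfsg.Agent.Lib.Helper99_S96_TOR

set_option autoImplicit false
set_option linter.unusedVariables false
set_option linter.unusedSectionVars false

/-!
# S2096 / S2097 (architect helper66): package D_WW (helper99)

Weyl and torus elements of type `D` conjugated by Weyl and torus elements: `ww_conj_all`,
`wh_conj_all`, `hw_conj_all`, `hh_comm_all`, from the conjugation formulas for the root elements.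
-/

namespace Cfsg.Agent.Lib.Helper66_S96

open Cfsg.Agent.Lib.Helper5_SteinbergA Cfsg.Agent.Lib.Helper66_S92

variable {ι : Type*} [DecidableEq ι] {K : Type*} [Field K] {G : Type*} [Group G]
  {X : ι ⊕ ι → ι ⊕ ι → K → G}

/-! ### `sgD`, `muD`, `chD` and the opposition `ng` -/

theorem h99_sgD_ng (a c d : ι ⊕ ι) (h1 : c ≠ a) (h2 : c ≠ ng a) :
    sgD a c (ng d) = ng (sgD a c d) := by
  rcases h99_classify a c d with hd | hd | hd | hd | ⟨hd1, hd2, hd3, hd4⟩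
  · rw [hd, h99_sgD_nga a c h1 h2, h99_sgD_a, ng_ng]
  · rw [hd, ng_ng, h99_sgD_c a c h1, h99_sgD_ngc a c h2]
  · rw [hd, h99_sgD_ngc a c h2, h99_sgD_c a c h1, ng_ng]
  · rw [hd, ng_ng, h99_sgD_a, h99_sgD_nga a c h1 h2]
  · have k1 : ng d ≠ a := fun h' => hd4 ((ng_eq_iff d a).mp h')
    have k2 : ng d ≠ ng c := fun h' => hd3 (ng_injective h')
    have k3 : ng d ≠ c := fun h' => hd2 ((ng_eq_iff d c).mp h')
    have k4 : ng d ≠ ng a := fun h' => hd1 (ng_injective h')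
    rw [h99_sgD_out a c (ng d) k1 k2 k3 k4, h99_sgD_out a c d hd1 hd2 hd3 hd4]

theorem h99_muD_ng (a c d : ι ⊕ ι) (h1 : c ≠ a) (h2 : c ≠ ng a) (s : K) :
    muD a c s (ng d) = (muD a c s d)⁻¹ := by
  rcases h99_classify a c d with hd | hd | hd | hd | ⟨hd1, hd2, hd3, hd4⟩
  · rw [hd, h99_muD_nga a c s h1 h2, h99_muD_a, inv_neg, inv_inv]
  · rw [hd, ng_ng, h99_muD_c a c s h1, h99_muD_ngc a c s h2]
  · rw [hd, h99_muD_ngc a c s h2, h99_muD_c a c s h1, inv_inv]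
  · rw [hd, ng_ng, h99_muD_a, h99_muD_nga a c s h1 h2, inv_neg]
  · have k1 : ng d ≠ a := fun h' => hd4 ((ng_eq_iff d a).mp h')
    have k2 : ng d ≠ ng c := fun h' => hd3 (ng_injective h')
    have k3 : ng d ≠ c := fun h' => hd2 ((ng_eq_iff d c).mp h')
    have k4 : ng d ≠ ng a := fun h' => hd1 (ng_injective h')
    rw [h99_muD_out a c (ng d) s k1 k2 k3 k4, h99_muD_out a c d s hd1 hd2 hd3 hd4, inv_one]

theorem h99_chD_ng (a c d : ι ⊕ ι) (h1 : c ≠ a) (h2 : c ≠ ng a) (s : K) :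
    chD a c s (ng d) = (chD a c s d)⁻¹ := by
  rcases h99_classify a c d with hd | hd | hd | hd | ⟨hd1, hd2, hd3, hd4⟩
  · rw [hd, h99_chD_nga a c s h2, h99_chD_a]
  · rw [hd, ng_ng, h99_chD_c, h99_chD_ngc a c s h2, inv_inv]
  · rw [hd, h99_chD_ngc a c s h2, h99_chD_c]
  · rw [hd, ng_ng, h99_chD_a, h99_chD_nga a c s h2, inv_inv]
  · have k1 : ng d ≠ a := fun h' => hd4 ((ng_eq_iff d a).mp h')
    have k2 : ng d ≠ ng c := fun h' => hd3 (ng_injective h')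
    have k3 : ng d ≠ c := fun h' => hd2 ((ng_eq_iff d c).mp h')
    have k4 : ng d ≠ ng a := fun h' => hd1 (ng_injective h')
    rw [h99_chD_out a c (ng d) s k1 k2 k3 k4, h99_chD_out a c d s hd1 hd2 hd3 hd4, inv_one]

theorem h99_muD_ne_zero (a c d : ι ⊕ ι) (h1 : c ≠ a) (h2 : c ≠ ng a) (s : K) (hs : s ≠ 0) :
    muD a c s d ≠ 0 := by
  rcases h99_classify a c d with hd | hd | hd | hd | ⟨hd1, hd2, hd3, hd4⟩
  · rw [hd, h99_muD_a]
    exact neg_ne_zero.mpr (inv_ne_zero hs)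
  · rw [hd, h99_muD_ngc a c s h2]
    exact hs
  · rw [hd, h99_muD_c a c s h1]
    exact inv_ne_zero hs
  · rw [hd, h99_muD_nga a c s h1 h2]
    exact neg_ne_zero.mpr hs
  · rw [h99_muD_out a c d s hd1 hd2 hd3 hd4]
    exact one_ne_zero

theorem h99_chD_ne_zero (a c d : ι ⊕ ι) (s : K) (hs : s ≠ 0) : chD a c s d ≠ 0 := by
  unfold chD
  split_ifs
  · exact hs
  · exact inv_ne_zero hs
  · exact one_ne_zero

theorem h99_sgD_injective (a c : ι ⊕ ι) (h1 : c ≠ a) (h2 : c ≠ ng a) :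
    Function.Injective (sgD a c) := fun d e hde => by
  rw [← h99_sgD_sgD a c d h1 h2, ← h99_sgD_sgD a c e h1 h2, hde]

/-- conjugation distributes over the three factors of a Weyl element -/
theorem h99_conj_three (g A B : G) :
    g * (A * B * A) * g⁻¹ = g * A * g⁻¹ * (g * B * g⁻¹) * (g * A * g⁻¹) := by group

/-- conjugation of a product with an inverse -/
theorem h99_conj_mul_inv (g A B : G) :
    g * (A * B⁻¹) * g⁻¹ = g * A * g⁻¹ * (g * B * g⁻¹)⁻¹ := by group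

/-! ## D_WW : Weyl and torus elements conjugated by Weyl and torus elements -/

theorem ww_conj_all (h : DSt X)
    (hW : ∀ a c : ι ⊕ ι, c ≠ a → c ≠ ng a → ∀ s : K, s ≠ 0 → ∀ (d e : ι ⊕ ι) (u : K),
      WD X a c s * X d e u * (WD X a c s)⁻¹ =
        X (sgD a c d) (sgD a c e) (muD a c s d * muD a c s e * u))
    (a c : ι ⊕ ι) (h1 : c ≠ a) (h2 : c ≠ ng a) (s : K) (hs : s ≠ 0) (d e : ι ⊕ ι)
    (h3 : e ≠ d) (h4 : e ≠ ng d) (u : K) (hu : u ≠ 0) :
    WD X a c s * WD X d e u * (WD X a c s)⁻¹ =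
      WD X (sgD a c d) (sgD a c e) (muD a c s d * muD a c s e * u) := by
  rw [WD_eq X d e u, WD_eq X (sgD a c d) (sgD a c e), h99_conj_three,
    hW a c h1 h2 s hs d e u, hW a c h1 h2 s hs (ng d) (ng e),
    h99_sgD_ng a c d h1 h2, h99_sgD_ng a c e h1 h2, h99_muD_ng a c d h1 h2 s,
    h99_muD_ng a c e h1 h2 s]
  congr 3
  rw [mul_inv, mul_inv, neg_neg, neg_neg]

theorem wh_conj_all [Finite K] (h : DSt X)
    (hW : ∀ a c : ι ⊕ ι, c ≠ a → c ≠ ng a → ∀ s : K, s ≠ 0 → ∀ (d e : ι ⊕ ι) (u : K),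
      WD X a c s * X d e u * (WD X a c s)⁻¹ =
        X (sgD a c d) (sgD a c e) (muD a c s d * muD a c s e * u))
    (a c : ι ⊕ ι) (h1 : c ≠ a) (h2 : c ≠ ng a) (s : K) (hs : s ≠ 0) (d e : ι ⊕ ι)
    (h3 : e ≠ d) (h4 : e ≠ ng d) (u : K) (hu : u ≠ 0) :
    WD X a c s * HD X d e u * (WD X a c s)⁻¹ = HD X (sgD a c d) (sgD a c e) u := by
  have hm : muD a c s d * muD a c s e ≠ 0 :=
    mul_ne_zero (h99_muD_ne_zero a c d h1 h2 s hs) (h99_muD_ne_zero a c e h1 h2 s hs)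
  have k3 : sgD a c e ≠ sgD a c d := fun h' => h3 (h99_sgD_injective a c h1 h2 h')
  have k4 : sgD a c e ≠ ng (sgD a c d) := fun h' => by
    rw [← h99_sgD_ng a c d h1 h2] at h'
    exact h4 (h99_sgD_injective a c h1 h2 h')
  have e1 : HD X d e u = WD X d e u * (WD X d e 1)⁻¹ := rfl
  rw [e1, h99_conj_mul_inv, ww_conj_all h hW a c h1 h2 s hs d e h3 h4 u hu,
    ww_conj_all h hW a c h1 h2 s hs d e h3 h4 1 one_ne_zero,
    h.wd_mul_inv (sgD a c d) (sgD a c e) k3 k4 _ _ (mul_ne_zero hm hu)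
      (mul_ne_zero hm one_ne_zero)]
  congr 1
  rw [mul_one, mul_comm, inv_mul_cancel_left₀ hm]

theorem hw_conj_all (h : DSt X)
    (hH : ∀ a c : ι ⊕ ι, c ≠ a → c ≠ ng a → ∀ s : K, s ≠ 0 → ∀ (d e : ι ⊕ ι) (u : K),
      HD X a c s * X d e u * (HD X a c s)⁻¹ = X d e (chD a c s d * chD a c s e * u))
    (a c : ι ⊕ ι) (h1 : c ≠ a) (h2 : c ≠ ng a) (s : K) (hs : s ≠ 0) (d e : ι ⊕ ι)
    (h3 : e ≠ d) (h4 : e ≠ ng d) (u : K) (hu : u ≠ 0) :
    HD X a c s * WD X d e u * (HD X a c s)⁻¹ = WD X d e (chD a c s d * chD a c s e * u) := by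
  rw [WD_eq X d e u, WD_eq X d e (chD a c s d * chD a c s e * u), h99_conj_three,
    hH a c h1 h2 s hs d e u, hH a c h1 h2 s hs (ng d) (ng e),
    h99_chD_ng a c d h1 h2 s, h99_chD_ng a c e h1 h2 s]
  congr 3
  rw [mul_inv, mul_inv, neg_neg, neg_neg]

theorem hh_comm_all [Finite K] (h : DSt X)
    (hH : ∀ a c : ι ⊕ ι, c ≠ a → c ≠ ng a → ∀ s : K, s ≠ 0 → ∀ (d e : ι ⊕ ι) (u : K),
      HD X a c s * X d e u * (HD X a c s)⁻¹ = X d e (chD a c s d * chD a c s e * u))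
    (a c : ι ⊕ ι) (h1 : c ≠ a) (h2 : c ≠ ng a) (s : K) (hs : s ≠ 0) (d e : ι ⊕ ι)
    (h3 : e ≠ d) (h4 : e ≠ ng d) (u : K) (hu : u ≠ 0) :
    HD X a c s * HD X d e u = HD X d e u * HD X a c s := by
  have hm : chD a c s d * chD a c s e ≠ 0 :=
    mul_ne_zero (h99_chD_ne_zero a c d s hs) (h99_chD_ne_zero a c e s hs)
  have e1 : HD X d e u = WD X d e u * (WD X d e 1)⁻¹ := rfl
  have key : HD X a c s * HD X d e u * (HD X a c s)⁻¹ = HD X d e u := by
    rw [e1, h99_conj_mul_inv, hw_conj_all h hH a c h1 h2 s hs d e h3 h4 u hu,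
      hw_conj_all h hH a c h1 h2 s hs d e h3 h4 1 one_ne_zero,
      h.wd_mul_inv d e h3 h4 _ _ (mul_ne_zero hm hu) (mul_ne_zero hm one_ne_zero),
      h.wd_mul_inv d e h3 h4 u 1 hu one_ne_zero]
    congr 1
    rw [mul_one, inv_one, mul_one, mul_comm, inv_mul_cancel_left₀ hm]
  rw [← key, inv_mul_cancel_right, key]

end Cfsg.Agent.Lib.Helper66_S96
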