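import Mathlib
import Cfsg.Agent.Lib.Helper66_S96Rank
import Cfsg.Agent.Lib.Helper46_S96_WCJA
import Cfsg.Agent.Lib.Helper52_S96_WCJB
import Cfsg.Agent.Lib.Helper46_S96_RANK1
import Cfsg.Agent.Lib.Helper41_S96_WCJALL
import Cfsg.Agent.Lib.Helper99_S96_TOR
import Cfsg.Agent.Lib.Helper99_S96_WW
import Cfsg.Agent.Lib.Helper58_S96_T1aux

set_option autoImplicit false

/-!
Assembly of the Weyl / torus calculus of type `D` (helper66, S2096 / S2097) from the packages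
D_WCJ_A, D_WCJ_B, D_RANK1, D_WCJ_ALL, D_TOR, D_WW, D_T1.
-/

namespace Cfsg.Agent.Lib.Helper66_S96

open Cfsg.Agent.Lib.Helper5_SteinbergA Cfsg.Agent.Lib.Helper66_S92

variable {ι : Type*} [DecidableEq ι] {K : Type*} [Field K] {G : Type*} [Group G]
  {X : ι ⊕ ι → ι ⊕ ι → K → G}

theorem wcjPartsD_of_dStAB (h : DStAB X) : WCJPartsD X where
  disj := wcjD_disj h
  A1 := wcjD_A1 h
  A2 := wcjD_A2 h
  A3 := wcjD_A3 h
  A4 := wcjD_A4 h
  B1 := wcjD_B1 h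
  B2 := wcjD_B2 h

/-- the index in `ι` of an element of `ι ⊕ ι` -/
def h66_idx (a : ι ⊕ ι) : ι := Sum.elim id id a

theorem h66_ne_of_idx {a e : ι ⊕ ι} (h : h66_idx e ≠ h66_idx a) : e ≠ a ∧ e ≠ ng a := by
  constructor
  · rintro rfl
    exact h rfl
  · rintro rfl
    apply h
    cases a <;> rfl

theorem h66_exists_third [Fintype ι] (h3 : 3 ≤ Fintype.card ι) (a c : ι ⊕ ι) :
    ∃ e : ι ⊕ ι, e ≠ a ∧ e ≠ ng a ∧ e ≠ c ∧ e ≠ ng c := by
  have hcard : ({h66_idx a, h66_idx c} : Finset ι).card < Fintype.card ι := by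
    have := Finset.card_le_two (a := h66_idx a) (b := h66_idx c)
    omega
  obtain ⟨i, hi⟩ : ∃ i : ι, i ∉ ({h66_idx a, h66_idx c} : Finset ι) := by
    by_contra hcon
    push_neg at hcon
    have : ({h66_idx a, h66_idx c} : Finset ι) = Finset.univ := by
      ext x
      simp only [Finset.mem_univ, iff_true]
      exact hcon x
    rw [this, Finset.card_univ] at hcard
    exact lt_irrefl _ hcard
  rw [Finset.mem_insert, Finset.mem_singleton, not_or] at hi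
  refine ⟨Sum.inl i, ?_⟩
  have h1 := h66_ne_of_idx (a := a) (e := Sum.inl i) hi.1
  have h2 := h66_ne_of_idx (a := c) (e := Sum.inl i) hi.2
  exact ⟨h1.1, h1.2, h2.1, h2.2⟩

theorem dSt_of_dStAB [Fintype ι] (h : DStAB X) (h3 : 3 ≤ Fintype.card ι) : DSt X where
  toDStAB := h
  rank1 a c h1 h2 := by
    obtain ⟨e, he1, he2, he3, he4⟩ := h66_exists_third h3 a c
    exact rank1_of_third h a c e h1 h2 he1 he2 he3 he4

theorem wCalcD_of_dSt [Finite K] (h : DSt X) : WCalcD X := by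
  have P : WCJPartsD X := wcjPartsD_of_dStAB h.toDStAB
  have hW : ∀ a c : ι ⊕ ι, c ≠ a → c ≠ ng a → ∀ s : K, s ≠ 0 → ∀ (d e : ι ⊕ ι) (u : K),
      WD X a c s * X d e u * (WD X a c s)⁻¹ =
        X (sgD a c d) (sgD a c e) (muD a c s d * muD a c s e * u) :=
    fun a c h1 h2 s hs d e u => wd_conj_all h P a c h1 h2 s hs d e u
  have hH : ∀ a c : ι ⊕ ι, c ≠ a → c ≠ ng a → ∀ s : K, s ≠ 0 → ∀ (d e : ι ⊕ ι) (u : K),
      HD X a c s * X d e u * (HD X a c s)⁻¹ = X d e (chD a c s d * chD a c s e * u) :=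
    fun a c h1 h2 s hs d e u => hd_conj_all h hW a c h1 h2 s hs d e u
  have hwh : ∀ a c : ι ⊕ ι, c ≠ a → c ≠ ng a → ∀ s : K, s ≠ 0 → ∀ (d e : ι ⊕ ι), e ≠ d → e ≠ ng d →
      ∀ u : K, u ≠ 0 →
        WD X a c s * HD X d e u * (WD X a c s)⁻¹ = HD X (sgD a c d) (sgD a c e) u :=
    fun a c h1 h2 s hs d e h3 h4 u hu => wh_conj_all h hW a c h1 h2 s hs d e h3 h4 u hu
  have hhw : ∀ a c : ι ⊕ ι, c ≠ a → c ≠ ng a → ∀ s : K, s ≠ 0 → ∀ (d e : ι ⊕ ι), e ≠ d → e ≠ ng d →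
      ∀ u : K, u ≠ 0 →
        HD X a c s * WD X d e u * (HD X a c s)⁻¹ = WD X d e (chD a c s d * chD a c s e * u) :=
    fun a c h1 h2 s hs d e h3 h4 u hu => hw_conj_all h hH a c h1 h2 s hs d e h3 h4 u hu
  exact
  { wd_conj := hW
    hd_conj := hH
    wd_inv := fun a c h1 h2 s => h.wd_inv a c h1 h2 s
    wd_mul_inv := fun a c h1 h2 s t hs ht => h.wd_mul_inv a c h1 h2 s t hs ht
    wd_mul_hd := fun a c h1 h2 s t hs ht => h.wd_mul_hd a c h1 h2 s t hs ht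
    hd_mul_wd := fun a c h1 h2 s t hs ht => h.hd_mul_wd a c h1 h2 s t hs ht
    hd_mul := fun a c h1 h2 s t hs ht => h.hd_mul a c h1 h2 s t hs ht
    wd_ng := fun a c h1 h2 s hs => h.wd_ng a c h1 h2 s hs
    wd_anti := fun a c _ _ s _ => h.wd_anti a c s
    hd_ng := fun a c h1 h2 s hs => h.hd_ng a c h1 h2 s hs
    hd_symm := fun a c h1 h2 s hs => h.hd_symm a c h1 h2 s hs
    ww_conj := fun a c h1 h2 s hs d e h3 h4 u hu => ww_conj_all h hW a c h1 h2 s hs d e h3 h4 u hu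
    wh_conj := hwh
    hw_conj := hhw
    hh_comm := fun a c h1 h2 s hs d e h3 h4 u hu => hh_comm_all h hH a c h1 h2 s hs d e h3 h4 u hu
    t1 := fun a c e h1 h2 h3 h4 h5 h6 s hs =>
      h58_t1D_core h hwh hhw a c e h1 h2 h3 h4 h5 h6 s hs }

/-- `2 ε_c`, from `t1` -/
theorem t2D (h : DSt X) (C : WCalcD X) (a c e : ι ⊕ ι) (h1 : c ≠ a) (h2 : c ≠ ng a) (h3 : e ≠ a)
    (h4 : e ≠ ng a) (h5 : e ≠ c) (h6 : e ≠ ng c) (s : K) (hs : s ≠ 0) :
    HD X a c s * HD X (ng a) c s = HD X c e s * HD X c (ng e) s := by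
  have hs' : s⁻¹ ≠ 0 := inv_ne_zero hs
  -- the index facts
  have h2' : c ≠ ng (ng a) := by rw [ng_ng]; exact h1
  have h3' : e ≠ ng (ng a) := by rw [ng_ng]; exact h3
  have hne3 : ng e ≠ ng a := fun hh => h3 (ng_injective hh)
  have hne4 : ng e ≠ ng (ng a) := by
    rw [ng_ng]
    exact fun hh => h4 (by rw [← hh, ng_ng])
  have hne5 : ng e ≠ c := fun hh => h6 (by rw [← hh, ng_ng])
  have hne6 : ng e ≠ ng c := fun hh => h5 (ng_injective hh)
  -- the two instances of `t1`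
  have e1 := C.t1 a c e h1 h2 h3 h4 h5 h6 s hs
  have e2 := C.t1 (ng a) c (ng e) h2 h2' hne3 hne4 hne5 hne6 s hs
  rw [ng_ng] at e2
  -- `HD X a (ng e) s = (HD X (ng a) e s)⁻¹`
  have e3 : HD X a (ng e) s = HD X (ng a) e s⁻¹ := by
    have := C.hd_ng (ng a) e h4 h3' s hs
    rw [ng_ng] at this
    exact this
  have e4 : HD X (ng a) e s * HD X (ng a) e s⁻¹ = 1 := by
    rw [C.hd_mul (ng a) e h4 h3' s s⁻¹ hs hs', mul_inv_cancel₀ hs, HD_one]
  have e5 : HD X (ng a) e s * HD X (ng a) c s = HD X (ng a) c s * HD X (ng a) e s :=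
    C.hh_comm (ng a) e h4 h3' s hs (ng a) c h2 h2' s hs
  rw [← e1, ← e2, e3]
  calc HD X a c s * HD X (ng a) c s
      = HD X a c s * (HD X (ng a) c s * (HD X (ng a) e s * HD X (ng a) e s⁻¹)) := by
        rw [e4, mul_one]
    _ = HD X a c s * ((HD X (ng a) c s * HD X (ng a) e s) * HD X (ng a) e s⁻¹) := by
        rw [mul_assoc (HD X (ng a) c s)]
    _ = HD X a c s * ((HD X (ng a) e s * HD X (ng a) c s) * HD X (ng a) e s⁻¹) := by rw [e5]
    _ = HD X a c s * HD X (ng a) e s * (HD X (ng a) c s * HD X (ng a) e s⁻¹) := by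
        simp only [mul_assoc]

end Cfsg.Agent.Lib.Helper66_S96
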