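import Mathlib
import Cfsg.Prelude.Def_KGroupFacts
import Cfsg.Agent.Lib.Helper66_S96Asm
import Cfsg.Agent.Lib.Helper39_S96_TRANSFER
import Cfsg.Agent.Lib.Helper39_S96_PERF
import Cfsg.Agent.Lib.Helper35_SteinSchur

set_option autoImplicit false
set_option linter.unusedVariables false
set_option linter.unusedSectionVars false

/-!
Package `D_UCE` of helper66's market for S2096 / S2097 (helper17): a group with a `DSt` family,
acting as in the model, is the universal central extension of its image modulo `±1`.  Here with the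
presentation theorem `ker_cases_of_dSt` (package `D_MAIN`) as a hypothesis `hK`; the verbatim
statement is in `Helper17_S96_UCE`.
-/

namespace Cfsg.Agent.Lib.Helper66_S96

open Cfsg.Agent.Lib.Helper5_SteinbergA Cfsg.Agent.Lib.Helper66_S92 Cfsg.Agent.Lib.Helper81_UceA

universe u v

section aux

variable {ι : Type*} [DecidableEq ι] {K : Type*} [Field K] {G : Type*} [Group G]

/-- if all commutators `g x g⁻¹ x⁻¹` are central and the group is perfect then `g` is central -/
theorem h17_central_of_comm_central (hperf : commutator G = ⊤) (g : G)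
    (hc : ∀ x : G, g * x * g⁻¹ * x⁻¹ ∈ Subgroup.center G) : g ∈ Subgroup.center G := by
  let f : G →* G :=
    { toFun := fun x => g * x * g⁻¹ * x⁻¹
      map_one' := by
        show g * 1 * g⁻¹ * 1⁻¹ = 1
        group
      map_mul' := by
        intro x y
        show g * (x * y) * g⁻¹ * (x * y)⁻¹ = (g * x * g⁻¹ * x⁻¹) * (g * y * g⁻¹ * y⁻¹)
        have hy := hc y
        rw [Subgroup.mem_center_iff] at hy
        calc g * (x * y) * g⁻¹ * (x * y)⁻¹
            = g * x * g⁻¹ * ((g * y * g⁻¹ * y⁻¹) * x⁻¹) := by group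
          _ = g * x * g⁻¹ * (x⁻¹ * (g * y * g⁻¹ * y⁻¹)) := by rw [hy x⁻¹]
          _ = (g * x * g⁻¹ * x⁻¹) * (g * y * g⁻¹ * y⁻¹) := by group }
  have hf : ∀ x, f x = g * x * g⁻¹ * x⁻¹ := fun x => rfl
  have hker : commutator G ≤ f.ker := by
    rw [commutator_eq_closure, Subgroup.closure_le]
    rintro x ⟨p, q, rfl⟩
    rw [SetLike.mem_coe, MonoidHom.mem_ker, commutatorElement_def, map_mul, map_mul, map_mul,
      map_inv, map_inv]
    have hp : f p ∈ Subgroup.center G := hc p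
    rw [Subgroup.mem_center_iff] at hp
    rw [← hp (f q), mul_inv_cancel_right, mul_inv_cancel]
  rw [hperf] at hker
  rw [Subgroup.mem_center_iff]
  intro x
  have hx : f x = 1 := MonoidHom.mem_ker.mp (hker (Subgroup.mem_top x))
  rw [hf] at hx
  calc x * g = (g * x * g⁻¹ * x⁻¹)⁻¹ * (g * x) := by group
    _ = g * x := by rw [hx, inv_one, one_mul]

end aux

/-- the elements acting as `±1` have commutators acting trivially -/
theorem h17_act_comm {K : Type*} [Field K] {ι : Type*} {Gh : Type*} [Group Gh]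
    (ρ : Gh →* Module.End K (ι ⊕ ι → K)) (g : Gh) (hg : ρ g = 1 ∨ ρ g = -1) (x : Gh) :
    ρ (g * x * g⁻¹ * x⁻¹) = 1 := by
  have e1 : ρ g * ρ g⁻¹ = 1 := by rw [← map_mul, mul_inv_cancel, map_one]
  have e2 : ρ x * ρ x⁻¹ = 1 := by rw [← map_mul, mul_inv_cancel, map_one]
  have n1 : ∀ a : Module.End K (ι ⊕ ι → K), (-1) * a = -a := fun a => neg_one_mul a
  have n2 : ∀ a : Module.End K (ι ⊕ ι → K), a * (-1) = -a := fun a => mul_neg_one a
  have n4 : ∀ a : Module.End K (ι ⊕ ι → K), - -a = a := fun a => neg_neg a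
  have n5 : ∀ a b : Module.End K (ι ⊕ ι → K), -a = b ↔ a = -b := fun a b => neg_eq_iff_eq_neg
  rw [map_mul, map_mul, map_mul]
  rcases hg with hg | hg
  · rw [hg, one_mul] at e1
    rw [hg, e1, one_mul, mul_one, e2]
  · rw [hg, n1, n5] at e1
    rw [hg, e1, n1, n2, n4, e2]

/-- the inverse of an element acting as `-1` acts as `-1` -/
theorem h17_act_inv_neg {K : Type*} [Field K] {ι : Type*} {Gh : Type*} [Group Gh]
    (ρ : Gh →* Module.End K (ι ⊕ ι → K)) (g : Gh) (hg : ρ g = -1) : ρ g⁻¹ = -1 := by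
  have e1 : ρ g * ρ g⁻¹ = 1 := by rw [← map_mul, mul_inv_cancel, map_one]
  have n1 : ∀ a : Module.End K (ι ⊕ ι → K), (-1) * a = -a := fun a => neg_one_mul a
  have n5 : ∀ a b : Module.End K (ι ⊕ ι → K), -a = b ↔ a = -b := fun a b => neg_eq_iff_eq_neg
  rw [hg, n1, n5] at e1
  exact e1

theorem h17_hasSchurMultiplier_of_dSt_aux {K : Type*} [Field K] [Finite K] {ι : Type*} [Fintype ι]
    [DecidableEq ι] (h3 : 3 ≤ Fintype.card ι)
    (hK : ∀ {H : Type u} [Group H] {P : ι ⊕ ι → ι ⊕ ι → K → H}, DSt P →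
      Subgroup.closure {g | ∃ a c t, g = P a c t} = ⊤ →
      ∀ (ρ' : H →* Module.End K (ι ⊕ ι → K)), IsActD P ρ' → ∀ g, ρ' g = 1 →
        g = 1 ∨ ∃ a c, c ≠ a ∧ c ≠ ng a ∧ g = zD P a c)
    {Gh : Type u} [Group Gh]
    {Y : ι ⊕ ι → ι ⊕ ι → K → Gh} (hY : DSt Y)
    (hgen : Subgroup.closure {g | ∃ a c t, g = Y a c t} = ⊤)
    (ρ : Gh →* Module.End K (ι ⊕ ι → K)) (hρ : IsActD Y ρ)
    (hz : (-1 : K) = 1 ∨ ∀ a c, c ≠ a → c ≠ ng a → zD Y a c ≠ 1)
    {G : Type u} [Group G] [Finite G] (θ : Gh →* G) (hθ : Function.Surjective θ)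
    (hker : ∀ g, θ g = 1 ↔ (ρ g = 1 ∨ ρ g = -1))
    (hlift : ∀ {Γ : Type u} [Group Γ] (σ : Γ →* G), CExt σ →
      ∃ Z : ι ⊕ ι → ι ⊕ ι → K → Γ, (∀ a c t, σ (Z a c t) = θ (Y a c t)) ∧ DStAB Z)
    {A : Type v} [CommGroup A] (e : A ≃* θ.ker) : Cfsg.HasSchurMultiplier G A := by
  have C : WCalcD Y := wCalcD_of_dSt hY
  have h2 : 2 ≤ Fintype.card ι := by omega
  have hkρ : ∀ g, ρ g = 1 → g = 1 ∨ ∃ a c, c ≠ a ∧ c ≠ ng a ∧ g = zD Y a c :=
    hK hY hgen ρ hρ
  have hkρc : ∀ g, ρ g = 1 → g ∈ Subgroup.center Gh := by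
    intro g hg
    rcases hkρ g hg with rfl | ⟨a, c, h1, h2, rfl⟩
    · exact one_mem _
    · exact zD_mem_center hY C hgen a c h1 h2
  have hperf : commutator Gh = ⊤ := commutator_eq_top_of_dStAB h3 hY.toDStAB hgen
  have hcen : θ.ker ≤ Subgroup.center Gh := by
    intro g hg
    have hg' := (hker g).mp (MonoidHom.mem_ker.mp hg)
    exact h17_central_of_comm_central hperf g (fun x => hkρc _ (h17_act_comm ρ g hg' x))
  -- finiteness
  have hS : {g : Gh | ρ g = 1}.Finite := by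
    have hfin : ({1} ∪ Set.range (fun p : (ι ⊕ ι) × (ι ⊕ ι) => zD Y p.1 p.2) : Set Gh).Finite :=
      (Set.finite_singleton 1).union (Set.finite_range _)
    refine hfin.subset ?_
    intro g hg
    rcases hkρ g hg with rfl | ⟨a, c, -, -, rfl⟩
    · exact Or.inl rfl
    · exact Or.inr ⟨(a, c), rfl⟩
  have hS' : {g : Gh | ρ g = -1}.Finite := by
    by_cases hne : ∃ g0, ρ g0 = -1
    · obtain ⟨g0, hg0⟩ := hne
      refine (hS.image (fun g => g * g0)).subset ?_
      intro g hg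
      refine ⟨g * g0⁻¹, ?_, by simp⟩
      have e1 := h17_act_inv_neg ρ g0 hg0
      have n1 : ∀ a : Module.End K (ι ⊕ ι → K), (-1) * a = -a := fun a => neg_one_mul a
      have n4 : ∀ a : Module.End K (ι ⊕ ι → K), - -a = a := fun a => neg_neg a
      show ρ (g * g0⁻¹) = 1
      rw [map_mul, e1, (hg : ρ g = -1), n1, n4]
    · push Not at hne
      convert Set.finite_empty
      ext g
      simp [hne g]
  have hkfin : (θ.ker : Set Gh).Finite := by
    refine (hS.union hS').subset ?_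
    intro g hg
    exact (hker g).mp (MonoidHom.mem_ker.mp hg)
  have : Finite θ.ker := hkfin.to_subtype
  have : Finite Gh := Cfsg.Agent.Lib.Helper35_SteinSchur.finite_of_surjective_of_finite_ker θ hθ
  refine Cfsg.Agent.Lib.Helper35_SteinSchur.hasSchurMultiplier_of_uce θ hθ hcen hperf ?_ e
  intro Γ _ σ hs hc
  obtain ⟨Z, hZσ, hZ⟩ := hlift σ ⟨hs, hc⟩
  set P0 : ι ⊕ ι → ι ⊕ ι → K → Γ × Gh := fun a c t => (Z a c t, Y a c t) with hP0def
  set H : Subgroup (Γ × Gh) := Subgroup.closure {g | ∃ a c t, g = P0 a c t} with hH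
  set P : ι ⊕ ι → ι ⊕ ι → K → H := fun a c t => ⟨P0 a c t, Subgroup.subset_closure ⟨a, c, t, rfl⟩⟩
    with hPdef
  have hP0 : DStAB P0 := dStAB_prod hZ hY.toDStAB
  have hPAB : DStAB P := dStAB_of_map_injective H.subtype Subtype.val_injective hP0
  have hP : DSt P := dSt_of_dStAB hPAB h3
  have hPgen : Subgroup.closure {g | ∃ a c t, g = P a c t} = ⊤ :=
    closure_subtype_top P0 P (fun a c t => rfl)
  set sndH : H →* Gh := (MonoidHom.snd Γ Gh).comp H.subtype with hsnd
  set fstH : H →* Γ := (MonoidHom.fst Γ Gh).comp H.subtype with hfst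
  set ρH : H →* Module.End K (ι ⊕ ι → K) := ρ.comp sndH with hρH
  have hactH : IsActD P ρH := fun a c t v => hρ a c t v
  have hsurj : Function.Surjective sndH := by
    rw [← MonoidHom.range_eq_top, eq_top_iff, ← hgen, Subgroup.closure_le]
    rintro _ ⟨a, c, t, rfl⟩
    exact ⟨P a c t, rfl⟩
  have hinj : Function.Injective sndH := by
    rw [injective_iff_map_eq_one]
    intro x hx
    have hx1 : ρH x = 1 := by
      show ρ (sndH x) = 1
      rw [hx, map_one]
    rcases hK hP hPgen ρH hactH x hx1 with rfl | ⟨a, c, h1, h2', rfl⟩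
    · rfl
    · rcases hz with hz | hz
      · exact zD_eq_one_of_neg_one_eq P hz a c
      · exfalso
        apply hz a c h1 h2'
        rw [map_zD] at hx
        exact hx
  set E : H ≃* Gh := MulEquiv.ofBijective sndH ⟨hinj, hsurj⟩ with hE
  refine ⟨fstH.comp E.symm.toMonoidHom, ?_⟩
  have hagree : σ.comp fstH = θ.comp sndH := by
    apply MonoidHom.eq_of_eqOn_dense hPgen
    rintro _ ⟨a, c, t, rfl⟩
    exact hZσ a c t
  ext x
  have e1 : σ (fstH (E.symm x)) = θ (sndH (E.symm x)) := DFunLike.congr_fun hagree (E.symm x)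
  have e2 : sndH (E.symm x) = x := E.apply_symm_apply x
  rw [e2] at e1
  exact e1

end Cfsg.Agent.Lib.Helper66_S96
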