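import Mathlib
import Cfsg.Agent.Lib.Helper66_S96Rank
import Cfsg.Agent.Lib.Helper81_UceA

set_option autoImplicit false
set_option linter.unusedVariables false
set_option linter.unusedSectionVars false

/-!
# S2096 / S2097 (architect helper66): package D_RESTRICT (helper41)

The Levi factor `Ls X (inl o0)` carries a `DSt` family on the indices `≠ o0`, acting on
`K^(κ ⊕ κ)`, `κ = {i // i ≠ o0}`, by restriction of the action on `K^(ι ⊕ ι)`.
-/

namespace Cfsg.Agent.Lib.Helper66_S96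

open Cfsg.Agent.Lib.Helper5_SteinbergA Cfsg.Agent.Lib.Helper66_S92 Cfsg.Agent.Lib.Helper81_UceA

variable {ι : Type*} [DecidableEq ι] {K : Type*} [Field K] {G : Type*} [Group G]
  {X : ι ⊕ ι → ι ⊕ ι → K → G}

/-! ### pulling back a family along an injective map of indices -/

omit [DecidableEq ι] in
theorem h41_smap_ng {κ : Type*} (f : κ → ι) (a : κ ⊕ κ) :
    Sum.map f f (ng a) = ng (Sum.map f f a) := by
  cases a <;> rfl

omit [DecidableEq ι] in
theorem h41_smap_inj {κ : Type*} (f : κ → ι) (hf : Function.Injective f) :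
    Function.Injective (Sum.map f f) := Sum.map_injective.mpr ⟨hf, hf⟩

omit [DecidableEq ι] in
theorem h41_DSt_comap {κ : Type*} (h : DSt X) (f : κ → ι) (hf : Function.Injective f) :
    DSt (fun (a c : κ ⊕ κ) (t : K) => X (Sum.map f f a) (Sum.map f f c) t) := by
  have hF := h41_smap_inj f hf
  have hne : ∀ a c : κ ⊕ κ, a ≠ c → Sum.map f f a ≠ Sum.map f f c :=
    fun a c h1 h2 => h1 (hF h2)
  have hne' : ∀ a c : κ ⊕ κ, a ≠ ng c → Sum.map f f a ≠ ng (Sum.map f f c) :=
    fun a c h1 h2 => h1 (hF (by rw [h2, h41_smap_ng]))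
  refine { anti := ?_, opp := ?_, diag := ?_, add := ?_, comm := ?_, comm2 := ?_, a2 := ?_,
           rank1 := ?_ }
  · intro a c t
    exact h.anti _ _ _
  · intro a t
    show X (Sum.map f f a) (Sum.map f f (ng a)) t = 1
    rw [h41_smap_ng]
    exact h.opp _ _
  · intro a t
    exact h.diag _ _
  · intro a c t u
    exact h.add _ _ _ _
  · intro a c d e t u h1 h2 h3 h4
    exact h.comm _ _ _ _ _ _ (hne' _ _ h1) (hne' _ _ h2) (hne' _ _ h3) (hne' _ _ h4)
  · intro a c t u
    show X _ _ t * X (Sum.map f f (ng a)) _ u = X (Sum.map f f (ng a)) _ u * X _ _ t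
    rw [h41_smap_ng]
    exact h.comm2 _ _ _ _
  · intro a c e t u h1 h2 h3 h4 h5 h6
    show X _ _ t * X (Sum.map f f (ng c)) _ u * (X _ _ t)⁻¹ * (X (Sum.map f f (ng c)) _ u)⁻¹ = _
    rw [h41_smap_ng]
    exact h.a2 _ _ _ _ _ (hne _ _ h1) (hne' _ _ h2) (hne _ _ h3) (hne' _ _ h4) (hne _ _ h5)
      (hne' _ _ h6)
  · intro a c h1 h2
    have h3 := h.rank1 (Sum.map f f a) (Sum.map f f c) (hne _ _ h1) (hne' _ _ h2)
    have e : pairD (fun (a c : κ ⊕ κ) (t : K) => X (Sum.map f f a) (Sum.map f f c) t) a c =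
        pairD X (Sum.map f f a) (Sum.map f f c) := by
      funext b t
      cases b
      · show X (Sum.map f f (ng a)) (Sum.map f f (ng c)) (-t) = X (ng _) (ng _) (-t)
        rw [h41_smap_ng, h41_smap_ng]
      · rfl
    rw [e]
    exact h3

/-- a family which maps to a `DSt` family under an injective homomorphism is a `DSt` family -/
theorem h41_DSt_of_injective {H : Type*} [Group H] (φ : H →* G) (hφ : Function.Injective φ)
    {κ : Type*} {Y : κ ⊕ κ → κ ⊕ κ → K → G} {X' : κ ⊕ κ → κ ⊕ κ → K → H}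
    (hX' : ∀ a c t, φ (X' a c t) = Y a c t) (h : DSt Y) : DSt X' := by
  refine { anti := ?_, opp := ?_, diag := ?_, add := ?_, comm := ?_, comm2 := ?_, a2 := ?_,
           rank1 := ?_ }
  · intro a c t
    apply hφ
    rw [hX', hX']
    exact h.anti a c t
  · intro a t
    apply hφ
    rw [hX', map_one]
    exact h.opp a t
  · intro a t
    apply hφ
    rw [hX', map_one]
    exact h.diag a t
  · intro a c t u
    apply hφ
    rw [map_mul, hX', hX', hX']
    exact h.add a c t u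
  · intro a c d e t u h1 h2 h3 h4
    apply hφ
    rw [map_mul, map_mul, hX', hX']
    exact h.comm a c d e t u h1 h2 h3 h4
  · intro a c t u
    apply hφ
    rw [map_mul, map_mul, hX', hX']
    exact h.comm2 a c t u
  · intro a c e t u h1 h2 h3 h4 h5 h6
    apply hφ
    rw [map_mul, map_mul, map_mul, map_inv, map_inv, hX', hX', hX']
    exact h.a2 a c e t u h1 h2 h3 h4 h5 h6
  · intro a c h1 h2
    have h3 := h.rank1 a c h1 h2
    have e : ∀ b t, φ (pairD X' a c b t) = pairD Y a c b t := by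
      intro b t
      cases b
      · exact hX' _ _ _
      · exact hX' _ _ _
    exact
      { add := fun b t u => hφ (by rw [map_mul, e, e, e]; exact h3.add b t u)
        conj := fun b t u ht => hφ (by
          simp only [map_mul, map_inv, e]
          exact h3.conj b t u ht) }

/-! ## D_RESTRICT : the Levi factor `Ls X (inl o0)` carries a `DSt` family on `{i // i ≠ o0}` -/

theorem exists_restrict [Fintype ι] (h : DSt X) (ρ : G →* Module.End K (ι ⊕ ι → K))
    (hρ : IsActD X ρ) (o0 : ι) :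
    ∃ (X' : {i : ι // i ≠ o0} ⊕ {i : ι // i ≠ o0} → {i : ι // i ≠ o0} ⊕ {i : ι // i ≠ o0} → K →
        ↥(Ls X (Sum.inl o0)))
      (ρ' : ↥(Ls X (Sum.inl o0)) →* Module.End K ({i : ι // i ≠ o0} ⊕ {i : ι // i ≠ o0} → K)),
      DSt X' ∧ Subgroup.closure {g | ∃ a c t, g = X' a c t} = ⊤ ∧ IsActD X' ρ' ∧
      (∀ a c t, ((X' a c t : ↥(Ls X (Sum.inl o0))) : G) =
        X (Sum.map Subtype.val Subtype.val a) (Sum.map Subtype.val Subtype.val c) t) ∧
      ∀ l : ↥(Ls X (Sum.inl o0)), ρ (l : G) = 1 → ρ' l = 1 := by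
  have hA := h.toDStAB
  -- the index map
  have hFinj : Function.Injective
      (Sum.map Subtype.val Subtype.val : {i : ι // i ≠ o0} ⊕ {i : ι // i ≠ o0} → ι ⊕ ι) :=
    h41_smap_inj _ Subtype.val_injective
  have hFng : ∀ a : {i : ι // i ≠ o0} ⊕ {i : ι // i ≠ o0},
      Sum.map Subtype.val Subtype.val (ng a) = ng (Sum.map Subtype.val Subtype.val a : ι ⊕ ι) :=
    h41_smap_ng _
  have hFo : ∀ a : {i : ι // i ≠ o0} ⊕ {i : ι // i ≠ o0},
      (Sum.map Subtype.val Subtype.val a : ι ⊕ ι) ≠ Sum.inl o0 ∧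
      (Sum.map Subtype.val Subtype.val a : ι ⊕ ι) ≠ ng (Sum.inl o0) := by
    rintro (⟨i, hi⟩ | ⟨i, hi⟩)
    · refine ⟨fun h1 => hi (Sum.inl_injective h1), fun h1 => ?_⟩
      exact Sum.inl_ne_inr h1
    · refine ⟨fun h1 => Sum.inr_ne_inl h1, fun h1 => hi ?_⟩
      exact Sum.inr_injective h1
  have hrange : ∀ x : ι ⊕ ι, x ≠ Sum.inl o0 → x ≠ ng (Sum.inl o0) →
      ∃ a : {i : ι // i ≠ o0} ⊕ {i : ι // i ≠ o0}, Sum.map Subtype.val Subtype.val a = x := by
    rintro (i | i) h1 h2
    · exact ⟨Sum.inl ⟨i, fun h3 => h1 (by rw [h3])⟩, rfl⟩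
    · exact ⟨Sum.inr ⟨i, fun h3 => h2 (by rw [h3]; rfl)⟩, rfl⟩
  have hmem : ∀ (a c : {i : ι // i ≠ o0} ⊕ {i : ι // i ≠ o0}) (t : K),
      X (Sum.map Subtype.val Subtype.val a) (Sum.map Subtype.val Subtype.val c) t ∈
        Ls X (Sum.inl o0) :=
    fun a c t => X_mem_Ls _ _ _ t (hFo a).1 (hFo a).2 (hFo c).1 (hFo c).2
  -- extension by zero and restriction
  have ext_F : ∀ (v : {i : ι // i ≠ o0} ⊕ {i : ι // i ≠ o0} → K) a,
      Function.ExtendByZero.linearMap K
        (Sum.map Subtype.val Subtype.val : {i : ι // i ≠ o0} ⊕ {i : ι // i ≠ o0} → ι ⊕ ι) v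
        (Sum.map Subtype.val Subtype.val a) = v a := by
    intro v a
    rw [Function.ExtendByZero.linearMap_apply]
    exact hFinj.extend_apply v 0 a
  have ext_o : ∀ (v : {i : ι // i ≠ o0} ⊕ {i : ι // i ≠ o0} → K),
      Function.ExtendByZero.linearMap K
        (Sum.map Subtype.val Subtype.val : {i : ι // i ≠ o0} ⊕ {i : ι // i ≠ o0} → ι ⊕ ι) v
        (Sum.inl o0) = 0 ∧
      Function.ExtendByZero.linearMap K
        (Sum.map Subtype.val Subtype.val : {i : ι // i ≠ o0} ⊕ {i : ι // i ≠ o0} → ι ⊕ ι) v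
        (ng (Sum.inl o0)) = 0 := by
    intro v
    rw [Function.ExtendByZero.linearMap_apply]
    constructor
    · exact Function.extend_apply' _ _ _ (by rintro ⟨a, ha⟩; exact (hFo a).1 ha)
    · exact Function.extend_apply' _ _ _ (by rintro ⟨a, ha⟩; exact (hFo a).2 ha)
  have ext_res : ∀ w : ι ⊕ ι → K, w (Sum.inl o0) = 0 → w (ng (Sum.inl o0)) = 0 →
      Function.ExtendByZero.linearMap K
        (Sum.map Subtype.val Subtype.val : {i : ι // i ≠ o0} ⊕ {i : ι // i ≠ o0} → ι ⊕ ι)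
        (LinearMap.funLeft K K (Sum.map Subtype.val Subtype.val) w) = w := by
    intro w h1 h2
    funext x
    by_cases hx1 : x = Sum.inl o0
    · rw [hx1, (ext_o _).1, h1]
    by_cases hx2 : x = ng (Sum.inl o0)
    · rw [hx2, (ext_o _).2, h2]
    obtain ⟨a, rfl⟩ := hrange x hx1 hx2
    rw [ext_F]
    rfl
  -- invariance of the subspace
  have hinv : ∀ g ∈ Ls X (Sum.inl o0), ∀ w : ι ⊕ ι → K, w (Sum.inl o0) = 0 →
      w (ng (Sum.inl o0)) = 0 → (ρ g w) (Sum.inl o0) = 0 ∧ (ρ g w) (ng (Sum.inl o0)) = 0 := by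
    have hgen : ∀ (a c : ι ⊕ ι) (t : K), a ≠ Sum.inl o0 → a ≠ ng (Sum.inl o0) → c ≠ Sum.inl o0 →
        c ≠ ng (Sum.inl o0) → ∀ w : ι ⊕ ι → K, w (Sum.inl o0) = 0 → w (ng (Sum.inl o0)) = 0 →
        (ρ (X a c t) w) (Sum.inl o0) = 0 ∧ (ρ (X a c t) w) (ng (Sum.inl o0)) = 0 := by
      intro a c t ha1 ha2 hc1 hc2 w h1 h2
      rw [hρ a c t w]
      unfold xactD
      split_ifs with hc
      · exact ⟨h1, h2⟩
      · simp only [Pi.add_apply, Pi.sub_apply]
        rw [Pi.single_eq_of_ne (Ne.symm ha1), Pi.single_eq_of_ne (Ne.symm hc1),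
          Pi.single_eq_of_ne (Ne.symm ha2), Pi.single_eq_of_ne (Ne.symm hc2), h1, h2]
        simp
    intro g hg
    unfold Ls at hg
    induction hg using Subgroup.closure_induction'' with
    | mem x hx =>
      obtain ⟨a, c, t, ha1, ha2, hc1, hc2, rfl⟩ := hx
      exact hgen a c t ha1 ha2 hc1 hc2
    | inv_mem x hx =>
      obtain ⟨a, c, t, ha1, ha2, hc1, hc2, rfl⟩ := hx
      rw [hA.X_inv]
      exact hgen a c (-t) ha1 ha2 hc1 hc2
    | one =>
      intro w h1 h2
      rw [map_one]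
      exact ⟨h1, h2⟩
    | mul x y _ _ ihx ihy =>
      intro w h1 h2
      rw [map_mul, Module.End.mul_apply]
      exact ihx _ (ihy w h1 h2).1 (ihy w h1 h2).2
  -- the restricted action
  let ρ' : ↥(Ls X (Sum.inl o0)) →* Module.End K ({i : ι // i ≠ o0} ⊕ {i : ι // i ≠ o0} → K) :=
    { toFun := fun l => (LinearMap.funLeft K K (Sum.map Subtype.val Subtype.val)).comp
        ((ρ (l : G)).comp (Function.ExtendByZero.linearMap K (Sum.map Subtype.val Subtype.val)))
      map_one' := by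
        apply LinearMap.ext
        intro v
        funext a
        show (ρ ((1 : ↥(Ls X (Sum.inl o0))) : G)
          (Function.ExtendByZero.linearMap K (Sum.map Subtype.val Subtype.val) v))
            (Sum.map Subtype.val Subtype.val a) = v a
        rw [Subgroup.coe_one, map_one, Module.End.one_apply, ext_F]
      map_mul' := by
        intro l l'
        apply LinearMap.ext
        intro v
        show LinearMap.funLeft K K (Sum.map Subtype.val Subtype.val)
            (ρ ((l * l' : ↥(Ls X (Sum.inl o0))) : G)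
              (Function.ExtendByZero.linearMap K (Sum.map Subtype.val Subtype.val) v)) =
          LinearMap.funLeft K K (Sum.map Subtype.val Subtype.val)
            (ρ (l : G) (Function.ExtendByZero.linearMap K (Sum.map Subtype.val Subtype.val)
              (LinearMap.funLeft K K (Sum.map Subtype.val Subtype.val)
                (ρ (l' : G)
                  (Function.ExtendByZero.linearMap K (Sum.map Subtype.val Subtype.val) v)))))
        have h3 := hinv (l' : G) l'.2 _ (ext_o v).1 (ext_o v).2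
        rw [ext_res _ h3.1 h3.2, Subgroup.coe_mul, map_mul, Module.End.mul_apply] }
  have hρ'_apply : ∀ (l : ↥(Ls X (Sum.inl o0))) (v : {i : ι // i ≠ o0} ⊕ {i : ι // i ≠ o0} → K)
      (x : {i : ι // i ≠ o0} ⊕ {i : ι // i ≠ o0}), ρ' l v x =
        (ρ (l : G) (Function.ExtendByZero.linearMap K (Sum.map Subtype.val Subtype.val) v))
          (Sum.map Subtype.val Subtype.val x) := fun l v x => rfl
  refine ⟨fun a c t => ⟨X (Sum.map Subtype.val Subtype.val a) (Sum.map Subtype.val Subtype.val c) t,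
    hmem a c t⟩, ρ', ?_, ?_, ?_, ?_, ?_⟩
  · -- `DSt`
    exact h41_DSt_of_injective (Ls X (Sum.inl o0)).subtype Subtype.val_injective
      (fun a c t => rfl) (h41_DSt_comap h Subtype.val Subtype.val_injective)
  · -- generation
    have h4 := Subgroup.closure_closure_coe_preimage
      (k := {g : G | ∃ a c t, a ≠ Sum.inl o0 ∧ a ≠ ng (Sum.inl o0) ∧ c ≠ Sum.inl o0 ∧
        c ≠ ng (Sum.inl o0) ∧ g = X a c t})
    have h5 : {g : ↥(Ls X (Sum.inl o0)) | ∃ (a c : {i : ι // i ≠ o0} ⊕ {i : ι // i ≠ o0}) (t : K),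
        g = ⟨X (Sum.map Subtype.val Subtype.val a) (Sum.map Subtype.val Subtype.val c) t,
          hmem a c t⟩} =
        ((↑) : ↥(Ls X (Sum.inl o0)) → G) ⁻¹' {g : G | ∃ a c t, a ≠ Sum.inl o0 ∧
          a ≠ ng (Sum.inl o0) ∧ c ≠ Sum.inl o0 ∧ c ≠ ng (Sum.inl o0) ∧ g = X a c t} := by
      ext g
      constructor
      · rintro ⟨a, c, t, rfl⟩
        exact ⟨_, _, t, (hFo a).1, (hFo a).2, (hFo c).1, (hFo c).2, rfl⟩
      · rintro ⟨a, c, t, ha1, ha2, hc1, hc2, e⟩
        obtain ⟨a', rfl⟩ := hrange a ha1 ha2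
        obtain ⟨c', rfl⟩ := hrange c hc1 hc2
        exact ⟨a', c', t, Subtype.ext e⟩
    rw [h5]
    exact h4
  · -- the action
    intro a c t v
    funext x
    rw [hρ'_apply]
    show (ρ (X (Sum.map Subtype.val Subtype.val a) (Sum.map Subtype.val Subtype.val c) t) _) _ = _
    rw [hρ]
    unfold xactD
    by_cases hc : c = ng a
    · rw [if_pos hc, if_pos (by rw [hc, hFng]), ext_F]
    · rw [if_neg hc, if_neg (fun h6 => hc (hFinj (by rw [h6, hFng])))]
      simp only [Pi.add_apply, Pi.sub_apply, Pi.single_apply, hFinj.eq_iff, ← hFng, ext_F]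
  · intro a c t
    rfl
  · intro l hl
    apply LinearMap.ext
    intro v
    funext x
    rw [hρ'_apply, hl, Module.End.one_apply, ext_F]
    rfl

end Cfsg.Agent.Lib.Helper66_S96
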