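import Mathlib
import Cfsg.Agent.Lib.Helper66_S96Calc

set_option autoImplicit false
set_option linter.unusedVariables false
set_option linter.unusedSectionVars false
set_option linter.unusedSimpArgs false

/-!
Package `D_TS` of helper66's market for S2096 / S2097 (helper17): the abstract torus `Ts X`
normalises the root subgroups, `Gs X o`, `Qs X j`; `Ps X o = Gs X o * Ts X`; `Ts X` is commutative
and normalised by the Weyl elements.  Everything from the calculus `WCalcD X`.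
-/

namespace Cfsg.Agent.Lib.Helper66_S96

open Cfsg.Agent.Lib.Helper5_SteinbergA Cfsg.Agent.Lib.Helper66_S92

variable {ι : Type*} [DecidableEq ι] {K : Type*} [Field K] {G : Type*} [Group G]
  {X : ι ⊕ ι → ι ⊕ ι → K → G}

/-! ### the permutation `sgD a c` -/

omit [DecidableEq ι] in
theorem h17_ng_ne_ng {a c : ι ⊕ ι} (h : a ≠ c) : ng a ≠ ng c := fun e => h (ng_injective e)

theorem h17_sgD_ng (a c : ι ⊕ ι) (h1 : c ≠ a) (h2 : c ≠ ng a) (d : ι ⊕ ι) :
    sgD a c (ng d) = ng (sgD a c d) := by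
  have n1 : ng a ≠ a := ng_ne a
  have n2 : ng c ≠ c := ng_ne c
  have n3 : ng c ≠ ng a := h17_ng_ne_ng h1
  have n4 : ng c ≠ a := fun e => h2 (by rw [← e, ng_ng])
  by_cases ha : d = a
  · subst ha
    simp [sgD, n1, n3, h2.symm, Ne.symm n3]
  by_cases hc' : d = ng c
  · subst hc'
    simp [sgD, n4, h1, n2, Ne.symm n2]
  by_cases hc : d = c
  · subst hc
    simp [sgD, n4, h1, n2, Ne.symm n2, h2, n3]
  by_cases ha' : d = ng a
  · subst ha'
    simp [sgD, n1, Ne.symm n1, n3, Ne.symm n3, h2.symm, h1.symm]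
  have m1 : ng d ≠ a := fun e => ha' (by rw [← e, ng_ng])
  have m2 : ng d ≠ ng c := fun e => hc (ng_injective e)
  have m3 : ng d ≠ c := fun e => hc' (by rw [← e, ng_ng])
  have m4 : ng d ≠ ng a := fun e => ha (ng_injective e)
  simp [sgD, ha, hc', hc, ha', m1, m2, m3, m4]

theorem h17_sgD_sgD (a c : ι ⊕ ι) (h1 : c ≠ a) (h2 : c ≠ ng a) (d : ι ⊕ ι) :
    sgD a c (sgD a c d) = d := by
  have n1 : ng a ≠ a := ng_ne a
  have n2 : ng c ≠ c := ng_ne c
  have n3 : ng c ≠ ng a := h17_ng_ne_ng h1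
  have n4 : ng c ≠ a := fun e => h2 (by rw [← e, ng_ng])
  by_cases ha : d = a
  · subst ha
    simp [sgD, n4]
  by_cases hc' : d = ng c
  · subst hc'
    simp [sgD, n4]
  by_cases hc : d = c
  · subst hc
    simp [sgD, h1, n2, Ne.symm n2, n1, Ne.symm n3, h2.symm]
  by_cases ha' : d = ng a
  · subst ha'
    simp [sgD, n1, Ne.symm n3, h2.symm, h1, n2, Ne.symm n2]
  simp [sgD, ha, hc', hc, ha']

theorem h17_sgD_injective (a c : ι ⊕ ι) (h1 : c ≠ a) (h2 : c ≠ ng a) :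
    Function.Injective (sgD a c) := fun d e hde => by
  rw [← h17_sgD_sgD a c h1 h2 d, ← h17_sgD_sgD a c h1 h2 e, hde]

theorem h17_chD_ne_zero (a c : ι ⊕ ι) (s : K) (hs : s ≠ 0) (d : ι ⊕ ι) :
    chD a c s d ≠ 0 := by
  unfold chD
  split_ifs
  · exact hs
  · exact inv_ne_zero hs
  · exact one_ne_zero

/-! ### `D_TS` -/

theorem Ts_conj (C : WCalcD X) {t : G} (ht : t ∈ Ts X) :
    ∃ χ : ι ⊕ ι → K, (∀ d, χ d ≠ 0) ∧ ∀ a c u, t * X a c u * t⁻¹ = X a c (χ a * χ c * u) := by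
  unfold Ts at ht
  induction ht using Subgroup.closure_induction with
  | mem x hx =>
    obtain ⟨a, c, s, h1, h2, hs, rfl⟩ := hx
    exact ⟨chD a c s, h17_chD_ne_zero a c s hs, fun d e u => C.hd_conj a c h1 h2 s hs d e u⟩
  | one =>
    refine ⟨fun _ => 1, fun _ => one_ne_zero, fun a c u => ?_⟩
    simp
  | mul x y _ _ hx hy =>
    obtain ⟨χ1, h1, e1⟩ := hx
    obtain ⟨χ2, h2, e2⟩ := hy
    refine ⟨fun d => χ1 d * χ2 d, fun d => mul_ne_zero (h1 d) (h2 d), fun a c u => ?_⟩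
    have : x * y * X a c u * (x * y)⁻¹ = x * (y * X a c u * y⁻¹) * x⁻¹ := by group
    rw [this, e2, e1]
    congr 1
    ring
  | inv x _ hx =>
    obtain ⟨χ1, h1, e1⟩ := hx
    refine ⟨fun d => (χ1 d)⁻¹, fun d => inv_ne_zero (h1 d), fun a c u => ?_⟩
    have e := e1 a c ((χ1 a)⁻¹ * (χ1 c)⁻¹ * u)
    have e' : χ1 a * χ1 c * ((χ1 a)⁻¹ * (χ1 c)⁻¹ * u) = u := by
      field_simp [h1 a, h1 c]
    rw [e'] at e
    rw [← e]
    group

/-- conjugation by `t` maps a closure into a subgroup as soon as it does so on generators -/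
theorem h17_conj_closure_le {S : Set G} {H : Subgroup G} (t : G)
    (hS : ∀ x ∈ S, t * x * t⁻¹ ∈ H) {g : G} (hg : g ∈ Subgroup.closure S) : t * g * t⁻¹ ∈ H := by
  induction hg using Subgroup.closure_induction with
  | mem x hx => exact hS x hx
  | one => simp
  | mul x y _ _ hx hy =>
    have : t * (x * y) * t⁻¹ = (t * x * t⁻¹) * (t * y * t⁻¹) := by group
    rw [this]
    exact H.mul_mem hx hy
  | inv x _ hx =>
    have : t * x⁻¹ * t⁻¹ = (t * x * t⁻¹)⁻¹ := by group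
    rw [this]
    exact H.inv_mem hx

theorem Ts_conj_mem_Gs (C : WCalcD X) (o : ι ⊕ ι) {t g : G} (ht : t ∈ Ts X) (hg : g ∈ Gs X o) :
    t * g * t⁻¹ ∈ Gs X o := by
  obtain ⟨χ, -, e⟩ := Ts_conj C ht
  refine h17_conj_closure_le t ?_ hg
  rintro _ ⟨a, c, u, ha, hc, rfl⟩
  rw [e]
  exact X_mem_Gs o a c _ ha hc

theorem Ts_conj_mem_Qs (C : WCalcD X) (j : ι ⊕ ι) {t g : G} (ht : t ∈ Ts X) (hg : g ∈ Qs X j) :
    t * g * t⁻¹ ∈ Qs X j := by
  obtain ⟨χ, -, e⟩ := Ts_conj C ht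
  refine h17_conj_closure_le t ?_ hg
  rintro _ ⟨c, u, hc, rfl⟩
  rw [e]
  exact Subgroup.subset_closure ⟨c, _, hc, rfl⟩

theorem Ps_eq (C : WCalcD X) (o : ι ⊕ ι) {p : G} (hp : p ∈ Ps X o) :
    ∃ γ ∈ Gs X o, ∃ t ∈ Ts X, p = γ * t := by
  unfold Ps at hp
  rw [Subgroup.sup_eq_closure] at hp
  induction hp using Subgroup.closure_induction with
  | mem x hx =>
    rcases hx with hx | hx
    · exact ⟨x, hx, 1, one_mem _, (mul_one x).symm⟩
    · exact ⟨1, one_mem _, x, hx, (one_mul x).symm⟩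
  | one => exact ⟨1, one_mem _, 1, one_mem _, (mul_one 1).symm⟩
  | mul x y _ _ hx hy =>
    obtain ⟨γ1, hγ1, t1, ht1, rfl⟩ := hx
    obtain ⟨γ2, hγ2, t2, ht2, rfl⟩ := hy
    refine ⟨γ1 * (t1 * γ2 * t1⁻¹), (Gs X o).mul_mem hγ1 (Ts_conj_mem_Gs C o ht1 hγ2), t1 * t2,
      (Ts X).mul_mem ht1 ht2, ?_⟩
    group
  | inv x _ hx =>
    obtain ⟨γ1, hγ1, t1, ht1, rfl⟩ := hx
    refine ⟨t1⁻¹ * γ1⁻¹ * t1⁻¹⁻¹, Ts_conj_mem_Gs C o ((Ts X).inv_mem ht1) ((Gs X o).inv_mem hγ1),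
      t1⁻¹, (Ts X).inv_mem ht1, ?_⟩
    group

theorem Ts_comm (C : WCalcD X) {t t' : G} (ht : t ∈ Ts X) (ht' : t' ∈ Ts X) : t * t' = t' * t := by
  have hcomm : ∀ x ∈ {g : G | ∃ a c s, c ≠ a ∧ c ≠ ng a ∧ s ≠ 0 ∧ g = HD X a c s},
      ∀ y ∈ {g : G | ∃ a c s, c ≠ a ∧ c ≠ ng a ∧ s ≠ 0 ∧ g = HD X a c s}, x * y = y * x := by
    rintro _ ⟨a, c, s, h1, h2, hs, rfl⟩ _ ⟨d, e, u, h3, h4, hu, rfl⟩
    exact C.hh_comm a c h1 h2 s hs d e h3 h4 u hu
  unfold Ts at ht ht'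
  induction ht using Subgroup.closure_induction with
  | mem x hx =>
    induction ht' using Subgroup.closure_induction with
    | mem y hy => exact hcomm x hx y hy
    | one => simp
    | mul y z _ _ hy hz =>
      exact Commute.mul_right (show Commute x y from hy) (show Commute x z from hz)
    | inv y _ hy =>
      exact Commute.inv_right (show Commute x y from hy)
  | one => simp
  | mul x y _ _ hx hy =>
    exact Commute.mul_left (show Commute x t' from hx) (show Commute y t' from hy)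
  | inv x _ hx =>
    exact Commute.inv_left (show Commute x t' from hx)

theorem WD_conj_mem_Ts (C : WCalcD X) (a c : ι ⊕ ι) (h1 : c ≠ a) (h2 : c ≠ ng a) (s : K) (hs : s ≠ 0)
    {t : G} (ht : t ∈ Ts X) : WD X a c s * t * (WD X a c s)⁻¹ ∈ Ts X := by
  unfold Ts at ht
  refine h17_conj_closure_le (WD X a c s) ?_ ht
  rintro _ ⟨d, e, u, h3, h4, hu, rfl⟩
  rw [C.wh_conj a c h1 h2 s hs d e h3 h4 u hu]
  refine HD_mem_Ts _ _ u ?_ ?_ hu
  · exact fun h => h3 (h17_sgD_injective a c h1 h2 h)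
  · rw [← h17_sgD_ng a c h1 h2]
    exact fun h => h4 (h17_sgD_injective a c h1 h2 h)

end Cfsg.Agent.Lib.Helper66_S96
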