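import Mathlib
import Cfsg.Agent.Lib.Helper66_S96Rank

set_option autoImplicit false
set_option linter.unusedVariables false
set_option linter.unusedSectionVars false
set_option linter.unusedSimpArgs false

/-!
Package D_EVAL_A of helper66's `s96_packages` market (S2096, type `D`): the model action preserves
the quadratic form `qD`, and evaluation of an action `ρ` with `IsActD X ρ` for the subgroups
`Gs`, `Ls`, `Qs`.  Port of `Helper89_S92_EVAL` (second half).
-/

namespace Cfsg.Agent.Lib.Helper66_S96

open Cfsg.Agent.Lib.Helper5_SteinbergA Cfsg.Agent.Lib.Helper66_S92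

variable {ι : Type*} [DecidableEq ι] {K : Type*} [Field K] {G : Type*} [Group G]
  {X : ι ⊕ ι → ι ⊕ ι → K → G}

/-- adding a multiple of a basis vector changes `qD` by the polar form -/
theorem h58_qD_add_single [Fintype ι] (v : ι ⊕ ι → K) (a : ι ⊕ ι) (α : K) :
    qD (v + Pi.single a α) = qD v + α * v (ng a) := by
  unfold qD
  cases a with
  | inl i0 =>
    simp only [Pi.add_apply, Pi.single_apply, Sum.inl.injEq, reduceCtorEq, if_false, add_zero,
      add_mul, Finset.sum_add_distrib, ite_mul, zero_mul, Finset.sum_ite_eq', Finset.mem_univ,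
      if_true, ng_inl]
  | inr i0 =>
    simp only [Pi.add_apply, Pi.single_apply, Sum.inr.injEq, reduceCtorEq, if_false, add_zero,
      mul_add, Finset.sum_add_distrib, mul_ite, mul_zero, Finset.sum_ite_eq', Finset.mem_univ,
      if_true, ng_inr]
    rw [mul_comm α]

theorem xactD_qD [Fintype ι] (a c : ι ⊕ ι) (t : K) (v : ι ⊕ ι → K) :
    qD (xactD a c t v) = qD v := by
  unfold xactD
  split_ifs with hc
  · rfl
  · have e : v + Pi.single a (t * v (ng c)) - Pi.single c (t * v (ng a)) =
        (v + Pi.single a (t * v (ng c))) + Pi.single c (-(t * v (ng a))) := by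
      rw [sub_eq_add_neg, Pi.single_neg]
    have hca : ng c ≠ a := fun h => hc (by rw [← h, ng_ng])
    rw [e, h58_qD_add_single, h58_qD_add_single, Pi.add_apply, Pi.single_apply, if_neg hca]
    ring

section eval

variable (ρ : G →* Module.End K (ι ⊕ ι → K)) (hρ : IsActD X ρ)
include hρ

theorem act_qD [Fintype ι] {g : G} (hg : g ∈ Subgroup.closure {g | ∃ a c t, g = X a c t})
    (v : ι ⊕ ι → K) : qD (ρ g v) = qD v := by
  induction hg using Subgroup.closure_induction generalizing v with
  | mem x hx =>
    obtain ⟨a, c, t, rfl⟩ := hx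
    rw [hρ, xactD_qD]
  | one => simp
  | mul x y _ _ hx hy => rw [map_mul, Module.End.mul_apply, hx, hy]
  | inv x _ hx =>
    have := hx (ρ x⁻¹ v)
    rw [← Module.End.mul_apply, ← map_mul, mul_inv_cancel, map_one] at this
    exact this.symm

theorem act_GsD (o : ι ⊕ ι) {g : G} (hg : g ∈ Gs X o) :
    ρ g (Pi.single o 1) = Pi.single o 1 := by
  unfold Gs at hg
  induction hg using Subgroup.closure_induction with
  | mem x hx =>
    obtain ⟨a, c, t, ha, hc, rfl⟩ := hx
    rw [hρ]
    have ha' : ng a ≠ o := fun h => ha (by rw [← h, ng_ng])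
    have hc' : ng c ≠ o := fun h => hc (by rw [← h, ng_ng])
    unfold xactD
    split_ifs
    · rfl
    · simp [Pi.single_apply, ha', hc']
  | one => simp
  | mul x y _ _ hx hy => rw [map_mul, Module.End.mul_apply, hy, hx]
  | inv x _ hx =>
    have := congrArg (ρ x⁻¹) hx
    rw [← Module.End.mul_apply, ← map_mul, inv_mul_cancel, map_one] at this
    exact this.symm

theorem act_LsD (o : ι ⊕ ι) {g : G} (hg : g ∈ Ls X o) :
    ρ g (Pi.single (ng o) 1) = Pi.single (ng o) 1 := by
  unfold Ls at hg
  induction hg using Subgroup.closure_induction with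
  | mem x hx =>
    obtain ⟨a, c, t, ha, ha2, hc, hc2, rfl⟩ := hx
    rw [hρ]
    have ha' : ng a ≠ ng o := fun h => ha (ng_injective h)
    have hc' : ng c ≠ ng o := fun h => hc (ng_injective h)
    unfold xactD
    split_ifs
    · rfl
    · simp [Pi.single_apply, ha', hc']
  | one => simp
  | mul x y _ _ hx hy => rw [map_mul, Module.End.mul_apply, hy, hx]
  | inv x _ hx =>
    have := congrArg (ρ x⁻¹) hx
    rw [← Module.End.mul_apply, ← map_mul, inv_mul_cancel, map_one] at this
    exact this.symm

/-- elements of `Qs X j` do not change the coordinate `ng j` -/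
theorem act_Qs_ngD (j : ι ⊕ ι) {q : G} (hq : q ∈ Qs X j) (v : ι ⊕ ι → K) :
    ρ q v (ng j) = v (ng j) := by
  unfold Qs at hq
  induction hq using Subgroup.closure_induction generalizing v with
  | mem x hx =>
    obtain ⟨c, t, hc, rfl⟩ := hx
    rw [hρ]
    unfold xactD
    split_ifs
    · rfl
    · simp [Pi.single_apply, ng_ne j, hc.symm]
  | one => simp
  | mul x y _ _ hx hy => rw [map_mul, Module.End.mul_apply, hx, hy]
  | inv x _ hx =>
    have := hx (ρ x⁻¹ v)
    rw [← Module.End.mul_apply, ← map_mul, mul_inv_cancel, map_one] at this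
    exact this.symm

/-- the generators `X j c t` with `c ≠ e` do not change the coordinate `e ≠ j` -/
theorem act_Qs_neD (j e : ι ⊕ ι) (hej : e ≠ j) {q : G}
    (hq : q ∈ Subgroup.closure {g | ∃ c t, c ≠ ng j ∧ c ≠ e ∧ g = X j c t}) (v : ι ⊕ ι → K) :
    ρ q v e = v e := by
  induction hq using Subgroup.closure_induction generalizing v with
  | mem x hx =>
    obtain ⟨c, t, hc, hce, rfl⟩ := hx
    rw [hρ]
    unfold xactD
    split_ifs
    · rfl
    · simp [Pi.single_apply, hej, hce.symm]
  | one => simp
  | mul x y _ _ hx hy => rw [map_mul, Module.End.mul_apply, hx, hy]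
  | inv x _ hx =>
    have := hx (ρ x⁻¹ v)
    rw [← Module.End.mul_apply, ← map_mul, mul_inv_cancel, map_one] at this
    exact this.symm

end eval

end Cfsg.Agent.Lib.Helper66_S96
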