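import Mathlib
import Cfsg.Agent.Lib.Helper66_S96Rank
import Cfsg.Agent.Lib.Helper81_UceA

set_option autoImplicit false
set_option linter.unusedVariables false
set_option linter.unusedSectionVars false
set_option linter.unusedSimpArgs false

/-!
Package D_EVAL_B of helper66's `s96_packages` market (S2096/S2097, Steinberg presentation of type `D`):
evaluation of an action `ρ` with `IsActD X ρ` on the basis vectors `Pi.single d 1` for the Weyl elements
`WD`, the torus elements `HD`, the monomial representatives `IsRepD`, the torus `Ts` and the line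
stabiliser `Ps`.  (Port of `Helper89_S92_EVAL`; private lemmas are prefixed `h78_`.)
-/

namespace Cfsg.Agent.Lib.Helper66_S96

open Cfsg.Agent.Lib.Helper5_SteinbergA Cfsg.Agent.Lib.Helper66_S92 Cfsg.Agent.Lib.Helper81_UceA

variable {ι : Type*} [DecidableEq ι] {K : Type*} [Field K] {G : Type*} [Group G]
  {X : ι ⊕ ι → ι ⊕ ι → K → G}

theorem h78_xactD_single (a c : ι ⊕ ι) (hac : c ≠ ng a) (t : K) (d : ι ⊕ ι) :
    xactD a c t (Pi.single d (1 : K)) =
      Pi.single d 1 + (if d = ng c then t else 0) • Pi.single a (1 : K)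
        - (if d = ng a then t else 0) • Pi.single c (1 : K) := by
  unfold xactD
  rw [if_neg hac]
  congr 1
  · congr 1
    ext x
    by_cases hx : x = a
    · subst hx
      by_cases hd : d = ng c
      · subst hd; simp
      · have : ng c ≠ d := fun h => hd h.symm
        simp [hd, this]
    · simp [hx]
  · ext x
    by_cases hx : x = c
    · subst hx
      by_cases hd : d = ng a
      · subst hd; simp
      · have : ng a ≠ d := fun h => hd h.symm
        simp [hd, this]
    · simp [hx]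

theorem h78_sgD_sgD (a c : ι ⊕ ι) (h1 : c ≠ a) (h2 : c ≠ ng a) (d : ι ⊕ ι) :
    sgD a c (sgD a c d) = d := by
  have k1 : ng a ≠ a := ng_ne a
  have k2 : a ≠ ng a := ne_ng a
  have k3 : ng c ≠ c := ng_ne c
  have k4 : c ≠ ng c := ne_ng c
  have k5 : a ≠ c := fun h => h1 h.symm
  have k6 : ng a ≠ c := fun h => h2 h.symm
  have k7 : a ≠ ng c := fun h => h2 (by rw [h, ng_ng])
  have k8 : ng c ≠ a := fun h => k7 h.symm
  have k9 : ng c ≠ ng a := fun h => h1 (ng_injective h)
  have k10 : ng a ≠ ng c := fun h => k9 h.symm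
  unfold sgD
  by_cases hd1 : d = a
  · subst hd1
    simp [h1, h2, k1, k2, k3, k4, k5, k6, k7, k8, k9, k10]
  · by_cases hd2 : d = ng c
    · subst hd2
      simp [h1, h2, k1, k2, k3, k4, k5, k6, k7, k8, k9, k10]
    · by_cases hd3 : d = c
      · subst hd3
        simp [h1, h2, k1, k2, k3, k4, k5, k6, k7, k8, k9, k10]
      · by_cases hd4 : d = ng a
        · subst hd4
          simp [h1, h2, k1, k2, k3, k4, k5, k6, k7, k8, k9, k10]
        · simp [hd1, hd2, hd3, hd4]

theorem h78_muD_sgD (a c : ι ⊕ ι) (h1 : c ≠ a) (h2 : c ≠ ng a) (s : K) (hs : s ≠ 0) (d : ι ⊕ ι) :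
    muD a c s (sgD a c d) = chD a c s d * muD a c (1 : K) (sgD a c d) := by
  have k1 : ng a ≠ a := ng_ne a
  have k2 : a ≠ ng a := ne_ng a
  have k3 : ng c ≠ c := ng_ne c
  have k4 : c ≠ ng c := ne_ng c
  have k5 : a ≠ c := fun h => h1 h.symm
  have k6 : ng a ≠ c := fun h => h2 h.symm
  have k7 : a ≠ ng c := fun h => h2 (by rw [h, ng_ng])
  have k8 : ng c ≠ a := fun h => k7 h.symm
  have k9 : ng c ≠ ng a := fun h => h1 (ng_injective h)
  have k10 : ng a ≠ ng c := fun h => k9 h.symm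
  unfold sgD muD chD
  by_cases hd1 : d = a
  · subst hd1
    simp [h1, h2, k1, k2, k3, k4, k5, k6, k7, k8, k9, k10]
  · by_cases hd2 : d = ng c
    · subst hd2
      simp [h1, h2, k1, k2, k3, k4, k5, k6, k7, k8, k9, k10]
    · by_cases hd3 : d = c
      · subst hd3
        simp [h1, h2, k1, k2, k3, k4, k5, k6, k7, k8, k9, k10]
      · by_cases hd4 : d = ng a
        · subst hd4
          simp [h1, h2, k1, k2, k3, k4, k5, k6, k7, k8, k9, k10]
        · simp [hd1, hd2, hd3, hd4]

theorem h78_muD_ne_zero (a c : ι ⊕ ι) (s : K) (hs : s ≠ 0) (d : ι ⊕ ι) : muD a c s d ≠ 0 := by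
  unfold muD
  split_ifs <;> simp [hs]

theorem h78_chD_ne_zero (a c : ι ⊕ ι) (s : K) (hs : s ≠ 0) (d : ι ⊕ ι) : chD a c s d ≠ 0 := by
  unfold chD
  split_ifs <;> simp [hs]

section eval

variable (ρ : G →* Module.End K (ι ⊕ ι → K)) (hρ : IsActD X ρ)
include hρ

theorem act_WD (a c : ι ⊕ ι) (h1 : c ≠ a) (h2 : c ≠ ng a) (s : K) (hs : s ≠ 0) (d : ι ⊕ ι) :
    ρ (WD X a c s) (Pi.single d 1) = muD a c s d • Pi.single (sgD a c d) 1 := by
  have h2' : ng c ≠ ng (ng a) := fun h => h2 (ng_injective h)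
  have e1 : ∀ (t : K) (d : ι ⊕ ι), ρ (X a c t) (Pi.single d 1) =
      Pi.single d 1 + (if d = ng c then t else 0) • Pi.single a (1 : K)
        - (if d = ng a then t else 0) • Pi.single c (1 : K) := fun t d => by
    rw [hρ, h78_xactD_single a c h2]
  have e2 : ∀ (t : K) (d : ι ⊕ ι), ρ (X (ng a) (ng c) t) (Pi.single d 1) =
      Pi.single d 1 + (if d = c then t else 0) • Pi.single (ng a) (1 : K)
        - (if d = a then t else 0) • Pi.single (ng c) (1 : K) := fun t d => by
    rw [hρ, h78_xactD_single (ng a) (ng c) h2', ng_ng, ng_ng]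
  have k1 : ng a ≠ a := ng_ne a
  have k2 : a ≠ ng a := ne_ng a
  have k3 : ng c ≠ c := ng_ne c
  have k4 : c ≠ ng c := ne_ng c
  have k5 : a ≠ c := fun h => h1 h.symm
  have k6 : ng a ≠ c := fun h => h2 h.symm
  have k7 : a ≠ ng c := fun h => h2 (by rw [h, ng_ng])
  have k8 : ng c ≠ a := fun h => k7 h.symm
  have k9 : ng c ≠ ng a := fun h => h1 (ng_injective h)
  have k10 : ng a ≠ ng c := fun h => k9 h.symm
  rw [WD_eq, map_mul, map_mul, Module.End.mul_apply, Module.End.mul_apply]
  unfold muD sgD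
  by_cases hd1 : d = a
  · subst hd1
    simp only [e1, e2, map_sub, map_add, map_smul, if_true, if_neg h1, if_neg h2, if_neg k1,
      if_neg k2, if_neg k3, if_neg k4, if_neg k5, if_neg k6, if_neg k7, if_neg k8, if_neg k9,
      if_neg k10, neg_neg]
    match_scalars <;> field_simp <;> ring
  · by_cases hd2 : d = ng c
    · subst hd2
      simp only [e1, e2, map_sub, map_add, map_smul, if_true, if_neg h1, if_neg h2, if_neg k1,
        if_neg k2, if_neg k3, if_neg k4, if_neg k5, if_neg k6, if_neg k7, if_neg k8, if_neg k9,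
        if_neg k10, neg_neg]
      match_scalars <;> field_simp <;> ring
    · by_cases hd3 : d = c
      · subst hd3
        simp only [e1, e2, map_sub, map_add, map_smul, if_true, if_neg h1, if_neg h2, if_neg k1,
          if_neg k2, if_neg k3, if_neg k4, if_neg k5, if_neg k6, if_neg k7, if_neg k8, if_neg k9,
          if_neg k10, neg_neg]
        match_scalars <;> field_simp <;> ring
      · by_cases hd4 : d = ng a
        · subst hd4
          simp only [e1, e2, map_sub, map_add, map_smul, if_true, if_neg h1, if_neg h2, if_neg k1,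
            if_neg k2, if_neg k3, if_neg k4, if_neg k5, if_neg k6, if_neg k7, if_neg k8,
            if_neg k9, if_neg k10, neg_neg]
          match_scalars <;> field_simp <;> ring
        · simp only [e1, e2, map_sub, map_add, map_smul, if_true, if_neg hd1, if_neg hd2,
            if_neg hd3, if_neg hd4]
          match_scalars <;> ring

theorem act_HD (a c : ι ⊕ ι) (h1 : c ≠ a) (h2 : c ≠ ng a) (s : K) (hs : s ≠ 0) (d : ι ⊕ ι) :
    ρ (HD X a c s) (Pi.single d 1) = chD a c s d • Pi.single d 1 := by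
  have hm : muD a c (1 : K) (sgD a c d) ≠ 0 := h78_muD_ne_zero a c 1 one_ne_zero _
  have e1 := act_WD ρ hρ a c h1 h2 1 one_ne_zero (sgD a c d)
  have e2 := act_WD ρ hρ a c h1 h2 s hs (sgD a c d)
  rw [h78_sgD_sgD a c h1 h2] at e1 e2
  have e3 : HD X a c s * WD X a c 1 = WD X a c s := by
    unfold HD
    rw [inv_mul_cancel_right]
  rw [← e3, map_mul, Module.End.mul_apply, e1, map_smul, h78_muD_sgD a c h1 h2 s hs] at e2
  have := congrArg (fun v => (muD a c (1 : K) (sgD a c d))⁻¹ • v) e2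
  simp only [smul_smul] at this
  rw [inv_mul_cancel₀ hm, one_smul] at this
  rw [this]
  congr 1
  field_simp

theorem act_RepD (o k : ι ⊕ ι) {d : G} (hd : IsRepD X o k d) :
    ∃ s : K, s ≠ 0 ∧ ρ d (Pi.single o 1) = s • Pi.single k 1 := by
  rcases hd with ⟨rfl, rfl⟩ | ⟨hk1, hk2, rfl⟩ | ⟨rfl, j, hj1, hj2, rfl⟩
  · exact ⟨1, one_ne_zero, by simp⟩
  · refine ⟨-1, neg_ne_zero.mpr one_ne_zero, ?_⟩
    rw [act_WD ρ hρ (ng o) k hk2 (by rw [ng_ng]; exact hk1) 1 one_ne_zero]
    have k1 : o ≠ ng o := ne_ng o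
    have k2 : o ≠ ng k := fun h => hk2 (by rw [h, ng_ng])
    have k3 : o ≠ k := fun h => hk1 h.symm
    unfold muD sgD
    simp [k1, k2, k3]
  · refine ⟨1, one_ne_zero, ?_⟩
    have hj3 : ng o ≠ ng j := fun h => hj1 (ng_injective h).symm
    have hj4 : ng o ≠ j := fun h => hj2 h.symm
    rw [map_mul, Module.End.mul_apply,
      act_WD ρ hρ (ng o) j hj2 (by rw [ng_ng]; exact hj1) 1 one_ne_zero]
    have k1 : o ≠ ng o := ne_ng o
    have k2 : o ≠ ng j := fun h => hj2 (by rw [h, ng_ng])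
    have k3 : o ≠ j := fun h => hj1 h.symm
    have e1 : muD (ng o) j (1 : K) o = -1 := by
      unfold muD
      simp [k1, k2, k3]
    have e2 : sgD (ng o) j o = j := by
      unfold sgD
      simp [k1, k2, k3]
    rw [e1, e2, map_smul, act_WD ρ hρ (ng j) (ng o) hj3 (by rw [ng_ng]; exact hj4) 1 one_ne_zero]
    have k4 : j ≠ ng j := ne_ng j
    have k5 : j ≠ o := hj1
    have k6 : j ≠ ng o := hj2
    have e3 : muD (ng j) (ng o) (1 : K) j = -1 := by
      unfold muD
      simp [k4, k5, k6]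
    have e4 : sgD (ng j) (ng o) j = ng o := by
      unfold sgD
      simp [k4, k5, k6]
    rw [e3, e4, smul_smul]
    norm_num

theorem act_TsD {t : G} (ht : t ∈ Ts X) :
    ∃ χ : ι ⊕ ι → K, (∀ d, χ d ≠ 0) ∧ ∀ d, ρ t (Pi.single d 1) = χ d • Pi.single d 1 := by
  unfold Ts at ht
  induction ht using Subgroup.closure_induction with
  | mem x hx =>
    obtain ⟨a, c, s, h1, h2, hs, rfl⟩ := hx
    exact ⟨chD a c s, h78_chD_ne_zero a c s hs, fun d => act_HD ρ hρ a c h1 h2 s hs d⟩
  | one => exact ⟨fun _ => 1, fun _ => one_ne_zero, fun d => by simp⟩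
  | mul x y _ _ hx hy =>
    obtain ⟨χ₁, h1, h1'⟩ := hx
    obtain ⟨χ₂, h2, h2'⟩ := hy
    refine ⟨fun d => χ₁ d * χ₂ d, fun d => mul_ne_zero (h1 d) (h2 d), fun d => ?_⟩
    rw [map_mul, Module.End.mul_apply, h2', map_smul, h1', smul_smul, mul_comm]
  | inv x _ hx =>
    obtain ⟨χ, h1, h1'⟩ := hx
    refine ⟨fun d => (χ d)⁻¹, fun d => inv_ne_zero (h1 d), fun d => ?_⟩
    have := congrArg (ρ x⁻¹) (h1' d)
    rw [← Module.End.mul_apply, ← map_mul, inv_mul_cancel, map_one, map_smul] at this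
    have h3 := congrArg (fun v => (χ d)⁻¹ • v) this
    simp only [smul_smul] at h3
    rw [inv_mul_cancel₀ (h1 d), one_smul] at h3
    rw [← h3]
    rfl

theorem h78_act_Gs (o : ι ⊕ ι) {g : G} (hg : g ∈ Gs X o) :
    ρ g (Pi.single o 1) = Pi.single o 1 := by
  unfold Gs at hg
  induction hg using Subgroup.closure_induction with
  | mem x hx =>
    obtain ⟨a, c, t, ha, hc, rfl⟩ := hx
    rw [hρ]
    have ha' : o ≠ ng a := fun h => ha (by rw [h, ng_ng])
    have hc' : o ≠ ng c := fun h => hc (by rw [h, ng_ng])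
    unfold xactD
    split_ifs
    · rfl
    · simp [Pi.single_apply, ha'.symm, hc'.symm]
  | one => simp
  | mul x y _ _ hx hy => rw [map_mul, Module.End.mul_apply, hy, hx]
  | inv x _ hx =>
    have := congrArg (ρ x⁻¹) hx
    rw [← Module.End.mul_apply, ← map_mul, inv_mul_cancel, map_one] at this
    exact this.symm

theorem act_PsD (o : ι ⊕ ι) {p : G} (hp : p ∈ Ps X o) :
    ∃ s : K, s ≠ 0 ∧ ρ p (Pi.single o 1) = s • Pi.single o 1 := by
  unfold Ps at hp
  rw [Subgroup.sup_eq_closure] at hp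
  induction hp using Subgroup.closure_induction with
  | mem x hx =>
    rcases hx with hx | hx
    · exact ⟨1, one_ne_zero, by rw [h78_act_Gs ρ hρ o hx, one_smul]⟩
    · obtain ⟨χ, h1, h2⟩ := act_TsD ρ hρ hx
      exact ⟨χ o, h1 o, h2 o⟩
  | one => exact ⟨1, one_ne_zero, by simp⟩
  | mul x y _ _ hx hy =>
    obtain ⟨s₁, h1, h1'⟩ := hx
    obtain ⟨s₂, h2, h2'⟩ := hy
    refine ⟨s₁ * s₂, mul_ne_zero h1 h2, ?_⟩
    rw [map_mul, Module.End.mul_apply, h2', map_smul, h1', smul_smul, mul_comm]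
  | inv x _ hx =>
    obtain ⟨s, h1, h1'⟩ := hx
    refine ⟨s⁻¹, inv_ne_zero h1, ?_⟩
    have := congrArg (ρ x⁻¹) h1'
    rw [← Module.End.mul_apply, ← map_mul, inv_mul_cancel, map_one, map_smul] at this
    have h3 := congrArg (fun v => s⁻¹ • v) this
    simp only [smul_smul] at h3
    rw [inv_mul_cancel₀ h1, one_smul] at h3
    rw [← h3]
    rfl

end eval

end Cfsg.Agent.Lib.Helper66_S96
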