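import Mathlib
import Cfsg.Agent.Lib.Helper17_S96_TS
import Cfsg.Agent.Lib.Helper58_S96_EVALA
import Cfsg.Agent.Lib.Helper78_S96_EVALB

set_option autoImplicit false
set_option linter.unusedVariables false
set_option linter.unusedSectionVars false
set_option linter.unusedSimpArgs false

/-!
Package `D_TL` of helper66's market for S2096 / S2097 (helper17): with three indices, a torus
element fixing `b_o` lies in `Gs X o`.  Every `t ∈ Ts X` is `HD X o j0 s * t'` with `t' ∈ Tso X o`.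
-/

namespace Cfsg.Agent.Lib.Helper66_S96

open Cfsg.Agent.Lib.Helper5_SteinbergA Cfsg.Agent.Lib.Helper66_S92

variable {ι : Type*} [DecidableEq ι] {K : Type*} [Field K] {G : Type*} [Group G]
  {X : ι ⊕ ι → ι ⊕ ι → K → G}

/-- the underlying index -/
def h17_idx (a : ι ⊕ ι) : ι := Sum.elim id id a

omit [DecidableEq ι] in
theorem h17_idx_ng (a : ι ⊕ ι) : h17_idx (ng a) = h17_idx a := by
  cases a <;> rfl

omit [DecidableEq ι] in
theorem h17_ne_of_idx {a o : ι ⊕ ι} (h : h17_idx a ≠ h17_idx o) : a ≠ o ∧ a ≠ ng o := by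
  constructor
  · rintro rfl
    exact h rfl
  · rintro rfl
    exact h (h17_idx_ng o)

omit [DecidableEq ι] in
theorem h17_idx_eq {a o : ι ⊕ ι} (h1 : a ≠ o) (h2 : a ≠ ng o) : h17_idx a ≠ h17_idx o := by
  cases a <;> cases o <;> simp_all [h17_idx, ng]

/-- the form `HD X o j0 s * t'` with `t'` in the torus of the Levi factor -/
def h17_P (X : ι ⊕ ι → ι ⊕ ι → K → G) (o j0 : ι ⊕ ι) (t : G) : Prop :=
  ∃ s : K, s ≠ 0 ∧ ∃ t' ∈ Tso X o, t = HD X o j0 s * t'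

theorem h17_P_mul_right (o j0 : ι ⊕ ι) {t t2 : G} (ht : h17_P X o j0 t) (h2 : t2 ∈ Tso X o) :
    h17_P X o j0 (t * t2) := by
  obtain ⟨s, hs, t', ht', rfl⟩ := ht
  exact ⟨s, hs, t' * t2, (Tso X o).mul_mem ht' h2, mul_assoc _ _ _⟩

theorem h17_HD_mem_Ls (o a c : ι ⊕ ι) (s : K) (ha : a ≠ o) (ha' : a ≠ ng o) (hc : c ≠ o)
    (hc' : c ≠ ng o) : HD X a c s ∈ Ls X o := by
  have hW : ∀ s : K, WD X a c s ∈ Ls X o := by
    intro s
    rw [WD_eq]
    have e1 : X a c s ∈ Ls X o := X_mem_Ls o a c s ha ha' hc hc'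
    have e2 : X (ng a) (ng c) (- -s⁻¹) ∈ Ls X o :=
      X_mem_Ls o (ng a) (ng c) _ (fun e => ha' (by rw [← e, ng_ng])) (fun e => ha (ng_injective e))
        (fun e => hc' (by rw [← e, ng_ng])) (fun e => hc (ng_injective e))
    exact (Ls X o).mul_mem ((Ls X o).mul_mem e1 e2) e1
  unfold HD
  exact (Ls X o).mul_mem (hW s) ((Ls X o).inv_mem (hW 1))

theorem h17_Tso_le_Ls (o : ι ⊕ ι) : Tso X o ≤ Ls X o := by
  unfold Tso
  rw [Subgroup.closure_le]
  rintro _ ⟨a, c, s, -, -, ha, ha', hc, hc', -, rfl⟩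
  exact h17_HD_mem_Ls o a c s ha ha' hc hc'

theorem h17_hd_inv (C : WCalcD X) (a c : ι ⊕ ι) (h1 : c ≠ a) (h2 : c ≠ ng a) (s : K) (hs : s ≠ 0) :
    (HD X a c s)⁻¹ = HD X a c s⁻¹ := by
  rw [inv_eq_iff_mul_eq_one, C.hd_mul a c h1 h2 s s⁻¹ hs (inv_ne_zero hs), mul_inv_cancel₀ hs, HD_one]

/-- the generators `HD X o c u` -/
theorem h17_P_gen_o (C : WCalcD X) (o j0 i : ι ⊕ ι) (hj : h17_idx j0 ≠ h17_idx o)
    (hi : h17_idx i ≠ h17_idx o) (hij : h17_idx i ≠ h17_idx j0) (c : ι ⊕ ι)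
    (hc : h17_idx c ≠ h17_idx o) (u : K) (hu : u ≠ 0) : h17_P X o j0 (HD X o c u) := by
  obtain ⟨hj1, hj2⟩ := h17_ne_of_idx hj
  obtain ⟨hi1, hi2⟩ := h17_ne_of_idx hi
  obtain ⟨hij1, hij2⟩ := h17_ne_of_idx hij
  obtain ⟨hc1, hc2⟩ := h17_ne_of_idx hc
  have hoj1 : o ≠ j0 := hj1.symm
  have hoj2 : o ≠ ng j0 := fun e => hj2 (by rw [e, ng_ng])
  -- the generic case
  have gen : ∀ c : ι ⊕ ι, h17_idx c ≠ h17_idx o → h17_idx c ≠ h17_idx j0 →
      HD X o c u = HD X o j0 u * HD X (ng j0) c u := by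
    intro c hc hcj
    obtain ⟨hc1, hc2⟩ := h17_ne_of_idx hc
    obtain ⟨hcj1, hcj2⟩ := h17_ne_of_idx hcj
    rw [C.hd_symm j0 o hoj1 hoj2 u hu]
    exact (C.t1 j0 o c hoj1 hoj2 hcj1 hcj2 hc1 hc2 u hu).symm
  have memTso : ∀ c : ι ⊕ ι, h17_idx c ≠ h17_idx o → h17_idx c ≠ h17_idx j0 →
      HD X (ng j0) c u ∈ Tso X o := by
    intro c hc hcj
    obtain ⟨hc1, hc2⟩ := h17_ne_of_idx hc
    obtain ⟨hcj1, hcj2⟩ := h17_ne_of_idx hcj
    refine HD_mem_Tso o (ng j0) c u ?_ ?_ ?_ ?_ hc1 hc2 hu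
    · exact hcj2
    · rw [ng_ng]; exact hcj1
    · exact fun e => hoj2 e.symm
    · exact fun e => hj1 (ng_injective e)
  by_cases hcj : h17_idx c = h17_idx j0
  · by_cases hcj0 : c = j0
    · subst hcj0
      exact ⟨u, hu, 1, one_mem _, (mul_one _).symm⟩
    · -- `c = ng j0`
      have hcj' : c = ng j0 := by
        cases c <;> cases j0 <;> simp_all [h17_idx, ng]
      subst hcj'
      -- `HD X o (ng j0) u = HD X o i u * HD X (ng i) (ng j0) u`
      have hoi1 : o ≠ i := hi1.symm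
      have hoi2 : o ≠ ng i := fun e => hi2 (by rw [e, ng_ng])
      have e1 : HD X o (ng j0) u = HD X o i u * HD X (ng i) (ng j0) u := by
        rw [C.hd_symm i o hoi1 hoi2 u hu]
        refine (C.t1 i o (ng j0) hoi1 hoi2 ?_ ?_ ?_ ?_ u hu).symm
        · exact fun e => hij2 e.symm
        · exact fun e => hij1 (ng_injective e).symm
        · exact fun e => hoj2 e.symm
        · exact fun e => hj1 (ng_injective e)
      rw [e1, gen i hi hij]
      refine h17_P_mul_right o j0 (h17_P_mul_right o j0 ⟨u, hu, 1, one_mem _, (mul_one _).symm⟩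
        (memTso i hi hij)) ?_
      refine HD_mem_Tso o (ng i) (ng j0) u ?_ ?_ ?_ ?_ ?_ ?_ hu
      · exact fun e => hij1 (ng_injective e).symm
      · rw [ng_ng]; exact fun e => hij2 e.symm
      · exact fun e => hoi2 e.symm
      · exact fun e => hi1 (ng_injective e)
      · exact fun e => hoj2 e.symm
      · exact fun e => hj1 (ng_injective e)
  · rw [gen c hc hcj]
    exact ⟨u, hu, _, memTso c hc hcj, rfl⟩

theorem h17_P_all (C : WCalcD X) (o j0 i : ι ⊕ ι) (hj : h17_idx j0 ≠ h17_idx o)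
    (hi : h17_idx i ≠ h17_idx o) (hij : h17_idx i ≠ h17_idx j0) {t : G} (ht : t ∈ Ts X) :
    h17_P X o j0 t := by
  obtain ⟨hj1, hj2⟩ := h17_ne_of_idx hj
  have hTs : ∀ s : K, s ≠ 0 → HD X o j0 s ∈ Ts X := fun s hs => HD_mem_Ts o j0 s hj1 hj2 hs
  unfold Ts at ht
  induction ht using Subgroup.closure_induction with
  | mem x hx =>
    obtain ⟨a, c, u, h1, h2, hu, rfl⟩ := hx
    -- reduce to the generators `HD X o c u`
    have key : ∀ (a c : ι ⊕ ι) (u : K), u ≠ 0 → c ≠ a → c ≠ ng a →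
        (a = o ∨ a = ng o) → h17_P X o j0 (HD X a c u) := by
      intro a c u hu h1 h2 ha
      rcases ha with rfl | rfl
      · exact h17_P_gen_o C a j0 i hj hi hij c (h17_idx_eq h1 h2) u hu
      · have h1' : ng c ≠ o := fun e => h1 (by rw [← e, ng_ng])
        have h2' : ng c ≠ ng o := fun e => h2 (by rw [ng_ng]; exact ng_injective e)
        have e := C.hd_ng o (ng c) h1' h2' u hu
        rw [ng_ng] at e
        rw [e]
        refine h17_P_gen_o C o j0 i hj hi hij (ng c) ?_ u⁻¹ (inv_ne_zero hu)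
        rw [h17_idx_ng]
        have := h17_idx_eq h1 h2
        rwa [h17_idx_ng] at this
    by_cases ha : a = o ∨ a = ng o
    · exact key a c u hu h1 h2 ha
    · by_cases hc : c = o ∨ c = ng o
      · rw [C.hd_symm c a (Ne.symm h1) (fun e => h2 (by rw [e, ng_ng])) u hu]
        exact key c a u hu (Ne.symm h1) (fun e => h2 (by rw [e, ng_ng])) hc
      · push Not at ha hc
        exact ⟨1, one_ne_zero, HD X a c u, HD_mem_Tso o a c u h1 h2 ha.1 ha.2 hc.1 hc.2 hu, by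
          rw [HD_one, one_mul]⟩
  | one => exact ⟨1, one_ne_zero, 1, one_mem _, by rw [HD_one, one_mul]⟩
  | mul x y _ _ hx hy =>
    obtain ⟨s1, hs1, t1, ht1, rfl⟩ := hx
    obtain ⟨s2, hs2, t2, ht2, rfl⟩ := hy
    refine ⟨s1 * s2, mul_ne_zero hs1 hs2, t1 * t2, (Tso X o).mul_mem ht1 ht2, ?_⟩
    rw [← C.hd_mul o j0 hj1 hj2 s1 s2 hs1 hs2]
    have e := Ts_comm C (Tso_le_Ts o ht1) (hTs s2 hs2)
    calc HD X o j0 s1 * t1 * (HD X o j0 s2 * t2)
        = HD X o j0 s1 * (t1 * HD X o j0 s2) * t2 := by group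
      _ = HD X o j0 s1 * (HD X o j0 s2 * t1) * t2 := by rw [e]
      _ = HD X o j0 s1 * HD X o j0 s2 * (t1 * t2) := by group
  | inv x _ hx =>
    obtain ⟨s1, hs1, t1, ht1, rfl⟩ := hx
    refine ⟨s1⁻¹, inv_ne_zero hs1, t1⁻¹, (Tso X o).inv_mem ht1, ?_⟩
    rw [← h17_hd_inv C o j0 hj1 hj2 s1 hs1, mul_inv_rev]
    exact Ts_comm C ((Ts X).inv_mem (Tso_le_Ts o ht1)) ((Ts X).inv_mem (hTs s1 hs1))

theorem torus_fix [Fintype ι] (h : DSt X) (C : WCalcD X) (ρ : G →* Module.End K (ι ⊕ ι → K))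
    (hρ : IsActD X ρ) (h3 : 3 ≤ Fintype.card ι) (o : ι ⊕ ι) {t : G} (ht : t ∈ Ts X)
    (hfix : ρ t (Pi.single o 1) = Pi.single o 1) : t ∈ Gs X o := by
  -- two further indices
  obtain ⟨j1, hj1⟩ : ∃ j1 : ι, j1 ≠ h17_idx o :=
    Fintype.exists_ne_of_one_lt_card (by omega) _
  obtain ⟨i1, -, hi1⟩ : ∃ i1 ∈ (Finset.univ : Finset ι), i1 ∉ ({h17_idx o, j1} : Finset ι) := by
    apply Finset.exists_mem_notMem_of_card_lt_card
    calc ({h17_idx o, j1} : Finset ι).card ≤ 2 := Finset.card_le_two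
      _ < Fintype.card ι := by omega
      _ = (Finset.univ : Finset ι).card := Finset.card_univ.symm
  rw [Finset.mem_insert, Finset.mem_singleton] at hi1
  push Not at hi1
  have hj : h17_idx (Sum.inl j1 : ι ⊕ ι) ≠ h17_idx o := hj1
  have hi : h17_idx (Sum.inl i1 : ι ⊕ ι) ≠ h17_idx o := hi1.1
  have hij : h17_idx (Sum.inl i1 : ι ⊕ ι) ≠ h17_idx (Sum.inl j1 : ι ⊕ ι) := hi1.2
  obtain ⟨s, hs, t', ht', rfl⟩ := h17_P_all C o (Sum.inl j1) (Sum.inl i1) hj hi hij ht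
  obtain ⟨hjo1, hjo2⟩ := h17_ne_of_idx hj
  have e1 : ρ t' (Pi.single o 1) = Pi.single o 1 :=
    act_GsD ρ hρ o (Ls_le_Gs o (h17_Tso_le_Ls o ht'))
  have e2 := act_HD ρ hρ o (Sum.inl j1) hjo1 hjo2 s hs o
  rw [map_mul, Module.End.mul_apply, e1, e2] at hfix
  have e3 : chD o (Sum.inl j1) s o = s := by simp [chD]
  rw [e3] at hfix
  have e4 := congrFun hfix o
  simp only [Pi.smul_apply, Pi.single_eq_same, smul_eq_mul, mul_one] at e4
  subst e4
  rw [HD_one, one_mul]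
  exact Ls_le_Gs o (h17_Tso_le_Ls o ht')

end Cfsg.Agent.Lib.Helper66_S96
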