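import Mathlib
import Cfsg.Agent.Lib.Helper66_S96Rank

set_option autoImplicit false
set_option linter.unusedVariables false
set_option linter.unusedSectionVars false

/-!
Package D_FACT of the S2096 market (architect helper66): conjugating a root element `X a c t` with
`ng k ∉ {a, c}` by a monomial representative `d` (`IsRepD X o k d`) lands in the abstract vector
stabiliser `Gs X o`.  (helper95)
-/

namespace Cfsg.Agent.Lib.Helper66_S96

open Cfsg.Agent.Lib.Helper5_SteinbergA Cfsg.Agent.Lib.Helper66_S92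

variable {ι : Type*} [DecidableEq ι] {K : Type*} [Field K] {G : Type*} [Group G]
  {X : ι ⊕ ι → ι ⊕ ι → K → G}

omit [Field K] in
/-- only `ng c` is mapped to `a` by the permutation of `WD X a c s` -/
theorem h95_sgD_eq_fst (a c d : ι ⊕ ι) (h1 : c ≠ a) (h : sgD a c d = a) : d = ng c := by
  unfold sgD at h
  split_ifs at h with e1 e2 e3 e4
  · rw [e1, ← h]
  · exact e2
  · exact absurd h (ng_ne a)
  · exact absurd h h1
  · exact absurd h e1

/-- conjugation by the inverse of a Weyl element -/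
theorem h95_wd_inv_conj (C : WCalcD X) (a c : ι ⊕ ι) (h1 : c ≠ a) (h2 : c ≠ ng a) (s : K)
    (hs : s ≠ 0) (d e : ι ⊕ ι) (u : K) :
    (WD X a c s)⁻¹ * X d e u * WD X a c s =
      X (sgD a c d) (sgD a c e) (muD a c (-s) d * muD a c (-s) e * u) := by
  rw [← C.wd_conj a c h1 h2 (-s) (neg_ne_zero.mpr hs) d e u, ← C.wd_inv a c h1 h2 s, inv_inv]

theorem factD (h : DStAB X) (C : WCalcD X) (o k : ι ⊕ ι) {d : G} (hd : IsRepD X o k d)
    (a c : ι ⊕ ι) (t : K) (hka : ng k ≠ a) (hkc : ng k ≠ c) :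
    d⁻¹ * X a c t * d ∈ Gs X o := by
  rcases hd with ⟨hk, rfl⟩ | ⟨hko, hko', rfl⟩ | ⟨hk, j, hjo, hjo', rfl⟩
  · -- `d = 1`
    subst hk
    rw [inv_one, one_mul, mul_one]
    exact X_mem_Gs k a c t (Ne.symm hka) (Ne.symm hkc)
  · -- `d = WD X (ng o) k 1`
    have hk1 : k ≠ ng o := hko'
    have hk2 : k ≠ ng (ng o) := by rw [ng_ng]; exact hko
    rw [h95_wd_inv_conj C (ng o) k hk1 hk2 1 one_ne_zero a c t]
    refine X_mem_Gs o _ _ _ ?_ ?_
    · intro e
      exact hka (h95_sgD_eq_fst (ng o) k a hk1 e).symm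
    · intro e
      exact hkc (h95_sgD_eq_fst (ng o) k c hk1 e).symm
  · -- `d = WD X (ng j) (ng o) 1 * WD X (ng o) j 1`
    subst hk
    have hj1 : j ≠ ng o := hjo'
    have hj2 : j ≠ ng (ng o) := by rw [ng_ng]; exact hjo
    have ho1 : ng o ≠ ng j := fun e => hjo (ng_injective e).symm
    have ho2 : ng o ≠ ng (ng j) := by rw [ng_ng]; exact Ne.symm hjo'
    have e1 : (WD X (ng j) (ng o) 1 * WD X (ng o) j 1)⁻¹ * X a c t *
        (WD X (ng j) (ng o) 1 * WD X (ng o) j 1) =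
        (WD X (ng o) j 1)⁻¹ * ((WD X (ng j) (ng o) 1)⁻¹ * X a c t * WD X (ng j) (ng o) 1) *
          WD X (ng o) j 1 := by
      group
    rw [e1, h95_wd_inv_conj C (ng j) (ng o) ho1 ho2 1 one_ne_zero a c t,
      h95_wd_inv_conj C (ng o) j hj1 hj2 1 one_ne_zero]
    rw [ng_ng] at hka hkc
    refine X_mem_Gs o _ _ _ ?_ ?_
    · intro e
      have e2 := h95_sgD_eq_fst (ng o) j _ hj1 e
      have e3 := h95_sgD_eq_fst (ng j) (ng o) a ho1 e2
      rw [ng_ng] at e3
      exact hka e3.symm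
    · intro e
      have e2 := h95_sgD_eq_fst (ng o) j _ hj1 e
      have e3 := h95_sgD_eq_fst (ng j) (ng o) c ho1 e2
      rw [ng_ng] at e3
      exact hkc e3.symm

end Cfsg.Agent.Lib.Helper66_S96
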