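import Mathlib
import Cfsg.Agent.Lib.Helper66_S96Rank

set_option autoImplicit false
set_option linter.unusedVariables false
set_option linter.unusedSectionVars false

/-!
Package D_MONO of the S2096 market (architect helper66): the monomial representatives under left
multiplication by a Weyl element.  Pure `WCalcD` calculus.  (helper95)
-/

namespace Cfsg.Agent.Lib.Helper66_S96

open Cfsg.Agent.Lib.Helper5_SteinbergA Cfsg.Agent.Lib.Helper66_S92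

variable {ι : Type*} [DecidableEq ι] {K : Type*} [Field K] {G : Type*} [Group G]
  {X : ι ⊕ ι → ι ⊕ ι → K → G}

/-! ### the permutation `sgD` and the coefficients `muD` -/

omit [Field K] in
theorem h95_m_sgD_fst (a c d : ι ⊕ ι) (hd : d = a) : sgD a c d = ng c := by
  subst hd
  unfold sgD
  rw [if_pos rfl]

omit [Field K] in
theorem h95_m_sgD_ngsnd (a c d : ι ⊕ ι) (hd : d = ng c) : sgD a c d = a := by
  subst hd
  unfold sgD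
  by_cases e1 : ng c = a
  · rw [if_pos e1]
    exact e1
  · rw [if_neg e1, if_pos rfl]

omit [Field K] in
theorem h95_m_sgD_snd (a c d : ι ⊕ ι) (hd : d = c) : sgD a c d = ng a := by
  subst hd
  unfold sgD
  by_cases e1 : d = a
  · rw [if_pos e1, e1]
  · rw [if_neg e1, if_neg (ne_ng d), if_pos rfl]

omit [Field K] in
theorem h95_m_sgD_ngfst (a c d : ι ⊕ ι) (hd : d = ng a) : sgD a c d = c := by
  subst hd
  unfold sgD
  rw [if_neg (ng_ne a)]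
  by_cases e2 : ng a = ng c
  · rw [if_pos e2]
    exact ng_injective e2
  · rw [if_neg e2]
    by_cases e3 : ng a = c
    · rw [if_pos e3]
      exact e3
    · rw [if_neg e3, if_pos rfl]

omit [Field K] in
theorem h95_m_sgD_other (a c d : ι ⊕ ι) (h1 : d ≠ a) (h2 : d ≠ ng c) (h3 : d ≠ c)
    (h4 : d ≠ ng a) : sgD a c d = d := by
  unfold sgD
  rw [if_neg h1, if_neg h2, if_neg h3, if_neg h4]

theorem h95_m_muD_ne_zero (a c : ι ⊕ ι) (s : K) (hs : s ≠ 0) (d : ι ⊕ ι) : muD a c s d ≠ 0 := by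
  unfold muD
  split_ifs
  · exact neg_ne_zero.mpr (inv_ne_zero hs)
  · exact hs
  · exact inv_ne_zero hs
  · exact neg_ne_zero.mpr hs
  · exact one_ne_zero

/-! ### membership -/

omit [DecidableEq ι] in
theorem h95_m_WD_mem_Ls (o a c : ι ⊕ ι) (s : K) (ha : a ≠ o) (ha' : a ≠ ng o) (hc : c ≠ o)
    (hc' : c ≠ ng o) : WD X a c s ∈ Ls X o := by
  rw [WD_eq]
  have h1 : ng a ≠ o := fun e => ha' (by rw [← e, ng_ng])
  have h2 : ng a ≠ ng o := fun e => ha (ng_injective e)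
  have h3 : ng c ≠ o := fun e => hc' (by rw [← e, ng_ng])
  have h4 : ng c ≠ ng o := fun e => hc (ng_injective e)
  exact mul_mem (mul_mem (X_mem_Ls o a c s ha ha' hc hc') (X_mem_Ls o _ _ _ h1 h2 h3 h4))
    (X_mem_Ls o a c s ha ha' hc hc')

omit [DecidableEq ι] in
theorem h95_m_Ls_le_Ps (o : ι ⊕ ι) : Ls X o ≤ Ps X o := (Ls_le_Gs o).trans (Gs_le_Ps o)

omit [DecidableEq ι] in
theorem h95_m_HD_mem_Ps (o a c : ι ⊕ ι) (s : K) (h1 : c ≠ a) (h2 : c ≠ ng a) (hs : s ≠ 0) :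
    HD X a c s ∈ Ps X o := Ts_le_Ps o (HD_mem_Ts a c s h1 h2 hs)

/-! ### calculus -/

/-- `WD γ = WD 1 * HD γ⁻¹` -/
theorem h95_m_wd_split (C : WCalcD X) (a c : ι ⊕ ι) (h1 : c ≠ a) (h2 : c ≠ ng a) (γ : K)
    (hγ : γ ≠ 0) : WD X a c γ = WD X a c 1 * HD X a c γ⁻¹ := by
  rw [C.wd_mul_hd a c h1 h2 1 γ⁻¹ one_ne_zero (inv_ne_zero hγ), inv_inv, one_mul]

theorem h95_m_ww (C : WCalcD X) (a c : ι ⊕ ι) (h1 : c ≠ a) (h2 : c ≠ ng a) (s : K) (hs : s ≠ 0)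
    (d e : ι ⊕ ι) (h3 : e ≠ d) (h4 : e ≠ ng d) (u : K) (hu : u ≠ 0) :
    ∃ γ : K, γ ≠ 0 ∧
      WD X a c s * WD X d e u * (WD X a c s)⁻¹ = WD X (sgD a c d) (sgD a c e) γ :=
  ⟨_, mul_ne_zero (mul_ne_zero (h95_m_muD_ne_zero a c s hs d) (h95_m_muD_ne_zero a c s hs e)) hu,
    C.ww_conj a c h1 h2 s hs d e h3 h4 u hu⟩

theorem h95_m_ww' (C : WCalcD X) (a c : ι ⊕ ι) (h1 : c ≠ a) (h2 : c ≠ ng a) (s : K) (hs : s ≠ 0)
    (d e : ι ⊕ ι) (h3 : e ≠ d) (h4 : e ≠ ng d) (u : K) (hu : u ≠ 0) :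
    ∃ γ : K, γ ≠ 0 ∧
      (WD X a c s)⁻¹ * WD X d e u * WD X a c s = WD X (sgD a c d) (sgD a c e) γ := by
  obtain ⟨γ, hγ, e1⟩ := h95_m_ww C a c h1 h2 (-s) (neg_ne_zero.mpr hs) d e h3 h4 u hu
  refine ⟨γ, hγ, ?_⟩
  rw [← e1, ← C.wd_inv a c h1 h2 s, inv_inv]

theorem h95_m_wh' (C : WCalcD X) (a c : ι ⊕ ι) (h1 : c ≠ a) (h2 : c ≠ ng a) (s : K) (hs : s ≠ 0)
    (d e : ι ⊕ ι) (h3 : e ≠ d) (h4 : e ≠ ng d) (u : K) (hu : u ≠ 0) :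
    (WD X a c s)⁻¹ * HD X d e u * WD X a c s = HD X (sgD a c d) (sgD a c e) u := by
  rw [← C.wh_conj a c h1 h2 (-s) (neg_ne_zero.mpr hs) d e h3 h4 u hu, ← C.wd_inv a c h1 h2 s,
    inv_inv]

/-! ### the cases of `mono_step` -/

/-- case (a): `k = o`, `d = 1` -/
theorem h95_m_caseA (C : WCalcD X) (o k2 : ι ⊕ ι) (hk2 : k2 ≠ o) (hk2' : k2 ≠ ng o) (β : K)
    (hβ : β ≠ 0) :
    ∃ d', IsRepD X o k2 d' ∧ ∃ p ∈ Ps X o, WD X (ng o) k2 β * 1 = d' * p := by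
  have h2 : k2 ≠ ng (ng o) := by rw [ng_ng]; exact hk2
  refine ⟨WD X (ng o) k2 1, Or.inr (Or.inl ⟨hk2, hk2', rfl⟩), HD X (ng o) k2 β⁻¹,
    h95_m_HD_mem_Ps o _ _ _ hk2' h2 (inv_ne_zero hβ), ?_⟩
  rw [mul_one]
  exact h95_m_wd_split C (ng o) k2 hk2' h2 β hβ

/-- case (b2): `k ∉ {o, o'}`, `k2 = o` -/
theorem h95_m_caseB2 (C : WCalcD X) (o k : ι ⊕ ι) (hko : k ≠ o) (hko' : k ≠ ng o) (β : K)
    (hβ : β ≠ 0) :
    ∃ d', IsRepD X o o d' ∧ ∃ p ∈ Ps X o, WD X (ng k) o β * WD X (ng o) k 1 = d' * p := by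
  have h2 : k ≠ ng (ng o) := by rw [ng_ng]; exact hko
  have hnβ : -β ≠ 0 := neg_ne_zero.mpr hβ
  have hm1 : (-1 : K) ≠ 0 := neg_ne_zero.mpr one_ne_zero
  have g1 : ng k ≠ o := fun e => hko' (by rw [← e, ng_ng])
  have g2 : ng k ≠ ng o := fun e => hko (ng_injective e)
  have e1 : WD X (ng k) o β = WD X o (ng k) (-β) := C.wd_anti o (ng k) g1 g2 β hβ
  have e2 : WD X o (ng k) (-β) = WD X (ng o) k (-β)⁻¹ := by
    have := C.wd_ng (ng o) k hko' h2 (-β) hnβ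
    rwa [ng_ng] at this
  have e3 : WD X (ng o) k 1 = (WD X (ng o) k (-1))⁻¹ := by
    rw [C.wd_inv (ng o) k hko' h2 (-1), neg_neg]
  refine ⟨1, Or.inl ⟨rfl, rfl⟩, HD X (ng o) k ((-β)⁻¹ * (-1)⁻¹), ?_, ?_⟩
  · exact h95_m_HD_mem_Ps o _ _ _ hko' h2 (mul_ne_zero (inv_ne_zero hnβ) (inv_ne_zero hm1))
  · rw [one_mul, e1, e2, e3]
    exact C.wd_mul_inv (ng o) k hko' h2 _ _ (inv_ne_zero hnβ) hm1

/-- case (b3): `k ∉ {o, o'}`, `k2 = o'` -/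
theorem h95_m_caseB3 (C : WCalcD X) (o k : ι ⊕ ι) (hko : k ≠ o) (hko' : k ≠ ng o) (β : K)
    (hβ : β ≠ 0) :
    ∃ d', IsRepD X o (ng o) d' ∧ ∃ p ∈ Ps X o,
      WD X (ng k) (ng o) β * WD X (ng o) k 1 = d' * p := by
  have h2 : k ≠ ng (ng o) := by rw [ng_ng]; exact hko
  have g1 : ng o ≠ ng k := fun e => hko (ng_injective e).symm
  have g2 : ng o ≠ ng (ng k) := by rw [ng_ng]; exact Ne.symm hko'
  have g3 : ng k ≠ ng o := Ne.symm g1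
  have g4 : ng k ≠ ng (ng o) := by
    rw [ng_ng]
    intro e
    exact hko' (by rw [← e, ng_ng])
  refine ⟨WD X (ng k) (ng o) 1 * WD X (ng o) k 1, Or.inr (Or.inr ⟨rfl, k, hko, hko', rfl⟩),
    (WD X (ng o) k 1)⁻¹ * HD X (ng k) (ng o) β⁻¹ * WD X (ng o) k 1, ?_, ?_⟩
  · rw [h95_m_wh' C (ng o) k hko' h2 1 one_ne_zero (ng k) (ng o) g1 g2 β⁻¹ (inv_ne_zero hβ),
      h95_m_sgD_ngsnd (ng o) k (ng k) rfl, h95_m_sgD_fst (ng o) k (ng o) rfl]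
    exact h95_m_HD_mem_Ps o _ _ _ g3 g4 (inv_ne_zero hβ)
  · rw [h95_m_wd_split C (ng k) (ng o) g1 g2 β hβ]
    group

/-- case (b1): `k, k2 ∉ {o, o'}` -/
theorem h95_m_caseB1 (C : WCalcD X) (o k k2 : ι ⊕ ι) (hko : k ≠ o) (hko' : k ≠ ng o)
    (hk2 : k2 ≠ k) (hk2' : k2 ≠ ng k) (hk2o : k2 ≠ o) (hk2o' : k2 ≠ ng o) (β : K) (hβ : β ≠ 0) :
    ∃ d', IsRepD X o k2 d' ∧ ∃ p ∈ Ps X o,
      WD X (ng k) k2 β * WD X (ng o) k 1 = d' * p := by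
  have h2 : k ≠ ng (ng o) := by rw [ng_ng]; exact hko
  have h2' : k2 ≠ ng (ng o) := by rw [ng_ng]; exact hk2o
  have hk2k : k2 ≠ ng (ng k) := by rw [ng_ng]; exact hk2
  have g1 : ng k ≠ o := fun e => hko' (by rw [← e, ng_ng])
  have g2 : ng k ≠ ng o := fun e => hko (ng_injective e)
  obtain ⟨γ, hγ, e1⟩ := h95_m_ww C (ng k) k2 hk2' hk2k β hβ (ng o) k hko' h2 1 one_ne_zero
  have s1 : sgD (ng k) k2 (ng o) = ng o := by
    apply h95_m_sgD_other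
    · exact Ne.symm g2
    · exact fun e => hk2o (ng_injective e).symm
    · exact Ne.symm hk2o'
    · rw [ng_ng]; exact Ne.symm hko'
  have s2 : sgD (ng k) k2 k = k2 := h95_m_sgD_ngfst (ng k) k2 k (ng_ng k).symm
  rw [s1, s2, h95_m_wd_split C (ng o) k2 hk2o' h2' γ hγ] at e1
  refine ⟨WD X (ng o) k2 1, Or.inr (Or.inl ⟨hk2o, hk2o', rfl⟩),
    HD X (ng o) k2 γ⁻¹ * WD X (ng k) k2 β, ?_, ?_⟩
  · exact mul_mem (h95_m_HD_mem_Ps o _ _ _ hk2o' h2' (inv_ne_zero hγ))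
      (h95_m_Ls_le_Ps o (h95_m_WD_mem_Ls o _ _ _ g1 g2 hk2o hk2o'))
  · rw [← mul_assoc, ← e1]
    group

/-- case (c1): `k = o'`, `j = k2` -/
theorem h95_m_caseC1 (C : WCalcD X) (o k2 : ι ⊕ ι) (hk2o : k2 ≠ o) (hk2o' : k2 ≠ ng o) (β : K)
    (hβ : β ≠ 0) :
    ∃ p ∈ Ps X o, WD X o k2 β * (WD X (ng k2) (ng o) 1 * WD X (ng o) k2 1) =
      WD X (ng o) k2 1 * p := by
  have h2' : k2 ≠ ng (ng o) := by rw [ng_ng]; exact hk2o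
  have hm1 : (-1 : K) ≠ 0 := neg_ne_zero.mpr one_ne_zero
  have g1 : ng k2 ≠ ng o := fun e => hk2o (ng_injective e)
  have g2 : ng k2 ≠ ng (ng o) := by
    rw [ng_ng]
    intro e
    exact hk2o' (by rw [← e, ng_ng])
  have e1 : WD X (ng k2) (ng o) 1 = WD X (ng o) (ng k2) (-1) :=
    C.wd_anti (ng o) (ng k2) g1 g2 1 one_ne_zero
  have e2 : WD X (ng o) (ng k2) (-1) = WD X o k2 (-1)⁻¹ := C.wd_ng o k2 hk2o hk2o' (-1) hm1
  have e3 : ((-1 : K))⁻¹ = -1 := by rw [inv_neg, inv_one]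
  have e4 : WD X o k2 (-1) = (WD X o k2 1)⁻¹ := (C.wd_inv o k2 hk2o hk2o' 1).symm
  have e5 : WD X o k2 β * (WD X o k2 1)⁻¹ = HD X o k2 (β * 1⁻¹) :=
    C.wd_mul_inv o k2 hk2o hk2o' β 1 hβ one_ne_zero
  have hβ1 : β * 1⁻¹ ≠ 0 := mul_ne_zero hβ (inv_ne_zero one_ne_zero)
  refine ⟨(WD X (ng o) k2 1)⁻¹ * HD X o k2 (β * 1⁻¹) * WD X (ng o) k2 1, ?_, ?_⟩
  · rw [h95_m_wh' C (ng o) k2 hk2o' h2' 1 one_ne_zero o k2 hk2o hk2o' _ hβ1,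
      h95_m_sgD_ngfst (ng o) k2 o (ng_ng o).symm, h95_m_sgD_snd (ng o) k2 k2 rfl, ng_ng]
    exact h95_m_HD_mem_Ps o _ _ _ (Ne.symm hk2o)
      (fun e => hk2o' (by rw [e, ng_ng])) hβ1
  · rw [e1, e2, e3, e4, ← mul_assoc, e5]
    group

/-- case (c2): `k = o'`, `j = k2'` -/
theorem h95_m_caseC2 (C : WCalcD X) (o k2 : ι ⊕ ι) (hk2o : k2 ≠ o) (hk2o' : k2 ≠ ng o) (β : K)
    (hβ : β ≠ 0) :
    ∃ p ∈ Ps X o, WD X o k2 β * (WD X k2 (ng o) 1 * WD X (ng o) (ng k2) 1) =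
      WD X (ng o) k2 1 * p := by
  have h2' : k2 ≠ ng (ng o) := by rw [ng_ng]; exact hk2o
  have hm1 : (-1 : K) ≠ 0 := neg_ne_zero.mpr one_ne_zero
  have g1 : ng o ≠ k2 := Ne.symm hk2o'
  have g2 : ng o ≠ ng k2 := fun e => hk2o (ng_injective e).symm
  obtain ⟨γ, hγ, e1⟩ := h95_m_ww C o k2 hk2o hk2o' β hβ k2 (ng o) g1 g2 1 one_ne_zero
  rw [h95_m_sgD_snd o k2 k2 rfl, h95_m_sgD_ngfst o k2 (ng o) rfl,
    h95_m_wd_split C (ng o) k2 hk2o' h2' γ hγ] at e1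
  have e2 : WD X (ng o) (ng k2) 1 = WD X o k2 1 := by
    rw [C.wd_ng o k2 hk2o hk2o' 1 one_ne_zero, inv_one]
  have e3 : WD X o k2 1 = (WD X o k2 (-1))⁻¹ := by
    rw [C.wd_inv o k2 hk2o hk2o' (-1), neg_neg]
  have e4 : WD X o k2 β * (WD X o k2 (-1))⁻¹ = HD X o k2 (β * (-1)⁻¹) :=
    C.wd_mul_inv o k2 hk2o hk2o' β (-1) hβ hm1
  refine ⟨HD X (ng o) k2 γ⁻¹ * HD X o k2 (β * (-1)⁻¹), ?_, ?_⟩
  · exact mul_mem (h95_m_HD_mem_Ps o _ _ _ hk2o' h2' (inv_ne_zero hγ))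
      (h95_m_HD_mem_Ps o _ _ _ hk2o hk2o' (mul_ne_zero hβ (inv_ne_zero hm1)))
  · rw [← mul_assoc (WD X (ng o) k2 1), ← e1, e2, ← e4, ← e3]
    group

/-- `rep_aux`: the two-step representatives for different `j` differ by an element of `Ps` -/
theorem h95_m_rep_aux (C : WCalcD X) (o j j2 : ι ⊕ ι) (hjo : j ≠ o) (hjo' : j ≠ ng o)
    (hj2o : j2 ≠ o) (hj2o' : j2 ≠ ng o) (hj2 : j2 ≠ j) (hj2' : j2 ≠ ng j) :
    ∃ p ∈ Ps X o, WD X (ng j) (ng o) 1 * WD X (ng o) j 1 =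
      WD X (ng j2) (ng o) 1 * WD X (ng o) j2 1 * p := by
  -- index facts
  have a1 : ng j ≠ o := fun e => hjo' (by rw [← e, ng_ng])
  have a2 : ng j ≠ ng o := fun e => hjo (ng_injective e)
  have a3 : ng j2 ≠ o := fun e => hj2o' (by rw [← e, ng_ng])
  have a4 : ng j2 ≠ ng o := fun e => hj2o (ng_injective e)
  have a5 : ng j ≠ ng j2 := fun e => hj2 (ng_injective e).symm
  have a6 : ng j ≠ j2 := fun e => hj2' e.symm
  have a7 : j2 ≠ ng (ng j) := by rw [ng_ng]; exact hj2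
  have a8 : ng o ≠ ng (ng j) := by rw [ng_ng]; exact Ne.symm hjo'
  have a9 : j ≠ ng (ng o) := by rw [ng_ng]; exact hjo
  have a10 : j2 ≠ ng (ng o) := by rw [ng_ng]; exact hj2o
  have a11 : ng o ≠ ng (ng j2) := by rw [ng_ng]; exact Ne.symm hj2o'
  -- the element `u`
  have hu : WD X (ng j) j2 1 ∈ Ls X o := h95_m_WD_mem_Ls o _ _ _ a1 a2 hj2o hj2o'
  -- `u * A * u⁻¹`
  obtain ⟨γ1, hγ1, e1⟩ := h95_m_ww C (ng j) j2 hj2' a7 1 one_ne_zero (ng j) (ng o)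
    (Ne.symm a2) a8 1 one_ne_zero
  have s0 : sgD (ng j) j2 (ng o) = ng o := by
    apply h95_m_sgD_other
    · exact Ne.symm a2
    · exact Ne.symm a4
    · exact Ne.symm hj2o'
    · rw [ng_ng]; exact Ne.symm hjo'
  rw [h95_m_sgD_fst (ng j) j2 (ng j) rfl, s0] at e1
  obtain ⟨γ2, hγ2, e2⟩ := h95_m_ww C (ng j) j2 hj2' a7 1 one_ne_zero (ng o) j hjo' a9 1 one_ne_zero
  rw [s0, h95_m_sgD_ngfst (ng j) j2 j (ng_ng j).symm] at e2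
  -- split off the torus parts
  rw [h95_m_wd_split C (ng j2) (ng o) (Ne.symm a4) a11 γ1 hγ1] at e1
  rw [h95_m_wd_split C (ng o) j2 hj2o' a10 γ2 hγ2] at e2
  -- move the first torus element to the right
  have e3 := h95_m_wh' C (ng o) j2 hj2o' a10 1 one_ne_zero (ng j2) (ng o) (Ne.symm a4) a11 γ1⁻¹
    (inv_ne_zero hγ1)
  rw [h95_m_sgD_ngsnd (ng o) j2 (ng j2) rfl, h95_m_sgD_fst (ng o) j2 (ng o) rfl] at e3
  have b1 : ng j2 ≠ ng (ng o) := by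
    rw [ng_ng]; exact a3
  have hτ1 : HD X (ng o) (ng j2) γ1⁻¹ ∈ Ps X o := h95_m_HD_mem_Ps o _ _ _ a4 b1 (inv_ne_zero hγ1)
  have hτ2 : HD X (ng o) j2 γ2⁻¹ ∈ Ps X o := h95_m_HD_mem_Ps o _ _ _ hj2o' a10 (inv_ne_zero hγ2)
  -- `D_{j2}⁻¹ u⁻¹ D_{j2}`
  have hm1 : (-1 : K) ≠ 0 := neg_ne_zero.mpr one_ne_zero
  have e4 : (WD X (ng j) j2 1)⁻¹ = WD X (ng j) j2 (-1) := C.wd_inv (ng j) j2 hj2' a7 1
  obtain ⟨γ3, hγ3, e5⟩ := h95_m_ww' C (ng j2) (ng o) (Ne.symm a4) a11 1 one_ne_zero (ng j) j2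
    (Ne.symm a6) a7 (-1) hm1
  have s3 : sgD (ng j2) (ng o) (ng j) = ng j := by
    apply h95_m_sgD_other
    · exact a5
    · rw [ng_ng]; exact a1
    · exact a2
    · rw [ng_ng]; exact a6
  rw [s3, h95_m_sgD_ngfst (ng j2) (ng o) j2 (ng_ng j2).symm] at e5
  obtain ⟨γ4, hγ4, e6⟩ := h95_m_ww' C (ng o) j2 hj2o' a10 1 one_ne_zero (ng j) (ng o)
    (Ne.symm a2) a8 γ3 hγ3
  have s4 : sgD (ng o) j2 (ng j) = ng j := by
    apply h95_m_sgD_other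
    · exact a2
    · exact a5
    · exact a6
    · rw [ng_ng]; exact a1
  rw [s4, h95_m_sgD_fst (ng o) j2 (ng o) rfl] at e6
  have hv : WD X (ng j) (ng j2) γ4 ∈ Ls X o := h95_m_WD_mem_Ls o _ _ _ a1 a2 a3 a4
  refine ⟨WD X (ng j) (ng j2) γ4 * (HD X (ng o) (ng j2) γ1⁻¹ * HD X (ng o) j2 γ2⁻¹) *
    WD X (ng j) j2 1, ?_, ?_⟩
  · exact mul_mem (mul_mem (h95_m_Ls_le_Ps o hv) (mul_mem hτ1 hτ2)) (h95_m_Ls_le_Ps o hu)
  · -- the group identity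
    rw [← e6, ← e5, ← e4, ← e3]
    have key : WD X (ng j) (ng o) 1 * WD X (ng o) j 1 =
        (WD X (ng j) j2 1)⁻¹ * ((WD X (ng j) j2 1 * WD X (ng j) (ng o) 1 * (WD X (ng j) j2 1)⁻¹) *
          (WD X (ng j) j2 1 * WD X (ng o) j 1 * (WD X (ng j) j2 1)⁻¹)) * WD X (ng j) j2 1 := by
      group
    rw [key, e1, e2]
    group

/-- **D_MONO** -/
theorem mono_step (h : DSt X) (C : WCalcD X) (o k k2 : ι ⊕ ι) (hk2 : k2 ≠ k) (hk2' : k2 ≠ ng k)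
    (β : K) (hβ : β ≠ 0) {d : G} (hd : IsRepD X o k d) :
    ∃ d', IsRepD X o k2 d' ∧ ∃ p ∈ Ps X o, WD X (ng k) k2 β * d = d' * p := by
  rcases hd with ⟨hk, rfl⟩ | ⟨hko, hko', rfl⟩ | ⟨hk, j, hjo, hjo', rfl⟩
  · -- (a)
    subst hk
    exact h95_m_caseA C k k2 hk2 hk2' β hβ
  · -- (b)
    by_cases c1 : k2 = o
    · subst c1
      exact h95_m_caseB2 C k2 k hko hko' β hβ
    · by_cases c2 : k2 = ng o
      · subst c2
        exact h95_m_caseB3 C o k hko hko' β hβ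
      · exact h95_m_caseB1 C o k k2 hko hko' hk2 hk2' c1 c2 β hβ
  · -- (c)
    subst hk
    rw [ng_ng] at hk2' ⊢
    have hd' : IsRepD X o k2 (WD X (ng o) k2 1) := Or.inr (Or.inl ⟨hk2', hk2, rfl⟩)
    refine ⟨WD X (ng o) k2 1, hd', ?_⟩
    by_cases c1 : j = k2
    · subst c1
      exact h95_m_caseC1 C o j hk2' hk2 β hβ
    · by_cases c2 : j = ng k2
      · subst c2
        rw [ng_ng]
        exact h95_m_caseC2 C o k2 hk2' hk2 β hβ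
      · have c2' : k2 ≠ ng j := fun e => c2 (by rw [e, ng_ng])
        obtain ⟨p0, hp0, e0⟩ := h95_m_rep_aux C o j k2 hjo hjo' hk2' hk2 (Ne.symm c1) c2'
        obtain ⟨p1, hp1, e1⟩ := h95_m_caseC1 C o k2 hk2' hk2 β hβ
        refine ⟨p1 * p0, mul_mem hp1 hp0, ?_⟩
        rw [e0, ← mul_assoc, e1, mul_assoc]

end Cfsg.Agent.Lib.Helper66_S96
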