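import Mathlib
import Cfsg.Agent.Lib.Helper66_S96Rank
import Cfsg.Agent.Lib.Helper95_S96_MONO
import Cfsg.Agent.Lib.Helper95_S96_FACT

/-!
# S2096 market (architect helper66), package D_PIV

Change of pivot: `X (ng k) k2 β * d` with `d` a monomial representative for the pivot `k`.
-/

set_option autoImplicit false
set_option linter.unusedVariables false
set_option linter.unusedSectionVars false

namespace Cfsg.Agent.Lib.Helper66_S96

open Cfsg.Agent.Lib.Helper5_SteinbergA Cfsg.Agent.Lib.Helper66_S92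

variable {ι : Type*} [DecidableEq ι] {K : Type*} [Field K] {G : Type*} [Group G]
  {X : ι ⊕ ι → ι ⊕ ι → K → G}

/-- the rank one identity: `X a c t = y * WD X a c t * y` with `y = X a' c' (-t⁻¹)` -/
theorem h46_rank1_id (h : DStAB X) (a c : ι ⊕ ι) (hr : Rel (pairD X a c)) (t : K) (ht : t ≠ 0) :
    X a c t = X (ng a) (ng c) (-t⁻¹) * WD X a c t * X (ng a) (ng c) (-t⁻¹) := by
  have e := hr.W_not true ht
  -- `W (pairD X a c) false (-t⁻¹) = WD X a c t`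
  have e1 : W (pairD X a c) (!true) (-t⁻¹) =
      X (ng a) (ng c) t⁻¹ * X a c t * X (ng a) (ng c) t⁻¹ := by
    show X (ng a) (ng c) (- -t⁻¹) * X a c (-(-t⁻¹)⁻¹) * X (ng a) (ng c) (- -t⁻¹) = _
    rw [neg_neg, inv_neg, inv_inv, neg_neg]
  have e2 : WD X a c t = X (ng a) (ng c) t⁻¹ * X a c t * X (ng a) (ng c) t⁻¹ := by
    rw [← e1]
    exact e.symm
  have i1 : X (ng a) (ng c) (-t⁻¹) * X (ng a) (ng c) t⁻¹ = 1 := h.X_neg_mul _ _ _
  have i2 : X (ng a) (ng c) t⁻¹ * X (ng a) (ng c) (-t⁻¹) = 1 := h.X_mul_neg _ _ _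
  rw [e2]
  calc X a c t = (X (ng a) (ng c) (-t⁻¹) * X (ng a) (ng c) t⁻¹) * X a c t *
        (X (ng a) (ng c) t⁻¹ * X (ng a) (ng c) (-t⁻¹)) := by rw [i1, i2, one_mul, mul_one]
    _ = _ := by group

theorem pivotD (h : DSt X) (C : WCalcD X) (o k k2 : ι ⊕ ι) (hk2 : k2 ≠ k) (hk2' : k2 ≠ ng k)
    (β : K) (hβ : β ≠ 0) {d : G} (hd : IsRepD X o k d) :
    RkD X o k2 (X (ng k) k2 β * d) := by
  have hr : Rel (pairD X (ng k) k2) := h.rank1 (ng k) k2 hk2' (by rwa [ng_ng])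
  have hid := h46_rank1_id h.toDStAB (ng k) k2 hr β hβ
  rw [ng_ng] at hid
  obtain ⟨d', hd', p, hp, hWd⟩ := mono_step h C o k k2 hk2 hk2' β hβ hd
  have hy : X k (ng k2) (-β⁻¹) ∈ Qs X (ng k2) := h.toDStAB.X_mem_Qs' (ng k2) k _
  have hγ1 : d⁻¹ * X k (ng k2) (-β⁻¹) * d ∈ Gs X o :=
    factD h.toDStAB C o k hd k (ng k2) _ (ng_ne k) (fun e => hk2 (ng_injective e).symm)
  refine ⟨X k (ng k2) (-β⁻¹), hy, d', hd', p * (d⁻¹ * X k (ng k2) (-β⁻¹) * d),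
    (Ps X o).mul_mem hp (Gs_le_Ps o hγ1), ?_⟩
  rw [hid]
  calc X k (ng k2) (-β⁻¹) * WD X (ng k) k2 β * X k (ng k2) (-β⁻¹) * d
      = X k (ng k2) (-β⁻¹) * (WD X (ng k) k2 β * d) * (d⁻¹ * X k (ng k2) (-β⁻¹) * d) := by group
    _ = X k (ng k2) (-β⁻¹) * d' * (p * (d⁻¹ * X k (ng k2) (-β⁻¹) * d)) := by rw [hWd]; group

end Cfsg.Agent.Lib.Helper66_S96
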