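import Mathlib
import Cfsg.Agent.Lib.Helper66_S96Rank
import Cfsg.Agent.Lib.Helper53_S96_NORM
import Cfsg.Agent.Lib.Helper95_S96_FACT

/-!
S2096 package D_E12 (architect helper66): the coset relation `RkD X o k` is stable under left
multiplication with root elements `X a c t` whose indices avoid `k` and `ng k` (E2), or hit
`ng k` (E1).
-/

set_option autoImplicit false
set_option linter.unusedVariables false
set_option linter.unusedSectionVars false

namespace Cfsg.Agent.Lib.Helper66_S96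

open Cfsg.Agent.Lib.Helper5_SteinbergA Cfsg.Agent.Lib.Helper66_S92

variable {ι : Type*} [DecidableEq ι] {K : Type*} [Field K] {G : Type*} [Group G]
  {X : ι ⊕ ι → ι ⊕ ι → K → G}

/-- a root element with an index `ng k` lies in `Qs X (ng k)` -/
theorem h74_X_mem_Qs_of_ng (h : DStAB X) (k a c : ι ⊕ ι) (t : K) (hk : ng k = a ∨ ng k = c) :
    X a c t ∈ Qs X (ng k) := by
  rcases hk with rfl | rfl
  · exact h.X_mem_Qs (ng k) c t
  · exact h.X_mem_Qs' (ng k) a t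

theorem Rk_E1D (h : DStAB X) (o k a c : ι ⊕ ι) (t : K) (hk : ng k = a ∨ ng k = c) {g : G}
    (hR : RkD X o k g) : RkD X o k (X a c t * g) := by
  obtain ⟨q, hq, d, hd, p, hp, rfl⟩ := hR
  refine ⟨X a c t * q, Subgroup.mul_mem _ (h74_X_mem_Qs_of_ng h k a c t hk) hq, d, hd, p, hp, ?_⟩
  simp only [mul_assoc]

/-- `Rk_E2D` from the statements of D_NORM (`conj_mem_QsD`) and D_FACT (`factD`) -/
theorem h74_Rk_E2D_of
    (hconj : ∀ (j a c : ι ⊕ ι) (t : K), ng j ≠ a → ng j ≠ c → ∀ {q : G}, q ∈ Qs X j →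
      X a c t * q * (X a c t)⁻¹ ∈ Qs X j)
    (hfact : ∀ (o k : ι ⊕ ι) {d : G}, IsRepD X o k d → ∀ (a c : ι ⊕ ι) (t : K), ng k ≠ a →
      ng k ≠ c → d⁻¹ * X a c t * d ∈ Gs X o)
    (o k a c : ι ⊕ ι) (t : K) (h1 : k ≠ a) (h2 : k ≠ c)
    (h3 : ng k ≠ a) (h4 : ng k ≠ c) {g : G} (hR : RkD X o k g) : RkD X o k (X a c t * g) := by
  obtain ⟨q, hq, d, hd, p, hp, rfl⟩ := hR
  refine ⟨X a c t * q * (X a c t)⁻¹,
    hconj (ng k) a c t (by rw [ng_ng]; exact h1) (by rw [ng_ng]; exact h2) hq, d, hd,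
    (d⁻¹ * X a c t * d) * p,
    Subgroup.mul_mem _ (Gs_le_Ps o (hfact o k hd a c t h3 h4)) hp, ?_⟩
  group

theorem Rk_E2D (h : DStAB X) (C : WCalcD X) (o k a c : ι ⊕ ι) (t : K) (h1 : k ≠ a) (h2 : k ≠ c)
    (h3 : ng k ≠ a) (h4 : ng k ≠ c) {g : G} (hR : RkD X o k g) : RkD X o k (X a c t * g) :=
  h74_Rk_E2D_of (fun j a c t hj1 hj2 _ hq => conj_mem_QsD h j a c t hj1 hj2 hq)
    (fun o k _ hd a c t hka hkc => factD h C o k hd a c t hka hkc) o k a c t h1 h2 h3 h4 hR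

end Cfsg.Agent.Lib.Helper66_S96
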