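import Mathlib
import Cfsg.Agent.Lib.Helper66_S96Rank
import Cfsg.Agent.Lib.Helper81_UceA

set_option autoImplicit false
set_option linter.unusedVariables false
set_option linter.unusedSectionVars false
set_option linter.unusedSimpArgs false

/-!
Package D_QS of helper66's `s96_packages` market (S2096/S2097, Steinberg presentation of type `D`):
the abstract unipotent radical `Qs X j` (abelian in type `D`) splits off the root group `X j e`, and
an element of `Qs X j` fixing `b_{ng j}` is trivial.  (Port of `Helper74_S92_HEIS`; private lemmas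
are prefixed `h78_`.)
-/

namespace Cfsg.Agent.Lib.Helper66_S96

open Cfsg.Agent.Lib.Helper5_SteinbergA Cfsg.Agent.Lib.Helper66_S92 Cfsg.Agent.Lib.Helper81_UceA

variable {ι : Type*} [DecidableEq ι] {K : Type*} [Field K] {G : Type*} [Group G]
  {X : ι ⊕ ι → ι ⊕ ι → K → G}

/-- the root elements `X j e t`, `X j c u` commute -/
theorem h78_Qs_comm (h : DStAB X) (j e c : ι ⊕ ι) (he' : e ≠ ng j) (hc : c ≠ ng j) (t u : K) :
    X j e t * X j c u = X j c u * X j e t := by
  by_cases hce : c = ng e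
  · subst hce
    rw [h.anti e j t, h.anti (ng e) j u]
    exact h.comm2 e j (-t) (-u)
  · exact h.comm j e j c t u (ne_ng j) (fun h' => he' (by rw [h', ng_ng])) hc hce

/-- `X j e t` commutes with the subgroup generated by the `X j c u` -/
theorem h78_comm_closure (h : DStAB X) (j e : ι ⊕ ι) (he' : e ≠ ng j)
    (P : ι ⊕ ι → Prop) (t : K) {n : G}
    (hn : n ∈ Subgroup.closure {g | ∃ c u, c ≠ ng j ∧ c ≠ e ∧ P c ∧ g = X j c u}) :
    X j e t * n = n * X j e t := by
  have hle : Subgroup.closure {g | ∃ c u, c ≠ ng j ∧ c ≠ e ∧ P c ∧ g = X j c u} ≤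
      Subgroup.centralizer {X j e t} := by
    rw [Subgroup.closure_le]
    rintro _ ⟨c, u, hc1, -, -, rfl⟩
    rw [SetLike.mem_coe, Subgroup.mem_centralizer_iff]
    intro y hy
    rw [Set.mem_singleton_iff] at hy
    rw [hy]
    exact h78_Qs_comm h j e c he' hc1 t u
  exact Subgroup.mem_centralizer_iff.mp (hle hn) _ rfl

/-- splitting off the root group `X j e` -/
theorem h78_split (h : DStAB X) (j e : ι ⊕ ι) (he : e ≠ j) (he' : e ≠ ng j)
    (P : ι ⊕ ι → Prop) {q : G}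
    (hq : q ∈ Subgroup.closure {g | ∃ c t, c ≠ ng j ∧ (c = e ∨ P c) ∧ g = X j c t}) :
    ∃ q₂ ∈ Subgroup.closure {g | ∃ c t, c ≠ ng j ∧ c ≠ e ∧ P c ∧ g = X j c t}, ∃ β : K,
      q = q₂ * X j e β := by
  have key : ∀ c t, c ≠ ng j → (c = e ∨ P c) → ∀ y : G,
      (∃ q₂ ∈ Subgroup.closure {g | ∃ c t, c ≠ ng j ∧ c ≠ e ∧ P c ∧ g = X j c t}, ∃ β : K,
        y = q₂ * X j e β) →
      ∃ q₂ ∈ Subgroup.closure {g | ∃ c t, c ≠ ng j ∧ c ≠ e ∧ P c ∧ g = X j c t}, ∃ β : K,
        X j c t * y = q₂ * X j e β := by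
    rintro c t hc1 hc2 y ⟨q₂, hq₂, β, rfl⟩
    by_cases hce : c = e
    · subst hce
      refine ⟨q₂, hq₂, t + β, ?_⟩
      rw [← mul_assoc, h78_comm_closure h j c he' P t hq₂, mul_assoc, h.add]
    · have hPc : P c := hc2.resolve_left hce
      refine ⟨X j c t * q₂, mul_mem (Subgroup.subset_closure ⟨c, t, hc1, hce, hPc, rfl⟩) hq₂,
        β, ?_⟩
      rw [mul_assoc]
  induction hq using Subgroup.closure_induction_left with
  | one => exact ⟨1, one_mem _, 0, by rw [h.X_zero, one_mul]⟩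
  | mul_left x hx y _ ih =>
    obtain ⟨c, t, hc1, hc2, rfl⟩ := hx
    exact key c t hc1 hc2 y ih
  | inv_mul_cancel x hx y _ ih =>
    obtain ⟨c, t, hc1, hc2, rfl⟩ := hx
    rw [h.X_inv]
    exact key c (-t) hc1 hc2 y ih

theorem Qs_splitD (h : DStAB X) (j e : ι ⊕ ι) (he : e ≠ j) (he' : e ≠ ng j) {q : G}
    (hq : q ∈ Qs X j) :
    ∃ q₂ ∈ Subgroup.closure {g | ∃ c t, c ≠ ng j ∧ c ≠ e ∧ g = X j c t}, ∃ β : K,
      q = q₂ * X j e β := by
  have hq' : q ∈ Subgroup.closure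
      {g | ∃ c t, c ≠ ng j ∧ (c = e ∨ (fun _ : ι ⊕ ι => True) c) ∧ g = X j c t} := by
    refine Subgroup.closure_mono ?_ hq
    rintro _ ⟨c, t, hc, rfl⟩
    exact ⟨c, t, hc, Or.inr trivial, rfl⟩
  obtain ⟨q₂, hq₂, β, hqe⟩ := h78_split h j e he he' (fun _ => True) hq'
  refine ⟨q₂, ?_, β, hqe⟩
  refine Subgroup.closure_mono ?_ hq₂
  rintro _ ⟨c, t, hc1, hc2, -, rfl⟩
  exact ⟨c, t, hc1, hc2, rfl⟩

/-- the generators `X j c t` with `c ≠ e` do not change the coordinate `e ≠ j` -/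
theorem h78_act_Qs_ne (ρ : G →* Module.End K (ι ⊕ ι → K)) (hρ : IsActD X ρ)
    (j e : ι ⊕ ι) (hej : e ≠ j) {q : G}
    (hq : q ∈ Subgroup.closure {g | ∃ c t, c ≠ ng j ∧ c ≠ e ∧ g = X j c t}) (v : ι ⊕ ι → K) :
    ρ q v e = v e := by
  induction hq using Subgroup.closure_induction generalizing v with
  | mem x hx =>
    obtain ⟨c, t, hc1, hc2, rfl⟩ := hx
    rw [hρ]
    unfold xactD
    rw [if_neg hc1]
    simp [hej, Ne.symm hc2]
  | one => simp
  | mul x y _ _ ihx ihy =>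
    rw [map_mul, Module.End.mul_apply, ihx, ihy]
  | inv x _ ihx =>
    have e1 : ρ x (ρ x⁻¹ v) = v := by
      rw [← Module.End.mul_apply, ← map_mul, mul_inv_cancel, map_one, Module.End.one_apply]
    rw [← ihx (ρ x⁻¹ v), e1]

theorem h78_inj_aux (h : DStAB X) (ρ : G →* Module.End K (ι ⊕ ι → K)) (hρ : IsActD X ρ)
    (j : ι ⊕ ι) (T : Finset (ι ⊕ ι)) : ∀ {q : G},
    q ∈ Subgroup.closure {g | ∃ c t, c ≠ ng j ∧ (c = j ∨ c ∈ T) ∧ g = X j c t} →
    ρ q (Pi.single (ng j) 1) = Pi.single (ng j) 1 → q = 1 := by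
  induction T using Finset.induction_on with
  | empty =>
    intro q hq hfix
    have hle : Subgroup.closure {g | ∃ c t, c ≠ ng j ∧ (c = j ∨ c ∈ (∅ : Finset (ι ⊕ ι))) ∧
        g = X j c t} ≤ ⊥ := by
      rw [Subgroup.closure_le]
      rintro _ ⟨c, t, hc1, hc2, rfl⟩
      simp only [Finset.notMem_empty, or_false] at hc2
      subst hc2
      rw [h.diag]
      exact Subgroup.mem_bot.mpr rfl
    exact Subgroup.mem_bot.mp (hle hq)
  | insert e T heT ih =>
    intro q hq hfix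
    by_cases he : e = j ∨ e = ng j
    · refine ih (Subgroup.closure_mono ?_ hq) hfix
      rintro _ ⟨c, t, hc1, hc2, rfl⟩
      refine ⟨c, t, hc1, ?_, rfl⟩
      rcases hc2 with hc2 | hc2
      · exact Or.inl hc2
      · rcases Finset.mem_insert.mp hc2 with hc2 | hc2
        · subst hc2
          rcases he with he | he
          · exact Or.inl he
          · exact absurd he hc1
        · exact Or.inr hc2
    · push Not at he
      obtain ⟨he1, he2⟩ := he
      have hq' : q ∈ Subgroup.closure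
          {g | ∃ c t, c ≠ ng j ∧ (c = e ∨ (fun c => c = j ∨ c ∈ T) c) ∧ g = X j c t} := by
        refine Subgroup.closure_mono ?_ hq
        rintro _ ⟨c, t, hc1, hc2, rfl⟩
        refine ⟨c, t, hc1, ?_, rfl⟩
        rcases hc2 with hc2 | hc2
        · exact Or.inr (Or.inl hc2)
        · rcases Finset.mem_insert.mp hc2 with hc2 | hc2
          · exact Or.inl hc2
          · exact Or.inr (Or.inr hc2)
      obtain ⟨q₂, hq₂, β, rfl⟩ :=
        h78_split h j e he1 he2 (fun c => c = j ∨ c ∈ T) hq'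
      have hq₂' : q₂ ∈ Subgroup.closure {g | ∃ c t, c ≠ ng j ∧ c ≠ e ∧ g = X j c t} := by
        refine Subgroup.closure_mono ?_ hq₂
        rintro _ ⟨c, t, hc1, hc2, -, rfl⟩
        exact ⟨c, t, hc1, hc2, rfl⟩
      have hβ : β = 0 := by
        have e1 := congrFun hfix e
        rw [map_mul, Module.End.mul_apply, h78_act_Qs_ne ρ hρ j e he1 hq₂', hρ] at e1
        unfold xactD at e1
        rw [if_neg he2] at e1
        simp [Pi.single_apply, he1, he2] at e1
        exact e1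
      subst hβ
      rw [h.X_zero, mul_one] at hfix ⊢
      refine ih (Subgroup.closure_mono ?_ hq₂) hfix
      rintro _ ⟨c, t, hc1, hc2, hc3, rfl⟩
      exact ⟨c, t, hc1, hc3, rfl⟩

theorem Qs_injD [Fintype ι] (h : DStAB X) (ρ : G →* Module.End K (ι ⊕ ι → K)) (hρ : IsActD X ρ)
    (j : ι ⊕ ι) {q : G} (hq : q ∈ Qs X j)
    (hfix : ρ q (Pi.single (ng j) 1) = Pi.single (ng j) 1) : q = 1 := by
  refine h78_inj_aux h ρ hρ j Finset.univ (Subgroup.closure_mono ?_ hq) hfix
  rintro _ ⟨c, t, hc, rfl⟩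
  exact ⟨c, t, hc, Or.inr (Finset.mem_univ _), rfl⟩

end Cfsg.Agent.Lib.Helper66_S96
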