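import Mathlib
import Cfsg.Agent.Lib.Helper78_S96_QS
import Cfsg.Agent.Lib.Helper58_S96_EVALA
import Cfsg.Agent.Lib.Helper78_S96_EVALB
import Cfsg.Agent.Lib.Helper46_S96_PIV
import Cfsg.Agent.Lib.Helper74_S96_E12

set_option autoImplicit false
set_option linter.unusedVariables false
set_option linter.unusedSectionVars false

/-!
Package D_LEMW of the S2096 market (architect helper66): change of pivot in the coset relation
`RkD X o k g`.
-/

namespace Cfsg.Agent.Lib.Helper66_S96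

open Cfsg.Agent.Lib.Helper5_SteinbergA Cfsg.Agent.Lib.Helper66_S92

variable {ι : Type*} [DecidableEq ι] {K : Type*} [Field K] {G : Type*} [Group G]
  {X : ι ⊕ ι → ι ⊕ ι → K → G}

/-- the vector of an element of `Q d P` -/
theorem h74_lemw_vec (ρ : G →* Module.End K (ι ⊕ ι → K)) (hρ : IsActD X ρ) (o k : ι ⊕ ι) (q : G)
    {d : G} (hd : IsRepD X o k d) {p : G} (hp : p ∈ Ps X o) :
    ∃ s : K, s ≠ 0 ∧ ρ (q * d * p) (Pi.single o 1) = s • ρ q (Pi.single k 1) := by
  obtain ⟨s₁, hs₁, e₁⟩ := act_PsD ρ hρ o hp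
  obtain ⟨s₂, hs₂, e₂⟩ := act_RepD ρ hρ o k hd
  refine ⟨s₁ * s₂, mul_ne_zero hs₁ hs₂, ?_⟩
  rw [map_mul, map_mul, Module.End.mul_apply, Module.End.mul_apply, e₁, map_smul, e₂, map_smul,
    map_smul, smul_smul]

/-- the coset relation is stable under right multiplication by `Ps X o` -/
theorem h74_Rk_mul_Ps (o k : ι ⊕ ι) {g p : G} (hR : RkD X o k g) (hp : p ∈ Ps X o) :
    RkD X o k (g * p) := by
  obtain ⟨q, hq, d, hd, p', hp', rfl⟩ := hR
  exact ⟨q, hq, d, hd, p' * p, mul_mem hp' hp, by rw [mul_assoc]⟩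

/-- the coset relation with pivot `k2` is stable under left multiplication by the
`X (ng k) c t`, `c ≠ k`, `c ≠ k2` -/
theorem h74_lemw_left (h : DStAB X) (C : WCalcD X) (o k k2 : ι ⊕ ι) (hk2 : k2 ≠ k)
    (hk2' : k2 ≠ ng k) {n : G}
    (hn : n ∈ Subgroup.closure {g | ∃ c t, c ≠ ng (ng k) ∧ c ≠ k2 ∧ g = X (ng k) c t})
    {y : G} (hy : RkD X o k2 y) : RkD X o k2 (n * y) := by
  have key : ∀ c t, c ≠ ng (ng k) → c ≠ k2 → ∀ y : G, RkD X o k2 y →
      RkD X o k2 (X (ng k) c t * y) := by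
    intro c t hc1 hc2 y hy
    by_cases hc : ng k2 = c
    · exact Rk_E1D h o k2 (ng k) c t (Or.inr hc) hy
    · refine Rk_E2D h C o k2 (ng k) c t hk2' (Ne.symm hc2) ?_ hc hy
      intro h'
      exact hk2 (ng_injective h')
  induction hn using Subgroup.closure_induction_left generalizing y with
  | one => rwa [one_mul]
  | mul_left x hx z _ ih =>
    obtain ⟨c, t, hc1, hc2, rfl⟩ := hx
    rw [mul_assoc]
    exact key c t hc1 hc2 _ (ih hy)
  | inv_mul_cancel x hx z _ ih =>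
    obtain ⟨c, t, hc1, hc2, rfl⟩ := hx
    rw [mul_assoc, h.X_inv]
    exact key c (-t) hc1 hc2 _ (ih hy)

/-- change of pivot, the case `k2 ≠ ng k` -/
theorem h74_lemw_short (h : DSt X) (C : WCalcD X) (ρ : G →* Module.End K (ι ⊕ ι → K))
    (hρ : IsActD X ρ) (o k k2 : ι ⊕ ι) (hk2 : k2 ≠ k) (hk2' : k2 ≠ ng k) {g : G}
    (hR : RkD X o k g) (hv : ρ g (Pi.single o 1) k2 ≠ 0) : RkD X o k2 g := by
  obtain ⟨q, hq, d, hd, p, hp, rfl⟩ := hR
  have hk2'' : k2 ≠ ng (ng k) := by rwa [ng_ng]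
  obtain ⟨q₂, hq₂, β, rfl⟩ := Qs_splitD h.toDStAB (ng k) k2 hk2' hk2'' hq
  obtain ⟨s, hs, e⟩ := h74_lemw_vec ρ hρ o k (q₂ * X (ng k) k2 β) hd hp
  rw [e, map_mul, Module.End.mul_apply, Pi.smul_apply,
    act_Qs_neD ρ hρ (ng k) k2 hk2' hq₂, hρ] at hv
  have hβ : β ≠ 0 := by
    rintro rfl
    apply hv
    unfold xactD
    rw [if_neg hk2'']
    simp [Pi.single_apply, hk2]
  have hpv := pivotD h C o k k2 hk2 hk2' β hβ hd
  have e1 : q₂ * X (ng k) k2 β * d * p = q₂ * (X (ng k) k2 β * d * p) := by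
    group
  rw [e1]
  exact h74_lemw_left h.toDStAB C o k k2 hk2 hk2' hq₂ (h74_Rk_mul_Ps o k2 hpv hp)

/-- `Qs X j` consists of products of root elements -/
theorem h74_Qs_le_closure (j : ι ⊕ ι) :
    Qs X j ≤ Subgroup.closure {g | ∃ a c t, g = X a c t} := by
  unfold Qs
  apply Subgroup.closure_mono
  rintro _ ⟨c, t, -, rfl⟩
  exact ⟨j, c, t, rfl⟩

/-- the quadratic form of a vector supported on `{k, ng k}` -/
theorem h74_qD_two [Fintype ι] (k : ι ⊕ ι) (w : ι ⊕ ι → K)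
    (hw : ∀ e, e ≠ k → e ≠ ng k → w e = 0) : qD w = w k * w (ng k) := by
  unfold qD
  rcases k with i | i
  · rw [Finset.sum_eq_single i]
    · rfl
    · intro b _ hb
      rw [hw (Sum.inl b) (by simpa using hb) (by simp), zero_mul]
    · intro hi
      exact absurd (Finset.mem_univ i) hi
  · rw [Finset.sum_eq_single i]
    · rw [mul_comm]; rfl
    · intro b _ hb
      rw [hw (Sum.inl b) (by simp) (by simpa using hb), zero_mul]
    · intro hi
      exact absurd (Finset.mem_univ i) hi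

theorem lemWD [Fintype ι] (h : DSt X) (C : WCalcD X) (ρ : G →* Module.End K (ι ⊕ ι → K))
    (hρ : IsActD X ρ) (o k k2 : ι ⊕ ι) {g : G} (hR : RkD X o k g)
    (hv : ρ g (Pi.single o 1) k2 ≠ 0) : RkD X o k2 g := by
  by_cases hk : k2 = k
  · rw [hk]; exact hR
  by_cases hk' : k2 = ng k
  swap
  · exact h74_lemw_short h C ρ hρ o k k2 hk hk' hR hv
  subst hk'
  by_cases hex : ∃ e, e ≠ k ∧ e ≠ ng k ∧ ρ g (Pi.single o 1) e ≠ 0
  · obtain ⟨e, he1, he2, he3⟩ := hex
    have h1 := h74_lemw_short h C ρ hρ o k e he1 he2 hR he3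
    refine h74_lemw_short h C ρ hρ o e (ng k) (Ne.symm he2) ?_ h1 hv
    intro h'
    exact he1 (ng_injective h').symm
  · exfalso
    push Not at hex
    obtain ⟨q, hq, d, hd, p, hp, rfl⟩ := hR
    obtain ⟨s, hs, e⟩ := h74_lemw_vec ρ hρ o k q hd hp
    rw [e] at hv hex
    -- the vector `ρ q b_k`
    set w := ρ q (Pi.single k 1) with hw
    have hwk : w k = 1 := by
      have := act_Qs_ngD ρ hρ (ng k) hq (Pi.single k 1)
      rw [ng_ng] at this
      rw [hw, this, Pi.single_eq_same]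
    have hwe : ∀ e, e ≠ k → e ≠ ng k → w e = 0 := by
      intro e he1 he2
      have := hex e he1 he2
      rw [Pi.smul_apply, smul_eq_mul] at this
      exact (mul_eq_zero.mp this).resolve_left hs
    have hμ : w (ng k) ≠ 0 := by
      intro h0
      apply hv
      rw [Pi.smul_apply, h0, smul_zero]
    have hq0 : qD w = 0 := by
      rw [hw, act_qD ρ hρ (h74_Qs_le_closure (ng k) hq), h74_qD_two k _ (by
        intro e he1 he2
        rw [Pi.single_eq_of_ne he1]), Pi.single_eq_of_ne (ng_ne k), mul_zero]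
    rw [h74_qD_two k w hwe, hwk, one_mul] at hq0
    exact hμ hq0

end Cfsg.Agent.Lib.Helper66_S96
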