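import Mathlib
import Cfsg.Agent.Lib.Helper74_S96_LEMW

set_option autoImplicit false
set_option linter.unusedVariables false
set_option linter.unusedSectionVars false

/-!
Package D_STEP of the S2096 market (architect helper66): the coset relation `RRD X o` is stable
under left multiplication by root elements, and the abstract stabiliser of a line.
-/

namespace Cfsg.Agent.Lib.Helper66_S96

open Cfsg.Agent.Lib.Helper5_SteinbergA Cfsg.Agent.Lib.Helper66_S92

variable {ι : Type*} [DecidableEq ι] {K : Type*} [Field K] {G : Type*} [Group G]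
  {X : ι ⊕ ι → ι ⊕ ι → K → G}

/-- elements of `Qs X j` are determined by their effect on `b_{ng j}` -/
theorem h74_Qs_eq_of_act [Fintype ι] (h : DStAB X) (ρ : G →* Module.End K (ι ⊕ ι → K))
    (hρ : IsActD X ρ) (j : ι ⊕ ι) {q q' : G} (hq : q ∈ Qs X j) (hq' : q' ∈ Qs X j)
    (he : ρ q (Pi.single (ng j) 1) = ρ q' (Pi.single (ng j) 1)) : q = q' := by
  have e3 : q'⁻¹ * q = 1 := by
    apply Qs_injD h ρ hρ j (mul_mem (inv_mem hq') hq)
    rw [map_mul, Module.End.mul_apply, he, ← Module.End.mul_apply, ← map_mul,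
      inv_mul_cancel, map_one, Module.End.one_apply]
  rw [inv_mul_eq_one] at e3
  exact e3.symm

/-- the step when the vector of `g` is supported on `{a, c}` and the pivot is `a` -/
theorem h74_rr_step_aux [Fintype ι] (h : DSt X) (C : WCalcD X)
    (ρ : G →* Module.End K (ι ⊕ ι → K)) (hρ : IsActD X ρ) (o a c : ι ⊕ ι) (hca : c ≠ ng a)
    (hac : c ≠ a) (t : K) {g : G} (hR : RkD X o a g)
    (hsupp : ∀ e, e ≠ a → e ≠ c → ρ g (Pi.single o 1) e = 0) : RkD X o a (X a c t * g) := by
  obtain ⟨q, hq, d, hd, p, hp, rfl⟩ := hR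
  obtain ⟨s, hs, e⟩ := h74_lemw_vec ρ hρ o a q hd hp
  rw [e] at hsupp
  set w := ρ q (Pi.single a 1) with hw
  have hwa : w a = 1 := by
    have := act_Qs_ngD ρ hρ (ng a) hq (Pi.single a 1)
    rw [ng_ng] at this
    rw [hw, this, Pi.single_eq_same]
  have hwe : ∀ e, e ≠ a → e ≠ c → w e = 0 := by
    intro e he1 he2
    have := hsupp e he1 he2
    rw [Pi.smul_apply, smul_eq_mul] at this
    exact (mul_eq_zero.mp this).resolve_left hs
  -- moving `X a c t` across `d`
  have hfact := factD h.toDStAB C o a hd a c t (ng_ne a) (Ne.symm hca)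
  have hq' : X (ng a) c (-(w c)) ∈ Qs X (ng a) := h.toDStAB.X_mem_Qs (ng a) c (-(w c))
  have e2 : ρ (X (ng a) c (-(w c))) (Pi.single a 1) = w := by
    rw [hρ]
    unfold xactD
    have hc1 : c ≠ ng (ng a) := by rw [ng_ng]; exact hac
    rw [if_neg hc1]
    funext e
    by_cases he1 : e = a
    · subst he1
      simp [hwa, ne_ng, Ne.symm hac]
    by_cases he2 : e = c
    · subst he2
      have : ng e ≠ a := fun h' => hca (by rw [← h', ng_ng])
      simp [hac, this]
    · have hce : c ≠ e := Ne.symm he2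
      by_cases he3 : e = ng a
      · subst he3
        have : ng c ≠ a := fun h' => hca (by rw [← h', ng_ng])
        simp [hce, hwe (ng a) he1 he2, Ne.symm he1, this]
      · simp [he1, he2, he3, hwe e he1 he2]
  have hqe : q = X (ng a) c (-(w c)) := by
    apply h74_Qs_eq_of_act h.toDStAB ρ hρ (ng a) hq hq'
    rw [ng_ng, e2]
  refine ⟨q, hq, d, hd, (d⁻¹ * X a c t * d) * p, mul_mem (Gs_le_Ps o hfact) hp, ?_⟩
  have hcomm : X a c t * q = q * X a c t := by
    rw [hqe]
    exact h.comm2 a c t _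
  calc X a c t * (q * d * p) = (X a c t * q) * d * p := by group
    _ = q * X a c t * d * p := by rw [hcomm]
    _ = _ := by group

theorem RR_stepD [Fintype ι] (h : DSt X) (C : WCalcD X) (ρ : G →* Module.End K (ι ⊕ ι → K))
    (hρ : IsActD X ρ) (o a c : ι ⊕ ι) (t : K) {g : G} (hR : RRD X o g) :
    RRD X o (X a c t * g) := by
  by_cases hca : c = ng a
  · subst hca
    rwa [h.opp, one_mul]
  by_cases hac : c = a
  · subst hac
    rwa [h.diag, one_mul]
  obtain ⟨k, hRk⟩ := hR
  by_cases hex : ∃ k2, k2 ≠ a ∧ k2 ≠ c ∧ ρ g (Pi.single o 1) k2 ≠ 0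
  · obtain ⟨k2, h1, h2, h3⟩ := hex
    have hR2 := lemWD h C ρ hρ o k k2 hRk h3
    refine ⟨k2, ?_⟩
    by_cases hE : ng k2 = a ∨ ng k2 = c
    · exact Rk_E1D h.toDStAB o k2 a c t hE hR2
    · push Not at hE
      exact Rk_E2D h.toDStAB C o k2 a c t h1 h2 hE.1 hE.2 hR2
  · push Not at hex
    -- the pivot is `a` or `c`
    have hvk : ρ g (Pi.single o 1) k ≠ 0 := by
      obtain ⟨q, hq, d, hd, p, hp, rfl⟩ := hRk
      obtain ⟨s, hs, e⟩ := h74_lemw_vec ρ hρ o k q hd hp
      rw [e, Pi.smul_apply]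
      have := act_Qs_ngD ρ hρ (ng k) hq (Pi.single k 1)
      rw [ng_ng] at this
      rw [this, Pi.single_eq_same, smul_eq_mul, mul_one]
      exact hs
    have hk : k = a ∨ k = c := by
      by_contra hk
      push Not at hk
      exact hvk (hex k hk.1 hk.2)
    rcases hk with rfl | rfl
    · exact ⟨k, h74_rr_step_aux h C ρ hρ o k c hca hac t hRk hex⟩
    · refine ⟨k, ?_⟩
      rw [h.anti]
      refine h74_rr_step_aux h C ρ hρ o k a ?_ (Ne.symm hac) (-t) hRk
        (fun e he1 he2 => hex e he2 he1)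
      intro h'
      exact hca (by rw [h', ng_ng])

/-- the coset relation holds for all elements -/
theorem h74_RR_all [Fintype ι] (h : DSt X) (C : WCalcD X) (ρ : G →* Module.End K (ι ⊕ ι → K))
    (hρ : IsActD X ρ) (hgen : Subgroup.closure {g | ∃ a c t, g = X a c t} = ⊤) (o : ι ⊕ ι)
    (g : G) : RRD X o g := by
  have hg : g ∈ Subgroup.closure {g | ∃ a c t, g = X a c t} := by
    rw [hgen]; exact Subgroup.mem_top g
  induction hg using Subgroup.closure_induction_left with
  | one =>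
    refine ⟨o, 1, one_mem _, 1, Or.inl ⟨rfl, rfl⟩, 1, one_mem _, ?_⟩
    rw [one_mul, one_mul]
  | mul_left x hx y _ ih =>
    obtain ⟨a, c, t, rfl⟩ := hx
    exact RR_stepD h C ρ hρ o a c t ih
  | inv_mul_cancel x hx y _ ih =>
    obtain ⟨a, c, t, rfl⟩ := hx
    rw [h.toDStAB.X_inv]
    exact RR_stepD h C ρ hρ o a c (-t) ih

theorem stabD [Fintype ι] (h : DSt X) (C : WCalcD X) (ρ : G →* Module.End K (ι ⊕ ι → K))
    (hρ : IsActD X ρ) (hgen : Subgroup.closure {g | ∃ a c t, g = X a c t} = ⊤) (o : ι ⊕ ι) (g : G)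
    (s : K) (hs : s ≠ 0) (hg : ρ g (Pi.single o 1) = s • Pi.single o 1) : g ∈ Ps X o := by
  obtain ⟨k, q, hq, d, hd, p, hp, rfl⟩ := h74_RR_all h C ρ hρ hgen o g
  obtain ⟨s', hs', e⟩ := h74_lemw_vec ρ hρ o k q hd hp
  rw [e] at hg
  have hqk : ρ q (Pi.single k 1) k = 1 := by
    have := act_Qs_ngD ρ hρ (ng k) hq (Pi.single k 1)
    rw [ng_ng] at this
    rw [this, Pi.single_eq_same]
  have hko : k = o := by
    by_contra hko
    have := congrFun hg k
    rw [Pi.smul_apply, hqk, smul_eq_mul, mul_one, Pi.smul_apply, Pi.single_eq_of_ne hko,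
      smul_zero] at this
    exact hs' this
  subst hko
  have hs1 : s' = s := by
    have := congrFun hg k
    rwa [Pi.smul_apply, hqk, smul_eq_mul, mul_one, Pi.smul_apply, Pi.single_eq_same,
      smul_eq_mul, mul_one] at this
  subst hs1
  have hg' : ρ q (Pi.single k 1) = Pi.single k 1 := by
    have := congrArg (fun v => s'⁻¹ • v) hg
    simpa only [smul_smul, inv_mul_cancel₀ hs', one_smul] using this
  have hq1 : q = 1 := by
    apply h74_Qs_eq_of_act h.toDStAB ρ hρ (ng k) hq (one_mem _)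
    rw [ng_ng, map_one, Module.End.one_apply, hg']
  have hd1 : d = 1 := by
    rcases hd with ⟨-, rfl⟩ | ⟨hk1, -, -⟩ | ⟨hk1, -⟩
    · rfl
    · exact absurd rfl hk1
    · exact absurd hk1 (ne_ng k)
  subst hq1 hd1
  rw [one_mul, one_mul]
  exact hp

end Cfsg.Agent.Lib.Helper66_S96
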