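import Mathlib
import Cfsg.Agent.Lib.Helper66_S96Rank
import Cfsg.Agent.Lib.Helper17_S96_TS
import Cfsg.Agent.Lib.Helper17_S96_TL
import Cfsg.Agent.Lib.Helper58_S96_EVALA
import Cfsg.Agent.Lib.Helper53_S96_NORM
import Cfsg.Agent.Lib.Helper78_S96_QS
import Cfsg.Agent.Lib.Helper74_S96_STEP

/-!
# S2096 market (architect helper66), package D_KER

The kernel of the action lies in the Levi factor `Ls X o`.
-/

set_option autoImplicit false
set_option linter.unusedVariables false
set_option linter.unusedSectionVars false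

namespace Cfsg.Agent.Lib.Helper66_S96

open Cfsg.Agent.Lib.Helper5_SteinbergA Cfsg.Agent.Lib.Helper66_S92

variable {ι : Type*} [DecidableEq ι] {K : Type*} [Field K] {G : Type*} [Group G]
  {X : ι ⊕ ι → ι ⊕ ι → K → G}

theorem ker_le_LsD [Fintype ι] (h : DSt X) (C : WCalcD X) (ρ : G →* Module.End K (ι ⊕ ι → K))
    (hρ : IsActD X ρ) (hgen : Subgroup.closure {g | ∃ a c t, g = X a c t} = ⊤)
    (h3 : 3 ≤ Fintype.card ι) (o : ι ⊕ ι) (g : G) (hg : ρ g = 1) : g ∈ Ls X o := by
  have hgp : g ∈ Ps X o := by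
    apply stabD h C ρ hρ hgen o g 1 one_ne_zero
    rw [hg, Module.End.one_apply, one_smul]
  obtain ⟨γ, hγ, t, ht, rfl⟩ := Ps_eq C o hgp
  have htfix : ρ t (Pi.single o 1) = Pi.single o 1 := by
    have h1 := congrArg (fun f => f (Pi.single o 1)) hg
    simp only [map_mul, Module.End.mul_apply, Module.End.one_apply] at h1
    have hγinv : ρ γ⁻¹ (Pi.single o 1) = Pi.single o 1 :=
      act_GsD ρ hρ o ((Gs X o).inv_mem hγ)
    calc ρ t (Pi.single o 1) = ρ γ⁻¹ (ρ γ (ρ t (Pi.single o 1))) := by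
          rw [← Module.End.mul_apply, ← map_mul, inv_mul_cancel, map_one, Module.End.one_apply]
      _ = ρ γ⁻¹ (Pi.single o 1) := by rw [h1]
      _ = Pi.single o 1 := hγinv
  have htG : t ∈ Gs X o := torus_fix h C ρ hρ h3 o ht htfix
  have hgs : γ * t ∈ Gs X o := (Gs X o).mul_mem hγ htG
  obtain ⟨q, hq, l, hl, hql⟩ := Gs_eqD h.toDStAB o hgs
  have hq1 : q = 1 := by
    apply Qs_injD h.toDStAB ρ hρ o hq
    have h1 := congrArg (fun f => f (Pi.single (ng o) 1)) hg
    rw [hql] at h1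
    simp only [map_mul, Module.End.mul_apply, Module.End.one_apply] at h1
    rwa [act_LsD ρ hρ o hl] at h1
  rw [hql, hq1, one_mul]
  exact hl

end Cfsg.Agent.Lib.Helper66_S96
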