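import Mathlib
import Cfsg.Agent.Lib.Helper66_S96Rank

set_option autoImplicit false
set_option linter.unusedVariables false
set_option linter.unusedSectionVars false
set_option linter.unusedSimpArgs false

/-!
Package D_BASE2 of the S2096 market (architect helper66): the kernel of the action for two
indices, `G = Φ(SL₂) Φ'(SL₂)`.
-/

namespace Cfsg.Agent.Lib.Helper66_S96

open Cfsg.Agent.Lib.Helper5_SteinbergA Cfsg.Agent.Lib.Helper5_SLPresA Cfsg.Agent.Lib.Helper66_StCalc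
  Cfsg.Agent.Lib.Helper66_S92 Matrix

variable {ι : Type*} [DecidableEq ι] {K : Type*} [Field K] {G : Type*} [Group G]
  {X : ι ⊕ ι → ι ⊕ ι → K → G}

/-- the coordinates of the action of the image of `A ∈ SL₂(K)` for the root of `X a c` -/
def h74_PhiAct (ρ : G →* Module.End K (ι ⊕ ι → K)) (a c : ι ⊕ ι)
    (Φ : Matrix.SpecialLinearGroup (Fin 2) K →* G) (A : Matrix.SpecialLinearGroup (Fin 2) K) :
    Prop :=
  ∀ v : ι ⊕ ι → K,
    ρ (Φ A) v a = A 0 0 * v a + A 0 1 * v (ng c) ∧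
    ρ (Φ A) v (ng c) = A 1 0 * v a + A 1 1 * v (ng c) ∧
    ρ (Φ A) v c = A 0 0 * v c - A 0 1 * v (ng a) ∧
    ρ (Φ A) v (ng a) = -(A 1 0 * v c) + A 1 1 * v (ng a)

theorem h74_phiAct_one (ρ : G →* Module.End K (ι ⊕ ι → K)) (a c : ι ⊕ ι)
    (Φ : Matrix.SpecialLinearGroup (Fin 2) K →* G) : h74_PhiAct ρ a c Φ 1 := by
  intro v
  simp [Module.End.one_apply]

theorem h74_phiAct_mul (ρ : G →* Module.End K (ι ⊕ ι → K)) (a c : ι ⊕ ι)
    (Φ : Matrix.SpecialLinearGroup (Fin 2) K →* G) {A B : Matrix.SpecialLinearGroup (Fin 2) K}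
    (hA : h74_PhiAct ρ a c Φ A) (hB : h74_PhiAct ρ a c Φ B) : h74_PhiAct ρ a c Φ (A * B) := by
  intro v
  obtain ⟨b1, b2, b3, b4⟩ := hB v
  obtain ⟨a1, a2, a3, a4⟩ := hA (ρ (Φ B) v)
  rw [map_mul, map_mul, Module.End.mul_apply, a1, a2, a3, a4, b1, b2, b3, b4]
  simp only [Matrix.SpecialLinearGroup.coe_mul, Matrix.mul_apply, Fin.sum_univ_two]
  refine ⟨?_, ?_, ?_, ?_⟩ <;> ring

theorem h74_phiAct_mx (ρ : G →* Module.End K (ι ⊕ ι → K)) (hρ : IsActD X ρ) (a c : ι ⊕ ι)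
    (h1 : c ≠ a) (h2 : c ≠ ng a) (Φ : Matrix.SpecialLinearGroup (Fin 2) K →* G)
    (e1 : ∀ t, Φ (mx (true, t)) = X a c t) (e2 : ∀ t, Φ (mx (false, t)) = X (ng a) (ng c) (-t))
    (p : Bool × K) : h74_PhiAct ρ a c Φ (mx p) := by
  have h3 : ng c ≠ a := fun h' => h2 (by rw [← h', ng_ng])
  have h4 : ng c ≠ ng a := fun h' => h1 (ng_injective h')
  obtain ⟨b, t⟩ := p
  intro v
  cases b
  · rw [e2, hρ]
    unfold xactD
    rw [if_neg (show ¬ ng c = ng (ng a) by rw [ng_ng]; exact h3)]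
    simp [mx_false, Pi.single_apply, h1, h2, h3, h4, Ne.symm h1, Ne.symm h2, Ne.symm h3,
      Ne.symm h4, ne_ng, ng_ne]
    exact ⟨add_comm _ _, add_comm _ _⟩
  · rw [e1, hρ]
    unfold xactD
    rw [if_neg h2]
    simp [mx_true, Pi.single_apply, h1, h2, h3, h4, Ne.symm h1, Ne.symm h2, Ne.symm h3,
      Ne.symm h4, ne_ng, ng_ne]

theorem h74_mx_inv (b : Bool) (t : K) : (mx (b, t))⁻¹ = mx (b, -t) := by
  apply inv_eq_of_mul_eq_one_right
  rw [mx_add, add_neg_cancel]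
  cases b <;>
  · ext i j
    fin_cases i <;> fin_cases j <;> simp [mx_true, mx_false]

theorem h74_phiAct_all (ρ : G →* Module.End K (ι ⊕ ι → K)) (hρ : IsActD X ρ) (a c : ι ⊕ ι)
    (h1 : c ≠ a) (h2 : c ≠ ng a) (Φ : Matrix.SpecialLinearGroup (Fin 2) K →* G)
    (e1 : ∀ t, Φ (mx (true, t)) = X a c t) (e2 : ∀ t, Φ (mx (false, t)) = X (ng a) (ng c) (-t))
    (A : Matrix.SpecialLinearGroup (Fin 2) K) : h74_PhiAct ρ a c Φ A := by
  have hA : A ∈ Subgroup.closure (Set.range (mx (K := K))) := by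
    rw [closure_mx]; exact Subgroup.mem_top A
  induction hA using Subgroup.closure_induction_left with
  | one => exact h74_phiAct_one ρ a c Φ
  | mul_left x hx y _ ih =>
    obtain ⟨p, rfl⟩ := hx
    exact h74_phiAct_mul ρ a c Φ (h74_phiAct_mx ρ hρ a c h1 h2 Φ e1 e2 p) ih
  | inv_mul_cancel x hx y _ ih =>
    obtain ⟨⟨b, t⟩, rfl⟩ := hx
    rw [h74_mx_inv]
    exact h74_phiAct_mul ρ a c Φ (h74_phiAct_mx ρ hρ a c h1 h2 Φ e1 e2 (b, -t)) ih

/-- two homs out of `SL₂` whose values on the generators commute have commuting images -/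
theorem h74_commute_of_gen {H : Type*} [Group H]
    (f g : Matrix.SpecialLinearGroup (Fin 2) K →* H)
    (hfg : ∀ p q, Commute (f (mx p)) (g (mx q))) (A B : Matrix.SpecialLinearGroup (Fin 2) K) :
    Commute (f A) (g B) := by
  have key : ∀ (q : Bool × K) (A : Matrix.SpecialLinearGroup (Fin 2) K),
      Commute (f A) (g (mx q)) := by
    intro q A
    have hA : A ∈ Subgroup.closure (Set.range (mx (K := K))) := by
      rw [closure_mx]; exact Subgroup.mem_top A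
    induction hA using Subgroup.closure_induction with
    | mem x hx =>
      obtain ⟨p, rfl⟩ := hx
      exact hfg p q
    | one => rw [map_one]; exact Commute.one_left _
    | mul x y _ _ ihx ihy => rw [map_mul]; exact Commute.mul_left ihx ihy
    | inv x _ ih => rw [map_inv]; exact Commute.inv_left ih
  have hB : B ∈ Subgroup.closure (Set.range (mx (K := K))) := by
    rw [closure_mx]; exact Subgroup.mem_top B
  induction hB using Subgroup.closure_induction with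
  | mem x hx =>
    obtain ⟨q, rfl⟩ := hx
    exact key q A
  | one => rw [map_one]; exact Commute.one_right _
  | mul x y _ _ ihx ihy => rw [map_mul]; exact Commute.mul_right ihx ihy
  | inv x _ ih => rw [map_inv]; exact Commute.inv_right ih

theorem h74_comm2a (h : DStAB X) (a c : ι ⊕ ι) (t u : K) :
    Commute (X a c t) (X (ng a) c u) := h.comm2 a c t u

theorem h74_comm2b (h : DStAB X) (a c : ι ⊕ ι) (t u : K) :
    Commute (X c a t) (X c (ng a) u) := by
  rw [h.anti a c, h.anti (ng a) c]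
  exact h.comm2 a c _ _

theorem h74_exists_two [Fintype ι] (h2 : Fintype.card ι = 2) :
    ∃ i j : ι, i ≠ j ∧ ∀ k, k = i ∨ k = j := by
  have h2' : (Finset.univ : Finset ι).card = 2 := by rw [Finset.card_univ]; exact h2
  obtain ⟨i, j, hij, huniv⟩ := Finset.card_eq_two.mp h2'
  refine ⟨i, j, hij, fun k => ?_⟩
  have := Finset.mem_univ k
  rw [huniv] at this
  simpa using this

/-- with two indices every root element lies in the image of `Φ` or of `Φ'` -/
theorem h74_gen_cases (h : DStAB X) (a c : ι ⊕ ι)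
    (hall : ∀ x : ι ⊕ ι, x = a ∨ x = c ∨ x = ng a ∨ x = ng c)
    (Φ Φ' : Matrix.SpecialLinearGroup (Fin 2) K →* G)
    (p1 : ∀ t, Φ (mx (true, t)) = X a c t) (p2 : ∀ t, Φ (mx (false, t)) = X (ng a) (ng c) (-t))
    (q1 : ∀ t, Φ' (mx (true, t)) = X a (ng c) t) (q2 : ∀ t, Φ' (mx (false, t)) = X (ng a) c (-t))
    (d e : ι ⊕ ι) (t : K) : ∃ M, X d e t = Φ M ∨ X d e t = Φ' M := by
  have one : ∀ x : G, x = 1 → ∃ M, x = Φ M ∨ x = Φ' M := fun x hx => ⟨1, Or.inl (by rw [hx, map_one])⟩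
  rcases hall d with rfl | rfl | rfl | rfl <;> rcases hall e with rfl | rfl | rfl | rfl
  · exact one _ (h.diag _ _)
  · exact ⟨mx (true, t), Or.inl (p1 t).symm⟩
  · exact one _ (h.opp _ _)
  · exact ⟨mx (true, t), Or.inr (q1 t).symm⟩
  · exact ⟨mx (true, -t), Or.inl (by rw [p1, h.anti])⟩
  · exact one _ (h.diag _ _)
  · exact ⟨mx (false, t), Or.inr (by rw [q2, h.anti])⟩
  · exact one _ (h.opp _ _)
  · exact one _ (h.opp' _ _)
  · exact ⟨mx (false, -t), Or.inr (by rw [q2, neg_neg])⟩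
  · exact one _ (h.diag _ _)
  · exact ⟨mx (false, -t), Or.inl (by rw [p2, neg_neg])⟩
  · exact ⟨mx (true, -t), Or.inr (by rw [q1, h.anti])⟩
  · exact one _ (h.opp' _ _)
  · exact ⟨mx (false, t), Or.inl (by rw [p2, h.anti])⟩
  · exact one _ (h.diag _ _)

/-- with two indices the group is the product of the two images of `SL₂` -/
theorem h74_decomp (h : DStAB X) (a c : ι ⊕ ι)
    (hall : ∀ x : ι ⊕ ι, x = a ∨ x = c ∨ x = ng a ∨ x = ng c)
    (Φ Φ' : Matrix.SpecialLinearGroup (Fin 2) K →* G)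
    (p1 : ∀ t, Φ (mx (true, t)) = X a c t) (p2 : ∀ t, Φ (mx (false, t)) = X (ng a) (ng c) (-t))
    (q1 : ∀ t, Φ' (mx (true, t)) = X a (ng c) t) (q2 : ∀ t, Φ' (mx (false, t)) = X (ng a) c (-t))
    (hcomm : ∀ A B, Commute (Φ A) (Φ' B)) {g : G}
    (hg : g ∈ Subgroup.closure {g | ∃ a c t, g = X a c t}) : ∃ A B, g = Φ A * Φ' B := by
  have key : ∀ d e t (y : G), (∃ A B, y = Φ A * Φ' B) → ∃ A B, X d e t * y = Φ A * Φ' B := by
    rintro d e t _ ⟨A, B, rfl⟩
    obtain ⟨M, hM | hM⟩ := h74_gen_cases h a c hall Φ Φ' p1 p2 q1 q2 d e t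
    · exact ⟨M * A, B, by rw [hM, map_mul, mul_assoc]⟩
    · refine ⟨A, M * B, ?_⟩
      rw [hM, map_mul, ← mul_assoc, ← mul_assoc, (hcomm A M).eq]
  induction hg using Subgroup.closure_induction_left with
  | one => exact ⟨1, 1, by rw [map_one, map_one, one_mul]⟩
  | mul_left x hx y _ ih =>
    obtain ⟨d, e, t, rfl⟩ := hx
    exact key d e t y ih
  | inv_mul_cancel x hx y _ ih =>
    obtain ⟨d, e, t, rfl⟩ := hx
    rw [h.X_inv]
    exact key d e (-t) y ih

theorem h74_sl2_ext (A B : Matrix.SpecialLinearGroup (Fin 2) K) (h00 : A 0 0 = B 0 0)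
    (h01 : A 0 1 = B 0 1) (h10 : A 1 0 = B 1 0) (h11 : A 1 1 = B 1 1) : A = B := by
  ext i j
  fin_cases i <;> fin_cases j <;> assumption

theorem h74_ker_two_aux [Finite K] (h : DSt X)
    (hgen : Subgroup.closure {g | ∃ a c t, g = X a c t} = ⊤)
    (ρ : G →* Module.End K (ι ⊕ ι → K)) (hρ : IsActD X ρ) (a c : ι ⊕ ι) (h1 : c ≠ a)
    (h2 : c ≠ ng a) (hall : ∀ x : ι ⊕ ι, x = a ∨ x = c ∨ x = ng a ∨ x = ng c) (g : G)
    (hg : ρ g = 1) : g = 1 ∨ g = zD X a c := by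
  have h3 : ng c ≠ a := fun h' => h2 (by rw [← h', ng_ng])
  have h4 : ng c ≠ ng a := fun h' => h1 (ng_injective h')
  obtain ⟨Φ, p1, p2, -, p4⟩ := h.exists_phiD a c h1 h2
  obtain ⟨Φ', q1, q2, -, q4⟩ := h.exists_phiD a (ng c) h3 h4
  simp only [pairD_true, pairD_false, ng_ng] at p1 p2 q1 q2
  have hcomm : ∀ A B, Commute (Φ A) (Φ' B) := by
    apply h74_commute_of_gen
    rintro ⟨b, t⟩ ⟨b', u⟩
    cases b <;> cases b'
    · rw [p2, q2]
      have := h74_comm2b h.toDStAB (ng c) (ng a) (-t) (-u)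
      rwa [ng_ng] at this
    · rw [p2, q1]
      have := h74_comm2a h.toDStAB (ng a) (ng c) (-t) u
      rwa [ng_ng] at this
    · rw [p1, q2]
      exact h74_comm2a h.toDStAB a c t (-u)
    · rw [p1, q1]
      exact h74_comm2b h.toDStAB c a t u
  obtain ⟨A, B, rfl⟩ := h74_decomp h.toDStAB a c hall Φ Φ' p1 p2 q1 q2 hcomm
    (by rw [hgen]; exact Subgroup.mem_top g)
  have actA := h74_phiAct_all ρ hρ a c h1 h2 Φ p1 p2 A
  have actB := h74_phiAct_all ρ hρ a (ng c) h3 h4 Φ' q1 (by simpa only [ng_ng] using q2) B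
  have key : ∀ v, ρ (Φ A) (ρ (Φ' B) v) = v := by
    intro v
    rw [← Module.End.mul_apply, ← map_mul, hg, Module.End.one_apply]
  have E : ∀ v : ι ⊕ ι → K,
      v a = A 0 0 * (B 0 0 * v a + B 0 1 * v c) + A 0 1 * (B 0 0 * v (ng c) - B 0 1 * v (ng a)) ∧
      v (ng c) = A 1 0 * (B 0 0 * v a + B 0 1 * v c) +
        A 1 1 * (B 0 0 * v (ng c) - B 0 1 * v (ng a)) ∧
      v c = A 0 0 * (B 1 0 * v a + B 1 1 * v c) -
        A 0 1 * (-(B 1 0 * v (ng c)) + B 1 1 * v (ng a)) ∧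
      v (ng a) = -(A 1 0 * (B 1 0 * v a + B 1 1 * v c)) +
        A 1 1 * (-(B 1 0 * v (ng c)) + B 1 1 * v (ng a)) := by
    intro v
    obtain ⟨b1, b2, b3, b4⟩ := actB v
    obtain ⟨a1, a2, a3, a4⟩ := actA (ρ (Φ' B) v)
    rw [key v] at a1 a2 a3 a4
    rw [ng_ng] at b1 b2
    rw [b1, b3] at a1 a2
    rw [b2, b4] at a3 a4
    exact ⟨a1, a2, a3, a4⟩
  have ha' : a ≠ ng a := ne_ng a
  obtain ⟨u1, u2, u3, u4⟩ := E (Pi.single a 1)
  obtain ⟨v1, v2, v3, v4⟩ := E (Pi.single (ng a) 1)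
  obtain ⟨w1, w2, w3, w4⟩ := E (Pi.single c 1)
  simp only [Pi.single_eq_same, Pi.single_eq_of_ne h1, Pi.single_eq_of_ne h2,
    Pi.single_eq_of_ne h3, Pi.single_eq_of_ne h4, Pi.single_eq_of_ne (Ne.symm h1),
    Pi.single_eq_of_ne (Ne.symm h2), Pi.single_eq_of_ne (Ne.symm h3),
    Pi.single_eq_of_ne (Ne.symm h4), Pi.single_eq_of_ne (ne_ng a), Pi.single_eq_of_ne (ng_ne a),
    Pi.single_eq_of_ne (ne_ng c), Pi.single_eq_of_ne (ng_ne c), mul_zero, mul_one, add_zero,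
    zero_add, sub_zero, zero_sub, neg_zero] at u1 u2 u3 u4 v1 v2 v3 v4 w1 w2 w3 w4
  have hA00 : A 0 0 ≠ 0 := fun h0 => by rw [h0, zero_mul] at u1; exact one_ne_zero u1
  have hB00 : B 0 0 ≠ 0 := fun h0 => by rw [h0, mul_zero] at u1; exact one_ne_zero u1
  have hA11 : A 1 1 ≠ 0 := fun h0 => by rw [h0, zero_mul] at v4; exact one_ne_zero v4
  have hB11 : B 1 1 ≠ 0 := fun h0 => by rw [h0, mul_zero] at v4; exact one_ne_zero v4
  have A10 : A 1 0 = 0 := (mul_eq_zero.mp u2.symm).resolve_right hB00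
  have B10 : B 1 0 = 0 := (mul_eq_zero.mp u3.symm).resolve_left hA00
  have B01 : B 0 1 = 0 := (mul_eq_zero.mp w1.symm).resolve_left hA00
  have A01 : A 0 1 = 0 := by
    have := v3
    rw [zero_eq_neg] at this
    exact (mul_eq_zero.mp this).resolve_right hB11
  have dA : A 0 0 * A 1 1 = 1 := by
    have := A.2
    rw [Matrix.det_fin_two, A01, zero_mul, sub_zero] at this
    exact this
  have dB : B 0 0 * B 1 1 = 1 := by
    have := B.2
    rw [Matrix.det_fin_two, B01, zero_mul, sub_zero] at this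
    exact this
  have hBB : B 0 0 = B 1 1 := mul_left_cancel₀ hA00 (u1.symm.trans w3)
  have hsq : B 0 0 * B 0 0 = 1 := by
    have := dB
    rwa [← hBB] at this
  have hm1 : (-1 : K) ≠ 0 := neg_ne_zero.mpr one_ne_zero
  rcases mul_self_eq_one_iff.mp hsq with hb | hb
  · left
    have b11 : B 1 1 = 1 := by rw [← hBB, hb]
    have a00 : A 0 0 = 1 := by rw [hb, mul_one] at u1; exact u1.symm
    have a11 : A 1 1 = 1 := by rw [b11, mul_one] at v4; exact v4.symm
    have hA1 : A = 1 := h74_sl2_ext A 1 (by rw [a00]; simp) (by rw [A01]; simp)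
      (by rw [A10]; simp) (by rw [a11]; simp)
    have hB1 : B = 1 := h74_sl2_ext B 1 (by rw [hb]; simp) (by rw [B01]; simp)
      (by rw [B10]; simp) (by rw [b11]; simp)
    rw [hA1, hB1, map_one, map_one, one_mul]
  · right
    have b11 : B 1 1 = -1 := by rw [← hBB, hb]
    have a00 : A 0 0 = -1 := by
      rw [hb, mul_neg, mul_one] at u1
      linear_combination u1
    have a11 : A 1 1 = -1 := by
      rw [b11, mul_neg, mul_one] at v4
      linear_combination v4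
    have hA1 : A = Dm (-1) hm1 := h74_sl2_ext A _ (by rw [a00]; simp [Dm_coe])
      (by rw [A01]; simp [Dm_coe]) (by rw [A10]; simp [Dm_coe])
      (by rw [a11]; simp [Dm_coe, inv_neg])
    have hB1 : B = Dm (-1) hm1 := h74_sl2_ext B _ (by rw [hb]; simp [Dm_coe])
      (by rw [B01]; simp [Dm_coe]) (by rw [B10]; simp [Dm_coe])
      (by rw [b11]; simp [Dm_coe, inv_neg])
    rw [hA1, hB1, p4, q4]
    rfl

theorem ker_cases_two [Fintype ι] [Finite K] (h : DSt X)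
    (hgen : Subgroup.closure {g | ∃ a c t, g = X a c t} = ⊤)
    (ρ : G →* Module.End K (ι ⊕ ι → K)) (hρ : IsActD X ρ) (h2 : Fintype.card ι = 2) (g : G)
    (hg : ρ g = 1) : g = 1 ∨ ∃ a c, c ≠ a ∧ c ≠ ng a ∧ g = zD X a c := by
  obtain ⟨i, j, hij, hall0⟩ := h74_exists_two h2
  have h1 : (Sum.inl j : ι ⊕ ι) ≠ Sum.inl i := fun h' => hij (Sum.inl_injective h').symm
  have h2' : (Sum.inl j : ι ⊕ ι) ≠ ng (Sum.inl i) := by simp
  have hall : ∀ x : ι ⊕ ι, x = Sum.inl i ∨ x = Sum.inl j ∨ x = ng (Sum.inl i) ∨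
      x = ng (Sum.inl j) := by
    rintro (k | k)
    · rcases hall0 k with rfl | rfl
      · exact Or.inl rfl
      · exact Or.inr (Or.inl rfl)
    · rcases hall0 k with rfl | rfl
      · exact Or.inr (Or.inr (Or.inl rfl))
      · exact Or.inr (Or.inr (Or.inr rfl))
  rcases h74_ker_two_aux h hgen ρ hρ _ _ h1 h2' hall g hg with hg1 | hg1
  · exact Or.inl hg1
  · exact Or.inr ⟨_, _, h1, h2', hg1⟩

end Cfsg.Agent.Lib.Helper66_S96
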