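import Mathlib
import Cfsg.Agent.Lib.Helper66_S96Rank
import Cfsg.Agent.Lib.Helper81_UceA
import Cfsg.Agent.Lib.Helper66_S96Asm
import Cfsg.Agent.Lib.Helper41_S96_RESTRICT
import Cfsg.Agent.Lib.Helper46_S96_KER
import Cfsg.Agent.Lib.Helper74_S96_BASE2

/-!
# S2096 market (architect helper66), package D_MAIN

The kernel of the action of a group with a Steinberg family of type `D` over a finite field on the
natural module has at most two elements, by induction on the number of indices.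
-/

set_option autoImplicit false
set_option linter.unusedVariables false
set_option linter.unusedSectionVars false

namespace Cfsg.Agent.Lib.Helper66_S96

open Cfsg.Agent.Lib.Helper5_SteinbergA Cfsg.Agent.Lib.Helper66_S92 Cfsg.Agent.Lib.Helper81_UceA

theorem h46_smap_ng {ι κ : Type*} (f : κ → ι) (a : κ ⊕ κ) :
    Sum.map f f (ng a) = ng (Sum.map f f a) := by
  cases a <;> rfl

/-- the Weyl elements of a family with values in a subgroup -/
theorem h46_coe_WD {ι κ : Type*} {K : Type*} [Field K] {G : Type*} [Group G] (L : Subgroup G)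
    (f : κ → ι) (X : ι ⊕ ι → ι ⊕ ι → K → G) (X' : κ ⊕ κ → κ ⊕ κ → K → L)
    (hX : ∀ a c t, ((X' a c t : L) : G) = X (Sum.map f f a) (Sum.map f f c) t)
    (a c : κ ⊕ κ) (s : K) :
    ((WD X' a c s : L) : G) = WD X (Sum.map f f a) (Sum.map f f c) s := by
  rw [WD_eq, WD_eq, Subgroup.coe_mul, Subgroup.coe_mul, hX, hX, h46_smap_ng, h46_smap_ng]

theorem h46_coe_HD {ι κ : Type*} {K : Type*} [Field K] {G : Type*} [Group G] (L : Subgroup G)
    (f : κ → ι) (X : ι ⊕ ι → ι ⊕ ι → K → G) (X' : κ ⊕ κ → κ ⊕ κ → K → L)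
    (hX : ∀ a c t, ((X' a c t : L) : G) = X (Sum.map f f a) (Sum.map f f c) t)
    (a c : κ ⊕ κ) (s : K) :
    ((HD X' a c s : L) : G) = HD X (Sum.map f f a) (Sum.map f f c) s := by
  unfold HD
  rw [Subgroup.coe_mul, Subgroup.coe_inv, h46_coe_WD L f X X' hX, h46_coe_WD L f X X' hX]

theorem h46_coe_zD {ι κ : Type*} {K : Type*} [Field K] {G : Type*} [Group G] (L : Subgroup G)
    (f : κ → ι) (X : ι ⊕ ι → ι ⊕ ι → K → G) (X' : κ ⊕ κ → κ ⊕ κ → K → L)
    (hX : ∀ a c t, ((X' a c t : L) : G) = X (Sum.map f f a) (Sum.map f f c) t)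
    (a c : κ ⊕ κ) :
    ((zD X' a c : L) : G) = zD X (Sum.map f f a) (Sum.map f f c) := by
  unfold zD
  rw [Subgroup.coe_mul, h46_coe_HD L f X X' hX, h46_coe_HD L f X X' hX, h46_smap_ng]

/-- the induction -/
theorem h46_ker_cases_aux (K : Type*) [Field K] [Finite K] :
    ∀ (n : ℕ) (ι : Type*) [Fintype ι] [DecidableEq ι], Fintype.card ι = n → 2 ≤ n →
      ∀ (G : Type*) [Group G] (X : ι ⊕ ι → ι ⊕ ι → K → G), DSt X →
        Subgroup.closure {g | ∃ a c t, g = X a c t} = ⊤ →
        ∀ ρ : G →* Module.End K (ι ⊕ ι → K), IsActD X ρ → ∀ g : G, ρ g = 1 →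
          g = 1 ∨ ∃ a c, c ≠ a ∧ c ≠ ng a ∧ g = zD X a c := by
  intro n
  induction n with
  | zero =>
    intro ι _ _ _ h2
    omega
  | succ n ih =>
    intro ι _ _ hcard h2 G _ X h hgen ρ hρ g hg
    by_cases hn : n + 1 = 2
    · exact ker_cases_two h hgen ρ hρ (hcard.trans hn) g hg
    · have h3 : 3 ≤ Fintype.card ι := by omega
      have hne : Nonempty ι := Fintype.card_pos_iff.mp (by omega)
      obtain ⟨o0⟩ := hne
      have hcard' : Fintype.card {i : ι // i ≠ o0} = n := by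
        have := Fintype.card_subtype_compl (fun i : ι => i = o0)
        rw [Fintype.card_subtype_eq] at this
        rw [this]
        omega
      have hL : g ∈ Ls X (Sum.inl o0) :=
        ker_le_LsD h (wCalcD_of_dSt h) ρ hρ hgen h3 (Sum.inl o0) g hg
      obtain ⟨X', ρ', hX', hgen', hρ', hcoe, hker⟩ := exists_restrict h ρ hρ o0
      have hg' : ρ' ⟨g, hL⟩ = 1 := hker ⟨g, hL⟩ hg
      have hval : Function.Injective (Subtype.val : {i : ι // i ≠ o0} → ι) :=
        Subtype.val_injective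
      have hF : Function.Injective
          (Sum.map (Subtype.val : {i : ι // i ≠ o0} → ι) Subtype.val) := hval.sumMap hval
      rcases ih {i : ι // i ≠ o0} hcard' (by omega) (Ls X (Sum.inl o0)) X' hX' hgen' ρ' hρ'
        ⟨g, hL⟩ hg' with h1 | ⟨a, c, hca, hca', hz⟩
      · left
        exact congrArg Subtype.val h1
      · right
        refine ⟨Sum.map Subtype.val Subtype.val a, Sum.map Subtype.val Subtype.val c,
          hF.ne hca, ?_, ?_⟩
        · rw [← h46_smap_ng]
          exact hF.ne hca'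
        · have := congrArg Subtype.val hz
          rw [h46_coe_zD (Ls X (Sum.inl o0)) Subtype.val X X' hcoe] at this
          exact this

theorem ker_cases_of_dSt {K : Type*} [Field K] [Finite K] {ι : Type*} [Fintype ι] [DecidableEq ι]
    (h2 : 2 ≤ Fintype.card ι) {G : Type*} [Group G] {X : ι ⊕ ι → ι ⊕ ι → K → G} (h : DSt X)
    (hgen : Subgroup.closure {g | ∃ a c t, g = X a c t} = ⊤)
    (ρ : G →* Module.End K (ι ⊕ ι → K)) (hρ : IsActD X ρ) (g : G) (hg : ρ g = 1) :
    g = 1 ∨ ∃ a c, c ≠ a ∧ c ≠ ng a ∧ g = zD X a c :=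
  h46_ker_cases_aux K (Fintype.card ι) ι rfl h2 G X h hgen ρ hρ g hg

end Cfsg.Agent.Lib.Helper66_S96
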