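import Mathlib
import Cfsg.Prelude.Def_KGroupFacts
import Cfsg.Agent.Lib.Helper17_S96_UCEaux
import Cfsg.Agent.Lib.Helper46_S96_MAIN

set_option autoImplicit false
set_option linter.unusedVariables false

/-!
Package `D_UCE` of helper66's market for S2096 / S2097 (helper17): a group with a `DSt` family,
acting as in the model, is the universal central extension of its image modulo `±1`
(verbatim statement; the proof is `h17_hasSchurMultiplier_of_dSt_aux` with the presentation theorem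
`ker_cases_of_dSt`).
-/

namespace Cfsg.Agent.Lib.Helper66_S96

open Cfsg.Agent.Lib.Helper5_SteinbergA Cfsg.Agent.Lib.Helper66_S92 Cfsg.Agent.Lib.Helper81_UceA

universe u v

theorem hasSchurMultiplier_of_dSt {K : Type*} [Field K] [Finite K] {ι : Type*} [Fintype ι]
    [DecidableEq ι] (h3 : 3 ≤ Fintype.card ι) {Gh : Type u} [Group Gh]
    {Y : ι ⊕ ι → ι ⊕ ι → K → Gh} (hY : DSt Y)
    (hgen : Subgroup.closure {g | ∃ a c t, g = Y a c t} = ⊤)
    (ρ : Gh →* Module.End K (ι ⊕ ι → K)) (hρ : IsActD Y ρ)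
    (hz : (-1 : K) = 1 ∨ ∀ a c, c ≠ a → c ≠ ng a → zD Y a c ≠ 1)
    {G : Type u} [Group G] [Finite G] (θ : Gh →* G) (hθ : Function.Surjective θ)
    (hker : ∀ g, θ g = 1 ↔ (ρ g = 1 ∨ ρ g = -1))
    (hlift : ∀ {Γ : Type u} [Group Γ] (σ : Γ →* G), CExt σ →
      ∃ Z : ι ⊕ ι → ι ⊕ ι → K → Γ, (∀ a c t, σ (Z a c t) = θ (Y a c t)) ∧ DStAB Z)
    {A : Type v} [CommGroup A] (e : A ≃* θ.ker) : Cfsg.HasSchurMultiplier G A :=
  h17_hasSchurMultiplier_of_dSt_aux h3
    (fun hP hPgen ρ' hρ' g hg => ker_cases_of_dSt (by omega) hP hPgen ρ' hρ' g hg)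
    hY hgen ρ hρ hz θ hθ hker hlift e

end Cfsg.Agent.Lib.Helper66_S96
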