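import Mathlib
import Cfsg.Agent.Lib.Helper66_S96Rank
import Cfsg.Agent.Lib.Helper81_UceA
import Cfsg.Agent.Lib.Helper78_S96_EVALB
import Cfsg.Agent.Lib.Helper17_S96_TS

set_option autoImplicit false
set_option linter.unusedVariables false
set_option linter.unusedSectionVars false

/-!
Package D_NEGWORD of helper66's `s96_packages` market (S2096/S2097), by helper53: words in the
abstract torus `Ts X` acting as `-1` in the model, with square `1` (`l` even) resp. `zD X a e`
(`l` odd, `i ^ 2 = -1`).
-/

namespace Cfsg.Agent.Lib.Helper66_S96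

open Cfsg.Agent.Lib.Helper5_SteinbergA Cfsg.Agent.Lib.Helper66_S92 Cfsg.Agent.Lib.Helper81_UceA

section abstract

variable {ι : Type*} [DecidableEq ι] {K : Type*} [Field K] {G : Type*} [Group G]
  {X : ι ⊕ ι → ι ⊕ ι → K → G}

/-- the underlying index of `d : ι ⊕ ι` -/
def h53_ix (d : ι ⊕ ι) : ι := Sum.elim id id d

/-- the sign `-1` on the indices of `s`, `1` elsewhere -/
def h53_sg (K : Type*) [Field K] (s : Finset ι) (d : ι ⊕ ι) : K := if h53_ix d ∈ s then -1 else 1

theorem h53_chD_pair (i j : ι) (hij : i ≠ j) (d : ι ⊕ ι) :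
    chD (Sum.inl i : ι ⊕ ι) (Sum.inl j) (-1 : K) d = h53_sg K {i, j} d := by
  unfold chD h53_sg h53_ix
  have hinv : (-1 : K)⁻¹ = -1 := by
    rw [inv_neg, inv_one]
  rcases d with d | d
  · simp only [Sum.inl.injEq, ng_inl, reduceCtorEq, or_self, if_false, Sum.elim_inl, id,
      Finset.mem_insert, Finset.mem_singleton]
  · simp only [reduceCtorEq, or_self, if_false, ng_inl, Sum.inr.injEq, Sum.elim_inr, id,
      Finset.mem_insert, Finset.mem_singleton, hinv]

/-- the word for an even set of indices -/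
theorem h53_even_word (C : WCalcD X) (ρ : G →* Module.End K (ι ⊕ ι → K)) (hρ : IsActD X ρ) :
    ∀ (n : ℕ) (s : Finset ι), s.card = 2 * n →
      ∃ c ∈ Ts X, c * c = 1 ∧ ∀ d, ρ c (Pi.single d 1) = h53_sg K s d • Pi.single d 1 := by
  intro n
  induction n with
  | zero =>
    intro s hs
    have hs0 : s = ∅ := Finset.card_eq_zero.mp (by simpa using hs)
    refine ⟨1, one_mem _, by simp, ?_⟩
    intro d
    rw [hs0, map_one]
    simp [h53_sg]
  | succ n ih =>
    intro s hs
    have hpos : 0 < s.card := by omega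
    obtain ⟨i, hi⟩ := Finset.card_pos.mp hpos
    have h1 : (s.erase i).card = 2 * n + 1 := by
      rw [Finset.card_erase_of_mem hi]
      omega
    have hpos' : 0 < (s.erase i).card := by omega
    obtain ⟨j, hj⟩ := Finset.card_pos.mp hpos'
    have hji : j ≠ i := Finset.ne_of_mem_erase hj
    have hjs : j ∈ s := Finset.mem_of_mem_erase hj
    have h2 : ((s.erase i).erase j).card = 2 * n := by
      rw [Finset.card_erase_of_mem hj]
      omega
    obtain ⟨c', hc'T, hc'2, hc'act⟩ := ih _ h2
    have hne1 : (Sum.inl j : ι ⊕ ι) ≠ Sum.inl i := fun e => hji (Sum.inl.inj e)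
    have hne2 : (Sum.inl j : ι ⊕ ι) ≠ ng (Sum.inl i) := by
      rw [ng_inl]
      exact fun e => by cases e
    have hm1 : (-1 : K) ≠ 0 := neg_ne_zero.mpr one_ne_zero
    set hh : G := HD X (Sum.inl i) (Sum.inl j) (-1) with hhdef
    have hhT : hh ∈ Ts X := HD_mem_Ts _ _ _ hne1 hne2 hm1
    have hh2 : hh * hh = 1 := by
      rw [hhdef, C.hd_mul _ _ hne1 hne2 _ _ hm1 hm1]
      have : (-1 : K) * -1 = 1 := by ring
      rw [this, HD_one]
    refine ⟨hh * c', (Ts X).mul_mem hhT hc'T, ?_, ?_⟩
    · have hcm : c' * hh = hh * c' := Ts_comm C hc'T hhT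
      calc hh * c' * (hh * c') = hh * (c' * hh) * c' := by group
        _ = hh * (hh * c') * c' := by rw [hcm]
        _ = (hh * hh) * (c' * c') := by group
        _ = 1 := by rw [hh2, hc'2, one_mul]
    · intro d
      rw [map_mul, Module.End.mul_apply, hc'act, map_smul, hhdef,
        act_HD ρ hρ _ _ hne1 hne2 _ hm1 d, h53_chD_pair i j (fun e => hji e.symm) d, smul_smul]
      congr 1
      unfold h53_sg
      have hmem : h53_ix d ∈ s ↔ (h53_ix d ∈ ({i, j} : Finset ι) ∨ h53_ix d ∈ (s.erase i).erase j) := by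
        simp only [Finset.mem_insert, Finset.mem_singleton, Finset.mem_erase]
        constructor
        · intro hd
          by_cases hdi : h53_ix d = i
          · exact Or.inl (Or.inl hdi)
          · by_cases hdj : h53_ix d = j
            · exact Or.inl (Or.inr hdj)
            · exact Or.inr ⟨hdj, hdi, hd⟩
        · rintro ((hd | hd) | ⟨-, -, hd⟩)
          · rw [hd]; exact hi
          · rw [hd]; exact hjs
          · exact hd
      have hdisj : h53_ix d ∈ ({i, j} : Finset ι) → h53_ix d ∉ (s.erase i).erase j := by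
        simp only [Finset.mem_insert, Finset.mem_singleton, Finset.mem_erase]
        rintro (hd | hd) ⟨h3, h4, -⟩
        · exact h4 hd
        · exact h3 hd
      by_cases ha : h53_ix d ∈ ({i, j} : Finset ι)
      · have hb := hdisj ha
        have hc : h53_ix d ∈ s := hmem.mpr (Or.inl ha)
        rw [if_pos ha, if_neg hb, if_pos hc]
        ring
      · by_cases hb : h53_ix d ∈ (s.erase i).erase j
        · have hc : h53_ix d ∈ s := hmem.mpr (Or.inr hb)
          rw [if_neg ha, if_pos hb, if_pos hc]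
          ring
        · have hc : h53_ix d ∉ s := fun h => (hmem.mp h).elim ha hb
          rw [if_neg ha, if_neg hb, if_neg hc]
          ring

/-- a linear map negating all the basis vectors is `-1` -/
theorem h53_neg_of_basis [Fintype ι] (f : Module.End K (ι ⊕ ι → K))
    (hf : ∀ d, f (Pi.single d 1) = -Pi.single d 1) (v : ι ⊕ ι → K) : f v = -v := by
  have h : f = -LinearMap.id := by
    apply (Pi.basisFun K (ι ⊕ ι)).ext
    intro d
    rw [Pi.basisFun_apply, hf]
    simp
  rw [h]
  simp

/-- `l` even: the product of the `HD X (inl i) (inl j) (-1)` over a pairing of the indices -/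
theorem exists_neg_even [Fintype ι] [Finite K] (h : DSt X) (C : WCalcD X)
    (ρ : G →* Module.End K (ι ⊕ ι → K)) (hρ : IsActD X ρ) (hev : Even (Fintype.card ι)) :
    ∃ c ∈ Ts X, c * c = 1 ∧ ∀ v, ρ c v = -v := by
  obtain ⟨n, hn⟩ := hev
  obtain ⟨c, hcT, hc2, hact⟩ := h53_even_word C ρ hρ n (Finset.univ : Finset ι)
    (by rw [Finset.card_univ, hn]; ring)
  refine ⟨c, hcT, hc2, h53_neg_of_basis (ρ c) ?_⟩
  intro d
  rw [hact d]
  simp [h53_sg]

/-- `l` odd, `i ^ 2 = -1`: `HD X a e i * HD X a (ng e) i` negates `b_a`, `b_{ng a}`, its square is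
`zD X a e`; multiply by the word of `exists_neg_even` for the other indices -/
theorem exists_neg_odd [Fintype ι] [Finite K] (h : DSt X) (C : WCalcD X)
    (ρ : G →* Module.End K (ι ⊕ ι → K)) (hρ : IsActD X ρ) (hodd : Odd (Fintype.card ι))
    (h3 : 3 ≤ Fintype.card ι) (i : K) (hi : i * i = -1) :
    ∃ c ∈ Ts X, (∃ a e, e ≠ a ∧ e ≠ ng a ∧ c * c = zD X a e) ∧ ∀ v, ρ c v = -v := by
  have hi0 : i ≠ 0 := by
    intro h0
    rw [h0, mul_zero] at hi
    exact (neg_ne_zero.mpr one_ne_zero) hi.symm
  -- two distinct indices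
  have hcard : 1 < Fintype.card ι := by omega
  obtain ⟨k₀, k₁, hk⟩ := Fintype.exists_pair_of_one_lt_card hcard
  set a : ι ⊕ ι := Sum.inl k₀ with ha
  set e : ι ⊕ ι := Sum.inl k₁ with he
  have hea : e ≠ a := fun h' => hk (Sum.inl.inj h').symm
  have hea' : e ≠ ng a := by
    rw [ha, he, ng_inl]
    exact Sum.inl_ne_inr
  have hnea : ng e ≠ a := by
    rw [ha, he, ng_inl]
    exact Sum.inr_ne_inl
  have hnea' : ng e ≠ ng a := fun h' => hea (by simpa using congrArg ng h')
  set h1 : G := HD X a e i with h1def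
  set h2 : G := HD X a (ng e) i with h2def
  have h1T : h1 ∈ Ts X := HD_mem_Ts _ _ _ hea hea' hi0
  have h2T : h2 ∈ Ts X := HD_mem_Ts _ _ _ hnea hnea' hi0
  have h11 : h1 * h1 = HD X a e (-1) := by
    rw [h1def, C.hd_mul _ _ hea hea' _ _ hi0 hi0, hi]
  have h22 : h2 * h2 = HD X a (ng e) (-1) := by
    rw [h2def, C.hd_mul _ _ hnea hnea' _ _ hi0 hi0, hi]
  -- the even word for the other indices
  obtain ⟨m, hm⟩ := hodd
  obtain ⟨c', hc'T, hc'2, hc'act⟩ := h53_even_word C ρ hρ m ((Finset.univ : Finset ι).erase k₀)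
    (by rw [Finset.card_erase_of_mem (Finset.mem_univ _), Finset.card_univ, hm]; omega)
  have c12 : h2 * h1 = h1 * h2 := Ts_comm C h2T h1T
  have c1c : c' * h1 = h1 * c' := Ts_comm C hc'T h1T
  have c2c : c' * h2 = h2 * c' := Ts_comm C hc'T h2T
  refine ⟨h1 * h2 * c', (Ts X).mul_mem ((Ts X).mul_mem h1T h2T) hc'T, ⟨a, e, hea, hea', ?_⟩, ?_⟩
  · unfold zD
    rw [← h11, ← h22]
    calc h1 * h2 * c' * (h1 * h2 * c') = h1 * h2 * (c' * h1) * h2 * c' := by group
      _ = h1 * h2 * (h1 * c') * h2 * c' := by rw [c1c]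
      _ = h1 * (h2 * h1) * (c' * h2) * c' := by group
      _ = h1 * (h1 * h2) * (h2 * c') * c' := by rw [c12, c2c]
      _ = h1 * h1 * (h2 * h2) * (c' * c') := by group
      _ = h1 * h1 * (h2 * h2) := by rw [hc'2, mul_one]
  · apply h53_neg_of_basis
    intro d
    rw [map_mul, map_mul, Module.End.mul_apply, Module.End.mul_apply, hc'act, map_smul, h2def,
      act_HD ρ hρ _ _ hnea hnea' _ hi0 d, map_smul, map_smul, h1def,
      act_HD ρ hρ _ _ hea hea' _ hi0 d, smul_smul, smul_smul]
    have hii : i⁻¹ * i⁻¹ = -1 := by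
      rw [← mul_inv, hi, inv_neg, inv_one]
    have key : h53_sg K ((Finset.univ : Finset ι).erase k₀) d * (chD a (ng e) i d * chD a e i d) = -1 := by
      unfold h53_sg h53_ix chD
      rw [ha, he]
      rcases d with d | d
      · simp only [Sum.elim_inl, id, Finset.mem_erase, Finset.mem_univ, and_true, Sum.inl.injEq,
          ng_inl, reduceCtorEq, or_false, false_or, if_false]
        by_cases hd0 : d = k₀
        · subst hd0
          have : ¬ d = k₁ := hk
          simp [this, hi]
        · by_cases hd1 : d = k₁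
          · subst hd1
            simp [hd0, hi0]
          · simp [hd0, hd1]
      · simp only [Sum.elim_inr, id, Finset.mem_erase, Finset.mem_univ, and_true, reduceCtorEq,
          ng_inl, Sum.inr.injEq, or_false, false_or, if_false]
        by_cases hd0 : d = k₀
        · subst hd0
          have : ¬ d = k₁ := hk
          simp [this, hii]
        · by_cases hd1 : d = k₁
          · subst hd1
            simp [hd0, hi0]
          · simp [hd0, hd1]
    rw [mul_assoc, key]
    simp

end abstract

end Cfsg.Agent.Lib.Helper66_S96
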