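import Mathlib
import Cfsg.Agent.Lib.Helper66_S96Defs2

/-!
# S2096 market (architect helper66), package D_CLIFF (delivered by helper69)

A Clifford system `e : ι ⊕ ι → A` in a `K`-algebra gives a `DStAB` family of units
`Y a c t = 1 + t • (e a * e c)` with `zD Y a c = -1` (the Spin cover).
`IsCliffSys` is the structure of `Helper66_S96Defs2`.
-/

set_option autoImplicit false
set_option linter.unusedVariables false

namespace Cfsg.Agent.Lib.Helper66_S96

open Cfsg.Agent.Lib.Helper5_SteinbergA Cfsg.Agent.Lib.Helper66_S92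

section ring

variable {A : Type*} [Ring A]

/-- an element anticommuting with two elements commutes with their product -/
theorem h69_anti2 {x y z : A} (h1 : x * y = -(y * x)) (h2 : x * z = -(z * x)) :
    x * (y * z) = (y * z) * x := by
  calc x * (y * z) = (x * y) * z := (mul_assoc _ _ _).symm
    _ = -(y * x) * z := by rw [h1]
    _ = -(y * (x * z)) := by rw [neg_mul, mul_assoc]
    _ = -(y * -(z * x)) := by rw [h2]
    _ = (y * z) * x := by rw [mul_neg, neg_neg, mul_assoc]

/-- the square of the Weyl-type element `(1 + m) (1 + n) (1 + m)` -/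
theorem h69_weyl_sq {m n : A} (h1 : m * m = 0) (h2 : n * n = 0) (h3 : m * n * m = -m)
    (h4 : n * m * n = -n) :
    ((1 + m) * (1 + n) * (1 + m)) * ((1 + m) * (1 + n) * (1 + m)) =
      1 + ((m * n + n * m) + (m * n + n * m)) := by
  have h1' : ∀ z, m * (m * z) = 0 := fun z => by rw [← mul_assoc, h1, zero_mul]
  have h2' : ∀ z, n * (n * z) = 0 := fun z => by rw [← mul_assoc, h2, zero_mul]
  have h3a : m * (n * m) = -m := by rw [← mul_assoc, h3]
  have h4a : n * (m * n) = -n := by rw [← mul_assoc, h4]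
  have h3' : ∀ z, m * (n * (m * z)) = -(m * z) := fun z => by
    rw [← mul_assoc, ← mul_assoc, h3, neg_mul]
  have h4' : ∀ z, n * (m * (n * z)) = -(n * z) := fun z => by
    rw [← mul_assoc, ← mul_assoc, h4, neg_mul]
  simp only [mul_add, add_mul, mul_one, one_mul, mul_assoc, h1, h2, h1', h2', h3a, h4a, h3', h4',
    mul_neg, neg_mul, mul_zero, zero_mul, add_zero, zero_add, neg_zero, neg_neg]
  abel

/-- identities in the Clifford algebra of a hyperbolic 4-space -/
theorem h69_quad {x x' y y' : A} (hx : x * x = 0) (hx' : x' * x' = 0) (hy : y * y = 0)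
    (hy' : y' * y' = 0) (hxo : x * x' + x' * x = 1) (hyo : y * y' + y' * y = 1)
    (a1 : x * y = -(y * x)) (a2 : x * y' = -(y' * x)) (a3 : x' * y = -(y * x'))
    (a4 : x' * y' = -(y' * x')) :
    (x * y) * (x' * y') * (x * y) = -(x * y) ∧
    (x' * y') * (x * y) * (x' * y') = -(x' * y') ∧
    (1 + (((x * y') * (x' * y) + (x' * y) * (x * y')) +
        ((x * y') * (x' * y) + (x' * y) * (x * y')))) *
      (1 + (((x * y) * (x' * y') + (x' * y') * (x * y)) +
        ((x * y) * (x' * y') + (x' * y') * (x * y)))) = -1 := by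
  have r1 : x' * x = 1 - x * x' := eq_sub_of_add_eq' hxo
  have r2 : y' * y = 1 - y * y' := eq_sub_of_add_eq' hyo
  have r3 : y * x = -(x * y) := by rw [a1, neg_neg]
  have r4 : y' * x = -(x * y') := by rw [a2, neg_neg]
  have r5 : y * x' = -(x' * y) := by rw [a3, neg_neg]
  have r6 : y' * x' = -(x' * y') := by rw [a4, neg_neg]
  have R0x : ∀ z, x * (x * z) = 0 := fun z => by rw [← mul_assoc, hx, zero_mul]
  have R0x' : ∀ z, x' * (x' * z) = 0 := fun z => by rw [← mul_assoc, hx', zero_mul]
  have R0y : ∀ z, y * (y * z) = 0 := fun z => by rw [← mul_assoc, hy, zero_mul]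
  have R0y' : ∀ z, y' * (y' * z) = 0 := fun z => by rw [← mul_assoc, hy', zero_mul]
  have R1 : ∀ z, x' * (x * z) = z - x * (x' * z) := fun z => by
    rw [← mul_assoc, r1, sub_mul, one_mul, mul_assoc]
  have R2 : ∀ z, y' * (y * z) = z - y * (y' * z) := fun z => by
    rw [← mul_assoc, r2, sub_mul, one_mul, mul_assoc]
  have R3 : ∀ z, y * (x * z) = -(x * (y * z)) := fun z => by
    rw [← mul_assoc, r3, neg_mul, mul_assoc]
  have R4 : ∀ z, y' * (x * z) = -(x * (y' * z)) := fun z => by
    rw [← mul_assoc, r4, neg_mul, mul_assoc]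
  have R5 : ∀ z, y * (x' * z) = -(x' * (y * z)) := fun z => by
    rw [← mul_assoc, r5, neg_mul, mul_assoc]
  have R6 : ∀ z, y' * (x' * z) = -(x' * (y' * z)) := fun z => by
    rw [← mul_assoc, r6, neg_mul, mul_assoc]
  refine ⟨?_, ?_, ?_⟩
  · simp only [mul_add, add_mul, mul_sub, sub_mul, mul_one, one_mul, mul_assoc, mul_neg, neg_mul,
      mul_zero, zero_mul, hx, hx', hy, hy', r1, r2, r3, r4, r5, r6, R0x, R0x', R0y, R0y',
      R1, R2, R3, R4, R5, R6, neg_neg, neg_zero, sub_zero, add_zero, zero_add, zero_sub, sub_self]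
    try abel
  · simp only [mul_add, add_mul, mul_sub, sub_mul, mul_one, one_mul, mul_assoc, mul_neg, neg_mul,
      mul_zero, zero_mul, hx, hx', hy, hy', r1, r2, r3, r4, r5, r6, R0x, R0x', R0y, R0y',
      R1, R2, R3, R4, R5, R6, neg_neg, neg_zero, sub_zero, add_zero, zero_add, zero_sub, sub_self]
    try abel
  · simp only [mul_add, add_mul, mul_sub, sub_mul, mul_one, one_mul, mul_assoc, mul_neg,
      neg_mul, mul_zero, zero_mul, hx, hx', hy, hy', r1, r2, r3, r4, r5, r6, R0x, R0x', R0y, R0y',
      R1, R2, R3, R4, R5, R6, neg_neg, neg_zero, sub_zero, add_zero, zero_add, zero_sub, sub_self]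
    try abel

end ring

section units

variable {A : Type*} [Ring A]

/-- the unit `1 + m` for `m` of square zero -/
def h69_unit (m : A) (h : m * m = 0) : Aˣ where
  val := 1 + m
  inv := 1 - m
  val_inv := by
    have : (1 + m) * (1 - m) = 1 - m * m := by noncomm_ring
    rw [this, h, sub_zero]
  inv_val := by
    have : (1 - m) * (1 + m) = 1 - m * m := by noncomm_ring
    rw [this, h, sub_zero]

theorem h69_unit_val (m : A) (h : m * m = 0) : ((h69_unit m h : Aˣ) : A) = 1 + m := rfl

end units

section family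

variable {K : Type*} [Field K] {ι : Type*} {A : Type*} [Ring A] [Algebra K A]

theorem h69_expand (t u : K) (m n : A) :
    (1 + t • m) * (1 + u • n) = 1 + t • m + u • n + (t * u) • (m * n) := by
  rw [add_mul, one_mul, mul_add, mul_one, smul_mul_smul_comm]
  abel

theorem h69_sq_zero {e : ι ⊕ ι → A} (he : IsCliffSys e) {a c : ι ⊕ ι} (h : c ≠ ng a) :
    (e a * e c) * (e a * e c) = 0 := by
  have h1 : e c * e a = -(e a * e c) := by rw [he.anti a c h, neg_neg]
  calc (e a * e c) * (e a * e c) = e a * (e c * e a) * e c := by noncomm_ring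
    _ = 0 := by rw [h1, mul_neg, ← mul_assoc, he.sq a, zero_mul, neg_zero, zero_mul]

theorem h69_smul_sq_zero {e : ι ⊕ ι → A} (he : IsCliffSys e) {a c : ι ⊕ ι} (h : c ≠ ng a) (t : K) :
    (t • (e a * e c)) * (t • (e a * e c)) = 0 := by
  rw [smul_mul_smul_comm, h69_sq_zero he h, smul_zero]

variable [DecidableEq ι]

/-- the family of units of a Clifford system -/
noncomputable def h69_Y (e : ι ⊕ ι → A) (he : IsCliffSys e) (a c : ι ⊕ ι) (t : K) : Aˣ :=
  if h : c = ng a then 1 else h69_unit (t • (e a * e c)) (h69_smul_sq_zero he h t)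

theorem h69_Y_eq (e : ι ⊕ ι → A) (he : IsCliffSys e) {a c : ι ⊕ ι} (h : c = ng a) (t : K) :
    h69_Y e he a c t = 1 := dif_pos h

theorem h69_Y_val (e : ι ⊕ ι → A) (he : IsCliffSys e) {a c : ι ⊕ ι} (h : c ≠ ng a) (t : K) :
    ((h69_Y e he a c t : Aˣ) : A) = 1 + t • (e a * e c) := by
  rw [h69_Y, dif_neg h, h69_unit_val]

theorem h69_dStAB (e : ι ⊕ ι → A) (he : IsCliffSys e) :
    DStAB (h69_Y (K := K) e he) where
  anti := by
    intro a c t
    by_cases h : c = ng a
    · have h' : a = ng c := by rw [h, ng_ng]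
      rw [h69_Y_eq e he h, h69_Y_eq e he h']
    · have h' : a ≠ ng c := fun h'' => h (by rw [h'', ng_ng])
      apply Units.ext
      rw [h69_Y_val e he h', h69_Y_val e he h, he.anti c a h', smul_neg, neg_smul]
  opp := fun a t => h69_Y_eq e he rfl t
  diag := by
    intro a t
    apply Units.ext
    rw [h69_Y_val e he (ne_ng a), he.sq a, smul_zero, add_zero, Units.val_one]
  add := by
    intro a c t u
    by_cases h : c = ng a
    · rw [h69_Y_eq e he h, h69_Y_eq e he h, h69_Y_eq e he h, one_mul]
    · apply Units.ext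
      rw [Units.val_mul, h69_Y_val e he h, h69_Y_val e he h, h69_Y_val e he h, h69_expand,
        h69_sq_zero he h, smul_zero, add_zero, add_smul, add_assoc]
  comm := by
    intro a c d f t u hda hdc hfa hfc
    by_cases h : c = ng a
    · rw [h69_Y_eq e he h, one_mul, mul_one]
    by_cases h' : f = ng d
    · rw [h69_Y_eq e he h', one_mul, mul_one]
    apply Units.ext
    have hc : (e a * e c) * (e d * e f) = (e d * e f) * (e a * e c) := by
      have h1 : e c * (e d * e f) = (e d * e f) * e c :=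
        h69_anti2 (he.anti c d hdc) (he.anti c f hfc)
      have h2 : e a * (e d * e f) = (e d * e f) * e a :=
        h69_anti2 (he.anti a d hda) (he.anti a f hfa)
      calc (e a * e c) * (e d * e f) = e a * (e c * (e d * e f)) := mul_assoc _ _ _
        _ = e a * ((e d * e f) * e c) := by rw [h1]
        _ = (e a * (e d * e f)) * e c := (mul_assoc _ _ _).symm
        _ = ((e d * e f) * e a) * e c := by rw [h2]
        _ = (e d * e f) * (e a * e c) := mul_assoc _ _ _
    rw [Units.val_mul, Units.val_mul, h69_Y_val e he h, h69_Y_val e he h', h69_expand, h69_expand,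
      hc, mul_comm t u]
    abel
  comm2 := by
    intro a c t u
    by_cases h : c = ng a
    · rw [h69_Y_eq e he h, one_mul, mul_one]
    by_cases h' : c = ng (ng a)
    · rw [h69_Y_eq e he h', one_mul, mul_one]
    rw [ng_ng] at h'
    apply Units.ext
    have hca : e c * e a = -(e a * e c) := by rw [he.anti a c h, neg_neg]
    have hca' : e c * e (ng a) = -(e (ng a) * e c) := by
      rw [he.anti (ng a) c (by rw [ng_ng]; exact h'), neg_neg]
    have z1 : (e a * e c) * (e (ng a) * e c) = 0 := by
      calc (e a * e c) * (e (ng a) * e c) = e a * (e c * e (ng a)) * e c := by noncomm_ring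
        _ = -(e a * e (ng a) * (e c * e c)) := by rw [hca']; noncomm_ring
        _ = 0 := by rw [he.sq c, mul_zero, neg_zero]
    have z2 : (e (ng a) * e c) * (e a * e c) = 0 := by
      calc (e (ng a) * e c) * (e a * e c) = e (ng a) * (e c * e a) * e c := by noncomm_ring
        _ = -(e (ng a) * e a * (e c * e c)) := by rw [hca]; noncomm_ring
        _ = 0 := by rw [he.sq c, mul_zero, neg_zero]
    rw [Units.val_mul, Units.val_mul, h69_Y_val e he h,
      h69_Y_val e he (show c ≠ ng (ng a) by rw [ng_ng]; exact h'), h69_expand, h69_expand, z1, z2,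
      smul_zero, smul_zero]
    abel
  a2 := by
    intro a c f t u hac hac' haf haf' hcf hcf'
    have h1 : c ≠ ng a := fun h => hac' (by rw [h, ng_ng])
    have h2 : f ≠ ng (ng c) := by rw [ng_ng]; exact fun h => hcf h.symm
    have h3 : f ≠ ng a := fun h => haf' (by rw [h, ng_ng])
    rw [mul_inv_eq_iff_eq_mul, mul_inv_eq_iff_eq_mul]
    apply Units.ext
    -- the four elements
    have afa : e f * e a = -(e a * e f) := by rw [he.anti a f h3, neg_neg]
    have afc : e f * e c = -(e c * e f) := by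
      rw [he.anti c f (fun h => hcf' (by rw [h, ng_ng])), neg_neg]
    have afc' : e f * e (ng c) = -(e (ng c) * e f) := by
      rw [he.anti (ng c) f h2, neg_neg]
    have ac'a : e (ng c) * e a = -(e a * e (ng c)) := by
      rw [he.anti a (ng c) (fun h => hac (ng_injective h).symm), neg_neg]
    have n_m : (e a * e f) * (e a * e c) = 0 := by
      calc (e a * e f) * (e a * e c) = e a * (e f * e a) * e c := by noncomm_ring
        _ = -(e a * e a * (e f * e c)) := by rw [afa]; noncomm_ring
        _ = 0 := by rw [he.sq a, zero_mul, neg_zero]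
    have n_m' : (e a * e f) * (e (ng c) * e f) = 0 := by
      calc (e a * e f) * (e (ng c) * e f) = e a * (e f * e (ng c)) * e f := by noncomm_ring
        _ = -(e a * e (ng c) * (e f * e f)) := by rw [afc']; noncomm_ring
        _ = 0 := by rw [he.sq f, mul_zero, neg_zero]
    have hmm : (e a * e c) * (e (ng c) * e f) =
        (e (ng c) * e f) * (e a * e c) + e a * e f := by
      have hf : e f * (e a * e c) = (e a * e c) * e f := h69_anti2 afa afc
      calc (e a * e c) * (e (ng c) * e f)
          = e a * (e c * e (ng c)) * e f := by noncomm_ring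
        _ = e a * (1 - e (ng c) * e c) * e f := by rw [← he.opp c]; noncomm_ring
        _ = e a * e f - (e a * e (ng c)) * e c * e f := by noncomm_ring
        _ = e a * e f + (e (ng c) * e a) * e c * e f := by rw [ac'a]; noncomm_ring
        _ = e a * e f + e (ng c) * ((e a * e c) * e f) := by noncomm_ring
        _ = e a * e f + e (ng c) * (e f * (e a * e c)) := by rw [hf]
        _ = (e (ng c) * e f) * (e a * e c) + e a * e f := by noncomm_ring
    have hX : (1 + u • (e (ng c) * e f)) * (1 + t • (e a * e c)) =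
        1 + u • (e (ng c) * e f) + t • (e a * e c) +
          (u * t) • ((e (ng c) * e f) * (e a * e c)) := h69_expand _ _ _ _
    have hnX : (e a * e f) * ((1 + u • (e (ng c) * e f)) * (1 + t • (e a * e c))) = e a * e f := by
      rw [hX]
      have : (e a * e f) * ((e (ng c) * e f) * (e a * e c)) = 0 := by
        rw [← mul_assoc, n_m', zero_mul]
      simp only [mul_add, mul_one, mul_smul_comm, n_m', n_m, this, smul_zero, add_zero]
    have hR : (1 + (t * u) • (e a * e f)) * (1 + u • (e (ng c) * e f)) * (1 + t • (e a * e c)) =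
        1 + u • (e (ng c) * e f) + t • (e a * e c) +
          (u * t) • ((e (ng c) * e f) * (e a * e c)) + (t * u) • (e a * e f) := by
      rw [mul_assoc, add_mul, one_mul, smul_mul_assoc, hnX, hX]
    have hL : (1 + t • (e a * e c)) * (1 + u • (e (ng c) * e f)) =
        1 + t • (e a * e c) + u • (e (ng c) * e f) +
          (t * u) • ((e (ng c) * e f) * (e a * e c) + e a * e f) := by
      rw [h69_expand, hmm]
    rw [Units.val_mul, Units.val_mul, Units.val_mul, h69_Y_val e he h1, h69_Y_val e he h2,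
      h69_Y_val e he h3, hL, hR, smul_add, mul_comm u t]
    abel

end family

section main

variable {K : Type*} [Field K] {ι : Type*} [DecidableEq ι] {A : Type*} [Ring A] [Algebra K A]

theorem h69_zD (e : ι ⊕ ι → A) (he : IsCliffSys e) (a c : ι ⊕ ι) (hca : c ≠ a) (hca' : c ≠ ng a) :
    ((zD (h69_Y (K := K) e he) a c : Aˣ) : A) = -1 := by
  have hD := h69_dStAB (K := K) e he
  obtain ⟨Y, hY⟩ : ∃ Y : ι ⊕ ι → ι ⊕ ι → K → Aˣ, Y = h69_Y (K := K) e he := ⟨_, rfl⟩
  rw [← hY] at hD ⊢
  have hzero : ∀ a c, Y a c 0 = 1 := by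
    intro a c
    have := hD.add a c 0 0
    rw [add_zero] at this
    exact mul_left_cancel (a := Y a c 0) (by rw [this, mul_one])
  have hneg : ∀ a c t, Y a c (-t) = (Y a c t)⁻¹ := by
    intro a c t
    apply eq_inv_of_mul_eq_one_left
    rw [hD.add, neg_add_cancel, hzero]
  have hz : zD Y a c =
      ((Y a (ng c) 1 * Y (ng a) c 1 * Y a (ng c) 1) * (Y a (ng c) 1 * Y (ng a) c 1 * Y a (ng c) 1) *
        ((Y a c 1 * Y (ng a) (ng c) 1 * Y a c 1) * (Y a c 1 * Y (ng a) (ng c) 1 * Y a c 1)))⁻¹ := by
    unfold zD HD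
    rw [WD_eq, WD_eq, WD_eq, WD_eq]
    simp only [ng_ng, inv_neg_one, neg_neg, inv_one]
    rw [hneg a c 1, hneg (ng a) (ng c) 1, hneg a (ng c) 1, hneg (ng a) c 1]
    group
  -- the four generators
  have c1 : c ≠ ng a := hca'
  have c2 : ng c ≠ ng (ng a) := by
    rw [ng_ng]
    exact fun h => hca' (by rw [← h, ng_ng])
  have c3 : ng c ≠ ng a := fun h => hca (ng_injective h)
  have c4 : c ≠ ng (ng a) := by rw [ng_ng]; exact hca
  have hx : e a * e a = 0 := he.sq a
  have hx' : e (ng a) * e (ng a) = 0 := he.sq (ng a)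
  have hy : e c * e c = 0 := he.sq c
  have hy' : e (ng c) * e (ng c) = 0 := he.sq (ng c)
  have hxo : e a * e (ng a) + e (ng a) * e a = 1 := he.opp a
  have hyo : e c * e (ng c) + e (ng c) * e c = 1 := he.opp c
  have hyo' : e (ng c) * e c + e c * e (ng c) = 1 := by rw [add_comm]; exact hyo
  have a1 : e a * e c = -(e c * e a) := he.anti a c c1
  have a2 : e a * e (ng c) = -(e (ng c) * e a) := he.anti a (ng c) c3
  have a3 : e (ng a) * e c = -(e c * e (ng a)) := he.anti (ng a) c c4
  have a4 : e (ng a) * e (ng c) = -(e (ng c) * e (ng a)) := he.anti (ng a) (ng c) c2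
  obtain ⟨q1, q2, q3⟩ := h69_quad hx hx' hy hy' hxo hyo a1 a2 a3 a4
  obtain ⟨q1', q2', -⟩ := h69_quad hx hx' hy' hy hxo hyo' a2 a1 a4 a3
  have hval : (Y a (ng c) 1 * Y (ng a) c 1 * Y a (ng c) 1) *
      (Y a (ng c) 1 * Y (ng a) c 1 * Y a (ng c) 1) *
        ((Y a c 1 * Y (ng a) (ng c) 1 * Y a c 1) * (Y a c 1 * Y (ng a) (ng c) 1 * Y a c 1)) =
      -1 := by
    apply Units.ext
    simp only [Units.val_mul, Units.val_neg, Units.val_one]
    rw [hY, h69_Y_val e he c1, h69_Y_val e he c2, h69_Y_val e he c3, h69_Y_val e he c4]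
    simp only [one_smul]
    rw [h69_weyl_sq (h69_sq_zero he c3) (h69_sq_zero he c4) q1' q2',
      h69_weyl_sq (h69_sq_zero he c1) (h69_sq_zero he c2) q1 q2]
    exact q3
  rw [hz, hval, inv_neg_one, Units.val_neg, Units.val_one]

/-- D_CLIFF -/
theorem exists_cliff_family {K : Type*} [Field K] {ι : Type*} [DecidableEq ι] {A : Type*} [Ring A]
    [Algebra K A] (e : ι ⊕ ι → A) (he : IsCliffSys e) :
    ∃ Y : ι ⊕ ι → ι ⊕ ι → K → Aˣ, DStAB Y ∧
      (∀ a c t, c ≠ ng a → ((Y a c t : Aˣ) : A) = 1 + t • (e a * e c)) ∧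
      ∀ a c, c ≠ a → c ≠ ng a → ((zD Y a c : Aˣ) : A) = -1 :=
  ⟨h69_Y e he, h69_dStAB e he, fun a c t h => h69_Y_val e he h t,
    fun a c h h' => h69_zD e he a c h h'⟩

end main

end Cfsg.Agent.Lib.Helper66_S96
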