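import Mathlib
import Cfsg.Prelude.Def_KGroupFacts
import Cfsg.Agent.Lib.Helper66_S96Rank
import Cfsg.Agent.Lib.Helper66_S96Defs2
import Cfsg.Agent.Lib.Helper81_UceA

set_option autoImplicit false
set_option linter.unusedVariables false

/-!
helper73 — package D_CLIFF_INST of helper66's market `s96_packages` (S2096 / S2097): Mathlib's Clifford
algebra of the hyperbolic form `∑ x_i x_{i'}` on `F^(Fin l ⊕ Fin l)` is a Clifford system, and `-1 ≠ 1` in
it when `2 ≠ 0`.
-/

namespace Cfsg.Agent.Lib.Helper66_S96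

open Cfsg.Agent.Lib.Helper5_SteinbergA Cfsg.Agent.Lib.Helper66_S92 Cfsg.Agent.Lib.Helper81_UceA

universe u v

/-- the hyperbolic quadratic form on `F^(Fin l ⊕ Fin l)` -/
def h73_Q (l : ℕ) (F : Type u) [Field F] : QuadraticForm F (Fin l ⊕ Fin l → F) :=
  ∑ i : Fin l, QuadraticMap.proj (Sum.inl i) (Sum.inr i)

theorem h73_Q_apply (l : ℕ) (F : Type u) [Field F] (x : Fin l ⊕ Fin l → F) :
    h73_Q l F x = ∑ i : Fin l, x (Sum.inl i) * x (Sum.inr i) := by
  simp [h73_Q]

theorem h73_polar (l : ℕ) (F : Type u) [Field F] (x y : Fin l ⊕ Fin l → F) :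
    QuadraticMap.polar (h73_Q l F) x y =
      ∑ i : Fin l, (x (Sum.inl i) * y (Sum.inr i) + y (Sum.inl i) * x (Sum.inr i)) := by
  unfold QuadraticMap.polar
  rw [h73_Q_apply, h73_Q_apply, h73_Q_apply, ← Finset.sum_sub_distrib, ← Finset.sum_sub_distrib]
  refine Finset.sum_congr rfl (fun i _ => ?_)
  simp only [Pi.add_apply]
  ring

theorem h73_Q_single (l : ℕ) (F : Type u) [Field F] (a : Fin l ⊕ Fin l) :
    h73_Q l F (Pi.single a 1) = 0 := by
  rw [h73_Q_apply]
  refine Finset.sum_eq_zero (fun i _ => ?_)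
  rcases a with j | j
  · simp [Pi.single_apply]
  · simp [Pi.single_apply]

theorem h73_polar_single (l : ℕ) (F : Type u) [Field F] (a c : Fin l ⊕ Fin l) :
    QuadraticMap.polar (h73_Q l F) (Pi.single a 1) (Pi.single c 1) =
      if c = ng a then 1 else 0 := by
  rw [h73_polar]
  rcases a with j | j <;> rcases c with k | k
  · simp [Pi.single_apply, ng]
  · simp [Pi.single_apply, ng, eq_comm]
  · simp [Pi.single_apply, ng, eq_comm]
  · simp [Pi.single_apply, ng]

/-! ## D_CLIFF_INST : Mathlib's Clifford algebra of the hyperbolic form is a Clifford system -/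

theorem exists_cliffSys (l : ℕ) (F : Type u) [Field F] :
    ∃ (A : Type u) (_ : Ring A) (_ : Algebra F A) (e : Fin l ⊕ Fin l → A),
      IsCliffSys e ∧ ((2 : F) ≠ 0 → (-1 : A) ≠ 1) := by
  refine ⟨CliffordAlgebra (h73_Q l F), inferInstance, inferInstance,
    fun a => CliffordAlgebra.ι (h73_Q l F) (Pi.single a 1), ⟨?_, ?_, ?_⟩, ?_⟩
  · intro a
    rw [CliffordAlgebra.ι_sq_scalar, h73_Q_single, map_zero]
  · intro a c hc
    apply eq_neg_of_add_eq_zero_left
    rw [CliffordAlgebra.ι_mul_ι_add_swap, h73_polar_single, if_neg hc, map_zero]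
  · intro a
    rw [CliffordAlgebra.ι_mul_ι_add_swap, h73_polar_single, if_pos rfl, map_one]
  · intro h2 hneg
    have : Invertible (2 : F) := invertibleOfNonzero h2
    have h0 : (2 : CliffordAlgebra (h73_Q l F)) = 0 := by
      have : (1 : CliffordAlgebra (h73_Q l F)) + 1 = 0 := by
        nth_rewrite 1 [← hneg]
        exact neg_add_cancel 1
      rw [← one_add_one_eq_two]
      exact this
    have h1 : (1 : CliffordAlgebra (h73_Q l F)) = 0 := by
      have e1 : algebraMap F (CliffordAlgebra (h73_Q l F)) (⅟(2 : F) * 2) = 1 := by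
        rw [invOf_mul_self, map_one]
      rw [← e1, map_mul, map_ofNat, h0, mul_zero]
    exact one_ne_zero h1

end Cfsg.Agent.Lib.Helper66_S96
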