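import Mathlib
import Cfsg.Prelude.Def_KGroupFacts
import Cfsg.Agent.Lib.Helper66_S96Rank
import Cfsg.Agent.Lib.Helper66_S96Defs2
import Cfsg.Agent.Lib.Helper81_UceA

set_option autoImplicit false
set_option linter.unusedVariables false

/-!
helper73 — package D_SMALLGRP of helper66's market `s96_packages` (S2096 / S2097): a subgroup with the
listed at most four elements is `Z/1`, `Z/2`, `Z/4` or `(Z/2)^2`.
-/

namespace Cfsg.Agent.Lib.Helper66_S96

open Cfsg.Agent.Lib.Helper5_SteinbergA Cfsg.Agent.Lib.Helper66_S92 Cfsg.Agent.Lib.Helper81_UceA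

universe u v

/-- the cardinality of a subgroup contained in a finset -/
theorem h73_card_le {G : Type*} [Group G] [DecidableEq G] (S : Subgroup G) (T : Finset G)
    (h : ∀ g ∈ S, g ∈ T) : Finite S ∧ Nat.card S ≤ T.card := by
  have hsub : (S : Set G) ⊆ (↑T : Set G) := fun g hg => Finset.mem_coe.mpr (h g hg)
  have hfin : (S : Set G).Finite := (Finset.finite_toSet T).subset hsub
  refine ⟨hfin.to_subtype, ?_⟩
  have h1 : Nat.card S = (S : Set G).ncard := Nat.card_coe_set_eq (S : Set G)
  rw [h1, ← Set.ncard_coe_finset T]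
  exact Set.ncard_le_ncard hsub (Finset.finite_toSet T)

/-- a group of order four and exponent two is the Klein four group -/
theorem h73_klein_of_card_exp {H : Type*} [Group H] (hc : Nat.card H = 4)
    (he : Monoid.exponent H = 2) : Nonempty (Multiplicative (ZMod 2 × ZMod 2) ≃* H) := by
  classical
  have : IsKleinFour H := ⟨hc, he⟩
  have : Finite H := Nat.finite_of_card_ne_zero (by rw [hc]; norm_num)
  have h4 : Nat.card (Multiplicative (ZMod 2 × ZMod 2)) = Nat.card H := by
    rw [hc]
    exact IsKleinFour.card_four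
  obtain ⟨e⟩ := Finite.card_eq.mp h4
  let e' : Multiplicative (ZMod 2 × ZMod 2) ≃ H := e.trans (Equiv.swap (e 1) 1)
  have he' : e' 1 = 1 := by
    show Equiv.swap (e 1) 1 (e 1) = 1
    exact Equiv.swap_apply_left _ _
  exact ⟨IsKleinFour.mulEquiv e' he'⟩

/-! ## D_SMALLGRP : groups with at most four elements -/

theorem mulEquiv_zmod1_of {G : Type*} [Group G] (S : Subgroup G) (h : ∀ g ∈ S, g = 1) :
    Nonempty (Multiplicative (ZMod 1) ≃* S) ∧
      Nonempty (Multiplicative (ZMod 1 × ZMod 1) ≃* S) := by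
  have : Unique S := ⟨⟨1⟩, fun g => Subtype.ext (h g.1 g.2)⟩
  have : Unique (Multiplicative (ZMod 1)) := ⟨⟨1⟩, fun g => Subsingleton.elim (α := Fin 1) _ _⟩
  have : Unique (Multiplicative (ZMod 1 × ZMod 1)) :=
    ⟨⟨1⟩, fun g => Subsingleton.elim (α := Fin 1 × Fin 1) _ _⟩
  exact ⟨⟨MulEquiv.ofUnique⟩, ⟨MulEquiv.ofUnique⟩⟩

theorem mulEquiv_zmod2_of {G : Type*} [Group G] (S : Subgroup G) (z : G) (hz : z ∈ S)
    (hz1 : z ≠ 1) (h : ∀ g ∈ S, g = 1 ∨ g = z) : Nonempty (Multiplicative (ZMod 2) ≃* S) := by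
  have hcard : Nat.card S = 2 := by
    rw [Nat.card_eq_two_iff]
    refine ⟨⟨1, S.one_mem⟩, ⟨z, hz⟩, ?_, ?_⟩
    · intro h0
      exact hz1 (congrArg Subtype.val h0).symm
    · ext g
      simp only [Set.mem_insert_iff, Set.mem_singleton_iff, Set.mem_univ, iff_true]
      rcases h g.1 g.2 with h1 | h1
      · exact Or.inl (Subtype.ext h1)
      · exact Or.inr (Subtype.ext h1)
  have : Fact (Nat.Prime 2) := ⟨Nat.prime_two⟩
  have hcyc : IsCyclic S := isCyclic_of_prime_card hcard
  have e := zmodCyclicMulEquiv hcyc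
  rw [hcard] at e
  exact ⟨e⟩

theorem mulEquiv_zmod4_of {G : Type*} [Group G] (S : Subgroup G) (z c : G) (hc : c ∈ S)
    (hz1 : z ≠ 1) (hcc : c * c = z) (hzz : z * z = 1)
    (h : ∀ g ∈ S, g = 1 ∨ g = z ∨ g = c ∨ g = c * z) :
    Nonempty (Multiplicative (ZMod 4) ≃* S) := by
  classical
  obtain ⟨hfin, hle⟩ := h73_card_le S {1, z, c, c * z} (fun g hg => by
    simp only [Finset.mem_insert, Finset.mem_singleton]
    exact h g hg)
  have := hfin
  have hle4 : Nat.card S ≤ 4 := le_trans hle Finset.card_le_four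
  have : Fact (Nat.Prime 2) := ⟨Nat.prime_two⟩
  have hord : orderOf (⟨c, hc⟩ : S) = 2 ^ (1 + 1) := by
    apply orderOf_eq_prime_pow
    · intro h2
      apply hz1
      have := congrArg Subtype.val h2
      simp only [pow_one, Subgroup.coe_pow, Subgroup.coe_one] at this
      rw [pow_two, hcc] at this
      exact this
    · apply Subtype.ext
      simp only [Subgroup.coe_pow, Subgroup.coe_one]
      show c ^ (2 ^ (1 + 1)) = 1
      have : c ^ (2 ^ (1 + 1)) = (c * c) * (c * c) := by
        norm_num [pow_succ, mul_assoc]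
      rw [this, hcc, hzz]
  have hord4 : orderOf (⟨c, hc⟩ : S) = 4 := by rw [hord]; norm_num
  have hge : 4 ≤ Nat.card S := by
    rw [← hord4]
    exact orderOf_le_card
  have hcard : Nat.card S = 4 := le_antisymm hle4 hge
  have hcyc : IsCyclic S := isCyclic_of_orderOf_eq_card _ (by rw [hord4, hcard])
  have e := zmodCyclicMulEquiv hcyc
  rw [hcard] at e
  exact ⟨e⟩

theorem mulEquiv_klein_of {G : Type*} [Group G] (S : Subgroup G) (z c : G) (hz : z ∈ S)
    (hc : c ∈ S) (hz1 : z ≠ 1) (hc1 : c ≠ 1) (hcz : c ≠ z) (hcc : c * c = 1) (hzz : z * z = 1)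
    (hcomm : c * z = z * c) (h : ∀ g ∈ S, g = 1 ∨ g = z ∨ g = c ∨ g = c * z) :
    Nonempty (Multiplicative (ZMod 2 × ZMod 2) ≃* S) := by
  classical
  have hmem : ∀ g, g ∈ S ↔ g ∈ ({1, z, c, c * z} : Finset G) := by
    intro g
    simp only [Finset.mem_insert, Finset.mem_singleton]
    constructor
    · exact h g
    · rintro (rfl | rfl | rfl | rfl)
      · exact S.one_mem
      · exact hz
      · exact hc
      · exact S.mul_mem hc hz
  have hcz1 : c * z ≠ 1 := by
    intro h1
    apply hcz
    calc c = c * (z * z) := by rw [hzz, mul_one]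
      _ = (c * z) * z := by rw [mul_assoc]
      _ = z := by rw [h1, one_mul]
  have hczz : c * z ≠ z := by
    intro h1
    apply hc1
    calc c = c * (z * z) := by rw [hzz, mul_one]
      _ = (c * z) * z := by rw [mul_assoc]
      _ = 1 := by rw [h1, hzz]
  have hczc : c * z ≠ c := by
    intro h1
    apply hz1
    calc z = (c * c) * z := by rw [hcc, one_mul]
      _ = c * (c * z) := by rw [mul_assoc]
      _ = 1 := by rw [h1, hcc]
  have hcard : Nat.card S = 4 := by
    rw [Nat.card_congr (Equiv.subtypeEquivRight hmem), Nat.card_eq_fintype_card,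
      Fintype.card_coe]
    rw [Finset.card_insert_of_notMem, Finset.card_insert_of_notMem,
      Finset.card_insert_of_notMem, Finset.card_singleton]
    · simp only [Finset.mem_singleton]
      exact fun h1 => hczc h1.symm
    · simp only [Finset.mem_insert, Finset.mem_singleton, not_or]
      exact ⟨fun h1 => hcz h1.symm, fun h1 => hczz h1.symm⟩
    · simp only [Finset.mem_insert, Finset.mem_singleton, not_or]
      exact ⟨fun h1 => hz1 h1.symm, fun h1 => hc1 h1.symm, fun h1 => hcz1 h1.symm⟩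
  have hsq : ∀ g : S, g * g = 1 := by
    intro g
    apply Subtype.ext
    show g.1 * g.1 = 1
    rcases h g.1 g.2 with h1 | h1 | h1 | h1
    · rw [h1, one_mul]
    · rw [h1, hzz]
    · rw [h1, hcc]
    · rw [h1]
      calc c * z * (c * z) = c * (z * c) * z := by simp only [mul_assoc]
        _ = c * (c * z) * z := by rw [hcomm]
        _ = (c * c) * (z * z) := by simp only [mul_assoc]
        _ = 1 := by rw [hcc, hzz, one_mul]
  have : Nontrivial S := ⟨⟨⟨z, hz⟩, 1, fun h1 => hz1 (congrArg Subtype.val h1)⟩⟩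
  have : Fact (Nat.Prime 2) := ⟨Nat.prime_two⟩
  have hexp : Monoid.exponent S = 2 := by
    rw [Monoid.exponent_eq_prime_iff Nat.prime_two]
    intro g hg
    exact orderOf_eq_prime (by rw [pow_two]; exact hsq g) hg
  exact h73_klein_of_card_exp hcard hexp

end Cfsg.Agent.Lib.Helper66_S96
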