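import Mathlib
import Cfsg.Prelude.Def_KGroupFacts
import Cfsg.Agent.Lib.Helper66_S96Asm
import Cfsg.Agent.Lib.Helper66_S96Model
import Cfsg.Agent.Lib.Helper46_S96_MAIN
import Cfsg.Agent.Lib.Helper14_S96_STEIN
import Cfsg.Agent.Lib.Helper69_S96_D_CLIFF
import Cfsg.Agent.Lib.Helper73_S96_CLIFFINST
import Cfsg.Agent.Lib.Helper14_S96_MODELB
import Cfsg.Agent.Lib.Helper14_S96_CENTER
import Cfsg.Agent.Lib.Helper53_S96_NEGWORD
import Cfsg.Agent.Lib.Helper39_S96_TRANSFER
import Cfsg.Agent.Lib.Helper39_S96_PERF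
import Cfsg.Agent.Lib.Helper17_S96_UCE
import Cfsg.Agent.Lib.Helper73_S96_SMALLGRP
import Cfsg.Agent.Lib.Helper78_S96_EVALB

set_option autoImplicit false

/-!
The final assembly for the Schur multipliers of `PΩ⁺_{2l}(q)` (helper66, S2096 / S2097).
-/

namespace Cfsg.Agent.Lib.Helper66_S96

open Cfsg.Agent.Lib.Helper5_SteinbergA Cfsg.Agent.Lib.Helper66_S92 Cfsg.Agent.Lib.Helper81_UceA

universe u v

section abstract

variable {ι : Type*} [DecidableEq ι] {K : Type*} [Field K] {G : Type*} [Group G]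
  {X : ι ⊕ ι → ι ⊕ ι → K → G}

theorem h66_end_ext [Finite ι] {f g : Module.End K (ι ⊕ ι → K)}
    (h : ∀ d, f (Pi.single d 1) = g (Pi.single d 1)) : f = g := by
  apply LinearMap.pi_ext'
  intro d
  apply LinearMap.ext_ring
  simpa using h d

theorem h66_chD_mul (a c d : ι ⊕ ι) :
    chD a c (-1 : K) d * chD a (ng c) (-1 : K) d = 1 := by
  unfold chD
  rw [ng_ng, inv_neg_one]
  by_cases h1 : d = a
  · simp [h1]
  by_cases h2 : d = c
  · simp [h2]
  by_cases h3 : d = ng a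
  · simp [h3]
  by_cases h4 : d = ng c
  · simp [h4]
  simp [h1, h2, h3, h4]

/-- the elements `zD` act trivially -/
theorem act_zD [Finite ι] (ρ : G →* Module.End K (ι ⊕ ι → K)) (hρ : IsActD X ρ) (a c : ι ⊕ ι)
    (h1 : c ≠ a) (h2 : c ≠ ng a) : ρ (zD X a c) = 1 := by
  have h1' : ng c ≠ a := fun h => h2 (by rw [← h, ng_ng])
  have h2' : ng c ≠ ng a := fun h => h1 (ng_injective h)
  have hm : (-1 : K) ≠ 0 := neg_ne_zero.mpr one_ne_zero
  apply h66_end_ext
  intro d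
  unfold zD
  rw [map_mul, Module.End.mul_apply, act_HD ρ hρ a (ng c) h1' h2' (-1) hm d, map_smul,
    act_HD ρ hρ a c h1 h2 (-1) hm d, smul_smul, mul_comm, h66_chD_mul, one_smul,
    Module.End.one_apply]

theorem zD_mul_self (C : WCalcD X) (a c : ι ⊕ ι) (h1 : c ≠ a) (h2 : c ≠ ng a) :
    zD X a c * zD X a c = 1 := by
  have h1' : ng c ≠ a := fun h => h2 (by rw [← h, ng_ng])
  have h2' : ng c ≠ ng a := fun h => h1 (ng_injective h)
  have hm : (-1 : K) ≠ 0 := neg_ne_zero.mpr one_ne_zero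
  have e1 : HD X a c (-1) * HD X a c (-1) = 1 := by
    rw [C.hd_mul a c h1 h2 (-1) (-1) hm hm, neg_one_mul, neg_neg, HD_one]
  have e2 : HD X a (ng c) (-1) * HD X a (ng c) (-1) = 1 := by
    rw [C.hd_mul a (ng c) h1' h2' (-1) (-1) hm hm, neg_one_mul, neg_neg, HD_one]
  have e3 : HD X a (ng c) (-1) * HD X a c (-1) = HD X a c (-1) * HD X a (ng c) (-1) :=
    C.hh_comm a (ng c) h1' h2' (-1) hm a c h1 h2 (-1) hm
  unfold zD
  calc HD X a c (-1) * HD X a (ng c) (-1) * (HD X a c (-1) * HD X a (ng c) (-1))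
      = HD X a c (-1) * (HD X a (ng c) (-1) * HD X a c (-1)) * HD X a (ng c) (-1) := by
        simp only [mul_assoc]
    _ = HD X a c (-1) * HD X a c (-1) * (HD X a (ng c) (-1) * HD X a (ng c) (-1)) := by
        rw [e3]; simp only [mul_assoc]
    _ = 1 := by rw [e1, e2, mul_one]

end abstract

/-! ### the kernel of `θ` -/

section kernel

variable {K : Type*} [Field K] [Finite K] {ι : Type*} [Fintype ι] [DecidableEq ι]
  {Gh : Type*} [Group Gh] {Y : ι ⊕ ι → ι ⊕ ι → K → Gh} (hY : DSt Y)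
  (hgen : Subgroup.closure {g | ∃ a c t, g = Y a c t} = ⊤)
  (ρ : Gh →* Module.End K (ι ⊕ ι → K)) (hρ : IsActD Y ρ) (h2 : 2 ≤ Fintype.card ι)
  (z : Gh) (hz : ∀ a c, c ≠ a → c ≠ ng a → zD Y a c = z)

include hY hgen hρ h2 hz

theorem ker_rho_cases (g : Gh) (hg : ρ g = 1) : g = 1 ∨ g = z := by
  rcases ker_cases_of_dSt h2 hY hgen ρ hρ g hg with h | ⟨a, c, h1, h2, h⟩
  · exact Or.inl h
  · right
    rw [h, hz a c h1 h2]

theorem rho_z [Nonempty ι] : ρ z = 1 := by
  obtain ⟨i⟩ := ‹Nonempty ι›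
  obtain ⟨j, hj⟩ : ∃ j : ι, j ≠ i := by
    by_contra hcon
    push_neg at hcon
    have : Fintype.card ι ≤ 1 := Fintype.card_le_one_iff.mpr (fun a b => by rw [hcon a, hcon b])
    omega
  have h1 : (Sum.inl j : ι ⊕ ι) ≠ Sum.inl i := fun h => hj (Sum.inl.inj h)
  have h2' : (Sum.inl j : ι ⊕ ι) ≠ ng (Sum.inl i) := by simp
  rw [← hz (Sum.inl i) (Sum.inl j) h1 h2']
  exact act_zD ρ hρ _ _ h1 h2'

theorem ker_cases_neg [Nonempty ι] (c : Gh) (hc : ρ c = -1) (g : Gh) (hg : ρ g = 1 ∨ ρ g = -1) :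
    g = 1 ∨ g = z ∨ g = c ∨ g = c * z := by
  rcases hg with hg | hg
  · rcases ker_rho_cases hY hgen ρ hρ h2 z hz g hg with h | h
    · exact Or.inl h
    · exact Or.inr (Or.inl h)
  · have h1 : ρ (c⁻¹ * g) = 1 := by
      have h3 : ρ c * ρ (c⁻¹ * g) = ρ g := by
        rw [← map_mul, mul_inv_cancel_left]
      rw [hc, hg] at h3
      apply LinearMap.ext
      intro v
      have h4 := LinearMap.congr_fun h3 v
      rw [Module.End.mul_apply, LinearMap.neg_apply, LinearMap.neg_apply, Module.End.one_apply,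
        Module.End.one_apply, neg_inj] at h4
      rw [Module.End.one_apply]
      exact h4
    rcases ker_rho_cases hY hgen ρ hρ h2 z hz _ h1 with h | h
    · right; right; left
      rw [← mul_right_inj c⁻¹, h, inv_mul_cancel]
    · right; right; right
      rw [← h]; group

end kernel

/-! ### the cover: the subgroup of `Aˣ × Ω⁺_{2l}(F)` generated by the pairs of root elements -/

section cover

variable (l : ℕ) (F : Type u) [Field F]

theorem zD_XO (hl : 3 ≤ l) (a c : Fin l ⊕ Fin l) (h1 : c ≠ a) (h2 : c ≠ ng a) :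
    zD (XO l F) a c = 1 := by
  apply actO_injective
  rw [map_one]
  exact act_zD (actO l F) (isActD_XO l F hl) a c h1 h2

theorem exists_cover (hl : 3 ≤ l) :
    ∃ (Gh : Type u) (_ : Group Gh) (Y : Fin l ⊕ Fin l → Fin l ⊕ Fin l → F → Gh)
      (p : Gh →* OmP l F) (z : Gh),
      DStAB Y ∧ Subgroup.closure {g | ∃ a c t, g = Y a c t} = ⊤ ∧
      (∀ a c t, p (Y a c t) = XO l F a c t) ∧
      (∀ a c, c ≠ a → c ≠ ng a → zD Y a c = z) ∧ ((2 : F) ≠ 0 → z ≠ 1) := by
  obtain ⟨A, _, _, e, he, hneg⟩ := exists_cliffSys l F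
  obtain ⟨Yc, hYc, -, hYz⟩ := exists_cliff_family (K := F) e he
  let P : Fin l ⊕ Fin l → Fin l ⊕ Fin l → F → Aˣ × OmP l F := fun a c t => (Yc a c t, XO l F a c t)
  let S : Subgroup (Aˣ × OmP l F) := Subgroup.closure {g | ∃ a c t, g = P a c t}
  have hmem : ∀ a c t, P a c t ∈ S := fun a c t => Subgroup.subset_closure ⟨a, c, t, rfl⟩
  let Y : Fin l ⊕ Fin l → Fin l ⊕ Fin l → F → ↥S := fun a c t => ⟨P a c t, hmem a c t⟩
  have hP : DStAB P := dStAB_prod hYc (dStAB_XO l F hl)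
  have hYd : DStAB Y := dStAB_of_map_injective S.subtype S.subtype_injective hP
  have hgen : Subgroup.closure {g | ∃ a c t, g = Y a c t} = ⊤ :=
    closure_subtype_top P Y (fun a c t => rfl)
  -- the element `z`
  have h0 : 0 < l := by omega
  have h1 : 1 < l := by omega
  let a0 : Fin l ⊕ Fin l := Sum.inl ⟨0, h0⟩
  let c0 : Fin l ⊕ Fin l := Sum.inl ⟨1, h1⟩
  have hzc : ∀ a c, c ≠ a → c ≠ ng a → zD P a c = (zD Yc a0 c0, 1) := by
    intro a c hca hca'
    apply Prod.ext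
    · have e1 := map_zD (MonoidHom.fst Aˣ (OmP l F)) P a c
      rw [MonoidHom.coe_fst] at e1
      rw [e1]
      apply Units.ext
      have hc0 : c0 ≠ a0 := by
        intro h
        have := Sum.inl.inj h
        simp [Fin.ext_iff] at this
      have hc0' : c0 ≠ ng a0 := by simp [a0, c0]
      have e2 : ((zD (fun a c t => (P a c t).1) a c : Aˣ) : A) = -1 := hYz a c hca hca'
      rw [e2]
      exact (hYz a0 c0 hc0 hc0').symm
    · have e1 := map_zD (MonoidHom.snd Aˣ (OmP l F)) P a c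
      rw [MonoidHom.coe_snd] at e1
      rw [e1]
      exact zD_XO l F hl a c hca hca'
  refine ⟨↥S, inferInstance, Y, (MonoidHom.snd Aˣ (OmP l F)).comp S.subtype, zD Y a0 c0, hYd, hgen,
    fun a c t => rfl, ?_, ?_⟩
  · intro a c hca hca'
    apply Subtype.ext
    have e1 : ((zD Y a c : ↥S) : Aˣ × OmP l F) = zD P a c := map_zD S.subtype Y a c
    have e2 : ((zD Y a0 c0 : ↥S) : Aˣ × OmP l F) = zD P a0 c0 := map_zD S.subtype Y a0 c0
    have hc0 : c0 ≠ a0 := by
      intro h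
      have := Sum.inl.inj h
      simp [Fin.ext_iff] at this
    have hc0' : c0 ≠ ng a0 := by simp [a0, c0]
    rw [e1, e2, hzc a c hca hca', hzc a0 c0 hc0 hc0']
  · intro h2 hz1
    have hc0 : c0 ≠ a0 := by
      intro h
      have := Sum.inl.inj h
      simp [Fin.ext_iff] at this
    have hc0' : c0 ≠ ng a0 := by simp [a0, c0]
    have e2 : ((zD Y a0 c0 : ↥S) : Aˣ × OmP l F) = zD P a0 c0 := map_zD S.subtype Y a0 c0
    rw [hz1, Subgroup.coe_one, hzc a0 c0 hc0 hc0'] at e2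
    have e5 : (1 : Aˣ) = zD Yc a0 c0 := congrArg Prod.fst e2
    have e6 : ((1 : Aˣ) : A) = -1 := by
      rw [e5]
      exact hYz a0 c0 hc0 hc0'
    rw [Units.val_one] at e6
    exact hneg h2 e6.symm

end cover

/-! ### the main theorems -/

section main

variable (l : ℕ) (F : Type u) [Field F]

theorem actO_eq_one_iff (g : OmP l F) : actO l F g = 1 ↔ toMatO l F g = 1 := by
  constructor
  · intro h
    have h1 : actO l F g = actO l F 1 := by rw [h, map_one]
    rw [actO_injective l F h1, map_one]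
  · intro h
    have h1 : toMatO l F g = toMatO l F 1 := by rw [h, map_one]
    rw [toMatO_injective l F h1, map_one]

theorem actO_eq_neg_one_iff (g : OmP l F) : actO l F g = -1 ↔ toMatO l F g = -1 := by
  have key : ∀ M : Matrix (Fin l ⊕ Fin l) (Fin l ⊕ Fin l) F,
      Matrix.toLin' M = (-1 : Module.End F (Fin l ⊕ Fin l → F)) ↔ M = -1 := by
    intro M
    have h1 : Matrix.toLin' (-1 : Matrix (Fin l ⊕ Fin l) (Fin l ⊕ Fin l) F) =
        (-1 : Module.End F (Fin l ⊕ Fin l → F)) := by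
      rw [map_neg, Matrix.toLin'_one]
      rfl
    constructor
    · intro h
      apply Matrix.toLin'.injective
      rw [h, h1]
    · intro h
      rw [h, h1]
  exact key (toMatO l F g)

/-- the hypothesis that Steinberg families of type `D_l` lift to central extensions of `PΩ⁺` -/
def LiftHyp : Prop :=
  ∀ {Gh : Type u} [Group Gh] (Y : Fin l ⊕ Fin l → Fin l ⊕ Fin l → F → Gh)
    (θ : Gh →* Cfsg.POmega F (Cfsg.quadFormPlus l F)), DStAB Y →
    ∀ {Γ : Type u} [Group Γ] (σ : Γ →* Cfsg.POmega F (Cfsg.quadFormPlus l F)), CExt σ →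
      ∃ Z : Fin l ⊕ Fin l → Fin l ⊕ Fin l → F → Γ, (∀ a c t, σ (Z a c t) = θ (Y a c t)) ∧ DStAB Z

theorem liftHyp_of_five (h5 : 5 ≤ l) : LiftHyp l F := by
  intro Gh _ Y θ hY Γ _ σ hσ
  exact exists_dStAB_lift (by rw [Fintype.card_fin]; exact h5) hσ (dStAB_map θ hY)

theorem schur_setup [Fintype F] (hl : 3 ≤ l) :
    ∃ (Gh : Type u) (_ : Group Gh) (Y : Fin l ⊕ Fin l → Fin l ⊕ Fin l → F → Gh)
      (ρ : Gh →* Module.End F (Fin l ⊕ Fin l → F))
      (θ : Gh →* Cfsg.POmega F (Cfsg.quadFormPlus l F)) (z : Gh),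
      DSt Y ∧ Subgroup.closure {g | ∃ a c t, g = Y a c t} = ⊤ ∧ IsActD Y ρ ∧
      Function.Surjective θ ∧ (∀ g, θ g = 1 ↔ (ρ g = 1 ∨ ρ g = -1)) ∧
      (∀ a c, c ≠ a → c ≠ ng a → zD Y a c = z) ∧ ((2 : F) ≠ 0 → z ≠ 1) ∧
      (Odd l → Fintype.card F % 4 = 3 → ∀ g, ρ g ≠ -1) := by
  obtain ⟨Gh, _, Y, p, z, hYd, hgen, hpY, hz, hz1⟩ := exists_cover l F hl
  have hps : Function.Surjective p := by
    rw [← MonoidHom.range_eq_top, eq_top_iff, ← XO_gen l F hl, Subgroup.closure_le]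
    rintro g ⟨a, c, t, rfl⟩
    exact ⟨Y a c t, hpY a c t⟩
  refine ⟨Gh, inferInstance, Y, (actO l F).comp p,
    (QuotientGroup.mk' (Subgroup.center (OmP l F))).comp p, z,
    dSt_of_dStAB hYd (by rw [Fintype.card_fin]; exact hl), hgen, ?_, ?_, ?_, hz, hz1, ?_⟩
  · intro a c t v
    rw [MonoidHom.comp_apply, hpY]
    exact isActD_XO l F hl a c t v
  · exact (QuotientGroup.mk'_surjective _).comp hps
  · intro g
    rw [MonoidHom.comp_apply, MonoidHom.comp_apply, QuotientGroup.mk'_apply,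
      QuotientGroup.eq_one_iff, actO_eq_one_iff, actO_eq_neg_one_iff]
    exact ⟨center_OmP l F hl (p g), mem_center_OmP l F (p g)⟩
  · intro hodd h3 g hg
    rw [MonoidHom.comp_apply, actO_eq_neg_one_iff] at hg
    exact neg_not_mem_OmP l F hodd h3 (p g) hg

end main

/-! ### arithmetic -/

section arith

theorem h66_gcd4 (m : ℕ) : Nat.gcd 4 m = Nat.gcd (m % 4) 4 := Nat.gcd_rec 4 m

theorem h66_gcd2 (m : ℕ) : Nat.gcd 2 m = Nat.gcd (m % 2) 2 := Nat.gcd_rec 2 m

theorem h66_pow_pos {q l : ℕ} (hq : 0 < q) : 0 < q ^ l := Nat.pow_pos hq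

theorem h66_gcd4_even {q l : ℕ} (hq : q % 2 = 0) (hq0 : 0 < q) (hl : 2 ≤ l) :
    Nat.gcd 4 (q ^ l - 1) = 1 := by
  have h1 : q ^ l % 4 = 0 := by
    obtain ⟨k, rfl⟩ : ∃ k, l = k + 2 := ⟨l - 2, by omega⟩
    obtain ⟨r, rfl⟩ : ∃ r, q = 2 * r := ⟨q / 2, by omega⟩
    rw [pow_add, mul_pow 2 r 2]
    have : (2 * r) ^ k * (2 ^ 2 * r ^ 2) = 4 * ((2 * r) ^ k * r ^ 2) := by ring
    rw [this, Nat.mul_mod_right]
  have h2 := h66_pow_pos (l := l) hq0
  have h3 : (q ^ l - 1) % 4 = 3 := by omega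
  rw [h66_gcd4, h3]; rfl

theorem h66_gcd2_even {q l : ℕ} (hq : q % 2 = 0) (hq0 : 0 < q) (hl : 1 ≤ l) :
    Nat.gcd 2 (q ^ l - 1) = 1 := by
  have h1 : q ^ l % 2 = 0 := by
    rw [Nat.pow_mod, hq, zero_pow (by omega)]; rfl
  have h2 := h66_pow_pos (l := l) hq0
  have h3 : (q ^ l - 1) % 2 = 1 := by omega
  rw [h66_gcd2, h3]; rfl

theorem h66_gcd2_odd {q l : ℕ} (hq : q % 2 = 1) : Nat.gcd 2 (q ^ l - 1) = 2 := by
  have h1 : q ^ l % 2 = 1 := by
    rw [Nat.pow_mod, hq, one_pow]; rfl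
  have h3 : (q ^ l - 1) % 2 = 0 := by omega
  rw [h66_gcd2, h3]; rfl

theorem h66_gcd4_one {q l : ℕ} (hq : q % 4 = 1) : Nat.gcd 4 (q ^ l - 1) = 4 := by
  have h1 : q ^ l % 4 = 1 := by
    rw [Nat.pow_mod, hq, one_pow]; rfl
  have h3 : (q ^ l - 1) % 4 = 0 := by omega
  rw [h66_gcd4, h3]; rfl

theorem h66_gcd4_three {q l : ℕ} (hq : q % 4 = 3) (hl : Odd l) : Nat.gcd 4 (q ^ l - 1) = 2 := by
  have h1 : q ^ l % 4 = 3 := by
    obtain ⟨k, rfl⟩ := hl
    rw [Nat.pow_mod, hq, pow_succ, pow_mul]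
    have : (3 ^ 2) ^ k * 3 % 4 = ((3 ^ 2) ^ k % 4) * (3 % 4) % 4 := Nat.mul_mod _ _ _
    rw [this, Nat.pow_mod]
    norm_num
  have h3 : (q ^ l - 1) % 4 = 2 := by omega
  rw [h66_gcd4, h3]; rfl

theorem h66_two_eq_zero_iff (F : Type*) [Field F] [Fintype F] :
    (2 : F) = 0 ↔ Fintype.card F % 2 = 0 := by
  rw [← FiniteField.even_card_iff_char_two]
  constructor
  · intro h
    exact CharP.ringChar_of_prime_eq_zero Nat.prime_two (by exact_mod_cast h)
  · intro h
    have := ringChar.Nat.cast_ringChar (R := F)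
    rw [h] at this
    exact_mod_cast this

end arith

/-! ### the multipliers -/

section final

variable (l : ℕ) (F : Type u) [Field F] [Fintype F]

theorem h66_neg_one_eq_one {K : Type*} [Field K] (h2 : (2 : K) = 0) : (-1 : K) = 1 := by
  have : (1 : K) + 1 = 0 := by rw [one_add_one_eq_two, h2]
  exact (eq_neg_of_add_eq_zero_left this).symm

theorem schur_common (hl : 3 ≤ l) (hlift : LiftHyp l F) :
    ∃ (Gh : Type u) (_ : Group Gh) (Y : Fin l ⊕ Fin l → Fin l ⊕ Fin l → F → Gh)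
      (ρ : Gh →* Module.End F (Fin l ⊕ Fin l → F))
      (θ : Gh →* Cfsg.POmega F (Cfsg.quadFormPlus l F)) (z : Gh),
      DSt Y ∧ WCalcD Y ∧ IsActD Y ρ ∧ (∀ g, θ g = 1 ↔ (ρ g = 1 ∨ ρ g = -1)) ∧
      (∀ a c, c ≠ a → c ≠ ng a → zD Y a c = z) ∧ ((2 : F) ≠ 0 → z ≠ 1) ∧
      (Odd l → Fintype.card F % 4 = 3 → ∀ g, ρ g ≠ -1) ∧
      (∀ g, ρ g = 1 → g = 1 ∨ g = z) ∧ ρ z = 1 ∧ z * z = 1 ∧
      (∀ c, ρ c = -1 → ∀ g, θ g = 1 → g = 1 ∨ g = z ∨ g = c ∨ g = c * z) ∧
      (∀ {A : Type} [CommGroup A], Nonempty (A ≃* θ.ker) →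
        Cfsg.HasSchurMultiplier (Cfsg.POmega F (Cfsg.quadFormPlus l F)) A) := by
  obtain ⟨Gh, _, Y, ρ, θ, z, hY, hgen, hρ, hθ, hker, hz, hz1, hnoneg⟩ := schur_setup l F hl
  have C : WCalcD Y := wCalcD_of_dSt hY
  have hcard3 : 3 ≤ Fintype.card (Fin l) := by rw [Fintype.card_fin]; exact hl
  have hcard2 : 2 ≤ Fintype.card (Fin l) := by omega
  haveI : Nonempty (Fin l) := ⟨⟨0, by omega⟩⟩
  have hzz : (-1 : F) = 1 ∨ ∀ a c, c ≠ a → c ≠ ng a → zD Y a c ≠ 1 := by
    by_cases h2 : (2 : F) = 0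
    · exact Or.inl (h66_neg_one_eq_one h2)
    · right
      intro a c h1 h2'
      rw [hz a c h1 h2']
      exact hz1 h2
  have h0 : 0 < l := by omega
  have h1 : 1 < l := by omega
  have hc0 : (Sum.inl ⟨1, h1⟩ : Fin l ⊕ Fin l) ≠ Sum.inl ⟨0, h0⟩ := by
    intro h
    have := Sum.inl.inj h
    simp [Fin.ext_iff] at this
  have hc0' : (Sum.inl ⟨1, h1⟩ : Fin l ⊕ Fin l) ≠ ng (Sum.inl ⟨0, h0⟩) := by simp
  refine ⟨Gh, inferInstance, Y, ρ, θ, z, hY, C, hρ, hker, hz, hz1, hnoneg,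
    ker_rho_cases hY hgen ρ hρ hcard2 z hz, rho_z hY hgen ρ hρ hcard2 z hz, ?_, ?_, ?_⟩
  · rw [← hz _ _ hc0 hc0']
    exact zD_mul_self C _ _ hc0 hc0'
  · intro c hc g hg
    exact ker_cases_neg hY hgen ρ hρ hcard2 z hz c hc g ((hker g).mp hg)
  · rintro A _ ⟨e⟩
    exact hasSchurMultiplier_of_dSt hcard3 hY hgen ρ hρ hzz θ hθ hker
      (fun σ hσ => hlift Y θ hY.toDStAB σ hσ) e

theorem schur_odd (hl : 3 ≤ l) (hodd : Odd l) (hlift : LiftHyp l F) :
    Cfsg.HasSchurMultiplier (Cfsg.POmega F (Cfsg.quadFormPlus l F))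
      (Multiplicative (ZMod (Nat.gcd 4 (Fintype.card F ^ l - 1)))) := by
  obtain ⟨Gh, _, Y, ρ, θ, z, hY, C, hρ, hker, hz, hz1, hnoneg, hk1, hρz, hzz, hk4, key⟩ :=
    schur_common l F hl hlift
  have hcard3 : 3 ≤ Fintype.card (Fin l) := by rw [Fintype.card_fin]; exact hl
  by_cases h2 : (2 : F) = 0
  · have hq : Fintype.card F % 2 = 0 := (h66_two_eq_zero_iff F).mp h2
    rw [h66_gcd4_even hq Fintype.card_pos (by omega)]
    apply key
    refine (mulEquiv_zmod1_of θ.ker ?_).1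
    intro g hg
    rw [MonoidHom.mem_ker, hker] at hg
    have hm : (-1 : Module.End F (Fin l ⊕ Fin l → F)) = 1 := by
      apply LinearMap.ext
      intro v
      rw [LinearMap.neg_apply, Module.End.one_apply]
      funext d
      rw [Pi.neg_apply, ← neg_one_mul, h66_neg_one_eq_one h2, one_mul]
    have hg1 : ρ g = 1 := by
      rcases hg with hg | hg
      · exact hg
      · rw [hg, hm]
    rcases hk1 g hg1 with h | h
    · exact h
    · rw [h]
      have h0 : 0 < l := by omega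
      have h1 : 1 < l := by omega
      have hc0 : (Sum.inl ⟨1, h1⟩ : Fin l ⊕ Fin l) ≠ Sum.inl ⟨0, h0⟩ := by
        intro h
        have := Sum.inl.inj h
        simp [Fin.ext_iff] at this
      have hc0' : (Sum.inl ⟨1, h1⟩ : Fin l ⊕ Fin l) ≠ ng (Sum.inl ⟨0, h0⟩) := by simp
      rw [← hz _ _ hc0 hc0']
      exact zD_eq_one_of_neg_one_eq Y (h66_neg_one_eq_one h2) _ _
  · have hq : Fintype.card F % 2 = 1 := by
      have := (h66_two_eq_zero_iff F).not.mp h2
      omega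
    have hzmem : z ∈ θ.ker := by
      rw [MonoidHom.mem_ker, hker]
      exact Or.inl hρz
    by_cases h3 : Fintype.card F % 4 = 3
    · rw [h66_gcd4_three h3 hodd]
      apply key
      apply mulEquiv_zmod2_of θ.ker z hzmem (hz1 h2)
      intro g hg
      rw [MonoidHom.mem_ker, hker] at hg
      rcases hg with hg | hg
      · exact hk1 g hg
      · exact absurd hg (hnoneg hodd h3 g)
    · have h1 : Fintype.card F % 4 = 1 := by omega
      rw [h66_gcd4_one h1]
      obtain ⟨i, hi⟩ : ∃ i : F, i * i = -1 := by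
        obtain ⟨i, hi⟩ := FiniteField.isSquare_neg_one_iff.mpr h3
        exact ⟨i, hi.symm⟩
      obtain ⟨c, -, ⟨a, e, he1, he2, hcc⟩, hc⟩ :=
        exists_neg_odd hY C ρ hρ (by rw [Fintype.card_fin]; exact hodd) hcard3 i hi
      rw [hz a e he1 he2] at hcc
      have hρc : ρ c = -1 := LinearMap.ext (fun v => by rw [hc]; rfl)
      have hcmem : c ∈ θ.ker := by
        rw [MonoidHom.mem_ker, hker]
        exact Or.inr hρc
      apply key
      apply mulEquiv_zmod4_of θ.ker z c hcmem (hz1 h2) hcc hzz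
      intro g hg
      exact hk4 c hρc g (MonoidHom.mem_ker.mp hg)

theorem schur_even (hl : 3 ≤ l) (hev : Even l) (hlift : LiftHyp l F) :
    Cfsg.HasSchurMultiplier (Cfsg.POmega F (Cfsg.quadFormPlus l F))
      (Multiplicative (ZMod (Nat.gcd 2 (Fintype.card F ^ l - 1)) ×
        ZMod (Nat.gcd 2 (Fintype.card F ^ l - 1)))) := by
  obtain ⟨Gh, _, Y, ρ, θ, z, hY, C, hρ, hker, hz, hz1, hnoneg, hk1, hρz, hzz, hk4, key⟩ :=
    schur_common l F hl hlift
  have hcard3 : 3 ≤ Fintype.card (Fin l) := by rw [Fintype.card_fin]; exact hl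
  by_cases h2 : (2 : F) = 0
  · have hq : Fintype.card F % 2 = 0 := (h66_two_eq_zero_iff F).mp h2
    rw [h66_gcd2_even hq Fintype.card_pos (by omega)]
    apply key
    refine (mulEquiv_zmod1_of θ.ker ?_).2
    intro g hg
    rw [MonoidHom.mem_ker, hker] at hg
    have hm : (-1 : Module.End F (Fin l ⊕ Fin l → F)) = 1 := by
      apply LinearMap.ext
      intro v
      rw [LinearMap.neg_apply, Module.End.one_apply]
      funext d
      rw [Pi.neg_apply, ← neg_one_mul, h66_neg_one_eq_one h2, one_mul]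
    have hg1 : ρ g = 1 := by
      rcases hg with hg | hg
      · exact hg
      · rw [hg, hm]
    rcases hk1 g hg1 with h | h
    · exact h
    · rw [h]
      have h0 : 0 < l := by omega
      have h1 : 1 < l := by omega
      have hc0 : (Sum.inl ⟨1, h1⟩ : Fin l ⊕ Fin l) ≠ Sum.inl ⟨0, h0⟩ := by
        intro h
        have := Sum.inl.inj h
        simp [Fin.ext_iff] at this
      have hc0' : (Sum.inl ⟨1, h1⟩ : Fin l ⊕ Fin l) ≠ ng (Sum.inl ⟨0, h0⟩) := by simp
      rw [← hz _ _ hc0 hc0']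
      exact zD_eq_one_of_neg_one_eq Y (h66_neg_one_eq_one h2) _ _
  · have hq : Fintype.card F % 2 = 1 := by
      have := (h66_two_eq_zero_iff F).not.mp h2
      omega
    have hzmem : z ∈ θ.ker := by
      rw [MonoidHom.mem_ker, hker]
      exact Or.inl hρz
    rw [h66_gcd2_odd hq]
    obtain ⟨c, -, hcc, hc⟩ :=
      exists_neg_even hY C ρ hρ (by rw [Fintype.card_fin]; exact hev)
    have hρc : ρ c = -1 := LinearMap.ext (fun v => by rw [hc]; rfl)
    have hcmem : c ∈ θ.ker := by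
      rw [MonoidHom.mem_ker, hker]
      exact Or.inr hρc
    -- `-1 ≠ 1` on vectors
    have hm : (-1 : Module.End F (Fin l ⊕ Fin l → F)) ≠ 1 := by
      intro h
      have h0 : 0 < l := by omega
      have := LinearMap.congr_fun h (Pi.single (Sum.inl ⟨0, h0⟩) 1)
      have := congrFun this (Sum.inl ⟨0, h0⟩)
      rw [LinearMap.neg_apply, Module.End.one_apply, Pi.neg_apply, Pi.single_eq_same] at this
      apply h2
      have h3 : (1 : F) + 1 = 0 := by
        nth_rewrite 1 [← this]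
        exact neg_add_cancel 1
      rw [← one_add_one_eq_two, h3]
    have hc1 : c ≠ 1 := by
      intro h
      rw [h, map_one] at hρc
      exact hm hρc.symm
    have hcz : c ≠ z := by
      intro h
      rw [h, hρz] at hρc
      exact hm hρc.symm
    have hcomm : c * z = z * c := by
      -- `c * z * c⁻¹` lies in the kernel of `ρ` and is not `1`
      have h3 : ρ (c * z * c⁻¹) = 1 := by
        rw [map_mul, map_mul, hρz, mul_one, ← map_mul, mul_inv_cancel, map_one]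
      rcases hk1 _ h3 with h | h
      · exfalso
        apply hz1 h2
        have : z = c⁻¹ * (c * z * c⁻¹) * c := by group
        rw [this, h]; group
      · calc c * z = (c * z * c⁻¹) * c := by group
          _ = z * c := by rw [h]
    apply key
    apply mulEquiv_klein_of θ.ker z c hzmem hcmem (hz1 h2) hc1 hcz hcc hzz hcomm
    intro g hg
    exact hk4 c hρc g (MonoidHom.mem_ker.mp hg)

end final

end Cfsg.Agent.Lib.Helper66_S96
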