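import Mathlib
import Cfsg.Prelude.Def_KGroupFacts
import Cfsg.Agent.Lib.Helper66_S96Final
import Cfsg.Agent.Lib.helper19_M23Defs

/-!
# S2054 package UNIV (helper19's market `s2054_packages`)

helper66's cover of `PΩ⁺₈(3)` is universal among groups with a `DStAB` family.
-/

set_option autoImplicit false

namespace Cfsg.Agent.Lib.Helper11_M23_UNIV

open Cfsg Cfsg.Spor Cfsg.Agent.Lib.Helper66_S96 Cfsg.Agent.Lib.Helper66_S92
  Cfsg.Agent.Lib.Helper81_UceA Cfsg.Agent.Lib.helper19_M23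

/-- **PKG UNIV** -/
theorem exists_universal_D4 :
    ∃ (Gh : Type) (_ : Group Gh) (_ : Finite Gh) (Y0 : I8 → I8 → ZMod 3 → Gh)
      (θ : Gh →* Cfsg.POmega (ZMod 3) (Cfsg.quadFormPlus 4 (ZMod 3))),
      DStAB Y0 ∧ rootClosure Y0 = ⊤ ∧ Function.Surjective θ ∧
      θ.ker ≤ Subgroup.center Gh ∧ (∀ x ∈ θ.ker, x ^ 4 = 1) ∧
      ∀ {Γ : Type} [Group Γ] (Y : I8 → I8 → ZMod 3 → Γ), DStAB Y →
        ∃ f : Gh →* Γ, ∀ a c t, f (Y0 a c t) = Y a c t := by
  classical
  obtain ⟨Gh, _, Y, ρ, θ, z, hY, hgen, hρ, hθ, hker, hz, hz1, -⟩ :=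
    schur_setup.{0} 4 (ZMod 3) (by norm_num)
  have h3 : 3 ≤ Fintype.card (Fin 4) := by simp
  have h2c : 2 ≤ Fintype.card (Fin 4) := by simp
  have h2 : (2 : ZMod 3) ≠ 0 := by decide
  have C : WCalcD Y := wCalcD_of_dSt hY
  have hzne : z ≠ 1 := hz1 h2
  have hkρ : ∀ g, ρ g = 1 → g = 1 ∨ ∃ a c, c ≠ a ∧ c ≠ ng a ∧ g = zD Y a c :=
    ker_cases_of_dSt h2c hY hgen ρ hρ
  have hkρz : ∀ g, ρ g = 1 → g = 1 ∨ g = z := by
    intro g hg
    rcases hkρ g hg with h | ⟨a, c, h1, h2', h⟩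
    · exact Or.inl h
    · exact Or.inr (by rw [h, hz a c h1 h2'])
  have hkρc : ∀ g, ρ g = 1 → g ∈ Subgroup.center Gh := by
    intro g hg
    rcases hkρ g hg with rfl | ⟨a, c, h1, h2', rfl⟩
    · exact one_mem _
    · exact zD_mem_center hY C hgen a c h1 h2'
  have hperf : commutator Gh = ⊤ := commutator_eq_top_of_dStAB h3 hY.toDStAB hgen
  have hcen : θ.ker ≤ Subgroup.center Gh := by
    intro g hg
    have hg' := (hker g).mp (MonoidHom.mem_ker.mp hg)
    exact h17_central_of_comm_central hperf g (fun x => hkρc _ (h17_act_comm ρ g hg' x))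
  -- `z * z = 1`
  have hzz : z * z = 1 := by
    have hc0 : (Sum.inl 1 : Fin 4 ⊕ Fin 4) ≠ Sum.inl 0 := by decide
    have hc0' : (Sum.inl 1 : Fin 4 ⊕ Fin 4) ≠ ng (Sum.inl 0) := by simp
    rw [← hz _ _ hc0 hc0']
    exact zD_mul_self C _ _ hc0 hc0'
  -- finiteness
  have hS : {g : Gh | ρ g = 1}.Finite := by
    have hfin : ({1, z} : Set Gh).Finite := Set.toFinite _
    refine hfin.subset ?_
    intro g hg
    rcases hkρz g hg with rfl | rfl
    · exact Or.inl rfl
    · exact Or.inr rfl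
  have hS' : {g : Gh | ρ g = -1}.Finite := by
    by_cases hne : ∃ g0, ρ g0 = -1
    · obtain ⟨g0, hg0⟩ := hne
      refine (hS.image (fun g => g * g0)).subset ?_
      intro g hg
      refine ⟨g * g0⁻¹, ?_, by simp⟩
      have e1 := h17_act_inv_neg ρ g0 hg0
      have n1 : ∀ a : Module.End (ZMod 3) (Fin 4 ⊕ Fin 4 → ZMod 3), (-1) * a = -a :=
        fun a => neg_one_mul a
      have n4 : ∀ a : Module.End (ZMod 3) (Fin 4 ⊕ Fin 4 → ZMod 3), - -a = a := fun a => neg_neg a
      show ρ (g * g0⁻¹) = 1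
      rw [map_mul, e1, (hg : ρ g = -1), n1, n4]
    · push Not at hne
      convert Set.finite_empty
      ext g
      simp [hne g]
  have hkfin : (θ.ker : Set Gh).Finite := by
    refine (hS.union hS').subset ?_
    intro g hg
    exact (hker g).mp (MonoidHom.mem_ker.mp hg)
  have : Finite θ.ker := hkfin.to_subtype
  have hfinGh : Finite Gh :=
    Cfsg.Agent.Lib.Helper35_SteinSchur.finite_of_surjective_of_finite_ker θ hθ
  -- exponent four
  have h4 : ∀ x ∈ θ.ker, x ^ 4 = 1 := by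
    intro x hx
    have hx' := (hker x).mp (MonoidHom.mem_ker.mp hx)
    have hsq : ρ (x * x) = 1 := by
      rw [map_mul]
      rcases hx' with h | h
      · rw [h, mul_one]
      · have n1 : ∀ a : Module.End (ZMod 3) (Fin 4 ⊕ Fin 4 → ZMod 3), (-1) * a = -a :=
          fun a => neg_one_mul a
        have n4 : ∀ a : Module.End (ZMod 3) (Fin 4 ⊕ Fin 4 → ZMod 3), - -a = a :=
          fun a => neg_neg a
        rw [h, n1, n4]
    have e : x ^ 4 = (x * x) * (x * x) := by
      rw [pow_succ, pow_succ, pow_succ, pow_one]; group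
    rw [e]
    rcases hkρz _ hsq with h | h
    · rw [h, mul_one]
    · rw [h, hzz]
  refine ⟨Gh, inferInstance, hfinGh, Y, θ, hY.toDStAB, hgen, hθ, hcen, h4, ?_⟩
  -- universality: the diagonal trick
  intro Γ _ Z hZ
  set P0 : I8 → I8 → ZMod 3 → Γ × Gh := fun a c t => (Z a c t, Y a c t) with hP0def
  set H : Subgroup (Γ × Gh) := Subgroup.closure {g | ∃ a c t, g = P0 a c t} with hH
  set P : I8 → I8 → ZMod 3 → H := fun a c t => ⟨P0 a c t, Subgroup.subset_closure ⟨a, c, t, rfl⟩⟩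
    with hPdef
  have hP0 : DStAB P0 := dStAB_prod hZ hY.toDStAB
  have hPAB : DStAB P := dStAB_of_map_injective H.subtype Subtype.val_injective hP0
  have hP : DSt P := dSt_of_dStAB hPAB h3
  have hPgen : Subgroup.closure {g | ∃ a c t, g = P a c t} = ⊤ :=
    closure_subtype_top P0 P (fun a c t => rfl)
  set sndH : H →* Gh := (MonoidHom.snd Γ Gh).comp H.subtype with hsnd
  set fstH : H →* Γ := (MonoidHom.fst Γ Gh).comp H.subtype with hfst
  set ρH : H →* Module.End (ZMod 3) (Fin 4 ⊕ Fin 4 → ZMod 3) := ρ.comp sndH with hρH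
  have hactH : IsActD P ρH := fun a c t v => hρ a c t v
  have hsurj : Function.Surjective sndH := by
    rw [← MonoidHom.range_eq_top, eq_top_iff, ← hgen, Subgroup.closure_le]
    rintro _ ⟨a, c, t, rfl⟩
    exact ⟨P a c t, rfl⟩
  have hinj : Function.Injective sndH := by
    rw [injective_iff_map_eq_one]
    intro x hx
    have hx1 : ρH x = 1 := by
      show ρ (sndH x) = 1
      rw [hx, map_one]
    rcases ker_cases_of_dSt h2c hP hPgen ρH hactH x hx1 with rfl | ⟨a, c, h1, h2', rfl⟩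
    · rfl
    · exfalso
      apply hzne
      rw [map_zD] at hx
      rw [← hz a c h1 h2']
      exact hx
  set E : H ≃* Gh := MulEquiv.ofBijective sndH ⟨hinj, hsurj⟩ with hE
  refine ⟨fstH.comp E.symm.toMonoidHom, ?_⟩
  intro a c t
  have e1 : E (P a c t) = Y a c t := rfl
  have e2 : E.symm (Y a c t) = P a c t := by
    rw [← e1, E.symm_apply_apply]
  show fstH (E.symm (Y a c t)) = Z a c t
  rw [e2]
  rfl

end Cfsg.Agent.Lib.Helper11_M23_UNIV
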