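import Mathlib
import Cfsg.Agent.Lib.Helper11_M23_KER4
import Cfsg.Agent.Lib.Helper11_M23_UNIV

/-!
# S2054 package KER4 (helper19's market `s2054_packages`), verbatim statement
-/

set_option autoImplicit false

namespace Cfsg.Agent.Lib.Helper11_M23_KER4w

open Cfsg Cfsg.Spor Cfsg.Agent.Lib.Helper66_S96 Cfsg.Agent.Lib.Helper66_S92
  Cfsg.Agent.Lib.Helper81_UceA Cfsg.Agent.Lib.helper19_M23

/-- **PKG KER4** -/
theorem ker4 {G : Type} [Group G] [Finite G] (XS : I8 → I8 → ZMod 3 → G) (hXS : DStAB XS)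
    (hnc : ∃ a c d e t u, XS a c t * XS d e u ≠ XS d e u * XS a c t)
    {Γ : Type} [Group Γ] (σ : Γ →* G) (hσ : CExt σ) :
    3 ^ 12 ∣ Nat.card (rootClosure XS) ∧
    ∃ Kt : Subgroup Γ, Kt.map σ = rootClosure XS ∧ commutator Kt = ⊤ ∧
      ∀ x ∈ Kt, σ x = 1 → x ^ 4 = 1 :=
  Cfsg.Agent.Lib.Helper11_M23_KER4.ker4_of Cfsg.Agent.Lib.Helper11_M23_UNIV.exists_universal_D4
    XS hXS hnc σ hσ

end Cfsg.Agent.Lib.Helper11_M23_KER4w
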