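import Mathlib
import Cfsg.Prelude.Def_KGroupFacts

set_option autoImplicit false
open Cfsg

namespace Cfsg.Agent.Lib.Helper66_Stem

universe u v

open scoped IsMulCommutative in
/-- transfer into an abelian subgroup: a central element of the commutator subgroup has order
dividing the index of any abelian subgroup `S` of finite index -/
theorem pow_index_eq_one_of_mem_commutator {Γ : Type*} [Group Γ] (S : Subgroup Γ) [S.FiniteIndex]
    [IsMulCommutative S] (z : Γ) (hzc : z ∈ Subgroup.center Γ)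
    (hz' : z ∈ commutator Γ) : z ^ S.index = 1 := by
  have key : ∀ (k : ℕ) (g₀ : Γ), g₀⁻¹ * z ^ k * g₀ ∈ S → g₀⁻¹ * z ^ k * g₀ = z ^ k := by
    intro k g₀ _
    have h1 : z ^ k ∈ Subgroup.center Γ := Subgroup.pow_mem _ hzc k
    rw [Subgroup.mem_center_iff] at h1
    rw [mul_assoc, ← h1 g₀]; group
  have h1 := MonoidHom.transfer_eq_pow (MonoidHom.id S) z key
  have h2 : MonoidHom.transfer (MonoidHom.id S) z = 1 := by
    have := Abelianization.commutator_subset_ker (MonoidHom.transfer (MonoidHom.id S)) hz'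
    exact MonoidHom.mem_ker.mp this
  rw [h2] at h1
  have h3 := congrArg Subtype.val h1
  simpa using h3.symm

/-- if a group is generated by a set whose elements commute pairwise modulo a normal subgroup `N`,
then the commutator subgroup lies in `N` -/
theorem commutator_le_of_closure {Γ : Type*} [Group Γ] (N : Subgroup Γ) [N.Normal] (S : Set Γ)
    (hS : Subgroup.closure S = ⊤) (h : ∀ a ∈ S, ∀ b ∈ S, a * b * a⁻¹ * b⁻¹ ∈ N) :
    commutator Γ ≤ N := by
  have hcomm : ∀ a ∈ S, ∀ b : Γ, a * b * a⁻¹ * b⁻¹ ∈ N := by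
    intro a ha b
    have hb : b ∈ Subgroup.closure S := by rw [hS]; exact Subgroup.mem_top b
    induction hb using Subgroup.closure_induction with
    | mem x hx => exact h a ha x hx
    | one => simp
    | mul x y _ _ hx hy =>
      have e : a * (x * y) * a⁻¹ * (x * y)⁻¹ = (a * x * a⁻¹ * x⁻¹) * (x * (a * y * a⁻¹ * y⁻¹) * x⁻¹) := by
        group
      rw [e]
      exact N.mul_mem hx (Subgroup.Normal.conj_mem inferInstance _ hy x)
    | inv x _ hx =>
      have e : a * x⁻¹ * a⁻¹ * x⁻¹⁻¹ = x⁻¹ * (a * x * a⁻¹ * x⁻¹)⁻¹ * x⁻¹⁻¹ := by group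
      rw [e]
      exact Subgroup.Normal.conj_mem inferInstance _ (N.inv_mem hx) x⁻¹
  have hcomm2 : ∀ a b : Γ, a * b * a⁻¹ * b⁻¹ ∈ N := by
    intro a b
    have ha : a ∈ Subgroup.closure S := by rw [hS]; exact Subgroup.mem_top a
    induction ha using Subgroup.closure_induction generalizing b with
    | mem x hx => exact hcomm x hx b
    | one => simp
    | mul x y _ _ hx hy =>
      have e : (x * y) * b * (x * y)⁻¹ * b⁻¹ = x * (y * b * y⁻¹ * b⁻¹) * x⁻¹ * (x * b * x⁻¹ * b⁻¹) := by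
        group
      rw [e]
      exact N.mul_mem (Subgroup.Normal.conj_mem inferInstance _ (hy b) x) (hx b)
    | inv x _ hx =>
      have e : x⁻¹ * b * x⁻¹⁻¹ * b⁻¹ = x⁻¹ * (x * b * x⁻¹ * b⁻¹)⁻¹ * x⁻¹⁻¹ := by
        group
      rw [e]
      exact Subgroup.Normal.conj_mem inferInstance _ (N.inv_mem (hx b)) x⁻¹
  rw [commutator_eq_closure, Subgroup.closure_le]
  rintro x ⟨a, b, rfl⟩
  rw [SetLike.mem_coe, commutatorElement_def]
  exact hcomm2 a b

/-- an element conjugating `c` to `c` or its inverse normalizes the cyclic group generated by `c` -/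
theorem mem_normalizer_zpowers {Γ : Type*} [Group Γ] (g c : Γ)
    (h : g * c * g⁻¹ = c ∨ g * c * g⁻¹ = c⁻¹) :
    g ∈ Subgroup.normalizer ((Subgroup.zpowers c : Subgroup Γ) : Set Γ) := by
  rw [Subgroup.mem_normalizer_iff_map_conj_eq, MonoidHom.map_zpowers]
  show Subgroup.zpowers (g * c * g⁻¹) = Subgroup.zpowers c
  rcases h with h | h
  · rw [h]
  · rw [h, Subgroup.zpowers_inv]

/-- **Dihedral-type extensions.**  Let `K` be a central subgroup of `Γ`, and `α, ξ` elements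
generating `Γ` together with `K`, such that `ξ α ξ⁻¹ α` is central.  Then the commutator subgroup
is generated by `c = ξ α ξ⁻¹ α⁻¹`. -/
theorem commutator_le_zpowers_of_dihedral_type {Γ : Type*} [Group Γ] (K : Subgroup Γ)
    (hK : K ≤ Subgroup.center Γ) (α ξ : Γ)
    (hgen : Subgroup.closure (({α, ξ} : Set Γ) ∪ (K : Set Γ)) = ⊤)
    (hk : ξ * α * ξ⁻¹ * α ∈ Subgroup.center Γ) :
    commutator Γ ≤ Subgroup.zpowers (ξ * α * ξ⁻¹ * α⁻¹) := by
  set k := ξ * α * ξ⁻¹ * α with hkdef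
  set c := ξ * α * ξ⁻¹ * α⁻¹ with hcdef
  have hkc : ∀ g : Γ, g * k = k * g := Subgroup.mem_center_iff.mp hk
  have hc1 : c = k * α⁻¹ * α⁻¹ := by rw [hcdef, hkdef]; group
  have hαc : α * c * α⁻¹ = c := by
    rw [hc1]
    calc α * (k * α⁻¹ * α⁻¹) * α⁻¹ = (α * k) * α⁻¹ * α⁻¹ * α⁻¹ := by group
      _ = (k * α) * α⁻¹ * α⁻¹ * α⁻¹ := by rw [hkc α]
      _ = k * α⁻¹ * α⁻¹ := by group
  have hξα : ξ * α⁻¹ * ξ⁻¹ = α * k⁻¹ := by
    have : ξ * α⁻¹ * ξ⁻¹ = (k * α⁻¹)⁻¹ := by rw [hkdef]; group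
    rw [this]; group
  have hξc : ξ * c * ξ⁻¹ = c⁻¹ := by
    rw [hc1]
    have hkinv : ∀ g : Γ, g * k⁻¹ = k⁻¹ * g := by
      intro g
      have := hkc g⁻¹
      have e : g * k⁻¹ = (k * g⁻¹)⁻¹ := by group
      rw [e, ← this]; group
    calc ξ * (k * α⁻¹ * α⁻¹) * ξ⁻¹ = (ξ * k) * (ξ⁻¹ * (ξ * α⁻¹ * ξ⁻¹)) * (ξ * α⁻¹ * ξ⁻¹) := by group
      _ = (k * ξ) * (ξ⁻¹ * (α * k⁻¹)) * (α * k⁻¹) := by rw [hkc ξ, hξα]
      _ = k * ((α * k⁻¹) * α) * k⁻¹ := by group
      _ = k * ((k⁻¹ * α) * α) * k⁻¹ := by rw [hkinv α]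
      _ = α * (α * k⁻¹) := by simp only [mul_assoc, mul_inv_cancel_left]
      _ = (k * α⁻¹ * α⁻¹)⁻¹ := by simp only [mul_inv_rev, inv_inv, mul_assoc]
  -- the cyclic group generated by `c` is normal
  have hnorm : (Subgroup.zpowers c).Normal := by
    rw [← Subgroup.normalizer_eq_top_iff, eq_top_iff, ← hgen, Subgroup.closure_le]
    rintro g (hg | hg)
    · rcases hg with rfl | hg
      · exact mem_normalizer_zpowers _ _ (Or.inl hαc)
      · rw [Set.mem_singleton_iff] at hg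
        subst hg
        exact mem_normalizer_zpowers _ _ (Or.inr hξc)
    · apply mem_normalizer_zpowers _ _ (Or.inl _)
      have := Subgroup.mem_center_iff.mp (hK hg) c
      rw [← this]; group
  have := hnorm
  apply commutator_le_of_closure (Subgroup.zpowers c) _ hgen
  have hcen : ∀ z ∈ (K : Set Γ), ∀ b : Γ, z * b * z⁻¹ * b⁻¹ = 1 ∧ b * z * b⁻¹ * z⁻¹ = 1 := by
    intro z hz b
    have := Subgroup.mem_center_iff.mp (hK hz) b
    constructor
    · rw [← this]; group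
    · rw [this]; group
  rintro a (ha | ha) b (hb | hb)
  · rcases ha with rfl | ha <;> rcases hb with rfl | hb
    · simp
    · rw [Set.mem_singleton_iff] at hb
      subst hb
      have : a * b * a⁻¹ * b⁻¹ = (b * a * b⁻¹ * a⁻¹)⁻¹ := by group
      rw [this]
      exact Subgroup.inv_mem _ (Subgroup.mem_zpowers _)
    · rw [Set.mem_singleton_iff] at ha
      subst ha
      exact Subgroup.mem_zpowers _
    · rw [Set.mem_singleton_iff] at ha hb
      subst ha; subst hb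
      simp
  · rw [(hcen b hb a).2]; exact Subgroup.one_mem _
  · rw [(hcen a ha b).1]; exact Subgroup.one_mem _
  · rw [(hcen a ha b).1]; exact Subgroup.one_mem _

/-- in a dihedral-type extension, if `ξ` centralizes `α ^ N` then `c ^ N = 1` -/
theorem dihedral_type_pow_eq_one {Γ : Type*} [Group Γ] (α ξ : Γ)
    (hk : ξ * α * ξ⁻¹ * α ∈ Subgroup.center Γ) (N : ℕ) (hN : ξ * α ^ N * ξ⁻¹ = α ^ N) :
    (ξ * α * ξ⁻¹ * α⁻¹) ^ N = 1 := by
  have hkc : ∀ g : Γ, g * (ξ * α * ξ⁻¹ * α) = (ξ * α * ξ⁻¹ * α) * g := Subgroup.mem_center_iff.mp hk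
  have hcomm : Commute (ξ * α * ξ⁻¹) α⁻¹ := by
    have h1 : Commute (ξ * α * ξ⁻¹) α := by
      show ξ * α * ξ⁻¹ * α = α * (ξ * α * ξ⁻¹)
      have := hkc α
      have e : α * (ξ * α * ξ⁻¹) = α * (ξ * α * ξ⁻¹ * α) * α⁻¹ := by group
      rw [e, this]; group
    exact h1.inv_right
  rw [hcomm.mul_pow, conj_pow, hN, inv_pow, mul_inv_cancel]

/-- criterion for a trivial Schur multiplier -/
theorem hasCyclicSchurMultiplier_one {G : Type u} [Group G] [Finite G]
    (h : ∀ (Γ : Type u) [Group Γ] [Finite Γ] (σ : Γ →* G), IsStemExtension σ → σ.ker = ⊥) :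
    HasCyclicSchurMultiplier G 1 := by
  refine ⟨⟨G, inferInstance, inferInstance, MonoidHom.id G, ⟨Function.surjective_id, ?_, ?_⟩, ?_⟩, ?_⟩
  · simp
  · simp
  · have h : (MonoidHom.id G).ker = ⊥ := by simp
    have : Unique (MonoidHom.id G).ker := by rw [h]; infer_instance
    exact ⟨MulEquiv.ofUnique⟩
  · intro Γ _ _ σ hσ
    have hk := h Γ σ hσ
    refine ⟨1, ?_⟩
    intro x
    refine ⟨1, ?_⟩
    have hx : (x : Γ) = 1 := by
      have h2 : (x : Γ) ∈ σ.ker := x.2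
      simpa [hk] using h2
    exact Subtype.ext (by simp [hx])

/-- a surjection from `ZMod n` onto a subgroup generated by an element killed by `n` -/
theorem exists_surjective_of_zpowers {Γ : Type*} [Group Γ] (H : Subgroup Γ) (n : ℕ) (w : Γ)
    (hw : w ∈ H) (hgen : ∀ z ∈ H, z ∈ Subgroup.zpowers w) (hwn : w ^ n = 1) :
    ∃ π : Multiplicative (ZMod n) →* H, Function.Surjective π := by
  let w' : H := ⟨w, hw⟩
  have hw'n : w' ^ n = 1 := Subtype.ext (by simpa [w'] using hwn)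
  let f : ZMod n →+ Additive H :=
    ZMod.lift n ⟨zmultiplesHom (Additive H) (Additive.ofMul w'), by
      simp only [zmultiplesHom_apply, natCast_zsmul]
      rw [← ofMul_pow, hw'n]; rfl⟩
  refine ⟨AddMonoidHom.toMultiplicativeLeft f, ?_⟩
  intro z
  obtain ⟨i, hi⟩ := Subgroup.mem_zpowers_iff.mp (hgen z z.2)
  refine ⟨Multiplicative.ofAdd (i : ZMod n), ?_⟩
  have : f (i : ZMod n) = Additive.ofMul (w' ^ i) := by
    simp only [f, ZMod.lift_coe]
    simp [zmultiplesHom_apply]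
  apply Subtype.ext
  show ((Additive.toMul (f (i : ZMod n)) : H) : Γ) = z
  rw [this]
  simpa [w'] using hi

/-- criterion for a cyclic Schur multiplier of order `n` -/
theorem hasCyclicSchurMultiplier_of {G : Type u} [Group G] (n : ℕ)
    (hex : ∃ (Γ : Type u) (_ : Group Γ) (_ : Finite Γ) (σ : Γ →* G), IsStemExtension σ ∧
      IsCyclic σ.ker ∧ Nat.card σ.ker = n)
    (hall : ∀ (Γ : Type u) [Group Γ] [Finite Γ] (σ : Γ →* G), IsStemExtension σ →
      ∃ w ∈ σ.ker, (∀ z ∈ σ.ker, z ∈ Subgroup.zpowers w) ∧ w ^ n = 1) :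
    HasCyclicSchurMultiplier G n := by
  refine ⟨?_, ?_⟩
  · obtain ⟨Γ, i1, i2, σ, hσ, hcyc, hcard⟩ := hex
    refine ⟨Γ, i1, i2, σ, hσ, ?_⟩
    have e := zmodCyclicMulEquiv hcyc
    rw [hcard] at e
    exact ⟨e.symm⟩
  · intro Γ _ _ σ hσ
    obtain ⟨w, hw, hgen, hwn⟩ := hall Γ σ hσ
    exact exists_surjective_of_zpowers σ.ker n w hw hgen hwn

end Cfsg.Agent.Lib.Helper66_Stem
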