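import Mathlib
import Cfsg.Prelude.Def_KGroupFacts
import Cfsg.Agent.Lib.Helper66_Stem

set_option autoImplicit false
open Cfsg

/-! More tools for bounding kernels of stem extensions: transfer into a (nonabelian) subgroup,
central extensions of dicyclic groups, and commutator pairings on preimages of abelian
subgroups. -/

namespace Cfsg.Agent.Lib.Helper66_StemTools

open Cfsg.Agent.Lib.Helper66_Stem

/-- transfer into a subgroup `H` of finite index: a central element of the commutator subgroup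
of `Γ`, raised to the index of `H`, lies in the commutator subgroup of `H`. -/
theorem pow_index_mem_commutator {Γ : Type*} [Group Γ] (H : Subgroup Γ) [H.FiniteIndex]
    (z : Γ) (hzc : z ∈ Subgroup.center Γ) (hz' : z ∈ commutator Γ) :
    ∃ h : z ^ H.index ∈ H, (⟨z ^ H.index, h⟩ : H) ∈ commutator H := by
  have key : ∀ (k : ℕ) (g₀ : Γ), g₀⁻¹ * z ^ k * g₀ ∈ H → g₀⁻¹ * z ^ k * g₀ = z ^ k := by
    intro k g₀ _
    have h1 : z ^ k ∈ Subgroup.center Γ := Subgroup.pow_mem _ hzc k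
    rw [Subgroup.mem_center_iff] at h1
    rw [mul_assoc, ← h1 g₀]; group
  have h1 := MonoidHom.transfer_eq_pow (Abelianization.of : H →* Abelianization H) z key
  have h2 : MonoidHom.transfer (Abelianization.of : H →* Abelianization H) z = 1 := by
    have := Abelianization.commutator_subset_ker
      (MonoidHom.transfer (Abelianization.of : H →* Abelianization H)) hz'
    exact MonoidHom.mem_ker.mp this
  rw [h2] at h1
  have hmem : z ^ H.index ∈ H := MonoidHom.transfer_eq_pow_aux z key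
  refine ⟨hmem, ?_⟩
  have h3 : (Abelianization.of : H →* Abelianization H) ⟨z ^ H.index, hmem⟩ = 1 := h1.symm
  rwa [← MonoidHom.mem_ker, Abelianization.ker_of] at h3

/-- **Central extensions of dicyclic groups.** Let `Z` be a central subgroup of `H`, and
`α, ξ` elements generating `H` together with `Z`, such that `ξ α ξ⁻¹ α ∈ Z`, `ξ² ∈ αⁿ Z` and
`αⁱ ∈ Z` only for `2n ∣ i`.  Then `Z ∩ H' = 1`. -/
theorem inf_commutator_eq_bot_of_dicyclic {H : Type*} [Group H] (Z : Subgroup H)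
    (hZ : Z ≤ Subgroup.center H) (α ξ : H) (n : ℕ)
    (hgen : Subgroup.closure (({α, ξ} : Set H) ∪ (Z : Set H)) = ⊤)
    (hk : ξ * α * ξ⁻¹ * α ∈ Z) (hsq : ∃ v ∈ Z, ξ * ξ = α ^ n * v)
    (hord : ∀ i : ℤ, α ^ i ∈ Z → ((2 * n : ℕ) : ℤ) ∣ i) :
    Z ⊓ commutator H = ⊥ := by
  have hkc : ξ * α * ξ⁻¹ * α ∈ Subgroup.center H := hZ hk
  have h1 := commutator_le_zpowers_of_dihedral_type Z hZ α ξ hgen hkc
  -- `ξ` centralizes `α ^ n`
  obtain ⟨v, hv, hξξ⟩ := hsq
  have hvc : ∀ g : H, g * v = v * g := Subgroup.mem_center_iff.mp (hZ hv)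
  have hN : ξ * α ^ n * ξ⁻¹ = α ^ n := by
    have h2 : α ^ n = ξ * ξ * v⁻¹ := by rw [hξξ]; group
    rw [h2]
    have hvinv : ξ * v⁻¹ = v⁻¹ * ξ := by
      have := hvc ξ
      calc ξ * v⁻¹ = v⁻¹ * (v * ξ) * v⁻¹ := by group
        _ = v⁻¹ * (ξ * v) * v⁻¹ := by rw [this]
        _ = v⁻¹ * ξ := by group
    calc ξ * (ξ * ξ * v⁻¹) * ξ⁻¹ = ξ * ξ * (ξ * v⁻¹) * ξ⁻¹ := by group
      _ = ξ * ξ * (v⁻¹ * ξ) * ξ⁻¹ := by rw [hvinv]
      _ = ξ * (ξ * v⁻¹) := by group
      _ = ξ * (v⁻¹ * ξ) := by rw [hvinv]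
      _ = (ξ * v⁻¹) * ξ := by group
      _ = (v⁻¹ * ξ) * ξ := by rw [hvinv]
      _ = ξ * ξ * v⁻¹ := by
        have : v⁻¹ * ξ * ξ = v⁻¹ * (ξ * ξ) := by group
        rw [this]
        have h3 : (ξ * ξ) * v⁻¹ = v⁻¹ * (ξ * ξ) := by
          calc (ξ * ξ) * v⁻¹ = ξ * (ξ * v⁻¹) := by group
            _ = ξ * (v⁻¹ * ξ) := by rw [hvinv]
            _ = (ξ * v⁻¹) * ξ := by group
            _ = (v⁻¹ * ξ) * ξ := by rw [hvinv]
            _ = v⁻¹ * (ξ * ξ) := by group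
        rw [h3]
  have hcn := dihedral_type_pow_eq_one α ξ hkc n hN
  set c := ξ * α * ξ⁻¹ * α⁻¹ with hcdef
  set k := ξ * α * ξ⁻¹ * α with hkdef
  have hck : c = k * (α ^ (2 : ℤ))⁻¹ := by rw [hcdef, hkdef]; group
  have hkcomm : Commute k ((α ^ (2 : ℤ))⁻¹) := by
    have := Subgroup.mem_center_iff.mp hkc ((α ^ (2 : ℤ))⁻¹)
    exact this.symm
  rw [eq_bot_iff]
  rintro w ⟨hwZ, hwc⟩
  rw [Subgroup.mem_bot]
  obtain ⟨j, hj⟩ := Subgroup.mem_zpowers_iff.mp (h1 hwc)
  -- `c ^ j = k ^ j * α ^ (-2j)`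
  have h3 : w = k ^ j * ((α ^ (2 : ℤ))⁻¹) ^ j := by
    rw [← hj, hck, hkcomm.mul_zpow]
  have h4 : α ^ (-(2 * j)) ∈ Z := by
    have h5 : α ^ (-(2 * j)) = (k ^ j)⁻¹ * w := by
      rw [h3]
      have : ((α ^ (2 : ℤ))⁻¹) ^ j = α ^ (-(2 * j)) := by
        rw [← zpow_neg, ← zpow_mul]
        congr 1
        ring
      rw [this]; group
    rw [h5]
    exact Z.mul_mem (Z.inv_mem (Z.zpow_mem hk j)) hwZ
  have h6 := hord _ h4
  -- `n ∣ j`
  have h7 : (n : ℤ) ∣ j := by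
    rcases Nat.eq_zero_or_pos n with hn0 | hn0
    · subst hn0
      simp only [mul_zero, Nat.cast_zero, zero_dvd_iff] at h6
      have : j = 0 := by omega
      rw [this]
      exact dvd_zero _
    · obtain ⟨e, he⟩ := h6
      refine ⟨-e, ?_⟩
      have hn' : (0 : ℤ) < n := by exact_mod_cast hn0
      push_cast at he
      nlinarith
  obtain ⟨i, rfl⟩ := h7
  rw [← hj, zpow_mul, zpow_natCast, hcn, one_zpow]


section central

open scoped commutatorElement

variable {Γ G : Type*} [Group Γ] [Group G]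

theorem commutatorElement_mul_central_left (x y k : Γ) (hk : k ∈ Subgroup.center Γ) :
    ⁅x * k, y⁆ = ⁅x, y⁆ := by
  have h1 := Subgroup.mem_center_iff.mp hk
  rw [commutatorElement_def, commutatorElement_def]
  calc x * k * y * (x * k)⁻¹ * y⁻¹ = x * (k * y) * k⁻¹ * x⁻¹ * y⁻¹ := by group
    _ = x * (y * k) * k⁻¹ * x⁻¹ * y⁻¹ := by rw [h1 y]
    _ = x * y * x⁻¹ * y⁻¹ := by group

theorem commutatorElement_mul_central_right (x y k : Γ) (hk : k ∈ Subgroup.center Γ) :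
    ⁅x, y * k⁆ = ⁅x, y⁆ := by
  have h1 := Subgroup.mem_center_iff.mp hk
  rw [commutatorElement_def, commutatorElement_def]
  calc x * (y * k) * x⁻¹ * (y * k)⁻¹ = x * y * (k * x⁻¹) * k⁻¹ * y⁻¹ := by group
    _ = x * y * (x⁻¹ * k) * k⁻¹ * y⁻¹ := by rw [h1 x⁻¹]
    _ = x * y * x⁻¹ * y⁻¹ := by group

/-- the commutator of two elements depends only on their images modulo a central kernel -/
theorem commutatorElement_congr_of_central (σ : Γ →* G) (hc : σ.ker ≤ Subgroup.center Γ)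
    {x x' y y' : Γ} (hx : σ x = σ x') (hy : σ y = σ y') : ⁅x, y⁆ = ⁅x', y'⁆ := by
  have hkx : x⁻¹ * x' ∈ Subgroup.center Γ := hc (by
    rw [MonoidHom.mem_ker, map_mul, map_inv, hx, inv_mul_cancel])
  have hky : y⁻¹ * y' ∈ Subgroup.center Γ := hc (by
    rw [MonoidHom.mem_ker, map_mul, map_inv, hy, inv_mul_cancel])
  have ex : x' = x * (x⁻¹ * x') := by group
  have ey : y' = y * (y⁻¹ * y') := by group
  rw [ex, ey, commutatorElement_mul_central_left _ _ _ hkx,
    commutatorElement_mul_central_right _ _ _ hky]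

theorem commutatorElement_mul_left_of_central (x y w : Γ) (h : ⁅y, w⁆ ∈ Subgroup.center Γ) :
    ⁅x * y, w⁆ = ⁅x, w⁆ * ⁅y, w⁆ := by
  have h1 := Subgroup.mem_center_iff.mp h
  calc ⁅x * y, w⁆ = x * ⁅y, w⁆ * (w * x⁻¹ * w⁻¹) := by
        simp only [commutatorElement_def]; group
    _ = ⁅y, w⁆ * x * (w * x⁻¹ * w⁻¹) := by rw [h1 x]
    _ = ⁅y, w⁆ * ⁅x, w⁆ := by simp only [commutatorElement_def]; group
    _ = ⁅x, w⁆ * ⁅y, w⁆ := (h1 _).symm

theorem commutatorElement_mul_right_of_central (w x y : Γ) (h : ⁅w, y⁆ ∈ Subgroup.center Γ) :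
    ⁅w, x * y⁆ = ⁅w, x⁆ * ⁅w, y⁆ := by
  have h1 := Subgroup.mem_center_iff.mp h
  calc ⁅w, x * y⁆ = (w * x * w⁻¹) * ⁅w, y⁆ * x⁻¹ := by
        simp only [commutatorElement_def]; group
    _ = (w * x * w⁻¹) * (⁅w, y⁆ * x⁻¹) := by group
    _ = (w * x * w⁻¹) * (x⁻¹ * ⁅w, y⁆) := by rw [h1 x⁻¹]
    _ = ⁅w, x⁆ * ⁅w, y⁆ := by simp only [commutatorElement_def]; group

/-- lifting generators: if `φ` is surjective and the images of `T` generate the target, then
`T` together with the kernel generates the source -/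
theorem closure_union_ker_eq_top (φ : Γ →* G) (T : Set Γ)
    (hT : Subgroup.closure (φ '' T) = ⊤) :
    Subgroup.closure (T ∪ (φ.ker : Set Γ)) = ⊤ := by
  set K := Subgroup.closure (T ∪ (φ.ker : Set Γ)) with hK
  have hker : φ.ker ≤ K := fun x hx => Subgroup.subset_closure (Or.inr hx)
  have hmap : K.map φ = ⊤ := by
    rw [eq_top_iff, ← hT, Subgroup.closure_le]
    rintro _ ⟨t, ht, rfl⟩
    exact ⟨t, Subgroup.subset_closure (Or.inl ht), rfl⟩
  have h1 : (K.map φ).comap φ = K := by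
    rw [Subgroup.comap_map_eq, sup_eq_left.mpr hker]
  rw [← h1, hmap, Subgroup.comap_top]

end central

section pairing

variable {F : Type*} [Field F] {A : Type*} [AddCommGroup A]

theorem pairing_eq_zero (c : F → F → A)
    (hl : ∀ x x' y, c (x + x') y = c x y + c x' y)
    (hr : ∀ x y y', c x (y + y') = c x y + c x y')
    (hinv : ∀ a : F, a ≠ 0 → ∀ x y, c (a * a * x) (a * a * y) = c x y)
    (a b : F) (ha : a ≠ 0) (hb : b ≠ 0) (hab : a * a + 1 = b * b)
    (hne : (a * a) * (a * a) + a * a + 1 ≠ 0) : ∀ x y, c x y = 0 := by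
  let cr : F → (F →+ A) := fun x => AddMonoidHom.mk' (c x) (hr x)
  have hcr : ∀ x y, cr x y = c x y := fun _ _ => rfl
  have ht0 : a * a ≠ 0 := mul_ne_zero ha ha
  have hu0 : b * b ≠ 0 := mul_ne_zero hb hb
  have h1 : ∀ (e : F), e ≠ 0 → ∀ x y, c (e * e * x) y = c x ((e * e)⁻¹ * y) := by
    intro e he x y
    have hee : e * e ≠ 0 := mul_ne_zero he he
    have := hinv e he x ((e * e)⁻¹ * y)
    rw [← this]
    congr 1
    field_simp
  set t := a * a with ht
  set u := b * b with hu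
  have hδ : u⁻¹ - t⁻¹ - 1 ≠ 0 := by
    intro h
    apply hne
    have h5 : (u⁻¹ - t⁻¹ - 1) * (t * u) = -(t * t + t + 1) := by
      rw [← hab]
      have hu' : t + 1 ≠ 0 := by rw [hab]; exact hu0
      field_simp
      ring
    rw [h, zero_mul] at h5
    have := neg_eq_zero.mp h5.symm
    exact this
  intro x y'
  set y := (u⁻¹ - t⁻¹ - 1)⁻¹ * y' with hy
  have h2 : c (u * x) y = c x (u⁻¹ * y) := h1 b hb x y
  have h3 : c (t * x) y = c x (t⁻¹ * y) := h1 a ha x y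
  have h4 : u * x = t * x + x := by rw [← hab]; ring
  rw [h4, hl, h3] at h2
  have h6 : cr x (u⁻¹ * y - t⁻¹ * y - y) = 0 := by
    rw [map_sub, map_sub, hcr, hcr, hcr, ← h2]
    abel
  have h7 : u⁻¹ * y - t⁻¹ * y - y = y' := by
    have : u⁻¹ * y - t⁻¹ * y - y = (u⁻¹ - t⁻¹ - 1) * y := by ring
    rw [this, hy, ← mul_assoc, mul_inv_cancel₀ hδ, one_mul]
  rw [h7, hcr] at h6
  exact h6

open Polynomial in
theorem exists_sq_pair_char_two [Fintype F] (h2 : ringChar F = 2) (hq : 4 < Fintype.card F) :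
    ∃ a b : F, a ≠ 0 ∧ b ≠ 0 ∧ a * a + 1 = b * b ∧ (a * a) * (a * a) + a * a + 1 ≠ 0 := by
  let f : F[X] := X * (X + 1) * (X ^ 2 + X + 1)
  have hdeg : f.natDegree ≤ 4 := by
    show (X * (X + 1) * (X ^ 2 + X + 1) : F[X]).natDegree ≤ 4
    compute_degree
  have hf0 : f ≠ 0 := by
    have h1 : (X : F[X]) ≠ 0 := X_ne_zero
    have h2 : (X + 1 : F[X]) ≠ 0 := by
      have : (X + 1 : F[X]) = X + C 1 := by simp
      rw [this]; exact X_add_C_ne_zero 1
    have h3 : (X ^ 2 + X + 1 : F[X]) ≠ 0 := by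
      have : (X ^ 2 + X + 1 : F[X]).natDegree = 2 := by compute_degree!
      intro h
      rw [h] at this
      simp at this
    exact mul_ne_zero (mul_ne_zero h1 h2) h3
  have hlt : f.natDegree < Fintype.card F := lt_of_le_of_lt hdeg hq
  obtain ⟨t, ht⟩ := Polynomial.exists_eval_ne_zero_of_natDegree_lt_card f hf0 (by
    rw [Cardinal.mk_fintype]; exact_mod_cast hlt)
  simp only [f, eval_mul, eval_add, eval_X, eval_one, eval_pow] at ht
  have ht0 : t ≠ 0 := fun h => ht (by rw [h]; ring)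
  have ht1 : t + 1 ≠ 0 := fun h => ht (by rw [h]; ring)
  have ht2 : t ^ 2 + t + 1 ≠ 0 := fun h => ht (by rw [h]; ring)
  obtain ⟨a, ha⟩ := FiniteField.isSquare_of_char_two h2 t
  obtain ⟨b, hb⟩ := FiniteField.isSquare_of_char_two h2 (t + 1)
  refine ⟨a, b, ?_, ?_, ?_, ?_⟩
  · rintro rfl; apply ht0; rw [ha]; ring
  · rintro rfl; apply ht1; rw [hb]; ring
  · rw [← ha, ← hb]
  · rw [← ha]
    intro h; apply ht2; rw [← h]; ring

open Polynomial in
theorem exists_sq_pair_odd [Fintype F] (h2 : (2 : F) ≠ 0) (hq : 13 < Fintype.card F) :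
    ∃ a b : F, a ≠ 0 ∧ b ≠ 0 ∧ a * a + 1 = b * b ∧ (a * a) * (a * a) + a * a + 1 ≠ 0 := by
  let g : F[X] := (X ^ 2 - 1) ^ 4 + 4 * X ^ 2 * (X ^ 2 - 1) ^ 2 + 16 * X ^ 4
  let f : F[X] := X * (X ^ 2 - 1) * (X ^ 2 + 1) * g
  have hdeg : f.natDegree ≤ 13 := by
    show (X * (X ^ 2 - 1) * (X ^ 2 + 1) *
      ((X ^ 2 - 1) ^ 4 + 4 * X ^ 2 * (X ^ 2 - 1) ^ 2 + 16 * X ^ 4) : F[X]).natDegree ≤ 13
    compute_degree
  have h16 : (16 : F) ≠ 0 := by
    have : (16 : F) = 2 * 2 * 2 * 2 := by norm_num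
    rw [this]
    exact mul_ne_zero (mul_ne_zero (mul_ne_zero h2 h2) h2) h2
  have hf0 : f ≠ 0 := by
    have h1 : (X : F[X]) ≠ 0 := X_ne_zero
    have h3 : (X ^ 2 - 1 : F[X]) ≠ 0 := by
      intro h
      have := congrArg (eval 0) h
      simp at this
    have h4 : (X ^ 2 + 1 : F[X]) ≠ 0 := by
      intro h
      have := congrArg (eval 0) h
      simp at this
    have h5 : g ≠ 0 := by
      intro h
      have := congrArg (eval 1) h
      simp [g] at this
      exact h16 this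
    exact mul_ne_zero (mul_ne_zero (mul_ne_zero h1 h3) h4) h5
  have hlt : f.natDegree < Fintype.card F := lt_of_le_of_lt hdeg hq
  obtain ⟨s, hs⟩ := Polynomial.exists_eval_ne_zero_of_natDegree_lt_card f hf0 (by
    rw [Cardinal.mk_fintype]; exact_mod_cast hlt)
  simp only [f, g, eval_mul, eval_add, eval_sub, eval_X, eval_one, eval_pow, eval_ofNat] at hs
  have hs0 : s ≠ 0 := fun h => hs (by rw [h]; ring)
  have hs1 : s ^ 2 - 1 ≠ 0 := fun h => hs (by rw [h]; ring)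
  have hs2 : s ^ 2 + 1 ≠ 0 := fun h => hs (by rw [h]; ring)
  have hs3 : (s ^ 2 - 1) ^ 4 + 4 * s ^ 2 * (s ^ 2 - 1) ^ 2 + 16 * s ^ 4 ≠ 0 :=
    fun h => hs (by rw [h]; ring)
  have h2s : 2 * s ≠ 0 := mul_ne_zero h2 hs0
  refine ⟨(s ^ 2 - 1) / (2 * s), (s ^ 2 + 1) / (2 * s), ?_, ?_, ?_, ?_⟩
  · exact div_ne_zero hs1 h2s
  · exact div_ne_zero hs2 h2s
  · field_simp
    ring
  · intro h
    apply hs3
    have : (s ^ 2 - 1) ^ 4 + 4 * s ^ 2 * (s ^ 2 - 1) ^ 2 + 16 * s ^ 4 =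
        ((s ^ 2 - 1) / (2 * s) * ((s ^ 2 - 1) / (2 * s)) * ((s ^ 2 - 1) / (2 * s) * ((s ^ 2 - 1) / (2 * s))) +
          (s ^ 2 - 1) / (2 * s) * ((s ^ 2 - 1) / (2 * s)) + 1) * (16 * s ^ 4) := by
      field_simp
      ring
    rw [this, h, zero_mul]

/-- a finite field whose order is neither a prime nor `4` nor `9` has nonzero `a, b` with
`a² + 1 = b²` and `a⁴ + a² + 1 ≠ 0` -/
theorem exists_sq_pair_of_card [Fintype F] (hnp : ¬ (Fintype.card F).Prime)
    (h4 : Fintype.card F ≠ 4) (h9 : Fintype.card F ≠ 9) :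
    ∃ a b : F, a ≠ 0 ∧ b ≠ 0 ∧ a * a + 1 = b * b ∧ (a * a) * (a * a) + a * a + 1 ≠ 0 := by
  have hq1 : 1 < Fintype.card F := Fintype.one_lt_card
  by_cases h2 : ringChar F = 2
  · have hev := FiniteField.even_card_of_char_two h2
    apply exists_sq_pair_char_two h2
    by_contra hle
    have hle' : Fintype.card F ≤ 4 := by omega
    interval_cases hq : Fintype.card F
    · exact hnp Nat.prime_two
    · omega
    · omega
  · have hodd := FiniteField.odd_card_of_char_ne_two h2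
    apply exists_sq_pair_odd (Ring.two_ne_zero h2)
    by_contra hle
    have hle' : Fintype.card F ≤ 13 := by omega
    interval_cases hq : Fintype.card F <;> first | omega | (exact hnp (by norm_num))

/-- a biadditive pairing on a finite field whose order is neither a prime nor `4` nor `9`,
invariant under multiplication by nonzero squares, vanishes -/
theorem pairing_eq_zero_of_card [Fintype F] (hnp : ¬ (Fintype.card F).Prime)
    (h4 : Fintype.card F ≠ 4) (h9 : Fintype.card F ≠ 9) (c : F → F → A)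
    (hl : ∀ x x' y, c (x + x') y = c x y + c x' y)
    (hr : ∀ x y y', c x (y + y') = c x y + c x y')
    (hinv : ∀ a : F, a ≠ 0 → ∀ x y, c (a * a * x) (a * a * y) = c x y) :
    ∀ x y, c x y = 0 := by
  obtain ⟨a, b, ha, hb, hab, hne⟩ := exists_sq_pair_of_card (F := F) hnp h4 h9
  exact pairing_eq_zero c hl hr hinv a b ha hb hab hne

end pairing

end Cfsg.Agent.Lib.Helper66_StemTools
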