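import Mathlib
import Cfsg.Prelude.Def_KGroupFacts
import Cfsg.Agent.Lib.Helper66_StemTools
import Cfsg.Agent.Lib.helper19_M23Defs

/-!
# S2054 package TRANSFER (helper19's market `s2054_packages`), in the form `three_part_of`:
the statement of TRANSFER with the conclusion of package KER4 (for the same `XS`, `σ`) as a hypothesis.
-/

set_option autoImplicit false

namespace Cfsg.Agent.Lib.Helper11_M23_TRANSFERaux

open Cfsg Cfsg.Spor Cfsg.Agent.Lib.Helper66_S96 Cfsg.Agent.Lib.Helper66_S92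
  Cfsg.Agent.Lib.Helper81_UceA Cfsg.Agent.Lib.helper19_M23

open scoped commutatorElement

/-- a perfect subgroup `Kt` of a central extension `σ : Γ → G` is normalised by every element whose image
normalises the image of `Kt` -/
theorem conj_mem_of_perfect {Γ G : Type*} [Group Γ] [Group G] (σ : Γ →* G) (hσ : CExt σ)
    (Kt : Subgroup Γ) (hperf : commutator Kt = ⊤) (w : Γ)
    (hw : ∀ k ∈ Kt.map σ, σ w * k * (σ w)⁻¹ ∈ Kt.map σ) :
    ∀ k ∈ Kt, w * k * w⁻¹ ∈ Kt := by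
  have hKK : ⁅Kt, Kt⁆ = Kt := by
    rw [← Subgroup.map_subtype_commutator, hperf, ← MonoidHom.range_eq_map, Subgroup.range_subtype]
  have hle : ⁅Kt, Kt⁆ ≤ Kt.comap (MulAut.conj w).toMonoidHom := by
    rw [Subgroup.commutator_le]
    intro k₁ hk₁ k₂ hk₂
    rw [Subgroup.mem_comap]
    show w * ⁅k₁, k₂⁆ * w⁻¹ ∈ Kt
    obtain ⟨k₁', hk₁', e₁⟩ := hw (σ k₁) (Subgroup.mem_map_of_mem σ hk₁)
    obtain ⟨k₂', hk₂', e₂⟩ := hw (σ k₂) (Subgroup.mem_map_of_mem σ hk₂)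
    have e₁' : σ k₁' = σ (w * k₁ * w⁻¹) := by rw [e₁, map_mul, map_mul, map_inv]
    have e₂' : σ k₂' = σ (w * k₂ * w⁻¹) := by rw [e₂, map_mul, map_mul, map_inv]
    have hcomm := hσ.commutator_eq e₁' e₂'
    have hconj : w * ⁅k₁, k₂⁆ * w⁻¹ =
        (w * k₁ * w⁻¹) * (w * k₂ * w⁻¹) * (w * k₁ * w⁻¹)⁻¹ * (w * k₂ * w⁻¹)⁻¹ := by
      rw [commutatorElement_def]; group
    rw [hconj, ← hcomm]
    exact Kt.mul_mem (Kt.mul_mem (Kt.mul_mem hk₁' hk₂') (Kt.inv_mem hk₁')) (Kt.inv_mem hk₂')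
  intro k hk
  rw [← hKK] at hk
  exact hle hk

theorem three_part_of {G : Type} [Group G] [Finite G] (XS : I8 → I8 → ZMod 3 → G)
    (g : G) (hg3 : g ^ 3 = 1) (hgK : g ∉ rootClosure XS)
    (hgn : ∀ a c t, g * XS a c t * g⁻¹ ∈ rootClosure XS)
    (h14 : ¬ 3 ^ 14 ∣ Nat.card G)
    {Γ : Type} [Group Γ] [Finite Γ] (σ : Γ →* G) (hσ : IsStemExtension σ)
    (hK4 : 3 ^ 12 ∣ Nat.card (rootClosure XS) ∧
      ∃ Kt : Subgroup Γ, Kt.map σ = rootClosure XS ∧ commutator Kt = ⊤ ∧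
        ∀ x ∈ Kt, σ x = 1 → x ^ 4 = 1)
    (z : Γ) (hz : z ∈ σ.ker) :
    ∃ m : ℕ, ¬ 3 ∣ m ∧ z ^ m = 1 := by
  classical
  obtain ⟨h12, Kt, hKtmap, hperf, hKt4⟩ := hK4
  have hcext : CExt σ := ⟨hσ.1, hσ.2.1⟩
  set K : Subgroup G := rootClosure XS with hK
  -- `g` normalises `K`
  have hconj : ∀ k ∈ K, g * k * g⁻¹ ∈ K := by
    intro k hk
    rw [hK] at hk
    unfold rootClosure at hk
    induction hk using Subgroup.closure_induction with
    | mem y hy =>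
      obtain ⟨a, c, t, rfl⟩ := hy
      exact hgn a c t
    | one => simp
    | mul y₁ y₂ h₁ h₂ ih₁ ih₂ =>
      have : g * (y₁ * y₂) * g⁻¹ = (g * y₁ * g⁻¹) * (g * y₂ * g⁻¹) := by group
      rw [this]; exact K.mul_mem ih₁ ih₂
    | inv y h ih =>
      have : g * y⁻¹ * g⁻¹ = (g * y * g⁻¹)⁻¹ := by group
      rw [this]; exact K.inv_mem ih
  have hginv : g⁻¹ = g * g := by
    have : g * g * g = 1 := by rw [← hg3, pow_succ, pow_two]
    calc g⁻¹ = g⁻¹ * (g * g * g) := by rw [this, mul_one]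
      _ = g * g := by group
  have hconj' : ∀ k ∈ K, g⁻¹ * k * g ∈ K := by
    intro k hk
    have h1 := hconj _ (hconj k hk)
    have : g⁻¹ * k * g = g * (g * k * g⁻¹) * g⁻¹ := by
      have e : g * (g * k * g⁻¹) * g⁻¹ = (g * g) * k * (g * g)⁻¹ := by group
      rw [e, ← hginv, inv_inv]
    rw [this]; exact h1
  have hgnorm : g ∈ Subgroup.normalizer (K : Set G) := by
    rw [Subgroup.mem_normalizer_iff]
    intro k
    constructor
    · exact hconj k
    · intro h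
      have := hconj' _ h
      have e : g⁻¹ * (g * k * g⁻¹) * g = k := by group
      rwa [e] at this
  have hzle : Subgroup.zpowers g ≤ Subgroup.normalizer (K : Set G) :=
    Subgroup.zpowers_le.mpr hgnorm
  set T : Subgroup G := K ⊔ Subgroup.zpowers g with hT
  have hKT : K ≤ T := le_sup_left
  have hgT : g ∈ T := (le_sup_right : Subgroup.zpowers g ≤ T) (Subgroup.mem_zpowers g)
  have hTnorm : T ≤ Subgroup.normalizer (K : Set G) := sup_le Subgroup.le_normalizer hzle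
  -- `3 ^ 13` divides the order of `T`
  have h13 : 3 ^ 13 ∣ Nat.card T := by
    have : (K.subgroupOf T).Normal := (Subgroup.normal_subgroupOf_iff_le_normalizer hKT).mpr hTnorm
    have hcard : Nat.card T = Nat.card (T ⧸ K.subgroupOf T) * Nat.card (K.subgroupOf T) :=
      Subgroup.card_eq_card_quotient_mul_card_subgroup _
    have hcardK : Nat.card (K.subgroupOf T) = Nat.card K :=
      Nat.card_congr (Subgroup.subgroupOfEquivOfLe hKT).toEquiv
    set gb : T ⧸ K.subgroupOf T := QuotientGroup.mk ⟨g, hgT⟩ with hgb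
    have hgb3 : gb ^ 3 = 1 := by
      rw [hgb, ← QuotientGroup.mk_pow]
      have : (⟨g, hgT⟩ : T) ^ 3 = 1 := Subtype.ext (by simpa using hg3)
      rw [this]; rfl
    have hgb1 : gb ≠ 1 := by
      intro h
      rw [hgb, QuotientGroup.eq_one_iff, Subgroup.mem_subgroupOf] at h
      exact hgK h
    have hord : orderOf gb = 3 := orderOf_eq_prime hgb3 hgb1
    have h3 : 3 ∣ Nat.card (T ⧸ K.subgroupOf T) := by
      rw [← hord]; exact orderOf_dvd_natCard gb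
    rw [hcard, hcardK, pow_succ, mul_comm (3 ^ 12) 3]
    exact Nat.mul_dvd_mul h3 h12
  have hidx : ¬ 3 ∣ T.index := by
    intro h3
    apply h14
    rw [← Subgroup.card_mul_index T, pow_succ]
    exact Nat.mul_dvd_mul h13 h3
  -- the transfer
  set Tt : Subgroup Γ := T.comap σ with hTt
  have hidx' : Tt.index = T.index := Subgroup.index_comap_of_surjective T hσ.1
  have hzc : z ∈ Subgroup.center Γ := hσ.2.1 hz
  have hz' : z ∈ commutator Γ := hσ.2.2 hz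
  obtain ⟨hmem, hcomm⟩ := Cfsg.Agent.Lib.Helper66_StemTools.pow_index_mem_commutator Tt z hzc hz'
  have hzn : z ^ Tt.index ∈ ⁅Tt, Tt⁆ := by
    rw [← Subgroup.map_subtype_commutator]
    exact ⟨⟨z ^ Tt.index, hmem⟩, hcomm, rfl⟩
  -- `⁅Tt, Tt⁆ ≤ Kt`
  obtain ⟨gt, hgt⟩ := hσ.1 g
  have hnormpow : ∀ i : ℤ, ∀ k ∈ Kt, gt ^ i * k * (gt ^ i)⁻¹ ∈ Kt := by
    intro i
    apply conj_mem_of_perfect σ hcext Kt hperf (gt ^ i)
    intro k hk
    rw [hKtmap] at hk ⊢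
    have hmemN : σ (gt ^ i) ∈ Subgroup.normalizer (K : Set G) := by
      rw [map_zpow, hgt]
      exact hzle (Subgroup.zpow_mem_zpowers g i)
    exact (Subgroup.mem_normalizer_iff.mp hmemN k).mp hk
  have hdec : ∀ x ∈ Tt, ∃ k ∈ Kt, ∃ i : ℤ, σ x = σ (k * gt ^ i) := by
    intro x hx
    have hx' : σ x ∈ (↑(K ⊔ Subgroup.zpowers g) : Set G) := hx
    rw [Subgroup.coe_mul_of_right_le_normalizer_left K (Subgroup.zpowers g) hzle] at hx'
    obtain ⟨k, hk, h, hh, hkh⟩ := hx'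
    have hk' : k ∈ Kt.map σ := by rw [hKtmap]; exact hk
    obtain ⟨kt, hkt, rfl⟩ := hk'
    obtain ⟨i, rfl⟩ := Subgroup.mem_zpowers_iff.mp hh
    refine ⟨kt, hkt, i, ?_⟩
    rw [map_mul, map_zpow, hgt]
    exact hkh.symm
  have hle : ⁅Tt, Tt⁆ ≤ Kt := by
    rw [Subgroup.commutator_le]
    intro x hx y hy
    obtain ⟨a, ha, i, hxa⟩ := hdec x hx
    obtain ⟨b, hb, j, hyb⟩ := hdec y hy
    rw [commutatorElement_def, hcext.commutator_eq hxa hyb]
    set u := gt ^ i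
    set v := gt ^ j
    have huv : v * u⁻¹ = u⁻¹ * v := by
      show gt ^ j * (gt ^ i)⁻¹ = (gt ^ i)⁻¹ * gt ^ j
      rw [← zpow_neg, ← zpow_add, ← zpow_add, add_comm]
    have e : a * u * (b * v) * (a * u)⁻¹ * (b * v)⁻¹ =
        a * (u * b * u⁻¹) * (v * a⁻¹ * v⁻¹) * b⁻¹ := by
      calc a * u * (b * v) * (a * u)⁻¹ * (b * v)⁻¹
          = a * u * b * (v * u⁻¹) * a⁻¹ * v⁻¹ * b⁻¹ := by group
        _ = a * u * b * (u⁻¹ * v) * a⁻¹ * v⁻¹ * b⁻¹ := by rw [huv]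
        _ = a * (u * b * u⁻¹) * (v * a⁻¹ * v⁻¹) * b⁻¹ := by group
    rw [e]
    exact Kt.mul_mem (Kt.mul_mem (Kt.mul_mem ha (hnormpow i b hb))
      (hnormpow j a⁻¹ (Kt.inv_mem ha))) (Kt.inv_mem hb)
  have hznK : z ^ Tt.index ∈ Kt := hle hzn
  have hσzn : σ (z ^ Tt.index) = 1 := by
    rw [map_pow, MonoidHom.mem_ker.mp hz, one_pow]
  have h4 := hKt4 _ hznK hσzn
  refine ⟨Tt.index * 4, ?_, ?_⟩
  · rw [hidx']
    intro h
    rcases (Nat.Prime.dvd_mul Nat.prime_three).mp h with h | h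
    · exact hidx h
    · omega
  · rw [pow_mul]; exact h4

end Cfsg.Agent.Lib.Helper11_M23_TRANSFERaux
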