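import Mathlib
import Cfsg.Agent.Lib.Helper11_M23_KER4w
import Cfsg.Agent.Lib.Helper11_M23_TRANSFERaux

/-!
# S2054 package TRANSFER (helper19's market `s2054_packages`), verbatim statement
-/

set_option autoImplicit false

namespace Cfsg.Agent.Lib.Helper11_M23_TRANSFER

open Cfsg Cfsg.Spor Cfsg.Agent.Lib.Helper66_S96 Cfsg.Agent.Lib.Helper66_S92
  Cfsg.Agent.Lib.Helper81_UceA Cfsg.Agent.Lib.helper19_M23

/-- **PKG TRANSFER** -/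
theorem three_part {G : Type} [Group G] [Finite G] (XS : I8 → I8 → ZMod 3 → G) (hXS : DStAB XS)
    (hnc : ∃ a c d e t u, XS a c t * XS d e u ≠ XS d e u * XS a c t)
    (g : G) (hg3 : g ^ 3 = 1) (hgK : g ∉ rootClosure XS)
    (hgn : ∀ a c t, g * XS a c t * g⁻¹ ∈ rootClosure XS)
    (h14 : ¬ 3 ^ 14 ∣ Nat.card G)
    {Γ : Type} [Group Γ] [Finite Γ] (σ : Γ →* G) (hσ : IsStemExtension σ) (z : Γ) (hz : z ∈ σ.ker) :
    ∃ m : ℕ, ¬ 3 ∣ m ∧ z ^ m = 1 :=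
  Cfsg.Agent.Lib.Helper11_M23_TRANSFERaux.three_part_of XS g hg3 hgK hgn h14 σ hσ
    (Cfsg.Agent.Lib.Helper11_M23_KER4w.ker4 XS hXS hnc σ ⟨hσ.1, hσ.2.1⟩) z hz

end Cfsg.Agent.Lib.Helper11_M23_TRANSFER
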