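import Mathlib

/-!
# Marggraf's theorem (S3620): shared definitions

`JS G S` : the set `S` is a Jordan set for the action of `G`, in elementary form:
for all `x y ∈ S` some `g : G` fixes every point outside `S` and maps `x` to `y`.
-/

set_option autoImplicit false

namespace Cfsg.Agent.Lib.Helper73_MG

universe u v

/-- `S` is a Jordan set for `G`: the pointwise stabiliser of the complement of `S`
is transitive on `S` (elementary form). -/
def JS (G : Type u) {Ω : Type v} [Group G] [MulAction G Ω] (S : Set Ω) : Prop :=
  ∀ x ∈ S, ∀ y ∈ S, ∃ g : G, (∀ z, z ∉ S → g • z = z) ∧ g • x = y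

end Cfsg.Agent.Lib.Helper73_MG
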