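import Mathlib
import Cfsg.Agent.Lib.Helper73_MGDefs

/-!
# MG-REDUCE (helper73's market `mg_packages`, S3620 Marggraf)
-/

set_option autoImplicit false

namespace Cfsg.Agent.Lib.Helper11_MG_REDUCE

open MulAction Equiv
open scoped Pointwise
open Cfsg.Agent.Lib.Helper73_MG

universe u v
variable {G : Type u} {Ω : Type v} [Group G] [MulAction G Ω]

/-- MG-REDUCE -/
theorem three_cycle_of_stabilizer [Fintype Ω] [DecidableEq Ω] (a : Ω)
    [Fintype (SubMulAction.ofStabilizer G a)] (h4 : 4 ≤ Fintype.card Ω)
    (h : ∀ σ : Perm (SubMulAction.ofStabilizer G a), Perm.sign σ = 1 →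
      ∃ g : stabilizer G a, (toPerm g : Perm (SubMulAction.ofStabilizer G a)) = σ) :
    ∃ g : G, (toPerm g : Perm Ω).IsThreeCycle := by
  classical
  -- three distinct points different from `a`
  have hcard : 3 ≤ (Finset.univ.erase a).card := by
    rw [Finset.card_erase_of_mem (Finset.mem_univ a), Finset.card_univ]
    omega
  obtain ⟨s, hs, hs3⟩ := Finset.exists_subset_card_eq hcard
  obtain ⟨x, y, z, hxy, hxz, hyz, rfl⟩ := Finset.card_eq_three.mp hs3
  have hxa : x ≠ a := by
    have := hs (by simp : x ∈ ({x, y, z} : Finset Ω))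
    exact (Finset.mem_erase.mp this).1
  have hya : y ≠ a := by
    have := hs (by simp : y ∈ ({x, y, z} : Finset Ω))
    exact (Finset.mem_erase.mp this).1
  have hza : z ≠ a := by
    have := hs (by simp : z ∈ ({x, y, z} : Finset Ω))
    exact (Finset.mem_erase.mp this).1
  let x' : SubMulAction.ofStabilizer G a := ⟨x, hxa⟩
  let y' : SubMulAction.ofStabilizer G a := ⟨y, hya⟩
  let z' : SubMulAction.ofStabilizer G a := ⟨z, hza⟩
  have hxy' : x' ≠ y' := fun h => hxy (congrArg Subtype.val h)
  have hxz' : x' ≠ z' := fun h => hxz (congrArg Subtype.val h)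
  have hyz' : y' ≠ z' := fun h => hyz (congrArg Subtype.val h)
  have h3 : (swap x' y' * swap x' z').IsThreeCycle :=
    Equiv.Perm.isThreeCycle_swap_mul_swap_same hxy' hxz' hyz'
  obtain ⟨g, hg⟩ := h _ h3.sign
  refine ⟨(g : G), ?_⟩
  have key : (toPerm (g : G) : Perm Ω) = swap x y * swap x z := by
    ext ω
    rw [toPerm_apply, Perm.mul_apply]
    by_cases hω : ω = a
    · subst hω
      rw [swap_apply_of_ne_of_ne (fun h => hxa h.symm) (fun h => hza h.symm),
        swap_apply_of_ne_of_ne (fun h => hxa h.symm) (fun h => hya h.symm)]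
      exact g.2
    · let t : SubMulAction.ofStabilizer G a := ⟨ω, hω⟩
      have h1 : (g : G) • ω = ((g • t : SubMulAction.ofStabilizer G a) : Ω) := rfl
      have h2 : g • t = (swap x' y' * swap x' z') t := by
        rw [← hg, toPerm_apply]
      rw [h1, h2, Perm.mul_apply]
      have inj : Function.Injective (Subtype.val : SubMulAction.ofStabilizer G a → Ω) :=
        Subtype.val_injective
      rw [← inj.swap_apply, ← inj.swap_apply]
  rw [key]
  exact Equiv.Perm.isThreeCycle_swap_mul_swap_same hxy hxz hyz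

end Cfsg.Agent.Lib.Helper11_MG_REDUCE
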