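import Mathlib
import Cfsg.Agent.Lib.Helper73_MGDefs

/-!
# MG-SMALL, auxiliary form (helper73's market `mg_packages`, S3620 Marggraf)

`small_case_aux` : the statement of MG-SMALL with the statements of MG-FINISH3 and MG-FINISH2
(for the given `hprim`) as hypotheses.
-/

set_option autoImplicit false

namespace Cfsg.Agent.Lib.Helper11_MG_SMALLaux

open MulAction Equiv
open scoped Pointwise
open Cfsg.Agent.Lib.Helper73_MG

universe u v
variable {G : Type u} {Ω : Type v} [Group G] [MulAction G Ω]

/-- An element fixing the complement of `Γ` pointwise maps `Γ` into `Γ`. -/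
theorem smul_mem_of_fix {Γ : Set Ω} {g : G} (hg : ∀ z, z ∉ Γ → g • z = z) {x : Ω} (hx : x ∈ Γ) :
    g • x ∈ Γ := by
  by_contra hn
  have h1 : g • (g • x) = g • x := hg _ hn
  have h2 : g • x = x := MulAction.injective g h1
  rw [h2] at hn
  exact hn hx

theorem small_case_aux [Fintype Ω] [DecidableEq Ω]
    (hF3 : ∀ g : G, (toPerm g : Perm Ω).IsThreeCycle →
      ∀ σ : Perm Ω, Perm.sign σ = 1 → ∃ x : G, (toPerm x : Perm Ω) = σ)
    (hF2 : ∀ g : G, (toPerm g : Perm Ω).IsSwap →
      ∀ σ : Perm Ω, ∃ x : G, (toPerm x : Perm Ω) = σ)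
    (Γ : Set Ω)
    (h1 : 1 < Γ.ncard) (h3 : Γ.ncard ≤ 3) (hΓ : JS G Γ) :
    ∀ σ : Perm Ω, Perm.sign σ = 1 → ∃ x : G, (toPerm x : Perm Ω) = σ := by
  intro σ hσ
  have hcases : Γ.ncard = 2 ∨ Γ.ncard = 3 := by omega
  rcases hcases with h2 | h3'
  · -- `Γ = {p, q}`
    obtain ⟨p, q, hpq, rfl⟩ := Set.ncard_eq_two.mp h2
    obtain ⟨g, hgfix, hgp⟩ := hΓ p (by simp) q (by simp)
    have hgq : g • q = p := by
      have hm : g • q ∈ ({p, q} : Set Ω) := smul_mem_of_fix hgfix (by simp)
      rcases hm with h | h
      · exact h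
      · exfalso
        have : g • q = g • p := by rw [hgp]; exact h
        exact hpq (MulAction.injective g this).symm
    have key : (toPerm g : Perm Ω) = swap p q := by
      ext ω
      rw [toPerm_apply]
      by_cases hωp : ω = p
      · rw [hωp, hgp, swap_apply_left]
      by_cases hωq : ω = q
      · rw [hωq, hgq, swap_apply_right]
      rw [swap_apply_of_ne_of_ne hωp hωq]
      apply hgfix
      simp [hωp, hωq]
    exact hF2 g (key ▸ ⟨p, q, hpq, rfl⟩) σ
  · -- `Γ = {p, q, r}`
    obtain ⟨p, q, r, hpq, hpr, hqr, rfl⟩ := Set.ncard_eq_three.mp h3'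
    obtain ⟨g, hgfix, hgp⟩ := hΓ p (by simp) q (by simp)
    have hfixω : ∀ ω, ω ≠ p → ω ≠ q → ω ≠ r → g • ω = ω := by
      intro ω h1 h2 h3
      apply hgfix
      simp [h1, h2, h3]
    have hmq : g • q ∈ ({p, q, r} : Set Ω) := smul_mem_of_fix hgfix (by simp)
    have hmr : g • r ∈ ({p, q, r} : Set Ω) := smul_mem_of_fix hgfix (by simp)
    have hgq_ne : g • q ≠ q := by
      intro h
      have : g • q = g • p := by rw [hgp]; exact h
      exact hpq (MulAction.injective g this).symm
    have hgr_ne : g • r ≠ q := by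
      intro h
      have : g • r = g • p := by rw [hgp]; exact h
      exact hpr (MulAction.injective g this).symm
    have hgqr : g • q ≠ g • r := fun h => hqr (MulAction.injective g h)
    simp only [Set.mem_insert_iff, Set.mem_singleton_iff] at hmq hmr
    rcases hmq with hq | hq | hq
    · -- `g q = p`: a swap
      have hgr : g • r = r := by
        rcases hmr with hr | hr | hr
        · exact absurd (hq.trans hr.symm) hgqr
        · exact absurd hr hgr_ne
        · exact hr
      have key : (toPerm g : Perm Ω) = swap p q := by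
        ext ω
        rw [toPerm_apply]
        by_cases hωp : ω = p
        · rw [hωp, hgp, swap_apply_left]
        by_cases hωq : ω = q
        · rw [hωq, hq, swap_apply_right]
        rw [swap_apply_of_ne_of_ne hωp hωq]
        by_cases hωr : ω = r
        · rw [hωr, hgr]
        · exact hfixω ω hωp hωq hωr
      exact hF2 g (key ▸ ⟨p, q, hpq, rfl⟩) σ
    · exact absurd hq hgq_ne
    · -- `g q = r`: a three-cycle
      have hgr : g • r = p := by
        rcases hmr with hr | hr | hr
        · exact hr
        · exact absurd hr hgr_ne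
        · exact absurd (hq.trans hr.symm) hgqr
      have key : (toPerm g : Perm Ω) = swap p r * swap p q := by
        ext ω
        rw [toPerm_apply, Perm.mul_apply]
        by_cases hωp : ω = p
        · rw [hωp, hgp, swap_apply_left, swap_apply_of_ne_of_ne hpq.symm hqr]
        by_cases hωq : ω = q
        · rw [hωq, hq, swap_apply_right, swap_apply_left]
        by_cases hωr : ω = r
        · rw [hωr, hgr, swap_apply_of_ne_of_ne hpr.symm hqr.symm, swap_apply_right]
        · rw [swap_apply_of_ne_of_ne hωp hωq, swap_apply_of_ne_of_ne hωp hωr]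
          exact hfixω ω hωp hωq hωr
      have h3c : (toPerm g : Perm Ω).IsThreeCycle := by
        rw [key]
        exact Equiv.Perm.isThreeCycle_swap_mul_swap_same hpr hpq hqr.symm
      exact hF3 g h3c σ hσ

end Cfsg.Agent.Lib.Helper11_MG_SMALLaux
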