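import Mathlib
import Cfsg.Agent.Lib.Helper73_MGDefs

set_option autoImplicit false

/-!
# S3620 package MG-FINISH3 (helper8 for helper73): a primitive group containing (an element inducing) a
3-cycle induces every even permutation.
-/

namespace Cfsg.Agent.Lib.Helper8_MG_FINISH3

open MulAction Equiv
open scoped Pointwise
open Cfsg.Agent.Lib.Helper73_MG

universe u v
variable {G : Type u} {Ω : Type v} [Group G] [MulAction G Ω]

/-- the image of `G` in `Perm Ω` acts primitively -/
theorem range_isPreprimitive (hprim : IsPreprimitive G Ω) :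
    IsPreprimitive (MulAction.toPermHom G Ω).range Ω := by
  let φ : G → (MulAction.toPermHom G Ω).range := fun g => ⟨MulAction.toPermHom G Ω g, ⟨g, rfl⟩⟩
  let f : Ω →ₑ[φ] Ω := ⟨id, fun g x => rfl⟩
  exact IsPreprimitive.of_surjective (f := f) Function.surjective_id

/-- MG-FINISH3 -/
theorem alt_of_three_cycle [Fintype Ω] [DecidableEq Ω] (hprim : IsPreprimitive G Ω) (g : G)
    (hg : (toPerm g : Perm Ω).IsThreeCycle) :
    ∀ σ : Perm Ω, Perm.sign σ = 1 → ∃ x : G, (toPerm x : Perm Ω) = σ := by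
  have hle := Equiv.Perm.alternatingGroup_le_of_isPreprimitive_of_isThreeCycle_mem
    (range_isPreprimitive hprim) hg ⟨g, rfl⟩
  intro σ hσ
  obtain ⟨x, hx⟩ := hle (Equiv.Perm.mem_alternatingGroup.mpr hσ)
  exact ⟨x, hx⟩

/-- MG-FINISH2 (same method; extra) -/
theorem all_of_swap' [Fintype Ω] [DecidableEq Ω] (hprim : IsPreprimitive G Ω) (g : G)
    (hg : (toPerm g : Perm Ω).IsSwap) :
    ∀ σ : Perm Ω, ∃ x : G, (toPerm x : Perm Ω) = σ := by
  have htop := Equiv.Perm.subgroup_eq_top_of_isPreprimitive_of_isSwap_mem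
    (range_isPreprimitive hprim) _ hg ⟨g, rfl⟩
  intro σ
  have : σ ∈ (MulAction.toPermHom G Ω).range := by rw [htop]; exact Subgroup.mem_top σ
  obtain ⟨x, hx⟩ := this
  exact ⟨x, hx⟩

end Cfsg.Agent.Lib.Helper8_MG_FINISH3
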