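/-
Helper96_MG_FINISH2: package MG-FINISH2 of the mg market (architect helper73, S3620 Marggraf): a primitive group
whose image in `Perm Ω` contains a swap induces every permutation (Jordan; Mathlib's
`Equiv.Perm.subgroup_eq_top_of_isPreprimitive_of_isSwap_mem` applied to the image).  helper96.
-/
import Mathlib
import Cfsg.Agent.Lib.Helper73_MGDefs

set_option autoImplicit false

namespace Cfsg.Agent.Lib.Helper96_MG_FINISH2

open MulAction Equiv
open scoped Pointwise
open Cfsg.Agent.Lib.Helper73_MG

universe u v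
variable {G : Type u} {Ω : Type v} [Group G] [MulAction G Ω]

/-- the image of a primitive group in `Perm Ω` is primitive -/
theorem range_isPreprimitive (hprim : IsPreprimitive G Ω) :
    IsPreprimitive (MulAction.toPermHom G Ω).range Ω := by
  let φ : G → (MulAction.toPermHom G Ω).range := fun a => ⟨toPerm a, ⟨a, rfl⟩⟩
  let f : Ω →ₑ[φ] Ω := { toFun := id, map_smul' := fun a x => rfl }
  exact IsPreprimitive.of_surjective (f := f) Function.surjective_id

/-- MG-FINISH2 -/
theorem all_of_swap [Fintype Ω] [DecidableEq Ω] (hprim : IsPreprimitive G Ω) (g : G)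
    (hg : (toPerm g : Perm Ω).IsSwap) :
    ∀ σ : Perm Ω, ∃ x : G, (toPerm x : Perm Ω) = σ := by
  have hH := range_isPreprimitive hprim
  have htop : (MulAction.toPermHom G Ω).range = ⊤ :=
    Equiv.Perm.subgroup_eq_top_of_isPreprimitive_of_isSwap_mem hH (toPerm g) hg ⟨g, rfl⟩
  intro σ
  have hσ : σ ∈ (MulAction.toPermHom G Ω).range := by
    rw [htop]
    exact Subgroup.mem_top σ
  obtain ⟨x, hx⟩ := hσ
  exact ⟨x, hx⟩

end Cfsg.Agent.Lib.Helper96_MG_FINISH2
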