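import Mathlib
import Cfsg.Agent.Lib.Helper73_MGDefs
import Cfsg.Agent.Lib.Helper11_MG_SMALLaux
import Cfsg.Agent.Lib.Helper8_MG_FINISH3
import Cfsg.Agent.Lib.Helper96_MG_FINISH2

/-!
# MG-SMALL (helper73's market `mg_packages`, S3620 Marggraf)
-/

set_option autoImplicit false

namespace Cfsg.Agent.Lib.Helper11_MG_SMALL

open MulAction Equiv
open scoped Pointwise
open Cfsg.Agent.Lib.Helper73_MG

universe u v
variable {G : Type u} {Ω : Type v} [Group G] [MulAction G Ω]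

/-- MG-SMALL -/
theorem small_case [Fintype Ω] [DecidableEq Ω] (hprim : IsPreprimitive G Ω) (Γ : Set Ω)
    (h1 : 1 < Γ.ncard) (h3 : Γ.ncard ≤ 3) (hΓ : JS G Γ) :
    ∀ σ : Perm Ω, Perm.sign σ = 1 → ∃ x : G, (toPerm x : Perm Ω) = σ :=
  Cfsg.Agent.Lib.Helper11_MG_SMALLaux.small_case_aux
    (fun g hg => Cfsg.Agent.Lib.Helper8_MG_FINISH3.alt_of_three_cycle hprim g hg)
    (fun g hg => Cfsg.Agent.Lib.Helper96_MG_FINISH2.all_of_swap hprim g hg) Γ h1 h3 hΓ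

end Cfsg.Agent.Lib.Helper11_MG_SMALL
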