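import Mathlib
import Cfsg.Prelude.Def_Blocks
import Cfsg.Agent.S4441
import Cfsg.Agent.Lib.Helper23_ZStarB
import Cfsg.Agent.Lib.Helper30_KleinBlock
import Cfsg.Agent.Lib.Helper17_Sylow
import Cfsg.Agent.Lib.Helper74_CharTools
import Cfsg.Agent.Lib.Helper77_BlockBasics
import Cfsg.Agent.Lib.Helper80_CharBasic

/-!
# N19-BRX (package of S1022, architect helper62; formalized by helper11)

`G` simple of order `459648 = 2^7·3^3·7·19`, `P` a Sylow `19`-subgroup, `e = |N(P) : C(P)| ∈ {2,3,6}`.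
Brauer's theorem (S4441) gives the `e` non-exceptional characters `X` of the principal block with
their signs; the degree of a nontrivial member is `96 (+)` or `18, 56, 189 (-)`.
-/

set_option autoImplicit false
open Cfsg Cfsg.Agent.Lib.Helper80_CharBasic

namespace Cfsg.Agent.Lib.Helper11_N19_BRX

set_option maxRecDepth 100000 in
/-- The divisors of `459648` that are `≡ ±1 (mod 19)` with square at most `459648`. -/
theorem divisor_list : ∀ d : ℕ, d ≤ 677 → d ∣ 459648 → (d % 19 = 1 ∨ d % 19 = 18) →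
    (d % 19 = 1 ∧ (d = 1 ∨ d = 96)) ∨ (d % 19 = 18 ∧ (d = 18 ∨ d = 56 ∨ d = 189)) := by
  decide

theorem brauer_X {G : Type*} [Group G] [Finite G] [IsSimpleGroup G] [Fact (Nat.Prime 19)]
    (hG : Nat.card G = 459648) (P : Sylow 19 G) (hP : Nat.card P = 19) (e : ℕ)
    (he : (Subgroup.centralizer ((P : Subgroup G) : Set G)).relIndex
      (Subgroup.normalizer ((P : Subgroup G) : Set G)) = e)
    (he' : e = 2 ∨ e = 3 ∨ e = 6) :
    ∃ (X : Finset (Cfsg.IrrCharacter G)) (εX : Cfsg.IrrCharacter G → ℤ) (D : ℕ) (ε : ℤ),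
      oneIrr G ∈ X ∧ X.card = e ∧ εX (oneIrr G) = 1 ∧
      (∀ χ ∈ X, χ ≠ oneIrr G →
        (Cfsg.charDegree (χ : G → ℂ) = 96 ∧ εX χ = 1) ∨
        ((Cfsg.charDegree (χ : G → ℂ) = 18 ∨ Cfsg.charDegree (χ : G → ℂ) = 56 ∨
          Cfsg.charDegree (χ : G → ℂ) = 189) ∧ εX χ = -1)) ∧
      (∀ χ ∈ X, ∀ x : G, x ∈ (P : Subgroup G) → x ≠ 1 → ∀ y : G,
        y ∈ Subgroup.centralizer ((P : Subgroup G) : Set G) → ¬ 19 ∣ orderOf y →
        (χ : G → ℂ) (x * y) = (εX χ : ℂ)) ∧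
      D ∣ 459648 ∧ (ε = 1 ∨ ε = -1) ∧
      ε * (D : ℤ) = ∑ χ ∈ X, εX χ * (Cfsg.charDegree (χ : G → ℂ) : ℤ) := by
  classical
  let _ : Fintype G := Fintype.ofFinite G
  have hp : Nat.Prime 19 := Fact.out
  obtain ⟨M, hM⟩ := Cfsg.Agent.Lib.Helper23_ZStarB.exists_pModular 19 hp
  obtain ⟨X₀, Y₀, hB, hdisj, hcX, hcY, εX, ε, hX, hε, hYdeg, hYagree, hrel⟩ :=
    Cfsg.Agent.S4441.result 19 M hM (by norm_num) P hP e he
  have hdeg1 : charDegree ((oneIrr G : IrrCharacter G) : G → ℂ) = 1 := by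
    show ⌊((1 : ℂ)).re⌋₊ = 1
    simp
  have h1B : oneIrr G ∈ X₀ ∪ Y₀ := by
    rw [← hB]
    exact Cfsg.Agent.Lib.Helper30_KleinBlock.oneIrr_mem hM
  -- the principal character lies in `X₀`
  have h1X : oneIrr G ∈ X₀ := by
    rcases h1B with h | h
    · exact h
    · exfalso
      have h2 := hYdeg _ h
      rw [hdeg1] at h2
      unfold Int.ModEq at h2
      rcases hε with h3 | h3 <;> rcases he' with h4 | h4 | h4 <;> rw [h3, h4] at h2 <;>
        push_cast at h2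
  have hε1 : εX (oneIrr G) = 1 := by
    obtain ⟨h2, h3, -⟩ := hX _ h1X
    rw [hdeg1] at h3
    rcases h2 with h2 | h2
    · exact h2
    · exfalso
      rw [h2] at h3
      unfold Int.ModEq at h3
      omega
  have hfin : X₀.Finite := Set.toFinite X₀
  -- non-commutativity
  have hnp : ¬ (Nat.card G).Prime := by rw [hG]; norm_num
  have hna : ¬ ∀ a b : G, a * b = b * a := by
    intro h
    exact Cfsg.Agent.Lib.Helper17_Sylow.not_isMulCommutative_of_not_prime hnp ⟨⟨h⟩⟩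
  -- a member of `Y₀`
  have hYne : Nonempty Y₀ := by
    have : 0 < Nat.card Y₀ := by
      rw [hcY]
      rcases he' with h | h | h <;> rw [h] <;> norm_num
    exact (Nat.card_pos_iff.mp this).1
  obtain ⟨⟨θ, hθ⟩⟩ := hYne
  have hreg1 : ¬ 19 ∣ orderOf (1 : G) := by
    rw [orderOf_one]
    norm_num
  have hrel1 := hrel θ hθ 1 hreg1
  refine ⟨hfin.toFinset, εX, charDegree (θ : G → ℂ), ε, ?_, ?_, hε1, ?_, ?_, ?_, hε, ?_⟩
  · exact hfin.mem_toFinset.mpr h1X
  · rw [← Set.ncard_eq_toFinset_card X₀ hfin, ← Nat.card_coe_set_eq, hcX]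
  · intro χ hχ hχ1
    have hχX : χ ∈ X₀ := hfin.mem_toFinset.mp hχ
    obtain ⟨hs, hmod, -⟩ := hX χ hχX
    have hdvd : charDegree (χ : G → ℂ) ∣ 459648 := by
      rw [← hG]
      exact Cfsg.Agent.Lib.Helper77_BlockBasics.charDegree_dvd_card χ
    have hsq : charDegree (χ : G → ℂ) ^ 2 ≤ 459648 := by
      rw [← hG]
      exact Cfsg.Agent.Lib.Helper74_CharTools.charDegree_sq_le χ
    have hne1 : charDegree (χ : G → ℂ) ≠ 1 := fun h =>
      hχ1 (Cfsg.Agent.Lib.Helper74_CharTools.eq_oneIrr_of_degree_one hna χ h)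
    obtain ⟨d, hd⟩ : ∃ d : ℕ, d = charDegree (χ : G → ℂ) := ⟨_, rfl⟩
    rw [← hd] at hdvd hsq hne1 hmod ⊢
    have hle : d ≤ 677 := by
      by_contra h
      have : 678 ≤ d := by omega
      nlinarith
    unfold Int.ModEq at hmod
    rcases hs with hs | hs
    · rw [hs] at hmod ⊢
      have hm : d % 19 = 1 := by
        push_cast at hmod
        omega
      rcases divisor_list d hle hdvd (Or.inl hm) with ⟨-, h | h⟩ | ⟨h, -⟩
      · exact absurd h hne1
      · left; exact ⟨h, rfl⟩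
      · omega
    · rw [hs] at hmod ⊢
      have hm : d % 19 = 18 := by
        push_cast at hmod
        omega
      rcases divisor_list d hle hdvd (Or.inr hm) with ⟨h, -⟩ | ⟨-, h⟩
      · omega
      · right; exact ⟨h, rfl⟩
  · intro χ hχ x hx hx1 y hy hyo
    exact (hX χ (hfin.mem_toFinset.mp hχ)).2.2 x hx hx1 y hy hyo
  · rw [← hG]
    exact Cfsg.Agent.Lib.Helper77_BlockBasics.charDegree_dvd_card θ
  · rw [finsum_mem_eq_finite_toFinset_sum _ hfin,
      Cfsg.Agent.Lib.Helper77_BlockBasics.apply_one_eq_charDegree θ] at hrel1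
    have h2 : ((ε * (charDegree (θ : G → ℂ) : ℤ) : ℤ) : ℂ) =
        ((∑ χ ∈ hfin.toFinset, εX χ * (charDegree (χ : G → ℂ) : ℤ) : ℤ) : ℂ) := by
      push_cast
      rw [hrel1]
      refine Finset.sum_congr rfl fun χ _ => ?_
      rw [Cfsg.Agent.Lib.Helper77_BlockBasics.apply_one_eq_charDegree χ]
    exact_mod_cast h2

end Cfsg.Agent.Lib.Helper11_N19_BRX
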