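import Mathlib
import Cfsg.Agent.Lib.Helper38_OTDefs

set_option autoImplicit false
set_option linter.unusedSectionVars false
set_option linter.unusedVariables false

/-!
OTENS4 package ALGEA (helper38's market): characteristic `2`, step A: the self-adjoint members
of an `Sp`-invariant space of operators with scalar "pair products" are alternating.
-/

namespace Cfsg.Agent.Lib.Helper11_OT_ALGEA

open Matrix Module
open Cfsg.Agent.Lib.Helper98_ExtDefs Cfsg.Agent.Lib.Helper97_TensDefs
open Cfsg.Agent.Lib.Helper94_Herm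
open Cfsg.Agent.Lib.Helper67_UT2Defs Cfsg.Agent.Lib.Helper37_UTDefs
open Cfsg.Agent.Lib.Helper37_UTPairDefs
open Cfsg.Agent.Lib.Helper94_OrthSmall Cfsg.Agent.Lib.Helper94_OrthSiegel
open Cfsg.Agent.Lib.Helper67_T2ODefs (IsAltMap aw)
open Cfsg.Agent.Lib.Helper38_OTDefs

variable {F : Type*} [Field F] {ι κ : Type*} [Fintype ι] [Fintype κ] [DecidableEq ι]
  [DecidableEq κ]
variable {α : LinearMap.BilinForm F (ι → F)} {β : LinearMap.BilinForm F (κ → F)}
variable {Q : Matrix ι κ F → F} {M : Subgroup (Matrix ι κ F ≃ₗ[F] Matrix ι κ F)}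

section Alg

variable {W : Type*} [AddCommGroup W] [Module F W] [FiniteDimensional F W]
  {ω : LinearMap.BilinForm F W}

/-- in characteristic `2`, `-c = c` -/
theorem neg_eq_self_of_two (h2 : (2 : F) = 0) (c : F) : -c = c := by
  linear_combination (-c) * h2

/-- in characteristic `2` an alternating form is symmetric -/
theorem symm_of_two (hω : ∀ x, ω x x = 0) (h2 : (2 : F) = 0) (x y : W) : ω x y = ω y x := by
  have h := hω (x + y)
  simp only [map_add, LinearMap.add_apply, hω x, hω y, zero_add, add_zero] at h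
  linear_combination h - (ω y x) * h2

theorem isHerm_of_two (hω : ∀ x, ω x x = 0) (h2 : (2 : F) = 0) : IsHerm ω := by
  intro x y
  simpa using symm_of_two hω h2 y x

theorem utv_mem (hω : ∀ x, ω x x = 0) (h2 : (2 : F) = 0) (v : W) (c : F) :
    utv ω v c ∈ uG ω :=
  utv_mem_uG (isHerm_of_two hω h2) v (by simpa using (neg_eq_self_of_two h2 c).symm)

theorem utv_app (hω : ∀ x, ω x x = 0) (v : W) (c : F) (x : W) :
    utv ω v c x = x + (c * ω x v) • v := utv_apply ω (hω v) c x

/-- transvections are involutions in characteristic `2` -/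
theorem utv_utv (hω : ∀ x, ω x x = 0) (h2 : (2 : F) = 0) (v : W) (c : F) (x : W) :
    utv ω v c (utv ω v c x) = x := by
  rw [utv_app hω, utv_app hω]
  simp only [map_add, map_smul, LinearMap.add_apply, LinearMap.smul_apply, smul_eq_mul, hω v,
    mul_zero, add_zero]
  have : x + (c * ω x v) • v + (c * ω x v) • v = x + ((2 : F) * (c * ω x v)) • v := by
    rw [two_mul, add_smul, add_assoc]
  rw [this, h2, zero_mul, zero_smul, add_zero]

theorem utv_inv (hω : ∀ x, ω x x = 0) (h2 : (2 : F) = 0) (v : W) (c : F) :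
    (utv ω v c)⁻¹ = utv ω v c := by
  have h : utv ω v c * utv ω v c = 1 := by
    ext x
    rw [LinearEquiv.mul_apply, utv_utv hω h2]
    rfl
  exact inv_eq_of_mul_eq_one_left h

/-- moving one transvection across the form -/
theorem utv_adj (hω : ∀ x, ω x x = 0) (h2 : (2 : F) = 0) (v : W) (c : F) (p q : W) :
    ω (utv ω v c p) q = ω p (utv ω v c q) := by
  have h := utv_mem hω h2 v c p (utv ω v c q)
  rw [utv_utv hω h2] at h
  exact h

/-- the conjugate of a self-adjoint operator by a transvection -/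
noncomputable def cj (ω : LinearMap.BilinForm F W) (v : W) (c : F) (T : W →ₗ[F] W) : W →ₗ[F] W :=
  (utv ω v c : W ≃ₗ[F] W).toLinearMap ∘ₗ T ∘ₗ (utv ω v c : W ≃ₗ[F] W).toLinearMap

theorem cj_apply (v : W) (c : F) (T : W →ₗ[F] W) (x : W) :
    cj ω v c T x = utv ω v c (T (utv ω v c x)) := rfl

theorem cj_adj (hω : ∀ x, ω x x = 0) (h2 : (2 : F) = 0) (v : W) (c : F) {T : W →ₗ[F] W}
    (hT : IsAdjO ω T T) : IsAdjO ω (cj ω v c T) (cj ω v c T) := by
  intro p q
  rw [cj_apply, cj_apply, utv_adj hω h2, hT, utv_adj hω h2]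

theorem cj_mem (hω : ∀ x, ω x x = 0) (h2 : (2 : F) = 0) (𝒯 : Submodule F (W →ₗ[F] W))
    (hconj : ∀ T ∈ 𝒯, ∀ g ∈ uG ω,
      (g : W ≃ₗ[F] W).toLinearMap ∘ₗ T ∘ₗ (g⁻¹ : W ≃ₗ[F] W).toLinearMap ∈ 𝒯)
    (v : W) (c : F) {T : W →ₗ[F] W} (hT : T ∈ 𝒯) : cj ω v c T ∈ 𝒯 := by
  have h := hconj T hT (utv ω v c) (utv_mem hω h2 v c)
  rw [utv_inv hω h2] at h
  exact h

/-- a nonzero vector orthogonal to two given vectors (`dim ≥ 3`) -/
theorem exists_orth_two (h3 : 3 ≤ finrank F W) (z w : W) :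
    ∃ x : W, x ≠ 0 ∧ ω x z = 0 ∧ ω x w = 0 := by
  have h1 := LinearMap.finrank_range_add_finrank_ker ((ω.flip z).prod (ω.flip w))
  have h2 : finrank F (LinearMap.range ((ω.flip z).prod (ω.flip w))) ≤ 2 := by
    have := Submodule.finrank_le (LinearMap.range ((ω.flip z).prod (ω.flip w)))
    rw [finrank_prod, finrank_self] at this
    exact this
  have h3' : 0 < finrank F (LinearMap.ker ((ω.flip z).prod (ω.flip w))) := by omega
  obtain ⟨x, hx⟩ := finrank_pos_iff_exists_ne_zero.mp h3'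
  have hxk : ((ω.flip z).prod (ω.flip w)) (x : W) = 0 := LinearMap.mem_ker.mp x.2
  have hz' : (ω.flip z) (x : W) = 0 := congrArg Prod.fst hxk
  have hw' : (ω.flip w) (x : W) = 0 := congrArg Prod.snd hxk
  exact ⟨(x : W), fun h => hx (Subtype.ext h), hz', hw'⟩

/-- characteristic `2`, step A: self-adjoint members are alternating -/
theorem alg_even_A (hω : ∀ x, ω x x = 0) (hωN : NondegOn ω ⊤) (h4 : 4 ≤ finrank F W)
    (h2 : (2 : F) = 0) (𝒯 : Submodule F (W →ₗ[F] W))
    (hconj : ∀ T ∈ 𝒯, ∀ g ∈ uG ω,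
      (g : W ≃ₗ[F] W).toLinearMap ∘ₗ T ∘ₗ (g⁻¹ : W ≃ₗ[F] W).toLinearMap ∈ 𝒯)
    (hpair : ∀ T ∈ 𝒯, ∀ T' ∈ 𝒯, ∀ Ta Ta' : W →ₗ[F] W, IsAdjO ω T Ta → IsAdjO ω T' Ta' →
      ∃ μ : F, T ∘ₗ Ta' + T' ∘ₗ Ta = μ • LinearMap.id) :
    ∀ U ∈ 𝒯, IsAdjO ω U U → IsAltMap ω U := by
  intro U hU hUa z
  by_contra hne
  have hsym := symm_of_two (ω := ω) hω h2
  set w := U z with hw
  set a := ω w z with ha
  have ha0 : a ≠ 0 := hne
  set s := a⁻¹ with hs
  have hsa : s * a = 1 := inv_mul_cancel₀ ha0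
  have hzw : ω z w = a := hsym z w
  -- the operator `X = aw(z,w) + P_z`
  set X : W →ₗ[F] W := a • (cj ω z s U + U) with hX
  have hXmem : X ∈ 𝒯 := 𝒯.smul_mem a (𝒯.add_mem (cj_mem hω h2 𝒯 hconj z s hU) hU)
  have hXadj : IsAdjO ω X X := by
    intro p q
    have h1 := cj_adj hω h2 z s hUa p q
    have h2' := hUa p q
    simp only [hX, LinearMap.smul_apply, LinearMap.add_apply, map_add, map_smul, smul_eq_mul]
    rw [h1, h2']
  have hXx : ∀ x, X x = ω x z • w + ω x w • z + ω x z • z := by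
    intro x
    have e1 : ω (U x) z = ω x w := hUa x z
    simp only [hX, LinearMap.smul_apply, LinearMap.add_apply, cj_apply, utv_app hω, map_add,
      map_smul, LinearMap.add_apply, LinearMap.smul_apply, smul_eq_mul, ← hw, ← ha, e1]
    linear_combination (norm := module) (a : F) • (h2 • U x) + (ω x z) • (hsa • w)
      + (ω x w) • (hsa • z) + (s * a * ω x z) • (hsa • z) + (ω x z) • (hsa • z)
  -- the swap `R` and `X' = R X R`
  set X' : W →ₗ[F] W := cj ω (z + w) s X with hX'
  have hX'mem : X' ∈ 𝒯 := cj_mem hω h2 𝒯 hconj (z + w) s hXmem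
  have hX'adj : IsAdjO ω X' X' := cj_adj hω h2 (z + w) s hXadj
  have hRz : utv ω (z + w) s z = w := by
    rw [utv_app hω]
    simp only [map_add, hω z, hzw, zero_add]
    linear_combination (norm := module) hsa • (z + w) + h2 • z
  have hRw : utv ω (z + w) s w = z := by
    rw [utv_app hω]
    simp only [map_add, hω w, ← ha, add_zero]
    linear_combination (norm := module) hsa • (z + w) + h2 • w
  have hXz : X z = a • z := by
    rw [hXx, hω z, hzw]
    module
  have hXw : X w = a • w + a • z := by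
    rw [hXx, hω w, ← ha]
    module
  have hX'z : X' z = a • z + a • w := by
    rw [hX', cj_apply, hRz, hXw, map_add, map_smul, map_smul, hRw, hRz]
  have hX'w : X' w = a • w := by
    rw [hX', cj_apply, hRw, hXz, map_smul, hRz]
  obtain ⟨μ, hμ⟩ := hpair X hXmem X' hX'mem X X' hXadj hX'adj
  have hz0 : z ≠ 0 := by
    intro h0
    apply ha0
    rw [ha, h0, map_zero]
  -- on `z`
  have hμz : μ • z = (a * a) • z := by
    have h := LinearMap.congr_fun hμ z
    simp only [LinearMap.add_apply, LinearMap.comp_apply, LinearMap.smul_apply,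
      LinearMap.id_apply, hX'z, hXz, map_add, map_smul, hXw] at h
    rw [← h]
    linear_combination (norm := module) (a * a) • (h2 • w) + (a * a) • (h2 • z)
  have hμa : μ = a * a := by
    have h : (μ - a * a) • z = 0 := by rw [sub_smul, hμz, sub_self]
    rcases smul_eq_zero.mp h with h | h
    · exact sub_eq_zero.mp h
    · exact absurd h hz0
  -- on the orthogonal of `z, w`
  obtain ⟨x, hx0, hxz, hxw⟩ := exists_orth_two (ω := ω) (by omega) z w
  have hXx0 : X x = 0 := by
    rw [hXx, hxz, hxw]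
    simp
  have hX'x0 : X' x = 0 := by
    have hxzw : ω x (z + w) = 0 := by rw [map_add, hxz, hxw, add_zero]
    rw [hX', cj_apply, utv_fix ω (z + w) s hxzw, hXx0, map_zero]
  have hμx : μ • x = 0 := by
    have h := LinearMap.congr_fun hμ x
    simp only [LinearMap.add_apply, LinearMap.comp_apply, LinearMap.smul_apply,
      LinearMap.id_apply, hX'x0, hXx0, map_zero, add_zero] at h
    exact h.symm
  have hμ0 : μ = 0 := by
    rcases smul_eq_zero.mp hμx with h | h
    · exact h
    · exact absurd h hx0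
  rw [hμ0] at hμa
  exact ha0 (mul_self_eq_zero.mp hμa.symm)

end Alg

end Cfsg.Agent.Lib.Helper11_OT_ALGEA
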