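/-
S5630 batch-2 package PKG0 (helper98's cut, pending/helper98/S5630_packages2.lean.txt), by helper29.
A minimal `H`-normalized subgroup of `H` not contained in the scalars.
Also: `exists_minimal_subgroup` (abstract: in a finite group a nonempty family of subgroups has a
member that is minimal under inclusion).
-/
import Mathlib
import Cfsg.Agent.Lib.Helper98_AschDefs

set_option autoImplicit false

namespace Cfsg.Agent.Lib.Helper29_Asch_PKG0

open Cfsg Cfsg.Geo Matrix Cfsg.Agent.Lib.Helper98_AschDefs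

/-- in a finite group every nonempty family of subgroups has an inclusion-minimal member -/
theorem exists_minimal_subgroup {G : Type*} [Group G] [Finite G] (P : Subgroup G → Prop)
    (h : ∃ K, P K) : ∃ K, P K ∧ ∀ K', P K' → K' ≤ K → K' = K := by
  classical
  have hex : ∃ n : ℕ, ∃ K, P K ∧ Nat.card K = n := by
    obtain ⟨K, hK⟩ := h
    exact ⟨_, K, hK, rfl⟩
  obtain ⟨K, hK, hKn⟩ := Nat.find_spec hex
  refine ⟨K, hK, fun K' hK' hle => ?_⟩
  apply Subgroup.eq_of_le_of_card_ge hle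
  rw [hKn]
  exact Nat.find_min' hex ⟨K', hK', rfl⟩

variable {ι : Type} [Fintype ι] [DecidableEq ι] {F : Type*} [Field F]

/-- PKG0: a minimal `H`-normalized subgroup of `H` not contained in the scalars -/
theorem PKG0 [Finite F] (H : Subgroup (GL ι F)) (hH : ¬ H ≤ scalars ι F) :
    ∃ N : Subgroup (GL ι F), N ≤ H ∧ NormalizesGrp H N ∧ ¬ N ≤ scalars ι F ∧
      ∀ N' : Subgroup (GL ι F), N' ≤ N → NormalizesGrp H N' → N' = N ∨ N' ≤ scalars ι F := by
  classical
  obtain ⟨N, ⟨hNH, hNn, hNZ⟩, hmin⟩ := exists_minimal_subgroup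
    (fun N : Subgroup (GL ι F) => N ≤ H ∧ NormalizesGrp H N ∧ ¬ N ≤ scalars ι F)
    ⟨H, le_rfl, fun h hh x hx => H.mul_mem (H.mul_mem hh hx) (H.inv_mem hh), hH⟩
  refine ⟨N, hNH, hNn, hNZ, fun N' hle hn' => ?_⟩
  by_cases hZ : N' ≤ scalars ι F
  · exact Or.inr hZ
  · exact Or.inl (hmin N' ⟨hle.trans hNH, hn', hZ⟩ hle)

end Cfsg.Agent.Lib.Helper29_Asch_PKG0
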