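/-
S5630 batch-2 package PKP1 (helper98's cut, pending/helper98/S5630_packages2.lean.txt), by helper29.
In the perfect case the minimal `H`-normalized subgroup `N` (not inside the scalars) is a central
product of `H`-conjugate, pairwise commuting, `N`-normal minimal subgroups.
The group theory is done abstractly (`central_product_of_minimal`: any finite group `G`, any
central subgroup `Z`), then specialised to `GL ι F` and `Z = scalars`.
-/
import Mathlib
import Cfsg.Agent.Lib.Helper98_AschDefs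
import Cfsg.Agent.Lib.Helper29_Asch_PKG0

set_option autoImplicit false

namespace Cfsg.Agent.Lib.Helper29_Asch_PKP1

open Cfsg Cfsg.Geo Matrix Cfsg.Agent.Lib.Helper98_AschDefs
open Cfsg.Agent.Lib.Helper29_Asch_PKG0
open scoped commutatorElement

section Abstract

variable {G : Type*} [Group G]

/-- the conjugate subgroup `h T h⁻¹` -/
def cj (h : G) (T : Subgroup G) : Subgroup G := T.map (MulAut.conj h).toMonoidHom

theorem mem_cj {h : G} {T : Subgroup G} {y : G} : y ∈ cj h T ↔ h⁻¹ * y * h ∈ T := by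
  unfold cj
  rw [Subgroup.mem_map_equiv]
  simp [MulAut.conj_symm_apply]

theorem conj_mem_cj {h : G} {T : Subgroup G} {x : G} : h * x * h⁻¹ ∈ cj h T ↔ x ∈ T := by
  rw [mem_cj]
  have : h⁻¹ * (h * x * h⁻¹) * h = x := by group
  rw [this]

theorem cj_mul (h h' : G) (T : Subgroup G) : cj (h * h') T = cj h (cj h' T) := by
  ext y
  simp only [mem_cj]
  have : (h * h')⁻¹ * y * (h * h') = h'⁻¹ * (h⁻¹ * y * h) * h' := by group
  rw [this]

theorem cj_one (T : Subgroup G) : cj 1 T = T := by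
  ext y
  simp [mem_cj]

theorem cj_inv_cj (h : G) (T : Subgroup G) : cj h⁻¹ (cj h T) = T := by
  rw [← cj_mul, inv_mul_cancel, cj_one]

theorem cj_cj_inv (h : G) (T : Subgroup G) : cj h (cj h⁻¹ T) = T := by
  rw [← cj_mul, mul_inv_cancel, cj_one]

theorem cj_mono {h : G} {T T' : Subgroup G} (hle : T ≤ T') : cj h T ≤ cj h T' :=
  Subgroup.map_mono hle

theorem cj_commutator (h : G) (A B : Subgroup G) : cj h ⁅A, B⁆ = ⁅cj h A, cj h B⁆ :=
  Subgroup.map_commutator A B _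

/-- `A` normalizes `T`, elementwise -/
def NormBy (A T : Subgroup G) : Prop := ∀ h ∈ A, ∀ x ∈ T, h * x * h⁻¹ ∈ T

theorem NormBy.cj_le {A T : Subgroup G} (hn : NormBy A T) {h : G} (hh : h ∈ A) : cj h T ≤ T := by
  intro y hy
  rw [mem_cj] at hy
  have := hn h hh _ hy
  have h2 : h * (h⁻¹ * y * h) * h⁻¹ = y := by group
  rwa [h2] at this

theorem normBy_of_cj_le {A T : Subgroup G} (h : ∀ a ∈ A, cj a T ≤ T) : NormBy A T :=
  fun a ha _ hx => h a ha (conj_mem_cj.mpr hx)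

theorem NormBy.commutator {A T : Subgroup G} (hn : NormBy A T) : NormBy A ⁅T, T⁆ := by
  apply normBy_of_cj_le
  intro a ha
  rw [cj_commutator]
  exact Subgroup.commutator_mono (hn.cj_le ha) (hn.cj_le ha)

theorem commutator_self_le (S : Subgroup G) : ⁅S, S⁆ ≤ S := by
  rw [Subgroup.commutator_le]
  intro x hx y hy
  rw [commutatorElement_def]
  exact S.mul_mem (S.mul_mem (S.mul_mem hx hy) (S.inv_mem hx)) (S.inv_mem hy)

theorem NormBy.inf {A T T' : Subgroup G} (hn : NormBy A T) (hn' : NormBy A T') :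
    NormBy A (T ⊓ T') :=
  fun a ha _ hx => Subgroup.mem_inf.mpr ⟨hn a ha _ (Subgroup.mem_inf.mp hx).1,
    hn' a ha _ (Subgroup.mem_inf.mp hx).2⟩

/-- commutators of two subgroups of `N` normalized by `N` lie in the intersection -/
theorem commutator_le_inf {N A B : Subgroup G} (hA : A ≤ N) (hB : B ≤ N) (hnA : NormBy N A)
    (hnB : NormBy N B) : ⁅A, B⁆ ≤ A ⊓ B := by
  rw [Subgroup.commutator_le]
  intro x hx y hy
  rw [Subgroup.mem_inf, commutatorElement_def]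
  constructor
  · have h1 : x * y * x⁻¹ * y⁻¹ = x * (y * x⁻¹ * y⁻¹) := by group
    rw [h1]
    exact A.mul_mem hx (hnA y (hB hy) _ (A.inv_mem hx))
  · exact B.mul_mem (hnB x (hA hx) _ hy) (B.inv_mem hy)

variable (Z : Subgroup G)

theorem normal_of_le_center (hZ : Z ≤ Subgroup.center G) : Z.Normal := by
  refine ⟨fun z hz g => ?_⟩
  have h1 := Subgroup.mem_center_iff.mp (hZ hz) g
  have h2 : g * z * g⁻¹ = z := by rw [h1, mul_inv_cancel_right]
  rwa [h2]

variable {Z}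

theorem cj_le_iff_of_normal (hZn : Z.Normal) (h : G) (T : Subgroup G) : cj h T ≤ Z ↔ T ≤ Z := by
  constructor
  · intro hle x hx
    have h1 := hle (conj_mem_cj.mpr hx)
    have h2 := hZn.conj_mem _ h1 h⁻¹
    have h3 : h⁻¹ * (h * x * h⁻¹) * h⁻¹⁻¹ = x := by group
    rwa [h3] at h2
  · intro hle y hy
    rw [mem_cj] at hy
    have h2 := hZn.conj_mem _ (hle hy) h
    have h3 : h * (h⁻¹ * y * h) * h⁻¹ = y := by group
    rwa [h3] at h2

/-- `⁅A, B⁆ ≤ Z` in terms of the quotient by the normal subgroup `Z` -/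
theorem commutator_le_iff_map_le_centralizer [hZn : Z.Normal] (A B : Subgroup G) :
    ⁅A, B⁆ ≤ Z ↔ A.map (QuotientGroup.mk' Z) ≤
      Subgroup.centralizer ((B.map (QuotientGroup.mk' Z) : Subgroup (G ⧸ Z)) : Set (G ⧸ Z)) := by
  rw [← Subgroup.commutator_eq_bot_iff_le_centralizer, ← Subgroup.map_commutator,
    Subgroup.map_eq_bot_iff, QuotientGroup.ker_mk']

theorem iSup_commutator_le (hZn : Z.Normal) {κ : Sort*} (A : κ → Subgroup G) (B : Subgroup G)
    (h : ∀ i, ⁅A i, B⁆ ≤ Z) : ⁅⨆ i, A i, B⁆ ≤ Z := by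
  rw [commutator_le_iff_map_le_centralizer, Subgroup.map_iSup]
  exact iSup_le fun i => (commutator_le_iff_map_le_centralizer (A i) B).mp (h i)

theorem iSup_commutator_iSup_le (hZn : Z.Normal) {κ : Sort*} (A : κ → Subgroup G)
    (h : ∀ i j, ⁅A i, A j⁆ ≤ Z) : ⁅⨆ i, A i, ⨆ i, A i⁆ ≤ Z := by
  apply iSup_commutator_le hZn
  intro i
  rw [Subgroup.commutator_comm]
  apply iSup_commutator_le hZn
  intro j
  rw [Subgroup.commutator_comm]
  exact h i j

/-- The abstract form of PKP1. -/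
theorem central_product_of_minimal [Finite G] (hZ : Z ≤ Subgroup.center G) (H N : Subgroup G)
    (_hNH : N ≤ H) (hnorm : NormBy H N) (hNZ : ¬ N ≤ Z)
    (hmin : ∀ N' : Subgroup G, N' ≤ N → NormBy H N' → N' = N ∨ N' ≤ Z)
    (hperf : ⁅N, N⁆ = N) :
    ∃ (k : ℕ) (S : Fin k → Subgroup G), 0 < k ∧ (∀ i, S i ≤ N) ∧ (∀ i, NormBy N (S i)) ∧
      (∀ i, ¬ S i ≤ Z) ∧
      (∀ i j, i ≠ j → ∀ x ∈ S i, ∀ y ∈ S j, x * y = y * x) ∧ (⨆ i, S i = N) ∧
      (∀ h ∈ H, ∃ π : Equiv.Perm (Fin k), ∀ i, ∀ x, x ∈ S i ↔ h * x * h⁻¹ ∈ S (π i)) ∧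
      (∀ i j, ∃ h ∈ H, ∀ x, x ∈ S i ↔ h * x * h⁻¹ ∈ S j) ∧
      (∀ i, ∀ T : Subgroup G, T ≤ S i → NormBy N T → T = S i ∨ T ≤ Z) := by
  classical
  have hZn : Z.Normal := normal_of_le_center Z hZ
  -- the family of candidates
  let 𝒮 : Subgroup G → Prop := fun T => T ≤ N ∧ NormBy N T ∧ ¬ T ≤ Z
  have hNN : NormBy N N := fun h hh x hx => N.mul_mem (N.mul_mem hh hx) (N.inv_mem hh)
  obtain ⟨S, hS𝒮, hSmin⟩ := exists_minimal_subgroup 𝒮 ⟨N, le_rfl, hNN, hNZ⟩
  -- conjugation by elements of `H` preserves the family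
  have hconj : ∀ T, 𝒮 T → ∀ h ∈ H, 𝒮 (cj h T) := by
    rintro T ⟨hTN, hTn, hTZ⟩ h hh
    refine ⟨?_, ?_, ?_⟩
    · exact (cj_mono hTN).trans (hnorm.cj_le hh)
    · intro n hn y hy
      rw [mem_cj] at hy ⊢
      have h1 : h⁻¹ * n * h⁻¹⁻¹ ∈ N := hnorm h⁻¹ (H.inv_mem hh) n hn
      have h2 := hTn _ h1 _ hy
      have h3 : h⁻¹ * n * h⁻¹⁻¹ * (h⁻¹ * y * h) * (h⁻¹ * n * h⁻¹⁻¹)⁻¹ = h⁻¹ * (n * y * n⁻¹) * h := by
        group
      rwa [h3] at h2
    · rwa [cj_le_iff_of_normal hZn]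
  -- conjugates of `S` are minimal members
  have hminc : ∀ h ∈ H, ∀ T, 𝒮 T → T ≤ cj h S → T = cj h S := by
    intro h hh T hT hle
    have h1 : cj h⁻¹ T = S := by
      apply hSmin _ (hconj T hT h⁻¹ (H.inv_mem hh))
      have := cj_mono (h := h⁻¹) hle
      rwa [cj_inv_cj] at this
    rw [← h1, cj_cj_inv]
  -- enumerate the conjugates
  let 𝒞 : Set (Subgroup G) := Set.range (fun h : H => cj (h : G) S)
  have h𝒞fin : Finite 𝒞 := Subtype.finite
  let k := Nat.card 𝒞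
  let e : 𝒞 ≃ Fin k := Finite.equivFin 𝒞
  let S' : Fin k → Subgroup G := fun i => ((e.symm i : 𝒞) : Subgroup G)
  have hS' : ∀ i, ∃ h ∈ H, S' i = cj h S := by
    intro i
    obtain ⟨h, hh⟩ := (e.symm i).2
    exact ⟨h.1, h.2, hh.symm⟩
  have hS'inj : ∀ i j, S' i = S' j → i = j := by
    intro i j hij
    exact e.symm.injective (Subtype.ext hij)
  have hmem𝒞 : ∀ T ∈ 𝒞, ∀ h ∈ H, cj h T ∈ 𝒞 := by
    rintro T ⟨h', rfl⟩ h hh
    exact ⟨⟨h * h', H.mul_mem hh h'.2⟩, cj_mul h h' S⟩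
  have hidx : ∀ T (hT : T ∈ 𝒞), S' (e ⟨T, hT⟩) = T := by
    intro T hT
    simp [S']
  have hS'𝒮 : ∀ i, 𝒮 (S' i) := by
    intro i
    obtain ⟨h, hh, hi⟩ := hS' i
    rw [hi]
    exact hconj S hS𝒮 h hh
  have hS'min : ∀ i T, 𝒮 T → T ≤ S' i → T = S' i := by
    intro i T hT hle
    obtain ⟨h, hh, hi⟩ := hS' i
    rw [hi] at hle ⊢
    exact hminc h hh T hT hle
  have hkpos : 0 < k := (e ⟨S, ⟨1, by simp [cj_one]⟩⟩).pos
  -- the permutation induced by `h ∈ H`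
  have hperm : ∀ h ∈ H, ∃ π : Equiv.Perm (Fin k), ∀ i, S' (π i) = cj h (S' i) := by
    intro h hh
    let c : 𝒞 → 𝒞 := fun T => ⟨cj h T.1, hmem𝒞 T.1 T.2 h hh⟩
    have hcinj : Function.Injective c := by
      intro T1 T2 h12
      have h1 : cj h T1.1 = cj h T2.1 := congrArg Subtype.val h12
      apply Subtype.ext
      rw [← cj_inv_cj h T1.1, h1, cj_inv_cj]
    have hcbij : Function.Bijective c := Finite.injective_iff_bijective.mp hcinj
    refine ⟨e.symm.trans ((Equiv.ofBijective c hcbij).trans e), fun i => ?_⟩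
    simp [S', c]
  -- the join is `N`
  have hsup : ⨆ i, S' i = N := by
    have hle : ⨆ i, S' i ≤ N := iSup_le fun i => (hS'𝒮 i).1
    have hHn : NormBy H (⨆ i, S' i) := by
      apply normBy_of_cj_le
      intro h hh
      obtain ⟨π, hπ⟩ := hperm h hh
      unfold cj
      rw [Subgroup.map_iSup]
      apply iSup_le
      intro i
      have : (S' i).map (MulAut.conj h).toMonoidHom = S' (π i) := (hπ i).symm
      rw [this]
      exact le_iSup S' (π i)
    rcases hmin _ hle hHn with h1 | h1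
    · exact h1
    · exfalso
      exact (hS'𝒮 ⟨0, hkpos⟩).2.2 ((le_iSup S' ⟨0, hkpos⟩).trans h1)
  -- distinct conjugates meet inside `Z`
  have hinf : ∀ i j, i ≠ j → S' i ⊓ S' j ≤ Z := by
    intro i j hij
    by_contra hnot
    have hT : 𝒮 (S' i ⊓ S' j) :=
      ⟨inf_le_left.trans (hS'𝒮 i).1, (hS'𝒮 i).2.1.inf (hS'𝒮 j).2.1, hnot⟩
    have h1 := hS'min i _ hT inf_le_left
    have h2 := hS'min j _ hT inf_le_right
    exact hij (hS'inj i j (h1.symm.trans h2))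
  have hcomm_le : ∀ i j, i ≠ j → ⁅S' i, S' j⁆ ≤ Z := fun i j hij =>
    (commutator_le_inf (hS'𝒮 i).1 (hS'𝒮 j).1 (hS'𝒮 i).2.1 (hS'𝒮 j).2.1).trans (hinf i j hij)
  -- `S` is perfect
  have hSperf : ⁅S, S⁆ = S := by
    by_cases hSS : ⁅S, S⁆ ≤ Z
    · exfalso
      apply hNZ
      rw [← hperf, ← hsup]
      apply iSup_commutator_iSup_le hZn
      intro i j
      by_cases hij : i = j
      · subst hij
        obtain ⟨h, hh, hi⟩ := hS' i
        rw [hi, ← cj_commutator, cj_le_iff_of_normal hZn]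
        exact hSS
      · exact hcomm_le i j hij
    · exact hSmin _ ⟨(commutator_self_le S).trans hS𝒮.1, hS𝒮.2.1.commutator, hSS⟩
        (commutator_self_le S)
  have hS'perf : ∀ i, ⁅S' i, S' i⁆ = S' i := by
    intro i
    obtain ⟨h, hh, hi⟩ := hS' i
    rw [hi, ← cj_commutator, hSperf]
  -- distinct conjugates commute
  have hcommute : ∀ i j, i ≠ j → ∀ x ∈ S' i, ∀ y ∈ S' j, x * y = y * x := by
    intro i j hij x hx y hy
    have hc : ⁅S' i, S' j⁆ ≤ Subgroup.center G := (hcomm_le i j hij).trans hZ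
    have h1 : ⁅⁅S' i, S' j⁆, S' i⁆ = ⊥ := by
      rw [Subgroup.commutator_eq_bot_iff_le_centralizer]
      exact hc.trans (Subgroup.center_le_centralizer _)
    have h2 : ⁅⁅S' j, S' i⁆, S' i⁆ = ⊥ := by
      rw [Subgroup.commutator_comm (S' j) (S' i)]
      exact h1
    have h3 := Subgroup.commutator_commutator_eq_bot_of_rotate h1 h2
    rw [hS'perf i] at h3
    have h4 : ⁅x, y⁆ ∈ ⁅S' i, S' j⁆ := Subgroup.commutator_mem_commutator hx hy
    rw [h3, Subgroup.mem_bot] at h4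
    exact commutatorElement_eq_one_iff_mul_comm.mp h4
  refine ⟨k, S', hkpos, fun i => (hS'𝒮 i).1, fun i => (hS'𝒮 i).2.1, fun i => (hS'𝒮 i).2.2,
    hcommute, hsup, ?_, ?_, ?_⟩
  · intro h hh
    obtain ⟨π, hπ⟩ := hperm h hh
    refine ⟨π, fun i x => ?_⟩
    rw [hπ i, conj_mem_cj]
  · intro i j
    obtain ⟨hi, hhi, hi'⟩ := hS' i
    obtain ⟨hj, hhj, hj'⟩ := hS' j
    refine ⟨hj * hi⁻¹, H.mul_mem hhj (H.inv_mem hhi), fun x => ?_⟩
    have h1 : S' j = cj (hj * hi⁻¹) (S' i) := by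
      rw [hi', hj', ← cj_mul, inv_mul_cancel_right]
    rw [h1, conj_mem_cj]
  · intro i T hle hTn
    by_cases hTZ : T ≤ Z
    · exact Or.inr hTZ
    · exact Or.inl (hS'min i T ⟨hle.trans (hS'𝒮 i).1, hTn, hTZ⟩ hle)

end Abstract

variable {ι : Type} [Fintype ι] [DecidableEq ι] {F : Type*} [Field F]

theorem scalars_le_center : scalars ι F ≤ Subgroup.center (GL ι F) := by
  intro z hz
  obtain ⟨c, hc⟩ := (mem_scalars_iff z).mp hz
  rw [Subgroup.mem_center_iff]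
  intro a
  apply Units.ext
  rw [Units.val_mul, Units.val_mul, hc, Matrix.smul_mul, Matrix.one_mul, Matrix.mul_smul,
    Matrix.mul_one]

/-- PKP1: in the perfect case the minimal subgroup is a central product of conjugate perfect subgroups -/
theorem PKP1 [Finite F] (H N : Subgroup (GL ι F)) (hNH : N ≤ H) (hnorm : NormalizesGrp H N)
    (hNZ : ¬ N ≤ scalars ι F)
    (hmin : ∀ N' : Subgroup (GL ι F), N' ≤ N → NormalizesGrp H N' → N' = N ∨ N' ≤ scalars ι F)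
    (hperf : ⁅N, N⁆ = N) :
    ∃ (k : ℕ) (S : Fin k → Subgroup (GL ι F)), 0 < k ∧ (∀ i, S i ≤ N) ∧ (∀ i, NormalizesGrp N (S i)) ∧
      (∀ i, ¬ S i ≤ scalars ι F) ∧
      (∀ i j, i ≠ j → ∀ x ∈ S i, ∀ y ∈ S j, x * y = y * x) ∧ (⨆ i, S i = N) ∧
      (∀ h ∈ H, ∃ π : Equiv.Perm (Fin k), ∀ i, ∀ x, x ∈ S i ↔ h * x * h⁻¹ ∈ S (π i)) ∧
      (∀ i j, ∃ h ∈ H, ∀ x, x ∈ S i ↔ h * x * h⁻¹ ∈ S j) ∧
      (∀ i, ∀ T : Subgroup (GL ι F), T ≤ S i → NormalizesGrp N T → T = S i ∨ T ≤ scalars ι F) :=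
  central_product_of_minimal scalars_le_center H N hNH hnorm hNZ hmin hperf

end Cfsg.Agent.Lib.Helper29_Asch_PKP1
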