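import Mathlib
import Cfsg.Agent.Lib.Helper98_AschDefs

/-!
# S5630 package PK11 (helper35 for helper98)

The normalizer of a spanning group written over a proper subfield lies in a subfield group of prime index.
-/

set_option autoImplicit false

namespace Cfsg.Agent.Lib.Helper35_Asch_PK11

open Cfsg Cfsg.Geo Matrix Cfsg.Agent.Lib.Helper98_AschDefs
open scoped Kronecker

variable {ι : Type} [Fintype ι] [DecidableEq ι] {F : Type*} [Field F]

/-- a proper subfield of a finite field lies in a subfield of prime index -/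
theorem exists_prime_index_subfield [Fintype F] (F₀ : Subfield F) (hF₀ : F₀ ≠ ⊤) :
    ∃ (F₁ : Subfield F) (r : ℕ), r.Prime ∧ F₀ ≤ F₁ ∧ Fintype.card F = Nat.card F₁ ^ r := by
  classical
  have hcard : Nat.card Gal(F/F₀) = Module.finrank F₀ F := IsGalois.card_aut_eq_finrank F₀ F
  have hm1 : Module.finrank F₀ F ≠ 1 := by
    intro h1
    apply hF₀
    have hc : Fintype.card F = Fintype.card F₀ ^ 1 := by
      rw [← h1]; exact Module.card_eq_pow_finrank
    rw [pow_one] at hc
    rw [eq_top_iff]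
    intro x _
    have hbij : Function.Bijective (F₀.subtype : F₀ → F) :=
      (Fintype.bijective_iff_injective_and_card _).2 ⟨Subtype.val_injective, hc.symm⟩
    obtain ⟨y, rfl⟩ := hbij.2 x
    exact y.2
  obtain ⟨r, hr, hdvd⟩ := Nat.exists_prime_and_dvd hm1
  have : Fact r.Prime := ⟨hr⟩
  rw [← hcard] at hdvd
  obtain ⟨g, hg⟩ := exists_prime_orderOf_dvd_card' r hdvd
  refine ⟨(IntermediateField.fixedField (Subgroup.zpowers g)).toSubfield, r, hr, ?_, ?_⟩
  · intro x hx
    exact (IntermediateField.fixedField (Subgroup.zpowers g)).algebraMap_mem ⟨x, hx⟩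
  · have h1 : Module.finrank (IntermediateField.fixedField (Subgroup.zpowers g)) F = r := by
      rw [IntermediateField.finrank_fixedField_eq_card, Nat.card_zpowers, hg]
    have h2 : Fintype.card F =
        Fintype.card (IntermediateField.fixedField (Subgroup.zpowers g)) ^
          Module.finrank (IntermediateField.fixedField (Subgroup.zpowers g)) F :=
      Module.card_eq_pow_finrank
    rw [h1] at h2
    rw [h2, Nat.card_eq_fintype_card]
    rfl

/-- an invertible matrix `g` all of whose products `g k i * g⁻¹ j l` lie in the subfield `F₁` is a scalar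
multiple of an invertible matrix over `F₁` -/
theorem mem_sup_of_entries (F₁ : Subfield F) (g : GL ι F)
    (hg : ∀ i j k l, (g : Matrix ι ι F) k i * ((g⁻¹ : GL ι F) : Matrix ι ι F) j l ∈ F₁) :
    g ∈ (Matrix.GeneralLinearGroup.map (F₁.subtype : F₁ →+* F)).range ⊔ scalars ι F := by
  classical
  rcases isEmpty_or_nonempty ι with hι | hι
  · have : g = 1 := Subsingleton.elim _ _
    rw [this]; exact one_mem _
  · have hne : ((g⁻¹ : GL ι F) : Matrix ι ι F) ≠ 0 := (g⁻¹).ne_zero
    obtain ⟨j, l, hc⟩ : ∃ j l, ((g⁻¹ : GL ι F) : Matrix ι ι F) j l ≠ 0 := by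
      by_contra hcon
      apply hne
      ext j l
      by_contra hjl
      exact hcon ⟨j, l, hjl⟩
    set c : F := ((g⁻¹ : GL ι F) : Matrix ι ι F) j l with hcdef
    have hent : ∀ k i, c * (g : Matrix ι ι F) k i ∈ F₁ := fun k i => by
      rw [mul_comm]; exact hg i j k l
    set G₁ : Matrix ι ι F₁ := Matrix.of fun k i => ⟨c * (g : Matrix ι ι F) k i, hent k i⟩ with hG₁
    have hmap : G₁.map (F₁.subtype) = c • (g : Matrix ι ι F) := by
      ext k i
      simp [hG₁]
    have hdet : G₁.det ≠ 0 := by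
      intro h0
      have h1 : (G₁.map (F₁.subtype)).det = F₁.subtype G₁.det := by
        rw [← RingHom.mapMatrix_apply, ← RingHom.map_det]
      rw [h0, map_zero, hmap, Matrix.det_smul] at h1
      have h2 : (g : Matrix ι ι F).det ≠ 0 := by
        have := (Matrix.isUnit_iff_isUnit_det _).1 g.isUnit
        exact this.ne_zero
      exact mul_ne_zero (pow_ne_zero _ hc) h2 h1
    set G₁' : GL ι F₁ := Matrix.GeneralLinearGroup.mkOfDetNeZero G₁ hdet with hG₁'
    have hval : ((Matrix.GeneralLinearGroup.map (F₁.subtype : F₁ →+* F) G₁' : GL ι F) : Matrix ι ι F)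
        = c • (g : Matrix ι ι F) := by
      rw [← hmap]; rfl
    have hs : g⁻¹ * Matrix.GeneralLinearGroup.map (F₁.subtype : F₁ →+* F) G₁' ∈ scalars ι F := by
      rw [mem_scalars_iff]
      refine ⟨Units.mk0 c hc, ?_⟩
      rw [Units.val_mul, hval, Matrix.mul_smul, ← Units.val_mul, inv_mul_cancel]
      rfl
    have : g = Matrix.GeneralLinearGroup.map (F₁.subtype : F₁ →+* F) G₁' *
        (g⁻¹ * Matrix.GeneralLinearGroup.map (F₁.subtype : F₁ →+* F) G₁')⁻¹ := by
      group
    rw [this]
    exact Subgroup.mul_mem_sup ⟨G₁', rfl⟩ (inv_mem hs)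

lemma mul_single_mul_apply (A C : Matrix ι ι F) (i j k l : ι) :
    (A * Matrix.single i j (1 : F) * C) k l = A k i * C j l := by
  rw [Matrix.mul_assoc, Matrix.mul_apply, Finset.sum_eq_single i]
  · rw [Matrix.single_mul_apply_same]; simp
  · intro b _ hb
    rw [Matrix.single_mul_apply_of_ne _ _ _ _ _ hb]; simp
  · simp

/-- if `B N B⁻¹` has entries in `F₀`, `N` spans the matrix algebra and `h` normalizes `N`, then for `g = B h B⁻¹`
all products `g k i * g⁻¹ j l` lie in `F₀` -/
theorem entries_mem (N : Subgroup (GL ι F)) (hspan : spanAlg N = ⊤) (F₀ : Subfield F) (B : GL ι F)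
    (hB : ∀ s ∈ matrixSet N, ∀ i j, ((B : Matrix ι ι F) * s * ((B⁻¹ : GL ι F) : Matrix ι ι F)) i j ∈ F₀)
    (h : GL ι F) (hh : ∀ x ∈ N, h * x * h⁻¹ ∈ N) (i j k l : ι) :
    ((B * h * B⁻¹ : GL ι F) : Matrix ι ι F) k i * (((B * h * B⁻¹)⁻¹ : GL ι F) : Matrix ι ι F) j l ∈ F₀ := by
  classical
  set N' : Set (Matrix ι ι F) :=
    (fun s => (B : Matrix ι ι F) * s * ((B⁻¹ : GL ι F) : Matrix ι ι F)) '' matrixSet N with hN'
  set W : Submodule F₀ (Matrix ι ι F) := Submodule.span F₀ N' with hW
  -- (a) entries of members of W are in F₀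
  have ha : ∀ X ∈ W, ∀ a b, X a b ∈ F₀ := by
    intro X hX
    induction hX using Submodule.span_induction with
    | mem x hx =>
      obtain ⟨s, hs, rfl⟩ := hx
      exact hB s hs
    | zero => intro a b; exact F₀.zero_mem
    | add x y _ _ hx hy => intro a b; exact F₀.add_mem (hx a b) (hy a b)
    | smul c x _ hx =>
      intro a b
      have : (c • x) a b = (c : F) * x a b := rfl
      rw [this]
      exact F₀.mul_mem c.2 (hx a b)
  -- an `F₀`-linear projection of `F` onto `F₀`
  obtain ⟨lam, hlam⟩ := LinearMap.exists_leftInverse_of_injective (Algebra.linearMap F₀ F)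
    (LinearMap.ker_eq_bot.2 (algebraMap F₀ F).injective)
  have hlam' : ∀ x : F₀, lam (x : F) = x := fun x => LinearMap.congr_fun hlam x
  set Λ : Matrix ι ι F → Matrix ι ι F := fun X => Matrix.of fun a b => ((lam (X a b) : F₀) : F) with hΛ
  have hΛadd : ∀ X Y, Λ (X + Y) = Λ X + Λ Y := by
    intro X Y; ext a b; simp [hΛ]
  have hΛzero : Λ 0 = 0 := by
    ext a b; simp [hΛ]
  have hΛfix : ∀ X : Matrix ι ι F, (∀ a b, X a b ∈ F₀) → Λ X = X := by
    intro X hX; ext a b
    simp only [hΛ, Matrix.of_apply]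
    have := hlam' ⟨X a b, hX a b⟩
    simp only at this
    rw [this]
  have hΛsmul : ∀ (c : F) (X : Matrix ι ι F), (∀ a b, X a b ∈ F₀) → Λ (c • X) = (lam c) • X := by
    intro c X hX; ext a b
    have h1 : c * X a b = (⟨X a b, hX a b⟩ : F₀) • c := by
      rw [Subfield.smul_def]; simp [mul_comm]
    have h2 : ((lam c) • X) a b = ((lam c : F₀) : F) * X a b := rfl
    rw [h2]
    simp only [hΛ, Matrix.of_apply, Matrix.smul_apply]
    rw [smul_eq_mul, h1, map_smul]
    simp [mul_comm]
  -- (b)
  have hb : ∀ Y ∈ Submodule.span F (matrixSet N), ∀ c : F,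
      Λ (c • ((B : Matrix ι ι F) * Y * ((B⁻¹ : GL ι F) : Matrix ι ι F))) ∈ W := by
    intro Y hY
    induction hY using Submodule.span_induction with
    | mem s hs =>
      intro c
      rw [hΛsmul c _ (hB s hs)]
      exact Submodule.smul_mem _ _ (Submodule.subset_span ⟨s, hs, rfl⟩)
    | zero => intro c; simp [hΛzero]
    | add x y _ _ hx hy =>
      intro c
      rw [mul_add, add_mul, smul_add, hΛadd]
      exact Submodule.add_mem _ (hx c) (hy c)
    | smul d x _ hx =>
      intro c
      rw [Matrix.mul_smul, Matrix.smul_mul, smul_smul]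
      exact hx (c * d)
  have htop : Submodule.span F (matrixSet N) = ⊤ := by
    rw [← spanAlg_toSubmodule, hspan]; simp
  -- (c) every matrix over F₀ is in W
  have hc : ∀ X : Matrix ι ι F, (∀ a b, X a b ∈ F₀) → X ∈ W := by
    intro X hX
    have h1 := hb (((B⁻¹ : GL ι F) : Matrix ι ι F) * X * (B : Matrix ι ι F)) (by rw [htop]; trivial) 1
    have h2 : (B : Matrix ι ι F) * (((B⁻¹ : GL ι F) : Matrix ι ι F) * X * (B : Matrix ι ι F)) *
        ((B⁻¹ : GL ι F) : Matrix ι ι F) = X := by
      simp [mul_assoc]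
    rw [h2, one_smul, hΛfix X hX] at h1
    exact h1
  -- (d) conjugation by g preserves W
  set g : GL ι F := B * h * B⁻¹ with hg
  have hd : ∀ X ∈ W, (g : Matrix ι ι F) * X * ((g⁻¹ : GL ι F) : Matrix ι ι F) ∈ W := by
    intro X hX
    induction hX using Submodule.span_induction with
    | mem x hx =>
      obtain ⟨s, ⟨y, hy, rfl⟩, rfl⟩ := hx
      apply Submodule.subset_span
      refine ⟨((h * y * h⁻¹ : GL ι F) : Matrix ι ι F), ⟨h * y * h⁻¹, hh y hy, rfl⟩, ?_⟩
      simp only [← Units.val_mul]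
      congr 1
      rw [hg]; group
    | zero => simp
    | add x y _ _ hx hy =>
      rw [mul_add, add_mul]; exact Submodule.add_mem _ hx hy
    | smul c x _ hx =>
      have : (g : Matrix ι ι F) * (c • x) * ((g⁻¹ : GL ι F) : Matrix ι ι F)
          = c • ((g : Matrix ι ι F) * x * ((g⁻¹ : GL ι F) : Matrix ι ι F)) := by
        rw [Subfield.smul_def, Subfield.smul_def, Matrix.mul_smul, Matrix.smul_mul]
      rw [this]
      exact Submodule.smul_mem _ _ hx
  -- (e) matrix units
  have hsingle : ∀ a b, (Matrix.single i j (1 : F)) a b ∈ F₀ := by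
    intro a b
    rw [Matrix.single_apply]
    split_ifs
    · exact F₀.one_mem
    · exact F₀.zero_mem
  have := ha _ (hd _ (hc _ hsingle)) k l
  rw [mul_single_mul_apply] at this
  exact this

/-- PK11: the normalizer of a spanning group written over a proper subfield lies in a subfield group of prime index -/
theorem PK11 [Fintype F] (N H : Subgroup (GL ι F)) (hspan : spanAlg N = ⊤) (hnorm : NormalizesGrp H N)
    (F₀ : Subfield F) (hF₀ : F₀ ≠ ⊤) (hreal : RealisableOver F₀ (matrixSet N)) :
    ∃ (F₁ : Subfield F) (r : ℕ) (P : GL ι F), r.Prime ∧ Fintype.card F = Nat.card F₁ ^ r ∧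
      H ≤ subfieldSubgroup F₁ P := by
  obtain ⟨F₁, r, hr, hle, hcard⟩ := exists_prime_index_subfield F₀ hF₀
  obtain ⟨B, hB⟩ := hreal
  refine ⟨F₁, r, B⁻¹, hr, hcard, ?_⟩
  intro h hh
  have hmem : B * h * B⁻¹ ∈ (Matrix.GeneralLinearGroup.map (F₁.subtype : F₁ →+* F)).range ⊔ scalars ι F :=
    mem_sup_of_entries F₁ _ (fun i j k l => hle (entries_mem N hspan F₀ B hB h (hnorm h hh) i j k l))
  refine ⟨B * h * B⁻¹, hmem, ?_⟩
  simp only [MulEquiv.coe_toMonoidHom, MulAut.conj_apply, inv_inv]
  group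

end Cfsg.Agent.Lib.Helper35_Asch_PK11
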