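import Mathlib
import Cfsg.Agent.Lib.Helper98_AschDefs
import Cfsg.Agent.Lib.Helper43_AltEven

/-!
# PK10 (a-e) of the S5630 packages (helper98): uniqueness of invariant forms

The normalizer of a spanning group fixing a form lies in the similarity group of the form
(bilinear, unitary, quadratic in odd characteristic, polar form in characteristic 2), and a
symplectic form lives in even dimension.
-/

set_option autoImplicit false

namespace Cfsg.Agent.Lib.Helper4_Asch_PK10

open Cfsg Cfsg.Geo Matrix Cfsg.Agent.Lib.Helper98_AschDefs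
open scoped Kronecker

variable {ι : Type} [Fintype ι] [DecidableEq ι] {F : Type*} [Field F]

/-- the `i`-th standard basis vector, in the shape produced by `LinearMap.pi_apply_eq_sum_univ` -/
def bv (i : ι) : ι → F := fun j => if i = j then 1 else 0

lemma bv_eq_single (i : ι) : (bv i : ι → F) = Pi.single i 1 := by
  funext j
  simp [bv, Pi.single_apply, eq_comm]

/-- the twisted Gram pairing `u ⬝ᵥ G *ᵥ (τ ∘ v)` -/
def rep (τ : F ≃+* F) (G : Matrix ι ι F) (u v : ι → F) : F := u ⬝ᵥ G *ᵥ (fun j => τ (v j))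

/-- the Gram matrix of `f` on the standard basis -/
def gram (f : (ι → F) → (ι → F) → F) : Matrix ι ι F := fun i j => f (bv i) (bv j)

lemma rep_mulVec (τ : F ≃+* F) (G x : Matrix ι ι F) (u v : ι → F) :
    rep τ G (x *ᵥ u) (x *ᵥ v) = rep τ (xᵀ * G * x.map τ) u v := by
  unfold rep
  have h1 : (fun j => τ ((x *ᵥ v) j)) = x.map τ *ᵥ (fun j => τ (v j)) := by
    funext j
    exact RingHom.map_mulVec (τ : F →+* F) x v j
  rw [h1, ← Matrix.vecMul_transpose, ← Matrix.dotProduct_mulVec, Matrix.mulVec_mulVec,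
    Matrix.mulVec_mulVec, Matrix.mul_assoc]

lemma rep_bv (τ : F ≃+* F) (G : Matrix ι ι F) (i j : ι) : rep τ G (bv i) (bv j) = G i j := by
  unfold rep
  have h1 : (fun k => τ ((bv j : ι → F) k)) = Pi.single j 1 := by
    funext k
    by_cases h : j = k
    · subst h; simp [bv]
    · simp [bv, h, Ne.symm h]
  rw [h1, bv_eq_single]
  simp

lemma rep_inj (τ : F ≃+* F) {A B : Matrix ι ι F} (h : ∀ u v, rep τ A u v = rep τ B u v) : A = B := by
  ext i j
  rw [← rep_bv τ A i j, ← rep_bv τ B i j]
  exact h _ _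

lemma rep_smul (τ : F ≃+* F) (c : F) (G : Matrix ι ι F) (u v : ι → F) :
    rep τ (c • G) u v = c * rep τ G u v := by
  unfold rep
  rw [Matrix.smul_mulVec, dotProduct_smul, smul_eq_mul]

/-- a form linear in the first variable whose values on basis vectors in the first slot are given
by the twisted Gram formula is the twisted Gram pairing -/
lemma rep_of (τ : F ≃+* F) (f : (ι → F) → (ι → F) → F)
    (hadd : ∀ x y v, f (x + y) v = f x v + f y v)
    (hsmul : ∀ (c : F) (x v : ι → F), f (c • x) v = c * f x v)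
    (h2 : ∀ i v, f (bv i) v = ∑ j, f (bv i) (bv j) * τ (v j)) :
    ∀ u v, f u v = rep τ (gram f) u v := by
  intro u v
  let L : (ι → F) →ₗ[F] F :=
    { toFun := fun x => f x v
      map_add' := fun x y => hadd x y v
      map_smul' := fun c x => by simpa using hsmul c x v }
  have h1 : f u v = ∑ i, u i • f (bv i) v := LinearMap.pi_apply_eq_sum_univ L u
  rw [h1]
  unfold rep gram
  simp only [dotProduct, Matrix.mulVec, smul_eq_mul]
  refine Finset.sum_congr rfl fun i _ => ?_
  rw [h2 i v]

/-- the Gram representation of a bilinear form -/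
lemma rep_of_bilinear (f : (ι → F) → (ι → F) → F) (hf : IsBilinearForm f) :
    ∀ u v, f u v = rep (RingEquiv.refl F) (gram f) u v := by
  apply rep_of (RingEquiv.refl F) f hf.add_left hf.smul_left
  intro i v
  let L : (ι → F) →ₗ[F] F :=
    { toFun := fun x => f (bv i) x
      map_add' := fun x y => hf.add_right (bv i) x y
      map_smul' := fun c x => by simpa using hf.smul_right c (bv i) x }
  have h1 : f (bv i) v = ∑ j, v j • f (bv i) (bv j) := LinearMap.pi_apply_eq_sum_univ L v
  rw [h1]
  refine Finset.sum_congr rfl fun j _ => ?_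
  simp [mul_comm]

/-- the Gram representation of a unitary form -/
lemma rep_of_unitary (σ : F ≃+* F) (f : (ι → F) → (ι → F) → F) (hf : IsUnitaryForm σ f) :
    ∀ u v, f u v = rep σ (gram f) u v := by
  apply rep_of σ f hf.add_left hf.smul_left
  intro i v
  let L : (ι → F) →ₗ[F] F :=
    { toFun := fun x => f x (bv i)
      map_add' := fun x y => hf.add_left x y (bv i)
      map_smul' := fun c x => by simpa using hf.smul_left c x (bv i) }
  have h1 : f v (bv i) = ∑ j, v j • f (bv j) (bv i) := LinearMap.pi_apply_eq_sum_univ L v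
  rw [hf.herm (bv i) v, h1, map_sum]
  refine Finset.sum_congr rfl fun j _ => ?_
  rw [smul_eq_mul, map_mul, ← hf.herm (bv i) (bv j), mul_comm]

/-- the core argument: a nondegenerate twisted Gram pairing fixed by a spanning group `P` is
scaled by every element normalizing `P` -/
theorem core (τ : F ≃+* F) (G : Matrix ι ι F) (f : (ι → F) → (ι → F) → F)
    (hf : ∀ u v, f u v = rep τ G u v) (hnd : IsNondegenerateForm f)
    (P H : Subgroup (GL ι F)) (hP : spanAlg P = ⊤) (hN : NormalizesGrp H P)
    (hfix : FixesForm (matrixSet P) f) : H ≤ similarityGroup f := by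
  classical
  -- `G` is invertible
  have hGdet : IsUnit G.det := by
    rw [isUnit_iff_ne_zero]
    intro hdet
    obtain ⟨w, hw0, hw⟩ := (Matrix.exists_mulVec_eq_zero_iff (M := G)).2 hdet
    have hv0 : (fun j => τ.symm (w j)) ≠ 0 := by
      intro h
      apply hw0
      funext j
      have := congrFun h j
      simpa using this
    obtain ⟨x, hx⟩ := (hnd _ hv0).1
    apply hx
    rw [hf]
    unfold rep
    simp only [RingEquiv.apply_symm_apply]
    rw [hw, dotProduct_zero]
  have hGG : G * G⁻¹ = 1 := Matrix.mul_nonsing_inv G hGdet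
  have hGG' : G⁻¹ * G = 1 := Matrix.nonsing_inv_mul G hGdet
  -- invariance under `P`
  have hPinv : ∀ x ∈ P, ((x : GL ι F) : Matrix ι ι F)ᵀ * G * ((x : GL ι F) : Matrix ι ι F).map τ = G := by
    intro x hx
    apply rep_inj τ
    intro u v
    rw [← rep_mulVec, ← hf, ← hf]
    exact hfix _ (coe_mem_matrixSet hx) u v
  have hmapinv : ∀ x : GL ι F, ((x : GL ι F) : Matrix ι ι F).map τ *
      ((x⁻¹ : GL ι F) : Matrix ι ι F).map τ = 1 := by
    intro x
    have h1 : ((x : GL ι F) : Matrix ι ι F) * ((x⁻¹ : GL ι F) : Matrix ι ι F) = 1 := by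
      rw [← Units.val_mul, mul_inv_cancel, Units.val_one]
    have h2 := congrArg (fun M : Matrix ι ι F => M.map (τ : F →+* F)) h1
    simp only [Matrix.map_mul] at h2
    rw [show (1 : Matrix ι ι F).map (τ : F →+* F) = 1 from Matrix.map_one _ (map_zero _) (map_one _)] at h2
    exact h2
  intro h hh
  obtain ⟨hm, hhm⟩ : ∃ hm : Matrix ι ι F, hm = ((h : GL ι F) : Matrix ι ι F) := ⟨_, rfl⟩
  obtain ⟨G', hG'⟩ : ∃ G' : Matrix ι ι F, G' = hmᵀ * G * hm.map τ := ⟨_, rfl⟩
  -- `G'` is also `P`-invariant
  have hP' : ∀ x ∈ P, ((x : GL ι F) : Matrix ι ι F)ᵀ * G' * ((x : GL ι F) : Matrix ι ι F).map τ = G' := by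
    intro x hx
    have hy := hPinv _ (hN h hh x hx)
    have hyh : ((h * x * h⁻¹ : GL ι F) : Matrix ι ι F) * hm = hm * ((x : GL ι F) : Matrix ι ι F) := by
      rw [hhm, ← Units.val_mul, ← Units.val_mul]
      congr 1
      group
    have e1 : ((x : GL ι F) : Matrix ι ι F)ᵀ * hmᵀ =
        hmᵀ * ((h * x * h⁻¹ : GL ι F) : Matrix ι ι F)ᵀ := by
      rw [← Matrix.transpose_mul, ← Matrix.transpose_mul, hyh]
    have e2 : hm.map τ * ((x : GL ι F) : Matrix ι ι F).map τ =
        ((h * x * h⁻¹ : GL ι F) : Matrix ι ι F).map τ * hm.map τ := by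
      have := congrArg (fun M : Matrix ι ι F => M.map (τ : F →+* F)) hyh
      simp only [Matrix.map_mul] at this
      exact this.symm
    calc ((x : GL ι F) : Matrix ι ι F)ᵀ * G' * ((x : GL ι F) : Matrix ι ι F).map τ
        = (((x : GL ι F) : Matrix ι ι F)ᵀ * hmᵀ) * G * (hm.map τ * ((x : GL ι F) : Matrix ι ι F).map τ) := by
          rw [hG']; simp only [Matrix.mul_assoc]
      _ = hmᵀ * (((h * x * h⁻¹ : GL ι F) : Matrix ι ι F)ᵀ * G *
            ((h * x * h⁻¹ : GL ι F) : Matrix ι ι F).map τ) * hm.map τ := by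
          rw [e1, e2]; simp only [Matrix.mul_assoc]
      _ = G' := by rw [hy, hG']
  -- `A := G' * G⁻¹` commutes with the transposes of `P`
  obtain ⟨A, hA⟩ : ∃ A : Matrix ι ι F, A = G' * G⁻¹ := ⟨_, rfl⟩
  have hAcomm : ∀ x ∈ P, ((x : GL ι F) : Matrix ι ι F)ᵀ * A = A * ((x : GL ι F) : Matrix ι ι F)ᵀ := by
    intro x hx
    have hYY0 := hmapinv x
    have h10 := hPinv x hx
    have h20 := hP' x hx
    obtain ⟨X, hX⟩ : ∃ X : Matrix ι ι F, X = ((x : GL ι F) : Matrix ι ι F)ᵀ := ⟨_, rfl⟩
    obtain ⟨Y, hY⟩ : ∃ Y : Matrix ι ι F, Y = ((x : GL ι F) : Matrix ι ι F).map τ := ⟨_, rfl⟩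
    obtain ⟨Y', hY'⟩ : ∃ Y' : Matrix ι ι F, Y' = ((x⁻¹ : GL ι F) : Matrix ι ι F).map τ := ⟨_, rfl⟩
    rw [← hX, ← hY] at h10 h20
    rw [← hY, ← hY'] at hYY0
    rw [← hX]
    have hYY : Y * Y' = 1 := hYY0
    have h1 : X * G * Y = G := h10
    have h2 : X * G' * Y = G' := h20
    have h3 : X * G' = G' * Y' := by
      calc X * G' = X * G' * (Y * Y') := by rw [hYY, Matrix.mul_one]
        _ = (X * G' * Y) * Y' := by simp only [Matrix.mul_assoc]
        _ = G' * Y' := by rw [h2]
    have h4 : X * G = G * Y' := by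
      calc X * G = X * G * (Y * Y') := by rw [hYY, Matrix.mul_one]
        _ = (X * G * Y) * Y' := by simp only [Matrix.mul_assoc]
        _ = G * Y' := by rw [h1]
    have h5 : G⁻¹ * X = Y' * G⁻¹ := by
      calc G⁻¹ * X = G⁻¹ * (X * G) * G⁻¹ := by
            rw [Matrix.mul_assoc, Matrix.mul_assoc, hGG, Matrix.mul_one]
        _ = G⁻¹ * (G * Y') * G⁻¹ := by rw [h4]
        _ = Y' * G⁻¹ := by rw [← Matrix.mul_assoc G⁻¹ G, hGG', Matrix.one_mul]
    calc X * A = (X * G') * G⁻¹ := by rw [hA, Matrix.mul_assoc]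
      _ = G' * (Y' * G⁻¹) := by rw [h3, Matrix.mul_assoc]
      _ = G' * (G⁻¹ * X) := by rw [h5]
      _ = A * X := by rw [hA, Matrix.mul_assoc]
  -- so `Aᵀ` is central
  have hcent : ∀ M : Matrix ι ι F, M * Aᵀ = Aᵀ * M := by
    have hle : spanAlg P ≤ Subalgebra.centralizer F {Aᵀ} := by
      apply Algebra.adjoin_le
      rintro _ ⟨x, hx, rfl⟩
      rw [SetLike.mem_coe, Subalgebra.mem_centralizer_iff]
      intro g hg
      rw [Set.mem_singleton_iff] at hg
      subst hg
      have := congrArg Matrix.transpose (hAcomm x hx)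
      rw [Matrix.transpose_mul, Matrix.transpose_mul, Matrix.transpose_transpose] at this
      exact this
    intro M
    have hM : M ∈ Subalgebra.centralizer F {Aᵀ} := hle (hP ▸ Algebra.mem_top)
    rw [Subalgebra.mem_centralizer_iff] at hM
    exact (hM Aᵀ rfl).symm
  obtain ⟨c, hc⟩ : ∃ c : F, Aᵀ = c • (1 : Matrix ι ι F) := by
    have : Aᵀ ∈ Set.range (Matrix.scalar ι) := by
      rw [Matrix.mem_range_scalar_iff_commute_single']
      intro i j
      exact hcent _
    obtain ⟨c, hc⟩ := this
    refine ⟨c, ?_⟩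
    rw [← hc, Matrix.smul_one_eq_diagonal]
    rfl
  have hAc : A = c • (1 : Matrix ι ι F) := by
    have := congrArg Matrix.transpose hc
    rw [Matrix.transpose_transpose, Matrix.transpose_smul, Matrix.transpose_one] at this
    exact this
  have hG'c : G' = c • G := by
    have : G' = A * G := by rw [hA, Matrix.mul_assoc, hGG', Matrix.mul_one]
    rw [this, hAc, Matrix.smul_mul, Matrix.one_mul]
  have hscale : ∀ u v, f (hm *ᵥ u) (hm *ᵥ v) = c * f u v := by
    intro u v
    rw [hf, rep_mulVec, ← hG', hG'c, rep_smul, ← hf]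
  rcases isEmpty_or_nonempty ι with hι | hι
  · refine ⟨1, fun u v => ?_⟩
    rw [Units.val_one, one_mul]
    congr 1 <;> exact Subsingleton.elim _ _
  · have hc0 : c ≠ 0 := by
      intro hc0
      obtain ⟨i⟩ := hι
      have hne : (bv i : ι → F) ≠ 0 := by
        intro h0
        have := congrFun h0 i
        simp [bv] at this
      have hne' : hm *ᵥ (bv i : ι → F) ≠ 0 := by
        intro h0
        apply hne
        have := congrArg (fun w => ((h⁻¹ : GL ι F) : Matrix ι ι F) *ᵥ w) h0
        simp only [Matrix.mulVec_mulVec, Matrix.mulVec_zero] at this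
        rw [hhm, ← Units.val_mul, inv_mul_cancel, Units.val_one, Matrix.one_mulVec] at this
        exact this
      obtain ⟨x, hx⟩ := (hnd _ hne').1
      apply hx
      have hxx : x = hm *ᵥ (((h⁻¹ : GL ι F) : Matrix ι ι F) *ᵥ x) := by
        rw [Matrix.mulVec_mulVec, hhm, ← Units.val_mul, mul_inv_cancel, Units.val_one,
          Matrix.one_mulVec]
      rw [hxx, hscale, hc0, zero_mul]
    refine ⟨Units.mk0 c hc0, fun u v => ?_⟩
    rw [← hhm]
    exact hscale u v

/-- PK10a: normalizer of a spanning group fixing a bilinear form lies in the similarity group -/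
theorem PK10a (P H : Subgroup (GL ι F)) (hP : spanAlg P = ⊤) (hN : NormalizesGrp H P)
    (f : (ι → F) → (ι → F) → F) (hf : IsBilinearForm f) (hnd : IsNondegenerateForm f)
    (hfix : FixesForm (matrixSet P) f) : H ≤ similarityGroup f :=
  core (RingEquiv.refl F) (gram f) f (rep_of_bilinear f hf) hnd P H hP hN hfix

/-- PK10b: the same for a unitary form -/
theorem PK10b (P H : Subgroup (GL ι F)) (hP : spanAlg P = ⊤) (hN : NormalizesGrp H P)
    (σ : F ≃+* F) (f : (ι → F) → (ι → F) → F) (hf : IsUnitaryForm σ f)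
    (hfix : FixesForm (matrixSet P) f) : H ≤ similarityGroup f :=
  core σ (gram f) f (rep_of_unitary σ f hf) hf.nondegenerate P H hP hN hfix

lemma fixesForm_polar {S : Set (Matrix ι ι F)} {Q : (ι → F) → F} (hfix : FixesQuadForm S Q) :
    FixesForm S (QuadraticMap.polar Q) := by
  intro s hs u v
  unfold QuadraticMap.polar
  rw [← Matrix.mulVec_add, hfix s hs, hfix s hs, hfix s hs]

lemma polar_self {Q : (ι → F) → F} (hQ : IsNondegenerateQuadraticForm Q) (v : ι → F) :
    QuadraticMap.polar Q v v = 2 * Q v := by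
  unfold QuadraticMap.polar
  have : v + v = (2 : F) • v := by rw [two_smul]
  rw [this, hQ.smul]
  ring

/-- PK10c: the same for a quadratic form in odd characteristic -/
theorem PK10c (P H : Subgroup (GL ι F)) (hP : spanAlg P = ⊤) (hN : NormalizesGrp H P)
    (Q : (ι → F) → F) (hQ : IsNondegenerateQuadraticForm Q) (h2 : (2 : F) ≠ 0)
    (hfix : FixesQuadForm (matrixSet P) Q) : H ≤ quadSimilarityGroup Q := by
  intro h hh
  obtain ⟨c, hc⟩ := PK10a P H hP hN (QuadraticMap.polar Q) hQ.polar_bilinear hQ.nondegenerate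
    (fixesForm_polar hfix) hh
  refine ⟨c, fun v => ?_⟩
  have h1 := hc v v
  rw [polar_self hQ, polar_self hQ] at h1
  apply mul_left_cancel₀ h2
  rw [h1]
  ring

/-- PK10d: in characteristic 2 the polar form of a fixed quadratic form is symplectic and the
normalizer is in its similarity group -/
theorem PK10d (P H : Subgroup (GL ι F)) (hP : spanAlg P = ⊤) (hN : NormalizesGrp H P)
    (Q : (ι → F) → F) (hQ : IsNondegenerateQuadraticForm Q) (h2 : (2 : F) = 0)
    (hfix : FixesQuadForm (matrixSet P) Q) :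
    IsSymplecticForm (QuadraticMap.polar Q) ∧ H ≤ similarityGroup (QuadraticMap.polar Q) := by
  refine ⟨⟨hQ.polar_bilinear, ?_, ?_, hQ.nondegenerate⟩,
    PK10a P H hP hN (QuadraticMap.polar Q) hQ.polar_bilinear hQ.nondegenerate (fixesForm_polar hfix)⟩
  · intro v w
    have hneg : ∀ a : F, -a = a := by
      intro a
      have : a + a = 0 := by rw [← two_mul, h2, zero_mul]
      exact neg_eq_of_add_eq_zero_left this
    rw [hneg, QuadraticMap.polar_comm]
  · intro v
    rw [polar_self hQ, h2, zero_mul]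

/-- PK10e: a symplectic form lives in even dimension -/
theorem PK10e (f : (ι → F) → (ι → F) → F) (hf : IsSymplecticForm f) : Even (Fintype.card ι) := by
  let B : LinearMap.BilinForm F (ι → F) :=
    LinearMap.mk₂ F f hf.bilinear.add_left (fun c m n => by simpa using hf.bilinear.smul_left c m n)
      hf.bilinear.add_right (fun c m n => by simpa using hf.bilinear.smul_right c m n)
  have hB : ∀ u v, B u v = f u v := fun u v => rfl
  have halt : B.IsAlt := fun v => by rw [hB]; exact hf.alternating v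
  have hnd : B.Nondegenerate := by
    refine ⟨?_, ?_⟩
    · intro x hx
      by_contra hx0
      obtain ⟨y, hy⟩ := (hf.nondegenerate x hx0).2
      exact hy (hx y)
    · intro x hx
      by_contra hx0
      obtain ⟨y, hy⟩ := (hf.nondegenerate x hx0).1
      exact hy (hx y)
  exact Cfsg.Agent.Lib.Helper43_AltEven.even_finrank_of_alt (Fintype.card ι) (ι → F) B halt hnd
    (by simp)

end Cfsg.Agent.Lib.Helper4_Asch_PK10
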