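import Mathlib
import Cfsg.Agent.Lib.Helper98_AschDefs

set_option autoImplicit false

namespace Cfsg.Agent.Lib.Helper52_Asch_PK7

open Cfsg Cfsg.Geo Matrix Cfsg.Agent.Lib.Helper98_AschDefs
open scoped commutatorElement

variable {ι : Type} [Fintype ι] [DecidableEq ι] {F : Type*} [Field F]

/-- a matrix commuting with a spanning group is scalar -/
lemma exists_smul_one_of_commute (R : Subgroup (GL ι F)) (hspan : spanAlg R = ⊤)
    (Z : Matrix ι ι F) (hZ : ∀ y ∈ R, (y : Matrix ι ι F) * Z = Z * (y : Matrix ι ι F)) :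
    ∃ c : F, Z = c • (1 : Matrix ι ι F) := by
  have hall : ∀ M : Matrix ι ι F, M * Z = Z * M := by
    intro M
    have hM : M ∈ spanAlg R := by rw [hspan]; trivial
    rw [mem_spanAlg_iff] at hM
    induction hM using Submodule.span_induction with
    | mem x hx =>
      obtain ⟨y, hy, rfl⟩ := hx
      exact hZ y hy
    | zero => simp
    | add x y _ _ hx hy => rw [add_mul, mul_add, hx, hy]
    | smul c x _ hx => rw [smul_mul_assoc, mul_smul_comm, hx]
  obtain ⟨c, hc⟩ := Matrix.mem_range_scalar_iff_commute_single'.mpr (fun i j => hall _)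
  refine ⟨c, ?_⟩
  rw [← hc, Matrix.smul_one_eq_diagonal]
  rfl

/-- a unit matrix commuting with a spanning group is in the scalars -/
lemma mem_scalars_of_commute (R : Subgroup (GL ι F)) (hspan : spanAlg R = ⊤)
    (z : GL ι F) (hz : ∀ y ∈ R, (y : Matrix ι ι F) * (z : Matrix ι ι F) = (z : Matrix ι ι F) * (y : Matrix ι ι F)) :
    z ∈ scalars ι F := by
  rw [mem_scalars_iff]
  obtain ⟨c, hc⟩ := exists_smul_one_of_commute R hspan _ hz
  by_cases h0 : c = 0
  · have h1 : (1 : Matrix ι ι F) = 0 := by
      have : ((z⁻¹ * z : GL ι F) : Matrix ι ι F) = 0 := by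
        rw [Units.val_mul, hc, h0, zero_smul, mul_zero]
      simpa using this
    refine ⟨1, ?_⟩
    rw [hc, h0, zero_smul, Units.val_one, one_smul, h1]
  · exact ⟨Units.mk0 c h0, hc⟩

/-- conjugation inside a class-2 group multiplies by a scalar -/
lemma conj_eq_smul (R : Subgroup (GL ι F)) (hcomm : ⁅R, R⁆ ≤ scalars ι F)
    {y x : GL ι F} (hy : y ∈ R) (hx : x ∈ R) :
    ∃ c : F, c ≠ 0 ∧ (y : Matrix ι ι F) * (x : Matrix ι ι F) = c • ((x : Matrix ι ι F) * (y : Matrix ι ι F)) := by
  have h1 : ⁅y, x⁆ ∈ scalars ι F := hcomm (Subgroup.commutator_mem_commutator hy hx)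
  rw [mem_scalars_iff] at h1
  obtain ⟨c, hc⟩ := h1
  refine ⟨c, c.ne_zero, ?_⟩
  have h2 : y * x = ⁅y, x⁆ * (x * y) := by
    rw [commutatorElement_def]; group
  have h3 := congrArg (fun g : GL ι F => (g : Matrix ι ι F)) h2
  simp only [Units.val_mul] at h3
  rw [h3, hc, smul_mul_assoc, one_mul]

/-- PK7a: elements of a class-2 spanning group in distinct cosets of the scalars are linearly independent -/
theorem PK7a [Nonempty ι] (R : Subgroup (GL ι F)) (hspan : spanAlg R = ⊤) (hcomm : ⁅R, R⁆ ≤ scalars ι F)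
    {κ : Type*} (x : κ → GL ι F) (hx : ∀ i, x i ∈ R) (hne : ∀ i j, i ≠ j → (x i)⁻¹ * x j ∉ scalars ι F) :
    LinearIndependent F (fun i => ((x i : GL ι F) : Matrix ι ι F)) := by
  classical
  rw [linearIndependent_iff']
  intro s
  induction s using Finset.induction_on with
  | empty => intro g _ i hi; simp at hi
  | insert a s has ih =>
    intro g hg
    -- key: for every i ∈ s, g i = 0
    have key : ∀ i ∈ s, g i = 0 := by
      intro i hi
      by_contra hgi
      have hia : a ≠ i := fun h => has (h ▸ hi)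
      apply hne a i hia
      apply mem_scalars_of_commute R hspan
      intro y hy
      have hlam : ∀ j, ∃ c : F, c ≠ 0 ∧ (y : Matrix ι ι F) * (x j : Matrix ι ι F) =
          c • ((x j : Matrix ι ι F) * (y : Matrix ι ι F)) := fun j => conj_eq_smul R hcomm hy (hx j)
      choose lam hlam0 hlam using hlam
      -- conjugated relation
      have hrel1 : ∑ j ∈ insert a s, (g j * lam j) • (x j : Matrix ι ι F) = 0 := by
        have h1 : (y : Matrix ι ι F) * (∑ j ∈ insert a s, g j • (x j : Matrix ι ι F)) *
            ((y⁻¹ : GL ι F) : Matrix ι ι F) = 0 := by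
          rw [hg, mul_zero, zero_mul]
        rw [Finset.mul_sum, Finset.sum_mul] at h1
        rw [← h1]
        apply Finset.sum_congr rfl
        intro j _
        rw [mul_smul_comm, hlam j, smul_mul_assoc, smul_mul_assoc, mul_assoc, ← Units.val_mul,
          mul_inv_cancel, Units.val_one, mul_one, smul_smul]
      have hrel2 : ∑ j ∈ insert a s, (g j * lam a) • (x j : Matrix ι ι F) = 0 := by
        have h1 : lam a • (∑ j ∈ insert a s, g j • (x j : Matrix ι ι F)) = 0 := by
          rw [hg, smul_zero]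
        rw [Finset.smul_sum] at h1
        rw [← h1]
        apply Finset.sum_congr rfl
        intro j _
        rw [smul_smul, mul_comm]
      have hrel3 : ∑ j ∈ s, (g j * (lam j - lam a)) • (x j : Matrix ι ι F) = 0 := by
        have h1 : ∑ j ∈ insert a s, (g j * (lam j - lam a)) • (x j : Matrix ι ι F) = 0 := by
          have : ∀ j, (g j * (lam j - lam a)) • (x j : Matrix ι ι F) =
              (g j * lam j) • (x j : Matrix ι ι F) - (g j * lam a) • (x j : Matrix ι ι F) := by
            intro j; rw [← sub_smul, mul_sub]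
          simp_rw [this]
          rw [Finset.sum_sub_distrib, hrel1, hrel2, sub_zero]
        rw [Finset.sum_insert has] at h1
        simpa using h1
      have h4 := ih _ hrel3 i hi
      have h5 : lam i = lam a := by
        rcases mul_eq_zero.mp h4 with h | h
        · exact absurd h hgi
        · exact sub_eq_zero.mp h
      -- now y commutes with (x a)⁻¹ * x i
      have e1 := hlam i
      have e2 := hlam a
      rw [h5] at e1
      -- X_a * (Y * Z) = X_a * (Z * Y) after scaling
      have hXa : ((x a)⁻¹ : GL ι F).val * (x a).val = 1 := by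
        rw [← Units.val_mul, inv_mul_cancel, Units.val_one]
      have hXa' : (x a).val * ((x a)⁻¹ : GL ι F).val = 1 := by
        rw [← Units.val_mul, mul_inv_cancel, Units.val_one]
      have h6 : (x a).val * ((y : Matrix ι ι F) * (((x a)⁻¹ * x i : GL ι F) : Matrix ι ι F)) =
          (x a).val * ((((x a)⁻¹ * x i : GL ι F) : Matrix ι ι F) * (y : Matrix ι ι F)) := by
        have h7 : lam a • ((x a).val * ((y : Matrix ι ι F) * (((x a)⁻¹ * x i : GL ι F) : Matrix ι ι F))) =
            lam a • ((x a).val * ((((x a)⁻¹ * x i : GL ι F) : Matrix ι ι F) * (y : Matrix ι ι F))) := by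
          rw [Units.val_mul]
          calc lam a • ((x a).val * ((y : Matrix ι ι F) * (((x a)⁻¹ : GL ι F).val * (x i).val)))
              = (lam a • ((x a).val * (y : Matrix ι ι F))) * (((x a)⁻¹ : GL ι F).val * (x i).val) := by
                rw [smul_mul_assoc, mul_assoc]
            _ = ((y : Matrix ι ι F) * (x a).val) * (((x a)⁻¹ : GL ι F).val * (x i).val) := by rw [e2]
            _ = (y : Matrix ι ι F) * (((x a).val * ((x a)⁻¹ : GL ι F).val) * (x i).val) := by
                simp only [mul_assoc]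
            _ = (y : Matrix ι ι F) * (x i).val := by rw [hXa', one_mul]
            _ = lam a • ((x i).val * (y : Matrix ι ι F)) := e1
            _ = lam a • ((((x a).val * ((x a)⁻¹ : GL ι F).val) * (x i).val) * (y : Matrix ι ι F)) := by
                rw [hXa', one_mul]
            _ = lam a • ((x a).val * ((((x a)⁻¹ : GL ι F).val * (x i).val) * (y : Matrix ι ι F))) := by
                simp only [mul_assoc]
        exact smul_right_injective _ (hlam0 a) h7
      have h8 := congrArg (fun M => ((x a)⁻¹ : GL ι F).val * M) h6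
      simp only [← mul_assoc, hXa, one_mul] at h8
      simpa [mul_assoc] using h8
    intro i hi
    rcases Finset.mem_insert.mp hi with rfl | hi
    · rw [Finset.sum_insert has] at hg
      have h0 : ∑ j ∈ s, g j • (x j : Matrix ι ι F) = 0 := by
        apply Finset.sum_eq_zero
        intro j hj
        rw [key j hj, zero_smul]
      rw [h0, add_zero] at hg
      by_contra hgi
      have h1 : (x i : Matrix ι ι F) = 0 := by
        rcases smul_eq_zero.mp hg with h | h
        · exact absurd h hgi
        · exact h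
      have h2 : (1 : Matrix ι ι F) = 0 := by
        have : (((x i)⁻¹ * x i : GL ι F) : Matrix ι ι F) = 0 := by
          rw [Units.val_mul, h1, mul_zero]
        simp at this
      exact one_ne_zero h2
    · exact key i hi

/-- coset representatives of the scalars in `R` -/
lemma exists_reps [Nonempty ι] (R : Subgroup (GL ι F)) (hspan : spanAlg R = ⊤) (hcomm : ⁅R, R⁆ ≤ scalars ι F) :
    ∃ x : (R ⧸ (scalars ι F).subgroupOf R) → GL ι F, (∀ q, x q ∈ R) ∧
      (∀ q q', q ≠ q' → (x q)⁻¹ * x q' ∉ scalars ι F) ∧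
      (∀ y ∈ R, ∃ q, ∃ c : Fˣ, (y : Matrix ι ι F) = (c : F) • (x q : Matrix ι ι F)) ∧
      LinearIndependent F (fun q => ((x q : GL ι F) : Matrix ι ι F)) ∧
      ⊤ ≤ Submodule.span F (Set.range (fun q => ((x q : GL ι F) : Matrix ι ι F))) := by
  classical
  let x : (R ⧸ (scalars ι F).subgroupOf R) → GL ι F := fun q => ((Quotient.out q : R) : GL ι F)
  have hxR : ∀ q, x q ∈ R := fun q => (Quotient.out q : R).2
  have hne : ∀ q q', q ≠ q' → (x q)⁻¹ * x q' ∉ scalars ι F := by
    intro q q' hqq' hmem
    apply hqq'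
    have h1 : ((Quotient.out q : R)⁻¹ * (Quotient.out q' : R)) ∈ (scalars ι F).subgroupOf R := by
      rw [Subgroup.mem_subgroupOf]
      simpa using hmem
    have h2 : (QuotientGroup.mk (Quotient.out q : R) : R ⧸ (scalars ι F).subgroupOf R) =
        QuotientGroup.mk (Quotient.out q' : R) := QuotientGroup.eq.mpr h1
    have h3 : (QuotientGroup.mk (Quotient.out q : R) : R ⧸ (scalars ι F).subgroupOf R) = q :=
      Quotient.out_eq' q
    have h4 : (QuotientGroup.mk (Quotient.out q' : R) : R ⧸ (scalars ι F).subgroupOf R) = q' :=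
      Quotient.out_eq' q'
    rw [← h3, ← h4, h2]
  have hrep : ∀ y ∈ R, ∃ q, ∃ c : Fˣ, (y : Matrix ι ι F) = (c : F) • (x q : Matrix ι ι F) := by
    intro y hy
    refine ⟨QuotientGroup.mk (⟨y, hy⟩ : R), ?_⟩
    have h3 : (QuotientGroup.mk (Quotient.out (QuotientGroup.mk (⟨y, hy⟩ : R) :
        R ⧸ (scalars ι F).subgroupOf R) : R) : R ⧸ (scalars ι F).subgroupOf R) =
        QuotientGroup.mk (⟨y, hy⟩ : R) := Quotient.out_eq' _
    have h1 := QuotientGroup.eq.mp h3
    rw [Subgroup.mem_subgroupOf] at h1
    rw [mem_scalars_iff] at h1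
    obtain ⟨c, hc⟩ := h1
    refine ⟨c, ?_⟩
    have h5 : y = x (QuotientGroup.mk (⟨y, hy⟩ : R)) *
        ((x (QuotientGroup.mk (⟨y, hy⟩ : R)))⁻¹ * y) := by group
    have h6 := congrArg (fun g : GL ι F => (g : Matrix ι ι F)) h5
    simp only [Units.val_mul] at h6
    have h7 : ((x (QuotientGroup.mk (⟨y, hy⟩ : R)))⁻¹ : GL ι F).val * y.val = (c : F) • (1 : Matrix ι ι F) := by
      rw [← hc]; simp [x]
    rw [h7, mul_smul_comm, mul_one] at h6
    exact h6
  refine ⟨x, hxR, hne, hrep, PK7a R hspan hcomm x hxR hne, ?_⟩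
  intro M _
  have hM : M ∈ spanAlg R := by rw [hspan]; trivial
  rw [mem_spanAlg_iff] at hM
  refine Submodule.span_le.mpr ?_ hM
  rintro _ ⟨y, hy, rfl⟩
  obtain ⟨q, c, hc⟩ := hrep y hy
  change (y : Matrix ι ι F) ∈ Submodule.span F _
  rw [hc]
  exact Submodule.smul_mem _ _ (Submodule.subset_span ⟨q, rfl⟩)

/-- PK7: the index of the scalars in a class-2 spanning group is `n²` -/
theorem PK7 [Finite F] [Nonempty ι] (R : Subgroup (GL ι F)) (hspan : spanAlg R = ⊤) (hcomm : ⁅R, R⁆ ≤ scalars ι F) :
    Nat.card R = Nat.card (R ⊓ scalars ι F : Subgroup (GL ι F)) * Fintype.card ι ^ 2 := by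
  classical
  obtain ⟨x, hxR, hne, hrep, hli, hsp⟩ := exists_reps R hspan hcomm
  let b := Module.Basis.mk hli hsp
  have h1 : Module.finrank F (Matrix ι ι F) = Nat.card (R ⧸ (scalars ι F).subgroupOf R) :=
    Module.finrank_eq_nat_card_basis b
  rw [Module.finrank_matrix] at h1
  simp only [Module.finrank_self, mul_one] at h1
  have h2 := Subgroup.card_eq_card_quotient_mul_card_subgroup ((scalars ι F).subgroupOf R)
  rw [h2, ← h1]
  have h3 : Nat.card ((scalars ι F).subgroupOf R) = Nat.card (R ⊓ scalars ι F : Subgroup (GL ι F)) := by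
    rw [← Subgroup.inf_subgroupOf_left]
    exact Nat.card_congr (Subgroup.subgroupOfEquivOfLe inf_le_left).toEquiv
  rw [h3, sq, mul_comm]

end Cfsg.Agent.Lib.Helper52_Asch_PK7
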