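import Mathlib
import Cfsg.Agent.Lib.Helper98_AschDefs
import Cfsg.Agent.Lib.Helper52_Asch_PK7
import Cfsg.Agent.Lib.Helper4_Asch_PK10
import Cfsg.Agent.Lib.Helper35_Asch_PK11

/-!
# S5630 package PKP3 (helper3): a single perfect factor

`N ≤ H` perfect, `H`-normalized, spanning, not scalar, and minimal among its own normalized
non-scalar subgroups.  Then `H` lies in class 5 or class 8, or `H` is in the residual class
(with core `N`).
-/

set_option autoImplicit false

namespace Cfsg.Agent.Lib.Helper3_Asch_PKP3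

open Cfsg Cfsg.Geo Matrix Cfsg.Agent.Lib.Helper98_AschDefs
open scoped commutatorElement

variable {ι : Type} [Fintype ι] [DecidableEq ι] {F : Type*} [Field F]

/-- scalars are central in `GL` -/
lemma scalars_comm {z : GL ι F} (hz : z ∈ scalars ι F) (g : GL ι F) : z * g = g * z := by
  rw [mem_scalars_iff] at hz
  obtain ⟨c, hc⟩ := hz
  apply Units.ext
  rw [Units.val_mul, Units.val_mul, hc, smul_mul_assoc, mul_smul_comm, one_mul, mul_one]

/-- a spanning group acts absolutely irreducibly -/
lemma absIrred_of_span (N : Subgroup (GL ι F)) (hspan : spanAlg N = ⊤) :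
    ActsAbsolutelyIrreducibly (matrixSet N) := by
  constructor
  · intro W hW
    have hall : ∀ M : Matrix ι ι F, W.map (Matrix.toLin' M) ≤ W := by
      intro M
      have hM : M ∈ spanAlg N := by rw [hspan]; trivial
      rw [mem_spanAlg_iff] at hM
      induction hM using Submodule.span_induction with
      | mem x hx => exact hW x hx
      | zero =>
        rintro _ ⟨w, _, rfl⟩
        simp
      | add x y _ _ hx hy =>
        rintro _ ⟨w, hw, rfl⟩
        rw [map_add, LinearMap.add_apply]
        exact W.add_mem (hx ⟨w, hw, rfl⟩) (hy ⟨w, hw, rfl⟩)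
      | smul c x _ hx =>
        rintro _ ⟨w, hw, rfl⟩
        rw [map_smul, LinearMap.smul_apply]
        exact W.smul_mem c (hx ⟨w, hw, rfl⟩)
    by_cases hbot : W = ⊥
    · exact Or.inl hbot
    right
    obtain ⟨w, hw, hw0⟩ := (Submodule.ne_bot_iff W).mp hbot
    rw [eq_top_iff]
    intro v _
    -- a matrix sending `w` to `v`
    obtain ⟨i, hi⟩ : ∃ i, w i ≠ 0 := by
      by_contra hcon
      push Not at hcon
      exact hw0 (funext hcon)
    have := hall (Matrix.of fun a b => if b = i then v a * (w i)⁻¹ else 0) ⟨w, hw, rfl⟩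
    convert this using 1
    ext a
    simp [Matrix.mulVec, dotProduct, hi]
  · intro M hM
    exact Helper52_Asch_PK7.exists_smul_one_of_commute N hspan M
      (fun y hy => (hM _ (coe_mem_matrixSet hy)).symm)

/-- the quotient of a minimal non-scalar group by its scalars is simple -/
lemma simple_quot (N : Subgroup (GL ι F)) (hNZ : ¬ N ≤ scalars ι F)
    (hsimple : ∀ T : Subgroup (GL ι F), T ≤ N → NormalizesGrp N T → T = N ∨ T ≤ scalars ι F) :
    IsSimpleGroup (N ⧸ (scalars ι F).subgroupOf N) := by
  have hnt : Nontrivial (N ⧸ (scalars ι F).subgroupOf N) := by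
    obtain ⟨x, hxN, hxZ⟩ := SetLike.not_le_iff_exists.mp hNZ
    apply nontrivial_of_ne (QuotientGroup.mk' ((scalars ι F).subgroupOf N) ⟨x, hxN⟩) 1
    intro h
    exact hxZ ((QuotientGroup.eq_one_iff (⟨x, hxN⟩ : N)).mp h)
  refine { toNontrivial := hnt, eq_bot_or_eq_top_of_normal := ?_ }
  intro K hK
  set T' : Subgroup N := K.comap (QuotientGroup.mk' ((scalars ι F).subgroupOf N)) with hT'
  have hT'n : T'.Normal := hK.comap _
  have hTN : T'.map N.subtype ≤ N := Subgroup.map_subtype_le T'
  have hnorm : NormalizesGrp N (T'.map N.subtype) := by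
    rintro h hh _ ⟨x, hx, rfl⟩
    exact ⟨(⟨h, hh⟩ : N) * x * (⟨h, hh⟩ : N)⁻¹, hT'n.conj_mem x hx (⟨h, hh⟩ : N), rfl⟩
  rcases hsimple _ hTN hnorm with h | h
  · right
    rw [eq_top_iff]
    intro k _
    obtain ⟨x, rfl⟩ := QuotientGroup.mk'_surjective ((scalars ι F).subgroupOf N) k
    have hx : (x : GL ι F) ∈ T'.map N.subtype := by rw [h]; exact x.2
    obtain ⟨y, hy, hyx⟩ := hx
    have : y = x := Subtype.ext hyx
    rw [this] at hy
    exact hy
  · left
    rw [eq_bot_iff]
    intro k hk
    obtain ⟨x, rfl⟩ := QuotientGroup.mk'_surjective ((scalars ι F).subgroupOf N) k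
    have hx : x ∈ T' := hk
    have hx2 : (x : GL ι F) ∈ scalars ι F := h ⟨x, hx, rfl⟩
    rw [Subgroup.mem_bot]
    exact (QuotientGroup.eq_one_iff x).mpr hx2

/-- the quotient of a perfect non-scalar group by its scalars is not commutative -/
lemma nonabelian_quot (N : Subgroup (GL ι F)) (hNZ : ¬ N ≤ scalars ι F) (hperf : ⁅N, N⁆ = N) :
    ¬ IsMulCommutative (N ⧸ (scalars ι F).subgroupOf N) := by
  intro hc
  apply hNZ
  rw [← hperf, Subgroup.commutator_le]
  intro x hx y hy
  have h1 : ((⁅(⟨x, hx⟩ : N), ⟨y, hy⟩⁆ : N) : N ⧸ (scalars ι F).subgroupOf N) = 1 := by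
    rw [commutatorElement_def]
    simp only [QuotientGroup.mk_mul, QuotientGroup.mk_inv]
    rw [hc.is_comm.comm ((⟨x, hx⟩ : N) : N ⧸ (scalars ι F).subgroupOf N) _]
    group
  rw [QuotientGroup.eq_one_iff] at h1
  exact h1

lemma commutator_central_left {G : Type*} [Group G] (a x y : G) (ha : ∀ g, a * g = g * a) :
    ⁅a * x, y⁆ = ⁅x, y⁆ := by
  calc ⁅a * x, y⁆ = a * (x * y * x⁻¹) * a⁻¹ * y⁻¹ := by rw [commutatorElement_def]; group
    _ = (x * y * x⁻¹) * a * a⁻¹ * y⁻¹ := by rw [ha]
    _ = ⁅x, y⁆ := by rw [commutatorElement_def]; group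

lemma commutator_central_right {G : Type*} [Group G] (b x y : G) (hb : ∀ g, b * g = g * b) :
    ⁅x, b * y⁆ = ⁅x, y⁆ := by
  rw [← commutatorElement_inv (b * y) x, commutator_central_left b y x hb, commutatorElement_inv]

/-- an element centralizing a perfect spanning group modulo scalars is scalar -/
lemma centralizer_scalar (N : Subgroup (GL ι F)) (hperf : ⁅N, N⁆ = N) (hspan : spanAlg N = ⊤)
    (h : GL ι F) (hh : ∀ x ∈ N, h * x * h⁻¹ * x⁻¹ ∈ scalars ι F) : h ∈ scalars ι F := by
  have hcent : N ≤ Subgroup.centralizer {h} := by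
    rw [← hperf, Subgroup.commutator_le]
    intro x hx y hy
    rw [Subgroup.mem_centralizer_iff]
    intro g hg
    rw [Set.mem_singleton_iff] at hg
    subst hg
    have hcx := hh x hx
    have hcy := hh y hy
    have h1 : g * ⁅x, y⁆ * g⁻¹ = ⁅(g * x * g⁻¹ * x⁻¹) * x, (g * y * g⁻¹ * y⁻¹) * y⁆ := by
      simp only [commutatorElement_def]; group
    rw [commutator_central_left _ _ _ (fun a => scalars_comm hcx a),
      commutator_central_right _ _ _ (fun a => scalars_comm hcy a)] at h1
    calc g * ⁅x, y⁆ = g * ⁅x, y⁆ * g⁻¹ * g := by group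
      _ = ⁅x, y⁆ * g := by rw [h1]
  apply Helper52_Asch_PK7.mem_scalars_of_commute N hspan h
  intro y hy
  have := hcent hy
  rw [Subgroup.mem_centralizer_iff] at this
  have h2 := this h (Set.mem_singleton h)
  have h3 := congrArg (fun g : GL ι F => (g : Matrix ι ι F)) h2
  simpa using h3.symm

/-- **PKP3**: a single factor: residual class, or class 5 / class 8 -/
theorem PKP3 [Fintype F] (n : ℕ) (hn : 3 ≤ n) (H N : Subgroup (GL (Fin n) F)) (hNH : N ≤ H)
    (hnorm : NormalizesGrp H N) (hNZ : ¬ N ≤ scalars (Fin n) F) (hperf : ⁅N, N⁆ = N) (hspan : spanAlg N = ⊤)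
    (hsimple : ∀ T : Subgroup (GL (Fin n) F), T ≤ N → NormalizesGrp N T → T = N ∨ T ≤ scalars (Fin n) F) :
    InClass n H ∨ InLinearResidualClass H := by
  -- class 5
  by_cases hreal : ∃ F₀ : Subfield F, F₀ ≠ ⊤ ∧ RealisableOver F₀ (matrixSet N)
  · obtain ⟨F₀, hF₀, hr⟩ := hreal
    obtain ⟨F₁, r, P, hrp, hcard, hle⟩ := Helper35_Asch_PK11.PK11 N H hspan hnorm F₀ hF₀ hr
    left
    refine ⟨subfieldSubgroup F₁ P, ?_, hle⟩
    right; right; right; right; right; right; left
    exact ⟨F₁, r, P, hrp, hcard, rfl⟩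
  -- quadratic forms
  by_cases hquad : ∃ Q : (Fin n → F) → F, IsNondegenerateQuadraticForm Q ∧ FixesQuadForm (matrixSet N) Q
  · obtain ⟨Q, hQ, hfix⟩ := hquad
    left
    by_cases h2 : (2 : F) = 0
    · obtain ⟨hsym, hle⟩ := Helper4_Asch_PK10.PK10d N H hspan hnorm Q hQ h2 hfix
      have hev : Even n := by
        have := Helper4_Asch_PK10.PK10e _ hsym
        rwa [Fintype.card_fin] at this
      have h4 : 4 ≤ n := by
        obtain ⟨k, hk⟩ := hev
        omega
      refine ⟨similarityGroup (QuadraticMap.polar Q), ?_, hle⟩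
      right; right; right; right; right; right; right; right; right; left
      exact ⟨_, hsym, hev, h4, rfl⟩
    · have hle := Helper4_Asch_PK10.PK10c N H hspan hnorm Q hQ h2 hfix
      have hodd : Odd (Fintype.card F) := by
        rw [Nat.odd_iff]
        apply FiniteField.odd_card_of_char_ne_two
        intro hc
        apply h2
        have := ringChar.Nat.cast_ringChar (R := F)
        rw [hc] at this
        exact_mod_cast this
      refine ⟨quadSimilarityGroup Q, ?_, hle⟩
      right; right; right; right; right; right; right; right; right; right; right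
      exact ⟨Q, hQ, hodd, hn, rfl⟩
  -- symplectic forms
  by_cases hsymp : ∃ f : (Fin n → F) → (Fin n → F) → F, IsSymplecticForm f ∧ FixesForm (matrixSet N) f
  · obtain ⟨f, hf, hfix⟩ := hsymp
    left
    have hle := Helper4_Asch_PK10.PK10a N H hspan hnorm f hf.bilinear hf.nondegenerate hfix
    have hev : Even n := by
      have := Helper4_Asch_PK10.PK10e _ hf
      rwa [Fintype.card_fin] at this
    have h4 : 4 ≤ n := by
      obtain ⟨k, hk⟩ := hev
      omega
    refine ⟨similarityGroup f, ?_, hle⟩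
    right; right; right; right; right; right; right; right; right; left
    exact ⟨_, hf, hev, h4, rfl⟩
  -- unitary forms
  by_cases hunit : ∃ (σ : F ≃+* F) (f : (Fin n → F) → (Fin n → F) → F),
      IsUnitaryForm σ f ∧ FixesForm (matrixSet N) f
  · obtain ⟨σ, f, hf, hfix⟩ := hunit
    left
    have hle := Helper4_Asch_PK10.PK10b N H hspan hnorm σ f hf hfix
    refine ⟨similarityGroup f, ?_, hle⟩
    right; right; right; right; right; right; right; right; right; right; left
    exact ⟨σ, f, hf, hn, rfl⟩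
  -- the residual class
  right
  refine ⟨N, ?_, hquad, hsymp, hunit⟩
  exact
    { le := hNH
      normal := hnorm
      perfect := hperf
      simple := simple_quot N hNZ hsimple
      nonabelian := nonabelian_quot N hNZ hperf
      centralizer_scalar := fun h _ hh => centralizer_scalar N hperf hspan h hh
      absIrred := absIrred_of_span N hspan
      no_subfield := fun F₀ hF₀ hr => hreal ⟨F₀, hF₀, hr⟩ }

end Cfsg.Agent.Lib.Helper3_Asch_PKP3
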