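/-
S5673 (helper29): the small packages OP8, OG1, OG4 of pending/helper29/S5673_packages.lean.txt, and `two_ne_zero_of_odd_card`.
-/
import Mathlib
import Cfsg.Agent.Lib.Helper98_AschDefs
import Cfsg.Agent.Lib.Helper29_OrthOddDefs
import Cfsg.Agent.Lib.Helper3_Asch_PKP3

set_option autoImplicit false

namespace Cfsg.Agent.Lib.Helper29_OrthOdd_Glue

open Cfsg Cfsg.Geo Matrix Cfsg.Agent.Lib.Helper98_AschDefs Cfsg.Agent.Lib.Helper29_OrthOddDefs
open scoped Kronecker MatrixGroups

variable {F : Type*} [Field F]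

/-- odd cardinality forces `2 ≠ 0` -/
theorem two_ne_zero_of_odd_card [Fintype F] (hodd : Odd (Fintype.card F)) : (2 : F) ≠ 0 := by
  intro h
  have hchar : ringChar F = 2 := by
    have : ringChar F ∣ 2 := by
      apply ringChar.dvd
      exact_mod_cast h
    rcases (Nat.dvd_prime Nat.prime_two).mp this with h1 | h1
    · exact absurd h1 (CharP.ringChar_ne_one)
    · exact h1
  have heven : Even (Fintype.card F) := by
    have := FiniteField.even_card_iff_char_two.mp hchar
    rw [Nat.even_iff]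
    exact this
  exact (Nat.not_even_iff_odd.mpr hodd) heven

/-- OP8: the residual core conditions for a perfect, spanning, minimal normal subgroup (no forms) -/
theorem OP8 {ι : Type} [Fintype ι] [DecidableEq ι] [Fintype F] (H N : Subgroup (GL ι F)) (hNH : N ≤ H)
    (hnorm : NormalizesGrp H N) (hNZ : ¬ N ≤ scalars ι F) (hperf : ⁅N, N⁆ = N) (hspan : spanAlg N = ⊤)
    (hsimple : ∀ T : Subgroup (GL ι F), T ≤ N → NormalizesGrp N T → T = N ∨ T ≤ scalars ι F)
    (hnr : ∀ F₀ : Subfield F, F₀ ≠ ⊤ → ¬ RealisableOver F₀ (matrixSet N)) :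
    IsResidualCore H N where
  le := hNH
  normal := hnorm
  perfect := hperf
  simple := Cfsg.Agent.Lib.Helper3_Asch_PKP3.simple_quot N hNZ hsimple
  nonabelian := Cfsg.Agent.Lib.Helper3_Asch_PKP3.nonabelian_quot N hNZ hperf
  centralizer_scalar := fun h _ hh => Cfsg.Agent.Lib.Helper3_Asch_PKP3.centralizer_scalar N hperf hspan h hh
  absIrred := Cfsg.Agent.Lib.Helper3_Asch_PKP3.absIrred_of_span N hspan
  no_subfield := hnr

/-- glue G1: an irreducible group in dimension at least 2 is not scalar -/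
theorem OG1 {ι : Type} [Fintype ι] [DecidableEq ι] (H : Subgroup (GL ι F)) (hcard : 2 ≤ Fintype.card ι)
    (hirr : ActsIrreducibly (matrixSet H)) : ¬ H ≤ scalars ι F := by
  intro hle
  obtain ⟨i, j, hij⟩ := Fintype.exists_pair_of_one_lt_card (by omega : 1 < Fintype.card ι)
  let W : Submodule F (ι → F) := Submodule.span F {Pi.single i (1 : F)}
  have hinv : ∀ s ∈ matrixSet H, W.map (Matrix.toLin' s) ≤ W := by
    rintro _ ⟨g, hg, rfl⟩
    obtain ⟨c, hc⟩ := (mem_scalars_iff g).mp (hle hg)
    rintro _ ⟨w, hw, rfl⟩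
    have : Matrix.toLin' ((g : Matrix ι ι F)) w = (c : F) • w := by
      rw [Matrix.toLin'_apply, hc, Matrix.smul_mulVec, Matrix.one_mulVec]
    change Matrix.toLin' ((g : Matrix ι ι F)) w ∈ W
    rw [this]
    exact W.smul_mem _ hw
  rcases hirr W hinv with h0 | h1
  · have : Pi.single i (1 : F) ∈ W := Submodule.subset_span rfl
    rw [h0, Submodule.mem_bot] at this
    have h2 := congrFun this i
    simp at h2
  · have : Pi.single j (1 : F) ∈ W := by rw [h1]; trivial
    obtain ⟨c, hc⟩ := Submodule.mem_span_singleton.mp this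
    have h2 := congrFun hc j
    simp [hij] at h2

/-- glue G4: a tensor algebra `M_d ⊗ 1` with `s = 1` is everything, with `d = 1` is the scalars -/
theorem OG4 {ι : Type} [Fintype ι] [DecidableEq ι] (A : Subalgebra F (Matrix ι ι F)) (d s : ℕ)
    (e : ι ≃ Fin d × Fin s) (P : GL ι F) (hT : IsTensorAlg A d s e P) :
    (s = 1 → A = ⊤) ∧ (d = 1 → ∀ a ∈ A, ∃ c : F, a = c • (1 : Matrix ι ι F)) := by
  constructor
  · intro hs
    subst hs
    rw [eq_top_iff]
    intro a _
    rw [hT a]
    -- the matrix `M` with `reindex (M ⊗ 1) = P⁻¹ a P`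
    let b : Matrix ι ι F := ((P⁻¹ : GL ι F) : Matrix ι ι F) * a * (P : Matrix ι ι F)
    refine ⟨Matrix.of fun x y => b (e.symm (x, 0)) (e.symm (y, 0)), ?_⟩
    have hb : Matrix.reindex e.symm e.symm
        ((Matrix.of fun x y => b (e.symm (x, 0)) (e.symm (y, 0)) : Matrix (Fin d) (Fin d) F) ⊗ₖ
          (1 : Matrix (Fin 1) (Fin 1) F)) = b := by
      ext u v
      have hu : ((e u).1, (0 : Fin 1)) = e u := Prod.ext rfl (Subsingleton.elim _ _)
      have hv : ((e v).1, (0 : Fin 1)) = e v := Prod.ext rfl (Subsingleton.elim _ _)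
      rw [Matrix.reindex_apply, Equiv.symm_symm, Matrix.submatrix_apply]
      rw [show e u = ((e u).1, (e u).2) from rfl, show e v = ((e v).1, (e v).2) from rfl,
        Matrix.kroneckerMap_apply]
      rw [Subsingleton.elim (e u).2 (e v).2, Matrix.one_apply_eq, mul_one]
      rw [Matrix.of_apply, hu, hv, Equiv.symm_apply_apply, Equiv.symm_apply_apply]
    rw [hb]
    simp only [b]
    rw [← mul_assoc, ← mul_assoc, ← Units.val_mul, mul_inv_cancel, Units.val_one, one_mul, mul_assoc,
      ← Units.val_mul, mul_inv_cancel, Units.val_one, mul_one]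
  · intro hd a ha
    subst hd
    obtain ⟨M, rfl⟩ := (hT a).mp ha
    refine ⟨M 0 0, ?_⟩
    have hM : M = (M 0 0) • (1 : Matrix (Fin 1) (Fin 1) F) := by
      ext i j
      rw [Subsingleton.elim i 0, Subsingleton.elim j 0]
      simp
    have hk : M ⊗ₖ (1 : Matrix (Fin s) (Fin s) F) = (M 0 0) • (1 : Matrix (Fin 1 × Fin s) (Fin 1 × Fin s) F) := by
      conv_lhs => rw [hM]
      rw [Matrix.smul_kronecker, Matrix.one_kronecker_one]
    rw [hk]
    have hr : Matrix.reindex e.symm e.symm ((M 0 0) • (1 : Matrix (Fin 1 × Fin s) (Fin 1 × Fin s) F)) =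
        (M 0 0) • (1 : Matrix ι ι F) := by
      ext u v
      simp [Matrix.one_apply]
    rw [hr, Matrix.mul_smul, Matrix.mul_one, Matrix.smul_mul, ← Units.val_mul, mul_inv_cancel,
      Units.val_one]

end Cfsg.Agent.Lib.Helper29_OrthOdd_Glue
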