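import Mathlib
import Cfsg.Prelude.Def_GeometricClasses

set_option autoImplicit false

/-!
Normalisers of extension fields inside the matrix algebra over a finite field: the normaliser of a
field of composite degree lies properly inside the normaliser of the fixed points of a power of the
Frobenius map.
-/

namespace Cfsg.Agent.Lib.Helper13_ExtField

open Matrix Module

/-! ### Facts on finite field extensions -/

section FieldFacts

variable (F L : Type*) [Field F] [Fintype F] [Field L] [Algebra F L] [Finite L]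

theorem exists_not_fixed {s : ℕ} (hs0 : 0 < s) (hs : s < Module.finrank F L) :
    ∃ θ : L, θ ^ (Fintype.card F ^ s) ≠ θ := by
  by_contra hcon
  push Not at hcon
  have h1 : (FiniteField.frobeniusAlgHom F L) ^ s = 1 := by
    apply AlgHom.ext
    intro x
    rw [AlgHom.coe_pow, FiniteField.coe_frobeniusAlgHom, pow_iterate, AlgHom.one_apply]
    exact hcon x
  have h2 := orderOf_dvd_of_pow_eq_one h1
  rw [FiniteField.orderOf_frobeniusAlgHom] at h2
  exact absurd (Nat.le_of_dvd hs0 h2) (not_le.mpr hs)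

theorem exists_fixed_nonscalar {r s : ℕ} (hr : Module.finrank F L = r) (hs : 1 < s)
    (hsr : s ∣ r) :
    ∃ θ₀ : L, θ₀ ^ (Fintype.card F ^ s) = θ₀ ∧ θ₀ ∉ Set.range (algebraMap F L) := by
  classical
  have := Fintype.ofFinite L
  obtain ⟨q, hq⟩ : ∃ q, q = Fintype.card F := ⟨_, rfl⟩
  rw [← hq]
  have hq2 : 1 < q := by
    rw [hq]
    exact Fintype.one_lt_card
  have hr0 : 0 < r := by
    rw [← hr]
    exact Module.finrank_pos
  have hcardL : Fintype.card L = q ^ r := by
    rw [← hr, hq]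
    exact Module.card_eq_pow_finrank
  obtain ⟨ζ, hζ⟩ := IsCyclic.exists_generator (α := Lˣ)
  have hord : orderOf ζ = q ^ r - 1 := by
    rw [orderOf_eq_card_of_forall_mem_zpowers hζ, Nat.card_eq_fintype_card, Fintype.card_units,
      hcardL]
  obtain ⟨t, rfl⟩ := hsr
  have ht0 : 0 < t := by
    rcases Nat.eq_zero_or_pos t with h | h
    · subst h
      simp at hr0
    · exact h
  have hdvd : q ^ s - 1 ∣ q ^ (s * t) - 1 := by
    rw [pow_mul]
    simpa only [one_pow] using Nat.sub_dvd_pow_sub_pow (q ^ s) 1 t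
  obtain ⟨m, hm⟩ := hdvd
  have hqs : q < q ^ s := by
    calc q = q ^ 1 := (pow_one q).symm
      _ < q ^ s := Nat.pow_lt_pow_right hq2 hs
  have hqst : q ^ s ≤ q ^ (s * t) := Nat.pow_le_pow_right (by omega) (Nat.le_mul_of_pos_right s ht0)
  have hm0 : m ≠ 0 := by
    rintro rfl
    rw [mul_zero] at hm
    omega
  have hy : orderOf (ζ ^ m) = q ^ s - 1 := by
    rw [orderOf_pow' _ hm0, hord, hm, Nat.gcd_mul_left_left, Nat.mul_div_cancel _ (Nat.pos_of_ne_zero hm0)]
  refine ⟨((ζ ^ m : Lˣ) : L), ?_, ?_⟩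
  · have h1 : (ζ ^ m) ^ (q ^ s - 1) = 1 := by
      rw [← hy]
      exact pow_orderOf_eq_one _
    have h2 : ((ζ ^ m : Lˣ) : L) ^ (q ^ s - 1) = 1 := by
      rw [← Units.val_pow_eq_pow_val, h1, Units.val_one]
    calc ((ζ ^ m : Lˣ) : L) ^ (q ^ s) = ((ζ ^ m : Lˣ) : L) ^ (q ^ s - 1) * ((ζ ^ m : Lˣ) : L) := by
          rw [← pow_succ, Nat.sub_add_cancel (by omega)]
      _ = ((ζ ^ m : Lˣ) : L) := by rw [h2, one_mul]
  · rintro ⟨c, hc⟩
    have hc0 : c ≠ 0 := by
      rintro rfl
      rw [map_zero] at hc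
      exact (ζ ^ m).ne_zero hc.symm
    have h3 : ((ζ ^ m : Lˣ) : L) ^ (q - 1) = 1 := by
      rw [← hc, ← map_pow, hq, FiniteField.pow_card_sub_one_eq_one c hc0, map_one]
    have h4 : (ζ ^ m) ^ (q - 1) = 1 := by
      apply Units.ext
      rw [Units.val_pow_eq_pow_val, h3, Units.val_one]
    have h5 := orderOf_dvd_of_pow_eq_one h4
    rw [hy] at h5
    have h6 := Nat.le_of_dvd (by omega) h5
    omega

end FieldFacts

/-! ### A unipotent map linear over the fixed field but not semilinear over the big field -/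

section Core

variable {F : Type*} [Field F] [Fintype F] {n : ℕ}
variable {L : Type*} [Field L] [Algebra F L] [Module L (Fin n → F)]
  [IsScalarTower F L (Fin n → F)]

theorem core (φ : L → Matrix (Fin n) (Fin n) F) (hφ : ∀ x v, φ x *ᵥ v = x • v)
    (h2 : 2 ≤ Module.finrank L (Fin n → F)) (s : ℕ) :
    ∃ N : Matrix (Fin n) (Fin n) F, N * N = 0 ∧
      (∀ x : L, x ^ (Fintype.card F ^ s) = x → N * φ x = φ x * N) ∧
      (∀ θ κ : L, θ ^ (Fintype.card F ^ s) ≠ θ → (1 + N) * φ θ * (1 - N) ≠ φ κ) := by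
  classical
  have : Module.Finite L (Fin n → F) := Module.Finite.of_restrictScalars_finite F L _
  obtain ⟨Q, hQ⟩ : ∃ Q, Q = Fintype.card F ^ s := ⟨_, rfl⟩
  rw [← hQ]
  let b := Module.finBasis L (Fin n → F)
  let i₀ : Fin (Module.finrank L (Fin n → F)) := ⟨0, by omega⟩
  let i₁ : Fin (Module.finrank L (Fin n → F)) := ⟨1, by omega⟩
  have h01 : i₁ ≠ i₀ := by
    intro h
    have := congrArg Fin.val h
    simp [i₀, i₁] at this
  have c00 : b.coord i₀ (b i₀) = 1 := by
    rw [Basis.coord_apply, Basis.repr_self, Finsupp.single_eq_same]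
  have c01 : b.coord i₀ (b i₁) = 0 := by
    rw [Basis.coord_apply, Basis.repr_self, Finsupp.single_eq_of_ne h01.symm]
  have c10 : b.coord i₁ (b i₀) = 0 := by
    rw [Basis.coord_apply, Basis.repr_self, Finsupp.single_eq_of_ne h01]
  have c11 : b.coord i₁ (b i₁) = 1 := by
    rw [Basis.coord_apply, Basis.repr_self, Finsupp.single_eq_same]
  let τ : L →ₗ[F] L := ((FiniteField.frobeniusAlgHom F L) ^ s).toLinearMap - LinearMap.id
  have hτ : ∀ x, τ x = x ^ Q - x := by
    intro x
    simp only [τ, LinearMap.sub_apply, AlgHom.toLinearMap_apply, LinearMap.id_coe, id_eq]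
    rw [AlgHom.coe_pow, FiniteField.coe_frobeniusAlgHom, pow_iterate, hQ]
  let Nlin : (Fin n → F) →ₗ[F] (Fin n → F) :=
    { toFun := fun v => τ (b.coord i₀ v) • b i₁
      map_add' := by
        intro v w
        rw [map_add, map_add, add_smul]
      map_smul' := by
        intro c v
        rw [LinearMap.map_smul_of_tower, map_smul, RingHom.id_apply, smul_assoc] }
  have hNv : ∀ v, (LinearMap.toMatrix' Nlin) *ᵥ v = τ (b.coord i₀ v) • b i₁ := by
    intro v
    rw [← Matrix.toLin'_apply, Matrix.toLin'_toMatrix']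
    rfl
  refine ⟨LinearMap.toMatrix' Nlin, ?_, ?_, ?_⟩
  · rw [Matrix.ext_iff_mulVec]
    intro v
    rw [← Matrix.mulVec_mulVec, hNv, hNv, map_smul, c01, smul_zero, map_zero, zero_smul,
      Matrix.zero_mulVec]
  · intro x hx
    rw [Matrix.ext_iff_mulVec]
    intro v
    rw [← Matrix.mulVec_mulVec, ← Matrix.mulVec_mulVec, hNv, hφ, hφ, hNv, map_smul, hτ, hτ,
      smul_eq_mul, mul_pow, hx, ← mul_sub, mul_smul]
  · intro θ κ hθ heq
    have h1 : ((1 + LinearMap.toMatrix' Nlin) * φ θ * (1 - LinearMap.toMatrix' Nlin)) *ᵥ (b i₀)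
        = φ κ *ᵥ (b i₀) := by rw [heq]
    rw [← Matrix.mulVec_mulVec, ← Matrix.mulVec_mulVec, Matrix.sub_mulVec, Matrix.one_mulVec,
      hNv, c00, hτ, one_pow, sub_self, zero_smul, sub_zero, hφ, Matrix.add_mulVec,
      Matrix.one_mulVec, hNv, map_smul, c00, smul_eq_mul, mul_one, hφ] at h1
    have h2' := congrArg (b.coord i₁) h1
    rw [map_add, map_smul, map_smul, map_smul, c10, c11, smul_eq_mul, smul_eq_mul, smul_eq_mul,
      mul_zero, mul_zero, zero_add, mul_one, hτ, sub_eq_zero] at h2'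
    exact hθ h2'

end Core

/-! ### Normalisers of sets of matrices -/

section Normalizers

variable {F : Type*} [Field F] {ι : Type} [Fintype ι] [DecidableEq ι]

/-- The invertible matrices `g` with `g S g⁻¹ = S`, for a set `S` of matrices. -/
def setNormalizer (S : Set (Matrix ι ι F)) : Subgroup (GL ι F) where
  carrier := {g | ∀ k : Matrix ι ι F,
    k ∈ S ↔ (g : Matrix ι ι F) * k * ((g⁻¹ : GL ι F) : Matrix ι ι F) ∈ S}
  mul_mem' {a b} ha hb := by
    intro k
    rw [hb k, ha, Units.val_mul, _root_.mul_inv_rev, Units.val_mul]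
    constructor <;> intro h <;> simpa [mul_assoc] using h
  one_mem' := by
    intro k
    simp
  inv_mem' {a} ha := by
    intro k
    have h := ha (((a⁻¹ : GL ι F) : Matrix ι ι F) * k * (a : Matrix ι ι F))
    rw [inv_inv]
    rw [h]
    constructor <;> intro h' <;>
      simpa [mul_assoc, ← Units.val_mul] using h'

theorem mem_setNormalizer_iff (S : Set (Matrix ι ι F)) (g : GL ι F) :
    g ∈ setNormalizer S ↔ ∀ k : Matrix ι ι F,
      k ∈ S ↔ (g : Matrix ι ι F) * k * ((g⁻¹ : GL ι F) : Matrix ι ι F) ∈ S := Iff.rfl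

theorem mem_subalgebraNormalizer_iff (K : Subalgebra F (Matrix ι ι F)) (g : GL ι F) :
    g ∈ Cfsg.Geo.subalgebraNormalizer K ↔ ∀ k : Matrix ι ι F,
      k ∈ K ↔ (g : Matrix ι ι F) * k * ((g⁻¹ : GL ι F) : Matrix ι ι F) ∈ K := Iff.rfl

/-- The elements of `K` fixed by the `Q`-th power map. -/
def fixedSet (K : Subalgebra F (Matrix ι ι F)) (Q : ℕ) : Set (Matrix ι ι F) :=
  {k | k ∈ K ∧ k ^ Q = k}

theorem mem_fixedSet_iff (K : Subalgebra F (Matrix ι ι F)) (Q : ℕ) (k : Matrix ι ι F) :
    k ∈ fixedSet K Q ↔ k ∈ K ∧ k ^ Q = k := Iff.rfl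

theorem normalizer_le (K : Subalgebra F (Matrix ι ι F)) (Q : ℕ) :
    Cfsg.Geo.subalgebraNormalizer K ≤ setNormalizer (fixedSet K Q) := by
  intro g hg
  rw [mem_subalgebraNormalizer_iff] at hg
  rw [mem_setNormalizer_iff]
  intro k
  rw [mem_fixedSet_iff, mem_fixedSet_iff, ← hg k, Units.conj_pow]
  constructor
  · rintro ⟨h1, h2⟩
    exact ⟨h1, by rw [h2]⟩
  · rintro ⟨h1, h2⟩
    refine ⟨h1, ?_⟩
    have h3 := congrArg (fun M => ((g⁻¹ : GL ι F) : Matrix ι ι F) * M * (g : Matrix ι ι F)) h2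
    simpa [mul_assoc, ← Units.val_mul] using h3

end Normalizers

/-! ### Unipotent elements from matrices of square zero -/

section Unipotent

variable {F : Type*} [Field F] {ι : Type} [Fintype ι] [DecidableEq ι]

theorem one_add_mul_one_sub {N : Matrix ι ι F} (hN : N * N = 0) : (1 + N) * (1 - N) = 1 := by
  have h : (1 + N) * (1 - N) = 1 - N * N := by noncomm_ring
  rw [h, hN, sub_zero]

theorem one_sub_mul_one_add {N : Matrix ι ι F} (hN : N * N = 0) : (1 - N) * (1 + N) = 1 := by
  have h : (1 - N) * (1 + N) = 1 - N * N := by noncomm_ring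
  rw [h, hN, sub_zero]

/-- The unit `1 + N` for a matrix `N` of square zero. -/
def unipotent (N : Matrix ι ι F) (hN : N * N = 0) : GL ι F :=
  ⟨1 + N, 1 - N, one_add_mul_one_sub hN, one_sub_mul_one_add hN⟩

theorem val_unipotent (N : Matrix ι ι F) (hN : N * N = 0) :
    ((unipotent N hN : GL ι F) : Matrix ι ι F) = 1 + N := rfl

theorem val_inv_unipotent (N : Matrix ι ι F) (hN : N * N = 0) :
    (((unipotent N hN)⁻¹ : GL ι F) : Matrix ι ι F) = 1 - N := rfl

theorem det_one_add_of_sq_zero [Finite F] {N : Matrix ι ι F} (hN : N * N = 0) :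
    (1 + N).det = 1 := by
  cases isEmpty_or_nonempty ι
  · exact Matrix.det_isEmpty
  obtain ⟨p, hp⟩ := CharP.exists F
  have hpp : p.Prime := CharP.char_is_prime F p
  have : Fact p.Prime := ⟨hpp⟩
  have : CharP (Matrix ι ι F) p := Matrix.charP p
  have h1 : (1 + N) ^ p = 1 := by
    rw [add_pow_char_of_commute p (Commute.one_left N), one_pow]
    have h2 : N ^ p = 0 := by
      obtain ⟨k, hk⟩ : ∃ k, p = k + 2 := ⟨p - 2, by have := hpp.two_le; omega⟩
      rw [hk, pow_add, pow_two, hN, mul_zero]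
    rw [h2, add_zero]
  have h3 : (1 + N).det ^ p = 1 := by
    rw [← Matrix.det_pow, h1, Matrix.det_one]
  apply frobenius_inj F p
  rw [frobenius_def, frobenius_def, h3, one_pow]

theorem unipotent_mem_specialLinear [Finite F] (N : Matrix ι ι F) (hN : N * N = 0) :
    unipotent N hN ∈ Cfsg.Geo.specialLinear ι F := by
  rw [Cfsg.Geo.specialLinear, MonoidHom.mem_ker]
  apply Units.ext
  rw [Matrix.GeneralLinearGroup.val_det_apply, val_unipotent, det_one_add_of_sq_zero hN,
    Units.val_one]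

end Unipotent

/-! ### Transvections do not normalise a set of commuting invertible matrices -/

section Transvection

variable {F : Type*} [Field F] {n : ℕ}

/-- The transvection `1 + E i j` as a unit. -/
def transUnit (i j : Fin n) (hij : i ≠ j) : GL (Fin n) F :=
  ⟨Matrix.transvection i j 1, Matrix.transvection i j (-1),
    by rw [Matrix.transvection_mul_transvection_same i j hij, add_neg_cancel,
      Matrix.transvection_zero],
    by rw [Matrix.transvection_mul_transvection_same i j hij, neg_add_cancel,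
      Matrix.transvection_zero]⟩

theorem val_transUnit (i j : Fin n) (hij : i ≠ j) :
    ((transUnit i j hij : GL (Fin n) F) : Matrix (Fin n) (Fin n) F) = Matrix.transvection i j 1 :=
  rfl

theorem val_inv_transUnit (i j : Fin n) (hij : i ≠ j) :
    (((transUnit i j hij)⁻¹ : GL (Fin n) F) : Matrix (Fin n) (Fin n) F)
      = Matrix.transvection i j (-1) := rfl

theorem transUnit_mem_specialLinear (i j : Fin n) (hij : i ≠ j) :
    (transUnit i j hij : GL (Fin n) F) ∈ Cfsg.Geo.specialLinear (Fin n) F := by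
  rw [Cfsg.Geo.specialLinear, MonoidHom.mem_ker]
  apply Units.ext
  rw [Matrix.GeneralLinearGroup.val_det_apply, val_transUnit, Matrix.det_transvection_of_ne i j hij,
    Units.val_one]

theorem transvection_mulVec_of_eq_zero (i j : Fin n) (c : F) (x : Fin n → F) (hx : x j = 0) :
    Matrix.transvection i j c *ᵥ x = x := by
  rw [Matrix.transvection, Matrix.add_mulVec, Matrix.one_mulVec, Matrix.single_mulVec_eq, hx,
    mul_zero, zero_smul, add_zero]

theorem exists_transUnit_not_mem (hn : 3 ≤ n) (K : Subalgebra F (Matrix (Fin n) (Fin n) F))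
    (hinv : ∀ x ∈ K, x ≠ 0 → ∃ y ∈ K, x * y = 1) (S : Set (Matrix (Fin n) (Fin n) F))
    (hS : ∀ x ∈ S, x ∈ K)
    (θ₀ : Matrix (Fin n) (Fin n) F) (hθ₀ : θ₀ ∈ S)
    (hns : θ₀ ∉ Set.range (Matrix.scalar (Fin n))) :
    ∃ i j, ∃ hij : i ≠ j, (transUnit i j hij : GL (Fin n) F) ∉ setNormalizer S := by
  by_contra hcon
  push Not at hcon
  apply hns
  apply Matrix.mem_range_scalar_of_commute_single
  intro i j hij
  have hmem := ((mem_setNormalizer_iff S _).mp (hcon i j hij) θ₀).mp hθ₀
  rw [val_transUnit, val_inv_transUnit] at hmem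
  have hDK : Matrix.transvection i j 1 * θ₀ * Matrix.transvection i j (-1) - θ₀ ∈ K :=
    K.sub_mem (hS _ hmem) (hS _ hθ₀)
  have hD0 : Matrix.transvection i j 1 * θ₀ * Matrix.transvection i j (-1) - θ₀ = 0 := by
    by_contra hD
    obtain ⟨y, -, hy⟩ := hinv _ hDK hD
    rw [_root_.mul_eq_one_comm] at hy
    let f : (Fin n → F) →ₗ[F] F × F :=
      (LinearMap.proj j : (Fin n → F) →ₗ[F] F).prod
        ((LinearMap.proj j : (Fin n → F) →ₗ[F] F).comp (Matrix.mulVecLin θ₀))
    have hker : LinearMap.ker f ≠ ⊥ := by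
      apply LinearMap.ker_ne_bot_of_finrank_lt
      rw [Module.finrank_prod, Module.finrank_self, Module.finrank_fin_fun]
      omega
    obtain ⟨x, hxk, hx0⟩ := Submodule.exists_mem_ne_zero_of_ne_bot hker
    rw [LinearMap.mem_ker] at hxk
    have hx1 : x j = 0 := congrArg Prod.fst hxk
    have hx2 : (θ₀ *ᵥ x) j = 0 := congrArg Prod.snd hxk
    apply hx0
    calc x = (y * (Matrix.transvection i j 1 * θ₀ * Matrix.transvection i j (-1) - θ₀)) *ᵥ x := by
          rw [hy, Matrix.one_mulVec]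
      _ = 0 := by
          rw [← Matrix.mulVec_mulVec, Matrix.sub_mulVec, ← Matrix.mulVec_mulVec,
            ← Matrix.mulVec_mulVec, transvection_mulVec_of_eq_zero i j _ x hx1,
            transvection_mulVec_of_eq_zero i j _ _ hx2, sub_self, Matrix.mulVec_zero]
  rw [sub_eq_zero] at hD0
  have h1 : Matrix.transvection i j 1 * θ₀ = θ₀ * Matrix.transvection i j 1 := by
    have h2 : Matrix.transvection i j 1 * θ₀ * Matrix.transvection i j (-1)
        * Matrix.transvection i j (1 : F) = θ₀ * Matrix.transvection i j (1 : F) := by rw [hD0]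
    rw [mul_assoc, Matrix.transvection_mul_transvection_same i j hij, neg_add_cancel,
      Matrix.transvection_zero, mul_one] at h2
    exact h2
  rw [Matrix.transvection, add_mul, mul_add, one_mul, mul_one] at h1
  exact add_left_cancel h1

end Transvection

/-! ### The main theorem -/

section Main

theorem not_max_of_between {G : Type*} [Group G] (H M S : Subgroup G) (hHM : H ≤ M)
    (g : G) (hgM : g ∈ M) (hgS : g ∈ S) (hgH : g ∉ H) (t : G) (htS : t ∈ S) (htM : t ∉ M) :
    ¬ IsCoatom H ∧ ¬ Cfsg.Geo.IsMaximalIn S (H ⊓ S) := by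
  constructor
  · intro hco
    have hlt : H < M := lt_of_le_of_ne hHM (fun h => hgH (h ▸ hgM))
    have htop := hco.2 M hlt
    rw [htop] at htM
    exact htM (Subgroup.mem_top t)
  · rintro ⟨-, hmax⟩
    rcases hmax (M ⊓ S) (inf_le_inf_right S hHM) inf_le_right with h | h
    · have h1 : g ∈ M ⊓ S := ⟨hgM, hgS⟩
      rw [h] at h1
      exact hgH h1.1
    · have h1 : t ∈ M ⊓ S := by
        rw [h]
        exact htS
      exact htM h1.1

variable {F : Type*} [Field F] [Fintype F]

omit [Fintype F] in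
theorem conj_eq_of_commute {n : ℕ} {N k : Matrix (Fin n) (Fin n) F} (hN : N * N = 0)
    (hc : N * k = k * N) : (1 + N) * k * (1 - N) = k := by
  have h1 : (1 + N) * k = k * (1 + N) := by
    rw [add_mul, mul_add, one_mul, mul_one, hc]
  rw [h1, mul_assoc, one_add_mul_one_sub hN, mul_one]

theorem main (n r : ℕ) (hr1 : 1 < r) (hrp : ¬ r.Prime) (hrn : r ∣ n) (hlt : r < n)
    (K : Subalgebra F (Matrix (Fin n) (Fin n) F)) (hK : Cfsg.Geo.IsFieldSubalgebra r K) :
    ¬ IsCoatom (Cfsg.Geo.subalgebraNormalizer K) ∧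
      ¬ Cfsg.Geo.IsMaximalIn (Cfsg.Geo.specialLinear (Fin n) F)
        (Cfsg.Geo.subalgebraNormalizer K ⊓ Cfsg.Geo.specialLinear (Fin n) F) := by
  classical
  obtain ⟨s, hsr, hs2, hslt⟩ := Nat.exists_dvd_of_not_prime2 hr1 hrp
  have hn0 : 0 < n := by omega
  have hn3 : 3 ≤ n := by omega
  have : Nonempty (Fin n) := ⟨⟨0, hn0⟩⟩
  have hfield : IsField ↥K :=
    { exists_pair_ne := ⟨0, 1, fun h => by
        have h1 : ((0 : ↥K) : Matrix (Fin n) (Fin n) F) = ((1 : ↥K) : Matrix (Fin n) (Fin n) F) :=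
          congrArg Subtype.val h
        rw [ZeroMemClass.coe_zero, OneMemClass.coe_one] at h1
        exact zero_ne_one h1⟩
      mul_comm := fun x y => Subtype.ext (hK.comm x.1 x.2 y.1 y.2)
      mul_inv_cancel := fun {a} ha => by
        obtain ⟨y, hy, hxy⟩ := hK.inv a.1 a.2 (fun h => ha (Subtype.ext h))
        exact ⟨⟨y, hy⟩, Subtype.ext hxy⟩ }
  letI : Field ↥K := hfield.toField
  obtain ⟨Q, hQ⟩ : ∃ Q, Q = Fintype.card F ^ s := ⟨_, rfl⟩
  have hfr : Module.finrank F ↥K = r := hK.finrank_eq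
  obtain ⟨θ, hθ⟩ := exists_not_fixed F ↥K (s := s) (by omega) (by rw [hfr]; exact hslt)
  obtain ⟨θ₀, hθ₀, hθ₀ns⟩ := exists_fixed_nonscalar F ↥K hfr (by omega) hsr
  rw [← hQ] at hθ hθ₀
  have h2 : 2 ≤ Module.finrank ↥K (Fin n → F) := by
    have h3 := Module.finrank_mul_finrank F ↥K (Fin n → F)
    rw [hfr, Module.finrank_fin_fun] at h3
    rcases h4 : Module.finrank ↥K (Fin n → F) with _ | _ | m
    · rw [h4] at h3
      omega
    · rw [h4] at h3
      omega
    · omega
  obtain ⟨N, hN, hcomm, hne⟩ := core (F := F) (n := n) (L := ↥K) (fun x => x.1)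
    (fun x v => rfl) h2 s
  rw [← hQ] at hcomm hne
  have hcomm' : ∀ k ∈ fixedSet K Q, N * k = k * N := by
    intro k hk
    exact hcomm ⟨k, hk.1⟩ (Subtype.ext hk.2)
  have hθ₀S : θ₀.1 ∈ fixedSet K Q := ⟨θ₀.2, by rw [← SubmonoidClass.coe_pow, hθ₀]⟩
  have hθ₀sc : θ₀.1 ∉ Set.range (Matrix.scalar (Fin n)) := by
    rintro ⟨c, hc⟩
    apply hθ₀ns
    refine ⟨c, Subtype.ext ?_⟩
    rw [Subalgebra.coe_algebraMap, ← hc]
    rfl
  obtain ⟨i, j, hij, ht⟩ := exists_transUnit_not_mem hn3 K hK.inv (fixedSet K Q)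
    (fun x hx => hx.1) θ₀.1 hθ₀S hθ₀sc
  refine not_max_of_between _ (setNormalizer (fixedSet K Q)) _ (normalizer_le K Q)
    (unipotent N hN) ?_ (unipotent_mem_specialLinear N hN) ?_ (transUnit i j hij)
    (transUnit_mem_specialLinear i j hij) ht
  · rw [mem_setNormalizer_iff]
    intro k
    rw [val_unipotent, val_inv_unipotent]
    constructor
    · intro hk
      rw [conj_eq_of_commute hN (hcomm' k hk)]
      exact hk
    · intro hk
      have h5 := conj_eq_of_commute (N := -N) (k := (1 + N) * k * (1 - N))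
        (by rw [neg_mul_neg, hN]) (by rw [neg_mul, mul_neg, hcomm' _ hk])
      rw [← sub_eq_add_neg, sub_neg_eq_add] at h5
      have h6 : (1 - N) * ((1 + N) * k * (1 - N)) * (1 + N) = k := by
        rw [← mul_assoc, ← mul_assoc, one_sub_mul_one_add hN, one_mul, mul_assoc,
          one_sub_mul_one_add hN, mul_one]
      rw [h6] at h5
      rw [h5]
      exact hk
  · intro hmem
    rw [mem_subalgebraNormalizer_iff] at hmem
    have h5 := (hmem θ.1).mp θ.2
    rw [val_unipotent, val_inv_unipotent] at h5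
    exact hne θ ⟨_, h5⟩ hθ rfl

end Main

end Cfsg.Agent.Lib.Helper13_ExtField
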