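import Mathlib
import Cfsg.Prelude.Def_GeometricClasses

/-!
# Package QB1 of helper13's S5975 project (helper63)

A subspace invariant under a field subalgebra `K` of degree `k` has dimension divisible by `k`.
-/

set_option autoImplicit false

namespace Cfsg.Agent.Lib.Helper63_SpExt_QB1

open Matrix

/-- A field subalgebra of a matrix algebra (over any nonempty index type) is a field. -/
theorem isField {F : Type*} [Field F] {ι : Type} [Fintype ι] [DecidableEq ι] [Nonempty ι] {k : ℕ}
    (K : Subalgebra F (Matrix ι ι F)) (hK : Cfsg.Geo.IsFieldSubalgebra k K) : IsField K := by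
  refine ⟨⟨0, 1, ?_⟩, ?_, ?_⟩
  · intro h
    have := congrArg Subtype.val h
    simp at this
  · intro x y
    exact Subtype.ext (hK.comm x.1 x.2 y.1 y.2)
  · intro a ha
    have ha' : (a : Matrix ι ι F) ≠ 0 := fun h => ha (Subtype.ext h)
    obtain ⟨y, hy, hxy⟩ := hK.inv a.1 a.2 ha'
    exact ⟨⟨y, hy⟩, Subtype.ext hxy⟩

/-- QB1: a `K`-invariant subspace has dimension divisible by `k` -/
theorem QB1 {F : Type*} [Field F] {ι : Type} [Fintype ι] [DecidableEq ι] [Nonempty ι] (k : ℕ)
    (K : Subalgebra F (Matrix ι ι F)) (hK : Cfsg.Geo.IsFieldSubalgebra k K)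
    (W : Submodule F (ι → F)) (hW : ∀ a ∈ K, ∀ w ∈ W, a *ᵥ w ∈ W) :
    k ∣ Module.finrank F W := by
  classical
  have hf := isField K hK
  let _ : Field K := hf.toField
  let modW : Module K W :=
    { smul := fun a w => ⟨a.1 *ᵥ w.1, hW a.1 a.2 w.1 w.2⟩
      one_smul := fun w => Subtype.ext (Matrix.one_mulVec _)
      mul_smul := fun a b w => Subtype.ext (Matrix.mulVec_mulVec _ _ _).symm
      smul_zero := fun a => Subtype.ext (Matrix.mulVec_zero _)
      smul_add := fun a w w' => Subtype.ext (Matrix.mulVec_add _ _ _)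
      add_smul := fun a b w => Subtype.ext (Matrix.add_mulVec _ _ _)
      zero_smul := fun w => Subtype.ext (Matrix.zero_mulVec _) }
  have : IsScalarTower F K W :=
    ⟨fun c a w => Subtype.ext (Matrix.smul_mulVec c a.1 w.1)⟩
  have h := Module.finrank_mul_finrank F K W
  rw [← h]
  exact ⟨_, by rw [← hK.finrank_eq]⟩

end Cfsg.Agent.Lib.Helper63_SpExt_QB1
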