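import Mathlib
import Cfsg.Prelude.Def_GeometricClasses

/-!
Helper98: tools for stabilisers of direct-sum decompositions of `F^n`
(adapted basis, support of a vector, weight-preserving subgroup, rank-one perturbations of the identity).
-/

set_option autoImplicit false

namespace Cfsg.Agent.Lib.Helper98_Decomp

open Matrix

variable {F : Type*} [Field F] {n : ℕ}

/-! ### rank one perturbations of the identity -/

/-- the matrix of `x ↦ x + ψ x • u` -/
noncomputable def r1 (u : Fin n → F) (ψ : (Fin n → F) →ₗ[F] F) : Matrix (Fin n) (Fin n) F :=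
  1 + vecMulVec u (fun l => ψ (fun j => if l = j then 1 else 0))

lemma r1_mulVec (u : Fin n → F) (ψ : (Fin n → F) →ₗ[F] F) (x : Fin n → F) :
    r1 u ψ *ᵥ x = x + ψ x • u := by
  unfold r1
  rw [Matrix.add_mulVec, Matrix.one_mulVec, Matrix.vecMulVec_mulVec]
  congr 1
  have h : (fun l => ψ (fun j => if l = j then 1 else 0)) ⬝ᵥ x = ψ x := by
    rw [LinearMap.pi_apply_eq_sum_univ ψ x]
    simp [dotProduct, mul_comm]
  rw [h]
  ext i
  simp [mul_comm]

lemma r1_det (u : Fin n → F) (ψ : (Fin n → F) →ₗ[F] F) :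
    (r1 u ψ).det = 1 + ψ u := by
  unfold r1
  rw [Matrix.vecMulVec_eq Unit, Matrix.det_one_add_replicateCol_mul_replicateRow]
  congr 1
  rw [LinearMap.pi_apply_eq_sum_univ ψ u]
  simp [dotProduct, mul_comm]

/-- the element of `GL` given by `x ↦ x + ψ x • u` when `1 + ψ u ≠ 0` -/
noncomputable def r1GL (u : Fin n → F) (ψ : (Fin n → F) →ₗ[F] F) (h : 1 + ψ u ≠ 0) :
    GL (Fin n) F :=
  Matrix.GeneralLinearGroup.mkOfDetNeZero (r1 u ψ) (by rw [r1_det]; exact h)

lemma r1GL_coe (u : Fin n → F) (ψ : (Fin n → F) →ₗ[F] F) (h : 1 + ψ u ≠ 0) :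
    ((r1GL u ψ h : GL (Fin n) F) : Matrix (Fin n) (Fin n) F) = r1 u ψ := rfl

lemma mem_specialLinear_iff (g : GL (Fin n) F) :
    g ∈ Cfsg.Geo.specialLinear (Fin n) F ↔ (g : Matrix (Fin n) (Fin n) F).det = 1 := by
  unfold Cfsg.Geo.specialLinear
  rw [MonoidHom.mem_ker]
  constructor
  · intro h
    have := congrArg (fun u : Fˣ => (u : F)) h
    simpa using this
  · intro h
    apply Units.ext
    simpa using h

/-! ### subgroup preserving a function -/

/-- the subgroup of `GL` of elements preserving a function `N` on vectors -/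
def preserver {α : Type*} (N : (Fin n → F) → α) : Subgroup (GL (Fin n) F) where
  carrier := {g | ∀ x, N ((g : Matrix (Fin n) (Fin n) F) *ᵥ x) = N x}
  mul_mem' {a b} ha hb := by
    intro x
    rw [Units.val_mul, ← Matrix.mulVec_mulVec, ha, hb]
  one_mem' := by intro x; simp
  inv_mem' {a} ha := by
    intro x
    have h := ha ((a⁻¹ : GL (Fin n) F).val *ᵥ x)
    rw [Matrix.mulVec_mulVec, ← Units.val_mul, mul_inv_cancel, Units.val_one, Matrix.one_mulVec] at h
    exact h.symm

lemma mem_preserver {α : Type*} (N : (Fin n → F) → α) (g : GL (Fin n) F) :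
    g ∈ preserver N ↔ ∀ x, N ((g : Matrix (Fin n) (Fin n) F) *ᵥ x) = N x := Iff.rfl

/-! ### basis adapted to a decomposition -/

section Adapted

variable {t m : ℕ} {D : Fin t → Submodule F (Fin n → F)} (hD : Cfsg.Geo.IsMDecomposition m D)

include hD in
lemma isInternal : DirectSum.IsInternal D :=
  DirectSum.isInternal_submodule_of_iSupIndep_of_iSup_eq_top hD.indep hD.iSup_eq_top

/-- a basis of `F^n` adapted to the decomposition -/
noncomputable def bas : Module.Basis (Σ _ : Fin t, Fin m) F (Fin n → F) :=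
  (isInternal hD).collectedBasis (fun i => Module.finBasisOfFinrankEq F (D i) (hD.finrank_eq i))

lemma bas_mem (i : Fin t) (j : Fin m) : bas hD ⟨i, j⟩ ∈ D i := by
  have h := (isInternal hD).collectedBasis_mem (α := fun _ => Fin m)
    (fun i => Module.finBasisOfFinrankEq F (D i) (hD.finrank_eq i)) ⟨i, j⟩
  exact h

/-- coordinate `(i,j)` of `x` -/
noncomputable def co (i : Fin t) (j : Fin m) : (Fin n → F) →ₗ[F] F := (bas hD).coord ⟨i, j⟩

lemma co_apply (i : Fin t) (j : Fin m) (x : Fin n → F) : co hD i j x = (bas hD).repr x ⟨i, j⟩ := rfl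

lemma co_bas (i k : Fin t) (j l : Fin m) :
    co hD i j (bas hD ⟨k, l⟩) = if (k = i ∧ l = j) then 1 else 0 := by
  rw [co_apply, Module.Basis.repr_self, Finsupp.single_apply]
  by_cases h : k = i ∧ l = j
  · obtain ⟨rfl, rfl⟩ := h
    simp
  · rw [if_neg h, if_neg]
    intro h'
    apply h
    have := Sigma.mk.inj_iff.mp h'
    exact ⟨this.1, eq_of_heq this.2⟩

lemma co_of_mem_ne {x : Fin n → F} {i k : Fin t} (hx : x ∈ D i) (hik : i ≠ k) (j : Fin m) :
    co hD k j x = 0 := by
  rw [co_apply]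
  unfold bas
  exact (isInternal hD).collectedBasis_repr_of_mem_ne _ hik hx

/-- the `D i`-part of `x` -/
noncomputable def part (i : Fin t) (x : Fin n → F) : Fin n → F := ∑ j, co hD i j x • bas hD ⟨i, j⟩

lemma part_mem (i : Fin t) (x : Fin n → F) : part hD i x ∈ D i :=
  Submodule.sum_mem _ (fun j _ => Submodule.smul_mem _ _ (bas_mem hD i j))

lemma sum_part (x : Fin n → F) : ∑ i, part hD i x = x := by
  conv_rhs => rw [← (bas hD).sum_repr x]
  rw [Fintype.sum_sigma]
  rfl

lemma part_eq_zero {i : Fin t} {x : Fin n → F} (h : ∀ j, co hD i j x = 0) : part hD i x = 0 := by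
  unfold part
  apply Finset.sum_eq_zero
  intro j _
  rw [h j, zero_smul]

include hD in
lemma card_eq : t * m = n := by
  have h := Module.finrank_eq_card_basis (bas hD)
  simp at h
  exact h.symm

open Classical in
/-- the support of `x`: the set of `i` such that the `D i`-part of `x` is non-zero -/
noncomputable def supp (x : Fin n → F) : Finset (Fin t) :=
  Finset.univ.filter (fun i => ∃ j, co hD i j x ≠ 0)

lemma mem_supp (x : Fin n → F) (i : Fin t) : i ∈ supp hD x ↔ ∃ j, co hD i j x ≠ 0 := by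
  simp [supp]

/-- the weight (size of the support), as an element of `F` -/
noncomputable def wtF (x : Fin n → F) : F := ((supp hD x).card : F)

open Classical in
lemma wtF_eq_sum (x : Fin n → F) :
    wtF hD x = ∑ i, (if (∃ j, co hD i j x ≠ 0) then (1 : F) else 0) := by
  unfold wtF supp
  rw [Finset.card_filter]
  push_cast
  rfl

end Adapted

/-! ### the stabiliser of the decomposition preserves the weight -/

section Stab

variable {t m : ℕ} {D : Fin t → Submodule F (Fin n → F)} (hD : Cfsg.Geo.IsMDecomposition m D)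

lemma stab_mulVec_mem {g : GL (Fin n) F} {σ : Equiv.Perm (Fin t)}
    (hσ : ∀ i, (D i).map (Matrix.toLin' (g : Matrix (Fin n) (Fin n) F)) = D (σ i))
    {i : Fin t} {x : Fin n → F} (hx : x ∈ D i) :
    (g : Matrix (Fin n) (Fin n) F) *ᵥ x ∈ D (σ i) := by
  rw [← hσ i]
  exact ⟨x, hx, by simp [Matrix.toLin'_apply]⟩

lemma stab_inv {g : GL (Fin n) F} {σ : Equiv.Perm (Fin t)}
    (hσ : ∀ i, (D i).map (Matrix.toLin' (g : Matrix (Fin n) (Fin n) F)) = D (σ i)) :
    ∀ i, (D i).map (Matrix.toLin' ((g⁻¹ : GL (Fin n) F) : Matrix (Fin n) (Fin n) F)) = D (σ.symm i) := by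
  intro i
  have h := hσ (σ.symm i)
  rw [Equiv.apply_symm_apply] at h
  rw [← h, ← Submodule.map_comp, ← Matrix.toLin'_mul, ← Units.val_mul, inv_mul_cancel, Units.val_one,
    Matrix.toLin'_one, Submodule.map_id]

lemma stab_co_zero {g : GL (Fin n) F} {σ : Equiv.Perm (Fin t)}
    (hσ : ∀ i, (D i).map (Matrix.toLin' (g : Matrix (Fin n) (Fin n) F)) = D (σ i))
    {i : Fin t} {x : Fin n → F} (h : ∀ j, co hD i j x = 0) (j : Fin m) :
    co hD (σ i) j ((g : Matrix (Fin n) (Fin n) F) *ᵥ x) = 0 := by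
  have hx : (g : Matrix (Fin n) (Fin n) F) *ᵥ x
      = ∑ k, (g : Matrix (Fin n) (Fin n) F) *ᵥ part hD k x := by
    conv_lhs => rw [← sum_part hD x]
    rw [← Matrix.toLin'_apply, map_sum]
    simp [Matrix.toLin'_apply]
  rw [hx, map_sum]
  apply Finset.sum_eq_zero
  intro k _
  by_cases hk : k = i
  · subst hk
    rw [part_eq_zero hD h, Matrix.mulVec_zero, map_zero]
  · apply co_of_mem_ne hD (stab_mulVec_mem hσ (part_mem hD k x))
    intro h'
    exact hk (σ.injective h')

lemma stab_supp {g : GL (Fin n) F} {σ : Equiv.Perm (Fin t)}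
    (hσ : ∀ i, (D i).map (Matrix.toLin' (g : Matrix (Fin n) (Fin n) F)) = D (σ i))
    (x : Fin n → F) :
    supp hD ((g : Matrix (Fin n) (Fin n) F) *ᵥ x) = (supp hD x).map σ.toEmbedding := by
  ext i
  rw [Finset.mem_map_equiv, mem_supp, mem_supp]
  constructor
  · intro h
    by_contra hcon
    push Not at hcon
    obtain ⟨j, hj⟩ := h
    have := stab_co_zero hD hσ hcon j
    rw [Equiv.apply_symm_apply] at this
    exact hj this
  · intro h
    by_contra hcon
    push Not at hcon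
    obtain ⟨j, hj⟩ := h
    have := stab_co_zero hD (stab_inv hσ) hcon j
    rw [Matrix.mulVec_mulVec, ← Units.val_mul, inv_mul_cancel, Units.val_one, Matrix.one_mulVec] at this
    exact hj this

lemma stab_le_preserver : Cfsg.Geo.decompositionStabilizer D ≤ preserver (wtF hD) := by
  intro g hg
  obtain ⟨σ, hσ⟩ := hg
  rw [mem_preserver]
  intro x
  unfold wtF
  rw [stab_supp hD hσ, Finset.card_map]

lemma not_mem_stab {k : GL (Fin n) F} {v : Fin n → F} {i₀ : Fin t} (hv : v ∈ D i₀)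
    {i₁ i₂ : Fin t} {j₁ j₂ : Fin m} (h12 : i₁ ≠ i₂)
    (h1 : co hD i₁ j₁ ((k : Matrix (Fin n) (Fin n) F) *ᵥ v) ≠ 0)
    (h2 : co hD i₂ j₂ ((k : Matrix (Fin n) (Fin n) F) *ᵥ v) ≠ 0) :
    k ∉ Cfsg.Geo.decompositionStabilizer D := by
  intro hk
  obtain ⟨σ, hσ⟩ := hk
  have hm := stab_mulVec_mem hσ hv
  by_cases h : σ i₀ = i₁
  · apply h2
    apply co_of_mem_ne hD hm
    rw [h]; exact h12
  · exact h1 (co_of_mem_ne hD hm h j₁)

end Stab

/-! ### an element of `SL` not preserving the weight -/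

section NotAll

variable {t m : ℕ} {D : Fin t → Submodule F (Fin n → F)} (hD : Cfsg.Geo.IsMDecomposition m D)

lemma supp_bas (i₀ : Fin t) (j₀ : Fin m) : supp hD (bas hD ⟨i₀, j₀⟩) = {i₀} := by
  ext i
  rw [mem_supp, Finset.mem_singleton]
  simp only [co_bas]
  constructor
  · rintro ⟨j, hj⟩
    by_contra hne
    apply hj
    rw [if_neg]
    rintro ⟨h, _⟩
    exact hne h.symm
  · rintro rfl
    exact ⟨j₀, by simp⟩

lemma supp_bas_add {i₀ i₁ : Fin t} (h01 : i₀ ≠ i₁) (j₀ : Fin m) :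
    supp hD (bas hD ⟨i₀, j₀⟩ + bas hD ⟨i₁, j₀⟩) = {i₀, i₁} := by
  ext i
  rw [mem_supp, Finset.mem_insert, Finset.mem_singleton]
  simp only [map_add, co_bas]
  constructor
  · rintro ⟨j, hj⟩
    by_contra hne
    push Not at hne
    apply hj
    rw [if_neg, if_neg, add_zero]
    · rintro ⟨h, _⟩
      exact hne.2 h.symm
    · rintro ⟨h, _⟩
      exact hne.1 h.symm
  · rintro (rfl | rfl)
    · refine ⟨j₀, ?_⟩
      rw [if_pos ⟨rfl, rfl⟩, if_neg, add_zero]
      · exact one_ne_zero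
      · rintro ⟨h, _⟩
        exact h01 h.symm
    · refine ⟨j₀, ?_⟩
      rw [if_neg, if_pos ⟨rfl, rfl⟩, zero_add]
      · exact one_ne_zero
      · rintro ⟨h, _⟩
        exact h01 h

lemma exists_not_preserver {i₀ i₁ : Fin t} (h01 : i₀ ≠ i₁) (j₀ : Fin m) :
    ∃ h : GL (Fin n) F, h ∈ Cfsg.Geo.specialLinear (Fin n) F ∧ h ∉ preserver (wtF hD) := by
  have h0 : co hD i₀ j₀ (bas hD ⟨i₁, j₀⟩) = 0 := by
    rw [co_bas, if_neg]
    rintro ⟨h, _⟩
    exact h01 h.symm
  have hne : 1 + co hD i₀ j₀ (bas hD ⟨i₁, j₀⟩) ≠ 0 := by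
    rw [h0, add_zero]
    exact one_ne_zero
  refine ⟨r1GL (bas hD ⟨i₁, j₀⟩) (co hD i₀ j₀) hne, ?_, ?_⟩
  · rw [mem_specialLinear_iff, r1GL_coe, r1_det, h0, add_zero]
  · intro hmem
    rw [mem_preserver] at hmem
    have h := hmem (bas hD ⟨i₀, j₀⟩)
    rw [r1GL_coe, r1_mulVec, co_bas, if_pos ⟨rfl, rfl⟩, one_smul] at h
    unfold wtF at h
    rw [supp_bas_add hD h01, supp_bas, Finset.card_pair h01, Finset.card_singleton] at h
    have h' : (1 : F) + 1 = 1 := by exact_mod_cast h
    simp at h'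

end NotAll

/-! ### the vectors `u_I`, functionals `ψ_I` -/

section UI

variable {t m : ℕ} {D : Fin t → Submodule F (Fin n → F)} (hD : Cfsg.Geo.IsMDecomposition m D)

/-- `∑_{i ∈ I} b (i,j)` -/
noncomputable def uI (I : Finset (Fin t)) (j : Fin m) : Fin n → F := ∑ i ∈ I, bas hD ⟨i, j⟩

/-- `∑_{i ∈ I} co (i,j)` -/
noncomputable def psiI (I : Finset (Fin t)) (j : Fin m) : (Fin n → F) →ₗ[F] F := ∑ i ∈ I, co hD i j

lemma psiI_apply (I : Finset (Fin t)) (j : Fin m) (x : Fin n → F) :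
    psiI hD I j x = ∑ i ∈ I, co hD i j x := by
  unfold psiI
  rw [LinearMap.sum_apply]

lemma co_uI (I : Finset (Fin t)) (j : Fin m) (i : Fin t) (l : Fin m) :
    co hD i l (uI hD I j) = if (i ∈ I ∧ j = l) then 1 else 0 := by
  unfold uI
  rw [map_sum]
  simp only [co_bas]
  by_cases hjl : j = l
  · subst hjl
    simp [Finset.sum_ite_eq']
  · rw [if_neg (fun h => hjl h.2)]
    apply Finset.sum_eq_zero
    intro k _
    rw [if_neg (fun h => hjl h.2)]

lemma psiI_bas (I : Finset (Fin t)) (j' : Fin m) (i₀ : Fin t) (j : Fin m) :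
    psiI hD I j' (bas hD ⟨i₀, j⟩) = if (i₀ ∈ I ∧ j = j') then 1 else 0 := by
  rw [psiI_apply]
  simp only [co_bas]
  by_cases hjl : j = j'
  · subst hjl
    simp [Finset.sum_ite_eq]
  · rw [if_neg (fun h => hjl h.2)]
    apply Finset.sum_eq_zero
    intro k _
    rw [if_neg (fun h => hjl h.2)]

lemma psiI_uI (I : Finset (Fin t)) (j' j : Fin m) :
    psiI hD I j' (uI hD I j) = if j = j' then (I.card : F) else 0 := by
  rw [psiI_apply]
  simp only [co_uI]
  by_cases hjl : j = j'
  · subst hjl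
    rw [if_pos rfl, Finset.sum_congr rfl (fun i hi => if_pos ⟨hi, rfl⟩)]
    simp
  · rw [if_neg hjl]
    apply Finset.sum_eq_zero
    intro k _
    rw [if_neg (fun h => hjl h.2)]

end UI

end Cfsg.Agent.Lib.Helper98_Decomp
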