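import Mathlib
import Cfsg.Prelude.Def_GeometricClasses
import Cfsg.Agent.Lib.Helper98_Decomp
import Cfsg.Agent.Lib.Helper5_SLGen
import Cfsg.Agent.Lib.Helper5_PSLSimple
import Cfsg.Agent.Lib.Helper13_ExtField
import Cfsg.Agent.Lib.Helper63_SpExt_QB1

/-!
helper30: tools for the rows "maximal subgroups of `SL_n(F)` lie in the classes of Aschbacher's theorem"
(S5775, S5793, S5808, S5853, ...): the special linear group is contained in no member of a geometric class,
so a maximal subgroup `H ≤ M` equals `M ⊓ SL_n`; arithmetic of the class data.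
-/

set_option autoImplicit false

namespace Cfsg.Agent.Lib.Helper30_AschMax

open Matrix Cfsg.Geo Cfsg.Agent.Lib.Helper98_Decomp
open scoped commutatorElement

variable {F : Type*} [Field F] {n : ℕ}

/-! ### transvections -/

/-- the transvection `x ↦ x + φ x • w` (`φ w = 0`) as an element of `GL` -/
noncomputable def tv (w : Fin n → F) (φ : (Fin n → F) →ₗ[F] F) (h : φ w = 0) : GL (Fin n) F :=
  r1GL w φ (by rw [h, add_zero]; exact one_ne_zero)

lemma tv_mulVec (w : Fin n → F) (φ : (Fin n → F) →ₗ[F] F) (h : φ w = 0) (x : Fin n → F) :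
    ((tv w φ h : GL (Fin n) F) : Matrix (Fin n) (Fin n) F) *ᵥ x = x + φ x • w := by
  rw [tv, r1GL_coe, r1_mulVec]

lemma tv_mem (w : Fin n → F) (φ : (Fin n → F) →ₗ[F] F) (h : φ w = 0) :
    tv w φ h ∈ specialLinear (Fin n) F := by
  rw [mem_specialLinear_iff, tv, r1GL_coe, r1_det, h, add_zero]

lemma exists_dual {x w : Fin n → F} (hx : x ∉ Submodule.span F {w}) :
    ∃ φ : (Fin n → F) →ₗ[F] F, φ w = 0 ∧ φ x = 1 := by
  obtain ⟨φ, hφx, hφw⟩ := Submodule.exists_le_ker_of_notMem hx
  have hw : φ w = 0 := hφw (Submodule.mem_span_singleton_self w)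
  refine ⟨(φ x)⁻¹ • φ, ?_, ?_⟩
  · simp [hw]
  · simp [inv_mul_cancel₀ hφx]

lemma not_mem_span_of_ne {x w : Fin n → F} {W : Submodule F (Fin n → F)} (hx : x ∈ W) (hx0 : x ≠ 0)
    (hw : w ∉ W) : x ∉ Submodule.span F {w} := by
  intro h
  obtain ⟨c, rfl⟩ := Submodule.mem_span_singleton.mp h
  have hc : c ≠ 0 := by
    rintro rfl
    exact hx0 (zero_smul _ _)
  apply hw
  have : w = c⁻¹ • (c • w) := by rw [smul_smul, inv_mul_cancel₀ hc, one_smul]
  rw [this]
  exact W.smul_mem _ hx

/-! ### the glue: a maximal subgroup contained in `M` is `M ⊓ SL` -/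

theorem eq_inf_of_le {H M : Subgroup (GL (Fin n) F)}
    (hH : IsMaximalIn (specialLinear (Fin n) F) H) (hHM : H ≤ M)
    (hM : ¬ specialLinear (Fin n) F ≤ M) : H = M ⊓ specialLinear (Fin n) F := by
  rcases hH.2 (M ⊓ specialLinear (Fin n) F) (le_inf hHM hH.1.le) inf_le_right with h | h
  · exact h.symm
  · exact absurd (h ▸ inf_le_left) hM

/-! ### class 1 -/

theorem not_le_subspaceStabilizer (W : Submodule F (Fin n → F)) (hW0 : W ≠ ⊥) (hW1 : W ≠ ⊤) :
    ¬ specialLinear (Fin n) F ≤ subspaceStabilizer W := by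
  intro hle
  obtain ⟨w, hwW, hw0⟩ := Submodule.exists_mem_ne_zero_of_ne_bot hW0
  obtain ⟨y, -, hyW⟩ := SetLike.exists_of_lt (lt_top_iff_ne_top.mpr hW1)
  obtain ⟨φ, hφy, hφw⟩ := exists_dual (not_mem_span_of_ne hwW hw0 hyW)
  have hmem : tv y φ hφy ∈ subspaceStabilizer W := hle (tv_mem y φ hφy)
  have h1 : ((tv y φ hφy : GL (Fin n) F) : Matrix (Fin n) (Fin n) F) *ᵥ w ∈ W := (hmem w).mp hwW
  rw [tv_mulVec, hφw, one_smul] at h1
  exact hyW ((W.add_mem_iff_right hwW).mp h1)


/-! ### `SL` inside `GL`: perfectness, central extensions -/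

lemma specialLinear_eq_range :
    specialLinear (Fin n) F =
      (Matrix.SpecialLinearGroup.toGL : Matrix.SpecialLinearGroup (Fin n) F →* GL (Fin n) F).range := by
  ext g
  rw [mem_specialLinear_iff, MonoidHom.mem_range]
  constructor
  · intro h
    exact ⟨⟨(g : Matrix (Fin n) (Fin n) F), h⟩, Units.ext rfl⟩
  · rintro ⟨A, rfl⟩
    exact A.2

instance specialLinear_normal : (specialLinear (Fin n) F).Normal := by
  unfold specialLinear
  infer_instance

theorem commutator_specialLinear (hn : 3 ≤ n) :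
    ⁅specialLinear (Fin n) F, specialLinear (Fin n) F⁆ = specialLinear (Fin n) F := by
  have h := Cfsg.Agent.Lib.Helper5_SLGen.commutator_eq_top_of_three_le_card (F := F) (ι := Fin n)
    (by simpa using hn)
  rw [commutator_def] at h
  rw [specialLinear_eq_range, MonoidHom.range_eq_map, ← Subgroup.map_commutator, h]

lemma scalars_comm {z : GL (Fin n) F} (hz : z ∈ scalars (Fin n) F) (g : GL (Fin n) F) :
    z * g = g * z := by
  obtain ⟨c, hc⟩ := (mem_scalars_iff z).mp hz
  apply Units.ext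
  rw [Units.val_mul, Units.val_mul, hc]
  simp

/-- in any group: if `S ≤ H ⊔ Z` with `Z` central then `⁅S, S⁆ ≤ H` -/
lemma commutator_le_of_le_sup_central {G : Type*} [Group G] {H Z S : Subgroup G}
    (hZ : ∀ z ∈ Z, ∀ g : G, z * g = g * z) (hS : S ≤ H ⊔ Z) : ⁅S, S⁆ ≤ H := by
  have hZn : Z.Normal := ⟨fun z hz g => by rw [← hZ z hz g, mul_inv_cancel_right]; exact hz⟩
  rw [Subgroup.commutator_le]
  intro a ha b hb
  obtain ⟨h₁, hh₁, z₁, hz₁, rfl⟩ := Subgroup.mem_sup_of_normal_right.mp (hS ha)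
  obtain ⟨h₂, hh₂, z₂, hz₂, rfl⟩ := Subgroup.mem_sup_of_normal_right.mp (hS hb)
  have e : ⁅h₁ * z₁, h₂ * z₂⁆ = ⁅h₁, h₂⁆ := by
    have c1 := hZ z₁ hz₁
    have c2 := hZ z₂ hz₂
    rw [commutatorElement_def, commutatorElement_def, _root_.mul_inv_rev, _root_.mul_inv_rev]
    calc h₁ * z₁ * (h₂ * z₂) * (z₁⁻¹ * h₁⁻¹) * (z₂⁻¹ * h₂⁻¹)
        = h₁ * (z₁ * (h₂ * z₂ * z₁⁻¹)) * h₁⁻¹ * (z₂⁻¹ * h₂⁻¹) := by group
      _ = h₁ * (h₂ * z₂) * h₁⁻¹ * (z₂⁻¹ * h₂⁻¹) := by
          rw [c1 (h₂ * z₂ * z₁⁻¹), inv_mul_cancel_right]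
      _ = h₁ * h₂ * (z₂ * (h₁⁻¹ * z₂⁻¹)) * h₂⁻¹ := by group
      _ = h₁ * h₂ * h₁⁻¹ * h₂⁻¹ := by
          rw [c2 (h₁⁻¹ * z₂⁻¹), inv_mul_cancel_right]
  rw [e, commutatorElement_def]
  exact H.mul_mem (H.mul_mem (H.mul_mem hh₁ hh₂) (H.inv_mem hh₁)) (H.inv_mem hh₂)

/-- the hypothesis `hproper` of the frozen Aschbacher theorem follows from maximality -/
theorem sup_scalars_ne (hn : 3 ≤ n) {H : Subgroup (GL (Fin n) F)}
    (hH : IsMaximalIn (specialLinear (Fin n) F) H) :
    H ⊔ (scalars (Fin n) F ⊓ specialLinear (Fin n) F) ≠ specialLinear (Fin n) F := by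
  intro heq
  have h1 : ⁅specialLinear (Fin n) F, specialLinear (Fin n) F⁆ ≤ H :=
    commutator_le_of_le_sup_central (Z := scalars (Fin n) F ⊓ specialLinear (Fin n) F)
      (fun z hz g => scalars_comm hz.1 g) heq.ge
  rw [commutator_specialLinear hn] at h1
  exact (not_le_of_gt hH.1) h1

/-! ### class 2 -/

theorem not_le_decompositionStabilizer {t m : ℕ} {D : Fin t → Submodule F (Fin n → F)}
    (hD : IsMDecomposition m D) : ¬ specialLinear (Fin n) F ≤ decompositionStabilizer D := by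
  intro hle
  have ht := hD.two_le
  have hm := hD.pos
  obtain ⟨h, hS, hnot⟩ := exists_not_preserver hD (i₀ := ⟨0, by omega⟩) (i₁ := ⟨1, by omega⟩)
    (by simp [Fin.ext_iff]) ⟨0, hm⟩
  exact hnot (stab_le_preserver hD (hle hS))

/-! ### class 3 -/

theorem not_le_subalgebraNormalizer (hn : 3 ≤ n) {r : ℕ} (hr : 1 < r)
    {K : Subalgebra F (Matrix (Fin n) (Fin n) F)} (hK : IsFieldSubalgebra r K) :
    ¬ specialLinear (Fin n) F ≤ subalgebraNormalizer K := by
  intro hle
  have : Nonempty (Fin n) := ⟨⟨0, by omega⟩⟩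
  -- a non-scalar element of `K`
  have hex : ∃ θ ∈ K, θ ∉ Set.range (Matrix.scalar (Fin n) : F → Matrix (Fin n) (Fin n) F) := by
    by_contra hcon
    push Not at hcon
    have hKbot : K = ⊥ := by
      rw [eq_bot_iff]
      intro x hx
      obtain ⟨c, hc⟩ := hcon x hx
      rw [Algebra.mem_bot]
      exact ⟨c, by rw [← hc]; rfl⟩
    have := hK.finrank_eq
    rw [hKbot, Subalgebra.finrank_bot] at this
    omega
  obtain ⟨θ, hθK, hθ⟩ := hex
  obtain ⟨i, j, hij, hnot⟩ := Cfsg.Agent.Lib.Helper13_ExtField.exists_transUnit_not_mem hn K hK.inv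
    (K : Set (Matrix (Fin n) (Fin n) F)) (fun x hx => hx) θ hθK hθ
  exact hnot (hle (Cfsg.Agent.Lib.Helper13_ExtField.transUnit_mem_specialLinear i j hij))

theorem dvd_of_isFieldSubalgebra (hn : 0 < n) {r : ℕ}
    {K : Subalgebra F (Matrix (Fin n) (Fin n) F)} (hK : IsFieldSubalgebra r K) : r ∣ n := by
  have : Nonempty (Fin n) := ⟨⟨0, hn⟩⟩
  have h := Cfsg.Agent.Lib.Helper63_SpExt_QB1.QB1 r K hK ⊤ (fun _ _ _ _ => Submodule.mem_top)
  rwa [finrank_top, Module.finrank_fin_fun] at h


/-! ### class 5 -/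

/-- the elementary transvection `1 + a E₀₁` -/
lemma exists_elementary (hn : 2 ≤ n) (a : F) :
    ∃ g : GL (Fin n) F, g ∈ specialLinear (Fin n) F ∧
      (g : Matrix (Fin n) (Fin n) F) ⟨0, by omega⟩ ⟨0, by omega⟩ = 1 ∧
      (g : Matrix (Fin n) (Fin n) F) ⟨0, by omega⟩ ⟨1, by omega⟩ = a := by
  classical
  set i0 : Fin n := ⟨0, by omega⟩ with hi0
  set i1 : Fin n := ⟨1, by omega⟩ with hi1
  have h01 : i0 ≠ i1 := by simp [hi0, hi1, Fin.ext_iff]
  let φ : (Fin n → F) →ₗ[F] F := a • (LinearMap.proj i1 : (Fin n → F) →ₗ[F] F)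
  have hφ : φ (Pi.single i0 1) = 0 := by
    simp [φ, h01.symm]
  refine ⟨tv (Pi.single i0 1) φ hφ, tv_mem _ _ _, ?_, ?_⟩
  · have h := congrFun (tv_mulVec (Pi.single i0 1) φ hφ (Pi.single i0 1)) i0
    rw [Matrix.mulVec_single_one] at h
    rw [Matrix.col_apply] at h
    rw [h, hφ]
    simp
  · have h := congrFun (tv_mulVec (Pi.single i0 1) φ hφ (Pi.single i1 1)) i0
    rw [Matrix.mulVec_single_one] at h
    rw [Matrix.col_apply] at h
    rw [h]
    simp [φ, h01]

theorem not_le_subfieldSubgroup (hn : 2 ≤ n) (F₀ : Subfield F) (hF₀ : F₀ ≠ ⊤) (P : GL (Fin n) F) :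
    ¬ specialLinear (Fin n) F ≤ subfieldSubgroup F₀ P := by
  intro hle
  apply hF₀
  rw [eq_top_iff]
  intro a _
  obtain ⟨g, hgS, hg00, hg01⟩ := exists_elementary hn a
  -- `g` lies in the unconjugated group
  have hgX : g ∈ (Matrix.GeneralLinearGroup.map (F₀.subtype : F₀ →+* F)).range ⊔ scalars (Fin n) F := by
    have h1 : P * g * P⁻¹ ∈ specialLinear (Fin n) F :=
      specialLinear_normal.conj_mem g hgS P
    obtain ⟨x, hx, hxe⟩ := Subgroup.mem_map.mp (hle h1)
    have : x = g := by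
      have h2 : P * x * P⁻¹ = P * g * P⁻¹ := by simpa [MulAut.conj_apply] using hxe
      have h3 := congrArg (fun y => P⁻¹ * y * P) h2
      simpa [mul_assoc] using h3
    rwa [this] at hx
  obtain ⟨y, hy, z, hz, rfl⟩ := Subgroup.mem_sup_of_normal_right.mp hgX
  obtain ⟨y₀, rfl⟩ := hy
  obtain ⟨c, hc⟩ := (mem_scalars_iff z).mp hz
  have hent : ∀ i j, ((Matrix.GeneralLinearGroup.map (F₀.subtype : F₀ →+* F) y₀ * z : GL (Fin n) F) :
      Matrix (Fin n) (Fin n) F) i j = ((y₀ : Matrix (Fin n) (Fin n) F₀) i j : F) * (c : F) := by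
    intro i j
    rw [Units.val_mul, hc, Matrix.mul_smul, Matrix.mul_one, Matrix.smul_apply, smul_eq_mul, mul_comm]
    rfl
  rw [hent] at hg00 hg01
  have hc0 : (c : F) ≠ 0 := c.ne_zero
  have hcF : (c : F) ∈ F₀ := by
    have : (c : F) = (((y₀ : Matrix (Fin n) (Fin n) F₀) ⟨0, by omega⟩ ⟨0, by omega⟩ : F₀) : F)⁻¹ := by
      exact eq_inv_of_mul_eq_one_right hg00
    rw [this]
    exact F₀.inv_mem (SetLike.coe_mem _)
  rw [← hg01]
  exact F₀.mul_mem (SetLike.coe_mem _) hcF

lemma subfield_ne_top [Fintype F] {F₀ : Subfield F} {r : ℕ} (hr : r.Prime)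
    (hcard : Fintype.card F = Nat.card F₀ ^ r) : F₀ ≠ ⊤ := by
  rintro rfl
  have h1 : Nat.card (⊤ : Subfield F) = Fintype.card F := by
    rw [← Nat.card_eq_fintype_card]
    exact Nat.card_congr (Subfield.topEquiv (K := F)).toEquiv
  rw [h1] at hcard
  have h2 : 1 < Fintype.card F := Fintype.one_lt_card
  have h3 : Fintype.card F ^ 1 = Fintype.card F ^ r := by rw [pow_one]; exact hcard
  have := Nat.pow_right_injective h2 h3
  exact hr.one_lt.ne this

/-! ### class 8 -/

theorem not_le_similarityGroup_unitary (hn : 2 ≤ n) {σ : F ≃+* F}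
    {f : (Fin n → F) → (Fin n → F) → F} (hf : IsUnitaryForm σ f) :
    ¬ specialLinear (Fin n) F ≤ similarityGroup f := by
  intro hle
  -- an anisotropic vector
  have haniso : ∃ w, f w w ≠ 0 := by
    by_contra hcon
    push Not at hcon
    have hfr : ∀ v x y, f v (x + y) = f v x + f v y := by
      intro v x y
      rw [hf.herm v (x + y), hf.add_left, map_add, ← hf.herm, ← hf.herm]
    have hskew : ∀ u v, f u v = - σ (f u v) := by
      intro u v
      have h := hcon (u + v)
      rw [hf.add_left, hfr, hfr, hcon u, hcon v, zero_add, add_zero] at h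
      rw [← hf.herm v u]
      exact eq_neg_of_add_eq_zero_left h
    set u : Fin n → F := Pi.single ⟨0, by omega⟩ 1 with hu
    have hu0 : u ≠ 0 := by
      intro h
      have := congrFun h ⟨0, by omega⟩
      simp [hu] at this
    obtain ⟨x, hx⟩ := (hf.nondegenerate u hu0).1
    have hall : ∀ a : F, a = - σ a := by
      intro a
      have h := hskew ((a / f x u) • x) u
      rw [hf.smul_left, div_mul_cancel₀ _ hx] at h
      exact h
    have h1 : (1 : F) = -1 := by simpa using hall 1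
    apply hf.ne_refl
    ext a
    have := hall a
    rw [RingEquiv.refl_apply]
    have h2 : σ a = - a := by rw [eq_neg_iff_add_eq_zero, add_comm, ← eq_neg_iff_add_eq_zero]; exact this
    rw [h2]
    calc -a = (-1) * a := by ring
      _ = 1 * a := by rw [← h1]
      _ = a := one_mul a
  obtain ⟨w, hw⟩ := haniso
  let ψ : (Fin n → F) →ₗ[F] F :=
    { toFun := fun y => f y w
      map_add' := fun x y => hf.add_left x y w
      map_smul' := fun c x => by simpa using hf.smul_left c x w }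
  have hker : LinearMap.ker ψ ≠ ⊥ := by
    apply LinearMap.ker_ne_bot_of_finrank_lt
    rw [Module.finrank_self, Module.finrank_fin_fun]
    omega
  obtain ⟨y, hyk, hy0⟩ := Submodule.exists_mem_ne_zero_of_ne_bot hker
  have hyw : f y w = 0 := hyk
  have hyspan : y ∉ Submodule.span F {w} := by
    intro h
    obtain ⟨c, rfl⟩ := Submodule.mem_span_singleton.mp h
    rw [hf.smul_left] at hyw
    rcases mul_eq_zero.mp hyw with h0 | h0
    · exact hy0 (by rw [h0, zero_smul])
    · exact hw h0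
  obtain ⟨φ, hφw, hφy⟩ := exists_dual hyspan
  obtain ⟨c, hc⟩ := hle (tv_mem w φ hφw)
  have h := hc y w
  rw [tv_mulVec, tv_mulVec, hφw, hφy, zero_smul, add_zero, one_smul, hf.add_left, hyw, zero_add,
    mul_zero] at h
  exact hw h

theorem not_le_quadSimilarityGroup (hn : 2 ≤ n) (h2 : (2 : F) ≠ 0) {Q : (Fin n → F) → F}
    (hQ : IsNondegenerateQuadraticForm Q) : ¬ specialLinear (Fin n) F ≤ quadSimilarityGroup Q := by
  intro hle
  have hex : ∃ w, Q w ≠ 0 := by
    by_contra hcon
    push Not at hcon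
    set u : Fin n → F := Pi.single ⟨0, by omega⟩ 1 with hu
    have hu0 : u ≠ 0 := by
      intro h
      have := congrFun h ⟨0, by omega⟩
      simp [hu] at this
    obtain ⟨x, hx⟩ := (hQ.nondegenerate u hu0).1
    apply hx
    simp [QuadraticMap.polar, hcon]
  obtain ⟨w, hw⟩ := hex
  have hww : QuadraticMap.polar Q w w = 2 * Q w := by
    have h := hQ.smul 2 w
    have e : w + w = (2 : F) • w := by rw [two_smul]
    rw [QuadraticMap.polar, e, h]
    ring
  let ψ : (Fin n → F) →ₗ[F] F :=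
    { toFun := fun y => QuadraticMap.polar Q y w
      map_add' := fun x y => hQ.polar_bilinear.add_left x y w
      map_smul' := fun c x => by simpa using hQ.polar_bilinear.smul_left c x w }
  have hker : LinearMap.ker ψ ≠ ⊥ := by
    apply LinearMap.ker_ne_bot_of_finrank_lt
    rw [Module.finrank_self, Module.finrank_fin_fun]
    omega
  obtain ⟨y, hyk, hy0⟩ := Submodule.exists_mem_ne_zero_of_ne_bot hker
  have hyw : QuadraticMap.polar Q y w = 0 := hyk
  have hyspan : y ∉ Submodule.span F {w} := by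
    intro h
    obtain ⟨c, rfl⟩ := Submodule.mem_span_singleton.mp h
    rw [hQ.polar_bilinear.smul_left, hww] at hyw
    rcases mul_eq_zero.mp hyw with h0 | h0
    · exact hy0 (by rw [h0, zero_smul])
    · rcases mul_eq_zero.mp h0 with h1 | h1
      · exact h2 h1
      · exact hw h1
  obtain ⟨φ, hφw, hφy⟩ := exists_dual hyspan
  obtain ⟨c, hc⟩ := hle (tv_mem w φ hφw)
  have hcw := hc w
  rw [tv_mulVec, hφw, zero_smul, add_zero] at hcw
  have hc1 : (c : F) = 1 := by
    have : (1 - (c : F)) * Q w = 0 := by rw [sub_mul, one_mul, ← hcw, sub_self]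
    rcases mul_eq_zero.mp this with h0 | h0
    · exact (sub_eq_zero.mp h0).symm
    · exact absurd h0 hw
  have hcy := hc y
  rw [tv_mulVec, hφy, one_smul, hc1, one_mul] at hcy
  have : Q (y + w) = Q y + Q w + QuadraticMap.polar Q y w := by
    rw [QuadraticMap.polar]; ring
  rw [this, hyw, add_zero] at hcy
  exact hw (by linear_combination hcy)


/-! ### normal subgroups of `SL_n(F)` -/

/-- a subgroup of `SL_n(F)` (`3 ≤ n`) normalized by `SL_n(F)` is scalar or everything -/
theorem le_scalars_or_eq (hn : 3 ≤ n) {N : Subgroup (GL (Fin n) F)}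
    (hNS : N ≤ specialLinear (Fin n) F)
    (hnorm : ∀ s ∈ specialLinear (Fin n) F, ∀ x ∈ N, s * x * s⁻¹ ∈ N) :
    N ≤ scalars (Fin n) F ∨ N = specialLinear (Fin n) F := by
  classical
  let N' : Subgroup (Matrix.SpecialLinearGroup (Fin n) F) :=
    N.comap (Matrix.SpecialLinearGroup.toGL : Matrix.SpecialLinearGroup (Fin n) F →* GL (Fin n) F)
  have hN'n : N'.Normal := ⟨fun x hx g => by
    show Matrix.SpecialLinearGroup.toGL (g * x * g⁻¹) ∈ N
    rw [map_mul, map_mul, map_inv]
    exact hnorm _ (by rw [specialLinear_eq_range]; exact ⟨g, rfl⟩) _ hx⟩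
  have hsimple := Cfsg.Agent.Lib.Helper5_PSLSimple.psl_simple (F := F) (ι := Fin n) (by simpa using hn)
  have hmapn : (N'.map (QuotientGroup.mk' (Subgroup.center (Matrix.SpecialLinearGroup (Fin n) F)))).Normal :=
    Subgroup.Normal.map hN'n _ (QuotientGroup.mk'_surjective _)
  rcases hmapn.eq_bot_or_eq_top with h | h
  · left
    have hle : N' ≤ Subgroup.center (Matrix.SpecialLinearGroup (Fin n) F) := by
      rw [Subgroup.map_eq_bot_iff, QuotientGroup.ker_mk'] at h
      exact h
    intro x hx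
    obtain ⟨A, rfl⟩ : ∃ A, Matrix.SpecialLinearGroup.toGL A = x := by
      have := hNS hx
      rw [specialLinear_eq_range] at this
      exact this
    have hA : A ∈ Subgroup.center (Matrix.SpecialLinearGroup (Fin n) F) := hle hx
    rw [Matrix.SpecialLinearGroup.mem_center_iff] at hA
    obtain ⟨r, hr, hrA⟩ := hA
    have hr0 : r ≠ 0 := by
      rintro rfl
      rw [Fintype.card_fin, zero_pow (by omega)] at hr
      exact zero_ne_one hr
    rw [mem_scalars_iff]
    refine ⟨Units.mk0 r hr0, ?_⟩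
    rw [Matrix.SpecialLinearGroup.coe_GL_coe_matrix, ← hrA, Units.val_mk0]
    rw [Matrix.scalar_apply, Matrix.smul_one_eq_diagonal]
  · right
    have hsup : N' ⊔ Subgroup.center (Matrix.SpecialLinearGroup (Fin n) F) = ⊤ := by
      have := congrArg (Subgroup.comap
        (QuotientGroup.mk' (Subgroup.center (Matrix.SpecialLinearGroup (Fin n) F)))) h
      rw [Subgroup.comap_map_eq, QuotientGroup.ker_mk', Subgroup.comap_top] at this
      exact this
    have hcomm : ⁅(⊤ : Subgroup (Matrix.SpecialLinearGroup (Fin n) F)), ⊤⁆ ≤ N' :=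
      commutator_le_of_le_sup_central
        (Z := Subgroup.center (Matrix.SpecialLinearGroup (Fin n) F))
        (fun z hz g => (Subgroup.mem_center_iff.mp hz g).symm) (by rw [hsup])
    rw [← commutator_def, Cfsg.Agent.Lib.Helper5_SLGen.commutator_eq_top_of_three_le_card (F := F)
      (ι := Fin n) (by simpa using hn)] at hcomm
    apply le_antisymm hNS
    rw [specialLinear_eq_range]
    rintro _ ⟨A, rfl⟩
    exact hcomm (Subgroup.mem_top A)

/-! ### class 6 -/

lemma not_irreducible_of_le_scalars (hn : 2 ≤ n) {R : Subgroup (GL (Fin n) F)}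
    (hR : R ≤ scalars (Fin n) F) : ¬ ActsIrreducibly (matrixSet R) := by
  intro h
  set u : Fin n → F := Pi.single ⟨0, by omega⟩ 1 with hu
  have hu0 : u ≠ 0 := by
    intro h
    have := congrFun h ⟨0, by omega⟩
    simp [hu] at this
  have hinv : ∀ s ∈ matrixSet R, (Submodule.span F {u}).map (Matrix.toLin' s) ≤ Submodule.span F {u} := by
    rintro _ ⟨g, hg, rfl⟩
    obtain ⟨c, hc⟩ := (mem_scalars_iff g).mp (hR hg)
    rintro _ ⟨v, hv, rfl⟩
    rw [Matrix.toLin'_apply]
    dsimp only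
    rw [hc, Matrix.smul_mulVec, Matrix.one_mulVec]
    exact Submodule.smul_mem _ _ hv
  rcases h _ hinv with h0 | h1
  · have : u ∈ Submodule.span F {u} := Submodule.mem_span_singleton_self u
    rw [h0, Submodule.mem_bot] at this
    exact hu0 this
  · have h2 := finrank_span_singleton (K := F) hu0
    rw [h1, finrank_top, Module.finrank_fin_fun] at h2
    omega

lemma mem_scalars_of_commute (hn : 1 ≤ n) {x : GL (Fin n) F}
    (h : ∀ s ∈ specialLinear (Fin n) F, s * x = x * s) : x ∈ scalars (Fin n) F := by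
  have hx : (x : Matrix (Fin n) (Fin n) F) ∈ Set.range (Matrix.scalar (Fin n)) := by
    apply Matrix.mem_range_scalar_of_commute_single
    intro i j hij
    have h1 := h _ (Cfsg.Agent.Lib.Helper13_ExtField.transUnit_mem_specialLinear (F := F) i j hij)
    have h2 := congrArg (fun g : GL (Fin n) F => (g : Matrix (Fin n) (Fin n) F)) h1
    simp only [Units.val_mul, Cfsg.Agent.Lib.Helper13_ExtField.val_transUnit] at h2
    rw [Matrix.transvection, add_mul, mul_add, one_mul, mul_one] at h2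
    exact add_left_cancel h2
  obtain ⟨c, hc⟩ := hx
  have hc0 : c ≠ 0 := by
    rintro rfl
    have h1 : (x : Matrix (Fin n) (Fin n) F) = 0 := by rw [← hc]; simp
    have h2 := x.mul_inv
    rw [h1, zero_mul] at h2
    have : Nonempty (Fin n) := ⟨⟨0, by omega⟩⟩
    exact zero_ne_one h2
  rw [mem_scalars_iff]
  refine ⟨Units.mk0 c hc0, ?_⟩
  rw [← hc, Units.val_mk0, Matrix.scalar_apply, Matrix.smul_one_eq_diagonal]

theorem not_le_subgroupNormalizer (hn : 3 ≤ n) {R : Subgroup (GL (Fin n) F)}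
    (hirr : ActsIrreducibly (matrixSet R)) (hne : ¬ specialLinear (Fin n) F ≤ R) :
    ¬ specialLinear (Fin n) F ≤ subgroupNormalizer R := by
  intro hle
  have hnorm : ∀ s ∈ specialLinear (Fin n) F, ∀ x ∈ R ⊓ specialLinear (Fin n) F,
      s * x * s⁻¹ ∈ R ⊓ specialLinear (Fin n) F := by
    intro s hs x hx
    refine ⟨?_, specialLinear_normal.conj_mem x hx.2 s⟩
    exact (Subgroup.mem_normalizer_iff.mp (hle hs) x).mp hx.1
  rcases le_scalars_or_eq hn inf_le_right hnorm with h | h
  · -- `⁅S, R⁆` is scalar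
    have hSR : ⁅specialLinear (Fin n) F, R⁆ ≤ scalars (Fin n) F := by
      rw [Subgroup.commutator_le]
      intro s hs x hx
      apply h
      rw [commutatorElement_def]
      refine ⟨?_, ?_⟩
      · exact R.mul_mem ((Subgroup.mem_normalizer_iff.mp (hle hs) x).mp hx) (R.inv_mem hx)
      · have : s * x * s⁻¹ * x⁻¹ = s * (x * s⁻¹ * x⁻¹) := by group
        rw [this]
        exact Subgroup.mul_mem _ hs (specialLinear_normal.conj_mem _ (Subgroup.inv_mem _ hs) x)
    have hcent : ⁅specialLinear (Fin n) F, R⁆ ≤ Subgroup.centralizer (specialLinear (Fin n) F : Set (GL (Fin n) F)) := by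
      intro z hz
      rw [Subgroup.mem_centralizer_iff]
      intro g _
      exact (scalars_comm (hSR hz) g).symm
    have h1 : ⁅⁅specialLinear (Fin n) F, R⁆, specialLinear (Fin n) F⁆ = ⊥ :=
      Subgroup.commutator_eq_bot_iff_le_centralizer.mpr hcent
    have h2 : ⁅⁅R, specialLinear (Fin n) F⁆, specialLinear (Fin n) F⁆ = ⊥ := by
      rw [Subgroup.commutator_comm R]
      exact h1
    have h3 := Subgroup.commutator_commutator_eq_bot_of_rotate h1 h2
    rw [commutator_specialLinear hn, Subgroup.commutator_eq_bot_iff_le_centralizer] at h3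
    apply not_irreducible_of_le_scalars (by omega) _ hirr
    intro x hx
    apply mem_scalars_of_commute (by omega)
    intro s hs
    have := Subgroup.mem_centralizer_iff.mp (h3 hs) x hx
    exact this.symm
  · exact hne (h ▸ inf_le_left)

lemma tv_pow_mulVec (w : Fin n → F) (φ : (Fin n → F) →ₗ[F] F) (h : φ w = 0) (m : ℕ) (x : Fin n → F) :
    (((tv w φ h) ^ m : GL (Fin n) F) : Matrix (Fin n) (Fin n) F) *ᵥ x = x + (m : F) • (φ x • w) := by
  induction m generalizing x with
  | zero => simp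
  | succ m ih =>
    rw [pow_succ, Units.val_mul, ← Matrix.mulVec_mulVec, tv_mulVec, ih]
    simp only [map_add, map_smul, h, smul_eq_mul, mul_zero, add_zero]
    push_cast
    module

lemma not_le_of_isPGroup (hn : 2 ≤ n) {p r : ℕ} [CharP F p] (hp : p.Prime) (hr : r.Prime) (hrp : r ≠ p)
    {R : Subgroup (GL (Fin n) F)} (hR : IsPGroup r R) : ¬ specialLinear (Fin n) F ≤ R := by
  classical
  intro hle
  set i0 : Fin n := ⟨0, by omega⟩ with hi0
  set i1 : Fin n := ⟨1, by omega⟩ with hi1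
  have h01 : i0 ≠ i1 := by simp [hi0, hi1, Fin.ext_iff]
  let φ : (Fin n → F) →ₗ[F] F := (LinearMap.proj i1 : (Fin n → F) →ₗ[F] F)
  have hφ : φ (Pi.single i0 1) = 0 := by
    simp [φ, h01.symm]
  obtain ⟨k, hk⟩ := hR ⟨tv (Pi.single i0 1) φ hφ, hle (tv_mem _ _ _)⟩
  have hk' : (tv (Pi.single i0 1) φ hφ) ^ (r ^ k) = 1 := by
    have := congrArg Subtype.val hk
    simpa using this
  have h1 := tv_pow_mulVec (Pi.single i0 1) φ hφ (r ^ k) (Pi.single i1 1)
  rw [hk', Units.val_one, Matrix.one_mulVec] at h1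
  have h2 := congrFun h1 i0
  have hφ1 : φ (Pi.single i1 1) = 1 := by simp [φ]
  rw [hφ1, one_smul] at h2
  simp only [Pi.add_apply, Pi.smul_apply, Pi.single_eq_same, smul_eq_mul, mul_one] at h2
  have h3 : ((r ^ k : ℕ) : F) = 0 := by
    have : (Pi.single i1 (1 : F) : Fin n → F) i0 = 0 := by simp [h01]
    rw [this, zero_add] at h2
    exact h2.symm
  rw [CharP.cast_eq_zero_iff F p] at h3
  have := (Nat.prime_dvd_prime_iff_eq hp hr).mp (hp.dvd_of_dvd_pow h3)
  exact hrp this.symm


/-- the degree of an absolutely irreducible `r`-group is divisible by `r` (if `2 ≤ n`) -/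
theorem dvd_of_isPGroup_absIrr [Finite F] (hn : 2 ≤ n) {r : ℕ} (hr : r.Prime)
    {R : Subgroup (GL (Fin n) F)} (hR : IsPGroup r R)
    (habs : ActsAbsolutelyIrreducibly (matrixSet R)) : r ∣ n := by
  classical
  have : Fact r.Prime := ⟨hr⟩
  have : Finite (GL (Fin n) F) := by
    have : Fintype F := Fintype.ofFinite F
    infer_instance
  -- `R` is not commutative
  have hscal : ∀ x : GL (Fin n) F, x ∈ R → (∀ y ∈ R, y * x = x * y) → x ∈ scalars (Fin n) F := by
    intro x hx hcomm
    obtain ⟨c, hc⟩ := habs.2 (x : Matrix (Fin n) (Fin n) F) (by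
      rintro _ ⟨y, hy, rfl⟩
      have := congrArg (fun g : GL (Fin n) F => (g : Matrix (Fin n) (Fin n) F)) (hcomm y hy)
      simpa using this.symm)
    have hc0 : c ≠ 0 := by
      rintro rfl
      have h1 : (x : Matrix (Fin n) (Fin n) F) = 0 := by rw [hc]; simp
      have h2 := x.mul_inv
      rw [h1, zero_mul] at h2
      have : Nonempty (Fin n) := ⟨⟨0, by omega⟩⟩
      exact zero_ne_one h2
    rw [mem_scalars_iff]
    exact ⟨Units.mk0 c hc0, by rw [hc, Units.val_mk0]⟩
  have hZne : Subgroup.center R ≠ ⊤ := by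
    intro htop
    apply not_irreducible_of_le_scalars hn _ habs.1
    intro x hx
    apply hscal x hx
    intro y hy
    have h1 : (⟨x, hx⟩ : R) ∈ Subgroup.center R := by rw [htop]; trivial
    have h2 := Subgroup.mem_center_iff.mp h1 ⟨y, hy⟩
    exact congrArg Subtype.val h2
  have hQnt : Nontrivial (R ⧸ Subgroup.center R) := by
    by_contra hcon
    rw [not_nontrivial_iff_subsingleton] at hcon
    exact hZne (QuotientGroup.subgroup_eq_top_of_subsingleton _ hcon)
  have hQp : IsPGroup r (R ⧸ Subgroup.center R) := hR.to_quotient (Subgroup.center R)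
  have hcnt : Nontrivial (Subgroup.center (R ⧸ Subgroup.center R)) := hQp.center_nontrivial
  obtain ⟨⟨abar, habar⟩, hne⟩ := exists_ne (1 : Subgroup.center (R ⧸ Subgroup.center R))
  have habar1 : abar ≠ 1 := fun h => hne (Subtype.ext h)
  obtain ⟨a, rfl⟩ := QuotientGroup.mk_surjective abar
  have haZ : a ∉ Subgroup.center R := by
    intro h
    exact habar1 ((QuotientGroup.eq_one_iff a).mpr h)
  have hcommZ : ∀ g : R, a * g * a⁻¹ * g⁻¹ ∈ Subgroup.center R := by
    intro g
    rw [← QuotientGroup.eq_one_iff]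
    have h1 := Subgroup.mem_center_iff.mp habar (g : R ⧸ Subgroup.center R)
    rw [QuotientGroup.mk_mul, QuotientGroup.mk_mul, QuotientGroup.mk_mul, QuotientGroup.mk_inv,
      QuotientGroup.mk_inv, ← h1]
    group
  obtain ⟨g, hg⟩ : ∃ g : R, g * a ≠ a * g := by
    by_contra hcon
    push Not at hcon
    exact haZ (Subgroup.mem_center_iff.mpr hcon)
  set z : R := a * g * a⁻¹ * g⁻¹ with hz
  have hz1 : z ≠ 1 := by
    intro h
    apply hg
    have h2 : a * g * a⁻¹ * g⁻¹ * g * a = 1 * g * a := by rw [← hz, h]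
    simpa [mul_assoc] using h2.symm
  have hzs : (z : GL (Fin n) F) ∈ scalars (Fin n) F := by
    apply hscal _ z.2
    intro y hy
    have h2 := Subgroup.mem_center_iff.mp (hcommZ g) ⟨y, hy⟩
    exact congrArg Subtype.val h2
  obtain ⟨ζ, hζ⟩ := (mem_scalars_iff _).mp hzs
  have hζ1 : (ζ : F) ≠ 1 := by
    intro h
    apply hz1
    apply Subtype.ext
    apply Units.ext
    rw [hζ, h, one_smul]
    rfl
  have hdet : (ζ : F) ^ n = 1 := by
    have h1 : Matrix.GeneralLinearGroup.det (z : GL (Fin n) F) = 1 := by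
      rw [hz]
      simp only [Subgroup.coe_mul, Subgroup.coe_inv, map_mul, map_inv]
      rw [mul_comm (Matrix.GeneralLinearGroup.det (a : GL (Fin n) F)), mul_assoc, mul_assoc]
      simp
    have h2 := congrArg (fun u : Fˣ => (u : F)) h1
    simp only [Matrix.GeneralLinearGroup.val_det_apply, Units.val_one] at h2
    rw [hζ, Matrix.det_smul, Matrix.det_one, mul_one, Fintype.card_fin] at h2
    exact h2
  obtain ⟨k, hk⟩ := hR z
  have hpow : (ζ : F) ^ (r ^ k) = 1 := by
    have h1 := congrArg (fun y : R => ((y : GL (Fin n) F) : Matrix (Fin n) (Fin n) F)) hk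
    simp only [Subgroup.coe_pow, Units.val_pow_eq_pow_val, Subgroup.coe_one, Units.val_one] at h1
    rw [hζ, smul_pow, one_pow] at h1
    have h2 := congrFun (congrFun h1 ⟨0, by omega⟩) ⟨0, by omega⟩
    simpa using h2
  by_contra hrn
  have hcop : Nat.Coprime (r ^ k) n := Nat.Coprime.pow_left k ((Nat.Prime.coprime_iff_not_dvd hr).mpr hrn)
  have h1 : orderOf (ζ : F) ∣ r ^ k := orderOf_dvd_of_pow_eq_one hpow
  have h2 : orderOf (ζ : F) ∣ n := orderOf_dvd_of_pow_eq_one hdet
  have h3 : orderOf (ζ : F) = 1 := Nat.eq_one_of_dvd_coprimes hcop h1 h2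
  exact hζ1 (orderOf_eq_one_iff.mp h3)

/-! ### arithmetic of the minimal field -/

lemma minimalField_order [Fintype F] {r p e : ℕ} (hr : r.Prime) (hrp : r ≠ p)
    (h : IsMinimalFieldFor r p e F) :
    0 < e ∧ e ∣ r - 1 ∧ ((p : ZMod r) ^ e = 1) ∧ ∀ d, 0 < d → d < e → (p : ZMod r) ^ d ≠ 1 := by
  obtain ⟨hp, hchar, hcard, hdvd, hmin⟩ := h
  have : Fact r.Prime := ⟨hr⟩
  have he : 0 < e := by
    rcases Nat.eq_zero_or_pos e with h0 | h0
    · rw [h0, pow_zero] at hcard
      have := Fintype.one_lt_card (α := F)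
      omega
    · exact h0
  have hconv : ∀ d : ℕ, r ∣ p ^ d - 1 ↔ (p : ZMod r) ^ d = 1 := by
    intro d
    rw [← ZMod.natCast_eq_zero_iff, Nat.cast_sub (Nat.one_le_pow _ _ hp.pos), Nat.cast_pow, Nat.cast_one,
      sub_eq_zero]
  have hp0 : (p : ZMod r) ≠ 0 := by
    rw [Ne, ZMod.natCast_eq_zero_iff, Nat.prime_dvd_prime_iff_eq hr hp]
    exact hrp
  have h1 : (p : ZMod r) ^ e = 1 := (hconv e).mp hdvd
  have h2 : ∀ d, 0 < d → d < e → (p : ZMod r) ^ d ≠ 1 := fun d hd hde hh => hmin d hd hde ((hconv d).mpr hh)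
  have hord : orderOf (p : ZMod r) = e := by
    rw [orderOf_eq_iff he]
    exact ⟨h1, fun m hm hm0 => h2 m hm0 hm⟩
  refine ⟨he, ?_, h1, h2⟩
  rw [← hord]
  exact orderOf_dvd_of_pow_eq_one (ZMod.pow_card_sub_one_eq_one hp0)

end Cfsg.Agent.Lib.Helper30_AschMax
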