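/-
S5673 package OG2 (helper29's architecture; proved by helper7):
the span of a group of isometries of a non-degenerate quadratic form is closed under adjoints
for the polar form.
-/
import Mathlib
import Cfsg.Prelude.Def_Classical
import Cfsg.Prelude.Def_GeometricClasses
import Cfsg.Agent.Lib.Helper98_AschDefs
import Cfsg.Agent.Lib.Helper29_OrthOddDefs

set_option autoImplicit false

namespace Cfsg.Agent.Lib.Helper7_OrthOdd_OG2

open Cfsg Cfsg.Geo Matrix Cfsg.Agent.Lib.Helper98_AschDefs Cfsg.Agent.Lib.Helper29_OrthOddDefs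
open scoped MatrixGroups

variable {F : Type*} [Field F]

theorem bil_zero_left {ι : Type} {f : (ι → F) → (ι → F) → F} (hb : IsBilinearForm f) (v : ι → F) :
    f 0 v = 0 := by
  have := hb.smul_left 0 0 v
  simpa using this

theorem bil_zero_right {ι : Type} {f : (ι → F) → (ι → F) → F} (hb : IsBilinearForm f) (v : ι → F) :
    f v 0 = 0 := by
  have := hb.smul_right 0 v 0
  simpa using this

/-- the span of a group of isometries of `Q` is closed under adjoints for a bilinear polar form
(non-degeneracy is not needed) -/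
theorem adjointClosed_of_bilinear {ι : Type} [Fintype ι] [DecidableEq ι] (Q : (ι → F) → F)
    (hb : IsBilinearForm (QuadraticMap.polar Q))
    (N : Subgroup (GL ι F)) (hNI : N ≤ isometryGroup F Q) :
    IsAdjointClosedFor (QuadraticMap.polar Q) (spanAlg N) := by
  intro k hk
  rw [mem_spanAlg_iff] at hk
  induction hk using Submodule.span_induction with
  | mem x hx =>
    obtain ⟨g, hg, rfl⟩ := hx
    refine ⟨((g⁻¹ : GL ι F) : Matrix ι ι F), coe_mem_spanAlg (N.inv_mem hg), ?_⟩
    intro u v
    have h := polar_mulVec_of_mem Q (hNI hg) u (((g⁻¹ : GL ι F) : Matrix ι ι F) *ᵥ v)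
    rw [← h, Matrix.mulVec_mulVec, ← Units.val_mul, mul_inv_cancel, Units.val_one, Matrix.one_mulVec]
  | zero =>
    refine ⟨0, Subalgebra.zero_mem _, ?_⟩
    intro u v
    rw [Matrix.zero_mulVec, Matrix.zero_mulVec, bil_zero_left hb, bil_zero_right hb]
  | add x y _ _ hx hy =>
    obtain ⟨x', hx', hxx⟩ := hx
    obtain ⟨y', hy', hyy⟩ := hy
    refine ⟨x' + y', Subalgebra.add_mem _ hx' hy', ?_⟩
    intro u v
    rw [Matrix.add_mulVec, Matrix.add_mulVec, hb.add_left, hb.add_right, hxx, hyy]
  | smul c x _ hx =>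
    obtain ⟨x', hx', hxx⟩ := hx
    refine ⟨c • x', Subalgebra.smul_mem _ hx' c, ?_⟩
    intro u v
    rw [Matrix.smul_mulVec, Matrix.smul_mulVec, hb.smul_left, hb.smul_right, hxx]

/-- glue G2: the span of a group of isometries is closed under adjoints -/
theorem OG2 {ι : Type} [Fintype ι] [DecidableEq ι] (Q : (ι → F) → F) (hQ : IsNondegenerateQuadraticForm Q)
    (N : Subgroup (GL ι F)) (hNI : N ≤ isometryGroup F Q) :
    IsAdjointClosedFor (QuadraticMap.polar Q) (spanAlg N) :=
  adjointClosed_of_bilinear Q hQ.polar_bilinear N hNI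

end Cfsg.Agent.Lib.Helper7_OrthOdd_OG2
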