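import Mathlib
import Cfsg.Agent.Lib.Helper40_OConj
import Cfsg.Agent.Lib.Helper40_QuadIso

set_option autoImplicit false

/-!
Definitions for the Burness–Giudici rows on totally singular subspaces of orthogonal groups (S5973, S5987):
invariant totally singular subspaces, hyperbolic (plus type) subspaces, the Witt index of the two types.
-/

namespace Cfsg.Agent.Lib.Helper99_OrthTSDefs

open Module Cfsg.Agent.Lib.Helper40_SpBasic

variable {F : Type*} [Field F] {V : Type*} [AddCommGroup V] [Module F V]

/-- `W` contains an `a`-invariant totally singular subspace of dimension `k`. -/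
def OHasTS (Q : QuadraticForm F V) (a : Module.End F V) (W : Submodule F V) (k : ℕ) : Prop :=
  ∃ U : Submodule F V, U ≤ W ∧ Inv a U ∧ (∀ u ∈ U, Q u = 0) ∧ finrank F U = k

/-- `W` contains a totally singular subspace of (at least) half its dimension (plus type). -/
def OHypOn (Q : QuadraticForm F V) (W : Submodule F V) : Prop :=
  ∃ U : Submodule F V, U ≤ W ∧ (∀ u ∈ U, Q u = 0) ∧ finrank F W ≤ 2 * finrank F U

/-- the Witt index of a nondegenerate quadratic space of even dimension `e` over a finite field, of plus type
(`true`) or minus type (`false`). -/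
def owitt (plus : Bool) (e : ℕ) : ℕ := if plus then e / 2 else e / 2 - 1

theorem owitt_true (e : ℕ) : owitt true e = e / 2 := rfl

theorem owitt_false (e : ℕ) : owitt false e = e / 2 - 1 := rfl

/-- the type of `W₂` when `W₁ ⊥ W₂` has type `s` and `W₁` has type `t` (also: the type of `W₁ ⊥ W₂` from the
types of the summands). -/
def tmul (s t : Bool) : Bool := (s == t)

theorem tmul_true_iff (s t : Bool) : tmul s t = true ↔ (s = true ↔ t = true) := by
  cases s <;> cases t <;> simp [tmul]

/-- number of nonzero singular vectors of a nondegenerate quadratic space of dimension `2 k` of plus / minus type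
over the field with `q` elements -/
def osing (plus : Bool) (q k : ℕ) : ℕ :=
  if plus then (q ^ k - 1) * (q ^ (k - 1) + 1) else (q ^ k + 1) * (q ^ (k - 1) - 1)

theorem osing_true (q k : ℕ) : osing true q k = (q ^ k - 1) * (q ^ (k - 1) + 1) := rfl

theorem osing_false (q k : ℕ) : osing false q k = (q ^ k + 1) * (q ^ (k - 1) - 1) := rfl

end Cfsg.Agent.Lib.Helper99_OrthTSDefs
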