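import Mathlib
import Cfsg.Agent.Lib.Helper99_OrthTSDefs
import Cfsg.Agent.Lib.Helper40_QuadStd

set_option autoImplicit false

/-!
# ORTH_core package OQ2 (helper43): the type of an orthogonal sum

For nondegenerate quadratic spaces of even dimension over a finite field (any characteristic) the
orthogonal sum is of plus type (contains a totally singular subspace of half the dimension) iff
the two summands have the same type.
-/

open Polynomial Module Matrix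
open Cfsg.Agent.Lib.Helper40_SpBasic Cfsg.Agent.Lib.Helper40_OConj Cfsg.Agent.Lib.Helper40_OConj.OData
  Cfsg.Agent.Lib.Helper40_QuadIso Cfsg.Agent.Lib.Helper99_OrthTSDefs

namespace Cfsg.Agent.Lib.Helper43_OrthTS_OQ2

open Cfsg.Agent.Lib.Helper40_QuadStd Cfsg.Agent.Lib.Helper44_StdForms

universe u

section products

variable {F : Type u} [Field F]
variable {V₁ V₂ V₃ V₄ : Type u} [AddCommGroup V₁] [Module F V₁] [AddCommGroup V₂] [Module F V₂]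
  [AddCommGroup V₃] [Module F V₃] [AddCommGroup V₄] [Module F V₄]

theorem iso_prod {Q₁ : QuadraticForm F V₁} {Q₂ : QuadraticForm F V₂} {Q₃ : QuadraticForm F V₃}
    {Q₄ : QuadraticForm F V₄} (h₁ : Iso Q₁ Q₃) (h₂ : Iso Q₂ Q₄) :
    Iso (Q₁.prod Q₂) (Q₃.prod Q₄) := by
  obtain ⟨φ₁, hφ₁⟩ := h₁
  obtain ⟨φ₂, hφ₂⟩ := h₂
  refine ⟨LinearEquiv.prodCongr φ₁ φ₂, ?_⟩
  rintro ⟨x, y⟩
  simp only [QuadraticMap.prod_apply, LinearEquiv.prodCongr_apply, hφ₁, hφ₂]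

theorem iso_prod_comm (Q₁ : QuadraticForm F V₁) (Q₂ : QuadraticForm F V₂) :
    Iso (Q₁.prod Q₂) (Q₂.prod Q₁) := by
  refine ⟨LinearEquiv.prodComm F V₁ V₂, ?_⟩
  rintro ⟨x, y⟩
  simp only [QuadraticMap.prod_apply, LinearEquiv.prodComm_apply, Prod.swap_prod_mk]
  exact add_comm _ _

theorem iso_prod_four (Q₁ : QuadraticForm F V₁) (Q₂ : QuadraticForm F V₂)
    (Q₃ : QuadraticForm F V₃) (Q₄ : QuadraticForm F V₄) :
    Iso ((Q₁.prod Q₂).prod (Q₃.prod Q₄)) ((Q₁.prod Q₃).prod (Q₂.prod Q₄)) := by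
  refine ⟨LinearEquiv.prodProdProdComm F V₁ V₂ V₃ V₄, ?_⟩
  rintro ⟨⟨x, y⟩, ⟨z, w⟩⟩
  simp only [QuadraticMap.prod_apply, LinearEquiv.prodProdProdComm_apply]
  ring

/-- the product of two spaces of plus type is of plus type -/
theorem isHyp_prod [FiniteDimensional F V₁] [FiniteDimensional F V₂] {Q₁ : QuadraticForm F V₁}
    {Q₂ : QuadraticForm F V₂} (h₁ : IsHyp Q₁) (h₂ : IsHyp Q₂) : IsHyp (Q₁.prod Q₂) := by
  obtain ⟨U₁, hU₁, hd₁⟩ := h₁
  obtain ⟨U₂, hU₂, hd₂⟩ := h₂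
  set f : (U₁ × U₂) →ₗ[F] (V₁ × V₂) := LinearMap.prodMap U₁.subtype U₂.subtype with hf
  have hinj : Function.Injective f := by
    rintro ⟨x₁, x₂⟩ ⟨y₁, y₂⟩ hxy
    have h1 : (x₁ : V₁) = y₁ := congrArg Prod.fst hxy
    have h2 : (x₂ : V₂) = y₂ := congrArg Prod.snd hxy
    exact Prod.ext (Subtype.ext h1) (Subtype.ext h2)
  refine ⟨LinearMap.range f, ?_, ?_⟩
  · rintro _ ⟨⟨x₁, x₂⟩, rfl⟩
    show Q₁ (x₁ : V₁) + Q₂ (x₂ : V₂) = 0
    rw [hU₁ _ x₁.2, hU₂ _ x₂.2, add_zero]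
  · rw [LinearMap.finrank_range_of_inj hinj, Module.finrank_prod, Module.finrank_prod]
    omega

end products

section classification

variable {F : Type u} [Field F] [Fintype F]
variable {V : Type u} [AddCommGroup V] [Module F V] [FiniteDimensional F V]

theorem iso_plus_of_isHyp (m : ℕ) (hm : 1 ≤ m) (hV : finrank F V = 2 * m)
    (Q : QuadraticForm F V) (hQ : (QuadraticMap.polarBilin Q).Nondegenerate) (h : IsHyp Q) :
    Iso Q (qfPlus m F) := by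
  obtain ⟨ζ, hζ⟩ := exists_aniso (F := F)
  rcases iso_plus_or_minus m hm hV Q hQ 1 ζ hζ with h1 | h1
  · exact h1
  · exact absurd (h.of_iso h1) (not_isHyp_qfMinus (m - 1) 1 ζ hζ)

theorem iso_minus_of_not_isHyp (m : ℕ) (hm : 1 ≤ m) (hV : finrank F V = 2 * m)
    (Q : QuadraticForm F V) (hQ : (QuadraticMap.polarBilin Q).Nondegenerate) (h : ¬ IsHyp Q)
    (a c : F) (hac : ∀ z₁ z₂ : F, z₁ ^ 2 + a * z₁ * z₂ + c * z₂ ^ 2 = 0 → z₁ = 0 ∧ z₂ = 0) :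
    Iso Q (qfMinus (m - 1) F a c) := by
  rcases iso_plus_or_minus m hm hV Q hQ a c hac with h1 | h1
  · exact absurd ((isHyp_qfPlus m).of_iso h1.symm) h
  · exact h1

omit [Fintype F] in
theorem finrank_qfPlus (m : ℕ) : finrank F (Fin m ⊕ Fin m → F) = 2 * m := by
  rw [Module.finrank_fintype_fun_eq_card, Fintype.card_sum, Fintype.card_fin, two_mul]

omit [Fintype F] in
theorem finrank_qfMinus (m : ℕ) : finrank F ((Fin m ⊕ Fin m) ⊕ Fin 2 → F) = 2 * (m + 1) := by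
  rw [Module.finrank_fintype_fun_eq_card, Fintype.card_sum, Fintype.card_sum, Fintype.card_fin,
    Fintype.card_fin]
  ring

variable {V₁ V₂ : Type u} [AddCommGroup V₁] [Module F V₁] [FiniteDimensional F V₁]
  [AddCommGroup V₂] [Module F V₂] [FiniteDimensional F V₂]

/-- plus ⊥ X of plus type forces X of plus type (Witt cancellation) -/
theorem isHyp_right_of_prod (k₁ k₂ : ℕ) (hk₁ : 1 ≤ k₁) (hk₂ : 1 ≤ k₂)
    (hV₁ : finrank F V₁ = 2 * k₁) (hV₂ : finrank F V₂ = 2 * k₂)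
    (Q₁ : QuadraticForm F V₁) (Q₂ : QuadraticForm F V₂)
    (hQ₁ : (QuadraticMap.polarBilin Q₁).Nondegenerate)
    (hQ₂ : (QuadraticMap.polarBilin Q₂).Nondegenerate)
    (h₁ : IsHyp Q₁) (h : IsHyp (Q₁.prod Q₂)) : IsHyp Q₂ := by
  have hP := Cfsg.Agent.Lib.Helper14_POmegaSimple.nondegenerate_qfPlus (F := F) k₂
  have hnd := Cfsg.Agent.Lib.Helper40_OTransport.nondegenerate_prod Q₁ Q₂ hQ₁ hQ₂
  have hnd' := Cfsg.Agent.Lib.Helper40_OTransport.nondegenerate_prod Q₁ (qfPlus k₂ F) hQ₁ hP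
  have hd : finrank F (V₁ × V₂) = 2 * (k₁ + k₂) := by
    rw [Module.finrank_prod, hV₁, hV₂]
    ring
  have hd' : finrank F (V₁ × (Fin k₂ ⊕ Fin k₂ → F)) = 2 * (k₁ + k₂) := by
    rw [Module.finrank_prod, hV₁, finrank_qfPlus]
    ring
  have e1 := iso_plus_of_isHyp (k₁ + k₂) (by omega) hd _ hnd h
  have e2 := iso_plus_of_isHyp (k₁ + k₂) (by omega) hd' _ hnd'
    (isHyp_prod h₁ (isHyp_qfPlus k₂))
  have e3 : Iso Q₂ (qfPlus k₂ F) := cancel Q₁ Q₂ (qfPlus k₂ F) hQ₁ hnd' (e1.trans e2.symm)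
  exact (isHyp_qfPlus k₂).of_iso e3.symm

/-- the sum of two anisotropic planes is of plus type -/
theorem isHyp_aniso_prod (ζ : F)
    (hζ : ∀ z₁ z₂ : F, z₁ ^ 2 + 1 * z₁ * z₂ + ζ * z₂ ^ 2 = 0 → z₁ = 0 ∧ z₂ = 0) :
    IsHyp ((qfMinus 0 F 1 ζ).prod (qfMinus 0 F 1 ζ)) := by
  have hE := Cfsg.Agent.Lib.Helper14_POmegaSimple.nondegenerate_qfMinus (F := F) 0 1 ζ hζ
  have hH := Cfsg.Agent.Lib.Helper14_POmegaSimple.nondegenerate_qfPlus (F := F) 1
  have hdE : finrank F ((Fin 0 ⊕ Fin 0) ⊕ Fin 2 → F) = 2 * (2 - 1) := by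
    rw [finrank_qfMinus]
  rcases two_types 2 (by norm_num) hdE (qfMinus 0 F 1 ζ) hE 1 ζ hζ with ⟨h1, -⟩ | ⟨-, h2⟩
  · exfalso
    have h3 : IsHyp ((qfMinus 0 F 1 ζ).prod (qfPlus 1 F)) := (isHyp_qfPlus 2).of_iso h1.symm
    have h4 : IsHyp ((qfPlus 1 F).prod (qfMinus 0 F 1 ζ)) := h3.of_iso (iso_prod_comm _ _)
    have h5 := isHyp_right_of_prod 1 1 le_rfl le_rfl (finrank_qfPlus 1) (by rw [finrank_qfMinus])
      (qfPlus 1 F) (qfMinus 0 F 1 ζ) hH hE (isHyp_qfPlus 1) h4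
    exact not_isHyp_qfMinus 0 1 ζ hζ h5
  · exact (isHyp_qfPlus 2).of_iso h2.symm

/-- a space of minus type is plus ⊥ anisotropic plane -/
theorem iso_plus_prod_aniso (m : ℕ) (hm : 1 ≤ m) (ζ : F)
    (hζ : ∀ z₁ z₂ : F, z₁ ^ 2 + 1 * z₁ * z₂ + ζ * z₂ ^ 2 = 0 → z₁ = 0 ∧ z₂ = 0) :
    Iso ((qfPlus (m - 1) F).prod (qfMinus 0 F 1 ζ)) (qfMinus (m - 1) F 1 ζ) := by
  have hP := Cfsg.Agent.Lib.Helper14_POmegaSimple.nondegenerate_qfPlus (F := F) (m - 1)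
  rcases two_types m hm (finrank_qfPlus (m - 1)) (qfPlus (m - 1) F) hP 1 ζ hζ with
    ⟨-, h1⟩ | ⟨h2, -⟩
  · exact h1
  · exfalso
    have h3 : IsHyp ((qfPlus (m - 1) F).prod (qfPlus 1 F)) :=
      isHyp_prod (isHyp_qfPlus _) (isHyp_qfPlus _)
    exact not_isHyp_qfMinus (m - 1) 1 ζ hζ (h3.of_iso h2)

/-- minus ⊥ minus is of plus type -/
theorem isHyp_prod_of_not (k₁ k₂ : ℕ) (hk₁ : 1 ≤ k₁) (hk₂ : 1 ≤ k₂)
    (hV₁ : finrank F V₁ = 2 * k₁) (hV₂ : finrank F V₂ = 2 * k₂)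
    (Q₁ : QuadraticForm F V₁) (Q₂ : QuadraticForm F V₂)
    (hQ₁ : (QuadraticMap.polarBilin Q₁).Nondegenerate)
    (hQ₂ : (QuadraticMap.polarBilin Q₂).Nondegenerate)
    (h₁ : ¬ IsHyp Q₁) (h₂ : ¬ IsHyp Q₂) : IsHyp (Q₁.prod Q₂) := by
  obtain ⟨ζ, hζ⟩ := exists_aniso (F := F)
  have e1 := (iso_minus_of_not_isHyp k₁ hk₁ hV₁ Q₁ hQ₁ h₁ 1 ζ hζ).trans
    (iso_plus_prod_aniso k₁ hk₁ ζ hζ).symm
  have e2 := (iso_minus_of_not_isHyp k₂ hk₂ hV₂ Q₂ hQ₂ h₂ 1 ζ hζ).trans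
    (iso_plus_prod_aniso k₂ hk₂ ζ hζ).symm
  have e3 := (iso_prod e1 e2).trans (iso_prod_four _ _ _ _)
  exact (isHyp_prod (isHyp_prod (isHyp_qfPlus _) (isHyp_qfPlus _)) (isHyp_aniso_prod ζ hζ)).of_iso
    e3.symm

/-- the type of a product -/
theorem isHyp_prod_iff (k₁ k₂ : ℕ) (hk₁ : 1 ≤ k₁) (hk₂ : 1 ≤ k₂)
    (hV₁ : finrank F V₁ = 2 * k₁) (hV₂ : finrank F V₂ = 2 * k₂)
    (Q₁ : QuadraticForm F V₁) (Q₂ : QuadraticForm F V₂)
    (hQ₁ : (QuadraticMap.polarBilin Q₁).Nondegenerate)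
    (hQ₂ : (QuadraticMap.polarBilin Q₂).Nondegenerate) :
    IsHyp (Q₁.prod Q₂) ↔ (IsHyp Q₁ ↔ IsHyp Q₂) := by
  by_cases h₁ : IsHyp Q₁
  · by_cases h₂ : IsHyp Q₂
    · exact ⟨fun _ => ⟨fun _ => h₂, fun _ => h₁⟩, fun _ => isHyp_prod h₁ h₂⟩
    · constructor
      · intro h
        exact absurd (isHyp_right_of_prod k₁ k₂ hk₁ hk₂ hV₁ hV₂ Q₁ Q₂ hQ₁ hQ₂ h₁ h) h₂
      · intro h
        exact absurd (h.1 h₁) h₂
  · by_cases h₂ : IsHyp Q₂
    · constructor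
      · intro h
        have h' : IsHyp (Q₂.prod Q₁) := h.of_iso (iso_prod_comm _ _)
        exact absurd (isHyp_right_of_prod k₂ k₁ hk₂ hk₁ hV₂ hV₁ Q₂ Q₁ hQ₂ hQ₁ h₂ h') h₁
      · intro h
        exact absurd (h.2 h₂) h₁
    · exact ⟨fun _ => ⟨fun h => absurd h h₁, fun h => absurd h h₂⟩,
        fun _ => isHyp_prod_of_not k₁ k₂ hk₁ hk₂ hV₁ hV₂ Q₁ Q₂ hQ₁ hQ₂ h₁ h₂⟩

end classification

section restriction

variable {F : Type u} [Field F]
variable {V : Type u} [AddCommGroup V] [Module F V]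

/-- the restriction of a quadratic form to a subspace -/
noncomputable abbrev resQ (Q : QuadraticForm F V) (W : Submodule F V) : QuadraticForm F W :=
  Q.comp W.subtype

theorem resQ_apply (Q : QuadraticForm F V) (W : Submodule F V) (w : W) :
    resQ Q W w = Q (w : V) := rfl

theorem nondegenerate_resQ {Q : QuadraticForm F V} {W : Submodule F V} (hW : NDOn (pol Q) W) :
    (QuadraticMap.polarBilin (resQ Q W)).Nondegenerate := by
  have hpol : ∀ x y : W, QuadraticMap.polarBilin (resQ Q W) x y = pol Q (x : V) (y : V) := by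
    intro x y
    rfl
  constructor
  · intro x hx
    apply Subtype.ext
    apply hW x x.2
    intro y hy
    have := hx ⟨y, hy⟩
    rw [hpol] at this
    exact this
  · intro x hx
    apply Subtype.ext
    apply hW x x.2
    intro y hy
    have := hx ⟨y, hy⟩
    rw [hpol] at this
    rw [pol_comm]
    exact this

theorem oHypOn_iff_isHyp (Q : QuadraticForm F V) (W : Submodule F V) :
    OHypOn Q W ↔ IsHyp (resQ Q W) := by
  constructor
  · rintro ⟨U, hUW, hU, hd⟩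
    refine ⟨U.comap W.subtype, ?_, ?_⟩
    · intro u hu
      exact hU _ hu
    · rw [(Submodule.comapSubtypeEquivOfLe hUW).finrank_eq]
      exact hd
  · rintro ⟨U, hU, hd⟩
    refine ⟨U.map W.subtype, ?_, ?_, ?_⟩
    · rintro _ ⟨u, -, rfl⟩
      exact u.2
    · rintro _ ⟨u, hu, rfl⟩
      exact hU u hu
    · rw [← (Submodule.equivMapOfInjective W.subtype (Submodule.injective_subtype _) U).finrank_eq]
      exact hd

/-- an orthogonal direct sum is isometric to the product -/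
theorem iso_prod_sup (Q : QuadraticForm F V) {W₁ W₂ : Submodule F V} (hdisj : Disjoint W₁ W₂)
    (horth : ∀ u ∈ W₁, ∀ v ∈ W₂, pol Q u v = 0) :
    Iso ((resQ Q W₁).prod (resQ Q W₂)) (resQ Q (W₁ ⊔ W₂)) := by
  let f : (W₁ × W₂) →ₗ[F] ↥(W₁ ⊔ W₂) :=
    { toFun := fun x => ⟨(x.1 : V) + (x.2 : V),
        Submodule.add_mem_sup x.1.2 x.2.2⟩
      map_add' := by
        intro x y
        apply Subtype.ext
        show ((x + y).1 : V) + ((x + y).2 : V) = ((x.1 : V) + (x.2 : V)) + ((y.1 : V) + (y.2 : V))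
        rw [Prod.fst_add, Prod.snd_add, Submodule.coe_add, Submodule.coe_add]
        abel
      map_smul' := by
        intro c x
        apply Subtype.ext
        show ((c • x).1 : V) + ((c • x).2 : V) = c • ((x.1 : V) + (x.2 : V))
        rw [Prod.smul_fst, Prod.smul_snd, Submodule.coe_smul, Submodule.coe_smul, smul_add] }
  have hf : ∀ x : W₁ × W₂, ((f x : ↥(W₁ ⊔ W₂)) : V) = (x.1 : V) + (x.2 : V) := fun _ => rfl
  have hinj : Function.Injective f := by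
    rw [← LinearMap.ker_eq_bot, LinearMap.ker_eq_bot']
    rintro ⟨x₁, x₂⟩ hx
    have h1 : (x₁ : V) + (x₂ : V) = 0 := by
      have := congrArg Subtype.val hx
      rw [hf] at this
      exact this
    have h2 : (x₁ : V) = -(x₂ : V) := eq_neg_of_add_eq_zero_left h1
    have h3 : (x₁ : V) ∈ W₂ := by
      rw [h2]
      exact W₂.neg_mem x₂.2
    have h4 : (x₁ : V) = 0 := Submodule.disjoint_def.1 hdisj _ x₁.2 h3
    have h5 : (x₂ : V) = 0 := by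
      rw [h4, zero_add] at h1
      exact h1
    exact Prod.ext (Subtype.ext h4) (Subtype.ext h5)
  have hsurj : Function.Surjective f := by
    rintro ⟨w, hw⟩
    obtain ⟨x, hx, y, hy, rfl⟩ := Submodule.mem_sup.1 hw
    exact ⟨(⟨x, hx⟩, ⟨y, hy⟩), Subtype.ext rfl⟩
  refine ⟨LinearEquiv.ofBijective f ⟨hinj, hsurj⟩, ?_⟩
  rintro ⟨x₁, x₂⟩
  show Q ((x₁ : V) + (x₂ : V)) = Q (x₁ : V) + Q (x₂ : V)
  have h1 := horth x₁ x₁.2 x₂ x₂.2
  rw [pol_apply] at h1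
  linear_combination h1

end restriction

section main

variable {F : Type u} [Field F] [Fintype F] {p : ℕ} [Fact p.Prime] [CharP F p]
variable {V : Type u} [AddCommGroup V] [Module F V] [FiniteDimensional F V]
variable {Q : QuadraticForm F V} {a : Module.End F V} {r : ℕ}

omit [Fintype F] [FiniteDimensional F V] in
theorem oHypOn_bot : OHypOn Q (⊥ : Submodule F V) := by
  refine ⟨⊥, le_rfl, ?_, ?_⟩
  · intro u hu
    rw [(Submodule.mem_bot F).1 hu, map_zero]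
  · rw [finrank_bot]

/-- OQ2: the type of an orthogonal sum. -/
theorem OQ2 {W₁ W₂ : Submodule F V} (h₁ : NDOn (pol Q) W₁) (h₂ : NDOn (pol Q) W₂)
    (horth : ∀ u ∈ W₁, ∀ v ∈ W₂, pol Q u v = 0) (he₁ : Even (finrank F W₁)) (he₂ : Even (finrank F W₂)) :
    OHypOn Q (W₁ ⊔ W₂) ↔ (OHypOn Q W₁ ↔ OHypOn Q W₂) := by
  obtain ⟨k₁, hk₁⟩ := he₁
  obtain ⟨k₂, hk₂⟩ := he₂
  by_cases h10 : k₁ = 0
  · have hW₁ : W₁ = ⊥ := by
      apply Submodule.finrank_eq_zero.1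
      rw [hk₁, h10]
    rw [hW₁, bot_sup_eq]
    exact ⟨fun h => ⟨fun _ => h, fun _ => oHypOn_bot⟩, fun h => h.1 oHypOn_bot⟩
  by_cases h20 : k₂ = 0
  · have hW₂ : W₂ = ⊥ := by
      apply Submodule.finrank_eq_zero.1
      rw [hk₂, h20]
    rw [hW₂, sup_bot_eq]
    exact ⟨fun h => ⟨fun _ => oHypOn_bot, fun _ => h⟩, fun h => h.2 oHypOn_bot⟩
  have hdisj : Disjoint W₁ W₂ := by
    rw [Submodule.disjoint_def]
    intro x hx₁ hx₂
    apply h₂ x hx₂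
    intro y hy
    exact horth x hx₁ y hy
  have e := iso_prod_sup Q hdisj horth
  rw [oHypOn_iff_isHyp, oHypOn_iff_isHyp, oHypOn_iff_isHyp,
    ← isHyp_prod_iff k₁ k₂ (by omega) (by omega) (by rw [hk₁]; ring) (by rw [hk₂]; ring)
      (resQ Q W₁) (resQ Q W₂) (nondegenerate_resQ h₁) (nondegenerate_resQ h₂)]
  exact ⟨fun h => h.of_iso e.symm, fun h => h.of_iso e⟩

end main

end Cfsg.Agent.Lib.Helper43_OrthTS_OQ2
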