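import Mathlib
import Cfsg.Agent.Lib.Helper99_OrthTSDefs
import Cfsg.Agent.Lib.Helper40_OConj
import Cfsg.Agent.Lib.Helper40_QuadIso
import Cfsg.Agent.Lib.Helper40_QuadStd
import Cfsg.Agent.Lib.Helper44_StdForms
import Cfsg.Agent.Lib.Helper44_WittIndexMinus

set_option autoImplicit false

/-!
Package OQ1 of the orthogonal core of helper99 (rows S5973, S5987, ...): the Witt index of a
nondegenerate even-dimensional subspace of a quadratic space over a finite field, by type
(helper87).  Also exported: the restriction `resQ Q W` of a quadratic form to a subspace, its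
nondegeneracy, the transport of totally singular subspaces between `W` and `V`, and the
classification `iso_resQ` of the restriction.
-/

namespace Cfsg.Agent.Lib.Helper87_OrthTS_OQ1

open Module Cfsg.Agent.Lib.Helper40_SpBasic Cfsg.Agent.Lib.Helper40_OConj
  Cfsg.Agent.Lib.Helper40_QuadIso Cfsg.Agent.Lib.Helper99_OrthTSDefs
  Cfsg.Agent.Lib.Helper44_StdForms

universe u

section general

variable {F : Type u} [Field F] {V : Type u} [AddCommGroup V] [Module F V]

/-- the restriction of a quadratic form to a subspace -/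
noncomputable def resQ (Q : QuadraticForm F V) (W : Submodule F V) : QuadraticForm F W :=
  Q.comp W.subtype

theorem resQ_apply (Q : QuadraticForm F V) (W : Submodule F V) (w : W) :
    resQ Q W w = Q (w : V) := rfl

theorem pol_resQ (Q : QuadraticForm F V) (W : Submodule F V) (x y : W) :
    pol (resQ Q W) x y = pol Q (x : V) (y : V) := by
  rw [pol_apply, pol_apply, resQ_apply, resQ_apply, resQ_apply, Submodule.coe_add]

theorem nondeg_resQ {Q : QuadraticForm F V} {W : Submodule F V} (hW : NDOn (pol Q) W) :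
    (QuadraticMap.polarBilin (resQ Q W)).Nondegenerate := by
  constructor
  · intro x hx
    apply Subtype.ext
    apply hW x x.2
    intro y hy
    have := hx ⟨y, hy⟩
    rwa [pol_resQ] at this
  · intro x hx
    apply Subtype.ext
    apply hW x x.2
    intro y hy
    have := hx ⟨y, hy⟩
    rw [pol_resQ] at this
    rw [pol_comm]
    exact this

/-- a subspace of prescribed smaller dimension (as in `Helper82_OrthC8_IDX`) -/
theorem exists_le_finrank_eq [FiniteDimensional F V] (U : Submodule F V) (n : ℕ)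
    (hn : n ≤ finrank F U) : ∃ X : Submodule F V, X ≤ U ∧ finrank F X = n := by
  obtain ⟨f, hf⟩ := exists_linearIndependent_of_le_finrank hn
  have hf' : LinearIndependent F (fun i => (f i : V)) :=
    hf.map' U.subtype (Submodule.ker_subtype U)
  refine ⟨Submodule.span F (Set.range fun i => (f i : V)), ?_, ?_⟩
  · rw [Submodule.span_le]
    rintro _ ⟨i, rfl⟩
    exact (f i).2
  · rw [finrank_span_eq_card hf', Fintype.card_fin]

/-- a totally singular subspace of a nondegenerate subspace has at most half the dimension -/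
theorem two_mul_finrank_le [FiniteDimensional F V] {Q : QuadraticForm F V} {W U : Submodule F V}
    (hW : NDOn (pol Q) W) (hUW : U ≤ W) (hU : ∀ u ∈ U, Q u = 0) :
    2 * finrank F U ≤ finrank F W := by
  have hnd := nondeg_resQ hW
  set U' : Submodule F W := U.comap W.subtype with hU'
  have h1 : finrank F U' = finrank F U :=
    (Submodule.comapSubtypeEquivOfLe hUW).finrank_eq
  have h2 := LinearMap.BilinForm.finrank_orthogonal hnd U'
  have h3 : U' ≤ LinearMap.BilinForm.orthogonal (QuadraticMap.polarBilin (resQ Q W)) U' := by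
    intro x hx
    rw [LinearMap.BilinForm.mem_orthogonal_iff]
    intro y hy
    show pol (resQ Q W) y x = 0
    have e1 : Q (y : V) = 0 := hU _ hy
    have e2 : Q (x : V) = 0 := hU _ hx
    have e3 : Q ((y : V) + (x : V)) = 0 := hU _ (U.add_mem hy hx)
    rw [pol_resQ, pol_apply, e1, e2, e3]
    ring
  have h4 := Submodule.finrank_mono h3
  have h5 : finrank F U' ≤ finrank F W := Submodule.finrank_le U'
  omega

/-- totally singular subspaces of the restriction give totally singular subspaces of `V` inside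
`W` -/
theorem exists_of_resQ [FiniteDimensional F V] (Q : QuadraticForm F V) (W : Submodule F V)
    (U' : Submodule F W) (hU' : ∀ u ∈ U', resQ Q W u = 0) :
    ∃ U : Submodule F V, U ≤ W ∧ (∀ u ∈ U, Q u = 0) ∧ finrank F U = finrank F U' := by
  refine ⟨U'.map W.subtype, ?_, ?_, ?_⟩
  · rintro _ ⟨u, _, rfl⟩
    exact u.2
  · rintro _ ⟨u, hu, rfl⟩
    exact hU' u hu
  · exact Submodule.finrank_map_subtype_eq W U'

end general

section finite

variable {F : Type u} [Field F] [Fintype F] {V : Type u} [AddCommGroup V] [Module F V]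
  [FiniteDimensional F V] {Q : QuadraticForm F V}

/-- the restriction to a nondegenerate subspace of dimension `2 k`, `1 ≤ k`, is isometric to a
standard form; it is the plus form exactly when `W` is of plus type -/
theorem iso_resQ {W : Submodule F V} (hW : NDOn (pol Q) W) (k : ℕ) (hk1 : 1 ≤ k)
    (hk : finrank F W = 2 * k) (a c : F)
    (hac : ∀ z₁ z₂ : F, z₁ ^ 2 + a * z₁ * z₂ + c * z₂ ^ 2 = 0 → z₁ = 0 ∧ z₂ = 0) :
    (OHypOn Q W ∧ Iso (resQ Q W) (qfPlus k F)) ∨
      (¬ OHypOn Q W ∧ Iso (resQ Q W) (qfMinus (k - 1) F a c)) := by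
  have hnd := nondeg_resQ hW
  rcases Cfsg.Agent.Lib.Helper40_QuadStd.iso_plus_or_minus k hk1 hk (resQ Q W) hnd a c hac
    with h | h
  · left
    refine ⟨?_, h⟩
    obtain ⟨U', hU', hdim⟩ := IsHyp.of_iso h.symm (Cfsg.Agent.Lib.Helper40_QuadStd.isHyp_qfPlus k)
    obtain ⟨U, hUW, hU, hfr⟩ := exists_of_resQ Q W U' hU'
    exact ⟨U, hUW, hU, by rw [hfr]; exact hdim⟩
  · by_cases hh : OHypOn Q W
    · exfalso
      obtain ⟨U, hUW, hU, hdim⟩ := hh
      have hyp : IsHyp (resQ Q W) := by
        refine ⟨U.comap W.subtype, ?_, ?_⟩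
        · intro u hu
          exact hU _ hu
        · rw [(Submodule.comapSubtypeEquivOfLe hUW).finrank_eq]
          exact hdim
      exact Cfsg.Agent.Lib.Helper40_QuadStd.not_isHyp_qfMinus (k - 1) a c hac (IsHyp.of_iso h hyp)
    · right
      exact ⟨hh, h⟩

omit [Fintype F] in
/-- the minus form `qfMinus n F a c` has a totally singular subspace of dimension `n` -/
theorem exists_ts_qfMinus (n : ℕ) (a c : F) :
    ∃ U : Submodule F ((Fin n ⊕ Fin n) ⊕ Fin 2 → F),
      (∀ u ∈ U, qfMinus n F a c u = 0) ∧ finrank F U = n := by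
  refine ⟨LinearMap.range (Cfsg.Agent.Lib.Helper44_WittIndexMinus.embX n (F := F)), ?_,
    Cfsg.Agent.Lib.Helper44_WittIndexMinus.finrank_range_embX n⟩
  rintro _ ⟨v, rfl⟩
  have h := congrFun (coe_qfMinus n F a c) (Cfsg.Agent.Lib.Helper44_WittIndexMinus.embX n v)
  rw [h, Cfsg.quadFormMinus]
  simp [Cfsg.Agent.Lib.Helper44_WittIndexMinus.embX]

end finite

section main

variable {F : Type u} [Field F] [Fintype F] {p : ℕ} [Fact p.Prime] [CharP F p]
variable {V : Type u} [AddCommGroup V] [Module F V] [FiniteDimensional F V]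
variable {Q : QuadraticForm F V}

/-- OQ1: Witt index of a nondegenerate even-dimensional subspace, by type. -/
theorem OQ1 {W : Submodule F V} (hW : NDOn (pol Q) W) (k : ℕ) (hk : finrank F W = 2 * k) :
    (∀ U : Submodule F V, U ≤ W → (∀ u ∈ U, Q u = 0) → finrank F U ≤ k) ∧
    (OHypOn Q W → ∀ e' ≤ k, ∃ U : Submodule F V, U ≤ W ∧ (∀ u ∈ U, Q u = 0) ∧ finrank F U = e') ∧
    (¬ OHypOn Q W → 1 ≤ k ∧ (∀ U : Submodule F V, U ≤ W → (∀ u ∈ U, Q u = 0) → finrank F U ≤ k - 1) ∧
      ∀ e' ≤ k - 1, ∃ U : Submodule F V, U ≤ W ∧ (∀ u ∈ U, Q u = 0) ∧ finrank F U = e') := by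
  have part1 : ∀ U : Submodule F V, U ≤ W → (∀ u ∈ U, Q u = 0) → finrank F U ≤ k := by
    intro U hUW hU
    have := two_mul_finrank_le hW hUW hU
    omega
  -- subspaces of all smaller dimensions of a totally singular subspace
  have shrink : ∀ U₀ : Submodule F V, U₀ ≤ W → (∀ u ∈ U₀, Q u = 0) → ∀ e' ≤ finrank F U₀,
      ∃ U : Submodule F V, U ≤ W ∧ (∀ u ∈ U, Q u = 0) ∧ finrank F U = e' := by
    intro U₀ hU₀W hU₀ e' he'
    obtain ⟨X, hXU, hX⟩ := exists_le_finrank_eq U₀ e' he'
    exact ⟨X, hXU.trans hU₀W, fun u hu => hU₀ u (hXU hu), hX⟩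
  refine ⟨part1, ?_, ?_⟩
  · rintro ⟨U₀, hU₀W, hU₀, hdim⟩ e' he'
    apply shrink U₀ hU₀W hU₀ e'
    omega
  · intro hh
    have hk1 : 1 ≤ k := by
      by_contra hk0
      apply hh
      refine ⟨⊥, bot_le, ?_, ?_⟩
      · intro u hu
        rw [Submodule.mem_bot] at hu
        rw [hu, map_zero]
      · omega
    refine ⟨hk1, ?_, ?_⟩
    · intro U hUW hU
      have h1 := part1 U hUW hU
      by_contra hlt
      apply hh
      exact ⟨U, hUW, hU, by omega⟩
    · obtain ⟨ζ, hζ⟩ := Cfsg.Agent.Lib.Helper40_QuadStd.exists_aniso (F := F)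
      rcases iso_resQ hW k hk1 hk 1 ζ hζ with ⟨h1, _⟩ | ⟨_, h2⟩
      · exact absurd h1 hh
      · obtain ⟨U₁, hU₁, hd₁⟩ := exists_ts_qfMinus (F := F) (k - 1) 1 ζ
        have hyp : ∃ U' : Submodule F W, (∀ u ∈ U', resQ Q W u = 0) ∧ finrank F U' = k - 1 := by
          obtain ⟨φ, hφ⟩ := h2
          refine ⟨U₁.map (φ.symm : _ →ₗ[F] W), ?_, ?_⟩
          · rintro _ ⟨u, hu, rfl⟩
            rw [LinearEquiv.coe_coe, ← hφ, φ.apply_symm_apply]
            exact hU₁ u hu
          · rw [LinearEquiv.finrank_map_eq]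
            exact hd₁
        obtain ⟨U', hU', hd'⟩ := hyp
        obtain ⟨U₀, hU₀W, hU₀, hfr⟩ := exists_of_resQ Q W U' hU'
        intro e' he'
        apply shrink U₀ hU₀W hU₀ e'
        omega

end main

end Cfsg.Agent.Lib.Helper87_OrthTS_OQ1
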