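import Mathlib
import Cfsg.Prelude.Def_GeometricClasses
import Cfsg.Agent.Lib.Helper43_OrthTS_OQ2
import Cfsg.Agent.Lib.Helper87_OrthTS_OQ1
import Cfsg.Agent.Lib.Helper94_OrthGenBridge

set_option autoImplicit false

/-!
EV5 (helper85, for helper22's even-dimensional orthogonal rows): types multiply.  An isometric
orthogonal decomposition of a nondegenerate quadratic space over a finite field into `t` blocks of
dimension `k` with `t`, `k` even, or with `4 ∣ t`, or with `k` even and blocks of plus type, is of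
plus type.
-/

namespace Cfsg.Agent.Lib.Helper85_OrthEven_EV5

open Module Cfsg.Agent.Lib.Helper40_SpBasic Cfsg.Agent.Lib.Helper40_OConj
  Cfsg.Agent.Lib.Helper40_QuadIso Cfsg.Agent.Lib.Helper99_OrthTSDefs
  Cfsg.Agent.Lib.Helper43_OrthTS_OQ2

universe u

section general

variable {F : Type u} [Field F] {V : Type u} [AddCommGroup V] [Module F V]
  {Q : QuadraticForm F V}

/-- nondegeneracy of an orthogonal sum -/
theorem ndOn_sup {W₁ W₂ : Submodule F V} (h₁ : NDOn (pol Q) W₁) (h₂ : NDOn (pol Q) W₂)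
    (horth : ∀ u ∈ W₁, ∀ v ∈ W₂, pol Q u v = 0) : NDOn (pol Q) (W₁ ⊔ W₂) := by
  intro x hx hxy
  obtain ⟨x₁, hx₁, x₂, hx₂, rfl⟩ := Submodule.mem_sup.1 hx
  have e1 : x₁ = 0 := by
    apply h₁ x₁ hx₁
    intro y hy
    have := hxy y (Submodule.mem_sup_left hy)
    rw [map_add, LinearMap.add_apply, pol_comm Q x₂ y, horth y hy x₂ hx₂, add_zero] at this
    exact this
  have e2 : x₂ = 0 := by
    apply h₂ x₂ hx₂
    intro y hy
    have := hxy y (Submodule.mem_sup_right hy)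
    rw [map_add, LinearMap.add_apply, horth x₁ hx₁ y hy, zero_add] at this
    exact this
  rw [e1, e2, add_zero]

theorem disjoint_of_orth {W₁ W₂ : Submodule F V} (h₂ : NDOn (pol Q) W₂)
    (horth : ∀ u ∈ W₁, ∀ v ∈ W₂, pol Q u v = 0) : Disjoint W₁ W₂ := by
  rw [Submodule.disjoint_def]
  intro x hx₁ hx₂
  apply h₂ x hx₂
  intro y hy
  exact horth x hx₁ y hy

theorem finrank_sup_of_orth [FiniteDimensional F V] {W₁ W₂ : Submodule F V}
    (h₂ : NDOn (pol Q) W₂) (horth : ∀ u ∈ W₁, ∀ v ∈ W₂, pol Q u v = 0) :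
    finrank F ↥(W₁ ⊔ W₂) = finrank F W₁ + finrank F W₂ := by
  have h := Submodule.finrank_sup_add_finrank_inf_eq W₁ W₂
  rw [disjoint_iff.1 (disjoint_of_orth h₂ horth), finrank_bot, add_zero] at h
  exact h

/-- the right orthogonal of a subspace (as a submodule) -/
def perpSub (Q : QuadraticForm F V) (W : Submodule F V) : Submodule F V where
  carrier := {v | ∀ u ∈ W, pol Q u v = 0}
  add_mem' := by
    intro x y hx hy u hu
    rw [map_add, hx u hu, hy u hu, add_zero]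
  zero_mem' := by
    intro u _
    rw [map_zero]
  smul_mem' := by
    intro c x hx u hu
    rw [map_smul, hx u hu, smul_zero]

theorem mem_perpSub {W : Submodule F V} {v : V} :
    v ∈ perpSub Q W ↔ ∀ u ∈ W, pol Q u v = 0 := Iff.rfl

theorem orth_sup_right {W X₁ X₂ : Submodule F V} (h₁ : ∀ u ∈ W, ∀ v ∈ X₁, pol Q u v = 0)
    (h₂ : ∀ u ∈ W, ∀ v ∈ X₂, pol Q u v = 0) : ∀ u ∈ W, ∀ v ∈ X₁ ⊔ X₂, pol Q u v = 0 := by
  have hle : X₁ ⊔ X₂ ≤ perpSub Q W :=
    sup_le (fun v hv u hu => h₁ u hu v hv) (fun v hv u hu => h₂ u hu v hv)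
  intro u hu v hv
  exact hle hv u hu

theorem orth_sup_left {W₁ W₂ X : Submodule F V} (h₁ : ∀ u ∈ W₁, ∀ v ∈ X, pol Q u v = 0)
    (h₂ : ∀ u ∈ W₂, ∀ v ∈ X, pol Q u v = 0) : ∀ u ∈ W₁ ⊔ W₂, ∀ v ∈ X, pol Q u v = 0 := by
  intro u hu v hv
  rw [pol_comm]
  exact orth_sup_right (W := X) (fun a ha b hb => by rw [pol_comm]; exact h₁ b hb a ha)
    (fun a ha b hb => by rw [pol_comm]; exact h₂ b hb a ha) v hv u hu

theorem oHypOn_congr {W W' : Submodule F V} (h : Iso (resQ Q W) (resQ Q W')) :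
    OHypOn Q W ↔ OHypOn Q W' := by
  rw [oHypOn_iff_isHyp, oHypOn_iff_isHyp]
  exact ⟨fun hh => hh.of_iso h, fun hh => hh.of_iso h.symm⟩

/-- the orthogonal sums of isometric pairs are isometric -/
theorem iso_sup_sup {W₁ W₂ X₁ X₂ : Submodule F V} (hW₂ : NDOn (pol Q) W₂)
    (hX₂ : NDOn (pol Q) X₂) (hW : ∀ u ∈ W₁, ∀ v ∈ W₂, pol Q u v = 0)
    (hX : ∀ u ∈ X₁, ∀ v ∈ X₂, pol Q u v = 0) (h₁ : Iso (resQ Q W₁) (resQ Q X₁))
    (h₂ : Iso (resQ Q W₂) (resQ Q X₂)) : Iso (resQ Q (W₁ ⊔ W₂)) (resQ Q (X₁ ⊔ X₂)) :=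
  ((iso_prod_sup Q (disjoint_of_orth hW₂ hW) hW).symm.trans (iso_prod h₁ h₂)).trans
    (iso_prod_sup Q (disjoint_of_orth hX₂ hX) hX)

end general

section family

variable {F : Type u} [Field F] [Fintype F] {V : Type u} [AddCommGroup V] [Module F V]
  [FiniteDimensional F V] {Q : QuadraticForm F V}

/-- the type of an orthogonal sum of even-dimensional nondegenerate subspaces of the same type -/
theorem type_biSup {κ : Type*} [DecidableEq κ] (E : κ → Submodule F V) (τ : Prop)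
    (hnd : ∀ i, NDOn (pol Q) (E i))
    (horth : ∀ i j, i ≠ j → ∀ u ∈ E i, ∀ v ∈ E j, pol Q u v = 0)
    (hev : ∀ i, Even (finrank F (E i)))
    (htype : ∀ i, OHypOn Q (E i) ↔ τ) (s : Finset κ) :
    NDOn (pol Q) (⨆ i ∈ s, E i) ∧ Even (finrank F ↥(⨆ i ∈ s, E i)) ∧
      (OHypOn Q (⨆ i ∈ s, E i) ↔ (Even s.card ∨ τ)) := by
  induction s using Finset.induction_on with
  | empty =>
    have h0 : (⨆ i ∈ (∅ : Finset κ), E i) = ⊥ := by simp
    rw [h0]
    refine ⟨?_, ?_, ?_⟩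
    · intro x hx _
      exact (Submodule.mem_bot F).1 hx
    · rw [finrank_bot]
      exact Even.zero
    · exact ⟨fun _ => Or.inl (by simp), fun _ => oHypOn_bot⟩
  | insert a s ha ih =>
    rw [Finset.iSup_insert]
    obtain ⟨ih1, ih2, ih3⟩ := ih
    have horth' : ∀ u ∈ E a, ∀ v ∈ ⨆ i ∈ s, E i, pol Q u v = 0 := by
      have hle : (⨆ i ∈ s, E i) ≤ perpSub Q (E a) := by
        refine iSup₂_le fun i hi => ?_
        intro v hv u hu
        exact horth a i (by rintro rfl; exact ha hi) u hu v hv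
      intro u hu v hv
      exact hle hv u hu
    refine ⟨ndOn_sup (hnd a) ih1 horth', ?_, ?_⟩
    · rw [finrank_sup_of_orth ih1 horth']
      exact (hev a).add ih2
    · rw [OQ2 (hnd a) ih1 horth' (hev a) ih2, htype a, ih3, Finset.card_insert_of_notMem ha]
      by_cases hτ : τ
      · simp [hτ]
      · simp [hτ, Nat.even_add_one]

/-- **types multiply**, even-dimensional blocks -/
theorem plus_of_even_blocks {κ : Type*} [Fintype κ] [DecidableEq κ] (D : κ → Submodule F V)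
    (hnd : ∀ i, NDOn (pol Q) (D i))
    (horth : ∀ i j, i ≠ j → ∀ u ∈ D i, ∀ v ∈ D j, pol Q u v = 0)
    (hiso : ∀ i j, Iso (resQ Q (D i)) (resQ Q (D j))) (htop : iSup D = ⊤)
    (hev : ∀ i, Even (finrank F (D i)))
    (h : Even (Fintype.card κ) ∨ ∀ i, OHypOn Q (D i)) :
    OHypOn Q (⊤ : Submodule F V) ∧ Even (finrank F (⊤ : Submodule F V)) := by
  classical
  have htype : ∀ i, OHypOn Q (D i) ↔ ∀ j, OHypOn Q (D j) :=
    fun i => ⟨fun hi j => (oHypOn_congr (hiso i j)).1 hi, fun hall => hall i⟩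
  obtain ⟨-, h2, h3⟩ := type_biSup D (∀ j, OHypOn Q (D j)) hnd horth hev htype Finset.univ
  have hu : (⨆ i ∈ (Finset.univ : Finset κ), D i) = ⊤ := by
    rw [← htop]
    simp
  rw [hu] at h2 h3
  rw [Finset.card_univ] at h3
  exact ⟨h3.2 h, h2⟩

/-- **types multiply**, an even number of pairs of blocks -/
theorem plus_of_pairs {κ κ' : Type*} [Fintype κ] [DecidableEq κ] [Fintype κ'] [DecidableEq κ']
    (D : κ → Submodule F V) (hnd : ∀ i, NDOn (pol Q) (D i))
    (horth : ∀ i j, i ≠ j → ∀ u ∈ D i, ∀ v ∈ D j, pol Q u v = 0)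
    (hiso : ∀ i j, Iso (resQ Q (D i)) (resQ Q (D j))) (htop : iSup D = ⊤)
    (e : κ' × Fin 2 ≃ κ) (hκ' : Even (Fintype.card κ')) :
    OHypOn Q (⊤ : Submodule F V) ∧ Even (finrank F (⊤ : Submodule F V)) := by
  classical
  set E : κ' → Submodule F V := fun i => D (e (i, 0)) ⊔ D (e (i, 1)) with hE
  have hne : ∀ i j : κ', ∀ a b : Fin 2, (i, a) ≠ (j, b) → e (i, a) ≠ e (j, b) :=
    fun i j a b hab hh => hab (e.injective hh)
  have h01 : ∀ i : κ', ∀ u ∈ D (e (i, 0)), ∀ v ∈ D (e (i, 1)), pol Q u v = 0 := by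
    intro i
    apply horth
    apply hne
    intro hh
    have h2 : (0 : Fin 2) = 1 := congrArg Prod.snd hh
    exact absurd h2 (by decide)
  have hpair : ∀ i j : κ', i ≠ j → ∀ a b : Fin 2,
      ∀ u ∈ D (e (i, a)), ∀ v ∈ D (e (j, b)), pol Q u v = 0 := by
    intro i j hij a b
    apply horth
    apply hne
    intro hh
    exact hij (congrArg Prod.fst hh)
  apply plus_of_even_blocks E
  · intro i
    exact ndOn_sup (hnd _) (hnd _) (h01 i)
  · intro i j hij
    exact orth_sup_left (orth_sup_right (hpair i j hij 0 0) (hpair i j hij 0 1))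
      (orth_sup_right (hpair i j hij 1 0) (hpair i j hij 1 1))
  · intro i j
    exact iso_sup_sup (hnd _) (hnd _) (h01 i) (h01 j) (hiso _ _) (hiso _ _)
  · rw [eq_top_iff, ← htop]
    refine iSup_le fun x => ?_
    obtain ⟨⟨i, b⟩, rfl⟩ := e.surjective x
    refine le_trans ?_ (le_iSup E i)
    rcases Fin.exists_fin_two.1 ⟨b, rfl⟩ with rfl | rfl
    · exact le_sup_left
    · exact le_sup_right
  · intro i
    rw [finrank_sup_of_orth (hnd _) (h01 i), (hiso (e (i, 0)) (e (i, 1))).finrank_eq]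
    exact ⟨_, rfl⟩
  · exact Or.inl hκ'

end family

section main

open Cfsg.Geo Cfsg.Agent.Lib.Helper94_OrthGenBridge

variable {ι : Type} [Fintype ι] [DecidableEq ι] {F : Type u} [Field F]

theorem ndOn_of_geo (Q : (ι → F) → F) (hQ : IsNondegenerateQuadraticForm Q)
    (W : Submodule F (ι → F)) (h : IsNondegenerateOn (QuadraticMap.polar Q) W) :
    NDOn (pol (qfOf Q hQ)) W := by
  intro x hx hxy
  by_contra hne
  obtain ⟨-, ⟨y, hy, hy1⟩⟩ := h x hx hne
  exact hy1 (hxy y hy)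

theorem iso_of_geo (Q : (ι → F) → F) (hQ : IsNondegenerateQuadraticForm Q)
    {W W' : Submodule F (ι → F)} (h : AreIsometricFor Q W W') :
    Iso (resQ (qfOf Q hQ) W) (resQ (qfOf Q hQ) W') := by
  obtain ⟨e, he⟩ := h
  exact ⟨e, fun w => he w⟩

theorem oHypOn_of_isPlusTypeOn (Q : (ι → F) → F) (hQ : IsNondegenerateQuadraticForm Q)
    {W : Submodule F (ι → F)} (h : IsPlusTypeOn Q W) : OHypOn (qfOf Q hQ) W := by
  obtain ⟨U, hUW, hU, hd⟩ := h
  exact ⟨U, hUW, fun u hu => hU u hu, hd.symm.le⟩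

theorem isPlusTypeOn_of_oHypOn (Q : (ι → F) → F) (hQ : IsNondegenerateQuadraticForm Q)
    {W : Submodule F (ι → F)} (hev : Even (finrank F W)) (h : OHypOn (qfOf Q hQ) W) :
    IsPlusTypeOn Q W := by
  obtain ⟨U, hUW, hU, hd⟩ := h
  obtain ⟨m, hm⟩ := hev
  obtain ⟨X, hXU, hX⟩ := Helper87_OrthTS_OQ1.exists_le_finrank_eq U m (by omega)
  exact ⟨X, hXU.trans hUW, fun w hw => hU w (hXU hw), by rw [hX, hm]; ring⟩

/-- **EV5**: types multiply. -/
theorem EV5 [Fintype F] (Q : (ι → F) → F) (hQ : IsNondegenerateQuadraticForm Q) (t k : ℕ)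
    (D : Fin t → Submodule F (ι → F)) (hD : IsOrthogonalMDecomposition Q k D)
    (h : (Even t ∧ Even k) ∨ 4 ∣ t ∨ (Even k ∧ ∀ i, IsPlusTypeOn Q (D i))) :
    IsPlusTypeOn Q ⊤ := by
  classical
  have hnd : ∀ i, NDOn (pol (qfOf Q hQ)) (D i) :=
    fun i => ndOn_of_geo Q hQ _ (hD.decomp.nondegenerate i)
  have horth : ∀ i j, i ≠ j → ∀ u ∈ D i, ∀ v ∈ D j, pol (qfOf Q hQ) u v = 0 :=
    fun i j hij u hu v hv => hD.decomp.orthogonal i j hij u hu v hv
  have hiso : ∀ i j, Iso (resQ (qfOf Q hQ) (D i)) (resQ (qfOf Q hQ) (D j)) :=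
    fun i j => iso_of_geo Q hQ (hD.isometric i j)
  have htop : iSup D = ⊤ := hD.decomp.decomp.iSup_eq_top
  have hfr : ∀ i, finrank F (D i) = k := hD.decomp.decomp.finrank_eq
  have key : OHypOn (qfOf Q hQ) (⊤ : Submodule F (ι → F)) ∧
      Even (finrank F (⊤ : Submodule F (ι → F))) := by
    have hA : Even k → (Even t ∨ ∀ i, OHypOn (qfOf Q hQ) (D i)) →
        OHypOn (qfOf Q hQ) (⊤ : Submodule F (ι → F)) ∧
          Even (finrank F (⊤ : Submodule F (ι → F))) := by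
      intro hk hor
      apply plus_of_even_blocks D hnd horth hiso htop
      · intro i
        rw [hfr i]
        exact hk
      · rw [Fintype.card_fin]
        exact hor
    rcases h with ⟨ht, hk⟩ | h4 | ⟨hk, hall⟩
    · exact hA hk (Or.inl ht)
    · obtain ⟨c, rfl⟩ := h4
      have e : Fin (2 * c) × Fin 2 ≃ Fin (4 * c) :=
        finProdFinEquiv.trans (finCongr (by omega))
      apply plus_of_pairs D hnd horth hiso htop e
      rw [Fintype.card_fin]
      exact ⟨c, by ring⟩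
    · exact hA hk (Or.inr fun i => oHypOn_of_isPlusTypeOn Q hQ (hall i))
  exact isPlusTypeOn_of_oHypOn Q hQ key.2 key.1

end main

end Cfsg.Agent.Lib.Helper85_OrthEven_EV5
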