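import Mathlib
import Cfsg.Agent.Lib.Helper98_AschDefs
import Cfsg.Agent.Lib.Helper98_AschCliff
import Cfsg.Agent.Lib.Helper23_FormDefs
import Cfsg.Agent.Lib.Helper29_Asch_PKG0
import Cfsg.Agent.Lib.Helper29_Asch_PKP1
import Cfsg.Agent.Lib.Helper29_OrthOdd_Glue
import Cfsg.Agent.Lib.Helper7_OrthOdd_OG2
import Cfsg.Agent.Lib.Helper30_AschMax
import Cfsg.Agent.Lib.Helper85_OrthEven_EV5

/-!
# Even-dimensional orthogonal rows, package EV21 (for helper22)

An isometric orthogonal decomposition into an even number of blocks, over a finite field in which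
`-1` is a square, is of plus type: pair the blocks up; on each pair `W₁ ⟂ W₂` the graph
`{w + i • e w}` (`i² = -1`, `e : W₁ ≃ W₂` an isometry) is totally singular of half dimension; then
types multiply (`Helper85_OrthEven_EV5.plus_of_even_blocks`).
-/

set_option autoImplicit false

namespace Cfsg.Agent.Lib.Helper11_OrthEven_EV21

open Cfsg Cfsg.Geo Matrix Cfsg.Agent.Lib.Helper98_AschDefs Cfsg.Agent.Lib.Helper23_FormDefs
open scoped Kronecker MatrixGroups

section general

open Module Cfsg.Agent.Lib.Helper40_SpBasic Cfsg.Agent.Lib.Helper40_OConj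
  Cfsg.Agent.Lib.Helper40_QuadIso Cfsg.Agent.Lib.Helper99_OrthTSDefs
  Cfsg.Agent.Lib.Helper43_OrthTS_OQ2 Cfsg.Agent.Lib.Helper85_OrthEven_EV5

universe u

variable {F : Type u} [Field F] {V : Type u} [AddCommGroup V] [Module F V]
  [FiniteDimensional F V] {Q : QuadraticForm F V}

/-- the orthogonal sum of two isometric subspaces is hyperbolic when `-1` is a square -/
theorem oHypOn_sup_of_iso {W₁ W₂ : Submodule F V} (h₂ : NDOn (pol Q) W₂)
    (horth : ∀ u ∈ W₁, ∀ v ∈ W₂, pol Q u v = 0) (hiso : Iso (resQ Q W₁) (resQ Q W₂))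
    (i : F) (hi : i * i = -1) : OHypOn Q (W₁ ⊔ W₂) := by
  obtain ⟨φ, hφ⟩ := hiso
  have hφ' : ∀ w : W₁, Q ((φ w : W₂) : V) = Q (w : V) := fun w => hφ w
  set g : W₁ →ₗ[F] V := W₁.subtype + i • (W₂.subtype ∘ₗ φ.toLinearMap) with hg
  have hgw : ∀ w : W₁, g w = (w : V) + i • ((φ w : W₂) : V) := fun w => rfl
  have hdisj := disjoint_of_orth h₂ horth
  have hinj : Function.Injective g := by
    rw [← LinearMap.ker_eq_bot, LinearMap.ker_eq_bot']
    intro w hw
    rw [hgw] at hw
    have h1 : (w : V) = -(i • ((φ w : W₂) : V)) := eq_neg_of_add_eq_zero_left hw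
    have h2 : (w : V) ∈ W₂ := by
      rw [h1]
      exact W₂.neg_mem (W₂.smul_mem i (φ w).2)
    have h3 : (w : V) = 0 := by
      have := Submodule.disjoint_def.1 hdisj (w : V) w.2 h2
      exact this
    exact Subtype.ext h3
  refine ⟨LinearMap.range g, ?_, ?_, ?_⟩
  · rintro _ ⟨w, rfl⟩
    rw [hgw]
    exact Submodule.add_mem _ (Submodule.mem_sup_left w.2)
      (Submodule.mem_sup_right (W₂.smul_mem i (φ w).2))
  · rintro _ ⟨w, rfl⟩
    have h0 : QuadraticMap.polar Q (w : V) ((φ w : W₂) : V) = 0 := horth w w.2 _ (φ w).2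
    rw [hgw, QuadraticMap.map_add Q, QuadraticMap.map_smul Q, QuadraticMap.polar_smul_right Q, h0,
      hφ' w, hi]
    simp
  · rw [finrank_sup_of_orth h₂ horth, LinearMap.finrank_range_of_inj hinj, ← φ.finrank_eq]
    omega

end general

section main

open Module Cfsg.Agent.Lib.Helper40_SpBasic Cfsg.Agent.Lib.Helper40_OConj
  Cfsg.Agent.Lib.Helper40_QuadIso Cfsg.Agent.Lib.Helper99_OrthTSDefs
  Cfsg.Agent.Lib.Helper43_OrthTS_OQ2 Cfsg.Agent.Lib.Helper85_OrthEven_EV5
  Cfsg.Agent.Lib.Helper94_OrthGenBridge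

variable {ι : Type} [Fintype ι] [DecidableEq ι] {F : Type*} [Field F]

/-- EV21: an isometric orthogonal decomposition into an even number of blocks, over a field in which `-1` is a square
(`q ≡ 1 mod 4`): plus type -/
theorem EV21 [Fintype F] (Q : (ι → F) → F) (hQ : IsNondegenerateQuadraticForm Q)
    (hq : Fintype.card F % 4 = 1) (t k : ℕ) (ht : Even t)
    (D : Fin t → Submodule F (ι → F)) (hD : IsOrthogonalMDecomposition Q k D) : IsPlusTypeOn Q ⊤ := by
  classical
  obtain ⟨c, rfl⟩ := ht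
  obtain ⟨i, hi⟩ : ∃ i : F, i * i = -1 := by
    have h1 : IsSquare (-1 : F) := by
      rw [FiniteField.isSquare_neg_one_iff]
      omega
    obtain ⟨i, hi⟩ := h1
    exact ⟨i, hi.symm⟩
  have hnd : ∀ j, NDOn (pol (qfOf Q hQ)) (D j) :=
    fun j => ndOn_of_geo Q hQ _ (hD.decomp.nondegenerate j)
  have horth : ∀ a b, a ≠ b → ∀ u ∈ D a, ∀ v ∈ D b, pol (qfOf Q hQ) u v = 0 :=
    fun a b hab u hu v hv => hD.decomp.orthogonal a b hab u hu v hv
  have hiso : ∀ a b, Iso (resQ (qfOf Q hQ) (D a)) (resQ (qfOf Q hQ) (D b)) :=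
    fun a b => iso_of_geo Q hQ (hD.isometric a b)
  have htop : iSup D = ⊤ := hD.decomp.decomp.iSup_eq_top
  have e : Fin c × Fin 2 ≃ Fin (c + c) := finProdFinEquiv.trans (finCongr (by omega))
  set E : Fin c → Submodule F (ι → F) := fun j => D (e (j, 0)) ⊔ D (e (j, 1)) with hE
  have hne : ∀ a b : Fin c, ∀ x y : Fin 2, (a, x) ≠ (b, y) → e (a, x) ≠ e (b, y) :=
    fun a b x y hab hh => hab (e.injective hh)
  have h01 : ∀ a : Fin c, ∀ u ∈ D (e (a, 0)), ∀ v ∈ D (e (a, 1)), pol (qfOf Q hQ) u v = 0 := by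
    intro a
    apply horth
    apply hne
    intro hh
    have h2 : (0 : Fin 2) = 1 := congrArg Prod.snd hh
    exact absurd h2 (by decide)
  have hpair : ∀ a b : Fin c, a ≠ b → ∀ x y : Fin 2,
      ∀ u ∈ D (e (a, x)), ∀ v ∈ D (e (b, y)), pol (qfOf Q hQ) u v = 0 := by
    intro a b hab x y
    apply horth
    apply hne
    intro hh
    exact hab (congrArg Prod.fst hh)
  have key : OHypOn (qfOf Q hQ) (⊤ : Submodule F (ι → F)) ∧
      Even (finrank F (⊤ : Submodule F (ι → F))) := by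
    apply plus_of_even_blocks E
    · intro a
      exact ndOn_sup (hnd _) (hnd _) (h01 a)
    · intro a b hab
      exact orth_sup_left (orth_sup_right (hpair a b hab 0 0) (hpair a b hab 0 1))
        (orth_sup_right (hpair a b hab 1 0) (hpair a b hab 1 1))
    · intro a b
      exact iso_sup_sup (hnd _) (hnd _) (h01 a) (h01 b) (hiso _ _) (hiso _ _)
    · rw [eq_top_iff, ← htop]
      refine iSup_le fun x => ?_
      obtain ⟨⟨a, b⟩, rfl⟩ := e.surjective x
      refine le_trans ?_ (le_iSup E a)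
      rcases Fin.exists_fin_two.1 ⟨b, rfl⟩ with rfl | rfl
      · exact le_sup_left
      · exact le_sup_right
    · intro a
      rw [finrank_sup_of_orth (hnd _) (h01 a), (hiso (e (a, 0)) (e (a, 1))).finrank_eq]
      exact ⟨_, rfl⟩
    · right
      intro a
      exact oHypOn_sup_of_iso (hnd _) (h01 a) (hiso _ _) i hi
  exact isPlusTypeOn_of_oHypOn Q hQ key.2 key.1

end main

end Cfsg.Agent.Lib.Helper11_OrthEven_EV21
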