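import Mathlib
import Cfsg.Agent.Lib.Helper98_AschDefs
import Cfsg.Agent.Lib.Helper98_AschCliff
import Cfsg.Agent.Lib.Helper23_FormDefs

set_option autoImplicit false
set_option linter.unusedSectionVars false

/-!
# Package FORM-F1 (helper23, S5662 / S5663 / S5673): a reducible group of isometries of a reflexive
nondegenerate sesquilinear form stabilises a totally singular subspace or an orthogonal splitting.
-/

namespace Cfsg.Agent.Lib.Helper70_Form_F1

open Cfsg Cfsg.Geo Matrix Cfsg.Agent.Lib.Helper98_AschDefs Cfsg.Agent.Lib.Helper23_FormDefs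
open scoped Kronecker

variable {ι : Type} [Fintype ι] [DecidableEq ι] {F : Type*} [Field F]

theorem sesq_zero_right {σ : F ≃+* F} {f : (ι → F) → (ι → F) → F} (hf : IsSesq σ f) (w : ι → F) :
    f w 0 = 0 := by
  have h := hf.add_right w 0 0
  rw [add_zero] at h
  exact left_eq_add.1 h

theorem sesq_zero_left {σ : F ≃+* F} {f : (ι → F) → (ι → F) → F} (hf : IsSesq σ f) (w : ι → F) :
    f 0 w = 0 := by
  have h := hf.add_left 0 0 w
  rw [add_zero] at h
  exact left_eq_add.1 h

/-- the right orthogonal complement of a subspace -/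
def perp {σ : F ≃+* F} {f : (ι → F) → (ι → F) → F} (hf : IsSesq σ f) (W : Submodule F (ι → F)) :
    Submodule F (ι → F) where
  carrier := {v | ∀ w ∈ W, f w v = 0}
  add_mem' {a b} ha hb := by
    intro w hw
    rw [hf.add_right, ha w hw, hb w hw, add_zero]
  zero_mem' := fun w _ => sesq_zero_right hf w
  smul_mem' c v hv := by
    intro w hw
    rw [hf.smul_right, hv w hw, mul_zero]

theorem mem_perp {σ : F ≃+* F} {f : (ι → F) → (ι → F) → F} (hf : IsSesq σ f)
    (W : Submodule F (ι → F)) (v : ι → F) : v ∈ perp hf W ↔ ∀ w ∈ W, f w v = 0 := Iff.rfl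

/-- the linear functional `v ↦ σ⁻¹ (f w v)` -/
def phi {σ : F ≃+* F} {f : (ι → F) → (ι → F) → F} (hf : IsSesq σ f) (w : ι → F) :
    (ι → F) →ₗ[F] F where
  toFun v := σ.symm (f w v)
  map_add' a b := by rw [hf.add_right, map_add]
  map_smul' c v := by
    rw [hf.smul_right, map_mul, RingEquiv.symm_apply_apply, RingHom.id_apply, smul_eq_mul]

theorem finrank_perp_ge {σ : F ≃+* F} {f : (ι → F) → (ι → F) → F} (hf : IsSesq σ f)
    (W : Submodule F (ι → F)) :
    Module.finrank F (ι → F) ≤ Module.finrank F W + Module.finrank F (perp hf W) := by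
  classical
  set k := Module.finrank F W with hk
  let b := Module.finBasis F W
  let Ψ : (ι → F) →ₗ[F] (Fin k → F) := LinearMap.pi fun i => phi hf (b i : ι → F)
  have hker : LinearMap.ker Ψ ≤ perp hf W := by
    intro v hv
    rw [LinearMap.mem_ker] at hv
    intro w hw
    have hrep := b.sum_repr ⟨w, hw⟩
    have hw' : w = ∑ i, (b.repr ⟨w, hw⟩ i) • (b i : ι → F) := by
      have := congrArg (Subtype.val) hrep
      simp only [Submodule.coe_sum, Submodule.coe_smul] at this
      exact this.symm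
    have hlin : ∀ (s : Finset (Fin k)) (c : Fin k → F),
        f (∑ i ∈ s, c i • (b i : ι → F)) v = ∑ i ∈ s, c i * f (b i : ι → F) v := by
      intro s c
      induction s using Finset.induction_on with
      | empty => simp [sesq_zero_left hf]
      | insert a s ha ih =>
        rw [Finset.sum_insert ha, Finset.sum_insert ha, hf.add_left, hf.smul_left, ih]
    rw [hw', hlin]
    apply Finset.sum_eq_zero
    intro i _
    have hi : Ψ v i = 0 := by rw [hv]; rfl
    have hi' : σ.symm (f (b i : ι → F) v) = 0 := hi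
    have : f (b i : ι → F) v = 0 := by
      have := congrArg σ hi'
      rwa [RingEquiv.apply_symm_apply, map_zero] at this
    rw [this, mul_zero]
  have h1 := LinearMap.finrank_range_add_finrank_ker Ψ
  have h2 : Module.finrank F (LinearMap.range Ψ) ≤ k := by
    have := Submodule.finrank_le (LinearMap.range Ψ)
    rwa [Module.finrank_fin_fun] at this
  have h3 : Module.finrank F (LinearMap.ker Ψ) ≤ Module.finrank F (perp hf W) :=
    Submodule.finrank_mono hker
  omega


theorem mem_stab_iff (U : Submodule F (ι → F)) (g : GL ι F) :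
    g ∈ subspaceStabilizer U ↔ ∀ v, v ∈ U ↔ (g : Matrix ι ι F) *ᵥ v ∈ U := Iff.rfl

/-- nondegeneracy of the two summands of an orthogonal splitting -/
theorem nondeg_of_split {f : (ι → F) → (ι → F) → F}
    (hadd_l : ∀ x y v, f (x + y) v = f x v + f y v) (hadd_r : ∀ v x y, f v (x + y) = f v x + f v y)
    (hnd : IsNondegenerateForm f) (A B : Submodule F (ι → F)) (hsup : A ⊔ B = ⊤)
    (hAB : AreOrthogonalFor f A B) (hBA : AreOrthogonalFor f B A) : IsNondegenerateOn f A := by
  intro w hw hw0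
  obtain ⟨⟨x, hx⟩, ⟨x', hx'⟩⟩ := hnd w hw0
  have hxm : x ∈ A ⊔ B := by rw [hsup]; trivial
  have hxm' : x' ∈ A ⊔ B := by rw [hsup]; trivial
  obtain ⟨a, ha, b, hb, rfl⟩ := Submodule.mem_sup.1 hxm
  obtain ⟨a', ha', b', hb', rfl⟩ := Submodule.mem_sup.1 hxm'
  constructor
  · refine ⟨a, ha, ?_⟩
    rw [hadd_l, hBA b hb w hw, add_zero] at hx
    exact hx
  · refine ⟨a', ha', ?_⟩
    rw [hadd_r, hAB w hw b' hb', add_zero] at hx'
    exact hx'

/-- F1: a reducible group of isometries stabilises a totally singular subspace or an orthogonal splitting -/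
theorem F1 (σ : F ≃+* F) (f : (ι → F) → (ι → F) → F) (hf : IsSesq σ f) (hnd : IsNondegenerateForm f)
    (hrefl : IsRefl f) (H : Subgroup (GL ι F)) (hH : FixesForm (matrixSet H) f)
    (W : Submodule F (ι → F)) (hW0 : W ≠ ⊥) (hWtop : W ≠ ⊤)
    (hinv : ∀ h ∈ H, W.map (Matrix.toLin' (h : Matrix ι ι F)) ≤ W) :
    (∃ U : Submodule F (ι → F), U ≠ ⊥ ∧ IsTotallySingularFor f U ∧ H ≤ subspaceStabilizer U) ∨
    (∃ U U' : Submodule F (ι → F), U ≠ ⊥ ∧ U' ≠ ⊥ ∧ U ⊓ U' = ⊥ ∧ U ⊔ U' = ⊤ ∧ AreOrthogonalFor f U U' ∧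
      AreOrthogonalFor f U' U ∧ IsNondegenerateOn f U ∧ IsNondegenerateOn f U' ∧
      Module.finrank F U ≤ Module.finrank F U' ∧ H ≤ subspaceStabilizer U ∧ H ≤ subspaceStabilizer U') := by
  classical
  -- `h v ∈ W ↔ v ∈ W`
  have hWmem : ∀ h ∈ H, ∀ v, v ∈ W → (h : Matrix ι ι F) *ᵥ v ∈ W := by
    intro h hh v hv
    have := hinv h hh ⟨v, hv, rfl⟩
    rwa [Matrix.toLin'_apply] at this
  have hcancel : ∀ (h : GL ι F) (v : ι → F),
      (h : Matrix ι ι F) *ᵥ (((h⁻¹ : GL ι F) : Matrix ι ι F) *ᵥ v) = v := by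
    intro h v
    rw [Matrix.mulVec_mulVec, ← Units.val_mul, mul_inv_cancel, Units.val_one, Matrix.one_mulVec]
  have hcancel' : ∀ (h : GL ι F) (v : ι → F),
      ((h⁻¹ : GL ι F) : Matrix ι ι F) *ᵥ ((h : Matrix ι ι F) *ᵥ v) = v := by
    intro h v
    rw [Matrix.mulVec_mulVec, ← Units.val_mul, inv_mul_cancel, Units.val_one, Matrix.one_mulVec]
  have hfix : ∀ h ∈ H, ∀ u v, f ((h : Matrix ι ι F) *ᵥ u) ((h : Matrix ι ι F) *ᵥ v) = f u v :=
    fun h hh u v => hH _ ⟨h, hh, rfl⟩ u v
  have hWstab : H ≤ subspaceStabilizer W := by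
    intro h hh
    rw [mem_stab_iff]
    intro v
    constructor
    · exact hWmem h hh v
    · intro hv
      have := hWmem h⁻¹ (H.inv_mem hh) _ hv
      rwa [hcancel'] at this
  set Wp := perp hf W with hWp
  have hWpmem : ∀ h ∈ H, ∀ v, v ∈ Wp → (h : Matrix ι ι F) *ᵥ v ∈ Wp := by
    intro h hh v hv w hw
    have h1 := hfix h hh (((h⁻¹ : GL ι F) : Matrix ι ι F) *ᵥ w) v
    rw [hcancel] at h1
    rw [h1]
    exact hv _ (hWmem h⁻¹ (H.inv_mem hh) w hw)
  have hWpstab : H ≤ subspaceStabilizer Wp := by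
    intro h hh
    rw [mem_stab_iff]
    intro v
    constructor
    · exact hWpmem h hh v
    · intro hv
      have := hWpmem h⁻¹ (H.inv_mem hh) _ hv
      rwa [hcancel'] at this
  by_cases hR : W ⊓ Wp = ⊥
  · right
    have hdim : Module.finrank F (ι → F) ≤ Module.finrank F W + Module.finrank F Wp :=
      finrank_perp_ge hf W
    have hsup : W ⊔ Wp = ⊤ := by
      apply Submodule.eq_top_of_finrank_eq
      have h1 := Submodule.finrank_sup_add_finrank_inf_eq W Wp
      rw [hR, finrank_bot, add_zero] at h1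
      have h2 := Submodule.finrank_le (W ⊔ Wp)
      omega
    have hWpne : Wp ≠ ⊥ := by
      intro h0
      apply hWtop
      rw [h0, sup_bot_eq] at hsup
      exact hsup
    have hAB : AreOrthogonalFor f W Wp := fun u hu v hv => hv u hu
    have hBA : AreOrthogonalFor f Wp W := fun u hu v hv => hrefl _ _ (hu v hv)
    have hndW : IsNondegenerateOn f W :=
      nondeg_of_split hf.add_left hf.add_right hnd W Wp hsup hAB hBA
    have hndWp : IsNondegenerateOn f Wp :=
      nondeg_of_split hf.add_left hf.add_right hnd Wp W (by rwa [sup_comm]) hBA hAB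
    rcases le_total (Module.finrank F W) (Module.finrank F Wp) with hle | hle
    · exact ⟨W, Wp, hW0, hWpne, hR, hsup, hAB, hBA, hndW, hndWp, hle, hWstab, hWpstab⟩
    · exact ⟨Wp, W, hWpne, hW0, by rwa [inf_comm], by rwa [sup_comm], hBA, hAB, hndWp, hndW, hle,
        hWpstab, hWstab⟩
  · left
    refine ⟨W ⊓ Wp, hR, ?_, ?_⟩
    · intro u hu v hv
      exact (Submodule.mem_inf.1 hv).2 u (Submodule.mem_inf.1 hu).1
    · intro h hh
      rw [mem_stab_iff]
      intro v
      have h1 := (mem_stab_iff W h).1 (hWstab hh) v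
      have h2 := (mem_stab_iff Wp h).1 (hWpstab hh) v
      rw [Submodule.mem_inf, Submodule.mem_inf, h1, h2]

end Cfsg.Agent.Lib.Helper70_Form_F1
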