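/-
helper22: glue for the even-dimensional orthogonal rows (S5826, S5850, S5874, S5847, S5871), and the packages
EV14 (characteristic 2: a subspace on which the polar form is non-degenerate has even dimension) and
EV1 (the reducible case).
-/
import Mathlib
import Cfsg.Prelude.Def_GeometricClasses
import Cfsg.Agent.Lib.Helper98_AschDefs
import Cfsg.Agent.Lib.Helper23_FormDefs
import Cfsg.Agent.Lib.Helper29_OrthOddDefs
import Cfsg.Agent.Lib.Helper43_AltEven
import Cfsg.Agent.Lib.Helper70_Form_F1

set_option autoImplicit false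

namespace Cfsg.Agent.Lib.Helper22_OrthEven_Basic

open Cfsg Cfsg.Geo Matrix Cfsg.Agent.Lib.Helper98_AschDefs Cfsg.Agent.Lib.Helper23_FormDefs
  Cfsg.Agent.Lib.Helper29_OrthOddDefs
open scoped MatrixGroups

variable {ι : Type} [Fintype ι] [DecidableEq ι] {F : Type*} [Field F]

/-! ### glue -/

theorem omegaGL_le (Q : (ι → F) → F) : omegaGL Q ≤ isometryGroup F Q := by
  unfold omegaGL
  rintro _ ⟨x, _, rfl⟩
  exact x.2

theorem eq_of_maximal {G : Type*} [Group G] {K H M : Subgroup G} (hH : IsMaximalIn K H) (hHM : H ≤ M)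
    (hKM : ¬ K ≤ M) : H = M ⊓ K := by
  rcases hH.2 (M ⊓ K) (le_inf hHM hH.1.le) inf_le_right with h | h
  · exact h.symm
  · exact absurd (h ▸ inf_le_left : K ≤ M) hKM

theorem fixesForm_polar (Q : (ι → F) → F) (H : Subgroup (GL ι F)) (hHI : H ≤ isometryGroup F Q) :
    FixesForm (matrixSet H) (QuadraticMap.polar Q) := by
  rintro _ ⟨g, hg, rfl⟩ u v
  exact polar_mulVec_of_mem Q (hHI hg) u v

theorem fixesQuadForm_of_le (Q : (ι → F) → F) (H : Subgroup (GL ι F)) (hHI : H ≤ isometryGroup F Q) :
    FixesQuadForm (matrixSet H) Q := by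
  rintro _ ⟨g, hg, rfl⟩ v
  exact (mem_isometryGroup_iff Q g).mp (hHI hg) v

omit [Fintype ι] [DecidableEq ι] in
theorem isRefl_polar (Q : (ι → F) → F) : IsRefl (QuadraticMap.polar Q) := by
  intro u v h
  rw [QuadraticMap.polar_comm]; exact h

omit [Fintype ι] [DecidableEq ι] in
theorem Q_zero (Q : (ι → F) → F) (hQ : IsNondegenerateQuadraticForm Q) : Q 0 = 0 := by
  have := hQ.smul 0 (0 : ι → F)
  simpa using this

omit [Fintype ι] [DecidableEq ι] in
theorem Q_add (Q : (ι → F) → F) (u v : ι → F) : Q (u + v) = Q u + Q v + QuadraticMap.polar Q u v := by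
  unfold QuadraticMap.polar
  ring

omit [Fintype ι] [DecidableEq ι] in
theorem polar_self (Q : (ι → F) → F) (hQ : IsNondegenerateQuadraticForm Q) (v : ι → F) :
    QuadraticMap.polar Q v v = 2 * Q v := by
  unfold QuadraticMap.polar
  have h : v + v = (2 : F) • v := (two_smul F v).symm
  rw [h, hQ.smul]
  ring

omit [Fintype ι] [DecidableEq ι] in
theorem ne_zero_of_Q_ne (Q : (ι → F) → F) (hQ : IsNondegenerateQuadraticForm Q) {v : ι → F} (hv : Q v ≠ 0) :
    v ≠ 0 := by
  rintro rfl
  exact hv (Q_zero Q hQ)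

omit [Fintype ι] [DecidableEq ι] in
/-- a totally singular subspace is not everything -/
theorem ts_ne_top [Nonempty ι] (Q : (ι → F) → F) (hQ : IsNondegenerateQuadraticForm Q)
    (W : Submodule F (ι → F)) (hW : IsTotallySingularQuad Q W) : W ≠ ⊤ := by
  rintro rfl
  obtain ⟨i⟩ := ‹Nonempty ι›
  classical
  have hv : (Pi.single i (1 : F) : ι → F) ≠ 0 := by
    intro h
    have := congrFun h i
    simp at this
  obtain ⟨⟨x, hx⟩, -⟩ := hQ.nondegenerate _ hv
  apply hx
  unfold QuadraticMap.polar
  rw [hW _ Submodule.mem_top, hW _ Submodule.mem_top, hW _ Submodule.mem_top]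
  ring

theorem two_ne_zero_of_odd_card [Fintype F] (hodd : Odd (Fintype.card F)) : (2 : F) ≠ 0 := by
  intro h
  have hchar : ringChar F = 2 := by
    have : ringChar F ∣ 2 := by
      apply ringChar.dvd
      exact_mod_cast h
    rcases (Nat.dvd_prime Nat.prime_two).mp this with h1 | h1
    · exact absurd h1 (CharP.ringChar_ne_one)
    · exact h1
  have : CharP F 2 := by rw [← hchar]; exact ringChar.charP F
  obtain ⟨n, hn⟩ := FiniteField.card F 2
  obtain ⟨hp, hc⟩ := hn
  rw [hc] at hodd
  have : Even ((2 : ℕ) ^ (n : ℕ)) := (Nat.even_pow.mpr ⟨even_two, n.ne_zero⟩)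
  exact (Nat.not_even_iff_odd.mpr hodd) this

theorem odd_card_of_two_ne_zero [Fintype F] (h2 : (2 : F) ≠ 0) : Odd (Fintype.card F) := by
  obtain ⟨p, hp⟩ := CharP.exists F
  have := hp
  have hpp : Fact p.Prime := ⟨CharP.char_is_prime F p⟩
  obtain ⟨n, -, hc⟩ := FiniteField.card F p
  rw [hc]
  apply Odd.pow
  rcases hpp.out.eq_two_or_odd' with h | h
  · subst h
    exfalso
    apply h2
    have := CharP.cast_eq_zero F 2
    exact_mod_cast this
  · exact h

theorem not_odd_card_of_two_eq_zero [Fintype F] (h2 : (2 : F) = 0) : ¬ Odd (Fintype.card F) :=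
  fun h => two_ne_zero_of_odd_card h h2

omit [DecidableEq ι] in
/-- the span of a non-zero vector is neither `⊥` nor (in dimension at least 2) `⊤` -/
theorem span_singleton_ne (hn : 2 ≤ Fintype.card ι) {v : ι → F} (hv : v ≠ 0) :
    Submodule.span F {v} ≠ ⊥ ∧ Submodule.span F {v} ≠ ⊤ := by
  constructor
  · rw [Ne, Submodule.span_singleton_eq_bot]; exact hv
  · intro h
    have h1 : Module.finrank F (Submodule.span F {v}) = 1 := finrank_span_singleton hv
    rw [h, finrank_top, Module.finrank_fintype_fun_eq_card] at h1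
    omega

omit [Fintype ι] [DecidableEq ι] in
/-- in odd characteristic the span of a non-singular vector is non-degenerate -/
theorem nondegenerateOn_span_singleton (Q : (ι → F) → F) (hQ : IsNondegenerateQuadraticForm Q)
    (h2 : (2 : F) ≠ 0) {v : ι → F} (hv : Q v ≠ 0) :
    IsNondegenerateOn (QuadraticMap.polar Q) (Submodule.span F {v}) := by
  intro w hw hw0
  obtain ⟨c, rfl⟩ := Submodule.mem_span_singleton.mp hw
  have hc : c ≠ 0 := by
    rintro rfl
    exact hw0 (zero_smul _ _)
  have key : QuadraticMap.polar Q v (c • v) ≠ 0 := by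
    rw [hQ.polar_bilinear.smul_right, polar_self Q hQ]
    exact mul_ne_zero hc (mul_ne_zero h2 hv)
  refine ⟨⟨v, Submodule.mem_span_singleton_self v, key⟩, ⟨v, Submodule.mem_span_singleton_self v, ?_⟩⟩
  rw [QuadraticMap.polar_comm]
  exact key

/-! ### EV14 -/

/-- the polar form as a bilinear form -/
noncomputable def polarBil (Q : (ι → F) → F) (hQ : IsNondegenerateQuadraticForm Q) :
    LinearMap.BilinForm F (ι → F) :=
  LinearMap.mk₂ F (QuadraticMap.polar Q) hQ.polar_bilinear.add_left
    (fun c x v => by rw [hQ.polar_bilinear.smul_left]; rfl) hQ.polar_bilinear.add_right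
    (fun c v x => by rw [hQ.polar_bilinear.smul_right]; rfl)

omit [Fintype ι] [DecidableEq ι] in
theorem polarBil_apply (Q : (ι → F) → F) (hQ : IsNondegenerateQuadraticForm Q) (u v : ι → F) :
    polarBil Q hQ u v = QuadraticMap.polar Q u v := rfl

omit [DecidableEq ι] in
/-- EV14: in characteristic 2 a subspace on which the polar form is non-degenerate has even dimension -/
theorem EV14 (Q : (ι → F) → F) (hQ : IsNondegenerateQuadraticForm Q) (h2 : (2 : F) = 0)
    (W : Submodule F (ι → F)) (hW : IsNondegenerateOn (QuadraticMap.polar Q) W) :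
    Even (Module.finrank F W) := by
  set B : LinearMap.BilinForm F W := (polarBil Q hQ).restrict W with hB
  have hBa : ∀ x y : W, B x y = QuadraticMap.polar Q (x : ι → F) (y : ι → F) := fun x y => rfl
  have halt : B.IsAlt := by
    intro x
    rw [hBa, polar_self Q hQ, h2, zero_mul]
  have hnd : B.Nondegenerate := by
    refine ⟨?_, ?_⟩
    · intro x hx
      by_contra hx0
      have hx0' : (x : ι → F) ≠ 0 := fun h => hx0 (Subtype.ext h)
      obtain ⟨y, hy, hxy⟩ := (hW x x.2 hx0').2
      exact hxy (hx ⟨y, hy⟩)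
    · intro x hx
      by_contra hx0
      have hx0' : (x : ι → F) ≠ 0 := fun h => hx0 (Subtype.ext h)
      obtain ⟨y, hy, hxy⟩ := (hW x x.2 hx0').1
      exact hxy (hx ⟨y, hy⟩)
  exact Cfsg.Agent.Lib.Helper43_AltEven.even_finrank_of_alt _ W B halt hnd rfl

/-! ### EV1 -/

/-- membership in a subspace stabiliser -/
theorem mem_subspaceStabilizer_iff (W : Submodule F (ι → F)) (g : GL ι F) :
    g ∈ subspaceStabilizer W ↔ ∀ v, v ∈ W ↔ (g : Matrix ι ι F) *ᵥ v ∈ W := Iff.rfl

/-- EV1: a reducible group of isometries of a quadratic form stabilises a totally singular subspace, a non-degenerate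
subspace of at most half the dimension, or (characteristic 2) a non-singular vector -/
theorem EV1 [Fintype F] (Q : (ι → F) → F) (hQ : IsNondegenerateQuadraticForm Q) (H : Subgroup (GL ι F))
    (hHI : H ≤ isometryGroup F Q) (hred : ¬ ActsIrreducibly (matrixSet H)) :
    (∃ W : Submodule F (ι → F), W ≠ ⊥ ∧ IsTotallySingularQuad Q W ∧ H ≤ subspaceStabilizer W) ∨
    (∃ W : Submodule F (ι → F), W ≠ ⊥ ∧ W ≠ ⊤ ∧ IsNondegenerateOn (QuadraticMap.polar Q) W ∧
        2 * Module.finrank F W ≤ Fintype.card ι ∧ H ≤ subspaceStabilizer W) ∨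
    ((2 : F) = 0 ∧ ∃ v : ι → F, Q v ≠ 0 ∧ H ≤ subspaceStabilizer (Submodule.span F {v})) := by
  classical
  unfold ActsIrreducibly at hred
  push Not at hred
  obtain ⟨W, hWinv, hW0, hW1⟩ := hred
  have hinv : ∀ h ∈ H, W.map (Matrix.toLin' (h : Matrix ι ι F)) ≤ W :=
    fun h hh => hWinv _ ⟨h, hh, rfl⟩
  rcases Cfsg.Agent.Lib.Helper70_Form_F1.F1 (RingEquiv.refl F) (QuadraticMap.polar Q)
      (isSesq_of_bilinear hQ.polar_bilinear) hQ.nondegenerate (isRefl_polar Q) H (fixesForm_polar Q H hHI)
      W hW0 hW1 hinv with ⟨U, hU0, hUts, hHU⟩ | ⟨U, U', hU0, hU'0, hdisj, hsup, -, -, hUnd, -, hle, hHU, -⟩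
  · -- totally isotropic for the polar form
    by_cases h2 : (2 : F) = 0
    swap
    · left
      refine ⟨U, hU0, ?_, hHU⟩
      intro u hu
      have h := hUts u hu u hu
      rw [polar_self Q hQ] at h
      exact (mul_eq_zero.mp h).resolve_left h2
    · -- characteristic 2: the singular vectors of `U` form a subspace
      have hadd : ∀ u ∈ U, ∀ v ∈ U, Q (u + v) = Q u + Q v := by
        intro u hu v hv
        rw [Q_add Q u v, hUts u hu v hv, add_zero]
      let U₀ : Submodule F (ι → F) :=
        { carrier := {u | u ∈ U ∧ Q u = 0}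
          add_mem' := by
            rintro a b ⟨ha, ha0⟩ ⟨hb, hb0⟩
            exact ⟨U.add_mem ha hb, by rw [hadd a ha b hb, ha0, hb0, add_zero]⟩
          zero_mem' := ⟨U.zero_mem, Q_zero Q hQ⟩
          smul_mem' := by
            rintro c a ⟨ha, ha0⟩
            exact ⟨U.smul_mem c ha, by rw [hQ.smul, ha0, mul_zero]⟩ }
      have hU₀mem : ∀ u, u ∈ U₀ ↔ u ∈ U ∧ Q u = 0 := fun u => Iff.rfl
      by_cases hU₀ : U₀ = ⊥
      swap
      · left
        refine ⟨U₀, hU₀, fun u hu => ((hU₀mem u).mp hu).2, ?_⟩
        intro g hg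
        rw [mem_subspaceStabilizer_iff]
        intro v
        have hgU := (mem_subspaceStabilizer_iff U g).mp (hHU hg) v
        have hgQ := (mem_isometryGroup_iff Q g).mp (hHI hg) v
        rw [hU₀mem, hU₀mem, hgQ, hgU]
      · right; right
        refine ⟨h2, ?_⟩
        obtain ⟨u, hu, hu0⟩ := Submodule.exists_mem_ne_zero_of_ne_bot hU0
        have hQu : Q u ≠ 0 := by
          intro h
          have : u ∈ U₀ := ⟨hu, h⟩
          rw [hU₀] at this
          exact hu0 ((Submodule.mem_bot F).mp this)
        have hspan : U = Submodule.span F {u} := by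
          apply le_antisymm
          · intro v hv
            -- choose c with c * c = Q v / Q u
            have hchar : ringChar F = 2 := by
              have hd : ringChar F ∣ 2 := by
                apply ringChar.dvd
                exact_mod_cast h2
              rcases (Nat.dvd_prime Nat.prime_two).mp hd with h1 | h1
              · exact absurd h1 (CharP.ringChar_ne_one)
              · exact h1
            obtain ⟨c, hc⟩ := FiniteField.isSquare_of_char_two hchar (Q v / Q u)
            have hmem : v + c • u ∈ U₀ := by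
              refine ⟨U.add_mem hv (U.smul_mem c hu), ?_⟩
              rw [hadd v hv _ (U.smul_mem c hu), hQ.smul, sq, ← hc, div_mul_cancel₀ _ hQu]
              have : Q v + Q v = 2 * Q v := by ring
              rw [this, h2, zero_mul]
            rw [hU₀, Submodule.mem_bot] at hmem
            rw [Submodule.mem_span_singleton]
            refine ⟨-c, ?_⟩
            rw [neg_smul]
            exact (eq_neg_of_add_eq_zero_left hmem).symm
          · rw [Submodule.span_singleton_le_iff_mem]; exact hu
        refine ⟨u, hQu, ?_⟩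
        rw [← hspan]; exact hHU
  · -- orthogonal splitting
    right; left
    have hU1 : U ≠ ⊤ := by
      rintro rfl
      rw [top_inf_eq] at hdisj
      exact hU'0 hdisj
    refine ⟨U, hU0, hU1, hUnd, ?_, hHU⟩
    have hsum : Module.finrank F U + Module.finrank F U' = Fintype.card ι := by
      have h := Submodule.finrank_sup_add_finrank_inf_eq U U'
      rw [hsup, hdisj, finrank_top, finrank_bot, add_zero, Module.finrank_fintype_fun_eq_card] at h
      exact h.symm
    omega

end Cfsg.Agent.Lib.Helper22_OrthEven_Basic
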