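import Mathlib
import Cfsg.Agent.Lib.Helper98_AschDefs
import Cfsg.Agent.Lib.Helper98_AschCliff
import Cfsg.Agent.Lib.Helper23_FormDefs
import Cfsg.Agent.Lib.Helper29_Asch_PKG0
import Cfsg.Agent.Lib.Helper29_Asch_PKP1
import Cfsg.Agent.Lib.Helper29_OrthOdd_Glue
import Cfsg.Agent.Lib.Helper7_OrthOdd_OG2
import Cfsg.Agent.Lib.Helper30_AschMax
import Cfsg.Agent.Lib.Helper22_OrthEven_Basic

set_option autoImplicit false

/-!
# EV27 (package of helper22's even-dimensional orthogonal rows, batch 3)

Over the field with `3` elements an isometric orthogonal decomposition into anisotropic planes is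
refined by the decomposition into the lines `⟨v⟩`, `Q v = 1`; the isometries permuting the planes
permute these lines.
-/

open Cfsg Cfsg.Geo Matrix Cfsg.Agent.Lib.Helper98_AschDefs Cfsg.Agent.Lib.Helper23_FormDefs
open scoped Kronecker MatrixGroups

namespace Cfsg.Agent.Lib.Helper43_OrthEven_EV27

open Module Cfsg.Agent.Lib.Helper22_OrthEven_Basic

variable {ι : Type} [Fintype ι] [DecidableEq ι] {F : Type*} [Field F]

/-! ### the field with three elements -/

section F3

variable [Fintype F]

omit [Fintype ι] [DecidableEq ι] in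
theorem three_eq_zero (hq : Fintype.card F = 3) : (3 : F) = 0 := by
  have := Nat.cast_card_eq_zero F
  rw [hq] at this
  exact_mod_cast this

omit [Fintype ι] [DecidableEq ι] in
theorem two_eq_neg_one (hq : Fintype.card F = 3) : (2 : F) = -1 := by
  linear_combination three_eq_zero hq

omit [Fintype ι] [DecidableEq ι] in
theorem two_ne_zero3 (hq : Fintype.card F = 3) : (2 : F) ≠ 0 := by
  rw [two_eq_neg_one hq]
  exact neg_ne_zero.2 one_ne_zero

omit [Fintype ι] [DecidableEq ι] in
theorem trichotomy (hq : Fintype.card F = 3) (a : F) : a = 0 ∨ a = 1 ∨ a = -1 := by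
  have h : a ^ 3 = a := by
    have := FiniteField.pow_card a
    rwa [hq] at this
  have h1 : a * (a - 1) * (a + 1) = 0 := by linear_combination h
  rcases mul_eq_zero.1 h1 with h2 | h2
  · rcases mul_eq_zero.1 h2 with h3 | h3
    · exact Or.inl h3
    · exact Or.inr (Or.inl (sub_eq_zero.1 h3))
  · exact Or.inr (Or.inr (eq_neg_of_add_eq_zero_left h2))

end F3

/-! ### quadratic forms given as functions -/

omit [Fintype ι] [DecidableEq ι] in
theorem Q_comb (Q : (ι → F) → F) (hQ : IsNondegenerateQuadraticForm Q) (a b : F) (v w : ι → F) :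
    Q (a • v + b • w) = a ^ 2 * Q v + b ^ 2 * Q w + a * b * QuadraticMap.polar Q v w := by
  rw [Q_add Q, hQ.smul, hQ.smul, hQ.polar_bilinear.smul_left, hQ.polar_bilinear.smul_right]
  ring


/-! ### anisotropic planes over the field with three elements -/

omit [DecidableEq ι] in
theorem plane_F3 [Fintype F] (hq : Fintype.card F = 3) (Q : (ι → F) → F)
    (hQ : IsNondegenerateQuadraticForm Q) (W : Submodule F (ι → F))
    (hdim : finrank F W = 2) (hminus : ¬ IsPlusTypeOn Q W) :
    ∃ v w : ι → F, v ∈ W ∧ w ∈ W ∧ Q v = 1 ∧ Q w = 1 ∧ QuadraticMap.polar Q v w = 0 ∧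
      W = Submodule.span F {v} ⊔ Submodule.span F {w} ∧
      ∀ x ∈ W, Q x = 1 → x ∈ Submodule.span F {v} ∨ x ∈ Submodule.span F {w} := by
  classical
  have h2 : (2 : F) ≠ 0 := two_ne_zero3 hq
  have h21 : (2 : F) = -1 := two_eq_neg_one hq
  have h11 : (1 : F) ≠ -1 := by
    intro h
    apply h2
    linear_combination h
  -- `W` is anisotropic
  have haniso : ∀ u ∈ W, u ≠ 0 → Q u ≠ 0 := by
    intro u hu hu0 hQu
    apply hminus
    refine ⟨Submodule.span F {u}, ?_, ?_, ?_⟩
    · rw [Submodule.span_le]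
      exact Set.singleton_subset_iff.2 hu
    · intro x hx
      obtain ⟨c, rfl⟩ := Submodule.mem_span_singleton.1 hx
      rw [hQ.smul, hQu, mul_zero]
    · rw [finrank_span_singleton hu0, hdim]
  have hval : ∀ u ∈ W, u ≠ 0 → Q u = 1 ∨ Q u = -1 := by
    intro u hu hu0
    rcases trichotomy hq (Q u) with h | h | h
    · exact absurd h (haniso u hu hu0)
    · exact Or.inl h
    · exact Or.inr h
  -- a nonzero vector
  have hWne : W ≠ ⊥ := by
    intro h
    rw [h, finrank_bot] at hdim
    omega
  obtain ⟨u, hu, hu0⟩ := Submodule.exists_mem_ne_zero_of_ne_bot hWne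
  -- a nonzero vector orthogonal to it
  obtain ⟨u', hu', hu'0, huu'⟩ : ∃ u' ∈ W, u' ≠ 0 ∧ QuadraticMap.polar Q u u' = 0 := by
    let L : W →ₗ[F] F := (polarBil Q hQ u).domRestrict W
    have hker : LinearMap.ker L ≠ ⊥ :=
      LinearMap.ker_ne_bot_of_finrank_lt (by rw [hdim, finrank_self]; norm_num)
    obtain ⟨x, hx, hx0⟩ := Submodule.exists_mem_ne_zero_of_ne_bot hker
    refine ⟨(x : ι → F), x.2, fun h => hx0 (Subtype.ext h), ?_⟩
    exact hx
  have hpuu : QuadraticMap.polar Q u u = 2 * Q u := polar_self Q hQ u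
  -- `u ± u'` are nonzero
  have hsum : ∀ e : F, e ≠ 0 → (1 : F) • u + e • u' ≠ 0 := by
    intro e he h
    have h1 : QuadraticMap.polar Q u ((1 : F) • u + e • u') = 2 * Q u := by
      rw [hQ.polar_bilinear.add_right, hQ.polar_bilinear.smul_right,
        hQ.polar_bilinear.smul_right, huu', hpuu]
      ring
    rw [h] at h1
    have h3 : QuadraticMap.polar Q u 0 = 0 := by
      have := hQ.polar_bilinear.smul_right 0 u 0
      simpa using this
    rw [h3] at h1
    exact (mul_ne_zero h2 (haniso u hu hu0)) h1.symm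
  have hsum_mem : ∀ e : F, (1 : F) • u + e • u' ∈ W := fun e =>
    W.add_mem (W.smul_mem _ hu) (W.smul_mem _ hu')
  have hQsum : ∀ e : F, e ^ 2 = 1 → Q ((1 : F) • u + e • u') = Q u + Q u' := by
    intro e he
    rw [Q_comb Q hQ, huu', he]
    ring
  -- the two vectors
  obtain ⟨v, w, hv, hw, hQv, hQw, hvw⟩ : ∃ v w : ι → F, v ∈ W ∧ w ∈ W ∧ Q v = 1 ∧ Q w = 1 ∧
      QuadraticMap.polar Q v w = 0 := by
    rcases hval u hu hu0 with ha | ha <;> rcases hval u' hu' hu'0 with hb | hb
    · exact ⟨u, u', hu, hu', ha, hb, huu'⟩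
    · exfalso
      apply haniso _ (hsum_mem 1) (hsum 1 one_ne_zero)
      rw [hQsum 1 (by ring), ha, hb]
      ring
    · exfalso
      apply haniso _ (hsum_mem 1) (hsum 1 one_ne_zero)
      rw [hQsum 1 (by ring), ha, hb]
      ring
    · refine ⟨(1 : F) • u + (1 : F) • u', (1 : F) • u + (-1 : F) • u', hsum_mem 1, hsum_mem (-1),
        ?_, ?_, ?_⟩
      · rw [hQsum 1 (by ring), ha, hb]
        linear_combination (-1 : F) * h21
      · rw [hQsum (-1) (by ring), ha, hb]
        linear_combination (-1 : F) * h21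
      · have hpu'u' : QuadraticMap.polar Q u' u' = 2 * Q u' := polar_self Q hQ u'
        have hu'u : QuadraticMap.polar Q u' u = 0 := by
          rw [QuadraticMap.polar_comm]
          exact huu'
        simp only [hQ.polar_bilinear.add_left, hQ.polar_bilinear.add_right,
          hQ.polar_bilinear.smul_left, hQ.polar_bilinear.smul_right, hpuu, hpu'u', huu', hu'u,
          ha, hb]
        ring
  have hv0 : v ≠ 0 := ne_zero_of_Q_ne Q hQ (by rw [hQv]; exact one_ne_zero)
  have hw0 : w ≠ 0 := ne_zero_of_Q_ne Q hQ (by rw [hQw]; exact one_ne_zero)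
  have hle : Submodule.span F {v} ⊔ Submodule.span F {w} ≤ W := by
    apply sup_le
    · rw [Submodule.span_le]
      exact Set.singleton_subset_iff.2 hv
    · rw [Submodule.span_le]
      exact Set.singleton_subset_iff.2 hw
  have hinf : Submodule.span F {v} ⊓ Submodule.span F {w} = ⊥ := by
    rw [eq_bot_iff]
    rintro x ⟨hx1, hx2⟩
    obtain ⟨c, rfl⟩ := Submodule.mem_span_singleton.1 hx1
    obtain ⟨d, hd⟩ := Submodule.mem_span_singleton.1 hx2
    have h1 : QuadraticMap.polar Q v (c • v) = c * 2 := by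
      rw [hQ.polar_bilinear.smul_right, polar_self Q hQ, hQv]
      ring
    rw [← hd, hQ.polar_bilinear.smul_right, hvw, mul_zero] at h1
    have hc : c = 0 := by
      rcases mul_eq_zero.1 h1.symm with h | h
      · exact h
      · exact absurd h h2
    rw [hc, zero_smul]
    exact Submodule.zero_mem _
  have hWeq : W = Submodule.span F {v} ⊔ Submodule.span F {w} := by
    symm
    apply Submodule.eq_of_le_of_finrank_eq hle
    have := Submodule.finrank_sup_add_finrank_inf_eq (Submodule.span F {v}) (Submodule.span F {w})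
    rw [hinf, finrank_bot, finrank_span_singleton hv0, finrank_span_singleton hw0] at this
    rw [hdim]
    omega
  refine ⟨v, w, hv, hw, hQv, hQw, hvw, hWeq, ?_⟩
  intro x hx hQx
  rw [hWeq] at hx
  obtain ⟨y, hy, z, hz, rfl⟩ := Submodule.mem_sup.1 hx
  obtain ⟨a, rfl⟩ := Submodule.mem_span_singleton.1 hy
  obtain ⟨b, rfl⟩ := Submodule.mem_span_singleton.1 hz
  rw [Q_comb Q hQ, hQv, hQw, hvw] at hQx
  rcases trichotomy hq a with ha | ha | ha
  · right
    rw [ha, zero_smul, zero_add]
    exact Submodule.smul_mem _ _ (Submodule.mem_span_singleton_self w)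
  all_goals
    rcases trichotomy hq b with hb | hb | hb
    · left
      rw [hb, zero_smul, add_zero]
      exact Submodule.smul_mem _ _ (Submodule.mem_span_singleton_self v)
    all_goals
      exfalso
      rw [ha, hb] at hQx
      apply h11
      linear_combination (-1 : F) * hQx + h21

/-! ### a general criterion for the stabiliser of a decomposition -/

theorem mem_stab_of_forall_exists {t : ℕ} (D : Fin t → Submodule F (ι → F))
    (hindep : iSupIndep D) (hne : ∀ i, D i ≠ ⊥) (g : GL ι F)
    (h : ∀ i, ∃ j, (D i).map (Matrix.toLin' (g : Matrix ι ι F)) = D j) :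
    g ∈ decompositionStabilizer D := by
  choose τ hτ using h
  have hginj : Function.Injective (Matrix.toLin' (g : Matrix ι ι F)) := by
    apply Function.LeftInverse.injective (g := Matrix.toLin' ((g⁻¹ : GL ι F) : Matrix ι ι F))
    intro v
    rw [← LinearMap.comp_apply, ← Matrix.toLin'_mul]
    have : ((g⁻¹ : GL ι F) : Matrix ι ι F) * (g : Matrix ι ι F) = 1 := by
      rw [← Units.val_mul, inv_mul_cancel, Units.val_one]
    rw [this, Matrix.toLin'_one]
    rfl
  have hτinj : Function.Injective τ := by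
    intro a b hab
    apply hindep.injective hne
    apply Submodule.map_injective_of_injective hginj
    rw [hτ a, hτ b, hab]
  exact ⟨Equiv.ofBijective τ (Finite.injective_iff_bijective.1 hτinj), fun i => hτ i⟩


/-! ### lines spanned by vectors of the same norm -/

omit [Fintype ι] [DecidableEq ι] in
theorem isometric_span (Q : (ι → F) → F) (hQ : IsNondegenerateQuadraticForm Q) {x y : ι → F}
    (hx : x ≠ 0) (hy : y ≠ 0) (hxy : Q x = Q y) :
    AreIsometricFor Q (Submodule.span F {x}) (Submodule.span F {y}) := by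
  refine ⟨(LinearEquiv.toSpanNonzeroSingleton F (ι → F) x hx).symm.trans
    (LinearEquiv.toSpanNonzeroSingleton F (ι → F) y hy), fun w => ?_⟩
  set c := (LinearEquiv.toSpanNonzeroSingleton F (ι → F) x hx).symm w with hc
  have h1 : (w : ι → F) = c • x :=
    (LinearEquiv.toSpanNonzeroSingleton_symm_apply_smul F (ι → F) x hx w).symm
  have h2 : ((((LinearEquiv.toSpanNonzeroSingleton F (ι → F) x hx).symm.trans
      (LinearEquiv.toSpanNonzeroSingleton F (ι → F) y hy)) w :
        Submodule.span F {y}) : ι → F) = c • y := rfl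
  rw [h2, h1, hQ.smul, hQ.smul, hxy]

omit [Fintype ι] [DecidableEq ι] in
theorem orth_span (Q : (ι → F) → F) (hQ : IsNondegenerateQuadraticForm Q) {x y : ι → F}
    (hxy : QuadraticMap.polar Q x y = 0) :
    AreOrthogonalFor (QuadraticMap.polar Q) (Submodule.span F {x}) (Submodule.span F {y}) := by
  intro u hu v hv
  obtain ⟨a, rfl⟩ := Submodule.mem_span_singleton.1 hu
  obtain ⟨b, rfl⟩ := Submodule.mem_span_singleton.1 hv
  rw [hQ.polar_bilinear.smul_left, hQ.polar_bilinear.smul_right, hxy]
  ring

/-! ### EV27 -/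

theorem EV27 [Fintype F] (hq : Fintype.card F = 3) (Q : (ι → F) → F) (hQ : IsNondegenerateQuadraticForm Q)
    (t t' : ℕ) (ht' : t' = 2 * t) (D : Fin t → Submodule F (ι → F)) (hD : IsOrthogonalMDecomposition Q 2 D)
    (hminus : ∀ i, ¬ IsPlusTypeOn Q (D i)) :
    ∃ D' : Fin t' → Submodule F (ι → F), IsOrthogonalMDecomposition Q 1 D' ∧
      decompositionStabilizer D ⊓ isometryGroup F Q ≤ decompositionStabilizer D' := by
  classical
  have h2 : (2 : F) ≠ 0 := two_ne_zero3 hq
  have hpl := fun i => plane_F3 hq Q hQ (D i) (hD.decomp.decomp.finrank_eq i) (hminus i)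
  choose v w hvD hwD hQv hQw hvw hsup hcls using hpl
  let vec : Fin t × Fin 2 → (ι → F) := fun p => if p.2 = 0 then v p.1 else w p.1
  have hvec0 : ∀ i, vec (i, 0) = v i := fun i => by simp [vec]
  have hvec1 : ∀ i, vec (i, 1) = w i := fun i => by simp [vec]
  have hvec_mem : ∀ p, vec p ∈ D p.1 := by
    rintro ⟨i, ε⟩
    fin_cases ε
    · simpa [vec] using hvD i
    · simpa [vec] using hwD i
  have hvec_Q : ∀ p, Q (vec p) = 1 := by
    rintro ⟨i, ε⟩
    fin_cases ε
    · simpa [vec] using hQv i
    · simpa [vec] using hQw i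
  have hvec_ne : ∀ p, vec p ≠ 0 := fun p =>
    ne_zero_of_Q_ne Q hQ (by rw [hvec_Q p]; exact one_ne_zero)
  have hvec_orth : ∀ p p', p ≠ p' → QuadraticMap.polar Q (vec p) (vec p') = 0 := by
    rintro ⟨i, ε⟩ ⟨i', ε'⟩ hne
    by_cases hi : i = i'
    · subst hi
      fin_cases ε <;> fin_cases ε'
      · exact absurd rfl hne
      · simpa [vec] using hvw i
      · have := hvw i
        rw [QuadraticMap.polar_comm] at this
        simpa [vec] using this
      · exact absurd rfl hne
    · exact hD.decomp.orthogonal i i' hi _ (hvec_mem (i, ε)) _ (hvec_mem (i', ε'))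
  have hD_sup : ∀ i, D i = Submodule.span F {vec (i, 0)} ⊔ Submodule.span F {vec (i, 1)} := by
    intro i
    rw [hvec0, hvec1]
    exact hsup i
  have hcls' : ∀ i, ∀ x ∈ D i, Q x = 1 → ∃ ε : Fin 2, x ∈ Submodule.span F {vec (i, ε)} := by
    intro i x hx hQx
    rcases hcls i x hx hQx with h | h
    · exact ⟨0, by rw [hvec0]; exact h⟩
    · exact ⟨1, by rw [hvec1]; exact h⟩
  have hli : LinearIndependent F vec := by
    rw [Fintype.linearIndependent_iff]
    intro g hg p0
    have h1 := congrArg (polarBil Q hQ (vec p0)) hg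
    rw [map_sum, map_zero, Finset.sum_eq_single p0] at h1
    · rw [map_smul, smul_eq_mul, polarBil_apply, polar_self Q hQ, hvec_Q] at h1
      rcases mul_eq_zero.1 h1 with h | h
      · exact h
      · exfalso
        rw [mul_one] at h
        exact h2 h
    · intro p _ hp
      rw [map_smul, smul_eq_mul, polarBil_apply, hvec_orth p0 p (Ne.symm hp), mul_zero]
    · intro h
      exact absurd (Finset.mem_univ _) h
  have hindepL : iSupIndep fun p => Submodule.span F {vec p} := hli.iSupIndep_span_singleton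
  let eqv : Fin t' ≃ Fin t × Fin 2 := Fintype.equivOfCardEq (by
    rw [Fintype.card_prod, Fintype.card_fin, Fintype.card_fin, Fintype.card_fin, ht']
    ring)
  let D' : Fin t' → Submodule F (ι → F) := fun a => Submodule.span F {vec (eqv a)}
  have hD'indep : iSupIndep D' := hindepL.comp eqv.injective
  have hD'ne : ∀ a, D' a ≠ ⊥ := fun a => by
    show Submodule.span F {vec (eqv a)} ≠ ⊥
    rw [Ne, Submodule.span_singleton_eq_bot]
    exact hvec_ne _
  have hD'sup : iSup D' = ⊤ := by
    have h1 : iSup D' = ⨆ p, Submodule.span F {vec p} :=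
      Equiv.iSup_comp (g := fun p => Submodule.span F {vec p}) eqv
    rw [h1, iSup_prod, ← hD.decomp.decomp.iSup_eq_top]
    congr 1
    funext i
    rw [hD_sup i]
    apply le_antisymm
    · apply iSup_le
      intro ε
      fin_cases ε
      · exact le_sup_left
      · exact le_sup_right
    · apply sup_le
      · exact le_iSup (fun ε : Fin 2 => Submodule.span F {vec (i, ε)}) 0
      · exact le_iSup (fun ε : Fin 2 => Submodule.span F {vec (i, ε)}) 1
  refine ⟨D', ⟨⟨⟨?_, one_pos, ?_, hD'indep, hD'sup⟩, ?_, ?_⟩, ?_⟩, ?_⟩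
  · have := hD.decomp.decomp.two_le
    omega
  · intro a
    exact finrank_span_singleton (hvec_ne _)
  · intro a
    exact nondegenerateOn_span_singleton Q hQ h2 (by rw [hvec_Q]; exact one_ne_zero)
  · intro a b hab
    exact orth_span Q hQ (hvec_orth _ _ (fun h => hab (eqv.injective h)))
  · intro a b
    exact isometric_span Q hQ (hvec_ne _) (hvec_ne _) (by rw [hvec_Q, hvec_Q])
  · rintro g ⟨hgD, hgI⟩
    obtain ⟨σ, hσ⟩ := hgD
    have hiso : ∀ u, Q ((g : Matrix ι ι F) *ᵥ u) = Q u := fun u => hgI u u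
    apply mem_stab_of_forall_exists D' hD'indep hD'ne
    intro a
    set p := eqv a with hp
    have hx_mem : Matrix.toLin' (g : Matrix ι ι F) (vec p) ∈ D (σ p.1) := by
      rw [← hσ p.1]
      exact Submodule.mem_map_of_mem (hvec_mem p)
    have hx_Q : Q (Matrix.toLin' (g : Matrix ι ι F) (vec p)) = 1 := by
      rw [Matrix.toLin'_apply, hiso, hvec_Q]
    obtain ⟨ε, hε⟩ := hcls' (σ p.1) _ hx_mem hx_Q
    refine ⟨eqv.symm (σ p.1, ε), ?_⟩
    show (Submodule.span F {vec (eqv a)}).map _ = Submodule.span F {vec (eqv (eqv.symm (σ p.1, ε)))}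
    rw [Equiv.apply_symm_apply, Submodule.map_span, Set.image_singleton, ← hp]
    obtain ⟨c, hc⟩ := Submodule.mem_span_singleton.1 hε
    have hc0 : c ≠ 0 := by
      rintro rfl
      rw [zero_smul] at hc
      rw [← hc, Q_zero Q hQ] at hx_Q
      exact zero_ne_one hx_Q
    rw [← hc]
    exact Submodule.span_singleton_smul_eq (IsUnit.mk0 c hc0) _

end Cfsg.Agent.Lib.Helper43_OrthEven_EV27
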