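import Mathlib
import Cfsg.Agent.Lib.Helper98_AschDefs
import Cfsg.Agent.Lib.Helper98_AschCliff
import Cfsg.Agent.Lib.Helper23_FormDefs
import Cfsg.Agent.Lib.Helper29_Asch_PKG0
import Cfsg.Agent.Lib.Helper29_Asch_PKP1
import Cfsg.Agent.Lib.Helper29_OrthOdd_Glue
import Cfsg.Agent.Lib.Helper7_OrthOdd_OG2
import Cfsg.Agent.Lib.Helper30_AschMax
import Cfsg.Agent.Lib.Helper22_OrthEven_Basic
import Cfsg.Agent.Lib.Helper43_OrthEven_EV27

set_option autoImplicit false

/-!
# EV45d (package of helper22's even-dimensional orthogonal rows, batch 4)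

Over the field with `5` elements an orthogonal decomposition into hyperbolic planes is refined by
the decomposition into the lines `⟨v⟩`, `Q v = 1` (in a hyperbolic plane `⟨e, f⟩`, `Q (x e + y f) = x y`,
these are `⟨e + f⟩` and `⟨e - f⟩`); the isometries permuting the planes permute these lines.
The general refinement step `refine_lines` is the second half of `Helper43_OrthEven_EV27.EV27`.
-/

open Cfsg Cfsg.Geo Matrix Cfsg.Agent.Lib.Helper98_AschDefs Cfsg.Agent.Lib.Helper23_FormDefs
open scoped Kronecker MatrixGroups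

namespace Cfsg.Agent.Lib.Helper11_OrthEven_EV45d

open Module Cfsg.Agent.Lib.Helper22_OrthEven_Basic Cfsg.Agent.Lib.Helper43_OrthEven_EV27

variable {ι : Type} [Fintype ι] [DecidableEq ι] {F : Type*} [Field F]

/-! ### the field with five elements -/

section F5

variable [Fintype F]

omit [Fintype ι] [DecidableEq ι] in
theorem five_eq_zero (hq : Fintype.card F = 5) : (5 : F) = 0 := by
  have := Nat.cast_card_eq_zero F
  rw [hq] at this
  exact_mod_cast this

omit [Fintype ι] [DecidableEq ι] in
theorem two_ne_zero5 (hq : Fintype.card F = 5) : (2 : F) ≠ 0 := by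
  intro h
  have h5 := five_eq_zero (F := F) hq
  have : (1 : F) = 0 := by linear_combination h5 - 2 * h
  exact one_ne_zero this

omit [Fintype ι] [DecidableEq ι] in
theorem three_ne_zero5 (hq : Fintype.card F = 5) : (3 : F) ≠ 0 := by
  intro h
  have h5 := five_eq_zero (F := F) hq
  have : (1 : F) = 0 := by linear_combination 2 * h - h5
  exact one_ne_zero this

omit [Fintype ι] [DecidableEq ι] in
theorem sq_cases (hq : Fintype.card F = 5) (a : F) : a = 0 ∨ a ^ 2 = 1 ∨ a ^ 2 = -1 := by
  by_cases ha : a = 0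
  · exact Or.inl ha
  · right
    have h : a ^ 4 = 1 := by
      have := FiniteField.pow_card_sub_one_eq_one a ha
      rwa [hq] at this
    have h1 : (a ^ 2 - 1) * (a ^ 2 + 1) = 0 := by linear_combination h
    rcases mul_eq_zero.1 h1 with h2 | h2
    · exact Or.inl (sub_eq_zero.1 h2)
    · exact Or.inr (eq_neg_of_add_eq_zero_left h2)

end F5

/-! ### hyperbolic planes over the field with five elements -/

omit [DecidableEq ι] in
theorem plane_F5 [Fintype F] (hq : Fintype.card F = 5) (Q : (ι → F) → F)
    (hQ : IsNondegenerateQuadraticForm Q) (W : Submodule F (ι → F))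
    (hdim : finrank F W = 2) (hnd : IsNondegenerateOn (QuadraticMap.polar Q) W)
    (hplus : IsPlusTypeOn Q W) :
    ∃ v w : ι → F, v ∈ W ∧ w ∈ W ∧ Q v = 1 ∧ Q w = 1 ∧ QuadraticMap.polar Q v w = 0 ∧
      W = Submodule.span F {v} ⊔ Submodule.span F {w} ∧
      ∀ x ∈ W, Q x = 1 → x ∈ Submodule.span F {v} ∨ x ∈ Submodule.span F {w} := by
  classical
  have h5 : (5 : F) = 0 := five_eq_zero hq
  have h2 : (2 : F) ≠ 0 := two_ne_zero5 hq
  have h3 : (3 : F) ≠ 0 := three_ne_zero5 hq
  -- a singular vector
  obtain ⟨U, hUW, hUts, hUdim⟩ := hplus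
  have hU1 : finrank F U = 1 := by omega
  have hUne : U ≠ ⊥ := by
    intro h
    rw [h, finrank_bot] at hU1
    omega
  obtain ⟨e, heU, he0⟩ := Submodule.exists_mem_ne_zero_of_ne_bot hUne
  have heW : e ∈ W := hUW heU
  have hQe : Q e = 0 := hUts e heU
  have hpee : QuadraticMap.polar Q e e = 0 := by rw [polar_self Q hQ, hQe, mul_zero]
  -- a vector pairing non-trivially with it
  obtain ⟨f', hf'W, hβ⟩ := (hnd e heW he0).2
  set β := QuadraticMap.polar Q e f' with hβdef
  have hβ' : QuadraticMap.polar Q f' e = β := by rw [QuadraticMap.polar_comm]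
  -- the hyperbolic partner
  set f : ι → F := β⁻¹ • f' + (-(β⁻¹ ^ 2 * Q f')) • e with hf
  have hfW : f ∈ W := W.add_mem (W.smul_mem _ hf'W) (W.smul_mem _ heW)
  have hQf : Q f = 0 := by
    rw [hf, Q_comb Q hQ, hQe, hβ']
    field_simp
    ring
  have hpef : QuadraticMap.polar Q e f = 1 := by
    rw [hf, hQ.polar_bilinear.add_right, hQ.polar_bilinear.smul_right,
      hQ.polar_bilinear.smul_right, hpee, ← hβdef]
    field_simp
    ring
  have hpfe : QuadraticMap.polar Q f e = 1 := by rw [QuadraticMap.polar_comm]; exact hpef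
  have hpff : QuadraticMap.polar Q f f = 0 := by rw [polar_self Q hQ, hQf, mul_zero]
  -- the two vectors
  set v : ι → F := (1 : F) • e + (1 : F) • f with hv
  set w : ι → F := (2 : F) • e + (-2 : F) • f with hw
  have hvW : v ∈ W := W.add_mem (W.smul_mem _ heW) (W.smul_mem _ hfW)
  have hwW : w ∈ W := W.add_mem (W.smul_mem _ heW) (W.smul_mem _ hfW)
  have hQv : Q v = 1 := by
    rw [hv, Q_comb Q hQ, hQe, hQf, hpef]
    ring
  have hQw : Q w = 1 := by
    rw [hw, Q_comb Q hQ, hQe, hQf, hpef]
    linear_combination (-1 : F) * h5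
  have hvw : QuadraticMap.polar Q v w = 0 := by
    rw [hv, hw]
    simp only [hQ.polar_bilinear.add_left, hQ.polar_bilinear.add_right,
      hQ.polar_bilinear.smul_left, hQ.polar_bilinear.smul_right, hpee, hpff, hpef, hpfe]
    ring
  have hv0 : v ≠ 0 := ne_zero_of_Q_ne Q hQ (by rw [hQv]; exact one_ne_zero)
  have hw0 : w ≠ 0 := ne_zero_of_Q_ne Q hQ (by rw [hQw]; exact one_ne_zero)
  have hle : Submodule.span F {v} ⊔ Submodule.span F {w} ≤ W := by
    apply sup_le
    · rw [Submodule.span_le]
      exact Set.singleton_subset_iff.2 hvW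
    · rw [Submodule.span_le]
      exact Set.singleton_subset_iff.2 hwW
  have hinf : Submodule.span F {v} ⊓ Submodule.span F {w} = ⊥ := by
    rw [eq_bot_iff]
    rintro x ⟨hx1, hx2⟩
    obtain ⟨c, rfl⟩ := Submodule.mem_span_singleton.1 hx1
    obtain ⟨d, hd⟩ := Submodule.mem_span_singleton.1 hx2
    have h1 : QuadraticMap.polar Q v (c • v) = c * 2 := by
      rw [hQ.polar_bilinear.smul_right, polar_self Q hQ, hQv]
      ring
    rw [← hd, hQ.polar_bilinear.smul_right, hvw, mul_zero] at h1
    have hc : c = 0 := by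
      rcases mul_eq_zero.1 h1.symm with h | h
      · exact h
      · exact absurd h h2
    rw [hc, zero_smul]
    exact Submodule.zero_mem _
  have hWeq : W = Submodule.span F {v} ⊔ Submodule.span F {w} := by
    symm
    apply Submodule.eq_of_le_of_finrank_eq hle
    have := Submodule.finrank_sup_add_finrank_inf_eq (Submodule.span F {v}) (Submodule.span F {w})
    rw [hinf, finrank_bot, finrank_span_singleton hv0, finrank_span_singleton hw0] at this
    rw [hdim]
    omega
  refine ⟨v, w, hvW, hwW, hQv, hQw, hvw, hWeq, ?_⟩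
  intro x hx hQx
  rw [hWeq] at hx
  obtain ⟨y, hy, z, hz, rfl⟩ := Submodule.mem_sup.1 hx
  obtain ⟨a, rfl⟩ := Submodule.mem_span_singleton.1 hy
  obtain ⟨b, rfl⟩ := Submodule.mem_span_singleton.1 hz
  rw [Q_comb Q hQ, hQv, hQw, hvw] at hQx
  rcases sq_cases hq a with ha | ha | ha
  · right
    rw [ha, zero_smul, zero_add]
    exact Submodule.smul_mem _ _ (Submodule.mem_span_singleton_self w)
  all_goals
    rcases sq_cases hq b with hb | hb | hb
    · left
      rw [hb, zero_smul, add_zero]
      exact Submodule.smul_mem _ _ (Submodule.mem_span_singleton_self v)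
    all_goals
      exfalso
      rw [ha, hb] at hQx
  · apply one_ne_zero (α := F)
    linear_combination hQx
  · apply one_ne_zero (α := F)
    linear_combination (-1 : F) * hQx
  · apply one_ne_zero (α := F)
    linear_combination (-1 : F) * hQx
  · apply h3
    linear_combination (-1 : F) * hQx

/-! ### the refinement step -/

/-- an orthogonal decomposition into planes, each spanned by two orthogonal vectors of norm `1`
whose lines contain all the vectors of norm `1` of the plane, is refined by the decomposition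
into these lines, and the refinement is preserved by the isometries preserving the first -/
theorem refine_lines (h2 : (2 : F) ≠ 0) (Q : (ι → F) → F) (hQ : IsNondegenerateQuadraticForm Q)
    (t t' : ℕ) (ht' : t' = 2 * t) (D : Fin t → Submodule F (ι → F))
    (hD : IsNondegenerateMDecomposition (QuadraticMap.polar Q) 2 D)
    (hpl : ∀ i, ∃ v w : ι → F, v ∈ D i ∧ w ∈ D i ∧ Q v = 1 ∧ Q w = 1 ∧
      QuadraticMap.polar Q v w = 0 ∧ D i = Submodule.span F {v} ⊔ Submodule.span F {w} ∧
      ∀ x ∈ D i, Q x = 1 → x ∈ Submodule.span F {v} ∨ x ∈ Submodule.span F {w}) :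
    ∃ D' : Fin t' → Submodule F (ι → F), IsOrthogonalMDecomposition Q 1 D' ∧
      decompositionStabilizer D ⊓ isometryGroup F Q ≤ decompositionStabilizer D' := by
  classical
  choose v w hvD hwD hQv hQw hvw hsup hcls using hpl
  let vec : Fin t × Fin 2 → (ι → F) := fun p => if p.2 = 0 then v p.1 else w p.1
  have hvec0 : ∀ i, vec (i, 0) = v i := fun i => by simp [vec]
  have hvec1 : ∀ i, vec (i, 1) = w i := fun i => by simp [vec]
  have hvec_mem : ∀ p, vec p ∈ D p.1 := by
    rintro ⟨i, ε⟩
    fin_cases ε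
    · simpa [vec] using hvD i
    · simpa [vec] using hwD i
  have hvec_Q : ∀ p, Q (vec p) = 1 := by
    rintro ⟨i, ε⟩
    fin_cases ε
    · simpa [vec] using hQv i
    · simpa [vec] using hQw i
  have hvec_ne : ∀ p, vec p ≠ 0 := fun p =>
    ne_zero_of_Q_ne Q hQ (by rw [hvec_Q p]; exact one_ne_zero)
  have hvec_orth : ∀ p p', p ≠ p' → QuadraticMap.polar Q (vec p) (vec p') = 0 := by
    rintro ⟨i, ε⟩ ⟨i', ε'⟩ hne
    by_cases hi : i = i'
    · subst hi
      fin_cases ε <;> fin_cases ε'
      · exact absurd rfl hne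
      · simpa [vec] using hvw i
      · have := hvw i
        rw [QuadraticMap.polar_comm] at this
        simpa [vec] using this
      · exact absurd rfl hne
    · exact hD.orthogonal i i' hi _ (hvec_mem (i, ε)) _ (hvec_mem (i', ε'))
  have hD_sup : ∀ i, D i = Submodule.span F {vec (i, 0)} ⊔ Submodule.span F {vec (i, 1)} := by
    intro i
    rw [hvec0, hvec1]
    exact hsup i
  have hcls' : ∀ i, ∀ x ∈ D i, Q x = 1 → ∃ ε : Fin 2, x ∈ Submodule.span F {vec (i, ε)} := by
    intro i x hx hQx
    rcases hcls i x hx hQx with h | h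
    · exact ⟨0, by rw [hvec0]; exact h⟩
    · exact ⟨1, by rw [hvec1]; exact h⟩
  have hli : LinearIndependent F vec := by
    rw [Fintype.linearIndependent_iff]
    intro g hg p0
    have h1 := congrArg (polarBil Q hQ (vec p0)) hg
    rw [map_sum, map_zero, Finset.sum_eq_single p0] at h1
    · rw [map_smul, smul_eq_mul, polarBil_apply, polar_self Q hQ, hvec_Q] at h1
      rcases mul_eq_zero.1 h1 with h | h
      · exact h
      · exfalso
        rw [mul_one] at h
        exact h2 h
    · intro p _ hp
      rw [map_smul, smul_eq_mul, polarBil_apply, hvec_orth p0 p (Ne.symm hp), mul_zero]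
    · intro h
      exact absurd (Finset.mem_univ _) h
  have hindepL : iSupIndep fun p => Submodule.span F {vec p} := hli.iSupIndep_span_singleton
  let eqv : Fin t' ≃ Fin t × Fin 2 := Fintype.equivOfCardEq (by
    rw [Fintype.card_prod, Fintype.card_fin, Fintype.card_fin, Fintype.card_fin, ht']
    ring)
  let D' : Fin t' → Submodule F (ι → F) := fun a => Submodule.span F {vec (eqv a)}
  have hD'indep : iSupIndep D' := hindepL.comp eqv.injective
  have hD'ne : ∀ a, D' a ≠ ⊥ := fun a => by
    show Submodule.span F {vec (eqv a)} ≠ ⊥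
    rw [Ne, Submodule.span_singleton_eq_bot]
    exact hvec_ne _
  have hD'sup : iSup D' = ⊤ := by
    have h1 : iSup D' = ⨆ p, Submodule.span F {vec p} :=
      Equiv.iSup_comp (g := fun p => Submodule.span F {vec p}) eqv
    rw [h1, iSup_prod, ← hD.decomp.iSup_eq_top]
    congr 1
    funext i
    rw [hD_sup i]
    apply le_antisymm
    · apply iSup_le
      intro ε
      fin_cases ε
      · exact le_sup_left
      · exact le_sup_right
    · apply sup_le
      · exact le_iSup (fun ε : Fin 2 => Submodule.span F {vec (i, ε)}) 0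
      · exact le_iSup (fun ε : Fin 2 => Submodule.span F {vec (i, ε)}) 1
  refine ⟨D', ⟨⟨⟨?_, one_pos, ?_, hD'indep, hD'sup⟩, ?_, ?_⟩, ?_⟩, ?_⟩
  · have := hD.decomp.two_le
    omega
  · intro a
    exact finrank_span_singleton (hvec_ne _)
  · intro a
    exact nondegenerateOn_span_singleton Q hQ h2 (by rw [hvec_Q]; exact one_ne_zero)
  · intro a b hab
    exact orth_span Q hQ (hvec_orth _ _ (fun h => hab (eqv.injective h)))
  · intro a b
    exact isometric_span Q hQ (hvec_ne _) (hvec_ne _) (by rw [hvec_Q, hvec_Q])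
  · rintro g ⟨hgD, hgI⟩
    obtain ⟨σ, hσ⟩ := hgD
    have hiso : ∀ u, Q ((g : Matrix ι ι F) *ᵥ u) = Q u := fun u => hgI u u
    apply mem_stab_of_forall_exists D' hD'indep hD'ne
    intro a
    set p := eqv a with hp
    have hx_mem : Matrix.toLin' (g : Matrix ι ι F) (vec p) ∈ D (σ p.1) := by
      rw [← hσ p.1]
      exact Submodule.mem_map_of_mem (hvec_mem p)
    have hx_Q : Q (Matrix.toLin' (g : Matrix ι ι F) (vec p)) = 1 := by
      rw [Matrix.toLin'_apply, hiso, hvec_Q]
    obtain ⟨ε, hε⟩ := hcls' (σ p.1) _ hx_mem hx_Q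
    refine ⟨eqv.symm (σ p.1, ε), ?_⟩
    show (Submodule.span F {vec (eqv a)}).map _ = Submodule.span F {vec (eqv (eqv.symm (σ p.1, ε)))}
    rw [Equiv.apply_symm_apply, Submodule.map_span, Set.image_singleton, ← hp]
    obtain ⟨c, hc⟩ := Submodule.mem_span_singleton.1 hε
    have hc0 : c ≠ 0 := by
      rintro rfl
      rw [zero_smul] at hc
      rw [← hc, Q_zero Q hQ] at hx_Q
      exact zero_ne_one hx_Q
    rw [← hc]
    exact Submodule.span_singleton_smul_eq (IsUnit.mk0 c hc0) _

/-! ### EV45d -/

/-- EV45d: over the field with 5 elements an orthogonal decomposition into hyperbolic planes is refined by an isometric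
orthogonal decomposition into lines, preserved by the isometries preserving the first -/
theorem EV45d [Fintype F] (hq : Fintype.card F = 5) (Q : (ι → F) → F) (hQ : IsNondegenerateQuadraticForm Q)
    (t t' : ℕ) (ht' : t' = 2 * t) (D : Fin t → Submodule F (ι → F)) (hD : IsOrthogonalMDecomposition Q 2 D)
    (hb : ∀ i, IsPlusTypeOn Q (D i)) :
    ∃ D' : Fin t' → Submodule F (ι → F), IsOrthogonalMDecomposition Q 1 D' ∧
      decompositionStabilizer D ⊓ isometryGroup F Q ≤ decompositionStabilizer D' :=
  refine_lines (two_ne_zero5 hq) Q hQ t t' ht' D hD.decomp fun i =>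
    plane_F5 hq Q hQ (D i) (hD.decomp.decomp.finrank_eq i) (hD.decomp.nondegenerate i) (hb i)

end Cfsg.Agent.Lib.Helper11_OrthEven_EV45d
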