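import Cfsg.Agent.Lib.Helper11_QdRecog2

/-!
# From an equivariant plane to `Qd(p)` (helper11)

`involves_qd_of_plane`: `Q ⊴ Γ`, `π : Q → N` an equivariant surjection onto a commutative group on
which `Γ` acts through `c`, and an injective `Ψ : F_p² → N` such that every element of `SL₂(p)` is
realised on the image of `Ψ` by some element of `Γ`. Then `Qd(p)` is involved in `Γ` (`p` odd).
-/

set_option autoImplicit false

namespace Cfsg.Agent.Lib.Helper11_QdPlane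

open Cfsg Matrix

variable {Γ : Type*} [Group Γ] {N : Type*} [CommGroup N] {p : ℕ}

/-- `y` acts on the image of `Ψ` as the matrix `S` -/
def ActsAs (c : Γ →* MulAut N) (Ψ : Multiplicative (Fin 2 → ZMod p) →* N) (y : Γ)
    (S : Matrix.SpecialLinearGroup (Fin 2) (ZMod p)) : Prop :=
  ∀ v : Fin 2 → ZMod p, c y (Ψ (Multiplicative.ofAdd v)) =
    Ψ (Multiplicative.ofAdd ((S : Matrix (Fin 2) (Fin 2) (ZMod p)).mulVec v))

theorem ActsAs.one (c : Γ →* MulAut N) (Ψ : Multiplicative (Fin 2 → ZMod p) →* N) :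
    ActsAs c Ψ 1 1 := by
  intro v
  simp

theorem ActsAs.mul {c : Γ →* MulAut N} {Ψ : Multiplicative (Fin 2 → ZMod p) →* N} {y₁ y₂ : Γ}
    {S₁ S₂ : Matrix.SpecialLinearGroup (Fin 2) (ZMod p)} (h₁ : ActsAs c Ψ y₁ S₁)
    (h₂ : ActsAs c Ψ y₂ S₂) : ActsAs c Ψ (y₁ * y₂) (S₁ * S₂) := by
  intro v
  rw [map_mul, MulAut.mul_apply, h₂ v, h₁, Matrix.SpecialLinearGroup.coe_mul,
    Matrix.mulVec_mulVec]

theorem ActsAs.inv {c : Γ →* MulAut N} {Ψ : Multiplicative (Fin 2 → ZMod p) →* N} {y : Γ}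
    {S : Matrix.SpecialLinearGroup (Fin 2) (ZMod p)} (h : ActsAs c Ψ y S) :
    ActsAs c Ψ y⁻¹ S⁻¹ := by
  intro v
  have h1 := h (((S⁻¹ : Matrix.SpecialLinearGroup (Fin 2) (ZMod p)) :
    Matrix (Fin 2) (Fin 2) (ZMod p)).mulVec v)
  rw [Matrix.mulVec_mulVec, ← Matrix.SpecialLinearGroup.coe_mul, mul_inv_cancel,
    Matrix.SpecialLinearGroup.coe_one, Matrix.one_mulVec] at h1
  rw [← h1, map_inv, MulAut.inv_apply, MulEquiv.symm_apply_apply]

theorem ActsAs.unique {c : Γ →* MulAut N} {Ψ : Multiplicative (Fin 2 → ZMod p) →* N}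
    (hΨ : Function.Injective Ψ) {y : Γ}
    {S S' : Matrix.SpecialLinearGroup (Fin 2) (ZMod p)} (h : ActsAs c Ψ y S)
    (h' : ActsAs c Ψ y S') : S = S' := by
  apply Subtype.ext
  ext i j
  have h1 := (h (Pi.single j 1)).symm.trans (h' (Pi.single j 1))
  have h2 := congrArg Multiplicative.toAdd (hΨ h1)
  have h3 := congrFun h2 i
  simp only [toAdd_ofAdd, Matrix.mulVec_single_one, Matrix.col_apply] at h3
  exact h3

/-- the subgroup of elements acting on the plane through `SL₂(p)` -/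
def planeStab (c : Γ →* MulAut N) (Ψ : Multiplicative (Fin 2 → ZMod p) →* N) : Subgroup Γ where
  carrier := {y | ∃ S, ActsAs c Ψ y S}
  one_mem' := ⟨1, ActsAs.one c Ψ⟩
  mul_mem' := by
    rintro y₁ y₂ ⟨S₁, h₁⟩ ⟨S₂, h₂⟩
    exact ⟨S₁ * S₂, h₁.mul h₂⟩
  inv_mem' := by
    rintro y ⟨S, h⟩
    exact ⟨S⁻¹, h.inv⟩

/-- the matrix of an element of `planeStab` -/
noncomputable def planeHom (c : Γ →* MulAut N) (Ψ : Multiplicative (Fin 2 → ZMod p) →* N)
    (hΨ : Function.Injective Ψ) :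
    planeStab c Ψ →* Matrix.SpecialLinearGroup (Fin 2) (ZMod p) where
  toFun y := Classical.choose y.2
  map_one' := ActsAs.unique hΨ (Classical.choose_spec (1 : planeStab c Ψ).2) (ActsAs.one c Ψ)
  map_mul' y₁ y₂ := ActsAs.unique hΨ (Classical.choose_spec (y₁ * y₂).2)
    ((Classical.choose_spec y₁.2).mul (Classical.choose_spec y₂.2))

theorem planeHom_spec (c : Γ →* MulAut N) (Ψ : Multiplicative (Fin 2 → ZMod p) →* N)
    (hΨ : Function.Injective Ψ) (y : planeStab c Ψ) :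
    ActsAs c Ψ (y : Γ) (planeHom c Ψ hΨ y) := Classical.choose_spec y.2

theorem involves_qd_of_plane [Finite Γ] [Fact p.Prime] (hp : p ≠ 2)
    (Q : Subgroup Γ) (hQ : Q.Normal) (c : Γ →* MulAut N) (π : Q →* N)
    (hπ : Function.Surjective π)
    (heq : ∀ (γ : Γ) (x : Q), c γ (π x) = π ⟨γ * x * γ⁻¹, hQ.conj_mem x x.2 γ⟩)
    (Ψ : Multiplicative (Fin 2 → ZMod p) →* N) (hΨ : Function.Injective Ψ)
    (hreal : ∀ S : Matrix.SpecialLinearGroup (Fin 2) (ZMod p), ∃ γ : Γ, ActsAs c Ψ γ S) :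
    Cfsg.Involves ↥(Cfsg.qd p) Γ := by
  classical
  set L := planeStab c Ψ with hL
  set φ := planeHom c Ψ hΨ with hφdef
  have hφ : Function.Surjective φ := by
    intro S
    obtain ⟨γ, hγ⟩ := hreal S
    refine ⟨⟨γ, S, hγ⟩, ?_⟩
    exact ActsAs.unique hΨ (planeHom_spec c Ψ hΨ ⟨γ, S, hγ⟩) hγ
  -- the preimage of the plane
  set W : Subgroup Γ := (Ψ.range.comap π).map Q.subtype with hW
  have hWQ : W ≤ Q := by
    rintro _ ⟨x, _, rfl⟩
    exact x.2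
  have hWmem : ∀ w : W, π ⟨(w : Γ), hWQ w.2⟩ ∈ Ψ.range := by
    rintro ⟨_, x, hx, rfl⟩
    exact hx
  have hmemW : ∀ x : Q, π x ∈ Ψ.range → (x : Γ) ∈ W := fun x hx => ⟨x, hx, rfl⟩
  set ψ : W →* Multiplicative (Fin 2 → ZMod p) :=
    (MonoidHom.ofInjective hΨ).symm.toMonoidHom.comp
      (MonoidHom.codRestrict (π.comp (Subgroup.inclusion hWQ)) Ψ.range hWmem) with hψdef
  have hψspec : ∀ w : W, Ψ (ψ w) = π ⟨(w : Γ), hWQ w.2⟩ := by
    intro w
    have := MonoidHom.apply_ofInjective_symm hΨ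
      (MonoidHom.codRestrict (π.comp (Subgroup.inclusion hWQ)) Ψ.range hWmem w)
    exact this
  have hψ : Function.Surjective ψ := by
    intro v
    obtain ⟨x, hx⟩ := hπ (Ψ v)
    have hxW : (x : Γ) ∈ W := hmemW x ⟨v, hx.symm⟩
    refine ⟨⟨(x : Γ), hxW⟩, ?_⟩
    apply hΨ
    rw [hψspec]
    exact hx
  -- `Q` acts trivially on `N`
  have hQtriv : ∀ (q : Q) (n : N), c (q : Γ) n = n := by
    intro q n
    obtain ⟨x, rfl⟩ := hπ n
    rw [heq]
    have e : (⟨(q : Γ) * x * (q : Γ)⁻¹, hQ.conj_mem x x.2 q⟩ : Q) = q * x * q⁻¹ :=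
      Subtype.ext (by simp)
    rw [e, map_mul, map_mul, map_inv, mul_comm (π q), mul_assoc, mul_inv_cancel, mul_one]
  have hWL : W ≤ L := by
    intro w hw
    refine ⟨1, ?_⟩
    intro v
    rw [hQtriv ⟨w, hWQ hw⟩]
    simp
  have hnorm : ∀ y ∈ L, ∀ w ∈ W, y * w * y⁻¹ ∈ W := by
    intro y hy w hw
    obtain ⟨S, hS⟩ := hy
    have h1 : π ⟨y * w * y⁻¹, hQ.conj_mem w (hWQ hw) y⟩ ∈ Ψ.range := by
      rw [← heq y ⟨w, hWQ hw⟩, ← hψspec ⟨w, hw⟩]
      have := hS (Multiplicative.toAdd (ψ ⟨w, hw⟩))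
      rw [ofAdd_toAdd] at this
      rw [this]
      exact ⟨_, rfl⟩
    exact hmemW ⟨y * w * y⁻¹, hQ.conj_mem w (hWQ hw) y⟩ h1
  apply Cfsg.Agent.Lib.Helper11_QdRecog2.involves_qd_of_section_data hp L W hWL hnorm ψ hψ φ hφ
  intro y w
  apply hΨ
  rw [hψspec]
  have h1 := planeHom_spec c Ψ hΨ y (Multiplicative.toAdd (ψ w))
  rw [ofAdd_toAdd, hψspec] at h1
  rw [← h1, heq]

end Cfsg.Agent.Lib.Helper11_QdPlane
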