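import Cfsg.Agent.Lib.Helper11_QdPlane
import Cfsg.Agent.Lib.Helper50_SL2DicksonPair

/-!
# From a plane over a finite field to a plane over the prime field (helper11)

`exists_plane`: `L0` a finite field of characteristic `p` odd, `Φ : L0² → N` injective, and two
elements `α`, `β` of `Γ` acting on the image of `Φ` as the transvections `tU c0`, `tL 1`, `c0 ≠ 0`.
Then there is an injective `Ψ : F_p² → N` on whose image every element of `SL₂(p)` is realised by an
element of `Γ`. Together with `Helper11_QdPlane.involves_qd_of_plane` this gives `Qd(p)`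
(`involves_qd_of_field_plane`).
-/

set_option autoImplicit false

namespace Cfsg.Agent.Lib.Helper11_QdPlane2

open Cfsg Matrix Cfsg.Agent.Lib.Helper50_SL2Mat Cfsg.Agent.Lib.Helper50_SL2Gen
  Cfsg.Agent.Lib.Helper50_SL2DicksonPair Cfsg.Agent.Lib.Helper11_QdPlane
open scoped MatrixGroups

variable {Γ : Type*} [Group Γ] {N : Type*} [CommGroup N] {R : Type*} [CommRing R]

/-- `y` acts on the image of `Φ` as the matrix `h` -/
def ActsAsL (c : Γ →* MulAut N) (Φ : Multiplicative (Fin 2 → R) →* N) (y : Γ)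
    (h : Matrix.SpecialLinearGroup (Fin 2) R) : Prop :=
  ∀ x : Fin 2 → R, c y (Φ (Multiplicative.ofAdd x)) =
    Φ (Multiplicative.ofAdd ((h : Matrix (Fin 2) (Fin 2) R).mulVec x))

theorem ActsAsL.one (c : Γ →* MulAut N) (Φ : Multiplicative (Fin 2 → R) →* N) :
    ActsAsL c Φ 1 1 := by
  intro v
  simp

theorem ActsAsL.mul {c : Γ →* MulAut N} {Φ : Multiplicative (Fin 2 → R) →* N} {y₁ y₂ : Γ}
    {S₁ S₂ : Matrix.SpecialLinearGroup (Fin 2) R} (h₁ : ActsAsL c Φ y₁ S₁)
    (h₂ : ActsAsL c Φ y₂ S₂) : ActsAsL c Φ (y₁ * y₂) (S₁ * S₂) := by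
  intro v
  rw [map_mul, MulAut.mul_apply, h₂ v, h₁, Matrix.SpecialLinearGroup.coe_mul,
    Matrix.mulVec_mulVec]

theorem ActsAsL.inv {c : Γ →* MulAut N} {Φ : Multiplicative (Fin 2 → R) →* N} {y : Γ}
    {S : Matrix.SpecialLinearGroup (Fin 2) R} (h : ActsAsL c Φ y S) :
    ActsAsL c Φ y⁻¹ S⁻¹ := by
  intro v
  have h1 := h (((S⁻¹ : Matrix.SpecialLinearGroup (Fin 2) R) :
    Matrix (Fin 2) (Fin 2) R).mulVec v)
  rw [Matrix.mulVec_mulVec, ← Matrix.SpecialLinearGroup.coe_mul, mul_inv_cancel,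
    Matrix.SpecialLinearGroup.coe_one, Matrix.one_mulVec] at h1
  rw [← h1, map_inv, MulAut.inv_apply, MulEquiv.symm_apply_apply]

/-- the matrices realised on the image of `Φ` -/
def realised (c : Γ →* MulAut N) (Φ : Multiplicative (Fin 2 → R) →* N) :
    Subgroup (Matrix.SpecialLinearGroup (Fin 2) R) where
  carrier := {h | ∃ y, ActsAsL c Φ y h}
  one_mem' := ⟨1, ActsAsL.one c Φ⟩
  mul_mem' := by
    rintro h₁ h₂ ⟨y₁, e₁⟩ ⟨y₂, e₂⟩
    exact ⟨y₁ * y₂, e₁.mul e₂⟩
  inv_mem' := by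
    rintro h ⟨y, e⟩
    exact ⟨y⁻¹, e.inv⟩

section field

variable {L0 : Type*} [Field L0] {p : ℕ}

/-- two opposite transvections generate a group with more than one Sylow `p`-subgroup -/
theorem one_lt_card_sylow_closure [Fintype L0] [Fact p.Prime] [CharP L0 p] (c0 : L0)
    (hc0 : c0 ≠ 0) :
    1 < Nat.card (Sylow p (Subgroup.closure ({tU c0, tL (1 : L0)} : Set SL(2, L0)))) := by
  set H := Subgroup.closure ({tU c0, tL (1 : L0)} : Set SL(2, L0)) with hH
  by_contra hle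
  rw [not_lt] at hle
  have hss : Subsingleton (Sylow p H) := Finite.card_le_one_iff_subsingleton.1 hle
  obtain ⟨P⟩ : Nonempty (Sylow p H) := inferInstance
  have hmem : ∀ z : H, z ^ p = 1 → z ∈ (P : Subgroup H) := by
    intro z hz
    have hzp : IsPGroup p (Subgroup.zpowers z) := by
      rintro ⟨w, hw⟩
      obtain ⟨i, rfl⟩ := Subgroup.mem_zpowers_iff.1 hw
      refine ⟨1, ?_⟩
      apply Subtype.ext
      simp only [pow_one, Subgroup.coe_pow, Subgroup.coe_one]
      rw [← zpow_natCast, ← _root_.zpow_mul, mul_comm, _root_.zpow_mul, zpow_natCast, hz,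
        _root_.one_zpow]
    obtain ⟨Q, hQ⟩ := hzp.exists_le_sylow
    rw [Subsingleton.elim P Q]
    exact hQ (Subgroup.mem_zpowers z)
  have hu : tU c0 ∈ H := Subgroup.subset_closure (by simp)
  have hv : tL (1 : L0) ∈ H := Subgroup.subset_closure (by simp)
  have hpz : ((p : ℕ) : L0) = 0 := CharP.cast_eq_zero L0 p
  have hu' : (⟨tU c0, hu⟩ : H) ∈ (P : Subgroup H) := by
    apply hmem
    apply Subtype.ext
    show (tU c0) ^ p = 1
    rw [tU_pow, hpz, zero_mul, tU_zero]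
  have hv' : (⟨tL (1 : L0), hv⟩ : H) ∈ (P : Subgroup H) := by
    apply hmem
    apply Subtype.ext
    show (tL (1 : L0)) ^ p = 1
    rw [tL_pow, hpz, zero_mul, tL_zero]
  obtain ⟨k, hk⟩ := P.isPGroup' ⟨_, (P : Subgroup H).mul_mem hu' hv'⟩
  have hk' : (tU c0 * tL (1 : L0)) ^ p ^ k = 1 := by
    have := congrArg (fun z : (P : Subgroup H) => ((z : H) : SL(2, L0))) hk
    simpa using this
  have htr := Cfsg.Agent.Lib.Helper10_QuadPair.trace_eq_two_of_pow (p := p) _ k hk'
  rw [Matrix.trace_fin_two] at htr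
  have h00 : (tU c0 * tL (1 : L0)) 0 0 = 1 + c0 := by
    rw [mul00]; simp
  have h11 : (tU c0 * tL (1 : L0)) 1 1 = 1 := by
    rw [mul11]; simp
  rw [h00, h11] at htr
  apply hc0
  linear_combination htr

variable [Fact p.Prime] [CharP L0 p]

/-- the twisted embedding of `F_p²` in `L0²` -/
noncomputable def delta (a : L0) : (Fin 2 → ZMod p) →+ (Fin 2 → L0) where
  toFun v := ![a * ZMod.castHom (dvd_refl p) L0 (v 0), ZMod.castHom (dvd_refl p) L0 (v 1)]
  map_zero' := by
    ext i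
    fin_cases i <;> simp
  map_add' v w := by
    ext i
    fin_cases i <;> simp [mul_add]

theorem delta_injective (a : L0) (ha : a ≠ 0) : Function.Injective (delta (p := p) a) := by
  intro v w h
  have hinj : Function.Injective (ZMod.castHom (dvd_refl p) L0) := RingHom.injective _
  have h0 := congrFun h 0
  have h1 := congrFun h 1
  simp only [delta, AddMonoidHom.coe_mk, ZeroHom.coe_mk, Matrix.cons_val_zero,
    Matrix.cons_val_one] at h0 h1
  ext i
  fin_cases i
  · exact hinj (mul_left_cancel₀ ha h0)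
  · exact hinj h1

theorem dmap_mulVec_delta (a : L0) (ha : a ≠ 0) (M : SL(2, ZMod p)) (v : Fin 2 → ZMod p) :
    ((dmap p a ha M : SL(2, L0)) : Matrix (Fin 2) (Fin 2) L0).mulVec (delta a v) =
      delta a ((M : Matrix (Fin 2) (Fin 2) (ZMod p)).mulVec v) := by
  ext i
  fin_cases i
  · simp [delta, dmap, Matrix.mulVec, dotProduct, Fin.sum_univ_two]
    ring
  · simp [delta, dmap, Matrix.mulVec, dotProduct, Fin.sum_univ_two]
    field_simp

/-- **From an `L0`-plane to an `F_p`-plane.** -/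
theorem exists_plane [Fintype L0] (hp : p ≠ 2) (c : Γ →* MulAut N)
    (Φ : Multiplicative (Fin 2 → L0) →* N) (hΦ : Function.Injective Φ) (c0 : L0) (hc0 : c0 ≠ 0)
    (α β : Γ) (hα : ActsAsL c Φ α (tU c0)) (hβ : ActsAsL c Φ β (tL 1)) :
    ∃ Ψ : Multiplicative (Fin 2 → ZMod p) →* N, Function.Injective Ψ ∧
      ∀ S : Matrix.SpecialLinearGroup (Fin 2) (ZMod p), ∃ γ : Γ, ActsAs c Ψ γ S := by
  set H := Subgroup.closure ({tU c0, tL (1 : L0)} : Set SL(2, L0)) with hH
  have hHr : H ≤ realised c Φ := by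
    rw [hH, Subgroup.closure_le]
    rintro h (rfl | hh)
    · exact ⟨α, hα⟩
    · rw [Set.mem_singleton_iff] at hh
      rw [hh]; exact ⟨β, hβ⟩
  obtain ⟨g, a, ha, hall⟩ := dickson_strong p hp H (one_lt_card_sylow_closure c0 hc0)
  -- the additive map `v ↦ g⁻¹ δ(v)`
  let θ : (Fin 2 → ZMod p) →+ (Fin 2 → L0) :=
    { toFun := fun v => ((g⁻¹ : SL(2, L0)) : Matrix (Fin 2) (Fin 2) L0).mulVec (delta a v)
      map_zero' := by rw [map_zero, Matrix.mulVec_zero]
      map_add' := fun v w => by rw [map_add, Matrix.mulVec_add] }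
  have hθ : ∀ v, θ v = ((g⁻¹ : SL(2, L0)) : Matrix (Fin 2) (Fin 2) L0).mulVec (delta a v) :=
    fun _ => rfl
  have hθinj : Function.Injective θ := by
    intro v w h
    apply delta_injective a ha
    have h1 := congrArg (fun x => ((g : SL(2, L0)) : Matrix (Fin 2) (Fin 2) L0).mulVec x) h
    simp only [hθ, Matrix.mulVec_mulVec, ← Matrix.SpecialLinearGroup.coe_mul, mul_inv_cancel,
      Matrix.SpecialLinearGroup.coe_one, Matrix.one_mulVec] at h1
    exact h1
  refine ⟨Φ.comp (AddMonoidHom.toMultiplicative θ), ?_, ?_⟩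
  · intro x y h
    have h1 := hΦ h
    have h2 : θ (Multiplicative.toAdd x) = θ (Multiplicative.toAdd y) := h1
    exact hθinj h2
  · intro S
    obtain ⟨γ, hγ⟩ := hHr (hall S)
    refine ⟨γ, ?_⟩
    intro v
    show c γ (Φ (Multiplicative.ofAdd (θ v))) =
      Φ (Multiplicative.ofAdd (θ ((S : Matrix (Fin 2) (Fin 2) (ZMod p)).mulVec v)))
    have e : g⁻¹ * dmap p a ha S * g * g⁻¹ = g⁻¹ * dmap p a ha S := by group
    rw [hγ (θ v), hθ, hθ, Matrix.mulVec_mulVec, ← Matrix.SpecialLinearGroup.coe_mul,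
      ← dmap_mulVec_delta a ha S v, Matrix.mulVec_mulVec, ← Matrix.SpecialLinearGroup.coe_mul, e]

/-- **`Qd(p)` from a plane over a finite field**: the combination of `exists_plane` and
`involves_qd_of_plane`. -/
theorem involves_qd_of_field_plane [Finite Γ] [Fintype L0] (hp : p ≠ 2)
    (Q : Subgroup Γ) (hQ : Q.Normal) (c : Γ →* MulAut N) (π : Q →* N)
    (hπ : Function.Surjective π)
    (heq : ∀ (γ : Γ) (x : Q), c γ (π x) = π ⟨γ * x * γ⁻¹, hQ.conj_mem x x.2 γ⟩)
    (Φ : Multiplicative (Fin 2 → L0) →* N) (hΦ : Function.Injective Φ) (c0 : L0) (hc0 : c0 ≠ 0)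
    (α β : Γ) (hα : ActsAsL c Φ α (tU c0)) (hβ : ActsAsL c Φ β (tL 1)) :
    Cfsg.Involves ↥(Cfsg.qd p) Γ := by
  obtain ⟨Ψ, hΨ, hreal⟩ := exists_plane hp c Φ hΦ c0 hc0 α β hα hβ
  exact involves_qd_of_plane hp Q hQ c π hπ heq Ψ hΨ hreal

end field

end Cfsg.Agent.Lib.Helper11_QdPlane2
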