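import Cfsg.Agent.S5299
import Cfsg.Agent.Lib.Helper34_NPC
import Cfsg.Agent.Lib.Helper46_Qd3
import Cfsg.Agent.Lib.Helper10_QuadPair

/-!
# Recognition of `Qd(p)` (helper11)

If, inside a finite group `E`, a subgroup `L` acts on a subgroup `V` as `SL₂(p)` on its natural
module (`Cfsg.IsNaturalSL2Module (ZMod p) V L`, no faithfulness or splitting assumed) and `p` is
odd, then `Qd(p)` is involved in `E` (`involves_qd_of_natural`).
-/

set_option autoImplicit false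
set_option linter.unusedSimpArgs false

namespace Cfsg.Agent.Lib.Helper11_QdRecog

open Cfsg Matrix Cfsg.Agent.Lib.Helper46_Qd Cfsg.Agent.Lib.Helper46_Qd2
  Cfsg.Agent.Lib.Helper46_Qd3

section matrices

variable {R : Type*} [CommRing R]

theorem ent_mk_one (a b : R) :
    ent (mk (1 : Matrix.SpecialLinearGroup (Fin 2) R) a b) 0 0 = 1 ∧
    ent (mk (1 : Matrix.SpecialLinearGroup (Fin 2) R) a b) 0 1 = 0 ∧
    ent (mk (1 : Matrix.SpecialLinearGroup (Fin 2) R) a b) 0 2 = a ∧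
    ent (mk (1 : Matrix.SpecialLinearGroup (Fin 2) R) a b) 1 0 = 0 ∧
    ent (mk (1 : Matrix.SpecialLinearGroup (Fin 2) R) a b) 1 1 = 1 ∧
    ent (mk (1 : Matrix.SpecialLinearGroup (Fin 2) R) a b) 1 2 = b := by
  obtain ⟨e1, e2, e3, e4, e5, e6⟩ := ent_mk (1 : Matrix.SpecialLinearGroup (Fin 2) R) a b
  refine ⟨?_, ?_, e3, ?_, ?_, e6⟩
  · rw [e1]; simp
  · rw [e2]; simp
  · rw [e4]; simp
  · rw [e5]; simp

theorem mk_one_mul_mk (g : Matrix.SpecialLinearGroup (Fin 2) R) (a b : R) :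
    mk 1 a b * mk g 0 0 = mk g a b := by
  obtain ⟨a1, a2, a3, a4, a5, a6⟩ := ent_mk_one a b
  obtain ⟨b1, b2, b3, b4, b5, b6⟩ := ent_mk g (0 : R) 0
  obtain ⟨c1, c2, c3, c4, c5, c6⟩ := ent_mk g a b
  have d0 := ent_20 (mk g (0 : R) 0)
  have d1 := ent_21 (mk g (0 : R) 0)
  have d2 := ent_22 (mk g (0 : R) 0)
  apply ext_ent <;>
    simp only [ent_mul, a1, a2, a3, a4, a5, a6, b1, b2, b3, b4, b5, b6, c1, c2, c3, c4, c5, c6,
      d0, d1, d2] <;> ring

theorem mk_mul_mk_one (g : Matrix.SpecialLinearGroup (Fin 2) R) (a b : R) :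
    mk g 0 0 * mk 1 a b =
      mk 1 ((g : Matrix (Fin 2) (Fin 2) R) 0 0 * a + (g : Matrix (Fin 2) (Fin 2) R) 0 1 * b)
        ((g : Matrix (Fin 2) (Fin 2) R) 1 0 * a + (g : Matrix (Fin 2) (Fin 2) R) 1 1 * b) *
      mk g 0 0 := by
  obtain ⟨a1, a2, a3, a4, a5, a6⟩ := ent_mk_one a b
  obtain ⟨b1, b2, b3, b4, b5, b6⟩ := ent_mk g (0 : R) 0
  obtain ⟨c1, c2, c3, c4, c5, c6⟩ := ent_mk_one
    ((g : Matrix (Fin 2) (Fin 2) R) 0 0 * a + (g : Matrix (Fin 2) (Fin 2) R) 0 1 * b)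
    ((g : Matrix (Fin 2) (Fin 2) R) 1 0 * a + (g : Matrix (Fin 2) (Fin 2) R) 1 1 * b)
  have d0 := ent_20 (mk g (0 : R) 0)
  have d1 := ent_21 (mk g (0 : R) 0)
  have d2 := ent_22 (mk g (0 : R) 0)
  have f0 := ent_20 (mk (1 : Matrix.SpecialLinearGroup (Fin 2) R) a b)
  have f1 := ent_21 (mk (1 : Matrix.SpecialLinearGroup (Fin 2) R) a b)
  have f2 := ent_22 (mk (1 : Matrix.SpecialLinearGroup (Fin 2) R) a b)
  apply ext_ent <;>
    simp only [ent_mul, a1, a2, a3, a4, a5, a6, b1, b2, b3, b4, b5, b6, c1, c2, c3, c4, c5, c6,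
      d0, d1, d2, f0, f1, f2] <;> ring

theorem mk_one_mul_mk_one (a b a' b' : R) :
    mk (1 : Matrix.SpecialLinearGroup (Fin 2) R) a b * mk 1 a' b' = mk 1 (a + a') (b + b') := by
  obtain ⟨a1, a2, a3, a4, a5, a6⟩ := ent_mk_one a b
  obtain ⟨b1, b2, b3, b4, b5, b6⟩ := ent_mk_one a' b'
  obtain ⟨c1, c2, c3, c4, c5, c6⟩ := ent_mk_one (a + a') (b + b')
  have f0 := ent_20 (mk (1 : Matrix.SpecialLinearGroup (Fin 2) R) a' b')
  have f1 := ent_21 (mk (1 : Matrix.SpecialLinearGroup (Fin 2) R) a' b')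
  have f2 := ent_22 (mk (1 : Matrix.SpecialLinearGroup (Fin 2) R) a' b')
  apply ext_ent <;>
    simp only [ent_mul, a1, a2, a3, a4, a5, a6, b1, b2, b3, b4, b5, b6, c1, c2, c3, c4, c5, c6,
      f0, f1, f2] <;> ring

theorem mk_one_zero : mk (1 : Matrix.SpecialLinearGroup (Fin 2) R) 0 0 = 1 := by
  obtain ⟨a1, a2, a3, a4, a5, a6⟩ := ent_mk_one (0 : R) 0
  apply ext_ent <;> simp [ent_one, a1, a2, a3, a4, a5, a6]

end matrices

section recog

open Cfsg.Agent.Lib.Helper10_QuadPair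

variable {E : Type*} [Group E]

/-- the translation homomorphism attached to coordinates on `V` -/
def trHom {p : ℕ} (V : Subgroup E) (ψ : Additive V ≃+ (Fin 2 → ZMod p)) :
    V →* affineSub (ZMod p) where
  toFun v := mk 1 (ψ (Additive.ofMul v) 0) (ψ (Additive.ofMul v) 1)
  map_one' := by
    have : ψ (Additive.ofMul (1 : V)) = 0 := by rw [ofMul_one, map_zero]
    rw [this]
    exact mk_one_zero
  map_mul' v w := by
    rw [ofMul_mul, map_add, mk_one_mul_mk_one]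
    rfl

/-- **Recognition of `Qd(p)`**: a natural `SL₂(p)`-module inside a finite group, `p` odd, gives a
section isomorphic to `Qd(p)`. -/
theorem involves_qd_of_natural [Finite E] {p : ℕ} [Fact p.Prime] (hp : p ≠ 2)
    (V L : Subgroup E) (h : Cfsg.IsNaturalSL2Module (ZMod p) V L) :
    Cfsg.Involves ↥(Cfsg.qd p) E := by
  obtain ⟨hLV, ρ, ψ, hρsurj, hker, hact⟩ := h
  have hpp : p.Prime := Fact.out
  -- the action formula
  have hact' : ∀ (l : L) (v : V) (hv' : (l : E) * v * (l : E)⁻¹ ∈ V),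
      ψ (Additive.ofMul (⟨(l : E) * v * (l : E)⁻¹, hv'⟩ : V)) =
        ((ρ l : Matrix.SpecialLinearGroup (Fin 2) (ZMod p)) :
          Matrix (Fin 2) (Fin 2) (ZMod p)).mulVec (ψ (Additive.ofMul v)) := by
    intro l v hv'
    obtain ⟨w, hw, hψ⟩ := hact l v
    have : w = ⟨_, hv'⟩ := Subtype.ext hw
    rw [← this]; exact hψ
  -- `V` has exponent `p`
  have hVp : ∀ v : V, v ^ p = 1 := by
    intro v
    have h1 : ψ (Additive.ofMul (v ^ p)) = 0 := by
      rw [ofMul_pow, map_nsmul]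
      ext i
      simp
    have h2 : Additive.ofMul (v ^ p) = 0 := by
      rw [← map_zero ψ] at h1
      exact ψ.injective h1
    exact h2
  -- a `2`-element over `-1`
  obtain ⟨z₀, hz₀⟩ := hρsurj (-1)
  obtain ⟨a, m, hm, hord⟩ := Nat.exists_eq_two_pow_mul_odd (orderOf_pos z₀).ne'
  set z : L := z₀ ^ m with hz
  have hρz : ρ z = -1 := by
    rw [hz, map_pow, hz₀, Odd.neg_one_pow hm]
  have hz2 : z ^ 2 ^ a = 1 := by
    rw [hz, ← pow_mul, mul_comm, ← hord, pow_orderOf_eq_one]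
  -- the preimage of `±1`
  have hZn : (Subgroup.zpowers (-1 : Matrix.SpecialLinearGroup (Fin 2) (ZMod p))).Normal := by
    constructor
    rintro _ ⟨k, rfl⟩ g
    have : g * (-1 : Matrix.SpecialLinearGroup (Fin 2) (ZMod p)) ^ k * g⁻¹ = (-1) ^ k := by
      have hc : Commute g ((-1 : Matrix.SpecialLinearGroup (Fin 2) (ZMod p)) ^ k) :=
        (Commute.neg_one_right g).zpow_right k
      rw [hc.eq, mul_inv_cancel_right]
    rw [this]
    exact ⟨k, rfl⟩
  set D : Subgroup L :=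
    (Subgroup.zpowers (-1 : Matrix.SpecialLinearGroup (Fin 2) (ZMod p))).comap ρ with hD
  have hDn : D.Normal := Subgroup.Normal.comap hZn ρ
  have hDmem : ∀ d ∈ D, ρ d = 1 ∨ ρ d = -1 := by
    intro d hd
    obtain ⟨k, hk⟩ := Subgroup.mem_zpowers_iff.mp (Subgroup.mem_comap.mp hd)
    rcases Int.even_or_odd k with he | ho
    · left; rw [← hk, Even.neg_one_zpow he]
    · right; rw [← hk, Odd.neg_one_zpow ho]
  have hzD : z ∈ D :=
    Subgroup.mem_comap.mpr (Subgroup.mem_zpowers_iff.mpr ⟨1, by rw [zpow_one, hρz]⟩)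
  -- a Sylow `2`-subgroup of `D` containing `z`
  have hzp : IsPGroup 2 (Subgroup.zpowers (⟨z, hzD⟩ : D)) := by
    rintro ⟨x, hx⟩
    obtain ⟨k, rfl⟩ := Subgroup.mem_zpowers_iff.mp hx
    refine ⟨a, Subtype.ext ?_⟩
    have h1 : (⟨z, hzD⟩ : D) ^ 2 ^ a = 1 := Subtype.ext (by simpa using hz2)
    show ((⟨z, hzD⟩ : D) ^ k) ^ 2 ^ a = 1
    rw [← zpow_natCast, ← _root_.zpow_mul, mul_comm, _root_.zpow_mul, zpow_natCast, h1, _root_.one_zpow]
  obtain ⟨S₂, hS₂⟩ := hzp.exists_le_sylow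
  have hF := Sylow.normalizer_sup_eq_top S₂
  set S : Subgroup L := (S₂ : Subgroup D).map D.subtype with hS
  set L₂ : Subgroup L := Subgroup.normalizer (S : Set L) with hL₂
  have hzS : z ∈ S := ⟨⟨z, hzD⟩, hS₂ (Subgroup.mem_zpowers _), rfl⟩
  have hSL₂ : S ≤ L₂ := Subgroup.le_normalizer
  have hSp : IsPGroup 2 S := S₂.2.map D.subtype
  -- `L₂` still maps onto `SL₂(p)`
  have hsurj₂ : ∀ g : Matrix.SpecialLinearGroup (Fin 2) (ZMod p), ∃ l ∈ L₂, ρ l = g := by
    intro g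
    obtain ⟨l, rfl⟩ := hρsurj g
    have hl : l ∈ L₂ ⊔ D := by rw [hF]; exact Subgroup.mem_top l
    obtain ⟨n, hn, d, hd, rfl⟩ := Subgroup.mem_sup_of_normal_right.mp hl
    rcases hDmem d hd with h1 | h1
    · exact ⟨n, hn, by rw [map_mul, h1, mul_one]⟩
    · exact ⟨n * z, L₂.mul_mem hn (hSL₂ hzS), by rw [map_mul, map_mul, h1, hρz]⟩
  -- `V ∩ L₂ = 1`
  have h2ne : (2 : ZMod p) ≠ 0 := by
    intro h0
    have h1 : ((2 : ℕ) : ZMod p) = 0 := by exact_mod_cast h0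
    rw [ZMod.natCast_eq_zero_iff] at h1
    exact hp ((Nat.prime_dvd_prime_iff_eq hpp Nat.prime_two).mp h1)
  have hVL₂ : ∀ l : L, l ∈ L₂ → (l : E) ∈ V → l = 1 := by
    intro l hl hlV
    have h1 : l * z * l⁻¹ ∈ S := (Subgroup.mem_normalizer_iff.mp hl z).mp hzS
    have hcS : l * z * l⁻¹ * z⁻¹ ∈ S := S.mul_mem h1 (S.inv_mem hzS)
    have hzN : (z : E) ∈ Subgroup.normalizer (V : Set E) := hLV z.2
    have hcV : ((l * z * l⁻¹ * z⁻¹ : L) : E) ∈ V := by
      have h2 : (z : E) * (l : E)⁻¹ * (z : E)⁻¹ ∈ V :=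
        (Subgroup.mem_normalizer_iff.mp hzN _).mp (V.inv_mem hlV)
      have h3 := V.mul_mem hlV h2
      have e : ((l * z * l⁻¹ * z⁻¹ : L) : E) = (l : E) * ((z : E) * (l : E)⁻¹ * (z : E)⁻¹) := by
        simp only [Subgroup.coe_mul, Subgroup.coe_inv]; group
      rw [e]; exact h3
    obtain ⟨k, hk⟩ := hSp ⟨_, hcS⟩
    have hk' : ((l * z * l⁻¹ * z⁻¹ : L) : E) ^ 2 ^ k = 1 := by
      have := congrArg (fun x : S => ((x : L) : E)) hk
      simpa using this
    have hp' : ((l * z * l⁻¹ * z⁻¹ : L) : E) ^ p = 1 := by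
      have := congrArg Subtype.val (hVp ⟨_, hcV⟩)
      simpa using this
    have hc1 : ((l * z * l⁻¹ * z⁻¹ : L) : E) = 1 := by
      have h4 : orderOf ((l * z * l⁻¹ * z⁻¹ : L) : E) ∣ Nat.gcd p (2 ^ k) :=
        Nat.dvd_gcd (orderOf_dvd_of_pow_eq_one hp') (orderOf_dvd_of_pow_eq_one hk')
      have h5 : Nat.gcd p (2 ^ k) = 1 :=
        Nat.Coprime.pow_right k ((Nat.coprime_primes hpp Nat.prime_two).mpr hp)
      rw [h5, Nat.dvd_one, orderOf_eq_one_iff] at h4
      exact h4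
    -- so `z` centralizes `l`
    have hzl : (z : E) * (l : E) * (z : E)⁻¹ = (l : E) := by
      have e : ((l * z * l⁻¹ * z⁻¹ : L) : E) = (l : E) * (z : E) * (l : E)⁻¹ * (z : E)⁻¹ := by
        simp only [Subgroup.coe_mul, Subgroup.coe_inv]
      rw [e] at hc1
      have h6 : (l : E) * (z : E) = (z : E) * (l : E) := by
        have := congrArg (fun x => x * ((z : E) * (l : E))) hc1
        simpa [mul_assoc] using this
      rw [← h6]; group
    have hzlV : (z : E) * ((⟨(l : E), hlV⟩ : V) : E) * (z : E)⁻¹ ∈ V := by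
      rw [hzl]; exact hlV
    have h7 := hact' z ⟨(l : E), hlV⟩ hzlV
    have h8 : (⟨(z : E) * ((⟨(l : E), hlV⟩ : V) : E) * (z : E)⁻¹, hzlV⟩ : V) = ⟨(l : E), hlV⟩ :=
      Subtype.ext hzl
    rw [h8, hρz] at h7
    have h9 : ψ (Additive.ofMul (⟨(l : E), hlV⟩ : V)) = 0 := by
      ext i
      have h10 := congrFun h7 i
      have h11 : ((-1 : Matrix.SpecialLinearGroup (Fin 2) (ZMod p)) :
          Matrix (Fin 2) (Fin 2) (ZMod p)) = -1 := by
        simp
      rw [h11, Matrix.neg_mulVec, Matrix.one_mulVec, Pi.neg_apply] at h10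
      have h12 : (2 : ZMod p) * ψ (Additive.ofMul (⟨(l : E), hlV⟩ : V)) i = 0 := by
        linear_combination h10
      rcases mul_eq_zero.mp h12 with h13 | h13
      · exact absurd h13 h2ne
      · simpa using h13
    have h10 : Additive.ofMul (⟨(l : E), hlV⟩ : V) = 0 := by
      rw [← map_zero ψ] at h9
      exact ψ.injective h9
    have h11 : (⟨(l : E), hlV⟩ : V) = 1 := h10
    have h12 : (l : E) = 1 := congrArg Subtype.val h11
    exact Subtype.ext h12
  -- the semidirect product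
  set act : ↥L₂ →* MulAut V := (conjAct V L hLV).comp L₂.subtype with hactdef
  have hcompat₁ : ∀ g : ↥L₂, V.subtype.comp (MulEquiv.toMonoidHom (act g)) =
      (MulAut.conj ((L.subtype.comp L₂.subtype) g)).toMonoidHom.comp V.subtype := by
    intro g
    ext v
    rfl
  set ι : V ⋊[act] ↥L₂ →* E :=
    SemidirectProduct.lift V.subtype (L.subtype.comp L₂.subtype) hcompat₁ with hι
  have hιinj : Function.Injective ι := by
    rw [injective_iff_map_eq_one]
    intro x hx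
    have hx' : (x.left : E) * ((x.right : L) : E) = 1 := hx
    have h1 : ((x.right : L) : E) ∈ V := by
      have : ((x.right : L) : E) = (x.left : E)⁻¹ := eq_inv_of_mul_eq_one_right hx'
      rw [this]; exact V.inv_mem x.left.2
    have h2 : (x.right : L) = 1 := hVL₂ _ x.right.2 h1
    have h3 : x.right = 1 := Subtype.ext h2
    have h4 : (x.left : E) = 1 := by
      rw [h2] at hx'
      simpa using hx'
    have h5 : x.left = 1 := Subtype.ext h4
    exact SemidirectProduct.ext h5 h3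
  -- the map onto the affine group
  set f₂ : ↥L₂ →* affineSub (ZMod p) := (mkHom (R := ZMod p)).comp (ρ.comp L₂.subtype) with hf₂
  have hcompat₂ : ∀ g : ↥L₂, (trHom V ψ).comp (MulEquiv.toMonoidHom (act g)) =
      (MulAut.conj (f₂ g)).toMonoidHom.comp (trHom V ψ) := by
    intro g
    ext1 v
    show trHom V ψ (act g v) = f₂ g * trHom V ψ v * (f₂ g)⁻¹
    rw [eq_mul_inv_iff_mul_eq]
    have hgv : ((g : L) : E) * (v : E) * ((g : L) : E)⁻¹ ∈ V := (act g v).2
    have h1 := hact' (g : L) v hgv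
    have h2 : act g v = ⟨((g : L) : E) * (v : E) * ((g : L) : E)⁻¹, hgv⟩ := rfl
    show mk 1 (ψ (Additive.ofMul (act g v)) 0) (ψ (Additive.ofMul (act g v)) 1) * mk (ρ (g : L)) 0 0 =
      mk (ρ (g : L)) 0 0 * mk 1 (ψ (Additive.ofMul v) 0) (ψ (Additive.ofMul v) 1)
    rw [mk_mul_mk_one, h2, h1]
    simp [Matrix.mulVec, dotProduct, Fin.sum_univ_two]
  set Ψ : V ⋊[act] ↥L₂ →* affineSub (ZMod p) :=
    SemidirectProduct.lift (trHom V ψ) f₂ hcompat₂ with hΨ
  have hΨsurj : Function.Surjective Ψ := by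
    intro M
    obtain ⟨l, hl, hρl⟩ := hsurj₂ (blockFun M)
    obtain ⟨v, hv⟩ := ψ.surjective ![(transFun M).1, (transFun M).2]
    refine ⟨⟨Additive.toMul v, ⟨l, hl⟩⟩, ?_⟩
    show trHom V ψ (Additive.toMul v) * mk (ρ l) 0 0 = M
    have h1 : trHom V ψ (Additive.toMul v) = mk 1 (transFun M).1 (transFun M).2 := by
      show mk 1 (ψ (Additive.ofMul (Additive.toMul v)) 0) (ψ (Additive.ofMul (Additive.toMul v)) 1) = _
      rw [ofMul_toMul, hv]
      simp
    rw [h1, hρl, mk_one_mul_mk, mk_blockFun_transFun]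
  -- conclusion
  have h1 : Cfsg.Involves ↥(affineSub (ZMod p)) (V ⋊[act] ↥L₂) := by
    rw [Cfsg.Agent.S5299.involves_iff]
    refine ⟨⊤, Ψ.comp (⊤ : Subgroup (V ⋊[act] ↥L₂)).subtype, ?_⟩
    intro M
    obtain ⟨x, hx⟩ := hΨsurj M
    exact ⟨⟨x, Subgroup.mem_top x⟩, hx⟩
  have h2 : Cfsg.Involves ↥(affineSub (ZMod p)) E :=
    Cfsg.Agent.S5299.involves_of_injective ι hιinj h1
  exact Cfsg.Agent.Lib.Helper34_NPC.involves_of_equiv
    (MulEquiv.subgroupCongr (qd_eq p)).symm h2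

end recog

end Cfsg.Agent.Lib.Helper11_QdRecog
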