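import Mathlib
import Cfsg.Agent.Lib.Helper40_S8Defs
import Cfsg.Agent.Lib.Helper44_StdForms

/-!
# S3589 package PKB3 (for helper40): four small explicit isometries in characteristic 2

orders 2 (on `qfPlus 1`), 2 (on `qfMinus 0 a b`, `a ≠ 0`), 4 (on `qfPlus 2`), 8 (on `qfPlus 3`).
-/

set_option autoImplicit false
set_option linter.unnecessarySeqFocus false

namespace Cfsg.Agent.Lib.Helper11_S3589_PKB3

open Module Cfsg.Agent.Lib.Helper40_S8Defs Cfsg.Agent.Lib.Helper44_StdForms

universe u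

variable {F : Type u} [Field F]

/-- a linear endomorphism of a function space given by an explicit additive, homogeneous formula -/
def mkEnd {ι : Type} (f : (ι → F) → (ι → F)) (hadd : ∀ v w, f (v + w) = f v + f w)
    (hsmul : ∀ (c : F) v, f (c • v) = c • f v) : Module.End F (ι → F) :=
  { toFun := f, map_add' := hadd, map_smul' := hsmul }

@[simp] theorem mkEnd_apply {ι : Type} (f : (ι → F) → (ι → F)) (hadd hsmul) (v : ι → F) :
    mkEnd f hadd hsmul v = f v := rfl

theorem two_eq_zero' [CharP F 2] : (2 : F) = 0 := CharTwo.two_eq_zero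

/-! ### (i) order 2 on `qfPlus 1` -/

def f1 (v : Fin 1 ⊕ Fin 1 → F) : Fin 1 ⊕ Fin 1 → F :=
  Sum.elim ![v (Sum.inr 0)] ![v (Sum.inl 0)]

def T1 : Module.End F (Fin 1 ⊕ Fin 1 → F) :=
  mkEnd f1
    (by intro v w; funext i; rcases i with i | i <;> fin_cases i <;> simp [f1])
    (by intro c v; funext i; rcases i with i | i <;> fin_cases i <;> simp [f1])

theorem plus_two : HasIsom (qfPlus 1 F) 2 := by
  refine ⟨T1, ?_, ?_⟩
  · intro v
    rw [coe_qfPlus]
    simp [Cfsg.quadFormPlus, T1, f1]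
    ring
  · haveI : Fact (Nat.Prime 2) := ⟨Nat.prime_two⟩
    have h := orderOf_eq_prime_pow (x := (T1 : Module.End F (Fin 1 ⊕ Fin 1 → F))) (p := 2) (n := 0)
      ?_ ?_
    · simpa using h
    · rw [pow_zero, pow_one]
      intro h1
      have h2 := congrArg (fun T : Module.End F (Fin 1 ⊕ Fin 1 → F) =>
        T (Pi.single (Sum.inl 0) 1) (Sum.inl 0)) h1
      simp [T1, f1] at h2
    · rw [zero_add, pow_one, pow_two]
      refine LinearMap.ext (fun v => funext (fun i => ?_))
      rcases i with i | i <;> fin_cases i <;> simp [T1, f1]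

/-! ### (ii) order 2 on `qfMinus 0 a b` -/

def f2 (a : F) (v : (Fin 0 ⊕ Fin 0) ⊕ Fin 2 → F) : (Fin 0 ⊕ Fin 0) ⊕ Fin 2 → F :=
  Sum.elim (fun j => v (Sum.inl j)) ![v (Sum.inr 0) + a * v (Sum.inr 1), v (Sum.inr 1)]

def T2 (a : F) : Module.End F ((Fin 0 ⊕ Fin 0) ⊕ Fin 2 → F) :=
  mkEnd (f2 a)
    (by
      intro v w; funext i
      rcases i with i | i
      · simp [f2]
      · fin_cases i <;> simp [f2] <;> ring)
    (by
      intro c v; funext i
      rcases i with i | i
      · simp [f2]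
      · fin_cases i <;> simp [f2] <;> ring)

theorem minus_two [CharP F 2] (a b : F) (ha : a ≠ 0) : HasIsom (qfMinus 0 F a b) 2 := by
  have h2 : (2 : F) = 0 := two_eq_zero'
  refine ⟨T2 a, ?_, ?_⟩
  · intro v
    rw [coe_qfMinus]
    simp [Cfsg.quadFormMinus, T2, f2]
    linear_combination (a * v (Sum.inr 0) * v (Sum.inr 1) + a ^ 2 * v (Sum.inr 1) ^ 2) * h2
  · haveI : Fact (Nat.Prime 2) := ⟨Nat.prime_two⟩
    have h := orderOf_eq_prime_pow
      (x := (T2 a : Module.End F ((Fin 0 ⊕ Fin 0) ⊕ Fin 2 → F))) (p := 2) (n := 0) ?_ ?_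
    · simpa using h
    · rw [pow_zero, pow_one]
      intro h1
      have h3 := congrArg (fun T : Module.End F ((Fin 0 ⊕ Fin 0) ⊕ Fin 2 → F) =>
        T (Pi.single (Sum.inr 1) 1) (Sum.inr 0)) h1
      simp [T2, f2] at h3
      exact ha h3
    · rw [zero_add, pow_one, pow_two]
      refine LinearMap.ext (fun v => funext (fun i => ?_))
      rcases i with i | i
      · simp [T2, f2]
      · fin_cases i
        · simp [T2, f2]
          linear_combination (a * v (Sum.inr 1)) * h2
        · simp [T2, f2]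

/-! ### (iii) order 4 on `qfPlus 2` -/

def f3 (v : Fin 2 ⊕ Fin 2 → F) : Fin 2 ⊕ Fin 2 → F :=
  Sum.elim ![v (Sum.inr 1), v (Sum.inl 0)] ![v (Sum.inl 1), v (Sum.inr 0)]

def T3 : Module.End F (Fin 2 ⊕ Fin 2 → F) :=
  mkEnd f3
    (by intro v w; funext i; rcases i with i | i <;> fin_cases i <;> simp [f3])
    (by intro c v; funext i; rcases i with i | i <;> fin_cases i <;> simp [f3])

def f3' (v : Fin 2 ⊕ Fin 2 → F) : Fin 2 ⊕ Fin 2 → F :=
  Sum.elim ![v (Sum.inr 0), v (Sum.inr 1)] ![v (Sum.inl 0), v (Sum.inl 1)]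

def S3 : Module.End F (Fin 2 ⊕ Fin 2 → F) :=
  mkEnd f3'
    (by intro v w; funext i; rcases i with i | i <;> fin_cases i <;> simp [f3'])
    (by intro c v; funext i; rcases i with i | i <;> fin_cases i <;> simp [f3'])

theorem plus_four : HasIsom (qfPlus 2 F) 4 := by
  refine ⟨T3, ?_, ?_⟩
  · intro v
    rw [coe_qfPlus]
    simp [Cfsg.quadFormPlus, T3, f3, Fin.sum_univ_succ]
    ring
  · haveI : Fact (Nat.Prime 2) := ⟨Nat.prime_two⟩
    have hsq : (T3 : Module.End F (Fin 2 ⊕ Fin 2 → F)) ^ 2 = S3 := by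
      rw [pow_two]
      refine LinearMap.ext (fun v => funext (fun i => ?_))
      rcases i with i | i <;> fin_cases i <;> simp [T3, f3, S3, f3']
    have h := orderOf_eq_prime_pow (x := (T3 : Module.End F (Fin 2 ⊕ Fin 2 → F))) (p := 2) (n := 1)
      ?_ ?_
    · simpa using h
    · rw [pow_one, hsq]
      intro h1
      have h2 := congrArg (fun T : Module.End F (Fin 2 ⊕ Fin 2 → F) =>
        T (Pi.single (Sum.inl 0) 1) (Sum.inl 0)) h1
      simp [S3, f3'] at h2
    · rw [show (2 : ℕ) ^ (1 + 1) = 2 * 2 from rfl, pow_mul, hsq, pow_two]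
      refine LinearMap.ext (fun v => funext (fun i => ?_))
      rcases i with i | i <;> fin_cases i <;> simp [S3, f3']

/-! ### (iv) order 8 on `qfPlus 3` -/

def f4 (v : Fin 3 ⊕ Fin 3 → F) : Fin 3 ⊕ Fin 3 → F :=
  Sum.elim ![v (Sum.inr 2), v (Sum.inr 0) + v (Sum.inr 1), v (Sum.inr 0)]
    ![v (Sum.inl 2), v (Sum.inl 1), v (Sum.inl 0) + v (Sum.inl 1)]

def T4 : Module.End F (Fin 3 ⊕ Fin 3 → F) :=
  mkEnd f4
    (by intro v w; funext i; rcases i with i | i <;> fin_cases i <;> simp [f4] <;> ring)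
    (by intro c v; funext i; rcases i with i | i <;> fin_cases i <;> simp [f4] <;> ring)

/-- the square of `T4` -/
def g4 (v : Fin 3 ⊕ Fin 3 → F) : Fin 3 ⊕ Fin 3 → F :=
  Sum.elim ![v (Sum.inl 0) + v (Sum.inl 1), v (Sum.inl 1) + v (Sum.inl 2), v (Sum.inl 2)]
    ![v (Sum.inr 0), v (Sum.inr 0) + v (Sum.inr 1), v (Sum.inr 0) + v (Sum.inr 1) + v (Sum.inr 2)]

def S4 : Module.End F (Fin 3 ⊕ Fin 3 → F) :=
  mkEnd g4
    (by intro v w; funext i; rcases i with i | i <;> fin_cases i <;> simp [g4] <;> ring)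
    (by intro c v; funext i; rcases i with i | i <;> fin_cases i <;> simp [g4] <;> ring)

/-- the fourth power of `T4` -/
def k4 (v : Fin 3 ⊕ Fin 3 → F) : Fin 3 ⊕ Fin 3 → F :=
  Sum.elim ![v (Sum.inl 0) + v (Sum.inl 2), v (Sum.inl 1), v (Sum.inl 2)]
    ![v (Sum.inr 0), v (Sum.inr 1), v (Sum.inr 0) + v (Sum.inr 2)]

def R4 : Module.End F (Fin 3 ⊕ Fin 3 → F) :=
  mkEnd k4
    (by intro v w; funext i; rcases i with i | i <;> fin_cases i <;> simp [k4] <;> ring)
    (by intro c v; funext i; rcases i with i | i <;> fin_cases i <;> simp [k4] <;> ring)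

theorem plus_eight [CharP F 2] : HasIsom (qfPlus 3 F) 8 := by
  have h2 : (2 : F) = 0 := two_eq_zero'
  refine ⟨T4, ?_, ?_⟩
  · intro v
    rw [coe_qfPlus]
    simp [Cfsg.quadFormPlus, T4, f4, Fin.sum_univ_succ]
    linear_combination (v (Sum.inl 1) * v (Sum.inr 0)) * h2
  · haveI : Fact (Nat.Prime 2) := ⟨Nat.prime_two⟩
    have hsq : (T4 : Module.End F (Fin 3 ⊕ Fin 3 → F)) ^ 2 = S4 := by
      rw [pow_two]
      refine LinearMap.ext (fun v => funext (fun i => ?_))
      rcases i with i | i <;> fin_cases i <;> simp [T4, f4, S4, g4] <;> ring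
    have h4 : (T4 : Module.End F (Fin 3 ⊕ Fin 3 → F)) ^ 4 = R4 := by
      rw [show (4 : ℕ) = 2 * 2 from rfl, pow_mul, hsq, pow_two]
      refine LinearMap.ext (fun v => funext (fun i => ?_))
      rcases i with i | i
      · fin_cases i
        · simp [S4, g4, R4, k4]
          linear_combination (v (Sum.inl 1)) * h2
        · simp [S4, g4, R4, k4]
          linear_combination (v (Sum.inl 2)) * h2
        · simp [S4, g4, R4, k4]
      · fin_cases i
        · simp [S4, g4, R4, k4]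
        · simp [S4, g4, R4, k4]
          linear_combination (v (Sum.inr 0)) * h2
        · simp [S4, g4, R4, k4]
          linear_combination (v (Sum.inr 0) + v (Sum.inr 1)) * h2
    have h := orderOf_eq_prime_pow (x := (T4 : Module.End F (Fin 3 ⊕ Fin 3 → F))) (p := 2) (n := 2)
      ?_ ?_
    · simpa using h
    · rw [show (2 : ℕ) ^ 2 = 4 from rfl, h4]
      intro h1
      have h3 := congrArg (fun T : Module.End F (Fin 3 ⊕ Fin 3 → F) =>
        T (Pi.single (Sum.inl 2) 1) (Sum.inl 0)) h1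
      simp [R4, k4] at h3
    · rw [show (2 : ℕ) ^ (2 + 1) = 4 * 2 from rfl, pow_mul, h4, pow_two]
      refine LinearMap.ext (fun v => funext (fun i => ?_))
      rcases i with i | i
      · fin_cases i
        · simp [R4, k4]
          linear_combination (v (Sum.inl 2)) * h2
        · simp [R4, k4]
        · simp [R4, k4]
      · fin_cases i
        · simp [R4, k4]
        · simp [R4, k4]
        · simp [R4, k4]
          linear_combination (v (Sum.inr 0)) * h2

/-- **PKB3** -/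
theorem PKB3 {F : Type u} [Field F] [CharP F 2] (a b : F) (ha : a ≠ 0) :
    HasIsom (qfPlus 1 F) 2 ∧ HasIsom (qfMinus 0 F a b) 2 ∧ HasIsom (qfPlus 2 F) 4 ∧
      HasIsom (qfPlus 3 F) 8 :=
  ⟨plus_two, minus_two a b ha, plus_four, plus_eight⟩

end Cfsg.Agent.Lib.Helper11_S3589_PKB3
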