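import Mathlib
import Cfsg.Agent.Lib.Helper24_CoprimeAction

/-!
Helper library (helper21): lifting an inverted element of order three through a homomorphism.

`lemmaB`: if `f : X →* Q` has in its range an element `c` of order three and an element `s`
inverting it, then `X` contains a `2`-element `t` and a `3`-element `y` with `t y t⁻¹ = y⁻¹`
and `f y` a non-identity power of `c`.
-/

set_option autoImplicit false

namespace Cfsg.Agent.Lib.Helper21_S4Lift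

open Cfsg.Agent.Lib.Helper24_CoprimeAction

section inv
variable {Q : Type*} [Group Q]

theorem conj_zpow_of_inverts {q c : Q} (h : q * c * q⁻¹ = c⁻¹) (k : ℤ) :
    q * c ^ k * q⁻¹ = (c ^ k)⁻¹ := by
  have h1 : q * c ^ k * q⁻¹ = (q * c * q⁻¹) ^ k := (conj_zpow).symm
  rw [h1, h, inv_zpow]

theorem conj_of_mem_zpowers {q c w : Q} (h : q * c * q⁻¹ = c⁻¹)
    (hw : w ∈ Subgroup.zpowers c) : q * w * q⁻¹ = w⁻¹ := by
  obtain ⟨k, rfl⟩ := Subgroup.mem_zpowers_iff.1 hw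
  exact conj_zpow_of_inverts h k

theorem inverts_inv {q c : Q} (h : q * c * q⁻¹ = c⁻¹) : q⁻¹ * c * q⁻¹⁻¹ = c⁻¹ := by
  have h1 : c = q⁻¹ * c⁻¹ * q := by rw [← h]; group
  calc q⁻¹ * c * q⁻¹⁻¹ = (q⁻¹ * c⁻¹ * q)⁻¹ := by group
    _ = c⁻¹ := by rw [← h1]

theorem sq_commute_of_inverts {q c : Q} (h : q * c * q⁻¹ = c⁻¹) : Commute (q ^ 2) c := by
  have h2 : q ^ 2 * c * (q ^ 2)⁻¹ = c := by
    have e1 : q ^ 2 * c * (q ^ 2)⁻¹ = q * (q * c * q⁻¹) * q⁻¹ := by rw [pow_two]; group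
    rw [e1, h]
    have e2 : q * c⁻¹ * q⁻¹ = (q * c * q⁻¹)⁻¹ := by group
    rw [e2, h, inv_inv]
  show q ^ 2 * c = c * q ^ 2
  calc q ^ 2 * c = (q ^ 2 * c * (q ^ 2)⁻¹) * q ^ 2 := by group
    _ = c * q ^ 2 := by rw [h2]

theorem pow_odd_inverts {q c : Q} (h : q * c * q⁻¹ = c⁻¹) {m : ℕ} (hm : Odd m) :
    q ^ m * c * (q ^ m)⁻¹ = c⁻¹ := by
  obtain ⟨k, rfl⟩ := hm
  have h2 : Commute ((q ^ 2) ^ k) c := (sq_commute_of_inverts h).pow_left k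
  have h3 : Commute (q ^ (2 * k)) c⁻¹ := by rw [pow_mul]; exact h2.inv_right
  rw [pow_succ]
  calc q ^ (2 * k) * q * c * (q ^ (2 * k) * q)⁻¹
      = q ^ (2 * k) * (q * c * q⁻¹) * (q ^ (2 * k))⁻¹ := by group
    _ = q ^ (2 * k) * c⁻¹ * (q ^ (2 * k))⁻¹ := by rw [h]
    _ = c⁻¹ := by rw [h3.eq]; group

theorem mem_normalizer_zpowers_of_inverts {q c : Q} (h : q * c * q⁻¹ = c⁻¹) :
    q ∈ Subgroup.normalizer ((Subgroup.zpowers c : Subgroup Q) : Set Q) := by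
  rw [Subgroup.mem_normalizer_iff]
  intro w
  constructor
  · intro hw
    rw [conj_of_mem_zpowers h hw]
    exact Subgroup.inv_mem _ hw
  · intro hw
    have h1 := conj_of_mem_zpowers (inverts_inv h) hw
    have h2 : q⁻¹ * (q * w * q⁻¹) * q⁻¹⁻¹ = w := by group
    rw [h2] at h1
    rw [h1]
    exact Subgroup.inv_mem _ hw

theorem sq_ne_one_of_mem_zpowers {c w : Q} (hc3 : c ^ 3 = 1) (hw : w ∈ Subgroup.zpowers c)
    (hw1 : w ≠ 1) : w * w ≠ 1 := by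
  obtain ⟨k, rfl⟩ := Subgroup.mem_zpowers_iff.1 hw
  intro h
  apply hw1
  have h3 : (c ^ k) ^ 3 = 1 := by
    rw [← zpow_natCast, ← zpow_mul, mul_comm, zpow_mul, zpow_natCast, hc3, one_zpow]
  calc c ^ k = (c ^ k) ^ 3 * ((c ^ k) * (c ^ k))⁻¹ := by group
    _ = 1 := by rw [h3, h, inv_one, mul_one]

end inv

/-- **Lifting lemma.** -/
theorem lemmaB {X Q : Type*} [Group X] [Finite X] [Group Q] (f : X →* Q) (c s : Q)
    (hc3 : c ^ 3 = 1) (hc1 : c ≠ 1) (hsc : s * c * s⁻¹ = c⁻¹)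
    (hcr : c ∈ f.range) (hsr : s ∈ f.range) :
    ∃ t y : X, (∃ k : ℕ, orderOf t = 2 ^ k) ∧ (∃ k : ℕ, orderOf y = 3 ^ k) ∧
      t * y * t⁻¹ = y⁻¹ ∧ f y ≠ 1 ∧ f y ∈ Subgroup.zpowers c := by
  classical
  haveI : Fact (Nat.Prime 3) := ⟨Nat.prime_three⟩
  haveI : Fact (Nat.Prime 2) := ⟨Nat.prime_two⟩
  have hc_ord : orderOf c = 3 := orderOf_eq_prime hc3 hc1
  obtain ⟨z₀, hz₀⟩ := hcr
  obtain ⟨g₀, hg₀⟩ := hsr
  -- the 3-part of z₀
  obtain ⟨e, n', hn', hzn⟩ :=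
    Nat.exists_eq_pow_mul_and_not_dvd (orderOf_pos z₀).ne' 3 (by norm_num)
  have hn'0 : 0 < n' := by
    rcases Nat.eq_zero_or_pos n' with h | h
    · subst h; simp at hn'
    · exact h
  set y₀ := z₀ ^ n' with hy₀
  have hy₀_ord : orderOf y₀ = 3 ^ e := by
    rw [hy₀, orderOf_pow_of_dvd hn'0.ne' ⟨3 ^ e, by rw [hzn, mul_comm]⟩, hzn,
      Nat.mul_div_cancel _ hn'0]
  have hw_mem : f y₀ ∈ Subgroup.zpowers c := by
    rw [hy₀, map_pow, hz₀]; exact Subgroup.pow_mem _ (Subgroup.mem_zpowers c) _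
  have hw1 : f y₀ ≠ 1 := by
    rw [hy₀, map_pow, hz₀]
    intro h
    have h1 := orderOf_dvd_of_pow_eq_one h
    rw [hc_ord] at h1
    exact hn' h1
  -- the preimage of ⟨c⟩
  set L : Subgroup X := (Subgroup.zpowers c).comap f with hL
  have hy₀L : y₀ ∈ L := hw_mem
  have hpg : IsPGroup 3 (Subgroup.zpowers (⟨y₀, hy₀L⟩ : L)) := by
    apply IsPGroup.of_card (n := e)
    rw [Nat.card_zpowers, Subgroup.orderOf_mk, hy₀_ord]
  obtain ⟨P, hP⟩ := hpg.exists_le_sylow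
  set PG : Subgroup X := sylowImage P with hPG
  have hy₀PG : y₀ ∈ PG := ⟨⟨y₀, hy₀L⟩, hP (Subgroup.mem_zpowers _), rfl⟩
  have hPGp : IsPGroup 3 PG := P.isPGroup'.map _
  -- Frattini
  have hg₀N : g₀ ∈ Subgroup.normalizer (L : Set X) := by
    apply Subgroup.le_normalizer_comap f
    rw [Subgroup.mem_comap, hg₀]; exact mem_normalizer_zpowers_of_inverts hsc
  obtain ⟨κ, hκ⟩ := frattini_rel P g₀ hg₀N
  set n := (κ : X)⁻¹ * g₀ with hn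
  have hfκ : f (κ : X) ∈ Subgroup.zpowers c := κ.2
  have hq : f n * c * (f n)⁻¹ = c⁻¹ := by
    rw [hn, map_mul, map_inv, hg₀]
    have hcomm : Commute (f (κ : X)) c := by
      obtain ⟨k, hk⟩ := Subgroup.mem_zpowers_iff.1 hfκ
      rw [← hk]; exact (Commute.refl c).zpow_left k
    have hcomm' : (f (κ : X))⁻¹ * c⁻¹ = c⁻¹ * (f (κ : X))⁻¹ := (hcomm.inv_left.inv_right).eq
    calc (f κ)⁻¹ * s * c * ((f κ)⁻¹ * s)⁻¹ = (f κ)⁻¹ * (s * c * s⁻¹) * (f κ) := by group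
      _ = (f κ)⁻¹ * c⁻¹ * f κ := by rw [hsc]
      _ = c⁻¹ := by rw [hcomm']; group
  -- the 2-part of n
  obtain ⟨a, m', hm', hnm⟩ :=
    Nat.exists_eq_pow_mul_and_not_dvd (orderOf_pos n).ne' 2 (by norm_num)
  have hm'0 : 0 < m' := by
    rcases Nat.eq_zero_or_pos m' with h | h
    · subst h; simp at hm'
    · exact h
  have hm'odd : Odd m' := Nat.odd_iff.2 (Nat.two_dvd_ne_zero.1 hm')
  set t₁ := n ^ m' with ht₁
  have ht₁_ord : orderOf t₁ = 2 ^ a := by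
    rw [ht₁, orderOf_pow_of_dvd hm'0.ne' ⟨2 ^ a, by rw [hnm, mul_comm]⟩, hnm,
      Nat.mul_div_cancel _ hm'0]
  have ht₁N : t₁ ∈ Subgroup.normalizer (PG : Set X) := Subgroup.pow_mem _ hκ _
  have hq₁ : f t₁ * c * (f t₁)⁻¹ = c⁻¹ := by
    rw [ht₁, map_pow]; exact pow_odd_inverts hq hm'odd
  -- the coprime action of ⟨t₁²⟩ on PG ⊓ ker f
  set A : Subgroup X := Subgroup.zpowers (t₁ ^ 2) with hA
  set P₀ : Subgroup X := PG ⊓ f.ker with hP₀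
  have hAN : A ≤ Subgroup.normalizer (PG : Set X) := by
    rw [hA, Subgroup.zpowers_le]; exact Subgroup.pow_mem _ ht₁N _
  have hAD : A ≤ Subgroup.normalizer (P₀ : Set X) := by
    intro x hx
    have hxN := hAN hx
    rw [Subgroup.mem_normalizer_iff] at hxN ⊢
    intro u
    rw [hP₀, Subgroup.mem_inf, Subgroup.mem_inf, MonoidHom.mem_ker, MonoidHom.mem_ker, ← hxN u]
    have : f (x * u * x⁻¹) = 1 ↔ f u = 1 := by
      rw [map_mul, map_mul, map_inv]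
      constructor
      · intro h
        calc f u = (f x)⁻¹ * (f x * f u * (f x)⁻¹) * f x := by group
          _ = 1 := by rw [h]; group
      · intro h; rw [h]; group
    rw [this]
  have hAcomm : ∀ x ∈ A, Commute (f x) c := by
    intro x hx
    obtain ⟨k, rfl⟩ := Subgroup.mem_zpowers_iff.1 hx
    rw [map_zpow, map_pow]
    exact (sq_commute_of_inverts hq₁).zpow_left k
  have hcop : (Nat.card A).Coprime (Nat.card P₀) := by
    have h1 : Nat.card A ∣ 2 ^ a := by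
      rw [hA, Nat.card_zpowers, ← ht₁_ord]; exact orderOf_pow_dvd 2
    obtain ⟨b, hb⟩ := IsPGroup.iff_card.1 hPGp
    have h2 : Nat.card P₀ ∣ 3 ^ b := by
      rw [← hb]; exact Subgroup.card_dvd_of_le inf_le_left
    exact Nat.Coprime.coprime_dvd_left h1 (Nat.Coprime.coprime_dvd_right h2
      (Nat.Coprime.pow a b (by norm_num)))
  have hsolv : Group.IsSolvable A := by
    apply Group.isSolvable_of_comm
    rintro ⟨x, hx⟩ ⟨y, hy⟩
    obtain ⟨k, rfl⟩ := Subgroup.mem_zpowers_iff.1 hx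
    obtain ⟨l, rfl⟩ := Subgroup.mem_zpowers_iff.1 hy
    apply Subtype.ext
    show (t₁ ^ 2) ^ k * (t₁ ^ 2) ^ l = (t₁ ^ 2) ^ l * (t₁ ^ 2) ^ k
    rw [← zpow_add, ← zpow_add, add_comm]
  have hfix : ∀ x ∈ A, y₀⁻¹ * (x * y₀ * x⁻¹) ∈ P₀ := by
    intro x hx
    refine Subgroup.mem_inf.2 ⟨PG.mul_mem (PG.inv_mem hy₀PG)
      ((Subgroup.mem_normalizer_iff.1 (hAN hx) y₀).1 hy₀PG), ?_⟩
    rw [MonoidHom.mem_ker, map_mul, map_inv, map_mul, map_mul, map_inv]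
    have hcw : Commute (f x) (f y₀) := by
      obtain ⟨k, hk⟩ := Subgroup.mem_zpowers_iff.1 hw_mem
      rw [← hk]; exact (hAcomm x hx).zpow_right k
    rw [hcw.eq]; group
  obtain ⟨d, hd, hdA⟩ := exists_fixed_in_coset A P₀ hAD hcop (Or.inl hsolv) y₀ hfix
  have key : ∃ y' ∈ PG, f y' = f y₀ ∧ t₁ ^ 2 * y' = y' * t₁ ^ 2 := by
    refine ⟨y₀ * d, PG.mul_mem hy₀PG hd.1, ?_, hdA _ (Subgroup.mem_zpowers _)⟩
    rw [map_mul, MonoidHom.mem_ker.1 hd.2, mul_one]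
  obtain ⟨y', hy'PG, hfy', hcomm2⟩ := key
  have h3 : f t₁ * (f y₀)⁻¹ * (f t₁)⁻¹ = ((f y₀)⁻¹)⁻¹ :=
    conj_of_mem_zpowers hq₁ (Subgroup.inv_mem _ hw_mem)
  have hfy : f (y' * (t₁ * y'⁻¹ * t₁⁻¹)) = f y₀ * f y₀ := by
    simp only [map_mul, map_inv]
    rw [hfy', h3, inv_inv]
  refine ⟨t₁, y' * (t₁ * y'⁻¹ * t₁⁻¹), ⟨a, ht₁_ord⟩, ?_, ?_, ?_, ?_⟩
  · have hyPG : y' * (t₁ * y'⁻¹ * t₁⁻¹) ∈ PG :=
      PG.mul_mem hy'PG ((Subgroup.mem_normalizer_iff.1 ht₁N _).1 (PG.inv_mem hy'PG))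
    obtain ⟨i, hi⟩ := hPGp ⟨_, hyPG⟩
    have h1 : orderOf (y' * (t₁ * y'⁻¹ * t₁⁻¹)) ∣ 3 ^ i := by
      apply orderOf_dvd_of_pow_eq_one
      have := congrArg Subtype.val hi
      simpa using this
    obtain ⟨i', _, hi'⟩ := (Nat.dvd_prime_pow Nat.prime_three).1 h1
    exact ⟨i', hi'⟩
  · have h2 : y'⁻¹ * t₁⁻¹ * t₁⁻¹ = t₁⁻¹ * t₁⁻¹ * y'⁻¹ := by
      rw [pow_two] at hcomm2
      have := congrArg (fun z => z⁻¹) hcomm2
      simp only [mul_inv_rev] at this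
      rw [← mul_assoc] at this
      exact this
    calc t₁ * (y' * (t₁ * y'⁻¹ * t₁⁻¹)) * t₁⁻¹
        = t₁ * y' * t₁ * (y'⁻¹ * t₁⁻¹ * t₁⁻¹) := by group
      _ = t₁ * y' * t₁ * (t₁⁻¹ * t₁⁻¹ * y'⁻¹) := by rw [h2]
      _ = (y' * (t₁ * y'⁻¹ * t₁⁻¹))⁻¹ := by group
  · rw [hfy]
    exact sq_ne_one_of_mem_zpowers hc3 hw_mem hw1
  · rw [hfy]
    exact Subgroup.mul_mem _ hw_mem hw_mem

end Cfsg.Agent.Lib.Helper21_S4Lift
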