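import Mathlib
import Cfsg.Agent.S5299
import Cfsg.Agent.Lib.Helper51_Offender

/-!
Helper library (helper72): a criterion for the symmetric group of degree four to be involved in a
finite group.

`involves_S4`: a subgroup `W` of order four, a subgroup `D` normalizing `W` with `W ∩ D = 1`, an
element `c ∈ D` of odd order not centralizing `W` and an element `n ∈ D` inverting `c`: then
`W D` acts on the four cosets of `D` as the full symmetric group.
-/

set_option autoImplicit false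

namespace Cfsg.Agent.Lib.Helper72_S4Section

open Cfsg.Agent.Lib.Helper51_Offender

/-- an element inverting an element which is not of order `≤ 2` has even order -/
theorem even_orderOf_of_inverts {H : Type*} [Group H] [Finite H] {ν γ : H}
    (h : ν * γ * ν⁻¹ = γ⁻¹) (hγ : γ * γ ≠ 1) : Even (orderOf ν) := by
  by_contra hodd
  rw [Nat.not_even_iff_odd] at hodd
  obtain ⟨i, hi⟩ := hodd
  have h2 : Commute (ν ^ 2) γ := by
    have e : ν ^ 2 * γ * (ν ^ 2)⁻¹ = γ := by
      have : ν ^ 2 * γ * (ν ^ 2)⁻¹ = ν * (ν * γ * ν⁻¹) * ν⁻¹ := by rw [pow_two]; group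
      rw [this, h]
      have : ν * γ⁻¹ * ν⁻¹ = (ν * γ * ν⁻¹)⁻¹ := by group
      rw [this, h, inv_inv]
    show ν ^ 2 * γ = γ * ν ^ 2
    calc ν ^ 2 * γ = (ν ^ 2 * γ * (ν ^ 2)⁻¹) * ν ^ 2 := by group
      _ = γ * ν ^ 2 := by rw [e]
  have h3 : Commute ((ν ^ 2) ^ i) γ := h2.pow_left i
  have h4 : ν * (ν ^ 2) ^ i = 1 := by
    rw [← pow_mul, ← pow_succ', ← hi]
    exact pow_orderOf_eq_one ν
  have h5 : ν = ((ν ^ 2) ^ i)⁻¹ := eq_inv_of_mul_eq_one_left h4
  have h6 : Commute ν γ := by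
    rw [h5]; exact h3.inv_left
  apply hγ
  have h7 : ν * γ * ν⁻¹ = γ := by
    rw [h6.eq]; group
  rw [h7] at h
  calc γ * γ = γ * γ⁻¹ := by rw [← h]
    _ = 1 := mul_inv_cancel γ

theorem involves_S4 {G : Type*} [Group G] [Finite G] (W D : Subgroup G)
    (hDW : D ≤ Subgroup.normalizer (W : Set G)) (hdisj : W ⊓ D = ⊥) (hW4 : Nat.card W = 4)
    (c n : G) (hc : c ∈ D) (hn : n ∈ D) (hodd : Odd (orderOf c))
    (hcW : ∃ w ∈ W, c * w ≠ w * c) (hinv : n * c * n⁻¹ = c⁻¹) :
    Cfsg.Involves (Equiv.Perm (Fin 4)) G := by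
  classical
  set M : Subgroup G := W ⊔ D with hM
  have hWM : W ≤ M := le_sup_left
  have hDM : D ≤ M := le_sup_right
  set H₀ : Subgroup M := D.subgroupOf M with hH₀
  let Ω := M ⧸ H₀
  let α : M →* Equiv.Perm Ω := MulAction.toPermHom M Ω
  -- the number of cosets
  have hidx : H₀.index = 4 := by
    have h1 := card_sup_mul_card_inf W D hDW
    rw [hdisj, Subgroup.card_bot, mul_one, hW4] at h1
    have h2 := card_mul_relIndex hDM
    rw [← hM] at h1
    rw [h1] at h2
    have hpos : 0 < Nat.card D := Nat.card_pos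
    have h3 : Nat.card D * D.relIndex M = Nat.card D * 4 := by rw [h2]; ring
    exact Nat.eq_of_mul_eq_mul_left hpos h3
  have hΩ : Nat.card Ω = 4 := hidx
  -- elements of `M`
  set cM : M := ⟨c, hDM hc⟩ with hcM
  set nM : M := ⟨n, hDM hn⟩ with hnM
  have hcH : cM ∈ H₀ := by rw [hH₀, Subgroup.mem_subgroupOf]; exact hc
  have hnH : nM ∈ H₀ := by rw [hH₀, Subgroup.mem_subgroupOf]; exact hn
  -- `c` acts nontrivially
  have hαc : α cM ≠ 1 := by
    obtain ⟨w, hw, hcw⟩ := hcW
    intro h1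
    apply hcw
    set wM : M := ⟨w, hWM hw⟩ with hwM
    have h2 : α cM (QuotientGroup.mk wM : Ω) = (QuotientGroup.mk wM : Ω) := by rw [h1]; rfl
    have h3 : (QuotientGroup.mk (cM * wM) : Ω) = (QuotientGroup.mk wM : Ω) := h2
    rw [QuotientGroup.eq, hH₀, Subgroup.mem_subgroupOf] at h3
    have h4 : (c * w)⁻¹ * w ∈ D := h3
    have h5 : (c * w)⁻¹ * w * c ∈ D := D.mul_mem h4 hc
    have h6 : c⁻¹ * w * c⁻¹⁻¹ ∈ W :=
      (Subgroup.mem_normalizer_iff.mp (hDW (D.inv_mem hc)) w).mp hw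
    have h7 : (c * w)⁻¹ * w * c ∈ W := by
      have e : (c * w)⁻¹ * w * c = w⁻¹ * (c⁻¹ * w * c⁻¹⁻¹) := by group
      rw [e]
      exact W.mul_mem (W.inv_mem hw) h6
    have h8 : (c * w)⁻¹ * w * c ∈ W ⊓ D := ⟨h7, h5⟩
    rw [hdisj, Subgroup.mem_bot] at h8
    calc c * w = c * w * ((c * w)⁻¹ * w * c) := by rw [h8, mul_one]
      _ = w * c := by group
  -- orders
  have hoddα : Odd (orderOf (α cM)) := by
    have h1 : orderOf (α cM) ∣ orderOf cM := orderOf_map_dvd α cM
    have h2 : orderOf cM = orderOf c := Subgroup.orderOf_mk c (hDM hc)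
    rw [h2] at h1
    exact Odd.of_dvd_nat hodd h1
  have hαc2 : α cM * α cM ≠ 1 := by
    intro h1
    have h2 : orderOf (α cM) ∣ 2 := orderOf_dvd_of_pow_eq_one (by rw [pow_two]; exact h1)
    have h3 : orderOf (α cM) = 1 := by
      rcases (Nat.dvd_prime Nat.prime_two).mp h2 with h | h
      · exact h
      · rw [h] at hoddα; exact absurd hoddα (by decide)
    exact hαc (orderOf_eq_one_iff.mp h3)
  have hinvα : α nM * α cM * (α nM)⁻¹ = (α cM)⁻¹ := by
    rw [← map_inv, ← map_mul, ← map_mul, ← map_inv]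
    congr 1
    apply Subtype.ext
    show n * c * n⁻¹ = c⁻¹
    exact hinv
  have hevenα : Even (orderOf (α nM)) := even_orderOf_of_inverts hinvα hαc2
  -- the image of `H₀`
  set S : Subgroup (Equiv.Perm Ω) := H₀.map α with hS
  have hcS : α cM ∈ S := ⟨cM, hcH, rfl⟩
  have hnS : α nM ∈ S := ⟨nM, hnH, rfl⟩
  have h2S : 2 ∣ Nat.card S :=
    (even_iff_two_dvd.mp hevenα).trans (Subgroup.orderOf_dvd_natCard S hnS)
  have hne1 : orderOf (α cM) ≠ 1 := fun h => hαc (orderOf_eq_one_iff.mp h)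
  set q := (orderOf (α cM)).minFac with hq
  have hqp : q.Prime := Nat.minFac_prime hne1
  have hqd : q ∣ orderOf (α cM) := Nat.minFac_dvd _
  have hqodd : Odd q := Odd.of_dvd_nat hoddα hqd
  have hqS : q ∣ Nat.card S := hqd.trans (Subgroup.orderOf_dvd_natCard S hcS)
  have hq3 : 3 ≤ q := by
    have h2 := hqp.two_le
    rcases Nat.lt_or_ge q 3 with h | h
    · have : q = 2 := by omega
      rw [this] at hqodd
      exact absurd hqodd (by decide)
    · exact h
  have hcop : Nat.Coprime 2 q := by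
    rw [Nat.coprime_primes Nat.prime_two hqp]
    omega
  have h2qS : 2 * q ∣ Nat.card S := Nat.Coprime.mul_dvd_of_dvd_of_dvd hcop h2S hqS
  have h6S : 6 ≤ Nat.card S := by
    have hpos : 0 < Nat.card S := Nat.card_pos
    have := Nat.le_of_dvd hpos h2qS
    omega
  -- the order of the image
  have hker : α.ker ≤ H₀ := by
    have h1 : H₀.normalCore = α.ker := Subgroup.normalCore_eq_ker H₀
    rw [← h1]
    exact Subgroup.normalCore_le H₀
  have hrange : Nat.card α.range = Nat.card S * 4 := by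
    rw [← Subgroup.index_ker, ← Subgroup.relIndex_mul_index hker, Subgroup.relIndex_ker, hidx]
  have hperm : Nat.card (Equiv.Perm Ω) = 24 := by
    rw [Nat.card_perm, hΩ]; rfl
  have htop : α.range = ⊤ := by
    apply Subgroup.eq_top_of_le_card
    rw [hperm, hrange]
    omega
  have hsurj : Function.Surjective α := MonoidHom.range_eq_top.mp htop
  let e : Ω ≃ Fin 4 := Finite.equivFinOfCardEq hΩ
  rw [Cfsg.Agent.S5299.involves_iff]
  refine ⟨M, e.permCongrHom.toMonoidHom.comp α, ?_⟩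
  exact e.permCongrHom.surjective.comp hsurj

end Cfsg.Agent.Lib.Helper72_S4Section
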