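import Mathlib
import Cfsg.Agent.S5299
import Cfsg.Agent.Lib.Helper21_S4Lift
import Cfsg.Agent.Lib.Helper72_S4Section
import Cfsg.Agent.Lib.Helper32_PGroup
import Cfsg.Agent.Lib.Helper51_Offender

/-!
Helper library (helper21): a `2`-subgroup `T` normalized by a `2`-element `t` and a `3`-element
`y` with `t y t⁻¹ = y⁻¹`, `y ∉ C(T)`, `y ^ 3 ∈ C(T)` forces the symmetric group of degree four to
be involved (`core`).
-/

set_option autoImplicit false

universe u

namespace Cfsg.Agent.Lib.Helper21_S4Core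

open Cfsg.Agent.Lib.Helper24_CoprimeAction Cfsg.Agent.Lib.Helper21_S4Lift
open scoped commutatorElement

section basic
variable {G : Type*} [Group G]

/-- one-sided criterion for membership in the normalizer, finite case -/
theorem mem_normalizer_of_conj_mem [Finite G] (H : Subgroup G) (g : G)
    (h : ∀ x ∈ H, g * x * g⁻¹ ∈ H) : g ∈ Subgroup.normalizer (H : Set G) := by
  rw [mem_normalizer_iff_map_conj]
  have hle : H.map (MulAut.conj g).toMonoidHom ≤ H := by
    rintro _ ⟨x, hx, rfl⟩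
    exact h x hx
  apply Subgroup.eq_of_le_of_card_ge hle
  rw [Subgroup.card_map_of_injective (MulAut.conj g).injective]

theorem conj_mem_of_mem_normalizer {H : Subgroup G} {g : G}
    (hg : g ∈ Subgroup.normalizer (H : Set G)) {x : G} (hx : x ∈ H) : g * x * g⁻¹ ∈ H :=
  (Subgroup.mem_normalizer_iff.1 hg x).1 hx

/-- an element which is both a `2`-element and a `3`-element is trivial -/
theorem eq_one_of_pow_two_pow_three {x : G} {a b : ℕ} (h2 : x ^ (2 ^ a) = 1)
    (h3 : x ^ (3 ^ b) = 1) : x = 1 := by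
  have h1 : orderOf x ∣ Nat.gcd (2 ^ a) (3 ^ b) :=
    Nat.dvd_gcd (orderOf_dvd_of_pow_eq_one h2) (orderOf_dvd_of_pow_eq_one h3)
  have hc : Nat.Coprime (2 ^ a) (3 ^ b) := Nat.Coprime.pow a b (by norm_num)
  rw [hc.gcd_eq_one, Nat.dvd_one] at h1
  exact orderOf_eq_one_iff.1 h1

theorem mem_zpowers_of_mul_self {v x : G} (hv : v * v = 1) (hx : x ∈ Subgroup.zpowers v) :
    x = 1 ∨ x = v := by
  obtain ⟨k, rfl⟩ := Subgroup.mem_zpowers_iff.1 hx
  have h2 : v ^ (2 : ℤ) = 1 := by
    rw [show (2 : ℤ) = 1 + 1 by norm_num, zpow_add, zpow_one, hv]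
  have hk : k = 2 * (k / 2) + k % 2 := (Int.mul_ediv_add_emod k 2).symm
  rw [hk, zpow_add, zpow_mul, h2, one_zpow, one_mul]
  rcases Int.emod_two_eq_zero_or_one k with h | h
  · left; rw [h, zpow_zero]
  · right; rw [h, zpow_one]

/-- from inversion to the conjugation of the inverse -/
theorem inv_conj_of_inverts {t y : G} (h : t * y * t⁻¹ = y⁻¹) : t * y⁻¹ * t⁻¹ = y := by
  have : t * y⁻¹ * t⁻¹ = (t * y * t⁻¹)⁻¹ := by group
  rw [this, h, inv_inv]

end basic

section involves
variable {A : Type*} [Group A] {G : Type*} [Group G]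

theorem involves_of_subgroup' (M : Subgroup G) (h : Cfsg.Involves A M) : Cfsg.Involves A G := by
  rw [Cfsg.Agent.S5299.involves_iff] at h ⊢
  obtain ⟨K, f, hf⟩ := h
  refine ⟨K.map M.subtype,
    f.comp (K.equivMapOfInjective M.subtype M.subtype_injective).symm.toMonoidHom, ?_⟩
  exact hf.comp (MulEquiv.surjective _)

theorem involves_of_surjective' {G' : Type*} [Group G'] (π : G →* G')
    (hπ : Function.Surjective π) (h : Cfsg.Involves A G') : Cfsg.Involves A G := by
  rw [Cfsg.Agent.S5299.involves_iff] at h ⊢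
  obtain ⟨K, f, hf⟩ := h
  refine ⟨K.comap π, f.comp (π.subgroupComap K), ?_⟩
  exact hf.comp (π.subgroupComap_surjective_of_surjective K hπ)

theorem involves_of_equiv' {B : Type*} [Group B] (e : A ≃* B) (h : Cfsg.Involves A G) :
    Cfsg.Involves B G := by
  rw [Cfsg.Agent.S5299.involves_iff] at h ⊢
  obtain ⟨K, f, hf⟩ := h
  exact ⟨K, e.toMonoidHom.comp f, e.surjective.comp hf⟩

end involves


section base
variable {G : Type*} [Group G] [Finite G]

/-- a `2`-element of `N(T)` fixes an involution of the non-identity `2`-subgroup `T` -/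
theorem exists_fixed_involution (T : Subgroup G) (hT : IsPGroup 2 T) (t : G)
    (htN : t ∈ Subgroup.normalizer (T : Set G)) (ht2 : ∃ k : ℕ, orderOf t = 2 ^ k)
    (hT1 : T ≠ ⊥) : ∃ v ∈ T, v ≠ 1 ∧ v * v = 1 ∧ t * v = v * t := by
  classical
  haveI : Fact (Nat.Prime 2) := ⟨Nat.prime_two⟩
  obtain ⟨k, hk⟩ := ht2
  have hZ : IsPGroup 2 (Subgroup.zpowers t) := by
    apply IsPGroup.of_card (n := k)
    rw [Nat.card_zpowers, hk]
  set P : Subgroup G := T ⊔ Subgroup.zpowers t with hP
  have hPp : IsPGroup 2 P :=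
    IsPGroup.to_sup_of_normal_left' hT hZ (by rw [Subgroup.zpowers_le]; exact htN)
  have hPN : P ≤ Subgroup.normalizer (T : Set G) :=
    sup_le Subgroup.le_normalizer (by rw [Subgroup.zpowers_le]; exact htN)
  haveI : (T.subgroupOf P).Normal := Subgroup.normal_subgroupOf_of_le_normalizer hPN
  have hN1 : T.subgroupOf P ≠ ⊥ := by
    intro h
    apply hT1
    rw [Subgroup.eq_bot_iff_forall]
    intro w hw
    have h1 : (⟨w, (le_sup_left : T ≤ P) hw⟩ : P) ∈ T.subgroupOf P := by
      rw [Subgroup.mem_subgroupOf]; exact hw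
    rw [h, Subgroup.mem_bot] at h1
    exact congrArg Subtype.val h1
  obtain ⟨z, hzN, hzc, hz1⟩ :=
    Cfsg.Agent.Lib.Helper32_PGroup.exists_mem_center_of_normal hPp (T.subgroupOf P) hN1
  have hzT : (z : G) ∈ T := by rwa [Subgroup.mem_subgroupOf] at hzN
  have hz1' : (z : G) ≠ 1 := fun h => hz1 (Subtype.ext h)
  have hzt : t * (z : G) = (z : G) * t := by
    have htP : t ∈ P := (le_sup_right : Subgroup.zpowers t ≤ P) (Subgroup.mem_zpowers t)
    have := Subgroup.mem_center_iff.1 hzc ⟨t, htP⟩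
    exact congrArg Subtype.val this
  -- an involution among the powers of `z`
  have hex : ∃ j : ℕ, (z : G) ^ (2 ^ j) = 1 := by
    obtain ⟨j, hj⟩ := hT ⟨(z : G), hzT⟩
    exact ⟨j, by simpa using congrArg Subtype.val hj⟩
  have hj0 : Nat.find hex ≠ 0 := by
    intro h0
    have := Nat.find_spec hex
    rw [h0, pow_zero, pow_one] at this
    exact hz1' this
  obtain ⟨i, hi⟩ := Nat.exists_eq_succ_of_ne_zero hj0
  refine ⟨(z : G) ^ (2 ^ i), T.pow_mem hzT _, ?_, ?_, ?_⟩
  · exact Nat.find_min hex (by rw [hi]; exact Nat.lt_succ_self i)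
  · have := Nat.find_spec hex
    rw [hi, pow_succ, pow_mul, pow_two] at this
    exact this
  · have hc : Commute t (z : G) := hzt
    exact (hc.pow_right _).eq


/-- the case of a fixed-point-free action on an abelian `2`-subgroup -/
theorem base_case (T : Subgroup G) (hT : IsPGroup 2 T) (t y : G)
    (htN : t ∈ Subgroup.normalizer (T : Set G)) (hyN : y ∈ Subgroup.normalizer (T : Set G))
    (ht2 : ∃ k : ℕ, orderOf t = 2 ^ k) (hy3 : ∃ k : ℕ, orderOf y = 3 ^ k)
    (hinv : t * y * t⁻¹ = y⁻¹) (hy3C : y ^ 3 ∈ Subgroup.centralizer (T : Set G))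
    (hab : ∀ a ∈ T, ∀ b ∈ T, a * b = b * a)
    (hfix : ∀ w ∈ T, y * w = w * y → w = 1) (hT1 : T ≠ ⊥) :
    Cfsg.Involves (Equiv.Perm (Fin 4)) G := by
  classical
  obtain ⟨v, hvT, hv1, hvv, htv⟩ := exists_fixed_involution T hT t htN ht2 hT1
  obtain ⟨ky, hky⟩ := hy3
  -- the conjugates of `v`
  obtain ⟨v₁, hv₁⟩ : ∃ z, z = y * v * y⁻¹ := ⟨_, rfl⟩
  obtain ⟨v₂, hv₂⟩ : ∃ z, z = y * v₁ * y⁻¹ := ⟨_, rfl⟩
  have hv₁T : v₁ ∈ T := by rw [hv₁]; exact conj_mem_of_mem_normalizer hyN hvT
  have hv₂T : v₂ ∈ T := by rw [hv₂]; exact conj_mem_of_mem_normalizer hyN hv₁T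
  have hyyy : y ^ 3 = y * y * y := by rw [pow_succ, pow_two]
  have hy3v : y * y * y * v * (y * y * y)⁻¹ = v := by
    have := (Subgroup.mem_centralizer_iff.1 hy3C) v hvT
    rw [hyyy] at this
    rw [← this]; group
  have hv₃ : y * v₂ * y⁻¹ = v := by
    rw [hv₂, hv₁]
    calc y * (y * (y * v * y⁻¹) * y⁻¹) * y⁻¹ = y * y * y * v * (y * y * y)⁻¹ := by group
      _ = v := hy3v
  have hprod : v * v₁ * v₂ = 1 := by
    apply hfix _ (T.mul_mem (T.mul_mem hvT hv₁T) hv₂T)
    have h1 : y * (v * v₁ * v₂) * y⁻¹ = v₁ * v₂ * v := by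
      calc y * (v * v₁ * v₂) * y⁻¹ = (y * v * y⁻¹) * (y * v₁ * y⁻¹) * (y * v₂ * y⁻¹) := by group
        _ = v₁ * v₂ * v := by rw [hv₃, ← hv₁, ← hv₂]
    have h2 : v₁ * v₂ * v = v * v₁ * v₂ := by
      rw [hab _ (T.mul_mem hv₁T hv₂T) _ hvT, mul_assoc]
    rw [h2] at h1
    calc y * (v * v₁ * v₂) = (y * (v * v₁ * v₂) * y⁻¹) * y := by group
      _ = v * v₁ * v₂ * y := by rw [h1]
  have hv₂eq : v₂ = (v * v₁)⁻¹ := eq_inv_of_mul_eq_one_right hprod
  have hv₁v₁ : v₁ * v₁ = 1 := by
    rw [hv₁]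
    calc y * v * y⁻¹ * (y * v * y⁻¹) = y * (v * v) * y⁻¹ := by group
      _ = 1 := by rw [hvv]; group
  have hv₁ne : v₁ ≠ v := by
    intro h
    apply hv1
    apply hfix v hvT
    calc y * v = (y * v * y⁻¹) * y := by group
      _ = v * y := by rw [← hv₁, h]
  -- the four-group
  set W : Subgroup G := Subgroup.zpowers v ⊔ Subgroup.zpowers v₁ with hW
  have hvW : v ∈ W := (le_sup_left : Subgroup.zpowers v ≤ W) (Subgroup.mem_zpowers v)
  have hv₁W : v₁ ∈ W := (le_sup_right : Subgroup.zpowers v₁ ≤ W) (Subgroup.mem_zpowers v₁)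
  have hv₂W : v₂ ∈ W := by rw [hv₂eq]; exact W.inv_mem (W.mul_mem hvW hv₁W)
  have hWT : W ≤ T := sup_le (by rw [Subgroup.zpowers_le]; exact hvT)
    (by rw [Subgroup.zpowers_le]; exact hv₁T)
  have hWinv : ∀ g : G, g * v * g⁻¹ ∈ W → g * v₁ * g⁻¹ ∈ W →
      g ∈ Subgroup.normalizer (W : Set G) := by
    intro g h1 h2
    apply mem_normalizer_of_conj_mem
    have hle : W ≤ W.comap (MulAut.conj g).toMonoidHom := by
      apply sup_le
      · rw [Subgroup.zpowers_le]; exact h1
      · rw [Subgroup.zpowers_le]; exact h2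
    intro x hx
    exact hle hx
  have hyW : y ∈ Subgroup.normalizer (W : Set G) :=
    hWinv y (by rw [← hv₁]; exact hv₁W) (by rw [← hv₂]; exact hv₂W)
  have htW : t ∈ Subgroup.normalizer (W : Set G) := by
    apply hWinv t
    · have : t * v * t⁻¹ = v := by rw [htv]; group
      rw [this]; exact hvW
    · have h1 : t * v₁ * t⁻¹ = y⁻¹ * v * y := by
        have e1 : t * v * t⁻¹ = v := by rw [htv]; group
        rw [hv₁]
        calc t * (y * v * y⁻¹) * t⁻¹ = (t * y * t⁻¹) * (t * v * t⁻¹) * (t * y * t⁻¹)⁻¹ := by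
              group
          _ = y⁻¹ * v * y := by rw [hinv, e1, inv_inv]
      have h2 : y⁻¹ * v * y = v₂ := by
        rw [← hv₃]; group
      rw [h1, h2]; exact hv₂W
  have hW4 : Nat.card W = 4 := by
    have hcv : Nat.card (Subgroup.zpowers v) = 2 := by
      rw [Nat.card_zpowers]
      exact orderOf_eq_prime (by rw [pow_two]; exact hvv) hv1
    have hv₁1 : v₁ ≠ 1 := by
      intro h
      apply hv1
      have : v = y⁻¹ * v₁ * y := by rw [hv₁]; group
      rw [this, h]; group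
    have hcv₁ : Nat.card (Subgroup.zpowers v₁) = 2 := by
      rw [Nat.card_zpowers]
      exact orderOf_eq_prime (by rw [pow_two]; exact hv₁v₁) hv₁1
    have hnorm : Subgroup.zpowers v₁ ≤ Subgroup.normalizer ((Subgroup.zpowers v : Subgroup G) : Set G) := by
      rw [Subgroup.zpowers_le]
      apply mem_normalizer_of_conj_mem
      intro x hx
      have hxT : x ∈ T := hWT ((le_sup_left : Subgroup.zpowers v ≤ W) hx)
      have : v₁ * x * v₁⁻¹ = x := by rw [hab _ hv₁T _ hxT]; group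
      rw [this]; exact hx
    have hinf : Subgroup.zpowers v ⊓ Subgroup.zpowers v₁ = ⊥ := by
      rw [Subgroup.eq_bot_iff_forall]
      intro x hx
      obtain ⟨hx1, hx2⟩ := Subgroup.mem_inf.1 hx
      rcases mem_zpowers_of_mul_self hvv hx1 with h | h
      · exact h
      · rcases mem_zpowers_of_mul_self hv₁v₁ hx2 with h' | h'
        · exact h'
        · exact absurd (h'.symm.trans h) hv₁ne
    have := Cfsg.Agent.Lib.Helper51_Offender.card_sup_mul_card_inf _ _ hnorm
    rw [hinf, Subgroup.card_bot, mul_one, hcv, hcv₁] at this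
    exact this
  -- the complement
  set D : Subgroup G := Subgroup.zpowers y ⊔ Subgroup.zpowers t with hD
  have hyD : y ∈ D := (le_sup_left : Subgroup.zpowers y ≤ D) (Subgroup.mem_zpowers y)
  have htD : t ∈ D := (le_sup_right : Subgroup.zpowers t ≤ D) (Subgroup.mem_zpowers t)
  have hDW : D ≤ Subgroup.normalizer (W : Set G) :=
    sup_le (by rw [Subgroup.zpowers_le]; exact hyW) (by rw [Subgroup.zpowers_le]; exact htW)
  have hDy : D ≤ Subgroup.normalizer ((Subgroup.zpowers y : Subgroup G) : Set G) :=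
    sup_le Subgroup.le_normalizer
      (by rw [Subgroup.zpowers_le]; exact mem_normalizer_zpowers_of_inverts hinv)
  have hdisj : W ⊓ D = ⊥ := by
    rw [Subgroup.eq_bot_iff_forall]
    intro d hd
    obtain ⟨hd1, hd2⟩ := Subgroup.mem_inf.1 hd
    have hdT : d ∈ T := hWT hd1
    apply hfix d hdT
    set x := d * y * d⁻¹ * y⁻¹ with hx
    have hxy : x ∈ Subgroup.zpowers y :=
      (Subgroup.zpowers y).mul_mem
        (conj_mem_of_mem_normalizer (hDy hd2) (Subgroup.mem_zpowers y))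
        ((Subgroup.zpowers y).inv_mem (Subgroup.mem_zpowers y))
    have hxT : x ∈ T := by
      have : x = d * (y * d⁻¹ * y⁻¹) := by rw [hx]; group
      rw [this]
      exact T.mul_mem hdT (conj_mem_of_mem_normalizer hyN (T.inv_mem hdT))
    have hx3 : x ^ (3 ^ ky) = 1 := by
      obtain ⟨m, hm⟩ := Subgroup.mem_zpowers_iff.1 hxy
      rw [← hm, ← zpow_natCast, ← zpow_mul, mul_comm, zpow_mul, zpow_natCast, ← hky,
        pow_orderOf_eq_one, one_zpow]
    obtain ⟨j, hj⟩ := hT ⟨x, hxT⟩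
    have hx2 : x ^ (2 ^ j) = 1 := by simpa using congrArg Subtype.val hj
    have hx1 : x = 1 := eq_one_of_pow_two_pow_three hx2 hx3
    calc y * d = (d * y * d⁻¹ * y⁻¹)⁻¹ * d * y := by group
      _ = d * y := by rw [← hx, hx1]; group
  have hodd : Odd (orderOf y) := by
    rw [hky]; exact Odd.pow (by decide)
  have hcW : ∃ w ∈ W, y * w ≠ w * y := ⟨v, hvW, fun h => hv1 (hfix v hvT h)⟩
  exact Cfsg.Agent.Lib.Helper72_S4Section.involves_S4 W D hDW hdisj hW4 y t hyD htD hodd hcW hinv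


/-- an element of `T` whose commutator with `y` is fixed by `y` is itself fixed by `y` -/
theorem comm_of_comm_comm (T : Subgroup G) (hT : IsPGroup 2 T) (y : G)
    (hyN : y ∈ Subgroup.normalizer (T : Set G))
    (hy3C : y ^ 3 ∈ Subgroup.centralizer (T : Set G)) (w : G) (hw : w ∈ T)
    (hc : (y * w * y⁻¹ * w⁻¹) * y = y * (y * w * y⁻¹ * w⁻¹)) : w * y = y * w := by
  obtain ⟨c, hcdef⟩ : ∃ c, c = y * w * y⁻¹ * w⁻¹ := ⟨_, rfl⟩
  rw [← hcdef] at hc
  have hcT : c ∈ T := by
    rw [hcdef]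
    exact T.mul_mem (conj_mem_of_mem_normalizer hyN hw) (T.inv_mem hw)
  have h1 : y * w * y⁻¹ = c * w := by rw [hcdef]; group
  have hyc : y * c * y⁻¹ = c := by rw [← hc]; group
  have h2 : y * (c * w) * y⁻¹ = c * (c * w) := by
    calc y * (c * w) * y⁻¹ = (y * c * y⁻¹) * (y * w * y⁻¹) := by group
      _ = c * (c * w) := by rw [hyc, h1]
  have h3 : y * (c * (c * w)) * y⁻¹ = c * (c * (c * w)) := by
    calc y * (c * (c * w)) * y⁻¹ = (y * c * y⁻¹) * (y * (c * w) * y⁻¹) := by group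
      _ = c * (c * (c * w)) := by rw [hyc, h2]
  have hyyy : y ^ 3 = y * y * y := by rw [pow_succ, pow_two]
  have h4 : y * y * y * w * (y * y * y)⁻¹ = c * (c * (c * w)) := by
    calc y * y * y * w * (y * y * y)⁻¹ = y * (y * (y * w * y⁻¹) * y⁻¹) * y⁻¹ := by group
      _ = c * (c * (c * w)) := by rw [h1, h2, h3]
  have h5 : y * y * y * w * (y * y * y)⁻¹ = w := by
    have := (Subgroup.mem_centralizer_iff.1 hy3C) w hw
    rw [hyyy] at this
    rw [← this]; group
  have hc3 : c ^ (3 ^ 1) = 1 := by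
    rw [pow_one, pow_succ, pow_two]
    calc c * c * c = (c * (c * (c * w))) * w⁻¹ := by group
      _ = 1 := by rw [← h4, h5]; group
  obtain ⟨j, hj⟩ := hT ⟨c, hcT⟩
  have hc2 : c ^ (2 ^ j) = 1 := by simpa using congrArg Subtype.val hj
  have hc1 : c = 1 := eq_one_of_pow_two_pow_three hc2 hc3
  rw [hc1] at hcdef
  calc w * y = (y * w * y⁻¹ * w⁻¹)⁻¹ * (y * w) := by group
    _ = y * w := by rw [← hcdef]; group

theorem exists_orderOf_map {X Y : Type*} [Group X] [Group Y] (f : X →* Y) (x : X) {p : ℕ}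
    (hp : p.Prime) (h : ∃ k : ℕ, orderOf x = p ^ k) : ∃ k : ℕ, orderOf (f x) = p ^ k := by
  obtain ⟨k, hk⟩ := h
  have h1 : orderOf (f x) ∣ p ^ k := hk ▸ orderOf_map_dvd f x
  obtain ⟨i, _, hi⟩ := (Nat.dvd_prime_pow hp).1 h1
  exact ⟨i, hi⟩

end base

section core

theorem core_aux (n : ℕ) : ∀ {G : Type u} [Group G] [Finite G] (T : Subgroup G),
    Nat.card T = n → IsPGroup 2 T → ∀ t y : G,
    t ∈ Subgroup.normalizer (T : Set G) → y ∈ Subgroup.normalizer (T : Set G) →
    (∃ k : ℕ, orderOf t = 2 ^ k) → (∃ k : ℕ, orderOf y = 3 ^ k) →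
    t * y * t⁻¹ = y⁻¹ → y ∉ Subgroup.centralizer (T : Set G) →
    y ^ 3 ∈ Subgroup.centralizer (T : Set G) → Cfsg.Involves (Equiv.Perm (Fin 4)) G := by
  induction n using Nat.strong_induction_on with
  | _ n ih =>
  intro G _ _ T hn hT t y htN hyN ht2 hy3 hinv hyC hy3C
  classical
  haveI : Fact (Nat.Prime 2) := ⟨Nat.prime_two⟩
  by_cases hb : ∃ T₁ : Subgroup G, T₁ < T ∧ t ∈ Subgroup.normalizer (T₁ : Set G) ∧
      y ∈ Subgroup.normalizer (T₁ : Set G) ∧ y ∉ Subgroup.centralizer (T₁ : Set G)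
  · obtain ⟨T₁, hlt, h1, h2, h3⟩ := hb
    have hcard : Nat.card T₁ < n := by
      rw [← hn]
      by_contra hge
      rw [not_lt] at hge
      exact lt_irrefl _ ((Subgroup.eq_of_le_of_card_ge hlt.le hge) ▸ hlt)
    exact ih _ hcard T₁ rfl (hT.to_le hlt.le) t y h1 h2 ht2 hy3 hinv h3
      (Subgroup.centralizer_le (by exact_mod_cast hlt.le) hy3C)
  · have hb' : ∀ T₁ : Subgroup G, T₁ < T → t ∈ Subgroup.normalizer (T₁ : Set G) →
        y ∈ Subgroup.normalizer (T₁ : Set G) → y ∈ Subgroup.centralizer (T₁ : Set G) := by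
      intro T₁ h1 h2 h3
      by_contra h4
      exact hb ⟨T₁, h1, h2, h3, h4⟩
    have hT1 : T ≠ ⊥ := by
      intro h
      apply hyC
      rw [Subgroup.mem_centralizer_iff]
      intro w hw
      rw [h] at hw
      have : w = 1 := Subgroup.mem_bot.1 hw
      rw [this, one_mul, mul_one]
    set U : Subgroup G := T ⊓ Subgroup.centralizer {y} with hU
    have hUmem : ∀ w, w ∈ U ↔ w ∈ T ∧ w * y = y * w := by
      intro w; rw [hU, Subgroup.mem_inf, Subgroup.mem_centralizer_singleton_iff]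
    have hUT : U ≤ T := inf_le_left
    have hUne : U ≠ T := by
      intro h
      apply hyC
      rw [Subgroup.mem_centralizer_iff]
      intro w hw
      rw [← h] at hw
      exact ((hUmem w).1 hw).2
    have hti : t⁻¹ * y * t = y⁻¹ := by
      have := inverts_inv hinv
      rwa [inv_inv] at this
    have htU : t ∈ Subgroup.normalizer (U : Set G) := by
      apply mem_normalizer_of_conj_mem
      intro w hw
      obtain ⟨hwT, hwy⟩ := (hUmem w).1 hw
      refine (hUmem _).2 ⟨conj_mem_of_mem_normalizer htN hwT, ?_⟩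
      have hwy' : w * y⁻¹ = y⁻¹ * w := by
        have hc : Commute w y := hwy
        exact hc.inv_right.eq
      calc t * w * t⁻¹ * y = t * (w * (t⁻¹ * y * t)) * t⁻¹ := by group
        _ = t * ((t⁻¹ * y * t) * w) * t⁻¹ := by rw [hti, hwy']
        _ = y * (t * w * t⁻¹) := by group
    have hyU : y ∈ Subgroup.normalizer (U : Set G) := by
      apply mem_normalizer_of_conj_mem
      intro w hw
      obtain ⟨hwT, hwy⟩ := (hUmem w).1 hw
      have : y * w * y⁻¹ = w := by rw [← hwy]; group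
      rw [this]; exact hw
    have hlt : ⁅T, T⁆ < T := by
      haveI : Nontrivial T := (Subgroup.nontrivial_iff_ne_bot T).2 hT1
      haveI : Group.IsNilpotent T := hT.isNilpotent
      rw [← T.range_subtype, MonoidHom.range_eq_map, ← Subgroup.map_commutator,
        Subgroup.map_subtype_lt_map_subtype]
      exact Group.IsSolvable.commutator_lt_top_of_nontrivial T
    have hcomm : ⁅T, T⁆ ≤ U := by
      have h1 := hb' ⁅T, T⁆ hlt (mem_normalizer_commutator T T htN htN)
        (mem_normalizer_commutator T T hyN hyN)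
      intro x hx
      exact (hUmem x).2 ⟨hlt.le hx, (Subgroup.mem_centralizer_iff.1 h1) x hx⟩
    have hTU : T ≤ Subgroup.normalizer (U : Set G) := by
      intro w hw
      apply mem_normalizer_of_conj_mem
      intro x hx
      have h1 : ⁅w, x⁆ ∈ U := hcomm (Subgroup.commutator_mem_commutator hw (hUT hx))
      have h2 : w * x * w⁻¹ = ⁅w, x⁆ * x := by rw [commutatorElement_def]; group
      rw [h2]; exact U.mul_mem h1 hx
    by_cases hU0 : U = ⊥
    · -- the fixed-point-free case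
      apply base_case T hT t y htN hyN ht2 hy3 hinv hy3C _ _ hT1
      · intro a ha b hb
        have h1 : ⁅a, b⁆ ∈ U := hcomm (Subgroup.commutator_mem_commutator ha hb)
        rw [hU0, Subgroup.mem_bot] at h1
        exact commutatorElement_eq_one_iff_mul_comm.1 h1
      · intro w hw hyw
        have h1 : w ∈ U := (hUmem w).2 ⟨hw, hyw.symm⟩
        rw [hU0, Subgroup.mem_bot] at h1
        exact h1
    · -- the quotient by `U`
      obtain ⟨N, hN⟩ : ∃ N : Subgroup G, N = Subgroup.normalizer (U : Set G) := ⟨_, rfl⟩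
      have hUN : U ≤ N := hN ▸ Subgroup.le_normalizer
      have hTN : T ≤ N := hN ▸ hTU
      have htNU : t ∈ N := hN ▸ htU
      have hyNU : y ∈ N := hN ▸ hyU
      haveI hUn : (U.subgroupOf N).Normal :=
        Subgroup.normal_subgroupOf_of_le_normalizer (hN ▸ le_rfl)
      obtain ⟨π, hπ⟩ : ∃ π : N →* N ⧸ U.subgroupOf N, π = QuotientGroup.mk' _ := ⟨_, rfl⟩
      have hπsurj : Function.Surjective π := hπ ▸ QuotientGroup.mk'_surjective _
      have hπker : ∀ x : N, π x = 1 ↔ (x : G) ∈ U := by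
        intro x
        rw [hπ, QuotientGroup.mk'_apply, QuotientGroup.eq_one_iff, Subgroup.mem_subgroupOf]
      obtain ⟨S, hS⟩ : ∃ S : Subgroup N, S = T.subgroupOf N := ⟨_, rfl⟩
      have hSmem : ∀ x : N, x ∈ S ↔ (x : G) ∈ T := by
        intro x; rw [hS, Subgroup.mem_subgroupOf]
      have hSp : IsPGroup 2 S := hS ▸ hT.comap_subtype
      have hScard : Nat.card S = n := by
        rw [hS, card_subgroupOf_of_le hTN, hn]
      have hcard' : Nat.card (S.map π) < n := by
        rw [← hScard]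
        haveI := Fintype.ofFinite S
        haveI := Fintype.ofFinite (S.map π)
        rw [Nat.card_eq_fintype_card, Nat.card_eq_fintype_card]
        apply Fintype.card_lt_of_surjective_not_injective (π.subgroupMap S)
          (π.subgroupMap_surjective S)
        intro hinj
        apply hU0
        rw [Subgroup.eq_bot_iff_forall]
        intro u hu
        have huS : (⟨u, hUN hu⟩ : N) ∈ S := (hSmem _).2 (hUT hu)
        have h1 : π.subgroupMap S ⟨⟨u, hUN hu⟩, huS⟩ = π.subgroupMap S 1 := by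
          apply Subtype.ext
          rw [map_one]
          show π ⟨u, hUN hu⟩ = 1
          exact (hπker _).2 hu
        have h2 := hinj h1
        exact congrArg (fun z : S => ((z : N) : G)) h2
      apply involves_of_subgroup' N
      apply involves_of_surjective' π hπsurj
      have hconj : ∀ g : N, (g : G) ∈ Subgroup.normalizer (T : Set G) →
          π g ∈ Subgroup.normalizer ((S.map π : Subgroup (N ⧸ U.subgroupOf N)) : Set _) := by
        intro g hg
        apply mem_normalizer_of_conj_mem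
        rintro _ ⟨x, hx, rfl⟩
        refine ⟨g * x * g⁻¹, ?_, by simp only [map_mul, map_inv]⟩
        apply (hSmem _).2
        exact conj_mem_of_mem_normalizer hg ((hSmem x).1 hx)
      apply ih _ hcard' (S.map π) rfl (hSp.map π) (π ⟨t, htNU⟩) (π ⟨y, hyNU⟩)
        (hconj ⟨t, htNU⟩ htN) (hconj ⟨y, hyNU⟩ hyN)
      · apply exists_orderOf_map π _ Nat.prime_two
        rw [Subgroup.orderOf_mk]; exact ht2
      · apply exists_orderOf_map π _ Nat.prime_three
        rw [Subgroup.orderOf_mk]; exact hy3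
      · rw [← map_inv, ← map_mul, ← map_inv, ← map_mul]
        congr 1
        exact Subtype.ext hinv
      · intro hcen
        apply hUne
        apply le_antisymm hUT
        intro w hw
        have hwS : (⟨w, hTN hw⟩ : N) ∈ S := (hSmem _).2 hw
        have h1 := (Subgroup.mem_centralizer_iff.1 hcen) (π ⟨w, hTN hw⟩) ⟨_, hwS, rfl⟩
        have h2 : π (⟨y, hyNU⟩ * ⟨w, hTN hw⟩ * ⟨y, hyNU⟩⁻¹ * ⟨w, hTN hw⟩⁻¹) = 1 := by
          simp only [map_mul, map_inv]
          rw [← h1]; group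
        have h3 : y * w * y⁻¹ * w⁻¹ ∈ U := (hπker _).1 h2
        have h4 := ((hUmem _).1 h3).2
        exact (hUmem w).2 ⟨hw, comm_of_comm_comm T hT y hyN hy3C w hw h4⟩
      · rw [Subgroup.mem_centralizer_iff]
        rintro _ ⟨x, hx, rfl⟩
        rw [← map_pow, ← map_mul, ← map_mul]
        congr 1
        apply Subtype.ext
        exact (Subgroup.mem_centralizer_iff.1 hy3C) x ((hSmem x).1 hx)


/-- **Core criterion.** A `2`-subgroup `T` normalized by a `2`-element `t` and a `3`-element `y`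
with `t y t⁻¹ = y⁻¹`, `y ∉ C(T)` and `y ^ 3 ∈ C(T)`: the symmetric group of degree four is
involved. -/
theorem core {G : Type u} [Group G] [Finite G] (T : Subgroup G) (hT : IsPGroup 2 T) (t y : G)
    (htN : t ∈ Subgroup.normalizer (T : Set G)) (hyN : y ∈ Subgroup.normalizer (T : Set G))
    (ht2 : ∃ k : ℕ, orderOf t = 2 ^ k) (hy3 : ∃ k : ℕ, orderOf y = 3 ^ k)
    (hinv : t * y * t⁻¹ = y⁻¹) (hyC : y ∉ Subgroup.centralizer (T : Set G))
    (hy3C : y ^ 3 ∈ Subgroup.centralizer (T : Set G)) :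
    Cfsg.Involves (Equiv.Perm (Fin 4)) G :=
  core_aux _ T rfl hT t y htN hyN ht2 hy3 hinv hyC hy3C

/-- the same without the hypothesis `y ^ 3 ∈ C(T)` -/
theorem core' {G : Type u} [Group G] [Finite G] (T : Subgroup G) (hT : IsPGroup 2 T) (t y : G)
    (htN : t ∈ Subgroup.normalizer (T : Set G)) (hyN : y ∈ Subgroup.normalizer (T : Set G))
    (ht2 : ∃ k : ℕ, orderOf t = 2 ^ k) (hy3 : ∃ k : ℕ, orderOf y = 3 ^ k)
    (hinv : t * y * t⁻¹ = y⁻¹) (hyC : y ∉ Subgroup.centralizer (T : Set G)) :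
    Cfsg.Involves (Equiv.Perm (Fin 4)) G := by
  classical
  obtain ⟨k, hk⟩ := hy3
  -- the last power of `y` outside `C(T)`
  have hex : ∃ j : ℕ, y ^ (3 ^ j) ∈ Subgroup.centralizer (T : Set G) :=
    ⟨k, by rw [← hk, pow_orderOf_eq_one]; exact Subgroup.one_mem _⟩
  have hj0 : Nat.find hex ≠ 0 := by
    intro h0
    have := Nat.find_spec hex
    rw [h0, pow_zero, pow_one] at this
    exact hyC this
  obtain ⟨i, hi⟩ := Nat.exists_eq_succ_of_ne_zero hj0
  have h1 : y ^ (3 ^ i) ∉ Subgroup.centralizer (T : Set G) :=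
    Nat.find_min hex (by rw [hi]; exact Nat.lt_succ_self i)
  have h2 : (y ^ (3 ^ i)) ^ 3 ∈ Subgroup.centralizer (T : Set G) := by
    have := Nat.find_spec hex
    rw [hi, pow_succ, pow_mul] at this
    exact this
  refine core T hT t (y ^ (3 ^ i)) htN (Subgroup.pow_mem _ hyN _) ht2 ?_ ?_ h1 h2
  · have h3 : orderOf (y ^ (3 ^ i)) ∣ 3 ^ k := hk ▸ orderOf_pow_dvd (3 ^ i)
    obtain ⟨l, _, hl⟩ := (Nat.dvd_prime_pow Nat.prime_three).1 h3
    exact ⟨l, hl⟩
  · have h4 : t * y ^ (3 ^ i) * t⁻¹ = (t * y * t⁻¹) ^ (3 ^ i) := (conj_pow).symm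
    rw [h4, hinv, inv_pow]

end core

end Cfsg.Agent.Lib.Helper21_S4Core
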