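import Mathlib
import Cfsg.Agent.Lib.Helper21_S4Core

/-!
# `S₄` from an action of `SL₂(2)` on a normal `2`-subgroup (helper11)

`exists_inverting_pair`: a finite group mapping onto `SL₂(2)` contains a `2`-element `t` and a
`3`-element `y` with `t y t⁻¹ = y⁻¹` and `y` not in the kernel.

`involves_S4_of_SL2_two`: if `E` normalizes the `2`-subgroup `V` and `E / C_E(V) ≃ SL₂(2)` then the
symmetric group of degree four is involved in the ambient group (through helper21's criterion).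
-/

set_option autoImplicit false

namespace Cfsg.Agent.Lib.Helper11_S4Fact

universe u

local notation "SL22" => Matrix.SpecialLinearGroup (Fin 2) (ZMod 2)

theorem sl22_inv : ∀ a b : SL22, a * a = 1 → a ≠ 1 → b * b * b = 1 → b ≠ 1 →
    a * b * a⁻¹ = b⁻¹ := by decide

theorem sl22_card : Fintype.card SL22 = 6 := by decide

theorem sl22_exists_three : ∃ b : SL22, b * b * b = 1 ∧ b ≠ 1 := by decide

theorem sl22_exists_two : ∃ a : SL22, a * a = 1 ∧ a ≠ 1 := by decide

theorem sl22_three_elt : ∀ b c : SL22, b * b * b = 1 → b ≠ 1 → c ^ 9 = 1 →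
    (c = 1 ∨ c = b ∨ c = b * b) := by decide

theorem sl22_two_elt : ∀ a b : SL22, b * b * b = 1 → b ≠ 1 → a ≠ 1 → a ≠ b → a ≠ b * b →
    a * a = 1 := by decide

theorem sl22_pow_six : ∀ c : SL22, c ^ 6 = 1 := by decide

theorem sl22_sq_ne : ∀ b : SL22, b * b * b = 1 → b ≠ 1 → b⁻¹ * b⁻¹ ≠ 1 := by decide

section pair

variable {Γ : Type*} [Group Γ] [Finite Γ]

/-- the prime-to-`q` power trick: a power of `x` which is a `q`-element with the same image up to a
unit exponent -/
theorem exists_qpart (q : ℕ) [hq : Fact q.Prime] (x : Γ) :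
    ∃ m : ℕ, ¬ q ∣ m ∧ ∃ k : ℕ, orderOf (x ^ m) = q ^ k := by
  have hpos : 0 < orderOf x := orderOf_pos x
  obtain ⟨k, m, hm, hkm⟩ := Nat.exists_eq_pow_mul_and_not_dvd hpos.ne' q hq.out.ne_one
  refine ⟨m, hm, k, ?_⟩
  have hm0 : m ≠ 0 := by
    rintro rfl
    exact hm (dvd_zero q)
  rw [orderOf_pow' x hm0, hkm]
  have hg : (q ^ k * m).gcd m = m := Nat.gcd_eq_right (Dvd.intro_left _ rfl)
  rw [hg]
  exact Nat.mul_div_cancel _ (Nat.pos_of_ne_zero hm0)

end pair

section main

variable {Γ : Type*} [Group Γ] [Finite Γ]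

omit [Finite Γ] in
/-- conjugation by a power -/
theorem iterate_conj (s : Γ) (j : ℕ) (y : Γ) :
    (fun z => s * z * s⁻¹)^[j] y = s ^ j * y * (s ^ j)⁻¹ := by
  induction j with
  | zero => simp
  | succ j ih =>
    rw [Function.iterate_succ_apply', ih, pow_succ']
    group

/-- **A `2`-element inverting a `3`-element outside the kernel**, in a finite group mapping onto
`SL₂(2)`. -/
theorem exists_inverting_pair (ρ : Γ →* SL22) (hρ : Function.Surjective ρ) :
    ∃ t y : Γ, (∃ k : ℕ, orderOf t = 2 ^ k) ∧ (∃ k : ℕ, orderOf y = 3 ^ k) ∧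
      t * y * t⁻¹ = y⁻¹ ∧ ρ y ≠ 1 := by
  classical
  have : Fact (Nat.Prime 3) := ⟨Nat.prime_three⟩
  have : Fact (Nat.Prime 2) := ⟨Nat.prime_two⟩
  -- a `3`-element outside the kernel
  obtain ⟨b₀, hb₀3, hb₀1⟩ := sl22_exists_three
  obtain ⟨x₀, hx₀⟩ := hρ b₀
  obtain ⟨m, hm, k₃, hk₃⟩ := exists_qpart 3 x₀
  set x₃ := x₀ ^ m with hx₃
  set b := ρ x₃ with hb
  have hbpow : b = b₀ ^ m := by rw [hb, hx₃, map_pow, hx₀]
  have hb₀3' : b₀ ^ 3 = 1 := by rw [pow_succ, pow_two]; exact hb₀3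
  have hb3' : b ^ 3 = 1 := by rw [hbpow, ← pow_mul, mul_comm, pow_mul, hb₀3', one_pow]
  have hb3 : b * b * b = 1 := by rw [← pow_two, ← pow_succ]; exact hb3'
  have hb1 : b ≠ 1 := by
    intro h
    rw [hbpow] at h
    have hdvd : orderOf b₀ ∣ m := orderOf_dvd_of_pow_eq_one h
    have ho : orderOf b₀ = 3 := by
      apply orderOf_eq_prime hb₀3' hb₀1
    rw [ho] at hdvd
    exact hm hdvd
  -- a Sylow `3`-subgroup containing it
  have hZ3 : IsPGroup 3 (Subgroup.zpowers x₃) := by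
    apply IsPGroup.of_card (n := k₃)
    rw [Nat.card_zpowers, hk₃]
  obtain ⟨T, hT⟩ := hZ3.exists_le_sylow
  have hx₃T : x₃ ∈ (T : Subgroup Γ) := hT (Subgroup.mem_zpowers x₃)
  -- the index two subgroup
  set B : Subgroup SL22 := Subgroup.zpowers b with hB
  have hBcard : Nat.card B = 3 := by
    rw [hB, Nat.card_zpowers]
    exact orderOf_eq_prime hb3' hb1
  have hBidx : B.index = 2 := by
    have h1 := B.card_mul_index
    rw [hBcard, Nat.card_eq_fintype_card, sl22_card] at h1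
    omega
  have hBn : B.Normal := Subgroup.normal_of_index_eq_two hBidx
  set M : Subgroup Γ := B.comap ρ with hM
  have hMn : M.Normal := by rw [hM]; infer_instance
  have hmemB : ∀ c : SL22, c ∈ B ↔ (c = 1 ∨ c = b ∨ c = b * b) := by
    intro c
    constructor
    · intro hc
      apply sl22_three_elt b c hb3 hb1
      obtain ⟨j, rfl⟩ := hc
      rw [← zpow_natCast, ← zpow_mul, mul_comm, zpow_mul, zpow_natCast]
      have : b ^ 9 = 1 := by
        have : (9 : ℕ) = 3 * 3 := rfl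
        rw [this, pow_mul, hb3', one_pow]
      rw [this, one_zpow]
    · rintro (rfl | rfl | rfl)
      · exact B.one_mem
      · exact Subgroup.mem_zpowers b
      · exact B.mul_mem (Subgroup.mem_zpowers b) (Subgroup.mem_zpowers b)
  have hTM : (T : Subgroup Γ) ≤ M := by
    intro y hy
    rw [hM, Subgroup.mem_comap, hmemB]
    apply sl22_three_elt b (ρ y) hb3 hb1
    obtain ⟨j, hj⟩ := T.isPGroup' ⟨y, hy⟩
    have hyj : y ^ 3 ^ j = 1 := by simpa using congrArg Subtype.val hj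
    have h1 : (ρ y) ^ 3 ^ j = 1 := by rw [← map_pow, hyj, map_one]
    have h2 : (ρ y) ^ 6 = 1 := sl22_pow_six _
    have h3 : orderOf (ρ y) ∣ 3 ^ j := orderOf_dvd_of_pow_eq_one h1
    have h4 : orderOf (ρ y) ∣ 6 := orderOf_dvd_of_pow_eq_one h2
    have h5 : orderOf (ρ y) ∣ 9 := by
      obtain ⟨i, _, hi⟩ := (Nat.dvd_prime_pow Nat.prime_three).mp h3
      rw [hi] at h4 ⊢
      have : i ≤ 1 := by
        by_contra hcon
        push Not at hcon
        have : 3 ^ 2 ∣ 6 := (pow_dvd_pow 3 hcon).trans h4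
        omega
      exact pow_dvd_pow 3 (by omega : i ≤ 2)
    exact orderOf_dvd_iff_pow_eq_one.mp h5
  -- Frattini
  have hfr : Subgroup.normalizer ((T : Subgroup Γ) : Set Γ) ⊔ M = ⊤ :=
    Sylow.normalizer_sup_eq_top' T hTM
  obtain ⟨x, hxN, hxM⟩ : ∃ x ∈ Subgroup.normalizer ((T : Subgroup Γ) : Set Γ), x ∉ M := by
    by_contra hcon
    push Not at hcon
    have hle : Subgroup.normalizer ((T : Subgroup Γ) : Set Γ) ≤ M := hcon
    rw [sup_eq_right.mpr hle] at hfr
    obtain ⟨a, ha2, ha1⟩ := sl22_exists_two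
    obtain ⟨xa, hxa⟩ := hρ a
    have : xa ∈ M := by rw [hfr]; exact Subgroup.mem_top xa
    rw [hM, Subgroup.mem_comap, hxa, hmemB] at this
    rcases this with h | h | h
    · exact ha1 h
    · rw [h] at ha2
      have h3 := hb3
      rw [ha2, one_mul] at h3
      exact hb1 h3
    · rw [h] at ha2
      have h4 : b * b * (b * b) = (b * b * b) * b := by group
      rw [h4, hb3, one_mul] at ha2
      exact hb1 ha2
  -- its `2`-part
  obtain ⟨m₂, hm₂, k₂, hk₂⟩ := exists_qpart 2 x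
  set t := x ^ m₂ with ht
  have htN : t ∈ Subgroup.normalizer ((T : Subgroup Γ) : Set Γ) := Subgroup.pow_mem _ hxN _
  set a := ρ t with ha
  have hax : ρ x ∉ B := by
    intro h
    exact hxM h
  have hρx2 : ρ x * ρ x = 1 := by
    apply sl22_two_elt (ρ x) b hb3 hb1
    · intro h; apply hax; rw [h]; exact B.one_mem
    · intro h; apply hax; rw [h]; exact Subgroup.mem_zpowers b
    · intro h; apply hax; rw [h]
      exact B.mul_mem (Subgroup.mem_zpowers b) (Subgroup.mem_zpowers b)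
  have hm₂odd : Odd m₂ := by
    rw [← Nat.not_even_iff_odd, even_iff_two_dvd]
    exact hm₂
  have haeq : a = ρ x := by
    obtain ⟨i, hi⟩ := hm₂odd
    rw [ha, ht, map_pow, hi, pow_succ, pow_mul, pow_two, hρx2, one_pow, one_mul]
  have ha2 : a * a = 1 := by rw [haeq]; exact hρx2
  have ha1 : a ≠ 1 := by
    rw [haeq]
    intro h
    apply hax
    rw [h]; exact B.one_mem
  have hinvQ : a * b * a⁻¹ = b⁻¹ := sl22_inv a b ha2 ha1 hb3 hb1
  -- the coset of `T ∩ ker ρ` in `T` over `b`, and the action of `t ^ 2` on it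
  set s := t ^ 2 with hs
  have hρs : ρ s = 1 := by rw [hs, map_pow, pow_two]; exact ha2
  have hsN : s ∈ Subgroup.normalizer ((T : Subgroup Γ) : Set Γ) := Subgroup.pow_mem _ htN _
  let S' := {y : Γ // y ∈ (T : Subgroup Γ) ∧ ρ y = b}
  have : Finite S' := Subtype.finite
  let _ : Fintype S' := Fintype.ofFinite S'
  let f : Function.End S' := fun y => ⟨s * y.1 * s⁻¹,
    (Subgroup.mem_normalizer_iff.mp hsN y.1).mp y.2.1, by
      rw [map_mul, map_mul, map_inv, hρs, y.2.2]; simp⟩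
  have hfpow : ∀ (j : ℕ) (y : S'), ((f ^ j) y).1 = s ^ j * y.1 * (s ^ j)⁻¹ := by
    intro j
    induction j with
    | zero =>
      intro y
      rw [pow_zero, pow_zero, one_mul, inv_one, mul_one]
      rfl
    | succ j ih =>
      intro y
      rw [pow_succ', Function.End.mul_def]
      show s * ((f ^ j) y).1 * s⁻¹ = _
      rw [ih, pow_succ']
      group
  have hf : f ^ 2 ^ k₂ = 1 := by
    funext y
    apply Subtype.ext
    rw [hfpow]
    have : s ^ 2 ^ k₂ = 1 := by
      rw [hs, ← pow_mul, mul_comm, pow_mul, ← hk₂, pow_orderOf_eq_one, one_pow]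
    rw [this]
    show _ = y.1
    simp
  have hcardS' : Fintype.card S' ≡ Fintype.card (Function.fixedPoints f) [MOD 2] :=
    Equiv.Perm.card_fixedPoints_modEq hf
  -- the cardinality of the coset
  have hcard : Odd (Fintype.card S') := by
    set K : Subgroup Γ := (T : Subgroup Γ) ⊓ ρ.ker with hK
    have hKp : IsPGroup 3 K := T.isPGroup'.to_le inf_le_left
    let φ : K ≃ S' :=
      { toFun := fun z => ⟨x₃ * z.1, (T : Subgroup Γ).mul_mem hx₃T z.2.1, by
          rw [map_mul, MonoidHom.mem_ker.mp z.2.2, mul_one]⟩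
        invFun := fun y => ⟨x₃⁻¹ * y.1, (T : Subgroup Γ).mul_mem ((T : Subgroup Γ).inv_mem hx₃T) y.2.1, by
          show x₃⁻¹ * y.1 ∈ ρ.ker
          rw [MonoidHom.mem_ker, map_mul, map_inv, y.2.2]; exact inv_mul_cancel b⟩
        left_inv := fun z => by
          apply Subtype.ext; simp
        right_inv := fun y => by
          apply Subtype.ext; simp }
    rw [← Nat.card_eq_fintype_card, ← Nat.card_congr φ]
    obtain ⟨j, hj⟩ := IsPGroup.iff_card.mp hKp
    rw [hj]
    exact Odd.pow (by decide)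
  have hfix : 0 < Fintype.card (Function.fixedPoints f) := by
    by_contra h0
    have h0' : Fintype.card (Function.fixedPoints f) = 0 := by omega
    rw [h0'] at hcardS'
    have : Fintype.card S' % 2 = 0 := hcardS'
    rw [Nat.odd_iff] at hcard
    omega
  obtain ⟨⟨y, hyfix⟩⟩ := Fintype.card_pos_iff.mp hfix
  have hsy : s * y.1 * s⁻¹ = y.1 := congrArg Subtype.val hyfix
  -- the inverted element
  refine ⟨t, y.1⁻¹ * (t * y.1 * t⁻¹), ⟨k₂, hk₂⟩, ?_, ?_, ?_⟩
  · have hmem : y.1⁻¹ * (t * y.1 * t⁻¹) ∈ (T : Subgroup Γ) :=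
      (T : Subgroup Γ).mul_mem ((T : Subgroup Γ).inv_mem y.2.1)
        ((Subgroup.mem_normalizer_iff.mp htN y.1).mp y.2.1)
    obtain ⟨j, hj⟩ := T.isPGroup' ⟨_, hmem⟩
    have hyj : (y.1⁻¹ * (t * y.1 * t⁻¹)) ^ 3 ^ j = 1 := by simpa using congrArg Subtype.val hj
    obtain ⟨i, _, hi⟩ := (Nat.dvd_prime_pow Nat.prime_three).mp (orderOf_dvd_of_pow_eq_one hyj)
    exact ⟨i, hi⟩
  · have e : t * (y.1⁻¹ * (t * y.1 * t⁻¹)) * t⁻¹ = (t * y.1 * t⁻¹)⁻¹ * (s * y.1 * s⁻¹) := by
      rw [hs, pow_two]; group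
    rw [e, hsy]
    group
  · rw [map_mul, map_inv, map_mul, map_mul, map_inv, y.2.2]
    show b⁻¹ * (a * b * a⁻¹) ≠ 1
    rw [hinvQ]
    exact sl22_sq_ne b hb3 hb1

end main

section involve

variable {G : Type u} [Group G] [Finite G]

/-- **`S₄` from `SL₂(2)` acting on a normal `2`-subgroup.**  If `E` normalizes the `2`-subgroup `V`
and `E / C_E(V) ≃ SL₂(2)`, the symmetric group of degree four is involved in `G`. -/
theorem involves_S4_of_SL2_two (V E : Subgroup G) (hV : IsPGroup 2 V)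
    (hEV : E ≤ Subgroup.normalizer (V : Set G))
    (hn : ((Subgroup.centralizer (V : Set G)).subgroupOf E).Normal)
    (e : (↥E ⧸ (Subgroup.centralizer (V : Set G)).subgroupOf E) ≃* SL22) :
    Cfsg.Involves (Equiv.Perm (Fin 4)) G := by
  set ρ : ↥E →* SL22 :=
    e.toMonoidHom.comp (QuotientGroup.mk' ((Subgroup.centralizer (V : Set G)).subgroupOf E)) with hρ
  have hsurj : Function.Surjective ρ := by
    rw [hρ]
    exact e.surjective.comp (QuotientGroup.mk'_surjective _)
  obtain ⟨t, y, ⟨k₂, hk₂⟩, ⟨k₃, hk₃⟩, hinv, hy⟩ := exists_inverting_pair ρ hsurj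
  refine Cfsg.Agent.Lib.Helper21_S4Core.core' V hV (t : G) (y : G) (hEV t.2) (hEV y.2)
    ⟨k₂, ?_⟩ ⟨k₃, ?_⟩ ?_ ?_
  · rw [Subgroup.orderOf_coe]; exact hk₂
  · rw [Subgroup.orderOf_coe]; exact hk₃
  · have := congrArg Subtype.val hinv
    simpa using this
  · intro hyC
    apply hy
    have hmem : y ∈ (Subgroup.centralizer (V : Set G)).subgroupOf E :=
      Subgroup.mem_subgroupOf.mpr hyC
    have h1 : (QuotientGroup.mk' ((Subgroup.centralizer (V : Set G)).subgroupOf E)) y = 1 :=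
      (QuotientGroup.eq_one_iff y).mpr hmem
    rw [hρ, MonoidHom.comp_apply, h1]
    exact map_one _

end involve

end Cfsg.Agent.Lib.Helper11_S4Fact
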