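import Mathlib
import Cfsg.Prelude.Def_Classical
import Cfsg.Agent.Lib.Helper44_PSLnUT
import Cfsg.Agent.Lib.Helper88_PSLnFusDefs

/-!
# Definitions for the fusion system of `PSU_n(q)` in the defining characteristic (helper88, S5172)

Model: `GJ n F q ≤ SL_n(F)`, the special unitary group of the antidiagonal hermitian form
`hermJ u v = ∑ i, u i * (v (rev i)) ^ q` (here `|F| = q ^ 2`).  In this model the upper
unitriangular matrices `UJ n F q = GJ n F q ⊓ UT n F` form a Sylow `p`-subgroup.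

* `xs q hij a = (1 + a E_{ij}) (1 - a^q E_{rev j, rev i})`: root elements (short roots; for `j = rev i`
  the long root element `1 + (a - a^q) E_{i, rev i}`); in `GJ` when `i`, `j` are not the middle index;
* `ym q him hm a b = 1 + a E_{i m} - a^q E_{m, rev i} + b E_{i, rev i}` (`m` the middle index, `n` odd);
  in `GJ` iff `b + b^q + a^(q+1) = 0`;
* `hhJ q hij s`: the torus element with `s, s⁻¹` at `i, j` and `s^q, s^(-q)` at `rev j, rev i`;
* `Q1`, `Qr`: the unipotent radicals of the stabilisers of `⟨e_0⟩` and of `⟨e_0, …, e_{r-1}⟩`, `r = n / 2`.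
-/

set_option autoImplicit false

namespace Cfsg.Agent.Lib.Helper88_PSUFus

open Matrix Cfsg.Agent.Lib.Helper44_PSLnUT Cfsg.Agent.Lib.Helper88_PSLnFus

variable {n : ℕ} {F : Type*} [Field F]

/-- the antidiagonal hermitian form -/
def hermJ (n : ℕ) (F : Type*) [Field F] (q : ℕ) (u v : Fin n → F) : F :=
  ∑ i, u i * (v (Fin.rev i)) ^ q

/-- the special unitary group of `hermJ`, inside `SL_n(F)` -/
def GJ (n : ℕ) (F : Type*) [Field F] (q : ℕ) : Subgroup (SpecialLinearGroup (Fin n) F) :=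
  Cfsg.preserving (Cfsg.slToMat n F) (hermJ n F q)

theorem mem_GJ {q : ℕ} {g : SpecialLinearGroup (Fin n) F} :
    g ∈ GJ n F q ↔ ∀ u v : Fin n → F, hermJ n F q (g.1 *ᵥ u) (g.1 *ᵥ v) = hermJ n F q u v :=
  Iff.rfl

/-- the upper unitriangular subgroup of `GJ` -/
def UJ (n : ℕ) (F : Type*) [Field F] (q : ℕ) : Subgroup (SpecialLinearGroup (Fin n) F) :=
  GJ n F q ⊓ UT n F

theorem mem_UJ {q : ℕ} {g : SpecialLinearGroup (Fin n) F} :
    g ∈ UJ n F q ↔ g ∈ GJ n F q ∧ g ∈ UT n F := Iff.rfl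

theorem rev_ne {i j : Fin n} (h : i ≠ j) : Fin.rev j ≠ Fin.rev i := fun e =>
  h (Fin.rev_injective e).symm

/-- root elements `(1 + a E_{ij}) (1 - a^q E_{rev j, rev i})` -/
def xs (q : ℕ) {i j : Fin n} (hij : i ≠ j) (a : F) : SpecialLinearGroup (Fin n) F :=
  SpecialLinearGroup.transvection hij a * SpecialLinearGroup.transvection (rev_ne hij) (-(a ^ q))

theorem ne_rev_of_mid {i m : Fin n} (him : i ≠ m) (hm : Fin.rev m = m) : m ≠ Fin.rev i := by
  intro e
  apply him
  have := congrArg Fin.rev e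
  rw [hm, Fin.rev_rev] at this
  exact this.symm

theorem ne_rev_self_of_mid {i m : Fin n} (him : i ≠ m) (hm : Fin.rev m = m) : i ≠ Fin.rev i := by
  intro e
  apply him
  apply Fin.ext
  have h1 := congrArg Fin.val e
  have h2 := congrArg Fin.val hm
  rw [Fin.val_rev] at h1 h2
  omega

/-- root elements through the middle index `m` (`n` odd):
`1 + a E_{i m} - a^q E_{m, rev i} + b E_{i, rev i}` -/
def ym (q : ℕ) {i m : Fin n} (him : i ≠ m) (hm : Fin.rev m = m) (a b : F) :
    SpecialLinearGroup (Fin n) F :=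
  SpecialLinearGroup.transvection him a *
    SpecialLinearGroup.transvection (ne_rev_of_mid him hm) (-(a ^ q)) *
    SpecialLinearGroup.transvection (ne_rev_self_of_mid him hm) (b + a ^ (q + 1))

/-- the torus element `diag(s at i, s⁻¹ at j, s^q at rev j, s^(-q) at rev i)` -/
def hhJ (q : ℕ) {i j : Fin n} (hij : i ≠ j) (s : Fˣ) : SpecialLinearGroup (Fin n) F :=
  hh hij s * hh (rev_ne hij) (s ^ q)

/-- the pointwise stabiliser of `e_j`, `j < r` -/
def fixCols (n : ℕ) (F : Type*) [Field F] (r : ℕ) : Subgroup (SpecialLinearGroup (Fin n) F) where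
  carrier := {g | ∀ j : Fin n, j.val < r → g.1 *ᵥ (Pi.single j 1 : Fin n → F) = Pi.single j 1}
  mul_mem' := by
    intro a b ha hb j hj
    show (a.1 * b.1) *ᵥ _ = _
    rw [← Matrix.mulVec_mulVec, hb j hj, ha j hj]
  one_mem' := by
    intro j _
    show (1 : Matrix (Fin n) (Fin n) F) *ᵥ _ = _
    rw [Matrix.one_mulVec]
  inv_mem' := by
    intro a ha j hj
    have h1 : (a⁻¹).1 * a.1 = 1 := congrArg Subtype.val (inv_mul_cancel a)
    calc (a⁻¹).1 *ᵥ (Pi.single j 1 : Fin n → F) = (a⁻¹).1 *ᵥ (a.1 *ᵥ Pi.single j 1) := by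
          rw [ha j hj]
      _ = Pi.single j 1 := by rw [Matrix.mulVec_mulVec, h1, Matrix.one_mulVec]

/-- the first basis vector, written without naming the index `0 : Fin n` -/
def e0fun (n : ℕ) (F : Type*) [Field F] : Fin n → F := fun k => if k.val = 0 then 1 else 0

/-- elements fixing `e_0` and acting trivially on `{v | v last = 0} / ⟨e_0⟩` -/
def heisShape (n : ℕ) (F : Type*) [Field F] : Subgroup (SpecialLinearGroup (Fin n) F) where
  carrier := {g | g.1 *ᵥ e0fun n F = e0fun n F ∧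
    ∀ v : Fin n → F, (∀ k : Fin n, k.val = n - 1 → v k = 0) →
      ∀ k : Fin n, k.val ≠ 0 → (g.1 *ᵥ v) k = v k}
  mul_mem' := by
    rintro a b ⟨ha0, ha⟩ ⟨hb0, hb⟩
    refine ⟨?_, ?_⟩
    · show (a.1 * b.1) *ᵥ _ = _
      rw [← Matrix.mulVec_mulVec, hb0, ha0]
    · intro v hv k hk
      show ((a.1 * b.1) *ᵥ v) k = v k
      rw [← Matrix.mulVec_mulVec]
      have h1 : ∀ k : Fin n, k.val = n - 1 → (b.1 *ᵥ v) k = 0 := by
        intro k' hk'
        by_cases h0 : k'.val = 0
        · exfalso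
          have := k.isLt
          omega
        · rw [hb v hv k' h0]
          exact hv k' hk'
      rw [ha _ h1 k hk, hb v hv k hk]
  one_mem' := by
    refine ⟨?_, ?_⟩
    · show (1 : Matrix (Fin n) (Fin n) F) *ᵥ _ = _
      rw [Matrix.one_mulVec]
    · intro v _ k _
      show ((1 : Matrix (Fin n) (Fin n) F) *ᵥ v) k = v k
      rw [Matrix.one_mulVec]
  inv_mem' := by
    rintro a ⟨ha0, ha⟩
    have h1 : (a⁻¹).1 * a.1 = 1 := congrArg Subtype.val (inv_mul_cancel a)
    have hinv0 : (a⁻¹).1 *ᵥ e0fun n F = e0fun n F := by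
      calc (a⁻¹).1 *ᵥ e0fun n F = (a⁻¹).1 *ᵥ (a.1 *ᵥ e0fun n F) := by rw [ha0]
        _ = e0fun n F := by rw [Matrix.mulVec_mulVec, h1, Matrix.one_mulVec]
    refine ⟨hinv0, ?_⟩
    intro v hv k hk
    -- `u := v - a v` is a multiple of `e_0`
    set u : Fin n → F := v - a.1 *ᵥ v with hu
    have hu0 : ∀ k' : Fin n, k'.val ≠ 0 → u k' = 0 := by
      intro k' hk'
      rw [hu, Pi.sub_apply, ha v hv k' hk', sub_self]
    have hn : 0 < n := by
      have := k.isLt
      omega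
    have hue : u = u ⟨0, hn⟩ • e0fun n F := by
      funext k'
      rw [Pi.smul_apply, smul_eq_mul]
      unfold e0fun
      by_cases hk' : k'.val = 0
      · have : k' = ⟨0, hn⟩ := Fin.ext hk'
        rw [if_pos hk', mul_one, this]
      · rw [if_neg hk', mul_zero, hu0 k' hk']
    have hiu : (a⁻¹).1 *ᵥ u = u := by
      rw [hue, Matrix.mulVec_smul, hinv0]
    have e1 : (a⁻¹).1 *ᵥ v = v + u := by
      have h2 : v = a.1 *ᵥ v + u := by rw [hu]; abel
      calc (a⁻¹).1 *ᵥ v = (a⁻¹).1 *ᵥ (a.1 *ᵥ v + u) := by rw [← h2]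
        _ = v + u := by
          rw [Matrix.mulVec_add, Matrix.mulVec_mulVec, h1, Matrix.one_mulVec, hiu]
    rw [e1, Pi.add_apply, hu0 k hk, add_zero]

/-- the unipotent radical of the stabiliser of the isotropic point `⟨e_0⟩` -/
def Q1 (n : ℕ) (F : Type*) [Field F] (q : ℕ) : Subgroup (SpecialLinearGroup (Fin n) F) :=
  UJ n F q ⊓ heisShape n F

/-- the unipotent radical of the stabiliser of the maximal isotropic subspace
`⟨e_0, …, e_{r-1}⟩`, `r = n / 2` -/
def Qr (n : ℕ) (F : Type*) [Field F] (q : ℕ) : Subgroup (SpecialLinearGroup (Fin n) F) :=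
  UJ n F q ⊓ fixCols n F (n / 2)

/-- the family of the two radicals -/
def QJ (n : ℕ) (F : Type*) [Field F] (q : ℕ) : Bool → Subgroup (SpecialLinearGroup (Fin n) F) :=
  fun b => cond b (Qr n F q) (Q1 n F q)

theorem Q1_le_UJ (q : ℕ) : Q1 n F q ≤ UJ n F q := inf_le_left

theorem Qr_le_UJ (q : ℕ) : Qr n F q ≤ UJ n F q := inf_le_left

/-- the root elements of `UJ`: long roots `1 + c E_{i, rev i}`, Siegel roots `xs (i, rev j)`,
Levi roots `xs (i, j)`, `i < j < n / 2`, and (for odd `n`) the elements `ym` through the middle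
index -/
def rootsUJ (n : ℕ) (F : Type*) [Field F] (q : ℕ) : Set (SpecialLinearGroup (Fin n) F) :=
  {g | (∃ (i : Fin n) (hi : i ≠ Fin.rev i) (c : F), i.val < n / 2 ∧ c + c ^ q = 0 ∧
        g = SpecialLinearGroup.transvection hi c) ∨
    (∃ (i j : Fin n) (h : i ≠ Fin.rev j) (a : F), i ≠ j ∧ i.val < n / 2 ∧ j.val < n / 2 ∧
        g = xs q h a) ∨
    (∃ (i j : Fin n) (hij : i ≠ j) (a : F), i.val < j.val ∧ j.val < n / 2 ∧ g = xs q hij a) ∨
    (∃ (i m : Fin n) (him : i ≠ m) (hm : Fin.rev m = m) (a b : F), i.val < n / 2 ∧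
        b + b ^ q + a ^ (q + 1) = 0 ∧ g = ym q him hm a b)}

/-- generators of the diagonal torus of `GJ` other than `hhJ 0 1`: the `hhJ i j s` with
`0 < i, j < n / 2`; for even `n` the `diag(s, s⁻¹)`, `s ^ q = s`, at the two middle indices; for odd
`n` the `diag(s, s^(q-1), s^(-q))` at the three middle indices -/
def torusGens (n : ℕ) (F : Type*) [Field F] (q : ℕ) : Set (SpecialLinearGroup (Fin n) F) :=
  {y | (∃ (i j : Fin n) (hij : i ≠ j) (s : Fˣ), 0 < i.val ∧ i.val < n / 2 ∧ 0 < j.val ∧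
        j.val < n / 2 ∧ y = hhJ q hij s) ∨
    (∃ (i : Fin n) (hi : i ≠ Fin.rev i) (s : Fˣ), i.val + 1 = (Fin.rev i).val ∧
        (s : F) ^ q = (s : F) ∧ y = hh hi s) ∨
    (∃ (i m : Fin n) (him : i ≠ m) (hm : Fin.rev m = m) (s : Fˣ), i.val + 1 = m.val ∧
        y = hh him s * hh (ne_rev_of_mid him hm) (s ^ q))}

end Cfsg.Agent.Lib.Helper88_PSUFus
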