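import Mathlib
import Cfsg.Prelude.Def_Classical
import Cfsg.Agent.Lib.Helper13_Herm
import Cfsg.Agent.Lib.Helper5_SUCenter
import Cfsg.Agent.Lib.Helper44_PSLnUT
import Cfsg.Agent.Lib.Helper32_PGroup
import Cfsg.Agent.Lib.Helper88_PSLnFusDefs
import Cfsg.Agent.Lib.Helper88_PSUFusDefs

/-!
# S5172 package A2 (helper26, architect helper88): the root elements `ym` through the middle index lie in `GJ`

Also exported (reusable for A1, H4, ...): the matrix criterion `mem_GJ_of_gram`:
`g.1ᵀ * JJ n F * g.1.map σ = JJ n F → g ∈ GJ n F q` (`σ x = x ^ q` a ring endomorphism, `exists_sigma`),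
with the calculus `JJ_mul_single`, `single_mul_JJ` for products with matrix units.
-/

set_option autoImplicit false

namespace Cfsg.Agent.Lib.Helper26_S5172_A2

open Matrix Cfsg.Agent.Lib.Helper44_PSLnUT Cfsg.Agent.Lib.Helper88_PSLnFus
  Cfsg.Agent.Lib.Helper88_PSUFus

variable {F : Type*} [Field F] [Fintype F] {q : ℕ}

/-- the ring endomorphism `x ↦ x ^ q` -/
theorem exists_sigma (hF : Fintype.card F = q ^ 2) : ∃ σ : F →+* F, ∀ x, σ x = x ^ q := by
  obtain ⟨p, j, hp, hchar, rfl⟩ := Cfsg.Agent.Lib.Helper13_Herm.exists_char_pow hF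
  have := Fact.mk hp
  exact ⟨iterateFrobenius F p j, fun x => iterateFrobenius_def p j x⟩

/-- the antidiagonal matrix -/
def JJ (n : ℕ) (F : Type*) [Field F] : Matrix (Fin n) (Fin n) F :=
  Matrix.of fun x y => if x = Fin.rev y then 1 else 0

omit [Fintype F] in
theorem JJ_mulVec {n : ℕ} (w : Fin n → F) : JJ n F *ᵥ w = fun i => w (Fin.rev i) := by
  funext i
  simp only [JJ, Matrix.mulVec, dotProduct, Matrix.of_apply]
  rw [Finset.sum_eq_single (Fin.rev i)]
  · simp
  · intro b _ hb
    rw [if_neg, zero_mul]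
    intro e
    apply hb
    rw [e, Fin.rev_rev]
  · intro h; exact absurd (Finset.mem_univ _) h

omit [Fintype F] in
theorem JJ_mul_single {n : ℕ} (x y : Fin n) (c : F) :
    JJ n F * Matrix.single x y c = Matrix.single (Fin.rev x) y c := by
  ext a b
  rw [Matrix.mul_apply]
  simp only [JJ, Matrix.of_apply, Matrix.single_apply]
  rw [Finset.sum_eq_single (Fin.rev a)]
  · by_cases h : Fin.rev x = a
    · subst h; simp
    · have : ¬ x = Fin.rev a := fun e => h (by rw [e, Fin.rev_rev])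
      simp [h, this]
  · intro k _ hk
    rw [if_neg, zero_mul]
    intro e; apply hk; rw [e, Fin.rev_rev]
  · intro h; exact absurd (Finset.mem_univ _) h

omit [Fintype F] in
theorem single_mul_JJ {n : ℕ} (x y : Fin n) (c : F) :
    Matrix.single x y c * JJ n F = Matrix.single x (Fin.rev y) c := by
  ext a b
  rw [Matrix.mul_apply]
  simp only [JJ, Matrix.of_apply, Matrix.single_apply]
  rw [Finset.sum_eq_single (Fin.rev b)]
  · by_cases h : Fin.rev y = b
    · subst h; simp
    · have : ¬ y = Fin.rev b := fun e => h (by rw [e, Fin.rev_rev])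
      simp [h, this]
  · intro k _ hk
    rw [if_neg (fun e => hk e), mul_zero]
  · intro h; exact absurd (Finset.mem_univ _) h

theorem hermJ_eq {n : ℕ} (σ : F →+* F) (hσ : ∀ x, σ x = x ^ q) (u v : Fin n → F) :
    hermJ n F q u v = u ⬝ᵥ (JJ n F *ᵥ (σ ∘ v)) := by
  rw [JJ_mulVec]
  unfold hermJ dotProduct
  refine Finset.sum_congr rfl fun i _ => ?_
  show u i * v i.rev ^ q = u i * σ (v i.rev)
  rw [hσ]

/-- **criterion**: `g ∈ GJ` as soon as `gᵀ J g^σ = J`. -/
theorem mem_GJ_of_gram {n : ℕ} (σ : F →+* F) (hσ : ∀ x, σ x = x ^ q)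
    (g : SpecialLinearGroup (Fin n) F)
    (h : g.1ᵀ * JJ n F * g.1.map σ = JJ n F) : g ∈ GJ n F q := by
  rw [mem_GJ]
  intro u v
  rw [hermJ_eq σ hσ, hermJ_eq σ hσ]
  have e1 : σ ∘ (g.1 *ᵥ v) = g.1.map σ *ᵥ (σ ∘ v) := by
    funext i
    exact RingHom.map_mulVec σ g.1 v i
  rw [e1, Matrix.mulVec_mulVec, Matrix.dotProduct_mulVec, Matrix.vecMul_mulVec, ← Matrix.mul_assoc, h,
    ← Matrix.dotProduct_mulVec]


/-- **A2**  matrix of `ym`, and `ym ∈ GJ`. -/
theorem A2_coe {n : ℕ} {i m : Fin n} (him : i ≠ m) (hm : Fin.rev m = m) (a b : F) :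
    (ym q him hm a b).1 = 1 + Matrix.single i m a - Matrix.single m (Fin.rev i) (a ^ q)
      + Matrix.single i (Fin.rev i) b := by
  have h1 : m ≠ i := him.symm
  have h2 : Fin.rev i ≠ i := (ne_rev_self_of_mid him hm).symm
  show (SpecialLinearGroup.transvection him a).1 *
    (SpecialLinearGroup.transvection (ne_rev_of_mid him hm) (-(a ^ q))).1 *
    (SpecialLinearGroup.transvection (ne_rev_self_of_mid him hm) (b + a ^ (q + 1))).1 = _
  rw [SpecialLinearGroup.transvection_coe,
    SpecialLinearGroup.transvection_coe, SpecialLinearGroup.transvection_coe]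
  simp only [Matrix.add_mul, Matrix.mul_add, Matrix.one_mul, Matrix.mul_one,
    Matrix.single_mul_single_same, Matrix.single_mul_single_of_ne _ _ _ _ h1,
    Matrix.single_mul_single_of_ne _ _ _ _ h2, add_zero]
  have e1 : Matrix.single i (Fin.rev i) (b + a ^ (q + 1)) =
      Matrix.single i (Fin.rev i) b + (Matrix.single i (Fin.rev i) (a ^ (q + 1)) : Matrix (Fin n) (Fin n) F) :=
    Matrix.single_add _ _ _ _
  have e2 : (Matrix.single i (Fin.rev i) (a * -(a ^ q)) : Matrix (Fin n) (Fin n) F) =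
      - Matrix.single i (Fin.rev i) (a ^ (q + 1)) := by
    rw [Matrix.single_neg]; congr 1; ring
  have e3 : (Matrix.single m (Fin.rev i) (-(a ^ q)) : Matrix (Fin n) (Fin n) F) =
      - Matrix.single m (Fin.rev i) (a ^ q) := by
    rw [Matrix.single_neg]
  rw [e1, e2, e3]
  abel

theorem A2_mem (hF : Fintype.card F = q ^ 2) {n : ℕ} {i m : Fin n} (him : i ≠ m)
    (hm : Fin.rev m = m) (a b : F) (hab : b + b ^ q + a ^ (q + 1) = 0) :
    ym q him hm a b ∈ GJ n F q := by
  obtain ⟨σ, hσ⟩ := exists_sigma hF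
  have h1 : m ≠ i := him.symm
  have h2 : Fin.rev i ≠ i := (ne_rev_self_of_mid him hm).symm
  have h3 : Fin.rev i ≠ m := (ne_rev_of_mid him hm).symm
  apply mem_GJ_of_gram σ hσ
  rw [A2_coe, ← RingHom.mapMatrix_apply]
  simp only [map_add, map_sub, map_one, RingHom.mapMatrix_apply, Matrix.map_single,
    Matrix.transpose_add, Matrix.transpose_sub, Matrix.transpose_one, Matrix.transpose_single,
    hσ, Cfsg.Agent.Lib.Helper13_Herm.pow_q_pow_q hF]
  simp only [Matrix.add_mul, Matrix.sub_mul, Matrix.mul_add, Matrix.mul_sub, Matrix.one_mul,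
    Matrix.mul_one, single_mul_JJ, hm, Matrix.single_mul_single_same,
    Matrix.single_mul_single_of_ne _ _ _ _ h1,
    Matrix.single_mul_single_of_ne _ _ _ _ h2, Matrix.single_mul_single_of_ne _ _ _ _ h3,
    JJ_mul_single, add_zero, sub_zero]
  have e : (Matrix.single (Fin.rev i) (Fin.rev i) b + Matrix.single (Fin.rev i) (Fin.rev i) (a ^ q * a)
      + Matrix.single (Fin.rev i) (Fin.rev i) (b ^ q) : Matrix (Fin n) (Fin n) F) = 0 := by
    rw [← Matrix.single_add, ← Matrix.single_add]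
    have : b + a ^ q * a + b ^ q = 0 := by rw [← hab]; ring
    rw [this, Matrix.single_zero]
  have e2 : ∀ (J A B C D E : Matrix (Fin n) (Fin n) F),
      J + A - B + C + B - (A - D) + E = J + (C + D + E) := by intros; abel
  rw [e2, e, add_zero]

end Cfsg.Agent.Lib.Helper26_S5172_A2
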