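import Mathlib
import Cfsg.Prelude.Def_Classical
import Cfsg.Agent.Lib.Helper44_PSLnUT
import Cfsg.Agent.Lib.Helper88_PSLnFusDefs
import Cfsg.Agent.Lib.Helper88_PSUFusDefs

set_option autoImplicit false

/-!
# S5172 package F1 (helper47): an element of `GJ` stabilising the point `⟨e_0⟩` normalises `Q1`

Key lemma `isUT_of_GJ_heis`: an element of `GJ ⊓ heisShape` is automatically upper unitriangular
(so `Q1 = GJ ⊓ heisShape`); `heis_conj`: conjugation by `g ∈ GJ` with `g e_0 = c e_0` preserves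
`heisShape` (it preserves `⟨e_0⟩` and `e_0^⊥ = {v | v_{n-1} = 0}`).
-/

namespace Cfsg.Agent.Lib.Helper47_S5172_F1

open Matrix Cfsg.Agent.Lib.Helper44_PSLnUT Cfsg.Agent.Lib.Helper88_PSLnFus
  Cfsg.Agent.Lib.Helper88_PSUFus

variable {F : Type*} [Field F] [Fintype F] {q : ℕ}

omit [Fintype F] in
/-- pairing with a multiple of `e_0` reads off the last coordinate -/
theorem hermJ_smul_e0 {n : ℕ} (hn : 0 < n) (hq : q ≠ 0) (w : Fin n → F) (c : F) :
    hermJ n F q w (c • e0fun n F) = w ⟨n - 1, by omega⟩ * c ^ q := by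
  unfold hermJ
  rw [Finset.sum_eq_single (⟨n - 1, by omega⟩ : Fin n)]
  · have h1 : (Fin.rev (⟨n - 1, by omega⟩ : Fin n)).val = 0 := by
      rw [Fin.val_rev]; simp only; omega
    rw [Pi.smul_apply, smul_eq_mul]
    unfold e0fun
    rw [if_pos h1, mul_one]
  · intro i _ hi
    have h1 : (Fin.rev i).val ≠ 0 := by
      rw [Fin.val_rev]
      intro h
      apply hi
      apply Fin.ext
      have := i.isLt
      simp only
      omega
    rw [Pi.smul_apply, smul_eq_mul]
    unfold e0fun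
    rw [if_neg h1, mul_zero, zero_pow hq, mul_zero]
  · intro h
    exact absurd (Finset.mem_univ _) h

omit [Fintype F] in
theorem hermJ_e0 {n : ℕ} (hn : 0 < n) (hq : q ≠ 0) (w : Fin n → F) :
    hermJ n F q w (e0fun n F) = w ⟨n - 1, by omega⟩ := by
  have h := hermJ_smul_e0 (q := q) hn hq w 1
  rw [one_smul, one_pow, mul_one] at h
  exact h

omit [Fintype F] in
/-- `(M e_0)_i = M i 0` -/
theorem mulVec_e0 {n : ℕ} (hn : 0 < n) (M : Matrix (Fin n) (Fin n) F) (i : Fin n) :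
    (M *ᵥ e0fun n F) i = M i ⟨0, hn⟩ := by
  rw [Matrix.mulVec, dotProduct, Finset.sum_eq_single (⟨0, hn⟩ : Fin n)]
  · unfold e0fun
    rw [if_pos rfl, mul_one]
  · intro j _ hj
    have h1 : j.val ≠ 0 := fun h => hj (Fin.ext h)
    unfold e0fun
    rw [if_neg h1, mul_zero]
  · intro h
    exact absurd (Finset.mem_univ _) h

omit [Fintype F] in
/-- an element of `GJ ⊓ heisShape` is upper unitriangular -/
theorem isUT_of_GJ_heis (hq : q ≠ 0) {n : ℕ} (hn : 2 ≤ n) {h : SpecialLinearGroup (Fin n) F}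
    (hG : h ∈ GJ n F q) (hH : h ∈ heisShape n F) : h ∈ UT n F := by
  have hn0 : 0 < n := by omega
  obtain ⟨h0, hrest⟩ := hH
  -- columns `j ≠ n - 1`, rows `k ≠ 0`
  have hcol : ∀ j : Fin n, j.val ≠ n - 1 → ∀ k : Fin n, k.val ≠ 0 →
      h.1 k j = if k = j then 1 else 0 := by
    intro j hj k hk
    have h1 := hrest (Pi.single j 1) (by
      intro k' hk'
      have : k' ≠ j := by
        intro e
        rw [e] at hk'
        exact hj hk'
      rw [Pi.single_eq_of_ne this]) k hk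
    rw [Matrix.mulVec_single_one, Matrix.col_apply] at h1
    rw [h1, Pi.single_apply]
  rw [mem_UT]
  constructor
  · intro i j hij
    have hi0 : i.val ≠ 0 := by
      have : j.val < i.val := hij
      omega
    have hj1 : j.val ≠ n - 1 := by
      have : j.val < i.val := hij
      have := i.isLt
      omega
    rw [hcol j hj1 i hi0, if_neg (ne_of_gt hij)]
  · intro i
    by_cases hi0 : i.val = 0
    · have h1 := congrFun h0 i
      rw [mulVec_e0 hn0] at h1
      have hi : i = ⟨0, hn0⟩ := Fin.ext hi0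
      rw [← hi] at h1
      rw [h1]
      unfold e0fun
      rw [if_pos hi0]
    · by_cases hi1 : i.val = n - 1
      · -- the last diagonal entry, from unitarity
        have hi : i = ⟨n - 1, by omega⟩ := Fin.ext hi1
        have h1 := hG (Pi.single i 1) (e0fun n F)
        have h2 : (Cfsg.slToMat n F) h = h.1 := rfl
        rw [h2, h0, hermJ_e0 hn0 hq, hermJ_e0 hn0 hq, Matrix.mulVec_single_one, Matrix.col_apply,
          ← hi, Pi.single_eq_same] at h1
        exact h1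
      · rw [hcol i hi1 i hi0, if_pos rfl]

omit [Fintype F] in
/-- conjugation by `g ∈ GJ` with `g e_0 = c e_0` preserves `heisShape` -/
theorem heis_conj (hq : q ≠ 0) {n : ℕ} (hn : 2 ≤ n) {g : SpecialLinearGroup (Fin n) F}
    (hg : g ∈ GJ n F q) {c : F} (hc : g.1 *ᵥ e0fun n F = c • e0fun n F)
    {u : SpecialLinearGroup (Fin n) F} (hu : u ∈ heisShape n F) :
    g * u * g⁻¹ ∈ heisShape n F := by
  have hn0 : 0 < n := by omega
  have hinv : (g⁻¹).1 * g.1 = 1 := congrArg Subtype.val (inv_mul_cancel g)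
  have hinv' : g.1 * (g⁻¹).1 = 1 := congrArg Subtype.val (mul_inv_cancel g)
  have he0 : e0fun n F (⟨0, hn0⟩ : Fin n) = 1 := by
    unfold e0fun
    rw [if_pos rfl]
  have hc0 : c ≠ 0 := by
    rintro rfl
    rw [zero_smul] at hc
    have h1 : (g⁻¹).1 *ᵥ (g.1 *ᵥ e0fun n F) = e0fun n F := by
      rw [Matrix.mulVec_mulVec, hinv, Matrix.one_mulVec]
    rw [hc, Matrix.mulVec_zero] at h1
    have h2 := congrFun h1 ⟨0, hn0⟩
    rw [he0, Pi.zero_apply] at h2
    exact zero_ne_one h2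
  have hginv : (g⁻¹).1 *ᵥ e0fun n F = c⁻¹ • e0fun n F := by
    have h1 : (g⁻¹).1 *ᵥ (g.1 *ᵥ e0fun n F) = e0fun n F := by
      rw [Matrix.mulVec_mulVec, hinv, Matrix.one_mulVec]
    rw [hc, Matrix.mulVec_smul] at h1
    calc (g⁻¹).1 *ᵥ e0fun n F = c⁻¹ • (c • ((g⁻¹).1 *ᵥ e0fun n F)) := by
          rw [smul_smul, inv_mul_cancel₀ hc0, one_smul]
      _ = c⁻¹ • e0fun n F := by rw [h1]
  obtain ⟨hu0, hurest⟩ := hu
  have hcoe : (g * u * g⁻¹).1 = g.1 * u.1 * (g⁻¹).1 := rfl
  refine ⟨?_, ?_⟩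
  · show (g * u * g⁻¹).1 *ᵥ e0fun n F = e0fun n F
    rw [hcoe, ← Matrix.mulVec_mulVec, ← Matrix.mulVec_mulVec, hginv, Matrix.mulVec_smul, hu0,
      Matrix.mulVec_smul, hc, smul_smul, inv_mul_cancel₀ hc0, one_smul]
  · intro v hv k hk
    show ((g * u * g⁻¹).1 *ᵥ v) k = v k
    rw [hcoe, ← Matrix.mulVec_mulVec, ← Matrix.mulVec_mulVec]
    set v' : Fin n → F := (g⁻¹).1 *ᵥ v with hv'
    have hgv' : g.1 *ᵥ v' = v := by
      rw [hv', Matrix.mulVec_mulVec, hinv', Matrix.one_mulVec]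
    -- the last coordinate of `v'` vanishes
    have hlast : ∀ k' : Fin n, k'.val = n - 1 → v' k' = 0 := by
      intro k' hk'
      have hk'' : k' = ⟨n - 1, by omega⟩ := Fin.ext hk'
      have h1 := hg v' (e0fun n F)
      have h2 : (Cfsg.slToMat n F) g = g.1 := rfl
      rw [h2, hgv', hc, hermJ_smul_e0 hn0 hq, hermJ_e0 hn0 hq, hv _ rfl, zero_mul] at h1
      rw [hk'', ← h1]
    -- `u v' = v' + λ e_0`
    set w : Fin n → F := u.1 *ᵥ v' with hw
    have hwk : ∀ k' : Fin n, k'.val ≠ 0 → w k' = v' k' := fun k' hk' => hurest v' hlast k' hk'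
    have hwe : w = v' + (w ⟨0, hn0⟩ - v' ⟨0, hn0⟩) • e0fun n F := by
      funext k'
      rw [Pi.add_apply, Pi.smul_apply, smul_eq_mul]
      by_cases hk' : k'.val = 0
      · have : k' = ⟨0, hn0⟩ := Fin.ext hk'
        rw [this, he0]; ring
      · have h3 : e0fun n F k' = 0 := by
          unfold e0fun
          rw [if_neg hk']
        rw [hwk k' hk', h3, mul_zero, add_zero]
    rw [hwe, Matrix.mulVec_add, hgv', Matrix.mulVec_smul, hc, Pi.add_apply, Pi.smul_apply,
      Pi.smul_apply]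
    have h3 : e0fun n F k = 0 := by
      unfold e0fun
      rw [if_neg hk]
    rw [h3, smul_zero, smul_zero, add_zero]

/-- **F1**  an element of `GJ` stabilising the point `⟨e_0⟩` normalises `Q1`. -/
theorem F1 (hF : Fintype.card F = q ^ 2) (n : ℕ) (hn : 4 ≤ n)
    (g : SpecialLinearGroup (Fin n) F) (hg : g ∈ GJ n F q) (c : F)
    (hc : g.1 *ᵥ e0fun n F = c • e0fun n F) :
    ∀ u ∈ Q1 n F q, g * u * g⁻¹ ∈ Q1 n F q := by
  intro u hu
  have hq : q ≠ 0 := by
    rintro rfl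
    rw [zero_pow (by norm_num)] at hF
    exact Fintype.card_ne_zero hF
  obtain ⟨⟨huG, -⟩, huH⟩ := hu
  have hGJ : g * u * g⁻¹ ∈ GJ n F q :=
    (GJ n F q).mul_mem ((GJ n F q).mul_mem hg huG) ((GJ n F q).inv_mem hg)
  have hH : g * u * g⁻¹ ∈ heisShape n F := heis_conj hq (by omega) hg hc huH
  exact ⟨⟨hGJ, isUT_of_GJ_heis hq (by omega) hGJ hH⟩, hH⟩

end Cfsg.Agent.Lib.Helper47_S5172_F1
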