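import Mathlib
import Cfsg.Prelude.Def_Classical
import Cfsg.Agent.Lib.Helper13_Herm
import Cfsg.Agent.Lib.Helper44_PSLnUT
import Cfsg.Agent.Lib.Helper88_PSLnFusDefs
import Cfsg.Agent.Lib.Helper88_PSUFusDefs

/-!
S5172 package A1 (helper88's market): the matrix of `xs`, `xs ∈ GJ`, long root elements in `GJ`;
plus the calculus of the antidiagonal hermitian form `hermJ` (sesquilinearity, basis vectors) and
the entrywise membership criterion `mem_GJ_iff_entries`.  helper63.
-/

set_option autoImplicit false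

namespace Cfsg.Agent.Lib.Helper63_S5172_A1

open Matrix Cfsg.Agent.Lib.Helper44_PSLnUT Cfsg.Agent.Lib.Helper88_PSLnFus
  Cfsg.Agent.Lib.Helper88_PSUFus Cfsg.Agent.Lib.Helper13_Herm

variable {F : Type*} [Field F] [Fintype F] {q : ℕ}

section form

variable {n : ℕ}

omit [Fintype F] in
theorem hermJ_add_left (u u' v : Fin n → F) :
    hermJ n F q (u + u') v = hermJ n F q u v + hermJ n F q u' v := by
  simp only [hermJ, Pi.add_apply, add_mul, Finset.sum_add_distrib]

theorem hermJ_add_right (hF : Fintype.card F = q ^ 2) (u v v' : Fin n → F) :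
    hermJ n F q u (v + v') = hermJ n F q u v + hermJ n F q u v' := by
  simp only [hermJ, Pi.add_apply, add_pow_q hF, mul_add, Finset.sum_add_distrib]

omit [Fintype F] in
theorem hermJ_smul_left (c : F) (u v : Fin n → F) :
    hermJ n F q (c • u) v = c * hermJ n F q u v := by
  simp only [hermJ, Pi.smul_apply, smul_eq_mul, Finset.mul_sum, mul_assoc]

omit [Fintype F] in
theorem hermJ_smul_right (c : F) (u v : Fin n → F) :
    hermJ n F q u (c • v) = c ^ q * hermJ n F q u v := by
  simp only [hermJ, Pi.smul_apply, smul_eq_mul, mul_pow, Finset.mul_sum]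
  apply Finset.sum_congr rfl
  intro t _
  ring

omit [Fintype F] in
theorem hermJ_neg_left (u v : Fin n → F) : hermJ n F q (-u) v = - hermJ n F q u v := by
  simp only [hermJ, Pi.neg_apply, neg_mul, Finset.sum_neg_distrib]

theorem hermJ_neg_right (hF : Fintype.card F = q ^ 2) (u v : Fin n → F) :
    hermJ n F q u (-v) = - hermJ n F q u v := by
  simp only [hermJ, Pi.neg_apply, neg_pow_q hF, mul_neg, Finset.sum_neg_distrib]

omit [Fintype F] in
theorem hermJ_sub_left (u u' v : Fin n → F) :
    hermJ n F q (u - u') v = hermJ n F q u v - hermJ n F q u' v := by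
  rw [sub_eq_add_neg, hermJ_add_left, hermJ_neg_left, sub_eq_add_neg]

theorem hermJ_sub_right (hF : Fintype.card F = q ^ 2) (u v v' : Fin n → F) :
    hermJ n F q u (v - v') = hermJ n F q u v - hermJ n F q u v' := by
  rw [sub_eq_add_neg, hermJ_add_right hF, hermJ_neg_right hF, sub_eq_add_neg]

omit [Fintype F] in
theorem hermJ_single_left (i : Fin n) (v : Fin n → F) :
    hermJ n F q (Pi.single i 1) v = (v (Fin.rev i)) ^ q := by
  unfold hermJ
  rw [Finset.sum_eq_single i]
  · rw [Pi.single_eq_same, one_mul]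
  · intro t _ ht
    rw [Pi.single_eq_of_ne ht, zero_mul]
  · intro h
    exact absurd (Finset.mem_univ i) h

omit [Fintype F] in
theorem hermJ_single_right (hq : q ≠ 0) (k : Fin n) (u : Fin n → F) :
    hermJ n F q u (Pi.single k 1) = u (Fin.rev k) := by
  unfold hermJ
  rw [Finset.sum_eq_single (Fin.rev k)]
  · rw [Fin.rev_rev, Pi.single_eq_same, one_pow, mul_one]
  · intro t _ ht
    have : Fin.rev t ≠ k := fun e => ht (by rw [← e, Fin.rev_rev])
    rw [Pi.single_eq_of_ne this, zero_pow hq, mul_zero]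
  · intro h
    exact absurd (Finset.mem_univ _) h

/-- **criterion**: `g ∈ GJ` iff the columns of `g` are a `J`-frame:
`∑ t, g t k * (g (rev t) l)^q = δ_{k, rev l}`. -/
theorem mem_GJ_iff_entries (hF : Fintype.card F = q ^ 2) (g : SpecialLinearGroup (Fin n) F) :
    g ∈ GJ n F q ↔ ∀ k l : Fin n,
      ∑ t, g.1 t k * (g.1 (Fin.rev t) l) ^ q = if k = Fin.rev l then 1 else 0 := by
  have hq : q ≠ 0 := by have := two_le_q hF; omega
  constructor
  · intro h k l
    have h1 := (mem_GJ.1 h) (Pi.single k 1) (Pi.single l 1)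
    rw [hermJ_single_left, Matrix.mulVec_single_one, Matrix.mulVec_single_one] at h1
    have h2 : (∑ t, g.1 t k * (g.1 (Fin.rev t) l) ^ q) = hermJ n F q (g.1.col k) (g.1.col l) := rfl
    rw [h2, h1, Pi.single_apply]
    by_cases hkl : k = Fin.rev l
    · rw [if_pos hkl, if_pos (by rw [hkl, Fin.rev_rev]), one_pow]
    · rw [if_neg hkl, if_neg (fun e => hkl (by rw [← e, Fin.rev_rev])), zero_pow hq]
  · intro h
    rw [mem_GJ]
    intro u v
    simp only [hermJ, Matrix.mulVec, dotProduct]
    simp only [sum_pow_q hF, mul_pow, Finset.sum_mul_sum]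
    rw [Finset.sum_comm]
    apply Finset.sum_congr rfl
    intro k _
    rw [Finset.sum_comm]
    have h3 : ∀ l : Fin n, ∑ t, g.1 t k * u k * ((g.1 (Fin.rev t) l) ^ q * v l ^ q) =
        u k * v l ^ q * (if k = Fin.rev l then 1 else 0) := by
      intro l
      rw [← h k l, Finset.mul_sum]
      apply Finset.sum_congr rfl
      intro t _
      ring
    simp only [h3]
    rw [Finset.sum_eq_single (Fin.rev k)]
    · rw [Fin.rev_rev, if_pos rfl, mul_one]
    · intro l _ hl
      rw [if_neg (fun e => hl (by rw [e, Fin.rev_rev])), mul_zero]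
    · intro h'
      exact absurd (Finset.mem_univ _) h'

end form

/-- **A1**  matrix of `xs`, and `xs ∈ GJ` when neither index is the middle one. -/
theorem A1_coe {n : ℕ} {i j : Fin n} (hij : i ≠ j) (hj : j ≠ Fin.rev j) (a : F) :
    (xs q hij a).1 = 1 + Matrix.single i j a - Matrix.single (Fin.rev j) (Fin.rev i) (a ^ q) := by
  show (SpecialLinearGroup.transvection hij a).1 *
    (SpecialLinearGroup.transvection (rev_ne hij) (-(a ^ q))).1 = _
  rw [SpecialLinearGroup.transvection_coe,
    SpecialLinearGroup.transvection_coe, mul_add, mul_one, add_mul, one_mul,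
    Matrix.single_mul_single_of_ne _ _ _ _ hj, add_zero, ← Matrix.single_neg, sub_eq_add_neg]

omit [Fintype F] in
/-- action of `1 + a E_ij - b E_kl` on a vector -/
theorem two_single_mulVec {n : ℕ} (i j k l : Fin n) (a b : F) (w : Fin n → F) :
    (1 + Matrix.single i j a - Matrix.single k l b : Matrix (Fin n) (Fin n) F) *ᵥ w =
      w + (a * w j) • Pi.single i 1 - (b * w l) • Pi.single k 1 := by
  rw [Matrix.sub_mulVec, Matrix.add_mulVec, Matrix.one_mulVec, Matrix.single_mulVec_eq,
    Matrix.single_mulVec_eq]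

theorem A1_mem (hF : Fintype.card F = q ^ 2) {n : ℕ} {i j : Fin n} (hij : i ≠ j)
    (hi : i ≠ Fin.rev i) (hj : j ≠ Fin.rev j) (a : F) : xs q hij a ∈ GJ n F q := by
  have hq : q ≠ 0 := by have := two_le_q hF; omega
  rw [mem_GJ]
  intro u v
  rw [A1_coe hij hj, two_single_mulVec, two_single_mulVec]
  have e1 : (Pi.single i (1 : F) : Fin n → F) (Fin.rev i) = 0 := Pi.single_eq_of_ne hi.symm _
  have e2 : (Pi.single (Fin.rev j) (1 : F) : Fin n → F) (Fin.rev i) = 0 :=
    Pi.single_eq_of_ne (rev_ne hij).symm _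
  have e3 : (Pi.single i (1 : F) : Fin n → F) j = 0 := Pi.single_eq_of_ne hij.symm _
  have e4 : (Pi.single (Fin.rev j) (1 : F) : Fin n → F) j = 0 := Pi.single_eq_of_ne hj _
  simp only [hermJ_add_left, hermJ_sub_left, hermJ_add_right hF, hermJ_sub_right hF,
    hermJ_smul_left, hermJ_smul_right, hermJ_single_left, Fin.rev_rev, e1, e2, e3, e4,
    zero_pow hq, mul_zero, sub_zero, add_zero, mul_pow, pow_q_pow_q hF]
  rw [hermJ_single_right hq, hermJ_single_right hq, Fin.rev_rev]
  ring

/-- the long root elements `1 + c E_{i, rev i}`, `c + c^q = 0` -/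
theorem A1_long (hF : Fintype.card F = q ^ 2) {n : ℕ} {i : Fin n} (hi : i ≠ Fin.rev i) (c : F)
    (hc : c + c ^ q = 0) : SpecialLinearGroup.transvection hi c ∈ GJ n F q := by
  have hq : q ≠ 0 := by have := two_le_q hF; omega
  rw [mem_GJ]
  intro u v
  have hg : ∀ w : Fin n → F, (SpecialLinearGroup.transvection hi c).1 *ᵥ w =
      w + (c * w (Fin.rev i)) • Pi.single i 1 := by
    intro w
    rw [SpecialLinearGroup.transvection_coe, Matrix.add_mulVec, Matrix.one_mulVec,
      Matrix.single_mulVec_eq]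
  rw [hg u, hg v]
  have e1 : (Pi.single i (1 : F) : Fin n → F) (Fin.rev i) = 0 := Pi.single_eq_of_ne hi.symm _
  simp only [hermJ_add_left, hermJ_add_right hF, hermJ_smul_left, hermJ_smul_right,
    hermJ_single_left, e1, zero_pow hq, mul_zero, add_zero, mul_pow]
  rw [hermJ_single_right hq]
  have : c ^ q = -c := eq_neg_of_add_eq_zero_right hc
  rw [this]
  ring

end Cfsg.Agent.Lib.Helper63_S5172_A1
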