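import Mathlib
import Cfsg.Prelude.Def_Classical
import Cfsg.Agent.Lib.Helper13_Herm
import Cfsg.Agent.Lib.Helper44_PSLnUT
import Cfsg.Agent.Lib.Helper88_PSLnFusDefs
import Cfsg.Agent.Lib.Helper88_PSUFusDefs
import Cfsg.Agent.Lib.Helper63_S5172_A1

/-!
S5172 package H5 (helper88's market): an upper triangular element of `GJ` is
`u * hhJ (0,1) s * t` with `u ∈ UJ` and `t` in the closure of `torusGens`.  helper63.
-/

set_option autoImplicit false

namespace Cfsg.Agent.Lib.Helper63_S5172_H5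

open Matrix Cfsg.Agent.Lib.Helper44_PSLnUT Cfsg.Agent.Lib.Helper88_PSLnFus
  Cfsg.Agent.Lib.Helper88_PSUFus Cfsg.Agent.Lib.Helper13_Herm Cfsg.Agent.Lib.Helper63_S5172_A1

variable {F : Type*} [Field F] [Fintype F] {q : ℕ}

/-- diagonal elements of `GJ` -/
theorem diag_mem_GJ (hF : Fintype.card F = q ^ 2) {n : ℕ} (g : SpecialLinearGroup (Fin n) F)
    (d : Fin n → F) (hg : g.1 = Matrix.diagonal d) :
    g ∈ GJ n F q ↔ ∀ k : Fin n, d k * (d (Fin.rev k)) ^ q = 1 := by
  have hq : q ≠ 0 := by have := two_le_q hF; omega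
  rw [mem_GJ_iff_entries hF, hg]
  have key : ∀ k l : Fin n,
      ∑ t, Matrix.diagonal d t k * (Matrix.diagonal d (Fin.rev t) l) ^ q =
      d k * (Matrix.diagonal d (Fin.rev k) l) ^ q := by
    intro k l
    rw [Finset.sum_eq_single k]
    · rw [Matrix.diagonal_apply_eq]
    · intro t _ ht
      rw [Matrix.diagonal_apply_ne _ ht, zero_mul]
    · intro h; exact absurd (Finset.mem_univ _) h
  constructor
  · intro h k
    have := h k (Fin.rev k)
    rw [key, Matrix.diagonal_apply_eq, Fin.rev_rev, if_pos rfl] at this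
    exact this
  · intro h k l
    rw [key]
    by_cases hkl : k = Fin.rev l
    · rw [if_pos hkl]
      subst hkl
      rw [Fin.rev_rev, Matrix.diagonal_apply_eq]
      have := h (Fin.rev l)
      rwa [Fin.rev_rev] at this
    · rw [if_neg hkl]
      have : Fin.rev k ≠ l := fun e => hkl (by rw [← e, Fin.rev_rev])
      rw [Matrix.diagonal_apply_ne _ this, zero_pow hq, mul_zero]

/-- the diagonal of an upper triangular element of `GJ` -/
theorem upper_diag (hF : Fintype.card F = q ^ 2) {n : ℕ} (b : SpecialLinearGroup (Fin n) F)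
    (hb : b ∈ GJ n F q) (hup : IsUpper b) (k : Fin n) :
    b.1 k k * (b.1 (Fin.rev k) (Fin.rev k)) ^ q = 1 := by
  have hq : q ≠ 0 := by have := two_le_q hF; omega
  have h := (mem_GJ_iff_entries hF b).1 hb k (Fin.rev k)
  rw [Fin.rev_rev, if_pos rfl] at h
  have h2 : ∑ t, b.1 t k * (b.1 (Fin.rev t) (Fin.rev k)) ^ q =
      b.1 k k * (b.1 (Fin.rev k) (Fin.rev k)) ^ q := by
    apply Finset.sum_eq_single k
    · intro t _ ht
      rcases lt_or_gt_of_ne ht with h1 | h1
      · rw [hup (Fin.rev t) (Fin.rev k) (Fin.rev_lt_rev.2 h1), zero_pow hq, mul_zero]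
      · rw [hup t k h1, zero_mul]
    · intro h'; exact absurd (Finset.mem_univ _) h'
  exact h2.symm.trans h

omit [Fintype F] in
theorem hhFun_mul_inv {n : ℕ} (i j : Fin n) (s : Fˣ) (k : Fin n) :
    hhFun i j s k * hhFun i j s⁻¹ k = 1 := by
  unfold hhFun
  by_cases h1 : k = i
  · rw [if_pos h1, if_pos h1]
    exact Units.mul_inv s
  · rw [if_neg h1, if_neg h1]
    by_cases h2 : k = j
    · rw [if_pos h2, if_pos h2, inv_inv]
      exact Units.inv_mul s
    · rw [if_neg h2, if_neg h2, one_mul]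

omit [Fintype F] in
theorem hhFun_ne_zero {n : ℕ} (i j : Fin n) (s : Fˣ) (k : Fin n) : hhFun i j s k ≠ 0 := by
  unfold hhFun
  by_cases h1 : k = i
  · rw [if_pos h1]
    exact s.ne_zero
  · rw [if_neg h1]
    by_cases h2 : k = j
    · rw [if_pos h2]
      exact (s⁻¹).ne_zero
    · rw [if_neg h2]
      exact one_ne_zero

omit [Fintype F] in
theorem hhFun_of_ne {n : ℕ} {i j : Fin n} (s : Fˣ) {k : Fin n} (h1 : k ≠ i) (h2 : k ≠ j) :
    hhFun i j s k = 1 := by
  unfold hhFun
  rw [if_neg h1, if_neg h2]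

omit [Fintype F] in
theorem hhFun_self {n : ℕ} (i j : Fin n) (s : Fˣ) : hhFun i j s i = (s : F) := by
  unfold hhFun
  rw [if_pos rfl]

omit [Fintype F] in
theorem hhFun_rev {n : ℕ} {i j : Fin n} (hij : i ≠ j) (s : Fˣ) (k : Fin n) :
    hhFun (Fin.rev j) (Fin.rev i) (s ^ q) k = ((hhFun i j s (Fin.rev k)) ^ q)⁻¹ := by
  unfold hhFun
  by_cases h1 : k = Fin.rev j
  · have e1 : Fin.rev k = j := by rw [h1, Fin.rev_rev]
    rw [if_pos h1, e1, if_neg hij.symm, if_pos rfl, Units.val_pow_eq_pow_val,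
      Units.val_inv_eq_inv_val, inv_pow, inv_inv]
  · have e1 : Fin.rev k ≠ j := fun e => h1 (by rw [← e, Fin.rev_rev])
    rw [if_neg h1]
    by_cases h2 : k = Fin.rev i
    · have e2 : Fin.rev k = i := by rw [h2, Fin.rev_rev]
      rw [if_pos h2, e2, if_pos rfl, Units.val_inv_eq_inv_val, Units.val_pow_eq_pow_val]
    · have e2 : Fin.rev k ≠ i := fun e => h2 (by rw [← e, Fin.rev_rev])
      rw [if_neg h2, if_neg e2, if_neg e1, one_pow, inv_one]

theorem twist_cond (hF : Fintype.card F = q ^ 2) {n : ℕ} (f : Fin n → F) (hf : ∀ k, f k ≠ 0)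
    (k : Fin n) :
    (f k * ((f (Fin.rev k)) ^ q)⁻¹) *
      (f (Fin.rev k) * ((f (Fin.rev (Fin.rev k))) ^ q)⁻¹) ^ q = 1 := by
  rw [Fin.rev_rev, mul_pow, inv_pow, pow_q_pow_q hF]
  have h1 := hf k
  have h2 : f (Fin.rev k) ^ q ≠ 0 := pow_ne_zero _ (hf _)
  field_simp

omit [Fintype F] in
/-- the matrix of `hhJ`-like products -/
theorem hh_mul_hh_coe {n : ℕ} {i j k l : Fin n} (hij : i ≠ j) (hkl : k ≠ l) (s t : Fˣ) :
    (hh hij s * hh hkl t).1 = Matrix.diagonal (fun x => hhFun i j s x * hhFun k l t x) := by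
  show (hh hij s).1 * (hh hkl t).1 = _
  rw [hh_coe, hh_coe, Matrix.diagonal_mul_diagonal]

/-- an element with the diagonal of a twisted pair `hh hij s * hh (rev j, rev i) (s^q)` lies
in `GJ` -/
theorem twisted_mem_GJ' (hF : Fintype.card F = q ^ 2) {n : ℕ} {i j : Fin n} (hij : i ≠ j)
    (s : Fˣ) (h : SpecialLinearGroup (Fin n) F)
    (hh' : h.1 = Matrix.diagonal
      (fun x => hhFun i j s x * hhFun (Fin.rev j) (Fin.rev i) (s ^ q) x)) : h ∈ GJ n F q := by
  rw [diag_mem_GJ hF _ _ hh']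
  intro k
  show hhFun i j s k * hhFun (Fin.rev j) (Fin.rev i) (s ^ q) k *
    (hhFun i j s (Fin.rev k) * hhFun (Fin.rev j) (Fin.rev i) (s ^ q) (Fin.rev k)) ^ q = 1
  rw [hhFun_rev hij, hhFun_rev hij]
  exact twist_cond hF _ (hhFun_ne_zero i j s) k

omit [Fintype F] in
theorem hhJ_coe {n : ℕ} {i j : Fin n} (hij : i ≠ j) (s : Fˣ) :
    (hhJ q hij s).1 = Matrix.diagonal
      (fun x => hhFun i j s x * hhFun (Fin.rev j) (Fin.rev i) (s ^ q) x) :=
  hh_mul_hh_coe hij (rev_ne hij) s (s ^ q)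

/-- `hhJ ∈ GJ` (no distinctness of the four indices needed) -/
theorem hhJ_mem_GJ (hF : Fintype.card F = q ^ 2) {n : ℕ} {i j : Fin n} (hij : i ≠ j)
    (s : Fˣ) : hhJ q hij s ∈ GJ n F q :=
  twisted_mem_GJ' hF hij s _ (hhJ_coe hij s)

omit [Fintype F] in
theorem hhJ_mul_inv {n : ℕ} {i j : Fin n} (hij : i ≠ j) (s : Fˣ) :
    hhJ q hij s * hhJ q hij s⁻¹ = 1 := by
  apply Subtype.ext
  show (hhJ q hij s).1 * (hhJ q hij s⁻¹).1 = 1
  rw [hhJ_coe, hhJ_coe, Matrix.diagonal_mul_diagonal, ← Matrix.diagonal_one]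
  congr 1
  funext k
  rw [inv_pow]
  calc hhFun i j s k * hhFun (Fin.rev j) (Fin.rev i) (s ^ q) k *
        (hhFun i j s⁻¹ k * hhFun (Fin.rev j) (Fin.rev i) (s ^ q)⁻¹ k)
      = (hhFun i j s k * hhFun i j s⁻¹ k) *
        (hhFun (Fin.rev j) (Fin.rev i) (s ^ q) k *
          hhFun (Fin.rev j) (Fin.rev i) (s ^ q)⁻¹ k) := by ring
    _ = 1 := by rw [hhFun_mul_inv, hhFun_mul_inv, one_mul]

/-- `hh (i, rev i) s ∈ GJ` when `s^q = s` -/
theorem hh_self_mem_GJ (hF : Fintype.card F = q ^ 2) {n : ℕ} {i : Fin n} (hi : i ≠ Fin.rev i)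
    (s : Fˣ) (hs : (s : F) ^ q = (s : F)) : hh hi s ∈ GJ n F q := by
  rw [diag_mem_GJ hF _ _ (hh_coe hi s)]
  intro k
  have hs0 : (s : F) ≠ 0 := s.ne_zero
  by_cases h1 : k = i
  · subst h1
    unfold hhFun
    rw [if_pos rfl, if_neg hi.symm, if_pos rfl, Units.val_inv_eq_inv_val, inv_pow, hs]
    exact mul_inv_cancel₀ hs0
  · by_cases h2 : k = Fin.rev i
    · subst h2
      unfold hhFun
      rw [if_neg h1, if_pos rfl, Fin.rev_rev, if_pos rfl, Units.val_inv_eq_inv_val, hs]
      exact inv_mul_cancel₀ hs0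
    · have e1 : Fin.rev k ≠ i := fun e => h2 (by rw [← e, Fin.rev_rev])
      have e2 : Fin.rev k ≠ Fin.rev i := fun e => h1 (Fin.rev_injective e)
      rw [hhFun_of_ne s h1 h2, hhFun_of_ne s e1 e2, one_pow, one_mul]

theorem diag_facts (hF : Fintype.card F = q ^ 2) {n : ℕ} {g : SpecialLinearGroup (Fin n) F}
    (hg : g ∈ GJ n F q) {d : Fin n → F} (hgd : g.1 = Matrix.diagonal d) :
    (∀ k, d k * (d (Fin.rev k)) ^ q = 1) ∧ (∏ k, d k = 1) ∧
      (∀ k, d k = 1 → d (Fin.rev k) = 1) := by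
  have h1 := (diag_mem_GJ hF g d hgd).1 hg
  refine ⟨h1, ?_, ?_⟩
  · have := g.2
    rw [hgd, Matrix.det_diagonal] at this
    exact this
  · intro k hk
    have h2 := h1 k
    rw [hk, one_mul] at h2
    calc d (Fin.rev k) = ((d (Fin.rev k)) ^ q) ^ q := (pow_q_pow_q hF _).symm
      _ = 1 := by rw [h2, one_pow]

omit [Fintype F] in
/-- peeling step -/
theorem peel {n : ℕ} (j : ℕ)
    (IH : ∀ g : SpecialLinearGroup (Fin n) F, g ∈ GJ n F q → ∀ d : Fin n → F,
      g.1 = Matrix.diagonal d → (∀ k : Fin n, k.val < j + 1 → d k = 1) →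
      g ∈ Subgroup.closure (torusGens n F q))
    (g : SpecialLinearGroup (Fin n) F) (hg : g ∈ GJ n F q) (d : Fin n → F)
    (hgd : g.1 = Matrix.diagonal d) (hd : ∀ k : Fin n, k.val < j → d k = 1)
    (h : SpecialLinearGroup (Fin n) F) (hh1 : h ∈ torusGens n F q) (hh2 : h ∈ GJ n F q)
    (e : Fin n → F) (he : h.1 = Matrix.diagonal e) (he1 : ∀ k : Fin n, k.val < j → e k = 1)
    (he2 : ∀ k : Fin n, k.val = j → d k * e k = 1) :
    g ∈ Subgroup.closure (torusGens n F q) := by
  have h1 : g * h ∈ Subgroup.closure (torusGens n F q) := by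
    apply IH (g * h) ((GJ n F q).mul_mem hg hh2) (fun k => d k * e k)
    · show g.1 * h.1 = _
      rw [hgd, he, Matrix.diagonal_mul_diagonal]
    · intro k hk
      by_cases hkj : k.val < j
      · show d k * e k = 1
        rw [hd k hkj, he1 k hkj, one_mul]
      · exact he2 k (by omega)
  have h2 : g = (g * h) * h⁻¹ := by group
  rw [h2]
  exact Subgroup.mul_mem _ h1 (Subgroup.inv_mem _ (Subgroup.subset_closure hh1))

theorem ne_of_val_ne {n : ℕ} {k l : Fin n} (h : k.val ≠ l.val) : k ≠ l :=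
  fun e => h (congrArg Fin.val e)

/-- the torus induction -/
theorem torus_mem (hF : Fintype.card F = q ^ 2) (n : ℕ) : ∀ c j : ℕ, j + c = n / 2 → 1 ≤ j →
    ∀ g : SpecialLinearGroup (Fin n) F, g ∈ GJ n F q → ∀ d : Fin n → F,
      g.1 = Matrix.diagonal d → (∀ k : Fin n, k.val < j → d k = 1) →
      g ∈ Subgroup.closure (torusGens n F q) := by
  intro c
  induction c with
  | zero =>
    intro j hj h1 g hg d hgd hd
    obtain ⟨f1, f2, f3⟩ := diag_facts hF hg hgd
    have hlow : ∀ k : Fin n, (k.val < j ∨ (Fin.rev k).val < j) → d k = 1 := by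
      intro k hk
      rcases hk with hk | hk
      · exact hd k hk
      · have := f3 (Fin.rev k) (hd _ hk)
        rwa [Fin.rev_rev] at this
    have hall : ∀ k, d k = 1 := by
      intro k
      by_cases hk : k.val < j ∨ (Fin.rev k).val < j
      · exact hlow k hk
      · have huniq : ∀ k' : Fin n, k' ≠ k → d k' = 1 := by
          intro k' hk'
          by_cases hk2 : k'.val < j ∨ (Fin.rev k').val < j
          · exact hlow k' hk2
          · exfalso
            apply hk'
            apply Fin.ext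
            rw [Fin.val_rev] at hk hk2
            have := k.isLt
            have := k'.isLt
            omega
        rw [Finset.prod_eq_single k (fun k' _ hk' => huniq k' hk')
          (fun h => absurd (Finset.mem_univ _) h)] at f2
        exact f2
    have : g = 1 := by
      apply Subtype.ext
      rw [hgd]
      show Matrix.diagonal d = 1
      rw [← Matrix.diagonal_one]
      congr 1
      funext k
      exact hall k
    rw [this]
    exact Subgroup.one_mem _
  | succ c ih =>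
    intro j hj h1 g hg d hgd hd
    have IH := ih (j + 1) (by omega) (by omega)
    obtain ⟨f1, f2, f3⟩ := diag_facts hF hg hgd
    have hjn : j < n := by omega
    have hdj : d ⟨j, hjn⟩ ≠ 0 := by
      intro h0
      have := f1 ⟨j, hjn⟩
      rw [h0, zero_mul] at this
      exact zero_ne_one this
    have hds : d ⟨j, hjn⟩ * ((Units.mk0 (d ⟨j, hjn⟩) hdj)⁻¹ : Fˣ) = 1 := by
      rw [Units.val_inv_eq_inv_val, Units.val_mk0]
      exact mul_inv_cancel₀ hdj
    by_cases hc : c = 0
    · -- last step: `j + 1 = n / 2`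
      subst hc
      have hrv : (Fin.rev (⟨j, hjn⟩ : Fin n)).val = n - (j + 1) := Fin.val_rev _
      rcases Nat.even_or_odd n with hev | hodd
      · -- `n` even: family 2
        obtain ⟨r, hr⟩ := hev
        have hi : (⟨j, hjn⟩ : Fin n) ≠ Fin.rev ⟨j, hjn⟩ := by
          apply ne_of_val_ne
          rw [hrv]
          show j ≠ n - (j + 1)
          omega
        -- all other entries are trivial
        have hoth : ∀ k : Fin n, k ≠ ⟨j, hjn⟩ ∧ k ≠ Fin.rev ⟨j, hjn⟩ → d k = 1 := by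
          rintro k ⟨hk1, hk2⟩
          have hkv1 : k.val ≠ j := fun e => hk1 (Fin.ext e)
          have hkv2 : k.val ≠ n - (j + 1) := fun e => hk2 (Fin.ext (by rw [hrv]; exact e))
          by_cases hk : k.val < j
          · exact hd k hk
          · have h3 : (Fin.rev k).val < j := by
              rw [Fin.val_rev]
              have := k.isLt
              omega
            have := f3 (Fin.rev k) (hd _ h3)
            rwa [Fin.rev_rev] at this
        have hprod : d ⟨j, hjn⟩ * d (Fin.rev ⟨j, hjn⟩) = 1 := by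
          rw [← f2]
          symm
          exact Finset.prod_eq_mul _ _ hi (fun k _ hk => hoth k hk)
            (fun h => absurd (Finset.mem_univ _) h) (fun h => absurd (Finset.mem_univ _) h)
        have hq1 : (d ⟨j, hjn⟩) ^ q = d ⟨j, hjn⟩ := by
          have h4 := f1 (Fin.rev ⟨j, hjn⟩)
          rw [Fin.rev_rev] at h4
          have h5 : d (Fin.rev ⟨j, hjn⟩) ≠ 0 := by
            intro h0
            rw [h0, mul_zero] at hprod
            exact zero_ne_one hprod
          apply mul_left_cancel₀ h5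
          rw [h4, mul_comm, hprod]
        have hsq : (((Units.mk0 (d ⟨j, hjn⟩) hdj)⁻¹ : Fˣ) : F) ^ q =
            (((Units.mk0 (d ⟨j, hjn⟩) hdj)⁻¹ : Fˣ) : F) := by
          rw [Units.val_inv_eq_inv_val, Units.val_mk0, inv_pow, hq1]
        refine peel j IH g hg d hgd hd (hh hi (Units.mk0 (d ⟨j, hjn⟩) hdj)⁻¹) ?_
          (hh_self_mem_GJ hF hi _ hsq) _ (hh_coe hi _) ?_ ?_
        · right; left
          refine ⟨⟨j, hjn⟩, hi, (Units.mk0 (d ⟨j, hjn⟩) hdj)⁻¹, ?_, hsq, rfl⟩
          rw [hrv]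
          show j + 1 = n - (j + 1)
          omega
        · intro k hk
          apply hhFun_of_ne
          · apply ne_of_val_ne
            show k.val ≠ j
            omega
          · apply ne_of_val_ne
            rw [hrv]
            omega
        · intro k hk
          have : k = ⟨j, hjn⟩ := Fin.ext hk
          rw [this, hhFun_self]
          exact hds
      · -- `n` odd: family 3
        obtain ⟨r, hr⟩ := hodd
        have hmn : j + 1 < n := by omega
        have him : (⟨j, hjn⟩ : Fin n) ≠ ⟨j + 1, hmn⟩ := by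
          apply ne_of_val_ne
          show j ≠ j + 1
          omega
        have hm : Fin.rev (⟨j + 1, hmn⟩ : Fin n) = ⟨j + 1, hmn⟩ := by
          apply Fin.ext
          rw [Fin.val_rev]
          show n - (j + 1 + 1) = j + 1
          omega
        have hcoe : (hh him (Units.mk0 (d ⟨j, hjn⟩) hdj)⁻¹ *
            hh (ne_rev_of_mid him hm) ((Units.mk0 (d ⟨j, hjn⟩) hdj)⁻¹ ^ q)).1 =
            Matrix.diagonal (fun x => hhFun ⟨j, hjn⟩ ⟨j + 1, hmn⟩ (Units.mk0 (d ⟨j, hjn⟩) hdj)⁻¹ x *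
              hhFun (Fin.rev ⟨j + 1, hmn⟩) (Fin.rev ⟨j, hjn⟩)
                ((Units.mk0 (d ⟨j, hjn⟩) hdj)⁻¹ ^ q) x) := by
          rw [hh_mul_hh_coe, hm]
        refine peel j IH g hg d hgd hd _ ?_ (twisted_mem_GJ' hF him _ _ hcoe) _ hcoe ?_ ?_
        · right; right
          exact ⟨⟨j, hjn⟩, ⟨j + 1, hmn⟩, him, hm, (Units.mk0 (d ⟨j, hjn⟩) hdj)⁻¹, rfl, rfl⟩
        · intro k hk
          show hhFun _ _ _ k * hhFun _ _ _ k = 1
          rw [hhFun_of_ne, hhFun_of_ne, one_mul]
          · apply ne_of_val_ne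
            rw [hm]
            show k.val ≠ j + 1
            omega
          · apply ne_of_val_ne
            rw [hrv]
            omega
          · apply ne_of_val_ne
            show k.val ≠ j
            omega
          · apply ne_of_val_ne
            show k.val ≠ j + 1
            omega
        · intro k hk
          have : k = ⟨j, hjn⟩ := Fin.ext hk
          show d k * (hhFun _ _ _ k * hhFun _ _ _ k) = 1
          rw [this, hhFun_self, hhFun_of_ne, mul_one]
          · exact hds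
          · rw [hm]
            exact him
          · apply ne_of_val_ne
            rw [hrv]
            show j ≠ n - (j + 1)
            omega
    · -- family 1
      have hj1n : j + 1 < n := by omega
      have hne : (⟨j, hjn⟩ : Fin n) ≠ ⟨j + 1, hj1n⟩ := by
        apply ne_of_val_ne
        show j ≠ j + 1
        omega
      have hrv : (Fin.rev (⟨j, hjn⟩ : Fin n)).val = n - (j + 1) := Fin.val_rev _
      have hrv1 : (Fin.rev (⟨j + 1, hj1n⟩ : Fin n)).val = n - (j + 1 + 1) := Fin.val_rev _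
      refine peel j IH g hg d hgd hd (hhJ q hne (Units.mk0 (d ⟨j, hjn⟩) hdj)⁻¹) ?_
        (hhJ_mem_GJ hF hne _) _ (hhJ_coe hne _) ?_ ?_
      · left
        refine ⟨⟨j, hjn⟩, ⟨j + 1, hj1n⟩, hne, (Units.mk0 (d ⟨j, hjn⟩) hdj)⁻¹, ?_, ?_, ?_, ?_, rfl⟩
        · show 0 < j
          omega
        · show j < n / 2
          omega
        · show 0 < j + 1
          omega
        · show j + 1 < n / 2
          omega
      · intro k hk
        show hhFun _ _ _ k * hhFun _ _ _ k = 1
        rw [hhFun_of_ne, hhFun_of_ne, one_mul]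
        · apply ne_of_val_ne
          rw [hrv1]
          omega
        · apply ne_of_val_ne
          rw [hrv]
          omega
        · apply ne_of_val_ne
          show k.val ≠ j
          omega
        · apply ne_of_val_ne
          show k.val ≠ j + 1
          omega
      · intro k hk
        have : k = ⟨j, hjn⟩ := Fin.ext hk
        show d k * (hhFun _ _ _ k * hhFun _ _ _ k) = 1
        rw [this, hhFun_self, hhFun_of_ne, mul_one]
        · exact hds
        · apply ne_of_val_ne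
          rw [hrv1]
          show j ≠ n - (j + 1 + 1)
          omega
        · apply ne_of_val_ne
          rw [hrv]
          show j ≠ n - (j + 1)
          omega

/-- **H5**  decomposition of the upper triangular elements of `GJ`. -/
theorem H5 (hF : Fintype.card F = q ^ 2) (n : ℕ) (hn : 4 ≤ n)
    (b : SpecialLinearGroup (Fin n) F) (hb : b ∈ GJ n F q) (hup : IsUpper b) :
    ∃ u ∈ UJ n F q, ∃ (i0 i1 : Fin n) (h01 : i0 ≠ i1) (s : Fˣ), i0.val = 0 ∧ i1.val = 1 ∧
      ∃ t ∈ Subgroup.closure (torusGens n F q), b = u * hhJ q h01 s * t := by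
  have hdiag := upper_diag hF b hb hup
  have hne : ∀ k, b.1 k k ≠ 0 := by
    intro k h0
    have := hdiag k
    rw [h0, zero_mul] at this
    exact zero_ne_one this
  have hdet : ∏ k, b.1 k k = 1 := by
    have h1 := b.2
    rw [Matrix.det_of_isUpperTriangular (M := b.1) (fun i j hij => hup i j hij)] at h1
    exact h1
  let D : SpecialLinearGroup (Fin n) F :=
    ⟨Matrix.diagonal (fun k => b.1 k k), by rw [Matrix.det_diagonal]; exact hdet⟩
  let Di : SpecialLinearGroup (Fin n) F :=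
    ⟨Matrix.diagonal (fun k => (b.1 k k)⁻¹), by
      rw [Matrix.det_diagonal, Finset.prod_inv_distrib, hdet, inv_one]⟩
  have hDcoe : D.1 = Matrix.diagonal (fun k => b.1 k k) := rfl
  have hDicoe : Di.1 = Matrix.diagonal (fun k => (b.1 k k)⁻¹) := rfl
  have hDiD : Di * D = 1 := by
    apply Subtype.ext
    show Di.1 * D.1 = 1
    rw [hDcoe, hDicoe, Matrix.diagonal_mul_diagonal, ← Matrix.diagonal_one]
    congr 1
    funext k
    exact inv_mul_cancel₀ (hne k)
  have hD : D ∈ GJ n F q := (diag_mem_GJ hF D _ hDcoe).2 hdiag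
  have hDi : Di ∈ GJ n F q := by
    have h1 : Di = D⁻¹ := eq_inv_of_mul_eq_one_left hDiD
    rw [h1]
    exact (GJ n F q).inv_mem hD
  have hu : b * Di ∈ UJ n F q := by
    refine mem_UJ.2 ⟨(GJ n F q).mul_mem hb hDi, ?_⟩
    rw [mem_UT]
    have hc : (b * Di).1 = b.1 * Matrix.diagonal (fun k => (b.1 k k)⁻¹) := rfl
    rw [hc]
    refine ⟨?_, ?_⟩
    · intro i j hij
      rw [Matrix.mul_diagonal, hup i j hij, zero_mul]
    · intro i
      rw [Matrix.mul_diagonal]
      exact mul_inv_cancel₀ (hne i)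
  have h0n : 0 < n := by omega
  have h1n : 1 < n := by omega
  have h01 : (⟨0, h0n⟩ : Fin n) ≠ ⟨1, h1n⟩ := by
    apply ne_of_val_ne
    show (0 : ℕ) ≠ 1
    omega
  have hrv0 : (Fin.rev (⟨0, h0n⟩ : Fin n)).val = n - (0 + 1) := Fin.val_rev _
  have hrv1 : (Fin.rev (⟨1, h1n⟩ : Fin n)).val = n - (1 + 1) := Fin.val_rev _
  have hT : hhJ q h01 (Units.mk0 _ (hne ⟨0, h0n⟩))⁻¹ * D ∈
      Subgroup.closure (torusGens n F q) := by
    refine torus_mem hF n (n / 2 - 1) 1 (by omega) le_rfl _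
      ((GJ n F q).mul_mem (hhJ_mem_GJ hF h01 _) hD)
      (fun x => (hhFun ⟨0, h0n⟩ ⟨1, h1n⟩ (Units.mk0 _ (hne ⟨0, h0n⟩))⁻¹ x *
        hhFun (Fin.rev ⟨1, h1n⟩) (Fin.rev ⟨0, h0n⟩) ((Units.mk0 _ (hne ⟨0, h0n⟩))⁻¹ ^ q) x) *
        b.1 x x) ?_ ?_
    · show (hhJ q h01 (Units.mk0 _ (hne ⟨0, h0n⟩))⁻¹).1 * D.1 = _
      rw [hhJ_coe, hDcoe, Matrix.diagonal_mul_diagonal]
    · intro k hk
      have : k = ⟨0, h0n⟩ := Fin.ext (by show k.val = 0; omega)
      show hhFun _ _ _ k * hhFun _ _ _ k * b.1 k k = 1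
      rw [this, hhFun_self, hhFun_of_ne, mul_one, Units.val_inv_eq_inv_val, Units.val_mk0]
      · exact inv_mul_cancel₀ (hne _)
      · apply ne_of_val_ne
        rw [hrv1]
        show (0 : ℕ) ≠ n - (1 + 1)
        omega
      · apply ne_of_val_ne
        rw [hrv0]
        show (0 : ℕ) ≠ n - (0 + 1)
        omega
  refine ⟨b * Di, hu, ⟨0, h0n⟩, ⟨1, h1n⟩, h01, Units.mk0 _ (hne ⟨0, h0n⟩), rfl, rfl,
    _, hT, ?_⟩
  calc b = b * (Di * D) := by rw [hDiD, mul_one]
    _ = b * Di * (hhJ q h01 (Units.mk0 _ (hne ⟨0, h0n⟩)) *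
          hhJ q h01 (Units.mk0 _ (hne ⟨0, h0n⟩))⁻¹) * D := by
        rw [hhJ_mul_inv, mul_one, mul_assoc]
    _ = b * Di * hhJ q h01 (Units.mk0 _ (hne ⟨0, h0n⟩)) *
          (hhJ q h01 (Units.mk0 _ (hne ⟨0, h0n⟩))⁻¹ * D) := by
        simp only [mul_assoc]

end Cfsg.Agent.Lib.Helper63_S5172_H5
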