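import Mathlib
import Cfsg.Agent.Lib.Helper88_PSLnFusDefs

/-!
# S5172-H3 (helper7, for helper88's S5172 market)

The `SL_2` identities with a parameter `ε` inside `SL_n(K)`.  A `2 × 2` matrix is placed at the
rows / columns `i, j` by the multiplicative map `psi i j`; elementary transvections and the torus
elements `hh hij t` are images, so the identities reduce to `2 × 2` computations.
-/

set_option autoImplicit false
set_option linter.unusedSectionVars false
set_option linter.unusedVariables false
set_option linter.unusedSimpArgs false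

namespace Cfsg.Agent.Lib.Helper7_S5172_H3

open Matrix Cfsg.Agent.Lib.Helper88_PSLnFus

variable {K : Type*} [Field K] {n : ℕ}

/-- a `2 × 2` matrix placed at the rows / columns `i, j` -/
def psi (i j : Fin n) (M : Matrix (Fin 2) (Fin 2) K) : Matrix (Fin n) (Fin n) K :=
  (1 - single i i 1 - single j j 1) + single i i (M 0 0) + single i j (M 0 1) +
    single j i (M 1 0) + single j j (M 1 1)

theorem psi_mul {i j : Fin n} (hij : i ≠ j) (M N : Matrix (Fin 2) (Fin 2) K) :
    psi i j M * psi i j N = psi i j (M * N) := by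
  have e00 : (M * N) 0 0 = M 0 0 * N 0 0 + M 0 1 * N 1 0 := by
    rw [Matrix.mul_apply, Fin.sum_univ_two]
  have e01 : (M * N) 0 1 = M 0 0 * N 0 1 + M 0 1 * N 1 1 := by
    rw [Matrix.mul_apply, Fin.sum_univ_two]
  have e10 : (M * N) 1 0 = M 1 0 * N 0 0 + M 1 1 * N 1 0 := by
    rw [Matrix.mul_apply, Fin.sum_univ_two]
  have e11 : (M * N) 1 1 = M 1 0 * N 0 1 + M 1 1 * N 1 1 := by
    rw [Matrix.mul_apply, Fin.sum_univ_two]
  unfold psi
  rw [e00, e01, e10, e11]
  simp only [Matrix.add_mul, Matrix.mul_add, Matrix.sub_mul, Matrix.mul_sub, Matrix.one_mul,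
    Matrix.mul_one, single_mul_single_same, single_mul_single_of_ne _ _ _ _ hij,
    single_mul_single_of_ne _ _ _ _ hij.symm, mul_one, one_mul, Matrix.single_add, sub_zero,
    add_zero, zero_add]
  abel

/-- the upper elementary `2 × 2` matrix -/
def U2 (a : K) : Matrix (Fin 2) (Fin 2) K := !![1, a; 0, 1]

/-- the lower elementary `2 × 2` matrix -/
def L2 (a : K) : Matrix (Fin 2) (Fin 2) K := !![1, 0; a, 1]

/-- the diagonal `2 × 2` matrix -/
def D2 (a b : K) : Matrix (Fin 2) (Fin 2) K := !![a, 0; 0, b]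

theorem psi_U2 {i j : Fin n} (hij : i ≠ j) (a : K) :
    psi i j (U2 a) = (SpecialLinearGroup.transvection hij a).1 := by
  rw [SpecialLinearGroup.transvection_coe]
  unfold psi U2
  simp only [Matrix.of_apply, Matrix.cons_val', Matrix.cons_val_zero, Matrix.cons_val_one,
    Matrix.cons_val_fin_one, Matrix.single_zero]
  abel

theorem psi_L2 {i j : Fin n} (hij : i ≠ j) (a : K) :
    psi i j (L2 a) = (SpecialLinearGroup.transvection hij.symm a).1 := by
  rw [SpecialLinearGroup.transvection_coe]
  unfold psi L2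
  simp only [Matrix.of_apply, Matrix.cons_val', Matrix.cons_val_zero, Matrix.cons_val_one,
    Matrix.cons_val_fin_one, Matrix.single_zero]
  abel

theorem psi_D2 {i j : Fin n} (hij : i ≠ j) (t : Kˣ) :
    psi i j (D2 (t : K) ((t⁻¹ : Kˣ) : K)) = (hh hij t).1 := by
  rw [hh_coe]
  unfold psi D2
  simp only [Matrix.of_apply, Matrix.cons_val', Matrix.cons_val_zero, Matrix.cons_val_one,
    Matrix.cons_val_fin_one, Matrix.single_zero, add_zero]
  ext a b
  simp only [Matrix.add_apply, Matrix.sub_apply, Matrix.one_apply, Matrix.single_apply,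
    Matrix.diagonal_apply, hhFun]
  have hji : j ≠ i := hij.symm
  by_cases hab : a = b
  · subst hab
    by_cases hai : a = i
    · subst hai
      simp [hij, hji]
    · have hia : ¬ i = a := fun h => hai h.symm
      by_cases haj : a = j
      · subst haj
        simp [hij, hji]
      · have hja : ¬ j = a := fun h => haj h.symm
        simp [hai, hia, haj, hja]
  · by_cases hai : i = a
    · subst hai
      have : ¬ i = b := hab
      simp [hab, this, hij, hji]
    · by_cases haj : j = a
      · subst haj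
        have : ¬ j = b := hab
        simp [hab, this, hij, hji]
      · simp [hab, hai, haj]

/-- `2 × 2` version of H3a -/
theorem H3a_two (a ε : Kˣ) :
    D2 ((a * ε⁻¹ : Kˣ) : K) (((a * ε⁻¹)⁻¹ : Kˣ) : K) =
      U2 (a : K) * L2 (-((a⁻¹ : Kˣ) : K)) * U2 (a : K) * U2 (-(ε : K)) *
        L2 ((ε⁻¹ : Kˣ) : K) * U2 (-(ε : K)) := by
  have ha : (a : K) ≠ 0 := a.ne_zero
  have he : (ε : K) ≠ 0 := ε.ne_zero
  unfold D2 U2 L2
  ext r c
  fin_cases r <;> fin_cases c <;>
    simp [Matrix.mul_apply, Fin.sum_univ_two] <;> field_simp <;> ring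

/-- `2 × 2` version of H3b (inverse-free form) -/
theorem H3b_two (a : K) (ε : Kˣ) :
    L2 a * (U2 (ε : K) * L2 (-((ε⁻¹ : Kˣ) : K)) * U2 (ε : K)) =
      (U2 (ε : K) * L2 (-((ε⁻¹ : Kˣ) : K)) * U2 (ε : K)) * U2 (-(a * (ε : K) ^ 2)) := by
  have he : (ε : K) ≠ 0 := ε.ne_zero
  unfold U2 L2
  ext r c
  fin_cases r <;> fin_cases c <;>
    simp [Matrix.mul_apply, Fin.sum_univ_two] <;> field_simp <;> ring

/-- **H3a** -/
theorem H3a {K : Type*} [Field K] {n : ℕ} {i j : Fin n} (hij : i ≠ j) (a ε : Kˣ) :
    hh hij (a * ε⁻¹) =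
      SpecialLinearGroup.transvection hij (a : K) *
      SpecialLinearGroup.transvection hij.symm (-((a⁻¹ : Kˣ) : K)) *
      SpecialLinearGroup.transvection hij (a : K) *
      SpecialLinearGroup.transvection hij (-(ε : K)) *
      SpecialLinearGroup.transvection hij.symm ((ε⁻¹ : Kˣ) : K) *
      SpecialLinearGroup.transvection hij (-(ε : K)) := by
  apply Subtype.ext
  show (hh hij (a * ε⁻¹)).1 =
      (SpecialLinearGroup.transvection hij (a : K)).1 *
      (SpecialLinearGroup.transvection hij.symm (-((a⁻¹ : Kˣ) : K))).1 *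
      (SpecialLinearGroup.transvection hij (a : K)).1 *
      (SpecialLinearGroup.transvection hij (-(ε : K))).1 *
      (SpecialLinearGroup.transvection hij.symm ((ε⁻¹ : Kˣ) : K)).1 *
      (SpecialLinearGroup.transvection hij (-(ε : K))).1
  rw [← psi_D2 hij, H3a_two a ε]
  simp only [← psi_mul hij, psi_U2 hij, psi_L2 hij]

/-- **H3b** -/
theorem H3b {K : Type*} [Field K] {n : ℕ} {i j : Fin n} (hij : i ≠ j) (a : K) (ε : Kˣ) :
    SpecialLinearGroup.transvection hij.symm a =
      (SpecialLinearGroup.transvection hij (ε : K) *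
        SpecialLinearGroup.transvection hij.symm (-((ε⁻¹ : Kˣ) : K)) *
        SpecialLinearGroup.transvection hij (ε : K)) *
      SpecialLinearGroup.transvection hij (-(a * (ε : K) ^ 2)) *
      (SpecialLinearGroup.transvection hij (ε : K) *
        SpecialLinearGroup.transvection hij.symm (-((ε⁻¹ : Kˣ) : K)) *
        SpecialLinearGroup.transvection hij (ε : K))⁻¹ := by
  rw [eq_mul_inv_iff_mul_eq]
  apply Subtype.ext
  show (SpecialLinearGroup.transvection hij.symm a).1 *
      ((SpecialLinearGroup.transvection hij (ε : K)).1 *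
        (SpecialLinearGroup.transvection hij.symm (-((ε⁻¹ : Kˣ) : K))).1 *
        (SpecialLinearGroup.transvection hij (ε : K)).1) =
      ((SpecialLinearGroup.transvection hij (ε : K)).1 *
        (SpecialLinearGroup.transvection hij.symm (-((ε⁻¹ : Kˣ) : K))).1 *
        (SpecialLinearGroup.transvection hij (ε : K)).1) *
      (SpecialLinearGroup.transvection hij (-(a * (ε : K) ^ 2))).1
  simp only [← psi_U2 hij, ← psi_L2 hij, psi_mul hij]
  rw [H3b_two a ε]

end Cfsg.Agent.Lib.Helper7_S5172_H3
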