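import Mathlib
import Cfsg.Prelude.Def_Classical
import Cfsg.Agent.Lib.Helper44_PSLnUT
import Cfsg.Agent.Lib.Helper88_PSLnFusDefs
import Cfsg.Agent.Lib.Helper88_PSUFusDefs
import Cfsg.Agent.Lib.Helper7_S5172_H3

/-!
# S5172-H1 (helper7, for helper88's S5172 market)

`hhJ q hij s` is a product of six root elements `xs`.  With `psi` of `Helper7_S5172_H3` the map
`Psi (M, N) = psi i j M * psi k l N` (four distinct indices) is a monoid homomorphism
`M₂(K) × M₂(K) →* M_n(K)`; `xs`, `hhJ` are images, and the identity splits into two `2 × 2`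
identities.
-/

set_option autoImplicit false
set_option linter.unusedSectionVars false
set_option linter.unusedVariables false
set_option linter.unusedSimpArgs false

namespace Cfsg.Agent.Lib.Helper7_S5172_H1

open Matrix Cfsg.Agent.Lib.Helper44_PSLnUT Cfsg.Agent.Lib.Helper88_PSLnFus
  Cfsg.Agent.Lib.Helper88_PSUFus Cfsg.Agent.Lib.Helper7_S5172_H3

variable {K : Type*} [Field K] {n : ℕ}

theorem psi_one (i j : Fin n) : psi i j (1 : Matrix (Fin 2) (Fin 2) K) = 1 := by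
  unfold psi
  have h00 : (1 : Matrix (Fin 2) (Fin 2) K) 0 0 = 1 := Matrix.one_apply_eq 0
  have h11 : (1 : Matrix (Fin 2) (Fin 2) K) 1 1 = 1 := Matrix.one_apply_eq 1
  have h01 : (1 : Matrix (Fin 2) (Fin 2) K) 0 1 = 0 := Matrix.one_apply_ne (by decide)
  have h10 : (1 : Matrix (Fin 2) (Fin 2) K) 1 0 = 0 := Matrix.one_apply_ne (by decide)
  rw [h00, h11, h01, h10, Matrix.single_zero, Matrix.single_zero]
  abel

/-- `psi` at disjoint pairs of indices commute -/
theorem psi_comm {i j k l : Fin n} (hik : i ≠ k) (hil : i ≠ l) (hjk : j ≠ k) (hjl : j ≠ l)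
    (M N : Matrix (Fin 2) (Fin 2) K) : Commute (psi i j M) (psi k l N) := by
  show psi i j M * psi k l N = psi k l N * psi i j M
  unfold psi
  simp only [Matrix.add_mul, Matrix.mul_add, Matrix.sub_mul, Matrix.mul_sub, Matrix.one_mul,
    Matrix.mul_one, single_mul_single_same, single_mul_single_of_ne _ _ _ _ hik,
    single_mul_single_of_ne _ _ _ _ hil, single_mul_single_of_ne _ _ _ _ hjk,
    single_mul_single_of_ne _ _ _ _ hjl, single_mul_single_of_ne _ _ _ _ hik.symm,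
    single_mul_single_of_ne _ _ _ _ hil.symm, single_mul_single_of_ne _ _ _ _ hjk.symm,
    single_mul_single_of_ne _ _ _ _ hjl.symm, mul_one, one_mul, sub_zero, add_zero, zero_add]
  abel

/-- two `2 × 2` matrices placed at disjoint pairs of indices -/
def Psi {i j k l : Fin n} (hij : i ≠ j) (hkl : k ≠ l) (hik : i ≠ k) (hil : i ≠ l) (hjk : j ≠ k)
    (hjl : j ≠ l) :
    Matrix (Fin 2) (Fin 2) K × Matrix (Fin 2) (Fin 2) K →* Matrix (Fin n) (Fin n) K where
  toFun p := psi i j p.1 * psi k l p.2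
  map_one' := by
    show psi i j 1 * psi k l 1 = 1
    rw [psi_one, psi_one, mul_one]
  map_mul' p p' := by
    show psi i j (p.1 * p'.1) * psi k l (p.2 * p'.2) =
      (psi i j p.1 * psi k l p.2) * (psi i j p'.1 * psi k l p'.2)
    rw [← psi_mul hij, ← psi_mul hkl]
    exact (psi_comm hik hil hjk hjl p'.1 p.2).mul_mul_mul_comm _ _

theorem Psi_apply {i j k l : Fin n} (hij : i ≠ j) (hkl : k ≠ l) (hik : i ≠ k) (hil : i ≠ l)
    (hjk : j ≠ k) (hjl : j ≠ l) (M N : Matrix (Fin 2) (Fin 2) K) :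
    Psi hij hkl hik hil hjk hjl (M, N) = psi i j M * psi k l N := rfl

/-- `(-1)^q = -1` in a field with `q ^ 2` elements -/
theorem neg_one_pow_q {F : Type*} [Field F] [Fintype F] {q : ℕ} (hF : Fintype.card F = q ^ 2) :
    (-1 : F) ^ q = -1 := by
  rcases Nat.even_or_odd q with hq | hq
  · have h2 : Fintype.card F % 2 = 0 := by
      rw [hF]
      obtain ⟨r, rfl⟩ := hq
      ring_nf
      omega
    have hc := FiniteField.even_card_iff_char_two.mpr h2
    have : CharP F 2 := ringChar.of_eq hc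
    rw [CharTwo.neg_eq, one_pow]
  · exact hq.neg_one_pow

theorem neg_pow_q {F : Type*} [Field F] [Fintype F] {q : ℕ} (hF : Fintype.card F = q ^ 2)
    (a : F) : (-a) ^ q = -(a ^ q) := by
  rw [neg_pow, neg_one_pow_q hF, neg_one_mul]

/-- the first `2 × 2` identity -/
theorem D2_id1 (t : K) (ht : t ≠ 0) :
    D2 t t⁻¹ = U2 t * L2 (-t⁻¹) * U2 t * U2 (-1) * L2 1 * U2 (-1) := by
  unfold D2 U2 L2
  ext r c
  fin_cases r <;> fin_cases c <;>
    simp [Matrix.mul_apply, Fin.sum_univ_two] <;> field_simp <;> ring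

/-- the second `2 × 2` identity -/
theorem D2_id2 (t : K) (ht : t ≠ 0) :
    D2 t t⁻¹ = U2 (-t) * L2 t⁻¹ * U2 (-t) * U2 1 * L2 (-1) * U2 1 := by
  unfold D2 U2 L2
  ext r c
  fin_cases r <;> fin_cases c <;>
    simp [Matrix.mul_apply, Fin.sum_univ_two] <;> field_simp <;> ring

section

variable {F : Type*} [Field F] [Fintype F] {q : ℕ}

/-- the matrix of `xs` as an image of `Psi` -/
theorem xs_coe {i j : Fin n} (hij : i ≠ j) (hi : i ≠ Fin.rev i) (hj : j ≠ Fin.rev j)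
    (hij' : i ≠ Fin.rev j) (hji' : j ≠ Fin.rev i) (a : F) :
    (xs q hij a).1 = Psi hij (rev_ne hij) hij' hi hj hji' (U2 a, U2 (-(a ^ q))) := by
  rw [Psi_apply, psi_U2 hij, psi_U2 (rev_ne hij)]
  rfl

theorem xs_symm_coe {i j : Fin n} (hij : i ≠ j) (hi : i ≠ Fin.rev i) (hj : j ≠ Fin.rev j)
    (hij' : i ≠ Fin.rev j) (hji' : j ≠ Fin.rev i) (a : F) :
    (xs q hij.symm a).1 = Psi hij (rev_ne hij) hij' hi hj hji' (L2 a, L2 (-(a ^ q))) := by
  rw [Psi_apply, psi_L2 hij, psi_L2 (rev_ne hij)]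
  rfl

theorem hhJ_coe {i j : Fin n} (hij : i ≠ j) (hi : i ≠ Fin.rev i) (hj : j ≠ Fin.rev j)
    (hij' : i ≠ Fin.rev j) (hji' : j ≠ Fin.rev i) (s : Fˣ) :
    (hhJ q hij s).1 = Psi hij (rev_ne hij) hij' hi hj hji'
      (D2 (s : F) ((s⁻¹ : Fˣ) : F), D2 ((s ^ q : Fˣ) : F) (((s ^ q)⁻¹ : Fˣ) : F)) := by
  rw [Psi_apply, psi_D2 hij, psi_D2 (rev_ne hij)]
  rfl

theorem ne_rev_symm {i j : Fin n} (hij' : i ≠ Fin.rev j) : j ≠ Fin.rev i := by
  intro e
  apply hij'
  rw [e, Fin.rev_rev]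

/-- **H1**  `hhJ` as a product of six root elements. -/
theorem H1 (hF : Fintype.card F = q ^ 2) {n : ℕ} {i j : Fin n} (hij : i ≠ j)
    (hi : i ≠ Fin.rev i) (hj : j ≠ Fin.rev j) (hij' : i ≠ Fin.rev j) (s : Fˣ) :
    hhJ q hij s = xs q hij (s : F) * xs q hij.symm (-((s⁻¹ : Fˣ) : F)) * xs q hij (s : F) *
      xs q hij (-1 : F) * xs q hij.symm (1 : F) * xs q hij (-1 : F) := by
  have hji' : j ≠ Fin.rev i := ne_rev_symm hij'
  apply Subtype.ext
  show (hhJ q hij s).1 = (xs q hij (s : F)).1 * (xs q hij.symm (-((s⁻¹ : Fˣ) : F))).1 *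
      (xs q hij (s : F)).1 * (xs q hij (-1 : F)).1 * (xs q hij.symm (1 : F)).1 *
      (xs q hij (-1 : F)).1
  rw [hhJ_coe hij hi hj hij' hji', xs_coe hij hi hj hij' hji', xs_coe hij hi hj hij' hji',
    xs_symm_coe hij hi hj hij' hji', xs_symm_coe hij hi hj hij' hji']
  simp only [← map_mul, Prod.mk_mul_mk]
  congr 1
  have hs : (s : F) ≠ 0 := s.ne_zero
  have hsq : (s : F) ^ q ≠ 0 := pow_ne_zero _ hs
  refine Prod.ext ?_ ?_
  · show D2 (s : F) ((s⁻¹ : Fˣ) : F) = _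
    rw [Units.val_inv_eq_inv_val]
    exact D2_id1 (s : F) hs
  · show D2 ((s ^ q : Fˣ) : F) (((s ^ q)⁻¹ : Fˣ) : F) = _
    rw [Units.val_inv_eq_inv_val, Units.val_pow_eq_pow_val, Units.val_inv_eq_inv_val,
      neg_pow_q hF, neg_pow_q hF, neg_neg, neg_neg, one_pow, inv_pow]
    exact D2_id2 ((s : F) ^ q) hsq

end

end Cfsg.Agent.Lib.Helper7_S5172_H1
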