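import Mathlib
import Cfsg.Prelude.Def_Classical
import Cfsg.Agent.Lib.Helper44_PSLnUT
import Cfsg.Agent.Lib.Helper88_PSLnFusDefs
import Cfsg.Agent.Lib.Helper88_PSUFusDefs
import Cfsg.Agent.Lib.Helper7_S5172_H3
import Cfsg.Agent.Lib.Helper7_S5172_H1

/-!
# S5172-H2 (helper7, for helper88's S5172 market)

The opposite root element `xs q hij.symm a` is a Weyl conjugate of `xs q hij (-a)`; via `Psi` of
`Helper7_S5172_H1` this splits into two `2 × 2` identities.
-/

set_option autoImplicit false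
set_option linter.unusedSectionVars false
set_option linter.unusedVariables false
set_option linter.unusedSimpArgs false

namespace Cfsg.Agent.Lib.Helper7_S5172_H2

open Matrix Cfsg.Agent.Lib.Helper44_PSLnUT Cfsg.Agent.Lib.Helper88_PSLnFus
  Cfsg.Agent.Lib.Helper88_PSUFus Cfsg.Agent.Lib.Helper7_S5172_H3 Cfsg.Agent.Lib.Helper7_S5172_H1

variable {K : Type*} [Field K]

theorem L2_id1 (a : K) :
    L2 a * (U2 1 * L2 (-1) * U2 1) = (U2 1 * L2 (-1) * U2 1) * U2 (-a) := by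
  unfold U2 L2
  ext r c
  fin_cases r <;> fin_cases c <;>
    simp [Matrix.mul_apply, Fin.sum_univ_two] <;> ring

theorem L2_id2 (a : K) :
    L2 (-a) * (U2 (-1) * L2 1 * U2 (-1)) = (U2 (-1) * L2 1 * U2 (-1)) * U2 a := by
  unfold U2 L2
  ext r c
  fin_cases r <;> fin_cases c <;>
    simp [Matrix.mul_apply, Fin.sum_univ_two] <;> ring

variable {F : Type*} [Field F] [Fintype F] {q : ℕ}

/-- **H2**  the opposite root element is a Weyl conjugate. -/
theorem H2 (hF : Fintype.card F = q ^ 2) {n : ℕ} {i j : Fin n} (hij : i ≠ j)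
    (hi : i ≠ Fin.rev i) (hj : j ≠ Fin.rev j) (hij' : i ≠ Fin.rev j) (a : F) :
    xs q hij.symm a =
      (xs q hij (1 : F) * xs q hij.symm (-1 : F) * xs q hij (1 : F)) * xs q hij (-a) *
      (xs q hij (1 : F) * xs q hij.symm (-1 : F) * xs q hij (1 : F))⁻¹ := by
  have hji' : j ≠ Fin.rev i := ne_rev_symm hij'
  rw [eq_mul_inv_iff_mul_eq]
  apply Subtype.ext
  show (xs q hij.symm a).1 *
      ((xs q hij (1 : F)).1 * (xs q hij.symm (-1 : F)).1 * (xs q hij (1 : F)).1) =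
      ((xs q hij (1 : F)).1 * (xs q hij.symm (-1 : F)).1 * (xs q hij (1 : F)).1) *
      (xs q hij (-a)).1
  rw [xs_coe hij hi hj hij' hji', xs_coe hij hi hj hij' hji', xs_symm_coe hij hi hj hij' hji',
    xs_symm_coe hij hi hj hij' hji']
  simp only [← map_mul, Prod.mk_mul_mk]
  congr 1
  refine Prod.ext ?_ ?_
  · exact L2_id1 a
  · show L2 (-(a ^ q)) * (U2 (-((1 : F) ^ q)) * L2 (-((-1 : F) ^ q)) * U2 (-((1 : F) ^ q))) =
      (U2 (-((1 : F) ^ q)) * L2 (-((-1 : F) ^ q)) * U2 (-((1 : F) ^ q))) * U2 (-((-a) ^ q))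
    rw [neg_pow_q hF, neg_pow_q hF, neg_neg, neg_neg, one_pow]
    exact L2_id2 (a ^ q)

end Cfsg.Agent.Lib.Helper7_S5172_H2
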