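import Mathlib
import Cfsg.Prelude.Def_Classical
import Cfsg.Agent.Lib.Helper13_Herm
import Cfsg.Agent.Lib.Helper5_SUCenter
import Cfsg.Agent.Lib.Helper44_PSLnUT
import Cfsg.Agent.Lib.Helper32_PGroup
import Cfsg.Agent.Lib.Helper88_PSLnFusDefs
import Cfsg.Agent.Lib.Helper88_PSUFusDefs

/-!
# S5172 package F2 (architect helper88): an element of `GJ` stabilising `⟨e_j : j < n/2⟩`
normalises `Qr`.

By-products: `hermJ_single_right`, `fix_mem_UT` (`GJ ⊓ fixCols (n/2) ≤ UT`), `BL` calculus
(block lower-left zero matrices), `inv_BL`.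
-/

set_option autoImplicit false
set_option linter.unusedSectionVars false
set_option linter.unusedVariables false

namespace Cfsg.Agent.Lib.Helper86_S5172_F2

open Matrix Cfsg.Agent.Lib.Helper44_PSLnUT Cfsg.Agent.Lib.Helper88_PSLnFus
  Cfsg.Agent.Lib.Helper88_PSUFus

variable {F : Type*} [Field F] [Fintype F] {q : ℕ}

theorem q_ne_zero (hF : Fintype.card F = q ^ 2) : q ≠ 0 := by
  rintro rfl
  have := Fintype.card_pos (α := F)
  rw [hF] at this
  simp at this

/-- pairing with a basis vector on the right reads off a coordinate -/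
theorem hermJ_single_right (hq : q ≠ 0) {n : ℕ} (u : Fin n → F) (j : Fin n) :
    hermJ n F q u (Pi.single j 1) = u (Fin.rev j) := by
  unfold hermJ
  rw [Finset.sum_eq_single (Fin.rev j)]
  · rw [Fin.rev_rev, Pi.single_eq_same, one_pow, mul_one]
  · intro i _ hi
    have : Fin.rev i ≠ j := fun e => hi (by rw [← e, Fin.rev_rev])
    rw [Pi.single_eq_of_ne this, zero_pow hq, mul_zero]
  · intro h; exact absurd (Finset.mem_univ _) h

/-- block shape: zero lower-left `(≥ r) × (< r)` block -/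
def BL {n : ℕ} (r : ℕ) (M : Matrix (Fin n) (Fin n) F) : Prop :=
  ∀ i j : Fin n, j.val < r → r ≤ i.val → M i j = 0

theorem BL_one {n : ℕ} (r : ℕ) : BL r (1 : Matrix (Fin n) (Fin n) F) := by
  intro i j hj hi
  apply Matrix.one_apply_ne
  intro e; rw [e] at hi; omega

theorem BL_mul {n : ℕ} (r : ℕ) {M N : Matrix (Fin n) (Fin n) F} (hM : BL r M) (hN : BL r N) :
    BL r (M * N) := by
  intro i j hj hi
  rw [Matrix.mul_apply]
  apply Finset.sum_eq_zero
  intro k _
  by_cases hk : k.val < r
  · rw [hM i k hk hi, zero_mul]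
  · rw [hN k j hj (not_lt.mp hk), mul_zero]

theorem BL_pow {n : ℕ} (r : ℕ) (g : SpecialLinearGroup (Fin n) F) (hg : BL r g.1) (k : ℕ) :
    BL r (g ^ k).1 := by
  induction k with
  | zero => rw [pow_zero]; exact BL_one r
  | succ k ih =>
    rw [pow_succ]
    exact BL_mul r ih hg

theorem inv_BL {n : ℕ} (r : ℕ) (g : SpecialLinearGroup (Fin n) F) (hg : BL r g.1) :
    BL r (g⁻¹).1 := by
  classical
  have hpos : 0 < orderOf g := orderOf_pos g
  have hinv : g⁻¹ = g ^ (orderOf g - 1) := by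
    rw [inv_eq_iff_mul_eq_one, ← pow_succ', Nat.sub_add_cancel hpos, pow_orderOf_eq_one]
  rw [hinv]
  exact BL_pow r g hg _

/-- entries of an element of `fixCols` in the first `r` columns -/
theorem fixCols_apply {n r : ℕ} {u : SpecialLinearGroup (Fin n) F} (hu : u ∈ fixCols n F r)
    (i k : Fin n) (hk : k.val < r) : u.1 i k = (1 : Matrix (Fin n) (Fin n) F) i k := by
  have h := congrFun (hu k hk) i
  rw [Matrix.mulVec_single_one] at h
  rw [Matrix.one_apply]
  rw [Pi.single_apply] at h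
  exact h

/-- an element of `fixCols r` fixes every vector supported on the first `r` coordinates -/
theorem fixCols_mulVec {n r : ℕ} {u : SpecialLinearGroup (Fin n) F} (hu : u ∈ fixCols n F r)
    (v : Fin n → F) (hv : ∀ k : Fin n, r ≤ k.val → v k = 0) : u.1 *ᵥ v = v := by
  funext i
  have h1 : (u.1 *ᵥ v) i = ((1 : Matrix (Fin n) (Fin n) F) *ᵥ v) i := by
    rw [Matrix.mulVec, Matrix.mulVec, dotProduct, dotProduct]
    apply Finset.sum_congr rfl
    intro k _
    by_cases hk : k.val < r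
    · rw [fixCols_apply hu i k hk]
    · rw [hv k (not_lt.mp hk), mul_zero, mul_zero]
  rw [h1, Matrix.one_mulVec]

/-- conjugating `fixCols r` by a block upper triangular element -/
theorem conj_mem_fixCols {n r : ℕ} (g u : SpecialLinearGroup (Fin n) F) (hg : BL r g.1)
    (hu : u ∈ fixCols n F r) : g * u * g⁻¹ ∈ fixCols n F r := by
  intro j hj
  have hgi := inv_BL r g hg
  show (g.1 * u.1 * (g⁻¹).1) *ᵥ _ = _
  rw [← Matrix.mulVec_mulVec, ← Matrix.mulVec_mulVec]
  have hv : ∀ k : Fin n, r ≤ k.val → ((g⁻¹).1 *ᵥ (Pi.single j 1 : Fin n → F)) k = 0 := by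
    intro k hk
    rw [Matrix.mulVec_single_one]
    exact hgi k j hj hk
  rw [fixCols_mulVec hu _ hv, Matrix.mulVec_mulVec]
  have h1 : g.1 * (g⁻¹).1 = 1 := congrArg Subtype.val (mul_inv_cancel g)
  rw [h1, Matrix.one_mulVec]

/-- rows `rev j`, `j < r`, of an element of `GJ ⊓ fixCols r` are identity rows -/
theorem fix_row (hq : q ≠ 0) {n r : ℕ} {h : SpecialLinearGroup (Fin n) F} (hG : h ∈ GJ n F q)
    (hf : h ∈ fixCols n F r) (j : Fin n) (hj : j.val < r) (k : Fin n) :
    h.1 (Fin.rev j) k = (1 : Matrix (Fin n) (Fin n) F) (Fin.rev j) k := by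
  have h1 := (mem_GJ.mp hG) (Pi.single k 1) (Pi.single j 1)
  rw [hf j hj, hermJ_single_right hq, hermJ_single_right hq, Matrix.mulVec_single_one] at h1
  rw [Matrix.one_apply]
  rw [Pi.single_apply] at h1
  exact h1

/-- `GJ ⊓ fixCols (n / 2) ≤ UT` -/
theorem fix_mem_UT (hq : q ≠ 0) {n : ℕ} {h : SpecialLinearGroup (Fin n) F} (hG : h ∈ GJ n F q)
    (hf : h ∈ fixCols n F (n / 2)) : h ∈ UT n F := by
  classical
  rw [mem_UT]
  -- rows with index `≥ n - n/2` are identity rows
  have hrow : ∀ i k : Fin n, n - n / 2 ≤ i.val → h.1 i k = (1 : Matrix (Fin n) (Fin n) F) i k := by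
    intro i k hi
    have hj : (Fin.rev i).val < n / 2 := by
      rw [Fin.val_rev]; have := i.isLt; omega
    have := fix_row hq hG hf (Fin.rev i) hj k
    rw [Fin.rev_rev] at this
    exact this
  have hcol : ∀ i k : Fin n, k.val < n / 2 → h.1 i k = (1 : Matrix (Fin n) (Fin n) F) i k :=
    fun i k hk => fixCols_apply hf i k hk
  have hlow : ∀ i j : Fin n, j < i → h.1 i j = 0 := by
    intro i j hij
    have hne : i ≠ j := ne_of_gt hij
    have hlt : j.val < i.val := hij
    by_cases hj : j.val < n / 2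
    · rw [hcol i j hj, Matrix.one_apply_ne hne]
    · by_cases hi : n - n / 2 ≤ i.val
      · rw [hrow i j hi, Matrix.one_apply_ne hne]
      · exfalso
        omega
  refine ⟨hlow, ?_⟩
  intro i
  by_cases hi1 : i.val < n / 2
  · rw [hcol i i hi1, Matrix.one_apply_eq]
  · by_cases hi2 : n - n / 2 ≤ i.val
    · rw [hrow i i hi2, Matrix.one_apply_eq]
    · -- the middle index: use the determinant
      have hdet : h.1.det = 1 := h.2
      rw [Matrix.det_of_isUpperTriangular (M := h.1) (fun a b hab => hlow a b hab)] at hdet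
      rw [Finset.prod_eq_single i] at hdet
      · exact hdet
      · intro k _ hki
        by_cases hk1 : k.val < n / 2
        · rw [hcol k k hk1, Matrix.one_apply_eq]
        · by_cases hk2 : n - n / 2 ≤ k.val
          · rw [hrow k k hk2, Matrix.one_apply_eq]
          · exfalso
            apply hki
            apply Fin.ext
            omega
      · intro hh; exact absurd (Finset.mem_univ _) hh

/-- **F2**  an element of `GJ` stabilising `⟨e_j : j < n/2⟩` normalises `Qr`. -/
theorem F2 (hF : Fintype.card F = q ^ 2) (n : ℕ) (hn : 4 ≤ n)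
    (g : SpecialLinearGroup (Fin n) F) (hg : g ∈ GJ n F q)
    (hW : ∀ i j : Fin n, j.val < n / 2 → n / 2 ≤ i.val → g.1 i j = 0) :
    ∀ u ∈ Qr n F q, g * u * g⁻¹ ∈ Qr n F q := by
  intro u hu
  have hq := q_ne_zero hF
  have huG : u ∈ GJ n F q := hu.1.1
  have huf : u ∈ fixCols n F (n / 2) := hu.2
  have hG : g * u * g⁻¹ ∈ GJ n F q :=
    (GJ n F q).mul_mem ((GJ n F q).mul_mem hg huG) ((GJ n F q).inv_mem hg)
  have hf : g * u * g⁻¹ ∈ fixCols n F (n / 2) := conj_mem_fixCols g u hW huf
  exact ⟨⟨hG, fix_mem_UT hq hG hf⟩, hf⟩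

end Cfsg.Agent.Lib.Helper86_S5172_F2
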