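import Mathlib
import Cfsg.Prelude.Def_Classical
import Cfsg.Agent.Lib.Helper44_PSLnUT
import Cfsg.Agent.Lib.Helper88_PSLnFusDefs

/-!
# S5172 package C3 (architect helper88, proof helper91)

Upper triangular elements of `SL_n(K)` normalise the upper unitriangular subgroup `UT`.
-/

set_option autoImplicit false

namespace Cfsg.Agent.Lib.Helper91_S5172_C3

open Matrix Cfsg.Agent.Lib.Helper44_PSLnUT Cfsg.Agent.Lib.Helper88_PSLnFus

/-- the inverse of an upper triangular element is upper triangular -/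
theorem isUpper_inv {K : Type*} [Field K] {n : ℕ} (b : SpecialLinearGroup (Fin n) K)
    (hb : IsUpper b) : IsUpper b⁻¹ := by
  intro i j hij
  show ((b⁻¹ : SpecialLinearGroup (Fin n) K) : Matrix (Fin n) (Fin n) K) i j = 0
  rw [coe_inv_eq]
  have hdet : IsUnit b.1.det := by rw [b.2]; exact isUnit_one
  have : Invertible b.1 := Matrix.invertibleOfIsUnitDet b.1 hdet
  have hbt : b.1.BlockTriangular id := fun i j hij => hb i j hij
  exact (Matrix.blockTriangular_inv_of_blockTriangular hbt) hij

/-- the diagonal entries of the inverse of an upper triangular element -/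
theorem diag_mul_inv {K : Type*} [Field K] {n : ℕ} (b : SpecialLinearGroup (Fin n) K)
    (hb : IsUpper b) (i : Fin n) : b.1 i i * (b⁻¹).1 i i = 1 := by
  have h1 : b.1 * (b⁻¹).1 = 1 := congrArg Subtype.val (mul_inv_cancel b)
  have h2 : (b.1 * (b⁻¹).1) i i = 1 := by rw [h1, Matrix.one_apply_eq]
  rw [mul_apply_diag hb (isUpper_inv b hb)] at h2
  exact h2

/-- **C3**  upper triangular matrices normalise `UT`. -/
theorem C3 {K : Type*} [Field K] (n : ℕ) (b : SpecialLinearGroup (Fin n) K) (hb : IsUpper b) :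
    ∀ u ∈ UT n K, b * u * b⁻¹ ∈ UT n K := by
  intro u hu
  have hu' : IsUT u.1 := mem_UT.mp hu
  have hbi := isUpper_inv b hb
  have hbu : ∀ i j : Fin n, j < i → (b.1 * u.1) i j = 0 := mul_apply_lower hb hu'.1
  rw [mem_UT]
  show IsUT (b.1 * u.1 * (b⁻¹).1)
  refine ⟨mul_apply_lower hbu hbi, fun i => ?_⟩
  rw [mul_apply_diag hbu hbi, mul_apply_diag hb hu'.1, hu'.2, mul_one]
  exact diag_mul_inv b hb i

end Cfsg.Agent.Lib.Helper91_S5172_C3
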