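import Mathlib
import Cfsg.Prelude.Def_Classical
import Cfsg.Agent.Lib.Helper13_Herm
import Cfsg.Agent.Lib.Helper5_SUCenter
import Cfsg.Agent.Lib.Helper44_PSLnUT
import Cfsg.Agent.Lib.Helper32_PGroup
import Cfsg.Agent.Lib.Helper88_PSLnFusDefs
import Cfsg.Agent.Lib.Helper88_PSUFusDefs
import Cfsg.Agent.Lib.Helper26_S5172_A2
import Cfsg.Agent.S0754

set_option autoImplicit false

/-!
# S5172 package H4 (architect helper88): the `SU_3` on `⟨e_i, e_m, e_{rev i}⟩` (`n` odd)

`emb ι M = 1 + U (M - 1) Uᵀ` embeds `3 × 3` matrices on the rows/columns `ι 0, ι 1, ι 2`;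
`ym⁺(a,b) = emb (Yp a a^q b)`, `ym⁻(a,b) = emb (Ym a a^q b)`,
`n(a,b) = ym⁻(-a/b^q, 1/b^q) ym⁺(a,b) ym⁻(-a/b, 1/b^q) = emb (antidiag(b, -b^q/b, 1/b^q))`.
-/

namespace Cfsg.Agent.Lib.Helper93_S5172_H4

open Matrix Cfsg.Agent.Lib.Helper44_PSLnUT Cfsg.Agent.Lib.Helper88_PSLnFus
  Cfsg.Agent.Lib.Helper88_PSUFus Cfsg.Agent.Lib.Helper13_Herm

section emb

variable {F : Type*} [Field F] {n : ℕ}

/-- the `0/1` matrix `[r = ι k]` -/
def Umat (F : Type*) [Field F] {n : ℕ} (ι : Fin 3 → Fin n) : Matrix (Fin n) (Fin 3) F :=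
  Matrix.of fun r k => if r = ι k then 1 else 0

theorem Umat_tr_mul {ι : Fin 3 → Fin n} (hι : Function.Injective ι) :
    (Umat F ι)ᵀ * Umat F ι = 1 := by
  ext k l
  rw [Matrix.mul_apply]
  simp only [Umat, Matrix.transpose_apply, Matrix.of_apply]
  rw [Finset.sum_eq_single (ι k)]
  · rw [if_pos rfl, one_mul]
    by_cases h : k = l
    · subst h; simp
    · rw [Matrix.one_apply_ne h, if_neg (fun e => h (hι e))]
  · intro r _ hr
    rw [if_neg hr, zero_mul]
  · intro h; exact absurd (Finset.mem_univ _) h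

theorem Umat_single (ι : Fin 3 → Fin n) (k l : Fin 3) (c : F) :
    Umat F ι * Matrix.single k l c * (Umat F ι)ᵀ = Matrix.single (ι k) (ι l) c := by
  ext r s
  rw [Matrix.mul_apply]
  simp only [Matrix.mul_apply, Umat, Matrix.transpose_apply, Matrix.of_apply, Matrix.single_apply]
  rw [Finset.sum_eq_single l]
  · rw [Finset.sum_eq_single k]
    · by_cases h1 : r = ι k
      · by_cases h2 : s = ι l
        · simp [h1, h2]
        · have : ¬ ι l = s := fun e => h2 e.symm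
          simp [h1, h2, this]
      · have : ¬ ι k = r := fun e => h1 e.symm
        simp [h1, this]
    · intro x _ hx
      have : ¬ (k = x ∧ l = l) := fun e => hx e.1.symm
      rw [if_neg this, mul_zero]
    · intro h; exact absurd (Finset.mem_univ _) h
  · intro y _ hy
    have : ∀ x : Fin 3, ¬ (k = x ∧ l = y) := fun x e => hy e.2.symm
    simp [this]
  · intro h; exact absurd (Finset.mem_univ _) h

/-- the embedding of `3 × 3` matrices -/
def emb (ι : Fin 3 → Fin n) (M : Matrix (Fin 3) (Fin 3) F) : Matrix (Fin n) (Fin n) F :=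
  1 + Umat F ι * (M - 1) * (Umat F ι)ᵀ

theorem emb_one (ι : Fin 3 → Fin n) : emb ι (1 : Matrix (Fin 3) (Fin 3) F) = 1 := by
  unfold emb
  rw [sub_self, Matrix.mul_zero, Matrix.zero_mul, add_zero]

theorem emb_mul {ι : Fin 3 → Fin n} (hι : Function.Injective ι) (M N : Matrix (Fin 3) (Fin 3) F) :
    emb ι M * emb ι N = emb ι (M * N) := by
  unfold emb
  have hUU := Umat_tr_mul (F := F) hι
  have key : Umat F ι * (M - 1) * (Umat F ι)ᵀ * (Umat F ι * (N - 1) * (Umat F ι)ᵀ) =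
      Umat F ι * ((M - 1) * (N - 1)) * (Umat F ι)ᵀ := by
    calc Umat F ι * (M - 1) * (Umat F ι)ᵀ * (Umat F ι * (N - 1) * (Umat F ι)ᵀ)
        = Umat F ι * (M - 1) * ((Umat F ι)ᵀ * Umat F ι) * (N - 1) * (Umat F ι)ᵀ := by
          simp only [Matrix.mul_assoc]
      _ = Umat F ι * ((M - 1) * (N - 1)) * (Umat F ι)ᵀ := by
          rw [hUU, Matrix.mul_one]
          simp only [Matrix.mul_assoc]
  have e1 : M * N - 1 = (M - 1) + (N - 1) + (M - 1) * (N - 1) := by noncomm_ring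
  have eR : Umat F ι * (M * N - 1) * (Umat F ι)ᵀ =
      Umat F ι * (M - 1) * (Umat F ι)ᵀ + Umat F ι * (N - 1) * (Umat F ι)ᵀ +
        Umat F ι * (M - 1) * (Umat F ι)ᵀ * (Umat F ι * (N - 1) * (Umat F ι)ᵀ) := by
    rw [e1, Matrix.mul_add, Matrix.mul_add, Matrix.add_mul, Matrix.add_mul, key]
  rw [eR]
  noncomm_ring

theorem emb_single_sum (ι : Fin 3 → Fin n) (M : Matrix (Fin 3) (Fin 3) F) :
    emb ι M = 1 + ∑ k : Fin 3, ∑ l : Fin 3, Matrix.single (ι k) (ι l) ((M - 1) k l) := by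
  unfold emb
  congr 1
  have : M - 1 = ∑ k : Fin 3, ∑ l : Fin 3, Matrix.single k l ((M - 1) k l) :=
    Matrix.matrix_eq_sum_single (M - 1)
  conv_lhs => rw [this]
  rw [Matrix.mul_sum, Matrix.sum_mul]
  refine Finset.sum_congr rfl fun k _ => ?_
  rw [Matrix.mul_sum, Matrix.sum_mul]
  refine Finset.sum_congr rfl fun l _ => ?_
  exact Umat_single ι k l _

/-- basis vectors outside the range of `ι` are fixed -/
theorem emb_mulVec_single {ι : Fin 3 → Fin n} (M : Matrix (Fin 3) (Fin 3) F) (k : Fin n)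
    (hk : ∀ l, k ≠ ι l) : emb ι M *ᵥ (Pi.single k 1 : Fin n → F) = Pi.single k 1 := by
  rw [emb_single_sum, Matrix.add_mulVec, Matrix.one_mulVec]
  have : (∑ x : Fin 3, ∑ l : Fin 3, Matrix.single (ι x) (ι l) ((M - 1) x l)) *ᵥ
      (Pi.single k 1 : Fin n → F) = 0 := by
    rw [Matrix.sum_mulVec]
    apply Finset.sum_eq_zero
    intro x _
    rw [Matrix.sum_mulVec]
    apply Finset.sum_eq_zero
    intro l _
    funext r
    rw [Matrix.mulVec_single_one]
    simp only [Matrix.col_apply, Matrix.single_apply, Pi.zero_apply]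
    rw [if_neg]
    rintro ⟨-, e⟩
    exact hk l e.symm
  rw [this, add_zero]

theorem emb_vecMul_single {ι : Fin 3 → Fin n} (M : Matrix (Fin 3) (Fin 3) F) (k : Fin n)
    (hk : ∀ l, k ≠ ι l) : (Pi.single k 1 : Fin n → F) ᵥ* emb ι M = Pi.single k 1 := by
  rw [emb_single_sum, Matrix.vecMul_add, Matrix.vecMul_one]
  have : (Pi.single k 1 : Fin n → F) ᵥ*
      (∑ x : Fin 3, ∑ l : Fin 3, Matrix.single (ι x) (ι l) ((M - 1) x l)) = 0 := by
    rw [Matrix.vecMul_sum]
    apply Finset.sum_eq_zero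
    intro x _
    rw [Matrix.vecMul_sum]
    apply Finset.sum_eq_zero
    intro l _
    funext r
    rw [Matrix.single_one_vecMul]
    simp only [Matrix.row_apply, Matrix.single_apply, Pi.zero_apply]
    rw [if_neg]
    rintro ⟨e, -⟩
    exact hk x e.symm
  rw [this, add_zero]

end emb

/-! ### `3 × 3` identities -/

section three

variable {F : Type*} [Field F]

/-- upper root element -/
def Yp (a a' b : F) : Matrix (Fin 3) (Fin 3) F := !![1, a, b; 0, 1, -a'; 0, 0, 1]
/-- lower root element -/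
def Ym (a a' b : F) : Matrix (Fin 3) (Fin 3) F := !![1, 0, 0; -a', 1, 0; b, a, 1]
/-- antidiagonal -/
def An (x y z : F) : Matrix (Fin 3) (Fin 3) F := !![0, 0, x; 0, y, 0; z, 0, 0]
/-- diagonal -/
def Dg (x y z : F) : Matrix (Fin 3) (Fin 3) F := !![x, 0, 0; 0, y, 0; 0, 0, z]

theorem n_formula {a a' b b' : F} (hb : b ≠ 0) (hb' : b' ≠ 0) (h : b + b' + a * a' = 0) :
    Ym (-a / b') (-a' / b) (1 / b') * Yp a a' b * Ym (-a / b) (-a' / b') (1 / b') =
      An b (-b' / b) (1 / b') := by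
  unfold Ym Yp An
  rw [Matrix.mul_fin_three, Matrix.mul_fin_three]
  ext i j
  fin_cases i <;> fin_cases j <;> simp <;> field_simp <;>
    first | ring1 | linear_combination h | linear_combination a' * h | linear_combination (-a) * h

theorem Dg_mul_An (x y z x' y' z' : F) :
    Dg x y z * An x' y' z' = An (x * x') (y * y') (z * z') := by
  unfold An Dg
  rw [Matrix.mul_fin_three]
  ext i j
  fin_cases i <;> fin_cases j <;> simp

theorem Ym_mul_An (a a' b : F) : Ym a a' b * An 1 (-1) 1 = An 1 (-1) 1 * Yp (-a) (-a') b := by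
  unfold An Ym Yp
  rw [Matrix.mul_fin_three, Matrix.mul_fin_three]
  ext i j
  fin_cases i <;> fin_cases j <;> simp

theorem Yp_sub_one (a a' b : F) :
    Yp a a' b - 1 = Matrix.single 0 1 a - Matrix.single 1 2 a' + Matrix.single 0 2 b := by
  unfold Yp
  ext i j
  fin_cases i <;> fin_cases j <;> simp

theorem Ym_sub_one (a a' b : F) :
    Ym a a' b - 1 = Matrix.single 2 1 a - Matrix.single 1 0 a' + Matrix.single 2 0 b := by
  unfold Ym
  ext i j
  fin_cases i <;> fin_cases j <;> simp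

theorem Dg_sub_one (x y z : F) :
    Dg x y z - 1 =
      Matrix.single 0 0 (x - 1) + Matrix.single 1 1 (y - 1) + Matrix.single 2 2 (z - 1) := by
  unfold Dg
  ext i j
  fin_cases i <;> fin_cases j <;> simp

end three

/-! ### the interface with `ym`, `hh` -/

section iface

variable {F : Type*} [Field F] [Fintype F] {q : ℕ} {n : ℕ} {i m : Fin n}

/-- the three indices `i, m, rev i` -/
def iot (i m : Fin n) : Fin 3 → Fin n := ![i, m, Fin.rev i]

theorem iot_inj (him : i ≠ m) (hm : Fin.rev m = m) : Function.Injective (iot i m) := by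
  have h2 := ne_rev_of_mid him hm
  have h3 := ne_rev_self_of_mid him hm
  intro k l h
  fin_cases k <;> fin_cases l <;> simp [iot] at h ⊢
  · exact him h
  · exact h3 h
  · exact him h.symm
  · exact h2 h
  · exact h3 h.symm
  · exact h2 h.symm

theorem rev_ne_mid (him : i ≠ m) (hm : Fin.rev m = m) : Fin.rev i ≠ m :=
  (ne_rev_of_mid him hm).symm

theorem ym_eq_emb (him : i ≠ m) (hm : Fin.rev m = m) (a b : F) :
    (ym q him hm a b).1 = emb (iot i m) (Yp a (a ^ q) b) := by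
  rw [Cfsg.Agent.Lib.Helper26_S5172_A2.A2_coe]
  unfold emb
  rw [Yp_sub_one, Matrix.mul_add, Matrix.mul_sub, Matrix.add_mul, Matrix.sub_mul, Umat_single,
    Umat_single, Umat_single]
  show _ = 1 + (Matrix.single i m a - Matrix.single m (Fin.rev i) (a ^ q) +
    Matrix.single i (Fin.rev i) b)
  abel

theorem ym'_eq_emb (him : i ≠ m) (hm : Fin.rev m = m) (h' : Fin.rev i ≠ m) (a b : F) :
    (ym q h' hm a b).1 = emb (iot i m) (Ym a (a ^ q) b) := by
  rw [Cfsg.Agent.Lib.Helper26_S5172_A2.A2_coe]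
  unfold emb
  rw [Ym_sub_one, Matrix.mul_add, Matrix.mul_sub, Matrix.add_mul, Matrix.sub_mul, Umat_single,
    Umat_single, Umat_single, Fin.rev_rev]
  show _ = 1 + (Matrix.single (Fin.rev i) m a - Matrix.single m i (a ^ q) +
    Matrix.single (Fin.rev i) i b)
  abel

omit [Fintype F] in
theorem hh_eq_emb (him : i ≠ m) (hm : Fin.rev m = m) (s : Fˣ) :
    (hh him s * hh (ne_rev_of_mid him hm) (s ^ q)).1 =
      emb (iot i m) (Dg (s : F) (((s⁻¹ : Fˣ) : F) * ((s ^ q : Fˣ) : F))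
        (((s ^ q)⁻¹ : Fˣ) : F)) := by
  have h2 := ne_rev_of_mid him hm
  have h3 := ne_rev_self_of_mid him hm
  rw [Matrix.SpecialLinearGroup.coe_mul, hh_coe, hh_coe, Matrix.diagonal_mul_diagonal]
  unfold emb
  rw [Dg_sub_one, Matrix.mul_add, Matrix.mul_add, Matrix.add_mul, Matrix.add_mul, Umat_single,
    Umat_single, Umat_single]
  show _ = 1 + (Matrix.single i i _ + Matrix.single m m _ + Matrix.single (Fin.rev i) (Fin.rev i) _)
  ext r c
  rw [Matrix.diagonal_apply]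
  simp only [Matrix.add_apply, Matrix.one_apply, Matrix.single_apply, hhFun]
  by_cases hrc : r = c
  · subst hrc
    by_cases hri : r = i
    · subst hri
      simp [him, h3, him.symm, h3.symm]
    · by_cases hrm : r = m
      · subst hrm
        simp [him, h2, him.symm, h2.symm]
      · by_cases hrr : r = Fin.rev i
        · subst hrr
          simp [h2, h3, h2.symm, h3.symm]
        · have e1 : ¬ i = r := fun e => hri e.symm
          have e2 : ¬ m = r := fun e => hrm e.symm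
          have e3 : ¬ Fin.rev i = r := fun e => hrr e.symm
          simp [hri, hrm, hrr, e1, e2, e3]
  · have e1 : ¬ (i = r ∧ i = c) := fun e => hrc (e.1.symm.trans e.2)
    have e2 : ¬ (m = r ∧ m = c) := fun e => hrc (e.1.symm.trans e.2)
    have e3 : ¬ (Fin.rev i = r ∧ Fin.rev i = c) := fun e => hrc (e.1.symm.trans e.2)
    simp [hrc, e1, e2, e3]

/-- the norm `a ↦ a^(q+1)` is onto the fixed field -/
theorem exists_norm (hF : Fintype.card F = q ^ 2) (μ : F) (hμ : μ ^ q = μ) :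
    ∃ a : F, a ^ (q + 1) = μ := by
  by_cases h0 : μ = 0
  · exact ⟨0, by rw [h0, zero_pow (Nat.succ_ne_zero q)]⟩
  · have hcard := Cfsg.Agent.S0754.result hF μ h0 hμ
    have hne : Nonempty {x : F // x ^ (q + 1) = μ} := by
      rw [← Finite.card_pos_iff, hcard]
      omega
    obtain ⟨x⟩ := hne
    exact ⟨x.1, x.2⟩

/-- for every `b` there is `a` with `b + b^q + a^(q+1) = 0` -/
theorem exists_rel (hF : Fintype.card F = q ^ 2) (b : F) :
    ∃ a : F, b + b ^ q + a ^ (q + 1) = 0 := by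
  have hμ : (-(b + b ^ q)) ^ q = -(b + b ^ q) := by
    rw [neg_pow_q hF, add_pow_q hF, pow_q_pow_q hF, add_comm]
  obtain ⟨a, ha⟩ := exists_norm hF _ hμ
  exact ⟨a, by rw [ha]; ring⟩

/-- the relation for the two auxiliary parameter pairs -/
theorem rel_aux (hF : Fintype.card F = q ^ 2) {a b : F} (hb : b ≠ 0)
    (h : b + b ^ q + a ^ (q + 1) = 0) :
    (-a / b) ^ q = -(a ^ q) / b ^ q ∧ (-a / b ^ q) ^ q = -(a ^ q) / b ∧
    1 / b ^ q + (1 / b ^ q) ^ q + (-a / b) ^ (q + 1) = 0 ∧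
    1 / b ^ q + (1 / b ^ q) ^ q + (-a / b ^ q) ^ (q + 1) = 0 := by
  have hbq : b ^ q ≠ 0 := pow_ne_zero q hb
  have e1 : (-a / b) ^ q = -(a ^ q) / b ^ q := by rw [div_pow, neg_pow_q hF]
  have e2 : (-a / b ^ q) ^ q = -(a ^ q) / b := by rw [div_pow, neg_pow_q hF, pow_q_pow_q hF]
  have e3 : (1 / b ^ q) ^ q = 1 / b := by rw [div_pow, one_pow, pow_q_pow_q hF]
  have h' : b + b ^ q + a ^ q * a = 0 := by rw [← pow_succ]; exact h
  refine ⟨e1, e2, ?_, ?_⟩
  · rw [pow_succ (-a / b) q, e1, e3]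
    field_simp
    linear_combination h'
  · rw [pow_succ (-a / b ^ q) q, e2, e3]
    field_simp
    linear_combination h'

/-- the monomial element `n(a,b)` -/
def nn (q : ℕ) (him : i ≠ m) (hm : Fin.rev m = m) (a b : F) : SpecialLinearGroup (Fin n) F :=
  ym q (rev_ne_mid him hm) hm (-a / b ^ q) (1 / b ^ q) * ym q him hm a b *
    ym q (rev_ne_mid him hm) hm (-a / b) (1 / b ^ q)

theorem nn_coe (hF : Fintype.card F = q ^ 2) (him : i ≠ m) (hm : Fin.rev m = m) {a b : F}
    (hb : b ≠ 0) (h : b + b ^ q + a ^ (q + 1) = 0) :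
    (nn q him hm a b).1 = emb (iot i m) (An b (-(b ^ q) / b) (1 / b ^ q)) := by
  obtain ⟨e1, e2, -, -⟩ := rel_aux hF hb h
  have hbq : b ^ q ≠ 0 := pow_ne_zero q hb
  have h' : b + b ^ q + a * a ^ q = 0 := by rw [← pow_succ']; exact h
  unfold nn
  rw [Matrix.SpecialLinearGroup.coe_mul, Matrix.SpecialLinearGroup.coe_mul,
    ym'_eq_emb him hm, ym'_eq_emb him hm, ym_eq_emb him hm, e1, e2,
    emb_mul (iot_inj him hm), emb_mul (iot_inj him hm), n_formula hb hbq h']

/-- the generating set of H4a -/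
def Sgen (q : ℕ) (him : i ≠ m) (hm : Fin.rev m = m) : Set (SpecialLinearGroup (Fin n) F) :=
  {y | ∃ a b : F, b + b ^ q + a ^ (q + 1) = 0 ∧
    (y = ym q him hm a b ∨ y = ym q (rev_ne_mid him hm) hm a b)}

theorem nn_mem (hF : Fintype.card F = q ^ 2) (him : i ≠ m) (hm : Fin.rev m = m) {a b : F}
    (hb : b ≠ 0) (h : b + b ^ q + a ^ (q + 1) = 0) :
    nn q him hm a b ∈ Subgroup.closure (Sgen (F := F) q him hm) := by
  obtain ⟨-, -, e3, e4⟩ := rel_aux hF hb h
  unfold nn
  refine Subgroup.mul_mem _ (Subgroup.mul_mem _ ?_ ?_) ?_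
  · exact Subgroup.subset_closure ⟨_, _, e4, Or.inr rfl⟩
  · exact Subgroup.subset_closure ⟨_, _, h, Or.inl rfl⟩
  · exact Subgroup.subset_closure ⟨_, _, e3, Or.inr rfl⟩

/-- **H4a** -/
theorem H4a (hF : Fintype.card F = q ^ 2) {n : ℕ} {i m : Fin n} (him : i ≠ m)
    (hm : Fin.rev m = m) (s : Fˣ) :
    hh him s * hh (ne_rev_of_mid him hm) (s ^ q) ∈
      Subgroup.closure {y : SpecialLinearGroup (Fin n) F |
        ∃ a b : F, b + b ^ q + a ^ (q + 1) = 0 ∧
          (y = ym q him hm a b ∨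
           y = ym q (i := Fin.rev i) (m := m)
             (fun e => him (by rw [← hm, ← e, Fin.rev_rev])) hm a b)} := by
  obtain ⟨a, ha⟩ := exists_rel hF (s : F)
  obtain ⟨a₀, ha₀⟩ := exists_rel hF (1 : F)
  have hs : (s : F) ≠ 0 := s.ne_zero
  have h1 : (1 : F) ≠ 0 := one_ne_zero
  have key : hh him s * hh (ne_rev_of_mid him hm) (s ^ q) * nn q him hm a₀ 1 =
      nn q him hm a (s : F) := by
    apply Subtype.ext
    rw [Matrix.SpecialLinearGroup.coe_mul, hh_eq_emb him hm, nn_coe hF him hm h1 ha₀,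
      nn_coe hF him hm hs ha, emb_mul (iot_inj him hm), Dg_mul_An]
    congr 2
    · rw [mul_one]
    · rw [one_pow, Units.val_inv_eq_inv_val, Units.val_pow_eq_pow_val]
      field_simp
    · rw [one_pow, Units.val_inv_eq_inv_val, Units.val_pow_eq_pow_val]
      field_simp
  have hmem : hh him s * hh (ne_rev_of_mid him hm) (s ^ q) ∈
      Subgroup.closure (Sgen (F := F) q him hm) := by
    have : hh him s * hh (ne_rev_of_mid him hm) (s ^ q) =
        nn q him hm a (s : F) * (nn q him hm a₀ 1)⁻¹ := by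
      rw [← key]; group
    rw [this]
    exact Subgroup.mul_mem _ (nn_mem hF him hm hs ha) (Subgroup.inv_mem _ (nn_mem hF him hm h1 ha₀))
  exact hmem

/-- **H4b** -/
theorem H4b (hF : Fintype.card F = q ^ 2) {n : ℕ} {i m : Fin n} (him : i ≠ m)
    (hm : Fin.rev m = m) (a b : F) (hab : b + b ^ q + a ^ (q + 1) = 0) :
    ∃ w ∈ GJ n F q, (∀ k : Fin n, k ≠ i → k ≠ m → k ≠ Fin.rev i →
        w.1 *ᵥ (Pi.single k 1 : Fin n → F) = Pi.single k 1 ∧
        (Pi.single k 1 : Fin n → F) ᵥ* w.1 = Pi.single k 1) ∧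
      ∃ a' b' : F, b' + b' ^ q + a' ^ (q + 1) = 0 ∧
        ym q (i := Fin.rev i) (m := m)
          (fun e => him (by rw [← hm, ← e, Fin.rev_rev])) hm a b =
          w * ym q him hm a' b' * w⁻¹ := by
  obtain ⟨a₀, ha₀⟩ := exists_rel hF (1 : F)
  have h1 : (1 : F) ≠ 0 := one_ne_zero
  have hwcoe : (nn q him hm a₀ 1).1 = emb (iot i m) (An 1 (-1) 1) := by
    rw [nn_coe hF him hm h1 ha₀, one_pow, div_one, div_one]
  obtain ⟨-, -, e3, e4⟩ := rel_aux hF h1 ha₀
  refine ⟨nn q him hm a₀ 1, ?_, ?_, -a, b, ?_, ?_⟩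
  · unfold nn
    refine Subgroup.mul_mem _ (Subgroup.mul_mem _ ?_ ?_) ?_
    · exact Cfsg.Agent.Lib.Helper26_S5172_A2.A2_mem hF _ hm _ _ e4
    · exact Cfsg.Agent.Lib.Helper26_S5172_A2.A2_mem hF _ hm _ _ ha₀
    · exact Cfsg.Agent.Lib.Helper26_S5172_A2.A2_mem hF _ hm _ _ e3
  · intro k hki hkm hkr
    have hk : ∀ l, k ≠ iot i m l := by
      intro l
      fin_cases l
      · exact hki
      · exact hkm
      · exact hkr
    rw [hwcoe]
    exact ⟨emb_mulVec_single _ k hk, emb_vecMul_single _ k hk⟩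
  · have : (-a) ^ (q + 1) = a ^ (q + 1) := by
      rw [pow_succ, neg_pow_q hF, pow_succ]; ring
    rw [this]; exact hab
  · rw [eq_mul_inv_iff_mul_eq]
    apply Subtype.ext
    rw [Matrix.SpecialLinearGroup.coe_mul, Matrix.SpecialLinearGroup.coe_mul, hwcoe,
      ym'_eq_emb him hm, ym_eq_emb him hm, emb_mul (iot_inj him hm), emb_mul (iot_inj him hm),
      neg_pow_q hF, Ym_mul_An]

end iface

end Cfsg.Agent.Lib.Helper93_S5172_H4
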