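import Mathlib
import Cfsg.Prelude.Def_Classical
import Cfsg.Agent.Lib.Helper13_Herm
import Cfsg.Agent.Lib.Helper5_SUCenter
import Cfsg.Agent.Lib.Helper44_PSLnUT
import Cfsg.Agent.Lib.Helper88_PSLnFusDefs
import Cfsg.Agent.Lib.Helper88_PSUFusDefs
import Cfsg.Agent.Lib.Helper63_S5172_A1
import Cfsg.Agent.Lib.Helper26_S5172_A2
import Cfsg.Agent.Lib.Helper91_S5172_C3
import Cfsg.Agent.Lib.Helper47_S5172_F1
import Cfsg.Agent.Lib.Helper86_S5172_F2
import Cfsg.Agent.Lib.Helper7_S5172_H1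
import Cfsg.Agent.Lib.Helper7_S5172_H2
import Cfsg.Agent.Lib.Helper7_S5172_H3
import Cfsg.Agent.Lib.Helper93_S5172_H4
import Cfsg.Agent.Lib.Helper63_S5172_H5

/-!
# S5172 package GEN (architect helper88, glue by helper11)

The generation clause of `FusLocalFamMod` for `S = UJ.subgroupOf GJ`, `Q b = (QJ b).subgroupOf GJ`
inside the group `↥(GJ n F q)`: every upper triangular element of `GJ` is a product of elements
normalising `UJ` each of which lies in the subgroup generated by the `N(Q b)`-conjugates of `UJ`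
for one of the two radicals.  Inputs: packages A1 A2 C3 F1 F2 H1 H2 H3 H4 H5.
-/

set_option autoImplicit false
set_option linter.unusedSectionVars false

namespace Cfsg.Agent.Lib.Helper11_S5172_GEN

open Matrix Cfsg.Agent.Lib.Helper44_PSLnUT Cfsg.Agent.Lib.Helper88_PSLnFus
  Cfsg.Agent.Lib.Helper88_PSUFus
open Cfsg.Agent.Lib.Helper63_S5172_A1 (A1_coe A1_mem A1_long)
open Cfsg.Agent.Lib.Helper26_S5172_A2 (A2_mem)
open Cfsg.Agent.Lib.Helper91_S5172_C3 (C3)
open Cfsg.Agent.Lib.Helper47_S5172_F1 (F1)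
open Cfsg.Agent.Lib.Helper86_S5172_F2 (F2)
open Cfsg.Agent.Lib.Helper7_S5172_H1 (H1)
open Cfsg.Agent.Lib.Helper7_S5172_H2 (H2)
open Cfsg.Agent.Lib.Helper7_S5172_H3 (H3a H3b)
open Cfsg.Agent.Lib.Helper93_S5172_H4 (H4a H4b)
open Cfsg.Agent.Lib.Helper63_S5172_H5 (H5)

/-- the subgroup of `↥GJ` generated by the `N(Q b)`-conjugates of `UJ` -/
def LLJ (n : ℕ) (F : Type*) [Field F] (q : ℕ) (b : Bool) : Subgroup ↥(GJ n F q) :=
  Subgroup.closure {y : ↥(GJ n F q) | ∃ m : ↥(GJ n F q),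
    (∀ u ∈ (QJ n F q b).subgroupOf (GJ n F q),
      m * u * m⁻¹ ∈ (QJ n F q b).subgroupOf (GJ n F q)) ∧
    ∃ s ∈ (UJ n F q).subgroupOf (GJ n F q), y = m * s * m⁻¹}

/-- the generators of the outer closure -/
def Gen (n : ℕ) (F : Type*) [Field F] (q : ℕ) : Set ↥(GJ n F q) :=
  {x : ↥(GJ n F q) |
    (∀ s ∈ (UJ n F q).subgroupOf (GJ n F q),
      x * s * x⁻¹ ∈ (UJ n F q).subgroupOf (GJ n F q)) ∧
    ∃ b : Bool, x ∈ LLJ n F q b}

variable {F : Type*} [Field F] [Fintype F] {q : ℕ}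

variable {n : ℕ}

/-- `y ∈ GJ` and `y` lies in `LLJ b` -/
def InLL (q : ℕ) (b : Bool) (y : SpecialLinearGroup (Fin n) F) : Prop :=
  ∃ hy : y ∈ GJ n F q, (⟨y, hy⟩ : ↥(GJ n F q)) ∈ LLJ n F q b

/-- `w ∈ GJ` and `w` normalises `QJ b` -/
def NQJ (q : ℕ) (b : Bool) (w : SpecialLinearGroup (Fin n) F) : Prop :=
  w ∈ GJ n F q ∧ ∀ u ∈ QJ n F q b, w * u * w⁻¹ ∈ QJ n F q b

/-- `y ∈ GJ` and `y` lies in the outer closure -/
def InOut (q : ℕ) (y : SpecialLinearGroup (Fin n) F) : Prop :=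
  ∃ hy : y ∈ GJ n F q, (⟨y, hy⟩ : ↥(GJ n F q)) ∈ Subgroup.closure (Gen n F q)

theorem InLL.mul {b : Bool} {x y : SpecialLinearGroup (Fin n) F} (hx : InLL q b x)
    (hy : InLL q b y) : InLL q b (x * y) := by
  obtain ⟨hx1, hx2⟩ := hx
  obtain ⟨hy1, hy2⟩ := hy
  refine ⟨Subgroup.mul_mem _ hx1 hy1, ?_⟩
  have e : (⟨x * y, Subgroup.mul_mem _ hx1 hy1⟩ : ↥(GJ n F q)) = ⟨x, hx1⟩ * ⟨y, hy1⟩ := rfl
  rw [e]
  exact Subgroup.mul_mem _ hx2 hy2

theorem InOut.mul {x y : SpecialLinearGroup (Fin n) F} (hx : InOut q x)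
    (hy : InOut q y) : InOut q (x * y) := by
  obtain ⟨hx1, hx2⟩ := hx
  obtain ⟨hy1, hy2⟩ := hy
  refine ⟨Subgroup.mul_mem _ hx1 hy1, ?_⟩
  have e : (⟨x * y, Subgroup.mul_mem _ hx1 hy1⟩ : ↥(GJ n F q)) = ⟨x, hx1⟩ * ⟨y, hy1⟩ := rfl
  rw [e]
  exact Subgroup.mul_mem _ hx2 hy2

theorem InOut.inv {x : SpecialLinearGroup (Fin n) F} (hx : InOut q x) : InOut q x⁻¹ := by
  obtain ⟨hx1, hx2⟩ := hx
  refine ⟨Subgroup.inv_mem _ hx1, ?_⟩
  have e : (⟨x⁻¹, Subgroup.inv_mem _ hx1⟩ : ↥(GJ n F q)) = (⟨x, hx1⟩ : ↥(GJ n F q))⁻¹ := rfl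
  rw [e]
  exact Subgroup.inv_mem _ hx2

theorem InOut.one : InOut q (1 : SpecialLinearGroup (Fin n) F) :=
  ⟨Subgroup.one_mem _, Subgroup.one_mem _⟩

theorem InLL.inv {b : Bool} {x : SpecialLinearGroup (Fin n) F} (hx : InLL q b x) :
    InLL q b x⁻¹ := by
  obtain ⟨hx1, hx2⟩ := hx
  refine ⟨Subgroup.inv_mem _ hx1, ?_⟩
  have e : (⟨x⁻¹, Subgroup.inv_mem _ hx1⟩ : ↥(GJ n F q)) = (⟨x, hx1⟩ : ↥(GJ n F q))⁻¹ := rfl
  rw [e]
  exact Subgroup.inv_mem _ hx2

theorem InLL.one {b : Bool} : InLL q b (1 : SpecialLinearGroup (Fin n) F) :=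
  ⟨Subgroup.one_mem _, Subgroup.one_mem _⟩

theorem NQJ.mul {b : Bool} {x y : SpecialLinearGroup (Fin n) F} (hx : NQJ q b x)
    (hy : NQJ q b y) : NQJ q b (x * y) := by
  refine ⟨Subgroup.mul_mem _ hx.1 hy.1, ?_⟩
  intro u hu
  have h := hx.2 _ (hy.2 u hu)
  have e : x * y * u * (x * y)⁻¹ = x * (y * u * y⁻¹) * x⁻¹ := by group
  rw [e]
  exact h

theorem InLL_of_UJ (b : Bool) {u : SpecialLinearGroup (Fin n) F} (hu : u ∈ UJ n F q) :
    InLL q b u := by
  refine ⟨(mem_UJ.mp hu).1, ?_⟩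
  apply Subgroup.subset_closure
  refine ⟨1, ?_, ⟨u, (mem_UJ.mp hu).1⟩, ?_, by simp⟩
  · intro v hv
    simpa using hv
  · rw [Subgroup.mem_subgroupOf]
    exact hu

theorem InLL_of_conj (b : Bool) {w u : SpecialLinearGroup (Fin n) F} (hw : NQJ q b w)
    (hu : u ∈ UJ n F q) : InLL q b (w * u * w⁻¹) := by
  have huG := (mem_UJ.mp hu).1
  refine ⟨Subgroup.mul_mem _ (Subgroup.mul_mem _ hw.1 huG) (Subgroup.inv_mem _ hw.1), ?_⟩
  apply Subgroup.subset_closure
  refine ⟨⟨w, hw.1⟩, ?_, ⟨u, huG⟩, ?_, rfl⟩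
  · intro v hv
    rw [Subgroup.mem_subgroupOf] at hv ⊢
    exact hw.2 _ hv
  · rw [Subgroup.mem_subgroupOf]
    exact hu

/-- (0) an upper triangular element of `GJ` normalises `UJ` -/
theorem norm_UJ_of_upper {g : SpecialLinearGroup (Fin n) F} (hg : g ∈ GJ n F q)
    (hup : IsUpper g) :
    ∀ s ∈ (UJ n F q).subgroupOf (GJ n F q),
      (⟨g, hg⟩ : ↥(GJ n F q)) * s * (⟨g, hg⟩ : ↥(GJ n F q))⁻¹ ∈
        (UJ n F q).subgroupOf (GJ n F q) := by
  intro s hs
  rw [Subgroup.mem_subgroupOf] at hs ⊢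
  refine mem_UJ.mpr ⟨((⟨g, hg⟩ : ↥(GJ n F q)) * s * (⟨g, hg⟩ : ↥(GJ n F q))⁻¹).2, ?_⟩
  exact C3 n g hup _ (mem_UJ.mp hs).2

theorem InOut_of {b : Bool} {y : SpecialLinearGroup (Fin n) F} (h : InLL q b y)
    (hup : IsUpper y) : InOut q y := by
  obtain ⟨hy, h⟩ := h
  exact ⟨hy, Subgroup.subset_closure ⟨norm_UJ_of_upper hy hup, b, h⟩⟩

/-! ### upper triangular shapes -/

theorem isUpper_of_UT {u : SpecialLinearGroup (Fin n) F} (hu : u ∈ UT n F) : IsUpper u :=
  (mem_UT.mp hu).1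

theorem isUpper_of_diagonal {g : SpecialLinearGroup (Fin n) F} {d : Fin n → F}
    (h : g.1 = Matrix.diagonal d) : IsUpper g := by
  intro i j hij
  rw [h, Matrix.diagonal_apply_ne _ (ne_of_gt hij)]

theorem isUpper_hh {i j : Fin n} (hij : i ≠ j) (t : Fˣ) : IsUpper (hh hij t : SpecialLinearGroup (Fin n) F) :=
  isUpper_of_diagonal (hh_coe hij t)

theorem isUpper_hh_mul {i j k l : Fin n} (hij : i ≠ j) (hkl : k ≠ l) (s t : Fˣ) :
    IsUpper (hh hij s * hh hkl t : SpecialLinearGroup (Fin n) F) := by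
  apply isUpper_of_diagonal (d := fun a => hhFun i j s a * hhFun k l t a)
  show (hh hij s).1 * (hh hkl t).1 = _
  rw [hh_coe, hh_coe, Matrix.diagonal_mul_diagonal]

theorem isUpper_hhJ {i j : Fin n} (hij : i ≠ j) (s : Fˣ) :
    IsUpper (hhJ q hij s : SpecialLinearGroup (Fin n) F) :=
  isUpper_hh_mul _ _ _ _

/-! ### root elements in `UJ` -/

theorem xs_mem_UT {i j : Fin n} (hij : i ≠ j) (hlt : i < j) (a : F) : xs q hij a ∈ UT n F := by
  unfold xs
  apply Subgroup.mul_mem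
  · exact transvection_mem_UT hlt a
  · exact transvection_mem_UT (Fin.rev_lt_rev.mpr hlt) _

theorem xs_mem_UJ (hF : Fintype.card F = q ^ 2) {i j : Fin n} (hij : i ≠ j)
    (hi : i ≠ Fin.rev i) (hj : j ≠ Fin.rev j) (hlt : i < j) (a : F) : xs q hij a ∈ UJ n F q :=
  mem_UJ.mpr ⟨A1_mem hF hij hi hj a, xs_mem_UT hij hlt a⟩

/-! ### fixing `e_0` -/

theorem transvection_fix_e0 {k l : Fin n} (hkl : k ≠ l) (hl : l.val ≠ 0) (c : F) :
    (SpecialLinearGroup.transvection hkl c).1 *ᵥ e0fun n F = e0fun n F := by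
  rw [SpecialLinearGroup.transvection_coe, Matrix.add_mulVec, Matrix.one_mulVec,
    Matrix.single_mulVec_eq]
  have : e0fun n F l = 0 := by
    unfold e0fun
    rw [if_neg hl]
  rw [this, mul_zero, zero_smul, add_zero]

theorem fix_e0_mul {a b : SpecialLinearGroup (Fin n) F}
    (ha : a.1 *ᵥ e0fun n F = e0fun n F) (hb : b.1 *ᵥ e0fun n F = e0fun n F) :
    (a * b).1 *ᵥ e0fun n F = e0fun n F := by
  show (a.1 * b.1) *ᵥ _ = _
  rw [← Matrix.mulVec_mulVec, hb, ha]

theorem xs_fix_e0 {k l : Fin n} (hkl : k ≠ l) (hl : l.val ≠ 0) (hk : (Fin.rev k).val ≠ 0)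
    (a : F) : (xs q hkl a).1 *ᵥ e0fun n F = e0fun n F := by
  unfold xs
  exact fix_e0_mul (transvection_fix_e0 _ hl _) (transvection_fix_e0 _ hk _)

theorem NQJ_false_of_fix (hF : Fintype.card F = q ^ 2) (hn : 4 ≤ n)
    {w : SpecialLinearGroup (Fin n) F} (hw : w ∈ GJ n F q)
    (h : w.1 *ᵥ e0fun n F = e0fun n F) : NQJ q false w := by
  refine ⟨hw, ?_⟩
  exact F1 hF n hn w hw 1 (by rw [h, one_smul])

theorem NQJ_true_xs (hF : Fintype.card F = q ^ 2) (hn : 4 ≤ n) {k l : Fin n} (hkl : k ≠ l)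
    (hk : k.val < n / 2) (hl : l.val < n / 2) (a : F) : NQJ q true (xs q hkl a) := by
  have hk' : k ≠ Fin.rev k := by
    intro e
    have := congrArg Fin.val e
    rw [Fin.val_rev] at this
    omega
  have hl' : l ≠ Fin.rev l := by
    intro e
    have := congrArg Fin.val e
    rw [Fin.val_rev] at this
    omega
  have hmem := A1_mem hF hkl hk' hl' a
  refine ⟨hmem, ?_⟩
  apply F2 hF n hn _ hmem
  intro i j hj hi
  rw [A1_coe hkl hl' a, Matrix.sub_apply, Matrix.add_apply, Matrix.one_apply_ne,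
    Matrix.single_apply_of_ne, Matrix.single_apply_of_ne]
  · simp
  · rintro ⟨-, h2⟩
    have := congrArg Fin.val h2
    rw [Fin.val_rev] at this
    omega
  · rintro ⟨h1, -⟩
    have := congrArg Fin.val h1
    omega
  · intro e
    have := congrArg Fin.val e
    omega

/-! ### the rank one subgroups -/

/-- both root groups of an `SU_2`-type subgroup normalising `Q b` lie in `LLJ b` -/
theorem roots_InLL (hF : Fintype.card F = q ^ 2) (b : Bool) {i j : Fin n} (hij : i ≠ j)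
    (hi : i ≠ Fin.rev i) (hj : j ≠ Fin.rev j) (hij' : i ≠ Fin.rev j) (hlt : i < j)
    (h1 : ∀ a : F, NQJ q b (xs q hij a)) (h2 : ∀ a : F, NQJ q b (xs q hij.symm a)) (a : F) :
    InLL q b (xs q hij a) ∧ InLL q b (xs q hij.symm a) := by
  refine ⟨InLL_of_UJ b (xs_mem_UJ hF hij hi hj hlt a), ?_⟩
  rw [H2 hF hij hi hj hij' a]
  exact InLL_of_conj b (((h1 1).mul (h2 (-1))).mul (h1 1)) (xs_mem_UJ hF hij hi hj hlt (-a))

theorem hhJ_InLL (hF : Fintype.card F = q ^ 2) (b : Bool) {i j : Fin n} (hij : i ≠ j)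
    (hi : i ≠ Fin.rev i) (hj : j ≠ Fin.rev j) (hij' : i ≠ Fin.rev j)
    (h1 : ∀ a : F, NQJ q b (xs q hij a)) (h2 : ∀ a : F, NQJ q b (xs q hij.symm a)) (s : Fˣ) :
    InLL q b (hhJ q hij s) := by
  have key : ∀ a : F, InLL q b (xs q hij a) ∧ InLL q b (xs q hij.symm a) := by
    intro a
    rcases lt_or_gt_of_ne hij with hlt | hgt
    · exact roots_InLL hF b hij hi hj hij' hlt h1 h2 a
    · have hji' : j ≠ Fin.rev i := fun e => hij' (by rw [e, Fin.rev_rev])
      exact (roots_InLL hF b hij.symm hj hi hji' hgt h2 h1 a).symm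
  rw [H1 hF hij hi hj hij' s]
  exact (((((key _).1.mul (key _).2).mul (key _).1).mul (key _).1).mul (key _).2).mul (key _).1

/-! ### the trace zero line -/

/-! ### the trace zero line -/

theorem kt_neg (hF : Fintype.card F = q ^ 2) {c : F} (h : c + c ^ q = 0) :
    (-c) + (-c) ^ q = 0 := by
  rw [Cfsg.Agent.Lib.Helper13_Herm.neg_pow_q hF]
  linear_combination -h

theorem kt_inv {c : F} (h : c + c ^ q = 0) : c⁻¹ + (c⁻¹) ^ q = 0 := by
  have hq : c ^ q = -c := by linear_combination h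
  rw [inv_pow, hq, inv_neg]
  ring

theorem kt_mul_fixed {s c : F} (hs : s ^ q = s) (h : c + c ^ q = 0) :
    s * c + (s * c) ^ q = 0 := by
  rw [mul_pow, hs]
  linear_combination s * h

theorem kt_mul_sq {β ε : F} (hβ : β + β ^ q = 0) (hε : ε + ε ^ q = 0) :
    β * ε ^ 2 + (β * ε ^ 2) ^ q = 0 := by
  have h1 : β ^ q = -β := by linear_combination hβ
  have h2 : ε ^ q = -ε := by linear_combination hε
  rw [mul_pow, ← pow_mul, mul_comm 2 q, pow_mul, h1, h2]
  ring

/-- long root elements for a pair `(k, rev k)` written with an arbitrary second index -/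
theorem long_mem (hF : Fintype.card F = q ^ 2) {k l : Fin n} (hkl : k ≠ l) (hl : l = Fin.rev k)
    (c : F) (hc : c + c ^ q = 0) : SpecialLinearGroup.transvection hkl c ∈ GJ n F q := by
  subst hl
  exact A1_long hF hkl c hc

/-! ### family 2: the two middle indices, `n` even -/

theorem hh_mid_InLL (hF : Fintype.card F = q ^ 2) (hn : 4 ≤ n) {i : Fin n} (hi : i ≠ Fin.rev i)
    (hlt : i < Fin.rev i) (hi0 : i.val ≠ 0) (s : Fˣ) (hs : (s : F) ^ q = (s : F)) :
    InLL q false (hh hi s) := by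
  obtain ⟨ε, hε0, hε⟩ := Cfsg.Agent.Lib.Helper5_SUCenter.exists_trace_zero hF
  have hr0 : (Fin.rev i).val ≠ 0 := by
    have := Fin.lt_def.mp hlt
    omega
  have hT : ∀ c : F, c + c ^ q = 0 →
      SpecialLinearGroup.transvection hi c ∈ UJ n F q := fun c hc =>
    mem_UJ.mpr ⟨A1_long hF hi c hc, transvection_mem_UT hlt c⟩
  have hG' : ∀ c : F, c + c ^ q = 0 →
      SpecialLinearGroup.transvection hi.symm c ∈ GJ n F q := fun c hc =>
    long_mem hF hi.symm (Fin.rev_rev i).symm c hc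
  have hW : NQJ q false (SpecialLinearGroup.transvection hi ε *
      SpecialLinearGroup.transvection hi.symm (-ε⁻¹) * SpecialLinearGroup.transvection hi ε) := by
    apply NQJ_false_of_fix hF hn
    · exact Subgroup.mul_mem _ (Subgroup.mul_mem _ (mem_UJ.mp (hT ε hε)).1
        (hG' _ (kt_neg hF (kt_inv hε)))) (mem_UJ.mp (hT ε hε)).1
    · exact fix_e0_mul (fix_e0_mul (transvection_fix_e0 _ hr0 _) (transvection_fix_e0 _ hi0 _))
        (transvection_fix_e0 _ hr0 _)
  have hT' : ∀ β : F, β + β ^ q = 0 →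
      InLL q false (SpecialLinearGroup.transvection hi.symm β) := by
    intro β hβ
    have h := H3b hi β (Units.mk0 ε hε0)
    rw [Units.val_inv_eq_inv_val, Units.val_mk0] at h
    rw [h]
    exact InLL_of_conj false hW (hT _ (kt_neg hF (kt_mul_sq hβ hε)))
  have ha : (s : F) * ε + ((s : F) * ε) ^ q = 0 := kt_mul_fixed hs hε
  have e : hh hi s = hh hi ((s * Units.mk0 ε hε0) * (Units.mk0 ε hε0)⁻¹) := by
    rw [mul_inv_cancel_right]
  rw [e, H3a hi (s * Units.mk0 ε hε0) (Units.mk0 ε hε0)]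
  simp only [Units.val_inv_eq_inv_val, Units.val_mul, Units.val_mk0]
  exact (((((InLL_of_UJ false (hT _ ha)).mul (hT' _ (kt_neg hF (kt_inv ha)))).mul
    (InLL_of_UJ false (hT _ ha))).mul (InLL_of_UJ false (hT _ (kt_neg hF hε)))).mul
    (hT' _ (kt_inv hε))).mul (InLL_of_UJ false (hT _ (kt_neg hF hε)))

/-! ### family 3: the three middle indices, `n` odd -/

theorem ym_mem_UJ (hF : Fintype.card F = q ^ 2) {i m : Fin n} (him : i ≠ m)
    (hm : Fin.rev m = m) (him1 : i.val + 1 = m.val) (a b : F)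
    (hab : b + b ^ q + a ^ (q + 1) = 0) : ym q him hm a b ∈ UJ n F q := by
  refine mem_UJ.mpr ⟨A2_mem hF him hm a b hab, ?_⟩
  have hmv := congrArg Fin.val hm
  rw [Fin.val_rev] at hmv
  have h1 : i < m := Fin.lt_def.mpr (by omega)
  have h2 : m < Fin.rev i := Fin.lt_def.mpr (by rw [Fin.val_rev]; omega)
  have h3 : i < Fin.rev i := lt_trans h1 h2
  unfold ym
  exact Subgroup.mul_mem _ (Subgroup.mul_mem _ (transvection_mem_UT h1 a)
    (transvection_mem_UT h2 _)) (transvection_mem_UT h3 _)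

theorem e0fun_eq_single (h0 : 0 < n) :
    e0fun n F = (Pi.single (⟨0, h0⟩ : Fin n) 1 : Fin n → F) := by
  funext k
  unfold e0fun
  rw [Pi.single_apply]
  by_cases hk : k.val = 0
  · rw [if_pos hk, if_pos (Fin.ext hk)]
  · rw [if_neg hk, if_neg (fun e => hk (congrArg Fin.val e))]

theorem hh3_InLL (hF : Fintype.card F = q ^ 2) (hn : 4 ≤ n) {i m : Fin n} (him : i ≠ m)
    (hm : Fin.rev m = m) (him1 : i.val + 1 = m.val) (s : Fˣ) :
    InLL q false (hh him s * hh (ne_rev_of_mid him hm) (s ^ q)) := by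
  have hmv := congrArg Fin.val hm
  rw [Fin.val_rev] at hmv
  have key : ∀ z ∈ Subgroup.closure {y : SpecialLinearGroup (Fin n) F |
        ∃ a b : F, b + b ^ q + a ^ (q + 1) = 0 ∧
          (y = ym q him hm a b ∨
           y = ym q (i := Fin.rev i) (m := m)
             (fun e => him (by rw [← hm, ← e, Fin.rev_rev])) hm a b)}, InLL q false z := by
    intro z hz
    induction hz using Subgroup.closure_induction with
    | mem y hy =>
      obtain ⟨a, b, hab, rfl | rfl⟩ := hy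
      · exact InLL_of_UJ false (ym_mem_UJ hF him hm him1 a b hab)
      · obtain ⟨w, hwG, hwfix, a', b', hab', e⟩ := H4b hF him hm a b hab
        rw [e]
        refine InLL_of_conj false (NQJ_false_of_fix hF hn hwG ?_)
          (ym_mem_UJ hF him hm him1 a' b' hab')
        have h0 : 0 < n := by omega
        rw [e0fun_eq_single h0]
        refine (hwfix ⟨0, h0⟩ ?_ ?_ ?_).1
        · intro e
          have := congrArg Fin.val e
          simp only at this
          omega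
        · intro e
          have := congrArg Fin.val e
          simp only at this
          omega
        · intro e
          have := congrArg Fin.val e
          rw [Fin.val_rev] at this
          simp only at this
          omega
    | one => exact InLL.one
    | mul x y _ _ hx hy => exact hx.mul hy
    | inv x _ hx => exact hx.inv
  exact key _ (H4a hF him hm s)

/-! ### the generation clause -/

/-- **GEN** (glue): the generation clause of `FusLocalFamMod` for `S = UJ`, `Q = QJ` inside `↥GJ`. -/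
theorem GEN (hF : Fintype.card F = q ^ 2) (n : ℕ) (hn : 4 ≤ n) (x : ↥(GJ n F q))
    (hup : IsUpper (x : SpecialLinearGroup (Fin n) F)) :
    x ∈ Subgroup.closure {x : ↥(GJ n F q) |
      (∀ s ∈ (UJ n F q).subgroupOf (GJ n F q),
        x * s * x⁻¹ ∈ (UJ n F q).subgroupOf (GJ n F q)) ∧
      ∃ b : Bool, x ∈ Subgroup.closure {y : ↥(GJ n F q) | ∃ m : ↥(GJ n F q),
        (∀ u ∈ (QJ n F q b).subgroupOf (GJ n F q),
          m * u * m⁻¹ ∈ (QJ n F q b).subgroupOf (GJ n F q)) ∧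
        ∃ s ∈ (UJ n F q).subgroupOf (GJ n F q), y = m * s * m⁻¹}} := by
  show x ∈ Subgroup.closure (Gen n F q)
  obtain ⟨u, hu, i0, i1, h01, s, hi0, hi1, t, ht, hb⟩ := H5 hF n hn x.1 x.2 hup
  have h1 : InOut q u := InOut_of (InLL_of_UJ false hu) (isUpper_of_UT (mem_UJ.mp hu).2)
  have h2 : InOut q (hhJ q h01 s) := by
    refine InOut_of (b := true) (hhJ_InLL hF true h01 ?_ ?_ ?_ ?_ ?_ s) (isUpper_hhJ h01 s)
    · intro e
      have := congrArg Fin.val e
      rw [Fin.val_rev] at this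
      omega
    · intro e
      have := congrArg Fin.val e
      rw [Fin.val_rev] at this
      omega
    · intro e
      have := congrArg Fin.val e
      rw [Fin.val_rev] at this
      omega
    · intro a
      exact NQJ_true_xs hF hn h01 (by omega) (by omega) a
    · intro a
      exact NQJ_true_xs hF hn h01.symm (by omega) (by omega) a
  have h3 : ∀ y ∈ Subgroup.closure (torusGens n F q), InOut q y := by
    intro y hy
    induction hy using Subgroup.closure_induction with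
    | mem y hy =>
      rcases hy with ⟨i, j, hij, s, hi0, hi, hj0, hj, rfl⟩ | ⟨i, hi, s, hi1, hs, rfl⟩ |
        ⟨i, m, him, hm, s, him1, rfl⟩
      · have hi' : i ≠ Fin.rev i := by
          intro e
          have := congrArg Fin.val e
          rw [Fin.val_rev] at this
          omega
        have hj' : j ≠ Fin.rev j := by
          intro e
          have := congrArg Fin.val e
          rw [Fin.val_rev] at this
          omega
        have hij' : i ≠ Fin.rev j := by
          intro e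
          have := congrArg Fin.val e
          rw [Fin.val_rev] at this
          omega
        have hri : (Fin.rev i).val ≠ 0 := by
          rw [Fin.val_rev]
          omega
        have hrj : (Fin.rev j).val ≠ 0 := by
          rw [Fin.val_rev]
          omega
        refine InOut_of (b := false) (hhJ_InLL hF false hij hi' hj' hij' ?_ ?_ s)
          (isUpper_hhJ hij s)
        · intro a
          exact NQJ_false_of_fix hF hn (A1_mem hF hij hi' hj' a)
            (xs_fix_e0 hij (by omega) hri a)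
        · intro a
          exact NQJ_false_of_fix hF hn (A1_mem hF hij.symm hj' hi' a)
            (xs_fix_e0 hij.symm (by omega) hrj a)
      · have hv : (Fin.rev i).val = n - (i.val + 1) := Fin.val_rev i
        refine InOut_of (b := false) (hh_mid_InLL hF hn hi (Fin.lt_def.mpr (by omega))
          (by omega) s hs) (isUpper_hh hi s)
      · exact InOut_of (b := false) (hh3_InLL hF hn him hm him1 s) (isUpper_hh_mul _ _ _ _)
    | one => exact InOut.one
    | mul x y _ _ hx hy => exact hx.mul hy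
    | inv x _ hx => exact hx.inv
  obtain ⟨hy, h⟩ := (h1.mul h2).mul (h3 t ht)
  have e : x = ⟨u * hhJ q h01 s * t, hy⟩ := Subtype.ext hb
  rw [e]
  exact h

end Cfsg.Agent.Lib.Helper11_S5172_GEN
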