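import Mathlib

set_option autoImplicit false
set_option linter.unusedSectionVars false

/-!
# SU36-E6cA, sub-package FFa (for helper52 / helper27, S5802)

Finite-field facts for `|F| = 4`, `|L| = 64`: characteristic two, the fixed field of `x ↦ x ^ 4`,
and: an involutive ring automorphism of `L` inducing the Frobenius map on `F` is `x ↦ x ^ 8`
(the automorphism group of `L` over the prime field is cyclic of order six, generated by the
Frobenius map).
-/

namespace Cfsg.Agent.Lib.Helper11_SU36_E6cFFa

variable {F L : Type*} [Field F] [Fintype F] [Field L] [Fintype L] [Algebra F L]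

/-- FF1a -/
theorem two_eq_zero_F (hF : Fintype.card F = 4) : (2 : F) = 0 := by
  have h4 : (4 : F) = 0 := by
    have := Nat.cast_card_eq_zero F
    rw [hF] at this
    exact_mod_cast this
  have h22 : (2 : F) * 2 = 0 := by linear_combination h4
  exact mul_self_eq_zero.1 h22

/-- FF1b -/
theorem pow_four_F (hF : Fintype.card F = 4) (x : F) : x ^ 4 = x := by
  have := FiniteField.pow_card x
  rwa [hF] at this

/-- FF1c: a primitive cube root of unity -/
theorem exists_omega (hF : Fintype.card F = 4) : ∃ ω : F, ω ^ 2 + ω + 1 = 0 := by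
  classical
  obtain ⟨ω, hω⟩ : ∃ ω : F, ω ∉ ({0, 1} : Finset F) := by
    by_contra hcon
    simp only [not_exists, not_not] at hcon
    have huniv : (Finset.univ : Finset F) ⊆ {0, 1} := fun x _ => hcon x
    have h1 := Finset.card_le_card huniv
    rw [Finset.card_univ, hF] at h1
    have h2 : ({0, 1} : Finset F).card ≤ 2 := Finset.card_le_two
    omega
  rw [Finset.mem_insert, Finset.mem_singleton, not_or] at hω
  refine ⟨ω, ?_⟩
  have h4 := pow_four_F hF ω
  have hfac : ω * ((ω - 1) * (ω ^ 2 + ω + 1)) = 0 := by linear_combination h4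
  rcases mul_eq_zero.1 hfac with h | h
  · exact absurd h hω.1
  · rcases mul_eq_zero.1 h with h' | h'
    · exact absurd (sub_eq_zero.1 h') hω.2
    · exact h'

/-- FF1d: the prime field of a field with four elements is `{0, 1}`. -/
theorem mem_bot_iff (hF : Fintype.card F = 4) (x : F) :
    x ∈ (⊥ : Subfield F) ↔ x = 0 ∨ x = 1 := by
  have : CharP F 2 := CharTwo.of_one_ne_zero_of_two_eq_zero one_ne_zero (two_eq_zero_F hF)
  have : Fact (Nat.Prime 2) := ⟨Nat.prime_two⟩
  rw [Subfield.mem_bot_iff_pow_eq_self F 2]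
  constructor
  · intro h
    have h1 : x * (x - 1) = 0 := by linear_combination h
    rcases mul_eq_zero.1 h1 with h2 | h2
    · exact Or.inl h2
    · exact Or.inr (sub_eq_zero.1 h2)
  · rintro (rfl | rfl) <;> simp

/-- FF1e -/
theorem two_eq_zero_L (hF : Fintype.card F = 4) : (2 : L) = 0 := by
  have h := congrArg (algebraMap F L) (two_eq_zero_F hF)
  rwa [map_ofNat, map_zero] at h

/-- FF1f: the elements of `L` fixed by `x ↦ x ^ 4` are those of `F`. -/
theorem exists_algebraMap_eq (hF : Fintype.card F = 4) (x : L) (hx : x ^ 4 = x) :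
    ∃ c : F, algebraMap F L c = x := by
  classical
  set p : Polynomial L := Polynomial.X ^ 4 - Polynomial.X with hp
  have hp0 : p ≠ 0 := FiniteField.X_pow_card_sub_X_ne_zero L (by norm_num)
  have hdeg : p.natDegree = 4 := FiniteField.X_pow_card_sub_X_natDegree_eq L (by norm_num)
  set S : Finset L := Finset.image (algebraMap F L) Finset.univ with hS
  have hScard : S.card = 4 := by
    rw [hS, Finset.card_image_of_injective _ (algebraMap F L).injective, Finset.card_univ, hF]
  have hSsub : S ⊆ p.roots.toFinset := by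
    intro y hy
    obtain ⟨c, -, rfl⟩ := Finset.mem_image.1 hy
    rw [Multiset.mem_toFinset, Polynomial.mem_roots hp0, Polynomial.IsRoot, hp]
    simp only [Polynomial.eval_sub, Polynomial.eval_pow, Polynomial.eval_X]
    rw [← map_pow, pow_four_F hF, sub_self]
  have hle : p.roots.toFinset.card ≤ S.card := by
    calc p.roots.toFinset.card ≤ Multiset.card p.roots := Multiset.toFinset_card_le _
      _ ≤ p.natDegree := Polynomial.card_roots' p
      _ = S.card := by rw [hdeg, hScard]
  have heq : S = p.roots.toFinset := Finset.eq_of_subset_of_card_le hSsub hle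
  have hxroot : x ∈ p.roots.toFinset := by
    rw [Multiset.mem_toFinset, Polynomial.mem_roots hp0, Polynomial.IsRoot, hp]
    simp only [Polynomial.eval_sub, Polynomial.eval_pow, Polynomial.eval_X]
    rw [hx, sub_self]
  rw [← heq] at hxroot
  obtain ⟨c, -, hc⟩ := Finset.mem_image.1 hxroot
  exact ⟨c, hc⟩

/-- if every element of `L` is fixed by `x ↦ x ^ 4` then `L` has at most four elements -/
theorem card_le_of_forall_pow_four (hF : Fintype.card F = 4) (h : ∀ x : L, x ^ 4 = x) :
    Fintype.card L ≤ 4 := by
  rw [← hF]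
  exact Fintype.card_le_of_surjective (algebraMap F L) fun x => exists_algebraMap_eq hF x (h x)

/-- FF2: an involutive ring automorphism of the field with 64 elements inducing the Frobenius map on the
subfield with four elements is `x ↦ x ^ 8`. -/
theorem dag_eq_pow (hF : Fintype.card F = 4) (hL : Fintype.card L = 64) (dag : L → L)
    (dag_add : ∀ x y, dag (x + y) = dag x + dag y) (dag_mul : ∀ x y, dag (x * y) = dag x * dag y)
    (dag_dag : ∀ x, dag (dag x) = x)
    (dag_alg : ∀ c : F, dag (algebraMap F L c) = algebraMap F L (c ^ 2)) :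
    ∀ x, dag x = x ^ 8 := by
  classical
  have h2L : (2 : L) = 0 := two_eq_zero_L (F := F) hF
  have h2F : (2 : F) = 0 := two_eq_zero_F hF
  have : CharP L 2 := CharTwo.of_one_ne_zero_of_two_eq_zero one_ne_zero h2L
  have : Fact (Nat.Prime 2) := ⟨Nat.prime_two⟩
  let _ : Algebra (ZMod 2) L := ZMod.algebra L 2
  have hone : dag 1 = 1 := by
    have := dag_alg 1
    simpa using this
  have hzero : dag 0 = 0 := by
    have := dag_add 0 0
    simpa using this
  let φ : L →+* L :=
    { toFun := dag, map_one' := hone, map_mul' := dag_mul, map_zero' := hzero, map_add' := dag_add }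
  have hφbij : Function.Bijective φ :=
    Function.Involutive.bijective (f := dag) dag_dag
  let σ : L ≃ₐ[ZMod 2] L := AlgEquiv.ofRingEquiv (f := RingEquiv.ofBijective φ hφbij) (by
    intro r
    have h := RingHom.congr_fun
      (Subsingleton.elim (φ.comp (algebraMap (ZMod 2) L)) (algebraMap (ZMod 2) L)) r
    exact h)
  have hσ : ∀ x, σ x = dag x := fun x => rfl
  have hrank : Module.finrank (ZMod 2) L = 6 := by
    have h := Module.card_eq_pow_finrank (K := ZMod 2) (V := L)
    rw [hL, ZMod.card] at h
    have h64 : (64 : ℕ) = 2 ^ 6 := by norm_num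
    rw [h64] at h
    exact (Nat.pow_right_injective (le_refl 2) h).symm
  obtain ⟨n, hn⟩ := (FiniteField.bijective_frobeniusAlgEquivOfAlgebraic_pow (ZMod 2) L).2 σ
  have hpow : ∀ x, dag x = x ^ (2 ^ n.1) := by
    intro x
    have h1 := DFunLike.congr_fun hn x
    simp only at h1
    rw [AlgEquiv.coe_pow, FiniteField.coe_frobeniusAlgEquivOfAlgebraic_iterate, ZMod.card] at h1
    rw [← hσ x, ← h1]
  have hn6 : n.1 < 6 := by
    have := n.2
    omega
  obtain ⟨ω, hω⟩ := exists_omega hF
  have hω2 : ω ^ 2 ≠ ω := by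
    intro h
    rw [h] at hω
    apply one_ne_zero (α := F)
    linear_combination hω - ω * h2F
  have hω4 : ω ^ 4 = ω := pow_four_F hF ω
  have hcard : ¬ (∀ x : L, x ^ 4 = x) := by
    intro h
    have := card_le_of_forall_pow_four hF h
    omega
  have hnval : n.1 = 0 ∨ n.1 = 1 ∨ n.1 = 2 ∨ n.1 = 3 ∨ n.1 = 4 ∨ n.1 = 5 := by omega
  rcases hnval with h | h | h | h | h | h
  · -- the identity
    exfalso
    have h1 := hpow (algebraMap F L ω)
    rw [dag_alg, h, pow_zero, pow_one] at h1
    exact hω2 ((algebraMap F L).injective h1)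
  · -- `x ↦ x ^ 2`
    exfalso
    apply hcard
    intro x
    have h1 := dag_dag x
    rw [hpow (dag x), hpow x, h, ← pow_mul] at h1
    norm_num at h1
    exact h1
  · -- `x ↦ x ^ 4`
    exfalso
    have h1 := hpow (algebraMap F L ω)
    rw [dag_alg, h, ← map_pow] at h1
    have h3 : ω ^ 2 = ω ^ (2 ^ 2) := (algebraMap F L).injective h1
    apply hω2
    rw [h3]
    norm_num
    exact hω4
  · -- `x ↦ x ^ 8`
    intro x
    rw [hpow x, h]
    norm_num
  · -- `x ↦ x ^ 16`
    exfalso
    have h1 := hpow (algebraMap F L ω)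
    rw [dag_alg, h, ← map_pow] at h1
    have h3 : ω ^ 2 = ω ^ (2 ^ 4) := (algebraMap F L).injective h1
    apply hω2
    rw [h3]
    have : ω ^ (2 ^ 4) = (ω ^ 4) ^ 4 := by rw [← pow_mul]; norm_num
    rw [this, hω4, hω4]
  · -- `x ↦ x ^ 32`
    exfalso
    apply hcard
    intro x
    have h64 : x ^ 64 = x := by
      have := FiniteField.pow_card x
      rwa [hL] at this
    have h1 := dag_dag x
    rw [hpow (dag x), hpow x, h, ← pow_mul] at h1
    have h16 : x ^ 16 = x := by
      have e : x ^ (2 ^ 5 * 2 ^ 5) = (x ^ 64) ^ 16 := by rw [← pow_mul]; norm_num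
      rw [e, h64] at h1
      exact h1
    have e4 : x ^ 64 = (x ^ 16) ^ 4 := by rw [← pow_mul]
    rw [e4, h16] at h64
    exact h64

end Cfsg.Agent.Lib.Helper11_SU36_E6cFFa
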