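import Mathlib
import Cfsg.Prelude.Def_Classical
import Cfsg.Prelude.Def_ClassicalGeometry
import Cfsg.Agent.S0246
import Cfsg.Agent.Lib.Helper13_Symp
import Cfsg.Agent.Lib.Helper13_SympTrans
import Cfsg.Agent.Lib.Helper44_SpUT
import Cfsg.Agent.Lib.Helper11_SpFusDefs

/-!
# S5171 package SC_LEVI_A (helper11's market): the Weyl element `e_j ↦ f_j ↦ -e_j` turns the Siegel element
`Xg (-a (E_ij + E_ji))` into the Levi root element `lv ij a`

Also here: `wg j` (the Weyl element as an element of `Sp`), `wmat j` (its matrix), `wg_mul_Xg`.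
-/

set_option autoImplicit false
set_option linter.unusedVariables false
set_option linter.unusedSimpArgs false

namespace Cfsg.Agent.Lib.Helper32_S5171_SC_LEVI_A

open Matrix Cfsg.Agent.Lib.Helper44_PSLnUT Cfsg.Agent.Lib.Helper5_SpPerfect
  Cfsg.Agent.Lib.Helper44_SpUT Cfsg.Agent.Lib.Helper13_Symp Cfsg.Agent.Lib.Helper11_SpFusDefs

variable {F : Type*} [Field F]

/-- the matrix of the Weyl element `e_j ↦ f_j ↦ -e_j` -/
def wmat {m : ℕ} (j : Fin m) : Matrix (Fin m ⊕ Fin m) (Fin m ⊕ Fin m) F :=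
  fromBlocks (1 - single j j 1) (-single j j 1) (single j j 1) (1 - single j j 1)

theorem wmat_mem {m : ℕ} (j : Fin m) : (wmat j : Matrix _ _ F) ∈ symplecticGroup (Fin m) F := by
  unfold wmat
  rw [SymplecticGroup.fromBlocks_mem_iff]
  simp only [Matrix.transpose_sub, Matrix.transpose_one, Matrix.transpose_single, Matrix.transpose_neg,
    Matrix.sub_mul, Matrix.mul_sub, Matrix.one_mul, Matrix.mul_one, Matrix.neg_mul, Matrix.mul_neg,
    single_mul_single_same, mul_one]
  refine ⟨?_, ?_, ?_⟩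
  · trivial
  · abel
  · abel

/-- the Weyl element `e_j ↦ f_j ↦ -e_j` -/
def wg {m : ℕ} (j : Fin m) : symplecticGroup (Fin m) F := ⟨wmat j, wmat_mem j⟩

theorem single_neg' {m : ℕ} (i j : Fin m) (a : F) :
    (single i j (-a) : Matrix (Fin m) (Fin m) F) = -single i j a := by
  ext r c
  rw [Matrix.neg_apply, single_apply, single_apply]
  split_ifs <;> simp

theorem wg_mul_Xg {m : ℕ} {i j : Fin m} (hij : i ≠ j) (a : F)
    (hS : (single i j (-a) + single j i (-a) : Matrix (Fin m) (Fin m) F)ᵀ =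
      single i j (-a) + single j i (-a)) :
    wg j * Xg (single i j (-a) + single j i (-a)) hS = lv hij a * wg j := by
  have hji := hij.symm
  apply Subtype.ext
  show wmat j * Xmat _ = Lmat _ _ * wmat j
  unfold wmat Xmat Lmat
  rw [fromBlocks_multiply, fromBlocks_multiply]
  congr 1
  all_goals
    simp only [Matrix.add_mul, Matrix.mul_add, Matrix.sub_mul, Matrix.mul_sub, Matrix.one_mul, Matrix.mul_one,
      Matrix.mul_zero, Matrix.zero_mul, Matrix.neg_mul, Matrix.mul_neg, Matrix.transpose_sub, Matrix.transpose_one,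
      Matrix.transpose_single,
      add_zero, zero_add, single_mul_single_same, single_mul_single_of_ne _ _ _ _ hij,
      single_mul_single_of_ne _ _ _ _ hji, mul_one, one_mul, single_neg']
    abel

/-- SC_LEVI_A (M, ~150 lines). For `i < j` let `w` be the Weyl element `e_j ↦ f_j ↦ -e_j`; then
`w * Xg (a (E_ij + E_ji)) * w⁻¹ = lv hij (±a)` (a direct block computation), which lies in `USp`
(`Helper44_SpUT.isUT_one_add_single`, `Lg_mem_USp`), hence in `T`. Replace `a` by `-a` if needed. -/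
theorem SC_LEVI_A {m : ℕ} (T : Subgroup (symplecticGroup (Fin m) F)) (hT : T ≤ USp m F)
    (hsc : ∀ t ∈ T, ∀ g : symplecticGroup (Fin m) F, g * t * g⁻¹ ∈ USp m F → g * t * g⁻¹ ∈ T)
    (hX : ∀ (S : Matrix (Fin m) (Fin m) F) (hS : Sᵀ = S), Xg S hS ∈ T)
    {i j : Fin m} (hij : i < j) (a : F) : lv (ne_of_lt hij) a ∈ T := by
  have hS : (single i j (-a) + single j i (-a) : Matrix (Fin m) (Fin m) F)ᵀ =
      single i j (-a) + single j i (-a) := by
    rw [Matrix.transpose_add, Matrix.transpose_single, Matrix.transpose_single, add_comm]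
  have hconj : wg j * Xg (single i j (-a) + single j i (-a)) hS * (wg j)⁻¹ = lv (ne_of_lt hij) a := by
    rw [wg_mul_Xg (ne_of_lt hij) a hS, mul_inv_cancel_right]
  rw [← hconj]
  apply hsc _ (hX _ hS)
  rw [hconj]
  refine ⟨?_, ?_⟩
  · show (Lmat (1 + single i j a) (1 - single i j a)).toBlocks₂₁ = 0
    unfold Lmat
    rw [toBlocks_fromBlocks₂₁]
  · show IsUT (Lmat (1 + single i j a) (1 - single i j a)).toBlocks₁₁
    unfold Lmat
    rw [toBlocks_fromBlocks₁₁]
    exact isUT_one_add_single hij a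

end Cfsg.Agent.Lib.Helper32_S5171_SC_LEVI_A
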