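import Mathlib
import Cfsg.Prelude.Def_Classical
import Cfsg.Prelude.Def_ClassicalGeometry
import Cfsg.Agent.S0246
import Cfsg.Agent.Lib.Helper13_Symp
import Cfsg.Agent.Lib.Helper13_SympTrans
import Cfsg.Agent.Lib.Helper44_SpUT
import Cfsg.Agent.Lib.Helper11_SpFusDefs

/-!
# S5171 package SC_SIEG_A (helper11's market): a long root element in a strongly closed `T ≤ USp`
yields every `Xg (c x xᵀ)`

`xl c` is the symplectic transvection with centre `e_0`; `Sp` is transitive on nonzero vectors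
(`Helper13_SympTrans.exists_transv_map`), and conjugation moves the centre (`Helper5_SpPerfect.conj_transv`).
-/

set_option autoImplicit false
set_option linter.unusedVariables false
set_option linter.unusedSimpArgs false

namespace Cfsg.Agent.Lib.Helper32_S5171_SC_SIEG_A

open Matrix Cfsg.Agent.Lib.Helper44_PSLnUT Cfsg.Agent.Lib.Helper5_SpPerfect
  Cfsg.Agent.Lib.Helper44_SpUT Cfsg.Agent.Lib.Helper13_Symp Cfsg.Agent.Lib.Helper11_SpFusDefs

variable {F : Type*} [Field F]

/-- The symplectic transvection with centre `(x, 0)` is the Siegel element `Xg (c x xᵀ)`. -/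
theorem transv_inl {m : ℕ} (x : Fin m → F) (c : F)
    (hS : (c • Matrix.vecMulVec x x)ᵀ = c • Matrix.vecMulVec x x) :
    Cfsg.Agent.Lib.Helper13_SympTrans.transv m (Sum.elim x 0) c = Xg (c • Matrix.vecMulVec x x) hS := by
  apply Subtype.ext
  show Cfsg.sympTransvection m (Sum.elim x 0) c = Xmat (c • Matrix.vecMulVec x x)
  unfold Cfsg.sympTransvection Xmat
  ext i j
  rcases i with i | i <;> rcases j with j | j <;>
    simp [Matrix.vecMulVec_apply, J_mulVec_inl, J_mulVec_inr, Matrix.one_apply]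

/-- SC_SIEG_A (M, ~120 lines). For `x ≠ 0` pick an invertible `A` with first column `x` (e.g. extend to a basis:
`Matrix.GeneralLinearGroup`, or `A = 1 + (x - e_0) e_0ᵀ` if `x_0 ≠ 0`, composed with a permutation otherwise);
`Lg A A⁻¹ * xl c * (Lg A A⁻¹)⁻¹ = Xg (A (c E_00) Aᵀ) = Xg (c • vecMulVec x x)` (`Lg_mul_Xg`), in `USp` (`Xg_mem_USp`),
hence in `T`. `x = 0`: `Xg 0 = 1`. -/
theorem SC_SIEG_A {k : ℕ} (T : Subgroup (symplecticGroup (Fin (k + 1)) F)) (hT : T ≤ USp (k + 1) F)
    (hsc : ∀ t ∈ T, ∀ g : symplecticGroup (Fin (k + 1)) F, g * t * g⁻¹ ∈ USp (k + 1) F → g * t * g⁻¹ ∈ T)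
    (c : F) (hc : xl c ∈ T) (x : Fin (k + 1) → F)
    (hS : (c • Matrix.vecMulVec x x)ᵀ = c • Matrix.vecMulVec x x) :
    Xg (c • Matrix.vecMulVec x x) hS ∈ T := by
  by_cases hx : x = 0
  · subst hx
    have h0 : c • Matrix.vecMulVec (0 : Fin (k + 1) → F) (0 : Fin (k + 1) → F) =
        (0 : Matrix (Fin (k + 1)) (Fin (k + 1)) F) := by
      ext i j
      simp [Matrix.vecMulVec_apply]
    rw [Xg_congr h0 hS, Xg_zero]
    exact T.one_mem
  · have hxl : (xl c : symplecticGroup (Fin (k + 1)) F) =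
        Cfsg.Agent.Lib.Helper13_SympTrans.transv (k + 1) (Pi.single (Sum.inl 0) 1) c := by
      rw [transv_single]
      rfl
    have hx' : (Sum.elim x 0 : Fin (k + 1) ⊕ Fin (k + 1) → F) ≠ 0 := by
      intro h
      apply hx
      funext i
      have := congrFun h (Sum.inl i)
      simpa using this
    have he0 : (Pi.single (Sum.inl 0) 1 : Fin (k + 1) ⊕ Fin (k + 1) → F) ≠ 0 := by
      intro h
      have := congrFun h (Sum.inl 0)
      simp at this
    obtain ⟨g, -, hg⟩ := Cfsg.Agent.Lib.Helper13_SympTrans.exists_transv_map (k + 1)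
      (Pi.single (Sum.inl 0) 1) (Sum.elim x 0) he0 hx'
    have hconj : g * xl c * g⁻¹ = Xg (c • Matrix.vecMulVec x x) hS := by
      rw [hxl, conj_transv, hg, transv_inl]
    rw [← hconj]
    apply hsc _ hc
    rw [hconj]
    exact Xg_mem_USp hS

end Cfsg.Agent.Lib.Helper32_S5171_SC_SIEG_A
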