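import Mathlib
import Cfsg.Prelude.Def_Classical
import Cfsg.Prelude.Def_ClassicalGeometry
import Cfsg.Agent.S0246
import Cfsg.Agent.Lib.Helper13_Symp
import Cfsg.Agent.Lib.Helper13_SympTrans
import Cfsg.Agent.Lib.Helper44_SpUT
import Cfsg.Agent.Lib.Helper11_SpFusDefs

/-!
# S5171 package NB_B (architect helper11, proof helper4)

An element of `Sp_{2m}(F)` that conjugates the unitriangular subgroup `USp` into itself lies in the
Borel subgroup.  Flag induction: with `V_i = <e_0, …, e_{i-1}>` (`i ≤ m`), the vectors `v` with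
`(u - 1) v ∈ V_i` for all `u ∈ USp` are exactly those of `V_{i+1}` (`i < m`), so `g⁻¹` preserves every
`V_i`, i.e. `g⁻¹` is in the Borel subgroup; the Borel subgroup is closed under inverses.
-/

set_option autoImplicit false

namespace Cfsg.Agent.Lib.Helper4_S5171_NB_B

open Matrix Cfsg.Agent.Lib.Helper44_PSLnUT Cfsg.Agent.Lib.Helper5_SpPerfect
  Cfsg.Agent.Lib.Helper44_SpUT Cfsg.Agent.Lib.Helper13_Symp Cfsg.Agent.Lib.Helper11_SpFusDefs

variable {F : Type*} [Field F]

/-- membership in `V_i = <e_0, …, e_{i-1}>` -/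
def InV {m : ℕ} (i : ℕ) (v : Fin m ⊕ Fin m → F) : Prop :=
  (∀ j : Fin m, v (Sum.inr j) = 0) ∧ ∀ j : Fin m, i ≤ j.val → v (Sum.inl j) = 0

theorem inV_zero_iff {m : ℕ} (v : Fin m ⊕ Fin m → F) : InV 0 v ↔ v = 0 := by
  constructor
  · rintro ⟨h1, h2⟩
    funext a
    rcases a with j | j
    · exact h2 j (Nat.zero_le _)
    · exact h1 j
  · rintro rfl
    exact ⟨fun _ => rfl, fun _ _ => rfl⟩

/-- `u - 1` maps `V_{i+1}` into `V_i` for `u ∈ USp` -/
theorem inV_of_mem_USp {m : ℕ} {u : symplecticGroup (Fin m) F} (hu : u ∈ USp m F) (i : ℕ)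
    (v : Fin m ⊕ Fin m → F) (hv : InV (i + 1) v) : InV i ((u.1 - 1) *ᵥ v) := by
  obtain ⟨hC, hA⟩ := hu
  refine ⟨fun j => ?_, fun j hj => ?_⟩
  · rw [Matrix.mulVec, dotProduct, Fintype.sum_sum_type]
    have h1 : ∀ k : Fin m, (u.1 - 1) (Sum.inr j) (Sum.inl k) * v (Sum.inl k) = 0 := by
      intro k
      have e1 : u.1 (Sum.inr j) (Sum.inl k) = u.1.toBlocks₂₁ j k := rfl
      rw [Matrix.sub_apply, e1, hC, Matrix.one_apply_ne (by simp), Matrix.zero_apply, sub_zero,
        zero_mul]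
    have h2 : ∀ k : Fin m, (u.1 - 1) (Sum.inr j) (Sum.inr k) * v (Sum.inr k) = 0 := by
      intro k
      rw [hv.1 k, mul_zero]
    rw [Finset.sum_eq_zero (fun k _ => h1 k), Finset.sum_eq_zero (fun k _ => h2 k), add_zero]
  · rw [Matrix.mulVec, dotProduct, Fintype.sum_sum_type]
    have h2 : ∀ k : Fin m, (u.1 - 1) (Sum.inl j) (Sum.inr k) * v (Sum.inr k) = 0 := by
      intro k
      rw [hv.1 k, mul_zero]
    have h1 : ∀ k : Fin m, (u.1 - 1) (Sum.inl j) (Sum.inl k) * v (Sum.inl k) = 0 := by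
      intro k
      have e1 : u.1 (Sum.inl j) (Sum.inl k) = u.1.toBlocks₁₁ j k := rfl
      rcases lt_trichotomy k j with hkj | hkj | hkj
      · have hne : (Sum.inl j : Fin m ⊕ Fin m) ≠ Sum.inl k := by
          intro h
          exact absurd (Sum.inl.inj h) (ne_of_gt hkj)
        rw [Matrix.sub_apply, e1, hA.1 j k hkj, Matrix.one_apply_ne hne, sub_zero, zero_mul]
      · subst hkj
        have e2 : u.1 (Sum.inl k) (Sum.inl k) = u.1.toBlocks₁₁ k k := rfl
        rw [Matrix.sub_apply, e2, hA.2 k, Matrix.one_apply_eq, sub_self, zero_mul]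
      · have : i + 1 ≤ k.val := by
          have : j.val < k.val := hkj
          omega
        rw [hv.2 k this, mul_zero]
    rw [Finset.sum_eq_zero (fun k _ => h1 k), Finset.sum_eq_zero (fun k _ => h2 k), add_zero]

/-- the `inl`-rows of `(Xmat S - 1) v` -/
theorem Xmat_sub_one_mulVec_inl {m : ℕ} (S : Matrix (Fin m) (Fin m) F) (v : Fin m ⊕ Fin m → F)
    (a : Fin m) : ((Xmat S - 1) *ᵥ v) (Sum.inl a) = ∑ k, S a k * v (Sum.inr k) := by
  rw [Matrix.mulVec, dotProduct, Fintype.sum_sum_type]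
  have h1 : ∀ k : Fin m, (Xmat S - 1) (Sum.inl a) (Sum.inl k) * v (Sum.inl k) = 0 := by
    intro k
    have e1 : (Xmat S) (Sum.inl a) (Sum.inl k) = (1 : Matrix (Fin m) (Fin m) F) a k := rfl
    have e2 : (1 : Matrix (Fin m ⊕ Fin m) (Fin m ⊕ Fin m) F) (Sum.inl a) (Sum.inl k) =
        (1 : Matrix (Fin m) (Fin m) F) a k := by
      simp [Matrix.one_apply]
    rw [Matrix.sub_apply, e1, e2, sub_self, zero_mul]
  have h2 : ∀ k : Fin m, (Xmat S - 1) (Sum.inl a) (Sum.inr k) * v (Sum.inr k) =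
      S a k * v (Sum.inr k) := by
    intro k
    have e1 : (Xmat S) (Sum.inl a) (Sum.inr k) = S a k := rfl
    rw [Matrix.sub_apply, e1, Matrix.one_apply_ne (by simp), sub_zero]
  rw [Finset.sum_eq_zero (fun k _ => h1 k), zero_add]
  exact Finset.sum_congr rfl (fun k _ => h2 k)

/-- the `inl`-rows of `(Lmat A B - 1) v` -/
theorem Lmat_sub_one_mulVec_inl {m : ℕ} (A B : Matrix (Fin m) (Fin m) F) (v : Fin m ⊕ Fin m → F)
    (a : Fin m) : ((Lmat A B - 1) *ᵥ v) (Sum.inl a) = ∑ k, (A - 1) a k * v (Sum.inl k) := by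
  rw [Matrix.mulVec, dotProduct, Fintype.sum_sum_type]
  have h1 : ∀ k : Fin m, (Lmat A B - 1) (Sum.inl a) (Sum.inl k) * v (Sum.inl k) =
      (A - 1) a k * v (Sum.inl k) := by
    intro k
    have e1 : (Lmat A B) (Sum.inl a) (Sum.inl k) = A a k := rfl
    have e2 : (1 : Matrix (Fin m ⊕ Fin m) (Fin m ⊕ Fin m) F) (Sum.inl a) (Sum.inl k) =
        (1 : Matrix (Fin m) (Fin m) F) a k := by
      simp [Matrix.one_apply]
    rw [Matrix.sub_apply, e1, e2, Matrix.sub_apply]
  have h2 : ∀ k : Fin m, (Lmat A B - 1) (Sum.inl a) (Sum.inr k) * v (Sum.inr k) = 0 := by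
    intro k
    have e1 : (Lmat A B) (Sum.inl a) (Sum.inr k) = 0 := rfl
    rw [Matrix.sub_apply, e1, Matrix.one_apply_ne (by simp), sub_zero, zero_mul]
  rw [Finset.sum_eq_zero (fun k _ => h2 k), add_zero]
  exact Finset.sum_congr rfl (fun k _ => h1 k)

/-- conversely: the vectors moved into `V_i` by all `u - 1` lie in `V_{i+1}` -/
theorem inV_succ_of_forall {m : ℕ} (i : ℕ) (hi : i < m) (v : Fin m ⊕ Fin m → F)
    (h : ∀ u ∈ USp m F, InV i ((u.1 - 1) *ᵥ v)) : InV (i + 1) v := by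
  refine ⟨fun j => ?_, fun j hj => ?_⟩
  · by_cases hjr : j = ⟨i, hi⟩
    · have hS : (Matrix.single j j (1 : F))ᵀ = Matrix.single j j (1 : F) := by
        rw [Matrix.transpose_single]
      have h1 := (h _ (Xg_mem_USp hS)).2 ⟨i, hi⟩ (le_refl i)
      have e : (Xg (Matrix.single j j (1 : F)) hS).1 = Xmat (Matrix.single j j (1 : F)) := rfl
      rw [e, Xmat_sub_one_mulVec_inl, ← hjr] at h1
      rw [Finset.sum_eq_single j] at h1
      · simpa using h1
      · intro k _ hk
        rw [Matrix.single_apply_of_col_ne _ _ (Ne.symm hk), zero_mul]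
      · intro hh
        exact absurd (Finset.mem_univ j) hh
    · have hS : (Matrix.single j ⟨i, hi⟩ (1 : F) + Matrix.single ⟨i, hi⟩ j (1 : F))ᵀ =
          Matrix.single j ⟨i, hi⟩ (1 : F) + Matrix.single ⟨i, hi⟩ j (1 : F) := by
        rw [Matrix.transpose_add, Matrix.transpose_single, Matrix.transpose_single, add_comm]
      have h1 := (h _ (Xg_mem_USp hS)).2 ⟨i, hi⟩ (le_refl i)
      have e : (Xg _ hS).1 = Xmat (Matrix.single j ⟨i, hi⟩ (1 : F) + Matrix.single ⟨i, hi⟩ j (1 : F)) := rfl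
      rw [e, Xmat_sub_one_mulVec_inl] at h1
      rw [Finset.sum_eq_single j] at h1
      · rw [Matrix.add_apply, Matrix.single_apply_of_row_ne (Ne.symm (Ne.symm hjr)),
          Matrix.single_apply_same, zero_add, one_mul] at h1
        exact h1
      · intro k _ hk
        rw [Matrix.add_apply, Matrix.single_apply_of_row_ne (Ne.symm (Ne.symm hjr)),
          Matrix.single_apply_of_col_ne _ _ (Ne.symm hk), zero_add, zero_mul]
      · intro hh
        exact absurd (Finset.mem_univ j) hh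
  · have hrj : (⟨i, hi⟩ : Fin m) < j := by
      show i < j.val
      omega
    have hmem : lv (ne_of_lt hrj) (1 : F) ∈ USp m F := by
      refine ⟨?_, ?_⟩
      · show (Lmat _ _).toBlocks₂₁ = 0
        unfold Lmat
        rw [toBlocks_fromBlocks₂₁]
      · show IsUT (Lmat _ _).toBlocks₁₁
        unfold Lmat
        rw [toBlocks_fromBlocks₁₁]
        exact isUT_one_add_single hrj 1
    have h1 := (h _ hmem).2 ⟨i, hi⟩ (le_refl i)
    have e : (lv (ne_of_lt hrj) (1 : F)).1 =
        Lmat (1 + Matrix.single ⟨i, hi⟩ j (1 : F)) (1 - Matrix.single ⟨i, hi⟩ j (1 : F)) := rfl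
    rw [e, Lmat_sub_one_mulVec_inl, add_sub_cancel_left] at h1
    rw [Finset.sum_eq_single j] at h1
    · rw [Matrix.single_apply_same, one_mul] at h1
      exact h1
    · intro k _ hk
      rw [Matrix.single_apply_of_col_ne _ _ (Ne.symm hk), zero_mul]
    · intro hh
      exact absurd (Finset.mem_univ j) hh

/-- if `g` conjugates `USp` into itself then `g⁻¹` preserves the flag -/
theorem flag_invariant {m : ℕ} (g : symplecticGroup (Fin m) F)
    (hg : ∀ u ∈ USp m F, g * u * g⁻¹ ∈ USp m F) :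
    ∀ i : ℕ, i ≤ m → ∀ v : Fin m ⊕ Fin m → F, InV i v → InV i ((g⁻¹).1 *ᵥ v) := by
  intro i
  induction i with
  | zero =>
    intro _ v hv
    rw [(inV_zero_iff v).mp hv, Matrix.mulVec_zero]
    exact (inV_zero_iff _).mpr rfl
  | succ i ih =>
    intro him v hv
    apply inV_succ_of_forall i (by omega)
    intro u hu
    have hu' := hg u hu
    have e : (u.1 - 1) * (g⁻¹).1 = (g⁻¹).1 * ((g * u * g⁻¹).1 - 1) := by
      have h1 : g⁻¹ * (g * u * g⁻¹) = u * g⁻¹ := by group
      have h2 : (g⁻¹).1 * (g * u * g⁻¹).1 = u.1 * (g⁻¹).1 := congrArg Subtype.val h1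
      rw [Matrix.sub_mul, Matrix.mul_sub, h2, Matrix.one_mul, Matrix.mul_one]
    rw [Matrix.mulVec_mulVec, e, ← Matrix.mulVec_mulVec]
    exact ih (by omega) _ (inV_of_mem_USp hu' i v hv)

/-- the basis vector `e_j` lies in `V_{j+1}` -/
theorem inV_eL {m : ℕ} (j : Fin m) : InV (j.val + 1) (eL j : Fin m ⊕ Fin m → F) := by
  refine ⟨fun k => ?_, fun k hk => ?_⟩
  · unfold eL
    exact Pi.single_eq_of_ne (by simp) 1
  · unfold eL
    have : k ≠ j := by
      intro hkj
      rw [hkj] at hk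
      omega
    exact Pi.single_eq_of_ne (by simpa using this) 1

/-- an element preserving the flag is in the Borel subgroup -/
theorem isBorel_of_flag {m : ℕ} (h : symplecticGroup (Fin m) F)
    (hf : ∀ i : ℕ, i ≤ m → ∀ v : Fin m ⊕ Fin m → F, InV i v → InV i (h.1 *ᵥ v)) : IsBorel h := by
  have key : ∀ j : Fin m, InV (j.val + 1) (fun a => h.1 a (Sum.inl j)) := by
    intro j
    have := hf (j.val + 1) (by have := j.2; omega) _ (inV_eL j)
    rwa [mulVec_eL] at this
  refine ⟨?_, ?_⟩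
  · ext k j
    exact (key j).1 k
  · intro k j hjk
    exact (key j).2 k (by
      have : j.val < k.val := hjk
      omega)

/-- the Borel subgroup is closed under inverses -/
theorem isBorel_inv {m : ℕ} (h : symplecticGroup (Fin m) F) (hb : IsBorel h) : IsBorel h⁻¹ := by
  obtain ⟨hC, hA⟩ := hb
  obtain ⟨h1, _⟩ := block_data hC
  refine ⟨?_, ?_⟩
  · show ((h⁻¹ : symplecticGroup (Fin m) F) : Matrix (Fin m ⊕ Fin m) (Fin m ⊕ Fin m) F).toBlocks₂₁ = 0
    rw [coe_inv_blocks, toBlocks_fromBlocks₂₁, hC]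
    simp
  · show ∀ i j : Fin m, j < i →
      ((h⁻¹ : symplecticGroup (Fin m) F) : Matrix (Fin m ⊕ Fin m) (Fin m ⊕ Fin m) F).toBlocks₁₁ i j = 0
    rw [coe_inv_blocks, toBlocks_fromBlocks₁₁]
    have h2 : h.1.toBlocks₂₂ᵀ * h.1.toBlocks₁₁ = 1 := by
      have := congrArg Matrix.transpose h1
      simpa [Matrix.transpose_mul] using this
    have h3 : h.1.toBlocks₂₂ᵀ = (h.1.toBlocks₁₁)⁻¹ := (Matrix.inv_eq_left_inv h2).symm
    rw [h3]
    have hinv : Invertible h.1.toBlocks₁₁ := invertibleOfLeftInverse _ _ h2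
    have hbt : Matrix.BlockTriangular h.1.toBlocks₁₁ (id : Fin m → Fin m) := by
      intro i j hij
      exact hA i j hij
    have := Matrix.blockTriangular_inv_of_blockTriangular hbt
    intro i j hij
    exact this hij

theorem NB_B {m : ℕ} (g : symplecticGroup (Fin m) F)
    (hg : ∀ u ∈ USp m F, g * u * g⁻¹ ∈ USp m F) : IsBorel g := by
  have h1 : IsBorel g⁻¹ := isBorel_of_flag g⁻¹ (flag_invariant g hg)
  have h2 := isBorel_inv g⁻¹ h1
  rwa [inv_inv] at h2

end Cfsg.Agent.Lib.Helper4_S5171_NB_B
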