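import Mathlib
import Cfsg.Prelude.Def_Classical
import Cfsg.Prelude.Def_ClassicalGeometry
import Cfsg.Agent.S0246
import Cfsg.Agent.Lib.Helper13_Symp
import Cfsg.Agent.Lib.Helper13_SympTrans
import Cfsg.Agent.Lib.Helper44_SpUT
import Cfsg.Agent.Lib.Helper11_SpFusDefs

set_option autoImplicit false

namespace Cfsg.Agent.Lib.Helper52_S5171_CQ_1

open Matrix Cfsg.Agent.Lib.Helper44_PSLnUT Cfsg.Agent.Lib.Helper5_SpPerfect
  Cfsg.Agent.Lib.Helper44_SpUT Cfsg.Agent.Lib.Helper13_Symp Cfsg.Agent.Lib.Helper11_SpFusDefs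

variable {F : Type*} [Field F]

/-! ### matrix units in block form -/

theorem fromBlocks_single₁₁ {m : ℕ} (i j : Fin m) (a : F) :
    fromBlocks (Matrix.single i j a) 0 0 (0 : Matrix (Fin m) (Fin m) F) =
      (Matrix.single (Sum.inl i) (Sum.inl j) a : Matrix (Fin m ⊕ Fin m) (Fin m ⊕ Fin m) F) := by
  ext x y
  rcases x with x | x <;> rcases y with y | y <;> simp [Matrix.single_apply]

theorem fromBlocks_single₁₂ {m : ℕ} (i j : Fin m) (a : F) :
    fromBlocks 0 (Matrix.single i j a) 0 (0 : Matrix (Fin m) (Fin m) F) =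
      (Matrix.single (Sum.inl i) (Sum.inr j) a : Matrix (Fin m ⊕ Fin m) (Fin m ⊕ Fin m) F) := by
  ext x y
  rcases x with x | x <;> rcases y with y | y <;> simp [Matrix.single_apply]

theorem fromBlocks_single₂₂ {m : ℕ} (i j : Fin m) (a : F) :
    fromBlocks 0 0 0 (Matrix.single i j a : Matrix (Fin m) (Fin m) F) =
      (Matrix.single (Sum.inr i) (Sum.inr j) a : Matrix (Fin m ⊕ Fin m) (Fin m ⊕ Fin m) F) := by
  ext x y
  rcases x with x | x <;> rcases y with y | y <;> simp [Matrix.single_apply]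

/-- `sympForm v e_0` is the `f_0`-coordinate of `v` -/
theorem sympForm_eL0 {k : ℕ} (v : Fin (k + 1) ⊕ Fin (k + 1) → F) :
    Cfsg.sympForm (k + 1) F v (eL 0) = v (Sum.inr 0) := by
  rw [sympForm_eq]
  unfold eL
  simp [Pi.single_apply]

theorem Xmat_eq {m : ℕ} (S : Matrix (Fin m) (Fin m) F) :
    Xmat S = 1 + fromBlocks 0 S 0 0 := by
  unfold Xmat
  rw [← fromBlocks_one, fromBlocks_add]
  simp

theorem Lmat_eq {m : ℕ} (P R : Matrix (Fin m) (Fin m) F) :
    Lmat (1 + P) (1 - R) = 1 + (fromBlocks P 0 0 0 + fromBlocks 0 0 0 (-Rᵀ)) := by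
  unfold Lmat
  rw [← fromBlocks_one, fromBlocks_add, fromBlocks_add]
  simp [sub_eq_add_neg]

/-- a criterion for membership in `QPt` -/
theorem mem_QPt_of {k : ℕ} (g : symplecticGroup (Fin (k + 1)) F) (hg : g ∈ USp (k + 1) F)
    (N : Matrix (Fin (k + 1) ⊕ Fin (k + 1)) (Fin (k + 1) ⊕ Fin (k + 1)) F) (hN : g.1 = 1 + N)
    (h : ∀ v : Fin (k + 1) ⊕ Fin (k + 1) → F, v (Sum.inr 0) = 0 → ∃ c : F, N *ᵥ v = c • eL 0) :
    g ∈ QPt k F := by
  rw [mem_QPt]
  refine ⟨hg, fun v hv => ?_⟩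
  rw [sympForm_eL0] at hv
  obtain ⟨c, hc⟩ := h v hv
  refine ⟨c, ?_⟩
  rw [hN, Matrix.add_mulVec, Matrix.one_mulVec, hc]

/-- the three kinds of elements of `QPt` used below -/
theorem xl_mem {k : ℕ} : (xl (k := k) (1 : F)) ∈ QPt k F := by
  apply mem_QPt_of _ (Xg_mem_USp _) (Matrix.single (Sum.inl 0) (Sum.inr 0) 1)
  · show Xmat _ = _
    rw [Xmat_eq, fromBlocks_single₁₂]
  · intro v hv
    refine ⟨v (Sum.inr 0), ?_⟩
    rw [Matrix.single_mulVec_eq, one_mul]
    rfl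

theorem lv_coe {k : ℕ} {j : Fin (k + 1)} (hj : (0 : Fin (k + 1)) ≠ j) :
    (lv hj (1 : F)).1 = 1 + (Matrix.single (Sum.inl 0) (Sum.inl j) 1 +
      Matrix.single (Sum.inr j) (Sum.inr 0) (-1)) := by
  show Lmat _ _ = _
  rw [Lmat_eq, Matrix.transpose_single, Matrix.single_neg, fromBlocks_single₁₁,
    fromBlocks_single₂₂]

theorem lv_mem {k : ℕ} {j : Fin (k + 1)} (hj : (0 : Fin (k + 1)) ≠ j) :
    lv hj (1 : F) ∈ QPt k F := by
  apply mem_QPt_of _ _ _ (lv_coe hj)
  · intro v hv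
    refine ⟨v (Sum.inl j), ?_⟩
    rw [Matrix.add_mulVec, Matrix.single_mulVec_eq, Matrix.single_mulVec_eq, hv, one_mul, mul_zero,
      zero_smul, add_zero]
    rfl
  · refine ⟨?_, ?_⟩
    · show (Lmat _ _).toBlocks₂₁ = 0
      unfold Lmat
      rw [toBlocks_fromBlocks₂₁]
    · show IsUT (Lmat _ _).toBlocks₁₁
      unfold Lmat
      rw [toBlocks_fromBlocks₁₁]
      exact isUT_one_add_single (Fin.pos_of_ne_zero hj.symm) 1

/-- the Siegel element `Xg (E_0j + E_j0)` -/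
def xs {k : ℕ} (j : Fin (k + 1)) : symplecticGroup (Fin (k + 1)) F :=
  Xg (Matrix.single 0 j 1 + Matrix.single j 0 1)
    (by rw [Matrix.transpose_add, Matrix.transpose_single, Matrix.transpose_single]; exact add_comm _ _)

theorem xs_coe {k : ℕ} (j : Fin (k + 1)) :
    (xs (F := F) j).1 = 1 + (Matrix.single (Sum.inl 0) (Sum.inr j) 1 +
      Matrix.single (Sum.inl j) (Sum.inr 0) 1) := by
  show Xmat _ = _
  rw [Xmat_eq, ← fromBlocks_single₁₂, ← fromBlocks_single₁₂, fromBlocks_add]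
  simp

theorem xs_mem {k : ℕ} (j : Fin (k + 1)) : xs (F := F) j ∈ QPt k F := by
  apply mem_QPt_of _ (Xg_mem_USp _) _ (xs_coe j)
  intro v hv
  refine ⟨v (Sum.inr j), ?_⟩
  rw [Matrix.add_mulVec, Matrix.single_mulVec_eq, Matrix.single_mulVec_eq, hv, one_mul, mul_zero,
    zero_smul, add_zero]
  rfl

theorem comm_of {m : ℕ} (c q : symplecticGroup (Fin m) F)
    (N : Matrix (Fin m ⊕ Fin m) (Fin m ⊕ Fin m) F) (hq : q.1 = 1 + N) (h : c * q = q * c) :
    c.1 * N = N * c.1 := by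
  have h1 : c.1 * q.1 = q.1 * c.1 := congrArg Subtype.val h
  rw [hq, mul_add, add_mul, mul_one, one_mul] at h1
  exact add_left_cancel h1

/-- the shape of an element centralising `QPt` -/
theorem key {k : ℕ} (c : symplecticGroup (Fin (k + 2)) F)
    (hc : ∀ q ∈ QPt (k + 1) F, c * q = q * c) :
    (∀ i j : Fin (k + 2), c.1 (Sum.inr i) (Sum.inl j) = 0) ∧
    (∀ i j : Fin (k + 2), j < i → c.1 (Sum.inl i) (Sum.inl j) = 0) ∧
    (∀ i : Fin (k + 2), c.1 (Sum.inl i) (Sum.inl i) = c.1 (Sum.inr 0) (Sum.inr 0)) ∧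
    c.1 (Sum.inr 0) (Sum.inr 0) * c.1 (Sum.inr 0) (Sum.inr 0) = 1 := by
  -- the long root element
  have h0 := comm_of c _ _ (by
    show Xmat _ = _
    rw [Xmat_eq, fromBlocks_single₁₂]) (hc _ (xl_mem (k := k + 1)))
  have hcomm0 : Commute (Matrix.single (Sum.inl (0 : Fin (k + 2))) (Sum.inr (0 : Fin (k + 2))) (1 : F))
      c.1 := h0.symm
  have hrow0 : ∀ b, b ≠ Sum.inr (0 : Fin (k + 2)) → c.1 (Sum.inr 0) b = 0 := fun b hb =>
    Matrix.row_eq_zero_of_commute_single hcomm0 hb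
  have hcol0 : ∀ a, a ≠ Sum.inl (0 : Fin (k + 2)) → c.1 a (Sum.inl 0) = 0 := fun a ha =>
    Matrix.col_eq_zero_of_commute_single hcomm0 ha
  have hdiag0 : c.1 (Sum.inl 0) (Sum.inl 0) = c.1 (Sum.inr 0) (Sum.inr 0) :=
    Matrix.diag_eq_of_commute_single hcomm0
  -- the Levi elements
  have hL : ∀ j : Fin (k + 2), (0 : Fin (k + 2)) ≠ j → ∀ b,
      c.1 (Sum.inl j) b = (if b = Sum.inl j then c.1 (Sum.inl 0) (Sum.inl 0) else 0) +
        (if b = Sum.inr 0 then c.1 (Sum.inl 0) (Sum.inr j) * (-1) else 0) := by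
    intro j hj b
    have h1 := comm_of c _ _ (lv_coe hj) (hc _ (lv_mem hj))
    have h2 := congrFun (congrFun h1 (Sum.inl 0)) b
    rw [Matrix.mul_add, Matrix.add_mul, Matrix.add_apply, Matrix.add_apply,
      Matrix.single_mul_apply_same,
      Matrix.single_mul_apply_of_ne _ _ _ _ _ (by simp), one_mul, add_zero] at h2
    rw [← h2]
    congr 1
    · by_cases hb : b = Sum.inl j
      · rw [if_pos hb, hb, Matrix.mul_single_apply_same, mul_one]
      · rw [if_neg hb, Matrix.mul_single_apply_of_ne _ _ _ _ _ hb]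
    · by_cases hb : b = Sum.inr 0
      · rw [if_pos hb, hb, Matrix.mul_single_apply_same]
      · rw [if_neg hb, Matrix.mul_single_apply_of_ne _ _ _ _ _ hb]
  -- the Siegel elements
  have hX : ∀ j : Fin (k + 2), (0 : Fin (k + 2)) ≠ j → ∀ b : Fin (k + 2),
      c.1 (Sum.inr j) (Sum.inl b) = 0 := by
    intro j hj b
    have h1 := comm_of c _ _ (xs_coe j) (hc _ (xs_mem j))
    have h2 := congrFun (congrFun h1 (Sum.inl 0)) (Sum.inl b)
    rw [Matrix.mul_add, Matrix.add_mul, Matrix.add_apply, Matrix.add_apply,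
      Matrix.single_mul_apply_same,
      Matrix.single_mul_apply_of_ne _ _ _ _ _ (by simpa using hj), one_mul, add_zero,
      Matrix.mul_single_apply_of_ne _ _ _ _ _ (by simp),
      Matrix.mul_single_apply_of_ne _ _ _ _ _ (by simp), add_zero] at h2
    exact h2.symm
  refine ⟨?_, ?_, ?_, ?_⟩
  · intro i j
    by_cases hi : (0 : Fin (k + 2)) = i
    · rw [← hi]
      exact hrow0 _ (by simp)
    · exact hX i hi j
  · intro i j hji
    have hi : (0 : Fin (k + 2)) ≠ i := fun h => by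
      rw [← h] at hji
      exact absurd hji (Fin.not_lt_zero j)
    rw [hL i hi, if_neg (by simpa using hji.ne), if_neg (by simp), add_zero]
  · intro i
    by_cases hi : (0 : Fin (k + 2)) = i
    · rw [← hi]; exact hdiag0
    · rw [hL i hi, if_pos rfl, if_neg (by simp), add_zero, hdiag0]
  · -- `Aᵀ D = 1` at the entry `(0,0)`
    have hC : c.1.toBlocks₂₁ = 0 := by
      ext i j
      show c.1 (Sum.inr i) (Sum.inl j) = 0
      by_cases hi : (0 : Fin (k + 2)) = i
      · rw [← hi]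
        exact hrow0 _ (by simp)
      · exact hX i hi j
    have h1 := (block_data hC).1
    have h2 := congrFun (congrFun h1 0) 0
    rw [Matrix.mul_apply, Matrix.one_apply_eq, Finset.sum_eq_single (0 : Fin (k + 2))] at h2
    · rw [Matrix.transpose_apply] at h2
      have e1 : c.1.toBlocks₁₁ 0 0 = c.1 (Sum.inl 0) (Sum.inl 0) := rfl
      have e2 : c.1.toBlocks₂₂ 0 0 = c.1 (Sum.inr 0) (Sum.inr 0) := rfl
      rw [e1, e2, hdiag0] at h2
      exact h2
    · intro x _ hx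
      rw [Matrix.transpose_apply]
      have e1 : c.1.toBlocks₁₁ x 0 = c.1 (Sum.inl x) (Sum.inl 0) := rfl
      rw [e1, hcol0 _ (by simpa using hx), zero_mul]
    · intro h; exact absurd (Finset.mem_univ _) h

/-- `-1` as an element of the symplectic group -/
def negOne (m : ℕ) : symplecticGroup (Fin m) F :=
  ⟨-1, SymplecticGroup.neg_mem (symplecticGroup (Fin m) F).one_mem⟩

theorem negOne_mem_center (m : ℕ) :
    negOne (F := F) m ∈ Subgroup.center (symplecticGroup (Fin m) F) := by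
  rw [Subgroup.mem_center_iff]
  intro g
  apply Subtype.ext
  show g.1 * (-1) = (-1) * g.1
  rw [mul_neg, mul_one, neg_mul, one_mul]

/-- CQ_1 -/
theorem CQ_1 {k : ℕ} (c : symplecticGroup (Fin (k + 2)) F)
    (hc : ∀ q ∈ QPt (k + 1) F, c * q = q * c) :
    ∃ z ∈ Subgroup.center (symplecticGroup (Fin (k + 2)) F), c * z ∈ USp (k + 2) F := by
  obtain ⟨h1, h2, h3, h4⟩ := key c hc
  rcases mul_self_eq_one_iff.mp h4 with hl | hl
  · refine ⟨1, Subgroup.one_mem _, ?_⟩
    rw [mul_one, mem_USp]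
    refine ⟨?_, ?_, ?_⟩
    · ext i j
      exact h1 i j
    · intro i j hji
      exact h2 i j hji
    · intro i
      show c.1 (Sum.inl i) (Sum.inl i) = 1
      rw [h3 i, hl]
  · refine ⟨negOne (k + 2), negOne_mem_center _, ?_⟩
    have hcoe : (c * negOne (k + 2)).1 = -c.1 := by
      show c.1 * (-1) = -c.1
      rw [mul_neg, mul_one]
    rw [mem_USp]
    refine ⟨?_, ?_, ?_⟩
    · ext i j
      show (c * negOne (k + 2)).1 (Sum.inr i) (Sum.inl j) = 0
      rw [hcoe, Matrix.neg_apply, h1 i j, neg_zero]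
    · intro i j hji
      show (c * negOne (k + 2)).1 (Sum.inl i) (Sum.inl j) = 0
      rw [hcoe, Matrix.neg_apply, h2 i j hji, neg_zero]
    · intro i
      show (c * negOne (k + 2)).1 (Sum.inl i) (Sum.inl i) = 1
      rw [hcoe, Matrix.neg_apply, h3 i, hl, neg_neg]

end Cfsg.Agent.Lib.Helper52_S5171_CQ_1
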