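import Mathlib

set_option autoImplicit false

namespace Cfsg.Agent.Lib.Helper52_S5171_SC_SIEG_B

open Matrix

variable {F : Type*} [Field F]

theorem vecMulVec_single_single {m : ℕ} (i j : Fin m) (a b : F) :
    vecMulVec (Pi.single i a) (Pi.single j b) = Matrix.single i j (a * b) := by
  ext k l
  simp only [vecMulVec_apply, Matrix.single_apply, Pi.single_apply]
  by_cases h1 : k = i
  · by_cases h2 : l = j
    · subst h1; subst h2; simp
    · have h2' : ¬ j = l := fun h => h2 h.symm
      simp [h1, h2, h2']
  · have h1' : ¬ i = k := fun h => h1 h.symm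
    simp [h1, h1']

/-- SC_SIEG_B -/
theorem SC_SIEG_B [Fintype F] {m : ℕ} (Λ : AddSubgroup (Matrix (Fin m) (Fin m) F)) (c : F) (hc : c ≠ 0)
    (h : ∀ x : Fin m → F, c • Matrix.vecMulVec x x ∈ Λ) (S : Matrix (Fin m) (Fin m) F) (hS : Sᵀ = S) :
    S ∈ Λ := by
  classical
  -- (A) polarisation
  have hpol : ∀ x y : Fin m → F, c • (vecMulVec x y + vecMulVec y x) ∈ Λ := by
    intro x y
    have h1 := Λ.sub_mem (Λ.sub_mem (h (x + y)) (h x)) (h y)
    have : c • vecMulVec (x + y) (x + y) - c • vecMulVec x x - c • vecMulVec y y =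
        c • (vecMulVec x y + vecMulVec y x) := by
      rw [add_vecMulVec, vecMulVec_add, vecMulVec_add]
      simp only [smul_add]
      abel
    rw [this] at h1
    exact h1
  -- (B) off-diagonal
  have hoff : ∀ i j : Fin m, ∀ b : F, Matrix.single i j b + Matrix.single j i b ∈ Λ := by
    intro i j b
    have h1 := hpol (Pi.single i (b / c)) (Pi.single j 1)
    rw [vecMulVec_single_single, vecMulVec_single_single, smul_add, Matrix.smul_single,
      Matrix.smul_single] at h1
    have e1 : c • (b / c * 1) = b := by
      rw [smul_eq_mul, mul_one, mul_div_cancel₀ _ hc]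
    have e2 : c • (1 * (b / c)) = b := by
      rw [smul_eq_mul, one_mul, mul_div_cancel₀ _ hc]
    rw [e1, e2] at h1
    exact h1
  -- squares on the diagonal
  have hsq : ∀ i : Fin m, ∀ a : F, Matrix.single i i (c * (a * a)) ∈ Λ := by
    intro i a
    have h1 := h (Pi.single i a)
    rw [vecMulVec_single_single, Matrix.smul_single, smul_eq_mul] at h1
    exact h1
  -- (C) diagonal
  have hdiag : ∀ i : Fin m, ∀ b : F, Matrix.single i i b ∈ Λ := by
    intro i b
    by_cases h2 : ringChar F = 2
    · obtain ⟨a, ha⟩ := FiniteField.isSquare_of_char_two h2 (b / c)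
      have h1 := hsq i a
      rw [← ha, mul_div_cancel₀ _ hc] at h1
      exact h1
    · have h2' : (2 : F) ≠ 0 := Ring.two_ne_zero h2
      have h1 := Λ.sub_mem (hsq i ((b / c + 1) / 2)) (hsq i ((b / c - 1) / 2))
      have hsub : ∀ x y : F, Matrix.single i i x - Matrix.single i i y =
          Matrix.single i i (x - y) := by
        intro x y
        exact ((Matrix.singleAddMonoidHom i i).map_sub x y).symm
      rw [hsub] at h1
      have : c * ((b / c + 1) / 2 * ((b / c + 1) / 2)) - c * ((b / c - 1) / 2 * ((b / c - 1) / 2)) = b := by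
        field_simp
        ring
      rw [this] at h1
      exact h1
  -- (D) `M + Mᵀ ∈ Λ` for every matrix `M`
  have hsym : ∀ M : Matrix (Fin m) (Fin m) F, M + Mᵀ ∈ Λ := by
    intro M
    induction M using Matrix.induction_on' with
    | h_zero => simp
    | h_add p q hp hq =>
      have : p + q + (p + q)ᵀ = (p + pᵀ) + (q + qᵀ) := by
        rw [transpose_add]; abel
      rw [this]
      exact Λ.add_mem hp hq
    | h_std_basis i j x =>
      rw [Matrix.transpose_single]
      exact hoff i j x
  -- (E) decomposition of `S`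
  let U : Matrix (Fin m) (Fin m) F := Matrix.of fun i j => if i < j then S i j else 0
  have hdec : S = (U + Uᵀ) + Matrix.diagonal (fun i => S i i) := by
    ext a b
    have hab : S b a = S a b := by
      have := congrFun (congrFun hS a) b
      rwa [transpose_apply] at this
    simp only [U, Matrix.add_apply, transpose_apply, of_apply, diagonal_apply]
    rcases lt_trichotomy a b with hlt | heq | hgt
    · have h1 : ¬ b < a := not_lt.mpr hlt.le
      have h2 : a ≠ b := hlt.ne
      simp [hlt, h1, h2]
    · subst heq
      simp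
    · have h1 : ¬ a < b := not_lt.mpr hgt.le
      have h2 : a ≠ b := hgt.ne'
      simp [hgt, h1, h2, hab]
  rw [hdec]
  refine Λ.add_mem (hsym U) ?_
  rw [← Matrix.sum_single_eq_diagonal]
  exact Λ.sum_mem (fun i _ => hdiag i (S i i))

end Cfsg.Agent.Lib.Helper52_S5171_SC_SIEG_B
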