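import Mathlib
import Cfsg.Prelude.Def_Classical
import Cfsg.Prelude.Def_ClassicalGeometry
import Cfsg.Agent.S0246
import Cfsg.Agent.Lib.Helper13_Symp
import Cfsg.Agent.Lib.Helper13_SympTrans
import Cfsg.Agent.Lib.Helper44_SpUT
import Cfsg.Agent.Lib.Helper11_SpFusDefs
import Cfsg.Agent.Lib.Helper32_PGroup

set_option autoImplicit false

namespace Cfsg.Agent.Lib.Helper52_S5171_SC_Z

open Matrix Cfsg.Agent.Lib.Helper44_PSLnUT Cfsg.Agent.Lib.Helper5_SpPerfect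
  Cfsg.Agent.Lib.Helper44_SpUT Cfsg.Agent.Lib.Helper13_Symp Cfsg.Agent.Lib.Helper11_SpFusDefs

variable {F : Type*} [Field F]

theorem isPGroup_USp [Fintype F] (p : ℕ) [Fact p.Prime] [CharP F p] (m : ℕ) :
    IsPGroup p (USp m F) := by
  obtain ⟨f, hf⟩ := FiniteField.card F p
  apply IsPGroup.of_card (n := (f : ℕ) * m ^ 2)
  rw [card_USp, hf.2, pow_mul]

/-- SC_Z -/
theorem SC_Z [Fintype F] (p : ℕ) [Fact p.Prime] [CharP F p] {m : ℕ}
    (T : Subgroup (symplecticGroup (Fin m) F)) (hT : T ≤ USp m F) (hne : T ≠ ⊥)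
    (hnorm : ∀ u ∈ USp m F, ∀ t ∈ T, u * t * u⁻¹ ∈ T) :
    ∃ z ∈ T, z ≠ 1 ∧ ∀ u ∈ USp m F, u * z = z * u := by
  classical
  have hU : IsPGroup p (USp m F) := isPGroup_USp p m
  have hNn : (T.subgroupOf (USp m F)).Normal := by
    constructor
    intro n hn g
    rw [Subgroup.mem_subgroupOf] at hn ⊢
    exact hnorm _ g.2 _ hn
  have hN : T.subgroupOf (USp m F) ≠ ⊥ := by
    intro h
    rw [Subgroup.subgroupOf_eq_bot, disjoint_iff, inf_eq_left.2 hT] at h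
    exact hne h
  obtain ⟨z, hzN, hzc, hz1⟩ :=
    Cfsg.Agent.Lib.Helper32_PGroup.exists_mem_center_of_normal hU (T.subgroupOf (USp m F)) hN
  rw [Subgroup.mem_subgroupOf] at hzN
  refine ⟨(z : symplecticGroup (Fin m) F), hzN, ?_, ?_⟩
  · intro h
    apply hz1
    exact Subtype.ext h
  · intro u hu
    have h1 := Subgroup.mem_center_iff.1 hzc ⟨u, hu⟩
    exact congrArg (fun t : USp m F => (t : symplecticGroup (Fin m) F)) h1

end Cfsg.Agent.Lib.Helper52_S5171_SC_Z
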