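import Mathlib
import Cfsg.Prelude.Def_Classical
import Cfsg.Prelude.Def_ClassicalGeometry
import Cfsg.Agent.S0246
import Cfsg.Agent.Lib.Helper13_Symp
import Cfsg.Agent.Lib.Helper13_SympTrans
import Cfsg.Agent.Lib.Helper44_SpUT
import Cfsg.Agent.Lib.Helper11_SpFusDefs

/-!
# S5171 package SC_LONG_A: a central element of a strongly closed subgroup yields a long root element
-/

set_option autoImplicit false
set_option linter.unusedSimpArgs false

namespace Cfsg.Agent.Lib.Helper54_S5171_SC_LONG_A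

open Matrix Cfsg.Agent.Lib.Helper44_PSLnUT Cfsg.Agent.Lib.Helper5_SpPerfect
  Cfsg.Agent.Lib.Helper44_SpUT Cfsg.Agent.Lib.Helper13_Symp Cfsg.Agent.Lib.Helper11_SpFusDefs

variable {F : Type*} [Field F] {k : ℕ}

theorem h01 : (0 : Fin (k + 2)) ≠ 1 := by
  intro h
  have := congrArg Fin.val h
  simp at this

theorem h10 : (1 : Fin (k + 2)) ≠ 0 := fun h => h01 h.symm

theorem single_neg' {n : ℕ} (i j : Fin n) (a : F) :
    (Matrix.single i j (-a) : Matrix (Fin n) (Fin n) F) = -Matrix.single i j a := by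
  ext a' b'
  simp only [Matrix.single_apply, Matrix.neg_apply]
  split_ifs <;> simp

/-- the matrix of the Weyl element `e_1 ↦ f_1 ↦ -e_1` -/
def wmat (k : ℕ) (F : Type*) [Field F] :
    Matrix (Fin (k + 2) ⊕ Fin (k + 2)) (Fin (k + 2) ⊕ Fin (k + 2)) F :=
  fromBlocks (1 - Matrix.single 1 1 1) (-Matrix.single 1 1 1) (Matrix.single 1 1 1)
    (1 - Matrix.single 1 1 1)

theorem E_mul_E : (Matrix.single 1 1 1 : Matrix (Fin (k + 2)) (Fin (k + 2)) F) * Matrix.single 1 1 1 =
    Matrix.single 1 1 1 := by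
  rw [Matrix.single_mul_single_same, one_mul]

theorem wmat_mem : wmat k F ∈ symplecticGroup (Fin (k + 2)) F := by
  rw [SymplecticGroup.mem_iff]
  unfold wmat
  have hE := E_mul_E (F := F) (k := k)
  simp only [Matrix.J, Matrix.fromBlocks_multiply, Matrix.fromBlocks_transpose, Matrix.transpose_sub,
    Matrix.transpose_one, Matrix.transpose_single, Matrix.transpose_neg, Matrix.mul_zero,
    Matrix.mul_one, Matrix.mul_neg, zero_add, add_zero, Matrix.sub_mul, Matrix.mul_sub, Matrix.one_mul,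
    Matrix.neg_mul, hE, neg_neg]
  congr 1
  · abel
  · abel
  · abel
  · abel


/-- the Weyl element -/
def wg (k : ℕ) (F : Type*) [Field F] : symplecticGroup (Fin (k + 2)) F := ⟨wmat k F, wmat_mem⟩

theorem weyl_mat (s t : F) :
    wmat k F * Xmat (Matrix.single 0 0 s + (Matrix.single 0 1 t + Matrix.single 1 0 t)) =
      (Xmat (Matrix.single 0 0 s) *
        Lmat (1 + Matrix.single 0 1 (-t)) (1 - Matrix.single 0 1 (-t))) * wmat k F := by
  unfold wmat Xmat Lmat
  have e1 : ∀ a b : F, (Matrix.single 0 0 a : Matrix (Fin (k + 2)) (Fin (k + 2)) F) * Matrix.single 1 1 b = 0 :=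
    fun a b => Matrix.single_mul_single_of_ne a _ _ _ h01 b
  have e2 : ∀ a b : F, (Matrix.single 1 1 a : Matrix (Fin (k + 2)) (Fin (k + 2)) F) * Matrix.single 0 0 b = 0 :=
    fun a b => Matrix.single_mul_single_of_ne a _ _ _ h10 b
  have e3 : ∀ a b : F, (Matrix.single 1 0 a : Matrix (Fin (k + 2)) (Fin (k + 2)) F) * Matrix.single 1 1 b = 0 :=
    fun a b => Matrix.single_mul_single_of_ne a _ _ _ h01 b
  have e4 : ∀ a b : F, (Matrix.single 1 1 a : Matrix (Fin (k + 2)) (Fin (k + 2)) F) * Matrix.single 0 1 b = 0 :=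
    fun a b => Matrix.single_mul_single_of_ne a _ _ _ h10 b
  have e5 : ∀ a b : F, (Matrix.single 0 0 a : Matrix (Fin (k + 2)) (Fin (k + 2)) F) * Matrix.single 1 0 b = 0 :=
    fun a b => Matrix.single_mul_single_of_ne a _ _ _ h01 b
  simp only [Matrix.fromBlocks_multiply, Matrix.transpose_sub, Matrix.transpose_one,
    Matrix.transpose_single, Matrix.mul_zero, Matrix.zero_mul, Matrix.mul_one, Matrix.one_mul,
    Matrix.mul_neg, Matrix.neg_mul, zero_add, add_zero, Matrix.sub_mul, Matrix.mul_sub,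
    Matrix.add_mul, Matrix.mul_add, Matrix.single_mul_single_same, e1, e2, e3, e4, e5]
  congr 1
  all_goals
    simp only [single_neg', one_mul, mul_one, neg_zero, sub_zero, zero_add, add_zero,
      sub_neg_eq_add, neg_neg, zero_sub, sub_self, neg_add_cancel, add_neg_cancel]
    try abel


/-- the Weyl conjugate of the central element -/
theorem weyl_conj (s t : F) :
    wg k F * zz s t * (wg k F)⁻¹ = xl s * lv (h01 (k := k)) (-t) := by
  rw [mul_inv_eq_iff_eq_mul]
  apply Subtype.ext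
  exact weyl_mat s t

theorem lv_mem_USp (a : F) : lv (h01 (k := k)) a ∈ USp (k + 2) F := by
  refine ⟨?_, ?_⟩
  · show (Lmat (1 + Matrix.single 0 1 a) (1 - Matrix.single 0 1 a)).toBlocks₂₁ = 0
    unfold Lmat
    rw [toBlocks_fromBlocks₂₁]
  · show IsUT (Lmat (1 + Matrix.single 0 1 a) (1 - Matrix.single 0 1 a)).toBlocks₁₁
    unfold Lmat
    rw [toBlocks_fromBlocks₁₁]
    exact isUT_one_add_single (by
      rw [Fin.lt_def]
      simp) a

/-- the matrix `A E_11 Aᵀ` for `A = 1 + a E_01` -/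
theorem conj_E11 (a : F) :
    (1 + Matrix.single 0 1 a : Matrix (Fin (k + 2)) (Fin (k + 2)) F) * Matrix.single 1 1 1 *
      (1 + Matrix.single 0 1 a)ᵀ =
    Matrix.single 1 1 1 + (Matrix.single 0 0 (a ^ 2) + (Matrix.single 0 1 a + Matrix.single 1 0 a)) := by
  simp only [Matrix.transpose_add, Matrix.transpose_one, Matrix.transpose_single, Matrix.add_mul,
    Matrix.mul_add, Matrix.one_mul, Matrix.mul_one, Matrix.single_mul_single_same, mul_one, one_mul]
  rw [pow_two]
  abel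


theorem SC_LONG_A {k : ℕ} (T : Subgroup (symplecticGroup (Fin (k + 2)) F)) (hT : T ≤ USp (k + 2) F)
    (hsc : ∀ t ∈ T, ∀ g : symplecticGroup (Fin (k + 2)) F, g * t * g⁻¹ ∈ USp (k + 2) F → g * t * g⁻¹ ∈ T)
    (s t : F) (h2 : (2 : F) * t = 0) (hz : zz s t ∈ T) : xl (s + t ^ 2) ∈ T := by
  -- the Weyl conjugate
  have huU : xl s * lv (h01 (k := k)) (-t) ∈ USp (k + 2) F :=
    (USp (k + 2) F).mul_mem (Xg_mem_USp _) (lv_mem_USp _)
  have huT : xl s * lv (h01 (k := k)) (-t) ∈ T := by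
    rw [← weyl_conj]
    apply hsc _ hz
    rw [weyl_conj]
    exact huU
  -- the root element `Xg E_11`
  have hX1 : (Matrix.single 1 1 1 : Matrix (Fin (k + 2)) (Fin (k + 2)) F)ᵀ = Matrix.single 1 1 1 :=
    Matrix.transpose_single _ _ _
  have hX1U : Xg (Matrix.single 1 1 1) hX1 ∈ USp (k + 2) F := Xg_mem_USp _
  -- the matrix `M`
  have hMt : ((1 + Matrix.single 0 1 (-t) : Matrix (Fin (k + 2)) (Fin (k + 2)) F) * Matrix.single 1 1 1 *
      (1 + Matrix.single 0 1 (-t))ᵀ)ᵀ =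
      (1 + Matrix.single 0 1 (-t) : Matrix (Fin (k + 2)) (Fin (k + 2)) F) * Matrix.single 1 1 1 *
      (1 + Matrix.single 0 1 (-t))ᵀ := by
    rw [Matrix.transpose_mul, Matrix.transpose_mul, Matrix.transpose_transpose, hX1, Matrix.mul_assoc]
  have hlvX : lv (h01 (k := k)) (-t) * Xg (Matrix.single 1 1 1) hX1 =
      Xg _ hMt * lv (h01 (k := k)) (-t) := by
    unfold lv
    rw [Lg_mul_Xg]
  have hcomm : xl (k := k + 1) s * Xg _ hMt = Xg _ hMt * xl (k := k + 1) s := by
    unfold xl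
    rw [Xg_mul, Xg_mul]
    exact Xg_congr (add_comm _ _) _
  have hconj : (xl s * lv (h01 (k := k)) (-t)) * Xg (Matrix.single 1 1 1) hX1 *
      (xl s * lv (h01 (k := k)) (-t))⁻¹ = Xg _ hMt := by
    rw [mul_inv_eq_iff_eq_mul, mul_assoc, hlvX, ← mul_assoc, hcomm, mul_assoc]
  -- the commutator lies in `T`
  have h3 : Xg (Matrix.single 1 1 1) hX1 * (xl s * lv (h01 (k := k)) (-t))⁻¹ *
      (Xg (Matrix.single 1 1 1) hX1)⁻¹ ∈ T := by
    apply hsc _ (T.inv_mem huT)
    exact (USp (k + 2) F).mul_mem ((USp (k + 2) F).mul_mem hX1U ((USp (k + 2) F).inv_mem huU))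
      ((USp (k + 2) F).inv_mem hX1U)
  have h4 := T.mul_mem huT h3
  have h5 : (xl s * lv (h01 (k := k)) (-t)) * (Xg (Matrix.single 1 1 1) hX1 *
      (xl s * lv (h01 (k := k)) (-t))⁻¹ * (Xg (Matrix.single 1 1 1) hX1)⁻¹) =
      Xg _ hMt * (Xg (Matrix.single 1 1 1) hX1)⁻¹ := by
    rw [← hconj]
    group
  rw [h5] at h4
  have h6 := T.mul_mem hz h4
  have h7 : (zz s t : symplecticGroup (Fin (k + 2)) F) * (Xg _ hMt * (Xg (Matrix.single 1 1 1) hX1)⁻¹) =
      xl (s + t ^ 2) := by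
    rw [← mul_assoc, mul_inv_eq_iff_eq_mul]
    unfold zz xl
    rw [Xg_mul, Xg_mul]
    apply Xg_congr
    rw [conj_E11]
    simp only [single_neg', Matrix.single_add, neg_sq]
    abel
  rw [h7] at h6
  exact h6

end Cfsg.Agent.Lib.Helper54_S5171_SC_LONG_A
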