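import Mathlib
import Cfsg.Prelude.Def_Classical
import Cfsg.Prelude.Def_ClassicalGeometry
import Cfsg.Agent.S0246
import Cfsg.Agent.Lib.Helper13_Symp
import Cfsg.Agent.Lib.Helper13_SympTrans
import Cfsg.Agent.Lib.Helper44_SpUT
import Cfsg.Agent.Lib.Helper11_SpFusDefs

/-!
# S5171 package SC_LONG_B: torus conjugation of a central element (characteristic two)
-/

set_option autoImplicit false
set_option linter.unusedSimpArgs false

namespace Cfsg.Agent.Lib.Helper54_S5171_SC_LONG_B

open Matrix Cfsg.Agent.Lib.Helper44_PSLnUT Cfsg.Agent.Lib.Helper5_SpPerfect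
  Cfsg.Agent.Lib.Helper44_SpUT Cfsg.Agent.Lib.Helper13_Symp Cfsg.Agent.Lib.Helper11_SpFusDefs

variable {F : Type*} [Field F]

/-- the diagonal entries `(l, l⁻¹, 1, …, 1)` -/
def dvec {k : ℕ} (l : F) : Fin (k + 2) → F := fun i => if i = 0 then l else if i = 1 then l⁻¹ else 1

theorem dvec_ne_zero {k : ℕ} {l : F} (hl : l ≠ 0) (i : Fin (k + 2)) : dvec l i ≠ 0 := by
  unfold dvec
  split_ifs
  · exact hl
  · exact inv_ne_zero hl
  · exact one_ne_zero

theorem diag_mul {k : ℕ} {l : F} (hl : l ≠ 0) :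
    Matrix.diagonal (dvec (k := k) l) * Matrix.diagonal (fun i => (dvec (k := k) l i)⁻¹) = 1 := by
  rw [Matrix.diagonal_mul_diagonal]
  have : (fun i => dvec (k := k) l i * (dvec (k := k) l i)⁻¹) = fun _ => (1 : F) := by
    funext i
    exact mul_inv_cancel₀ (dvec_ne_zero hl i)
  rw [this, Matrix.diagonal_one]

theorem conj_mat {k : ℕ} {l : F} (hl : l ≠ 0) (s t : F) :
    Matrix.diagonal (dvec (k := k) l) *
      (Matrix.single 0 0 s + (Matrix.single 0 1 t + Matrix.single 1 0 t)) *
      (Matrix.diagonal (dvec (k := k) l))ᵀ =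
    Matrix.single 0 0 (l ^ 2 * s) + (Matrix.single 0 1 t + Matrix.single 1 0 t) := by
  have h01 : (0 : Fin (k + 2)) ≠ 1 := by
    intro h
    have := congrArg Fin.val h
    simp at this
  rw [Matrix.diagonal_transpose]
  ext i j
  rw [Matrix.mul_diagonal, Matrix.diagonal_mul]
  simp only [Matrix.add_apply, Matrix.single_apply]
  unfold dvec
  by_cases hi0 : i = 0
  · subst hi0
    by_cases hj0 : j = 0
    · subst hj0
      simp [h01, h01.symm]
      ring
    · by_cases hj1 : j = 1
      · subst hj1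
        simp [h01, h01.symm]
        field_simp
      · simp [h01, h01.symm, hj0, hj1, Ne.symm hj0, Ne.symm hj1]
  · by_cases hi1 : i = 1
    · subst hi1
      by_cases hj0 : j = 0
      · subst hj0
        simp [h01, h01.symm]
        field_simp
      · simp [h01, h01.symm, hj0, Ne.symm hj0]
    · simp [h01, h01.symm, hi0, hi1, Ne.symm hi0, Ne.symm hi1]


theorem SC_LONG_B {k : ℕ} (T : Subgroup (symplecticGroup (Fin (k + 2)) F)) (hT : T ≤ USp (k + 2) F)
    (hsc : ∀ t ∈ T, ∀ g : symplecticGroup (Fin (k + 2)) F, g * t * g⁻¹ ∈ USp (k + 2) F → g * t * g⁻¹ ∈ T)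
    (s t l : F) (h2 : (2 : F) = 0) (hl : l ≠ 0) (hz : zz s t ∈ T) : xl (s * (1 + l ^ 2)) ∈ T := by
  -- the torus element
  obtain ⟨g, hg⟩ : ∃ g : symplecticGroup (Fin (k + 2)) F,
      g = Lg (Matrix.diagonal (dvec (k := k) l)) (Matrix.diagonal (fun i => (dvec (k := k) l i)⁻¹))
        (diag_mul hl) := ⟨_, rfl⟩
  have hS : (Matrix.single 0 0 s + (Matrix.single 0 1 t + Matrix.single 1 0 t) :
      Matrix (Fin (k + 2)) (Fin (k + 2)) F)ᵀ =
      Matrix.single 0 0 s + (Matrix.single 0 1 t + Matrix.single 1 0 t) := by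
    rw [Matrix.transpose_add, Matrix.transpose_add, Matrix.transpose_single,
      Matrix.transpose_single, Matrix.transpose_single, add_comm (Matrix.single 1 0 t)]
  have hzz : (zz s t : symplecticGroup (Fin (k + 2)) F) =
      Xg (Matrix.single 0 0 s + (Matrix.single 0 1 t + Matrix.single 1 0 t)) hS := rfl
  have hconj : g * zz s t * g⁻¹ = zz (l ^ 2 * s) t := by
    rw [hzz, hg, Lg_mul_Xg, mul_inv_cancel_right]
    exact Xg_congr (conj_mat hl s t) _
  have h1 : zz (l ^ 2 * s) t ∈ T := by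
    rw [← hconj]
    apply hsc _ hz
    rw [hconj]
    exact Xg_mem_USp _
  have h3 := T.mul_mem hz h1
  have h4 : (zz s t : symplecticGroup (Fin (k + 2)) F) * zz (l ^ 2 * s) t = xl (s * (1 + l ^ 2)) := by
    unfold zz xl
    rw [Xg_mul]
    apply Xg_congr
    have ht : t + t = 0 := by
      have : t + t = 2 * t := by ring
      rw [this, h2, zero_mul]
    have e1 : (Matrix.single 0 0 s + (Matrix.single 0 1 t + Matrix.single 1 0 t) +
        (Matrix.single 0 0 (l ^ 2 * s) + (Matrix.single 0 1 t + Matrix.single 1 0 t)) :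
        Matrix (Fin (k + 2)) (Fin (k + 2)) F) =
        Matrix.single 0 0 (s + l ^ 2 * s) + (Matrix.single 0 1 (t + t) + Matrix.single 1 0 (t + t)) := by
      rw [Matrix.single_add, Matrix.single_add, Matrix.single_add]
      abel
    rw [e1, ht, Matrix.single_zero, Matrix.single_zero, add_zero, add_zero]
    congr 1
    ring
  rw [h4] at h3
  exact h3

end Cfsg.Agent.Lib.Helper54_S5171_SC_LONG_B
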