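import Mathlib
import Cfsg.Prelude.Def_Classical
import Cfsg.Prelude.Def_ClassicalGeometry
import Cfsg.Agent.S0246
import Cfsg.Agent.Lib.Helper13_Symp
import Cfsg.Agent.Lib.Helper13_SympTrans
import Cfsg.Agent.Lib.Helper44_SpUT
import Cfsg.Agent.Lib.Helper11_SpFusDefs

/-!
S5171-BN (helper11's market): the Borel subgroup of `Sp_{2m}(F)` normalises `USp`.  helper63.
-/

set_option autoImplicit false

namespace Cfsg.Agent.Lib.Helper63_S5171_BN

open Matrix Cfsg.Agent.Lib.Helper44_PSLnUT Cfsg.Agent.Lib.Helper5_SpPerfect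
  Cfsg.Agent.Lib.Helper44_SpUT Cfsg.Agent.Lib.Helper13_Symp Cfsg.Agent.Lib.Helper11_SpFusDefs

variable {F : Type*} [Field F]

/-- the inverse of an invertible upper triangular matrix is upper triangular -/
theorem lower_zero_of_left_inv {m : ℕ} {A T : Matrix (Fin m) (Fin m) F}
    (hA : ∀ i j : Fin m, j < i → A i j = 0) (hTA : T * A = 1) :
    ∀ i j : Fin m, j < i → T i j = 0 := by
  have : Invertible A := invertibleOfLeftInverse A T hTA
  have hT : A⁻¹ = T := Matrix.inv_eq_left_inv hTA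
  have hb : A.BlockTriangular id := fun i j hij => hA i j hij
  intro i j hij
  rw [← hT]
  exact (Matrix.blockTriangular_inv_of_blockTriangular hb) hij

theorem BN {m : ℕ} (g : symplecticGroup (Fin m) F) (hg : IsBorel g) :
    ∀ u ∈ USp m F, g * u * g⁻¹ ∈ USp m F := by
  intro u hu
  obtain ⟨hgC, hgA⟩ := hg
  obtain ⟨hAD, -⟩ := block_data hgC
  have hDA : g.1.toBlocks₂₂ᵀ * g.1.toBlocks₁₁ = 1 := by
    have := congrArg Matrix.transpose hAD
    rw [Matrix.transpose_mul, Matrix.transpose_transpose, Matrix.transpose_one] at this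
    exact this
  have hADt : g.1.toBlocks₁₁ * g.1.toBlocks₂₂ᵀ = 1 := mul_eq_one_comm.1 hDA
  have hDlow := lower_zero_of_left_inv hgA hDA
  have hmat : ((g * u * g⁻¹ : symplecticGroup (Fin m) F) :
      Matrix (Fin m ⊕ Fin m) (Fin m ⊕ Fin m) F) = g.1 * u.1 * (g⁻¹).1 := rfl
  have hgm : g.1 = fromBlocks g.1.toBlocks₁₁ g.1.toBlocks₁₂ 0 g.1.toBlocks₂₂ := by
    conv_lhs => rw [coe_eq_fromBlocks g, hgC]
  have hum : u.1 = fromBlocks u.1.toBlocks₁₁ u.1.toBlocks₁₂ 0 u.1.toBlocks₂₂ := by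
    conv_lhs => rw [coe_eq_fromBlocks u, hu.1]
  have hginv : (g⁻¹).1 = fromBlocks g.1.toBlocks₂₂ᵀ (-g.1.toBlocks₁₂ᵀ) 0 g.1.toBlocks₁₁ᵀ := by
    rw [coe_inv_blocks, hgC]
    simp
  have hprod : g.1 * u.1 * (g⁻¹).1 =
      fromBlocks (g.1.toBlocks₁₁ * u.1.toBlocks₁₁ * g.1.toBlocks₂₂ᵀ)
        (g.1.toBlocks₁₁ * u.1.toBlocks₁₁ * (-g.1.toBlocks₁₂ᵀ) +
          (g.1.toBlocks₁₁ * u.1.toBlocks₁₂ + g.1.toBlocks₁₂ * u.1.toBlocks₂₂) * g.1.toBlocks₁₁ᵀ)
        0 (g.1.toBlocks₂₂ * u.1.toBlocks₂₂ * g.1.toBlocks₁₁ᵀ) := by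
    rw [hginv]
    conv_lhs => rw [hgm, hum]
    rw [fromBlocks_multiply, fromBlocks_multiply]
    simp
  rw [mem_USp, hmat, hprod, toBlocks_fromBlocks₂₁, toBlocks_fromBlocks₁₁]
  refine ⟨rfl, ?_, ?_⟩
  · exact mul_apply_lower (mul_apply_lower hgA hu.2.1) hDlow
  · intro i
    rw [mul_apply_diag (mul_apply_lower hgA hu.2.1) hDlow, mul_apply_diag hgA hu.2.1, hu.2.2 i,
      mul_one, ← mul_apply_diag hgA hDlow, hADt, Matrix.one_apply_eq]

end Cfsg.Agent.Lib.Helper63_S5171_BN
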