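import Mathlib
import Cfsg.Prelude.Def_Classical
import Cfsg.Prelude.Def_ClassicalGeometry
import Cfsg.Agent.S0246
import Cfsg.Agent.Lib.Helper13_Symp
import Cfsg.Agent.Lib.Helper13_SympTrans
import Cfsg.Agent.Lib.Helper44_SpUT
import Cfsg.Agent.Lib.Helper11_SpFusDefs

/-!
# S5171 package SC_LONG_C (architect helper11)

`m = k + 3 ≥ 3`, any characteristic: a strongly closed `T ≤ USp` containing `zz s t` contains `zz 0 t`.

Proof: conjugating `Xg S` by `Lg (1 + E_21)` adds `t (E_02 + E_20)` to `S = s E_00 + t (E_01 + E_10)`, so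
`Xg (t (E_02 + E_20)) ∈ T`; conjugating that by `Lg (1 + E_12)` adds `t (E_01 + E_10)`, so
`Xg (t (E_01 + E_10)) = zz 0 t ∈ T`.  (Two elementary conjugations instead of a permutation matrix.)
-/

set_option autoImplicit false
set_option linter.unusedSimpArgs false
set_option linter.unusedVariables false

namespace Cfsg.Agent.Lib.Helper70_S5171_SC_LONG_C

open Matrix Cfsg.Agent.Lib.Helper44_PSLnUT Cfsg.Agent.Lib.Helper5_SpPerfect
  Cfsg.Agent.Lib.Helper44_SpUT Cfsg.Agent.Lib.Helper13_Symp Cfsg.Agent.Lib.Helper11_SpFusDefs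

variable {F : Type*} [Field F]

/-- conjugating a Siegel element by a Levi element -/
theorem conj_Lg_Xg {m : ℕ} (A B S : Matrix (Fin m) (Fin m) F) (h : A * B = 1) (hS : Sᵀ = S) :
    Lg A B h * Xg S hS * (Lg A B h)⁻¹ =
      Xg (A * S * Aᵀ) (by rw [Matrix.transpose_mul, Matrix.transpose_mul,
        Matrix.transpose_transpose, hS, Matrix.mul_assoc]) := by
  rw [Lg_mul_Xg, mul_inv_cancel_right]

/-- a strongly closed subgroup containing `Xg S` contains every `Xg (A S Aᵀ)` -/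
theorem Xg_conj_mem {m : ℕ} (T : Subgroup (symplecticGroup (Fin m) F))
    (hsc : ∀ t ∈ T, ∀ g : symplecticGroup (Fin m) F, g * t * g⁻¹ ∈ USp m F → g * t * g⁻¹ ∈ T)
    (A B S : Matrix (Fin m) (Fin m) F) (h : A * B = 1) (hS : Sᵀ = S) (hm : Xg S hS ∈ T)
    (S' : Matrix (Fin m) (Fin m) F) (hS' : S'ᵀ = S') (he : A * S * Aᵀ = S') : Xg S' hS' ∈ T := by
  have h1 := hsc _ hm (Lg A B h)
  rw [conj_Lg_Xg] at h1
  exact Xg_mem_of_eq he _ hS' (h1 (Xg_mem_USp _))

theorem SC_LONG_C {k : ℕ} (T : Subgroup (symplecticGroup (Fin (k + 1 + 2)) F))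
    (hT : T ≤ USp (k + 1 + 2) F)
    (hsc : ∀ t ∈ T, ∀ g : symplecticGroup (Fin (k + 1 + 2)) F,
      g * t * g⁻¹ ∈ USp (k + 1 + 2) F → g * t * g⁻¹ ∈ T)
    (s t : F) (hz : zz s t ∈ T) : zz 0 t ∈ T := by
  have h10 : (1 : Fin (k + 1 + 2)) ≠ 0 := by
    intro h; have := congrArg Fin.val h; simp at this
  have h20 : (2 : Fin (k + 1 + 2)) ≠ 0 := by
    intro h; have := congrArg Fin.val h; simp at this
    rw [Nat.mod_eq_of_lt (by omega)] at this; omega
  have h21 : (2 : Fin (k + 1 + 2)) ≠ 1 := by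
    intro h; have := congrArg Fin.val h; simp at this
    rw [Nat.mod_eq_of_lt (by omega)] at this; omega
  have h01 := h10.symm
  have h02 := h20.symm
  have h12 := h21.symm
  -- the three symmetric matrices
  have hS2 : (Matrix.single (0 : Fin (k + 1 + 2)) 2 t + Matrix.single 2 0 t)ᵀ =
      Matrix.single (0 : Fin (k + 1 + 2)) 2 t + Matrix.single 2 0 t := by
    rw [Matrix.transpose_add, Matrix.transpose_single, Matrix.transpose_single]
    exact add_comm _ _
  have hS1 : (Matrix.single (0 : Fin (k + 1 + 2)) 1 t + Matrix.single 1 0 t)ᵀ =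
      Matrix.single (0 : Fin (k + 1 + 2)) 1 t + Matrix.single 1 0 t := by
    rw [Matrix.transpose_add, Matrix.transpose_single, Matrix.transpose_single]
    exact add_comm _ _
  have hS0 : (Matrix.single (0 : Fin (k + 1 + 2)) 0 s + (Matrix.single 0 1 t + Matrix.single 1 0 t))ᵀ =
      Matrix.single (0 : Fin (k + 1 + 2)) 0 s + (Matrix.single 0 1 t + Matrix.single 1 0 t) := by
    rw [Matrix.transpose_add, hS1, Matrix.transpose_single]
  have hz' : Xg (Matrix.single (0 : Fin (k + 1 + 2)) 0 s + (Matrix.single 0 1 t + Matrix.single 1 0 t))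
      hS0 ∈ T := hz
  -- step 1
  have hsum1 : ((Matrix.single (0 : Fin (k + 1 + 2)) 0 s + (Matrix.single 0 1 t + Matrix.single 1 0 t)) +
      (Matrix.single (0 : Fin (k + 1 + 2)) 2 t + Matrix.single 2 0 t))ᵀ =
      (Matrix.single (0 : Fin (k + 1 + 2)) 0 s + (Matrix.single 0 1 t + Matrix.single 1 0 t)) +
      (Matrix.single (0 : Fin (k + 1 + 2)) 2 t + Matrix.single 2 0 t) := by
    rw [Matrix.transpose_add, hS0, hS2]
  have hx1 : Xg _ hsum1 ∈ T := by
    refine Xg_conj_mem T hsc (1 + Matrix.single 2 1 1) (1 - Matrix.single 2 1 1) _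
      (tv_mul_inv 2 1 h21 1) hS0 hz' _ hsum1 ?_
    rw [Matrix.transpose_add, Matrix.transpose_one, Matrix.transpose_single]
    simp only [Matrix.add_mul, Matrix.mul_add, Matrix.one_mul, Matrix.mul_one,
      Matrix.single_mul_single_same, Matrix.single_mul_single_of_ne, ne_eq, h10, h20, h21, h01, h02,
      h12, not_false_eq_true, add_zero, zero_add, mul_one, one_mul, Matrix.zero_mul, Matrix.mul_zero]
    abel
  have hx2 : Xg _ hS2 ∈ T := Xg_mem_of_add hS0 hS2 hsum1 hz' hx1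
  -- step 2
  have hsum2 : ((Matrix.single (0 : Fin (k + 1 + 2)) 2 t + Matrix.single 2 0 t) +
      (Matrix.single (0 : Fin (k + 1 + 2)) 1 t + Matrix.single 1 0 t))ᵀ =
      (Matrix.single (0 : Fin (k + 1 + 2)) 2 t + Matrix.single 2 0 t) +
      (Matrix.single (0 : Fin (k + 1 + 2)) 1 t + Matrix.single 1 0 t) := by
    rw [Matrix.transpose_add, hS1, hS2]
  have hx3 : Xg _ hsum2 ∈ T := by
    refine Xg_conj_mem T hsc (1 + Matrix.single 1 2 1) (1 - Matrix.single 1 2 1) _
      (tv_mul_inv 1 2 h12 1) hS2 hx2 _ hsum2 ?_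
    rw [Matrix.transpose_add, Matrix.transpose_one, Matrix.transpose_single]
    simp only [Matrix.add_mul, Matrix.mul_add, Matrix.one_mul, Matrix.mul_one,
      Matrix.single_mul_single_same, Matrix.single_mul_single_of_ne, ne_eq, h10, h20, h21, h01, h02,
      h12, not_false_eq_true, add_zero, zero_add, mul_one, one_mul, Matrix.zero_mul, Matrix.mul_zero]
    abel
  have hx4 : Xg _ hS1 ∈ T := Xg_mem_of_add hS2 hS1 hsum2 hx2 hx3
  -- conclusion
  unfold zz
  refine Xg_mem_of_eq ?_ hS1 _ hx4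
  rw [Matrix.single_zero, zero_add]

end Cfsg.Agent.Lib.Helper70_S5171_SC_LONG_C
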