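import Mathlib
import Cfsg.Agent.Lib.Helper88_PSLnFusDefs

/-!
# Helper50_S5163_GEN_A

S5163 (helper88), package GEN_A: two `SL₂` identities inside `SL_n(F)`:
`GEN_A1`: the diagonal element `hh hij t` is a product of six elementary transvections;
`GEN_A2`: a lower elementary transvection is a Weyl conjugate of an upper one.
-/

set_option autoImplicit false
set_option linter.unusedSimpArgs false

namespace Cfsg.Agent.Lib.Helper50_S5163_GEN_A

open Matrix Cfsg.Agent.Lib.Helper5_Transv Cfsg.Agent.Lib.Helper44_PSLnUT
  Cfsg.Agent.Lib.Helper44_PSLnTv Cfsg.Agent.Lib.Helper44_PSLnSyl Cfsg.Agent.Lib.Helper88_PSLnFus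

variable {F : Type*} [Field F]

theorem GEN_A1 {n : ℕ} {i j : Fin n} (hij : i ≠ j) (t : Fˣ) :
    hh hij t =
      SpecialLinearGroup.transvection hij (t : F) *
      SpecialLinearGroup.transvection hij.symm (-((t⁻¹ : Fˣ) : F)) *
      SpecialLinearGroup.transvection hij (t : F) *
      SpecialLinearGroup.transvection hij (-1 : F) *
      SpecialLinearGroup.transvection hij.symm (1 : F) *
      SpecialLinearGroup.transvection hij (-1 : F) := by
  have h1 : (t : F) * ((t⁻¹ : Fˣ) : F) = 1 := Units.mul_inv t
  have h2 : ((t⁻¹ : Fˣ) : F) * (t : F) = 1 := Units.inv_mul t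
  have key : (hh hij t : SpecialLinearGroup (Fin n) F).1 =
      ((1 : Matrix (Fin n) (Fin n) F) + single i j (t : F)) *
      (1 + single j i (-((t⁻¹ : Fˣ) : F))) *
      (1 + single i j (t : F)) *
      (1 + single i j (-1 : F)) *
      (1 + single j i (1 : F)) *
      (1 + single i j (-1 : F)) := by
    rw [hh_coe]
    simp only [mul_add, add_mul, mul_one, one_mul, Matrix.single_mul_single_same,
      single_mul_single_of_ne _ _ _ _ hij, single_mul_single_of_ne _ _ _ _ hij.symm,
      zero_mul, mul_zero, add_zero, zero_add]
    ext a b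
    simp only [Matrix.diagonal_apply, Matrix.add_apply, Matrix.single_apply, Matrix.one_apply, hhFun]
    have h3 : (t : F) * (-((t⁻¹ : Fˣ) : F)) = -1 := by rw [mul_neg, h1]
    have h4 : (-((t⁻¹ : Fˣ) : F)) * (t : F) = -1 := by rw [neg_mul, h2]
    simp only [h3, h4]
    have hji : j ≠ i := hij.symm
    rcases eq_or_ne a i with rfl | hai
    · rcases eq_or_ne b a with rfl | hbi
      · simp [hij, hji]
      · rcases eq_or_ne b j with rfl | hbj
        · simp [hij, hji, hbi, hbi.symm]
        · simp [hij, hji, hbi, hbi.symm, hbj, hbj.symm]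
    · rcases eq_or_ne a j with rfl | haj
      · rcases eq_or_ne b i with rfl | hbi
        · simp [hij, hji, hai, hai.symm]
        · rcases eq_or_ne b a with rfl | hbj
          · simp [hij, hji, hai, hai.symm]
          · simp [hij, hji, hbi, hbi.symm, hbj, hbj.symm, hai, hai.symm]
      · have h5 : ¬ (i = a) := fun h => hai h.symm
        have h6 : ¬ (j = a) := fun h => haj h.symm
        simp only [h5, h6, false_and, if_false, add_zero, if_neg hai, if_neg haj]
  exact Subtype.ext key

theorem GEN_A2 {n : ℕ} {i j : Fin n} (hij : i ≠ j) (a : F) :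
    SpecialLinearGroup.transvection hij.symm a =
      (SpecialLinearGroup.transvection hij (1 : F) *
        SpecialLinearGroup.transvection hij.symm (-1 : F) *
        SpecialLinearGroup.transvection hij (1 : F)) *
      SpecialLinearGroup.transvection hij (-a) *
      (SpecialLinearGroup.transvection hij (1 : F) *
        SpecialLinearGroup.transvection hij.symm (-1 : F) *
        SpecialLinearGroup.transvection hij (1 : F))⁻¹ := by
  rw [eq_mul_inv_iff_mul_eq]
  have key : ((1 : Matrix (Fin n) (Fin n) F) + single j i a) *
      ((1 + single i j (1 : F)) * (1 + single j i (-1 : F)) * (1 + single i j (1 : F))) =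
      ((1 + single i j (1 : F)) * (1 + single j i (-1 : F)) * (1 + single i j (1 : F))) *
      (1 + single i j (-a)) := by
    simp only [mul_add, add_mul, mul_one, one_mul, Matrix.single_mul_single_same,
      single_mul_single_of_ne _ _ _ _ hij, single_mul_single_of_ne _ _ _ _ hij.symm,
      zero_mul, mul_zero, add_zero, zero_add]
    ext c b
    simp only [Matrix.add_apply, Matrix.single_apply, Matrix.one_apply]
    have hji : j ≠ i := hij.symm
    rcases eq_or_ne c i with rfl | hai
    · rcases eq_or_ne b c with rfl | hbi
      · simp [hij, hji]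
      · rcases eq_or_ne b j with rfl | hbj
        · simp [hij, hji, hbi, hbi.symm]
        · simp [hij, hji, hbi, hbi.symm, hbj, hbj.symm]
    · rcases eq_or_ne c j with rfl | haj
      · rcases eq_or_ne b i with rfl | hbi
        · simp [hij, hji, hai, hai.symm]
        · rcases eq_or_ne b c with rfl | hbj
          · simp [hij, hji, hai, hai.symm]
          · simp [hij, hji, hbi, hbi.symm, hbj, hbj.symm, hai, hai.symm]
      · have h5 : ¬ (i = c) := fun h => hai h.symm
        have h6 : ¬ (j = c) := fun h => haj h.symm
        simp only [h5, h6, false_and, if_false, add_zero]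
  exact Subtype.ext key

end Cfsg.Agent.Lib.Helper50_S5163_GEN_A
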