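import Mathlib
import Cfsg.Prelude.Def_Classical
import Cfsg.Prelude.Def_ClassicalGeometry
import Cfsg.Agent.S0246
import Cfsg.Agent.Lib.Helper13_Symp
import Cfsg.Agent.Lib.Helper13_SympTrans
import Cfsg.Agent.Lib.Helper44_SpUT
import Cfsg.Agent.Lib.Helper11_SpFusDefs
import Cfsg.Agent.Lib.Helper50_S5163_GEN_A

/-!
# S5171-GEN_2 (helper7, for helper11's S5171 market)

`A ↦ Lg A A⁻¹` is a homomorphism `SL_m(F) → Sp_{2m}(F)` (`levi`) whose image normalises the Siegel
radical `QSieg = {Xg S}`.  The torus element `dg (t₀, t₀⁻¹, 1, …)` is the image of `hh 01 t₀`, a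
product of six elementary transvections (`Helper50_S5163_GEN_A.GEN_A1`); the upper ones map into
`USp`, the lower ones are `levi`-conjugates of upper ones (`GEN_A2`).
-/

set_option autoImplicit false
set_option linter.unusedSectionVars false
set_option linter.unusedVariables false

namespace Cfsg.Agent.Lib.Helper7_S5171_GEN_2

open Matrix Cfsg.Agent.Lib.Helper44_PSLnUT Cfsg.Agent.Lib.Helper5_SpPerfect
  Cfsg.Agent.Lib.Helper44_SpUT Cfsg.Agent.Lib.Helper13_Symp Cfsg.Agent.Lib.Helper11_SpFusDefs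

variable {F : Type*} [Field F]

section general

variable {m : ℕ}

/-- `Lg A B` only depends on `A`. -/
theorem Lg_ext {A A' B B' : Matrix (Fin m) (Fin m) F} (h : A * B = 1) (h' : A' * B' = 1)
    (hA : A = A') : Lg A B h = Lg A' B' h' := by
  subst hA
  have hB : B = B' := by
    have h1 : B * A = 1 := mul_eq_one_comm.mp h
    calc B = B * (A * B') := by rw [h', mul_one]
      _ = (B * A) * B' := by rw [Matrix.mul_assoc]
      _ = B' := by rw [h1, one_mul]
  subst hB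
  rfl

/-- product of Levi elements -/
theorem Lg_mul (A B A' B' : Matrix (Fin m) (Fin m) F) (h : A * B = 1) (h' : A' * B' = 1) :
    Lg A B h * Lg A' B' h' = Lg (A * A') (B' * B)
      (by rw [Matrix.mul_assoc, ← Matrix.mul_assoc A' B' B, h', one_mul, h]) := by
  apply Subtype.ext
  show Lmat A B * Lmat A' B' = Lmat (A * A') (B' * B)
  simp [Lmat, Matrix.fromBlocks_multiply, Matrix.transpose_mul]

theorem Lg_one : Lg (1 : Matrix (Fin m) (Fin m) F) 1 (mul_one 1) = 1 := by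
  apply Subtype.ext
  show Lmat (1 : Matrix (Fin m) (Fin m) F) 1 = 1
  simp [Lmat]

theorem sl_mul_inv (A : SpecialLinearGroup (Fin m) F) : A.1 * (A⁻¹).1 = 1 := by
  have h : (A * A⁻¹ : SpecialLinearGroup (Fin m) F).1 = 1 := by rw [mul_inv_cancel]; rfl
  exact h

/-- the Levi embedding `A ↦ Lg A A⁻¹` of `SL_m(F)` -/
noncomputable def levi (m : ℕ) (F : Type*) [Field F] :
    SpecialLinearGroup (Fin m) F →* symplecticGroup (Fin m) F where
  toFun A := Lg A.1 (A⁻¹).1 (sl_mul_inv A)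
  map_one' := by
    rw [← Lg_one]
    exact Lg_ext _ _ rfl
  map_mul' A B := by
    rw [Lg_mul]
    exact Lg_ext _ _ rfl

theorem levi_apply (A : SpecialLinearGroup (Fin m) F) :
    levi m F A = Lg A.1 (A⁻¹).1 (sl_mul_inv A) := rfl

/-- elements of the Siegel radical are Siegel elements -/
theorem exists_Xg_of_mem_QSieg {q : symplecticGroup (Fin m) F} (hq : q ∈ QSieg m F) :
    ∃ (S : Matrix (Fin m) (Fin m) F) (hS : Sᵀ = S), q = Xg S hS := by
  obtain ⟨hU, hfix⟩ := hq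
  have h11 : q.1.toBlocks₁₁ = 1 := by
    ext i j
    have h0 := hfix j
    rw [mulVec_eL] at h0
    have this : q.1 (Sum.inl i) (Sum.inl j) = eL j (Sum.inl i) := congrFun h0 (Sum.inl i)
    show q.1 (Sum.inl i) (Sum.inl j) = _
    rw [this]
    simp [eL, Matrix.one_apply, Pi.single_apply, eq_comm]
  have h := eq_Lg_mul_Xg hU
  obtain ⟨S, hS, hq⟩ : ∃ (S : Matrix (Fin m) (Fin m) F) (hS : Sᵀ = S),
      q = Lg q.1.toBlocks₁₁ (q.1.toBlocks₁₁)⁻¹ (isUT_mul_inv ⟨hU.2.1, hU.2.2⟩) * Xg S hS := by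
    exact ⟨_, _, h⟩
  refine ⟨S, hS, ?_⟩
  rw [hq]
  have : Lg q.1.toBlocks₁₁ (q.1.toBlocks₁₁)⁻¹ (isUT_mul_inv ⟨hU.2.1, hU.2.2⟩) = 1 := by
    rw [← Lg_one]
    exact Lg_ext _ _ h11
  rw [this, one_mul]

theorem Xg_mem_QSieg (S : Matrix (Fin m) (Fin m) F) (hS : Sᵀ = S) : Xg S hS ∈ QSieg m F := by
  refine ⟨Xg_mem_USp hS, fun i => ?_⟩
  rw [mulVec_eL]
  funext a
  show Xmat S a (Sum.inl i) = eL i a
  rcases a with a | a <;> simp [Xmat, eL, Matrix.one_apply, Pi.single_apply, eq_comm]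

/-- Levi elements normalise the Siegel radical -/
theorem Lg_normalizes_QSieg (A B : Matrix (Fin m) (Fin m) F) (h : A * B = 1)
    (q : symplecticGroup (Fin m) F) (hq : q ∈ QSieg m F) :
    Lg A B h * q * (Lg A B h)⁻¹ ∈ QSieg m F := by
  obtain ⟨S, hS, rfl⟩ := exists_Xg_of_mem_QSieg hq
  rw [Lg_mul_Xg A B S h hS, mul_inv_cancel_right]
  exact Xg_mem_QSieg _ _

end general

/-- the generating set of GEN_2 -/
def genSet (k : ℕ) (F : Type*) [Field F] : Set (symplecticGroup (Fin (k + 2)) F) :=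
  {y | ∃ w : symplecticGroup (Fin (k + 2)) F,
    (∀ q ∈ QSieg (k + 2) F, w * q * w⁻¹ ∈ QSieg (k + 2) F) ∧ ∃ s ∈ USp (k + 2) F, y = w * s * w⁻¹}

theorem h01 (k : ℕ) : (0 : Fin (k + 2)) ≠ 1 := by
  intro h
  have := congrArg Fin.val h
  simp at this

theorem levi_upper_mem (k : ℕ) (a : F) :
    levi (k + 2) F (SpecialLinearGroup.transvection (h01 k) a) ∈ USp (k + 2) F := by
  have hlt : (0 : Fin (k + 2)) < 1 := by
    rw [Fin.lt_def]; simp
  have h1 := Lg_mem_USp (isUT_one_add_single hlt a)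
  rw [levi_apply]
  convert h1 using 1
  exact Lg_ext _ _ rfl

theorem levi_upper_mem_genSet (k : ℕ) (a : F) :
    levi (k + 2) F (SpecialLinearGroup.transvection (h01 k) a) ∈ genSet k F := by
  refine ⟨1, fun q hq => by simpa using hq, _, levi_upper_mem k a, by simp⟩

theorem levi_lower_mem_genSet (k : ℕ) (a : F) :
    levi (k + 2) F (SpecialLinearGroup.transvection (h01 k).symm a) ∈ genSet k F := by
  rw [Cfsg.Agent.Lib.Helper50_S5163_GEN_A.GEN_A2 (h01 k) a, map_mul, map_mul, map_inv]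
  refine ⟨_, ?_, _, levi_upper_mem k (-a), rfl⟩
  intro q hq
  rw [levi_apply]
  exact Lg_normalizes_QSieg _ _ _ q hq

/-- PKG GEN_2. -/
theorem GEN_2 {k : ℕ} (t : Fin (k + 2) → Fˣ) (ht : ∀ i : Fin (k + 2), i ≠ 0 → i ≠ 1 → t i = 1)
    (h01' : t 0 * t 1 = 1) :
    (dg t : symplecticGroup (Fin (k + 2)) F) ∈ Subgroup.closure
      {y : symplecticGroup (Fin (k + 2)) F | ∃ w : symplecticGroup (Fin (k + 2)) F,
        (∀ q ∈ QSieg (k + 2) F, w * q * w⁻¹ ∈ QSieg (k + 2) F) ∧ ∃ s ∈ USp (k + 2) F, y = w * s * w⁻¹} := by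
  have hdg : dg t = levi (k + 2) F (Cfsg.Agent.Lib.Helper88_PSLnFus.hh (h01 k) (t 0)) := by
    rw [levi_apply]
    unfold dg
    apply Lg_ext
    rw [Cfsg.Agent.Lib.Helper88_PSLnFus.hh_coe]
    congr 1
    funext i
    unfold Cfsg.Agent.Lib.Helper88_PSLnFus.hhFun
    by_cases hi0 : i = 0
    · subst hi0; rw [if_pos rfl]
    · rw [if_neg hi0]
      by_cases hi1 : i = 1
      · subst hi1
        rw [if_pos rfl]
        have : t 1 = (t 0)⁻¹ := eq_inv_of_mul_eq_one_right h01'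
        rw [this]
      · rw [if_neg hi1, ht i hi0 hi1]; rfl
  rw [hdg, Cfsg.Agent.Lib.Helper50_S5163_GEN_A.GEN_A1 (h01 k) (t 0)]
  simp only [map_mul]
  have hU := fun a => Subgroup.subset_closure (levi_upper_mem_genSet (F := F) k a)
  have hL := fun a => Subgroup.subset_closure (levi_lower_mem_genSet (F := F) k a)
  exact Subgroup.mul_mem _ (Subgroup.mul_mem _ (Subgroup.mul_mem _ (Subgroup.mul_mem _
    (Subgroup.mul_mem _ (hU _) (hL _)) (hU _)) (hU _)) (hL _)) (hU _)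

end Cfsg.Agent.Lib.Helper7_S5171_GEN_2
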