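import Mathlib
import Cfsg.Prelude.Def_Classical
import Cfsg.Prelude.Def_ClassicalGeometry
import Cfsg.Agent.S0246
import Cfsg.Agent.Lib.Helper13_Symp
import Cfsg.Agent.Lib.Helper13_SympTrans
import Cfsg.Agent.Lib.Helper44_SpUT
import Cfsg.Agent.Lib.Helper11_SpFusDefs
import Cfsg.Agent.Lib.Helper50_S5163_GEN_A
import Cfsg.Agent.Lib.Helper10_S5171_QCHAR
import Cfsg.Agent.Lib.Helper7_S5171_GEN_2

/-!
# S5171-GEN_1 (helper7, for helper11's S5171 market)

For `j : Fin m` the map `emb j : M₂(F) → M_{2m}(F)` places a `2 × 2` matrix on the hyperbolic pair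
`(e_j, f_j)`; it is multiplicative and gives a homomorphism `sl2 j : SL₂(F) →* Sp_{2m}(F)`.
Upper transvections map to `Xg (a E_jj) ∈ USp`, lower transvections are `sl2 j`-conjugates of upper
ones (`GEN_A2`), the conjugating element fixes `e_0` when `j ≠ 0`, hence normalises `QPt`
(`Helper10_S5171_QCHAR.normalizes_Q`).  The torus element `h_j(τ)` is the image of `hh 01 τ`
(`GEN_A1`), and `dg t` with `t 0 = 1` is the product of the `h_j (t j)`, `j ≠ 0`.
-/

set_option autoImplicit false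
set_option linter.unusedSectionVars false
set_option linter.unusedVariables false
set_option linter.unusedSimpArgs false

namespace Cfsg.Agent.Lib.Helper7_S5171_GEN_1

open Matrix Cfsg.Agent.Lib.Helper44_PSLnUT Cfsg.Agent.Lib.Helper5_SpPerfect
  Cfsg.Agent.Lib.Helper44_SpUT Cfsg.Agent.Lib.Helper13_Symp Cfsg.Agent.Lib.Helper11_SpFusDefs

variable {F : Type*} [Field F]

section emb

variable {m : ℕ}

/-- a `2 × 2` matrix placed on the hyperbolic pair `(e_j, f_j)` -/
def emb (j : Fin m) (M : Matrix (Fin 2) (Fin 2) F) :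
    Matrix (Fin m ⊕ Fin m) (Fin m ⊕ Fin m) F :=
  fromBlocks ((1 - single j j 1) + single j j (M 0 0)) (single j j (M 0 1))
    (single j j (M 1 0)) ((1 - single j j 1) + single j j (M 1 1))

theorem emb_mul (j : Fin m) (M N : Matrix (Fin 2) (Fin 2) F) :
    emb j M * emb j N = emb j (M * N) := by
  have e00 : (M * N) 0 0 = M 0 0 * N 0 0 + M 0 1 * N 1 0 := by
    rw [Matrix.mul_apply, Fin.sum_univ_two]
  have e01 : (M * N) 0 1 = M 0 0 * N 0 1 + M 0 1 * N 1 1 := by
    rw [Matrix.mul_apply, Fin.sum_univ_two]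
  have e10 : (M * N) 1 0 = M 1 0 * N 0 0 + M 1 1 * N 1 0 := by
    rw [Matrix.mul_apply, Fin.sum_univ_two]
  have e11 : (M * N) 1 1 = M 1 0 * N 0 1 + M 1 1 * N 1 1 := by
    rw [Matrix.mul_apply, Fin.sum_univ_two]
  unfold emb
  rw [fromBlocks_multiply, e00, e01, e10, e11]
  congr 1
  all_goals
    simp only [Matrix.add_mul, Matrix.mul_add, Matrix.sub_mul, Matrix.mul_sub, Matrix.one_mul,
      Matrix.mul_one, single_mul_single_same, mul_one, one_mul, Matrix.single_add]
    abel

theorem emb_one (j : Fin m) : emb j (1 : Matrix (Fin 2) (Fin 2) F) = 1 := by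
  unfold emb
  have h00 : (1 : Matrix (Fin 2) (Fin 2) F) 0 0 = 1 := Matrix.one_apply_eq 0
  have h11 : (1 : Matrix (Fin 2) (Fin 2) F) 1 1 = 1 := Matrix.one_apply_eq 1
  have h01 : (1 : Matrix (Fin 2) (Fin 2) F) 0 1 = 0 := Matrix.one_apply_ne (by decide)
  have h10 : (1 : Matrix (Fin 2) (Fin 2) F) 1 0 = 0 := Matrix.one_apply_ne (by decide)
  rw [h00, h11, h01, h10, Matrix.single_zero, sub_add_cancel, fromBlocks_one]

theorem emb_mem (j : Fin m) (M : Matrix (Fin 2) (Fin 2) F) (hM : M.det = 1) :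
    emb j M ∈ symplecticGroup (Fin m) F := by
  rw [Matrix.det_fin_two] at hM
  unfold emb
  rw [SymplecticGroup.fromBlocks_mem_iff]
  simp only [Matrix.transpose_add, Matrix.transpose_sub, Matrix.transpose_one,
    Matrix.transpose_single, Matrix.add_mul, Matrix.mul_add, Matrix.sub_mul, Matrix.mul_sub,
    Matrix.one_mul, Matrix.mul_one, single_mul_single_same, mul_one, one_mul]
  refine ⟨?_, ?_, ?_⟩
  · rw [mul_comm (M 1 0) (M 0 0)]
  · rw [mul_comm (M 1 1) (M 0 1)]
  · have h : (single j j (M 0 0 * M 1 1) : Matrix (Fin m) (Fin m) F) =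
        single j j 1 + single j j (M 1 0 * M 0 1) := by
      rw [← Matrix.single_add]
      congr 1
      linear_combination hM
    rw [h]
    abel

/-- the `SL₂` on the hyperbolic pair `(e_j, f_j)` -/
def sl2 (j : Fin m) : SpecialLinearGroup (Fin 2) F →* symplecticGroup (Fin m) F where
  toFun A := ⟨emb j A.1, emb_mem j A.1 A.2⟩
  map_one' := Subtype.ext (emb_one j)
  map_mul' A B := Subtype.ext (emb_mul j A.1 B.1).symm

theorem sl2_coe (j : Fin m) (A : SpecialLinearGroup (Fin 2) F) : (sl2 j A).1 = emb j A.1 := rfl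

theorem h01 : (0 : Fin 2) ≠ 1 := by decide

theorem sl2_upper (j : Fin m) (a : F) :
    sl2 j (SpecialLinearGroup.transvection h01 a) =
      Xg (single j j a) (Matrix.transpose_single j j a) := by
  apply Subtype.ext
  show emb j (1 + single 0 1 a) = Xmat (single j j a)
  unfold emb Xmat
  have h00 : (1 + single 0 1 a : Matrix (Fin 2) (Fin 2) F) 0 0 = 1 := by
    simp [Matrix.add_apply, Matrix.single_apply]
  have h11 : (1 + single 0 1 a : Matrix (Fin 2) (Fin 2) F) 1 1 = 1 := by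
    simp [Matrix.add_apply, Matrix.single_apply]
  have h01 : (1 + single 0 1 a : Matrix (Fin 2) (Fin 2) F) 0 1 = a := by
    simp [Matrix.add_apply, Matrix.single_apply]
  have h10 : (1 + single 0 1 a : Matrix (Fin 2) (Fin 2) F) 1 0 = 0 := by
    simp [Matrix.add_apply, Matrix.single_apply]
  rw [h00, h11, h01, h10, Matrix.single_zero, sub_add_cancel]

theorem sl2_upper_mem (j : Fin m) (a : F) :
    sl2 j (SpecialLinearGroup.transvection h01 a) ∈ USp m F := by
  rw [sl2_upper]
  exact Xg_mem_USp _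

/-- the torus element `h_j(τ)` -/
theorem sl2_hh (j : Fin m) (τ : Fˣ) :
    sl2 j (Cfsg.Agent.Lib.Helper88_PSLnFus.hh h01 τ) =
      (dg (fun i => if i = j then τ else 1) : symplecticGroup (Fin m) F) := by
  apply Subtype.ext
  show emb j (Matrix.diagonal (Cfsg.Agent.Lib.Helper88_PSLnFus.hhFun 0 1 τ)) = Lmat _ _
  unfold emb Lmat
  have h00 : (Matrix.diagonal (Cfsg.Agent.Lib.Helper88_PSLnFus.hhFun (0 : Fin 2) 1 τ)) 0 0
      = (τ : F) := by
    simp [Cfsg.Agent.Lib.Helper88_PSLnFus.hhFun]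
  have h11 : (Matrix.diagonal (Cfsg.Agent.Lib.Helper88_PSLnFus.hhFun (0 : Fin 2) 1 τ)) 1 1
      = ((τ⁻¹ : Fˣ) : F) := by
    simp [Cfsg.Agent.Lib.Helper88_PSLnFus.hhFun]
  have h01 : (Matrix.diagonal (Cfsg.Agent.Lib.Helper88_PSLnFus.hhFun (0 : Fin 2) 1 τ)) 0 1
      = 0 := by
    simp
  have h10 : (Matrix.diagonal (Cfsg.Agent.Lib.Helper88_PSLnFus.hhFun (0 : Fin 2) 1 τ)) 1 0
      = 0 := by
    simp
  rw [h00, h11, h01, h10, Matrix.single_zero, Matrix.diagonal_transpose]
  congr 1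
  · ext a b
    simp only [Matrix.add_apply, Matrix.sub_apply, Matrix.one_apply, Matrix.single_apply,
      Matrix.diagonal_apply]
    by_cases hab : a = b
    · subst hab
      by_cases haj : a = j
      · subst haj; simp
      · have : ¬ j = a := fun h => haj h.symm
        simp [haj, this]
    · by_cases haj : j = a
      · subst haj
        have : ¬ j = b := hab
        simp [hab, this]
      · simp [hab, haj]
  · ext a b
    simp only [Matrix.add_apply, Matrix.sub_apply, Matrix.one_apply, Matrix.single_apply,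
      Matrix.diagonal_apply]
    by_cases hab : a = b
    · subst hab
      by_cases haj : a = j
      · subst haj; simp
      · have : ¬ j = a := fun h => haj h.symm
        simp [haj, this]
    · by_cases haj : j = a
      · subst haj
        have : ¬ j = b := hab
        simp [hab, this]
      · simp [hab, haj]

theorem dg_mul (t t' : Fin m → Fˣ) :
    (dg t * dg t' : symplecticGroup (Fin m) F) = dg (t * t') := by
  unfold dg
  rw [Cfsg.Agent.Lib.Helper7_S5171_GEN_2.Lg_mul]
  apply Cfsg.Agent.Lib.Helper7_S5171_GEN_2.Lg_ext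
  rw [Matrix.diagonal_mul_diagonal]
  congr 1

theorem dg_one : (dg (fun _ => (1 : Fˣ)) : symplecticGroup (Fin m) F) = 1 := by
  unfold dg
  rw [← Cfsg.Agent.Lib.Helper7_S5171_GEN_2.Lg_one]
  apply Cfsg.Agent.Lib.Helper7_S5171_GEN_2.Lg_ext
  simp

end emb

/-- the generating set of GEN_1 -/
def genSet (k : ℕ) (F : Type*) [Field F] : Set (symplecticGroup (Fin (k + 2)) F) :=
  {y | ∃ w : symplecticGroup (Fin (k + 2)) F,
    (∀ q ∈ QPt (k + 1) F, w * q * w⁻¹ ∈ QPt (k + 1) F) ∧ ∃ s ∈ USp (k + 2) F, y = w * s * w⁻¹}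

/-- `emb j N` fixes `e_0` when `j ≠ 0` -/
theorem emb_mulVec_eL0 {k : ℕ} (j : Fin (k + 2)) (hj : j ≠ 0) (N : Matrix (Fin 2) (Fin 2) F) :
    emb j N *ᵥ eL (0 : Fin (k + 2)) = eL 0 := by
  rw [mulVec_eL]
  funext a
  unfold emb
  have hj' : ¬ (0 : Fin (k + 2)) = j := fun h => hj h.symm
  rcases a with i | i
  · rw [Matrix.fromBlocks_apply₁₁, Cfsg.Agent.Lib.Helper10_S5171_QCHAR.eL_inl]
    simp [Matrix.add_apply, Matrix.sub_apply, Matrix.one_apply, Matrix.single_apply, hj, hj']
  · rw [Matrix.fromBlocks_apply₂₁, Cfsg.Agent.Lib.Helper10_S5171_QCHAR.eL_inr]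
    simp [Matrix.single_apply, hj, hj']

theorem sl2_normalizes {k : ℕ} (j : Fin (k + 2)) (hj : j ≠ 0) (A : SpecialLinearGroup (Fin 2) F) :
    ∀ q ∈ QPt (k + 1) F, sl2 j A * q * (sl2 j A)⁻¹ ∈ QPt (k + 1) F := by
  refine (Cfsg.Agent.Lib.Helper10_S5171_QCHAR.normalizes_Q (k := k + 1) (sl2 j A)).2.1 ⟨1, ?_⟩
  rw [one_smul, sl2_coe]
  exact emb_mulVec_eL0 j hj A.1

theorem sl2_upper_mem_genSet {k : ℕ} (j : Fin (k + 2)) (a : F) :
    sl2 j (SpecialLinearGroup.transvection h01 a) ∈ genSet k F := by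
  refine ⟨1, fun q hq => by simpa using hq, _, sl2_upper_mem j a, by simp⟩

theorem sl2_lower_mem_genSet {k : ℕ} (j : Fin (k + 2)) (hj : j ≠ 0) (a : F) :
    sl2 j (SpecialLinearGroup.transvection h01.symm a) ∈ genSet k F := by
  rw [Cfsg.Agent.Lib.Helper50_S5163_GEN_A.GEN_A2 h01 a, map_mul, map_mul, map_inv]
  exact ⟨_, sl2_normalizes j hj _, _, sl2_upper_mem j (-a), rfl⟩

theorem hj_mem {k : ℕ} (j : Fin (k + 2)) (hj : j ≠ 0) (τ : Fˣ) :
    (dg (fun i => if i = j then τ else 1) : symplecticGroup (Fin (k + 2)) F) ∈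
      Subgroup.closure (genSet k F) := by
  rw [← sl2_hh, Cfsg.Agent.Lib.Helper50_S5163_GEN_A.GEN_A1 h01 τ]
  simp only [map_mul]
  have hU := fun a => Subgroup.subset_closure (sl2_upper_mem_genSet (F := F) (k := k) j a)
  have hL := fun a => Subgroup.subset_closure (sl2_lower_mem_genSet (F := F) (k := k) j hj a)
  exact Subgroup.mul_mem _ (Subgroup.mul_mem _ (Subgroup.mul_mem _ (Subgroup.mul_mem _
    (Subgroup.mul_mem _ (hU _) (hL _)) (hU _)) (hU _)) (hL _)) (hU _)

theorem dg_support_mem {k : ℕ} (t : Fin (k + 2) → Fˣ) (s : Finset (Fin (k + 2)))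
    (hs : (0 : Fin (k + 2)) ∉ s) :
    (dg (fun i => if i ∈ s then t i else 1) : symplecticGroup (Fin (k + 2)) F) ∈
      Subgroup.closure (genSet k F) := by
  induction s using Finset.induction_on with
  | empty =>
    have : (fun i : Fin (k + 2) => if i ∈ (∅ : Finset (Fin (k + 2))) then t i else (1 : Fˣ)) =
        fun _ => 1 := by
      funext i; simp
    rw [this, dg_one]
    exact Subgroup.one_mem _
  | insert a s ha ih =>
    have h0a : a ≠ 0 := by
      rintro rfl
      exact hs (Finset.mem_insert_self _ _)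
    have h0s : (0 : Fin (k + 2)) ∉ s := fun h => hs (Finset.mem_insert_of_mem h)
    have : (fun i : Fin (k + 2) => if i ∈ insert a s then t i else (1 : Fˣ)) =
        (fun i => if i = a then t a else 1) * (fun i => if i ∈ s then t i else 1) := by
      funext i
      rw [Pi.mul_apply]
      by_cases hi : i = a
      · subst hi
        simp [ha]
      · simp [hi]
    rw [this, ← dg_mul]
    exact Subgroup.mul_mem _ (hj_mem a h0a (t a)) (ih h0s)

/-- PKG GEN_1. -/
theorem GEN_1 {k : ℕ} (t : Fin (k + 2) → Fˣ) (ht : t 0 = 1) :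
    (dg t : symplecticGroup (Fin (k + 2)) F) ∈ Subgroup.closure
      {y : symplecticGroup (Fin (k + 2)) F | ∃ w : symplecticGroup (Fin (k + 2)) F,
        (∀ q ∈ QPt (k + 1) F, w * q * w⁻¹ ∈ QPt (k + 1) F) ∧ ∃ s ∈ USp (k + 2) F, y = w * s * w⁻¹} := by
  have h := dg_support_mem (F := F) t (Finset.univ.erase 0) (Finset.notMem_erase _ _)
  have : (fun i : Fin (k + 2) => if i ∈ Finset.univ.erase (0 : Fin (k + 2)) then t i else (1 : Fˣ)) = t := by
    funext i
    by_cases hi : i = 0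
    · subst hi
      simp [ht]
    · simp [hi]
  rw [this] at h
  exact h

end Cfsg.Agent.Lib.Helper7_S5171_GEN_1
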