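import Mathlib
import Cfsg.Prelude.Def_Classical
import Cfsg.Prelude.Def_ClassicalGeometry
import Cfsg.Agent.S0246
import Cfsg.Agent.Lib.Helper13_Symp
import Cfsg.Agent.Lib.Helper13_SympTrans
import Cfsg.Agent.Lib.Helper44_SpUT
import Cfsg.Agent.Lib.Helper11_SpFusDefs

/-!
# S5171 package SC_LEVI_B (architect helper11)

Every upper unitriangular matrix is a product of elementary matrices `1 + a E_ij`, `i < j`
(induction on the number of non-zero entries above the diagonal); hence a subgroup of `Sp`
containing all `lv ij a` contains all `lvU hA`.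
-/

set_option autoImplicit false

namespace Cfsg.Agent.Lib.Helper86_S5171_SC_LEVI_B

open Matrix Cfsg.Agent.Lib.Helper44_PSLnUT Cfsg.Agent.Lib.Helper5_SpPerfect
  Cfsg.Agent.Lib.Helper44_SpUT Cfsg.Agent.Lib.Helper13_Symp Cfsg.Agent.Lib.Helper11_SpFusDefs

variable {F : Type*} [Field F]

/-- elementary matrices are unitriangular -/
theorem isUT_elem {m : ℕ} {i j : Fin m} (hij : i < j) (a : F) :
    IsUT (1 + Matrix.single i j a : Matrix (Fin m) (Fin m) F) := by
  refine ⟨fun k l hlk => ?_, fun k => ?_⟩
  · rw [Matrix.add_apply, Matrix.one_apply_ne (ne_of_gt hlk), zero_add,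
      Matrix.single_apply_of_ne]
    rintro ⟨rfl, rfl⟩
    exact absurd hij (not_lt.mpr hlk.le)
  · rw [Matrix.add_apply, Matrix.one_apply_eq, Matrix.single_apply_of_ne, add_zero]
    rintro ⟨rfl, h⟩
    exact (ne_of_lt hij) h.symm

/-- entries of `A * (1 + c E_ij)` -/
theorem mul_elem_apply {m : ℕ} (A : Matrix (Fin m) (Fin m) F) (i j : Fin m) (c : F)
    (k l : Fin m) :
    (A * (1 + Matrix.single i j c)) k l = A k l + if l = j then A k i * c else 0 := by
  rw [Matrix.mul_add, Matrix.mul_one, Matrix.add_apply]
  by_cases hl : l = j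
  · subst hl
    rw [if_pos rfl, Matrix.mul_single_apply_same]
  · rw [if_neg hl, Matrix.mul_single_apply_of_ne (c := c) i j k l hl A]

/-- the set of non-zero positions above the diagonal -/
noncomputable def supp {m : ℕ} (A : Matrix (Fin m) (Fin m) F) : Finset (Fin m × Fin m) := by
  classical
  exact Finset.univ.filter (fun p => p.1 < p.2 ∧ A p.1 p.2 ≠ 0)

theorem mem_supp {m : ℕ} (A : Matrix (Fin m) (Fin m) F) (p : Fin m × Fin m) :
    p ∈ supp A ↔ p.1 < p.2 ∧ A p.1 p.2 ≠ 0 := by
  classical
  unfold supp
  rw [Finset.mem_filter]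
  exact ⟨fun h => h.2, fun h => ⟨Finset.mem_univ _, h⟩⟩

/-- generation of the unitriangular matrices by elementary matrices, as an induction principle -/
theorem ut_induction {m : ℕ} (P : Matrix (Fin m) (Fin m) F → Prop) (h1 : P 1)
    (hstep : ∀ A : Matrix (Fin m) (Fin m) F, IsUT A → P A → ∀ i j : Fin m, i < j → ∀ c : F,
      P (A * (1 + Matrix.single i j c))) :
    ∀ A : Matrix (Fin m) (Fin m) F, IsUT A → P A := by
  classical
  have key : ∀ n : ℕ, ∀ A : Matrix (Fin m) (Fin m) F, IsUT A → (supp A).card = n → P A := by
    intro n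
    induction n with
    | zero =>
      intro A hA hn
      have hempty : supp A = ∅ := Finset.card_eq_zero.mp hn
      have : A = 1 := by
        ext k l
        rcases lt_trichotomy k l with h | h | h
        · rw [Matrix.one_apply_ne (ne_of_lt h)]
          by_contra hne
          have : (k, l) ∈ supp A := (mem_supp A (k, l)).mpr ⟨h, hne⟩
          rw [hempty] at this
          exact absurd this (Finset.notMem_empty _)
        · subst h
          rw [Matrix.one_apply_eq]
          exact hA.2 k
        · rw [Matrix.one_apply_ne (ne_of_gt h)]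
          exact hA.1 k l h
      rw [this]
      exact h1
    | succ n ih =>
      intro A hA hn
      have hne : (supp A).Nonempty := by
        rw [← Finset.card_pos, hn]
        exact Nat.succ_pos n
      obtain ⟨p, hp, hmin⟩ := Finset.exists_min_image (supp A) (fun p => p.1) hne
      obtain ⟨i, j⟩ := p
      have hpij := (mem_supp A (i, j)).mp hp
      have hij : i < j := hpij.1
      have hAij : A i j ≠ 0 := hpij.2
      -- rows above `i` are identity rows
      have hrow : ∀ k l : Fin m, k < i → k < l → A k l = 0 := by
        intro k l hki hkl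
        by_contra hne'
        have hmem : (k, l) ∈ supp A := (mem_supp A (k, l)).mpr ⟨hkl, hne'⟩
        have := hmin (k, l) hmem
        exact absurd (lt_of_lt_of_le hki this) (lt_irrefl _)
      set A' : Matrix (Fin m) (Fin m) F := A * (1 + Matrix.single i j (-(A i j))) with hA'
      have hA'UT : IsUT A' := hA.mul (isUT_elem hij _)
      -- entries of `A'`
      have hent : ∀ k l : Fin m, A' k l = if (k, l) = (i, j) then 0 else A k l := by
        intro k l
        rw [hA', mul_elem_apply]
        by_cases hl : l = j
        · subst hl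
          rw [if_pos rfl]
          by_cases hk : k = i
          · subst hk
            rw [if_pos rfl, hA.2 k, one_mul, add_neg_cancel]
          · have hne' : ¬ ((k, l) = (i, l)) := fun h => hk (Prod.ext_iff.mp h).1
            rw [if_neg hne']
            have hki : A k i = 0 := by
              rcases lt_or_gt_of_ne hk with h | h
              · exact hrow k i h h
              · exact hA.1 k i h
            rw [hki, zero_mul, add_zero]
        · rw [if_neg hl, add_zero]
          have hne' : ¬ ((k, l) = (i, j)) := fun h => hl (Prod.ext_iff.mp h).2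
          rw [if_neg hne']
      have hsupp : supp A' = (supp A).erase (i, j) := by
        ext q
        rw [Finset.mem_erase, mem_supp, mem_supp, hent q.1 q.2]
        by_cases hq : q = (i, j)
        · subst hq
          simp
        · have hq' : ¬ ((q.1, q.2) = (i, j)) := hq
          rw [if_neg hq']
          exact ⟨fun h => ⟨hq, h⟩, fun h => h.2⟩
      have hcard : (supp A').card = n := by
        rw [hsupp, Finset.card_erase_of_mem hp, hn]
        rfl
      have hPA' := ih A' hA'UT hcard
      have hback : A = A' * (1 + Matrix.single i j (A i j)) := by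
        rw [hA', Matrix.mul_assoc]
        have : (1 + Matrix.single i j (-(A i j))) * (1 + Matrix.single i j (A i j)) =
            (1 : Matrix (Fin m) (Fin m) F) := by
          have h := tv_mul_inv (F := F) i j (ne_of_lt hij) (-(A i j))
          have e : (1 : Matrix (Fin m) (Fin m) F) - Matrix.single i j (-(A i j)) =
              1 + Matrix.single i j (A i j) := by
            rw [sub_eq_add_neg]
            congr 1
            ext a b
            rw [Matrix.neg_apply, Matrix.single_apply, Matrix.single_apply]
            split_ifs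
            · rw [neg_neg]
            · rw [neg_zero]
          rw [e] at h
          exact h
        rw [this, Matrix.mul_one]
      rw [hback]
      exact hstep A' hA'UT hPA' i j hij (A i j)
  intro A hA
  exact key _ A hA rfl

/-- `lvU` is multiplicative -/
theorem lvU_mul {m : ℕ} {A B : Matrix (Fin m) (Fin m) F} (hA : IsUT A) (hB : IsUT B) :
    lvU (hA.mul hB) = lvU hA * lvU hB := by
  apply Subtype.ext
  show Lmat (A * B) (A * B)⁻¹ = Lmat A A⁻¹ * Lmat B B⁻¹
  unfold Lmat
  rw [fromBlocks_multiply, Matrix.mul_inv_rev, Matrix.transpose_mul]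
  simp

theorem lvU_one {m : ℕ} : lvU (isUT_one : IsUT (1 : Matrix (Fin m) (Fin m) F)) = 1 := by
  apply Subtype.ext
  show Lmat (1 : Matrix (Fin m) (Fin m) F) 1⁻¹ = 1
  unfold Lmat
  rw [inv_one, Matrix.transpose_one, Matrix.fromBlocks_one]

theorem lvU_elem {m : ℕ} {i j : Fin m} (hij : i < j) (a : F) :
    lvU (isUT_elem hij a) = lv (ne_of_lt hij) a := by
  apply Subtype.ext
  show Lmat (1 + Matrix.single i j a) (1 + Matrix.single i j a)⁻¹ =
    Lmat (1 + Matrix.single i j a) (1 - Matrix.single i j a)
  congr 1
  exact Matrix.inv_eq_right_inv (tv_mul_inv i j (ne_of_lt hij) a)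

/-- **SC_LEVI_B** -/
theorem SC_LEVI_B {m : ℕ} (T : Subgroup (symplecticGroup (Fin m) F))
    (h : ∀ {i j : Fin m} (hij : i < j) (a : F), lv (ne_of_lt hij) a ∈ T)
    {A : Matrix (Fin m) (Fin m) F} (hA : IsUT A) : lvU hA ∈ T := by
  have key : ∀ A : Matrix (Fin m) (Fin m) F, IsUT A → ∀ hA : IsUT A, lvU hA ∈ T := by
    apply ut_induction (fun A => ∀ hA : IsUT A, lvU hA ∈ T)
    · intro hA
      have : lvU hA = 1 := lvU_one
      rw [this]
      exact T.one_mem
    · intro A hA hPA i j hij c hAc
      have e : lvU hAc = lvU hA * lvU (isUT_elem hij c) := lvU_mul hA (isUT_elem hij c)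
      rw [e, lvU_elem hij c]
      exact T.mul_mem (hPA hA) (h hij c)
  exact key A hA hA

end Cfsg.Agent.Lib.Helper86_S5171_SC_LEVI_B
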