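import Mathlib
import Cfsg.Prelude.Def_FusionSystem

/-!
# A local criterion for the simplicity of the fusion system of a group (helper26): definitions

`FusLocal S Q` collects group-theoretic hypotheses on a Sylow `p`-subgroup `S` of `G` and a subgroup
`Q ≤ S` under which `F_S(G)` is simple:

* `S` has no proper non-trivial strongly closed subgroup;
* `N_G(S)` normalizes `Q`, `C_G(Q) ≤ S`, and `N_G(S)` lies in the subgroup generated by the
  `N_G(Q)`-conjugates of `S`.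
-/

set_option autoImplicit false

namespace Cfsg.Agent.Lib.Helper26_FusLocal

/-- Local hypotheses for the simplicity of `F_S(G)`. -/
def FusLocal {G : Type*} [Group G] (S Q : Subgroup G) : Prop :=
  S ≠ ⊥ ∧
  (∀ T : Subgroup G, T ≤ S → T ≠ ⊥ →
    (∀ t ∈ T, ∀ g : G, g * t * g⁻¹ ∈ S → g * t * g⁻¹ ∈ T) → T = S) ∧
  Q ≤ S ∧
  (∀ n : G, (∀ s ∈ S, n * s * n⁻¹ ∈ S) → ∀ q ∈ Q, n * q * n⁻¹ ∈ Q) ∧
  (∀ c : G, (∀ q ∈ Q, c * q = q * c) → c ∈ S) ∧
  (∀ n : G, (∀ s ∈ S, n * s * n⁻¹ ∈ S) →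
    n ∈ Subgroup.closure {x : G | ∃ m : G, (∀ q ∈ Q, m * q * m⁻¹ ∈ Q) ∧
      ∃ s ∈ S, x = m * s * m⁻¹})

end Cfsg.Agent.Lib.Helper26_FusLocal
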