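import Cfsg.Prelude.Def_FusionSystem

set_option autoImplicit false

namespace Cfsg.Agent.Lib.Helper84_Fusion

open Cfsg Cfsg.FusionSystem

variable {Ω : Type*} [Group Ω] {S : Subgroup Ω}

theorem conjHom_apply (P : Subgroup Ω) (g : Ω) (x : P) : conjHom P g x = g * (x : Ω) * g⁻¹ := rfl

theorem conjHom_one (P : Subgroup Ω) : conjHom P 1 = P.subtype := by
  ext x; simp [conjHom_apply]

/-- The inclusion of a subgroup of `S` is a map of the system. -/
theorem subtype_mem (F : FusionSystem S) {P : Subgroup Ω} (hP : P ≤ S) : P.subtype ∈ F.Hom P := by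
  have := F.conj_mem (g := 1) hP S.one_mem
  rwa [conjHom_one] at this

/-- Restriction of a map of the system to a smaller subgroup. -/
theorem restrict_mem (F : FusionSystem S) {P R : Subgroup Ω} {φ : P →* Ω} (hφ : φ ∈ F.Hom P)
    (hRP : R ≤ P) : φ.comp (Subgroup.inclusion hRP) ∈ F.Hom R := by
  have hR : R ≤ S := hRP.trans (F.le_of_mem hφ).1
  have h1 := subtype_mem F hR
  exact F.comp_mem h1 hφ (fun x => hRP x.2)


/-- The defining set of `extender`. -/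
def extenderSet (S P : Subgroup Ω) (φ : P →* Ω) : Set Ω :=
  {g : Ω | g ∈ S ∧ g ∈ Subgroup.normalizer (P : Set Ω) ∧
    ∃ h ∈ S, ∀ (x : P) (hx : g * (x : Ω) * g⁻¹ ∈ P), φ ⟨g * x * g⁻¹, hx⟩ = h * φ x * h⁻¹}

theorem extender_eq_closure (S P : Subgroup Ω) (φ : P →* Ω) :
    extender S P φ = Subgroup.closure (extenderSet S P φ) := rfl

theorem subset_extender (S P : Subgroup Ω) (φ : P →* Ω) : extenderSet S P φ ⊆ extender S P φ :=
  Subgroup.subset_closure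

theorem centralizerIn_le_extender (S P : Subgroup Ω) (φ : P →* Ω) :
    centralizerIn S P ≤ extender S P φ := by
  intro g hg
  apply subset_extender
  obtain ⟨hgS, hgC⟩ := hg
  have hcomm : ∀ x : P, g * (x : Ω) * g⁻¹ = x := by
    intro x
    have := hgC x x.2
    rw [← this, mul_inv_cancel_right]
  refine ⟨hgS, ?_, 1, S.one_mem, ?_⟩
  · intro n
    constructor
    · intro hn
      have := hcomm ⟨n, hn⟩
      simp only at this
      rw [this]; exact hn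
    · intro hn
      have h2 : g⁻¹ * (g * n * g⁻¹) * g = n := by group
      have := hcomm ⟨g * n * g⁻¹, hn⟩
      simp only at this
      have h3 : g * n * g⁻¹ = n := by
        have h4 : g * (g * n * g⁻¹) * g⁻¹ = g * n * g⁻¹ := this
        have : g * n * g⁻¹ = g⁻¹ * (g * (g * n * g⁻¹) * g⁻¹) * g := by group
        rw [this, h4]; group
      rw [← h3]; exact hn
  · intro x hx
    simp only [one_mul, inv_one, mul_one]
    congr 1
    exact Subtype.ext (hcomm x)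


/-- Every map of the system has an inverse (from its image) in the system. -/
theorem exists_inverse (F : FusionSystem S) {P Q : Subgroup Ω} {φ : P →* Ω} (hφ : φ ∈ F.Hom P)
    (hQ : φ.range = Q) :
    ∃ ψ ∈ F.Hom Q, ψ.range = P ∧ (∀ (x : P) (h : φ x ∈ Q), ψ ⟨φ x, h⟩ = x) ∧
      (∀ (y : Q) (h : ψ y ∈ P), φ ⟨ψ y, h⟩ = y) := by
  subst hQ
  obtain ⟨ψ, hψ, h⟩ := F.inv_mem hφ
  refine ⟨ψ, hψ, ?_, fun x _ => h x, ?_⟩
  · ext y
    constructor
    · rintro ⟨⟨_, x, rfl⟩, rfl⟩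
      rw [h]; exact x.2
    · intro hy
      exact ⟨⟨φ ⟨y, hy⟩, ⟨_, rfl⟩⟩, h ⟨y, hy⟩⟩
  · rintro ⟨_, x, rfl⟩ hx
    congr 1
    exact Subtype.ext (h x)

theorem isConj_refl (F : FusionSystem S) {P : Subgroup Ω} (hP : P ≤ S) : F.IsConj P P :=
  ⟨P.subtype, subtype_mem F hP, Subgroup.range_subtype P⟩

theorem isConj_symm (F : FusionSystem S) {P Q : Subgroup Ω} (h : F.IsConj P Q) : F.IsConj Q P := by
  obtain ⟨φ, hφ, hQ⟩ := h
  obtain ⟨ψ, hψ, hr, -, -⟩ := exists_inverse F hφ hQ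
  exact ⟨ψ, hψ, hr⟩

theorem isConj_trans (F : FusionSystem S) {P Q R : Subgroup Ω} (h₁ : F.IsConj P Q)
    (h₂ : F.IsConj Q R) : F.IsConj P R := by
  obtain ⟨φ, hφ, hQ⟩ := h₁
  obtain ⟨ψ, hψ, hR⟩ := h₂
  have hφQ : ∀ x : P, φ x ∈ Q := fun x => hQ ▸ ⟨x, rfl⟩
  refine ⟨ψ.comp (φ.codRestrict Q hφQ), F.comp_mem hφ hψ hφQ, ?_⟩
  rw [← hR]
  ext y
  constructor
  · rintro ⟨x, rfl⟩
    exact ⟨_, rfl⟩
  · rintro ⟨⟨y, hy⟩, rfl⟩
    rw [← hQ] at hy
    obtain ⟨x, rfl⟩ := hy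
    exact ⟨x, rfl⟩

theorem isConj_le_left (F : FusionSystem S) {P Q : Subgroup Ω} (h : F.IsConj P Q) : P ≤ S := by
  obtain ⟨φ, hφ, -⟩ := h
  exact (F.le_of_mem hφ).1

theorem isConj_le_right (F : FusionSystem S) {P Q : Subgroup Ω} (h : F.IsConj P Q) : Q ≤ S := by
  obtain ⟨φ, hφ, rfl⟩ := h
  rintro _ ⟨x, rfl⟩
  exact (F.le_of_mem hφ).2 x

theorem mem_S_of_mem (F : FusionSystem S) {P : Subgroup Ω} {φ : P →* Ω} (hφ : φ ∈ F.Hom P) (x : P) :
    φ x ∈ S := (F.le_of_mem hφ).2 x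

theorem le_S_of_mem (F : FusionSystem S) {P : Subgroup Ω} {φ : P →* Ω} (hφ : φ ∈ F.Hom P) :
    P ≤ S := (F.le_of_mem hφ).1

/-- `P ≤ N_φ` for a map `φ` with values in `S`. -/
theorem le_extender (S P : Subgroup Ω) (φ : P →* Ω) (hP : P ≤ S) (hφ : ∀ x : P, φ x ∈ S) :
    P ≤ extender S P φ := by
  intro g hg
  apply subset_extender
  refine ⟨hP hg, Subgroup.le_normalizer hg, φ ⟨g, hg⟩, hφ _, ?_⟩
  intro x hx
  rw [← map_inv, ← map_mul, ← map_mul]
  rfl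

end Cfsg.Agent.Lib.Helper84_Fusion
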