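import Cfsg.Agent.Lib.Helper84_FusionSat
import Cfsg.Agent.S5078

/-!
Fusion systems: Roberts–Shpectorov type lemmas (helper84). Given a fully automized and receptive
subgroup `P`, every fully centralized conjugate is receptive, and every fully normalized conjugate
is fully automized and receptive.
-/

set_option autoImplicit false

namespace Cfsg.Agent.Lib.Helper84_FusionRS

open Cfsg Cfsg.FusionSystem Cfsg.Agent.Lib.Helper85_Fusion Cfsg.Agent.Lib.Helper84_RelSylow
  Cfsg.Agent.Lib.Helper84_FusionSat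

variable {Ω : Type*} [Group Ω] {S : Subgroup Ω}

/-- The defining set of `N_φ` is already a subgroup. -/
theorem mem_extender_iff {P : Subgroup Ω} (φ : P →* Ω) (g : Ω) :
    g ∈ extender S P φ ↔ g ∈ S ∧ g ∈ Subgroup.normalizer (P : Set Ω) ∧
      ∃ h ∈ S, ∀ (x : P) (hx : g * (x : Ω) * g⁻¹ ∈ P), φ ⟨g * x * g⁻¹, hx⟩ = h * φ x * h⁻¹ := by
  constructor
  · intro hg
    unfold extender at hg
    induction hg using Subgroup.closure_induction with
    | mem x hx => exact hx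
    | one =>
      refine ⟨S.one_mem, Subgroup.one_mem _, 1, S.one_mem, fun x hx => ?_⟩
      simp
    | mul a b _ _ ha hb =>
      obtain ⟨haS, haN, h₁, hh₁, ha'⟩ := ha
      obtain ⟨hbS, hbN, h₂, hh₂, hb'⟩ := hb
      refine ⟨S.mul_mem haS hbS, Subgroup.mul_mem _ haN hbN, h₁ * h₂, S.mul_mem hh₁ hh₂, fun x hx => ?_⟩
      have hbx : b * (x : Ω) * b⁻¹ ∈ P := (hbN x).mp x.2
      have hax : a * (b * (x : Ω) * b⁻¹) * a⁻¹ ∈ P := (haN _).mp hbx
      have e1 := ha' ⟨b * (x : Ω) * b⁻¹, hbx⟩ hax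
      have e2 := hb' x hbx
      have e3 : (⟨a * b * (x : Ω) * (a * b)⁻¹, hx⟩ : P) = ⟨a * (b * (x : Ω) * b⁻¹) * a⁻¹, hax⟩ := by
        apply Subtype.ext
        show a * b * (x : Ω) * (a * b)⁻¹ = a * (b * (x : Ω) * b⁻¹) * a⁻¹
        group
      rw [e3, e1, e2]
      group
    | inv a _ ha =>
      obtain ⟨haS, haN, h₁, hh₁, ha'⟩ := ha
      refine ⟨S.inv_mem haS, Subgroup.inv_mem _ haN, h₁⁻¹, S.inv_mem hh₁, fun x hx => ?_⟩
      have hax : a * (a⁻¹ * (x : Ω) * a⁻¹⁻¹) * a⁻¹ ∈ P := by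
        have : a * (a⁻¹ * (x : Ω) * a⁻¹⁻¹) * a⁻¹ = x := by group
        rw [this]; exact x.2
      have e1 := ha' ⟨a⁻¹ * (x : Ω) * a⁻¹⁻¹, hx⟩ hax
      have e3 : (⟨a * (a⁻¹ * (x : Ω) * a⁻¹⁻¹) * a⁻¹, hax⟩ : P) = x := by
        apply Subtype.ext
        show a * (a⁻¹ * (x : Ω) * a⁻¹⁻¹) * a⁻¹ = x
        group
      rw [e3] at e1
      rw [e1]
      group
  · intro hg
    exact Subgroup.subset_closure hg

theorem extender_le' {P : Subgroup Ω} (φ : P →* Ω) : extender S P φ ≤ S :=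
  fun _ hg => ((mem_extender_iff φ _).1 hg).1

theorem extender_le_normalizerIn {P : Subgroup Ω} (φ : P →* Ω) : extender S P φ ≤ normalizerIn S P :=
  fun _ hg => ⟨((mem_extender_iff φ _).1 hg).1, ((mem_extender_iff φ _).1 hg).2.1⟩

theorem finite_of_le_S [Finite S] {P : Subgroup Ω} (hP : P ≤ S) : Finite P :=
  Finite.of_injective (Subgroup.inclusion hP) (Subgroup.inclusion_injective hP)

theorem centralizerIn_le_normalizerIn (S Q : Subgroup Ω) : centralizerIn S Q ≤ normalizerIn S Q :=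
  inf_le_inf_left S (Subgroup.centralizer_le_normalizer _)

/-- A map `φ` on `N_S(Q)` that carries `Q` onto `P` maps `C_S(Q)` into `C_S(P)`. -/
theorem map_centralizerIn_le (F : FusionSystem S) {P Q : Subgroup Ω} {φ : normalizerIn S Q →* Ω}
    (hφ : φ ∈ F.Hom (normalizerIn S Q)) (hQP : (Q.subgroupOf (normalizerIn S Q)).map φ = P)
    (c : Ω) (hc : c ∈ centralizerIn S Q) :
    φ ⟨c, centralizerIn_le_normalizerIn S Q hc⟩ ∈ centralizerIn S P := by
  refine ⟨apply_mem F hφ _, ?_⟩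
  show _ ∈ Subgroup.centralizer (P : Set Ω)
  rw [Subgroup.mem_centralizer_iff]
  intro y hy
  rw [SetLike.mem_coe, ← hQP] at hy
  obtain ⟨x, hx, rfl⟩ := hy
  rw [SetLike.mem_coe, Subgroup.mem_subgroupOf] at hx
  rw [← map_mul, ← map_mul]
  congr 1
  apply Subtype.ext
  exact hc.2 x hx

/-- If `Q` is fully centralized, then `φ(C_S(Q)) = C_S(P)`. -/
theorem exists_preimage_centralizerIn [Finite S] (F : FusionSystem S) {P Q : Subgroup Ω}
    {φ : normalizerIn S Q →* Ω}
    (hφ : φ ∈ F.Hom (normalizerIn S Q)) (hQP : (Q.subgroupOf (normalizerIn S Q)).map φ = P)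
    (hcard : Nat.card (centralizerIn S P) ≤ Nat.card (centralizerIn S Q))
    (c : Ω) (hc : c ∈ centralizerIn S P) :
    ∃ d, ∃ hd : d ∈ centralizerIn S Q, φ ⟨d, centralizerIn_le_normalizerIn S Q hd⟩ = c := by
  have : Finite (centralizerIn S P) := finite_of_le_S inf_le_left
  have : Finite (centralizerIn S Q) := finite_of_le_S inf_le_left
  let f : centralizerIn S Q → centralizerIn S P := fun d =>
    ⟨φ ⟨d, centralizerIn_le_normalizerIn S Q d.2⟩, map_centralizerIn_le F hφ hQP d d.2⟩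
  have hf : Function.Injective f := by
    intro a b hab
    have h1 : φ ⟨a, centralizerIn_le_normalizerIn S Q a.2⟩ =
        φ ⟨b, centralizerIn_le_normalizerIn S Q b.2⟩ := congrArg Subtype.val hab
    have h2 := F.injective_of_mem hφ h1
    exact Subtype.ext (congrArg (fun s : normalizerIn S Q => (s : Ω)) h2)
  have hbij : Function.Bijective f := hf.bijective_of_nat_card_le hcard
  obtain ⟨d, hd⟩ := hbij.2 ⟨c, hc⟩
  exact ⟨d, d.2, congrArg Subtype.val hd⟩

/-- If `ψ : R → Q` is an isomorphism of the system and `g ∈ N_ψ`, the element `h ∈ S` realizing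
`ψ c_g ψ⁻¹` on `Q` normalizes `Q`. -/
theorem exists_normalizerIn_of_mem_extender {R Q : Subgroup Ω} (ψ : R →* Ω) (hψr : ψ.range = Q)
    {g : Ω} (hg : g ∈ extender S R ψ) :
    ∃ h ∈ normalizerIn S Q, ∀ (x : R) (hx : g * (x : Ω) * g⁻¹ ∈ R),
      ψ ⟨g * x * g⁻¹, hx⟩ = h * ψ x * h⁻¹ := by
  obtain ⟨hgS, hgN, h, hhS, hh⟩ := (mem_extender_iff ψ g).1 hg
  refine ⟨h, ⟨hhS, ?_⟩, hh⟩
  intro y
  constructor
  · intro hy
    rw [SetLike.mem_coe, ← hψr] at hy
    obtain ⟨x, rfl⟩ := hy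
    have hx : g * (x : Ω) * g⁻¹ ∈ R := (hgN x).mp x.2
    rw [SetLike.mem_coe, ← hh x hx, ← hψr]
    exact ⟨_, rfl⟩
  · intro hy
    rw [SetLike.mem_coe, ← hψr] at hy
    obtain ⟨x', hx'⟩ := hy
    have hx : g⁻¹ * (x' : Ω) * g ∈ R := (Subgroup.mem_normalizer_iff''.mp hgN x').mp x'.2
    have hx2 : g * ((⟨g⁻¹ * (x' : Ω) * g, hx⟩ : R) : Ω) * g⁻¹ ∈ R := by
      have : g * (g⁻¹ * (x' : Ω) * g) * g⁻¹ = x' := by group
      show g * (g⁻¹ * (x' : Ω) * g) * g⁻¹ ∈ R
      rw [this]; exact x'.2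
    have e1 := hh ⟨g⁻¹ * (x' : Ω) * g, hx⟩ hx2
    have e2 : (⟨g * ((⟨g⁻¹ * (x' : Ω) * g, hx⟩ : R) : Ω) * g⁻¹, hx2⟩ : R) = x' := by
      apply Subtype.ext
      show g * (g⁻¹ * (x' : Ω) * g) * g⁻¹ = x'
      group
    rw [e2, hx'] at e1
    have e3 : y = ψ ⟨g⁻¹ * (x' : Ω) * g, hx⟩ := mul_left_cancel (mul_right_cancel e1)
    rw [SetLike.mem_coe, e3, ← hψr]
    exact ⟨_, rfl⟩

/-- **Roberts–Shpectorov, receptivity**: if `P` is fully automized and receptive, every fully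
centralized conjugate `Q` of `P` is receptive. -/
theorem isReceptive_of_isFullyCentralized [Finite S] {p : ℕ} [Fact p.Prime] (hS : IsPGroup p S)
    (F : FusionSystem S) {P Q : Subgroup Ω} (h₁ : F.IsFullyAutomized p P) (h₂ : F.IsReceptive P)
    (hQP : F.IsConj Q P) (hQ : F.IsFullyCentralized Q) : F.IsReceptive Q := by
  obtain ⟨φ, hφ, hφN, hφQ⟩ := exists_normalizer_map hS F h₁ h₂ hQP
  have hQS : Q ≤ S := hQ.1
  have hQN : Q ≤ normalizerIn S Q := le_inf hQS Subgroup.le_normalizer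
  have hcard : Nat.card (centralizerIn S P) ≤ Nat.card (centralizerIn S Q) := hQ.2 P hQP
  refine ⟨hQS, ?_⟩
  intro R ψ hψ hψr
  have hRS : R ≤ S := source_le F hψ
  have hψQ : ∀ x : R, ψ x ∈ Q := fun x => hψr ▸ ⟨x, rfl⟩
  have hψN : ∀ x : R, ψ x ∈ normalizerIn S Q := fun x => hQN (hψQ x)
  have hθ := F.comp_mem hψ hφ hψN
  set θ : R →* Ω := φ.comp (ψ.codRestrict _ hψN) with hθdef
  have hθapply : ∀ x : R, θ x = φ ⟨ψ x, hψN x⟩ := fun x => rfl
  have hθr : θ.range = P := by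
    rw [← hφQ]
    ext y
    constructor
    · rintro ⟨x, rfl⟩
      refine ⟨ψ.codRestrict _ hψN x, ?_, rfl⟩
      rw [SetLike.mem_coe, Subgroup.mem_subgroupOf]
      exact hψQ x
    · rintro ⟨z, hz, rfl⟩
      rw [SetLike.mem_coe, Subgroup.mem_subgroupOf] at hz
      have hz' : (z : Ω) ∈ ψ.range := hψr ▸ hz
      obtain ⟨x, hx⟩ := hz'
      refine ⟨x, ?_⟩
      rw [hθapply]
      congr 1
      exact Subtype.ext hx
  obtain ⟨χ, hχ, hχθ⟩ := h₂.2 R θ hθ hθr
  have hRNθ : R ≤ extender S R θ :=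
    Helper84_Fusion.le_extender S R θ hRS (fun x => apply_mem F hθ x)
  -- N_ψ ≤ N_θ
  have hle : extender S R ψ ≤ extender S R θ := by
    intro g hg
    obtain ⟨h, hhN, hh⟩ := exists_normalizerIn_of_mem_extender ψ hψr hg
    obtain ⟨hgS, hgN, -⟩ := (mem_extender_iff ψ g).1 hg
    apply Helper84_Fusion.subset_extender
    refine ⟨hgS, hgN, φ ⟨h, hhN⟩, apply_mem F hφ _, fun x hx => ?_⟩
    rw [hθapply, hθapply, ← map_inv, ← map_mul, ← map_mul]
    congr 1
    apply Subtype.ext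
    exact hh x hx
  -- χ(N_ψ) ≤ φ(N_S(Q))
  have hW : ∀ g : extender S R ψ, (χ.comp (Subgroup.inclusion hle)) g ∈ φ.range := by
    intro g
    obtain ⟨h, hhN, hh⟩ := exists_normalizerIn_of_mem_extender ψ hψr g.2
    obtain ⟨hgS, hgN, -⟩ := (mem_extender_iff ψ g).1 g.2
    -- c = φ(h)⁻¹ χ(g) ∈ C_S(P)
    have hc : (φ ⟨h, hhN⟩)⁻¹ * χ (Subgroup.inclusion hle g) ∈ centralizerIn S P := by
      refine ⟨S.mul_mem (S.inv_mem (apply_mem F hφ _)) (apply_mem F hχ _), ?_⟩
      show _ ∈ Subgroup.centralizer (P : Set Ω)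
      rw [Subgroup.mem_centralizer_iff]
      intro y hy
      rw [SetLike.mem_coe, ← hθr] at hy
      obtain ⟨x, rfl⟩ := hy
      have hx : (g : Ω) * (x : Ω) * (g : Ω)⁻¹ ∈ R := (hgN x).mp x.2
      have e1 : θ ⟨(g : Ω) * x * (g : Ω)⁻¹, hx⟩ = φ ⟨h, hhN⟩ * θ x * (φ ⟨h, hhN⟩)⁻¹ := by
        rw [hθapply, hθapply, ← map_inv, ← map_mul, ← map_mul]
        congr 1
        apply Subtype.ext
        exact hh x hx
      have e2 : θ ⟨(g : Ω) * x * (g : Ω)⁻¹, hx⟩ =
          χ (Subgroup.inclusion hle g) * θ x * (χ (Subgroup.inclusion hle g))⁻¹ := by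
        rw [← hχθ _ hx (hRNθ hx), ← hχθ x x.2 (hRNθ x.2), ← map_inv, ← map_mul, ← map_mul]
        rfl
      rw [e1] at e2
      -- φh θx φh⁻¹ = χg θx χg⁻¹
      calc θ x * ((φ ⟨h, hhN⟩)⁻¹ * χ (Subgroup.inclusion hle g))
          = (φ ⟨h, hhN⟩)⁻¹ * (φ ⟨h, hhN⟩ * θ x * (φ ⟨h, hhN⟩)⁻¹) * χ (Subgroup.inclusion hle g) := by
            group
        _ = (φ ⟨h, hhN⟩)⁻¹ * (χ (Subgroup.inclusion hle g) * θ x * (χ (Subgroup.inclusion hle g))⁻¹) *
              χ (Subgroup.inclusion hle g) := by rw [e2]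
        _ = (φ ⟨h, hhN⟩)⁻¹ * χ (Subgroup.inclusion hle g) * θ x := by group
    obtain ⟨d, hd, hdc⟩ := exists_preimage_centralizerIn F hφ hφQ hcard _ hc
    refine ⟨⟨h, hhN⟩ * ⟨d, centralizerIn_le_normalizerIn S Q hd⟩, ?_⟩
    rw [map_mul, hdc]
    show _ = χ (Subgroup.inclusion hle g)
    group
  obtain ⟨φinv, hφinv, -, hφinv1, -⟩ := Helper84_Fusion.exists_inverse F hφ rfl
  have hfinal := F.comp_mem (restrict_mem F hle hχ) hφinv hW
  refine ⟨_, hfinal, ?_⟩
  intro x hxR hxN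
  show φinv ⟨χ (Subgroup.inclusion hle ⟨x, hxN⟩), hW ⟨x, hxN⟩⟩ = ψ ⟨x, hxR⟩
  have e1 : χ (Subgroup.inclusion hle ⟨x, hxN⟩) = φ ⟨ψ ⟨x, hxR⟩, hψN ⟨x, hxR⟩⟩ :=
    hχθ x hxR (hle hxN)
  have e2 : φinv ⟨φ ⟨ψ ⟨x, hxR⟩, hψN ⟨x, hxR⟩⟩, ⟨_, rfl⟩⟩ = ψ ⟨x, hxR⟩ :=
    hφinv1 ⟨ψ ⟨x, hxR⟩, hψN ⟨x, hxR⟩⟩ ⟨_, rfl⟩
  rw [← e2]
  congr 1
  exact Subtype.ext e1

/-- If conjugation by `g` restricts to an automorphism `α` of `Q`, then `g` normalizes `Q`. -/
theorem mem_normalizer_of_aut {Q : Subgroup Ω} (α : MulAut Q) (g : Ω)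
    (h : ∀ x : Q, ((α x : Q) : Ω) = g * x * g⁻¹) : g ∈ Subgroup.normalizer (Q : Set Ω) := by
  intro y
  constructor
  · intro hy
    have := h ⟨y, hy⟩
    simp only at this
    rw [← this]
    exact (α ⟨y, hy⟩).2
  · intro hy
    have h1 := h (α⁻¹ ⟨g * y * g⁻¹, hy⟩)
    rw [MulAut.apply_inv_self] at h1
    simp only at h1
    have h2 : y = ((α⁻¹ ⟨g * y * g⁻¹, hy⟩ : Q) : Ω) :=
      mul_left_cancel (mul_right_cancel h1)
    rw [SetLike.mem_coe, h2]
    exact (α⁻¹ ⟨g * y * g⁻¹, hy⟩).2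

/-- An isomorphism `e : Q ≃* P` of subgroups is an isomorphism of the system. -/
def IsIso (F : FusionSystem S) {Q P : Subgroup Ω} (e : Q ≃* P) : Prop :=
  P.subtype.comp e.toMonoidHom ∈ F.Hom Q

theorem range_subtype_comp_equiv {Q P : Subgroup Ω} (e : Q ≃* P) :
    (P.subtype.comp e.toMonoidHom).range = P := by
  ext y
  constructor
  · rintro ⟨x, rfl⟩
    exact (e x).2
  · intro hy
    exact ⟨e.symm ⟨y, hy⟩, by simp⟩

theorem isoOfRange_subtype_comp_equiv {Q P : Subgroup Ω} (e : Q ≃* P)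
    (hinj : Function.Injective (P.subtype.comp e.toMonoidHom)) :
    isoOfRange (P.subtype.comp e.toMonoidHom) hinj (range_subtype_comp_equiv e) = e := by
  ext x
  rfl

theorem isIso_isoOfRange (F : FusionSystem S) {Q P : Subgroup Ω} {φ : Q →* Ω} (hφ : φ ∈ F.Hom Q)
    (hr : φ.range = P) : IsIso F (isoOfRange φ (F.injective_of_mem hφ) hr) :=
  mem_of_eq F hφ (fun _ => rfl)

theorem IsIso.symm {F : FusionSystem S} {Q P : Subgroup Ω} {e : Q ≃* P} (h : IsIso F e) :
    IsIso F e.symm := by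
  obtain ⟨ψ, hψ, -, hψ1, -⟩ := Helper84_Fusion.exists_inverse F h (range_subtype_comp_equiv e)
  refine mem_of_eq F hψ (fun y => ?_)
  have := hψ1 (e.symm y) (by simp)
  simp only [MonoidHom.coe_comp, Subgroup.coe_subtype, MulEquiv.coe_toMonoidHom, Function.comp_apply,
    MulEquiv.apply_symm_apply] at this
  exact this.symm

theorem IsIso.congr_mem_autGroup {F : FusionSystem S} {Q P : Subgroup Ω} {e : Q ≃* P} (h : IsIso F e)
    {α : MulAut Q} (hα : α ∈ F.autGroup Q) : MulAut.congr e α ∈ F.autGroup P := by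
  have := Helper84_FusionSat.congr_mem_autGroup F h (range_subtype_comp_equiv e) hα
  rwa [isoOfRange_subtype_comp_equiv] at this

theorem IsIso.map_autGroup {F : FusionSystem S} {Q P : Subgroup Ω} {e : Q ≃* P} (h : IsIso F e) :
    (F.autGroup Q).map (MulAut.congr e).toMonoidHom = F.autGroup P := by
  apply le_antisymm
  · rintro _ ⟨α, hα, rfl⟩
    exact h.congr_mem_autGroup hα
  · intro β hβ
    refine ⟨MulAut.congr e.symm β, h.symm.congr_mem_autGroup hβ, ?_⟩
    ext y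
    simp

/-- If `Q` is fully normalized, then `φ(N_S(Q)) = N_S(P)`. -/
theorem exists_preimage_normalizerIn [Finite S] (F : FusionSystem S) {P Q : Subgroup Ω}
    {φ : normalizerIn S Q →* Ω} (hφ : φ ∈ F.Hom (normalizerIn S Q))
    (hφN : ∀ x, φ x ∈ normalizerIn S P)
    (hcard : Nat.card (normalizerIn S P) ≤ Nat.card (normalizerIn S Q))
    (h : Ω) (hh : h ∈ normalizerIn S P) : ∃ g : normalizerIn S Q, φ g = h := by
  have : Finite (normalizerIn S P) := finite_of_le_S inf_le_left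
  have : Finite (normalizerIn S Q) := finite_of_le_S inf_le_left
  let f : normalizerIn S Q → normalizerIn S P := fun g => ⟨φ g, hφN g⟩
  have hf : Function.Injective f := by
    intro a b hab
    exact F.injective_of_mem hφ (congrArg Subtype.val hab)
  have hbij : Function.Bijective f := hf.bijective_of_nat_card_le hcard
  obtain ⟨g, hg⟩ := hbij.2 ⟨h, hh⟩
  exact ⟨g, congrArg Subtype.val hg⟩

/-- **Roberts–Shpectorov**: if `P` is fully automized and receptive, every fully normalized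
conjugate `Q` of `P` is fully centralized. -/
theorem isFullyCentralized_of_isFullyNormalized [Finite S] {p : ℕ} [Fact p.Prime] (hS : IsPGroup p S)
    (F : FusionSystem S) {P Q : Subgroup Ω} (h₁ : F.IsFullyAutomized p P) (h₂ : F.IsReceptive P)
    (hQP : F.IsConj Q P) (hQ : F.IsFullyNormalized Q) : F.IsFullyCentralized Q := by
  obtain ⟨φ, hφ, hφN, hφQ⟩ := exists_normalizer_map hS F h₁ h₂ hQP
  have hQS : Q ≤ S := hQ.1
  have hQN : Q ≤ normalizerIn S Q := le_inf hQS Subgroup.le_normalizer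
  have hcard : Nat.card (normalizerIn S P) ≤ Nat.card (normalizerIn S Q) := hQ.2 P hQP
  have hPfc : F.IsFullyCentralized P := Cfsg.Agent.S5078.result F P h₂
  refine ⟨hQS, fun R hQR => ?_⟩
  have hPR : F.IsConj P R := isConj_trans F (isConj_symm F hQP) hQR
  refine (hPfc.2 R hPR).trans ?_
  -- |C_S(P)| ≤ |C_S(Q)|
  have : Finite (centralizerIn S Q) := finite_of_le_S inf_le_left
  have hpre : ∀ c : centralizerIn S P, ∃ g : normalizerIn S Q, φ g = c := fun c =>
    exists_preimage_normalizerIn F hφ hφN hcard c (centralizerIn_le_normalizerIn S P c.2)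
  choose d hd using hpre
  have hdC : ∀ c : centralizerIn S P, ((d c : normalizerIn S Q) : Ω) ∈ centralizerIn S Q := by
    intro c
    refine ⟨(d c).2.1, ?_⟩
    show _ ∈ Subgroup.centralizer (Q : Set Ω)
    rw [Subgroup.mem_centralizer_iff]
    intro x hx
    have hφx : φ ⟨x, hQN hx⟩ ∈ P := by
      rw [← hφQ]
      exact ⟨⟨x, hQN hx⟩, by rw [SetLike.mem_coe, Subgroup.mem_subgroupOf]; exact hx, rfl⟩
    have hcomm := Subgroup.mem_centralizer_iff.mp c.2.2 _ hφx
    have e1 : φ (⟨x, hQN hx⟩ * d c) = φ (d c * ⟨x, hQN hx⟩) := by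
      rw [map_mul, map_mul, hd]
      exact hcomm
    have e2 := F.injective_of_mem hφ e1
    exact congrArg (fun s : normalizerIn S Q => (s : Ω)) e2
  apply Nat.card_le_card_of_injective (fun c : centralizerIn S P => (⟨d c, hdC c⟩ : centralizerIn S Q))
  intro a b hab
  have h1 : ((d a : normalizerIn S Q) : Ω) = d b :=
    congrArg (fun s : centralizerIn S Q => (s : Ω)) hab
  have h2 : d a = d b := Subtype.ext h1
  apply Subtype.ext
  rw [← hd a, ← hd b, h2]

/-- A relative Sylow statement gives full automization. -/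
theorem isFullyAutomized_of_isSylowIn {p : ℕ} [Fact p.Prime] (F : FusionSystem S) {Q : Subgroup Ω}
    (hQS : Q ≤ S) (h : IsSylowIn p (autInducedBy S Q) (F.autGroup Q)) : F.IsFullyAutomized p Q :=
  ⟨hQS, h.toSylow, h.coe_toSylow⟩

/-- **Roberts–Shpectorov**: if `P` is fully automized and receptive, every fully normalized
conjugate `Q` of `P` is fully automized. -/
theorem isFullyAutomized_of_isFullyNormalized [Finite S] {p : ℕ} [Fact p.Prime] (hS : IsPGroup p S)
    (F : FusionSystem S) {P Q : Subgroup Ω} (h₁ : F.IsFullyAutomized p P) (h₂ : F.IsReceptive P)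
    (hQP : F.IsConj Q P) (hQ : F.IsFullyNormalized Q) : F.IsFullyAutomized p Q := by
  obtain ⟨φ, hφ, hφN, hφQ⟩ := exists_normalizer_map hS F h₁ h₂ hQP
  have hQS : Q ≤ S := hQ.1
  have hPS : P ≤ S := h₁.1
  have hQN : Q ≤ normalizerIn S Q := le_inf hQS Subgroup.le_normalizer
  have hcard : Nat.card (normalizerIn S P) ≤ Nat.card (normalizerIn S Q) := hQ.2 P hQP
  have : Finite P := finite_of_le_S hPS
  -- the isomorphism e : Q ≃* P
  have hφQmem := restrict_mem F hQN hφ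
  have hφQr : (φ.comp (Subgroup.inclusion hQN)).range = P := by
    rw [← hφQ]
    ext y
    constructor
    · rintro ⟨x, rfl⟩
      exact ⟨Subgroup.inclusion hQN x, by rw [SetLike.mem_coe, Subgroup.mem_subgroupOf]; exact x.2, rfl⟩
    · rintro ⟨z, hz, rfl⟩
      rw [SetLike.mem_coe, Subgroup.mem_subgroupOf] at hz
      exact ⟨⟨z, hz⟩, rfl⟩
  set e := isoOfRange _ (F.injective_of_mem hφQmem) hφQr with he
  have heiso : IsIso F e := isIso_isoOfRange F hφQmem hφQr
  have heapply : ∀ x : Q, ((e x : P) : Ω) = φ ⟨x, hQN x.2⟩ := fun x => rfl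
  have hsyl := (isSylowIn_of_isFullyAutomized F h₁).map_of_injective
    (MulAut.congr e.symm).toMonoidHom (MulAut.congr e.symm).injective
  rw [heiso.symm.map_autGroup] at hsyl
  -- Aut_S(P) is carried onto Aut_S(Q)
  have hmap : (autInducedBy S P).map (MulAut.congr e.symm).toMonoidHom = autInducedBy S Q := by
    apply le_antisymm
    · rintro _ ⟨β, hβ, rfl⟩
      obtain ⟨h, hhS, hh⟩ := (mem_autInducedBy_iff S P β).1 hβ
      have hhN : h ∈ normalizerIn S P := ⟨hhS, mem_normalizer_of_aut β h hh⟩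
      obtain ⟨g, hg⟩ := exists_preimage_normalizerIn F hφ hφN hcard h hhN
      rw [mem_autInducedBy_iff]
      refine ⟨g, g.2.1, fun x => ?_⟩
      have hx' : (g : Ω) * x * (g : Ω)⁻¹ ∈ Q := (g.2.2 x).mp x.2
      -- apply e to both sides
      have e1 : e ((MulAut.congr e.symm β) x) = e ⟨(g : Ω) * x * (g : Ω)⁻¹, hx'⟩ := by
        apply Subtype.ext
        rw [heapply ⟨(g : Ω) * x * (g : Ω)⁻¹, hx'⟩]
        have e2 : (⟨(g : Ω) * x * (g : Ω)⁻¹, hQN hx'⟩ : normalizerIn S Q) =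
            g * ⟨x, hQN x.2⟩ * g⁻¹ := rfl
        rw [e2, map_mul, map_mul, map_inv, hg, ← heapply x, ← hh (e x)]
        simp
      exact congrArg Subtype.val (e.injective e1)
    · intro α hα
      obtain ⟨g, hgS, hg⟩ := (mem_autInducedBy_iff S Q α).1 hα
      have hgN : g ∈ normalizerIn S Q := ⟨hgS, mem_normalizer_of_aut α g hg⟩
      refine ⟨MulAut.congr e α, ?_, ?_⟩
      · rw [SetLike.mem_coe, mem_autInducedBy_iff]
        refine ⟨φ ⟨g, hgN⟩, apply_mem F hφ _, fun y => ?_⟩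
        obtain ⟨x, rfl⟩ := e.surjective y
        rw [heapply x, ← map_inv, ← map_mul, ← map_mul]
        simp only [MulAut.congr_apply, MulEquiv.trans_apply, MulEquiv.symm_apply_apply]
        rw [heapply]
        congr 1
        apply Subtype.ext
        exact hg x
      · ext x
        simp
  rw [hmap] at hsyl
  exact isFullyAutomized_of_isSylowIn F hQS hsyl

/-- Every subgroup of a finite `S` has a fully normalized conjugate. -/
theorem exists_isFullyNormalized_conj [Finite S] (F : FusionSystem S) {P : Subgroup Ω} (hP : P ≤ S) :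
    ∃ Q, F.IsConj P Q ∧ F.IsFullyNormalized Q := by
  set A : Set ℕ := {n | ∃ Q, F.IsConj P Q ∧ Nat.card (normalizerIn S Q) = n} with hA
  have hne : A.Nonempty := ⟨_, P, isConj_refl F hP, rfl⟩
  have hbdd : BddAbove A := by
    refine ⟨Nat.card S, ?_⟩
    rintro n ⟨Q, -, rfl⟩
    exact Nat.card_le_card_of_injective (Subgroup.inclusion (inf_le_left : normalizerIn S Q ≤ S))
      (Subgroup.inclusion_injective _)
  obtain ⟨Q, hPQ, hQ⟩ := Nat.sSup_mem hne hbdd
  refine ⟨Q, hPQ, isConj_le_right F hPQ, fun R hQR => ?_⟩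
  rw [hQ]
  exact le_csSup hbdd ⟨R, isConj_trans F hPQ hQR, rfl⟩

/-- Every subgroup of a finite `S` has a fully centralized conjugate. -/
theorem exists_isFullyCentralized_conj [Finite S] (F : FusionSystem S) {P : Subgroup Ω} (hP : P ≤ S) :
    ∃ Q, F.IsConj P Q ∧ F.IsFullyCentralized Q := by
  set A : Set ℕ := {n | ∃ Q, F.IsConj P Q ∧ Nat.card (centralizerIn S Q) = n} with hA
  have hne : A.Nonempty := ⟨_, P, isConj_refl F hP, rfl⟩
  have hbdd : BddAbove A := by
    refine ⟨Nat.card S, ?_⟩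
    rintro n ⟨Q, -, rfl⟩
    exact Nat.card_le_card_of_injective (Subgroup.inclusion (inf_le_left : centralizerIn S Q ≤ S))
      (Subgroup.inclusion_injective _)
  obtain ⟨Q, hPQ, hQ⟩ := Nat.sSup_mem hne hbdd
  refine ⟨Q, hPQ, isConj_le_right F hPQ, fun R hQR => ?_⟩
  rw [hQ]
  exact le_csSup hbdd ⟨R, isConj_trans F hPQ hQR, rfl⟩

/-- In a saturated system, fully normalized subgroups are fully centralized. -/
theorem IsSaturated.isFullyCentralized [Finite S] {p : ℕ} [Fact p.Prime] (hS : IsPGroup p S)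
    {F : FusionSystem S} (hF : F.IsSaturated p) {P : Subgroup Ω} (hP : F.IsFullyNormalized P) :
    F.IsFullyCentralized P := by
  obtain ⟨Q, hPQ, hQa, hQr⟩ := hF P hP.1
  exact isFullyCentralized_of_isFullyNormalized hS F hQa hQr hPQ hP

/-- In a saturated system, fully normalized subgroups are fully automized. -/
theorem IsSaturated.isFullyAutomized [Finite S] {p : ℕ} [Fact p.Prime] (hS : IsPGroup p S)
    {F : FusionSystem S} (hF : F.IsSaturated p) {P : Subgroup Ω} (hP : F.IsFullyNormalized P) :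
    F.IsFullyAutomized p P := by
  obtain ⟨Q, hPQ, hQa, hQr⟩ := hF P hP.1
  exact isFullyAutomized_of_isFullyNormalized hS F hQa hQr hPQ hP

/-- In a saturated system, fully centralized subgroups are receptive. -/
theorem IsSaturated.isReceptive [Finite S] {p : ℕ} [Fact p.Prime] (hS : IsPGroup p S)
    {F : FusionSystem S} (hF : F.IsSaturated p) {P : Subgroup Ω} (hP : F.IsFullyCentralized P) :
    F.IsReceptive P := by
  obtain ⟨Q, hPQ, hQa, hQr⟩ := hF P hP.1
  exact isReceptive_of_isFullyCentralized hS F hQa hQr hPQ hP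

/-- In a saturated system, fully normalized subgroups are receptive. -/
theorem IsSaturated.isReceptive_of_isFullyNormalized [Finite S] {p : ℕ} [Fact p.Prime]
    (hS : IsPGroup p S) {F : FusionSystem S} (hF : F.IsSaturated p) {P : Subgroup Ω}
    (hP : F.IsFullyNormalized P) : F.IsReceptive P :=
  IsSaturated.isReceptive hS hF (IsSaturated.isFullyCentralized hS hF hP)

end Cfsg.Agent.Lib.Helper84_FusionRS
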