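import Cfsg.Agent.Lib.Helper85_Fusion

/-!
Group fusion systems `F_S(G)`: relative Sylow subgroups, fully normalized / centralized subgroups,
saturation (helper85). Everything lives in `Cfsg.Agent.Lib.Helper85_GroupFusion`.
-/

set_option autoImplicit false

namespace Cfsg.Agent.Lib.Helper85_GroupFusion

open Cfsg Cfsg.FusionSystem Cfsg.Agent.Lib.Helper85_Fusion

universe u

variable {G : Type u} [Group G]

/-- `H` (or rather `H ⊓ K`) is a Sylow `p`-subgroup of `K`. -/
def IsSylowIn (p : ℕ) (H K : Subgroup G) : Prop :=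
  ∃ R : Sylow p K, (R : Subgroup K) = H.subgroupOf K

/-- Conjugate of a subgroup. -/
abbrev conjSub (g : G) (H : Subgroup G) : Subgroup G := H.map (MulAut.conj g).toMonoidHom

theorem mem_conjSub {g : G} {H : Subgroup G} {x : G} : x ∈ conjSub g H ↔ g⁻¹ * x * g ∈ H := by
  constructor
  · rintro ⟨y, hy, rfl⟩
    show g⁻¹ * (g * y * g⁻¹) * g ∈ H
    have : g⁻¹ * (g * y * g⁻¹) * g = y := by group
    rw [this]
    exact hy
  · intro h
    refine ⟨g⁻¹ * x * g, h, ?_⟩
    show g * (g⁻¹ * x * g) * g⁻¹ = x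
    group

theorem conj_mem_conjSub {g : G} {H : Subgroup G} {x : G} (hx : x ∈ H) : g * x * g⁻¹ ∈ conjSub g H :=
  ⟨x, hx, rfl⟩

theorem card_conjSub (g : G) (H : Subgroup G) : Nat.card (conjSub g H) = Nat.card H := by
  have : conjSub g H = H.map (MulAut.conj g).toMonoidHom := rfl
  exact (Nat.card_congr (H.equivMapOfInjective _ (MulAut.conj g).injective).toEquiv).symm

theorem conjSub_conjSub (g h : G) (H : Subgroup G) : conjSub g (conjSub h H) = conjSub (g * h) H := by
  ext x
  simp only [mem_conjSub]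
  have : h⁻¹ * (g⁻¹ * x * g) * h = (g * h)⁻¹ * x * (g * h) := by group
  rw [this]

theorem conjSub_one (H : Subgroup G) : conjSub 1 H = H := by
  ext x
  simp

theorem conjSub_inv_conjSub (g : G) (H : Subgroup G) : conjSub g⁻¹ (conjSub g H) = H := by
  rw [conjSub_conjSub, inv_mul_cancel, conjSub_one]

theorem conjSub_conjSub_inv (g : G) (H : Subgroup G) : conjSub g (conjSub g⁻¹ H) = H := by
  rw [conjSub_conjSub, mul_inv_cancel, conjSub_one]

theorem conjSub_mono (g : G) {H K : Subgroup G} (h : H ≤ K) : conjSub g H ≤ conjSub g K :=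
  Subgroup.map_mono h

theorem conjSub_le_iff (g : G) {H K : Subgroup G} : conjSub g H ≤ K ↔ H ≤ conjSub g⁻¹ K := by
  constructor
  · intro h
    have := conjSub_mono g⁻¹ h
    rwa [conjSub_inv_conjSub] at this
  · intro h
    have := conjSub_mono g h
    rwa [conjSub_conjSub_inv] at this

theorem conjSub_normalizer (g : G) (H : Subgroup G) :
    conjSub g (Subgroup.normalizer (H : Set G)) = Subgroup.normalizer ((conjSub g H : Subgroup G) : Set G) := by
  ext x
  rw [mem_conjSub, Subgroup.mem_normalizer_iff, Subgroup.mem_normalizer_iff]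
  constructor
  · intro h y
    rw [mem_conjSub, mem_conjSub, h (g⁻¹ * y * g)]
    have : g⁻¹ * x * g * (g⁻¹ * y * g) * (g⁻¹ * x * g)⁻¹ = g⁻¹ * (x * y * x⁻¹) * g := by group
    rw [this]
  · intro h y
    have h1 := h (g * y * g⁻¹)
    rw [mem_conjSub, mem_conjSub] at h1
    have e1 : g⁻¹ * (g * y * g⁻¹) * g = y := by group
    have e2 : g⁻¹ * (x * (g * y * g⁻¹) * x⁻¹) * g = g⁻¹ * x * g * y * (g⁻¹ * x * g)⁻¹ := by group
    rw [e1, e2] at h1
    exact h1

theorem conjSub_centralizer (g : G) (H : Subgroup G) :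
    conjSub g (Subgroup.centralizer (H : Set G)) = Subgroup.centralizer ((conjSub g H : Subgroup G) : Set G) := by
  ext x
  rw [mem_conjSub, Subgroup.mem_centralizer_iff, Subgroup.mem_centralizer_iff]
  constructor
  · intro h y hy
    have hy' : g⁻¹ * y * g ∈ H := mem_conjSub.1 hy
    have h1 := h _ hy'
    have : y * x = g * ((g⁻¹ * y * g) * (g⁻¹ * x * g)) * g⁻¹ := by group
    rw [this, h1]
    group
  · intro h y hy
    have hy' : g * y * g⁻¹ ∈ conjSub g H := conj_mem_conjSub hy
    have h1 := h _ hy'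
    have : y * (g⁻¹ * x * g) = g⁻¹ * ((g * y * g⁻¹) * x) * g := by group
    rw [this, h1]
    group

theorem conjSub_inf (g : G) (H K : Subgroup G) : conjSub g (H ⊓ K) = conjSub g H ⊓ conjSub g K := by
  ext x
  simp only [mem_conjSub, Subgroup.mem_inf]

theorem isPGroup_conjSub {p : ℕ} (g : G) {H : Subgroup G} (h : IsPGroup p H) : IsPGroup p (conjSub g H) :=
  h.map _

/-! ### Relative Sylow subgroups -/

theorem isPGroup_subgroupOf {p : ℕ} {H : Subgroup G} (K : Subgroup G) (h : IsPGroup p H) :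
    IsPGroup p (H.subgroupOf K) :=
  h.comap_of_injective K.subtype K.subtype_injective

theorem card_subgroupOf {H K : Subgroup G} (h : H ≤ K) : Nat.card (H.subgroupOf K) = Nat.card H :=
  Nat.card_congr (Subgroup.subgroupOfEquivOfLe h).toEquiv

theorem IsSylowIn.isPGroup {p : ℕ} {H K : Subgroup G} (h : IsSylowIn p H K) (hHK : H ≤ K) :
    IsPGroup p H := by
  obtain ⟨R, hR⟩ := h
  have h1 : IsPGroup p (H.subgroupOf K) := hR ▸ R.isPGroup'
  exact h1.of_equiv (Subgroup.subgroupOfEquivOfLe hHK)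

/-- A relative Sylow subgroup has the largest order among `p`-subgroups. -/
theorem IsSylowIn.card_le [Finite G] {p : ℕ} [Fact p.Prime] {H K : Subgroup G} (h : IsSylowIn p H K)
    (hHK : H ≤ K) {T : Subgroup G} (hTK : T ≤ K) (hT : IsPGroup p T) : Nat.card T ≤ Nat.card H := by
  obtain ⟨R, hR⟩ := h
  obtain ⟨R', hR'⟩ := (isPGroup_subgroupOf K hT).exists_le_sylow
  have h1 : Nat.card (T.subgroupOf K) ≤ Nat.card (R' : Subgroup K) :=
    Nat.card_le_card_of_injective _ (Subgroup.inclusion_injective hR')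
  have h2 : Nat.card (R' : Subgroup K) = Nat.card (R : Subgroup K) := by
    rw [R'.card_eq_multiplicity, R.card_eq_multiplicity]
  rw [card_subgroupOf hTK, h2, hR, card_subgroupOf hHK] at h1
  exact h1

/-- A `p`-subgroup of `K` of largest order among those containing it is a relative Sylow subgroup. -/
theorem isSylowIn_of_card_le [Finite G] {p : ℕ} [Fact p.Prime] {H K : Subgroup G} (hHK : H ≤ K)
    (hH : IsPGroup p H)
    (hmax : ∀ T : Subgroup G, T ≤ K → IsPGroup p T → H ≤ T → Nat.card T ≤ Nat.card H) :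
    IsSylowIn p H K := by
  obtain ⟨R, hR⟩ := (isPGroup_subgroupOf K hH).exists_le_sylow
  refine ⟨R, ?_⟩
  have hTK : (R : Subgroup K).map K.subtype ≤ K := by
    rintro _ ⟨x, -, rfl⟩
    exact x.2
  have hHT : H ≤ (R : Subgroup K).map K.subtype := by
    intro x hx
    exact ⟨⟨x, hHK hx⟩, hR (Subgroup.mem_subgroupOf.2 hx), rfl⟩
  have hTp : IsPGroup p ((R : Subgroup K).map K.subtype) := R.isPGroup'.map _
  have h1 := hmax _ hTK hTp hHT
  have h2 : H = (R : Subgroup K).map K.subtype := Subgroup.eq_of_le_of_card_ge hHT h1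
  rw [h2]
  ext x
  rw [Subgroup.mem_subgroupOf]
  constructor
  · intro hx
    exact ⟨x, hx, rfl⟩
  · rintro ⟨y, hy, hyx⟩
    have : y = x := Subtype.ext hyx
    rwa [← this]

/-- Every `p`-subgroup of `K` lies in a relative Sylow subgroup of `K`. -/
theorem exists_isSylowIn_ge [Finite G] {p : ℕ} [Fact p.Prime] {H K : Subgroup G} (hHK : H ≤ K)
    (hH : IsPGroup p H) : ∃ T : Subgroup G, H ≤ T ∧ T ≤ K ∧ IsPGroup p T ∧ IsSylowIn p T K := by
  obtain ⟨R, hR⟩ := (isPGroup_subgroupOf K hH).exists_le_sylow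
  refine ⟨(R : Subgroup K).map K.subtype, ?_, ?_, R.isPGroup'.map _, R, ?_⟩
  · intro x hx
    exact ⟨⟨x, hHK hx⟩, hR (Subgroup.mem_subgroupOf.2 hx), rfl⟩
  · rintro _ ⟨x, -, rfl⟩
    exact x.2
  · ext x
    rw [Subgroup.mem_subgroupOf]
    constructor
    · intro hx
      exact ⟨x, hx, rfl⟩
    · rintro ⟨y, hy, hyx⟩
      have : y = x := Subtype.ext hyx
      rwa [← this]

/-- A `p`-subgroup of `G` is conjugate into a given Sylow `p`-subgroup. -/
theorem exists_conjSub_le_sylow [Finite G] {p : ℕ} [Fact p.Prime] (S : Sylow p G) {T : Subgroup G}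
    (hT : IsPGroup p T) : ∃ g : G, conjSub g T ≤ S := by
  obtain ⟨S', hS'⟩ := hT.exists_le_sylow
  obtain ⟨g, hg⟩ := MulAction.exists_smul_eq G S' S
  refine ⟨g, ?_⟩
  rintro _ ⟨x, hx, rfl⟩
  have h1 : g * x * g⁻¹ ∈ ((g • S' : Sylow p G) : Subgroup G) := by
    rw [Sylow.coe_subgroup_smul]
    exact Subgroup.smul_mem_pointwise_smul x (MulAut.conj g) _ (hS' hx)
  rw [hg] at h1
  exact h1


/-! ### Conjugacy in the fusion system of a group -/

theorem conjHom_mem_group {S P : Subgroup G} (hP : P ≤ S) (g : G) (h : conjSub g P ≤ S) :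
    conjHom P g ∈ (groupFusionSystem S).Hom P :=
  ⟨hP, fun x => h (conj_mem_conjSub x.2), g, fun _ => rfl⟩

theorem range_conjHom (P : Subgroup G) (g : G) : (conjHom P g).range = conjSub g P := by
  ext y
  constructor
  · rintro ⟨x, rfl⟩
    exact conj_mem_conjSub x.2
  · rintro ⟨x, hx, rfl⟩
    exact ⟨⟨x, hx⟩, rfl⟩

theorem group_isConj_iff (S P Q : Subgroup G) :
    (groupFusionSystem S).IsConj P Q ↔ P ≤ S ∧ Q ≤ S ∧ ∃ g : G, conjSub g P = Q := by
  constructor
  · rintro ⟨φ, ⟨hP, hφS, g, hg⟩, rfl⟩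
    have hφ : φ = conjHom P g := MonoidHom.ext hg
    refine ⟨hP, ?_, g, ?_⟩
    · rintro _ ⟨x, rfl⟩
      exact hφS x
    · rw [hφ, range_conjHom]
  · rintro ⟨hP, hQ, g, rfl⟩
    exact ⟨conjHom P g, conjHom_mem_group hP g hQ, range_conjHom P g⟩

theorem normalizerIn_conjSub_ge (S : Subgroup G) (g : G) {P T : Subgroup G}
    (hT : T ≤ Subgroup.normalizer (P : Set G)) (hTS : conjSub g T ≤ S) :
    conjSub g T ≤ normalizerIn S (conjSub g P) := by
  refine le_inf hTS ?_
  rw [← conjSub_normalizer]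
  exact conjSub_mono g hT

theorem centralizerIn_conjSub_ge (S : Subgroup G) (g : G) {P T : Subgroup G}
    (hT : T ≤ Subgroup.centralizer (P : Set G)) (hTS : conjSub g T ≤ S) :
    conjSub g T ≤ centralizerIn S (conjSub g P) := by
  refine le_inf hTS ?_
  rw [← conjSub_centralizer]
  exact conjSub_mono g hT

theorem le_normalizerIn_self {S P : Subgroup G} (hP : P ≤ S) : P ≤ normalizerIn S P :=
  le_inf hP Subgroup.le_normalizer

theorem card_le_of_le [Finite G] {H K : Subgroup G} (h : H ≤ K) : Nat.card H ≤ Nat.card K :=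
  Nat.card_le_card_of_injective _ (Subgroup.inclusion_injective h)

/-- In `F_S(G)`, `P ≤ S` is fully normalized iff `N_S(P)` is a Sylow `p`-subgroup of `N_G(P)`. -/
theorem group_isFullyNormalized_iff [Finite G] {p : ℕ} [Fact p.Prime] (S : Sylow p G) (P : Subgroup G)
    (hP : P ≤ S) :
    (groupFusionSystem (S : Subgroup G)).IsFullyNormalized P ↔
      IsSylowIn p (normalizerIn (S : Subgroup G) P) (Subgroup.normalizer (P : Set G)) := by
  have hNp : ∀ Q : Subgroup G, IsPGroup p (normalizerIn (S : Subgroup G) Q) :=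
    fun Q => S.isPGroup'.to_le inf_le_left
  constructor
  · rintro ⟨-, hfn⟩
    refine isSylowIn_of_card_le inf_le_right (hNp P) ?_
    intro T hTN hTp hNT
    obtain ⟨g, hg⟩ := exists_conjSub_le_sylow S hTp
    have hPT : P ≤ T := (le_normalizerIn_self hP).trans hNT
    have hQS : conjSub g P ≤ S := (conjSub_mono g hPT).trans hg
    have hconj : (groupFusionSystem (S : Subgroup G)).IsConj P (conjSub g P) :=
      (group_isConj_iff _ _ _).2 ⟨hP, hQS, g, rfl⟩
    have h1 := hfn _ hconj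
    have h2 := card_le_of_le (normalizerIn_conjSub_ge (S : Subgroup G) g hTN hg)
    rw [card_conjSub] at h2
    exact h2.trans h1
  · intro hsyl
    refine ⟨hP, fun Q hQ => ?_⟩
    obtain ⟨-, hQS, g, rfl⟩ := (group_isConj_iff _ _ _).1 hQ
    have h1 : conjSub g⁻¹ (normalizerIn (S : Subgroup G) (conjSub g P)) ≤
        Subgroup.normalizer (P : Set G) := by
      rw [conjSub_le_iff, inv_inv, conjSub_normalizer]
      exact inf_le_right
    have h2 := hsyl.card_le inf_le_right h1 (isPGroup_conjSub _ (hNp _))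
    rwa [card_conjSub] at h2

/-- In `F_S(G)`, every subgroup of `S` is conjugate to one whose normalizer in `S` is a Sylow
subgroup of its normalizer in `G`. -/
theorem exists_conj_normalizer_sylow [Finite G] {p : ℕ} [Fact p.Prime] (S : Sylow p G) (P : Subgroup G)
    (hP : P ≤ S) : ∃ g : G, conjSub g P ≤ S ∧
      IsSylowIn p (normalizerIn (S : Subgroup G) (conjSub g P))
        (Subgroup.normalizer ((conjSub g P : Subgroup G) : Set G)) := by
  have hNp : IsPGroup p (normalizerIn (S : Subgroup G) P) := S.isPGroup'.to_le inf_le_left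
  obtain ⟨T, hNT, hTN, hTp, hTsyl⟩ := exists_isSylowIn_ge (inf_le_right : normalizerIn (S : Subgroup G) P ≤ _) hNp
  obtain ⟨g, hg⟩ := exists_conjSub_le_sylow S hTp
  have hPT : P ≤ T := (le_normalizerIn_self hP).trans hNT
  have hQS : conjSub g P ≤ S := (conjSub_mono g hPT).trans hg
  refine ⟨g, hQS, ?_⟩
  refine isSylowIn_of_card_le inf_le_right (S.isPGroup'.to_le inf_le_left) ?_
  intro T' hT'N hT'p _
  have h1 : conjSub g⁻¹ T' ≤ Subgroup.normalizer (P : Set G) := by
    rw [conjSub_le_iff, inv_inv, conjSub_normalizer]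
    exact hT'N
  have h2 := hTsyl.card_le hTN h1 (isPGroup_conjSub _ hT'p)
  rw [card_conjSub] at h2
  have h3 := card_le_of_le (normalizerIn_conjSub_ge (S : Subgroup G) g hTN hg)
  rw [card_conjSub] at h3
  exact h2.trans h3


/-! ### Relative Sylow conjugacy, intersection with a normal subgroup -/

/-- Relative Sylow conjugacy: a `p`-subgroup of `K` is conjugate by an element of `K` into a given
relative Sylow subgroup of `K`. -/
theorem IsSylowIn.exists_conj_le [Finite G] {p : ℕ} [Fact p.Prime] {H K : Subgroup G}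
    (h : IsSylowIn p H K) {T : Subgroup G} (hTK : T ≤ K) (hT : IsPGroup p T) :
    ∃ k ∈ K, conjSub k T ≤ H := by
  obtain ⟨R, hR⟩ := h
  obtain ⟨k, hk⟩ := exists_conjSub_le_sylow R (isPGroup_subgroupOf K hT)
  refine ⟨k, k.2, ?_⟩
  rintro _ ⟨t, ht, rfl⟩
  have h1 : k * ⟨t, hTK ht⟩ * k⁻¹ ∈ (R : Subgroup K) :=
    hk (conj_mem_conjSub (Subgroup.mem_subgroupOf.2 ht))
  rw [hR, Subgroup.mem_subgroupOf] at h1
  exact h1

/-- A relative Sylow subgroup of `K` meets a subgroup `N ≤ K` normalized by `K` in a relative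
Sylow subgroup of `N`. -/
theorem IsSylowIn.inf_normal [Finite G] {p : ℕ} [Fact p.Prime] {H K N : Subgroup G}
    (h : IsSylowIn p H K) (hHK : H ≤ K) (hNK : N ≤ K) (hnorm : K ≤ Subgroup.normalizer (N : Set G)) :
    IsSylowIn p (H ⊓ N) N := by
  refine isSylowIn_of_card_le inf_le_right ((h.isPGroup hHK).to_le inf_le_left) ?_
  intro T hTN hTp _
  obtain ⟨k, hk, hkT⟩ := h.exists_conj_le (hTN.trans hNK) hTp
  have h1 : conjSub k T ≤ N := by
    rintro _ ⟨t, ht, rfl⟩
    exact (Subgroup.mem_normalizer_iff.1 (hnorm hk) t).1 (hTN ht)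
  have h2 := card_le_of_le (le_inf hkT h1)
  rwa [card_conjSub] at h2

theorem centralizerIn_eq_normalizerIn_inf (S Q : Subgroup G) :
    centralizerIn S Q = normalizerIn S Q ⊓ Subgroup.centralizer (Q : Set G) := by
  unfold centralizerIn normalizerIn
  rw [inf_assoc, inf_eq_right.2 (Subgroup.centralizer_le_normalizer (Q : Set G))]

/-- If `N_S(Q)` is a Sylow subgroup of `N_G(Q)` then `C_S(Q)` is a Sylow subgroup of `C_G(Q)`. -/
theorem isSylowIn_centralizer_of_normalizer [Finite G] {p : ℕ} [Fact p.Prime] {S Q : Subgroup G}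
    (h : IsSylowIn p (normalizerIn S Q) (Subgroup.normalizer (Q : Set G))) :
    IsSylowIn p (centralizerIn S Q) (Subgroup.centralizer (Q : Set G)) := by
  rw [centralizerIn_eq_normalizerIn_inf]
  refine h.inf_normal inf_le_right (Subgroup.centralizer_le_normalizer _) ?_
  have := Subgroup.normal_subgroupOf_iff_le_normalizer (H := Subgroup.centralizer (Q : Set G))
    (K := Subgroup.normalizer (Q : Set G)) (Subgroup.centralizer_le_normalizer _)
  exact this.1 inferInstance

/-- In `F_S(G)`, `P ≤ S` is fully centralized iff `C_S(P)` is a Sylow `p`-subgroup of `C_G(P)`. -/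
theorem group_isFullyCentralized_iff [Finite G] {p : ℕ} [Fact p.Prime] (S : Sylow p G) (P : Subgroup G)
    (hP : P ≤ S) :
    (groupFusionSystem (S : Subgroup G)).IsFullyCentralized P ↔
      IsSylowIn p (centralizerIn (S : Subgroup G) P) (Subgroup.centralizer (P : Set G)) := by
  have hCp : ∀ Q : Subgroup G, IsPGroup p (centralizerIn (S : Subgroup G) Q) :=
    fun Q => S.isPGroup'.to_le inf_le_left
  constructor
  · rintro ⟨-, hfc⟩
    obtain ⟨g, hgS, hsyl⟩ := exists_conj_normalizer_sylow S P hP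
    have hsylC := isSylowIn_centralizer_of_normalizer hsyl
    have hconj : (groupFusionSystem (S : Subgroup G)).IsConj P (conjSub g P) :=
      (group_isConj_iff _ _ _).2 ⟨hP, hgS, g, rfl⟩
    have h1 := hfc _ hconj
    refine isSylowIn_of_card_le inf_le_right (hCp P) ?_
    intro T hTC hTp _
    have h2 : conjSub g T ≤ Subgroup.centralizer ((conjSub g P : Subgroup G) : Set G) := by
      rw [← conjSub_centralizer]
      exact conjSub_mono g hTC
    have h3 := hsylC.card_le inf_le_right h2 (isPGroup_conjSub _ hTp)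
    rw [card_conjSub] at h3
    exact h3.trans h1
  · intro hsyl
    refine ⟨hP, fun Q hQ => ?_⟩
    obtain ⟨-, hQS, g, rfl⟩ := (group_isConj_iff _ _ _).1 hQ
    have h1 : conjSub g⁻¹ (centralizerIn (S : Subgroup G) (conjSub g P)) ≤
        Subgroup.centralizer (P : Set G) := by
      rw [conjSub_le_iff, inv_inv, conjSub_centralizer]
      exact inf_le_right
    have h2 := hsyl.card_le inf_le_right h1 (isPGroup_conjSub _ (hCp _))
    rwa [card_conjSub] at h2


/-! ### Automorphisms induced by conjugation -/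

theorem normalizerMonoidHom_apply_coe (Q : Subgroup G) (n : Subgroup.normalizer (Q : Set G)) (x : Q) :
    ((Q.normalizerMonoidHom n x : Q) : G) = n * x * (n : G)⁻¹ := rfl

/-- An element inducing an automorphism of `Q` by conjugation normalizes `Q`. -/
theorem mem_normalizer_of_aut {Q : Subgroup G} (α : MulAut Q) (g : G)
    (h : ∀ x : Q, ((α x : Q) : G) = g * x * g⁻¹) : g ∈ Subgroup.normalizer (Q : Set G) := by
  rw [Subgroup.mem_normalizer_iff]
  intro y
  constructor
  · intro hy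
    rw [← h ⟨y, hy⟩]
    exact (α ⟨y, hy⟩).2
  · intro hgy
    have h1 := h (α.symm ⟨g * y * g⁻¹, hgy⟩)
    rw [MulEquiv.apply_symm_apply] at h1
    have h2 : y = ((α.symm ⟨g * y * g⁻¹, hgy⟩ : Q) : G) :=
      mul_left_cancel (mul_right_cancel h1)
    rw [h2]
    exact (α.symm ⟨g * y * g⁻¹, hgy⟩).2

/-- `Aut_G(Q)` is the image of `N_G(Q)`. -/
theorem mem_autInducedBy_top_iff (Q : Subgroup G) (α : MulAut Q) :
    α ∈ autInducedBy ⊤ Q ↔ ∃ g : G, ∀ x : Q, ((α x : Q) : G) = g * x * g⁻¹ := by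
  rw [mem_autInducedBy_iff]
  constructor
  · rintro ⟨g, -, h⟩
    exact ⟨g, h⟩
  · rintro ⟨g, h⟩
    exact ⟨g, Subgroup.mem_top g, h⟩

/-- For `Q ≤ S`, the automorphism group of `Q` in `F_S(G)` is `Aut_G(Q)`. -/
theorem group_mem_autGroup_iff {S Q : Subgroup G} (hQ : Q ≤ S) (α : MulAut Q) :
    α ∈ (groupFusionSystem S).autGroup Q ↔ ∃ g : G, ∀ x : Q, ((α x : Q) : G) = g * x * g⁻¹ := by
  rw [mem_autGroup_iff _ hQ]
  constructor
  · rintro ⟨-, -, g, h⟩
    exact ⟨g, h⟩
  · rintro ⟨g, h⟩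
    exact ⟨hQ, fun x => hQ (α x).2, g, h⟩

/-- If `N_S(Q)` is a Sylow subgroup of `N_G(Q)` then `Aut_S(Q)` is a Sylow subgroup of `Aut_G(Q)`
(the latter given as any subgroup `A` of `Aut(Q)` consisting of the conjugation automorphisms). -/
theorem aut_sylow_of_normalizer [Finite G] {p : ℕ} [Fact p.Prime] {S Q : Subgroup G}
    (hsyl : IsSylowIn p (normalizerIn S Q) (Subgroup.normalizer (Q : Set G)))
    (A : Subgroup (MulAut Q))
    (hA : ∀ α : MulAut Q, α ∈ A ↔ ∃ g : G, ∀ x : Q, ((α x : Q) : G) = g * x * g⁻¹) :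
    ∃ R : Sylow p A, (R : Subgroup A) = (autInducedBy S Q).subgroupOf A := by
  obtain ⟨R₀, hR₀⟩ := hsyl
  have hmem : ∀ n : Subgroup.normalizer (Q : Set G), Q.normalizerMonoidHom n ∈ A :=
    fun n => (hA _).2 ⟨n, fun x => rfl⟩
  let f : Subgroup.normalizer (Q : Set G) →* A := Q.normalizerMonoidHom.codRestrict A hmem
  have hf : Function.Surjective f := by
    rintro ⟨α, hα⟩
    obtain ⟨g, hg⟩ := (hA α).1 hα
    refine ⟨⟨g, mem_normalizer_of_aut α g hg⟩, ?_⟩
    apply Subtype.ext
    apply MulEquiv.ext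
    intro x
    apply Subtype.ext
    exact (hg x).symm
  refine ⟨R₀.mapSurjective hf, ?_⟩
  rw [Sylow.coe_mapSurjective, hR₀]
  ext ⟨α, hα⟩
  rw [Subgroup.mem_subgroupOf, mem_autInducedBy_iff]
  constructor
  · rintro ⟨n, hn, hnα⟩
    have hn' : (n : G) ∈ normalizerIn S Q := Subgroup.mem_subgroupOf.1 hn
    refine ⟨n, hn'.1, fun x => ?_⟩
    have : Q.normalizerMonoidHom n = α := congrArg Subtype.val hnα
    show ((α x : Q) : G) = _
    rw [← this]
    rfl
  · rintro ⟨g, hgS, hg⟩
    have hgN : g ∈ Subgroup.normalizer (Q : Set G) := mem_normalizer_of_aut α g hg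
    refine ⟨⟨g, hgN⟩, Subgroup.mem_subgroupOf.2 ⟨hgS, hgN⟩, ?_⟩
    apply Subtype.ext
    apply MulEquiv.ext
    intro x
    apply Subtype.ext
    exact (hg x).symm


/-! ### The Sylow extension lemma -/

theorem IsSylowIn.of_le [Finite G] {p : ℕ} [Fact p.Prime] {H K M : Subgroup G}
    (h : IsSylowIn p H K) (hHK : H ≤ K) (hHM : H ≤ M) (hMK : M ≤ K) : IsSylowIn p H M :=
  isSylowIn_of_card_le hHM (h.isPGroup hHK)
    (fun _ hTM hTp _ => h.card_le hHK (hTM.trans hMK) hTp)

theorem conjSub_le_self_of_mem {H : Subgroup G} {g : G} (hg : g ∈ H) : conjSub g H ≤ H := by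
  rintro _ ⟨x, hx, rfl⟩
  exact H.mul_mem (H.mul_mem hg hx) (H.inv_mem hg)

theorem normalizer_le_normalizer_centralizer (Q : Subgroup G) :
    Subgroup.normalizer (Q : Set G) ≤
      Subgroup.normalizer ((Subgroup.centralizer (Q : Set G) : Subgroup G) : Set G) := by
  have := Subgroup.normal_subgroupOf_iff_le_normalizer (H := Subgroup.centralizer (Q : Set G))
    (K := Subgroup.normalizer (Q : Set G)) (Subgroup.centralizer_le_normalizer _)
  exact this.1 inferInstance

/-- Sylow extension lemma: if `N_S(Q)` is a Sylow subgroup of `N_G(Q)` and `T` is a `p`-subgroup of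
`N_S(Q) C_G(Q)`, then some `c ∈ C_G(Q)` conjugates `T` into `N_S(Q)`. -/
theorem exists_centralizer_conj_le [Finite G] {p : ℕ} [Fact p.Prime] {S Q : Subgroup G}
    (hsyl : IsSylowIn p (normalizerIn S Q) (Subgroup.normalizer (Q : Set G)))
    {T : Subgroup G} (hT : IsPGroup p T)
    (hTM : T ≤ normalizerIn S Q ⊔ Subgroup.centralizer (Q : Set G)) :
    ∃ c ∈ Subgroup.centralizer (Q : Set G), conjSub c T ≤ normalizerIn S Q := by
  have hMK : normalizerIn S Q ⊔ Subgroup.centralizer (Q : Set G) ≤ Subgroup.normalizer (Q : Set G) :=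
    sup_le inf_le_right (Subgroup.centralizer_le_normalizer _)
  have hsylM := hsyl.of_le inf_le_right le_sup_left hMK
  obtain ⟨m, hm, hmT⟩ := hsylM.exists_conj_le hTM hT
  have hLE : normalizerIn S Q ≤
      Subgroup.normalizer ((Subgroup.centralizer (Q : Set G) : Subgroup G) : Set G) :=
    (inf_le_right : normalizerIn S Q ≤ _).trans (normalizer_le_normalizer_centralizer Q)
  have hm' : m ∈ ((normalizerIn S Q ⊔ Subgroup.centralizer (Q : Set G) : Subgroup G) : Set G) := hm
  rw [Subgroup.coe_mul_of_left_le_normalizer_right _ _ hLE] at hm'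
  obtain ⟨s, hs, c, hc, rfl⟩ := hm'
  refine ⟨c, hc, ?_⟩
  have h1 : conjSub s (conjSub c T) ≤ normalizerIn S Q := by
    rw [conjSub_conjSub]
    exact hmT
  rw [conjSub_le_iff] at h1
  exact h1.trans (conjSub_le_self_of_mem ((normalizerIn S Q).inv_mem hs))


/-! ### Saturation of the fusion system of a finite group on a Sylow subgroup -/

theorem extender_le (S P : Subgroup G) (φ : P →* G) : extender S P φ ≤ normalizerIn S P := by
  unfold extender
  rw [Subgroup.closure_le]
  rintro x ⟨hxS, hxN, -⟩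
  exact ⟨hxS, hxN⟩

/-- In `F_S(G)`: if `N_S(Q)` is a Sylow subgroup of `N_G(Q)` then `Q` is receptive. -/
theorem group_isReceptive_of_normalizer_sylow [Finite G] {p : ℕ} [Fact p.Prime] (S : Sylow p G)
    {Q : Subgroup G} (hQ : Q ≤ S)
    (hsyl : IsSylowIn p (normalizerIn (S : Subgroup G) Q) (Subgroup.normalizer (Q : Set G))) :
    (groupFusionSystem (S : Subgroup G)).IsReceptive Q := by
  refine ⟨hQ, ?_⟩
  rintro P φ ⟨hPS, hφS, k, hk⟩ hrange
  have hφ : φ = conjHom P k := MonoidHom.ext hk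
  have hkP : conjSub k P = Q := by rw [← hrange, hφ, range_conjHom]
  -- the extender is conjugated by `k` into `N_S(Q) C_G(Q)`
  have hle : extender (S : Subgroup G) P φ ≤
      (normalizerIn (S : Subgroup G) Q ⊔ Subgroup.centralizer (Q : Set G)).comap
        (MulAut.conj k).toMonoidHom := by
    unfold extender
    rw [Subgroup.closure_le]
    rintro x ⟨hxS, hxN, h, hhS, hh⟩
    show k * x * k⁻¹ ∈ normalizerIn (S : Subgroup G) Q ⊔ Subgroup.centralizer (Q : Set G)
    have hkxN : k * x * k⁻¹ ∈ Subgroup.normalizer (Q : Set G) := by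
      rw [← hkP, ← conjSub_normalizer]
      exact conj_mem_conjSub hxN
    have hcent : h⁻¹ * (k * x * k⁻¹) ∈ Subgroup.centralizer (Q : Set G) := by
      rw [Subgroup.mem_centralizer_iff]
      intro z hz
      rw [← hkP] at hz
      obtain ⟨y, hy, rfl⟩ := hz
      have hxy : x * y * x⁻¹ ∈ P := (Subgroup.mem_normalizer_iff.1 hxN y).1 hy
      have h1 := hh ⟨y, hy⟩ hxy
      rw [hk, hk] at h1
      show k * y * k⁻¹ * (h⁻¹ * (k * x * k⁻¹)) = h⁻¹ * (k * x * k⁻¹) * (k * y * k⁻¹)
      have h2 : h⁻¹ * (k * x * k⁻¹) * (k * y * k⁻¹) = h⁻¹ * (k * (x * y * x⁻¹) * k⁻¹) * (k * x * k⁻¹) := by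
        group
      rw [h2]
      have h1' : k * (x * y * x⁻¹) * k⁻¹ = h * (k * y * k⁻¹) * h⁻¹ := h1
      rw [h1']
      group
    have hhN : h ∈ Subgroup.normalizer (Q : Set G) := by
      have h3 : h = (k * x * k⁻¹) * (h⁻¹ * (k * x * k⁻¹))⁻¹ := by group
      rw [h3]
      exact Subgroup.mul_mem _ hkxN
        (Subgroup.inv_mem _ (Subgroup.centralizer_le_normalizer _ hcent))
    have h4 : k * x * k⁻¹ = h * (h⁻¹ * (k * x * k⁻¹)) := by group
    rw [h4]
    exact Subgroup.mul_mem_sup ⟨hhS, hhN⟩ hcent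
  have hNS : extender (S : Subgroup G) P φ ≤ S := (extender_le _ _ _).trans inf_le_left
  have hNp : IsPGroup p (extender (S : Subgroup G) P φ) := S.isPGroup'.to_le hNS
  have hT : conjSub k (extender (S : Subgroup G) P φ) ≤
      normalizerIn (S : Subgroup G) Q ⊔ Subgroup.centralizer (Q : Set G) := by
    rintro _ ⟨x, hx, rfl⟩
    exact hle hx
  obtain ⟨c, hc, hcT⟩ := exists_centralizer_conj_le hsyl (isPGroup_conjSub k hNp) hT
  rw [conjSub_conjSub] at hcT
  refine ⟨conjHom (extender (S : Subgroup G) P φ) (c * k),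
    conjHom_mem_group hNS (c * k) (hcT.trans inf_le_left), ?_⟩
  intro x hP hN
  rw [hk]
  show c * k * x * (c * k)⁻¹ = k * x * k⁻¹
  have hxQ : k * x * k⁻¹ ∈ Q := by
    rw [← hkP]
    exact conj_mem_conjSub hP
  have h5 : k * x * k⁻¹ * c = c * (k * x * k⁻¹) := (Subgroup.mem_centralizer_iff.1 hc) _ hxQ
  have h6 : c * k * x * (c * k)⁻¹ = c * (k * x * k⁻¹) * c⁻¹ := by group
  rw [h6, ← h5]
  group

/-- The fusion system of a finite group on a Sylow `p`-subgroup is saturated. -/
theorem group_isSaturated [Finite G] {p : ℕ} [Fact p.Prime] (S : Sylow p G) :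
    (groupFusionSystem (S : Subgroup G)).IsSaturated p := by
  intro P hP
  obtain ⟨g, hgS, hsyl⟩ := exists_conj_normalizer_sylow S P hP
  refine ⟨conjSub g P, (group_isConj_iff _ _ _).2 ⟨hP, hgS, g, rfl⟩, ⟨hgS, ?_⟩,
    group_isReceptive_of_normalizer_sylow S hgS hsyl⟩
  exact aut_sylow_of_normalizer hsyl _ (group_mem_autGroup_iff hgS)


/-! ### Further Sylow helpers -/

/-- A Sylow subgroup of `G` contained in `K` is a relative Sylow subgroup of `K`. -/
theorem isSylowIn_of_sylow_le [Finite G] {p : ℕ} [Fact p.Prime] (S : Sylow p G) {K : Subgroup G}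
    (h : (S : Subgroup G) ≤ K) : IsSylowIn p (S : Subgroup G) K := by
  refine isSylowIn_of_card_le h S.isPGroup' ?_
  intro T _ hTp _
  obtain ⟨g, hg⟩ := exists_conjSub_le_sylow S hTp
  have := card_le_of_le hg
  rwa [card_conjSub] at this

theorem conjSub_eq_of_le [Finite G] {g : G} {H : Subgroup G} (h : conjSub g H ≤ H) : conjSub g H = H :=
  Subgroup.eq_of_le_of_card_ge h (card_conjSub g H).ge

theorem mem_normalizer_of_conjSub_le [Finite G] {g : G} {H : Subgroup G} (h : conjSub g H ≤ H) :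
    g ∈ Subgroup.normalizer (H : Set G) := by
  have he := conjSub_eq_of_le h
  rw [Subgroup.mem_normalizer_iff]
  intro x
  constructor
  · intro hx
    exact h (conj_mem_conjSub hx)
  · intro hx
    rw [← he, mem_conjSub] at hx
    have e : g⁻¹ * (g * x * g⁻¹) * g = x := by group
    rwa [e] at hx

theorem conjSub_eq_of_mem_normalizer {g : G} {H : Subgroup G} (h : g ∈ Subgroup.normalizer (H : Set G)) :
    conjSub g H = H := by
  ext x
  rw [mem_conjSub]
  exact ((Subgroup.mem_normalizer_iff''.1 h) x).symm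

theorem conjSub_sup (g : G) (H K : Subgroup G) : conjSub g (H ⊔ K) = conjSub g H ⊔ conjSub g K :=
  Subgroup.map_sup H K _

end Cfsg.Agent.Lib.Helper85_GroupFusion
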