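import Mathlib
import Cfsg.Prelude.Def_FusionSystem
import Cfsg.Agent.Lib.Helper26_FusLocalDefs
import Cfsg.Agent.Lib.Helper85_GroupFusion
import Cfsg.Agent.Lib.Helper84_FusionRS

/-!
# S5322-FM (helper82, for helper26's S5321/S5322 market)

`FusLocal S Q` implies that the fusion system `F_S(G)` of a finite group on a Sylow `p`-subgroup is
simple.
-/

set_option autoImplicit false

namespace Cfsg.Agent.Lib.Helper82_Fus_FM

open Cfsg Cfsg.FusionSystem Cfsg.Agent.Lib.Helper26_FusLocal Cfsg.Agent.Lib.Helper85_Fusion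
  Cfsg.Agent.Lib.Helper85_GroupFusion

universe u

variable {G : Type u} [Group G]

/-- `x` normalizes `Q` and conjugation by `x` on `Q` is a map of `E` -/
def InA {S : Subgroup G} (E : FusionSystem S) (Q : Subgroup G) (x : G) : Prop :=
  x ∈ Subgroup.normalizer (Q : Set G) ∧ conjHom Q x ∈ E.Hom Q

theorem conj_mem_of_mem_normalizer {Q : Subgroup G} {x : G}
    (hx : x ∈ Subgroup.normalizer (Q : Set G)) {q : G} (hq : q ∈ Q) : x * q * x⁻¹ ∈ Q :=
  (Subgroup.mem_normalizer_iff.mp hx q).mp hq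

theorem conj_mem_of_mem_normalizer' {Q : Subgroup G} {x : G}
    (hx : x ∈ Subgroup.normalizer (Q : Set G)) {q : G} (hq : q ∈ Q) : x⁻¹ * q * x ∈ Q := by
  have h := conj_mem_of_mem_normalizer (Subgroup.inv_mem _ hx) hq
  rwa [inv_inv] at h

theorem mem_normalizer_of_forall [Finite G] {Q : Subgroup G} {x : G}
    (h : ∀ q ∈ Q, x * q * x⁻¹ ∈ Q) : x ∈ Subgroup.normalizer (Q : Set G) := by
  apply mem_normalizer_of_conjSub_le
  rintro _ ⟨q, hq, rfl⟩
  exact h q hq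

section

variable {S : Subgroup G} (E : FusionSystem S) {Q : Subgroup G}

theorem InA.of_mem (hQS : Q ≤ S) (hSQ : S ≤ Subgroup.normalizer (Q : Set G)) {s : G} (hs : s ∈ S) :
    InA E Q s :=
  ⟨hSQ hs, E.conj_mem hQS hs⟩

theorem InA.mul {x y : G} (hx : InA E Q x) (hy : InA E Q y) : InA E Q (x * y) := by
  refine ⟨Subgroup.mul_mem _ hx.1 hy.1, ?_⟩
  have h : ∀ q : Q, conjHom Q y q ∈ Q := fun q => conj_mem_of_mem_normalizer hy.1 q.2
  refine mem_of_eq E (E.comp_mem hy.2 hx.2 h) (fun q => ?_)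
  show (x * y) * (q : G) * (x * y)⁻¹ = x * (y * (q : G) * y⁻¹) * x⁻¹
  group

theorem InA.inv {x : G} (hx : InA E Q x) : InA E Q x⁻¹ := by
  refine ⟨Subgroup.inv_mem _ hx.1, ?_⟩
  obtain ⟨ψ, hψ, hinv, -⟩ := inv_mem' E hx.2
  have hr : (conjHom Q x).range = Q := by
    rw [range_conjHom]; exact conjSub_eq_of_mem_normalizer hx.1
  have hψ' := cast_mem E hr.symm hψ
  refine mem_of_eq E hψ' (fun q => ?_)
  have hq' : x⁻¹ * (q : G) * x ∈ Q := conj_mem_of_mem_normalizer' hx.1 q.2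
  have e : (Subgroup.inclusion hr.symm.le q : (conjHom Q x).range) =
      ⟨conjHom Q x ⟨x⁻¹ * (q : G) * x, hq'⟩, ⟨_, rfl⟩⟩ := by
    apply Subtype.ext
    show (q : G) = x * (x⁻¹ * (q : G) * x) * x⁻¹
    group
  show x⁻¹ * (q : G) * x⁻¹⁻¹ = ψ (Subgroup.inclusion hr.symm.le q)
  rw [e, hinv, inv_inv]

end

section

variable {S : Subgroup G} (E : FusionSystem S) {Q : Subgroup G}

/-- the invariance condition of `IsInvariantIn`, for `T = S` -/
def InvCond (E : FusionSystem S) (F : FusionSystem S) : Prop :=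
  ∀ (P : Subgroup G) (hPT : P ≤ S) (φ : P →* G), φ ∈ E.Hom P → ∀ α ∈ F.autGroup S,
      ∃ χ ∈ E.Hom ((P.subgroupOf S).map (S.subtype.comp α.toMonoidHom)),
        ∀ (x : P) (hφx : φ x ∈ S)
          (hαx : ((α ⟨x, hPT x.2⟩ : S) : G) ∈ (P.subgroupOf S).map (S.subtype.comp α.toMonoidHom)),
          χ ⟨(α ⟨x, hPT x.2⟩ : S), hαx⟩ = ((α ⟨φ x, hφx⟩ : S) : G)

/-- the Frattini condition of `IsInvariantIn`, for `T = S` -/
def FratCond (E : FusionSystem S) (F : FusionSystem S) : Prop :=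
  ∀ (P : Subgroup G), P ≤ S → ∀ (φ : P →* G), φ ∈ F.Hom P →
      ∃ α ∈ F.autGroup S, ∃ φ₀ ∈ E.Hom P, ∀ (x : P) (hx : φ₀ x ∈ S), φ x = ((α ⟨φ₀ x, hx⟩ : S) : G)

/-- `A` is normalized by `N_G(S)` (which normalizes `Q`) -/
theorem InA.conj_normalizer (hQS : Q ≤ S)
    (hinv : InvCond E (groupFusionSystem S)) {n y : G}
    (hn : n ∈ Subgroup.normalizer (S : Set G)) (hnQ : n ∈ Subgroup.normalizer (Q : Set G))
    (hy : InA E Q y) : InA E Q (n * y * n⁻¹) := by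
  refine ⟨Subgroup.mul_mem _ (Subgroup.mul_mem _ hnQ hy.1) (Subgroup.inv_mem _ hnQ), ?_⟩
  let α : MulAut S := S.normalizerMonoidHom ⟨n, hn⟩
  have hα : α ∈ (groupFusionSystem S).autGroup S :=
    (group_mem_autGroup_iff le_rfl α).mpr ⟨n, fun x => rfl⟩
  obtain ⟨χ, hχ, hχeq⟩ := hinv Q hQS (conjHom Q y) hy.2 α hα
  have hQ' : Q = (Q.subgroupOf S).map (S.subtype.comp α.toMonoidHom) := by
    ext z
    constructor
    · intro hz
      have hz' : n⁻¹ * z * n ∈ Q := conj_mem_of_mem_normalizer' hnQ hz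
      refine ⟨⟨n⁻¹ * z * n, hQS hz'⟩, hz', ?_⟩
      show n * (n⁻¹ * z * n) * n⁻¹ = z
      group
    · rintro ⟨⟨w, hwS⟩, hw, rfl⟩
      show n * w * n⁻¹ ∈ Q
      exact conj_mem_of_mem_normalizer hnQ hw
  have hχ' := cast_mem E hQ' hχ
  refine mem_of_eq E hχ' (fun z => ?_)
  have hq : n⁻¹ * (z : G) * n ∈ Q := conj_mem_of_mem_normalizer' hnQ z.2
  have hφx : conjHom Q y ⟨n⁻¹ * (z : G) * n, hq⟩ ∈ S :=
    hQS (conj_mem_of_mem_normalizer hy.1 hq)
  have hval : ((α ⟨n⁻¹ * (z : G) * n, hQS hq⟩ : S) : G) = z := by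
    show n * (n⁻¹ * (z : G) * n) * n⁻¹ = z
    group
  have hαx : ((α ⟨n⁻¹ * (z : G) * n, hQS hq⟩ : S) : G) ∈
      (Q.subgroupOf S).map (S.subtype.comp α.toMonoidHom) := by
    rw [hval, ← hQ']; exact z.2
  have h1 := hχeq ⟨n⁻¹ * (z : G) * n, hq⟩ hφx hαx
  have e : (Subgroup.inclusion hQ'.le z :
      ↥((Q.subgroupOf S).map (S.subtype.comp α.toMonoidHom))) =
      ⟨(α ⟨n⁻¹ * (z : G) * n, hQS hq⟩ : S), hαx⟩ := by
    apply Subtype.ext
    exact hval.symm
  show (n * y * n⁻¹) * (z : G) * (n * y * n⁻¹)⁻¹ = χ (Subgroup.inclusion hQ'.le z)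
  rw [e, h1]
  show _ = n * (y * (n⁻¹ * (z : G) * n) * y⁻¹) * n⁻¹
  group

/-- Frattini: every `m ∈ N_G(Q)` is `n * a` with `n ∈ N_G(S)` and `a ∈ A` -/
theorem exists_factor (hQS : Q ≤ S)
    (hNQ : Subgroup.normalizer (S : Set G) ≤ Subgroup.normalizer (Q : Set G))
    (hfrat : FratCond E (groupFusionSystem S)) {m : G}
    (hm : m ∈ Subgroup.normalizer (Q : Set G)) :
    ∃ n ∈ Subgroup.normalizer (S : Set G), InA E Q (n⁻¹ * m) := by
  have hφ : conjHom Q m ∈ (groupFusionSystem S).Hom Q := by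
    refine conjHom_mem_group hQS m ?_
    rw [conjSub_eq_of_mem_normalizer hm]; exact hQS
  obtain ⟨α, hα, φ₀, hφ₀, hform⟩ := hfrat Q hQS (conjHom Q m) hφ
  obtain ⟨n, hn⟩ := (group_mem_autGroup_iff le_rfl α).mp hα
  have hnS := Cfsg.Agent.Lib.Helper85_GroupFusion.mem_normalizer_of_aut α n hn
  refine ⟨n, hnS, Subgroup.mul_mem _ (Subgroup.inv_mem _ (hNQ hnS)) hm, ?_⟩
  refine mem_of_eq E hφ₀ (fun q => ?_)
  have h1 := hform q (apply_mem E hφ₀ q)
  rw [hn] at h1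
  -- h1 : conjHom Q m q = n * φ₀ q * n⁻¹
  have h2 : m * (q : G) * m⁻¹ = n * φ₀ q * n⁻¹ := h1
  show (n⁻¹ * m) * (q : G) * (n⁻¹ * m)⁻¹ = φ₀ q
  have : φ₀ q = n⁻¹ * (m * (q : G) * m⁻¹) * n := by rw [h2]; group
  rw [this]; group

/-- conjugates of elements of `S` under `N_G(Q)` lie in `A` -/
theorem InA.of_conj (hQS : Q ≤ S)
    (hNQ : Subgroup.normalizer (S : Set G) ≤ Subgroup.normalizer (Q : Set G))
    (hinv : InvCond E (groupFusionSystem S)) (hfrat : FratCond E (groupFusionSystem S))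
    {m s : G} (hm : m ∈ Subgroup.normalizer (Q : Set G)) (hs : s ∈ S) :
    InA E Q (m * s * m⁻¹) := by
  obtain ⟨n, hnS, ha⟩ := exists_factor E hQS hNQ hfrat hm
  have hSQ : S ≤ Subgroup.normalizer (Q : Set G) := Subgroup.le_normalizer.trans hNQ
  have h1 : InA E Q ((n⁻¹ * m) * s * (n⁻¹ * m)⁻¹) :=
    (ha.mul E (InA.of_mem E hQS hSQ hs)).mul E (ha.inv E)
  have h2 := InA.conj_normalizer E hQS hinv hnS (hNQ hnS) h1
  have e : n * ((n⁻¹ * m) * s * (n⁻¹ * m)⁻¹) * n⁻¹ = m * s * m⁻¹ := by group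
  rwa [e] at h2

end

section

variable {S : Subgroup G} (E : FusionSystem S) {Q : Subgroup G}

/-- receptivity of the normal subgroup `Q`: an element of `N_G(S) ∩ A` induces a map of `E` on `S` -/
theorem conjHom_mem_of_inA [Finite G] {p : ℕ} [Fact p.Prime] (hSp : IsPGroup p S)
    (hEsat : E.IsSaturated p) (hsub : E.IsSubsystemOf (groupFusionSystem S))
    (hQS : Q ≤ S) (hSQ : S ≤ Subgroup.normalizer (Q : Set G))
    (hcen : ∀ c : G, (∀ q ∈ Q, c * q = q * c) → c ∈ S)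
    {g : G} (hgS : g ∈ Subgroup.normalizer (S : Set G)) (hg : InA E Q g) :
    conjHom S g ∈ E.Hom S := by
  -- `Q` is fully normalized
  have hfn : E.IsFullyNormalized Q := by
    refine ⟨hQS, fun Q' _ => ?_⟩
    have h1 : normalizerIn S Q = S := by
      unfold normalizerIn
      exact inf_eq_left.mpr hSQ
    rw [h1]
    exact Subgroup.card_le_of_le (inf_le_left)
  have hrec := Cfsg.Agent.Lib.Helper84_FusionRS.IsSaturated.isReceptive_of_isFullyNormalized hSp hEsat hfn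
  have hr : (conjHom Q g).range = Q := by
    rw [range_conjHom]; exact conjSub_eq_of_mem_normalizer hg.1
  obtain ⟨ψ, hψ, hψeq⟩ := hrec.2 Q (conjHom Q g) hg.2 hr
  -- the extender is `S`
  have hext : S = extender S Q (conjHom Q g) := by
    apply le_antisymm
    · intro s hs
      rw [Cfsg.Agent.Lib.Helper84_FusionRS.mem_extender_iff]
      refine ⟨hs, hSQ hs, g * s * g⁻¹, conj_mem_of_mem_normalizer hgS hs, fun x hx => ?_⟩
      show g * (s * (x : G) * s⁻¹) * g⁻¹ = (g * s * g⁻¹) * (g * (x : G) * g⁻¹) * (g * s * g⁻¹)⁻¹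
      group
    · exact Cfsg.Agent.Lib.Helper84_FusionRS.extender_le' _
  have hψ' := cast_mem E hext hψ
  obtain ⟨-, -, n, hn⟩ := hsub S hψ'
  -- `g⁻¹ n` centralizes `Q`
  have hc : g⁻¹ * n ∈ S := by
    apply hcen
    intro q hq
    have h1 := hn ⟨q, hQS hq⟩
    have h2 := hψeq q hq (hext.le (hQS hq))
    have h3 : n * q * n⁻¹ = g * q * g⁻¹ := by
      rw [← h1]
      exact h2
    calc g⁻¹ * n * q = g⁻¹ * (n * q * n⁻¹) * n := by group
      _ = g⁻¹ * (g * q * g⁻¹) * n := by rw [h3]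
      _ = q * (g⁻¹ * n) := by group
  have hcinv : (g⁻¹ * n)⁻¹ ∈ S := S.inv_mem hc
  have hconj := E.conj_mem (le_refl S) hcinv
  have hmem : ∀ x : S, conjHom S (g⁻¹ * n)⁻¹ x ∈ S := fun x =>
    S.mul_mem (S.mul_mem hcinv x.2) (S.inv_mem hcinv)
  refine mem_of_eq E (E.comp_mem hconj hψ' hmem) (fun x => ?_)
  show g * (x : G) * g⁻¹ = (ψ.comp (Subgroup.inclusion hext.le))
    ⟨(g⁻¹ * n)⁻¹ * (x : G) * (g⁻¹ * n)⁻¹⁻¹, hmem x⟩
  rw [hn]
  show g * (x : G) * g⁻¹ = n * ((g⁻¹ * n)⁻¹ * (x : G) * (g⁻¹ * n)⁻¹⁻¹) * n⁻¹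
  group

end

theorem isSimple_of_fusLocal {G : Type*} [Group G] [Finite G] (p : ℕ) [Fact p.Prime]
    (S : Sylow p G) (Q : Subgroup G) (h : FusLocal (S : Subgroup G) Q) :
    (Cfsg.groupFusionSystem (S : Subgroup G)).IsSimple p := by
  classical
  obtain ⟨hne, hsc, hQS, hnorm, hcen, hgen⟩ := h
  have hsat := group_isSaturated S
  refine ⟨hsat, hne, ?_⟩
  intro T E hE
  obtain ⟨⟨hEsat, -, hsub, hstrong, hinv, hfrat⟩, -⟩ := hE
  by_cases hT : T = ⊥
  · left; exact hT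
  right
  have hTS : T ≤ (S : Subgroup G) := hstrong.1
  -- strong closure for elements
  have hSC : ∀ t ∈ T, ∀ g : G, g * t * g⁻¹ ∈ (S : Subgroup G) → g * t * g⁻¹ ∈ T := by
    intro t ht g hg
    have hR : Subgroup.zpowers t ≤ T := Subgroup.zpowers_le.mpr ht
    have hφ : Cfsg.conjHom (Subgroup.zpowers t) g ∈
        (Cfsg.groupFusionSystem (S : Subgroup G)).Hom (Subgroup.zpowers t) := by
      refine ⟨hR.trans hTS, ?_, g, fun x => rfl⟩
      rintro ⟨x, hx⟩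
      obtain ⟨k, rfl⟩ := Subgroup.mem_zpowers_iff.mp hx
      show g * t ^ k * g⁻¹ ∈ (S : Subgroup G)
      have : g * t ^ k * g⁻¹ = (g * t * g⁻¹) ^ k := by rw [conj_zpow]
      rw [this]
      exact Subgroup.zpow_mem _ hg k
    exact hstrong.2 _ hR _ hφ ⟨t, Subgroup.mem_zpowers t⟩
  have hTeq : T = (S : Subgroup G) := hsc T hTS hT hSC
  subst hTeq
  -- normalizer facts
  have hNQ : Subgroup.normalizer ((S : Subgroup G) : Set G) ≤ Subgroup.normalizer (Q : Set G) := by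
    intro n hn
    exact mem_normalizer_of_forall (hnorm n (fun s hs => conj_mem_of_mem_normalizer hn hs))
  have hSQ : (S : Subgroup G) ≤ Subgroup.normalizer (Q : Set G) := Subgroup.le_normalizer.trans hNQ
  have hinv' : InvCond E (groupFusionSystem (S : Subgroup G)) := hinv
  have hfrat' : FratCond E (groupFusionSystem (S : Subgroup G)) := hfrat
  -- `N_G(S) ⊆ A`
  have hA' : ∀ x ∈ Subgroup.closure {x : G | ∃ m : G, (∀ q ∈ Q, m * q * m⁻¹ ∈ Q) ∧
      ∃ s ∈ (S : Subgroup G), x = m * s * m⁻¹}, InA E Q x := by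
    intro x hcl
    induction hcl using Subgroup.closure_induction with
    | mem x hx =>
      obtain ⟨m, hm, s, hs, rfl⟩ := hx
      exact InA.of_conj E hQS hNQ hinv' hfrat' (mem_normalizer_of_forall hm) hs
    | one => exact InA.of_mem E hQS hSQ (Subgroup.one_mem _)
    | mul x y _ _ hx hy => exact hx.mul E hy
    | inv x _ hx => exact hx.inv E
  have hA : ∀ n ∈ Subgroup.normalizer ((S : Subgroup G) : Set G), InA E Q n := by
    intro n hn
    exact hA' n (hgen n (fun s hs => conj_mem_of_mem_normalizer hn hs))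
  -- the key claim
  have hKEY : ∀ m ∈ Subgroup.normalizer ((S : Subgroup G) : Set G),
      conjHom (S : Subgroup G) m ∈ E.Hom (S : Subgroup G) := by
    intro m hm
    exact conjHom_mem_of_inA E S.isPGroup' hEsat hsub hQS hSQ hcen hm (hA m hm)
  refine ⟨rfl, fun P => Set.Subset.antisymm (hsub P) ?_⟩
  intro φ hφ
  have hP : P ≤ (S : Subgroup G) :=
    ((Cfsg.groupFusionSystem (S : Subgroup G)).le_of_mem hφ).1
  obtain ⟨α, hα, φ₀, hφ₀, hform⟩ := hfrat P hP φ hφ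
  obtain ⟨m, hm⟩ := (group_mem_autGroup_iff le_rfl α).mp hα
  have hmN := Cfsg.Agent.Lib.Helper85_GroupFusion.mem_normalizer_of_aut α m hm
  have hconj := hKEY m hmN
  have hφ₀S := (E.le_of_mem hφ₀).2
  have hcomp := E.comp_mem hφ₀ hconj hφ₀S
  have heq : φ = (Cfsg.conjHom (S : Subgroup G) m).comp (φ₀.codRestrict _ hφ₀S) := by
    apply MonoidHom.ext
    intro x
    rw [hform x (hφ₀S x), hm]
    rfl
  rw [heq]
  exact hcomp

end Cfsg.Agent.Lib.Helper82_Fus_FM
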