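import Mathlib
import Cfsg.Prelude.Def_FusionSystem
import Cfsg.Agent.Lib.Helper85_GroupFusion
import Cfsg.Agent.Lib.Helper84_FusionRS
import Cfsg.Agent.Lib.Helper82_Fus_FM

/-!
# A local criterion with a family of subgroups for the simplicity of `F_S(G)` (helper88)

`FusLocalFam S Q` generalises helper26's `FusLocal S Q` to a family `Q i` of subgroups of `S`:

* `S` has no proper non-trivial strongly closed subgroup;
* `N_G(S)` normalises every `Q i`, `C_G(Q i) ≤ S`, and `N_G(S)` is generated by the elements of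
  `N_G(S)` lying in some `⟨S ^ N_G(Q i)⟩`.

Then `F_S(G)` is simple (`isSimple_of_fusLocalFam`).  The proof reuses helper82's
`InA.of_conj` / `conjHom_mem_of_inA` for each member of the family.
-/

set_option autoImplicit false

namespace Cfsg.Agent.Lib.Helper88_FusFam

open Cfsg Cfsg.FusionSystem Cfsg.Agent.Lib.Helper85_Fusion
  Cfsg.Agent.Lib.Helper85_GroupFusion Cfsg.Agent.Lib.Helper82_Fus_FM

/-- Local hypotheses, for a family of subgroups, for the simplicity of `F_S(G)`. -/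
def FusLocalFam {G : Type*} [Group G] {ι : Type*} (S : Subgroup G) (Q : ι → Subgroup G) : Prop :=
  S ≠ ⊥ ∧
  (∀ T : Subgroup G, T ≤ S → T ≠ ⊥ →
    (∀ t ∈ T, ∀ g : G, g * t * g⁻¹ ∈ S → g * t * g⁻¹ ∈ T) → T = S) ∧
  (∀ i, Q i ≤ S) ∧
  (∀ i, ∀ n : G, (∀ s ∈ S, n * s * n⁻¹ ∈ S) → ∀ q ∈ Q i, n * q * n⁻¹ ∈ Q i) ∧
  (∀ i, ∀ c : G, (∀ q ∈ Q i, c * q = q * c) → c ∈ S) ∧
  (∀ n : G, (∀ s ∈ S, n * s * n⁻¹ ∈ S) →
    n ∈ Subgroup.closure {x : G | (∀ s ∈ S, x * s * x⁻¹ ∈ S) ∧
      ∃ i, x ∈ Subgroup.closure {y : G | ∃ m : G, (∀ q ∈ Q i, m * q * m⁻¹ ∈ Q i) ∧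
        ∃ s ∈ S, y = m * s * m⁻¹}})

theorem isSimple_of_fusLocalFam {G : Type*} [Group G] [Finite G] (p : ℕ) [Fact p.Prime]
    (S : Sylow p G) {ι : Type*} (Q : ι → Subgroup G) (h : FusLocalFam (S : Subgroup G) Q) :
    (Cfsg.groupFusionSystem (S : Subgroup G)).IsSimple p := by
  classical
  obtain ⟨hne, hsc, hQS, hnorm, hcen, hgen⟩ := h
  have hsat := group_isSaturated S
  refine ⟨hsat, hne, ?_⟩
  intro T E hE
  obtain ⟨⟨hEsat, -, hsub, hstrong, hinv, hfrat⟩, -⟩ := hE
  by_cases hT : T = ⊥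
  · left; exact hT
  right
  have hTS : T ≤ (S : Subgroup G) := hstrong.1
  -- strong closure for elements
  have hSC : ∀ t ∈ T, ∀ g : G, g * t * g⁻¹ ∈ (S : Subgroup G) → g * t * g⁻¹ ∈ T := by
    intro t ht g hg
    have hR : Subgroup.zpowers t ≤ T := Subgroup.zpowers_le.mpr ht
    have hφ : Cfsg.conjHom (Subgroup.zpowers t) g ∈
        (Cfsg.groupFusionSystem (S : Subgroup G)).Hom (Subgroup.zpowers t) := by
      refine ⟨hR.trans hTS, ?_, g, fun x => rfl⟩
      rintro ⟨x, hx⟩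
      obtain ⟨k, rfl⟩ := Subgroup.mem_zpowers_iff.mp hx
      show g * t ^ k * g⁻¹ ∈ (S : Subgroup G)
      have : g * t ^ k * g⁻¹ = (g * t * g⁻¹) ^ k := by rw [conj_zpow]
      rw [this]
      exact Subgroup.zpow_mem _ hg k
    exact hstrong.2 _ hR _ hφ ⟨t, Subgroup.mem_zpowers t⟩
  have hTeq : T = (S : Subgroup G) := hsc T hTS hT hSC
  subst hTeq
  -- normalizer facts
  have hNQ : ∀ i, Subgroup.normalizer ((S : Subgroup G) : Set G) ≤
      Subgroup.normalizer (Q i : Set G) := by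
    intro i n hn
    exact mem_normalizer_of_forall (hnorm i n (fun s hs => conj_mem_of_mem_normalizer hn hs))
  have hSQ : ∀ i, (S : Subgroup G) ≤ Subgroup.normalizer (Q i : Set G) :=
    fun i => Subgroup.le_normalizer.trans (hNQ i)
  have hinv' : InvCond E (groupFusionSystem (S : Subgroup G)) := hinv
  have hfrat' : FratCond E (groupFusionSystem (S : Subgroup G)) := hfrat
  -- `⟨S ^ N_G(Q i)⟩ ⊆ A_i`
  have hA' : ∀ i, ∀ x ∈ Subgroup.closure {y : G | ∃ m : G, (∀ q ∈ Q i, m * q * m⁻¹ ∈ Q i) ∧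
      ∃ s ∈ (S : Subgroup G), y = m * s * m⁻¹}, InA E (Q i) x := by
    intro i x hcl
    induction hcl using Subgroup.closure_induction with
    | mem x hx =>
      obtain ⟨m, hm, s, hs, rfl⟩ := hx
      exact InA.of_conj E (hQS i) (hNQ i) hinv' hfrat' (mem_normalizer_of_forall hm) hs
    | one => exact InA.of_mem E (hQS i) (hSQ i) (Subgroup.one_mem _)
    | mul x y _ _ hx hy => exact hx.mul E hy
    | inv x _ hx => exact hx.inv E
  -- the generators of `N_G(S)` induce maps of `E` on `S`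
  have hB' : ∀ x ∈ Subgroup.closure {x : G | (∀ s ∈ (S : Subgroup G), x * s * x⁻¹ ∈ (S : Subgroup G)) ∧
      ∃ i, x ∈ Subgroup.closure {y : G | ∃ m : G, (∀ q ∈ Q i, m * q * m⁻¹ ∈ Q i) ∧
        ∃ s ∈ (S : Subgroup G), y = m * s * m⁻¹}}, InA E (S : Subgroup G) x := by
    intro x hcl
    induction hcl using Subgroup.closure_induction with
    | mem x hx =>
      obtain ⟨hxS, i, hxi⟩ := hx
      have hxN : x ∈ Subgroup.normalizer ((S : Subgroup G) : Set G) := mem_normalizer_of_forall hxS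
      exact ⟨hxN, conjHom_mem_of_inA E S.isPGroup' hEsat hsub (hQS i) (hSQ i) (hcen i) hxN
        (hA' i x hxi)⟩
    | one => exact InA.of_mem E le_rfl Subgroup.le_normalizer (Subgroup.one_mem _)
    | mul x y _ _ hx hy => exact hx.mul E hy
    | inv x _ hx => exact hx.inv E
  -- the key claim
  have hKEY : ∀ m ∈ Subgroup.normalizer ((S : Subgroup G) : Set G),
      conjHom (S : Subgroup G) m ∈ E.Hom (S : Subgroup G) := by
    intro m hm
    exact (hB' m (hgen m (fun s hs => conj_mem_of_mem_normalizer hm hs))).2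
  refine ⟨rfl, fun P => Set.Subset.antisymm (hsub P) ?_⟩
  intro φ hφ
  have hP : P ≤ (S : Subgroup G) :=
    ((Cfsg.groupFusionSystem (S : Subgroup G)).le_of_mem hφ).1
  obtain ⟨α, hα, φ₀, hφ₀, hform⟩ := hfrat P hP φ hφ
  obtain ⟨m, hm⟩ := (group_mem_autGroup_iff le_rfl α).mp hα
  have hmN := Cfsg.Agent.Lib.Helper85_GroupFusion.mem_normalizer_of_aut α m hm
  have hconj := hKEY m hmN
  have hφ₀S := (E.le_of_mem hφ₀).2
  have hcomp := E.comp_mem hφ₀ hconj hφ₀S
  have heq : φ = (Cfsg.conjHom (S : Subgroup G) m).comp (φ₀.codRestrict _ hφ₀S) := by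
    apply MonoidHom.ext
    intro x
    rw [hform x (hφ₀S x), hm]
    rfl
  rw [heq]
  exact hcomp

theorem fusLocalFam_map {G H : Type*} [Group G] [Group H] (e : G ≃* H) {ι : Type*}
    (S : Subgroup G) (Q : ι → Subgroup G) (h : FusLocalFam S Q) :
    FusLocalFam (S.map e.toMonoidHom) (fun i => (Q i).map e.toMonoidHom) := by
  obtain ⟨h1, h2, h3, h4, h5, h6⟩ := h
  have hmem : ∀ (K : Subgroup G) (y : H), y ∈ K.map e.toMonoidHom ↔ e.symm y ∈ K :=
    fun K y => Subgroup.mem_map_equiv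
  have hmem' : ∀ (K : Subgroup G) (x : G), e x ∈ K.map e.toMonoidHom ↔ x ∈ K := by
    intro K x
    rw [hmem, MulEquiv.symm_apply_apply]
  have hconj : ∀ a b : H, e.symm (a * b * a⁻¹) = e.symm a * e.symm b * (e.symm a)⁻¹ := by
    intro a b
    rw [map_mul, map_mul, map_inv]
  have hconj' : ∀ a b : G, e (a * b * a⁻¹) = e a * e b * (e a)⁻¹ := by
    intro a b
    rw [map_mul, map_mul, map_inv]
  refine ⟨?_, ?_, ?_, ?_, ?_, ?_⟩
  · intro hb
    apply h1
    exact (Subgroup.map_eq_bot_iff_of_injective S e.injective).mp hb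
  · intro T hT hT0 hcl
    have key : T.comap e.toMonoidHom = S := by
      apply h2
      · intro x hx
        rw [Subgroup.mem_comap] at hx
        exact (hmem' S x).mp (hT hx)
      · intro hb
        apply hT0
        rw [eq_bot_iff]
        intro y hy
        have h7 : e.symm y ∈ T.comap e.toMonoidHom := by
          rw [Subgroup.mem_comap]
          simpa using hy
        rw [hb, Subgroup.mem_bot] at h7
        rw [Subgroup.mem_bot]
        have h8 := congrArg e h7
        simpa using h8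
      · intro t ht g hg
        rw [Subgroup.mem_comap] at ht ⊢
        have h7 := hcl (e t) ht (e g) (by rw [← hconj']; exact (hmem' S _).mpr hg)
        rw [← hconj'] at h7
        exact h7
    rw [← key]
    ext y
    rw [hmem, Subgroup.mem_comap]
    simp
  · intro i
    exact Subgroup.map_mono (h3 i)
  · intro i n hn q hq
    rw [hmem] at hq ⊢
    rw [hconj]
    apply h4 i (e.symm n) _ _ hq
    intro s hs
    have h7 := hn (e s) ((hmem' S s).mpr hs)
    rw [hmem, hconj, MulEquiv.symm_apply_apply] at h7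
    exact h7
  · intro i c hc
    rw [hmem]
    apply h5 i
    intro q hq
    have h7 := hc (e q) ((hmem' (Q i) q).mpr hq)
    have h8 := congrArg e.symm h7
    rw [map_mul, map_mul, MulEquiv.symm_apply_apply] at h8
    exact h8
  · intro n hn
    have hn' : ∀ s ∈ S, e.symm n * s * (e.symm n)⁻¹ ∈ S := by
      intro s hs
      have h7 := hn (e s) ((hmem' S s).mpr hs)
      rw [hmem, hconj, MulEquiv.symm_apply_apply] at h7
      exact h7
    have h7 := h6 (e.symm n) hn'
    have hin : ∀ i, Subgroup.closure {y : G | ∃ m : G, (∀ q ∈ Q i, m * q * m⁻¹ ∈ Q i) ∧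
        ∃ s ∈ S, y = m * s * m⁻¹} ≤
        (Subgroup.closure {y : H | ∃ m : H, (∀ q ∈ (Q i).map e.toMonoidHom,
          m * q * m⁻¹ ∈ (Q i).map e.toMonoidHom) ∧
          ∃ s ∈ S.map e.toMonoidHom, y = m * s * m⁻¹}).comap e.toMonoidHom := by
      intro i
      rw [Subgroup.closure_le]
      rintro x ⟨m, hm, s, hs, rfl⟩
      rw [SetLike.mem_coe, Subgroup.mem_comap]
      apply Subgroup.subset_closure
      refine ⟨e m, ?_, e s, (hmem' S s).mpr hs, ?_⟩
      · intro q hq
        rw [hmem] at hq ⊢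
        rw [hconj, MulEquiv.symm_apply_apply]
        exact hm _ hq
      · exact hconj' m s
    have hle : Subgroup.closure {x : G | (∀ s ∈ S, x * s * x⁻¹ ∈ S) ∧
        ∃ i, x ∈ Subgroup.closure {y : G | ∃ m : G, (∀ q ∈ Q i, m * q * m⁻¹ ∈ Q i) ∧
          ∃ s ∈ S, y = m * s * m⁻¹}} ≤
        (Subgroup.closure {x : H | (∀ s ∈ S.map e.toMonoidHom,
            x * s * x⁻¹ ∈ S.map e.toMonoidHom) ∧
          ∃ i, x ∈ Subgroup.closure {y : H | ∃ m : H, (∀ q ∈ (Q i).map e.toMonoidHom,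
            m * q * m⁻¹ ∈ (Q i).map e.toMonoidHom) ∧
            ∃ s ∈ S.map e.toMonoidHom, y = m * s * m⁻¹}}).comap e.toMonoidHom := by
      rw [Subgroup.closure_le]
      rintro x ⟨hxS, i, hxi⟩
      rw [SetLike.mem_coe, Subgroup.mem_comap]
      apply Subgroup.subset_closure
      refine ⟨?_, i, ?_⟩
      · intro s hs
        rw [hmem] at hs ⊢
        have h8 : e.symm (e.toMonoidHom x * s * (e.toMonoidHom x)⁻¹) =
            x * e.symm s * x⁻¹ := by
          rw [hconj]
          simp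
        rw [h8]
        exact hxS _ hs
      · have h8 := hin i hxi
        rwa [Subgroup.mem_comap] at h8
    have h8 := hle h7
    rw [Subgroup.mem_comap] at h8
    simpa using h8

/-- transport along an isomorphism and to an arbitrary Sylow subgroup -/
theorem exists_fusLocalFam_of_iso {G G₀ : Type*} [Group G] [Group G₀] [Finite G] [Finite G₀]
    (e : G ≃* G₀) (p : ℕ) [Fact p.Prime] (S₀ : Sylow p G₀) {ι : Type*} (Q₀ : ι → Subgroup G₀)
    (h : FusLocalFam (S₀ : Subgroup G₀) Q₀) (S : Sylow p G) :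
    ∃ Q : ι → Subgroup G, FusLocalFam (S : Subgroup G) Q := by
  have h1 := fusLocalFam_map e.symm (S₀ : Subgroup G₀) Q₀ h
  obtain ⟨S₁, hS₁⟩ : ∃ S₁ : Sylow p G,
      (S₁ : Subgroup G) = (S₀ : Subgroup G₀).map e.symm.toMonoidHom :=
    ⟨Sylow.mapSurjective (f := e.symm.toMonoidHom) e.symm.surjective S₀, rfl⟩
  obtain ⟨g, hg⟩ := MulAction.exists_smul_eq G S₁ S
  have h2 := fusLocalFam_map (MulAut.conj g) _ _ h1
  refine ⟨fun i => ((Q₀ i).map e.symm.toMonoidHom).map (MulAut.conj g).toMonoidHom, ?_⟩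
  have h3 : (S : Subgroup G) =
      ((S₀ : Subgroup G₀).map e.symm.toMonoidHom).map (MulAut.conj g).toMonoidHom := by
    rw [← hg, Sylow.coe_subgroup_smul, hS₁]
    ext x
    rw [Subgroup.mem_smul_pointwise_iff_exists, Subgroup.mem_map]
    rfl
  rw [h3]
  exact h2

/-- If some Sylow `p`-subgroup satisfies `FusLocalFam`, the fusion system on every Sylow
`p`-subgroup is simple. -/
theorem isSimple_of_exists_fusLocalFam {G : Type*} [Group G] [Finite G] (p : ℕ) [Fact p.Prime]
    (S₀ : Sylow p G) {ι : Type*} (Q₀ : ι → Subgroup G)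
    (h : FusLocalFam (S₀ : Subgroup G) Q₀) (S : Sylow p G) :
    (Cfsg.groupFusionSystem (S : Subgroup G)).IsSimple p := by
  obtain ⟨Q, hQ⟩ := exists_fusLocalFam_of_iso (MulEquiv.refl G) p S₀ Q₀ h S
  exact isSimple_of_fusLocalFam p S Q hQ

end Cfsg.Agent.Lib.Helper88_FusFam
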