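import Mathlib
import Cfsg.Prelude.Def_Classical
import Cfsg.Prelude.Def_ClassicalGeometry
import Cfsg.Agent.S0246
import Cfsg.Agent.Lib.Helper13_Symp
import Cfsg.Agent.Lib.Helper13_SympTrans
import Cfsg.Agent.Lib.Helper44_SpUT
import Cfsg.Agent.Lib.Helper11_SpFusDefs

/-!
# S5171 package CQ_2 (helper99 for helper11): the centraliser of the Siegel radical lies in `Z * USp`
-/

set_option autoImplicit false

namespace Cfsg.Agent.Lib.Helper99_S5171_CQ_2

open Matrix Cfsg.Agent.Lib.Helper44_PSLnUT Cfsg.Agent.Lib.Helper5_SpPerfect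
  Cfsg.Agent.Lib.Helper44_SpUT Cfsg.Agent.Lib.Helper13_Symp Cfsg.Agent.Lib.Helper11_SpFusDefs

variable {F : Type*} [Field F]

/-- the Siegel elements lie in the Siegel radical -/
theorem Xg_mem_QSieg {m : ℕ} (T : Matrix (Fin m) (Fin m) F) (hT : Tᵀ = T) :
    Xg T hT ∈ QSieg m F := by
  refine ⟨Xg_mem_USp hT, fun i => ?_⟩
  rw [mulVec_eL]
  funext a
  show Xmat T a (Sum.inl i) = eL i a
  rcases a with j | j
  · simp [Xmat, eL, Matrix.one_apply, Pi.single_apply]
  · simp [Xmat, eL]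

/-- block consequences of commuting with a Siegel element -/
theorem comm_blocks {m : ℕ} (c : symplecticGroup (Fin m) F)
    (T : Matrix (Fin m) (Fin m) F) (hT : Tᵀ = T) (h : c * Xg T hT = Xg T hT * c) :
    T * c.1.toBlocks₂₁ = 0 ∧
      c.1.toBlocks₁₁ * T + c.1.toBlocks₁₂ = c.1.toBlocks₁₂ + T * c.1.toBlocks₂₂ := by
  have h1 : c.1 * Xmat T = Xmat T * c.1 := congrArg Subtype.val h
  set P := c.1.toBlocks₁₁ with hP
  set Q := c.1.toBlocks₁₂ with hQ
  set R := c.1.toBlocks₂₁ with hR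
  set S := c.1.toBlocks₂₂ with hS
  have hc : c.1 = fromBlocks P Q R S := (fromBlocks_toBlocks _).symm
  rw [hc] at h1
  unfold Xmat at h1
  simp only [fromBlocks_multiply, Matrix.mul_one, Matrix.mul_zero, add_zero, Matrix.one_mul,
    Matrix.zero_mul, zero_add] at h1
  rw [Matrix.fromBlocks_inj] at h1
  obtain ⟨h11, h12, -, -⟩ := h1
  refine ⟨?_, h12⟩
  have : P + 0 = P + T * R := by rw [add_zero]; exact h11
  exact (add_left_cancel this).symm

/-- a matrix commuting with all symmetric matrices is scalar -/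
theorem scalar_of_comm_symm {m : ℕ} (P : Matrix (Fin m) (Fin m) F)
    (h : ∀ T : Matrix (Fin m) (Fin m) F, Tᵀ = T → P * T = T * P) (i₀ : Fin m) :
    ∀ i j : Fin m, P i j = if i = j then P i₀ i₀ else 0 := by
  have hdiag : ∀ i j : Fin m, i ≠ j → P i j = 0 := by
    intro i j hij
    have h1 := h (Matrix.single j j (1 : F)) (by rw [Matrix.transpose_single])
    have h2 := congrFun (congrFun h1 i) j
    rw [Matrix.mul_apply, Matrix.mul_apply] at h2
    simp only [Matrix.single_apply] at h2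
    simpa [hij, Finset.sum_ite_eq, Finset.sum_ite_eq', eq_comm] using h2
  have heq : ∀ i j : Fin m, i ≠ j → P i i = P j j := by
    intro i j hij
    have h1 := h (Matrix.single i j (1 : F) + Matrix.single j i 1)
      (by rw [Matrix.transpose_add, Matrix.transpose_single, Matrix.transpose_single, add_comm])
    have h2 := congrFun (congrFun h1 i) j
    rw [Matrix.mul_add, Matrix.add_mul, Matrix.add_apply, Matrix.add_apply,
      Matrix.mul_single_apply_same, Matrix.mul_single_apply_of_ne (hbj := Ne.symm hij),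
      Matrix.single_mul_apply_same, Matrix.single_mul_apply_of_ne (h := hij),
      add_zero, add_zero, mul_one, one_mul] at h2
    exact h2
  intro i j
  by_cases hij : i = j
  · subst hij
    rw [if_pos rfl]
    by_cases hi : i = i₀
    · rw [hi]
    · exact heq i i₀ hi
  · rw [if_neg hij]
    exact hdiag i j hij

/-- the central element `-1` -/
def negOne (m : ℕ) : symplecticGroup (Fin m) F :=
  ⟨-1, SymplecticGroup.neg_mem (one_mem _)⟩

theorem negOne_mem_center (m : ℕ) :
    (negOne m : symplecticGroup (Fin m) F) ∈ Subgroup.center (symplecticGroup (Fin m) F) := by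
  rw [Subgroup.mem_center_iff]
  intro g
  apply Subtype.ext
  show g.1 * (-1 : Matrix (Fin m ⊕ Fin m) (Fin m ⊕ Fin m) F) = (-1) * g.1
  simp

/-- CQ_2 (M, ~150 lines). `c = [P Q; R S]` commuting with all `Xg T` (`T` symmetric): `T R = 0` for all `T`, so `R = 0`;
`P T = T S` with `S = P⁻ᵀ`: `P T Pᵀ = T` for all symmetric `T`; `T = E_ii`: `P e_i = ± e_i`; `T = E_ij + E_ji`: equal
signs; so `P = ± 1`, and `± c = Xg (…) ∈ USp`. (`m = k + 2 ≥ 2`.) -/
theorem CQ_2 {k : ℕ} (c : symplecticGroup (Fin (k + 2)) F)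
    (hc : ∀ q ∈ QSieg (k + 2) F, c * q = q * c) :
    ∃ z ∈ Subgroup.center (symplecticGroup (Fin (k + 2)) F), c * z ∈ USp (k + 2) F := by
  have hcomm : ∀ (T : Matrix (Fin (k + 2)) (Fin (k + 2)) F) (hT : Tᵀ = T),
      T * c.1.toBlocks₂₁ = 0 ∧
        c.1.toBlocks₁₁ * T + c.1.toBlocks₁₂ = c.1.toBlocks₁₂ + T * c.1.toBlocks₂₂ :=
    fun T hT => comm_blocks c T hT (hc _ (Xg_mem_QSieg T hT))
  have hR : c.1.toBlocks₂₁ = 0 := by
    have := (hcomm 1 Matrix.transpose_one).1
    rwa [Matrix.one_mul] at this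
  have hPT : ∀ T : Matrix (Fin (k + 2)) (Fin (k + 2)) F, Tᵀ = T →
      c.1.toBlocks₁₁ * T = T * c.1.toBlocks₂₂ := by
    intro T hT
    have := (hcomm T hT).2
    rw [add_comm (c.1.toBlocks₁₁ * T)] at this
    exact add_left_cancel this
  have hPS : c.1.toBlocks₁₁ = c.1.toBlocks₂₂ := by
    have := hPT 1 Matrix.transpose_one
    rwa [Matrix.mul_one, Matrix.one_mul] at this
  obtain ⟨hPtS, -⟩ := block_data hR
  rw [← hPS] at hPtS
  have hPcomm : ∀ T : Matrix (Fin (k + 2)) (Fin (k + 2)) F, Tᵀ = T →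
      c.1.toBlocks₁₁ * T = T * c.1.toBlocks₁₁ := by
    intro T hT
    rw [hPT T hT, ← hPS]
  have hscal := scalar_of_comm_symm c.1.toBlocks₁₁ hPcomm 0
  set p := c.1.toBlocks₁₁ 0 0 with hp
  have hpp : p * p = 1 := by
    have h1 := congrFun (congrFun hPtS 0) 0
    rw [Matrix.mul_apply, Matrix.one_apply_eq] at h1
    rw [Finset.sum_eq_single (0 : Fin (k + 2))] at h1
    · rw [Matrix.transpose_apply] at h1
      exact h1
    · intro l _ hl
      rw [Matrix.transpose_apply, hscal l 0, if_neg hl, zero_mul]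
    · intro hh; exact absurd (Finset.mem_univ _) hh
  rcases mul_self_eq_one_iff.mp hpp with h1 | h1
  · refine ⟨1, Subgroup.one_mem _, ?_⟩
    rw [mul_one]
    refine ⟨hR, ?_⟩
    have : c.1.toBlocks₁₁ = 1 := by
      ext i j
      rw [hscal i j, h1, Matrix.one_apply]
    rw [this]
    exact isUT_one
  · refine ⟨negOne (k + 2), negOne_mem_center _, ?_⟩
    have hval : ((c * negOne (k + 2) : symplecticGroup (Fin (k + 2)) F) :
        Matrix (Fin (k + 2) ⊕ Fin (k + 2)) (Fin (k + 2) ⊕ Fin (k + 2)) F) = -c.1 := by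
      show c.1 * (-1 : Matrix (Fin (k + 2) ⊕ Fin (k + 2)) (Fin (k + 2) ⊕ Fin (k + 2)) F) = -c.1
      simp
    refine ⟨?_, ?_⟩
    · show ((c * negOne (k + 2) : symplecticGroup (Fin (k + 2)) F) :
        Matrix (Fin (k + 2) ⊕ Fin (k + 2)) (Fin (k + 2) ⊕ Fin (k + 2)) F).toBlocks₂₁ = 0
      rw [hval]
      ext i j
      have := congrFun (congrFun hR i) j
      simp only [Matrix.toBlocks₂₁, Matrix.of_apply, Matrix.neg_apply, Matrix.zero_apply] at this ⊢
      rw [this, neg_zero]
    · show IsUT ((c * negOne (k + 2) : symplecticGroup (Fin (k + 2)) F) :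
        Matrix (Fin (k + 2) ⊕ Fin (k + 2)) (Fin (k + 2) ⊕ Fin (k + 2)) F).toBlocks₁₁
      rw [hval]
      have hneg : (-c.1).toBlocks₁₁ = -(c.1.toBlocks₁₁) := by
        ext i j; rfl
      have : (-c.1).toBlocks₁₁ = (1 : Matrix (Fin (k + 2)) (Fin (k + 2)) F) := by
        rw [hneg]
        ext i j
        rw [Matrix.neg_apply, hscal i j, h1, Matrix.one_apply]
        by_cases hij : i = j
        · rw [if_pos hij, if_pos hij, neg_neg]
        · rw [if_neg hij, if_neg hij, neg_zero]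
      rw [this]
      exact isUT_one

end Cfsg.Agent.Lib.Helper99_S5171_CQ_2
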