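import Mathlib
import Cfsg.Prelude.Def_FusionComponents
import Cfsg.Prelude.Def_Classical
import Cfsg.Agent.S0246
import Cfsg.Agent.Lib.Helper88_FusFam
import Cfsg.Agent.Lib.Helper11_SpFusDefs
import Cfsg.Agent.Lib.Helper10_S5171_GEN_DEC
import Cfsg.Agent.Lib.Helper10_S5171_QCHAR
import Cfsg.Agent.Lib.Helper52_S5171_SC_SIEG_B
import Cfsg.Agent.Lib.Helper52_S5171_SC_Z
import Cfsg.Agent.Lib.Helper54_S5171_SC_LONG_B
import Cfsg.Agent.Lib.Helper63_S5171_BN
import Cfsg.Agent.Lib.Helper63_S5171_PEL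
import Cfsg.Agent.Lib.Helper70_S5171_SC_LONG_C
import Cfsg.Agent.Lib.Helper86_S5171_SC_LEVI_B
import Cfsg.Agent.Lib.Helper99_S5171_CQ_2
import Cfsg.Agent.Lib.Helper32_S5171_SC_LEVI_A
import Cfsg.Agent.Lib.Helper32_S5171_SC_SIEG_A
import Cfsg.Agent.Lib.Helper54_S5171_SC_LONG_A
import Cfsg.Agent.Lib.Helper7_S5171_GEN_2
import Cfsg.Agent.Lib.Helper4_S5171_NB_B
import Cfsg.Agent.Lib.Helper52_S5171_CQ_1
import Cfsg.Agent.Lib.Helper7_S5171_GEN_1

/-!
# The `p`-fusion system of `PSp_{2m}(K)`, `char K = p`, is simple (helper11, S5171): assembly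

The packages (see `pending/helper11/S5171_packages.lean.txt`) work inside `Sp`; this file passes to `PSp` and
verifies the hypotheses of `Helper88_FusFam.isSimple_of_exists_fusLocalFam`.
-/

set_option autoImplicit false

namespace Cfsg.Agent.Lib.Helper11_SpFusMain

open Matrix Cfsg.Agent.Lib.Helper44_PSLnUT Cfsg.Agent.Lib.Helper5_SpPerfect
  Cfsg.Agent.Lib.Helper44_SpUT Cfsg.Agent.Lib.Helper13_Symp Cfsg.Agent.Lib.Helper11_SpFusDefs
  Cfsg.Agent.Lib.Helper88_FusFam
open Cfsg.Agent.Lib.Helper63_S5171_PEL (PEL)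
open Cfsg.Agent.Lib.Helper52_S5171_SC_Z (SC_Z)
open Cfsg.Agent.Lib.Helper54_S5171_SC_LONG_B (SC_LONG_B)
open Cfsg.Agent.Lib.Helper70_S5171_SC_LONG_C (SC_LONG_C)
open Cfsg.Agent.Lib.Helper52_S5171_SC_SIEG_B (SC_SIEG_B)
open Cfsg.Agent.Lib.Helper86_S5171_SC_LEVI_B (SC_LEVI_B)
open Cfsg.Agent.Lib.Helper63_S5171_BN (BN)
open Cfsg.Agent.Lib.Helper10_S5171_QCHAR (normalizes_Q)
open Cfsg.Agent.Lib.Helper99_S5171_CQ_2 (CQ_2)
open Cfsg.Agent.Lib.Helper10_S5171_GEN_DEC (GEN_DEC)
open Cfsg.Agent.Lib.Helper54_S5171_SC_LONG_A (SC_LONG_A)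
open Cfsg.Agent.Lib.Helper32_S5171_SC_SIEG_A (SC_SIEG_A)
open Cfsg.Agent.Lib.Helper32_S5171_SC_LEVI_A (SC_LEVI_A)
open Cfsg.Agent.Lib.Helper7_S5171_GEN_2 (GEN_2)
open Cfsg.Agent.Lib.Helper4_S5171_NB_B (NB_B)
open Cfsg.Agent.Lib.Helper52_S5171_CQ_1 (CQ_1)
open Cfsg.Agent.Lib.Helper7_S5171_GEN_1 (GEN_1)

variable {F : Type*} [Field F]

/-- the projection `Sp → PSp` -/
def proj {m : ℕ} : symplecticGroup (Fin m) F →* Cfsg.PSp m F :=
  QuotientGroup.mk' (Subgroup.center (symplecticGroup (Fin m) F))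

theorem proj_surjective {m : ℕ} : Function.Surjective (proj (F := F) (m := m)) :=
  QuotientGroup.mk'_surjective _

theorem proj_eq_iff {m : ℕ} (a b : symplecticGroup (Fin m) F) :
    proj a = proj b ↔ ∃ z ∈ Subgroup.center (symplecticGroup (Fin m) F), a = b * z := by
  unfold proj
  rw [QuotientGroup.mk'_eq_mk']
  constructor
  · rintro ⟨z, hz, h⟩
    exact ⟨z⁻¹, Subgroup.inv_mem _ hz, by rw [← h, mul_inv_cancel_right]⟩
  · rintro ⟨z, hz, h⟩
    exact ⟨z⁻¹, Subgroup.inv_mem _ hz, by rw [h, mul_inv_cancel_right]⟩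

/-- the image of `USp` in `PSp` -/
def USpbar (m : ℕ) (F : Type*) [Field F] : Subgroup (Cfsg.PSp m F) := (USp m F).map proj

section pel

variable {m : ℕ}

/-- a conjugate of an element of `USp` whose image lies in `USpbar` lies in `USp` -/
theorem conj_mem_USp [Fintype F] (p : ℕ) [Fact p.Prime] [CharP F p]
    (g u : symplecticGroup (Fin m) F) (hu : u ∈ USp m F)
    (h : proj (g * u * g⁻¹) ∈ USpbar m F) : g * u * g⁻¹ ∈ USp m F := by
  obtain ⟨u', hu', hu'e⟩ := h
  obtain ⟨z, hz, hzz⟩ := (proj_eq_iff _ _).mp hu'e.symm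
  have := PEL p g u u' z hu hu' hz hzz
  rw [hzz, this, mul_one]
  exact hu'

theorem proj_injOn [Fintype F] (p : ℕ) [Fact p.Prime] [CharP F p]
    (u u' : symplecticGroup (Fin m) F) (hu : u ∈ USp m F) (hu' : u' ∈ USp m F)
    (h : proj u = proj u') : u = u' := by
  obtain ⟨z, hz, hzz⟩ := (proj_eq_iff _ _).mp h
  have h1 : (1 : symplecticGroup (Fin m) F) * u * 1⁻¹ = u' * z := by
    rw [one_mul, inv_one, mul_one]; exact hzz
  have := PEL p 1 u u' z hu hu' hz h1
  rw [hzz, this, mul_one]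

end pel

theorem xl_zero {k : ℕ} : (xl (0 : F) : symplecticGroup (Fin (k + 1)) F) = 1 := by
  unfold xl
  rw [← Xg_zero]
  exact Xg_congr (by simp) _

theorem zz_zero_right {k : ℕ} (s : F) : (zz s 0 : symplecticGroup (Fin (k + 2)) F) = xl s := by
  unfold zz xl
  exact Xg_congr (by simp) _

theorem zz_eq_mul {k : ℕ} (s t : F) :
    (zz s t : symplecticGroup (Fin (k + 2)) F) = xl s * zz 0 t := by
  unfold zz xl
  rw [Xg_mul]
  exact Xg_congr (by simp) _

theorem Xg_inv {m : ℕ} (S : Matrix (Fin m) (Fin m) F) (hS : Sᵀ = S) :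
    (Xg S hS)⁻¹ = Xg (-S) (by rw [Matrix.transpose_neg, hS]) := by
  rw [inv_eq_iff_mul_eq_one, Xg_mul, ← Xg_zero]
  exact Xg_congr (by simp) _

theorem xl_ne_one {k : ℕ} {c : F} (hc : c ≠ 0) :
    (xl c : symplecticGroup (Fin (k + 1)) F) ≠ 1 := by
  intro h
  have h1 := congrArg (fun g : symplecticGroup (Fin (k + 1)) F => g.1 (Sum.inl 0) (Sum.inr 0)) h
  have h2 : (xl c : symplecticGroup (Fin (k + 1)) F).1 (Sum.inl 0) (Sum.inr 0) = c := by
    show Xmat (Matrix.single 0 0 c) (Sum.inl 0) (Sum.inr 0) = c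
    unfold Xmat
    simp
  rw [h2] at h1
  apply hc
  rw [h1]
  show (1 : Matrix (Fin (k + 1) ⊕ Fin (k + 1)) (Fin (k + 1) ⊕ Fin (k + 1)) F) (Sum.inl 0) (Sum.inr 0) = 0
  simp

/-- the additive group of symmetric matrices `S` with `Xg S ∈ T` -/
def lam {m : ℕ} (T : Subgroup (symplecticGroup (Fin m) F)) : AddSubgroup (Matrix (Fin m) (Fin m) F) where
  carrier := {S | ∃ hS : Sᵀ = S, Xg S hS ∈ T}
  zero_mem' := ⟨by simp, by rw [Xg_zero]; exact T.one_mem⟩
  add_mem' := by
    rintro S S' ⟨hS, h⟩ ⟨hS', h'⟩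
    refine ⟨by rw [Matrix.transpose_add, hS, hS'], ?_⟩
    have := T.mul_mem h h'
    rwa [Xg_mul] at this
  neg_mem' := by
    rintro S ⟨hS, h⟩
    refine ⟨by rw [Matrix.transpose_neg, hS], ?_⟩
    have := T.inv_mem h
    rwa [Xg_inv] at this

/-- **`USp` has no proper nontrivial strongly closed subgroup** (inside `Sp`). -/
theorem sc_sp [Fintype F] (p : ℕ) [Fact p.Prime] [CharP F p] (k : ℕ)
    (hex : k = 0 → 3 ≤ Fintype.card F)
    (T : Subgroup (symplecticGroup (Fin (k + 2)) F)) (hT : T ≤ USp (k + 2) F) (hne : T ≠ ⊥)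
    (hsc : ∀ t ∈ T, ∀ g : symplecticGroup (Fin (k + 2)) F,
      g * t * g⁻¹ ∈ USp (k + 2) F → g * t * g⁻¹ ∈ T) :
    T = USp (k + 2) F := by
  classical
  apply le_antisymm hT
  -- a central element
  obtain ⟨z, hzT, hz1, hzc⟩ := SC_Z p T hT hne (fun u hu t ht => hsc t ht u
    ((USp _ F).mul_mem ((USp _ F).mul_mem hu (hT ht)) ((USp _ F).inv_mem hu)))
  obtain ⟨s, t, h2t, hzst⟩ := central_form z (hT hzT) hzc
  have hzz : z = zz s t := Subtype.ext hzst
  rw [hzz] at hzT hz1
  -- a long root element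
  have hlong : ∃ c : F, c ≠ 0 ∧ (xl c : symplecticGroup (Fin (k + 2)) F) ∈ T := by
    by_cases ht : t = 0
    · subst ht
      rw [zz_zero_right] at hzT hz1
      refine ⟨s, ?_, hzT⟩
      rintro rfl
      exact hz1 xl_zero
    · have h2 : (2 : F) = 0 := by
        rcases mul_eq_zero.mp h2t with h | h
        · exact h
        · exact absurd h ht
      have hA := SC_LONG_A T hT hsc s t h2t hzT
      by_cases hst : s + t ^ 2 = 0
      · have hs : s ≠ 0 := by
          rintro rfl
          rw [zero_add] at hst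
          exact ht (pow_eq_zero_iff (two_ne_zero) |>.mp hst)
        by_cases hcard : 3 ≤ Fintype.card F
        · -- an element different from 0 and 1
          obtain ⟨l, hl0, hl1⟩ : ∃ l : F, l ≠ 0 ∧ l ≠ 1 := by
            by_contra hcon
            push Not at hcon
            have hsub : (Finset.univ : Finset F) ⊆ {0, 1} := by
              intro x _
              by_cases hx : x = 0
              · simp [hx]
              · simp [hcon x hx]
            have := Finset.card_le_card hsub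
            rw [Finset.card_univ] at this
            have h3 : ({0, 1} : Finset F).card ≤ 2 := Finset.card_le_two
            omega
          refine ⟨s * (1 + l ^ 2), ?_, SC_LONG_B T hT hsc s t l h2 hl0 hzT⟩
          apply mul_ne_zero hs
          have : (1 : F) + l ^ 2 = (1 + l) ^ 2 := by
            have : (1 + l) ^ 2 = 1 + l ^ 2 + 2 * l := by ring
            rw [this, h2, zero_mul, add_zero]
          rw [this]
          apply pow_ne_zero
          intro h
          apply hl1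
          have h3 : l = -1 := by linear_combination h
          rw [h3]
          have : (-1 : F) = 1 := by linear_combination -h2
          exact this
        · have hk : k ≠ 0 := fun h => hcard (hex h)
          obtain ⟨k', rfl⟩ : ∃ k', k = k' + 1 := ⟨k - 1, by omega⟩
          have hC := SC_LONG_C T hT hsc s t hzT
          refine ⟨s, hs, ?_⟩
          have h4 : (xl s : symplecticGroup (Fin (k' + 1 + 2)) F) = zz s t * (zz 0 t)⁻¹ := by
            rw [zz_eq_mul s t, mul_inv_cancel_right]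
          rw [h4]
          exact T.mul_mem hzT (T.inv_mem hC)
      · exact ⟨s + t ^ 2, hst, hA⟩
  obtain ⟨c, hc0, hcT⟩ := hlong
  -- the Siegel radical
  have hX : ∀ (S : Matrix (Fin (k + 2)) (Fin (k + 2)) F) (hS : Sᵀ = S), Xg S hS ∈ T := by
    intro S hS
    have hmem : S ∈ lam T := by
      apply SC_SIEG_B (lam T) c hc0 _ S hS
      intro x
      have hsym : (c • Matrix.vecMulVec x x)ᵀ = c • Matrix.vecMulVec x x := by
        rw [Matrix.transpose_smul, Matrix.transpose_vecMulVec]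
      exact ⟨hsym, SC_SIEG_A T hT hsc c hcT x hsym⟩
    obtain ⟨_, h⟩ := hmem
    exact h
  -- the Levi part
  have hL : ∀ {i j : Fin (k + 2)} (hij : i < j) (a : F), lv (ne_of_lt hij) a ∈ T :=
    fun hij a => SC_LEVI_A T hT hsc hX hij a
  intro g hg
  rw [eq_Lg_mul_Xg hg]
  exact T.mul_mem (SC_LEVI_B T hL hg.2) (hX _ _)

/-- the two radicals in `PSp`: `false ↦` point radical, `true ↦` Siegel radical -/
def QQ (k : ℕ) (F : Type*) [Field F] : Bool → Subgroup (Cfsg.PSp (k + 2) F) :=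
  fun b => cond b ((QSieg (k + 2) F).map proj) ((QPt (k + 1) F).map proj)

theorem QQ_false (k : ℕ) : QQ k F false = (QPt (k + 1) F).map proj := rfl

theorem QQ_true (k : ℕ) : QQ k F true = (QSieg (k + 2) F).map proj := rfl

instance finite_PSp [Fintype F] (m : ℕ) : Finite (Cfsg.PSp m F) := by
  unfold Cfsg.PSp
  have : Finite (symplecticGroup (Fin m) F) := Subtype.finite
  infer_instance

section glue

variable {k : ℕ}

/-- an element of `PSp` normalising `USpbar` comes from the Borel subgroup -/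
theorem exists_borel [Fintype F] (p : ℕ) [Fact p.Prime] [CharP F p] (x : Cfsg.PSp (k + 2) F)
    (hx : ∀ s ∈ USpbar (k + 2) F, x * s * x⁻¹ ∈ USpbar (k + 2) F) :
    ∃ g : symplecticGroup (Fin (k + 2)) F, IsBorel g ∧ proj g = x := by
  obtain ⟨g, rfl⟩ := proj_surjective x
  refine ⟨g, NB_B g ?_, rfl⟩
  intro u hu
  apply conj_mem_USp p g u hu
  rw [map_mul, map_mul, map_inv]
  exact hx _ (Subgroup.mem_map_of_mem _ hu)

/-- images of normalising elements normalise the images -/
theorem proj_norm {m : ℕ} {Q : Subgroup (symplecticGroup (Fin m) F)} {w : symplecticGroup (Fin m) F}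
    (hw : ∀ q ∈ Q, w * q * w⁻¹ ∈ Q) : ∀ q ∈ Q.map proj, proj w * q * (proj w)⁻¹ ∈ Q.map proj := by
  rintro _ ⟨q, hq, rfl⟩
  rw [← map_inv, ← map_mul, ← map_mul]
  exact Subgroup.mem_map_of_mem _ (hw q hq)

/-- transfer of the generation statements to `PSp` -/
theorem proj_closure {m : ℕ} (Q : Subgroup (symplecticGroup (Fin m) F))
    (y : symplecticGroup (Fin m) F)
    (hy : y ∈ Subgroup.closure {y : symplecticGroup (Fin m) F | ∃ w : symplecticGroup (Fin m) F,
      (∀ q ∈ Q, w * q * w⁻¹ ∈ Q) ∧ ∃ s ∈ USp m F, y = w * s * w⁻¹}) :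
    proj y ∈ Subgroup.closure {y : Cfsg.PSp m F | ∃ w : Cfsg.PSp m F,
      (∀ q ∈ Q.map proj, w * q * w⁻¹ ∈ Q.map proj) ∧ ∃ s ∈ USpbar m F, y = w * s * w⁻¹} := by
  induction hy using Subgroup.closure_induction with
  | mem y hy =>
    obtain ⟨w, hw, s, hs, rfl⟩ := hy
    apply Subgroup.subset_closure
    refine ⟨proj w, proj_norm hw, proj s, Subgroup.mem_map_of_mem _ hs, ?_⟩
    rw [map_mul, map_mul, map_inv]
  | one => rw [map_one]; exact Subgroup.one_mem _
  | mul x y _ _ hx hy => rw [map_mul]; exact Subgroup.mul_mem _ hx hy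
  | inv x _ hx => rw [map_inv]; exact Subgroup.inv_mem _ hx

/-- `dg` is multiplicative -/
theorem dg_mul {m : ℕ} (a b : Fin m → Fˣ) : (dg (a * b) : symplecticGroup (Fin m) F) = dg a * dg b := by
  apply Subtype.ext
  show Lmat _ _ = Lmat _ _ * Lmat _ _
  unfold Lmat
  rw [Matrix.fromBlocks_multiply]
  simp only [Matrix.mul_zero, Matrix.zero_mul, add_zero, zero_add, Matrix.diagonal_transpose,
    Matrix.diagonal_mul_diagonal]
  congr 1
  congr 1
  funext i
  simp only [Pi.mul_apply, Units.val_mul, _root_.mul_inv_rev]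
  exact mul_comm _ _

theorem isBorel_dg {m : ℕ} (t : Fin m → Fˣ) : IsBorel (dg t : symplecticGroup (Fin m) F) := by
  refine ⟨?_, fun i j hij => ?_⟩
  · show (Lmat _ _).toBlocks₂₁ = 0
    unfold Lmat
    rw [Matrix.toBlocks_fromBlocks₂₁]
  · show (Lmat _ _).toBlocks₁₁ i j = 0
    unfold Lmat
    rw [Matrix.toBlocks_fromBlocks₁₁, Matrix.diagonal_apply_ne _ (ne_of_gt hij)]

/-- the first torus factor `(t 0, (t 0)⁻¹, 1, …)` -/
def tA (t : Fin (k + 2) → Fˣ) : Fin (k + 2) → Fˣ :=
  fun i => if i = 0 then t 0 else if i = 1 then (t 0)⁻¹ else 1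

/-- the second torus factor `(1, t 0 * t 1, t 2, …)` -/
def tB (t : Fin (k + 2) → Fˣ) : Fin (k + 2) → Fˣ :=
  fun i => if i = 0 then 1 else if i = 1 then t 0 * t 1 else t i

theorem tA_mul_tB (t : Fin (k + 2) → Fˣ) : tA t * tB t = t := by
  funext i
  show tA t i * tB t i = t i
  unfold tA tB
  by_cases h0 : i = 0
  · rw [if_pos h0, if_pos h0, mul_one, h0]
  · rw [if_neg h0, if_neg h0]
    by_cases h1 : i = 1
    · rw [if_pos h1, if_pos h1, inv_mul_cancel_left, h1]
    · rw [if_neg h1, if_neg h1, one_mul]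

theorem one_ne_zero_fin : (1 : Fin (k + 2)) ≠ 0 := by
  intro h
  have := congrArg Fin.val h
  simp at this

end glue

/-- **`USpbar` with the two radicals satisfies the local criterion.** -/
theorem fusLocalFam_USpbar [Fintype F] (p : ℕ) [Fact p.Prime] [CharP F p] (k : ℕ)
    (hex : k = 0 → 3 ≤ Fintype.card F) :
    FusLocalFam (USpbar (k + 2) F) (QQ k F) := by
  classical
  refine ⟨?_, ?_, ?_, ?_, ?_, ?_⟩
  · -- nontrivial
    intro h
    have h1 : proj (xl (1 : F) : symplecticGroup (Fin (k + 2)) F) ∈ USpbar (k + 2) F :=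
      Subgroup.mem_map_of_mem _ (Xg_mem_USp _)
    rw [h, Subgroup.mem_bot, ← map_one (proj (F := F) (m := k + 2))] at h1
    exact xl_ne_one one_ne_zero
      (proj_injOn p _ _ (Xg_mem_USp _) (USp _ F).one_mem h1)
  · -- strongly closed subgroups
    intro T hT hne hsc
    apply le_antisymm hT
    have hT' : T.comap proj ⊓ USp (k + 2) F = USp (k + 2) F := by
      apply sc_sp p k hex _ inf_le_right
      · intro h
        apply hne
        rw [Subgroup.eq_bot_iff_forall]
        intro x hx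
        obtain ⟨u, hu, rfl⟩ := hT hx
        have : u ∈ T.comap proj ⊓ USp (k + 2) F := ⟨hx, hu⟩
        rw [h, Subgroup.mem_bot] at this
        rw [this, map_one]
      · rintro t ⟨ht1, ht2⟩ g hg
        refine ⟨?_, hg⟩
        show proj (g * t * g⁻¹) ∈ T
        rw [map_mul, map_mul, map_inv]
        apply hsc _ ht1
        rw [← map_inv, ← map_mul, ← map_mul]
        exact Subgroup.mem_map_of_mem _ hg
    rintro _ ⟨u, hu, rfl⟩
    rw [← hT'] at hu
    exact hu.1
  · -- the radicals lie in `USpbar`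
    intro b
    cases b
    · rw [QQ_false]
      exact Subgroup.map_mono (QPt_le (k + 1))
    · rw [QQ_true]
      exact Subgroup.map_mono (QSieg_le (k + 2))
  · -- the normaliser of `USpbar` normalises the radicals
    intro b x hx
    obtain ⟨g, hg, rfl⟩ := exists_borel p x hx
    obtain ⟨h1, h2, h3⟩ := normalizes_Q (k := k + 1) g
    cases b
    · rw [QQ_false]
      exact proj_norm (h2 (h3 hg))
    · rw [QQ_true]
      exact proj_norm (h1 hg.1)
  · -- the centralisers of the radicals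
    intro b c hc
    obtain ⟨c, rfl⟩ := proj_surjective c
    have key : ∀ Q : Subgroup (symplecticGroup (Fin (k + 2)) F), Q ≤ USp (k + 2) F →
        (∀ q ∈ Q.map proj, proj c * q = q * proj c) → ∀ q ∈ Q, c * q = q * c := by
      intro Q hQ hcq q hq
      have h1 := hcq _ (Subgroup.mem_map_of_mem _ hq)
      have h2 : proj (c * q * c⁻¹) = proj q := by
        rw [map_mul, map_mul, map_inv, h1, mul_inv_cancel_right]
      obtain ⟨z, hz, hzz⟩ := (proj_eq_iff _ _).mp h2
      have := PEL p c q q z (hQ hq) (hQ hq) hz hzz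
      rw [this, mul_one] at hzz
      calc c * q = (c * q * c⁻¹) * c := by group
        _ = q * c := by rw [hzz]
    cases b
    · obtain ⟨z, hz, hcz⟩ := CQ_1 c (key _ (QPt_le (k + 1)) hc)
      have : proj c = proj (c * z) := by
        rw [proj_eq_iff]
        exact ⟨z⁻¹, Subgroup.inv_mem _ hz, by rw [mul_inv_cancel_right]⟩
      rw [this]
      exact Subgroup.mem_map_of_mem _ hcz
    · obtain ⟨z, hz, hcz⟩ := CQ_2 c (key _ (QSieg_le (k + 2)) hc)
      have : proj c = proj (c * z) := by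
        rw [proj_eq_iff]
        exact ⟨z⁻¹, Subgroup.inv_mem _ hz, by rw [mul_inv_cancel_right]⟩
      rw [this]
      exact Subgroup.mem_map_of_mem _ hcz
  · -- generation
    intro x hx
    obtain ⟨g, hg, rfl⟩ := exists_borel p x hx
    obtain ⟨u, hu, t, rfl⟩ := GEN_DEC g hg
    have hnormU : ∀ w : symplecticGroup (Fin (k + 2)) F, (∀ u ∈ USp (k + 2) F, w * u * w⁻¹ ∈ USp (k + 2) F) →
        ∀ s ∈ USpbar (k + 2) F, proj w * s * (proj w)⁻¹ ∈ USpbar (k + 2) F := fun w hw =>
      proj_norm hw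
    rw [← tA_mul_tB t, dg_mul, ← mul_assoc, map_mul, map_mul]
    refine Subgroup.mul_mem _ (Subgroup.mul_mem _ ?_ ?_) ?_
    · apply Subgroup.subset_closure
      refine ⟨hnormU u (fun v hv => (USp _ F).mul_mem ((USp _ F).mul_mem hu hv)
        ((USp _ F).inv_mem hu)), false, ?_⟩
      apply Subgroup.subset_closure
      exact ⟨1, fun q hq => by simpa using hq, proj u, Subgroup.mem_map_of_mem _ hu, by simp⟩
    · apply Subgroup.subset_closure
      refine ⟨hnormU _ (BN _ (isBorel_dg _)), true, ?_⟩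
      rw [QQ_true]
      apply proj_closure
      apply GEN_2
      · intro i h0 h1
        unfold tA
        rw [if_neg h0, if_neg h1]
      · unfold tA
        rw [if_pos rfl, if_neg one_ne_zero_fin, if_pos rfl, mul_inv_cancel]
    · apply Subgroup.subset_closure
      refine ⟨hnormU _ (BN _ (isBorel_dg _)), false, ?_⟩
      rw [QQ_false]
      apply proj_closure
      apply GEN_1
      unfold tB
      rw [if_pos rfl]

/-- **S5171.** -/
theorem main {K : Type*} [Field K] [Fintype K] (p : ℕ) [Fact p.Prime] [CharP K p] (m : ℕ)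
    (hm : 2 ≤ m) (hex : m = 2 → 3 ≤ Fintype.card K) (S : Sylow p (Cfsg.PSp m K)) :
    (Cfsg.groupFusionSystem (S : Subgroup (Cfsg.PSp m K))).IsSimple p := by
  classical
  obtain ⟨k, rfl⟩ : ∃ k, m = k + 2 := ⟨m - 2, by omega⟩
  obtain ⟨f, -, hf⟩ := FiniteField.card K p
  obtain ⟨P, hP⟩ := exists_sylow_Sp (m := k + 2) (F := K) (p := p) (f := f) hf
  have : Finite (symplecticGroup (Fin (k + 2)) K) := Subtype.finite
  have h := fusLocalFam_USpbar (F := K) p k (fun hk => hex (by omega))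
  have hS₀ : ((P.mapSurjective (proj_surjective (F := K) (m := k + 2)) : Sylow p (Cfsg.PSp (k + 2) K)) :
      Subgroup (Cfsg.PSp (k + 2) K)) = USpbar (k + 2) K := by
    rw [Sylow.coe_mapSurjective, hP]
    rfl
  rw [← hS₀] at h
  exact isSimple_of_exists_fusLocalFam p _ (QQ k K) h S

end Cfsg.Agent.Lib.Helper11_SpFusMain
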