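import Mathlib

/-!
# Feit's theorem on Zassenhaus groups: the arithmetic of the multiplicities (helper95)

Pure arithmetic: `a i j` is the multiplicity of the irreducible character `i` of `G` in the
character induced from the `j`-th exceptional character of `N`; `X j` is the exceptional character
of `G` attached to `j`.
-/

set_option autoImplicit false

namespace Cfsg.Agent.Lib.Helper95_FeitArith

open Finset

variable {I J : Type*} [Fintype I] [DecidableEq I] [DecidableEq J]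

/-- The multiplicity data. -/
structure Data (a : I → J → ℕ) (deg : J → ℕ) (X : J → I) (ν : I → ℤ) (νJ : J → ℤ) (ε : ℤ)
    (e : ℕ) : Prop where
  e_pos : 0 < e
  eps : ε = 1 ∨ ε = -1
  inj : Function.Injective X
  deg_ge : ∀ j, e ≤ deg j
  nu_le : ∀ i, ν i ≤ 1
  nuJ : ∀ j, deg j = e → νJ j = 0 ∨ νJ j = 1
  r1 : ∀ i j j', (deg j' : ℤ) * a i j - deg j * a i j' =
    ε * (deg j' * (if X j = i then 1 else 0) - deg j * (if X j' = i then 1 else 0))
  r2 : ∀ j j', (e : ℤ) * ∑ i, (a i j : ℤ) * a i j' =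
    e * (if j = j' then 1 else 0) + deg j * deg j'
  r3 : ∀ j, ∑ i, (a i j : ℤ) * ν i = νJ j + deg j

variable {a : I → J → ℕ} {deg : J → ℕ} {X : J → I} {ν : I → ℤ} {νJ : J → ℤ} {ε : ℤ} {e : ℕ}

theorem Data.sum_sq (D : Data a deg X ν νJ ε e) {j : J} (hj : deg j = e) :
    ∑ i, (a i j : ℤ) * a i j = 1 + e := by
  have h := D.r2 j j
  rw [if_pos rfl, hj] at h
  have he : (e : ℤ) ≠ 0 := by exact_mod_cast D.e_pos.ne'
  have : (e : ℤ) * ∑ i, (a i j : ℤ) * a i j = e * (1 + e) := by rw [h]; ring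
  exact mul_left_cancel₀ he this

/-- The defect identity: all multiplicities in the character induced from a member of minimal
degree are at most one. -/
theorem Data.defect (D : Data a deg X ν νJ ε e) {j : J} (hj : deg j = e) :
    (∀ i, a i j ≤ 1) ∧ ∑ i, (a i j : ℤ) * (1 - ν i) = 1 - νJ j := by
  have h1 := D.sum_sq hj
  have h2 := D.r3 j
  rw [hj] at h2
  have h3 : ∑ i, (a i j : ℤ) * ((a i j : ℤ) - ν i) = 1 - νJ j := by
    have : ∑ i, (a i j : ℤ) * ((a i j : ℤ) - ν i) =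
        ∑ i, (a i j : ℤ) * a i j - ∑ i, (a i j : ℤ) * ν i := by
      rw [← Finset.sum_sub_distrib]
      apply Finset.sum_congr rfl
      intro i _
      ring
    rw [this, h1, h2]
    ring
  have hterm : ∀ i, 0 ≤ (a i j : ℤ) * ((a i j : ℤ) - ν i) := by
    intro i
    have h4 := D.nu_le i
    have h5 : (0 : ℤ) ≤ a i j := by positivity
    rcases Nat.eq_zero_or_pos (a i j) with h0 | hpos
    · rw [h0]; simp
    · have : (1 : ℤ) ≤ a i j := by exact_mod_cast hpos
      apply mul_nonneg h5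
      linarith
  have hνJ : 0 ≤ νJ j := by
    rcases D.nuJ j hj with h | h
    · rw [h]
    · rw [h]; norm_num
  have hle : ∀ i, a i j ≤ 1 := by
    intro i
    by_contra hcon
    push Not at hcon
    have h6 : (2 : ℤ) ≤ a i j := by exact_mod_cast hcon
    have h7 : (2 : ℤ) ≤ (a i j : ℤ) * ((a i j : ℤ) - ν i) := by
      have h4 := D.nu_le i
      nlinarith
    have h8 : (a i j : ℤ) * ((a i j : ℤ) - ν i) ≤ ∑ i, (a i j : ℤ) * ((a i j : ℤ) - ν i) :=
      Finset.single_le_sum (fun i _ => hterm i) (Finset.mem_univ i)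
    rw [h3] at h8
    linarith
  refine ⟨hle, ?_⟩
  rw [← h3]
  apply Finset.sum_congr rfl
  intro i _
  have := hle i
  interval_cases (a i j) <;> simp

/-- The symmetry relation. -/
theorem Data.symm_rel (D : Data a deg X ν νJ ε e) {j₀ : J} (hj₀ : deg j₀ = e) {j : J}
    (hj : j ≠ j₀) :
    (e : ℤ) * a (X j) j₀ = deg j * ((a (X j₀) j₀ : ℤ) - ε) := by
  have he : (e : ℤ) ≠ 0 := by exact_mod_cast D.e_pos.ne'
  -- (*) : e * a i j = deg j * a i j₀ + ε e [X j = i] - ε deg j [X j₀ = i]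
  have hstar : ∀ i, (e : ℤ) * a i j = deg j * a i j₀ +
      ε * (e * (if X j = i then 1 else 0) - deg j * (if X j₀ = i then 1 else 0)) := by
    intro i
    have := D.r1 i j j₀
    rw [hj₀] at this
    linarith
  have hg := D.r2 j₀ j
  rw [if_neg (Ne.symm hj), hj₀] at hg
  have hsq := D.sum_sq hj₀
  -- multiply Gram by e and substitute
  have h1 : (e : ℤ) * ((e : ℤ) * ∑ i, (a i j₀ : ℤ) * a i j) =
      ∑ i, (e : ℤ) * ((a i j₀ : ℤ) * ((e : ℤ) * a i j)) := by
    rw [Finset.mul_sum, Finset.mul_sum]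
    apply Finset.sum_congr rfl
    intro i _
    ring
  have h2 : ∑ i, (e : ℤ) * ((a i j₀ : ℤ) * ((e : ℤ) * a i j)) =
      (e : ℤ) * (deg j * ∑ i, (a i j₀ : ℤ) * a i j₀ + ε * e * a (X j) j₀ -
        ε * deg j * a (X j₀) j₀) := by
    have : ∀ i, (e : ℤ) * ((a i j₀ : ℤ) * ((e : ℤ) * a i j)) =
        (e : ℤ) * (deg j * ((a i j₀ : ℤ) * a i j₀)) +
        (e : ℤ) * ε * e * ((if X j = i then (a i j₀ : ℤ) else 0)) -
        (e : ℤ) * ε * deg j * (if X j₀ = i then (a i j₀ : ℤ) else 0) := by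
      intro i
      rw [hstar i]
      split_ifs <;> ring
    rw [Finset.sum_congr rfl (fun i _ => this i), Finset.sum_sub_distrib, Finset.sum_add_distrib,
      ← Finset.mul_sum, ← Finset.mul_sum, ← Finset.mul_sum, ← Finset.mul_sum,
      Finset.sum_ite_eq, Finset.sum_ite_eq]
    simp only [Finset.mem_univ, if_true]
    ring
  rw [h1.symm.trans (by rw [hg]) ] at h2
  · rw [hsq] at h2
    have h3 := mul_left_cancel₀ he h2
    -- e * deg j = deg j (1 + e) + ε e a(X j) j₀ - ε deg j a (X j₀) j₀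
    rcases D.eps with h | h <;> rw [h] at h3 ⊢ <;> linarith

/-- The relation `(*)`: `e * a i j = deg j * a i j₀ + ε (e [X j = i] - deg j [X j₀ = i])`. -/
theorem Data.star (D : Data a deg X ν νJ ε e) {j₀ : J} (hj₀ : deg j₀ = e) (i : I) (j : J) :
    (e : ℤ) * a i j = deg j * a i j₀ +
      ε * (e * (if X j = i then 1 else 0) - deg j * (if X j₀ = i then 1 else 0)) := by
  have := D.r1 i j j₀
  rw [hj₀] at this
  linarith

/-- The good case `ε = 1`: the restriction of `X j₀` contains only `j₀`, once. -/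
theorem Data.good (D : Data a deg X ν νJ ε e) (hε : ε = 1) {j₀ : J} (hj₀ : deg j₀ = e)
    {j₁ : J} (hj₁ : j₁ ≠ j₀) (j : J) : a (X j₀) j = if j = j₀ then 1 else 0 := by
  have hA := (D.defect hj₀).1 (X j₀)
  have hs := D.symm_rel hj₀ hj₁
  rw [hε] at hs
  have hd1 : (0 : ℤ) < deg j₁ := by
    have := D.deg_ge j₁
    have := D.e_pos
    exact_mod_cast (by omega : 0 < deg j₁)
  have hA1 : a (X j₀) j₀ = 1 := by
    have h0 : (0 : ℤ) ≤ (e : ℤ) * a (X j₁) j₀ := by positivity
    rw [hs] at h0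
    have h1 : (0 : ℤ) ≤ (a (X j₀) j₀ : ℤ) - 1 := by
      by_contra hcon
      push Not at hcon
      have := mul_neg_of_pos_of_neg hd1 hcon
      linarith
    have h2 : (1 : ℤ) ≤ a (X j₀) j₀ := by linarith
    have h3 : 1 ≤ a (X j₀) j₀ := by exact_mod_cast h2
    omega
  by_cases hj : j = j₀
  · rw [if_pos hj, hj, hA1]
  · rw [if_neg hj]
    have h := D.star hj₀ (X j₀) j
    rw [hε, if_pos rfl, if_neg (fun h => hj (D.inj h)), hA1] at h
    have he : (e : ℤ) ≠ 0 := by exact_mod_cast D.e_pos.ne'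
    have h' : (e : ℤ) * a (X j₀) j = 0 := by rw [h]; push_cast; ring
    rcases mul_eq_zero.mp h' with h'' | h''
    · exact absurd h'' he
    · exact_mod_cast h''

/-- The bad case `ε = -1`, first step. -/
theorem Data.bad (D : Data a deg X ν νJ ε e) (hε : ε = -1) {j₀ : J} (hj₀ : deg j₀ = e)
    {j : J} (hj : j ≠ j₀) : deg j = e ∧ a (X j) j₀ = 1 ∧ a (X j₀) j₀ = 0 := by
  have hA := (D.defect hj₀).1 (X j₀)
  have ha := (D.defect hj₀).1 (X j)
  have hs := D.symm_rel hj₀ hj
  rw [hε] at hs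
  have hd := D.deg_ge j
  have hepos := D.e_pos
  have hs' : e * a (X j) j₀ = deg j * (a (X j₀) j₀ + 1) := by
    have : ((e * a (X j) j₀ : ℕ) : ℤ) = ((deg j * (a (X j₀) j₀ + 1) : ℕ) : ℤ) := by
      push_cast
      rw [hs]
      ring
    exact_mod_cast this
  have hA0 : a (X j₀) j₀ = 0 := by
    by_contra hne
    have hA1 : a (X j₀) j₀ = 1 := by omega
    rw [hA1] at hs'
    have : e * a (X j) j₀ ≤ e * 1 := Nat.mul_le_mul_left e ha
    nlinarith
  rw [hA0] at hs'
  have h1 : a (X j) j₀ = 1 := by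
    by_contra hne
    have h0 : a (X j) j₀ = 0 := by omega
    rw [h0] at hs'
    nlinarith
  rw [h1] at hs'
  refine ⟨by omega, h1, hA0⟩

/-- The bad case: complete description of the multiplicities of the exceptional characters. -/
theorem Data.bad_all (D : Data a deg X ν νJ ε e) (hε : ε = -1) {j₀ j₁ : J} (hj₀ : deg j₀ = e)
    (hj₁ : j₁ ≠ j₀) : (∀ j, deg j = e) ∧ ∀ j j', a (X j) j' = if j = j' then 0 else 1 := by
  have hdeg : ∀ j, deg j = e := by
    intro j
    by_cases hj : j = j₀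
    · rw [hj]; exact hj₀
    · exact (D.bad hε hj₀ hj).1
  refine ⟨hdeg, ?_⟩
  intro j j'
  by_cases hjj : j = j'
  · rw [if_pos hjj, hjj]
    by_cases h : j' = j₀
    · rw [h]; exact (D.bad hε hj₀ hj₁).2.2
    · exact (D.bad (j₀ := j') hε (hdeg j') (Ne.symm h)).2.2
  · rw [if_neg hjj]
    exact (D.bad hε (hdeg j') hjj).2.1

/-- In the bad case with `νJ j₀ = 1`, all other exceptional characters have indicator one. -/
theorem Data.bad_nu_one (D : Data a deg X ν νJ ε e) (hε : ε = -1) {j₀ : J} (hj₀ : deg j₀ = e)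
    (hν : νJ j₀ = 1) {j : J} (hj : j ≠ j₀) : ν (X j) = 1 := by
  have hd := (D.defect hj₀).2
  rw [hν, sub_self] at hd
  have hterm : ∀ i ∈ Finset.univ, 0 ≤ (a i j₀ : ℤ) * (1 - ν i) := by
    intro i _
    have := D.nu_le i
    apply mul_nonneg (by positivity) (by linarith)
  have h0 := (Finset.sum_eq_zero_iff_of_nonneg hterm).mp hd (X j) (Finset.mem_univ _)
  rw [(D.bad hε hj₀ hj).2.1] at h0
  simp at h0
  linarith

/-- In the bad case, among two further exceptional characters at least one has indicator one. -/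
theorem Data.bad_nu_two (D : Data a deg X ν νJ ε e) (hε : ε = -1) {j₀ : J} (hj₀ : deg j₀ = e)
    {j₁ j₂ : J} (h1 : j₁ ≠ j₀) (h2 : j₂ ≠ j₀) (h12 : j₁ ≠ j₂) : ν (X j₁) = 1 ∨ ν (X j₂) = 1 := by
  by_contra hcon
  push Not at hcon
  have hd := (D.defect hj₀).2
  have hterm : ∀ i ∈ Finset.univ, 0 ≤ (a i j₀ : ℤ) * (1 - ν i) := by
    intro i _
    have := D.nu_le i
    apply mul_nonneg (by positivity) (by linarith)
  have hX : X j₁ ≠ X j₂ := fun h => h12 (D.inj h)
  have hsub : ∑ i ∈ ({X j₁, X j₂} : Finset I), (a i j₀ : ℤ) * (1 - ν i) ≤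
      ∑ i, (a i j₀ : ℤ) * (1 - ν i) :=
    Finset.sum_le_sum_of_subset_of_nonneg (Finset.subset_univ _) (fun i hi _ => hterm i hi)
  rw [Finset.sum_pair hX, (D.bad hε hj₀ h1).2.1, (D.bad hε hj₀ h2).2.1, hd] at hsub
  have hn1 := D.nu_le (X j₁)
  have hn2 := D.nu_le (X j₂)
  have hνJ : 0 ≤ νJ j₀ := by
    rcases D.nuJ j₀ hj₀ with h | h
    · rw [h]
    · rw [h]; norm_num
  have h3 : ν (X j₁) ≤ 0 := by
    rcases lt_or_eq_of_le hn1 with h | h
    · linarith [Int.lt_iff_add_one_le.mp h]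
    · exact absurd h hcon.1
  have h4 : ν (X j₂) ≤ 0 := by
    rcases lt_or_eq_of_le hn2 with h | h
    · linarith [Int.lt_iff_add_one_le.mp h]
    · exact absurd h hcon.2
  simp at hsub
  linarith

end Cfsg.Agent.Lib.Helper95_FeitArith
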