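import Mathlib
import Cfsg.Agent.Lib.Helper95_FeitDefs
import Cfsg.Agent.Lib.Helper95_FeitArith
import Cfsg.Agent.Lib.Helper74_FS3
import Cfsg.Agent.Lib.Helper75_Induced
import Cfsg.Agent.Lib.Helper75_IndChar
import Cfsg.Agent.Lib.Helper75_CharArith
import Cfsg.Agent.Lib.Helper75_CharProd
import Cfsg.Agent.Lib.Helper16_CohCount
import Cfsg.Agent.Lib.Helper16_CohBasic
import Cfsg.Agent.Lib.Helper25_FrobSet
import Cfsg.Agent.Lib.Helper31_FeitFrob

/-!
# Feit's theorem on Zassenhaus groups: the character-theoretic core (helper95)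

From the interface `ZData` and coherence of the set `SS N H` we derive a contradiction when
`2 e < h - 1`.  The inputs PC0, PC1, PC2, PC3, PE1, PE2, PE3 (see
`pending/helper95/S0885_packages*.lean.txt`) enter as hypotheses.
-/

set_option autoImplicit false
set_option linter.unusedSectionVars false

namespace Cfsg.Agent.Lib.Helper95_FeitCore

open Cfsg Cfsg.Agent.Lib.Helper95_FeitDefs
open scoped ComplexConjugate

universe u

variable {G : Type u} [Group G] [Fintype G] {N H : Subgroup G} [Fintype N] {h e : ℕ}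

section basic

theorem K_normal (hD : ZData N H h e) : (H.subgroupOf N).Normal := by
  constructor
  intro k hk n
  rw [Subgroup.mem_subgroupOf] at hk ⊢
  simpa using hD.H_normal n n.2 k hk

theorem card_K (hD : ZData N H h e) : Nat.card (H.subgroupOf N) = h := by
  rw [Nat.card_congr (Subgroup.subgroupOfEquivOfLe hD.H_le).toEquiv, hD.card_H]

theorem h_pos (hD : ZData N H h e) : 0 < h := by
  rw [← hD.card_H]; exact Nat.card_pos

theorem index_K (hD : ZData N H h e) : (H.subgroupOf N).index = e := by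
  have h1 := Subgroup.card_mul_index (H.subgroupOf N)
  rw [card_K hD, hD.card_N] at h1
  exact Nat.eq_of_mul_eq_mul_left (h_pos hD) h1

theorem frobK (hD : ZData N H h e) :
    ∀ k ∈ H.subgroupOf N, k ≠ 1 → ∀ x : N, x * k = k * x → x ∈ H.subgroupOf N := by
  intro k hk hk1 x hx
  rw [Subgroup.mem_subgroupOf] at hk ⊢
  apply hD.frob (k : G) hk (fun h => hk1 (Subtype.ext h)) x x.2
  have := congrArg Subtype.val hx
  simpa using this

theorem centK (hD : ZData N H h e) :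
    ∀ k ∈ H.subgroupOf N, k ≠ 1 → Subgroup.centralizer ({k} : Set N) ≤ H.subgroupOf N := by
  intro k hk hk1 x hx
  rw [Subgroup.mem_centralizer_singleton_iff] at hx
  exact frobK hD k hk hk1 x hx

theorem copK (hD : ZData N H h e) :
    (Nat.card (H.subgroupOf N)).Coprime (H.subgroupOf N).index := by
  have := K_normal hD
  exact Cfsg.Agent.Lib.Helper31_FeitFrob.coprime_card_index _ (centK hD)

theorem SS_eq (hD : ZData N H h e) : SS N H = Cfsg.inducedIrrAbove (H.subgroupOf N) ⊥ := by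
  have := K_normal hD
  exact Cfsg.Agent.Lib.Helper25_FrobSet.setOf_irr_eq _ (frobK hD) (copK hD)

theorem SS_irr {ξ : N → ℂ} (hξ : ξ ∈ SS N H) : Cfsg.IsIrrCharacter N ξ := hξ.1

theorem SS_vanish (hD : ZData N H h e) {ξ : N → ℂ} (hξ : ξ ∈ SS N H) (x : N)
    (hx : (x : G) ∉ H) : ξ x = 0 := by
  have := K_normal hD
  rw [SS_eq hD] at hξ
  obtain ⟨θ, -, -, -, rfl⟩ := hξ
  exact Cfsg.Agent.Lib.Helper16_CohBasic.indFun_eq_zero_of_not_mem _ θ
    (fun hmem => hx (Subgroup.mem_subgroupOf.mp hmem))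

theorem SS_deg (hD : ZData N H h e) {ξ : N → ℂ} (hξ : ξ ∈ SS N H) :
    ∃ d : ℕ, ξ 1 = d ∧ e ≤ d := by
  rw [SS_eq hD] at hξ
  obtain ⟨θ, hθ, -, -, rfl⟩ := hξ
  have hfK : Fintype (H.subgroupOf N) := Fintype.ofFinite _
  obtain ⟨n, hn⟩ := Cfsg.Agent.Lib.Helper17_CohSys.char_apply_one_nat
    (Cfsg.Agent.Lib.Helper3_CharBridge.isCharacter_of_isIrrCharacter hθ)
  have hn0 : n ≠ 0 := by
    intro h0
    rw [h0, Nat.cast_zero] at hn
    have := Cfsg.Agent.Lib.Helper17_CohSys.char_eq_zero_of_apply_one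
      (Cfsg.Agent.Lib.Helper3_CharBridge.isCharacter_of_isIrrCharacter hθ) hn
    exact Cfsg.Agent.Lib.Helper3_CharOrtho.isIrrCharacter_ne_zero hθ this
  refine ⟨e * n, ?_, ?_⟩
  · rw [Cfsg.Agent.Lib.Helper16_CohCount.indFun_one_index, index_K hD, hn]
    push_cast; ring
  · exact Nat.le_mul_of_pos_right e (Nat.pos_of_ne_zero hn0)

theorem SS_exists_linear (hD : ZData N H h e) (hh : 1 < h) : ∃ ξ₀ ∈ SS N H, ξ₀ 1 = (e : ℂ) := by
  have hKn := K_normal hD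
  have hKtop : H.subgroupOf N ≠ ⊤ := by
    intro htop
    have := index_K hD
    rw [htop, Subgroup.index_top] at this
    have := hD.one_lt_e
    omega
  have hnil := Cfsg.Agent.Lib.Helper31_FeitFrob.isNilpotent_kernel _ (centK hD) hKtop
  have hsolv : Group.IsSolvable (H.subgroupOf N) := inferInstance
  have hnb : ¬ H.subgroupOf N ≤ ⊥ := by
    intro hle
    have h1 : H.subgroupOf N = ⊥ := le_bot_iff.mp hle
    have := card_K hD
    rw [h1, Subgroup.card_bot] at this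
    omega
  obtain ⟨lam, hlam, hlam1, hmem⟩ :=
    Cfsg.Agent.Lib.Helper16_CohBasic.exists_linear_mem (H.subgroupOf N) ⊥ hsolv hnb
  refine ⟨_, by rw [SS_eq hD]; exact hmem, ?_⟩
  rw [Cfsg.Agent.Lib.Helper16_CohCount.indFun_one_index, index_K hD, hlam1, mul_one]

theorem SS_conj (hD : ZData N H h e) {ξ : N → ℂ} (hξ : ξ ∈ SS N H) :
    Cfsg.conjFun ξ ∈ SS N H := by
  rw [SS_eq hD] at hξ ⊢
  exact Cfsg.Agent.Lib.Helper16_CohBasic.conj_mem_inducedIrrAbove _ _ hξ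

end basic

section bridge

open Classical
open Cfsg.Agent.Lib.Helper3_CharBridge Cfsg.Agent.Lib.Helper3_CharOrtho
  Cfsg.Agent.Lib.Helper75_CharArith Cfsg.Agent.Lib.Helper75_Induced
  Cfsg.Agent.Lib.Helper74_FS

/-- The conclusion of PC1 for `SS N H` and induction to `G`. -/
def HC1 (N H : Subgroup G) [Fintype N] (ε : ℂ) (X : (N → ℂ) → (G → ℂ)) : Prop :=
  (ε = 1 ∨ ε = -1) ∧
  (∀ ξ ∈ SS N H, Cfsg.IsIrrCharacter G (X ξ)) ∧
  (∀ ξ ∈ SS N H, ∀ ξ' ∈ SS N H, X ξ = X ξ' → ξ = ξ') ∧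
  (∀ ξ ∈ SS N H, ∀ ξ' ∈ SS N H,
    Cfsg.indFun N (ξ' 1 • ξ - ξ 1 • ξ') = ε • (ξ' 1 • X ξ - ξ 1 • X ξ')) ∧
  (∃ ξ ∈ SS N H, ∃ ξ' ∈ SS N H, ξ ≠ ξ')

/-- The conclusion of PC2, first clause. -/
def HC2a (N H : Subgroup G) [Fintype N] (e : ℕ) : Prop :=
  ∀ ξ ∈ SS N H, ∀ ξ' ∈ SS N H,
    Cfsg.classInner (Cfsg.indFun N ξ) (Cfsg.indFun N ξ') =
      (if ξ = ξ' then 1 else 0) + ξ 1 * ξ' 1 / (e : ℂ)

/-- The conclusion of PC3. -/
def HC3 (N H : Subgroup G) [Fintype N] (e : ℕ) : Prop :=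
  (∀ α : N → ℂ, Cfsg.IsClassFunction N α →
    fsInd (Cfsg.indFun N α) = fsInd α + α 1) ∧
  (∀ ξ ∈ SS N H, ξ 1 = (e : ℂ) → fsInd ξ = 0 ∨ fsInd ξ = 1)

/-- The index type of the exceptional characters of `N`. -/
abbrev JJ (N H : Subgroup G) : Type u := {ξ : N → ℂ // ξ ∈ SS N H}

theorem exists_mult (Φ : Cfsg.IrrCharacter G) (j : JJ N H) :
    ∃ n : ℕ, Cfsg.classInner (Cfsg.indFun N j.1) (Φ : G → ℂ) = n :=
  classInner_isCharacter_nat
    (Cfsg.Agent.Lib.Helper75_IndChar.isCharacter_indFun N (isCharacter_of_isIrrCharacter j.2.1))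
    (isCharacter_of_isIrrCharacter Φ.2)

/-- The multiplicity of `Φ` in the character induced from `j`. -/
noncomputable def mult (Φ : Cfsg.IrrCharacter G) (j : JJ N H) : ℕ := (exists_mult Φ j).choose

theorem mult_spec (Φ : Cfsg.IrrCharacter G) (j : JJ N H) :
    Cfsg.classInner (Cfsg.indFun N j.1) (Φ : G → ℂ) = mult Φ j := (exists_mult Φ j).choose_spec

theorem mult_spec' (Φ : Cfsg.IrrCharacter G) (j : JJ N H) :
    Cfsg.classInner (Φ : G → ℂ) (Cfsg.indFun N j.1) = mult Φ j := by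
  rw [← classInner_conj_symm, mult_spec, Complex.conj_natCast]

/-- The degree of `j`. -/
noncomputable def degJ (hD : ZData N H h e) (j : JJ N H) : ℕ := (SS_deg hD j.2).choose

theorem degJ_spec (hD : ZData N H h e) (j : JJ N H) : j.1 1 = degJ hD j :=
  (SS_deg hD j.2).choose_spec.1

theorem degJ_ge (hD : ZData N H h e) (j : JJ N H) : e ≤ degJ hD j :=
  (SS_deg hD j.2).choose_spec.2

/-- The Frobenius–Schur indicator of an irreducible character as an integer. -/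
noncomputable def nuZ {Γ : Type u} [Group Γ] [Fintype Γ] (χ : Γ → ℂ) : ℤ :=
  if fsInd χ = 1 then 1 else if fsInd χ = -1 then -1 else 0

theorem nuZ_spec {Γ : Type u} [Group Γ] [Fintype Γ] {χ : Γ → ℂ} (hχ : Cfsg.IsIrrCharacter Γ χ) :
    (nuZ χ : ℂ) = fsInd χ := by
  unfold nuZ
  rcases fsInd_irr hχ with h | ⟨-, h | h⟩
  · rw [h]; norm_num
  · rw [h]; norm_num
  · rw [h]; norm_num

theorem nuZ_le {Γ : Type u} [Group Γ] [Fintype Γ] (χ : Γ → ℂ) : nuZ χ ≤ 1 := by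
  unfold nuZ
  split_ifs <;> norm_num

theorem real_of_nuZ {Γ : Type u} [Group Γ] [Fintype Γ] {χ : Γ → ℂ}
    (hχ : Cfsg.IsIrrCharacter Γ χ) (h1 : nuZ χ = 1) : Cfsg.conjFun χ = χ := by
  have h2 : fsInd χ = 1 := by rw [← nuZ_spec hχ, h1]; norm_num
  rcases fsInd_irr hχ with h | ⟨hr, -⟩
  · rw [h] at h2; norm_num at h2
  · funext g
    exact Complex.conj_eq_iff_im.mpr (hr g)

theorem fsInd_smul {Γ : Type u} [Group Γ] [Fintype Γ] (c : ℂ) (χ : Γ → ℂ) :
    fsInd (c • χ) = c * fsInd χ := by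
  unfold fsInd
  simp only [Pi.smul_apply, smul_eq_mul, ← Finset.mul_sum]
  ring

theorem fsInd_sum {Γ : Type u} [Group Γ] [Fintype Γ] {ι : Type*} (s : Finset ι)
    (F : ι → Γ → ℂ) : fsInd (∑ i ∈ s, F i) = ∑ i ∈ s, fsInd (F i) := by
  unfold fsInd
  simp only [Finset.sum_apply]
  rw [Finset.sum_comm, Finset.mul_sum]

end bridge

section data

open Classical
open Cfsg.Agent.Lib.Helper3_CharBridge Cfsg.Agent.Lib.Helper3_CharOrtho
  Cfsg.Agent.Lib.Helper75_CharArith Cfsg.Agent.Lib.Helper75_Induced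
  Cfsg.Agent.Lib.Helper74_FS

/-- The exceptional character attached to `j`, as an irreducible character. -/
noncomputable def XI {ε : ℂ} {X : (N → ℂ) → (G → ℂ)} (h1 : HC1 N H ε X) (j : JJ N H) :
    Cfsg.IrrCharacter G := ⟨X j.1, h1.2.1 j.1 j.2⟩

theorem indFun_expand (j : JJ N H) :
    Cfsg.indFun N j.1 = ∑ Φ : Cfsg.IrrCharacter G, ((mult Φ j : ℕ) : ℂ) • (Φ : G → ℂ) := by
  have hchar := Cfsg.Agent.Lib.Helper75_IndChar.isCharacter_indFun N
    (isCharacter_of_isIrrCharacter j.2.1)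
  obtain ⟨m, hm, hsum⟩ := exists_multiplicities hchar
  rw [hsum]
  apply Finset.sum_congr rfl
  intro Φ _
  have : (m Φ : ℂ) = (mult Φ j : ℂ) := by rw [← hm Φ, mult_spec]
  rw [this]

theorem data (hD : ZData N H h e) {ε : ℂ} {X : (N → ℂ) → (G → ℂ)} (h1 : HC1 N H ε X)
    (h2 : HC2a N H e) (h3 : HC3 N H e) (εz : ℤ) (hεz : (εz : ℂ) = ε) :
    Cfsg.Agent.Lib.Helper95_FeitArith.Data (I := Cfsg.IrrCharacter G) (J := JJ N H)
      (fun Φ j => mult Φ j) (degJ hD) (XI h1) (fun Φ => nuZ (Φ : G → ℂ)) (fun j => nuZ j.1) εz e := by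
  subst hεz
  have hepos : 0 < e := lt_trans Nat.zero_lt_one hD.one_lt_e
  have heC : (e : ℂ) ≠ 0 := by exact_mod_cast hepos.ne'
  refine ⟨hepos, ?_, ?_, degJ_ge hD, fun Φ => nuZ_le _, ?_, ?_, ?_, ?_⟩
  · rcases h1.1 with h | h
    · left
      have : (εz : ℂ) = ((1 : ℤ) : ℂ) := by rw [h]; norm_num
      exact_mod_cast this
    · right
      have : (εz : ℂ) = ((-1 : ℤ) : ℂ) := by rw [h]; norm_num
      exact_mod_cast this
  · intro j j' hjj
    apply Subtype.ext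
    apply h1.2.2.1 j.1 j.2 j'.1 j'.2
    exact congrArg Subtype.val hjj
  · intro j hj
    have hdeg : j.1 1 = (e : ℂ) := by rw [degJ_spec hD j, hj]
    rcases h3.2 j.1 j.2 hdeg with h | h
    · left
      unfold nuZ
      rw [h]
      norm_num
    · right
      unfold nuZ
      rw [h]
      norm_num
  · -- r1
    intro Φ j j'
    have hrel := h1.2.2.2.1 j.1 j.2 j'.1 j'.2
    have hL : Cfsg.classInner (Cfsg.indFun N (j'.1 1 • j.1 - j.1 1 • j'.1)) (Φ : G → ℂ) =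
        (degJ hD j' : ℂ) * (mult Φ j : ℂ) - (degJ hD j : ℂ) * (mult Φ j' : ℂ) := by
      rw [sub_eq_add_neg, ← neg_smul, indFun_add, indFun_smul, indFun_smul, classInner_add_left,
        classInner_smul_left, classInner_smul_left, mult_spec, mult_spec, degJ_spec hD j,
        degJ_spec hD j']
      ring
    have hR : Cfsg.classInner ((εz : ℂ) • (j'.1 1 • X j.1 - j.1 1 • X j'.1)) (Φ : G → ℂ) =
        (εz : ℂ) * ((degJ hD j' : ℂ) * (if XI h1 j = Φ then 1 else 0) -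
          (degJ hD j : ℂ) * (if XI h1 j' = Φ then 1 else 0)) := by
      rw [classInner_smul_left, classInner_sub_left, classInner_smul_left, classInner_smul_left,
        classInner_irr (h1.2.1 j.1 j.2) Φ.2, classInner_irr (h1.2.1 j'.1 j'.2) Φ.2,
        degJ_spec hD j, degJ_spec hD j']
      have e1 : (X j.1 = (Φ : G → ℂ)) ↔ (XI h1 j = Φ) := by
        constructor
        · intro h; exact Subtype.ext h
        · intro h; exact congrArg Subtype.val h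
      have e2 : (X j'.1 = (Φ : G → ℂ)) ↔ (XI h1 j' = Φ) := by
        constructor
        · intro h; exact Subtype.ext h
        · intro h; exact congrArg Subtype.val h
      simp only [e1, e2]
    rw [hrel, hR] at hL
    have : ((((degJ hD j' : ℤ) * (mult Φ j : ℤ) - (degJ hD j : ℤ) * (mult Φ j' : ℤ) : ℤ)) : ℂ) =
        ((εz * ((degJ hD j' : ℤ) * (if XI h1 j = Φ then 1 else 0) -
          (degJ hD j : ℤ) * (if XI h1 j' = Φ then 1 else 0)) : ℤ) : ℂ) := by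
      push_cast
      rw [← hL]
    exact_mod_cast this
  · -- r2
    intro j j'
    have hg := h2 j.1 j.2 j'.1 j'.2
    rw [classInner_eq_sum_irr (isClassFunction_indFun N j.1)] at hg
    have hsum : ∑ Φ : Cfsg.IrrCharacter G, Cfsg.classInner (Cfsg.indFun N j.1) (Φ : G → ℂ) *
        Cfsg.classInner (Φ : G → ℂ) (Cfsg.indFun N j'.1) =
        ((∑ Φ : Cfsg.IrrCharacter G, (mult Φ j : ℤ) * (mult Φ j' : ℤ) : ℤ) : ℂ) := by
      push_cast
      apply Finset.sum_congr rfl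
      intro Φ _
      rw [mult_spec, mult_spec']
    rw [hsum, degJ_spec hD j, degJ_spec hD j'] at hg
    have e1 : (j.1 = j'.1) ↔ (j = j') := by
      constructor
      · intro h; exact Subtype.ext h
      · intro h; exact congrArg Subtype.val h
    simp only [e1] at hg
    have : (((e : ℤ) * ∑ Φ : Cfsg.IrrCharacter G, (mult Φ j : ℤ) * (mult Φ j' : ℤ) : ℤ) : ℂ) =
        (((e : ℤ) * (if j = j' then 1 else 0) + (degJ hD j : ℤ) * (degJ hD j' : ℤ) : ℤ) : ℂ) := by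
      push_cast at hg ⊢
      rw [hg]
      split_ifs <;> field_simp
    exact_mod_cast this
  · -- r3
    intro j
    have hfs := h3.1 j.1 (isClassFunction_of_isIrrCharacter j.2.1)
    rw [indFun_expand j, fsInd_sum] at hfs
    have hsum : ∑ Φ : Cfsg.IrrCharacter G, fsInd (((mult Φ j : ℕ) : ℂ) • (Φ : G → ℂ)) =
        ((∑ Φ : Cfsg.IrrCharacter G, (mult Φ j : ℤ) * nuZ (Φ : G → ℂ) : ℤ) : ℂ) := by
      push_cast
      apply Finset.sum_congr rfl
      intro Φ _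
      rw [fsInd_smul, nuZ_spec Φ.2]
    rw [hsum, ← nuZ_spec j.2.1, degJ_spec hD j] at hfs
    exact_mod_cast hfs

end data

section core

open Classical
open Cfsg.Agent.Lib.Helper3_CharBridge Cfsg.Agent.Lib.Helper3_CharOrtho
  Cfsg.Agent.Lib.Helper75_CharArith Cfsg.Agent.Lib.Helper75_Induced
  Cfsg.Agent.Lib.Helper74_FS

/-- A real-valued irreducible character has non-zero Frobenius–Schur indicator. -/
theorem fsInd_ne_zero_of_real {Γ : Type u} [Group Γ] [Fintype Γ] {χ : Γ → ℂ}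
    (hχ : Cfsg.IsIrrCharacter Γ χ) (hreal : Cfsg.conjFun χ = χ) : fsInd χ ≠ 0 := by
  obtain ⟨n, ρ, hirr, rfl⟩ := hχ
  have := hirr
  have hre : ∀ g : Γ, (ρ.character g).im = 0 := by
    intro g
    exact Complex.conj_eq_iff_im.mp (congrFun hreal g)
  obtain ⟨M, hM0, hM⟩ := exists_invariant_form_ne_zero ρ hre
  rcases fsInd_trichotomy ρ with ⟨-, hbot⟩ | ⟨-, h | h⟩
  · exfalso
    rw [hbot, Submodule.mem_bot] at hM
    exact hM0 hM
  · rw [h]; norm_num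
  · rw [h]; norm_num

theorem nuZ_eq_one_of_real (h3 : HC3 N H e) {ξ : N → ℂ} (hξ : ξ ∈ SS N H)
    (hdeg : ξ 1 = (e : ℂ)) (hreal : Cfsg.conjFun ξ = ξ) : fsInd ξ = 1 := by
  rcases h3.2 ξ hξ hdeg with h | h
  · exact absurd h (fsInd_ne_zero_of_real hξ.1 hreal)
  · exact h

/-- `⟨Ind (conj ξ), Φ⟩ = ⟨Ind ξ, Φ⟩` for real-valued `Φ`. -/
theorem mult_conj (hD : ZData N H h e) (Φ : Cfsg.IrrCharacter G)
    (hΦ : Cfsg.conjFun (Φ : G → ℂ) = Φ) (j : JJ N H) :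
    mult Φ ⟨Cfsg.conjFun j.1, SS_conj hD j.2⟩ = mult Φ j := by
  have h1 : Cfsg.classInner (Cfsg.indFun N (Cfsg.conjFun j.1)) (Φ : G → ℂ) =
      conj (Cfsg.classInner (Cfsg.indFun N j.1) (Φ : G → ℂ)) := by
    rw [← Cfsg.Agent.Lib.Helper16_CohBasic.conjFun_indFun]
    conv_lhs => rw [← hΦ]
    exact Cfsg.Agent.Lib.Helper75_CharProd.classInner_conj_conj _ _
  have h2 := mult_spec Φ (⟨Cfsg.conjFun j.1, SS_conj hD j.2⟩ : JJ N H)
  rw [h1, mult_spec, Complex.conj_natCast] at h2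
  exact_mod_cast h2.symm

/-- At least three exceptional characters when all have degree `e`. -/
theorem exists_third (hD : ZData N H h e) (hhe : 2 * e < h - 1)
    (hdeg : ∀ ξ ∈ SS N H, ξ 1 = (e : ℂ)) (ξ₀ ξ₁ : N → ℂ) :
    ∃ ξ₂ ∈ SS N H, ξ₂ ≠ ξ₀ ∧ ξ₂ ≠ ξ₁ := by
  by_contra hcon
  push Not at hcon
  have hKn := K_normal hD
  have hsub : Cfsg.inducedIrrAbove (H.subgroupOf N) ⊥ ⊆
      ↑((({ξ₀, ξ₁} : Finset (N → ℂ))).filter (fun ξ => ξ ∈ SS N H)) := by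
    intro ξ hξ
    rw [← SS_eq hD] at hξ
    rw [Finset.coe_filter]
    refine ⟨?_, hξ⟩
    by_cases h0 : ξ = ξ₀
    · rw [h0]; simp
    · rw [hcon ξ hξ h0]; simp
  have hb := Cfsg.Agent.Lib.Helper16_CohCount.sum_bound (H.subgroupOf N) ⊥
    ((({ξ₀, ξ₁} : Finset (N → ℂ))).filter (fun ξ => ξ ∈ SS N H)) hsub
    (fun _ => e) (fun _ => 1)
    (fun φ hφ => hdeg φ (Finset.mem_filter.mp hφ).2)
    (fun φ hφ => by
      rw [classInner_self_of_isIrrCharacter (Finset.mem_filter.mp hφ).2.1]; simp)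
    (fun _ _ => Nat.one_pos)
  rw [Subgroup.relIndex_bot_left, card_K hD, index_K hD] at hb
  have hcard : (((({ξ₀, ξ₁} : Finset (N → ℂ))).filter (fun ξ => ξ ∈ SS N H)).card : ℝ) ≤ 2 := by
    have h1 : ((({ξ₀, ξ₁} : Finset (N → ℂ))).filter (fun ξ => ξ ∈ SS N H)).card ≤
        ({ξ₀, ξ₁} : Finset (N → ℂ)).card := Finset.card_filter_le _ _
    have h2 : ({ξ₀, ξ₁} : Finset (N → ℂ)).card ≤ 2 := Finset.card_le_two
    exact_mod_cast h1.trans h2
  rw [Finset.sum_const, nsmul_eq_mul] at hb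
  have he0 : (0 : ℝ) < e := by exact_mod_cast lt_trans Nat.zero_lt_one hD.one_lt_e
  have hh1 : ((h : ℝ) - 1) ≤ 2 * e := by
    have h3 : (e : ℝ) * ((h : ℝ) - 1) ≤ 2 * ((e : ℝ) ^ 2 / ((1 : ℕ) : ℝ)) :=
      hb.trans (mul_le_mul_of_nonneg_right hcard (by positivity))
    have h4 : (e : ℝ) * ((h : ℝ) - 1) ≤ (e : ℝ) * (2 * e) := by
      calc (e : ℝ) * ((h : ℝ) - 1) ≤ 2 * ((e : ℝ) ^ 2 / ((1 : ℕ) : ℝ)) := h3
        _ = (e : ℝ) * (2 * e) := by push_cast; ring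
    exact le_of_mul_le_mul_left h4 he0
  have hh2 : (h : ℝ) ≤ 2 * e + 1 := by linarith
  have hh3 : h ≤ 2 * e + 1 := by exact_mod_cast hh2
  omega

/-- **The core**: coherence is impossible when `2 e < h - 1`.  `hE1 hE2 hE3` are the conclusions of
the packages PE1, PE2, PE3. -/
theorem core (hD : ZData N H h e) (hhe : 2 * e < h - 1) {ε : ℂ} {X : (N → ℂ) → (G → ℂ)}
    (h1 : HC1 N H ε X) (h2 : HC2a N H e) (h3 : HC3 N H e)
    (hE1 : (∀ ξ ∈ SS N H, ξ 1 = (e : ℂ) ∧ fsInd ξ = 1) → False)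
    (hE2 : ∀ {ξ₀ ξ₁ : N → ℂ}, ξ₀ ∈ SS N H → ξ₁ ∈ SS N H → ξ₁ ≠ ξ₀ →
      ∀ {X' : G → ℂ}, Cfsg.IsIrrCharacter G X' →
      (∀ ξ ∈ SS N H, Cfsg.classInner (Cfsg.indFun N ξ) X' = if ξ = ξ₀ then 1 else 0) →
      ∀ x : N, X' x = ξ₀ x)
    (hE3 : ∀ {ξ₀ : N → ℂ}, ξ₀ ∈ SS N H → ξ₀ 1 = (e : ℂ) →
      (∀ x : N, (x : G) ∉ H → ξ₀ x = 0) →
      ∀ {X' : G → ℂ}, Cfsg.IsIrrCharacter G X' → (∀ x : N, X' x = ξ₀ x) → False) : False := by
  have hh : 1 < h := by omega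
  obtain ⟨ξ₀, hξ₀, hdeg₀⟩ := SS_exists_linear hD hh
  obtain ⟨ξ₁, hξ₁, hne₁⟩ : ∃ ξ₁ ∈ SS N H, ξ₁ ≠ ξ₀ := by
    obtain ⟨ξ, hξ, ξ', hξ', hne⟩ := h1.2.2.2.2
    by_cases h0 : ξ = ξ₀
    · exact ⟨ξ', hξ', fun h => hne (h0.trans h.symm)⟩
    · exact ⟨ξ, hξ, h0⟩
  obtain ⟨εz, hεz⟩ : ∃ εz : ℤ, (εz : ℂ) = ε := by
    rcases h1.1 with h | h
    · exact ⟨1, by rw [h]; norm_num⟩
    · exact ⟨-1, by rw [h]; norm_num⟩
  have D := data hD h1 h2 h3 εz hεz
  set j₀ : JJ N H := ⟨ξ₀, hξ₀⟩ with hj₀def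
  set j₁ : JJ N H := ⟨ξ₁, hξ₁⟩ with hj₁def
  have hj₀ : degJ hD j₀ = e := by
    have := degJ_spec hD j₀
    rw [show j₀.1 = ξ₀ from rfl, hdeg₀] at this
    exact_mod_cast this.symm
  have hj₁ : j₁ ≠ j₀ := fun h => hne₁ (congrArg Subtype.val h)
  rcases D.eps with hε | hε
  · -- the good case
    have hgood := D.good hε hj₀ hj₁
    have hmult : ∀ ξ ∈ SS N H,
        Cfsg.classInner (Cfsg.indFun N ξ) (X ξ₀) = if ξ = ξ₀ then 1 else 0 := by
      intro ξ hξ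
      have := mult_spec (XI h1 j₀) (⟨ξ, hξ⟩ : JJ N H)
      rw [show ((XI h1 j₀ : Cfsg.IrrCharacter G) : G → ℂ) = X ξ₀ from rfl] at this
      rw [show (⟨ξ, hξ⟩ : JJ N H).1 = ξ from rfl] at this
      rw [this, hgood ⟨ξ, hξ⟩]
      have e1 : ((⟨ξ, hξ⟩ : JJ N H) = j₀) ↔ (ξ = ξ₀) := by
        constructor
        · intro h; exact congrArg Subtype.val h
        · intro h; exact Subtype.ext h
      simp only [e1]
      split_ifs <;> simp
    have hres := hE2 hξ₀ hξ₁ hne₁ (h1.2.1 ξ₀ hξ₀) hmult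
    exact hE3 hξ₀ hdeg₀ (SS_vanish hD hξ₀) (h1.2.1 ξ₀ hξ₀) hres
  · -- the bad case
    obtain ⟨hdegall, hmultall⟩ := D.bad_all hε hj₀ hj₁
    have hdegC : ∀ ξ ∈ SS N H, ξ 1 = (e : ℂ) := by
      intro ξ hξ
      have := degJ_spec hD (⟨ξ, hξ⟩ : JJ N H)
      rw [hdegall] at this
      exact this
    obtain ⟨ξ₂, hξ₂, h20, h21⟩ := exists_third hD hhe hdegC ξ₀ ξ₁
    set j₂ : JJ N H := ⟨ξ₂, hξ₂⟩ with hj₂def
    have hj₂ : j₂ ≠ j₀ := fun h => h20 (congrArg Subtype.val h)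
    have hj₁₂ : j₁ ≠ j₂ := fun h => h21 (congrArg Subtype.val h).symm
    -- a real exceptional character gives a real member of `SS` with indicator one
    have hR : ∀ j : JJ N H, nuZ ((XI h1 j : Cfsg.IrrCharacter G) : G → ℂ) = 1 →
        fsInd j.1 = 1 := by
      intro j hj
      have hreal := real_of_nuZ (XI h1 j).2 hj
      have hm := mult_conj hD (XI h1 j) hreal j
      rw [hmultall j j, if_pos rfl, hmultall] at hm
      have hjj : j = ⟨Cfsg.conjFun j.1, SS_conj hD j.2⟩ := by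
        by_contra hne
        rw [if_neg hne] at hm
        exact one_ne_zero hm
      have hjreal : Cfsg.conjFun j.1 = j.1 := (congrArg Subtype.val hjj).symm
      exact nuZ_eq_one_of_real h3 j.2 (hdegC j.1 j.2) hjreal
    obtain ⟨j', hj'⟩ : ∃ j' : JJ N H, fsInd j'.1 = 1 := by
      rcases D.bad_nu_two hε hj₀ hj₁ hj₂ hj₁₂ with h | h
      · exact ⟨j₁, hR j₁ h⟩
      · exact ⟨j₂, hR j₂ h⟩
    have hνj' : nuZ j'.1 = 1 := by
      unfold nuZ
      rw [if_pos hj']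
    apply hE1
    intro ξ hξ
    refine ⟨hdegC ξ hξ, ?_⟩
    by_cases hξj : (⟨ξ, hξ⟩ : JJ N H) = j'
    · rw [← hj', ← hξj]
    · exact hR ⟨ξ, hξ⟩ (D.bad_nu_one hε (hdegall j') hνj' hξj)

end core

end Cfsg.Agent.Lib.Helper95_FeitCore
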