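import Mathlib
import Cfsg.Agent.Lib.Helper95_FeitDefs

/-!
# Suzuki's theorem on Zassenhaus groups of odd degree (S0347): shared definitions (helper95)

`SData N H h e` = `ZData N H h e` (the interface of Feit's theorem S0885: `N` a point stabiliser,
`H` its Frobenius kernel of order `h`, `e = |N : H|`) together with what Higman's theorem on Suzuki
2-groups gives for `H`: `H` is a non-abelian 2-group in which squares and commutators are central
involutions, the involutions are central, there are `e` of them, `N` permutes them transitively,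
`N / H` is abelian and `h = q²` or `q³` with `q = e + 1`.

`KData K q s` = the part of this that concerns the abstract group `K ≅ H` only (`q` elements with
trivial square, each involution has `s` square roots and is a commutator).
-/

set_option autoImplicit false

namespace Cfsg.Agent.Lib.Helper95_SuzDefs

open Cfsg MulAction Cfsg.Agent.Lib.Helper95_FeitDefs

universe u v

/-- The Suzuki situation: `ZData` plus the structure of the Frobenius kernel `H`. -/
structure SData {G : Type u} [Group G] [Fintype G] (N H : Subgroup G) (h e : ℕ) : Prop where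
  zdata : ZData N H h e
  two : IsPGroup 2 H
  sq_sq : ∀ x ∈ H, (x * x) * (x * x) = 1
  invol_comm : ∀ z ∈ H, z * z = 1 → ∀ y ∈ H, z * y = y * z
  comm_sq : ∀ x ∈ H, ∀ y ∈ H, (x * y * x⁻¹ * y⁻¹) * (x * y * x⁻¹ * y⁻¹) = 1
  card_invol : Nat.card {z : G // z ∈ H ∧ z * z = 1} = e + 1
  trans : ∀ z ∈ H, z ≠ 1 → z * z = 1 → ∀ z' ∈ H, z' ≠ 1 → z' * z' = 1 →
    ∃ n ∈ N, n * z * n⁻¹ = z'
  nonab : ∃ x ∈ H, ∃ y ∈ H, x * y ≠ y * x
  abel : ∀ x ∈ N, ∀ y ∈ N, x * y * x⁻¹ * y⁻¹ ∈ H
  card_h : h = (e + 1) ^ 2 ∨ h = (e + 1) ^ 3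

/-- The abstract 2-group: exponent 4, central involutions (`q - 1` of them), commutators are
involutions, every involution is a commutator and has exactly `s` square roots. -/
structure KData (K : Type u) [Group K] [Fintype K] (q s : ℕ) : Prop where
  sq_sq : ∀ x : K, (x * x) * (x * x) = 1
  invol_comm : ∀ z : K, z * z = 1 → ∀ y : K, z * y = y * z
  comm_sq : ∀ x y : K, (x * y * x⁻¹ * y⁻¹) * (x * y * x⁻¹ * y⁻¹) = 1
  card_invol : Nat.card {z : K // z * z = 1} = q
  roots : ∀ z : K, z ≠ 1 → z * z = 1 → Nat.card {x : K // x * x = z} = s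
  invol_is_comm : ∀ z : K, z * z = 1 → ∃ x y : K, z = x * y * x⁻¹ * y⁻¹

end Cfsg.Agent.Lib.Helper95_SuzDefs
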