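import Mathlib
import Cfsg.Agent.Lib.Helper95_SuzDefs
import Cfsg.Agent.Lib.Helper95_FeitCore
import Cfsg.Agent.Lib.Helper11_Feit_PC3

/-!
# Suzuki's order theorem (S0347), package NC1 (for helper95)

A member `ξ` of `SS N H` is induced from an irreducible character `θ` of `K = H.subgroupOf N`,
with `ξ 1 = e * θ 1` and the same Frobenius–Schur indicator.
-/

set_option autoImplicit false
set_option linter.unusedSectionVars false

namespace Cfsg.Agent.Lib.Helper11_Suz_NC1

open Cfsg MulAction Cfsg.Agent.Lib.Helper95_FeitDefs Cfsg.Agent.Lib.Helper95_SuzDefs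
open Cfsg.Agent.Lib.Helper74_FS

universe u v

variable {G : Type u} [Group G] [Fintype G] {N H : Subgroup G} [Fintype N] {h e : ℕ}

theorem NC1 [Fintype ↥(H.subgroupOf N)] (hD : ZData N H h e) {ξ : N → ℂ} (hξ : ξ ∈ SS N H) :
    ∃ θ : ↥(H.subgroupOf N) → ℂ, Cfsg.IsIrrCharacter ↥(H.subgroupOf N) θ ∧
      ξ 1 = (e : ℂ) * θ 1 ∧ fsInd ξ = fsInd θ := by
  classical
  have hKn := Cfsg.Agent.Lib.Helper95_FeitCore.K_normal hD
  have hindex := Cfsg.Agent.Lib.Helper95_FeitCore.index_K hD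
  rw [Cfsg.Agent.Lib.Helper95_FeitCore.SS_eq hD] at hξ
  obtain ⟨θ, hθ, -, -, rfl⟩ := hξ
  refine ⟨θ, hθ, ?_, ?_⟩
  · rw [Cfsg.Agent.Lib.Helper16_CohCount.indFun_one_index, hindex]
  · rw [Cfsg.Agent.Lib.Helper11_Feit_PC3.fsInd_indFun]
    have hsq : ∀ s : N, s * s ∈ H.subgroupOf N → s ∈ H.subgroupOf N := by
      intro s hs
      have h1 : ((s : N ⧸ H.subgroupOf N)) ^ 2 = 1 := by
        rw [← QuotientGroup.mk_pow, pow_two]
        exact (QuotientGroup.eq_one_iff _).2 hs
      have h2 : orderOf (s : N ⧸ H.subgroupOf N) ∣ 2 := orderOf_dvd_of_pow_eq_one h1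
      have h3 : orderOf (s : N ⧸ H.subgroupOf N) ∣ e := by
        rw [← hindex, Subgroup.index_eq_card]
        exact orderOf_dvd_natCard _
      have h4 : orderOf (s : N ⧸ H.subgroupOf N) ∣ Nat.gcd 2 e := Nat.dvd_gcd h2 h3
      have h5 : Nat.gcd 2 e = 1 := Nat.coprime_two_left.mpr hD.e_odd
      rw [h5, Nat.dvd_one, orderOf_eq_one_iff] at h4
      exact (QuotientGroup.eq_one_iff _).1 h4
    have hterm : ∀ s : N, Cfsg.extendByZero (H.subgroupOf N) θ (s * s) =
        Cfsg.extendByZero (H.subgroupOf N) (fun k : ↥(H.subgroupOf N) => θ (k * k)) s := by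
      intro s
      by_cases hs : s ∈ H.subgroupOf N
      · rw [Cfsg.Agent.Lib.Helper75_Induced.extendByZero_of_mem _ _ hs,
          Cfsg.Agent.Lib.Helper75_Induced.extendByZero_of_mem _ _
            ((H.subgroupOf N).mul_mem hs hs)]
        rfl
      · rw [Cfsg.Agent.Lib.Helper75_Induced.extendByZero_of_not_mem _ _ hs,
          Cfsg.Agent.Lib.Helper75_Induced.extendByZero_of_not_mem _ _
            (fun h => hs (hsq s h))]
    simp_rw [hterm]
    rw [Cfsg.Agent.Lib.Helper75_Induced.sum_extendByZero]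
    rfl

end Cfsg.Agent.Lib.Helper11_Suz_NC1
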