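/-
helper11: package GEN1 of helper75's S2524 market (tz_packages): `Sp(Fin (m+1)) = ⟨Q, L, G₂⟩`, `m ≥ 1`.
-/
import Mathlib
import Cfsg.Agent.Lib.Helper75_TZDefs
set_option autoImplicit false
namespace Cfsg.Agent.Lib.Helper75_TZ
open Matrix Module
open Cfsg.Agent.Lib.Helper5_SpPerfect Cfsg.Agent.Lib.Helper81_SpWeights Cfsg.Agent.Lib.Helper81_JointEigen
  Cfsg.Agent.Lib.Helper81_Heis Cfsg.Agent.Lib.Helper81_WeilLin Cfsg.Agent.Lib.Helper81_Schrodinger

namespace GEN1aux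

open Cfsg.Agent.Lib.Helper13_SympTrans

variable {F : Type*} [Field F] {m : ℕ}

/-- `GL_k` is transitive on the non-zero vectors (no finiteness of `F`) -/
theorem exists_GL_mulVec' {k : ℕ} (x y : Fin k → F) (hx : x ≠ 0) (hy : y ≠ 0) :
    ∃ A : GL (Fin k) F, A.1 *ᵥ x = y := by
  let ex := LinearEquiv.toSpanNonzeroSingleton F (Fin k → F) x hx
  let ey := LinearEquiv.toSpanNonzeroSingleton F (Fin k → F) y hy
  obtain ⟨g, hg⟩ := Submodule.exists_linearEquiv_restrict_eq (ex.symm.trans ey)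
  have hgx : g x = y := by
    have h1 := hg ⟨x, Submodule.mem_span_singleton_self x⟩
    have h2 : ex.symm ⟨x, Submodule.mem_span_singleton_self x⟩ = 1 := by
      rw [LinearEquiv.symm_apply_eq]
      exact (LinearEquiv.toSpanNonzeroSingleton_one F (Fin k → F) x hx).symm
    rw [LinearEquiv.trans_apply, h2, LinearEquiv.toSpanNonzeroSingleton_one] at h1
    exact h1.symm
  refine ⟨⟨LinearMap.toMatrix' g.toLinearMap, LinearMap.toMatrix' g.symm.toLinearMap, ?_, ?_⟩, ?_⟩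
  · rw [← LinearMap.toMatrix'_comp]
    have : g.toLinearMap ∘ₗ g.symm.toLinearMap = LinearMap.id := by
      ext v; simp
    rw [this, LinearMap.toMatrix'_id]
  · rw [← LinearMap.toMatrix'_comp]
    have : g.symm.toLinearMap ∘ₗ g.toLinearMap = LinearMap.id := by
      ext v; simp
    rw [this, LinearMap.toMatrix'_id]
  · show LinearMap.toMatrix' g.toLinearMap *ᵥ x = y
    rw [LinearMap.toMatrix'_mulVec]
    exact hgx

/-- the same for the contragredient action -/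
theorem exists_GL_inv_transpose_mulVec {k : ℕ} (x y : Fin k → F) (hx : x ≠ 0) (hy : y ≠ 0) :
    ∃ A : GL (Fin k) F, (A⁻¹.1)ᵀ *ᵥ x = y := by
  obtain ⟨B, hB⟩ := exists_GL_mulVec' x y hx hy
  refine ⟨⟨(B⁻¹.1)ᵀ, B.1ᵀ, ?_, ?_⟩, ?_⟩
  · rw [← Matrix.transpose_mul, ← Units.val_mul, mul_inv_cancel, Units.val_one, Matrix.transpose_one]
  · rw [← Matrix.transpose_mul, ← Units.val_mul, inv_mul_cancel, Units.val_one, Matrix.transpose_one]
  · show (B.1ᵀ)ᵀ *ᵥ x = y
    rw [Matrix.transpose_transpose]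
    exact hB

/-- a symmetric matrix moving a non-zero vector to a given vector -/
theorem exists_sym_mulVec {k : ℕ} (x y : Fin k → F) (hx : x ≠ 0) :
    ∃ S : symSub k F, S.1 *ᵥ x = y := by
  obtain ⟨i, hi⟩ : ∃ i, x i ≠ 0 := by
    by_contra h
    push Not at h
    exact hx (funext h)
  let u : Fin k → F := Pi.single i (x i)⁻¹
  have hux : u ⬝ᵥ x = 1 := by
    show Pi.single i (x i)⁻¹ ⬝ᵥ x = 1
    rw [single_dotProduct, inv_mul_cancel₀ hi]
  refine ⟨⟨vecMulVec y u + vecMulVec u y - (y ⬝ᵥ x) • vecMulVec u u, ?_⟩, ?_⟩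
  · show (vecMulVec y u + vecMulVec u y - (y ⬝ᵥ x) • vecMulVec u u)ᵀ = _
    rw [transpose_sub, transpose_add, transpose_smul, transpose_vecMulVec, transpose_vecMulVec,
      transpose_vecMulVec, add_comm]
  · show (vecMulVec y u + vecMulVec u y - (y ⬝ᵥ x) • vecMulVec u u) *ᵥ x = y
    rw [sub_mulVec, add_mulVec, smul_mulVec, vecMulVec_mulVec, vecMulVec_mulVec, vecMulVec_mulVec, hux]
    simp only [MulOpposite.op_one, one_smul]
    funext j
    simp only [Pi.add_apply, Pi.sub_apply, Pi.smul_apply, smul_eq_mul, MulOpposite.smul_eq_mul_unop,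
      MulOpposite.unop_op]
    ring

theorem xs_mulVec {k : ℕ} (S : symSub k F) (a b : Fin k → F) :
    (xs S).1 *ᵥ (Sum.elim a b) = Sum.elim (a + S.1 *ᵥ b) b := by
  show Xmat S.1 *ᵥ (Sum.elim a b) = _
  unfold Xmat
  rw [fromBlocks_mulVec]
  simp

theorem lgH_mulVec {k : ℕ} (A : GL (Fin k) F) (a b : Fin k → F) :
    (lgH A).1 *ᵥ (Sum.elim a b) = Sum.elim (A.1 *ᵥ a) ((A⁻¹.1)ᵀ *ᵥ b) := by
  rw [lgH_val, fromBlocks_mulVec]
  simp

theorem ext0_mulVec_c0 (c : F) (A : Matrix (Fin m) (Fin m) F) (x : Fin m → F) :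
    ext0 c A *ᵥ c0 x = c0 (A *ᵥ x) := by
  funext i
  refine Fin.cases ?_ (fun i' => ?_) i
  · simp [Matrix.mulVec, dotProduct, Fin.sum_univ_succ]
  · simp [Matrix.mulVec, dotProduct, Fin.sum_univ_succ]

theorem c0_zero_vec : c0 (0 : Fin m → F) = 0 := c0_zero'

theorem emb_J_mulVec (x : Fin m → F) :
    (emb (SymplecticGroup.symJ (Fin m) F)).1 *ᵥ (Sum.elim (c0 x) (0 : Fin (m + 1) → F)) =
      Sum.elim (0 : Fin (m + 1) → F) (c0 x) := by
  rw [emb_val]
  show embC 1 0 0 1 (J (Fin m) F) *ᵥ _ = _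
  unfold J
  rw [embC_fromBlocks, fromBlocks_mulVec]
  simp only [Sum.elim_comp_inl, Sum.elim_comp_inr, mulVec_zero, add_zero]
  rw [ext0_mulVec_c0, ext0_mulVec_c0, zero_mulVec, one_mulVec, c0_zero_vec]

end GEN1aux

section GEN

variable {F : Type*} [Field F] {m : ℕ}

open GEN1aux Cfsg.Agent.Lib.Helper13_SympTrans in
theorem closure_P_G2 (hm : 1 ≤ m) :
    Subgroup.closure (Set.range (xs : symSub (m + 1) F → SpG (m + 1) F) ∪
      Set.range (lgH : GL (Fin (m + 1)) F → SpG (m + 1) F) ∪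
      Set.range (emb : SpG m F → SpG (m + 1) F)) = ⊤ := by
  obtain ⟨N, hN⟩ : ∃ N : Subgroup (SpG (m + 1) F), N = Subgroup.closure
      (Set.range (xs : symSub (m + 1) F → SpG (m + 1) F) ∪
      Set.range (lgH : GL (Fin (m + 1)) F → SpG (m + 1) F) ∪
      Set.range (emb : SpG m F → SpG (m + 1) F)) := ⟨_, rfl⟩
  rw [← hN]
  have hxs : ∀ S, xs S ∈ N := fun S => by
    rw [hN]; exact Subgroup.subset_closure (Or.inl (Or.inl ⟨S, rfl⟩))
  have hlg : ∀ A, lgH A ∈ N := fun A => by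
    rw [hN]; exact Subgroup.subset_closure (Or.inl (Or.inr ⟨A, rfl⟩))
  have hemb : ∀ g, emb g ∈ N := fun g => by
    rw [hN]; exact Subgroup.subset_closure (Or.inr ⟨g, rfl⟩)
  -- the orbit of `e = (e₀ ; 0)`
  have he0 : (e0 : Fin (m + 1) → F) ≠ 0 := by
    intro h
    have := congrFun h 0
    simp [e0] at this
  have hsingle : (Pi.single (Sum.inl 0) 1 : Fin (m + 1) ⊕ Fin (m + 1) → F) = Sum.elim e0 0 := by
    unfold e0
    exact (Sum.elim_single_zero _ _).symm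
  have horb : ∀ w : Fin (m + 1) ⊕ Fin (m + 1) → F, w ≠ 0 →
      ∃ g ∈ N, g.1 *ᵥ (Pi.single (Sum.inl 0) 1) = w := by
    intro w hw
    have hwe : w = Sum.elim (w ∘ Sum.inl) (w ∘ Sum.inr) := (Sum.elim_comp_inl_inr w).symm
    rw [hsingle]
    by_cases hr : w ∘ Sum.inr = 0
    · have hl : w ∘ Sum.inl ≠ 0 := by
        intro hl
        apply hw
        rw [hwe, hl, hr]
        funext i
        rcases i with i | i <;> rfl
      obtain ⟨A, hA⟩ := exists_GL_mulVec' (e0 : Fin (m + 1) → F) (w ∘ Sum.inl) he0 hl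
      refine ⟨lgH A, hlg A, ?_⟩
      rw [lgH_mulVec, hA, mulVec_zero, ← hr]
      exact hwe.symm
    · -- the general case
      obtain ⟨j0⟩ : Nonempty (Fin m) := ⟨⟨0, hm⟩⟩
      obtain ⟨x0, hx0def⟩ : ∃ x0 : Fin m → F, x0 = Pi.single j0 1 := ⟨_, rfl⟩
      have hx0 : c0 x0 ≠ (0 : Fin (m + 1) → F) := by
        intro h
        have := congrFun h j0.succ
        rw [c0_succ, hx0def] at this
        simp at this
      obtain ⟨A1, hA1⟩ := exists_GL_mulVec' (e0 : Fin (m + 1) → F) (c0 x0) he0 hx0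
      obtain ⟨A2, hA2⟩ := exists_GL_inv_transpose_mulVec (c0 x0) (w ∘ Sum.inr) hx0 hr
      obtain ⟨S, hS⟩ := exists_sym_mulVec (w ∘ Sum.inr) (w ∘ Sum.inl) hr
      refine ⟨xs S * lgH A2 * emb (SymplecticGroup.symJ (Fin m) F) * lgH A1,
        N.mul_mem (N.mul_mem (N.mul_mem (hxs S) (hlg A2)) (hemb _)) (hlg A1), ?_⟩
      have e1 : ((xs S * lgH A2 * emb (SymplecticGroup.symJ (Fin m) F) * lgH A1 : SpG (m + 1) F)).1 =
          (xs S).1 * (lgH A2).1 * (emb (SymplecticGroup.symJ (Fin m) F)).1 * (lgH A1).1 := rfl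
      rw [e1, ← mulVec_mulVec, ← mulVec_mulVec, ← mulVec_mulVec, lgH_mulVec, hA1, mulVec_zero,
        emb_J_mulVec, lgH_mulVec, mulVec_zero, hA2, xs_mulVec, hS, zero_add]
      exact hwe.symm
  rw [eq_top_iff, ← Cfsg.Agent.S0765.result (m + 1), Subgroup.closure_le]
  rintro A ⟨w, c, hA⟩
  have hAt : A = transv (m + 1) w c := Subtype.ext hA
  by_cases hw : w = 0
  · subst hw
    have : transv (m + 1) (0 : Fin (m + 1) ⊕ Fin (m + 1) → F) c = 1 := by
      apply Subtype.ext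
      show Cfsg.sympTransvection (m + 1) 0 c = 1
      simp [Cfsg.sympTransvection]
    rw [hAt, this]
    exact N.one_mem
  · obtain ⟨g, hg, hgw⟩ := horb w hw
    show A ∈ N
    rw [hAt, ← hgw, ← conj_transv, transv_single]
    exact N.mul_mem (N.mul_mem hg (hxs ⟨single 0 0 c, by
      show (single 0 0 c)ᵀ = _
      rw [transpose_single]⟩)) (N.inv_mem hg)

end GEN

end Cfsg.Agent.Lib.Helper75_TZ
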