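/-
helper11: package GRP-W0 of helper75's S2524 market (tz_packages).
-/
import Mathlib
import Cfsg.Agent.Lib.Helper75_TZDefs
set_option autoImplicit false
namespace Cfsg.Agent.Lib.Helper75_TZ
open Matrix Module
open Cfsg.Agent.Lib.Helper5_SpPerfect Cfsg.Agent.Lib.Helper81_SpWeights Cfsg.Agent.Lib.Helper81_JointEigen
  Cfsg.Agent.Lib.Helper81_Heis Cfsg.Agent.Lib.Helper81_WeilLin Cfsg.Agent.Lib.Helper81_Schrodinger

namespace GRPW0aux

variable {F : Type*} [Field F] {m : ℕ}

theorem w0_val : (w0 : SpG (m + 1) F).1 =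
    fromBlocks (ext0 0 1) (ext0 (-1) 0) (ext0 1 0) (ext0 0 1) := by
  show embC 0 (-1) 1 0 (1 : Matrix (Fin m ⊕ Fin m) (Fin m ⊕ Fin m) F) = _
  rw [← fromBlocks_one, embC_fromBlocks]

theorem xb_val (b : Fin m → F) : (xb b : SpG (m + 1) F).1 = fromBlocks 1 (xS b).1 0 1 := rfl

theorem lowL_val (b : Fin m → F) :
    (lowL b : SpG (m + 1) F).1 = fromBlocks (lowA b) 0 0 (lowA (-b))ᵀ := rfl

theorem e0_zero : (e0 : Fin (m + 1) → F) 0 = 1 := by
  unfold e0; simp

theorem e0_succ (j : Fin m) : (e0 : Fin (m + 1) → F) j.succ = 0 := by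
  unfold e0; simp [Fin.succ_ne_zero]

theorem zero_ne_succ' (j : Fin m) : ¬ (0 : Fin (m + 1)) = j.succ := (Fin.succ_ne_zero j).symm

theorem id1 (b : Fin m → F) :
    (ext0 0 1 : Matrix (Fin (m + 1)) (Fin (m + 1)) F) + (xS b).1 * ext0 1 0 = ext0 0 1 * lowA b := by
  ext i j
  refine Fin.cases ?_ (fun i' => ?_) i <;> refine Fin.cases ?_ (fun j' => ?_) j <;>
    simp [Matrix.mul_apply, Matrix.add_apply, Fin.sum_univ_succ, lowA, xS, vecMulVec_apply, e0_zero,
      e0_succ, Matrix.one_apply, Fin.succ_ne_zero]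

theorem id2 (b : Fin m → F) :
    (ext0 (-1) 0 : Matrix (Fin (m + 1)) (Fin (m + 1)) F) + (xS b).1 * ext0 0 1 =
      ext0 (-1) 0 * (lowA (-b))ᵀ := by
  ext i j
  refine Fin.cases ?_ (fun i' => ?_) i <;> refine Fin.cases ?_ (fun j' => ?_) j <;>
    simp [Matrix.mul_apply, Matrix.add_apply, Fin.sum_univ_succ, lowA, xS, vecMulVec_apply, e0_zero,
      e0_succ, Matrix.one_apply, Fin.succ_ne_zero, Matrix.transpose_apply, zero_ne_succ']

theorem id3 (b : Fin m → F) :
    (ext0 1 0 : Matrix (Fin (m + 1)) (Fin (m + 1)) F) = ext0 1 0 * lowA b := by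
  ext i j
  refine Fin.cases ?_ (fun i' => ?_) i <;> refine Fin.cases ?_ (fun j' => ?_) j <;>
    simp [Matrix.mul_apply, Matrix.add_apply, Fin.sum_univ_succ, lowA, xS, vecMulVec_apply, e0_zero,
      e0_succ, Matrix.one_apply, Fin.succ_ne_zero]

theorem id4 (b : Fin m → F) :
    (ext0 0 1 : Matrix (Fin (m + 1)) (Fin (m + 1)) F) = ext0 0 1 * (lowA (-b))ᵀ := by
  ext i j
  refine Fin.cases ?_ (fun i' => ?_) i <;> refine Fin.cases ?_ (fun j' => ?_) j <;>
    simp [Matrix.mul_apply, Matrix.add_apply, Fin.sum_univ_succ, lowA, xS, vecMulVec_apply, e0_zero,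
      e0_succ, Matrix.one_apply, Fin.succ_ne_zero, Matrix.transpose_apply]

theorem xb_mul_w0 (b : Fin m → F) : (xb b : SpG (m + 1) F) * w0 = w0 * lowL b := by
  apply Subtype.ext
  show (xb b : SpG (m + 1) F).1 * (w0 : SpG (m + 1) F).1 = (w0 : SpG (m + 1) F).1 * (lowL b).1
  rw [xb_val, w0_val, lowL_val, fromBlocks_multiply, fromBlocks_multiply]
  simp only [Matrix.one_mul, Matrix.zero_mul, Matrix.mul_zero, add_zero, zero_add]
  rw [id1, id2, ← id3, ← id4]

/-- the key matrix identity for the commutator -/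
theorem id5 (b b' : Fin m → F) :
    lowA b * (xS b').1 * (lowA b)ᵀ = (xS b').1 + ext0 0 (symBB b b').1 := by
  ext i j
  refine Fin.cases ?_ (fun i' => ?_) i <;> refine Fin.cases ?_ (fun j' => ?_) j <;>
    simp [Matrix.mul_apply, Matrix.add_apply, Fin.sum_univ_succ, lowA, xS, symBB, vecMulVec_apply,
      e0_zero, e0_succ, Matrix.one_apply, Fin.succ_ne_zero, Matrix.transpose_apply, add_mul, mul_add,
      Finset.sum_add_distrib]

end GRPW0aux

section GRP

variable {F : Type*} [Field F] {m : ℕ}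

open GRPW0aux in
theorem w0_conj_xb (b : Fin m → F) : (w0 : SpG (m + 1) F)⁻¹ * xb b * w0 = lowL b ∨
    (w0 : SpG (m + 1) F)⁻¹ * xb b * w0 = lowL (-b) := by
  left
  rw [mul_assoc, xb_mul_w0, inv_mul_cancel_left]

open GRPW0aux in
theorem lowL_comm_xb (b b' : Fin m → F) :
    lowL b * xb b' * (lowL b)⁻¹ * (xb b')⁻¹ = xs (emS (symBB b b')) := by
  have h1 : lowL b * xb b' = xs (cong (lowA b) (xS b')) * lowL b := lgH_mul_xs _ _
  have h2 : cong (lowA b) (xS b') = xS b' + emS (symBB b b') := Subtype.ext (id5 b b')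
  rw [h1, mul_inv_cancel_right, h2, add_comm (xS b') _, xs_add]
  show xs (emS (symBB b b')) * xs (xS b') * (xs (xS b'))⁻¹ = _
  rw [mul_inv_cancel_right]

/-- the `symBB b b'` span the symmetric matrices (`2 ≠ 0`) -/
theorem symBB_span (h2 : (2 : F) ≠ 0) :
    Submodule.span F (Set.range fun p : (Fin m → F) × (Fin m → F) => symBB p.1 p.2) = ⊤ := by
  rw [eq_top_iff]
  rintro S -
  have key : S = ∑ i, ∑ j, (2⁻¹ * S.1 i j) •
      (symBB (Pi.single i 1) (Pi.single j 1) : symSub m F) := by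
    apply Subtype.ext
    rw [Submodule.coe_sum]
    simp only [Submodule.coe_sum, Submodule.coe_smul]
    ext a b
    have hsym : S.1 b a = S.1 a b := congrFun (congrFun (mem_symSub.mp S.2) a) b
    simp only [Matrix.sum_apply, Matrix.smul_apply, symBB, Matrix.add_apply, vecMulVec_apply,
      Pi.single_apply, smul_eq_mul, mul_add, Finset.sum_add_distrib, mul_ite, mul_one,
      mul_zero, Finset.sum_ite_eq, Finset.mem_univ, if_true]
    have e1 : ∀ x : Fin m, (∑ x_1, if b = x then if a = x_1 then 2⁻¹ * S.1 x x_1 else 0 else 0) =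
        if b = x then 2⁻¹ * S.1 x a else 0 := by
      intro x
      split_ifs
      · simp
      · simp
    simp only [e1, Finset.sum_ite_eq, Finset.mem_univ, if_true]
    have hh : (2⁻¹ : F) + 2⁻¹ = 1 := by rw [← two_mul, mul_inv_cancel₀ h2]
    rw [hsym, ← add_mul, hh, one_mul]
  rw [key]
  exact Submodule.sum_mem _ (fun i _ => Submodule.sum_mem _ (fun j _ =>
    Submodule.smul_mem _ _ (Submodule.subset_span ⟨(Pi.single i 1, Pi.single j 1), rfl⟩)))

end GRP

end Cfsg.Agent.Lib.Helper75_TZ
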