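/-
helper11: package S1 of helper75's S2524 market (tz_packages): the shape of the weights (rank ≤ 1).
-/
import Mathlib
import Cfsg.Agent.Lib.Helper75_TZDefs
set_option autoImplicit false
namespace Cfsg.Agent.Lib.Helper75_TZ
open Matrix Module
open Cfsg.Agent.Lib.Helper5_SpPerfect Cfsg.Agent.Lib.Helper81_SpWeights Cfsg.Agent.Lib.Helper81_JointEigen
  Cfsg.Agent.Lib.Helper81_Heis Cfsg.Agent.Lib.Helper81_WeilLin Cfsg.Agent.Lib.Helper81_Schrodinger

namespace S1aux

variable {F : Type*} [Field F] {m : ℕ}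

/-- a rank one symmetric matrix with non-zero corner -/
theorem rk1_corner_ne (T : symSub (m + 1) F) (h : IsRk1 T.1) (ha : T.1 0 0 ≠ 0) :
    ∃ s : Fin m → F, T = rk1S (T.1 0 0) (Fin.cons 1 s) := by
  obtain ⟨a, x, hT⟩ := h
  have h00 : T.1 0 0 = a * (x 0 * x 0) := by
    rw [hT]; simp [vecMulVec_apply]
  have hx0 : x 0 ≠ 0 := by
    intro h0
    apply ha
    rw [h00, h0, mul_zero, mul_zero]
  refine ⟨fun j => x j.succ / x 0, ?_⟩
  apply Subtype.ext
  show T.1 = T.1 0 0 • vecMulVec (Fin.cons 1 fun j => x j.succ / x 0) (Fin.cons 1 fun j => x j.succ / x 0)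
  rw [h00]
  rw [hT]
  ext i j
  refine Fin.cases ?_ (fun i' => ?_) i <;> refine Fin.cases ?_ (fun j' => ?_) j <;>
    simp [vecMulVec_apply] <;> field_simp

/-- a rank one symmetric matrix with zero corner -/
theorem rk1_corner_zero (T : symSub (m + 1) F) (h : IsRk1 T.1) (h0 : T.1 0 0 = 0) :
    ∃ T₂ : symSub m F, T = emS T₂ := by
  obtain ⟨a, x, hT⟩ := h
  have h00 : a * (x 0 * x 0) = 0 := by
    rw [← h0, hT]; simp [vecMulVec_apply]
  have hax : a * x 0 = 0 := by
    rcases mul_eq_zero.mp h00 with h | h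
    · rw [h, zero_mul]
    · rcases mul_self_eq_zero.mp h with h
      rw [h, mul_zero]
  refine ⟨⟨T.1.submatrix Fin.succ Fin.succ, ?_⟩, ?_⟩
  · show (T.1.submatrix Fin.succ Fin.succ)ᵀ = _
    rw [transpose_submatrix, mem_symSub.mp T.2]
  · apply Subtype.ext
    show T.1 = ext0 0 (T.1.submatrix Fin.succ Fin.succ)
    ext i j
    refine Fin.cases ?_ (fun i' => ?_) i <;> refine Fin.cases ?_ (fun j' => ?_) j
    · exact h0
    · rw [ext0_zero_succ, hT]
      simp only [Matrix.smul_apply, vecMulVec_apply, smul_eq_mul]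
      rw [← mul_assoc, hax, zero_mul]
    · rw [ext0_succ_zero, hT]
      simp only [Matrix.smul_apply, vecMulVec_apply, smul_eq_mul]
      rw [mul_comm (x i'.succ), ← mul_assoc, hax, zero_mul]
    · rfl

end S1aux

section S

variable {F : Type*} [Field F] [Fintype F] [DecidableEq F] {m : ℕ} {K : Type*} [Field K]
  [IsAlgClosed K] [CharZero K] {M : Type*} [AddCommGroup M] [Module K M] [FiniteDimensional K M]

/-- PACKAGE S1: the shape of the weights (rank ≤ 1) -/
theorem weight_of_corner_ne (ψ₀ : AddChar F K) (R : SpG (m + 1) F →* Module.End K M)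
    (hrk : RankLeOne R ψ₀) (T : symSub (m + 1) F) (hT : wsp R ψ₀ T ≠ ⊥) (ha : T.1 0 0 ≠ 0) :
    ∃ s : Fin m → F, T = rk1S (T.1 0 0) (Fin.cons 1 s) :=
  S1aux.rk1_corner_ne T (hrk T hT) ha

theorem weight_of_corner_zero (ψ₀ : AddChar F K) (R : SpG (m + 1) F →* Module.End K M)
    (hrk : RankLeOne R ψ₀) (T : symSub (m + 1) F) (hT : wsp R ψ₀ T ≠ ⊥) (h0 : T.1 0 0 = 0) :
    ∃ T₂ : symSub m F, T = emS T₂ :=
  S1aux.rk1_corner_zero T (hrk T hT) h0

end S

end Cfsg.Agent.Lib.Helper75_TZ
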