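import Mathlib

/-!
# TWOGEN-NT (package of helper32's S2413 / S2414 / S2415)

In a field with `Q ^ 2` elements, `Q ≥ 4`, an element of norm one (`x ^ (Q + 1) = 1`) of order at least
`(Q + 1) / 2` lies in no proper subfield.  Pure arithmetic: if `|L| = ℓ` and `ℓ ^ r = Q ^ 2`, then for
`r = 2 s` one gets `Q = ℓ ^ s ≡ 1` modulo the order `n`, so `n ∣ 2`; for `r = 2 s + 1`, `s ≥ 1`, one gets
`ℓ = P ^ 2`, `Q = P * ℓ ^ s ≡ P`, so `n ∣ P + 1`, too small.
-/

set_option autoImplicit false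

namespace Cfsg.Agent.Lib.Helper11_TwoGen_NT

/-- the arithmetic core -/
theorem nt_arith (Q ℓ r n : ℕ) (hQ : 4 ≤ Q) (hℓ : 2 ≤ ℓ) (hpow : Q ^ 2 = ℓ ^ r)
    (hnQ : n ∣ Q + 1) (hnℓ : n ∣ ℓ - 1) (hord : Q + 1 ≤ 2 * n) : r = 1 := by
  have hn0 : 0 < n := by
    rcases Nat.eq_zero_or_pos n with h | h
    · rw [h] at hord
      omega
    · exact h
  have hmod : 1 ≡ ℓ [MOD n] := (Nat.modEq_iff_dvd' (by omega : 1 ≤ ℓ)).2 hnℓ
  have hmods : ∀ s : ℕ, ℓ ^ s ≡ 1 [MOD n] := fun s => by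
    have := (hmod.symm.pow s)
    rwa [one_pow] at this
  rcases Nat.even_or_odd' r with ⟨s, hs | hs⟩
  · -- `r = 2 s`
    exfalso
    have hQs : Q = ℓ ^ s := by
      have h1 : Q ^ 2 = (ℓ ^ s) ^ 2 := by rw [hpow, hs, ← pow_mul, mul_comm]
      exact Nat.pow_left_injective (by norm_num : (2 : ℕ) ≠ 0) h1
    have h2 : Q + 1 ≡ 1 + 1 [MOD n] := by
      rw [hQs]
      exact (hmods s).add_right 1
    have h3 : n ∣ 1 + 1 := (h2.dvd_iff (dvd_refl n)).1 hnQ
    have h4 : n ≤ 2 := Nat.le_of_dvd (by norm_num) h3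
    omega
  · -- `r = 2 s + 1`
    rcases Nat.eq_zero_or_pos s with h0 | hspos
    · rw [hs, h0]
    exfalso
    have hsq : Q ^ 2 = ℓ * (ℓ ^ s) ^ 2 := by
      rw [hpow, hs, ← pow_mul, pow_succ, mul_comm s 2, mul_comm]
    have hdvd : ℓ ^ s ∣ Q := by
      have h1 : (ℓ ^ s) ^ 2 ∣ Q ^ 2 := by
        rw [hsq]
        exact Dvd.intro_left _ rfl
      exact (Nat.pow_dvd_pow_iff (by norm_num : (2 : ℕ) ≠ 0)).1 h1
    obtain ⟨P, hP⟩ := hdvd
    have hℓs0 : 0 < ℓ ^ s := Nat.pow_pos (by omega)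
    have hPsq : P ^ 2 = ℓ := by
      have h1 : (ℓ ^ s) ^ 2 * P ^ 2 = (ℓ ^ s) ^ 2 * ℓ := by
        rw [← mul_pow, ← hP, hsq, mul_comm]
      exact Nat.eq_of_mul_eq_mul_left (Nat.pow_pos hℓs0) h1
    have hP2 : 2 ≤ P := by
      by_contra hlt
      have hP1 : P ≤ 1 := by omega
      have : P ^ 2 ≤ 1 := by
        calc P ^ 2 ≤ 1 ^ 2 := Nat.pow_le_pow_left hP1 2
          _ = 1 := by norm_num
      omega
    have hℓ4 : 4 ≤ ℓ := by
      rw [← hPsq]
      calc 4 = 2 ^ 2 := by norm_num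
        _ ≤ P ^ 2 := Nat.pow_le_pow_left hP2 2
    have hℓs4 : 4 ≤ ℓ ^ s := by
      calc 4 ≤ ℓ := hℓ4
        _ = ℓ ^ 1 := (pow_one ℓ).symm
        _ ≤ ℓ ^ s := Nat.pow_le_pow_right (by omega) hspos
    have hQP : 4 * P ≤ Q := by
      rw [hP]
      exact Nat.mul_le_mul_right P hℓs4
    have h2 : Q + 1 ≡ P + 1 [MOD n] := by
      rw [hP]
      have := (hmods s).mul_right P
      rw [one_mul] at this
      exact this.add_right 1
    have h3 : n ∣ P + 1 := (h2.dvd_iff (dvd_refl n)).1 hnQ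
    have h4 : n ≤ P + 1 := Nat.le_of_dvd (by omega) h3
    omega

/-- **NT** -/
theorem NT {K' : Type*} [Field K'] [Fintype K'] (Q : ℕ) (hQ : 4 ≤ Q)
    (hcard : Fintype.card K' = Q ^ 2) (x : K') (hx : x ^ (Q + 1) = 1)
    (hord : Q + 1 ≤ 2 * orderOf x) (L : Subfield K') (hxL : x ∈ L) : L = ⊤ := by
  classical
  have : Fintype L := Fintype.ofFinite L
  have hpow : Q ^ 2 = Fintype.card L ^ Module.finrank L K' := by
    rw [← hcard]
    exact Module.card_eq_pow_finrank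
  have hℓ2 : 2 ≤ Fintype.card L := Fintype.one_lt_card
  have hx0 : x ≠ 0 := by
    rintro rfl
    rw [zero_pow (by omega)] at hx
    exact zero_ne_one hx
  have hnQ : orderOf x ∣ Q + 1 := orderOf_dvd_of_pow_eq_one hx
  have hnℓ : orderOf x ∣ Fintype.card L - 1 := by
    apply orderOf_dvd_of_pow_eq_one
    have h := FiniteField.pow_card_sub_one_eq_one (⟨x, hxL⟩ : L)
      (fun h => hx0 (congrArg Subtype.val h))
    have h' := congrArg (Subtype.val : L → K') h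
    simpa using h'
  have hr : Module.finrank L K' = 1 :=
    nt_arith Q (Fintype.card L) (Module.finrank L K') (orderOf x) hQ hℓ2 hpow hnQ hnℓ hord
  have hcardeq : Fintype.card L = Fintype.card K' := by
    rw [hcard, hpow, hr, pow_one]
  rw [eq_top_iff]
  intro y _
  have hbij : Function.Bijective (Subtype.val : L → K') :=
    (Fintype.bijective_iff_injective_and_card _).2 ⟨Subtype.val_injective, hcardeq⟩
  obtain ⟨⟨z, hz⟩, rfl⟩ := hbij.2 y
  exact hz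

end Cfsg.Agent.Lib.Helper11_TwoGen_NT
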