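import Mathlib
import Cfsg.Agent.Lib.Helper94_OrthSiegel2

/-!
helper32: abstract engine for the two-generation of `Ω(Q)` (rows S2413, S2414, S2415), in helper94's abstract
Siegel framework (`Q : V → F` with polar form `B`).

* `Full H w`: the whole Siegel group `X_w = {sieg w ζ | ζ ⊥ w}` lies in `H`.
* `exists_sieg_map`: for `u` singular and `p₁`, `p₂` singular, both non-orthogonal to `u`, some `sieg u ζ` maps `p₁`
  to a nonzero multiple of `p₂`.
* `full_all`: a subgroup containing `X_{p₁}` and `X_{p₂}` for a non-orthogonal singular pair contains every Siegel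
  element.
-/

set_option autoImplicit false
set_option linter.unusedSimpArgs false
set_option linter.unusedVariables false
set_option linter.unusedSectionVars false

namespace Cfsg.Agent.Lib.Helper32_OmegaTwoGen

open Module Cfsg.Agent.Lib.Helper94_Symp Cfsg.Agent.Lib.Helper94_OrthSmall
  Cfsg.Agent.Lib.Helper94_OrthSiegel Cfsg.Agent.Lib.Helper94_OrthSiegel2

variable {F V : Type*} [Field F] [AddCommGroup V] [Module F V]

variable (Q : V → F) (B : LinearMap.BilinForm F V)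
  (hQs : ∀ (c : F) (v : V), Q (c • v) = c * c * Q v)
  (hQp : ∀ u v : V, Q (u + v) = Q u + Q v + B u v)

/-- the whole Siegel group at `w` lies in `H` -/
def Full (H : Subgroup (V ≃ₗ[F] V)) (w : V) : Prop :=
  ∀ ζ : V, B w ζ = 0 → sieg Q B w ζ ∈ H

include hQs hQp in
lemma full_smul {H : Subgroup (V ≃ₗ[F] V)} {w : V} (hw : Q w = 0) (h : Full Q B H w) (κ : F) :
    Full Q B H (κ • w) := by
  intro ζ hζ
  by_cases hκ : κ = 0
  · subst hκ
    rw [zero_smul, sieg_zero_left Q B hQs hQp]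
    exact H.one_mem
  have hζ' : B w ζ = 0 := by
    rw [map_smul, LinearMap.smul_apply, smul_eq_mul] at hζ
    rcases mul_eq_zero.mp hζ with h1 | h1
    · exact absurd h1 hκ
    · exact h1
  rw [sieg_smul_left Q B hQs hQp hw hζ']
  apply h
  rw [map_smul, hζ', smul_zero]

include hQs hQp in
lemma full_map {H : Subgroup (V ≃ₗ[F] V)} {w : V} (hw : Q w = 0) (h : Full Q B H w)
    {g : V ≃ₗ[F] V} (hgH : g ∈ H) (hg : g ∈ oG Q) : Full Q B H (g w) := by
  intro ζ hζ
  have h1 : B w (g⁻¹ ζ) = 0 := by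
    rw [← oG_B Q B hQp hg, apply_inv_apply']
    exact hζ
  have h2 := conj_sieg Q B hQs hQp hg hw h1
  rw [apply_inv_apply'] at h2
  rw [← h2]
  exact H.mul_mem (H.mul_mem hgH (h _ h1)) (H.inv_mem hgH)

include hQs hQp in
/-- transitivity of `X_u` on the singular points opposite `u` -/
lemma exists_sieg_map {u p₁ p₂ : V} (hu : Q u = 0) (hp₁ : Q p₁ = 0) (hp₂ : Q p₂ = 0)
    (h1 : B u p₁ ≠ 0) (h2 : B u p₂ ≠ 0) :
    ∃ ζ : V, B u ζ = 0 ∧ ∃ κ : F, κ ≠ 0 ∧ sieg Q B u ζ p₁ = κ • p₂ := by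
  have hsymm := B_symm Q B hQp
  have huu : B u u = 0 := by rw [B_self Q B hQs hQp, hu, mul_zero]
  set β : F := B u p₁ with hβ
  set κ : F := β / B u p₂ with hκ
  have hκ0 : κ ≠ 0 := div_ne_zero h1 h2
  -- `w := κ p₂` has `B u w = β`
  set w : V := κ • p₂ with hw
  have hw1 : B u w = β := by
    rw [hw, map_smul, smul_eq_mul, hκ]
    field_simp
  have hQw : Q w = 0 := by rw [hw, hQs, hp₂, mul_zero]
  set ζ : V := β⁻¹ • (w - p₁) with hζ
  have huζ : B u ζ = 0 := by
    rw [hζ, map_smul, map_sub, hw1, sub_self, smul_zero]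
  refine ⟨ζ, huζ, κ, hκ0, ?_⟩
  -- the image is `w - γ u`, singular, hence `γ = 0`
  have himg : sieg Q B u ζ p₁ = w + (-(B p₁ ζ) - Q ζ * β) • u := by
    rw [sieg_apply Q B hQs hQp hu huζ, hsymm p₁ u, ← hβ, hζ, smul_smul, mul_inv_cancel₀ h1, one_smul]
    module
  have hsing : Q (sieg Q B u ζ p₁) = 0 := by
    rw [sieg_mem_oG Q B hQs hQp hu huζ p₁, hp₁]
  rw [himg, Q_add_smul Q B hQs hQp, hQw, hu, hsymm w u, hw1] at hsing
  have hγ : (-(B p₁ ζ) - Q ζ * β) = 0 := by
    have : (-(B p₁ ζ) - Q ζ * β) * β = 0 := by linear_combination hsing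
    rcases mul_eq_zero.mp this with h | h
    · exact h
    · exact absurd h h1
  rw [himg, hγ, zero_smul, add_zero]


include hQs hQp in
/-- one step: from a full base `q₀` and a full point `p` not orthogonal to it, every singular `t` not orthogonal to
`q₀` is full -/
lemma full_step {H : Subgroup (V ≃ₗ[F] V)} {q₀ p t : V} (hq₀ : Q q₀ = 0) (hp : Q p = 0) (ht : Q t = 0)
    (hfq : Full Q B H q₀) (hfp : Full Q B H p) (h1 : B q₀ p ≠ 0) (h2 : B q₀ t ≠ 0) : Full Q B H t := by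
  obtain ⟨ζ, hζ, κ, hκ, hmap⟩ := exists_sieg_map Q B hQs hQp hq₀ hp ht h1 h2
  have hgH : sieg Q B q₀ ζ ∈ H := hfq ζ hζ
  have hgO : sieg Q B q₀ ζ ∈ oG Q := sieg_mem_oG Q B hQs hQp hq₀ hζ
  have h3 : Full Q B H (κ • t) := by
    rw [← hmap]
    exact full_map Q B hQs hQp hp hfp hgH hgO
  have h4 := full_smul Q B hQs hQp (by rw [hQs, ht, mul_zero]) h3 κ⁻¹
  rwa [smul_smul, inv_mul_cancel₀ hκ, one_smul] at h4

include hQs hQp in
/-- a subgroup containing the full Siegel groups of two non-orthogonal singular vectors contains every Siegel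
element -/
lemma full_all {H : Subgroup (V ≃ₗ[F] V)}
    (hrad : ∀ w : V, Q w = 0 → (∀ ζ : V, B w ζ = 0) → w = 0)
    {p₁ p₂ : V} (hp₁ : Q p₁ = 0) (hp₂ : Q p₂ = 0) (h12 : B p₁ p₂ ≠ 0)
    (h1 : Full Q B H p₁) (h2 : Full Q B H p₂) {w : V} (hw : Q w = 0) : Full Q B H w := by
  have hsymm := B_symm Q B hQp
  have h21 : B p₂ p₁ ≠ 0 := by rwa [hsymm]
  by_cases hw1 : B p₁ w = 0
  swap
  · exact full_step Q B hQs hQp hp₁ hp₂ hw h1 h2 h12 hw1
  by_cases hw2 : B p₂ w = 0
  swap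
  · exact full_step Q B hQs hQp hp₂ hp₁ hw h2 h1 h21 hw2
  by_cases hw0 : w = 0
  · intro ζ _
    rw [hw0, sieg_zero_left Q B hQs hQp]
    exact H.one_mem
  obtain ⟨ζ₀, hζ₀⟩ : ∃ ζ₀, B w ζ₀ ≠ 0 := by
    by_contra hcon
    push Not at hcon
    exact hw0 (hrad w hw hcon)
  set ζ : V := ζ₀ - (B p₁ ζ₀ / B p₁ p₂) • p₂ with hζ
  have hp₁ζ : B p₁ ζ = 0 := by
    rw [hζ, map_sub, map_smul, smul_eq_mul, div_mul_cancel₀ _ h12, sub_self]
  have hwζ : B w ζ ≠ 0 := by
    rw [hζ, map_sub, map_smul, hsymm w p₂, hw2, smul_zero, sub_zero]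
    exact hζ₀
  have hgH : sieg Q B p₁ ζ ∈ H := h1 ζ hp₁ζ
  have hgO : sieg Q B p₁ ζ ∈ oG Q := sieg_mem_oG Q B hQs hQp hp₁ hp₁ζ
  have hfu' : Full Q B H (sieg Q B p₁ ζ p₂) := full_map Q B hQs hQp hp₂ h2 hgH hgO
  have hQu' : Q (sieg Q B p₁ ζ p₂) = 0 := by rw [hgO, hp₂]
  have hp₁p₁ : B p₁ p₁ = 0 := by rw [B_self Q B hQs hQp, hp₁, mul_zero]
  have hu' : sieg Q B p₁ ζ p₂ = p₂ + B p₂ p₁ • ζ - B p₂ ζ • p₁ - (Q ζ * B p₂ p₁) • p₁ :=
    sieg_apply Q B hQs hQp hp₁ hp₁ζ p₂
  have hu'p₁ : B (sieg Q B p₁ ζ p₂) p₁ ≠ 0 := by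
    rw [hu']
    simp only [map_add, map_sub, map_smul, LinearMap.add_apply, LinearMap.sub_apply,
      LinearMap.smul_apply, smul_eq_mul, hp₁p₁, mul_zero, sub_zero, hsymm ζ p₁, hp₁ζ, add_zero]
    exact h21
  have hu'w : B (sieg Q B p₁ ζ p₂) w ≠ 0 := by
    rw [hu']
    simp only [map_add, map_sub, map_smul, LinearMap.add_apply, LinearMap.sub_apply,
      LinearMap.smul_apply, smul_eq_mul, hw1, hw2, mul_zero, sub_zero, zero_add, hsymm ζ w]
    exact mul_ne_zero h21 hwζ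
  exact full_step Q B hQs hQp hQu' hp₁ hw hfu' h1 hu'p₁ hu'w

include hQs hQp in
lemma sieg_comm {u z z' : V} (hu : Q u = 0) (huz : B u z = 0) (huz' : B u z' = 0) :
    Commute (sieg Q B u z) (sieg Q B u z') := by
  show sieg Q B u z * sieg Q B u z' = sieg Q B u z' * sieg Q B u z
  rw [sieg_mul Q B hQs hQp hu huz huz', sieg_mul Q B hQs hQp hu huz' huz, add_comm]

include hQs hQp in
lemma sieg_pow {u z : V} (hu : Q u = 0) (huz : B u z = 0) (n : ℕ) :
    (sieg Q B u z) ^ n = sieg Q B u ((n : F) • z) := by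
  induction n with
  | zero =>
    rw [pow_zero, Nat.cast_zero, zero_smul, sieg_zero_right Q B hQs hQp hu]
  | succ n ih =>
    have h1 : B u ((n : F) • z) = 0 := by rw [map_smul, huz, smul_zero]
    rw [pow_succ, ih, sieg_mul Q B hQs hQp hu h1 huz, Nat.cast_succ, add_smul, one_smul]


/-! ### The `SL₂`-element on a hyperbolic quadruple -/

/-- the set of Siegel elements -/
def siegSet : Set (V ≃ₗ[F] V) := {g | ∃ u z : V, Q u = 0 ∧ B u z = 0 ∧ g = sieg Q B u z}

section quad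

variable {u v z w : V} (hu : Q u = 0) (hv : Q v = 0) (hz : Q z = 0) (hw : Q w = 0)
  (huv : B u v = 1) (hzw : B z w = 1) (huz : B u z = 0) (huw : B u w = 0) (hvz : B v z = 0)
  (hvw : B v w = 0)

include hQs hQp hu hw huw in
lemma E_apply (s : F) (x : V) :
    sieg Q B u (s • w) x = x + (s * B x u) • w - (s * B x w) • u := by
  have h1 : B u (s • w) = 0 := by rw [map_smul, huw, smul_zero]
  rw [sieg_apply Q B hQs hQp hu h1, hQs, hw]
  simp only [map_smul, smul_eq_mul]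
  module

/-- the element of order four (characteristic not two) -/
noncomputable def yOdd (u v z w : V) : V ≃ₗ[F] V :=
  sieg Q B u ((1 : F) • w) * sieg Q B z ((-1 : F) • v) * sieg Q B u ((1 : F) • w)

/-- the element of order three (characteristic two) -/
noncomputable def yEven (u v z w : V) : V ≃ₗ[F] V :=
  sieg Q B u ((1 : F) • w) * sieg Q B z ((1 : F) • v)

include hQs hQp hu hv hz hw huv hzw huz huw hvz hvw in
lemma yOdd_apply (x : V) :
    yOdd Q B u v z w x =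
      x + (-(B x w) - B x v) • u + (-(B x z) - B x u) • v + (B x v - B x w) • z
        + (B x u - B x z) • w := by
  have hsymm := B_symm Q B hQp
  have huu : B u u = 0 := by rw [B_self Q B hQs hQp, hu, mul_zero]
  have hvv : B v v = 0 := by rw [B_self Q B hQs hQp, hv, mul_zero]
  have hzz : B z z = 0 := by rw [B_self Q B hQs hQp, hz, mul_zero]
  have hww : B w w = 0 := by rw [B_self Q B hQs hQp, hw, mul_zero]
  have hvu : B v u = 1 := by rw [hsymm, huv]
  have hwz : B w z = 1 := by rw [hsymm, hzw]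
  have hzu : B z u = 0 := by rw [hsymm, huz]
  have hwu : B w u = 0 := by rw [hsymm, huw]
  have hzv : B z v = 0 := by rw [hsymm, hvz]
  have hwv : B w v = 0 := by rw [hsymm, hvw]
  unfold yOdd
  rw [LinearEquiv.mul_apply, LinearEquiv.mul_apply, E_apply Q B hQs hQp hu hw huw,
    E_apply Q B hQs hQp hz hv hzv, E_apply Q B hQs hQp hu hw huw]
  simp only [map_add, map_sub, map_smul, LinearMap.add_apply, LinearMap.sub_apply,
    LinearMap.smul_apply, smul_eq_mul, huu, hvv, hzz, hww, huv, hvu, hzw, hwz, huz, hzu, huw, hwu,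
    hvz, hzv, hvw, hwv, mul_zero, mul_one, add_zero, sub_zero, zero_add, zero_sub]
  module

include hQs hQp hu hv hz hw huv hzw huz huw hvz hvw in
lemma yOdd_sq_apply (x : V) :
    yOdd Q B u v z w (yOdd Q B u v z w x) =
      x - (2 * B x v) • u - (2 * B x u) • v - (2 * B x w) • z - (2 * B x z) • w := by
  have hsymm := B_symm Q B hQp
  have huu : B u u = 0 := by rw [B_self Q B hQs hQp, hu, mul_zero]
  have hvv : B v v = 0 := by rw [B_self Q B hQs hQp, hv, mul_zero]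
  have hzz : B z z = 0 := by rw [B_self Q B hQs hQp, hz, mul_zero]
  have hww : B w w = 0 := by rw [B_self Q B hQs hQp, hw, mul_zero]
  have hvu : B v u = 1 := by rw [hsymm, huv]
  have hwz : B w z = 1 := by rw [hsymm, hzw]
  have hzu : B z u = 0 := by rw [hsymm, huz]
  have hwu : B w u = 0 := by rw [hsymm, huw]
  have hzv : B z v = 0 := by rw [hsymm, hvz]
  have hwv : B w v = 0 := by rw [hsymm, hvw]
  rw [yOdd_apply Q B hQs hQp hu hv hz hw huv hzw huz huw hvz hvw,
    yOdd_apply Q B hQs hQp hu hv hz hw huv hzw huz huw hvz hvw]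
  simp only [map_add, map_sub, map_smul, map_neg, LinearMap.add_apply, LinearMap.sub_apply,
    LinearMap.smul_apply, LinearMap.neg_apply, smul_eq_mul, huu, hvv, hzz, hww, huv, hvu, hzw, hwz,
    huz, hzu, huw, hwu, hvz, hzv, hvw, hwv, mul_zero, mul_one, add_zero, sub_zero, zero_add, zero_sub]
  module

include hQs hQp hu hv hz hw huv hzw huz huw hvz hvw in
lemma yOdd_pow_four : yOdd Q B u v z w ^ 4 = 1 := by
  have hsymm := B_symm Q B hQp
  have huu : B u u = 0 := by rw [B_self Q B hQs hQp, hu, mul_zero]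
  have hvv : B v v = 0 := by rw [B_self Q B hQs hQp, hv, mul_zero]
  have hzz : B z z = 0 := by rw [B_self Q B hQs hQp, hz, mul_zero]
  have hww : B w w = 0 := by rw [B_self Q B hQs hQp, hw, mul_zero]
  have hvu : B v u = 1 := by rw [hsymm, huv]
  have hwz : B w z = 1 := by rw [hsymm, hzw]
  have hzu : B z u = 0 := by rw [hsymm, huz]
  have hwu : B w u = 0 := by rw [hsymm, huw]
  have hzv : B z v = 0 := by rw [hsymm, hvz]
  have hwv : B w v = 0 := by rw [hsymm, hvw]
  ext x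
  have h4 : (4 : ℕ) = 2 + 2 := rfl
  rw [h4, pow_add, pow_two, LinearEquiv.mul_apply, LinearEquiv.mul_apply, LinearEquiv.mul_apply,
    yOdd_sq_apply Q B hQs hQp hu hv hz hw huv hzw huz huw hvz hvw,
    yOdd_sq_apply Q B hQs hQp hu hv hz hw huv hzw huz huw hvz hvw]
  simp only [map_add, map_sub, map_smul, map_neg, LinearMap.add_apply, LinearMap.sub_apply,
    LinearMap.smul_apply, LinearMap.neg_apply, smul_eq_mul, huu, hvv, hzz, hww, huv, hvu, hzw, hwz,
    huz, hzu, huw, hwu, hvz, hzv, hvw, hwv, mul_zero, mul_one, add_zero, sub_zero, zero_add, zero_sub,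
    LinearEquiv.coe_one, id_eq]
  module

include hQs hQp hu hv hz hw huv hzw huz huw hvz hvw in
lemma yOdd_u : yOdd Q B u v z w u = z := by
  have huu : B u u = 0 := by rw [B_self Q B hQs hQp, hu, mul_zero]
  rw [yOdd_apply Q B hQs hQp hu hv hz hw huv hzw huz huw hvz hvw, huu, huv, huw, huz]
  module

include hQs hQp hu hv hz hw huv hzw huz huw hvz hvw in
lemma yEven_apply (x : V) :
    yEven Q B u v z w x =
      x + (-(B x w) + B x v) • u + (B x z) • v + (-(B x v)) • z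
        + (B x u + B x z) • w := by
  have hsymm := B_symm Q B hQp
  have huu : B u u = 0 := by rw [B_self Q B hQs hQp, hu, mul_zero]
  have hvv : B v v = 0 := by rw [B_self Q B hQs hQp, hv, mul_zero]
  have hzz : B z z = 0 := by rw [B_self Q B hQs hQp, hz, mul_zero]
  have hww : B w w = 0 := by rw [B_self Q B hQs hQp, hw, mul_zero]
  have hvu : B v u = 1 := by rw [hsymm, huv]
  have hwz : B w z = 1 := by rw [hsymm, hzw]
  have hzu : B z u = 0 := by rw [hsymm, huz]
  have hwu : B w u = 0 := by rw [hsymm, huw]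
  have hzv : B z v = 0 := by rw [hsymm, hvz]
  have hwv : B w v = 0 := by rw [hsymm, hvw]
  unfold yEven
  rw [LinearEquiv.mul_apply, E_apply Q B hQs hQp hz hv hzv, E_apply Q B hQs hQp hu hw huw]
  simp only [map_add, map_sub, map_smul, LinearMap.add_apply, LinearMap.sub_apply,
    LinearMap.smul_apply, smul_eq_mul, huu, hvv, hzz, hww, huv, hvu, hzw, hwz, huz, hzu, huw, hwu,
    hvz, hzv, hvw, hwv, mul_zero, mul_one, add_zero, sub_zero, zero_add, zero_sub]
  module

include hQs hQp hu hv hz hw huv hzw huz huw hvz hvw in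
lemma yEven_cube_apply (x : V) :
    yEven Q B u v z w (yEven Q B u v z w (yEven Q B u v z w x)) =
      x + (12 * B x v - 8 * B x w) • u + (4 * B x u + 8 * B x z) • v
        + (-(8 * B x v) + 4 * B x w) • z + (8 * B x u + 12 * B x z) • w := by
  have hsymm := B_symm Q B hQp
  have huu : B u u = 0 := by rw [B_self Q B hQs hQp, hu, mul_zero]
  have hvv : B v v = 0 := by rw [B_self Q B hQs hQp, hv, mul_zero]
  have hzz : B z z = 0 := by rw [B_self Q B hQs hQp, hz, mul_zero]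
  have hww : B w w = 0 := by rw [B_self Q B hQs hQp, hw, mul_zero]
  have hvu : B v u = 1 := by rw [hsymm, huv]
  have hwz : B w z = 1 := by rw [hsymm, hzw]
  have hzu : B z u = 0 := by rw [hsymm, huz]
  have hwu : B w u = 0 := by rw [hsymm, huw]
  have hzv : B z v = 0 := by rw [hsymm, hvz]
  have hwv : B w v = 0 := by rw [hsymm, hvw]
  rw [yEven_apply Q B hQs hQp hu hv hz hw huv hzw huz huw hvz hvw,
    yEven_apply Q B hQs hQp hu hv hz hw huv hzw huz huw hvz hvw,
    yEven_apply Q B hQs hQp hu hv hz hw huv hzw huz huw hvz hvw]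
  simp only [map_add, map_sub, map_smul, map_neg, LinearMap.add_apply, LinearMap.sub_apply,
    LinearMap.smul_apply, LinearMap.neg_apply, smul_eq_mul, huu, hvv, hzz, hww, huv, hvu, hzw, hwz,
    huz, hzu, huw, hwu, hvz, hzv, hvw, hwv, mul_zero, mul_one, add_zero, sub_zero, zero_add, zero_sub]
  module

include hQs hQp hu hv hz hw huv hzw huz huw hvz hvw in
lemma yEven_pow_three (h2 : (2 : F) = 0) : yEven Q B u v z w ^ 3 = 1 := by
  ext x
  have h3 : (3 : ℕ) = 1 + 1 + 1 := rfl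
  rw [h3, pow_add, pow_add, pow_one, LinearEquiv.mul_apply, LinearEquiv.mul_apply,
    yEven_cube_apply Q B hQs hQp hu hv hz hw huv hzw huz huw hvz hvw]
  have h4 : (4 : F) = 0 := by linear_combination 2 * h2
  have h8 : (8 : F) = 0 := by linear_combination 4 * h2
  have h12 : (12 : F) = 0 := by linear_combination 6 * h2
  simp only [h4, h8, h12, zero_mul, sub_zero, add_zero, neg_zero, zero_smul, LinearEquiv.coe_one,
    id_eq]

include hQs hQp hu hv hz hw huv hzw huz huw hvz hvw in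
lemma yEven_u : yEven Q B u v z w u = (2 : F) • u - z := by
  have huu : B u u = 0 := by rw [B_self Q B hQs hQp, hu, mul_zero]
  rw [yEven_apply Q B hQs hQp hu hv hz hw huv hzw huz huw hvz hvw, huu, huv, huw, huz]
  module

include hQs hQp hu hv hz hw huv hzw huz huw hvz hvw in
/-- the root elements of the second `SL₂` commute with `sieg u (κ • z)` -/
lemma comm_E' (s κ : F) : Commute (sieg Q B z (s • v)) (sieg Q B u (κ • z)) := by
  have hsymm := B_symm Q B hQp
  have huu : B u u = 0 := by rw [B_self Q B hQs hQp, hu, mul_zero]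
  have hvv : B v v = 0 := by rw [B_self Q B hQs hQp, hv, mul_zero]
  have hzz : B z z = 0 := by rw [B_self Q B hQs hQp, hz, mul_zero]
  have hvu : B v u = 1 := by rw [hsymm, huv]
  have hzu : B z u = 0 := by rw [hsymm, huz]
  have hzv : B z v = 0 := by rw [hsymm, hvz]
  show sieg Q B z (s • v) * sieg Q B u (κ • z) = sieg Q B u (κ • z) * sieg Q B z (s • v)
  ext x
  rw [LinearEquiv.mul_apply, LinearEquiv.mul_apply, E_apply Q B hQs hQp hu hz huz,
    E_apply Q B hQs hQp hz hv hzv, E_apply Q B hQs hQp hu hz huz, E_apply Q B hQs hQp hz hv hzv]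
  simp only [map_add, map_sub, map_smul, map_neg, LinearMap.add_apply, LinearMap.sub_apply,
    LinearMap.smul_apply, LinearMap.neg_apply, smul_eq_mul, huu, hvv, hzz, huv, hvu,
    huz, hzu, hvz, hzv, mul_zero, mul_one, add_zero, sub_zero, zero_add, zero_sub]
  module

include hQs hQp hu hw huw huz in
lemma comm_E (s κ : F) : Commute (sieg Q B u (s • w)) (sieg Q B u (κ • z)) :=
  sieg_comm Q B hQs hQp hu (by rw [map_smul, huw, smul_zero]) (by rw [map_smul, huz, smul_zero])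

include hQs hQp hu hv hz hw huv hzw huz huw hvz hvw in
/-- existence of the semisimple element `y` -/
lemma exists_y :
    ∃ (y : V ≃ₗ[F] V) (o : ℕ), y ∈ Subgroup.closure (siegSet Q B) ∧ y ^ o = 1 ∧ (o : F) ≠ 0 ∧
      y u = z ∧ ∀ κ : F, Commute y (sieg Q B u (κ • z)) := by
  have hsymm := B_symm Q B hQp
  have hzv : B z v = 0 := by rw [hsymm, hvz]
  have hE : ∀ s : F, sieg Q B u (s • w) ∈ Subgroup.closure (siegSet Q B) := fun s =>
    Subgroup.subset_closure ⟨u, s • w, hu, by rw [map_smul, huw, smul_zero], rfl⟩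
  have hE' : ∀ s : F, sieg Q B z (s • v) ∈ Subgroup.closure (siegSet Q B) := fun s =>
    Subgroup.subset_closure ⟨z, s • v, hz, by rw [map_smul, hzv, smul_zero], rfl⟩
  by_cases h2 : (2 : F) = 0
  · refine ⟨yEven Q B u v z w, 3, ?_, ?_, ?_, ?_, ?_⟩
    · exact Subgroup.mul_mem _ (hE 1) (hE' 1)
    · exact yEven_pow_three Q B hQs hQp hu hv hz hw huv hzw huz huw hvz hvw h2
    · have : ((3 : ℕ) : F) = 1 := by
        push_cast
        linear_combination h2
      rw [this]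
      exact one_ne_zero
    · rw [yEven_u Q B hQs hQp hu hv hz hw huv hzw huz huw hvz hvw, h2, zero_smul, zero_sub]
      have h : (2 : F) • z = 0 := by rw [h2, zero_smul]
      rw [two_smul] at h
      exact neg_eq_of_add_eq_zero_left h
    · intro κ
      exact (comm_E Q B hQs hQp hu hw huz huw 1 κ).mul_left
        (comm_E' Q B hQs hQp hu hv hz hw huv hzw huz huw hvz hvw 1 κ)
  · refine ⟨yOdd Q B u v z w, 4, ?_, ?_, ?_, ?_, ?_⟩
    · exact Subgroup.mul_mem _ (Subgroup.mul_mem _ (hE 1) (hE' (-1))) (hE 1)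
    · exact yOdd_pow_four Q B hQs hQp hu hv hz hw huv hzw huz huw hvz hvw
    · have : ((4 : ℕ) : F) = 2 * 2 := by
        push_cast
        norm_num
      rw [this]
      exact mul_ne_zero h2 h2
    · exact yOdd_u Q B hQs hQp hu hv hz hw huv hzw huz huw hvz hvw
    · intro κ
      exact ((comm_E Q B hQs hQp hu hw huz huw 1 κ).mul_left
        (comm_E' Q B hQs hQp hu hv hz hw huv hzw huz huw hvz hvw (-1) κ)).mul_left
        (comm_E Q B hQs hQp hu hw huz huw 1 κ)

end quad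


/-! ### The engine -/

include hQs hQp in
/-- **Engine.**  Let `a` be an isometry with `a u = c u` for a singular `u` with hyperbolic partner `v`, and let
`z₀ ⊥ u, v` be a nonzero singular vector generating `⟨u, v⟩^⊥` as a module under `c • a`.  Then there is a product
`b` of Siegel elements such that every subgroup containing `a` and `b` contains all Siegel elements. -/
theorem two_gen_core
    (hrad : ∀ w : V, Q w = 0 → (∀ ζ : V, B w ζ = 0) → w = 0)
    {a : V ≃ₗ[F] V} (ha : a ∈ oG Q) {u v z₀ : V} {c : F} (hc : c ≠ 0)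
    (hu : Q u = 0) (hv : Q v = 0) (huv : B u v = 1) (hau : a u = c • u)
    (hz₀ : Q z₀ = 0) (hz₀0 : z₀ ≠ 0) (huz : B u z₀ = 0) (hvz : B v z₀ = 0)
    (hR : ∀ A : AddSubgroup V, z₀ ∈ A → (∀ ζ ∈ A, c • a ζ ∈ A) →
      ∀ ζ : V, B u ζ = 0 → B v ζ = 0 → ζ ∈ A) :
    ∃ b : V ≃ₗ[F] V, b ∈ Subgroup.closure (siegSet Q B) ∧
      ∀ H : Subgroup (V ≃ₗ[F] V), a ∈ H → b ∈ H →
        ∀ p ζ : V, Q p = 0 → B p ζ = 0 → sieg Q B p ζ ∈ H := by
  have hsymm := B_symm Q B hQp
  have huu : B u u = 0 := by rw [B_self Q B hQs hQp, hu, mul_zero]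
  have hvv : B v v = 0 := by rw [B_self Q B hQs hQp, hv, mul_zero]
  have hvu : B v u = 1 := by rw [hsymm, huv]
  have hz₀z₀ : B z₀ z₀ = 0 := by rw [B_self Q B hQs hQp, hz₀, mul_zero]
  -- a vector of `⟨u, v⟩^⊥` not orthogonal to `z₀`
  obtain ⟨ζ₀, hζ₀⟩ : ∃ ζ₀, B z₀ ζ₀ ≠ 0 := by
    by_contra hcon
    push Not at hcon
    exact hz₀0 (hrad z₀ hz₀ hcon)
  obtain ⟨w₀, hw₀⟩ : ∃ w₀ : V, w₀ = ζ₀ - B ζ₀ v • u - B ζ₀ u • v := ⟨_, rfl⟩
  have huw₀ : B u w₀ = 0 := by
    rw [hw₀]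
    simp only [map_sub, map_smul, smul_eq_mul, huu, huv, mul_zero, mul_one, sub_zero]
    rw [hsymm u ζ₀, sub_self]
  have hvw₀ : B v w₀ = 0 := by
    rw [hw₀]
    simp only [map_sub, map_smul, smul_eq_mul, hvv, hvu, mul_zero, mul_one, sub_zero]
    rw [hsymm v ζ₀, sub_self]
  have hzw₀ : B z₀ w₀ ≠ 0 := by
    rw [hw₀]
    simp only [map_sub, map_smul, smul_eq_mul, hsymm z₀ u, hsymm z₀ v, huz, hvz, mul_zero, sub_zero]
    exact hζ₀
  -- the singular partner `w` of `z₀`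
  obtain ⟨w₁, hw₁⟩ : ∃ w₁ : V, w₁ = (B z₀ w₀)⁻¹ • w₀ := ⟨_, rfl⟩
  have huw₁ : B u w₁ = 0 := by rw [hw₁, map_smul, huw₀, smul_zero]
  have hvw₁ : B v w₁ = 0 := by rw [hw₁, map_smul, hvw₀, smul_zero]
  have hzw₁ : B z₀ w₁ = 1 := by rw [hw₁, map_smul, smul_eq_mul, inv_mul_cancel₀ hzw₀]
  obtain ⟨w, hw⟩ : ∃ w : V, w = w₁ + (-(Q w₁)) • z₀ := ⟨_, rfl⟩
  have hQw : Q w = 0 := by
    rw [hw, Q_add_smul Q B hQs hQp, hz₀, hsymm w₁ z₀, hzw₁]
    ring
  have huw : B u w = 0 := by rw [hw, map_add, map_smul, huw₁, huz, smul_zero, add_zero]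
  have hvw : B v w = 0 := by rw [hw, map_add, map_smul, hvw₁, hvz, smul_zero, add_zero]
  have hzw : B z₀ w = 1 := by rw [hw, map_add, map_smul, hzw₁, hz₀z₀, smul_zero, add_zero]
  obtain ⟨y, o, hyS, hyo, ho, hyu, hycomm⟩ :=
    exists_y Q B hQs hQp hu hv hz₀ hQw huv hzw huz huw hvz hvw
  have hSO : Subgroup.closure (siegSet Q B) ≤ oG Q := by
    rw [Subgroup.closure_le]
    rintro _ ⟨p, ζ, hp, hpζ, rfl⟩
    exact sieg_mem_oG Q B hQs hQp hp hpζ
  have hyO : y ∈ oG Q := hSO hyS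
  set κ : F := (o : F)⁻¹ with hκ
  have huκ : B u (κ • z₀) = 0 := by rw [map_smul, huz, smul_zero]
  refine ⟨sieg Q B u (κ • z₀) * y, ?_, ?_⟩
  · exact Subgroup.mul_mem _ (Subgroup.subset_closure ⟨u, κ • z₀, hu, huκ, rfl⟩) hyS
  intro H haH hbH
  -- step 1: the root element `sieg u z₀`
  have hr : sieg Q B u z₀ ∈ H := by
    have h1 : (sieg Q B u (κ • z₀) * y) ^ o = sieg Q B u z₀ := by
      rw [(hycomm κ).symm.mul_pow, hyo, mul_one, sieg_pow Q B hQs hQp hu huκ, smul_smul, hκ,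
        mul_inv_cancel₀ ho, one_smul]
    rw [← h1]
    exact H.pow_mem hbH o
  -- step 2: the full Siegel group at `u`
  let A : AddSubgroup V :=
    { carrier := {ζ | B u ζ = 0 ∧ sieg Q B u ζ ∈ H}
      zero_mem' := by
        refine ⟨map_zero _, ?_⟩
        rw [sieg_zero_right Q B hQs hQp hu]
        exact H.one_mem
      add_mem' := by
        rintro ζ ζ' ⟨h1, h2⟩ ⟨h1', h2'⟩
        refine ⟨by rw [map_add, h1, h1', add_zero], ?_⟩
        rw [← sieg_mul Q B hQs hQp hu h1 h1']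
        exact H.mul_mem h2 h2'
      neg_mem' := by
        rintro ζ ⟨h1, h2⟩
        refine ⟨by rw [map_neg, h1, neg_zero], ?_⟩
        rw [← sieg_inv Q B hQs hQp hu h1]
        exact H.inv_mem h2 }
  have hA : ∀ ζ, ζ ∈ A ↔ B u ζ = 0 ∧ sieg Q B u ζ ∈ H := fun ζ => Iff.rfl
  have hAz : z₀ ∈ A := ⟨huz, hr⟩
  have hAcl : ∀ ζ ∈ A, c • a ζ ∈ A := by
    rintro ζ ⟨h1, h2⟩
    have h3 : B u (a ζ) = 0 := by
      have h4 : B (a u) (a ζ) = 0 := by rw [oG_B Q B hQp ha, h1]
      rw [hau, map_smul, LinearMap.smul_apply, smul_eq_mul] at h4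
      rcases mul_eq_zero.mp h4 with h5 | h5
      · exact absurd h5 hc
      · exact h5
    refine ⟨by rw [map_smul, h3, smul_zero], ?_⟩
    rw [← sieg_smul_left Q B hQs hQp hu h3, ← hau, ← conj_sieg Q B hQs hQp ha hu h1]
    exact H.mul_mem (H.mul_mem haH h2) (H.inv_mem haH)
  have hAall := hR A hAz hAcl
  have hFu : Full Q B H u := by
    intro ζ hζ
    have h1 : B u (ζ - B ζ v • u) = 0 := by
      rw [map_sub, map_smul, hζ, huu, smul_zero, sub_zero]
    have h2 : B v (ζ - B ζ v • u) = 0 := by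
      rw [map_sub, map_smul, hvu, smul_eq_mul, mul_one, hsymm v ζ, sub_self]
    have h3 := ((hA _).mp (hAall _ h1 h2)).2
    have h4 := sieg_add_smul Q B hQs hQp hu h1 (B ζ v)
    rw [sub_add_cancel] at h4
    rw [h4]
    exact h3
  -- step 3: `y ∈ H`, hence the full Siegel group at `z₀`
  have hyH : y ∈ H := by
    have h1 : y = (sieg Q B u (κ • z₀))⁻¹ * (sieg Q B u (κ • z₀) * y) := by group
    rw [h1]
    exact H.mul_mem (H.inv_mem (hFu _ huκ)) hbH
  have hFz : Full Q B H z₀ := by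
    rw [← hyu]
    exact full_map Q B hQs hQp hu hFu hyH hyO
  -- step 4: some `a ^ i z₀` is not orthogonal to `z₀`
  obtain ⟨i, hi⟩ : ∃ i : ℕ, B z₀ ((a ^ i) z₀) ≠ 0 := by
    by_contra hcon
    push Not at hcon
    let A' : AddSubgroup V :=
      { carrier := {ζ | ∀ i : ℕ, B z₀ ((a ^ i) ζ) = 0}
        zero_mem' := fun i => by rw [map_zero, map_zero]
        add_mem' := by
          intro ζ ζ' h1 h2 i
          rw [map_add, map_add, h1 i, h2 i, add_zero]
        neg_mem' := by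
          intro ζ h1 i
          rw [map_neg, map_neg, h1 i, neg_zero] }
    have hA'cl : ∀ ζ ∈ A', c • a ζ ∈ A' := by
      intro ζ h1 i
      have h2 : (a ^ i) (c • a ζ) = c • (a ^ (i + 1)) ζ := by
        rw [map_smul, pow_succ, LinearEquiv.mul_apply]
      rw [h2, map_smul, h1 (i + 1), smul_zero]
    have h3 := hR A' hcon hA'cl w₀ huw₀ hvw₀ 0
    rw [pow_zero, LinearEquiv.coe_one, id_eq] at h3
    exact hzw₀ h3
  have haiH : a ^ i ∈ H := H.pow_mem haH i
  have haiO : a ^ i ∈ oG Q := (oG Q).pow_mem ha i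
  have hFp : Full Q B H ((a ^ i) z₀) := full_map Q B hQs hQp hz₀ hFz haiH haiO
  have hQp₂ : Q ((a ^ i) z₀) = 0 := by rw [haiO, hz₀]
  intro p ζ hp hpζ
  exact full_all Q B hQs hQp hrad hz₀ hQp₂ hi hFz hFp hp ζ hpζ


/-! ### Two-generation data -/

/-- **Two-generation data** for a quadratic space `(V, Q, B)`: an isometry `g` with `g u = c u` for a singular `u`
with hyperbolic partner `v`, and a nonzero singular `z₀ ⊥ u, v` which generates `⟨u, v⟩^⊥` as a module under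
`c² g²` (every additive subgroup containing `z₀` and closed under `c² g²` contains `⟨u, v⟩^⊥`).  The first
generator of `Ω` is then `g²`. -/
def TGData (Q : V → F) (B : LinearMap.BilinForm F V) : Prop :=
  ∃ (g : V ≃ₗ[F] V) (u v z₀ : V) (c : F), g ∈ oG Q ∧ c ≠ 0 ∧ Q u = 0 ∧ Q v = 0 ∧ B u v = 1 ∧
    g u = c • u ∧ Q z₀ = 0 ∧ z₀ ≠ 0 ∧ B u z₀ = 0 ∧ B v z₀ = 0 ∧
    ∀ A : AddSubgroup V, z₀ ∈ A → (∀ ζ ∈ A, (c * c) • g (g ζ) ∈ A) →
      ∀ ζ : V, B u ζ = 0 → B v ζ = 0 → ζ ∈ A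

include hQs hQp in
/-- from two-generation data: an isometry `g` and a product `b` of Siegel elements such that every subgroup
containing `g * g` and `b` contains all Siegel elements -/
theorem two_gen_of_tgdata (hrad : ∀ w : V, Q w = 0 → (∀ ζ : V, B w ζ = 0) → w = 0)
    (h : TGData Q B) :
    ∃ g b : V ≃ₗ[F] V, g ∈ oG Q ∧ b ∈ Subgroup.closure (siegSet Q B) ∧
      ∀ H : Subgroup (V ≃ₗ[F] V), g * g ∈ H → b ∈ H →
        ∀ p ζ : V, Q p = 0 → B p ζ = 0 → sieg Q B p ζ ∈ H := by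
  obtain ⟨g, u, v, z₀, c, hg, hc, hu, hv, huv, hgu, hz₀, hz₀0, huz, hvz, hR⟩ := h
  have hgg : g * g ∈ oG Q := (oG Q).mul_mem hg hg
  have hggu : (g * g) u = (c * c) • u := by
    rw [LinearEquiv.mul_apply, hgu, map_smul, hgu, smul_smul]
  obtain ⟨b, hb, hH⟩ := two_gen_core Q B hQs hQp hrad hgg (mul_ne_zero hc hc) hu hv huv hggu hz₀ hz₀0
    huz hvz hR
  exact ⟨g, b, hg, hb, hH⟩

/-- transport of two-generation data along an isometry -/
theorem TGData.map {V' : Type*} [AddCommGroup V'] [Module F V'] {Q : V → F}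
    {B : LinearMap.BilinForm F V} {Q' : V' → F} {B' : LinearMap.BilinForm F V'} (φ : V ≃ₗ[F] V')
    (hφQ : ∀ x, Q' (φ x) = Q x) (hφB : ∀ x y, B' (φ x) (φ y) = B x y) (h : TGData Q B) :
    TGData Q' B' := by
  obtain ⟨g, u, v, z₀, c, hg, hc, hu, hv, huv, hgu, hz₀, hz₀0, huz, hvz, hR⟩ := h
  refine ⟨(φ.symm.trans g).trans φ, φ u, φ v, φ z₀, c, ?_, hc, ?_, ?_, ?_, ?_, ?_, ?_, ?_, ?_, ?_⟩
  · intro x
    have h1 : ((φ.symm.trans g).trans φ) x = φ (g (φ.symm x)) := rfl
    rw [h1, hφQ, hg, ← hφQ, φ.apply_symm_apply]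
  · rw [hφQ, hu]
  · rw [hφQ, hv]
  · rw [hφB, huv]
  · have h1 : ((φ.symm.trans g).trans φ) (φ u) = φ (g (φ.symm (φ u))) := rfl
    rw [h1, φ.symm_apply_apply, hgu, map_smul]
  · rw [hφQ, hz₀]
  · intro h0
    exact hz₀0 (φ.injective (by rw [h0, map_zero]))
  · rw [hφB, huz]
  · rw [hφB, hvz]
  · intro A hzA hAcl ζ hζu hζv
    have h1 := hR (A.comap (φ : V →+ V')) hzA (by
      intro ξ hξ
      have h2 := hAcl (φ ξ) hξ
      have h3 : ((φ.symm.trans g).trans φ) (((φ.symm.trans g).trans φ) (φ ξ)) = φ (g (g ξ)) := by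
        show φ (g (φ.symm (φ (g (φ.symm (φ ξ)))))) = _
        rw [φ.symm_apply_apply, φ.symm_apply_apply]
      rw [h3, ← map_smul] at h2
      exact h2) (φ.symm ζ) (by rw [← hφB, φ.apply_symm_apply, hζu])
      (by rw [← hφB, φ.apply_symm_apply, hζv])
    have h4 : φ (φ.symm ζ) ∈ A := h1
    rwa [φ.apply_symm_apply] at h4

include hQs in
/-- two-generation data are insensitive to scaling the form -/
theorem TGData.scale {Q' : V → F}
    {B' : LinearMap.BilinForm F V} (t : F) (ht : t ≠ 0) (hQ' : ∀ x, Q' x = t * Q x)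
    (hB' : ∀ x y, B' x y = t * B x y) (h : TGData Q B) : TGData Q' B' := by
  obtain ⟨g, u, v, z₀, c, hg, hc, hu, hv, huv, hgu, hz₀, hz₀0, huz, hvz, hR⟩ := h
  refine ⟨g, u, t⁻¹ • v, z₀, c, ?_, hc, ?_, ?_, ?_, hgu, ?_, hz₀0, ?_, ?_, ?_⟩
  · intro x
    rw [hQ', hQ', hg]
  · rw [hQ', hu, mul_zero]
  · rw [hQ', hQs, hv, mul_zero, mul_zero]
  · rw [hB', map_smul, huv, smul_eq_mul, mul_one, mul_inv_cancel₀ ht]
  · rw [hQ', hz₀, mul_zero]
  · rw [hB', huz, mul_zero]
  · rw [hB', map_smul, LinearMap.smul_apply, hvz, smul_zero, mul_zero]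
  · intro A hzA hAcl ζ hζu hζv
    apply hR A hzA hAcl ζ
    · rw [hB'] at hζu
      exact (mul_eq_zero.mp hζu).resolve_left ht
    · rw [hB', map_smul, LinearMap.smul_apply, smul_eq_mul] at hζv
      have := (mul_eq_zero.mp hζv).resolve_left ht
      exact (mul_eq_zero.mp this).resolve_left (inv_ne_zero ht)

end Cfsg.Agent.Lib.Helper32_OmegaTwoGen
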