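import Mathlib
import Cfsg.Agent.Lib.Helper32_OmegaTwoGen

/-!
helper32: models for the two-generation of `Ω(Q)` (rows S2413, S2414, S2415).

* `Qsum Q`, `Bsum B`: the orthogonal sum of a hyperbolic plane `F × F` (form `α β`) with a quadratic space `(M, Q, B)`.
* `Model F`: a quadratic space `(M, Q, B)` over `F` with nondegenerate polar form, an isometry `g`, a nonzero scalar `c`
  and a nonzero singular vector `z₀` which generates `M` under `c² g²` (every additive subgroup of `M` containing `z₀` and
  closed under `c² g²` is everything).  The hyperbolic sum `(F × F) × M` then carries two-generation data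
  (`Helper32_OmegaTwoGen.TGData`), with `g_V = diag(c, c⁻¹) ⊕ g`.
-/

set_option autoImplicit false

namespace Cfsg.Agent.Lib.Helper32_OmegaTwoGenModel

open Module Cfsg.Agent.Lib.Helper94_Symp Cfsg.Agent.Lib.Helper94_OrthSmall
  Cfsg.Agent.Lib.Helper94_OrthSiegel Cfsg.Agent.Lib.Helper94_OrthSiegel2
  Cfsg.Agent.Lib.Helper32_OmegaTwoGen

universe u v

/-- the orthogonal sum of the hyperbolic plane `F × F` (form `α β`) and `(M, Q)` -/
def Qsum {F : Type*} [Field F] {M : Type*} (Q : M → F) (x : (F × F) × M) : F :=
  x.1.1 * x.1.2 + Q x.2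

/-- the polar form of `Qsum` -/
def Bsum {F : Type*} [Field F] {M : Type*} [AddCommGroup M] [Module F M]
    (B : LinearMap.BilinForm F M) : LinearMap.BilinForm F ((F × F) × M) :=
  LinearMap.mk₂ F (fun x y => x.1.1 * y.1.2 + x.1.2 * y.1.1 + B x.2 y.2)
    (by
      intro x x' y
      simp only [Prod.fst_add, Prod.snd_add, map_add, LinearMap.add_apply]
      ring)
    (by
      intro c x y
      simp only [Prod.smul_fst, Prod.smul_snd, smul_eq_mul, map_smul, LinearMap.smul_apply]
      ring)
    (by
      intro x y y'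
      simp only [Prod.fst_add, Prod.snd_add, map_add]
      ring)
    (by
      intro c x y
      simp only [Prod.smul_fst, Prod.smul_snd, smul_eq_mul, map_smul]
      ring)

lemma Bsum_apply {F : Type*} [Field F] {M : Type*} [AddCommGroup M] [Module F M]
    (B : LinearMap.BilinForm F M) (x y : (F × F) × M) :
    Bsum B x y = x.1.1 * y.1.2 + x.1.2 * y.1.1 + B x.2 y.2 := rfl

/-- A **model**: the data on the anisotropic-or-not part `M = ⟨u, v⟩^⊥`. -/
structure Model (F : Type u) [Field F] where
  /-- the underlying space -/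
  M : Type v
  [instACG : AddCommGroup M]
  [instMod : Module F M]
  [instFin : Module.Finite F M]
  /-- the quadratic form -/
  Q : M → F
  /-- its polar form -/
  B : LinearMap.BilinForm F M
  hQs : ∀ (c : F) (x : M), Q (c • x) = c * c * Q x
  hQp : ∀ x y : M, Q (x + y) = Q x + Q y + B x y
  hN : B.Nondegenerate
  /-- the isometry (the first generator is the square of `diag(c, c⁻¹) ⊕ g`) -/
  g : M ≃ₗ[F] M
  hg : g ∈ oG Q
  /-- the scalar on the hyperbolic plane -/
  c : F
  hc : c ≠ 0
  /-- the generating singular vector -/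
  z₀ : M
  hz₀ : Q z₀ = 0
  hz₀0 : z₀ ≠ 0
  hcyc : ∀ A : AddSubgroup M, z₀ ∈ A → (∀ ζ ∈ A, (c * c) • g (g ζ) ∈ A) → A = ⊤

attribute [instance] Model.instACG Model.instMod Model.instFin

end Cfsg.Agent.Lib.Helper32_OmegaTwoGenModel
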