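import Mathlib

/-!
# TWOGEN-CYC1 (helper8, package of helper32's S2413/S2414/S2415 plan)

An additive subgroup of a finite field, containing a nonzero element and closed under multiplication by a
field generator, is everything.
-/

set_option autoImplicit false

namespace Cfsg.Agent.Lib.Helper8_TwoGen_CYC1

/-- the multiplier ring `{r | r • A ⊆ A}` of an additive subgroup of a finite field, as a subfield -/
def multField {K : Type*} [Field K] [Finite K] (A : AddSubgroup K) : Subfield K where
  carrier := {r | ∀ z ∈ A, r * z ∈ A}
  mul_mem' := by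
    intro a b ha hb z hz
    rw [mul_assoc]
    exact ha _ (hb z hz)
  one_mem' := by
    intro z hz
    rw [one_mul]; exact hz
  add_mem' := by
    intro a b ha hb z hz
    rw [add_mul]
    exact A.add_mem (ha z hz) (hb z hz)
  zero_mem' := by
    intro z _
    rw [zero_mul]; exact A.zero_mem
  neg_mem' := by
    intro a ha z hz
    rw [neg_mul]
    exact A.neg_mem (ha z hz)
  inv_mem' := by
    intro a ha
    by_cases h0 : a = 0
    · subst h0
      intro z _
      rw [inv_zero, zero_mul]; exact A.zero_mem
    · have hft : Fintype K := Fintype.ofFinite K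
      have hq : 1 < Fintype.card K := Fintype.one_lt_card
      have h1 : a * a ^ (Fintype.card K - 2) = 1 := by
        rw [← pow_succ', show Fintype.card K - 2 + 1 = Fintype.card K - 1 by omega]
        exact FiniteField.pow_card_sub_one_eq_one a h0
      have h2 : a⁻¹ = a ^ (Fintype.card K - 2) := by
        rw [inv_eq_iff_eq_inv]
        exact (eq_inv_of_mul_eq_one_left h1)
      have hpow : ∀ k : ℕ, ∀ z ∈ A, a ^ k * z ∈ A := by
        intro k
        induction k with
        | zero => intro z hz; rw [pow_zero, one_mul]; exact hz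
        | succ k ih =>
          intro z hz
          rw [pow_succ, mul_assoc]
          exact ih _ (ha z hz)
      rw [h2]
      exact hpow _

theorem CYC1 {K : Type*} [Field K] [Finite K] (μ : K)
    (hμ : ∀ L : Subfield K, μ ∈ L → L = ⊤) (A : AddSubgroup K) (z₀ : K) (hz₀ : z₀ ∈ A)
    (hz₀0 : z₀ ≠ 0) (hA : ∀ z ∈ A, μ * z ∈ A) : A = ⊤ := by
  have h1 : multField A = ⊤ := hμ (multField A) hA
  rw [eq_top_iff]
  intro x _
  have h2 : x * z₀⁻¹ ∈ multField A := by rw [h1]; trivial
  have h3 := h2 z₀ hz₀
  rw [mul_assoc, inv_mul_cancel₀ hz₀0, mul_one] at h3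
  exact h3

end Cfsg.Agent.Lib.Helper8_TwoGen_CYC1
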