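import Mathlib
import Cfsg.Agent.Lib.Helper32_OmegaTwoGenModel
import Cfsg.Agent.Lib.Helper8_TwoGen_CYC1
import Cfsg.Agent.Lib.Helper11_TwoGen_NT

/-!
# TWOGEN-MODEL_MINUS (helper43, package of helper32's S2413/S2414/S2415 plan)

The minus-type model: `K₀ / F` of degree `k`, `K' / K₀` of degree `2`, `M = K'`,
`Q x = Tr_{K₀/F} (N_{K'/K₀} x)`, `g` = multiplication by an element of order `|K₀| + 1`.
-/

set_option autoImplicit false
set_option linter.unusedSectionVars false
set_option linter.unusedVariables false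

namespace Cfsg.Agent.Lib.Helper43_TwoGen_MODEL_MINUS

open Module Cfsg.Agent.Lib.Helper94_OrthSmall Cfsg.Agent.Lib.Helper32_OmegaTwoGen
  Cfsg.Agent.Lib.Helper32_OmegaTwoGenModel

universe u

section Abstract

variable {F : Type*} [Field F] [Finite F] {K₀ : Type*} [Field K₀] [Finite K₀] [Algebra F K₀]
  {K' : Type*} [Field K'] [Finite K'] [Algebra K₀ K'] [Algebra F K'] [IsScalarTower F K₀ K']

/-- the conjugation `x ↦ x ^ |K₀|` of `K' / K₀` -/
noncomputable def cj (K₀ K' : Type*) [Field K₀] [Finite K₀] [Field K'] [Finite K']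
    [Algebra K₀ K'] : K' ≃ₐ[K₀] K' :=
  haveI := Fintype.ofFinite K₀
  FiniteField.frobeniusAlgEquivOfAlgebraic K₀ K'

theorem cj_apply (x : K') : cj K₀ K' x = x ^ Nat.card K₀ := by
  unfold cj
  simp [← Nat.card_eq_fintype_card]

theorem card_sq (h2 : Module.finrank K₀ K' = 2) : Nat.card K' = Nat.card K₀ ^ 2 := by
  rw [Module.natCard_eq_pow_finrank (K := K₀) (V := K'), h2]

theorem cj_cj (h2 : Module.finrank K₀ K' = 2) (x : K') : cj K₀ K' (cj K₀ K' x) = x := by
  have := Fintype.ofFinite K'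
  rw [cj_apply, cj_apply, ← pow_mul, ← sq, ← card_sq h2, Nat.card_eq_fintype_card,
    FiniteField.pow_card]

theorem algebraMap_norm (h2 : Module.finrank K₀ K' = 2) (x : K') :
    algebraMap K₀ K' (Algebra.norm K₀ x) = x * cj K₀ K' x := by
  rw [FiniteField.algebraMap_norm_eq_prod_pow, h2, cj_apply]
  simp [Finset.prod_range_succ]

theorem algebraMap_trace (h2 : Module.finrank K₀ K' = 2) (x : K') :
    algebraMap K₀ K' (Algebra.trace K₀ K' x) = x + cj K₀ K' x := by
  rw [FiniteField.algebraMap_trace_eq_sum_pow, h2, cj_apply]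
  simp [Finset.sum_range_succ]

theorem norm_add (h2 : Module.finrank K₀ K' = 2) (x y : K') :
    Algebra.norm K₀ (x + y) =
      Algebra.norm K₀ x + Algebra.norm K₀ y + Algebra.trace K₀ K' (x * cj K₀ K' y) := by
  apply (algebraMap K₀ K').injective
  rw [algebraMap_norm h2, (algebraMap K₀ K').map_add, (algebraMap K₀ K').map_add,
    algebraMap_norm h2, algebraMap_norm h2, algebraMap_trace h2, map_add (cj K₀ K'),
    map_mul (cj K₀ K'), cj_cj h2]
  ring

variable (F K₀ K') in
/-- the quadratic form `Tr_{K₀/F} (N_{K'/K₀} x)` -/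
noncomputable def qf (x : K') : F := Algebra.trace F K₀ (Algebra.norm K₀ x)

variable (F K₀ K') in
/-- the functional `Tr_{K₀/F} ∘ Tr_{K'/K₀}` -/
noncomputable def T : K' →ₗ[F] F :=
  (Algebra.trace F K₀).comp ((Algebra.trace K₀ K').restrictScalars F)

variable (F K₀ K') in
/-- the polar form `(x, y) ↦ T (x * cj y)` -/
noncomputable def bf : LinearMap.BilinForm F K' :=
  ((LinearMap.mul F K').compl₂ ((cj K₀ K').restrictScalars F).toLinearMap).compr₂ (T F K₀ K')

theorem T_apply (z : K') : T F K₀ K' z = Algebra.trace F K₀ (Algebra.trace K₀ K' z) := rfl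

theorem bf_apply (x y : K') : bf F K₀ K' x y = T F K₀ K' (x * cj K₀ K' y) := rfl

theorem qf_add (h2 : Module.finrank K₀ K' = 2) (x y : K') :
    qf F K₀ K' (x + y) = qf F K₀ K' x + qf F K₀ K' y + bf F K₀ K' x y := by
  unfold qf
  rw [bf_apply, T_apply, norm_add h2, map_add, map_add]

theorem qf_smul (h2 : Module.finrank K₀ K' = 2) (c : F) (x : K') :
    qf F K₀ K' (c • x) = c * c * qf F K₀ K' x := by
  unfold qf
  have h1 : c • x = algebraMap K₀ K' (algebraMap F K₀ c) * x := by
    rw [Algebra.smul_def, IsScalarTower.algebraMap_apply F K₀ K']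
  rw [h1, map_mul, Algebra.norm_algebraMap, h2]
  have h3 : algebraMap F K₀ c ^ 2 * Algebra.norm K₀ x = (c * c) • Algebra.norm K₀ x := by
    rw [Algebra.smul_def, map_mul, sq]
  rw [h3, map_smul, smul_eq_mul]

theorem T_surjective : Function.Surjective (T F K₀ K') := by
  intro c
  obtain ⟨w, hw⟩ := Algebra.trace_surjective F K₀ c
  obtain ⟨z, hz⟩ := Algebra.trace_surjective K₀ K' w
  exact ⟨z, by rw [T_apply, hz, hw]⟩

theorem bf_nondegenerate : (bf F K₀ K').Nondegenerate := by
  obtain ⟨z, hz⟩ := T_surjective (F := F) (K₀ := K₀) (K' := K') 1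
  constructor
  · intro x hx
    by_contra hx0
    have := hx ((cj K₀ K').symm (x⁻¹ * z))
    rw [bf_apply, AlgEquiv.apply_symm_apply, mul_inv_cancel_left₀ hx0, hz] at this
    exact one_ne_zero this
  · intro y hy
    by_contra hy0
    have hcy : cj K₀ K' y ≠ 0 := by
      intro h0
      exact hy0 ((cj K₀ K').injective (h0.trans (map_zero _).symm))
    have := hy (z * (cj K₀ K' y)⁻¹)
    rw [bf_apply, inv_mul_cancel_right₀ hcy, hz] at this
    exact one_ne_zero this

variable (F K') in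
/-- multiplication by a unit as an `F`-linear automorphism -/
noncomputable def mulAut : K'ˣ →* (K' ≃ₗ[F] K') := DistribMulAction.toModuleAut F K'

theorem mulAut_apply (u : K'ˣ) (x : K') : mulAut F K' u x = (u : K') * x := rfl

theorem mulAut_injective : Function.Injective (mulAut F K') := by
  intro u v h
  have := LinearEquiv.congr_fun h 1
  rw [mulAut_apply, mulAut_apply, mul_one, mul_one] at this
  exact Units.ext this

theorem exists_unit (h2 : Module.finrank K₀ K' = 2) :
    ∃ u : K'ˣ, orderOf u = Nat.card K₀ + 1 := by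
  obtain ⟨ω, hω⟩ := IsCyclic.exists_ofOrder_eq_natCard (α := K'ˣ)
  rw [Nat.card_units, card_sq h2] at hω
  have hQ : 2 ≤ Nat.card K₀ := Finite.one_lt_card
  obtain ⟨n, hn⟩ : ∃ n, Nat.card K₀ = n + 1 := ⟨Nat.card K₀ - 1, by omega⟩
  have hsq : Nat.card K₀ ^ 2 - 1 = n * (n + 2) := by
    rw [hn]
    have : (n + 1) ^ 2 = n * (n + 2) + 1 := by ring
    omega
  refine ⟨ω ^ n, ?_⟩
  have hn0 : n ≠ 0 := by omega
  have hdvd : n ∣ orderOf ω := by
    rw [hω, hsq]
    exact dvd_mul_right _ _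
  rw [orderOf_pow_of_dvd hn0 hdvd, hω, hsq, Nat.mul_div_cancel_left _ (by omega), hn]

theorem norm_unit (h2 : Module.finrank K₀ K' = 2) (u : K'ˣ) (hu : orderOf u = Nat.card K₀ + 1) :
    Algebra.norm K₀ (u : K') = 1 := by
  apply (algebraMap K₀ K').injective
  rw [algebraMap_norm h2, cj_apply, map_one, ← pow_succ', ← hu, ← Units.val_pow_eq_pow_val,
    pow_orderOf_eq_one, Units.val_one]

theorem qf_mulAut (h2 : Module.finrank K₀ K' = 2) (u : K'ˣ) (hu : orderOf u = Nat.card K₀ + 1)
    (x : K') : qf F K₀ K' (mulAut F K' u x) = qf F K₀ K' x := by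
  unfold qf
  rw [mulAut_apply, map_mul, norm_unit h2 u hu, one_mul]

theorem exists_singular (hk : 2 ≤ Module.finrank F K₀) :
    ∃ z : K', z ≠ 0 ∧ qf F K₀ K' z = 0 := by
  have hker : LinearMap.ker (Algebra.trace F K₀) ≠ ⊥ :=
    LinearMap.ker_ne_bot_of_finrank_lt (by rw [Module.finrank_self]; omega)
  obtain ⟨y, hy, hy0⟩ := Submodule.exists_mem_ne_zero_of_ne_bot hker
  obtain ⟨z, hz⟩ := FiniteField.norm_surjective K₀ K' y
  refine ⟨z, ?_, ?_⟩
  · rintro rfl
    rw [Algebra.norm_zero] at hz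
    exact hy0 hz.symm
  · unfold qf
    rw [hz]
    exact hy

theorem cyc (h2 : Module.finrank K₀ K' = 2) (hQ4 : 4 ≤ Nat.card K₀) (u : K'ˣ)
    (hu : orderOf u = Nat.card K₀ + 1) (z₀ : K') (hz₀ : z₀ ≠ 0) (A : AddSubgroup K')
    (hzA : z₀ ∈ A)
    (hA : ∀ ζ ∈ A, ((1 : F) * 1) • mulAut F K' u (mulAut F K' u ζ) ∈ A) : A = ⊤ := by
  classical
  have := Fintype.ofFinite K'
  apply Cfsg.Agent.Lib.Helper8_TwoGen_CYC1.CYC1 ((u : K') ^ 2) ?_ A z₀ hzA hz₀ ?_
  · intro L hL
    apply Cfsg.Agent.Lib.Helper11_TwoGen_NT.NT (Nat.card K₀) hQ4 ?_ ((u : K') ^ 2) ?_ ?_ L hL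
    · rw [← Nat.card_eq_fintype_card, card_sq h2]
    · rw [← pow_mul, mul_comm, pow_mul, ← hu, ← Units.val_pow_eq_pow_val, pow_orderOf_eq_one,
        Units.val_one, one_pow]
    · have h1 : orderOf ((u : K') ^ 2) = orderOf (u ^ 2) := by
        rw [← Units.val_pow_eq_pow_val, orderOf_units]
      rw [h1, orderOf_pow' u two_ne_zero, hu]
      have hd1 : Nat.gcd (Nat.card K₀ + 1) 2 ∣ Nat.card K₀ + 1 := Nat.gcd_dvd_left _ _
      have hd2 : Nat.gcd (Nat.card K₀ + 1) 2 ≤ 2 :=
        Nat.le_of_dvd two_pos (Nat.gcd_dvd_right _ _)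
      calc Nat.card K₀ + 1
          = (Nat.card K₀ + 1) / Nat.gcd (Nat.card K₀ + 1) 2 * Nat.gcd (Nat.card K₀ + 1) 2 :=
            (Nat.div_mul_cancel hd1).symm
        _ ≤ (Nat.card K₀ + 1) / Nat.gcd (Nat.card K₀ + 1) 2 * 2 := Nat.mul_le_mul_left _ hd2
        _ = 2 * ((Nat.card K₀ + 1) / Nat.gcd (Nat.card K₀ + 1) 2) := mul_comm _ _
  · intro z hz
    have := hA z hz
    rw [mulAut_apply, mulAut_apply, mul_one, one_smul, ← mul_assoc, ← sq] at this
    exact this

end Abstract

/-- the model over an abstract tower `F ⊆ K₀ ⊆ K'` of degrees `k` and `2` -/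
theorem exists_model {F : Type u} [Field F] [Fintype F] {K₀ : Type*} [Field K₀] [Finite K₀]
    [Algebra F K₀] {K' : Type} [Field K'] [Finite K'] [Algebra K₀ K'] [Algebra F K']
    [IsScalarTower F K₀ K'] (k : ℕ) (hk : 2 ≤ k) (hk0 : Module.finrank F K₀ = k)
    (h2 : Module.finrank K₀ K' = 2) :
    ∃ X : Model.{u, 0} F, Module.finrank F X.M = 2 * k ∧
      orderOf X.g = Fintype.card F ^ k + 1 ∧
      ∀ (i : ℕ) (x : X.M), (X.g ^ i) x = x → x ≠ 0 → X.g ^ i = 1 := by
  classical
  obtain ⟨u, hu⟩ := exists_unit (K₀ := K₀) (K' := K') h2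
  obtain ⟨z₀, hz₀, hz₀Q⟩ := exists_singular (F := F) (K₀ := K₀) (K' := K') (by omega)
  have hcardK₀ : Nat.card K₀ = Fintype.card F ^ k := by
    rw [Module.natCard_eq_pow_finrank (K := F) (V := K₀), hk0, Nat.card_eq_fintype_card]
  have hq : 2 ≤ Fintype.card F := Fintype.one_lt_card
  have hQ4 : 4 ≤ Nat.card K₀ := by
    rw [hcardK₀]
    calc 4 = 2 ^ 2 := by norm_num
      _ ≤ Fintype.card F ^ 2 := Nat.pow_le_pow_left hq 2
      _ ≤ Fintype.card F ^ k := Nat.pow_le_pow_right (by omega) hk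
  refine ⟨{ M := K'
            Q := qf F K₀ K'
            B := bf F K₀ K'
            hQs := qf_smul h2
            hQp := qf_add h2
            hN := bf_nondegenerate
            g := mulAut F K' u
            hg := fun x => qf_mulAut h2 u hu x
            c := 1
            hc := one_ne_zero
            z₀ := z₀
            hz₀ := hz₀Q
            hz₀0 := hz₀
            hcyc := fun A hzA hA => cyc h2 hQ4 u hu z₀ hz₀ A hzA hA }, ?_, ?_, ?_⟩
  · show Module.finrank F K' = 2 * k
    rw [← Module.finrank_mul_finrank F K₀ K', hk0, h2, mul_comm]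
  · show orderOf (mulAut F K' u) = Fintype.card F ^ k + 1
    rw [orderOf_injective (mulAut F K') mulAut_injective u, hu, hcardK₀]
  · intro i x hx hx0
    change ((mulAut F K' u) ^ i) x = x at hx
    show (mulAut F K' u) ^ i = 1
    rw [← map_pow] at hx ⊢
    rw [mulAut_apply] at hx
    have h1 : ((u ^ i : K'ˣ) : K') = 1 := by
      have h3 : (((u ^ i : K'ˣ) : K') - 1) * x = 0 := by rw [sub_mul, hx, one_mul, sub_self]
      rcases mul_eq_zero.mp h3 with h4 | h4
      · exact sub_eq_zero.mp h4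
      · exact absurd h4 hx0
    have h5 : u ^ i = 1 := Units.ext h1
    rw [h5, map_one]

/-- **MODEL_MINUS**. -/
theorem MODEL_MINUS {F : Type u} [Field F] [Fintype F] (k : ℕ) (hk : 2 ≤ k) :
    ∃ X : Model.{u, 0} F, Module.finrank F X.M = 2 * k ∧
      orderOf X.g = Fintype.card F ^ k + 1 ∧
      ∀ (i : ℕ) (x : X.M), (X.g ^ i) x = x → x ≠ 0 → X.g ^ i = 1 := by
  obtain ⟨p, hp⟩ := CharP.exists F
  have : Fact p.Prime := ⟨CharP.char_is_prime F p⟩
  have : NeZero k := ⟨by omega⟩
  have : CharP (FiniteField.Extension F p k) p :=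
    charP_of_injective_algebraMap (algebraMap F (FiniteField.Extension F p k)).injective p
  let : Algebra F (FiniteField.Extension (FiniteField.Extension F p k) p 2) :=
    ((algebraMap (FiniteField.Extension F p k)
      (FiniteField.Extension (FiniteField.Extension F p k) p 2)).comp
      (algebraMap F (FiniteField.Extension F p k))).toAlgebra
  have : IsScalarTower F (FiniteField.Extension F p k)
      (FiniteField.Extension (FiniteField.Extension F p k) p 2) :=
    IsScalarTower.of_algebraMap_eq (fun x => rfl)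
  exact exists_model (K₀ := FiniteField.Extension F p k)
    (K' := FiniteField.Extension (FiniteField.Extension F p k) p 2) k hk
    (FiniteField.finrank_extension F p k)
    (FiniteField.finrank_extension (FiniteField.Extension F p k) p 2)

end Cfsg.Agent.Lib.Helper43_TwoGen_MODEL_MINUS
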