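import Mathlib

/-!
TWOGEN package CYC1 (architect helper32): an additive subgroup of a finite field that contains a
nonzero element and is closed under multiplication by a generator of the field is everything.
-/

set_option autoImplicit false

namespace Cfsg.Agent.Lib.Helper86_TwoGen_CYC1

theorem CYC1 {K : Type*} [Field K] [Finite K] (μ : K)
    (hμ : ∀ L : Subfield K, μ ∈ L → L = ⊤) (A : AddSubgroup K) (z₀ : K) (hz₀ : z₀ ∈ A)
    (hz₀0 : z₀ ≠ 0) (hA : ∀ z ∈ A, μ * z ∈ A) : A = ⊤ := by
  have hpow : ∀ (r : K), (∀ z ∈ A, r * z ∈ A) → ∀ n : ℕ, ∀ z ∈ A, r ^ n * z ∈ A := by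
    intro r hr n
    induction n with
    | zero =>
      intro z hz
      simpa using hz
    | succ n ih =>
      intro z hz
      rw [pow_succ, mul_assoc]
      exact ih _ (hr z hz)
  let L : Subfield K :=
    { carrier := {r | ∀ z ∈ A, r * z ∈ A}
      mul_mem' := by
        intro a b ha hb z hz
        rw [mul_assoc]
        exact ha _ (hb z hz)
      one_mem' := by
        intro z hz
        simpa using hz
      add_mem' := by
        intro a b ha hb z hz
        rw [add_mul]
        exact A.add_mem (ha z hz) (hb z hz)
      zero_mem' := by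
        intro z _
        simp
      neg_mem' := by
        intro a ha z hz
        rw [neg_mul]
        exact A.neg_mem (ha z hz)
      inv_mem' := by
        intro r hr
        by_cases h0 : r = 0
        · intro z _
          simp [h0]
        · have h1 : (Units.mk0 r h0) ^ orderOf (Units.mk0 r h0) = 1 := pow_orderOf_eq_one _
          have h2 : r ^ orderOf (Units.mk0 r h0) = 1 := by
            have := congrArg Units.val h1
            rwa [Units.val_pow_eq_pow_val, Units.val_mk0, Units.val_one] at this
          have hpos : 0 < orderOf (Units.mk0 r h0) := orderOf_pos _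
          have h3 : r⁻¹ = r ^ (orderOf (Units.mk0 r h0) - 1) := by
            apply inv_eq_of_mul_eq_one_right
            rw [← pow_succ', Nat.sub_add_cancel hpos, h2]
          rw [h3]
          exact hpow r hr _ }
  have hL : L = ⊤ := hμ L hA
  rw [eq_top_iff]
  intro y _
  have hy : y * z₀⁻¹ ∈ L := by
    rw [hL]
    exact Subfield.mem_top _
  have := hy z₀ hz₀
  rwa [mul_assoc, inv_mul_cancel₀ hz₀0, mul_one] at this

end Cfsg.Agent.Lib.Helper86_TwoGen_CYC1
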