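import Mathlib
import Cfsg.Agent.Lib.Helper86_TwoGen_CYC1

/-!
TWOGEN package CYC2 (architect helper32): the analogue of CYC1 for a product of two finite fields and
two generators with distinct minimal polynomials over the prime field.
-/

set_option autoImplicit false

namespace Cfsg.Agent.Lib.Helper86_TwoGen_CYC2

open Polynomial

theorem CYC2 (p : ℕ) [Fact p.Prime] {K₁ K₂ : Type*} [Field K₁] [Finite K₁] [Field K₂] [Finite K₂]
    [Algebra (ZMod p) K₁] [Algebra (ZMod p) K₂] (μ₁ : K₁) (μ₂ : K₂)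
    (h₁ : ∀ L : Subfield K₁, μ₁ ∈ L → L = ⊤) (h₂ : ∀ L : Subfield K₂, μ₂ ∈ L → L = ⊤)
    (hne : minpoly (ZMod p) μ₁ ≠ minpoly (ZMod p) μ₂)
    (A : AddSubgroup (K₁ × K₂)) (z : K₁ × K₂) (hz : z ∈ A) (hz1 : z.1 ≠ 0) (hz2 : z.2 ≠ 0)
    (hA : ∀ x ∈ A, (μ₁ * x.1, μ₂ * x.2) ∈ A) : A = ⊤ := by
  have hi1 : IsIntegral (ZMod p) μ₁ := Algebra.IsIntegral.isIntegral μ₁
  have hi2 : IsIntegral (ZMod p) μ₂ := Algebra.IsIntegral.isIntegral μ₂
  -- closure under polynomials
  have hpoly : ∀ h : (ZMod p)[X], ∀ x ∈ A, (aeval μ₁ h * x.1, aeval μ₂ h * x.2) ∈ A := by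
    intro h
    induction h using Polynomial.induction_on with
    | C a =>
      intro x hx
      have e1 : aeval μ₁ (C a) = ((a.val : ℕ) : K₁) := by
        rw [aeval_C]
        conv_lhs => rw [← ZMod.natCast_zmod_val a]
        rw [map_natCast]
      have e2 : aeval μ₂ (C a) = ((a.val : ℕ) : K₂) := by
        rw [aeval_C]
        conv_lhs => rw [← ZMod.natCast_zmod_val a]
        rw [map_natCast]
      rw [e1, e2]
      have : (((a.val : ℕ) : K₁) * x.1, ((a.val : ℕ) : K₂) * x.2) = a.val • x := by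
        ext <;> simp [nsmul_eq_mul]
      rw [this]
      exact A.nsmul_mem hx _
    | add f g hf hg =>
      intro x hx
      have : (aeval μ₁ (f + g) * x.1, aeval μ₂ (f + g) * x.2) =
          (aeval μ₁ f * x.1, aeval μ₂ f * x.2) + (aeval μ₁ g * x.1, aeval μ₂ g * x.2) := by
        ext <;> simp [add_mul]
      rw [this]
      exact A.add_mem (hf x hx) (hg x hx)
    | monomial n a ih =>
      intro x hx
      have := ih _ (hA x hx)
      have e : (aeval μ₁ (C a * X ^ (n + 1)) * x.1, aeval μ₂ (C a * X ^ (n + 1)) * x.2) =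
          (aeval μ₁ (C a * X ^ n) * (μ₁ * x.1), aeval μ₂ (C a * X ^ n) * (μ₂ * x.2)) := by
        ext <;> simp [pow_succ, mul_assoc]
      rw [e]
      exact this
  -- coprimality of the minimal polynomials
  have hcop : IsCoprime (minpoly (ZMod p) μ₁) (minpoly (ZMod p) μ₂) := by
    rw [(minpoly.irreducible hi1).coprime_iff_not_dvd]
    intro hdvd
    apply hne
    exact eq_of_monic_of_associated (minpoly.monic hi1) (minpoly.monic hi2)
      ((minpoly.irreducible hi1).associated_of_dvd (minpoly.irreducible hi2) hdvd)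
  obtain ⟨s, t, hst⟩ := hcop
  have hz10 : (z.1, (0 : K₂)) ∈ A := by
    have := hpoly (t * minpoly (ZMod p) μ₂) z hz
    have e1 : aeval μ₁ (t * minpoly (ZMod p) μ₂) = 1 := by
      have : t * minpoly (ZMod p) μ₂ = 1 - s * minpoly (ZMod p) μ₁ := by rw [← hst]; ring
      rw [this]
      simp [minpoly.aeval]
    have e2 : aeval μ₂ (t * minpoly (ZMod p) μ₂) = 0 := by
      simp [minpoly.aeval]
    rwa [e1, e2, one_mul, zero_mul] at this
  have hz02 : ((0 : K₁), z.2) ∈ A := by
    have := hpoly (s * minpoly (ZMod p) μ₁) z hz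
    have e2 : aeval μ₂ (s * minpoly (ZMod p) μ₁) = 1 := by
      have : s * minpoly (ZMod p) μ₁ = 1 - t * minpoly (ZMod p) μ₂ := by rw [← hst]; ring
      rw [this]
      simp [minpoly.aeval]
    have e1 : aeval μ₁ (s * minpoly (ZMod p) μ₁) = 0 := by
      simp [minpoly.aeval]
    rwa [e1, e2, one_mul, zero_mul] at this
  -- the two factors
  let A₁ : AddSubgroup K₁ :=
    { carrier := {x | (x, (0 : K₂)) ∈ A}
      add_mem' := by
        intro a b ha hb
        have := A.add_mem ha hb
        simpa using this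
      zero_mem' := by
        change ((0 : K₁), (0 : K₂)) ∈ A
        exact A.zero_mem
      neg_mem' := by
        intro a ha
        have := A.neg_mem ha
        simpa using this }
  let A₂ : AddSubgroup K₂ :=
    { carrier := {x | ((0 : K₁), x) ∈ A}
      add_mem' := by
        intro a b ha hb
        have := A.add_mem ha hb
        simpa using this
      zero_mem' := by
        change ((0 : K₁), (0 : K₂)) ∈ A
        exact A.zero_mem
      neg_mem' := by
        intro a ha
        have := A.neg_mem ha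
        simpa using this }
  have hA₁ : A₁ = ⊤ := by
    apply Cfsg.Agent.Lib.Helper86_TwoGen_CYC1.CYC1 μ₁ h₁ A₁ z.1 hz10 hz1
    intro x hx
    have := hA _ hx
    change (μ₁ * x, (0 : K₂)) ∈ A
    simpa using this
  have hA₂ : A₂ = ⊤ := by
    apply Cfsg.Agent.Lib.Helper86_TwoGen_CYC1.CYC1 μ₂ h₂ A₂ z.2 hz02 hz2
    intro x hx
    have := hA _ hx
    change ((0 : K₁), μ₂ * x) ∈ A
    simpa using this
  rw [eq_top_iff]
  rintro ⟨a, b⟩ _
  have ha : a ∈ A₁ := by rw [hA₁]; exact AddSubgroup.mem_top _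
  have hb : b ∈ A₂ := by rw [hA₂]; exact AddSubgroup.mem_top _
  have := A.add_mem ha hb
  simpa using this

end Cfsg.Agent.Lib.Helper86_TwoGen_CYC2
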