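import Mathlib

/-!
# TWOGEN-DEG (helper8, package of helper32's S2413/S2414/S2415 plan)

The minimal polynomial over `𝔽_p` of a field generator of a finite field `K` has degree `[K : 𝔽_p]`.
-/

set_option autoImplicit false

namespace Cfsg.Agent.Lib.Helper8_TwoGen_DEG

theorem DEG (p : ℕ) [Fact p.Prime] {K : Type*} [Field K] [Finite K] [Algebra (ZMod p) K] (μ : K)
    (hμ : ∀ L : Subfield K, μ ∈ L → L = ⊤) :
    (minpoly (ZMod p) μ).natDegree = Module.finrank (ZMod p) K := by
  have hint : IsIntegral (ZMod p) μ := Algebra.IsIntegral.isIntegral μ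
  have h1 := IntermediateField.adjoin.finrank hint
  have h2 : (IntermediateField.adjoin (ZMod p) {μ}).toSubfield = ⊤ :=
    hμ _ (IntermediateField.mem_adjoin_simple_self (ZMod p) μ)
  have h3 : IntermediateField.adjoin (ZMod p) {μ} = ⊤ := by
    apply IntermediateField.toSubfield_injective
    rw [h2, IntermediateField.top_toSubfield]
  rw [← h1, h3, IntermediateField.finrank_top']

end Cfsg.Agent.Lib.Helper8_TwoGen_DEG
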