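import Mathlib

/-!
# TWOGEN-GEN (helper8, package of helper32's S2413/S2414/S2415 plan)

An element of order at least `(|K| - 1) / 2` of a finite field `K` lies in no proper subfield.
-/

set_option autoImplicit false

namespace Cfsg.Agent.Lib.Helper8_TwoGen_GEN

theorem GEN {K : Type*} [Field K] [Fintype K] (x : K) (hx : Fintype.card K - 1 ≤ 2 * orderOf x)
    (L : Subfield K) (hxL : x ∈ L) : L = ⊤ := by
  classical
  have hK : 1 < Fintype.card K := Fintype.one_lt_card
  have hftL : Fintype L := Fintype.ofFinite L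
  have hL : 1 < Fintype.card L := Fintype.one_lt_card
  -- `x ≠ 0`
  have hx0 : x ≠ 0 := by
    intro h0
    rw [h0, orderOf_eq_zero_iff'.2 (fun n hn => by rw [zero_pow hn.ne']; exact zero_ne_one)] at hx
    omega
  -- `orderOf x ≤ |L| - 1`
  have hord : orderOf x ≤ Fintype.card L - 1 := by
    have h1 : (⟨x, hxL⟩ : L) ≠ 0 := by
      intro h
      apply hx0
      exact congrArg Subtype.val h
    have h2 := FiniteField.pow_card_sub_one_eq_one (⟨x, hxL⟩ : L) h1
    have h3 : x ^ (Fintype.card L - 1) = 1 := by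
      have := congrArg Subtype.val h2
      simpa using this
    exact Nat.le_of_dvd (by omega) (orderOf_dvd_of_pow_eq_one h3)
  -- `|K| = |L| ^ d`
  have hcard : Fintype.card K = Fintype.card L ^ Module.finrank L K := Module.card_eq_pow_finrank
  by_contra hne
  have hd : 2 ≤ Module.finrank L K := by
    by_contra hd2
    have hd1 : Module.finrank L K = 0 ∨ Module.finrank L K = 1 := by omega
    rcases hd1 with hd0 | hd1
    · rw [hd0, pow_zero] at hcard
      omega
    · rw [hd1, pow_one] at hcard
      apply hne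
      have hbij : Function.Bijective (L.subtype) :=
        (Fintype.bijective_iff_injective_and_card _).2 ⟨Subtype.val_injective, hcard.symm⟩
      rw [eq_top_iff]
      intro y _
      obtain ⟨z, hz⟩ := hbij.2 y
      rw [← hz]
      exact z.2
  have h4 : Fintype.card L ^ 2 ≤ Fintype.card K := by
    rw [hcard]
    exact Nat.pow_le_pow_right (by omega) hd
  -- arithmetic
  obtain ⟨l, hl⟩ : ∃ l, Fintype.card L = l + 2 := ⟨Fintype.card L - 2, by omega⟩
  rw [hl] at h4 hord
  have h5 : (l + 2) ^ 2 = l * l + 4 * l + 4 := by ring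
  have h6 : l * l + 4 * l + 4 - 1 ≤ 2 * (l + 2 - 1) := by
    calc l * l + 4 * l + 4 - 1 ≤ Fintype.card K - 1 := by omega
      _ ≤ 2 * orderOf x := hx
      _ ≤ 2 * (l + 2 - 1) := by omega
  have h7 : 0 ≤ l * l := Nat.zero_le _
  omega

end Cfsg.Agent.Lib.Helper8_TwoGen_GEN
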