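import Mathlib
import Cfsg.Agent.Lib.Helper32_OmegaTwoGenModel
import Cfsg.Agent.Lib.Helper43_TwoGen_MODEL_MINUS
import Cfsg.Agent.Lib.Helper86_TwoGen_CYC2
import Cfsg.Agent.Lib.Helper8_TwoGen_GEN
import Cfsg.Agent.Lib.Helper8_TwoGen_DEG
import Cfsg.Agent.Lib.Helper11_TwoGen_NT

/-!
# TWOGEN-MODEL_ODD (package of helper32's S2413 / S2414 / S2415 plan)

The odd-dimensional model: the tower `F ⊆ K₀ ⊆ K'` of degrees `k` and `2` of helper43's minus-type model,
`M = K' × F`, `Q (x, t) = Tr_{K₀/F} (N_{K'/K₀} x) + t²`, `g = (λ₀ · , 1)` with `λ₀` of order `|K₀| + 1`,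
`c = γ` a generator of `Fˣ`, `z₀ = (x₀, 1)` with `Q_{K'} x₀ = -1`.
-/

set_option autoImplicit false
set_option linter.unusedSectionVars false
set_option linter.unusedVariables false

namespace Cfsg.Agent.Lib.Helper11_TwoGen_MODEL_ODD

open Module Cfsg.Agent.Lib.Helper94_OrthSmall Cfsg.Agent.Lib.Helper32_OmegaTwoGen
  Cfsg.Agent.Lib.Helper32_OmegaTwoGenModel Cfsg.Agent.Lib.Helper43_TwoGen_MODEL_MINUS

universe u

section Abstract

variable {F : Type*} [Field F] [Finite F] {K₀ : Type*} [Field K₀] [Finite K₀] [Algebra F K₀]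
  {K' : Type*} [Field K'] [Finite K'] [Algebra K₀ K'] [Algebra F K'] [IsScalarTower F K₀ K']

variable (F K₀ K') in
/-- the quadratic form `Q_{K'} x + t²` on `K' × F` -/
noncomputable def qo (a : K' × F) : F := qf F K₀ K' a.1 + a.2 * a.2

variable (F K₀ K') in
/-- its polar form -/
noncomputable def bo : LinearMap.BilinForm F (K' × F) :=
  LinearMap.mk₂ F (fun a b => bf F K₀ K' a.1 b.1 + 2 * a.2 * b.2)
    (by
      intro a a' b
      simp only [Prod.fst_add, Prod.snd_add, map_add, LinearMap.add_apply]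
      ring)
    (by
      intro c a b
      simp only [Prod.smul_fst, Prod.smul_snd, map_smul, LinearMap.smul_apply, smul_eq_mul]
      ring)
    (by
      intro a b b'
      simp only [Prod.fst_add, Prod.snd_add, map_add]
      ring)
    (by
      intro c a b
      simp only [Prod.smul_fst, Prod.smul_snd, map_smul, smul_eq_mul]
      ring)

theorem bo_apply (a b : K' × F) :
    bo F K₀ K' a b = bf F K₀ K' a.1 b.1 + 2 * a.2 * b.2 := rfl

theorem qo_add (h2 : Module.finrank K₀ K' = 2) (a b : K' × F) :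
    qo F K₀ K' (a + b) = qo F K₀ K' a + qo F K₀ K' b + bo F K₀ K' a b := by
  unfold qo
  rw [bo_apply, Prod.fst_add, Prod.snd_add, qf_add h2]
  ring

theorem qo_smul (h2 : Module.finrank K₀ K' = 2) (c : F) (a : K' × F) :
    qo F K₀ K' (c • a) = c * c * qo F K₀ K' a := by
  unfold qo
  rw [Prod.smul_fst, Prod.smul_snd, qf_smul h2, smul_eq_mul]
  ring

theorem bo_nondegenerate (h2F : (2 : F) ≠ 0) : (bo F K₀ K').Nondegenerate := by
  have hnd := bf_nondegenerate (F := F) (K₀ := K₀) (K' := K')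
  constructor
  · intro a ha
    have h1 : a.1 = 0 := by
      apply hnd.1
      intro y
      have := ha (y, 0)
      rw [bo_apply] at this
      simpa using this
    have h2 : a.2 = 0 := by
      have := ha (0, 1)
      rw [bo_apply] at this
      simp only [map_zero, mul_one, zero_add] at this
      rcases mul_eq_zero.1 this with h | h
      · exact absurd h h2F
      · exact h
    exact Prod.ext h1 h2
  · intro b hb
    have h1 : b.1 = 0 := by
      apply hnd.2
      intro x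
      have := hb (x, 0)
      rw [bo_apply] at this
      simpa using this
    have h2 : b.2 = 0 := by
      have := hb (0, 1)
      rw [bo_apply] at this
      simp only [map_zero, LinearMap.zero_apply, mul_one, zero_add] at this
      rcases mul_eq_zero.1 this with h | h
      · exact absurd h h2F
      · exact h
    exact Prod.ext h1 h2

variable (F K') in
/-- the isometry `(x, t) ↦ (λ₀ x, t)` -/
noncomputable def go (u : K'ˣ) : (K' × F) ≃ₗ[F] (K' × F) :=
  LinearEquiv.prodCongr (mulAut F K' u) (LinearEquiv.refl F F)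

theorem go_apply (u : K'ˣ) (a : K' × F) : go F K' u a = ((u : K') * a.1, a.2) := rfl

theorem qo_go (h2 : Module.finrank K₀ K' = 2) (u : K'ˣ) (hu : orderOf u = Nat.card K₀ + 1)
    (a : K' × F) : qo F K₀ K' (go F K' u a) = qo F K₀ K' a := by
  unfold qo
  rw [go_apply]
  have := qf_mulAut (F := F) h2 u hu a.1
  rw [mulAut_apply] at this
  rw [this]

theorem exists_neg_one : ∃ x₀ : K', qf F K₀ K' x₀ = -1 := by
  obtain ⟨w, hw⟩ := Algebra.trace_surjective F K₀ (-1)
  obtain ⟨x₀, hx₀⟩ := FiniteField.norm_surjective K₀ K' w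
  refine ⟨x₀, ?_⟩
  unfold qf
  rw [hx₀, hw]

/-- arithmetic: `gcd (Q + 1, q - 1) ≤ 2` for `Q = q ^ k` -/
theorem gcd_le_two (q k : ℕ) (hq : 2 ≤ q) (hk : 1 ≤ k) : Nat.gcd (q ^ k + 1) (q - 1) ≤ 2 := by
  have h1 : q - 1 ∣ q ^ k - 1 := by
    have := Nat.sub_dvd_pow_sub_pow q 1 k
    rwa [one_pow] at this
  have hd1 : Nat.gcd (q ^ k + 1) (q - 1) ∣ q ^ k + 1 := Nat.gcd_dvd_left _ _
  have hd2 : Nat.gcd (q ^ k + 1) (q - 1) ∣ q ^ k - 1 := (Nat.gcd_dvd_right _ _).trans h1
  have hpos : 1 ≤ q ^ k := Nat.one_le_pow _ _ (by omega)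
  have hd3 : Nat.gcd (q ^ k + 1) (q - 1) ∣ (q ^ k + 1) - (q ^ k - 1) := Nat.dvd_sub hd1 hd2
  have h2 : (q ^ k + 1) - (q ^ k - 1) = 2 := by omega
  rw [h2] at hd3
  exact Nat.le_of_dvd two_pos hd3

theorem cyc (p : ℕ) [Fact p.Prime] [Algebra (ZMod p) F] [Algebra (ZMod p) K'] [Fintype F]
    (k : ℕ) (hk : 2 ≤ k) (hodd : Fintype.card F % 2 = 1)
    (hK₀ : Nat.card K₀ = Fintype.card F ^ k) (h2 : Module.finrank K₀ K' = 2)
    (u : K'ˣ) (hu : orderOf u = Nat.card K₀ + 1) (γ : Fˣ) (hγ : orderOf γ = Fintype.card F - 1)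
    (x₀ : K') (hx₀ : x₀ ≠ 0) (A : AddSubgroup (K' × F)) (hzA : (x₀, (1 : F)) ∈ A)
    (hA : ∀ ζ ∈ A, ((γ : F) * (γ : F)) • go F K' u (go F K' u ζ) ∈ A) : A = ⊤ := by
  classical
  have := Fintype.ofFinite K'
  set q := Fintype.card F with hq
  have hq3 : 3 ≤ q := by
    have : 2 ≤ q := Fintype.one_lt_card
    omega
  have hQ : Nat.card K₀ = q ^ k := hK₀
  have hQ4 : 4 ≤ Nat.card K₀ := by
    rw [hQ]
    calc 4 ≤ 3 ^ 2 := by norm_num
      _ ≤ q ^ 2 := Nat.pow_le_pow_left hq3 2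
      _ ≤ q ^ k := Nat.pow_le_pow_right (by omega) hk
  -- `μ₁` and `μ₂`
  set μ₁ : K' := ((γ : F) * (γ : F)) • ((u : K') ^ 2) with hμ₁
  set μ₂ : F := (γ : F) * (γ : F) with hμ₂
  obtain ⟨m, hm⟩ : ∃ m, q - 1 = 2 * m := ⟨(q - 1) / 2, by omega⟩
  have hγq : (γ : F) ^ (q - 1) = 1 :=
    FiniteField.pow_card_sub_one_eq_one (γ : F) γ.ne_zero
  -- `μ₁ ^ m = λ₀ ^ (q - 1)`
  have hμ₂pow : μ₂ ^ m = 1 := by
    rw [hμ₂, ← sq, ← pow_mul, ← hm, hγq]
  have hμ₁pow : μ₁ ^ m = (u : K') ^ (q - 1) := by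
    rw [hμ₁, smul_pow, ← pow_mul, ← hm, hμ₂pow, one_smul]
  -- generation by `μ₁`
  have h₁ : ∀ L : Subfield K', μ₁ ∈ L → L = ⊤ := by
    intro L hL
    have hxL : (u : K') ^ (q - 1) ∈ L := by
      rw [← hμ₁pow]
      exact pow_mem hL m
    apply Cfsg.Agent.Lib.Helper11_TwoGen_NT.NT (Nat.card K₀) hQ4 ?_ ((u : K') ^ (q - 1)) ?_ ?_ L hxL
    · rw [← Nat.card_eq_fintype_card, card_sq h2]
    · rw [← pow_mul, mul_comm, pow_mul, ← hu, ← Units.val_pow_eq_pow_val, pow_orderOf_eq_one,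
        Units.val_one, one_pow]
    · have h1 : orderOf ((u : K') ^ (q - 1)) = orderOf (u ^ (q - 1)) := by
        rw [← Units.val_pow_eq_pow_val, orderOf_units]
      rw [h1, orderOf_pow' u (by omega : q - 1 ≠ 0), hu, hQ]
      have hd1 : Nat.gcd (q ^ k + 1) (q - 1) ∣ q ^ k + 1 := Nat.gcd_dvd_left _ _
      have hd2 : Nat.gcd (q ^ k + 1) (q - 1) ≤ 2 := gcd_le_two q k (by omega) (by omega)
      calc q ^ k + 1
          = (q ^ k + 1) / Nat.gcd (q ^ k + 1) (q - 1) * Nat.gcd (q ^ k + 1) (q - 1) :=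
            (Nat.div_mul_cancel hd1).symm
        _ ≤ (q ^ k + 1) / Nat.gcd (q ^ k + 1) (q - 1) * 2 := Nat.mul_le_mul_left _ hd2
        _ = 2 * ((q ^ k + 1) / Nat.gcd (q ^ k + 1) (q - 1)) := mul_comm _ _
  -- generation by `μ₂`
  have h₂ : ∀ L : Subfield F, μ₂ ∈ L → L = ⊤ := by
    intro L hL
    refine Cfsg.Agent.Lib.Helper8_TwoGen_GEN.GEN μ₂ ?_ L hL
    have e : μ₂ = ((γ ^ 2 : Fˣ) : F) := by rw [hμ₂, Units.val_pow_eq_pow_val, sq]
    rw [e, orderOf_units, orderOf_pow' γ two_ne_zero, hγ]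
    have hd1 : Nat.gcd (q - 1) 2 ∣ q - 1 := Nat.gcd_dvd_left _ _
    have hd2 : Nat.gcd (q - 1) 2 ≤ 2 := Nat.le_of_dvd two_pos (Nat.gcd_dvd_right _ _)
    calc q - 1 = (q - 1) / Nat.gcd (q - 1) 2 * Nat.gcd (q - 1) 2 := (Nat.div_mul_cancel hd1).symm
      _ ≤ (q - 1) / Nat.gcd (q - 1) 2 * 2 := Nat.mul_le_mul_left _ hd2
      _ = 2 * ((q - 1) / Nat.gcd (q - 1) 2) := mul_comm _ _
  -- different degrees
  have hne : minpoly (ZMod p) μ₁ ≠ minpoly (ZMod p) μ₂ := by
    intro h
    have hd1 := Cfsg.Agent.Lib.Helper8_TwoGen_DEG.DEG p μ₁ h₁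
    have hd2 := Cfsg.Agent.Lib.Helper8_TwoGen_DEG.DEG p μ₂ h₂
    rw [h, hd2] at hd1
    -- cardinalities
    have hcF : Nat.card F = p ^ Module.finrank (ZMod p) F := by
      rw [Module.natCard_eq_pow_finrank (K := ZMod p) (V := F), Nat.card_zmod]
    have hcK : Nat.card K' = p ^ Module.finrank (ZMod p) K' := by
      rw [Module.natCard_eq_pow_finrank (K := ZMod p) (V := K'), Nat.card_zmod]
    have hcK' : Nat.card K' = Nat.card F ^ (2 * k) := by
      rw [card_sq h2, hQ, hq, Nat.card_eq_fintype_card, ← pow_mul, mul_comm]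
    rw [hcK, hcF, ← hd1, ← pow_mul] at hcK'
    have hp2 : 2 ≤ p := (Fact.out : p.Prime).two_le
    have := Nat.pow_right_injective hp2 hcK'
    have hpos : 0 < Module.finrank (ZMod p) F := Module.finrank_pos
    have h4 : 4 ≤ 2 * k := by omega
    nlinarith
  apply Cfsg.Agent.Lib.Helper86_TwoGen_CYC2.CYC2 p μ₁ μ₂ h₁ h₂ hne A (x₀, (1 : F)) hzA hx₀
    one_ne_zero ?_
  intro x hx
  have := hA x hx
  rw [go_apply, go_apply] at this
  simp only at this
  rw [Prod.smul_mk, smul_eq_mul] at this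
  have e1 : ((γ : F) * (γ : F)) • ((u : K') * ((u : K') * x.1)) = μ₁ * x.1 := by
    rw [hμ₁, smul_mul_assoc, sq, mul_assoc]
  rw [e1] at this
  exact this

end Abstract

/-- the model over an abstract tower `F ⊆ K₀ ⊆ K'` of degrees `k` and `2` -/
theorem exists_model {F : Type u} [Field F] [Fintype F] (h2F : (2 : F) ≠ 0) {K₀ : Type*} [Field K₀]
    [Finite K₀] [Algebra F K₀] {K' : Type} [Field K'] [Finite K'] [Algebra K₀ K'] [Algebra F K']
    [IsScalarTower F K₀ K'] (p : ℕ) [Fact p.Prime] [CharP F p] [Algebra (ZMod p) F]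
    [Algebra (ZMod p) K'] (k : ℕ) (hk : 2 ≤ k)
    (hk0 : Module.finrank F K₀ = k) (h2 : Module.finrank K₀ K' = 2) :
    ∃ X : Model.{u, u} F, Module.finrank F X.M = 2 * k + 1 := by
  classical
  obtain ⟨u, hu⟩ := exists_unit (K₀ := K₀) (K' := K') h2
  obtain ⟨γ, hγ⟩ := IsCyclic.exists_ofOrder_eq_natCard (α := Fˣ)
  rw [Nat.card_units, Nat.card_eq_fintype_card] at hγ
  obtain ⟨x₀, hx₀Q⟩ := exists_neg_one (F := F) (K₀ := K₀) (K' := K')
  have hx₀ : x₀ ≠ 0 := by
    rintro rfl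
    unfold qf at hx₀Q
    rw [Algebra.norm_zero, map_zero] at hx₀Q
    exact one_ne_zero (neg_eq_zero.1 hx₀Q.symm)
  have hcardK₀ : Nat.card K₀ = Fintype.card F ^ k := by
    rw [Module.natCard_eq_pow_finrank (K := F) (V := K₀), hk0, Nat.card_eq_fintype_card]
  have hodd : Fintype.card F % 2 = 1 := by
    apply FiniteField.odd_card_of_char_ne_two
    intro h
    have hp2 : p = 2 := (ringChar.eq F p).symm.trans h
    have : ((p : ℕ) : F) = 0 := CharP.cast_eq_zero F p
    rw [hp2] at this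
    exact h2F (by exact_mod_cast this)
  refine ⟨{ M := K' × F
            Q := qo F K₀ K'
            B := bo F K₀ K'
            hQs := qo_smul h2
            hQp := qo_add h2
            hN := bo_nondegenerate h2F
            g := go F K' u
            hg := fun x => qo_go h2 u hu x
            c := (γ : F)
            hc := γ.ne_zero
            z₀ := (x₀, (1 : F))
            hz₀ := by
              show qf F K₀ K' x₀ + (1 : F) * 1 = 0
              rw [hx₀Q]
              ring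
            hz₀0 := by
              intro h
              exact one_ne_zero (congrArg Prod.snd h)
            hcyc := fun A hzA hA =>
              cyc p k hk hodd hcardK₀ h2 u hu γ hγ x₀ hx₀ A hzA hA }, ?_⟩
  show Module.finrank F (K' × F) = 2 * k + 1
  rw [Module.finrank_prod, Module.finrank_self, ← Module.finrank_mul_finrank F K₀ K', hk0, h2,
    mul_comm]

/-- **MODEL_ODD**. -/
theorem MODEL_ODD {F : Type u} [Field F] [Fintype F] (h2 : (2 : F) ≠ 0) (k : ℕ) (hk : 2 ≤ k) :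
    ∃ X : Model.{u, u} F, Module.finrank F X.M = 2 * k + 1 := by
  obtain ⟨p, hp⟩ := CharP.exists F
  have : Fact p.Prime := ⟨CharP.char_is_prime F p⟩
  have : NeZero k := ⟨by omega⟩
  have : CharP (FiniteField.Extension F p k) p :=
    charP_of_injective_algebraMap (algebraMap F (FiniteField.Extension F p k)).injective p
  let : Algebra F (FiniteField.Extension (FiniteField.Extension F p k) p 2) :=
    ((algebraMap (FiniteField.Extension F p k)
      (FiniteField.Extension (FiniteField.Extension F p k) p 2)).comp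
      (algebraMap F (FiniteField.Extension F p k))).toAlgebra
  have : IsScalarTower F (FiniteField.Extension F p k)
      (FiniteField.Extension (FiniteField.Extension F p k) p 2) :=
    IsScalarTower.of_algebraMap_eq (fun x => rfl)
  let : Algebra (ZMod p) F := ZMod.algebra F p
  exact exists_model h2 (K₀ := FiniteField.Extension F p k)
    (K' := FiniteField.Extension (FiniteField.Extension F p k) p 2) p k hk
    (FiniteField.finrank_extension F p k)
    (FiniteField.finrank_extension (FiniteField.Extension F p k) p 2)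

end Cfsg.Agent.Lib.Helper11_TwoGen_MODEL_ODD
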