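import Mathlib

/-!
# TWOGEN-SEP (package of helper32's S2413 / S2414 / S2415)

For a generator `l` of the multiplicative group of a finite field `K`, `|K| ≥ 8`, `|K| ≠ 9`, the elements
`l ^ 2` and `(l ^ 2)⁻¹` have distinct minimal polynomials over the prime field: otherwise they are
conjugate under a power of the Frobenius map, `(l ^ 2)⁻¹ = (l ^ 2) ^ (p ^ j)` with `j < D`, `|K| = p ^ D`,
and `|K| - 1` divides `2 (p ^ j + 1)`, which is too small.
-/

set_option autoImplicit false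

namespace Cfsg.Agent.Lib.Helper11_TwoGen_SEP

/-- the arithmetic core -/
theorem sep_arith (p D j : ℕ) (hp : p.Prime) (hj : j < D) (hK : 8 ≤ p ^ D) (hK9 : p ^ D ≠ 9)
    (hdvd : p ^ D - 1 ∣ 2 * (p ^ j + 1)) : False := by
  obtain ⟨D', rfl⟩ : ∃ D', D = D' + 1 := ⟨D - 1, by omega⟩
  have hp2 : 2 ≤ p := hp.two_le
  set y := p ^ D' with hy
  have hy1 : 1 ≤ y := Nat.pow_pos (by omega)
  have hpj : p ^ j ≤ y := Nat.pow_le_pow_right (by omega) (by omega)
  have hq : p ^ (D' + 1) = y * p := pow_succ p D'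
  rw [hq] at hK hK9 hdvd
  rcases Nat.lt_or_ge p 3 with h3 | h3
  · -- `p = 2`
    have hp' : p = 2 := by omega
    subst hp'
    have hodd : Nat.Coprime (y * 2 - 1) 2 := by
      rw [Nat.coprime_two_right]
      exact ⟨y - 1, by omega⟩
    have h1 : y * 2 - 1 ∣ 2 ^ j + 1 := hodd.dvd_of_dvd_mul_left hdvd
    have h2 : y * 2 - 1 ≤ 2 ^ j + 1 := Nat.le_of_dvd (Nat.succ_pos _) h1
    omega
  · have h1 : y * p - 1 ≤ 2 * (p ^ j + 1) := Nat.le_of_dvd (by omega) hdvd
    have h2 : y * p ≤ 2 * y + 3 := by omega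
    rcases Nat.lt_or_ge p 4 with h4 | h4
    · have hp' : p = 3 := by omega
      subst hp'
      omega
    · have h5 : y * 4 ≤ y * p := Nat.mul_le_mul_left y h4
      have hy' : y = 1 := by omega
      rw [hy', one_mul] at hK h2
      omega

/-- **SEP** -/
theorem SEP (p : ℕ) [Fact p.Prime] {K : Type*} [Field K] [Fintype K] [Algebra (ZMod p) K]
    (hK : 8 ≤ Fintype.card K) (hK9 : Fintype.card K ≠ 9) (l : K)
    (hl : orderOf l = Fintype.card K - 1) :
    minpoly (ZMod p) (l ^ 2) ≠ minpoly (ZMod p) ((l ^ 2)⁻¹) := by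
  classical
  intro heq
  have hq : Fintype.card K = p ^ Module.finrank (ZMod p) K := by
    rw [Module.card_eq_pow_finrank (K := ZMod p) (V := K), ZMod.card]
  have hl0 : l ≠ 0 := by
    rintro rfl
    rw [orderOf_zero] at hl
    omega
  have hμ0 : l ^ 2 ≠ 0 := pow_ne_zero 2 hl0
  have halg : IsAlgebraic (ZMod p) (l ^ 2) := Algebra.IsAlgebraic.isAlgebraic _
  have hroot : Polynomial.aeval (l ^ 2)⁻¹ (minpoly (ZMod p) (l ^ 2)) = 0 := by
    rw [heq]
    exact minpoly.aeval _ _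
  obtain ⟨σ, hσ⟩ := minpoly.exists_algEquiv_of_root' halg hroot
  obtain ⟨j, hj⟩ := (FiniteField.bijective_frobeniusAlgEquivOfAlgebraic_pow (ZMod p) K).2 σ
  have hpow : (l ^ 2) ^ (p ^ j.1) = (l ^ 2)⁻¹ := by
    have h1 := DFunLike.congr_fun hj (l ^ 2)
    simp only at h1
    rw [AlgEquiv.coe_pow, FiniteField.coe_frobeniusAlgEquivOfAlgebraic_iterate, ZMod.card, hσ] at h1
    exact h1
  have h1 : l ^ (2 * (p ^ j.1 + 1)) = 1 := by
    rw [pow_mul, pow_succ, hpow, inv_mul_cancel₀ hμ0]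
  have hdvd : Fintype.card K - 1 ∣ 2 * (p ^ j.1 + 1) := by
    rw [← hl]
    exact orderOf_dvd_of_pow_eq_one h1
  rw [hq] at hdvd hK hK9
  exact sep_arith p _ j.1 (Fact.out) j.2 hK hK9 hdvd

end Cfsg.Agent.Lib.Helper11_TwoGen_SEP
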