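import Mathlib
import Cfsg.Agent.Lib.Helper32_OmegaTwoGenModel
import Cfsg.Agent.Lib.Helper86_TwoGen_CYC2
import Cfsg.Agent.Lib.Helper8_TwoGen_GEN
import Cfsg.Agent.Lib.Helper11_TwoGen_SEP

/-!
# TWOGEN-MODEL_PLUS (package of helper32's S2413 / S2414 / S2415 plan)

The plus-type model: `K / F` of degree `k ≥ 3`, `M = K × K`, `Q (x, y) = Tr_{K/F} (x y)`,
`g (x, y) = (λ x, λ⁻¹ y)` with `λ` a generator of `Kˣ`, `z₀ = (1, y₀)` with `Tr y₀ = 0`, `y₀ ≠ 0`;
the totally singular subspace is `K × 0`.
-/

set_option autoImplicit false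
set_option linter.unusedSectionVars false
set_option linter.unusedVariables false

namespace Cfsg.Agent.Lib.Helper11_TwoGen_MODEL_PLUS

open Module Cfsg.Agent.Lib.Helper94_OrthSmall Cfsg.Agent.Lib.Helper32_OmegaTwoGen
  Cfsg.Agent.Lib.Helper32_OmegaTwoGenModel

universe u

section Abstract

variable {F : Type*} [Field F] [Finite F] {K : Type*} [Field K] [Finite K] [Algebra F K]

variable (F K) in
/-- the quadratic form `Tr_{K/F} (x y)` on `K × K` -/
noncomputable def qf (x : K × K) : F := Algebra.trace F K (x.1 * x.2)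

variable (F K) in
/-- the polar form `Tr (x y' + x' y)` -/
noncomputable def bf : LinearMap.BilinForm F (K × K) :=
  LinearMap.mk₂ F (fun a b => Algebra.trace F K (a.1 * b.2 + b.1 * a.2))
    (by
      intro a a' b
      rw [← map_add]
      congr 1
      simp only [Prod.fst_add, Prod.snd_add]
      ring)
    (by
      intro c a b
      rw [← map_smul]
      congr 1
      simp only [Prod.smul_fst, Prod.smul_snd, smul_add, smul_mul_assoc, mul_smul_comm])
    (by
      intro a b b'
      rw [← map_add]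
      congr 1
      simp only [Prod.fst_add, Prod.snd_add]
      ring)
    (by
      intro c a b
      rw [← map_smul]
      congr 1
      simp only [Prod.smul_fst, Prod.smul_snd, smul_add, smul_mul_assoc, mul_smul_comm])

theorem bf_apply (a b : K × K) : bf F K a b = Algebra.trace F K (a.1 * b.2 + b.1 * a.2) := rfl

theorem qf_add (a b : K × K) : qf F K (a + b) = qf F K a + qf F K b + bf F K a b := by
  unfold qf
  rw [bf_apply, ← map_add, ← map_add]
  congr 1
  simp only [Prod.fst_add, Prod.snd_add]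
  ring

theorem qf_smul (c : F) (a : K × K) : qf F K (c • a) = c * c * qf F K a := by
  unfold qf
  simp only [Prod.smul_fst, Prod.smul_snd, smul_mul_assoc, mul_smul_comm]
  rw [smul_smul, map_smul, smul_eq_mul]

theorem bf_nondegenerate : (bf F K).Nondegenerate := by
  obtain ⟨z, hz⟩ := Algebra.trace_surjective F K 1
  constructor
  · intro a ha
    have h1 : a.1 = 0 := by
      by_contra h0
      have := ha (0, a.1⁻¹ * z)
      rw [bf_apply] at this
      simp only [zero_mul, add_zero] at this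
      rw [mul_inv_cancel_left₀ h0, hz] at this
      exact one_ne_zero this
    have h2 : a.2 = 0 := by
      by_contra h0
      have := ha (a.2⁻¹ * z, 0)
      rw [bf_apply] at this
      simp only [mul_zero, zero_add] at this
      rw [mul_comm, mul_inv_cancel_left₀ h0, hz] at this
      exact one_ne_zero this
    exact Prod.ext h1 h2
  · intro b hb
    have h1 : b.1 = 0 := by
      by_contra h0
      have := hb (0, b.1⁻¹ * z)
      rw [bf_apply] at this
      simp only [zero_mul, zero_add] at this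
      rw [mul_inv_cancel_left₀ h0, hz] at this
      exact one_ne_zero this
    have h2 : b.2 = 0 := by
      by_contra h0
      have := hb (b.2⁻¹ * z, 0)
      rw [bf_apply] at this
      simp only [mul_zero, add_zero] at this
      rw [mul_comm, mul_inv_cancel_left₀ h0, hz] at this
      exact one_ne_zero this
    exact Prod.ext h1 h2

variable (F K) in
/-- multiplication by a unit as an `F`-linear automorphism -/
noncomputable def mulAut : Kˣ →* (K ≃ₗ[F] K) := DistribMulAction.toModuleAut F K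

theorem mulAut_apply (u : Kˣ) (x : K) : mulAut F K u x = (u : K) * x := rfl

variable (F K) in
/-- the isometry `(x, y) ↦ (λ x, λ⁻¹ y)` -/
noncomputable def gg (u : Kˣ) : (K × K) ≃ₗ[F] (K × K) :=
  LinearEquiv.prodCongr (mulAut F K u) (mulAut F K u⁻¹)

theorem gg_apply (u : Kˣ) (a : K × K) :
    gg F K u a = ((u : K) * a.1, ((u⁻¹ : Kˣ) : K) * a.2) := rfl

theorem qf_gg (u : Kˣ) (a : K × K) : qf F K (gg F K u a) = qf F K a := by
  unfold qf
  rw [gg_apply]
  congr 1
  show (u : K) * a.1 * (((u⁻¹ : Kˣ) : K) * a.2) = a.1 * a.2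
  have h : (u : K) * ((u⁻¹ : Kˣ) : K) = 1 := by rw [← Units.val_mul, mul_inv_cancel, Units.val_one]
  calc (u : K) * a.1 * (((u⁻¹ : Kˣ) : K) * a.2)
      = ((u : K) * ((u⁻¹ : Kˣ) : K)) * (a.1 * a.2) := by ring
    _ = a.1 * a.2 := by rw [h, one_mul]

theorem exists_trace_zero (hk : 2 ≤ Module.finrank F K) :
    ∃ y₀ : K, y₀ ≠ 0 ∧ Algebra.trace F K y₀ = 0 := by
  have hker : LinearMap.ker (Algebra.trace F K) ≠ ⊥ :=
    LinearMap.ker_ne_bot_of_finrank_lt (by rw [Module.finrank_self]; omega)
  obtain ⟨y, hy, hy0⟩ := Submodule.exists_mem_ne_zero_of_ne_bot hker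
  exact ⟨y, hy0, hy⟩

theorem cyc (p : ℕ) [Fact p.Prime] [Algebra (ZMod p) K] (hK8 : 8 ≤ Nat.card K)
    (hK9 : Nat.card K ≠ 9) (u : Kˣ) (hu : orderOf u = Nat.card K - 1) (y₀ : K) (hy₀ : y₀ ≠ 0)
    (A : AddSubgroup (K × K)) (hzA : ((1 : K), y₀) ∈ A)
    (hA : ∀ ζ ∈ A, ((1 : F) * 1) • gg F K u (gg F K u ζ) ∈ A) : A = ⊤ := by
  classical
  have := Fintype.ofFinite K
  have hcard : Fintype.card K = Nat.card K := (Nat.card_eq_fintype_card).symm
  have hul : orderOf (u : K) = Fintype.card K - 1 := by rw [orderOf_units, hu, hcard]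
  -- the order of `λ²`
  have hord2 : Fintype.card K - 1 ≤ 2 * orderOf ((u : K) ^ 2) := by
    rw [orderOf_pow' (u : K) two_ne_zero, hul]
    have hd1 : Nat.gcd (Fintype.card K - 1) 2 ∣ Fintype.card K - 1 := Nat.gcd_dvd_left _ _
    have hd2 : Nat.gcd (Fintype.card K - 1) 2 ≤ 2 :=
      Nat.le_of_dvd two_pos (Nat.gcd_dvd_right _ _)
    calc Fintype.card K - 1
        = (Fintype.card K - 1) / Nat.gcd (Fintype.card K - 1) 2 *
            Nat.gcd (Fintype.card K - 1) 2 := (Nat.div_mul_cancel hd1).symm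
      _ ≤ (Fintype.card K - 1) / Nat.gcd (Fintype.card K - 1) 2 * 2 :=
          Nat.mul_le_mul_left _ hd2
      _ = 2 * ((Fintype.card K - 1) / Nat.gcd (Fintype.card K - 1) 2) := mul_comm _ _
  apply Cfsg.Agent.Lib.Helper86_TwoGen_CYC2.CYC2 p ((u : K) ^ 2) (((u : K) ^ 2)⁻¹) ?_ ?_ ?_ A
    ((1 : K), y₀) hzA one_ne_zero hy₀ ?_
  · intro L hL
    exact Cfsg.Agent.Lib.Helper8_TwoGen_GEN.GEN ((u : K) ^ 2) hord2 L hL
  · intro L hL
    refine Cfsg.Agent.Lib.Helper8_TwoGen_GEN.GEN (((u : K) ^ 2)⁻¹) ?_ L hL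
    have e : ((u : K) ^ 2)⁻¹ = (((u ^ 2)⁻¹ : Kˣ) : K) := by
      rw [Units.val_inv_eq_inv_val, Units.val_pow_eq_pow_val]
    have e' : (u : K) ^ 2 = ((u ^ 2 : Kˣ) : K) := (Units.val_pow_eq_pow_val u 2).symm
    rw [e, orderOf_units, orderOf_inv, ← orderOf_units, ← e']
    exact hord2
  · exact Cfsg.Agent.Lib.Helper11_TwoGen_SEP.SEP p (by rw [hcard]; exact hK8)
      (by rw [hcard]; exact hK9) (u : K) hul
  · intro x hx
    have := hA x hx
    rw [mul_one, one_smul, gg_apply, gg_apply] at this
    have e1 : (u : K) * ((u : K) * x.1) = (u : K) ^ 2 * x.1 := by ring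
    have e2 : ((u⁻¹ : Kˣ) : K) * (((u⁻¹ : Kˣ) : K) * x.2) = ((u : K) ^ 2)⁻¹ * x.2 := by
      rw [Units.val_inv_eq_inv_val, ← mul_assoc, ← sq, inv_pow]
    simp only at this
    rw [e1, e2] at this
    exact this

end Abstract

/-- the model over an abstract extension `K / F` of degree `k` -/
theorem exists_model {F : Type u} [Field F] [Fintype F] {K : Type} [Field K] [Finite K]
    [Algebra F K] (p : ℕ) [Fact p.Prime] [Algebra (ZMod p) K] (k : ℕ) (hk : 3 ≤ k)
    (hk0 : Module.finrank F K = k) :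
    ∃ X : Model.{u, 0} F, Module.finrank F X.M = 2 * k ∧
      ∃ U : Submodule F X.M, (∀ x ∈ U, X.Q x = 0) ∧ Module.finrank F U = k := by
  classical
  obtain ⟨ω, hω⟩ := IsCyclic.exists_ofOrder_eq_natCard (α := Kˣ)
  rw [Nat.card_units] at hω
  obtain ⟨y₀, hy₀, hTy₀⟩ := exists_trace_zero (F := F) (K := K) (by omega)
  have hcardK : Nat.card K = Fintype.card F ^ k := by
    rw [Module.natCard_eq_pow_finrank (K := F) (V := K), hk0, Nat.card_eq_fintype_card]
  have hq : 2 ≤ Fintype.card F := Fintype.one_lt_card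
  have hK8 : 8 ≤ Nat.card K := by
    rw [hcardK]
    calc 8 = 2 ^ 3 := by norm_num
      _ ≤ Fintype.card F ^ 3 := Nat.pow_le_pow_left hq 3
      _ ≤ Fintype.card F ^ k := Nat.pow_le_pow_right (by omega) hk
  have hK9 : Nat.card K ≠ 9 := by
    rw [hcardK]
    intro h9
    rcases Nat.lt_or_ge (Fintype.card F) 3 with h3 | h3
    · have h2 : Fintype.card F = 2 := by omega
      rw [h2] at h9
      have heven : Even (2 ^ k) := (Nat.even_pow.2 ⟨even_two, by omega⟩)
      rw [h9] at heven
      exact absurd heven (by decide)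
    · have : 27 ≤ Fintype.card F ^ k := by
        calc 27 = 3 ^ 3 := by norm_num
          _ ≤ Fintype.card F ^ 3 := Nat.pow_le_pow_left h3 3
          _ ≤ Fintype.card F ^ k := Nat.pow_le_pow_right (by omega) hk
      omega
  refine ⟨{ M := K × K
            Q := qf F K
            B := bf F K
            hQs := qf_smul
            hQp := qf_add
            hN := bf_nondegenerate
            g := gg F K ω
            hg := fun x => qf_gg ω x
            c := 1
            hc := one_ne_zero
            z₀ := ((1 : K), y₀)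
            hz₀ := by
              show Algebra.trace F K ((1 : K) * y₀) = 0
              rw [one_mul]
              exact hTy₀
            hz₀0 := by
              intro h
              exact one_ne_zero (congrArg Prod.fst h)
            hcyc := fun A hzA hA => cyc p hK8 hK9 ω hω y₀ hy₀ A hzA hA }, ?_, ?_⟩
  · show Module.finrank F (K × K) = 2 * k
    rw [Module.finrank_prod, hk0]
    ring
  · refine ⟨LinearMap.range (LinearMap.inl F K K), ?_, ?_⟩
    · rintro _ ⟨a, rfl⟩
      show Algebra.trace F K (a * 0) = 0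
      rw [mul_zero, map_zero]
    · rw [LinearMap.finrank_range_of_inj LinearMap.inl_injective, hk0]

/-- **MODEL_PLUS**. -/
theorem MODEL_PLUS {F : Type u} [Field F] [Fintype F] (k : ℕ) (hk : 3 ≤ k) :
    ∃ X : Model.{u, 0} F, Module.finrank F X.M = 2 * k ∧
      ∃ U : Submodule F X.M, (∀ x ∈ U, X.Q x = 0) ∧ Module.finrank F U = k := by
  obtain ⟨p, hp⟩ := CharP.exists F
  have : Fact p.Prime := ⟨CharP.char_is_prime F p⟩
  have : NeZero k := ⟨by omega⟩
  exact exists_model (K := FiniteField.Extension F p k) p k hk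
    (FiniteField.finrank_extension F p k)

end Cfsg.Agent.Lib.Helper11_TwoGen_MODEL_PLUS
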