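import Mathlib
import Cfsg.Agent.Lib.Helper94_Herm
import Cfsg.Agent.Lib.Helper94_HermEich
import Cfsg.Agent.Lib.Helper94_Symp
import Cfsg.Agent.Lib.Helper94_HermOrth

/-!
# Definitions for S2150 (minimal index of `PSU₄(q)`), helper39

Setting: `(V, B)` a hermitian space over `F` (`|F| = q ^ 2`, `σ x = x ^ q`), in the framework of
`Helper94_Herm`.  `SUg B` is the group of isometries of determinant one; for an isotropic vector
`u`: `Xg B u` (root group), `Qg B u` (unipotent radical of the point stabiliser, all Eichler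
elements `eich B u w c`), `Pg B u` (stabiliser of the point `F u` in `SUg B`); `fixer l` is the
pointwise stabiliser of a subspace.

Local side: `(W, h)` a 2-dimensional hermitian space, `LL h` the Levi group
`{(c, k) : k ∈ U(W), det k = σ c / c}` acting on `W` by `w ↦ σ c • k w` and on the skew scalars by
`N(c) = c * σ c`.
-/

set_option autoImplicit false

namespace Cfsg.Agent.Lib.Helper39_U4Defs

open Module Cfsg.Agent.Lib.Helper94_Symp Cfsg.Agent.Lib.Helper94_Herm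
  Cfsg.Agent.Lib.Helper94_HermEich Cfsg.Agent.Lib.Helper94_HermOrth

variable {F V : Type*} [Field F] [AddCommGroup V] [Module F V] {σ : F →+* F}

/-- isometries of determinant one -/
noncomputable def SUg (B : V →ₗ[F] V →ₛₗ[σ] F) : Subgroup (V ≃ₗ[F] V) :=
  uG B ⊓ (LinearEquiv.det : (V ≃ₗ[F] V) →* Fˣ).ker

/-- the root group of the vector `u`: generated by the transvections `utv B u c`, `σ c = -c` -/
noncomputable def Xg (B : V →ₗ[F] V →ₛₗ[σ] F) (u : V) : Subgroup (V ≃ₗ[F] V) :=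
  Subgroup.closure {g | ∃ c, σ c = -c ∧ g = utv B u c}

/-- the group generated by the Eichler elements `eich B u w c` (`w ⊥ u`, `c + σ c = -B w w`) -/
noncomputable def Qg (B : V →ₗ[F] V →ₛₗ[σ] F) (u : V) : Subgroup (V ≃ₗ[F] V) :=
  Subgroup.closure {g | ∃ w c, B w u = 0 ∧ c + σ c = -(B w w) ∧ g = eich B u w c}

/-- the stabiliser of the point `F u` in `SUg B` -/
noncomputable def Pg (B : V →ₗ[F] V →ₛₗ[σ] F) (u : V) : Subgroup (V ≃ₗ[F] V) :=
  SUg B ⊓ stab (Submodule.span F {u})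

/-- the pointwise stabiliser of a subspace -/
def fixer (l : Submodule F V) : Subgroup (V ≃ₗ[F] V) where
  carrier := {g | ∀ x ∈ l, g x = x}
  mul_mem' := by
    intro a b ha hb x hx
    rw [LinearEquiv.mul_apply, hb x hx, ha x hx]
  one_mem' := by intro x _; rfl
  inv_mem' := by
    intro a ha x hx
    have h1 : a⁻¹ (a x) = x := by
      rw [← LinearEquiv.mul_apply, inv_mul_cancel]; rfl
    rw [ha x hx] at h1
    exact h1

lemma mem_fixer {l : Submodule F V} {g : V ≃ₗ[F] V} : g ∈ fixer l ↔ ∀ x ∈ l, g x = x := Iff.rfl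

/-- totally isotropic lines -/
def IsTILine (B : V →ₗ[F] V →ₛₗ[σ] F) (l : Submodule F V) : Prop :=
  finrank F l = 2 ∧ ∀ x ∈ l, ∀ y ∈ l, B x y = 0

/-- the standing hypotheses on the 4-dimensional space -/
structure U4Hyp (B : V →ₗ[F] V →ₛₗ[σ] F) (q : ℕ) : Prop where
  hσ : Invol σ
  hB : IsHerm B
  hN : NondegOn B ⊤
  h4 : finrank F V = 4
  hq : Nat.card F = q ^ 2
  hσq : ∀ x, σ x = x ^ q

/-- type (a): the elements of `M ⊓ Qg B u` fix a t.i. line through `u` pointwise -/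
def TypeAg (B : V →ₗ[F] V →ₛₗ[σ] F) (u : V) (M : Subgroup (V ≃ₗ[F] V)) : Prop :=
  ∃ l : Submodule F V, IsTILine B l ∧ u ∈ l ∧ M ⊓ Qg B u ≤ fixer l

/-- type (b): every t.i. line through `u` is fixed pointwise by exactly `q` elements of
`M ⊓ Qg B u` -/
def TypeBg (B : V →ₗ[F] V →ₛₗ[σ] F) (q : ℕ) (u : V) (M : Subgroup (V ≃ₗ[F] V)) : Prop :=
  (2 : F) = 0 ∧ ∀ l : Submodule F V, IsTILine B l → u ∈ l →
    Nat.card ↥(M ⊓ Qg B u ⊓ fixer l) = q

/-- the orthogonal complement of the pair `u, us` -/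
def Wsub (B : V →ₗ[F] V →ₛₗ[σ] F) (u us : V) : Submodule F V :=
  orthS B (Submodule.span F {u, us})

/-- the restriction of `B` to `Wsub B u us` -/
def hW (B : V →ₗ[F] V →ₛₗ[σ] F) (u us : V) :
    ↥(Wsub B u us) →ₗ[F] ↥(Wsub B u us) →ₛₗ[σ] F :=
  B.domRestrict₁₂ (Wsub B u us) (Wsub B u us)

lemma hW_apply (B : V →ₗ[F] V →ₛₗ[σ] F) (u us : V) (x y : ↥(Wsub B u us)) :
    hW B u us x y = B (x : V) (y : V) := rfl

/-! ### the local side -/

section loc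

variable {W : Type*} [AddCommGroup W] [Module F W]

/-- the Levi group `{(c, k) : k ∈ U(W), det k * c = σ c}` -/
noncomputable def LL (h : W →ₗ[F] W →ₛₗ[σ] F) : Subgroup (Fˣ × (W ≃ₗ[F] W)) where
  carrier := {p | p.2 ∈ uG h ∧ ((LinearEquiv.det p.2 : Fˣ) : F) * (p.1 : F) = σ (p.1 : F)}
  mul_mem' := by
    rintro a b ⟨ha1, ha2⟩ ⟨hb1, hb2⟩
    refine ⟨(uG h).mul_mem ha1 hb1, ?_⟩
    simp only [Prod.fst_mul, Prod.snd_mul, map_mul, Units.val_mul]
    rw [← ha2, ← hb2]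
    ring
  one_mem' := by
    refine ⟨(uG h).one_mem, ?_⟩
    simp
  inv_mem' := by
    rintro a ⟨ha1, ha2⟩
    refine ⟨(uG h).inv_mem ha1, ?_⟩
    simp only [Prod.fst_inv, Prod.snd_inv, map_inv, Units.val_inv_eq_inv_val, map_inv₀]
    rw [← ha2, mul_inv]

lemma mem_LL {h : W →ₗ[F] W →ₛₗ[σ] F} {p : Fˣ × (W ≃ₗ[F] W)} :
    p ∈ LL h ↔ p.2 ∈ uG h ∧ ((LinearEquiv.det p.2 : Fˣ) : F) * (p.1 : F) = σ (p.1 : F) := Iff.rfl

/-- the local hypotheses: `Bb ≤ W`, `Y` a proper additive subgroup of the skew scalars, the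
commutator and (in characteristic 2) square conditions, and a subgroup `S` of `LL h` preserving
`Bb` and `Y` -/
structure LocHyp (h : W →ₗ[F] W →ₛₗ[σ] F) (q : ℕ) (Bb : AddSubgroup W) (Y : AddSubgroup F)
    (S : Subgroup (Fˣ × (W ≃ₗ[F] W))) : Prop where
  hσ : Invol σ
  hh : IsHerm h
  hN : NondegOn h ⊤
  h2 : finrank F W = 2
  hq : Nat.card F = q ^ 2
  hσq : ∀ x, σ x = x ^ q
  hY0 : ∀ y ∈ Y, σ y = -y
  hY : ∃ c, σ c = -c ∧ c ∉ Y
  hβ : ∀ w ∈ Bb, ∀ w' ∈ Bb, h w w' - h w' w ∈ Y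
  hsq : (2 : F) = 0 → ∀ w ∈ Bb, h w w ∈ Y
  hS : S ≤ LL h
  hSB : ∀ p ∈ S, ∀ w ∈ Bb, σ (p.1 : F) • p.2 w ∈ Bb
  hSY : ∀ p ∈ S, ∀ y ∈ Y, (p.1 : F) * σ (p.1 : F) * y ∈ Y

/-- local type (a): `Bb` lies on an isotropic line of `W` -/
def TypeA (h : W →ₗ[F] W →ₛₗ[σ] F) (Bb : AddSubgroup W) : Prop :=
  ∃ w₀ : W, w₀ ≠ 0 ∧ h w₀ w₀ = 0 ∧ ∀ w ∈ Bb, ∃ a : F, w = a • w₀

/-- local type (b): characteristic 2 and `Bb` is the form `F_q x + F_q y` on a hyperbolic pair -/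
def TypeB (h : W →ₗ[F] W →ₛₗ[σ] F) (Bb : AddSubgroup W) : Prop :=
  (2 : F) = 0 ∧ ∃ x y : W, h x x = 0 ∧ h y y = 0 ∧ h x y = 1 ∧
    ∀ w, w ∈ Bb ↔ ∃ a b : F, σ a = a ∧ σ b = b ∧ w = a • x + b • y

end loc

end Cfsg.Agent.Lib.Helper39_U4Defs
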