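import Mathlib
import Cfsg.Agent.Lib.Helper39_U4Defs
import Cfsg.Agent.Lib.Helper27_UQDefs

/-!
# U4-COMPAT (architect helper39, proof helper11)

The groups of `Helper39_U4Defs` (`SUg`, `Xg`, `Qg`, `Pg`, `Wsub`) coincide with those of the landed `UQ` layer
(`Helper13_PSUSimple.SUg`, `Helper27_UQDefs.Xv`, `Qv`, `Pv`, `Wsub`).
-/

set_option autoImplicit false

open Module Cfsg.Agent.Lib.Helper94_Symp Cfsg.Agent.Lib.Helper94_Herm
  Cfsg.Agent.Lib.Helper94_HermEich Cfsg.Agent.Lib.Helper94_HermOrth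
  Cfsg.Agent.Lib.Helper13_SUGen

namespace Cfsg.Agent.Lib.Helper11_U4_COMPAT

variable {F V : Type*} [Field F] [AddCommGroup V] [Module F V] {σ : F →+* F}
  {B : V →ₗ[F] V →ₛₗ[σ] F}

theorem SUg_eq : Cfsg.Agent.Lib.Helper39_U4Defs.SUg B = Cfsg.Agent.Lib.Helper13_PSUSimple.SUg B := rfl

theorem Xg_eq (u : V) :
    Cfsg.Agent.Lib.Helper39_U4Defs.Xg B u = Cfsg.Agent.Lib.Helper27_UQDefs.Xv B u := by
  unfold Cfsg.Agent.Lib.Helper39_U4Defs.Xg
  exact Subgroup.closure_eq (Cfsg.Agent.Lib.Helper27_UQDefs.Xv B u)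

theorem Qg_eq (hB : IsHerm B) {u us : V} (h : HypPair B u us) :
    Cfsg.Agent.Lib.Helper39_U4Defs.Qg B u = Cfsg.Agent.Lib.Helper27_UQDefs.Qv B u := by
  unfold Cfsg.Agent.Lib.Helper39_U4Defs.Qg
  apply le_antisymm
  · rw [Subgroup.closure_le]
    rintro g ⟨w, c, hw, hc, rfl⟩
    exact Cfsg.Agent.Lib.Helper27_UQDefs.eich_mem_Qv hB h.ee hw hc
  · intro g hg
    obtain ⟨w, c, hw, hc, rfl⟩ := (Cfsg.Agent.Lib.Helper27_UQDefs.mem_Qv_iff_eich hB h g).mp hg
    exact Subgroup.subset_closure ⟨w, c, hw.1, hc, rfl⟩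

theorem mem_stab_span_iff {u : V} (hu : u ≠ 0) (g : V ≃ₗ[F] V) :
    g ∈ stab (Submodule.span F {u}) ↔ ∃ c : F, c ≠ 0 ∧ g u = c • u := by
  rw [mem_stab]
  constructor
  · intro h
    have h1 := (h u).mp (Submodule.mem_span_singleton_self u)
    obtain ⟨c, hc⟩ := Submodule.mem_span_singleton.mp h1
    refine ⟨c, ?_, hc.symm⟩
    intro h0
    rw [h0, zero_smul] at hc
    exact hu ((map_eq_zero_iff g g.injective).mp hc.symm)
  · rintro ⟨c, hc, hgu⟩ x
    constructor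
    · intro hx
      obtain ⟨a, rfl⟩ := Submodule.mem_span_singleton.mp hx
      rw [map_smul, hgu, smul_smul]
      exact Submodule.smul_mem _ _ (Submodule.mem_span_singleton_self u)
    · intro hx
      obtain ⟨a, ha⟩ := Submodule.mem_span_singleton.mp hx
      rw [Submodule.mem_span_singleton]
      refine ⟨a * c⁻¹, ?_⟩
      apply g.injective
      rw [map_smul, hgu, smul_smul, mul_assoc, inv_mul_cancel₀ hc, mul_one, ha]

theorem Pg_eq {u : V} (hu : u ≠ 0) :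
    Cfsg.Agent.Lib.Helper39_U4Defs.Pg B u = Cfsg.Agent.Lib.Helper27_UQDefs.Pv B u := by
  ext g
  unfold Cfsg.Agent.Lib.Helper39_U4Defs.Pg
  rw [Subgroup.mem_inf, mem_stab_span_iff hu, Cfsg.Agent.Lib.Helper27_UQDefs.mem_Pv]
  rfl

theorem Wsub_eq (hB : IsHerm B) (u us : V) :
    Cfsg.Agent.Lib.Helper39_U4Defs.Wsub B u us = Cfsg.Agent.Lib.Helper27_UQDefs.Wsub B u us := by
  ext y
  unfold Cfsg.Agent.Lib.Helper39_U4Defs.Wsub
  rw [mem_orthS, Cfsg.Agent.Lib.Helper27_UQDefs.mem_Wsub]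
  constructor
  · intro h
    exact ⟨herm_eq_zero hB (h u (Submodule.subset_span (by simp))),
      herm_eq_zero hB (h us (Submodule.subset_span (by simp)))⟩
  · rintro ⟨h1, h2⟩ x hx
    obtain ⟨a, b, rfl⟩ := Submodule.mem_span_pair.mp hx
    rw [map_add, map_smul, map_smul, LinearMap.add_apply, LinearMap.smul_apply,
      LinearMap.smul_apply, herm_eq_zero hB h1, herm_eq_zero hB h2, smul_zero, smul_zero, add_zero]

end Cfsg.Agent.Lib.Helper11_U4_COMPAT
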