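import Mathlib
import Cfsg.Agent.Lib.Helper27_UQDefs
import Cfsg.Agent.Lib.Helper94_UQ_TORUS
import Cfsg.Agent.Lib.Helper95_UQ_FLD
import Cfsg.Agent.Lib.Helper94_HermWitt

set_option autoImplicit false
set_option linter.unusedSectionVars false
set_option linter.unusedVariables false
set_option linter.unusedSimpArgs false

open Module Cfsg.Agent.Lib.Helper94_Symp Cfsg.Agent.Lib.Helper94_Herm
  Cfsg.Agent.Lib.Helper94_HermEich Cfsg.Agent.Lib.Helper94_HermPara
  Cfsg.Agent.Lib.Helper94_HermTrans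
  Cfsg.Agent.Lib.Helper13_SUGen Cfsg.Agent.Lib.Helper13_PSUSimple
  Cfsg.Agent.Lib.Helper46_U3TI Cfsg.Agent.Lib.Helper14_PSULocal1
  Cfsg.Agent.Lib.Helper27_UQDefs

/-!
# UQ-TOR2 (helper27): the hom `λ : Lv → Fˣ` (kernel `Kv`) and the TORUS INEQUALITY (`htorus` of `abstract_main`)

* `lamOf B v v' l := B (l v) v'`; on `Lv`: `Lv_apply_v`, `Lv_apply_v'`, `Lv_map_mem`, `lamOf_mul`, `lamOf_eq_one_iff`
  (`= 1 ↔ l ∈ Kv`), `lamHom h : Lv →* Fˣ`, `lamHom_ker`, `lamHom_surj` (needs an anisotropic `x ∈ W`),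
  `relIndex_sup_Kv : (S ⊔ Kv).relIndex Lv = (map (lamHom h) (S.subgroupOf Lv)).index`.
* `multField σ Y : Subfield F` (multipliers of `Y` in the fixed field), `torus_field_ineq`:
  `Y` a proper nonzero additive group of skew elements, `Λ ≤ Fˣ` with `N(Λ) Y ⊆ Y` ⟹ `|Y| + 1 ≤ [Fˣ : Λ]`.
* `torus_ineq`: `S ≤ Lv` normalising `Y` through the norm of `λ` ⟹ `|Y| + 1 ≤ (S ⊔ Kv).relIndex Lv`.
-/

namespace Cfsg.Agent.Lib.Helper27_UQ_TOR2

variable {F : Type*} [Field F] {σ : F →+* F}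

/-- the multiplier subfield of an additive group `Y` of skew elements -/
def multField [Finite F] (σ : F →+* F) (Y : AddSubgroup F) : Subfield F where
  carrier := {t | σ t = t ∧ ∀ c ∈ Y, t * c ∈ Y}
  mul_mem' := by
    rintro a b ⟨ha1, ha2⟩ ⟨hb1, hb2⟩
    refine ⟨by rw [map_mul, ha1, hb1], fun c hc => ?_⟩
    rw [mul_assoc]
    exact ha2 _ (hb2 c hc)
  one_mem' := ⟨map_one σ, fun c hc => by rwa [one_mul]⟩
  add_mem' := by
    rintro a b ⟨ha1, ha2⟩ ⟨hb1, hb2⟩
    refine ⟨by rw [map_add, ha1, hb1], fun c hc => ?_⟩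
    rw [add_mul]
    exact Y.add_mem (ha2 c hc) (hb2 c hc)
  zero_mem' := ⟨map_zero σ, fun c hc => by rw [zero_mul]; exact Y.zero_mem⟩
  neg_mem' := by
    rintro a ⟨ha1, ha2⟩
    refine ⟨by rw [map_neg, ha1], fun c hc => ?_⟩
    rw [neg_mul]
    exact Y.neg_mem (ha2 c hc)
  inv_mem' := by
    rintro a ⟨ha1, ha2⟩
    by_cases ha0 : a = 0
    · subst ha0
      rw [inv_zero]
      exact ⟨map_zero σ, fun c hc => by rw [zero_mul]; exact Y.zero_mem⟩
    refine ⟨by rw [map_inv₀, ha1], fun c hc => ?_⟩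
    let f : ↥Y → ↥Y := fun y => ⟨a * y.1, ha2 y.1 y.2⟩
    have hinj : Function.Injective f := by
      intro y y' hyy
      apply Subtype.ext
      have := congrArg Subtype.val hyy
      exact mul_left_cancel₀ ha0 this
    obtain ⟨y, hy⟩ := (Finite.injective_iff_surjective.mp hinj) ⟨c, hc⟩
    have h1 : a * y.1 = c := congrArg Subtype.val hy
    have h2 : a⁻¹ * c = y.1 := by rw [← h1, inv_mul_cancel_left₀ ha0]
    rw [h2]; exact y.2

theorem mem_multField [Finite F] {Y : AddSubgroup F} {t : F} :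
    t ∈ multField σ Y ↔ σ t = t ∧ ∀ c ∈ Y, t * c ∈ Y := Iff.rfl

/-- `Y` as a subspace over its multiplier field -/
def YsubM [Finite F] (σ : F →+* F) (Y : AddSubgroup F) : Submodule ↥(multField σ Y) F where
  carrier := Y
  add_mem' := Y.add_mem
  zero_mem' := Y.zero_mem
  smul_mem' := by
    intro t c hc
    rw [Algebra.smul_def]
    exact t.2.2 c hc

/-- the skew elements as a subspace over the multiplier field -/
def SsubM [Finite F] (σ : F →+* F) (Y : AddSubgroup F) : Submodule ↥(multField σ Y) F where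
  carrier := {c | σ c = -c}
  add_mem' := by
    intro a b ha hb
    show σ (a + b) = -(a + b)
    rw [map_add, ha, hb]; ring
  zero_mem' := by
    show σ 0 = -0
    simp
  smul_mem' := by
    intro t c hc
    show σ (t • c) = -(t • c)
    rw [Algebra.smul_def, map_mul]
    have h1 : σ (algebraMap ↥(multField σ Y) F t) = algebraMap ↥(multField σ Y) F t := t.2.1
    rw [h1, show σ c = -c from hc]; ring

theorem arith_aux {x r j k : ℕ} (hr : 2 ≤ r) (hj : 1 ≤ j) (hjk : j < k)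
    (hx : r ^ k - 1 ≤ x * (r - 1)) : r ^ j + 1 ≤ x := by
  by_contra hcon
  push Not at hcon
  have hx' : x ≤ r ^ j := by omega
  obtain ⟨s, rfl⟩ : ∃ s, r = s + 1 := ⟨r - 1, by omega⟩
  have h1 : (s + 1) ^ (j + 1) ≤ (s + 1) ^ k := Nat.pow_le_pow_right (by omega) (by omega)
  have h2 : (s + 1) ^ (j + 1) = (s + 1) ^ j * s + (s + 1) ^ j := by ring
  have h3 : 2 ≤ (s + 1) ^ j := by
    calc 2 ≤ s + 1 := hr
      _ = (s + 1) ^ 1 := (pow_one _).symm
      _ ≤ (s + 1) ^ j := Nat.pow_le_pow_right (by omega) hj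
  have h4 : x * s ≤ (s + 1) ^ j * s := Nat.mul_le_mul_right s hx'
  have h5 : s + 1 - 1 = s := by omega
  rw [h5] at hx
  omega

/-- **Torus inequality, field form.**  `Y` a proper nonzero additive group of skew elements, `Λ ≤ Fˣ` acting
on `Y` through the norm: then `|Y| + 1 ≤ [Fˣ : Λ]`. -/
theorem torus_field_ineq [Finite F] (hσ : Invol σ) {q : ℕ} (hF : Nat.card F = q ^ 2)
    (Y : AddSubgroup F) (hY : ∀ c ∈ Y, σ c = -c) (hY0 : Y ≠ ⊥)
    (hYne : ∃ c : F, σ c = -c ∧ c ∉ Y) (Λ : Subgroup Fˣ)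
    (hΛ : ∀ u ∈ Λ, ∀ c ∈ Y, (u : F) * σ (u : F) * c ∈ Y) :
    Nat.card ↥Y + 1 ≤ Λ.index := by
  classical
  set R := multField σ Y with hR
  set r := Nat.card ↥R with hr
  have hr2 : 2 ≤ r := Finite.one_lt_card
  -- cardinalities as powers of r
  have hcY : Nat.card ↥Y = r ^ finrank ↥R ↥(YsubM σ Y) := by
    have := Module.natCard_eq_pow_finrank (K := ↥R) (V := ↥(YsubM σ Y))
    rw [← this]
    rfl
  have hcS : q = r ^ finrank ↥R ↥(SsubM σ Y) := by
    have := Module.natCard_eq_pow_finrank (K := ↥R) (V := ↥(SsubM σ Y))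
    rw [← this, ← Cfsg.Agent.Lib.Helper95_UQ_FLD.card_skew hσ hF]
    rfl
  have hlt : YsubM σ Y < SsubM σ Y := by
    refine lt_of_le_of_ne (fun c hc => hY c hc) ?_
    intro heq
    obtain ⟨c, hc1, hc2⟩ := hYne
    apply hc2
    have : c ∈ SsubM σ Y := hc1
    rw [← heq] at this
    exact this
  have hjk : finrank ↥R ↥(YsubM σ Y) < finrank ↥R ↥(SsubM σ Y) :=
    Submodule.finrank_lt_finrank_of_lt hlt
  have hj : 1 ≤ finrank ↥R ↥(YsubM σ Y) := by
    rw [Nat.one_le_iff_ne_zero]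
    intro h0
    have hbot : YsubM σ Y = ⊥ := Submodule.finrank_eq_zero.mp h0
    apply hY0
    rw [eq_bot_iff]
    intro c hc
    have : c ∈ YsubM σ Y := hc
    rw [hbot, Submodule.mem_bot] at this
    rw [AddSubgroup.mem_bot]; exact this
  -- the norm map
  let σu : Fˣ →* Fˣ := Units.map (σ : F →* F)
  let nm : Fˣ →* Fˣ := MonoidHom.id Fˣ * σu
  have hnm : ∀ u : Fˣ, ((nm u : Fˣ) : F) = (u : F) * σ (u : F) := fun u => rfl
  -- the image of Λ lies in R \ {0}
  have hm : Nat.card ↥(Λ.map nm) + 1 ≤ r := by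
    let f : ↥(Λ.map nm) → {t : ↥R // t ≠ 0} := fun w =>
      ⟨⟨((w : Fˣ) : F), by
        obtain ⟨u, hu, huw⟩ := w.2
        rw [← huw, hnm]
        refine ⟨?_, fun c hc => hΛ u hu c hc⟩
        rw [map_mul, hσ.invol, mul_comm]⟩, by
        intro h0
        have := congrArg Subtype.val h0
        exact (w : Fˣ).ne_zero this⟩
    have hf : Function.Injective f := by
      intro w w' hww
      apply Subtype.ext
      apply Units.ext
      exact congrArg (fun t : {t : ↥R // t ≠ 0} => ((t : ↥R) : F)) hww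
    have h1 := Nat.card_le_card_of_injective f hf
    have h2 : Nat.card {t : ↥R // t ≠ 0} + 1 = r := by
      rw [← Finite.card_option, Nat.card_congr (Equiv.optionSubtypeNe (0 : ↥R))]
    omega
  -- the range of the norm has at least q - 1 elements
  have hrange : q - 1 ≤ Nat.card ↥nm.range := by
    have hc0 := Cfsg.Agent.Lib.Helper95_UQ_FLD.card_fixed hσ hF
    let z0 : {a : F // σ a = a} := ⟨0, map_zero σ⟩
    have h2 : Nat.card {t : {a : F // σ a = a} // t ≠ z0} + 1 = q := by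
      rw [← Finite.card_option, Nat.card_congr (Equiv.optionSubtypeNe z0), hc0]
    have hex : ∀ t : {t : {a : F // σ a = a} // t ≠ z0}, ∃ u : Fˣ, ((nm u : Fˣ) : F) = t.1.1 := by
      intro t
      obtain ⟨l, hl⟩ := norm_surj hσ t.1.1 t.1.2
      have hl0 : l ≠ 0 := by
        rintro rfl
        apply t.2
        apply Subtype.ext
        rw [← hl]; simp [z0]
      exact ⟨Units.mk0 l hl0, by rw [hnm]; exact hl⟩
    choose g hg using hex
    let f : {t : {a : F // σ a = a} // t ≠ z0} → ↥nm.range := fun t => ⟨nm (g t), ⟨g t, rfl⟩⟩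
    have hf : Function.Injective f := by
      intro t t' htt
      apply Subtype.ext
      apply Subtype.ext
      have := congrArg (fun w : ↥nm.range => ((w : Fˣ) : F)) htt
      simp only [f] at this
      rw [hg, hg] at this
      exact this
    have h1 := Nat.card_le_card_of_injective f hf
    omega
  -- index bookkeeping
  have hidx : Nat.card ↥nm.range ≤ Λ.index * Nat.card ↥(Λ.map nm) := by
    have h1 := Subgroup.index_map Λ nm
    have h2 := Subgroup.card_mul_index (Λ.map nm)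
    have h3 := Subgroup.card_mul_index nm.range
    have h4 : (Λ ⊔ nm.ker).index ∣ Λ.index := Subgroup.index_dvd_of_le le_sup_left
    have h5 : 0 < Λ.index := Nat.pos_of_ne_zero Subgroup.index_ne_zero_of_finite
    have h6 : (Λ ⊔ nm.ker).index ≤ Λ.index := Nat.le_of_dvd h5 h4
    have h7 : 0 < nm.range.index := Nat.pos_of_ne_zero Subgroup.index_ne_zero_of_finite
    -- a * b = c, m * c = N, ρ * b = N ⟹ a * m = ρ
    have h8 : (Λ ⊔ nm.ker).index * Nat.card ↥(Λ.map nm) = Nat.card ↥nm.range := by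
      apply Nat.eq_of_mul_eq_mul_right h7
      calc (Λ ⊔ nm.ker).index * Nat.card ↥(Λ.map nm) * nm.range.index
          = Nat.card ↥(Λ.map nm) * ((Λ ⊔ nm.ker).index * nm.range.index) := by ring
        _ = Nat.card ↥(Λ.map nm) * (Λ.map nm).index := by rw [h1]
        _ = Nat.card ↥nm.range * nm.range.index := by rw [h2, h3]
    rw [← h8]
    exact Nat.mul_le_mul_right _ h6
  -- conclusion
  rw [hcY]
  apply arith_aux hr2 hj hjk
  rw [← hcS]
  calc q - 1 ≤ Nat.card ↥nm.range := hrange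
    _ ≤ Λ.index * Nat.card ↥(Λ.map nm) := hidx
    _ ≤ Λ.index * (r - 1) := Nat.mul_le_mul_left _ (by omega)


section Geo

variable {V : Type*} [AddCommGroup V] [Module F V]
variable {B : V →ₗ[F] V →ₛₗ[σ] F}

/-- the multiplier of `l` on `v`: `l v = lamOf B v v' l • v` for `l ∈ Lv B v v'`. -/
def lamOf (B : V →ₗ[F] V →ₛₗ[σ] F) (v v' : V) (l : V ≃ₗ[F] V) : F := B (l v) v'

theorem lamOf_spec {v v' : V} (h : HypPair B v v') {l : V ≃ₗ[F] V} {lam : F}
    (hlv : l v = lam • v) : lamOf B v v' l = lam := by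
  unfold lamOf
  rw [hlv, map_smul, LinearMap.smul_apply, h.ef, smul_eq_mul, mul_one]

theorem Lv_apply_v {v v' : V} (h : HypPair B v v') {l : V ≃ₗ[F] V} (hl : l ∈ Lv B v v') :
    l v = lamOf B v v' l • v := by
  obtain ⟨-, ⟨c, -, hc⟩, -⟩ := (mem_Lv B).1 hl
  rw [lamOf_spec h hc, hc]

theorem lamOf_ne_zero {v v' : V} (h : HypPair B v v') {l : V ≃ₗ[F] V} (hl : l ∈ Lv B v v') :
    lamOf B v v' l ≠ 0 := by
  obtain ⟨-, ⟨c, hc0, hc⟩, -⟩ := (mem_Lv B).1 hl
  rw [lamOf_spec h hc]; exact hc0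

theorem lamOf_one {v v' : V} (h : HypPair B v v') : lamOf B v v' (1 : V ≃ₗ[F] V) = 1 := by
  apply lamOf_spec h
  simp

theorem lamOf_mul {v v' : V} (h : HypPair B v v') {l l' : V ≃ₗ[F] V} (hl : l ∈ Lv B v v')
    (hl' : l' ∈ Lv B v v') : lamOf B v v' (l * l') = lamOf B v v' l * lamOf B v v' l' := by
  apply lamOf_spec h
  rw [LinearEquiv.mul_apply, Lv_apply_v h hl', map_smul, Lv_apply_v h hl, smul_smul, mul_comm]

theorem Lv_apply_v' (hσ : Invol σ) (hB : IsHerm B) {v v' : V} (h : HypPair B v v')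
    {l : V ≃ₗ[F] V} (hl : l ∈ Lv B v v') : l v' = (σ (lamOf B v v' l))⁻¹ • v' :=
  (Cfsg.Agent.Lib.Helper94_UQ_TORUS.Lv_spec hσ hB h hl (Lv_apply_v h hl)).1

theorem Lv_map_mem (hσ : Invol σ) (hB : IsHerm B) {v v' : V} (h : HypPair B v v')
    {l : V ≃ₗ[F] V} (hl : l ∈ Lv B v v') {w : V} (hw : w ∈ Wsub B v v') : l w ∈ Wsub B v v' :=
  (Cfsg.Agent.Lib.Helper94_UQ_TORUS.Lv_spec hσ hB h hl (Lv_apply_v h hl)).2 w hw

theorem lamOf_eq_one_iff (hσ : Invol σ) (hB : IsHerm B) {v v' : V} (h : HypPair B v v')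
    {l : V ≃ₗ[F] V} (hl : l ∈ Lv B v v') : lamOf B v v' l = 1 ↔ l ∈ Kv B v v' := by
  constructor
  · intro h1
    refine ⟨((mem_Lv B).1 hl).1, ?_, ?_⟩
    · rw [Lv_apply_v h hl, h1, one_smul]
    · rw [Lv_apply_v' hσ hB h hl, h1, map_one, inv_one, one_smul]
  · intro hk
    apply lamOf_spec h
    rw [hk.2.1, one_smul]

/-- `l ↦ λ(l)`, `Lv → Fˣ`. -/
noncomputable def lamHom {v v' : V} (h : HypPair B v v') : ↥(Lv B v v') →* Fˣ where
  toFun l := Units.mk0 (lamOf B v v' (l : V ≃ₗ[F] V)) (lamOf_ne_zero h l.2)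
  map_one' := by
    apply Units.ext
    exact lamOf_one h
  map_mul' l l' := by
    apply Units.ext
    exact lamOf_mul h l.2 l'.2

theorem lamHom_apply {v v' : V} (h : HypPair B v v') (l : ↥(Lv B v v')) :
    ((lamHom h l : Fˣ) : F) = lamOf B v v' (l : V ≃ₗ[F] V) := rfl

theorem lamHom_ker (hσ : Invol σ) (hB : IsHerm B) {v v' : V} (h : HypPair B v v') :
    (lamHom h).ker = (Kv B v v').subgroupOf (Lv B v v') := by
  ext l
  rw [MonoidHom.mem_ker, Subgroup.mem_subgroupOf, ← lamOf_eq_one_iff hσ hB h l.2,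
    ← lamHom_apply, Units.ext_iff, Units.val_one]

theorem lamHom_surj [FiniteDimensional F V] (hσ : Invol σ) (hB : IsHerm B) (hN : NondegOn B ⊤)
    {v v' : V} (h : HypPair B v v') {x : V} (hx : x ∈ Wsub B v v') (hxx : B x x ≠ 0) :
    Function.Surjective (lamHom h) := by
  intro u
  obtain ⟨l, hl, hlv⟩ := Cfsg.Agent.Lib.Helper94_UQ_TORUS.exists_Lv hσ hB hN h hx hxx u.ne_zero
  refine ⟨⟨l, hl⟩, ?_⟩
  apply Units.ext
  rw [lamHom_apply]
  exact lamOf_spec h hlv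

/-- `[Lv : S ⊔ Kv] = [Fˣ : λ(S)]`. -/
theorem relIndex_sup_Kv [FiniteDimensional F V] (hσ : Invol σ) (hB : IsHerm B)
    (hN : NondegOn B ⊤) {v v' : V} (h : HypPair B v v') {x : V} (hx : x ∈ Wsub B v v')
    (hxx : B x x ≠ 0) (S : Subgroup (V ≃ₗ[F] V)) (hS : S ≤ Lv B v v') :
    (S ⊔ Kv B v v').relIndex (Lv B v v') =
      ((S.subgroupOf (Lv B v v')).map (lamHom h)).index := by
  have hK : Kv B v v' ≤ Lv B v v' := Kv_le_Lv B v v'
  have h1 : (S ⊔ Kv B v v').subgroupOf (Lv B v v') =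
      ((S.subgroupOf (Lv B v v')).map (lamHom h)).comap (lamHom h) := by
    rw [Subgroup.comap_map_eq, lamHom_ker hσ hB h, Subgroup.subgroupOf_sup hS hK]
  rw [Subgroup.relIndex, h1, Subgroup.index_comap_of_surjective _ (lamHom_surj hσ hB hN h hx hxx)]


/-- **Torus inequality** (`htorus`).  `S ≤ Lv` acts on the skew elements through `c ↦ λ σ(λ) c`; if it preserves a
proper nonzero additive subgroup `Y` of the skew elements then `|Y| + 1 ≤ [Lv : S Kv]`. -/
theorem torus_ineq [Finite F] [FiniteDimensional F V] (hσ : Invol σ) (hB : IsHerm B)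
    (hN : NondegOn B ⊤) {q : ℕ} (hF : Nat.card F = q ^ 2) {v v' : V} (h : HypPair B v v') {x : V}
    (hx : x ∈ Wsub B v v') (hxx : B x x ≠ 0) (S : Subgroup (V ≃ₗ[F] V)) (hS : S ≤ Lv B v v')
    (Y : AddSubgroup F) (hY : ∀ c ∈ Y, σ c = -c) (hY0 : Y ≠ ⊥) (hYne : ∃ c : F, σ c = -c ∧ c ∉ Y)
    (hinv : ∀ s ∈ S, ∀ c ∈ Y, lamOf B v v' s * σ (lamOf B v v' s) * c ∈ Y) :
    Nat.card ↥Y + 1 ≤ (S ⊔ Kv B v v').relIndex (Lv B v v') := by
  rw [relIndex_sup_Kv hσ hB hN h hx hxx S hS]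
  apply torus_field_ineq hσ hF Y hY hY0 hYne
  rintro u ⟨l, hl, rfl⟩ c hc
  rw [lamHom_apply]
  exact hinv _ (Subgroup.mem_subgroupOf.mp hl) c hc

/-- variant with the multiplier given by `s v = lam • v` -/
theorem torus_ineq' [Finite F] [FiniteDimensional F V] (hσ : Invol σ) (hB : IsHerm B)
    (hN : NondegOn B ⊤) {q : ℕ} (hF : Nat.card F = q ^ 2) {v v' : V} (h : HypPair B v v') {x : V}
    (hx : x ∈ Wsub B v v') (hxx : B x x ≠ 0) (S : Subgroup (V ≃ₗ[F] V)) (hS : S ≤ Lv B v v')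
    (Y : AddSubgroup F) (hY : ∀ c ∈ Y, σ c = -c) (hY0 : Y ≠ ⊥) (hYne : ∃ c : F, σ c = -c ∧ c ∉ Y)
    (hinv : ∀ s ∈ S, ∀ lam : F, s v = lam • v → ∀ c ∈ Y, lam * σ lam * c ∈ Y) :
    Nat.card ↥Y + 1 ≤ (S ⊔ Kv B v v').relIndex (Lv B v v') :=
  torus_ineq hσ hB hN hF h hx hxx S hS Y hY hY0 hYne
    (fun s hs c hc => hinv s hs _ (Lv_apply_v h (hS hs)) c hc)

/-- a nonzero nondegenerate `W` contains an anisotropic vector -/
theorem exists_aniso_Wsub [FiniteDimensional F V] (hσ : Invol σ) (hB : IsHerm B)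
    (hN : NondegOn B ⊤) {v v' : V} (h : HypPair B v v') (h1 : 1 ≤ finrank F ↥(Wsub B v v')) :
    ∃ x ∈ Wsub B v v', B x x ≠ 0 := by
  have hWN : NondegOn B (Wsub B v v') := by
    rw [Wsub_eq_Wp]; exact nondegOn_Wp hB hN h
  obtain ⟨z, hz, hz0⟩ := Cfsg.Agent.Lib.Helper94_HermWitt.exists_ne_zero_of_finrank_pos h1
  exact exists_aniso hσ hB hWN hz hz0

end Geo

end Cfsg.Agent.Lib.Helper27_UQ_TOR2
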