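import Mathlib
import Cfsg.Agent.Lib.Helper27_UQDefs
import Cfsg.Agent.Lib.Helper27_UQ_KISO
import Cfsg.Agent.Lib.Helper27_UQ_GEN
import Cfsg.Agent.Lib.Helper27_UQ_CARD
import Cfsg.Agent.Lib.Helper64_UQ_PARAM
import Cfsg.Agent.Lib.Helper27_UQ_TOR2
import Cfsg.Agent.Lib.Helper94_UQInst
import Cfsg.Agent.Lib.Helper94_UQ_TORUS
import Cfsg.Agent.Lib.Helper95_UQ_FLD

set_option autoImplicit false
set_option linter.unusedSectionVars false
set_option linter.unusedVariables false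
set_option linter.unusedSimpArgs false

open Module Cfsg.Agent.Lib.Helper94_Symp Cfsg.Agent.Lib.Helper94_Herm
  Cfsg.Agent.Lib.Helper94_HermEich Cfsg.Agent.Lib.Helper94_HermPara
  Cfsg.Agent.Lib.Helper94_HermTrans
  Cfsg.Agent.Lib.Helper13_SUGen Cfsg.Agent.Lib.Helper13_PSUSimple
  Cfsg.Agent.Lib.Helper46_U3TI Cfsg.Agent.Lib.Helper14_PSULocal1
  Cfsg.Agent.Lib.Helper27_UQDefs
open scoped commutatorElement

/-!
# UQ-HYP (helper27): geometric hypotheses of `PK.abstract_main` for `Helper94_UQInst.udat`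
* perfectness: `utv_mem_commutator` (root elements are commutators of Eichler elements, all `q`), `SUg_perfect` (dim ≥ 4),
  `perfect_of_mulEquiv`, `Kv_perfect` (dim `W` ≥ 4), `subgroupOf_le_commutator`, **`hperf_udat`**.
* **`hirr_udat`** (dim `W` ≥ 3), **`htorus_udat`** (dim `W` ≥ 1, all `q ≥ 2`), `ρ_of_mem_K`.
* the `z`-block for `q ≥ 3`: `fixedUnits σ`, `card_fixedUnits`, `exists_fixed_prime_order`, `exists_z_raw`, **`zblock_udat`**.
-/

namespace Cfsg.Agent.Lib.Helper27_UQ_HYP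

variable {F V : Type*} [Field F] [AddCommGroup V] [Module F V] {σ : F →+* F}
variable {B : V →ₗ[F] V →ₛₗ[σ] F}

/-! ### perfectness -/

/-- every root element is a commutator of two Eichler elements (dimension ≥ 3) -/
theorem utv_mem_commutator [FiniteDimensional F V] (hσ : Invol σ) (hB : IsHerm B)
    (hN : NondegOn B ⊤) (h3 : 3 ≤ finrank F V) {u : V} (hu : B u u = 0) {t : F}
    (ht : σ t = -t) : utv B u t ∈ ⁅SUg B, SUg B⁆ := by
  by_cases hu0 : u = 0
  · have : utv B u t = 1 := by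
      ext x
      rw [utv_apply B hu, hu0]
      simp
    rw [this]; exact Subgroup.one_mem _
  obtain ⟨u', hp⟩ := Cfsg.Agent.Lib.Helper27_UQ_GEN.exists_hypPair hσ hB hN hu0 hu
  have hWN : NondegOn B (Wsub B u u') := by
    rw [Wsub_eq_Wp]; exact nondegOn_Wp hB hN hp
  have hfr := Cfsg.Agent.Lib.Helper27_UQ_CARD.finrank_Wsub hp
  obtain ⟨w, hwW, hw0⟩ := Cfsg.Agent.Lib.Helper94_HermWitt.exists_ne_zero_of_finrank_pos
    (U := Wsub B u u') (by omega)
  obtain ⟨w', hw'W, hww'⟩ := Cfsg.Agent.Lib.Helper64_UQ_PARAM.exists_comm hσ hB hWN hwW hw0 ht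
  obtain ⟨c, hc⟩ := tr_surj hσ (-(B w w)) (by rw [map_neg, herm_self hB])
  obtain ⟨c', hc'⟩ := tr_surj hσ (-(B w' w')) (by rw [map_neg, herm_self hB])
  have hg : eich B u w c ∈ SUg B := eich_mem_SUg hB hc
  have hg' : eich B u w' c' ∈ SUg B := eich_mem_SUg hB hc'
  have hcomm := eich_comm' hB hu hwW.1 hw'W.1 c c'
  rw [hww'] at hcomm
  have h1 : utv B u t = ⁅(eich B u w c)⁻¹, (eich B u w' c')⁻¹⁆ := by
    rw [commutatorElement_def, inv_inv, inv_inv]
    have : utv B u t = (eich B u w' c' * eich B u w c)⁻¹ * (eich B u w c * eich B u w' c') := by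
      rw [hcomm]; group
    rw [this]; group
  rw [h1]
  exact Subgroup.commutator_mem_commutator ((SUg B).inv_mem hg) ((SUg B).inv_mem hg')

theorem SUg_perfect [Finite F] [FiniteDimensional F V] (hσ : Invol σ) (hB : IsHerm B)
    (hN : NondegOn B ⊤) (h4 : 4 ≤ finrank F V) : ⁅SUg B, SUg B⁆ = SUg B := by
  apply le_antisymm
  · rw [Subgroup.commutator_le]
    intro g hg g' hg'
    rw [commutatorElement_def]
    exact (SUg B).mul_mem ((SUg B).mul_mem ((SUg B).mul_mem hg hg') ((SUg B).inv_mem hg))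
      ((SUg B).inv_mem hg')
  · conv_lhs => rw [Cfsg.Agent.Lib.Helper27_UQ_GEN.SUg_eq_closure hσ hB hN h4]
    rw [Subgroup.closure_le]
    rintro g ⟨u, hu, c, hc, rfl⟩
    exact utv_mem_commutator hσ hB hN (by omega) hu hc

/-- generic: a subgroup isomorphic to a perfect group is perfect -/
theorem perfect_of_mulEquiv {G G' : Type*} [Group G] [Group G'] {H : Subgroup G}
    {H' : Subgroup G'} (e : ↥H ≃* ↥H') (hH' : ⁅H', H'⁆ = H') : ⁅H, H⁆ = H := by
  have h1 : ⁅(⊤ : Subgroup ↥H'), (⊤ : Subgroup ↥H')⁆ = ⊤ := by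
    apply Subgroup.map_injective H'.subtype_injective
    rw [Subgroup.map_commutator, ← MonoidHom.range_eq_map, Subgroup.range_subtype, hH']
  have h2 : ⁅(⊤ : Subgroup ↥H), (⊤ : Subgroup ↥H)⁆ = ⊤ := by
    have h3 := Subgroup.map_commutator (⊤ : Subgroup ↥H') ⊤ e.symm.toMonoidHom
    have h4 : Subgroup.map e.symm.toMonoidHom ⊤ = ⊤ :=
      Subgroup.map_top_of_surjective e.symm.toMonoidHom e.symm.surjective
    rw [h4, h1, h4] at h3
    exact h3.symm
  have h5 := Subgroup.map_commutator (⊤ : Subgroup ↥H) ⊤ H.subtype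
  rw [h2, ← MonoidHom.range_eq_map, Subgroup.range_subtype] at h5
  exact h5.symm

theorem Kv_perfect [Finite F] [FiniteDimensional F V] (hσ : Invol σ) (hB : IsHerm B)
    (hN : NondegOn B ⊤) {v v' : V} (h : HypPair B v v')
    (h4 : 4 ≤ finrank F ↥(Wsub B v v')) : ⁅Kv B v v', Kv B v v'⁆ = Kv B v v' := by
  obtain ⟨e, -⟩ := Cfsg.Agent.Lib.Helper27_UQ_KISO.exists_KvEquiv hB h
  have hWN : NondegOn B (Wsub B v v') := by
    rw [Wsub_eq_Wp]; exact nondegOn_Wp hB hN h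
  exact perfect_of_mulEquiv e
    (SUg_perfect hσ (Cfsg.Agent.Lib.Helper27_UQ_KISO.isHerm_Bw hB _)
      (Cfsg.Agent.Lib.Helper27_UQ_KISO.nondeg_Bw hWN) h4)

/-- generic: perfectness passes to `subgroupOf` -/
theorem subgroupOf_le_commutator {G : Type*} [Group G] {H K : Subgroup G} (hHK : H ≤ K)
    (hH : ⁅H, H⁆ = H) : H.subgroupOf K ≤ ⁅H.subgroupOf K, H.subgroupOf K⁆ := by
  have h1 : (⁅H.subgroupOf K, H.subgroupOf K⁆).map K.subtype = (H.subgroupOf K).map K.subtype := by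
    rw [Subgroup.map_commutator, Subgroup.subgroupOf_map_subtype, inf_eq_left.mpr hHK, hH]
  exact le_of_eq (Subgroup.map_injective K.subtype_injective h1).symm

/-! ### transports to `Helper94_UQInst.udat` -/

section Udat

open Cfsg.Agent.Lib.Helper50_UQAbsDefs Cfsg.Agent.Lib.Helper94_UQInst

/-- **hperf** for `udat`. -/
theorem hperf_udat [Finite F] [FiniteDimensional F V] (hσ : Invol σ) (hB : IsHerm B)
    (hN : NondegOn B ⊤) {v v' : V} (h : HypPair B v v')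
    (h4 : 4 ≤ finrank F ↥(Wsub B v v')) :
    (udat hσ hB h).K ≤ ⁅(udat hσ hB h).K, (udat hσ hB h).K⁆ :=
  subgroupOf_le_commutator (Kv_le B v v') (Kv_perfect hσ hB hN h h4)

/-- `ρ k w = k w` for `k ∈ K`. -/
theorem ρ_of_mem_K (hσ : Invol σ) (hB : IsHerm B) {v v' : V} (h : HypPair B v v')
    {k : ↥(SUg B)} (hk : (k : V ≃ₗ[F] V) ∈ Kv B v v') (w : ↥(Wsub B v v')) :
    (((udat hσ hB h).ρ k w : ↥(Wsub B v v')) : V) = (k : V ≃ₗ[F] V) (w : V) := by
  have h1 : (k : V ≃ₗ[F] V) v = (1 : F) • v := by rw [hk.2.1, one_smul]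
  rw [ρ_of_mem hσ hB h (Kv_le_Lv B v v' hk) h1, map_one, one_smul]

/-- **hirr** for `udat`. -/
theorem hirr_udat [Finite F] [FiniteDimensional F V] (hσ : Invol σ) (hB : IsHerm B)
    (hN : NondegOn B ⊤) {v v' : V} (h : HypPair B v v')
    (h3 : 3 ≤ finrank F ↥(Wsub B v v')) :
    ∀ I : AddSubgroup ↥(Wsub B v v'),
      (∀ k ∈ (udat hσ hB h).K, ∀ w ∈ I, (udat hσ hB h).ρ k w ∈ I) → I = ⊥ ∨ I = ⊤ := by
  intro I hI
  by_cases hbot : I = ⊥
  · exact Or.inl hbot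
  right
  obtain ⟨⟨x0, hx0I⟩, hx00'⟩ := (AddSubgroup.ne_bot_iff_exists_ne_zero).mp hbot
  have hx00 : x0 ≠ 0 := fun h0 => hx00' (Subtype.ext h0)
  set A : AddSubgroup V := I.map (Wsub B v v').subtype.toAddMonoidHom with hA
  have hmemA : ∀ x : V, x ∈ A ↔ ∃ w ∈ I, (w : V) = x := by
    intro x
    rw [hA, AddSubgroup.mem_map]
    rfl
  have hall := Cfsg.Agent.Lib.Helper27_UQ_GEN.Kv_irred hσ hB hN h h3 A
    (by
      intro x hx
      obtain ⟨w, -, rfl⟩ := (hmemA x).mp hx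
      exact w.2)
    (by
      intro k hk x hx
      obtain ⟨w, hw, rfl⟩ := (hmemA x).mp hx
      rw [hmemA]
      refine ⟨(udat hσ hB h).ρ ⟨k, Kv_le B v v' hk⟩ w,
        hI _ ((mem_K hσ hB h).mpr hk) w hw, ?_⟩
      exact ρ_of_mem_K hσ hB h hk w)
    ⟨(x0 : V), (hmemA _).mpr ⟨x0, hx0I, rfl⟩, fun h0 => hx00 (Subtype.ext h0)⟩
  rw [eq_top_iff]
  intro w _
  obtain ⟨w', hw', hww'⟩ := (hmemA _).mp (hall (w : V) w.2)
  have : w' = w := Subtype.ext hww'
  rw [← this]; exact hw'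

/-- **htorus** for `udat`. -/
theorem htorus_udat [Finite F] [FiniteDimensional F V] (hσ : Invol σ) (hB : IsHerm B)
    (hN : NondegOn B ⊤) {q : ℕ} (hF : Nat.card F = q ^ 2) {v v' : V} (h : HypPair B v v')
    (h1 : 1 ≤ finrank F ↥(Wsub B v v')) :
    ∀ (S : Subgroup ↥(SUg B)) (Y : AddSubgroup ↥(skewA σ)), S ≤ (udat hσ hB h).L → Y ≠ ⊥ →
      Y ≠ ⊤ → (∀ s ∈ S, ∀ a ∈ Y, (udat hσ hB h).ν s a ∈ Y) →
      Nat.card ↥Y + 1 ≤ (S ⊔ (udat hσ hB h).K).relIndex (udat hσ hB h).L := by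
  intro S Y hSL hY0 hYtop hinv
  obtain ⟨x, hx, hxx⟩ := Cfsg.Agent.Lib.Helper27_UQ_TOR2.exists_aniso_Wsub hσ hB hN h h1
  set S' : Subgroup (V ≃ₗ[F] V) := S.map (SUg B).subtype with hS'
  set Y' : AddSubgroup F := Y.map (skewA σ).subtype with hY'
  have hmemY' : ∀ c : F, c ∈ Y' ↔ ∃ a ∈ Y, (a : F) = c := by
    intro c
    rw [hY', AddSubgroup.mem_map]
    rfl
  have hS'L : S' ≤ Lv B v v' := by
    rintro _ ⟨s, hs, rfl⟩
    exact (mem_L hσ hB h).mp (hSL hs)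
  have hcard : Nat.card ↥Y' = Nat.card ↥Y :=
    (Nat.card_congr (Y.equivMapOfInjective (skewA σ).subtype
      (skewA σ).subtype_injective).toEquiv).symm
  have key := Cfsg.Agent.Lib.Helper27_UQ_TOR2.torus_ineq hσ hB hN hF h hx hxx S' hS'L Y'
    (by
      intro c hc
      obtain ⟨a, -, rfl⟩ := (hmemY' c).mp hc
      exact a.2)
    (by
      intro hbot
      apply hY0
      rw [eq_bot_iff]
      intro a ha
      have : (a : F) ∈ Y' := (hmemY' _).mpr ⟨a, ha, rfl⟩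
      rw [hbot, AddSubgroup.mem_bot] at this
      rw [AddSubgroup.mem_bot]
      exact Subtype.ext this)
    (by
      by_contra hcon
      push Not at hcon
      apply hYtop
      rw [eq_top_iff]
      intro a _
      obtain ⟨a', ha', haa'⟩ := (hmemY' _).mp (hcon (a : F) a.2)
      have : a' = a := Subtype.ext haa'
      rw [← this]; exact ha')
    (by
      rintro _ ⟨s, hs, rfl⟩ c hc
      obtain ⟨a, ha, rfl⟩ := (hmemY' c).mp hc
      rw [hmemY']
      exact ⟨(udat hσ hB h).ν s a, hinv s hs a ha, rfl⟩)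
  rw [hcard] at key
  have hrel : (S ⊔ (udat hσ hB h).K).relIndex (udat hσ hB h).L =
      (S' ⊔ Kv B v v').relIndex (Lv B v v') := by
    rw [← Subgroup.relIndex_map_map_of_injective _ _ (SUg B).subtype_injective, Subgroup.map_sup]
    have hK : ((udat hσ hB h).K).map (SUg B).subtype = Kv B v v' := by
      show ((Kv B v v').subgroupOf (SUg B)).map (SUg B).subtype = Kv B v v'
      rw [Subgroup.subgroupOf_map_subtype, inf_eq_left.mpr (Kv_le B v v')]
    have hL : ((udat hσ hB h).L).map (SUg B).subtype = Lv B v v' := by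
      show ((Lv B v v').subgroupOf (SUg B)).map (SUg B).subtype = Lv B v v'
      rw [Subgroup.subgroupOf_map_subtype, inf_eq_left.mpr (Lv_le B v v')]
    rw [hK, hL]
  rw [hrel]
  exact key

end Udat

/-! ### the `z`-block (`q ≥ 3`) -/

section ZBlock

/-- the units fixed by `σ` -/
def fixedUnits (σ : F →+* F) : Subgroup Fˣ where
  carrier := {u | σ (u : F) = (u : F)}
  mul_mem' := by
    intro a b ha hb
    show σ ((a * b : Fˣ) : F) = ((a * b : Fˣ) : F)
    rw [Units.val_mul, map_mul, ha, hb]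
  one_mem' := by
    show σ ((1 : Fˣ) : F) = ((1 : Fˣ) : F)
    simp
  inv_mem' := by
    intro a ha
    show σ ((a⁻¹ : Fˣ) : F) = ((a⁻¹ : Fˣ) : F)
    rw [Units.val_inv_eq_inv_val, map_inv₀, ha]

theorem mem_fixedUnits {u : Fˣ} : u ∈ fixedUnits σ ↔ σ (u : F) = (u : F) := Iff.rfl

theorem card_fixedUnits [Finite F] (hσ : Invol σ) {q : ℕ} (hF : Nat.card F = q ^ 2) :
    Nat.card ↥(fixedUnits σ) + 1 = q := by
  classical
  have hc0 := Cfsg.Agent.Lib.Helper95_UQ_FLD.card_fixed hσ hF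
  let z0 : {a : F // σ a = a} := ⟨0, map_zero σ⟩
  have h2 : Nat.card {t : {a : F // σ a = a} // t ≠ z0} + 1 = q := by
    rw [← Finite.card_option, Nat.card_congr (Equiv.optionSubtypeNe z0), hc0]
  let e : ↥(fixedUnits σ) ≃ {t : {a : F // σ a = a} // t ≠ z0} :=
    { toFun := fun u => ⟨⟨((u : Fˣ) : F), u.2⟩, fun h0 =>
        (u : Fˣ).ne_zero (congrArg Subtype.val h0)⟩
      invFun := fun t => ⟨Units.mk0 t.1.1 (fun h0 => t.2 (Subtype.ext h0)), t.1.2⟩
      left_inv := fun u => by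
        apply Subtype.ext
        apply Units.ext
        rfl
      right_inv := fun t => by
        apply Subtype.ext
        apply Subtype.ext
        rfl }
  rw [Nat.card_congr e, h2]

/-- a fixed element of prime order `r ∣ q - 1` (`q ≥ 3`) -/
theorem exists_fixed_prime_order [Finite F] (hσ : Invol σ) {q : ℕ} (hF : Nat.card F = q ^ 2)
    (hq : 3 ≤ q) : ∃ (r : ℕ) (lam : F), r.Prime ∧ ¬ r ∣ q ∧ σ lam = lam ∧ lam ≠ 1 ∧ lam ≠ 0 ∧
      lam ^ r = 1 := by
  have hcard := card_fixedUnits hσ hF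
  obtain ⟨r, hr, hrd⟩ := Nat.exists_prime_and_dvd (show q - 1 ≠ 1 by omega)
  have hrq : ¬ r ∣ q := by
    intro hdvd
    have h1 : r ∣ q - (q - 1) := Nat.dvd_sub hdvd hrd
    have h2 : q - (q - 1) = 1 := by omega
    rw [h2] at h1
    exact hr.one_lt.ne' (Nat.dvd_one.mp h1)
  have : Fact r.Prime := ⟨hr⟩
  have hdvd : r ∣ Nat.card ↥(fixedUnits σ) := by
    have : Nat.card ↥(fixedUnits σ) = q - 1 := by omega
    rw [this]; exact hrd
  obtain ⟨u, hu⟩ := exists_prime_orderOf_dvd_card' r hdvd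
  refine ⟨r, ((u : Fˣ) : F), hr, hrq, u.2, ?_, (u : Fˣ).ne_zero, ?_⟩
  · intro h1
    have hu1 : u = 1 := by
      apply Subtype.ext
      apply Units.ext
      exact h1
    rw [hu1, orderOf_one] at hu
    exact hr.one_lt.ne hu
  · have h1 : u ^ r = 1 := by rw [← hu]; exact pow_orderOf_eq_one u
    have h2 := congrArg (fun w : ↥(fixedUnits σ) => ((w : Fˣ) : F)) h1
    simpa using h2

theorem pow_apply_of_smul {z : V ≃ₗ[F] V} {x : V} {a : F} (hz : z x = a • x) (n : ℕ) :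
    (z ^ n) x = a ^ n • x := by
  induction n with
  | zero => simp
  | succ n ih =>
    rw [pow_succ, LinearEquiv.mul_apply, hz, map_smul, ih, smul_smul, pow_succ, mul_comm]

theorem pow_apply_of_fix {z : V ≃ₗ[F] V} {x : V} (hz : z x = x) (n : ℕ) : (z ^ n) x = x := by
  induction n with
  | zero => simp
  | succ n ih => rw [pow_succ, LinearEquiv.mul_apply, hz, ih]

/-- the raw `z`: a split-torus element of prime order `r ∤ q`, central in `Lv`-terms w.r.t. `Kv`. -/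
theorem exists_z_raw [Finite F] (hσ : Invol σ) (hB : IsHerm B) {q : ℕ}
    (hF : Nat.card F = q ^ 2) (hq : 3 ≤ q) {v v' : V} (h : HypPair B v v') :
    ∃ (z : V ≃ₗ[F] V) (r : ℕ) (lam : F), z ∈ Tv B v v' ∧ r.Prime ∧ ¬ r ∣ q ∧ σ lam = lam ∧
      lam ≠ 1 ∧ z v = lam • v ∧ z ^ r = 1 ∧ z ≠ 1 ∧ ∀ k ∈ Kv B v v', z * k = k * z := by
  obtain ⟨r, lam, hr, hrq, hfix, hne1, hne0, hpow⟩ := exists_fixed_prime_order hσ hF hq
  obtain ⟨z, hzT, hzv, hzv'⟩ := Cfsg.Agent.Lib.Helper94_UQ_TORUS.exists_Tv hσ hB h hfix hne0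
  have hzW : ∀ w ∈ Wsub B v v', z w = w := hzT.2
  refine ⟨z, r, lam, hzT, hr, hrq, hfix, hne1, hzv, ?_, ?_, ?_⟩
  · apply ext_pair h
    · rw [pow_apply_of_smul hzv, hpow, one_smul]; rfl
    · rw [pow_apply_of_smul hzv', inv_pow, hpow, inv_one, one_smul]; rfl
    · intro m hm1 hm2
      rw [pow_apply_of_fix (hzW m ⟨hm1, hm2⟩)]; rfl
  · intro h1
    have h2 : z v = v := by rw [h1]; rfl
    rw [hzv] at h2
    have h3 : (lam - 1) • v = 0 := by rw [sub_smul, h2, one_smul, sub_self]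
    rcases smul_eq_zero.mp h3 with h4 | h4
    · exact hne1 (sub_eq_zero.mp h4)
    · exact Cfsg.Agent.Lib.Helper27_UQ_CARD.hyp_ne_zero h h4
  · intro k hk
    apply ext_pair h
    · rw [LinearEquiv.mul_apply, LinearEquiv.mul_apply, hk.2.1, hzv, map_smul, hk.2.1]
    · rw [LinearEquiv.mul_apply, LinearEquiv.mul_apply, hk.2.2, hzv', map_smul, hk.2.2]
    · intro m hm1 hm2
      rw [LinearEquiv.mul_apply, LinearEquiv.mul_apply, hzW m ⟨hm1, hm2⟩,
        hzW _ (Cfsg.Agent.Lib.Helper27_UQ_KISO.Kv_map_mem hk ⟨hm1, hm2⟩)]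

open Cfsg.Agent.Lib.Helper50_UQAbsDefs Cfsg.Agent.Lib.Helper94_UQInst in
/-- **the `z`-block** of `abstract_main` for `udat` (`q ≥ 3`). -/
theorem zblock_udat [Finite F] (hσ : Invol σ) (hB : IsHerm B) {q : ℕ}
    (hF : Nat.card F = q ^ 2) (hq : 3 ≤ q) {v v' : V} (h : HypPair B v v') :
    ∃ (z : ↥(SUg B)) (r : ℕ), z ∈ (udat hσ hB h).L ∧ r.Prime ∧ z ^ r = 1 ∧ z ≠ 1 ∧ ¬ r ∣ q ∧
      (∀ k ∈ (udat hσ hB h).K, z * k = k * z) ∧
      (∀ w : ↥(Wsub B v v'), (udat hσ hB h).ρ z w = w → w = 0) := by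
  obtain ⟨z, r, lam, hzT, hr, hrq, hfix, hne1, hzv, hzr, hz1, hzK⟩ := exists_z_raw hσ hB hF hq h
  have hzL : z ∈ Lv B v v' := Tv_le_Lv B v v' hzT
  refine ⟨⟨z, Lv_le B v v' hzL⟩, r, (mem_L hσ hB h).mpr hzL, hr, ?_, ?_, hrq, ?_, ?_⟩
  · apply Subtype.ext
    rw [Subgroup.coe_pow]
    exact hzr
  · intro h1
    exact hz1 (congrArg Subtype.val h1)
  · intro k hk
    apply Subtype.ext
    rw [Subgroup.coe_mul, Subgroup.coe_mul]
    exact hzK _ ((mem_K hσ hB h).mp hk)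
  · intro w hw
    have h1 := ρ_of_mem hσ hB h (l := ⟨z, Lv_le B v v' hzL⟩) hzL hzv w
    rw [hw, hfix] at h1
    have h2 : z (w : V) = (w : V) := hzT.2 _ w.2
    rw [h2] at h1
    have h3 : (lam - 1) • (w : V) = 0 := by rw [sub_smul, ← h1, one_smul, sub_self]
    rcases smul_eq_zero.mp h3 with h4 | h4
    · exact absurd (sub_eq_zero.mp h4) hne1
    · exact Subtype.ext h4

end ZBlock

end Cfsg.Agent.Lib.Helper27_UQ_HYP
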