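import Mathlib

set_option autoImplicit false

/-!
Numerical functions for the unitary min-index rows (S2152, helper50): `Npt q n` is the number of isotropic points of a
nondegenerate hermitian space of EVEN dimension `n` over `F_{q^2}` (exactly the expression of the frozen statement S2152).
-/

namespace Cfsg.Agent.Lib.Helper50_UQNumDefs

/-- `(q^n - 1)(q^(n-1) + 1)/(q^2 - 1)`: the number of isotropic points in even dimension `n`. -/
def Npt (q n : ℕ) : ℕ := (q ^ n - 1) * (q ^ (n - 1) + 1) / (q ^ 2 - 1)

theorem Npt_def (q n : ℕ) : Npt q n = (q ^ n - 1) * (q ^ (n - 1) + 1) / (q ^ 2 - 1) := rfl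

end Cfsg.Agent.Lib.Helper50_UQNumDefs
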