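import Mathlib
import Cfsg.Agent.Lib.Helper50_UQAbsDefs
import Cfsg.Agent.Lib.Helper94_UQInst
import Cfsg.Agent.Lib.Helper27_UQ_TOR2
import Cfsg.Agent.Lib.Helper27_UQ_CARD
import Cfsg.Agent.Lib.Helper27_UQ_GEN
import Cfsg.Agent.Lib.Helper27_UQ_HYP
import Cfsg.Agent.Lib.Helper50_UQNumDefs

/-!
# UQ-TOR2EVEN (architect helper50, proof helper11)

`dim V = 4`, characteristic 2: if `K ≤ S ≤ L` and `S` normalises (through `ρ`) an all-isotropic non-collinear additive
subgroup `I` of the hyperbolic plane `W` with `|I| ≤ q^2`, and (through `ν`) a proper subgroup `Y` of the skew elements,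
then `(q+1) |Y| ≤ [L : S]`.

Proof: the transvections of `K` give `I = F0 u + F0 b` (`F0` the fixed field); for `s ∈ S` with multiplier `λ` the map
`ρ s = σ λ • s` has an `F0`-matrix on `(u, b)`, unitarity gives its determinant `λ σ λ`, and `det s = 1` gives
`(λ / σ λ)^2 = 1`, so `σ λ = λ`.  Hence `λ(S) ≤ F0ˣ` acts on `Y` through squares, i.e. through all of `λ(S)`, and the
multiplier field argument of `Helper27_UQ_TOR2.torus_field_ineq` gives `|Y| |λ(S)| ≤ q - 1`.
-/

set_option autoImplicit false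
set_option linter.unusedSectionVars false
set_option linter.unusedVariables false

open Module Cfsg.Agent.Lib.Helper94_Symp Cfsg.Agent.Lib.Helper94_Herm
  Cfsg.Agent.Lib.Helper13_SUGen Cfsg.Agent.Lib.Helper13_PSUSimple Cfsg.Agent.Lib.Helper14_PSULocal1
  Cfsg.Agent.Lib.Helper27_UQDefs Cfsg.Agent.Lib.Helper94_UQInst
open Cfsg.Agent.Lib.Helper50_UQAbsDefs

namespace Cfsg.Agent.Lib.Helper11_UQ_TOR2EVEN

section field

open Cfsg.Agent.Lib.Helper27_UQ_TOR2

variable {F : Type*} [Field F] {σ : F →+* F}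

theorem sq_inj_of_two (h2 : (2 : F) = 0) {a b : F} (h : a * a = b * b) : a = b := by
  have h1 : (a - b) ^ 2 = 0 := by
    linear_combination h + (b * b - a * b) * h2
  have := pow_eq_zero_iff (n := 2) (by norm_num) |>.mp h1
  exact sub_eq_zero.mp this

/-- **Torus inequality, characteristic 2, fixed multipliers.** -/
theorem torus_field_even [Finite F] (hσ : Invol σ) {q : ℕ} (hF : Nat.card F = q ^ 2)
    (h2 : (2 : F) = 0) (Y : AddSubgroup F) (hY : ∀ c ∈ Y, σ c = -c)
    (hYne : ∃ c : F, σ c = -c ∧ c ∉ Y) (Λ : Subgroup Fˣ)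
    (hfix : ∀ u ∈ Λ, σ (u : F) = (u : F))
    (hΛ : ∀ u ∈ Λ, ∀ c ∈ Y, (u : F) * σ (u : F) * c ∈ Y) :
    (q + 1) * Nat.card ↥Y ≤ Λ.index := by
  classical
  -- squaring is onto `Λ`
  have hsq : ∀ u ∈ Λ, ∃ w ∈ Λ, w * w = u := by
    let f : ↥Λ → ↥Λ := fun w => w * w
    have hinj : Function.Injective f := by
      intro a b hab
      apply Subtype.ext
      apply Units.ext
      have h1 : ((a : Fˣ) : F) * ((a : Fˣ) : F) = ((b : Fˣ) : F) * ((b : Fˣ) : F) := by
        have := congrArg (fun w : ↥Λ => (((w : Fˣ)) : F)) hab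
        simpa [f] using this
      exact sq_inj_of_two h2 h1
    intro u hu
    obtain ⟨w, hw⟩ := (Finite.injective_iff_surjective.mp hinj) ⟨u, hu⟩
    exact ⟨w, w.2, congrArg Subtype.val hw⟩
  have hmul : ∀ u ∈ Λ, ∀ c ∈ Y, (u : F) * c ∈ Y := by
    intro u hu c hc
    obtain ⟨w, hw, rfl⟩ := hsq u hu
    have := hΛ w hw c hc
    rw [hfix w hw] at this
    rw [Units.val_mul]
    exact this
  set R := multField σ Y with hR
  set r := Nat.card ↥R with hr
  have hr2 : 2 ≤ r := Finite.one_lt_card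
  have hcY : Nat.card ↥Y = r ^ finrank ↥R ↥(YsubM σ Y) := by
    have := Module.natCard_eq_pow_finrank (K := ↥R) (V := ↥(YsubM σ Y))
    rw [← this]
    rfl
  have hcS : q = r ^ finrank ↥R ↥(SsubM σ Y) := by
    have := Module.natCard_eq_pow_finrank (K := ↥R) (V := ↥(SsubM σ Y))
    rw [← this, ← Cfsg.Agent.Lib.Helper95_UQ_FLD.card_skew hσ hF]
    rfl
  have hlt : YsubM σ Y < SsubM σ Y := by
    refine lt_of_le_of_ne (fun c hc => hY c hc) ?_
    intro heq
    obtain ⟨c, hc1, hc2⟩ := hYne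
    apply hc2
    have : c ∈ SsubM σ Y := hc1
    rw [← heq] at this
    exact this
  have hjk : finrank ↥R ↥(YsubM σ Y) < finrank ↥R ↥(SsubM σ Y) :=
    Submodule.finrank_lt_finrank_of_lt hlt
  -- `Λ` embeds into `R - 0`
  have hm : Nat.card ↥Λ + 1 ≤ r := by
    let f : ↥Λ → {t : ↥R // t ≠ 0} := fun w =>
      ⟨⟨((w : Fˣ) : F), ⟨hfix w w.2, fun c hc => hmul w w.2 c hc⟩⟩, by
        intro h0
        have := congrArg Subtype.val h0
        exact (w : Fˣ).ne_zero this⟩
    have hf : Function.Injective f := by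
      intro w w' hww
      apply Subtype.ext
      apply Units.ext
      exact congrArg (fun t : {t : ↥R // t ≠ 0} => ((t : ↥R) : F)) hww
    have h1 := Nat.card_le_card_of_injective f hf
    have h3 : Nat.card {t : ↥R // t ≠ 0} + 1 = r := by
      rw [← Finite.card_option, Nat.card_congr (Equiv.optionSubtypeNe (0 : ↥R))]
    omega
  -- arithmetic
  set j := finrank ↥R ↥(YsubM σ Y) with hj
  set k := finrank ↥R ↥(SsubM σ Y) with hk
  have hcard : Nat.card Fˣ = q ^ 2 - 1 := by rw [Nat.card_units, hF]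
  have hidx := Subgroup.index_mul_card Λ
  have hq1 : 1 ≤ q := by
    rw [hcS]
    exact Nat.one_le_pow _ _ (by omega)
  have hYΛ : Nat.card ↥Y * Nat.card ↥Λ + 1 ≤ q := by
    obtain ⟨d, hd⟩ : ∃ d, k = j + 1 + d := ⟨k - j - 1, by omega⟩
    have h1 : r ^ j * (Nat.card ↥Λ + 1) ≤ r ^ j * r := Nat.mul_le_mul_left _ hm
    have h2' : r ^ j * r ≤ q := by
      rw [hcS, hd, pow_add, pow_succ]
      exact Nat.le_mul_of_pos_right _ (pow_pos (by omega) _)
    have h3 : 1 ≤ r ^ j := Nat.one_le_pow _ _ (by omega)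
    rw [hcY]
    nlinarith
  have hpos : 0 < Nat.card ↥Λ := Nat.card_pos
  have key : (q + 1) * Nat.card ↥Y * Nat.card ↥Λ ≤ Λ.index * Nat.card ↥Λ := by
    rw [hidx, hcard]
    have h5 : (q + 1) * (q - 1) = q ^ 2 - 1 := by
      obtain ⟨t, rfl⟩ : ∃ t, q = t + 1 := ⟨q - 1, by omega⟩
      have : (t + 1) ^ 2 = (t + 1 + 1) * t + 1 := by ring
      rw [this]
      simp
    rw [← h5, mul_assoc]
    apply Nat.mul_le_mul_left
    omega
  exact Nat.le_of_mul_le_mul_right key hpos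

end field

section geo

variable {F V : Type*} [Field F] [AddCommGroup V] [Module F V] {σ : F →+* F}
  {B : V →ₗ[F] V →ₛₗ[σ] F}

/-- coordinates in the plane `W` with respect to two non-collinear vectors -/
theorem exists_coord [FiniteDimensional F V] {v v' : V} (h : HypPair B v v')
    (h4 : finrank F V = 4) (u b : ↥(Wsub B v v')) (hu0 : u ≠ 0)
    (hnc : ¬ ∃ c : F, (b : V) = c • (u : V)) :
    ∀ w : ↥(Wsub B v v'), ∃ x y : F, w = x • u + y • b := by
  have hfr := Cfsg.Agent.Lib.Helper27_UQ_CARD.finrank_Wsub h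
  have hli : LinearIndependent F ![u, b] := by
    rw [LinearIndependent.pair_iff' hu0]
    intro a ha
    apply hnc
    exact ⟨a, by rw [← ha]; rfl⟩
  have hspan := hli.span_eq_top_of_card_eq_finrank' (by rw [Fintype.card_fin]; omega)
  intro w
  have hw : w ∈ Submodule.span F (Set.range ![u, b]) := by rw [hspan]; trivial
  rw [Matrix.range_cons_cons_empty, Submodule.mem_span_pair] at hw
  obtain ⟨x, y, hxy⟩ := hw
  exact ⟨x, y, hxy.symm⟩

/-- the determinant of a linear map given on the basis `v, v', u, b` (`u, b` a basis of `W`) -/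
theorem det_of_plane [FiniteDimensional F V] (hB : IsHerm B) {v v' : V} (h : HypPair B v v')
    (h4 : finrank F V = 4) (u b : ↥(Wsub B v v')) (hu0 : u ≠ 0)
    (hnc : ¬ ∃ c : F, (b : V) = c • (u : V)) (l : V →ₗ[F] V) (lam mu a c d e : F)
    (hv : l v = lam • v) (hv' : l v' = mu • v')
    (hu : l (u : V) = a • (u : V) + c • (b : V)) (hb : l (b : V) = d • (u : V) + e • (b : V)) :
    LinearMap.det l = lam * mu * (a * e - d * c) := by
  classical
  set fam : Fin 2 ⊕ Fin 2 → V := Sum.elim ![v, v'] ![(u : V), (b : V)] with hfam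
  have hu1 : B (u : V) v = 0 := u.2.1
  have hu2 : B (u : V) v' = 0 := u.2.2
  have hb1 : B (b : V) v = 0 := b.2.1
  have hb2 : B (b : V) v' = 0 := b.2.2
  have hli : LinearIndependent F fam := by
    rw [Fintype.linearIndependent_iff]
    intro g hg
    rw [Fintype.sum_sum_type, Fin.sum_univ_two, Fin.sum_univ_two] at hg
    simp only [hfam, Sum.elim_inl, Sum.elim_inr, Matrix.cons_val_zero, Matrix.cons_val_one] at hg
    have e1 : g (Sum.inl 0) = 0 := by
      have := congrArg (fun x => B x v') hg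
      simpa [h.ee, h.ff, h.ef, h.fe, hu1, hu2, hb1, hb2] using this
    have e2 : g (Sum.inl 1) = 0 := by
      have := congrArg (fun x => B x v) hg
      simpa [h.ee, h.ff, h.ef, h.fe, hu1, hu2, hb1, hb2] using this
    rw [e1, e2, zero_smul, zero_smul, zero_add, zero_add] at hg
    have e4 : g (Sum.inr 1) = 0 := by
      by_contra hne
      apply hnc
      refine ⟨-(g (Sum.inr 1))⁻¹ * g (Sum.inr 0), ?_⟩
      have h5 : g (Sum.inr 1) • (b : V) = -(g (Sum.inr 0) • (u : V)) := by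
        rw [eq_neg_iff_add_eq_zero, add_comm]
        exact hg
      calc (b : V) = (g (Sum.inr 1))⁻¹ • (g (Sum.inr 1) • (b : V)) := by
            rw [smul_smul, inv_mul_cancel₀ hne, one_smul]
        _ = (-(g (Sum.inr 1))⁻¹ * g (Sum.inr 0)) • (u : V) := by
            rw [h5, smul_neg, smul_smul, neg_mul, neg_smul]
    rw [e4, zero_smul, add_zero] at hg
    have e3 : g (Sum.inr 0) = 0 := by
      rcases smul_eq_zero.mp hg with h0 | h0
      · exact h0
      · exact absurd (Subtype.ext h0) hu0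
    intro i
    rcases i with i | i
    · fin_cases i
      · exact e1
      · exact e2
    · fin_cases i
      · exact e3
      · exact e4
  have hspan := hli.span_eq_top_of_card_eq_finrank' (by
    rw [Fintype.card_sum, Fintype.card_fin, h4])
  set A : Matrix (Fin 2 ⊕ Fin 2) (Fin 2 ⊕ Fin 2) F :=
    Matrix.fromBlocks (Matrix.diagonal ![lam, mu]) 0 0 (Matrix.of ![![a, d], ![c, e]]) with hA
  have hdet := det_eq_of_span hli l A (by
    intro j
    rw [Fintype.sum_sum_type, Fin.sum_univ_two, Fin.sum_univ_two]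
    rcases j with j | j
    · fin_cases j
      · simp [hA, hfam, hv]
      · simp [hA, hfam, hv']
    · fin_cases j
      · simp [hA, hfam, hu]
      · simp [hA, hfam, hb]) (by
    intro y
    rw [hspan]
    trivial)
  rw [hdet, hA, Matrix.det_fromBlocks_zero₂₁, Matrix.det_diagonal, Fin.prod_univ_two,
    Matrix.det_fin_two_of]
  simp

/-- the multiplier of an element of `L` stabilising `F0 u + F0 b` (through `ρ`) is `σ`-fixed, characteristic 2 -/
theorem lam_fixed [FiniteDimensional F V] (hσ : Invol σ) (hB : IsHerm B) {v v' : V}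
    (h : HypPair B v v') (h4 : finrank F V = 4) (h2 : (2 : F) = 0) (u b : ↥(Wsub B v v'))
    (hu0 : u ≠ 0) (hnc : ¬ ∃ c : F, (b : V) = c • (u : V))
    (huu : B (u : V) (u : V) = 0) (hbb : B (b : V) (b : V) = 0) (hβ0 : B (u : V) (b : V) ≠ 0)
    (hβ : σ (B (u : V) (b : V)) = B (u : V) (b : V))
    (l : V ≃ₗ[F] V) (hl : l ∈ SUg B)
    (lam : F) (hlam : lam ≠ 0) (hv : l v = lam • v) (hv' : l v' = (σ lam)⁻¹ • v')
    (a c d e : F) (ha : σ a = a) (hc : σ c = c) (hd : σ d = d) (he : σ e = e)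
    (hu : σ lam • l (u : V) = a • (u : V) + c • (b : V))
    (hb : σ lam • l (b : V) = d • (u : V) + e • (b : V)) :
    σ lam = lam := by
  obtain ⟨hlu, hldet⟩ := mem_SUg.mp hl
  set m := σ lam with hm
  have hm0 : m ≠ 0 := by
    intro h0
    apply hlam
    have := congrArg σ h0
    rwa [hm, hσ.invol, map_zero] at this
  have hσm : σ m = lam := hσ.invol lam
  set β := B (u : V) (b : V) with hβdef
  have hbu : B (b : V) (u : V) = β := by rw [hB (u : V) (b : V), hβ]
  -- unitarity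
  have huni : m * lam = a * e + c * d := by
    have h1 : B (m • l (u : V)) (m • l (b : V)) = m * lam * β := by
      have h0 : B (l (u : V)) (l (b : V)) = β := hlu (u : V) (b : V)
      simp only [map_smul, map_smulₛₗ, LinearMap.smul_apply, smul_eq_mul, h0, hσm]
      ring
    rw [hu, hb] at h1
    simp only [map_add, map_smul, map_smulₛₗ, LinearMap.add_apply, LinearMap.smul_apply,
      smul_eq_mul, huu, hbb, hbu, ← hβdef, hd, he] at h1
    have h3 : (a * e + c * d - m * lam) * β = 0 := by linear_combination h1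
    rcases mul_eq_zero.mp h3 with h5 | h5
    · exact (sub_eq_zero.mp h5).symm
    · exact absurd h5 hβ0
  -- determinant
  have hdet1 : LinearMap.det (l : V →ₗ[F] V) = 1 := by
    rw [← LinearEquiv.coe_det, hldet]
    rfl
  have hdet2 : LinearMap.det (m • (l : V →ₗ[F] V)) = m ^ 4 := by
    rw [LinearMap.det_smul, h4, hdet1, mul_one]
  have hdet3 := det_of_plane hB h h4 u b hu0 hnc (m • (l : V →ₗ[F] V)) (m * lam) 1 a c d e
    (by rw [LinearMap.smul_apply, LinearEquiv.coe_coe, hv, smul_smul])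
    (by rw [LinearMap.smul_apply, LinearEquiv.coe_coe, hv', smul_smul, mul_inv_cancel₀ hm0])
    (by rw [LinearMap.smul_apply, LinearEquiv.coe_coe, hu])
    (by rw [LinearMap.smul_apply, LinearEquiv.coe_coe, hb])
  rw [hdet2] at hdet3
  have h6 : (m * m - lam * lam) * (m * m) = 0 := by
    linear_combination hdet3 - (m * lam) * huni - (m * lam * d * c) * h2
  rcases mul_eq_zero.mp h6 with h7 | h7
  · exact sq_inj_of_two h2 (sub_eq_zero.mp h7)
  · exact absurd h7 (mul_ne_zero hm0 hm0)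

end geo

section main

variable {F V : Type*} [Field F] [AddCommGroup V] [Module F V] {σ : F →+* F}
  {B : V →ₗ[F] V →ₛₗ[σ] F}

/-- the structure of `I`: coordinates in the fixed field -/
theorem I_coords [Finite F] [FiniteDimensional F V] (hσ : Invol σ) (hB : IsHerm B)
    (hN : NondegOn B ⊤) {q : ℕ} (hF : Nat.card F = q ^ 2) {v v' : V} (h : HypPair B v v')
    (h4 : finrank F V = 4) (h2 : (2 : F) = 0) (S : Subgroup ↥(SUg B))
    (I : AddSubgroup ↥(Wsub B v v')) (hKS : (udat hσ hB h).K ≤ S) (hIc : Nat.card I ≤ q ^ 2)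
    (hIiso : ∀ w ∈ I, B (w : V) (w : V) = 0) (u b : ↥(Wsub B v v')) (hu : u ∈ I) (hb : b ∈ I)
    (hu0 : u ≠ 0) (hnc : ¬ ∃ c : F, (b : V) = c • (u : V))
    (hρ : ∀ s ∈ S, ∀ w ∈ I, (udat hσ hB h).ρ s w ∈ I) :
    B (u : V) (b : V) ≠ 0 ∧ σ (B (u : V) (b : V)) = B (u : V) (b : V) ∧
      ∀ w ∈ I, ∃ x y : F, σ x = x ∧ σ y = y ∧ w = x • u + y • b := by
  classical
  have huu := hIiso u hu
  have hbb := hIiso b hb
  set β := B (u : V) (b : V) with hβdef
  have hneg : ∀ a : F, -a = a := by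
    intro a
    linear_combination (-a) * h2
  have hβ : σ β = β := by
    have h1 := hIiso (u + b) (I.add_mem hu hb)
    rw [Submodule.coe_add, self_add hB, huu, hbb, zero_add, zero_add] at h1
    have h3 : σ β = -β := by linear_combination h1
    rw [h3, hneg]
  have hbu : B (b : V) (u : V) = β := by rw [hB (u : V) (b : V), hβ]
  have hβ0 : β ≠ 0 := by
    intro h0
    have hWN : NondegOn B (Wsub B v v') := by
      rw [Wsub_eq_Wp]; exact nondegOn_Wp hB hN h
    obtain ⟨y, hy, hy0⟩ := hWN (u : V) u.2 (fun h0 => hu0 (Subtype.ext h0))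
    obtain ⟨x1, y1, hxy⟩ := exists_coord h h4 u b hu0 hnc ⟨y, hy⟩
    apply hy0
    have h5 : y = x1 • (u : V) + y1 • (b : V) := congrArg Subtype.val hxy
    rw [h5, map_add, map_smulₛₗ, map_smulₛₗ, huu, ← hβdef, h0, smul_zero, smul_zero, add_zero]
  -- the transvections of `K`
  have htv : ∀ (a : ↥(Wsub B v v')) (c : F), B (a : V) (a : V) = 0 → σ c = -c → ∀ w ∈ I,
      w + (c * B (w : V) (a : V)) • a ∈ I := by
    intro a c haa hc w hw
    have hav : B v (a : V) = 0 := herm_eq_zero hB a.2.1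
    have hav' : B v' (a : V) = 0 := herm_eq_zero hB a.2.2
    set k : ↥(SUg B) := ⟨utv B (a : V) c, utv_mem_SUg hB (a : V) hc⟩ with hk
    have hkK : (k : V ≃ₗ[F] V) ∈ Kv B v v' :=
      ⟨k.2, utv_fix B (a : V) c hav, utv_fix B (a : V) c hav'⟩
    have hkS : k ∈ S := hKS ((mem_K hσ hB h).mpr hkK)
    have h1 := hρ k hkS w hw
    have h3 : (udat hσ hB h).ρ k w = w + (c * B (w : V) (a : V)) • a := by
      apply Subtype.ext
      rw [Cfsg.Agent.Lib.Helper27_UQ_HYP.ρ_of_mem_K hσ hB h hkK w]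
      show utv B (a : V) c (w : V) = _
      rw [utv_apply B haa]
      rfl
    rw [h3] at h1
    exact h1
  have htu : ∀ t : F, σ t = t → t • u ∈ I := by
    intro t ht
    have hc : σ (t * β⁻¹) = -(t * β⁻¹) := by rw [map_mul, map_inv₀, ht, hβ, hneg]
    have h1 := htv u (t * β⁻¹) huu hc b hb
    rw [hbu, mul_assoc, inv_mul_cancel₀ hβ0, mul_one] at h1
    have h3 := I.sub_mem h1 hb
    rwa [add_sub_cancel_left] at h3
  have htb : ∀ t : F, σ t = t → t • b ∈ I := by
    intro t ht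
    have hc : σ (t * β⁻¹) = -(t * β⁻¹) := by rw [map_mul, map_inv₀, ht, hβ, hneg]
    have h1 := htv b (t * β⁻¹) hbb hc u hu
    rw [← hβdef, mul_assoc, inv_mul_cancel₀ hβ0, mul_one] at h1
    have h3 := I.sub_mem h1 hu
    rwa [add_sub_cancel_left] at h3
  -- the injection `F0 × F0 → I`
  let φ : {a : F // σ a = a} × {a : F // σ a = a} → ↥I := fun p =>
    ⟨(p.1 : F) • u + (p.2 : F) • b, I.add_mem (htu _ p.1.2) (htb _ p.2.2)⟩
  have hφ : Function.Injective φ := by
    rintro ⟨⟨x, hx⟩, ⟨y, hy⟩⟩ ⟨⟨x', hx'⟩, ⟨y', hy'⟩⟩ hxy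
    have h1 : x • u + y • b = x' • u + y' • b :=
      congrArg (fun z : ↥I => (z : ↥(Wsub B v v'))) hxy
    have h3 : (y - y') • b = (x' - x) • u := by
      rw [sub_smul, sub_smul, sub_eq_sub_iff_add_eq_add, add_comm (y • b)]
      exact h1
    have hyy : y = y' := by
      by_contra hne
      have hne' : y - y' ≠ 0 := sub_ne_zero.mpr hne
      apply hnc
      refine ⟨(y - y')⁻¹ * (x' - x), ?_⟩
      have h5 : b = ((y - y')⁻¹ * (x' - x)) • u := by
        rw [mul_smul, ← h3, smul_smul, inv_mul_cancel₀ hne', one_smul]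
      exact congrArg Subtype.val h5
    have hxx : x = x' := by
      rw [hyy, sub_self, zero_smul] at h3
      rcases smul_eq_zero.mp h3.symm with h5 | h5
      · exact (sub_eq_zero.mp h5).symm
      · exact absurd h5 hu0
    subst hyy
    subst hxx
    rfl
  have hcard : Nat.card ↥I ≤ Nat.card ({a : F // σ a = a} × {a : F // σ a = a}) := by
    rw [Nat.card_prod, Cfsg.Agent.Lib.Helper95_UQ_FLD.card_fixed hσ hF]
    calc Nat.card ↥I ≤ q ^ 2 := hIc
      _ = q * q := by ring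
  have hfinV : Finite V := Module.finite_of_finite F
  have hbij := hφ.bijective_of_nat_card_le hcard
  refine ⟨hβ0, hβ, ?_⟩
  intro w hw
  obtain ⟨⟨⟨x, hx⟩, ⟨y, hy⟩⟩, hxy⟩ := hbij.2 ⟨w, hw⟩
  refine ⟨x, y, hx, hy, ?_⟩
  exact (congrArg (fun z : ↥I => (z : ↥(Wsub B v v'))) hxy).symm

/-- **UQ-TOR2EVEN.** -/
theorem TOR2EVEN [Finite F] [FiniteDimensional F V] (hσ : Invol σ) (hB : IsHerm B)
    (hN : NondegOn B ⊤) {q : ℕ} (hF : Nat.card F = q ^ 2)
    {v v' : V} (h : HypPair B v v') (h4 : finrank F V = 4) (h2 : (2 : F) = 0) :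
    ∀ (S : Subgroup ↥(SUg B)) (I : AddSubgroup ↥(Wsub B v v')) (Y : AddSubgroup ↥(skewA σ)),
      S ≤ (udat hσ hB h).L → (udat hσ hB h).K ≤ S → Y ≠ ⊤ → Nat.card I ≤ q ^ 2 →
      (∀ w ∈ I, B (w : V) (w : V) = 0) →
      (∃ u ∈ I, ∃ b ∈ I, u ≠ 0 ∧ ¬ ∃ c : F, (b : V) = c • (u : V)) →
      (∀ s ∈ S, ∀ w ∈ I, (udat hσ hB h).ρ s w ∈ I) →
      (∀ s ∈ S, ∀ a ∈ Y, (udat hσ hB h).ν s a ∈ Y) →
      (q + 1) * Nat.card Y ≤ (S ⊔ (udat hσ hB h).K).relIndex (udat hσ hB h).L := by
  intro S I Y hSL hKS hYtop hIc hIiso hex hρ hinv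
  obtain ⟨u, hu, b, hb, hu0, hnc⟩ := hex
  obtain ⟨hβ0, hβ, hco⟩ := I_coords hσ hB hN hF h h4 h2 S I hKS hIc hIiso u b hu hb hu0 hnc hρ
  have hfr := Cfsg.Agent.Lib.Helper27_UQ_CARD.finrank_Wsub h
  obtain ⟨x, hx, hxx⟩ := Cfsg.Agent.Lib.Helper27_UQ_TOR2.exists_aniso_Wsub hσ hB hN h
    (by omega)
  -- multipliers of `S` are fixed
  have hfixS : ∀ s ∈ S, σ (Cfsg.Agent.Lib.Helper27_UQ_TOR2.lamOf B v v' (s : V ≃ₗ[F] V)) =
      Cfsg.Agent.Lib.Helper27_UQ_TOR2.lamOf B v v' (s : V ≃ₗ[F] V) := by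
    intro s hs
    have hl : (s : V ≃ₗ[F] V) ∈ Lv B v v' := (mem_L hσ hB h).mp (hSL hs)
    set lam := Cfsg.Agent.Lib.Helper27_UQ_TOR2.lamOf B v v' (s : V ≃ₗ[F] V) with hlam
    have hlv := Cfsg.Agent.Lib.Helper27_UQ_TOR2.Lv_apply_v h hl
    have hlv' := Cfsg.Agent.Lib.Helper27_UQ_TOR2.Lv_apply_v' hσ hB h hl
    have hlam0 := Cfsg.Agent.Lib.Helper27_UQ_TOR2.lamOf_ne_zero h hl
    obtain ⟨a, c, ha, hc, hac⟩ := hco _ (hρ s hs u hu)
    obtain ⟨d, e, hd, he, hde⟩ := hco _ (hρ s hs b hb)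
    have hρu := ρ_of_mem hσ hB h hl hlv u
    have hρb := ρ_of_mem hσ hB h hl hlv b
    rw [hac] at hρu
    rw [hde] at hρb
    exact lam_fixed hσ hB h h4 h2 u b hu0 hnc (hIiso u hu) (hIiso b hb) hβ0 hβ (s : V ≃ₗ[F] V)
      s.2 lam hlam0 hlv hlv' a c d e ha hc hd he hρu.symm hρb.symm
  -- transport to `V ≃ₗ V` and `F`
  set S' : Subgroup (V ≃ₗ[F] V) := S.map (SUg B).subtype with hS'
  set Y' : AddSubgroup F := Y.map (skewA σ).subtype with hY'
  have hmemY' : ∀ c : F, c ∈ Y' ↔ ∃ a ∈ Y, (a : F) = c := by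
    intro c
    rw [hY', AddSubgroup.mem_map]
    rfl
  have hS'L : S' ≤ Lv B v v' := by
    rintro _ ⟨s, hs, rfl⟩
    exact (mem_L hσ hB h).mp (hSL hs)
  have hcard : Nat.card ↥Y' = Nat.card ↥Y :=
    (Nat.card_congr (Y.equivMapOfInjective (skewA σ).subtype
      (skewA σ).subtype_injective).toEquiv).symm
  have hrel : (S ⊔ (udat hσ hB h).K).relIndex (udat hσ hB h).L =
      (S' ⊔ Kv B v v').relIndex (Lv B v v') := by
    rw [← Subgroup.relIndex_map_map_of_injective _ _ (SUg B).subtype_injective, Subgroup.map_sup]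
    have hK : ((udat hσ hB h).K).map (SUg B).subtype = Kv B v v' := by
      show ((Kv B v v').subgroupOf (SUg B)).map (SUg B).subtype = Kv B v v'
      rw [Subgroup.subgroupOf_map_subtype, inf_eq_left.mpr (Kv_le B v v')]
    have hL : ((udat hσ hB h).L).map (SUg B).subtype = Lv B v v' := by
      show ((Lv B v v').subgroupOf (SUg B)).map (SUg B).subtype = Lv B v v'
      rw [Subgroup.subgroupOf_map_subtype, inf_eq_left.mpr (Lv_le B v v')]
    rw [hK, hL]
  rw [hrel, Cfsg.Agent.Lib.Helper27_UQ_TOR2.relIndex_sup_Kv hσ hB hN h hx hxx S' hS'L, ← hcard]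
  apply torus_field_even hσ hF h2 Y'
  · intro c hc
    obtain ⟨a, -, rfl⟩ := (hmemY' c).mp hc
    exact a.2
  · by_contra hcon
    push Not at hcon
    apply hYtop
    rw [eq_top_iff]
    intro a _
    obtain ⟨a', ha', haa'⟩ := (hmemY' _).mp (hcon (a : F) a.2)
    have : a' = a := Subtype.ext haa'
    rw [← this]; exact ha'
  · rintro t ⟨l, hl, rfl⟩
    rw [Cfsg.Agent.Lib.Helper27_UQ_TOR2.lamHom_apply]
    obtain ⟨s, hs, hsl⟩ := Subgroup.mem_subgroupOf.mp hl
    rw [← hsl]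
    exact hfixS s hs
  · rintro t ⟨l, hl, rfl⟩ c hc
    rw [Cfsg.Agent.Lib.Helper27_UQ_TOR2.lamHom_apply]
    obtain ⟨s, hs, hsl⟩ := Subgroup.mem_subgroupOf.mp hl
    obtain ⟨a, ha, rfl⟩ := (hmemY' c).mp hc
    rw [hmemY']
    refine ⟨(udat hσ hB h).ν s a, hinv s hs a ha, ?_⟩
    rw [ν_coe, ← hsl]
    rfl

end main

end Cfsg.Agent.Lib.Helper11_UQ_TOR2EVEN
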