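import Mathlib
import Cfsg.Agent.Lib.Helper11_UQ_TOR2EVEN

/-!
# U4-TFES (architect helper27, proof helper11)

Strict version of `Helper11_UQ_TOR2EVEN.torus_field_even`: for `Y ≠ ⊥` the bound improves to
`(q + 1) (|Y| + 1) ≤ [Fˣ : Λ]`.
-/

set_option autoImplicit false
set_option linter.unusedSectionVars false
set_option linter.unusedVariables false

open Module Cfsg.Agent.Lib.Helper94_Symp Cfsg.Agent.Lib.Helper94_Herm
open Cfsg.Agent.Lib.Helper27_UQ_TOR2 Cfsg.Agent.Lib.Helper11_UQ_TOR2EVEN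

namespace Cfsg.Agent.Lib.Helper11_U4_TFES

variable {F : Type*} [Field F] {σ : F →+* F}

theorem TFES [Finite F] (hσ : Invol σ) {q : ℕ} (hF : Nat.card F = q ^ 2)
    (h2 : (2 : F) = 0) (Y : AddSubgroup F) (hY : ∀ c ∈ Y, σ c = -c) (hY0 : Y ≠ ⊥)
    (hYne : ∃ c : F, σ c = -c ∧ c ∉ Y) (Λ : Subgroup Fˣ)
    (hfix : ∀ u ∈ Λ, σ (u : F) = (u : F))
    (hΛ : ∀ u ∈ Λ, ∀ c ∈ Y, (u : F) * σ (u : F) * c ∈ Y) :
    (q + 1) * (Nat.card ↥Y + 1) ≤ Λ.index := by
  classical
  -- squaring is onto `Λ`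
  have hsq : ∀ u ∈ Λ, ∃ w ∈ Λ, w * w = u := by
    let f : ↥Λ → ↥Λ := fun w => w * w
    have hinj : Function.Injective f := by
      intro a b hab
      apply Subtype.ext
      apply Units.ext
      have h1 : ((a : Fˣ) : F) * ((a : Fˣ) : F) = ((b : Fˣ) : F) * ((b : Fˣ) : F) := by
        have := congrArg (fun w : ↥Λ => (((w : Fˣ)) : F)) hab
        simpa [f] using this
      exact sq_inj_of_two h2 h1
    intro u hu
    obtain ⟨w, hw⟩ := (Finite.injective_iff_surjective.mp hinj) ⟨u, hu⟩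
    exact ⟨w, w.2, congrArg Subtype.val hw⟩
  have hmul : ∀ u ∈ Λ, ∀ c ∈ Y, (u : F) * c ∈ Y := by
    intro u hu c hc
    obtain ⟨w, hw, rfl⟩ := hsq u hu
    have := hΛ w hw c hc
    rw [hfix w hw] at this
    rw [Units.val_mul]
    exact this
  set R := multField σ Y with hR
  set r := Nat.card ↥R with hr
  have hr2 : 2 ≤ r := Finite.one_lt_card
  have hcY : Nat.card ↥Y = r ^ finrank ↥R ↥(YsubM σ Y) := by
    have := Module.natCard_eq_pow_finrank (K := ↥R) (V := ↥(YsubM σ Y))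
    rw [← this]
    rfl
  have hcS : q = r ^ finrank ↥R ↥(SsubM σ Y) := by
    have := Module.natCard_eq_pow_finrank (K := ↥R) (V := ↥(SsubM σ Y))
    rw [← this, ← Cfsg.Agent.Lib.Helper95_UQ_FLD.card_skew hσ hF]
    rfl
  have hlt : YsubM σ Y < SsubM σ Y := by
    refine lt_of_le_of_ne (fun c hc => hY c hc) ?_
    intro heq
    obtain ⟨c, hc1, hc2⟩ := hYne
    apply hc2
    have : c ∈ SsubM σ Y := hc1
    rw [← heq] at this
    exact this
  have hjk : finrank ↥R ↥(YsubM σ Y) < finrank ↥R ↥(SsubM σ Y) :=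
    Submodule.finrank_lt_finrank_of_lt hlt
  -- `Λ` embeds into `R - 0`
  have hm : Nat.card ↥Λ + 1 ≤ r := by
    let f : ↥Λ → {t : ↥R // t ≠ 0} := fun w =>
      ⟨⟨((w : Fˣ) : F), ⟨hfix w w.2, fun c hc => hmul w w.2 c hc⟩⟩, by
        intro h0
        have := congrArg Subtype.val h0
        exact (w : Fˣ).ne_zero this⟩
    have hf : Function.Injective f := by
      intro w w' hww
      apply Subtype.ext
      apply Units.ext
      exact congrArg (fun t : {t : ↥R // t ≠ 0} => ((t : ↥R) : F)) hww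
    have h1 := Nat.card_le_card_of_injective f hf
    have h3 : Nat.card {t : ↥R // t ≠ 0} + 1 = r := by
      rw [← Finite.card_option, Nat.card_congr (Equiv.optionSubtypeNe (0 : ↥R))]
    omega
  -- arithmetic
  set j := finrank ↥R ↥(YsubM σ Y) with hj
  set k := finrank ↥R ↥(SsubM σ Y) with hk
  have hj1 : 1 ≤ j := by
    by_contra hcon
    have hj0 : j = 0 := by omega
    rw [hj0, pow_zero] at hcY
    exact hY0 (AddSubgroup.card_eq_one.mp hcY)
  have hcard : Nat.card Fˣ = q ^ 2 - 1 := by rw [Nat.card_units, hF]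
  have hidx := Subgroup.index_mul_card Λ
  have hq1 : 1 ≤ q := by
    rw [hcS]
    exact Nat.one_le_pow _ _ (by omega)
  have hYΛ : (Nat.card ↥Y + 1) * Nat.card ↥Λ + 1 ≤ q := by
    obtain ⟨d, hd⟩ : ∃ d, k = j + 1 + d := ⟨k - j - 1, by omega⟩
    obtain ⟨j', hj'⟩ : ∃ j', j = j' + 1 := ⟨j - 1, by omega⟩
    have h1 : r ^ j * (Nat.card ↥Λ + 1) ≤ r ^ j * r := Nat.mul_le_mul_left _ hm
    have h2' : r ^ j * r ≤ q := by
      rw [hcS, hd, pow_add, pow_succ]
      exact Nat.le_mul_of_pos_right _ (pow_pos (by omega) _)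
    have h3 : r ≤ r ^ j := by
      rw [hj', pow_succ]
      exact Nat.le_mul_of_pos_left _ (pow_pos (by omega) _)
    rw [hcY]
    nlinarith
  have hpos : 0 < Nat.card ↥Λ := Nat.card_pos
  have key : (q + 1) * (Nat.card ↥Y + 1) * Nat.card ↥Λ ≤ Λ.index * Nat.card ↥Λ := by
    rw [hidx, hcard]
    have h5 : (q + 1) * (q - 1) = q ^ 2 - 1 := by
      obtain ⟨t, rfl⟩ : ∃ t, q = t + 1 := ⟨q - 1, by omega⟩
      have : (t + 1) ^ 2 = (t + 1 + 1) * t + 1 := by ring
      rw [this]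
      simp
    rw [← h5, mul_assoc]
    apply Nat.mul_le_mul_left
    omega
  exact Nat.le_of_mul_le_mul_right key hpos

end Cfsg.Agent.Lib.Helper11_U4_TFES
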