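import Mathlib
import Cfsg.Agent.Lib.Helper17_Sylow
import Cfsg.Agent.Lib.Helper22_Basic

set_option autoImplicit false

/-!
# S0984 package L3C (architect helper62; formalised by helper12)

In a simple group of order 2520 with `|N(P₃)| = 36`, centralisers of elements of order 5, 7 of orders
5, 7 and one class of involutions, no involution centralises a Sylow 3-subgroup.
-/

namespace Cfsg.Agent.Lib.Helper12_A7_L3C

open Subgroup

/-- a `p`-element normalising a Sylow `p`-subgroup lies in it -/
theorem mem_sylow_of_mem_normalizer {G : Type*} [Group G] [Finite G] {p : ℕ} [hp : Fact p.Prime]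
    (P : Sylow p G) {y : G} (hy : y ∈ normalizer ((P : Subgroup G) : Set G))
    {k : ℕ} (hk : orderOf y = p ^ k) : y ∈ (P : Subgroup G) := by
  have hle : zpowers y ≤ normalizer ((P : Subgroup G) : Set G) := by
    rw [zpowers_le]; exact hy
  have hdvd := Cfsg.Agent.Lib.Helper22_Basic.card_sup_dvd_of_le_normalizer (P : Subgroup G)
    (zpowers y) hle
  rw [Nat.card_zpowers, hk] at hdvd
  obtain ⟨n, hn⟩ := IsPGroup.iff_card.1 P.isPGroup'
  rw [hn, ← pow_add] at hdvd
  obtain ⟨j, -, hj⟩ := (Nat.dvd_prime_pow hp.out).1 hdvd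
  have hpg : IsPGroup p ↥((P : Subgroup G) ⊔ zpowers y) := IsPGroup.of_card hj
  have := P.is_maximal' hpg le_sup_left
  rw [← this]
  exact (le_sup_right : zpowers y ≤ _) (mem_zpowers y)

/-- the centraliser is normalised by the normaliser -/
theorem conj_mem_centralizer {G : Type*} [Group G] (H : Subgroup G) {b c : G}
    (hb : b ∈ normalizer (H : Set G)) (hc : c ∈ centralizer (H : Set G)) :
    b * c * b⁻¹ ∈ centralizer (H : Set G) := by
  rw [mem_centralizer_iff]
  intro x hx
  have hx' : b⁻¹ * x * b ∈ H := by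
    apply (mem_normalizer_iff.1 hb _).2
    have : b * (b⁻¹ * x * b) * b⁻¹ = x := by group
    rw [this]; exact hx
  have h1 := mem_centralizer_iff.1 hc _ hx'
  calc x * (b * c * b⁻¹) = b * ((b⁻¹ * x * b) * c) * b⁻¹ := by group
    _ = b * (c * (b⁻¹ * x * b)) * b⁻¹ := by rw [h1]
    _ = b * c * b⁻¹ * x := by group


/-- no element of order 2 lies in a group of odd order dividing 9 -/
theorem eq_one_of_sq_of_mem {G : Type*} [Group G] (P : Subgroup G) (hP : Nat.card P = 9) {p : G}
    (hp : p ∈ P) (h2 : p * p = 1) : p = 1 := by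
  have h1 : orderOf p ∣ 2 := orderOf_dvd_of_pow_eq_one (by rw [pow_two]; exact h2)
  have h3 : orderOf (⟨p, hp⟩ : P) ∣ 9 := by
    rw [← hP]; exact orderOf_dvd_natCard _
  have h4 : orderOf (⟨p, hp⟩ : P) = orderOf p := Subgroup.orderOf_mk p hp
  rw [h4] at h3
  have h5 : orderOf p ∣ Nat.gcd 2 9 := Nat.dvd_gcd h1 h3
  have h6 : orderOf p = 1 := Nat.dvd_one.1 (by simpa using h5)
  exact orderOf_eq_one_iff.1 h6

theorem no_invol_cent3 {G : Type*} [Group G] [Finite G] [IsSimpleGroup G] [Fact (Nat.Prime 3)]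
    (hG : Nat.card G = 2520)
    (h5 : ∀ y : G, orderOf y = 5 → Nat.card (Subgroup.centralizer ({y} : Set G)) = 5)
    (h7 : ∀ x : G, orderOf x = 7 → Nat.card (Subgroup.centralizer ({x} : Set G)) = 7)
    (h2 : ∀ s t : G, orderOf s = 2 → orderOf t = 2 → IsConj s t)
    (P : Sylow 3 G) (hN : Nat.card (Subgroup.normalizer ((P : Subgroup G) : Set G)) = 36)
    (t : G) (ht : orderOf t = 2) :
    t ∉ Subgroup.centralizer ((P : Subgroup G) : Set G) := by
  intro htC
  have hP9 : Nat.card (P : Subgroup G) = 9 := by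
    have := Cfsg.Agent.Lib.Helper17_Sylow.card_sylow_eq_pow (p := 3) (k := 2) (m := 280)
      (by rw [hG]; norm_num) (by norm_num) P
    simpa using this
  set B := normalizer ((P : Subgroup G) : Set G) with hB
  set C := centralizer ((P : Subgroup G) : Set G) with hC
  have htt : t * t = 1 := by
    have := pow_orderOf_eq_one t
    rwa [ht, pow_two] at this
  have ht1 : t ≠ 1 := by
    intro h
    rw [h, orderOf_one] at ht
    omega
  -- `P` is abelian, so `P ≤ C`
  have hPab : ∀ x ∈ (P : Subgroup G), ∀ y ∈ (P : Subgroup G), x * y = y * x := by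
    intro x hx y hy
    have hsq : Nat.card (P : Subgroup G) = 3 ^ 2 := by rw [hP9]; norm_num
    have := IsPGroup.commutative_of_card_eq_prime_sq hsq (⟨x, hx⟩ : (P : Subgroup G)) ⟨y, hy⟩
    exact congrArg Subtype.val this
  have hPC : (P : Subgroup G) ≤ C := by
    intro x hx
    rw [hC, mem_centralizer_iff]
    intro y hy
    exact hPab y hy x hx
  have hCB : C ≤ B := centralizer_le_normalizer _
  have hPB : (P : Subgroup G) ≤ B := le_normalizer
  -- `|C| ∈ {18, 36}`
  have h9C : 9 ∣ Nat.card C := by rw [← hP9]; exact card_dvd_of_le hPC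
  have hC36 : Nat.card C ∣ 36 := by rw [← hN]; exact card_dvd_of_le hCB
  have h2C : 2 ∣ Nat.card C := by
    have h1 : orderOf (⟨t, htC⟩ : C) = 2 := by rw [Subgroup.orderOf_mk]; exact ht
    rw [← h1]
    exact orderOf_dvd_natCard _
  have hCcases : Nat.card C = 18 ∨ Nat.card C = 36 := by
    have hle : Nat.card C ≤ 36 := Nat.le_of_dvd (by norm_num) hC36
    have hpos : 0 < Nat.card C := Nat.card_pos
    interval_cases h : Nat.card C <;> omega
  have hC18 : Nat.card C = 18 := by
    rcases hCcases with h | h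
    · exact h
    · exfalso
      have hBC : B ≤ C := by
        have : C = B := eq_of_le_of_card_ge hCB (by rw [h, hN])
        rw [this]
      rcases Cfsg.Agent.Lib.Helper17_Sylow.sylow_eq_bot_or_top_of_normalizer_le_centralizer P hBC
        with h0 | h0
      · rw [h0, card_bot] at hP9
        omega
      · rw [h0, card_top, hG] at hP9
        omega
  -- `t` is the only involution of `C`
  have hrel : (P : Subgroup G).relIndex C = 2 := by
    have := Cfsg.Agent.Lib.Helper17_Sylow.card_mul_relIndex_of_le hPC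
    rw [hP9, hC18] at this
    omega
  have htP : t ∉ (P : Subgroup G) := by
    intro h
    exact ht1 (eq_one_of_sq_of_mem (P : Subgroup G) hP9 h htt)
  have huniq : ∀ s ∈ C, orderOf s = 2 → s = t := by
    intro s hsC hs2
    have hss : s * s = 1 := by
      have := pow_orderOf_eq_one s
      rwa [hs2, pow_two] at this
    have hs1 : s ≠ 1 := by
      intro h
      rw [h, orderOf_one] at hs2
      omega
    have hsP : s ∉ (P : Subgroup G) := by
      intro h
      exact hs1 (eq_one_of_sq_of_mem (P : Subgroup G) hP9 h hss)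
    have hidx : ((P : Subgroup G).subgroupOf C).index = 2 := hrel
    have hmem := (Subgroup.mul_mem_iff_of_index_two hidx (a := (⟨s, hsC⟩ : C))
      (b := (⟨t, htC⟩ : C))).2
      (by
        rw [mem_subgroupOf, mem_subgroupOf]
        exact ⟨fun h => absurd h hsP, fun h => absurd h htP⟩)
    rw [mem_subgroupOf] at hmem
    have hp : s * t ∈ (P : Subgroup G) := hmem
    -- `t` commutes with `s * t ∈ P`
    have hcomm : (s * t) * t = t * (s * t) := (mem_centralizer_iff.1 htC _ hp)
    have h1 : (s * t) * (s * t) = 1 := by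
      calc (s * t) * (s * t) = s * (t * (s * t)) := by group
        _ = s * ((s * t) * t) := by rw [hcomm]
        _ = (s * s) * (t * t) := by group
        _ = 1 := by rw [hss, htt, one_mul]
    have h3 := eq_one_of_sq_of_mem (P : Subgroup G) hP9 hp h1
    calc s = (s * t) * t := by rw [mul_assoc, htt, mul_one]
      _ = t := by rw [h3, one_mul]
  -- `B ≤ C(t)`
  have hBt : B ≤ centralizer ({t} : Set G) := by
    intro b hb
    rw [mem_centralizer_iff]
    intro x hx
    rw [Set.mem_singleton_iff] at hx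
    subst hx
    have h1 : b * x * b⁻¹ ∈ C := conj_mem_centralizer (P : Subgroup G) hb htC
    have h3 : orderOf (b * x * b⁻¹) = 2 := by
      rw [Cfsg.Agent.Lib.Helper17_Sylow.orderOf_conj']; exact ht
    have h4 := huniq _ h1 h3
    calc x * b = (b * x * b⁻¹) * b := by rw [h4]
      _ = b * x := by group
  set Ct := centralizer ({t} : Set G) with hCt
  have h36 : 36 ∣ Nat.card Ct := by rw [← hN]; exact card_dvd_of_le hBt
  -- `8 ∣ |C(t)|`
  have h8 : 8 ∣ Nat.card Ct := by
    haveI : Fact (Nat.Prime 2) := ⟨Nat.prime_two⟩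
    obtain ⟨S⟩ : Nonempty (Sylow 2 G) := inferInstance
    have hS8 : Nat.card (S : Subgroup G) = 8 := by
      have := Cfsg.Agent.Lib.Helper17_Sylow.card_sylow_eq_pow (p := 2) (k := 3) (m := 315)
        (by rw [hG]; norm_num) (by norm_num) S
      simpa using this
    -- a central involution of `S`
    haveI : Nontrivial (S : Subgroup G) := by
      rw [← Finite.one_lt_card_iff_nontrivial, hS8]; norm_num
    have hZ : Nontrivial (center (S : Subgroup G)) := S.isPGroup'.center_nontrivial
    have hZpg : IsPGroup 2 (center (S : Subgroup G)) := S.isPGroup'.to_subgroup _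
    obtain ⟨n, hn⟩ := IsPGroup.iff_card.1 hZpg
    have hn0 : n ≠ 0 := by
      intro h
      rw [h, pow_zero] at hn
      have := Finite.one_lt_card_iff_nontrivial.2 hZ
      omega
    have h2Z : 2 ∣ Nat.card (center (S : Subgroup G)) := by
      rw [hn]; exact dvd_pow_self 2 hn0
    obtain ⟨z, hz⟩ := exists_prime_orderOf_dvd_card' 2 h2Z
    -- `z' : G`
    set z' : G := ((z : (S : Subgroup G)) : G) with hz'
    have hz'2 : orderOf z' = 2 := by
      rw [hz', Subgroup.orderOf_coe, Subgroup.orderOf_coe]; exact hz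
    have hSz : (S : Subgroup G) ≤ centralizer ({z'} : Set G) := by
      intro x hx
      rw [mem_centralizer_iff]
      intro y hy
      rw [Set.mem_singleton_iff] at hy
      subst hy
      have := mem_center_iff.1 z.2 ⟨x, hx⟩
      have h := congrArg Subtype.val this
      exact h.symm
    have h8z : 8 ∣ Nat.card (centralizer ({z'} : Set G)) := by
      rw [← hS8]; exact card_dvd_of_le hSz
    obtain ⟨c, hc⟩ := isConj_iff.1 (h2 t z' ht hz'2)
    have hcard := Cfsg.Agent.Lib.Helper17_Sylow.card_centralizer_conj t c⁻¹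
    rw [inv_inv, hc] at hcard
    rw [hCt, ← hcard]
    exact h8z
  -- `5, 7 ∤ |C(t)|`
  have hno : ∀ p : ℕ, p.Prime → p ≠ 2 → (∀ y : G, orderOf y = p →
      Nat.card (centralizer ({y} : Set G)) = p) → ¬ p ∣ Nat.card Ct := by
    intro p hp hp2 hcent hdvd
    haveI : Fact p.Prime := ⟨hp⟩
    obtain ⟨y, hy⟩ := exists_prime_orderOf_dvd_card' p hdvd
    have hy' : orderOf (y : G) = p := by rw [Subgroup.orderOf_coe]; exact hy
    have htmem : t ∈ centralizer ({(y : G)} : Set G) := by
      rw [mem_centralizer_iff]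
      intro x hx
      rw [Set.mem_singleton_iff] at hx
      subst hx
      have := mem_centralizer_iff.1 y.2 t (Set.mem_singleton t)
      exact this.symm
    have h1 : orderOf (⟨t, htmem⟩ : centralizer ({(y : G)} : Set G)) ∣ p := by
      rw [← hcent _ hy']; exact orderOf_dvd_natCard _
    rw [Subgroup.orderOf_mk, ht] at h1
    exact hp2 ((Nat.prime_dvd_prime_iff_eq Nat.prime_two hp).1 h1).symm
  have hn5 := hno 5 (by norm_num) (by norm_num) h5
  have hn7 := hno 7 (by norm_num) (by norm_num) h7
  -- `|C(t)| = 72`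
  have hCt72 : Nat.card Ct = 72 := by
    have hdvd : Nat.card Ct ∣ 2520 := by rw [← hG]; exact card_subgroup_dvd_card _
    have h72 : 72 ∣ Nat.card Ct := by
      have := Nat.lcm_dvd h36 h8
      have e : Nat.lcm 36 8 = 72 := by norm_num
      rwa [e] at this
    obtain ⟨k, hk⟩ := h72
    rw [hk] at hdvd hn5 hn7
    have hk35 : k ∣ 35 := by
      have : 72 * k ∣ 72 * 35 := by simpa using hdvd
      exact Nat.dvd_of_mul_dvd_mul_left (by norm_num) this
    have hkmem : k ∈ ({1, 5, 7, 35} : Finset ℕ) := by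
      have h := Nat.mem_divisors.2 ⟨hk35, by norm_num⟩
      have e : Nat.divisors 35 = {1, 5, 7, 35} := by decide
      rwa [e] at h
    simp only [Finset.mem_insert, Finset.mem_singleton] at hkmem
    rcases hkmem with h | h | h | h
    · rw [hk, h]
    · exact absurd (by rw [h]; norm_num : (5 : ℕ) ∣ 72 * k) hn5
    · exact absurd (by rw [h]; norm_num : (7 : ℕ) ∣ 72 * k) hn7
    · exact absurd (by rw [h]; norm_num : (5 : ℕ) ∣ 72 * k) hn5
  -- `B` is normal in `C(t)`, hence so is `P`: `C(t) ≤ B`
  have hrelB : B.relIndex Ct = 2 := by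
    have := Cfsg.Agent.Lib.Helper17_Sylow.card_mul_relIndex_of_le hBt
    rw [hN, hCt72] at this
    omega
  have hBnorm : (B.subgroupOf Ct).Normal := normal_of_index_eq_two hrelB
  have hCtB : Ct ≤ B := by
    -- every `g ∈ C(t)` maps `P` into `P`
    have key : ∀ g ∈ Ct, ∀ x ∈ (P : Subgroup G), g * x * g⁻¹ ∈ (P : Subgroup G) := by
      intro g hg x hx
      have hxB : x ∈ B := hPB hx
      have h1 : (⟨g, hg⟩ : Ct) * ⟨x, hBt hxB⟩ * (⟨g, hg⟩ : Ct)⁻¹ ∈ B.subgroupOf Ct :=
        hBnorm.conj_mem _ (by rw [mem_subgroupOf]; exact hxB) _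
      rw [mem_subgroupOf] at h1
      have h1' : g * x * g⁻¹ ∈ B := h1
      obtain ⟨k, hk⟩ := (IsPGroup.iff_orderOf.1 P.isPGroup') ⟨x, hx⟩
      rw [Subgroup.orderOf_mk] at hk
      have hord : orderOf (g * x * g⁻¹) = 3 ^ k := by
        rw [Cfsg.Agent.Lib.Helper17_Sylow.orderOf_conj']; exact hk
      exact mem_sylow_of_mem_normalizer P h1' hord
    intro g hg
    rw [hB, mem_normalizer_iff]
    intro x
    constructor
    · exact key g hg x
    · intro h
      have := key g⁻¹ (Ct.inv_mem hg) _ h
      have e : g⁻¹ * (g * x * g⁻¹) * g⁻¹⁻¹ = x := by group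
      rwa [e] at this
  have := card_le_of_le hCtB
  rw [hCt72, hN] at this
  omega

end Cfsg.Agent.Lib.Helper12_A7_L3C
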