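import Mathlib
import Cfsg.Agent.Lib.Helper12_A7_L3C

set_option autoImplicit false

/-!
# S0984 package L3V (architect helper62; formalised by helper12)

`P` a Sylow 3-subgroup of order 9 with `|N(P)| = 36` and no involution centralising `P`: either `N(P)`
contains an element of order 4, or there are commuting involutions `a, b ∈ N(P)` and `r ∈ P` of order 3
with `a` centralising and `b` inverting `r`.
-/

namespace Cfsg.Agent.Lib.Helper12_A7_L3V

open Subgroup

section basic

variable {G : Type*} [Group G]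

theorem sq_eq_one_of_orderOf_two {a : G} (h : orderOf a = 2) : a * a = 1 := by
  have := pow_orderOf_eq_one a
  rwa [h, pow_two] at this

theorem ne_one_of_orderOf_two {a : G} (h : orderOf a = 2) : a ≠ 1 := by
  intro h1
  rw [h1, orderOf_one] at h
  omega

theorem orderOf_two_of_sq {a : G} (h : a * a = 1) (h1 : a ≠ 1) : orderOf a = 2 :=
  orderOf_eq_prime (by rw [pow_two]; exact h) h1

theorem conj_conj_of_sq {a : G} (h : a * a = 1) (x : G) : a * (a * x * a⁻¹) * a⁻¹ = x := by
  have e : a * (a * x * a⁻¹) * a⁻¹ = (a * a) * x * (a * a)⁻¹ := by group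
  rw [e, h]
  simp

theorem comm_of_conj_eq {a x : G} (h : a * x * a⁻¹ = x) : a * x = x * a := by
  calc a * x = (a * x * a⁻¹) * a := by group
    _ = x * a := by rw [h]

theorem conj_eq_of_comm {a x : G} (h : a * x = x * a) : a * x * a⁻¹ = x := by
  rw [h]
  group

theorem comm_of_mem_zpowers {x r y : G} (h : x * r = r * x) (hy : y ∈ zpowers r) :
    x * y = y * x := by
  obtain ⟨k, rfl⟩ := mem_zpowers_iff.1 hy
  exact (Commute.zpow_right (show Commute x r from h) k).eq

theorem conj_mem_of_mem_normalizer (P : Subgroup G) {x p : G} (hx : x ∈ normalizer (P : Set G))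
    (hp : p ∈ P) : x * p * x⁻¹ ∈ P :=
  (mem_normalizer_iff.1 hx p).1 hp

/-- if `x` commutes with every element of `P` then `x ∈ C(P)` -/
theorem mem_centralizer_of_comm (P : Subgroup G) {x : G} (h : ∀ p ∈ P, x * p = p * x) :
    x ∈ centralizer (P : Set G) := by
  rw [mem_centralizer_iff]
  intro p hp
  exact (h p hp).symm

end basic

section nine

variable {G : Type*} [Group G] [Finite G]

/-- a group of order 9 is abelian -/
theorem comm_of_card_nine (P : Subgroup G) (hP : Nat.card P = 9) {x y : G} (hx : x ∈ P)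
    (hy : y ∈ P) : x * y = y * x := by
  haveI : Fact (Nat.Prime 3) := ⟨by norm_num⟩
  have hsq : Nat.card P = 3 ^ 2 := by rw [hP]; norm_num
  have := IsPGroup.commutative_of_card_eq_prime_sq hsq (⟨x, hx⟩ : P) ⟨y, hy⟩
  exact congrArg Subtype.val this

theorem divisors_nine {n : ℕ} (h : n ∣ 9) : n = 1 ∨ n = 3 ∨ n = 9 := by
  have hm := Nat.mem_divisors.2 ⟨h, by norm_num⟩
  have e : Nat.divisors 9 = {1, 3, 9} := by decide
  rw [e] at hm
  simpa using hm

/-- a nonidentity element of `P` fixed by `x ∉ C(P)` has order 3 -/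
theorem orderOf_eq_three (P : Subgroup G) (hP : Nat.card P = 9) {x r : G}
    (hx : x ∉ centralizer (P : Set G)) (hr : r ∈ P) (hr1 : r ≠ 1) (hxr : x * r = r * x) :
    orderOf r = 3 := by
  have hd : orderOf r ∣ 9 := by
    rw [← hP]
    have := orderOf_dvd_natCard (⟨r, hr⟩ : P)
    rwa [Subgroup.orderOf_mk] at this
  rcases divisors_nine hd with h | h | h
  · exact absurd (orderOf_eq_one_iff.1 h) hr1
  · exact h
  · exfalso
    have hz : zpowers r = P :=
      eq_of_le_of_card_ge (zpowers_le.2 hr) (by rw [Nat.card_zpowers, h, hP])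
    apply hx
    apply mem_centralizer_of_comm
    intro p hp
    rw [← hz] at hp
    exact comm_of_mem_zpowers hxr hp

/-- the fixed points in `P` of `x ∉ C(P)` form a group of order at most 3 -/
theorem mem_zpowers_of_comm (P : Subgroup G) (hP : Nat.card P = 9) {x r p : G}
    (hx : x ∉ centralizer (P : Set G)) (hr : r ∈ P) (hr3 : orderOf r = 3)
    (hxr : x * r = r * x) (hp : p ∈ P) (hxp : x * p = p * x) : p ∈ zpowers r := by
  set K : Subgroup G := P ⊓ centralizer ({x} : Set G) with hK
  have hmem : ∀ y ∈ P, x * y = y * x → y ∈ K := by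
    intro y hy hxy
    refine mem_inf.2 ⟨hy, ?_⟩
    rw [mem_centralizer_iff]
    intro z hz
    rw [Set.mem_singleton_iff] at hz
    subst hz
    exact hxy
  have hrK : r ∈ K := hmem r hr hxr
  have hpK : p ∈ K := hmem p hp hxp
  have hzK : zpowers r ≤ K := zpowers_le.2 hrK
  have hKP : K ≤ P := inf_le_left
  have h1 : 3 ∣ Nat.card K := by
    rw [← hr3, ← Nat.card_zpowers]
    exact card_dvd_of_le hzK
  have h2 : Nat.card K ∣ 9 := by
    rw [← hP]
    exact card_dvd_of_le hKP
  rcases divisors_nine h2 with h | h | h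
  · rw [h] at h1
    omega
  · have hz : zpowers r = K := eq_of_le_of_card_ge hzK (by rw [Nat.card_zpowers, hr3, h])
    rw [hz]
    exact hpK
  · exfalso
    have hKeq : K = P := eq_of_le_of_card_ge hKP (by rw [h, hP])
    apply hx
    apply mem_centralizer_of_comm
    intro y hy
    rw [← hKeq] at hy
    have := mem_centralizer_iff.1 hy.2 x (Set.mem_singleton x)
    exact this

/-- **key step**: commuting involutions `a ≠ b` of `N(P)`, `a` fixing a nonidentity element of `P` -/
theorem key (P : Subgroup G) (hP : Nat.card P = 9)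
    (hnc : ∀ t : G, orderOf t = 2 → t ∉ centralizer (P : Set G))
    {a b : G} (ha : a ∈ normalizer (P : Set G)) (hb : b ∈ normalizer (P : Set G))
    (ha2 : orderOf a = 2) (hb2 : orderOf b = 2) (hab : a * b = b * a) (hne : a ≠ b)
    {r : G} (hr : r ∈ P) (hr1 : r ≠ 1) (har : a * r = r * a) :
    ∃ a b r : G, a ∈ normalizer (P : Set G) ∧ b ∈ normalizer (P : Set G) ∧ r ∈ P ∧
      orderOf a = 2 ∧ orderOf b = 2 ∧ a * b = b * a ∧ orderOf r = 3 ∧ a * r = r * a ∧
      b * r * b⁻¹ = r⁻¹ := by
  have haa := sq_eq_one_of_orderOf_two ha2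
  have hbb := sq_eq_one_of_orderOf_two hb2
  have hac := hnc a ha2
  have hbc := hnc b hb2
  have hr3 : orderOf r = 3 := orderOf_eq_three P hP hac hr hr1 har
  have hPab : ∀ x ∈ P, ∀ y ∈ P, x * y = y * x := fun x hx y hy => comm_of_card_nine P hP hx hy
  have hodd : ∀ x ∈ P, x * x = 1 → x = 1 := fun x hx h =>
    Cfsg.Agent.Lib.Helper12_A7_L3C.eq_one_of_sq_of_mem P hP hx h
  by_cases hs : r * (b * r * b⁻¹) = 1
  · exact ⟨a, b, r, ha, hb, hr, ha2, hb2, hab, hr3, har, eq_inv_of_mul_eq_one_right hs⟩
  · exfalso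
    set s : G := r * (b * r * b⁻¹) with hsdef
    have hbrP : b * r * b⁻¹ ∈ P := conj_mem_of_mem_normalizer P hb hr
    have hsP : s ∈ P := P.mul_mem hr hbrP
    -- `a` commutes with `s`
    have hCab : Commute a b := hab
    have hCar : Commute a r := har
    have has : a * s = s * a :=
      (hCar.mul_right ((hCab.mul_right hCar).mul_right hCab.inv_right)).eq
    -- `b` commutes with `s`
    have hbs : b * s = s * b := by
      apply comm_of_conj_eq
      have e : b * s * b⁻¹ = (b * r * b⁻¹) * (b * (b * r * b⁻¹) * b⁻¹) := by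
        rw [hsdef]; group
      rw [e, conj_conj_of_sq hbb, hPab _ hbrP _ hr]
    have hs3 : orderOf s = 3 := orderOf_eq_three P hP hac hsP hs has
    -- the third involution
    have hcc : (a * b) * (a * b) = 1 := by
      calc (a * b) * (a * b) = a * (b * a) * b := by group
        _ = a * (a * b) * b := by rw [hab]
        _ = (a * a) * (b * b) := by group
        _ = 1 := by rw [haa, hbb, one_mul]
    have hc1 : a * b ≠ 1 := by
      intro h
      apply hne
      calc a = a * (b * b) := by rw [hbb, mul_one]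
        _ = (a * b) * b := by group
        _ = b := by rw [h, one_mul]
    have hc2 : orderOf (a * b) = 2 := orderOf_two_of_sq hcc hc1
    have hcC := hnc _ hc2
    have hcs : (a * b) * s = s * (a * b) := by
      calc (a * b) * s = a * (b * s) := by group
        _ = a * (s * b) := by rw [hbs]
        _ = (a * s) * b := by group
        _ = (s * a) * b := by rw [has]
        _ = s * (a * b) := by group
    -- an element outside `⟨s⟩`
    obtain ⟨p, hpP, hpz⟩ : ∃ p ∈ P, p ∉ zpowers s := by
      by_contra hcon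
      push Not at hcon
      have hle : P ≤ zpowers s := fun x hx => hcon x hx
      have := card_le_of_le hle
      rw [hP, Nat.card_zpowers, hs3] at this
      omega
    have hapP : a * p * a⁻¹ ∈ P := conj_mem_of_mem_normalizer P ha hpP
    set u : G := p * (a * p * a⁻¹)⁻¹ with hu
    have huP : u ∈ P := P.mul_mem hpP (P.inv_mem hapP)
    have hau : a * u * a⁻¹ = u⁻¹ := by
      have e : a * u * a⁻¹ = (a * p * a⁻¹) * (a * (a * p * a⁻¹) * a⁻¹)⁻¹ := by
        rw [hu]; group
      rw [e, conj_conj_of_sq haa, hu]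
      group
    have huz : u ∉ zpowers s := by
      intro h
      have h1 : a * u = u * a := comm_of_mem_zpowers has h
      have h2 : u⁻¹ = u := by rw [← hau]; exact conj_eq_of_comm h1
      have h3 : u * u = 1 := by
        calc u * u = u⁻¹ * u := by rw [h2]
          _ = 1 := inv_mul_cancel u
      have h4 : u = 1 := hodd u huP h3
      -- then `a` fixes `p`
      have h5 : a * p * a⁻¹ = p := by
        have : p * (a * p * a⁻¹)⁻¹ = 1 := by rw [← hu]; exact h4
        have := eq_inv_of_mul_eq_one_right this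
        rw [inv_inj] at this
        exact this
      exact hpz (mem_zpowers_of_comm P hP hac hsP hs3 has hpP (comm_of_conj_eq h5))
    have hbuP : b * u * b⁻¹ ∈ P := conj_mem_of_mem_normalizer P hb huP
    set w : G := (b * u * b⁻¹) * u with hw
    have hwP : w ∈ P := P.mul_mem hbuP huP
    have hbw : b * w * b⁻¹ = w := by
      have e : b * w * b⁻¹ = (b * (b * u * b⁻¹) * b⁻¹) * (b * u * b⁻¹) := by
        rw [hw]; group
      rw [e, conj_conj_of_sq hbb, hPab _ huP _ hbuP]
    have hwz : w ∈ zpowers s :=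
      mem_zpowers_of_comm P hP hbc hsP hs3 hbs hwP (comm_of_conj_eq hbw)
    have haw1 : a * w * a⁻¹ = w := conj_eq_of_comm (comm_of_mem_zpowers has hwz)
    have hab' : a * b * a⁻¹ = b := conj_eq_of_comm hab
    have haw2 : a * w * a⁻¹ = w⁻¹ := by
      have e : a * w * a⁻¹ =
          ((a * b * a⁻¹) * (a * u * a⁻¹) * (a * b * a⁻¹)⁻¹) * (a * u * a⁻¹) := by
        rw [hw]; group
      rw [e, hab', hau, hw]
      have e2 : b * u⁻¹ * b⁻¹ * u⁻¹ = (u * (b * u * b⁻¹))⁻¹ := by group
      rw [e2, hPab _ huP _ hbuP]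
    have hw1 : w = 1 := by
      apply hodd w hwP
      have h2 : w⁻¹ = w := by rw [← haw2]; exact haw1
      calc w * w = w⁻¹ * w := by rw [h2]
        _ = 1 := inv_mul_cancel w
    have hbu : b * u * b⁻¹ = u⁻¹ := by
      have : (b * u * b⁻¹) * u = 1 := by rw [← hw]; exact hw1
      exact eq_inv_of_mul_eq_one_left this
    have hcu : (a * b) * u * (a * b)⁻¹ = u := by
      have e : (a * b) * u * (a * b)⁻¹ = a * (b * u * b⁻¹) * a⁻¹ := by group
      rw [e, hbu]
      have e2 : a * u⁻¹ * a⁻¹ = (a * u * a⁻¹)⁻¹ := by group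
      rw [e2, hau, inv_inv]
    exact huz (mem_zpowers_of_comm P hP hcC hsP hs3 hcs huP (comm_of_conj_eq hcu))

/-- an involution of `N(P)` without nonidentity fixed points in `P` inverts `P` -/
theorem inverts_of_no_fixed (P : Subgroup G) (hP : Nat.card P = 9) {q : G}
    (hq : q ∈ normalizer (P : Set G)) (hqq : q * q = 1)
    (hfix : ∀ r ∈ P, q * r = r * q → r = 1) {p : G} (hp : p ∈ P) : q * p * q⁻¹ = p⁻¹ := by
  have hqpP : q * p * q⁻¹ ∈ P := conj_mem_of_mem_normalizer P hq hp
  have hv : q * (p * (q * p * q⁻¹)) * q⁻¹ = p * (q * p * q⁻¹) := by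
    have e : q * (p * (q * p * q⁻¹)) * q⁻¹ = (q * p * q⁻¹) * (q * (q * p * q⁻¹) * q⁻¹) := by
      group
    rw [e, conj_conj_of_sq hqq, comm_of_card_nine P hP hqpP hp]
  have := hfix _ (P.mul_mem hp hqpP) (comm_of_conj_eq hv)
  exact eq_inv_of_mul_eq_one_right this

end nine

theorem exists_u_or_abr {G : Type*} [Group G] [Finite G] [Fact (Nat.Prime 3)]
    (P : Sylow 3 G) (hP : Nat.card P = 9)
    (hN : Nat.card (Subgroup.normalizer ((P : Subgroup G) : Set G)) = 36)
    (hnc : ∀ t : G, orderOf t = 2 → t ∉ Subgroup.centralizer ((P : Subgroup G) : Set G)) :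
    (∃ u ∈ Subgroup.normalizer ((P : Subgroup G) : Set G), orderOf u = 4) ∨
    (∃ a b r : G, a ∈ Subgroup.normalizer ((P : Subgroup G) : Set G) ∧
      b ∈ Subgroup.normalizer ((P : Subgroup G) : Set G) ∧ r ∈ (P : Subgroup G) ∧
      orderOf a = 2 ∧ orderOf b = 2 ∧ a * b = b * a ∧ orderOf r = 3 ∧ a * r = r * a ∧
      b * r * b⁻¹ = r⁻¹) := by
  by_cases h4 : ∃ u ∈ Subgroup.normalizer ((P : Subgroup G) : Set G), orderOf u = 4
  · exact Or.inl h4
  right
  push Not at h4
  have hP9 : Nat.card (P : Subgroup G) = 9 := hP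
  set B := normalizer ((P : Subgroup G) : Set G) with hB
  -- a subgroup of order 4 of `B`
  have hdvd : 2 ^ 2 ∣ Nat.card B := by rw [hN]; norm_num
  obtain ⟨K, hK⟩ := Sylow.exists_subgroup_card_pow_prime 2 hdvd
  set Q : Subgroup G := K.map B.subtype with hQ
  have hQ4 : Nat.card Q = 4 := by
    rw [hQ, card_map_of_injective B.subtype_injective, hK]
    norm_num
  have hQB : Q ≤ B := map_subtype_le K
  -- every element of `Q` squares to 1
  have hQsq : ∀ x ∈ Q, x * x = 1 := by
    intro x hx
    have hd : orderOf x ∣ 4 := by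
      rw [← hQ4]
      have := orderOf_dvd_natCard (⟨x, hx⟩ : Q)
      rwa [Subgroup.orderOf_mk] at this
    have hm := Nat.mem_divisors.2 ⟨hd, by norm_num⟩
    have e : Nat.divisors 4 = {1, 2, 4} := by decide
    rw [e] at hm
    simp only [Finset.mem_insert, Finset.mem_singleton] at hm
    rcases hm with h | h | h
    · rw [orderOf_eq_one_iff.1 h, one_mul]
    · exact sq_eq_one_of_orderOf_two h
    · exact absurd h (h4 x (hQB hx))
  -- two distinct involutions
  have hQbot : Q ≠ ⊥ := by
    intro h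
    rw [h, card_bot] at hQ4
    omega
  obtain ⟨⟨a, haQ⟩, ha1'⟩ := ne_bot_iff_exists_ne_one.1 hQbot
  have ha1 : a ≠ 1 := fun h => ha1' (Subtype.ext h)
  have haa : a * a = 1 := hQsq a haQ
  have ha2 : orderOf a = 2 := orderOf_two_of_sq haa ha1
  obtain ⟨b, hbQ, hbz⟩ : ∃ b ∈ Q, b ∉ zpowers a := by
    by_contra hcon
    push Not at hcon
    have hle : Q ≤ zpowers a := fun x hx => hcon x hx
    have := card_le_of_le hle
    rw [hQ4, Nat.card_zpowers, ha2] at this
    omega
  have hb1 : b ≠ 1 := fun h => hbz (by rw [h]; exact one_mem _)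
  have hba : a ≠ b := fun h => hbz (by rw [← h]; exact mem_zpowers a)
  have hbb : b * b = 1 := hQsq b hbQ
  have hb2 : orderOf b = 2 := orderOf_two_of_sq hbb hb1
  have hcc : (a * b) * (a * b) = 1 := hQsq _ (Q.mul_mem haQ hbQ)
  have hab : a * b = b * a := by
    calc a * b = a * ((a * b) * (a * b)) * b := by rw [hcc, mul_one]
      _ = (a * a) * (b * a) * (b * b) := by group
      _ = b * a := by rw [haa, hbb, one_mul, mul_one]
  have hc1 : a * b ≠ 1 := by
    intro h
    apply hba
    calc a = a * (b * b) := by rw [hbb, mul_one]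
      _ = (a * b) * b := by group
      _ = b := by rw [h, one_mul]
  have hc2 : orderOf (a * b) = 2 := orderOf_two_of_sq hcc hc1
  have haB : a ∈ B := hQB haQ
  have hbB : b ∈ B := hQB hbQ
  have hcB : a * b ∈ B := B.mul_mem haB hbB
  -- one of the three involutions has a nonidentity fixed point on `P`
  by_cases hfa : ∃ r ∈ (P : Subgroup G), r ≠ 1 ∧ a * r = r * a
  · obtain ⟨r, hr, hr1, har⟩ := hfa
    exact key (P : Subgroup G) hP9 hnc haB hbB ha2 hb2 hab hba hr hr1 har
  by_cases hfb : ∃ r ∈ (P : Subgroup G), r ≠ 1 ∧ b * r = r * b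
  · obtain ⟨r, hr, hr1, hbr⟩ := hfb
    exact key (P : Subgroup G) hP9 hnc hbB haB hb2 ha2 hab.symm (Ne.symm hba) hr hr1 hbr
  by_cases hfc : ∃ r ∈ (P : Subgroup G), r ≠ 1 ∧ (a * b) * r = r * (a * b)
  · obtain ⟨r, hr, hr1, hcr⟩ := hfc
    have hca : (a * b) * a = a * (a * b) := by
      calc (a * b) * a = a * (b * a) := by group
        _ = a * (a * b) := by rw [hab]
    have hcne : a * b ≠ a := by
      intro h
      apply hb1
      calc b = (a * a) * b := by rw [haa, one_mul]
        _ = a * (a * b) := by group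
        _ = 1 := by rw [h, haa]
    exact key (P : Subgroup G) hP9 hnc hcB haB hc2 ha2 hca hcne hr hr1 hcr
  -- otherwise all three invert `P`, and `a * b` centralises it
  exfalso
  push Not at hfa hfb hfc
  have hfa' : ∀ r ∈ (P : Subgroup G), a * r = r * a → r = 1 := by
    intro r hr h
    by_contra h1
    exact hfa r hr h1 h
  have hfb' : ∀ r ∈ (P : Subgroup G), b * r = r * b → r = 1 := by
    intro r hr h
    by_contra h1
    exact hfb r hr h1 h
  apply hnc _ hc2
  apply mem_centralizer_of_comm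
  intro p hp
  apply comm_of_conj_eq
  have e : (a * b) * p * (a * b)⁻¹ = a * (b * p * b⁻¹) * a⁻¹ := by group
  rw [e, inverts_of_no_fixed (P : Subgroup G) hP9 hbB hbb hfb' hp,
    inverts_of_no_fixed (P : Subgroup G) hP9 haB haa hfa' ((P : Subgroup G).inv_mem hp), inv_inv]

end Cfsg.Agent.Lib.Helper12_A7_L3V
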