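import Mathlib
import Cfsg.Agent.Lib.Helper1_D8Defs
import Cfsg.Agent.Lib.Helper80_CharComplete

/-!
# S3716 market (architect helper1): package FSPAR, core (helper12)

`quat_parity_of`: the statement of `quat_parity` with the conclusions of the packages FSEVEN (`even_fixed`)
and FSCOSET (`coset_sums`) as hypotheses.

Tools: `h12ext2 K t` = the subgroup `K ∪ K t` for an involution `t` normalizing `K`, with the sum formula
`h12ext2_sum`; `h12cyc3_sum` = the sum over a cyclic group of order 3.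
-/

set_option autoImplicit false
open scoped ComplexConjugate

namespace Cfsg.Agent.Lib.Helper12_D8_FSPARaux

open Cfsg Cfsg.Agent.Lib.Helper80_CharBasic Cfsg.Agent.Lib.Helper1_D8Defs

section tools
variable {G : Type*} [Group G]

theorem h12inv_of_sq {t : G} (htt : t * t = 1) : t⁻¹ = t := inv_eq_of_mul_eq_one_right htt

/-- the subgroup `K ∪ K t` (`t` an involution normalizing `K`) -/
def h12ext2 (K : Subgroup G) (t : G) (htt : t * t = 1) (hn : ∀ k ∈ K, t * k * t⁻¹ ∈ K) : Subgroup G where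
  carrier := {x | x ∈ K ∨ x * t ∈ K}
  one_mem' := Or.inl K.one_mem
  mul_mem' := by
    have hti := h12inv_of_sq htt
    rintro x y (hx | hx) (hy | hy)
    · exact Or.inl (K.mul_mem hx hy)
    · right
      show x * y * t ∈ K
      rw [mul_assoc]; exact K.mul_mem hx hy
    · right
      show x * y * t ∈ K
      have h1 := hn y hy
      have : x * y * t = (x * t) * (t * y * t⁻¹) := by
        rw [hti]
        calc x * y * t = x * (t * t) * y * t := by rw [htt, mul_one]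
          _ = (x * t) * (t * y * t) := by simp only [mul_assoc]
      rw [this]; exact K.mul_mem hx h1
    · left
      show x * y ∈ K
      have h1 := hn (y * t) hy
      have : x * y = (x * t) * (t * (y * t) * t⁻¹) := by
        rw [hti]
        calc x * y = x * (t * t) * y * (t * t) := by rw [htt, mul_one, mul_one]
          _ = (x * t) * (t * (y * t) * t) := by simp only [mul_assoc]
      rw [this]; exact K.mul_mem hx h1
  inv_mem' := by
    have hti := h12inv_of_sq htt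
    rintro x (hx | hx)
    · exact Or.inl (K.inv_mem hx)
    · right
      show x⁻¹ * t ∈ K
      have h1 := hn _ (K.inv_mem hx)
      have : x⁻¹ * t = t * (x * t)⁻¹ * t⁻¹ := by
        rw [hti, mul_inv_rev, hti]
        calc x⁻¹ * t = (t * t) * x⁻¹ * t := by rw [htt, one_mul]
          _ = t * (t * x⁻¹) * t := by simp only [mul_assoc]
      rw [this]; exact h1

theorem h12mem_ext2 {K : Subgroup G} {t : G} {htt : t * t = 1} {hn : ∀ k ∈ K, t * k * t⁻¹ ∈ K} {x : G} :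
    x ∈ h12ext2 K t htt hn ↔ (x ∈ K ∨ x * t ∈ K) := Iff.rfl

theorem h12ext2_sum [Finite G] {A : Type*} [AddCommMonoid A] (K : Subgroup G) (t : G) (htt : t * t = 1)
    (hn : ∀ k ∈ K, t * k * t⁻¹ ∈ K) (ht : t ∉ K) (f : G → A) :
    ∑ᶠ x : h12ext2 K t htt hn, f x = ∑ᶠ x : K, f x + ∑ᶠ x : K, f (x * t) := by
  have hti := h12inv_of_sq htt
  have e1 : ∑ᶠ x : h12ext2 K t htt hn, f x = ∑ᶠ x ∈ ((h12ext2 K t htt hn : Subgroup G) : Set G), f x :=
    finsum_set_coe_eq_finsum_mem (f := f) ((h12ext2 K t htt hn : Subgroup G) : Set G)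
  have e2 : ∑ᶠ x : K, f x = ∑ᶠ x ∈ (K : Set G), f x :=
    finsum_set_coe_eq_finsum_mem (f := f) (K : Set G)
  have e3 : ∑ᶠ x : K, f (x * t) = ∑ᶠ x ∈ (K : Set G), f (x * t) :=
    finsum_set_coe_eq_finsum_mem (f := fun x => f (x * t)) (K : Set G)
  have hset : ((h12ext2 K t htt hn : Subgroup G) : Set G) = (K : Set G) ∪ (fun x => x * t) '' (K : Set G) := by
    ext x
    simp only [SetLike.mem_coe, h12mem_ext2, Set.mem_union, Set.mem_image]
    constructor
    · rintro (hx | hx)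
      · exact Or.inl hx
      · refine Or.inr ⟨x * t, hx, ?_⟩
        rw [mul_assoc, htt, mul_one]
    · rintro (hx | ⟨y, hy, rfl⟩)
      · exact Or.inl hx
      · right
        rw [mul_assoc, htt, mul_one]; exact hy
  have hdisj : Disjoint (K : Set G) ((fun x => x * t) '' (K : Set G)) := by
    rw [Set.disjoint_left]
    rintro x hx ⟨y, hy, rfl⟩
    apply ht
    have : t = y⁻¹ * (y * t) := by group
    rw [this]; exact K.mul_mem (K.inv_mem hy) hx
  rw [e1, e2, e3, hset, finsum_mem_union hdisj (Set.toFinite _) (Set.toFinite _)]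
  congr 1
  exact finsum_mem_image (fun x _ y _ hxy => mul_right_cancel hxy)

theorem h12card_eq_finsum [Finite G] (H : Subgroup G) : Nat.card H = ∑ᶠ _x : H, 1 := by
  classical
  have : Fintype H := Fintype.ofFinite H
  rw [finsum_eq_sum_of_fintype, Finset.sum_const, Finset.card_univ, Nat.card_eq_fintype_card]
  simp

theorem h12ext2_card [Finite G] (K : Subgroup G) (t : G) (htt : t * t = 1)
    (hn : ∀ k ∈ K, t * k * t⁻¹ ∈ K) (ht : t ∉ K) :
    Nat.card (h12ext2 K t htt hn) = 2 * Nat.card K := by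
  rw [h12card_eq_finsum, h12ext2_sum K t htt hn ht (fun _ => 1), ← h12card_eq_finsum]
  ring

theorem h12bot_sum {A : Type*} [AddCommMonoid A] (f : G → A) :
    ∑ᶠ x : (⊥ : Subgroup G), f x = f 1 := by
  rw [finsum_unique]
  rfl

theorem h12mem_cyc3 {a : G} (ha : orderOf a = 3) {x : G} :
    x ∈ Subgroup.zpowers a ↔ (x = 1 ∨ x = a ∨ x = a⁻¹) := by
  have h3 : a ^ 3 = 1 := by rw [← ha]; exact pow_orderOf_eq_one a
  have h2 : a ^ 2 = a⁻¹ := by
    rw [eq_inv_iff_mul_eq_one, ← pow_succ]; exact h3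
  constructor
  · rintro ⟨k, rfl⟩
    have hk : a ^ k = a ^ (k % 3) := by
      have := zpow_mod_orderOf a k
      rw [ha] at this
      exact_mod_cast this.symm
    have hlt : k % 3 < 3 := Int.emod_lt_of_pos _ (by norm_num)
    have hge : 0 ≤ k % 3 := Int.emod_nonneg _ (by norm_num)
    have : k % 3 = 0 ∨ k % 3 = 1 ∨ k % 3 = 2 := by omega
    rcases this with e | e | e
    · left; show a ^ k = 1; rw [hk, e, zpow_zero]
    · right; left; show a ^ k = a; rw [hk, e, zpow_one]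
    · right; right; show a ^ k = a⁻¹; rw [hk, e]; exact_mod_cast h2
  · rintro (rfl | rfl | rfl)
    · exact one_mem _
    · exact Subgroup.mem_zpowers _
    · exact inv_mem (Subgroup.mem_zpowers _)

theorem h12cyc3_sum {A : Type*} [AddCommMonoid A] {a : G} (ha : orderOf a = 3) (f : G → A) :
    ∑ᶠ x : Subgroup.zpowers a, f x = f 1 + f a + f a⁻¹ := by
  have h3 : a ^ 3 = 1 := by rw [← ha]; exact pow_orderOf_eq_one a
  have ha1 : a ≠ 1 := by
    intro h; rw [h, orderOf_one] at ha; omega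
  have hai : a⁻¹ ≠ a := by
    intro h
    apply ha1
    have h2 : a * a = 1 := by
      calc a * a = a⁻¹⁻¹ * a := by rw [inv_inv]
        _ = a⁻¹ * a := by rw [h, h]
        _ = 1 := inv_mul_cancel a
    calc a = (a * a) * a := by rw [h2, one_mul]
      _ = a ^ 3 := by rw [pow_succ, pow_two]
      _ = 1 := h3
  have e1 : ∑ᶠ x : Subgroup.zpowers a, f x = ∑ᶠ x ∈ ((Subgroup.zpowers a : Subgroup G) : Set G), f x :=
    finsum_set_coe_eq_finsum_mem (f := f) ((Subgroup.zpowers a : Subgroup G) : Set G)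
  have hset : ((Subgroup.zpowers a : Subgroup G) : Set G) = insert 1 {a, a⁻¹} := by
    ext x
    simp only [SetLike.mem_coe, h12mem_cyc3 ha, Set.mem_insert_iff, Set.mem_singleton_iff]
  rw [e1, hset, finsum_mem_insert, finsum_mem_pair, add_assoc]
  · exact fun h => hai h.symm
  · simp only [Set.mem_insert_iff, Set.mem_singleton_iff, not_or]
    refine ⟨fun h => ha1 h.symm, fun h => ha1 ?_⟩
    rw [← inv_inv a, ← h, inv_one]
  · exact Set.toFinite _

end tools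

section main
variable {G : Type*} [Group G] {M : Subgroup G} {a b t1 t2 s : G}

/-- `x t` and `x⁻¹ t` are conjugate to `t` when `t` inverts the element `x` of order 3 -/
theorem h12conj_inv3 {x t : G} (hx : x ^ 3 = 1) (ht : t * x * t⁻¹ = x⁻¹) :
    x⁻¹ * t * x⁻¹⁻¹ = x * t ∧ x * t * x⁻¹ = x⁻¹ * t := by
  have h1 : t * x = x⁻¹ * t := mul_inv_eq_iff_eq_mul.mp ht
  have h2 : t * x⁻¹ = x * t := by
    have : t * x⁻¹ * t⁻¹ = x := by
      have : t * x⁻¹ * t⁻¹ = (t * x * t⁻¹)⁻¹ := by group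
      rw [this, ht, inv_inv]
    exact mul_inv_eq_iff_eq_mul.mp this
  have h3 : x⁻¹ * x⁻¹ = x := by
    have : x = x ^ 3 * (x⁻¹ * x⁻¹) := by
      rw [pow_succ, pow_two]; group
    rw [hx, one_mul] at this
    exact this.symm
  have h4 : x * x = x⁻¹ := by
    rw [eq_inv_iff_mul_eq_one, ← pow_two, ← pow_succ]; exact hx
  constructor
  · rw [inv_inv, mul_assoc, h1, ← mul_assoc, h3]
  · rw [mul_assoc, h2, ← mul_assoc, h4]

theorem h12conj_inv {x t : G} : t * x⁻¹ * t⁻¹ = (t * x * t⁻¹)⁻¹ := by group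

theorem h12_M_comm (h : Hyp G M a b t1 t2 s) {m : G} (hm : m ∈ M) : Commute m a ∧ Commute m b := by
  have hab : Commute a b := h.comm
  rcases (h.mem m).1 hm with rfl | rfl | rfl | rfl | rfl | rfl | rfl | rfl | rfl
  · exact ⟨Commute.one_left _, Commute.one_left _⟩
  · exact ⟨Commute.refl _, hab⟩
  · exact ⟨(Commute.refl _).inv_left, hab.inv_left⟩
  · exact ⟨hab.symm, Commute.refl _⟩
  · exact ⟨hab.symm.inv_left, (Commute.refl _).inv_left⟩
  · exact ⟨(Commute.refl _).mul_left hab.symm, hab.mul_left (Commute.refl _)⟩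
  · exact ⟨(Commute.refl _).mul_left hab.symm.inv_left, hab.mul_left (Commute.refl _).inv_left⟩
  · exact ⟨(Commute.refl _).inv_left.mul_left hab.symm, hab.inv_left.mul_left (Commute.refl _)⟩
  · exact ⟨(Commute.refl _).inv_left.mul_left hab.symm.inv_left,
      hab.inv_left.mul_left (Commute.refl _).inv_left⟩

theorem h12_a_ne_inv (h : Hyp G M a b t1 t2 s) : a⁻¹ ≠ a ∧ b⁻¹ ≠ b ∧ a ^ 3 = 1 ∧ b ^ 3 = 1 := by
  have a3 : a ^ 3 = 1 := by rw [← h.oa]; exact pow_orderOf_eq_one a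
  have b3 : b ^ 3 = 1 := by rw [← h.ob]; exact pow_orderOf_eq_one b
  have key : ∀ x : G, orderOf x = 3 → x⁻¹ ≠ x := by
    intro x hx hxx
    have x3 : x ^ 3 = 1 := by rw [← hx]; exact pow_orderOf_eq_one x
    have h2 : x * x = 1 := by
      calc x * x = x⁻¹ * x := by rw [hxx]
        _ = 1 := inv_mul_cancel x
    have : x = 1 := by
      calc x = (x * x) * x := by rw [h2, one_mul]
        _ = x ^ 3 := by rw [pow_succ, pow_two]
        _ = 1 := x3
    rw [this, orderOf_one] at hx; omega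
  exact ⟨key a h.oa, key b h.ob, a3, b3⟩

/-- the core of FSPAR: `quat_parity` from the conclusions of FSEVEN and FSCOSET -/
theorem quat_parity_of [Finite G] (h : Hyp G M a b t1 t2 s) (χ : IrrCharacter G)
    (heven : ∀ H : Subgroup G, ∃ k : ℤ, ∑ᶠ x : H, (χ : G → ℂ) x = 2 * k * (Nat.card H : ℂ))
    (hcos : (∑ᶠ x : M, (χ : G → ℂ) x = (χ : G → ℂ) 1 + 4 * (χ : G → ℂ) a + 4 * (χ : G → ℂ) (a * b)) ∧
      (∑ᶠ x : M, (χ : G → ℂ) (x * t1) = 3 * (χ : G → ℂ) t1 + 6 * (χ : G → ℂ) (a * t2)) ∧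
      (∑ᶠ x : M, (χ : G → ℂ) (x * t2) = 3 * (χ : G → ℂ) t1 + 6 * (χ : G → ℂ) (a * t2)) ∧
      (∑ᶠ x : M, (χ : G → ℂ) (x * (t1 * t2)) = 9 * (χ : G → ℂ) (t1 * t2)))
    (p q r : ℤ)
    (hp : (χ : G → ℂ) a = (p : ℂ)) (hq : (χ : G → ℂ) (a * b) = (q : ℂ))
    (hr : (χ : G → ℂ) (a * t2) = (r : ℂ)) :
    (2 : ℤ) ∣ p ∧ (12 : ℤ) ∣ p + 2 * q + 3 * r := by
  obtain ⟨hai, hbi, a3, b3⟩ := h12_a_ne_inv h
  obtain ⟨hM0, hM1, hM2, hM12⟩ := hcos
  have t1i : t1⁻¹ = t1 := h12inv_of_sq h.t1sq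
  have t2i : t2⁻¹ = t2 := h12inv_of_sq h.t2sq
  have si : s⁻¹ = s := h12inv_of_sq h.ssq
  have ct12 : Commute t1 t2 := h.t12
  have ct1b : Commute t1 b := mul_inv_eq_iff_eq_mul.mp h.t1b
  have ct2a : Commute t2 a := mul_inv_eq_iff_eq_mul.mp h.t2a
  -- `t1 t2` inverts `a` and `b`
  have t12a : (t1 * t2) * a * (t1 * t2)⁻¹ = a⁻¹ := by
    have : (t1 * t2) * a * (t1 * t2)⁻¹ = t1 * (t2 * a * t2⁻¹) * t1⁻¹ := by group
    rw [this, h.t2a, h.t1a]
  have t12b : (t1 * t2) * b * (t1 * t2)⁻¹ = b⁻¹ := by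
    have : (t1 * t2) * b * (t1 * t2)⁻¹ = t1 * (t2 * b * t2⁻¹) * t1⁻¹ := by group
    rw [this, h.t2b, h12conj_inv, h.t1b]
  -- non-membership facts
  have hnc : ∀ x : G, Commute x a → x * a * x⁻¹ ≠ a⁻¹ := by
    intro x hx hxa
    apply hai
    rw [← hxa, hx.eq]; group
  have hncb : ∀ x : G, Commute x b → x * b * x⁻¹ ≠ b⁻¹ := by
    intro x hx hxb
    apply hbi
    rw [← hxb, hx.eq]; group
  have t1M : t1 ∉ M := fun hm => hnc t1 (h12_M_comm h hm).1 h.t1a
  have t2M : t2 ∉ M := fun hm => hncb t2 (h12_M_comm h hm).2 h.t2b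
  have t1ne : t1 ≠ 1 := fun e => t1M (e ▸ M.one_mem)
  -- the subgroups
  -- H1 = <t1>
  have n1 : ∀ k ∈ (⊥ : Subgroup G), t1 * k * t1⁻¹ ∈ (⊥ : Subgroup G) := by
    intro k hk
    rw [Subgroup.mem_bot] at hk ⊢
    rw [hk]; group
  have t1bot : t1 ∉ (⊥ : Subgroup G) := by rw [Subgroup.mem_bot]; exact t1ne
  -- H6 = <a, t1>
  have n6 : ∀ k ∈ Subgroup.zpowers a, t1 * k * t1⁻¹ ∈ Subgroup.zpowers a := by
    intro k hk
    rw [h12mem_cyc3 h.oa] at hk ⊢
    rcases hk with rfl | rfl | rfl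
    · left; group
    · right; right; exact h.t1a
    · right; left; rw [h12conj_inv, h.t1a, inv_inv]
  have aM : Subgroup.zpowers a ≤ M := by
    rw [Subgroup.zpowers_le]
    exact (h.mem a).2 (Or.inr (Or.inl rfl))
  have bM : Subgroup.zpowers b ≤ M := by
    rw [Subgroup.zpowers_le]
    exact (h.mem b).2 (Or.inr (Or.inr (Or.inr (Or.inl rfl))))
  have t1a' : t1 ∉ Subgroup.zpowers a := fun hm => t1M (aM hm)
  -- H18 = M <t1>
  have n18 : ∀ k ∈ M, t1 * k * t1⁻¹ ∈ M := fun k hk => (Subgroup.mem_normalizer_iff.mp h.ht1 k).1 hk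
  -- H36 = M <t1, t2>
  have n36 : ∀ k ∈ h12ext2 M t1 h.t1sq n18, t2 * k * t2⁻¹ ∈ h12ext2 M t1 h.t1sq n18 := by
    intro k hk
    rw [h12mem_ext2] at hk ⊢
    rcases hk with hk | hk
    · exact Or.inl ((Subgroup.mem_normalizer_iff.mp h.ht2 k).1 hk)
    · right
      have : t2 * k * t2⁻¹ * t1 = t2 * (k * t1) * t2⁻¹ := by
        rw [t2i]
        calc t2 * k * t2 * t1 = t2 * k * (t2 * t1) := by simp only [mul_assoc]
          _ = t2 * k * (t1 * t2) := by rw [ct12.eq]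
          _ = t2 * (k * t1) * t2 := by simp only [mul_assoc]
      rw [this]
      exact (Subgroup.mem_normalizer_iff.mp h.ht2 _).1 hk
  have t2H18 : t2 ∉ h12ext2 M t1 h.t1sq n18 := by
    rw [h12mem_ext2]
    rintro (hm | hm)
    · exact t2M hm
    · refine hnc (t2 * t1) (h12_M_comm h hm).1 ?_
      rw [← ct12.eq]; exact t12a
  -- H6' = <b, t2>
  have n6' : ∀ k ∈ Subgroup.zpowers b, t2 * k * t2⁻¹ ∈ Subgroup.zpowers b := by
    intro k hk
    rw [h12mem_cyc3 h.ob] at hk ⊢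
    rcases hk with rfl | rfl | rfl
    · left; group
    · right; right; exact h.t2b
    · right; left; rw [h12conj_inv, h.t2b, inv_inv]
  have t2b' : t2 ∉ Subgroup.zpowers b := fun hm => t2M (bM hm)
  -- H12 = <t1> x <b, t2>
  have c12 : ∀ k ∈ h12ext2 (Subgroup.zpowers b) t2 h.t2sq n6', Commute t1 k := by
    intro k hk
    rw [h12mem_ext2] at hk
    have hb : ∀ y ∈ Subgroup.zpowers b, Commute t1 y := by
      intro y hy
      rw [h12mem_cyc3 h.ob] at hy
      rcases hy with rfl | rfl | rfl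
      · exact Commute.one_right _
      · exact ct1b
      · exact ct1b.inv_right
    rcases hk with hk | hk
    · exact hb k hk
    · have : k = (k * t2) * t2 := by rw [mul_assoc, h.t2sq, mul_one]
      rw [this]
      exact (hb _ hk).mul_right ct12
  have n12 : ∀ k ∈ h12ext2 (Subgroup.zpowers b) t2 h.t2sq n6',
      t1 * k * t1⁻¹ ∈ h12ext2 (Subgroup.zpowers b) t2 h.t2sq n6' := by
    intro k hk
    have : t1 * k * t1⁻¹ = k := by rw [(c12 k hk).eq]; group
    rw [this]; exact hk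
  have t1H6' : t1 ∉ h12ext2 (Subgroup.zpowers b) t2 h.t2sq n6' := by
    rw [h12mem_ext2]
    rintro (hm | hm)
    · exact t1M (bM hm)
    · exact hnc (t1 * t2) (h12_M_comm h (bM hm)).1 t12a
  -- class function facts
  set f : G → ℂ := (χ : G → ℂ) with hf
  have fa' : f a⁻¹ = f a := by rw [← h.t1a]; exact irr_conj χ a t1
  have fb : f b = f a := by rw [← h.sa]; exact irr_conj χ a s
  have fb' : f b⁻¹ = f a := by rw [← h.t2b, ← fb]; exact irr_conj χ b t2
  have ft2 : f t2 = f t1 := by rw [← h.st1]; exact irr_conj χ t1 s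
  obtain ⟨ea1, ea2⟩ := h12conj_inv3 a3 h.t1a
  obtain ⟨eb1, eb2⟩ := h12conj_inv3 b3 h.t2b
  obtain ⟨ec1, ec2⟩ := h12conj_inv3 b3 t12b
  have fat1 : f (a * t1) = f t1 := by rw [← ea1]; exact irr_conj χ t1 a⁻¹
  have fat1' : f (a⁻¹ * t1) = f t1 := by rw [← ea2]; exact irr_conj χ t1 a
  have fbt2 : f (b * t2) = f t1 := by rw [← eb1, ← ft2]; exact irr_conj χ t2 b⁻¹
  have fbt2' : f (b⁻¹ * t2) = f t1 := by rw [← eb2, ← ft2]; exact irr_conj χ t2 b
  have fbt12 : f (b * (t1 * t2)) = f (t1 * t2) := by rw [← ec1]; exact irr_conj χ (t1 * t2) b⁻¹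
  have fbt12' : f (b⁻¹ * (t1 * t2)) = f (t1 * t2) := by rw [← ec2]; exact irr_conj χ (t1 * t2) b
  have fbt1 : f (b * t1) = f (a * t2) := by
    have : a * t2 = s * (b * t1) * s⁻¹ := by
      rw [← h.sb, ← h.st1]; group
    rw [this]; exact (irr_conj χ (b * t1) s).symm
  have fbt1' : f (b⁻¹ * t1) = f (a * t2) := by
    have : b⁻¹ * t1 = t2 * (b * t1) * t2⁻¹ := by
      have e1 : t2 * (b * t1) * t2⁻¹ = (t2 * b * t2⁻¹) * (t2 * t1 * t2⁻¹) := by group
      have e2 : t2 * t1 * t2⁻¹ = t1 := by rw [← ct12.eq]; group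
      rw [e1, h.t2b, e2]
    rw [this, ← fbt1]; exact irr_conj χ (b * t1) t2
  -- the six sums
  obtain ⟨k0, hk0⟩ := heven ⊥
  obtain ⟨k1, hk1⟩ := heven (h12ext2 ⊥ t1 h.t1sq n1)
  obtain ⟨k2, hk2⟩ := heven (h12ext2 (Subgroup.zpowers a) t1 h.t1sq n6)
  obtain ⟨k3, hk3⟩ := heven (h12ext2 M t1 h.t1sq n18)
  obtain ⟨k4, hk4⟩ := heven (h12ext2 (h12ext2 (Subgroup.zpowers b) t2 h.t2sq n6') t1 h.t1sq n12)
  obtain ⟨k5, hk5⟩ := heven (h12ext2 (h12ext2 M t1 h.t1sq n18) t2 h.t2sq n36)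
  have s0 : ∑ᶠ x : (⊥ : Subgroup G), f x = f 1 := h12bot_sum f
  have s1 : ∑ᶠ x : h12ext2 ⊥ t1 h.t1sq n1, f x = f 1 + f (1 * t1) := by
    rw [h12ext2_sum _ _ _ _ t1bot f, h12bot_sum f, h12bot_sum (fun x => f (x * t1))]
  have s2 : ∑ᶠ x : h12ext2 (Subgroup.zpowers a) t1 h.t1sq n6, f x =
      (f 1 + f a + f a⁻¹) + (f (1 * t1) + f (a * t1) + f (a⁻¹ * t1)) := by
    rw [h12ext2_sum _ _ _ _ t1a' f, h12cyc3_sum h.oa f, h12cyc3_sum h.oa (fun x => f (x * t1))]
  have s3 : ∑ᶠ x : h12ext2 M t1 h.t1sq n18, f x =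
      (f 1 + 4 * f a + 4 * f (a * b)) + (3 * f t1 + 6 * f (a * t2)) := by
    rw [h12ext2_sum _ _ _ _ t1M f, hM0, hM1]
  have s4 : ∑ᶠ x : h12ext2 (h12ext2 (Subgroup.zpowers b) t2 h.t2sq n6') t1 h.t1sq n12, f x =
      ((f 1 + f b + f b⁻¹) + (f (1 * t2) + f (b * t2) + f (b⁻¹ * t2))) +
      ((f (1 * t1) + f (b * t1) + f (b⁻¹ * t1)) +
        (f (1 * t2 * t1) + f (b * t2 * t1) + f (b⁻¹ * t2 * t1))) := by
    rw [h12ext2_sum _ _ _ _ t1H6' f, h12ext2_sum _ _ _ _ t2b' f,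
      h12ext2_sum _ _ _ _ t2b' (fun x => f (x * t1)), h12cyc3_sum h.ob f,
      h12cyc3_sum h.ob (fun x => f (x * t2)), h12cyc3_sum h.ob (fun x => f (x * t1)),
      h12cyc3_sum h.ob (fun x => f (x * t2 * t1))]
  have hM12' : ∑ᶠ x : M, f (x * t1 * t2) = 9 * f (t1 * t2) := by
    rw [← hM12]
    exact finsum_congr (fun x => by rw [mul_assoc])
  have s5 : ∑ᶠ x : h12ext2 (h12ext2 M t1 h.t1sq n18) t2 h.t2sq n36, f x =
      ((f 1 + 4 * f a + 4 * f (a * b)) + (3 * f t1 + 6 * f (a * t2))) +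
      ((3 * f t1 + 6 * f (a * t2)) + 9 * f (t1 * t2)) := by
    rw [h12ext2_sum _ _ _ _ t2H18 f, h12ext2_sum _ _ _ _ t1M f,
      h12ext2_sum _ _ _ _ t1M (fun x => f (x * t2)), hM0, hM1, hM2, hM12']
  have c0 : Nat.card (⊥ : Subgroup G) = 1 := Subgroup.card_bot
  have c1 : Nat.card (h12ext2 ⊥ t1 h.t1sq n1) = 2 := by
    rw [h12ext2_card _ _ _ _ t1bot, c0]
  have c2 : Nat.card (h12ext2 (Subgroup.zpowers a) t1 h.t1sq n6) = 6 := by
    rw [h12ext2_card _ _ _ _ t1a', Nat.card_zpowers, h.oa]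
  have c3 : Nat.card (h12ext2 M t1 h.t1sq n18) = 18 := by
    rw [h12ext2_card _ _ _ _ t1M, h.card]
  have c4 : Nat.card (h12ext2 (h12ext2 (Subgroup.zpowers b) t2 h.t2sq n6') t1 h.t1sq n12) = 12 := by
    rw [h12ext2_card _ _ _ _ t1H6', h12ext2_card _ _ _ _ t2b', Nat.card_zpowers, h.ob]
  have c5 : Nat.card (h12ext2 (h12ext2 M t1 h.t1sq n18) t2 h.t2sq n36) = 36 := by
    rw [h12ext2_card _ _ _ _ t2H18, c3]
  rw [s0, c0] at hk0
  rw [s1, c1] at hk1
  rw [s2, c2] at hk2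
  rw [s3, c3] at hk3
  rw [s4, c4] at hk4
  rw [s5, c5] at hk5
  have e21 : f (t2 * t1) = f (t1 * t2) := by rw [ct12.eq]
  have eb21 : f (b * t2 * t1) = f (t1 * t2) := by rw [mul_assoc, ← ct12.eq, fbt12]
  have eb21' : f (b⁻¹ * t2 * t1) = f (t1 * t2) := by rw [mul_assoc, ← ct12.eq, fbt12']
  rw [one_mul] at hk1
  rw [one_mul, fa', fat1, fat1'] at hk2
  rw [one_mul, one_mul, e21, eb21, eb21', fb, fb', ft2, fbt2, fbt2', fbt1, fbt1'] at hk4
  rw [hp, hq, hr] at hk3 hk5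
  rw [hp] at hk2
  rw [hp, hr] at hk4
  push_cast at hk0 hk1 hk2 hk3 hk4 hk5
  constructor
  · refine ⟨3 * k2 - 3 * k1 + k0, ?_⟩
    have : (p : ℂ) = ((2 * (3 * k2 - 3 * k1 + k0) : ℤ) : ℂ) := by
      push_cast
      linear_combination (1/2 : ℂ) * hk2 - (3/2 : ℂ) * hk1 + hk0
    exact_mod_cast this
  · refine ⟨k3 - k4 + k5, ?_⟩
    have : ((p + 2 * q + 3 * r : ℤ) : ℂ) = ((12 * (k3 - k4 + k5) : ℤ) : ℂ) := by
      push_cast
      linear_combination (1/3 : ℂ) * hk3 - (1/2 : ℂ) * hk4 + (1/6 : ℂ) * hk5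
    exact_mod_cast this

end main

end Cfsg.Agent.Lib.Helper12_D8_FSPARaux
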