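import Mathlib
import Cfsg.Agent.Lib.Helper1_D8Defs

/-!
# S3716 market (`d8_packages`, architect helper1), package FSCOSET: the sums of a class function
over the cosets `M`, `M t1`, `M t2`, `M t1 t2`.
-/

set_option autoImplicit false
open scoped ComplexConjugate

namespace Cfsg.Agent.Lib.Helper29_D8_FSCOSET
open Cfsg Cfsg.Agent.Lib.Helper80_CharBasic Cfsg.Agent.Lib.Helper1_D8Defs

section grp
variable {G : Type*} [Group G] [Finite G]
variable {M : Subgroup G} {a b t1 t2 s : G}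

/-- the nine elements of `M` -/
theorem h29_sum_M (h : Hyp G M a b t1 t2 s) (F : G → ℂ) :
    ∑ᶠ x : M, F x = ∑ i : Fin 3, ∑ j : Fin 3, F (a ^ (i : ℕ) * b ^ (j : ℕ)) := by
  have ha3 : a ^ 3 = 1 := by rw [← h.oa]; exact pow_orderOf_eq_one a
  have hb3 : b ^ 3 = 1 := by rw [← h.ob]; exact pow_orderOf_eq_one b
  have haM : a ∈ M := (h.mem a).mpr (Or.inr (Or.inl rfl))
  have hbM : b ∈ M := (h.mem b).mpr (Or.inr (Or.inr (Or.inr (Or.inl rfl))))
  have hainv : a⁻¹ = a ^ 2 := by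
    rw [inv_eq_iff_mul_eq_one, ← pow_succ']; exact ha3
  have hbinv : b⁻¹ = b ^ 2 := by
    rw [inv_eq_iff_mul_eq_one, ← pow_succ']; exact hb3
  let φ : Fin 3 × Fin 3 → M := fun p =>
    ⟨a ^ (p.1 : ℕ) * b ^ (p.2 : ℕ), M.mul_mem (M.pow_mem haM _) (M.pow_mem hbM _)⟩
  have hsurj : Function.Surjective φ := by
    rintro ⟨t, ht⟩
    rcases (h.mem t).mp ht with rfl | rfl | rfl | rfl | rfl | rfl | rfl | rfl | rfl
    · exact ⟨(0, 0), Subtype.ext (by simp [φ])⟩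
    · exact ⟨(1, 0), Subtype.ext (by simp [φ])⟩
    · exact ⟨(2, 0), Subtype.ext (by simp [φ, hainv])⟩
    · exact ⟨(0, 1), Subtype.ext (by simp [φ])⟩
    · exact ⟨(0, 2), Subtype.ext (by simp [φ, hbinv])⟩
    · exact ⟨(1, 1), Subtype.ext (by simp [φ])⟩
    · exact ⟨(1, 2), Subtype.ext (by simp [φ, hbinv])⟩
    · exact ⟨(2, 1), Subtype.ext (by simp [φ, hainv])⟩
    · exact ⟨(2, 2), Subtype.ext (by simp [φ, hainv, hbinv])⟩
  have hbij : Function.Bijective φ := by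
    haveI : Finite M := inferInstance
    refine (Nat.bijective_iff_surjective_and_card φ).mpr ⟨hsurj, ?_⟩
    rw [h.card]; simp
  rw [← finsum_comp_equiv (Equiv.ofBijective φ hbij), finsum_eq_sum_of_fintype,
    Fintype.sum_prod_type]
  rfl

/-- cyclic invariance of a character -/
theorem h29_cyc (χ : IrrCharacter G) (x y : G) :
    (χ : G → ℂ) (x * y) = (χ : G → ℂ) (y * x) := by
  rw [← irr_conj χ (y * x) x]
  refine congrArg (χ : G → ℂ) ?_
  group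

theorem h29_step (χ : IrrCharacter G) (x w t : G) (ht : t * x = x⁻¹ * t) (hw : w * x = x * w) :
    (χ : G → ℂ) (x * (x * (w * t))) = (χ : G → ℂ) (w * t) := by
  rw [h29_cyc χ x]
  refine congrArg (χ : G → ℂ) ?_
  calc x * (w * t) * x = x * w * (t * x) := by group
    _ = x * w * (x⁻¹ * t) := by rw [ht]
    _ = x * (w * x⁻¹) * t := by group
    _ = x * (x⁻¹ * w) * t := by
        have : w * x⁻¹ = x⁻¹ * w := by
          rw [eq_inv_mul_iff_mul_eq, ← mul_assoc, ← hw, mul_assoc, mul_inv_cancel, mul_one]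
        rw [this]
    _ = w * t := by group

theorem h29_all (χ : IrrCharacter G) (x w t : G) (hx : x ^ 3 = 1) (ht : t * x = x⁻¹ * t)
    (hw : w * x = x * w) (i : Fin 3) :
    (χ : G → ℂ) (x ^ (i : ℕ) * w * t) = (χ : G → ℂ) (w * t) := by
  have hxinv : x⁻¹ * x⁻¹ = x := by
    have : x * x * x = 1 := by rw [← hx, pow_succ, pow_two]
    calc x⁻¹ * x⁻¹ = x⁻¹ * x⁻¹ * (x * x * x) := by rw [this, mul_one]
      _ = x := by group
  fin_cases i
  · simp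
  · have ht' : t * x⁻¹ = x⁻¹⁻¹ * t := by
      rw [inv_inv]
      calc t * x⁻¹ = x * (x⁻¹ * t) * x⁻¹ := by group
        _ = x * (t * x) * x⁻¹ := by rw [ht]
        _ = x * t := by group
    have hw' : w * x⁻¹ = x⁻¹ * w := by
      rw [eq_inv_mul_iff_mul_eq, ← mul_assoc, ← hw, mul_assoc, mul_inv_cancel, mul_one]
    have h1 := h29_step χ x⁻¹ w t ht' hw'
    rw [← h1]
    refine congrArg (χ : G → ℂ) ?_
    show x ^ 1 * w * t = x⁻¹ * (x⁻¹ * (w * t))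
    rw [pow_one, ← mul_assoc, ← mul_assoc, hxinv, mul_assoc]
  · have h1 := h29_step χ x w t ht hw
    rw [← h1]
    refine congrArg (χ : G → ℂ) ?_
    show x ^ 2 * w * t = x * (x * (w * t))
    simp only [pow_two, mul_assoc]

theorem h29_conj2 (χ : IrrCharacter G) (g x y x' y' : G) (hx : g * x * g⁻¹ = x')
    (hy : g * y * g⁻¹ = y') : (χ : G → ℂ) (x' * y') = (χ : G → ℂ) (x * y) := by
  rw [← hx, ← hy, conj_mul, irr_conj]

/-! ### FSCOSET: the sums of a character over the cosets `M, M t1, M t2, M t1 t2` -/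
theorem coset_sums (h : Hyp G M a b t1 t2 s) (χ : IrrCharacter G) :
    (∑ᶠ x : M, (χ : G → ℂ) x = (χ : G → ℂ) 1 + 4 * (χ : G → ℂ) a + 4 * (χ : G → ℂ) (a * b)) ∧
    (∑ᶠ x : M, (χ : G → ℂ) (x * t1) = 3 * (χ : G → ℂ) t1 + 6 * (χ : G → ℂ) (a * t2)) ∧
    (∑ᶠ x : M, (χ : G → ℂ) (x * t2) = 3 * (χ : G → ℂ) t1 + 6 * (χ : G → ℂ) (a * t2)) ∧
    (∑ᶠ x : M, (χ : G → ℂ) (x * (t1 * t2)) = 9 * (χ : G → ℂ) (t1 * t2)) := by
  have ha3 : a ^ 3 = 1 := by rw [← h.oa]; exact pow_orderOf_eq_one a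
  have hb3 : b ^ 3 = 1 := by rw [← h.ob]; exact pow_orderOf_eq_one b
  have ha2 : a ^ 2 = a⁻¹ := by
    symm; rw [inv_eq_iff_mul_eq_one, ← pow_succ']; exact ha3
  have hb2 : b ^ 2 = b⁻¹ := by
    symm; rw [inv_eq_iff_mul_eq_one, ← pow_succ']; exact hb3
  have ht1inv : t1⁻¹ = t1 := inv_eq_of_mul_eq_one_left h.t1sq
  have ht2inv : t2⁻¹ = t2 := inv_eq_of_mul_eq_one_left h.t2sq
  have hsinv : s⁻¹ = s := inv_eq_of_mul_eq_one_left h.ssq
  -- commutation rules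
  have r1a : t1 * a = a⁻¹ * t1 := mul_inv_eq_iff_eq_mul.mp h.t1a
  have r1b : t1 * b = b * t1 := mul_inv_eq_iff_eq_mul.mp h.t1b
  have r2a : t2 * a = a * t2 := mul_inv_eq_iff_eq_mul.mp h.t2a
  have r2b : t2 * b = b⁻¹ * t2 := mul_inv_eq_iff_eq_mul.mp h.t2b
  have c21 : t2 * t1 * t2⁻¹ = t1 := by rw [← h.t12, mul_assoc, mul_inv_cancel, mul_one]
  have c12 : t1 * t2 * t1⁻¹ = t2 := by rw [h.t12, mul_assoc, mul_inv_cancel, mul_one]
  have rza : t1 * t2 * a = a⁻¹ * (t1 * t2) := by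
    rw [mul_assoc, r2a, ← mul_assoc, r1a, mul_assoc]
  have rzb : t1 * t2 * b = b⁻¹ * (t1 * t2) := by
    rw [mul_assoc, r2b, ← mul_assoc, ← mul_assoc]
    refine congrArg (· * t2) ?_
    show t1 * b⁻¹ = b⁻¹ * t1
    rw [eq_inv_mul_iff_mul_eq, ← mul_assoc, ← r1b, mul_assoc, mul_inv_cancel, mul_one]
  have hcomm : ∀ i j : ℕ, a ^ i * b ^ j = b ^ j * a ^ i := fun i j =>
    ((Commute.pow_pow (show Commute a b from h.comm) i j)).eq
  -- conjugacy facts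
  have st2 : s * t2 * s⁻¹ = t1 := by
    have := h.st1
    rw [← this, hsinv]
    calc s * (s * t1 * s) * s = (s * s) * t1 * (s * s) := by group
      _ = t1 := by rw [h.ssq, one_mul, mul_one]
  refine ⟨?_, ?_, ?_, ?_⟩
  · rw [h29_sum_M h (fun x => (χ : G → ℂ) x)]
    simp only [Fin.sum_univ_three, Fin.val_zero, Fin.val_one, Fin.val_two, pow_zero, pow_one,
      one_mul, mul_one, ha2, hb2]
    have e1 : (χ : G → ℂ) b = (χ : G → ℂ) a := by rw [← h.sa, irr_conj]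
    have e2 : (χ : G → ℂ) a⁻¹ = (χ : G → ℂ) a := by rw [← h.t1a, irr_conj]
    have e3 : (χ : G → ℂ) b⁻¹ = (χ : G → ℂ) a := by rw [← h.t2b, irr_conj, e1]
    have e4 : (χ : G → ℂ) (a * b⁻¹) = (χ : G → ℂ) (a * b) :=
      h29_conj2 χ t2 a b a b⁻¹ h.t2a h.t2b
    have e5 : (χ : G → ℂ) (a⁻¹ * b) = (χ : G → ℂ) (a * b) :=
      h29_conj2 χ t1 a b a⁻¹ b h.t1a h.t1b
    have e6 : (χ : G → ℂ) (a⁻¹ * b⁻¹) = (χ : G → ℂ) (a * b) := by
      rw [← e4]
      exact h29_conj2 χ t1 a b⁻¹ a⁻¹ b⁻¹ h.t1a (by rw [← conj_inv, h.t1b])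
    rw [e1, e2, e3, e4, e5, e6]
    ring
  · rw [h29_sum_M h (fun x => (χ : G → ℂ) (x * t1))]
    have key : ∀ i j : Fin 3, (χ : G → ℂ) (a ^ (i : ℕ) * b ^ (j : ℕ) * t1) =
        (χ : G → ℂ) (b ^ (j : ℕ) * t1) := fun i j =>
      h29_all χ a (b ^ (j : ℕ)) t1 ha3 r1a (by rw [← pow_one a, hcomm, pow_one]) i
    simp only [key]
    simp only [Fin.sum_univ_three, Fin.val_zero, Fin.val_one, Fin.val_two, pow_zero, pow_one,
      one_mul, hb2]
    have e1 : (χ : G → ℂ) (b⁻¹ * t1) = (χ : G → ℂ) (b * t1) :=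
      h29_conj2 χ t2 b t1 b⁻¹ t1 h.t2b c21
    have e2 : (χ : G → ℂ) (a * t2) = (χ : G → ℂ) (b * t1) :=
      h29_conj2 χ s b t1 a t2 h.sb h.st1
    rw [e1, e2]
    ring
  · rw [h29_sum_M h (fun x => (χ : G → ℂ) (x * t2))]
    have key : ∀ i j : Fin 3, (χ : G → ℂ) (a ^ (i : ℕ) * b ^ (j : ℕ) * t2) =
        (χ : G → ℂ) (a ^ (i : ℕ) * t2) := fun i j => by
      rw [hcomm]
      exact h29_all χ b (a ^ (i : ℕ)) t2 hb3 r2b (by rw [← pow_one b, ← hcomm, pow_one]) j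
    simp only [key]
    simp only [Fin.sum_univ_three, Fin.val_zero, Fin.val_one, Fin.val_two, pow_zero, pow_one,
      one_mul, ha2]
    have e1 : (χ : G → ℂ) (a⁻¹ * t2) = (χ : G → ℂ) (a * t2) :=
      h29_conj2 χ t1 a t2 a⁻¹ t2 h.t1a c12
    have e2 : (χ : G → ℂ) t2 = (χ : G → ℂ) t1 := by rw [← h.st1, irr_conj]
    rw [e1, e2]
    ring
  · rw [h29_sum_M h (fun x => (χ : G → ℂ) (x * (t1 * t2)))]
    have key : ∀ i j : Fin 3, (χ : G → ℂ) (a ^ (i : ℕ) * b ^ (j : ℕ) * (t1 * t2)) =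
        (χ : G → ℂ) (t1 * t2) := fun i j => by
      rw [h29_all χ a (b ^ (j : ℕ)) (t1 * t2) ha3 rza (by rw [← pow_one a, hcomm, pow_one]) i]
      have := h29_all χ b 1 (t1 * t2) hb3 rzb (by rw [one_mul, mul_one]) j
      rwa [mul_one, one_mul] at this
    simp only [key]
    simp only [Fin.sum_univ_three]
    ring

end grp

end Cfsg.Agent.Lib.Helper29_D8_FSCOSET
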