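import Mathlib
import Cfsg.Agent.Lib.Helper1_D8Defs
import Cfsg.Agent.Lib.Helper80_CharComplete
import Cfsg.Agent.Lib.Helper12_D8_FSPARaux
import Cfsg.Agent.Lib.Helper29_D8_FSCOSET
import Cfsg.Agent.Lib.Helper11_D8_FSEVEN

/-!
# S3716 market (`d8_packages`, architect helper1), package FSPAR (helper12)

`quat_parity`: for a character of quaternionic type (`ν = -1`), `χ(a)` is even and
`12 ∣ χ(a) + 2 χ(ab) + 3 χ(a t2)`.  Verbatim statement; the proof is `quat_parity_of` (in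
`Helper12_D8_FSPARaux`) fed with FSEVEN (`Helper11_D8_FSEVEN.even_fixed`) and FSCOSET
(`Helper29_D8_FSCOSET.coset_sums`).
-/

set_option autoImplicit false
open scoped ComplexConjugate

namespace Cfsg.Agent.Lib.Helper12_D8_FSPAR
open Cfsg Cfsg.Agent.Lib.Helper80_CharBasic Cfsg.Agent.Lib.Helper1_D8Defs

section grp
variable {G : Type*} [Group G] [Finite G]
variable {M : Subgroup G} {a b t1 t2 s : G}

/-! ### FSPAR: parity of the values of a character of quaternionic type -/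
theorem quat_parity (h : Hyp G M a b t1 t2 s) (χ : IrrCharacter G)
    (hν : ∑ᶠ g : G, (χ : G → ℂ) (g * g) = -(Nat.card G : ℂ)) (p q r : ℤ)
    (hp : (χ : G → ℂ) a = (p : ℂ)) (hq : (χ : G → ℂ) (a * b) = (q : ℂ))
    (hr : (χ : G → ℂ) (a * t2) = (r : ℂ)) :
    (2 : ℤ) ∣ p ∧ (12 : ℤ) ∣ p + 2 * q + 3 * r :=
  Cfsg.Agent.Lib.Helper12_D8_FSPARaux.quat_parity_of h χ
    (fun H => Cfsg.Agent.Lib.Helper11_D8_FSEVEN.even_fixed χ hν H)
    (Cfsg.Agent.Lib.Helper29_D8_FSCOSET.coset_sums h χ) p q r hp hq hr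

end grp

end Cfsg.Agent.Lib.Helper12_D8_FSPAR
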