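import Mathlib
import Cfsg.Agent.Lib.Helper33_DCDefs
import Cfsg.Agent.Lib.Helper84_TutteW_Main
import Cfsg.Prelude.Def_Solvable

/-!
# DC-NRM (helper33's DC market): `V₀ ≤ N ≤ K₀` implies `N` is `H`-invariant

`normal_between_of`: the statement of DC-NRM with the statements of DC-E (`e_mem`) and DC-F (`f_mem`)
as explicit hypotheses.  The verbatim wrapper is `Helper12_DC_NRM.normal_between`.
-/

set_option autoImplicit false
set_option linter.unusedSectionVars false
set_option linter.unusedVariables false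

namespace Cfsg.Agent.Lib.Helper12_DC_NRMaux

open scoped commutatorElement
open Cfsg.Agent.Lib.Helper84_TutteDefs Cfsg.Agent.Lib.Helper33_DCDefs

variable {G : Type*} [Group G] {H P Q0 : Subgroup G} {δ ρ g x0 : G} {s lam : ℕ}

/-- membership of a commutator of generators in an interval subgroup is shift invariant -/
theorem h12comm_mem_shift (g x0 : G) {p q a b : ℤ} (k : ℤ)
    (h : ⁅xs g x0 p, xs g x0 q⁆ ∈ XX g x0 a b) :
    ⁅xs g x0 (p + k), xs g x0 (q + k)⁆ ∈ XX g x0 (a + k) (b + k) := by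
  rw [comm_shift]
  have h1 := conj_mem_cj (u := g ^ (-k)) h
  rw [cj_zpow_XX, sub_neg_eq_add, sub_neg_eq_add] at h1
  have e : (g ^ (-k))⁻¹ = g ^ k := by rw [zpow_neg, inv_inv]
  rw [e] at h1
  exact h1

/-- the abstract core of DC-NRM -/
theorem h12normal_between_core {g x0 : G} {H : Subgroup G} (hsq : x0 * x0 = 1)
    (hl : IsLam g x0 6)
    (hc : ⁅xs g x0 0, xs g x0 6⁆ = xs g x0 3)
    (he : ⁅xs g x0 0, xs g x0 7⁆ ∈ XX g x0 3 4)
    (hf : ⁅xs g x0 0, xs g x0 8⁆ ∈ XX g x0 3 5)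
    (hH : XX g x0 0 9 = H) (N : Subgroup G)
    (h1 : XX g x0 3 6 ≤ N) (h2 : N ≤ XX g x0 1 8) : ∀ u ∈ H, cj u N = N := by
  have hinv : ∀ i : ℤ, (xs g x0 i)⁻¹ = xs g x0 i := fun i => xs_inv hsq i
  have hc' : ⁅xs g x0 0, xs g x0 6⁆ ∈ XX g x0 3 3 := by
    rw [hc]; exact xs_mem_XX le_rfl le_rfl
  -- (A) commutators of generators at distance `≤ 8` inside `[0,9]` lie in `V₀`
  have hA0 : ∀ a b : ℤ, 0 ≤ a → a ≤ b → b ≤ 9 → b - a ≤ 8 →
      ⁅xs g x0 a, xs g x0 b⁆ ∈ XX g x0 3 6 := by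
    intro a b ha hab hb hd
    rcases (by omega : b - a ≤ 5 ∨ b = 6 + a ∨ b = 7 + a ∨ b = 8 + a) with h | h | h | h
    · have : xs g x0 a * xs g x0 b = xs g x0 b * xs g x0 a :=
        hl.commute (by rw [abs_lt]; constructor <;> push_cast <;> omega)
      rw [commutatorElement_eq_one_iff_mul_comm.mpr this]
      exact Subgroup.one_mem _
    · subst h
      have := h12comm_mem_shift g x0 a hc'
      rw [zero_add] at this
      exact XX_mono (by omega) (by omega) this
    · subst h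
      have := h12comm_mem_shift g x0 a he
      rw [zero_add] at this
      exact XX_mono (by omega) (by omega) this
    · subst h
      have := h12comm_mem_shift g x0 a hf
      rw [zero_add] at this
      exact XX_mono (by omega) (by omega) this
  have hA : ∀ a b : ℤ, 0 ≤ a → a ≤ 9 → 0 ≤ b → b ≤ 9 → |a - b| ≤ 8 →
      ⁅xs g x0 a, xs g x0 b⁆ ∈ XX g x0 3 6 := by
    intro a b ha ha' hb hb' hd
    rw [abs_le] at hd
    rcases le_total a b with h | h
    · exact hA0 a b ha h hb' (by omega)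
    · rw [← commutatorElement_inv]
      exact Subgroup.inv_mem _ (hA0 b a hb h ha' (by omega))
  have hconj : ∀ u y : G, u * y * u⁻¹ = ⁅u, y⁆ * y := by
    intro u y; rw [commutatorElement_def]; group
  -- (B), (C): `H` normalises `V₀`
  have hB : ∀ a : ℤ, 0 ≤ a → a ≤ 9 → xs g x0 a ∈ Subgroup.normalizer (XX g x0 3 6 : Set G) := by
    intro a ha ha'
    have hle : cj (xs g x0 a) (XX g x0 3 6) ≤ XX g x0 3 6 := by
      apply conj_XX_le
      intro l hl1 hl2
      rw [hconj]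
      exact Subgroup.mul_mem _ (hA a l ha ha' (by omega) (by omega) (by rw [abs_le]; omega))
        (xs_mem_XX hl1 hl2)
    have hfw : ∀ n ∈ XX g x0 3 6, xs g x0 a * n * (xs g x0 a)⁻¹ ∈ XX g x0 3 6 :=
      fun n hn => hle (conj_mem_cj hn)
    rw [Subgroup.mem_normalizer_iff]
    intro n
    constructor
    · exact hfw n
    · intro hn
      have := hfw _ hn
      rw [hinv a] at this
      have e : xs g x0 a * (xs g x0 a * n * xs g x0 a) * xs g x0 a = n := by
        have h3 := xs_sq (g := g) hsq a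
        calc xs g x0 a * (xs g x0 a * n * xs g x0 a) * xs g x0 a
            = (xs g x0 a * xs g x0 a) * n * (xs g x0 a * xs g x0 a) := by group
          _ = n := by rw [h3, one_mul, mul_one]
      rwa [e] at this
  have hC : H ≤ Subgroup.normalizer (XX g x0 3 6 : Set G) := by
    rw [← hH, XX_le_iff]
    intro l hl1 hl2
    exact hB l hl1 hl2
  have hKH : XX g x0 1 8 ≤ H := by
    rw [← hH]; exact XX_mono (by norm_num) (by norm_num)
  -- (D) `[x_a, k] ∈ V₀` for `k ∈ K₀`
  have hD : ∀ a : ℤ, 0 ≤ a → a ≤ 9 → ∀ k ∈ XX g x0 1 8, ⁅xs g x0 a, k⁆ ∈ XX g x0 3 6 := by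
    intro a ha ha' k hk
    have hnrm : ∀ y ∈ XX g x0 1 8, ∀ v ∈ XX g x0 3 6, y * v * y⁻¹ ∈ XX g x0 3 6 := by
      intro y hy v hv
      exact (Subgroup.mem_normalizer_iff.mp (hC (hKH hy)) v).mp hv
    have key : ∀ k ∈ XX g x0 1 8, k ∈ XX g x0 1 8 ∧ ⁅xs g x0 a, k⁆ ∈ XX g x0 3 6 := by
      intro k hk
      unfold XX at hk
      induction hk using Subgroup.closure_induction with
      | mem y hy =>
        obtain ⟨l, ⟨hl1, hl2⟩, rfl⟩ := hy
        exact ⟨xs_mem_XX hl1 hl2, hA a l ha ha' (by omega) (by omega) (by rw [abs_le]; omega)⟩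
      | one =>
        refine ⟨Subgroup.one_mem _, ?_⟩
        rw [commutatorElement_def]
        simp
      | mul y z _ _ ihy ihz =>
        refine ⟨Subgroup.mul_mem _ ihy.1 ihz.1, ?_⟩
        have e : ⁅xs g x0 a, y * z⁆ = ⁅xs g x0 a, y⁆ * (y * ⁅xs g x0 a, z⁆ * y⁻¹) := by
          rw [commutatorElement_def, commutatorElement_def, commutatorElement_def]; group
        rw [e]
        exact Subgroup.mul_mem _ ihy.2 (hnrm y ihy.1 _ ihz.2)
      | inv y _ ihy =>
        refine ⟨Subgroup.inv_mem _ ihy.1, ?_⟩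
        have e : ⁅xs g x0 a, y⁻¹⁆ = y⁻¹ * ⁅xs g x0 a, y⁆⁻¹ * y⁻¹⁻¹ := by
          rw [commutatorElement_def, commutatorElement_def]; group
        rw [e]
        exact hnrm _ (Subgroup.inv_mem _ ihy.1) _ (Subgroup.inv_mem _ ihy.2)
    exact (key k hk).2
  -- (E) `H` normalises `N`
  have hE : ∀ a : ℤ, 0 ≤ a → a ≤ 9 → xs g x0 a ∈ Subgroup.normalizer (N : Set G) := by
    intro a ha ha'
    have hfw : ∀ n ∈ N, xs g x0 a * n * (xs g x0 a)⁻¹ ∈ N := by
      intro n hn
      rw [hconj]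
      exact Subgroup.mul_mem _ (h1 (hD a ha ha' n (h2 hn))) hn
    rw [Subgroup.mem_normalizer_iff]
    intro n
    constructor
    · exact hfw n
    · intro hn
      have := hfw _ hn
      rw [hinv a] at this
      have e : xs g x0 a * (xs g x0 a * n * xs g x0 a) * xs g x0 a = n := by
        have h3 := xs_sq (g := g) hsq a
        calc xs g x0 a * (xs g x0 a * n * xs g x0 a) * xs g x0 a
            = (xs g x0 a * xs g x0 a) * n * (xs g x0 a * xs g x0 a) := by group
          _ = n := by rw [h3, one_mul, mul_one]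
      rwa [e] at this
  have hHN : H ≤ Subgroup.normalizer (N : Set G) := by
    rw [← hH, XX_le_iff]
    intro l hl1 hl2
    exact hE l hl1 hl2
  intro u hu
  ext y
  rw [mem_cj]
  have h3 := Subgroup.mem_normalizer_iff.mp (Subgroup.inv_mem _ (hHN hu)) y
  rw [inv_inv] at h3
  exact h3.symm

/-- **DC-NRM** with the statements of DC-E and DC-F as hypotheses. -/
theorem normal_between_of
    (he : ∀ {H P Q0 : Subgroup G} {δ ρ x0 : G}, DC10 H P Q0 δ ρ x0 →
      ⁅xs (δ * ρ) x0 0, xs (δ * ρ) x0 7⁆ ∈ XX (δ * ρ) x0 3 4)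
    (hf : ∀ {H P Q0 : Subgroup G} {δ ρ x0 : G}, DC10 H P Q0 δ ρ x0 →
      ⁅xs (δ * ρ) x0 0, xs (δ * ρ) x0 8⁆ ∈ XX (δ * ρ) x0 3 5)
    (h : DC10 H P Q0 δ ρ x0) (N : Subgroup G)
    (h1 : XX (δ * ρ) x0 3 6 ≤ N) (h2 : N ≤ XX (δ * ρ) x0 1 8) : ∀ u ∈ H, cj u N = N := by
  have hH : XX (δ * ρ) x0 0 9 = H := by
    have := h.sys.sys.top
    norm_num at this
    exact this
  exact h12normal_between_core h.sys.sys.sq h.lam h.c (he h) (hf h) hH N h1 h2

end Cfsg.Agent.Lib.Helper12_DC_NRMaux
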