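import Cfsg.Agent.Lib.Helper18_ChevAdd
import Cfsg.Prelude.Def_ChevG2
import Cfsg.Prelude.Def_ChevB2
import Cfsg.Prelude.Def_ChevD4
import Cfsg.Prelude.Def_ChevF4
import Cfsg.Prelude.Def_ChevE6
import Cfsg.Prelude.Def_ChevE7
import Cfsg.Prelude.Def_ChevE8

set_option autoImplicit false

/-! Every positive root that is not fundamental is lowered by a fundamental reflection to a positive root. -/

namespace Cfsg.Agent.Lib.Helper18_ChevJCerts

open Cfsg Cfsg.Lie

/-- The descent property of the positive roots. -/
def Descent (D : ChevalleyDatum) : Prop :=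
  ∀ r < D.nroots, D.IsPosRoot r → (∃ i < D.rank, r = D.simple i) ∨
    ∃ j < D.rank, 0 < D.cartan j r ∧ D.IsPosRoot (D.reflectRoot j r)

instance (D : ChevalleyDatum) : Decidable (Descent D) := by
  unfold Descent
  infer_instance

set_option maxHeartbeats 0 in
theorem descent_all (D : ChevalleyDatum)
    (hD : D ∈ [chevG2, chevB2, chevD4, chevF4, chevE6, chevE7, chevE8]) : Descent D := by
  simp only [List.mem_cons, List.not_mem_nil, or_false] at hD
  rcases hD with rfl | rfl | rfl | rfl | rfl | rfl | rfl
  · decide +kernel
  · decide +kernel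
  · decide +kernel
  · decide +kernel
  · decide +kernel
  · decide +kernel
  · decide +kernel

end Cfsg.Agent.Lib.Helper18_ChevJCerts
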