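import Cfsg.Agent.Lib.Helper18_ChevBNPair
import Cfsg.Agent.Lib.Helper18_ChevJCerts

set_option autoImplicit false

/-!
The Levi decomposition of the standard parabolic subgroups.
-/

namespace Cfsg.Agent.Lib.Helper18_ChevLevi

open Cfsg Cfsg.Lie Cfsg.Agent.Lib.Helper18_ChevFast Cfsg.Agent.Lib.Helper18_ChevEngine
  Cfsg.Agent.Lib.Helper18_ChevR1 Cfsg.Agent.Lib.Helper18_ChevN Cfsg.Agent.Lib.Helper18_ChevR4
  Cfsg.Agent.Lib.Helper18_ChevSimple Cfsg.Agent.Lib.Helper18_ChevSimple2 Cfsg.Agent.Lib.Helper18_ChevFacts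
  Cfsg.Agent.Lib.Helper18_ChevWeyl Cfsg.Agent.Lib.Helper18_ChevDiag Cfsg.Agent.Lib.Helper18_ChevCar
  Cfsg.Agent.Lib.Helper18_ChevTorus Cfsg.Agent.Lib.Helper18_ChevGL Cfsg.Agent.Lib.Helper18_ChevComm
  Cfsg.Agent.Lib.Helper18_ChevComm2 Cfsg.Agent.Lib.Helper18_MatTri Cfsg.Agent.Lib.Helper18_ChevTri
  Cfsg.Agent.Lib.Helper18_ChevBorel Cfsg.Agent.Lib.Helper18_ChevAdd Cfsg.Agent.Lib.Helper18_ChevUni
  Cfsg.Agent.Lib.Helper18_ChevBN Cfsg.Agent.Lib.Helper18_ChevMono Cfsg.Agent.Lib.Helper18_ChevBNPair
  Cfsg.Agent.Lib.Helper18_ChevJCerts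

variable {D : ChevalleyDatum} {Ns : List NData} {F : Type*} [Field F]

/-! ### Gradings -/

/-- `x_r(t)` does not lower a grading that is non-negative on `r`. -/
theorem x_raises_zero {g : ℕ → ℤ} (hg : IsGrading D g) (r : ℕ) (hr : r < D.nroots) (h0 : 0 ≤ g r) (t : F) :
    Raises (grIdx D g) 0 (D.x F r t) := by
  unfold ChevalleyDatum.x
  rw [dif_pos hr]
  intro row col hlt
  rcases col with i | s
  · rcases row with i' | u'
    · simp only [grIdx] at hlt
      omega
    · rw [xMat_inr_inl, if_neg]
      intro h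
      have h' : u'.val = r := h
      simp only [grIdx] at hlt
      rw [h'] at hlt
      omega
  · by_cases hsr : s = ⟨r, hr⟩
    · subst hsr
      rcases row with i' | u'
      · rw [xMat_inl_inr_self]
      · rw [xMat_inr_inr_self, if_neg]
        intro h
        have h' : u'.val = r := h
        simp only [grIdx] at hlt
        rw [h'] at hlt
        omega
    · by_cases hsn : s.val = D.negIdx.getD r 0
      · have hgs : g s.val = - g r := by rw [hsn, hg.neg r hr]
        rcases row with i' | u'
        · simp only [grIdx] at hlt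
          omega
        · rw [xMat_inr_inr_neg D ⟨r, hr⟩ s _ u' hsr hsn]
          by_cases h1 : u'.val = s.val
          · simp only [grIdx] at hlt
            rw [h1] at hlt
            omega
          · rw [if_neg h1, if_neg]
            intro h2
            have h2' : u'.val = r := h2
            simp only [grIdx] at hlt
            rw [h2', hgs] at hlt
            omega
      · rcases row with i' | u'
        · rw [xMat_inl_inr_gen D ⟨r, hr⟩ s _ i' hsr hsn]
        · rw [xMat_inr_inr_gen D ⟨r, hr⟩ s _ u' hsr hsn]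
          have hne : u'.val ≠ s.val := by
            intro h
            simp only [grIdx] at hlt
            rw [h] at hlt
            omega
          rw [if_neg hne, zero_add]
          have hnil : D.chainCoeff r s.val u'.val = [] := by
            rw [List.eq_nil_iff_forall_not_mem]
            intro km hkm
            have h1 := hg.chain r s.val u'.val hr s.isLt u'.isLt km hkm
            simp only [grIdx] at hlt
            have h4 : 0 ≤ (km.1 : ℤ) * g r := by positivity
            omega
          rw [hnil]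
          simp

theorem isGrading_add {g g' : ℕ → ℤ} (h : IsGrading D g) (h' : IsGrading D g') :
    IsGrading D (fun s => g s + g' s) := by
  constructor
  · intro s hs
    rw [h.neg s hs, h'.neg s hs]
    ring
  · intro r s u hr hs hu km hkm
    rw [h.chain r s u hr hs hu km hkm, h'.chain r s u hr hs hu km hkm]
    ring

theorem isGrading_zero : IsGrading D (fun _ => 0) := by
  constructor
  · intro s _; simp
  · intro r s u _ _ _ km _; simp

theorem isGrading_sum {ι : Type*} (S : Finset ι) (g : ι → ℕ → ℤ) (h : ∀ k ∈ S, IsGrading D (g k)) :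
    IsGrading D (fun s => ∑ k ∈ S, g k s) := by
  classical
  induction S using Finset.induction_on with
  | empty => simpa using isGrading_zero
  | insert a S ha ih =>
    have h1 := h a (Finset.mem_insert_self a S)
    have h2 := ih (fun k hk => h k (Finset.mem_insert_of_mem hk))
    have := isGrading_add h1 h2
    convert this using 2
    rw [Finset.sum_insert ha]

/-- The reflection formula for the additive functions. -/
theorem grRoot_reflect (c : DCert D Ns) (i : ℕ) (hi : i < D.rank) (w : List ℤ) (s : ℕ) (hs : s < D.nroots) :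
    grRoot D w (D.reflectRoot i s) = grRoot D w s - grRoot D w (D.simple i) * D.cartan i s := by
  have hs' := c.reflect_lt i hi s hs
  have fs := facts c.rows (c.ncert i hi) _ hs'
  unfold grRoot
  rw [Finset.sum_mul, ← Finset.sum_sub_distrib]
  apply Finset.sum_congr rfl
  intro j hj
  have := fs.car j (Finset.mem_range.mp hj)
  rw [c.reflect_reflect i hi s hs] at this
  rw [this]
  ring

/-! ### Roots inside and outside the subsystem `Φ_J` -/

section

variable {wl : List ℤ} {ws : List (List ℤ)} {sc : ℤ} (J : Set ℕ)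

theorem inRootSub_iff (r : ℕ) : D.InRootSub J r ↔ r < D.nroots ∧ ∀ i < D.rank, i ∉ J → cor D r i = 0 := Iff.rfl

/-- A positive root outside `Φ_J` has a positive coefficient outside `J`. -/
theorem exists_pos_coeff (ac : ACert D wl ws sc) (r : ℕ) (hr : D.IsPosRoot r) (hJ : ¬ D.InRootSub J r) :
    ∃ k < D.rank, k ∉ J ∧ 0 < cf D ws k r := by
  by_contra hcon
  apply hJ
  refine ⟨hr.1, fun k hk hkJ => ?_⟩
  by_contra hne
  apply hcon
  refine ⟨k, hk, hkJ, ?_⟩
  have h1 := (ac.pos_iff r hr.1).mp hr k hk
  have h2 : cf D ws k r ≠ 0 := fun h => hne ((ac.cor_zero_iff r hr.1 k hk).mpr h)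
  omega

/-- A root with a positive coefficient outside `J` is a positive root outside `Φ_J`. -/
theorem pos_of_pos_coeff (ac : ACert D wl ws sc) (r : ℕ) (hr : r < D.nroots) (k : ℕ) (hk : k < D.rank)
    (hkJ : k ∉ J) (hpos : 0 < cf D ws k r) : D.IsPosRoot r ∧ ¬ D.InRootSub J r := by
  constructor
  · rcases ac.posOrNeg r hr with h | h
    · exact h
    · have := (ac.neg_iff r hr).mp h k hk
      omega
  · intro h
    have h1 := h.2 k hk hkJ
    have h2 := (ac.cor_zero_iff r hr k hk).mp h1
    omega

theorem inRootSub_neg (c : DCert D Ns) (tc : TCert D) (ac : ACert D wl ws sc) (r : ℕ) (hr : D.InRootSub J r) :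
    D.InRootSub J (D.neg r) := by
  have hn := DCert.neg_lt c r hr.1
  refine ⟨hn, ?_⟩
  intro i hi hiJ
  have h1 := hr.2 i hi hiJ
  have h2 := (ac.cor_zero_iff r hr.1 i hi).mp h1
  show cor D (D.neg r) i = 0
  rw [ac.cor_zero_iff _ hn i hi]
  unfold cf at h2 ⊢
  rw [grRoot_neg c tc _ r hr.1, h2, neg_zero]

/-- The generators of `U_J`. -/
def ujGens (D : ChevalleyDatum) (F : Type*) [Field F] (J : Set ℕ) : Set (GL D.Idx F) :=
  {g | ∃ (r : ℕ) (t : F), D.IsPosRoot r ∧ ¬ D.InRootSub J r ∧ (g : Matrix D.Idx D.Idx F) = D.x F r t}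

theorem unipotentRadical_eq : D.unipotentRadical F J = Subgroup.closure (ujGens D F J) := rfl

/-! ### `P_J` normalizes `U_J` -/

theorem xGL_pos_mem_normalizer_uj (c : DCert D Ns) (tc : TCert D) (ac : ACert D wl ws sc) (hR2 : R2All D F)
    (s : ℕ) (hs : D.IsPosRoot s) (t : F) :
    xGL c s t ∈ Subgroup.normalizer (Subgroup.closure (ujGens D F J) : Set (GL D.Idx F)) := by
  have key : ∀ (t : F), ∀ g ∈ ujGens D F J,
      (xGL c s t)⁻¹ * g * xGL c s t ∈ Subgroup.closure (ujGens D F J) := by
    intro t g hg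
    obtain ⟨r, u, hr, hJ, hg⟩ := hg
    rw [eq_xGL c hg]
    by_cases hrs : r = s
    · subst hrs
      rw [xGL_inv, xGL_mul, xGL_mul]
      have : -t + u + t = u := by ring
      rw [this]
      exact Subgroup.subset_closure ⟨r, u, hr, hJ, rfl⟩
    · have hneg : r ≠ D.neg s := by
        intro h
        have := neg_isNeg c tc ac s hs
        rw [← h] at this
        exact ac.not_pos_and_neg r hr this
      obtain ⟨k, hk, hkJ, hpos⟩ := exists_pos_coeff J ac r hr hJ
      apply conj_mem_of_R2 c (hR2 s r hs.1 hr.1 hrs hneg)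
      · intro u'
        exact Subgroup.subset_closure ⟨r, u', hr, hJ, rfl⟩
      · intro m hm a
        have hg := isGrading_w c tc (ws.getD k [])
        obtain ⟨hm1, ha, hb, hval⟩ := commTerms_grading c.rows ac.in_range hg s r hs.1 hr.1 m hm
        have hs0 := (ac.pos_iff s hs.1).mp hs k hk
        have hmpos : 0 < cf D ws k m.1 := by
          unfold cf at hpos hs0 ⊢
          rw [hval]
          have h1 : (1 : ℤ) ≤ (m.2.2.2 : ℤ) := by exact_mod_cast hb
          have h2 : (0 : ℤ) ≤ (m.2.2.1 : ℤ) := by positivity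
          nlinarith
        obtain ⟨h1, h2⟩ := pos_of_pos_coeff J ac m.1 hm1 k hk hkJ hmpos
        exact Subgroup.subset_closure ⟨m.1, a, h1, h2, rfl⟩
  apply mem_normalizer_closure
  · intro g hg
    have := key (-t) g hg
    rwa [← xGL_inv, inv_inv] at this
  · intro g hg
    exact key t g hg

theorem diagonal_le_normalizer_uj (c : DCert D Ns) (tc : TCert D) :
    D.diagonalSubgroup F ≤ Subgroup.normalizer (Subgroup.closure (ujGens D F J) : Set (GL D.Idx F)) := by
  intro h hh
  have hconj : ∀ k ∈ D.diagonalSubgroup F, ∀ s ∈ ujGens D F J,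
      k * s * k⁻¹ ∈ Subgroup.closure (ujGens D F J) := by
    intro k hk s hs
    obtain ⟨r, a, hr, hne, hs⟩ := hs
    obtain ⟨b, hb⟩ := diagonal_conj_xGL c tc k hk r hr.1 a
    rw [eq_xGL c hs, hb]
    exact Subgroup.subset_closure ⟨r, _, hr, hne, rfl⟩
  apply mem_normalizer_closure
  · exact hconj h hh
  · intro s hs
    have := hconj h⁻¹ (Subgroup.inv_mem _ hh) s hs
    rwa [inv_inv] at this

theorem reflect_mem_uj (c : DCert D Ns) (ac : ACert D wl ws sc) (j : ℕ) (hj : j < D.rank) (hjJ : j ∈ J)
    (r : ℕ) (hr : D.IsPosRoot r) (hJ : ¬ D.InRootSub J r) :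
    D.IsPosRoot (D.reflectRoot j r) ∧ ¬ D.InRootSub J (D.reflectRoot j r) := by
  obtain ⟨k, hk, hkJ, hpos⟩ := exists_pos_coeff J ac r hr hJ
  have hkj : k ≠ j := fun h => hkJ (h ▸ hjJ)
  apply pos_of_pos_coeff J ac _ (c.reflect_lt j hj r hr.1) k hk hkJ
  rw [cf_reflect c ac j hj k hk hkj r hr.1]
  exact hpos

theorem nGL_mem_normalizer_uj (c : DCert D Ns) (ac : ACert D wl ws sc) (j : ℕ) (hj : j < D.rank)
    (hjJ : j ∈ J) :
    nGL c j ∈ Subgroup.normalizer (Subgroup.closure (ujGens D F J) : Set (GL D.Idx F)) := by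
  apply mem_normalizer_closure
  · rintro g ⟨r, u, hr, hJ, hg⟩
    rw [eq_xGL c hg, nGL_conj c j hj r hr.1]
    obtain ⟨h1, h2⟩ := reflect_mem_uj J c ac j hj hjJ r hr hJ
    exact Subgroup.subset_closure ⟨_, _, h1, h2, rfl⟩
  · rintro g ⟨r, u, hr, hJ, hg⟩
    rw [eq_xGL c hg, nGL_inv_conj c j hj r hr.1]
    obtain ⟨h1, h2⟩ := reflect_mem_uj J c ac j hj hjJ r hr hJ
    exact Subgroup.subset_closure ⟨_, _, h1, h2, rfl⟩

theorem parabolic_le_normalizer (c : DCert D Ns) (tc : TCert D) (ac : ACert D wl ws sc) (hR2 : R2All D F) :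
    D.parabolicSubgroup F J ≤ Subgroup.normalizer (D.unipotentRadical F J : Set (GL D.Idx F)) := by
  rw [unipotentRadical_eq]
  unfold ChevalleyDatum.parabolicSubgroup ChevalleyDatum.borelSubgroup
  apply sup_le
  · apply sup_le
    · unfold ChevalleyDatum.posUnipotent
      rw [Subgroup.closure_le]
      rintro g ⟨s, t, hs, hg⟩
      rw [eq_xGL c hg]
      exact xGL_pos_mem_normalizer_uj J c tc ac hR2 s hs t
    · exact diagonal_le_normalizer_uj J c tc
  · rw [Subgroup.closure_le]
    rintro g ⟨j, hjJ, hj, hg⟩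
    have : g = nGL c j := Units.ext (by rw [hg, nGL_coe])
    rw [this]
    exact nGL_mem_normalizer_uj J c ac j hj hjJ

end

/-! ### `P_J = U_J L_J` -/

section

variable {wl : List ℤ} {ws : List (List ℤ)} {sc : ℤ} (J : Set ℕ)

theorem nGL_mem_parabolic (c : DCert D Ns) (j : ℕ) (hj : j < D.rank) (hjJ : j ∈ J) :
    nGL c j ∈ D.parabolicSubgroup F J := by
  unfold ChevalleyDatum.parabolicSubgroup
  apply Subgroup.mem_sup_right
  exact Subgroup.subset_closure ⟨j, hjJ, hj, nGL_coe c j⟩

theorem xGL_pos_mem_parabolic (c : DCert D Ns) (r : ℕ) (hr : D.IsPosRoot r) (t : F) :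
    xGL c r t ∈ D.parabolicSubgroup F J :=
  Subgroup.mem_sup_left (xGL_pos_mem_borel c r hr t)

/-- The root subgroups of the negative roots in `Φ_J` lie in `P_J`. -/
theorem xGL_neg_mem_parabolic (c : DCert D Ns) (tc : TCert D) (ac : ACert D wl ws sc) (hdesc : Descent D) :
    ∀ r, D.IsPosRoot r → D.InRootSub J r → ∀ t : F, xGL c (D.neg r) t ∈ D.parabolicSubgroup F J := by
  have key : ∀ n : ℕ, ∀ r, D.IsPosRoot r → D.InRootSub J r → (gl D wl r).toNat = n →
      ∀ t : F, xGL c (D.neg r) t ∈ D.parabolicSubgroup F J := by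
    intro n
    induction n using Nat.strong_induction_on with
    | _ n ih =>
      intro r hr hJ hn t
      rcases hdesc r hr.1 hr with ⟨i, hi, rfl⟩ | ⟨j, hj, hcar, hpos'⟩
      · -- a fundamental root
        have hiJ : i ∈ J := by
          by_contra hiJ
          have := hJ.2 i hi hiJ
          have h1 : cor D (D.simple i) i = 1 := by rw [tc.simple_cor i hi i hi, if_pos rfl]
          rw [show (D.coroot.getD (D.simple i) #[]).getD i 0 = cor D (D.simple i) i from rfl, h1] at this
          exact one_ne_zero this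
        have e := nGL_conj c i hi (D.simple i) hr.1 (((etaZ Ns i (D.simple i) : ℤ) : F) * t)
        rw [reflectRoot_simple, ← mul_assoc, eta_cast_sq (F := F) (c.etaZ_pm i hi _ hr.1), one_mul] at e
        rw [← e]
        have hn := nGL_mem_parabolic (F := F) J c i hi hiJ
        exact Subgroup.mul_mem _ (Subgroup.mul_mem _ hn (xGL_pos_mem_parabolic J c _ hr _))
          (Subgroup.inv_mem _ hn)
      · -- descend by the reflection `j`
        set r' := D.reflectRoot j r with hr'
        have hr'lt := c.reflect_lt j hj r hr.1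
        have hpj := ac.simple j hj
        -- `j ∈ J`
        have hcfj : cf D ws j r' = cf D ws j r - sc * D.cartan j r := by
          unfold cf
          rw [hr', grRoot_reflect c j hj _ r hr.1]
          have := ac.cf_simple j hj j hj
          rw [if_pos rfl] at this
          unfold cf at this
          rw [this]
        have hcfj0 := (ac.pos_iff r' hr'lt).mp hpos' j hj
        have hscpos := ac.sc_pos
        have hcfjpos : 0 < cf D ws j r := by
          have : 0 < sc * D.cartan j r := mul_pos hscpos hcar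
          omega
        have hjJ : j ∈ J := by
          by_contra hjJ
          have h1 := hJ.2 j hj hjJ
          have h2 := (ac.cor_zero_iff r hr.1 j hj).mp h1
          omega
        -- `r' ∈ Φ_J`
        have hJ' : D.InRootSub J r' := by
          refine ⟨hr'lt, ?_⟩
          intro k hk hkJ
          have hkj : k ≠ j := fun h => hkJ (h ▸ hjJ)
          show cor D r' k = 0
          rw [ac.cor_zero_iff r' hr'lt k hk, hr', cf_reflect c ac j hj k hk hkj r hr.1,
            ← ac.cor_zero_iff r hr.1 k hk]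
          exact hJ.2 k hk hkJ
        -- the value of `gl` decreases
        have hgl : gl D wl r' < gl D wl r := by
          unfold gl
          rw [hr', grRoot_reflect c j hj _ r hr.1]
          have h1 := ac.gl_pos _ hpj.2.1
          unfold gl at h1
          have : 0 < grRoot D wl (D.simple j) * D.cartan j r := mul_pos h1 hcar
          omega
        have hglpos := ac.gl_pos r' hpos'
        have ih' := ih (gl D wl r').toNat (by omega) r' hpos' hJ' rfl
        -- conjugate by `n_j`
        have fr' := facts c.rows (c.ncert j hj) r' hr'lt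
        have e := nGL_conj c j hj (D.neg r') fr'.neg_lt (((etaZ Ns j (D.neg r') : ℤ) : F) * t)
        rw [fr'.refl_neg, hr', c.reflect_reflect j hj r hr.1, ← mul_assoc,
          eta_cast_sq (F := F) (c.etaZ_pm j hj _ fr'.neg_lt), one_mul] at e
        rw [← e]
        have hn := nGL_mem_parabolic (F := F) J c j hj hjJ
        exact Subgroup.mul_mem _ (Subgroup.mul_mem _ hn (ih' _)) (Subgroup.inv_mem _ hn)
  intro r hr hJ t
  exact key _ r hr hJ rfl t

theorem borel_le_parabolic : D.borelSubgroup F ≤ D.parabolicSubgroup F J := le_sup_left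

theorem unipotentRadical_le_parabolic : D.unipotentRadical F J ≤ D.parabolicSubgroup F J := by
  rw [unipotentRadical_eq, Subgroup.closure_le]
  rintro g ⟨r, t, hr, -, hg⟩
  exact Subgroup.mem_sup_left (Subgroup.mem_sup_left (Subgroup.subset_closure ⟨r, t, hr, hg⟩))

theorem levi_le_parabolic (c : DCert D Ns) (tc : TCert D) (ac : ACert D wl ws sc) (hdesc : Descent D) :
    D.leviSubgroup F J ≤ D.parabolicSubgroup F J := by
  unfold ChevalleyDatum.leviSubgroup
  apply sup_le
  · exact le_trans le_sup_right (borel_le_parabolic J)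
  · rw [Subgroup.closure_le]
    rintro g ⟨r, t, hJ, hg⟩
    rw [eq_xGL c hg]
    rcases ac.posOrNeg r hJ.1 with hp | hn
    · exact xGL_pos_mem_parabolic J c r hp t
    · have h1 := neg_isPos c tc ac r hn
      have h2 := inRootSub_neg J c tc ac r hJ
      have h3 := xGL_neg_mem_parabolic J c tc ac hdesc _ h1 h2 t
      rwa [neg_neg_root c tc ac r hJ.1] at h3

theorem xGL_mem_levi (c : DCert D Ns) (r : ℕ) (hJ : D.InRootSub J r) (t : F) : xGL c r t ∈ D.leviSubgroup F J :=
  Subgroup.mem_sup_right (Subgroup.subset_closure ⟨r, t, hJ, rfl⟩)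

theorem inRootSub_simple (tc : TCert D) (ac : ACert D wl ws sc) (j : ℕ) (hj : j < D.rank) (hjJ : j ∈ J) :
    D.InRootSub J (D.simple j) := by
  refine ⟨(ac.simple j hj).1, ?_⟩
  intro k hk hkJ
  show cor D (D.simple j) k = 0
  rw [tc.simple_cor j hj k hk, if_neg]
  rintro rfl
  exact hkJ hjJ

theorem parabolic_le_sup (c : DCert D Ns) (tc : TCert D) (ac : ACert D wl ws sc) :
    D.parabolicSubgroup F J ≤ D.unipotentRadical F J ⊔ D.leviSubgroup F J := by
  unfold ChevalleyDatum.parabolicSubgroup ChevalleyDatum.borelSubgroup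
  apply sup_le
  · apply sup_le
    · unfold ChevalleyDatum.posUnipotent
      rw [Subgroup.closure_le]
      rintro g ⟨r, t, hr, hg⟩
      by_cases hJ : D.InRootSub J r
      · rw [eq_xGL c hg]
        exact Subgroup.mem_sup_right (xGL_mem_levi J c r hJ t)
      · exact Subgroup.mem_sup_left (Subgroup.subset_closure ⟨r, t, hr, hJ, hg⟩)
    · exact le_trans le_sup_left le_sup_right
  · rw [Subgroup.closure_le]
    rintro g ⟨j, hjJ, hj, hg⟩
    have : g = nGL c j := Units.ext (by rw [hg, nGL_coe])
    rw [this]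
    apply Subgroup.mem_sup_right
    have h1 := inRootSub_simple J tc ac j hj hjJ
    have h2 := inRootSub_neg J c tc ac _ h1
    unfold nGL
    apply wordGL_mem
    intro p hp
    unfold ChevalleyDatum.nWord at hp
    simp only [List.mem_cons, List.not_mem_nil, or_false] at hp
    rcases hp with rfl | rfl | rfl
    · exact xGL_mem_levi J c _ h1 _
    · exact xGL_mem_levi J c _ h2 _
    · exact xGL_mem_levi J c _ h1 _

theorem sup_eq_parabolic (c : DCert D Ns) (tc : TCert D) (ac : ACert D wl ws sc) (hdesc : Descent D) :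
    D.unipotentRadical F J ⊔ D.leviSubgroup F J = D.parabolicSubgroup F J :=
  le_antisymm (sup_le (unipotentRadical_le_parabolic J) (levi_le_parabolic J c tc ac hdesc))
    (parabolic_le_sup J c tc ac)

end

/-! ### `U_J ∩ L_J = 1` -/

section

variable {wl : List ℤ} {ws : List (List ℤ)} {sc : ℤ} (J : Set ℕ)

open Classical in
/-- The sum of the coefficients outside `J`. -/
noncomputable def gJ (D : ChevalleyDatum) (ws : List (List ℤ)) (J : Set ℕ) (s : ℕ) : ℤ :=
  ∑ k ∈ (Finset.range D.rank).filter (fun k => k ∉ J), cf D ws k s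

theorem isGrading_gJ (c : DCert D Ns) (tc : TCert D) : IsGrading D (gJ D ws J) := by
  unfold gJ
  apply isGrading_sum
  intro k _
  exact isGrading_w c tc (ws.getD k [])

theorem gJ_pos (ac : ACert D wl ws sc) (r : ℕ) (hr : D.IsPosRoot r) (hJ : ¬ D.InRootSub J r) :
    1 ≤ gJ D ws J r := by
  classical
  obtain ⟨k, hk, hkJ, hpos⟩ := exists_pos_coeff J ac r hr hJ
  unfold gJ
  have h1 : cf D ws k r ≤ ∑ k ∈ (Finset.range D.rank).filter (fun k => k ∉ J), cf D ws k r := by
    apply Finset.single_le_sum (f := fun k => cf D ws k r)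
    · intro i hi
      rw [Finset.mem_filter, Finset.mem_range] at hi
      exact (ac.pos_iff r hr.1).mp hr i hi.1
    · rw [Finset.mem_filter, Finset.mem_range]
      exact ⟨hk, hkJ⟩
  omega

theorem gJ_zero (ac : ACert D wl ws sc) (r : ℕ) (hJ : D.InRootSub J r) : gJ D ws J r = 0 := by
  classical
  unfold gJ
  apply Finset.sum_eq_zero
  intro k hk
  rw [Finset.mem_filter, Finset.mem_range] at hk
  exact (ac.cor_zero_iff r hJ.1 k hk.1).mp (hJ.2 k hk.1 hk.2)

theorem unipotentRadical_le_tri (c : DCert D Ns) (tc : TCert D) (ac : ACert D wl ws sc) :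
    D.unipotentRadical F J ≤ triSubgroup (R := F) (grIdx D (gJ D ws J)) 1 (by omega) := by
  rw [unipotentRadical_eq, Subgroup.closure_le]
  rintro g ⟨r, t, hr, hJ, hg⟩
  show Raises _ _ _
  rw [hg]
  exact x_sub_one_raises (isGrading_gJ J c tc) r hr.1 1 (le_refl _) (gJ_pos J ac r hr hJ) t

/-- Matrices that preserve the grading `gJ`. -/
theorem levi_le_tri (c : DCert D Ns) (tc : TCert D) (ac : ACert D wl ws sc) {g : ℕ → ℤ} (hg : IsGrading D g)
    (h0 : ∀ r, D.InRootSub J r → 0 ≤ g r) :
    D.leviSubgroup F J ≤ triSubgroup (R := F) (grIdx D g) 0 (le_refl 0) := by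
  unfold ChevalleyDatum.leviSubgroup
  apply sup_le
  · intro x hx
    obtain ⟨t, _, hxt⟩ := exists_torus_of_mem c tc x hx
    show Raises _ _ _
    intro i j hij
    have hne : i ≠ j := by
      rintro rfl
      omega
    rw [Matrix.sub_apply, Matrix.one_apply_ne hne, sub_zero, hxt]
    unfold torusMat diagMat
    exact Matrix.diagonal_apply_ne _ hne
  · rw [Subgroup.closure_le]
    rintro x ⟨r, t, hJ, hx⟩
    show Raises _ _ _
    rw [hx]
    exact (x_raises_zero hg r hJ.1 (h0 r hJ) t).sub (raises_one (le_refl 0))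

theorem unipotentRadical_inf_levi (c : DCert D Ns) (tc : TCert D) (ac : ACert D wl ws sc) :
    D.unipotentRadical F J ⊓ D.leviSubgroup F J = ⊥ := by
  rw [eq_bot_iff]
  intro x hx
  rw [Subgroup.mem_inf] at hx
  rw [Subgroup.mem_bot]
  have h1 := unipotentRadical_le_tri J c tc ac hx.1
  have hg := isGrading_gJ (ws := ws) J c tc
  have h2 := levi_le_tri J c tc ac hg.neg' (fun r hr => by rw [gJ_zero J ac r hr]; simp) hx.2
  apply Units.ext
  rw [Units.val_one]
  have : (x : Matrix D.Idx D.Idx F) - 1 = 0 := by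
    ext i j
    rw [Matrix.zero_apply]
    by_cases hij : grIdx D (gJ D ws J) i < grIdx D (gJ D ws J) j + 1
    · exact h1 i j hij
    · apply h2 i j
      rcases i with i | s <;> rcases j with j | s' <;> simp only [grIdx] at hij ⊢ <;> omega
  exact sub_eq_zero.mp this

/-- The Levi decomposition (statement S1048). -/
theorem levi_decomposition (c : DCert D Ns) (tc : TCert D) (ac : ACert D wl ws sc) (hR2 : R2All D F)
    (hdesc : Descent D) :
    D.parabolicSubgroup F J ≤ Subgroup.normalizer (D.unipotentRadical F J : Set (GL D.Idx F)) ∧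
      D.unipotentRadical F J ⊔ D.leviSubgroup F J = D.parabolicSubgroup F J ∧
      D.unipotentRadical F J ⊓ D.leviSubgroup F J = ⊥ :=
  ⟨parabolic_le_normalizer J c tc ac hR2, sup_eq_parabolic J c tc ac hdesc, unipotentRadical_inf_levi J c tc ac⟩

end

end Cfsg.Agent.Lib.Helper18_ChevLevi
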