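import Cfsg.Agent.Lib.Helper18_ChevSimp
import Cfsg.Agent.Lib.Helper18_ChevLevi
import Cfsg.Agent.Lib.Helper18_ChevJCerts
import Cfsg.Agent.Lib.Helper6_BNPair

set_option autoImplicit false

/-!
The canonical form `g = b n u` of the elements of a Chevalley group (sharp form of the Bruhat decomposition).
-/

namespace Cfsg.Agent.Lib.Helper18_ChevBruhat

open Cfsg Cfsg.Lie Cfsg.Agent.Lib.Helper18_ChevFast Cfsg.Agent.Lib.Helper18_ChevEngine
  Cfsg.Agent.Lib.Helper18_ChevR1 Cfsg.Agent.Lib.Helper18_ChevN Cfsg.Agent.Lib.Helper18_ChevR4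
  Cfsg.Agent.Lib.Helper18_ChevSimple Cfsg.Agent.Lib.Helper18_ChevSimple2 Cfsg.Agent.Lib.Helper18_ChevFacts
  Cfsg.Agent.Lib.Helper18_ChevWeyl Cfsg.Agent.Lib.Helper18_ChevDiag Cfsg.Agent.Lib.Helper18_ChevCar
  Cfsg.Agent.Lib.Helper18_ChevTorus Cfsg.Agent.Lib.Helper18_ChevGL Cfsg.Agent.Lib.Helper18_ChevComm
  Cfsg.Agent.Lib.Helper18_ChevComm2 Cfsg.Agent.Lib.Helper18_MatTri Cfsg.Agent.Lib.Helper18_ChevTri
  Cfsg.Agent.Lib.Helper18_ChevBorel Cfsg.Agent.Lib.Helper18_ChevAdd Cfsg.Agent.Lib.Helper18_ChevUni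
  Cfsg.Agent.Lib.Helper18_ChevBN Cfsg.Agent.Lib.Helper18_ChevMono Cfsg.Agent.Lib.Helper18_ChevBNPair
  Cfsg.Agent.Lib.Helper18_ChevSimp Cfsg.Agent.Lib.Helper18_ChevJCerts Cfsg.Agent.Lib.Helper18_ChevLevi

variable {D : ChevalleyDatum} {Ns : List NData} {F : Type*} [Field F]

/-! ### Additive functions with arbitrary weights -/

/-- The additive function with the weights `w` on the fundamental coroots. -/
def grF (D : ChevalleyDatum) (w : ℕ → ℤ) (s : ℕ) : ℤ := ∑ j ∈ Finset.range D.rank, w j * D.cartan j s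

theorem grRoot_eq_grF (w : List ℤ) (s : ℕ) : grRoot D w s = grF D (fun j => w.getD j 0) s := rfl

theorem grF_reflect (c : DCert D Ns) (i : ℕ) (hi : i < D.rank) (w : ℕ → ℤ) (s : ℕ) (hs : s < D.nroots) :
    grF D w (D.reflectRoot i s) = grF D w s - grF D w (D.simple i) * D.cartan i s := by
  have hs' := c.reflect_lt i hi s hs
  have fs := facts c.rows (c.ncert i hi) _ hs'
  unfold grF
  rw [Finset.sum_mul, ← Finset.sum_sub_distrib]
  apply Finset.sum_congr rfl
  intro j hj
  have := fs.car j (Finset.mem_range.mp hj)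
  rw [c.reflect_reflect i hi s hs] at this
  rw [this]
  ring

/-- A map of the roots that pulls the additive functions back to additive functions, and commutes with `-`. -/
def LinMap (D : ChevalleyDatum) (π : ℕ → ℕ) : Prop :=
  (∀ r < D.nroots, π r < D.nroots) ∧ (∀ r < D.nroots, π (D.neg r) = D.neg (π r)) ∧
    ∀ w : ℕ → ℤ, ∃ w' : ℕ → ℤ, ∀ s < D.nroots, grF D w (π s) = grF D w' s

theorem linMap_id : LinMap D id :=
  ⟨fun _ h => h, fun _ _ => rfl, fun w => ⟨w, fun _ _ => rfl⟩⟩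

theorem LinMap.comp {π₁ π₂ : ℕ → ℕ} (h₁ : LinMap D π₁) (h₂ : LinMap D π₂) : LinMap D (π₁ ∘ π₂) := by
  refine ⟨fun r hr => h₁.1 _ (h₂.1 r hr), ?_, ?_⟩
  · intro r hr
    show π₁ (π₂ (D.neg r)) = D.neg (π₁ (π₂ r))
    rw [h₂.2.1 r hr, h₁.2.1 _ (h₂.1 r hr)]
  · intro w
    obtain ⟨w1, hw1⟩ := h₁.2.2 w
    obtain ⟨w2, hw2⟩ := h₂.2.2 w1
    refine ⟨w2, fun s hs => ?_⟩
    show grF D w (π₁ (π₂ s)) = grF D w2 s
    rw [hw1 _ (h₂.1 s hs), hw2 s hs]

theorem linMap_reflect (c : DCert D Ns) (i : ℕ) (hi : i < D.rank) : LinMap D (D.reflectRoot i) := by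
  refine ⟨fun r hr => c.reflect_lt i hi r hr, fun r hr => (facts c.rows (c.ncert i hi) r hr).refl_neg, ?_⟩
  intro w
  refine ⟨fun j => w j - if j = i then grF D w (D.simple i) else 0, fun s hs => ?_⟩
  rw [grF_reflect c i hi w s hs]
  generalize grF D w (D.simple i) = g0
  have : grF D (fun j => w j - if j = i then g0 else 0) s =
      ∑ j ∈ Finset.range D.rank, (w j * D.cartan j s - if j = i then g0 * D.cartan j s else 0) := by
    unfold grF
    apply Finset.sum_congr rfl
    intro j _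
    beta_reduce
    by_cases hji : j = i
    · rw [if_pos hji, if_pos hji]; ring
    · rw [if_neg hji, if_neg hji]; ring
  rw [this, Finset.sum_sub_distrib, Finset.sum_ite_eq' (Finset.range D.rank) i, if_pos (Finset.mem_range.mpr hi)]
  rfl

/-! ### The elements of `N` act linearly on the roots -/

/-- `g` permutes the root subgroups by a linear map of the roots. -/
def NAct (c : DCert D Ns) (g : GL D.Idx F) : Prop := ∃ π : ℕ → ℕ, ActsAs c g π ∧ LinMap D π

theorem nAct_one (c : DCert D Ns) : NAct c (1 : GL D.Idx F) := ⟨id, actsAs_one c, linMap_id⟩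

theorem NAct.mul (c : DCert D Ns) {g₁ g₂ : GL D.Idx F} (h₁ : NAct c g₁) (h₂ : NAct c g₂) : NAct c (g₁ * g₂) := by
  obtain ⟨π₁, a₁, l₁⟩ := h₁
  obtain ⟨π₂, a₂, l₂⟩ := h₂
  exact ⟨π₁ ∘ π₂, a₁.mul c a₂, l₁.comp l₂⟩

theorem actsAs_diagonal (c : DCert D Ns) (tc : TCert D) (h : GL D.Idx F) (hh : h ∈ D.diagonalSubgroup F) :
    ActsAs c h id := by
  obtain ⟨τ, hτ, hk⟩ := exists_torus_of_mem c tc h hh
  intro r hr
  refine ⟨hr, torusChar D τ r, torusChar_ne_zero τ hτ r, ?_⟩
  intro t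
  rw [mul_inv_eq_iff_eq_mul]
  apply Units.ext
  rw [Units.val_mul, Units.val_mul, xGL_coe, hk, xGL_coe]
  exact torus_conj c tc τ hτ r hr t

/-- The subgroup of the elements that act linearly on the roots, together with their inverses. -/
def nActGL (c : DCert D Ns) (F : Type*) [Field F] : Subgroup (GL D.Idx F) where
  carrier := {g | NAct c g ∧ NAct c g⁻¹}
  one_mem' := ⟨nAct_one c, by rw [inv_one]; exact nAct_one c⟩
  mul_mem' := by
    intro a b ha hb
    refine ⟨ha.1.mul c hb.1, ?_⟩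
    rw [mul_inv_rev]
    exact hb.2.mul c ha.2
  inv_mem' := by
    intro a ha
    refine ⟨ha.2, ?_⟩
    rw [inv_inv]
    exact ha.1

theorem monomial_le_nActGL (c : DCert D Ns) (tc : TCert D) : D.monomialSubgroup F ≤ nActGL c F := by
  rw [monomial_eq c]
  apply sup_le
  · intro h hh
    exact ⟨⟨id, actsAs_diagonal c tc h hh, linMap_id⟩,
      ⟨id, actsAs_diagonal c tc _ (Subgroup.inv_mem _ hh), linMap_id⟩⟩
  · unfold simpleN
    rw [Subgroup.closure_le]
    rintro g ⟨i, hi, rfl⟩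
    exact ⟨⟨_, actsAs_nGL c i hi, linMap_reflect c i hi⟩, ⟨_, actsAs_nGL_inv c i hi, linMap_reflect c i hi⟩⟩

theorem nAct_of_mem_monomial (c : DCert D Ns) (tc : TCert D) (n : GL D.Idx F) (hn : n ∈ D.monomialSubgroup F) :
    NAct c n := (monomial_le_nActGL c tc hn).1

/-! ### Positivity -/

section

variable {wl : List ℤ} {ws : List (List ℤ)} {sc : ℤ}

/-- The fundamental reflection `w_i` permutes the positive roots other than `p_i`. -/
theorem reflect_pos_of_ne (c : DCert D Ns) (ac : ACert D wl ws sc) (i : ℕ) (hi : i < D.rank) (r : ℕ)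
    (hr : D.IsPosRoot r) (hne : r ≠ D.simple i) :
    D.IsPosRoot (D.reflectRoot i r) ∧ D.reflectRoot i r ≠ D.simple i := by
  obtain ⟨j, hj, hji, hpos⟩ := ac.exists_other r hr i hi hne
  have h1 := cf_reflect c ac i hi j hj hji r hr.1
  constructor
  · rcases ac.posOrNeg _ (c.reflect_lt i hi r hr.1) with hp | hn
    · exact hp
    · have := (ac.neg_iff _ (c.reflect_lt i hi r hr.1)).mp hn j hj
      omega
  · intro heq
    rw [heq, ac.cf_simple i hi j hj, if_neg hji] at h1
    omega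

/-- An additive function that is non-negative on the fundamental roots is non-negative on the positive roots. -/
theorem grF_nonneg (c : DCert D Ns) (tc : TCert D) (ac : ACert D wl ws sc) (hdesc : Descent D) (w' : ℕ → ℤ)
    (h : ∀ j < D.rank, 0 ≤ grF D w' (D.simple j)) : ∀ r, D.IsPosRoot r → 0 ≤ grF D w' r := by
  intro r
  induction r using Nat.strong_induction_on with
  | _ r ih =>
    intro hr
    rcases hdesc r hr.1 hr with ⟨i, hi, rfl⟩ | ⟨j, hj, hcar, hpos⟩
    · exact h i hi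
    · have e := grF_reflect c j hj w' r hr.1
      have egl := grF_reflect c j hj (fun k => wl.getD k 0) r hr.1
      have hlt : D.reflectRoot j r < r := by
        apply ac.lt_of_gl_lt _ _ (c.reflect_lt j hj r hr.1)
        have hp := ac.gl_pos _ (tc.simple_pos j hj)
        unfold gl at hp ⊢
        rw [grRoot_eq_grF, grRoot_eq_grF, egl]
        rw [grRoot_eq_grF] at hp
        nlinarith
      have h1 := ih _ hlt hpos
      have h2 := h j hj
      nlinarith

/-- A linear map of the roots that maps the fundamental roots to positive roots maps all positive roots to positive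
roots. -/
theorem LinMap.pos (c : DCert D Ns) (tc : TCert D) (ac : ACert D wl ws sc) (hdesc : Descent D) {π : ℕ → ℕ}
    (hπ : LinMap D π) (h : ∀ i < D.rank, D.IsPosRoot (π (D.simple i))) :
    ∀ r, D.IsPosRoot r → D.IsPosRoot (π r) := by
  intro r hr
  rw [ac.pos_iff _ (hπ.1 r hr.1)]
  intro m hm
  obtain ⟨w', hw'⟩ := hπ.2.2 (fun j => (ws.getD m []).getD j 0)
  show 0 ≤ grF D (fun j => (ws.getD m []).getD j 0) (π r)
  rw [hw' r hr.1]
  apply grF_nonneg c tc ac hdesc w' _ r hr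
  intro j hj
  have hpj := (tc.simple_pos j hj).1
  rw [← hw' _ hpj]
  exact (ac.pos_iff _ (hπ.1 _ hpj)).mp (h j hj) m hm

/-! ### The number of positive roots made negative -/

/-- The number of the positive roots that `π` maps to negative roots. -/
def invCount (D : ChevalleyDatum) (π : ℕ → ℕ) : ℕ :=
  ((Finset.range D.nroots).filter fun r => D.IsPosRoot r ∧ D.IsNegRoot (π r)).card

/-- If `π ∘ w_i` makes the positive root `r` negative, and `π` makes `p_i` negative, then `r ≠ p_i`. -/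
theorem ne_simple_of_neg (c : DCert D Ns) (tc : TCert D) (ac : ACert D wl ws sc) {π : ℕ → ℕ} (hπ : LinMap D π)
    (i : ℕ) (hi : i < D.rank) (hneg : D.IsNegRoot (π (D.simple i))) (r : ℕ)
    (hr : D.IsNegRoot (π (D.reflectRoot i r))) : r ≠ D.simple i := by
  rintro rfl
  rw [reflectRoot_simple, hπ.2.1 _ (tc.simple_pos i hi).1] at hr
  exact ac.not_pos_and_neg _ (neg_isPos c tc ac _ hneg) hr

theorem invCount_lt (c : DCert D Ns) (tc : TCert D) (ac : ACert D wl ws sc) {π : ℕ → ℕ} (hπ : LinMap D π)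
    (i : ℕ) (hi : i < D.rank) (hneg : D.IsNegRoot (π (D.simple i))) :
    invCount D (π ∘ D.reflectRoot i) < invCount D π := by
  unfold invCount
  set A' := (Finset.range D.nroots).filter fun r => D.IsPosRoot r ∧ D.IsNegRoot ((π ∘ D.reflectRoot i) r) with hA'
  set A := (Finset.range D.nroots).filter fun r => D.IsPosRoot r ∧ D.IsNegRoot (π r) with hA
  have hp := tc.simple_pos i hi
  have hpA : D.simple i ∈ A := by
    rw [hA, Finset.mem_filter, Finset.mem_range]
    exact ⟨hp.1, hp, hneg⟩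
  have hinj : Set.InjOn (D.reflectRoot i) (A' : Set ℕ) := by
    intro r1 h1 r2 h2 e
    rw [Finset.mem_coe, hA', Finset.mem_filter, Finset.mem_range] at h1 h2
    rw [← c.reflect_reflect i hi r1 h1.1, ← c.reflect_reflect i hi r2 h2.1, e]
  have hsub : A'.image (D.reflectRoot i) ⊆ A.erase (D.simple i) := by
    intro s hs
    rw [Finset.mem_image] at hs
    obtain ⟨r, hr, rfl⟩ := hs
    rw [hA', Finset.mem_filter, Finset.mem_range] at hr
    obtain ⟨hr1, hr2, hr3⟩ := hr
    have hne := ne_simple_of_neg c tc ac hπ i hi hneg r hr3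
    obtain ⟨h1, h2⟩ := reflect_pos_of_ne c ac i hi r hr2 hne
    rw [Finset.mem_erase, hA, Finset.mem_filter, Finset.mem_range]
    exact ⟨h2, h1.1, h1, hr3⟩
  calc A'.card = (A'.image (D.reflectRoot i)).card := (Finset.card_image_of_injOn hinj).symm
    _ ≤ (A.erase (D.simple i)).card := Finset.card_le_card hsub
    _ < A.card := Finset.card_erase_lt_of_mem hpA

/-! ### The key step -/

theorem conj_closure_le {G : Type*} [Group G] (g : G) (S : Set G) (K : Subgroup G)
    (h : ∀ s ∈ S, g * s * g⁻¹ ∈ K) : ∀ u ∈ Subgroup.closure S, g * u * g⁻¹ ∈ K := by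
  intro u hu
  induction hu using Subgroup.closure_induction with
  | mem x hx => exact h x hx
  | one => simp
  | mul x y _ _ hx hy =>
    have : g * (x * y) * g⁻¹ = (g * x * g⁻¹) * (g * y * g⁻¹) := by group
    rw [this]
    exact K.mul_mem hx hy
  | inv x _ hx =>
    have : g * x⁻¹ * g⁻¹ = (g * x * g⁻¹)⁻¹ := by group
    rw [this]
    exact K.inv_mem hx

/-- The root elements `x_r(t)`, `r` positive, `π r` negative. -/
def negGens (c : DCert D Ns) (F : Type*) [Field F] (π : ℕ → ℕ) : Set (GL D.Idx F) :=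
  {x | ∃ (r : ℕ) (t : F), D.IsPosRoot r ∧ D.IsNegRoot (π r) ∧ x = xGL c r t}

/-- `n U ⊆ U n U_n⁻`. -/
theorem mul_pos_decomp (c : DCert D Ns) (tc : TCert D) (ac : ACert D wl ws sc) (hdesc : Descent D)
    (hR2 : R2All D F) : ∀ (k : ℕ) (n : GL D.Idx F) (π : ℕ → ℕ), ActsAs c n π → LinMap D π → invCount D π = k →
      ∀ u ∈ D.posUnipotent F, ∃ b ∈ D.posUnipotent F, ∃ u' ∈ Subgroup.closure (negGens c F π),
        n * u = b * n * u' := by
  intro k
  induction k using Nat.strong_induction_on with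
  | _ k ih =>
    intro n π hact hπ hk u hu
    by_cases hex : ∃ i < D.rank, D.IsNegRoot (π (D.simple i))
    · obtain ⟨i, hi, hneg⟩ := hex
      have hsc := simple_complement c tc ac hR2 i hi
      rw [← hsc.2] at hu
      obtain ⟨y, hy, x, hx, rfl⟩ := exists_mul_of_mem_sup _ _ (le_trans le_sup_left hsc.1) hu
      obtain ⟨t, rfl⟩ := (mem_rootSubgroup_iff c _ x).mp hx
      have hni := Subgroup.inv_mem _ (nGL_mem_normalizer_up (F := F) c tc ac hR2 i hi)
      have hy' : (nGL c i)⁻¹ * y * nGL c i ∈ Subgroup.closure (upGens D F i) := by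
        have := (Subgroup.mem_normalizer_iff.mp hni y).mp hy
        rwa [inv_inv] at this
      have hact' : ActsAs c (n * nGL c i) (π ∘ D.reflectRoot i) := hact.mul c (actsAs_nGL c i hi)
      have hlin' : LinMap D (π ∘ D.reflectRoot i) := hπ.comp (linMap_reflect c i hi)
      have hlt : invCount D (π ∘ D.reflectRoot i) < k := hk ▸ invCount_lt c tc ac hπ i hi hneg
      obtain ⟨b, hb, u', hu', e⟩ := ih _ hlt (n * nGL c i) _ hact' hlin' rfl _ (up_le_pos i hy')
      refine ⟨b, hb, nGL c i * u' * (nGL c i)⁻¹ * xGL c (D.simple i) t, ?_, ?_⟩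
      · apply Subgroup.mul_mem
        · apply conj_closure_le _ _ _ _ u' hu'
          rintro s ⟨r, t', hr, hrneg, rfl⟩
          rw [nGL_conj c i hi r hr.1 t']
          apply Subgroup.subset_closure
          have hne := ne_simple_of_neg c tc ac hπ i hi hneg r hrneg
          exact ⟨_, _, (reflect_pos_of_ne c ac i hi r hr hne).1, hrneg, rfl⟩
        · exact Subgroup.subset_closure ⟨_, t, tc.simple_pos i hi, hneg, rfl⟩
      · calc n * (y * xGL c (D.simple i) t)
            = (n * nGL c i * ((nGL c i)⁻¹ * y * nGL c i)) * (nGL c i)⁻¹ * xGL c (D.simple i) t := by group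
          _ = (b * (n * nGL c i) * u') * (nGL c i)⁻¹ * xGL c (D.simple i) t := by rw [e]
          _ = b * n * (nGL c i * u' * (nGL c i)⁻¹ * xGL c (D.simple i) t) := by group
    · have hall : ∀ i < D.rank, D.IsPosRoot (π (D.simple i)) := by
        intro i hi
        rcases ac.posOrNeg _ (hπ.1 _ (tc.simple_pos i hi).1) with hp | hn
        · exact hp
        · exact absurd ⟨i, hi, hn⟩ hex
      have hpos := hπ.pos c tc ac hdesc hall
      refine ⟨n * u * n⁻¹, ?_, 1, Subgroup.one_mem _, by group⟩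
      apply conj_closure_le n _ (D.posUnipotent F) _ u hu
      rintro s ⟨r, t, hr, hs⟩
      rw [eq_xGL c hs]
      obtain ⟨-, a, -, ha⟩ := hact r hr.1
      rw [ha t]
      exact Subgroup.subset_closure ⟨_, _, hpos r hr, rfl⟩

/-! ### The canonical form -/

/-- The generators of `U_n⁻`, as in the statement. -/
def flipGens (D : ChevalleyDatum) (F : Type*) [Field F] (n : GL D.Idx F) : Set (GL D.Idx F) :=
  {x : GL D.Idx F | ∃ (r : ℕ) (t : F), D.IsPosRoot r ∧
    (D.rootSubgroup F r).map (MulAut.conj n).toMonoidHom ≤ D.negUnipotent F ∧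
      (x : Matrix D.Idx D.Idx F) = D.x F r t}

theorem negGens_subset (c : DCert D Ns) (n : GL D.Idx F) (π : ℕ → ℕ) (hact : ActsAs c n π) :
    negGens c F π ⊆ flipGens D F n := by
  rintro x ⟨r, t, hr, hneg, rfl⟩
  refine ⟨r, t, hr, ?_, rfl⟩
  intro z hz
  rw [Subgroup.mem_map] at hz
  obtain ⟨y, hy, rfl⟩ := hz
  obtain ⟨s, rfl⟩ := (mem_rootSubgroup_iff c r y).mp hy
  obtain ⟨-, a, -, ha⟩ := hact r hr.1
  show n * xGL c r s * n⁻¹ ∈ D.negUnipotent F
  rw [ha s]
  exact Subgroup.subset_closure ⟨_, _, hneg, rfl⟩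

theorem flipGens_le_pos (n : GL D.Idx F) : Subgroup.closure (flipGens D F n) ≤ D.posUnipotent F := by
  rw [Subgroup.closure_le]
  rintro x ⟨r, t, hr, -, hx⟩
  exact Subgroup.subset_closure ⟨r, t, hr, hx⟩

theorem conj_flipGens (c : DCert D Ns) (n : GL D.Idx F) (u : GL D.Idx F)
    (hu : u ∈ Subgroup.closure (flipGens D F n)) : n * u * n⁻¹ ∈ D.negUnipotent F := by
  apply conj_closure_le n _ _ _ u hu
  rintro s ⟨r, t, -, hflip, hs⟩
  apply hflip
  rw [Subgroup.mem_map]
  exact ⟨s, Subgroup.subset_closure ⟨t, hs⟩, rfl⟩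

variable {w : List ℤ} {d : ℕ}

/-- Existence of the canonical form. -/
theorem canonical_exists (c : DCert D Ns) (tc : TCert D) (ac : ACert D wl ws sc) (gc : GCert D w d)
    (hdesc : Descent D) (hR2 : R2All D F) (g : GL D.Idx F) (hg : g ∈ D.group F) :
    ∃ b ∈ D.borelSubgroup F, ∃ n ∈ D.monomialSubgroup F, ∃ u ∈ Subgroup.closure (flipGens D F n),
      g = b * n * u := by
  obtain ⟨P, hB, hN, -⟩ := exists_bnPair c tc ac gc hR2
  obtain ⟨n, hn⟩ := Cfsg.Agent.Lib.Helper6_BNPair.exists_mem_C P ⟨g, hg⟩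
  rw [Cfsg.Agent.Lib.Helper6_BNPair.mem_C] at hn
  obtain ⟨x, hx, y, hy, e⟩ := hn
  rw [hB, Subgroup.mem_subgroupOf] at hx hy
  have hnN : ((n : ↥(D.group F)) : GL D.Idx F) ∈ D.monomialSubgroup F := by
    have key : ∀ z : ↥(D.group F), z ∈ P.N → (z : GL D.Idx F) ∈ D.monomialSubgroup F := by
      intro z hz
      rw [hN, Subgroup.mem_subgroupOf] at hz
      exact hz
    exact key _ n.2
  have e' : g = (x : GL D.Idx F) * ((n : ↥(D.group F)) : GL D.Idx F) * (y : GL D.Idx F) := by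
    have := congrArg Subtype.val e
    simpa using this
  obtain ⟨u, hu, h, hh, hy'⟩ := exists_mul_of_mem_sup _ _ (diagonal_le_normalizer_pos c tc) hy
  have hu' : h⁻¹ * u * h ∈ D.posUnipotent F := by
    have := (Subgroup.mem_normalizer_iff.mp (Subgroup.inv_mem _ (diagonal_le_normalizer_pos c tc hh)) u).mp hu
    rwa [inv_inv] at this
  have hn2 : ((n : ↥(D.group F)) : GL D.Idx F) * h ∈ D.monomialSubgroup F :=
    Subgroup.mul_mem _ hnN (diagonal_le_monomial hh)
  obtain ⟨π, hact, hlin⟩ := nAct_of_mem_monomial c tc _ hn2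
  obtain ⟨b, hb, u', hu'', e2⟩ := mul_pos_decomp c tc ac hdesc hR2 _ _ π hact hlin rfl _ hu'
  refine ⟨(x : GL D.Idx F) * b, Subgroup.mul_mem _ hx (Subgroup.mem_sup_left hb), _, hn2, u',
    Subgroup.closure_mono (negGens_subset c _ π hact) hu'', ?_⟩
  rw [e', hy']
  calc (x : GL D.Idx F) * ((n : ↥(D.group F)) : GL D.Idx F) * (u * h)
      = (x : GL D.Idx F) * (((n : ↥(D.group F)) : GL D.Idx F) * h * (h⁻¹ * u * h)) := by group
    _ = (x : GL D.Idx F) * (b * (((n : ↥(D.group F)) : GL D.Idx F) * h) * u') := by rw [e2]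
    _ = (x : GL D.Idx F) * b * (((n : ↥(D.group F)) : GL D.Idx F) * h) * u' := by group

/-- Uniqueness of the canonical form. -/
theorem canonical_unique (c : DCert D Ns) (tc : TCert D) (ac : ACert D wl ws sc) (gc : GCert D w d)
    (hR2 : R2All D F) (b b' n n' u u' : GL D.Idx F) (hb : b ∈ D.borelSubgroup F) (hb' : b' ∈ D.borelSubgroup F)
    (hn : n ∈ D.monomialSubgroup F) (hn' : n' ∈ D.monomialSubgroup F)
    (hu : u ∈ Subgroup.closure (flipGens D F n)) (hu' : u' ∈ Subgroup.closure (flipGens D F n'))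
    (e : b * n * u = b' * n' * u') : n⁻¹ * n' ∈ D.diagonalSubgroup F ∧ (n = n' → b = b' ∧ u = u') := by
  have huB : u ∈ D.borelSubgroup F := Subgroup.mem_sup_left (flipGens_le_pos n hu)
  have huB' : u' ∈ D.borelSubgroup F := Subgroup.mem_sup_left (flipGens_le_pos n' hu')
  constructor
  · obtain ⟨P, hB, hN, -⟩ := exists_bnPair c tc ac gc hR2
    have hBG := borel_le_group (F := F) c
    have hNG := monomial_le_group (F := F) c
    let nG : P.N := ⟨⟨n, hNG hn⟩, by rw [hN, Subgroup.mem_subgroupOf]; exact hn⟩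
    let nG' : P.N := ⟨⟨n', hNG hn'⟩, by rw [hN, Subgroup.mem_subgroupOf]; exact hn'⟩
    have hmem : (nG' : ↥(D.group F)) ∈ Cfsg.Agent.Lib.Helper6_BNPair.C P (nG : ↥(D.group F)) := by
      rw [Cfsg.Agent.Lib.Helper6_BNPair.mem_C]
      refine ⟨⟨b'⁻¹ * b, hBG (Subgroup.mul_mem _ (Subgroup.inv_mem _ hb') hb)⟩, ?_,
        ⟨u * u'⁻¹, hBG (Subgroup.mul_mem _ huB (Subgroup.inv_mem _ huB'))⟩, ?_, ?_⟩
      · rw [hB, Subgroup.mem_subgroupOf]
        exact Subgroup.mul_mem _ (Subgroup.inv_mem _ hb') hb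
      · rw [hB, Subgroup.mem_subgroupOf]
        exact Subgroup.mul_mem _ huB (Subgroup.inv_mem _ huB')
      · apply Subtype.ext
        show n' = b'⁻¹ * b * n * (u * u'⁻¹)
        have : b'⁻¹ * b * n * (u * u'⁻¹) = b'⁻¹ * (b * n * u) * u'⁻¹ := by group
        rw [this, e]
        group
    have h1 := Cfsg.Agent.Lib.Helper6_BNPair.C_eq_of_mem P hmem
    have h2 := (Cfsg.Agent.Lib.Helper6_BNPair.C_eq_iff' P).mp h1.symm
    rw [hB, Subgroup.mem_subgroupOf] at h2
    rw [← borel_inf_monomial c tc gc]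
    exact Subgroup.mem_inf.mpr ⟨h2, Subgroup.mul_mem _ (Subgroup.inv_mem _ hn) hn'⟩
  · rintro rfl
    have h1 : n * (u * u'⁻¹) * n⁻¹ ∈ D.negUnipotent F :=
      conj_flipGens c n _ (Subgroup.mul_mem _ hu (Subgroup.inv_mem _ hu'))
    have h2 : n * (u * u'⁻¹) * n⁻¹ = b⁻¹ * b' := by
      have : n * (u * u'⁻¹) * n⁻¹ = b⁻¹ * (b * n * u) * u'⁻¹ * n⁻¹ := by group
      rw [this, e]
      group
    have h3 : b⁻¹ * b' ∈ D.borelSubgroup F ⊓ D.negUnipotent F := by
      refine Subgroup.mem_inf.mpr ⟨Subgroup.mul_mem _ (Subgroup.inv_mem _ hb) hb', ?_⟩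
      rw [← h2]
      exact h1
    rw [borel_inf_neg c tc gc, Subgroup.mem_bot] at h3
    have hbb : b = b' := by
      have := congrArg (fun z => b * z) h3
      simpa using this.symm
    subst hbb
    exact ⟨rfl, mul_left_cancel e⟩

end

end Cfsg.Agent.Lib.Helper18_ChevBruhat
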