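/-
helper40: the subgroups of a Chevalley group `D.group F` used to instantiate `DZData` (S2318).
Definitions only (certificate-free; all in terms of the Prelude's ChevalleyDatum API).
-/
import Mathlib
import Cfsg.Prelude.Def_ParabolicCharacters
import Cfsg.Prelude.Def_LieTypes
import Cfsg.Prelude.Def_ChevB2
import Cfsg.Agent.Lib.Helper40_DefZeroDefs

set_option autoImplicit false

namespace Cfsg.Agent.Lib.Helper40_ChevDZDefs

open Cfsg Cfsg.Lie

variable (D : ChevalleyDatum) (F : Type*) [Field F]

/-- `U`, inside the Chevalley group -/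
def cU : Subgroup ↥(D.group F) := (D.posUnipotent F).subgroupOf (D.group F)

/-- `B = UH`, inside the Chevalley group -/
def cB : Subgroup ↥(D.group F) := (D.borelSubgroup F).subgroupOf (D.group F)

/-- the minimal parabolic subgroup `P_i = ⟨B, n_i⟩` -/
def cP (i : ℕ) : Subgroup ↥(D.group F) := D.parabolicIn F {i}

/-- the root subgroup of the `i`-th fundamental root -/
def cX (i : ℕ) : Subgroup ↥(D.group F) := (D.rootSubgroup F (D.simple i)).subgroupOf (D.group F)

/-- `U_{p_i}`: generated by the root subgroups of the positive roots other than `p_i` (as in S1045) -/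
def cUa (i : ℕ) : Subgroup ↥(D.group F) :=
  (Subgroup.closure {g : GL D.Idx F | ∃ (s : ℕ) (t : F), D.IsPosRoot s ∧ s ≠ D.simple i ∧
    (g : Matrix D.Idx D.Idx F) = D.x F s t}).subgroupOf (D.group F)

/-- the elements `h_{p_i}(t)`, `t ≠ 0` -/
def cT (i : ℕ) : Set ↥(D.group F) :=
  {g | ∃ t : F, t ≠ 0 ∧ ((g : GL D.Idx F) : Matrix D.Idx D.Idx F) = D.hMat F (D.simple i) t}

end Cfsg.Agent.Lib.Helper40_ChevDZDefs
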