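import Mathlib
import Cfsg.Prelude.Def_Characters
import Cfsg.Prelude.Def_ParabolicCharacters
import Cfsg.Prelude.Def_LieTypes
import Cfsg.Prelude.Def_ChevB2
import Cfsg.Agent.Lib.Helper40_DefZeroDefs
import Cfsg.Agent.Lib.Helper40_ChevDZDefs
import Cfsg.Agent.Lib.Helper18_ChevBruhat

set_option autoImplicit false

/-!
# defzero wave 3 (architect helper40): package CHBRUHAT (helper12), certificate form

`ch_bruhat_aux`: the statement of CHBRUHAT with the certificates `c tc ac gc` and `R2All D F` as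
hypotheses (only the `Helper18_ChevBruhat` closure is needed).
-/

namespace Cfsg.Agent.Lib.Helper12_DZ_CHBRUHATaux

open Cfsg Cfsg.Lie Cfsg.Agent.Lib.Helper40_DefZeroDefs Cfsg.Agent.Lib.Helper40_ChevDZDefs
open Cfsg.Agent.Lib.Helper18_ChevFast Cfsg.Agent.Lib.Helper18_ChevEngine
  Cfsg.Agent.Lib.Helper18_ChevR1 Cfsg.Agent.Lib.Helper18_ChevN Cfsg.Agent.Lib.Helper18_ChevR4
  Cfsg.Agent.Lib.Helper18_ChevSimple Cfsg.Agent.Lib.Helper18_ChevSimple2 Cfsg.Agent.Lib.Helper18_ChevFacts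
  Cfsg.Agent.Lib.Helper18_ChevWeyl Cfsg.Agent.Lib.Helper18_ChevDiag Cfsg.Agent.Lib.Helper18_ChevCar
  Cfsg.Agent.Lib.Helper18_ChevTorus Cfsg.Agent.Lib.Helper18_ChevGL Cfsg.Agent.Lib.Helper18_ChevComm
  Cfsg.Agent.Lib.Helper18_ChevComm2 Cfsg.Agent.Lib.Helper18_MatTri Cfsg.Agent.Lib.Helper18_ChevTri
  Cfsg.Agent.Lib.Helper18_ChevBorel Cfsg.Agent.Lib.Helper18_ChevAdd Cfsg.Agent.Lib.Helper18_ChevUni
  Cfsg.Agent.Lib.Helper18_ChevBN Cfsg.Agent.Lib.Helper18_ChevMono Cfsg.Agent.Lib.Helper18_ChevBNPair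
  Cfsg.Agent.Lib.Helper18_ChevSimp Cfsg.Agent.Lib.Helper18_ChevJCerts Cfsg.Agent.Lib.Helper18_ChevLevi
  Cfsg.Agent.Lib.Helper18_ChevBruhat

variable {D : ChevalleyDatum} {Ns : List NData} {F : Type*} [Field F]
  {wl : List ℤ} {ws : List (List ℤ)} {sc : ℤ} {w : List ℤ} {d : ℕ}

/-- an element acting on the roots by `ρ` conjugates `X_r` into `U` when `ρ r` is positive -/
theorem conj_root_mem_pos (c : DCert D Ns) (m : GL D.Idx F) (ρ : ℕ → ℕ) (hact : ActsAs c m ρ)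
    (r : ℕ) (hr : r < D.nroots) (hpos : D.IsPosRoot (ρ r)) :
    ∀ x ∈ D.rootSubgroup F r, m * x * m⁻¹ ∈ D.posUnipotent F := by
  apply conj_closure_le
  rintro s ⟨t, hs⟩
  obtain ⟨-, a, -, e⟩ := hact r hr
  rw [eq_xGL c hs, e t]
  exact Subgroup.subset_closure ⟨ρ r, a * t, hpos, xGL_coe c _ _⟩

/-- `B` normalizes `U` -/
theorem borel_le_normalizer_pos (c : DCert D Ns) (tc : TCert D) :
    D.borelSubgroup F ≤ Subgroup.normalizer (D.posUnipotent F : Set (GL D.Idx F)) := by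
  unfold ChevalleyDatum.borelSubgroup
  exact sup_le Subgroup.le_normalizer (diagonal_le_normalizer_pos c tc)

theorem ch_bruhat_aux (c : DCert D Ns) (tc : TCert D) (ac : ACert D wl ws sc) (gc : GCert D w d)
    (hR2 : R2All D F) (i : ℕ) (hi : i < D.rank) :
    ∀ g : ↥(D.group F), ∃ y ∈ cP D F i, ∀ x ∈ cX D F i, g * (y * x * y⁻¹) * g⁻¹ ∈ cU D F := by
  intro g
  obtain ⟨P, hB, hN, -⟩ := exists_bnPair c tc ac gc hR2
  obtain ⟨n, hn⟩ := Cfsg.Agent.Lib.Helper6_BNPair.exists_mem_C P g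
  rw [Cfsg.Agent.Lib.Helper6_BNPair.mem_C] at hn
  obtain ⟨b1, hb1, b2, hb2, e⟩ := hn
  rw [hB, Subgroup.mem_subgroupOf] at hb1 hb2
  have hnN : ((n : ↥(D.group F)) : GL D.Idx F) ∈ D.monomialSubgroup F := by
    have key : ∀ z : ↥(D.group F), z ∈ P.N → (z : GL D.Idx F) ∈ D.monomialSubgroup F := by
      intro z hz
      rw [hN, Subgroup.mem_subgroupOf] at hz
      exact hz
    exact key _ n.2
  obtain ⟨π, hact, hlin⟩ := nAct_of_mem_monomial c tc _ hnN
  have hr : D.simple i < D.nroots := (tc.simple_pos i hi).1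
  have hb1N := borel_le_normalizer_pos c tc hb1
  have hborel_le : D.borelSubgroup F ≤ D.parabolicSubgroup F (↑({i} : Finset ℕ) : Set ℕ) := by
    unfold ChevalleyDatum.parabolicSubgroup
    exact le_sup_left
  -- the reduction: it suffices to find `y ∈ P_i` and `m` with `g y = b1 m` acting suitably
  have key : ∀ (y : ↥(D.group F)) (m : GL D.Idx F) (ρ : ℕ → ℕ), y ∈ cP D F i → ActsAs c m ρ →
      D.IsPosRoot (ρ (D.simple i)) → (g : GL D.Idx F) * (y : GL D.Idx F) = (b1 : GL D.Idx F) * m →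
      ∃ y ∈ cP D F i, ∀ x ∈ cX D F i, g * (y * x * y⁻¹) * g⁻¹ ∈ cU D F := by
    intro y m ρ hy hm hpos hgy
    refine ⟨y, hy, fun x hx => ?_⟩
    have hx' : (x : GL D.Idx F) ∈ D.rootSubgroup F (D.simple i) := by
      unfold cX at hx
      rwa [Subgroup.mem_subgroupOf] at hx
    have h1 := conj_root_mem_pos c m ρ hm (D.simple i) hr hpos _ hx'
    have h2 := (Subgroup.mem_normalizer_iff.mp hb1N _).mp h1
    unfold cU
    rw [Subgroup.mem_subgroupOf]
    have e1 : ((g * (y * x * y⁻¹) * g⁻¹ : ↥(D.group F)) : GL D.Idx F) =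
        ((g : GL D.Idx F) * (y : GL D.Idx F)) * (x : GL D.Idx F) *
          ((g : GL D.Idx F) * (y : GL D.Idx F))⁻¹ := by
      simp only [Subgroup.coe_mul, Subgroup.coe_inv]
      group
    rw [e1, hgy]
    have e2 : (b1 : GL D.Idx F) * m * (x : GL D.Idx F) * ((b1 : GL D.Idx F) * m)⁻¹ =
        (b1 : GL D.Idx F) * (m * (x : GL D.Idx F) * m⁻¹) * (b1 : GL D.Idx F)⁻¹ := by group
    rw [e2]
    exact h2
  have e' : (g : GL D.Idx F) =
      (b1 : GL D.Idx F) * ((n : ↥(D.group F)) : GL D.Idx F) * (b2 : GL D.Idx F) := by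
    have := congrArg Subtype.val e
    simpa using this
  rcases ac.posOrNeg (π (D.simple i)) (hlin.1 _ hr) with hp | hng
  · -- `π p_i` positive: `y = b2⁻¹`
    refine key b2⁻¹ ((n : ↥(D.group F)) : GL D.Idx F) π ?_ hact hp ?_
    · unfold cP ChevalleyDatum.parabolicIn
      rw [Subgroup.mem_subgroupOf, Subgroup.coe_inv]
      exact Subgroup.inv_mem _ (hborel_le hb2)
    · rw [e', Subgroup.coe_inv]
      group
  · -- `π p_i` negative: `y = b2⁻¹ n_i`
    have hpos : D.IsPosRoot ((π ∘ D.reflectRoot i) (D.simple i)) := by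
      show D.IsPosRoot (π (D.reflectRoot i (D.simple i)))
      rw [reflectRoot_simple, hlin.2.1 _ hr]
      exact neg_isPos c tc ac _ hng
    have hnI : (nGL c i : GL D.Idx F) ∈ D.group F := wordGL_mem_group c _
    refine key (b2⁻¹ * ⟨nGL c i, hnI⟩) (((n : ↥(D.group F)) : GL D.Idx F) * nGL c i)
      (π ∘ D.reflectRoot i) ?_ (hact.mul c (actsAs_nGL c i hi)) hpos ?_
    · unfold cP ChevalleyDatum.parabolicIn
      rw [Subgroup.mem_subgroupOf, Subgroup.coe_mul, Subgroup.coe_inv]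
      refine Subgroup.mul_mem _ (Subgroup.inv_mem _ (hborel_le hb2)) ?_
      unfold ChevalleyDatum.parabolicSubgroup
      apply Subgroup.mem_sup_right
      apply Subgroup.subset_closure
      exact ⟨i, by simp, hi, nGL_coe c i⟩
    · rw [e', Subgroup.coe_mul, Subgroup.coe_inv]
      group

end Cfsg.Agent.Lib.Helper12_DZ_CHBRUHATaux
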