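import Cfsg.Agent.Lib.Helper18_ChevAdd
import Cfsg.Prelude.Def_ChevG2
import Cfsg.Prelude.Def_ChevB2
import Cfsg.Prelude.Def_ChevD4
import Cfsg.Prelude.Def_ChevF4
import Cfsg.Prelude.Def_ChevE6
import Cfsg.Prelude.Def_ChevE7
import Cfsg.Prelude.Def_ChevE8

set_option autoImplicit false

/-! The certificates of the additive functions of the seven tabulated data (generated). -/

namespace Cfsg.Agent.Lib.Helper18_ChevACerts

open Cfsg Cfsg.Lie Cfsg.Agent.Lib.Helper18_ChevAdd

def wlG2 : List ℤ := [15, 23]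

def wsG2 : List (List ℤ) := [[2, 3], [1, 2]]

set_option maxHeartbeats 0 in
theorem acertG2 : ACert chevG2 wlG2 wsG2 1 where
  in_range := by decide +kernel
  sc_pos := by decide
  simple := by decide +kernel
  npos := by decide +kernel
  all := by decide +kernel

def wlB2 : List ℤ := [11, 12]

def wsB2 : List (List ℤ) := [[2, 2], [1, 2]]

set_option maxHeartbeats 0 in
theorem acertB2 : ACert chevB2 wlB2 wsB2 2 where
  in_range := by decide +kernel
  sc_pos := by decide
  simple := by decide +kernel
  npos := by decide +kernel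
  all := by decide +kernel

def wlD4 : List ℤ := [306, 362, 186, 182]

def wsD4 : List (List ℤ) := [[2, 2, 1, 1], [2, 4, 2, 2], [1, 2, 2, 1], [1, 2, 1, 2]]

set_option maxHeartbeats 0 in
theorem acertD4 : ACert chevD4 wlD4 wsD4 2 where
  in_range := by decide +kernel
  sc_pos := by decide
  simple := by decide +kernel
  npos := by decide +kernel
  all := by decide +kernel

def wlF4 : List ℤ := [1720, 2711, 3621, 1811]

def wsF4 : List (List ℤ) := [[2, 3, 4, 2], [3, 6, 8, 4], [2, 4, 6, 3], [1, 2, 3, 2]]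

set_option maxHeartbeats 0 in
theorem acertF4 : ACert chevF4 wlF4 wsF4 1 where
  in_range := by decide +kernel
  sc_pos := by decide
  simple := by decide +kernel
  npos := by decide +kernel
  all := by decide +kernel

def wlE6 : List ℤ := [76470, 67371, 102519, 127539, 85041, 42522]

def wsE6 : List (List ℤ) := [[4, 3, 5, 6, 4, 2], [3, 6, 6, 9, 6, 3], [5, 6, 10, 12, 8, 4], [6, 9, 12, 18, 12, 6], [4, 6, 8, 12, 10, 5], [2, 3, 4, 6, 5, 4]]

set_option maxHeartbeats 0 in
theorem acertE6 : ACert chevE6 wlE6 wsE6 3 where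
  in_range := by decide +kernel
  sc_pos := by decide
  simple := by decide +kernel
  npos := by decide +kernel
  all := by decide +kernel

def wlE7 : List ℤ := [2407682, 2601129, 3752482, 5084160, 3813251, 2542180, 1271091]

def wsE7 : List (List ℤ) := [[4, 4, 6, 8, 6, 4, 2], [4, 7, 8, 12, 9, 6, 3], [6, 8, 12, 16, 12, 8, 4], [8, 12, 16, 24, 18, 12, 6], [6, 9, 12, 18, 15, 10, 5], [4, 6, 8, 12, 10, 8, 4], [2, 3, 4, 6, 5, 4, 3]]

set_option maxHeartbeats 0 in
theorem acertE7 : ACert chevE7 wlE7 wsE7 2 where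
  in_range := by decide +kernel
  sc_pos := by decide
  simple := by decide +kernel
  npos := by decide +kernel
  all := by decide +kernel

def wlE8 : List ℤ := [278031418, 356526368, 493314319, 708225927, 566582606, 424937088, 283291401, 141645701]

def wsE8 : List (List ℤ) := [[4, 5, 7, 10, 8, 6, 4, 2], [5, 8, 10, 15, 12, 9, 6, 3], [7, 10, 14, 20, 16, 12, 8, 4], [10, 15, 20, 30, 24, 18, 12, 6], [8, 12, 16, 24, 20, 15, 10, 5], [6, 9, 12, 18, 15, 12, 8, 4], [4, 6, 8, 12, 10, 8, 6, 3], [2, 3, 4, 6, 5, 4, 3, 2]]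

set_option maxHeartbeats 0 in
theorem acertE8 : ACert chevE8 wlE8 wsE8 1 where
  in_range := by decide +kernel
  sc_pos := by decide
  simple := by decide +kernel
  npos := by decide +kernel
  all := by decide +kernel

end Cfsg.Agent.Lib.Helper18_ChevACerts
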