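import Cfsg.Agent.Lib.Helper18_ChevAdd

set_option autoImplicit false

/-!
Consequences of the commutator formula for the unipotent subgroup `U`: conjugation of root elements, the subgroups
`U_p`, and products of root subgroups over sets of roots closed under the commutator formula.
-/

namespace Cfsg.Agent.Lib.Helper18_ChevUni

open Cfsg Cfsg.Lie Cfsg.Agent.Lib.Helper18_ChevFast Cfsg.Agent.Lib.Helper18_ChevEngine
  Cfsg.Agent.Lib.Helper18_ChevR1 Cfsg.Agent.Lib.Helper18_ChevN Cfsg.Agent.Lib.Helper18_ChevR4
  Cfsg.Agent.Lib.Helper18_ChevSimple Cfsg.Agent.Lib.Helper18_ChevSimple2 Cfsg.Agent.Lib.Helper18_ChevFacts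
  Cfsg.Agent.Lib.Helper18_ChevWeyl Cfsg.Agent.Lib.Helper18_ChevDiag Cfsg.Agent.Lib.Helper18_ChevCar
  Cfsg.Agent.Lib.Helper18_ChevTorus Cfsg.Agent.Lib.Helper18_ChevGL Cfsg.Agent.Lib.Helper18_ChevComm
  Cfsg.Agent.Lib.Helper18_ChevComm2 Cfsg.Agent.Lib.Helper18_MatTri Cfsg.Agent.Lib.Helper18_ChevTri
  Cfsg.Agent.Lib.Helper18_ChevBorel Cfsg.Agent.Lib.Helper18_ChevAdd

variable {D : ChevalleyDatum} {Ns : List NData} {F : Type*} [Field F]

/-! ### Root elements in the general linear group -/

theorem xGL_mul (c : DCert D Ns) (r : ℕ) (t u : F) : xGL c r t * xGL c r u = xGL c r (t + u) := by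
  apply Units.ext
  rw [Units.val_mul, xGL_coe, xGL_coe, xGL_coe]
  exact DCert.addAt_all c r t u

theorem xGL_zero (c : DCert D Ns) (r : ℕ) : xGL c r (0 : F) = 1 := by
  apply Units.ext
  rw [xGL_coe, x_zero]
  rfl

theorem xGL_inv (c : DCert D Ns) (r : ℕ) (t : F) : (xGL c r t)⁻¹ = xGL c r (-t) := by
  rw [inv_eq_iff_mul_eq_one, xGL_mul, add_neg_cancel, xGL_zero]

theorem wordGL_nil (c : DCert D Ns) : wordGL c ([] : List (ℕ × F)) = 1 := by
  unfold wordGL
  simp

theorem wordGL_cons (c : DCert D Ns) (p : ℕ × F) (w : List (ℕ × F)) :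
    wordGL c (p :: w) = xGL c p.1 p.2 * wordGL c w := by
  unfold wordGL
  rw [List.map_cons, List.prod_cons]

theorem wordGL_mem (c : DCert D Ns) (K : Subgroup (GL D.Idx F)) (w : List (ℕ × F))
    (h : ∀ p ∈ w, xGL c p.1 p.2 ∈ K) : wordGL c w ∈ K := by
  unfold wordGL
  apply Subgroup.list_prod_mem
  intro g hg
  rw [List.mem_map] at hg
  obtain ⟨p, hp, rfl⟩ := hg
  exact h p hp

/-- The commutator formula as a conjugation formula in the general linear group. -/
theorem conj_of_R2 (c : DCert D Ns) {r s : ℕ} (h : R2At D F r s) (t u : F) :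
    (xGL c r t)⁻¹ * xGL c s u * xGL c r t = xGL c s u * wordGL c (D.commWord F r s t u) := by
  rw [mul_assoc, inv_mul_eq_iff_eq_mul]
  apply Units.ext
  simp only [Units.val_mul, xGL_coe, wordGL_coe]
  rw [h t u, mul_assoc]

/-- If the roots of the commutator formula for `(r, s)` have their root elements in `K`, conjugation by `x_r(t)`
maps `x_s(u)` into `K`, provided `x_s(u)` is in `K`. -/
theorem conj_mem_of_R2 (c : DCert D Ns) {r s : ℕ} (h : R2At D F r s) (K : Subgroup (GL D.Idx F))
    (hs : ∀ u : F, xGL c s u ∈ K) (hk : ∀ k ∈ D.commTerms r s, ∀ a : F, xGL c k.1 a ∈ K) (t u : F) :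
    (xGL c r t)⁻¹ * xGL c s u * xGL c r t ∈ K := by
  rw [conj_of_R2 c h]
  apply Subgroup.mul_mem _ (hs u)
  apply wordGL_mem
  intro p hp
  unfold ChevalleyDatum.commWord at hp
  rw [List.mem_map] at hp
  obtain ⟨k, hk', rfl⟩ := hp
  exact hk k hk' _

/-! ### Injectivity of the increasing function, and `-(-r) = r` -/

section

variable {wl : List ℤ} {ws : List (List ℤ)} {sc : ℤ}

theorem gl_inj (ac : ACert D wl ws sc) (x y : ℕ) (hx : x < D.nroots) (hy : y < D.nroots)
    (h : gl D wl x = gl D wl y) : x = y := by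
  rcases Nat.lt_trichotomy x y with hlt | heq | hgt
  · have h1 := ac.gl_mono (x + 1) y (by omega) hy
    have h2 := ac.gl_succ x (by omega)
    omega
  · exact heq
  · have h1 := ac.gl_mono (y + 1) x (by omega) hx
    have h2 := ac.gl_succ y (by omega)
    omega

theorem neg_neg_root (c : DCert D Ns) (tc : TCert D) (ac : ACert D wl ws sc) (r : ℕ) (hr : r < D.nroots) :
    D.neg (D.neg r) = r := by
  have h1 := DCert.neg_lt c r hr
  have h2 := DCert.neg_lt c _ h1
  apply gl_inj ac _ _ h2 hr
  unfold gl
  rw [grRoot_neg c tc wl _ h1, grRoot_neg c tc wl _ hr, neg_neg]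

theorem neg_isNeg (c : DCert D Ns) (tc : TCert D) (ac : ACert D wl ws sc) (r : ℕ) (hr : D.IsPosRoot r) :
    D.IsNegRoot (D.neg r) := by
  have h1 := DCert.neg_lt c r hr.1
  rcases ac.posOrNeg _ h1 with h | h
  · exfalso
    have h2 := ac.gl_pos _ h
    have h3 := ac.gl_pos r hr
    unfold gl at h2 h3
    rw [grRoot_neg c tc wl _ hr.1] at h2
    omega
  · exact h

theorem neg_isPos (c : DCert D Ns) (tc : TCert D) (ac : ACert D wl ws sc) (r : ℕ) (hr : D.IsNegRoot r) :
    D.IsPosRoot (D.neg r) := by
  have h1 := DCert.neg_lt c r hr.1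
  rcases ac.posOrNeg _ h1 with h | h
  · exact h
  · exfalso
    have h2 := ac.gl_neg _ h
    have h3 := ac.gl_neg r hr
    unfold gl at h2 h3
    rw [grRoot_neg c tc wl _ hr.1] at h2
    omega

/-- The commutator formula for all pairs, as a hypothesis. -/
def R2All (D : ChevalleyDatum) (F : Type*) [Field F] : Prop :=
  ∀ r s, r < D.nroots → s < D.nroots → s ≠ r → s ≠ D.neg r → R2At D F r s

/-! ### The subgroup `U_p` -/

/-- The generators of `U_p`, `p` the `i`-th fundamental root. -/
def upGens (D : ChevalleyDatum) (F : Type*) [Field F] (i : ℕ) : Set (GL D.Idx F) :=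
  {g | ∃ (s : ℕ) (t : F), D.IsPosRoot s ∧ s ≠ D.simple i ∧ (g : Matrix D.Idx D.Idx F) = D.x F s t}

/-- `x_{±p}(t)` normalizes `U_p`. -/
theorem xGL_mem_normalizer_up (c : DCert D Ns) (tc : TCert D) (ac : ACert D wl ws sc) (hR2 : R2All D F)
    (i : ℕ) (hi : i < D.rank) (r : ℕ) (hr : r = D.simple i ∨ r = D.neg (D.simple i)) (t : F) :
    xGL c r t ∈ Subgroup.normalizer (Subgroup.closure (upGens D F i) : Set (GL D.Idx F)) := by
  have hp := ac.simple i hi
  have hrlt : r < D.nroots := by
    rcases hr with rfl | rfl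
    · exact hp.1
    · exact DCert.neg_lt c _ hp.1
  have key : ∀ (t : F), ∀ g ∈ upGens D F i,
      (xGL c r t)⁻¹ * g * xGL c r t ∈ Subgroup.closure (upGens D F i) := by
    intro t g hg
    obtain ⟨s, u, hs, hne, hg⟩ := hg
    rw [eq_xGL c hg]
    have hsr : s ≠ r ∧ s ≠ D.neg r := by
      have hnn : s ≠ D.neg (D.simple i) := by
        intro h
        have := neg_isNeg c tc ac _ hp.2.1
        rw [← h] at this
        exact ac.not_pos_and_neg s hs this
      rcases hr with rfl | rfl
      · exact ⟨hne, hnn⟩
      · rw [neg_neg_root c tc ac _ hp.1]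
        exact ⟨hnn, hne⟩
    apply conj_mem_of_R2 c (hR2 r s hrlt hs.1 hsr.1 hsr.2)
    · intro u'
      exact Subgroup.subset_closure ⟨s, u', hs, hne, rfl⟩
    · intro k hk a
      obtain ⟨h1, h2⟩ := commTerms_simple_pos c tc ac i hi r hr s hs hne k hk
      exact Subgroup.subset_closure ⟨k.1, a, h1, h2, rfl⟩
  apply mem_normalizer_closure
  · intro g hg
    have := key (-t) g hg
    rwa [← xGL_inv, inv_inv] at this
  · intro g hg
    exact key t g hg

/-- `X_p` and `X_{-p}` normalize `U_p`, and `U = U_p X_p`. -/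
theorem simple_complement (c : DCert D Ns) (tc : TCert D) (ac : ACert D wl ws sc) (hR2 : R2All D F)
    (i : ℕ) (hi : i < D.rank) :
    D.rootSubgroup F (D.simple i) ⊔ D.rootSubgroup F (D.neg (D.simple i)) ≤
        Subgroup.normalizer (Subgroup.closure (upGens D F i) : Set (GL D.Idx F)) ∧
      Subgroup.closure (upGens D F i) ⊔ D.rootSubgroup F (D.simple i) = D.posUnipotent F := by
  have hp := ac.simple i hi
  constructor
  · apply sup_le
    · unfold ChevalleyDatum.rootSubgroup
      rw [Subgroup.closure_le]
      rintro g ⟨t, hg⟩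
      rw [eq_xGL c hg]
      exact xGL_mem_normalizer_up c tc ac hR2 i hi _ (Or.inl rfl) t
    · unfold ChevalleyDatum.rootSubgroup
      rw [Subgroup.closure_le]
      rintro g ⟨t, hg⟩
      rw [eq_xGL c hg]
      exact xGL_mem_normalizer_up c tc ac hR2 i hi _ (Or.inr rfl) t
  · apply le_antisymm
    · apply sup_le
      · rw [Subgroup.closure_le]
        rintro g ⟨s, t, hs, -, hg⟩
        exact Subgroup.subset_closure ⟨s, t, hs, hg⟩
      · unfold ChevalleyDatum.rootSubgroup
        rw [Subgroup.closure_le]
        rintro g ⟨t, hg⟩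
        exact Subgroup.subset_closure ⟨_, t, hp.2.1, hg⟩
    · unfold ChevalleyDatum.posUnipotent
      rw [Subgroup.closure_le]
      rintro g ⟨s, t, hs, hg⟩
      by_cases hsp : s = D.simple i
      · subst hsp
        exact Subgroup.mem_sup_right (Subgroup.subset_closure ⟨t, hg⟩)
      · exact Subgroup.mem_sup_left (Subgroup.subset_closure ⟨s, t, hs, hsp, hg⟩)

end

/-! ### Products of matrices that agree up to a level -/

section Mat

variable {n : Type*} [Fintype n] [DecidableEq n] {R : Type*} [CommRing R] {b : n → ℤ}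

theorem prod_sub_prod_raises {m : ℤ} (hm : 1 ≤ m) :
    ∀ (L : List (Matrix n n R × Matrix n n R)),
      (∀ p ∈ L, Raises b 1 (p.1 - 1) ∧ Raises b 1 (p.2 - 1) ∧ Raises b m (p.1 - p.2)) →
      Raises b 1 ((L.map Prod.fst).prod - 1) ∧ Raises b 1 ((L.map Prod.snd).prod - 1) ∧
      Raises b m ((L.map fun p => p.1 - p.2).sum) ∧
      Raises b (m + 1) ((L.map Prod.fst).prod - (L.map Prod.snd).prod - (L.map fun p => p.1 - p.2).sum)
  | [], _ => by
    simp only [List.map_nil, List.prod_nil, List.sum_nil, sub_self]
    exact ⟨raises_zero _, raises_zero _, raises_zero _, raises_zero _⟩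
  | (A, A') :: L, h => by
    obtain ⟨hA, hA', hd⟩ := h (A, A') (by simp)
    obtain ⟨hR, hR', hS, hE⟩ := prod_sub_prod_raises hm L (fun p hp => h p (List.mem_cons_of_mem _ hp))
    simp only [List.map_cons, List.prod_cons, List.sum_cons]
    simp only at hA hA' hd
    generalize (L.map Prod.fst).prod = P at *
    generalize (L.map Prod.snd).prod = P' at *
    generalize (L.map fun p => p.1 - p.2).sum = S at *
    have hPP' : Raises b m (P - P') := by
      have : P - P' = (P - P' - S) + S := by abel
      rw [this]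
      exact (hE.mono (by omega)).add hS
    refine ⟨?_, ?_, hd.add hS, ?_⟩
    · have : A * P - 1 = (A - 1) * (P - 1) + (A - 1) + (P - 1) := by noncomm_ring
      rw [this]
      exact (((hA.mul hR).mono (by omega)).add hA).add hR
    · have : A' * P' - 1 = (A' - 1) * (P' - 1) + (A' - 1) + (P' - 1) := by noncomm_ring
      rw [this]
      exact (((hA'.mul hR').mono (by omega)).add hA').add hR'
    · have : A * P - A' * P' - (A - A' + S) =
          (A - A') * (P - 1) + (A' - 1) * (P - P') + (P - P' - S) := by noncomm_ring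
      rw [this]
      have h1 := hd.mul hR
      have h2 := hA'.mul hPP'
      exact (h1.add (h2.mono (by omega))).add hE

omit [Fintype n] [DecidableEq n] in
theorem list_sum_apply (l : List (Matrix n n R)) (i j : n) : l.sum i j = (l.map fun A => A i j).sum := by
  induction l with
  | nil => simp
  | cons A l ih => simp [Matrix.add_apply, ih]

end Mat

theorem sum_map_single {α : Type*} {M : Type*} [AddCommMonoid M] :
    ∀ (L : List α), L.Nodup → ∀ (r : α), r ∈ L → ∀ (f : α → M), (∀ s ∈ L, s ≠ r → f s = 0) →
      (L.map f).sum = f r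
  | [], _, r, hr, _, _ => by simp at hr
  | a :: L, hnd, r, hr, f, hf => by
    rw [List.nodup_cons] at hnd
    rw [List.map_cons, List.sum_cons]
    by_cases har : a = r
    · subst har
      have : (L.map f).sum = 0 := by
        apply List.sum_eq_zero
        intro x hx
        rw [List.mem_map] at hx
        obtain ⟨s, hs, rfl⟩ := hx
        apply hf s (List.mem_cons_of_mem _ hs)
        rintro rfl
        exact hnd.1 hs
      rw [this, add_zero]
    · have hr' : r ∈ L := by
        rcases List.mem_cons.mp hr with h | h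
        · exact absurd h.symm har
        · exact h
      rw [hf a (by simp) har, zero_add]
      exact sum_map_single L hnd.2 r hr' f (fun s hs => hf s (List.mem_cons_of_mem _ hs))

/-! ### Uniqueness of the expression as a product of root elements -/

section

variable {wl : List ℤ} {ws : List (List ℤ)} {sc : ℤ}

theorem neg_ne_self (c : DCert D Ns) (tc : TCert D) (ac : ACert D wl ws sc) (r : ℕ) (hr : r < D.nroots) :
    D.neg r ≠ r := by
  intro h
  have h1 := grRoot_neg c tc wl r hr
  rw [h] at h1
  rcases ac.posOrNeg r hr with hp | hn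
  · have := ac.gl_pos r hp
    unfold gl at this
    omega
  · have := ac.gl_neg r hn
    unfold gl at this
    omega

/-- The entry of `x_s(τ)` in the row of `h_i` and the column of `e_{-r}`. -/
theorem x_entry_inl_neg (c : DCert D Ns) (tc : TCert D) (ac : ACert D wl ws sc) (r s : ℕ) (hr : r < D.nroots)
    (hs : s < D.nroots) (hnr : D.neg r < D.nroots) (i : Fin D.rank) (τ : F) :
    D.x F s τ (Sum.inl i) (Sum.inr ⟨D.neg r, hnr⟩) = if s = r then ((cor D r i : ℤ) : F) * τ else 0 := by
  unfold ChevalleyDatum.x
  rw [dif_pos hs]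
  by_cases hsr : s = r
  · subst hsr
    rw [if_pos rfl]
    rw [xMat_inl_inr_neg D ⟨s, hs⟩ ⟨D.neg s, hnr⟩ τ i (by
      intro h
      exact neg_ne_self c tc ac s hs (Fin.mk.inj_iff.mp h)) rfl]
    rfl
  · rw [if_neg hsr]
    by_cases h1 : D.neg r = s
    · have : (⟨D.neg r, hnr⟩ : Fin D.nroots) = ⟨s, hs⟩ := Fin.ext h1
      rw [this, xMat_inl_inr_self]
    · apply xMat_inl_inr_gen D
      · intro h
        exact h1 (Fin.mk.inj_iff.mp h)
      · intro h
        apply hsr
        have h2 : D.neg r = D.neg s := h
        rw [← neg_neg_root c tc ac r hr, h2, neg_neg_root c tc ac s hs]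

/-- If the integers `cor r i` annihilate `x`, then `x = 0`. -/
theorem eq_zero_of_cor_mul (ac : ACert D wl ws sc) (r : ℕ) (hr : r < D.nroots) (x : F)
    (h : ∀ i < D.rank, ((cor D r i : ℤ) : F) * x = 0) : x = 0 := by
  by_contra hx
  have h0 : ∀ i < D.rank, ((cor D r i : ℤ) : F) = 0 := by
    intro i hi
    rcases mul_eq_zero.mp (h i hi) with h1 | h1
    · exact h1
    · exact absurd h1 hx
  have hdvd : ∀ i < D.rank, ((ringChar F : ℕ) : ℤ) ∣ cor D r i := by
    intro i hi
    exact (CharP.intCast_eq_zero_iff F (ringChar F) _).mp (h0 i hi)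
  have key : ∀ (l : List ℕ), (∀ i ∈ l, i < D.rank) →
      ((ringChar F : ℕ) : ℤ) ∣ ((l.foldr (fun i acc => Int.gcd (cor D r i) acc) 0 : ℕ) : ℤ) := by
    intro l
    induction l with
    | nil => intro _; simp
    | cons a l ih =>
      intro hl
      rw [List.foldr_cons]
      exact Int.dvd_coe_gcd (hdvd a (hl a (by simp))) (ih (fun i hi => hl i (List.mem_cons_of_mem _ hi)))
  have := key (List.range D.rank) (fun i hi => List.mem_range.mp hi)
  rw [ac.cor_gcd r hr] at this
  have h1 : (ringChar F : ℕ) = 1 := by
    have : ((ringChar F : ℕ) : ℤ) ∣ 1 := by exact_mod_cast this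
    exact Nat.dvd_one.mp (by exact_mod_cast this)
  exact CharP.ringChar_ne_one h1

/-- Uniqueness of the parameters of a product of root elements over a list of distinct positive roots. -/
theorem unique_word (c : DCert D Ns) (tc : TCert D) (ac : ACert D wl ws sc) (L : List ℕ) (hL : L.Nodup)
    (hpos : ∀ r ∈ L, D.IsPosRoot r) (t t' : ℕ → F)
    (h : D.wordMat F (L.map fun r => (r, t r)) = D.wordMat F (L.map fun r => (r, t' r))) :
    ∀ r ∈ L, t r = t' r := by
  have hg := isGrading_w c tc wl
  have key : ∀ n : ℕ, ∀ r ∈ L, (gl D wl r).toNat = n → t r = t' r := by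
    intro n
    induction n using Nat.strong_induction_on with
    | _ n ih =>
      intro r hr hn
      have hrp := hpos r hr
      have hm : 1 ≤ gl D wl r := ac.gl_pos r hrp
      have hlow : ∀ s ∈ L, gl D wl s < gl D wl r → t s = t' s := by
        intro s hs hlt
        have hsp := ac.gl_pos s (hpos s hs)
        exact ih (gl D wl s).toNat (by omega) s hs rfl
      let LL : List (Matrix D.Idx D.Idx F × Matrix D.Idx D.Idx F) :=
        L.map fun s => (D.x F s (t s), D.x F s (t' s))
      have hLL : ∀ p ∈ LL, Raises (grIdx D (grRoot D wl)) 1 (p.1 - 1) ∧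
          Raises (grIdx D (grRoot D wl)) 1 (p.2 - 1) ∧
          Raises (grIdx D (grRoot D wl)) (gl D wl r) (p.1 - p.2) := by
        intro p hp
        rw [List.mem_map] at hp
        obtain ⟨s, hs, rfl⟩ := hp
        have hsp := hpos s hs
        have hs1 : 1 ≤ grRoot D wl s := ac.gl_pos s hsp
        refine ⟨x_sub_one_raises hg s hsp.1 1 (le_refl _) hs1 _,
          x_sub_one_raises hg s hsp.1 1 (le_refl _) hs1 _, ?_⟩
        by_cases hlt : gl D wl s < gl D wl r
        · simp only
          rw [hlow s hs hlt, sub_self]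
          exact raises_zero _
        · have hle : gl D wl r ≤ grRoot D wl s := by
            unfold gl at hlt ⊢
            omega
          have e : D.x F s (t s) - D.x F s (t' s) = (D.x F s (t s) - 1) - (D.x F s (t' s) - 1) := by abel
          simp only
          rw [e]
          exact (x_sub_one_raises hg s hsp.1 _ hm hle _).sub (x_sub_one_raises hg s hsp.1 _ hm hle _)
      obtain ⟨-, -, -, hE⟩ := prod_sub_prod_raises hm LL hLL
      have e1 : (LL.map Prod.fst).prod = D.wordMat F (L.map fun r => (r, t r)) := by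
        unfold ChevalleyDatum.wordMat
        simp only [LL, List.map_map]
        rfl
      have e2 : (LL.map Prod.snd).prod = D.wordMat F (L.map fun r => (r, t' r)) := by
        unfold ChevalleyDatum.wordMat
        simp only [LL, List.map_map]
        rfl
      rw [e1, e2, h, sub_self, zero_sub] at hE
      have hnr := DCert.neg_lt c r hrp.1
      apply sub_eq_zero.mp
      apply eq_zero_of_cor_mul ac r hrp.1
      intro i hi
      have hz := hE (Sum.inl ⟨i, hi⟩) (Sum.inr ⟨D.neg r, hnr⟩) (by
        simp only [grIdx]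
        rw [grRoot_neg c tc wl r hrp.1]
        unfold gl
        omega)
      rw [Matrix.neg_apply, neg_eq_zero, list_sum_apply] at hz
      simp only [LL, List.map_map] at hz
      rw [sum_map_single L hL r hr _ (by
        intro s hs hsr
        simp only [Function.comp]
        rw [Matrix.sub_apply, x_entry_inl_neg c tc ac r s hrp.1 (hpos s hs).1 hnr,
          x_entry_inl_neg c tc ac r s hrp.1 (hpos s hs).1 hnr]
        simp only [if_neg hsr, sub_self])] at hz
      simp only [Function.comp] at hz
      rw [Matrix.sub_apply, x_entry_inl_neg c tc ac r r hrp.1 hrp.1 hnr,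
        x_entry_inl_neg c tc ac r r hrp.1 hrp.1 hnr] at hz
      simp only [if_true] at hz
      rw [mul_sub]
      exact hz
  intro r hr
  exact key _ r hr rfl

end

/-! ### Existence of the expression as a product of root elements -/

/-- The generators attached to a list of roots. -/
def listGens (D : ChevalleyDatum) (F : Type*) [Field F] (L : List ℕ) : Set (GL D.Idx F) :=
  {g | ∃ s ∈ L, ∃ t : F, (g : Matrix D.Idx D.Idx F) = D.x F s t}

/-- A list of roots, increasing, in range and closed under the commutator formula. -/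
structure ClosedList (D : ChevalleyDatum) (L : List ℕ) : Prop where
  sorted : L.Pairwise (· < ·)
  lt : ∀ a ∈ L, a < D.nroots
  ne_neg : ∀ a ∈ L, ∀ b ∈ L, b ≠ D.neg a
  closed : ∀ a ∈ L, ∀ b ∈ L, a ≠ b → ∀ k ∈ D.commTerms a b, k.1 ∈ L ∧ a < k.1 ∧ b < k.1

theorem ClosedList.tail {a : ℕ} {L : List ℕ} (h : ClosedList D (a :: L)) : ClosedList D L where
  sorted := (List.pairwise_cons.mp h.sorted).2
  lt := fun x hx => h.lt x (List.mem_cons_of_mem _ hx)
  ne_neg := fun x hx y hy => h.ne_neg x (List.mem_cons_of_mem _ hx) y (List.mem_cons_of_mem _ hy)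
  closed := by
    intro x hx y hy hxy k hk
    obtain ⟨h1, h2, h3⟩ := h.closed x (List.mem_cons_of_mem _ hx) y (List.mem_cons_of_mem _ hy) hxy k hk
    refine ⟨?_, h2, h3⟩
    rcases List.mem_cons.mp h1 with h4 | h4
    · have := (List.pairwise_cons.mp h.sorted).1 x hx
      omega
    · exact h4

/-- Every element of the group generated by the root subgroups of a closed list of roots is a product of root
elements in the order of the list. -/
theorem exists_word_of_closed (c : DCert D Ns) (hR2 : R2All D F) :
    ∀ (L : List ℕ), ClosedList D L → ∀ g ∈ Subgroup.closure (listGens D F L),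
      ∃ t : ℕ → F, g = wordGL c (L.map fun r => (r, t r))
  | [], _, g, hg => by
    have : listGens D F [] = ∅ := by
      ext g
      simp [listGens]
    rw [this, Subgroup.closure_empty, Subgroup.mem_bot] at hg
    exact ⟨fun _ => 0, by rw [hg, List.map_nil, wordGL_nil]⟩
  | r :: L, hcl, g, hg => by
    have ih := exists_word_of_closed c hR2 L hcl.tail
    have hrL : ∀ b ∈ L, r < b := (List.pairwise_cons.mp hcl.sorted).1
    have hrlt := hcl.lt r (by simp)
    -- `x_r(t)` normalizes the group of the tail
    have hnorm : ∀ t : F, xGL c r t ∈ Subgroup.normalizer (Subgroup.closure (listGens D F L) : Set (GL D.Idx F)) := by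
      have key : ∀ (t : F), ∀ y ∈ listGens D F L,
          (xGL c r t)⁻¹ * y * xGL c r t ∈ Subgroup.closure (listGens D F L) := by
        intro t y hy
        obtain ⟨b, hb, u, hy⟩ := hy
        rw [eq_xGL c hy]
        have hbr : b ≠ r := by have := hrL b hb; omega
        have hb' : b ∈ r :: L := List.mem_cons_of_mem _ hb
        apply conj_mem_of_R2 c (hR2 r b hrlt (hcl.lt b hb') hbr (hcl.ne_neg r (by simp) b hb'))
        · intro u'
          exact Subgroup.subset_closure ⟨b, hb, u', rfl⟩
        · intro k hk a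
          obtain ⟨h1, h2, h3⟩ := hcl.closed r (by simp) b hb' (Ne.symm hbr) k hk
          have h4 : k.1 ∈ L := by
            rcases List.mem_cons.mp h1 with h | h
            · omega
            · exact h
          exact Subgroup.subset_closure ⟨k.1, h4, a, rfl⟩
      intro t
      apply mem_normalizer_closure
      · intro y hy
        have := key (-t) y hy
        rwa [← xGL_inv, inv_inv] at this
      · intro y hy
        exact key t y hy
    have hconj : ∀ (t : F), ∀ y ∈ Subgroup.closure (listGens D F L),
        (xGL c r t)⁻¹ * y * xGL c r t ∈ Subgroup.closure (listGens D F L) := by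
      intro t y hy
      have h1 := hnorm (-t)
      rw [← xGL_inv] at h1
      have := (Subgroup.mem_normalizer_iff.mp h1 y).mp hy
      rwa [inv_inv] at this
    -- every element is `x_r(t) y` with `y` in the group of the tail
    have hprod : ∃ (t0 : F), ∃ y ∈ Subgroup.closure (listGens D F L), g = xGL c r t0 * y := by
      induction hg using Subgroup.closure_induction with
      | mem g hg =>
        obtain ⟨s, hs, t, hg⟩ := hg
        rcases List.mem_cons.mp hs with rfl | hs
        · exact ⟨t, 1, Subgroup.one_mem _, by rw [mul_one]; exact eq_xGL c hg⟩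
        · refine ⟨0, g, Subgroup.subset_closure ⟨s, hs, t, hg⟩, by rw [xGL_zero, one_mul]⟩
      | one => exact ⟨0, 1, Subgroup.one_mem _, by rw [xGL_zero, one_mul]⟩
      | mul a b _ _ iha ihb =>
        obtain ⟨t1, y1, hy1, rfl⟩ := iha
        obtain ⟨t2, y2, hy2, rfl⟩ := ihb
        refine ⟨t1 + t2, ((xGL c r t2)⁻¹ * y1 * xGL c r t2) * y2,
          Subgroup.mul_mem _ (hconj t2 y1 hy1) hy2, ?_⟩
        rw [← xGL_mul]
        group
      | inv a _ iha =>
        obtain ⟨t1, y1, hy1, rfl⟩ := iha
        refine ⟨-t1, (xGL c r (-t1))⁻¹ * y1⁻¹ * xGL c r (-t1), hconj (-t1) _ (Subgroup.inv_mem _ hy1), ?_⟩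
        rw [← xGL_inv]
        group
    obtain ⟨t0, y, hy, rfl⟩ := hprod
    obtain ⟨t', rfl⟩ := ih y hy
    refine ⟨Function.update t' r t0, ?_⟩
    rw [List.map_cons, wordGL_cons]
    simp only [Function.update_self]
    congr 2
    apply List.map_congr_left
    intro b hb
    have := hrL b hb
    rw [Function.update_of_ne (by omega)]

section

variable {wl : List ℤ} {ws : List (List ℤ)} {sc : ℤ}

theorem mem_posRoots (r : ℕ) : r ∈ D.posRoots ↔ D.IsPosRoot r := by
  unfold ChevalleyDatum.posRoots
  rw [List.mem_filter, List.mem_range, decide_eq_true_eq]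
  constructor
  · exact fun h => h.2
  · exact fun h => ⟨h.1, h⟩

theorem posRoots_sorted : D.posRoots.Pairwise (· < ·) := by
  unfold ChevalleyDatum.posRoots
  exact List.Pairwise.filter _ List.pairwise_lt_range

theorem posRoots_nodup : D.posRoots.Nodup := by
  unfold ChevalleyDatum.posRoots
  exact List.Nodup.filter _ List.nodup_range

theorem closedList_posRoots (c : DCert D Ns) (tc : TCert D) (ac : ACert D wl ws sc) : ClosedList D D.posRoots where
  sorted := posRoots_sorted
  lt := fun a ha => ((mem_posRoots a).mp ha).1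
  ne_neg := by
    intro a ha b hb h
    have h1 := neg_isNeg c tc ac a ((mem_posRoots a).mp ha)
    rw [← h] at h1
    exact ac.not_pos_and_neg b ((mem_posRoots b).mp hb) h1
  closed := by
    intro a ha b hb _ k hk
    obtain ⟨h1, h2, h3⟩ := commTerms_pos_lt c tc ac a b ((mem_posRoots a).mp ha) ((mem_posRoots b).mp hb) k hk
    exact ⟨(mem_posRoots _).mpr h1, h2, h3⟩

theorem posUnipotent_eq_listGens : D.posUnipotent F = Subgroup.closure (listGens D F D.posRoots) := by
  unfold ChevalleyDatum.posUnipotent listGens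
  congr 1
  ext g
  show (∃ (r : ℕ) (t : F), D.IsPosRoot r ∧ (g : Matrix D.Idx D.Idx F) = D.x F r t) ↔
    ∃ s ∈ D.posRoots, ∃ t : F, (g : Matrix D.Idx D.Idx F) = D.x F s t
  constructor
  · rintro ⟨r, t, hr, hg⟩
    exact ⟨r, (mem_posRoots r).mpr hr, t, hg⟩
  · rintro ⟨r, hr, t, hg⟩
    exact ⟨r, t, (mem_posRoots r).mp hr, hg⟩

/-- Every element of `U` is a product of root elements over the positive roots in increasing order. -/
theorem posUnipotent_exists_word (c : DCert D Ns) (tc : TCert D) (ac : ACert D wl ws sc) (hR2 : R2All D F)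
    (g : GL D.Idx F) (hg : g ∈ D.posUnipotent F) :
    ∃ t : ℕ → F, g = wordGL c (D.posRoots.map fun r => (r, t r)) := by
  rw [posUnipotent_eq_listGens] at hg
  exact exists_word_of_closed c hR2 _ (closedList_posRoots c tc ac) g hg

/-- A product of root elements over positive roots lies in `U`. -/
theorem wordGL_mem_posUnipotent (c : DCert D Ns) (w : List (ℕ × F)) (h : ∀ p ∈ w, D.IsPosRoot p.1) :
    wordGL c w ∈ D.posUnipotent F := by
  apply wordGL_mem
  intro p hp
  exact Subgroup.subset_closure ⟨p.1, p.2, h p hp, rfl⟩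

/-- The unique expression of the elements of `U` (statement S1026). -/
theorem posUnipotent_unique_product (c : DCert D Ns) (tc : TCert D) (ac : ACert D wl ws sc) (hR2 : R2All D F) :
    (∀ g : GL D.Idx F, g ∈ D.posUnipotent F →
      ∃! t : ℕ → F, (∀ r, ¬ D.IsPosRoot r → t r = 0) ∧
        (g : Matrix D.Idx D.Idx F) = D.wordMat F (D.posRoots.map fun r => (r, t r))) ∧
    (∀ t : ℕ → F, ∃ g : GL D.Idx F, g ∈ D.posUnipotent F ∧
      (g : Matrix D.Idx D.Idx F) = D.wordMat F (D.posRoots.map fun r => (r, t r))) := by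
  constructor
  · intro g hg
    obtain ⟨t, rfl⟩ := posUnipotent_exists_word c tc ac hR2 g hg
    refine ⟨fun r => if D.IsPosRoot r then t r else 0, ⟨?_, ?_⟩, ?_⟩
    · intro r hr
      simp only [if_neg hr]
    · rw [wordGL_coe]
      congr 1
      apply List.map_congr_left
      intro r hr
      simp only [if_pos ((mem_posRoots r).mp hr)]
    · rintro t' ⟨ht', hw⟩
      rw [wordGL_coe] at hw
      funext r
      by_cases hr : D.IsPosRoot r
      · simp only [if_pos hr]
        exact (unique_word c tc ac D.posRoots posRoots_nodup (fun s hs => (mem_posRoots s).mp hs) t t' hw r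
          ((mem_posRoots r).mpr hr)).symm
      · simp only [if_neg hr]
        exact ht' r hr
  · intro t
    refine ⟨wordGL c (D.posRoots.map fun r => (r, t r)), ?_, wordGL_coe c _⟩
    apply wordGL_mem_posUnipotent
    intro p hp
    rw [List.mem_map] at hp
    obtain ⟨r, hr, rfl⟩ := hp
    exact (mem_posRoots r).mp hr

end

/-! ### The order of `U` -/

section

variable {wl : List ℤ} {ws : List (List ℤ)} {sc : ℤ}

/-- Extension by zero of a family of parameters indexed by the positive roots. -/
def extZero (D : ChevalleyDatum) (t : ↥D.posRoots.toFinset → F) (r : ℕ) : F :=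
  if h : r ∈ D.posRoots.toFinset then t ⟨r, h⟩ else 0

theorem card_posUnipotent [Fintype F] (c : DCert D Ns) (tc : TCert D) (ac : ACert D wl ws sc)
    (hR2 : R2All D F) : Nat.card (D.posUnipotent F) = Fintype.card F ^ (D.nroots / 2) := by
  let φ : (↥D.posRoots.toFinset → F) → D.posUnipotent F := fun t =>
    ⟨wordGL c (D.posRoots.map fun r => (r, extZero D t r)), by
      apply wordGL_mem_posUnipotent
      intro p hp
      rw [List.mem_map] at hp
      obtain ⟨r, hr, rfl⟩ := hp
      exact (mem_posRoots r).mp hr⟩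
  have hφ : Function.Bijective φ := by
    constructor
    · intro t t' h
      have h1 : wordGL c (D.posRoots.map fun r => (r, extZero D t r)) =
          wordGL c (D.posRoots.map fun r => (r, extZero D t' r)) := congrArg Subtype.val h
      have h2 := congrArg (fun g : GL D.Idx F => (g : Matrix D.Idx D.Idx F)) h1
      simp only [wordGL_coe] at h2
      have h3 := unique_word c tc ac D.posRoots posRoots_nodup (fun s hs => (mem_posRoots s).mp hs) _ _ h2
      funext ⟨r, hr⟩
      have h4 := h3 r (List.mem_toFinset.mp hr)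
      unfold extZero at h4
      rwa [dif_pos hr, dif_pos hr] at h4
    · rintro ⟨g, hg⟩
      obtain ⟨t, rfl⟩ := posUnipotent_exists_word c tc ac hR2 g hg
      refine ⟨fun r => t r.val, ?_⟩
      apply Subtype.ext
      show wordGL c (D.posRoots.map fun r => (r, extZero D (fun r => t r.val) r)) = _
      congr 1
      apply List.map_congr_left
      intro r hr
      unfold extZero
      rw [dif_pos (List.mem_toFinset.mpr hr)]
  rw [← Nat.card_congr (Equiv.ofBijective φ hφ), Nat.card_fun, Nat.card_eq_fintype_card,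
    Nat.card_eq_fintype_card, Fintype.card_coe, List.toFinset_card_of_nodup posRoots_nodup, ac.npos]

end

end Cfsg.Agent.Lib.Helper18_ChevUni
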