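import Cfsg.Agent.Lib.Helper18_ChevData4
import Cfsg.Agent.Lib.Helper18_ChevACerts
import Cfsg.Agent.Lib.Helper18_ChevUni

set_option autoImplicit false

/-! All certificates of the seven tabulated data. -/

namespace Cfsg.Agent.Lib.Helper18_ChevData5

open Cfsg Cfsg.Lie Cfsg.Agent.Lib.Helper18_ChevFast Cfsg.Agent.Lib.Helper18_ChevEngine
  Cfsg.Agent.Lib.Helper18_ChevR1 Cfsg.Agent.Lib.Helper18_ChevN Cfsg.Agent.Lib.Helper18_ChevR4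
  Cfsg.Agent.Lib.Helper18_ChevSimple Cfsg.Agent.Lib.Helper18_ChevChunk Cfsg.Agent.Lib.Helper18_ChevDiag
  Cfsg.Agent.Lib.Helper18_ChevH Cfsg.Agent.Lib.Helper18_ChevSimple2 Cfsg.Agent.Lib.Helper18_ChevFacts
  Cfsg.Agent.Lib.Helper18_ChevWeyl Cfsg.Agent.Lib.Helper18_ChevCar
  Cfsg.Agent.Lib.Helper18_ChevTorus Cfsg.Agent.Lib.Helper18_ChevGL
  Cfsg.Agent.Lib.Helper18_MatTri Cfsg.Agent.Lib.Helper18_ChevTri
  Cfsg.Agent.Lib.Helper18_ChevComm Cfsg.Agent.Lib.Helper18_ChevComm2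
  Cfsg.Agent.Lib.Helper18_ChevAdd Cfsg.Agent.Lib.Helper18_ChevUni Cfsg.Agent.Lib.Helper18_ChevACerts

theorem exists_cert5 (D : ChevalleyDatum)
    (hD : D ∈ [chevG2, chevB2, chevD4, chevF4, chevE6, chevE7, chevE8]) :
    ∃ (Ns : List NData) (w : List ℤ) (d : ℕ) (Ts : List NPack) (hT : ℕ) (K : ℤ) (base : List (ℕ × ℕ))
      (stepT : List ℕ) (wl : List ℤ) (ws : List (List ℤ)) (sc : ℤ),
      DCert D Ns ∧ TCert D ∧ GCert D w d ∧ PCert D Ns Ts hT K base stepT ∧ ACert D wl ws sc := by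
  simp only [List.mem_cons, List.not_mem_nil, or_false] at hD
  rcases hD with rfl | rfl | rfl | rfl | rfl | rfl | rfl
  · exact ⟨_, _, _, _, _, _, _, _, _, _, _, Cfsg.Agent.Lib.Helper18_ChevDatumG2.dcert,
      Cfsg.Agent.Lib.Helper18_ChevTCertG2.tcert, Cfsg.Agent.Lib.Helper18_ChevGCertG2.gcert,
      Cfsg.Agent.Lib.Helper18_ChevPCertG2.pcert, acertG2⟩
  · exact ⟨_, _, _, _, _, _, _, _, _, _, _, Cfsg.Agent.Lib.Helper18_ChevDatumB2.dcert,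
      Cfsg.Agent.Lib.Helper18_ChevTCertB2.tcert, Cfsg.Agent.Lib.Helper18_ChevGCertB2.gcert,
      Cfsg.Agent.Lib.Helper18_ChevPCertB2.pcert, acertB2⟩
  · exact ⟨_, _, _, _, _, _, _, _, _, _, _, Cfsg.Agent.Lib.Helper18_ChevDatumD4.dcert,
      Cfsg.Agent.Lib.Helper18_ChevTCertD4.tcert, Cfsg.Agent.Lib.Helper18_ChevGCertD4.gcert,
      Cfsg.Agent.Lib.Helper18_ChevPCertD4.pcert, acertD4⟩
  · exact ⟨_, _, _, _, _, _, _, _, _, _, _, Cfsg.Agent.Lib.Helper18_ChevDatumF4.dcert,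
      Cfsg.Agent.Lib.Helper18_ChevTCertF4.tcert, Cfsg.Agent.Lib.Helper18_ChevGCertF4.gcert,
      Cfsg.Agent.Lib.Helper18_ChevPCertF4.pcert, acertF4⟩
  · exact ⟨_, _, _, _, _, _, _, _, _, _, _, Cfsg.Agent.Lib.Helper18_ChevDatumE6.dcert,
      Cfsg.Agent.Lib.Helper18_ChevTCertE6.tcert, Cfsg.Agent.Lib.Helper18_ChevGCertE6.gcert,
      Cfsg.Agent.Lib.Helper18_ChevPCertE6.pcert, acertE6⟩
  · exact ⟨_, _, _, _, _, _, _, _, _, _, _, Cfsg.Agent.Lib.Helper18_ChevDatumE7.dcert,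
      Cfsg.Agent.Lib.Helper18_ChevTCertE7.tcert, Cfsg.Agent.Lib.Helper18_ChevGCertE7.gcert,
      Cfsg.Agent.Lib.Helper18_ChevPCertE7.pcert, acertE7⟩
  · exact ⟨_, _, _, _, _, _, _, _, _, _, _, Cfsg.Agent.Lib.Helper18_ChevDatumE8.dcert,
      Cfsg.Agent.Lib.Helper18_ChevTCertE8.tcert, Cfsg.Agent.Lib.Helper18_ChevGCertE8.gcert,
      Cfsg.Agent.Lib.Helper18_ChevPCertE8.pcert, acertE8⟩

end Cfsg.Agent.Lib.Helper18_ChevData5
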