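import Mathlib
import Cfsg.Prelude.Def_Characters
import Cfsg.Prelude.Def_ParabolicCharacters
import Cfsg.Prelude.Def_LieTypes
import Cfsg.Prelude.Def_ChevB2
import Cfsg.Agent.Lib.Helper40_DefZeroDefs
import Cfsg.Agent.Lib.Helper40_ChevDZDefs
import Cfsg.Agent.Lib.Helper12_DZ_CHBRUHATaux
import Cfsg.Agent.Lib.Helper18_ChevData5

set_option autoImplicit false

/-!
# defzero wave 3 (architect helper40): package CHBRUHAT (helper12)

For every `g` in the Chevalley group there is `y ∈ P_i` with `g (y X_i y⁻¹) g⁻¹ ≤ U`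
(Bruhat decomposition + linear action of `N` on the roots).
-/

namespace Cfsg.Agent.Lib.Helper12_DZ_CHBRUHAT

open Cfsg Cfsg.Lie Cfsg.Agent.Lib.Helper40_DefZeroDefs Cfsg.Agent.Lib.Helper40_ChevDZDefs

variable {F : Type*} [Field F] (D : ChevalleyDatum)
  (hD : D ∈ [chevG2, chevB2, chevD4, chevF4, chevE6, chevE7, chevE8])
include hD

theorem ch_bruhat (i : ℕ) (hi : i < D.rank) :
    ∀ g : ↥(D.group F), ∃ y ∈ cP D F i, ∀ x ∈ cX D F i, g * (y * x * y⁻¹) * g⁻¹ ∈ cU D F := by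
  obtain ⟨Ns, w, d, Ts, hT, K, base, stepT, wl, ws, sc, c, tc, gc, pc, ac⟩ :=
    Cfsg.Agent.Lib.Helper18_ChevData5.exists_cert5 D hD
  exact Cfsg.Agent.Lib.Helper12_DZ_CHBRUHATaux.ch_bruhat_aux c tc ac gc
    (Cfsg.Agent.Lib.Helper18_ChevComm2.r2_all c pc) i hi

end Cfsg.Agent.Lib.Helper12_DZ_CHBRUHAT
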