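import Mathlib
import Cfsg.Prelude.Def_Characters
import Cfsg.Prelude.Def_ParabolicCharacters
import Cfsg.Prelude.Def_LinearParabolics
import Cfsg.Prelude.Def_Blocks
import Cfsg.Prelude.Def_Solvable
import Cfsg.Agent.Lib.Helper40_DefZeroDefs
import Cfsg.Agent.Lib.Helper40_SLBNDefs
import Cfsg.Agent.Lib.Helper40_SLBNDefs2

set_option autoImplicit false

/-!
# defzero wave 2 (architect helper40): package SLCOVER (helper12)

`P_a = B ∪ U n_a B` in `SL_n(F)`: one row operation.  Here `n_a` is the lower transvection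
`1 - e_{a+1,a}` (any element of `P_a ∖ B` normalised suitably works).
-/

namespace Cfsg.Agent.Lib.Helper12_DZ_SLCOVER

open Cfsg Cfsg.Agent.Lib.Helper40_DefZeroDefs Cfsg.Agent.Lib.Helper40_SLBNDefs
open Matrix
open scoped MatrixGroups

section aux

variable {n : ℕ} {F : Type*} [Field F]

/-- a transvection as an element of `SL_n(F)` -/
def h12tv (i j : Fin n) (h : i ≠ j) (t : F) : SpecialLinearGroup (Fin n) F :=
  ⟨Matrix.transvection i j t, Matrix.det_transvection_of_ne i j h t⟩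

theorem h12tv_coe (i j : Fin n) (h : i ≠ j) (t : F) :
    ((h12tv i j h t : SpecialLinearGroup (Fin n) F) : Matrix (Fin n) (Fin n) F) =
      Matrix.transvection i j t := rfl

theorem h12tv_mul (i j : Fin n) (h : i ≠ j) (s t : F) :
    h12tv i j h s * h12tv i j h t = h12tv i j h (s + t) :=
  Subtype.ext (Matrix.transvection_mul_transvection_same i j h s t)

theorem h12tv_zero (i j : Fin n) (h : i ≠ j) : h12tv i j h (0 : F) = 1 :=
  Subtype.ext (Matrix.transvection_zero i j)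

theorem h12tv_mul_neg (i j : Fin n) (h : i ≠ j) (t : F) :
    h12tv i j h t * h12tv i j h (-t) = 1 := by
  rw [h12tv_mul, add_neg_cancel, h12tv_zero]

/-- block triangular for `la a` with vanishing `(a+1, a)` entry is upper triangular -/
theorem h12_bt_lB {a : ℕ} (ha : a + 1 < n) {M : Matrix (Fin n) (Fin n) F}
    (hM : M.BlockTriangular (la a : Fin n → ℕ))
    (h0 : M ⟨a + 1, ha⟩ ⟨a, by omega⟩ = 0) : M.BlockTriangular (lB : Fin n → ℕ) := by
  intro i j hij
  have hji : j.val < i.val := hij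
  by_cases h : (la a : Fin n → ℕ) j < (la a : Fin n → ℕ) i
  · exact hM h
  · have hla : (la a : Fin n → ℕ) i ≤ (la a : Fin n → ℕ) j := not_lt.mp h
    unfold la at hla
    have hi : i = ⟨a + 1, ha⟩ := by
      apply Fin.ext
      simp only
      split_ifs at hla <;> omega
    have hj : j = ⟨a, by omega⟩ := by
      apply Fin.ext
      simp only
      split_ifs at hla <;> omega
    rw [hi, hj]
    exact h0

/-- the lower transvection at `(a+1, a)` lies in `P_a` -/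
theorem h12_lower_mem {a : ℕ} (ha : a + 1 < n) (t : F) :
    h12tv (⟨a + 1, ha⟩ : Fin n) ⟨a, by omega⟩ (by simp [Fin.ext_iff]) t ∈
      PL F (la a : Fin n → ℕ) := by
  rw [mem_PL, h12tv_coe]
  intro i j hij
  have hne : i ≠ j := by
    rintro rfl
    exact lt_irrefl _ hij
  rw [Matrix.transvection, Matrix.add_apply, Matrix.one_apply_ne hne, zero_add]
  apply Matrix.single_apply_of_ne
  rintro ⟨rfl, rfl⟩
  unfold la at hij
  simp at hij

/-- the upper transvection at `(a, a+1)` lies in `U` -/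
theorem h12_upper_mem {a : ℕ} (ha : a + 1 < n) (t : F) :
    h12tv (⟨a, by omega⟩ : Fin n) ⟨a + 1, ha⟩ (by simp [Fin.ext_iff]) t ∈
      UL F (lB : Fin n → ℕ) := by
  rw [mem_UL, h12tv_coe, Matrix.transvection, add_sub_cancel_left]
  intro i j hij
  apply Matrix.single_apply_of_ne
  rintro ⟨rfl, rfl⟩
  unfold lB at hij
  simp at hij

theorem h12_UL_le_PL : UL F (lB : Fin n → ℕ) ≤ PL F (lB : Fin n → ℕ) := by
  intro g hg
  rw [mem_PL]
  exact StrictBT.blockTriangular ((mem_UL _ _).mp hg)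

theorem h12_PLB_le_PLa (a : ℕ) : PL F (lB : Fin n → ℕ) ≤ PL F (la a : Fin n → ℕ) := by
  intro g hg
  rw [mem_PL] at hg ⊢
  intro i j hij
  apply hg
  change j.val < i.val
  unfold la at hij
  split_ifs at hij <;> omega

end aux

variable {n : ℕ} {F : Type*} [Field F] [Fintype F] {p : ℕ} [Fact p.Prime] [CharP F p]

omit [Fintype F] in
theorem sl_cover (a : ℕ) (ha : a + 1 < n) :
    ∃ nn ∈ PL F (la a : Fin n → ℕ), ∀ g ∈ PL F (la a : Fin n → ℕ),
      g ∈ PL F (lB : Fin n → ℕ) ∨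
        ∃ u ∈ UL F (lB : Fin n → ℕ), ∃ b ∈ PL F (lB : Fin n → ℕ), g = u * nn * b := by
  have hne1 : (⟨a + 1, ha⟩ : Fin n) ≠ ⟨a, by omega⟩ := by simp [Fin.ext_iff]
  have hne2 : (⟨a, by omega⟩ : Fin n) ≠ ⟨a + 1, ha⟩ := by simp [Fin.ext_iff]
  refine ⟨h12tv ⟨a + 1, ha⟩ ⟨a, by omega⟩ hne1 (-1 : F), h12_lower_mem ha (-1 : F), ?_⟩
  intro g hg
  by_cases hc : (g : Matrix (Fin n) (Fin n) F) ⟨a + 1, ha⟩ ⟨a, by omega⟩ = 0
  · left
    rw [mem_PL]
    exact h12_bt_lB ha ((mem_PL _ _).mp hg) hc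
  right
  obtain ⟨c, hcdef⟩ : ∃ c : F, c = (g : Matrix (Fin n) (Fin n) F) ⟨a + 1, ha⟩ ⟨a, by omega⟩ :=
    ⟨_, rfl⟩
  obtain ⟨q, hqdef⟩ : ∃ q : F, q = (g : Matrix (Fin n) (Fin n) F) ⟨a, by omega⟩ ⟨a, by omega⟩ :=
    ⟨_, rfl⟩
  rw [← hcdef] at hc
  obtain ⟨s, hs⟩ : ∃ s : F, s = (q + c) / c := ⟨_, rfl⟩
  have hsc : s * c = q + c := by rw [hs, div_mul_cancel₀ _ hc]
  -- the three factors
  set u := h12tv (⟨a, by omega⟩ : Fin n) ⟨a + 1, ha⟩ hne2 s with hu
  set u' := h12tv (⟨a, by omega⟩ : Fin n) ⟨a + 1, ha⟩ hne2 (-s) with hu'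
  set nn := h12tv (⟨a + 1, ha⟩ : Fin n) ⟨a, by omega⟩ hne1 (-1 : F) with hnn
  set nn' := h12tv (⟨a + 1, ha⟩ : Fin n) ⟨a, by omega⟩ hne1 (1 : F) with hnn'
  have huu' : u * u' = 1 := h12tv_mul_neg _ _ hne2 s
  have hnn1 : nn * nn' = 1 := by
    rw [hnn, hnn', h12tv_mul, neg_add_cancel, h12tv_zero]
  have huU : u ∈ UL F (lB : Fin n → ℕ) := h12_upper_mem ha s
  have hu'U : u' ∈ UL F (lB : Fin n → ℕ) := h12_upper_mem ha (-s)
  have hnn'P : nn' ∈ PL F (la a : Fin n → ℕ) := h12_lower_mem ha (1 : F)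
  have hu'P : u' ∈ PL F (la a : Fin n → ℕ) := h12_PLB_le_PLa a (h12_UL_le_PL hu'U)
  refine ⟨u, huU, nn' * (u' * g), ?_, ?_⟩
  · -- `b` is upper triangular
    have hbP : nn' * (u' * g) ∈ PL F (la a : Fin n → ℕ) :=
      Subgroup.mul_mem _ hnn'P (Subgroup.mul_mem _ hu'P hg)
    rw [mem_PL]
    apply h12_bt_lB ha ((mem_PL _ _).mp hbP)
    have hcoe : ((nn' * (u' * g) : SpecialLinearGroup (Fin n) F) : Matrix (Fin n) (Fin n) F) =
        Matrix.transvection (⟨a + 1, ha⟩ : Fin n) ⟨a, by omega⟩ 1 *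
          (Matrix.transvection (⟨a, by omega⟩ : Fin n) ⟨a + 1, ha⟩ (-s) *
            (g : Matrix (Fin n) (Fin n) F)) := rfl
    rw [hcoe, Matrix.transvection_mul_apply_same,
      Matrix.transvection_mul_apply_of_ne _ _ _ _ hne1,
      Matrix.transvection_mul_apply_same, ← hcdef, ← hqdef]
    linear_combination -hsc
  · -- the product
    calc g = (u * u') * g := by rw [huu', one_mul]
      _ = u * (nn * nn') * (u' * g) := by rw [hnn1, mul_one, mul_assoc]
      _ = u * nn * (nn' * (u' * g)) := by group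

end Cfsg.Agent.Lib.Helper12_DZ_SLCOVER
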