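import Mathlib

/-!
# Fixed-point-free linear groups (helper12)

`IsFpf ρ`: the representation `ρ : G →* End_F(W)` is fixed-point-free: a non-identity group
element fixes only the zero vector.  Basic consequences: `ρ` is injective, geometric sums vanish,
an involution acts as `-1` (so it is unique and central), commuting elements of the same prime
order generate the same subgroup (over an algebraically closed field).
-/

set_option autoImplicit false

namespace Cfsg.Agent.Lib.Helper12_FpfLin

open Module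
open scoped MatrixGroups

variable {F : Type*} [Field F] {W : Type*} [AddCommGroup W] [Module F W] {G : Type*} [Group G]

/-- the representation is fixed-point-free -/
def IsFpf (ρ : G →* Module.End F W) : Prop :=
  ∀ g : G, g ≠ 1 → ∀ w : W, ρ g w = w → w = 0

variable {ρ : G →* Module.End F W}

theorem IsFpf.eq_one [Nontrivial W] (h : IsFpf ρ) {g : G} (hg : ρ g = 1) : g = 1 := by
  by_contra hne
  obtain ⟨w, hw⟩ := exists_ne (0 : W)
  exact hw (h g hne w (by rw [hg]; rfl))

theorem IsFpf.injective [Nontrivial W] (h : IsFpf ρ) : Function.Injective ρ := by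
  intro a b hab
  have : ρ (a * b⁻¹) = 1 := by
    rw [map_mul, hab, ← map_mul, mul_inv_cancel, map_one]
  have := h.eq_one this
  exact mul_inv_eq_one.1 this

theorem IsFpf.eq_of_apply_eq (h : IsFpf ρ) {a b : G} {w : W} (hw : w ≠ 0)
    (hab : ρ a w = ρ b w) : a = b := by
  by_contra hne
  have h1 : b⁻¹ * a ≠ 1 := by
    intro h1
    apply hne
    have := congrArg (fun y => b * y) h1
    simpa using this
  apply hw
  apply h _ h1
  rw [map_mul, Module.End.mul_apply, hab, ← Module.End.mul_apply, ← map_mul, inv_mul_cancel,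
    map_one]
  rfl

/-- geometric sums of a non-identity element of finite order vanish -/
theorem IsFpf.geom_sum_eq_zero (h : IsFpf ρ) {g : G} (hg : g ≠ 1) {n : ℕ} (hn : g ^ n = 1) :
    ∑ i ∈ Finset.range n, (ρ g) ^ i = 0 := by
  have h1 : (ρ g - 1) * ∑ i ∈ Finset.range n, (ρ g) ^ i = 0 := by
    rw [mul_geom_sum, ← map_pow, hn, map_one, sub_self]
  ext w
  have h2 := congrArg (fun f : Module.End F W => f w) h1
  simp only [Module.End.mul_apply, LinearMap.sub_apply, Module.End.one_apply,
    LinearMap.zero_apply] at h2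
  rw [LinearMap.zero_apply]
  exact h g hg _ (sub_eq_zero.1 h2)

/-- an involution acts as `-1` -/
theorem IsFpf.map_invol (h : IsFpf ρ) {g : G} (hg : g ≠ 1) (h2 : g ^ 2 = 1) : ρ g = -1 := by
  have := h.geom_sum_eq_zero hg h2
  rw [Finset.sum_range_succ, Finset.sum_range_one, pow_zero, pow_one] at this
  exact eq_neg_of_add_eq_zero_right this

/-- an element of order three satisfies `X² + X + 1 = 0` -/
theorem IsFpf.map_order_three (h : IsFpf ρ) {g : G} (hg : g ≠ 1) (h3 : g ^ 3 = 1) :
    ρ g * ρ g + ρ g + 1 = 0 := by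
  have := h.geom_sum_eq_zero hg h3
  rw [Finset.sum_range_succ, Finset.sum_range_succ, Finset.sum_range_one, pow_zero, pow_one,
    pow_two] at this
  rw [← this]; abel

/-- uniqueness of the involution -/
theorem IsFpf.invol_unique [Nontrivial W] (h : IsFpf ρ) {a b : G} (ha : a ≠ 1) (hb : b ≠ 1)
    (ha2 : a ^ 2 = 1) (hb2 : b ^ 2 = 1) : a = b :=
  h.injective ((h.map_invol ha ha2).trans (h.map_invol hb hb2).symm)

/-- the involution is central -/
theorem IsFpf.invol_central [Nontrivial W] (h : IsFpf ρ) {a : G} (ha : a ≠ 1)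
    (ha2 : a ^ 2 = 1) (g : G) : g * a = a * g := by
  apply h.injective
  rw [map_mul, map_mul, h.map_invol ha ha2]
  simp

/-- if there is an involution then `2 ≠ 0` in `F` -/
theorem IsFpf.two_ne_zero [Nontrivial W] (h : IsFpf ρ) {a : G} (ha : a ≠ 1)
    (ha2 : a ^ 2 = 1) : (2 : F) ≠ 0 := by
  intro h2
  apply ha
  apply h.eq_one
  rw [h.map_invol ha ha2]
  have : (2 : Module.End F W) = 0 := by
    have : (2 : Module.End F W) = (2 : F) • (1 : Module.End F W) := by
      rw [two_smul]; norm_num
    rw [this, h2, zero_smul]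
  have h3 : (1 : Module.End F W) + 1 = 0 := by rw [← this]; norm_num
  exact (eq_neg_of_add_eq_zero_left h3).symm

/-- two commuting endomorphisms of a nonzero finite-dimensional space over an algebraically
closed field have a common eigenvector -/
theorem exists_common_eigenvector [IsAlgClosed F] [FiniteDimensional F W] [Nontrivial W]
    (X Y : Module.End F W) (hXY : Commute X Y) :
    ∃ u : W, u ≠ 0 ∧ ∃ a b : F, X u = a • u ∧ Y u = b • u := by
  obtain ⟨a, ha⟩ := Module.End.exists_eigenvalue X
  set E := Module.End.eigenspace X a with hE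
  have hEne : E ≠ ⊥ := ha
  have hmap : ∀ w ∈ E, Y w ∈ E := by
    intro w hw
    rw [hE, Module.End.mem_eigenspace_iff] at hw ⊢
    have : X (Y w) = Y (X w) := by
      have := congrArg (fun f : Module.End F W => f w) hXY.eq
      simpa using this
    rw [this, hw, map_smul]
  have : Nontrivial E := Submodule.nontrivial_iff_ne_bot.2 hEne
  obtain ⟨b, hb⟩ := Module.End.exists_eigenvalue (Y.restrict hmap)
  obtain ⟨u, hu⟩ := hb.exists_hasEigenvector
  refine ⟨u, ?_, a, b, ?_, ?_⟩
  · intro h0
    exact hu.2 (Subtype.ext h0)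
  · exact Module.End.mem_eigenspace_iff.1 u.2
  · have := hu.apply_eq_smul
    have h2 := congrArg Subtype.val this
    simpa using h2

theorem map_pow_apply_of_eigen {g : G} {u : W} {a : F} (hu : ρ g u = a • u) (n : ℕ) :
    ρ (g ^ n) u = a ^ n • u := by
  induction n with
  | zero => simp
  | succ n ih =>
    rw [pow_succ, map_mul, Module.End.mul_apply, hu, map_smul, ih, smul_smul, pow_succ, mul_comm]

/-- commuting elements of the same prime order generate the same subgroup -/
theorem IsFpf.mem_zpowers_of_commute [IsAlgClosed F] [FiniteDimensional F W] [Nontrivial W]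
    (h : IsFpf ρ) {q : ℕ} (hq : q.Prime) {x y : G} (hxy : Commute x y) (hx1 : x ≠ 1)
    (hx : x ^ q = 1) (hy : y ^ q = 1) : y ∈ Subgroup.zpowers x := by
  obtain ⟨u, hu0, a, b, hxu, hyu⟩ := exists_common_eigenvector (ρ x) (ρ y) (hxy.map ρ)
  have haq : a ^ q = 1 := by
    have h1 := map_pow_apply_of_eigen hxu q
    rw [hx, map_one, Module.End.one_apply] at h1
    have : (a ^ q - 1) • u = 0 := by rw [sub_smul, one_smul, ← h1, sub_self]
    rcases smul_eq_zero.1 this with h2 | h2
    · exact sub_eq_zero.1 h2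
    · exact absurd h2 hu0
  have hbq : b ^ q = 1 := by
    have h1 := map_pow_apply_of_eigen hyu q
    rw [hy, map_one, Module.End.one_apply] at h1
    have : (b ^ q - 1) • u = 0 := by rw [sub_smul, one_smul, ← h1, sub_self]
    rcases smul_eq_zero.1 this with h2 | h2
    · exact sub_eq_zero.1 h2
    · exact absurd h2 hu0
  have ha1 : a ≠ 1 := by
    intro ha1
    apply hu0
    apply h x hx1 u
    rw [hxu, ha1, one_smul]
  have hprim : IsPrimitiveRoot a q := by
    have hdvd : orderOf a ∣ q := orderOf_dvd_of_pow_eq_one haq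
    rcases (Nat.dvd_prime hq).1 hdvd with h1 | h1
    · exact absurd (orderOf_eq_one_iff.1 h1) ha1
    · rw [← h1]; exact IsPrimitiveRoot.orderOf a
  have : NeZero q := ⟨hq.ne_zero⟩
  obtain ⟨i, -, hi⟩ := hprim.eq_pow_of_pow_eq_one hbq
  have : x ^ i = y := by
    apply h.eq_of_apply_eq hu0
    rw [map_pow_apply_of_eigen hxu, hi, hyu]
  rw [← this]
  exact Subgroup.pow_mem _ (Subgroup.mem_zpowers x) i

section stab

variable (ρ : G →* Module.End F W) (N : Submodule F W)

/-- the stabilizer of a subspace -/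
def stabN : Subgroup G where
  carrier := {g | ∀ w ∈ N, ρ g w ∈ N ∧ ρ g⁻¹ w ∈ N}
  one_mem' := by
    intro w hw
    simp [hw]
  mul_mem' := by
    intro a b ha hb w hw
    constructor
    · rw [map_mul, Module.End.mul_apply]
      exact (ha _ (hb w hw).1).1
    · rw [mul_inv_rev, map_mul, Module.End.mul_apply]
      exact (hb _ (ha w hw).2).2
  inv_mem' := by
    intro a ha w hw
    rw [inv_inv]
    exact ⟨(ha w hw).2, (ha w hw).1⟩

variable {ρ N}

theorem mem_stabN_iff {g : G} : g ∈ stabN ρ N ↔ ∀ w ∈ N, ρ g w ∈ N ∧ ρ g⁻¹ w ∈ N := Iff.rfl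

theorem apply_mem_of_mem_stabN {g : G} (hg : g ∈ stabN ρ N) {w : W} (hw : w ∈ N) :
    ρ g w ∈ N := (hg w hw).1

theorem mem_stabN_of_forall [Finite G] {g : G} (h : ∀ w ∈ N, ρ g w ∈ N) : g ∈ stabN ρ N := by
  have hpow : ∀ n : ℕ, ∀ w ∈ N, ρ (g ^ n) w ∈ N := by
    intro n
    induction n with
    | zero => intro w hw; simpa using hw
    | succ n ih =>
      intro w hw
      rw [pow_succ, map_mul, Module.End.mul_apply]
      exact ih _ (h w hw)
  intro w hw
  refine ⟨h w hw, ?_⟩
  have : g⁻¹ = g ^ (orderOf g - 1) := by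
    have h1 : g ^ (orderOf g - 1) * g = 1 := by
      rw [← pow_succ, Nat.sub_add_cancel (orderOf_pos g), pow_orderOf_eq_one]
    exact (eq_inv_of_mul_eq_one_left h1).symm
  rw [this]
  exact hpow _ w hw

/-- an element whose operator is a linear combination of operators stabilizing `N` -/
theorem mem_stabN_of_eq_sum [Finite G] {g : G} {ι : Type*} (s : Finset ι) (c : ι → F)
    (f : ι → G) (hf : ∀ i ∈ s, f i ∈ stabN ρ N) (hg : ρ g = ∑ i ∈ s, c i • ρ (f i)) :
    g ∈ stabN ρ N := by
  apply mem_stabN_of_forall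
  intro w hw
  rw [hg, LinearMap.sum_apply]
  apply Submodule.sum_mem
  intro i hi
  rw [LinearMap.smul_apply]
  exact Submodule.smul_mem _ _ (apply_mem_of_mem_stabN (hf i hi) hw)

variable (ρ N)

/-- restriction of the stabilizer to the subspace -/
def resN : stabN ρ N →* Module.End F N where
  toFun g := (ρ g).restrict (fun w hw => (g.2 w hw).1)
  map_one' := by
    ext w
    simp
  map_mul' := by
    intro a b
    ext w
    simp

@[simp] theorem resN_apply (g : stabN ρ N) (w : N) : ((resN ρ N g) w : W) = ρ g w := rfl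

/-- elements of the stabilizer acting with determinant one -/
noncomputable def slN : Subgroup G := ((LinearMap.det.comp (resN ρ N)).ker).map (stabN ρ N).subtype

variable {ρ N}

theorem mem_slN_iff {g : G} :
    g ∈ slN ρ N ↔ ∃ hg : g ∈ stabN ρ N, LinearMap.det (resN ρ N ⟨g, hg⟩) = 1 := by
  constructor
  · rintro ⟨x, hx, rfl⟩
    exact ⟨x.2, hx⟩
  · rintro ⟨hg, hd⟩
    exact ⟨⟨g, hg⟩, hd, rfl⟩

theorem slN_le_stabN : slN ρ N ≤ stabN ρ N := by
  intro g hg
  obtain ⟨h, -⟩ := mem_slN_iff.1 hg
  exact h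

/-- the matrix representation of `slN` -/
noncomputable def toSL2 (b : Basis (Fin 2) F N) : slN ρ N →* SL(2, F) where
  toFun g := ⟨LinearMap.toMatrix b b (resN ρ N ⟨g.1, slN_le_stabN g.2⟩), by
    rw [LinearMap.det_toMatrix]
    obtain ⟨h, hd⟩ := mem_slN_iff.1 g.2
    exact hd⟩
  map_one' := by
    apply Subtype.ext
    have : (⟨((1 : slN ρ N) : G), slN_le_stabN (1 : slN ρ N).2⟩ : stabN ρ N) = 1 := rfl
    simp only [this, map_one]
    exact LinearMap.toMatrix_one b
  map_mul' := by
    intro x y
    apply Subtype.ext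
    have : (⟨((x * y : slN ρ N) : G), slN_le_stabN (x * y).2⟩ : stabN ρ N) =
        ⟨x.1, slN_le_stabN x.2⟩ * ⟨y.1, slN_le_stabN y.2⟩ := rfl
    simp only [this, map_mul]
    exact LinearMap.toMatrix_mul b _ _

theorem toSL2_injective [Nontrivial W] (h : IsFpf ρ) (b : Basis (Fin 2) F N) :
    Function.Injective (toSL2 (ρ := ρ) b) := by
  rw [injective_iff_map_eq_one]
  intro g hg
  have h1 : LinearMap.toMatrix b b (resN ρ N ⟨g.1, slN_le_stabN g.2⟩) = 1 :=
    congrArg Subtype.val hg
  rw [← LinearMap.toMatrix_one b] at h1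
  have h2 := (LinearMap.toMatrix b b).injective h1
  have h3 : ρ g.1 (b 0 : W) = (b 0 : W) := by
    have := congrArg (fun f : Module.End F N => ((f (b 0) : N) : W)) h2
    simpa using this
  by_contra hne
  have hne' : (g : G) ≠ 1 := fun h' => hne (Subtype.ext h')
  have h4 := h g.1 hne' _ h3
  exact b.ne_zero 0 (Subtype.ext h4)

end stab

/-- Cayley-Hamilton for `2 × 2` matrices -/
theorem cayley_two (M : Matrix (Fin 2) (Fin 2) F) :
    M * M = (M 0 0 + M 1 1) • M - M.det • (1 : Matrix (Fin 2) (Fin 2) F) := by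
  ext i j
  fin_cases i <;> fin_cases j <;>
    simp [Matrix.mul_apply, Fin.sum_univ_two, Matrix.det_fin_two] <;> ring

/-- a non-central `2 × 2` matrix with `M² = τ M - 1` has determinant one -/
theorem det_eq_one_of_quadratic_matrix (M B : Matrix (Fin 2) (Fin 2) F) (τ : F)
    (hM : M * M = τ • M - 1) (hMB : M * B ≠ B * M) : M.det = 1 := by
  have h1 := cayley_two M
  rw [hM] at h1
  have h2 : (M 0 0 + M 1 1 - τ) • M = (M.det - 1) • (1 : Matrix (Fin 2) (Fin 2) F) := by
    rw [sub_smul, sub_smul, one_smul]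
    have := h1
    rw [sub_eq_sub_iff_add_eq_add] at this
    rw [sub_eq_sub_iff_add_eq_add, add_comm (M.det • (1 : Matrix (Fin 2) (Fin 2) F)), this,
      add_comm]
  by_cases hτ : M 0 0 + M 1 1 - τ = 0
  · rw [hτ, zero_smul] at h2
    have h3 := congrFun (congrFun h2 0) 0
    simp at h3
    exact (sub_eq_zero.1 h3.symm)
  · exfalso
    apply hMB
    have h3 : M = ((M 0 0 + M 1 1 - τ)⁻¹ * (M.det - 1)) • (1 : Matrix (Fin 2) (Fin 2) F) := by
      rw [mul_smul, ← h2, smul_smul, inv_mul_cancel₀ hτ, one_smul]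
    rw [h3]
    simp

section crit

variable {ρ : G →* Module.End F W} {N : Submodule F W}

/-- an element of the stabilizer with a quadratic relation `X² = τ X - 1` not commuting with
another element of the stabilizer acts with determinant one on the plane `N` -/
theorem mem_slN_of_quadratic (h : IsFpf ρ) (b : Basis (Fin 2) F N) {g k : G}
    (hg : g ∈ stabN ρ N) (hk : k ∈ stabN ρ N) (τ : F) (hq : ρ g * ρ g = τ • ρ g - 1)
    (hne : g * k ≠ k * g) : g ∈ slN ρ N := by
  rw [mem_slN_iff]
  refine ⟨hg, ?_⟩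
  rw [← LinearMap.det_toMatrix b]
  set A : Module.End F N := resN ρ N ⟨g, hg⟩ with hA
  set B : Module.End F N := resN ρ N ⟨k, hk⟩ with hB
  apply det_eq_one_of_quadratic_matrix _ (LinearMap.toMatrix b b B) τ
  · rw [← LinearMap.toMatrix_mul, ← LinearMap.toMatrix_one b, ← map_smul, ← map_sub]
    congr 1
    ext w
    have := congrArg (fun f : Module.End F W => f (w : W)) hq
    simp only [Module.End.mul_apply, LinearMap.sub_apply, LinearMap.smul_apply,
      Module.End.one_apply] at this
    simp only [Module.End.mul_apply, LinearMap.sub_apply, LinearMap.smul_apply,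
      Module.End.one_apply, hA, resN_apply, Submodule.coe_sub, Submodule.coe_smul]
    exact this
  · intro hAB
    rw [← LinearMap.toMatrix_mul, ← LinearMap.toMatrix_mul] at hAB
    have h2 := (LinearMap.toMatrix b b).injective hAB
    apply hne
    apply h.eq_of_apply_eq (w := (b 0 : W))
    · intro h0
      exact b.ne_zero 0 (Subtype.ext h0)
    · have := congrArg (fun f : Module.End F N => ((f (b 0) : N) : W)) h2
      simp only [Module.End.mul_apply, hA, hB, resN_apply] at this
      rw [map_mul, map_mul, Module.End.mul_apply, Module.End.mul_apply]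
      exact this

/-- an element of the stabilizer whose matrix in a basis has determinant one -/
theorem mem_slN_of_matrix (b : Basis (Fin 2) F N) {g : G} (hg : g ∈ stabN ρ N)
    (a₀ b₀ c₀ d₀ : F) (h0 : ρ g (b 0 : W) = a₀ • (b 0 : W) + c₀ • (b 1 : W))
    (h1 : ρ g (b 1 : W) = b₀ • (b 0 : W) + d₀ • (b 1 : W)) (hdet : a₀ * d₀ - b₀ * c₀ = 1) :
    g ∈ slN ρ N := by
  rw [mem_slN_iff]
  refine ⟨hg, ?_⟩
  rw [← LinearMap.det_toMatrix b, Matrix.det_fin_two]
  have e0 : resN ρ N ⟨g, hg⟩ (b 0) = a₀ • b 0 + c₀ • b 1 := by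
    apply Subtype.ext
    simpa using h0
  have e1 : resN ρ N ⟨g, hg⟩ (b 1) = b₀ • b 0 + d₀ • b 1 := by
    apply Subtype.ext
    simpa using h1
  simp only [LinearMap.toMatrix_apply, e0, e1, map_add, map_smul, Basis.repr_self,
    Finsupp.coe_add, Finsupp.coe_smul, Pi.add_apply, Pi.smul_apply, Finsupp.single_apply]
  simp
  linear_combination hdet

end crit

end Cfsg.Agent.Lib.Helper12_FpfLin
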