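import Mathlib
import Cfsg.Agent.Lib.Helper12_FpfLin

set_option autoImplicit false
set_option linter.unusedSimpArgs false
set_option linter.unusedSectionVars false

namespace Cfsg.Agent.Lib.Helper12_FpfQuat

open Module Cfsg.Agent.Lib.Helper12_FpfLin

variable {G : Type*} [Group G]

/-- a quaternion pair: `t` of order four, `s² = t²`, `s` inverts `t` -/
structure QPair (t s : G) : Prop where
  t4 : t ^ 4 = 1
  t2 : t ^ 2 ≠ 1
  s2 : s ^ 2 = t ^ 2
  st : s * t * s⁻¹ = t⁻¹

/-- a basic triple: a quaternion pair with an element of order three permuting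
`t → s → t s` -/
structure Basic (t s x : G) : Prop extends QPair t s where
  x3 : x ^ 3 = 1
  xt : x * t * x⁻¹ = s
  xs : x * s * x⁻¹ = t * s

namespace QPair

variable {t s : G}

/-- `s t s = t` -/
theorem sts (h : QPair t s) : s * t * s = t := by
  calc s * t * s = (s * t * s⁻¹) * s ^ 2 := by simp only [pow_succ, pow_zero, one_mul, mul_one, mul_assoc, inv_mul_cancel_left, mul_inv_cancel_left, mul_inv_rev, inv_inv, mul_inv_cancel, inv_mul_cancel]
    _ = t⁻¹ * t ^ 2 := by rw [h.st, h.s2]
    _ = t := by simp only [pow_succ, pow_zero, one_mul, mul_one, mul_assoc, inv_mul_cancel_left, mul_inv_cancel_left, mul_inv_rev, inv_inv, mul_inv_cancel, inv_mul_cancel]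

/-- `t s t = s` -/
theorem tst (h : QPair t s) : t * s * t = s := by
  calc t * s * t = t * (s * t * s⁻¹) * s := by simp only [pow_succ, pow_zero, one_mul, mul_one, mul_assoc, inv_mul_cancel_left, mul_inv_cancel_left, mul_inv_rev, inv_inv, mul_inv_cancel, inv_mul_cancel]
    _ = t * t⁻¹ * s := by rw [h.st]
    _ = s := by simp only [pow_succ, pow_zero, one_mul, mul_one, mul_assoc, inv_mul_cancel_left, mul_inv_cancel_left, mul_inv_rev, inv_inv, mul_inv_cancel, inv_mul_cancel]

theorem ts_sq (h : QPair t s) : (t * s) ^ 2 = t ^ 2 := by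
  calc (t * s) ^ 2 = t * (s * t * s) := by simp only [pow_succ, pow_zero, one_mul, mul_one, mul_assoc, inv_mul_cancel_left, mul_inv_cancel_left, mul_inv_rev, inv_inv, mul_inv_cancel, inv_mul_cancel]
    _ = t ^ 2 := by rw [h.sts]; simp only [pow_succ, pow_zero, one_mul, mul_one, mul_assoc, inv_mul_cancel_left, mul_inv_cancel_left, mul_inv_rev, inv_inv, mul_inv_cancel, inv_mul_cancel]

theorem s4 (h : QPair t s) : s ^ 4 = 1 := by
  calc s ^ 4 = (s ^ 2) ^ 2 := by simp only [pow_succ, pow_zero, one_mul, mul_one, mul_assoc, inv_mul_cancel_left, mul_inv_cancel_left, mul_inv_rev, inv_inv, mul_inv_cancel, inv_mul_cancel]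
    _ = (t ^ 2) ^ 2 := by rw [h.s2]
    _ = t ^ 4 := by simp only [pow_succ, pow_zero, one_mul, mul_one, mul_assoc, inv_mul_cancel_left, mul_inv_cancel_left, mul_inv_rev, inv_inv, mul_inv_cancel, inv_mul_cancel]
    _ = 1 := h.t4

theorem s_ne_t (h : QPair t s) : s ≠ t := by
  intro hst
  have := h.st
  rw [hst, mul_inv_cancel_right] at this
  apply h.t2
  calc t ^ 2 = t * t := by simp only [pow_succ, pow_zero, one_mul, mul_one, mul_assoc, inv_mul_cancel_left, mul_inv_cancel_left, mul_inv_rev, inv_inv, mul_inv_cancel, inv_mul_cancel]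
    _ = t⁻¹ * t := by nth_rewrite 1 [this]; rfl
    _ = 1 := by simp only [pow_succ, pow_zero, one_mul, mul_one, mul_assoc, inv_mul_cancel_left, mul_inv_cancel_left, mul_inv_rev, inv_inv, mul_inv_cancel, inv_mul_cancel]

theorem not_comm (h : QPair t s) : t * s ≠ s * t := by
  intro hts
  have := h.st
  rw [← hts, mul_inv_cancel_right] at this
  apply h.t2
  calc t ^ 2 = t * t := by simp only [pow_succ, pow_zero, one_mul, mul_one, mul_assoc, inv_mul_cancel_left, mul_inv_cancel_left, mul_inv_rev, inv_inv, mul_inv_cancel, inv_mul_cancel]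
    _ = t⁻¹ * t := by nth_rewrite 1 [this]; rfl
    _ = 1 := by simp only [pow_succ, pow_zero, one_mul, mul_one, mul_assoc, inv_mul_cancel_left, mul_inv_cancel_left, mul_inv_rev, inv_inv, mul_inv_cancel, inv_mul_cancel]

/-- rotation of a quaternion pair -/
theorem rotate (h : QPair t s) : QPair s (t * s) where
  t4 := h.s4
  t2 := by rw [h.s2]; exact h.t2
  s2 := by rw [h.ts_sq, h.s2]
  st := by
    calc t * s * s * (t * s)⁻¹ = t * s * t⁻¹ := by simp only [pow_succ, pow_zero, one_mul, mul_one, mul_assoc, inv_mul_cancel_left, mul_inv_cancel_left, mul_inv_rev, inv_inv, mul_inv_cancel, inv_mul_cancel]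
      _ = t * (s * t * s⁻¹)⁻¹ * s := by simp only [pow_succ, pow_zero, one_mul, mul_one, mul_assoc, inv_mul_cancel_left, mul_inv_cancel_left, mul_inv_rev, inv_inv, mul_inv_cancel, inv_mul_cancel]
      _ = t ^ 2 * s := by rw [h.st]; simp only [pow_succ, pow_zero, one_mul, mul_one, mul_assoc, inv_mul_cancel_left, mul_inv_cancel_left, mul_inv_rev, inv_inv, mul_inv_cancel, inv_mul_cancel]
      _ = s ^ 2 * s := by rw [h.s2]
      _ = s ^ 4 * s⁻¹ := by simp only [pow_succ, pow_zero, one_mul, mul_one, mul_assoc, inv_mul_cancel_left, mul_inv_cancel_left, mul_inv_rev, inv_inv, mul_inv_cancel, inv_mul_cancel]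
      _ = s⁻¹ := by rw [h.s4]; simp only [pow_succ, pow_zero, one_mul, mul_one, mul_assoc, inv_mul_cancel_left, mul_inv_cancel_left, mul_inv_rev, inv_inv, mul_inv_cancel, inv_mul_cancel]

theorem swap_inv (h : QPair t s) : QPair t (s * t) where
  t4 := h.t4
  t2 := h.t2
  s2 := by
    calc (s * t) ^ 2 = (s * t * s) * t := by simp only [pow_succ, pow_zero, one_mul, mul_one, mul_assoc, inv_mul_cancel_left, mul_inv_cancel_left, mul_inv_rev, inv_inv, mul_inv_cancel, inv_mul_cancel]
      _ = t ^ 2 := by rw [h.sts]; simp only [pow_succ, pow_zero, one_mul, mul_one, mul_assoc, inv_mul_cancel_left, mul_inv_cancel_left, mul_inv_rev, inv_inv, mul_inv_cancel, inv_mul_cancel]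
  st := by
    calc s * t * t * (s * t)⁻¹ = s * t * s⁻¹ := by simp only [pow_succ, pow_zero, one_mul, mul_one, mul_assoc, inv_mul_cancel_left, mul_inv_cancel_left, mul_inv_rev, inv_inv, mul_inv_cancel, inv_mul_cancel]
      _ = t⁻¹ := h.st

end QPair

namespace Basic

variable {t s x : G}

theorem rotate (h : Basic t s x) : Basic s (t * s) x where
  toQPair := h.toQPair.rotate
  x3 := h.x3
  xt := h.xs
  xs := by
    calc x * (t * s) * x⁻¹ = (x * t * x⁻¹) * (x * s * x⁻¹) := by simp only [pow_succ, pow_zero, one_mul, mul_one, mul_assoc, inv_mul_cancel_left, mul_inv_cancel_left, mul_inv_rev, inv_inv, mul_inv_cancel, inv_mul_cancel]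
      _ = s * (t * s) := by rw [h.xt, h.xs]

/-- `(x t)³ = t²` -/
theorem xt_cube (h : Basic t s x) : (x * t) ^ 3 = t ^ 2 := by
  have h1 : x * t = s * x := by
    calc x * t = (x * t * x⁻¹) * x := by simp only [pow_succ, pow_zero, one_mul, mul_one, mul_assoc, inv_mul_cancel_left, mul_inv_cancel_left, mul_inv_rev, inv_inv, mul_inv_cancel, inv_mul_cancel]
      _ = s * x := by rw [h.xt]
  calc (x * t) ^ 3 = (x * t) * (x * t) * (x * t) := by simp only [pow_succ, pow_zero, one_mul, mul_one, mul_assoc, inv_mul_cancel_left, mul_inv_cancel_left, mul_inv_rev, inv_inv, mul_inv_cancel, inv_mul_cancel]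
    _ = (s * x) * (x * t) * (s * x) := by rw [h1]
    _ = s * x ^ 3 * (x⁻¹ * t * x) * (x⁻¹ * s * x) := by simp only [pow_succ, pow_zero, one_mul, mul_one, mul_assoc, inv_mul_cancel_left, mul_inv_cancel_left, mul_inv_rev, inv_inv, mul_inv_cancel, inv_mul_cancel]
    _ = s * (x⁻¹ * t * x) * (x⁻¹ * s * x) := by rw [h.x3]; simp only [pow_succ, pow_zero, one_mul, mul_one, mul_assoc, inv_mul_cancel_left, mul_inv_cancel_left, mul_inv_rev, inv_inv, mul_inv_cancel, inv_mul_cancel]
    _ = s * (x⁻¹ * (t * s) * x) := by simp only [pow_succ, pow_zero, one_mul, mul_one, mul_assoc, inv_mul_cancel_left, mul_inv_cancel_left, mul_inv_rev, inv_inv, mul_inv_cancel, inv_mul_cancel]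
    _ = s * (x⁻¹ * (x * s * x⁻¹) * x) := by rw [h.xs]
    _ = s ^ 2 := by simp only [pow_succ, pow_zero, one_mul, mul_one, mul_assoc, inv_mul_cancel_left, mul_inv_cancel_left, mul_inv_rev, inv_inv, mul_inv_cancel, inv_mul_cancel]
    _ = t ^ 2 := h.s2

theorem x_ne_one (h : Basic t s x) : x ≠ 1 := by
  intro hx
  have := h.xt
  rw [hx] at this
  simp at this
  exact h.s_ne_t this.symm

theorem not_comm_xt (h : Basic t s x) : x * t ≠ t * x := by
  intro hxt
  have := h.xt
  rw [hxt, mul_inv_cancel_right] at this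
  exact h.s_ne_t this.symm

end Basic

variable {F : Type*} [Field F] {W : Type*} [AddCommGroup W] [Module F W] {G : Type*} [Group G]
variable {ρ : G →* Module.End F W}

section ops

variable [Nontrivial W] (h : IsFpf ρ) {t s x : G}
include h

theorem QPair.map_z (hq : QPair t s) : ρ (t ^ 2) = -1 := by
  apply h.map_invol hq.t2
  rw [← pow_mul]; exact hq.t4

theorem QPair.TT (hq : QPair t s) (v : W) : ρ t (ρ t v) = -v := by
  have := congrArg (fun f : Module.End F W => f v) (hq.map_z h)
  simpa [pow_two] using this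

theorem QPair.SS (hq : QPair t s) (v : W) : ρ s (ρ s v) = -v :=
  hq.rotate.TT h v

theorem QPair.ST (hq : QPair t s) (v : W) : ρ s (ρ t v) = -ρ t (ρ s v) := by
  have h1 : ρ s (ρ t (ρ s (ρ s v))) = ρ t (ρ s v) := by
    have := congrArg (fun g : G => ρ g (ρ s v)) hq.sts
    simpa [map_mul] using this
  rw [hq.SS h, map_neg, map_neg] at h1
  rw [← h1, neg_neg]

theorem Basic.XT (hb : Basic t s x) (v : W) : ρ x (ρ t v) = ρ s (ρ x v) := by
  have h1 : x * t = s * x := by
    calc x * t = (x * t * x⁻¹) * x := by simp only [pow_succ, pow_zero, one_mul, mul_one, mul_assoc, inv_mul_cancel_left, mul_inv_cancel_left, mul_inv_rev, inv_inv, mul_inv_cancel, inv_mul_cancel]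
      _ = s * x := by rw [hb.xt]
  have := congrArg (fun g : G => ρ g v) h1
  simpa [map_mul] using this

theorem Basic.XS (hb : Basic t s x) (v : W) : ρ x (ρ s v) = ρ t (ρ s (ρ x v)) := by
  have h1 : x * s = t * s * x := by
    calc x * s = (x * s * x⁻¹) * x := by simp only [pow_succ, pow_zero, one_mul, mul_one, mul_assoc, inv_mul_cancel_left, mul_inv_cancel_left, mul_inv_rev, inv_inv, mul_inv_cancel, inv_mul_cancel]
      _ = t * s * x := by rw [hb.xs]
  have := congrArg (fun g : G => ρ g v) h1
  simpa [map_mul] using this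

theorem Basic.XX (hb : Basic t s x) (v : W) : ρ x (ρ x v) = -ρ x v - v := by
  have := congrArg (fun f : Module.End F W => f v) (h.map_order_three hb.x_ne_one hb.x3)
  simp only [LinearMap.add_apply, Module.End.mul_apply, Module.End.one_apply,
    LinearMap.zero_apply] at this
  rw [← sub_eq_zero]
  rw [← this]; abel

theorem Basic.R1 (hb : Basic t s x) (v : W) :
    ρ s (ρ x v) + ρ t v + ρ t (ρ x v) = v := by
  set z := t ^ 2 with hz
  have hz2 : z ^ 2 = 1 := by rw [hz, ← pow_mul]; exact hb.t4
  have hcomm : Commute (x * t) z := h.invol_central hb.t2 hz2 (x * t)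
  have hy3 : (x * t * z) ^ 3 = 1 := by
    rw [hcomm.mul_pow, hb.xt_cube, ← hz]
    calc z * z ^ 3 = (z ^ 2) ^ 2 := by simp only [pow_succ, pow_zero, one_mul, mul_one, mul_assoc, inv_mul_cancel_left, mul_inv_cancel_left, mul_inv_rev, inv_inv, mul_inv_cancel, inv_mul_cancel]
      _ = 1 := by rw [hz2, one_pow]
  have hy1 : x * t * z ≠ 1 := by
    intro h1
    have hzinv : z⁻¹ = z := inv_eq_of_mul_eq_one_right (by rw [← pow_two]; exact hz2)
    have h2 : x * t = z := by
      rw [← hzinv]; exact eq_inv_of_mul_eq_one_left h1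
    apply hb.not_comm_xt
    have h3 : x = t := by
      calc x = (x * t) * t⁻¹ := by simp only [pow_succ, pow_zero, one_mul, mul_one, mul_assoc, inv_mul_cancel_left, mul_inv_cancel_left, mul_inv_rev, inv_inv, mul_inv_cancel, inv_mul_cancel]
        _ = t := by rw [h2, hz]; simp only [pow_succ, pow_zero, one_mul, mul_one, mul_assoc, inv_mul_cancel_left, mul_inv_cancel_left, mul_inv_rev, inv_inv, mul_inv_cancel, inv_mul_cancel]
    rw [h3]
  have key := congrArg (fun f : Module.End F W => f v) (h.map_order_three hy1 hy3)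
  have hρ : ρ (x * t * z) = -(ρ x * ρ t) := by
    rw [map_mul, map_mul, hz, hb.map_z h]; simp
  rw [hρ] at key
  simp only [LinearMap.add_apply, Module.End.mul_apply, Module.End.one_apply,
    LinearMap.zero_apply, LinearMap.neg_apply, map_neg, neg_neg] at key
  -- key : X T X T v - X T v + v = 0
  simp only [hb.XT h, hb.XS h, hb.toQPair.ST h, hb.toQPair.SS h, hb.XX h, map_neg, map_sub,
    neg_neg] at key
  have key2 := neg_eq_zero.2 key
  rw [← sub_eq_zero, ← key2]
  abel

/-- the operator `P = T + S + T S` squares to `-3` -/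
theorem QPair.PP (hq : QPair t s) (u : W) :
    ρ t (ρ t u + ρ s u + ρ t (ρ s u)) + ρ s (ρ t u + ρ s u + ρ t (ρ s u)) +
      ρ t (ρ s (ρ t u + ρ s u + ρ t (ρ s u))) = -(3 : F) • u := by
  simp only [map_add, map_neg, hq.TT h, hq.SS h, hq.ST h, neg_neg]
  module

/-- **the quaternion formula**: in a basic triple `ρ x = -(1 + T + S + T S)/2` -/
theorem Basic.formula (hb : Basic t s x) (h3 : (3 : F) ≠ 0) (v : W) :
    (2 : F) • ρ x v + v + ρ t v + ρ s v + ρ t (ρ s v) = 0 := by
  have e1 := hb.R1 h v
  have e2 := hb.rotate.R1 h v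
  have e3 := hb.rotate.rotate.R1 h v
  have hsts : s * (t * s) = t := by rw [← mul_assoc]; exact hb.sts
  rw [hsts] at e3
  simp only [map_mul, Module.End.mul_apply] at e2 e3
  set y : W := (2 : F) • ρ x v + v with hy
  have hPy : ρ t y + ρ s y + ρ t (ρ s y) = (3 : F) • v := by
    rw [hy]
    simp only [map_add, map_smul]
    linear_combination (norm := module) e1 + e2 + e3
  have hPP := hb.toQPair.PP h y
  rw [hPy] at hPP
  simp only [map_smul] at hPP
  have h4 : (3 : F) • (y + (ρ t v + ρ s v + ρ t (ρ s v))) = 0 := by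
    linear_combination (norm := module) hPP
  rcases smul_eq_zero.1 h4 with h5 | h5
  · exact absurd h5 h3
  · rw [← h5]; abel

end ops

section planes

variable [Nontrivial W] (h : IsFpf ρ) {t s x : G}
include h

/-- an element of order three forces `3 ≠ 0` -/
theorem three_ne_zero {g : G} (hg : g ≠ 1) (hg3 : g ^ 3 = 1) : (3 : F) ≠ 0 := by
  intro h3
  obtain ⟨w, hw⟩ := exists_ne (0 : W)
  apply hw
  have hq := h.map_order_three hg hg3
  have hXX : ∀ v, ρ g (ρ g v) = -ρ g v - v := by
    intro v
    have := congrArg (fun f : Module.End F W => f v) hq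
    simp only [LinearMap.add_apply, Module.End.mul_apply, Module.End.one_apply,
      LinearMap.zero_apply] at this
    rw [← sub_eq_zero, ← this]; abel
  -- (X - 1)² = 0
  have h1 : ρ g (ρ g w - w) = ρ g w - w := by
    rw [map_sub, hXX]
    have : (3 : F) • ρ g w = 0 := by rw [h3, zero_smul]
    rw [← sub_eq_zero]
    rw [← neg_eq_zero, ← this]
    module
  have h2 := h g hg _ h1
  exact h g hg w (sub_eq_zero.1 h2)

variable {N : Submodule F W}

theorem QPair.mem_slN (hq : QPair t s) (b : Basis (Fin 2) F N) (ht : t ∈ stabN ρ N)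
    (hs : s ∈ stabN ρ N) : t ∈ slN ρ N := by
  apply mem_slN_of_quadratic h b ht hs 0 _ hq.not_comm
  rw [zero_smul, zero_sub, ← pow_two, ← map_pow]
  exact hq.map_z h

theorem QPair.mem_slN' (hq : QPair t s) (b : Basis (Fin 2) F N) (ht : t ∈ stabN ρ N)
    (hs : s ∈ stabN ρ N) : s ∈ slN ρ N := by
  apply mem_slN_of_quadratic h b hs ht 0 _ hq.not_comm.symm
  rw [zero_smul, zero_sub, ← pow_two, ← map_pow]
  exact hq.rotate.map_z h

theorem Basic.mem_stabN [Finite G] (hb : Basic t s x) (ht : t ∈ stabN ρ N)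
    (hs : s ∈ stabN ρ N) : x ∈ stabN ρ N := by
  apply mem_stabN_of_forall
  intro w hw
  have h2 : (2 : F) ≠ 0 := h.two_ne_zero hb.t2 (by rw [← pow_mul]; exact hb.t4)
  have h3 : (3 : F) ≠ 0 := three_ne_zero h hb.x_ne_one hb.x3
  have hf := hb.formula h h3 w
  have : ρ x w = (-(2 : F)⁻¹) • (w + ρ t w + ρ s w + ρ t (ρ s w)) := by
    have e : (2 : F) • ρ x w = -(w + ρ t w + ρ s w + ρ t (ρ s w)) := by
      rw [← sub_eq_zero, ← hf]; abel
    rw [neg_smul, ← smul_neg, ← e, smul_smul, inv_mul_cancel₀ h2, one_smul]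
  rw [this]
  apply Submodule.smul_mem
  have h1 := apply_mem_of_mem_stabN ht hw
  have h2' := apply_mem_of_mem_stabN hs hw
  have h3' := apply_mem_of_mem_stabN ht h2'
  exact N.add_mem (N.add_mem (N.add_mem hw h1) h2') h3'

theorem Basic.mem_slN [Finite G] (hb : Basic t s x) (b : Basis (Fin 2) F N)
    (ht : t ∈ stabN ρ N) (hs : s ∈ stabN ρ N) : x ∈ slN ρ N := by
  apply mem_slN_of_quadratic h b (hb.mem_stabN h ht hs) ht (-1) _ hb.not_comm_xt
  have := h.map_order_three hb.x_ne_one hb.x3
  rw [neg_smul, one_smul, ← sub_eq_zero, ← this]; abel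

end planes

theorem forall_mem_span_pair (f : Module.End F W) (u v : W)
    (hu : f u ∈ Submodule.span F (Set.range ![u, v]))
    (hv : f v ∈ Submodule.span F (Set.range ![u, v])) :
    ∀ w ∈ Submodule.span F (Set.range ![u, v]), f w ∈ Submodule.span F (Set.range ![u, v]) := by
  intro w hw
  have : Submodule.span F (Set.range ![u, v]) ≤
      (Submodule.span F (Set.range ![u, v])).comap f := by
    rw [Submodule.span_le]
    rintro _ ⟨i, rfl⟩
    fin_cases i
    · exact hu
    · exact hv
  exact this hw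

theorem mem_span_pair_left (u v : W) : u ∈ Submodule.span F (Set.range ![u, v]) :=
  Submodule.subset_span ⟨0, rfl⟩

theorem mem_span_pair_right (u v : W) : v ∈ Submodule.span F (Set.range ![u, v]) :=
  Submodule.subset_span ⟨1, rfl⟩

section planes2

variable [IsAlgClosed F] [FiniteDimensional F W] [Nontrivial W] [Finite G] (h : IsFpf ρ)
include h

/-- the plane spanned by `u, s u` for a common eigenvector of `t` and `k` -/
theorem exists_plane_tsk {t s : G} (hq : QPair t s) (k : G) (hkt : Commute k t)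
    (hks : s * k * s⁻¹ = k⁻¹) :
    ∃ (N : Submodule F W) (_ : Basis (Fin 2) F N),
      t ∈ slN ρ N ∧ s ∈ slN ρ N ∧ k ∈ slN ρ N := by
  obtain ⟨u, hu0, a, m, hTu, hKu⟩ := exists_common_eigenvector (ρ t) (ρ k) (hkt.symm.map ρ)
  set v : W := ρ s u with hv
  have h2 : (2 : F) ≠ 0 := h.two_ne_zero hq.t2 (by rw [← pow_mul]; exact hq.t4)
  have ha2 : a * a = -1 := by
    have h1 := hq.TT h u
    rw [hTu, map_smul, hTu, smul_smul] at h1
    have : (a * a + 1) • u = 0 := by rw [add_smul, one_smul, h1]; abel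
    rcases smul_eq_zero.1 this with h3 | h3
    · exact eq_neg_of_add_eq_zero_left h3
    · exact absurd h3 hu0
  have ha0 : a ≠ 0 := by
    intro h0
    rw [h0, mul_zero] at ha2
    have : (1 : F) = 0 := by linear_combination ha2
    exact one_ne_zero this
  have hTv : ρ t v = (-a) • v := by
    have h1 := hq.ST h u
    rw [hTu, map_smul] at h1
    rw [hv, neg_smul, h1, neg_neg]
  have hSv : ρ s v = -u := hq.SS h u
  have hv0 : v ≠ 0 := by
    intro h0
    apply hu0
    have := hSv
    rw [h0, map_zero] at this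
    exact neg_eq_zero.1 this.symm
  have hm0 : m ≠ 0 := by
    intro h0
    apply hu0
    have : ρ k⁻¹ (ρ k u) = u := by
      rw [← Module.End.mul_apply, ← map_mul, inv_mul_cancel, map_one, Module.End.one_apply]
    rw [hKu, h0, zero_smul, map_zero] at this
    exact this.symm
  have hKinv : ρ k⁻¹ u = m⁻¹ • u := by
    have : ρ k⁻¹ (ρ k u) = u := by
      rw [← Module.End.mul_apply, ← map_mul, inv_mul_cancel, map_one, Module.End.one_apply]
    rw [hKu, map_smul] at this
    have e : m⁻¹ • (m • ρ k⁻¹ u) = m⁻¹ • u := by rw [this]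
    rw [smul_smul, inv_mul_cancel₀ hm0, one_smul] at e
    exact e
  have hKv : ρ k v = m⁻¹ • v := by
    have e : k * s = s * k⁻¹ := by
      have := congrArg (fun y => y⁻¹) hks
      simp only [mul_inv_rev, inv_inv] at this
      calc k * s = (s * (k⁻¹ * s⁻¹)) * s := by rw [this]
        _ = s * k⁻¹ := by simp only [pow_succ, pow_zero, one_mul, mul_one, mul_assoc, inv_mul_cancel_left, mul_inv_cancel_left, mul_inv_rev, inv_inv, mul_inv_cancel, inv_mul_cancel]
    have := congrArg (fun g : G => ρ g u) e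
    simp only [map_mul, Module.End.mul_apply] at this
    rw [hv, this, hKinv, map_smul]
  have hli : LinearIndependent F ![u, v] := by
    rw [LinearIndependent.pair_iff]
    intro c d hcd
    have h1 := congrArg (ρ t) hcd
    rw [map_add, map_smul, map_smul, hTu, hTv, map_zero] at h1
    have h3 : a • (c • u - d • v) = 0 := by
      rw [← h1]; module
    have h4 : c • u - d • v = 0 := by
      rcases smul_eq_zero.1 h3 with h5 | h5
      · exact absurd h5 ha0
      · exact h5
    have h5 : (2 * c) • u = 0 := by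
      have : (2 * c) • u = (c • u + d • v) + (c • u - d • v) := by module
      rw [this, hcd, h4, add_zero]
    have hc : c = 0 := by
      rcases smul_eq_zero.1 h5 with h6 | h6
      · rcases mul_eq_zero.1 h6 with h7 | h7
        · exact absurd h7 h2
        · exact h7
      · exact absurd h6 hu0
    refine ⟨hc, ?_⟩
    rw [hc, zero_smul, zero_add] at hcd
    rcases smul_eq_zero.1 hcd with h6 | h6
    · exact h6
    · exact absurd h6 hv0
  set N := Submodule.span F (Set.range ![u, v]) with hN
  set b : Basis (Fin 2) F N := Basis.span hli with hb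
  have hb0 : (b 0 : W) = u := by rw [hb, Basis.span_apply]; rfl
  have hb1 : (b 1 : W) = v := by rw [hb, Basis.span_apply]; rfl
  have huN : u ∈ N := mem_span_pair_left u v
  have hvN : v ∈ N := mem_span_pair_right u v
  have htN : t ∈ stabN ρ N := by
    apply mem_stabN_of_forall
    apply forall_mem_span_pair
    · rw [hTu]; exact N.smul_mem _ huN
    · rw [hTv]; exact N.smul_mem _ hvN
  have hsN : s ∈ stabN ρ N := by
    apply mem_stabN_of_forall
    apply forall_mem_span_pair
    · exact hvN
    · rw [hSv]; exact N.neg_mem huN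
  have hkN : k ∈ stabN ρ N := by
    apply mem_stabN_of_forall
    apply forall_mem_span_pair
    · rw [hKu]; exact N.smul_mem _ huN
    · rw [hKv]; exact N.smul_mem _ hvN
  refine ⟨N, b, hq.mem_slN h b htN hsN, hq.mem_slN' h b htN hsN, ?_⟩
  apply mem_slN_of_matrix b hkN m 0 0 m⁻¹
  · rw [hb0, hb1, hKu, zero_smul, add_zero]
  · rw [hb0, hb1, hKv, zero_smul, zero_add]
  · rw [mul_inv_cancel₀ hm0, mul_zero, sub_zero]

/-- two non-commuting elements of order three stabilize a common plane -/
theorem exists_plane_xy {x y : G} (hx1 : x ≠ 1) (hy1 : y ≠ 1) (hx3 : x ^ 3 = 1)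
    (hy3 : y ^ 3 = 1) (hxy : x * y ≠ y * x) :
    ∃ (N : Submodule F W) (_ : Basis (Fin 2) F N), x ∈ slN ρ N ∧ y ∈ slN ρ N := by
  have hXq := h.map_order_three hx1 hx3
  have hYq := h.map_order_three hy1 hy3
  have hXX : ∀ v, ρ x (ρ x v) = -ρ x v - v := by
    intro v
    have := congrArg (fun f : Module.End F W => f v) hXq
    simp only [LinearMap.add_apply, Module.End.mul_apply, Module.End.one_apply,
      LinearMap.zero_apply] at this
    rw [← sub_eq_zero, ← this]; abel
  have hYY : ∀ v, ρ y (ρ y v) = -ρ y v - v := by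
    intro v
    have := congrArg (fun f : Module.End F W => f v) hYq
    simp only [LinearMap.add_apply, Module.End.mul_apply, Module.End.one_apply,
      LinearMap.zero_apply] at this
    rw [← sub_eq_zero, ← this]; abel
  set τ : Module.End F W := ρ x * ρ y + 1 + ρ x + ρ y + ρ y * ρ x with hτ
  have hτv : ∀ v, τ v = ρ x (ρ y v) + v + ρ x v + ρ y v + ρ y (ρ x v) := by
    intro v
    rw [hτ]
    simp only [LinearMap.add_apply, Module.End.mul_apply, Module.End.one_apply]
  have hcomm : Commute (ρ x) τ := by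
    ext v
    simp only [Module.End.mul_apply, hτv, map_add, hXX, map_sub, map_neg]
    abel
  obtain ⟨u, hu0, a, c, hXu, hτu⟩ := exists_common_eigenvector (ρ x) τ hcomm
  set v : W := ρ y u with hv
  have hXv : ρ x v = (c - 1 - a) • u - (1 + a) • v := by
    have := hτv u
    rw [hτu, hXu, map_smul] at this
    rw [hv, ← sub_eq_zero]
    rw [← sub_eq_zero] at this
    rw [← neg_eq_zero, ← this]
    module
  have hYv : ρ y v = -v - u := hYY u
  have hli : LinearIndependent F ![u, v] := by
    rw [LinearIndependent.pair_iff]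
    intro c₁ c₂ hcd
    by_cases hc2 : c₂ = 0
    · rw [hc2, zero_smul, add_zero] at hcd
      rcases smul_eq_zero.1 hcd with h6 | h6
      · exact ⟨h6, hc2⟩
      · exact absurd h6 hu0
    · exfalso
      apply hxy
      have hYu : ρ y u = (-(c₂⁻¹ * c₁)) • u := by
        have : c₂ • v = -(c₁ • u) := eq_neg_of_add_eq_zero_right hcd
        have h2 : v = c₂⁻¹ • (c₂ • v) := by rw [smul_smul, inv_mul_cancel₀ hc2, one_smul]
        rw [← hv, h2, this]; module
      apply h.eq_of_apply_eq hu0
      rw [map_mul, map_mul, Module.End.mul_apply, Module.End.mul_apply, hYu, hXu, map_smul,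
        map_smul, hXu, hYu, smul_smul, smul_smul, mul_comm]
  set N := Submodule.span F (Set.range ![u, v]) with hN
  set b : Basis (Fin 2) F N := Basis.span hli with hb
  have huN : u ∈ N := mem_span_pair_left u v
  have hvN : v ∈ N := mem_span_pair_right u v
  have hxN : x ∈ stabN ρ N := by
    apply mem_stabN_of_forall
    apply forall_mem_span_pair
    · rw [hXu]; exact N.smul_mem _ huN
    · rw [hXv]; exact N.sub_mem (N.smul_mem _ huN) (N.smul_mem _ hvN)
  have hyN : y ∈ stabN ρ N := by
    apply mem_stabN_of_forall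
    apply forall_mem_span_pair
    · exact hvN
    · rw [hYv]; exact N.sub_mem (N.neg_mem hvN) huN
  refine ⟨N, b, ?_, ?_⟩
  · apply mem_slN_of_quadratic h b hxN hyN (-1) _ hxy
    rw [neg_smul, one_smul, ← sub_eq_zero, ← hXq]; abel
  · apply mem_slN_of_quadratic h b hyN hxN (-1) _ (Ne.symm hxy)
    rw [neg_smul, one_smul, ← sub_eq_zero, ← hYq]; abel

end planes2

end Cfsg.Agent.Lib.Helper12_FpfQuat
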