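import Mathlib

/-!
# Automorphisms of odd order of the quaternion group of order 8 (helper2)

`exists_standard`: a nontrivial automorphism `β` of `QuaternionGroup 2` of odd order has `β ^ 3 = 1`
and there is an element `u` of order four with `β u ∉ {u, u⁻¹}` and `β (β u) = u * β u`.
-/

set_option autoImplicit false

namespace Cfsg.Agent.Lib.Helper2_Q8Aut

open QuaternionGroup

/-- the quaternion group of order 8 -/
abbrev Q8 := QuaternionGroup 2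

theorem E2 : ∀ u v : Q8, u ^ 2 ≠ 1 → v ^ 2 ≠ 1 → v ≠ u → v ≠ u⁻¹ → ∀ w : Q8, w ^ 2 ≠ 1 →
    w = u ∨ w = u⁻¹ ∨ w = v ∨ w = v⁻¹ ∨ w = u * v ∨ w = v * u := by decide

theorem E3 : ∀ u v : Q8, u ^ 2 ≠ 1 → v ^ 2 ≠ 1 → v ≠ u → v ≠ u⁻¹ →
    v * v = u ^ 2 ∧ u * v * u = v := by decide

theorem E4 : ∀ u : Q8, u ^ 4 = 1 := by decide

theorem E5 : ∀ q : Q8, ∃ u v : Q8, u ^ 2 ≠ 1 ∧ v ^ 2 ≠ 1 ∧ q = u * v := by decide

theorem E6 : ∀ w x y z : Q8, w ^ 2 ≠ 1 → x ^ 2 ≠ 1 → y ^ 2 ≠ 1 → z ^ 2 ≠ 1 →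
    (x = w ∨ x = w⁻¹) ∨ (y = w ∨ y = w⁻¹) ∨ (z = w ∨ z = w⁻¹) ∨ (y = x ∨ y = x⁻¹) ∨
      (z = x ∨ z = x⁻¹) ∨ (z = y ∨ z = y⁻¹) := by decide

theorem E7 : ∀ u v : Q8, u ^ 2 ≠ 1 → v ^ 2 ≠ 1 → v ≠ u → v ≠ u⁻¹ →
    v⁻¹ = v * u ^ 2 ∧ u * v = v * u ^ 3 := by decide

theorem a_one_sq_ne : (a 1 : Q8) ^ 2 ≠ 1 := by decide

theorem pow_apply_fix (δ : MulAut Q8) (u : Q8) (h : δ u = u) (n : ℕ) : (δ ^ n) u = u := by
  induction n with
  | zero => simp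
  | succ n ih => rw [pow_succ, MulAut.mul_apply, h, ih]

theorem sq_apply_ne (δ : MulAut Q8) {u : Q8} (hu : u ^ 2 ≠ 1) : (δ u) ^ 2 ≠ 1 := by
  intro h
  apply hu
  apply δ.injective
  rw [map_pow, h, map_one]

/-- an automorphism is a power of its `k`-th power when `k` is prime to its order -/
theorem exists_pow_pow_eq (γ : MulAut Q8) (m : ℕ) (hm : Odd m) (hγ : γ ^ m = 1) (k : ℕ)
    (hk : k = 2 ∨ k = 4) : ∃ s : ℕ, (γ ^ k) ^ s = γ := by
  apply exists_pow_eq_self_of_coprime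
  have h1 : orderOf γ ∣ m := orderOf_dvd_of_pow_eq_one hγ
  have h2 : Nat.Coprime 2 (orderOf γ) := by
    rw [Nat.coprime_comm, Nat.coprime_two_right]
    exact hm.of_dvd_nat h1
  rcases hk with rfl | rfl
  · exact h2
  · have : (4 : ℕ) = 2 ^ 2 := by norm_num
    rw [this]
    exact Nat.Coprime.pow_left 2 h2

/-- an automorphism of odd order fixing or inverting an element of order four is trivial -/
theorem eq_one_of_fix (γ : MulAut Q8) (m : ℕ) (hm : Odd m) (hγ : γ ^ m = 1) (u : Q8)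
    (hu : u ^ 2 ≠ 1) (h : γ u = u ∨ γ u = u⁻¹) : γ = 1 := by
  -- (a) γ fixes u
  have hfix : γ u = u := by
    rcases h with h | h
    · exact h
    · have h2 : (γ ^ 2) u = u := by
        rw [pow_two, MulAut.mul_apply, h, map_inv, h, inv_inv]
      obtain ⟨s, hs⟩ := exists_pow_pow_eq γ m hm hγ 2 (Or.inl rfl)
      have := pow_apply_fix (γ ^ 2) u h2 s
      rwa [hs] at this
  have hfixinv : γ u⁻¹ = u⁻¹ := by rw [map_inv, hfix]
  -- (b) γ fixes every element of order four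
  have hall : ∀ v : Q8, v ^ 2 ≠ 1 → γ v = v := by
    intro v hv
    by_cases hvu : v = u
    · rw [hvu]; exact hfix
    by_cases hvu' : v = u⁻¹
    · rw [hvu']; exact hfixinv
    have hγv : (γ v) ^ 2 ≠ 1 := sq_apply_ne γ hv
    have h1 : γ v ≠ u := by
      intro h; apply hvu; apply γ.injective; rw [h, hfix]
    have h2 : γ v ≠ u⁻¹ := by
      intro h; apply hvu'; apply γ.injective; rw [h, hfixinv]
    obtain ⟨e1, e2⟩ := E7 u v hu hv hvu hvu'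
    have ht : ∃ t : ℕ, γ v = v * u ^ t := by
      rcases E2 u v hu hv hvu hvu' (γ v) hγv with h | h | h | h | h | h
      · exact absurd h h1
      · exact absurd h h2
      · exact ⟨0, by rw [h, pow_zero, mul_one]⟩
      · exact ⟨2, by rw [h, e1]⟩
      · exact ⟨3, by rw [h, e2]⟩
      · exact ⟨1, by rw [h, pow_one]⟩
    obtain ⟨t, ht⟩ := ht
    have hpow : ∀ n : ℕ, (γ ^ n) v = v * u ^ (n * t) := by
      intro n
      induction n with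
      | zero => simp
      | succ n ih =>
        rw [pow_succ', MulAut.mul_apply, ih, map_mul, map_pow, hfix, ht, mul_assoc, ← pow_add]
        congr 2
        ring
    have h4 : (γ ^ 4) v = v := by
      rw [hpow 4, pow_mul, E4 u, one_pow, mul_one]
    obtain ⟨s, hs⟩ := exists_pow_pow_eq γ m hm hγ 4 (Or.inr rfl)
    have := pow_apply_fix (γ ^ 4) v h4 s
    rwa [hs] at this
  -- (c) γ is trivial
  ext q
  obtain ⟨u', v', hu', hv', rfl⟩ := E5 q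
  rw [map_mul, hall u' hu', hall v' hv', MulAut.one_apply]

theorem exists_standard (β : MulAut Q8) (m : ℕ) (hm : Odd m) (hβ : β ^ m = 1) (hne : β ≠ 1) :
    β ^ 3 = 1 ∧ ∃ u : Q8, u ^ 2 ≠ 1 ∧ β u ≠ u ∧ β u ≠ u⁻¹ ∧ β (β u) = u * β u := by
  have hβ2m : (β ^ 2) ^ m = 1 := by rw [← pow_mul, mul_comm, pow_mul, hβ, one_pow]
  have hβ3m : (β ^ 3) ^ m = 1 := by rw [← pow_mul, mul_comm, pow_mul, hβ, one_pow]
  have hne2 : β ^ 2 ≠ 1 := by
    intro h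
    obtain ⟨s, hs⟩ := exists_pow_pow_eq β m hm hβ 2 (Or.inl rfl)
    rw [h, one_pow] at hs
    exact hne hs.symm
  -- no element of order four is fixed or inverted by β or β²
  have hno1 : ∀ u : Q8, u ^ 2 ≠ 1 → ¬ (β u = u ∨ β u = u⁻¹) := fun u hu h =>
    hne (eq_one_of_fix β m hm hβ u hu h)
  have hno2 : ∀ u : Q8, u ^ 2 ≠ 1 → ¬ ((β ^ 2) u = u ∨ (β ^ 2) u = u⁻¹) := fun u hu h =>
    hne2 (eq_one_of_fix (β ^ 2) m hm hβ2m u hu h)
  have h2app : ∀ u : Q8, (β ^ 2) u = β (β u) := fun u => by rw [pow_two, MulAut.mul_apply]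
  have h3app : ∀ u : Q8, (β ^ 3) u = β (β (β u)) := fun u => by
    rw [pow_succ, MulAut.mul_apply, h2app]
  set u₀ : Q8 := a 1 with hu₀
  have hu₀2 : u₀ ^ 2 ≠ 1 := a_one_sq_ne
  have hx : (β u₀) ^ 2 ≠ 1 := sq_apply_ne β hu₀2
  have hy : (β (β u₀)) ^ 2 ≠ 1 := sq_apply_ne β hx
  have hz : (β (β (β u₀))) ^ 2 ≠ 1 := sq_apply_ne β hy
  have h3 : β ^ 3 = 1 := by
    rcases E6 u₀ (β u₀) (β (β u₀)) (β (β (β u₀))) hu₀2 hx hy hz with h | h | h | h | h | h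
    · exact absurd h (hno1 u₀ hu₀2)
    · exact absurd (by rw [h2app]; exact h) (hno2 u₀ hu₀2)
    · exact eq_one_of_fix (β ^ 3) m hm hβ3m u₀ hu₀2 (by rw [h3app]; exact h)
    · exact absurd h (hno1 (β u₀) hx)
    · exact absurd (by rw [h2app]; exact h) (hno2 (β u₀) hx)
    · exact absurd h (hno1 (β (β u₀)) hy)
  refine ⟨h3, ?_⟩
  have hv1 : β u₀ ≠ u₀ := fun h => hno1 u₀ hu₀2 (Or.inl h)
  have hv2 : β u₀ ≠ u₀⁻¹ := fun h => hno1 u₀ hu₀2 (Or.inr h)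
  have hw1 : β (β u₀) ≠ β u₀ := fun h => hno1 (β u₀) hx (Or.inl h)
  have hw2 : β (β u₀) ≠ (β u₀)⁻¹ := fun h => hno1 (β u₀) hx (Or.inr h)
  have hw3 : β (β u₀) ≠ u₀ := fun h => hno2 u₀ hu₀2 (Or.inl (by rw [h2app]; exact h))
  have hw4 : β (β u₀) ≠ u₀⁻¹ := fun h => hno2 u₀ hu₀2 (Or.inr (by rw [h2app]; exact h))
  rcases E2 u₀ (β u₀) hu₀2 hx hv1 hv2 (β (β u₀)) hy with h | h | h | h | h | h
  · exact absurd h hw3
  · exact absurd h hw4
  · exact absurd h hw1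
  · exact absurd h hw2
  · exact ⟨u₀, hu₀2, hv1, hv2, h⟩
  · refine ⟨u₀⁻¹, ?_, ?_, ?_, ?_⟩
    · rw [inv_pow]; exact fun h => hu₀2 (inv_eq_one.1 h)
    · rw [map_inv]; exact fun h => hv1 (inv_injective h)
    · rw [map_inv, inv_inv]; exact fun h => hv2 (inv_eq_iff_eq_inv.1 h)
    · rw [map_inv, map_inv, h, mul_inv_rev]

end Cfsg.Agent.Lib.Helper2_Q8Aut
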