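import Cfsg.Agent.S0257

set_option autoImplicit false

namespace Cfsg.Agent.Lib.Helper35_SL23

open Cfsg.Agent.S0257 (S3 qf qf_mul qf_inj qf_pow qf_surj qfHom)

/-- the extension of an assignment of the two generators of `Q₈` -/
def ext (x y : QuaternionGroup 2) : QuaternionGroup 2 → QuaternionGroup 2
  | .a i => x ^ i.val
  | .xa i => y * x ^ i.val

set_option maxRecDepth 100000 in
theorem L1 : ∀ x y : QuaternionGroup 2,
    (∀ q q' : QuaternionGroup 2, ext x y (q * q') = ext x y q * ext x y q') →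
    (∀ q : QuaternionGroup 2, ext x y q = 1 → q = 1) →
    ∃ u : S3, ∀ q : QuaternionGroup 2, u * qf q * u⁻¹ = qf (ext x y (ext x y q)) := by
  decide +kernel

set_option maxRecDepth 100000 in
theorem L2 : ∀ w : S3, (∀ q : QuaternionGroup 2, w * qf q * w⁻¹ = qf q) → w * w = 1 := by
  decide +kernel

set_option maxRecDepth 100000 in
theorem L3 : ∀ u g : S3, ¬ (u ^ 4 = 1) →
    g ^ 4 = 1 ∨ (g * u⁻¹) ^ 4 = 1 ∨ (g * u⁻¹ * u⁻¹) ^ 4 = 1 := by
  decide +kernel

set_option maxRecDepth 100000 in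
theorem L4 : ∀ w : S3, w ^ 4 = 1 → ∀ q : QuaternionGroup 2, (w * w) * qf q * (w * w)⁻¹ = qf q := by
  decide +kernel

end Cfsg.Agent.Lib.Helper35_SL23
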