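import Mathlib
import Cfsg.Agent.Lib.Helper5_SLCard

set_option autoImplicit false

namespace Cfsg.Agent.Lib.Helper35_PSL2Card

open Matrix

variable {F : Type*} [Field F] [Fintype F]

/-- `|SL_2(F)| * (q - 1) = (q^2 - 1) * (q^2 - q)`. -/
theorem card_SL2_mul :
    Nat.card (Matrix.SpecialLinearGroup (Fin 2) F) * (Fintype.card F - 1) =
      (Fintype.card F ^ 2 - 1) * (Fintype.card F ^ 2 - Fintype.card F) := by
  rw [← Cfsg.Agent.Lib.Helper5_SLCard.card_GL_eq_card_SL_mul 2 (by norm_num), Matrix.card_GL_field]
  simp [Fin.prod_univ_two]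

omit [Fintype F] in
/-- `|SL_2(F)| = |PSL_2(F)| * |Z(SL_2(F))|`. -/
theorem card_SL2_eq_card_PSL2_mul :
    Nat.card (Matrix.SpecialLinearGroup (Fin 2) F) =
      Nat.card (Matrix.ProjectiveSpecialLinearGroup (Fin 2) F) *
        Nat.card (Subgroup.center (Matrix.SpecialLinearGroup (Fin 2) F)) :=
  Subgroup.card_eq_card_quotient_mul_card_subgroup _

omit [Fintype F] in
/-- The centre of `SL_2(F)` has as many elements as there are square roots of one in `F`. -/
theorem card_center_SL2 :
    Nat.card (Subgroup.center (Matrix.SpecialLinearGroup (Fin 2) F)) = Nat.card (rootsOfUnity 2 F) := by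
  have e := Matrix.SpecialLinearGroup.center_equiv_rootsOfUnity' (n := Fin 2) (R := F) 0
  rw [Fintype.card_fin] at e
  exact Nat.card_congr e.toEquiv

omit [Fintype F] in
/-- If `2 ≠ 0` in `F` there are exactly two square roots of one. -/
theorem card_rootsOfUnity_two_of_ne (h2 : (2 : F) ≠ 0) : Nat.card (rootsOfUnity 2 F) = 2 := by
  rw [Nat.card_eq_two_iff]
  have hne : (-1 : Fˣ) ≠ 1 := by
    intro h
    have := congrArg Units.val h
    simp only [Units.val_neg, Units.val_one] at this
    apply h2
    linear_combination -this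
  refine ⟨⟨1, one_mem _⟩, ⟨-1, by rw [mem_rootsOfUnity]; simp⟩, ?_, ?_⟩
  · intro h
    exact hne (congrArg Subtype.val h).symm
  · ext ⟨u, hu⟩
    simp only [Set.mem_insert_iff, Set.mem_singleton_iff, Set.mem_univ, iff_true, Subtype.mk.injEq]
    rw [mem_rootsOfUnity] at hu
    have h1 : (u : F) ^ 2 = 1 := by
      have := congrArg Units.val hu
      simpa using this
    have h3 : ((u : F) - 1) * ((u : F) + 1) = 0 := by linear_combination h1
    rcases mul_eq_zero.mp h3 with h | h
    · left; ext; simp only [Units.val_one]; linear_combination h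
    · right; ext; simp only [Units.val_neg, Units.val_one]; linear_combination h

omit [Fintype F] in
/-- If `2 = 0` in `F` the only square root of one is one. -/
theorem card_rootsOfUnity_two_of_eq (h2 : (2 : F) = 0) : Nat.card (rootsOfUnity 2 F) = 1 := by
  rw [Nat.card_eq_one_iff_unique]
  refine ⟨⟨?_⟩, ⟨1⟩⟩
  rintro ⟨u, hu⟩ ⟨v, hv⟩
  rw [mem_rootsOfUnity] at hu hv
  have key : ∀ w : Fˣ, w ^ 2 = 1 → w = 1 := by
    intro w hw
    have h1 : (w : F) ^ 2 = 1 := by
      have := congrArg Units.val hw
      simpa using this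
    have h3 : ((w : F) - 1) * ((w : F) - 1) = 0 := by linear_combination h1 + (1 - (w : F)) * h2
    have : (w : F) - 1 = 0 := by
      rcases mul_eq_zero.mp h3 with h | h <;> exact h
    ext; simp only [Units.val_one]; linear_combination this
  apply Subtype.ext
  show u = v
  rw [key u hu, key v hv]

end Cfsg.Agent.Lib.Helper35_PSL2Card
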