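import Mathlib
import Cfsg.Agent.Lib.Helper12_FpfQuat
import Cfsg.Agent.Lib.Helper2_Q8Aut
import Cfsg.Agent.Lib.Helper50_UniqueInv2
import Cfsg.Agent.Lib.Helper35_FrobeniusNPC
import Cfsg.Agent.S5112
import Cfsg.Agent.S0106

set_option autoImplicit false
set_option linter.unusedSimpArgs false
set_option linter.unusedSectionVars false

namespace Cfsg.Agent.Lib.Helper12_FpfBasic

open Cfsg.Agent.Lib.Helper12_FpfQuat Cfsg.Agent.Lib.Helper50_UniqueInv
  Cfsg.Agent.Lib.Helper35_FrobeniusNPC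

variable {G : Type*} [Group G]

/-- a quaternion pair `t, s` with an element `g` permuting `t → s → t s` -/
structure PreBasic (t s g : G) : Prop extends QPair t s where
  gt : g * t * g⁻¹ = s
  gs : g * s * g⁻¹ = t * s

namespace PreBasic

variable {t s g : G}

theorem cube_comm_t (hp : PreBasic t s g) : Commute (g ^ 3) t := by
  show g ^ 3 * t = t * g ^ 3
  have h1 : g * (t * s) * g⁻¹ = t := by
    calc g * (t * s) * g⁻¹ = (g * t * g⁻¹) * (g * s * g⁻¹) := by simp only [pow_succ, pow_zero, one_mul, mul_one, mul_assoc, inv_mul_cancel_left, mul_inv_cancel_left, mul_inv_rev, inv_inv, mul_inv_cancel, inv_mul_cancel]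
      _ = s * (t * s) := by rw [hp.gt, hp.gs]
      _ = s * t * s := by simp only [pow_succ, pow_zero, one_mul, mul_one, mul_assoc, inv_mul_cancel_left, mul_inv_cancel_left, mul_inv_rev, inv_inv, mul_inv_cancel, inv_mul_cancel]
      _ = t := hp.sts
  calc g ^ 3 * t = g * (g * (g * t * g⁻¹) * g⁻¹) * g⁻¹ * g ^ 3 := by simp only [pow_succ, pow_zero, one_mul, mul_one, mul_assoc, inv_mul_cancel_left, mul_inv_cancel_left, mul_inv_rev, inv_inv, mul_inv_cancel, inv_mul_cancel]
    _ = g * (g * s * g⁻¹) * g⁻¹ * g ^ 3 := by rw [hp.gt]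
    _ = g * (t * s) * g⁻¹ * g ^ 3 := by rw [hp.gs]
    _ = t * g ^ 3 := by rw [h1]

theorem rotate (hp : PreBasic t s g) : PreBasic s (t * s) g where
  toQPair := hp.toQPair.rotate
  gt := hp.gs
  gs := by
    calc g * (t * s) * g⁻¹ = (g * t * g⁻¹) * (g * s * g⁻¹) := by simp only [pow_succ, pow_zero, one_mul, mul_one, mul_assoc, inv_mul_cancel_left, mul_inv_cancel_left, mul_inv_rev, inv_inv, mul_inv_cancel, inv_mul_cancel]
      _ = s * (t * s) := by rw [hp.gt, hp.gs]

theorem cube_comm_s (hp : PreBasic t s g) : Commute (g ^ 3) s := hp.rotate.cube_comm_t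

theorem pow (hp : PreBasic t s g) (q : ℕ) : PreBasic t s (g ^ (3 * q + 1)) where
  toQPair := hp.toQPair
  gt := by
    have hc : Commute ((g ^ 3) ^ q) s := hp.cube_comm_s.pow_left q
    calc g ^ (3 * q + 1) * t * (g ^ (3 * q + 1))⁻¹
        = (g ^ 3) ^ q * (g * t * g⁻¹) * ((g ^ 3) ^ q)⁻¹ := by
          rw [pow_succ, pow_mul]; simp only [pow_succ, pow_zero, one_mul, mul_one, mul_assoc, inv_mul_cancel_left, mul_inv_cancel_left, mul_inv_rev, inv_inv, mul_inv_cancel, inv_mul_cancel]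
      _ = (g ^ 3) ^ q * s * ((g ^ 3) ^ q)⁻¹ := by rw [hp.gt]
      _ = s := by rw [hc.eq]; simp only [pow_succ, pow_zero, one_mul, mul_one, mul_assoc, inv_mul_cancel_left, mul_inv_cancel_left, mul_inv_rev, inv_inv, mul_inv_cancel, inv_mul_cancel]
  gs := by
    have hc : Commute ((g ^ 3) ^ q) (t * s) :=
      (hp.cube_comm_t.pow_left q).mul_right (hp.cube_comm_s.pow_left q)
    calc g ^ (3 * q + 1) * s * (g ^ (3 * q + 1))⁻¹
        = (g ^ 3) ^ q * (g * s * g⁻¹) * ((g ^ 3) ^ q)⁻¹ := by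
          rw [pow_succ, pow_mul]; simp only [pow_succ, pow_zero, one_mul, mul_one, mul_assoc, inv_mul_cancel_left, mul_inv_cancel_left, mul_inv_rev, inv_inv, mul_inv_cancel, inv_mul_cancel]
      _ = (g ^ 3) ^ q * (t * s) * ((g ^ 3) ^ q)⁻¹ := by rw [hp.gs]
      _ = t * s := by rw [hc.eq]; simp only [pow_succ, pow_zero, one_mul, mul_one, mul_assoc, inv_mul_cancel_left, mul_inv_cancel_left, mul_inv_rev, inv_inv, mul_inv_cancel, inv_mul_cancel]

/-- if `3` does not divide the order of `g³` a suitable power of `g` gives a basic triple -/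
theorem exists_basic (hp : PreBasic t s g) (hfin : IsOfFinOrder g)
    (h3 : ¬ 3 ∣ orderOf (g ^ 3)) : ∃ e : ℕ, Basic t s (g ^ e) := by
  set n := orderOf (g ^ 3) with hn
  have hn0 : 0 < n := by
    rw [hn]; exact hfin.pow.orderOf_pos
  have hpow : ∀ q : ℕ, n ∣ 3 * q + 1 → Basic t s (g ^ (3 * q + 1)) := by
    intro q hq
    have hp' := hp.pow q
    refine ⟨hp'.toQPair, ?_, hp'.gt, hp'.gs⟩
    rw [← pow_mul, mul_comm, pow_mul]
    exact orderOf_dvd_iff_pow_eq_one.1 hq
  have hmod : n % 3 = 1 ∨ n % 3 = 2 := by omega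
  rcases hmod with h1 | h2
  · refine ⟨3 * (n / 3) + 1, hpow (n / 3) ?_⟩
    have : 3 * (n / 3) + 1 = n := by omega
    rw [this]
  · refine ⟨3 * ((2 * n) / 3) + 1, hpow ((2 * n) / 3) ?_⟩
    have : 3 * ((2 * n) / 3) + 1 = 2 * n := by omega
    rw [this]
    exact Dvd.intro_left 2 rfl

end PreBasic

/-- the key extraction: `Q ≅ Q₈` and an element of odd order acting nontrivially on it give a
pre-basic triple inside `Q` -/
theorem exists_preBasic [Finite G] (Q : Subgroup G) (θ : ↥Q ≃* QuaternionGroup 2) (g : G)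
    (hgN : g ∈ Subgroup.normalizer (Q : Set G)) (hodd : (orderOf g).Coprime 2)
    (hgC : g ∉ Subgroup.centralizer (Q : Set G)) :
    ∃ t s : G, t ∈ Q ∧ s ∈ Q ∧ PreBasic t s g := by
  classical
  set m := orderOf g with hm
  set gN : Subgroup.normalizer (Q : Set G) := ⟨g, hgN⟩ with hgN'
  set α : MulAut ↥Q := Q.normalizerMonoidHom gN with hα
  have hα_apply : ∀ q : ↥Q, ((α q : ↥Q) : G) = g * q * g⁻¹ := fun q => rfl
  have hαm : α ^ m = 1 := by
    rw [hα, ← map_pow]
    have : gN ^ m = 1 := Subtype.ext (by simp [hgN', hm, pow_orderOf_eq_one])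
    rw [this, map_one]
  have hα1 : α ≠ 1 := by
    intro h1
    apply hgC
    have h3 : gN ∈ Q.normalizerMonoidHom.ker := h1
    rw [Subgroup.normalizerMonoidHom_ker] at h3
    exact h3
  set β : MulAut (QuaternionGroup 2) := MulAut.congr θ α with hβ
  have hβ_apply : ∀ q, β q = θ (α (θ.symm q)) := fun q => rfl
  have hβm : β ^ m = 1 := by rw [hβ, ← map_pow, hαm, map_one]
  have hβ1 : β ≠ 1 := by
    intro h1
    apply hα1
    exact (MulAut.congr θ).injective (h1.trans (map_one _).symm)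
  have hmodd : Odd m := Nat.Coprime.odd_of_right hodd
  obtain ⟨-, u, hu2, hu1, hu1', hu3⟩ :=
    Cfsg.Agent.Lib.Helper2_Q8Aut.exists_standard β m hmodd hβm hβ1
  set v := β u with hv
  have hv2 : v ^ 2 ≠ 1 := Cfsg.Agent.Lib.Helper2_Q8Aut.sq_apply_ne β hu2
  obtain ⟨e1, e2⟩ := Cfsg.Agent.Lib.Helper2_Q8Aut.E3 u v hu2 hv2 hu1 hu1'
  have huv : u ≠ v := fun h => hu1 h.symm
  have huv' : u ≠ v⁻¹ := by
    intro h
    apply hu1'
    rw [h, inv_inv]
  obtain ⟨e3, e4⟩ := Cfsg.Agent.Lib.Helper2_Q8Aut.E3 v u hv2 hu2 huv huv'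
  have hu4 := Cfsg.Agent.Lib.Helper2_Q8Aut.E4 u
  -- back to `G`
  set tq : ↥Q := θ.symm u with htq
  set sq : ↥Q := θ.symm v with hsq
  have hα_t : α tq = sq := by
    apply θ.injective
    rw [hsq, MulEquiv.apply_symm_apply, hv, hβ_apply]
  have hα_s : α sq = tq * sq := by
    apply θ.injective
    rw [map_mul, htq, hsq, MulEquiv.apply_symm_apply, MulEquiv.apply_symm_apply, ← hu3]
    rfl
  have tr : ∀ a b : QuaternionGroup 2, a = b → ((θ.symm a : ↥Q) : G) = ((θ.symm b : ↥Q) : G) :=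
    fun a b hab => by rw [hab]
  refine ⟨tq, sq, tq.2, sq.2, ⟨?_, ?_, ?_, ?_⟩, ?_, ?_⟩
  · have := tr _ _ hu4
    simpa using this
  · intro h1
    apply hu2
    have : tq ^ 2 = 1 := Subtype.ext (by simpa using h1)
    have := congrArg θ this
    simpa [htq] using this
  · have := tr _ _ (show v ^ 2 = u ^ 2 by rw [pow_two]; exact e1)
    simpa using this
  · -- `s t s⁻¹ = t⁻¹`
    have h1 : (sq : G) * tq * sq = tq := by
      have := tr _ _ e4
      simpa using this
    have h2 : (sq : G) ^ 2 = (tq : G) ^ 2 := by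
      have := tr _ _ (show v ^ 2 = u ^ 2 by rw [pow_two]; exact e1)
      simpa using this
    calc (sq : G) * tq * (sq : G)⁻¹ = ((sq : G) * tq * sq) * ((sq : G) ^ 2)⁻¹ := by simp only [pow_succ, pow_zero, one_mul, mul_one, mul_assoc, inv_mul_cancel_left, mul_inv_cancel_left, mul_inv_rev, inv_inv, mul_inv_cancel, inv_mul_cancel]
      _ = (tq : G) * ((tq : G) ^ 2)⁻¹ := by rw [h1, h2]
      _ = (tq : G)⁻¹ := by simp only [pow_succ, pow_zero, one_mul, mul_one, mul_assoc, inv_mul_cancel_left, mul_inv_cancel_left, mul_inv_rev, inv_inv, mul_inv_cancel, inv_mul_cancel]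
  · rw [← hα_apply, hα_t]
  · rw [← hα_apply, hα_s]; rfl


/-- **active quaternion subgroup**: a finite group with a unique involution and without normal
`2`-complement contains `Q ≅ Q₈` normalized but not centralized by an element of odd order -/
theorem exists_active_Q8 [Finite G] (hu : UniqueInvolution G) (hnpc : ¬ HasNPC 2 G) :
    ∃ (Q : Subgroup G) (_ : ↥Q ≃* QuaternionGroup 2) (g : G),
      g ∈ Subgroup.normalizer (Q : Set G) ∧ (orderOf g).Coprime 2 ∧
        g ∉ Subgroup.centralizer (Q : Set G) := by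
  by_contra hcon
  apply hnpc
  haveI : Fact (Nat.Prime 2) := ⟨Nat.prime_two⟩
  apply hasNPC_of_frobHyp
  intro Q hQ2 g hgN hodd
  have hQu : UniqueInvolution ↥Q := by
    intro a b ha hb ha1 hb1
    apply Subtype.ext
    apply hu
    · have := congrArg Subtype.val ha; simpa using this
    · have := congrArg Subtype.val hb; simpa using this
    · intro h1; exact ha1 (Subtype.ext h1)
    · intro h1; exact hb1 (Subtype.ext h1)
  rcases Cfsg.Agent.Lib.Helper50_UniqueInv2.isCyclic_or_quaternion hQ2 hQu with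
    hcyc | ⟨k, hk, ⟨e⟩⟩
  · apply Cfsg.Agent.S0106.mem_centralizer_of_isPGroup_mulAut Q _ g hgN hodd
    obtain ⟨b, hb⟩ := hQ2.exists_card_eq
    have hcard := hcyc.card_mulAut (G := ↥Q)
    rw [hb] at hcard
    rcases Nat.eq_zero_or_pos b with h0 | h0
    · rw [h0, pow_zero, Nat.totient_one] at hcard
      exact IsPGroup.of_card (n := 0) (by rw [hcard, pow_zero])
    · rw [Nat.totient_prime_pow Nat.prime_two h0] at hcard
      exact IsPGroup.of_card (n := b - 1) (by rw [hcard]; simp)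
  · rcases Nat.lt_or_ge 1 k with hk2 | hk1
    · apply Cfsg.Agent.S0106.mem_centralizer_of_isPGroup_mulAut Q _ g hgN hodd
      have e' : ↥Q ≃* QuaternionGroup (2 ^ (k + 2 - 2)) := by
        rw [Nat.add_sub_cancel]
        exact e
      exact Cfsg.Agent.S5112.isPGroup_mulAut_quaternion (k + 2) (by omega) e'
    · have hk1' : k = 1 := le_antisymm hk1 hk
      subst hk1'
      by_contra hgC
      exact hcon ⟨Q, e, g, hgN, hodd, hgC⟩

end Cfsg.Agent.Lib.Helper12_FpfBasic
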