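import Mathlib

/-!
Numerical part of the class-equation argument for non-`p`-closed subgroups of `SL(2, q)`.
-/

set_option autoImplicit false
set_option linter.unusedVariables false

namespace Cfsg.Agent.Lib.Helper50_Numerics

theorem class_ge_quarter (c nn a n : ℕ) (h : c * nn * a + n = n * a) (ha : 2 ≤ a)
    (hnn : nn = 1 ∨ nn = 2) : n ≤ 4 * c := by
  obtain ⟨a', rfl⟩ : ∃ a', a = a' + 2 := ⟨a - 2, by omega⟩
  rcases hnn with rfl | rfl
  · by_contra hlt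
    push Not at hlt
    nlinarith [Nat.mul_le_mul_right a' hlt.le]
  · by_contra hlt
    push Not at hlt
    nlinarith [Nat.mul_le_mul_right a' hlt.le]

theorem class_ge_half (c a n : ℕ) (h : c * 1 * a + n = n * a) (ha : 2 ≤ a) : n ≤ 2 * c := by
  obtain ⟨a', rfl⟩ : ∃ a', a = a' + 2 := ⟨a - 2, by omega⟩
  by_contra hlt
  push Not at hlt
  nlinarith [Nat.mul_le_mul_right a' hlt.le]

-- k = 1
theorem k1_r (z s r S : ℕ) (hz : 1 ≤ z) (hs : 2 ≤ s) (hr : 3 ≤ r) (hrodd : Odd r)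
    (hS : S + z = s * z) (h4 : z * s * r ≤ 4 * S) : r = 3 := by
  have : r < 4 := by
    by_contra h
    push Not at h
    have h1 : z * s * 4 ≤ z * s * r := Nat.mul_le_mul_left _ h
    nlinarith
  obtain ⟨m, hm⟩ := hrodd
  omega

theorem k1_two (z s S : ℕ) (hz : 1 ≤ z) (hs : 2 ≤ s)
    (hS : S + z = s * z) (h4 : 2 * (z * s * 3) ≤ 4 * S) : False := by
  nlinarith

theorem k1_one (z s c nn a : ℕ) (hz : 1 ≤ z) (hs : 2 ≤ s)
    (hS : c + z = s * z) (h : c * nn * a + z * s * 3 = z * s * 3 * a) (ha : 2 ≤ a)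
    (hnn : nn = 1 ∨ nn = 2) : s = 4 := by
  obtain ⟨a', rfl⟩ : ∃ a', a = a' + 2 := ⟨a - 2, by omega⟩
  obtain ⟨s', rfl⟩ : ∃ s', s = s' + 2 := ⟨s - 2, by omega⟩
  have hc : c = (s' + 1) * z := by nlinarith
  subst hc
  rcases hnn with rfl | rfl
  · exfalso
    have : (s' + 1) * (a' + 2) + (s' + 2) * 3 = (s' + 2) * 3 * (a' + 2) := by
      apply Nat.eq_of_mul_eq_mul_left hz
      nlinarith
    nlinarith
  · have h1 : (s' + 1) * 2 * (a' + 2) + (s' + 2) * 3 = (s' + 2) * 3 * (a' + 2) := by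
      apply Nat.eq_of_mul_eq_mul_left hz
      nlinarith
    -- 2(s'+1)(a'+2) + 3(s'+2) = 3(s'+2)(a'+2)
    have h2 : a' = 0 := by
      by_contra h0
      have : 1 ≤ a' := Nat.one_le_iff_ne_zero.2 h0
      nlinarith
    subst h2
    omega

-- k ≥ 2, class of x₀ with nn = 1
theorem k2_nn1 (z s r k S c0 : ℕ) (hz : 1 ≤ z) (hs : 2 ≤ s) (hr : 3 ≤ r) (hk : 2 ≤ k)
    (hS : S + z + s * z * r = z * s * r * k + s * z)
    (hc0 : c0 * 1 * k + z * s * r * k = z * s * r * k * k) :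
    c0 < S ∧ ∀ cy : ℕ, c0 + cy ≤ S → z * s * r * k ≤ 4 * cy → False := by
  obtain ⟨k', rfl⟩ : ∃ k', k = k' + 2 := ⟨k - 2, by omega⟩
  obtain ⟨s', rfl⟩ : ∃ s', s = s' + 2 := ⟨s - 2, by omega⟩
  obtain ⟨r', rfl⟩ : ∃ r', r = r' + 3 := ⟨r - 3, by omega⟩
  have h1 : c0 = z * (s' + 2) * (r' + 3) * (k' + 1) := by
    have : c0 * (k' + 2) = z * (s' + 2) * (r' + 3) * (k' + 1) * (k' + 2) := by nlinarith
    exact Nat.eq_of_mul_eq_mul_right (by omega) this
  have h2 : S = c0 + z * (s' + 1) := by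
    subst h1
    nlinarith
  constructor
  · have : 0 < z * (s' + 1) := by positivity
    omega
  · intro cy h3 h4
    have h5 : cy ≤ z * (s' + 1) := by omega
    have h6 : z * (s' + 2) * (r' + 3) * (k' + 2) ≤ 4 * (z * (s' + 1)) := by omega
    have h7 : z * (s' + 2) * 6 ≤ z * (s' + 2) * (r' + 3) * (k' + 2) := by
      have : 6 ≤ (r' + 3) * (k' + 2) := by nlinarith
      calc z * (s' + 2) * 6 ≤ z * (s' + 2) * ((r' + 3) * (k' + 2)) := Nat.mul_le_mul_left _ this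
        _ = _ := by ring
    nlinarith

-- k ≥ 2, class of x₀ with nn = 2
theorem k2_nn2 (z s r k S c0 : ℕ) (hz : 1 ≤ z) (hs : 2 ≤ s) (hr : 3 ≤ r) (hk : 2 ≤ k)
    (hS : S + z + s * z * r = z * s * r * k + s * z)
    (hc0 : c0 * 2 * k + z * s * r * k = z * s * r * k * k) :
    c0 < S ∧ 2 * S = 2 * c0 + z * (s * r * k + 2 * s) - z * (s * r + 2) ∧
      2 * c0 + z * (s * r * k + 2 * s) = 2 * S + z * (s * r + 2) := by
  obtain ⟨k', rfl⟩ : ∃ k', k = k' + 2 := ⟨k - 2, by omega⟩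
  obtain ⟨s', rfl⟩ : ∃ s', s = s' + 2 := ⟨s - 2, by omega⟩
  obtain ⟨r', rfl⟩ : ∃ r', r = r' + 3 := ⟨r - 3, by omega⟩
  have h1 : 2 * c0 = z * (s' + 2) * (r' + 3) * (k' + 1) := by
    have : 2 * c0 * (k' + 2) = z * (s' + 2) * (r' + 3) * (k' + 1) * (k' + 2) := by nlinarith
    exact Nat.eq_of_mul_eq_mul_right (by omega) this
  have h3 : 2 * c0 + z * ((s' + 2) * (r' + 3) * (k' + 2) + 2 * (s' + 2)) =
      2 * S + z * ((s' + 2) * (r' + 3) + 2) := by nlinarith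
  refine ⟨?_, ?_, h3⟩
  · have : z * ((s' + 2) * (r' + 3) + 2) < z * ((s' + 2) * (r' + 3) * (k' + 2) + 2 * (s' + 2)) := by
      apply Nat.mul_lt_mul_of_pos_left _ (by omega)
      nlinarith [Nat.zero_le ((s' + 2) * (r' + 3) * k'), Nat.zero_le ((s'+2) * (r'+3))]
    omega
  · omega

theorem k2_three (z s r k S c0 cy cw : ℕ) (hz : 1 ≤ z) (hs : 2 ≤ s) (hr : 3 ≤ r) (hk : 2 ≤ k)
    (h3 : 2 * c0 + z * (s * r * k + 2 * s) = 2 * S + z * (s * r + 2))
    (hc0 : c0 * 2 * k + z * s * r * k = z * s * r * k * k)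
    (hle : c0 + cy + cw ≤ S) (hy : z * s * r * k ≤ 4 * cy) (hw : z * s * r * k ≤ 4 * cw) :
    False := by
  -- 2cy + 2cw ≤ 2S - 2c0 = z(srk + 2s) - z(sr+2), and 2cy + 2cw ≥ zsrk
  have h5 : z * (s * r * k) + z * (s * r + 2) ≤ z * (s * r * k + 2 * s) := by
    have : z * s * r * k = z * (s * r * k) := by ring
    omega
  have h6 : z * (s * r + 2) ≤ z * (2 * s) := by nlinarith
  have h7 : s * r + 2 ≤ 2 * s := Nat.le_of_mul_le_mul_left h6 hz
  nlinarith

theorem k2_eq (z s r k S c0 cy nn a : ℕ) (hz : 1 ≤ z) (hs : 2 ≤ s) (hr : 3 ≤ r) (hk : 2 ≤ k)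
    (h3 : 2 * c0 + z * (s * r * k + 2 * s) = 2 * S + z * (s * r + 2))
    (hSe : S = c0 + cy) (ha : 2 ≤ a) (hnn : nn = 1 ∨ nn = 2)
    (hcy : cy * nn * a + z * s * r * k = z * s * r * k * a) :
    s * r * k + 2 * a * s = a * (s * r + 2) := by
  subst hSe
  have h4 : z * (s * r * k + 2 * s) = 2 * cy + z * (s * r + 2) := by omega
  rcases hnn with rfl | rfl
  · exfalso
    -- 2 cy a = 2 n (a-1); (srk + 2s - sr - 2) a z = 2 z srk (a-1)
    obtain ⟨a', rfl⟩ : ∃ a', a = a' + 2 := ⟨a - 2, by omega⟩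
    have e1 : z * (s * r * k + 2 * s) * (a' + 2) + 2 * (z * s * r * k) =
        2 * (z * s * r * k * (a' + 2)) + z * (s * r + 2) * (a' + 2) := by nlinarith
    have e2 : (s * r * k + 2 * s) * (a' + 2) + 2 * (s * r * k) =
        2 * (s * r * k * (a' + 2)) + (s * r + 2) * (a' + 2) := by
      apply Nat.eq_of_mul_eq_mul_left hz
      nlinarith
    have h8 : 3 * s ≤ s * r := by nlinarith
    nlinarith [Nat.zero_le (s * r * k * a'), Nat.zero_le (s * a'), Nat.zero_le (s * r * a')]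
  · have e1 : z * (s * r * k + 2 * s) * a + (z * s * r * k) =
        (z * s * r * k * a) + z * (s * r + 2) * a := by nlinarith
    have e2 : (s * r * k + 2 * s) * a + (s * r * k) = (s * r * k * a) + (s * r + 2) * a := by
      apply Nat.eq_of_mul_eq_mul_left hz
      nlinarith
    nlinarith

theorem k2_final (s r k a : ℕ) (hs : 2 ≤ s) (hr : 3 ≤ r) (hrodd : Odd r) (hk : 2 ≤ k)
    (hkr : k + 1 ≤ r) (ha : 2 ≤ a) (hcop : Nat.Coprime a r)
    (h : s * r * k + 2 * a * s = a * (s * r + 2)) :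
    s = r + 1 ∨ (r = 3 ∧ k = 2 ∧ a = 5) := by
  obtain ⟨s', rfl⟩ : ∃ s', s = s' + 1 := ⟨s - 1, by omega⟩
  -- r ∣ 2 a s'
  have h1 : r ∣ 2 * a * s' := by
    have e : 2 * a * s' + (s' + 1) * r * k = r * (a * (s' + 1)) := by nlinarith
    have : r ∣ 2 * a * s' + (s' + 1) * r * k := ⟨_, e⟩
    exact (Nat.dvd_add_left ⟨(s' + 1) * k, by ring⟩).1 this
  have hr2 : Nat.Coprime r 2 := by
    rw [Nat.coprime_two_right]; exact hrodd
  have h2 : r ∣ s' := by
    have : r ∣ (2 * a) * s' := h1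
    exact (Nat.Coprime.dvd_of_dvd_mul_left (Nat.Coprime.mul_right hr2 hcop.symm)) this
  obtain ⟨m, rfl⟩ := h2
  have hm : 1 ≤ m := by
    rcases Nat.eq_zero_or_pos m with rfl | hm
    · omega
    · exact hm
  obtain ⟨r', rfl⟩ : ∃ r', r = r' + 3 := ⟨r - 3, by omega⟩
  -- a (1 + m (r-2)) = k (1 + r m)
  have h3 : a * (1 + m * (r' + 1)) = k * (1 + (r' + 3) * m) := by
    have : (r' + 3) * (a * (1 + m * (r' + 1))) = (r' + 3) * (k * (1 + (r' + 3) * m)) := by
      nlinarith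
    exact Nat.eq_of_mul_eq_mul_left (by omega) this
  set D := 1 + m * (r' + 1) with hD
  have hDm : Nat.Coprime D m := by
    rw [hD, Nat.coprime_comm, add_comm]
    simp
  have hDk : D ∣ 2 * k := by
    have e : k * (1 + (r' + 3) * m) = k * D + m * (2 * k) := by rw [hD]; ring
    have : D ∣ k * D + m * (2 * k) := by rw [← e, ← h3]; exact dvd_mul_left D a
    have : D ∣ m * (2 * k) := (Nat.dvd_add_right (dvd_mul_left D k)).1 this
    exact hDm.dvd_of_dvd_mul_left this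
  have hDle : D ≤ 2 * k := Nat.le_of_dvd (by omega) hDk
  have hm3 : m ≤ 3 := by
    by_contra hh
    push Not at hh
    have : 4 * (r' + 1) ≤ m * (r' + 1) := Nat.mul_le_mul_right _ hh
    omega
  interval_cases m
  · left; ring
  · right
    exfalso
    have hD2 : Nat.Coprime D 2 := by
      rw [Nat.coprime_two_right, hD]
      exact ⟨r' + 1, by ring⟩
    have : D ∣ k := hD2.dvd_of_dvd_mul_left hDk
    have := Nat.le_of_dvd (by omega) this
    omega
  · right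
    have hr0 : r' = 0 := by omega
    subst hr0
    have hk2 : k = 2 := by omega
    subst hk2
    refine ⟨rfl, rfl, ?_⟩
    simp only [hD] at h3
    omega

theorem numerics {X : Type*} [Finite X] (S : Set X) (cls : X → Set X) (a nn : X → ℕ)
    (z s r k : ℕ)
    (hsub : ∀ x ∈ S, cls x ⊆ S)
    (hdisj : ∀ x ∈ S, ∀ y ∈ S, y ∉ cls x → Disjoint (cls x) (cls y))
    (hz : 1 ≤ z) (hs : 2 ≤ s) (hr : 3 ≤ r) (hrodd : Odd r) (hk1 : 1 ≤ k) (hkr : k + 1 ≤ r)
    (hS : S.ncard + z + s * z * r = z * s * r * k + s * z)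
    (hcls : ∀ x ∈ S, (cls x).ncard * nn x * a x + z * s * r * k = z * s * r * k * a x)
    (ha2 : ∀ x ∈ S, 2 ≤ a x) (hnn : ∀ x ∈ S, nn x = 1 ∨ nn x = 2)
    (hcop : ∀ x ∈ S, Nat.Coprime (a x) r)
    (hk : 2 ≤ k → ∃ x₀ ∈ S, a x₀ = k) :
    s = r + 1 ∨ (r = 3 ∧ k = 2 ∧ ∃ x₀ ∈ S, ∃ y ∈ S, a x₀ = 2 ∧ a y = 5 ∧
      ∀ w ∈ S, w ∈ cls x₀ ∨ w ∈ cls y) := by
  classical
  have c1 : ∀ x ∈ S, (cls x).ncard ≤ S.ncard := fun x hx => Set.ncard_le_ncard (hsub x hx)
  have c2 : ∀ x ∈ S, ∀ y ∈ S, y ∉ cls x → (cls x).ncard + (cls y).ncard ≤ S.ncard := by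
    intro x hx y hy hxy
    rw [← Set.ncard_union_eq (hdisj x hx y hy hxy)]
    exact Set.ncard_le_ncard (Set.union_subset (hsub x hx) (hsub y hy))
  have c3 : ∀ x ∈ S, ∀ y ∈ S, ∀ w ∈ S, y ∉ cls x → w ∉ cls x → w ∉ cls y →
      (cls x).ncard + (cls y).ncard + (cls w).ncard ≤ S.ncard := by
    intro x hx y hy w hw hxy hxw hyw
    have d1 : Disjoint (cls x ∪ cls y) (cls w) :=
      Set.disjoint_union_left.2 ⟨hdisj x hx w hw hxw, hdisj y hy w hw hyw⟩
    rw [← Set.ncard_union_eq (hdisj x hx y hy hxy), ← Set.ncard_union_eq d1]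
    exact Set.ncard_le_ncard
      (Set.union_subset (Set.union_subset (hsub x hx) (hsub y hy)) (hsub w hw))
  have e1 : ∀ x ∈ S, (cls x).ncard < S.ncard → ∃ y ∈ S, y ∉ cls x := by
    intro x hx hlt
    obtain ⟨y, hy, hny⟩ := Set.exists_mem_notMem_of_ncard_lt_ncard hlt
    exact ⟨y, hy, hny⟩
  have e2 : ∀ x ∈ S, ∀ y ∈ S, y ∉ cls x → (cls x).ncard + (cls y).ncard < S.ncard →
      ∃ w ∈ S, w ∉ cls x ∧ w ∉ cls y := by
    intro x hx y hy hxy hlt
    rw [← Set.ncard_union_eq (hdisj x hx y hy hxy)] at hlt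
    obtain ⟨w, hw, hnw⟩ := Set.exists_mem_notMem_of_ncard_lt_ncard hlt
    exact ⟨w, hw, fun h => hnw (Or.inl h), fun h => hnw (Or.inr h)⟩
  have h4 : ∀ x ∈ S, z * s * r * k ≤ 4 * (cls x).ncard := fun x hx =>
    class_ge_quarter _ _ _ _ (hcls x hx) (ha2 x hx) (hnn x hx)
  have hnpos : 0 < z * s * r * k := by positivity
  rcases Nat.lt_or_ge k 2 with hk' | hk'
  · -- k = 1
    have hk1' : k = 1 := by omega
    subst hk1'
    left
    simp only [mul_one] at hS hcls h4 hnpos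
    have hS' : S.ncard + z = s * z := by nlinarith
    have hne : 0 < S.ncard := by nlinarith
    obtain ⟨x, hx⟩ := (Set.ncard_pos).1 hne
    have hr3 : r = 3 :=
      k1_r z s r S.ncard hz hs hr hrodd hS' (le_trans (h4 x hx) (Nat.mul_le_mul_left 4 (c1 x hx)))
    subst hr3
    by_cases hall : ∃ y ∈ S, y ∉ cls x
    · obtain ⟨y, hy, hxy⟩ := hall
      exfalso
      apply k1_two z s S.ncard hz hs hS'
      have := c2 x hx y hy hxy
      have := h4 x hx
      have := h4 y hy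
      omega
    · push Not at hall
      have heq : (cls x).ncard = S.ncard := by
        apply le_antisymm (c1 x hx)
        by_contra hlt
        push Not at hlt
        obtain ⟨y, hy, hxy⟩ := e1 x hx hlt
        exact hxy (hall y hy)
      have := k1_one z s (cls x).ncard (nn x) (a x) hz hs (by rw [heq]; exact hS')
        (hcls x hx) (ha2 x hx) (hnn x hx)
      omega
  · -- k ≥ 2
    obtain ⟨x₀, hx₀, hax₀⟩ := hk hk'
    have hc0 := hcls x₀ hx₀
    rw [hax₀] at hc0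
    rcases hnn x₀ hx₀ with h1 | h2
    · rw [h1] at hc0
      exfalso
      obtain ⟨hlt, hcontra⟩ := k2_nn1 z s r k S.ncard (cls x₀).ncard hz hs hr hk' hS hc0
      obtain ⟨y, hy, hxy⟩ := e1 x₀ hx₀ hlt
      exact hcontra _ (c2 x₀ hx₀ y hy hxy) (h4 y hy)
    · rw [h2] at hc0
      obtain ⟨hlt, _, h3⟩ := k2_nn2 z s r k S.ncard (cls x₀).ncard hz hs hr hk' hS hc0
      obtain ⟨y, hy, hxy⟩ := e1 x₀ hx₀ hlt
      have hle := c2 x₀ hx₀ y hy hxy
      have hSe : S.ncard = (cls x₀).ncard + (cls y).ncard := by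
        by_contra hne
        have hlt2 : (cls x₀).ncard + (cls y).ncard < S.ncard := lt_of_le_of_ne hle (Ne.symm hne)
        obtain ⟨w, hw, hw1, hw2⟩ := e2 x₀ hx₀ y hy hxy hlt2
        exact k2_three z s r k _ _ _ _ hz hs hr hk' h3 hc0 (c3 x₀ hx₀ y hy w hw hxy hw1 hw2)
          (h4 y hy) (h4 w hw)
      have heq := k2_eq z s r k _ _ _ (nn y) (a y) hz hs hr hk' h3 hSe (ha2 y hy) (hnn y hy)
        (hcls y hy)
      rcases k2_final s r k (a y) hs hr hrodd hk' hkr (ha2 y hy) (hcop y hy) heq with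
        h | ⟨h1, h2', h3'⟩
      · left; exact h
      · right
        refine ⟨h1, h2', x₀, hx₀, y, hy, by rw [hax₀, h2'], h3', ?_⟩
        intro w hw
        by_contra hcon
        push Not at hcon
        have := c3 x₀ hx₀ y hy w hw hxy hcon.1 hcon.2
        have := h4 w hw
        omega

end Cfsg.Agent.Lib.Helper50_Numerics
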