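import Mathlib
import Cfsg.Agent.Lib.Helper50_SL2Count

/-!
# Finite subgroups of `SL(2,F)` of order prime to the characteristic (class equation)

A finite group `Γ` with an injective `ρ : Γ →* SL(2,F)`, `2 ≠ 0` in `F`, without non-scalar
elements of trace `± 2` (e.g. `|Γ|` invertible in `F`) and without abelian subgroup of index `≤ 2`
has order `24`, `48` or `120`, centre of order `2` and all centralisers of non-central elements of
order `4`, `6`, `8` or `10`.
-/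

set_option autoImplicit false

namespace Cfsg.Agent.Lib.Helper51_SL2Prime

/-- for a natural `a ≥ 2`: `1/a = 1/2` or `1/a ≤ 1/3` -/
theorem inv_le_third {a : ℕ} (ha : 2 ≤ a) : (1 : ℚ) / a = 1 / 2 ∨ (1 : ℚ) / a ≤ 1 / 3 := by
  rcases Nat.lt_or_ge a 3 with h | h
  · left
    have : a = 2 := by omega
    subst this; norm_num
  · right
    have : (3 : ℚ) ≤ a := by exact_mod_cast h
    exact one_div_le_one_div_of_le (by norm_num) this

theorem inv_le_half {a : ℕ} (ha : 2 ≤ a) : (1 : ℚ) / a ≤ 1 / 2 := by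
  have : (2 : ℚ) ≤ a := by exact_mod_cast ha
  exact one_div_le_one_div_of_le (by norm_num) this

theorem inv_pos' {a : ℕ} (ha : 2 ≤ a) : (0 : ℚ) < 1 / a := by
  have : (0 : ℚ) < a := by exact_mod_cast (by omega : 0 < a)
  positivity

theorem inv_h_le {a h : ℕ} (ha : 2 ≤ a) (hh : 3 * a ≤ h) : (1 : ℚ) / h ≤ (1 / a) / 3 := by
  have h1 : (0 : ℚ) < a := by exact_mod_cast (by omega : 0 < a)
  have h2 : (3 : ℚ) * a ≤ h := by exact_mod_cast hh
  rw [div_div]
  apply one_div_le_one_div_of_le (by positivity)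
  linarith

theorem inv_h_pos {a h : ℕ} (ha : 2 ≤ a) (hh : 3 * a ≤ h) : (0 : ℚ) < 1 / h := by
  have : (0 : ℚ) < h := by exact_mod_cast (by omega : 0 < h)
  positivity

theorem bound3Q (x1 x2 x3 y : ℚ) (hx1 : x1 ≤ 1 / 6) (hy : y ≤ x1 / 3)
    (ypos : 0 < y) (c2 : x2 = 1 / 2 ∨ x2 ≤ 1 / 3) (c3 : x3 = 1 / 2 ∨ x3 ≤ 1 / 3)
    (b3 : x3 ≤ 1 / 2) (eq : x1 + x2 + x3 = 1 + 2 * y) : False := by
  rcases c2 with r2 | r2 <;> rcases c3 with r3 | r3
  · subst r2; subst r3; linarith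
  · subst r2; linarith
  · subst r3; linarith
  · linarith

/-- bounding one entry of a triple -/
theorem bound3 {a1 a2 a3 h : ℕ} (h1 : 2 ≤ a1) (h2 : 2 ≤ a2) (h3 : 2 ≤ a3)
    (k1 : 3 * a1 ≤ h)
    (eq : (1 : ℚ) / a1 + 1 / a2 + 1 / a3 = 1 + 2 * (1 / h)) : a1 ≤ 5 := by
  by_contra hcon
  push Not at hcon
  have hx1 : (1 : ℚ) / a1 ≤ 1 / 6 := by
    have : (6 : ℚ) ≤ a1 := by exact_mod_cast hcon
    exact one_div_le_one_div_of_le (by norm_num) this
  exact bound3Q _ _ _ _ hx1 (inv_h_le h1 k1) (inv_h_pos h1 k1) (inv_le_third h2)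
    (inv_le_third h3) (inv_le_half h3) eq

/-- the polynomial form of the equation -/
theorem poly3 {a1 a2 a3 h : ℕ} (h1 : 2 ≤ a1) (h2 : 2 ≤ a2) (h3 : 2 ≤ a3) (hh : 0 < h)
    (eq : (1 : ℚ) / a1 + 1 / a2 + 1 / a3 = 1 + 2 * (1 / h)) :
    (h : ℤ) * (a2 * a3 + a1 * a3 + a1 * a2) = a1 * a2 * a3 * (h + 2) := by
  have q1 : (a1 : ℚ) ≠ 0 := by exact_mod_cast (by omega : a1 ≠ 0)
  have q2 : (a2 : ℚ) ≠ 0 := by exact_mod_cast (by omega : a2 ≠ 0)
  have q3 : (a3 : ℚ) ≠ 0 := by exact_mod_cast (by omega : a3 ≠ 0)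
  have qh : (h : ℚ) ≠ 0 := by exact_mod_cast (by omega : h ≠ 0)
  have : (h : ℚ) * (a2 * a3 + a1 * a3 + a1 * a2) = a1 * a2 * a3 * (h + 2) := by
    field_simp at eq
    linarith
  exact_mod_cast this

theorem core3 {a1 a2 a3 h : ℕ} (h1 : 2 ≤ a1) (h2 : 2 ≤ a2) (h3 : 2 ≤ a3)
    (k1 : 3 * a1 ≤ h) (k2 : 3 * a2 ≤ h) (k3 : 3 * a3 ≤ h)
    (eq : (1 : ℚ) / a1 + 1 / a2 + 1 / a3 = 1 + 2 * (1 / h)) :
    (h = 12 ∨ h = 24 ∨ h = 60) ∧ a1 ≤ 5 ∧ a2 ≤ 5 ∧ a3 ≤ 5 := by
  have b1 : a1 ≤ 5 := bound3 h1 h2 h3 k1 eq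
  have b2 : a2 ≤ 5 := bound3 h2 h1 h3 k2 (by linarith)
  have b3 : a3 ≤ 5 := bound3 h3 h2 h1 k3 (by linarith)
  refine ⟨?_, b1, b2, b3⟩
  have hp := poly3 h1 h2 h3 (by omega) eq
  interval_cases a1 <;> interval_cases a2 <;> interval_cases a3 <;> norm_num at hp <;> omega

/-- the contribution of a class -/
def term (a n : ℕ) : ℚ := (1 - 1 / (a : ℚ)) / n

theorem term_one (a : ℕ) : term a 1 = 1 - 1 / (a : ℚ) := by simp [term]
theorem term_two (a : ℕ) : term a 2 = (1 - 1 / (a : ℚ)) / 2 := by simp [term]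

theorem term_ge {a n : ℕ} (ha : 2 ≤ a) (hn : n = 1 ∨ n = 2) : 1 / 4 ≤ term a n := by
  have := inv_le_half ha
  rcases hn with rfl | rfl
  · rw [term_one]; linarith
  · rw [term_two]; linarith

theorem term_one_ge {a : ℕ} (ha : 2 ≤ a) : 1 / 2 ≤ term a 1 := by
  have := inv_le_half ha
  rw [term_one]; linarith

/-- one class: impossible -/
theorem sum1 {a1 n1 h : ℕ} (h1 : 2 ≤ a1) (k1 : 3 * a1 ≤ h) (m1 : n1 = 1 ∨ n1 = 2)
    (eq : term a1 n1 = 1 - 1 / (h : ℚ)) : False := by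
  have hy := inv_h_le h1 k1
  have hp := inv_h_pos h1 k1
  have hx := inv_le_half h1
  have hxp := inv_pos' h1
  rcases m1 with rfl | rfl
  · rw [term_one] at eq; linarith
  · rw [term_two] at eq; linarith

/-- two classes -/
theorem sum2 {a1 a2 n1 n2 h : ℕ} (h1 : 2 ≤ a1) (h2 : 2 ≤ a2) (k1 : 3 * a1 ≤ h)
    (k2 : 3 * a2 ≤ h) (m1 : n1 = 1 ∨ n1 = 2) (m2 : n2 = 1 ∨ n2 = 2)
    (eq : term a1 n1 + term a2 n2 = 1 - 1 / (h : ℚ)) : h = 12 ∧ a1 ≤ 3 ∧ a2 ≤ 3 := by
  have hy1 := inv_h_le h1 k1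
  have hy2 := inv_h_le h2 k2
  have hp := inv_h_pos h1 k1
  have hx1 := inv_le_half h1
  have hx2 := inv_le_half h2
  have hxp1 := inv_pos' h1
  have hxp2 := inv_pos' h2
  have c1 := inv_le_third h1
  have c2 := inv_le_third h2
  have q1 : (a1 : ℚ) ≠ 0 := by exact_mod_cast (by omega : a1 ≠ 0)
  have q2 : (a2 : ℚ) ≠ 0 := by exact_mod_cast (by omega : a2 ≠ 0)
  have qh : (h : ℚ) ≠ 0 := by exact_mod_cast (by omega : h ≠ 0)
  -- the mixed case
  have mixed : ∀ {b1 b2 : ℕ}, 2 ≤ b1 → 2 ≤ b2 → 3 * b1 ≤ h → 3 * b2 ≤ h →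
      (1 - 1 / (b1 : ℚ)) + (1 - 1 / (b2 : ℚ)) / 2 = 1 - 1 / (h : ℚ) →
      h = 12 ∧ b1 ≤ 3 ∧ b2 ≤ 3 := by
    intro b1 b2 g1 g2 l1 l2 e
    have hy1 := inv_h_le g1 l1
    have hy2 := inv_h_le g2 l2
    have hx1 := inv_le_half g1
    have hx2 := inv_le_half g2
    have hxp1 := inv_pos' g1
    have hxp2 := inv_pos' g2
    have c1 := inv_le_third g1
    have c2 := inv_le_third g2
    have q1 : (b1 : ℚ) ≠ 0 := by exact_mod_cast (by omega : b1 ≠ 0)
    have q2 : (b2 : ℚ) ≠ 0 := by exact_mod_cast (by omega : b2 ≠ 0)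
    have B2 : b2 ≤ 2 := by
      by_contra hcon
      push Not at hcon
      have : (1 : ℚ) / b2 ≤ 1 / 3 := by
        have : (3 : ℚ) ≤ b2 := by exact_mod_cast hcon
        exact one_div_le_one_div_of_le (by norm_num) this
      rcases c1 with r | r
      · rw [r] at e; linarith
      · linarith
    have B1 : b1 ≤ 3 := by
      by_contra hcon
      push Not at hcon
      have : (1 : ℚ) / b1 ≤ 1 / 4 := by
        have : (4 : ℚ) ≤ b1 := by exact_mod_cast hcon
        exact one_div_le_one_div_of_le (by norm_num) this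
      linarith
    have hpoly : (h : ℤ) * (2 * b2 + b1) = b1 * b2 * (h + 2) := by
      have : (h : ℚ) * (2 * b2 + b1) = b1 * b2 * (h + 2) := by
        field_simp at e
        linarith
      exact_mod_cast this
    refine ⟨?_, B1, by omega⟩
    interval_cases b1 <;> interval_cases b2 <;> norm_num at hpoly <;> omega
  rcases m1 with rfl | rfl <;> rcases m2 with rfl | rfl
  · exfalso
    rw [term_one, term_one] at eq; linarith
  · rw [term_one, term_two] at eq
    exact mixed h1 h2 k1 k2 eq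
  · rw [term_two, term_one] at eq
    obtain ⟨r1, r2, r3⟩ := mixed h2 h1 k2 k1 (by linarith)
    exact ⟨r1, r3, r2⟩
  · exfalso
    rw [term_two, term_two] at eq; linarith

/-- three classes -/
theorem sum3 {a1 a2 a3 n1 n2 n3 h : ℕ} (h1 : 2 ≤ a1) (h2 : 2 ≤ a2) (h3 : 2 ≤ a3)
    (k1 : 3 * a1 ≤ h) (k2 : 3 * a2 ≤ h) (k3 : 3 * a3 ≤ h)
    (m1 : n1 = 1 ∨ n1 = 2) (m2 : n2 = 1 ∨ n2 = 2) (m3 : n3 = 1 ∨ n3 = 2)
    (eq : term a1 n1 + term a2 n2 + term a3 n3 = 1 - 1 / (h : ℚ)) :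
    (h = 12 ∨ h = 24 ∨ h = 60) ∧ a1 ≤ 5 ∧ a2 ≤ 5 ∧ a3 ≤ 5 := by
  have hp := inv_h_pos h1 k1
  have t1 := term_ge h1 m1
  have t2 := term_ge h2 m2
  have t3 := term_ge h3 m3
  rcases m1 with rfl | rfl
  · exfalso
    have := term_one_ge h1; linarith
  rcases m2 with rfl | rfl
  · exfalso
    have := term_one_ge h2; linarith
  rcases m3 with rfl | rfl
  · exfalso
    have := term_one_ge h3; linarith
  rw [term_two, term_two, term_two] at eq
  exact core3 h1 h2 h3 k1 k2 k3 (by linarith)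


open Cfsg.Agent.Lib.Helper50_CTClass

variable {Γ : Type*} [Group Γ] {Z : Subgroup Γ}


/-- `C(x)` is abelian for `x ∉ Z` -/
theorem centralizer_comm (hZ : CT Z) {x : Γ} (hx : x ∉ Z) :
    ∀ a ∈ Subgroup.centralizer ({x} : Set Γ), ∀ b ∈ Subgroup.centralizer ({x} : Set Γ),
      a * b = b * a := by
  intro a ha b hb
  rw [mem_centralizer_iff_commute] at ha hb
  exact (hZ.trans a x b hx ha hb.symm).eq

/-- the abstract hypotheses -/
structure PHyp (Z : Subgroup Γ) : Prop where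
  ct : CT Z
  nrm : ∀ x : Γ, x ∉ Z →
    Nat.card (Subgroup.normalizer ((Subgroup.centralizer ({x} : Set Γ) : Subgroup Γ) : Set Γ)) =
      Nat.card (Subgroup.centralizer ({x} : Set Γ)) ∨
    Nat.card (Subgroup.normalizer ((Subgroup.centralizer ({x} : Set Γ) : Subgroup Γ) : Set Γ)) =
      2 * Nat.card (Subgroup.centralizer ({x} : Set Γ))
  nab : ∀ A : Subgroup Γ, (∀ a ∈ A, ∀ b ∈ A, a * b = b * a) → 2 < A.index

theorem cls_data [Finite Γ] (H : PHyp Z) {h : ℕ} (hg : Nat.card Γ = h * Nat.card Z) {x : Γ}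
    (hx : x ∉ Z) :
    ∃ a n : ℕ, 2 ≤ a ∧ 3 * a ≤ h ∧ (n = 1 ∨ n = 2) ∧
      Nat.card (Subgroup.centralizer ({x} : Set Γ)) = a * Nat.card Z ∧
      ((cls Z x).ncard : ℚ) = h * Nat.card Z * term a n := by
  have hepos : 0 < Nat.card Z := Nat.card_pos
  set e := Nat.card Z with he
  set C := Subgroup.centralizer ({x} : Set Γ) with hC
  have hZC : Z ≤ C := H.ct.le_centralizer x
  obtain ⟨a, ha⟩ := Subgroup.card_dvd_of_le hZC
  have hxC : x ∈ C := by rw [hC, mem_centralizer_iff_commute]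
  have ha2 : 2 ≤ a := by
    by_contra hcon
    push Not at hcon
    have hCpos : 0 < Nat.card C := Nat.card_pos
    interval_cases a
    · rw [ha] at hCpos; simp at hCpos
    · have : Z = C := Subgroup.eq_of_le_of_card_ge hZC (by rw [ha]; simp)
      exact hx (this ▸ hxC)
  have hidx := H.nab C (centralizer_comm H.ct hx)
  have hmul := Subgroup.card_mul_index C
  have h3 : 3 * a ≤ h := by
    have e1 : e * (a * C.index) = e * h := by
      rw [← mul_assoc, ← ha, hmul, hg]; ring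
    have e2 : a * C.index = h := Nat.eq_of_mul_eq_mul_left hepos e1
    rw [← e2]
    nlinarith
  have hcard := H.ct.card_cls hx
  rw [← hC] at hcard
  have hle : e ≤ Nat.card C := by rw [ha]; nlinarith
  have qe : (e : ℚ) ≠ 0 := by exact_mod_cast hepos.ne'
  have qa : (a : ℚ) ≠ 0 := by exact_mod_cast (by omega : a ≠ 0)
  have hcardQ : ((cls Z x).ncard : ℚ) *
      (Nat.card (Subgroup.normalizer ((C : Subgroup Γ) : Set Γ)) : ℚ) =
      (h * e) * ((a * e : ℚ) - e) := by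
    have : ((Nat.card C - e : ℕ) : ℚ) = (a * e : ℚ) - e := by
      rw [Nat.cast_sub hle, ha]; push_cast; ring
    rw [← this, ← Nat.cast_mul, ← Nat.cast_mul, ← Nat.cast_mul, ← hg, hcard]
  have ha' : Nat.card C = e * a := ha
  have key : ∀ n : ℕ, (n = 1 ∨ n = 2) →
      Nat.card (Subgroup.normalizer ((C : Subgroup Γ) : Set Γ)) = n * Nat.card C →
      ((cls Z x).ncard : ℚ) = h * e * term a n := by
    intro n hn1 hn
    have qn : (n : ℚ) ≠ 0 := by
      rcases hn1 with rfl | rfl <;> norm_num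
    rw [hn, ha'] at hcardQ
    push_cast at hcardQ
    have : ((cls Z x).ncard : ℚ) = (h * e) * ((a * e : ℚ) - e) / (n * (e * a)) := by
      rw [eq_div_iff (by positivity)]; exact hcardQ
    rw [this]
    unfold term
    field_simp
  rcases H.nrm x hx with hn | hn
  · exact ⟨a, 1, ha2, h3, Or.inl rfl, by rw [ha']; ring, key 1 (Or.inl rfl) (by rw [hn, one_mul])⟩
  · exact ⟨a, 2, ha2, h3, Or.inr rfl, by rw [ha']; ring, key 2 (Or.inr rfl) hn⟩

/-- `Z` together with the classes of the elements of a list -/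
def cover (Z : Subgroup Γ) : List Γ → Set Γ
  | [] => (Z : Set Γ)
  | x :: l => cls Z x ∪ cover Z l

theorem mem_cover {l : List Γ} {y : Γ} : y ∈ cover Z l ↔ y ∈ Z ∨ ∃ x ∈ l, y ∈ cls Z x := by
  induction l with
  | nil => simp [cover]
  | cons x l ih =>
    simp only [cover, Set.mem_union, ih, List.mem_cons, exists_eq_or_imp]
    tauto

theorem ncard_cover [Finite Γ] (hZ : CT Z) (l : List Γ) (hl : ∀ x ∈ l, x ∉ Z)
    (hpw : l.Pairwise (fun x y => y ∉ cls Z x)) :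
    (cover Z l).ncard = (l.map fun x => (cls Z x).ncard).sum + Nat.card Z := by
  induction l with
  | nil =>
    simp only [cover, List.map_nil, List.sum_nil, zero_add]
    exact (Nat.card_coe_set_eq _).symm
  | cons x l ih =>
    rw [List.pairwise_cons] at hpw
    have hx : x ∉ Z := hl x (List.mem_cons_self)
    have hd : Disjoint (cls Z x) (cover Z l) := by
      rw [Set.disjoint_left]
      intro y hy hy'
      rcases mem_cover.1 hy' with h | ⟨w, hw, hyw⟩
      · exact hy.1 h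
      · have hwZ : w ∉ Z := hl w (List.mem_cons_of_mem _ hw)
        exact Set.disjoint_left.1 (hZ.cls_disjoint hx hwZ (hpw.1 w hw)) hy hyw
    simp only [cover, List.map_cons, List.sum_cons]
    rw [Set.ncard_union_eq hd (Set.toFinite _) (Set.toFinite _),
      ih (fun w hw => hl w (List.mem_cons_of_mem _ hw)) hpw.2]
    ring

theorem ncard_cover_le [Finite Γ] (l : List Γ) : (cover Z l).ncard ≤ Nat.card Γ := by
  rw [← Set.ncard_univ]
  exact Set.ncard_le_ncard (Set.subset_univ _) (Set.toFinite _)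

theorem ncard_cover_eq [Finite Γ] {l : List Γ} (h : ∀ y : Γ, y ∈ cover Z l) :
    (cover Z l).ncard = Nat.card Γ := by
  rw [← Set.ncard_univ]
  congr 1
  exact Set.eq_univ_of_forall h

/-- each class has at least a quarter of the elements -/
theorem four_mul_cls_ge [Finite Γ] (H : PHyp Z) {x : Γ} (hx : x ∉ Z) :
    Nat.card Γ ≤ 4 * (cls Z x).ncard := by
  obtain ⟨h, hg⟩ : ∃ h, Nat.card Γ = h * Nat.card Z := by
    obtain ⟨h, hh⟩ := Subgroup.card_subgroup_dvd_card Z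
    exact ⟨h, by rw [hh, mul_comm]⟩
  obtain ⟨a, n, ha, -, hn, -, hw⟩ := cls_data H hg hx
  have := term_ge ha hn
  have hq : (Nat.card Γ : ℚ) ≤ 4 * ((cls Z x).ncard : ℚ) := by
    rw [hw, hg]
    push_cast
    have : (0 : ℚ) ≤ (h : ℚ) * (Nat.card Z : ℚ) := by positivity
    nlinarith
  exact_mod_cast hq


theorem term_sum_of_eq {h e : ℕ} (hh : 0 < h) (he : 0 < e) {T W : ℚ}
    (hW : W = h * e * T) (hs : W + e = h * e) : T = 1 - 1 / (h : ℚ) := by
  have qe : (e : ℚ) ≠ 0 := by exact_mod_cast he.ne'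
  have qh : (h : ℚ) ≠ 0 := by exact_mod_cast hh.ne'
  have he0 : (h : ℚ) * e ≠ 0 := mul_ne_zero qh qe
  apply mul_left_cancel₀ he0
  have : (h : ℚ) * e * (1 - 1 / h) = h * e - e := by field_simp
  rw [this, ← hW]
  linarith

/-- the class equation: the possible orders of `Γ / Z` and of the centralisers -/
theorem step1 [Finite Γ] (H : PHyp Z) :
    ∃ h : ℕ, Nat.card Γ = h * Nat.card Z ∧ (h = 12 ∨ h = 24 ∨ h = 60) ∧
      ∀ x : Γ, x ∉ Z → ∃ a : ℕ, 2 ≤ a ∧ a ≤ 5 ∧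
        Nat.card (Subgroup.centralizer ({x} : Set Γ)) = a * Nat.card Z := by
  obtain ⟨h, hg⟩ : ∃ h, Nat.card Γ = h * Nat.card Z := by
    obtain ⟨h, hh⟩ := Subgroup.card_subgroup_dvd_card Z
    exact ⟨h, by rw [hh, mul_comm]⟩
  refine ⟨h, hg, ?_⟩
  have hepos : 0 < Nat.card Z := Nat.card_pos
  have hgpos : 0 < Nat.card Γ := Nat.card_pos
  have hhpos : 0 < h := by
    rcases Nat.eq_zero_or_pos h with h0 | h0
    · rw [h0, zero_mul] at hg; omega
    · exact h0
  have hZidx := H.nab Z (fun a ha b _ => (H.ct.central a ha b).eq)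
  obtain ⟨x1, hx1⟩ : ∃ x1, x1 ∉ Z := by
    by_contra hcon
    push Not at hcon
    have : Z = ⊤ := (Subgroup.eq_top_iff' Z).2 hcon
    rw [this, Subgroup.index_top] at hZidx
    omega
  obtain ⟨a1, n1, ha1, hk1, hn1, hc1, hw1⟩ := cls_data H hg hx1
  by_cases c1 : ∀ y : Γ, y ∈ cover Z [x1]
  · -- one class: impossible
    exfalso
    have hcount := ncard_cover H.ct [x1] (by simpa using hx1) (by simp)
    rw [ncard_cover_eq c1, hg] at hcount
    simp only [List.map_cons, List.map_nil, List.sum_cons, List.sum_nil, add_zero] at hcount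
    have hq : ((cls Z x1).ncard : ℚ) + (Nat.card Z : ℚ) = h * Nat.card Z := by
      exact_mod_cast hcount.symm
    exact sum1 ha1 hk1 hn1 (term_sum_of_eq hhpos hepos hw1 hq)
  push Not at c1
  obtain ⟨x2, hx2c⟩ := c1
  have hx2 : x2 ∉ Z := fun hh => hx2c (mem_cover.2 (Or.inl hh))
  have h12 : x2 ∉ cls Z x1 := fun hh => hx2c (mem_cover.2 (Or.inr ⟨x1, by simp, hh⟩))
  obtain ⟨a2, n2, ha2, hk2, hn2, hc2, hw2⟩ := cls_data H hg hx2
  by_cases c2 : ∀ y : Γ, y ∈ cover Z [x1, x2]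
  · -- two classes
    have hcount := ncard_cover H.ct [x1, x2] (by simp [hx1, hx2]) (by simp [h12])
    rw [ncard_cover_eq c2, hg] at hcount
    simp only [List.map_cons, List.map_nil, List.sum_cons, List.sum_nil, add_zero] at hcount
    have hq : (((cls Z x1).ncard : ℚ) + (cls Z x2).ncard) + (Nat.card Z : ℚ) =
        h * Nat.card Z := by
      exact_mod_cast hcount.symm
    have hW : ((cls Z x1).ncard : ℚ) + (cls Z x2).ncard =
        h * Nat.card Z * (term a1 n1 + term a2 n2) := by rw [hw1, hw2]; ring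
    obtain ⟨r1, r2, r3⟩ := sum2 ha1 ha2 hk1 hk2 hn1 hn2 (term_sum_of_eq hhpos hepos hW hq)
    refine ⟨Or.inl r1, ?_⟩
    intro x hx
    rcases mem_cover.1 (c2 x) with hxZ | ⟨w, hw, hxw⟩
    · exact absurd hxZ hx
    · simp only [List.mem_cons, List.not_mem_nil, or_false] at hw
      rcases hw with rfl | rfl
      · exact ⟨a1, ha1, by omega, by
          rw [Cfsg.Agent.Lib.Helper50_SL2Count.card_centralizer_of_mem_cls H.ct hx1 hxw, hc1]⟩
      · exact ⟨a2, ha2, by omega, by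
          rw [Cfsg.Agent.Lib.Helper50_SL2Count.card_centralizer_of_mem_cls H.ct hx2 hxw, hc2]⟩
  push Not at c2
  obtain ⟨x3, hx3c⟩ := c2
  have hx3 : x3 ∉ Z := fun hh => hx3c (mem_cover.2 (Or.inl hh))
  have h13 : x3 ∉ cls Z x1 := fun hh => hx3c (mem_cover.2 (Or.inr ⟨x1, by simp, hh⟩))
  have h23 : x3 ∉ cls Z x2 := fun hh => hx3c (mem_cover.2 (Or.inr ⟨x2, by simp, hh⟩))
  obtain ⟨a3, n3, ha3, hk3, hn3, hc3, hw3⟩ := cls_data H hg hx3
  by_cases c3 : ∀ y : Γ, y ∈ cover Z [x1, x2, x3]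
  · -- three classes
    have hcount := ncard_cover H.ct [x1, x2, x3] (by simp [hx1, hx2, hx3])
      (by simp [h12, h13, h23])
    rw [ncard_cover_eq c3, hg] at hcount
    simp only [List.map_cons, List.map_nil, List.sum_cons, List.sum_nil, add_zero] at hcount
    have hq : (((cls Z x1).ncard : ℚ) + ((cls Z x2).ncard + (cls Z x3).ncard)) +
        (Nat.card Z : ℚ) = h * Nat.card Z := by
      exact_mod_cast hcount.symm
    have hW : ((cls Z x1).ncard : ℚ) + ((cls Z x2).ncard + (cls Z x3).ncard) =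
        h * Nat.card Z * (term a1 n1 + term a2 n2 + term a3 n3) := by rw [hw1, hw2, hw3]; ring
    obtain ⟨r0, r1, r2, r3⟩ :=
      sum3 ha1 ha2 ha3 hk1 hk2 hk3 hn1 hn2 hn3 (term_sum_of_eq hhpos hepos hW hq)
    refine ⟨r0, ?_⟩
    intro x hx
    rcases mem_cover.1 (c3 x) with hxZ | ⟨w, hw, hxw⟩
    · exact absurd hxZ hx
    · simp only [List.mem_cons, List.not_mem_nil, or_false] at hw
      rcases hw with rfl | rfl | rfl
      · exact ⟨a1, ha1, r1, by
          rw [Cfsg.Agent.Lib.Helper50_SL2Count.card_centralizer_of_mem_cls H.ct hx1 hxw, hc1]⟩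
      · exact ⟨a2, ha2, r2, by
          rw [Cfsg.Agent.Lib.Helper50_SL2Count.card_centralizer_of_mem_cls H.ct hx2 hxw, hc2]⟩
      · exact ⟨a3, ha3, r3, by
          rw [Cfsg.Agent.Lib.Helper50_SL2Count.card_centralizer_of_mem_cls H.ct hx3 hxw, hc3]⟩
  -- four classes: too many elements
  exfalso
  push Not at c3
  obtain ⟨x4, hx4c⟩ := c3
  have hx4 : x4 ∉ Z := fun hh => hx4c (mem_cover.2 (Or.inl hh))
  have h14 : x4 ∉ cls Z x1 := fun hh => hx4c (mem_cover.2 (Or.inr ⟨x1, by simp, hh⟩))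
  have h24 : x4 ∉ cls Z x2 := fun hh => hx4c (mem_cover.2 (Or.inr ⟨x2, by simp, hh⟩))
  have h34 : x4 ∉ cls Z x3 := fun hh => hx4c (mem_cover.2 (Or.inr ⟨x3, by simp, hh⟩))
  have hcount := ncard_cover H.ct [x1, x2, x3, x4] (by simp [hx1, hx2, hx3, hx4])
    (by simp [h12, h13, h23, h14, h24, h34])
  have hle := ncard_cover_le (Z := Z) [x1, x2, x3, x4]
  rw [hcount] at hle
  simp only [List.map_cons, List.map_nil, List.sum_cons, List.sum_nil, add_zero] at hle
  have b1 := four_mul_cls_ge H hx1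
  have b2 := four_mul_cls_ge H hx2
  have b3 := four_mul_cls_ge H hx3
  have b4 := four_mul_cls_ge H hx4
  omega


/-- the abstract theorem -/
theorem main_abstract [Finite Γ] (H : PHyp Z) (he : Nat.card Z ≤ 2)
    (hinv : ∀ x : Γ, x * x = 1 → x ∈ Z) :
    (Nat.card Γ = 24 ∨ Nat.card Γ = 48 ∨ Nat.card Γ = 120) ∧ Nat.card Z = 2 ∧
    ∀ x : Γ, x ∉ Z →
      (Nat.card (Subgroup.centralizer ({x} : Set Γ)) = 4 ∨
       Nat.card (Subgroup.centralizer ({x} : Set Γ)) = 6 ∨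
       Nat.card (Subgroup.centralizer ({x} : Set Γ)) = 8 ∨
       Nat.card (Subgroup.centralizer ({x} : Set Γ)) = 10) := by
  obtain ⟨h, hg, hh, hc⟩ := step1 H
  have h2 : 2 ∣ Nat.card Γ := by
    rw [hg]
    apply Dvd.dvd.mul_right
    rcases hh with rfl | rfl | rfl <;> norm_num
  have : Fact (Nat.Prime 2) := ⟨Nat.prime_two⟩
  obtain ⟨x, hx⟩ := exists_prime_orderOf_dvd_card' 2 h2
  have hxZ : x ∈ Z := hinv x (by rw [← pow_two, ← hx, pow_orderOf_eq_one])
  have hx1 : x ≠ 1 := by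
    intro h1
    rw [h1, orderOf_one] at hx
    omega
  have hZ2 : Nat.card Z = 2 := by
    have : 1 < Nat.card Z := by
      rw [Subgroup.one_lt_card_iff_ne_bot]
      intro hb
      rw [hb, Subgroup.mem_bot] at hxZ
      exact hx1 hxZ
    omega
  refine ⟨?_, hZ2, ?_⟩
  · rw [hg, hZ2]
    omega
  · intro y hy
    obtain ⟨a, ha2, ha5, hca⟩ := hc y hy
    rw [hca, hZ2]
    omega

open Matrix Cfsg.Agent.Lib.Helper50_SL2Mat Cfsg.Agent.Lib.Helper50_SL2Rep
  Cfsg.Agent.Lib.Helper50_SL2Classes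
open scoped MatrixGroups

variable {F : Type*} [Field F]

/-- an element of finite order `m` with `m ≠ 0` in `F` and trace `± 2` is scalar -/
theorem isScalar_of_tr_sq {g : SL(2, F)} (h2 : (2 : F) ≠ 0) {m : ℕ} (hm : (m : F) ≠ 0)
    (hg : g ^ m = 1) (ht : tr g * tr g = 4) : IsScalar g := by
  have key : ∀ y : SL(2, F), tr y = 2 → y ^ m = 1 → y = 1 := by
    intro y hy hym
    obtain ⟨i1, i2, i3, i4⟩ := pow_of_tr_two hy m
    rw [hym] at i1 i2 i3 i4
    rw [one00] at i1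
    rw [one01] at i2
    rw [one10] at i3
    rw [one11] at i4
    have e1 : y 0 0 - 1 = 0 := by
      have : (m : F) * (y 0 0 - 1) = 0 := by linear_combination -i1
      exact (mul_eq_zero.1 this).resolve_left hm
    have e2 : y 0 1 = 0 := (mul_eq_zero.1 i2.symm).resolve_left hm
    have e3 : y 1 0 = 0 := (mul_eq_zero.1 i3.symm).resolve_left hm
    have e4 : y 1 1 - 1 = 0 := by
      have : (m : F) * (y 1 1 - 1) = 0 := by linear_combination -i4
      exact (mul_eq_zero.1 this).resolve_left hm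
    apply ext4
    · rw [one00]; linear_combination e1
    · rw [one01]; exact e2
    · rw [one10]; exact e3
    · rw [one11]; linear_combination e4
  have hfac : (tr g - 2) * (tr g + 2) = 0 := by linear_combination ht
  rcases mul_eq_zero.1 hfac with h | h
  · have := key g (by linear_combination h) hg
    rw [this]
    exact isScalar_one
  · apply isScalar_of_sq h2
    apply key (g * g)
    · rw [tr_sq, ht]; norm_num
    · rw [← pow_two, ← pow_mul, mul_comm, pow_mul, hg, one_pow]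

section rep

variable [Finite Γ] (ρ : Γ →* SL(2, F))

omit [Finite Γ] in
/-- if `|Γ|` is invertible in `F`, the non-scalar elements are semisimple -/
theorem tr_sq_ne_four_of_card (h2 : (2 : F) ≠ 0) (hcard : ((Nat.card Γ : ℕ) : F) ≠ 0) :
    ∀ x : Γ, x ∉ Zs ρ → tr (ρ x) * tr (ρ x) ≠ 4 := by
  intro x hx ht
  apply hx
  rw [mem_Zs]
  apply isScalar_of_tr_sq h2 hcard _ ht
  rw [← map_pow, pow_card_eq_one', map_one]

omit [Finite Γ] in
theorem tr_sq_ne_four_of_ringChar (h2 : (2 : F) ≠ 0) (hcard : ¬ ringChar F ∣ Nat.card Γ) :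
    ∀ x : Γ, x ∉ Zs ρ → tr (ρ x) * tr (ρ x) ≠ 4 :=
  tr_sq_ne_four_of_card ρ h2 (fun h => hcard ((ringChar.spec F _).1 h))

variable {ρ}

theorem pHyp_of_sl2 (hρ : Function.Injective ρ) (h2 : (2 : F) ≠ 0)
    (hss : ∀ x : Γ, x ∉ Zs ρ → tr (ρ x) * tr (ρ x) ≠ 4)
    (hnab : ∀ A : Subgroup Γ, (∀ a ∈ A, ∀ b ∈ A, a * b = b * a) → 2 < A.index) :
    PHyp (Zs ρ) :=
  ⟨ct hρ, fun x hx => card_normalizer_centralizer hρ h2 (hss x hx), hnab⟩

/-- **Finite `p'`-subgroups of `SL(2,F)` without abelian subgroup of index `≤ 2`.** -/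
theorem pprime_orders (hρ : Function.Injective ρ) (h2 : (2 : F) ≠ 0)
    (hss : ∀ x : Γ, x ∉ Zs ρ → tr (ρ x) * tr (ρ x) ≠ 4)
    (hnab : ∀ A : Subgroup Γ, (∀ a ∈ A, ∀ b ∈ A, a * b = b * a) → 2 < A.index) :
    (Nat.card Γ = 24 ∨ Nat.card Γ = 48 ∨ Nat.card Γ = 120) ∧ Nat.card (Zs ρ) = 2 ∧
    ∀ x : Γ, x ∉ Zs ρ →
      (Nat.card (Subgroup.centralizer ({x} : Set Γ)) = 4 ∨
       Nat.card (Subgroup.centralizer ({x} : Set Γ)) = 6 ∨
       Nat.card (Subgroup.centralizer ({x} : Set Γ)) = 8 ∨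
       Nat.card (Subgroup.centralizer ({x} : Set Γ)) = 10) := by
  apply main_abstract (pHyp_of_sl2 hρ h2 hss hnab) (card_Zs_le hρ)
  intro x hx
  rw [mem_Zs]
  apply isScalar_of_sq h2
  rw [← map_mul, hx, map_one]

end rep

end Cfsg.Agent.Lib.Helper51_SL2Prime
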