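import Mathlib
import Cfsg.Agent.Lib.Helper12_FpfLin
import Cfsg.Agent.Lib.Helper51_SL2Prime

set_option autoImplicit false

namespace Cfsg.Agent.Lib.Helper12_FpfPlanar

open Module Cfsg.Agent.Lib.Helper12_FpfLin
open scoped MatrixGroups
open Cfsg.Agent.Lib.Helper50_SL2Mat Cfsg.Agent.Lib.Helper50_SL2Rep

variable {F : Type*} [Field F] {W : Type*} [AddCommGroup W] [Module F W] {G : Type*} [Group G]
variable {ρ : G →* Module.End F W}

/-- a scalar matrix of `SL₂` squares to one -/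
theorem sq_eq_one_of_isScalar {g : SL(2, F)} (hg : IsScalar g) : g * g = 1 := by
  have hs := hg.sq
  obtain ⟨g1, g2, g3⟩ := hg
  apply ext4 <;> simp only [mul00, mul01, mul10, mul11, one00, one01, one10, one11, g1, g2]
  · linear_combination hs
  · ring
  · ring
  · rw [← g3]; linear_combination hs

/-- commutators lie in subgroups of index at most two -/
theorem comm_mem_of_index_le_two {Γ : Type*} [Group Γ] (A : Subgroup Γ) (hA : A.index ≤ 2)
    (hA0 : A.index ≠ 0) (g k : Γ) : g * k * g⁻¹ * k⁻¹ ∈ A := by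
  have : A.index = 1 ∨ A.index = 2 := by omega
  rcases this with h1 | h2
  · rw [Subgroup.index_eq_one.1 h1]; trivial
  · rw [Subgroup.mul_mem_iff_of_index_two h2, Subgroup.mul_mem_iff_of_index_two h2,
      Subgroup.mul_mem_iff_of_index_two h2, Subgroup.inv_mem_iff, Subgroup.inv_mem_iff]
    tauto

theorem sq_mem_of_index_le_two {Γ : Type*} [Group Γ] (A : Subgroup Γ) (hA : A.index ≤ 2)
    (hA0 : A.index ≠ 0) (g : Γ) : g ^ 2 ∈ A := by
  have : A.index = 1 ∨ A.index = 2 := by omega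
  rcases this with h1 | h2
  · rw [Subgroup.index_eq_one.1 h1]; trivial
  · exact Subgroup.sq_mem_of_index_two h2 g

/-- **finite planar fixed-point-free groups**: a subgroup of `slN ρ N` without abelian subgroup of
index `≤ 2` has order `24`, `48` or `120`, and centralizers of non-involutions have order
`4, 6, 8, 10`. -/
theorem planar_orders [Nontrivial W] [Finite G] (h : IsFpf ρ) {N : Submodule F W}
    (b : Basis (Fin 2) F N) (Γ : Subgroup G) (hΓ : Γ ≤ slN ρ N)
    (hcard : ((Nat.card G : ℕ) : F) ≠ 0) (h2 : (2 : F) ≠ 0)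
    (hnab : ∀ A : Subgroup Γ, (∀ a ∈ A, ∀ b ∈ A, a * b = b * a) → 2 < A.index) :
    (Nat.card Γ = 24 ∨ Nat.card Γ = 48 ∨ Nat.card Γ = 120) ∧
    ∀ x ∈ Γ, x ^ 2 ≠ 1 → ∃ c : ℕ, (c = 4 ∨ c = 6 ∨ c = 8 ∨ c = 10) ∧
      ∀ y ∈ Γ, Commute x y → orderOf y ∣ c := by
  set φ : Γ →* SL(2, F) := (toSL2 (ρ := ρ) b).comp (Subgroup.inclusion hΓ) with hφ
  have hinj : Function.Injective φ :=
    (toSL2_injective h b).comp (Subgroup.inclusion_injective hΓ)
  have hcardΓ : ((Nat.card Γ : ℕ) : F) ≠ 0 := by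
    intro h0
    apply hcard
    obtain ⟨k, hk⟩ := Subgroup.card_subgroup_dvd_card Γ
    rw [hk, Nat.cast_mul, h0, zero_mul]
  obtain ⟨hord, -, hcent⟩ := Cfsg.Agent.Lib.Helper51_SL2Prime.pprime_orders hinj h2
    (Cfsg.Agent.Lib.Helper51_SL2Prime.tr_sq_ne_four_of_card φ h2 hcardΓ) hnab
  refine ⟨hord, ?_⟩
  intro x hx hx2
  have hxZ : (⟨x, hx⟩ : Γ) ∉ Zs φ := by
    intro hZ
    have h1 := sq_eq_one_of_isScalar (mem_Zs.1 hZ)
    rw [← map_mul, ← map_one φ] at h1
    have h3 := hinj h1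
    apply hx2
    have := congrArg Subtype.val h3
    simpa [pow_two] using this
  refine ⟨Nat.card (Subgroup.centralizer ({(⟨x, hx⟩ : Γ)} : Set Γ)), hcent _ hxZ, ?_⟩
  intro y hy hxy
  have hmem : (⟨y, hy⟩ : Γ) ∈ Subgroup.centralizer ({(⟨x, hx⟩ : Γ)} : Set Γ) := by
    rw [Subgroup.mem_centralizer_singleton_iff]
    apply Subtype.ext
    exact hxy.eq.symm
  have := Subgroup.orderOf_dvd_natCard _ hmem
  rwa [← Subgroup.orderOf_coe] at this

end Cfsg.Agent.Lib.Helper12_FpfPlanar
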