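import Mathlib
import Cfsg.Agent.Lib.Helper12_FpfLin
import Cfsg.Agent.Lib.Helper50_UniqueInv2
import Cfsg.Agent.S0016

set_option autoImplicit false

namespace Cfsg.Agent.Lib.Helper12_FpfSylow

open Module Cfsg.Agent.Lib.Helper12_FpfLin Cfsg.Agent.Lib.Helper50_UniqueInv

variable {F : Type*} [Field F] {W : Type*} [AddCommGroup W] [Module F W] {G : Type*} [Group G]
variable {ρ : G →* Module.End F W}

theorem uniqueInvolution [Nontrivial W] (h : IsFpf ρ) (H : Subgroup G) :
    UniqueInvolution H := by
  intro u v hu hv hu1 hv1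
  apply Subtype.ext
  apply h.invol_unique
  · intro h1; exact hu1 (Subtype.ext h1)
  · intro h1; exact hv1 (Subtype.ext h1)
  · have := congrArg Subtype.val hu; simpa using this
  · have := congrArg Subtype.val hv; simpa using this

variable [IsAlgClosed F] [FiniteDimensional F W] [Nontrivial W] [Finite G]

/-- a subgroup of prime order of a group is generated by any of its non-identity elements -/
theorem eq_zpowers_of_card_prime {P : Type*} [Group P] [Finite P] {r : ℕ} [hr : Fact r.Prime]
    (H : Subgroup P) (hH : Nat.card H = r) :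
    ∃ g : P, g ∈ H ∧ orderOf g = r ∧ H = Subgroup.zpowers g := by
  have hnt : Nontrivial H := by
    rw [← Finite.one_lt_card_iff_nontrivial, hH]; exact hr.out.one_lt
  obtain ⟨g, hg⟩ := exists_ne (1 : H)
  have hord : orderOf (g : P) = r := by
    have h1 : orderOf g ∣ r := by rw [← hH]; exact orderOf_dvd_natCard g
    rw [Subgroup.orderOf_coe]
    rcases (Nat.dvd_prime hr.out).1 h1 with h2 | h2
    · exact absurd (orderOf_eq_one_iff.1 h2) hg
    · exact h2
  refine ⟨g, g.2, hord, ?_⟩
  symm
  apply Subgroup.eq_of_le_of_card_ge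
  · rw [Subgroup.zpowers_le]; exact g.2
  · rw [Nat.card_zpowers, hord, hH]

/-- in a `r`-subgroup of a fixed-point-free group all subgroups of order `r` coincide -/
theorem subgroups_card_prime_eq (h : IsFpf ρ) {r : ℕ} [hr : Fact r.Prime] (P : Subgroup G)
    (hP : IsPGroup r P) (H K : Subgroup P) (hH : Nat.card H = r) (hK : Nat.card K = r) :
    H = K := by
  have hntP : Nontrivial P := by
    obtain ⟨g, hgH, hg, -⟩ := eq_zpowers_of_card_prime H hH
    refine ⟨⟨g, 1, ?_⟩⟩
    intro h1
    rw [h1, orderOf_one] at hg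
    exact hr.out.one_lt.ne hg
  have hcnt := hP.center_nontrivial
  have hdvd : r ∣ Nat.card (Subgroup.center P) := by
    obtain ⟨k, hk⟩ := (hP.to_subgroup (Subgroup.center P)).exists_card_eq
    rw [hk]
    have : k ≠ 0 := by
      intro h0
      rw [h0, pow_zero] at hk
      have := (Finite.one_lt_card_iff_nontrivial (α := Subgroup.center P)).2 hcnt
      omega
    exact dvd_pow_self r this
  obtain ⟨c, hc⟩ := exists_prime_orderOf_dvd_card' r hdvd
  have hc1 : ((c : P) : G) ≠ 1 := by
    intro h1
    have : c = 1 := Subtype.ext (Subtype.ext h1)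
    rw [this, orderOf_one] at hc
    exact hr.out.one_lt.ne hc
  have hcr : ((c : P) : G) ^ r = 1 := by
    have : c ^ r = 1 := by rw [← hc]; exact pow_orderOf_eq_one c
    have := congrArg (fun y : Subgroup.center P => ((y : P) : G)) this
    simpa using this
  have key : ∀ L : Subgroup P, Nat.card L = r → L = Subgroup.zpowers (c : P) := by
    intro L hL
    obtain ⟨g, hgL, hg, hLg⟩ := eq_zpowers_of_card_prime L hL
    have hcomm : Commute ((c : P) : G) (g : G) := by
      have := Subgroup.mem_center_iff.1 c.2 g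
      have := congrArg Subtype.val this
      exact this.symm
    have hgr : (g : G) ^ r = 1 := by
      have : g ^ r = 1 := by rw [← hg]; exact pow_orderOf_eq_one g
      have := congrArg Subtype.val this
      simpa using this
    have hmem := h.mem_zpowers_of_commute hr.out hcomm hc1 hcr hgr
    have hmem' : g ∈ Subgroup.zpowers (c : P) := by
      obtain ⟨k, hk⟩ := Subgroup.mem_zpowers_iff.1 hmem
      rw [Subgroup.mem_zpowers_iff]
      refine ⟨k, Subtype.ext ?_⟩
      simpa using hk
    rw [hLg]
    apply Subgroup.eq_of_le_of_card_ge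
    · rw [Subgroup.zpowers_le]; exact hmem'
    · rw [Nat.card_zpowers, Nat.card_zpowers, hg, Subgroup.orderOf_coe, hc]
  rw [key H hH, key K hK]

theorem isCyclic_or_quat (h : IsFpf ρ) {r : ℕ} [hr : Fact r.Prime] (P : Subgroup G)
    (hP : IsPGroup r P) :
    IsCyclic P ∨ (r = 2 ∧ ∃ n : ℕ, Nonempty (P ≃* QuaternionGroup (2 ^ n))) :=
  Cfsg.Agent.S0016.result r hP (fun H K hH hK => subgroups_card_prime_eq h P hP H K hH hK)

theorem isCyclic_of_odd (h : IsFpf ρ) {r : ℕ} [hr : Fact r.Prime] (hr2 : r ≠ 2) (P : Subgroup G)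
    (hP : IsPGroup r P) : IsCyclic P := by
  rcases isCyclic_or_quat h P hP with h1 | ⟨h1, -⟩
  · exact h1
  · exact absurd h1 hr2

end Cfsg.Agent.Lib.Helper12_FpfSylow
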