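import Mathlib

/-!
# Tools for perfect finite groups (helper12)

* `map_eq_one_of_perfect`: homomorphisms from a perfect group to a commutative group are trivial;
* `cyclic_normal_le_center`: a cyclic normal subgroup of a perfect group is central;
* `zgroup_normal_le_center`: a normal Z-subgroup of a perfect group is central;
* `central_pow_index_eq_one`: transfer of a central element into an abelian subgroup;
* `not_perfect_of_cyclic_sylow`: a cyclic Sylow subgroup for the smallest prime forces a proper
  commutator subgroup.
-/

set_option autoImplicit false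

namespace Cfsg.Agent.Lib.Helper12_PerfectTools

variable {G : Type*} [Group G]

/-- homomorphisms from a perfect group to a group in which the images commute are trivial -/
theorem map_eq_one_of_perfect (hperf : commutator G = ⊤) {A : Type*} [Group A] (f : G →* A)
    (hA : ∀ a b : G, f a * f b = f b * f a) (g : G) : f g = 1 := by
  have hle : commutator G ≤ f.ker := by
    rw [commutator_eq_closure, Subgroup.closure_le]
    rintro _ ⟨a, b, rfl⟩
    rw [SetLike.mem_coe, MonoidHom.mem_ker, commutatorElement_def, map_mul, map_mul, map_mul,
      map_inv, map_inv, hA a b, mul_assoc, mul_assoc, mul_inv_cancel_left, mul_inv_cancel]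
  have : g ∈ commutator G := by rw [hperf]; trivial
  exact MonoidHom.mem_ker.1 (hle this)

/-- a cyclic normal subgroup of a perfect group is central -/
theorem cyclic_normal_le_center (hperf : commutator G = ⊤) (N : Subgroup G) [N.Normal]
    [IsCyclic N] : N ≤ Subgroup.center G := by
  intro n hn
  rw [Subgroup.mem_center_iff]
  intro g
  have hcomm : ∀ a b : G, (MulAut.conjNormal a : MulAut N) * MulAut.conjNormal b =
      MulAut.conjNormal b * MulAut.conjNormal a := by
    intro a b
    apply (IsCyclic.mulAutMulEquiv N).injective
    rw [map_mul, map_mul, mul_comm]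
  have h1 := map_eq_one_of_perfect hperf (MulAut.conjNormal (H := N)) hcomm g
  have h2 : (MulAut.conjNormal g : MulAut N) ⟨n, hn⟩ = ⟨n, hn⟩ := by rw [h1]; rfl
  have h3 := congrArg Subtype.val h2
  rw [MulAut.conjNormal_apply] at h3
  have : g * n = (g * n * g⁻¹) * g := by simp
  rw [this, h3]

/-- a normal Z-subgroup of a perfect group is central -/
theorem zgroup_normal_le_center [Finite G] (hperf : commutator G = ⊤) (N : Subgroup G)
    [hN : N.Normal] [IsZGroup N] : N ≤ Subgroup.center G := by
  -- the commutator subgroup of `N` is cyclic and normal, hence central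
  have hD : ⁅N, N⁆ ≤ Subgroup.center G := by
    have : IsCyclic (⁅N, N⁆ : Subgroup G) := by
      rw [← Subgroup.map_subtype_commutator]
      have h1 := IsZGroup.isCyclic_commutator (G := N)
      exact ((commutator N).equivMapOfInjective N.subtype N.subtype_injective).isCyclic.1 h1
    exact cyclic_normal_le_center hperf _
  have hnil : Group.IsNilpotent N := by
    apply Subgroup.isNilpotent_of_ker_le_center (Abelianization.of (G := N))
    · rw [Abelianization.ker_of]
      intro c hc
      rw [Subgroup.mem_center_iff]
      intro n
      have h1 : (c : G) ∈ ⁅N, N⁆ := by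
        rw [← Subgroup.map_subtype_commutator]
        exact ⟨c, hc, rfl⟩
      have h2 := Subgroup.mem_center_iff.1 (hD h1) (n : G)
      exact Subtype.ext h2
  have : IsCyclic N := inferInstance
  exact cyclic_normal_le_center hperf N

open scoped IsMulCommutative in
/-- **transfer of central elements**: in a perfect group a central element raised to the index of
an abelian subgroup of finite index is trivial -/
theorem central_pow_index_eq_one (hperf : commutator G = ⊤) (P : Subgroup G) [P.FiniteIndex]
    (hP : ∀ a ∈ P, ∀ b ∈ P, a * b = b * a) (w : G) (hw : w ∈ Subgroup.center G) :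
    w ^ P.index = 1 := by
  have : IsMulCommutative P := ⟨⟨fun a b => Subtype.ext (hP a a.2 b b.2)⟩⟩
  have key : ∀ (k : ℕ) (g₀ : G), g₀⁻¹ * w ^ k * g₀ ∈ P → g₀⁻¹ * w ^ k * g₀ = w ^ k := by
    intro k g₀ _
    have := Subgroup.mem_center_iff.1 (Subgroup.pow_mem _ hw k) g₀
    rw [mul_assoc, ← this, inv_mul_cancel_left]
  have h1 := MonoidHom.transfer_eq_pow (MonoidHom.id P) w key
  have h2 : MonoidHom.transfer (MonoidHom.id P) w = 1 :=
    map_eq_one_of_perfect hperf _ (fun a b => mul_comm _ _) w
  rw [h2] at h1
  have := congrArg Subtype.val h1
  simpa using this.symm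

/-- a group with a cyclic Sylow subgroup for the smallest prime is not perfect -/
theorem not_perfect_of_cyclic_sylow [Finite G] [Nontrivial G] {p : ℕ} [Fact p.Prime]
    (hp : (Nat.card G).minFac = p) (P : Sylow p G) [hc : IsCyclic P] :
    commutator G ≠ ⊤ := by
  intro hperf
  have hle := IsCyclic.normalizer_le_centralizer (P := P) hp hc
  have hcompl := MonoidHom.ker_transferSylow_isComplement' P hle
  have hker : (MonoidHom.transferSylow P hle).ker = ⊤ := by
    rw [eq_top_iff]
    intro g _
    rw [MonoidHom.mem_ker]
    apply map_eq_one_of_perfect hperf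
    intro a b
    apply Subtype.ext
    have := (hle (Subgroup.le_normalizer (MonoidHom.transferSylow P hle b).2))
      (MonoidHom.transferSylow P hle a) (MonoidHom.transferSylow P hle a).2
    exact this
  rw [hker, Subgroup.isComplement'_top_left] at hcompl
  have hdvd : p ∣ Nat.card G := by
    rw [← hp]; exact Nat.minFac_dvd _
  have := P.card_eq_multiplicity
  rw [hcompl, Subgroup.card_bot] at this
  have hpos : 0 < (Nat.card G).factorization p :=
    (Nat.Prime.factorization_pos_of_dvd Fact.out Nat.card_pos.ne' hdvd)
  have : 1 < p ^ (Nat.card G).factorization p :=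
    Nat.one_lt_pow hpos.ne' (Nat.Prime.one_lt Fact.out)
  omega

/-- quotients of perfect groups are perfect -/
theorem perfect_quotient (hperf : commutator G = ⊤) (K : Subgroup G) [K.Normal] :
    commutator (G ⧸ K) = ⊤ := by
  have hs : Function.Surjective (QuotientGroup.mk' K) := QuotientGroup.mk'_surjective K
  have h1 : (⊤ : Subgroup G).map (QuotientGroup.mk' K) = ⊤ := by
    rw [← MonoidHom.range_eq_map, MonoidHom.range_eq_top]; exact hs
  rw [commutator_def, ← h1, ← Subgroup.map_commutator, ← commutator_def, hperf, h1]

/-- a nontrivial solvable group is not perfect -/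
theorem not_perfect_of_solvable {H : Type*} [Group H] [Nontrivial H] [Group.IsSolvable H] :
    commutator H ≠ ⊤ :=
  (Group.IsSolvable.commutator_lt_top_of_nontrivial H).ne

/-- an element whose order is prime to the index of a normal subgroup lies in it -/
theorem mem_of_coprime_index [Finite G] (K : Subgroup G) [K.Normal] (g : G)
    (hg : (orderOf g).Coprime K.index) : g ∈ K := by
  rw [← QuotientGroup.eq_one_iff]
  have h1 : orderOf (g : G ⧸ K) ∣ orderOf g := orderOf_map_dvd (QuotientGroup.mk' K) g
  have h2 : orderOf (g : G ⧸ K) ∣ K.index := by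
    rw [Subgroup.index_eq_card]; exact orderOf_dvd_natCard _
  have h3 : orderOf (g : G ⧸ K) ∣ 1 := by
    rw [← hg]; exact Nat.dvd_gcd h1 h2
  exact orderOf_eq_one_iff.1 (Nat.dvd_one.1 h3)

end Cfsg.Agent.Lib.Helper12_PerfectTools
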