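/-
Helper library (helper86): wreathed 2-groups `Z_{2^n} ≀ Z_2`.
A concrete model `Wr N` (elements `a i j = x^i y^j` and `b i j = x^i y^j z`, `i j : ZMod N`) and the
isomorphism of every group satisfying `Cfsg.IsWreathed` with `Wr (2^n)`.
-/
import Cfsg.Prelude.Def_CaseTheorems

set_option autoImplicit false

namespace Cfsg.Agent.Lib.Helper86_Wreathed

/-- The model of the wreath product `Z_N ≀ Z_2`: `a i j` stands for `x^i y^j` and `b i j` for `x^i y^j z`,
where `z` is the involution swapping `x` and `y`. -/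
inductive Wr (N : ℕ) : Type
  | a : ZMod N → ZMod N → Wr N
  | b : ZMod N → ZMod N → Wr N
  deriving DecidableEq

namespace Wr

variable {N : ℕ}

/-- Multiplication of the model. -/
def mul : Wr N → Wr N → Wr N
  | a i j, a k l => a (i + k) (j + l)
  | a i j, b k l => b (i + k) (j + l)
  | b i j, a k l => b (i + l) (j + k)
  | b i j, b k l => a (i + l) (j + k)

/-- Inverse of the model. -/
def inv : Wr N → Wr N
  | a i j => a (-i) (-j)
  | b i j => b (-j) (-i)

instance : Group (Wr N) where
  mul := mul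
  mul_assoc := by
    rintro (⟨i, j⟩ | ⟨i, j⟩) (⟨k, l⟩ | ⟨k, l⟩) (⟨r, s⟩ | ⟨r, s⟩) <;>
      simp only [(· * ·), mul] <;> ring_nf
  one := a 0 0
  one_mul := by
    rintro (⟨i, j⟩ | ⟨i, j⟩)
    · exact congrArg₂ a (zero_add i) (zero_add j)
    · exact congrArg₂ b (zero_add i) (zero_add j)
  mul_one := by
    rintro (⟨i, j⟩ | ⟨i, j⟩)
    · exact congrArg₂ a (add_zero i) (add_zero j)
    · exact congrArg₂ b (add_zero i) (add_zero j)
  inv := inv
  inv_mul_cancel := by
    rintro (⟨i, j⟩ | ⟨i, j⟩)
    · exact congrArg₂ a (neg_add_cancel i) (neg_add_cancel j)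
    · exact congrArg₂ a (neg_add_cancel j) (neg_add_cancel i)

@[simp] theorem a_mul_a (i j k l : ZMod N) : a i j * a k l = a (i + k) (j + l) := rfl
@[simp] theorem a_mul_b (i j k l : ZMod N) : a i j * b k l = b (i + k) (j + l) := rfl
@[simp] theorem b_mul_a (i j k l : ZMod N) : b i j * a k l = b (i + l) (j + k) := rfl
@[simp] theorem b_mul_b (i j k l : ZMod N) : b i j * b k l = a (i + l) (j + k) := rfl
@[simp] theorem inv_a (i j : ZMod N) : (a i j)⁻¹ = a (-i) (-j) := rfl
@[simp] theorem inv_b (i j : ZMod N) : (b i j)⁻¹ = b (-j) (-i) := rfl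
theorem one_def : (1 : Wr N) = a 0 0 := rfl
@[simp] theorem a_zero_zero : (a 0 0 : Wr N) = 1 := rfl

/-- The model as a sum of two copies of `ZMod N × ZMod N`. -/
def equivSum : Wr N ≃ (ZMod N × ZMod N) ⊕ (ZMod N × ZMod N) where
  toFun
    | a i j => .inl (i, j)
    | b i j => .inr (i, j)
  invFun
    | .inl p => a p.1 p.2
    | .inr p => b p.1 p.2
  left_inv := by rintro (⟨i, j⟩ | ⟨i, j⟩) <;> rfl
  right_inv := by rintro (⟨i, j⟩ | ⟨i, j⟩) <;> rfl

instance [NeZero N] : Fintype (Wr N) := Fintype.ofEquiv _ equivSum.symm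

instance [NeZero N] : Finite (Wr N) := Finite.of_fintype _

theorem card [NeZero N] : Nat.card (Wr N) = 2 * N ^ 2 := by
  rw [Nat.card_congr equivSum, Nat.card_sum, Nat.card_prod, Nat.card_zmod]
  ring

end Wr

/-! ### The isomorphism with an abstract wreathed group -/

section iso

variable {S : Type*} [Group S] {N : ℕ}

theorem pow_val_add [NeZero N] {g : S} (hg : g ^ N = 1) (i j : ZMod N) :
    g ^ (i + j).val = g ^ i.val * g ^ j.val := by
  rw [ZMod.val_add, ← pow_add]
  conv_rhs => rw [← Nat.mod_add_div (i.val + j.val) N]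
  rw [pow_add, pow_mul, hg, one_pow, mul_one]

theorem pow_val_eq_one_iff [NeZero N] {g : S} (hg : orderOf g = N) (i : ZMod N) :
    g ^ i.val = 1 ↔ i = 0 := by
  constructor
  · intro h
    have hdvd : N ∣ i.val := by
      have := orderOf_dvd_of_pow_eq_one h
      rwa [hg] at this
    have hlt : i.val < N := ZMod.val_lt i
    have : i.val = 0 := Nat.eq_zero_of_dvd_of_lt hdvd hlt
    exact (ZMod.val_eq_zero i).mp this
  · rintro rfl
    simp

/-- the data of a wreathed group -/
structure WData (S : Type*) [Group S] (N : ℕ) where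
  x : S
  y : S
  z : S
  hx : orderOf x = N
  hxy : x * y = y * x
  hdisj : Subgroup.zpowers x ⊓ Subgroup.zpowers y = ⊥
  hz : orderOf z = 2
  hzx : z * x * z⁻¹ = y

namespace WData

variable (D : WData S N)

theorem z_sq : D.z * D.z = 1 := by
  have := pow_orderOf_eq_one D.z
  rwa [D.hz, pow_two] at this

theorem z_inv : D.z⁻¹ = D.z := inv_eq_of_mul_eq_one_right D.z_sq

theorem zx : D.z * D.x = D.y * D.z := by
  have := D.hzx
  rw [mul_inv_eq_iff_eq_mul] at this
  exact this

theorem zy : D.z * D.y = D.x * D.z := by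
  have h := D.zx
  calc D.z * D.y = D.z * (D.y * D.z) * D.z := by rw [mul_assoc, mul_assoc, D.z_sq, mul_one]
    _ = D.z * (D.z * D.x) * D.z := by rw [h]
    _ = D.x * D.z := by rw [← mul_assoc, D.z_sq, one_mul]

theorem z_xpow (k : ℕ) : D.z * D.x ^ k = D.y ^ k * D.z := by
  induction k with
  | zero => simp
  | succ k ih => rw [pow_succ, ← mul_assoc, ih, mul_assoc, D.zx, ← mul_assoc, ← pow_succ]

theorem z_ypow (k : ℕ) : D.z * D.y ^ k = D.x ^ k * D.z := by
  induction k with
  | zero => simp
  | succ k ih => rw [pow_succ, ← mul_assoc, ih, mul_assoc, D.zy, ← mul_assoc, ← pow_succ]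

theorem comm_pow (k l : ℕ) : D.x ^ k * D.y ^ l = D.y ^ l * D.x ^ k :=
  ((Commute.pow_pow (show Commute D.x D.y from D.hxy) k l)).eq

theorem x_pow_N : D.x ^ N = 1 := by
  have := pow_orderOf_eq_one D.x
  rwa [D.hx] at this

theorem y_pow_N : D.y ^ N = 1 := by
  have h : D.y ^ N * D.z = D.z := by rw [← D.z_xpow, D.x_pow_N, mul_one]
  exact mul_eq_right.mp h |> fun h' => h'

/-- the map from the model -/
def toFun : Wr N → S
  | Wr.a i j => D.x ^ i.val * D.y ^ j.val
  | Wr.b i j => D.x ^ i.val * D.y ^ j.val * D.z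

theorem toFun_mul [NeZero N] (u v : Wr N) : D.toFun (u * v) = D.toFun u * D.toFun v := by
  have hX := D.x_pow_N
  have hY := D.y_pow_N
  rcases u with ⟨i, j⟩ | ⟨i, j⟩ <;> rcases v with ⟨k, l⟩ | ⟨k, l⟩
  · simp only [Wr.a_mul_a, toFun, pow_val_add hX, pow_val_add hY]
    rw [mul_assoc, mul_assoc, ← mul_assoc (D.x ^ k.val), D.comm_pow k.val j.val]
    simp only [mul_assoc]
  · simp only [Wr.a_mul_b, toFun, pow_val_add hX, pow_val_add hY]
    rw [mul_assoc, mul_assoc, mul_assoc, ← mul_assoc (D.x ^ k.val), D.comm_pow k.val j.val]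
    simp only [mul_assoc]
  · simp only [Wr.b_mul_a, toFun, pow_val_add hX, pow_val_add hY]
    -- x^i x^l y^j y^k z = x^i y^j z x^k y^l
    have h1 : D.z * (D.x ^ k.val * D.y ^ l.val) = D.y ^ k.val * D.x ^ l.val * D.z := by
      rw [← mul_assoc, D.z_xpow, mul_assoc, D.z_ypow, mul_assoc]
    rw [mul_assoc (D.x ^ i.val * D.y ^ j.val) D.z, h1]
    rw [← D.comm_pow l.val k.val]
    simp only [mul_assoc]
    rw [← mul_assoc (D.y ^ j.val) (D.x ^ l.val), ← D.comm_pow l.val j.val]
    simp only [mul_assoc]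
  · simp only [Wr.b_mul_b, toFun, pow_val_add hX, pow_val_add hY]
    have h1 : D.z * (D.x ^ k.val * D.y ^ l.val * D.z) = D.y ^ k.val * D.x ^ l.val := by
      rw [← mul_assoc, ← mul_assoc, D.z_xpow, mul_assoc (D.y ^ k.val), D.z_ypow, mul_assoc, mul_assoc,
        D.z_sq, mul_one]
    rw [mul_assoc (D.x ^ i.val * D.y ^ j.val) D.z, h1]
    rw [← D.comm_pow l.val k.val]
    simp only [mul_assoc]
    rw [← mul_assoc (D.y ^ j.val) (D.x ^ l.val), ← D.comm_pow l.val j.val]
    simp only [mul_assoc]

/-- the homomorphism from the model -/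
def hom [NeZero N] : Wr N →* S where
  toFun := D.toFun
  map_one' := by simp [toFun]
  map_mul' := D.toFun_mul

theorem ypow_eq_one_iff (k : ℕ) : D.y ^ k = 1 ↔ D.x ^ k = 1 := by
  constructor
  · intro h
    have := D.z_xpow k
    rw [h, one_mul] at this
    exact mul_eq_left.mp this
  · intro h
    have := D.z_xpow k
    rw [h, mul_one] at this
    exact (mul_eq_right.mp this.symm)

theorem orderOf_y : orderOf D.y = N := by
  have h : orderOf D.y = orderOf D.x := orderOf_eq_orderOf_iff.mpr fun k => D.ypow_eq_one_iff k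
  exact h.trans D.hx

theorem x_ne_one (hN : 1 < N) : D.x ≠ 1 := by
  intro h
  have := D.hx
  rw [h, orderOf_one] at this
  omega

theorem hom_injective [NeZero N] (hN : 1 < N) : Function.Injective D.hom := by
  rw [injective_iff_map_eq_one]
  rintro (⟨i, j⟩ | ⟨i, j⟩) h
  · have h' : D.x ^ i.val * D.y ^ j.val = 1 := h
    have hmem : D.x ^ i.val ∈ Subgroup.zpowers D.x ⊓ Subgroup.zpowers D.y := by
      refine ⟨Subgroup.npow_mem_zpowers _ _, ?_⟩
      rw [eq_inv_of_mul_eq_one_left h']
      exact Subgroup.inv_mem _ (Subgroup.npow_mem_zpowers _ _)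
    rw [D.hdisj, Subgroup.mem_bot] at hmem
    have hi : i = 0 := (pow_val_eq_one_iff D.hx i).mp hmem
    rw [hmem, one_mul] at h'
    have hj : j = 0 := (pow_val_eq_one_iff D.orderOf_y j).mp h'
    rw [hi, hj]; rfl
  · exfalso
    have h' : D.x ^ i.val * D.y ^ j.val * D.z = 1 := h
    have hz : D.z = (D.x ^ i.val * D.y ^ j.val)⁻¹ := eq_inv_of_mul_eq_one_right h'
    have hcomm : Commute (D.x ^ i.val * D.y ^ j.val) D.x := by
      apply Commute.mul_left
      · exact (Commute.refl D.x).pow_left _
      · exact (show Commute D.y D.x from D.hxy.symm).pow_left _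
    have hzc : Commute D.z D.x := by rw [hz]; exact hcomm.inv_left
    have hxy' : D.x = D.y := by
      have := D.hzx
      rw [hzc.eq, mul_inv_cancel_right] at this
      exact this
    have hmem : D.x ∈ Subgroup.zpowers D.x ⊓ Subgroup.zpowers D.y :=
      ⟨Subgroup.mem_zpowers _, by rw [← hxy']; exact Subgroup.mem_zpowers _⟩
    rw [D.hdisj, Subgroup.mem_bot] at hmem
    exact D.x_ne_one hN hmem

theorem hom_bijective [NeZero N] [Finite S] (hN : 1 < N) (hcard : Nat.card S = 2 * N ^ 2) :
    Function.Bijective D.hom := by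
  rw [Nat.bijective_iff_injective_and_card]
  exact ⟨D.hom_injective hN, by rw [Wr.card, hcard]⟩

/-- the isomorphism of the model with a wreathed group -/
noncomputable def mulEquiv [NeZero N] [Finite S] (hN : 1 < N) (hcard : Nat.card S = 2 * N ^ 2) :
    Wr N ≃* S :=
  MulEquiv.ofBijective D.hom (D.hom_bijective hN hcard)

end WData

end iso

/-- Every wreathed group is isomorphic to the model. -/
theorem exists_mulEquiv {S : Type*} [Group S] [Finite S] (hS : Cfsg.IsWreathed S) :
    ∃ n : ℕ, 2 ≤ n ∧ Nat.card S = 2 ^ (2 * n + 1) ∧ Nonempty (S ≃* Wr (2 ^ n)) := by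
  obtain ⟨n, hn, hcard, x, y, z, hx, hxy, hdisj, hz, hzx⟩ := hS
  refine ⟨n, hn, hcard, ?_⟩
  let D : WData S (2 ^ n) := ⟨x, y, z, hx, hxy, hdisj, hz, hzx⟩
  have hN : 1 < 2 ^ n := Nat.one_lt_two_pow (by omega)
  have hcard' : Nat.card S = 2 * (2 ^ n) ^ 2 := by rw [hcard]; ring
  exact ⟨(D.mulEquiv hN hcard').symm⟩

/-! ### Centre, derived subgroup, central quotient of the model -/

open scoped commutatorElement

theorem cyclic_of_range {G : Type*} [Group G] {N : ℕ} [NeZero N] (f : Multiplicative (ZMod N) →* G)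
    (hf : Function.Injective f) (H : Subgroup G) (hH : f.range = H) : IsCyclic H ∧ Nat.card H = N := by
  subst hH
  have e : Multiplicative (ZMod N) ≃* f.range := MonoidHom.ofInjective hf
  refine ⟨(MulEquiv.isCyclic e).mp inferInstance, ?_⟩
  rw [← Nat.card_congr e.toEquiv]
  simp

namespace Wr

variable {N : ℕ}

theorem mem_center_iff (hN : 1 < N) (g : Wr N) : g ∈ Subgroup.center (Wr N) ↔ ∃ i, g = a i i := by
  have : Fact (1 < N) := ⟨hN⟩
  rw [Subgroup.mem_center_iff]
  constructor
  · intro h
    rcases g with ⟨i, j⟩ | ⟨i, j⟩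
    · have := h (b 0 0)
      simp only [b_mul_a, a_mul_b, zero_add, add_zero, b.injEq] at this
      exact ⟨i, by rw [this.1]⟩
    · have := h (a 1 0)
      simp only [a_mul_b, b_mul_a, zero_add, add_zero, b.injEq] at this
      exact absurd this.1 (by simp)
  · rintro ⟨i, rfl⟩ (⟨k, l⟩ | ⟨k, l⟩) <;> simp [add_comm]

/-- the central embedding `i ↦ a i i` -/
def zHom : Multiplicative (ZMod N) →* Wr N where
  toFun i := a (Multiplicative.toAdd i) (Multiplicative.toAdd i)
  map_one' := rfl
  map_mul' _ _ := rfl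

theorem zHom_injective : Function.Injective (zHom (N := N)) := by
  intro i j h
  have h' : a (Multiplicative.toAdd i) (Multiplicative.toAdd i) =
      a (Multiplicative.toAdd j) (Multiplicative.toAdd j) := h
  injection h' with h1 _

theorem zHom_range (hN : 1 < N) : (zHom (N := N)).range = Subgroup.center (Wr N) := by
  ext g
  rw [mem_center_iff hN]
  constructor
  · rintro ⟨i, rfl⟩; exact ⟨_, rfl⟩
  · rintro ⟨i, rfl⟩; exact ⟨Multiplicative.ofAdd i, rfl⟩

theorem center_cyclic [NeZero N] (hN : 1 < N) :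
    IsCyclic (Subgroup.center (Wr N)) ∧ Nat.card (Subgroup.center (Wr N)) = N :=
  cyclic_of_range zHom zHom_injective _ (zHom_range hN)

/-- the embedding `i ↦ a i (-i)` onto the derived subgroup -/
def dHom : Multiplicative (ZMod N) →* Wr N where
  toFun i := a (Multiplicative.toAdd i) (-(Multiplicative.toAdd i))
  map_one' := by
    show a (0 : ZMod N) (-0) = 1
    rw [neg_zero]; rfl
  map_mul' i j := by
    show a (Multiplicative.toAdd i + Multiplicative.toAdd j)
        (-(Multiplicative.toAdd i + Multiplicative.toAdd j)) =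
      a (Multiplicative.toAdd i) (-Multiplicative.toAdd i) *
        a (Multiplicative.toAdd j) (-Multiplicative.toAdd j)
    rw [a_mul_a, neg_add]

theorem dHom_injective : Function.Injective (dHom (N := N)) := by
  intro i j h
  have h' : a (Multiplicative.toAdd i) (-Multiplicative.toAdd i) =
      a (Multiplicative.toAdd j) (-Multiplicative.toAdd j) := h
  injection h' with h1 _

theorem commutator_eq : commutator (Wr N) = (dHom (N := N)).range := by
  apply le_antisymm
  · rw [commutator_def, Subgroup.commutator_le]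
    rintro (⟨i, j⟩ | ⟨i, j⟩) - (⟨k, l⟩ | ⟨k, l⟩) - <;>
      simp only [commutatorElement_def, a_mul_a, a_mul_b, b_mul_a, b_mul_b, inv_a, inv_b]
    · exact ⟨Multiplicative.ofAdd 0, by simp [dHom]⟩
    · exact ⟨Multiplicative.ofAdd (i - j), by simp [dHom]; constructor <;> ring⟩
    · exact ⟨Multiplicative.ofAdd (l - k), by simp [dHom]; constructor <;> ring⟩
    · exact ⟨Multiplicative.ofAdd (i + l - j - k), by simp [dHom]; constructor <;> ring⟩
  · rintro _ ⟨i, rfl⟩
    have : dHom i = ⁅(b 0 0 : Wr N), a 0 (Multiplicative.toAdd i)⁆ := by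
      simp [dHom, commutatorElement_def]
    rw [this, commutator_def]
    exact Subgroup.commutator_mem_commutator (Subgroup.mem_top _) (Subgroup.mem_top _)

theorem commutator_cyclic [NeZero N] :
    IsCyclic (commutator (Wr N)) ∧ Nat.card (commutator (Wr N)) = N :=
  cyclic_of_range dHom dHom_injective _ commutator_eq.symm

/-- the quotient map onto the dihedral group -/
def toDihedral : Wr N →* DihedralGroup N where
  toFun
    | a i j => DihedralGroup.r (i - j)
    | b i j => DihedralGroup.sr (j - i)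
  map_one' := by
    show DihedralGroup.r ((0 : ZMod N) - 0) = 1
    rw [sub_zero]; rfl
  map_mul' := by
    rintro (⟨i, j⟩ | ⟨i, j⟩) (⟨k, l⟩ | ⟨k, l⟩) <;>
      simp only [a_mul_a, a_mul_b, b_mul_a, b_mul_b, DihedralGroup.r_mul_r, DihedralGroup.r_mul_sr,
        DihedralGroup.sr_mul_r, DihedralGroup.sr_mul_sr] <;> congr 1 <;> ring

theorem toDihedral_surjective : Function.Surjective (toDihedral (N := N)) := by
  rintro (i | i)
  · exact ⟨a i 0, by simp [toDihedral]⟩
  · exact ⟨b 0 i, by simp [toDihedral]⟩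

theorem toDihedral_ker (hN : 1 < N) : (toDihedral (N := N)).ker = Subgroup.center (Wr N) := by
  ext g
  rw [mem_center_iff hN, MonoidHom.mem_ker]
  rcases g with ⟨i, j⟩ | ⟨i, j⟩
  · constructor
    · intro h
      have h' : DihedralGroup.r (i - j) = DihedralGroup.r 0 := h
      injection h' with h1
      exact ⟨i, by rw [sub_eq_zero.mp h1]⟩
    · rintro ⟨k, hk⟩
      injection hk with h1 h2
      show DihedralGroup.r (i - j) = 1
      rw [h1, h2, sub_self]; rfl
  · constructor
    · intro h
      have h' : DihedralGroup.sr (j - i) = DihedralGroup.r 0 := h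
      cases h'
    · rintro ⟨k, hk⟩
      exact absurd hk (by simp)

/-- `Wr N / Z(Wr N)` is dihedral of order `2N`. -/
noncomputable def quotientCenterEquiv (hN : 1 < N) :
    Wr N ⧸ Subgroup.center (Wr N) ≃* DihedralGroup N :=
  (QuotientGroup.quotientMulEquivOfEq (toDihedral_ker hN).symm).trans
    (QuotientGroup.quotientKerEquivOfSurjective toDihedral toDihedral_surjective)

end Wr

/-! ### The subgroup generated by the involutions -/

/-- elements of additive order dividing 2 in `ZMod (2M)`. -/
theorem zmod_two_torsion {N M : ℕ} (hN : N = 2 * M) (hM : 0 < M) (m : ZMod N) (h : m + m = 0) :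
    m = 0 ∨ m = (M : ZMod N) := by
  have : NeZero N := ⟨by omega⟩
  have h1 : (m + m).val = 0 := by rw [h, ZMod.val_zero]
  rw [ZMod.val_add] at h1
  have hlt : m.val < N := ZMod.val_lt m
  have hdvd : N ∣ m.val + m.val := Nat.dvd_of_mod_eq_zero h1
  obtain ⟨c, hc⟩ := hdvd
  have hc2 : c = 0 ∨ c = 1 := by
    have hc3 : c < 2 := by
      by_contra hcon
      push Not at hcon
      have := Nat.mul_le_mul_left N hcon
      omega
    omega
  rcases hc2 with rfl | rfl
  · left
    have : m.val = 0 := by omega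
    exact (ZMod.val_eq_zero m).mp this
  · right
    have : m.val = M := by omega
    rw [← this, ZMod.natCast_zmod_val]

theorem zmod_half_add_half {N M : ℕ} (hN : N = 2 * M) : (M : ZMod N) + (M : ZMod N) = 0 := by
  have : ((M + M : ℕ) : ZMod N) = 0 := by
    rw [show M + M = N by omega]; exact ZMod.natCast_self N
  simpa using this

theorem zmod_half_ne_zero {N M : ℕ} (hN : N = 2 * M) (hM : 0 < M) : (M : ZMod N) ≠ 0 := by
  intro h
  rw [ZMod.natCast_eq_zero_iff] at h
  have := Nat.le_of_dvd hM h
  omega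

namespace Wr

variable {N : ℕ}

/-- the homomorphism `x^i y^j z^k ↦ i + j`. -/
def sumHom : Wr N →* Multiplicative (ZMod N) where
  toFun
    | a i j => Multiplicative.ofAdd (i + j)
    | b i j => Multiplicative.ofAdd (i + j)
  map_one' := by
    show Multiplicative.ofAdd ((0 : ZMod N) + 0) = 1
    rw [add_zero]; rfl
  map_mul' := by
    rintro (⟨i, j⟩ | ⟨i, j⟩) (⟨k, l⟩ | ⟨k, l⟩) <;>
      simp only [a_mul_a, a_mul_b, b_mul_a, b_mul_b, ← ofAdd_add] <;> congr 1 <;> ring

@[simp] theorem sumHom_a (i j : ZMod N) : sumHom (a i j) = Multiplicative.ofAdd (i + j) := rfl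
@[simp] theorem sumHom_b (i j : ZMod N) : sumHom (b i j) = Multiplicative.ofAdd (i + j) := rfl

theorem sumHom_surjective : Function.Surjective (sumHom (N := N)) := by
  intro m
  exact ⟨a (Multiplicative.toAdd m) 0, by simp⟩

/-- the subgroup `Ω` generated by the involutions, as the elements with `2 (i + j) = 0`. -/
def omegaSub (N : ℕ) : Subgroup (Wr N) := ((powMonoidHom 2).comp (sumHom (N := N))).ker

theorem mem_omegaSub_iff (g : Wr N) :
    g ∈ omegaSub N ↔ Multiplicative.toAdd (sumHom g) + Multiplicative.toAdd (sumHom g) = 0 := by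
  rw [omegaSub, MonoidHom.mem_ker, MonoidHom.comp_apply, powMonoidHom_apply, pow_two]
  rfl

theorem orderOf_two_mem_omegaSub (t : Wr N) (ht : orderOf t = 2) : t ∈ omegaSub N := by
  rw [omegaSub, MonoidHom.mem_ker, MonoidHom.comp_apply, powMonoidHom_apply, ← map_pow]
  have : t ^ 2 = 1 := by rw [← ht]; exact pow_orderOf_eq_one t
  rw [this, map_one]

theorem orderOf_b (i : ZMod N) : orderOf (b i (-i)) = 2 := by
  rw [orderOf_eq_prime_iff]
  constructor
  · rw [pow_two, b_mul_b]; simp
  · intro h; cases h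

theorem orderOf_a_zero_half {M : ℕ} (hN : N = 2 * M) (hM : 0 < M) : orderOf (a (0 : ZMod N) (M : ZMod N)) = 2 := by
  rw [orderOf_eq_prime_iff]
  constructor
  · rw [pow_two, a_mul_a, zmod_half_add_half hN]; simp
  · intro h
    rw [one_def] at h
    injection h with h1 h2
    exact zmod_half_ne_zero hN hM h2

theorem omegaSub_eq_closure {M : ℕ} (hN : N = 2 * M) (hM : 0 < M) :
    Subgroup.closure {t : Wr N | orderOf t = 2} = omegaSub N := by
  apply le_antisymm
  · rw [Subgroup.closure_le]
    intro t ht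
    exact orderOf_two_mem_omegaSub t ht
  · intro g hg
    rw [mem_omegaSub_iff] at hg
    have hb : ∀ i : ZMod N, b i (-i) ∈ Subgroup.closure {t : Wr N | orderOf t = 2} :=
      fun i => Subgroup.subset_closure (orderOf_b i)
    have ha : a (0 : ZMod N) (M : ZMod N) ∈ Subgroup.closure {t : Wr N | orderOf t = 2} :=
      Subgroup.subset_closure (orderOf_a_zero_half hN hM)
    rcases g with ⟨i, j⟩ | ⟨i, j⟩
    · rcases zmod_two_torsion hN hM (i + j) hg with h0 | h1
      · have hj : j = -i := by rw [eq_neg_iff_add_eq_zero, add_comm]; exact h0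
        have : a i j = b i (-i) * b 0 (-0) := by rw [hj]; simp
        rw [this]
        exact Subgroup.mul_mem _ (hb i) (hb 0)
      · have hj : j = -i + M := by rw [← h1]; ring
        have : a i j = b i (-i) * b 0 (-0) * a 0 (M : ZMod N) := by rw [hj]; simp
        rw [this]
        exact Subgroup.mul_mem _ (Subgroup.mul_mem _ (hb i) (hb 0)) ha
    · rcases zmod_two_torsion hN hM (i + j) hg with h0 | h1
      · have hj : j = -i := by rw [eq_neg_iff_add_eq_zero, add_comm]; exact h0
        rw [hj]; exact hb i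
      · have hj : j = -i + M := by rw [← h1]; ring
        have : b i j = a 0 (M : ZMod N) * b i (-i) := by rw [hj]; simp [add_comm]
        rw [this]
        exact Subgroup.mul_mem _ ha (hb i)

theorem a_one_zero_pow (k : ℕ) : (a (1 : ZMod N) 0) ^ k = a (k : ZMod N) 0 := by
  induction k with
  | zero => simp
  | succ k ih => rw [pow_succ, ih, a_mul_a]; simp

theorem omegaSub_sup_zpowers [NeZero N] : omegaSub N ⊔ Subgroup.zpowers (a (1 : ZMod N) 0) = ⊤ := by
  rw [eq_top_iff]
  intro g _
  set m : ZMod N := Multiplicative.toAdd (sumHom g) with hm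
  have h1 : g = (g * (a (m : ZMod N) 0)⁻¹) * (a (1 : ZMod N) 0) ^ m.val := by
    rw [a_one_zero_pow, ZMod.natCast_zmod_val]; group
  rw [h1]
  refine Subgroup.mul_mem_sup ?_ (Subgroup.npow_mem_zpowers _ _)
  rw [mem_omegaSub_iff, map_mul, map_inv, sumHom_a]
  simp only [add_zero, toAdd_mul, toAdd_inv, toAdd_ofAdd, ← hm]
  ring

theorem card_sq_ker {M : ℕ} (hN : N = 2 * M) (hM : 0 < M) :
    Nat.card (powMonoidHom 2 : Multiplicative (ZMod N) →* Multiplicative (ZMod N)).ker = 2 := by
  rw [Nat.card_eq_two_iff]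
  refine ⟨⟨1, Subgroup.one_mem _⟩, ⟨Multiplicative.ofAdd (M : ZMod N), ?_⟩, ?_, ?_⟩
  · rw [MonoidHom.mem_ker, powMonoidHom_apply, pow_two, ← ofAdd_add, zmod_half_add_half hN]; rfl
  · intro h
    have h' := congrArg Subtype.val h
    exact zmod_half_ne_zero hN hM (Multiplicative.ofAdd.injective h'.symm)
  · rw [Set.eq_univ_iff_forall]
    rintro ⟨m, hm⟩
    rw [MonoidHom.mem_ker, powMonoidHom_apply, pow_two] at hm
    have hm' : Multiplicative.toAdd m + Multiplicative.toAdd m = 0 := hm
    rcases zmod_two_torsion hN hM _ hm' with h0 | h1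
    · left; exact Subtype.ext h0
    · right; exact Subtype.ext h1

theorem card_omegaSub {M : ℕ} (hN : N = 2 * M) (hM : 0 < M) : Nat.card (omegaSub N) = 8 * M := by
  have : NeZero N := ⟨by omega⟩
  have hcomap : omegaSub N = (powMonoidHom 2 : Multiplicative (ZMod N) →* _).ker.comap sumHom := by
    rw [omegaSub, MonoidHom.comap_ker]
  have hidx : (omegaSub N).index = (powMonoidHom 2 : Multiplicative (ZMod N) →* _).ker.index := by
    rw [hcomap, Subgroup.index_comap_of_surjective _ sumHom_surjective]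
  have h1 := Subgroup.card_mul_index (powMonoidHom 2 : Multiplicative (ZMod N) →* _).ker
  rw [card_sq_ker hN hM, Nat.card_eq_fintype_card, Fintype.card_multiplicative, ZMod.card] at h1
  have h2 := Subgroup.card_mul_index (omegaSub N)
  rw [hidx, Wr.card] at h2
  have hI : (powMonoidHom 2 : Multiplicative (ZMod N) →* _).ker.index = M := by omega
  rw [hI, hN] at h2
  have h3 : Nat.card (omegaSub (2 * M)) * M = (8 * M) * M := by rw [h2]; ring
  subst hN
  exact Nat.eq_of_mul_eq_mul_right hM h3

end Wr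

/-! ### Centres of non-commutative subgroups -/

namespace Wr

variable {N : ℕ}

theorem a_comm (i j k l : ZMod N) : a i j * a k l = a k l * a i j := by
  simp [add_comm]

/-- centre of a non-commutative subgroup lies in the centre of the whole group -/
theorem center_le_of_noncomm (hN : 1 < N) (X : Subgroup (Wr N))
    (hX : ∃ g ∈ X, ∃ h ∈ X, g * h ≠ h * g) (u : Wr N) (hu : u ∈ X)
    (hcent : ∀ g ∈ X, g * u = u * g) : u ∈ Subgroup.center (Wr N) := by
  obtain ⟨g, hg, h, hh, hne⟩ := hX
  have hb : ∃ i j, b i j ∈ X := by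
    by_contra hcon
    push Not at hcon
    rcases g with ⟨i, j⟩ | ⟨i, j⟩
    · rcases h with ⟨k, l⟩ | ⟨k, l⟩
      · exact hne (a_comm i j k l)
      · exact hcon k l hh
    · exact hcon i j hg
  obtain ⟨i, j, hw⟩ := hb
  rw [mem_center_iff hN]
  rcases u with ⟨k, l⟩ | ⟨k, l⟩
  · have := hcent _ hw
    simp only [b_mul_a, a_mul_b, b.injEq] at this
    have hkl : l = k := by
      have h1 := this.1
      have : i + l = i + k := by rw [h1, add_comm]
      exact add_left_cancel this
    exact ⟨k, by rw [hkl]⟩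
  · exfalso
    -- every `a p q ∈ X` has `p = q`
    have hA : ∀ p q, a p q ∈ X → p = q := by
      intro p q hpq
      have := hcent _ hpq
      simp only [a_mul_b, b_mul_a, b.injEq] at this
      have h1 := this.1
      have : k + p = k + q := by rw [add_comm k p, h1]
      exact add_left_cancel this
    -- every element of X is `a p p` or `a p p * u`
    have hform : ∀ g ∈ X, (∃ p, g = a p p) ∨ (∃ p, g = a p p * b k l) := by
      intro g hg
      rcases g with ⟨p, q⟩ | ⟨p, q⟩
      · left; exact ⟨p, by rw [hA p q hg]⟩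
      · right
        have hmem : b p q * (b k l)⁻¹ ∈ X := X.mul_mem hg (X.inv_mem hu)
        simp only [inv_b, b_mul_b] at hmem
        have := hA _ _ hmem
        refine ⟨p + -k, ?_⟩
        simp only [a_mul_b]
        congr 1
        · ring
        · rw [this]; ring
    apply hne
    rcases hform g hg with ⟨p, rfl⟩ | ⟨p, rfl⟩ <;> rcases hform h hh with ⟨q, rfl⟩ | ⟨q, rfl⟩ <;>
      simp only [a_mul_a, a_mul_b, b_mul_a, b_mul_b] <;> congr 1 <;> ring

end Wr

/-! ### Conjugacy classes of involutions -/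

theorem isConj_mulEquiv_iff {G H : Type*} [Group G] [Group H] (e : G ≃* H) (g h : G) :
    IsConj (e g) (e h) ↔ IsConj g h := by
  constructor
  · intro hc
    have := e.symm.toMonoidHom.map_isConj hc
    simpa using this
  · intro hc
    exact e.toMonoidHom.map_isConj hc

/-- counting conjugacy classes of elements with a property, given three representatives -/
theorem card_classes_eq_three {G : Type*} [Group G] (P : G → Prop) (s₁ s₂ s₃ : G)
    (h₁ : P s₁) (h₂ : P s₂) (h₃ : P s₃)
    (hclass : ∀ t, P t → IsConj t s₁ ∨ IsConj t s₂ ∨ IsConj t s₃)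
    (h12 : ¬ IsConj s₁ s₂) (h13 : ¬ IsConj s₁ s₃) (h23 : ¬ IsConj s₂ s₃) :
    Nat.card {C : ConjClasses G // ∃ t : G, P t ∧ ConjClasses.mk t = C} = 3 := by
  have hset : {C : ConjClasses G | ∃ t : G, P t ∧ ConjClasses.mk t = C} =
      {ConjClasses.mk s₁, ConjClasses.mk s₂, ConjClasses.mk s₃} := by
    ext C
    simp only [Set.mem_ofPred_eq, Set.mem_insert_iff, Set.mem_singleton_iff]
    constructor
    · rintro ⟨t, ht, rfl⟩
      rcases hclass t ht with h | h | h
      · left; exact ConjClasses.mk_eq_mk_iff_isConj.mpr h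
      · right; left; exact ConjClasses.mk_eq_mk_iff_isConj.mpr h
      · right; right; exact ConjClasses.mk_eq_mk_iff_isConj.mpr h
    · rintro (rfl | rfl | rfl)
      · exact ⟨s₁, h₁, rfl⟩
      · exact ⟨s₂, h₂, rfl⟩
      · exact ⟨s₃, h₃, rfl⟩
  show Nat.card ↥{C : ConjClasses G | ∃ t : G, P t ∧ ConjClasses.mk t = C} = 3
  rw [Nat.card_coe_set_eq, hset, Set.ncard_eq_three]
  refine ⟨_, _, _, ?_, ?_, ?_, rfl⟩
  · intro h; exact h12 (ConjClasses.mk_eq_mk_iff_isConj.mp h)
  · intro h; exact h13 (ConjClasses.mk_eq_mk_iff_isConj.mp h)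
  · intro h; exact h23 (ConjClasses.mk_eq_mk_iff_isConj.mp h)

namespace Wr

variable {N : ℕ}

theorem conj_a_is_a (c : Wr N) (i j : ZMod N) : ∃ k l, c * a i j * c⁻¹ = a k l := by
  rcases c with ⟨p, q⟩ | ⟨p, q⟩
  · exact ⟨p + i + -p, q + j + -q, by simp only [inv_a, a_mul_a]⟩
  · exact ⟨p + j + -p, q + i + -q, by simp only [inv_b, b_mul_a, b_mul_b]⟩

theorem not_isConj_a_b (i j k l : ZMod N) : ¬ IsConj (a i j) (b k l) := by
  rw [isConj_iff]
  rintro ⟨c, hc⟩
  obtain ⟨p, q, h⟩ := conj_a_is_a c i j
  rw [h] at hc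
  cases hc

theorem orderOf_a_half_half {M : ℕ} (hN : N = 2 * M) (hM : 0 < M) :
    orderOf (a (M : ZMod N) (M : ZMod N)) = 2 := by
  rw [orderOf_eq_prime_iff]
  constructor
  · rw [pow_two, a_mul_a, zmod_half_add_half hN]; simp
  · intro h
    rw [one_def] at h
    injection h with h1 h2
    exact zmod_half_ne_zero hN hM h2

theorem involution_classify {M : ℕ} (hN : N = 2 * M) (hM : 0 < M) (t : Wr N) (ht : orderOf t = 2) :
    IsConj t (a 0 (M : ZMod N)) ∨ IsConj t (a (M : ZMod N) (M : ZMod N)) ∨ IsConj t (b 0 0) := by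
  rw [orderOf_eq_prime_iff] at ht
  obtain ⟨hsq, hne⟩ := ht
  rw [pow_two] at hsq
  rcases t with ⟨i, j⟩ | ⟨i, j⟩
  · rw [a_mul_a, one_def] at hsq
    injection hsq with hi hj
    rcases zmod_two_torsion hN hM i hi with rfl | rfl <;>
      rcases zmod_two_torsion hN hM j hj with rfl | rfl
    · exact absurd rfl hne
    · left; exact IsConj.refl _
    · left
      rw [isConj_iff]
      exact ⟨b 0 0, by simp⟩
    · right; left; exact IsConj.refl _
  · right; right
    rw [b_mul_b, one_def] at hsq
    injection hsq with hij _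
    have hj : j = -i := by rw [eq_neg_iff_add_eq_zero, add_comm]; exact hij
    rw [isConj_iff]
    refine ⟨a (-i) 0, ?_⟩
    rw [hj]
    simp

theorem not_isConj_half (hN1 : 1 < N) {M : ℕ} (hN : N = 2 * M) (hM : 0 < M) :
    ¬ IsConj (a 0 (M : ZMod N)) (a (M : ZMod N) (M : ZMod N)) := by
  rw [isConj_comm, isConj_iff]
  rintro ⟨c, hc⟩
  have hcen : a (M : ZMod N) (M : ZMod N) ∈ Subgroup.center (Wr N) :=
    (mem_center_iff hN1 _).mpr ⟨_, rfl⟩
  rw [Subgroup.mem_center_iff] at hcen
  rw [hcen c, mul_inv_cancel_right] at hc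
  injection hc with h1 _
  exact zmod_half_ne_zero hN hM h1

end Wr

/-! ### The base subgroup and its uniqueness -/

namespace Wr

variable {N : ℕ}

/-- the embedding of the base group `Z_N × Z_N`. -/
def aHom : Multiplicative (ZMod N × ZMod N) →* Wr N where
  toFun p := a (Multiplicative.toAdd p).1 (Multiplicative.toAdd p).2
  map_one' := rfl
  map_mul' _ _ := rfl

theorem aHom_injective : Function.Injective (aHom (N := N)) := by
  intro p q h
  have h' : a (Multiplicative.toAdd p).1 (Multiplicative.toAdd p).2 =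
      a (Multiplicative.toAdd q).1 (Multiplicative.toAdd q).2 := h
  injection h' with h1 h2
  exact Multiplicative.toAdd.injective (Prod.ext h1 h2)

/-- the base subgroup `A = ⟨x, y⟩`. -/
def aSub (N : ℕ) : Subgroup (Wr N) := (aHom (N := N)).range

theorem mem_aSub_iff (g : Wr N) : g ∈ aSub N ↔ ∃ i j, g = a i j := by
  constructor
  · rintro ⟨p, rfl⟩; exact ⟨_, _, rfl⟩
  · rintro ⟨i, j, rfl⟩; exact ⟨Multiplicative.ofAdd (i, j), rfl⟩

theorem a_mem_aSub (i j : ZMod N) : a i j ∈ aSub N := (mem_aSub_iff _).mpr ⟨i, j, rfl⟩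

theorem b_not_mem_aSub (i j : ZMod N) : b i j ∉ aSub N := by
  rw [mem_aSub_iff]; rintro ⟨k, l, h⟩; cases h

theorem aSub_comm (g h : Wr N) (hg : g ∈ aSub N) (hh : h ∈ aSub N) : g * h = h * g := by
  obtain ⟨i, j, rfl⟩ := (mem_aSub_iff g).mp hg
  obtain ⟨k, l, rfl⟩ := (mem_aSub_iff h).mp hh
  exact a_comm i j k l

/-- `A ≃ Z_N × Z_N`. -/
noncomputable def aSubEquiv (N : ℕ) : aSub N ≃* Multiplicative (ZMod N × ZMod N) :=
  (MonoidHom.ofInjective aHom_injective).symm

theorem card_aSub [NeZero N] : Nat.card (aSub N) = N ^ 2 := by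
  rw [Nat.card_congr (aSubEquiv N).toEquiv, Nat.card_eq_fintype_card, Fintype.card_multiplicative,
    Fintype.card_prod, ZMod.card, pow_two]

/-- auxiliary map used to bound the size of an abelian subgroup not inside `A`. -/
def fstSum : Wr N → ZMod N ⊕ ZMod N
  | a i _ => Sum.inl i
  | b i _ => Sum.inr i

theorem abelian_le_aSub [NeZero N] (hN : 2 < N) (U : Subgroup (Wr N))
    (hU : ∀ g ∈ U, ∀ h ∈ U, g * h = h * g) (hcard : Nat.card U = N ^ 2) : U ≤ aSub N := by
  by_contra hcon
  obtain ⟨w, hwU, hwA⟩ := SetLike.not_le_iff_exists.mp hcon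
  rcases w with ⟨p, q⟩ | ⟨p, q⟩
  · exact hwA (a_mem_aSub p q)
  · -- every `a i j ∈ U` has `i = j`
    have hA : ∀ i j, a i j ∈ U → i = j := by
      intro i j hij
      have := hU _ hij _ hwU
      simp only [a_mul_b, b_mul_a, b.injEq] at this
      have h1 := this.1
      have : p + i = p + j := by rw [add_comm p i, h1]
      exact add_left_cancel this
    have hB : ∀ k l, b k l ∈ U → l = k - p + q := by
      intro k l hkl
      have hmem : b k l * (b p q)⁻¹ ∈ U := U.mul_mem hkl (U.inv_mem hwU)
      simp only [inv_b, b_mul_b] at hmem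
      have := hA _ _ hmem
      calc l = (l + -q) + q := by ring
        _ = (k + -p) + q := by rw [this]
        _ = k - p + q := by ring
    have hinj : Function.Injective (fun u : U => fstSum (u : Wr N)) := by
      rintro ⟨u, hu⟩ ⟨v, hv⟩ h
      apply Subtype.ext
      show u = v
      rcases u with ⟨i, j⟩ | ⟨i, j⟩ <;> rcases v with ⟨k, l⟩ | ⟨k, l⟩ <;>
        simp only [fstSum, Sum.inl.injEq, Sum.inr.injEq, reduceCtorEq] at h
      · subst h; rw [← hA _ _ hu, ← hA _ _ hv]
      · subst h; rw [hB _ _ hu, hB _ _ hv]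
    have hle := Nat.card_le_card_of_injective _ hinj
    rw [hcard, Nat.card_sum, Nat.card_zmod] at hle
    nlinarith

theorem abelian_eq_aSub [NeZero N] (hN : 2 < N) (U : Subgroup (Wr N))
    (hU : ∀ g ∈ U, ∀ h ∈ U, g * h = h * g) (hcard : Nat.card U = N ^ 2) : U = aSub N := by
  have hle := abelian_le_aSub hN U hU hcard
  exact Subgroup.eq_of_le_of_card_ge hle (by rw [hcard, card_aSub])

end Wr

/-! ### Four-groups generated by two commuting involutions -/

/-- the four-element subgroup generated by two commuting elements of order dividing two -/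
def fourSub {G : Type*} [Group G] (c w : G) (hc : c * c = 1) (hw : w * w = 1) (hcw : w * c = c * w) :
    Subgroup G where
  carrier := {g | g = 1 ∨ g = c ∨ g = w ∨ g = c * w}
  one_mem' := Or.inl rfl
  mul_mem' := by
    have hc' : ∀ x : G, c * (c * x) = x := fun x => by rw [← mul_assoc, hc, one_mul]
    have hcw' : ∀ x : G, w * (c * x) = c * (w * x) := fun x => by
      rw [← mul_assoc, hcw, mul_assoc]
    rintro _ _ (rfl | rfl | rfl | rfl) (rfl | rfl | rfl | rfl) <;>
      simp only [Set.mem_ofPred_eq, one_mul, mul_one, mul_assoc, hc, hw, hcw, hc', hcw',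
        true_or, or_true]
  inv_mem' := by
    have hci : c⁻¹ = c := inv_eq_of_mul_eq_one_right hc
    have hwi : w⁻¹ = w := inv_eq_of_mul_eq_one_right hw
    rintro _ (rfl | rfl | rfl | rfl)
    · left; simp
    · right; left; exact hci
    · right; right; left; exact hwi
    · right; right; right; rw [mul_inv_rev, hci, hwi, hcw]

theorem mem_fourSub_iff {G : Type*} [Group G] (c w : G) (hc : c * c = 1) (hw : w * w = 1)
    (hcw : w * c = c * w) (g : G) :
    g ∈ fourSub c w hc hw hcw ↔ g = 1 ∨ g = c ∨ g = w ∨ g = c * w := Iff.rfl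

theorem fourSub_eq_closure {G : Type*} [Group G] (c w : G) (hc : c * c = 1) (hw : w * w = 1)
    (hcw : w * c = c * w) : fourSub c w hc hw hcw = Subgroup.closure {c, w} := by
  apply le_antisymm
  · rintro g (rfl | rfl | rfl | rfl)
    · exact Subgroup.one_mem _
    · exact Subgroup.subset_closure (by simp)
    · exact Subgroup.subset_closure (by simp)
    · exact Subgroup.mul_mem _ (Subgroup.subset_closure (by simp)) (Subgroup.subset_closure (by simp))
  · rw [Subgroup.closure_le]
    rintro g (rfl | rfl)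
    · right; left; rfl
    · right; right; left; rfl

theorem card_fourSub {G : Type*} [Group G] (c w : G) (hc : c * c = 1) (hw : w * w = 1)
    (hcw : w * c = c * w) (hc1 : c ≠ 1) (hw1 : w ≠ 1) (hne : c ≠ w) :
    Nat.card (fourSub c w hc hw hcw) = 4 := by
  classical
  have hset : ((fourSub c w hc hw hcw : Subgroup G) : Set G) = {1, c, w, c * w} := by
    ext g; simp [fourSub]
  have hcw1 : c * w ≠ 1 := by
    intro h
    have : c = w := by
      have h2 := congrArg (· * w) h
      simp only [mul_assoc, hw, mul_one, one_mul] at h2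
      exact h2
    exact hne this
  have hcwc : c * w ≠ c := by
    intro h; exact hw1 (mul_eq_left.mp h)
  have hcww : c * w ≠ w := by
    intro h; exact hc1 (mul_eq_right.mp h)
  show Nat.card ((fourSub c w hc hw hcw : Subgroup G) : Set G) = 4
  rw [hset, Nat.card_coe_set_eq, Set.ncard_eq_toFinset_card']
  have : ({1, c, w, c * w} : Set G).toFinset = {1, c, w, c * w} := by ext; simp
  rw [this]
  rw [Finset.card_insert_of_notMem, Finset.card_insert_of_notMem, Finset.card_insert_of_notMem,
    Finset.card_singleton]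
  · simp [Ne.symm hcww]
  · simp [hne, Ne.symm hcwc]
  · simp [Ne.symm hc1, Ne.symm hw1, Ne.symm hcw1]

theorem isKleinFour_of {G : Type*} [Group G] (H : Subgroup G) (hcard : Nat.card H = 4)
    (hsq : ∀ g ∈ H, g * g = 1) : IsKleinFour H := by
  refine ⟨hcard, ?_⟩
  have : Finite H := Nat.finite_of_card_ne_zero (by omega)
  have : Nontrivial H := by
    rw [← Finite.one_lt_card_iff_nontrivial]; omega
  rw [Monoid.exponent_eq_prime_iff Nat.prime_two]
  intro g hg
  rw [orderOf_eq_prime_iff]
  refine ⟨?_, hg⟩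
  rw [pow_two]
  exact Subtype.ext (hsq g.1 g.2)

theorem isKleinFour_fourSub {G : Type*} [Group G] (c w : G) (hc : c * c = 1) (hw : w * w = 1)
    (hcw : w * c = c * w) (hc1 : c ≠ 1) (hw1 : w ≠ 1) (hne : c ≠ w) :
    IsKleinFour (fourSub c w hc hw hcw) := by
  apply isKleinFour_of _ (card_fourSub c w hc hw hcw hc1 hw1 hne)
  rintro g (rfl | rfl | rfl | rfl)
  · simp
  · exact hc
  · exact hw
  · rw [mul_assoc, ← mul_assoc w, hcw, mul_assoc, hw, mul_one, hc]

/-! ### Klein four-subgroups of the model -/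

namespace Wr

variable {N M : ℕ}

theorem a_sq_eq_one_iff (hN : N = 2 * M) (hM : 0 < M) (i j : ZMod N) :
    a i j * a i j = 1 ↔ (i = 0 ∨ i = (M : ZMod N)) ∧ (j = 0 ∨ j = (M : ZMod N)) := by
  rw [a_mul_a, one_def]
  constructor
  · intro h
    injection h with h1 h2
    exact ⟨zmod_two_torsion hN hM i h1, zmod_two_torsion hN hM j h2⟩
  · rintro ⟨rfl | rfl, rfl | rfl⟩ <;> simp [zmod_half_add_half hN]

theorem b_sq_eq_one_iff (i j : ZMod N) : b i j * b i j = 1 ↔ j = -i := by
  rw [b_mul_b, one_def]
  constructor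
  · intro h
    injection h with h1 _
    rw [eq_neg_iff_add_eq_zero, add_comm]; exact h1
  · rintro rfl; simp

/-- the normal four-subgroup `Ω₁(A)`. -/
def kleinSub (hN : N = 2 * M) : Subgroup (Wr N) :=
  fourSub (a 0 (M : ZMod N)) (a (M : ZMod N) 0)
    (by rw [a_mul_a, zmod_half_add_half hN]; simp) (by rw [a_mul_a, zmod_half_add_half hN]; simp)
    (a_comm _ _ _ _)

theorem mem_kleinSub_iff (hN : N = 2 * M) (g : Wr N) :
    g ∈ kleinSub hN ↔ g = 1 ∨ g = a 0 (M : ZMod N) ∨ g = a (M : ZMod N) 0 ∨
      g = a (M : ZMod N) (M : ZMod N) := by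
  rw [kleinSub, mem_fourSub_iff, a_mul_a, zero_add, add_zero]

theorem a_mem_kleinSub (hN : N = 2 * M) (hM : 0 < M) (i j : ZMod N) (h : a i j * a i j = 1) :
    a i j ∈ kleinSub hN := by
  rw [mem_kleinSub_iff]
  rcases (a_sq_eq_one_iff hN hM i j).mp h with ⟨rfl | rfl, rfl | rfl⟩
  · left; rfl
  · right; left; rfl
  · right; right; left; rfl
  · right; right; right; rfl

theorem isKleinFour_kleinSub (hN : N = 2 * M) (hM : 0 < M) : IsKleinFour (kleinSub hN) := by
  apply isKleinFour_fourSub
  · intro h; rw [one_def] at h; injection h with _ h2; exact zmod_half_ne_zero hN hM h2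
  · intro h; rw [one_def] at h; injection h with h1 _; exact zmod_half_ne_zero hN hM h1
  · intro h; injection h with h1 _; exact zmod_half_ne_zero hN hM h1.symm

theorem kleinSub_normal (hN : N = 2 * M) : (kleinSub hN).Normal := by
  constructor
  intro n hn g
  rw [mem_kleinSub_iff] at hn ⊢
  rcases g with ⟨p, q⟩ | ⟨p, q⟩
  · rcases hn with rfl | rfl | rfl | rfl
    · left; simp
    · right; left; simp
    · right; right; left; simp
    · right; right; right; simp
  · rcases hn with rfl | rfl | rfl | rfl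
    · left; simp
    · right; right; left; simp
    · right; left; simp
    · right; right; right; simp

/-- the other four-subgroups `⟨c, x^i y^{-i} z⟩`. -/
def kSub (hN : N = 2 * M) (i : ZMod N) : Subgroup (Wr N) :=
  fourSub (a (M : ZMod N) (M : ZMod N)) (b i (-i))
    (by rw [a_mul_a, zmod_half_add_half hN]; simp) (by rw [b_mul_b]; simp)
    (by simp [add_comm])

theorem isKleinFour_kSub (hN : N = 2 * M) (hM : 0 < M) (i : ZMod N) : IsKleinFour (kSub hN i) := by
  apply isKleinFour_fourSub
  · intro h; rw [one_def] at h; injection h with _ h2; exact zmod_half_ne_zero hN hM h2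
  · intro h; cases h
  · intro h; cases h

theorem kSub_ne_kleinSub (hN : N = 2 * M) (i : ZMod N) : kSub hN i ≠ kleinSub hN := by
  intro h
  have h1 : b i (-i) ∈ kSub hN i := by
    rw [kSub, mem_fourSub_iff]; right; right; left; rfl
  rw [h, mem_kleinSub_iff] at h1
  rcases h1 with h | h | h | h <;> cases h

theorem kSub_map_conj (hN : N = 2 * M) (i k : ZMod N) :
    (kSub hN i).map (MulAut.conj (a k 0)).toMonoidHom = kSub hN (i + k) := by
  rw [kSub, kSub, fourSub_eq_closure, fourSub_eq_closure, MonoidHom.map_closure, Set.image_pair]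
  congr 2
  · simp [MulAut.conj_apply]
  · simp only [MulEquiv.coe_toMonoidHom, MulAut.conj_apply, inv_a, a_mul_b, b_mul_a, neg_zero, add_zero]
    have h1 : k + i = i + k := add_comm k i
    have h2 : (0 : ZMod N) + -i + -k = -(i + k) := by ring
    rw [h1, h2]

theorem klein_classify (hN1 : 1 < N) (hN : N = 2 * M) (hM : 0 < M) (T₁ : Subgroup (Wr N))
    (hK : IsKleinFour T₁) (hne : T₁ ≠ kleinSub hN) : ∃ i, T₁ = kSub hN i := by
  have : Fact (1 < N) := ⟨hN1⟩
  have hsq : ∀ g ∈ T₁, g * g = 1 := by
    intro g hg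
    have := IsKleinFour.mul_self (⟨g, hg⟩ : T₁)
    exact congrArg Subtype.val this
  have hcomm : ∀ g ∈ T₁, ∀ h ∈ T₁, g * h = h * g := by
    intro g hg h hh
    have := (IsKleinFour.isMulCommutative (G := T₁)).is_comm.comm ⟨g, hg⟩ ⟨h, hh⟩
    exact congrArg Subtype.val this
  have hcardT : Nat.card T₁ = 4 := hK.card_four
  have : Finite T₁ := Nat.finite_of_card_ne_zero (by omega)
  -- Step 1: some `b i j ∈ T₁`
  have hb : ∃ i j, b i j ∈ T₁ := by
    by_contra hcon
    push Not at hcon
    apply hne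
    have hle : T₁ ≤ kleinSub hN := by
      intro g hg
      rcases g with ⟨k, l⟩ | ⟨k, l⟩
      · exact a_mem_kleinSub hN hM k l (hsq _ hg)
      · exact absurd hg (hcon k l)
    have : Finite (kleinSub hN) := by
      have := (isKleinFour_kleinSub hN hM).card_four
      exact Nat.finite_of_card_ne_zero (by omega)
    exact Subgroup.eq_of_le_of_card_ge hle (by
      rw [hcardT, (isKleinFour_kleinSub hN hM).card_four])
  obtain ⟨i, j, hw⟩ := hb
  have hj : j = -i := (b_sq_eq_one_iff i j).mp (hsq _ hw)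
  subst hj
  refine ⟨i, ?_⟩
  -- every `a k l ∈ T₁` is `1` or `c`
  have hA : ∀ k l, a k l ∈ T₁ → a k l = 1 ∨ a k l = a (M : ZMod N) (M : ZMod N) := by
    intro k l hkl
    have h1 := hcomm _ hkl _ hw
    simp only [a_mul_b, b_mul_a, b.injEq] at h1
    have hkl' : k = l := by
      have h2 := h1.1
      have : i + k = i + l := by rw [add_comm i k, h2]
      exact add_left_cancel this
    subst hkl'
    rcases (a_sq_eq_one_iff hN hM k k).mp (hsq _ hkl) with ⟨rfl | rfl, _⟩
    · left; rfl
    · right; rfl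
  -- Step 3: an element other than `1` and `w`
  have hu : ∃ u ∈ T₁, u ≠ 1 ∧ u ≠ b i (-i) := by
    by_contra hcon
    push Not at hcon
    have hsub : (T₁ : Set (Wr N)) ⊆ {1, b i (-i)} := by
      intro u hu
      by_cases h1 : u = 1
      · left; exact h1
      · right; exact hcon u hu h1
    have h2 : Nat.card T₁ ≤ 2 := by
      have : Nat.card (T₁ : Set (Wr N)) ≤ Nat.card ({1, b i (-i)} : Set (Wr N)) :=
        Nat.card_mono (Set.toFinite _) hsub
      refine this.trans ?_
      rw [Nat.card_coe_set_eq]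
      exact (Set.ncard_insert_le _ _).trans (by simp)
    omega
  obtain ⟨u, huT, hu1, huw⟩ := hu
  -- Step 4: `c ∈ T₁`
  have hc : a (M : ZMod N) (M : ZMod N) ∈ T₁ := by
    rcases u with ⟨k, l⟩ | ⟨k, l⟩
    · rcases hA k l huT with h | h
      · exact absurd h hu1
      · rw [← h]; exact huT
    · have hmem : b k l * b i (-i) ∈ T₁ := T₁.mul_mem huT hw
      rw [b_mul_b] at hmem
      rcases hA _ _ hmem with h | h
      · exfalso
        apply huw
        rw [one_def] at h
        injection h with h1 h2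
        have hk : k = i := by
          have : k + -i + i = 0 + i := by rw [h1]
          simpa using this
        have hl : l = -i := by
          have : l + i + -i = 0 + -i := by rw [h2]
          simpa using this
        rw [hk, hl]
      · rw [← h]; exact hmem
  -- Step 5
  have hle : kSub hN i ≤ T₁ := by
    rintro g (rfl | rfl | rfl | rfl)
    · exact T₁.one_mem
    · exact hc
    · exact hw
    · exact T₁.mul_mem hc hw
  exact (Subgroup.eq_of_le_of_card_ge hle (by
    rw [hcardT, (isKleinFour_kSub hN hM i).card_four])).symm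

end Wr

/-! ### The generalized quaternion subgroup -/

/-! ### facts about `QuaternionGroup` -/

section quaternion

variable {n : ℕ}

theorem quat_two_ne_zero (hn : 2 ≤ n) : (1 : ZMod (2 * n)) ≠ -1 := by
  intro h
  have h2 : ((2 : ℕ) : ZMod (2 * n)) = 0 := by
    have : (1 : ZMod (2 * n)) + 1 = 0 := by nth_rewrite 2 [h]; ring
    rw [← this]; norm_num
  rw [ZMod.natCast_eq_zero_iff] at h2
  have := Nat.le_of_dvd (by norm_num) h2
  omega

theorem quat_noncomm (hn : 2 ≤ n) :
    (QuaternionGroup.xa 0 : QuaternionGroup n) * QuaternionGroup.a 1 ≠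
      QuaternionGroup.a 1 * QuaternionGroup.xa 0 := by
  rw [QuaternionGroup.xa_mul_a, QuaternionGroup.a_mul_xa]
  intro h
  injection h with h1
  apply quat_two_ne_zero hn
  simpa using h1

theorem quat_half_ne_one (hn : 1 ≤ n) : (QuaternionGroup.a (n : ZMod (2 * n)) : QuaternionGroup n) ≠ 1 := by
  intro h
  rw [QuaternionGroup.one_def] at h
  injection h with h1
  exact zmod_half_ne_zero rfl (by omega) h1

theorem quat_half_sq : (QuaternionGroup.a (n : ZMod (2 * n)) : QuaternionGroup n) *
    QuaternionGroup.a (n : ZMod (2 * n)) = 1 := by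
  rw [QuaternionGroup.a_mul_a, zmod_half_add_half rfl]; rfl

theorem quat_xa_sq (i : ZMod (2 * n)) : (QuaternionGroup.xa i : QuaternionGroup n) *
    QuaternionGroup.xa i = QuaternionGroup.a (n : ZMod (2 * n)) := by
  rw [QuaternionGroup.xa_mul_xa]; congr 1; ring

theorem quat_involution (hn : 1 ≤ n) (u : QuaternionGroup n) (hu : u * u = 1) :
    u = 1 ∨ u = QuaternionGroup.a (n : ZMod (2 * n)) := by
  rcases u with i | i
  · rw [QuaternionGroup.a_mul_a, QuaternionGroup.one_def] at hu
    injection hu with h1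
    rcases zmod_two_torsion rfl (by omega) i h1 with rfl | rfl
    · left; rfl
    · right; rfl
  · rw [quat_xa_sq] at hu
    exact absurd hu (quat_half_ne_one hn)

theorem quat_center (hn : 2 ≤ n) (u : QuaternionGroup n) (hu : ∀ v, u * v = v * u) :
    u = 1 ∨ u = QuaternionGroup.a (n : ZMod (2 * n)) := by
  rcases u with i | i
  · have h := hu (QuaternionGroup.xa 0)
    rw [QuaternionGroup.a_mul_xa, QuaternionGroup.xa_mul_a] at h
    injection h with h1
    have h2 : i + i = 0 := by
      have : (0 : ZMod (2 * n)) - i + i = 0 + i + i := by rw [h1]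
      simp only [zero_sub, neg_add_cancel, zero_add] at this
      exact this.symm
    rcases zmod_two_torsion rfl (by omega) i h2 with rfl | rfl
    · left; rfl
    · right; rfl
  · exfalso
    have h := hu (QuaternionGroup.a 1)
    rw [QuaternionGroup.xa_mul_a, QuaternionGroup.a_mul_xa] at h
    injection h with h1
    apply quat_two_ne_zero hn
    have : i + 1 - i = i - 1 - i := by rw [h1]
    simpa using this

end quaternion

namespace Wr

variable {M : ℕ}

/-- the homomorphism `x^i y^j z^k ↦ i + j + kM`. -/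
def lamHom (M : ℕ) : Wr (2 * M) →* Multiplicative (ZMod (2 * M)) where
  toFun
    | a i j => Multiplicative.ofAdd (i + j)
    | b i j => Multiplicative.ofAdd (i + j + (M : ZMod (2 * M)))
  map_one' := by
    show Multiplicative.ofAdd ((0 : ZMod (2 * M)) + 0) = 1
    rw [add_zero]; rfl
  map_mul' := by
    have hMM : (M : ZMod (2 * M)) + M = 0 := zmod_half_add_half rfl
    rintro (⟨i, j⟩ | ⟨i, j⟩) (⟨k, l⟩ | ⟨k, l⟩) <;>
      simp only [a_mul_a, a_mul_b, b_mul_a, b_mul_b, ← ofAdd_add] <;> congr 1
    · ring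
    · ring
    · ring
    · calc i + l + (j + k) = i + l + (j + k) + 0 := by ring
        _ = i + l + (j + k) + ((M : ZMod (2 * M)) + M) := by rw [hMM]
        _ = _ := by ring

/-- the generalized quaternion subgroup. -/
def quatSub (M : ℕ) : Subgroup (Wr (2 * M)) := (lamHom M).ker

instance quatSub_normal : (quatSub M).Normal := by unfold quatSub; infer_instance

theorem a_mem_quatSub_iff (i j : ZMod (2 * M)) : a i j ∈ quatSub M ↔ i + j = 0 := by
  rw [quatSub, MonoidHom.mem_ker]
  show Multiplicative.ofAdd (i + j) = 1 ↔ _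
  exact Iff.rfl

theorem b_mem_quatSub_iff (i j : ZMod (2 * M)) : b i j ∈ quatSub M ↔ i + j = (M : ZMod (2 * M)) := by
  rw [quatSub, MonoidHom.mem_ker]
  show i + j + (M : ZMod (2 * M)) = 0 ↔ _
  have hMM : (M : ZMod (2 * M)) + M = 0 := zmod_half_add_half rfl
  constructor
  · intro h
    calc i + j = i + j + ((M : ZMod (2 * M)) + M) := by rw [hMM, add_zero]
      _ = (i + j + M) + M := by ring
      _ = M := by rw [h, zero_add]
  · intro h
    rw [h, hMM]

/-- the embedding of the quaternion group -/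
def quatHom (M : ℕ) : QuaternionGroup M →* Wr (2 * M) where
  toFun
    | QuaternionGroup.a i => a i (-i)
    | QuaternionGroup.xa i => b ((M : ZMod (2 * M)) - i) i
  map_one' := by
    show a (0 : ZMod (2 * M)) (-0) = 1
    rw [neg_zero]; rfl
  map_mul' := by
    have hMM : (M : ZMod (2 * M)) + M = 0 := zmod_half_add_half rfl
    have hneg : -(M : ZMod (2 * M)) = M := by
      rw [neg_eq_iff_add_eq_zero]; exact hMM
    rintro (i | i) (j | j)
    · simp only [QuaternionGroup.a_mul_a, a_mul_a]; congr 1; ring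
    · simp only [QuaternionGroup.a_mul_xa, a_mul_b]; congr 1 <;> ring
    · simp only [QuaternionGroup.xa_mul_a, b_mul_a]; congr 1; ring
    · simp only [QuaternionGroup.xa_mul_xa, b_mul_b]
      congr 1
      · ring
      · calc -((M : ZMod (2 * M)) + j - i) = -(M : ZMod (2 * M)) - j + i := by ring
          _ = M - j + i := by rw [hneg]
          _ = _ := by ring

theorem quatHom_injective : Function.Injective (quatHom M) := by
  rintro (i | i) (j | j) h
  · have h' : a i (-i) = a j (-j) := h
    injection h' with h1 _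
    rw [h1]
  · have h' : a i (-i) = b ((M : ZMod (2 * M)) - j) j := h
    cases h'
  · have h' : b ((M : ZMod (2 * M)) - i) i = a j (-j) := h
    cases h'
  · have h' : b ((M : ZMod (2 * M)) - i) i = b ((M : ZMod (2 * M)) - j) j := h
    injection h' with _ h2
    rw [h2]

theorem quatHom_range : (quatHom M).range = quatSub M := by
  ext g
  constructor
  · rintro ⟨(i | i), rfl⟩
    · show a i (-i) ∈ quatSub M
      rw [a_mem_quatSub_iff]; ring
    · show b ((M : ZMod (2 * M)) - i) i ∈ quatSub M
      rw [b_mem_quatSub_iff]; ring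
  · intro hg
    rcases g with ⟨i, j⟩ | ⟨i, j⟩
    · rw [a_mem_quatSub_iff] at hg
      refine ⟨QuaternionGroup.a i, ?_⟩
      show a i (-i) = a i j
      rw [eq_neg_of_add_eq_zero_right hg]
    · rw [b_mem_quatSub_iff] at hg
      refine ⟨QuaternionGroup.xa j, ?_⟩
      show b ((M : ZMod (2 * M)) - j) j = b i j
      rw [← hg]; congr 1; ring

/-- `Q ≃ QuaternionGroup M`. -/
noncomputable def quatSubEquiv (M : ℕ) : quatSub M ≃* QuaternionGroup M :=
  ((MonoidHom.ofInjective quatHom_injective).trans (MulEquiv.subgroupCongr quatHom_range)).symm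

theorem card_quatSub [NeZero M] : Nat.card (quatSub M) = 4 * M := by
  rw [Nat.card_congr (quatSubEquiv M).toEquiv, Nat.card_eq_fintype_card, QuaternionGroup.card]

theorem sq_is_central_a (g : Wr (2 * M)) : ∃ s t, g * g = a s t := by
  rcases g with ⟨i, j⟩ | ⟨i, j⟩
  · exact ⟨_, _, a_mul_a i j i j⟩
  · exact ⟨_, _, b_mul_b i j i j⟩

/-- a subgroup with the abstract properties of a generalized quaternion group lies in `quatSub`. -/
theorem le_quatSub (hM : 1 ≤ M) (Y : Subgroup (Wr (2 * M)))
    (hnc : ∃ g ∈ Y, ∃ h ∈ Y, g * h ≠ h * g)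
    (t r : Wr (2 * M)) (hr : r ∈ Y) (ht1 : t ≠ 1) (htt : t * t = 1) (htr : t = r * r)
    (huniq : ∀ u ∈ Y, u * u = 1 → u = 1 ∨ u = t)
    (hcen : ∀ u ∈ Y, (∀ v ∈ Y, u * v = v * u) → u = 1 ∨ u = t) : Y ≤ quatSub M := by
  have hN1 : 1 < 2 * M := by omega
  have hM0 : 0 < M := by omega
  have hMM : (M : ZMod (2 * M)) + M = 0 := zmod_half_add_half rfl
  -- Step 0: `t` is an `a`
  obtain ⟨s, s', hts⟩ := sq_is_central_a r
  rw [← htr] at hts
  -- Step 1: no involution `b k l` in `Y`
  have h1 : ∀ k l, b k l ∈ Y → k + l ≠ 0 := by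
    intro k l hkl h0
    have hsq : b k l * b k l = 1 := by
      rw [b_sq_eq_one_iff]; exact eq_neg_of_add_eq_zero_right h0
    rcases huniq _ hkl hsq with h | h
    · cases h
    · rw [hts] at h; cases h
  -- Step 2: `b k l ∈ Y → k + l = M`
  have h2 : ∀ k l, b k l ∈ Y → k + l = (M : ZMod (2 * M)) := by
    intro k l hkl
    have hmem : a (k + l) (k + l) ∈ Y := by
      have := Y.mul_mem hkl hkl
      rw [b_mul_b] at this
      rwa [add_comm l k] at this
    have hc : a (k + l) (k + l) ∈ Subgroup.center (Wr (2 * M)) :=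
      (mem_center_iff hN1 _).mpr ⟨_, rfl⟩
    rw [Subgroup.mem_center_iff] at hc
    rcases hcen _ hmem (fun v _ => (hc v).symm) with h | h
    · exfalso
      rw [one_def] at h
      injection h with h0 _
      exact h1 k l hkl h0
    · have h3 : a (k + l) (k + l) * a (k + l) (k + l) = 1 := by rw [h]; exact htt
      rcases (a_sq_eq_one_iff rfl hM0 _ _).mp h3 with ⟨h0 | hM', _⟩
      · exact absurd h0 (h1 k l hkl)
      · exact hM'
  -- Step 3: some `b k l ∈ Y`
  obtain ⟨g, hg, h, hh, hne⟩ := hnc
  have hb : ∃ k l, b k l ∈ Y := by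
    by_contra hcon
    push Not at hcon
    rcases g with ⟨i, j⟩ | ⟨i, j⟩
    · rcases h with ⟨k, l⟩ | ⟨k, l⟩
      · exact hne (a_comm i j k l)
      · exact hcon k l hh
    · exact hcon i j hg
  obtain ⟨k, l, hkl⟩ := hb
  have hklM := h2 k l hkl
  -- conclude
  intro u hu
  rcases u with ⟨i, j⟩ | ⟨i, j⟩
  · rw [a_mem_quatSub_iff]
    have hmem : b (i + k) (j + l) ∈ Y := by
      have := Y.mul_mem hu hkl
      rwa [a_mul_b] at this
    have h3 := h2 _ _ hmem
    have h4 : i + j + (k + l) = (M : ZMod (2 * M)) := by rw [← h3]; ring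
    rw [hklM] at h4
    exact add_eq_right.mp h4
  · rw [b_mem_quatSub_iff]
    exact h2 i j hu

theorem eq_quatSub_of_mulEquiv (hM : 2 ≤ M) (Y : Subgroup (Wr (2 * M)))
    (φ : Y ≃* QuaternionGroup M) : Y = quatSub M := by
  have : NeZero M := ⟨by omega⟩
  have hle : Y ≤ quatSub M := by
    set t : Y := φ.symm (QuaternionGroup.a (M : ZMod (2 * M))) with ht
    set r : Y := φ.symm (QuaternionGroup.xa 0) with hr
    apply le_quatSub (by omega) Y ?_ (t : Wr (2 * M)) (r : Wr (2 * M)) r.2
    · intro h
      have : t = 1 := Subtype.ext h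
      rw [ht, MulEquiv.map_eq_one_iff] at this
      exact quat_half_ne_one (by omega) this
    · have : t * t = 1 := by
        rw [ht, ← map_mul, quat_half_sq, map_one]
      exact congrArg Subtype.val this
    · have : t = r * r := by
        rw [ht, hr, ← map_mul, quat_xa_sq]
      exact congrArg Subtype.val this
    · intro u hu huu
      have h1 : φ ⟨u, hu⟩ * φ ⟨u, hu⟩ = 1 := by
        rw [← map_mul]
        have : (⟨u, hu⟩ : Y) * ⟨u, hu⟩ = 1 := Subtype.ext huu
        rw [this, map_one]
      rcases quat_involution (by omega) _ h1 with h | h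
      · left
        have : (⟨u, hu⟩ : Y) = 1 := by rwa [MulEquiv.map_eq_one_iff] at h
        exact congrArg Subtype.val this
      · right
        have : (⟨u, hu⟩ : Y) = t := by rw [ht, ← h]; simp
        exact congrArg Subtype.val this
    · intro u hu hcomm
      have h1 : ∀ v, φ ⟨u, hu⟩ * v = v * φ ⟨u, hu⟩ := by
        intro v
        have h2 := hcomm (φ.symm v : Y) (φ.symm v).2
        have h3 : (⟨u, hu⟩ : Y) * φ.symm v = φ.symm v * ⟨u, hu⟩ := Subtype.ext h2
        have := congrArg φ h3
        simpa using this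
      rcases quat_center hM _ h1 with h | h
      · left
        have : (⟨u, hu⟩ : Y) = 1 := by rwa [MulEquiv.map_eq_one_iff] at h
        exact congrArg Subtype.val this
      · right
        have : (⟨u, hu⟩ : Y) = t := by rw [ht, ← h]; simp
        exact congrArg Subtype.val this
    · refine ⟨(φ.symm (QuaternionGroup.xa 0) : Y), (φ.symm (QuaternionGroup.xa 0)).2,
        (φ.symm (QuaternionGroup.a 1) : Y), (φ.symm (QuaternionGroup.a 1)).2, ?_⟩
      intro h
      have h2 : φ.symm (QuaternionGroup.xa 0) * φ.symm (QuaternionGroup.a 1) =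
          φ.symm (QuaternionGroup.a 1) * φ.symm (QuaternionGroup.xa 0) := Subtype.ext h
      rw [← map_mul, ← map_mul] at h2
      exact quat_noncomm hM (φ.symm.injective h2)
  have : Finite (quatSub M) := Nat.finite_of_card_ne_zero (by rw [card_quatSub]; omega)
  apply Subgroup.eq_of_le_of_card_ge hle
  rw [card_quatSub, Nat.card_congr φ.toEquiv, Nat.card_eq_fintype_card, QuaternionGroup.card]

end Wr

end Cfsg.Agent.Lib.Helper86_Wreathed
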