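import Mathlib
import Cfsg.Agent.Lib.Helper12_FpfLin
import Cfsg.Agent.Lib.Helper12_FpfQuat
import Cfsg.Agent.Lib.Helper12_FpfPlanar
import Cfsg.Agent.Lib.Helper12_FpfSylow
import Cfsg.Agent.Lib.Helper12_PerfectTools
import Cfsg.Agent.Lib.Helper86_Wreathed

set_option autoImplicit false
set_option linter.unusedSimpArgs false
set_option linter.unusedSectionVars false

namespace Cfsg.Agent.Lib.Helper12_FpfE45

open Module Cfsg.Agent.Lib.Helper12_FpfLin Cfsg.Agent.Lib.Helper12_FpfQuat
  Cfsg.Agent.Lib.Helper12_FpfPlanar Cfsg.Agent.Lib.Helper12_FpfSylow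
  Cfsg.Agent.Lib.Helper50_UniqueInv

section general

variable {G : Type*} [Group G]

/-- a group containing a basic triple has no abelian subgroup of index at most two -/
theorem nab_of_basic {t s x : G} (hb : Basic t s x) (Γ : Subgroup G) [Finite Γ] (ht : t ∈ Γ)
    (hs : s ∈ Γ) (hx : x ∈ Γ) :
    ∀ A : Subgroup Γ, (∀ a ∈ A, ∀ b ∈ A, a * b = b * a) → 2 < A.index := by
  intro A hA
  by_contra hlt
  have hle : A.index ≤ 2 := by omega
  have h0 : A.index ≠ 0 := Subgroup.index_ne_zero_of_finite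
  have h1 := comm_mem_of_index_le_two A hle h0 ⟨x, hx⟩ ⟨s, hs⟩
  have h2 := comm_mem_of_index_le_two A hle h0 ⟨x, hx⟩ ⟨t * s, Γ.mul_mem ht hs⟩
  have e1 : (⟨x, hx⟩ : Γ) * ⟨s, hs⟩ * (⟨x, hx⟩ : Γ)⁻¹ * (⟨s, hs⟩ : Γ)⁻¹ = ⟨t, ht⟩ := by
    apply Subtype.ext
    show x * s * x⁻¹ * s⁻¹ = t
    rw [hb.xs]; simp only [pow_succ, pow_zero, one_mul, mul_one, mul_assoc, inv_mul_cancel_left, mul_inv_cancel_left, mul_inv_rev, inv_inv, mul_inv_cancel, inv_mul_cancel]
  have e2 : (⟨x, hx⟩ : Γ) * ⟨t * s, Γ.mul_mem ht hs⟩ * (⟨x, hx⟩ : Γ)⁻¹ *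
      (⟨t * s, Γ.mul_mem ht hs⟩ : Γ)⁻¹ = ⟨s, hs⟩ := by
    apply Subtype.ext
    show x * (t * s) * x⁻¹ * (t * s)⁻¹ = s
    rw [hb.rotate.xs]; simp only [pow_succ, pow_zero, one_mul, mul_one, mul_assoc, inv_mul_cancel_left, mul_inv_cancel_left, mul_inv_rev, inv_inv, mul_inv_cancel, inv_mul_cancel]
  rw [e1] at h1
  rw [e2] at h2
  have := hA _ h1 _ h2
  exact hb.not_comm (congrArg Subtype.val this)

/-- a group containing two non-commuting elements of order three has no abelian subgroup of index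
at most two -/
theorem nab_of_order_three {x y : G} (hx3 : x ^ 3 = 1) (hy3 : y ^ 3 = 1) (hxy : x * y ≠ y * x)
    (Γ : Subgroup G) [Finite Γ] (hx : x ∈ Γ) (hy : y ∈ Γ) :
    ∀ A : Subgroup Γ, (∀ a ∈ A, ∀ b ∈ A, a * b = b * a) → 2 < A.index := by
  intro A hA
  by_contra hlt
  have hle : A.index ≤ 2 := by omega
  have h0 : A.index ≠ 0 := Subgroup.index_ne_zero_of_finite
  have h1 := sq_mem_of_index_le_two A hle h0 ((⟨x, hx⟩ : Γ) ^ 2)
  have h2 := sq_mem_of_index_le_two A hle h0 ((⟨y, hy⟩ : Γ) ^ 2)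
  have e1 : ((⟨x, hx⟩ : Γ) ^ 2) ^ 2 = ⟨x, hx⟩ := by
    apply Subtype.ext
    show (x ^ 2) ^ 2 = x
    calc (x ^ 2) ^ 2 = x ^ 3 * x := by simp only [pow_succ, pow_zero, one_mul, mul_one, mul_assoc, inv_mul_cancel_left, mul_inv_cancel_left, mul_inv_rev, inv_inv, mul_inv_cancel, inv_mul_cancel]
      _ = x := by rw [hx3, one_mul]
  have e2 : ((⟨y, hy⟩ : Γ) ^ 2) ^ 2 = ⟨y, hy⟩ := by
    apply Subtype.ext
    show (y ^ 2) ^ 2 = y
    calc (y ^ 2) ^ 2 = y ^ 3 * y := by simp only [pow_succ, pow_zero, one_mul, mul_one, mul_assoc, inv_mul_cancel_left, mul_inv_cancel_left, mul_inv_rev, inv_inv, mul_inv_cancel, inv_mul_cancel]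
      _ = y := by rw [hy3, one_mul]
  rw [e1] at h1
  rw [e2] at h2
  have := hA _ h1 _ h2
  exact hxy (congrArg Subtype.val this)

/-- a finite `2`-group with a unique involution and a central element of order four is cyclic -/
theorem cyclic_of_central_order_four {P : Type*} [Group P] [Finite P] (hP : IsPGroup 2 P)
    (hu : UniqueInvolution P) (t : P) (ht : ∀ g : P, t * g = g * t) (ht2 : t ^ 2 ≠ 1) :
    IsCyclic P := by
  rcases Cfsg.Agent.Lib.Helper50_UniqueInv2.isCyclic_or_quaternion hP hu with h | ⟨k, hk, ⟨e⟩⟩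
  · exact h
  · exfalso
    have hn : 2 ≤ 2 ^ k := by
      calc 2 = 2 ^ 1 := by norm_num
        _ ≤ 2 ^ k := Nat.pow_le_pow_right (by norm_num) hk
    have hcen : ∀ v, e t * v = v * e t := by
      intro v
      have := ht (e.symm v)
      have := congrArg e this
      simpa using this
    apply ht2
    apply e.injective
    rw [map_pow, map_one, pow_two]
    rcases Cfsg.Agent.Lib.Helper86_Wreathed.quat_center hn (e t) hcen with h1 | h1
    · rw [h1, one_mul]
    · rw [h1]; exact Cfsg.Agent.Lib.Helper86_Wreathed.quat_half_sq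

/-- **normal `2`-complement for a cyclic Sylow `2`-subgroup**: a normal subgroup of odd order
containing all elements of odd order -/
theorem exists_odd_normal [Finite G] (h2 : 2 ∣ Nat.card G) (P : Sylow 2 G) (hc : IsCyclic P) :
    ∃ K : Subgroup G, K.Normal ∧ Odd (Nat.card K) ∧ ∀ l : G, Odd (orderOf l) → l ∈ K := by
  have hp : (Nat.card G).minFac = 2 := (Nat.minFac_eq_two_iff _).2 h2
  have hle := IsCyclic.normalizer_le_centralizer (P := P) hp hc
  have hcompl := MonoidHom.ker_transferSylow_isComplement' P hle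
  refine ⟨(MonoidHom.transferSylow P hle).ker, inferInstance, ?_, ?_⟩
  · have h1 := hcompl.card_mul_card
    have h3 : Nat.card (MonoidHom.transferSylow P hle).ker = (P : Subgroup G).index := by
      have h4 := (P : Subgroup G).card_mul_index
      have hpos : 0 < Nat.card (P : Subgroup G) := Nat.card_pos
      have : Nat.card (MonoidHom.transferSylow P hle).ker * Nat.card (P : Subgroup G) =
          (P : Subgroup G).index * Nat.card (P : Subgroup G) := by
        rw [h1, mul_comm, h4]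
      exact Nat.eq_of_mul_eq_mul_right hpos this
    rw [h3]
    have := P.not_dvd_index
    exact Nat.odd_iff.2 (by omega)
  · intro l hl
    rw [MonoidHom.mem_ker]
    set y := MonoidHom.transferSylow P hle l with hy
    have h1 : orderOf y ∣ orderOf l := orderOf_map_dvd _ l
    obtain ⟨k, hk⟩ := (P.2 : IsPGroup 2 (P : Subgroup G)) y
    have h3 : orderOf y ∣ 2 ^ k := orderOf_dvd_of_pow_eq_one hk
    have h4 : Nat.Coprime (orderOf l) (2 ^ k) :=
      Nat.Coprime.pow_right k (Nat.Coprime.symm (Nat.coprime_two_left.2 hl))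
    have h5 : orderOf y ∣ 1 := by
      rw [← h4]; exact Nat.dvd_gcd h1 h3
    exact orderOf_eq_one_iff.1 (Nat.dvd_one.1 h5)

end general


section linear

variable {F : Type*} [Field F] {W : Type*} [AddCommGroup W] [Module F W] {G : Type*} [Group G]
variable {ρ : G →* Module.End F W}
variable [IsAlgClosed F] [FiniteDimensional F W] [Nontrivial W] [Finite G]

/-- the Sylow `2`-subgroups of the centralizer of an element of order four are cyclic, so the
centralizer has a normal subgroup of odd order containing all its elements of odd order -/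
theorem exists_odd_normal_centralizer (h : IsFpf ρ) {t : G} (ht4 : t ^ 4 = 1)
    (ht2 : t ^ 2 ≠ 1) :
    ∃ K : Subgroup (Subgroup.centralizer ({t} : Set G)), K.Normal ∧ Odd (Nat.card K) ∧
      ∀ l : Subgroup.centralizer ({t} : Set G), Odd (orderOf l) → l ∈ K := by
  set C := Subgroup.centralizer ({t} : Set G) with hC
  have htC : t ∈ C := by
    rw [hC, Subgroup.mem_centralizer_singleton_iff]
  set tC : C := ⟨t, htC⟩ with htC'
  have hord : orderOf tC ∣ 4 := by
    apply orderOf_dvd_of_pow_eq_one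
    apply Subtype.ext
    simpa using ht4
  have hpg : IsPGroup 2 (Subgroup.zpowers tC) := by
    apply IsPGroup.of_card (n := Nat.log 2 (orderOf tC))
    rw [Nat.card_zpowers]
    have : orderOf tC ∣ 2 ^ 2 := hord
    obtain ⟨j, -, hj⟩ := (Nat.dvd_prime_pow Nat.prime_two).1 this
    rw [hj, Nat.log_pow (by norm_num)]
  obtain ⟨P, hP⟩ := hpg.exists_le_sylow
  have htP : tC ∈ (P : Subgroup C) := hP (Subgroup.mem_zpowers tC)
  have hcyc : IsCyclic P := by
    have hu : UniqueInvolution (P : Subgroup C) := by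
      intro u v hu hv hu1 hv1
      apply Subtype.ext
      apply Subtype.ext
      apply h.invol_unique
      · intro h1; exact hu1 (Subtype.ext (Subtype.ext h1))
      · intro h1; exact hv1 (Subtype.ext (Subtype.ext h1))
      · have := congrArg (fun y : (P : Subgroup C) => ((y : C) : G)) hu; simpa using this
      · have := congrArg (fun y : (P : Subgroup C) => ((y : C) : G)) hv; simpa using this
    apply cyclic_of_central_order_four P.2 hu ⟨tC, htP⟩
    · intro g
      apply Subtype.ext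
      apply Subtype.ext
      have := Subgroup.mem_centralizer_singleton_iff.1 (g : C).2
      exact this.symm
    · intro h1
      apply ht2
      have := congrArg (fun y : (P : Subgroup C) => ((y : C) : G)) h1
      simpa using this
  have h2 : 2 ∣ Nat.card C := by
    have h3 : orderOf tC ∣ Nat.card C := orderOf_dvd_natCard tC
    have h4 : orderOf tC ≠ 1 := by
      intro h5
      have := orderOf_eq_one_iff.1 h5
      apply ht2
      have := congrArg Subtype.val this
      simp only [htC'] at this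
      rw [this]; simp
    have : orderOf tC ∣ 2 ^ 2 := hord
    obtain ⟨j, -, hj⟩ := (Nat.dvd_prime_pow Nat.prime_two).1 this
    have hj0 : j ≠ 0 := by
      intro h0; rw [h0, pow_zero] at hj; exact h4 hj
    exact (dvd_pow_self 2 hj0).trans (hj ▸ h3)
  exact exists_odd_normal h2 P hcyc

/-- **E5**: an element of odd order centralizing `t` of a basic triple centralizes `s` -/
theorem commute_s_of_commute_t (h : IsFpf ρ) (hcard : ((Nat.card G : ℕ) : F) ≠ 0) {t s x : G}
    (hb : Basic t s x) (l : G) (hodd : Odd (orderOf l)) (hlt : Commute l t) : Commute l s := by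
  set l' := s * l * s⁻¹ with hl'
  set k := l⁻¹ * l' with hk
  have hl't : Commute l' t := by
    have e1 : t = s * t⁻¹ * s⁻¹ := by
      have := congrArg (fun y => y⁻¹) hb.st
      simp only [mul_inv_rev, inv_inv] at this
      rw [← mul_assoc] at this
      exact this.symm
    have e2 : Commute l t⁻¹ := hlt.inv_right
    show l' * t = t * l'
    calc l' * t = s * l * s⁻¹ * (s * t⁻¹ * s⁻¹) := by rw [← e1]
      _ = s * (l * t⁻¹) * s⁻¹ := by simp only [pow_succ, pow_zero, one_mul, mul_one, mul_assoc, inv_mul_cancel_left, mul_inv_cancel_left, mul_inv_rev, inv_inv, mul_inv_cancel, inv_mul_cancel]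
      _ = s * (t⁻¹ * l) * s⁻¹ := by rw [e2.eq]
      _ = (s * t⁻¹ * s⁻¹) * (s * l * s⁻¹) := by simp only [pow_succ, pow_zero, one_mul, mul_one, mul_assoc, inv_mul_cancel_left, mul_inv_cancel_left, mul_inv_rev, inv_inv, mul_inv_cancel, inv_mul_cancel]
      _ = t * l' := by rw [← e1]
  have hkt : Commute k t := (hlt.inv_left).mul_left hl't
  have hz : s ^ 2 = t ^ 2 := hb.s2
  have hzc : ∀ g : G, g * t ^ 2 = t ^ 2 * g :=
    h.invol_central hb.t2 (by rw [← pow_mul]; exact hb.t4)
  have hks : s * k * s⁻¹ = k⁻¹ := by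
    have e1 : s * l' * s⁻¹ = l := by
      calc s * l' * s⁻¹ = s ^ 2 * l * (s ^ 2)⁻¹ := by rw [hl']; simp only [pow_succ, pow_zero, one_mul, mul_one, mul_assoc, inv_mul_cancel_left, mul_inv_cancel_left, mul_inv_rev, inv_inv, mul_inv_cancel, inv_mul_cancel]
        _ = l := by rw [hz, ← hzc l]; simp only [pow_succ, pow_zero, one_mul, mul_one, mul_assoc, inv_mul_cancel_left, mul_inv_cancel_left, mul_inv_rev, inv_inv, mul_inv_cancel, inv_mul_cancel]
    calc s * k * s⁻¹ = (s * l * s⁻¹)⁻¹ * (s * l' * s⁻¹) := by rw [hk]; simp only [pow_succ, pow_zero, one_mul, mul_one, mul_assoc, inv_mul_cancel_left, mul_inv_cancel_left, mul_inv_rev, inv_inv, mul_inv_cancel, inv_mul_cancel]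
      _ = l'⁻¹ * l := by rw [e1]
      _ = k⁻¹ := by rw [hk]; simp only [pow_succ, pow_zero, one_mul, mul_one, mul_assoc, inv_mul_cancel_left, mul_inv_cancel_left, mul_inv_rev, inv_inv, mul_inv_cancel, inv_mul_cancel]
  obtain ⟨N, b, htN, hsN, hkN⟩ := exists_plane_tsk h hb.toQPair k hkt hks
  have hxN : x ∈ slN ρ N := hb.mem_slN h b (slN_le_stabN htN) (slN_le_stabN hsN)
  set Γ : Subgroup G := Subgroup.closure {t, s, x, k} with hΓ
  have hΓle : Γ ≤ slN ρ N := by
    rw [hΓ, Subgroup.closure_le]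
    intro g hg
    simp only [Set.mem_insert_iff, Set.mem_singleton_iff] at hg
    rcases hg with rfl | rfl | rfl | rfl
    · exact htN
    · exact hsN
    · exact hxN
    · exact hkN
  have htΓ : t ∈ Γ := Subgroup.subset_closure (by simp)
  have hsΓ : s ∈ Γ := Subgroup.subset_closure (by simp)
  have hxΓ : x ∈ Γ := Subgroup.subset_closure (by simp)
  have hkΓ : k ∈ Γ := Subgroup.subset_closure (by simp)
  have h2 : (2 : F) ≠ 0 := h.two_ne_zero hb.t2 (by rw [← pow_mul]; exact hb.t4)
  obtain ⟨-, hcent⟩ := planar_orders h b Γ hΓle hcard h2 (nab_of_basic hb Γ htΓ hsΓ hxΓ)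
  obtain ⟨c, hc, hcy⟩ := hcent t htΓ hb.t2
  have ht4 : orderOf t = 4 := by
    have h1 : orderOf t ∣ 2 ^ 2 := orderOf_dvd_of_pow_eq_one hb.t4
    obtain ⟨j, hj2, hj⟩ := (Nat.dvd_prime_pow Nat.prime_two).1 h1
    interval_cases j
    · rw [pow_zero] at hj
      exact absurd (by rw [orderOf_eq_one_iff.1 hj]; simp) hb.t2
    · have hj' : orderOf t = 2 := by rw [hj]; norm_num
      exact absurd (by rw [← hj']; exact pow_orderOf_eq_one t) hb.t2
    · rw [hj]; norm_num
  have h4c : 4 ∣ c := by rw [← ht4]; exact hcy t htΓ (Commute.refl t)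
  have hk8 : k ^ 8 = 1 := by
    have hkc := hcy k hkΓ hkt.symm
    have : c ∣ 8 := by
      rcases hc with rfl | rfl | rfl | rfl
      · norm_num
      · omega
      · norm_num
      · omega
    exact orderOf_dvd_iff_pow_eq_one.1 (hkc.trans this)
  -- the normal complement
  obtain ⟨K, hKn, hKodd, hK⟩ := exists_odd_normal_centralizer h hb.t4 hb.t2
  have hlC : l ∈ Subgroup.centralizer ({t} : Set G) := by
    rw [Subgroup.mem_centralizer_singleton_iff]; exact hlt.eq
  have hl'C : l' ∈ Subgroup.centralizer ({t} : Set G) := by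
    rw [Subgroup.mem_centralizer_singleton_iff]; exact hl't.eq
  have hol' : orderOf l' = orderOf l := by
    have := MulEquiv.orderOf_eq (MulAut.conj s) l
    rwa [MulAut.conj_apply] at this
  have hlK : (⟨l, hlC⟩ : Subgroup.centralizer ({t} : Set G)) ∈ K := by
    apply hK
    rw [← Subgroup.orderOf_coe]; exact hodd
  have hl'K : (⟨l', hl'C⟩ : Subgroup.centralizer ({t} : Set G)) ∈ K := by
    apply hK
    rw [← Subgroup.orderOf_coe]; show Odd (orderOf l'); rw [hol']; exact hodd
  have hkK : (⟨l, hlC⟩ : Subgroup.centralizer ({t} : Set G))⁻¹ * ⟨l', hl'C⟩ ∈ K :=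
    K.mul_mem (K.inv_mem hlK) hl'K
  have hko : orderOf k ∣ Nat.card K := by
    have h1 := Subgroup.orderOf_dvd_natCard K hkK
    rw [← Subgroup.orderOf_coe] at h1
    exact h1
  have hk1 : k = 1 := by
    have h1 : orderOf k ∣ 8 := orderOf_dvd_of_pow_eq_one hk8
    have h3 : Odd (orderOf k) := hKodd.of_dvd_nat hko
    have h4 : orderOf k ∣ 2 ^ 3 := h1
    obtain ⟨j, -, hj⟩ := (Nat.dvd_prime_pow Nat.prime_two).1 h4
    have : j = 0 := by
      by_contra hj0
      rw [hj] at h3
      exact (Nat.not_odd_iff_even.2 ((Nat.even_pow' hj0).2 even_two)) h3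
    rw [this, pow_zero] at hj
    exact orderOf_eq_one_iff.1 hj
  have : l' = l := by
    calc l' = l * k := by rw [hk]; simp only [pow_succ, pow_zero, one_mul, mul_one, mul_assoc, inv_mul_cancel_left, mul_inv_cancel_left, mul_inv_rev, inv_inv, mul_inv_cancel, inv_mul_cancel]
      _ = l := by rw [hk1, mul_one]
  show l * s = s * l
  calc l * s = l' * s := by rw [this]
    _ = s * l := by rw [hl']; simp only [pow_succ, pow_zero, one_mul, mul_one, mul_assoc, inv_mul_cancel_left, mul_inv_cancel_left, mul_inv_rev, inv_inv, mul_inv_cancel, inv_mul_cancel]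

end linear


section linear2

variable {F : Type*} [Field F] {W : Type*} [AddCommGroup W] [Module F W] {G : Type*} [Group G]
variable {ρ : G →* Module.End F W}
variable [IsAlgClosed F] [FiniteDimensional F W] [Nontrivial W] [Finite G]

/-- membership in the centralizer of `{t, s}` -/
theorem mem_cent_pair {t s g : G} :
    g ∈ Subgroup.centralizer ({t, s} : Set G) ↔ t * g = g * t ∧ s * g = g * s := by
  rw [Subgroup.mem_centralizer_iff]
  constructor
  · intro h
    exact ⟨h t (by simp), h s (by simp)⟩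
  · rintro ⟨h1, h2⟩ y hy
    simp only [Set.mem_insert_iff, Set.mem_singleton_iff] at hy
    rcases hy with rfl | rfl
    · exact h1
    · exact h2

/-- the element `x` of a basic triple normalizes the centralizer of `{t, s}` -/
theorem basic_mem_normalizer_cent {t s x : G} (hb : Basic t s x) :
    x ∈ Subgroup.normalizer (Subgroup.centralizer ({t, s} : Set G) : Set G) := by
  rw [Subgroup.mem_normalizer_iff]
  intro g
  have h1 : x⁻¹ * s * x = t := by rw [← hb.xt]; simp only [pow_succ, pow_zero, one_mul, mul_one, mul_assoc, inv_mul_cancel_left, mul_inv_cancel_left, mul_inv_rev, inv_inv, mul_inv_cancel, inv_mul_cancel]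
  have h2 : x⁻¹ * (t * s) * x = s := by rw [← hb.xs]; simp only [pow_succ, pow_zero, one_mul, mul_one, mul_assoc, inv_mul_cancel_left, mul_inv_cancel_left, mul_inv_rev, inv_inv, mul_inv_cancel, inv_mul_cancel]
  rw [mem_cent_pair, mem_cent_pair]
  constructor
  · rintro ⟨gt, gs⟩
    have gts : t * s * g = g * (t * s) := by
      rw [mul_assoc, gs, ← mul_assoc, gt, mul_assoc]
    have e1 : s * (x * g * x⁻¹) = x * g * x⁻¹ * s := by
      calc s * (x * g * x⁻¹) = x * (x⁻¹ * s * x * g) * x⁻¹ := by simp only [pow_succ, pow_zero, one_mul, mul_one, mul_assoc, inv_mul_cancel_left, mul_inv_cancel_left, mul_inv_rev, inv_inv, mul_inv_cancel, inv_mul_cancel]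
        _ = x * (g * (x⁻¹ * s * x)) * x⁻¹ := by rw [h1, gt]
        _ = x * g * x⁻¹ * s := by simp only [pow_succ, pow_zero, one_mul, mul_one, mul_assoc, inv_mul_cancel_left, mul_inv_cancel_left, mul_inv_rev, inv_inv, mul_inv_cancel, inv_mul_cancel]
    have e2 : (t * s) * (x * g * x⁻¹) = x * g * x⁻¹ * (t * s) := by
      calc (t * s) * (x * g * x⁻¹) = x * (x⁻¹ * (t * s) * x * g) * x⁻¹ := by simp only [pow_succ, pow_zero, one_mul, mul_one, mul_assoc, inv_mul_cancel_left, mul_inv_cancel_left, mul_inv_rev, inv_inv, mul_inv_cancel, inv_mul_cancel]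
        _ = x * (g * (x⁻¹ * (t * s) * x)) * x⁻¹ := by rw [h2, gs]
        _ = x * g * x⁻¹ * (t * s) := by simp only [pow_succ, pow_zero, one_mul, mul_one, mul_assoc, inv_mul_cancel_left, mul_inv_cancel_left, mul_inv_rev, inv_inv, mul_inv_cancel, inv_mul_cancel]
    refine ⟨?_, e1⟩
    calc t * (x * g * x⁻¹) = (t * s) * (s⁻¹ * (x * g * x⁻¹)) := by simp only [pow_succ, pow_zero, one_mul, mul_one, mul_assoc, inv_mul_cancel_left, mul_inv_cancel_left, mul_inv_rev, inv_inv, mul_inv_cancel, inv_mul_cancel]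
      _ = (t * s) * ((x * g * x⁻¹) * s⁻¹) := by
          congr 1
          calc s⁻¹ * (x * g * x⁻¹) = s⁻¹ * (x * g * x⁻¹ * s) * s⁻¹ := by simp only [pow_succ, pow_zero, one_mul, mul_one, mul_assoc, inv_mul_cancel_left, mul_inv_cancel_left, mul_inv_rev, inv_inv, mul_inv_cancel, inv_mul_cancel]
            _ = s⁻¹ * (s * (x * g * x⁻¹)) * s⁻¹ := by rw [e1]
            _ = (x * g * x⁻¹) * s⁻¹ := by simp only [pow_succ, pow_zero, one_mul, mul_one, mul_assoc, inv_mul_cancel_left, mul_inv_cancel_left, mul_inv_rev, inv_inv, mul_inv_cancel, inv_mul_cancel]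
      _ = ((t * s) * (x * g * x⁻¹)) * s⁻¹ := by simp only [pow_succ, pow_zero, one_mul, mul_one, mul_assoc, inv_mul_cancel_left, mul_inv_cancel_left, mul_inv_rev, inv_inv, mul_inv_cancel, inv_mul_cancel]
      _ = (x * g * x⁻¹ * (t * s)) * s⁻¹ := by rw [e2]
      _ = x * g * x⁻¹ * t := by simp only [pow_succ, pow_zero, one_mul, mul_one, mul_assoc, inv_mul_cancel_left, mul_inv_cancel_left, mul_inv_rev, inv_inv, mul_inv_cancel, inv_mul_cancel]
  · rintro ⟨gt, gs⟩
    -- `g` commutes with `x⁻¹ t x` and `x⁻¹ s x = t`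
    have e1 : t * g = g * t := by
      calc t * g = x⁻¹ * (s * (x * g * x⁻¹)) * x := by rw [← h1]; simp only [pow_succ, pow_zero, one_mul, mul_one, mul_assoc, inv_mul_cancel_left, mul_inv_cancel_left, mul_inv_rev, inv_inv, mul_inv_cancel, inv_mul_cancel]
        _ = x⁻¹ * ((x * g * x⁻¹) * s) * x := by rw [gs]
        _ = g * (x⁻¹ * s * x) := by simp only [pow_succ, pow_zero, one_mul, mul_one, mul_assoc, inv_mul_cancel_left, mul_inv_cancel_left, mul_inv_rev, inv_inv, mul_inv_cancel, inv_mul_cancel]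
        _ = g * t := by rw [h1]
    have gts : t * s * (x * g * x⁻¹) = x * g * x⁻¹ * (t * s) := by
      rw [mul_assoc, gs, ← mul_assoc, gt, mul_assoc]
    have e2 : s * g = g * s := by
      calc s * g = (x⁻¹ * (t * s) * x) * g := by rw [h2]
        _ = x⁻¹ * ((t * s) * (x * g * x⁻¹)) * x := by simp only [pow_succ, pow_zero, one_mul, mul_one, mul_assoc, inv_mul_cancel_left, mul_inv_cancel_left, mul_inv_rev, inv_inv, mul_inv_cancel, inv_mul_cancel]
        _ = x⁻¹ * ((x * g * x⁻¹) * (t * s)) * x := by rw [gts]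
        _ = g * (x⁻¹ * (t * s) * x) := by simp only [pow_succ, pow_zero, one_mul, mul_one, mul_assoc, inv_mul_cancel_left, mul_inv_cancel_left, mul_inv_rev, inv_inv, mul_inv_cancel, inv_mul_cancel]
        _ = g * s := by rw [h2]
    exact ⟨e1, e2⟩

/-- in a group whose order is `24`, `48` or `120` two elements of order three generate conjugate
subgroups -/
theorem exists_conj_mem_zpowers {Γ : Type*} [Group Γ] [Finite Γ]
    (hΓ : Nat.card Γ = 24 ∨ Nat.card Γ = 48 ∨ Nat.card Γ = 120) (w x : Γ) (hw : orderOf w = 3)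
    (hx : orderOf x = 3) : ∃ a : Γ, a * w * a⁻¹ ∈ Subgroup.zpowers x := by
  have : Fact (Nat.Prime 3) := ⟨Nat.prime_three⟩
  have key : ∀ y : Γ, orderOf y = 3 → ∃ S : Sylow 3 Γ, (S : Subgroup Γ) = Subgroup.zpowers y := by
    intro y hy
    have hpg : IsPGroup 3 (Subgroup.zpowers y) := by
      apply IsPGroup.of_card (n := 1)
      rw [Nat.card_zpowers, hy, pow_one]
    obtain ⟨S, hS⟩ := hpg.exists_le_sylow
    refine ⟨S, ?_⟩
    symm
    apply Subgroup.eq_of_le_of_card_ge hS
    rw [Nat.card_zpowers, hy]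
    obtain ⟨k, hk⟩ := (S.2 : IsPGroup 3 (S : Subgroup Γ)).exists_card_eq
    have hdvd : 3 ^ k ∣ Nat.card Γ := by rw [← hk]; exact Subgroup.card_subgroup_dvd_card _
    have hk1 : k ≤ 1 := by
      by_contra hk2
      have h9 : 3 ^ 2 ∣ Nat.card Γ := (pow_dvd_pow 3 (by omega : 2 ≤ k)).trans hdvd
      rcases hΓ with h | h | h <;> rw [h] at h9 <;> omega
    rw [hk]
    calc 3 ^ k ≤ 3 ^ 1 := Nat.pow_le_pow_right (by norm_num) hk1
      _ = 3 := by norm_num
  obtain ⟨S₁, hS₁⟩ := key w hw
  obtain ⟨S₂, hS₂⟩ := key x hx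
  obtain ⟨a, ha⟩ := MulAction.exists_smul_eq Γ S₁ S₂
  refine ⟨a, ?_⟩
  rw [← hS₂, ← ha, Sylow.coe_subgroup_smul, Subgroup.mem_pointwise_smul_iff_inv_smul_mem]
  rw [MulAut.smul_def, ← map_inv, MulAut.conj_apply, hS₁]
  have : a⁻¹ * (a * w * a⁻¹) * a⁻¹⁻¹ = w := by simp only [pow_succ, pow_zero, one_mul, mul_one, mul_assoc, inv_mul_cancel_left, mul_inv_cancel_left, mul_inv_rev, inv_inv, mul_inv_cancel, inv_mul_cancel]
  rw [this]
  exact Subgroup.mem_zpowers w

theorem orderOf_eq_three {g : G} (h1 : g ≠ 1) (h3 : g ^ 3 = 1) : orderOf g = 3 := by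
  have hd : orderOf g ∣ 3 := orderOf_dvd_of_pow_eq_one h3
  rcases (Nat.dvd_prime Nat.prime_three).1 hd with h | h
  · exact absurd (orderOf_eq_one_iff.1 h) h1
  · exact h

/-- **E4**: an element of order dividing three centralizing `t` and `s` of a basic triple is
trivial -/
theorem eq_one_of_centralizes (h : IsFpf ρ) (hcard : ((Nat.card G : ℕ) : F) ≠ 0) {t s x : G}
    (hb : Basic t s x) (w : G) (hw3 : w ^ 3 = 1) (hwt : Commute w t) (hws : Commute w s) :
    w = 1 := by
  by_contra hw1
  -- a non-identity element `y` of order three commuting with `t` and with `x` is impossible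
  have key : ∀ y : G, y ≠ 1 → y ^ 3 = 1 → Commute y t → Commute y x → False := by
    intro y hy1 hy3 hyt hyx
    have hmem := h.mem_zpowers_of_commute Nat.prime_three hyx hy1 hy3 hb.x3
    obtain ⟨j, hj⟩ := Subgroup.mem_zpowers_iff.1 hmem
    apply hb.not_comm_xt
    rw [← hj]
    exact (hyt.zpow_left j).eq
  by_cases hwx : Commute w x
  · exact key w hw1 hw3 hwt hwx
  · have hwx' : w * x ≠ x * w := hwx
    obtain ⟨N, b, hwN, hxN⟩ := exists_plane_xy h hw1 hb.x_ne_one hw3 hb.x3 hwx'
    set Γ : Subgroup G := Subgroup.closure {w, x} with hΓ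
    have hΓle : Γ ≤ slN ρ N := by
      rw [hΓ, Subgroup.closure_le]
      intro g hg
      simp only [Set.mem_insert_iff, Set.mem_singleton_iff] at hg
      rcases hg with rfl | rfl
      · exact hwN
      · exact hxN
    have hwΓ : w ∈ Γ := Subgroup.subset_closure (by simp)
    have hxΓ : x ∈ Γ := Subgroup.subset_closure (by simp)
    have h2 : (2 : F) ≠ 0 := h.two_ne_zero hb.t2 (by rw [← pow_mul]; exact hb.t4)
    obtain ⟨hord, -⟩ := planar_orders h b Γ hΓle hcard h2
      (nab_of_order_three hw3 hb.x3 hwx' Γ hwΓ hxΓ)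
    have how : orderOf (⟨w, hwΓ⟩ : Γ) = 3 := by
      rw [← Subgroup.orderOf_coe]; exact orderOf_eq_three hw1 hw3
    have hox : orderOf (⟨x, hxΓ⟩ : Γ) = 3 := by
      rw [← Subgroup.orderOf_coe]; exact orderOf_eq_three hb.x_ne_one hb.x3
    obtain ⟨a, ha⟩ := exists_conj_mem_zpowers hord ⟨w, hwΓ⟩ ⟨x, hxΓ⟩ how hox
    obtain ⟨j, hj⟩ := Subgroup.mem_zpowers_iff.1 ha
    have hj' : x ^ j = (a : G) * w * (a : G)⁻¹ := by
      have := congrArg Subtype.val hj
      simpa using this
    -- `Γ` normalizes the centralizer of `{t, s}`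
    have hΓn : Γ ≤ Subgroup.normalizer (Subgroup.centralizer ({t, s} : Set G) : Set G) := by
      rw [hΓ, Subgroup.closure_le]
      intro g hg
      simp only [Set.mem_insert_iff, Set.mem_singleton_iff] at hg
      rcases hg with rfl | rfl
      · apply Subgroup.le_normalizer
        exact mem_cent_pair.2 ⟨hwt.eq.symm, hws.eq.symm⟩
      · exact basic_mem_normalizer_cent hb
    have haN := hΓn a.2
    have hwD : w ∈ Subgroup.centralizer ({t, s} : Set G) :=
      mem_cent_pair.2 ⟨hwt.eq.symm, hws.eq.symm⟩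
    have hyD := (Subgroup.mem_normalizer_iff.1 haN w).1 hwD
    rw [← hj'] at hyD
    have hyt : Commute (x ^ j) t := (mem_cent_pair.1 hyD).1.symm
    have hy1 : x ^ j ≠ 1 := by
      intro h1
      rw [h1] at hj'
      apply hw1
      calc w = (a : G)⁻¹ * ((a : G) * w * (a : G)⁻¹) * (a : G) := by simp only [pow_succ, pow_zero, one_mul, mul_one, mul_assoc, inv_mul_cancel_left, mul_inv_cancel_left, mul_inv_rev, inv_inv, mul_inv_cancel, inv_mul_cancel]
        _ = 1 := by rw [← hj']; simp only [pow_succ, pow_zero, one_mul, mul_one, mul_assoc, inv_mul_cancel_left, mul_inv_cancel_left, mul_inv_rev, inv_inv, mul_inv_cancel, inv_mul_cancel]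
    have hy3 : (x ^ j) ^ 3 = 1 := by
      rw [← zpow_natCast, ← zpow_mul, mul_comm, zpow_mul, zpow_natCast, hb.x3, one_zpow]
    exact key (x ^ j) hy1 hy3 hyt ((Commute.refl x).zpow_left j)

end linear2

end Cfsg.Agent.Lib.Helper12_FpfE45
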