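import Mathlib
import Cfsg.Agent.Lib.Helper12_FpfLin
import Cfsg.Agent.Lib.Helper12_FpfQuat
import Cfsg.Agent.Lib.Helper12_FpfPlanar
import Cfsg.Agent.Lib.Helper12_FpfSylow
import Cfsg.Agent.Lib.Helper12_PerfectTools
import Cfsg.Agent.Lib.Helper12_FpfE45
import Cfsg.Agent.Lib.Helper12_FpfBasic

set_option autoImplicit false
set_option linter.unusedSimpArgs false
set_option linter.unusedSectionVars false

namespace Cfsg.Agent.Lib.Helper12_FpfExist

open Module Cfsg.Agent.Lib.Helper12_FpfLin Cfsg.Agent.Lib.Helper12_FpfQuat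
  Cfsg.Agent.Lib.Helper12_FpfPlanar Cfsg.Agent.Lib.Helper12_FpfSylow
  Cfsg.Agent.Lib.Helper50_UniqueInv Cfsg.Agent.Lib.Helper12_PerfectTools
  Cfsg.Agent.Lib.Helper12_FpfE45 Cfsg.Agent.Lib.Helper12_FpfBasic
  Cfsg.Agent.Lib.Helper35_FrobeniusNPC

variable {F : Type*} [Field F] {W : Type*} [AddCommGroup W] [Module F W] {G : Type*} [Group G]
variable {ρ : G →* Module.End F W}
variable [IsAlgClosed F] [FiniteDimensional F W] [Nontrivial W] [Finite G]

/-- a nontrivial perfect fixed-point-free group has no normal `2`-complement -/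
theorem not_hasNPC (h : IsFpf ρ) (hperf : commutator G = ⊤) [Nontrivial G] :
    ¬ HasNPC 2 G := by
  rintro ⟨K, hKn, hKc, n, hKi⟩
  rcases Nat.eq_zero_or_pos n with hn | hn
  · -- `G` has odd order
    rw [hn, pow_zero, Subgroup.index_eq_one] at hKi
    rw [hKi, Subgroup.card_top] at hKc
    set p := (Nat.card G).minFac with hp
    have hcard1 : Nat.card G ≠ 1 := by
      have := Finite.one_lt_card (α := G)
      omega
    have : Fact p.Prime := ⟨Nat.minFac_prime hcard1⟩
    have hp2 : p ≠ 2 := by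
      intro h2
      have hd : p ∣ Nat.card G := Nat.minFac_dvd _
      rw [h2] at hd
      have := Nat.Coprime.eq_one_of_dvd hKc.symm hd
      omega
    obtain ⟨P⟩ : Nonempty (Sylow p G) := inferInstance
    have : IsCyclic P := isCyclic_of_odd h hp2 P P.2
    exact not_perfect_of_cyclic_sylow hp.symm P hperf
  · -- `G ⧸ K` is a nontrivial `2`-group
    have hq := perfect_quotient hperf K
    have hcardq : Nat.card (G ⧸ K) = 2 ^ n := by rw [← Subgroup.index_eq_card, hKi]
    have : Fact (Nat.Prime 2) := ⟨Nat.prime_two⟩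
    have hpq : IsPGroup 2 (G ⧸ K) := IsPGroup.of_card hcardq
    have : Group.IsNilpotent (G ⧸ K) := hpq.isNilpotent
    have : Nontrivial (G ⧸ K) := by
      rw [← Finite.one_lt_card_iff_nontrivial, hcardq]
      exact Nat.one_lt_pow hn.ne' (by norm_num)
    exact not_perfect_of_solvable hq

theorem odd_dvd_fifteen {d N : ℕ} (hN : N = 24 ∨ N = 48 ∨ N = 120) (hd : d ∣ N) (hodd : Odd d) :
    d ∣ 15 := by
  have hc : ∀ k : ℕ, Nat.Coprime d (2 ^ k) :=
    fun k => Nat.Coprime.pow_right k (Nat.Coprime.symm (Nat.coprime_two_left.2 hodd))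
  rcases hN with rfl | rfl | rfl
  · have : d ∣ 2 ^ 3 * 3 := by simpa using hd
    exact ((hc 3).dvd_of_dvd_mul_left this).trans (by norm_num)
  · have : d ∣ 2 ^ 4 * 3 := by simpa using hd
    exact ((hc 4).dvd_of_dvd_mul_left this).trans (by norm_num)
  · have : d ∣ 2 ^ 3 * 15 := by simpa using hd
    exact (hc 3).dvd_of_dvd_mul_left this

/-- **existence of a basic triple** in a nontrivial perfect fixed-point-free group -/
theorem exists_basic (h : IsFpf ρ) (hcard : ((Nat.card G : ℕ) : F) ≠ 0)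
    (hperf : commutator G = ⊤) [Nontrivial G] : ∃ t s x : G, Basic t s x := by
  have huG : UniqueInvolution G := by
    intro a b ha hb ha1 hb1
    exact h.invol_unique ha1 hb1 ha hb
  obtain ⟨Q, θ, g, hgN, hgo, hgC⟩ := exists_active_Q8 huG (not_hasNPC h hperf)
  obtain ⟨t₀, s₀, ht₀, hs₀, hpre⟩ := exists_preBasic Q θ g hgN hgo hgC
  have h2 : (2 : F) ≠ 0 := h.two_ne_zero hpre.t2 (by rw [← pow_mul]; exact hpre.t4)
  -- `3` divides the order of `g`
  set m := orderOf g with hm
  have h3m : 3 ∣ m := by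
    by_contra h3
    have hcop : Nat.Coprime 3 m := (Nat.Prime.coprime_iff_not_dvd Nat.prime_three).2 h3
    obtain ⟨j, hj⟩ := exists_pow_eq_self_of_coprime hcop
    have : Commute g t₀ := by
      rw [← hj]; exact hpre.cube_comm_t.pow_left j
    have e := hpre.gt
    rw [this.eq, mul_inv_cancel_right] at e
    exact hpre.s_ne_t e.symm
  obtain ⟨m', hm'⟩ := h3m
  have hmpos : 0 < m := orderOf_pos g
  set w := g ^ m' with hw
  have hw3 : w ^ 3 = 1 := by
    rw [hw, ← pow_mul, mul_comm, ← hm', hm, pow_orderOf_eq_one]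
  have hw1 : w ≠ 1 := by
    intro h1
    have hd : m ∣ m' := orderOf_dvd_of_pow_eq_one h1
    have : m ≤ m' := Nat.le_of_dvd (by omega) hd
    omega
  -- some conjugate of `w` does not commute with `w`
  have hex : ∃ a : G, w * (a * w * a⁻¹) ≠ a * w * a⁻¹ * w := by
    by_contra hall
    push Not at hall
    have hnorm : (Subgroup.zpowers w).Normal := by
      constructor
      intro n hn a
      obtain ⟨j, rfl⟩ := Subgroup.mem_zpowers_iff.1 hn
      have hc : Commute w (a * w * a⁻¹) := hall a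
      have h3' : (a * w * a⁻¹) ^ 3 = 1 := by
        rw [conj_pow, hw3]; simp only [pow_succ, pow_zero, one_mul, mul_one, mul_assoc, inv_mul_cancel_left, mul_inv_cancel_left, mul_inv_rev, inv_inv, mul_inv_cancel, inv_mul_cancel]
      have := h.mem_zpowers_of_commute Nat.prime_three hc hw1 hw3 h3'
      have e : a * w ^ j * a⁻¹ = (a * w * a⁻¹) ^ j := (conj_zpow).symm
      rw [e]
      exact Subgroup.zpow_mem _ this j
    have hcen : w ∈ Subgroup.center G :=
      cyclic_normal_le_center hperf (Subgroup.zpowers w) (Subgroup.mem_zpowers w)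
    have : Fact (Nat.Prime 3) := ⟨Nat.prime_three⟩
    obtain ⟨P⟩ : Nonempty (Sylow 3 G) := inferInstance
    have hPc : IsCyclic P := isCyclic_of_odd h (by norm_num) P P.2
    have hPcomm : ∀ a ∈ (P : Subgroup G), ∀ b ∈ (P : Subgroup G), a * b = b * a := by
      intro a ha b hb
      obtain ⟨c, hc⟩ := hPc.exists_generator
      obtain ⟨i, hi⟩ := Subgroup.mem_zpowers_iff.1 (hc ⟨a, ha⟩)
      obtain ⟨j, hj⟩ := Subgroup.mem_zpowers_iff.1 (hc ⟨b, hb⟩)
      have hi' : a = (c : G) ^ i := by
        have := congrArg Subtype.val hi; simpa using this.symm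
      have hj' : b = (c : G) ^ j := by
        have := congrArg Subtype.val hj; simpa using this.symm
      rw [hi', hj', ← zpow_add, ← zpow_add, add_comm]
    have hpow := central_pow_index_eq_one hperf (P : Subgroup G) hPcomm w hcen
    have hdvd : orderOf w ∣ (P : Subgroup G).index := orderOf_dvd_of_pow_eq_one hpow
    rw [orderOf_eq_three hw1 hw3] at hdvd
    exact P.not_dvd_index hdvd
  obtain ⟨a, ha⟩ := hex
  set w' := a * w * a⁻¹ with hw'
  have hw'3 : w' ^ 3 = 1 := by rw [hw', conj_pow, hw3]; simp only [pow_succ, pow_zero, one_mul, mul_one, mul_assoc, inv_mul_cancel_left, mul_inv_cancel_left, mul_inv_rev, inv_inv, mul_inv_cancel, inv_mul_cancel]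
  have hw'1 : w' ≠ 1 := by
    intro h1
    apply hw1
    calc w = a⁻¹ * w' * a := by rw [hw']; simp only [pow_succ, pow_zero, one_mul, mul_one, mul_assoc, inv_mul_cancel_left, mul_inv_cancel_left, mul_inv_rev, inv_inv, mul_inv_cancel, inv_mul_cancel]
      _ = 1 := by rw [h1]; simp only [pow_succ, pow_zero, one_mul, mul_one, mul_assoc, inv_mul_cancel_left, mul_inv_cancel_left, mul_inv_rev, inv_inv, mul_inv_cancel, inv_mul_cancel]
  obtain ⟨N, b, hwN, hw'N⟩ := exists_plane_xy h hw1 hw'1 hw3 hw'3 ha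
  set Γ : Subgroup G := Subgroup.closure {w, w'} with hΓ
  have hΓle : Γ ≤ slN ρ N := by
    rw [hΓ, Subgroup.closure_le]
    intro y hy
    simp only [Set.mem_insert_iff, Set.mem_singleton_iff] at hy
    rcases hy with rfl | rfl
    · exact hwN
    · exact hw'N
  have hwΓ : w ∈ Γ := Subgroup.subset_closure (by simp)
  have hw'Γ : w' ∈ Γ := Subgroup.subset_closure (by simp)
  obtain ⟨hord, -⟩ := planar_orders h b Γ hΓle hcard h2
    (nab_of_order_three hw3 hw'3 ha Γ hwΓ hw'Γ)
  -- `Γ` has no normal `2`-complement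
  have hnpcΓ : ¬ HasNPC 2 Γ := by
    rintro ⟨K, hKn, hKc, n, hKi⟩
    have hmemK : ∀ y : Γ, y ^ 3 = 1 → y ∈ K := by
      intro y hy
      apply mem_of_coprime_index K y
      rw [hKi]
      apply Nat.Coprime.pow_right
      have hd : orderOf y ∣ 3 := orderOf_dvd_of_pow_eq_one hy
      exact Nat.Coprime.coprime_dvd_left hd (by norm_num)
    have hle : Γ ≤ K.map Γ.subtype := by
      refine (Subgroup.closure_le _).2 ?_
      intro y hy
      simp only [Set.mem_insert_iff, Set.mem_singleton_iff] at hy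
      rcases hy with rfl | rfl
      · exact ⟨⟨w, hwΓ⟩, hmemK _ (Subtype.ext (by simpa using hw3)), rfl⟩
      · exact ⟨⟨w', hw'Γ⟩, hmemK _ (Subtype.ext (by simpa using hw'3)), rfl⟩
    have hKtop : K = ⊤ := by
      rw [eq_top_iff]
      intro y _
      obtain ⟨z, hz, hzy⟩ := hle y.2
      have : z = y := Subtype.ext hzy
      rwa [← this]
    rw [hKtop, Subgroup.card_top] at hKc
    have : 2 ∣ Nat.card Γ := by
      rcases hord with h' | h' | h' <;> rw [h'] <;> norm_num
    have := Nat.Coprime.eq_one_of_dvd hKc.symm this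
    omega
  have huΓ : UniqueInvolution Γ := uniqueInvolution h Γ
  obtain ⟨Q', θ', g', hg'N, hg'o, hg'C⟩ := exists_active_Q8 huΓ hnpcΓ
  obtain ⟨t', s', -, -, hpre'⟩ := exists_preBasic Q' θ' g' hg'N hg'o hg'C
  -- transfer to `G`
  have hpreG : PreBasic (t' : G) (s' : G) (g' : G) := by
    refine ⟨⟨?_, ?_, ?_, ?_⟩, ?_, ?_⟩
    · have := congrArg Subtype.val hpre'.t4; simpa using this
    · intro h1
      apply hpre'.t2
      exact Subtype.ext (by simpa using h1)
    · have := congrArg Subtype.val hpre'.s2; simpa using this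
    · have := congrArg Subtype.val hpre'.st; simpa using this
    · have := congrArg Subtype.val hpre'.gt; simpa using this
    · have := congrArg Subtype.val hpre'.gs; simpa using this
  have hord15 : orderOf (g' : G) ∣ 15 := by
    apply odd_dvd_fifteen hord
    · rw [Subgroup.orderOf_coe]; exact orderOf_dvd_natCard g'
    · rw [Subgroup.orderOf_coe]; exact Nat.Coprime.odd_of_right hg'o
  have h3' : ¬ 3 ∣ orderOf ((g' : G) ^ 3) := by
    have h15 : ((g' : G) ^ 3) ^ 5 = 1 := by
      rw [← pow_mul]; exact orderOf_dvd_iff_pow_eq_one.1 hord15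
    have hd : orderOf ((g' : G) ^ 3) ∣ 5 := orderOf_dvd_of_pow_eq_one h15
    intro h3
    have : 3 ∣ 5 := h3.trans hd
    omega
  obtain ⟨e, he⟩ := hpreG.exists_basic (isOfFinOrder_of_finite _) h3'
  exact ⟨t', s', (g' : G) ^ e, he⟩

end Cfsg.Agent.Lib.Helper12_FpfExist
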