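import Mathlib

/-!
# Homomorphisms out of the generalized quaternion (dicyclic) groups

`quatLift A X hA hX hAX : QuaternionGroup n →* M` sends `a i ↦ A ^ i.val`, `xa i ↦ X * A ^ i.val`,
for elements `A X` of a monoid with `A ^ (2 n) = 1`, `X * X = A ^ n`, `A * X * A = X`.
-/

set_option autoImplicit false

namespace Cfsg.Agent.Lib.Helper71_QuatLift

open QuaternionGroup

variable {M : Type*} [Monoid M] {n : ℕ} [NeZero n]

section lemmas

variable (A X : M) (hA : A ^ (2 * n) = 1) (hAX : A * X * A = X)

include hA in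
lemma pow_val_add (i j : ZMod (2 * n)) : A ^ (i + j).val = A ^ i.val * A ^ j.val := by
  rw [ZMod.val_add, ← pow_eq_pow_mod _ hA, pow_add]

include hA in
lemma pow_val_neg (i : ZMod (2 * n)) : A ^ i.val * A ^ (-i).val = 1 := by
  rw [← pow_val_add A hA, add_neg_cancel, ZMod.val_zero, pow_zero]

include hAX in
lemma pow_mul_mul_pow (k : ℕ) : A ^ k * X * A ^ k = X := by
  induction k with
  | zero => simp
  | succ k ih =>
    calc A ^ (k + 1) * X * A ^ (k + 1) = (A ^ k * A) * X * (A * A ^ k) := by
          rw [← pow_succ, ← pow_succ']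
      _ = A ^ k * (A * X * A) * A ^ k := by simp only [mul_assoc]
      _ = X := by rw [hAX, ih]

include hA hAX in
lemma pow_mul_X (i : ZMod (2 * n)) : A ^ i.val * X = X * A ^ (-i).val := by
  calc A ^ i.val * X = A ^ i.val * X * (A ^ i.val * A ^ (-i).val) := by
        rw [pow_val_neg A hA, mul_one]
    _ = (A ^ i.val * X * A ^ i.val) * A ^ (-i).val := by simp only [mul_assoc]
    _ = X * A ^ (-i).val := by rw [pow_mul_mul_pow A X hAX]

end lemmas

/-- the homomorphism `QuaternionGroup n →* M` determined by `a 1 ↦ A`, `xa 0 ↦ X`. -/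
def quatLift (A X : M) (hA : A ^ (2 * n) = 1) (hX : X * X = A ^ n) (hAX : A * X * A = X) :
    QuaternionGroup n →* M where
  toFun
    | a i => A ^ i.val
    | xa i => X * A ^ i.val
  map_one' := by
    rw [one_def]
    simp
  map_mul' := by
    have hn : A ^ n = A ^ ((n : ℕ) : ZMod (2 * n)).val := by
      rw [ZMod.val_natCast, Nat.mod_eq_of_lt]
      have := NeZero.pos n
      omega
    rintro (i | i) (j | j)
    · simp only [a_mul_a]
      exact pow_val_add A hA i j
    · simp only [a_mul_xa]
      rw [← mul_assoc, pow_mul_X A X hA hAX, mul_assoc, ← pow_val_add A hA, neg_add_eq_sub]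
    · simp only [xa_mul_a]
      rw [mul_assoc, ← pow_val_add A hA]
    · simp only [xa_mul_xa]
      calc A ^ ((n : ZMod (2 * n)) + j - i).val
          = A ^ ((n : ZMod (2 * n)) + (-i + j)).val := by congr 2; ring
        _ = A ^ n * (A ^ (-i).val * A ^ j.val) := by
            rw [pow_val_add A hA, pow_val_add A hA, ← hn]
        _ = X * X * (A ^ (-i).val * A ^ j.val) := by rw [hX]
        _ = X * (X * A ^ (-i).val) * A ^ j.val := by simp only [mul_assoc]
        _ = X * (A ^ i.val * X) * A ^ j.val := by rw [pow_mul_X A X hA hAX]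
        _ = X * A ^ i.val * (X * A ^ j.val) := by simp only [mul_assoc]

@[simp] lemma quatLift_a (A X : M) (hA : A ^ (2 * n) = 1) (hX : X * X = A ^ n)
    (hAX : A * X * A = X) (i : ZMod (2 * n)) : quatLift A X hA hX hAX (a i) = A ^ i.val := rfl

@[simp] lemma quatLift_xa (A X : M) (hA : A ^ (2 * n) = 1) (hX : X * X = A ^ n)
    (hAX : A * X * A = X) (i : ZMod (2 * n)) :
    quatLift A X hA hX hAX (xa i) = X * A ^ i.val := rfl

end Cfsg.Agent.Lib.Helper71_QuatLift
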