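import Mathlib
import Cfsg.Agent.Lib.Helper12_FpfQuat
import Cfsg.Agent.Lib.Helper71_QuatLift

set_option autoImplicit false
set_option linter.unusedSimpArgs false
set_option linter.unusedSectionVars false

namespace Cfsg.Agent.Lib.Helper12_FpfQ8

open Cfsg.Agent.Lib.Helper12_FpfQuat Cfsg.Agent.Lib.Helper71_QuatLift QuaternionGroup

variable {G : Type*} [Group G]

/-- facts about the quaternion group of order eight -/
theorem q8_pow_four : ∀ q : QuaternionGroup 2, q ^ 4 = 1 := by decide

theorem q8_sq : ∀ q : QuaternionGroup 2, q ≠ 1 → q = a 2 ∨ q ^ 2 = a 2 := by decide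

theorem q8_a_two : (a 2 : QuaternionGroup 2) = (a 1) ^ 2 := by decide

end Cfsg.Agent.Lib.Helper12_FpfQ8

namespace Cfsg.Agent.Lib.Helper12_FpfQuat

open Cfsg.Agent.Lib.Helper12_FpfQ8 Cfsg.Agent.Lib.Helper71_QuatLift QuaternionGroup

namespace QPair

variable {G : Type*} [Group G] {t s : G}

/-- the homomorphism from the quaternion group of order eight attached to a quaternion pair -/
noncomputable def lift (hq : QPair t s) : QuaternionGroup 2 →* G :=
  quatLift t s (by simpa using hq.t4) (by rw [← pow_two]; exact hq.s2) hq.tst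

theorem lift_a (hq : QPair t s) (i : ZMod (2 * 2)) : hq.lift (a i) = t ^ i.val := rfl

theorem lift_xa (hq : QPair t s) (i : ZMod (2 * 2)) : hq.lift (xa i) = s * t ^ i.val := rfl

theorem lift_a_one (hq : QPair t s) : hq.lift (a 1) = t := by
  have h1 : (1 : ZMod (2 * 2)).val = 1 := rfl
  rw [lift_a, h1, pow_one]

theorem lift_xa_zero (hq : QPair t s) : hq.lift (xa 0) = s := by
  have h0 : (0 : ZMod (2 * 2)).val = 0 := rfl
  rw [lift_xa, h0, pow_zero, mul_one]

theorem lift_injective (hq : QPair t s) : Function.Injective hq.lift := by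
  rw [injective_iff_map_eq_one]
  intro q hq1
  by_contra hne
  have h2 : hq.lift (a 2) = 1 := by
    rcases q8_sq q hne with h | h
    · rw [← h]; exact hq1
    · rw [← h, map_pow, hq1, one_pow]
  apply hq.t2
  rw [q8_a_two, map_pow, lift_a_one] at h2
  exact h2

theorem closure_eq_range (hq : QPair t s) : Subgroup.closure {t, s} = hq.lift.range := by
  apply le_antisymm
  · rw [Subgroup.closure_le]
    intro g hg
    simp only [Set.mem_insert_iff, Set.mem_singleton_iff] at hg
    rcases hg with rfl | rfl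
    · exact ⟨a 1, hq.lift_a_one⟩
    · exact ⟨xa 0, hq.lift_xa_zero⟩
  · rintro _ ⟨q, rfl⟩
    have ht : t ∈ Subgroup.closure {t, s} := Subgroup.subset_closure (by simp)
    have hs : s ∈ Subgroup.closure {t, s} := Subgroup.subset_closure (by simp)
    rcases q with i | i
    · rw [lift_a]; exact Subgroup.pow_mem _ ht _
    · rw [lift_xa]; exact Subgroup.mul_mem _ hs (Subgroup.pow_mem _ ht _)

theorem pow_four_of_mem (hq : QPair t s) {g : G} (hg : g ∈ Subgroup.closure {t, s}) :
    g ^ 4 = 1 := by
  rw [hq.closure_eq_range] at hg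
  obtain ⟨q, rfl⟩ := hg
  rw [← map_pow, q8_pow_four, map_one]

theorem mem_cases (hq : QPair t s) {g : G} (hg : g ∈ Subgroup.closure {t, s}) :
    (∃ i : ℕ, g = t ^ i) ∨ ∃ i : ℕ, g = s * t ^ i := by
  rw [hq.closure_eq_range] at hg
  obtain ⟨q, rfl⟩ := hg
  rcases q with i | i
  · left; exact ⟨i.val, rfl⟩
  · right; exact ⟨i.val, rfl⟩

theorem isPGroup (hq : QPair t s) : IsPGroup 2 (Subgroup.closure {t, s}) := by
  intro g
  refine ⟨2, ?_⟩
  apply Subtype.ext
  have := hq.pow_four_of_mem g.2
  simpa using this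

/-- the subgroup generated by a quaternion pair is the quaternion group of order eight -/
noncomputable def equiv (hq : QPair t s) :
    ↥(Subgroup.closure {t, s}) ≃* QuaternionGroup 2 :=
  ((MulEquiv.subgroupCongr hq.closure_eq_range).trans
    (MonoidHom.ofInjective hq.lift_injective).symm)

theorem card_closure (hq : QPair t s) : Nat.card (Subgroup.closure {t, s}) = 8 := by
  rw [Nat.card_congr hq.equiv.toEquiv, Nat.card_eq_fintype_card, QuaternionGroup.card]

end QPair

end Cfsg.Agent.Lib.Helper12_FpfQuat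

namespace Cfsg.Agent.Lib.Helper12_FpfQ8

open Cfsg.Agent.Lib.Helper12_FpfQuat Cfsg.Agent.Lib.Helper71_QuatLift QuaternionGroup

/-- **structure of generalized quaternion groups**: the cyclic maximal subgroup -/
theorem exists_cyclic_max {S : Type*} [Group S] {M : ℕ} [NeZero M]
    (e : S ≃* QuaternionGroup M) :
    ∃ α : S, orderOf α = 2 * M ∧ (∀ g : S, g ∈ Subgroup.zpowers α ∨ g * α * g⁻¹ = α⁻¹) ∧
      ∀ g g' : S, g ∉ Subgroup.zpowers α → g' ∉ Subgroup.zpowers α →
        g * g' ∈ Subgroup.zpowers α := by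
  refine ⟨e.symm (a 1), ?_, ?_, ?_⟩
  · rw [MulEquiv.orderOf_eq, orderOf_a_one]
  · intro g
    rcases hg : e g with i | i
    · left
      have : g = e.symm (a 1) ^ i.val := by
        rw [← map_pow, a_one_pow, ZMod.natCast_zmod_val, ← hg, MulEquiv.symm_apply_apply]
      rw [this]
      exact Subgroup.pow_mem _ (Subgroup.mem_zpowers _) _
    · right
      apply e.injective
      rw [map_mul, map_mul, map_inv, map_inv, MulEquiv.apply_symm_apply, hg]
      have : (xa i : QuaternionGroup M) * a 1 * (xa i)⁻¹ = a (-1) := by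
        rw [xa_mul_a, mul_inv_eq_iff_eq_mul, a_mul_xa]
        congr 1
        ring
      rw [this]
      symm
      rw [inv_eq_iff_mul_eq_one, a_mul_a, one_def]
      congr 1
      ring
  · intro g g' hg hg'
    have key : ∀ y : S, y ∉ Subgroup.zpowers (e.symm (a 1)) → ∃ i, e y = xa i := by
      intro y hy
      rcases hy' : e y with i | i
      · exfalso
        apply hy
        have : y = e.symm (a 1) ^ i.val := by
          rw [← map_pow, a_one_pow, ZMod.natCast_zmod_val, ← hy', MulEquiv.symm_apply_apply]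
        rw [this]
        exact Subgroup.pow_mem _ (Subgroup.mem_zpowers _) _
      · exact ⟨i, rfl⟩
    obtain ⟨i, hi⟩ := key g hg
    obtain ⟨j, hj⟩ := key g' hg'
    have : g * g' = e.symm (a 1) ^ ((M : ZMod (2 * M)) + j - i).val := by
      apply e.injective
      rw [map_mul, hi, hj, xa_mul_xa, map_pow, MulEquiv.apply_symm_apply, a_one_pow,
        ZMod.natCast_zmod_val]
    rw [this]
    exact Subgroup.pow_mem _ (Subgroup.mem_zpowers _) _

end Cfsg.Agent.Lib.Helper12_FpfQ8
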