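import Mathlib
import Cfsg.Prelude.Def_Transfer

/-!
# Sign of the permutation action on cosets (helper55)

`cosetSign H : G →* ℤˣ` is the sign of the left-multiplication action of `G` on `G ⧸ H`.
Main lemma `cosetSign_eq_neg_one`: if `[G:H] = 2^(m+1) * r` with `r` odd, `c` has order
`2^(m+1)` and the involution `c^(2^m)` has no conjugate in `H`, then `c` is an odd permutation of
`G ⧸ H`; hence (`exists_index_two_of_sign`) `G` has a normal subgroup of index `2` missing `c`.
This is a transfer-free form of (generalised) Thompson transfer.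
-/

set_option autoImplicit false

namespace Cfsg.Agent.Lib.Helper55_CosetSign

open Equiv

variable {G : Type*} [Group G]

/-- The sign of the action of `G` on the cosets of `H`. -/
noncomputable def cosetSign [Finite G] (H : Subgroup G) : G →* ℤˣ :=
  (@Equiv.Perm.sign (G ⧸ H) (Classical.decEq _) (Fintype.ofFinite _)).comp
    (MulAction.toPermHom G (G ⧸ H))

theorem cosetSign_apply [Finite G] (H : Subgroup G) (g : G) :
    cosetSign H g = @Equiv.Perm.sign (G ⧸ H) (Classical.decEq _) (Fintype.ofFinite _)
      (MulAction.toPermHom G (G ⧸ H) g) := rfl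

/-- A permutation of order dividing `2^(m+1)` whose `2^m`-th power has no fixed point, on a set of
size `2^(m+1) * r` with `r` odd, is odd. -/
theorem sign_eq_neg_one_of_free {α : Type*} [Fintype α] [DecidableEq α] (σ : Perm α) (m r : ℕ)
    (hcard : Fintype.card α = 2 ^ (m + 1) * r) (hr : Odd r)
    (hσ : σ ^ (2 ^ (m + 1)) = 1) (hfree : ∀ x : α, (σ ^ (2 ^ m)) x ≠ x) :
    Perm.sign σ = -1 := by
  have hall : ∀ n ∈ σ.cycleType, n = 2 ^ (m + 1) := by
    intro n hn
    have h1 : n ∣ 2 ^ (m + 1) := (Perm.dvd_of_mem_cycleType hn).trans (orderOf_dvd_of_pow_eq_one hσ)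
    obtain ⟨j, hj, rfl⟩ := (Nat.dvd_prime_pow Nat.prime_two).1 h1
    by_contra hne
    have hjm : j ≤ m := by
      rcases Nat.lt_or_ge m j with h | h
      · exfalso; apply hne
        have : j = m + 1 := by omega
        rw [this]
      · exact h
    rw [Perm.cycleType_def, Multiset.mem_map] at hn
    obtain ⟨τ, hτ, hτn⟩ := hn
    have hτ' : τ ∈ σ.cycleFactorsFinset := hτ
    have hcyc : τ.IsCycle := (Perm.mem_cycleFactorsFinset_iff.1 hτ').1
    have hne' : τ.support.Nonempty := by
      rw [Finset.nonempty_iff_ne_empty]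
      intro h
      rw [Perm.support_eq_empty_iff] at h
      exact hcyc.ne_one h
    obtain ⟨x, hx⟩ := hne'
    have hτeq : τ = σ.cycleOf x := Perm.cycle_is_cycleOf hx hτ'
    have hord : orderOf τ = 2 ^ j := by
      rw [hcyc.orderOf]; exact hτn
    have h2 : (σ ^ (2 ^ j)) x = x := by
      rw [← Perm.cycleOf_pow_apply_self, ← hτeq, ← hord, pow_orderOf_eq_one]
      rfl
    apply hfree x
    obtain ⟨k, hk⟩ : (2 : ℕ) ^ j ∣ 2 ^ m := pow_dvd_pow 2 hjm
    rw [hk, pow_mul]
    have : ∀ i : ℕ, ((σ ^ (2 ^ j)) ^ i) x = x := by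
      intro i
      induction i with
      | zero => simp
      | succ i ih => rw [pow_succ, Perm.mul_apply, h2, ih]
    exact this k
  have hrep : σ.cycleType = Multiset.replicate (Multiset.card σ.cycleType) (2 ^ (m + 1)) :=
    Multiset.eq_replicate.2 ⟨rfl, hall⟩
  have hsupp : σ.support = Finset.univ := by
    ext x
    simp only [Perm.mem_support, Finset.mem_univ, iff_true]
    intro hx
    apply hfree x
    have : ∀ i : ℕ, (σ ^ i) x = x := by
      intro i
      induction i with
      | zero => simp
      | succ i ih => rw [pow_succ, Perm.mul_apply, hx, ih]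
    exact this _
  have hsum : σ.cycleType.sum = 2 ^ (m + 1) * r := by
    rw [Perm.sum_cycleType, hsupp, Finset.card_univ, hcard]
  have hcardr : Multiset.card σ.cycleType = r := by
    have h3 : σ.cycleType.sum = Multiset.card σ.cycleType * 2 ^ (m + 1) := by
      conv_lhs => rw [hrep]
      rw [Multiset.sum_replicate, smul_eq_mul]
    rw [hsum, mul_comm] at h3
    exact (Nat.eq_of_mul_eq_mul_right (by positivity) h3).symm
  rw [Perm.sign_of_cycleType, hsum, hcardr]
  have hodd : Odd (2 ^ (m + 1) * r + r) := by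
    have : Even (2 ^ (m + 1) * r) := by
      rw [pow_succ]
      exact (even_two.mul_left _).mul_right _
    exact this.add_odd hr
  exact hodd.neg_one_pow

/-- **Sign form of Thompson transfer.** -/
theorem cosetSign_eq_neg_one [Finite G] (H : Subgroup G) (m r : ℕ)
    (hidx : H.index = 2 ^ (m + 1) * r) (hr : Odd r) (c : G) (hc : c ^ (2 ^ (m + 1)) = 1)
    (hz : ∀ g : G, g⁻¹ * c ^ (2 ^ m) * g ∉ H) : cosetSign H c = -1 := by
  rw [cosetSign_apply]
  refine @sign_eq_neg_one_of_free (G ⧸ H) (Fintype.ofFinite _) (Classical.decEq _)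
    (MulAction.toPermHom G (G ⧸ H) c) m r ?_ hr ?_ ?_
  · rw [← hidx, Subgroup.index]
    exact (@Nat.card_eq_fintype_card _ (Fintype.ofFinite _)).symm
  · rw [← map_pow, hc, map_one]
  · intro x
    induction x using QuotientGroup.induction_on with
    | H g =>
      rw [← map_pow]
      intro h
      have h' : ((c ^ 2 ^ m * g : G) : G ⧸ H) = (g : G ⧸ H) := h
      rw [QuotientGroup.eq] at h'
      apply hz g
      have := H.inv_mem h'
      simpa [mul_assoc] using this

/-- The kernel of a surjective sign-valued homomorphism has index `2`. -/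
theorem index_ker_of_apply_eq_neg_one [Finite G] (ψ : G →* ℤˣ) (c : G) (hc : ψ c = -1) :
    ψ.ker.index = 2 := by
  rw [Subgroup.index_ker]
  have hsurj : Function.Surjective ψ := by
    intro u
    rcases Int.units_eq_one_or u with rfl | rfl
    · exact ⟨1, map_one ψ⟩
    · exact ⟨c, hc⟩
  have : ψ.range = ⊤ := MonoidHom.range_eq_top.2 hsurj
  rw [this]
  simp [Nat.card_eq_fintype_card]

/-- Every subgroup of index `2` contains all elements of odd order, hence `O^2(G)`. -/
theorem pResidual_le_of_index_two (N : Subgroup G) (hN : N.index = 2) :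
    Cfsg.pResidual 2 G ≤ N := by
  unfold Cfsg.pResidual
  rw [Subgroup.closure_le]
  intro g hg
  have hg' : Nat.Coprime (orderOf g) 2 := hg
  have hodd : Odd (orderOf g) := Nat.Coprime.odd_of_right hg'
  obtain ⟨k, hk⟩ := hodd
  have h1 : g ^ (2 * k + 1) = 1 := by rw [← hk]; exact pow_orderOf_eq_one g
  have h2 : (g ^ k) * (g ^ k) ∈ N := Subgroup.mul_self_mem_of_index_two hN _
  have h3 : g = ((g ^ k) * (g ^ k))⁻¹ := by
    rw [eq_inv_iff_mul_eq_one, ← pow_add, ← pow_succ']
    rw [show k + k + 1 = 2 * k + 1 by ring]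
    exact h1
  rw [SetLike.mem_coe, h3]
  exact N.inv_mem h2

/-- `O^2` of a subgroup containing all odd-order elements is `O^2` of the group. -/
theorem map_pResidual_subtype (N : Subgroup G) (hN : Cfsg.pResidual 2 G ≤ N) :
    (Cfsg.pResidual 2 ↥N).map N.subtype = Cfsg.pResidual 2 G := by
  unfold Cfsg.pResidual at hN ⊢
  rw [MonoidHom.map_closure]
  congr 1
  ext g
  simp only [Set.mem_image, Set.mem_ofPred_eq, Subgroup.coe_subtype]
  constructor
  · rintro ⟨k, hk, rfl⟩
    rwa [Subgroup.orderOf_coe]
  · intro hg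
    have hgN : g ∈ N := hN (Subgroup.subset_closure hg)
    refine ⟨⟨g, hgN⟩, ?_, rfl⟩
    rw [← Subgroup.orderOf_coe]
    exact hg

/-- **Iterated sign argument.** If `[G:T] = 2^m * r` (`r` odd), `c` has order dividing `2^m`, the
involution of `⟨c⟩` has no conjugate in `T`, and `T ≤ O^2(G)`, then `T` has odd index in
`O^2(G)`. -/
theorem not_two_dvd_relIndex_pResidual.{u} (m : ℕ) :
    ∀ {G : Type u} [Group G] [Finite G] (T : Subgroup G) (c : G) (r : ℕ), Odd r →
      T.index = 2 ^ m * r → c ^ (2 ^ m) = 1 →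
      (∀ k, m = k + 1 → ∀ g : G, g⁻¹ * c ^ (2 ^ k) * g ∉ T) →
      T ≤ Cfsg.pResidual 2 G → ¬ 2 ∣ T.relIndex (Cfsg.pResidual 2 G) := by
  induction m with
  | zero =>
    intro G _ _ T c r hr hidx _ _ hT
    have h1 : T.relIndex (Cfsg.pResidual 2 G) ∣ T.index := Subgroup.relIndex_dvd_index_of_le hT
    rw [hidx, pow_zero, one_mul] at h1
    intro h2
    have : ¬ 2 ∣ r := by
      rw [← even_iff_two_dvd, Nat.not_even_iff_odd]; exact hr
    exact this (h2.trans h1)
  | succ m ih =>
    intro G _ _ T c r hr hidx hc hz hT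
    have hsign : cosetSign T c = -1 :=
      cosetSign_eq_neg_one T m r hidx hr c hc (hz m rfl)
    obtain ⟨N, hNdef⟩ : ∃ N : Subgroup G, N = (cosetSign T).ker := ⟨_, rfl⟩
    have hNidx : N.index = 2 := by
      rw [hNdef]; exact index_ker_of_apply_eq_neg_one _ c hsign
    have hRN : Cfsg.pResidual 2 G ≤ N := pResidual_le_of_index_two N hNidx
    have hTN : T ≤ N := hT.trans hRN
    have hc2 : c ^ 2 ∈ N := by
      rw [pow_two]; exact Subgroup.mul_self_mem_of_index_two hNidx _
    have hmap := map_pResidual_subtype N hRN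
    have hrel : (T.subgroupOf N).relIndex (Cfsg.pResidual 2 ↥N) =
        T.relIndex (Cfsg.pResidual 2 G) := by
      have := Subgroup.relIndex_comap (H := T) N.subtype (Cfsg.pResidual 2 ↥N)
      rw [hmap] at this
      exact this
    rw [← hrel]
    apply ih (T.subgroupOf N) ⟨c ^ 2, hc2⟩ r hr
    · -- index
      have h1 : (T.subgroupOf N).index = T.relIndex N := rfl
      have h2 : T.relIndex N * N.index = T.index := Subgroup.relIndex_mul_index hTN
      rw [h1]
      rw [hNidx, hidx, pow_succ, mul_assoc, mul_comm 2 r, ← mul_assoc] at h2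
      exact Nat.eq_of_mul_eq_mul_right (by norm_num) h2
    · apply Subtype.ext
      simp only [Subgroup.coe_pow, Subgroup.coe_one]
      rw [← pow_mul, ← pow_succ']
      exact hc
    · intro k hk g
      rw [Subgroup.mem_subgroupOf]
      simp only [Subgroup.coe_mul, Subgroup.coe_inv, Subgroup.coe_pow]
      rw [← pow_mul, ← pow_succ', ← hk]
      exact hz m rfl (g : G)
    · intro x hx
      rw [Subgroup.mem_subgroupOf] at hx
      have : (x : G) ∈ (Cfsg.pResidual 2 ↥N).map N.subtype := by
        rw [hmap]; exact hT hx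
      obtain ⟨y, hy, hyx⟩ := this
      have : y = x := Subtype.ext hyx
      rwa [← this]

/-- Relative version of `not_two_dvd_relIndex_pResidual`, inside a subgroup `N ⊇ O^2(G)`. -/
theorem not_two_dvd_relIndex_pResidual_of_le [Finite G] (N T : Subgroup G) (c : G) (m r : ℕ)
    (hN : Cfsg.pResidual 2 G ≤ N) (hT : T ≤ Cfsg.pResidual 2 G) (hcN : c ∈ N) (hr : Odd r)
    (hidx : T.relIndex N = 2 ^ m * r) (hc : c ^ (2 ^ m) = 1)
    (hz : ∀ k, m = k + 1 → ∀ g : G, g⁻¹ * c ^ (2 ^ k) * g ∉ T) :
    ¬ 2 ∣ T.relIndex (Cfsg.pResidual 2 G) := by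
  have hmap := map_pResidual_subtype N hN
  have hrel : (T.subgroupOf N).relIndex (Cfsg.pResidual 2 ↥N) =
      T.relIndex (Cfsg.pResidual 2 G) := by
    have := Subgroup.relIndex_comap (H := T) N.subtype (Cfsg.pResidual 2 ↥N)
    rw [hmap] at this
    exact this
  rw [← hrel]
  apply not_two_dvd_relIndex_pResidual m (T.subgroupOf N) ⟨c, hcN⟩ r hr
  · exact hidx
  · apply Subtype.ext
    simp only [Subgroup.coe_pow, Subgroup.coe_one]
    exact hc
  · intro k hk g
    rw [Subgroup.mem_subgroupOf]
    simp only [Subgroup.coe_mul, Subgroup.coe_inv, Subgroup.coe_pow]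
    exact hz k hk (g : G)
  · intro x hx
    rw [Subgroup.mem_subgroupOf] at hx
    have : (x : G) ∈ (Cfsg.pResidual 2 ↥N).map N.subtype := by
      rw [hmap]; exact hT hx
    obtain ⟨y, hy, hyx⟩ := this
    have : y = x := Subtype.ext hyx
    rwa [← this]

/-- A subgroup `L` with `O^2(L) = L` lies in `O^2(G)`. -/
theorem le_pResidual_of_pResidual_eq_top (L : Subgroup G) (hL : Cfsg.pResidual 2 ↥L = ⊤) :
    L ≤ Cfsg.pResidual 2 G := by
  have h1 : L = (Cfsg.pResidual 2 ↥L).map L.subtype := by
    rw [hL, ← MonoidHom.range_eq_map, Subgroup.range_subtype]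
  rw [h1]
  unfold Cfsg.pResidual
  rw [MonoidHom.map_closure]
  apply Subgroup.closure_mono
  rintro _ ⟨k, hk, rfl⟩
  have hk' : Nat.Coprime (orderOf k) 2 := hk
  show Nat.Coprime (orderOf (L.subtype k)) 2
  rwa [Subgroup.coe_subtype, Subgroup.orderOf_coe]

/-- In a dihedral group, every element outside a cyclic subgroup of index `2` is an involution. -/
theorem DihedralGroup.orderOf_eq_two_of_not_mem {n : ℕ} (hn : 2 ≤ n)
    (C : Subgroup (DihedralGroup n)) (hC : IsCyclic ↥C) (hidx : C.index = 2)
    (y : DihedralGroup n) (hy : y ∉ C) : orderOf y = 2 := by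
  have : NeZero n := ⟨by omega⟩
  have hcardC : Nat.card ↥C = n := by
    have h := C.card_mul_index
    rw [hidx, DihedralGroup.nat_card] at h
    omega
  cases y with
  | sr i => exact DihedralGroup.orderOf_sr i
  | r i =>
    obtain ⟨g, hg⟩ := hC.exists_generator
    have hgord : orderOf (g : DihedralGroup n) = n := by
      rw [Subgroup.orderOf_coe, orderOf_eq_card_of_forall_mem_zpowers hg, hcardC]
    obtain ⟨g0, hg0C⟩ := g
    cases g0 with
    | sr j =>
      simp only at hgord
      rw [DihedralGroup.orderOf_sr] at hgord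
      subst hgord
      -- n = 2 : every nonidentity element is an involution
      have hi : i = 0 ∨ i = 1 := by
        fin_cases i
        · left; rfl
        · right; rfl
      rcases hi with rfl | rfl
      · exfalso; apply hy
        have : (DihedralGroup.r (0 : ZMod 2)) = 1 := rfl
        rw [this]; exact C.one_mem
      · exact DihedralGroup.orderOf_r_one
    | r j =>
      exfalso; apply hy
      simp only at hgord
      -- `zpowers (r j)` equals the rotation subgroup `zpowers (r 1)`
      have hle : Subgroup.zpowers (DihedralGroup.r j) ≤ Subgroup.zpowers (DihedralGroup.r (1 : ZMod n)) := by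
        rw [Subgroup.zpowers_le]
        refine ⟨(j.val : ℤ), ?_⟩
        show DihedralGroup.r (1 : ZMod n) ^ (j.val : ℤ) = DihedralGroup.r j
        rw [zpow_natCast, DihedralGroup.r_one_pow, ZMod.natCast_zmod_val]
      have hcard1 : Nat.card (Subgroup.zpowers (DihedralGroup.r j)) = n := by
        rw [Nat.card_zpowers, hgord]
      have hcard2 : Nat.card (Subgroup.zpowers (DihedralGroup.r (1 : ZMod n))) = n := by
        rw [Nat.card_zpowers, DihedralGroup.orderOf_r_one]
      have heq : Subgroup.zpowers (DihedralGroup.r j) = Subgroup.zpowers (DihedralGroup.r (1 : ZMod n)) :=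
        Subgroup.eq_of_le_of_card_ge hle (by rw [hcard1, hcard2])
      have hmem : DihedralGroup.r i ∈ Subgroup.zpowers (DihedralGroup.r j) := by
        rw [heq]
        refine ⟨(i.val : ℤ), ?_⟩
        show DihedralGroup.r (1 : ZMod n) ^ (i.val : ℤ) = DihedralGroup.r i
        rw [zpow_natCast, DihedralGroup.r_one_pow, ZMod.natCast_zmod_val]
      have : Subgroup.zpowers (DihedralGroup.r j) ≤ C := by
        rw [Subgroup.zpowers_le]; exact hg0C
      exact this hmem

end Cfsg.Agent.Lib.Helper55_CosetSign
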