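import Mathlib
import Cfsg.Agent.Lib.Helper12_FpfLin
import Cfsg.Agent.Lib.Helper12_FpfQuat
import Cfsg.Agent.Lib.Helper12_FpfPlanar
import Cfsg.Agent.Lib.Helper12_FpfSylow
import Cfsg.Agent.Lib.Helper12_PerfectTools
import Cfsg.Agent.Lib.Helper12_FpfE45
import Cfsg.Agent.Lib.Helper12_FpfBasic
import Cfsg.Agent.Lib.Helper12_FpfQ8
import Cfsg.Agent.Lib.Helper50_UniqueInv2
import Cfsg.Agent.Lib.Helper33_Alperin
import Cfsg.Agent.Lib.Helper55_CosetSign

set_option autoImplicit false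
set_option linter.unusedSimpArgs false
set_option linter.unusedSectionVars false

namespace Cfsg.Agent.Lib.Helper12_FpfQuat

variable {G : Type*} [Group G] {t s x : G}

/-- conjugate of a quaternion pair -/
theorem QPair.conj (h : QPair t s) (c : G) : QPair (c * t * c⁻¹) (c * s * c⁻¹) where
  t4 := by rw [conj_pow, h.t4, mul_one, mul_inv_cancel]
  t2 := by rw [conj_pow]; intro h1; exact h.t2 (conj_eq_one_iff.1 h1)
  s2 := by rw [conj_pow, conj_pow, h.s2]
  st := by
    calc c * s * c⁻¹ * (c * t * c⁻¹) * (c * s * c⁻¹)⁻¹ = c * (s * t * s⁻¹) * c⁻¹ := by simp only [pow_succ, pow_zero, one_mul, mul_one, mul_assoc, inv_mul_cancel_left, mul_inv_cancel_left, mul_inv_rev, inv_inv, mul_inv_cancel, inv_mul_cancel]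
      _ = (c * t * c⁻¹)⁻¹ := by rw [h.st]; simp only [pow_succ, pow_zero, one_mul, mul_one, mul_assoc, inv_mul_cancel_left, mul_inv_cancel_left, mul_inv_rev, inv_inv, mul_inv_cancel, inv_mul_cancel]

/-- inverse of a quaternion pair -/
theorem QPair.inv (h : QPair t s) : QPair t⁻¹ s⁻¹ where
  t4 := by rw [inv_pow, h.t4, inv_one]
  t2 := by rw [inv_pow]; intro h1; exact h.t2 (inv_eq_one.1 h1)
  s2 := by rw [inv_pow, inv_pow, h.s2]
  st := by
    calc s⁻¹ * t⁻¹ * (s⁻¹)⁻¹ = s⁻¹ * (s * t * s⁻¹) * s := by rw [h.st, inv_inv]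
      _ = (t⁻¹)⁻¹ := by simp only [pow_succ, pow_zero, one_mul, mul_one, mul_assoc, inv_mul_cancel_left, mul_inv_cancel_left, mul_inv_rev, inv_inv, mul_inv_cancel, inv_mul_cancel]

/-- conjugate of a basic triple -/
theorem Basic.conj (h : Basic t s x) (c : G) :
    Basic (c * t * c⁻¹) (c * s * c⁻¹) (c * x * c⁻¹) where
  toQPair := h.toQPair.conj c
  x3 := by rw [conj_pow, h.x3, mul_one, mul_inv_cancel]
  xt := by
    calc c * x * c⁻¹ * (c * t * c⁻¹) * (c * x * c⁻¹)⁻¹ = c * (x * t * x⁻¹) * c⁻¹ := by simp only [pow_succ, pow_zero, one_mul, mul_one, mul_assoc, inv_mul_cancel_left, mul_inv_cancel_left, mul_inv_rev, inv_inv, mul_inv_cancel, inv_mul_cancel]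
      _ = c * s * c⁻¹ := by rw [h.xt]
  xs := by
    calc c * x * c⁻¹ * (c * s * c⁻¹) * (c * x * c⁻¹)⁻¹ = c * (x * s * x⁻¹) * c⁻¹ := by simp only [pow_succ, pow_zero, one_mul, mul_one, mul_assoc, inv_mul_cancel_left, mul_inv_cancel_left, mul_inv_rev, inv_inv, mul_inv_cancel, inv_mul_cancel]
      _ = c * t * c⁻¹ * (c * s * c⁻¹) := by rw [h.xs]; simp only [pow_succ, pow_zero, one_mul, mul_one, mul_assoc, inv_mul_cancel_left, mul_inv_cancel_left, mul_inv_rev, inv_inv, mul_inv_cancel, inv_mul_cancel]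

end Cfsg.Agent.Lib.Helper12_FpfQuat

namespace Cfsg.Agent.Lib.Helper12_FpfSyl8

open Module Cfsg.Agent.Lib.Helper12_FpfLin Cfsg.Agent.Lib.Helper12_FpfQuat
  Cfsg.Agent.Lib.Helper12_FpfPlanar Cfsg.Agent.Lib.Helper12_FpfSylow
  Cfsg.Agent.Lib.Helper50_UniqueInv Cfsg.Agent.Lib.Helper12_PerfectTools
  Cfsg.Agent.Lib.Helper12_FpfE45 Cfsg.Agent.Lib.Helper12_FpfBasic
  Cfsg.Agent.Lib.Helper12_FpfQ8

section general

variable {G : Type*} [Group G]

/-- an element mapping a finite subgroup into itself normalizes it -/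
theorem mem_normalizer_of_conj_le (H : Subgroup G) [Finite H] {g : G}
    (hg : ∀ y ∈ H, g * y * g⁻¹ ∈ H) : g ∈ Subgroup.normalizer (H : Set G) := by
  rw [Subgroup.mem_normalizer_iff_map_conj_eq]
  apply Subgroup.eq_of_le_of_card_ge
  · rintro z ⟨w, hw, rfl⟩
    exact hg w hw
  · rw [Subgroup.card_map_of_injective (MulAut.conj g).injective]

/-- an element mapping a generating pair into the subgroup normalizes it -/
theorem mem_normalizer_closure_pair {t s g : G} [Finite (Subgroup.closure {t, s})]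
    (ht : g * t * g⁻¹ ∈ Subgroup.closure {t, s}) (hs : g * s * g⁻¹ ∈ Subgroup.closure {t, s}) :
    g ∈ Subgroup.normalizer (Subgroup.closure {t, s} : Set G) := by
  apply mem_normalizer_of_conj_le
  intro y hy
  induction hy using Subgroup.closure_induction with
  | mem y hy =>
    simp only [Set.mem_insert_iff, Set.mem_singleton_iff] at hy
    rcases hy with rfl | rfl
    · exact ht
    · exact hs
  | one => simp
  | mul a b _ _ ha hb =>
    have : g * (a * b) * g⁻¹ = (g * a * g⁻¹) * (g * b * g⁻¹) := by simp only [pow_succ, pow_zero, one_mul, mul_one, mul_assoc, inv_mul_cancel_left, mul_inv_cancel_left, mul_inv_rev, inv_inv, mul_inv_cancel, inv_mul_cancel]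
    rw [this]; exact Subgroup.mul_mem _ ha hb
  | inv a _ ha =>
    have : g * a⁻¹ * g⁻¹ = (g * a * g⁻¹)⁻¹ := by simp only [pow_succ, pow_zero, one_mul, mul_one, mul_assoc, inv_mul_cancel_left, mul_inv_cancel_left, mul_inv_rev, inv_inv, mul_inv_cancel, inv_mul_cancel]
    rw [this]; exact Subgroup.inv_mem _ ha

/-- normalizing a cyclic subgroup -/
theorem mem_normalizer_zpowers {g t : G} (h1 : g * t * g⁻¹ ∈ Subgroup.zpowers t)
    (h2 : g⁻¹ * t * g ∈ Subgroup.zpowers t) :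
    g ∈ Subgroup.normalizer (Subgroup.zpowers t : Set G) := by
  rw [Subgroup.mem_normalizer_iff]
  intro y
  constructor
  · rintro ⟨k, rfl⟩
    have : g * t ^ k * g⁻¹ = (g * t * g⁻¹) ^ k := by rw [conj_zpow]
    rw [this]; exact Subgroup.zpow_mem _ h1 _
  · rintro ⟨k, hk⟩
    have : y = (g⁻¹ * t * g) ^ k := by
      have h3 : (g⁻¹ * t * g) ^ k = g⁻¹ * t ^ k * g := by
        have := conj_zpow (a := g⁻¹) (b := t) (i := k)
        rw [inv_inv] at this
        exact this
      rw [h3]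
      have hk' : t ^ k = g * y * g⁻¹ := hk
      rw [hk']; simp only [pow_succ, pow_zero, one_mul, mul_one, mul_assoc, inv_mul_cancel_left, mul_inv_cancel_left, mul_inv_rev, inv_inv, mul_inv_cancel, inv_mul_cancel]
    rw [this]; exact Subgroup.zpow_mem _ h2 _

theorem coe_mem_zpowers_iff {S : Subgroup G} (a g : S) :
    (g : G) ∈ Subgroup.zpowers (a : G) ↔ g ∈ Subgroup.zpowers a := by
  constructor
  · rintro ⟨k, hk⟩
    refine ⟨k, Subtype.ext ?_⟩
    simpa using hk
  · rintro ⟨k, rfl⟩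
    exact ⟨k, by simp⟩

/-- a cyclic group is commutative -/
theorem comm_of_isCyclic {P : Type*} [Group P] (hc : IsCyclic P) (a b : P) : a * b = b * a := by
  obtain ⟨g, hg⟩ := hc.exists_generator
  obtain ⟨m, rfl⟩ := hg a
  obtain ⟨n, rfl⟩ := hg b
  exact zpow_mul_comm g m n

end general

variable {F : Type*} [Field F] {W : Type*} [AddCommGroup W] [Module F W] {G : Type*} [Group G]
variable {ρ : G →* Module.End F W}
variable [IsAlgClosed F] [FiniteDimensional F W] [Nontrivial W] [Finite G]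

/-- the Sylow `2`-subgroup containing a quaternion pair is generalized quaternion -/
theorem sylow_quat (h : IsFpf ρ) {t s : G} (hq : QPair t s) (S : Sylow 2 G)
    (ht : t ∈ S) (hs : s ∈ S) :
    ∃ k, 1 ≤ k ∧ Nonempty (↥(S : Subgroup G) ≃* QuaternionGroup (2 ^ k)) := by
  have hu := uniqueInvolution h (S : Subgroup G)
  rcases Cfsg.Agent.Lib.Helper50_UniqueInv2.isCyclic_or_quaternion S.isPGroup' hu with hc | hk
  · exfalso
    have := comm_of_isCyclic hc ⟨t, ht⟩ ⟨s, hs⟩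
    exact hq.not_comm (congrArg Subtype.val this)
  · exact hk

/-- the cyclic maximal subgroup of the Sylow `2`-subgroup, after rotating the basic triple -/
theorem exists_alpha (h : IsFpf ρ) {t s x : G} (hb : Basic t s x) (S : Sylow 2 G)
    (ht : t ∈ S) (hs : s ∈ S) :
    ∃ (k : ℕ) (t' s' α : G), Basic t' s' x ∧ 1 ≤ k ∧ Nat.card S = 4 * 2 ^ k ∧
      orderOf α = 2 * 2 ^ k ∧ α ∈ S ∧ t' ∈ S ∧ s' ∈ S ∧ t' ∈ Subgroup.zpowers α ∧
      s' ∉ Subgroup.zpowers α ∧
      (∀ g ∈ S, g ∈ Subgroup.zpowers α ∨ g * α * g⁻¹ = α⁻¹) ∧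
      (∀ g ∈ S, ∀ g' ∈ S, g ∉ Subgroup.zpowers α → g' ∉ Subgroup.zpowers α →
        g * g' ∈ Subgroup.zpowers α) := by
  obtain ⟨k, hk1, ⟨e⟩⟩ := sylow_quat h hb.toQPair S ht hs
  obtain ⟨α₀, hord, hinv, hprod⟩ := exists_cyclic_max e
  have hcardS : Nat.card S = 4 * 2 ^ k := by
    rw [Nat.card_congr e.toEquiv, Nat.card_eq_fintype_card, QuaternionGroup.card]
  have hordα : orderOf (α₀ : G) = 2 * 2 ^ k := by rw [Subgroup.orderOf_coe, hord]
  have hinv' : ∀ g ∈ S, g ∈ Subgroup.zpowers (α₀ : G) ∨ g * (α₀ : G) * g⁻¹ = (α₀ : G)⁻¹ := by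
    intro g hg
    rcases hinv ⟨g, hg⟩ with h1 | h1
    · left; exact (coe_mem_zpowers_iff α₀ ⟨g, hg⟩).2 h1
    · right; exact congrArg Subtype.val h1
  have hprod' : ∀ g ∈ S, ∀ g' ∈ S, g ∉ Subgroup.zpowers (α₀ : G) →
      g' ∉ Subgroup.zpowers (α₀ : G) → g * g' ∈ Subgroup.zpowers (α₀ : G) := by
    intro g hg g' hg' h1 h2
    have := hprod ⟨g, hg⟩ ⟨g', hg'⟩ (fun h' => h1 ((coe_mem_zpowers_iff α₀ ⟨g, hg⟩).2 h'))
      (fun h' => h2 ((coe_mem_zpowers_iff α₀ ⟨g', hg'⟩).2 h'))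
    exact (coe_mem_zpowers_iff α₀ (⟨g, hg⟩ * ⟨g', hg'⟩)).2 this
  have hnc : ∀ {a b : G}, a ∈ Subgroup.zpowers (α₀ : G) → b ∈ Subgroup.zpowers (α₀ : G) →
      a * b = b * a := by
    rintro a b ⟨m, rfl⟩ ⟨n, rfl⟩
    exact zpow_mul_comm _ m n
  have htsS : t * s ∈ S := Subgroup.mul_mem _ ht hs
  by_cases h1 : t ∈ Subgroup.zpowers (α₀ : G)
  · refine ⟨k, t, s, α₀, hb, hk1, hcardS, hordα, α₀.2, ht, hs, h1, ?_, hinv', hprod'⟩
    intro h2
    exact hb.toQPair.not_comm (hnc h1 h2)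
  · by_cases h2 : s ∈ Subgroup.zpowers (α₀ : G)
    · refine ⟨k, s, t * s, α₀, hb.rotate, hk1, hcardS, hordα, α₀.2, hs, htsS, h2, ?_, hinv',
        hprod'⟩
      intro h3
      exact hb.rotate.toQPair.not_comm (hnc h2 h3)
    · have h3 := hprod' t ht s hs h1 h2
      have hb2 := hb.rotate.rotate
      rw [← mul_assoc, hb.toQPair.sts] at hb2
      refine ⟨k, t * s, t, α₀, hb2, hk1, hcardS, hordα, α₀.2, htsS, ht, h3, h1, hinv', hprod'⟩

/-- the plane of a basic triple and an element inverted by `s` and commuting with `t` -/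
theorem exists_plane (h : IsFpf ρ) {t s x α : G} (hb : Basic t s x) (hαt : Commute α t)
    (hsα : s * α * s⁻¹ = α⁻¹) :
    ∃ (N : Submodule F W) (_ : Basis (Fin 2) F N),
      t ∈ slN ρ N ∧ s ∈ slN ρ N ∧ x ∈ slN ρ N ∧ α ∈ slN ρ N := by
  obtain ⟨N, b, ht, hs, hα⟩ := exists_plane_tsk h hb.toQPair α hαt hsα
  exact ⟨N, b, ht, hs, hb.mem_slN h b (slN_le_stabN ht) (slN_le_stabN hs), hα⟩

/-- orders in a planar group containing a basic triple -/
theorem planar_card (h : IsFpf ρ) (hcard : ((Nat.card G : ℕ) : F) ≠ 0) {t s x : G}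
    (hb : Basic t s x) {N : Submodule F W} (b : Basis (Fin 2) F N) (Γ : Subgroup G)
    (hΓ : Γ ≤ slN ρ N) (ht : t ∈ Γ) (hs : s ∈ Γ) (hx : x ∈ Γ) :
    (Nat.card Γ = 24 ∨ Nat.card Γ = 48 ∨ Nat.card Γ = 120) ∧
      ∀ g ∈ Γ, g ^ 2 ≠ 1 → ∃ c, (c = 4 ∨ c = 6 ∨ c = 8 ∨ c = 10) ∧
        ∀ y ∈ Γ, Commute g y → orderOf y ∣ c := by
  have h2 : (2 : F) ≠ 0 := h.two_ne_zero hb.t2 (by rw [← pow_mul]; exact hb.t4)
  exact planar_orders h b Γ hΓ hcard h2 (nab_of_basic hb Γ ht hs hx)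

/-- the cyclic maximal subgroup of the Sylow `2`-subgroup has order at most eight -/
theorem order_alpha (h : IsFpf ρ) (hcard : ((Nat.card G : ℕ) : F) ≠ 0) {t s x α : G}
    (hb : Basic t s x) (hαt : Commute α t) (hsα : s * α * s⁻¹ = α⁻¹) {k : ℕ} (hk : 2 ≤ k)
    (hord : orderOf α = 2 * 2 ^ k) : k = 2 := by
  obtain ⟨N, b, ht, hs, hx, hα⟩ := exists_plane h hb hαt hsα
  obtain ⟨-, hc⟩ := planar_card h hcard hb b (slN ρ N) le_rfl ht hs hx
  have h4 : 4 ≤ 2 ^ k := by
    calc 4 = 2 ^ 2 := by norm_num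
      _ ≤ 2 ^ k := Nat.pow_le_pow_right (by norm_num) hk
  have hα2 : α ^ 2 ≠ 1 := by
    intro h1
    have h5 := orderOf_dvd_of_pow_eq_one h1
    rw [hord] at h5
    have := Nat.le_of_dvd (by norm_num) h5
    omega
  obtain ⟨c, hc4, hcy⟩ := hc α hα hα2
  have h6 := hcy α hα (Commute.refl α)
  rw [hord] at h6
  by_contra hk2
  have hk3 : 3 ≤ k := by omega
  have h8 : 8 ≤ 2 ^ k := by
    calc 8 = 2 ^ 3 := by norm_num
      _ ≤ 2 ^ k := Nat.pow_le_pow_right (by norm_num) hk3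
  have hle : 2 * 2 ^ k ≤ c :=
    Nat.le_of_dvd (by rcases hc4 with rfl | rfl | rfl | rfl <;> norm_num) h6
  rcases hc4 with rfl | rfl | rfl | rfl <;> omega

/-- a planar group containing the basic triple and a Sylow `2`-subgroup of order sixteen has
order `48` -/
theorem card_eq_48 (h : IsFpf ρ) (hcard : ((Nat.card G : ℕ) : F) ≠ 0) {t s x α : G}
    (hb : Basic t s x) {N : Submodule F W} (b : Basis (Fin 2) F N) (Γ : Subgroup G)
    (hΓ : Γ ≤ slN ρ N) (ht : t ∈ Γ) (hs : s ∈ Γ) (hx : x ∈ Γ) (hα : α ∈ Γ)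
    (S : Sylow 2 G) (hαS : α ∈ S) (hsS : s ∈ S) (hord : orderOf α = 8)
    (hsα : s ∉ Subgroup.zpowers α) : Nat.card Γ = 48 := by
  obtain ⟨hc, -⟩ := planar_card h hcard hb b Γ hΓ ht hs hx
  have hTp : IsPGroup 2 ↥(Γ ⊓ (S : Subgroup G)) := S.isPGroup'.to_le inf_le_right
  obtain ⟨m, hm⟩ := hTp.exists_card_eq
  have hzT : Subgroup.zpowers α ≤ Γ ⊓ (S : Subgroup G) := by
    rw [Subgroup.zpowers_le]; exact ⟨hα, hαS⟩
  have h8 : Nat.card (Subgroup.zpowers α) = 8 := by rw [Nat.card_zpowers, hord]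
  have hdvd := Subgroup.card_dvd_of_le hzT
  rw [h8, hm] at hdvd
  have hm3 : 3 ≤ m := by
    by_contra hlt
    push Not at hlt
    have h1 : 2 ^ m ≤ 2 ^ 2 := Nat.pow_le_pow_right (by norm_num) (by omega)
    have h2 := Nat.le_of_dvd (by positivity) hdvd
    omega
  have hm3' : m ≠ 3 := by
    intro h3
    have h1 : Subgroup.zpowers α = Γ ⊓ (S : Subgroup G) :=
      Subgroup.eq_of_le_of_card_ge hzT (by rw [h8, hm, h3]; norm_num)
    apply hsα
    rw [h1]
    exact ⟨hs, hsS⟩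
  have h16 : 16 ∣ Nat.card Γ := by
    have h1 : (16 : ℕ) ∣ 2 ^ m := by
      calc (16 : ℕ) = 2 ^ 4 := by norm_num
        _ ∣ 2 ^ m := pow_dvd_pow 2 (by omega)
    rw [← hm] at h1
    exact h1.trans (Subgroup.card_dvd_of_le inf_le_left)
  rcases hc with hc | hc | hc
  · rw [hc] at h16; omega
  · exact hc
  · rw [hc] at h16; omega

section transfer

open Cfsg.Agent.Lib.Helper55_CosetSign

/-- **Thompson transfer**, in the form needed: in a perfect group, an element whose square is a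
central element of a subgroup `A` of index twice an odd number is conjugate into `A` -/
theorem exists_conj_mem_of_perfect {G : Type*} [Group G] [Finite G] (hperf : commutator G = ⊤)
    (A : Subgroup G) (r : ℕ) (hr : Odd r) (hidx : A.index = 2 * r) (g₀ : G) (hz : g₀ ^ 2 ∈ A)
    (hzc : ∀ g : G, g * g₀ ^ 2 = g₀ ^ 2 * g) : ∃ g : G, g⁻¹ * g₀ * g ∈ A := by
  by_contra hno
  push Not at hno
  have h1 : cosetSign A g₀ = 1 :=
    map_eq_one_of_perfect hperf (cosetSign A) (fun a b => mul_comm _ _) g₀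
  have h2 : cosetSign A g₀ = -1 := by
    rw [cosetSign_apply]
    refine @sign_eq_neg_one_of_free (G ⧸ A) (Fintype.ofFinite _) (Classical.decEq _)
      (MulAction.toPermHom G (G ⧸ A) g₀) 0 r ?_ hr ?_ ?_
    · rw [zero_add, pow_one, ← hidx, Subgroup.index]
      exact (@Nat.card_eq_fintype_card _ (Fintype.ofFinite _)).symm
    · rw [zero_add, pow_one, ← map_pow]
      ext q
      induction q using QuotientGroup.induction_on with
      | H g =>
        show ((g₀ ^ 2 * g : G) : G ⧸ A) = (g : G ⧸ A)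
        rw [QuotientGroup.eq]
        have : (g₀ ^ 2 * g)⁻¹ * g = (g₀ ^ 2)⁻¹ := by
          rw [← hzc g]; simp only [pow_succ, pow_zero, one_mul, mul_one, mul_assoc, inv_mul_cancel_left, mul_inv_cancel_left, mul_inv_rev, inv_inv, mul_inv_cancel, inv_mul_cancel]
        rw [this]; exact A.inv_mem hz
    · intro q
      induction q using QuotientGroup.induction_on with
      | H g =>
        rw [pow_zero, pow_one]
        intro hfix
        have h' : ((g₀ * g : G) : G ⧸ A) = (g : G ⧸ A) := hfix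
        rw [QuotientGroup.eq] at h'
        apply hno g
        have := A.inv_mem h'
        simpa [mul_assoc] using this
  rw [h1] at h2
  exact absurd h2 (by decide)

end transfer

section sdata

variable {G : Type*} [Group G]

/-- elements of a finite cyclic subgroup are small powers -/
theorem exists_pow_lt_of_mem_zpowers {a u : G} {n : ℕ} (hn : 0 < n) (ha : a ^ n = 1)
    (hu : u ∈ Subgroup.zpowers a) : ∃ i < n, u = a ^ i := by
  obtain ⟨k, rfl⟩ := hu
  have h1 := zpow_eq_zpow_emod' k ha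
  have h2 : 0 ≤ k % (n : ℤ) := Int.emod_nonneg k (by exact_mod_cast hn.ne')
  have h3 : k % (n : ℤ) < n := Int.emod_lt_of_pos k (by exact_mod_cast hn)
  obtain ⟨i, hi⟩ := Int.eq_ofNat_of_zero_le h2
  refine ⟨i, by omega, ?_⟩
  show a ^ k = a ^ i
  rw [h1, hi, zpow_natCast]

/-- elements of order four in a cyclic group of order eight -/
theorem order_four_in_cyclic_eight {α u : G} (h8 : α ^ 8 = 1) (h4 : α ^ 4 ≠ 1)
    (hu : u ∈ Subgroup.zpowers α) (hu4 : u ^ 4 = 1) (hu2 : u ^ 2 ≠ 1) :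
    u = α ^ 2 ∨ u = (α ^ 2)⁻¹ := by
  obtain ⟨i, hi, rfl⟩ := exists_pow_lt_of_mem_zpowers (by norm_num) h8 hu
  rw [← pow_mul] at hu4 hu2
  interval_cases i
  · exact absurd (by simp) hu2
  · exact absurd hu4 h4
  · left; rfl
  · exfalso; apply h4
    have : α ^ (3 * 4) = α ^ 8 * α ^ 4 := by rw [← pow_add]
    rw [this, h8, one_mul] at hu4; exact hu4
  · exact absurd h8 hu2
  · exfalso; apply h4
    have : α ^ (5 * 4) = α ^ 8 * α ^ 8 * α ^ 4 := by rw [← pow_add, ← pow_add]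
    rw [this, h8, one_mul, one_mul] at hu4; exact hu4
  · right
    rw [eq_inv_iff_mul_eq_one, ← pow_add]; exact h8
  · exfalso; apply h4
    have : α ^ (7 * 4) = α ^ 8 * α ^ 8 * α ^ 8 * α ^ 4 := by rw [← pow_add, ← pow_add, ← pow_add]
    rw [this, h8, one_mul, one_mul, one_mul] at hu4; exact hu4

/-- elements of a cyclic group of order four -/
theorem mem_zpowers_four {t u : G} (h4 : t ^ 4 = 1) (hu : u ∈ Subgroup.zpowers t) :
    u = 1 ∨ u = t ∨ u = t ^ 2 ∨ u = t⁻¹ := by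
  obtain ⟨i, hi, rfl⟩ := exists_pow_lt_of_mem_zpowers (by norm_num) h4 hu
  interval_cases i
  · left; simp
  · right; left; simp
  · right; right; left; rfl
  · right; right; right
    rw [eq_inv_iff_mul_eq_one, ← pow_succ]; exact h4

/-- data of a generalized quaternion Sylow `2`-subgroup of order sixteen -/
structure SData (S : Subgroup G) (t s α : G) : Prop where
  aS : α ∈ S
  sS : s ∈ S
  a2 : α ^ 2 = t
  ord : orderOf α = 8
  sa : s * α * s⁻¹ = α⁻¹
  card : Nat.card S = 16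
  inv : ∀ g ∈ S, g ∈ Subgroup.zpowers α ∨ g * α * g⁻¹ = α⁻¹
  prod : ∀ g ∈ S, ∀ g' ∈ S, g ∉ Subgroup.zpowers α → g' ∉ Subgroup.zpowers α →
    g * g' ∈ Subgroup.zpowers α

namespace SData

variable {S : Subgroup G} {t s α : G}

theorem a8 (hd : SData S t s α) : α ^ 8 = 1 := by
  rw [← hd.ord]; exact pow_orderOf_eq_one α

theorem a4 (hd : SData S t s α) : α ^ 4 = t ^ 2 := by
  rw [← hd.a2, ← pow_mul]

theorem a4_ne (hd : SData S t s α) : α ^ 4 ≠ 1 := by
  intro h
  have := orderOf_dvd_of_pow_eq_one h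
  rw [hd.ord] at this
  omega

theorem comm_at (hd : SData S t s α) : Commute α t := by
  rw [← hd.a2]; exact (Commute.refl α).pow_right 2

theorem t_mem (hd : SData S t s α) : t ∈ Subgroup.zpowers α := by
  rw [← hd.a2]; exact Subgroup.pow_mem _ (Subgroup.mem_zpowers α) 2

theorem s_nmem (hd : SData S t s α) (hq : QPair t s) : s ∉ Subgroup.zpowers α := by
  intro hs
  obtain ⟨m, hm⟩ := hd.t_mem
  obtain ⟨n, hn⟩ := hs
  apply hq.not_comm
  rw [← hm, ← hn]
  exact zpow_mul_comm α m n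

theorem sa' (hd : SData S t s α) : s * α = α⁻¹ * s := by
  calc s * α = (s * α * s⁻¹) * s := by simp only [pow_succ, pow_zero, one_mul, mul_one, mul_assoc, inv_mul_cancel_left, mul_inv_cancel_left, mul_inv_rev, inv_inv, mul_inv_cancel, inv_mul_cancel]
    _ = α⁻¹ * s := by rw [hd.sa]

theorem sai (hd : SData S t s α) : s * α⁻¹ = α * s := by
  have h1 : s * α⁻¹ * s⁻¹ = α := by
    calc s * α⁻¹ * s⁻¹ = (s * α * s⁻¹)⁻¹ := by simp only [pow_succ, pow_zero, one_mul, mul_one, mul_assoc, inv_mul_cancel_left, mul_inv_cancel_left, mul_inv_rev, inv_inv, mul_inv_cancel, inv_mul_cancel]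
      _ = α := by rw [hd.sa, inv_inv]
  calc s * α⁻¹ = (s * α⁻¹ * s⁻¹) * s := by simp only [pow_succ, pow_zero, one_mul, mul_one, mul_assoc, inv_mul_cancel_left, mul_inv_cancel_left, mul_inv_rev, inv_inv, mul_inv_cancel, inv_mul_cancel]
    _ = α * s := by rw [h1]

theorem t1_sq (hd : SData S t s α) (hq : QPair t s) : (α * s) ^ 2 = t ^ 2 := by
  calc (α * s) ^ 2 = α * (s * α) * s := by simp only [pow_succ, pow_zero, one_mul, mul_one, mul_assoc, inv_mul_cancel_left, mul_inv_cancel_left, mul_inv_rev, inv_inv, mul_inv_cancel, inv_mul_cancel]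
    _ = α * (α⁻¹ * s) * s := by rw [hd.sa']
    _ = s ^ 2 := by simp only [pow_succ, pow_zero, one_mul, mul_one, mul_assoc, inv_mul_cancel_left, mul_inv_cancel_left, mul_inv_rev, inv_inv, mul_inv_cancel, inv_mul_cancel]
    _ = t ^ 2 := hq.s2

theorem qpair (hd : SData S t s α) (hq : QPair t s) : QPair (α * s) t where
  t4 := by
    calc (α * s) ^ 4 = ((α * s) ^ 2) ^ 2 := by rw [← pow_mul]
      _ = (t ^ 2) ^ 2 := by rw [hd.t1_sq hq]
      _ = t ^ 4 := by rw [← pow_mul]
      _ = 1 := hq.t4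
  t2 := by rw [hd.t1_sq hq]; exact hq.t2
  s2 := (hd.t1_sq hq).symm
  st := by
    apply eq_inv_of_mul_eq_one_left
    rw [← hd.a2]
    calc α ^ 2 * (α * s) * (α ^ 2)⁻¹ * (α * s) = α * α * α * (s * α⁻¹) * s := by simp only [pow_succ, pow_zero, one_mul, mul_one, mul_assoc, inv_mul_cancel_left, mul_inv_cancel_left, mul_inv_rev, inv_inv, mul_inv_cancel, inv_mul_cancel]
      _ = α * α * α * (α * s) * s := by rw [hd.sai]
      _ = α ^ 4 * s ^ 2 := by simp only [pow_succ, pow_zero, one_mul, mul_one, mul_assoc, inv_mul_cancel_left, mul_inv_cancel_left, mul_inv_rev, inv_inv, mul_inv_cancel, inv_mul_cancel]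
      _ = 1 := by rw [hd.a4, hq.s2, ← pow_add]; exact hq.t4

theorem conj_a (hd : SData S t s α) : α * s * α⁻¹ = α ^ 2 * s := by
  calc α * s * α⁻¹ = α * (s * α⁻¹) := by simp only [pow_succ, pow_zero, one_mul, mul_one, mul_assoc, inv_mul_cancel_left, mul_inv_cancel_left, mul_inv_rev, inv_inv, mul_inv_cancel, inv_mul_cancel]
    _ = α * (α * s) := by rw [hd.sai]
    _ = α ^ 2 * s := by simp only [pow_succ, pow_zero, one_mul, mul_one, mul_assoc, inv_mul_cancel_left, mul_inv_cancel_left, mul_inv_rev, inv_inv, mul_inv_cancel, inv_mul_cancel]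

theorem conj_pow_a (hd : SData S t s α) (j : ℕ) :
    α ^ j * s * (α ^ j)⁻¹ = α ^ (2 * j) * s := by
  induction j with
  | zero => simp
  | succ j ih =>
    have hc : α * α ^ (2 * j) = α ^ (2 * j) * α := ((Commute.refl α).pow_right (2 * j)).eq
    calc α ^ (j + 1) * s * (α ^ (j + 1))⁻¹ = α * (α ^ j * s * (α ^ j)⁻¹) * α⁻¹ := by
          rw [pow_succ']; simp only [pow_succ, pow_zero, one_mul, mul_one, mul_assoc, inv_mul_cancel_left, mul_inv_cancel_left, mul_inv_rev, inv_inv, mul_inv_cancel, inv_mul_cancel]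
      _ = α * (α ^ (2 * j) * s) * α⁻¹ := by rw [ih]
      _ = (α * α ^ (2 * j)) * s * α⁻¹ := by simp only [pow_succ, pow_zero, one_mul, mul_one, mul_assoc, inv_mul_cancel_left, mul_inv_cancel_left, mul_inv_rev, inv_inv, mul_inv_cancel, inv_mul_cancel]
      _ = (α ^ (2 * j) * α) * s * α⁻¹ := by rw [hc]
      _ = α ^ (2 * j) * (α * s * α⁻¹) := by simp only [pow_succ, pow_zero, one_mul, mul_one, mul_assoc, inv_mul_cancel_left, mul_inv_cancel_left, mul_inv_rev, inv_inv, mul_inv_cancel, inv_mul_cancel]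
      _ = α ^ (2 * j) * (α ^ 2 * s) := by rw [hd.conj_a]
      _ = α ^ (2 * (j + 1)) * s := by rw [Nat.mul_succ, pow_add, mul_assoc]

theorem conj_pow_as (hd : SData S t s α) (j : ℕ) :
    α ^ j * (α * s) * (α ^ j)⁻¹ = α ^ (2 * j + 1) * s := by
  have hc : α ^ j * α = α * α ^ j := ((Commute.refl α).pow_left j).eq
  calc α ^ j * (α * s) * (α ^ j)⁻¹ = (α ^ j * α) * s * (α ^ j)⁻¹ := by simp only [pow_succ, pow_zero, one_mul, mul_one, mul_assoc, inv_mul_cancel_left, mul_inv_cancel_left, mul_inv_rev, inv_inv, mul_inv_cancel, inv_mul_cancel]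
    _ = (α * α ^ j) * s * (α ^ j)⁻¹ := by rw [hc]
    _ = α * (α ^ j * s * (α ^ j)⁻¹) := by simp only [pow_succ, pow_zero, one_mul, mul_one, mul_assoc, inv_mul_cancel_left, mul_inv_cancel_left, mul_inv_rev, inv_inv, mul_inv_cancel, inv_mul_cancel]
    _ = α * (α ^ (2 * j) * s) := by rw [hd.conj_pow_a]
    _ = α ^ (2 * j + 1) * s := by rw [pow_succ', mul_assoc]

theorem exists_pow [Finite G] (hd : SData S t s α) (hq : QPair t s) {u : G} (hu : u ∈ S)
    (hun : u ∉ Subgroup.zpowers α) : ∃ i : ℕ, u = α ^ i * s := by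
  have hs' : s⁻¹ ∉ Subgroup.zpowers α := fun h =>
    hd.s_nmem hq (by simpa using Subgroup.inv_mem _ h)
  have h1 := hd.prod u hu s⁻¹ (S.inv_mem hd.sS) hun hs'
  obtain ⟨i, -, hi⟩ := exists_pow_lt_of_mem_zpowers (by norm_num) hd.a8 h1
  refine ⟨i, ?_⟩
  calc u = (u * s⁻¹) * s := by simp only [pow_succ, pow_zero, one_mul, mul_one, mul_assoc, inv_mul_cancel_left, mul_inv_cancel_left, mul_inv_rev, inv_inv, mul_inv_cancel, inv_mul_cancel]
    _ = α ^ i * s := by rw [hi]

theorem conj_t (hd : SData S t s α) {g : G} (hg : g ∈ S) :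
    g * t * g⁻¹ = t ∨ g * t * g⁻¹ = t⁻¹ := by
  rcases hd.inv g hg with h1 | h1
  · left
    obtain ⟨m, rfl⟩ := h1
    have : Commute (α ^ m) t := hd.comm_at.zpow_left m
    rw [this.eq, mul_inv_cancel_right]
  · right
    rw [← hd.a2, ← conj_pow, h1, inv_pow]

end SData

end sdata

section adjust

variable {G : Type*} [Group G] [Finite G]

open Cfsg.Agent.Lib.Helper33_Conj Cfsg.Agent.Lib.Helper33_Alperin

/-- Sylow adjustment of the conjugating element -/
theorem exists_adjust {S : Sylow 2 G} {t s α : G} (hd : SData (S : Subgroup G) t s α)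
    (hq : QPair t s) {c₁ : G} (hc₁ : c₁ * t * c₁⁻¹ = α * s) :
    ∃ c : G, (c * t * c⁻¹ = α * s ∨ c * t * c⁻¹ = (α * s)⁻¹) ∧
      (c * s * c⁻¹ = t ∨ c * (α * s) * c⁻¹ = t) := by
  have : Fact (Nat.Prime 2) := ⟨Nat.prime_two⟩
  have hq1 : QPair (α * s) t := hd.qpair hq
  have hw0 : c₁⁻¹ * (α * s) * c₁ = t := by rw [← hc₁]; simp only [pow_succ, pow_zero, one_mul, mul_one, mul_assoc, inv_mul_cancel_left, mul_inv_cancel_left, mul_inv_rev, inv_inv, mul_inv_cancel, inv_mul_cancel]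
  have hqw : QPair t (c₁⁻¹ * t * c₁) := by
    have := hq1.conj c₁⁻¹
    rw [inv_inv, hw0] at this
    exact this
  obtain ⟨w, hw⟩ : ∃ w, w = c₁⁻¹ * t * c₁ := ⟨_, rfl⟩
  rw [← hw] at hqw
  have hSH : (S : Subgroup G) ≤ Subgroup.normalizer (Subgroup.zpowers t : Set G) := by
    have hmem : ∀ g ∈ (S : Subgroup G), g * t * g⁻¹ ∈ Subgroup.zpowers t := by
      intro g hg
      rcases hd.conj_t hg with h1 | h1
      · rw [h1]; exact Subgroup.mem_zpowers t
      · rw [h1]; exact Subgroup.inv_mem _ (Subgroup.mem_zpowers t)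
    intro g hg
    apply mem_normalizer_zpowers (hmem g hg)
    have := hmem g⁻¹ (Subgroup.inv_mem _ hg)
    rwa [inv_inv] at this
  have hPH : Subgroup.closure {t, w} ≤ Subgroup.normalizer (Subgroup.zpowers t : Set G) := by
    rw [Subgroup.closure_le]
    intro g hg
    simp only [Set.mem_insert_iff, Set.mem_singleton_iff] at hg
    rcases hg with hg | hg
    · rw [hg]; exact Subgroup.le_normalizer (Subgroup.mem_zpowers _)
    · rw [hg]
      apply mem_normalizer_zpowers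
      · rw [hqw.st]; exact Subgroup.inv_mem _ (Subgroup.mem_zpowers t)
      · have h1 := hqw.inv.st
        rw [inv_inv, inv_inv] at h1
        have h2 : w⁻¹ * t * w = t⁻¹ := by
          calc w⁻¹ * t * w = (w⁻¹ * t⁻¹ * w)⁻¹ := by simp only [pow_succ, pow_zero, one_mul, mul_one, mul_assoc, inv_mul_cancel_left, mul_inv_cancel_left, mul_inv_rev, inv_inv, mul_inv_cancel, inv_mul_cancel]
            _ = t⁻¹ := by rw [h1]
        rw [h2]; exact Subgroup.inv_mem _ (Subgroup.mem_zpowers t)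
  have hidx : ¬ 2 ∣ (S : Subgroup G).relIndex
      (Subgroup.normalizer (Subgroup.zpowers t : Set G)) := by
    intro h2
    exact S.not_dvd_index (h2.trans (Subgroup.relIndex_dvd_index_of_le hSH))
  obtain ⟨m, hmH, hm⟩ := exists_cj_le_of_relIndex hSH S.isPGroup' hidx hPH hqw.isPGroup
  have hmt : m * t * m⁻¹ = t ∨ m * t * m⁻¹ = t⁻¹ := by
    have h1 := (Subgroup.mem_normalizer_iff.1 hmH t).1 (Subgroup.mem_zpowers t)
    rcases mem_zpowers_four hq.t4 h1 with h2 | h2 | h2 | h2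
    · exfalso; apply hq.t2; rw [conj_eq_one_iff.1 h2]; simp
    · left; exact h2
    · exfalso; apply hq.t2
      have h3 : (m * t * m⁻¹) ^ 2 = 1 := by rw [h2, ← pow_mul]; exact hq.t4
      rw [conj_pow] at h3
      exact conj_eq_one_iff.1 h3
    · right; exact h2
  obtain ⟨u, hu⟩ : ∃ u, u = m * w * m⁻¹ := ⟨_, rfl⟩
  have huS : u ∈ (S : Subgroup G) := by
    rw [hu]
    exact hm (conj_mem_cj (Subgroup.subset_closure (by simp)))
  have hut : u * t * u⁻¹ = t⁻¹ := by
    have h1 : u * (m * t * m⁻¹) * u⁻¹ = (m * t * m⁻¹)⁻¹ := by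
      calc u * (m * t * m⁻¹) * u⁻¹ = m * (w * t * w⁻¹) * m⁻¹ := by rw [hu]; simp only [pow_succ, pow_zero, one_mul, mul_one, mul_assoc, inv_mul_cancel_left, mul_inv_cancel_left, mul_inv_rev, inv_inv, mul_inv_cancel, inv_mul_cancel]
        _ = (m * t * m⁻¹)⁻¹ := by rw [hqw.st]; simp only [pow_succ, pow_zero, one_mul, mul_one, mul_assoc, inv_mul_cancel_left, mul_inv_cancel_left, mul_inv_rev, inv_inv, mul_inv_cancel, inv_mul_cancel]
    rcases hmt with h2 | h2
    · rw [h2] at h1; exact h1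
    · rw [h2, inv_inv] at h1
      calc u * t * u⁻¹ = (u * t⁻¹ * u⁻¹)⁻¹ := by simp only [pow_succ, pow_zero, one_mul, mul_one, mul_assoc, inv_mul_cancel_left, mul_inv_cancel_left, mul_inv_rev, inv_inv, mul_inv_cancel, inv_mul_cancel]
        _ = t⁻¹ := by rw [h1]
  have hun : u ∉ Subgroup.zpowers α := by
    intro h1
    obtain ⟨k, hk⟩ := h1
    have h2 : Commute u t := by rw [← hk]; exact hd.comm_at.zpow_left k
    rw [h2.eq, mul_inv_cancel_right] at hut
    apply hq.t2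
    have h3 := mul_inv_cancel t
    rw [← hut] at h3
    rw [pow_two]; exact h3
  obtain ⟨i, hi⟩ := hd.exists_pow hq huS hun
  have hmt' : m⁻¹ * t * m = t ∨ m⁻¹ * t * m = t⁻¹ := by
    rcases hmt with h2 | h2
    · left
      calc m⁻¹ * t * m = m⁻¹ * (m * t * m⁻¹) * m := by rw [h2]
        _ = t := by simp only [pow_succ, pow_zero, one_mul, mul_one, mul_assoc, inv_mul_cancel_left, mul_inv_cancel_left, mul_inv_rev, inv_inv, mul_inv_cancel, inv_mul_cancel]
    · right
      have h3 : m⁻¹ * t⁻¹ * m = t := by rw [← h2]; simp only [pow_succ, pow_zero, one_mul, mul_one, mul_assoc, inv_mul_cancel_left, mul_inv_cancel_left, mul_inv_rev, inv_inv, mul_inv_cancel, inv_mul_cancel]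
      calc m⁻¹ * t * m = (m⁻¹ * t⁻¹ * m)⁻¹ := by simp only [pow_succ, pow_zero, one_mul, mul_one, mul_assoc, inv_mul_cancel_left, mul_inv_cancel_left, mul_inv_rev, inv_inv, mul_inv_cancel, inv_mul_cancel]
        _ = t⁻¹ := by rw [h3]
  have hct : (c₁ * m⁻¹) * t * (c₁ * m⁻¹)⁻¹ = α * s ∨
      (c₁ * m⁻¹) * t * (c₁ * m⁻¹)⁻¹ = (α * s)⁻¹ := by
    have h0 : (c₁ * m⁻¹) * t * (c₁ * m⁻¹)⁻¹ = c₁ * (m⁻¹ * t * m) * c₁⁻¹ := by simp only [pow_succ, pow_zero, one_mul, mul_one, mul_assoc, inv_mul_cancel_left, mul_inv_cancel_left, mul_inv_rev, inv_inv, mul_inv_cancel, inv_mul_cancel]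
    rcases hmt' with h2 | h2
    · left; rw [h0, h2, hc₁]
    · right; rw [h0, h2, ← hc₁]; simp only [pow_succ, pow_zero, one_mul, mul_one, mul_assoc, inv_mul_cancel_left, mul_inv_cancel_left, mul_inv_rev, inv_inv, mul_inv_cancel, inv_mul_cancel]
  have hcu : (c₁ * m⁻¹) * u * (c₁ * m⁻¹)⁻¹ = t := by
    rw [hu, hw]; simp only [pow_succ, pow_zero, one_mul, mul_one, mul_assoc, inv_mul_cancel_left, mul_inv_cancel_left, mul_inv_rev, inv_inv, mul_inv_cancel, inv_mul_cancel]
  have hjt : ∀ j : ℕ, α ^ j * t * (α ^ j)⁻¹ = t := by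
    intro j
    rw [(hd.comm_at.pow_left j).eq, mul_inv_cancel_right]
  have hcj : ∀ j : ℕ, (c₁ * m⁻¹ * α ^ j) * t * (c₁ * m⁻¹ * α ^ j)⁻¹ =
      (c₁ * m⁻¹) * t * (c₁ * m⁻¹)⁻¹ := by
    intro j
    calc (c₁ * m⁻¹ * α ^ j) * t * (c₁ * m⁻¹ * α ^ j)⁻¹
        = (c₁ * m⁻¹) * (α ^ j * t * (α ^ j)⁻¹) * (c₁ * m⁻¹)⁻¹ := by simp only [pow_succ, pow_zero, one_mul, mul_one, mul_assoc, inv_mul_cancel_left, mul_inv_cancel_left, mul_inv_rev, inv_inv, mul_inv_cancel, inv_mul_cancel]
      _ = _ := by rw [hjt]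
  rcases Nat.even_or_odd' i with ⟨j, hj | hj⟩
  · refine ⟨c₁ * m⁻¹ * α ^ j, ?_, Or.inl ?_⟩
    · rw [hcj]; exact hct
    · calc (c₁ * m⁻¹ * α ^ j) * s * (c₁ * m⁻¹ * α ^ j)⁻¹
          = (c₁ * m⁻¹) * (α ^ j * s * (α ^ j)⁻¹) * (c₁ * m⁻¹)⁻¹ := by simp only [pow_succ, pow_zero, one_mul, mul_one, mul_assoc, inv_mul_cancel_left, mul_inv_cancel_left, mul_inv_rev, inv_inv, mul_inv_cancel, inv_mul_cancel]
        _ = (c₁ * m⁻¹) * u * (c₁ * m⁻¹)⁻¹ := by rw [hd.conj_pow_a, ← hj, ← hi]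
        _ = t := hcu
  · refine ⟨c₁ * m⁻¹ * α ^ j, ?_, Or.inr ?_⟩
    · rw [hcj]; exact hct
    · calc (c₁ * m⁻¹ * α ^ j) * (α * s) * (c₁ * m⁻¹ * α ^ j)⁻¹
          = (c₁ * m⁻¹) * (α ^ j * (α * s) * (α ^ j)⁻¹) * (c₁ * m⁻¹)⁻¹ := by simp only [pow_succ, pow_zero, one_mul, mul_one, mul_assoc, inv_mul_cancel_left, mul_inv_cancel_left, mul_inv_rev, inv_inv, mul_inv_cancel, inv_mul_cancel]
        _ = (c₁ * m⁻¹) * u * (c₁ * m⁻¹)⁻¹ := by rw [hd.conj_pow_as, ← hj, ← hi]
        _ = t := hcu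

end adjust

section final

variable {F : Type*} [Field F] {W : Type*} [AddCommGroup W] [Module F W] {G : Type*} [Group G]
variable {ρ : G →* Module.End F W}
variable [IsAlgClosed F] [FiniteDimensional F W] [Nontrivial W] [Finite G]

/-- a pre-basic triple on a pair containing `t^{±1}` can be made basic -/
theorem basic_of_preBasic (h : IsFpf ρ) (hcard : ((Nat.card G : ℕ) : F) ≠ 0) {t s x : G}
    (hb : Basic t s x) {t' s' y : G} (hp : PreBasic t' s' y) (hs' : s' = t ∨ s' = t⁻¹) :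
    ∃ e, Basic t' s' (y ^ e) := by
  apply hp.exists_basic (isOfFinOrder_of_finite y)
  intro h3
  have hn0 : orderOf (y ^ 3) ≠ 0 := (orderOf_pos _).ne'
  have hw : orderOf ((y ^ 3) ^ (orderOf (y ^ 3) / 3)) = 3 := orderOf_pow_orderOf_div hn0 h3
  obtain ⟨w, hww⟩ : ∃ w, w = (y ^ 3) ^ (orderOf (y ^ 3) / 3) := ⟨_, rfl⟩
  rw [← hww] at hw
  have hws' : Commute w s' := by rw [hww]; exact hp.cube_comm_s.pow_left _
  have hwt : Commute w t := by
    rcases hs' with h1 | h1
    · rw [← h1]; exact hws'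
    · have := hws'.inv_right
      rw [h1, inv_inv] at this
      exact this
  have hws : Commute w s :=
    commute_s_of_commute_t h hcard hb w (by rw [hw]; norm_num) hwt
  have hw1 : w = 1 :=
    eq_one_of_centralizes h hcard hb w (by rw [← hw]; exact pow_orderOf_eq_one w) hwt hws
  rw [hw1, orderOf_one] at hw
  norm_num at hw

/-- a second basic triple, on the other quaternion subgroup of the Sylow `2`-subgroup -/
theorem exists_second_basic (h : IsFpf ρ) (hcard : ((Nat.card G : ℕ) : F) ≠ 0) {S : Sylow 2 G}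
    {t s x α : G} (hb : Basic t s x) (hd : SData (S : Subgroup G) t s α) {c₁ : G}
    (hc₁ : c₁ * t * c₁⁻¹ = α * s) :
    ∃ t' s' y, Basic t' s' y ∧ (t' = α * s ∨ t' = (α * s)⁻¹) ∧ (s' = t ∨ s' = t⁻¹) := by
  have hq := hb.toQPair
  have hq1 : QPair (α * s) t := hd.qpair hq
  obtain ⟨c, hct, hcs⟩ := exists_adjust hd hq hc₁
  rcases hcs with hcs | hcs
  · have hbc := hb.conj c
    rw [hcs] at hbc
    exact ⟨_, _, _, hbc, hct, Or.inl rfl⟩
  · have hy1 : (α * c) * (α * s) * (α * c)⁻¹ = t := by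
      calc (α * c) * (α * s) * (α * c)⁻¹ = α * (c * (α * s) * c⁻¹) * α⁻¹ := by simp only [pow_succ, pow_zero, one_mul, mul_one, mul_assoc, inv_mul_cancel_left, mul_inv_cancel_left, mul_inv_rev, inv_inv, mul_inv_cancel, inv_mul_cancel]
        _ = α * t * α⁻¹ := by rw [hcs]
        _ = t := by rw [hd.comm_at.eq, mul_inv_cancel_right]
    have hI4 : α * (α * s) * α⁻¹ = t * (α * s) := by
      calc α * (α * s) * α⁻¹ = α * (α * s * α⁻¹) := by simp only [pow_succ, pow_zero, one_mul, mul_one, mul_assoc, inv_mul_cancel_left, mul_inv_cancel_left, mul_inv_rev, inv_inv, mul_inv_cancel, inv_mul_cancel]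
        _ = α * (α ^ 2 * s) := by rw [hd.conj_a]
        _ = α ^ 2 * (α * s) := by simp only [pow_succ, pow_zero, one_mul, mul_one, mul_assoc, inv_mul_cancel_left, mul_inv_cancel_left, mul_inv_rev, inv_inv, mul_inv_cancel, inv_mul_cancel]
        _ = t * (α * s) := by rw [hd.a2]
    have hy0 : (α * c) * t * (α * c)⁻¹ = α * (c * t * c⁻¹) * α⁻¹ := by simp only [pow_succ, pow_zero, one_mul, mul_one, mul_assoc, inv_mul_cancel_left, mul_inv_cancel_left, mul_inv_rev, inv_inv, mul_inv_cancel, inv_mul_cancel]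
    rcases hct with hct | hct
    · have hp : PreBasic (α * s)⁻¹ t⁻¹ (α * c) :=
        { toQPair := hq1.inv
          gt := by
            calc (α * c) * (α * s)⁻¹ * (α * c)⁻¹ = ((α * c) * (α * s) * (α * c)⁻¹)⁻¹ := by simp only [pow_succ, pow_zero, one_mul, mul_one, mul_assoc, inv_mul_cancel_left, mul_inv_cancel_left, mul_inv_rev, inv_inv, mul_inv_cancel, inv_mul_cancel]
              _ = t⁻¹ := by rw [hy1]
          gs := by
            calc (α * c) * t⁻¹ * (α * c)⁻¹ = ((α * c) * t * (α * c)⁻¹)⁻¹ := by simp only [pow_succ, pow_zero, one_mul, mul_one, mul_assoc, inv_mul_cancel_left, mul_inv_cancel_left, mul_inv_rev, inv_inv, mul_inv_cancel, inv_mul_cancel]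
              _ = (t * (α * s))⁻¹ := by rw [hy0, hct, hI4]
              _ = (α * s)⁻¹ * t⁻¹ := by rw [mul_inv_rev] }
      obtain ⟨e, he⟩ := basic_of_preBasic h hcard hb hp (Or.inr rfl)
      exact ⟨_, _, _, he, Or.inr rfl, Or.inr rfl⟩
    · have h5 : (α * s) * t = (t * (α * s))⁻¹ := by
        apply eq_inv_of_mul_eq_one_left
        calc (α * s) * t * (t * (α * s)) = (α * s) * t ^ 2 * (α * s) := by simp only [pow_succ, pow_zero, one_mul, mul_one, mul_assoc, inv_mul_cancel_left, mul_inv_cancel_left, mul_inv_rev, inv_inv, mul_inv_cancel, inv_mul_cancel]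
          _ = (α * s) * (α * s) ^ 2 * (α * s) := by rw [hq1.s2]
          _ = (α * s) ^ 4 := by simp only [pow_succ, pow_zero, one_mul, mul_one, mul_assoc, inv_mul_cancel_left, mul_inv_cancel_left, mul_inv_rev, inv_inv, mul_inv_cancel, inv_mul_cancel]
          _ = 1 := hq1.t4
      have hp : PreBasic (α * s) t (α * c) :=
        { toQPair := hq1
          gt := hy1
          gs := by
            calc (α * c) * t * (α * c)⁻¹ = α * (α * s)⁻¹ * α⁻¹ := by rw [hy0, hct]
              _ = (α * (α * s) * α⁻¹)⁻¹ := by simp only [pow_succ, pow_zero, one_mul, mul_one, mul_assoc, inv_mul_cancel_left, mul_inv_cancel_left, mul_inv_rev, inv_inv, mul_inv_cancel, inv_mul_cancel]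
              _ = (t * (α * s))⁻¹ := by rw [hI4]
              _ = (α * s) * t := h5.symm }
      obtain ⟨e, he⟩ := basic_of_preBasic h hcard hb hp (Or.inl rfl)
      exact ⟨_, _, _, he, Or.inl rfl, Or.inl rfl⟩

/-- the two basic triples are incompatible -/
theorem not_sixteen_aux (h : IsFpf ρ) (hcard : ((Nat.card G : ℕ) : F) ≠ 0) {S : Sylow 2 G}
    {t s x α : G} (hb : Basic t s x) (hd : SData (S : Subgroup G) t s α) {t' s' y : G}
    (hb' : Basic t' s' y) (ht' : t' = α * s ∨ t' = (α * s)⁻¹) (hs' : s' = t ∨ s' = t⁻¹) :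
    False := by
  have hq := hb.toQPair
  obtain ⟨N, b, htN, hsN, hxN, hαN⟩ := exists_plane h hb hd.comm_at hd.sa
  have ht'N : t' ∈ slN ρ N := by
    rcases ht' with h1 | h1
    · rw [h1]; exact Subgroup.mul_mem _ hαN hsN
    · rw [h1]; exact Subgroup.inv_mem _ (Subgroup.mul_mem _ hαN hsN)
  have hs'N : s' ∈ slN ρ N := by
    rcases hs' with h1 | h1
    · rw [h1]; exact htN
    · rw [h1]; exact Subgroup.inv_mem _ htN
  have hyN : y ∈ slN ρ N := hb'.mem_slN h b (slN_le_stabN ht'N) (slN_le_stabN hs'N)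
  have hsub : ({t, s, x, α} : Set G) ⊆ slN ρ N := by
    intro z hz
    simp only [Set.mem_insert_iff, Set.mem_singleton_iff] at hz
    rcases hz with rfl | rfl | rfl | rfl
    · exact htN
    · exact hsN
    · exact hxN
    · exact hαN
  have hΓ : Subgroup.closure ({t, s, x, α} : Set G) ≤ slN ρ N := (Subgroup.closure_le _).2 hsub
  have hΓ₂ : Subgroup.closure (insert y ({t, s, x, α} : Set G)) ≤ slN ρ N := by
    refine (Subgroup.closure_le _).2 ?_
    intro z hz
    rcases hz with rfl | hz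
    · exact hyN
    · exact hsub hz
  have hle : Subgroup.closure ({t, s, x, α} : Set G) ≤
      Subgroup.closure (insert y ({t, s, x, α} : Set G)) :=
    Subgroup.closure_mono (Set.subset_insert _ _)
  have hm1 : ∀ z ∈ ({t, s, x, α} : Set G), z ∈ Subgroup.closure ({t, s, x, α} : Set G) :=
    fun z hz => Subgroup.subset_closure hz
  have c1 : Nat.card (Subgroup.closure ({t, s, x, α} : Set G)) = 48 :=
    card_eq_48 h hcard hb b _ hΓ (hm1 t (by simp)) (hm1 s (by simp)) (hm1 x (by simp))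
      (hm1 α (by simp)) S hd.aS hd.sS hd.ord (hd.s_nmem hq)
  have c2 : Nat.card (Subgroup.closure (insert y ({t, s, x, α} : Set G))) = 48 :=
    card_eq_48 h hcard hb b _ hΓ₂ (hle (hm1 t (by simp))) (hle (hm1 s (by simp)))
      (hle (hm1 x (by simp))) (hle (hm1 α (by simp))) S hd.aS hd.sS hd.ord (hd.s_nmem hq)
  have heq : Subgroup.closure ({t, s, x, α} : Set G) =
      Subgroup.closure (insert y ({t, s, x, α} : Set G)) :=
    Subgroup.eq_of_le_of_card_ge hle (by rw [c1, c2])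
  have hyΓ : y ∈ Subgroup.closure ({t, s, x, α} : Set G) := by
    rw [heq]; exact Subgroup.subset_closure (Set.mem_insert _ _)
  -- the first group normalizes `Q`
  have htQ : t ∈ Subgroup.closure {t, s} := Subgroup.subset_closure (by simp)
  have hsQ : s ∈ Subgroup.closure {t, s} := Subgroup.subset_closure (by simp)
  have hnorm : Subgroup.closure ({t, s, x, α} : Set G) ≤
      Subgroup.normalizer (Subgroup.closure {t, s} : Set G) := by
    refine (Subgroup.closure_le _).2 ?_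
    intro z hz
    simp only [Set.mem_insert_iff, Set.mem_singleton_iff] at hz
    rcases hz with rfl | rfl | rfl | rfl
    · exact Subgroup.le_normalizer htQ
    · exact Subgroup.le_normalizer hsQ
    · apply mem_normalizer_closure_pair
      · rw [hb.xt]; exact hsQ
      · rw [hb.xs]; exact Subgroup.mul_mem _ htQ hsQ
    · apply mem_normalizer_closure_pair
      · rw [hd.comm_at.eq, mul_inv_cancel_right]; exact htQ
      · rw [hd.conj_a, hd.a2]; exact Subgroup.mul_mem _ htQ hsQ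
  have hyn := hnorm hyΓ
  have hs'Q : s' ∈ Subgroup.closure {t, s} := by
    rcases hs' with h1 | h1
    · rw [h1]; exact htQ
    · rw [h1]; exact Subgroup.inv_mem _ htQ
  have ht'Q : t' ∈ Subgroup.closure {t, s} := by
    rw [Subgroup.mem_normalizer_iff.1 hyn t', hb'.xt]
    exact hs'Q
  have hasQ : α * s ∈ Subgroup.closure {t, s} := by
    rcases ht' with h1 | h1
    · rw [← h1]; exact ht'Q
    · have := Subgroup.inv_mem _ ht'Q
      rw [h1, inv_inv] at this
      exact this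
  have hαQ : α ∈ Subgroup.closure {t, s} := by
    have := Subgroup.mul_mem _ hasQ (Subgroup.inv_mem _ hsQ)
    rwa [mul_inv_cancel_right] at this
  exact hd.a4_ne (hq.pow_four_of_mem hαQ)

end final

section main

variable {F : Type*} [Field F] {W : Type*} [AddCommGroup W] [Module F W] {G : Type*} [Group G]
variable {ρ : G →* Module.End F W}
variable [IsAlgClosed F] [FiniteDimensional F W] [Nontrivial W] [Finite G]

theorem inv_conj_pow {H : Type*} [Group H] (g b : H) (n : ℕ) :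
    (g⁻¹ * b * g) ^ n = g⁻¹ * b ^ n * g := by
  have := conj_pow (a := g⁻¹) (b := b) (i := n)
  rwa [inv_inv] at this

/-- **the Sylow `2`-subgroups of a perfect fixed-point-free group have order eight** -/
theorem not_sixteen_dvd (h : IsFpf ρ) (hcard : ((Nat.card G : ℕ) : F) ≠ 0)
    (hperf : commutator G = ⊤) {t s x : G} (hb : Basic t s x) : ¬ 16 ∣ Nat.card G := by
  intro h16
  have : Fact (Nat.Prime 2) := ⟨Nat.prime_two⟩
  obtain ⟨S, hS⟩ := hb.toQPair.isPGroup.exists_le_sylow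
  have ht : t ∈ S := hS (Subgroup.subset_closure (by simp))
  have hs : s ∈ S := hS (Subgroup.subset_closure (by simp))
  obtain ⟨k, t', s', α, hb', hk1, hcardS, hord, hαS, ht'S, hs'S, ht'α, hs'α, hinv, hprod⟩ :=
    exists_alpha h hb S ht hs
  have h16S : 2 ^ 4 ∣ Nat.card S := S.pow_dvd_card_of_pow_dvd_card (by norm_num; exact h16)
  rw [hcardS] at h16S
  have hk2 : 2 ≤ k := by
    by_contra hlt
    have hk : k = 1 := by omega
    rw [hk] at h16S
    norm_num at h16S
  have hαt : Commute α t' := by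
    obtain ⟨m, hm⟩ := ht'α
    rw [← hm]
    exact (Commute.refl α).zpow_right m
  have hsα : s' * α * s'⁻¹ = α⁻¹ := (hinv s' hs'S).resolve_left hs'α
  have hk : k = 2 := order_alpha h hcard hb' hαt hsα hk2 hord
  subst hk
  have hord8 : orderOf α = 8 := by rw [hord]; norm_num
  have hS16 : Nat.card S = 16 := by rw [hcardS]; norm_num
  have hq' := hb'.toQPair
  have h8 : α ^ 8 = 1 := by rw [← hord8]; exact pow_orderOf_eq_one α
  have h4 : α ^ 4 ≠ 1 := by
    intro h4
    have := orderOf_dvd_of_pow_eq_one h4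
    rw [hord8] at this
    omega
  obtain ⟨β, hdβ⟩ : ∃ β, SData (S : Subgroup G) t' s' β := by
    rcases order_four_in_cyclic_eight h8 h4 ht'α hq'.t4 hq'.t2 with h1 | h1
    · exact ⟨α, { aS := hαS, sS := hs'S, a2 := h1.symm, ord := hord8, sa := hsα, card := hS16,
                  inv := hinv, prod := hprod }⟩
    · refine ⟨α⁻¹, { aS := Subgroup.inv_mem _ hαS, sS := hs'S, a2 := by rw [inv_pow, ← h1],
                     ord := by rw [orderOf_inv, hord8], sa := ?_, card := hS16, inv := ?_,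
                     prod := ?_ }⟩
      · calc s' * α⁻¹ * s'⁻¹ = (s' * α * s'⁻¹)⁻¹ := by simp only [pow_succ, pow_zero, one_mul, mul_one, mul_assoc, inv_mul_cancel_left, mul_inv_cancel_left, mul_inv_rev, inv_inv, mul_inv_cancel, inv_mul_cancel]
          _ = (α⁻¹)⁻¹ := by rw [hsα]
      · intro g hg
        rw [Subgroup.zpowers_inv]
        rcases hinv g hg with h2 | h2
        · left; exact h2
        · right
          calc g * α⁻¹ * g⁻¹ = (g * α * g⁻¹)⁻¹ := by simp only [pow_succ, pow_zero, one_mul, mul_one, mul_assoc, inv_mul_cancel_left, mul_inv_cancel_left, mul_inv_rev, inv_inv, mul_inv_cancel, inv_mul_cancel]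
            _ = (α⁻¹)⁻¹ := by rw [h2]
      · intro g hg g' hg'
        rw [Subgroup.zpowers_inv]
        exact hprod g hg g' hg'
  have hz1 : t' ^ 2 ≠ 1 := hq'.t2
  have hz2 : (t' ^ 2) ^ 2 = 1 := by rw [← pow_mul]; exact hq'.t4
  have hzc : ∀ g : G, g * (β * s') ^ 2 = (β * s') ^ 2 * g := by
    intro g
    rw [hdβ.t1_sq hq']
    exact h.invol_central hz1 hz2 g
  obtain ⟨r, hr⟩ : ∃ r, (S : Subgroup G).index = r := ⟨_, rfl⟩
  have hrodd : Odd r := by
    rw [← hr]
    exact Nat.odd_iff.2 (Nat.two_dvd_ne_zero.1 S.not_dvd_index)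
  have hAidx : (Subgroup.zpowers β).index = 2 * r := by
    have h1 := (Subgroup.zpowers β).card_mul_index
    have h2 := (S : Subgroup G).card_mul_index
    rw [Nat.card_zpowers, hdβ.ord] at h1
    rw [hS16, hr] at h2
    omega
  have hzA : (β * s') ^ 2 ∈ Subgroup.zpowers β := by
    rw [hdβ.t1_sq hq', ← hdβ.a4]
    exact Subgroup.pow_mem _ (Subgroup.mem_zpowers β) 4
  obtain ⟨g, hg⟩ := exists_conj_mem_of_perfect hperf (Subgroup.zpowers β) r hrodd hAidx
    (β * s') hzA hzc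
  have hq1 := hdβ.qpair hq'
  have hu4 : (g⁻¹ * (β * s') * g) ^ 4 = 1 := by
    rw [inv_conj_pow, hq1.t4, mul_one, inv_mul_cancel]
  have hu2 : (g⁻¹ * (β * s') * g) ^ 2 ≠ 1 := by
    rw [inv_conj_pow]
    intro h1
    apply hq1.t2
    calc (β * s') ^ 2 = g * (g⁻¹ * (β * s') ^ 2 * g) * g⁻¹ := by
          simp only [mul_assoc, mul_inv_cancel_left, mul_inv_cancel, mul_one]
      _ = 1 := by rw [h1, mul_one, mul_inv_cancel]
  rcases order_four_in_cyclic_eight hdβ.a8 hdβ.a4_ne hg hu4 hu2 with h1 | h1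
  · rw [hdβ.a2] at h1
    have hc₁ : g * t' * g⁻¹ = β * s' := by rw [← h1]; simp only [pow_succ, pow_zero, one_mul, mul_one, mul_assoc, inv_mul_cancel_left, mul_inv_cancel_left, mul_inv_rev, inv_inv, mul_inv_cancel, inv_mul_cancel]
    obtain ⟨t'', s'', y, hb'', h1', h2'⟩ := exists_second_basic h hcard hb' hdβ hc₁
    exact not_sixteen_aux h hcard hb' hdβ hb'' h1' h2'
  · rw [hdβ.a2] at h1
    have hc₁ : (g * s') * t' * (g * s')⁻¹ = β * s' := by
      calc (g * s') * t' * (g * s')⁻¹ = g * (s' * t' * s'⁻¹) * g⁻¹ := by simp only [pow_succ, pow_zero, one_mul, mul_one, mul_assoc, inv_mul_cancel_left, mul_inv_cancel_left, mul_inv_rev, inv_inv, mul_inv_cancel, inv_mul_cancel]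
        _ = g * t'⁻¹ * g⁻¹ := by rw [hq'.st]
        _ = β * s' := by rw [← h1]; simp only [pow_succ, pow_zero, one_mul, mul_one, mul_assoc, inv_mul_cancel_left, mul_inv_cancel_left, mul_inv_rev, inv_inv, mul_inv_cancel, inv_mul_cancel]
    obtain ⟨t'', s'', y, hb'', h1', h2'⟩ := exists_second_basic h hcard hb' hdβ hc₁
    exact not_sixteen_aux h hcard hb' hdβ hb'' h1' h2'

end main

end Cfsg.Agent.Lib.Helper12_FpfSyl8
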