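import Mathlib
import Cfsg.Agent.Lib.Helper12_FpfLin
import Cfsg.Agent.Lib.Helper12_FpfQuat
import Cfsg.Agent.Lib.Helper12_FpfPlanar
import Cfsg.Agent.Lib.Helper12_FpfSylow
import Cfsg.Agent.Lib.Helper12_PerfectTools
import Cfsg.Agent.Lib.Helper12_FpfE45
import Cfsg.Agent.Lib.Helper12_FpfBasic
import Cfsg.Agent.Lib.Helper12_FpfExist
import Cfsg.Agent.Lib.Helper12_FpfQ8
import Cfsg.Agent.Lib.Helper12_FpfSyl8
import Cfsg.Agent.Lib.Helper50_UniqueInv2
import Cfsg.Agent.Lib.Helper33_Alperin
import Cfsg.Agent.S3278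
import Cfsg.Agent.S3378

set_option autoImplicit false
set_option linter.unusedSimpArgs false
set_option linter.unusedSectionVars false

namespace Cfsg.Agent.Lib.Helper12_FpfSimple

open Module Cfsg.Agent.Lib.Helper12_FpfLin Cfsg.Agent.Lib.Helper12_FpfQuat
  Cfsg.Agent.Lib.Helper12_FpfPlanar Cfsg.Agent.Lib.Helper12_FpfSylow
  Cfsg.Agent.Lib.Helper50_UniqueInv Cfsg.Agent.Lib.Helper12_PerfectTools
  Cfsg.Agent.Lib.Helper12_FpfE45 Cfsg.Agent.Lib.Helper12_FpfBasic
  Cfsg.Agent.Lib.Helper12_FpfQ8 Cfsg.Agent.Lib.Helper12_FpfSyl8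
  Cfsg.Agent.Lib.Helper33_Conj Cfsg.Agent.Lib.Helper33_Alperin QuaternionGroup
  Cfsg.Agent.Lib.Helper12_FpfExist

section part1

variable {G : Type*} [Group G]

/-- in the quaternion group of order eight, the centralizer of an element of order four is the
cyclic group it generates -/
theorem q8_centralizer : ∀ v q : QuaternionGroup 2, v ^ 2 ≠ 1 → v * q = q * v →
    q = 1 ∨ q = v ∨ q = v ^ 2 ∨ q = v ^ 3 := by decide

theorem mem_zpowers_of_commute_in_Q {t s : G} (hq : QPair t s) {v q : G}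
    (hv : v ∈ Subgroup.closure {t, s}) (hqQ : q ∈ Subgroup.closure {t, s}) (hv2 : v ^ 2 ≠ 1)
    (hc : v * q = q * v) : q ∈ Subgroup.zpowers v := by
  have e := hq.equiv
  have h1 : (e ⟨v, hv⟩) ^ 2 ≠ 1 := by
    rw [← map_pow]
    intro h2
    have h3 := e.injective (h2.trans (map_one e).symm)
    exact hv2 (congrArg Subtype.val h3)
  have h2 : e ⟨v, hv⟩ * e ⟨q, hqQ⟩ = e ⟨q, hqQ⟩ * e ⟨v, hv⟩ := by
    rw [← map_mul, ← map_mul]
    congr 1
    exact Subtype.ext hc
  rcases q8_centralizer _ _ h1 h2 with h3 | h3 | h3 | h3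
  · have h4 := e.injective (h3.trans (map_one e).symm)
    have h5 : q = 1 := congrArg Subtype.val h4
    rw [h5]; exact one_mem _
  · have h4 := e.injective h3
    have h5 : q = v := congrArg Subtype.val h4
    rw [h5]; exact Subgroup.mem_zpowers v
  · rw [← map_pow] at h3
    have h4 := e.injective h3
    have h5 : q = v ^ 2 := congrArg Subtype.val h4
    rw [h5]; exact Subgroup.pow_mem _ (Subgroup.mem_zpowers v) 2
  · rw [← map_pow] at h3
    have h4 := e.injective h3
    have h5 : q = v ^ 3 := congrArg Subtype.val h4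
    rw [h5]; exact Subgroup.pow_mem _ (Subgroup.mem_zpowers v) 3

variable [Finite G]

/-- the index of `Q` is odd -/
theorem not_two_dvd_index_Q {t s : G} (hq : QPair t s) (h16 : ¬ 16 ∣ Nat.card G) :
    ¬ 2 ∣ (Subgroup.closure {t, s}).index := by
  rintro ⟨j, hj⟩
  apply h16
  have := (Subgroup.closure {t, s}).card_mul_index
  rw [hq.card_closure, hj] at this
  exact ⟨j, by omega⟩

/-- a `2`-subgroup is conjugate into `Q` -/
theorem exists_conj_le_Q {t s : G} (hq : QPair t s) (h16 : ¬ 16 ∣ Nat.card G) {A : Subgroup G}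
    (hA : IsPGroup 2 A) : ∃ m : G, ∀ a ∈ A, m * a * m⁻¹ ∈ Subgroup.closure {t, s} := by
  have : Fact (Nat.Prime 2) := ⟨Nat.prime_two⟩
  have hidx : ¬ 2 ∣ (Subgroup.closure {t, s}).relIndex ⊤ := by
    rw [Subgroup.relIndex_top_right]; exact not_two_dvd_index_Q hq h16
  obtain ⟨m, -, hm⟩ := exists_cj_le_of_relIndex (le_top : Subgroup.closure {t, s} ≤ ⊤)
    hq.isPGroup hidx (le_top : A ≤ ⊤) hA
  exact ⟨m, fun a ha => hm (conj_mem_cj ha)⟩

theorem isPGroup_zpowers {g : G} {a : ℕ} (hg : g ^ (2 ^ a) = 1) :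
    IsPGroup 2 (Subgroup.zpowers g) := by
  rintro ⟨x, hx⟩
  obtain ⟨n, rfl⟩ := hx
  refine ⟨a, Subtype.ext ?_⟩
  show (g ^ n) ^ (2 ^ a) = 1
  rw [← zpow_natCast, ← zpow_mul, mul_comm, zpow_mul, zpow_natCast, hg, one_zpow]

/-- a `2`-element commuting with `t` is a power of `t` -/
theorem mem_zpowers_of_two_elt {t s : G} (hq : QPair t s) (h16 : ¬ 16 ∣ Nat.card G) {g : G}
    {a : ℕ} (hg : g ^ (2 ^ a) = 1) (hc : Commute g t) : g ∈ Subgroup.zpowers t := by
  have hA1 : IsPGroup 2 (Subgroup.zpowers g) := isPGroup_zpowers hg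
  have hA2 : IsPGroup 2 (Subgroup.zpowers t) := isPGroup_zpowers (a := 2) (by simpa using hq.t4)
  have hn : Subgroup.zpowers g ≤ Subgroup.normalizer (Subgroup.zpowers t : Set G) := by
    rw [Subgroup.zpowers_le]
    apply mem_normalizer_zpowers
    · rw [hc.eq, mul_inv_cancel_right]; exact Subgroup.mem_zpowers t
    · have : g⁻¹ * t * g = t := by rw [mul_assoc, ← hc.eq, inv_mul_cancel_left]
      rw [this]; exact Subgroup.mem_zpowers t
  have hA : IsPGroup 2 ↥(Subgroup.zpowers g ⊔ Subgroup.zpowers t) :=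
    hA1.to_sup_of_normal_right' hA2 hn
  obtain ⟨m, hm⟩ := exists_conj_le_Q hq h16 hA
  have hv := hm t (le_sup_right (a := Subgroup.zpowers g) (Subgroup.mem_zpowers t))
  have hqQ := hm g (le_sup_left (b := Subgroup.zpowers t) (Subgroup.mem_zpowers g))
  have hv2 : (m * t * m⁻¹) ^ 2 ≠ 1 := by
    rw [conj_pow]; intro h1; exact hq.t2 (conj_eq_one_iff.1 h1)
  have hcc : (m * t * m⁻¹) * (m * g * m⁻¹) = (m * g * m⁻¹) * (m * t * m⁻¹) := by
    calc (m * t * m⁻¹) * (m * g * m⁻¹) = m * (t * g) * m⁻¹ := by simp only [pow_succ, pow_zero, one_mul, mul_one, mul_assoc, inv_mul_cancel_left, mul_inv_cancel_left, mul_inv_rev, inv_inv, mul_inv_cancel, inv_mul_cancel]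
      _ = m * (g * t) * m⁻¹ := by rw [hc.eq]
      _ = _ := by simp only [pow_succ, pow_zero, one_mul, mul_one, mul_assoc, inv_mul_cancel_left, mul_inv_cancel_left, mul_inv_rev, inv_inv, mul_inv_cancel, inv_mul_cancel]
  obtain ⟨k, hk⟩ := mem_zpowers_of_commute_in_Q hq hv hqQ hv2 hcc
  refine ⟨k, ?_⟩
  have h1 : (m * t * m⁻¹) ^ k = m * t ^ k * m⁻¹ := conj_zpow
  have h2 : m * t ^ k * m⁻¹ = m * g * m⁻¹ := by rw [← h1]; exact hk
  have h3 := mul_left_cancel (mul_right_cancel h2)
  exact h3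

end part1

section part1b

variable {F : Type*} [Field F] {W : Type*} [AddCommGroup W] [Module F W] {G : Type*} [Group G]
variable {ρ : G →* Module.End F W}
variable [IsAlgClosed F] [FiniteDimensional F W] [Nontrivial W] [Finite G]

/-- an element commuting with `t` normalizes `Q` -/
theorem mem_normalizer_Q_of_commute (h : IsFpf ρ) (hcard : ((Nat.card G : ℕ) : F) ≠ 0)
    {t s x : G} (hb : Basic t s x) (h16 : ¬ 16 ∣ Nat.card G) {g : G} (hc : Commute g t) :
    g ∈ Subgroup.normalizer (Subgroup.closure {t, s} : Set G) := by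
  have hq := hb.toQPair
  have htQ : t ∈ Subgroup.closure {t, s} := Subgroup.subset_closure (by simp)
  have hsQ : s ∈ Subgroup.closure {t, s} := Subgroup.subset_closure (by simp)
  have hn0 : orderOf g ≠ 0 := (orderOf_pos g).ne'
  obtain ⟨a, m, hm, hn⟩ := Nat.exists_eq_two_pow_mul_odd hn0
  have h2a : (2 : ℕ) ^ a ≠ 0 := by positivity
  -- the odd part
  have hl : orderOf (g ^ (2 ^ a)) = m := by
    rw [orderOf_pow_of_dvd h2a (Dvd.intro _ hn.symm), hn, Nat.mul_div_cancel_left _ (by positivity)]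
  have hlt : Commute (g ^ (2 ^ a)) t := hc.pow_left _
  have hls : Commute (g ^ (2 ^ a)) s :=
    commute_s_of_commute_t h hcard hb _ (by rw [hl]; exact hm) hlt
  have hlN : g ^ (2 ^ a) ∈ Subgroup.normalizer (Subgroup.closure {t, s} : Set G) := by
    apply mem_normalizer_closure_pair
    · rw [hlt.eq, mul_inv_cancel_right]; exact htQ
    · rw [hls.eq, mul_inv_cancel_right]; exact hsQ
  -- the `2`-part
  have h2 : (g ^ m) ^ (2 ^ a) = 1 := by
    rw [← pow_mul, mul_comm, ← hn]; exact pow_orderOf_eq_one g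
  have h2t : g ^ m ∈ Subgroup.zpowers t := mem_zpowers_of_two_elt hq h16 h2 (hc.pow_left _)
  have h2N : g ^ m ∈ Subgroup.normalizer (Subgroup.closure {t, s} : Set G) := by
    apply Subgroup.le_normalizer
    exact (Subgroup.zpowers_le.2 htQ) h2t
  -- Bezout
  have hcop : Nat.Coprime (2 ^ a) m := Nat.Coprime.pow_left a (Nat.coprime_two_left.2 hm)
  have hbez := Nat.gcd_eq_gcd_ab (2 ^ a) m
  rw [hcop] at hbez
  have hg : g = (g ^ (2 ^ a)) ^ (Nat.gcdA (2 ^ a) m) * (g ^ m) ^ (Nat.gcdB (2 ^ a) m) := by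
    rw [← zpow_natCast g, ← zpow_natCast g, ← zpow_mul, ← zpow_mul, ← zpow_add]
    have : ((2 ^ a : ℕ) : ℤ) * Nat.gcdA (2 ^ a) m + (m : ℤ) * Nat.gcdB (2 ^ a) m = 1 := by
      rw [← hbez]; simp
    rw [this, zpow_one]
  rw [hg]
  exact Subgroup.mul_mem _ (Subgroup.zpow_mem _ hlN _) (Subgroup.zpow_mem _ h2N _)

/-- an element normalizing `⟨t⟩` normalizes `Q` -/
theorem mem_normalizer_Q (h : IsFpf ρ) (hcard : ((Nat.card G : ℕ) : F) ≠ 0)
    {t s x : G} (hb : Basic t s x) (h16 : ¬ 16 ∣ Nat.card G) {g : G}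
    (hg : g * t * g⁻¹ = t ∨ g * t * g⁻¹ = t⁻¹) :
    g ∈ Subgroup.normalizer (Subgroup.closure {t, s} : Set G) := by
  rcases hg with h1 | h1
  · apply mem_normalizer_Q_of_commute h hcard hb h16
    show g * t = t * g
    calc g * t = (g * t * g⁻¹) * g := by simp only [pow_succ, pow_zero, one_mul, mul_one, mul_assoc, inv_mul_cancel_left, mul_inv_cancel_left, mul_inv_rev, inv_inv, mul_inv_cancel, inv_mul_cancel]
      _ = t * g := by rw [h1]
  · have hsQ : s ∈ Subgroup.closure {t, s} := Subgroup.subset_closure (by simp)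
    have h2 : Commute (g * s) t := by
      show g * s * t = t * (g * s)
      have h3 : g * t⁻¹ * g⁻¹ = t := by
        calc g * t⁻¹ * g⁻¹ = (g * t * g⁻¹)⁻¹ := by simp only [pow_succ, pow_zero, one_mul, mul_one, mul_assoc, inv_mul_cancel_left, mul_inv_cancel_left, mul_inv_rev, inv_inv, mul_inv_cancel, inv_mul_cancel]
          _ = t := by rw [h1, inv_inv]
      calc g * s * t = g * (s * t * s⁻¹) * g⁻¹ * (g * s) := by simp only [pow_succ, pow_zero, one_mul, mul_one, mul_assoc, inv_mul_cancel_left, mul_inv_cancel_left, mul_inv_rev, inv_inv, mul_inv_cancel, inv_mul_cancel]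
        _ = (g * t⁻¹ * g⁻¹) * (g * s) := by rw [hb.st]
        _ = t * (g * s) := by rw [h3]
    have h4 := mem_normalizer_Q_of_commute h hcard hb h16 h2
    have h5 : g = (g * s) * s⁻¹ := by simp only [pow_succ, pow_zero, one_mul, mul_one, mul_assoc, inv_mul_cancel_left, mul_inv_cancel_left, mul_inv_rev, inv_inv, mul_inv_cancel, inv_mul_cancel]
    rw [h5]
    exact Subgroup.mul_mem _ h4 (Subgroup.inv_mem _ (Subgroup.le_normalizer hsQ))

end part1b

section part2

variable {G : Type*} [Group G]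

/-- a normal subgroup containing an element of order four of `Q` contains `t` -/
theorem t_mem_of_order_four {t s x : G} (hb : Basic t s x) (N : Subgroup G) [hN : N.Normal]
    {v : G} (hvQ : v ∈ Subgroup.closure {t, s}) (hvN : v ∈ N) (hv2 : v ^ 2 ≠ 1) : t ∈ N := by
  have hq := hb.toQPair
  have ht9 : t ^ 9 = t := by
    calc t ^ 9 = t ^ 4 * t ^ 4 * t := by rw [← pow_add, ← pow_succ]
      _ = t := by rw [hq.t4, one_mul, one_mul]
  have hs9 : s ^ 9 = s := by
    calc s ^ 9 = s ^ 4 * s ^ 4 * s := by rw [← pow_add, ← pow_succ]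
      _ = s := by rw [hq.s4, one_mul, one_mul]
  have ht3 : t ^ 3 ∈ N → t ∈ N := by
    intro h3
    have := N.pow_mem h3 3
    rwa [← pow_mul, ht9] at this
  have hsN : s ∈ N → t ∈ N := by
    intro hs
    have h1 : x⁻¹ * s * x = t := by rw [← hb.xt]; simp only [pow_succ, pow_zero, one_mul, mul_one, mul_assoc, inv_mul_cancel_left, mul_inv_cancel_left, mul_inv_rev, inv_inv, mul_inv_cancel, inv_mul_cancel]
    have h2 := hN.conj_mem s hs x⁻¹
    rwa [inv_inv, h1] at h2
  have hx : ∀ y : G, y ∈ N → x * y * x⁻¹ ∈ N := fun y hy => hN.conj_mem y hy x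
  have hxst : ∀ i : ℕ, x * (s * t ^ i) * x⁻¹ = t * s * s ^ i := by
    intro i
    calc x * (s * t ^ i) * x⁻¹ = (x * s * x⁻¹) * (x * t * x⁻¹) ^ i := by rw [conj_pow]; simp only [pow_succ, pow_zero, one_mul, mul_one, mul_assoc, inv_mul_cancel_left, mul_inv_cancel_left, mul_inv_rev, inv_inv, mul_inv_cancel, inv_mul_cancel]
      _ = t * s * s ^ i := by rw [hb.xs, hb.xt]
  rcases hq.mem_cases hvQ with ⟨i, hi⟩ | ⟨i, hi⟩
  · rw [pow_eq_pow_mod i hq.t4] at hi
    have hlt : i % 4 < 4 := Nat.mod_lt _ (by norm_num)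
    interval_cases (i % 4)
    · exfalso; apply hv2; rw [hi]; simp
    · rw [hi, pow_one] at hvN; exact hvN
    · exfalso; apply hv2; rw [hi, ← pow_mul]; exact hq.t4
    · rw [hi] at hvN; exact ht3 hvN
  · rw [pow_eq_pow_mod i hq.t4] at hi
    have hlt : i % 4 < 4 := Nat.mod_lt _ (by norm_num)
    interval_cases (i % 4)
    · rw [hi, pow_zero, mul_one] at hvN; exact hsN hvN
    · have h1 := hx v hvN
      rw [hi, hxst] at h1
      apply ht3
      have h2 : t * s * s ^ 1 = t ^ 3 := by
        calc t * s * s ^ 1 = t * s ^ 2 := by simp only [pow_succ, pow_zero, one_mul, mul_one, mul_assoc, inv_mul_cancel_left, mul_inv_cancel_left, mul_inv_rev, inv_inv, mul_inv_cancel, inv_mul_cancel]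
          _ = t ^ 3 := by rw [hq.s2]; simp only [pow_succ, pow_zero, one_mul, mul_one, mul_assoc, inv_mul_cancel_left, mul_inv_cancel_left, mul_inv_rev, inv_inv, mul_inv_cancel, inv_mul_cancel]
      rwa [h2] at h1
    · apply hsN
      have h1 : v = s ^ 3 := by
        rw [hi, ← hq.s2]; simp only [pow_succ, pow_zero, one_mul, mul_one, mul_assoc, inv_mul_cancel_left, mul_inv_cancel_left, mul_inv_rev, inv_inv, mul_inv_cancel, inv_mul_cancel]
      have h2 := N.pow_mem hvN 3
      rwa [h1, ← pow_mul, hs9] at h2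
    · have h1 := hx v hvN
      rw [hi, hxst] at h1
      have h2 : t * s * s ^ 3 = t := by
        calc t * s * s ^ 3 = t * s ^ 4 := by simp only [pow_succ, pow_zero, one_mul, mul_one, mul_assoc, inv_mul_cancel_left, mul_inv_cancel_left, mul_inv_rev, inv_inv, mul_inv_cancel, inv_mul_cancel]
          _ = t := by rw [hq.s4, mul_one]
      rwa [h2] at h1

end part2

section part2b

variable {F : Type*} [Field F] {W : Type*} [AddCommGroup W] [Module F W] {G : Type*} [Group G]
variable {ρ : G →* Module.End F W}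
variable [IsAlgClosed F] [FiniteDimensional F W] [Nontrivial W] [Finite G]

/-- a normal subgroup containing `Q` is everything -/
theorem eq_top_of_Q_le (h : IsFpf ρ) (hperf : commutator G = ⊤) {t s : G} (hq : QPair t s)
    (h16 : ¬ 16 ∣ Nat.card G) (N : Subgroup G) [hN : N.Normal]
    (hQN : Subgroup.closure {t, s} ≤ N) : N = ⊤ := by
  by_contra hne
  have hidx1 : N.index ≠ 1 := fun h1 => hne (Subgroup.index_eq_one.1 h1)
  have hcard1 : Nat.card (G ⧸ N) ≠ 1 := by rw [← Subgroup.index_eq_card]; exact hidx1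
  have : Nontrivial (G ⧸ N) := by
    rw [← Finite.one_lt_card_iff_nontrivial]
    have : 0 < Nat.card (G ⧸ N) := Nat.card_pos
    omega
  obtain ⟨p, hp⟩ : ∃ p, (Nat.card (G ⧸ N)).minFac = p := ⟨_, rfl⟩
  have hpp : p.Prime := by rw [← hp]; exact Nat.minFac_prime hcard1
  have : Fact p.Prime := ⟨hpp⟩
  have hp2 : p ≠ 2 := by
    intro h2
    apply not_two_dvd_index_Q hq h16
    have h3 : p ∣ Nat.card (G ⧸ N) := by rw [← hp]; exact Nat.minFac_dvd _
    rw [← Subgroup.index_eq_card, h2] at h3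
    exact h3.trans (Subgroup.index_dvd_of_le hQN)
  let P₀ : Sylow p G := default
  have hc0 : IsCyclic ↥(P₀ : Subgroup G) := isCyclic_of_odd h hp2 (P₀ : Subgroup G) P₀.isPGroup'
  let P : Sylow p (G ⧸ N) := P₀.mapSurjective (QuotientGroup.mk'_surjective N)
  have : IsCyclic ↥(P : Subgroup (G ⧸ N)) := by
    have h1 : (P : Subgroup (G ⧸ N)) = (P₀ : Subgroup G).map (QuotientGroup.mk' N) :=
      Sylow.coe_mapSurjective _ _
    rw [h1]
    exact isCyclic_of_surjective _ ((QuotientGroup.mk' N).subgroupMap_surjective (P₀ : Subgroup G))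
  exact not_perfect_of_cyclic_sylow hp P (perfect_quotient hperf N)

/-- **normal subgroups** of a perfect fixed-point-free group are central of order at most two,
or everything -/
theorem normal_le_or_top (h : IsFpf ρ)
    (hperf : commutator G = ⊤) {t s x : G} (hb : Basic t s x) (h16 : ¬ 16 ∣ Nat.card G)
    (N : Subgroup G) [hN : N.Normal] : N ≤ Subgroup.zpowers (t ^ 2) ∨ N = ⊤ := by
  have hq := hb.toQPair
  have htQ : t ∈ Subgroup.closure {t, s} := Subgroup.subset_closure (by simp)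
  by_cases hcase : ∃ u ∈ N, u ^ 4 = 1 ∧ u ^ 2 ≠ 1
  · right
    obtain ⟨u, huN, hu4, hu2⟩ := hcase
    obtain ⟨m, hm⟩ := exists_conj_le_Q hq h16 (isPGroup_zpowers (g := u) (a := 2) (by simpa using hu4))
    have hvQ := hm u (Subgroup.mem_zpowers u)
    have hvN : m * u * m⁻¹ ∈ N := hN.conj_mem u huN m
    have hv2 : (m * u * m⁻¹) ^ 2 ≠ 1 := by
      rw [conj_pow]; intro h1; exact hu2 (conj_eq_one_iff.1 h1)
    have htN : t ∈ N := t_mem_of_order_four hb N hvQ hvN hv2
    have hsN : s ∈ N := by rw [← hb.xt]; exact hN.conj_mem t htN x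
    apply eq_top_of_Q_le h hperf hq h16 N
    rw [Subgroup.closure_le]
    intro g hg
    simp only [Set.mem_insert_iff, Set.mem_singleton_iff] at hg
    rcases hg with rfl | rfl
    · exact htN
    · exact hsN
  · left
    push Not at hcase
    have : IsZGroup ↥N := by
      refine ⟨fun p hp P => ?_⟩
      have : Fact p.Prime := ⟨hp⟩
      have hP' : IsPGroup p ↥((P : Subgroup N).map N.subtype) := P.isPGroup'.map N.subtype
      have e : ↥(P : Subgroup N) ≃* ↥((P : Subgroup N).map N.subtype) :=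
        Subgroup.equivMapOfInjective _ _ N.subtype_injective
      rw [e.isCyclic]
      by_cases hp2 : p = 2
      · subst hp2
        rcases isCyclic_or_quat h _ hP' with hc | ⟨-, n, ⟨θ⟩⟩
        · exact hc
        · exfalso
          have ho : orderOf (θ.symm (xa 0)) = 4 := by
            rw [MulEquiv.orderOf_eq, QuaternionGroup.orderOf_xa]
          have huN : ((θ.symm (xa 0) : ↥((P : Subgroup N).map N.subtype)) : G) ∈ N := by
            obtain ⟨y, -, hy⟩ := (θ.symm (xa 0)).2
            rw [← hy]; exact y.2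
          have ho' : orderOf ((θ.symm (xa 0) : ↥((P : Subgroup N).map N.subtype)) : G) = 4 := by
            rw [Subgroup.orderOf_coe, ho]
          have h4 : ((θ.symm (xa 0) : ↥((P : Subgroup N).map N.subtype)) : G) ^ 4 = 1 := by
            rw [← ho']; exact pow_orderOf_eq_one _
          have h2 := hcase _ huN h4
          have := orderOf_dvd_of_pow_eq_one h2
          rw [ho'] at this
          omega
      · exact isCyclic_of_odd h hp2 _ hP'
    have hNc : N ≤ Subgroup.center G := zgroup_normal_le_center hperf N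
    intro w hw
    have hwc : w ∈ Subgroup.center G := hNc hw
    have hn0 : orderOf w ≠ 0 := (orderOf_pos w).ne'
    have hodd : ∀ {p : ℕ}, p.Prime → p ∣ orderOf w → p = 2 := by
      intro p hp hpn
      by_contra hp2
      have : Fact p.Prime := ⟨hp⟩
      let P₀ : Sylow p G := default
      have hc0 : IsCyclic ↥(P₀ : Subgroup G) :=
        isCyclic_of_odd h hp2 (P₀ : Subgroup G) P₀.isPGroup'
      have hcomm : ∀ a ∈ (P₀ : Subgroup G), ∀ b ∈ (P₀ : Subgroup G), a * b = b * a := by
        intro a ha b hb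
        exact congrArg Subtype.val (comm_of_isCyclic hc0 ⟨a, ha⟩ ⟨b, hb⟩)
      have h1 := central_pow_index_eq_one hperf (P₀ : Subgroup G) hcomm w hwc
      exact P₀.not_dvd_index (hpn.trans (orderOf_dvd_of_pow_eq_one h1))
    have hn2 := Nat.eq_prime_pow_of_unique_prime_dvd hn0 hodd
    obtain ⟨k, hk⟩ : ∃ k, orderOf w = 2 ^ k := ⟨_, hn2⟩
    have hcomm : ∀ a ∈ Subgroup.zpowers t, ∀ b ∈ Subgroup.zpowers t, a * b = b * a := by
      rintro a ⟨i, rfl⟩ b ⟨j, rfl⟩
      exact zpow_mul_comm t i j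
    have h1 := central_pow_index_eq_one hperf (Subgroup.zpowers t) hcomm w hwc
    have h2 := orderOf_dvd_of_pow_eq_one h1
    have hot : orderOf t = 4 := by
      have : Fact (Nat.Prime 2) := ⟨Nat.prime_two⟩
      have := orderOf_eq_prime_pow (x := t) (p := 2) (n := 1) (by simpa using hq.t2)
        (by simpa using hq.t4)
      simpa using this
    have h3 := (Subgroup.zpowers t).card_mul_index
    rw [Nat.card_zpowers, hot] at h3
    have hk1 : k ≤ 1 := by
      by_contra hk2
      push Not at hk2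
      apply h16
      have h4 : (4 : ℕ) ∣ 2 ^ k := by
        calc (4 : ℕ) = 2 ^ 2 := by norm_num
          _ ∣ 2 ^ k := pow_dvd_pow 2 hk2
      rw [← hk] at h4
      obtain ⟨j, hj⟩ := h4.trans h2
      exact ⟨j, by rw [← h3, hj]; ring⟩
    have hw2 : w ^ 2 = 1 := by
      have : orderOf w ∣ 2 := by
        rw [hk]
        calc 2 ^ k ∣ 2 ^ 1 := pow_dvd_pow 2 hk1
          _ = 2 := by norm_num
      exact orderOf_dvd_iff_pow_eq_one.1 this
    by_cases hw1 : w = 1
    · rw [hw1]; exact one_mem _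
    · have hz2 : (t ^ 2) ^ 2 = 1 := by rw [← pow_mul]; exact hq.t4
      rw [h.invol_unique hw1 hq.t2 hw2 hz2]
      exact Subgroup.mem_zpowers _

end part2b

section part3

variable {F : Type*} [Field F] {W : Type*} [AddCommGroup W] [Module F W] {G : Type*} [Group G]
variable {ρ : G →* Module.End F W}
variable [IsAlgClosed F] [FiniteDimensional F W] [Nontrivial W] [Finite G]

theorem card_alternatingGroup_five : Nat.card ↥(alternatingGroup (Fin 5)) = 60 := by
  rw [Nat.card_eq_fintype_card]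
  have := two_mul_card_alternatingGroup (α := Fin 5)
  rw [Fintype.card_perm, Fintype.card_fin] at this
  have h5 : Nat.factorial 5 = 120 := by decide
  rw [h5] at this
  omega

/-- a nontrivial perfect fixed-point-free linear group modulo its central involution is the
alternating group of degree five -/
theorem exists_quotient_A5 (h : IsFpf ρ) (hcard : ((Nat.card G : ℕ) : F) ≠ 0)
    (hperf : commutator G = ⊤) [Nontrivial G] :
    ∃ z : G, z ≠ 1 ∧ z ^ 2 = 1 ∧ ∃ _ : (Subgroup.zpowers z).Normal,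
      Nonempty (G ⧸ Subgroup.zpowers z ≃* ↥(alternatingGroup (Fin 5))) := by
  obtain ⟨t, s, x, hb⟩ := exists_basic h hcard hperf
  have hq := hb.toQPair
  have h16 := not_sixteen_dvd h hcard hperf hb
  have htQ : t ∈ Subgroup.closure {t, s} := Subgroup.subset_closure (by simp)
  have hsQ : s ∈ Subgroup.closure {t, s} := Subgroup.subset_closure (by simp)
  obtain ⟨z, hz⟩ : ∃ z, z = t ^ 2 := ⟨_, rfl⟩
  have hz1 : z ≠ 1 := by rw [hz]; exact hq.t2
  have hz2 : z ^ 2 = 1 := by rw [hz, ← pow_mul]; exact hq.t4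
  have hzc : ∀ g, g * z = z * g := h.invol_central hz1 hz2
  have hzkc : ∀ (k : ℤ) (g : G), g * z ^ k = z ^ k * g := by
    intro k g
    exact ((show Commute g z from hzc g).zpow_right k).eq
  have hZn : (Subgroup.zpowers z).Normal := by
    constructor
    rintro n ⟨k, rfl⟩ g
    show g * z ^ k * g⁻¹ ∈ _
    rw [hzkc k g, mul_inv_cancel_right]
    exact ⟨k, rfl⟩
  have hZmem : ∀ w ∈ Subgroup.zpowers z, w = 1 ∨ w = z := by
    intro w hw
    obtain ⟨i, hi, rfl⟩ := exists_pow_lt_of_mem_zpowers (by norm_num) hz2 hw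
    interval_cases i
    · left; simp
    · right; simp
  have hoz : orderOf z = 2 := by
    have : Fact (Nat.Prime 2) := ⟨Nat.prime_two⟩
    exact orderOf_eq_prime hz2 hz1
  have hZcard : Nat.card (Subgroup.zpowers z) = 2 := by rw [Nat.card_zpowers, hoz]
  have hZQ : Subgroup.zpowers z ≤ Subgroup.closure {t, s} := by
    rw [Subgroup.zpowers_le, hz]; exact Subgroup.pow_mem _ htQ 2
  have hπs := QuotientGroup.mk'_surjective (Subgroup.zpowers z)
  -- the involution
  have hx1 : QuotientGroup.mk' (Subgroup.zpowers z) t ≠ 1 := by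
    intro h1
    have h2 : t ∈ Subgroup.zpowers z := (QuotientGroup.eq_one_iff t).1 h1
    obtain ⟨k, hk⟩ := h2
    apply hq.not_comm
    rw [← hk]
    exact (hzkc k s).symm
  have hx2 : QuotientGroup.mk' (Subgroup.zpowers z) t ^ 2 = 1 := by
    rw [← map_pow]
    exact (QuotientGroup.eq_one_iff _).2 (by rw [← hz]; exact Subgroup.mem_zpowers z)
  have hxo : orderOf (QuotientGroup.mk' (Subgroup.zpowers z) t) = 2 := by
    have : Fact (Nat.Prime 2) := ⟨Nat.prime_two⟩
    exact orderOf_eq_prime hx2 hx1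
  -- the Klein four group
  have hidx : ((Subgroup.closure {t, s}).map (QuotientGroup.mk' (Subgroup.zpowers z))).index =
      (Subgroup.closure {t, s}).index := by
    rw [Subgroup.index_map, QuotientGroup.ker_mk', sup_of_le_left hZQ,
      MonoidHom.range_eq_top.2 hπs, Subgroup.index_top, mul_one]
  have hGZ : Nat.card G = Nat.card (G ⧸ Subgroup.zpowers z) * 2 := by
    rw [← hZcard]; exact Subgroup.card_eq_card_quotient_mul_card_subgroup _
  have hQidx := (Subgroup.closure {t, s}).card_mul_index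
  rw [hq.card_closure] at hQidx
  have hS4 : Nat.card ((Subgroup.closure {t, s}).map (QuotientGroup.mk' (Subgroup.zpowers z))) = 4 := by
    have h1 := ((Subgroup.closure {t, s}).map (QuotientGroup.mk' (Subgroup.zpowers z))).card_mul_index
    rw [hidx] at h1
    have hpos : 0 < (Subgroup.closure {t, s}).index := by
      rcases Nat.eq_zero_or_pos (Subgroup.closure {t, s}).index with h0 | h0
      · rw [h0] at hQidx
        have := Nat.card_pos (α := G)
        omega
      · exact h0
    have h2 : Nat.card ((Subgroup.closure {t, s}).map (QuotientGroup.mk' (Subgroup.zpowers z))) *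
        (Subgroup.closure {t, s}).index = 4 * (Subgroup.closure {t, s}).index := by
      omega
    exact Nat.eq_of_mul_eq_mul_right hpos h2
  have hsqZ : ∀ q ∈ Subgroup.closure {t, s}, q ^ 2 ∈ Subgroup.zpowers z := by
    intro q hqQ
    have h4 := hq.pow_four_of_mem hqQ
    by_cases h1 : q ^ 2 = 1
    · rw [h1]; exact one_mem _
    · have h2 : (q ^ 2) ^ 2 = 1 := by rw [← pow_mul]; exact h4
      rw [h.invol_unique h1 hz1 h2 hz2]
      exact Subgroup.mem_zpowers z
  have hK : IsKleinFour ↥((Subgroup.closure {t, s}).map (QuotientGroup.mk' (Subgroup.zpowers z))) := by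
    refine ⟨hS4, ?_⟩
    have hdvd : Monoid.exponent
        ↥((Subgroup.closure {t, s}).map (QuotientGroup.mk' (Subgroup.zpowers z))) ∣ 2 := by
      apply Monoid.exponent_dvd_of_forall_pow_eq_one
      rintro ⟨g, q, hqQ, rfl⟩
      apply Subtype.ext
      show (QuotientGroup.mk' (Subgroup.zpowers z) q) ^ 2 = 1
      rw [← map_pow]
      exact (QuotientGroup.eq_one_iff _).2 (hsqZ q hqQ)
    rcases (Nat.dvd_prime Nat.prime_two).1 hdvd with h1 | h1
    · exfalso
      rw [Monoid.exp_eq_one_iff] at h1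
      have := Nat.card_eq_one_iff_unique.2 ⟨h1, ⟨1⟩⟩
      omega
    · exact h1
  have hxS : QuotientGroup.mk' (Subgroup.zpowers z) t ∈
      (Subgroup.closure {t, s}).map (QuotientGroup.mk' (Subgroup.zpowers z)) := ⟨t, htQ, rfl⟩
  have hle : (Subgroup.closure {t, s}).map (QuotientGroup.mk' (Subgroup.zpowers z)) ≤
      Subgroup.centralizer {QuotientGroup.mk' (Subgroup.zpowers z) t} := by
    intro g hg
    rw [Subgroup.mem_centralizer_singleton_iff]
    exact congrArg Subtype.val (mul_comm_of_exponent_two hK.exponent_two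
      (⟨g, hg⟩ : ↥((Subgroup.closure {t, s}).map (QuotientGroup.mk' (Subgroup.zpowers z))))
      ⟨_, hxS⟩)
  have hodd : ¬ 2 ∣ ((Subgroup.closure {t, s}).map (QuotientGroup.mk' (Subgroup.zpowers z))).relIndex
      (Subgroup.centralizer {QuotientGroup.mk' (Subgroup.zpowers z) t}) := by
    intro h2
    apply not_two_dvd_index_Q hq h16
    rw [← hidx]
    exact h2.trans (Subgroup.relIndex_dvd_index_of_le hle)
  have hn : (((Subgroup.closure {t, s}).map (QuotientGroup.mk' (Subgroup.zpowers z))).subgroupOf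
      (Subgroup.centralizer {QuotientGroup.mk' (Subgroup.zpowers z) t})).Normal := by
    constructor
    intro n hn g
    rw [Subgroup.mem_subgroupOf] at hn ⊢
    obtain ⟨q, hqQ, hqn⟩ := hn
    obtain ⟨g₀, hg₀⟩ := hπs (g : G ⧸ Subgroup.zpowers z)
    have hgC := Subgroup.mem_centralizer_singleton_iff.1 g.2
    have h1 : QuotientGroup.mk' (Subgroup.zpowers z) (g₀ * t * g₀⁻¹ * t⁻¹) = 1 := by
      rw [map_mul, map_mul, map_mul, map_inv, map_inv, hg₀, hgC, mul_inv_cancel_right,
        mul_inv_cancel]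
    have h2 := hZmem _ ((QuotientGroup.eq_one_iff _).1 h1)
    have h3 : g₀ * t * g₀⁻¹ = t ∨ g₀ * t * g₀⁻¹ = t⁻¹ := by
      rcases h2 with h2 | h2
      · left
        calc g₀ * t * g₀⁻¹ = (g₀ * t * g₀⁻¹ * t⁻¹) * t := by simp only [pow_succ, pow_zero, one_mul, mul_one, mul_assoc, inv_mul_cancel_left, mul_inv_cancel_left, mul_inv_rev, inv_inv, mul_inv_cancel, inv_mul_cancel]
          _ = t := by rw [h2, one_mul]
      · right
        calc g₀ * t * g₀⁻¹ = (g₀ * t * g₀⁻¹ * t⁻¹) * t := by simp only [pow_succ, pow_zero, one_mul, mul_one, mul_assoc, inv_mul_cancel_left, mul_inv_cancel_left, mul_inv_rev, inv_inv, mul_inv_cancel, inv_mul_cancel]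
          _ = t ^ 3 := by rw [h2, hz]; simp only [pow_succ, pow_zero, one_mul, mul_one, mul_assoc, inv_mul_cancel_left, mul_inv_cancel_left, mul_inv_rev, inv_inv, mul_inv_cancel, inv_mul_cancel]
          _ = t⁻¹ := by rw [eq_inv_iff_mul_eq_one, ← pow_succ]; exact hq.t4
    have h4 := mem_normalizer_Q h hcard hb h16 h3
    have h5 := (Subgroup.mem_normalizer_iff.1 h4 q).1 hqQ
    refine ⟨g₀ * q * g₀⁻¹, h5, ?_⟩
    rw [map_mul, map_mul, map_inv, hg₀, hqn]
    rfl
  -- simplicity
  have hsimple : IsSimpleGroup (G ⧸ Subgroup.zpowers z) := by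
    have : Nontrivial (G ⧸ Subgroup.zpowers z) := ⟨⟨_, 1, hx1⟩⟩
    refine ⟨fun H hH => ?_⟩
    have hNn : (H.comap (QuotientGroup.mk' (Subgroup.zpowers z))).Normal := hH.comap _
    rcases normal_le_or_top h hperf hb h16 (H.comap (QuotientGroup.mk' (Subgroup.zpowers z)))
      with h1 | h1
    · left
      rw [eq_bot_iff]
      intro y hy
      obtain ⟨g₀, rfl⟩ := hπs y
      have h2 : g₀ ∈ Subgroup.zpowers (t ^ 2) := h1 (Subgroup.mem_comap.2 hy)
      rw [← hz] at h2
      rw [Subgroup.mem_bot]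
      exact (QuotientGroup.eq_one_iff _).2 h2
    · right
      rw [eq_top_iff]
      intro y _
      obtain ⟨g₀, rfl⟩ := hπs y
      have h2 : g₀ ∈ H.comap (QuotientGroup.mk' (Subgroup.zpowers z)) := by
        rw [h1]; exact Subgroup.mem_top _
      exact Subgroup.mem_comap.1 h2
  exact ⟨z, hz1, hz2, hZn, Cfsg.Agent.S3278.result (QuotientGroup.mk' (Subgroup.zpowers z) t) hxo
    ((Subgroup.closure {t, s}).map (QuotientGroup.mk' (Subgroup.zpowers z))) hle hK hodd hn⟩

/-- **Zassenhaus**: a nontrivial perfect group acting fixed-point-freely on a vector space (in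
coprime characteristic) is `SL(2,5)` -/
theorem nonempty_mulEquiv (h : IsFpf ρ) (hcard : ((Nat.card G : ℕ) : F) ≠ 0)
    (hperf : commutator G = ⊤) [Nontrivial G] :
    Nonempty (G ≃* Matrix.SpecialLinearGroup (Fin 2) (ZMod 5)) := by
  obtain ⟨z, hz1, hz2, hZn, ⟨e⟩⟩ := exists_quotient_A5 h hcard hperf
  have hoz : orderOf z = 2 := by
    have : Fact (Nat.Prime 2) := ⟨Nat.prime_two⟩
    exact orderOf_eq_prime hz2 hz1
  have hZcard : Nat.card (Subgroup.zpowers z) = 2 := by rw [Nat.card_zpowers, hoz]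
  have hGZ : Nat.card G = Nat.card (G ⧸ Subgroup.zpowers z) * 2 := by
    rw [← hZcard]; exact Subgroup.card_eq_card_quotient_mul_card_subgroup _
  have h60 : Nat.card (G ⧸ Subgroup.zpowers z) = 60 := by
    rw [Nat.card_congr e.toEquiv, card_alternatingGroup_five]
  have h120 : Nat.card G = 120 := by rw [hGZ, h60]
  have hns : ¬ Group.IsSolvable G := by
    intro hsol
    exact not_perfect_of_solvable hperf
  have hsyl : ∀ P : Sylow 2 G, Nonempty ((P : Subgroup G) ≃* QuaternionGroup 2) := by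
    intro P
    have : Fact (Nat.Prime 2) := ⟨Nat.prime_two⟩
    rcases Cfsg.Agent.Lib.Helper50_UniqueInv2.isCyclic_or_quaternion P.isPGroup'
      (uniqueInvolution h (P : Subgroup G)) with hc | ⟨k, hk1, ⟨θ⟩⟩
    · exfalso
      have hmf : (Nat.card G).minFac = 2 := by rw [h120]; norm_num
      exact not_perfect_of_cyclic_sylow hmf P hperf
    · have hPc : Nat.card (P : Subgroup G) = 4 * 2 ^ k := by
        rw [Nat.card_congr θ.toEquiv, Nat.card_eq_fintype_card, QuaternionGroup.card]
      have hdvd := (P : Subgroup G).card_subgroup_dvd_card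
      rw [hPc, h120] at hdvd
      have hk : k = 1 := by
        by_contra hk'
        have hk2 : 2 ≤ k := by omega
        have h4 : (16 : ℕ) ∣ 4 * 2 ^ k := by
          calc (16 : ℕ) = 4 * 2 ^ 2 := by norm_num
            _ ∣ 4 * 2 ^ k := Nat.mul_dvd_mul_left 4 (pow_dvd_pow 2 hk2)
        have h5 : (16 : ℕ) ∣ 120 := h4.trans hdvd
        omega
      subst hk
      exact ⟨θ⟩
  exact (Cfsg.Agent.S3378.result).1 G h120 hns hsyl

end part3

end Cfsg.Agent.Lib.Helper12_FpfSimple
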