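import Mathlib
import Cfsg.Agent.Lib.Helper12_FpfLin
import Cfsg.Agent.Lib.Helper12_FpfSimple
import Cfsg.Agent.Lib.Helper1_FPFAut
import Cfsg.Agent.Lib.Helper1_Thompson

/-!
# Linearisation of a fixed-point-free automorphism group (helper12)

A nontrivial group `G` of automorphisms of a finite group `K`, every non-identity element of which
fixes only the identity, acts fixed-point-freely on the elementary abelian group `Ω₁(Z(K))`
(`K` is nilpotent by Thompson's theorem); base change to the algebraic closure of the prime field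
gives a fixed-point-free linear representation in coprime characteristic.
-/

set_option autoImplicit false

namespace Cfsg.Agent.Lib.Helper12_FpfLinearize

open TensorProduct Cfsg.Agent.Lib.Helper12_FpfLin

universe u

section abstract

variable {V : Type*} [AddCommGroup V] (p : ℕ) [Fact p.Prime] [Module (ZMod p) V]
  {G : Type*} [Group G] (act : G →* AddMonoid.End V)

/-- the `ZMod p`-linear representation -/
def rep₀ : G →* Module.End (ZMod p) V where
  toFun g := AddMonoidHom.toZModLinearMap p (act g)
  map_one' := by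
    rw [map_one]; ext v; rfl
  map_mul' g h := by
    rw [map_mul]; ext v; rfl

@[simp] theorem rep₀_apply (g : G) (v : V) : rep₀ p act g v = act g v := rfl

/-- the base-changed representation -/
noncomputable def rep (F : Type*) [Field F] [Algebra (ZMod p) F] :
    G →* Module.End F (F ⊗[ZMod p] V) :=
  (Module.End.baseChangeHom (ZMod p) F V).toMonoidHom.comp (rep₀ p act)

theorem rep_apply (F : Type*) [Field F] [Algebra (ZMod p) F] (g : G) :
    rep p act F g = LinearMap.baseChange F (rep₀ p act g) := rfl

theorem rep_isFpf [Finite V] (F : Type*) [Field F] [Algebra (ZMod p) F]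
    (hfpf : ∀ g : G, g ≠ 1 → ∀ v : V, act g v = v → v = 0) : IsFpf (rep p act F) := by
  intro g hg w hw
  -- `rep₀ g - 1` is bijective
  have hinj : Function.Injective (rep₀ p act g - 1 : Module.End (ZMod p) V) := by
    rw [← LinearMap.ker_eq_bot, LinearMap.ker_eq_bot']
    intro v hv
    apply hfpf g hg v
    have : rep₀ p act g v - v = 0 := hv
    rw [rep₀_apply] at this
    exact sub_eq_zero.1 this
  have hbij : Function.Bijective (rep₀ p act g - 1 : Module.End (ZMod p) V) :=
    ⟨hinj, Finite.surjective_of_injective hinj⟩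
  let e := LinearEquiv.ofBijective (rep₀ p act g - 1 : Module.End (ZMod p) V) hbij
  have h1 : (e.symm : V →ₗ[ZMod p] V) ∘ₗ (rep₀ p act g - 1 : Module.End (ZMod p) V) =
      LinearMap.id := by
    ext v
    exact e.symm_apply_apply v
  have h2 := congrArg (LinearMap.baseChange F) h1
  rw [LinearMap.baseChange_comp, LinearMap.baseChange_id, LinearMap.baseChange_sub] at h2
  have h3 := congrArg (fun f => f w) h2
  simp only [LinearMap.comp_apply, LinearMap.sub_apply, LinearMap.id_apply] at h3
  rw [← h3]
  have h4 : LinearMap.baseChange F (rep₀ p act g) w = w := hw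
  rw [h4]
  have h5 : LinearMap.baseChange F (1 : Module.End (ZMod p) V) w = w := by
    rw [LinearMap.baseChange_one]; rfl
  rw [h5, sub_self, map_zero]


/-- the abstract linearisation, with a given `ZMod p`-module structure -/
theorem of_linear_aux {V : Type u} [AddCommGroup V] [Finite V] [Nontrivial V]
    (p : ℕ) [hp : Fact p.Prime] [Module (ZMod p) V] {G : Type*} [Group G] [Finite G]
    (act : G →* AddMonoid.End V)
    (hfpf : ∀ g : G, g ≠ 1 → ∀ v : V, act g v = v → v = 0) (hpG : ¬ p ∣ Nat.card G) (P : Prop)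
    (hP : ∀ (F : Type) [Field F] [IsAlgClosed F] (W : Type u) [AddCommGroup W] [Module F W]
      [FiniteDimensional F W] [Nontrivial W] (ρ : G →* Module.End F W), IsFpf ρ →
      ((Nat.card G : ℕ) : F) ≠ 0 → P) : P := by
  have hfpf' : IsFpf (rep p act (AlgebraicClosure (ZMod p))) :=
    rep_isFpf p act (AlgebraicClosure (ZMod p)) hfpf
  have h1 : 0 < Module.finrank (ZMod p) V := Module.finrank_pos
  have h2 : Module.finrank (AlgebraicClosure (ZMod p)) (AlgebraicClosure (ZMod p) ⊗[ZMod p] V) =
      Module.finrank (ZMod p) V := Module.finrank_baseChange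
  have : Nontrivial (AlgebraicClosure (ZMod p) ⊗[ZMod p] V) := by
    have h3 : 0 < Module.finrank (AlgebraicClosure (ZMod p))
        (AlgebraicClosure (ZMod p) ⊗[ZMod p] V) := by
      rw [h2]; exact h1
    exact Module.nontrivial_of_finrank_pos h3
  have hcard : ((Nat.card G : ℕ) : AlgebraicClosure (ZMod p)) ≠ 0 := by
    intro h0
    rw [CharP.cast_eq_zero_iff (AlgebraicClosure (ZMod p)) p] at h0
    exact hpG h0
  exact hP (AlgebraicClosure (ZMod p)) (AlgebraicClosure (ZMod p) ⊗[ZMod p] V)
    (rep p act (AlgebraicClosure (ZMod p))) hfpf' hcard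

/-- the abstract form, with a given `ZMod p`-module structure -/
theorem nonempty_mulEquiv_of_module {V : Type*} [AddCommGroup V] [Finite V] [Nontrivial V]
    (p : ℕ) [hp : Fact p.Prime] [Module (ZMod p) V] {G : Type*} [Group G] [Finite G]
    [Nontrivial G] (act : G →* AddMonoid.End V)
    (hfpf : ∀ g : G, g ≠ 1 → ∀ v : V, act g v = v → v = 0) (hpG : ¬ p ∣ Nat.card G)
    (hperf : commutator G = ⊤) :
    Nonempty (G ≃* Matrix.SpecialLinearGroup (Fin 2) (ZMod 5)) := by
  have hfpf' : IsFpf (rep p act (AlgebraicClosure (ZMod p))) :=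
    rep_isFpf p act (AlgebraicClosure (ZMod p)) hfpf
  have h1 : 0 < Module.finrank (ZMod p) V := Module.finrank_pos
  have h2 : Module.finrank (AlgebraicClosure (ZMod p)) (AlgebraicClosure (ZMod p) ⊗[ZMod p] V) =
      Module.finrank (ZMod p) V := Module.finrank_baseChange
  have : Nontrivial (AlgebraicClosure (ZMod p) ⊗[ZMod p] V) := by
    have h3 : 0 < Module.finrank (AlgebraicClosure (ZMod p))
        (AlgebraicClosure (ZMod p) ⊗[ZMod p] V) := by
      rw [h2]; exact h1
    exact Module.nontrivial_of_finrank_pos h3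
  have hcard : ((Nat.card G : ℕ) : AlgebraicClosure (ZMod p)) ≠ 0 := by
    intro h0
    rw [CharP.cast_eq_zero_iff (AlgebraicClosure (ZMod p)) p] at h0
    exact hpG h0
  exact Cfsg.Agent.Lib.Helper12_FpfSimple.nonempty_mulEquiv hfpf' hcard hperf

/-- the abstract form: a perfect group acting fixed-point-freely on an elementary abelian
`p`-group, `p` prime to its order, is `SL(2,5)` -/
theorem nonempty_mulEquiv_of_additive {V : Type*} [AddCommGroup V] [Finite V] [Nontrivial V]
    (p : ℕ) [hp : Fact p.Prime] (hpV : ∀ v : V, p • v = 0) {G : Type*} [Group G] [Finite G]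
    [Nontrivial G] (act : G →* AddMonoid.End V)
    (hfpf : ∀ g : G, g ≠ 1 → ∀ v : V, act g v = v → v = 0) (hpG : ¬ p ∣ Nat.card G)
    (hperf : commutator G = ⊤) :
    Nonempty (G ≃* Matrix.SpecialLinearGroup (Fin 2) (ZMod 5)) :=
  letI : Module (ZMod p) V := AddCommGroup.zmodModule hpV
  nonempty_mulEquiv_of_module p act hfpf hpG hperf

end abstract

section fromGroup

variable {K : Type*} [Group K]

/-- the `p`-torsion of the center -/
def omegaCenter (K : Type*) [Group K] (p : ℕ) : Subgroup K where
  carrier := {a | a ∈ Subgroup.center K ∧ a ^ p = 1}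
  one_mem' := ⟨one_mem _, one_pow _⟩
  mul_mem' := by
    rintro a b ⟨ha, ha'⟩ ⟨hb, hb'⟩
    refine ⟨mul_mem ha hb, ?_⟩
    have hc : Commute a b := (Subgroup.mem_center_iff.1 ha b).symm
    rw [hc.mul_pow, ha', hb', one_mul]
  inv_mem' := by
    rintro a ⟨ha, ha'⟩
    exact ⟨inv_mem ha, by rw [inv_pow, ha', inv_one]⟩

theorem mem_omegaCenter {p : ℕ} {a : K} :
    a ∈ omegaCenter K p ↔ a ∈ Subgroup.center K ∧ a ^ p = 1 := Iff.rfl

theorem map_mem_omegaCenter {p : ℕ} (φ : MulAut K) {a : K} (ha : a ∈ omegaCenter K p) :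
    φ a ∈ omegaCenter K p := by
  refine ⟨?_, ?_⟩
  · rw [Subgroup.mem_center_iff]
    intro g
    obtain ⟨g', rfl⟩ := φ.surjective g
    rw [← map_mul, ← map_mul, Subgroup.mem_center_iff.1 ha.1 g']
  · rw [← map_pow, ha.2, map_one]

/-- the commutative group structure -/
instance omegaCenterCommGroup (p : ℕ) : CommGroup ↥(omegaCenter K p) :=
  { (inferInstance : Group ↥(omegaCenter K p)) with
    mul_comm := fun a b => Subtype.ext ((Subgroup.mem_center_iff.1 a.2.1 b).symm) }

/-- the action of the automorphism group on the additive group of the torsion of the center -/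
def actK (K : Type*) [Group K] (p : ℕ) : MulAut K →* AddMonoid.End (Additive ↥(omegaCenter K p)) where
  toFun φ :=
    { toFun := fun a => Additive.ofMul ⟨φ (Additive.toMul a : ↥(omegaCenter K p)).1,
        map_mem_omegaCenter φ (Additive.toMul a).2⟩
      map_zero' := by
        apply Additive.toMul.injective
        apply Subtype.ext
        simp
      map_add' := by
        intro a b
        apply Additive.toMul.injective
        apply Subtype.ext
        simp }
  map_one' := by
    ext a
    rfl
  map_mul' := by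
    intro φ ψ
    ext a
    rfl

theorem actK_apply (p : ℕ) (φ : MulAut K) (a : Additive ↥(omegaCenter K p)) :
    ((Additive.toMul (actK K p φ a) : ↥(omegaCenter K p)) : K) =
      φ ((Additive.toMul a : ↥(omegaCenter K p)) : K) := rfl

/-- a nontrivial nilpotent group has nontrivial center -/
theorem center_ne_bot [Nontrivial K] [hn : Group.IsNilpotent K] : Subgroup.center K ≠ ⊥ := by
  intro hc
  obtain ⟨n, hn⟩ := hn.nilpotent
  have hall : ∀ m, Subgroup.upperCentralSeries K m = ⊥ := by
    intro m
    induction m with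
    | zero => exact Subgroup.upperCentralSeries_zero K
    | succ m ih =>
      rw [eq_bot_iff]
      intro x hx
      rw [Subgroup.mem_upperCentralSeries_succ_iff] at hx
      have : x ∈ Subgroup.center K := by
        rw [Subgroup.mem_center_iff]
        intro y
        have h1 := hx y
        rw [ih, Subgroup.mem_bot, commutatorElement_def] at h1
        have h2 : x * y = y * x := by
          calc x * y = (x * y * x⁻¹ * y⁻¹) * (y * x) := by group
            _ = y * x := by rw [h1, one_mul]
        exact h2.symm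
      rw [hc] at this
      exact this
  rw [hall n] at hn
  exact bot_ne_top hn

end fromGroup

section main

open Cfsg.Agent.Lib.Helper1_FPFAut Cfsg.Agent.Lib.Helper1_Thompson

theorem pow_apply_eq_iterate {K : Type*} [Group K] (φ : MulAut K) (n : ℕ) (g : K) :
    (φ ^ n) g = (φ^[n]) g := by
  induction n generalizing g with
  | zero => rfl
  | succ n ih => rw [pow_succ, MulAut.mul_apply, Function.iterate_succ_apply, ih]

/-- the elementary abelian section on which a fixed-point-free automorphism group acts -/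
theorem exists_additive_data {K : Type*} [Group K] [Finite K] (G : Subgroup (MulAut K))
    (hfpf : ∀ φ ∈ G, φ ≠ 1 → ∀ k : K, φ k = k → k = 1) (hne : G ≠ ⊥) :
    ∃ (p : ℕ) (_ : Fact p.Prime), Nontrivial (Additive ↥(omegaCenter K p)) ∧
      (∀ v : Additive ↥(omegaCenter K p), p • v = 0) ∧ ¬ p ∣ Nat.card G ∧
      (∀ g : ↥G, g ≠ 1 → ∀ v : Additive ↥(omegaCenter K p),
        ((actK K p).comp G.subtype) g v = v → v = 0) := by
  have : Nontrivial ↥G := (Subgroup.nontrivial_iff_ne_bot G).2 hne
  have hG1 : Nat.card G ≠ 1 := by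
    have := Finite.one_lt_card (α := ↥G)
    omega
  obtain ⟨r, hr⟩ : ∃ r, (Nat.card G).minFac = r := ⟨_, rfl⟩
  have hrp : r.Prime := hr ▸ Nat.minFac_prime hG1
  have : Fact r.Prime := ⟨hrp⟩
  obtain ⟨ψ, hψ⟩ := exists_prime_orderOf_dvd_card' (G := ↥G) r (hr ▸ Nat.minFac_dvd _)
  have hne1 : ∀ {q : ℕ} {g : ↥G}, q.Prime → orderOf g = q → (g : MulAut K) ≠ 1 := by
    intro q g hq hg h1
    have h2 : g = 1 := Subtype.ext h1
    rw [h2, orderOf_one] at hg
    exact hq.one_lt.ne hg
  have hψ1 := hne1 hrp hψ
  have hψr : (ψ : MulAut K) ^ r = 1 := by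
    have h1 := pow_orderOf_eq_one ψ
    rw [hψ] at h1
    exact congrArg Subtype.val h1
  have hFPF : FPF r (ψ : MulAut K) :=
    ⟨fun g hg => hfpf ψ ψ.2 hψ1 g hg, fun g => by rw [← pow_apply_eq_iterate, hψr]; rfl⟩
  have : Group.IsNilpotent K := thompson hrp (ψ : MulAut K) hFPF
  have : Nontrivial K := by
    by_contra hK
    rw [not_nontrivial_iff_subsingleton] at hK
    apply hψ1
    ext k
    exact Subsingleton.elim _ _
  have hcne := center_ne_bot (K := K)
  have hc1 : Nat.card (Subgroup.center K) ≠ 1 := fun h1 => hcne (Subgroup.card_eq_one.1 h1)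
  obtain ⟨p, hp⟩ : ∃ p, (Nat.card (Subgroup.center K)).minFac = p := ⟨_, rfl⟩
  have hpp : p.Prime := hp ▸ Nat.minFac_prime hc1
  have : Fact p.Prime := ⟨hpp⟩
  have hpc : p ∣ Nat.card (Subgroup.center K) := hp ▸ Nat.minFac_dvd _
  obtain ⟨c, hc⟩ := exists_prime_orderOf_dvd_card' (G := ↥(Subgroup.center K)) p hpc
  have hcΩ : (c : K) ∈ omegaCenter K p := by
    refine ⟨c.2, ?_⟩
    have h1 := pow_orderOf_eq_one c
    rw [hc] at h1
    exact congrArg Subtype.val h1
  have hc1' : (c : K) ≠ 1 := by
    intro h1
    have h2 : c = 1 := Subtype.ext h1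
    rw [h2, orderOf_one] at hc
    exact hpp.one_lt.ne hc
  have : Nontrivial (Additive ↥(omegaCenter K p)) := by
    refine ⟨⟨Additive.ofMul ⟨c, hcΩ⟩, 0, fun h0 => hc1' ?_⟩⟩
    have h1 := congrArg Additive.toMul h0
    exact congrArg Subtype.val h1
  have hpG : ¬ p ∣ Nat.card G := by
    intro hdvd
    obtain ⟨g, hg⟩ := exists_prime_orderOf_dvd_card' (G := ↥G) p hdvd
    have hg1 := hne1 hpp hg
    have hP : IsPGroup p ↥(Subgroup.zpowers (g : MulAut K)) :=
      IsPGroup.of_card (n := 1) (by rw [Nat.card_zpowers, Subgroup.orderOf_coe, hg, pow_one])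
    have hpK : p ∣ Nat.card K := hpc.trans (Subgroup.card_subgroup_dvd_card _)
    have hfix : (1 : K) ∈ MulAction.fixedPoints ↥(Subgroup.zpowers (g : MulAut K)) K := by
      rintro ⟨φ, hφ⟩
      show φ (1 : K) = 1
      exact map_one φ
    obtain ⟨b, hb, hb1⟩ := hP.exists_fixed_point_of_prime_dvd_card_of_fixed_point K hpK hfix
    apply hb1
    have h1 : (g : MulAut K) b = b := hb ⟨(g : MulAut K), Subgroup.mem_zpowers _⟩
    exact (hfpf g g.2 hg1 b h1).symm
  have hpV : ∀ v : Additive ↥(omegaCenter K p), p • v = 0 := by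
    intro v
    apply Additive.toMul.injective
    rw [toMul_nsmul]
    apply Subtype.ext
    show ((Additive.toMul v : ↥(omegaCenter K p)) : K) ^ p = 1
    exact (Additive.toMul v).2.2
  refine ⟨p, ‹Fact p.Prime›, ‹Nontrivial (Additive ↥(omegaCenter K p))›, hpV, hpG, ?_⟩
  intro g hg v hv
  have hg1 : (g : MulAut K) ≠ 1 := fun h1 => hg (Subtype.ext h1)
  have h1 : (g : MulAut K) ((Additive.toMul v : ↥(omegaCenter K p)) : K) =
      ((Additive.toMul v : ↥(omegaCenter K p)) : K) := by
    have h2 := congrArg (fun w => ((Additive.toMul w : ↥(omegaCenter K p)) : K)) hv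
    exact h2
  have h3 := hfpf g g.2 hg1 _ h1
  apply Additive.toMul.injective
  apply Subtype.ext
  exact h3


/-- **Zassenhaus**: a nontrivial perfect group of fixed-point-free automorphisms of a finite group
is `SL(2,5)` -/
theorem main {K : Type*} [Group K] [Finite K] (G : Subgroup (MulAut K))
    (hfpf : ∀ φ ∈ G, φ ≠ 1 → ∀ k : K, φ k = k → k = 1) (hperf : commutator G = ⊤)
    (hne : G ≠ ⊥) : Nonempty (G ≃* Matrix.SpecialLinearGroup (Fin 2) (ZMod 5)) := by
  have : Nontrivial ↥G := (Subgroup.nontrivial_iff_ne_bot G).2 hne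
  obtain ⟨p, hp, hnt, hpV, hpG, hf⟩ := exists_additive_data G hfpf hne
  exact nonempty_mulEquiv_of_additive p hpV ((actK K p).comp G.subtype) hf hpG hperf

/-- **linearisation**: a nontrivial group of fixed-point-free automorphisms of a finite group has
a fixed-point-free linear representation over an algebraically closed field of characteristic
prime to its order -/
theorem of_linear {K : Type u} [Group K] [Finite K] (G : Subgroup (MulAut K))
    (hfpf : ∀ φ ∈ G, φ ≠ 1 → ∀ k : K, φ k = k → k = 1) (hne : G ≠ ⊥) (P : Prop)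
    (hP : ∀ (F : Type) [Field F] [IsAlgClosed F] (W : Type u) [AddCommGroup W] [Module F W]
      [FiniteDimensional F W] [Nontrivial W] (ρ : ↥G →* Module.End F W), IsFpf ρ →
      ((Nat.card G : ℕ) : F) ≠ 0 → P) : P := by
  obtain ⟨p, hp, hnt, hpV, hpG, hf⟩ := exists_additive_data G hfpf hne
  let _inst : Module (ZMod p) (Additive ↥(omegaCenter K p)) := AddCommGroup.zmodModule hpV
  exact of_linear_aux p ((actK K p).comp G.subtype) hf hpG P
    (fun F _ _ W _ _ _ _ ρ h1 h2 => hP F W ρ h1 h2)

end main

end Cfsg.Agent.Lib.Helper12_FpfLinearize
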