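import Mathlib
import Cfsg.Agent.Lib.Helper12_FpfLin
import Cfsg.Agent.Lib.Helper12_FpfQuat
import Cfsg.Agent.Lib.Helper12_FpfSylow
import Cfsg.Agent.Lib.Helper12_PerfectTools
import Cfsg.Agent.Lib.Helper12_FpfE45
import Cfsg.Agent.Lib.Helper12_FpfSyl8
import Cfsg.Agent.Lib.Helper12_FpfSimple
import Cfsg.Agent.S2119
import Cfsg.Agent.Lib.Helper12_FpfExist

/-!
# Non-solvable fixed-point-free linear groups (helper12)

A non-solvable group acting fixed-point-freely on a vector space (coprime characteristic) has a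
normal subgroup of index at most two which is the direct product of `SL(2,5)` and a group of order
prime to `30` all of whose Sylow subgroups are cyclic.
-/

set_option autoImplicit false
set_option linter.unusedSimpArgs false
set_option linter.unusedSectionVars false

namespace Cfsg.Agent.Lib.Helper12_FpfNonsolv

open Module Cfsg.Agent.Lib.Helper12_FpfLin Cfsg.Agent.Lib.Helper12_FpfQuat
  Cfsg.Agent.Lib.Helper12_FpfSylow Cfsg.Agent.Lib.Helper12_PerfectTools
  Cfsg.Agent.Lib.Helper12_FpfE45 Cfsg.Agent.Lib.Helper12_FpfSyl8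
  Cfsg.Agent.Lib.Helper12_FpfSimple QuaternionGroup Cfsg.Agent.Lib.Helper12_FpfExist

section general

variable {G : Type*} [Group G]

/-- a non-solvable finite group has a nontrivial perfect normal subgroup -/
theorem exists_perfect_core [Finite G] (hns : ¬ Group.IsSolvable G) :
    ∃ S : Subgroup G, S.Normal ∧ S ≠ ⊥ ∧ ⁅S, S⁆ = S := by
  have hstab : ∃ n, derivedSeries G (n + 1) = derivedSeries G n := by
    by_contra hno
    push Not at hno
    have hlt : ∀ n, Nat.card (derivedSeries G (n + 1)) < Nat.card (derivedSeries G n) := by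
      intro n
      have hle : derivedSeries G (n + 1) ≤ derivedSeries G n :=
        derivedSeries_antitone G (Nat.le_succ n)
      rcases (Subgroup.card_le_of_le hle).lt_or_eq with h1 | h1
      · exact h1
      · exact absurd (Subgroup.eq_of_le_of_card_ge hle h1.ge) (hno n)
    have hbound : ∀ n, Nat.card (derivedSeries G n) + n ≤ Nat.card (derivedSeries G 0) := by
      intro n
      induction n with
      | zero => simp
      | succ n ih => have := hlt n; omega
    have := hbound (Nat.card (derivedSeries G 0) + 1)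
    omega
  obtain ⟨n, hn⟩ := hstab
  refine ⟨derivedSeries G n, inferInstance, ?_, ?_⟩
  · intro h0
    exact hns ((Group.isSolvable_def G).2 ⟨n, h0⟩)
  · rw [← derivedSeries_succ, hn]

/-- a subgroup equal to its own commutator is perfect as a group -/
theorem commutator_eq_top_of_self (S : Subgroup G) (hS : ⁅S, S⁆ = S) : commutator ↥S = ⊤ := by
  apply Subgroup.map_injective S.subtype_injective
  rw [Subgroup.map_subtype_commutator, hS]
  ext x
  simp

/-- the kernel of the conjugation action on a normal subgroup -/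
theorem conjNormal_ker (S : Subgroup G) [S.Normal] :
    (MulAut.conjNormal (H := S)).ker = Subgroup.centralizer (S : Set G) := by
  ext g
  rw [MonoidHom.mem_ker, Subgroup.mem_centralizer_iff]
  constructor
  · intro h s hs
    have h1 := congrArg (fun α : MulAut ↥S => ((α ⟨s, hs⟩ : ↥S) : G)) h
    simp only [MulAut.conjNormal_apply, MulAut.one_apply] at h1
    calc s * g = (g * s * g⁻¹) * g := by rw [h1]
      _ = g * s := by simp only [pow_succ, pow_zero, one_mul, mul_one, mul_assoc, inv_mul_cancel_left, mul_inv_cancel_left, mul_inv_rev, inv_inv, mul_inv_cancel, inv_mul_cancel]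
  · intro h
    ext s
    rw [MulAut.conjNormal_apply, MulAut.one_apply, ← h s s.2, mul_inv_cancel_right]

/-- an automorphism of a perfect group is determined by its action modulo a central subgroup -/
theorem mulAut_ext_of_perfect {S : Type*} [Group S] (hperf : commutator S = ⊤) (Z : Subgroup S)
    (hZ : ∀ z ∈ Z, ∀ g : S, g * z = z * g) (α β : MulAut S)
    (hαβ : ∀ s : S, β s * (α s)⁻¹ ∈ Z) : α = β := by
  have hcomm : ∀ a b : ↥Z, a * b = b * a := by
    intro a b
    exact Subtype.ext (hZ b b.2 a)
  let γ : S →* ↥Z :=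
    { toFun := fun s => ⟨β s * (α s)⁻¹, hαβ s⟩
      map_one' := by
        apply Subtype.ext
        simp
      map_mul' := by
        intro s s'
        apply Subtype.ext
        show β (s * s') * (α (s * s'))⁻¹ = (β s * (α s)⁻¹) * (β s' * (α s')⁻¹)
        rw [map_mul, map_mul]
        have h1 := hZ _ (hαβ s') (α s)⁻¹
        calc β s * β s' * (α s * α s')⁻¹ = β s * ((β s' * (α s')⁻¹) * (α s)⁻¹) := by simp only [pow_succ, pow_zero, one_mul, mul_one, mul_assoc, inv_mul_cancel_left, mul_inv_cancel_left, mul_inv_rev, inv_inv, mul_inv_cancel, inv_mul_cancel]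
          _ = β s * ((α s)⁻¹ * (β s' * (α s')⁻¹)) := by rw [h1]
          _ = _ := by simp only [pow_succ, pow_zero, one_mul, mul_one, mul_assoc, inv_mul_cancel_left, mul_inv_cancel_left, mul_inv_rev, inv_inv, mul_inv_cancel, inv_mul_cancel] }
  have h1 := map_eq_one_of_perfect hperf γ (fun a b => hcomm _ _)
  ext s
  have h2 := congrArg Subtype.val (h1 s)
  have h3 : β s * (α s)⁻¹ = 1 := h2
  exact (mul_inv_eq_one.1 h3).symm

end general

section autbound

/-- the automorphism group of a perfect central extension of `A₅` by a characteristic cyclic central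
subgroup has order at most `120` -/
theorem card_mulAut_le {S : Type*} [Group S] [Finite S] (hperf : commutator S = ⊤) (z : S)
    (hzc : ∀ g : S, g * z = z * g) [hZn : (Subgroup.zpowers z).Normal]
    (hchar : ∀ α : MulAut S, α z = z)
    (ψ : S ⧸ Subgroup.zpowers z ≃* ↥(alternatingGroup (Fin 5))) : Nat.card (MulAut S) ≤ 120 := by
  have hmap : ∀ α : MulAut S,
      (Subgroup.zpowers z).map ((α : S ≃* S) : S →* S) = Subgroup.zpowers z := by
    intro α
    rw [MonoidHom.map_zpowers]
    congr 1
    exact hchar α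
  have hf : Function.Injective (fun α : MulAut S =>
      (QuotientGroup.congr (Subgroup.zpowers z) (Subgroup.zpowers z) α (hmap α) :
        MulAut (S ⧸ Subgroup.zpowers z))) := by
    intro α β hαβ
    apply mulAut_ext_of_perfect hperf (Subgroup.zpowers z)
    · intro w hw g
      obtain ⟨k, rfl⟩ := hw
      exact ((show Commute g z from hzc g).zpow_right k).eq
    · intro s
      have h1 := congrArg
        (fun γ : MulAut (S ⧸ Subgroup.zpowers z) => γ (s : S ⧸ Subgroup.zpowers z)) hαβ
      have h2 : ((α s : S) : S ⧸ Subgroup.zpowers z) = ((β s : S) : S ⧸ Subgroup.zpowers z) := h1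
      rw [QuotientGroup.eq] at h2
      have h3 := hZn.conj_mem _ h2 (α s)
      have h4 : α s * ((α s)⁻¹ * β s) * (α s)⁻¹ = β s * (α s)⁻¹ := by simp only [pow_succ, pow_zero, one_mul, mul_one, mul_assoc, inv_mul_cancel_left, mul_inv_cancel_left, mul_inv_rev, inv_inv, mul_inv_cancel, inv_mul_cancel]
      rwa [h4] at h3
  have h1 : Nat.card (MulAut S) ≤ Nat.card (MulAut (S ⧸ Subgroup.zpowers z)) :=
    Nat.card_le_card_of_injective _ hf
  have h2 : Nat.card (MulAut (S ⧸ Subgroup.zpowers z)) =
      Nat.card (MulAut ↥(alternatingGroup (Fin 5))) := Nat.card_congr (MulAut.congr ψ).toEquiv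
  have h3 : Nat.card (MulAut ↥(alternatingGroup (Fin 5))) = Nat.card (Equiv.Perm (Fin 5)) :=
    (Nat.card_congr (Equiv.ofBijective _
      (Cfsg.Agent.S2119.result 5 (by norm_num) (by norm_num)))).symm
  have h4 : Nat.card (Equiv.Perm (Fin 5)) = 120 := by
    rw [Nat.card_eq_fintype_card, Fintype.card_perm, Fintype.card_fin]
    rfl
  omega

/-- the index of `S C_G(S)` -/
theorem index_sup_centralizer {G : Type*} [Group G] [Finite G] (S : Subgroup G) [S.Normal]
    (hAut : Nat.card (MulAut ↥S) ≤ 120)
    (hrel : (Subgroup.centralizer (S : Set G) ⊓ S).relIndex S = 60) :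
    (S ⊔ Subgroup.centralizer (S : Set G)).index = 1 ∨
      (S ⊔ Subgroup.centralizer (S : Set G)).index = 2 := by
  have h1 : (Subgroup.centralizer (S : Set G)).index ≤ 120 := by
    rw [← conjNormal_ker S, Subgroup.index_ker]
    exact (Nat.card_le_card_of_injective _ Subtype.val_injective).trans hAut
  have h2 : (Subgroup.centralizer (S : Set G)).relIndex (S ⊔ Subgroup.centralizer (S : Set G)) =
      60 := by
    rw [Subgroup.relIndex_sup_right, ← Subgroup.inf_relIndex_right, hrel]
  have h3 := Subgroup.relIndex_mul_index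
    (le_sup_right : Subgroup.centralizer (S : Set G) ≤ S ⊔ Subgroup.centralizer (S : Set G))
  rw [h2] at h3
  have h4 : (S ⊔ Subgroup.centralizer (S : Set G)).index ≠ 0 := Subgroup.index_ne_zero_of_finite
  omega

end autbound

section main

variable {F : Type*} [Field F] {W : Type*} [AddCommGroup W] [Module F W] {G : Type*} [Group G]
variable {ρ : G →* Module.End F W}
variable [IsAlgClosed F] [FiniteDimensional F W] [Nontrivial W] [Finite G]

/-- a `2`-element of a subgroup without elements of order four has order at most two -/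
theorem sq_eq_one_of_no_four {C : Subgroup G} (hno4 : ∀ c ∈ C, c ^ 4 = 1 → c ^ 2 = 1) :
    ∀ (a : ℕ) (g : G), g ∈ C → g ^ (2 ^ a) = 1 → g ^ 2 = 1 := by
  intro a
  induction a with
  | zero =>
    intro g _ hg
    rw [pow_zero, pow_one] at hg
    rw [hg, one_pow]
  | succ a ih =>
    intro g hgC hg
    rcases Nat.lt_or_ge a 1 with ha | ha
    · have ha0 : a = 0 := by omega
      rw [ha0] at hg
      simpa using hg
    · -- `a ≥ 1`
      apply ih g hgC
      obtain ⟨b, rfl⟩ : ∃ b, a = b + 1 := ⟨a - 1, by omega⟩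
      have h1 : (g ^ (2 ^ b)) ^ 4 = 1 := by
        rw [← pow_mul]
        have : 2 ^ b * 4 = 2 ^ (b + 1 + 1) := by ring
        rw [this]; exact hg
      have h2 := hno4 _ (C.pow_mem hgC _) h1
      rw [← pow_mul] at h2
      have : 2 ^ b * 2 = 2 ^ (b + 1) := by ring
      rw [this] at h2
      exact h2

/-- **structure of non-solvable fixed-point-free linear groups** -/
theorem main (h : IsFpf ρ) (hcard : ((Nat.card G : ℕ) : F) ≠ 0) (hns : ¬ Group.IsSolvable G) :
    ∃ G₀ : Subgroup G, G₀.Normal ∧ (G₀.index = 1 ∨ G₀.index = 2) ∧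
      ∃ S M : Subgroup G, S ⊔ M = G₀ ∧ S ⊓ M = ⊥ ∧ (∀ s ∈ S, ∀ x ∈ M, s * x = x * s) ∧
        Nonempty (S ≃* Matrix.SpecialLinearGroup (Fin 2) (ZMod 5)) ∧
        (∀ (p : ℕ) [Fact p.Prime] (P : Sylow p M), IsCyclic P) ∧ (Nat.card M).Coprime 30 := by
  obtain ⟨S, hSn, hS1, hSS⟩ := exists_perfect_core hns
  have hperfS := commutator_eq_top_of_self S hSS
  have : Nontrivial ↥S := (Subgroup.nontrivial_iff_ne_bot S).2 hS1
  have hS : IsFpf (ρ.comp S.subtype) :=
    fun g hg w hw => h (g : G) (fun h0 => hg (Subtype.ext h0)) w hw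
  have hcardS : ((Nat.card ↥S : ℕ) : F) ≠ 0 := by
    intro h0
    apply hcard
    rw [← S.card_mul_index, Nat.cast_mul, h0, zero_mul]
  obtain ⟨z, hz1, hz2, hZn, ⟨ψ⟩⟩ := exists_quotient_A5 hS hcardS hperfS
  obtain ⟨θ⟩ := nonempty_mulEquiv hS hcardS hperfS
  have hzc : ∀ g : ↥S, g * z = z * g := hS.invol_central hz1 hz2
  have hzG1 : (z : G) ≠ 1 := fun h0 => hz1 (Subtype.ext h0)
  have hzG2 : (z : G) ^ 2 = 1 := congrArg Subtype.val hz2
  have hzGc : ∀ g : G, g * (z : G) = (z : G) * g := h.invol_central hzG1 hzG2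
  have hchar : ∀ α : MulAut ↥S, α z = z := by
    intro α
    apply hS.invol_unique _ hz1 _ hz2
    · intro h0
      apply hz1
      apply α.injective
      rw [h0, map_one]
    · rw [← map_pow, hz2, map_one]
  have hAut := card_mulAut_le hperfS z hzc hchar ψ
  have h60 : Nat.card (↥S ⧸ Subgroup.zpowers z) = 60 := by
    rw [Nat.card_congr ψ.toEquiv, card_alternatingGroup_five]
  have hoz : orderOf z = 2 := by
    have : Fact (Nat.Prime 2) := ⟨Nat.prime_two⟩
    exact orderOf_eq_prime hz2 hz1
  have h120 : Nat.card ↥S = 120 := by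
    rw [Subgroup.card_eq_card_quotient_mul_card_subgroup (Subgroup.zpowers z), h60,
      Nat.card_zpowers, hoz]
  -- the centre of `S`
  have hcenter : (Subgroup.centralizer (S : Set G) ⊓ S).subgroupOf S = Subgroup.zpowers z := by
    ext s
    rw [Subgroup.mem_subgroupOf, Subgroup.mem_inf]
    constructor
    · rintro ⟨h1, -⟩
      have h2 : ∀ s' : ↥S, s' * s = s * s' := by
        intro s'
        exact Subtype.ext (Subgroup.mem_centralizer_iff.1 h1 s' s'.2)
      have h3 : ψ (s : ↥S ⧸ Subgroup.zpowers z) ∈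
          Subgroup.center ↥(alternatingGroup (Fin 5)) := by
        rw [Subgroup.mem_center_iff]
        intro a
        obtain ⟨b, rfl⟩ := ψ.surjective a
        obtain ⟨s', rfl⟩ := QuotientGroup.mk_surjective b
        rw [← map_mul, ← map_mul, ← QuotientGroup.mk_mul, ← QuotientGroup.mk_mul, h2 s']
      rw [alternatingGroup.center_eq_bot (by simp), Subgroup.mem_bot] at h3
      have h4 : (s : ↥S ⧸ Subgroup.zpowers z) = 1 := by
        apply ψ.injective
        rw [h3, map_one]
      exact (QuotientGroup.eq_one_iff s).1 h4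
    · rintro ⟨k, rfl⟩
      refine ⟨?_, (z ^ k).2⟩
      rw [Subgroup.mem_centralizer_iff]
      intro g _
      have h1 : ((z ^ k : ↥S) : G) = (z : G) ^ k := by simp
      rw [h1]
      exact ((show Commute g (z : G) from hzGc g).zpow_right k).eq
  have hrel : (Subgroup.centralizer (S : Set G) ⊓ S).relIndex S = 60 := by
    rw [Subgroup.relIndex, hcenter, Subgroup.index_eq_card, h60]
  have hidx := index_sup_centralizer S hAut hrel
  -- elements of `C ∩ S` square to one
  have hCS : ∀ c : G, c ∈ Subgroup.centralizer (S : Set G) → c ∈ S → c ^ 2 = 1 := by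
    intro c hcC hcS
    have h1 : (⟨c, hcS⟩ : ↥S) ∈ (Subgroup.centralizer (S : Set G) ⊓ S).subgroupOf S := by
      rw [Subgroup.mem_subgroupOf]; exact ⟨hcC, hcS⟩
    rw [hcenter] at h1
    obtain ⟨k, hk⟩ := h1
    have h2 : c = (z : G) ^ k := by
      have := congrArg Subtype.val hk
      simpa using this.symm
    rw [h2, ← zpow_natCast, ← zpow_mul, mul_comm, zpow_mul, zpow_natCast, hzG2, one_zpow]
  -- no element of order four in `C`
  have hno4 : ∀ c ∈ Subgroup.centralizer (S : Set G), c ^ 4 = 1 → c ^ 2 = 1 := by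
    intro c hc hc4
    by_contra hc2
    have hcz : c ^ 2 = (z : G) :=
      h.invol_unique hc2 hzG1 (by rw [← pow_mul]; exact hc4) hzG2
    obtain ⟨t, s, x, hb⟩ := exists_basic hS hcardS hperfS
    have ht2 : t ^ 2 = z :=
      hS.invol_unique hb.t2 hz1 (by rw [← pow_mul]; exact hb.t4) hz2
    have ht2G : (t : G) ^ 2 = (z : G) := by
      have := congrArg Subtype.val ht2
      simpa using this
    have hcomm : (t : G) * c = c * t := Subgroup.mem_centralizer_iff.1 hc t t.2
    have h1 : ((t : G) * c) ^ 2 = 1 := by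
      calc ((t : G) * c) ^ 2 = (t : G) * (c * t) * c := by simp only [pow_succ, pow_zero, one_mul, mul_one, mul_assoc, inv_mul_cancel_left, mul_inv_cancel_left, mul_inv_rev, inv_inv, mul_inv_cancel, inv_mul_cancel]
        _ = (t : G) * (t * c) * c := by rw [hcomm]
        _ = (t : G) ^ 2 * c ^ 2 := by simp only [pow_succ, pow_zero, one_mul, mul_one, mul_assoc, inv_mul_cancel_left, mul_inv_cancel_left, mul_inv_rev, inv_inv, mul_inv_cancel, inv_mul_cancel]
        _ = 1 := by rw [hcz, ht2G, ← pow_two, hzG2]
    have hcS : c ∈ S := by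
      by_cases h2 : (t : G) * c = 1
      · have h3 : c = (t : G)⁻¹ := by
          calc c = (t : G)⁻¹ * ((t : G) * c) := by simp only [pow_succ, pow_zero, one_mul, mul_one, mul_assoc, inv_mul_cancel_left, mul_inv_cancel_left, mul_inv_rev, inv_inv, mul_inv_cancel, inv_mul_cancel]
            _ = (t : G)⁻¹ := by rw [h2, mul_one]
        rw [h3]; exact S.inv_mem t.2
      · have h3 := h.invol_unique h2 hzG1 h1 hzG2
        have h4 : c = (t : G)⁻¹ * (z : G) := by
          calc c = (t : G)⁻¹ * ((t : G) * c) := by simp only [pow_succ, pow_zero, one_mul, mul_one, mul_assoc, inv_mul_cancel_left, mul_inv_cancel_left, mul_inv_rev, inv_inv, mul_inv_cancel, inv_mul_cancel]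
            _ = (t : G)⁻¹ * (z : G) := by rw [h3]
        rw [h4]; exact S.mul_mem (S.inv_mem t.2) z.2
    exact hc2 (hCS c hc hcS)
  have h2el := sq_eq_one_of_no_four hno4
  -- the odd part of `C`
  have hzC : (z : G) ∈ Subgroup.centralizer (S : Set G) := by
    rw [Subgroup.mem_centralizer_iff]
    intro g _
    exact hzGc g
  have h2C : 2 ∣ Nat.card ↥(Subgroup.centralizer (S : Set G)) := by
    have h1 : orderOf (⟨(z : G), hzC⟩ : ↥(Subgroup.centralizer (S : Set G))) = 2 := by
      rw [← Subgroup.orderOf_coe]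
      show orderOf (z : G) = 2
      rw [Subgroup.orderOf_coe, hoz]
    rw [← h1]
    exact orderOf_dvd_natCard _
  have : Fact (Nat.Prime 2) := ⟨Nat.prime_two⟩
  have hcyc : IsCyclic ↥((default : Sylow 2 ↥(Subgroup.centralizer (S : Set G))) :
      Subgroup ↥(Subgroup.centralizer (S : Set G))) := by
    have hP' : IsPGroup 2 ↥(((default : Sylow 2 ↥(Subgroup.centralizer (S : Set G))) :
        Subgroup ↥(Subgroup.centralizer (S : Set G))).map
          (Subgroup.centralizer (S : Set G)).subtype) :=
      (default : Sylow 2 ↥(Subgroup.centralizer (S : Set G))).isPGroup'.map _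
    have e := Subgroup.equivMapOfInjective
      ((default : Sylow 2 ↥(Subgroup.centralizer (S : Set G))) :
        Subgroup ↥(Subgroup.centralizer (S : Set G)))
      (Subgroup.centralizer (S : Set G)).subtype (Subgroup.subtype_injective _)
    rw [e.isCyclic]
    rcases isCyclic_or_quat h _ hP' with hc | ⟨-, n, ⟨θ'⟩⟩
    · exact hc
    · exfalso
      have ho : orderOf (θ'.symm (xa 0)) = 4 := by
        rw [MulEquiv.orderOf_eq, QuaternionGroup.orderOf_xa]
      have huC : ((θ'.symm (xa 0) : ↥(((default : Sylow 2 ↥(Subgroup.centralizer (S : Set G))) :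
          Subgroup ↥(Subgroup.centralizer (S : Set G))).map
            (Subgroup.centralizer (S : Set G)).subtype)) : G) ∈
          Subgroup.centralizer (S : Set G) := by
        obtain ⟨y, -, hy⟩ := (θ'.symm (xa 0)).2
        rw [← hy]; exact y.2
      have ho' : orderOf ((θ'.symm (xa 0) :
          ↥(((default : Sylow 2 ↥(Subgroup.centralizer (S : Set G))) :
          Subgroup ↥(Subgroup.centralizer (S : Set G))).map
            (Subgroup.centralizer (S : Set G)).subtype)) : G) = 4 := by
        rw [Subgroup.orderOf_coe, ho]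
      have h4 : ((θ'.symm (xa 0) : ↥(((default : Sylow 2 ↥(Subgroup.centralizer (S : Set G))) :
          Subgroup ↥(Subgroup.centralizer (S : Set G))).map
            (Subgroup.centralizer (S : Set G)).subtype)) : G) ^ 4 = 1 := by
        rw [← ho']; exact pow_orderOf_eq_one _
      have h2 := hno4 _ huC h4
      have := orderOf_dvd_of_pow_eq_one h2
      rw [ho'] at this
      omega
  obtain ⟨K, hKn, hKodd, hKall⟩ := exists_odd_normal h2C default hcyc
  -- `M`
  have hMC : K.map (Subgroup.centralizer (S : Set G)).subtype ≤ Subgroup.centralizer (S : Set G) := by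
    rintro _ ⟨y, -, rfl⟩
    exact y.2
  have hMcard : Nat.card ↥(K.map (Subgroup.centralizer (S : Set G)).subtype) = Nat.card ↥K :=
    Subgroup.card_map_of_injective (Subgroup.subtype_injective _)
  have hModd : Odd (Nat.card ↥(K.map (Subgroup.centralizer (S : Set G)).subtype)) := by
    rw [hMcard]; exact hKodd
  have hMall : ∀ c ∈ Subgroup.centralizer (S : Set G), Odd (orderOf c) →
      c ∈ K.map (Subgroup.centralizer (S : Set G)).subtype := by
    intro c hc ho
    refine ⟨⟨c, hc⟩, hKall ⟨c, hc⟩ ?_, rfl⟩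
    rw [← Subgroup.orderOf_coe]
    exact ho
  have hSM : S ⊓ K.map (Subgroup.centralizer (S : Set G)).subtype = ⊥ := by
    rw [eq_bot_iff]
    rintro m ⟨hmS, hmM⟩
    rw [Subgroup.mem_bot]
    have h1 : m ^ 2 = 1 := hCS m (hMC hmM) hmS
    have h2 : orderOf m ∣ 2 := orderOf_dvd_of_pow_eq_one h1
    have h3 : orderOf m ∣ Nat.card ↥(K.map (Subgroup.centralizer (S : Set G)).subtype) := by
      have := orderOf_dvd_natCard (⟨m, hmM⟩ : ↥(K.map (Subgroup.centralizer (S : Set G)).subtype))
      rwa [← Subgroup.orderOf_coe] at this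
    have h4 : orderOf m = 1 := by
      rcases (Nat.dvd_prime Nat.prime_two).1 h2 with h5 | h5
      · exact h5
      · exfalso
        rw [h5] at h3
        obtain ⟨j, hj⟩ := hModd
        omega
    exact orderOf_eq_one_iff.1 h4
  have hsup : S ⊔ K.map (Subgroup.centralizer (S : Set G)).subtype =
      S ⊔ Subgroup.centralizer (S : Set G) := by
    apply le_antisymm
    · exact sup_le le_sup_left (hMC.trans le_sup_right)
    · apply sup_le le_sup_left
      intro c hc
      have hn0 : orderOf c ≠ 0 := (orderOf_pos c).ne'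
      obtain ⟨a, m, hm, hn⟩ := Nat.exists_eq_two_pow_mul_odd hn0
      have h2a : (2 : ℕ) ^ a ≠ 0 := by positivity
      have hl : orderOf (c ^ (2 ^ a)) = m := by
        rw [orderOf_pow_of_dvd h2a (Dvd.intro _ hn.symm), hn,
          Nat.mul_div_cancel_left _ (by positivity)]
      have hlM : c ^ (2 ^ a) ∈ K.map (Subgroup.centralizer (S : Set G)).subtype :=
        hMall _ (Subgroup.pow_mem _ hc _) (by rw [hl]; exact hm)
      have h2 : (c ^ m) ^ (2 ^ a) = 1 := by
        rw [← pow_mul, mul_comm, ← hn]; exact pow_orderOf_eq_one c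
      have h3 : (c ^ m) ^ 2 = 1 := h2el a _ (Subgroup.pow_mem _ hc _) h2
      have h2S : c ^ m ∈ S := by
        by_cases h4 : c ^ m = 1
        · rw [h4]; exact one_mem _
        · rw [h.invol_unique h4 hzG1 h3 hzG2]; exact z.2
      have hcop : Nat.Coprime (2 ^ a) m := Nat.Coprime.pow_left a (Nat.coprime_two_left.2 hm)
      have hbez := Nat.gcd_eq_gcd_ab (2 ^ a) m
      rw [hcop] at hbez
      have hg : c = (c ^ (2 ^ a)) ^ (Nat.gcdA (2 ^ a) m) * (c ^ m) ^ (Nat.gcdB (2 ^ a) m) := by
        rw [← zpow_natCast c, ← zpow_natCast c, ← zpow_mul, ← zpow_mul, ← zpow_add]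
        have : ((2 ^ a : ℕ) : ℤ) * Nat.gcdA (2 ^ a) m + (m : ℤ) * Nat.gcdB (2 ^ a) m = 1 := by
          rw [← hbez]; simp
        rw [this, zpow_one]
      rw [hg]
      exact Subgroup.mul_mem _ (le_sup_right (a := S) (Subgroup.zpow_mem _ hlM _))
        (le_sup_left (b := K.map (Subgroup.centralizer (S : Set G)).subtype)
          (Subgroup.zpow_mem _ h2S _))
  have hC_normal : (Subgroup.centralizer (S : Set G)).Normal := Subgroup.normal_centralizer
  refine ⟨S ⊔ Subgroup.centralizer (S : Set G), Subgroup.sup_normal _ _, hidx, S,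
    K.map (Subgroup.centralizer (S : Set G)).subtype, hsup, hSM, ?_, ⟨θ⟩, ?_, ?_⟩
  · intro s hs x hx
    exact Subgroup.mem_centralizer_iff.1 (hMC hx) s hs
  · intro p hp P
    have hP' : IsPGroup p ↥((P : Subgroup ↥(K.map (Subgroup.centralizer (S : Set G)).subtype)).map
        (K.map (Subgroup.centralizer (S : Set G)).subtype).subtype) := P.isPGroup'.map _
    have e := Subgroup.equivMapOfInjective
      (P : Subgroup ↥(K.map (Subgroup.centralizer (S : Set G)).subtype))
      (K.map (Subgroup.centralizer (S : Set G)).subtype).subtype (Subgroup.subtype_injective _)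
    rw [e.isCyclic]
    by_cases hp2 : p = 2
    · subst hp2
      rcases isCyclic_or_quat h _ hP' with hc | ⟨-, n, ⟨θ'⟩⟩
      · exact hc
      · exfalso
        have h1 : Nat.card ↥((P : Subgroup ↥(K.map (Subgroup.centralizer (S : Set G)).subtype)).map
            (K.map (Subgroup.centralizer (S : Set G)).subtype).subtype) = 4 * 2 ^ n := by
          rw [Nat.card_congr θ'.toEquiv, Nat.card_eq_fintype_card, QuaternionGroup.card]
        have h2 : Nat.card ↥((P : Subgroup ↥(K.map (Subgroup.centralizer (S : Set G)).subtype)).map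
            (K.map (Subgroup.centralizer (S : Set G)).subtype).subtype) ∣
            Nat.card ↥(K.map (Subgroup.centralizer (S : Set G)).subtype) := by
          rw [Subgroup.card_map_of_injective (Subgroup.subtype_injective _)]
          exact Subgroup.card_subgroup_dvd_card _
        rw [h1] at h2
        obtain ⟨j, hj⟩ := hModd
        obtain ⟨i, hi⟩ := h2
        have : 2 * j + 1 = 2 * (2 * 2 ^ n * i) := by rw [← hj, hi]; ring
        omega
    · exact isCyclic_of_odd h hp2 _ hP'
  · -- coprime to `30`
    have hq : ∀ q : ℕ, q.Prime → q ∣ 120 → q ≠ 2 →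
        ¬ q ∣ Nat.card ↥(K.map (Subgroup.centralizer (S : Set G)).subtype) := by
      intro q hq hq120 hq2 hdvd
      have : Fact q.Prime := ⟨hq⟩
      obtain ⟨m, hm⟩ := exists_prime_orderOf_dvd_card'
        (G := ↥(K.map (Subgroup.centralizer (S : Set G)).subtype)) q hdvd
      obtain ⟨y, hy⟩ := exists_prime_orderOf_dvd_card' (G := ↥S) q (by rw [h120]; exact hq120)
      have hyo : orderOf (y : G) = q := by rw [Subgroup.orderOf_coe, hy]
      have hmo : orderOf ((m : ↥(K.map (Subgroup.centralizer (S : Set G)).subtype)) : G) = q := by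
        rw [Subgroup.orderOf_coe, hm]
      have hcomm : Commute (y : G) ((m : ↥(K.map (Subgroup.centralizer (S : Set G)).subtype)) : G) :=
        Subgroup.mem_centralizer_iff.1 (hMC m.2) y y.2
      have hy1 : (y : G) ≠ 1 := by
        intro h0
        rw [h0, orderOf_one] at hyo
        exact hq.one_lt.ne hyo
      have h1 := h.mem_zpowers_of_commute hq hcomm hy1 (by rw [← hyo]; exact pow_orderOf_eq_one _)
        (by rw [← hmo]; exact pow_orderOf_eq_one _)
      have h2 : ((m : ↥(K.map (Subgroup.centralizer (S : Set G)).subtype)) : G) ∈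
          S ⊓ K.map (Subgroup.centralizer (S : Set G)).subtype :=
        ⟨(Subgroup.zpowers_le.2 y.2) h1, m.2⟩
      rw [hSM, Subgroup.mem_bot] at h2
      rw [h2, orderOf_one] at hmo
      exact hq.one_lt.ne hmo
    have h2' : ¬ 2 ∣ Nat.card ↥(K.map (Subgroup.centralizer (S : Set G)).subtype) := by
      intro hd
      obtain ⟨j, hj⟩ := hModd
      omega
    have h3' := hq 3 Nat.prime_three (by norm_num) (by norm_num)
    have h5' := hq 5 Nat.prime_five (by norm_num) (by norm_num)
    have c2 := ((Nat.Prime.coprime_iff_not_dvd Nat.prime_two).2 h2').symm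
    have c3 := ((Nat.Prime.coprime_iff_not_dvd Nat.prime_three).2 h3').symm
    have c5 := ((Nat.Prime.coprime_iff_not_dvd Nat.prime_five).2 h5').symm
    have : (30 : ℕ) = 2 * 3 * 5 := by norm_num
    rw [this]
    exact (c2.mul_right c3).mul_right c5

end main

end Cfsg.Agent.Lib.Helper12_FpfNonsolv
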