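import Mathlib
import Cfsg.Agent.Lib.Helper12_FpfLin
import Cfsg.Agent.Lib.Helper12_FpfQuat
import Cfsg.Agent.Lib.Helper12_FpfSylow
import Cfsg.Agent.Lib.Helper12_PerfectTools
import Cfsg.Agent.Lib.Helper12_FpfQ8
import Cfsg.Agent.Lib.Helper12_FpfSyl8
import Cfsg.Agent.Lib.Helper12_FpfSimple
import Cfsg.Agent.Lib.Helper12_FpfNonsolv
import Cfsg.Agent.Lib.Helper12_FpfLinearize

/-!
# Linear groups regular on non-zero vectors: the minimal non-abelian normal subgroup (helper12)
-/

set_option autoImplicit false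
set_option linter.unusedSimpArgs false
set_option linter.unusedSectionVars false

namespace Cfsg.Agent.Lib.Helper12_ExcNF

open Module Cfsg.Agent.Lib.Helper12_FpfLin Cfsg.Agent.Lib.Helper12_FpfQuat
  Cfsg.Agent.Lib.Helper12_FpfSylow Cfsg.Agent.Lib.Helper12_PerfectTools
  Cfsg.Agent.Lib.Helper12_FpfQ8 Cfsg.Agent.Lib.Helper12_FpfSyl8
  Cfsg.Agent.Lib.Helper12_FpfSimple Cfsg.Agent.Lib.Helper12_FpfNonsolv
  Cfsg.Agent.Lib.Helper12_FpfLinearize QuaternionGroup
open scoped commutatorElement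

universe u

section general

/-- a non-central element has a non-central power of prime power order -/
theorem exists_noncentral_prime_power {N₀ : Type*} [Group N₀] [Finite N₀] :
    ∀ (n : ℕ) (a : N₀), orderOf a = n → a ∉ Subgroup.center N₀ →
      ∃ (q : ℕ) (_ : q.Prime) (i : ℕ) (a' : N₀), a' ^ (q ^ i) = 1 ∧ a' ∉ Subgroup.center N₀ := by
  intro n
  induction n using Nat.strong_induction_on with
  | _ n ih =>
    intro a han hac
    have hn0 : n ≠ 0 := by rw [← han]; exact (orderOf_pos a).ne'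
    have hn1 : n ≠ 1 := by
      intro h1
      rw [h1, orderOf_eq_one_iff] at han
      rw [han] at hac
      exact hac (one_mem _)
    obtain ⟨q, hqdef⟩ : ∃ q, n.minFac = q := ⟨_, rfl⟩
    have hq : q.Prime := by rw [← hqdef]; exact Nat.minFac_prime hn1
    have hqn : q ∣ n := by rw [← hqdef]; exact Nat.minFac_dvd n
    clear hqdef
    obtain ⟨i, m, hqm, hnm⟩ := Nat.exists_eq_pow_mul_and_not_dvd hn0 q hq.ne_one
    have hi : i ≠ 0 := by
      intro h0
      rw [h0, pow_zero, one_mul] at hnm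
      apply hqm
      rw [← hnm]
      exact hqn
    by_cases h1 : a ^ m ∈ Subgroup.center N₀
    · have hm0 : m ≠ 0 := by
        intro h0
        rw [h0, mul_zero] at hnm
        exact hn0 hnm
      have hqi : q ^ i ≠ 0 := pow_ne_zero _ hq.ne_zero
      have h2 : a ^ (q ^ i) ∉ Subgroup.center N₀ := by
        intro h2
        apply hac
        have hcop : Nat.Coprime (q ^ i) m :=
          Nat.Coprime.pow_left i ((Nat.Prime.coprime_iff_not_dvd hq).2 hqm)
        have hbez := Nat.gcd_eq_gcd_ab (q ^ i) m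
        rw [hcop] at hbez
        have hg : a = (a ^ (q ^ i)) ^ (Nat.gcdA (q ^ i) m) *
            (a ^ m) ^ (Nat.gcdB (q ^ i) m) := by
          rw [← zpow_natCast a, ← zpow_natCast a, ← zpow_mul, ← zpow_mul, ← zpow_add]
          have : ((q ^ i : ℕ) : ℤ) * Nat.gcdA (q ^ i) m +
              (m : ℤ) * Nat.gcdB (q ^ i) m = 1 := by
            rw [← hbez]; simp
          rw [this, zpow_one]
        rw [hg]
        exact Subgroup.mul_mem _ (Subgroup.zpow_mem _ h2 _) (Subgroup.zpow_mem _ h1 _)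
      have ho : orderOf (a ^ (q ^ i)) = m := by
        rw [orderOf_pow_of_dvd hqi (by rw [han, hnm]; exact Dvd.intro _ rfl), han, hnm,
          Nat.mul_div_cancel_left _ (Nat.pos_of_ne_zero hqi)]
      have hlt : m < n := by
        rw [hnm]
        have h2 : 2 ≤ q ^ i := by
          calc 2 ≤ q := hq.two_le
            _ = q ^ 1 := (pow_one _).symm
            _ ≤ q ^ i := Nat.pow_le_pow_right hq.pos (Nat.pos_of_ne_zero hi)
        have hmpos : 0 < m := Nat.pos_of_ne_zero hm0
        nlinarith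
      exact ih m hlt _ ho h2
    · refine ⟨q, hq, i, a ^ m, ?_, h1⟩
      rw [← pow_mul, mul_comm, ← hnm, ← han]
      exact pow_orderOf_eq_one a

theorem quat_one_comm : ∀ a b : QuaternionGroup 1, a * b = b * a := by decide

end general

section main

variable {F : Type*} [Field F] {W : Type*} [AddCommGroup W] [Module F W] {G : Type*} [Group G]
variable {ρ : G →* Module.End F W}
variable [IsAlgClosed F] [FiniteDimensional F W] [Nontrivial W] [Finite G]

/-- proper normal subgroups inside `N` are central in `N` -/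
theorem central_of_proper (A : Subgroup G) (hAn : A.Normal) (hAc : IsMulCommutative A)
    (hAmax : ∀ B : Subgroup G, B.Normal → IsMulCommutative B → A ≤ B → B = A) (N : Subgroup G)
    (hNle : N ≤ Subgroup.centralizer (A : Set G))
    (hNmin : ∀ M : Subgroup G, M.Normal → M ≤ N → ¬ IsMulCommutative M → M = N)
    (M : Subgroup G) (hMn : M.Normal) (hMN : M ≤ N) (hM : M ≠ N) :
    ∀ m ∈ M, ∀ n ∈ N, n * m = m * n := by
  have hMc : IsMulCommutative M := by
    by_contra hc
    exact hM (hNmin M hMn hMN hc)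
  have hAA : ∀ a ∈ A, ∀ b ∈ A, a * b = b * a := by
    intro a ha b hb
    exact congrArg Subtype.val (hAc.is_comm.comm ⟨a, ha⟩ ⟨b, hb⟩)
  have hMM : ∀ a ∈ M, ∀ b ∈ M, a * b = b * a := by
    intro a ha b hb
    exact congrArg Subtype.val (hMc.is_comm.comm ⟨a, ha⟩ ⟨b, hb⟩)
  have hAM : ∀ a ∈ A, ∀ m ∈ M, a * m = m * a := by
    intro a ha m hm
    exact Subgroup.mem_centralizer_iff.1 (hNle (hMN hm)) a ha
  have hBn : (A ⊔ M).Normal := Subgroup.sup_normal A M
  have hBcent : A ⊔ M ≤ Subgroup.centralizer ((A ⊔ M : Subgroup G) : Set G) := by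
    apply sup_le
    · intro a ha
      rw [Subgroup.mem_centralizer_iff]
      intro y hy
      have h1 : A ⊔ M ≤ Subgroup.centralizer {a} := by
        apply sup_le
        · intro b hb
          rw [Subgroup.mem_centralizer_singleton_iff]
          exact hAA b hb a ha
        · intro m hm
          rw [Subgroup.mem_centralizer_singleton_iff]
          exact (hAM a ha m hm).symm
      exact Subgroup.mem_centralizer_singleton_iff.1 (h1 hy)
    · intro m hm
      rw [Subgroup.mem_centralizer_iff]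
      intro y hy
      have h1 : A ⊔ M ≤ Subgroup.centralizer {m} := by
        apply sup_le
        · intro b hb
          rw [Subgroup.mem_centralizer_singleton_iff]
          exact hAM b hb m hm
        · intro m' hm'
          rw [Subgroup.mem_centralizer_singleton_iff]
          exact hMM m' hm' m hm
      exact Subgroup.mem_centralizer_singleton_iff.1 (h1 hy)
  have hBc : IsMulCommutative ↥(A ⊔ M) := by
    refine ⟨⟨fun x y => ?_⟩⟩
    apply Subtype.ext
    exact Subgroup.mem_centralizer_iff.1 (hBcent y.2) x x.2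
  have hBA : A ⊔ M = A := hAmax (A ⊔ M) hBn hBc le_sup_left
  have hMA : M ≤ A := by rw [← hBA]; exact le_sup_right
  intro m hm n hn
  exact (Subgroup.mem_centralizer_iff.1 (hNle hn) m (hMA hm)).symm


/-- the non-perfect case: `N` is quaternion of order `8` -/
theorem quat_of_not_perfect (h : IsFpf ρ)
    (A : Subgroup G) (hAn : A.Normal) (hAc : IsMulCommutative A)
    (hAmax : ∀ B : Subgroup G, B.Normal → IsMulCommutative B → A ≤ B → B = A) (N : Subgroup G)
    (hNn : N.Normal)
    (hNle : N ≤ Subgroup.centralizer (A : Set G)) (hNna : ¬ IsMulCommutative N)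
    (hNmin : ∀ M : Subgroup G, M.Normal → M ≤ N → ¬ IsMulCommutative M → M = N)
    (hperf : ⁅N, N⁆ ≠ N) :
    Nonempty (N ≃* QuaternionGroup 2) := by
  -- a non-commuting pair
  have hnc : ∃ a b : ↥N, a * b ≠ b * a := by
    by_contra hc
    push Not at hc
    exact hNna ⟨⟨hc⟩⟩
  obtain ⟨a₀, b₀, hab₀⟩ := hnc
  have hNnt : Nontrivial ↥N := by
    refine ⟨⟨a₀, 1, ?_⟩⟩
    intro h1
    apply hab₀
    rw [h1, one_mul, mul_one]
  have hN'le : ⁅N, N⁆ ≤ N := by
    rw [Subgroup.commutator_le]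
    intro g₁ hg₁ g₂ hg₂
    exact Subgroup.commutator_mem_commutator hg₁ hg₂ |> fun _ =>
      N.mul_mem (N.mul_mem (N.mul_mem hg₁ hg₂) (N.inv_mem hg₁)) (N.inv_mem hg₂)
  have hN'n : (⁅N, N⁆).Normal := Subgroup.commutator_normal N N
  have hcen := central_of_proper A hAn hAc hAmax N hNle hNmin ⁅N, N⁆ hN'n hN'le hperf
  -- `N` is nilpotent
  have hker : (Abelianization.of (G := ↥N)).ker ≤ Subgroup.center ↥N := by
    rw [Abelianization.ker_of]
    intro x hx
    have hx' : (x : G) ∈ ⁅N, N⁆ := by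
      rw [← Subgroup.map_subtype_commutator]
      exact ⟨x, hx, rfl⟩
    rw [Subgroup.mem_center_iff]
    intro g
    apply Subtype.ext
    exact hcen _ hx' _ g.2
  have hnil : Group.IsNilpotent ↥N :=
    Subgroup.isNilpotent_of_ker_le_center (Abelianization.of (G := ↥N)) hker
  have hsyl : ∀ (q : ℕ) (_hq : Fact q.Prime) (P : Sylow q ↥N), (↑P : Subgroup ↥N).Normal :=
    ((Group.isNilpotent_of_finite_tfae (G := ↥N)).out 0 3).1 hnil
  -- a non-central element of prime power order
  have ha₀ : a₀ ∉ Subgroup.center ↥N := by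
    intro hc
    rw [Subgroup.mem_center_iff] at hc
    exact hab₀ (hc b₀).symm
  obtain ⟨q, hq, i, a', ha'q, ha'c⟩ := exists_noncentral_prime_power _ a₀ rfl ha₀
  have hqf : Fact q.Prime := ⟨hq⟩
  have hzp : IsPGroup q (Subgroup.zpowers a') := by
    apply IsPGroup.of_card_dvd_pow (n := i)
    rw [Nat.card_zpowers]
    exact orderOf_dvd_of_pow_eq_one ha'q
  obtain ⟨Q, hQ⟩ := hzp.exists_le_sylow
  have hQn : (↑Q : Subgroup ↥N).Normal := hsyl q hqf Q
  have hQc : (↑Q : Subgroup ↥N).Characteristic := Sylow.characteristic_of_normal Q hQn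
  have hMn : ((↑Q : Subgroup ↥N).map N.subtype).Normal :=
    ConjAct.normal_of_characteristic_of_normal
  have hMle : (↑Q : Subgroup ↥N).map N.subtype ≤ N := by
    rintro _ ⟨x, -, rfl⟩
    exact x.2
  have hMeq : (↑Q : Subgroup ↥N).map N.subtype = N := by
    by_contra hne
    have hcen2 := central_of_proper A hAn hAc hAmax N hNle hNmin _ hMn hMle hne
    apply ha'c
    rw [Subgroup.mem_center_iff]
    intro g
    apply Subtype.ext
    exact hcen2 _ ⟨a', hQ (Subgroup.mem_zpowers a'), rfl⟩ _ g.2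
  have hQtop : ∀ x : ↥N, x ∈ (↑Q : Subgroup ↥N) := by
    intro x
    have hx : (x : G) ∈ (↑Q : Subgroup ↥N).map N.subtype := by rw [hMeq]; exact x.2
    obtain ⟨y, hy, hyx⟩ := hx
    have : y = x := Subtype.ext hyx
    rw [← this]; exact hy
  have hNp : IsPGroup q ↥N := by
    intro x
    obtain ⟨k, hk⟩ := Q.isPGroup' ⟨x, hQtop x⟩
    exact ⟨k, congrArg Subtype.val hk⟩
  rcases isCyclic_or_quat h N hNp with hcyc | ⟨-, n, ⟨e⟩⟩
  · exfalso
    apply hab₀
    obtain ⟨g, hg⟩ := hcyc.exists_generator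
    obtain ⟨i, rfl⟩ := Subgroup.mem_zpowers_iff.1 (hg a₀)
    obtain ⟨j, rfl⟩ := Subgroup.mem_zpowers_iff.1 (hg b₀)
    rw [← zpow_add, ← zpow_add, add_comm]
  -- the generalized quaternion case
  have hne : NeZero (2 ^ n) := ⟨pow_ne_zero _ two_ne_zero⟩
  obtain ⟨α, hαo, hα1, -⟩ := exists_cyclic_max e
  have hex : ∃ g : ↥N, g ∉ Subgroup.zpowers α := by
    by_contra hall
    push Not at hall
    apply hab₀
    obtain ⟨i, rfl⟩ := Subgroup.mem_zpowers_iff.1 (hall a₀)
    obtain ⟨j, rfl⟩ := Subgroup.mem_zpowers_iff.1 (hall b₀)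
    rw [← zpow_add, ← zpow_add, add_comm]
  obtain ⟨g, hg⟩ := hex
  have hgα : g * α * g⁻¹ = α⁻¹ := (hα1 g).resolve_left hg
  -- the commutator `[g, α] = α⁻²` is central
  have hcomm : ⁅(g : G), (α : G)⁆ ∈ ⁅N, N⁆ := Subgroup.commutator_mem_commutator g.2 α.2
  have hc1 : (g : G) * ⁅(g : G), (α : G)⁆ = ⁅(g : G), (α : G)⁆ * (g : G) :=
    hcen _ hcomm _ g.2
  have hgαG : (g : G) * (α : G) * (g : G)⁻¹ = (α : G)⁻¹ := by
    have := congrArg Subtype.val hgα
    simpa using this
  have hcm : ⁅(g : G), (α : G)⁆ = (α : G)⁻¹ * (α : G)⁻¹ := by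
    rw [commutatorElement_def, hgαG]
  rw [hcm] at hc1
  have hα4 : (α : G) ^ 4 = 1 := by
    have h1 : (g : G) * ((α : G)⁻¹ * (α : G)⁻¹) * (g : G)⁻¹ = (α : G) * (α : G) := by
      have h2 : (g : G) * ((α : G)⁻¹ * (α : G)⁻¹) * (g : G)⁻¹ =
          ((g : G) * (α : G) * (g : G)⁻¹)⁻¹ * ((g : G) * (α : G) * (g : G)⁻¹)⁻¹ := by
        simp only [pow_succ, pow_zero, one_mul, mul_one, mul_assoc, inv_mul_cancel_left, mul_inv_cancel_left, mul_inv_rev, inv_inv, mul_inv_cancel, inv_mul_cancel]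
      rw [h2, hgαG, inv_inv]
    rw [hc1] at h1
    have h3 : (α : G)⁻¹ * (α : G)⁻¹ = (α : G) * (α : G) := by
      rw [← h1]; simp only [pow_succ, pow_zero, one_mul, mul_one, mul_assoc, inv_mul_cancel_left, mul_inv_cancel_left, mul_inv_rev, inv_inv, mul_inv_cancel, inv_mul_cancel]
    calc (α : G) ^ 4 = (α : G) * (α : G) * ((α : G) * (α : G)) := by simp only [pow_succ, pow_zero, one_mul, mul_one, mul_assoc, inv_mul_cancel_left, mul_inv_cancel_left, mul_inv_rev, inv_inv, mul_inv_cancel, inv_mul_cancel]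
      _ = (α : G) * (α : G) * ((α : G)⁻¹ * (α : G)⁻¹) := by rw [h3]
      _ = 1 := by simp only [pow_succ, pow_zero, one_mul, mul_one, mul_assoc, inv_mul_cancel_left, mul_inv_cancel_left, mul_inv_rev, inv_inv, mul_inv_cancel, inv_mul_cancel]
  have hα4' : α ^ 4 = 1 := Subtype.ext (by simpa using hα4)
  have hdvd : 2 * 2 ^ n ∣ 4 := by
    rw [← hαo]; exact orderOf_dvd_of_pow_eq_one hα4'
  have hn1 : n ≤ 1 := by
    by_contra hgt
    push Not at hgt
    have h4 : 2 ^ 2 ≤ 2 ^ n := Nat.pow_le_pow_right (by norm_num) hgt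
    have := Nat.le_of_dvd (by norm_num) hdvd
    omega
  interval_cases n
  · exfalso
    apply hab₀
    apply e.injective
    rw [map_mul, map_mul]
    exact quat_one_comm _ _
  · exact ⟨e⟩

/-- the structure of `N`, in the linear setting -/
theorem quat_or_sl25 (h : IsFpf ρ) (hcard : ((Nat.card G : ℕ) : F) ≠ 0)
    (A : Subgroup G) (hAn : A.Normal) (hAc : IsMulCommutative A)
    (hAmax : ∀ B : Subgroup G, B.Normal → IsMulCommutative B → A ≤ B → B = A) (N : Subgroup G)
    (hNn : N.Normal)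
    (hNle : N ≤ Subgroup.centralizer (A : Set G)) (hNna : ¬ IsMulCommutative N)
    (hNmin : ∀ M : Subgroup G, M.Normal → M ≤ N → ¬ IsMulCommutative M → M = N) :
    Nonempty (N ≃* QuaternionGroup 2) ∨
      Nonempty (N ≃* Matrix.SpecialLinearGroup (Fin 2) (ZMod 5)) := by
  have hS : IsFpf (ρ.comp N.subtype) :=
    fun g hg w hw => h (g : G) (fun h0 => hg (Subtype.ext h0)) w hw
  have hcardN : ((Nat.card ↥N : ℕ) : F) ≠ 0 := by
    intro h0
    apply hcard
    rw [← N.card_mul_index, Nat.cast_mul, h0, zero_mul]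
  by_cases hperf : ⁅N, N⁆ = N
  · right
    have hnc : ∃ a b : ↥N, a * b ≠ b * a := by
      by_contra hc
      push Not at hc
      exact hNna ⟨⟨hc⟩⟩
    obtain ⟨a₀, b₀, hab₀⟩ := hnc
    have hNnt : Nontrivial ↥N := by
      refine ⟨⟨a₀, 1, ?_⟩⟩
      intro h1
      apply hab₀
      rw [h1, one_mul, mul_one]
    exact nonempty_mulEquiv hS hcardN (commutator_eq_top_of_self N hperf)
  · left
    exact quat_of_not_perfect h A hAn hAc hAmax N hNn hNle hNna hNmin hperf

end main

section setup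

variable {p : ℕ} [Fact p.Prime] {V : Type u} [AddCommGroup V] [Module (ZMod p) V]

theorem finite_linearEquiv [Finite V] : Finite (V ≃ₗ[ZMod p] V) :=
  Finite.of_injective (fun e : V ≃ₗ[ZMod p] V => (e : V → V)) DFunLike.coe_injective

variable (H : Subgroup (V ≃ₗ[ZMod p] V))

/-- the action of `H` on `V` -/
def actH : ↥H →* AddMonoid.End V where
  toFun h := ((h : V ≃ₗ[ZMod p] V) : V →ₗ[ZMod p] V).toAddMonoidHom
  map_one' := rfl
  map_mul' _ _ := rfl

theorem actH_apply (h : H) (v : V) : actH H h v = (h : V ≃ₗ[ZMod p] V) v := rfl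

theorem actH_fpf (hreg : ∀ v w : V, v ≠ 0 → w ≠ 0 → ∃! h : H, (h : V ≃ₗ[ZMod p] V) v = w) :
    ∀ g : H, g ≠ 1 → ∀ v : V, actH H g v = v → v = 0 := by
  intro g hg v hv
  by_contra hv0
  apply hg
  obtain ⟨h₀, -, huniq⟩ := hreg v v hv0 hv0
  rw [huniq g hv, huniq 1 rfl]

theorem card_add_one [Finite V] [Nontrivial V]
    (hreg : ∀ v w : V, v ≠ 0 → w ≠ 0 → ∃! h : H, (h : V ≃ₗ[ZMod p] V) v = w) :
    Nat.card H + 1 = Nat.card V := by
  have := finite_linearEquiv (p := p) (V := V)
  obtain ⟨v₀, hv₀⟩ := exists_ne (0 : V)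
  have e : Option ↥H ≃ V := by
    refine Equiv.ofBijective (fun o => o.elim 0 (fun h => (h : V ≃ₗ[ZMod p] V) v₀)) ⟨?_, ?_⟩
    · intro a b hab
      rcases a with _ | a <;> rcases b with _ | b
      · rfl
      · exfalso
        simp only [Option.elim] at hab
        apply hv₀
        have := hab.symm
        simpa using this
      · exfalso
        simp only [Option.elim] at hab
        apply hv₀
        simpa using hab
      · simp only [Option.elim] at hab
        obtain ⟨h₀, -, huniq⟩ := hreg v₀ ((b : V ≃ₗ[ZMod p] V) v₀) hv₀ (by simpa using hv₀)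
        rw [huniq a hab, huniq b rfl]
    · intro w
      by_cases hw : w = 0
      · exact ⟨none, hw.symm⟩
      · obtain ⟨h₀, hh₀, -⟩ := hreg v₀ w hv₀ hw
        exact ⟨some h₀, hh₀⟩
  rw [← Nat.card_congr e, Finite.card_option]

theorem not_dvd_card [Finite V] [Nontrivial V]
    (hreg : ∀ v w : V, v ≠ 0 → w ≠ 0 → ∃! h : H, (h : V ≃ₗ[ZMod p] V) v = w) :
    ¬ p ∣ Nat.card H := by
  have hp : p.Prime := Fact.out
  obtain ⟨v₀, hv₀⟩ := exists_ne (0 : V)
  have h1 : addOrderOf v₀ ∣ p := by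
    apply addOrderOf_dvd_of_nsmul_eq_zero
    have : (p : ZMod p) • v₀ = 0 := by rw [ZMod.natCast_self, zero_smul]
    rw [← this, Nat.cast_smul_eq_nsmul]
  have h2 : addOrderOf v₀ = p := by
    rcases (Nat.dvd_prime hp).1 h1 with h | h
    · exfalso; exact hv₀ (AddMonoid.addOrderOf_eq_one_iff.1 h)
    · exact h
  have h3 : p ∣ Nat.card V := by rw [← h2]; exact addOrderOf_dvd_natCard v₀
  intro h4
  rw [← card_add_one H hreg] at h3
  have := (Nat.dvd_add_right h4).1 h3
  exact hp.one_lt.ne' (Nat.dvd_one.1 this)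

/-- **S0686** -/
theorem nonabelian_normal [Finite V]
    (hreg : ∀ v w : V, v ≠ 0 → w ≠ 0 → ∃! h : H, (h : V ≃ₗ[ZMod p] V) v = w)
    (A : Subgroup H) (hAn : A.Normal) (hAc : IsMulCommutative A)
    (hAmax : ∀ B : Subgroup H, B.Normal → IsMulCommutative B → A ≤ B → B = A) (N : Subgroup H)
    (hNn : N.Normal) (hNle : N ≤ Subgroup.centralizer (A : Set H)) (hNna : ¬ IsMulCommutative N)
    (hNmin : ∀ M : Subgroup H, M.Normal → M ≤ N → ¬ IsMulCommutative M → M = N) :
    Nonempty (N ≃* QuaternionGroup 2) ∨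
      Nonempty (N ≃* Matrix.SpecialLinearGroup (Fin 2) (ZMod 5)) := by
  have := finite_linearEquiv (p := p) (V := V)
  rcases subsingleton_or_nontrivial V with hV | hV
  · exfalso
    apply hNna
    refine ⟨⟨fun a b => ?_⟩⟩
    apply Subtype.ext
    apply Subtype.ext
    ext v
    exact Subsingleton.elim _ _
  exact of_linear_aux p (actH H) (actH_fpf H hreg) (not_dvd_card H hreg) _
    (fun F _ _ W _ _ _ _ ρ hρ hc => quat_or_sl25 hρ hc A hAn hAc hAmax N hNn hNle hNna hNmin)

end setup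

end Cfsg.Agent.Lib.Helper12_ExcNF
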