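import Mathlib
import Cfsg.Agent.Lib.Helper12_FpfNonsolv
import Cfsg.Agent.Lib.Helper12_ExcNF

set_option autoImplicit false
set_option linter.unusedSimpArgs false
set_option linter.unusedSectionVars false

namespace Cfsg.Agent.Lib.Helper12_ExcCount

open Module Cfsg.Agent.Lib.Helper12_FpfLin Cfsg.Agent.Lib.Helper12_FpfQuat
  Cfsg.Agent.Lib.Helper12_FpfSylow Cfsg.Agent.Lib.Helper12_PerfectTools
  Cfsg.Agent.Lib.Helper12_FpfE45 Cfsg.Agent.Lib.Helper12_FpfSyl8
  Cfsg.Agent.Lib.Helper12_FpfSimple QuaternionGroup Cfsg.Agent.Lib.Helper12_FpfExist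
  Cfsg.Agent.Lib.Helper12_FpfNonsolv Cfsg.Agent.Lib.Helper12_ExcNF
open scoped commutatorElement


section arithmetic

/-- the arithmetic check -/
def ntCheck (B p k u : ℕ) : Bool :=
  !(decide (3 ≤ p) && decide (1 ≤ u) && decide (u ≤ k) && decide (p ^ k ≤ 120) &&
      decide ((p ^ (u + k) - 1) ∣ B * (p ^ u - 1))) ||
    (decide (u = 1) && decide (k = 1) && decide ((p + 1) ∣ B)) ||
    (decide (B = 120) && decide (p = 3) &&
      ((decide (u = 2) && decide (k = 2)) || (decide (u = 1) && decide (k = 3))))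

theorem ntCheck_24 : ∀ p < 121, ∀ k < 5, ∀ u < 5, ntCheck 24 p k u = true := by decide

theorem ntCheck_120 : ∀ p < 121, ∀ k < 5, ∀ u < 5, ntCheck 120 p k u = true := by decide

theorem nt_core {B p k u : ℕ} (hB : B = 24 ∨ B = 120) (hp : p < 121) (hk : k < 5) (hu : u < 5)
    (h3 : 3 ≤ p) (h1 : 1 ≤ u) (huk : u ≤ k) (hpk : p ^ k ≤ 120)
    (hdvd : (p ^ (u + k) - 1) ∣ B * (p ^ u - 1)) :
    (u = 1 ∧ k = 1 ∧ (p + 1) ∣ B) ∨
      (B = 120 ∧ p = 3 ∧ ((u = 2 ∧ k = 2) ∨ (u = 1 ∧ k = 3))) := by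
  have hc : ntCheck B p k u = true := by
    rcases hB with rfl | rfl
    · exact ntCheck_24 p hp k hk u hu
    · exact ntCheck_120 p hp k hk u hu
  unfold ntCheck at hc
  simp only [Bool.or_eq_true, Bool.and_eq_true, Bool.not_eq_true', decide_eq_true_eq,
    Bool.and_eq_false_iff, decide_eq_false_iff_not] at hc
  tauto

/-- the number-theoretic core of Zassenhaus's count -/
theorem nt {p u n Φ B : ℕ} (hp : p.Prime) (hp2 : p ≠ 2) (hu : 0 < u) (hun : u < n)
    (hB : B = 24 ∨ B = 120) (hΦ : Φ * (p ^ u - 1) = p ^ n - 1) (hΦB : Φ ∣ B) :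
    (u = 1 ∧ n = 2 ∧ (p + 1) ∣ B) ∨ (B = 120 ∧ p = 3 ∧ n = 4) := by
  have h3 : 3 ≤ p := by
    have := hp.two_le
    omega
  obtain ⟨k, rfl⟩ : ∃ k, n = u + k := ⟨n - u, by omega⟩
  have hk : 0 < k := by omega
  have hB0 : 0 < B := by rcases hB with rfl | rfl <;> norm_num
  have hB120 : B ≤ 120 := by rcases hB with rfl | rfl <;> norm_num
  have hQ : 3 ≤ p ^ u := by
    calc 3 ≤ p := h3
      _ = p ^ 1 := (pow_one p).symm
      _ ≤ p ^ u := Nat.pow_le_pow_right (by omega) hu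
  have hR : 3 ≤ p ^ k := by
    calc 3 ≤ p := h3
      _ = p ^ 1 := (pow_one p).symm
      _ ≤ p ^ k := Nat.pow_le_pow_right (by omega) hk
  have hpR : p ≤ p ^ k := by
    calc p = p ^ 1 := (pow_one p).symm
      _ ≤ p ^ k := Nat.pow_le_pow_right (by omega) hk
  rw [pow_add] at hΦ
  obtain ⟨Q, hQdef⟩ : ∃ Q, p ^ u = Q := ⟨_, rfl⟩
  obtain ⟨R, hRdef⟩ : ∃ R, p ^ k = R := ⟨_, rfl⟩
  rw [hQdef, hRdef] at hΦ
  rw [hQdef] at hQ
  rw [hRdef] at hR hpR
  have hΦle : Φ ≤ B := Nat.le_of_dvd hB0 hΦB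
  obtain ⟨Q', rfl⟩ : ∃ Q', Q = Q' + 1 := ⟨Q - 1, by omega⟩
  obtain ⟨R', rfl⟩ : ∃ R', R = R' + 1 := ⟨R - 1, by omega⟩
  have hΦ' : Φ * Q' = (Q' + 1) * (R' + 1) - 1 := by
    rw [← hΦ]; rfl
  have hexp : (Q' + 1) * (R' + 1) - 1 = Q' * (R' + 1) + R' := by
    have : (Q' + 1) * (R' + 1) = Q' * (R' + 1) + R' + 1 := by ring
    omega
  rw [hexp] at hΦ'
  -- `R ≤ B`
  have hRB : R' + 1 ≤ B := by
    by_contra hlt
    push Not at hlt
    have h1 : Φ * Q' ≤ B * Q' := Nat.mul_le_mul_right _ hΦle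
    have h2 : B * Q' < (R' + 1) * Q' := Nat.mul_lt_mul_of_pos_right hlt (by omega)
    nlinarith
  -- `Q ≤ R`
  have hQR : Q' ∣ R' := by
    have h1 : Q' ∣ Q' * (R' + 1) + R' := ⟨Φ, by rw [← hΦ', mul_comm]⟩
    exact (Nat.dvd_add_right ⟨R' + 1, rfl⟩).1 h1
  have hQleR : Q' ≤ R' := Nat.le_of_dvd (by omega) hQR
  have huk : u ≤ k := by
    have : p ^ u ≤ p ^ k := by rw [hQdef, hRdef]; omega
    exact (Nat.pow_le_pow_iff_right (by omega)).1 this
  have hk5 : k < 5 := by
    by_contra hge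
    push Not at hge
    have : 3 ^ 5 ≤ p ^ k :=
      calc 3 ^ 5 ≤ 3 ^ k := Nat.pow_le_pow_right (by norm_num) hge
        _ ≤ p ^ k := Nat.pow_le_pow_left h3 k
    rw [hRdef] at this
    omega
  have hdvd : (p ^ (u + k) - 1) ∣ B * (p ^ u - 1) := by
    obtain ⟨c, rfl⟩ := hΦB
    rw [pow_add, hQdef, hRdef]
    refine ⟨c, ?_⟩
    have : Q' + 1 - 1 = Q' := rfl
    rw [this, hexp, ← hΦ']
    ring
  have := nt_core hB (by omega) hk5 (by omega) h3 hu huk (by rw [hRdef]; omega) hdvd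
  rcases this with ⟨h1, h2, h3⟩ | ⟨h1, h2, h3⟩
  · left
    exact ⟨h1, by omega, h3⟩
  · right
    refine ⟨h1, h2, ?_⟩
    omega


end arithmetic

section autq8


/-- quaternion pairs in `Q₈`, as a boolean predicate -/
def qpB (ts : QuaternionGroup 2 × QuaternionGroup 2) : Bool :=
  decide (ts.1 ^ 4 = 1) && !decide (ts.1 ^ 2 = 1) && decide (ts.2 ^ 2 = ts.1 ^ 2) &&
    decide (ts.2 * ts.1 * ts.2⁻¹ = ts.1⁻¹)

theorem card_qp : (Finset.univ.filter
    (fun ts : QuaternionGroup 2 × QuaternionGroup 2 => qpB ts = true)).card = 24 := by decide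

theorem qpB_iff (ts : QuaternionGroup 2 × QuaternionGroup 2) :
    qpB ts = true ↔ QPair ts.1 ts.2 := by
  unfold qpB
  simp only [Bool.and_eq_true, decide_eq_true_eq, Bool.not_eq_true', decide_eq_false_iff_not]
  constructor
  · rintro ⟨⟨⟨h1, h2⟩, h3⟩, h4⟩
    exact ⟨h1, h2, h3, h4⟩
  · rintro ⟨h1, h2, h3, h4⟩
    exact ⟨⟨⟨h1, h2⟩, h3⟩, h4⟩

theorem q8_gen : ∀ q : QuaternionGroup 2, ∃ e < 2, ∃ i < 4, q = xa 0 ^ e * a 1 ^ i := by decide

theorem q8_std : QPair (a 1 : QuaternionGroup 2) (xa 0) := by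
  refine ⟨?_, ?_, ?_, ?_⟩ <;> decide

/-- the automorphism group of `Q₈` has order `24` -/
theorem card_mulAut_q8 : Nat.card (MulAut (QuaternionGroup 2)) = 24 := by
  have hΨ : ∀ φ : MulAut (QuaternionGroup 2), qpB (φ (a 1), φ (xa 0)) = true := by
    intro φ
    rw [qpB_iff]
    have h := q8_std
    refine ⟨?_, ?_, ?_, ?_⟩
    · show φ (a 1) ^ 4 = 1
      rw [← map_pow, h.t4, map_one]
    · show φ (a 1) ^ 2 ≠ 1
      rw [← map_pow]
      intro h1
      apply h.t2
      apply φ.injective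
      rw [h1, map_one]
    · show φ (xa 0) ^ 2 = φ (a 1) ^ 2
      rw [← map_pow, ← map_pow, h.s2]
    · show φ (xa 0) * φ (a 1) * (φ (xa 0))⁻¹ = (φ (a 1))⁻¹
      rw [← map_inv, ← map_mul, ← map_mul, h.st, map_inv]
  let Ψ : MulAut (QuaternionGroup 2) →
      {ts : QuaternionGroup 2 × QuaternionGroup 2 // qpB ts = true} :=
    fun φ => ⟨(φ (a 1), φ (xa 0)), hΨ φ⟩
  have hinj : Function.Injective Ψ := by
    intro φ ψ hφψ
    have h1 : φ (a 1) = ψ (a 1) := congrArg (fun x => x.1.1) hφψ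
    have h2 : φ (xa 0) = ψ (xa 0) := congrArg (fun x => x.1.2) hφψ
    ext q
    obtain ⟨e, -, i, -, rfl⟩ := q8_gen q
    rw [map_mul, map_mul, map_pow, map_pow, map_pow, map_pow, h1, h2]
  have hsurj : Function.Surjective Ψ := by
    rintro ⟨⟨t, s⟩, hts⟩
    have hq : QPair t s := (qpB_iff (t, s)).1 hts
    have hbij : Function.Bijective hq.lift :=
      Finite.injective_iff_bijective.1 hq.lift_injective
    refine ⟨MulEquiv.ofBijective hq.lift hbij, ?_⟩
    apply Subtype.ext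
    show (hq.lift (a 1), hq.lift (xa 0)) = (t, s)
    rw [hq.lift_a_one, hq.lift_xa_zero]
  rw [Nat.card_congr (Equiv.ofBijective Ψ ⟨hinj, hsurj⟩), Nat.card_eq_fintype_card,
    Fintype.card_subtype, card_qp]

/-- the centraliser of a normal `Q₈` has index dividing `24` -/
theorem index_centralizer_q8 {G : Type*} [Group G] (N : Subgroup G) [N.Normal]
    (e : N ≃* QuaternionGroup 2) : (Subgroup.centralizer (N : Set G)).index ∣ 24 := by
  rw [← conjNormal_ker N, Subgroup.index_ker]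
  have h1 : Nat.card (MulAut ↥N) = 24 := by
    rw [Nat.card_congr (MulAut.congr e).toEquiv, card_mulAut_q8]
  rw [← h1]
  exact Subgroup.card_subgroup_dvd_card _


end autq8

section abstract

variable {F : Type*} [Field F] {W : Type*} [AddCommGroup W] [Module F W] {G : Type*} [Group G]
variable {ρ : G →* Module.End F W}
variable [IsAlgClosed F] [FiniteDimensional F W] [Nontrivial W] [Finite G]

/-- data attached to a perfect normal subgroup of a fixed-point-free linear group -/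
theorem perfect_normal_data (h : IsFpf ρ) (hcard : ((Nat.card G : ℕ) : F) ≠ 0)
    (S : Subgroup G) (hSn : S.Normal) (hS1 : S ≠ ⊥) (hSS : ⁅S, S⁆ = S) :
    Nat.card ↥S = 120 ∧
      ((Subgroup.centralizer (S : Set G)).index = 60 ∨
        (Subgroup.centralizer (S : Set G)).index = 120) ∧
      (∀ c : G, c ∈ Subgroup.centralizer (S : Set G) → c ∈ S → c ^ 2 = 1) ∧
      Nonempty (S ≃* Matrix.SpecialLinearGroup (Fin 2) (ZMod 5)) ∧
      ∃ t s : G, t ∈ S ∧ s ∈ S ∧ QPair t s := by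
  have hperfS := commutator_eq_top_of_self S hSS
  have : Nontrivial ↥S := (Subgroup.nontrivial_iff_ne_bot S).2 hS1
  have hS : IsFpf (ρ.comp S.subtype) :=
    fun g hg w hw => h (g : G) (fun h0 => hg (Subtype.ext h0)) w hw
  have hcardS : ((Nat.card ↥S : ℕ) : F) ≠ 0 := by
    intro h0
    apply hcard
    rw [← S.card_mul_index, Nat.cast_mul, h0, zero_mul]
  obtain ⟨z, hz1, hz2, hZn, ⟨ψ⟩⟩ := exists_quotient_A5 hS hcardS hperfS
  obtain ⟨θ⟩ := nonempty_mulEquiv hS hcardS hperfS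
  have hzc : ∀ g : ↥S, g * z = z * g := hS.invol_central hz1 hz2
  have hzG1 : (z : G) ≠ 1 := fun h0 => hz1 (Subtype.ext h0)
  have hzG2 : (z : G) ^ 2 = 1 := congrArg Subtype.val hz2
  have hzGc : ∀ g : G, g * (z : G) = (z : G) * g := h.invol_central hzG1 hzG2
  have hchar : ∀ α : MulAut ↥S, α z = z := by
    intro α
    apply hS.invol_unique _ hz1 _ hz2
    · intro h0
      apply hz1
      apply α.injective
      rw [h0, map_one]
    · rw [← map_pow, hz2, map_one]
  have hAut := card_mulAut_le hperfS z hzc hchar ψ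
  have h60 : Nat.card (↥S ⧸ Subgroup.zpowers z) = 60 := by
    rw [Nat.card_congr ψ.toEquiv, card_alternatingGroup_five]
  have hoz : orderOf z = 2 := by
    have : Fact (Nat.Prime 2) := ⟨Nat.prime_two⟩
    exact orderOf_eq_prime hz2 hz1
  have h120 : Nat.card ↥S = 120 := by
    rw [Subgroup.card_eq_card_quotient_mul_card_subgroup (Subgroup.zpowers z), h60,
      Nat.card_zpowers, hoz]
  -- the centre of `S`
  have hcenter : (Subgroup.centralizer (S : Set G) ⊓ S).subgroupOf S = Subgroup.zpowers z := by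
    ext s
    rw [Subgroup.mem_subgroupOf, Subgroup.mem_inf]
    constructor
    · rintro ⟨h1, -⟩
      have h2 : ∀ s' : ↥S, s' * s = s * s' := by
        intro s'
        exact Subtype.ext (Subgroup.mem_centralizer_iff.1 h1 s' s'.2)
      have h3 : ψ (s : ↥S ⧸ Subgroup.zpowers z) ∈
          Subgroup.center ↥(alternatingGroup (Fin 5)) := by
        rw [Subgroup.mem_center_iff]
        intro a
        obtain ⟨b, rfl⟩ := ψ.surjective a
        obtain ⟨s', rfl⟩ := QuotientGroup.mk_surjective b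
        rw [← map_mul, ← map_mul, ← QuotientGroup.mk_mul, ← QuotientGroup.mk_mul, h2 s']
      rw [alternatingGroup.center_eq_bot (by simp), Subgroup.mem_bot] at h3
      have h4 : (s : ↥S ⧸ Subgroup.zpowers z) = 1 := by
        apply ψ.injective
        rw [h3, map_one]
      exact (QuotientGroup.eq_one_iff s).1 h4
    · rintro ⟨k, rfl⟩
      refine ⟨?_, (z ^ k).2⟩
      rw [Subgroup.mem_centralizer_iff]
      intro g _
      have h1 : ((z ^ k : ↥S) : G) = (z : G) ^ k := by simp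
      rw [h1]
      exact ((show Commute g (z : G) from hzGc g).zpow_right k).eq
  have hrel : (Subgroup.centralizer (S : Set G) ⊓ S).relIndex S = 60 := by
    rw [Subgroup.relIndex, hcenter, Subgroup.index_eq_card, h60]
  have hidx := index_sup_centralizer S hAut hrel
  have hrel2 : (Subgroup.centralizer (S : Set G)).relIndex
      (S ⊔ Subgroup.centralizer (S : Set G)) = 60 := by
    rw [Subgroup.relIndex_sup_right, ← Subgroup.inf_relIndex_right, hrel]
  have hmul := Subgroup.relIndex_mul_index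
    (le_sup_right : Subgroup.centralizer (S : Set G) ≤ S ⊔ Subgroup.centralizer (S : Set G))
  rw [hrel2] at hmul
  have hCS : ∀ c : G, c ∈ Subgroup.centralizer (S : Set G) → c ∈ S → c ^ 2 = 1 := by
    intro c hcC hcS
    have h1 : (⟨c, hcS⟩ : ↥S) ∈ (Subgroup.centralizer (S : Set G) ⊓ S).subgroupOf S := by
      rw [Subgroup.mem_subgroupOf]; exact ⟨hcC, hcS⟩
    rw [hcenter] at h1
    obtain ⟨k, hk⟩ := h1
    have h2 : c = (z : G) ^ k := by
      have := congrArg Subtype.val hk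
      simpa using this.symm
    rw [h2, ← zpow_natCast, ← zpow_mul, mul_comm, zpow_mul, zpow_natCast, hzG2, one_zpow]
  obtain ⟨t, s, x, hb⟩ := exists_basic hS hcardS hperfS
  refine ⟨h120, ?_, hCS, ⟨θ⟩, (t : G), (s : G), t.2, s.2, ?_⟩
  · rcases hidx with h1 | h1
    · left; rw [← hmul, h1]
    · right; rw [← hmul, h1]
  · have hq := hb.toQPair
    refine ⟨?_, ?_, ?_, ?_⟩
    · have := congrArg Subtype.val hq.t4
      simpa using this
    · intro h0
      apply hq.t2
      apply Subtype.ext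
      simpa using h0
    · have := congrArg Subtype.val hq.s2
      simpa using this
    · have := congrArg Subtype.val hq.st
      simpa using this

/-- transport of a quaternion pair along an injective homomorphism -/
theorem QPair_map {G₁ G₂ : Type*} [Group G₁] [Group G₂] (f : G₁ →* G₂)
    (hf : Function.Injective f) {t s : G₁} (hq : QPair t s) : QPair (f t) (f s) := by
  refine ⟨?_, ?_, ?_, ?_⟩
  · rw [← map_pow, hq.t4, map_one]
  · rw [← map_pow]
    intro h1
    apply hq.t2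
    apply hf
    rw [h1, map_one]
  · rw [← map_pow, ← map_pow, hq.s2]
  · rw [← map_inv, ← map_mul, ← map_mul, hq.st, map_inv]

/-- the data attached to the minimal non-abelian normal subgroup `N` -/
theorem normal_data (h : IsFpf ρ) (hcard : ((Nat.card G : ℕ) : F) ≠ 0)
    (A : Subgroup G) (hAn : A.Normal) (hAc : IsMulCommutative A)
    (hAmax : ∀ B : Subgroup G, B.Normal → IsMulCommutative B → A ≤ B → B = A) (N : Subgroup G)
    (hNn : N.Normal)
    (hNle : N ≤ Subgroup.centralizer (A : Set G)) (hNna : ¬ IsMulCommutative N)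
    (hNmin : ∀ M : Subgroup G, M.Normal → M ≤ N → ¬ IsMulCommutative M → M = N) :
    ∃ t s : G, t ∈ N ∧ s ∈ N ∧ QPair t s ∧
      ((Nonempty (N ≃* QuaternionGroup 2) ∧ (Subgroup.centralizer (N : Set G)).index ∣ 24) ∨
        (⁅N, N⁆ = N ∧ 120 ∣ Nat.card G ∧ (Subgroup.centralizer (N : Set G)).index ∣ 120)) := by
  by_cases hperf : ⁅N, N⁆ = N
  · have hN1 : N ≠ ⊥ := by
      intro h0
      apply hNna
      refine ⟨⟨fun a b => ?_⟩⟩
      have hall : ∀ x : ↥N, x = 1 := by
        intro x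
        have hx : (x : G) ∈ (⊥ : Subgroup G) := h0 ▸ x.2
        exact Subtype.ext (Subgroup.mem_bot.1 hx)
      rw [hall a, hall b]
    obtain ⟨h120, hidx, -, -, t, s, ht, hs, hq⟩ := perfect_normal_data h hcard N hNn hN1 hperf
    refine ⟨t, s, ht, hs, hq, Or.inr ⟨hperf, ?_, ?_⟩⟩
    · rw [← h120]; exact Subgroup.card_subgroup_dvd_card N
    · rcases hidx with h1 | h1 <;> rw [h1] <;> norm_num
  · obtain ⟨e⟩ := quat_of_not_perfect h A hAn hAc hAmax N hNn hNle hNna hNmin hperf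
    have hq := QPair_map (N.subtype.comp e.symm.toMonoidHom)
      (N.subtype_injective.comp e.symm.injective) q8_std
    refine ⟨_, _, ?_, ?_, hq, Or.inl ⟨⟨e⟩, index_centralizer_q8 N e⟩⟩
    · exact (e.symm (a 1)).2
    · exact (e.symm (xa 0)).2

end abstract

end Cfsg.Agent.Lib.Helper12_ExcCount
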