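import Mathlib
import Cfsg.Agent.Lib.Helper12_ExcNF
import Cfsg.Agent.Lib.Helper12_ExcCount

/-!
# Linear groups regular on non-zero vectors: the spread of a normal subgroup (helper12)
-/

set_option autoImplicit false
set_option linter.unusedSimpArgs false
set_option linter.unusedSectionVars false

namespace Cfsg.Agent.Lib.Helper12_ExcSpread

open Module Cfsg.Agent.Lib.Helper12_FpfQuat Cfsg.Agent.Lib.Helper12_ExcNF
  Cfsg.Agent.Lib.Helper12_ExcCount

universe u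

section concrete

variable {p : ℕ} [Fact p.Prime] {V : Type u} [AddCommGroup V] [Module (ZMod p) V]
variable (H : Subgroup (V ≃ₗ[ZMod p] V))

/-- invariance of a subspace under a subgroup -/
def Inv (X : Subgroup H) (W : Submodule (ZMod p) V) : Prop :=
  ∀ x ∈ X, ∀ v ∈ W, ((x : H) : V ≃ₗ[ZMod p] V) v ∈ W

variable {H}

theorem coe_mul_apply (a b : H) (v : V) :
    ((a * b : H) : V ≃ₗ[ZMod p] V) v = (a : V ≃ₗ[ZMod p] V) ((b : V ≃ₗ[ZMod p] V) v) := rfl

theorem coe_one_apply (v : V) : ((1 : H) : V ≃ₗ[ZMod p] V) v = v := rfl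

theorem coe_inv_apply_apply (a : H) (v : V) :
    ((a⁻¹ : H) : V ≃ₗ[ZMod p] V) ((a : V ≃ₗ[ZMod p] V) v) = v := by
  rw [← coe_mul_apply, inv_mul_cancel, coe_one_apply]

theorem coe_apply_inv_apply (a : H) (v : V) :
    (a : V ≃ₗ[ZMod p] V) (((a⁻¹ : H) : V ≃ₗ[ZMod p] V) v) = v := by
  rw [← coe_mul_apply, mul_inv_cancel, coe_one_apply]

theorem eq_of_apply_eq (hreg : ∀ v w : V, v ≠ 0 → w ≠ 0 → ∃! h : H, (h : V ≃ₗ[ZMod p] V) v = w)
    {a b : H} {v : V} (hv : v ≠ 0) (hab : (a : V ≃ₗ[ZMod p] V) v = (b : V ≃ₗ[ZMod p] V) v) :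
    a = b := by
  have hbv : (b : V ≃ₗ[ZMod p] V) v ≠ 0 := by
    intro h0
    apply hv
    have := coe_inv_apply_apply b v
    rw [h0, map_zero] at this
    exact this.symm
  obtain ⟨h₀, -, huniq⟩ := hreg v _ hv hbv
  rw [huniq a hab, huniq b rfl]

variable (H)

/-- the stabiliser of a subspace -/
def stab (U : Submodule (ZMod p) V) : Subgroup H where
  carrier := {h | ∀ v, v ∈ U ↔ ((h : H) : V ≃ₗ[ZMod p] V) v ∈ U}
  one_mem' := fun _ => Iff.rfl
  mul_mem' := fun {a b} ha hb v => (hb v).trans (ha _)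
  inv_mem' := fun {a} ha v => by
    have := ha (((a⁻¹ : H) : V ≃ₗ[ZMod p] V) v)
    rw [coe_apply_inv_apply] at this
    exact this.symm

theorem mem_stab {U : Submodule (ZMod p) V} {h : H} :
    h ∈ stab H U ↔ ∀ v, v ∈ U ↔ ((h : H) : V ≃ₗ[ZMod p] V) v ∈ U := Iff.rfl

theorem le_stab {X : Subgroup H} {U : Submodule (ZMod p) V} (hU : Inv H X U) :
    X ≤ stab H U := by
  intro x hx
  rw [mem_stab]
  intro v
  constructor
  · exact hU x hx v
  · intro hxv
    have := hU x⁻¹ (X.inv_mem hx) _ hxv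
    rwa [coe_inv_apply_apply] at this

/-- the key fact: the translates of a minimal invariant subspace form a spread -/
theorem mem_stab_of_apply_mem [Finite V] {X : Subgroup H} (hXn : X.Normal)
    {U : Submodule (ZMod p) V} (hUinv : Inv H X U)
    (hUmin : ∀ W' : Submodule (ZMod p) V, W' ≤ U → Inv H X W' → W' = ⊥ ∨ W' = U)
    {u₀ : V} (hu₀ : u₀ ∈ U) (hu₀0 : u₀ ≠ 0) (h : H)
    (hh : (h : V ≃ₗ[ZMod p] V) u₀ ∈ U) : h ∈ stab H U := by
  set hU : Submodule (ZMod p) V := U.map ((h : V ≃ₗ[ZMod p] V) : V →ₗ[ZMod p] V) with hUdef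
  have hinv : Inv H X (U ⊓ hU) := by
    intro x hx v hv
    refine ⟨hUinv x hx v hv.1, ?_⟩
    obtain ⟨y, hy, rfl⟩ := hv.2
    have hconj : h⁻¹ * x * h ∈ X := by
      have := hXn.conj_mem x hx h⁻¹
      simpa using this
    refine ⟨((h⁻¹ * x * h : H) : V ≃ₗ[ZMod p] V) y, hUinv _ hconj y hy, ?_⟩
    show (h : V ≃ₗ[ZMod p] V) (((h⁻¹ * x * h : H) : V ≃ₗ[ZMod p] V) y) =
      (x : V ≃ₗ[ZMod p] V) ((h : V ≃ₗ[ZMod p] V) y)
    rw [← coe_mul_apply, ← coe_mul_apply]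
    congr 2
    group
  have hne : U ⊓ hU ≠ ⊥ := by
    intro h0
    have hmem : (h : V ≃ₗ[ZMod p] V) u₀ ∈ U ⊓ hU := ⟨hh, ⟨u₀, hu₀, rfl⟩⟩
    rw [h0, Submodule.mem_bot] at hmem
    apply hu₀0
    have := coe_inv_apply_apply h u₀
    rw [hmem, map_zero] at this
    exact this.symm
  have heq : U ⊓ hU = U := (hUmin _ inf_le_left hinv).resolve_left hne
  have hle : U ≤ hU := by rw [← heq]; exact inf_le_right
  have hfr : finrank (ZMod p) ↥hU = finrank (ZMod p) ↥U :=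
    LinearEquiv.finrank_map_eq (h : V ≃ₗ[ZMod p] V) U
  have hUU : U = hU := Submodule.eq_of_le_of_finrank_eq hle hfr.symm
  rw [mem_stab]
  intro v
  constructor
  · intro hv
    rw [hUU]
    exact ⟨v, hv, rfl⟩
  · intro hv
    rw [hUU] at hv
    obtain ⟨y, hy, hyv⟩ := hv
    have : y = v := (h : V ≃ₗ[ZMod p] V).injective hyv
    rw [← this]; exact hy

/-- **the spread lemma** -/
theorem spread [Finite V]
    (hreg : ∀ v w : V, v ≠ 0 → w ≠ 0 → ∃! h : H, (h : V ≃ₗ[ZMod p] V) v = w)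
    {X : Subgroup H} (hXn : X.Normal)
    {U : Submodule (ZMod p) V} (hU0 : U ≠ ⊥) (hUinv : Inv H X U)
    (hUmin : ∀ W' : Submodule (ZMod p) V, W' ≤ U → Inv H X W' → W' = ⊥ ∨ W' = U) :
    ∃ Φ : ℕ, Φ * (Nat.card U - 1) = Nat.card V - 1 ∧ Φ ∣ X.index := by
  have := finite_linearEquiv (p := p) (V := V)
  obtain ⟨u₀, hu₀, hu₀0⟩ := Submodule.exists_mem_ne_zero_of_ne_bot hU0
  have hVnt : Nontrivial V := ⟨⟨u₀, 0, hu₀0⟩⟩
  have e : Option ↥(stab H U) ≃ ↥U := by
    refine Equiv.ofBijective (fun o => o.elim 0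
      (fun h => ⟨((h : H) : V ≃ₗ[ZMod p] V) u₀, (h.2 u₀).1 hu₀⟩)) ⟨?_, ?_⟩
    · intro a b hab
      rcases a with _ | a <;> rcases b with _ | b
      · rfl
      · exfalso
        simp only [Option.elim] at hab
        have h1 : ((b : H) : V ≃ₗ[ZMod p] V) u₀ = 0 := (congrArg Subtype.val hab).symm
        apply hu₀0
        have := coe_inv_apply_apply (b : H) u₀
        rw [h1, map_zero] at this
        exact this.symm
      · exfalso
        simp only [Option.elim] at hab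
        have h1 : ((a : H) : V ≃ₗ[ZMod p] V) u₀ = 0 := congrArg Subtype.val hab
        apply hu₀0
        have := coe_inv_apply_apply (a : H) u₀
        rw [h1, map_zero] at this
        exact this.symm
      · simp only [Option.elim] at hab
        have h1 : ((a : H) : V ≃ₗ[ZMod p] V) u₀ = ((b : H) : V ≃ₗ[ZMod p] V) u₀ :=
          congrArg Subtype.val hab
        have := eq_of_apply_eq hreg hu₀0 h1
        rw [Subtype.ext this]
    · intro w
      by_cases hw : (w : V) = 0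
      · exact ⟨none, Subtype.ext hw.symm⟩
      · obtain ⟨h₀, hh₀, -⟩ := hreg u₀ w hu₀0 hw
        have hmem : h₀ ∈ stab H U :=
          mem_stab_of_apply_mem H hXn hUinv hUmin hu₀ hu₀0 h₀ (by rw [hh₀]; exact w.2)
        exact ⟨some ⟨h₀, hmem⟩, Subtype.ext hh₀⟩
  have h1 : Nat.card ↥(stab H U) + 1 = Nat.card ↥U := by
    rw [← Nat.card_congr e, Finite.card_option]
  have h2 : Nat.card ↥H + 1 = Nat.card V := card_add_one H hreg
  have h3 := (stab H U).card_mul_index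
  refine ⟨(stab H U).index, ?_, Subgroup.index_dvd_of_le (le_stab H hUinv)⟩
  rw [← h1, ← h2, Nat.add_sub_cancel, Nat.add_sub_cancel, mul_comm, h3]

/-- an involution acts as `-1` -/
theorem invol_apply [Finite V]
    (hreg : ∀ v w : V, v ≠ 0 → w ≠ 0 → ∃! h : H, (h : V ≃ₗ[ZMod p] V) v = w)
    {z : H} (hz1 : z ≠ 1) (hz2 : z * z = 1) (v : V) : (z : V ≃ₗ[ZMod p] V) v = -v := by
  have h1 : (z : V ≃ₗ[ZMod p] V) ((z : V ≃ₗ[ZMod p] V) v + v) = (z : V ≃ₗ[ZMod p] V) v + v := by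
    rw [map_add, ← coe_mul_apply, hz2, coe_one_apply, add_comm]
  have h2 := actH_fpf H hreg z hz1 _ h1
  exact eq_neg_of_add_eq_zero_left h2

/-- existence of an involution forces `p` odd -/
theorem two_ne_zero_of_invol [Finite V] [Nontrivial V]
    (hreg : ∀ v w : V, v ≠ 0 → w ≠ 0 → ∃! h : H, (h : V ≃ₗ[ZMod p] V) v = w)
    {z : H} (hz1 : z ≠ 1) (hz2 : z * z = 1) : (2 : ZMod p) ≠ 0 := by
  intro h2
  obtain ⟨v₀, hv₀⟩ := exists_ne (0 : V)
  have h1 := invol_apply H hreg hz1 hz2 v₀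
  have h3 : (z : V ≃ₗ[ZMod p] V) v₀ = v₀ := by
    rw [h1]
    have : (2 : ZMod p) • v₀ = 0 := by rw [h2, zero_smul]
    rw [two_smul] at this
    exact (eq_neg_of_add_eq_zero_left this).symm
  exact hv₀ (actH_fpf H hreg z hz1 v₀ h3)

/-- a subgroup centralising a quaternion pair is reducible -/
theorem exists_inv_of_quat [Finite V] [Nontrivial V]
    (hreg : ∀ v w : V, v ≠ 0 → w ≠ 0 → ∃! h : H, (h : V ≃ₗ[ZMod p] V) v = w)
    (X : Subgroup H) {t s : H} (hq : QPair t s)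
    (hX : ∀ x ∈ X, x * t = t * x ∧ x * s = s * x) :
    ∃ W : Submodule (ZMod p) V, W ≠ ⊥ ∧ W ≠ ⊤ ∧ Inv H X W := by
  have hz1 : t * t ≠ 1 := by rw [← pow_two]; exact hq.t2
  have hz2 : (t * t) * (t * t) = 1 := by
    have := hq.t4
    rw [← this]; simp only [pow_succ, pow_zero, one_mul, mul_one, mul_assoc, inv_mul_cancel_left, mul_inv_cancel_left, mul_inv_rev, inv_inv, mul_inv_cancel, inv_mul_cancel]
  have h2 : (2 : ZMod p) ≠ 0 := two_ne_zero_of_invol H hreg hz1 hz2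
  have hA1 : ∀ v : V, (t : V ≃ₗ[ZMod p] V) ((t : V ≃ₗ[ZMod p] V) v) = -v := by
    intro v
    rw [← coe_mul_apply]; exact invol_apply H hreg hz1 hz2 v
  have hss : s * s = t * t := by
    have := hq.s2
    rw [pow_two, pow_two] at this
    exact this
  have hA2 : ∀ v : V, (s : V ≃ₗ[ZMod p] V) ((s : V ≃ₗ[ZMod p] V) v) = -v := by
    intro v
    rw [← coe_mul_apply, hss]; exact invol_apply H hreg hz1 hz2 v
  have hA3 : ∀ v : V, (s : V ≃ₗ[ZMod p] V) ((t : V ≃ₗ[ZMod p] V) v) =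
      -((t : V ≃ₗ[ZMod p] V) ((s : V ≃ₗ[ZMod p] V) v)) := by
    intro v
    -- `t s t = s`
    have h1 : (t : V ≃ₗ[ZMod p] V) ((s : V ≃ₗ[ZMod p] V) ((t : V ≃ₗ[ZMod p] V) v)) =
        (s : V ≃ₗ[ZMod p] V) v := by
      rw [← coe_mul_apply, ← coe_mul_apply, hq.tst]
    have h3 : (t : V ≃ₗ[ZMod p] V) ((t : V ≃ₗ[ZMod p] V) ((s : V ≃ₗ[ZMod p] V)
        ((t : V ≃ₗ[ZMod p] V) v))) = (t : V ≃ₗ[ZMod p] V) ((s : V ≃ₗ[ZMod p] V) v) :=
      congrArg (fun w => (t : V ≃ₗ[ZMod p] V) w) h1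
    rw [hA1] at h3
    exact neg_eq_iff_eq_neg.1 h3
  obtain ⟨x, y, hxy⟩ := ZMod.sq_add_sq p (-1)
  -- non-vanishing
  have hnv : ∀ a b : ZMod p, ∃ v : V,
      v + a • (t : V ≃ₗ[ZMod p] V) v + b • (s : V ≃ₗ[ZMod p] V) v ≠ 0 := by
    intro a b
    by_contra hall
    push Not at hall
    obtain ⟨v₀, hv₀⟩ := exists_ne (0 : V)
    have hw : (t : V ≃ₗ[ZMod p] V) ((s : V ≃ₗ[ZMod p] V) v₀) ≠ 0 := by
      intro h0
      have h1 := (t : V ≃ₗ[ZMod p] V).injective (h0.trans (map_zero _).symm)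
      have h3 := (s : V ≃ₗ[ZMod p] V).injective (h1.trans (map_zero _).symm)
      exact hv₀ h3
    have e0 := hall v₀
    have e1 := hall ((t : V ≃ₗ[ZMod p] V) v₀)
    have e2 := congrArg (fun w => (t : V ≃ₗ[ZMod p] V) w) e0
    simp only [map_add, map_smul, map_zero] at e2
    rw [hA1, hA3] at e1
    rw [hA1] at e2
    have e3 : ((-2 : ZMod p) * b) • (t : V ≃ₗ[ZMod p] V) ((s : V ≃ₗ[ZMod p] V) v₀) = 0 := by
      have := congrArg₂ (fun u w : V => u - w) e1 e2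
      simp only [sub_zero] at this
      rw [← this]
      module
    have hb : b = 0 := by
      rcases smul_eq_zero.1 e3 with h5 | h5
      · rcases mul_eq_zero.1 h5 with h6 | h6
        · exfalso; exact h2 (neg_eq_zero.1 h6)
        · exact h6
      · exact absurd h5 hw
    have e4 := hall ((s : V ≃ₗ[ZMod p] V) v₀)
    have e5 := congrArg (fun w => (s : V ≃ₗ[ZMod p] V) w) e0
    simp only [map_add, map_smul, map_zero] at e5
    rw [hA2] at e4
    rw [hA2, hA3] at e5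
    have e6 : ((2 : ZMod p) * a) • (t : V ≃ₗ[ZMod p] V) ((s : V ≃ₗ[ZMod p] V) v₀) = 0 := by
      have := congrArg₂ (fun u w : V => u - w) e4 e5
      simp only [sub_zero] at this
      rw [← this]
      module
    have ha : a = 0 := by
      rcases smul_eq_zero.1 e6 with h5 | h5
      · rcases mul_eq_zero.1 h5 with h6 | h6
        · exfalso; exact h2 h6
        · exact h6
      · exact absurd h5 hw
    rw [ha, hb, zero_smul, zero_smul, add_zero, add_zero] at e0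
    exact hv₀ e0
  -- the operator `T`
  let T : V →ₗ[ZMod p] V := LinearMap.id + x • ((t : V ≃ₗ[ZMod p] V) : V →ₗ[ZMod p] V) +
    y • ((s : V ≃ₗ[ZMod p] V) : V →ₗ[ZMod p] V)
  have hT : ∀ v, T v = v + x • (t : V ≃ₗ[ZMod p] V) v + y • (s : V ≃ₗ[ZMod p] V) v := by
    intro v; rfl
  refine ⟨LinearMap.ker T, ?_, ?_, ?_⟩
  · obtain ⟨v, hv⟩ := hnv (-x) (-y)
    intro h0
    apply hv
    have hmem : v + (-x) • (t : V ≃ₗ[ZMod p] V) v + (-y) • (s : V ≃ₗ[ZMod p] V) v ∈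
        LinearMap.ker T := by
      rw [LinearMap.mem_ker, hT]
      simp only [map_add, map_smul, hA1, hA2, hA3]
      have hxy' : x ^ 2 + y ^ 2 + 1 = 0 := by rw [hxy]; ring
      calc _ = (x ^ 2 + y ^ 2 + 1) • v := by module
        _ = 0 := by rw [hxy', zero_smul]
    rw [h0, Submodule.mem_bot] at hmem
    exact hmem
  · obtain ⟨v, hv⟩ := hnv x y
    intro h0
    apply hv
    have hmem : v ∈ LinearMap.ker T := by rw [h0]; exact Submodule.mem_top
    rw [LinearMap.mem_ker, hT] at hmem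
    exact hmem
  · intro c hc v hv
    rw [LinearMap.mem_ker, hT] at hv ⊢
    obtain ⟨hct, hcs⟩ := hX c hc
    have h1 : (t : V ≃ₗ[ZMod p] V) ((c : V ≃ₗ[ZMod p] V) v) =
        (c : V ≃ₗ[ZMod p] V) ((t : V ≃ₗ[ZMod p] V) v) := by
      rw [← coe_mul_apply, ← coe_mul_apply, hct]
    have h3 : (s : V ≃ₗ[ZMod p] V) ((c : V ≃ₗ[ZMod p] V) v) =
        (c : V ≃ₗ[ZMod p] V) ((s : V ≃ₗ[ZMod p] V) v) := by
      rw [← coe_mul_apply, ← coe_mul_apply, hcs]
    rw [h1, h3]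
    calc (c : V ≃ₗ[ZMod p] V) v + x • (c : V ≃ₗ[ZMod p] V) ((t : V ≃ₗ[ZMod p] V) v) +
          y • (c : V ≃ₗ[ZMod p] V) ((s : V ≃ₗ[ZMod p] V) v)
        = (c : V ≃ₗ[ZMod p] V) (v + x • (t : V ≃ₗ[ZMod p] V) v +
            y • (s : V ≃ₗ[ZMod p] V) v) := by
          rw [map_add, map_add, map_smul, map_smul]
      _ = 0 := by rw [hv, map_zero]

/-- minimal invariant subspaces exist -/
theorem exists_minimal_inv [Finite V] (X : Subgroup H) :
    ∀ (n : ℕ) (W : Submodule (ZMod p) V), finrank (ZMod p) ↥W = n → W ≠ ⊥ → Inv H X W →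
      ∃ U : Submodule (ZMod p) V, U ≤ W ∧ U ≠ ⊥ ∧ Inv H X U ∧
        ∀ W' : Submodule (ZMod p) V, W' ≤ U → Inv H X W' → W' = ⊥ ∨ W' = U := by
  intro n
  induction n using Nat.strong_induction_on with
  | _ n ih =>
    intro W hn hW0 hinv
    by_cases hmin : ∀ W' : Submodule (ZMod p) V, W' ≤ W → Inv H X W' → W' = ⊥ ∨ W' = W
    · exact ⟨W, le_refl _, hW0, hinv, hmin⟩
    · push Not at hmin
      obtain ⟨W', hle, hinv', hne0, hneW⟩ := hmin
      have hlt : W' < W := lt_of_le_of_ne hle hneW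
      have hfr : finrank (ZMod p) ↥W' < n := by
        rw [← hn]; exact Submodule.finrank_lt_finrank_of_lt hlt
      obtain ⟨U, hUle, hU0, hUinv, hUmin⟩ := ih _ hfr W' rfl hne0 hinv'
      exact ⟨U, hUle.trans hle, hU0, hUinv, hUmin⟩

/-- a group with an invariant line is commutative -/
theorem comm_of_inv_line
    (hreg : ∀ v w : V, v ≠ 0 → w ≠ 0 → ∃! h : H, (h : V ≃ₗ[ZMod p] V) v = w)
    (X : Subgroup H) (U : Submodule (ZMod p) V) (hU1 : finrank (ZMod p) ↥U = 1)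
    (hinv : Inv H X U) : ∀ a ∈ X, ∀ b ∈ X, a * b = b * a := by
  have hU0 : U ≠ ⊥ := by
    intro h0
    rw [h0, finrank_bot] at hU1
    exact zero_ne_one hU1
  obtain ⟨u₀, hu₀, hu₀0⟩ := Submodule.exists_mem_ne_zero_of_ne_bot hU0
  have hspan : ∀ w : ↥U, ∃ c : ZMod p, c • (⟨u₀, hu₀⟩ : ↥U) = w :=
    (finrank_eq_one_iff_of_nonzero' (⟨u₀, hu₀⟩ : ↥U)
      (fun h0 => hu₀0 (congrArg Subtype.val h0))).1 hU1
  have hscal : ∀ a ∈ X, ∃ c : ZMod p, (a : V ≃ₗ[ZMod p] V) u₀ = c • u₀ := by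
    intro a ha
    obtain ⟨c, hc⟩ := hspan ⟨_, hinv a ha u₀ hu₀⟩
    exact ⟨c, (congrArg Subtype.val hc).symm⟩
  intro a ha b hb
  obtain ⟨ca, hca⟩ := hscal a ha
  obtain ⟨cb, hcb⟩ := hscal b hb
  apply eq_of_apply_eq hreg hu₀0
  rw [coe_mul_apply, coe_mul_apply, hca, hcb, map_smul, map_smul, hca, hcb, smul_smul, smul_smul,
    mul_comm]

theorem card_eq_pow [Finite V] (U : Submodule (ZMod p) V) :
    Nat.card ↥U = p ^ finrank (ZMod p) ↥U := by
  rw [Module.natCard_eq_pow_finrank (K := ZMod p), Nat.card_zmod]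

theorem card_eq_pow_top [Finite V] : Nat.card V = p ^ finrank (ZMod p) V := by
  rw [Module.natCard_eq_pow_finrank (K := ZMod p) (V := V), Nat.card_zmod]

/-- **the count** -/
theorem count [Finite V] [Nontrivial V]
    (hreg : ∀ v w : V, v ≠ 0 → w ≠ 0 → ∃! h : H, (h : V ≃ₗ[ZMod p] V) v = w)
    {X : Subgroup H} (hXn : X.Normal) {t s : H} (hq : QPair t s)
    (hX : ∀ x ∈ X, x * t = t * x ∧ x * s = s * x) {B : ℕ} (hB : B = 24 ∨ B = 120)
    (hidx : X.index ∣ B) :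
    (finrank (ZMod p) V = 2 ∧ (p + 1) ∣ B ∧ p ≠ 2 ∧
      ∃ U : Submodule (ZMod p) V, finrank (ZMod p) ↥U = 1 ∧ Inv H X U) ∨
    (B = 120 ∧ p = 3 ∧ finrank (ZMod p) V = 4) := by
  have hp : p.Prime := Fact.out
  obtain ⟨W, hW0, hWtop, hWinv⟩ := exists_inv_of_quat H hreg X hq hX
  obtain ⟨U, hUW, hU0, hUinv, hUmin⟩ := exists_minimal_inv H X _ W rfl hW0 hWinv
  obtain ⟨Φ, hΦ, hΦX⟩ := spread H hreg hXn hU0 hUinv hUmin
  rw [card_eq_pow U, card_eq_pow_top (p := p) (V := V)] at hΦ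
  have hz1 : t * t ≠ 1 := by rw [← pow_two]; exact hq.t2
  have hz2 : (t * t) * (t * t) = 1 := by
    have := hq.t4
    rw [← this]; simp only [pow_succ, pow_zero, one_mul, mul_one, mul_assoc, inv_mul_cancel_left, mul_inv_cancel_left, mul_inv_rev, inv_inv, mul_inv_cancel, inv_mul_cancel]
  have h2 : (2 : ZMod p) ≠ 0 := two_ne_zero_of_invol H hreg hz1 hz2
  have hp2 : p ≠ 2 := by
    intro h
    apply h2
    have : ((2 : ℕ) : ZMod p) = 0 := by rw [← h]; exact ZMod.natCast_self p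
    exact_mod_cast this
  have hu : 0 < finrank (ZMod p) ↥U := by
    rw [Nat.pos_iff_ne_zero]
    intro h0
    exact hU0 (Submodule.finrank_eq_zero.1 h0)
  have hUtop : U ≠ ⊤ := by
    intro h0
    apply hWtop
    rw [eq_top_iff, ← h0]; exact hUW
  have hun : finrank (ZMod p) ↥U < finrank (ZMod p) V := by
    have := Submodule.finrank_lt_finrank_of_lt (lt_top_iff_ne_top.2 hUtop)
    rwa [finrank_top] at this
  rcases nt hp hp2 hu hun hB hΦ (hΦX.trans hidx) with ⟨h1, h3, h4⟩ | ⟨h1, h3, h4⟩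
  · left
    exact ⟨h3, h4, hp2, U, h1, hUinv⟩
  · right
    exact ⟨h1, h3, h4⟩

/-- the group-theoretic data for `N`, transported from the linearisation -/
theorem normal_data' [Finite V] [Nontrivial V]
    (hreg : ∀ v w : V, v ≠ 0 → w ≠ 0 → ∃! h : H, (h : V ≃ₗ[ZMod p] V) v = w)
    (A : Subgroup H) (hAn : A.Normal) (hAc : IsMulCommutative A)
    (hAmax : ∀ B : Subgroup H, B.Normal → IsMulCommutative B → A ≤ B → B = A) (N : Subgroup H)
    (hNn : N.Normal) (hNle : N ≤ Subgroup.centralizer (A : Set H)) (hNna : ¬ IsMulCommutative N)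
    (hNmin : ∀ M : Subgroup H, M.Normal → M ≤ N → ¬ IsMulCommutative M → M = N) :
    ∃ t s : H, t ∈ N ∧ s ∈ N ∧ QPair t s ∧
      ((Nonempty (N ≃* QuaternionGroup 2) ∧ (Subgroup.centralizer (N : Set H)).index ∣ 24) ∨
        (⁅N, N⁆ = N ∧ 120 ∣ Nat.card H ∧ (Subgroup.centralizer (N : Set H)).index ∣ 120)) := by
  have := finite_linearEquiv (p := p) (V := V)
  exact Cfsg.Agent.Lib.Helper12_FpfLinearize.of_linear_aux p (actH H) (actH_fpf H hreg)
    (not_dvd_card H hreg) _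
    (fun F _ _ W _ _ _ _ ρ hρ hc => normal_data hρ hc A hAn hAc hAmax N hNn hNle hNna hNmin)

/-- in the situation of `normal_data'`, `V` is a plane and the centraliser of `N` has an invariant
line -/
theorem plane_of_normal [Finite V] [Nontrivial V]
    (hreg : ∀ v w : V, v ≠ 0 → w ≠ 0 → ∃! h : H, (h : V ≃ₗ[ZMod p] V) v = w)
    (A : Subgroup H) (hAn : A.Normal) (hAc : IsMulCommutative A)
    (hAmax : ∀ B : Subgroup H, B.Normal → IsMulCommutative B → A ≤ B → B = A) (N : Subgroup H)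
    (hNn : N.Normal) (hNle : N ≤ Subgroup.centralizer (A : Set H)) (hNna : ¬ IsMulCommutative N)
    (hNmin : ∀ M : Subgroup H, M.Normal → M ≤ N → ¬ IsMulCommutative M → M = N) :
    finrank (ZMod p) V = 2 ∧ p ≠ 2 ∧
      (∃ U : Submodule (ZMod p) V, finrank (ZMod p) ↥U = 1 ∧
        Inv H (Subgroup.centralizer (N : Set H)) U) ∧
      ((Nonempty (N ≃* QuaternionGroup 2) ∧ (p + 1) ∣ 24) ∨
        (⁅N, N⁆ = N ∧ 120 ∣ Nat.card H ∧ (p + 1) ∣ 120)) := by
  have := finite_linearEquiv (p := p) (V := V)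
  obtain ⟨t, s, ht, hs, hq, hcases⟩ :=
    normal_data' H hreg A hAn hAc hAmax N hNn hNle hNna hNmin
  have hDn : (Subgroup.centralizer (N : Set H)).Normal := by
    have := hNn
    infer_instance
  have hX : ∀ x ∈ Subgroup.centralizer (N : Set H), x * t = t * x ∧ x * s = s * x := by
    intro x hx
    rw [Subgroup.mem_centralizer_iff] at hx
    exact ⟨(hx t ht).symm, (hx s hs).symm⟩
  rcases hcases with ⟨he, hidx⟩ | ⟨hperf, h120, hidx⟩
  · rcases count H hreg hDn hq hX (Or.inl rfl) hidx with ⟨h1, h2, h3, hU⟩ | ⟨h1, -, -⟩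
    · exact ⟨h1, h3, hU, Or.inl ⟨he, h2⟩⟩
    · exact absurd h1 (by norm_num)
  · rcases count H hreg hDn hq hX (Or.inr rfl) hidx with ⟨h1, h2, h3, hU⟩ | ⟨-, h1, h2⟩
    · exact ⟨h1, h3, hU, Or.inr ⟨hperf, h120, h2⟩⟩
    · exfalso
      have hc := card_add_one H hreg
      rw [card_eq_pow_top (p := p) (V := V), h2] at hc
      have hp4 : p ^ 4 = 81 := by rw [h1]; norm_num
      rw [hp4] at hc
      have : Nat.card ↥H = 80 := by omega
      rw [this] at h120
      omega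

/-- **S0687** -/
theorem irreducible_and_centralizer [Finite V]
    (hreg : ∀ v w : V, v ≠ 0 → w ≠ 0 → ∃! h : H, (h : V ≃ₗ[ZMod p] V) v = w)
    (A : Subgroup H) (hAn : A.Normal) (hAc : IsMulCommutative A)
    (hAmax : ∀ B : Subgroup H, B.Normal → IsMulCommutative B → A ≤ B → B = A) (N : Subgroup H)
    (hNn : N.Normal) (hNle : N ≤ Subgroup.centralizer (A : Set H)) (hNna : ¬ IsMulCommutative N)
    (hNmin : ∀ M : Subgroup H, M.Normal → M ≤ N → ¬ IsMulCommutative M → M = N) :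
    (∀ W : Submodule (ZMod p) V,
      (∀ n ∈ N, ∀ v ∈ W, ((n : H) : V ≃ₗ[ZMod p] V) v ∈ W) → W = ⊥ ∨ W = ⊤) ∧
      Subgroup.centralizer (N : Set H) = A := by
  have := finite_linearEquiv (p := p) (V := V)
  rcases subsingleton_or_nontrivial V with hV | hV
  · exfalso
    apply hNna
    refine ⟨⟨fun a b => ?_⟩⟩
    apply Subtype.ext
    apply Subtype.ext
    ext v
    exact Subsingleton.elim _ _
  obtain ⟨h2, -, ⟨U, hU1, hUinv⟩, -⟩ :=
    plane_of_normal H hreg A hAn hAc hAmax N hNn hNle hNna hNmin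
  constructor
  · intro W hW
    by_contra hcon
    push Not at hcon
    obtain ⟨hW0, hWtop⟩ := hcon
    have h1 : 0 < finrank (ZMod p) ↥W := by
      rw [Nat.pos_iff_ne_zero]
      intro h0
      exact hW0 (Submodule.finrank_eq_zero.1 h0)
    have h3 : finrank (ZMod p) ↥W < 2 := by
      have := Submodule.finrank_lt_finrank_of_lt (lt_top_iff_ne_top.2 hWtop)
      rwa [finrank_top, h2] at this
    have h4 : finrank (ZMod p) ↥W = 1 := by omega
    have hcomm := comm_of_inv_line H hreg N W h4 hW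
    apply hNna
    refine ⟨⟨fun a b => ?_⟩⟩
    exact Subtype.ext (hcomm a a.2 b b.2)
  · have hDn : (Subgroup.centralizer (N : Set H)).Normal := by
      have := hNn
      infer_instance
    have hcomm := comm_of_inv_line H hreg _ U hU1 hUinv
    have hDc : IsMulCommutative ↥(Subgroup.centralizer (N : Set H)) :=
      ⟨⟨fun a b => Subtype.ext (hcomm a a.2 b b.2)⟩⟩
    apply hAmax _ hDn hDc
    intro a ha
    rw [Subgroup.mem_centralizer_iff]
    intro n hn
    exact (Subgroup.mem_centralizer_iff.1 (hNle hn) a ha).symm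

end concrete

end Cfsg.Agent.Lib.Helper12_ExcSpread
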