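import Mathlib

set_option autoImplicit false

namespace Cfsg.Agent.Lib.Helper99_AbelianIrr

/-- a finite group embedded in the multiplicative monoid of a finite commutative domain is cyclic
of order dividing `|R| - 1` -/
lemma cyclic_and_card {R G : Type*} [CommRing R] [IsDomain R] [Finite R] [Group G] [Finite G]
    (f : G →* R) (hf : Function.Injective f) : IsCyclic G ∧ Nat.card G ∣ Nat.card R - 1 := by
  classical
  refine ⟨isCyclic_of_injective_ringHom f hf, ?_⟩
  have : Fintype R := Fintype.ofFinite R
  letI : Field R := Fintype.fieldOfDomain R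
  have hinj : Function.Injective f.toHomUnits := by
    intro a b hab
    apply hf
    have := congrArg Units.val hab
    simpa using this
  have := Subgroup.card_dvd_of_injective f.toHomUnits hinj
  rwa [Nat.card_units] at this

variable {F V G : Type*} [Field F] [AddCommGroup V] [Module F V] [Group G]

/-- the restriction of a representation to an invariant subspace -/
def restrictHom (ρ : G →* Module.End F V) (W : Submodule F V)
    (hW : ∀ g, ∀ w ∈ W, ρ g w ∈ W) : G →* Module.End F W where
  toFun g := (ρ g).restrict (hW g)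
  map_one' := by
    ext w
    simp
  map_mul' g h := by
    ext w
    simp

lemma restrictHom_apply (ρ : G →* Module.End F V) (W : Submodule F V)
    (hW : ∀ g, ∀ w ∈ W, ρ g w ∈ W) (g : G) (w : W) :
    ((restrictHom ρ W hW g) w : V) = ρ g (w : V) := rfl

/-- a finite abelian group acting on a vector space over a finite field, irreducibly and freely on
an invariant subspace `W`, is cyclic of order dividing `|F|^(dim W) - 1`. -/
theorem cyclic_of_irreducible [Fintype F] [Finite V] [Finite G] (hG : ∀ a b : G, a * b = b * a)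
    (ρ : G →* Module.End F V) (W : Submodule F V) (hW : ∀ g, ∀ w ∈ W, ρ g w ∈ W) (hW0 : W ≠ ⊥)
    (hirr : ∀ W' : Submodule F V, W' ≤ W → (∀ g, ∀ w ∈ W', ρ g w ∈ W') → W' = ⊥ ∨ W' = W)
    (hfree : ∀ g, ∀ w ∈ W, w ≠ 0 → ρ g w = w → g = 1) :
    IsCyclic G ∧ Nat.card G ∣ Fintype.card F ^ Module.finrank F W - 1 := by
  classical
  set ρW := restrictHom ρ W hW with hρW
  set S : Set (Module.End F W) := Set.range ρW with hS
  have hcommS : ∀ x ∈ S, ∀ y ∈ S, x * y = y * x := by
    rintro _ ⟨g, rfl⟩ _ ⟨h, rfl⟩
    rw [← map_mul, ← map_mul, hG]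
  set R := Algebra.adjoin F S with hR
  have hRcomm : ∀ a b : R, a * b = b * a :=
    (Algebra.isMulCommutative_adjoin F hcommS).is_comm.comm
  letI instCR : CommRing R := { (inferInstance : Ring R) with mul_comm := hRcomm }
  have hmemR : ∀ g, ρW g ∈ R := fun g => Algebra.subset_adjoin ⟨g, rfl⟩
  obtain ⟨w₀, hw₀W, hw₀⟩ := (Submodule.ne_bot_iff W).mp hW0
  -- irreducibility on `W` as a type
  have hirrW : ∀ W'' : Submodule F W, (∀ g, ∀ w ∈ W'', ρW g w ∈ W'') → W'' = ⊥ ∨ W'' = ⊤ := by
    intro W'' hinv
    have h := hirr (W''.map W.subtype) (by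
      rintro x ⟨y, _, rfl⟩
      exact y.2) (by
      rintro g _ ⟨y, hy, rfl⟩
      exact ⟨ρW g y, hinv g y hy, rfl⟩)
    rcases h with h | h
    · left
      apply Submodule.map_injective_of_injective W.injective_subtype
      rw [h, Submodule.map_bot]
    · right
      apply Submodule.map_injective_of_injective W.injective_subtype
      rw [h, Submodule.map_subtype_top]
  -- non-zero elements of `R` are injective
  have hker : ∀ r : R, r ≠ 0 → LinearMap.ker (r : Module.End F W) = ⊥ := by
    intro r hr
    have hinv : ∀ g, ∀ w ∈ LinearMap.ker (r : Module.End F W),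
        ρW g w ∈ LinearMap.ker (r : Module.End F W) := by
      intro g w hw
      rw [LinearMap.mem_ker] at hw ⊢
      have hc : (r : Module.End F W) * ρW g = ρW g * (r : Module.End F W) :=
        congrArg Subtype.val (hRcomm r ⟨ρW g, hmemR g⟩)
      have := LinearMap.congr_fun hc w
      rw [Module.End.mul_apply, Module.End.mul_apply, hw, map_zero] at this
      exact this
    rcases hirrW _ hinv with h | h
    · exact h
    · exfalso
      apply hr
      apply Subtype.ext
      exact LinearMap.ker_eq_top.mp h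
  have hnt : Nontrivial R := by
    refine ⟨⟨0, 1, ?_⟩⟩
    intro h
    have h1 : (0 : Module.End F W) = 1 := congrArg Subtype.val h
    have := LinearMap.congr_fun h1 ⟨w₀, hw₀W⟩
    simp only [LinearMap.zero_apply, Module.End.one_apply] at this
    exact hw₀ (congrArg Subtype.val this).symm
  have hnzd : NoZeroDivisors R := by
    refine ⟨fun {a b} hab => ?_⟩
    by_cases ha : a = 0
    · exact Or.inl ha
    · right
      apply Subtype.ext
      apply LinearMap.ext
      intro w
      have h1 : ((a : Module.End F W) * (b : Module.End F W)) w = 0 := by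
        have h2 : (a : Module.End F W) * (b : Module.End F W) = 0 := congrArg Subtype.val hab
        rw [h2, LinearMap.zero_apply]
      rw [Module.End.mul_apply] at h1
      have h3 : (b : Module.End F W) w ∈ LinearMap.ker (a : Module.End F W) := h1
      rw [hker a ha] at h3
      exact h3
  have hdom : IsDomain R := NoZeroDivisors.to_isDomain R
  have hfinE : Finite (Module.End F W) := DFunLike.finite _
  have hfinR : Finite R := Subtype.finite
  -- the embedding of `G`
  let f : G →* R :=
    { toFun := fun g => ⟨ρW g, hmemR g⟩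
      map_one' := Subtype.ext (map_one ρW)
      map_mul' := fun g h => Subtype.ext (map_mul ρW g h) }
  have hf : Function.Injective f := by
    intro g h hgh
    have h1 : ρW g = ρW h := congrArg Subtype.val hgh
    have h2 : ρW (h⁻¹ * g) = 1 := by
      rw [map_mul, h1, ← map_mul, inv_mul_cancel, map_one]
    have h3 : ρ (h⁻¹ * g) w₀ = w₀ := by
      have := LinearMap.congr_fun h2 ⟨w₀, hw₀W⟩
      exact congrArg Subtype.val this
    have h4 := hfree _ w₀ hw₀W hw₀ h3
    exact (inv_mul_eq_one.mp h4).symm
  obtain ⟨hcyc, hcard⟩ := cyclic_and_card f hf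
  refine ⟨hcyc, ?_⟩
  -- evaluation at `w₀`
  let ev : R →ₗ[F] W :=
    { toFun := fun r => (r : Module.End F W) ⟨w₀, hw₀W⟩
      map_add' := fun a b => rfl
      map_smul' := fun k a => rfl }
  have hevinj : Function.Injective ev := by
    rw [← LinearMap.ker_eq_bot, LinearMap.ker_eq_bot']
    intro r hr
    by_contra hr0
    have h1 : (⟨w₀, hw₀W⟩ : W) ∈ LinearMap.ker (r : Module.End F W) := hr
    rw [hker r hr0] at h1
    exact hw₀ (congrArg Subtype.val h1)
  have hevsurj : Function.Surjective ev := by
    rw [← LinearMap.range_eq_top]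
    rcases hirrW (LinearMap.range ev) (by
      rintro g _ ⟨r, rfl⟩
      exact ⟨⟨ρW g, hmemR g⟩ * r, rfl⟩) with h | h
    · exfalso
      have h1 : (⟨w₀, hw₀W⟩ : W) ∈ LinearMap.range ev := ⟨1, rfl⟩
      rw [h] at h1
      exact hw₀ (congrArg Subtype.val h1)
    · exact h
  have hcardR : Nat.card R = Fintype.card F ^ Module.finrank F W := by
    rw [Nat.card_congr (LinearEquiv.ofBijective ev ⟨hevinj, hevsurj⟩).toEquiv,
      Module.natCard_eq_pow_finrank (K := F) (V := W), Nat.card_eq_fintype_card]
  rwa [hcardR] at hcard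

/-- below any non-zero invariant subspace there is a minimal non-zero invariant subspace -/
theorem exists_minimal_invariant [FiniteDimensional F V] (ρ : G →* Module.End F V) :
    ∀ (n : ℕ) (W₀ : Submodule F V), Module.finrank F W₀ = n → W₀ ≠ ⊥ →
      (∀ g, ∀ w ∈ W₀, ρ g w ∈ W₀) →
      ∃ W : Submodule F V, W ≤ W₀ ∧ W ≠ ⊥ ∧ (∀ g, ∀ w ∈ W, ρ g w ∈ W) ∧
        ∀ W' : Submodule F V, W' ≤ W → (∀ g, ∀ w ∈ W', ρ g w ∈ W') → W' = ⊥ ∨ W' = W := by
  intro n
  induction n using Nat.strong_induction_on with
  | _ n ih =>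
  intro W₀ hn hW₀ hinv
  by_cases hmin : ∀ W' : Submodule F V, W' ≤ W₀ → (∀ g, ∀ w ∈ W', ρ g w ∈ W') → W' = ⊥ ∨ W' = W₀
  · exact ⟨W₀, le_refl _, hW₀, hinv, hmin⟩
  · rw [not_forall] at hmin
    obtain ⟨W', hmin⟩ := hmin
    rw [Classical.not_imp] at hmin
    obtain ⟨hle, hmin⟩ := hmin
    rw [Classical.not_imp] at hmin
    obtain ⟨hinv', hmin⟩ := hmin
    rw [not_or] at hmin
    have hlt : W' < W₀ := lt_of_le_of_ne hle hmin.2
    obtain ⟨W, hWle, hW0, hWinv, hWmin⟩ := ih _ (by
      rw [← hn]; exact Submodule.finrank_lt_finrank_of_lt hlt) W' rfl hmin.1 hinv'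
    exact ⟨W, hWle.trans hle, hW0, hWinv, hWmin⟩

end Cfsg.Agent.Lib.Helper99_AbelianIrr
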