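import Mathlib
import Cfsg.Agent.Lib.Helper12_ExcSpread
import Cfsg.Agent.S0685

/-!
# Degrees of the soluble exceptional sharply doubly transitive groups (helper12)
-/

set_option autoImplicit false
set_option linter.unusedSimpArgs false
set_option linter.unusedSectionVars false

namespace Cfsg.Agent.Lib.Helper12_ExcDeg

open Module Cfsg.Agent.Lib.Helper12_FpfQuat Cfsg.Agent.Lib.Helper12_ExcNF
  Cfsg.Agent.Lib.Helper12_ExcCount Cfsg.Agent.Lib.Helper12_ExcSpread
  Cfsg.Agent.Lib.Helper12_PerfectTools Cfsg.Agent.Lib.Helper12_FpfNonsolv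

universe u

section concrete

variable {p : ℕ} [Fact p.Prime] {V : Type u} [AddCommGroup V] [Module (ZMod p) V]
variable (H : Subgroup (V ≃ₗ[ZMod p] V))

/-- existence of a maximal normal abelian subgroup -/
theorem exists_max_normal_abelian {G : Type*} [Group G] [Finite G] :
    ∃ A : Subgroup G, A.Normal ∧ IsMulCommutative A ∧
      ∀ B : Subgroup G, B.Normal → IsMulCommutative B → A ≤ B → B = A := by
  have h0 : (fun B : Subgroup G => B.Normal ∧ IsMulCommutative B) ⊥ := by
    refine ⟨inferInstance, ⟨⟨fun a b => ?_⟩⟩⟩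
    exact Subsingleton.elim _ _
  obtain ⟨A, -, hA⟩ := Finite.exists_le_maximal
    (p := fun B : Subgroup G => B.Normal ∧ IsMulCommutative B) (a := ⊥) h0
  refine ⟨A, hA.prop.1, hA.prop.2, fun B hBn hBc hAB => ?_⟩
  exact le_antisymm (hA.le_of_ge ⟨hBn, hBc⟩ hAB) hAB

/-- existence of a minimal non-abelian normal subgroup inside a non-abelian normal subgroup -/
theorem exists_min_nonabelian {G : Type*} [Group G] [Finite G] (C : Subgroup G) (hCn : C.Normal)
    (hC : ¬ IsMulCommutative C) :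
    ∃ N : Subgroup G, N.Normal ∧ N ≤ C ∧ ¬ IsMulCommutative N ∧
      ∀ M : Subgroup G, M.Normal → M ≤ N → ¬ IsMulCommutative M → M = N := by
  have h0 : (fun B : Subgroup G => B.Normal ∧ B ≤ C ∧ ¬ IsMulCommutative B) C :=
    ⟨hCn, le_refl _, hC⟩
  obtain ⟨N, -, hN⟩ := Finite.exists_le_minimal
    (p := fun B : Subgroup G => B.Normal ∧ B ≤ C ∧ ¬ IsMulCommutative B) (a := C) h0
  refine ⟨N, hN.prop.1, hN.prop.2.1, hN.prop.2.2, fun M hMn hMN hMc => ?_⟩
  exact le_antisymm hMN (hN.le_of_le ⟨hMn, hMN.trans hN.prop.2.1, hMc⟩ hMN)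

theorem zmod3_sq : ∀ c : ZMod 3, c ≠ 0 → c * c = 1 := by decide

/-- **S0688** -/
theorem degrees_solvable [Finite V]
    (hreg : ∀ v w : V, v ≠ 0 → w ≠ 0 → ∃! h : H, (h : V ≃ₗ[ZMod p] V) v = w)
    (hI : ∀ A : Subgroup H, A.Normal → IsCyclic A → ∃ W : Submodule (ZMod p) V,
      W ≠ ⊥ ∧ W ≠ ⊤ ∧ ∀ a ∈ A, ∀ v ∈ W, ((a : H) : V ≃ₗ[ZMod p] V) v ∈ W)
    (hsolv : Group.IsSolvable H) :
    Nat.card V = 25 ∨ Nat.card V = 49 ∨ Nat.card V = 121 ∨ Nat.card V = 529 := by
  have hp : p.Prime := Fact.out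
  have := finite_linearEquiv (p := p) (V := V)
  have hVnt : Nontrivial V := by
    obtain ⟨W, hW0, hWtop, -⟩ := hI ⊥ inferInstance inferInstance
    rcases subsingleton_or_nontrivial V with hV | hV
    · exfalso
      apply hW0
      ext v
      simp only [Submodule.mem_bot]
      exact ⟨fun _ => Subsingleton.elim _ _, fun h => h ▸ W.zero_mem⟩
    · exact hV
  obtain ⟨A, hAn, hAc, hAmax⟩ := exists_max_normal_abelian (G := ↥H)
  obtain ⟨-, hCna⟩ := Cfsg.Agent.S0685.result H hreg hI A hAn hAc hAmax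
  have hCn : (Subgroup.centralizer (A : Set H)).Normal := by
    have := hAn
    infer_instance
  obtain ⟨N, hNn, hNle, hNna, hNmin⟩ := exists_min_nonabelian _ hCn hCna
  obtain ⟨h2, hp2, -, hcases⟩ := plane_of_normal H hreg A hAn hAc hAmax N hNn hNle hNna hNmin
  have hcard : Nat.card V = p ^ 2 := by rw [card_eq_pow_top (p := p) (V := V), h2]
  rcases hcases with ⟨⟨e⟩, hdvd⟩ | ⟨hperf, -, -⟩
  · have hle : p + 1 ≤ 24 := Nat.le_of_dvd (by norm_num) hdvd
    have hp23 : p ≤ 23 := by omega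
    have h2le := hp.two_le
    interval_cases p
    all_goals first
      | omega
      | (exfalso; revert hdvd; norm_num; done)
      | (exfalso; revert hp; norm_num; done)
      | (rw [hcard]; norm_num; done)
      | skip
    -- the case `p = 3`
    exfalso
    have hH8 : Nat.card ↥H = 8 := by
      have := card_add_one H hreg
      rw [hcard] at this
      omega
    have hN8 : Nat.card ↥N = 8 := by
      rw [Nat.card_congr e.toEquiv, Nat.card_eq_fintype_card, QuaternionGroup.card]
    have hNtop : N = ⊤ := Subgroup.eq_top_of_card_eq N (by rw [hN8, hH8])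
    obtain ⟨t, s, ht, hs, hq, -⟩ := normal_data' H hreg A hAn hAc hAmax N hNn hNle hNna hNmin
    have ho : orderOf t = 4 := by
      have h1 : orderOf t ∣ 4 := orderOf_dvd_of_pow_eq_one hq.t4
      have h3 : ¬ orderOf t ∣ 2 := fun h => hq.t2 (orderOf_dvd_iff_pow_eq_one.1 h)
      have h4 : orderOf t ≤ 4 := Nat.le_of_dvd (by norm_num) h1
      interval_cases h5 : orderOf t
      · exact absurd h1 (by norm_num)
      · exact absurd h3 (by norm_num)
      · exact absurd h3 (by norm_num)
      · exact absurd h1 (by norm_num)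
      · rfl
    have hidx : (Subgroup.zpowers t).index = 2 := by
      have := (Subgroup.zpowers t).card_mul_index
      rw [Nat.card_zpowers, ho, hH8] at this
      omega
    have hZn : (Subgroup.zpowers t).Normal := Subgroup.normal_of_index_eq_two hidx
    obtain ⟨W, hW0, hWtop, hWinv⟩ := hI (Subgroup.zpowers t) hZn inferInstance
    have h1 : 0 < finrank (ZMod 3) ↥W := by
      rw [Nat.pos_iff_ne_zero]
      intro h0
      exact hW0 (Submodule.finrank_eq_zero.1 h0)
    have h3 : finrank (ZMod 3) ↥W < 2 := by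
      have := Submodule.finrank_lt_finrank_of_lt (lt_top_iff_ne_top.2 hWtop)
      rwa [finrank_top, h2] at this
    have h4 : finrank (ZMod 3) ↥W = 1 := by omega
    obtain ⟨w₀, hw₀, hw₀0⟩ := Submodule.exists_mem_ne_zero_of_ne_bot hW0
    have hspan : ∀ w : ↥W, ∃ c : ZMod 3, c • (⟨w₀, hw₀⟩ : ↥W) = w :=
      (finrank_eq_one_iff_of_nonzero' (⟨w₀, hw₀⟩ : ↥W)
        (fun h0 => hw₀0 (congrArg Subtype.val h0))).1 h4
    obtain ⟨c, hc⟩ := hspan ⟨_, hWinv t (Subgroup.mem_zpowers t) w₀ hw₀⟩
    have hc' : (t : V ≃ₗ[ZMod 3] V) w₀ = c • w₀ := (congrArg Subtype.val hc).symm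
    have hc0 : c ≠ 0 := by
      intro h0
      rw [h0, zero_smul] at hc'
      apply hw₀0
      have := coe_inv_apply_apply t w₀
      rw [hc', map_zero] at this
      exact this.symm
    have htt : ((t * t : H) : V ≃ₗ[ZMod 3] V) w₀ = ((1 : H) : V ≃ₗ[ZMod 3] V) w₀ := by
      rw [coe_mul_apply, hc', map_smul, hc', smul_smul, zmod3_sq c hc0, one_smul, coe_one_apply]
    have := eq_of_apply_eq hreg hw₀0 htt
    apply hq.t2
    rw [pow_two]; exact this
  · exfalso
    have hN1 : Nontrivial ↥N := by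
      by_contra hnt
      rw [not_nontrivial_iff_subsingleton] at hnt
      exact hNna ⟨⟨fun a b => Subsingleton.elim _ _⟩⟩
    have hsN : Group.IsSolvable ↥N := inferInstance
    exact not_perfect_of_solvable (H := ↥N) (commutator_eq_top_of_self N hperf)

end concrete

end Cfsg.Agent.Lib.Helper12_ExcDeg
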