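import Mathlib
import Cfsg.Agent.Lib.Helper12_ExcSpread

/-!
# The insoluble sharply doubly transitive groups (helper12)
-/

set_option autoImplicit false
set_option linter.unusedSimpArgs false
set_option linter.unusedSectionVars false

namespace Cfsg.Agent.Lib.Helper12_ExcNonsolv

open Module Cfsg.Agent.Lib.Helper12_FpfLin Cfsg.Agent.Lib.Helper12_FpfQuat
  Cfsg.Agent.Lib.Helper12_ExcNF
  Cfsg.Agent.Lib.Helper12_ExcCount Cfsg.Agent.Lib.Helper12_ExcSpread
  Cfsg.Agent.Lib.Helper12_PerfectTools Cfsg.Agent.Lib.Helper12_FpfNonsolv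

universe u

section general

/-- internal direct product with a cyclic group of prime order -/
theorem prod_structure {G : Type*} [Group G] [Finite G] (S : Subgroup G) (m : ℕ)
    (hcop : Nat.Coprime m (Nat.card S)) (hG : Nat.card G = Nat.card S * m) (c : G)
    (hc : orderOf c = m) (hcS : c ∈ Subgroup.centralizer (S : Set G)) :
    Nonempty (G ≃* ↥S × Multiplicative (ZMod m)) := by
  have hCcard : Nat.card (Subgroup.zpowers c) = m := by rw [Nat.card_zpowers, hc]
  have hcomm : ∀ (a : ↥S) (b : ↥(Subgroup.zpowers c)),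
      Commute (S.subtype a) ((Subgroup.zpowers c).subtype b) := by
    intro a b
    obtain ⟨k, hk⟩ := Subgroup.mem_zpowers_iff.1 b.2
    have h1 : Commute (a : G) c := Subgroup.mem_centralizer_iff.1 hcS a a.2
    show Commute (a : G) (b : G)
    rw [← hk]
    exact h1.zpow_right k
  have hinj : Function.Injective (MonoidHom.noncommCoprod S.subtype
      (Subgroup.zpowers c).subtype hcomm) := by
    rw [injective_iff_map_eq_one]
    rintro ⟨a, b⟩ hab
    have h1 : (a : G) * (b : G) = 1 := hab
    have h2 : (a : G) = (b : G)⁻¹ := eq_inv_of_mul_eq_one_left h1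
    have h3 : orderOf (a : G) ∣ Nat.card S := by
      rw [Subgroup.orderOf_coe]; exact orderOf_dvd_natCard a
    have h4 : orderOf (a : G) ∣ m := by
      rw [h2, orderOf_inv, Subgroup.orderOf_coe, ← hCcard]; exact orderOf_dvd_natCard b
    have h5 : orderOf (a : G) = 1 := by
      have := Nat.dvd_gcd h4 h3
      rw [hcop] at this
      exact Nat.dvd_one.1 this
    have ha : (a : G) = 1 := orderOf_eq_one_iff.1 h5
    have hb : (b : G) = 1 := by
      rw [ha] at h2
      exact inv_eq_one.1 h2.symm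
    exact Prod.ext (Subtype.ext ha) (Subtype.ext hb)
  have hbij : Function.Bijective (MonoidHom.noncommCoprod S.subtype
      (Subgroup.zpowers c).subtype hcomm) :=
    (Nat.bijective_iff_injective_and_card _).2 ⟨hinj, by rw [Nat.card_prod, hCcard, hG]⟩
  have hm0 : NeZero m := ⟨by rw [← hc]; exact (orderOf_pos c).ne'⟩
  have hcard2 : Nat.card ↥(Subgroup.zpowers c) = Nat.card (Multiplicative (ZMod m)) := by
    rw [hCcard, Nat.card_congr Multiplicative.toAdd, Nat.card_zmod]
  exact ⟨(MulEquiv.ofBijective _ hbij).symm.trans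
    (MulEquiv.prodCongr (MulEquiv.refl _) (mulEquivOfCyclicCardEq hcard2))⟩

end general

section abstract

variable {F : Type*} [Field F] {W : Type*} [AddCommGroup W] [Module F W] {G : Type*} [Group G]
variable {ρ : G →* Module.End F W}
variable [IsAlgClosed F] [FiniteDimensional F W] [Nontrivial W] [Finite G]

/-- the data attached to a non-solvable fixed-point-free linear group -/
theorem nonsolv_data (h : IsFpf ρ) (hcard : ((Nat.card G : ℕ) : F) ≠ 0)
    (hns : ¬ Group.IsSolvable G) :
    ∃ S : Subgroup G, S.Normal ∧ Nat.card ↥S = 120 ∧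
      ((Subgroup.centralizer (S : Set G)).index = 60 ∨
        (Subgroup.centralizer (S : Set G)).index = 120) ∧
      Nonempty (S ≃* Matrix.SpecialLinearGroup (Fin 2) (ZMod 5)) ∧
      (∃ t s : G, t ∈ S ∧ s ∈ S ∧ QPair t s) ∧
      ∀ c ∈ Subgroup.centralizer (S : Set G), c ^ 3 = 1 → c = 1 := by
  obtain ⟨S, hSn, hS1, hSS⟩ := exists_perfect_core hns
  obtain ⟨h120, hidx, hCS, he, hts⟩ := perfect_normal_data h hcard S hSn hS1 hSS
  refine ⟨S, hSn, h120, hidx, he, hts, ?_⟩
  intro c hc hc3
  by_contra hc1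
  have : Fact (Nat.Prime 3) := ⟨Nat.prime_three⟩
  obtain ⟨x, hx⟩ := exists_prime_orderOf_dvd_card' (G := ↥S) 3 (by rw [h120]; norm_num)
  have hx1 : (x : G) ≠ 1 := by
    intro h0
    have : x = 1 := Subtype.ext h0
    rw [this, orderOf_one] at hx
    omega
  have hx3 : (x : G) ^ 3 = 1 := by
    have := pow_orderOf_eq_one x
    rw [hx] at this
    have := congrArg Subtype.val this
    simpa using this
  have hcomm : Commute (x : G) c := Subgroup.mem_centralizer_iff.1 hc x x.2
  have hmem := h.mem_zpowers_of_commute Nat.prime_three hcomm hx1 hx3 hc3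
  have hcS : c ∈ S := by
    obtain ⟨k, hk⟩ := Subgroup.mem_zpowers_iff.1 hmem
    rw [← hk]
    exact S.zpow_mem x.2 k
  have h2 := hCS c hc hcS
  apply hc1
  calc c = c ^ 3 * (c ^ 2)⁻¹ := by simp only [pow_succ, pow_zero, one_mul, mul_one, mul_assoc, inv_mul_cancel_left, mul_inv_cancel_left, mul_inv_rev, inv_inv, mul_inv_cancel, inv_mul_cancel]
    _ = 1 := by rw [hc3, h2, inv_one, mul_one]

end abstract

section concrete

variable {p : ℕ} [Fact p.Prime] {V : Type u} [AddCommGroup V] [Module (ZMod p) V]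
variable (H : Subgroup (V ≃ₗ[ZMod p] V))

theorem nonsolv_data' [Finite V] [Nontrivial V]
    (hreg : ∀ v w : V, v ≠ 0 → w ≠ 0 → ∃! h : H, (h : V ≃ₗ[ZMod p] V) v = w)
    (hns : ¬ Group.IsSolvable H) :
    ∃ S : Subgroup H, S.Normal ∧ Nat.card ↥S = 120 ∧
      ((Subgroup.centralizer (S : Set H)).index = 60 ∨
        (Subgroup.centralizer (S : Set H)).index = 120) ∧
      Nonempty (S ≃* Matrix.SpecialLinearGroup (Fin 2) (ZMod 5)) ∧
      (∃ t s : H, t ∈ S ∧ s ∈ S ∧ QPair t s) ∧
      ∀ c ∈ Subgroup.centralizer (S : Set H), c ^ 3 = 1 → c = 1 := by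
  have := finite_linearEquiv (p := p) (V := V)
  exact Cfsg.Agent.Lib.Helper12_FpfLinearize.of_linear_aux p (actH H) (actH_fpf H hreg)
    (not_dvd_card H hreg) _
    (fun F _ _ W _ _ _ _ ρ hρ hc => nonsolv_data hρ hc hns)

/-- the arithmetic: `p + 1 ∣ 120`, `120 ∣ p² - 1` -/
theorem prime_cases {q : ℕ} (hq : q.Prime) (h1 : (q + 1) ∣ 120) (h2 : 120 ∣ q ^ 2 - 1) :
    q = 11 ∨ q = 19 ∨ q = 29 ∨ q = 59 := by
  have hle : q + 1 ≤ 120 := Nat.le_of_dvd (by norm_num) h1
  have hq119 : q ≤ 119 := by omega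
  have h2le := hq.two_le
  interval_cases q
  all_goals first
    | omega
    | (exfalso; revert h1; norm_num; done)
    | (exfalso; revert h2; norm_num; done)
    | (exfalso; revert hq; norm_num; done)

/-- **S0689** -/
theorem structure_nonsolvable [Finite V]
    (hreg : ∀ v w : V, v ≠ 0 → w ≠ 0 → ∃! h : H, (h : V ≃ₗ[ZMod p] V) v = w)
    (hns : ¬ Group.IsSolvable H) :
    (Nat.card V = 121 ∧ Nonempty (H ≃* Matrix.SpecialLinearGroup (Fin 2) (ZMod 5))) ∨
    (Nat.card V = 841 ∧ Nonempty (H ≃* Matrix.SpecialLinearGroup (Fin 2) (ZMod 5) ×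
      Multiplicative (ZMod 7))) ∨
    (Nat.card V = 3481 ∧ Nonempty (H ≃* Matrix.SpecialLinearGroup (Fin 2) (ZMod 5) ×
      Multiplicative (ZMod 29))) := by
  have hp : p.Prime := Fact.out
  have := finite_linearEquiv (p := p) (V := V)
  have hVnt : Nontrivial V := by
    rcases subsingleton_or_nontrivial V with hV | hV
    · exfalso
      apply hns
      have : Subsingleton ↥H := by
        refine ⟨fun a b => ?_⟩
        apply Subtype.ext
        ext v
        exact Subsingleton.elim _ _
      exact Group.isSolvable_of_comm (fun a b => Subsingleton.elim _ _)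
    · exact hV
  obtain ⟨S, hSn, hS120, hidx, ⟨e⟩, ⟨t, s, ht, hs, hq⟩, hno3⟩ := nonsolv_data' H hreg hns
  have hDn : (Subgroup.centralizer (S : Set H)).Normal := by
    have := hSn
    infer_instance
  have hX : ∀ x ∈ Subgroup.centralizer (S : Set H), x * t = t * x ∧ x * s = s * x := by
    intro x hx
    rw [Subgroup.mem_centralizer_iff] at hx
    exact ⟨(hx t ht).symm, (hx s hs).symm⟩
  have hidx' : (Subgroup.centralizer (S : Set H)).index ∣ 120 := by
    rcases hidx with h1 | h1 <;> rw [h1] <;> norm_num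
  have h120 : 120 ∣ Nat.card ↥H := by
    rw [← hS120]; exact Subgroup.card_subgroup_dvd_card S
  have hHV := card_add_one H hreg
  rcases count H hreg hDn hq hX (Or.inr rfl) hidx' with ⟨h1, h2, h3, -⟩ | ⟨-, h1, h2⟩
  swap
  · exfalso
    rw [card_eq_pow_top (p := p) (V := V), h2] at hHV
    have hp4 : p ^ 4 = 81 := by rw [h1]; norm_num
    rw [hp4] at hHV
    have : Nat.card ↥H = 80 := by omega
    rw [this] at h120
    omega
  have hcardV : Nat.card V = p ^ 2 := by rw [card_eq_pow_top (p := p) (V := V), h1]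
  have hH : Nat.card ↥H = p ^ 2 - 1 := by rw [← hcardV]; omega
  have hDcard := (Subgroup.centralizer (S : Set H)).card_mul_index
  -- elements of prime order in the centraliser
  have hcauchy : ∀ m : ℕ, m.Prime → m ∣ Nat.card ↥(Subgroup.centralizer (S : Set H)) →
      ∃ c : H, c ∈ Subgroup.centralizer (S : Set H) ∧ orderOf c = m := by
    intro m hm hdvd
    have : Fact m.Prime := ⟨hm⟩
    obtain ⟨c, hc⟩ := exists_prime_orderOf_dvd_card' m hdvd
    exact ⟨c, c.2, by rw [Subgroup.orderOf_coe, hc]⟩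
  rcases prime_cases hp h2 (by rw [← hH]; exact h120) with h11 | h19 | h29 | h59
  · left
    have hp2 : p ^ 2 = 121 := by rw [h11]; norm_num
    rw [hp2] at hcardV hH
    refine ⟨hcardV, ?_⟩
    have hStop : S = ⊤ := Subgroup.eq_top_of_card_eq S (by rw [hS120, hH])
    exact ⟨(Subgroup.topEquiv.symm.trans (MulEquiv.subgroupCongr hStop.symm)).trans e⟩
  · exfalso
    have hp2 : p ^ 2 = 361 := by rw [h19]; norm_num
    rw [hp2] at hH
    rw [hH] at hDcard
    have h3 : 3 ∣ Nat.card ↥(Subgroup.centralizer (S : Set H)) := by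
      rcases hidx with h5 | h5 <;> rw [h5] at hDcard
      · have : Nat.card ↥(Subgroup.centralizer (S : Set H)) = 6 := by omega
        rw [this]; norm_num
      · have : Nat.card ↥(Subgroup.centralizer (S : Set H)) = 3 := by omega
        rw [this]
    obtain ⟨c, hc, hco⟩ := hcauchy 3 Nat.prime_three h3
    have hc3 : c ^ 3 = 1 := by rw [← hco]; exact pow_orderOf_eq_one c
    have := hno3 c hc hc3
    rw [this, orderOf_one] at hco
    omega
  · right; left
    have hp2 : p ^ 2 = 841 := by rw [h29]; norm_num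
    rw [hp2] at hcardV hH
    refine ⟨hcardV, ?_⟩
    rw [hH] at hDcard
    have h7 : 7 ∣ Nat.card ↥(Subgroup.centralizer (S : Set H)) := by
      rcases hidx with h5 | h5 <;> rw [h5] at hDcard
      · have : Nat.card ↥(Subgroup.centralizer (S : Set H)) = 14 := by omega
        rw [this]; norm_num
      · have : Nat.card ↥(Subgroup.centralizer (S : Set H)) = 7 := by omega
        rw [this]
    obtain ⟨c, hc, hco⟩ := hcauchy 7 (by norm_num) h7
    obtain ⟨θ⟩ := prod_structure S 7 (by rw [hS120]; norm_num) (by rw [hS120, hH]) c hco hc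
    exact ⟨θ.trans (MulEquiv.prodCongr e (MulEquiv.refl _))⟩
  · right; right
    have hp2 : p ^ 2 = 3481 := by rw [h59]; norm_num
    rw [hp2] at hcardV hH
    refine ⟨hcardV, ?_⟩
    rw [hH] at hDcard
    have h29 : 29 ∣ Nat.card ↥(Subgroup.centralizer (S : Set H)) := by
      rcases hidx with h5 | h5 <;> rw [h5] at hDcard
      · have : Nat.card ↥(Subgroup.centralizer (S : Set H)) = 58 := by omega
        rw [this]; norm_num
      · have : Nat.card ↥(Subgroup.centralizer (S : Set H)) = 29 := by omega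
        rw [this]
    obtain ⟨c, hc, hco⟩ := hcauchy 29 (by norm_num) h29
    obtain ⟨θ⟩ := prod_structure S 29 (by rw [hS120]; norm_num) (by rw [hS120, hH]) c hco hc
    exact ⟨θ.trans (MulEquiv.prodCongr e (MulEquiv.refl _))⟩

end concrete

end Cfsg.Agent.Lib.Helper12_ExcNonsolv
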