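import Mathlib
import Cfsg.Agent.Lib.Helper12_FpfLin
import Cfsg.Agent.Lib.Helper12_FpfLinearize
import Cfsg.Agent.S0035
import Cfsg.Agent.S0039

/-!
# Frobenius complements are fixed-point-free linear groups (helper12)
-/

set_option autoImplicit false

namespace Cfsg.Agent.Lib.Helper12_FrobCompl

open Cfsg.Agent.Lib.Helper12_FpfLin Cfsg.Agent.Lib.Helper12_FpfLinearize

/-- **linearisation of Frobenius complements**: a group occurring as a Frobenius complement has a
fixed-point-free linear representation over an algebraically closed field of characteristic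
prime to its order -/
theorem of_frobeniusComplement {G : Type*} [Group G] [Finite G]
    (hFC : ∃ (L : Type) (_ : Group L) (_ : Finite L) (H : Subgroup L),
      Cfsg.IsFrobeniusComplement H ∧ Nonempty (G ≃* H)) (P : Prop)
    (hP : ∀ (F : Type) [Field F] [IsAlgClosed F] (W : Type) [AddCommGroup W] [Module F W]
      [FiniteDimensional F W] [Nontrivial W] (ρ : G →* Module.End F W), IsFpf ρ →
      ((Nat.card G : ℕ) : F) ≠ 0 → P) : P := by
  obtain ⟨L, _, _, H, hH, ⟨e⟩⟩ := hFC
  obtain ⟨N, hN, hNn, hNc⟩ := Cfsg.Agent.S0035.result H hH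
  have hN1 : N ≠ ⊥ := by
    intro h0
    apply hH.2.1
    have h1 := hNc.card_mul_card
    rw [h0, Subgroup.card_bot, one_mul] at h1
    exact Subgroup.eq_top_of_card_eq H h1
  have hfix := (Cfsg.Agent.S0039.result N H hNc hN1 hH.1).1 hH
  -- the conjugation action
  have hconj : ∀ (h : ↥H) (n : ↥N),
      (((MulAut.conjNormal (H := N)).comp H.subtype h) n : L) = (h : L) * n * (h : L)⁻¹ := by
    intro h n
    rfl
  have hfixed : ∀ (h : ↥H), h ≠ 1 → ∀ n : ↥N,
      ((MulAut.conjNormal (H := N)).comp H.subtype h) n = n → n = 1 := by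
    intro h hh n hn
    have h1 : (h : L) * n * (h : L)⁻¹ = n := by rw [← hconj, hn]
    have h2 : (n : L) ∈ N ⊓ Subgroup.centralizer {(h : L)} := by
      refine ⟨n.2, ?_⟩
      show (n : L) ∈ Subgroup.centralizer {(h : L)}
      rw [Subgroup.mem_centralizer_singleton_iff]
      calc (n : L) * h = ((h : L) * n * (h : L)⁻¹) * h := by rw [h1]
        _ = h * n := by group
    rw [hfix h h.2 (fun h0 => hh (Subtype.ext h0)), Subgroup.mem_bot] at h2
    exact Subtype.ext h2
  have hinj : Function.Injective ((MulAut.conjNormal (H := N)).comp H.subtype) := by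
    rw [injective_iff_map_eq_one]
    intro h hh
    by_contra hne
    obtain ⟨⟨n, hnN⟩, hn1⟩ := (Subgroup.ne_bot_iff_exists_ne_one).1 hN1
    apply hn1
    apply hfixed h hne ⟨n, hnN⟩
    rw [hh]
    rfl
  have hfpfΓ : ∀ ψ ∈ ((MulAut.conjNormal (H := N)).comp H.subtype).range, ψ ≠ 1 →
      ∀ k : ↥N, ψ k = k → k = 1 := by
    rintro ψ ⟨h, rfl⟩ hψ k hk
    apply hfixed h _ k hk
    intro h1
    apply hψ
    rw [h1, map_one]
  have hΓne : ((MulAut.conjNormal (H := N)).comp H.subtype).range ≠ ⊥ := by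
    intro h0
    obtain ⟨⟨h, hhH⟩, hh1⟩ := (Subgroup.ne_bot_iff_exists_ne_one).1 hH.1
    apply hh1
    apply hinj
    have h1 : (MulAut.conjNormal (H := N)).comp H.subtype ⟨h, hhH⟩ ∈
        ((MulAut.conjNormal (H := N)).comp H.subtype).range := ⟨_, rfl⟩
    rw [h0, Subgroup.mem_bot] at h1
    rw [h1, map_one]
  have ε : G ≃* ↥((MulAut.conjNormal (H := N)).comp H.subtype).range :=
    e.trans (MonoidHom.ofInjective hinj)
  apply of_linear _ hfpfΓ hΓne P
  intro F _ _ W _ _ _ _ ρ h1 h2
  apply hP F W (ρ.comp ε.toMonoidHom)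
  · intro g hg w hw
    apply h1 (ε g) _ w hw
    intro h3
    apply hg
    apply ε.injective
    rw [h3, map_one]
  · rw [Nat.card_congr ε.toEquiv]
    exact h2

end Cfsg.Agent.Lib.Helper12_FrobCompl
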