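import Mathlib
import Cfsg.Agent.Lib.Helper34_G2InvDefs
import Cfsg.Agent.Lib.Helper34_G2InvBasic

/-!
# S2177 market (`s2177_packages`, architect helper34), package L6 (helper12)

Right multiplication of a normal form `PW X s t c d e f` by `X 6 a`.  Word calculus with "tail" versions
of the relations (`… * (x * (y * R)) = … * (y * (x * R))`), so that everything stays right-associated.
-/

set_option autoImplicit false

namespace Cfsg.Agent.Lib.Helper12_G2I_L6

open Cfsg Cfsg.Lie Cfsg.Agent.Lib.Helper34_G2InvDefs Cfsg.Agent.Lib.Helper34_G2InvBasic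

section NoChar

variable {F : Type*} [Field F] {Γ : Type*} [Group Γ] {X : ℕ → F → Γ}

/-- tail form of a commutation relation -/
theorem h12tail_comm {x y : Γ} (hxy : x * y = y * x) (R : Γ) : x * (y * R) = y * (x * R) := by
  rw [← mul_assoc, hxy, mul_assoc]

/-- tail form of the additivity -/
theorem h12tail_add (h : URel X) (r : ℕ) (t u : F) (R : Γ) : X r t * (X r u * R) = X r (t + u) * R := by
  rw [← mul_assoc, ← h.add]

theorem h12tail_r106 (h : URel X) (t u : F) (R : Γ) :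
    X 10 u * (X 6 t * R) = X 6 t * (X 10 u * (X 11 (t * u) * R)) := by
  rw [← mul_assoc, h.r106]; simp only [mul_assoc]

theorem h12tail_r98 (h : URel X) (t u : F) (R : Γ) :
    X 9 u * (X 8 t * R) = X 8 t * (X 9 u * (X 11 (t * u) * R)) := by
  rw [← mul_assoc, h.r98]; simp only [mul_assoc]

end NoChar

section Abstract

variable {F : Type*} [Field F] [CharP F 2] {Γ : Type*} [Group Γ] {X : ℕ → F → Γ}

theorem h12tail_self (h : URel X) (r : ℕ) (t : F) (R : Γ) : X r t * (X r t * R) = R := by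
  rw [← mul_assoc, X_mul_self h, one_mul]

/-- `V W = 1` for `V = X8(ta) X9(t²a) X10(t³a)`, `W = V X11(t³a²)` -/
theorem h12_VW (h : URel X) (t a : F) (R : Γ) :
    X 8 (t * a) * (X 9 (t ^ 2 * a) * (X 10 (t ^ 3 * a) * (X 8 (t * a) * (X 9 (t ^ 2 * a) *
      (X 10 (t ^ 3 * a) * (X 11 (t ^ 3 * a ^ 2) * R)))))) = R := by
  rw [h12tail_comm (h.c810 (t * a) (t ^ 3 * a)).symm, h12tail_r98 h (t * a) (t ^ 2 * a),
    h12tail_self h 8]
  rw [h12tail_comm (h.c1011 (t ^ 3 * a) (t * a * (t ^ 2 * a))).symm,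
    h12tail_comm (h.c911 (t ^ 2 * a) (t * a * (t ^ 2 * a))).symm,
    h12tail_comm (h.c910 (t ^ 2 * a) (t ^ 3 * a)).symm, h12tail_self h 9,
    h12tail_comm (h.c1011 (t ^ 3 * a) (t * a * (t ^ 2 * a))).symm, h12tail_self h 10]
  have e : t * a * (t ^ 2 * a) = t ^ 3 * a ^ 2 := by ring
  rw [e, h12tail_self h 11]

/-- the derived relation `X7 t X6 a = X6 a X7 t X8(ta) X9(t²a) X10(t³a)` in tail form -/
theorem h12tail_r76 (h : URel X) (t a : F) (R : Γ) :
    X 7 t * (X 6 a * R) =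
      X 6 a * (X 7 t * (X 8 (t * a) * (X 9 (t ^ 2 * a) * (X 10 (t ^ 3 * a) * R)))) := by
  have h1 := h.r67 t a
  -- `X6 a X7 t V = X7 t X6 a W V = X7 t X6 a`
  have hWV : X 8 (t * a) * X 9 (t ^ 2 * a) * X 10 (t ^ 3 * a) * X 11 (t ^ 3 * a ^ 2) *
      (X 8 (t * a) * X 9 (t ^ 2 * a) * X 10 (t ^ 3 * a)) = 1 := by
    have hVW : (X 8 (t * a) * X 9 (t ^ 2 * a) * X 10 (t ^ 3 * a)) *
        (X 8 (t * a) * X 9 (t ^ 2 * a) * X 10 (t ^ 3 * a) * X 11 (t ^ 3 * a ^ 2)) = 1 := by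
      have := h12_VW h t a 1
      simp only [mul_one] at this
      simp only [mul_assoc]
      exact this
    exact mul_eq_one_comm.mp hVW
  have h2 : X 6 a * X 7 t * (X 8 (t * a) * X 9 (t ^ 2 * a) * X 10 (t ^ 3 * a)) = X 7 t * X 6 a := by
    rw [h1]
    have : X 7 t * X 6 a * X 8 (t * a) * X 9 (t ^ 2 * a) * X 10 (t ^ 3 * a) * X 11 (t ^ 3 * a ^ 2) *
        (X 8 (t * a) * X 9 (t ^ 2 * a) * X 10 (t ^ 3 * a)) =
        X 7 t * X 6 a * (X 8 (t * a) * X 9 (t ^ 2 * a) * X 10 (t ^ 3 * a) * X 11 (t ^ 3 * a ^ 2) *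
        (X 8 (t * a) * X 9 (t ^ 2 * a) * X 10 (t ^ 3 * a))) := by
      simp only [mul_assoc]
    rw [this, hWV, mul_one]
  rw [← mul_assoc, ← h2]
  simp only [mul_assoc]

/-- L6 with an arbitrary tail -/
theorem L6_tail (h : URel X) (s t c d e f a : F) (R : Γ) :
    X 6 s * (X 7 t * (X 8 c * (X 9 d * (X 10 e * (X 11 f * (X 6 a * R)))))) =
      X 6 (s + a) * (X 7 t * (X 8 (c + t * a) * (X 9 (d + t ^ 2 * a) * (X 10 (e + t ^ 3 * a) *
        (X 11 (f + e * a + t ^ 2 * c * a) * R))))) := by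
  -- move `X 6 a` to the left
  rw [h12tail_comm (h.c611 a f).symm, h12tail_r106 h a e, h12tail_comm (h.c69 a d).symm,
    h12tail_comm (h.c68 a c).symm, h12tail_r76 h t a, h12tail_add h 6]
  -- move `X 8 c` to the left
  rw [h12tail_comm (h.c810 c (t ^ 3 * a)).symm, h12tail_r98 h c (t ^ 2 * a), h12tail_add h 8]
  -- move `X 9 d` to the left
  rw [h12tail_comm (h.c910 d (t ^ 3 * a)).symm, h12tail_comm (h.c911 d (c * (t ^ 2 * a))).symm,
    h12tail_add h 9]
  -- move `X 10 (t^3 a)` to `X 10 e`, merge the `X 11`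
  rw [h12tail_add h 10, h12tail_comm (h.c1011 (t ^ 3 * a + e) (c * (t ^ 2 * a))).symm]
  rw [h12tail_add h 11, h12tail_add h 11]
  have e1 : t * a + c = c + t * a := add_comm _ _
  have e2 : t ^ 2 * a + d = d + t ^ 2 * a := add_comm _ _
  have e3 : t ^ 3 * a + e = e + t ^ 3 * a := add_comm _ _
  have e4 : c * (t ^ 2 * a) + a * e + f = f + e * a + t ^ 2 * c * a := by ring
  rw [e1, e2, e3, e4]

/-- L6 (L).  Right multiplication of a normal form by `X 6 a`. -/
theorem L6 (h : URel X) (s t c d e f a : F) :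
    PW X s t c d e f * X 6 a =
      PW X (s + a) t (c + t * a) (d + t ^ 2 * a) (e + t ^ 3 * a) (f + e * a + t ^ 2 * c * a) := by
  have hassoc : ∀ x y z : Γ, x * y * z = x * (y * z) := mul_assoc
  have := L6_tail h s t c d e f a 1
  simp only [mul_one] at this
  unfold PW
  simp only [hassoc]
  exact this

end Abstract

end Cfsg.Agent.Lib.Helper12_G2I_L6
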