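import Mathlib.LinearAlgebra.Matrix.GeneralLinearGroup.Defs
import Mathlib.LinearAlgebra.Matrix.Notation
import Mathlib.Data.ZMod.Basic
import Mathlib.Data.List.GetD
import Mathlib.SetTheory.Cardinal.Finite
import Mathlib.Tactic

/-!
Explicit subgroups of `GL(2, K)` acting regularly on the non-zero vectors.

`regular_of_rep` is the abstract criterion: if `rep w` is a group element with first column `w`
for every non-zero `w`, compatible with left multiplication by the generators, then the generated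
subgroup is `{rep w}`, of order `|K|^2 - 1`, and acts regularly on the non-zero vectors.
-/

set_option autoImplicit false

namespace Cfsg.Agent.Lib.Helper12_GL2Reg

open Matrix

section abstract

variable {K : Type*} [Field K]

local notation "GL2" => Matrix.GeneralLinearGroup (Fin 2) K

theorem inv_mulVec_mulVec (g : GL2) (w : Fin 2 → K) :
    ((g⁻¹ : GL2) : Matrix (Fin 2) (Fin 2) K) *ᵥ ((g : Matrix (Fin 2) (Fin 2) K) *ᵥ w) = w := by
  rw [Matrix.mulVec_mulVec, ← Matrix.GeneralLinearGroup.coe_mul, inv_mul_cancel,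
    Matrix.GeneralLinearGroup.coe_one, Matrix.one_mulVec]

theorem mulVec_inv_mulVec (g : GL2) (w : Fin 2 → K) :
    (g : Matrix (Fin 2) (Fin 2) K) *ᵥ (((g⁻¹ : GL2) : Matrix (Fin 2) (Fin 2) K) *ᵥ w) = w := by
  rw [Matrix.mulVec_mulVec, ← Matrix.GeneralLinearGroup.coe_mul, mul_inv_cancel,
    Matrix.GeneralLinearGroup.coe_one, Matrix.one_mulVec]

theorem mulVec_ne_zero (g : GL2) {w : Fin 2 → K} (hw : w ≠ 0) :
    (g : Matrix (Fin 2) (Fin 2) K) *ᵥ w ≠ 0 := by
  intro h
  apply hw
  rw [← inv_mulVec_mulVec g w, h, Matrix.mulVec_zero]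

theorem regular_of_rep [Fintype K] [DecidableEq K] (S : Set GL2) (v₀ : Fin 2 → K) (hv₀ : v₀ ≠ 0)
    (rep : (Fin 2 → K) → GL2)
    (ha : ∀ w, w ≠ 0 → (rep w : Matrix (Fin 2) (Fin 2) K) *ᵥ v₀ = w)
    (hb : rep v₀ = 1)
    (hc : ∀ g ∈ S, ∀ w, w ≠ 0 → g * rep w = rep ((g : Matrix (Fin 2) (Fin 2) K) *ᵥ w))
    (hd : ∀ w, w ≠ 0 → rep w ∈ Subgroup.closure S) :
    Nat.card (Subgroup.closure S) = Fintype.card K ^ 2 - 1 ∧
      ∀ v w : Fin 2 → K, v ≠ 0 → w ≠ 0 →
        ∃! h : Subgroup.closure S, ((h : GL2) : Matrix (Fin 2) (Fin 2) K) *ᵥ v = w := by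
  -- inverse version of hc
  have hc' : ∀ g ∈ S, ∀ w, w ≠ 0 →
      g⁻¹ * rep w = rep (((g⁻¹ : GL2) : Matrix (Fin 2) (Fin 2) K) *ᵥ w) := by
    intro g hg w hw
    have h1 := hc g hg _ (mulVec_ne_zero g⁻¹ hw)
    rw [mulVec_inv_mulVec] at h1
    rw [← h1, inv_mul_cancel_left]
  -- every element of the closure is `rep` of its first column
  have hmem : ∀ h ∈ Subgroup.closure S,
      h = rep ((h : Matrix (Fin 2) (Fin 2) K) *ᵥ v₀) := by
    intro h hh
    induction hh using Subgroup.closure_induction_left with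
    | one =>
      rw [Matrix.GeneralLinearGroup.coe_one, Matrix.one_mulVec, hb]
    | mul_left x hx y _ ih =>
      rw [Matrix.GeneralLinearGroup.coe_mul, ← Matrix.mulVec_mulVec,
        ← hc x hx _ (mulVec_ne_zero y hv₀), ← ih]
    | inv_mul_cancel x hx y _ ih =>
      rw [Matrix.GeneralLinearGroup.coe_mul, ← Matrix.mulVec_mulVec,
        ← hc' x hx _ (mulVec_ne_zero y hv₀), ← ih]
  constructor
  · -- cardinality
    have e : Subgroup.closure S ≃ {w : Fin 2 → K // w ≠ 0} :=
      { toFun := fun h => ⟨((h : GL2) : Matrix (Fin 2) (Fin 2) K) *ᵥ v₀, mulVec_ne_zero _ hv₀⟩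
        invFun := fun w => ⟨rep w.1, hd w.1 w.2⟩
        left_inv := fun h => Subtype.ext (hmem h.1 h.2).symm
        right_inv := fun w => Subtype.ext (ha w.1 w.2) }
    rw [Nat.card_congr e, Nat.card_eq_fintype_card, Fintype.card_subtype_compl,
      Fintype.card_subtype_eq, Fintype.card_fun, Fintype.card_fin]
  · intro v w hv hw
    have hvinv : ((rep v)⁻¹ : GL2).1 *ᵥ v = v₀ := by
      have := inv_mulVec_mulVec (rep v) v₀
      rwa [ha v hv] at this
    refine ⟨⟨rep w * (rep v)⁻¹, (Subgroup.closure S).mul_mem (hd w hw)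
      ((Subgroup.closure S).inv_mem (hd v hv))⟩, ?_, ?_⟩
    · change ((rep w * (rep v)⁻¹ : GL2) : Matrix (Fin 2) (Fin 2) K) *ᵥ v = w
      rw [Matrix.GeneralLinearGroup.coe_mul, ← Matrix.mulVec_mulVec]
      change (rep w).1 *ᵥ (((rep v)⁻¹ : GL2).1 *ᵥ v) = w
      rw [hvinv, ha w hw]
    · intro h hh
      apply Subtype.ext
      change (h : GL2) = rep w * (rep v)⁻¹
      have h1 := hmem ((h : GL2) * rep v) ((Subgroup.closure S).mul_mem h.2 (hd v hv))
      rw [Matrix.GeneralLinearGroup.coe_mul, ← Matrix.mulVec_mulVec, ha v hv, hh] at h1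
      rw [← h1, mul_inv_cancel_right]

end abstract


/-! ### The computational certificate -/

/-- A 2×2 matrix `!![a, b; c, d]` with natural number entries. -/
abbrev M4 := ℕ × ℕ × ℕ × ℕ

/-- Table entry `(c₀, c₁, gi, depth)`: second column, index of the generator reaching this
vector, and BFS depth. -/
abbrev Entry := ℕ × ℕ × ℕ × ℕ

/-- Matrix times vector modulo `p`. -/
def mv (p : ℕ) (m : M4) (v : ℕ × ℕ) : ℕ × ℕ :=
  ((m.1 * v.1 + m.2.1 * v.2) % p, (m.2.2.1 * v.1 + m.2.2.2 * v.2) % p)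

/-- Table lookup. -/
def look (T : List (List Entry)) (v : ℕ × ℕ) : Entry := (T.getD v.1 []).getD v.2 (0, 0, 0, 0)

/-- Second column from the table. -/
def colOf (T : List (List Entry)) (v : ℕ × ℕ) : ℕ × ℕ := ((look T v).1, (look T v).2.1)

/-- The check at one vector. -/
def checkAt (p : ℕ) (gs gis : List M4) (T : List (List Entry)) (v : ℕ × ℕ) : Bool :=
  ((colOf T v).1 < p && (colOf T v).2 < p) &&
  ((v.1 * (colOf T v).2) % p != (v.2 * (colOf T v).1) % p) &&
  gs.all (fun g => colOf T (mv p g v) == mv p g (colOf T v)) &&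
  (v == (1, 0) ||
    ((look T v).2.2.1 < gs.length && (look T v).2.2.1 < gis.length &&
      mv p (gis.getD (look T v).2.2.1 (0, 0, 0, 0)) v != (0, 0) &&
      mv p (gs.getD (look T v).2.2.1 (0, 0, 0, 0))
        (mv p (gis.getD (look T v).2.2.1 (0, 0, 0, 0)) v) == v &&
      (look T (mv p (gis.getD (look T v).2.2.1 (0, 0, 0, 0)) v)).2.2.2 < (look T v).2.2.2))

/-- The full check. -/
def check (p : ℕ) (gs gis : List M4) (T : List (List Entry)) : Bool :=
  colOf T (1, 0) == (0, 1) &&
  (List.range p).all (fun x => (List.range p).all (fun y =>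
    (x == 0 && y == 0) || checkAt p gs gis T (x, y)))

section bridge

variable (p : ℕ) [Fact p.Prime]

/-- vector of naturals to a vector over `ZMod p` -/
def toVec (v : ℕ × ℕ) : Fin 2 → ZMod p := ![(v.1 : ZMod p), (v.2 : ZMod p)]

/-- matrix of naturals to a matrix over `ZMod p` -/
def toMat (m : M4) : Matrix (Fin 2) (Fin 2) (ZMod p) :=
  !![(m.1 : ZMod p), (m.2.1 : ZMod p); (m.2.2.1 : ZMod p), (m.2.2.2 : ZMod p)]

/-- vector over `ZMod p` to a vector of naturals -/
def ofVec (w : Fin 2 → ZMod p) : ℕ × ℕ := ((w 0).val, (w 1).val)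

theorem toVec_ofVec (w : Fin 2 → ZMod p) : toVec p (ofVec p w) = w := by
  ext i
  fin_cases i <;> simp [toVec, ofVec]

theorem ofVec_lt (w : Fin 2 → ZMod p) : (ofVec p w).1 < p ∧ (ofVec p w).2 < p :=
  ⟨ZMod.val_lt _, ZMod.val_lt _⟩

theorem ofVec_toVec (v : ℕ × ℕ) (h1 : v.1 < p) (h2 : v.2 < p) : ofVec p (toVec p v) = v := by
  ext
  · simp [toVec, ofVec, ZMod.val_natCast, Nat.mod_eq_of_lt h1]
  · simp [toVec, ofVec, ZMod.val_natCast, Nat.mod_eq_of_lt h2]

theorem ofVec_eq_zero_iff (w : Fin 2 → ZMod p) : ofVec p w = (0, 0) ↔ w = 0 := by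
  constructor
  · intro h
    rw [← toVec_ofVec p w, h]
    ext i
    fin_cases i <;> simp [toVec]
  · rintro rfl
    simp [ofVec]

theorem toMat_mulVec (m : M4) (v : ℕ × ℕ) :
    toMat p m *ᵥ toVec p v = toVec p (mv p m v) := by
  ext i
  fin_cases i <;>
    simp [toMat, toVec, mv, Matrix.mulVec, dotProduct, Fin.sum_univ_two, ZMod.natCast_mod]

theorem mv_lt (m : M4) (v : ℕ × ℕ) : (mv p m v).1 < p ∧ (mv p m v).2 < p :=
  ⟨Nat.mod_lt _ (Fact.out : p.Prime).pos, Nat.mod_lt _ (Fact.out : p.Prime).pos⟩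

theorem ofVec_mulVec (m : M4) (w : Fin 2 → ZMod p) :
    ofVec p (toMat p m *ᵥ w) = mv p m (ofVec p w) := by
  conv_lhs => rw [← toVec_ofVec p w, toMat_mulVec]
  exact ofVec_toVec p _ (mv_lt p m _).1 (mv_lt p m _).2

end bridge


theorem checkAt_spec {p : ℕ} {gs gis : List M4} {T : List (List Entry)} {v : ℕ × ℕ}
    (h : checkAt p gs gis T v = true) :
    ((colOf T v).1 < p ∧ (colOf T v).2 < p) ∧
    ((v.1 * (colOf T v).2) % p ≠ (v.2 * (colOf T v).1) % p) ∧
    (∀ g ∈ gs, colOf T (mv p g v) = mv p g (colOf T v)) ∧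
    (v = (1, 0) ∨
      ((look T v).2.2.1 < gs.length ∧ (look T v).2.2.1 < gis.length ∧
        mv p (gis.getD (look T v).2.2.1 (0, 0, 0, 0)) v ≠ (0, 0) ∧
        mv p (gs.getD (look T v).2.2.1 (0, 0, 0, 0))
          (mv p (gis.getD (look T v).2.2.1 (0, 0, 0, 0)) v) = v ∧
        (look T (mv p (gis.getD (look T v).2.2.1 (0, 0, 0, 0)) v)).2.2.2 < (look T v).2.2.2)) := by
  unfold checkAt at h
  simp only [Bool.and_eq_true, Bool.or_eq_true, decide_eq_true_eq, bne_iff_ne, ne_eq,
    beq_iff_eq, List.all_eq_true] at h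
  obtain ⟨⟨⟨h1, h2⟩, h3⟩, h4⟩ := h
  refine ⟨h1, h2, h3, ?_⟩
  rcases h4 with h4 | ⟨⟨⟨⟨a, b⟩, c⟩, d⟩, e⟩
  · left; exact h4
  · right; exact ⟨a, b, c, d, e⟩

theorem check_spec {p : ℕ} {gs gis : List M4} {T : List (List Entry)}
    (h : check p gs gis T = true) :
    colOf T (1, 0) = (0, 1) ∧
      ∀ x y : ℕ, x < p → y < p → (x, y) ≠ (0, 0) → checkAt p gs gis T (x, y) = true := by
  unfold check at h
  simp only [Bool.and_eq_true, beq_iff_eq, List.all_eq_true, List.mem_range, Bool.or_eq_true]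
    at h
  refine ⟨h.1, fun x y hx hy hxy => ?_⟩
  rcases h.2 x hx y hy with h' | h'
  · exfalso
    apply hxy
    rw [h'.1, h'.2]
  · exact h'

section main

variable (p : ℕ) [Fact p.Prime]

/-- The matrix with columns `w` and `c`. -/
def colmat {K : Type*} (w c : Fin 2 → K) : Matrix (Fin 2) (Fin 2) K := !![w 0, c 0; w 1, c 1]

theorem mul_colmat {K : Type*} [CommRing K] (A : Matrix (Fin 2) (Fin 2) K) (w c : Fin 2 → K) :
    A * colmat w c = colmat (A *ᵥ w) (A *ᵥ c) := by
  ext i j
  fin_cases i <;> fin_cases j <;>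
    simp [colmat, Matrix.mul_apply, Matrix.mulVec, dotProduct, Fin.sum_univ_two]

theorem colmat_mulVec {K : Type*} [CommRing K] (w c : Fin 2 → K) :
    colmat w c *ᵥ ![1, 0] = w := by
  ext i
  fin_cases i <;> simp [colmat, Matrix.mulVec, dotProduct, Fin.sum_univ_two]

theorem det_colmat {K : Type*} [CommRing K] (w c : Fin 2 → K) :
    (colmat w c).det = w 0 * c 1 - c 0 * w 1 := by
  simp [colmat, Matrix.det_fin_two_of]

theorem toVec_ne_zero {v : ℕ × ℕ} (h1 : v.1 < p) (h2 : v.2 < p) (h : v ≠ (0, 0)) :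
    toVec p v ≠ 0 := by
  intro h0
  apply h
  rw [← ofVec_toVec p v h1 h2, h0]
  exact (ofVec_eq_zero_iff p 0).mpr rfl

open Classical in
/-- The main theorem: a successful check yields the order of the generated group and its
regularity on the non-zero vectors. -/
theorem regular_of_check (gs gis : List M4) (T : List (List Entry))
    (hcheck : check p gs gis T = true)
    (S : Set (Matrix.GeneralLinearGroup (Fin 2) (ZMod p)))
    (hS : ∀ g ∈ S, ∃ m ∈ gs, (g : Matrix (Fin 2) (Fin 2) (ZMod p)) = toMat p m)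
    (hS' : ∀ m ∈ gs, ∃ g ∈ S, (g : Matrix (Fin 2) (Fin 2) (ZMod p)) = toMat p m) :
    Nat.card (Subgroup.closure S) = p ^ 2 - 1 ∧
      ∀ v w : Fin 2 → ZMod p, v ≠ 0 → w ≠ 0 →
        ∃! h : Subgroup.closure S,
          ((h : Matrix.GeneralLinearGroup (Fin 2) (ZMod p)) :
            Matrix (Fin 2) (Fin 2) (ZMod p)) *ᵥ v = w := by
  obtain ⟨h0, hall⟩ := check_spec hcheck
  have hp : p.Prime := Fact.out
  have hp1 : 1 < p := hp.one_lt
  -- the check at a non-zero vector
  have hat : ∀ w : Fin 2 → ZMod p, w ≠ 0 → checkAt p gs gis T (ofVec p w) = true := by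
    intro w hw
    apply hall _ _ (ofVec_lt p w).1 (ofVec_lt p w).2
    intro h
    exact hw ((ofVec_eq_zero_iff p w).mp h)
  -- second column
  let cv : (Fin 2 → ZMod p) → (Fin 2 → ZMod p) := fun w => toVec p (colOf T (ofVec p w))
  have hdet : ∀ w : Fin 2 → ZMod p, w ≠ 0 → (colmat w (cv w)).det ≠ 0 := by
    intro w hw
    obtain ⟨-, h2, -, -⟩ := checkAt_spec (hat w hw)
    rw [det_colmat]
    intro h
    apply h2
    rw [← ZMod.natCast_eq_natCast_iff']
    push_cast
    simp only [ofVec, ZMod.natCast_zmod_val]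
    have : w 0 * (cv w) 1 = (cv w) 0 * w 1 := sub_eq_zero.mp h
    simp only [cv, toVec, ofVec] at this
    simpa [mul_comm] using this
  let rep : (Fin 2 → ZMod p) → Matrix.GeneralLinearGroup (Fin 2) (ZMod p) := fun w =>
    if h : (colmat w (cv w)).det ≠ 0 then
      Matrix.GeneralLinearGroup.mkOfDetNeZero (colmat w (cv w)) h else 1
  have hrep : ∀ w : Fin 2 → ZMod p, w ≠ 0 →
      (rep w : Matrix (Fin 2) (Fin 2) (ZMod p)) = colmat w (cv w) := by
    intro w hw
    simp only [rep, dif_pos (hdet w hw)]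
    rfl
  have hv₀ : (![1, 0] : Fin 2 → ZMod p) ≠ 0 := by
    intro h
    have := congrFun h 0
    simp at this
  have hof0 : ofVec p ![1, 0] = (1, 0) := by
    have : Fact (1 < p) := ⟨hp1⟩
    simp [ofVec, ZMod.val_one p]
  have hcv0 : cv ![1, 0] = ![0, 1] := by
    simp only [cv, hof0, h0, toVec]
    simp
  have hmulvec : ∀ m : M4, ∀ w : Fin 2 → ZMod p, w ≠ 0 → m ∈ gs →
      toMat p m *ᵥ cv w = cv (toMat p m *ᵥ w) := by
    intro m w hw hm
    obtain ⟨-, -, h3, -⟩ := checkAt_spec (hat w hw)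
    simp only [cv]
    rw [toMat_mulVec, ofVec_mulVec, h3 m hm]
  have key := regular_of_rep S ![1, 0] hv₀ rep
    (fun w hw => by rw [hrep w hw, colmat_mulVec])
    (by
      apply Matrix.GeneralLinearGroup.ext
      intro i j
      rw [hrep _ hv₀, hcv0, Matrix.GeneralLinearGroup.coe_one]
      fin_cases i <;> fin_cases j <;> simp [colmat])
    (by
      intro g hg w hw
      obtain ⟨m, hm, hgm⟩ := hS g hg
      have hgw : (g : Matrix (Fin 2) (Fin 2) (ZMod p)) *ᵥ w ≠ 0 := mulVec_ne_zero g hw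
      apply Matrix.GeneralLinearGroup.ext
      intro i j
      rw [Matrix.GeneralLinearGroup.coe_mul, hrep w hw, hrep _ hgw, mul_colmat, hgm,
        hmulvec m w hw hm])
    (by
      intro w hw
      induction hd : (look T (ofVec p w)).2.2.2 using Nat.strong_induction_on generalizing w with
      | _ d ih =>
        obtain ⟨-, -, -, h4⟩ := checkAt_spec (hat w hw)
        rcases h4 with h4 | ⟨ha, -, hc, hd', he⟩
        · have hw0 : w = ![1, 0] := by
            rw [← toVec_ofVec p w, h4]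
            ext i
            fin_cases i <;> simp [toVec]
          rw [hw0]
          have : rep ![1, 0] = 1 := by
            apply Matrix.GeneralLinearGroup.ext
            intro i j
            rw [hrep _ hv₀, hcv0, Matrix.GeneralLinearGroup.coe_one]
            fin_cases i <;> fin_cases j <;> simp [colmat]
          rw [this]
          exact Subgroup.one_mem _
        · set gi := (look T (ofVec p w)).2.2.1 with hgi
          set m := gs.getD gi (0, 0, 0, 0) with hm
          set mi := gis.getD gi (0, 0, 0, 0) with hmi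
          set v' := mv p mi (ofVec p w) with hv'
          have hmgs : m ∈ gs := by
            rw [hm, List.getD_eq_getElem _ _ ha]
            exact List.getElem_mem ha
          obtain ⟨g, hgS, hgm⟩ := hS' m hmgs
          have hw' : toVec p v' ≠ 0 := toVec_ne_zero p (mv_lt p _ _).1 (mv_lt p _ _).2 hc
          have hof : ofVec p (toVec p v') = v' := ofVec_toVec p _ (mv_lt p _ _).1 (mv_lt p _ _).2
          have hrec : rep (toVec p v') ∈ Subgroup.closure S := by
            apply ih (look T v').2.2.2 (by rw [← hd]; exact he) _ hw'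
            rw [hof]
          have h5 := hmulvec m (toVec p v') hw' hmgs
          have h6 : toMat p m *ᵥ toVec p v' = w := by
            rw [toMat_mulVec, hd', toVec_ofVec]
          have : rep w = g * rep (toVec p v') := by
            apply Matrix.GeneralLinearGroup.ext
            intro i j
            rw [Matrix.GeneralLinearGroup.coe_mul, hrep w hw, hrep _ hw', mul_colmat, hgm, h5, h6]
          rw [this]
          exact Subgroup.mul_mem _ (Subgroup.subset_closure hgS) hrec)
  rw [ZMod.card] at key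
  exact key

end main

end Cfsg.Agent.Lib.Helper12_GL2Reg
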