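import Mathlib
import Cfsg.Prelude.Def_Characters

/-!
# S4563 + S4564 (Howlett–Isaacs lemmas on fully ramified characters): shared definitions (helper76)

Vocabulary of the market `hi_packages` (proof: `pending/lead/S4563_S4564_proof.md`).
Everything lives in ONE finite group `H`; subgroups `Z ≤ Q' ≤ Q ≤ H` are `Subgroup H`, functions on a
subgroup `B` have type `↥B → ℂ`, and the operations below are TOTAL (junk value `0`), so that no proof
terms occur inside statements: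

* `ip φ ψ`      : `Cfsg.classInner` with the `Fintype` instance coming from `Finite`
* `rsH B f`     : restriction of `f : H → ℂ` to `B`
* `rs A B f`    : restriction of `f : ↥A → ℂ` to `B` (meant for `B ≤ A`)
* `cj B g f`    : the conjugate `y ↦ f (g⁻¹ y g)` of `f : ↥B → ℂ` (meant for `g ∈ N_H(B)`)
* `xi Z Q θ c`  : the function `c • θ` on `Z`, `0` off `Z`, on `Q` (meant for `Z ≤ Q`)
* `stabIn A B μ`: `{g ∈ A ∩ N_H(B) | cj B g μ = μ}` as a subgroup of `H`
* `cjAct B`     : the action of `N_H(B)` on `↥B → ℂ` by `cj` (a `def`, not an instance)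
-/

set_option autoImplicit false
open scoped ComplexConjugate

namespace Cfsg.Agent.Lib.Helper76_HIDefs

open Cfsg

section ip
variable {G : Type*} [Group G] [Finite G]

/-- `Cfsg.classInner` with the `Fintype` instance coming from `Finite` -/
noncomputable def ip (φ ψ : G → ℂ) : ℂ := @Cfsg.classInner G _ (Fintype.ofFinite G) φ ψ

theorem ip_eq_classInner [inst : Fintype G] (φ ψ : G → ℂ) : ip φ ψ = Cfsg.classInner φ ψ := by
  have h : inst = Fintype.ofFinite G := Subsingleton.elim _ _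
  subst h
  rfl

end ip

section ops
variable {H : Type*} [Group H]

/-- restriction of a function on `H` to a subgroup -/
def rsH (B : Subgroup H) (f : H → ℂ) : ↥B → ℂ := fun b => f b.1

open scoped Classical in
/-- restriction of a function on `A` to `B` (meant for `B ≤ A`; `0` outside `A`) -/
noncomputable def rs (A B : Subgroup H) (f : ↥A → ℂ) : ↥B → ℂ :=
  fun b => if h : b.1 ∈ A then f ⟨b.1, h⟩ else 0

open scoped Classical in
/-- the conjugate `y ↦ f (g⁻¹ y g)` of a function on `B` (meant for `g ∈ N_H(B)`) -/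
noncomputable def cj (B : Subgroup H) (g : H) (f : ↥B → ℂ) : ↥B → ℂ :=
  fun y => if h : g⁻¹ * y.1 * g ∈ B then f ⟨g⁻¹ * y.1 * g, h⟩ else 0

open scoped Classical in
/-- `c • θ` on `Z`, `0` off `Z`, as a function on `Q` -/
noncomputable def xi (Z Q : Subgroup H) (θ : ↥Z → ℂ) (c : ℕ) : ↥Q → ℂ :=
  fun y => if h : y.1 ∈ Z then (c : ℂ) * θ ⟨y.1, h⟩ else 0

theorem rsH_apply (B : Subgroup H) (f : H → ℂ) (b : ↥B) : rsH B f b = f b.1 := rfl

theorem rs_apply {A B : Subgroup H} (f : ↥A → ℂ) (b : ↥B) (h : b.1 ∈ A) :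
    rs A B f b = f ⟨b.1, h⟩ := by
  unfold rs
  rw [dif_pos h]

theorem rs_rsH (A B : Subgroup H) (hBA : B ≤ A) (f : H → ℂ) : rs A B (rsH A f) = rsH B f := by
  funext b
  rw [rs_apply _ _ (hBA b.2)]
  rfl

theorem cj_apply {B : Subgroup H} {g : H} (f : ↥B → ℂ) (y : ↥B) (h : g⁻¹ * y.1 * g ∈ B) :
    cj B g f y = f ⟨g⁻¹ * y.1 * g, h⟩ := by
  unfold cj
  rw [dif_pos h]

theorem conj_mem_of_mem_normalizer {B : Subgroup H} {g : H}
    (hg : g ∈ Subgroup.normalizer (B : Set H)) {y : H} (hy : y ∈ B) : g⁻¹ * y * g ∈ B :=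
  (Subgroup.mem_normalizer_iff''.mp hg y).mp hy

theorem cj_apply' {B : Subgroup H} {g : H} (hg : g ∈ Subgroup.normalizer (B : Set H))
    (f : ↥B → ℂ) (y : ↥B) :
    cj B g f y = f ⟨g⁻¹ * y.1 * g, conj_mem_of_mem_normalizer hg y.2⟩ :=
  cj_apply f y _

theorem xi_apply_mem {Z Q : Subgroup H} (θ : ↥Z → ℂ) (c : ℕ) (y : ↥Q) (h : y.1 ∈ Z) :
    xi Z Q θ c y = (c : ℂ) * θ ⟨y.1, h⟩ := by
  unfold xi
  rw [dif_pos h]

theorem xi_apply_not_mem {Z Q : Subgroup H} (θ : ↥Z → ℂ) (c : ℕ) (y : ↥Q) (h : y.1 ∉ Z) :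
    xi Z Q θ c y = 0 := by
  unfold xi
  rw [dif_neg h]

theorem cj_one (B : Subgroup H) (f : ↥B → ℂ) : cj B 1 f = f := by
  funext y
  have h : (1 : H)⁻¹ * y.1 * 1 ∈ B := by simp
  rw [cj_apply f y h]
  congr 1
  apply Subtype.ext
  simp

theorem cj_mul {B : Subgroup H} {g h : H} (hg : g ∈ Subgroup.normalizer (B : Set H))
    (hh : h ∈ Subgroup.normalizer (B : Set H)) (f : ↥B → ℂ) :
    cj B (g * h) f = cj B g (cj B h f) := by
  funext y
  rw [cj_apply' (Subgroup.mul_mem _ hg hh), cj_apply' hg, cj_apply' hh]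
  congr 1
  apply Subtype.ext
  simp only [mul_inv_rev]
  group

theorem cj_inv_cj {B : Subgroup H} {g : H} (hg : g ∈ Subgroup.normalizer (B : Set H))
    (f : ↥B → ℂ) : cj B g⁻¹ (cj B g f) = f := by
  rw [← cj_mul (Subgroup.inv_mem _ hg) hg, inv_mul_cancel, cj_one]

theorem cj_cj_inv {B : Subgroup H} {g : H} (hg : g ∈ Subgroup.normalizer (B : Set H))
    (f : ↥B → ℂ) : cj B g (cj B g⁻¹ f) = f := by
  rw [← cj_mul hg (Subgroup.inv_mem _ hg), mul_inv_cancel, cj_one]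

/-- the stabilizer of `μ` in `A ∩ N_H(B)` -/
def stabIn (A B : Subgroup H) (μ : ↥B → ℂ) : Subgroup H where
  carrier := {g | g ∈ A ∧ g ∈ Subgroup.normalizer (B : Set H) ∧ cj B g μ = μ}
  mul_mem' := by
    rintro g h ⟨hgA, hgN, hg⟩ ⟨hhA, hhN, hh⟩
    exact ⟨A.mul_mem hgA hhA, Subgroup.mul_mem _ hgN hhN, by rw [cj_mul hgN hhN, hh, hg]⟩
  one_mem' := ⟨A.one_mem, Subgroup.one_mem _, cj_one B μ⟩
  inv_mem' := by
    rintro g ⟨hgA, hgN, hg⟩
    refine ⟨A.inv_mem hgA, Subgroup.inv_mem _ hgN, ?_⟩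
    conv_lhs => rw [← hg]
    exact cj_inv_cj hgN μ

theorem mem_stabIn {A B : Subgroup H} {μ : ↥B → ℂ} {g : H} :
    g ∈ stabIn A B μ ↔ g ∈ A ∧ g ∈ Subgroup.normalizer (B : Set H) ∧ cj B g μ = μ := Iff.rfl

theorem stabIn_le (A B : Subgroup H) (μ : ↥B → ℂ) : stabIn A B μ ≤ A := fun _ hg => hg.1

/-- the action of `N_H(B)` on the functions on `B` by conjugation (a `def`, not an instance) -/
@[reducible] noncomputable def cjAct (B : Subgroup H) :
    MulAction ↥(Subgroup.normalizer (B : Set H)) (↥B → ℂ) where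
  smul g f := cj B g.1 f
  one_smul f := cj_one B f
  mul_smul g h f := cj_mul g.2 h.2 f

theorem cjAct_smul (B : Subgroup H) (g : ↥(Subgroup.normalizer (B : Set H))) (f : ↥B → ℂ) :
    (cjAct B).toSMul.smul g f = cj B g.1 f := rfl

end ops

/-- the fully ramified situation: `χ ∈ Irr(H)`, `θ ∈ Irr(Z)`, `χ_Z = e θ`, `e² = |H : Z|`,
`Z ≤ K`, both normal in `H`, and `p` a prime -/
structure Ctx {H : Type*} [Group H] (Z K : Subgroup H) (χ : H → ℂ) (θ : ↥Z → ℂ) (e p : ℕ) :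
    Prop where
  nZ : Z.Normal
  nK : K.Normal
  hZK : Z ≤ K
  hχ : Cfsg.IsIrrCharacter H χ
  hθ : Cfsg.IsIrrCharacter ↥Z θ
  he : e ^ 2 = Z.index
  hres : ∀ z : ↥Z, χ z.1 = (e : ℂ) * θ z
  hp : p.Prime

end Cfsg.Agent.Lib.Helper76_HIDefs
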