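import Mathlib
import Cfsg.Prelude.Def_Characters
import Cfsg.Agent.Lib.Helper76_HIDefs
import Cfsg.Agent.Lib.Helper75_Clifford

/-!
# HI market (helper76, S4563 + S4564), package CIND: (C-ind)

If `χ = indFun K φ` is induced from the normal subgroup `K` and `μ ∈ Irr(Q ∩ K)`, then
`|T : Q ∩ K|` divides `[χ_{Q ∩ K}, μ]`, where `T` is the stabiliser of `μ` in `Q`.
-/

set_option autoImplicit false
open scoped ComplexConjugate

namespace Cfsg.Agent.Lib.Helper12_HI_CIND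

open Cfsg Cfsg.Agent.Lib.Helper76_HIDefs

/-- the sum of a function invariant under right multiplication by `L` is divisible by `|L|` -/
theorem h12sum_right_inv {H : Type*} [Group H] [Fintype H] (L : Subgroup H) (m : H → ℕ)
    (hm : ∀ x : H, ∀ l ∈ L, m (x * l) = m x) :
    ∃ F : ℕ, ∑ x : H, m x = Nat.card L * F := by
  classical
  obtain ⟨S, hS, -⟩ := Subgroup.exists_isComplement_left L 1
  have : Fintype ↥S := Fintype.ofFinite _
  have : Fintype ↥L := Fintype.ofFinite _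
  let e : ↥S × ↥L ≃ H := Equiv.ofBijective _ hS
  have he : ∀ p : ↥S × ↥L, e p = p.1.1 * p.2.1 := fun _ => rfl
  refine ⟨∑ s : ↥S, m s.1, ?_⟩
  rw [← Fintype.sum_equiv e (fun p => m (e p)) m (fun _ => rfl), Fintype.sum_prod_type,
    Finset.mul_sum]
  apply Finset.sum_congr rfl
  intro s _
  have h1 : ∀ l : ↥L, m (e (s, l)) = m s.1 := fun l => by rw [he]; exact hm s.1 l.1 l.2
  simp only [h1]
  rw [Finset.sum_const, Finset.card_univ, smul_eq_mul, Nat.card_eq_fintype_card]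

/-- **CIND**: `|T_Q : Q'|` divides `[χ_{Q'}, μ]` if `χ` is induced from `K`. -/
theorem ind_div {H : Type*} [Group H] [Fintype H] (K : Subgroup H) (nK : K.Normal)
    (φ : ↥K → ℂ) (hφ : Cfsg.IsCharacter ↥K φ) (Q : Subgroup H)
    (μ : ↥(Q ⊓ K : Subgroup H) → ℂ) (hμ : Cfsg.IsIrrCharacter ↥(Q ⊓ K : Subgroup H) μ) :
    ∃ F : ℕ, ip (rsH (Q ⊓ K) (Cfsg.indFun K φ)) μ =
      (((Q ⊓ K).relIndex (stabIn Q (Q ⊓ K) μ) * F : ℕ) : ℂ) := by
  classical
  have hQ'K : Q ⊓ K ≤ K := inf_le_right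
  -- the inclusion `Q' → K`
  let ι : ↥(Q ⊓ K : Subgroup H) →* ↥K := Subgroup.inclusion hQ'K
  have hι : ∀ y : ↥(Q ⊓ K : Subgroup H), ((ι y : ↥K) : H) = y.1 := fun _ => rfl
  -- the multiplicity function
  let Fc : H → ℂ := fun x =>
    ip (fun y : ↥(Q ⊓ K : Subgroup H) => Cfsg.Agent.Lib.Helper75_Clifford.conjFun K nK φ x (ι y)) μ
  have hFc : ∀ x, Fc x =
      ip (fun y : ↥(Q ⊓ K : Subgroup H) => Cfsg.Agent.Lib.Helper75_Clifford.conjFun K nK φ x (ι y)) μ := fun _ => rfl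
  -- Step 1: the inner product is the average of `Fc`
  have step1 : ip (rsH (Q ⊓ K) (Cfsg.indFun K φ)) μ = (Nat.card K : ℂ)⁻¹ * ∑ x : H, Fc x := by
    simp only [hFc]
    unfold ip Cfsg.classInner
    have h1 : ∀ y : ↥(Q ⊓ K : Subgroup H), rsH (Q ⊓ K) (Cfsg.indFun K φ) y =
        (Nat.card K : ℂ)⁻¹ * ∑ x : H, Cfsg.Agent.Lib.Helper75_Clifford.conjFun K nK φ x (ι y) := by
      intro y
      rw [rsH_apply, ← hι y]
      exact Cfsg.Agent.Lib.Helper75_Clifford.indFun_restrict_normal K nK φ (ι y)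
    simp only [h1]
    rw [← Finset.mul_sum, ← mul_assoc, mul_comm (Nat.card K : ℂ)⁻¹, mul_assoc]
    congr 1
    rw [Finset.sum_comm, Finset.mul_sum]
    apply Finset.sum_congr rfl
    intro y _
    rw [mul_assoc, Finset.sum_mul]
  -- Step 2: `Fc x` is a natural number
  have hφcl : Cfsg.IsClassFunction ↥K φ :=
    Cfsg.Agent.Lib.Helper3_CharBridge.isClassFunction_of_isCharacter hφ
  have hnat : ∀ x : H, ∃ n : ℕ, Fc x = (n : ℂ) := by
    intro x
    have hc : Cfsg.IsCharacter ↥(Q ⊓ K : Subgroup H)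
        (fun y : ↥(Q ⊓ K : Subgroup H) => Cfsg.Agent.Lib.Helper75_Clifford.conjFun K nK φ x (ι y)) :=
      Cfsg.Agent.Lib.Helper75_CharArith.isCharacter_comp ι
        (Cfsg.Agent.Lib.Helper75_Clifford.isCharacter_conjFun K nK hφ x)
    exact @Cfsg.Agent.Lib.Helper75_CharArith.classInner_isCharacter_nat _ _ (Fintype.ofFinite _) _ _
      hc (Cfsg.Agent.Lib.Helper3_CharBridge.isCharacter_of_isIrrCharacter hμ)
  choose m hm using hnat
  -- Step 3: invariance under `K`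
  have hinvK : ∀ x : H, ∀ k ∈ K, Fc (x * k) = Fc x := by
    intro x k hk
    have : Cfsg.Agent.Lib.Helper75_Clifford.conjFun K nK φ (x * k) =
        Cfsg.Agent.Lib.Helper75_Clifford.conjFun K nK φ x := by
      rw [← Cfsg.Agent.Lib.Helper75_Clifford.conjFun_conjFun]
      exact Cfsg.Agent.Lib.Helper75_Clifford.conjFun_of_mem K nK
        (Cfsg.Agent.Lib.Helper75_Clifford.isClassFunction_conjFun K nK hφcl x) ⟨k, hk⟩
    simp only [hFc, this]
  -- Step 4: invariance under `T`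
  have hinvT : ∀ x : H, ∀ t ∈ stabIn Q (Q ⊓ K) μ, Fc (x * t) = Fc x := by
    intro x t ht
    obtain ⟨htQ, htN, htμ⟩ := mem_stabIn.mp ht
    have htinv : t⁻¹ ∈ stabIn Q (Q ⊓ K) μ := Subgroup.inv_mem _ ht
    obtain ⟨-, htN', htμ'⟩ := mem_stabIn.mp htinv
    -- conjugation by `t` on `Q'`
    have hmem1 : ∀ y : ↥(Q ⊓ K : Subgroup H), t * y.1 * t⁻¹ ∈ Q ⊓ K := fun y =>
      (Subgroup.mem_normalizer_iff.mp htN y.1).mp y.2
    have hmem2 : ∀ y : ↥(Q ⊓ K : Subgroup H), t⁻¹ * y.1 * t ∈ Q ⊓ K := fun y => conj_mem_of_mem_normalizer htN y.2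
    let σ : ↥(Q ⊓ K : Subgroup H) ≃ ↥(Q ⊓ K : Subgroup H) :=
      { toFun := fun y => ⟨t * y.1 * t⁻¹, hmem1 y⟩
        invFun := fun y => ⟨t⁻¹ * y.1 * t, hmem2 y⟩
        left_inv := fun y => by apply Subtype.ext; simp [mul_assoc]
        right_inv := fun y => by apply Subtype.ext; simp [mul_assoc] }
    have hσ : ∀ y : ↥(Q ⊓ K : Subgroup H), (σ y).1 = t * y.1 * t⁻¹ := fun _ => rfl
    -- `μ (σ y) = μ y`
    have hμσ : ∀ y : ↥(Q ⊓ K : Subgroup H), μ (σ y) = μ y := by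
      intro y
      have h1 := congrFun htμ' y
      rw [cj_apply' htN'] at h1
      rw [← h1]
      congr 1
      apply Subtype.ext
      simp [hσ]
    -- `φ^{xt} (ι y) = φ^x (ι (σ y))`
    have hφσ : ∀ y : ↥(Q ⊓ K : Subgroup H), Cfsg.Agent.Lib.Helper75_Clifford.conjFun K nK φ (x * t) (ι y) =
        Cfsg.Agent.Lib.Helper75_Clifford.conjFun K nK φ x (ι (σ y)) := by
      intro y
      rw [Cfsg.Agent.Lib.Helper75_Clifford.conjFun_apply,
        Cfsg.Agent.Lib.Helper75_Clifford.conjFun_apply]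
      congr 1
      apply Subtype.ext
      simp only [hι, hσ, mul_inv_rev]
      group
    simp only [hFc]
    unfold ip Cfsg.classInner
    congr 1
    have h2 : ∀ y : ↥(Q ⊓ K : Subgroup H), Cfsg.Agent.Lib.Helper75_Clifford.conjFun K nK φ (x * t) (ι y) * conj (μ y) =
        (fun y' : ↥(Q ⊓ K : Subgroup H) => Cfsg.Agent.Lib.Helper75_Clifford.conjFun K nK φ x (ι y') * conj (μ y')) (σ y) := by
      intro y
      simp only [hφσ y, hμσ y]
    simp only [h2]
    let _ : Fintype ↥(Q ⊓ K : Subgroup H) := Fintype.ofFinite _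
    exact Equiv.sum_comp σ (fun y' : ↥(Q ⊓ K : Subgroup H) =>
      Cfsg.Agent.Lib.Helper75_Clifford.conjFun K nK φ x (ι y') * conj (μ y'))
  -- Step 5: invariance under `L = stabIn Q (Q ⊓ K) μ ⊔ K`
  let R : Subgroup H :=
    { carrier := {l | ∀ x : H, Fc (x * l) = Fc x}
      mul_mem' := by
        intro a b ha hb x
        rw [← mul_assoc, hb, ha]
      one_mem' := by intro x; rw [mul_one]
      inv_mem' := by
        intro a ha x
        have := ha (x * a⁻¹)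
        rw [inv_mul_cancel_right] at this
        exact this.symm }
  have hTR : stabIn Q (Q ⊓ K) μ ≤ R := fun t ht x => hinvT x t ht
  have hKR : K ≤ R := fun k hk x => hinvK x k hk
  have hLR : stabIn Q (Q ⊓ K) μ ⊔ K ≤ R := sup_le hTR hKR
  have hminv : ∀ x : H, ∀ l ∈ stabIn Q (Q ⊓ K) μ ⊔ K, m (x * l) = m x := by
    intro x l hl
    have h1 : Fc (x * l) = Fc x := hLR hl x
    rw [hm, hm] at h1
    exact_mod_cast h1
  obtain ⟨F₀, hF₀⟩ := h12sum_right_inv (stabIn Q (Q ⊓ K) μ ⊔ K) m hminv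
  -- Step 6: cardinalities
  have hcardL : Nat.card ↥(stabIn Q (Q ⊓ K) μ ⊔ K) = Nat.card ↥K * K.relIndex (stabIn Q (Q ⊓ K) μ) := by
    have h1 := Subgroup.relIndex_mul_relIndex (H := (⊥ : Subgroup H)) (K := K) (L := stabIn Q (Q ⊓ K) μ ⊔ K)
      bot_le le_sup_right
    have := nK
    rw [Subgroup.relIndex_bot_left, Subgroup.relIndex_bot_left, Subgroup.relIndex_sup_right] at h1
    exact h1.symm
  have hTQ : stabIn Q (Q ⊓ K) μ ≤ Q := stabIn_le Q (Q ⊓ K) μ
  have hrel : (Q ⊓ K).relIndex (stabIn Q (Q ⊓ K) μ) = K.relIndex (stabIn Q (Q ⊓ K) μ) := by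
    rw [← Subgroup.inf_relIndex_right (H := Q ⊓ K) (K := stabIn Q (Q ⊓ K) μ), ← Subgroup.inf_relIndex_right (H := K) (K := stabIn Q (Q ⊓ K) μ)]
    congr 1
    apply le_antisymm
    · exact inf_le_inf_right _ inf_le_right
    · exact le_inf (le_inf (inf_le_right.trans hTQ) inf_le_left) inf_le_right
  refine ⟨F₀, ?_⟩
  rw [step1]
  have hsum : ∑ x : H, Fc x = ((∑ x : H, m x : ℕ) : ℂ) := by
    rw [Nat.cast_sum]
    exact Finset.sum_congr rfl (fun x _ => hm x)
  rw [hsum, hF₀, hcardL, hrel]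
  have hK0 : (Nat.card ↥K : ℂ) ≠ 0 := by
    exact_mod_cast (Nat.card_pos (α := ↥K)).ne'
  push_cast
  field_simp

end Cfsg.Agent.Lib.Helper12_HI_CIND
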