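import Mathlib

/-!
# Helper4_HTDefs: definitions for S3371 (Passman: half-transitive `p`-groups of linear maps)

`ρ : G →* (V ≃ₗ[ZMod q] V)`; `stab ρ v` the stabilizer of a vector; `HalfT ρ s`: every nonzero vector has
a stabilizer of order `s`; `Inv`, `Irr` invariance / irreducibility; `Imprim p ρ H W`: the imprimitivity
datum produced by the landed `Cfsg.Agent.S3380.result`; `DihLike G z N`: the group-theoretic facts shared
by dihedral and quasidihedral 2-groups.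
-/

set_option autoImplicit false

namespace Cfsg.Agent.Lib.Helper4_HTDefs

variable {q : ℕ} {V : Type*} [AddCommGroup V] [Module (ZMod q) V] {G : Type*} [Group G]

/-- the stabilizer of a vector -/
def stab (ρ : G →* (V ≃ₗ[ZMod q] V)) (v : V) : Subgroup G where
  carrier := {g | ρ g v = v}
  mul_mem' {a b} ha hb := by
    show ρ (a * b) v = v
    rw [map_mul, LinearEquiv.mul_apply, show ρ b v = v from hb, show ρ a v = v from ha]
  one_mem' := by
    show ρ 1 v = v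
    rw [map_one]; rfl
  inv_mem' {a} ha := by
    show ρ a⁻¹ v = v
    have h : ρ a v = v := ha
    calc ρ a⁻¹ v = ρ a⁻¹ (ρ a v) := by rw [h]
      _ = (ρ a⁻¹ * ρ a) v := rfl
      _ = v := by rw [← map_mul, inv_mul_cancel, map_one]; rfl

theorem mem_stab (ρ : G →* (V ≃ₗ[ZMod q] V)) (v : V) (g : G) : g ∈ stab ρ v ↔ ρ g v = v := Iff.rfl

/-- every nonzero vector has a stabilizer of order `s` -/
def HalfT (ρ : G →* (V ≃ₗ[ZMod q] V)) (s : ℕ) : Prop :=
  ∀ v : V, v ≠ 0 → Nat.card (stab ρ v) = s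

/-- `W` is `G`-invariant -/
def Inv (ρ : G →* (V ≃ₗ[ZMod q] V)) (W : Submodule (ZMod q) V) : Prop :=
  ∀ g : G, ∀ w ∈ W, ρ g w ∈ W

/-- irreducibility, in the shape of the hypothesis of `Cfsg.Agent.S3380.result` -/
def Irr (ρ : G →* (V ≃ₗ[ZMod q] V)) : Prop :=
  ∀ W : Submodule (ZMod q) V, (∀ g : G, ∀ w ∈ W, ρ g w ∈ W) → W = ⊥ ∨ W = ⊤

/-- the imprimitivity datum: the conclusion of `Cfsg.Agent.S3380.result` -/
def Imprim (p : ℕ) (ρ : G →* (V ≃ₗ[ZMod q] V)) (H : Subgroup G)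
    (W : Fin p → Submodule (ZMod q) V) : Prop :=
  H.index = p ∧
    iSup W = ⊤ ∧ iSupIndep W ∧
    (∀ h ∈ H, ∀ i, ∀ w ∈ W i, ρ h w ∈ W i) ∧
    (∀ i, ∃ h ∈ H, h ≠ 1 ∧ ∀ w ∈ W i, ρ h w = w) ∧
    ∀ g : G, g ∉ H → ∃ σ : Equiv.Perm (Fin p), orderOf σ = p ∧
      ∀ i, (W i).map (ρ g : V →ₗ[ZMod q] V) = W (σ i)

/-- the facts shared by dihedral and quasidihedral 2-groups: `z` is a central involution, a subgroup
meeting the centre trivially has order at most 2, every involution `t ≠ z` is conjugate to `t * z`,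
and there are exactly `N` involutions other than `z`. -/
def DihLike (G : Type*) [Group G] (z : G) (N : ℕ) : Prop :=
  z ∈ Subgroup.center G ∧ z ≠ 1 ∧ z ^ 2 = 1 ∧
    (∀ H : Subgroup G, (∀ h ∈ H, h ∈ Subgroup.center G → h = 1) → Nat.card H ≤ 2) ∧
    (∀ t : G, t ^ 2 = 1 → t ≠ 1 → t ≠ z → ∃ g : G, g * t * g⁻¹ = t * z) ∧
    Nat.card {t : G // t ^ 2 = 1 ∧ t ≠ 1 ∧ t ≠ z} = N

end Cfsg.Agent.Lib.Helper4_HTDefs
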