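import Mathlib
import Cfsg.Agent.Lib.Helper4_HTDefs

/-!
# S3371-DL1 (package of helper4's Passman market; formalized by helper12)

In a `DihLike` group with common stabilizer order `s ≠ 1`: `s = 2` and the central involution `z`
acts as `-1`.
-/

set_option autoImplicit false

namespace Cfsg.Agent.Lib.Helper12_HT_DL1

open Cfsg.Agent.Lib.Helper4_HTDefs

variable {q : ℕ} [Fact q.Prime] {V : Type*} [AddCommGroup V] [Module (ZMod q) V] [Finite V]
  {G : Type*} [Group G] [Finite G]

theorem dl1 [Nontrivial V] (ρ : G →* (V ≃ₗ[ZMod q] V)) (s : ℕ) (hs : HalfT ρ s) (hs1 : s ≠ 1)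
    (hcent : ∀ v : V, v ≠ 0 → ∀ g ∈ Subgroup.center G, ρ g v = v → g = 1)
    (z : G) (N : ℕ) (hdl : DihLike G z N) : s = 2 ∧ ∀ v : V, ρ z v = -v := by
  obtain ⟨hzc, hz1, hz2, hsub, -, -⟩ := hdl
  constructor
  · obtain ⟨v0, hv0⟩ := exists_ne (0 : V)
    have hcard := hs v0 hv0
    have hle : Nat.card (stab ρ v0) ≤ 2 := by
      apply hsub
      intro h hh hhc
      exact hcent v0 hv0 h hhc ((mem_stab ρ v0 h).mp hh)
    have hpos : 0 < Nat.card (stab ρ v0) := Nat.card_pos
    omega
  · intro v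
    have hw : ρ z (ρ z v + v) = ρ z v + v := by
      rw [map_add]
      have : ρ z (ρ z v) = v := by
        calc ρ z (ρ z v) = (ρ z * ρ z) v := rfl
          _ = ρ (z ^ 2) v := by rw [pow_two, map_mul]
          _ = v := by rw [hz2, map_one]; rfl
      rw [this, add_comm]
    by_cases h0 : ρ z v + v = 0
    · exact eq_neg_of_add_eq_zero_left h0
    · exact absurd (hcent _ h0 z hzc hw) hz1

end Cfsg.Agent.Lib.Helper12_HT_DL1
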