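import Mathlib
import Cfsg.Agent.Lib.Helper71_QuatLift

/-!
# Recognising `SL(2,3)` (helper2)

`M23 = Q8 ⋊ C3` with the standard automorphism of order three.  Given elements `i j c` of a group `L`
with `i ^ 4 = 1`, `j * j = i ^ 2`, `i * j * i = j`, `c ^ 3 = 1`, `c * i * c⁻¹ = j`,
`c * j * c⁻¹ = i * j` we get a homomorphism `liftM : M23 →* L`; `M23 ≃* SL(2,3)` (`equivSL`).
-/

set_option autoImplicit false
set_option linter.unusedSectionVars false

namespace Cfsg.Agent.Lib.Helper2_SL23

open QuaternionGroup Cfsg.Agent.Lib.Helper71_QuatLift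

/-- the quaternion group of order 8 -/
abbrev Q8 := QuaternionGroup 2

/-- `SL(2,3)` -/
abbrev SL23 := Matrix.SpecialLinearGroup (Fin 2) (ZMod 3)

section c3

variable {L : Type*} [Group L]

/-- the homomorphism from the cyclic group of order three determined by an element of order
dividing three -/
def c3Hom (c : L) (hc : c ^ 3 = 1) : Multiplicative (ZMod 3) →* L where
  toFun k := c ^ (Multiplicative.toAdd k).val
  map_one' := by simp
  map_mul' a b := by
    change c ^ (Multiplicative.toAdd (a * b)).val = _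
    rw [toAdd_mul, ZMod.val_add, ← pow_eq_pow_mod _ hc, pow_add]

theorem c3Hom_apply (c : L) (hc : c ^ 3 = 1) (k : Multiplicative (ZMod 3)) :
    c3Hom c hc k = c ^ (Multiplicative.toAdd k).val := rfl

theorem c3Hom_gen (c : L) (hc : c ^ 3 = 1) : c3Hom c hc (Multiplicative.ofAdd 1) = c := by
  rw [c3Hom_apply, toAdd_ofAdd]
  have : (1 : ZMod 3).val = 1 := rfl
  rw [this, pow_one]

end c3

/-- the standard endomorphism of `Q8` of order three -/
def sigmaHom : Q8 →* Q8 := quatLift (xa 0) (xa 3) (by decide) (by decide) (by decide)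

theorem sigmaHom_cube (q : Q8) : sigmaHom (sigmaHom (sigmaHom q)) = q := by
  revert q; decide

theorem sigmaHom_a_one : sigmaHom (a 1) = xa 0 := by decide

theorem sigmaHom_xa_zero : sigmaHom (xa 0) = xa 3 := by decide

/-- the standard automorphism of `Q8` of order three -/
def sigma : MulAut Q8 where
  toFun := sigmaHom
  invFun q := sigmaHom (sigmaHom q)
  left_inv q := sigmaHom_cube q
  right_inv q := sigmaHom_cube q
  map_mul' := sigmaHom.map_mul

theorem sigma_apply (q : Q8) : sigma q = sigmaHom q := rfl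

theorem sigma_cube : sigma ^ 3 = 1 := by
  ext q
  change sigma (sigma (sigma q)) = q
  exact sigmaHom_cube q

/-- the action of `C3` on `Q8` -/
def phi0 : Multiplicative (ZMod 3) →* MulAut Q8 := c3Hom sigma sigma_cube

/-- the model `Q8 ⋊ C3` -/
abbrev M23 := Q8 ⋊[phi0] Multiplicative (ZMod 3)

theorem card_M23 : Nat.card M23 = 24 := by
  rw [SemidirectProduct.card, Nat.card_eq_fintype_card, QuaternionGroup.card,
    Nat.card_eq_fintype_card, Fintype.card_multiplicative, ZMod.card]

theorem closure_gens : Subgroup.closure ({a 1, xa 0} : Set Q8) = ⊤ := by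
  rw [eq_top_iff]
  intro q _
  have ha : ∀ k : ZMod 4, (a k : Q8) ∈ Subgroup.closure ({a 1, xa 0} : Set Q8) := by
    intro k
    have h1 : (a k : Q8) = (a 1) ^ k.val := by
      rw [QuaternionGroup.a_one_pow, ZMod.natCast_zmod_val]
    rw [h1]
    exact Subgroup.pow_mem _ (Subgroup.subset_closure (by simp)) _
  rcases q with k | k
  · exact ha k
  · have h1 : (xa k : Q8) = xa 0 * a k := by rw [xa_mul_a, zero_add]
    rw [h1]
    exact Subgroup.mul_mem _ (Subgroup.subset_closure (by simp)) (ha k)

section lift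

variable {L : Type*} [Group L] (i j c : L) (hi : i ^ (2 * 2) = 1) (hj : j * j = i ^ 2)
  (hij : i * j * i = j) (hc : c ^ 3 = 1) (hci : c * i * c⁻¹ = j) (hcj : c * j * c⁻¹ = i * j)

include hci hcj in
theorem compat_one : (quatLift i j hi hj hij).comp sigma.toMonoidHom =
    (MulAut.conj c).toMonoidHom.comp (quatLift i j hi hj hij) := by
  apply MonoidHom.eq_of_eqOn_dense closure_gens
  intro q hq
  rcases hq with rfl | rfl
  · change quatLift i j hi hj hij (sigmaHom (a 1)) = c * quatLift i j hi hj hij (a 1) * c⁻¹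
    rw [sigmaHom_a_one]
    change j * i ^ (0 : ZMod 4).val = c * i ^ (1 : ZMod 4).val * c⁻¹
    have h0 : (0 : ZMod 4).val = 0 := rfl
    have h1 : (1 : ZMod 4).val = 1 := rfl
    rw [h0, h1, pow_zero, pow_one, mul_one, hci]
  · change quatLift i j hi hj hij (sigmaHom (xa 0)) = c * quatLift i j hi hj hij (xa 0) * c⁻¹
    rw [sigmaHom_xa_zero]
    change j * i ^ (3 : ZMod 4).val = c * (j * i ^ (0 : ZMod 4).val) * c⁻¹
    have h0 : (0 : ZMod 4).val = 0 := rfl
    have h3 : (3 : ZMod 4).val = 3 := rfl
    rw [h0, h3, pow_zero, mul_one, hcj]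
    -- j * i^3 = i * j
    have h4 : i ^ 3 * i = 1 := by rw [← pow_succ]; exact hi
    calc j * i ^ 3 = (i * j * i) * i ^ 3 := by rw [hij]
      _ = i * j * (i * i ^ 3) := by simp only [mul_assoc]
      _ = i * j := by rw [← pow_succ', hi, mul_one]

include hci hcj in
theorem compat_pow (n : ℕ) : (quatLift i j hi hj hij).comp (sigma ^ n).toMonoidHom =
    (MulAut.conj (c ^ n)).toMonoidHom.comp (quatLift i j hi hj hij) := by
  induction n with
  | zero =>
    ext q
    simp
  | succ n ih =>
    ext q
    have h1 := DFunLike.congr_fun ih q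
    have h2 := DFunLike.congr_fun (compat_one i j c hi hj hij hci hcj) ((sigma ^ n) q)
    simp only [MonoidHom.comp_apply, MulEquiv.coe_toMonoidHom, MulAut.conj_apply] at h1 h2 ⊢
    rw [pow_succ', MulAut.mul_apply, h2, h1, pow_succ']
    group

include hci hcj in
theorem compat (g : Multiplicative (ZMod 3)) :
    (quatLift i j hi hj hij).comp (phi0 g).toMonoidHom =
      (MulAut.conj (c3Hom c hc g)).toMonoidHom.comp (quatLift i j hi hj hij) :=
  compat_pow i j c hi hj hij hci hcj (Multiplicative.toAdd g).val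

/-- the homomorphism from the model -/
def liftM : M23 →* L :=
  SemidirectProduct.lift (quatLift i j hi hj hij) (c3Hom c hc) (compat i j c hi hj hij hc hci hcj)

theorem liftM_apply (x : M23) : liftM i j c hi hj hij hc hci hcj x =
    quatLift i j hi hj hij x.left * c ^ (Multiplicative.toAdd x.right).val := by
  conv_lhs => rw [← SemidirectProduct.inl_left_mul_inr_right x]
  rw [map_mul]
  unfold liftM
  rw [SemidirectProduct.lift_inl, SemidirectProduct.lift_inr, c3Hom_apply]

theorem liftM_surjective (hgen : Subgroup.closure ({i, j, c} : Set L) = ⊤) :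
    Function.Surjective (liftM i j c hi hj hij hc hci hcj) := by
  rw [← MonoidHom.range_eq_top, eq_top_iff, ← hgen, Subgroup.closure_le]
  intro x hx
  rcases hx with rfl | rfl | rfl
  · refine ⟨SemidirectProduct.inl (a 1), ?_⟩
    unfold liftM
    rw [SemidirectProduct.lift_inl]
    change x ^ (1 : ZMod 4).val = x
    have h1 : (1 : ZMod 4).val = 1 := rfl
    rw [h1, pow_one]
  · refine ⟨SemidirectProduct.inl (xa 0), ?_⟩
    unfold liftM
    rw [SemidirectProduct.lift_inl]
    change x * i ^ (0 : ZMod 4).val = x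
    have h0 : (0 : ZMod 4).val = 0 := rfl
    rw [h0, pow_zero, mul_one]
  · refine ⟨SemidirectProduct.inr (Multiplicative.ofAdd 1), ?_⟩
    unfold liftM
    rw [SemidirectProduct.lift_inr, c3Hom_gen]

theorem liftM_injective
    (h : ∀ (q : Q8) (m : ZMod 3), quatLift i j hi hj hij q * c ^ m.val = 1 → q = 1 ∧ m = 0) :
    Function.Injective (liftM i j c hi hj hij hc hci hcj) := by
  rw [injective_iff_map_eq_one]
  intro x hx
  rw [liftM_apply] at hx
  obtain ⟨h1, h2⟩ := h _ _ hx
  apply SemidirectProduct.ext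
  · exact h1
  · exact h2

end lift

/-! ### `SL(2,3)` -/

/-- generators of `SL(2,3)` -/
def mI : SL23 := ⟨!![0, 1; 2, 0], by decide⟩
/-- generators of `SL(2,3)` -/
def mJ : SL23 := ⟨!![2, 1; 1, 1], by decide⟩
/-- generators of `SL(2,3)` -/
def mC : SL23 := ⟨!![1, 0; 1, 1], by decide⟩

theorem card_SL23 : Nat.card SL23 = 24 := by
  rw [Nat.card_eq_fintype_card]
  decide

/-- the isomorphism of the model with `SL(2,3)` -/
noncomputable def equivSL : M23 ≃* SL23 := by
  refine MulEquiv.ofBijective
    (liftM mI mJ mC (by decide) (by decide) (by decide) (by decide) (by decide) (by decide)) ?_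
  have hinj : Function.Injective
      (liftM mI mJ mC (by decide) (by decide) (by decide) (by decide) (by decide) (by decide)) := by
    apply liftM_injective
    decide
  exact (Nat.bijective_iff_injective_and_card _).2 ⟨hinj, by rw [card_M23, card_SL23]⟩

/-- Recognition: a group of order 24 generated by `i j c` with the standard relations is `SL(2,3)`.
(Injective form.) -/
theorem nonempty_mulEquiv_SL23 {L : Type*} [Group L] (i j c : L) (hi : i ^ (2 * 2) = 1)
    (hj : j * j = i ^ 2) (hij : i * j * i = j) (hc : c ^ 3 = 1) (hci : c * i * c⁻¹ = j)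
    (hcj : c * j * c⁻¹ = i * j) (hgen : Subgroup.closure ({i, j, c} : Set L) = ⊤)
    (h : ∀ (q : Q8) (m : ZMod 3), quatLift i j hi hj hij q * c ^ m.val = 1 → q = 1 ∧ m = 0) :
    Nonempty (L ≃* SL23) := by
  have hb : Function.Bijective (liftM i j c hi hj hij hc hci hcj) :=
    ⟨liftM_injective i j c hi hj hij hc hci hcj h, liftM_surjective i j c hi hj hij hc hci hcj hgen⟩
  exact ⟨(MulEquiv.ofBijective _ hb).symm.trans equivSL⟩

end Cfsg.Agent.Lib.Helper2_SL23
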