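import Mathlib
import Cfsg.Agent.Lib.Helper2_SL23
import Cfsg.Agent.Lib.Helper2_Q8Aut
import Cfsg.Agent.Lib.Helper71_QuatLift

set_option autoImplicit false

/-!
A subgroup `R ≅ Q₈` of a group normalized by an element `c` with `c³ = 1` acting nontrivially:
`R⟨c⟩ ≅ SL₂(3)` (helper41).  Also: a `p`-element normalizing a `p'`-subgroup `R` normalizes a Sylow
`r`-subgroup of `R`.
-/

namespace Cfsg.Agent.Lib.Helper41_Q8Act

open QuaternionGroup Cfsg.Agent.Lib.Helper71_QuatLift Cfsg.Agent.Lib.Helper2_SL23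

theorem Q8_ne_one : ∀ q : QuaternionGroup 2, q ≠ 1 → q = a 2 ∨ q * q = a 2 := by decide

theorem quatLift_injective {M : Type*} [Group M] (A X : M) (hA : A ^ (2 * 2) = 1)
    (hX : X * X = A ^ 2) (hAX : A * X * A = X) (hA2 : A ^ 2 ≠ 1) :
    Function.Injective (quatLift A X hA hX hAX) := by
  rw [injective_iff_map_eq_one]
  intro q hq
  by_contra hne
  apply hA2
  have h2 : quatLift A X hA hX hAX (a 2) = A ^ 2 := by
    rw [quatLift_a]
    rfl
  rw [← h2]
  rcases Q8_ne_one q hne with h | h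
  · rw [← h, hq]
  · rw [← h, map_mul, hq, one_mul]

/-- `R ≅ Q₈` normalized by `c` with `c³ = 1` acting nontrivially: `R⟨c⟩ ≅ SL₂(3)`. -/
theorem nonempty_mulEquiv_SL23_of_act {G : Type*} [Group G] (R : Subgroup G)
    (θ : ↥R ≃* QuaternionGroup 2) (c : G) (hcR : c ∈ Subgroup.normalizer (R : Set G))
    (hc3 : c ^ 3 = 1) (hne : ∃ x ∈ R, c * x * c⁻¹ ≠ x) :
    Nonempty (↥(R ⊔ Subgroup.zpowers c) ≃* Matrix.SpecialLinearGroup (Fin 2) (ZMod 3)) := by
  classical
  have hRfin : Finite ↥R := Finite.of_equiv _ θ.symm.toEquiv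
  have hRcard : Nat.card ↥R = 8 := by
    rw [Nat.card_congr θ.toEquiv, Nat.card_eq_fintype_card, QuaternionGroup.card]
  set cN : Subgroup.normalizer (R : Set G) := ⟨c, hcR⟩ with hcN
  set α : MulAut ↥R := R.normalizerMonoidHom cN with hα
  have hα_apply : ∀ q : ↥R, ((α q : ↥R) : G) = c * q * c⁻¹ := fun q => rfl
  have hα3 : α ^ 3 = 1 := by
    rw [hα, ← map_pow]
    have : cN ^ 3 = 1 := Subtype.ext (by simp [hcN, hc3])
    rw [this, map_one]
  have hα1 : α ≠ 1 := by
    intro h1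
    obtain ⟨x, hxR, hx⟩ := hne
    apply hx
    have := hα_apply ⟨x, hxR⟩
    rw [h1] at this
    exact this.symm
  set β : MulAut (QuaternionGroup 2) := MulAut.congr θ α with hβ
  have hβ_apply : ∀ q, β q = θ (α (θ.symm q)) := fun q => rfl
  have hβ3 : β ^ 3 = 1 := by rw [hβ, ← map_pow, hα3, map_one]
  have hβ1 : β ≠ 1 := by
    intro h1
    apply hα1
    exact (MulAut.congr θ).injective (h1.trans (map_one _).symm)
  obtain ⟨-, u, hu2, hu1, hu1', huu⟩ :=
    Cfsg.Agent.Lib.Helper2_Q8Aut.exists_standard β 3 (by decide) hβ3 hβ1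
  have hv2 : (β u) ^ 2 ≠ 1 := Cfsg.Agent.Lib.Helper2_Q8Aut.sq_apply_ne β hu2
  obtain ⟨hE3a, hE3b⟩ := Cfsg.Agent.Lib.Helper2_Q8Aut.E3 u (β u) hu2 hv2 hu1 hu1'
  have hE4 := Cfsg.Agent.Lib.Helper2_Q8Aut.E4 u
  set i : ↥R := θ.symm u with hi
  set j : ↥R := α i with hj
  have hθi : θ i = u := by rw [hi, MulEquiv.apply_symm_apply]
  have hθj : θ j = β u := by rw [hβ_apply]
  have hαj : α j = i * j := by
    apply θ.injective
    rw [map_mul, hθi, hθj, ← huu, hβ_apply (β u), ← hθj, MulEquiv.symm_apply_apply]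
  -- relations in `R`
  have ri : i ^ (2 * 2) = 1 := by
    apply θ.injective
    rw [map_pow, hθi, map_one]
    exact hE4
  have rj : j * j = i ^ 2 := by
    apply θ.injective
    rw [map_mul, map_pow, hθi, hθj]
    exact hE3a
  have rij : i * j * i = j := by
    apply θ.injective
    rw [map_mul, map_mul, hθi, hθj]
    exact hE3b
  have ri2 : i ^ 2 ≠ 1 := by
    intro h
    apply hu2
    rw [← hθi, ← map_pow, h, map_one]
  -- relations in `G`
  have gi : (i : G) ^ (2 * 2) = 1 := by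
    rw [← Subgroup.coe_pow, ri, Subgroup.coe_one]
  have gj : (j : G) * (j : G) = (i : G) ^ 2 := by
    rw [← Subgroup.coe_mul, rj, Subgroup.coe_pow]
  have gij : (i : G) * (j : G) * (i : G) = (j : G) := by
    rw [← Subgroup.coe_mul, ← Subgroup.coe_mul, rij]
  have gci : c * (i : G) * c⁻¹ = (j : G) := (hα_apply i).symm
  have gcj : c * (j : G) * c⁻¹ = (i : G) * (j : G) := by
    rw [← hα_apply j, hαj, Subgroup.coe_mul]
  have gi2 : (i : G) ^ 2 ≠ 1 := by
    intro h
    apply ri2
    apply Subtype.ext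
    rw [Subgroup.coe_pow, h, Subgroup.coe_one]
  -- the quaternion lift lands in `R`, bijectively
  have hqR : ∀ q : QuaternionGroup 2, quatLift (i : G) (j : G) gi gj gij q ∈ R := by
    intro q
    rcases q with k | k
    · rw [quatLift_a]
      exact R.pow_mem i.2 _
    · rw [quatLift_xa]
      exact R.mul_mem j.2 (R.pow_mem i.2 _)
  have hqinj := quatLift_injective (i : G) (j : G) gi gj gij gi2
  have hqsurj : ∀ r ∈ R, ∃ q, quatLift (i : G) (j : G) gi gj gij q = r := by
    set f : QuaternionGroup 2 → ↥R := fun q => ⟨quatLift (i : G) (j : G) gi gj gij q, hqR q⟩ with hf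
    have hfinj : Function.Injective f := by
      intro q q' h
      apply hqinj
      exact congrArg Subtype.val h
    have hfbij : Function.Bijective f := by
      rw [Nat.bijective_iff_injective_and_card]
      refine ⟨hfinj, ?_⟩
      rw [hRcard, Nat.card_eq_fintype_card, QuaternionGroup.card]
    intro r hr
    obtain ⟨q, hq⟩ := hfbij.2 ⟨r, hr⟩
    exact ⟨q, congrArg Subtype.val hq⟩
  -- `c` has order three and is not in `R`
  have hc1 : c ≠ 1 := by
    rintro rfl
    obtain ⟨x, -, hx⟩ := hne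
    apply hx
    group
  have hcord : orderOf c = 3 := by
    have : Fact (Nat.Prime 3) := ⟨Nat.prime_three⟩
    exact orderOf_eq_prime hc3 hc1
  have hpowR : ∀ n : ℕ, c ^ n ∈ R → 3 ∣ n := by
    intro n hn
    have h8 : (c ^ n) ^ 8 = 1 := by
      have := pow_card_eq_one' (G := ↥R) (x := ⟨c ^ n, hn⟩)
      rw [hRcard] at this
      exact congrArg Subtype.val this
    rw [← pow_mul] at h8
    have h3 : 3 ∣ n * 8 := by
      rw [← hcord]
      exact orderOf_dvd_of_pow_eq_one h8
    exact (Nat.Coprime.dvd_of_dvd_mul_right (by decide) h3)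
  -- the lift of the model
  set Φ : M23 →* G := liftM (i : G) (j : G) c gi gj gij hc3 gci gcj with hΦ
  have hΦinj : Function.Injective Φ := by
    apply liftM_injective
    intro q m hqm
    have hcm : c ^ m.val ∈ R := by
      have h1 : c ^ m.val = (quatLift (i : G) (j : G) gi gj gij q)⁻¹ :=
        eq_inv_of_mul_eq_one_right hqm
      rw [h1]
      exact R.inv_mem (hqR q)
    have hm3 := hpowR _ hcm
    have hm0 : m = 0 := by
      have hlt : m.val < 3 := ZMod.val_lt m
      have : m.val = 0 := by omega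
      exact (ZMod.val_eq_zero m).mp this
    subst hm0
    refine ⟨?_, rfl⟩
    rw [ZMod.val_zero, pow_zero, mul_one] at hqm
    exact (injective_iff_map_eq_one _).mp hqinj q hqm
  have hrange : Φ.range = R ⊔ Subgroup.zpowers c := by
    apply le_antisymm
    · rintro _ ⟨x, rfl⟩
      rw [hΦ, liftM_apply]
      exact Subgroup.mul_mem _ (Subgroup.mem_sup_left (hqR _))
        (Subgroup.mem_sup_right (Subgroup.pow_mem _ (Subgroup.mem_zpowers c) _))
    · apply sup_le
      · intro r hr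
        obtain ⟨q, hq⟩ := hqsurj r hr
        refine ⟨SemidirectProduct.inl q, ?_⟩
        rw [hΦ]
        unfold Cfsg.Agent.Lib.Helper2_SL23.liftM
        rw [SemidirectProduct.lift_inl, hq]
      · rw [Subgroup.zpowers_le]
        refine ⟨SemidirectProduct.inr (Multiplicative.ofAdd 1), ?_⟩
        rw [hΦ]
        unfold Cfsg.Agent.Lib.Helper2_SL23.liftM
        rw [SemidirectProduct.lift_inr, c3Hom_gen]
  exact ⟨(MulEquiv.subgroupCongr hrange.symm).trans
    ((MonoidHom.ofInjective hΦinj).symm.trans equivSL)⟩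

open scoped Pointwise in
/-- A `p`-element `c` normalizing a `p'`-subgroup `R` normalizes some Sylow `r`-subgroup of `R`. -/
theorem exists_sylow_invariant {G : Type*} [Group G] (R : Subgroup G) [Finite ↥R] (c : G)
    (hcR : c ∈ Subgroup.normalizer (R : Set G)) (p r : ℕ) [Fact p.Prime] [Fact r.Prime] (k : ℕ)
    (hck : c ^ (p ^ k) = 1) (hR : (Nat.card R).Coprime p) :
    ∃ P : Sylow r ↥R, ∀ x : ↥R, x ∈ P → R.normalizerMonoidHom ⟨c, hcR⟩ x ∈ P := by
  classical
  set α : MulAut ↥R := R.normalizerMonoidHom ⟨c, hcR⟩ with hα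
  have hαk : α ^ (p ^ k) = 1 := by
    rw [hα, ← map_pow]
    have : (⟨c, hcR⟩ : Subgroup.normalizer (R : Set G)) ^ (p ^ k) = 1 :=
      Subtype.ext (by simp [hck])
    rw [this, map_one]
  have hK : IsPGroup p (Subgroup.zpowers α) := by
    rintro ⟨g, hg⟩
    obtain ⟨n, rfl⟩ := Subgroup.mem_zpowers_iff.mp hg
    refine ⟨k, Subtype.ext ?_⟩
    rw [Subgroup.coe_pow, Subgroup.coe_one]
    show (α ^ n) ^ (p ^ k) = 1
    rw [← zpow_natCast, ← zpow_mul, mul_comm, zpow_mul, zpow_natCast, hαk, one_zpow]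
  have hcard : ¬ p ∣ Nat.card (Sylow r ↥R) := by
    intro h
    have P : Sylow r ↥R := default
    have h1 : Nat.card (Sylow r ↥R) ∣ Nat.card ↥R :=
      (Sylow.card_dvd_index P).trans (Subgroup.index_dvd_card _)
    have h2 := Nat.dvd_gcd (h.trans h1) (dvd_refl p)
    rw [hR] at h2
    exact (Fact.out : p.Prime).one_lt.ne' (Nat.dvd_one.mp h2)
  obtain ⟨P, hP⟩ := hK.nonempty_fixed_point_of_prime_not_dvd_card (Sylow r ↥R) hcard
  refine ⟨P, fun x hx => ?_⟩
  have h1 : (⟨α, Subgroup.mem_zpowers α⟩ : Subgroup.zpowers α) • P = P := hP _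
  have h2 : α • P = P := h1
  have h3 : α • x ∈ α • (P : Subgroup ↥R) := Subgroup.smul_mem_pointwise_smul x α _ hx
  rw [← Sylow.pointwise_smul_def, h2] at h3
  exact h3

/-- `R ≅ Q₈` normalized by an element `c` of odd order: `c³` centralizes `R`. -/
theorem pow_three_centralizes {G : Type*} [Group G] (R : Subgroup G)
    (θ : ↥R ≃* QuaternionGroup 2) (c : G) (hcR : c ∈ Subgroup.normalizer (R : Set G))
    (m : ℕ) (hm : Odd m) (hcm : c ^ m = 1) : ∀ x ∈ R, c ^ 3 * x * (c ^ 3)⁻¹ = x := by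
  classical
  set cN : Subgroup.normalizer (R : Set G) := ⟨c, hcR⟩ with hcN
  set α : MulAut ↥R := R.normalizerMonoidHom cN with hα
  have hαm : α ^ m = 1 := by
    rw [hα, ← map_pow]
    have : cN ^ m = 1 := Subtype.ext (by simp [hcN, hcm])
    rw [this, map_one]
  set β : MulAut (QuaternionGroup 2) := MulAut.congr θ α with hβ
  have hβm : β ^ m = 1 := by rw [hβ, ← map_pow, hαm, map_one]
  have hβ3 : β ^ 3 = 1 := by
    by_cases hβ1 : β = 1
    · rw [hβ1, one_pow]
    · exact (Cfsg.Agent.Lib.Helper2_Q8Aut.exists_standard β m hm hβm hβ1).1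
  have hα3 : α ^ 3 = 1 := by
    apply (MulAut.congr θ).injective
    rw [map_pow, map_one]
    exact hβ3
  intro x hx
  have h1 : (R.normalizerMonoidHom (cN ^ 3)) ⟨x, hx⟩ = ⟨x, hx⟩ := by
    rw [map_pow, ← hα, hα3]
    rfl
  exact congrArg Subtype.val h1

end Cfsg.Agent.Lib.Helper41_Q8Act
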