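import Mathlib

set_option autoImplicit false

/-!
Counting Klein four-subgroups of a finite group through ordered pairs of distinct commuting
involutions: each Klein four-subgroup contains exactly six such pairs.
-/

namespace Cfsg.Agent.Lib.Helper42_KleinCount

variable {G : Type*} [Group G]

/-- ordered pairs of distinct commuting involutions -/
def Pairs (G : Type*) [Group G] : Set (G × G) :=
  {p | p.1 ≠ 1 ∧ p.2 ≠ 1 ∧ p.1 ≠ p.2 ∧ p.1 * p.1 = 1 ∧ p.2 * p.2 = 1 ∧ p.1 * p.2 = p.2 * p.1}

/-- the four-group generated by two commuting involutions -/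
def V4 (x y : G) (hx : x * x = 1) (hy : y * y = 1) (hxy : x * y = y * x) : Subgroup G where
  carrier := {1, x, y, x * y}
  one_mem' := by simp
  mul_mem' := by
    have hx' : ∀ b, x * (x * b) = b := fun b => by rw [← mul_assoc, hx, one_mul]
    have hy' : ∀ b, y * (y * b) = b := fun b => by rw [← mul_assoc, hy, one_mul]
    have hyx : y * x = x * y := hxy.symm
    have hyx' : ∀ b, y * (x * b) = x * (y * b) := fun b => by rw [← mul_assoc, hyx, mul_assoc]
    rintro a b (rfl | rfl | rfl | rfl) (rfl | rfl | rfl | rfl) <;>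
      simp [mul_assoc, hx, hy, hyx, hx', hyx']
  inv_mem' := by
    have hxi : x⁻¹ = x := inv_eq_of_mul_eq_one_right hx
    have hyi : y⁻¹ = y := inv_eq_of_mul_eq_one_right hy
    rintro a (rfl | rfl | rfl | rfl)
    · simp
    · simp [hxi]
    · simp [hyi]
    · simp [mul_inv_rev, hxi, hyi, hxy]

theorem V4_mem {x y : G} (hx : x * x = 1) (hy : y * y = 1) (hxy : x * y = y * x) (g : G) :
    g ∈ V4 x y hx hy hxy ↔ g = 1 ∨ g = x ∨ g = y ∨ g = x * y := Iff.rfl

theorem V4_card {x y : G} (hx : x * x = 1) (hy : y * y = 1) (hxy : x * y = y * x)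
    (hx1 : x ≠ 1) (hy1 : y ≠ 1) (hne : x ≠ y) : Nat.card (V4 x y hx hy hxy) = 4 := by
  change Nat.card ({1, x, y, x * y} : Set G) = 4
  have h1 : (1 : G) ∉ ({x, y, x * y} : Set G) := by
    rintro (h | h | h)
    · exact hx1 h.symm
    · exact hy1 h.symm
    · apply hne
      have : x * y = x * x := by rw [← h, hx]
      exact (mul_left_cancel this).symm
  have h2 : x ∉ ({y, x * y} : Set G) := by
    rintro (h | h)
    · exact hne h
    · apply hy1
      have : x * 1 = x * y := by rw [mul_one]; exact h
      exact (mul_left_cancel this).symm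
  have h3 : y ∉ ({x * y} : Set G) := by
    intro h
    apply hx1
    have : 1 * y = x * y := by rw [one_mul]; exact h
    exact (mul_right_cancel this).symm
  rw [Nat.card_coe_set_eq, Set.ncard_insert_of_notMem h1, Set.ncard_insert_of_notMem h2,
    Set.ncard_insert_of_notMem h3, Set.ncard_singleton]

theorem V4_isKleinFour {x y : G} (hx : x * x = 1) (hy : y * y = 1) (hxy : x * y = y * x)
    (hx1 : x ≠ 1) (hy1 : y ≠ 1) (hne : x ≠ y) : IsKleinFour (V4 x y hx hy hxy) where
  card_four := V4_card hx hy hxy hx1 hy1 hne
  exponent_two := by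
    have hnt : Nontrivial (V4 x y hx hy hxy) :=
      ⟨⟨⟨x, Or.inr (Or.inl rfl)⟩, 1, fun h => hx1 (congrArg Subtype.val h)⟩⟩
    rw [Monoid.exponent_eq_prime_iff Nat.prime_two]
    intro g hg
    have : Fact (Nat.Prime 2) := ⟨Nat.prime_two⟩
    apply orderOf_eq_prime _ hg
    obtain ⟨g, hgm⟩ := g
    apply Subtype.ext
    change g ^ 2 = 1
    rw [pow_two]
    rcases hgm with rfl | rfl | rfl | rfl
    · simp
    · exact hx
    · exact hy
    · calc x * y * (x * y) = x * (y * x) * y := by simp [mul_assoc]
        _ = x * (x * y) * y := by rw [← hxy]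
        _ = (x * x) * (y * y) := by simp [mul_assoc]
        _ = 1 := by rw [hx, hy, one_mul]

theorem closure_eq_V4 {x y : G} (hx : x * x = 1) (hy : y * y = 1) (hxy : x * y = y * x) :
    Subgroup.closure {x, y} = V4 x y hx hy hxy := by
  apply le_antisymm
  · rw [Subgroup.closure_le]
    rintro g (rfl | rfl)
    · exact Or.inr (Or.inl rfl)
    · exact Or.inr (Or.inr (Or.inl rfl))
  · have hxm : x ∈ Subgroup.closure ({x, y} : Set G) := Subgroup.subset_closure (by simp)
    have hym : y ∈ Subgroup.closure ({x, y} : Set G) := Subgroup.subset_closure (by simp)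
    rintro g (rfl | rfl | rfl | rfl)
    · exact one_mem _
    · exact hxm
    · exact hym
    · exact mul_mem hxm hym

/-- the number of ordered pairs of distinct commuting involutions is six times the number of
Klein four-subgroups -/
theorem ncard_pairs [Finite G] :
    (Pairs G).ncard = 6 * Nat.card {V : Subgroup G // IsKleinFour V} := by
  classical
  have : Fintype G := Fintype.ofFinite G
  have : Fintype (Subgroup G) := Fintype.ofFinite _
  rw [Set.ncard_eq_toFinset_card' (Pairs G), Nat.card_eq_fintype_card, Fintype.card_subtype]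
  rw [Finset.card_eq_sum_card_fiberwise (f := fun p : G × G => Subgroup.closure {p.1, p.2})
    (t := Finset.univ.filter fun V : Subgroup G => IsKleinFour V)]
  · rw [Finset.sum_const_nat (m := 6), mul_comm]
    intro V hV
    rw [Finset.mem_filter] at hV
    have hVK : IsKleinFour V := hV.2
    have hcard : (Finset.univ.filter fun g : G => g ∈ V).card = 4 := by
      rw [← Fintype.card_subtype, ← Nat.card_eq_fintype_card]
      exact hVK.card_four
    have hS : ((Finset.univ.filter fun g : G => g ∈ V).erase 1).card = 3 := by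
      rw [Finset.card_erase_of_mem (by simp [one_mem]), hcard]
    have hfib : (Finset.filter (fun p : G × G => Subgroup.closure {p.1, p.2} = V)
        (Pairs G).toFinset) = ((Finset.univ.filter fun g : G => g ∈ V).erase 1).offDiag := by
      ext ⟨x, y⟩
      simp only [Finset.mem_filter, Set.mem_toFinset, Finset.mem_offDiag, Finset.mem_erase,
        Finset.mem_univ, true_and]
      constructor
      · rintro ⟨⟨hx1, hy1, hne, hx, hy, hxy⟩, hcl⟩
        have hxm : x ∈ V := hcl ▸ Subgroup.subset_closure (by simp)
        have hym : y ∈ V := hcl ▸ Subgroup.subset_closure (by simp)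
        exact ⟨⟨hx1, hxm⟩, ⟨hy1, hym⟩, hne⟩
      · rintro ⟨⟨hx1, hxm⟩, ⟨hy1, hym⟩, hne⟩
        have hx : x * x = 1 := by
          have := IsKleinFour.mul_self (⟨x, hxm⟩ : V)
          exact congrArg Subtype.val this
        have hy : y * y = 1 := by
          have := IsKleinFour.mul_self (⟨y, hym⟩ : V)
          exact congrArg Subtype.val this
        have hxy : x * y = y * x := by
          have := (IsKleinFour.isMulCommutative (G := V)).is_comm.comm ⟨x, hxm⟩ ⟨y, hym⟩
          exact congrArg Subtype.val this
        refine ⟨⟨hx1, hy1, hne, hx, hy, hxy⟩, ?_⟩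
        rw [closure_eq_V4 hx hy hxy]
        apply Subgroup.eq_of_le_of_card_ge
        · rintro g (rfl | rfl | rfl | rfl)
          · exact one_mem _
          · exact hxm
          · exact hym
          · exact mul_mem hxm hym
        · rw [V4_card hx hy hxy hx1 hy1 hne, hVK.card_four]
    rw [hfib, Finset.offDiag_card, hS]
  · intro p hp
    rw [Finset.mem_coe, Set.mem_toFinset] at hp
    obtain ⟨hx1, hy1, hne, hx, hy, hxy⟩ := hp
    rw [Finset.mem_coe, Finset.mem_filter]
    refine ⟨Finset.mem_univ _, ?_⟩
    change IsKleinFour (Subgroup.closure {p.1, p.2})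
    rw [closure_eq_V4 hx hy hxy]
    exact V4_isKleinFour hx hy hxy hx1 hy1 hne

end Cfsg.Agent.Lib.Helper42_KleinCount
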