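import Cfsg.Agent.Lib.Helper41_SL2

set_option autoImplicit false

namespace Cfsg.Agent.Lib.Helper41_SL2Conj

open QuadraticAlgebra Cfsg.Agent.Lib.Helper41_SL2

section normsurj

variable {F : Type*} [Field F] [Fintype F] {a b : F} [Hab : Fact (∀ r : F, r ^ 2 ≠ a + b * r)]

theorem norm_surjective (κ : F) : ∃ z : QuadraticAlgebra F a b, QuadraticAlgebra.norm z = κ := by
  by_cases hκ : κ = 0
  · exact ⟨0, by simp [hκ]⟩
  have hfin := finite_quad a b
  obtain ⟨ζ, hζ⟩ := IsCyclic.exists_ofOrder_eq_natCard (α := (QuadraticAlgebra F a b)ˣ)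
  set q := Fintype.card F with hq
  have hq2 : 2 ≤ q := Fintype.one_lt_card
  rw [Nat.card_units, natCard_quad, ← hq] at hζ
  have hfac : q ^ 2 - 1 = (q - 1) * (q + 1) := by
    obtain ⟨k, hk⟩ : ∃ k, q = k + 1 := ⟨q - 1, by omega⟩
    rw [hk]
    have e : (k + 1) ^ 2 = (k + 1 - 1) * (k + 1 + 1) + 1 := by
      simp only [Nat.add_sub_cancel]
      ring
    rw [e, Nat.add_sub_cancel]
  set n : Fˣ := Units.map (QuadraticAlgebra.norm (R := F) (a := a) (b := b)) ζ with hn
  have hnord : orderOf n = q - 1 := by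
    apply orderOf_eq_of_forall_pow
    intro k
    have e1 : n ^ k = 1 ↔ ((ζ ^ k : (QuadraticAlgebra F a b)ˣ) : QuadraticAlgebra F a b) ^ (q + 1) = 1 := by
      rw [hq, pow_card_add_one, ← QuadraticAlgebra.C_one, QuadraticAlgebra.C_inj, hn, ← map_pow,
        Units.ext_iff]
      simp
    rw [e1, ← Units.val_pow_eq_pow_val, ← pow_mul, Units.val_eq_one, ← orderOf_dvd_iff_pow_eq_one, hζ, hfac,
      mul_comm k, mul_comm (q - 1)]
    exact Nat.mul_dvd_mul_iff_left (by omega)
  have htop : Subgroup.zpowers n = ⊤ := by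
    apply Subgroup.eq_top_of_card_eq
    rw [Nat.card_zpowers, hnord, Nat.card_units, Nat.card_eq_fintype_card]
  have hmem : Units.mk0 κ hκ ∈ Subgroup.zpowers n := by rw [htop]; exact Subgroup.mem_top _
  obtain ⟨k, hk⟩ := Subgroup.mem_zpowers_iff.1 hmem
  refine ⟨((ζ ^ k : (QuadraticAlgebra F a b)ˣ) : QuadraticAlgebra F a b), ?_⟩
  have h2 : Units.map (QuadraticAlgebra.norm (R := F) (a := a) (b := b)) (ζ ^ k) = Units.mk0 κ hκ := by
    rw [map_zpow]; exact hk
  have := congrArg Units.val h2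
  rw [Units.coe_map] at this
  exact this

end normsurj


section conj

variable {F : Type*} [Field F]

/-- A non-scalar element of `SL₂` is `GL₂`-conjugate to the companion matrix of its
characteristic polynomial. -/
theorem exists_conj_companion (X : Matrix.SpecialLinearGroup (Fin 2) F)
    (hX : ¬ ∃ c : F, (X : Matrix (Fin 2) (Fin 2) F) = c • (1 : Matrix (Fin 2) (Fin 2) F)) :
    ∃ P : Matrix (Fin 2) (Fin 2) F, P.det ≠ 0 ∧
      (X : Matrix (Fin 2) (Fin 2) F) * P =
        P * comp (-1) (Matrix.trace (X : Matrix (Fin 2) (Fin 2) F)) := by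
  have hdet : (X : Matrix (Fin 2) (Fin 2) F).det = 1 := X.2
  rw [Matrix.det_fin_two] at hdet
  set M : Matrix (Fin 2) (Fin 2) F := (X : Matrix (Fin 2) (Fin 2) F) with hM
  by_cases h3 : M 1 0 ≠ 0
  · refine ⟨!![1, M 0 0; 0, M 1 0], by simpa [Matrix.det_fin_two] using h3, ?_⟩
    ext i j
    fin_cases i <;> fin_cases j <;>
      simp [comp, Matrix.mul_apply, Fin.sum_univ_two, Matrix.trace_fin_two] <;>
      first | ring1 | linear_combination (-1 : F) * hdet
  · push Not at h3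
    by_cases h2 : M 0 1 ≠ 0
    · refine ⟨!![0, M 0 1; 1, M 1 1], by simpa [Matrix.det_fin_two] using h2, ?_⟩
      ext i j
      fin_cases i <;> fin_cases j <;>
        simp [comp, Matrix.mul_apply, Fin.sum_univ_two, Matrix.trace_fin_two] <;>
        first | ring1 | linear_combination (-1 : F) * hdet
    · push Not at h2
      have hne : M 0 0 ≠ M 1 1 := by
        intro h
        apply hX
        refine ⟨M 0 0, ?_⟩
        ext i j
        fin_cases i <;> fin_cases j <;> simp [h2, h3, h]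
      refine ⟨!![1, M 0 0 + M 0 1; 1, M 1 0 + M 1 1], ?_, ?_⟩
      · rw [Matrix.det_fin_two]
        simp [h2, h3]
        intro h
        apply hne
        linear_combination (-1 : F) * h
      · ext i j
        fin_cases i <;> fin_cases j <;>
          simp [comp, Matrix.mul_apply, Fin.sum_univ_two, Matrix.trace_fin_two, h2, h3] <;>
          first | ring1 | (rw [h2, h3] at hdet; linear_combination (-1 : F) * hdet)

end conj


section repr

variable {F : Type*} [Field F] [Fintype F]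

/-- The binary form `x² + τxy + y²` represents every element when `τ² ≠ 4`. -/
theorem form_represents (τ : F) (hτ : τ ^ 2 ≠ 4) (δ : F) :
    ∃ x y : F, x * x + τ * x * y + y * y = δ := by
  by_cases hroot : ∃ r : F, r ^ 2 = -1 + τ * r
  · obtain ⟨r, hr⟩ := hroot
    set r' : F := τ - r with hr'
    have hprod : r * r' = 1 := by rw [hr']; linear_combination (-1 : F) * hr
    have hne : r' - r ≠ 0 := by
      intro h
      apply hτ
      have h1 : r' = r := sub_eq_zero.1 h
      have h2 : τ = 2 * r := by rw [hr'] at h1; linear_combination h1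
      have h3 : r * r = 1 := by rw [h1] at hprod; exact hprod
      rw [h2]
      linear_combination 4 * h3
    refine ⟨1 - r * ((δ - 1) / (r' - r)), (δ - 1) / (r' - r), ?_⟩
    have hfac : ∀ x y : F, x * x + τ * x * y + y * y = (x + r * y) * (x + r' * y) := by
      intro x y
      have : τ = r + r' := by rw [hr']; ring
      rw [this]
      linear_combination (-(y * y)) * hprod
    rw [hfac]
    field_simp
    ring
  · push Not at hroot
    have : Fact (∀ r : F, r ^ 2 ≠ -1 + τ * r) := ⟨hroot⟩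
    obtain ⟨z, hz⟩ := norm_surjective (F := F) (a := -1) (b := τ) δ
    refine ⟨z.re, z.im, ?_⟩
    rw [← hz, QuadraticAlgebra.norm_def]
    ring

end repr


section conj2

variable {F : Type*} [Field F]

theorem not_scalar_of_trace (X : Matrix.SpecialLinearGroup (Fin 2) F)
    (hτ : (Matrix.trace (X : Matrix (Fin 2) (Fin 2) F)) ^ 2 ≠ 4) :
    ¬ ∃ c : F, (X : Matrix (Fin 2) (Fin 2) F) = c • (1 : Matrix (Fin 2) (Fin 2) F) := by
  rintro ⟨c, hc⟩
  apply hτ
  have hdet : (X : Matrix (Fin 2) (Fin 2) F).det = 1 := X.2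
  rw [hc] at hdet ⊢
  rw [Matrix.det_fin_two] at hdet
  simp at hdet
  rw [Matrix.trace_fin_two]
  simp
  linear_combination 4 * hdet

theorem det_add_smul (X : Matrix.SpecialLinearGroup (Fin 2) F) (x y : F) :
    (x • (1 : Matrix (Fin 2) (Fin 2) F) + y • (X : Matrix (Fin 2) (Fin 2) F)).det =
      x * x + Matrix.trace (X : Matrix (Fin 2) (Fin 2) F) * x * y + y * y := by
  have hdet : (X : Matrix (Fin 2) (Fin 2) F).det = 1 := X.2
  rw [Matrix.det_fin_two] at hdet
  rw [Matrix.det_fin_two, Matrix.trace_fin_two]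
  simp
  linear_combination (y * y) * hdet

/-- Two elements of `SL₂(F)` with the same trace `τ`, `τ² ≠ 4`, are conjugate in `SL₂(F)`. -/
theorem conj_of_trace_eq [Fintype F] (A X : Matrix.SpecialLinearGroup (Fin 2) F)
    (h : Matrix.trace (A : Matrix (Fin 2) (Fin 2) F) = Matrix.trace (X : Matrix (Fin 2) (Fin 2) F))
    (hτ : (Matrix.trace (X : Matrix (Fin 2) (Fin 2) F)) ^ 2 ≠ 4) :
    ∃ U : Matrix.SpecialLinearGroup (Fin 2) F, A = U * X * U⁻¹ := by
  obtain ⟨P₁, hP₁, hXP⟩ := exists_conj_companion X (not_scalar_of_trace X hτ)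
  obtain ⟨P₂, hP₂, hAP⟩ := exists_conj_companion A (not_scalar_of_trace A (h ▸ hτ))
  rw [h] at hAP
  set τ := Matrix.trace (X : Matrix (Fin 2) (Fin 2) F) with hτdef
  set C := Helper41_SL2.comp (-1 : F) τ with hC
  have hu₁ : IsUnit P₁.det := hP₁.isUnit
  have hinv : P₁⁻¹ * (X : Matrix (Fin 2) (Fin 2) F) = C * P₁⁻¹ := by
    calc P₁⁻¹ * (X : Matrix (Fin 2) (Fin 2) F)
        = P₁⁻¹ * (X : Matrix (Fin 2) (Fin 2) F) * (P₁ * P₁⁻¹) := by
          rw [Matrix.mul_nonsing_inv _ hu₁, Matrix.mul_one]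
      _ = P₁⁻¹ * ((X : Matrix (Fin 2) (Fin 2) F) * P₁) * P₁⁻¹ := by
          simp only [Matrix.mul_assoc]
      _ = P₁⁻¹ * (P₁ * C) * P₁⁻¹ := by rw [hXP]
      _ = (P₁⁻¹ * P₁) * C * P₁⁻¹ := by simp only [Matrix.mul_assoc]
      _ = C * P₁⁻¹ := by rw [Matrix.nonsing_inv_mul _ hu₁, Matrix.one_mul]
  set R := P₂ * P₁⁻¹ with hR
  have hAR : (A : Matrix (Fin 2) (Fin 2) F) * R = R * (X : Matrix (Fin 2) (Fin 2) F) := by
    calc (A : Matrix (Fin 2) (Fin 2) F) * R
        = ((A : Matrix (Fin 2) (Fin 2) F) * P₂) * P₁⁻¹ := by rw [hR, Matrix.mul_assoc]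
      _ = P₂ * (C * P₁⁻¹) := by rw [hAP, Matrix.mul_assoc]
      _ = P₂ * (P₁⁻¹ * (X : Matrix (Fin 2) (Fin 2) F)) := by rw [hinv]
      _ = R * (X : Matrix (Fin 2) (Fin 2) F) := by rw [hR, Matrix.mul_assoc]
  have hRdet : R.det ≠ 0 := by
    rw [hR, Matrix.det_mul, Matrix.det_nonsing_inv]
    exact mul_ne_zero hP₂ (by simpa using hP₁)
  obtain ⟨x, y, hxy⟩ := form_represents τ hτ (R.det)⁻¹
  set Z := x • (1 : Matrix (Fin 2) (Fin 2) F) + y • (X : Matrix (Fin 2) (Fin 2) F) with hZ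
  have hZdet : Z.det = (R.det)⁻¹ := by rw [hZ, det_add_smul, ← hτdef]; exact hxy
  have hZX : Z * (X : Matrix (Fin 2) (Fin 2) F) = (X : Matrix (Fin 2) (Fin 2) F) * Z := by
    rw [hZ]
    simp only [Matrix.add_mul, Matrix.mul_add, Matrix.smul_mul, Matrix.mul_smul, Matrix.one_mul,
      Matrix.mul_one]
  clear_value R Z
  let U : Matrix.SpecialLinearGroup (Fin 2) F :=
    ⟨R * Z, by rw [Matrix.det_mul, hZdet, mul_inv_cancel₀ hRdet]⟩
  refine ⟨U, ?_⟩
  rw [eq_mul_inv_iff_mul_eq]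
  apply Subtype.ext
  rw [Matrix.SpecialLinearGroup.coe_mul, Matrix.SpecialLinearGroup.coe_mul]
  change (A : Matrix (Fin 2) (Fin 2) F) * (R * Z) = (R * Z) * (X : Matrix (Fin 2) (Fin 2) F)
  calc (A : Matrix (Fin 2) (Fin 2) F) * (R * Z)
      = ((A : Matrix (Fin 2) (Fin 2) F) * R) * Z := by rw [Matrix.mul_assoc]
    _ = R * ((X : Matrix (Fin 2) (Fin 2) F) * Z) := by rw [hAR, Matrix.mul_assoc]
    _ = R * (Z * (X : Matrix (Fin 2) (Fin 2) F)) := by rw [hZX]
    _ = (R * Z) * (X : Matrix (Fin 2) (Fin 2) F) := by rw [Matrix.mul_assoc]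

end conj2

end Cfsg.Agent.Lib.Helper41_SL2Conj
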