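import Mathlib
import Cfsg.Agent.Lib.Helper41_SL2Conj
import Cfsg.Agent.Lib.Helper5_PSLCard

set_option autoImplicit false

/-!
Conjugacy classes of `SL₂(F)` and `PSL₂(F)` over a finite field: class sizes.
-/

namespace Cfsg.Agent.Lib.Helper42_SL2Class

open Matrix

/-- the index of the centralizer of `g` is the size of the conjugacy class of `g` -/
theorem index_centralizer_eq {G : Type*} [Group G] (g : G) :
    (Subgroup.centralizer {g}).index = {u : G | IsConj g u}.ncard := by
  have h1 := MulAction.index_stabilizer (ConjAct G) g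
  rw [ConjAct.stabilizer_eq_centralizer] at h1
  have h2 : MulAction.orbit (ConjAct G) g = {u | IsConj g u} := by
    ext u; rw [ConjAct.mem_orbit_conjAct, isConj_comm]; rfl
  rw [h2] at h1
  exact h1

section count

variable {F : Type*} [Field F] [Fintype F] [DecidableEq F]

/-- the number of roots of `a² - τ a + 1` -/
def R (τ : F) : ℕ := (Finset.univ.filter fun a : F => a * (τ - a) - 1 = 0).card

theorem card_mul_eq (b k : F) :
    Fintype.card {c : F // b * c = k} = if b = 0 then (if k = 0 then Fintype.card F else 0) else 1 := by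
  by_cases hb : b = 0
  · subst hb
    rw [if_pos rfl]
    by_cases hk : k = 0
    · subst hk
      rw [if_pos rfl]
      simp [Fintype.card_subtype]
    · rw [if_neg hk]
      have : IsEmpty {c : F // (0 : F) * c = k} := ⟨fun c => hk (by rw [← c.2, zero_mul])⟩
      exact Fintype.card_eq_zero
  · rw [if_neg hb]
    rw [Fintype.card_eq_one_iff]
    refine ⟨⟨k / b, by field_simp⟩, ?_⟩
    rintro ⟨c, hc⟩
    apply Subtype.ext
    change c = k / b
    rw [← hc]; field_simp

/-- elements of `SL₂` with given trace as triples -/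
def traceEquiv (τ : F) :
    {A : SpecialLinearGroup (Fin 2) F // Matrix.trace (A : Matrix (Fin 2) (Fin 2) F) = τ} ≃
      (Σ a : F, Σ b : F, {c : F // b * c = a * (τ - a) - 1}) where
  toFun A := ⟨A.1.1 0 0, A.1.1 0 1, A.1.1 1 0, by
    have hdet := A.1.2
    have htr := A.2
    rw [Matrix.det_fin_two] at hdet
    rw [Matrix.trace_fin_two] at htr
    linear_combination (-1 : F) * hdet + (A.1.1 0 0) * htr⟩
  invFun p := ⟨⟨!![p.1, p.2.1; p.2.2.1, τ - p.1], by
      rw [Matrix.det_fin_two_of]
      have := p.2.2.2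
      linear_combination (-1 : F) * this⟩, by
    rw [Matrix.trace_fin_two]
    simp⟩
  left_inv A := by
    apply Subtype.ext
    apply Subtype.ext
    have htr := A.2
    rw [Matrix.trace_fin_two] at htr
    ext i j
    fin_cases i <;> fin_cases j <;> simp
    linear_combination (-1 : F) * htr
  right_inv p := by
    obtain ⟨a, b, c, hc⟩ := p
    simp

theorem card_trace (τ : F) :
    Fintype.card {A : SpecialLinearGroup (Fin 2) F // Matrix.trace (A : Matrix (Fin 2) (Fin 2) F) = τ} =
      Fintype.card F * (Fintype.card F - 1) + Fintype.card F * R τ := by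
  rw [Fintype.card_congr (traceEquiv τ), Fintype.card_sigma]
  simp only [Fintype.card_sigma, card_mul_eq]
  have h1 : ∀ a : F, (∑ b : F, if b = 0 then (if a * (τ - a) - 1 = 0 then Fintype.card F else 0) else 1) =
      (if a * (τ - a) - 1 = 0 then Fintype.card F else 0) + (Fintype.card F - 1) := by
    intro a
    rw [← Finset.add_sum_erase Finset.univ _ (Finset.mem_univ (0 : F)), if_pos rfl]
    congr 1
    rw [Finset.sum_congr rfl (fun b hb => if_neg (Finset.ne_of_mem_erase hb))]
    simp [Finset.card_erase_of_mem]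
  simp only [h1]
  rw [Finset.sum_add_distrib, Finset.sum_const, Finset.card_univ, smul_eq_mul, ← Finset.sum_filter,
    Finset.sum_const, smul_eq_mul, R]
  ring

theorem R_eq_zero (τ : F) (h : ∀ r : F, r * (τ - r) - 1 ≠ 0) : R τ = 0 := by
  rw [R, Finset.card_eq_zero, Finset.filter_eq_empty_iff]
  intro r _
  exact h r

theorem R_eq_two (τ : F) (hτ : τ ^ 2 ≠ 4) (r : F) (hr : r * (τ - r) - 1 = 0) : R τ = 2 := by
  have hne : r ≠ τ - r := by
    intro h
    apply hτ
    have h2 : τ = 2 * r := by linear_combination (-1 : F) * h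
    rw [h2]
    rw [h2] at hr
    linear_combination 4 * hr
  have : (Finset.univ.filter fun a : F => a * (τ - a) - 1 = 0) = {r, τ - r} := by
    ext a
    simp only [Finset.mem_filter, Finset.mem_univ, true_and, Finset.mem_insert,
      Finset.mem_singleton]
    constructor
    · intro ha
      have h1 : (a - r) * (τ - a - r) = 0 := by linear_combination ha - hr
      rcases mul_eq_zero.mp h1 with h | h
      · left; linear_combination h
      · right; linear_combination (-1 : F) * h
    · rintro (rfl | rfl)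
      · exact hr
      · linear_combination hr
  rw [R, this, Finset.card_pair hne]

theorem R_zero_or_two (τ : F) (hτ : τ ^ 2 ≠ 4) : R τ = 0 ∨ R τ = 2 := by
  by_cases h : ∃ r : F, r * (τ - r) - 1 = 0
  · obtain ⟨r, hr⟩ := h
    exact Or.inr (R_eq_two τ hτ r hr)
  · push Not at h
    exact Or.inl (R_eq_zero τ h)

/-- `∑_τ R τ = q - 1`: each nonzero `a` is a root for exactly one `τ` -/
theorem sum_R : ∑ τ : F, R τ = Fintype.card F - 1 := by
  have h1 : ∑ τ : F, R τ = ∑ τ : F, ∑ a : F, if a * (τ - a) - 1 = 0 then 1 else 0 := by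
    refine Finset.sum_congr rfl (fun τ _ => ?_)
    rw [R, Finset.card_filter]
  rw [h1, Finset.sum_comm]
  have h2 : ∀ a : F, (∑ τ : F, if a * (τ - a) - 1 = 0 then 1 else 0) = if a = 0 then 0 else 1 := by
    intro a
    by_cases ha : a = 0
    · subst ha
      simp
    · rw [if_neg ha]
      rw [Finset.sum_eq_single_of_mem (a + a⁻¹) (Finset.mem_univ _)]
      · rw [if_pos]
        field_simp
        ring
      · intro τ _ hτ
        rw [if_neg]
        intro h
        apply hτ
        have : a * τ = a * (a + a⁻¹) := by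
          field_simp
          linear_combination h
        exact mul_left_cancel₀ ha this
  simp only [h2]
  rw [Finset.sum_ite, Finset.sum_const_zero, zero_add, Finset.sum_const, smul_eq_mul, mul_one]
  have : (Finset.univ.filter fun a : F => ¬ a = 0) = Finset.univ.erase 0 := by
    ext a; simp
  rw [this, Finset.card_erase_of_mem (Finset.mem_univ _), Finset.card_univ]

theorem R_neg (τ : F) : R (-τ) = R τ := by
  rw [R, R]
  apply Finset.card_bij (fun a _ => -a)
  · intro a ha
    simp only [Finset.mem_filter, Finset.mem_univ, true_and] at ha ⊢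
    linear_combination ha
  · intro a _ b _ h
    exact neg_injective h
  · intro b hb
    simp only [Finset.mem_filter, Finset.mem_univ, true_and] at hb
    refine ⟨-b, ?_, by simp⟩
    simp only [Finset.mem_filter, Finset.mem_univ, true_and]
    linear_combination hb

/-- there is a trace whose characteristic polynomial has no root -/
theorem exists_R_eq_zero : ∃ τ : F, R τ = 0 := by
  by_contra h
  push Not at h
  have h1 : ∀ τ : F, 1 ≤ R τ := fun τ => Nat.one_le_iff_ne_zero.mpr (h τ)
  have h2 : Fintype.card F ≤ ∑ τ : F, R τ := by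
    calc Fintype.card F = ∑ _τ : F, 1 := by simp
      _ ≤ ∑ τ : F, R τ := Finset.sum_le_sum (fun τ _ => h1 τ)
  rw [sum_R] at h2
  have : 0 < Fintype.card F := Fintype.card_pos
  omega

end count

section classes

variable {F : Type*} [Field F] [Fintype F] [DecidableEq F]

theorem trace_conj (c a : SpecialLinearGroup (Fin 2) F) :
    Matrix.trace ((c * a * c⁻¹ : SpecialLinearGroup (Fin 2) F) : Matrix (Fin 2) (Fin 2) F) =
      Matrix.trace (a : Matrix (Fin 2) (Fin 2) F) := by
  have h : (c⁻¹).1 * c.1 = 1 := congrArg Subtype.val (inv_mul_cancel c)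
  change Matrix.trace (c.1 * a.1 * (c⁻¹).1) = Matrix.trace a.1
  rw [Matrix.trace_mul_comm, ← Matrix.mul_assoc, h, Matrix.one_mul]

theorem trace_eq_of_isConj {g u : SpecialLinearGroup (Fin 2) F} (h : IsConj g u) :
    Matrix.trace (u : Matrix (Fin 2) (Fin 2) F) = Matrix.trace (g : Matrix (Fin 2) (Fin 2) F) := by
  obtain ⟨c, rfl⟩ := isConj_iff.mp h
  exact trace_conj c g

theorem isConj_iff_trace (g u : SpecialLinearGroup (Fin 2) F)
    (hτ : (Matrix.trace (g : Matrix (Fin 2) (Fin 2) F)) ^ 2 ≠ 4) :
    IsConj g u ↔ Matrix.trace (u : Matrix (Fin 2) (Fin 2) F) =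
      Matrix.trace (g : Matrix (Fin 2) (Fin 2) F) := by
  constructor
  · exact trace_eq_of_isConj
  · intro h
    obtain ⟨U, hU⟩ := Cfsg.Agent.Lib.Helper41_SL2Conj.conj_of_trace_eq u g h hτ
    exact isConj_iff.mpr ⟨U, hU.symm⟩

theorem ncard_trace (τ : F) :
    {u : SpecialLinearGroup (Fin 2) F | Matrix.trace (u : Matrix (Fin 2) (Fin 2) F) = τ}.ncard =
      Fintype.card F * (Fintype.card F - 1) + Fintype.card F * R τ := by
  rw [← card_trace τ, ← Nat.card_eq_fintype_card, ← Nat.card_coe_set_eq]
  rfl

/-- class sizes of semisimple (or trace-zero in odd characteristic) elements of `SL₂` -/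
theorem ncard_class_of_trace (g : SpecialLinearGroup (Fin 2) F)
    (hτ : (Matrix.trace (g : Matrix (Fin 2) (Fin 2) F)) ^ 2 ≠ 4) :
    {u : SpecialLinearGroup (Fin 2) F | IsConj g u}.ncard =
      Fintype.card F * (Fintype.card F - 1) +
        Fintype.card F * R (Matrix.trace (g : Matrix (Fin 2) (Fin 2) F)) := by
  rw [← ncard_trace]
  congr 1
  ext u
  exact isConj_iff_trace g u hτ

end classes

section commutant

variable {F : Type*} [Field F]

/-- a 2×2 matrix is scalar -/
def IsSc (X : Matrix (Fin 2) (Fin 2) F) : Prop := X 0 1 = 0 ∧ X 1 0 = 0 ∧ X 0 0 = X 1 1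

theorem isSc_iff (X : Matrix (Fin 2) (Fin 2) F) :
    IsSc X ↔ ∃ c : F, X = c • (1 : Matrix (Fin 2) (Fin 2) F) := by
  constructor
  · rintro ⟨h1, h2, h3⟩
    refine ⟨X 0 0, ?_⟩
    ext i j
    fin_cases i <;> fin_cases j <;> simp [h1, h2, h3]
  · rintro ⟨c, rfl⟩
    simp [IsSc]

/-- the commutant of a non-scalar 2×2 matrix `X` is spanned by `1` and `X` -/
theorem commutant (X A : Matrix (Fin 2) (Fin 2) F) (hX : ¬ IsSc X) (h : A * X = X * A) :
    ∃ x y : F, A = x • (1 : Matrix (Fin 2) (Fin 2) F) + y • X := by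
  have h00 := congrFun (congrFun h 0) 0
  have h01 := congrFun (congrFun h 0) 1
  have h10 := congrFun (congrFun h 1) 0
  simp only [Matrix.mul_apply, Fin.sum_univ_two] at h00 h01 h10
  by_cases hb : X 0 1 = 0
  · by_cases hc : X 1 0 = 0
    · have hd : X 0 0 - X 1 1 ≠ 0 := by
        intro hd
        exact hX ⟨hb, hc, by linear_combination hd⟩
      have hA01 : A 0 1 = 0 := by
        rw [hb] at h01
        have : A 0 1 * (X 0 0 - X 1 1) = 0 := by linear_combination (-1 : F) * h01
        rcases mul_eq_zero.mp this with h | h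
        · exact h
        · exact absurd h hd
      have hA10 : A 1 0 = 0 := by
        rw [hc] at h10
        have : A 1 0 * (X 0 0 - X 1 1) = 0 := by linear_combination h10
        rcases mul_eq_zero.mp this with h | h
        · exact h
        · exact absurd h hd
      refine ⟨A 0 0 - (A 0 0 - A 1 1) / (X 0 0 - X 1 1) * X 0 0, (A 0 0 - A 1 1) / (X 0 0 - X 1 1), ?_⟩
      ext i j
      fin_cases i <;> fin_cases j <;> simp [hb, hc, hA01, hA10]
      field_simp
      ring
    · refine ⟨A 0 0 - A 1 0 / X 1 0 * X 0 0, A 1 0 / X 1 0, ?_⟩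
      ext i j
      fin_cases i <;> fin_cases j <;> simp
      · field_simp
        linear_combination h00
      · field_simp
      · field_simp
        linear_combination h10
  · refine ⟨A 0 0 - A 0 1 / X 0 1 * X 0 0, A 0 1 / X 0 1, ?_⟩
    ext i j
    fin_cases i <;> fin_cases j <;> simp
    · field_simp
    · field_simp
      linear_combination (-1 : F) * h00
    · field_simp
      linear_combination (-1 : F) * h01

end commutant

section unipotent

variable {F : Type*} [Field F]

/-- solutions of the norm form `x² + τxy + y² = 1` -/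
def Sol (τ : F) : Type _ := {p : F × F // p.1 * p.1 + τ * p.1 * p.2 + p.2 * p.2 = 1}

/-- the element `x + y g` of the centralizer of `g` -/
def solToCent (g : SpecialLinearGroup (Fin 2) F) :
    Sol (Matrix.trace (g : Matrix (Fin 2) (Fin 2) F)) → Subgroup.centralizer ({g} : Set (SpecialLinearGroup (Fin 2) F)) :=
  fun p => ⟨⟨p.1.1 • (1 : Matrix (Fin 2) (Fin 2) F) + p.1.2 • g.1, by
      rw [Cfsg.Agent.Lib.Helper41_SL2Conj.det_add_smul]; exact p.2⟩, by
    refine Subgroup.mem_centralizer_iff.mpr ?_
    intro h hh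
    rw [Set.mem_singleton_iff] at hh
    subst hh
    apply Subtype.ext
    change h.1 * (p.1.1 • (1 : Matrix (Fin 2) (Fin 2) F) + p.1.2 • h.1) =
      (p.1.1 • (1 : Matrix (Fin 2) (Fin 2) F) + p.1.2 • h.1) * h.1
    simp only [Matrix.add_mul, Matrix.mul_add, Matrix.smul_mul, Matrix.mul_smul, Matrix.one_mul,
      Matrix.mul_one]⟩

theorem solToCent_coe (g : SpecialLinearGroup (Fin 2) F)
    (p : Sol (Matrix.trace (g : Matrix (Fin 2) (Fin 2) F))) :
    ((solToCent g p : Subgroup.centralizer ({g} : Set (SpecialLinearGroup (Fin 2) F))) :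
      SpecialLinearGroup (Fin 2) F).1 = p.1.1 • (1 : Matrix (Fin 2) (Fin 2) F) + p.1.2 • g.1 := rfl

theorem solToCent_bijective (g : SpecialLinearGroup (Fin 2) F) (hg : ¬ IsSc g.1) :
    Function.Bijective (solToCent g) := by
  constructor
  · intro p p' h
    have h1 : p.1.1 • (1 : Matrix (Fin 2) (Fin 2) F) + p.1.2 • g.1 =
        p'.1.1 • (1 : Matrix (Fin 2) (Fin 2) F) + p'.1.2 • g.1 := by
      rw [← solToCent_coe, ← solToCent_coe, h]
    have hy : p.1.2 = p'.1.2 := by
      by_contra hne
      apply hg
      have hne' : p.1.2 - p'.1.2 ≠ 0 := sub_ne_zero.mpr hne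
      have e : g.1 = ((p'.1.1 - p.1.1) / (p.1.2 - p'.1.2)) • (1 : Matrix (Fin 2) (Fin 2) F) := by
        have h2 : (p.1.2 - p'.1.2) • g.1 = (p'.1.1 - p.1.1) • (1 : Matrix (Fin 2) (Fin 2) F) := by
          rw [sub_smul, sub_smul]
          have := h1
          rw [← sub_eq_zero] at this ⊢
          rw [← this]; abel
        rw [div_eq_inv_mul, mul_smul, ← h2, smul_smul, inv_mul_cancel₀ hne', one_smul]
      exact (isSc_iff _).mpr ⟨_, e⟩
    have hx : p.1.1 = p'.1.1 := by
      rw [hy] at h1
      have h2 := add_right_cancel h1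
      have := congrFun (congrFun h2 0) 0
      simpa using this
    exact Subtype.ext (Prod.ext hx hy)
  · rintro ⟨u, hu⟩
    rw [Subgroup.mem_centralizer_iff] at hu
    have hcomm : u.1 * g.1 = g.1 * u.1 := by
      have := hu g rfl
      exact (congrArg Subtype.val this).symm
    obtain ⟨x, y, hxy⟩ := commutant g.1 u.1 hg hcomm
    have hdet : x * x + Matrix.trace g.1 * x * y + y * y = 1 := by
      rw [← Cfsg.Agent.Lib.Helper41_SL2Conj.det_add_smul, ← hxy]; exact u.2
    refine ⟨⟨(x, y), hdet⟩, ?_⟩
    apply Subtype.ext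
    apply Subtype.ext
    change x • (1 : Matrix (Fin 2) (Fin 2) F) + y • g.1 = u.1
    exact hxy.symm

theorem card_centralizer_eq (g : SpecialLinearGroup (Fin 2) F) (hg : ¬ IsSc g.1) :
    Nat.card (Subgroup.centralizer ({g} : Set (SpecialLinearGroup (Fin 2) F))) =
      Nat.card (Sol (Matrix.trace (g : Matrix (Fin 2) (Fin 2) F))) :=
  (Nat.card_congr (Equiv.ofBijective _ (solToCent_bijective g hg))).symm

variable [Fintype F]

/-- in characteristic 2, `x² + y² = 1` has `q` solutions -/
theorem card_Sol_char_two (h2 : (2 : F) = 0) : Nat.card (Sol (0 : F)) = Fintype.card F := by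
  rw [← Nat.card_eq_fintype_card]
  apply Nat.card_congr
  refine ⟨fun p => p.1.1, fun x => ⟨(x, 1 - x), by
    change x * x + 0 * x * (1 - x) + (1 - x) * (1 - x) = 1
    linear_combination (x * x - x) * h2⟩, ?_, ?_⟩
  · rintro ⟨⟨x, y⟩, hp⟩
    apply Subtype.ext
    change (x, 1 - x) = (x, y)
    change x * x + 0 * x * y + y * y = 1 at hp
    have h3 : (x + y - 1) * (x + y - 1) = 0 := by
      linear_combination hp + (x * y - x - y + 1) * h2
    have h4 : x + y - 1 = 0 := by
      rcases mul_eq_zero.mp h3 with h | h <;> exact h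
    congr 1
    linear_combination (-1 : F) * h4
  · intro x
    rfl

/-- in odd characteristic, `x² + τxy + y² = 1` has `2q` solutions when `τ² = 4` -/
theorem card_Sol_odd (h2 : (2 : F) ≠ 0) (τ : F) (hτ : τ ^ 2 = 4) :
    Nat.card (Sol τ) = 2 * Fintype.card F := by
  classical
  have hε : (τ / 2) * (τ / 2) = 1 := by
    field_simp
    linear_combination hτ
  have e : Sol τ ≃ F × ({1, -1} : Finset F) :=
    { toFun := fun p => (p.1.2, ⟨p.1.1 + τ / 2 * p.1.2, by
        have hp := p.2
        have h3 : (p.1.1 + τ / 2 * p.1.2 - 1) * (p.1.1 + τ / 2 * p.1.2 + 1) = 0 := by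
          have : τ = 2 * (τ / 2) := by field_simp
          have hp' : p.1.1 * p.1.1 + (2 * (τ / 2)) * p.1.1 * p.1.2 + p.1.2 * p.1.2 = 1 := by
            rw [← this]; exact hp
          linear_combination hp' + (p.1.2 * p.1.2) * hε
        rw [Finset.mem_insert, Finset.mem_singleton]
        rcases mul_eq_zero.mp h3 with h | h
        · left; linear_combination h
        · right; linear_combination h⟩)
      invFun := fun r => ⟨(r.2.1 - τ / 2 * r.1, r.1), by
        have hr : r.2.1 * r.2.1 = 1 := by
          have := r.2.2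
          rw [Finset.mem_insert, Finset.mem_singleton] at this
          rcases this with h | h <;> rw [h] <;> ring
        have : τ = 2 * (τ / 2) := by field_simp
        change (r.2.1 - τ / 2 * r.1) * (r.2.1 - τ / 2 * r.1) + τ * (r.2.1 - τ / 2 * r.1) * r.1 +
          r.1 * r.1 = 1
        have h5 : (r.2.1 - τ / 2 * r.1) * (r.2.1 - τ / 2 * r.1) +
            (2 * (τ / 2)) * (r.2.1 - τ / 2 * r.1) * r.1 + r.1 * r.1 = 1 := by
          linear_combination hr - (r.1 * r.1) * hε
        rw [← this] at h5
        exact h5⟩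
      left_inv := by
        rintro ⟨⟨x, y⟩, hp⟩
        apply Subtype.ext
        change (x + τ / 2 * y - τ / 2 * y, y) = (x, y)
        congr 1
        ring
      right_inv := by
        rintro ⟨y, ⟨z, hz⟩⟩
        change (y, (⟨z - τ / 2 * y + τ / 2 * y, _⟩ : ({1, -1} : Finset F))) = (y, ⟨z, hz⟩)
        congr 1
        apply Subtype.ext
        change z - τ / 2 * y + τ / 2 * y = z
        ring }
  rw [Nat.card_congr e, Nat.card_prod, Nat.card_eq_fintype_card, Nat.card_eq_fintype_card,
    Fintype.card_coe, Finset.card_pair, mul_comm]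
  intro h
  apply h2
  have : (2 : F) = 1 - (-1) := by ring
  rw [this, ← h]; ring

end unipotent

section psl

variable {F : Type*} [Field F]

/-- the projection `SL₂ → PSL₂` -/
def proj : SpecialLinearGroup (Fin 2) F →* ProjectiveSpecialLinearGroup (Fin 2) F :=
  QuotientGroup.mk' (Subgroup.center (SpecialLinearGroup (Fin 2) F))

theorem proj_surjective : Function.Surjective (proj (F := F)) := QuotientGroup.mk'_surjective _

/-- negation on `SL₂` -/
def negS (u : SpecialLinearGroup (Fin 2) F) : SpecialLinearGroup (Fin 2) F :=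
  ⟨-u.1, by rw [Matrix.det_neg, u.2]; simp⟩

theorem negS_coe (u : SpecialLinearGroup (Fin 2) F) : (negS u).1 = -u.1 := rfl

theorem trace_negS (u : SpecialLinearGroup (Fin 2) F) :
    Matrix.trace (negS u).1 = -Matrix.trace u.1 := by
  rw [negS_coe, Matrix.trace_neg]

theorem proj_negS (u : SpecialLinearGroup (Fin 2) F) : proj (negS u) = proj u := by
  symm
  change (QuotientGroup.mk u : _ ⧸ Subgroup.center (SpecialLinearGroup (Fin 2) F)) =
    QuotientGroup.mk (negS u)
  rw [QuotientGroup.eq]
  apply Cfsg.Agent.Lib.Helper41_SL2.mem_center_of_scalar _ (-1 : F)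
  have h : (u⁻¹).1 * u.1 = 1 := congrArg Subtype.val (inv_mul_cancel u)
  change (u⁻¹).1 * (-u.1) = (-1 : F) • (1 : Matrix (Fin 2) (Fin 2) F)
  rw [Matrix.mul_neg, h]; simp

theorem proj_eq_iff (u u' : SpecialLinearGroup (Fin 2) F) :
    proj u = proj u' ↔ u' = u ∨ u' = negS u := by
  constructor
  · intro h
    change (QuotientGroup.mk u : _ ⧸ Subgroup.center (SpecialLinearGroup (Fin 2) F)) =
      QuotientGroup.mk u' at h
    rw [QuotientGroup.eq] at h
    obtain ⟨c, hc, hcB⟩ := Cfsg.Agent.Lib.Helper41_SL2.scalar_of_mem_center _ h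
    have h1 : u.1 * (u⁻¹).1 = 1 := congrArg Subtype.val (mul_inv_cancel u)
    have h2 : u'.1 = c • u.1 := by
      have : (u⁻¹).1 * u'.1 = c • (1 : Matrix (Fin 2) (Fin 2) F) := hcB
      calc u'.1 = (u.1 * (u⁻¹).1) * u'.1 := by rw [h1, Matrix.one_mul]
        _ = u.1 * ((u⁻¹).1 * u'.1) := by rw [Matrix.mul_assoc]
        _ = c • u.1 := by rw [this, Matrix.mul_smul, Matrix.mul_one]
    have hc' : (c - 1) * (c + 1) = 0 := by linear_combination hc
    rcases mul_eq_zero.mp hc' with h | h
    · left
      apply Subtype.ext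
      rw [h2, show c = 1 by linear_combination h, one_smul]
    · right
      apply Subtype.ext
      rw [h2, negS_coe, show c = -1 by linear_combination h, neg_one_smul]
  · rintro (rfl | rfl)
    · rfl
    · exact (proj_negS u).symm

/-- conjugacy classes of `PSL₂` are images of conjugacy classes of `SL₂` -/
theorem class_image (g : SpecialLinearGroup (Fin 2) F) :
    {v : ProjectiveSpecialLinearGroup (Fin 2) F | IsConj (proj g) v} =
      proj '' {u | IsConj g u} := by
  ext v
  constructor
  · intro hv
    obtain ⟨c, hc⟩ := isConj_iff.mp hv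
    obtain ⟨c', rfl⟩ := proj_surjective c
    refine ⟨c' * g * c'⁻¹, isConj_iff.mpr ⟨c', rfl⟩, ?_⟩
    rw [map_mul, map_mul, map_inv]
    exact hc
  · rintro ⟨u, hu, rfl⟩
    obtain ⟨c, rfl⟩ := isConj_iff.mp hu
    rw [map_mul, map_mul, map_inv]
    exact isConj_iff.mpr ⟨proj c, rfl⟩

theorem index_psl (g : SpecialLinearGroup (Fin 2) F) :
    (Subgroup.centralizer ({proj g} : Set (ProjectiveSpecialLinearGroup (Fin 2) F))).index =
      (proj '' {u : SpecialLinearGroup (Fin 2) F | IsConj g u}).ncard := by
  rw [index_centralizer_eq, class_image]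

/-- `proj` is injective on a set of elements of common trace `τ`, unless `τ = 0` in odd
characteristic -/
theorem proj_injOn (T : Set (SpecialLinearGroup (Fin 2) F)) (τ : F)
    (hT : ∀ u ∈ T, Matrix.trace u.1 = τ) (h : (2 : F) = 0 ∨ τ ≠ 0) : Set.InjOn proj T := by
  intro u hu u' hu' huu
  rcases (proj_eq_iff u u').mp huu with h1 | h1
  · exact h1.symm
  · by_cases h2 : (2 : F) = 0
    · -- characteristic 2: negS u = u
      rw [h1]
      apply Subtype.ext
      rw [negS_coe]
      have : (-1 : F) = 1 := by linear_combination (-1 : F) * h2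
      calc u.1 = (1 : F) • u.1 := (one_smul _ _).symm
        _ = (-1 : F) • u.1 := by rw [this]
        _ = -u.1 := neg_one_smul _ _
    · exfalso
      have hτ : τ ≠ 0 := h.resolve_left h2
      have t1 := hT u hu
      have t2 := hT u' hu'
      rw [h1, trace_negS, t1] at t2
      have : (2 : F) * τ = 0 := by linear_combination (-1 : F) * t2
      rcases mul_eq_zero.mp this with h | h
      · exact h2 h
      · exact hτ h

/-- on a set closed under negation, `proj` is two-to-one in odd characteristic -/
theorem two_mul_ncard_image [Finite F] (h2 : (2 : F) ≠ 0) (T : Set (SpecialLinearGroup (Fin 2) F))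
    (hT : ∀ u ∈ T, negS u ∈ T) : 2 * (proj '' T).ncard = T.ncard := by
  classical
  have : Fintype F := Fintype.ofFinite F
  have hfin : T.Finite := Set.toFinite T
  have hne : ∀ u : SpecialLinearGroup (Fin 2) F, u ≠ negS u := by
    intro u h
    have h1 : u.1 = -u.1 := congrArg Subtype.val h
    have h3 : (2 : F) • u.1 = 0 := by
      rw [two_smul]
      nth_rw 1 [h1]
      exact neg_add_cancel _
    have h4 : u.1 = 0 := by
      have := congrArg (fun M => (2 : F)⁻¹ • M) h3
      simpa [smul_smul, inv_mul_cancel₀ h2] using this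
    have := u.2
    rw [h4] at this
    simp at this
  have h1 : T.ncard = hfin.toFinset.card := Set.ncard_eq_toFinset_card T hfin
  have h2' : (proj '' T).ncard = (hfin.toFinset.image proj).card := by
    rw [Set.ncard_eq_toFinset_card (proj '' T) (hfin.image _)]
    congr 1
    ext v
    simp
  rw [h1, h2', Finset.card_eq_sum_card_image proj hfin.toFinset]
  rw [Finset.sum_const_nat (m := 2), mul_comm]
  intro v hv
  obtain ⟨u, hu, rfl⟩ := Finset.mem_image.mp hv
  rw [Set.Finite.mem_toFinset] at hu
  rw [Finset.card_eq_two]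
  refine ⟨u, negS u, hne u, ?_⟩
  ext w
  simp only [Finset.mem_filter, Set.Finite.mem_toFinset, Finset.mem_insert, Finset.mem_singleton]
  constructor
  · rintro ⟨_, hw⟩
    exact (proj_eq_iff u w).mp hw.symm
  · rintro (rfl | rfl)
    · exact ⟨hu, rfl⟩
    · exact ⟨hT u hu, proj_negS u⟩

end psl

end Cfsg.Agent.Lib.Helper42_SL2Class
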