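import Mathlib
import Cfsg.Agent.Lib.Helper42_SL2Class

set_option autoImplicit false

/-!
Class sizes of `PSL₂(F)` over a finite field: the list of indices of centralizers.
-/

namespace Cfsg.Agent.Lib.Helper42_SL2Class

open Matrix

section indices

variable {F : Type*} [Field F] [Fintype F] [DecidableEq F]


/-- (A) semisimple classes, trace not zero in odd characteristic -/
theorem index_psl_of_trace (g : SpecialLinearGroup (Fin 2) F)
    (hτ : (Matrix.trace g.1) ^ 2 ≠ 4) (h : (2 : F) = 0 ∨ Matrix.trace g.1 ≠ 0) :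
    (Subgroup.centralizer ({proj g} : Set (ProjectiveSpecialLinearGroup (Fin 2) F))).index = Fintype.card F * (Fintype.card F - 1) + Fintype.card F * R (Matrix.trace g.1) := by
  rw [index_psl, Set.InjOn.ncard_image, ncard_class_of_trace g hτ]
  exact proj_injOn _ (Matrix.trace g.1) (fun u hu => trace_eq_of_isConj hu) h

/-- (B) the class of trace zero in odd characteristic -/
theorem two_mul_index_psl_trace_zero (h2 : (2 : F) ≠ 0) (g : SpecialLinearGroup (Fin 2) F)
    (hτ : Matrix.trace g.1 = 0) :
    2 * (Subgroup.centralizer ({proj g} : Set (ProjectiveSpecialLinearGroup (Fin 2) F))).index = Fintype.card F * (Fintype.card F - 1) + Fintype.card F * R (0 : F) := by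
  have h4 : (Matrix.trace g.1) ^ 2 ≠ 4 := by
    rw [hτ]
    intro h
    apply h2
    have : (2 : F) * 2 = 0 := by linear_combination (-1 : F) * h
    rcases mul_eq_zero.mp this with h | h <;> exact h
  rw [index_psl, two_mul_ncard_image h2, ncard_class_of_trace g h4, hτ]
  intro u hu
  change IsConj g (negS u)
  change IsConj g u at hu
  rw [isConj_iff_trace g _ h4] at hu ⊢
  rw [trace_negS, hu, hτ, neg_zero]

theorem class_mul_card (g : SpecialLinearGroup (Fin 2) F) :
    {u : SpecialLinearGroup (Fin 2) F | IsConj g u}.ncard *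
      Nat.card (Subgroup.centralizer ({g} : Set (SpecialLinearGroup (Fin 2) F))) =
      Fintype.card F * (Fintype.card F ^ 2 - 1) := by
  rw [← index_centralizer_eq, Subgroup.index_mul_card,
    Cfsg.Agent.Lib.Helper5_PSLCard.card_SL_two]

/-- (C) unipotent classes, characteristic two -/
theorem index_psl_unipotent_char_two (h2 : (2 : F) = 0) (g : SpecialLinearGroup (Fin 2) F)
    (hg : ¬ IsSc g.1) (hτ : (Matrix.trace g.1) ^ 2 = 4) :
    (Subgroup.centralizer ({proj g} : Set (ProjectiveSpecialLinearGroup (Fin 2) F))).index = Fintype.card F ^ 2 - 1 := by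
  have hτ0 : Matrix.trace g.1 = 0 := by
    have : (Matrix.trace g.1) ^ 2 = 0 := by rw [hτ]; linear_combination (2 : F) * h2
    exact pow_eq_zero_iff (two_ne_zero) |>.mp this
  have hinj : Set.InjOn proj {u : SpecialLinearGroup (Fin 2) F | IsConj g u} :=
    proj_injOn _ (Matrix.trace g.1) (fun u hu => trace_eq_of_isConj hu) (Or.inl h2)
  rw [index_psl, Set.InjOn.ncard_image hinj]
  have h1 := class_mul_card g
  rw [card_centralizer_eq g hg, hτ0, card_Sol_char_two h2, mul_comm] at h1
  have hq : 0 < Fintype.card F := Fintype.card_pos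
  exact Nat.eq_of_mul_eq_mul_left hq h1

/-- (C) unipotent classes, odd characteristic -/
theorem two_mul_index_psl_unipotent_odd (h2 : (2 : F) ≠ 0) (g : SpecialLinearGroup (Fin 2) F)
    (hg : ¬ IsSc g.1) (hτ : (Matrix.trace g.1) ^ 2 = 4) :
    2 * (Subgroup.centralizer ({proj g} : Set (ProjectiveSpecialLinearGroup (Fin 2) F))).index = Fintype.card F ^ 2 - 1 := by
  have hτ0 : Matrix.trace g.1 ≠ 0 := by
    intro h
    rw [h] at hτ
    apply h2
    have : (2 : F) * 2 = 0 := by linear_combination (-1 : F) * hτ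
    rcases mul_eq_zero.mp this with h | h <;> exact h
  have hinj : Set.InjOn proj {u : SpecialLinearGroup (Fin 2) F | IsConj g u} :=
    proj_injOn _ (Matrix.trace g.1) (fun u hu => trace_eq_of_isConj hu) (Or.inr hτ0)
  rw [index_psl, Set.InjOn.ncard_image hinj]
  have h1 := class_mul_card g
  rw [card_centralizer_eq g hg, card_Sol_odd h2 _ hτ] at h1
  have hq : 0 < Fintype.card F := Fintype.card_pos
  apply Nat.eq_of_mul_eq_mul_left hq
  rw [← h1]
  ring

/-- (D) scalar matrices -/
theorem index_psl_scalar (g : SpecialLinearGroup (Fin 2) F) (hg : IsSc g.1) :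
    (Subgroup.centralizer ({proj g} : Set (ProjectiveSpecialLinearGroup (Fin 2) F))).index = 1 := by
  have h1 : proj g = 1 := by
    change (QuotientGroup.mk g : _ ⧸ Subgroup.center (SpecialLinearGroup (Fin 2) F)) = 1
    rw [QuotientGroup.eq_one_iff]
    apply Cfsg.Agent.Lib.Helper41_SL2.mem_center_of_scalar _ (g.1 0 0)
    obtain ⟨h01, h10, h00⟩ := hg
    ext i j
    fin_cases i <;> fin_cases j <;> simp [h01, h10, h00]
  rw [h1]
  have : Subgroup.centralizer ({1} : Set (ProjectiveSpecialLinearGroup (Fin 2) F)) = ⊤ := by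
    rw [eq_top_iff]
    intro x _
    rw [Subgroup.mem_centralizer_iff]
    intro h hh
    rw [Set.mem_singleton_iff] at hh
    subst hh
    simp
  rw [this, Subgroup.index_top]

/-- the companion matrix of trace `τ` -/
def compS (τ : F) : SpecialLinearGroup (Fin 2) F :=
  ⟨!![0, -1; 1, τ], by simp [Matrix.det_fin_two]⟩

theorem trace_compS (τ : F) : Matrix.trace (compS τ).1 = τ := by
  change Matrix.trace !![0, -1; 1, τ] = τ
  simp [Matrix.trace_fin_two]

theorem not_isSc_compS (τ : F) : ¬ IsSc (compS τ).1 := by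
  rintro ⟨_, h10, _⟩
  change (!![0, -1; 1, τ] : Matrix (Fin 2) (Fin 2) F) 1 0 = 0 at h10
  simp at h10

theorem R_pos (τ r : F) (hr : r * (τ - r) - 1 = 0) : 0 < R τ := by
  unfold R
  exact Finset.card_pos.mpr ⟨r, by simp [hr]⟩

theorem R_zero_of_isSquare (h2 : (2 : F) ≠ 0) (h : IsSquare (-1 : F)) : R (0 : F) = 2 := by
  obtain ⟨r, hr⟩ := h
  refine R_eq_two 0 ?_ r (by linear_combination hr)
  intro h
  apply h2
  have : (2 : F) * 2 = 0 := by linear_combination (-1 : F) * h
  rcases mul_eq_zero.mp this with h | h <;> exact h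

theorem R_zero_of_not_isSquare (h : ¬ IsSquare (-1 : F)) : R (0 : F) = 0 := by
  apply R_eq_zero
  intro r hr
  apply h
  exact ⟨r, by linear_combination hr⟩

theorem index_cases_char_two (h2 : (2 : F) = 0) (g : SpecialLinearGroup (Fin 2) F) :
    (Subgroup.centralizer ({proj g} : Set (ProjectiveSpecialLinearGroup (Fin 2) F))).index = 1 ∨
    (Subgroup.centralizer ({proj g} : Set (ProjectiveSpecialLinearGroup (Fin 2) F))).index =
      Fintype.card F ^ 2 - 1 ∨
    (Subgroup.centralizer ({proj g} : Set (ProjectiveSpecialLinearGroup (Fin 2) F))).index =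
      Fintype.card F * (Fintype.card F - 1) ∨
    (Subgroup.centralizer ({proj g} : Set (ProjectiveSpecialLinearGroup (Fin 2) F))).index =
      Fintype.card F * (Fintype.card F + 1) := by
  have hq : 0 < Fintype.card F := Fintype.card_pos
  by_cases hsc : IsSc g.1
  · left; exact index_psl_scalar g hsc
  by_cases hτ : (Matrix.trace g.1) ^ 2 = 4
  · right; left; exact index_psl_unipotent_char_two h2 g hsc hτ
  · right; right
    have := index_psl_of_trace g hτ (Or.inl h2)
    rcases R_zero_or_two _ hτ with h | h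
    · left; rw [this, h]; simp
    · right; rw [this, h, ← Nat.mul_add]; congr 1; omega

theorem index_cases_odd (h2 : (2 : F) ≠ 0) (g : SpecialLinearGroup (Fin 2) F) :
    (Subgroup.centralizer ({proj g} : Set (ProjectiveSpecialLinearGroup (Fin 2) F))).index = 1 ∨
    2 * (Subgroup.centralizer ({proj g} : Set (ProjectiveSpecialLinearGroup (Fin 2) F))).index =
      Fintype.card F ^ 2 - 1 ∨
    2 * (Subgroup.centralizer ({proj g} : Set (ProjectiveSpecialLinearGroup (Fin 2) F))).index =
      Fintype.card F * (Fintype.card F - 1) + Fintype.card F * R (0 : F) ∨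
    (Subgroup.centralizer ({proj g} : Set (ProjectiveSpecialLinearGroup (Fin 2) F))).index =
      Fintype.card F * (Fintype.card F - 1) ∨
    (Subgroup.centralizer ({proj g} : Set (ProjectiveSpecialLinearGroup (Fin 2) F))).index =
      Fintype.card F * (Fintype.card F + 1) := by
  have hq : 0 < Fintype.card F := Fintype.card_pos
  by_cases hsc : IsSc g.1
  · left; exact index_psl_scalar g hsc
  by_cases hτ : (Matrix.trace g.1) ^ 2 = 4
  · right; left; exact two_mul_index_psl_unipotent_odd h2 g hsc hτ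
  by_cases hτ0 : Matrix.trace g.1 = 0
  · right; right; left; exact two_mul_index_psl_trace_zero h2 g hτ0
  · right; right; right
    have := index_psl_of_trace g hτ (Or.inr hτ0)
    rcases R_zero_or_two _ hτ with h | h
    · left; rw [this, h]; simp
    · right; rw [this, h, ← Nat.mul_add]; congr 1; omega

theorem exists_index_one : ∃ g : SpecialLinearGroup (Fin 2) F,
    (Subgroup.centralizer ({proj g} : Set (ProjectiveSpecialLinearGroup (Fin 2) F))).index = 1 := by
  refine ⟨1, index_psl_scalar 1 ?_⟩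
  refine ⟨?_, ?_, ?_⟩ <;> simp

theorem exists_unip_char_two (h2 : (2 : F) = 0) : ∃ g : SpecialLinearGroup (Fin 2) F,
    (Subgroup.centralizer ({proj g} : Set (ProjectiveSpecialLinearGroup (Fin 2) F))).index =
      Fintype.card F ^ 2 - 1 := by
  refine ⟨compS 2, index_psl_unipotent_char_two h2 _ (not_isSc_compS 2) ?_⟩
  rw [trace_compS]; norm_num

theorem exists_unip_odd (h2 : (2 : F) ≠ 0) : ∃ g : SpecialLinearGroup (Fin 2) F,
    2 * (Subgroup.centralizer ({proj g} : Set (ProjectiveSpecialLinearGroup (Fin 2) F))).index =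
      Fintype.card F ^ 2 - 1 := by
  refine ⟨compS 2, two_mul_index_psl_unipotent_odd h2 _ (not_isSc_compS 2) ?_⟩
  rw [trace_compS]; norm_num

theorem exists_trace_zero_odd (h2 : (2 : F) ≠ 0) : ∃ g : SpecialLinearGroup (Fin 2) F,
    2 * (Subgroup.centralizer ({proj g} : Set (ProjectiveSpecialLinearGroup (Fin 2) F))).index =
      Fintype.card F * (Fintype.card F - 1) + Fintype.card F * R (0 : F) :=
  ⟨compS 0, two_mul_index_psl_trace_zero h2 _ (trace_compS 0)⟩

theorem exists_nonsplit_char_two (h2 : (2 : F) = 0) : ∃ g : SpecialLinearGroup (Fin 2) F,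
    (Subgroup.centralizer ({proj g} : Set (ProjectiveSpecialLinearGroup (Fin 2) F))).index =
      Fintype.card F * (Fintype.card F - 1) := by
  obtain ⟨τ, hτ⟩ := exists_R_eq_zero (F := F)
  have h0 : τ ≠ 0 := by
    rintro rfl
    have := R_pos (0 : F) 1 (by linear_combination (-1 : F) * h2)
    omega
  have h4 : (Matrix.trace (compS τ).1) ^ 2 ≠ 4 := by
    rw [trace_compS]
    intro h
    apply h0
    have : τ ^ 2 = 0 := by rw [h]; linear_combination (2 : F) * h2
    exact pow_eq_zero_iff (two_ne_zero) |>.mp this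
  refine ⟨compS τ, ?_⟩
  rw [index_psl_of_trace _ h4 (Or.inl h2), trace_compS, hτ]
  simp

theorem exists_R_eq_zero_ne_zero (h7 : 7 ≤ Fintype.card F) :
    ∃ τ : F, τ ≠ 0 ∧ τ ^ 2 ≠ 4 ∧ R τ = 0 := by
  by_contra hcon
  push Not at hcon
  have hS : ∀ τ ∈ (Finset.univ.filter fun τ : F => τ ≠ 0 ∧ τ ^ 2 ≠ 4), R τ = 2 := by
    intro τ hτ
    rw [Finset.mem_filter] at hτ
    rcases R_zero_or_two τ hτ.2.2 with h | h
    · exact absurd h (hcon τ hτ.2.1 hτ.2.2)
    · exact h
  have h1 : ∑ τ ∈ (Finset.univ.filter fun τ : F => τ ≠ 0 ∧ τ ^ 2 ≠ 4), R τ =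
      2 * (Finset.univ.filter fun τ : F => τ ≠ 0 ∧ τ ^ 2 ≠ 4).card := by
    rw [Finset.sum_congr rfl hS, Finset.sum_const, smul_eq_mul, mul_comm]
  have h2 : ∑ τ ∈ (Finset.univ.filter fun τ : F => τ ≠ 0 ∧ τ ^ 2 ≠ 4), R τ ≤ ∑ τ : F, R τ :=
    Finset.sum_le_sum_of_subset (Finset.subset_univ _)
  rw [sum_R, h1] at h2
  have h3 : Fintype.card F ≤ (Finset.univ.filter fun τ : F => τ ≠ 0 ∧ τ ^ 2 ≠ 4).card + 3 := by
    have hsub : (Finset.univ : Finset F) ⊆
        (Finset.univ.filter fun τ : F => τ ≠ 0 ∧ τ ^ 2 ≠ 4) ∪ {0, 2, -2} := by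
      intro τ _
      by_cases h0 : τ = 0
      · simp [h0]
      by_cases h4 : τ ^ 2 = 4
      · have : (τ - 2) * (τ + 2) = 0 := by linear_combination h4
        rcases mul_eq_zero.mp this with h | h
        · have : τ = 2 := by linear_combination h
          simp [this]
        · have : τ = -2 := by linear_combination h
          simp [this]
      · simp [h0, h4]
    calc Fintype.card F = (Finset.univ : Finset F).card := rfl
      _ ≤ ((Finset.univ.filter fun τ : F => τ ≠ 0 ∧ τ ^ 2 ≠ 4) ∪ {0, 2, -2}).card :=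
          Finset.card_le_card hsub
      _ ≤ (Finset.univ.filter fun τ : F => τ ≠ 0 ∧ τ ^ 2 ≠ 4).card +
            ({0, 2, -2} : Finset F).card := Finset.card_union_le _ _
      _ ≤ (Finset.univ.filter fun τ : F => τ ≠ 0 ∧ τ ^ 2 ≠ 4).card + 3 := by
          gcongr; exact Finset.card_le_three
  omega

theorem exists_nonsplit_odd (h7 : 7 ≤ Fintype.card F) : ∃ g : SpecialLinearGroup (Fin 2) F,
    (Subgroup.centralizer ({proj g} : Set (ProjectiveSpecialLinearGroup (Fin 2) F))).index =
      Fintype.card F * (Fintype.card F - 1) := by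
  obtain ⟨τ, h0, h4, hτ⟩ := exists_R_eq_zero_ne_zero h7
  refine ⟨compS τ, ?_⟩
  rw [index_psl_of_trace _ (by rw [trace_compS]; exact h4) (Or.inr (by rw [trace_compS]; exact h0)),
    trace_compS, hτ]
  simp

theorem index_split (a : F) (ha : a ≠ 0) (ha2 : a ^ 2 ≠ 1) (h : (2 : F) = 0 ∨ a ^ 2 ≠ -1) :
    (Subgroup.centralizer ({proj (compS (a + a⁻¹))} :
      Set (ProjectiveSpecialLinearGroup (Fin 2) F))).index =
      Fintype.card F * (Fintype.card F + 1) := by
  have hq : 0 < Fintype.card F := Fintype.card_pos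
  have hinv : a * a⁻¹ = 1 := mul_inv_cancel₀ ha
  have hroot : a * ((a + a⁻¹) - a) - 1 = 0 := by linear_combination hinv
  have h4 : (a + a⁻¹) ^ 2 ≠ 4 := by
    intro h4
    apply ha2
    have : (a ^ 2 - 1) ^ 2 = 0 := by
      linear_combination a ^ 2 * h4 - (2 * a ^ 2 + 1 + a * a⁻¹) * hinv
    have := pow_eq_zero_iff (two_ne_zero) |>.mp this
    linear_combination this
  have h0 : (2 : F) = 0 ∨ a + a⁻¹ ≠ 0 := by
    rcases h with h | h
    · exact Or.inl h
    · right
      intro h0
      apply h
      linear_combination a * h0 - hinv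
  rw [index_psl_of_trace _ (by rw [trace_compS]; exact h4) (by rw [trace_compS]; exact h0),
    trace_compS, R_eq_two _ h4 a hroot, ← Nat.mul_add]
  congr 1; omega

theorem exists_split_char_two (h2 : (2 : F) = 0) (h4 : 4 ≤ Fintype.card F) :
    ∃ g : SpecialLinearGroup (Fin 2) F,
    (Subgroup.centralizer ({proj g} : Set (ProjectiveSpecialLinearGroup (Fin 2) F))).index =
      Fintype.card F * (Fintype.card F + 1) := by
  obtain ⟨a, ha0, ha1⟩ : ∃ a : F, a ≠ 0 ∧ a ≠ 1 := by
    by_contra hcon
    push Not at hcon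
    have hsub : (Finset.univ : Finset F) ⊆ {0, 1} := by
      intro a _
      by_cases h : a = 0
      · simp [h]
      · simp [hcon a h]
    have := Finset.card_le_card hsub
    have h' : ({0, 1} : Finset F).card ≤ 2 := Finset.card_le_two
    have : Fintype.card F ≤ 2 := le_trans this h'
    omega
  refine ⟨compS (a + a⁻¹), index_split a ha0 ?_ (Or.inl h2)⟩
  intro h
  apply ha1
  have : (a - 1) ^ 2 = 0 := by linear_combination h + (1 - a) * h2
  have := pow_eq_zero_iff (two_ne_zero) |>.mp this
  linear_combination this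

theorem exists_split_odd (h7 : 7 ≤ Fintype.card F) :
    ∃ g : SpecialLinearGroup (Fin 2) F,
    (Subgroup.centralizer ({proj g} : Set (ProjectiveSpecialLinearGroup (Fin 2) F))).index =
      Fintype.card F * (Fintype.card F + 1) := by
  obtain ⟨a, ha0, ha4⟩ : ∃ a : F, a ≠ 0 ∧ a ^ 4 ≠ 1 := by
    by_contra hcon
    push Not at hcon
    have hsub : (Finset.univ : Finset F) ⊆ insert 0 (Polynomial.nthRootsFinset 4 (1 : F)) := by
      intro a _
      by_cases h : a = 0
      · simp [h]
      · rw [Finset.mem_insert]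
        right
        rw [Polynomial.mem_nthRootsFinset (by norm_num)]
        exact hcon a h
    have h1 := Finset.card_le_card hsub
    have h2 : (insert 0 (Polynomial.nthRootsFinset 4 (1 : F))).card ≤
        (Polynomial.nthRootsFinset 4 (1 : F)).card + 1 := Finset.card_insert_le _ _
    have h3 : (Polynomial.nthRootsFinset 4 (1 : F)).card ≤ 4 := by
      unfold Polynomial.nthRootsFinset
      exact le_trans (@Multiset.toFinset_card_le _ (Classical.decEq F) _)
        (Polynomial.card_nthRoots 4 1)
    have : Fintype.card F ≤ 5 := by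
      calc Fintype.card F = (Finset.univ : Finset F).card := rfl
        _ ≤ _ := h1
        _ ≤ _ := h2
        _ ≤ 5 := by omega
    omega
  refine ⟨compS (a + a⁻¹), index_split a ha0 ?_ (Or.inr ?_)⟩
  · intro h
    apply ha4
    linear_combination (a ^ 2 + 1) * h
  · intro h
    apply ha4
    linear_combination (a ^ 2 - 1) * h

end indices

end Cfsg.Agent.Lib.Helper42_SL2Class
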