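import Mathlib
import Cfsg.Agent.Lib.Helper42_SL2Class2
import Cfsg.Agent.Lib.Helper42_KleinCount

set_option autoImplicit false

/-!
Commuting involutions of `PSL₂(F)`, `F` a finite field of odd order, lifted to `SL₂(F)`.
-/

namespace Cfsg.Agent.Lib.Helper42_PSL2Klein

open Matrix Cfsg.Agent.Lib.Helper42_SL2Class Cfsg.Agent.Lib.Helper42_KleinCount

section basics

variable {F : Type*} [Field F]

theorem negS_eq_mul (u : SpecialLinearGroup (Fin 2) F) : negS u = negS 1 * u := by
  apply Subtype.ext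
  change -u.1 = (-(1 : Matrix (Fin 2) (Fin 2) F)) * u.1
  rw [Matrix.neg_mul, Matrix.one_mul]

theorem negS_one_comm (u : SpecialLinearGroup (Fin 2) F) : negS 1 * u = u * negS 1 := by
  apply Subtype.ext
  change (-(1 : Matrix (Fin 2) (Fin 2) F)) * u.1 = u.1 * (-(1 : Matrix (Fin 2) (Fin 2) F))
  rw [Matrix.neg_mul, Matrix.one_mul, Matrix.mul_neg, Matrix.mul_one]

theorem negS_one_mul_self : negS (1 : SpecialLinearGroup (Fin 2) F) * negS 1 = 1 := by
  apply Subtype.ext
  change (-(1 : Matrix (Fin 2) (Fin 2) F)) * (-(1 : Matrix (Fin 2) (Fin 2) F)) = 1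
  rw [Matrix.neg_mul, Matrix.one_mul, neg_neg]

theorem negS_negS (u : SpecialLinearGroup (Fin 2) F) : negS (negS u) = u := by
  apply Subtype.ext
  change - -u.1 = u.1
  rw [neg_neg]

theorem negS_mul (u v : SpecialLinearGroup (Fin 2) F) : negS u * v = negS (u * v) := by
  rw [negS_eq_mul u, negS_eq_mul (u * v), mul_assoc]

theorem mul_negS (u v : SpecialLinearGroup (Fin 2) F) : u * negS v = negS (u * v) := by
  rw [negS_eq_mul v, negS_eq_mul (u * v), ← mul_assoc, ← negS_one_comm, mul_assoc]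

theorem ne_negS (h2 : (2 : F) ≠ 0) (u : SpecialLinearGroup (Fin 2) F) : u ≠ negS u := by
  intro h
  have h1 : u.1 = -u.1 := congrArg Subtype.val h
  have h3 : (2 : F) • u.1 = 0 := by
    rw [two_smul]
    nth_rw 1 [h1]
    exact neg_add_cancel _
  have h4 : u.1 = 0 := by
    rcases smul_eq_zero.mp h3 with h | h
    · exact absurd h h2
    · exact h
  have := u.2
  rw [h4] at this
  simp at this

theorem proj_negS_one : proj (negS (1 : SpecialLinearGroup (Fin 2) F)) = 1 := by
  rw [proj_negS, map_one]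

theorem proj_eq_one_of_isSc (g : SpecialLinearGroup (Fin 2) F) (hg : IsSc g.1) : proj g = 1 := by
  change (QuotientGroup.mk g : _ ⧸ Subgroup.center (SpecialLinearGroup (Fin 2) F)) = 1
  rw [QuotientGroup.eq_one_iff]
  apply Cfsg.Agent.Lib.Helper41_SL2.mem_center_of_scalar _ (g.1 0 0)
  obtain ⟨h01, h10, h00⟩ := hg
  ext i j
  fin_cases i <;> fin_cases j <;> simp [h01, h10, h00]

/-- Cayley-Hamilton for trace zero -/
theorem mul_self_of_trace_zero (a : SpecialLinearGroup (Fin 2) F) (h : Matrix.trace a.1 = 0) :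
    a * a = negS 1 := by
  apply Subtype.ext
  change a.1 * a.1 = -(1 : Matrix (Fin 2) (Fin 2) F)
  rw [Cfsg.Agent.Lib.Helper41_SL2.sl2_mul_self a, h, zero_smul, add_zero, neg_one_smul]

theorem trace_zero_of_mul_self (a : SpecialLinearGroup (Fin 2) F) (h : a * a = negS 1) :
    Matrix.trace a.1 = 0 := by
  have h1 : a.1 * a.1 = -(1 : Matrix (Fin 2) (Fin 2) F) := congrArg Subtype.val h
  rw [Cfsg.Agent.Lib.Helper41_SL2.sl2_mul_self a, neg_one_smul] at h1
  have h2 : Matrix.trace a.1 • a.1 = 0 := by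
    have := congrArg (fun M => (1 : Matrix (Fin 2) (Fin 2) F) + M) h1
    simpa using this
  rcases smul_eq_zero.mp h2 with h | h
  · exact h
  · exfalso
    have := a.2
    rw [h] at this
    simp at this

/-- an element of `SL₂` whose square is one is `±1` (odd characteristic) -/
theorem isSc_of_mul_self_eq_one (h2 : (2 : F) ≠ 0) (a : SpecialLinearGroup (Fin 2) F)
    (h : a * a = 1) : IsSc a.1 := by
  have h1 : a.1 * a.1 = (1 : Matrix (Fin 2) (Fin 2) F) := congrArg Subtype.val h
  rw [Cfsg.Agent.Lib.Helper41_SL2.sl2_mul_self a, neg_one_smul] at h1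
  have e00 := congrFun (congrFun h1 0) 0
  have e01 := congrFun (congrFun h1 0) 1
  have e10 := congrFun (congrFun h1 1) 0
  have e11 := congrFun (congrFun h1 1) 1
  simp at e00 e01 e10 e11
  have hτ : Matrix.trace a.1 ≠ 0 := by
    intro hτ
    rw [hτ] at e00
    apply h2
    linear_combination (-1 : F) * e00
  refine ⟨?_, ?_, ?_⟩
  · rcases e01 with h | h
    · exact absurd h hτ
    · exact h
  · rcases e10 with h | h
    · exact absurd h hτ
    · exact h
  · have : Matrix.trace a.1 * (a.1 0 0 - a.1 1 1) = 0 := by linear_combination e00 - e11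
    rcases mul_eq_zero.mp this with h | h
    · exact absurd h hτ
    · linear_combination h

theorem not_isSc_of_trace_zero (h2 : (2 : F) ≠ 0) (a : SpecialLinearGroup (Fin 2) F)
    (h : Matrix.trace a.1 = 0) : ¬ IsSc a.1 := by
  rintro ⟨h01, h10, h00⟩
  rw [Matrix.trace_fin_two, h00] at h
  have h11 : a.1 1 1 = 0 := by
    have : (2 : F) * a.1 1 1 = 0 := by linear_combination h
    rcases mul_eq_zero.mp this with h | h
    · exact absurd h h2
    · exact h
  have hdet := a.2
  rw [Matrix.det_fin_two, h01, h10, h00, h11] at hdet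
  simp at hdet

/-- lifts of involutions of `PSL₂` are the trace zero elements (odd characteristic) -/
theorem involution_iff (h2 : (2 : F) ≠ 0) (a : SpecialLinearGroup (Fin 2) F) :
    (proj a ≠ 1 ∧ proj a * proj a = 1) ↔ Matrix.trace a.1 = 0 := by
  constructor
  · rintro ⟨h1, hsq⟩
    rw [← map_mul, ← map_one proj, proj_eq_iff] at hsq
    rcases hsq with h | h
    · exfalso
      exact h1 (proj_eq_one_of_isSc a (isSc_of_mul_self_eq_one h2 a h.symm))
    · apply trace_zero_of_mul_self a
      rw [← negS_negS (a * a), ← h]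
  · intro h
    constructor
    · intro h1
      rw [← map_one proj, proj_eq_iff] at h1
      have hsc : IsSc a.1 := by
        rcases h1 with h1 | h1
        · rw [← h1]; refine ⟨?_, ?_, ?_⟩ <;> simp
        · have h3 : a = negS 1 := by rw [h1, negS_negS]
          rw [h3, negS_coe]; refine ⟨?_, ?_, ?_⟩ <;> simp
      exact not_isSc_of_trace_zero h2 a h hsc
    · rw [← map_mul, mul_self_of_trace_zero a h, proj_negS_one]

theorem trace_zero_of_anticomm (h2 : (2 : F) ≠ 0) (a b : SpecialLinearGroup (Fin 2) F)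
    (ha : Matrix.trace a.1 = 0) (hab : a * b = negS (b * a)) : Matrix.trace b.1 = 0 := by
  have h1 : a.1 * b.1 = -(b.1 * a.1) := congrArg Subtype.val hab
  have e00 := congrFun (congrFun h1 0) 0
  have e01 := congrFun (congrFun h1 0) 1
  have e10 := congrFun (congrFun h1 1) 0
  have e11 := congrFun (congrFun h1 1) 1
  simp only [Matrix.mul_apply, Fin.sum_univ_two, Matrix.neg_apply] at e00 e01 e10 e11
  rw [Matrix.trace_fin_two] at ha ⊢
  have hdet := a.2
  rw [Matrix.det_fin_two] at hdet
  by_contra hne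
  have k01 : a.1 0 1 = 0 := by
    have : a.1 0 1 * (b.1 0 0 + b.1 1 1) = 0 := by linear_combination e01 - b.1 0 1 * ha
    rcases mul_eq_zero.mp this with h | h
    · exact h
    · exact absurd h hne
  have k00 : a.1 0 0 = 0 := by
    have : (2 : F) * a.1 0 0 * (b.1 0 0 + b.1 1 1) = 0 := by
      linear_combination e00 - e11 + 2 * b.1 1 1 * ha
    rcases mul_eq_zero.mp this with h | h
    · rcases mul_eq_zero.mp h with h | h
      · exact absurd h h2
      · exact h
    · exact absurd h hne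
  rw [k01, k00] at hdet
  simp at hdet

theorem comm_of_trace_zero (h2 : (2 : F) ≠ 0) (a b : SpecialLinearGroup (Fin 2) F)
    (ha : Matrix.trace a.1 = 0) (hb : Matrix.trace b.1 = 0) (hab : a * b = b * a) :
    b = a ∨ b = negS a := by
  have h1 : b.1 * a.1 = a.1 * b.1 := (congrArg Subtype.val hab).symm
  obtain ⟨s, t, hst⟩ := commutant a.1 b.1 (not_isSc_of_trace_zero h2 a ha) h1
  have hs : s = 0 := by
    have := congrArg Matrix.trace hst
    rw [Matrix.trace_add, Matrix.trace_smul, Matrix.trace_smul, ha, hb, Matrix.trace_one] at this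
    simp at this
    rcases this with h | h
    · exact h
    · exact absurd h h2
  rw [hs, zero_smul, zero_add] at hst
  have hdet := b.2
  rw [hst, Matrix.det_smul, a.2] at hdet
  simp at hdet
  rcases hdet with h | h
  · left
    apply Subtype.ext
    rw [hst, h, one_smul]
  · right
    apply Subtype.ext
    rw [hst, negS_coe, h, neg_one_smul]

/-- lifts of ordered pairs of distinct commuting involutions -/
def Pt (F : Type*) [Field F] : Set (SpecialLinearGroup (Fin 2) F × SpecialLinearGroup (Fin 2) F) :=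
  {p | Matrix.trace p.1.1 = 0 ∧ p.1 * p.2 = negS (p.2 * p.1)}

theorem pairs_iff (h2 : (2 : F) ≠ 0) (a b : SpecialLinearGroup (Fin 2) F) :
    (proj a, proj b) ∈ Pairs (ProjectiveSpecialLinearGroup (Fin 2) F) ↔ (a, b) ∈ Pt F := by
  constructor
  · rintro ⟨hx1, hy1, hne, hx, hy, hxy⟩
    change proj a ≠ 1 at hx1
    change proj b ≠ 1 at hy1
    change proj a ≠ proj b at hne
    change proj a * proj a = 1 at hx
    change proj b * proj b = 1 at hy
    change proj a * proj b = proj b * proj a at hxy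
    have ha := (involution_iff h2 a).mp ⟨hx1, hx⟩
    have hb := (involution_iff h2 b).mp ⟨hy1, hy⟩
    refine ⟨ha, ?_⟩
    rw [← map_mul, ← map_mul, proj_eq_iff] at hxy
    rcases hxy with h | h
    · exfalso
      apply hne
      rcases comm_of_trace_zero h2 a b ha hb h.symm with h' | h'
      · rw [h']
      · rw [h', proj_negS]
    · change a * b = negS (b * a)
      rw [h, negS_negS]
  · rintro ⟨ha, hab⟩
    change Matrix.trace a.1 = 0 at ha
    change a * b = negS (b * a) at hab
    have hb := trace_zero_of_anticomm h2 a b ha hab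
    obtain ⟨hx1, hx⟩ := (involution_iff h2 a).mpr ha
    obtain ⟨hy1, hy⟩ := (involution_iff h2 b).mpr hb
    refine ⟨hx1, hy1, ?_, hx, hy, ?_⟩
    · change proj a ≠ proj b
      intro h
      rw [proj_eq_iff] at h
      have hcomm : a * b = b * a := by
        rcases h with h | h
        · rw [h]
        · rw [h, mul_negS, negS_mul]
      rw [hcomm] at hab
      exact ne_negS h2 _ hab
    · change proj a * proj b = proj b * proj a
      rw [← map_mul, ← map_mul, hab, proj_negS]

end basics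

section abstract

variable {G : Type*} [Group G]

theorem anti_conj (z : G) (hz : ∀ g, z * g = g * z) (g a b : G) (h : a * b = z * (b * a)) :
    (g * a * g⁻¹) * (g * b * g⁻¹) = z * ((g * b * g⁻¹) * (g * a * g⁻¹)) := by
  have e1 : g * a * g⁻¹ * (g * b * g⁻¹) = g * (a * b) * g⁻¹ := by group
  have e2 : g * b * g⁻¹ * (g * a * g⁻¹) = g * (b * a) * g⁻¹ := by group
  rw [e1, e2, h, ← mul_assoc g z, ← hz g, mul_assoc z g, mul_assoc z]

theorem card_anti (z : G) (hz : ∀ g, z * g = g * z) (a b₀ : G) (h : a * b₀ = z * (b₀ * a)) :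
    Nat.card {b : G // a * b = z * (b * a)} = Nat.card (Subgroup.centralizer ({a} : Set G)) := by
  symm
  apply Nat.card_congr
  have hb₀ : b₀⁻¹ * a = z * (a * b₀⁻¹) := by
    have : b₀⁻¹ * (a * b₀) * b₀⁻¹ = b₀⁻¹ * (z * (b₀ * a)) * b₀⁻¹ := by rw [h]
    have e1 : b₀⁻¹ * (a * b₀) * b₀⁻¹ = b₀⁻¹ * a := by group
    have e2 : b₀⁻¹ * (z * (b₀ * a)) * b₀⁻¹ = z * (a * b₀⁻¹) := by
      rw [← mul_assoc b₀⁻¹ z, ← hz b₀⁻¹, mul_assoc z, mul_assoc z]
      congr 1
      group
    rw [e1, e2] at this
    exact this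
  refine ⟨fun c => ⟨c.1 * b₀, ?_⟩, fun b => ⟨b.1 * b₀⁻¹, ?_⟩, ?_, ?_⟩
  · have hc := Subgroup.mem_centralizer_iff.mp c.2 a rfl
    rw [← mul_assoc, hc, mul_assoc, h, ← mul_assoc c.1 z, ← hz c.1, mul_assoc z, mul_assoc c.1]
  · rw [Subgroup.mem_centralizer_iff]
    intro x hx
    rw [Set.mem_singleton_iff] at hx
    subst hx
    rw [← mul_assoc, b.2, mul_assoc b.1, hb₀, ← mul_assoc b.1 z, ← hz b.1]
    simp only [mul_assoc]
  · intro c
    apply Subtype.ext
    simp
  · intro b
    apply Subtype.ext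
    simp

theorem two_mul_ncard_image_gen {α β : Type*} (f : α → β) (ν : α → α) (T : Set α)
    (hfin : T.Finite) (hν : ∀ t ∈ T, ν t ∈ T) (hne : ∀ t ∈ T, ν t ≠ t)
    (hf : ∀ t ∈ T, ∀ t' ∈ T, f t = f t' ↔ (t' = t ∨ t' = ν t)) :
    2 * (f '' T).ncard = T.ncard := by
  classical
  have h1 : T.ncard = hfin.toFinset.card := Set.ncard_eq_toFinset_card T hfin
  have h2' : (f '' T).ncard = (hfin.toFinset.image f).card := by
    rw [Set.ncard_eq_toFinset_card (f '' T) (hfin.image _)]
    congr 1
    ext v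
    simp
  rw [h1, h2', Finset.card_eq_sum_card_image f hfin.toFinset]
  rw [Finset.sum_const_nat (m := 2), mul_comm]
  intro v hv
  obtain ⟨u, hu, rfl⟩ := Finset.mem_image.mp hv
  rw [Set.Finite.mem_toFinset] at hu
  rw [Finset.card_eq_two]
  refine ⟨u, ν u, (hne u hu).symm, ?_⟩
  ext w
  simp only [Finset.mem_filter, Set.Finite.mem_toFinset, Finset.mem_insert, Finset.mem_singleton]
  constructor
  · rintro ⟨hw, hfw⟩
    exact (hf u hu w hw).mp hfw.symm
  · rintro (rfl | rfl)
    · exact ⟨hu, rfl⟩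
    · exact ⟨hν u hu, ((hf u hu _ (hν u hu)).mpr (Or.inr rfl)).symm⟩

end abstract

section counting

variable {F : Type*} [Field F] [Fintype F]

theorem zero_sq_ne_four (h2 : (2 : F) ≠ 0) : (0 : F) ^ 2 ≠ 4 := by
  intro h
  apply h2
  have : (2 : F) * 2 = 0 := by linear_combination (-1 : F) * h
  rcases mul_eq_zero.mp this with h | h <;> exact h

/-- every trace zero element anticommutes with some element of `SL₂` -/
theorem exists_anti (h2 : (2 : F) ≠ 0) (a : SpecialLinearGroup (Fin 2) F)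
    (ha : Matrix.trace a.1 = 0) :
    ∃ b : SpecialLinearGroup (Fin 2) F, a * b = negS 1 * (b * a) := by
  classical
  have hw : Matrix.trace (compS (0 : F)).1 = 0 := trace_compS 0
  have hconj : IsConj (compS (0 : F)) a := by
    rw [isConj_iff_trace _ _ (by rw [hw]; exact zero_sq_ne_four h2), ha, hw]
  obtain ⟨g, hg⟩ := isConj_iff.mp hconj
  obtain ⟨x, y, hxy⟩ := Cfsg.Agent.Lib.Helper41_SL2Conj.form_represents (0 : F)
    (zero_sq_ne_four h2) (-1)
  have hdet : (!![x, y; y, -x] : Matrix (Fin 2) (Fin 2) F).det = 1 := by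
    rw [Matrix.det_fin_two_of]
    linear_combination (-1 : F) * hxy
  obtain ⟨β, hβ⟩ : ∃ β : SpecialLinearGroup (Fin 2) F, β.1 = !![x, y; y, -x] :=
    ⟨⟨_, hdet⟩, rfl⟩
  have hwβ : compS (0 : F) * β = negS 1 * (β * compS (0 : F)) := by
    apply Subtype.ext
    change (!![0, -1; 1, 0] : Matrix (Fin 2) (Fin 2) F) * β.1 =
      (-(1 : Matrix (Fin 2) (Fin 2) F)) * (β.1 * !![0, -1; 1, 0])
    rw [hβ]
    ext i j
    fin_cases i <;> fin_cases j <;> simp [Matrix.mul_apply, Fin.sum_univ_two]
  refine ⟨g * β * g⁻¹, ?_⟩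
  have := anti_conj (negS 1) negS_one_comm g _ _ hwβ
  rw [hg] at this
  exact this

theorem ncard_Pt (h2 : (2 : F) ≠ 0) :
    (Pt F).ncard = Nat.card (SpecialLinearGroup (Fin 2) F) := by
  classical
  have e : ↥(Pt F) ≃ Σ a : {a : SpecialLinearGroup (Fin 2) F // Matrix.trace a.1 = 0},
      {b : SpecialLinearGroup (Fin 2) F // a.1 * b = negS 1 * (b * a.1)} :=
    { toFun := fun p => ⟨⟨p.1.1, p.2.1⟩, ⟨p.1.2, p.2.2.trans (negS_eq_mul _)⟩⟩
      invFun := fun s => ⟨(s.1.1, s.2.1), ⟨s.1.2, s.2.2.trans (negS_eq_mul _).symm⟩⟩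
      left_inv := fun _ => rfl
      right_inv := fun _ => rfl }
  have : Fintype {a : SpecialLinearGroup (Fin 2) F // Matrix.trace a.1 = 0} := Fintype.ofFinite _
  rw [← Nat.card_coe_set_eq, Nat.card_congr e, Nat.card_sigma]
  have hN : ∀ a : {a : SpecialLinearGroup (Fin 2) F // Matrix.trace a.1 = 0},
      Fintype.card {a : SpecialLinearGroup (Fin 2) F // Matrix.trace a.1 = 0} *
        Nat.card {b : SpecialLinearGroup (Fin 2) F // a.1 * b = negS 1 * (b * a.1)} =
      Nat.card (SpecialLinearGroup (Fin 2) F) := by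
    intro a
    obtain ⟨b₀, hb₀⟩ := exists_anti h2 a.1 a.2
    rw [card_anti (negS 1) negS_one_comm a.1 b₀ hb₀, ← Subgroup.index_mul_card
      (Subgroup.centralizer ({a.1} : Set (SpecialLinearGroup (Fin 2) F))), index_centralizer_eq]
    congr 1
    rw [← Nat.card_eq_fintype_card, ← Nat.card_coe_set_eq]
    apply Nat.card_congr
    apply Equiv.subtypeEquivRight
    intro u
    have h4 : (Matrix.trace a.1.1) ^ 2 ≠ 4 := by rw [a.2]; exact zero_sq_ne_four h2
    change Matrix.trace u.1 = 0 ↔ IsConj a.1 u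
    rw [isConj_iff_trace a.1 u h4, a.2]
  have hpos : 0 < Fintype.card {a : SpecialLinearGroup (Fin 2) F // Matrix.trace a.1 = 0} :=
    Fintype.card_pos_iff.mpr ⟨⟨compS 0, trace_compS 0⟩⟩
  apply Nat.eq_of_mul_eq_mul_left hpos
  rw [Finset.mul_sum, Finset.sum_congr rfl (fun a _ => hN a), Finset.sum_const, Finset.card_univ,
    smul_eq_mul]

theorem four_mul_ncard_pairs (h2 : (2 : F) ≠ 0) :
    4 * (Pairs (ProjectiveSpecialLinearGroup (Fin 2) F)).ncard =
      Nat.card (SpecialLinearGroup (Fin 2) F) := by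
  rw [← ncard_Pt h2]
  have himg : Pairs (ProjectiveSpecialLinearGroup (Fin 2) F) =
      (Prod.map (id : ProjectiveSpecialLinearGroup (Fin 2) F → _) (proj (F := F))) ''
        ((Prod.map (proj (F := F)) (id : SpecialLinearGroup (Fin 2) F → _)) '' Pt F) := by
    rw [Set.image_image]
    ext ⟨x, y⟩
    constructor
    · intro hxy
      obtain ⟨a, rfl⟩ := proj_surjective x
      obtain ⟨b, rfl⟩ := proj_surjective y
      exact ⟨(a, b), (pairs_iff h2 a b).mp hxy, rfl⟩
    · rintro ⟨⟨a, b⟩, hab, hh⟩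
      have h1 : proj a = x := congrArg Prod.fst hh
      have h2' : proj b = y := congrArg Prod.snd hh
      rw [← h1, ← h2']
      exact (pairs_iff h2 a b).mpr hab
  have step1 : 2 * ((Prod.map (proj (F := F)) (id : SpecialLinearGroup (Fin 2) F → _)) '' Pt F).ncard =
      (Pt F).ncard := by
    apply two_mul_ncard_image_gen _ (fun p => (negS p.1, p.2)) _ (Set.toFinite _)
    · rintro ⟨a, b⟩ ⟨ha, hab⟩
      change Matrix.trace a.1 = 0 at ha
      change a * b = negS (b * a) at hab
      refine ⟨?_, ?_⟩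
      · change Matrix.trace (negS a).1 = 0
        rw [trace_negS, ha, neg_zero]
      · change negS a * b = negS (b * negS a)
        rw [negS_mul, mul_negS, hab]
    · rintro ⟨a, b⟩ _ h
      exact ne_negS h2 a (congrArg Prod.fst h).symm
    · rintro ⟨a, b⟩ _ ⟨a', b'⟩ _
      change (proj a, b) = (proj a', b') ↔ _
      rw [Prod.mk.injEq, proj_eq_iff]
      constructor
      · rintro ⟨h | h, rfl⟩
        · left; rw [h]
        · right; rw [h]
      · rintro (h | h)
        · rw [Prod.mk.injEq] at h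
          exact ⟨Or.inl h.1, h.2.symm⟩
        · rw [Prod.mk.injEq] at h
          exact ⟨Or.inr h.1, h.2.symm⟩
  have step2 : 2 * ((Prod.map (id : ProjectiveSpecialLinearGroup (Fin 2) F → _) (proj (F := F))) ''
        ((Prod.map (proj (F := F)) (id : SpecialLinearGroup (Fin 2) F → _)) '' Pt F)).ncard =
      ((Prod.map (proj (F := F)) (id : SpecialLinearGroup (Fin 2) F → _)) '' Pt F).ncard := by
    apply two_mul_ncard_image_gen _ (fun p => (p.1, negS p.2)) _ (Set.toFinite _)
    · rintro _ ⟨⟨a, b⟩, ⟨ha, hab⟩, rfl⟩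
      change Matrix.trace a.1 = 0 at ha
      change a * b = negS (b * a) at hab
      refine ⟨(a, negS b), ⟨ha, ?_⟩, rfl⟩
      change a * negS b = negS (negS b * a)
      rw [negS_mul, mul_negS, hab]
    · rintro ⟨x, b⟩ _ h
      exact ne_negS h2 b (congrArg Prod.snd h).symm
    · rintro ⟨x, b⟩ _ ⟨x', b'⟩ _
      change (x, proj b) = (x', proj b') ↔ _
      rw [Prod.mk.injEq, proj_eq_iff]
      constructor
      · rintro ⟨rfl, h | h⟩
        · left; rw [h]
        · right; rw [h]
      · rintro (h | h)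
        · rw [Prod.mk.injEq] at h
          exact ⟨h.1.symm, Or.inl h.2⟩
        · rw [Prod.mk.injEq] at h
          exact ⟨h.1.symm, Or.inr h.2⟩
  rw [himg, ← step1, ← step2]
  ring

end counting

end Cfsg.Agent.Lib.Helper42_PSL2Klein
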