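import Mathlib
import Cfsg.Agent.Lib.Helper42_PSL2Klein

set_option autoImplicit false

/-!
Anticommuting trace zero elements of `SL₂(F)` (odd characteristic): swapping elements,
parametrization of the elements anticommuting with a given one, trace formulas.
-/

namespace Cfsg.Agent.Lib.Helper42_PSL2Klein

open Matrix Cfsg.Agent.Lib.Helper42_SL2Class Cfsg.Agent.Lib.Helper42_KleinCount

section swap

variable {F : Type*} [Field F]

theorem coe_mul_self_of_trace_zero (a : SpecialLinearGroup (Fin 2) F) (h : Matrix.trace a.1 = 0) :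
    a.1 * a.1 = -(1 : Matrix (Fin 2) (Fin 2) F) :=
  congrArg Subtype.val (mul_self_of_trace_zero a h)

theorem coe_anti {a b : SpecialLinearGroup (Fin 2) F} (h : a * b = negS (b * a)) :
    a.1 * b.1 = -(b.1 * a.1) := congrArg Subtype.val h

theorem anti_of_coe {a b : SpecialLinearGroup (Fin 2) F} (h : a.1 * b.1 = -(b.1 * a.1)) :
    a * b = negS (b * a) := Subtype.ext h

theorem anti_symm {a b : SpecialLinearGroup (Fin 2) F} (h : a * b = negS (b * a)) :
    b * a = negS (a * b) := by
  rw [h, negS_negS]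

theorem det_add_of_trace_zero (u u' : SpecialLinearGroup (Fin 2) F)
    (hu' : Matrix.trace u'.1 = 0) :
    (u.1 + u'.1).det = 2 - Matrix.trace (u.1 * u'.1) + (Matrix.trace u.1) * 0 := by
  have hd := u.2
  have hd' := u'.2
  rw [Matrix.det_fin_two] at hd hd' ⊢
  rw [Matrix.trace_fin_two] at hu' ⊢
  simp only [Matrix.mul_apply, Fin.sum_univ_two, Matrix.add_apply]
  linear_combination hd + hd' + (u.1 0 0 + u.1 1 1) * hu'

/-- the element `(u + u')/r` swaps the trace zero elements `u`, `u'` and inverts whatever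
anticommutes with both -/
theorem swap_exists (u u' : SpecialLinearGroup (Fin 2) F)
    (hu : Matrix.trace u.1 = 0) (hu' : Matrix.trace u'.1 = 0) (r : F) (hr0 : r ≠ 0)
    (hr : r * r = 2 - Matrix.trace (u.1 * u'.1)) :
    ∃ g : SpecialLinearGroup (Fin 2) F, g * u * g⁻¹ = u' ∧ g * u' * g⁻¹ = u ∧
      ∀ a : SpecialLinearGroup (Fin 2) F, a * u = negS (u * a) → a * u' = negS (u' * a) →
        g * a * g⁻¹ = negS a := by
  have hdet : (r⁻¹ • (u.1 + u'.1)).det = 1 := by
    rw [Matrix.det_smul, det_add_of_trace_zero u u' hu', ← hr]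
    simp only [Fintype.card_fin, mul_zero, add_zero]
    field_simp
  obtain ⟨g, hg⟩ : ∃ g : SpecialLinearGroup (Fin 2) F, g.1 = r⁻¹ • (u.1 + u'.1) :=
    ⟨⟨_, hdet⟩, rfl⟩
  have huu := coe_mul_self_of_trace_zero u hu
  have huu' := coe_mul_self_of_trace_zero u' hu'
  have e1 : g * u = u' * g := by
    apply Subtype.ext
    change g.1 * u.1 = u'.1 * g.1
    rw [hg, Matrix.smul_mul, Matrix.mul_smul, Matrix.add_mul, Matrix.mul_add, huu, huu', add_comm]
  have e2 : g * u' = u * g := by
    apply Subtype.ext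
    change g.1 * u'.1 = u.1 * g.1
    rw [hg, Matrix.smul_mul, Matrix.mul_smul, Matrix.add_mul, Matrix.mul_add, huu, huu', add_comm]
  refine ⟨g, ?_, ?_, ?_⟩
  · rw [e1, mul_inv_cancel_right]
  · rw [e2, mul_inv_cancel_right]
  · intro a h1 h2
    have k1 := coe_anti h1
    have k2 := coe_anti h2
    have e3 : g * a = negS (a * g) := by
      apply Subtype.ext
      change g.1 * a.1 = -(a.1 * g.1)
      rw [hg, Matrix.smul_mul, Matrix.mul_smul, Matrix.add_mul, Matrix.mul_add, k1, k2,
        ← neg_add, smul_neg, neg_neg]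
    rw [e3, negS_mul, mul_inv_cancel_right]

end swap

section param

variable {F : Type*} [Field F]

/-- the quotient of two elements anticommuting with `a` commutes with `a` -/
theorem comm_of_anti_anti (a b b' : SpecialLinearGroup (Fin 2) F)
    (hab : a * b = negS (b * a)) (hab' : a * b' = negS (b' * a)) :
    a * (b' * b⁻¹) = (b' * b⁻¹) * a := by
  have h1 : b⁻¹ * a = negS (a * b⁻¹) := by
    have : b⁻¹ * (a * b) * b⁻¹ = b⁻¹ * negS (b * a) * b⁻¹ := by rw [hab]
    rw [mul_negS, negS_mul] at this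
    have e1 : b⁻¹ * (a * b) * b⁻¹ = b⁻¹ * a := by group
    have e2 : b⁻¹ * (b * a) * b⁻¹ = a * b⁻¹ := by group
    rw [e1, e2] at this
    exact this
  calc a * (b' * b⁻¹) = (a * b') * b⁻¹ := (mul_assoc _ _ _).symm
    _ = negS (b' * a) * b⁻¹ := by rw [hab']
    _ = negS (b' * (a * b⁻¹)) := by rw [negS_mul, mul_assoc]
    _ = b' * negS (a * b⁻¹) := (mul_negS _ _).symm
    _ = b' * (b⁻¹ * a) := by rw [h1]
    _ = b' * b⁻¹ * a := (mul_assoc _ _ _).symm

/-- the elements anticommuting with the trace zero element `a` are `(s + t a) b`,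
`s² + t² = 1` -/
theorem param (h2 : (2 : F) ≠ 0) (a b b' : SpecialLinearGroup (Fin 2) F)
    (ha : Matrix.trace a.1 = 0) (hab : a * b = negS (b * a)) (hab' : a * b' = negS (b' * a)) :
    ∃ s t : F, s * s + t * t = 1 ∧ b'.1 = s • b.1 + t • (a.1 * b.1) := by
  have hc := comm_of_anti_anti a b b' hab hab'
  have hc' : (b' * b⁻¹).1 * a.1 = a.1 * (b' * b⁻¹).1 := (congrArg Subtype.val hc).symm
  obtain ⟨s, t, hst⟩ := commutant a.1 (b' * b⁻¹).1 (not_isSc_of_trace_zero h2 a ha) hc'
  refine ⟨s, t, ?_, ?_⟩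
  · have hdet := (b' * b⁻¹).2
    rw [hst, Cfsg.Agent.Lib.Helper41_SL2Conj.det_add_smul a s t, ha] at hdet
    linear_combination hdet
  · have : b'.1 = (b' * b⁻¹).1 * b.1 := by
      change b'.1 = (b' * b⁻¹ * b).1
      rw [inv_mul_cancel_right]
    rw [this, hst, Matrix.add_mul, Matrix.smul_mul, Matrix.smul_mul, Matrix.one_mul]

theorem trace_mul_of_anti (h2 : (2 : F) ≠ 0) (a b : SpecialLinearGroup (Fin 2) F)
    (hab : a * b = negS (b * a)) : Matrix.trace (a.1 * b.1) = 0 := by
  have h := coe_anti hab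
  have h' := congrArg Matrix.trace h
  rw [Matrix.trace_neg, Matrix.trace_mul_comm b.1 a.1] at h'
  have : (2 : F) * Matrix.trace (a.1 * b.1) = 0 := by linear_combination h'
  rcases mul_eq_zero.mp this with h | h
  · exact absurd h h2
  · exact h

/-- `tr (b a b) = 0` -/
theorem trace_bab (a b : SpecialLinearGroup (Fin 2) F) (ha : Matrix.trace a.1 = 0)
    (hb : Matrix.trace b.1 = 0) : Matrix.trace (b.1 * (a.1 * b.1)) = 0 := by
  rw [Matrix.trace_mul_comm, Matrix.mul_assoc, coe_mul_self_of_trace_zero b hb, Matrix.mul_neg,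
    Matrix.mul_one, Matrix.trace_neg, ha, neg_zero]

/-- `tr (a b b) = 0` -/
theorem trace_abb (a b : SpecialLinearGroup (Fin 2) F) (ha : Matrix.trace a.1 = 0)
    (hb : Matrix.trace b.1 = 0) : Matrix.trace (a.1 * b.1 * b.1) = 0 := by
  rw [Matrix.mul_assoc, coe_mul_self_of_trace_zero b hb, Matrix.mul_neg,
    Matrix.mul_one, Matrix.trace_neg, ha, neg_zero]

theorem trace_bb (b : SpecialLinearGroup (Fin 2) F) (hb : Matrix.trace b.1 = 0) :
    Matrix.trace (b.1 * b.1) = -2 := by
  rw [coe_mul_self_of_trace_zero b hb, Matrix.trace_neg, Matrix.trace_one]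
  simp

/-- the trace form on the span of `b`, `ab` -/
theorem trace_param (h2 : (2 : F) ≠ 0) (a b : SpecialLinearGroup (Fin 2) F)
    (ha : Matrix.trace a.1 = 0) (hab : a * b = negS (b * a)) (s t s' t' : F) :
    Matrix.trace ((s • b.1 + t • (a.1 * b.1)) * (s' • b.1 + t' • (a.1 * b.1))) =
      -2 * (s * s' + t * t') := by
  have hb := trace_zero_of_anticomm h2 a b ha hab
  have hab0 : Matrix.trace (a * b).1 = 0 := trace_mul_of_anti h2 a b hab
  have k1 := trace_bb b hb
  have k2 := trace_bab a b ha hb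
  have k3 := trace_abb a b ha hb
  have k4 : Matrix.trace (a.1 * b.1 * (a.1 * b.1)) = -2 := trace_bb (a * b) hab0
  simp only [Matrix.add_mul, Matrix.mul_add, Matrix.smul_mul, Matrix.mul_smul, Matrix.trace_add,
    Matrix.trace_smul, smul_eq_mul, k1, k2, k3, k4]
  ring

/-- the element `s + t a` of `SL₂` -/
theorem exists_torus_elt (a : SpecialLinearGroup (Fin 2) F) (ha : Matrix.trace a.1 = 0) (s t : F)
    (hst : s * s + t * t = 1) :
    ∃ e : SpecialLinearGroup (Fin 2) F, e.1 = s • (1 : Matrix (Fin 2) (Fin 2) F) + t • a.1 ∧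
      e * a = a * e := by
  have hdet : (s • (1 : Matrix (Fin 2) (Fin 2) F) + t • a.1).det = 1 := by
    rw [Cfsg.Agent.Lib.Helper41_SL2Conj.det_add_smul a s t, ha]
    linear_combination hst
  refine ⟨⟨_, hdet⟩, rfl, ?_⟩
  apply Subtype.ext
  change (s • (1 : Matrix (Fin 2) (Fin 2) F) + t • a.1) * a.1 =
    a.1 * (s • (1 : Matrix (Fin 2) (Fin 2) F) + t • a.1)
  simp only [Matrix.add_mul, Matrix.mul_add, Matrix.smul_mul, Matrix.mul_smul, Matrix.one_mul,
    Matrix.mul_one]

/-- conjugating `b` by an element commuting with `a` changes the invariant by a square -/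
theorem normalizer_sq_comm (h2 : (2 : F) ≠ 0) (a b b₂ h : SpecialLinearGroup (Fin 2) F)
    (ha : Matrix.trace a.1 = 0) (hab : a * b = negS (b * a)) (hc : h * a = a * h)
    (hb : h * b * h⁻¹ = b₂ ∨ h * b * h⁻¹ = negS b₂) :
    IsSquare (2 - Matrix.trace (b.1 * b₂.1)) := by
  have hbt := trace_zero_of_anticomm h2 a b ha hab
  have hc' : h.1 * a.1 = a.1 * h.1 := congrArg Subtype.val hc
  obtain ⟨s, t, hst⟩ := commutant a.1 h.1 (not_isSc_of_trace_zero h2 a ha) hc'
  have hdet := h.2
  rw [hst, Cfsg.Agent.Lib.Helper41_SL2Conj.det_add_smul a s t, ha] at hdet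
  have hnorm : s * s + t * t = 1 := by linear_combination hdet
  have hAA := coe_mul_self_of_trace_zero a ha
  have hBB := coe_mul_self_of_trace_zero b hbt
  have hAB := coe_anti hab
  -- the inverse of `h`
  have hHH : h.1 * (s • (1 : Matrix (Fin 2) (Fin 2) F) - t • a.1) = 1 := by
    have e : (s • (1 : Matrix (Fin 2) (Fin 2) F) + t • a.1) *
        (s • (1 : Matrix (Fin 2) (Fin 2) F) - t • a.1) =
        (s * s + t * t) • (1 : Matrix (Fin 2) (Fin 2) F) := by
      rw [Matrix.add_mul, Matrix.mul_sub, Matrix.mul_sub, smul_mul_smul_comm, smul_mul_smul_comm,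
        smul_mul_smul_comm, smul_mul_smul_comm, hAA, Matrix.one_mul, Matrix.mul_one,
        Matrix.one_mul, mul_comm t s, smul_neg, sub_neg_eq_add, add_smul]
      abel
    rw [hst, e, hnorm, one_smul]
  have hinv : (h⁻¹).1 = s • (1 : Matrix (Fin 2) (Fin 2) F) - t • a.1 := by
    have e1 : (h⁻¹).1 * h.1 = 1 := congrArg Subtype.val (inv_mul_cancel h)
    calc (h⁻¹).1 = (h⁻¹).1 * (h.1 * (s • (1 : Matrix (Fin 2) (Fin 2) F) - t • a.1)) := by
          rw [hHH, Matrix.mul_one]
      _ = s • (1 : Matrix (Fin 2) (Fin 2) F) - t • a.1 := by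
          rw [← Matrix.mul_assoc, e1, Matrix.one_mul]
  -- `b h⁻¹ = h b`
  have hBH : b.1 * (h⁻¹).1 = h.1 * b.1 := by
    rw [hinv, hst, Matrix.mul_sub, Matrix.add_mul, Matrix.mul_smul, Matrix.mul_smul,
      Matrix.smul_mul, Matrix.smul_mul, Matrix.mul_one, Matrix.one_mul, hAB, smul_neg,
      sub_eq_add_neg]
  have hconj : (h * b * h⁻¹).1 = h.1 * h.1 * b.1 := by
    change h.1 * b.1 * (h⁻¹).1 = h.1 * h.1 * b.1
    rw [Matrix.mul_assoc, hBH, Matrix.mul_assoc]
  have hHHtr : Matrix.trace (h.1 * h.1) = 2 * (s * s - t * t) := by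
    rw [hst, Matrix.add_mul, Matrix.mul_add, Matrix.mul_add, smul_mul_smul_comm,
      smul_mul_smul_comm, smul_mul_smul_comm, smul_mul_smul_comm, hAA, Matrix.one_mul,
      Matrix.mul_one, Matrix.one_mul]
    simp only [Matrix.trace_add, Matrix.trace_smul, Matrix.trace_neg, Matrix.trace_one, ha,
      smul_eq_mul, Fintype.card_fin]
    push_cast
    ring
  have htr : Matrix.trace (b.1 * (h * b * h⁻¹).1) = -2 * (s * s - t * t) := by
    rw [hconj, Matrix.trace_mul_comm, Matrix.mul_assoc, hBB, Matrix.mul_neg, Matrix.mul_one,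
      Matrix.trace_neg, hHHtr]
    ring
  rcases hb with hb | hb
  · rw [hb] at htr
    refine ⟨2 * s, ?_⟩
    rw [htr]
    linear_combination (-2 : F) * hnorm
  · rw [hb, negS_coe, Matrix.mul_neg, Matrix.trace_neg] at htr
    refine ⟨2 * t, ?_⟩
    have : Matrix.trace (b.1 * b₂.1) = 2 * (s * s - t * t) := by linear_combination (-1 : F) * htr
    rw [this]
    linear_combination (-2 : F) * hnorm

theorem conj_negS (g a : SpecialLinearGroup (Fin 2) F) : g * negS a * g⁻¹ = negS (g * a * g⁻¹) := by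
  rw [mul_negS, negS_mul]

/-- conjugating `b` by an element normalizing `⟨a⟩` changes the invariant by a square -/
theorem normalizer_sq (h2 : (2 : F) ≠ 0) (a b b₂ h : SpecialLinearGroup (Fin 2) F)
    (ha : Matrix.trace a.1 = 0) (hab : a * b = negS (b * a))
    (h1 : h * a * h⁻¹ = a ∨ h * a * h⁻¹ = negS a)
    (hb : h * b * h⁻¹ = b₂ ∨ h * b * h⁻¹ = negS b₂) :
    IsSquare (2 - Matrix.trace (b.1 * b₂.1)) := by
  rcases h1 with h1 | h1
  · apply normalizer_sq_comm h2 a b b₂ h ha hab _ hb
    calc h * a = h * a * h⁻¹ * h := by group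
      _ = a * h := by rw [h1]
  · have hbab : b * a * b⁻¹ = negS a := by
      rw [anti_symm hab, negS_mul, mul_inv_cancel_right]
    apply normalizer_sq_comm h2 a b b₂ (h * b) ha hab
    · have : h * b * a * (h * b)⁻¹ = a := by
        have e : h * b * a * (h * b)⁻¹ = h * (b * a * b⁻¹) * h⁻¹ := by group
        rw [e, hbab, conj_negS, h1, negS_negS]
      calc h * b * a = h * b * a * (h * b)⁻¹ * (h * b) := by group
        _ = a * (h * b) := by rw [this]
    · have e : h * b * b * (h * b)⁻¹ = h * b * h⁻¹ := by group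
      rw [e]
      exact hb

end param

section existence

variable {F : Type*} [Field F] [Fintype F]

/-- a point `(s, t)` of the circle with `2 + 2 s` a non-square -/
theorem exists_nonsquare_param (h2 : (2 : F) ≠ 0) :
    ∃ s t : F, s * s + t * t = 1 ∧ ¬ IsSquare (2 + 2 * s) := by
  have hchar : ringChar F ≠ 2 := by
    intro h
    have : CharP F 2 := ringChar.of_eq h
    exact h2 (CharTwo.two_eq_zero)
  obtain ⟨n, hn⟩ := FiniteField.exists_nonsquare hchar
  obtain ⟨x, y, hxy⟩ := Cfsg.Agent.Lib.Helper41_SL2Conj.form_represents (0 : F)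
    (zero_sq_ne_four h2) n
  have hn0 : n ≠ 0 := by
    rintro rfl
    exact hn ⟨0, by ring⟩
  have hy : y ≠ 0 := by
    rintro rfl
    exact hn ⟨x, by linear_combination (-1 : F) * hxy⟩
  have hxy' : x * x + y * y = n := by linear_combination hxy
  refine ⟨(y * y - x * x) / n, 2 * x * y / n, ?_, ?_⟩
  · field_simp
    rw [← hxy']
    ring
  · rintro ⟨r, hr⟩
    have h4 : (2 : F) + 2 * ((y * y - x * x) / n) = 4 * y * y / n := by
      field_simp
      rw [← hxy']
      ring
    rw [h4] at hr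
    have hr0 : r ≠ 0 := by
      rintro rfl
      have : 4 * y * y / n = 0 := by rw [hr]; ring
      have h4' : (4 : F) ≠ 0 := by
        intro h
        have : (2 : F) * 2 = 0 := by linear_combination h
        rcases mul_eq_zero.mp this with h | h <;> exact h2 h
      have : 4 * y * y = 0 := by
        rcases div_eq_zero_iff.mp this with h | h
        · exact h
        · exact absurd h hn0
      rcases mul_eq_zero.mp this with h | h
      · rcases mul_eq_zero.mp h with h | h
        · exact h4' h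
        · exact hy h
      · exact hy h
    apply hn
    refine ⟨2 * y / r, ?_⟩
    field_simp
    field_simp at hr
    linear_combination (-1 : F) * hr

end existence

end Cfsg.Agent.Lib.Helper42_PSL2Klein
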