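import Mathlib
import Cfsg.Agent.Lib.Helper42_PSL2Klein2
import Cfsg.Agent.S2530

set_option autoImplicit false

/-!
A copy of the symmetric group `S₄` in `PSL₂(F)` when `2` is a square in the finite field `F`
of odd order, through the Coxeter presentation of `S₄`.
-/

namespace Cfsg.Agent.Lib.Helper42_S4inPSL2

open Matrix Equiv Cfsg.Agent.Lib.Helper42_SL2Class Cfsg.Agent.Lib.Helper42_PSL2Klein

section s4

set_option maxRecDepth 100000 in
/-- every non-identity element of `S₄` has the double transposition `(0 1)(2 3)` in its normal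
closure, in at most two steps -/
theorem s4_normal_aux : ∀ σ : Perm (Fin 4), σ ≠ 1 →
    ∃ τ₁ τ₂ : Perm (Fin 4), (τ₁ * σ * τ₁⁻¹) * (τ₂ * σ * τ₂⁻¹) = swap 0 1 * swap 2 3 ∨
      τ₁ * σ * τ₁⁻¹ = swap 0 1 * swap 2 3 := by
  decide

/-- a homomorphism from `S₄` not killing `(0 1)(2 3)` is injective -/
theorem injective_of_S4 {G : Type*} [Group G] (Φ : Perm (Fin 4) →* G)
    (h : Φ (swap 0 1 * swap 2 3) ≠ 1) : Function.Injective Φ := by
  rw [injective_iff_map_eq_one]
  intro σ hσ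
  by_contra hne
  obtain ⟨τ₁, τ₂, h12 | h1⟩ := s4_normal_aux σ hne
  · apply h
    rw [← h12, map_mul, map_mul, map_mul, map_mul, map_mul, hσ]
    simp
  · apply h
    rw [← h1, map_mul, map_mul, hσ]
    simp

end s4

section sl2

variable {F : Type*} [Field F]

theorem cube_of_trace_one (u : SpecialLinearGroup (Fin 2) F) (h : Matrix.trace u.1 = 1) :
    u * u * u = negS 1 := by
  apply Subtype.ext
  change u.1 * u.1 * u.1 = -(1 : Matrix (Fin 2) (Fin 2) F)
  have h1 := Cfsg.Agent.Lib.Helper41_SL2.sl2_mul_self u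
  rw [h, one_smul, neg_one_smul] at h1
  rw [h1, Matrix.add_mul, Matrix.neg_mul, Matrix.one_mul, h1]
  abel

theorem cube_of_trace_neg_one (u : SpecialLinearGroup (Fin 2) F) (h : Matrix.trace u.1 = -1) :
    u * u * u = 1 := by
  apply Subtype.ext
  change u.1 * u.1 * u.1 = (1 : Matrix (Fin 2) (Fin 2) F)
  have h1 := Cfsg.Agent.Lib.Helper41_SL2.sl2_mul_self u
  rw [h, neg_one_smul, neg_one_smul] at h1
  rw [h1, Matrix.add_mul, Matrix.neg_mul, Matrix.neg_mul, Matrix.one_mul, h1]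
  abel

/-- the swapping element `(u + u')/ρ` -/
theorem exists_gS (h2 : (2 : F) ≠ 0) (ρ : F) (hρ : ρ * ρ = 2) (u u' : SpecialLinearGroup (Fin 2) F)
    (hu' : Matrix.trace u'.1 = 0) (huu' : Matrix.trace (u.1 * u'.1) = 0) :
    ∃ g : SpecialLinearGroup (Fin 2) F, g.1 = ρ⁻¹ • (u.1 + u'.1) := by
  have hρ0 : ρ ≠ 0 := by
    rintro rfl
    apply h2
    rw [← hρ]; ring
  have hdet : (ρ⁻¹ • (u.1 + u'.1)).det = 1 := by
    rw [Matrix.det_smul, det_add_of_trace_zero u u' hu', huu']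
    simp only [Fintype.card_fin, mul_zero, add_zero, sub_zero]
    rw [← hρ]
    field_simp
  exact ⟨⟨_, hdet⟩, rfl⟩

theorem trace_smul_add (c : F) (U U' : Matrix (Fin 2) (Fin 2) F) :
    Matrix.trace (c • (U + U')) = c * (Matrix.trace U + Matrix.trace U') := by
  rw [Matrix.trace_smul, Matrix.trace_add, smul_eq_mul]

/-- an injective homomorphism `S₄ → PSL₂(F)` when `2` is a square -/
theorem exists_S4_hom (h2 : (2 : F) ≠ 0) (ρ : F) (hρ : ρ * ρ = 2)
    (a b : SpecialLinearGroup (Fin 2) F) (ha : Matrix.trace a.1 = 0)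
    (hab : a * b = negS (b * a)) :
    ∃ Φ : Perm (Fin 4) →* ProjectiveSpecialLinearGroup (Fin 2) F, Function.Injective Φ := by
  have hρ0 : ρ ≠ 0 := by
    rintro rfl
    apply h2
    rw [← hρ]; ring
  have hρi : ρ⁻¹ * ρ⁻¹ * 2 = 1 := by
    rw [← hρ]; field_simp
  have hb := trace_zero_of_anticomm h2 a b ha hab
  have hab0 : Matrix.trace (a * b).1 = 0 := trace_mul_of_anti h2 a b hab
  have hab0' : Matrix.trace (a.1 * b.1) = 0 := hab0
  have hAA := coe_mul_self_of_trace_zero a ha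
  have hBB := coe_mul_self_of_trace_zero b hb
  have hAB := coe_anti hab
  have hBA : b.1 * a.1 = -(a.1 * b.1) := by rw [hAB, neg_neg]
  have hnb : Matrix.trace (negS b).1 = 0 := by rw [trace_negS, hb, neg_zero]
  obtain ⟨g₁, hg₁⟩ := exists_gS h2 ρ hρ a b hb hab0'
  obtain ⟨g₂, hg₂⟩ := exists_gS h2 ρ hρ b (a * b) hab0 (trace_bab a b ha hb)
  obtain ⟨g₃, hg₃⟩ := exists_gS h2 ρ hρ a (negS b) hnb (by
    rw [negS_coe, Matrix.mul_neg, Matrix.trace_neg, hab0', neg_zero])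
  have ht₁ : Matrix.trace g₁.1 = 0 := by rw [hg₁, trace_smul_add, ha, hb]; ring
  have ht₂ : Matrix.trace g₂.1 = 0 := by rw [hg₂, trace_smul_add, hb, hab0]; ring
  have ht₃ : Matrix.trace g₃.1 = 0 := by rw [hg₃, trace_smul_add, ha, hnb]; ring
  obtain ⟨hs₁, hs₁'⟩ := (involution_iff h2 g₁).mpr ht₁
  obtain ⟨hs₂, hs₂'⟩ := (involution_iff h2 g₂).mpr ht₂
  obtain ⟨hs₃, hs₃'⟩ := (involution_iff h2 g₃).mpr ht₃
  -- traces of the products
  have k1 : Matrix.trace (a.1 * (a.1 * b.1)) = 0 := by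
    rw [← Matrix.mul_assoc, hAA, Matrix.neg_mul, Matrix.one_mul, Matrix.trace_neg, hb, neg_zero]
  have k2 : Matrix.trace (b.1 * (a.1 * b.1)) = 0 := trace_bab a b ha hb
  have k3 : Matrix.trace (a.1 * b.1 * b.1) = 0 := trace_abb a b ha hb
  have k4 : Matrix.trace (a.1 * b.1 * a.1) = 0 := by rw [Matrix.trace_mul_comm]; exact k1
  have k5 : Matrix.trace (b.1 * b.1) = -2 := trace_bb b hb
  have k6 : Matrix.trace (b.1 * a.1) = 0 := by rw [Matrix.trace_mul_comm]; exact hab0'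
  have t12 : Matrix.trace (g₁ * g₂).1 = -1 := by
    change Matrix.trace (g₁.1 * g₂.1) = -1
    rw [hg₁, hg₂, smul_mul_smul_comm, Matrix.trace_smul]
    change (ρ⁻¹ * ρ⁻¹) • Matrix.trace ((a.1 + b.1) * (b.1 + a.1 * b.1)) = -1
    rw [Matrix.add_mul, Matrix.mul_add, Matrix.mul_add, Matrix.trace_add, Matrix.trace_add,
      Matrix.trace_add, hab0', k1, k5, k2, smul_eq_mul]
    linear_combination (-1 : F) * hρi
  have t23 : Matrix.trace (g₂ * g₃).1 = 1 := by
    change Matrix.trace (g₂.1 * g₃.1) = 1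
    rw [hg₂, hg₃, smul_mul_smul_comm, Matrix.trace_smul, negS_coe]
    change (ρ⁻¹ * ρ⁻¹) • Matrix.trace ((b.1 + a.1 * b.1) * (a.1 + -b.1)) = 1
    rw [Matrix.add_mul, Matrix.mul_add, Matrix.mul_add, Matrix.mul_neg, Matrix.mul_neg,
      Matrix.trace_add, Matrix.trace_add, Matrix.trace_add, Matrix.trace_neg, Matrix.trace_neg,
      k6, k5, k4, k3, smul_eq_mul]
    linear_combination hρi
  have e13 : g₁ * g₃ = negS (a * b) := by
    apply Subtype.ext
    change g₁.1 * g₃.1 = -(a.1 * b.1)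
    rw [hg₁, hg₃, smul_mul_smul_comm, negS_coe, Matrix.add_mul, Matrix.mul_add, Matrix.mul_add,
      Matrix.mul_neg, Matrix.mul_neg, hAA, hBB, hBA]
    have : -(1 : Matrix (Fin 2) (Fin 2) F) + -(a.1 * b.1) + (-(a.1 * b.1) + - -1) =
        (2 : F) • (-(a.1 * b.1)) := by
      rw [two_smul]; abel
    rw [this, smul_smul, hρi, one_smul]
  -- Coxeter relations
  have c12 : (proj g₁ * proj g₂) ^ 3 = 1 := by
    rw [← map_mul, ← map_pow, pow_three', cube_of_trace_neg_one _ t12, map_one]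
  have c23 : (proj g₂ * proj g₃) ^ 3 = 1 := by
    rw [← map_mul, ← map_pow, pow_three', cube_of_trace_one _ t23, proj_negS_one]
  have c13 : (proj g₁ * proj g₃) ^ 2 = 1 := by
    rw [← map_mul, ← map_pow, e13, pow_two, negS_mul, mul_negS, negS_negS,
      mul_self_of_trace_zero _ hab0, proj_negS_one]
  have inv_sym : ∀ (s t : ProjectiveSpecialLinearGroup (Fin 2) F) (n : ℕ), s * s = 1 → t * t = 1 →
      (s * t) ^ n = 1 → (t * s) ^ n = 1 := by
    intro s t n hs ht hst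
    have : t * s = (s * t)⁻¹ := by
      rw [_root_.mul_inv_rev, inv_eq_of_mul_eq_one_right hs, inv_eq_of_mul_eq_one_right ht]
    rw [this, inv_pow, hst, inv_one]
  have hlift : (CoxeterMatrix.A 3).IsLiftable ![proj g₁, proj g₂, proj g₃] := by
    intro i j
    fin_cases i <;> fin_cases j
    · change (proj g₁ * proj g₁) ^ 1 = 1
      rw [hs₁', one_pow]
    · exact c12
    · exact c13
    · exact inv_sym _ _ 3 hs₁' hs₂' c12
    · change (proj g₂ * proj g₂) ^ 1 = 1
      rw [hs₂', one_pow]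
    · exact c23
    · exact inv_sym _ _ 2 hs₁' hs₃' c13
    · exact inv_sym _ _ 3 hs₂' hs₃' c23
    · change (proj g₃ * proj g₃) ^ 1 = 1
      rw [hs₃', one_pow]
  obtain ⟨cs, hcs⟩ := Cfsg.Agent.S2530.result 3
  refine ⟨cs.lift ⟨_, hlift⟩, injective_of_S4 _ ?_⟩
  have h0 : cs.simple 0 = swap 0 1 := hcs 0
  have h2' : cs.simple 2 = swap 2 3 := hcs 2
  rw [← h0, ← h2', map_mul, cs.lift_apply_simple hlift, cs.lift_apply_simple hlift]
  change proj g₁ * proj g₃ ≠ 1
  rw [← map_mul, e13, proj_negS]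
  exact ((involution_iff h2 (a * b)).mpr hab0).1

end sl2

end Cfsg.Agent.Lib.Helper42_S4inPSL2
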