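import Cfsg.Agent.Lib.Helper35_SL23
import Cfsg.Agent.Lib.Helper42_S4inPSL2
import Cfsg.Agent.S2530

/-!
The automorphism group of the quaternion group of order 8 is the symmetric group of degree 4
(helper35).  Also a general "three Coxeter involutions give a copy of `S₄`" lemma.
-/

set_option autoImplicit false

namespace Cfsg.Agent.Lib.Helper35_AutQ8

open QuaternionGroup Equiv
open Cfsg.Agent.Lib.Helper35_SL23 (ext)

/-- three involutions with the Coxeter relations of type `A₃` whose outer product is nontrivial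
generate a copy of `S₄` -/
theorem exists_S4_hom {X : Type*} [Group X] (s₁ s₂ s₃ : X) (h₁ : s₁ * s₁ = 1) (h₂ : s₂ * s₂ = 1)
    (h₃ : s₃ * s₃ = 1) (c12 : (s₁ * s₂) ^ 3 = 1) (c23 : (s₂ * s₃) ^ 3 = 1)
    (c13 : (s₁ * s₃) ^ 2 = 1) (hne : s₁ * s₃ ≠ 1) :
    ∃ Φ : Perm (Fin 4) →* X, Function.Injective Φ := by
  have inv_sym : ∀ (s t : X) (n : ℕ), s * s = 1 → t * t = 1 →
      (s * t) ^ n = 1 → (t * s) ^ n = 1 := by
    intro s t n hs ht hst
    have : t * s = (s * t)⁻¹ := by
      rw [_root_.mul_inv_rev, inv_eq_of_mul_eq_one_right hs, inv_eq_of_mul_eq_one_right ht]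
    rw [this, inv_pow, hst, inv_one]
  have hlift : (CoxeterMatrix.A 3).IsLiftable ![s₁, s₂, s₃] := by
    intro i j
    fin_cases i <;> fin_cases j
    · change (s₁ * s₁) ^ 1 = 1
      rw [h₁, one_pow]
    · exact c12
    · exact c13
    · exact inv_sym _ _ 3 h₁ h₂ c12
    · change (s₂ * s₂) ^ 1 = 1
      rw [h₂, one_pow]
    · exact c23
    · exact inv_sym _ _ 2 h₁ h₃ c13
    · exact inv_sym _ _ 3 h₂ h₃ c23
    · change (s₃ * s₃) ^ 1 = 1
      rw [h₃, one_pow]
  obtain ⟨cs, hcs⟩ := Cfsg.Agent.S2530.result 3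
  refine ⟨cs.lift ⟨_, hlift⟩, Cfsg.Agent.Lib.Helper42_S4inPSL2.injective_of_S4 _ ?_⟩
  have h0 : cs.simple 0 = swap 0 1 := hcs 0
  have h2' : cs.simple 2 = swap 2 3 := hcs 2
  rw [← h0, ← h2', map_mul, cs.lift_apply_simple hlift, cs.lift_apply_simple hlift]
  exact hne

abbrev Q8 := QuaternionGroup 2

/-- an involutive automorphism of `Q₈` from the images of the two generators -/
def mkAut (x y : Q8) (hmul : ∀ q q' : Q8, ext x y (q * q') = ext x y q * ext x y q')
    (hinv : ∀ q : Q8, ext x y (ext x y q) = q) : MulAut Q8 :=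
  { toFun := ext x y, invFun := ext x y, left_inv := hinv, right_inv := hinv, map_mul' := hmul }

def s1 : MulAut Q8 := mkAut (a 3) (xa 1) (by decide) (by decide)
def s2 : MulAut Q8 := mkAut (xa 0) (a 1) (by decide) (by decide)
def s3 : MulAut Q8 := mkAut (a 3) (xa 3) (by decide) (by decide)

theorem s1_apply (q : Q8) : s1 q = ext (a 3) (xa 1) q := rfl
theorem s2_apply (q : Q8) : s2 q = ext (xa 0) (a 1) q := rfl
theorem s3_apply (q : Q8) : s3 q = ext (a 3) (xa 3) q := rfl

theorem s1_mul_self : s1 * s1 = 1 := by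
  ext q
  simp only [MulAut.mul_apply, MulAut.one_apply, s1_apply]
  revert q; decide

theorem s2_mul_self : s2 * s2 = 1 := by
  ext q
  simp only [MulAut.mul_apply, MulAut.one_apply, s2_apply]
  revert q; decide

theorem s3_mul_self : s3 * s3 = 1 := by
  ext q
  simp only [MulAut.mul_apply, MulAut.one_apply, s3_apply]
  revert q; decide

theorem c12 : (s1 * s2) ^ 3 = 1 := by
  ext q
  simp only [pow_succ, pow_zero, one_mul, MulAut.mul_apply, MulAut.one_apply, s1_apply, s2_apply]
  revert q; decide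

theorem c23 : (s2 * s3) ^ 3 = 1 := by
  ext q
  simp only [pow_succ, pow_zero, one_mul, MulAut.mul_apply, MulAut.one_apply, s2_apply, s3_apply]
  revert q; decide

theorem c13 : (s1 * s3) ^ 2 = 1 := by
  ext q
  simp only [pow_succ, pow_zero, one_mul, MulAut.mul_apply, MulAut.one_apply, s1_apply, s3_apply]
  revert q; decide

theorem s1_mul_s3_ne : s1 * s3 ≠ 1 := by
  intro h
  have := congrArg (fun σ : MulAut Q8 => σ (xa 0)) h
  simp only [MulAut.mul_apply, MulAut.one_apply, s1_apply, s3_apply] at this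
  revert this; decide

end Cfsg.Agent.Lib.Helper35_AutQ8
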