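import Cfsg.Agent.Lib.Helper35_SL23

/-!
Recognition of `GL(2,3)`: a finite group with a normal subgroup `H ≅ SL(2,3)` of index 2, whose
quaternion subgroup `Q` is normal and self-centralizing, and an involution outside `H`
(helper35).
-/

set_option autoImplicit false

namespace Cfsg.Agent.Lib.Helper35_GL23

open Cfsg.Agent.S0257 (S3 qf qf_mul qf_inj qf_pow qf_surj qfHom)
open Cfsg.Agent.Lib.Helper35_SL23
open QuaternionGroup

abbrev Mat := Matrix (Fin 2) (Fin 2) (ZMod 3)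
abbrev GL23 := GL (Fin 2) (ZMod 3)

set_option maxRecDepth 100000 in
theorem G1 : ∀ x y : QuaternionGroup 2,
    (∀ q q' : QuaternionGroup 2, ext x y (q * q') = ext x y q * ext x y q') →
    (∀ q : QuaternionGroup 2, ext x y q = 1 → q = 1) →
    ∃ M : Mat, M.det ≠ 0 ∧ ∀ q : QuaternionGroup 2, M * (qf q).1 = (qf (ext x y q)).1 * M := by
  decide +kernel

set_option maxRecDepth 100000 in
theorem G2 : ∀ M : Mat, M.det ≠ 0 → (∀ q : QuaternionGroup 2, M * (qf q).1 = (qf q).1 * M) →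
    M = 1 ∨ M = -1 := by
  decide +kernel

set_option maxRecDepth 100000 in
theorem G3 : ∀ M : Mat, M * M = -1 → M.det = 1 := by
  decide +kernel

set_option maxRecDepth 100000 in
theorem G4 : ∀ m : S3, ∃ a b : S3, m = a * a * (b * b) := by
  decide +kernel

theorem card_GL23 : Nat.card GL23 = 48 := by
  rw [Matrix.card_GL_field]
  simp [Fin.prod_univ_two]

/-- the inclusion of `SL(2,3)` in `GL(2,3)` -/
abbrev ι : S3 →* GL23 := Matrix.SpecialLinearGroup.toGL

theorem ι_inj : Function.Injective ι := Matrix.SpecialLinearGroup.toGL_injective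

/-- an element of `GL(2,3)` centralizing the quaternion subgroup is `±1` -/
theorem eq_one_or_neg_one (e : GL23) (h : ∀ q : QuaternionGroup 2, e * ι (qf q) = ι (qf q) * e) :
    e = 1 ∨ e = -1 := by
  have hdet : (e : Mat).det ≠ 0 := Matrix.GeneralLinearGroup.det_ne_zero e
  rcases G2 (e : Mat) hdet (fun q => by
    have := congrArg (fun g : GL23 => (g : Mat)) (h q)
    simpa using this) with h1 | h1
  · left; exact Units.ext h1
  · right; exact Units.ext h1

theorem neg_mul_neg_GL (x : GL23) : (-x) * (-x) = x * x := by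
  apply Units.ext
  simp

theorem zpow_two_mul_of_sq {M : Type*} [Group M] (x : M) (hx : x * x = 1) (k : ℤ) :
    x ^ (2 * k) = 1 := by
  rw [zpow_mul, zpow_two, hx, one_zpow]

theorem zpow_two_mul_add_one_of_sq {M : Type*} [Group M] (x : M) (hx : x * x = 1) (k : ℤ) :
    x ^ (2 * k + 1) = x := by
  rw [zpow_add, zpow_one, zpow_two_mul_of_sq x hx, one_mul]

/-- **Recognition of `GL(2,3)`.** -/
theorem exists_mulEquiv_GL23 {X : Type*} [Group X] [Finite X] (H : Subgroup X) [hHn : H.Normal]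
    (hHi : H.index = 2) (ψ : ↥H ≃* S3) (Q : Subgroup X) [hQn : Q.Normal] (hQH : Q ≤ H)
    (θ : ↥Q ≃* QuaternionGroup 2) (hψθ : ∀ q : ↥Q, ψ ⟨q.1, hQH q.2⟩ = qf (θ q))
    (hCQ : Subgroup.centralizer (Q : Set X) ≤ Q) (s : X) (hsH : s ∉ H) (hs2 : s * s = 1)
    (hcard : Nat.card X = 48) :
    Nonempty (X ≃* GL23) := by
  classical
  have hsinv : s⁻¹ = s := inv_eq_of_mul_eq_one_right hs2
  -- the automorphism of `Q₈` induced by `s`
  set α : MulAut ↥Q := MulAut.conjNormal s with hα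
  have hα_apply : ∀ q : ↥Q, ((α q : ↥Q) : X) = s * q * s⁻¹ := fun q => rfl
  set β : MulAut (QuaternionGroup 2) := MulAut.congr θ α with hβ
  have hβ_apply : ∀ q, β q = θ (α (θ.symm q)) := fun q => rfl
  have hα2 : α * α = 1 := by
    rw [hα, ← map_mul, hs2, map_one]
  have hβ2 : ∀ q, β (β q) = q := by
    intro q
    have : β * β = 1 := by rw [hβ, ← map_mul, hα2, map_one]
    have h := congrArg (fun σ : MulAut (QuaternionGroup 2) => σ q) this
    simpa using h
  have hext : ∀ q, ext (β (a 1)) (β (xa 0)) q = β q := by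
    intro q
    rcases q with i | i
    · show β (a 1) ^ i.val = β (a i)
      rw [← map_pow, QuaternionGroup.a_one_pow, ZMod.natCast_zmod_val]
    · show β (xa 0) * β (a 1) ^ i.val = β (xa i)
      rw [← map_pow, ← map_mul, QuaternionGroup.a_one_pow, QuaternionGroup.xa_mul_a, zero_add,
        ZMod.natCast_zmod_val]
  obtain ⟨M, hMdet, hM⟩ := G1 (β (a 1)) (β (xa 0))
    (by intro q q'; simp only [hext, map_mul])
    (by intro q hq; rw [hext] at hq; exact (map_eq_one_iff β β.injective).1 hq)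
  set w : GL23 := Matrix.GeneralLinearGroup.mkOfDetNeZero M hMdet with hw_def
  have hwM : (w : Mat) = M := rfl
  have hw : ∀ q : QuaternionGroup 2, w * ι (qf q) = ι (qf (β q)) * w := by
    intro q
    apply Units.ext
    show M * (qf q).1 = (qf (β q)).1 * M
    rw [hM q, hext]
  have hw' : ∀ q : QuaternionGroup 2, w * ι (qf q) * w⁻¹ = ι (qf (β q)) := by
    intro q
    rw [hw q, mul_assoc, mul_inv_cancel, mul_one]
  -- `w` is not in `SL(2,3)`
  have hnot : ∀ m : S3, w ≠ ι m := by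
    intro m hm
    apply hsH
    set h0 : ↥H := ψ.symm m with hh0
    have hcen : (h0 : X)⁻¹ * s ∈ Subgroup.centralizer (Q : Set X) := by
      rw [Subgroup.mem_centralizer_iff]
      intro q hq
      have hq1 : (h0 : X) * q * (h0 : X)⁻¹ ∈ Q := hQn.conj_mem q hq _
      have hq2 : s * q * s⁻¹ ∈ Q := hQn.conj_mem q hq _
      have e1 : ι (ψ ⟨(h0 : X) * q * (h0 : X)⁻¹, hQH hq1⟩) = ι (ψ ⟨s * q * s⁻¹, hQH hq2⟩) := by
        have e2 : (⟨(h0 : X) * q * (h0 : X)⁻¹, hQH hq1⟩ : ↥H) = h0 * ⟨q, hQH hq⟩ * h0⁻¹ := rfl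
        have e4 : ψ ⟨q, hQH hq⟩ = qf (θ ⟨q, hq⟩) := hψθ ⟨q, hq⟩
        have e5 : ψ ⟨s * q * s⁻¹, hQH hq2⟩ = qf (θ ⟨s * q * s⁻¹, hq2⟩) := hψθ ⟨s * q * s⁻¹, hq2⟩
        have e6 : ψ h0 = m := by rw [hh0, MulEquiv.apply_symm_apply]
        have e7 : β (θ ⟨q, hq⟩) = θ ⟨s * q * s⁻¹, hq2⟩ := by
          rw [hβ_apply, MulEquiv.symm_apply_apply]
          rfl
        calc ι (ψ ⟨(h0 : X) * q * (h0 : X)⁻¹, hQH hq1⟩)
            = ι m * ι (qf (θ ⟨q, hq⟩)) * (ι m)⁻¹ := by
              rw [e2]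
              simp only [map_mul, map_inv]
              rw [e6, e4]
          _ = ι (qf (β (θ ⟨q, hq⟩))) := by rw [← hm, hw']
          _ = ι (ψ ⟨s * q * s⁻¹, hQH hq2⟩) := by rw [e7, e5]
      have e3 := congrArg Subtype.val (ψ.injective (ι_inj e1))
      simp only at e3
      calc q * ((h0 : X)⁻¹ * s) = (h0 : X)⁻¹ * ((h0 : X) * q * (h0 : X)⁻¹) * s := by group
        _ = (h0 : X)⁻¹ * (s * q * s⁻¹) * s := by rw [e3]
        _ = (h0 : X)⁻¹ * s * q := by group
    have : (h0 : X)⁻¹ * s ∈ H := hQH (hCQ hcen)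
    have h2 := H.mul_mem h0.2 this
    simpa using h2
  -- `w` is an involution
  have hww : w * w = 1 := by
    have hcomm : ∀ q : QuaternionGroup 2, (w * w) * ι (qf q) = ι (qf q) * (w * w) := by
      intro q
      calc (w * w) * ι (qf q) = w * (w * ι (qf q)) := by group
        _ = w * (ι (qf (β q)) * w) := by rw [hw]
        _ = (w * ι (qf (β q))) * w := by group
        _ = ι (qf (β (β q))) * w * w := by rw [hw]
        _ = ι (qf q) * (w * w) := by rw [hβ2]; group
    rcases eq_one_or_neg_one (w * w) hcomm with h1 | h1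
    · exact h1
    · exfalso
      have hMM : M * M = -1 := by
        have := congrArg (fun g : GL23 => (g : Mat)) h1
        have h5 : (w : Mat) * (w : Mat) = -1 := by simpa using this
        exact h5
      have hd := G3 M hMM
      exact hnot ⟨M, hd⟩ (Units.ext rfl)
  have hwinv : w⁻¹ = w := inv_eq_of_mul_eq_one_right hww
  -- the two homomorphisms on `H`
  set cH : MulAut ↥H := MulAut.conjNormal s with hcH
  have hcH_apply : ∀ h : ↥H, ((cH h : ↥H) : X) = s * h * s⁻¹ := fun h => rfl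
  let f1 : ↥H →* GL23 := ι.comp (ψ.toMonoidHom.comp cH.toMonoidHom)
  let f2 : ↥H →* GL23 := (MulAut.conj w).toMonoidHom.comp (ι.comp ψ.toMonoidHom)
  have hf1 : ∀ h, f1 h = ι (ψ (cH h)) := fun h => rfl
  have hf2 : ∀ h, f2 h = w * ι (ψ h) * w⁻¹ := fun h => rfl
  have hfQ : ∀ q : ↥Q, f1 ⟨q.1, hQH q.2⟩ = f2 ⟨q.1, hQH q.2⟩ := by
    intro q
    rw [hf1, hf2, hψθ q, hw']
    have e1 : cH ⟨q.1, hQH q.2⟩ = ⟨(α q : ↥Q).1, hQH (α q).2⟩ := rfl
    rw [e1, hψθ (α q), hβ_apply, MulEquiv.symm_apply_apply]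
  have hf12 : ∀ h : ↥H, f1 h = f2 h ∨ f1 h = -f2 h := by
    intro h
    set e : GL23 := w⁻¹ * ((f2 h)⁻¹ * f1 h) * w with he
    have hcomm : ∀ q : QuaternionGroup 2, e * ι (qf q) = ι (qf q) * e := by
      intro q'
      set q : ↥Q := θ.symm q' with hq
      set qH : ↥H := ⟨q.1, hQH q.2⟩ with hqH
      have hconj : h * qH * h⁻¹ = ⟨(h : X) * q * (h : X)⁻¹, hQH (hQn.conj_mem q q.2 _)⟩ := rfl
      have h1 : f1 (h * qH * h⁻¹) = f2 (h * qH * h⁻¹) := by
        rw [hconj]
        exact hfQ ⟨(h : X) * q * (h : X)⁻¹, hQn.conj_mem q q.2 _⟩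
      rw [map_mul, map_mul, map_inv, map_mul, map_mul, map_inv, hfQ q] at h1
      have h2 : f2 qH = w * ι (qf q') * w⁻¹ := by
        rw [hf2, hqH, hψθ q, hq, MulEquiv.apply_symm_apply]
      rw [h2] at h1
      -- h1 : f1 h * (w * ι (qf q') * w⁻¹) * (f1 h)⁻¹ = f2 h * (w * ι (qf q') * w⁻¹) * (f2 h)⁻¹
      have h3 : ι (qf q') = (w⁻¹ * (f1 h)⁻¹ * f2 h * w) * ι (qf q') * (w⁻¹ * (f2 h)⁻¹ * f1 h * w) := by
        calc ι (qf q') = w⁻¹ * (f1 h)⁻¹ * (f1 h * (w * ι (qf q') * w⁻¹) * (f1 h)⁻¹) * f1 h * w := by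
              group
          _ = w⁻¹ * (f1 h)⁻¹ * (f2 h * (w * ι (qf q') * w⁻¹) * (f2 h)⁻¹) * f1 h * w := by rw [h1]
          _ = _ := by group
      calc e * ι (qf q') = e * ((w⁻¹ * (f1 h)⁻¹ * f2 h * w) * ι (qf q') *
            (w⁻¹ * (f2 h)⁻¹ * f1 h * w)) := by rw [← h3]
        _ = ι (qf q') * e := by rw [he]; group
    have hfe : f1 h = f2 h * (w * e * w⁻¹) := by rw [he]; group
    rcases eq_one_or_neg_one e hcomm with h1 | h1
    · left
      rw [hfe, h1]; group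
    · right
      rw [hfe, h1]
      apply Units.ext
      simp
  have hkey : ∀ h : ↥H, f1 h = f2 h := by
    intro h
    obtain ⟨a', b', hab⟩ := G4 (ψ h)
    have hh : h = ψ.symm a' * ψ.symm a' * (ψ.symm b' * ψ.symm b') := by
      apply ψ.injective
      rw [hab]
      simp
    have hsq : ∀ k : ↥H, f1 k * f1 k = f2 k * f2 k := by
      intro k
      rcases hf12 k with h1 | h1
      · rw [h1]
      · rw [h1, neg_mul_neg_GL]
    rw [hh, map_mul, map_mul, map_mul, map_mul, map_mul, map_mul, hsq, hsq]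
  -- the two homomorphisms out of the semidirect product
  let φ : Multiplicative ℤ →* MulAut ↥H := zpowersHom (MulAut ↥H) cH
  have hφ : ∀ z : Multiplicative ℤ, φ z = cH ^ (Multiplicative.toAdd z) := fun z => rfl
  let fn : ↥H →* GL23 := ι.comp ψ.toMonoidHom
  have hfn : ∀ h, fn h = ι (ψ h) := fun h => rfl
  have hfn_inj : Function.Injective fn := fun h h' hh' => ψ.injective (ι_inj hh')
  let fgX : Multiplicative ℤ →* X := zpowersHom X s
  have hfgX : ∀ z : Multiplicative ℤ, fgX z = s ^ (Multiplicative.toAdd z) := fun z => rfl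
  let fgS : Multiplicative ℤ →* GL23 := zpowersHom GL23 w
  have hfgS : ∀ z : Multiplicative ℤ, fgS z = w ^ (Multiplicative.toAdd z) := fun z => rfl
  have hcHz : ∀ (n : ℤ) (h : ↥H), (((cH ^ n) h : ↥H) : X) = s ^ n * h * (s ^ n)⁻¹ := by
    intro n h
    have h1 : cH ^ n = MulAut.conjNormal (s ^ n) := by rw [hcH, map_zpow]
    rw [h1]
    rfl
  have hbase : ∀ h : ↥H, fn (cH h) = w * fn h * w⁻¹ := hkey
  have hbase' : ∀ h : ↥H, fn (cH⁻¹ h) = w⁻¹ * fn h * w := by
    intro h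
    have := hbase (cH⁻¹ h)
    rw [MulAut.apply_inv_self] at this
    rw [this]
    group
  have hzpow : ∀ (n : ℤ) (h : ↥H), fn ((cH ^ n) h) = w ^ n * fn h * (w ^ n)⁻¹ := by
    intro n
    induction n using Int.induction_on with
    | zero => intro h; simp
    | succ n ih =>
      intro h
      rw [zpow_add_one, MulAut.mul_apply, ih, hbase, zpow_add_one]
      group
    | pred n ih =>
      intro h
      rw [zpow_sub_one, MulAut.mul_apply, ih, hbase', zpow_sub_one]
      group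
  have compat0 : ∀ z : Multiplicative ℤ, H.subtype.comp (φ z).toMonoidHom
      = (MulAut.conj (fgX z)).toMonoidHom.comp H.subtype := by
    intro z
    ext h
    show (((φ z) h : ↥H) : X) = fgX z * h * (fgX z)⁻¹
    rw [hφ, hcHz, hfgX]
  have compat1 : ∀ z : Multiplicative ℤ, fn.comp (φ z).toMonoidHom
      = (MulAut.conj (fgS z)).toMonoidHom.comp fn := by
    intro z
    apply MonoidHom.ext
    intro h
    show fn ((φ z) h) = fgS z * fn h * (fgS z)⁻¹
    rw [hφ, hzpow, hfgS]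
  let Ψ₀ : ↥H ⋊[φ] Multiplicative ℤ →* X := SemidirectProduct.lift H.subtype fgX compat0
  let Ψ₁ : ↥H ⋊[φ] Multiplicative ℤ →* GL23 := SemidirectProduct.lift fn fgS compat1
  have hΨ₀ : ∀ t : ↥H ⋊[φ] Multiplicative ℤ,
      Ψ₀ t = (t.left : X) * s ^ (Multiplicative.toAdd t.right) := fun t => rfl
  have hΨ₁ : ∀ t : ↥H ⋊[φ] Multiplicative ℤ,
      Ψ₁ t = fn t.left * w ^ (Multiplicative.toAdd t.right) := fun t => rfl
  have hker : Ψ₀.ker ≤ Ψ₁.ker := by
    intro t ht
    rw [MonoidHom.mem_ker] at ht ⊢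
    rw [hΨ₀] at ht
    rw [hΨ₁]
    rcases Int.even_or_odd' (Multiplicative.toAdd t.right) with ⟨k, hk | hk⟩
    · rw [hk, zpow_two_mul_of_sq s hs2, mul_one] at ht
      have : t.left = 1 := Subtype.ext ht
      rw [hk, zpow_two_mul_of_sq w hww, this, map_one, mul_one]
    · exfalso
      rw [hk, zpow_two_mul_add_one_of_sq s hs2] at ht
      apply hsH
      have h1 : s = ((t.left : ↥H) : X)⁻¹ := eq_inv_of_mul_eq_one_right ht
      rw [h1]
      exact H.inv_mem t.left.2
  have hsurj0 : Function.Surjective Ψ₀ := by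
    intro x
    by_cases hx : x ∈ H
    · refine ⟨⟨⟨x, hx⟩, 1⟩, ?_⟩
      rw [hΨ₀]
      simp
    · have hxs : x * s ∈ H := by
        rw [Subgroup.mul_mem_iff_of_index_two hHi]
        exact ⟨fun h => absurd h hx, fun h => absurd h hsH⟩
      refine ⟨⟨⟨x * s, hxs⟩, Multiplicative.ofAdd 1⟩, ?_⟩
      rw [hΨ₀]
      simp only [toAdd_ofAdd, zpow_one]
      rw [mul_assoc, hs2, mul_one]
  let Φ : X →* GL23 := Ψ₀.liftOfSurjective hsurj0 ⟨Ψ₁, hker⟩
  have hΦ : ∀ t, Φ (Ψ₀ t) = Ψ₁ t := fun t =>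
    MonoidHom.liftOfRightInverse_comp_apply _ _ _ _ t
  have hΦinj : Function.Injective Φ := by
    rw [injective_iff_map_eq_one]
    intro x hx
    obtain ⟨t, rfl⟩ := hsurj0 x
    rw [hΦ, hΨ₁] at hx
    rw [hΨ₀]
    rcases Int.even_or_odd' (Multiplicative.toAdd t.right) with ⟨k, hk | hk⟩
    · rw [hk, zpow_two_mul_of_sq w hww, mul_one] at hx
      have : t.left = 1 := hfn_inj (hx.trans (map_one fn).symm)
      rw [hk, zpow_two_mul_of_sq s hs2, this]
      simp
    · exfalso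
      rw [hk, zpow_two_mul_add_one_of_sq w hww] at hx
      have h1 : w = (fn t.left)⁻¹ := eq_inv_of_mul_eq_one_right hx
      apply hnot ((ψ t.left)⁻¹)
      rw [h1, hfn, map_inv]
  have hbij : Function.Bijective Φ :=
    hΦinj.bijective_of_nat_card_le (by rw [hcard, card_GL23])
  exact ⟨MulEquiv.ofBijective Φ hbij⟩

end Cfsg.Agent.Lib.Helper35_GL23
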