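import Mathlib
import Cfsg.Agent.Lib.Helper50_UniqueInv2

/-!
A finite 2-group with a cyclic subgroup of index 2 and a nontrivial automorphism of odd order
has order 4 or is the quaternion group of order 8 (helper35).
-/

set_option autoImplicit false

namespace Cfsg.Agent.Lib.Helper35_CyclicMax

variable {P : Type*} [Group P]

open Cfsg.Agent.Lib.Helper50_UniqueInv Cfsg.Agent.Lib.Helper50_UniqueInv2

theorem mem_zpowers_of_not_mem_sq {a u : P} {n : ℕ} (ha : orderOf a = 2 ^ n)
    (hu : u ∈ Subgroup.zpowers a) (hu' : u ∉ Subgroup.zpowers (a ^ 2)) :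
    a ∈ Subgroup.zpowers u := by
  have hfin : IsOfFinOrder a := by
    rw [← orderOf_pos_iff, ha]; positivity
  obtain ⟨i, hi0⟩ := (hfin.mem_powers_iff_mem_zpowers.mpr hu)
  have hi0' : a ^ i = u := hi0
  subst hi0'
  have hi : ¬ 2 ∣ i := by
    rintro ⟨j, rfl⟩
    apply hu'
    rw [pow_mul]
    exact Subgroup.pow_mem _ (Subgroup.mem_zpowers _) _
  have hcop : Nat.Coprime i (orderOf a) := by
    rw [ha]
    exact Nat.Coprime.pow_right _ ((Nat.Prime.coprime_iff_not_dvd Nat.prime_two).mpr hi).symm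
  obtain ⟨m, hm⟩ := exists_pow_eq_self_of_coprime hcop
  have : a = (a ^ i) ^ m := hm.symm
  rw [Subgroup.mem_zpowers_iff]
  exact ⟨m, by rw [zpow_natCast]; exact hm⟩

theorem modEq_one_of_pow {r m n : ℕ} (hm : Odd m) (h : r ^ m ≡ 1 [MOD 2 ^ n]) : r ≡ 1 [MOD 2 ^ n] := by
  rcases Nat.eq_zero_or_pos n with rfl | hn
  · simp [Nat.modEq_one]
  have hN : 1 < 2 ^ n := Nat.one_lt_two_pow hn.ne'
  have : Fact (1 < 2 ^ n) := ⟨hN⟩
  have h1 : ((r : ZMod (2 ^ n))) ^ m = 1 := by
    have := (ZMod.natCast_eq_natCast_iff _ _ _).mpr h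
    simpa using this
  set u : (ZMod (2 ^ n))ˣ := Units.ofPowEqOne _ m h1 hm.pos.ne' with hu
  have hum : u ^ m = 1 := Units.ext (by simp [hu, h1])
  have hcard : Nat.card (ZMod (2 ^ n))ˣ = 2 ^ (n - 1) := by
    rw [Nat.card_eq_fintype_card, ZMod.card_units_eq_totient, Nat.totient_prime_pow Nat.prime_two hn]
    simp
  have hu2 : u ^ (2 ^ (n - 1)) = 1 := by
    rw [← hcard]; exact pow_card_eq_one'
  have hu1 : u = 1 := by
    have := pow_gcd_eq_one.2 ⟨hum, hu2⟩
    rwa [Nat.Coprime.gcd_eq_one (Nat.Coprime.pow_right _ hm.coprime_two_right), pow_one] at this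
  have : (r : ZMod (2 ^ n)) = 1 := by
    have := congrArg Units.val hu1
    simpa [hu] using this
  have h2 : ((r : ℕ) : ZMod (2 ^ n)) = ((1 : ℕ) : ZMod (2 ^ n)) := by simpa using this
  exact (ZMod.natCast_eq_natCast_iff _ _ _).mp h2

theorem aut_pow_apply_pow (α : MulAut P) (a : P) (r : ℕ) (h : α a = a ^ r) (j : ℕ) :
    (α ^ j) a = a ^ (r ^ j) := by
  induction j with
  | zero => simp
  | succ j ih =>
    rw [pow_succ', MulAut.mul_apply, ih, map_pow, h, ← pow_mul, pow_succ']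

theorem aut_pow_apply_mul (α : MulAut P) (q c : P) (h : α q = q * c) (hc : α c = c) (j : ℕ) :
    (α ^ j) q = q * c ^ j := by
  induction j with
  | zero => simp
  | succ j ih =>
    rw [pow_succ', MulAut.mul_apply, ih, map_mul, map_pow, h, hc, pow_succ', mul_assoc]

theorem aut_eq_one_of_invariant [Finite P] (hP : IsPGroup 2 P) (α : MulAut P) {m : ℕ}
    (hm : Odd m) (hαm : α ^ m = 1) (M : Subgroup P) [hMc : IsCyclic M] (hMi : M.index = 2)
    (hinv : ∀ u ∈ M, α u ∈ M) : α = 1 := by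
  have : Fact (Nat.Prime 2) := ⟨Nat.prime_two⟩
  obtain ⟨⟨a, haM⟩, hgen⟩ := IsCyclic.exists_generator (α := M)
  have hMa : ∀ u ∈ M, u ∈ Subgroup.zpowers a := by
    intro u hu
    obtain ⟨k, hk⟩ := Subgroup.mem_zpowers_iff.mp (hgen ⟨u, hu⟩)
    rw [Subgroup.mem_zpowers_iff]
    exact ⟨k, by simpa using congrArg Subtype.val hk⟩
  obtain ⟨n, hn⟩ := (IsPGroup.iff_orderOf.mp hP) a
  have hfin : IsOfFinOrder a := isOfFinOrder_of_finite a
  obtain ⟨r, hr⟩ := (hfin.mem_powers_iff_mem_zpowers.mpr (hMa _ (hinv a haM)))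
  have hr' : α a = a ^ r := hr.symm
  have h1 : a ^ (r ^ m) = a ^ 1 := by
    rw [← aut_pow_apply_pow α a r hr' m, hαm, pow_one]; rfl
  have h2 : r ^ m ≡ 1 [MOD 2 ^ n] := by
    rw [← hn]; exact pow_eq_pow_iff_modEq.mp h1
  have h3 : r ≡ 1 [MOD 2 ^ n] := modEq_one_of_pow hm h2
  have ha : α a = a := by
    rw [hr', ← pow_one a, ← pow_mul, one_mul]
    apply pow_eq_pow_iff_modEq.mpr
    rw [hn]; exact h3
  have hM : ∀ u ∈ M, α u = u := by
    intro u hu
    obtain ⟨k, rfl⟩ := Subgroup.mem_zpowers_iff.mp (hMa u hu)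
    rw [map_zpow, ha]
  ext q
  show α q = q
  by_cases hq : q ∈ M
  · exact hM q hq
  · have hαq : α q ∉ M := by
      intro h
      apply hq
      have := hM _ h
      have h' : α q = q := α.injective this
      rwa [h'] at h
    have hc : q⁻¹ * α q ∈ M := by
      rw [Subgroup.mul_mem_iff_of_index_two hMi, Subgroup.inv_mem_iff]
      exact ⟨fun h => absurd h hq, fun h => absurd h hαq⟩
    set c := q⁻¹ * α q with hc_def
    have hqc : α q = q * c := by rw [hc_def]; group
    have h4 := aut_pow_apply_mul α q c hqc (hM c hc) m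
    rw [hαm] at h4
    have h5 : c ^ m = 1 := by
      have : q = q * c ^ m := h4
      exact (mul_eq_left.mp this.symm)
    obtain ⟨k, hk⟩ := hP c
    have h6 : c = 1 := by
      have := pow_gcd_eq_one.2 ⟨h5, hk⟩
      rwa [Nat.Coprime.gcd_eq_one (Nat.Coprime.pow_right _ hm.coprime_two_right), pow_one] at this
    rw [hqc, h6, mul_one]

/-- the fourth power of `A⁻¹ b` -/
theorem pow_four_eq_one {a b : P} (k : ℤ) (hb2 : (a ^ 2) ^ k = b ^ 2) (r : ℤ)
    (hr : a ^ r = b * a * b⁻¹) : ((a ^ k)⁻¹ * b) ^ 4 = 1 := by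
  set A := a ^ k with hA
  have hA2 : A * A = b * b := by
    rw [← pow_two, ← pow_two, ← hb2, hA, ← zpow_natCast, ← zpow_natCast, ← zpow_mul, ← zpow_mul,
      mul_comm]
  set A' := b * A * b⁻¹ with hA'
  have hA'r : A' = (a ^ r) ^ k := by
    rw [hr, hA', hA, conj_zpow]
  have hc : Commute A A' := by
    rw [hA'r, hA, ← zpow_mul]
    exact Commute.zpow_zpow_self a _ _
  have hA'2 : A' * A' = b * b := by
    calc A' * A' = b * (A * A) * b⁻¹ := by rw [hA']; group
      _ = b * b := by rw [hA2]; group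
  have hy2 : ((A)⁻¹ * b) * (A⁻¹ * b) = A'⁻¹ * A := by
    calc ((A)⁻¹ * b) * (A⁻¹ * b) = A⁻¹ * (b * A * b⁻¹)⁻¹ * (b * b) := by group
      _ = A⁻¹ * A'⁻¹ * (A * A) := by rw [← hA', hA2]
      _ = A'⁻¹ * (A⁻¹ * A) * A := by rw [(hc.inv_left.inv_right).eq]; group
      _ = A'⁻¹ * A := by group
  calc (A⁻¹ * b) ^ 4 = ((A⁻¹ * b) * (A⁻¹ * b)) * ((A⁻¹ * b) * (A⁻¹ * b)) := by
        rw [show (4 : ℕ) = 2 + 2 from rfl, pow_add, pow_two]
    _ = A'⁻¹ * A * (A'⁻¹ * A) := by rw [hy2]
    _ = A'⁻¹ * (A * A'⁻¹) * A := by group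
    _ = A'⁻¹ * (A'⁻¹ * A) * A := by rw [(hc.inv_right).eq]
    _ = (A' * A')⁻¹ * (A * A) := by group
    _ = 1 := by rw [hA'2, hA2]; group

theorem index_zpowers_eq_two [Finite P] {a b : P} (ha : (Subgroup.zpowers a).index = 2)
    (hab : orderOf b = orderOf a) : (Subgroup.zpowers b).index = 2 := by
  have h1 := (Subgroup.zpowers a).card_mul_index
  have h2 := (Subgroup.zpowers b).card_mul_index
  rw [Nat.card_zpowers] at h1 h2
  rw [ha] at h1
  rw [hab, ← h1] at h2
  have hpos : 0 < orderOf a := orderOf_pos a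
  exact Nat.eq_of_mul_eq_mul_left hpos h2

theorem eq_top_of_generator_mem {M : Subgroup P} {g : P} (hg : ∀ x : P, x ∈ Subgroup.zpowers g)
    (h : g ∈ M) : M = ⊤ := by
  rw [eq_top_iff]
  intro x _
  exact (Subgroup.zpowers_le.mpr h) (hg x)

theorem card_eq_four_or_quaternion [Finite P] (hP : IsPGroup 2 P) (α : MulAut P) {m : ℕ}
    (hm : Odd m) (hαm : α ^ m = 1) (hα1 : α ≠ 1) (M : Subgroup P) [hMc : IsCyclic M]
    (hMi : M.index = 2) : Nat.card P = 4 ∨ Nonempty (P ≃* QuaternionGroup 2) := by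
  have : Fact (Nat.Prime 2) := ⟨Nat.prime_two⟩
  obtain ⟨⟨a, haM⟩, hgen⟩ := IsCyclic.exists_generator (α := M)
  have hM : M = Subgroup.zpowers a := by
    apply le_antisymm
    · intro u hu
      obtain ⟨k, hk⟩ := Subgroup.mem_zpowers_iff.mp (hgen ⟨u, hu⟩)
      rw [Subgroup.mem_zpowers_iff]
      exact ⟨k, by simpa using congrArg Subtype.val hk⟩
    · exact Subgroup.zpowers_le.mpr haM
  subst hM
  set b := α a with hb
  set c := α b with hc
  obtain ⟨n, hn⟩ := (IsPGroup.iff_orderOf.mp hP) a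
  have hob : orderOf b = orderOf a := MulEquiv.orderOf_eq α a
  have hoc : orderOf c = orderOf a := (MulEquiv.orderOf_eq α b).trans hob
  have hnb : orderOf b = 2 ^ n := hob.trans hn
  have hnc : orderOf c = 2 ^ n := hoc.trans hn
  have hi1 := hMi
  have hi2 : (Subgroup.zpowers b).index = 2 := index_zpowers_eq_two hMi hob
  have hi3 : (Subgroup.zpowers c).index = 2 := index_zpowers_eq_two hMi hoc
  -- `b ∉ M1`
  have hb1 : b ∉ Subgroup.zpowers a := by
    intro h
    apply hα1
    apply aut_eq_one_of_invariant hP α hm hαm (Subgroup.zpowers a) hMi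
    intro u hu
    obtain ⟨k, rfl⟩ := Subgroup.mem_zpowers_iff.mp hu
    rw [map_zpow]
    exact Subgroup.zpow_mem _ h _
  -- `c ∉ M1`
  have hc1 : c ∉ Subgroup.zpowers a := by
    intro h
    have h2 : α ^ 2 = 1 := by
      apply aut_eq_one_of_invariant hP (α ^ 2) hm
        (by rw [← pow_mul, mul_comm, pow_mul, hαm, one_pow]) (Subgroup.zpowers a) hMi
      intro u hu
      obtain ⟨k, rfl⟩ := Subgroup.mem_zpowers_iff.mp hu
      rw [map_zpow]
      refine Subgroup.zpow_mem _ ?_ _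
      rw [pow_two, MulAut.mul_apply]
      exact h
    apply hα1
    have := pow_gcd_eq_one.2 ⟨hαm, h2⟩
    rwa [Nat.Coprime.gcd_eq_one hm.coprime_two_right, pow_one] at this
  -- `c ∉ M2`
  have hc2 : c ∉ Subgroup.zpowers b := by
    intro h
    obtain ⟨k, hk⟩ := Subgroup.mem_zpowers_iff.mp h
    apply hb1
    have : α (a ^ k) = α b := by rw [map_zpow]; exact hk
    rw [← α.injective this]
    exact Subgroup.zpow_mem _ (Subgroup.mem_zpowers a) _
  -- `a ∉ M2`
  have ha2 : a ∉ Subgroup.zpowers b := by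
    intro h
    have hle : Subgroup.zpowers a ≤ Subgroup.zpowers b := Subgroup.zpowers_le.mpr h
    have heq : Subgroup.zpowers a = Subgroup.zpowers b :=
      Subgroup.eq_of_le_of_card_ge hle (by rw [Nat.card_zpowers, Nat.card_zpowers, hob])
    exact hb1 (heq ▸ Subgroup.mem_zpowers b)
  -- squares
  have hsq1 : ∀ u : P, u ^ 2 ∈ Subgroup.zpowers a := Subgroup.sq_mem_of_index_two hi1
  have hsq2 : ∀ u : P, u ^ 2 ∈ Subgroup.zpowers b := Subgroup.sq_mem_of_index_two hi2
  have hsq3 : ∀ u : P, u ^ 2 ∈ Subgroup.zpowers c := Subgroup.sq_mem_of_index_two hi3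
  have hD1 : ∀ u, u ∈ Subgroup.zpowers a → u ∈ Subgroup.zpowers b →
      u ∈ Subgroup.zpowers (a ^ 2) := by
    intro u hu1 hu2
    by_contra hu
    exact ha2 (Subgroup.zpowers_le.mpr hu2 (mem_zpowers_of_not_mem_sq hn hu1 hu))
  have hD3 : ∀ u, u ∉ Subgroup.zpowers a → u ∈ Subgroup.zpowers b ∨ u ∈ Subgroup.zpowers c := by
    intro u hu
    by_cases hu2 : u ∈ Subgroup.zpowers b
    · exact Or.inl hu2
    · right
      have h1 : c⁻¹ * u ∈ Subgroup.zpowers a := by
        rw [Subgroup.mul_mem_iff_of_index_two hi1, Subgroup.inv_mem_iff]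
        exact ⟨fun h => absurd h hc1, fun h => absurd h hu⟩
      have h2 : c⁻¹ * u ∈ Subgroup.zpowers b := by
        rw [Subgroup.mul_mem_iff_of_index_two hi2, Subgroup.inv_mem_iff]
        exact ⟨fun h => absurd h hc2, fun h => absurd h hu2⟩
      have h3 : c⁻¹ * u ∈ Subgroup.zpowers c :=
        Subgroup.zpowers_le.mpr (hsq3 a) (hD1 _ h1 h2)
      have := Subgroup.mul_mem _ (Subgroup.mem_zpowers c) h3
      simpa using this
  have hD5 : ∀ u, u ∉ Subgroup.zpowers a → orderOf a ∣ orderOf u := by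
    intro u hu
    rcases hD3 u hu with h | h
    · have h' : u ∉ Subgroup.zpowers (b ^ 2) := fun h' =>
        hu (Subgroup.zpowers_le.mpr (hsq1 b) h')
      rw [← hob]
      exact orderOf_dvd_of_mem_zpowers (mem_zpowers_of_not_mem_sq hnb h h')
    · have h' : u ∉ Subgroup.zpowers (c ^ 2) := fun h' =>
        hu (Subgroup.zpowers_le.mpr (hsq1 c) h')
      rw [← hoc]
      exact orderOf_dvd_of_mem_zpowers (mem_zpowers_of_not_mem_sq hnc h h')
  -- the element `y`
  obtain ⟨k, hk⟩ := Subgroup.mem_zpowers_iff.mp (hD1 _ (hsq1 b) (hsq2 b))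
  have hnorm : (Subgroup.zpowers a).Normal := Subgroup.normal_of_index_eq_two hi1
  obtain ⟨r, hr⟩ := Subgroup.mem_zpowers_iff.mp (hnorm.conj_mem a (Subgroup.mem_zpowers a) b)
  have hy4 := pow_four_eq_one k hk r hr
  have hy1 : (a ^ k)⁻¹ * b ∉ Subgroup.zpowers a := by
    intro h
    apply hb1
    have := Subgroup.mul_mem _ (Subgroup.zpow_mem _ (Subgroup.mem_zpowers a) k) h
    simpa using this
  have hdvd4 : orderOf a ∣ 4 := (hD5 _ hy1).trans (orderOf_dvd_of_pow_eq_one hy4)
  have hcardP : Nat.card P = orderOf a * 2 := by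
    rw [← (Subgroup.zpowers a).card_mul_index, hi1, Nat.card_zpowers]
  have hn2 : n ≤ 2 := by
    rw [hn, show (4 : ℕ) = 2 ^ 2 from rfl] at hdvd4
    exact (Nat.pow_dvd_pow_iff_le_right (by norm_num)).mp hdvd4
  have hn0 : n ≠ 0 := by
    rintro rfl
    rw [pow_zero, orderOf_eq_one_iff] at hn
    apply hb1
    rw [hb, hn, map_one]
    exact Subgroup.one_mem _
  have hn12 : n = 1 ∨ n = 2 := by omega
  rcases hn12 with rfl | rfl
  · left
    rw [hcardP, hn]; norm_num
  · right
    have ho4 : orderOf a = 4 := by rw [hn]; norm_num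
    have ha4 : a ^ 4 = 1 := by rw [← ho4]; exact pow_orderOf_eq_one a
    have hinv : ∀ u : P, u ^ 2 = 1 → u ≠ 1 → u = a ^ 2 := by
      intro u hu2 hu1
      have hou : orderOf u ∣ 2 := orderOf_dvd_of_pow_eq_one hu2
      have hne : ¬ (orderOf a ∣ orderOf u) := by
        intro h
        have := Nat.le_of_dvd (by norm_num) (h.trans hou)
        omega
      have hu_in : u ∈ Subgroup.zpowers a := by
        by_contra h
        exact hne (hD5 u h)
      have hu_sq : u ∈ Subgroup.zpowers (a ^ 2) := by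
        by_contra h
        exact hne (orderOf_dvd_of_mem_zpowers (mem_zpowers_of_not_mem_sq hn hu_in h))
      obtain ⟨j, rfl⟩ := Subgroup.mem_zpowers_iff.mp hu_sq
      rcases Int.even_or_odd' j with ⟨t, rfl | rfl⟩
      · exfalso
        apply hu1
        rw [zpow_mul, zpow_ofNat, ← pow_mul, ha4, one_zpow]
      · rw [zpow_add, zpow_mul, zpow_ofNat, ← pow_mul, ha4, one_zpow, one_mul, zpow_one]
    have huniq : UniqueInvolution P := by
      intro u v hu hv hu1 hv1
      rw [hinv u hu hu1, hinv v hv hv1]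
    have hncyc : ¬ IsCyclic P := by
      intro hcyc
      obtain ⟨g, hg⟩ := hcyc.exists_generator
      by_cases hg1 : g ∈ Subgroup.zpowers a
      · have := eq_top_of_generator_mem hg hg1
        rw [this, Subgroup.index_top] at hi1
        omega
      · rcases hD3 g hg1 with h | h
        · have := eq_top_of_generator_mem hg h
          rw [this, Subgroup.index_top] at hi2
          omega
        · have := eq_top_of_generator_mem hg h
          rw [this, Subgroup.index_top] at hi3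
          omega
    rcases isCyclic_or_quaternion hP huniq with h | ⟨k, hk1, ⟨e⟩⟩
    · exact absurd h hncyc
    · have hcard : Nat.card P = 4 * 2 ^ k := by
        rw [Nat.card_congr e.toEquiv, Nat.card_eq_fintype_card, QuaternionGroup.card]
      rw [hcardP, ho4] at hcard
      have hk : k = 1 := by
        have : 2 ^ k = 2 ^ 1 := by omega
        exact Nat.pow_right_injective (le_refl 2) this
      subst hk
      exact ⟨e⟩

end Cfsg.Agent.Lib.Helper35_CyclicMax
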