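import Mathlib
import Cfsg.Agent.Lib.Helper12_ExcDeg
import Cfsg.Agent.Lib.Helper12_ExcNonsolv
import Cfsg.Agent.Lib.Helper41_Q8Act
import Cfsg.Agent.Lib.Helper55_Fitting
import Cfsg.Agent.S3304

/-!
# Solvable regular linear groups: semilinear or exceptional (helper12)

* `exists_index_two_of_hom`: a homomorphism to `ℤˣ` hitting `-1` has kernel of index two.
* `semilinear_of_irreducible`: a linear group over `ZMod p` with an irreducible cyclic normal
  subgroup acts semilinearly over a finite commutative domain (the algebra generated by the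
  generator of the cyclic subgroup).
* `to_type0`: transport of the semilinear structure to a field in `Type`.
* `index_two_of_semilinear`: a transitive semilinear group in odd characteristic has a normal
  subgroup of index two (squares / non-squares).
* `exceptional_index_two`: a solvable regular linear group without irreducible cyclic normal
  subgroup has a normal subgroup of index two or is `SL(2,3)` (on `5²`) or `SL(2,3) × C₅`
  (on `11²`).
-/

set_option autoImplicit false
set_option linter.unusedSimpArgs false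
set_option linter.unusedSectionVars false
set_option linter.style.haveILetI false

namespace Cfsg.Agent.Lib.Helper12_SolvReg

open Module Cfsg.Agent.Lib.Helper12_FpfQuat Cfsg.Agent.Lib.Helper12_ExcNF
  Cfsg.Agent.Lib.Helper12_ExcCount Cfsg.Agent.Lib.Helper12_ExcSpread
  Cfsg.Agent.Lib.Helper12_PerfectTools Cfsg.Agent.Lib.Helper12_FpfNonsolv
  Cfsg.Agent.Lib.Helper12_ExcDeg Cfsg.Agent.Lib.Helper12_ExcNonsolv

universe u





/-- a homomorphism to `ℤˣ` hitting `-1` has a kernel of index two -/
theorem exists_index_two_of_hom {G : Type*} [Group G] (f : G →* ℤˣ) (hf : ∃ g, f g = -1) :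
    ∃ N : Subgroup G, N.Normal ∧ N.index = 2 := by
  refine ⟨f.ker, inferInstance, ?_⟩
  rw [Subgroup.index_ker]
  have htop : f.range = ⊤ := by
    rw [eq_top_iff]
    intro x _
    rcases Int.units_eq_one_or x with h | h
    · rw [h]; exact f.range.one_mem
    · obtain ⟨g, hg⟩ := hf
      rw [h, ← hg]; exact ⟨g, rfl⟩
  rw [htop, Subgroup.card_top]
  simp

section semilinear

variable {p : ℕ} [Fact p.Prime] {V : Type u} [AddCommGroup V] [Module (ZMod p) V]

/-- from a semilinear structure over a finite commutative domain to one over a field in `Type` -/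
theorem to_type0 {G : Type*} (ρ : G → V → V) {K : Type u} [CommRing K] [IsDomain K] [Finite K]
    (e : V ≃+ K)
    (hsl : ∀ g : G, ∃ (b : K) (σ : K ≃+* K), ∀ v : V, e (ρ g v) = b * σ (e v)) :
    ∃ (F : Type) (_ : Field F) (_ : Fintype F) (e : V ≃+ F),
      ∀ g : G, ∃ (a : F) (σ : F ≃+* F), ∀ v : V, e (ρ g v) = a * σ (e v) := by
  classical
  haveI : Small.{0} K := Countable.toSmall K
  haveI : Finite (Shrink.{0} K) := Finite.of_equiv K (equivShrink K)
  letI : Fintype (Shrink.{0} K) := Fintype.ofFinite _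
  let r : K ≃+* Shrink.{0} K := (Shrink.ringEquiv K).symm
  refine ⟨Shrink.{0} K, Fintype.fieldOfDomain (Shrink.{0} K), inferInstance,
    e.trans r.toAddEquiv, ?_⟩
  intro g
  obtain ⟨b, σ, hσ⟩ := hsl g
  refine ⟨r b, (r.symm.trans σ).trans r, ?_⟩
  intro v
  show r (e (ρ g v)) = r b * r (σ (r.symm (r (e v))))
  rw [hσ v, map_mul, RingEquiv.symm_apply_apply]

end semilinear







section semilinear

variable {V : Type u} [AddCommGroup V]

/-- a transitive semilinear group over a finite field of odd characteristic has a subgroup of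
index two -/
theorem index_two_of_semilinear {G : Type*} [Group G] (ρ : G → V → V)
    (hone : ∀ v, ρ 1 v = v)
    (hmul : ∀ g g' v, ρ (g * g') v = ρ g (ρ g' v))
    {F : Type*} [Field F] [Fintype F] (hF : ringChar F ≠ 2)
    (e : V ≃+ F)
    (hsl : ∀ g : G, ∃ (b : F) (σ : F ≃+* F), ∀ v : V, e (ρ g v) = b * σ (e v))
    (htrans : ∀ v w : V, v ≠ 0 → w ≠ 0 → ∃ g : G, ρ g v = w) :
    ∃ N : Subgroup G, N.Normal ∧ N.index = 2 := by
  classical
  set v₁ : V := e.symm 1 with hv₁
  have hev₁ : e v₁ = 1 := e.apply_symm_apply 1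
  have hv₁0 : v₁ ≠ 0 := by
    intro h
    rw [h, map_zero] at hev₁
    exact zero_ne_one hev₁
  have hσχ : ∀ (σ : F ≃+* F) (x : F), quadraticChar F (σ x) = quadraticChar F x := by
    intro σ x
    by_cases hx : x = 0
    · rw [hx, map_zero]
    · have hσx : σ x ≠ 0 := by
        intro h
        apply hx
        have := congrArg σ.symm h
        rwa [map_zero, RingEquiv.symm_apply_apply] at this
      by_cases hsq : IsSquare x
      · rw [(quadraticChar_one_iff_isSquare hx).2 hsq, (quadraticChar_one_iff_isSquare hσx).2]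
        exact hsq.map σ
      · have h2 : ¬ IsSquare (σ x) := by
          intro h
          apply hsq
          have := h.map σ.symm
          rwa [RingEquiv.symm_apply_apply] at this
        rw [quadraticChar_neg_one_iff_not_isSquare.2 hsq, quadraticChar_neg_one_iff_not_isSquare.2 h2]
  let ψ₀ : G →* ℤ :=
    { toFun := fun g => quadraticChar F (e (ρ g v₁))
      map_one' := by
        show quadraticChar F (e (ρ 1 v₁)) = 1
        rw [hone, hev₁, map_one]
      map_mul' := by
        intro g g'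
        show quadraticChar F (e (ρ (g * g') v₁)) =
          quadraticChar F (e (ρ g v₁)) * quadraticChar F (e (ρ g' v₁))
        obtain ⟨b, σ, hσ⟩ := hsl g
        rw [hmul, hσ, hσ v₁, hev₁, map_one, mul_one, map_mul, hσχ] }
  apply exists_index_two_of_hom ψ₀.toHomUnits
  obtain ⟨a, ha⟩ := quadraticChar_exists_neg_one hF
  have ha0 : a ≠ 0 := by
    intro h
    rw [h, quadraticChar_zero] at ha
    omega
  have hw0 : e.symm a ≠ 0 := by
    intro h
    apply ha0
    have := congrArg e h
    rwa [AddEquiv.apply_symm_apply, map_zero] at this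
  obtain ⟨g, hg⟩ := htrans v₁ (e.symm a) hv₁0 hw0
  refine ⟨g, ?_⟩
  apply Units.ext
  show quadraticChar F (e (ρ g v₁)) = ((-1 : ℤˣ) : ℤ)
  rw [hg, AddEquiv.apply_symm_apply, ha]
  rfl

end semilinear






section semilinear

variable {p : ℕ} [Fact p.Prime] {V : Type u} [AddCommGroup V] [Module (ZMod p) V]

theorem finite_end [Finite V] : Finite (Module.End (ZMod p) V) :=
  Finite.of_injective (fun f : Module.End (ZMod p) V => (f : V → V)) DFunLike.coe_injective

theorem finite_equiv [Finite V] : Finite (V ≃ₗ[ZMod p] V) :=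
  Finite.of_injective (fun f : V ≃ₗ[ZMod p] V => (f : V → V)) DFunLike.coe_injective

open scoped IsMulCommutative in
/-- a linear group with an irreducible cyclic normal subgroup is semilinear over a finite
commutative domain -/
theorem semilinear_of_irreducible [Finite V] [Nontrivial V] (H : Subgroup (V ≃ₗ[ZMod p] V))
    (A : Subgroup H) (hAn : A.Normal) (hAc : IsCyclic A)
    (hirr : ∀ W : Submodule (ZMod p) V,
      (∀ a ∈ A, ∀ v ∈ W, ((a : H) : V ≃ₗ[ZMod p] V) v ∈ W) → W = ⊥ ∨ W = ⊤) :
    ∃ (K : Type u) (_ : CommRing K) (_ : IsDomain K) (_ : Finite K) (e : V ≃+ K),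
      ∀ h : H, ∃ (b : K) (σ : K ≃+* K), ∀ v : V,
        e ((h : V ≃ₗ[ZMod p] V) v) = b * σ (e v) := by
  classical
  have hfinE : Finite (Module.End (ZMod p) V) := finite_end
  have hfinL : Finite (V ≃ₗ[ZMod p] V) := finite_equiv
  obtain ⟨a₀, ha₀⟩ := hAc.exists_generator
  -- the coercion to endomorphisms as a monoid hom
  let c : H →* Module.End (ZMod p) V :=
    (LinearEquiv.automorphismGroup.toLinearMapMonoidHom).comp H.subtype
  have hc_apply : ∀ (h : H) (v : V), c h v = (h : V ≃ₗ[ZMod p] V) v := fun h v => rfl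
  set f₀ : Module.End (ZMod p) V := c (a₀ : H) with hf₀
  have hpow : ∀ a ∈ A, ∃ n : ℕ, c a = f₀ ^ n := by
    intro a ha
    have h1 : (⟨a, ha⟩ : A) ∈ Subgroup.zpowers a₀ := ha₀ _
    rw [← mem_powers_iff_mem_zpowers] at h1
    obtain ⟨n, hn⟩ := h1
    refine ⟨n, ?_⟩
    have h2 : ((a₀ ^ n : A) : H) = a := congrArg Subtype.val hn
    rw [hf₀, ← map_pow, ← h2]
    rfl
  let K : Subalgebra (ZMod p) (Module.End (ZMod p) V) := Algebra.adjoin (ZMod p) {f₀}
  letI : CommRing K := (inferInstance : CommRing ↥(Algebra.adjoin (ZMod p) {f₀}))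
  have hf₀K : f₀ ∈ K := Algebra.subset_adjoin (Set.mem_singleton f₀)
  have hcomm : ∀ (k : K) (n : ℕ), (k : Module.End (ZMod p) V) * f₀ ^ n = f₀ ^ n * k := by
    intro k n
    have := mul_comm k (⟨f₀, hf₀K⟩ ^ n : K)
    exact congrArg Subtype.val this
  -- nonzero elements of `K` are injective
  have hker : ∀ k : K, (k : Module.End (ZMod p) V) ≠ 0 →
      LinearMap.ker (k : Module.End (ZMod p) V) = ⊥ := by
    intro k hk
    have hinv : ∀ a ∈ A, ∀ v ∈ LinearMap.ker (k : Module.End (ZMod p) V),
        ((a : H) : V ≃ₗ[ZMod p] V) v ∈ LinearMap.ker (k : Module.End (ZMod p) V) := by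
      intro a ha v hv
      obtain ⟨n, hn⟩ := hpow a ha
      rw [LinearMap.mem_ker] at hv ⊢
      rw [← hc_apply, hn, ← Module.End.mul_apply, hcomm k n, Module.End.mul_apply, hv, map_zero]
    rcases hirr _ hinv with h | h
    · exact h
    · exfalso
      apply hk
      exact LinearMap.ker_eq_top.1 h
  have hKnt : Nontrivial K := by
    refine ⟨⟨1, 0, ?_⟩⟩
    intro h
    have h1 : (1 : Module.End (ZMod p) V) = 0 := congrArg Subtype.val h
    obtain ⟨v, hv⟩ := exists_ne (0 : V)
    apply hv
    have := congrArg (fun f : Module.End (ZMod p) V => f v) h1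
    simpa using this
  have hinj : ∀ k : K, k ≠ 0 → Function.Injective (k : Module.End (ZMod p) V) := by
    intro k hk
    have hk' : (k : Module.End (ZMod p) V) ≠ 0 := fun h => hk (Subtype.ext h)
    exact LinearMap.ker_eq_bot.1 (hker k hk')
  have hnzd : NoZeroDivisors K := by
    refine ⟨fun {a b} hab => ?_⟩
    by_contra hcon
    push Not at hcon
    obtain ⟨ha, hb⟩ := hcon
    apply hb
    apply Subtype.ext
    ext v
    apply hinj a ha
    have h1 : (a : Module.End (ZMod p) V) * (b : Module.End (ZMod p) V) = 0 :=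
      congrArg Subtype.val hab
    have := congrArg (fun f : Module.End (ZMod p) V => f v) h1
    simpa using this
  have hdom : IsDomain K := NoZeroDivisors.to_isDomain K
  have hKfin : Finite K := Finite.of_injective (fun k : K => (k : Module.End (ZMod p) V))
    Subtype.val_injective
  obtain ⟨v₀, hv₀⟩ := exists_ne (0 : V)
  -- the evaluation map
  let ev : K →ₗ[ZMod p] V :=
    { toFun := fun k => (k : Module.End (ZMod p) V) v₀
      map_add' := fun a b => rfl
      map_smul' := fun r a => rfl }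
  have hev_apply : ∀ k : K, ev k = (k : Module.End (ZMod p) V) v₀ := fun k => rfl
  have hev_inj : Function.Injective ev := by
    rw [← LinearMap.ker_eq_bot, LinearMap.ker_eq_bot']
    intro k hk
    by_contra hk0
    apply hv₀
    apply hinj k hk0
    rw [map_zero]
    exact hk
  have hev_surj : Function.Surjective ev := by
    rw [← LinearMap.range_eq_top]
    have hinv : ∀ a ∈ A, ∀ v ∈ LinearMap.range ev,
        ((a : H) : V ≃ₗ[ZMod p] V) v ∈ LinearMap.range ev := by
      rintro a ha v ⟨k, rfl⟩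
      obtain ⟨n, hn⟩ := hpow a ha
      refine ⟨(⟨f₀, hf₀K⟩ ^ n : K) * k, ?_⟩
      rw [hev_apply, hev_apply, ← hc_apply, hn]
      rfl
    rcases hirr _ hinv with h | h
    · exfalso
      apply hv₀
      have h1 : ev 1 ∈ LinearMap.range ev := ⟨1, rfl⟩
      rw [h, Submodule.mem_bot] at h1
      exact h1
    · exact h
  let e₀ : K ≃+ V := AddEquiv.ofBijective ev.toAddMonoidHom ⟨hev_inj, hev_surj⟩
  have he₀ : ∀ k : K, e₀ k = (k : Module.End (ZMod p) V) v₀ := fun k => rfl
  refine ⟨K, inferInstance, hdom, hKfin, e₀.symm, ?_⟩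
  intro h
  let cj : Module.End (ZMod p) V ≃ₐ[ZMod p] Module.End (ZMod p) V :=
    LinearEquiv.conjAlgEquiv (ZMod p) (h : V ≃ₗ[ZMod p] V)
  have hcj_apply : ∀ (f : Module.End (ZMod p) V) (v : V),
      cj f ((h : V ≃ₗ[ZMod p] V) v) = (h : V ≃ₗ[ZMod p] V) (f v) := by
    intro f v
    show (h : V ≃ₗ[ZMod p] V) (f ((h : V ≃ₗ[ZMod p] V).symm ((h : V ≃ₗ[ZMod p] V) v))) = _
    rw [LinearEquiv.symm_apply_apply]
  have hcjf₀ : cj f₀ ∈ K := by
    have hmem : h * (a₀ : H) * h⁻¹ ∈ A := hAn.conj_mem _ a₀.2 h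
    obtain ⟨n, hn⟩ := hpow _ hmem
    have h1 : cj f₀ = c (h * (a₀ : H) * h⁻¹) := by
      ext v
      show (h : V ≃ₗ[ZMod p] V) (f₀ ((h : V ≃ₗ[ZMod p] V).symm v)) = _
      rfl
    rw [h1, hn]
    exact K.pow_mem hf₀K n
  have hcjK : ∀ k : K, cj (k : Module.End (ZMod p) V) ∈ K := by
    intro k
    have h1 : (Algebra.adjoin (ZMod p) {f₀}).map cj.toAlgHom = Algebra.adjoin (ZMod p) {cj f₀} :=
      AlgHom.map_adjoin_singleton cj.toAlgHom f₀
    have h2 : Algebra.adjoin (ZMod p) {cj f₀} ≤ K := by
      apply Algebra.adjoin_le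
      intro x hx
      rw [Set.mem_singleton_iff] at hx
      rw [hx]; exact hcjf₀
    apply h2
    rw [← h1]
    exact ⟨k, k.2, rfl⟩
  let σ₀ : K →ₐ[ZMod p] K := (cj.toAlgHom.comp K.val).codRestrict K hcjK
  have hσ₀_coe : ∀ k : K, ((σ₀ k : K) : Module.End (ZMod p) V) = cj k := fun k => rfl
  have hσ₀_inj : Function.Injective σ₀ := by
    intro a b hab
    apply Subtype.ext
    apply cj.injective
    rw [← hσ₀_coe, ← hσ₀_coe, hab]
  have hσ₀_bij : Function.Bijective σ₀ := hσ₀_inj.bijective_of_finite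
  let σ : K ≃+* K := RingEquiv.ofBijective σ₀.toRingHom hσ₀_bij
  have hσ_coe : ∀ k : K, ((σ k : K) : Module.End (ZMod p) V) = cj k := fun k => rfl
  refine ⟨e₀.symm ((h : V ≃ₗ[ZMod p] V) v₀), σ, ?_⟩
  intro v
  apply e₀.injective
  rw [AddEquiv.apply_symm_apply]
  set b : K := e₀.symm ((h : V ≃ₗ[ZMod p] V) v₀) with hb
  have hbv : (b : Module.End (ZMod p) V) v₀ = (h : V ≃ₗ[ZMod p] V) v₀ := by
    rw [← he₀, hb, AddEquiv.apply_symm_apply]
  set k : K := e₀.symm v with hk
  have hkv : (k : Module.End (ZMod p) V) v₀ = v := by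
    rw [← he₀, hk, AddEquiv.apply_symm_apply]
  rw [mul_comm, he₀]
  show (h : V ≃ₗ[ZMod p] V) v = ((σ k : K) : Module.End (ZMod p) V) ((b : Module.End (ZMod p) V) v₀)
  rw [hbv, hσ_coe, hcj_apply, hkv]

end semilinear







/-- the elements of a quaternion normal subgroup that centralise it are at most two -/
theorem card_subgroupOf_centralizer_le {X : Type*} [Group X] [Finite X] (Q : Subgroup X)
    (θ : ↥Q ≃* QuaternionGroup 2) :
    Nat.card ((Subgroup.centralizer (Q : Set X)).subgroupOf Q) ≤ 2 := by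
  classical
  let κ : (Subgroup.centralizer (Q : Set X)).subgroupOf Q → {z // z ∈ Cfsg.Agent.S2879.Zset} :=
    fun t => ⟨θ t.1, by
      have ht : (t.1 : X) ∈ Subgroup.centralizer (Q : Set X) := Subgroup.mem_subgroupOf.1 t.2
      have hcomm : ∀ q : ↥Q, t.1 * q = q * t.1 := by
        intro q
        apply Subtype.ext
        exact ((Subgroup.mem_centralizer_iff.mp ht) q.1 q.2).symm
      simp only [Cfsg.Agent.S2879.Zset, Finset.mem_filter, Finset.mem_univ, true_and]
      constructor
      · have := congrArg θ (hcomm (θ.symm (QuaternionGroup.a 1)))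
        simpa using this
      · have := congrArg θ (hcomm (θ.symm (QuaternionGroup.xa 0)))
        simpa using this⟩
  have hκ : Function.Injective κ := by
    intro s t h
    have h' := congrArg Subtype.val h
    simp only [κ] at h'
    exact Subtype.ext (θ.injective h')
  have h4 : Nat.card {z // z ∈ Cfsg.Agent.S2879.Zset} = 2 := by
    rw [Nat.card_eq_fintype_card, Fintype.card_coe, Cfsg.Agent.S2879.card_Zset]
  have := Nat.card_le_card_of_injective κ hκ
  rwa [h4] at this

/-- four divides the index of the centraliser of a normal quaternion subgroup -/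
theorem four_dvd_index_centralizer {X : Type*} [Group X] [Finite X] (Q : Subgroup X) [Q.Normal]
    (θ : ↥Q ≃* QuaternionGroup 2) : 4 ∣ (Subgroup.centralizer (Q : Set X)).index := by
  have h1 := card_subgroupOf_centralizer_le Q θ
  have h2 := ((Subgroup.centralizer (Q : Set X)).subgroupOf Q).card_mul_index
  have h8 : Nat.card ↥Q = 8 := by
    rw [Nat.card_congr θ.toEquiv, Nat.card_eq_fintype_card, QuaternionGroup.card]
  rw [h8] at h2
  have h3 : (Subgroup.centralizer (Q : Set X)).relIndex Q ∣
      (Subgroup.centralizer (Q : Set X)).index := Subgroup.relIndex_dvd_index_of_normal _ _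
  have h4 : (Subgroup.centralizer (Q : Set X)).relIndex Q =
      ((Subgroup.centralizer (Q : Set X)).subgroupOf Q).index := rfl
  rw [h4] at h3
  have hpos : 0 < Nat.card ((Subgroup.centralizer (Q : Set X)).subgroupOf Q) := Nat.card_pos
  refine dvd_trans ?_ h3
  generalize Nat.card ((Subgroup.centralizer (Q : Set X)).subgroupOf Q) = a at *
  generalize ((Subgroup.centralizer (Q : Set X)).subgroupOf Q).index = b at *
  interval_cases a
  · exact ⟨2, by omega⟩
  · exact ⟨1, by omega⟩


section concrete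

variable {p : ℕ} [Fact p.Prime] {V : Type u} [AddCommGroup V] [Module (ZMod p) V]
variable (H : Subgroup (V ≃ₗ[ZMod p] V))

/-- the centraliser of an irreducible subgroup with an invariant line is central -/
theorem central_of_line
    (N : Subgroup H)
    (hNirr : ∀ W : Submodule (ZMod p) V,
      (∀ n ∈ N, ∀ v ∈ W, ((n : H) : V ≃ₗ[ZMod p] V) v ∈ W) → W = ⊥ ∨ W = ⊤)
    (U : Submodule (ZMod p) V) (hU1 : finrank (ZMod p) ↥U = 1)
    (hinv : Inv H (Subgroup.centralizer (N : Set H)) U) :
    ∀ a ∈ Subgroup.centralizer (N : Set H), ∀ h : H, a * h = h * a := by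
  have hU0 : U ≠ ⊥ := by
    intro h0
    rw [h0, finrank_bot] at hU1
    exact zero_ne_one hU1
  obtain ⟨u₀, hu₀, hu₀0⟩ := Submodule.exists_mem_ne_zero_of_ne_bot hU0
  have hspan : ∀ w : ↥U, ∃ c : ZMod p, c • (⟨u₀, hu₀⟩ : ↥U) = w :=
    (finrank_eq_one_iff_of_nonzero' (⟨u₀, hu₀⟩ : ↥U)
      (fun h0 => hu₀0 (congrArg Subtype.val h0))).1 hU1
  intro a ha h
  obtain ⟨c, hc⟩ := hspan ⟨_, hinv a ha u₀ hu₀⟩
  have hc' : (a : V ≃ₗ[ZMod p] V) u₀ = c • u₀ := (congrArg Subtype.val hc).symm
  -- the eigenspace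
  let W : Submodule (ZMod p) V :=
    LinearMap.ker (((a : V ≃ₗ[ZMod p] V) : V →ₗ[ZMod p] V) - c • LinearMap.id)
  have hW : ∀ v, v ∈ W ↔ (a : V ≃ₗ[ZMod p] V) v = c • v := by
    intro v
    show ((a : V ≃ₗ[ZMod p] V) : V →ₗ[ZMod p] V) v - (c • LinearMap.id : V →ₗ[ZMod p] V) v = 0 ↔ _
    rw [sub_eq_zero]
    rfl
  have hWinv : ∀ n ∈ N, ∀ v ∈ W, ((n : H) : V ≃ₗ[ZMod p] V) v ∈ W := by
    intro n hn v hv
    rw [hW] at hv ⊢
    have hcomm : a * n = n * a := (Subgroup.mem_centralizer_iff.1 ha n hn).symm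
    rw [← coe_mul_apply, hcomm, coe_mul_apply, hv, map_smul]
  have hWtop : W = ⊤ := by
    rcases hNirr W hWinv with h0 | h0
    · exfalso
      apply hu₀0
      have : u₀ ∈ W := (hW u₀).2 hc'
      rw [h0, Submodule.mem_bot] at this
      exact this
    · exact h0
  have hscal : ∀ v, (a : V ≃ₗ[ZMod p] V) v = c • v := by
    intro v
    rw [← hW, hWtop]
    exact Submodule.mem_top
  apply Subtype.ext
  ext v
  show ((a * h : H) : V ≃ₗ[ZMod p] V) v = ((h * a : H) : V ≃ₗ[ZMod p] V) v
  rw [coe_mul_apply, coe_mul_apply, hscal, hscal, map_smul]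

/-- the structure of the exceptional solvable groups: a subgroup of index two, or one of
`SL(2,3)`, `SL(2,3) × C₅` -/
theorem exceptional_index_two [Finite V]
    (hreg : ∀ v w : V, v ≠ 0 → w ≠ 0 → ∃! h : H, (h : V ≃ₗ[ZMod p] V) v = w)
    (hI : ∀ A : Subgroup H, A.Normal → IsCyclic A → ∃ W : Submodule (ZMod p) V,
      W ≠ ⊥ ∧ W ≠ ⊤ ∧ ∀ a ∈ A, ∀ v ∈ W, ((a : H) : V ≃ₗ[ZMod p] V) v ∈ W)
    (hsolv : Group.IsSolvable H) :
    (∃ M : Subgroup H, M.Normal ∧ M.index = 2) ∨
    (Nat.card V = 25 ∧ Nonempty (H ≃* Matrix.SpecialLinearGroup (Fin 2) (ZMod 3))) ∨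
    (Nat.card V = 121 ∧ Nonempty (H ≃* Matrix.SpecialLinearGroup (Fin 2) (ZMod 3) ×
      Multiplicative (ZMod 5))) := by
  classical
  have hp : p.Prime := Fact.out
  have := finite_linearEquiv (p := p) (V := V)
  have hVnt : Nontrivial V := by
    obtain ⟨W, hW0, hWtop, -⟩ := hI ⊥ inferInstance inferInstance
    rcases subsingleton_or_nontrivial V with hV | hV
    · exfalso
      apply hW0
      ext v
      simp only [Submodule.mem_bot]
      exact ⟨fun _ => Subsingleton.elim _ _, fun h => h ▸ W.zero_mem⟩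
    · exact hV
  obtain ⟨A, hAn, hAc, hAmax⟩ := exists_max_normal_abelian (G := ↥H)
  obtain ⟨-, hCna⟩ := Cfsg.Agent.S0685.result H hreg hI A hAn hAc hAmax
  have hCn : (Subgroup.centralizer (A : Set H)).Normal := by
    have := hAn
    infer_instance
  obtain ⟨N, hNn, hNle, hNna, hNmin⟩ := exists_min_nonabelian _ hCn hCna
  obtain ⟨h2, hp2, ⟨U, hU1, hUinv⟩, hcases⟩ :=
    plane_of_normal H hreg A hAn hAc hAmax N hNn hNle hNna hNmin
  obtain ⟨hNirr, hCA⟩ := irreducible_and_centralizer H hreg A hAn hAc hAmax N hNn hNle hNna hNmin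
  have hcard : Nat.card V = p ^ 2 := by rw [card_eq_pow_top (p := p) (V := V), h2]
  have hHcard : Nat.card ↥H + 1 = p ^ 2 := by rw [← hcard]; exact card_add_one H hreg
  rcases hcases with ⟨⟨e⟩, -⟩ | ⟨hperf, -, -⟩
  swap
  · exfalso
    have hN1 : Nontrivial ↥N := by
      by_contra hnt
      rw [not_nontrivial_iff_subsingleton] at hnt
      exact hNna ⟨⟨fun a b => Subsingleton.elim _ _⟩⟩
    have hsN : Group.IsSolvable ↥N := inferInstance
    exact not_perfect_of_solvable (H := ↥N) (commutator_eq_top_of_self N hperf)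
  have hDn : (Subgroup.centralizer (N : Set H)).Normal := by
    have := hNn
    infer_instance
  have hN8 : Nat.card ↥N = 8 := by
    rw [Nat.card_congr e.toEquiv, Nat.card_eq_fintype_card, QuaternionGroup.card]
  -- the action on `N`
  obtain ⟨e₄⟩ := Cfsg.Agent.S3304.mulAut_Q8_equiv_perm
  haveI := hNn
  let Φ : H →* Equiv.Perm (Fin 4) :=
    (e₄.toMonoidHom.comp (MulAut.congr e).toMonoidHom).comp (MulAut.conjNormal (H := N))
  have hΦker : Φ.ker = Subgroup.centralizer (N : Set H) := by
    rw [← Cfsg.Agent.Lib.Helper55_Fitting.conjNormal_ker N]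
    ext x
    rw [MonoidHom.mem_ker, MonoidHom.mem_ker]
    constructor
    · intro h
      apply (MulAut.congr e).injective
      apply e₄.injective
      rw [map_one, map_one]
      exact h
    · intro h
      show e₄ ((MulAut.congr e) (MulAut.conjNormal x)) = 1
      rw [h, map_one, map_one]
  by_cases hψ : ∃ h : H, (Equiv.Perm.sign.comp Φ) h = -1
  · left
    exact exists_index_two_of_hom _ hψ
  push Not at hψ
  have hrange : Φ.range ≤ alternatingGroup (Fin 4) := by
    rintro _ ⟨h, rfl⟩
    rw [Equiv.Perm.mem_alternatingGroup]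
    rcases Int.units_eq_one_or (Equiv.Perm.sign (Φ h)) with h1 | h1
    · exact h1
    · exact absurd h1 (hψ h)
  have h12 : (Subgroup.centralizer (N : Set H)).index ∣ 12 := by
    rw [← hΦker, Subgroup.index_ker]
    have h1 : Nat.card ↥Φ.range ∣ Nat.card ↥(alternatingGroup (Fin 4)) :=
      Subgroup.card_dvd_of_le hrange
    have h3 : Nat.card ↥(alternatingGroup (Fin 4)) = 12 := by
      rw [nat_card_alternatingGroup, Nat.card_eq_fintype_card, Fintype.card_fin]
      rfl
    rwa [h3] at h1
  have h4 : 4 ∣ (Subgroup.centralizer (N : Set H)).index := four_dvd_index_centralizer N e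
  -- the spread
  have hU0 : U ≠ ⊥ := by
    intro h0
    rw [h0, finrank_bot] at hU1
    exact zero_ne_one hU1
  have hUmin : ∀ W' : Submodule (ZMod p) V, W' ≤ U →
      Inv H (Subgroup.centralizer (N : Set H)) W' → W' = ⊥ ∨ W' = U := by
    intro W' hle _
    by_cases h0 : finrank (ZMod p) ↥W' = 0
    · left; exact Submodule.finrank_eq_zero.1 h0
    · right
      have h1 : finrank (ZMod p) ↥W' ≤ finrank (ZMod p) ↥U := Submodule.finrank_mono hle
      exact Submodule.eq_of_le_of_finrank_eq hle (by omega)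
  obtain ⟨Φ', hΦ', hΦ'dvd⟩ := spread H hreg hDn hU0 hUinv hUmin
  rw [card_eq_pow U, hU1, pow_one, hcard] at hΦ'
  have hp1 : 1 ≤ p := hp.one_lt.le
  have hΦ'eq : Φ' = p + 1 := by
    have h5 : p ^ 2 - 1 = (p + 1) * (p - 1) := by
      zify [hp1, Nat.one_le_pow 2 p hp1]
      ring
    rw [h5] at hΦ'
    exact Nat.eq_of_mul_eq_mul_right (by have := hp.one_lt; omega) hΦ'
  rw [hΦ'eq] at hΦ'dvd
  have hidx := (Subgroup.centralizer (N : Set H)).card_mul_index
  have hp12 : p + 1 ∣ 12 := hΦ'dvd.trans h12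
  have hple : p + 1 ≤ 12 := Nat.le_of_dvd (by norm_num) hp12
  have h2le := hp.two_le
  -- elements of prime order
  have hcauchyH : ∀ m : ℕ, m.Prime → m ∣ Nat.card ↥H → ∃ c : H, orderOf c = m := by
    intro m hm hdvd
    have : Fact m.Prime := ⟨hm⟩
    exact exists_prime_orderOf_dvd_card' m hdvd
  have hcauchyC : ∀ m : ℕ, m.Prime → m ∣ Nat.card ↥(Subgroup.centralizer (N : Set H)) →
      ∃ c : H, c ∈ Subgroup.centralizer (N : Set H) ∧ orderOf c = m := by
    intro m hm hdvd
    have : Fact m.Prime := ⟨hm⟩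
    obtain ⟨c, hc⟩ := exists_prime_orderOf_dvd_card' m hdvd
    exact ⟨c, c.2, by rw [Subgroup.orderOf_coe, hc]⟩
  -- an element of order three generates `SL(2,3)` together with `N`
  have hSL : ∀ x : H, orderOf x = 3 → ¬ 3 ∣ Nat.card ↥(Subgroup.centralizer (N : Set H)) →
      Nonempty (↥(N ⊔ Subgroup.zpowers x) ≃* Matrix.SpecialLinearGroup (Fin 2) (ZMod 3)) := by
    intro x hx h3
    have hx3 : x ^ 3 = 1 := by rw [← hx]; exact pow_orderOf_eq_one x
    have hxC : x ∉ Subgroup.centralizer (N : Set H) := by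
      intro hmem
      apply h3
      have := orderOf_dvd_natCard (⟨x, hmem⟩ : ↥(Subgroup.centralizer (N : Set H)))
      rwa [← Subgroup.orderOf_coe, hx] at this
    have hne : ∃ n ∈ N, x * n * x⁻¹ ≠ n := by
      by_contra hcon
      push Not at hcon
      apply hxC
      rw [Subgroup.mem_centralizer_iff]
      intro n hn
      have := hcon n hn
      calc n * x = (x * n * x⁻¹) * x := by rw [this]
        _ = x * n := by group
    have hxN : x ∈ Subgroup.normalizer (N : Set H) := by
      rw [Subgroup.mem_normalizer_iff]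
      intro n
      constructor
      · intro hn
        exact hNn.conj_mem n hn x
      · intro hn
        have := hNn.conj_mem _ hn x⁻¹
        simpa [mul_assoc] using this
    exact Cfsg.Agent.Lib.Helper41_Q8Act.nonempty_mulEquiv_SL23_of_act N e x hxN hx3 hne
  have hSLcard : ∀ x : H,
      Nonempty (↥(N ⊔ Subgroup.zpowers x) ≃* Matrix.SpecialLinearGroup (Fin 2) (ZMod 3)) →
      Nat.card ↥(N ⊔ Subgroup.zpowers x) = 24 := by
    rintro x ⟨θ⟩
    rw [Nat.card_congr θ.toEquiv]
    exact Cfsg.Agent.Lib.Helper2_SL23.card_SL23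
  generalize hd : (Subgroup.centralizer (N : Set H)).index = d at *
  generalize hc : Nat.card ↥(Subgroup.centralizer (N : Set H)) = c at *
  have hd12 : d ≤ 12 := Nat.le_of_dvd (by norm_num) h12
  have hp11 : p ≤ 11 := by omega
  interval_cases p
  all_goals first
    | omega
    | (exfalso; revert hp12; norm_num; done)
    | (exfalso; revert hp; norm_num; done)
    | skip
  · -- `p = 3`
    left
    have hH8 : Nat.card ↥H = 8 := by omega
    obtain ⟨t, s, ht, hs, hq, -⟩ := normal_data' H hreg A hAn hAc hAmax N hNn hNle hNna hNmin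
    have ho : orderOf t = 4 := by
      have h1 : orderOf t ∣ 4 := orderOf_dvd_of_pow_eq_one hq.t4
      have h3 : ¬ orderOf t ∣ 2 := fun h => hq.t2 (orderOf_dvd_iff_pow_eq_one.1 h)
      have h4 : orderOf t ≤ 4 := Nat.le_of_dvd (by norm_num) h1
      interval_cases h5 : orderOf t
      · exact absurd h1 (by norm_num)
      · exact absurd h3 (by norm_num)
      · exact absurd h3 (by norm_num)
      · exact absurd h1 (by norm_num)
      · rfl
    have hidx2 : (Subgroup.zpowers t).index = 2 := by
      have := (Subgroup.zpowers t).card_mul_index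
      rw [Nat.card_zpowers, ho, hH8] at this
      omega
    exact ⟨Subgroup.zpowers t, Subgroup.normal_of_index_eq_two hidx2, hidx2⟩
  · -- `p = 5`
    right; left
    have hH24 : Nat.card ↥H = 24 := by omega
    have hd' : d = 12 := by
      have h6 : d ≤ 12 := hd12
      interval_cases d <;> omega
    have hc' : c = 2 := by rw [hd', hH24] at hidx; omega
    refine ⟨by rw [hcard]; norm_num, ?_⟩
    obtain ⟨x, hx⟩ := hcauchyH 3 Nat.prime_three (by rw [hH24]; norm_num)
    have hθ := hSL x hx (by rw [hc']; norm_num)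
    have h24 := hSLcard x hθ
    obtain ⟨θ⟩ := hθ
    have htop : N ⊔ Subgroup.zpowers x = ⊤ :=
      Subgroup.eq_top_of_card_eq _ (by rw [h24, hH24])
    exact ⟨(Subgroup.topEquiv.symm.trans (MulEquiv.subgroupCongr htop.symm)).trans θ⟩
  · -- `p = 11`
    right; right
    have hH120 : Nat.card ↥H = 120 := by omega
    have hd' : d = 12 := by
      have h6 : d ≤ 12 := hd12
      interval_cases d <;> omega
    have hc' : c = 10 := by rw [hd', hH120] at hidx; omega
    refine ⟨by rw [hcard]; norm_num, ?_⟩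
    obtain ⟨x, hx⟩ := hcauchyH 3 Nat.prime_three (by rw [hH120]; norm_num)
    have hθ := hSL x hx (by rw [hc']; norm_num)
    have h24 := hSLcard x hθ
    obtain ⟨θ⟩ := hθ
    obtain ⟨y, hyC, hy⟩ := hcauchyC 5 (by norm_num) (by rw [hc']; norm_num)
    have hycent : y ∈ Subgroup.centralizer ((N ⊔ Subgroup.zpowers x : Subgroup H) : Set H) := by
      rw [Subgroup.mem_centralizer_iff]
      intro g _
      exact (central_of_line H N hNirr U hU1 hUinv y hyC g).symm
    obtain ⟨ζ⟩ := prod_structure (N ⊔ Subgroup.zpowers x) 5 (by rw [h24]; norm_num)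
      (by rw [h24, hH120]) y hy hycent
    exact ⟨ζ.trans (MulEquiv.prodCongr θ (MulEquiv.refl _))⟩

end concrete


end Cfsg.Agent.Lib.Helper12_SolvReg
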