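import Mathlib
import Cfsg.Agent.Lib.Helper12_SolvReg

set_option autoImplicit false
set_option linter.unusedSimpArgs false
set_option linter.unusedSectionVars false
set_option linter.style.haveILetI false

namespace Cfsg.Agent.Lib.Helper12_Hup1

open Module

universe u

variable {p : ℕ} [Fact p.Prime] {V : Type u} [AddCommGroup V] [Module (ZMod p) V]
variable (H : Subgroup (V ≃ₗ[ZMod p] V))

/-- transitivity on the non-zero vectors -/
def Trans : Prop := ∀ v w : V, v ≠ 0 → w ≠ 0 → ∃ h : H, (h : V ≃ₗ[ZMod p] V) v = w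

/-- existence of an irreducible cyclic normal subgroup -/
def HasIrrCyc : Prop := ∃ A : Subgroup H, A.Normal ∧ IsCyclic A ∧ ∀ W : Submodule (ZMod p) V,
    (∀ a ∈ A, ∀ v ∈ W, ((a : H) : V ≃ₗ[ZMod p] V) v ∈ W) → W = ⊥ ∨ W = ⊤

/-- the coercion to endomorphisms as a monoid homomorphism -/
def toEnd : H →* Module.End (ZMod p) V :=
  (LinearEquiv.automorphismGroup.toLinearMapMonoidHom).comp H.subtype

theorem toEnd_apply (h : H) (v : V) : toEnd H h v = (h : V ≃ₗ[ZMod p] V) v := rfl

theorem toEnd_injective : Function.Injective (toEnd H) := by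
  intro a b hab
  apply Subtype.ext
  ext v
  have := congrArg (fun f : Module.End (ZMod p) V => f v) hab
  exact this

/-- conjugation by `h` on endomorphisms -/
noncomputable def cj (h : H) : Module.End (ZMod p) V ≃ₐ[ZMod p] Module.End (ZMod p) V :=
  LinearEquiv.conjAlgEquiv (ZMod p) (h : V ≃ₗ[ZMod p] V)

theorem cj_apply (h : H) (f : Module.End (ZMod p) V) (v : V) :
    cj H h f ((h : V ≃ₗ[ZMod p] V) v) = (h : V ≃ₗ[ZMod p] V) (f v) := by
  show (h : V ≃ₗ[ZMod p] V) (f ((h : V ≃ₗ[ZMod p] V).symm ((h : V ≃ₗ[ZMod p] V) v))) = _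
  rw [LinearEquiv.symm_apply_apply]

theorem cj_toEnd (h g : H) : cj H h (toEnd H g) = toEnd H (h * g * h⁻¹) := by
  ext v
  show (h : V ≃ₗ[ZMod p] V) ((g : V ≃ₗ[ZMod p] V) ((h : V ≃ₗ[ZMod p] V).symm v)) = _
  rfl

/-- **Lemma H'**: in a commutative subalgebra normalised by a group that is transitive on the
non-zero vectors, every non-zero element is injective. -/
theorem injective_of_normalized [Finite V] (htr : Trans H)
    (K₀ : Subalgebra (ZMod p) (Module.End (ZMod p) V))
    (hcomm : ∀ a ∈ K₀, ∀ b ∈ K₀, a * b = b * a)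
    (hnorm : ∀ h : H, ∀ k ∈ K₀, cj H h k ∈ K₀)
    (k : Module.End (ZMod p) V) (hk : k ∈ K₀) (hk0 : k ≠ 0) : Function.Injective k := by
  classical
  have hfinE : Finite (Module.End (ZMod p) V) := Cfsg.Agent.Lib.Helper12_SolvReg.finite_end
  -- the annihilator sets
  let I : V → Set (Module.End (ZMod p) V) := fun v => {k' | k' ∈ K₀ ∧ k' v = 0}
  have hIfin : ∀ v, (I v).Finite := fun v => Set.toFinite _
  have hconj : ∀ (h : H) (v : V), I ((h : V ≃ₗ[ZMod p] V) v) = cj H h '' I v := by
    intro h v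
    ext k'
    constructor
    · rintro ⟨hk'K, hk'v⟩
      refine ⟨cj H h⁻¹ k', ⟨hnorm h⁻¹ k' hk'K, ?_⟩, ?_⟩
      · have h1 := cj_apply H h⁻¹ k' ((h : V ≃ₗ[ZMod p] V) v)
        rw [hk'v, map_zero] at h1
        have h2 : ((h⁻¹ : H) : V ≃ₗ[ZMod p] V) ((h : V ≃ₗ[ZMod p] V) v) = v := by
          show ((h⁻¹ * h : H) : V ≃ₗ[ZMod p] V) v = v
          rw [inv_mul_cancel]; rfl
        rwa [h2] at h1
      · ext w
        show (h : V ≃ₗ[ZMod p] V) (((h⁻¹ : H) : V ≃ₗ[ZMod p] V) (k' (((h⁻¹ : H) : V ≃ₗ[ZMod p] V).symm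
          ((h : V ≃ₗ[ZMod p] V).symm w)))) = k' w
        have h3 : ∀ y : V, (h : V ≃ₗ[ZMod p] V) (((h⁻¹ : H) : V ≃ₗ[ZMod p] V) y) = y := by
          intro y
          show ((h * h⁻¹ : H) : V ≃ₗ[ZMod p] V) y = y
          rw [mul_inv_cancel]; rfl
        have h4 : ∀ y : V, ((h⁻¹ : H) : V ≃ₗ[ZMod p] V).symm ((h : V ≃ₗ[ZMod p] V).symm y) = y := by
          intro y
          apply ((h⁻¹ : H) : V ≃ₗ[ZMod p] V).injective
          rw [LinearEquiv.apply_symm_apply]
          apply (h : V ≃ₗ[ZMod p] V).injective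
          rw [LinearEquiv.apply_symm_apply, h3]
        rw [h3, h4]
    · rintro ⟨k'', ⟨hk''K, hk''v⟩, rfl⟩
      refine ⟨hnorm h k'' hk''K, ?_⟩
      rw [cj_apply, hk''v, map_zero]
  have hcard : ∀ v w : V, v ≠ 0 → w ≠ 0 → (I v).ncard = (I w).ncard := by
    intro v w hv hw
    obtain ⟨h, hh⟩ := htr v w hv hw
    rw [← hh, hconj, Set.ncard_image_of_injective _ (cj H h).injective]
  have hstar : ∀ (v : V) (k' : Module.End (ZMod p) V), k' ∈ K₀ → v ≠ 0 → k' v ≠ 0 →
      I v = I (k' v) := by
    intro v k' hk' hv hk'v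
    apply Set.eq_of_subset_of_ncard_le _ (hcard _ _ hk'v hv).le (hIfin _)
    rintro k'' ⟨hk''K, hk''v⟩
    refine ⟨hk''K, ?_⟩
    rw [← Module.End.mul_apply, hcomm k'' hk''K k' hk', Module.End.mul_apply, hk''v, map_zero]
  rw [← LinearMap.ker_eq_bot, LinearMap.ker_eq_bot']
  intro v hkv
  by_contra hv
  obtain ⟨w, hw⟩ : ∃ w, k w ≠ 0 := by
    by_contra hcon
    push Not at hcon
    apply hk0
    ext w
    exact hcon w
  have hw0 : w ≠ 0 := by
    intro h0
    rw [h0, map_zero] at hw
    exact hw rfl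
  have hku : k (v + w) = k w := by rw [map_add, hkv, zero_add]
  have hu0 : v + w ≠ 0 := by
    intro h0
    rw [h0, map_zero] at hku
    exact hw hku.symm
  have h1 : I (v + w) = I w := by
    rw [hstar (v + w) k hk hu0 (by rw [hku]; exact hw), hku, ← hstar w k hk hw0 hw]
  have h2 : I w ⊆ I v := by
    rintro k' hk'
    have h3 : k' ∈ I (v + w) := by rw [h1]; exact hk'
    refine ⟨hk'.1, ?_⟩
    have h4 : k' (v + w) = 0 := h3.2
    rw [map_add, hk'.2, add_zero] at h4
    exact h4
  have h5 : I w = I v := Set.eq_of_subset_of_ncard_le h2 (hcard _ _ hv hw0).le (hIfin _)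
  have h6 : k ∈ I w := by rw [h5]; exact ⟨hk, hkv⟩
  exact hw h6.2

/-- the set of endomorphisms induced by the elements of `A` -/
def genSet (A : Subgroup H) : Set (Module.End (ZMod p) V) := {f | ∃ a ∈ A, toEnd H a = f}

/-- the algebra generated by `A` -/
def alg (A : Subgroup H) : Subalgebra (ZMod p) (Module.End (ZMod p) V) :=
  Algebra.adjoin (ZMod p) (genSet H A)

theorem toEnd_mem_alg {A : Subgroup H} {a : H} (ha : a ∈ A) : toEnd H a ∈ alg H A :=
  Algebra.subset_adjoin ⟨a, ha, rfl⟩

theorem alg_isMulCommutative (A : Subgroup H) (hAc : ∀ a ∈ A, ∀ b ∈ A, a * b = b * a) :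
    IsMulCommutative (alg H A) := by
  apply Algebra.isMulCommutative_adjoin
  rintro x ⟨a, ha, rfl⟩ y ⟨b, hb, rfl⟩
  rw [← map_mul, ← map_mul, hAc a ha b hb]

theorem alg_comm (A : Subgroup H) (hAc : ∀ a ∈ A, ∀ b ∈ A, a * b = b * a) :
    ∀ x ∈ alg H A, ∀ y ∈ alg H A, x * y = y * x := by
  have := alg_isMulCommutative H A hAc
  intro x hx y hy
  have h1 := this.is_comm.comm (⟨x, hx⟩ : alg H A) ⟨y, hy⟩
  exact congrArg Subtype.val h1

theorem alg_norm (A : Subgroup H) (hAn : A.Normal) :
    ∀ h : H, ∀ k ∈ alg H A, cj H h k ∈ alg H A := by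
  intro h k hk
  have h1 : (alg H A).map (cj H h).toAlgHom = Algebra.adjoin (ZMod p) ((cj H h).toAlgHom '' genSet H A) :=
    AlgHom.map_adjoin _ _
  have h2 : Algebra.adjoin (ZMod p) ((cj H h).toAlgHom '' genSet H A) ≤ alg H A := by
    apply Algebra.adjoin_le
    rintro _ ⟨_, ⟨a, ha, rfl⟩, rfl⟩
    show cj H h (toEnd H a) ∈ alg H A
    rw [cj_toEnd]
    exact toEnd_mem_alg H (hAn.conj_mem a ha h)
  apply h2
  rw [← h1]
  exact ⟨k, hk, rfl⟩

/-- non-zero elements of the algebra of an abelian normal subgroup are injective -/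
theorem alg_injective [Finite V] (htr : Trans H) (A : Subgroup H) (hAn : A.Normal)
    (hAc : ∀ a ∈ A, ∀ b ∈ A, a * b = b * a) (k : Module.End (ZMod p) V) (hk : k ∈ alg H A)
    (hk0 : k ≠ 0) : Function.Injective k :=
  injective_of_normalized H htr (alg H A) (alg_comm H A hAc) (alg_norm H A hAn) k hk hk0

/-- a subspace invariant under `A` is invariant under its algebra -/
theorem alg_invariant (A : Subgroup H) (W : Submodule (ZMod p) V)
    (hW : ∀ a ∈ A, ∀ v ∈ W, ((a : H) : V ≃ₗ[ZMod p] V) v ∈ W) :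
    ∀ k ∈ alg H A, ∀ v ∈ W, k v ∈ W := by
  intro k hk
  induction hk using Algebra.adjoin_induction with
  | mem x hx =>
    obtain ⟨a, ha, rfl⟩ := hx
    exact fun v hv => hW a ha v hv
  | algebraMap r =>
    intro v hv
    rw [Module.algebraMap_end_apply]
    exact W.smul_mem r hv
  | add x y _ _ hx hy =>
    intro v hv
    rw [LinearMap.add_apply]
    exact W.add_mem (hx v hv) (hy v hv)
  | mul x y _ _ hx hy =>
    intro v hv
    rw [Module.End.mul_apply]
    exact hx _ (hy v hv)

theorem finite_alg [Finite V] (A : Subgroup H) : Finite (alg H A) :=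
  have := Cfsg.Agent.Lib.Helper12_SolvReg.finite_end (p := p) (V := V)
  Finite.of_injective (fun k : alg H A => (k : Module.End (ZMod p) V)) Subtype.val_injective

/-- the algebra of an abelian normal subgroup has at most as many elements as `V` -/
theorem card_alg_le [Finite V] [Nontrivial V] (htr : Trans H) (A : Subgroup H) (hAn : A.Normal)
    (hAc : ∀ a ∈ A, ∀ b ∈ A, a * b = b * a) : Nat.card (alg H A) ≤ Nat.card V := by
  obtain ⟨v₀, hv₀⟩ := exists_ne (0 : V)
  apply Nat.card_le_card_of_injective (fun k : alg H A => (k : Module.End (ZMod p) V) v₀)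
  intro a b hab
  by_contra hne
  have h1 : ((a - b : alg H A) : Module.End (ZMod p) V) ≠ 0 := by
    intro h0
    apply hne
    have : a - b = 0 := Subtype.ext h0
    exact sub_eq_zero.1 this
  have h2 := alg_injective H htr A hAn hAc _ (a - b).2 h1
  apply hv₀
  apply h2
  rw [map_zero]
  show (a : Module.End (ZMod p) V) v₀ - (b : Module.End (ZMod p) V) v₀ = 0
  exact sub_eq_zero.2 hab

/-- if the algebra of an abelian normal subgroup has as many elements as `V`, the subgroup is
irreducible -/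
theorem irreducible_of_card_alg [Finite V] (htr : Trans H) (A : Subgroup H) (hAn : A.Normal)
    (hAc : ∀ a ∈ A, ∀ b ∈ A, a * b = b * a) (hcard : Nat.card (alg H A) = Nat.card V)
    (W : Submodule (ZMod p) V)
    (hW : ∀ a ∈ A, ∀ v ∈ W, ((a : H) : V ≃ₗ[ZMod p] V) v ∈ W) : W = ⊥ ∨ W = ⊤ := by
  by_cases hW0 : W = ⊥
  · exact Or.inl hW0
  right
  obtain ⟨w, hw, hw0⟩ := Submodule.exists_mem_ne_zero_of_ne_bot hW0
  have := finite_alg H A
  have hinj : Function.Injective (fun k : alg H A => (k : Module.End (ZMod p) V) w) := by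
    intro a b hab
    by_contra hne
    have h1 : ((a - b : alg H A) : Module.End (ZMod p) V) ≠ 0 := by
      intro h0
      apply hne
      have : a - b = 0 := Subtype.ext h0
      exact sub_eq_zero.1 this
    have h2 := alg_injective H htr A hAn hAc _ (a - b).2 h1
    apply hw0
    apply h2
    rw [map_zero]
    show (a : Module.End (ZMod p) V) w - (b : Module.End (ZMod p) V) w = 0
    exact sub_eq_zero.2 hab
  have hbij : Function.Bijective (fun k : alg H A => (k : Module.End (ZMod p) V) w) :=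
    (Nat.bijective_iff_injective_and_card _).2 ⟨hinj, hcard⟩
  rw [eq_top_iff]
  intro v _
  obtain ⟨k, hk⟩ := hbij.2 v
  rw [← hk]
  exact alg_invariant H A W hW k k.2 w hw

open scoped IsMulCommutative in
/-- an abelian normal subgroup of a group transitive on the non-zero vectors is cyclic -/
theorem isCyclic_of_abelian_normal [Finite V] [Nontrivial V] (htr : Trans H) (A : Subgroup H)
    (hAn : A.Normal) (hAc : ∀ a ∈ A, ∀ b ∈ A, a * b = b * a) : IsCyclic A := by
  have hfinL : Finite (V ≃ₗ[ZMod p] V) := Cfsg.Agent.Lib.Helper12_SolvReg.finite_equiv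
  have hmc := alg_isMulCommutative H A hAc
  letI : CommRing (alg H A) := inferInstance
  have hnt : Nontrivial (alg H A) := by
    refine ⟨⟨1, 0, ?_⟩⟩
    intro h
    have h1 : (1 : Module.End (ZMod p) V) = 0 := congrArg Subtype.val h
    obtain ⟨v, hv⟩ := exists_ne (0 : V)
    apply hv
    have := congrArg (fun f : Module.End (ZMod p) V => f v) h1
    simpa using this
  have hnzd : NoZeroDivisors (alg H A) := by
    refine ⟨fun {a b} hab => ?_⟩
    by_contra hcon
    push Not at hcon
    obtain ⟨ha, hb⟩ := hcon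
    apply hb
    apply Subtype.ext
    ext v
    have ha' : (a : Module.End (ZMod p) V) ≠ 0 := fun h => ha (Subtype.ext h)
    apply alg_injective H htr A hAn hAc _ a.2 ha'
    have h1 : (a : Module.End (ZMod p) V) * (b : Module.End (ZMod p) V) = 0 :=
      congrArg Subtype.val hab
    have := congrArg (fun f : Module.End (ZMod p) V => f v) h1
    simpa using this
  have hdom : IsDomain (alg H A) := NoZeroDivisors.to_isDomain _
  let f : A →* alg H A :=
    { toFun := fun a => ⟨toEnd H (a : H), toEnd_mem_alg H a.2⟩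
      map_one' := Subtype.ext (map_one (toEnd H))
      map_mul' := fun a b => Subtype.ext (map_mul (toEnd H) (a : H) (b : H)) }
  have hf : Function.Injective f := by
    intro a b hab
    have h1 : toEnd H (a : H) = toEnd H (b : H) := congrArg Subtype.val hab
    exact Subtype.ext (toEnd_injective H h1)
  exact isCyclic_of_injective_ringHom f hf

/-- transitivity gives divisibility of the group order -/
theorem card_sub_one_dvd [Finite V] [Nontrivial V] (htr : Trans H) :
    (Nat.card V - 1) ∣ Nat.card H := by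
  classical
  have hfinL : Finite (V ≃ₗ[ZMod p] V) := Cfsg.Agent.Lib.Helper12_SolvReg.finite_equiv
  obtain ⟨v₀, hv₀⟩ := exists_ne (0 : V)
  have h2 : MulAction.orbit H v₀ = ({0} : Set V)ᶜ := by
    ext v
    constructor
    · rintro ⟨h, rfl⟩
      intro h0
      apply hv₀
      have : (h : V ≃ₗ[ZMod p] V) v₀ = 0 := h0
      have h3 := congrArg (h : V ≃ₗ[ZMod p] V).symm this
      rwa [LinearEquiv.symm_apply_apply, map_zero] at h3
    · intro hv
      obtain ⟨h, hh⟩ := htr v₀ v hv₀ hv
      exact ⟨h, hh⟩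
  have h3 : Nat.card (MulAction.orbit H v₀) = Nat.card V - 1 := by
    rw [h2, Nat.card_coe_set_eq, Set.ncard_compl, Set.ncard_singleton]
  have e := MulAction.orbitProdStabilizerEquivGroup H v₀
  have h4 : Nat.card (MulAction.orbit H v₀) * Nat.card (MulAction.stabilizer H v₀) =
      Nat.card H := by
    rw [← Nat.card_prod]
    exact Nat.card_congr e
  rw [← h3, ← h4]
  exact Dvd.intro _ rfl

end Cfsg.Agent.Lib.Helper12_Hup1
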