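import Mathlib
import Cfsg.Agent.Lib.Helper99_Zsigmondy

/-!
# A lower bound for cyclotomic values

`q ^ φ(n) ≤ 4 * Φ_n(q)` for integers `q ≥ 2`, `n ≥ 1`, via the Möbius product formula
`Φ_n(q) / q^φ(n) = ∏_{ab = n} (1 - q^{-b})^{μ(a)}`.
-/

set_option autoImplicit false

namespace Cfsg.Agent.Lib.Helper99_CycloBound

open Polynomial Finset Cfsg.Agent.Lib.Helper99_Zsigmondy
open scoped ArithmeticFunction.Moebius

/-- `∏_{i ∣ n} Φ_i(q) = q^n - 1`. -/
lemma prod_phi {q n : ℕ} (hq : 2 ≤ q) (hn : 0 < n) :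
    ∏ i ∈ n.divisors, (phi q i : ℚ) = (q : ℚ) ^ n - 1 := by
  have h := congrArg (eval (q : ℤ)) (prod_cyclotomic_eq_X_pow_sub_one hn ℤ)
  rw [eval_prod] at h
  simp only [eval_sub, eval_pow, eval_X, eval_one] at h
  have h2 : ∏ i ∈ n.divisors, (phi q i : ℤ) = (q : ℤ) ^ n - 1 := by
    rw [← h]
    exact Finset.prod_congr rfl (fun i _ => (eval_eq_phi hq).symm)
  have h3 := congrArg (Int.cast : ℤ → ℚ) h2
  push_cast at h3
  exact h3

/-- The partial products of `∏ (1 - 2^{-b})` stay above `1/4`. -/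
lemma prod_half_ge (N : ℕ) :
    (1 / 4 : ℚ) ≤ ∏ b ∈ Finset.Icc 1 N, (1 - (1 / 2 : ℚ) ^ b) := by
  have key : ∀ N : ℕ, 1 ≤ N →
      (1 / 4 : ℚ) + (1 / 2) ^ (N + 1) ≤ ∏ b ∈ Finset.Icc 1 N, (1 - (1 / 2 : ℚ) ^ b) := by
    intro N hN
    induction N, hN using Nat.le_induction with
    | base => norm_num
    | succ k hk ih =>
      rw [Finset.prod_Icc_succ_top (by omega)]
      have hy : (1 / 2 : ℚ) ^ (k + 1) ≤ 1 / 4 := by
        calc (1 / 2 : ℚ) ^ (k + 1) ≤ (1 / 2) ^ 2 :=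
              pow_le_pow_of_le_one (by norm_num) (by norm_num) (by omega)
          _ = 1 / 4 := by norm_num
      have hy0 : (0 : ℚ) < (1 / 2) ^ (k + 1) := by positivity
      have h1 : (0 : ℚ) ≤ 1 - (1 / 2) ^ (k + 1) := by linarith
      calc (1 / 4 : ℚ) + (1 / 2) ^ (k + 1 + 1)
          ≤ (1 / 4 + (1 / 2) ^ (k + 1)) * (1 - (1 / 2) ^ (k + 1)) := by
            rw [pow_succ (1 / 2 : ℚ) (k + 1)]
            nlinarith
        _ ≤ (∏ b ∈ Finset.Icc 1 k, (1 - (1 / 2 : ℚ) ^ b)) * (1 - (1 / 2) ^ (k + 1)) :=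
            mul_le_mul_of_nonneg_right ih h1
  rcases Nat.eq_zero_or_pos N with rfl | hN
  · norm_num
  · have := key N hN
    have h0 : (0 : ℚ) < (1 / 2) ^ (N + 1) := by positivity
    linarith

/-- `∏_{b ∣ n} (1 - q^{-b}) ≥ 1/4`. -/
lemma prod_divisors_ge {q : ℕ} (hq : 2 ≤ q) (n : ℕ) :
    (1 / 4 : ℚ) ≤ ∏ b ∈ n.divisors, (1 - ((q : ℚ) ^ b)⁻¹) := by
  have hq' : (2 : ℚ) ≤ q := by exact_mod_cast hq
  have hterm : ∀ b : ℕ, (1 - (1 / 2 : ℚ) ^ b) ≤ 1 - ((q : ℚ) ^ b)⁻¹ := by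
    intro b
    have h2 : (2 : ℚ) ^ b ≤ (q : ℚ) ^ b := pow_le_pow_left₀ (by norm_num) hq' b
    have h3 : ((q : ℚ) ^ b)⁻¹ ≤ ((2 : ℚ) ^ b)⁻¹ := inv_anti₀ (by positivity) h2
    have h4 : ((2 : ℚ) ^ b)⁻¹ = (1 / 2 : ℚ) ^ b := by
      rw [one_div, inv_pow]
    linarith
  have hnn : ∀ b : ℕ, (0 : ℚ) ≤ 1 - (1 / 2 : ℚ) ^ b := by
    intro b
    have : (1 / 2 : ℚ) ^ b ≤ 1 := pow_le_one₀ (by norm_num) (by norm_num)
    linarith
  have hle1 : ∀ b : ℕ, 1 - (1 / 2 : ℚ) ^ b ≤ 1 := by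
    intro b
    have : (0 : ℚ) ≤ (1 / 2) ^ b := by positivity
    linarith
  have hsub : n.divisors ⊆ Finset.Icc 1 n := by
    intro b hb
    rw [Finset.mem_Icc]
    exact ⟨Nat.pos_of_mem_divisors hb, Nat.divisor_le hb⟩
  calc (1 / 4 : ℚ) ≤ ∏ b ∈ Finset.Icc 1 n, (1 - (1 / 2 : ℚ) ^ b) := prod_half_ge n
    _ = (∏ b ∈ Finset.Icc 1 n \ n.divisors, (1 - (1 / 2 : ℚ) ^ b)) *
          ∏ b ∈ n.divisors, (1 - (1 / 2 : ℚ) ^ b) := (Finset.prod_sdiff hsub).symm
    _ ≤ 1 * ∏ b ∈ n.divisors, (1 - (1 / 2 : ℚ) ^ b) := by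
        apply mul_le_mul_of_nonneg_right
        · exact Finset.prod_le_one (fun b _ => hnn b) (fun b _ => hle1 b)
        · exact Finset.prod_nonneg (fun b _ => hnn b)
    _ = ∏ b ∈ n.divisors, (1 - (1 / 2 : ℚ) ^ b) := one_mul _
    _ ≤ ∏ b ∈ n.divisors, (1 - ((q : ℚ) ^ b)⁻¹) :=
        Finset.prod_le_prod (fun b _ => hnn b) (fun b _ => hterm b)

/-- The main bound: `q ^ φ(n) ≤ 4 * Φ_n(q)`. -/
theorem pow_totient_le {q n : ℕ} (hq : 2 ≤ q) (hn : 0 < n) :
    q ^ n.totient ≤ 4 * phi q n := by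
  have hq0 : (0 : ℚ) < q := by exact_mod_cast (by omega : 0 < q)
  have hq1 : (1 : ℚ) < q := by exact_mod_cast (by omega : 1 < q)
  -- the two arithmetic functions
  let f : ℕ → ℚ := fun i => (phi q i : ℚ) / (q : ℚ) ^ i.totient
  let g : ℕ → ℚ := fun m => 1 - ((q : ℚ) ^ m)⁻¹
  have hf : ∀ m : ℕ, 0 < m → f m ≠ 0 := by
    intro m _
    have : (0 : ℚ) < phi q m := by exact_mod_cast phi_pos hq
    exact (div_pos this (by positivity)).ne'
  have hgpos : ∀ m : ℕ, 0 < m → 0 < g m := by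
    intro m hm
    have h1 : (1 : ℚ) < (q : ℚ) ^ m := one_lt_pow₀ hq1 hm.ne'
    have : ((q : ℚ) ^ m)⁻¹ < 1 := inv_lt_one_of_one_lt₀ h1
    change 0 < 1 - ((q : ℚ) ^ m)⁻¹
    linarith
  have hg : ∀ m : ℕ, 0 < m → g m ≠ 0 := fun m hm => (hgpos m hm).ne'
  have hgle : ∀ m : ℕ, g m ≤ 1 := by
    intro m
    have : (0 : ℚ) ≤ ((q : ℚ) ^ m)⁻¹ := by positivity
    change 1 - ((q : ℚ) ^ m)⁻¹ ≤ 1
    linarith
  have hfg : ∀ m > 0, ∏ i ∈ m.divisors, f i = g m := by
    intro m hm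
    change ∏ i ∈ m.divisors, (phi q i : ℚ) / (q : ℚ) ^ i.totient = 1 - ((q : ℚ) ^ m)⁻¹
    rw [Finset.prod_div_distrib, prod_phi hq hm, Finset.prod_pow_eq_pow_sum, Nat.sum_totient]
    have : (q : ℚ) ^ m ≠ 0 := by positivity
    field_simp
  have hinv := (ArithmeticFunction.prod_eq_iff_prod_pow_moebius_eq_of_nonzero hf hg).mp hfg n hn
  -- termwise lower bound
  have hterm : ∀ x ∈ n.divisorsAntidiagonal, g x.2 ≤ g x.2 ^ μ x.1 := by
    intro x hx
    have hx2 : 0 < x.2 := by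
      have := Nat.mem_divisorsAntidiagonal.mp hx
      rcases Nat.eq_zero_or_pos x.2 with h0 | h0
      · rw [h0, mul_zero] at this
        exact absurd this.1.symm this.2
      · exact h0
    have hgp := hgpos x.2 hx2
    have hgl := hgle x.2
    have hμ : μ x.1 = 0 ∨ μ x.1 = 1 ∨ μ x.1 = -1 := by
      have h1 := ArithmeticFunction.abs_moebius_le_one (n := x.1)
      rcases abs_le.mp h1 with ⟨ha, hb⟩
      omega
    rcases hμ with h | h | h
    · rw [h, zpow_zero]; exact hgl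
    · rw [h, zpow_one]
    · rw [h, zpow_neg_one]
      have : 1 ≤ (g x.2)⁻¹ := (one_le_inv₀ hgp).mpr hgl
      linarith
  have hnonneg : ∀ x ∈ n.divisorsAntidiagonal, 0 ≤ g x.2 := by
    intro x hx
    have hx2 : 0 < x.2 := by
      have := Nat.mem_divisorsAntidiagonal.mp hx
      rcases Nat.eq_zero_or_pos x.2 with h0 | h0
      · rw [h0, mul_zero] at this
        exact absurd this.1.symm this.2
      · exact h0
    exact (hgpos x.2 hx2).le
  have h1 : ∏ x ∈ n.divisorsAntidiagonal, g x.2 ≤ f n := by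
    rw [← hinv]
    exact Finset.prod_le_prod hnonneg hterm
  have h2 : ∏ x ∈ n.divisorsAntidiagonal, g x.2 = ∏ b ∈ n.divisors, g b :=
    Nat.prod_divisorsAntidiagonal' (fun _ b => g b)
  have h3 : (1 / 4 : ℚ) ≤ f n := by
    calc (1 / 4 : ℚ) ≤ ∏ b ∈ n.divisors, g b := prod_divisors_ge hq n
      _ = ∏ x ∈ n.divisorsAntidiagonal, g x.2 := h2.symm
      _ ≤ f n := h1
  have h4 : (q : ℚ) ^ n.totient ≤ 4 * (phi q n : ℚ) := by
    have hpos : (0 : ℚ) < (q : ℚ) ^ n.totient := by positivity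
    have : (1 / 4 : ℚ) ≤ (phi q n : ℚ) / (q : ℚ) ^ n.totient := h3
    rw [le_div_iff₀ hpos] at this
    linarith
  exact_mod_cast h4

/-- Growth of the totient: `n ≤ 2 φ(n)²`, and `n ≤ φ(n)²` for odd `n`. -/
lemma totient_growth (n : ℕ) : n ≤ 2 * n.totient ^ 2 ∧ (Odd n → n ≤ n.totient ^ 2) := by
  induction n using induction_on_primes with
  | zero => simp
  | one => simp
  | prime_mul p a hp ih =>
    obtain ⟨ih1, ih2⟩ := ih
    by_cases hpa : p ∣ a
    · rw [Nat.totient_mul_of_prime_of_dvd hp hpa]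
      have hp1 : 1 ≤ p := hp.one_lt.le
      refine ⟨?_, ?_⟩
      · have : p * a ≤ p * (2 * a.totient ^ 2) := Nat.mul_le_mul_left p ih1
        nlinarith
      · intro hodd
        have ha : Odd a := (Nat.odd_mul.mp hodd).2
        calc p * a ≤ p * a.totient ^ 2 := Nat.mul_le_mul_left p (ih2 ha)
          _ ≤ p * p * a.totient ^ 2 := by
              apply Nat.mul_le_mul_right
              exact Nat.le_mul_of_pos_left p (by omega)
          _ = (p * a.totient) ^ 2 := by ring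
    · rw [Nat.totient_mul_of_prime_of_not_dvd hp hpa]
      rcases hp.eq_two_or_odd' with rfl | hpodd
      · have ha : Odd a := by
          rw [← Nat.not_even_iff_odd]
          intro he
          exact hpa he.two_dvd
        refine ⟨?_, ?_⟩
        · have := ih2 ha
          norm_num
          linarith
        · intro hodd
          exact absurd hodd (by simp)
      · have hp3 : 3 ≤ p := by
          rcases hpodd with ⟨k, hk⟩
          have := hp.two_le
          omega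
        obtain ⟨r, rfl⟩ : ∃ r, p = r + 1 := ⟨p - 1, by omega⟩
        have hr2 : 2 ≤ r := by omega
        have hsq : r + 1 ≤ r ^ 2 := by nlinarith
        rw [Nat.add_sub_cancel]
        refine ⟨?_, ?_⟩
        · calc (r + 1) * a ≤ r ^ 2 * a := Nat.mul_le_mul_right a hsq
            _ ≤ r ^ 2 * (2 * a.totient ^ 2) := Nat.mul_le_mul_left _ ih1
            _ = 2 * (r * a.totient) ^ 2 := by ring
        · intro hodd
          have ha : Odd a := (Nat.odd_mul.mp hodd).2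
          calc (r + 1) * a ≤ r ^ 2 * a := Nat.mul_le_mul_right a hsq
            _ ≤ r ^ 2 * a.totient ^ 2 := Nat.mul_le_mul_left _ (ih2 ha)
            _ = (r * a.totient) ^ 2 := by ring

lemma numeric_bound (t : ℕ) (ht : 17 ≤ t) : 24 * t ^ 2 * (t + 1) < 2 ^ t := by
  induction t, ht using Nat.le_induction with
  | base => norm_num
  | succ k hk ih =>
    have h1 : 24 * (k + 1) ^ 2 * (k + 1 + 1) ≤ 2 * (24 * k ^ 2 * (k + 1)) := by nlinarith
    calc 24 * (k + 1) ^ 2 * (k + 1 + 1) ≤ 2 * (24 * k ^ 2 * (k + 1)) := h1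
      _ < 2 * 2 ^ k := by omega
      _ = 2 ^ (k + 1) := by ring

/-- The exceptional degrees for the bound below. -/
def excList : List ℕ := [3, 4, 5, 6, 7, 8, 9, 10, 11, 12, 14, 15, 16, 18, 20, 22, 24, 28, 30, 36, 42]

set_option maxRecDepth 100000 in
lemma small_check : ∀ n : ℕ, n ≤ 512 → 3 ≤ n → n ∉ excList → n.totient ≤ 16 →
    12 * n * (n.totient + 1) < 2 ^ n.totient := by
  decide +kernel

/-- Outside the exceptional list, `2 ^ φ(n)` beats `12 n (φ(n) + 1)`. -/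
theorem two_pow_totient_gt (n : ℕ) (hn : 3 ≤ n) (hex : n ∉ excList) :
    12 * n * (n.totient + 1) < 2 ^ n.totient := by
  obtain ⟨h1, -⟩ := totient_growth n
  by_cases ht : 17 ≤ n.totient
  · have := numeric_bound n.totient ht
    calc 12 * n * (n.totient + 1) ≤ 12 * (2 * n.totient ^ 2) * (n.totient + 1) := by
          apply Nat.mul_le_mul_right
          exact Nat.mul_le_mul_left 12 h1
      _ = 24 * n.totient ^ 2 * (n.totient + 1) := by ring
      _ < 2 ^ n.totient := this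
  · have ht' : n.totient ≤ 16 := by omega
    have hn512 : n ≤ 512 := by
      have : n.totient ^ 2 ≤ 16 ^ 2 := Nat.pow_le_pow_left ht' 2
      omega
    exact small_check n hn512 hn hex ht'

end Cfsg.Agent.Lib.Helper99_CycloBound
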