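import Mathlib
import Cfsg.Agent.Lib.Helper99_Zsigmondy
import Cfsg.Agent.Lib.Helper99_CycloBound

/-!
# The primitive part of `q ^ n - 1`

`pp q n = Φ_n(q) / gcd(Φ_n(q), n)`: all its prime divisors are primitive prime divisors of
`q ^ n - 1`, and it is large outside a short list of pairs.
-/

set_option autoImplicit false

namespace Cfsg.Agent.Lib.Helper99_PrimPart

open Polynomial Cfsg.Agent.Lib.Helper99_Zsigmondy Cfsg.Agent.Lib.Helper99_CycloBound

/-- The primitive part of `q ^ n - 1`. -/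
noncomputable def pp (q n : ℕ) : ℕ := phi q n / Nat.gcd (phi q n) n

lemma phi_dvd_pow_sub_one {q n : ℕ} (hq : 1 ≤ q) (hn : 2 ≤ n) : phi q n ∣ q ^ n - 1 := by
  have h1 : 1 ∈ n.properDivisors := by
    rw [Nat.mem_properDivisors]
    exact ⟨one_dvd n, by omega⟩
  exact (Dvd.intro_left _ rfl).trans (pow_sub_one_mul_phi_dvd hq h1)

/-- `gcd(Φ_n(q), n)` is `1` or a prime. -/
lemma gcd_phi_eq_one_or_prime {q n : ℕ} (hq : 2 ≤ q) (hn : 3 ≤ n) :
    Nat.gcd (phi q n) n = 1 ∨ (Nat.gcd (phi q n) n).Prime := by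
  by_cases h1 : Nat.gcd (phi q n) n = 1
  · exact Or.inl h1
  right
  obtain ⟨p, hp, hpg⟩ := Nat.exists_prime_and_dvd h1
  have hpphi : p ∣ phi q n := hpg.trans (Nat.gcd_dvd_left _ _)
  have hpn : p ∣ n := hpg.trans (Nat.gcd_dvd_right _ _)
  have hg0 : Nat.gcd (phi q n) n ≠ 0 := by
    intro h0
    have := Nat.eq_zero_of_gcd_eq_zero_right h0
    omega
  have huniq : ∀ {d : ℕ}, d.Prime → d ∣ Nat.gcd (phi q n) n → d = p := by
    intro d hd hdg
    exact prime_unique (by omega) hp hd hpn (hdg.trans (Nat.gcd_dvd_right _ _)) hpphi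
      (hdg.trans (Nat.gcd_dvd_left _ _))
  have hpow := Nat.eq_prime_pow_of_unique_prime_dvd hg0 huniq
  obtain ⟨k, hk⟩ : ∃ k, k = (Nat.gcd (phi q n) n).primeFactorsList.length := ⟨_, rfl⟩
  rw [← hk] at hpow
  have hk1 : k ≤ 1 := by
    by_contra hk2
    have h2 : p ^ 2 ∣ p ^ k := pow_dvd_pow p (by omega)
    rw [← hpow] at h2
    exact not_sq_dvd_phi hq hn hp hpn hpphi (h2.trans (Nat.gcd_dvd_left _ _))
  have hk0 : k ≠ 0 := by
    intro h0
    rw [h0, pow_zero] at hpow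
    exact h1 hpow
  have : k = 1 := by omega
  rw [hpow, this, pow_one]
  exact hp

lemma gcd_phi_le {q n : ℕ} (hq : 2 ≤ q) (hn : 3 ≤ n) :
    Nat.gcd (phi q n) n ≤ n.totient + 1 := by
  rcases gcd_phi_eq_one_or_prime hq hn with h | h
  · rw [h]; omega
  · have hdvd : Nat.gcd (phi q n) n ∣ n := Nat.gcd_dvd_right _ _
    have h1 := Nat.totient_dvd_of_dvd hdvd
    rw [Nat.totient_prime h] at h1
    have h2 : 0 < n.totient := Nat.totient_pos.mpr (by omega)
    have := Nat.le_of_dvd h2 h1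
    omega

lemma gcd_phi_pos {q n : ℕ} (hn : 3 ≤ n) : 0 < Nat.gcd (phi q n) n :=
  Nat.gcd_pos_of_pos_right _ (by omega)

lemma pp_mul_gcd (q n : ℕ) : pp q n * Nat.gcd (phi q n) n = phi q n :=
  Nat.div_mul_cancel (Nat.gcd_dvd_left _ _)

lemma pp_dvd_phi (q n : ℕ) : pp q n ∣ phi q n := Dvd.intro _ (pp_mul_gcd q n)

lemma pp_dvd_pow_sub_one {q n : ℕ} (hq : 1 ≤ q) (hn : 2 ≤ n) : pp q n ∣ q ^ n - 1 :=
  (pp_dvd_phi q n).trans (phi_dvd_pow_sub_one hq hn)

lemma pp_pos {q n : ℕ} (hq : 2 ≤ q) : 0 < pp q n := by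
  have h := pp_mul_gcd q n
  have hphi := phi_pos (n := n) hq
  rcases Nat.eq_zero_or_pos (pp q n) with h0 | h0
  · rw [h0, zero_mul] at h; omega
  · exact h0

/-- A prime divisor of the primitive part does not divide `n`. -/
lemma not_dvd_of_dvd_pp {q n r : ℕ} (hq : 2 ≤ q) (hn : 3 ≤ n) (hr : r.Prime) (h : r ∣ pp q n) :
    ¬ r ∣ n := by
  intro hrn
  have hrphi : r ∣ phi q n := h.trans (pp_dvd_phi q n)
  have hrg : r ∣ Nat.gcd (phi q n) n := Nat.dvd_gcd hrphi hrn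
  have : r ^ 2 ∣ phi q n := by
    rw [← pp_mul_gcd q n, pow_two]
    exact Nat.mul_dvd_mul h hrg
  exact not_sq_dvd_phi hq hn hr hrn hrphi this

/-- Prime divisors of the primitive part are primitive prime divisors. -/
lemma ppd_of_dvd_pp {q n r : ℕ} (hq : 2 ≤ q) (hn : 3 ≤ n) (hr : r.Prime) (h : r ∣ pp q n) :
    r ∣ q ^ n - 1 ∧ ∀ k, 0 < k → k < n → ¬ r ∣ q ^ k - 1 := by
  have hrn := not_dvd_of_dvd_pp hq hn hr h
  have hrphi : r ∣ phi q n := h.trans (pp_dvd_phi q n)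
  exact ppd_of_dvd_cyclotomic (by omega) hr hrn (natCast_dvd_eval_iff.mpr hrphi)

/-- The primitive part is coprime to `q ^ i - 1` for `0 < i < n`. -/
lemma pp_coprime {q n i : ℕ} (hq : 2 ≤ q) (hn : 3 ≤ n) (hi : 0 < i) (hin : i < n) :
    Nat.Coprime (pp q n) (q ^ i - 1) := by
  rw [Nat.coprime_iff_gcd_eq_one]
  by_contra hne
  obtain ⟨r, hr, hrg⟩ := Nat.exists_prime_and_dvd hne
  have h1 : r ∣ pp q n := hrg.trans (Nat.gcd_dvd_left _ _)
  have h2 : r ∣ q ^ i - 1 := hrg.trans (Nat.gcd_dvd_right _ _)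
  exact (ppd_of_dvd_pp hq hn hr h1).2 i hi hin h2

/-- A primitive prime divisor of `q ^ n - 1` is `≡ 1 mod n`. -/
lemma ppd_modEq {q n r : ℕ} (hq : 1 ≤ q) (hr : r.Prime) (h1 : r ∣ q ^ n - 1)
    (h2 : ∀ k, 0 < k → k < n → ¬ r ∣ q ^ k - 1) (hn : 0 < n) : n ∣ r - 1 := by
  have : Fact r.Prime := ⟨hr⟩
  have hpow : ((q : ZMod r)) ^ n = 1 := (dvd_pow_sub_one_iff hq).mp h1
  have hord : orderOf (q : ZMod r) = n := by
    apply le_antisymm
    · exact Nat.le_of_dvd hn (orderOf_dvd_of_pow_eq_one hpow)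
    · by_contra hlt
      push Not at hlt
      have hpos : 0 < orderOf (q : ZMod r) := by
        apply orderOf_pos_iff.mpr
        exact isOfFinOrder_iff_pow_eq_one.mpr ⟨n, hn, hpow⟩
      exact h2 _ hpos hlt ((dvd_pow_sub_one_iff hq).mpr (pow_orderOf_eq_one _))
  have hq0 : (q : ZMod r) ≠ 0 := by
    intro h0
    rw [h0, zero_pow hn.ne'] at hpow
    exact zero_ne_one hpow
  rw [← hord]
  exact orderOf_dvd_of_pow_eq_one (ZMod.pow_card_sub_one_eq_one hq0)

/-- The primitive part is large as soon as `q ^ φ(n)` is. -/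
lemma pp_gt_of_pow {q n : ℕ} (hq : 2 ≤ q) (hn : 3 ≤ n)
    (h : 12 * n * (n.totient + 1) < q ^ n.totient) : 3 * n < pp q n := by
  have h1 := pow_totient_le (n := n) hq (by omega)
  have h2 := gcd_phi_le hq hn
  have h3 := pp_mul_gcd q n
  have hg := gcd_phi_pos (q := q) hn
  by_contra hle
  push Not at hle
  have : phi q n ≤ 3 * n * (n.totient + 1) := by
    rw [← h3]
    exact Nat.mul_le_mul hle h2
  have hX : 12 * n * (n.totient + 1) = 4 * (3 * n * (n.totient + 1)) := by ring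
  rw [hX] at h
  omega

/-- Outside the exceptional degrees the primitive part exceeds `3 n`. -/
theorem pp_gt_of_not_mem {q n : ℕ} (hq : 2 ≤ q) (hn : 3 ≤ n) (hex : n ∉ excList) :
    3 * n < pp q n := by
  apply pp_gt_of_pow hq hn
  calc 12 * n * (n.totient + 1) < 2 ^ n.totient := two_pow_totient_gt n hn hex
    _ ≤ q ^ n.totient := Nat.pow_le_pow_left hq _

end Cfsg.Agent.Lib.Helper99_PrimPart
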