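import Mathlib
import Cfsg.Agent.Lib.Helper12_Hup1
import Cfsg.Agent.Lib.Helper99_Singer
import Cfsg.Agent.Lib.Helper99_PrimPart

set_option autoImplicit false
set_option linter.unusedSimpArgs false
set_option linter.unusedSectionVars false
set_option linter.style.haveILetI false

namespace Cfsg.Agent.Lib.Helper12_Hup2

open Module Cfsg.Agent.Lib.Helper12_Hup1

universe u

variable {p : ℕ} [Fact p.Prime] {V : Type u} [AddCommGroup V] [Module (ZMod p) V]
variable (H : Subgroup (V ≃ₗ[ZMod p] V))

/-- `x` acts irreducibly -/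
def Irr (x : H) : Prop := ∀ W : Submodule (ZMod p) V,
  (∀ w ∈ W, ((x : H) : V ≃ₗ[ZMod p] V) w ∈ W) → W = ⊥ ∨ W = ⊤

/-- an element whose order is a primitive prime divisor acts irreducibly -/
theorem irr_of_ppd [Finite V] {r : ℕ} (hr : r.Prime) (x : H) (hx : orderOf x = r)
    (hdvd : r ∣ p ^ finrank (ZMod p) V - 1)
    (hppd : ∀ k, 0 < k → k < finrank (ZMod p) V → ¬ r ∣ p ^ k - 1)
    (hn : 0 < finrank (ZMod p) V) : Irr H x := by
  have hp : p.Prime := Fact.out
  have : Fact r.Prime := ⟨hr⟩
  have hfin : Module.Finite (ZMod p) V := Module.Finite.of_finite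
  intro W hW
  by_cases hW0 : W = ⊥
  · exact Or.inl hW0
  right
  have hpow : ((p : ZMod r)) ^ finrank (ZMod p) V = 1 :=
    (Cfsg.Agent.Lib.Helper99_Zsigmondy.dvd_pow_sub_one_iff hp.one_lt.le).mp hdvd
  have hord : orderOf (p : ZMod r) = finrank (ZMod p) V := by
    apply le_antisymm
    · exact Nat.le_of_dvd hn (orderOf_dvd_of_pow_eq_one hpow)
    · by_contra hlt
      push Not at hlt
      have hpos : 0 < orderOf (p : ZMod r) := by
        apply orderOf_pos_iff.mpr
        exact isOfFinOrder_iff_pow_eq_one.mpr ⟨_, hn, hpow⟩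
      exact hppd _ hpos hlt
        ((Cfsg.Agent.Lib.Helper99_Zsigmondy.dvd_pow_sub_one_iff hp.one_lt.le).mpr
          (pow_orderOf_eq_one _))
  have hT : (toEnd H x) ^ r = 1 := by
    rw [← map_pow, ← hx, pow_orderOf_eq_one, map_one]
  have hT1 : toEnd H x ≠ 1 := by
    intro h1
    have : x = 1 := toEnd_injective H (by rw [h1, map_one])
    rw [this, orderOf_one] at hx
    exact hr.one_lt.ne hx
  exact Cfsg.Agent.Lib.Helper99_Singer.irreducible_of_ppd (toEnd H x) hr hT hT1
    (by rw [ZMod.card]; exact hord) W hW hW0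

/-- non-zero elements of the algebra generated by an irreducible element are injective -/
theorem adjoin_injective (x : H) (hx : Irr H x) (k : Module.End (ZMod p) V)
    (hk : k ∈ Algebra.adjoin (ZMod p) {toEnd H x}) (hk0 : k ≠ 0) : Function.Injective k := by
  have hcomm : Commute (toEnd H x) k := Algebra.commute_of_mem_adjoin_self hk
  rw [← LinearMap.ker_eq_bot]
  have hinv : ∀ w ∈ LinearMap.ker k, ((x : H) : V ≃ₗ[ZMod p] V) w ∈ LinearMap.ker k := by
    intro w hw
    rw [LinearMap.mem_ker] at hw ⊢
    rw [← toEnd_apply, ← Module.End.mul_apply, ← hcomm.eq, Module.End.mul_apply, hw, map_zero]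
  rcases hx _ hinv with h | h
  · exact h
  · exfalso
    apply hk0
    exact LinearMap.ker_eq_top.1 h

/-- an endomorphism commuting with an irreducible element lies in the algebra it generates -/
theorem mem_adjoin_of_commute [Nontrivial V] (x : H) (hx : Irr H x) (c : Module.End (ZMod p) V)
    (hc : c * toEnd H x = toEnd H x * c) : c ∈ Algebra.adjoin (ZMod p) {toEnd H x} := by
  obtain ⟨v₀, hv₀⟩ := exists_ne (0 : V)
  set K := Algebra.adjoin (ZMod p) {toEnd H x} with hK
  have hxK : toEnd H x ∈ K := Algebra.subset_adjoin (Set.mem_singleton _)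
  let ev : K →ₗ[ZMod p] V :=
    { toFun := fun k => (k : Module.End (ZMod p) V) v₀
      map_add' := fun a b => rfl
      map_smul' := fun r a => rfl }
  have hev_surj : Function.Surjective ev := by
    rw [← LinearMap.range_eq_top]
    have hinv : ∀ w ∈ LinearMap.range ev, ((x : H) : V ≃ₗ[ZMod p] V) w ∈ LinearMap.range ev := by
      rintro w ⟨k, rfl⟩
      exact ⟨⟨toEnd H x, hxK⟩ * k, rfl⟩
    rcases hx _ hinv with h | h
    · exfalso
      apply hv₀
      have h1 : ev 1 ∈ LinearMap.range ev := ⟨1, rfl⟩
      rw [h, Submodule.mem_bot] at h1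
      exact h1
    · exact h
  obtain ⟨k₀, hk₀⟩ := hev_surj (c v₀)
  have hcK : ∀ k ∈ K, c * k = k * c := by
    intro k hk
    have h1 : Commute c (toEnd H x) := hc
    exact (Algebra.commute_of_mem_adjoin_singleton_of_commute hk h1).eq
  have hmc : ∀ a ∈ K, ∀ b ∈ K, a * b = b * a := by
    intro a ha b hb
    have h1 : Commute (toEnd H x) a := Algebra.commute_of_mem_adjoin_self ha
    exact (Algebra.commute_of_mem_adjoin_singleton_of_commute hb h1.symm).eq
  have : c = (k₀ : Module.End (ZMod p) V) := by
    ext v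
    obtain ⟨k, rfl⟩ := hev_surj v
    show c ((k : Module.End (ZMod p) V) v₀) = (k₀ : Module.End (ZMod p) V) ((k : Module.End (ZMod p) V) v₀)
    rw [← Module.End.mul_apply, hcK k k.2, Module.End.mul_apply, ← Module.End.mul_apply (k₀ : Module.End (ZMod p) V),
      hmc _ k₀.2 _ k.2, Module.End.mul_apply]
    congr 1
    exact hk₀.symm
  rw [this]
  exact k₀.2

/-- elements of the group commuting with an irreducible element commute with each other -/
theorem comm_of_commute_irr [Nontrivial V] (x : H) (hx : Irr H x) (a b : H)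
    (ha : a * x = x * a) (hb : b * x = x * b) : a * b = b * a := by
  have h1 := mem_adjoin_of_commute H x hx (toEnd H a) (by rw [← map_mul, ha, map_mul])
  have h2 := mem_adjoin_of_commute H x hx (toEnd H b) (by rw [← map_mul, hb, map_mul])
  have h3 : Commute (toEnd H x) (toEnd H a) := Algebra.commute_of_mem_adjoin_self h1
  have h4 := (Algebra.commute_of_mem_adjoin_singleton_of_commute h2 h3.symm).eq
  apply toEnd_injective H
  rw [map_mul, map_mul, h4]

open scoped IsMulCommutative in
/-- a subgroup centralising an irreducible element is cyclic -/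
theorem isCyclic_of_commute_irr [Finite V] [Nontrivial V] (x : H) (hx : Irr H x) (B : Subgroup H)
    (hB : ∀ b ∈ B, b * x = x * b) : IsCyclic B := by
  have hfinL : Finite (V ≃ₗ[ZMod p] V) := Cfsg.Agent.Lib.Helper12_SolvReg.finite_equiv
  letI : CommRing (Algebra.adjoin (ZMod p) {toEnd H x}) := inferInstance
  have hnt : Nontrivial (Algebra.adjoin (ZMod p) {toEnd H x}) := by
    refine ⟨⟨1, 0, ?_⟩⟩
    intro h
    have h1 : (1 : Module.End (ZMod p) V) = 0 := congrArg Subtype.val h
    obtain ⟨v, hv⟩ := exists_ne (0 : V)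
    apply hv
    have := congrArg (fun f : Module.End (ZMod p) V => f v) h1
    simpa using this
  have hnzd : NoZeroDivisors (Algebra.adjoin (ZMod p) {toEnd H x}) := by
    refine ⟨fun {a b} hab => ?_⟩
    by_contra hcon
    push Not at hcon
    obtain ⟨ha, hb⟩ := hcon
    apply hb
    apply Subtype.ext
    ext v
    have ha' : (a : Module.End (ZMod p) V) ≠ 0 := fun h => ha (Subtype.ext h)
    apply adjoin_injective H x hx _ a.2 ha'
    have h1 : (a : Module.End (ZMod p) V) * (b : Module.End (ZMod p) V) = 0 :=
      congrArg Subtype.val hab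
    have := congrArg (fun f : Module.End (ZMod p) V => f v) h1
    simpa using this
  have hdom : IsDomain (Algebra.adjoin (ZMod p) {toEnd H x}) := NoZeroDivisors.to_isDomain _
  let f : B →* Algebra.adjoin (ZMod p) {toEnd H x} :=
    { toFun := fun b => ⟨toEnd H (b : H), mem_adjoin_of_commute H x hx _
        (by rw [← map_mul, hB b b.2, map_mul])⟩
      map_one' := Subtype.ext (map_one (toEnd H))
      map_mul' := fun a b => Subtype.ext (map_mul (toEnd H) (a : H) (b : H)) }
  have hf : Function.Injective f := by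
    intro a b hab
    have h1 : toEnd H (a : H) = toEnd H (b : H) := congrArg Subtype.val hab
    exact Subtype.ext (toEnd_injective H h1)
  exact isCyclic_of_injective_ringHom f hf

end Cfsg.Agent.Lib.Helper12_Hup2
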