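/-
Helper48_ExtraRep: an extraspecial group of order p^(2w+1) acting faithfully on an elementary abelian
r-group (r ≠ p) needs order at least r^(n p^w).  Elementary proof (norm maps and induction on w).
-/
import Mathlib

set_option autoImplicit false

namespace Cfsg.Agent.Lib.Helper48_ExtraRep

open scoped BigOperators
open scoped commutatorElement

/-! ### Part 1: commuting automorphisms of a finite commutative group -/

section Abstract

variable {A : Type*} [CommGroup A]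

/-- fixed point subgroup of an automorphism -/
def fixSub (σ : MulAut A) : Subgroup A where
  carrier := {a | σ a = a}
  mul_mem' := by
    intro a b ha hb
    show σ (a * b) = a * b
    have ha' : σ a = a := ha
    have hb' : σ b = b := hb
    rw [map_mul, ha', hb']
  one_mem' := map_one σ
  inv_mem' := by
    intro a ha
    show σ a⁻¹ = a⁻¹
    have ha' : σ a = a := ha
    rw [map_inv, ha']

theorem mem_fixSub {σ : MulAut A} {a : A} : a ∈ fixSub σ ↔ σ a = a := Iff.rfl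

theorem card_fixSub_conj (η σ : MulAut A) :
    Nat.card (fixSub (η * σ * η⁻¹)) = Nat.card (fixSub σ) := by
  apply Nat.card_congr
  refine ⟨fun a => ⟨η⁻¹ a.1, ?_⟩, fun a => ⟨η a.1, ?_⟩, ?_, ?_⟩
  · have h := a.2
    rw [mem_fixSub] at h ⊢
    have h2 : η (σ (η⁻¹ a.1)) = a.1 := h
    have h3 : η⁻¹ (η (σ (η⁻¹ a.1))) = η⁻¹ a.1 := by rw [h2]
    rwa [MulAut.inv_apply_self] at h3
  · have h := a.2
    rw [mem_fixSub] at h ⊢
    show η (σ (η⁻¹ (η a.1))) = η a.1
    rw [MulAut.inv_apply_self, h]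
  · intro a
    apply Subtype.ext
    show η (η⁻¹ a.1) = a.1
    exact MulAut.apply_inv_self _ _ _
  · intro a
    apply Subtype.ext
    show η⁻¹ (η a.1) = a.1
    exact MulAut.inv_apply_self _ _ _

theorem pow_fixed {σ : MulAut A} {a : A} (h : σ a = a) (k : ℕ) : (σ ^ k) a = a := by
  induction k with
  | zero => rfl
  | succ k ih => rw [pow_succ, MulAut.mul_apply, h, ih]

/-- if `ζ^p = 1`, `ζ^d` fixes `a` with `d` prime to `p`, then `ζ` fixes `a`. -/
theorem fixed_of_pow_fixed {p : ℕ} (hp : p.Prime) (ζ : MulAut A) (hζ : ζ ^ p = 1) (a : A) (d : ℕ)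
    (hd : ¬ p ∣ d) (h : (ζ ^ d) a = a) : ζ a = a := by
  have hcop : Nat.Coprime d p := ((Nat.Prime.coprime_iff_not_dvd hp).mpr hd).symm
  obtain ⟨e, -, he⟩ := Nat.exists_mul_mod_eq_one_of_coprime hcop hp.one_lt
  have h1 : ζ ^ (d * e) = ζ := by
    rw [pow_eq_pow_mod (d * e) hζ, he, pow_one]
  have h2 : (ζ ^ (d * e)) a = a := by
    rw [pow_mul]
    exact pow_fixed h e
  rwa [h1] at h2

/-- the norm map of an automorphism -/
def nrm (p : ℕ) (σ : MulAut A) : A →* A := ∏ k ∈ Finset.range p, (σ ^ k).toMonoidHom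

theorem nrm_apply (p : ℕ) (σ : MulAut A) (a : A) :
    nrm p σ a = ∏ k ∈ Finset.range p, (σ ^ k) a := by
  unfold nrm
  rw [MonoidHom.finsetProd_apply]
  rfl

theorem nrm_fixed {p : ℕ} (σ : MulAut A) (hσ : σ ^ p = 1) (a : A) : σ (nrm p σ a) = nrm p σ a := by
  rw [nrm_apply, map_prod]
  have h1 : ∀ k, σ ((σ ^ k) a) = (σ ^ (k + 1)) a := by
    intro k
    rw [pow_succ', MulAut.mul_apply]
  simp only [h1]
  have h2 := Finset.prod_range_succ (fun k => (σ ^ k) a) p
  have h3 := Finset.prod_range_succ' (fun k => (σ ^ k) a) p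
  rw [h2] at h3
  simp only [hσ, pow_zero, MulAut.one_apply] at h3
  exact (mul_right_cancel h3).symm

theorem nrm_of_fixed {p : ℕ} {σ : MulAut A} {a : A} (h : σ a = a) : nrm p σ a = a ^ p := by
  rw [nrm_apply]
  have : ∀ k ∈ Finset.range p, (σ ^ k) a = a := fun k _ => pow_fixed h k
  rw [Finset.prod_congr rfl this, Finset.prod_const, Finset.card_range]

theorem nrm_one (p : ℕ) (a : A) : nrm p (1 : MulAut A) a = a ^ p :=
  nrm_of_fixed (σ := (1 : MulAut A)) rfl

theorem eq_one_of_pow_eq_one [Finite A] {p : ℕ} (hcop : (Nat.card A).Coprime p) {a : A}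
    (h : a ^ p = 1) : a = 1 := by
  have h1 : orderOf a ∣ p := orderOf_dvd_of_pow_eq_one h
  have h2 : orderOf a ∣ Nat.card A := orderOf_dvd_natCard a
  have h3 : orderOf a ∣ Nat.gcd (Nat.card A) p := Nat.dvd_gcd h2 h1
  rw [hcop] at h3
  exact orderOf_eq_one_iff.mp (Nat.dvd_one.mp h3)

variable {p : ℕ} (ξ ζ : MulAut A)

/-- the automorphisms `ξ ζ^i` -/
def gi (i : ℕ) : MulAut A := ξ * ζ ^ i

theorem gi_pow (hc : Commute ξ ζ) (i k : ℕ) : (gi ξ ζ i) ^ k = ξ ^ k * (ζ ^ k) ^ i := by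
  unfold gi
  rw [(hc.pow_right i).mul_pow, ← pow_mul, ← pow_mul, mul_comm i k]

theorem gi_pow_p (hc : Commute ξ ζ) (hξ : ξ ^ p = 1) (hζ : ζ ^ p = 1) (i : ℕ) : (gi ξ ζ i) ^ p = 1 := by
  rw [gi_pow ξ ζ hc, hξ, hζ, one_pow, one_mul]

/-- if two of the `ξ ζ^i` (`i < j < p`) fix a point then so does `ζ`. -/
theorem zeta_fixed_of_two (hp : p.Prime) (hζ : ζ ^ p = 1) {i j : ℕ} (hij : i < j) (hj : j < p)
    {c : A} (hi : gi ξ ζ i c = c) (hjc : gi ξ ζ j c = c) : ζ c = c := by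
  have h1 : gi ξ ζ j = gi ξ ζ i * ζ ^ (j - i) := by
    unfold gi
    rw [mul_assoc, ← pow_add, Nat.add_sub_cancel' hij.le]
  have h2 : (ζ ^ (j - i)) c = c := by
    have h3 : gi ξ ζ i ((ζ ^ (j - i)) c) = c := by
      rw [h1, MulAut.mul_apply] at hjc
      exact hjc
    have h4 : gi ξ ζ i ((ζ ^ (j - i)) c) = gi ξ ζ i c := by rw [h3, hi]
    exact (gi ξ ζ i).injective h4
  apply fixed_of_pow_fixed hp ζ hζ c (j - i) _ h2
  intro hdvd
  have := Nat.le_of_dvd (by omega) hdvd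
  omega

theorem zeta_fixed_of_ne (hp : p.Prime) (hζ : ζ ^ p = 1) {i j : ℕ} (hij : i ≠ j) (hi' : i < p)
    (hj : j < p) {c : A} (hi : gi ξ ζ i c = c) (hjc : gi ξ ζ j c = c) : ζ c = c := by
  rcases lt_or_gt_of_ne hij with h | h
  · exact zeta_fixed_of_two ξ ζ hp hζ h hj hi hjc
  · exact zeta_fixed_of_two ξ ζ hp hζ h hi' hjc hi

/-- the norm for `ξ ζ^j` kills the fixed points of `ξ ζ^i`, `i ≠ j`. -/
theorem nrm_gi_eq_one (hp : p.Prime) (hc : Commute ξ ζ) (hξ : ξ ^ p = 1) (hζ : ζ ^ p = 1)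
    (hfix : ∀ a, ζ a = a → a = 1) {i j : ℕ} (hij : i ≠ j) (hi' : i < p)
    (hj : j < p) {c : A} (hi : gi ξ ζ i c = c) : nrm p (gi ξ ζ j) c = 1 := by
  apply hfix
  have hcomm : Commute (gi ξ ζ i) (gi ξ ζ j) := by
    unfold gi
    exact ((Commute.refl ξ).mul_right (hc.pow_right j)).mul_left
      (((hc.pow_right i).symm).mul_right ((Commute.refl ζ).pow_pow i j))
  apply zeta_fixed_of_ne ξ ζ hp hζ hij hi' hj
  · -- fixed by g_i
    rw [nrm_apply, map_prod]
    apply Finset.prod_congr rfl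
    intro k _
    have : gi ξ ζ i * (gi ξ ζ j) ^ k = (gi ξ ζ j) ^ k * gi ξ ζ i := (hcomm.pow_right k).eq
    calc gi ξ ζ i (((gi ξ ζ j) ^ k) c) = (gi ξ ζ i * (gi ξ ζ j) ^ k) c := rfl
      _ = ((gi ξ ζ j) ^ k * gi ξ ζ i) c := by rw [this]
      _ = ((gi ξ ζ j) ^ k) (gi ξ ζ i c) := rfl
      _ = ((gi ξ ζ j) ^ k) c := by rw [hi]
  · exact nrm_fixed _ (gi_pow_p ξ ζ hc hξ hζ j) c

theorem indep [Finite A] (hp : p.Prime) (hcop : (Nat.card A).Coprime p) (hc : Commute ξ ζ)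
    (hξ : ξ ^ p = 1) (hζ : ζ ^ p = 1) (hfix : ∀ a, ζ a = a → a = 1) :
    iSupIndep (fun i : Fin p => fixSub (gi ξ ζ (i : ℕ))) := by
  rw [iSupIndep_def]
  intro j
  rw [disjoint_iff]
  have hle : (⨆ i, ⨆ (_ : i ≠ j), fixSub (gi ξ ζ (i : ℕ))) ≤ (nrm p (gi ξ ζ (j : ℕ))).ker := by
    apply iSup_le
    intro i
    apply iSup_le
    intro hij c hc'
    rw [MonoidHom.mem_ker]
    exact nrm_gi_eq_one ξ ζ hp hc hξ hζ hfix (fun h => hij (Fin.ext h)) i.2 j.2 hc'
  rw [eq_bot_iff]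
  rintro c ⟨h1, h2⟩
  have h3 := hle h2
  rw [MonoidHom.mem_ker, nrm_of_fixed h1] at h3
  rw [Subgroup.mem_bot]
  exact eq_one_of_pow_eq_one hcop h3

theorem prod_card_le [Finite A] (hp : p.Prime) (hcop : (Nat.card A).Coprime p) (hc : Commute ξ ζ)
    (hξ : ξ ^ p = 1) (hζ : ζ ^ p = 1) (hfix : ∀ a, ζ a = a → a = 1) :
    ∏ i : Fin p, Nat.card (fixSub (gi ξ ζ (i : ℕ))) ≤ Nat.card A := by
  have hcomm : Pairwise fun i j : Fin p => ∀ x y : A, x ∈ fixSub (gi ξ ζ (i : ℕ)) →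
      y ∈ fixSub (gi ξ ζ (j : ℕ)) → Commute x y := fun _ _ _ x y _ _ => Commute.all x y
  have hinj := Subgroup.injective_noncommPiCoprod_of_iSupIndep (hcomm := hcomm)
    (indep ξ ζ hp hcop hc hξ hζ hfix)
  rw [← Nat.card_pi]
  exact Nat.card_le_card_of_injective _ hinj

theorem prod_nrm (hp : p.Prime) (hc : Commute ξ ζ) (hζ : ζ ^ p = 1)
    (hfix : ∀ a, ζ a = a → a = 1) (a : A) :
    ∏ i ∈ Finset.range p, nrm p (gi ξ ζ i) a = a ^ p := by
  have h1 : ∀ i ∈ Finset.range p, nrm p (gi ξ ζ i) a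
      = ∏ k ∈ Finset.range p, (ξ ^ k) (((ζ ^ k) ^ i) a) := by
    intro i _
    rw [nrm_apply]
    apply Finset.prod_congr rfl
    intro k _
    rw [gi_pow ξ ζ hc]
    rfl
  rw [Finset.prod_congr rfl h1, Finset.prod_comm]
  have h2 : ∀ k ∈ Finset.range p, ∏ i ∈ Finset.range p, (ξ ^ k) (((ζ ^ k) ^ i) a)
      = (ξ ^ k) (nrm p (ζ ^ k) a) := by
    intro k _
    rw [nrm_apply, map_prod]
  rw [Finset.prod_congr rfl h2]
  rw [Finset.prod_eq_single 0]
  · rw [pow_zero, pow_zero, nrm_one]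
    rfl
  · intro k hk hk0
    have hkp : k < p := Finset.mem_range.mp hk
    have h3 : nrm p (ζ ^ k) a = 1 := by
      apply hfix
      apply fixed_of_pow_fixed hp ζ hζ _ k
      · intro hdvd
        have := Nat.le_of_dvd (Nat.pos_of_ne_zero hk0) hdvd
        omega
      · apply nrm_fixed
        rw [← pow_mul, mul_comm, pow_mul, hζ, one_pow]
    rw [h3, map_one]
  · intro h0
    exact absurd (Finset.mem_range.mpr hp.pos) h0

theorem exists_fixSub_ne_bot [Finite A] [Nontrivial A] (hp : p.Prime)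
    (hcop : (Nat.card A).Coprime p) (hc : Commute ξ ζ)
    (hξ : ξ ^ p = 1) (hζ : ζ ^ p = 1) (hfix : ∀ a, ζ a = a → a = 1) :
    ∃ i < p, fixSub (gi ξ ζ i) ≠ ⊥ := by
  by_contra hcon
  have hall : ∀ i < p, fixSub (gi ξ ζ i) = ⊥ := by
    intro i hi
    by_contra h
    exact hcon ⟨i, hi, h⟩
  obtain ⟨a, ha⟩ := exists_ne (1 : A)
  apply ha
  apply eq_one_of_pow_eq_one hcop
  rw [← prod_nrm ξ ζ hp hc hζ hfix a]
  apply Finset.prod_eq_one
  intro i hi
  have hi' : i < p := Finset.mem_range.mp hi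
  have hmem : nrm p (gi ξ ζ i) a ∈ fixSub (gi ξ ζ i) :=
    nrm_fixed _ (gi_pow_p ξ ζ hc hξ hζ i) a
  rw [hall i hi', Subgroup.mem_bot] at hmem
  exact hmem

/-- Main abstract statement: with `η` conjugating `ξ` to `ξ ζ` and centralising `ζ`. -/
theorem main_abstract [Finite A] (hp : p.Prime) (hcop : (Nat.card A).Coprime p) (η : MulAut A)
    (hc : Commute ξ ζ) (hξ : ξ ^ p = 1) (hζ : ζ ^ p = 1) (hfix : ∀ a, ζ a = a → a = 1)
    (hη1 : η * ξ * η⁻¹ = ξ * ζ) (hη2 : Commute η ζ) :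
    (Nat.card (fixSub ξ)) ^ p ≤ Nat.card A ∧ (Nontrivial A → fixSub ξ ≠ ⊥) := by
  have hstep : ∀ i : ℕ, η * gi ξ ζ i * η⁻¹ = gi ξ ζ (i + 1) := by
    intro i
    unfold gi
    have h1 : η * (ξ * ζ ^ i) * η⁻¹ = (η * ξ * η⁻¹) * (η * ζ ^ i * η⁻¹) := by group
    have h2 : η * ζ ^ i * η⁻¹ = ζ ^ i := by
      have := (hη2.pow_right i).eq
      rw [this, mul_inv_cancel_right]
    rw [h1, h2, hη1, mul_assoc, ← pow_succ']
  have hcard : ∀ i : ℕ, Nat.card (fixSub (gi ξ ζ i)) = Nat.card (fixSub ξ) := by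
    intro i
    induction i with
    | zero =>
      unfold gi
      rw [pow_zero, mul_one]
    | succ i ih => rw [← hstep i, card_fixSub_conj, ih]
  constructor
  · have h1 := prod_card_le ξ ζ hp hcop hc hξ hζ hfix
    have h2 : ∏ i : Fin p, Nat.card (fixSub (gi ξ ζ (i : ℕ))) = (Nat.card (fixSub ξ)) ^ p := by
      simp only [hcard]
      rw [Finset.prod_const, Finset.card_univ, Fintype.card_fin]
    rwa [h2] at h1
  · intro hnt
    obtain ⟨i, _, hi⟩ := exists_fixSub_ne_bot ξ ζ hp hcop hc hξ hζ hfix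
    intro hbot
    apply hi
    have h3 := hcard i
    rw [hbot] at h3
    have h4 : Nat.card (fixSub (gi ξ ζ i)) = 1 := by
      rw [h3]
      exact Subgroup.card_bot
    exact Subgroup.card_eq_one.mp h4 |> fun h => h

end Abstract

/-! ### Part 2: conjugation automorphisms -/

section Conj

variable {G : Type*} [Group G]

/-- conjugation by an element normalising `B`, as an automorphism of `B`. -/
def cjAut (B : Subgroup G) : ↥(Subgroup.normalizer (B : Set G)) →* MulAut ↥B where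
  toFun g :=
    { toFun := fun a => ⟨g.1 * a.1 * g.1⁻¹, (Subgroup.mem_normalizer_iff.mp g.2 a.1).mp a.2⟩
      invFun := fun a => ⟨g.1⁻¹ * a.1 * g.1, by
          apply (Subgroup.mem_normalizer_iff.mp g.2 (g.1⁻¹ * a.1 * g.1)).mpr
          have : g.1 * (g.1⁻¹ * a.1 * g.1) * g.1⁻¹ = a.1 := by group
          rw [this]
          exact a.2⟩
      left_inv := by
        intro a
        apply Subtype.ext
        show g.1⁻¹ * (g.1 * a.1 * g.1⁻¹) * g.1 = a.1
        group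
      right_inv := by
        intro a
        apply Subtype.ext
        show g.1 * (g.1⁻¹ * a.1 * g.1) * g.1⁻¹ = a.1
        group
      map_mul' := by
        intro a b
        apply Subtype.ext
        show g.1 * (a.1 * b.1) * g.1⁻¹ = (g.1 * a.1 * g.1⁻¹) * (g.1 * b.1 * g.1⁻¹)
        group }
  map_one' := by
    ext a
    show (1 : G) * a.1 * (1 : G)⁻¹ = a.1
    group
  map_mul' := by
    intro g h
    ext a
    show (g.1 * h.1) * a.1 * (g.1 * h.1)⁻¹ = g.1 * (h.1 * a.1 * h.1⁻¹) * g.1⁻¹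
    group

theorem cjAut_apply (B : Subgroup G) (g : ↥(Subgroup.normalizer (B : Set G))) (a : ↥B) :
    ((cjAut B g) a : G) = g.1 * a.1 * g.1⁻¹ := rfl

theorem cjAut_fixed_iff (B : Subgroup G) (g : ↥(Subgroup.normalizer (B : Set G))) (a : ↥B) :
    (cjAut B g) a = a ↔ g.1 * a.1 = a.1 * g.1 := by
  rw [Subtype.ext_iff, cjAut_apply]
  constructor
  · intro h
    calc g.1 * a.1 = g.1 * a.1 * g.1⁻¹ * g.1 := by group
      _ = a.1 * g.1 := by rw [h]
  · intro h
    rw [h]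
    group

/-- the fixed points of conjugation by `g` on `B` are `B ⊓ C(g)`. -/
theorem card_fixed_cjAut (B : Subgroup G) (g : ↥(Subgroup.normalizer (B : Set G))) :
    Nat.card {a : ↥B // (cjAut B g) a = a}
      = Nat.card ↥(B ⊓ Subgroup.centralizer ({g.1} : Set G)) := by
  apply Nat.card_congr
  refine ⟨fun a => ⟨a.1.1, Subgroup.mem_inf.mpr ⟨a.1.2, ?_⟩⟩,
    fun a => ⟨⟨a.1, (Subgroup.mem_inf.mp a.2).1⟩, ?_⟩, ?_, ?_⟩
  · rw [Subgroup.mem_centralizer_iff]
    intro h hh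
    rw [Set.mem_singleton_iff] at hh
    rw [hh]
    exact (cjAut_fixed_iff B g a.1).mp a.2
  · rw [cjAut_fixed_iff]
    have := (Subgroup.mem_inf.mp a.2).2
    rw [Subgroup.mem_centralizer_iff] at this
    exact this g.1 rfl
  · intro a
    rfl
  · intro a
    rfl

end Conj

/-! ### Part 3: extraspecial-like subgroups -/

section ES

variable {G : Type*} [Group G]

/-- `E` is (like) an extraspecial group of order `p^(2w+1)` with centre `Z` (for `w = 0`: `E = Z`). -/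
structure ESLike (p : ℕ) (E Z : Subgroup G) (w : ℕ) : Prop where
  Z_le : Z ≤ E
  cardZ : Nat.card Z = p
  cardE : Nat.card E = p ^ (2 * w + 1)
  central : ∀ u ∈ Z, ∀ e ∈ E, u * e = e * u
  center_le : ∀ g ∈ E, (∀ e ∈ E, g * e = e * g) → g ∈ Z
  comm_mem : ∀ a ∈ E, ∀ b ∈ E, ⁅a, b⁆ ∈ Z
  pow_mem : ∀ a ∈ E, a ^ p ∈ Z

/-- the commutator homomorphism `e ↦ [e, x]` from `H` to `Z`. -/
def commHomSub (H Z : Subgroup G) (x : G) (hZH : Z ≤ H) (h1 : ∀ e ∈ H, ⁅e, x⁆ ∈ Z)
    (h2 : ∀ u ∈ Z, ∀ e ∈ H, u * e = e * u) : ↥H →* ↥Z where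
  toFun e := ⟨⁅e.1, x⁆, h1 e.1 e.2⟩
  map_one' := by
    apply Subtype.ext
    show ⁅(1 : G), x⁆ = 1
    exact commutatorElement_one_left x
  map_mul' := by
    intro a b
    apply Subtype.ext
    show ⁅a.1 * b.1, x⁆ = ⁅a.1, x⁆ * ⁅b.1, x⁆
    have hb := h1 b.1 b.2
    have hcomm1 : ⁅b.1, x⁆ * a.1 = a.1 * ⁅b.1, x⁆ := h2 _ hb a.1 a.2
    have hcomm2 : ⁅b.1, x⁆ * ⁅a.1, x⁆ = ⁅a.1, x⁆ * ⁅b.1, x⁆ := h2 _ hb _ (hZH (h1 a.1 a.2))
    rw [← hcomm2]
    have : ⁅a.1 * b.1, x⁆ = (a.1 * ⁅b.1, x⁆) * (x * a.1⁻¹ * x⁻¹) := by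
      simp only [commutatorElement_def]
      group
    rw [this, ← hcomm1]
    simp only [commutatorElement_def]
    group

theorem commHomSub_apply (H Z : Subgroup G) (x : G) (hZH : Z ≤ H) (h1 : ∀ e ∈ H, ⁅e, x⁆ ∈ Z)
    (h2 : ∀ u ∈ Z, ∀ e ∈ H, u * e = e * u) (e : ↥H) :
    ((commHomSub H Z x hZH h1 h2 e : ↥Z) : G) = ⁅e.1, x⁆ := rfl

/-- a nontrivial hom onto a group of prime order `p` has kernel of index `p`. -/
theorem card_eq_mul_card_ker {H Z : Type*} [Group H] [Group Z] [Finite H] {p : ℕ} [hp : Fact p.Prime]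
    (f : H →* Z) (hZ : Nat.card Z = p) (hf : ∃ e, f e ≠ 1) : Nat.card H = p * Nat.card f.ker := by
  have hr : f.range = ⊤ := by
    have : Fact (Nat.card Z).Prime := by rw [hZ]; exact hp
    rcases Subgroup.eq_bot_or_eq_top_of_prime_card f.range with h | h
    · exfalso
      obtain ⟨e, he⟩ := hf
      apply he
      have : f e ∈ f.range := ⟨e, rfl⟩
      rw [h, Subgroup.mem_bot] at this
      exact this
    · exact h
  have h1 := Subgroup.card_mul_index f.ker
  rw [Subgroup.index_ker, hr, Subgroup.card_top, hZ] at h1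
  rw [← h1, mul_comm]

/-- `|H| = p |H ⊓ C(x)|` when some element of `H` does not commute with `x`. -/
theorem card_eq_mul_card_centralizer [Finite G] {p : ℕ} [Fact p.Prime] (H Z : Subgroup G) (x : G)
    (hZ : Nat.card Z = p) (hZH : Z ≤ H) (h1 : ∀ e ∈ H, ⁅e, x⁆ ∈ Z)
    (h2 : ∀ u ∈ Z, ∀ e ∈ H, u * e = e * u) (hne : ∃ e ∈ H, ⁅e, x⁆ ≠ 1) :
    Nat.card H = p * Nat.card ↥(H ⊓ Subgroup.centralizer ({x} : Set G)) := by
  have h3 := card_eq_mul_card_ker (commHomSub H Z x hZH h1 h2) hZ (by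
    obtain ⟨e, he, hne⟩ := hne
    refine ⟨⟨e, he⟩, ?_⟩
    intro h
    apply hne
    have := congrArg Subtype.val h
    exact this)
  rw [h3]
  congr 1
  apply Nat.card_congr
  refine ⟨fun a => ⟨a.1.1, Subgroup.mem_inf.mpr ⟨a.1.2, ?_⟩⟩,
    fun a => ⟨⟨a.1, (Subgroup.mem_inf.mp a.2).1⟩, ?_⟩, ?_, ?_⟩
  · have := a.2
    rw [MonoidHom.mem_ker, Subtype.ext_iff, commHomSub_apply] at this
    rw [Subgroup.mem_centralizer_iff]
    intro h hh
    rw [Set.mem_singleton_iff] at hh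
    rw [hh]
    exact (commutatorElement_eq_one_iff_mul_comm.mp this).symm
  · rw [MonoidHom.mem_ker, Subtype.ext_iff, commHomSub_apply]
    have := (Subgroup.mem_inf.mp a.2).2
    rw [Subgroup.mem_centralizer_iff] at this
    exact commutatorElement_eq_one_iff_mul_comm.mpr (this x rfl).symm
  · intro a
    rfl
  · intro a
    rfl

theorem mem_centralizer_singleton {g x : G} :
    g ∈ Subgroup.centralizer ({x} : Set G) ↔ x * g = g * x := by
  rw [Subgroup.mem_centralizer_iff]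
  constructor
  · intro h
    exact h x rfl
  · intro h y hy
    rw [Set.mem_singleton_iff] at hy
    rw [hy]
    exact h

/-- the centraliser of a non-commuting pair is again extraspecial-like. -/
theorem ESLike.sub [Finite G] {p : ℕ} [hp : Fact p.Prime] {E Z : Subgroup G} {w : ℕ}
    (hE : ESLike p E Z (w + 1)) {x y : G} (hx : x ∈ E) (hy : y ∈ E) (hxy : ⁅y, x⁆ ≠ 1) :
    ESLike p (E ⊓ Subgroup.centralizer ({x} : Set G) ⊓ Subgroup.centralizer ({y} : Set G)) Z w := by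
  have hZx : Z ≤ E ⊓ Subgroup.centralizer ({x} : Set G) := by
    intro u hu
    refine Subgroup.mem_inf.mpr ⟨hE.Z_le hu, ?_⟩
    rw [mem_centralizer_singleton]
    exact (hE.central u hu x hx).symm
  have hxy' : ⁅x, y⁆ ≠ 1 := by
    intro h
    apply hxy
    rw [← commutatorElement_inv, h, inv_one]
  -- the two commutator homs on `E`
  have h1x : ∀ e ∈ E, ⁅e, x⁆ ∈ Z := fun e he => hE.comm_mem e he x hx
  have h1y : ∀ e ∈ E, ⁅e, y⁆ ∈ Z := fun e he => hE.comm_mem e he y hy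
  refine ⟨?_, hE.cardZ, ?_, ?_, ?_, ?_, ?_⟩
  · intro u hu
    refine Subgroup.mem_inf.mpr ⟨hZx hu, ?_⟩
    rw [mem_centralizer_singleton]
    exact (hE.central u hu y hy).symm
  · have c1 := card_eq_mul_card_centralizer E Z x hE.cardZ hE.Z_le h1x hE.central ⟨y, hy, hxy⟩
    have c2 := card_eq_mul_card_centralizer (E ⊓ Subgroup.centralizer ({x} : Set G)) Z y hE.cardZ hZx
      (fun e he => h1y e (Subgroup.mem_inf.mp he).1)
      (fun u hu e he => hE.central u hu e (Subgroup.mem_inf.mp he).1)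
      ⟨x, Subgroup.mem_inf.mpr ⟨hx, mem_centralizer_singleton.mpr rfl⟩, hxy'⟩
    rw [c2, hE.cardE] at c1
    have hp0 : 0 < p := hp.out.pos
    have : p ^ (2 * (w + 1) + 1) = p * (p * p ^ (2 * w + 1)) := by ring
    rw [this] at c1
    have c3 := Nat.eq_of_mul_eq_mul_left hp0 c1
    exact (Nat.eq_of_mul_eq_mul_left hp0 c3).symm
  · intro u hu e he
    exact hE.central u hu e (Subgroup.mem_inf.mp (Subgroup.mem_inf.mp he).1).1
  · intro g hg hgc
    have hgE : g ∈ E := (Subgroup.mem_inf.mp (Subgroup.mem_inf.mp hg).1).1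
    have hgx : x * g = g * x := mem_centralizer_singleton.mp (Subgroup.mem_inf.mp (Subgroup.mem_inf.mp hg).1).2
    have hgy : y * g = g * y := mem_centralizer_singleton.mp (Subgroup.mem_inf.mp hg).2
    apply hE.center_le g hgE
    intro e he
    let φx := commHomSub E Z x hE.Z_le h1x hE.central
    let φy := commHomSub E Z y hE.Z_le h1y hE.central
    have hφxy : φx ⟨y, hy⟩ ≠ 1 := by
      intro h
      apply hxy
      exact congrArg Subtype.val h
    have hφyx : φy ⟨x, hx⟩ ≠ 1 := by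
      intro h
      apply hxy'
      exact congrArg Subtype.val h
    have hφxx : φx ⟨x, hx⟩ = 1 := by
      apply Subtype.ext
      show ⁅x, x⁆ = 1
      exact commutatorElement_self x
    obtain ⟨a, ha⟩ := mem_powers_of_prime_card (G := ↥Z) hE.cardZ hφxy (g' := φx ⟨e, he⟩)
    -- e' = e * (y^a)⁻¹
    let e' : ↥E := ⟨e, he⟩ * (⟨y, hy⟩ ^ a)⁻¹
    have he'x : φx e' = 1 := by
      show φx (⟨e, he⟩ * (⟨y, hy⟩ ^ a)⁻¹) = 1
      rw [map_mul, map_inv, map_pow]
      have : (φx ⟨y, hy⟩) ^ a = φx ⟨e, he⟩ := ha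
      rw [this, mul_inv_cancel]
    obtain ⟨b, hb⟩ := mem_powers_of_prime_card (G := ↥Z) hE.cardZ hφyx (g' := φy e')
    let e'' : ↥E := e' * (⟨x, hx⟩ ^ b)⁻¹
    have he''y : φy e'' = 1 := by
      show φy (e' * (⟨x, hx⟩ ^ b)⁻¹) = 1
      rw [map_mul, map_inv, map_pow]
      have : (φy ⟨x, hx⟩) ^ b = φy e' := hb
      rw [this, mul_inv_cancel]
    have he''x : φx e'' = 1 := by
      show φx (e' * (⟨x, hx⟩ ^ b)⁻¹) = 1
      rw [map_mul, map_inv, map_pow, he'x, hφxx, one_pow, inv_one, mul_one]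
    have hcx : e''.1 * x = x * e''.1 := by
      have := congrArg Subtype.val he''x
      exact commutatorElement_eq_one_iff_mul_comm.mp this
    have hcy : e''.1 * y = y * e''.1 := by
      have := congrArg Subtype.val he''y
      exact commutatorElement_eq_one_iff_mul_comm.mp this
    have hmem : e''.1 ∈ E ⊓ Subgroup.centralizer ({x} : Set G) ⊓ Subgroup.centralizer ({y} : Set G) := by
      refine Subgroup.mem_inf.mpr ⟨Subgroup.mem_inf.mpr ⟨e''.2, ?_⟩, ?_⟩
      · exact mem_centralizer_singleton.mpr hcx.symm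
      · exact mem_centralizer_singleton.mpr hcy.symm
    have hg'' := hgc e''.1 hmem
    have hedecomp : e = e''.1 * x ^ b * y ^ a := by
      show e = (e * (y ^ a)⁻¹ * (x ^ b)⁻¹) * x ^ b * y ^ a
      group
    have hgxb : g * x ^ b = x ^ b * g := ((Commute.pow_right (show Commute g x from hgx.symm) b)).eq
    have hgya : g * y ^ a = y ^ a * g := ((Commute.pow_right (show Commute g y from hgy.symm) a)).eq
    rw [hedecomp]
    calc g * (e''.1 * x ^ b * y ^ a) = (g * e''.1) * x ^ b * y ^ a := by group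
      _ = e''.1 * (g * x ^ b) * y ^ a := by rw [hg'']; group
      _ = e''.1 * x ^ b * (g * y ^ a) := by rw [hgxb]; group
      _ = e''.1 * x ^ b * y ^ a * g := by rw [hgya]; group
  · intro a ha b hb
    exact hE.comm_mem a (Subgroup.mem_inf.mp (Subgroup.mem_inf.mp ha).1).1 b
      (Subgroup.mem_inf.mp (Subgroup.mem_inf.mp hb).1).1
  · intro a ha
    exact hE.pow_mem a (Subgroup.mem_inf.mp (Subgroup.mem_inf.mp ha).1).1

theorem pow_mul_class_two {a b : G} (hcb : Commute ⁅b, a⁆ b) (n : ℕ) :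
    b ^ n * a = ⁅b, a⁆ ^ n * a * b ^ n := by
  induction n with
  | zero => simp
  | succ n ih =>
    have hba : b * a = ⁅b, a⁆ * a * b := by
      rw [commutatorElement_def]; group
    have hcbn : ⁅b, a⁆ ^ n * b = b * ⁅b, a⁆ ^ n := (hcb.pow_left n).eq
    calc b ^ (n + 1) * a = b * (b ^ n * a) := by rw [pow_succ']; group
      _ = b * (⁅b, a⁆ ^ n * a * b ^ n) := by rw [ih]
      _ = (b * ⁅b, a⁆ ^ n) * a * b ^ n := by group
      _ = (⁅b, a⁆ ^ n * b) * a * b ^ n := by rw [hcbn]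
      _ = ⁅b, a⁆ ^ n * (b * a) * b ^ n := by group
      _ = ⁅b, a⁆ ^ n * (⁅b, a⁆ * a * b) * b ^ n := by rw [hba]
      _ = ⁅b, a⁆ ^ (n + 1) * a * b ^ (n + 1) := by rw [pow_succ, pow_succ' b]; group

theorem mul_pow_class_two {a b : G} (hca : Commute ⁅b, a⁆ a) (hcb : Commute ⁅b, a⁆ b) (n : ℕ) :
    (a * b) ^ n = a ^ n * b ^ n * ⁅b, a⁆ ^ (∑ i ∈ Finset.range n, i) := by
  induction n with
  | zero => simp
  | succ n ih =>
    have h1 := pow_mul_class_two hcb n
    have hct : ∀ m k : ℕ, ⁅b, a⁆ ^ m * b ^ k = b ^ k * ⁅b, a⁆ ^ m := fun m k => (hcb.pow_pow m k).eq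
    have hcta : ∀ m : ℕ, ⁅b, a⁆ ^ m * a = a * ⁅b, a⁆ ^ m := fun m => (hca.pow_left m).eq
    rw [Finset.sum_range_succ, pow_succ, ih]
    set c := ⁅b, a⁆ with hc
    set t := ∑ i ∈ Finset.range n, i with ht
    calc a ^ n * b ^ n * c ^ t * (a * b) = a ^ n * b ^ n * (c ^ t * a) * b := by group
      _ = a ^ n * b ^ n * (a * c ^ t) * b := by rw [hcta]
      _ = a ^ n * (b ^ n * a) * c ^ t * b := by group
      _ = a ^ n * (c ^ n * a * b ^ n) * c ^ t * b := by rw [h1]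
      _ = a ^ n * (c ^ n * a) * b ^ n * c ^ t * b := by group
      _ = a ^ n * (a * c ^ n) * b ^ n * c ^ t * b := by rw [hcta]
      _ = a ^ (n + 1) * (c ^ n * b ^ n) * (c ^ t * b) := by rw [pow_succ a]; group
      _ = a ^ (n + 1) * (b ^ n * c ^ n) * (b * c ^ t) := by
          rw [hct n n]
          have := hct t 1
          rw [pow_one] at this
          rw [this]
      _ = a ^ (n + 1) * b ^ n * (c ^ n * b) * c ^ t := by group
      _ = a ^ (n + 1) * b ^ n * (b * c ^ n) * c ^ t := by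
          have := hct n 1
          rw [pow_one] at this
          rw [this]
      _ = a ^ (n + 1) * b ^ (n + 1) * c ^ (t + n) := by rw [pow_succ b, pow_add]; group

theorem ESLike.pow_eq_one_of_mem [Finite G] {p : ℕ} {E Z : Subgroup G} {w : ℕ}
    (hE : ESLike p E Z w) {u : G} (hu : u ∈ Z) : u ^ p = 1 := by
  have := pow_card_eq_one' (G := ↥Z) (x := ⟨u, hu⟩)
  rw [hE.cardZ] at this
  exact congrArg Subtype.val this

/-- for `p` odd the `p`-th power map is a homomorphism `E → Z`. -/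
def ESLike.powHom [Finite G] {p : ℕ} [hp : Fact p.Prime] (hodd : p ≠ 2) {E Z : Subgroup G} {w : ℕ}
    (hE : ESLike p E Z w) : ↥E →* ↥Z where
  toFun e := ⟨e.1 ^ p, hE.pow_mem e.1 e.2⟩
  map_one' := by
    apply Subtype.ext
    show (1 : G) ^ p = 1
    exact one_pow p
  map_mul' := by
    intro a b
    apply Subtype.ext
    show (a.1 * b.1) ^ p = a.1 ^ p * b.1 ^ p
    have hc : ⁅b.1, a.1⁆ ∈ Z := hE.comm_mem b.1 b.2 a.1 a.2
    rw [mul_pow_class_two (hE.central _ hc a.1 a.2) (hE.central _ hc b.1 b.2) p]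
    have hdvd : p ∣ ∑ i ∈ Finset.range p, i := by
      have h2 := Finset.sum_range_id_mul_two p
      have h3 : p ∣ (∑ i ∈ Finset.range p, i) * 2 := by
        rw [h2]
        exact dvd_mul_right p _
      have hcop : Nat.Coprime p 2 := by
        rw [Nat.coprime_primes hp.out Nat.prime_two]
        exact hodd
      exact hcop.dvd_of_dvd_mul_right h3
    obtain ⟨k, hk⟩ := hdvd
    rw [hk, pow_mul, hE.pow_eq_one_of_mem hc, one_pow, mul_one]

/-- a noncentral element of order `p`, `p` odd. -/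
theorem ESLike.exists_order_p_odd [Finite G] {p : ℕ} [hp : Fact p.Prime] (hodd : p ≠ 2)
    {E Z : Subgroup G} {w : ℕ} (hE : ESLike p E Z (w + 1)) : ∃ x ∈ E, x ∉ Z ∧ x ^ p = 1 := by
  by_contra hcon
  have hall : ∀ x ∈ E, x ^ p = 1 → x ∈ Z := by
    intro x hx hxp
    by_contra h
    exact hcon ⟨x, hx, h, hxp⟩
  let π := hE.powHom hodd
  have h1 := Subgroup.card_mul_index π.ker
  rw [Subgroup.index_ker] at h1
  have h2 : Nat.card ↥π.range ≤ p := by
    have := Subgroup.card_le_card_group π.range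
    rwa [hE.cardZ] at this
  have h3 : Nat.card ↥π.ker ≤ p := by
    rw [← hE.cardZ]
    apply Nat.card_le_card_of_injective (fun e : ↥π.ker => (⟨e.1.1, hall e.1.1 e.1.2 (by
      have := e.2
      rw [MonoidHom.mem_ker] at this
      exact congrArg Subtype.val this)⟩ : ↥Z))
    intro a b hab
    apply Subtype.ext
    apply Subtype.ext
    have := congrArg Subtype.val hab
    exact this
  have h4 : Nat.card ↥E ≤ p * p := by
    rw [← h1]
    exact Nat.mul_le_mul h3 h2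
  rw [hE.cardE] at h4
  have hp2 : 2 ≤ p := hp.out.two_le
  have h5 : p * p * p ≤ p ^ (2 * (w + 1) + 1) := by
    have : p ^ (2 * (w + 1) + 1) = p * p * p * p ^ (2 * w) := by ring
    rw [this]
    exact Nat.le_mul_of_pos_right _ (Nat.pos_of_ne_zero (pow_ne_zero _ (by omega)))
  have h6 : p * p * p ≤ p * p := le_trans h5 h4
  have h7 : p * p * 2 ≤ p * p * p := Nat.mul_le_mul_left _ hp2
  have h8 : 0 < p * p := Nat.mul_pos (by omega) (by omega)
  omega

/-- a point fixed by a generator of `Z` is fixed by `Z`. -/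
theorem ESLike.fixed_of_gen {p : ℕ} [hp : Fact p.Prime] {E Z : Subgroup G} {w : ℕ}
    (hE : ESLike p E Z w) {z : G} (hz : z ∈ Z) (hz1 : z ≠ 1) {a : G} (ha : z * a = a * z) :
    ∀ u ∈ Z, u * a = a * u := by
  intro u hu
  have hne : (⟨z, hz⟩ : ↥Z) ≠ 1 := by
    intro h
    exact hz1 (congrArg Subtype.val h)
  obtain ⟨k, hk⟩ := mem_powers_of_prime_card (G := ↥Z) hE.cardZ hne (g' := ⟨u, hu⟩)
  have hk' : z ^ k = u := congrArg Subtype.val hk
  rw [← hk']
  exact ((show Commute z a from ha).pow_left k).eq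

/-- every element of `E` outside `Z` fails to commute with some element of `E`. -/
theorem ESLike.exists_not_comm {p : ℕ} {E Z : Subgroup G} {w : ℕ}
    (hE : ESLike p E Z w) {x : G} (hx : x ∈ E) (hxZ : x ∉ Z) : ∃ y ∈ E, ⁅y, x⁆ ≠ 1 := by
  by_contra hcon
  apply hxZ
  apply hE.center_le x hx
  intro e he
  by_contra h
  apply hcon
  refine ⟨e, he, ?_⟩
  intro h1
  apply h
  exact (commutatorElement_eq_one_iff_mul_comm.mp h1).symm

theorem ESLike.exists_not_mem [Finite G] {p : ℕ} [hp : Fact p.Prime] {E Z : Subgroup G} {w : ℕ}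
    (hE : ESLike p E Z (w + 1)) : ∃ x ∈ E, x ∉ Z := by
  by_contra hcon
  have hle : E ≤ Z := by
    intro x hx
    by_contra h
    exact hcon ⟨x, hx, h⟩
  have h1 := Subgroup.card_le_of_le hle
  rw [hE.cardE, hE.cardZ] at h1
  have hp2 : 2 ≤ p := hp.out.two_le
  have : p * p ≤ p ^ (2 * (w + 1) + 1) := by
    have : p ^ (2 * (w + 1) + 1) = p * p * (p * p ^ (2 * w)) := by ring
    rw [this]
    exact Nat.le_mul_of_pos_right _ (Nat.mul_pos (by omega) (Nat.pos_of_ne_zero (pow_ne_zero _ (by omega))))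
  have h2 : p * 2 ≤ p * p := Nat.mul_le_mul_left _ hp2
  omega

/-- for `p = 2`: a noncentral involution exists unless `|E| = 8`. -/
theorem ESLike.two_cases [Finite G] {E Z : Subgroup G} {w : ℕ} (hE : ESLike 2 E Z (w + 1)) :
    (∃ x ∈ E, x ∉ Z ∧ x ^ 2 = 1) ∨ w = 0 := by
  by_contra hcon
  rw [not_or] at hcon
  obtain ⟨hno, hw⟩ := hcon
  have : Fact (Nat.Prime 2) := ⟨Nat.prime_two⟩
  have hno' : ∀ x ∈ E, x ∉ Z → x ^ 2 ≠ 1 := by
    intro x hx hxZ h
    exact hno ⟨x, hx, hxZ, h⟩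
  obtain ⟨x, hx, hxZ⟩ := hE.exists_not_mem
  have hx2Z : x ^ 2 ∈ Z := hE.pow_mem x hx
  have hx2 : x ^ 2 ≠ 1 := hno' x hx hxZ
  have hx4 : x ^ 4 = 1 := by
    have := hE.pow_eq_one_of_mem hx2Z
    rw [← pow_mul] at this
    exact this
  -- elements of Z are 1 or x^2
  have hZel : ∀ v ∈ Z, v = 1 ∨ v = x ^ 2 := by
    intro v hv
    have hne : (⟨x ^ 2, hx2Z⟩ : ↥Z) ≠ 1 := by
      intro h
      exact hx2 (congrArg Subtype.val h)
    obtain ⟨k, hk⟩ := mem_powers_of_prime_card (G := ↥Z) hE.cardZ hne (g' := ⟨v, hv⟩)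
    have hk' : (x ^ 2) ^ k = v := congrArg Subtype.val hk
    rcases Nat.even_or_odd' k with ⟨m, hm | hm⟩
    · left
      rw [← hk', hm, pow_mul, ← pow_mul x 2 2, hx4, one_pow]
    · right
      rw [← hk', hm, pow_succ, pow_mul, ← pow_mul x 2 2, hx4, one_pow, one_mul]
  -- the centraliser of x in E has order 2^(2w+2) ≥ 16
  obtain ⟨y, hy, hxy⟩ := hE.exists_not_comm hx hxZ
  have c1 := card_eq_mul_card_centralizer E Z x hE.cardZ hE.Z_le
    (fun e he => hE.comm_mem e he x hx) hE.central ⟨y, hy, hxy⟩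
  rw [hE.cardE] at c1
  have hcard : 16 ≤ Nat.card ↥(E ⊓ Subgroup.centralizer ({x} : Set G)) := by
    have h1 : 2 ^ (2 * (w + 1) + 1) = 2 * (16 * 2 ^ (2 * (w - 1))) := by
      have : 2 * (w + 1) + 1 = 1 + (4 + 2 * (w - 1)) := by omega
      rw [this, pow_add, pow_add]
      norm_num
    rw [h1] at c1
    have h2 := Nat.eq_of_mul_eq_mul_left (by norm_num : 0 < 2) c1
    rw [← h2]
    exact Nat.le_mul_of_pos_right _ (Nat.pos_of_ne_zero (pow_ne_zero _ (by norm_num)))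
  have hS : ({1, x, x ^ 2, x ^ 3} : Set G).ncard <
      ((E ⊓ Subgroup.centralizer ({x} : Set G) : Subgroup G) : Set G).ncard := by
    have h1 : ({1, x, x ^ 2, x ^ 3} : Set G).ncard ≤ 4 := by
      have a1 := Set.ncard_insert_le (1 : G) ({x, x ^ 2, x ^ 3} : Set G)
      have a2 := Set.ncard_insert_le x ({x ^ 2, x ^ 3} : Set G)
      have a3 := Set.ncard_insert_le (x ^ 2) ({x ^ 3} : Set G)
      have a4 := Set.ncard_singleton (x ^ 3)
      omega
    have h2 : ((E ⊓ Subgroup.centralizer ({x} : Set G) : Subgroup G) : Set G).ncard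
        = Nat.card ↥(E ⊓ Subgroup.centralizer ({x} : Set G)) := rfl
    omega
  obtain ⟨u, huC, huS⟩ := Set.exists_mem_notMem_of_ncard_lt_ncard hS (Set.toFinite _)
  have huE : u ∈ E := (Subgroup.mem_inf.mp huC).1
  have hux : x * u = u * x := mem_centralizer_singleton.mp (Subgroup.mem_inf.mp huC).2
  simp only [Set.mem_insert_iff, Set.mem_singleton_iff, not_or] at huS
  obtain ⟨hu1, hux', hux2, hux3⟩ := huS
  have huZ : u ∉ Z := by
    intro h
    rcases hZel u h with h | h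
    · exact hu1 h
    · exact hux2 h
  have hxuZ : x * u ∉ Z := by
    intro h
    rcases hZel (x * u) h with h | h
    · apply hux3
      have : u = x⁻¹ := by
        rw [eq_inv_iff_mul_eq_one, ← hux]
        exact h
      rw [this]
      have : x ^ 3 * x = 1 := by rw [← pow_succ]; exact hx4
      exact (eq_inv_of_mul_eq_one_left this).symm
    · apply hux'
      have : x * u = x * x := by rw [h, pow_two]
      exact mul_left_cancel this
  have hu2Z := hE.pow_mem u huE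
  have hu2 : u ^ 2 = x ^ 2 := by
    rcases hZel _ hu2Z with h | h
    · exact absurd h (hno' u huE huZ)
    · exact h
  have hxu2 : (x * u) ^ 2 = x ^ 2 := by
    rcases hZel _ (hE.pow_mem (x * u) (E.mul_mem hx huE)) with h | h
    · exact absurd h (hno' (x * u) (E.mul_mem hx huE) hxuZ)
    · exact h
  have : (x * u) ^ 2 = 1 := by
    rw [(show Commute x u from hux).mul_pow, hu2, ← pow_add]
    exact hx4
  rw [this] at hxu2
  exact hx2 hxu2.symm

end ES

end Cfsg.Agent.Lib.Helper48_ExtraRep
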