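/-
Helper48_ExtraRep2: main induction for the order bound of a faithful module of an extraspecial group.
-/
import Cfsg.Agent.Lib.Helper48_ExtraRep
import Cfsg.Agent.Lib.Helper1_Frattini

set_option autoImplicit false

namespace Cfsg.Agent.Lib.Helper48_ExtraRep

open scoped BigOperators
open scoped commutatorElement

section Wrappers

theorem nrm_comm {A : Type*} [CommGroup A] (p : ℕ) {σ ε : MulAut A} (h : Commute ε σ) (a : A) :
    nrm p σ (ε a) = ε (nrm p σ a) := by
  rw [nrm_apply, nrm_apply, map_prod]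
  apply Finset.prod_congr rfl
  intro k _
  have h1 := (h.pow_right k).eq
  calc (σ ^ k) (ε a) = (σ ^ k * ε) a := rfl
    _ = (ε * σ ^ k) a := by rw [h1]
    _ = ε ((σ ^ k) a) := rfl

/-- instance-free version of `main_abstract`. -/
theorem main_abstract' {A : Type*} [Group A] [Finite A] (hcomm : ∀ a b : A, a * b = b * a)
    {p : ℕ} (hp : p.Prime) (hcop : (Nat.card A).Coprime p) (ξ ζ η : MulAut A)
    (hc : Commute ξ ζ) (hξ : ξ ^ p = 1) (hζ : ζ ^ p = 1) (hfix : ∀ a, ζ a = a → a = 1)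
    (hη1 : η * ξ * η⁻¹ = ξ * ζ) (hη2 : Commute η ζ) :
    (Nat.card {a : A // ξ a = a}) ^ p ≤ Nat.card A ∧
      (Nontrivial A → ∃ a : A, a ≠ 1 ∧ ξ a = a) := by
  letI : CommGroup A := { (inferInstance : Group A) with mul_comm := hcomm }
  obtain ⟨h1, h2⟩ := main_abstract (A := A) ξ ζ hp hcop η hc hξ hζ hfix hη1 hη2
  refine ⟨h1, ?_⟩
  intro hnt
  have h3 := h2 hnt
  by_contra hcon
  apply h3
  rw [Subgroup.eq_bot_iff_forall]
  intro a ha
  by_contra h
  exact hcon ⟨a, h, ha⟩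

/-- a fixed-point-free invariant subgroup for an automorphism of prime order `p` of an abelian
`p'`-group. -/
theorem exists_fpf_subgroup {A : Type*} [Group A] [Finite A] (hcomm : ∀ a b : A, a * b = b * a)
    {p : ℕ} (hcop : (Nat.card A).Coprime p) (ζ : MulAut A) (hζ : ζ ^ p = 1)
    (hζ1 : ζ ≠ 1) :
    ∃ K : Subgroup A, K ≠ ⊥ ∧ (∀ a ∈ K, ζ a = a → a = 1) ∧
      (∀ ε : MulAut A, Commute ε ζ → ∀ a ∈ K, ε a ∈ K) := by
  letI : CommGroup A := { (inferInstance : Group A) with mul_comm := hcomm }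
  refine ⟨(nrm p ζ).ker, ?_, ?_, ?_⟩
  · intro hbot
    apply hζ1
    ext a
    show ζ a = a
    have hb : a⁻¹ * ζ a ∈ (nrm p ζ).ker := by
      rw [MonoidHom.mem_ker, map_mul, map_inv, nrm_comm p (Commute.refl ζ), nrm_fixed ζ hζ]
      exact inv_mul_cancel _
    rw [hbot, Subgroup.mem_bot] at hb
    exact (eq_of_inv_mul_eq_one hb).symm
  · intro a ha hfa
    rw [MonoidHom.mem_ker, nrm_of_fixed hfa] at ha
    exact eq_one_of_pow_eq_one hcop ha
  · intro ε hε a ha
    rw [MonoidHom.mem_ker] at ha ⊢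
    rw [nrm_comm p hε, ha, map_one]

end Wrappers

section Main

variable {G : Type*} [Group G] [Finite G]

/-- an automorphism of prime order `p` without nontrivial fixed points: `|A| ≡ 1 mod p`. -/
theorem card_modEq_one {A : Type*} [Group A] [Finite A] {p : ℕ} [hp : Fact p.Prime] (ζ : MulAut A)
    (hζ : ζ ^ p = 1) (hfix : ∀ a, ζ a = a → a = 1) : Nat.card A ≡ 1 [MOD p] := by
  have hP : IsPGroup p (Subgroup.zpowers ζ) := by
    intro g
    refine ⟨1, ?_⟩
    obtain ⟨g, hg⟩ := g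
    obtain ⟨k, rfl⟩ := Subgroup.mem_zpowers_iff.mp hg
    apply Subtype.ext
    show (ζ ^ k) ^ p ^ 1 = 1
    rw [pow_one, ← zpow_natCast, ← zpow_mul, mul_comm, zpow_mul, zpow_natCast, hζ, one_zpow]
  have h := hP.card_modEq_card_fixedPoints A
  have h1 : Nat.card (MulAction.fixedPoints (Subgroup.zpowers ζ) A) = 1 := by
    rw [Nat.card_eq_one_iff_unique]
    refine ⟨⟨?_⟩, ⟨⟨1, ?_⟩⟩⟩
    · intro a b
      have ha : a.1 = 1 := hfix a.1 (a.2 ⟨ζ, Subgroup.mem_zpowers ζ⟩)
      have hb : b.1 = 1 := hfix b.1 (b.2 ⟨ζ, Subgroup.mem_zpowers ζ⟩)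
      exact Subtype.ext (ha.trans hb.symm)
    · intro g
      exact map_one g.1
  rwa [h1] at h

theorem card_eq_pow {r : ℕ} (hr : r.Prime) (B : Subgroup G) (hBr : ∀ a ∈ B, a ^ r = 1) :
    ∃ d, Nat.card B = r ^ d := by
  haveI : Fact r.Prime := ⟨hr⟩
  have hP : IsPGroup r ↥B := by
    intro a
    refine ⟨1, ?_⟩
    apply Subtype.ext
    rw [Subgroup.coe_pow, Subgroup.coe_one, pow_one]
    exact hBr a.1 a.2
  exact IsPGroup.iff_card.mp hP

theorem base_bound {r : ℕ} (hr : r.Prime) (B : Subgroup G) (hBr : ∀ a ∈ B, a ^ r = 1)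
    (hB : B ≠ ⊥) : ∃ d, 1 ≤ d ∧ Nat.card B = r ^ d := by
  obtain ⟨d, hd⟩ := card_eq_pow hr B hBr
  refine ⟨d, ?_, hd⟩
  by_contra h
  have hd0 : d = 0 := by omega
  rw [hd0, pow_zero] at hd
  exact hB (Subgroup.card_eq_one.mp hd)

theorem exists_ne_one_of_ne_bot {B : Subgroup G} (hB : B ≠ ⊥) : ∃ b ∈ B, b ≠ 1 := by
  by_contra hcon
  apply hB
  rw [Subgroup.eq_bot_iff_forall]
  intro b hb
  by_contra h
  exact hcon ⟨b, hb, h⟩

/-- a group of order `p` acting fixed-point-freely on an `r`-group `B ≠ 1`: `r^n ≤ |B|`. -/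
theorem fpf_bound {p r : ℕ} [hp : Fact p.Prime] (hr : r.Prime) (n : ℕ)
    (hmin : ∀ k : ℕ, 1 ≤ k → p ∣ r ^ k - 1 → n ≤ k) (B : Subgroup G)
    (hBr : ∀ a ∈ B, a ^ r = 1) (hB : B ≠ ⊥) (z : G)
    (hzN : z ∈ Subgroup.normalizer (B : Set G)) (hzp : z ^ p = 1)
    (hfix : ∀ a ∈ B, z * a = a * z → a = 1) : r ^ n ≤ Nat.card B := by
  obtain ⟨d, hd1, hd⟩ := base_bound hr B hBr hB
  have h1 := card_modEq_one (p := p) (cjAut B ⟨z, hzN⟩) (by
      rw [← map_pow]
      have : (⟨z, hzN⟩ : ↥(Subgroup.normalizer (B : Set G))) ^ p = 1 := by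
        apply Subtype.ext
        rw [Subgroup.coe_pow, Subgroup.coe_one]
        exact hzp
      rw [this, map_one]) (by
      intro a ha
      rw [cjAut_fixed_iff] at ha
      exact Subtype.ext (hfix a.1 a.2 ha))
  rw [hd] at h1 ⊢
  have h2 : p ∣ r ^ d - 1 := (Nat.modEq_iff_dvd' (Nat.one_le_pow _ _ hr.pos)).mp h1.symm
  exact Nat.pow_le_pow_right hr.pos (hmin d hd1 h2)

theorem normalizer_inf_centralizer {B : Subgroup G} {e x : G}
    (he : e ∈ Subgroup.normalizer (B : Set G)) (hex : x * e = e * x) :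
    e ∈ Subgroup.normalizer ((B ⊓ Subgroup.centralizer ({x} : Set G) : Subgroup G) : Set G) := by
  rw [Subgroup.mem_normalizer_iff] at he ⊢
  intro h
  rw [Subgroup.mem_inf, Subgroup.mem_inf, ← he h, mem_centralizer_singleton,
    mem_centralizer_singleton]
  have hc : Commute x e := hex
  constructor
  · rintro ⟨h1, h2⟩
    refine ⟨h1, ?_⟩
    have h2' : Commute x h := h2
    exact ((hc.mul_right h2').mul_right hc.inv_right).eq
  · rintro ⟨h1, h2⟩
    refine ⟨h1, ?_⟩
    have h2' : Commute x (e * h * e⁻¹) := h2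
    have h3 : Commute x (e⁻¹ * (e * h * e⁻¹) * e) := (hc.inv_right.mul_right h2').mul_right hc
    have h4 : e⁻¹ * (e * h * e⁻¹) * e = h := by group
    rw [h4] at h3
    exact h3.eq

/-- for `|E| ≥ p^3`: `|B| ≥ r^2`. -/
theorem card_ge_sq {p r : ℕ} [hp : Fact p.Prime] (hr : r.Prime) {E Z B : Subgroup G} {w : ℕ}
    (hE : ESLike p E Z (w + 1)) (hBr : ∀ a ∈ B, a ^ r = 1)
    (hN : E ≤ Subgroup.normalizer (B : Set G))
    (hfix : ∀ a ∈ B, (∀ u ∈ Z, u * a = a * u) → a = 1) (hB : B ≠ ⊥) : r ^ 2 ≤ Nat.card B := by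
  obtain ⟨d, hd1, hd⟩ := base_bound hr B hBr hB
  rw [hd]
  apply Nat.pow_le_pow_right hr.pos
  by_contra hlt
  have hd' : d = 1 := by omega
  subst hd'
  rw [pow_one] at hd
  haveI : Fact (Nat.card ↥B).Prime := by rw [hd]; exact ⟨hr⟩
  haveI : IsCyclic ↥B := isCyclic_of_prime_card rfl
  obtain ⟨x, hx, hxZ⟩ := hE.exists_not_mem
  obtain ⟨y, hy, hyx⟩ := hE.exists_not_comm hx hxZ
  have hz : ⁅y, x⁆ ∈ Z := hE.comm_mem y hy x hx
  let xN : ↥(Subgroup.normalizer (B : Set G)) := ⟨x, hN hx⟩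
  let yN : ↥(Subgroup.normalizer (B : Set G)) := ⟨y, hN hy⟩
  have h1 : cjAut B ⁅yN, xN⁆ = 1 := by
    rw [map_commutatorElement, commutatorElement_eq_one_iff_mul_comm]
    apply (IsCyclic.mulAutMulEquiv ↥B).injective
    rw [map_mul, map_mul, mul_comm]
  obtain ⟨b, hb, hb1⟩ := exists_ne_one_of_ne_bot hB
  apply hb1
  apply hfix b hb
  apply hE.fixed_of_gen hz hyx
  have h2 := (cjAut_fixed_iff B ⁅yN, xN⁆ ⟨b, hb⟩).mp (by rw [h1]; rfl)
  exact h2

/-- The main induction. -/
theorem main_bound {p r : ℕ} [hp : Fact p.Prime] (hr : r.Prime) (hpr : p ≠ r)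
    (n : ℕ) (hmin : ∀ k : ℕ, 1 ≤ k → p ∣ r ^ k - 1 → n ≤ k) :
    ∀ (w : ℕ) (E Z B : Subgroup G), ESLike p E Z w →
      (∀ a ∈ B, ∀ b ∈ B, a * b = b * a) → (∀ a ∈ B, a ^ r = 1) →
      E ≤ Subgroup.normalizer (B : Set G) →
      (∀ a ∈ B, (∀ u ∈ Z, u * a = a * u) → a = 1) → B ≠ ⊥ →
      r ^ (n * p ^ w) ≤ Nat.card B := by
  intro w
  induction w with
  | zero =>
    intro E Z B hE hBc hBr hN hfix hB
    have hZne : Z ≠ ⊥ := by
      intro h
      have h1 := hE.cardZ
      rw [h, Subgroup.card_bot] at h1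
      exact hp.out.one_lt.ne h1
    obtain ⟨z, hz, hz1⟩ := exists_ne_one_of_ne_bot hZne
    have h := fpf_bound hr n hmin B hBr hB z (hN (hE.Z_le hz)) (hE.pow_eq_one_of_mem hz)
      (fun a ha hza => hfix a ha (hE.fixed_of_gen hz hz1 hza))
    rwa [pow_zero, mul_one]
  | succ w ih =>
    intro E Z B hE hBc hBr hN hfix hB
    by_cases hex : ∃ x ∈ E, x ∉ Z ∧ x ^ p = 1
    · obtain ⟨x, hx, hxZ, hxp⟩ := hex
      obtain ⟨y, hy, hyx⟩ := hE.exists_not_comm hx hxZ
      have hz : ⁅y, x⁆ ∈ Z := hE.comm_mem y hy x hx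
      have hzE : ⁅y, x⁆ ∈ E := hE.Z_le hz
      have hzp : ⁅y, x⁆ ^ p = 1 := hE.pow_eq_one_of_mem hz
      have hzx : ⁅y, x⁆ * x = x * ⁅y, x⁆ := hE.central _ hz x hx
      have hzy : ⁅y, x⁆ * y = y * ⁅y, x⁆ := hE.central _ hz y hy
      have hyx' : y * x * y⁻¹ = x * ⁅y, x⁆ := by
        rw [← hzx, commutatorElement_def]
        group
      let xN : ↥(Subgroup.normalizer (B : Set G)) := ⟨x, hN hx⟩
      let yN : ↥(Subgroup.normalizer (B : Set G)) := ⟨y, hN hy⟩
      let zN : ↥(Subgroup.normalizer (B : Set G)) := ⟨⁅y, x⁆, hN hzE⟩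
      obtain ⟨d, hd1, hd⟩ := base_bound hr B hBr hB
      have hcop : (Nat.card ↥B).Coprime p := by
        rw [hd]
        exact Nat.Coprime.pow_left d ((Nat.coprime_primes hr hp.out).mpr (Ne.symm hpr))
      have hcommB : ∀ a b : ↥B, a * b = b * a := fun a b => Subtype.ext (hBc a.1 a.2 b.1 b.2)
      have hc : Commute (cjAut B xN) (cjAut B zN) := by
        have h0 : Commute xN zN := Subtype.ext hzx.symm
        exact h0.map (cjAut B)
      have hξ : (cjAut B xN) ^ p = 1 := by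
        rw [← map_pow]
        have : xN ^ p = 1 := by
          apply Subtype.ext
          rw [Subgroup.coe_pow, Subgroup.coe_one]
          exact hxp
        rw [this, map_one]
      have hζ : (cjAut B zN) ^ p = 1 := by
        rw [← map_pow]
        have : zN ^ p = 1 := by
          apply Subtype.ext
          rw [Subgroup.coe_pow, Subgroup.coe_one]
          exact hzp
        rw [this, map_one]
      have hfix' : ∀ a : ↥B, (cjAut B zN) a = a → a = 1 := by
        intro a ha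
        rw [cjAut_fixed_iff] at ha
        exact Subtype.ext (hfix a.1 a.2 (hE.fixed_of_gen hz hyx ha))
      have hη1 : cjAut B yN * cjAut B xN * (cjAut B yN)⁻¹ = cjAut B xN * cjAut B zN := by
        rw [← map_inv, ← map_mul, ← map_mul, ← map_mul]
        congr 1
        apply Subtype.ext
        exact hyx'
      have hη2 : Commute (cjAut B yN) (cjAut B zN) := by
        have h0 : Commute yN zN := Subtype.ext hzy.symm
        exact h0.map (cjAut B)
      have key := main_abstract' hcommB hp.out hcop (cjAut B xN) (cjAut B zN) (cjAut B yN)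
        hc hξ hζ hfix' hη1 hη2
      rw [card_fixed_cjAut] at key
      have hE1 := hE.sub hx hy hyx
      have hB1 : B ⊓ Subgroup.centralizer ({x} : Set G) ≠ ⊥ := by
        have hnt : Nontrivial ↥B := (Subgroup.nontrivial_iff_ne_bot B).mpr hB
        obtain ⟨a, ha1, haf⟩ := key.2 hnt
        intro hbot
        apply ha1
        have hmem : a.1 ∈ B ⊓ Subgroup.centralizer ({x} : Set G) :=
          Subgroup.mem_inf.mpr ⟨a.2, mem_centralizer_singleton.mpr
            ((cjAut_fixed_iff B xN a).mp haf)⟩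
        rw [hbot, Subgroup.mem_bot] at hmem
        exact Subtype.ext hmem
      have ih1 := ih (E ⊓ Subgroup.centralizer ({x} : Set G) ⊓ Subgroup.centralizer ({y} : Set G))
        Z (B ⊓ Subgroup.centralizer ({x} : Set G)) hE1
        (fun a ha b hb => hBc a (Subgroup.mem_inf.mp ha).1 b (Subgroup.mem_inf.mp hb).1)
        (fun a ha => hBr a (Subgroup.mem_inf.mp ha).1)
        (by
          intro e he
          have he1 := Subgroup.mem_inf.mp he
          have he2 := Subgroup.mem_inf.mp he1.1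
          exact normalizer_inf_centralizer (hN he2.1) (mem_centralizer_singleton.mp he2.2))
        (fun a ha h => hfix a (Subgroup.mem_inf.mp ha).1 h) hB1
      calc r ^ (n * p ^ (w + 1)) = (r ^ (n * p ^ w)) ^ p := by
            rw [← pow_mul, pow_succ, mul_assoc]
        _ ≤ (Nat.card ↥(B ⊓ Subgroup.centralizer ({x} : Set G))) ^ p :=
            Nat.pow_le_pow_left ih1 p
        _ ≤ Nat.card ↥B := key.1
    · have hp2 : p = 2 := by
        by_contra hodd
        exact hex (hE.exists_order_p_odd hodd)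
      subst hp2
      have hw : w = 0 := by
        rcases hE.two_cases with h | h
        · exact absurd h hex
        · exact h
      subst hw
      have h2 := card_ge_sq hr hE hBr hN hfix hB
      have hn1 : n ≤ 1 := hmin 1 le_rfl (by
        rw [pow_one]
        rcases hr.eq_two_or_odd with h | h
        · exact absurd h.symm hpr
        · omega)
      have h3 : n * 2 ^ (0 + 1) ≤ 2 := by
        rw [zero_add, pow_one]
        omega
      exact le_trans (Nat.pow_le_pow_right hr.pos h3) h2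

/-- The order bound for subgroups `E`, `Z` with the `ESLike` properties. -/
theorem extraspecial_bound {p r : ℕ} [hp : Fact p.Prime] (hr : r.Prime) (hpr : p ≠ r)
    (E Z A : Subgroup G) (w : ℕ) (hE : ESLike p E Z w)
    (hAc : ∀ a ∈ A, ∀ b ∈ A, a * b = b * a) (hAr : ∀ a ∈ A, a ^ r = 1)
    (hnorm : E ≤ Subgroup.normalizer (A : Set G))
    (hfaith : E ⊓ Subgroup.centralizer (A : Set G) = ⊥)
    (n : ℕ) (hmin : ∀ k : ℕ, 1 ≤ k → p ∣ r ^ k - 1 → n ≤ k) :
    r ^ (n * p ^ w) ≤ Nat.card ↥A := by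
  have hZne : Z ≠ ⊥ := by
    intro h
    have h1 := hE.cardZ
    rw [h, Subgroup.card_bot] at h1
    exact hp.out.one_lt.ne h1
  obtain ⟨z, hz, hz1⟩ := exists_ne_one_of_ne_bot hZne
  have hzE : z ∈ E := hE.Z_le hz
  let zN : ↥(Subgroup.normalizer (A : Set G)) := ⟨z, hnorm hzE⟩
  have hζ : (cjAut A zN) ^ p = 1 := by
    rw [← map_pow]
    have : zN ^ p = 1 := by
      apply Subtype.ext
      rw [Subgroup.coe_pow, Subgroup.coe_one]
      exact hE.pow_eq_one_of_mem hz
    rw [this, map_one]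
  have hζ1 : cjAut A zN ≠ 1 := by
    intro h
    apply hz1
    have hmem : z ∈ E ⊓ Subgroup.centralizer (A : Set G) := by
      refine Subgroup.mem_inf.mpr ⟨hzE, ?_⟩
      rw [Subgroup.mem_centralizer_iff]
      intro a ha
      have h1 : (cjAut A zN) ⟨a, ha⟩ = ⟨a, ha⟩ := by rw [h]; rfl
      exact ((cjAut_fixed_iff A zN ⟨a, ha⟩).mp h1).symm
    rw [hfaith, Subgroup.mem_bot] at hmem
    exact hmem
  obtain ⟨d, hd⟩ := card_eq_pow hr A hAr
  have hcop : (Nat.card ↥A).Coprime p := by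
    rw [hd]
    exact Nat.Coprime.pow_left d ((Nat.coprime_primes hr hp.out).mpr (Ne.symm hpr))
  have hcommA : ∀ a b : ↥A, a * b = b * a := fun a b => Subtype.ext (hAc a.1 a.2 b.1 b.2)
  obtain ⟨K, hK1, hK2, hK3⟩ := exists_fpf_subgroup hcommA hcop (cjAut A zN) hζ hζ1
  have hBA : K.map A.subtype ≤ A := Subgroup.map_subtype_le K
  have hinv : ∀ e ∈ E, ∀ h ∈ K.map A.subtype, e * h * e⁻¹ ∈ K.map A.subtype := by
    intro e he h hh
    obtain ⟨k, hk, rfl⟩ := Subgroup.mem_map.mp hh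
    let eN : ↥(Subgroup.normalizer (A : Set G)) := ⟨e, hnorm he⟩
    have hce : Commute (cjAut A eN) (cjAut A zN) := by
      have h0 : Commute eN zN := Subtype.ext (hE.central z hz e he).symm
      exact h0.map (cjAut A)
    exact Subgroup.mem_map.mpr ⟨cjAut A eN k, hK3 _ hce k hk, rfl⟩
  have hN : E ≤ Subgroup.normalizer ((K.map A.subtype : Subgroup G) : Set G) := by
    intro e he
    rw [Subgroup.mem_normalizer_iff]
    intro h
    constructor
    · exact hinv e he h
    · intro hh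
      have h1 := hinv e⁻¹ (E.inv_mem he) _ hh
      have h2 : e⁻¹ * (e * h * e⁻¹) * e⁻¹⁻¹ = h := by group
      rwa [h2] at h1
  have hfix : ∀ a ∈ K.map A.subtype, (∀ u ∈ Z, u * a = a * u) → a = 1 := by
    intro a ha hu
    obtain ⟨k, hk, rfl⟩ := Subgroup.mem_map.mp ha
    have h1 : (cjAut A zN) k = k := (cjAut_fixed_iff A zN k).mpr (hu z hz)
    have h2 := hK2 k hk h1
    rw [h2]
    rfl
  have hB : K.map A.subtype ≠ ⊥ := by
    intro hbot
    apply hK1
    rw [Subgroup.eq_bot_iff_forall]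
    intro k hk
    have h1 : A.subtype k ∈ K.map A.subtype := Subgroup.mem_map.mpr ⟨k, hk, rfl⟩
    rw [hbot, Subgroup.mem_bot] at h1
    exact Subtype.ext h1
  have hmain := main_bound hr hpr n hmin w E Z (K.map A.subtype) hE
    (fun a ha b hb => hAc a (hBA ha) b (hBA hb)) (fun a ha => hAr a (hBA ha)) hN hfix hB
  exact le_trans hmain (Subgroup.card_le_of_le hBA)

/-- an extraspecial subgroup gives an `ESLike` pair. -/
theorem ESLike.of_center {p : ℕ} [hp : Fact p.Prime] (E : Subgroup G) (w : ℕ)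
    (hP : IsPGroup p ↥E) (hfr : frattini ↥E = Subgroup.center ↥E)
    (hcm : commutator ↥E = Subgroup.center ↥E)
    (hZ : Nat.card (Subgroup.center ↥E) = p) (hcard : Nat.card ↥E = p ^ (2 * w + 1)) :
    ESLike p E ((Subgroup.center ↥E).map E.subtype) w where
  Z_le := Subgroup.map_subtype_le _
  cardZ := by
    rw [Subgroup.card_map_of_injective E.subtype_injective]
    exact hZ
  cardE := hcard
  central := by
    intro u hu e he
    obtain ⟨c, hc, rfl⟩ := Subgroup.mem_map.mp hu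
    have h1 := Subgroup.mem_center_iff.mp hc ⟨e, he⟩
    exact (congrArg Subtype.val h1).symm
  center_le := by
    intro g hg hcomm
    refine Subgroup.mem_map.mpr ⟨⟨g, hg⟩, ?_, rfl⟩
    rw [Subgroup.mem_center_iff]
    intro e
    exact Subtype.ext (hcomm e.1 e.2).symm
  comm_mem := by
    intro a ha b hb
    refine Subgroup.mem_map.mpr ⟨⁅(⟨a, ha⟩ : ↥E), ⟨b, hb⟩⁆, ?_, rfl⟩
    rw [← hcm, commutator_def]
    exact Subgroup.commutator_mem_commutator (Subgroup.mem_top _) (Subgroup.mem_top _)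
  pow_mem := by
    intro a ha
    refine Subgroup.mem_map.mpr ⟨(⟨a, ha⟩ : ↥E) ^ p, ?_, rfl⟩
    rw [← hfr]
    exact Cfsg.Agent.Lib.Helper1_Frattini.pow_mem_frattini_of_isPGroup hP _

end Main

end Cfsg.Agent.Lib.Helper48_ExtraRep
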