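import Mathlib
import Cfsg.Agent.Lib.Helper12_Hup1
import Cfsg.Agent.Lib.Helper48_ExtraRep2

set_option autoImplicit false
set_option linter.unusedSimpArgs false
set_option linter.unusedSectionVars false
set_option linter.style.haveILetI false

namespace Cfsg.Agent.Lib.Helper12_Hup3

open Module Cfsg.Agent.Lib.Helper12_Hup1 Cfsg.Agent.Lib.Helper48_ExtraRep

universe u

section transport

open scoped commutatorElement

variable {G G' : Type*} [Group G] [Group G']

/-- transport of `ESLike` along an injective homomorphism -/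
theorem esLike_map (f : G →* G') (hf : Function.Injective f) {s : ℕ} {E Z : Subgroup G} {w : ℕ}
    (h : ESLike s E Z w) : ESLike s (E.map f) (Z.map f) w where
  Z_le := Subgroup.map_mono h.Z_le
  cardZ := by rw [Subgroup.card_map_of_injective hf]; exact h.cardZ
  cardE := by rw [Subgroup.card_map_of_injective hf]; exact h.cardE
  central := by
    rintro _ ⟨u, hu, rfl⟩ _ ⟨e, he, rfl⟩
    rw [← map_mul, ← map_mul, h.central u hu e he]
  center_le := by
    rintro _ ⟨g, hg, rfl⟩ hcomm
    refine ⟨g, h.center_le g hg ?_, rfl⟩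
    intro e he
    apply hf
    rw [map_mul, map_mul]
    exact hcomm (f e) ⟨e, he, rfl⟩
  comm_mem := by
    rintro _ ⟨a, ha, rfl⟩ _ ⟨b, hb, rfl⟩
    exact ⟨⁅a, b⁆, h.comm_mem a ha b hb, by rw [map_commutatorElement]⟩
  pow_mem := by
    rintro _ ⟨a, ha, rfl⟩
    exact ⟨a ^ s, h.pow_mem a ha, by rw [map_pow]⟩

end transport

variable {p : ℕ} [Fact p.Prime] {V : Type u} [AddCommGroup V] [Module (ZMod p) V]
variable (H : Subgroup (V ≃ₗ[ZMod p] V))

/-- the action of `H` on `Multiplicative V` -/
def actM : H →* MulAut (Multiplicative V) where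
  toFun h := AddEquiv.toMultiplicative ((h : V ≃ₗ[ZMod p] V).toAddEquiv)
  map_one' := by ext; rfl
  map_mul' := fun a b => by ext; rfl

theorem actM_apply (h : H) (v : Multiplicative V) :
    actM H h v = Multiplicative.ofAdd ((h : V ≃ₗ[ZMod p] V) (Multiplicative.toAdd v)) := rfl

/-- the affine group -/
abbrev Aff := Multiplicative V ⋊[actM H] H

theorem finite_aff [Finite V] : Finite (Aff H) := by
  have hfinL : Finite (V ≃ₗ[ZMod p] V) := Cfsg.Agent.Lib.Helper12_SolvReg.finite_equiv
  exact Finite.of_equiv _ (SemidirectProduct.equivProd).symm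

/-- the translation subgroup -/
def inlR : Subgroup (Aff H) := (SemidirectProduct.inl : Multiplicative V →* Aff H).range

theorem inr_injective : Function.Injective (SemidirectProduct.inr : H →* Aff H) :=
  SemidirectProduct.inr_injective

theorem inl_injective : Function.Injective (SemidirectProduct.inl : Multiplicative V →* Aff H) :=
  SemidirectProduct.inl_injective

theorem conj_inr_inl (h : H) (v : Multiplicative V) :
    (SemidirectProduct.inr h : Aff H) * SemidirectProduct.inl v * (SemidirectProduct.inr h)⁻¹ =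
      SemidirectProduct.inl (actM H h v) := by
  rw [← map_inv, SemidirectProduct.inl_aut]

theorem inlR_comm : ∀ a ∈ inlR H, ∀ b ∈ inlR H, a * b = b * a := by
  rintro _ ⟨a, rfl⟩ _ ⟨b, rfl⟩
  rw [← map_mul, ← map_mul, mul_comm]

theorem inlR_pow : ∀ a ∈ inlR H, a ^ p = 1 := by
  rintro _ ⟨a, rfl⟩
  rw [← map_pow]
  have : a ^ p = 1 := by
    apply Multiplicative.toAdd.injective
    rw [toAdd_pow, toAdd_one]
    have h1 : (p : ZMod p) • (Multiplicative.toAdd a) = 0 := by
      rw [ZMod.natCast_self, zero_smul]
    rwa [Nat.cast_smul_eq_nsmul] at h1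
  rw [this, map_one]

theorem inlR_normal : (inlR H).Normal := by
  rw [inlR, SemidirectProduct.range_inl_eq_ker_rightHom]
  exact MonoidHom.normal_ker _

theorem normalizer_inlR : Subgroup.normalizer (inlR H : Set (Aff H)) = ⊤ :=
  haveI := inlR_normal H
  Subgroup.normalizer_eq_top (inlR H)

/-- the action on the translation subgroup is faithful -/
theorem eq_one_of_commute_inlR (e : H)
    (hc : ∀ v : V, (SemidirectProduct.inr e : Aff H) * SemidirectProduct.inl (Multiplicative.ofAdd v) =
      SemidirectProduct.inl (Multiplicative.ofAdd v) * SemidirectProduct.inr e) : e = 1 := by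
  apply Subtype.ext
  ext v
  have h2 := hc v
  have h3 : (SemidirectProduct.inr e : Aff H) * SemidirectProduct.inl (Multiplicative.ofAdd v) *
      (SemidirectProduct.inr e)⁻¹ = SemidirectProduct.inl (Multiplicative.ofAdd v) := by
    rw [h2]; group
  rw [conj_inr_inl] at h3
  have h4 := inl_injective H h3
  rw [actM_apply] at h4
  exact Multiplicative.ofAdd.injective h4

theorem range_inr_inf_centralizer :
    (SemidirectProduct.inr : H →* Aff H).range ⊓ Subgroup.centralizer (inlR H : Set (Aff H)) = ⊥ := by
  rw [eq_bot_iff]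
  rintro _ ⟨⟨e, rfl⟩, hc⟩
  rw [Subgroup.mem_bot]
  have h1 : e = 1 := by
    apply eq_one_of_commute_inlR
    intro v
    exact (Subgroup.mem_centralizer_iff.1 hc (SemidirectProduct.inl (Multiplicative.ofAdd v))
      ⟨_, rfl⟩).symm
  rw [h1, map_one]

theorem card_inlR [Finite V] : Nat.card (inlR H) = p ^ finrank (ZMod p) V := by
  rw [inlR, Nat.card_congr (MonoidHom.ofInjective (inl_injective H)).symm.toEquiv,
    Nat.card_congr Multiplicative.toAdd,
    Cfsg.Agent.Lib.Helper12_ExcSpread.card_eq_pow_top (p := p) (V := V)]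

/-- the dimension bound for extraspecial-like subgroups -/
theorem dim_ge_of_esLike [Finite V] {s : ℕ} [hs : Fact s.Prime] (hsp : s ≠ p) (E Z : Subgroup H)
    (w : ℕ) (hE : ESLike s E Z w) : s ^ w ≤ finrank (ZMod p) V := by
  have hp : p.Prime := Fact.out
  have := finite_aff H
  have hE' := esLike_map (SemidirectProduct.inr : H →* Aff H) (inr_injective H) hE
  have hnorm : E.map (SemidirectProduct.inr : H →* Aff H) ≤
      Subgroup.normalizer (inlR H : Set (Aff H)) := by
    rw [normalizer_inlR]
    exact le_top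
  have hfaith : E.map (SemidirectProduct.inr : H →* Aff H) ⊓
      Subgroup.centralizer (inlR H : Set (Aff H)) = ⊥ := by
    rw [eq_bot_iff, ← range_inr_inf_centralizer H]
    refine inf_le_inf_right _ ?_
    rintro _ ⟨e, -, rfl⟩
    exact ⟨e, rfl⟩
  have hb := extraspecial_bound (p := s) hp hsp _ _ (inlR H) w hE' (inlR_comm H) (inlR_pow H)
    hnorm hfaith 1 (fun k hk _ => hk)
  rw [card_inlR, one_mul] at hb
  exact (Nat.pow_le_pow_iff_right hp.one_lt).1 hb

end Cfsg.Agent.Lib.Helper12_Hup3
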