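import Mathlib
import Cfsg.Agent.Lib.Helper12_Hup1

set_option autoImplicit false
set_option linter.unusedSimpArgs false
set_option linter.unusedSectionVars false
set_option linter.style.haveILetI false

namespace Cfsg.Agent.Lib.Helper12_Hup4

open Module Cfsg.Agent.Lib.Helper12_Hup1

universe u

variable {p : ℕ} [Fact p.Prime] {V : Type u} [AddCommGroup V] [Module (ZMod p) V]
variable (H : Subgroup (V ≃ₗ[ZMod p] V))

/-- the algebra of an abelian normal subgroup is a domain -/
theorem alg_isDomain [Finite V] [Nontrivial V] (htr : Trans H) (A : Subgroup H)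
    (hAn : A.Normal) (hAc : ∀ a ∈ A, ∀ b ∈ A, a * b = b * a) : IsDomain (alg H A) := by
  have hnt : Nontrivial (alg H A) := by
    refine ⟨⟨1, 0, ?_⟩⟩
    intro h
    have h1 : (1 : Module.End (ZMod p) V) = 0 := congrArg Subtype.val h
    obtain ⟨v, hv⟩ := exists_ne (0 : V)
    apply hv
    have := congrArg (fun f : Module.End (ZMod p) V => f v) h1
    simpa using this
  have hnzd : NoZeroDivisors (alg H A) := by
    refine ⟨fun {a b} hab => ?_⟩
    by_contra hcon
    push Not at hcon
    obtain ⟨ha, hb⟩ := hcon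
    apply hb
    apply Subtype.ext
    ext v
    have ha' : (a : Module.End (ZMod p) V) ≠ 0 := fun h => ha (Subtype.ext h)
    apply alg_injective H htr A hAn hAc _ a.2 ha'
    have h1 : (a : Module.End (ZMod p) V) * (b : Module.End (ZMod p) V) = 0 :=
      congrArg Subtype.val hab
    have := congrArg (fun f : Module.End (ZMod p) V => f v) h1
    simpa using this
  exact NoZeroDivisors.to_isDomain _

/-- **G0**: `|V|` is a power of the order of the algebra of an abelian normal subgroup -/
theorem exists_card_eq_pow [Finite V] [Nontrivial V] (htr : Trans H) (A : Subgroup H)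
    (hAn : A.Normal) (hAc : ∀ a ∈ A, ∀ b ∈ A, a * b = b * a) :
    ∃ k, 0 < k ∧ Nat.card V = Nat.card (alg H A) ^ k := by
  classical
  have hdom := alg_isDomain H htr A hAn hAc
  have hfin := finite_alg H A
  cases nonempty_fintype (alg H A)
  letI D : DivisionRing (alg H A) := Fintype.divisionRingOfIsDomain (alg H A)
  letI M : @Module (alg H A) V D.toDivisionSemiring.toSemiring _ := (alg H A).moduleLeft
  have hfinM : Module.Finite (alg H A) V := Module.Finite.of_finite
  have h1 := Module.natCard_eq_pow_finrank (K := alg H A) (V := V)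
  refine ⟨finrank (alg H A) V, ?_, h1⟩
  exact Module.finrank_pos

/-- **G2**: the order of an abelian normal subgroup divides `|alg A| - 1` -/
theorem card_dvd_card_alg_sub_one [Finite V] [Nontrivial V] (htr : Trans H) (A : Subgroup H)
    (hAn : A.Normal) (hAc : ∀ a ∈ A, ∀ b ∈ A, a * b = b * a) :
    Nat.card A ∣ Nat.card (alg H A) - 1 := by
  have hfinL : Finite (V ≃ₗ[ZMod p] V) := Cfsg.Agent.Lib.Helper12_SolvReg.finite_equiv
  classical
  have hdom := alg_isDomain H htr A hAn hAc
  have hfin := finite_alg H A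
  cases nonempty_fintype (alg H A)
  letI D : DivisionRing (alg H A) := Fintype.divisionRingOfIsDomain (alg H A)
  let f : A →* alg H A :=
    { toFun := fun a => ⟨toEnd H (a : H), toEnd_mem_alg H a.2⟩
      map_one' := Subtype.ext (map_one (toEnd H))
      map_mul' := fun a b => Subtype.ext (map_mul (toEnd H) (a : H) (b : H)) }
  have hf : Function.Injective f := by
    intro a b hab
    have h1 : toEnd H (a : H) = toEnd H (b : H) := congrArg Subtype.val hab
    exact Subtype.ext (toEnd_injective H h1)
  let g : A →* (alg H A)ˣ := f.toHomUnits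
  have hg : Function.Injective g := by
    intro a b hab
    apply hf
    have := congrArg Units.val hab
    exact this
  have h1 : Nat.card A = Nat.card g.range := Nat.card_congr (MonoidHom.ofInjective hg).toEquiv
  rw [h1, ← Nat.card_units]
  exact Subgroup.card_subgroup_dvd_card _

/-- **G1**: a self-centralizing abelian normal subgroup is irreducible -/
theorem hasIrrCyc_of_self_centralizing [Finite V] [Nontrivial V] (htr : Trans H) (A : Subgroup H)
    (hAn : A.Normal) (hAc : ∀ a ∈ A, ∀ b ∈ A, a * b = b * a)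
    (hself : ∀ h : H, (∀ a ∈ A, h * a = a * h) → h ∈ A) : HasIrrCyc H := by
  have hfinL : Finite (V ≃ₗ[ZMod p] V) := Cfsg.Agent.Lib.Helper12_SolvReg.finite_equiv
  have hcyc := isCyclic_of_abelian_normal H htr A hAn hAc
  refine ⟨A, hAn, hcyc, ?_⟩
  apply irreducible_of_card_alg H htr A hAn hAc
  obtain ⟨k, hk0, hk⟩ := exists_card_eq_pow H htr A hAn hAc
  have hG2 := card_dvd_card_alg_sub_one H htr A hAn hAc
  have hfin := finite_alg H A
  have hK2 : 2 ≤ Nat.card (alg H A) := by
    have hdom := alg_isDomain H htr A hAn hAc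
    exact Finite.one_lt_card
  obtain ⟨⟨a, haA⟩, ha⟩ := hcyc.exists_generator
  -- the index of `A` is at most `|A|`
  have hidx : Nat.card (H ⧸ A) ≤ Nat.card A := by
    apply Nat.card_le_card_of_injective
      (fun q : H ⧸ A => (⟨q.out * a * q.out⁻¹, hAn.conj_mem a haA q.out⟩ : A))
    intro q₁ q₂ h12
    have h1 : q₁.out * a * q₁.out⁻¹ = q₂.out * a * q₂.out⁻¹ := congrArg Subtype.val h12
    have h2 : (q₁.out⁻¹ * q₂.out) * a = a * (q₁.out⁻¹ * q₂.out) := by
      have : a = q₁.out⁻¹ * (q₂.out * a * q₂.out⁻¹) * q₁.out := by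
        rw [← h1]; group
      calc (q₁.out⁻¹ * q₂.out) * a = q₁.out⁻¹ * (q₂.out * a * q₂.out⁻¹) * q₁.out *
            (q₁.out⁻¹ * q₂.out) := by group
        _ = a * (q₁.out⁻¹ * q₂.out) := by rw [← this]
    have h3 : q₁.out⁻¹ * q₂.out ∈ A := by
      apply hself
      intro b hb
      obtain ⟨n, hn⟩ := Subgroup.mem_zpowers_iff.1 (ha ⟨b, hb⟩)
      have hb' : b = a ^ n := by
        have := congrArg Subtype.val hn
        simpa using this.symm
      rw [hb']
      exact ((Commute.zpow_right h2 n)).eq
    have h4 : (QuotientGroup.mk q₁.out : H ⧸ A) = QuotientGroup.mk q₂.out :=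
      QuotientGroup.eq.2 h3
    rwa [QuotientGroup.out_eq', QuotientGroup.out_eq'] at h4
  have hH : Nat.card H = Nat.card (H ⧸ A) * Nat.card A :=
    Subgroup.card_eq_card_quotient_mul_card_subgroup A
  have hVH : Nat.card V - 1 ≤ Nat.card H :=
    Nat.le_of_dvd Nat.card_pos (card_sub_one_dvd H htr)
  have hAle : Nat.card A ≤ Nat.card (alg H A) - 1 := Nat.le_of_dvd (by omega) hG2
  rcases Nat.lt_or_ge k 2 with hk2 | hk2
  · have : k = 1 := by omega
    rw [hk, this, pow_one]
  · exfalso
    have h5 : Nat.card (alg H A) ^ 2 ≤ Nat.card V := by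
      rw [hk]
      exact Nat.pow_le_pow_right (by omega) hk2
    have h6 : Nat.card H ≤ (Nat.card (alg H A) - 1) * (Nat.card (alg H A) - 1) := by
      rw [hH]
      exact Nat.mul_le_mul (hidx.trans hAle) hAle
    obtain ⟨m, hm⟩ : ∃ m, Nat.card (alg H A) = m + 2 := ⟨_, (Nat.sub_add_cancel hK2).symm⟩
    rw [hm] at h5 h6
    have h7 : (m + 2 - 1) * (m + 2 - 1) = (m + 1) * (m + 1) := by
      have : m + 2 - 1 = m + 1 := by omega
      rw [this]
    rw [h7] at h6
    have h8 : Nat.card V ≤ Nat.card H + 1 := by omega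
    nlinarith

end Cfsg.Agent.Lib.Helper12_Hup4
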