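import Mathlib
import Cfsg.Agent.Lib.Helper12_Hup1
import Cfsg.Agent.Lib.Helper12_Hup2
import Cfsg.Agent.Lib.Helper12_Hup3
import Cfsg.Agent.Lib.Helper1_Cores
import Cfsg.Agent.Lib.Helper55_Fitting
import Cfsg.Agent.S3765
import Cfsg.Agent.S3736
import Cfsg.Agent.S0094
import Cfsg.Agent.Lib.Helper63_Extraspecial
import Cfsg.Agent.Lib.Helper48_ExtraRep2
import Cfsg.Agent.Lib.Helper46_FreeOrb
import Cfsg.Agent.Lib.Helper99_PrimPart
import Cfsg.Agent.Lib.Helper24_CoprimeAction

set_option autoImplicit false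
set_option linter.unusedSimpArgs false
set_option linter.unusedSectionVars false
set_option linter.style.haveILetI false

namespace Cfsg.Agent.Lib.Helper12_Hup5

open Module Cfsg.Agent.Lib.Helper12_Hup1 Cfsg.Agent.Lib.Helper12_Hup2

universe u

variable {p : ℕ} [Fact p.Prime] {V : Type u} [AddCommGroup V] [Module (ZMod p) V]
variable (H : Subgroup (V ≃ₗ[ZMod p] V))

theorem card_V [Finite V] : Nat.card V = p ^ finrank (ZMod p) V :=
  Cfsg.Agent.Lib.Helper12_ExcSpread.card_eq_pow_top (p := p) (V := V)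

theorem finrank_pos' [Finite V] [Nontrivial V] : 0 < finrank (ZMod p) V := Module.finrank_pos

/-- the `p`-core of a group transitive on the non-zero vectors is trivial -/
theorem pCore_char_eq_bot [Finite V] [Nontrivial V] (htr : Trans H) : Cfsg.pCore p H = ⊥ := by
  classical
  have hp : p.Prime := Fact.out
  have hfinL : Finite (V ≃ₗ[ZMod p] V) := Cfsg.Agent.Lib.Helper12_SolvReg.finite_equiv
  set S := Cfsg.pCore p H with hS
  have hSn : S.Normal := Cfsg.Agent.Lib.Helper1_Cores.pCore_normal p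
  have hSp : IsPGroup p S := Cfsg.Agent.Lib.Helper1_Cores.pCore_isPGroup p
  -- a non-zero fixed vector
  have hcardV : p ∣ Nat.card V := by
    rw [card_V (p := p)]
    exact dvd_pow_self p (finrank_pos' (p := p) (V := V)).ne'
  have h0 : (0 : V) ∈ MulAction.fixedPoints S V := by
    intro g
    show ((g : H) : V ≃ₗ[ZMod p] V) 0 = 0
    exact map_zero _
  obtain ⟨v, hv, hv0⟩ := hSp.exists_fixed_point_of_prime_dvd_card_of_fixed_point V hcardV h0
  have hv' : ∀ g : H, g ∈ S → (g : V ≃ₗ[ZMod p] V) v = v := fun g hg => hv ⟨g, hg⟩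
  rw [eq_bot_iff]
  intro g hg
  rw [Subgroup.mem_bot]
  apply Subtype.ext
  ext w
  show (g : V ≃ₗ[ZMod p] V) w = w
  by_cases hw : w = 0
  · rw [hw, map_zero]
  obtain ⟨h, hh⟩ := htr v w (Ne.symm hv0) hw
  have h1 : h⁻¹ * g * h ∈ S := by
    have := hSn.conj_mem g hg h⁻¹
    rwa [inv_inv] at this
  have h2 := hv' _ h1
  have h3 : ((h⁻¹ * g * h : H) : V ≃ₗ[ZMod p] V) v =
      ((h⁻¹ : H) : V ≃ₗ[ZMod p] V) ((g : V ≃ₗ[ZMod p] V) ((h : V ≃ₗ[ZMod p] V) v)) := rfl
  rw [h3, hh] at h2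
  have h4 := congrArg (h : V ≃ₗ[ZMod p] V) h2
  rw [hh] at h4
  have h5 : (h : V ≃ₗ[ZMod p] V) (((h⁻¹ : H) : V ≃ₗ[ZMod p] V) ((g : V ≃ₗ[ZMod p] V) w)) =
      (g : V ≃ₗ[ZMod p] V) w := by
    show ((h * h⁻¹ : H) : V ≃ₗ[ZMod p] V) ((g : V ≃ₗ[ZMod p] V) w) = _
    rw [mul_inv_cancel]
    rfl
  exact h5.symm.trans h4


theorem arith1 {r s n w b m : ℕ} (hr : r.Prime) (hs : s.Prime) (hsr : s ≠ r) (hw : 1 ≤ w)
    (hb : 1 ≤ b) (hn : n ∣ r - 1) (hn0 : 0 < n) (hle : s ^ w ≤ n)
    (h : s ^ (2 * w + 1) = s + r ^ b * m) : r = n + 1 ∧ n = s ^ w ∧ b = 1 := by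
  have hs2 : 2 ≤ s := hs.two_le
  have hr2 : 2 ≤ r := hr.two_le
  have hsw : 2 ≤ s ^ w := by
    calc 2 ≤ s ^ 1 := by rw [pow_one]; exact hs2
      _ ≤ s ^ w := Nat.pow_le_pow_right (by omega) hw
  have hnr : n ≤ r - 1 := Nat.le_of_dvd (by omega) hn
  -- factorisation
  have hfac : s ^ (2 * w + 1) = s * ((s ^ w - 1) * (s ^ w + 1)) + s := by
    obtain ⟨t, ht⟩ : ∃ t, s ^ w = t + 1 := ⟨s ^ w - 1, by omega⟩
    have : s ^ (2 * w + 1) = s * (s ^ w * s ^ w) := by ring
    rw [this, ht]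
    have : t + 1 - 1 = t := by omega
    rw [this]
    ring
  have h1 : r ^ b * m = s * ((s ^ w - 1) * (s ^ w + 1)) := by omega
  have hrs : ¬ r ∣ s := by
    intro hd
    exact hsr ((Nat.prime_dvd_prime_iff_eq hr hs).1 hd).symm
  have hr1 : ¬ r ∣ s ^ w - 1 := by
    intro hd
    have := Nat.le_of_dvd (by omega) hd
    omega
  have hrb : r ∣ r ^ b * m := Dvd.dvd.mul_right (dvd_pow_self r (by omega)) m
  rw [h1] at hrb
  have h2 : r ∣ s ^ w + 1 := by
    rcases (Nat.Prime.dvd_mul hr).1 hrb with hd | hd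
    · exact absurd hd hrs
    · rcases (Nat.Prime.dvd_mul hr).1 hd with hd' | hd'
      · exact absurd hd' hr1
      · exact hd'
  have h3 : r ≤ s ^ w + 1 := Nat.le_of_dvd (by omega) h2
  have h4 : r = n + 1 := by omega
  have h5 : n = s ^ w := by omega
  refine ⟨h4, h5, ?_⟩
  by_contra hb1
  have hb2 : 2 ≤ b := by omega
  have h6 : r ^ 2 ∣ r ^ b * m := Dvd.dvd.mul_right (pow_dvd_pow r hb2) m
  rw [h1] at h6
  have h7 : s ^ w + 1 = r := by omega
  rw [h7] at h6
  have h8 : r ^ 2 ∣ r * (s * (s ^ w - 1)) := by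
    have : s * ((s ^ w - 1) * r) = r * (s * (s ^ w - 1)) := by ring
    rwa [this] at h6
  rw [pow_two] at h8
  have h9 : r ∣ s * (s ^ w - 1) := Nat.dvd_of_mul_dvd_mul_left hr.pos h8
  rcases (Nat.Prime.dvd_mul hr).1 h9 with hd | hd
  · exact hrs hd
  · exact hr1 hd

/-- a subgroup normalises another as soon as conjugation maps it into itself -/
theorem le_normalizer_of_conj_mem {G : Type*} [Group G] (B U : Subgroup G)
    (h : ∀ c ∈ B, ∀ u ∈ U, c * u * c⁻¹ ∈ U) : B ≤ Subgroup.normalizer (U : Set G) := by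
  intro c hc
  rw [Subgroup.mem_normalizer_iff]
  intro u
  constructor
  · exact h c hc u
  · intro hu
    have := h c⁻¹ (B.inv_mem hc) _ hu
    have h2 : c⁻¹ * (c * u * c⁻¹) * c⁻¹⁻¹ = u := by group
    rwa [h2] at this

/-- in a cyclic group of prime order every non-trivial element generates -/
theorem mem_zpowers_of_prime_order {G : Type*} [Group G] {r : ℕ} (hr : r.Prime) (x : G)
    (hx : orderOf x = r) (y : G) (hy : y ∈ Subgroup.zpowers x) (hy1 : y ≠ 1) :
    x ∈ Subgroup.zpowers y := by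
  have hle : Subgroup.zpowers y ≤ Subgroup.zpowers x := Subgroup.zpowers_le.2 hy
  have hfin : Finite (Subgroup.zpowers x) := by
    apply Nat.finite_of_card_ne_zero
    rw [Nat.card_zpowers, hx]
    exact hr.pos.ne'
  have hyr : y ^ r = 1 := by
    obtain ⟨k, rfl⟩ := Subgroup.mem_zpowers_iff.1 hy
    rw [← zpow_natCast, ← zpow_mul, mul_comm, zpow_mul, zpow_natCast, ← hx, pow_orderOf_eq_one,
      one_zpow]
  have : Fact r.Prime := ⟨hr⟩
  have hoy : orderOf y = r := orderOf_eq_prime hyr hy1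
  have heq : Subgroup.zpowers y = Subgroup.zpowers x := by
    apply Subgroup.eq_of_le_of_card_ge hle
    rw [Nat.card_zpowers, Nat.card_zpowers, hx, hoy]
  rw [heq]
  exact Subgroup.mem_zpowers x

/-- an irreducible element of prime order `r` centralises every abelian `s`-subgroup it
normalises -/
theorem false_of_abelian [Finite V] [Nontrivial V] {r s : ℕ} (hr : r.Prime) (hs : s.Prime)
    (hpr : p ≠ r) (hps : p ≠ s) (hsr : s ≠ r) (x : H) (hx : orderOf x = r) (hirr : Irr H x)
    (P : Subgroup H) (hP : IsPGroup s P) (hPc : ∀ a ∈ P, ∀ b ∈ P, a * b = b * a)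
    (hxP : x ∈ Subgroup.normalizer (P : Set H)) (hnc : ¬ ∀ u ∈ P, u * x = x * u) : False := by
  have hp : p.Prime := Fact.out
  have hfinA := Cfsg.Agent.Lib.Helper12_Hup3.finite_aff H
  let inr : H →* Cfsg.Agent.Lib.Helper12_Hup3.Aff H := SemidirectProduct.inr
  have hinr : Function.Injective inr := Cfsg.Agent.Lib.Helper12_Hup3.inr_injective H
  set X := (Subgroup.zpowers x).map inr with hX
  set Q := P.map inr with hQ
  set T := Cfsg.Agent.Lib.Helper12_Hup3.inlR H with hT
  have hXcard : Nat.card X = r := by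
    rw [hX, Subgroup.card_map_of_injective hinr, Nat.card_zpowers, hx]
  have hQp : IsPGroup s Q := hP.map _
  have hXQ : X ≤ Subgroup.normalizer (Q : Set _) := by
    refine le_trans ?_ (Subgroup.le_normalizer_map inr)
    exact Subgroup.map_mono (Subgroup.zpowers_le.2 hxP)
  have hXfaith : X ⊓ Subgroup.centralizer (Q : Set _) = ⊥ := by
    rw [eq_bot_iff]
    rintro _ ⟨⟨y, hy, rfl⟩, hc⟩
    rw [Subgroup.mem_bot]
    by_contra hne
    have hy1 : y ≠ 1 := by
      rintro rfl
      exact hne (map_one _)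
    have hxy := mem_zpowers_of_prime_order hr x hx y hy hy1
    apply hnc
    intro u hu
    have h1 : u * y = y * u := by
      apply hinr
      rw [map_mul, map_mul]
      exact Subgroup.mem_centralizer_iff.1 hc (inr u) ⟨u, hu, rfl⟩
    obtain ⟨k, hk⟩ := Subgroup.mem_zpowers_iff.1 hxy
    rw [← hk]
    exact (Commute.zpow_right h1 k).eq
  have hV : Cfsg.IsElementaryAbelian p T :=
    ⟨⟨⟨fun a b => Subtype.ext (Cfsg.Agent.Lib.Helper12_Hup3.inlR_comm H a a.2 b b.2)⟩⟩,
      Cfsg.Agent.Lib.Helper12_Hup3.inlR_pow H⟩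
  have hV1 : T ≠ ⊥ := by
    intro h
    obtain ⟨v, hv⟩ := exists_ne (0 : V)
    have h1 : (SemidirectProduct.inl (Multiplicative.ofAdd v) :
        Cfsg.Agent.Lib.Helper12_Hup3.Aff H) ∈ T := ⟨_, rfl⟩
    rw [h, Subgroup.mem_bot] at h1
    have h2 := Cfsg.Agent.Lib.Helper12_Hup3.inl_injective H (h1.trans (map_one _).symm)
    exact hv (Multiplicative.ofAdd.injective h2)
  have hXV : X ≤ Subgroup.normalizer (T : Set _) := by
    rw [hT, Cfsg.Agent.Lib.Helper12_Hup3.normalizer_inlR]; exact le_top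
  have hQV : Q ≤ Subgroup.normalizer (T : Set _) := by
    rw [hT, Cfsg.Agent.Lib.Helper12_Hup3.normalizer_inlR]; exact le_top
  have hfaith : (X ⊔ Q) ⊓ Subgroup.centralizer (T : Set _) = ⊥ := by
    rw [eq_bot_iff, ← Cfsg.Agent.Lib.Helper12_Hup3.range_inr_inf_centralizer H]
    refine inf_le_inf_right _ (sup_le ?_ ?_)
    · rintro _ ⟨e, -, rfl⟩
      exact ⟨e, rfl⟩
    · rintro _ ⟨e, -, rfl⟩
      exact ⟨e, rfl⟩
  have hexc : s = 2 → (∃ n : ℕ, r = 2 ^ n + 1) → IsMulCommutative Q := by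
    intro _ _
    refine ⟨⟨?_⟩⟩
    rintro ⟨_, a, ha, rfl⟩ ⟨_, b, hb, rfl⟩
    apply Subtype.ext
    show inr a * inr b = inr b * inr a
    rw [← map_mul, ← map_mul, hPc a ha b hb]
  have hres := Cfsg.Agent.S3765.result hp hs hr hps hpr hsr X Q T hXcard hQp hXQ hXfaith hV hV1
    hXV hQV hfaith hexc
  apply hres
  rw [eq_bot_iff]
  rintro _ ⟨⟨v, rfl⟩, hc⟩
  rw [Subgroup.mem_bot]
  have h1 : (SemidirectProduct.inr x : Cfsg.Agent.Lib.Helper12_Hup3.Aff H) *
      SemidirectProduct.inl v = SemidirectProduct.inl v * SemidirectProduct.inr x :=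
    (Subgroup.mem_centralizer_iff.1 hc (inr x) ⟨x, Subgroup.mem_zpowers x, rfl⟩)
  have h2 : (SemidirectProduct.inr x : Cfsg.Agent.Lib.Helper12_Hup3.Aff H) *
      SemidirectProduct.inl v * (SemidirectProduct.inr x)⁻¹ = SemidirectProduct.inl v := by
    rw [h1]; group
  rw [Cfsg.Agent.Lib.Helper12_Hup3.conj_inr_inl] at h2
  have h3 := Cfsg.Agent.Lib.Helper12_Hup3.inl_injective H h2
  rw [Cfsg.Agent.Lib.Helper12_Hup3.actM_apply] at h3
  have h4 : (x : V ≃ₗ[ZMod p] V) (Multiplicative.toAdd v) = Multiplicative.toAdd v :=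
    Multiplicative.ofAdd.injective h3
  -- the fixed space of `x`
  let W : Submodule (ZMod p) V := LinearMap.ker (toEnd H x - 1)
  have hW : ∀ w ∈ W, (x : V ≃ₗ[ZMod p] V) w ∈ W := by
    intro w hw
    have h5 : (x : V ≃ₗ[ZMod p] V) w = w := by
      have : (toEnd H x - 1) w = 0 := hw
      rw [LinearMap.sub_apply, toEnd_apply, Module.End.one_apply, sub_eq_zero] at this
      exact this
    rw [h5]
    exact hw
  rcases hirr W hW with h | h
  · have h5 : Multiplicative.toAdd v ∈ W := by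
      show (toEnd H x - 1) (Multiplicative.toAdd v) = 0
      rw [LinearMap.sub_apply, toEnd_apply, Module.End.one_apply, h4, sub_self]
    rw [h, Submodule.mem_bot] at h5
    have : v = 1 := Multiplicative.toAdd.injective h5
    rw [this, map_one]
  · exfalso
    have h5 : x = 1 := by
      apply Subtype.ext
      ext w
      have : w ∈ W := by rw [h]; trivial
      have h6 : (toEnd H x - 1) w = 0 := this
      rw [LinearMap.sub_apply, toEnd_apply, Module.End.one_apply, sub_eq_zero] at h6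
      exact h6
    rw [h5, orderOf_one] at hx
    exact hr.one_lt.ne hx

section ppd

variable [Finite V] [Nontrivial V] {r : ℕ} (hr : r.Prime)
  (hdvd : r ∣ p ^ finrank (ZMod p) V - 1)
  (hppd : ∀ k, 0 < k → k < finrank (ZMod p) V → ¬ r ∣ p ^ k - 1)
include hr hdvd hppd

/-- elements of order `r` are irreducible -/
theorem irr_of_order (x : H) (hx : orderOf x = r) : Irr H x :=
  irr_of_ppd H hr x hx hdvd hppd (finrank_pos' (p := p) (V := V))

/-- a non-trivial `r`-subgroup contains a central element of order `r` -/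
theorem exists_central_of_rgroup (B : Subgroup H) (hB : IsPGroup r B) (hB1 : B ≠ ⊥) :
    ∃ z : H, z ∈ B ∧ orderOf z = r ∧ ∀ b ∈ B, b * z = z * b := by
  have hfinL : Finite (V ≃ₗ[ZMod p] V) := Cfsg.Agent.Lib.Helper12_SolvReg.finite_equiv
  have : Fact r.Prime := ⟨hr⟩
  have : Nontrivial B := (Subgroup.nontrivial_iff_ne_bot B).2 hB1
  have hc : Nontrivial (Subgroup.center B) := hB.center_nontrivial
  have hcp : IsPGroup r (Subgroup.center B) := hB.to_subgroup _
  obtain ⟨k, hk0, hk⟩ := hcp.nontrivial_iff_card.1 hc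
  have hdvd' : r ∣ Nat.card (Subgroup.center B) := by
    rw [hk]; exact dvd_pow_self r hk0.ne'
  obtain ⟨z, hz⟩ := exists_prime_orderOf_dvd_card' (G := Subgroup.center B) r hdvd'
  refine ⟨((z : B) : H), (z : B).2, ?_, ?_⟩
  · rw [Subgroup.orderOf_coe, Subgroup.orderOf_coe, hz]
  · intro b hb
    have := Subgroup.mem_center_iff.1 z.2 ⟨b, hb⟩
    exact congrArg Subtype.val this

/-- `r`-subgroups are cyclic -/
theorem isCyclic_of_rgroup (B : Subgroup H) (hB : IsPGroup r B) : IsCyclic B := by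
  by_cases hB1 : B = ⊥
  · rw [hB1]
    infer_instance
  obtain ⟨z, -, hz, hzc⟩ := exists_central_of_rgroup H hr hdvd hppd B hB hB1
  exact isCyclic_of_commute_irr H z (irr_of_order H hr hdvd hppd z hz) B hzc

/-- a non-trivial normal `r`-subgroup gives an irreducible cyclic normal subgroup -/
theorem hasIrrCyc_of_normal_rgroup (htr : Trans H) (N : Subgroup H) (hNn : N.Normal)
    (hN : IsPGroup r N) (hN1 : N ≠ ⊥) : HasIrrCyc H := by
  obtain ⟨z, hzN, hz, hzc⟩ := exists_central_of_rgroup H hr hdvd hppd N hN hN1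
  have hirr := irr_of_order H hr hdvd hppd z hz
  set Z : Subgroup H := (Subgroup.center N).map N.subtype with hZ
  have hZn : Z.Normal := by
    rw [hZ]
    infer_instance
  have hZc : ∀ a ∈ Z, ∀ b ∈ Z, a * b = b * a := by
    rintro _ ⟨a, ha, rfl⟩ _ ⟨b, _, rfl⟩
    have := Subgroup.mem_center_iff.1 ha b
    exact (congrArg Subtype.val this).symm
  have hzZ : z ∈ Z := by
    refine ⟨⟨z, hzN⟩, ?_, rfl⟩
    show (⟨z, hzN⟩ : N) ∈ Subgroup.center N
    rw [Subgroup.mem_center_iff]
    intro b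
    exact Subtype.ext (hzc b b.2)
  refine ⟨Z, hZn, isCyclic_of_abelian_normal H htr Z hZn hZc, ?_⟩
  intro W hW
  exact hirr W (fun w hw => hW z hzZ w hw)

/-- if the `r`-core is trivial, an element of order `r` does not centralise all cores -/
theorem exists_core_not_centralized (hsolv : Group.IsSolvable H)
    (hcore : Cfsg.pCore r H = ⊥) (x : H) (hx : orderOf x = r) :
    ∃ s : ℕ, s.Prime ∧ ⁅Cfsg.pCore s H, Subgroup.zpowers x⁆ ≠ ⊥ := by
  have hfinL : Finite (V ≃ₗ[ZMod p] V) := Cfsg.Agent.Lib.Helper12_SolvReg.finite_equiv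
  have : Fact r.Prime := ⟨hr⟩
  by_contra hcon
  push Not at hcon
  have h1 : Cfsg.fittingSubgroup H ≤ Subgroup.centralizer ({x} : Set H) := by
    rw [Cfsg.Agent.Lib.Helper1_Cores.fittingSubgroup_eq_iSup_pCore]
    apply iSup_le
    intro q
    have h2 := hcon q q.2
    rw [Subgroup.commutator_eq_bot_iff_le_centralizer] at h2
    refine h2.trans (Subgroup.centralizer_le ?_)
    intro y hy
    rw [Set.mem_singleton_iff.1 hy]
    exact Subgroup.mem_zpowers x
  have h2 : x ∈ Subgroup.centralizer (Cfsg.fittingSubgroup H : Set H) := by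
    rw [Subgroup.mem_centralizer_iff]
    intro f hf
    have := Subgroup.mem_centralizer_iff.1 (h1 hf) x (Set.mem_singleton x)
    exact this.symm
  have h3 : x ∈ Cfsg.fittingSubgroup H :=
    Cfsg.Agent.Lib.Helper55_Fitting.centralizer_fittingSubgroup_le h2
  set F := Cfsg.fittingSubgroup H with hF
  have hFnil : Group.IsNilpotent F := Cfsg.Agent.Lib.Helper1_Cores.fittingSubgroup_isNilpotent
  have hFn : F.Normal := Cfsg.Agent.Lib.Helper1_Cores.fittingSubgroup_normal
  have hxF : orderOf (⟨x, h3⟩ : F) = r := by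
    rw [← Subgroup.orderOf_coe]
    exact hx
  have hzp : IsPGroup r (Subgroup.zpowers (⟨x, h3⟩ : F)) := by
    apply IsPGroup.of_card (n := 1)
    rw [Nat.card_zpowers, hxF, pow_one]
  obtain ⟨P, hP⟩ := hzp.exists_le_sylow
  have hPn : (P : Subgroup F).Normal := inferInstance
  have hPc : (P : Subgroup F).Characteristic := P.characteristic_of_normal hPn
  have hnorm : ((P : Subgroup F).map F.subtype).Normal := inferInstance
  have h4 : (P : Subgroup F).map F.subtype ≤ Cfsg.pCore r H :=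
    Cfsg.Agent.Lib.Helper1_Cores.le_pCore hnorm (P.isPGroup'.map _)
  rw [hcore] at h4
  have h5 : x ∈ (⊥ : Subgroup H) :=
    h4 ⟨⟨x, h3⟩, hP (Subgroup.mem_zpowers _), rfl⟩
  rw [Subgroup.mem_bot] at h5
  rw [h5, orderOf_one] at hx
  exact hr.one_lt.ne hx

/-- **the primitive prime divisor case** -/
theorem ppd_case (hsolv : Group.IsSolvable H) (htr : Trans H) :
    HasIrrCyc H ∨ (r = finrank (ZMod p) V + 1 ∧ ¬ r ^ 2 ∣ p ^ finrank (ZMod p) V - 1 ∧
      ∃ s w, s.Prime ∧ s ≠ p ∧ finrank (ZMod p) V = s ^ w) := by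
  classical
  have hp : p.Prime := Fact.out
  have hfinL : Finite (V ≃ₗ[ZMod p] V) := Cfsg.Agent.Lib.Helper12_SolvReg.finite_equiv
  have : Fact r.Prime := ⟨hr⟩
  have hn0 : 0 < finrank (ZMod p) V := finrank_pos' (p := p) (V := V)
  have hpow1 : 1 ≤ p ^ finrank (ZMod p) V := Nat.one_le_pow _ _ hp.pos
  have hpr : p ≠ r := by
    intro hpr
    have h1 : p ∣ p ^ finrank (ZMod p) V := dvd_pow_self p hn0.ne'
    have h2 : p ∣ p ^ finrank (ZMod p) V - (p ^ finrank (ZMod p) V - 1) :=
      Nat.dvd_sub h1 (hpr ▸ hdvd)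
    have h3 : p ^ finrank (ZMod p) V - (p ^ finrank (ZMod p) V - 1) = 1 := by omega
    rw [h3] at h2
    exact hp.one_lt.ne' (Nat.dvd_one.1 h2)
  have hVH : (p ^ finrank (ZMod p) V - 1) ∣ Nat.card H := by
    have h1 := card_sub_one_dvd H htr
    rwa [card_V (p := p)] at h1
  have hrH : r ∣ Nat.card H := hdvd.trans hVH
  by_cases hcore : Cfsg.pCore r H = ⊥
  swap
  · left
    exact hasIrrCyc_of_normal_rgroup H hr hdvd hppd htr _
      (Cfsg.Agent.Lib.Helper1_Cores.pCore_normal r)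
      (Cfsg.Agent.Lib.Helper1_Cores.pCore_isPGroup r) hcore
  right
  -- a Sylow `r`-subgroup
  obtain ⟨B⟩ : Nonempty (Sylow r H) := inferInstance
  have hBcyc : IsCyclic (B : Subgroup H) := isCyclic_of_rgroup H hr hdvd hppd B B.isPGroup'
  set b := (Nat.card H).factorization r with hb
  have hBcard : Nat.card (B : Subgroup H) = r ^ b := B.card_eq_multiplicity
  have hb1 : 1 ≤ b := hr.factorization_pos_of_dvd Nat.card_pos.ne' hrH
  obtain ⟨⟨y, hyB⟩, hy⟩ := hBcyc.exists_generator
  have hyord : orderOf y = r ^ b := by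
    rw [← hBcard, ← orderOf_eq_card_of_forall_mem_zpowers hy]
    exact (Subgroup.orderOf_mk y hyB).symm
  have hBpow : ∀ c ∈ (B : Subgroup H), ∃ k : ℤ, y ^ k = c := by
    intro c hc
    obtain ⟨k, hk⟩ := Subgroup.mem_zpowers_iff.1 (hy ⟨c, hc⟩)
    exact ⟨k, by simpa using congrArg Subtype.val hk⟩
  have hBcomm : ∀ c ∈ (B : Subgroup H), ∀ d ∈ (B : Subgroup H), c * d = d * c := by
    intro c hc d hd
    obtain ⟨k, rfl⟩ := hBpow c hc
    obtain ⟨l, rfl⟩ := hBpow d hd
    exact (Commute.zpow_zpow_self y k l).eq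
  set x := y ^ r ^ (b - 1) with hx
  have hxB : x ∈ (B : Subgroup H) := Subgroup.pow_mem _ hyB _
  have hxord : orderOf x = r := by
    rw [hx, orderOf_pow_of_dvd (pow_ne_zero _ hr.pos.ne'), hyord, Nat.pow_div (by omega) hr.pos]
    · have : b - (b - 1) = 1 := by omega
      rw [this, pow_one]
    · rw [hyord]
      exact pow_dvd_pow r (by omega)
  have hirr : Irr H x := irr_of_order H hr hdvd hppd x hxord
  obtain ⟨s, hs, hsne⟩ := exists_core_not_centralized H hr hdvd hppd hsolv hcore x hxord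
  have : Fact s.Prime := ⟨hs⟩
  set A := Subgroup.zpowers x with hA
  have hsr : s ≠ r := by
    rintro rfl
    apply hsne
    rw [hcore]
    exact Subgroup.commutator_bot_left _
  have hsp : s ≠ p := by
    rintro rfl
    apply hsne
    rw [pCore_char_eq_bot H htr]
    exact Subgroup.commutator_bot_left _
  have hAB : A ≤ (B : Subgroup H) := Subgroup.zpowers_le.2 hxB
  -- a minimal `B`-invariant subgroup not centralised by `A`
  have hSn : (Cfsg.pCore s H).Normal := Cfsg.Agent.Lib.Helper1_Cores.pCore_normal s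
  have h0 : (fun P : Subgroup H => P ≤ Cfsg.pCore s H ∧
      (B : Subgroup H) ≤ Subgroup.normalizer (P : Set H) ∧ ⁅P, A⁆ ≠ ⊥) (Cfsg.pCore s H) := by
    refine ⟨le_refl _, ?_, hsne⟩
    rw [Subgroup.normalizer_eq_top]
    exact le_top
  obtain ⟨P, -, hPmin⟩ := Finite.exists_le_minimal
    (p := fun P : Subgroup H => P ≤ Cfsg.pCore s H ∧
      (B : Subgroup H) ≤ Subgroup.normalizer (P : Set H) ∧ ⁅P, A⁆ ≠ ⊥) (a := Cfsg.pCore s H) h0
  obtain ⟨hPS, hBP, hPA⟩ := hPmin.prop
  have hmin : ∀ U : Subgroup H, U < P → (B : Subgroup H) ≤ Subgroup.normalizer (U : Set H) →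
      ⁅U, A⁆ = ⊥ := by
    intro U hU hBU
    by_contra hne
    have h1 := hPmin.le_of_le ⟨hU.le.trans hPS, hBU, hne⟩ hU.le
    exact absurd h1 (not_le_of_gt hU)
  have hPp : IsPGroup s P := (Cfsg.Agent.Lib.Helper1_Cores.pCore_isPGroup s).to_le hPS
  have hAn : (B : Subgroup H) ≤ Subgroup.normalizer (A : Set H) := by
    apply le_normalizer_of_conj_mem
    intro c hc u hu
    have : c * u * c⁻¹ = u := by
      rw [hBcomm c hc u (hAB hu)]; group
    rw [this]; exact hu
  have hAcard : Nat.card A = r := by rw [hA, Nat.card_zpowers, hxord]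
  have hAp : (Nat.card A).Coprime s := by
    rw [hAcard]
    exact (Nat.coprime_primes hr hs).2 (Ne.symm hsr)
  obtain ⟨hcomm, hstr, hirrP, -⟩ := Cfsg.Agent.S3736.result (p := s) (B : Subgroup H) A P hPp hBP
    hAB hAn hAp hPA hmin
  have hxP : x ∈ Subgroup.normalizer (P : Set H) := hBP hxB
  -- `P` is not centralised by `x`
  have hnc : ¬ ∀ u ∈ P, u * x = x * u := by
    intro hall
    apply hPA
    rw [Subgroup.commutator_eq_bot_iff_le_centralizer]
    intro u hu
    rw [Subgroup.mem_centralizer_iff]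
    intro a ha
    obtain ⟨k, rfl⟩ := Subgroup.mem_zpowers_iff.1 ha
    exact ((Commute.zpow_right (hall u hu) k).eq).symm
  rcases hstr with ⟨hPc, -⟩ | hspec
  · -- the abelian case is impossible
    exfalso
    refine false_of_abelian H hr hs hpr (Ne.symm hsp) hsr x hxord hirr P hPp ?_ hxP hnc
    intro a ha c hc
    have := hPc.is_comm.comm (⟨a, ha⟩ : P) ⟨c, hc⟩
    exact congrArg Subtype.val this
  -- the special case
  obtain ⟨hPp', hfr, hcm⟩ := hspec
  set Z : Subgroup H := (Subgroup.center P).map P.subtype with hZ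
  have hZP : Z ≤ P := Subgroup.map_subtype_le _
  have hPne : P ≠ ⊥ := by
    rintro rfl
    exact hPA (Subgroup.commutator_bot_left _)
  have hPnt : Nontrivial P := (Subgroup.nontrivial_iff_ne_bot P).2 hPne
  have hZne : Z ≠ P := by
    intro hZP'
    have h1 : Subgroup.center P = ⊤ := by
      rw [eq_top_iff]
      intro u _
      have : (u : H) ∈ Z := by rw [hZP']; exact u.2
      obtain ⟨u', hu', hu''⟩ := this
      have : u' = u := Subtype.ext hu''
      rwa [this] at hu'
    have h2 : commutator P = ⊥ := (commutator_eq_bot_iff_center_eq_top _).2 h1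
    rw [hcm, h1] at h2
    exact top_ne_bot h2
  have hZlt : Z < P := lt_of_le_of_ne hZP hZne
  have hBZ : (B : Subgroup H) ≤ Subgroup.normalizer (Z : Set H) :=
    hBP.trans (Cfsg.Agent.Lib.Helper24_CoprimeAction.normalizer_le_normalizer_map_of_characteristic
      P (Subgroup.center P))
  have hZA := hmin Z hZlt hBZ
  have hZx : ∀ z ∈ Z, z * x = x * z := by
    intro z hz
    rw [Subgroup.commutator_eq_bot_iff_le_centralizer] at hZA
    exact (Subgroup.mem_centralizer_iff.1 (hZA hz) x (Subgroup.mem_zpowers x)).symm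
  have hZcyc : IsCyclic Z := isCyclic_of_commute_irr H x hirr Z hZx
  have hZexp : ∀ z : Z, z ^ s = 1 := by
    rintro ⟨_, z, hz, rfl⟩
    apply Subtype.ext
    have := Cfsg.Agent.S0094.result ⟨hPp', hfr, hcm⟩ z hz
    show (P.subtype z) ^ s = 1
    rw [← map_pow, this, map_one]
  have hZcard' : Nat.card Z ∣ s := by
    rw [← IsCyclic.exponent_eq_card]
    exact Monoid.exponent_dvd_of_forall_pow_eq_one hZexp
  have hZcardeq : Nat.card Z = Nat.card (Subgroup.center P) :=
    Subgroup.card_map_of_injective P.subtype_injective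
  have hcnt : Nontrivial (Subgroup.center P) := hPp'.center_nontrivial
  have hZcard : Nat.card (Subgroup.center P) = s := by
    rw [← hZcardeq]
    rcases (Nat.dvd_prime hs).1 hZcard' with h | h
    · exfalso
      rw [hZcardeq] at h
      have := Finite.one_lt_card (α := Subgroup.center P)
      omega
    · exact h
  obtain ⟨w, hw1, hPcard⟩ := Cfsg.Agent.Lib.Helper63_Extraspecial.card_of_extraspecial
    (p := s) (Q := P) ⟨⟨hPp', hfr, hcm⟩, hZcard⟩
  have hES := Cfsg.Agent.Lib.Helper48_ExtraRep.ESLike.of_center (p := s) P w hPp' hfr hcm hZcard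
    hPcard
  have hdim := Cfsg.Agent.Lib.Helper12_Hup3.dim_ge_of_esLike H hsp P Z w hES
  -- the centraliser of `x` in `P` is `Z`
  have hCP : P ⊓ Subgroup.centralizer ({x} : Set H) = Z := by
    have hfrZ : (frattini P).map P.subtype = Z := by rw [hfr]
    have hle1 : (frattini P).map P.subtype ≤ P ⊓ Subgroup.centralizer ({x} : Set H) := by
      rw [hfrZ]
      intro z hz
      refine ⟨hZP hz, ?_⟩
      show z ∈ Subgroup.centralizer ({x} : Set H)
      rw [Subgroup.mem_centralizer_iff]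
      intro t ht
      rw [Set.mem_singleton_iff.1 ht]
      exact (hZx z hz).symm
    have hnorm1 : (B : Subgroup H) ≤
        Subgroup.normalizer ((P ⊓ Subgroup.centralizer ({x} : Set H) : Subgroup H) : Set H) := by
      apply le_normalizer_of_conj_mem
      rintro c hc u ⟨huP, huc⟩
      refine ⟨(Subgroup.mem_normalizer_iff.1 (hBP hc) u).1 huP, ?_⟩
      show c * u * c⁻¹ ∈ Subgroup.centralizer ({x} : Set H)
      rw [Subgroup.mem_centralizer_iff]
      intro t ht
      rw [Set.mem_singleton_iff.1 ht]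
      have h1 : x * u = u * x := Subgroup.mem_centralizer_iff.1 huc x (Set.mem_singleton x)
      have h2 : c * x = x * c := hBcomm c hc x hxB
      have h3 : x * c⁻¹ = c⁻¹ * x := by
        calc x * c⁻¹ = c⁻¹ * (c * x) * c⁻¹ := by group
          _ = c⁻¹ * (x * c) * c⁻¹ := by rw [h2]
          _ = c⁻¹ * x := by group
      calc x * (c * u * c⁻¹) = (x * c) * u * c⁻¹ := by group
        _ = (c * x) * u * c⁻¹ := by rw [h2]
        _ = c * (x * u) * c⁻¹ := by group
        _ = c * (u * x) * c⁻¹ := by rw [h1]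
        _ = c * u * (x * c⁻¹) := by group
        _ = c * u * (c⁻¹ * x) := by rw [h3]
        _ = c * u * c⁻¹ * x := by group
    rcases hirrP (P ⊓ Subgroup.centralizer ({x} : Set H)) hle1 inf_le_left hnorm1 with h | h
    · rw [h, hfrZ]
    · exfalso
      apply hnc
      intro u hu
      have : u ∈ P ⊓ Subgroup.centralizer ({x} : Set H) := by rw [h]; exact hu
      exact (Subgroup.mem_centralizer_iff.1 this.2 x (Set.mem_singleton x)).symm
  obtain ⟨m, hm⟩ := Cfsg.Agent.Lib.Helper46_FreeOrb.card_eq_add_mul P y (hBP hyB) r b hr hb1 hyord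
  rw [← hx, hCP, hPcard, hZcardeq, hZcard] at hm
  have hnr : finrank (ZMod p) V ∣ r - 1 :=
    Cfsg.Agent.Lib.Helper99_PrimPart.ppd_modEq hp.pos hr hdvd hppd hn0
  obtain ⟨h1, h2, h3⟩ := arith1 hr hs hsr hw1 hb1 hnr hn0 hdim hm
  refine ⟨h1, ?_, s, w, hs, hsp, h2⟩
  intro h4
  have h5 : r ^ 2 ∣ Nat.card H := h4.trans hVH
  have h6 := (hr.pow_dvd_iff_le_factorization Nat.card_pos.ne').1 h5
  omega

end ppd

end Cfsg.Agent.Lib.Helper12_Hup5
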