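import Mathlib
import Cfsg.Agent.Lib.Helper99_PrimPart

/-!
# Explicit values of the primitive part

Evaluation of `Φ_n(q)` for the finitely many small pairs `(q, n)` not covered by the general
bound, and the resulting classification of the pairs with primitive part at most `3 n`.
(The value lemmas are generated mechanically from the two recursion formulas for `Φ_{kp}`.)
-/

set_option autoImplicit false

namespace Cfsg.Agent.Lib.Helper99_PrimPartEval

open Cfsg.Agent.Lib.Helper99_Zsigmondy Cfsg.Agent.Lib.Helper99_CycloBound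
  Cfsg.Agent.Lib.Helper99_PrimPart

/-- The thirteen pairs `(q, n)` with primitive part at most `3 n`, with the primitive part. -/
def ppTable : List (ℕ × ℕ × ℕ) :=
  [(2, 6, 1), (2, 4, 5), (2, 10, 11), (2, 12, 13), (2, 18, 19), (3, 4, 5), (3, 6, 7), (5, 6, 7),
    (2, 3, 7), (2, 8, 17), (2, 20, 41), (4, 3, 7), (4, 6, 13)]

lemma phi_8_1 : phi 8 1 = 7 := by
  have h := phi_one (a := 8) (by norm_num)
  generalize phi 8 1 = x at h ⊢
  omega

lemma phi_2_1 : phi 2 1 = 1 := by
  have h := phi_one (a := 2) (by norm_num)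
  generalize phi 2 1 = x at h ⊢
  omega

lemma phi_2_3 : phi 2 3 = 7 := by
  have h := phi_mul_prime_of_not_dvd (a := 2) (k := 1) (p := 3) (by norm_num) (by norm_num)
  rw [show (1 * 3 : ℕ) = 3 by norm_num, show (2 ^ 3 : ℕ) = 8 by norm_num, phi_8_1, phi_2_1] at h
  generalize phi 2 3 = x at h ⊢
  omega

lemma phi_27_1 : phi 27 1 = 26 := by
  have h := phi_one (a := 27) (by norm_num)
  generalize phi 27 1 = x at h ⊢
  omega

lemma phi_3_1 : phi 3 1 = 2 := by
  have h := phi_one (a := 3) (by norm_num)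
  generalize phi 3 1 = x at h ⊢
  omega

lemma phi_3_3 : phi 3 3 = 13 := by
  have h := phi_mul_prime_of_not_dvd (a := 3) (k := 1) (p := 3) (by norm_num) (by norm_num)
  rw [show (1 * 3 : ℕ) = 3 by norm_num, show (3 ^ 3 : ℕ) = 27 by norm_num, phi_27_1, phi_3_1] at h
  generalize phi 3 3 = x at h ⊢
  omega

lemma phi_64_1 : phi 64 1 = 63 := by
  have h := phi_one (a := 64) (by norm_num)
  generalize phi 64 1 = x at h ⊢
  omega

lemma phi_4_1 : phi 4 1 = 3 := by
  have h := phi_one (a := 4) (by norm_num)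
  generalize phi 4 1 = x at h ⊢
  omega

lemma phi_4_3 : phi 4 3 = 21 := by
  have h := phi_mul_prime_of_not_dvd (a := 4) (k := 1) (p := 3) (by norm_num) (by norm_num)
  rw [show (1 * 3 : ℕ) = 3 by norm_num, show (4 ^ 3 : ℕ) = 64 by norm_num, phi_64_1, phi_4_1] at h
  generalize phi 4 3 = x at h ⊢
  omega

lemma phi_125_1 : phi 125 1 = 124 := by
  have h := phi_one (a := 125) (by norm_num)
  generalize phi 125 1 = x at h ⊢
  omega

lemma phi_5_1 : phi 5 1 = 4 := by
  have h := phi_one (a := 5) (by norm_num)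
  generalize phi 5 1 = x at h ⊢
  omega

lemma phi_5_3 : phi 5 3 = 31 := by
  have h := phi_mul_prime_of_not_dvd (a := 5) (k := 1) (p := 3) (by norm_num) (by norm_num)
  rw [show (1 * 3 : ℕ) = 3 by norm_num, show (5 ^ 3 : ℕ) = 125 by norm_num, phi_125_1, phi_5_1] at h
  generalize phi 5 3 = x at h ⊢
  omega

lemma phi_216_1 : phi 216 1 = 215 := by
  have h := phi_one (a := 216) (by norm_num)
  generalize phi 216 1 = x at h ⊢
  omega

lemma phi_6_1 : phi 6 1 = 5 := by
  have h := phi_one (a := 6) (by norm_num)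
  generalize phi 6 1 = x at h ⊢
  omega

lemma phi_6_3 : phi 6 3 = 43 := by
  have h := phi_mul_prime_of_not_dvd (a := 6) (k := 1) (p := 3) (by norm_num) (by norm_num)
  rw [show (1 * 3 : ℕ) = 3 by norm_num, show (6 ^ 3 : ℕ) = 216 by norm_num, phi_216_1, phi_6_1] at h
  generalize phi 6 3 = x at h ⊢
  omega

lemma phi_343_1 : phi 343 1 = 342 := by
  have h := phi_one (a := 343) (by norm_num)
  generalize phi 343 1 = x at h ⊢
  omega

lemma phi_7_1 : phi 7 1 = 6 := by
  have h := phi_one (a := 7) (by norm_num)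
  generalize phi 7 1 = x at h ⊢
  omega

lemma phi_7_3 : phi 7 3 = 57 := by
  have h := phi_mul_prime_of_not_dvd (a := 7) (k := 1) (p := 3) (by norm_num) (by norm_num)
  rw [show (1 * 3 : ℕ) = 3 by norm_num, show (7 ^ 3 : ℕ) = 343 by norm_num, phi_343_1, phi_7_1] at h
  generalize phi 7 3 = x at h ⊢
  omega

lemma phi_512_1 : phi 512 1 = 511 := by
  have h := phi_one (a := 512) (by norm_num)
  generalize phi 512 1 = x at h ⊢
  omega

lemma phi_8_3 : phi 8 3 = 73 := by
  have h := phi_mul_prime_of_not_dvd (a := 8) (k := 1) (p := 3) (by norm_num) (by norm_num)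
  rw [show (1 * 3 : ℕ) = 3 by norm_num, show (8 ^ 3 : ℕ) = 512 by norm_num, phi_512_1, phi_8_1] at h
  generalize phi 8 3 = x at h ⊢
  omega

lemma phi_729_1 : phi 729 1 = 728 := by
  have h := phi_one (a := 729) (by norm_num)
  generalize phi 729 1 = x at h ⊢
  omega

lemma phi_9_1 : phi 9 1 = 8 := by
  have h := phi_one (a := 9) (by norm_num)
  generalize phi 9 1 = x at h ⊢
  omega

lemma phi_9_3 : phi 9 3 = 91 := by
  have h := phi_mul_prime_of_not_dvd (a := 9) (k := 1) (p := 3) (by norm_num) (by norm_num)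
  rw [show (1 * 3 : ℕ) = 3 by norm_num, show (9 ^ 3 : ℕ) = 729 by norm_num, phi_729_1, phi_9_1] at h
  generalize phi 9 3 = x at h ⊢
  omega

lemma phi_1000_1 : phi 1000 1 = 999 := by
  have h := phi_one (a := 1000) (by norm_num)
  generalize phi 1000 1 = x at h ⊢
  omega

lemma phi_10_1 : phi 10 1 = 9 := by
  have h := phi_one (a := 10) (by norm_num)
  generalize phi 10 1 = x at h ⊢
  omega

lemma phi_10_3 : phi 10 3 = 111 := by
  have h := phi_mul_prime_of_not_dvd (a := 10) (k := 1) (p := 3) (by norm_num) (by norm_num)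
  rw [show (1 * 3 : ℕ) = 3 by norm_num, show (10 ^ 3 : ℕ) = 1000 by norm_num, phi_1000_1, phi_10_1] at h
  generalize phi 10 3 = x at h ⊢
  omega

lemma phi_4_2 : phi 4 2 = 5 := by
  have h := phi_two (a := 4)
  generalize phi 4 2 = x at h ⊢
  omega

lemma phi_2_4 : phi 2 4 = 5 := by
  have h := phi_mul_prime_of_dvd (a := 2) (k := 2) (p := 2) (by norm_num) (by norm_num)
  rw [show (2 * 2 : ℕ) = 4 by norm_num, show (2 ^ 2 : ℕ) = 4 by norm_num, phi_4_2] at h
  exact h

lemma phi_9_2 : phi 9 2 = 10 := by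
  have h := phi_two (a := 9)
  generalize phi 9 2 = x at h ⊢
  omega

lemma phi_3_4 : phi 3 4 = 10 := by
  have h := phi_mul_prime_of_dvd (a := 3) (k := 2) (p := 2) (by norm_num) (by norm_num)
  rw [show (2 * 2 : ℕ) = 4 by norm_num, show (3 ^ 2 : ℕ) = 9 by norm_num, phi_9_2] at h
  exact h

lemma phi_16_2 : phi 16 2 = 17 := by
  have h := phi_two (a := 16)
  generalize phi 16 2 = x at h ⊢
  omega

lemma phi_4_4 : phi 4 4 = 17 := by
  have h := phi_mul_prime_of_dvd (a := 4) (k := 2) (p := 2) (by norm_num) (by norm_num)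
  rw [show (2 * 2 : ℕ) = 4 by norm_num, show (4 ^ 2 : ℕ) = 16 by norm_num, phi_16_2] at h
  exact h

lemma phi_25_2 : phi 25 2 = 26 := by
  have h := phi_two (a := 25)
  generalize phi 25 2 = x at h ⊢
  omega

lemma phi_5_4 : phi 5 4 = 26 := by
  have h := phi_mul_prime_of_dvd (a := 5) (k := 2) (p := 2) (by norm_num) (by norm_num)
  rw [show (2 * 2 : ℕ) = 4 by norm_num, show (5 ^ 2 : ℕ) = 25 by norm_num, phi_25_2] at h
  exact h

lemma phi_36_2 : phi 36 2 = 37 := by
  have h := phi_two (a := 36)
  generalize phi 36 2 = x at h ⊢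
  omega

lemma phi_6_4 : phi 6 4 = 37 := by
  have h := phi_mul_prime_of_dvd (a := 6) (k := 2) (p := 2) (by norm_num) (by norm_num)
  rw [show (2 * 2 : ℕ) = 4 by norm_num, show (6 ^ 2 : ℕ) = 36 by norm_num, phi_36_2] at h
  exact h

lemma phi_49_2 : phi 49 2 = 50 := by
  have h := phi_two (a := 49)
  generalize phi 49 2 = x at h ⊢
  omega

lemma phi_7_4 : phi 7 4 = 50 := by
  have h := phi_mul_prime_of_dvd (a := 7) (k := 2) (p := 2) (by norm_num) (by norm_num)
  rw [show (2 * 2 : ℕ) = 4 by norm_num, show (7 ^ 2 : ℕ) = 49 by norm_num, phi_49_2] at h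
  exact h

lemma phi_64_2 : phi 64 2 = 65 := by
  have h := phi_two (a := 64)
  generalize phi 64 2 = x at h ⊢
  omega

lemma phi_8_4 : phi 8 4 = 65 := by
  have h := phi_mul_prime_of_dvd (a := 8) (k := 2) (p := 2) (by norm_num) (by norm_num)
  rw [show (2 * 2 : ℕ) = 4 by norm_num, show (8 ^ 2 : ℕ) = 64 by norm_num, phi_64_2] at h
  exact h

lemma phi_81_2 : phi 81 2 = 82 := by
  have h := phi_two (a := 81)
  generalize phi 81 2 = x at h ⊢
  omega

lemma phi_9_4 : phi 9 4 = 82 := by
  have h := phi_mul_prime_of_dvd (a := 9) (k := 2) (p := 2) (by norm_num) (by norm_num)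
  rw [show (2 * 2 : ℕ) = 4 by norm_num, show (9 ^ 2 : ℕ) = 81 by norm_num, phi_81_2] at h
  exact h

lemma phi_100_2 : phi 100 2 = 101 := by
  have h := phi_two (a := 100)
  generalize phi 100 2 = x at h ⊢
  omega

lemma phi_10_4 : phi 10 4 = 101 := by
  have h := phi_mul_prime_of_dvd (a := 10) (k := 2) (p := 2) (by norm_num) (by norm_num)
  rw [show (2 * 2 : ℕ) = 4 by norm_num, show (10 ^ 2 : ℕ) = 100 by norm_num, phi_100_2] at h
  exact h

lemma phi_121_2 : phi 121 2 = 122 := by
  have h := phi_two (a := 121)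
  generalize phi 121 2 = x at h ⊢
  omega

lemma phi_11_4 : phi 11 4 = 122 := by
  have h := phi_mul_prime_of_dvd (a := 11) (k := 2) (p := 2) (by norm_num) (by norm_num)
  rw [show (2 * 2 : ℕ) = 4 by norm_num, show (11 ^ 2 : ℕ) = 121 by norm_num, phi_121_2] at h
  exact h

lemma phi_144_2 : phi 144 2 = 145 := by
  have h := phi_two (a := 144)
  generalize phi 144 2 = x at h ⊢
  omega

lemma phi_12_4 : phi 12 4 = 145 := by
  have h := phi_mul_prime_of_dvd (a := 12) (k := 2) (p := 2) (by norm_num) (by norm_num)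
  rw [show (2 * 2 : ℕ) = 4 by norm_num, show (12 ^ 2 : ℕ) = 144 by norm_num, phi_144_2] at h
  exact h

lemma phi_32_1 : phi 32 1 = 31 := by
  have h := phi_one (a := 32) (by norm_num)
  generalize phi 32 1 = x at h ⊢
  omega

lemma phi_2_5 : phi 2 5 = 31 := by
  have h := phi_mul_prime_of_not_dvd (a := 2) (k := 1) (p := 5) (by norm_num) (by norm_num)
  rw [show (1 * 5 : ℕ) = 5 by norm_num, show (2 ^ 5 : ℕ) = 32 by norm_num, phi_32_1, phi_2_1] at h
  generalize phi 2 5 = x at h ⊢
  omega

lemma phi_243_1 : phi 243 1 = 242 := by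
  have h := phi_one (a := 243) (by norm_num)
  generalize phi 243 1 = x at h ⊢
  omega

lemma phi_3_5 : phi 3 5 = 121 := by
  have h := phi_mul_prime_of_not_dvd (a := 3) (k := 1) (p := 5) (by norm_num) (by norm_num)
  rw [show (1 * 5 : ℕ) = 5 by norm_num, show (3 ^ 5 : ℕ) = 243 by norm_num, phi_243_1, phi_3_1] at h
  generalize phi 3 5 = x at h ⊢
  omega

lemma phi_1024_1 : phi 1024 1 = 1023 := by
  have h := phi_one (a := 1024) (by norm_num)
  generalize phi 1024 1 = x at h ⊢
  omega

lemma phi_4_5 : phi 4 5 = 341 := by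
  have h := phi_mul_prime_of_not_dvd (a := 4) (k := 1) (p := 5) (by norm_num) (by norm_num)
  rw [show (1 * 5 : ℕ) = 5 by norm_num, show (4 ^ 5 : ℕ) = 1024 by norm_num, phi_1024_1, phi_4_1] at h
  generalize phi 4 5 = x at h ⊢
  omega

lemma phi_2_6 : phi 2 6 = 3 := by
  have h := phi_mul_prime_of_not_dvd (a := 2) (k := 3) (p := 2) (by norm_num) (by norm_num)
  rw [show (3 * 2 : ℕ) = 6 by norm_num, show (2 ^ 2 : ℕ) = 4 by norm_num, phi_4_3, phi_2_3] at h
  generalize phi 2 6 = x at h ⊢
  omega

lemma phi_3_6 : phi 3 6 = 7 := by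
  have h := phi_mul_prime_of_not_dvd (a := 3) (k := 3) (p := 2) (by norm_num) (by norm_num)
  rw [show (3 * 2 : ℕ) = 6 by norm_num, show (3 ^ 2 : ℕ) = 9 by norm_num, phi_9_3, phi_3_3] at h
  generalize phi 3 6 = x at h ⊢
  omega

lemma phi_4096_1 : phi 4096 1 = 4095 := by
  have h := phi_one (a := 4096) (by norm_num)
  generalize phi 4096 1 = x at h ⊢
  omega

lemma phi_16_1 : phi 16 1 = 15 := by
  have h := phi_one (a := 16) (by norm_num)
  generalize phi 16 1 = x at h ⊢
  omega

lemma phi_16_3 : phi 16 3 = 273 := by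
  have h := phi_mul_prime_of_not_dvd (a := 16) (k := 1) (p := 3) (by norm_num) (by norm_num)
  rw [show (1 * 3 : ℕ) = 3 by norm_num, show (16 ^ 3 : ℕ) = 4096 by norm_num, phi_4096_1, phi_16_1] at h
  generalize phi 16 3 = x at h ⊢
  omega

lemma phi_4_6 : phi 4 6 = 13 := by
  have h := phi_mul_prime_of_not_dvd (a := 4) (k := 3) (p := 2) (by norm_num) (by norm_num)
  rw [show (3 * 2 : ℕ) = 6 by norm_num, show (4 ^ 2 : ℕ) = 16 by norm_num, phi_16_3, phi_4_3] at h
  generalize phi 4 6 = x at h ⊢
  omega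

lemma phi_15625_1 : phi 15625 1 = 15624 := by
  have h := phi_one (a := 15625) (by norm_num)
  generalize phi 15625 1 = x at h ⊢
  omega

lemma phi_25_1 : phi 25 1 = 24 := by
  have h := phi_one (a := 25) (by norm_num)
  generalize phi 25 1 = x at h ⊢
  omega

lemma phi_25_3 : phi 25 3 = 651 := by
  have h := phi_mul_prime_of_not_dvd (a := 25) (k := 1) (p := 3) (by norm_num) (by norm_num)
  rw [show (1 * 3 : ℕ) = 3 by norm_num, show (25 ^ 3 : ℕ) = 15625 by norm_num, phi_15625_1, phi_25_1] at h
  generalize phi 25 3 = x at h ⊢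
  omega

lemma phi_5_6 : phi 5 6 = 21 := by
  have h := phi_mul_prime_of_not_dvd (a := 5) (k := 3) (p := 2) (by norm_num) (by norm_num)
  rw [show (3 * 2 : ℕ) = 6 by norm_num, show (5 ^ 2 : ℕ) = 25 by norm_num, phi_25_3, phi_5_3] at h
  generalize phi 5 6 = x at h ⊢
  omega

lemma phi_46656_1 : phi 46656 1 = 46655 := by
  have h := phi_one (a := 46656) (by norm_num)
  generalize phi 46656 1 = x at h ⊢
  omega

lemma phi_36_1 : phi 36 1 = 35 := by
  have h := phi_one (a := 36) (by norm_num)
  generalize phi 36 1 = x at h ⊢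
  omega

lemma phi_36_3 : phi 36 3 = 1333 := by
  have h := phi_mul_prime_of_not_dvd (a := 36) (k := 1) (p := 3) (by norm_num) (by norm_num)
  rw [show (1 * 3 : ℕ) = 3 by norm_num, show (36 ^ 3 : ℕ) = 46656 by norm_num, phi_46656_1, phi_36_1] at h
  generalize phi 36 3 = x at h ⊢
  omega

lemma phi_6_6 : phi 6 6 = 31 := by
  have h := phi_mul_prime_of_not_dvd (a := 6) (k := 3) (p := 2) (by norm_num) (by norm_num)
  rw [show (3 * 2 : ℕ) = 6 by norm_num, show (6 ^ 2 : ℕ) = 36 by norm_num, phi_36_3, phi_6_3] at h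
  generalize phi 6 6 = x at h ⊢
  omega

lemma phi_117649_1 : phi 117649 1 = 117648 := by
  have h := phi_one (a := 117649) (by norm_num)
  generalize phi 117649 1 = x at h ⊢
  omega

lemma phi_49_1 : phi 49 1 = 48 := by
  have h := phi_one (a := 49) (by norm_num)
  generalize phi 49 1 = x at h ⊢
  omega

lemma phi_49_3 : phi 49 3 = 2451 := by
  have h := phi_mul_prime_of_not_dvd (a := 49) (k := 1) (p := 3) (by norm_num) (by norm_num)
  rw [show (1 * 3 : ℕ) = 3 by norm_num, show (49 ^ 3 : ℕ) = 117649 by norm_num, phi_117649_1, phi_49_1] at h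
  generalize phi 49 3 = x at h ⊢
  omega

lemma phi_7_6 : phi 7 6 = 43 := by
  have h := phi_mul_prime_of_not_dvd (a := 7) (k := 3) (p := 2) (by norm_num) (by norm_num)
  rw [show (3 * 2 : ℕ) = 6 by norm_num, show (7 ^ 2 : ℕ) = 49 by norm_num, phi_49_3, phi_7_3] at h
  generalize phi 7 6 = x at h ⊢
  omega

lemma phi_262144_1 : phi 262144 1 = 262143 := by
  have h := phi_one (a := 262144) (by norm_num)
  generalize phi 262144 1 = x at h ⊢
  omega

lemma phi_64_3 : phi 64 3 = 4161 := by
  have h := phi_mul_prime_of_not_dvd (a := 64) (k := 1) (p := 3) (by norm_num) (by norm_num)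
  rw [show (1 * 3 : ℕ) = 3 by norm_num, show (64 ^ 3 : ℕ) = 262144 by norm_num, phi_262144_1, phi_64_1] at h
  generalize phi 64 3 = x at h ⊢
  omega

lemma phi_8_6 : phi 8 6 = 57 := by
  have h := phi_mul_prime_of_not_dvd (a := 8) (k := 3) (p := 2) (by norm_num) (by norm_num)
  rw [show (3 * 2 : ℕ) = 6 by norm_num, show (8 ^ 2 : ℕ) = 64 by norm_num, phi_64_3, phi_8_3] at h
  generalize phi 8 6 = x at h ⊢
  omega

lemma phi_531441_1 : phi 531441 1 = 531440 := by
  have h := phi_one (a := 531441) (by norm_num)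
  generalize phi 531441 1 = x at h ⊢
  omega

lemma phi_81_1 : phi 81 1 = 80 := by
  have h := phi_one (a := 81) (by norm_num)
  generalize phi 81 1 = x at h ⊢
  omega

lemma phi_81_3 : phi 81 3 = 6643 := by
  have h := phi_mul_prime_of_not_dvd (a := 81) (k := 1) (p := 3) (by norm_num) (by norm_num)
  rw [show (1 * 3 : ℕ) = 3 by norm_num, show (81 ^ 3 : ℕ) = 531441 by norm_num, phi_531441_1, phi_81_1] at h
  generalize phi 81 3 = x at h ⊢
  omega

lemma phi_9_6 : phi 9 6 = 73 := by
  have h := phi_mul_prime_of_not_dvd (a := 9) (k := 3) (p := 2) (by norm_num) (by norm_num)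
  rw [show (3 * 2 : ℕ) = 6 by norm_num, show (9 ^ 2 : ℕ) = 81 by norm_num, phi_81_3, phi_9_3] at h
  generalize phi 9 6 = x at h ⊢
  omega

lemma phi_1000000_1 : phi 1000000 1 = 999999 := by
  have h := phi_one (a := 1000000) (by norm_num)
  generalize phi 1000000 1 = x at h ⊢
  omega

lemma phi_100_1 : phi 100 1 = 99 := by
  have h := phi_one (a := 100) (by norm_num)
  generalize phi 100 1 = x at h ⊢
  omega

lemma phi_100_3 : phi 100 3 = 10101 := by
  have h := phi_mul_prime_of_not_dvd (a := 100) (k := 1) (p := 3) (by norm_num) (by norm_num)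
  rw [show (1 * 3 : ℕ) = 3 by norm_num, show (100 ^ 3 : ℕ) = 1000000 by norm_num, phi_1000000_1, phi_100_1] at h
  generalize phi 100 3 = x at h ⊢
  omega

lemma phi_10_6 : phi 10 6 = 91 := by
  have h := phi_mul_prime_of_not_dvd (a := 10) (k := 3) (p := 2) (by norm_num) (by norm_num)
  rw [show (3 * 2 : ℕ) = 6 by norm_num, show (10 ^ 2 : ℕ) = 100 by norm_num, phi_100_3, phi_10_3] at h
  generalize phi 10 6 = x at h ⊢
  omega

lemma phi_1771561_1 : phi 1771561 1 = 1771560 := by
  have h := phi_one (a := 1771561) (by norm_num)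
  generalize phi 1771561 1 = x at h ⊢
  omega

lemma phi_121_1 : phi 121 1 = 120 := by
  have h := phi_one (a := 121) (by norm_num)
  generalize phi 121 1 = x at h ⊢
  omega

lemma phi_121_3 : phi 121 3 = 14763 := by
  have h := phi_mul_prime_of_not_dvd (a := 121) (k := 1) (p := 3) (by norm_num) (by norm_num)
  rw [show (1 * 3 : ℕ) = 3 by norm_num, show (121 ^ 3 : ℕ) = 1771561 by norm_num, phi_1771561_1, phi_121_1] at h
  generalize phi 121 3 = x at h ⊢
  omega

lemma phi_1331_1 : phi 1331 1 = 1330 := by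
  have h := phi_one (a := 1331) (by norm_num)
  generalize phi 1331 1 = x at h ⊢
  omega

lemma phi_11_1 : phi 11 1 = 10 := by
  have h := phi_one (a := 11) (by norm_num)
  generalize phi 11 1 = x at h ⊢
  omega

lemma phi_11_3 : phi 11 3 = 133 := by
  have h := phi_mul_prime_of_not_dvd (a := 11) (k := 1) (p := 3) (by norm_num) (by norm_num)
  rw [show (1 * 3 : ℕ) = 3 by norm_num, show (11 ^ 3 : ℕ) = 1331 by norm_num, phi_1331_1, phi_11_1] at h
  generalize phi 11 3 = x at h ⊢
  omega

lemma phi_11_6 : phi 11 6 = 111 := by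
  have h := phi_mul_prime_of_not_dvd (a := 11) (k := 3) (p := 2) (by norm_num) (by norm_num)
  rw [show (3 * 2 : ℕ) = 6 by norm_num, show (11 ^ 2 : ℕ) = 121 by norm_num, phi_121_3, phi_11_3] at h
  generalize phi 11 6 = x at h ⊢
  omega

lemma phi_2985984_1 : phi 2985984 1 = 2985983 := by
  have h := phi_one (a := 2985984) (by norm_num)
  generalize phi 2985984 1 = x at h ⊢
  omega

lemma phi_144_1 : phi 144 1 = 143 := by
  have h := phi_one (a := 144) (by norm_num)
  generalize phi 144 1 = x at h ⊢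
  omega

lemma phi_144_3 : phi 144 3 = 20881 := by
  have h := phi_mul_prime_of_not_dvd (a := 144) (k := 1) (p := 3) (by norm_num) (by norm_num)
  rw [show (1 * 3 : ℕ) = 3 by norm_num, show (144 ^ 3 : ℕ) = 2985984 by norm_num, phi_2985984_1, phi_144_1] at h
  generalize phi 144 3 = x at h ⊢
  omega

lemma phi_1728_1 : phi 1728 1 = 1727 := by
  have h := phi_one (a := 1728) (by norm_num)
  generalize phi 1728 1 = x at h ⊢
  omega

lemma phi_12_1 : phi 12 1 = 11 := by
  have h := phi_one (a := 12) (by norm_num)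
  generalize phi 12 1 = x at h ⊢
  omega

lemma phi_12_3 : phi 12 3 = 157 := by
  have h := phi_mul_prime_of_not_dvd (a := 12) (k := 1) (p := 3) (by norm_num) (by norm_num)
  rw [show (1 * 3 : ℕ) = 3 by norm_num, show (12 ^ 3 : ℕ) = 1728 by norm_num, phi_1728_1, phi_12_1] at h
  generalize phi 12 3 = x at h ⊢
  omega

lemma phi_12_6 : phi 12 6 = 133 := by
  have h := phi_mul_prime_of_not_dvd (a := 12) (k := 3) (p := 2) (by norm_num) (by norm_num)
  rw [show (3 * 2 : ℕ) = 6 by norm_num, show (12 ^ 2 : ℕ) = 144 by norm_num, phi_144_3, phi_12_3] at h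
  generalize phi 12 6 = x at h ⊢
  omega

lemma phi_4826809_1 : phi 4826809 1 = 4826808 := by
  have h := phi_one (a := 4826809) (by norm_num)
  generalize phi 4826809 1 = x at h ⊢
  omega

lemma phi_169_1 : phi 169 1 = 168 := by
  have h := phi_one (a := 169) (by norm_num)
  generalize phi 169 1 = x at h ⊢
  omega

lemma phi_169_3 : phi 169 3 = 28731 := by
  have h := phi_mul_prime_of_not_dvd (a := 169) (k := 1) (p := 3) (by norm_num) (by norm_num)
  rw [show (1 * 3 : ℕ) = 3 by norm_num, show (169 ^ 3 : ℕ) = 4826809 by norm_num, phi_4826809_1, phi_169_1] at h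
  generalize phi 169 3 = x at h ⊢
  omega

lemma phi_2197_1 : phi 2197 1 = 2196 := by
  have h := phi_one (a := 2197) (by norm_num)
  generalize phi 2197 1 = x at h ⊢
  omega

lemma phi_13_1 : phi 13 1 = 12 := by
  have h := phi_one (a := 13) (by norm_num)
  generalize phi 13 1 = x at h ⊢
  omega

lemma phi_13_3 : phi 13 3 = 183 := by
  have h := phi_mul_prime_of_not_dvd (a := 13) (k := 1) (p := 3) (by norm_num) (by norm_num)
  rw [show (1 * 3 : ℕ) = 3 by norm_num, show (13 ^ 3 : ℕ) = 2197 by norm_num, phi_2197_1, phi_13_1] at h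
  generalize phi 13 3 = x at h ⊢
  omega

lemma phi_13_6 : phi 13 6 = 157 := by
  have h := phi_mul_prime_of_not_dvd (a := 13) (k := 3) (p := 2) (by norm_num) (by norm_num)
  rw [show (3 * 2 : ℕ) = 6 by norm_num, show (13 ^ 2 : ℕ) = 169 by norm_num, phi_169_3, phi_13_3] at h
  generalize phi 13 6 = x at h ⊢
  omega

lemma phi_7529536_1 : phi 7529536 1 = 7529535 := by
  have h := phi_one (a := 7529536) (by norm_num)
  generalize phi 7529536 1 = x at h ⊢
  omega

lemma phi_196_1 : phi 196 1 = 195 := by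
  have h := phi_one (a := 196) (by norm_num)
  generalize phi 196 1 = x at h ⊢
  omega

lemma phi_196_3 : phi 196 3 = 38613 := by
  have h := phi_mul_prime_of_not_dvd (a := 196) (k := 1) (p := 3) (by norm_num) (by norm_num)
  rw [show (1 * 3 : ℕ) = 3 by norm_num, show (196 ^ 3 : ℕ) = 7529536 by norm_num, phi_7529536_1, phi_196_1] at h
  generalize phi 196 3 = x at h ⊢
  omega

lemma phi_2744_1 : phi 2744 1 = 2743 := by
  have h := phi_one (a := 2744) (by norm_num)
  generalize phi 2744 1 = x at h ⊢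
  omega

lemma phi_14_1 : phi 14 1 = 13 := by
  have h := phi_one (a := 14) (by norm_num)
  generalize phi 14 1 = x at h ⊢
  omega

lemma phi_14_3 : phi 14 3 = 211 := by
  have h := phi_mul_prime_of_not_dvd (a := 14) (k := 1) (p := 3) (by norm_num) (by norm_num)
  rw [show (1 * 3 : ℕ) = 3 by norm_num, show (14 ^ 3 : ℕ) = 2744 by norm_num, phi_2744_1, phi_14_1] at h
  generalize phi 14 3 = x at h ⊢
  omega

lemma phi_14_6 : phi 14 6 = 183 := by
  have h := phi_mul_prime_of_not_dvd (a := 14) (k := 3) (p := 2) (by norm_num) (by norm_num)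
  rw [show (3 * 2 : ℕ) = 6 by norm_num, show (14 ^ 2 : ℕ) = 196 by norm_num, phi_196_3, phi_14_3] at h
  generalize phi 14 6 = x at h ⊢
  omega

lemma phi_128_1 : phi 128 1 = 127 := by
  have h := phi_one (a := 128) (by norm_num)
  generalize phi 128 1 = x at h ⊢
  omega

lemma phi_2_7 : phi 2 7 = 127 := by
  have h := phi_mul_prime_of_not_dvd (a := 2) (k := 1) (p := 7) (by norm_num) (by norm_num)
  rw [show (1 * 7 : ℕ) = 7 by norm_num, show (2 ^ 7 : ℕ) = 128 by norm_num, phi_128_1, phi_2_1] at h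
  generalize phi 2 7 = x at h ⊢
  omega

lemma phi_2_8 : phi 2 8 = 17 := by
  have h := phi_mul_prime_of_dvd (a := 2) (k := 4) (p := 2) (by norm_num) (by norm_num)
  rw [show (4 * 2 : ℕ) = 8 by norm_num, show (2 ^ 2 : ℕ) = 4 by norm_num, phi_4_4] at h
  exact h

lemma phi_3_8 : phi 3 8 = 82 := by
  have h := phi_mul_prime_of_dvd (a := 3) (k := 4) (p := 2) (by norm_num) (by norm_num)
  rw [show (4 * 2 : ℕ) = 8 by norm_num, show (3 ^ 2 : ℕ) = 9 by norm_num, phi_9_4] at h
  exact h

lemma phi_256_2 : phi 256 2 = 257 := by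
  have h := phi_two (a := 256)
  generalize phi 256 2 = x at h ⊢
  omega

lemma phi_16_4 : phi 16 4 = 257 := by
  have h := phi_mul_prime_of_dvd (a := 16) (k := 2) (p := 2) (by norm_num) (by norm_num)
  rw [show (2 * 2 : ℕ) = 4 by norm_num, show (16 ^ 2 : ℕ) = 256 by norm_num, phi_256_2] at h
  exact h

lemma phi_4_8 : phi 4 8 = 257 := by
  have h := phi_mul_prime_of_dvd (a := 4) (k := 4) (p := 2) (by norm_num) (by norm_num)
  rw [show (4 * 2 : ℕ) = 8 by norm_num, show (4 ^ 2 : ℕ) = 16 by norm_num, phi_16_4] at h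
  exact h

lemma phi_2_9 : phi 2 9 = 73 := by
  have h := phi_mul_prime_of_dvd (a := 2) (k := 3) (p := 3) (by norm_num) (by norm_num)
  rw [show (3 * 3 : ℕ) = 9 by norm_num, show (2 ^ 3 : ℕ) = 8 by norm_num, phi_8_3] at h
  exact h

lemma phi_19683_1 : phi 19683 1 = 19682 := by
  have h := phi_one (a := 19683) (by norm_num)
  generalize phi 19683 1 = x at h ⊢
  omega

lemma phi_27_3 : phi 27 3 = 757 := by
  have h := phi_mul_prime_of_not_dvd (a := 27) (k := 1) (p := 3) (by norm_num) (by norm_num)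
  rw [show (1 * 3 : ℕ) = 3 by norm_num, show (27 ^ 3 : ℕ) = 19683 by norm_num, phi_19683_1, phi_27_1] at h
  generalize phi 27 3 = x at h ⊢
  omega

lemma phi_3_9 : phi 3 9 = 757 := by
  have h := phi_mul_prime_of_dvd (a := 3) (k := 3) (p := 3) (by norm_num) (by norm_num)
  rw [show (3 * 3 : ℕ) = 9 by norm_num, show (3 ^ 3 : ℕ) = 27 by norm_num, phi_27_3] at h
  exact h

lemma phi_2_10 : phi 2 10 = 11 := by
  have h := phi_mul_prime_of_not_dvd (a := 2) (k := 5) (p := 2) (by norm_num) (by norm_num)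
  rw [show (5 * 2 : ℕ) = 10 by norm_num, show (2 ^ 2 : ℕ) = 4 by norm_num, phi_4_5, phi_2_5] at h
  generalize phi 2 10 = x at h ⊢
  omega

lemma phi_59049_1 : phi 59049 1 = 59048 := by
  have h := phi_one (a := 59049) (by norm_num)
  generalize phi 59049 1 = x at h ⊢
  omega

lemma phi_9_5 : phi 9 5 = 7381 := by
  have h := phi_mul_prime_of_not_dvd (a := 9) (k := 1) (p := 5) (by norm_num) (by norm_num)
  rw [show (1 * 5 : ℕ) = 5 by norm_num, show (9 ^ 5 : ℕ) = 59049 by norm_num, phi_59049_1, phi_9_1] at h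
  generalize phi 9 5 = x at h ⊢
  omega

lemma phi_3_10 : phi 3 10 = 61 := by
  have h := phi_mul_prime_of_not_dvd (a := 3) (k := 5) (p := 2) (by norm_num) (by norm_num)
  rw [show (5 * 2 : ℕ) = 10 by norm_num, show (3 ^ 2 : ℕ) = 9 by norm_num, phi_9_5, phi_3_5] at h
  generalize phi 3 10 = x at h ⊢
  omega

lemma phi_1048576_1 : phi 1048576 1 = 1048575 := by
  have h := phi_one (a := 1048576) (by norm_num)
  generalize phi 1048576 1 = x at h ⊢
  omega

lemma phi_16_5 : phi 16 5 = 69905 := by
  have h := phi_mul_prime_of_not_dvd (a := 16) (k := 1) (p := 5) (by norm_num) (by norm_num)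
  rw [show (1 * 5 : ℕ) = 5 by norm_num, show (16 ^ 5 : ℕ) = 1048576 by norm_num, phi_1048576_1, phi_16_1] at h
  generalize phi 16 5 = x at h ⊢
  omega

lemma phi_4_10 : phi 4 10 = 205 := by
  have h := phi_mul_prime_of_not_dvd (a := 4) (k := 5) (p := 2) (by norm_num) (by norm_num)
  rw [show (5 * 2 : ℕ) = 10 by norm_num, show (4 ^ 2 : ℕ) = 16 by norm_num, phi_16_5, phi_4_5] at h
  generalize phi 4 10 = x at h ⊢
  omega

lemma phi_2048_1 : phi 2048 1 = 2047 := by
  have h := phi_one (a := 2048) (by norm_num)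
  generalize phi 2048 1 = x at h ⊢
  omega

lemma phi_2_11 : phi 2 11 = 2047 := by
  have h := phi_mul_prime_of_not_dvd (a := 2) (k := 1) (p := 11) (by norm_num) (by norm_num)
  rw [show (1 * 11 : ℕ) = 11 by norm_num, show (2 ^ 11 : ℕ) = 2048 by norm_num, phi_2048_1, phi_2_1] at h
  generalize phi 2 11 = x at h ⊢
  omega

lemma phi_2_12 : phi 2 12 = 13 := by
  have h := phi_mul_prime_of_dvd (a := 2) (k := 6) (p := 2) (by norm_num) (by norm_num)
  rw [show (6 * 2 : ℕ) = 12 by norm_num, show (2 ^ 2 : ℕ) = 4 by norm_num, phi_4_6] at h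
  exact h

lemma phi_3_12 : phi 3 12 = 73 := by
  have h := phi_mul_prime_of_dvd (a := 3) (k := 6) (p := 2) (by norm_num) (by norm_num)
  rw [show (6 * 2 : ℕ) = 12 by norm_num, show (3 ^ 2 : ℕ) = 9 by norm_num, phi_9_6] at h
  exact h

lemma phi_16777216_1 : phi 16777216 1 = 16777215 := by
  have h := phi_one (a := 16777216) (by norm_num)
  generalize phi 16777216 1 = x at h ⊢
  omega

lemma phi_256_1 : phi 256 1 = 255 := by
  have h := phi_one (a := 256) (by norm_num)
  generalize phi 256 1 = x at h ⊢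
  omega

lemma phi_256_3 : phi 256 3 = 65793 := by
  have h := phi_mul_prime_of_not_dvd (a := 256) (k := 1) (p := 3) (by norm_num) (by norm_num)
  rw [show (1 * 3 : ℕ) = 3 by norm_num, show (256 ^ 3 : ℕ) = 16777216 by norm_num, phi_16777216_1, phi_256_1] at h
  generalize phi 256 3 = x at h ⊢
  omega

lemma phi_16_6 : phi 16 6 = 241 := by
  have h := phi_mul_prime_of_not_dvd (a := 16) (k := 3) (p := 2) (by norm_num) (by norm_num)
  rw [show (3 * 2 : ℕ) = 6 by norm_num, show (16 ^ 2 : ℕ) = 256 by norm_num, phi_256_3, phi_16_3] at h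
  generalize phi 16 6 = x at h ⊢
  omega

lemma phi_4_12 : phi 4 12 = 241 := by
  have h := phi_mul_prime_of_dvd (a := 4) (k := 6) (p := 2) (by norm_num) (by norm_num)
  rw [show (6 * 2 : ℕ) = 12 by norm_num, show (4 ^ 2 : ℕ) = 16 by norm_num, phi_16_6] at h
  exact h

lemma phi_244140625_1 : phi 244140625 1 = 244140624 := by
  have h := phi_one (a := 244140625) (by norm_num)
  generalize phi 244140625 1 = x at h ⊢
  omega

lemma phi_625_1 : phi 625 1 = 624 := by
  have h := phi_one (a := 625) (by norm_num)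
  generalize phi 625 1 = x at h ⊢
  omega

lemma phi_625_3 : phi 625 3 = 391251 := by
  have h := phi_mul_prime_of_not_dvd (a := 625) (k := 1) (p := 3) (by norm_num) (by norm_num)
  rw [show (1 * 3 : ℕ) = 3 by norm_num, show (625 ^ 3 : ℕ) = 244140625 by norm_num, phi_244140625_1, phi_625_1] at h
  generalize phi 625 3 = x at h ⊢
  omega

lemma phi_25_6 : phi 25 6 = 601 := by
  have h := phi_mul_prime_of_not_dvd (a := 25) (k := 3) (p := 2) (by norm_num) (by norm_num)
  rw [show (3 * 2 : ℕ) = 6 by norm_num, show (25 ^ 2 : ℕ) = 625 by norm_num, phi_625_3, phi_25_3] at h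
  generalize phi 25 6 = x at h ⊢
  omega

lemma phi_5_12 : phi 5 12 = 601 := by
  have h := phi_mul_prime_of_dvd (a := 5) (k := 6) (p := 2) (by norm_num) (by norm_num)
  rw [show (6 * 2 : ℕ) = 12 by norm_num, show (5 ^ 2 : ℕ) = 25 by norm_num, phi_25_6] at h
  exact h

lemma phi_16384_1 : phi 16384 1 = 16383 := by
  have h := phi_one (a := 16384) (by norm_num)
  generalize phi 16384 1 = x at h ⊢
  omega

lemma phi_4_7 : phi 4 7 = 5461 := by
  have h := phi_mul_prime_of_not_dvd (a := 4) (k := 1) (p := 7) (by norm_num) (by norm_num)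
  rw [show (1 * 7 : ℕ) = 7 by norm_num, show (4 ^ 7 : ℕ) = 16384 by norm_num, phi_16384_1, phi_4_1] at h
  generalize phi 4 7 = x at h ⊢
  omega

lemma phi_2_14 : phi 2 14 = 43 := by
  have h := phi_mul_prime_of_not_dvd (a := 2) (k := 7) (p := 2) (by norm_num) (by norm_num)
  rw [show (7 * 2 : ℕ) = 14 by norm_num, show (2 ^ 2 : ℕ) = 4 by norm_num, phi_4_7, phi_2_7] at h
  generalize phi 2 14 = x at h ⊢
  omega

lemma phi_4782969_1 : phi 4782969 1 = 4782968 := by
  have h := phi_one (a := 4782969) (by norm_num)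
  generalize phi 4782969 1 = x at h ⊢
  omega

lemma phi_9_7 : phi 9 7 = 597871 := by
  have h := phi_mul_prime_of_not_dvd (a := 9) (k := 1) (p := 7) (by norm_num) (by norm_num)
  rw [show (1 * 7 : ℕ) = 7 by norm_num, show (9 ^ 7 : ℕ) = 4782969 by norm_num, phi_4782969_1, phi_9_1] at h
  generalize phi 9 7 = x at h ⊢
  omega

lemma phi_2187_1 : phi 2187 1 = 2186 := by
  have h := phi_one (a := 2187) (by norm_num)
  generalize phi 2187 1 = x at h ⊢
  omega

lemma phi_3_7 : phi 3 7 = 1093 := by
  have h := phi_mul_prime_of_not_dvd (a := 3) (k := 1) (p := 7) (by norm_num) (by norm_num)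
  rw [show (1 * 7 : ℕ) = 7 by norm_num, show (3 ^ 7 : ℕ) = 2187 by norm_num, phi_2187_1, phi_3_1] at h
  generalize phi 3 7 = x at h ⊢
  omega

lemma phi_3_14 : phi 3 14 = 547 := by
  have h := phi_mul_prime_of_not_dvd (a := 3) (k := 7) (p := 2) (by norm_num) (by norm_num)
  rw [show (7 * 2 : ℕ) = 14 by norm_num, show (3 ^ 2 : ℕ) = 9 by norm_num, phi_9_7, phi_3_7] at h
  generalize phi 3 14 = x at h ⊢
  omega

lemma phi_32768_1 : phi 32768 1 = 32767 := by
  have h := phi_one (a := 32768) (by norm_num)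
  generalize phi 32768 1 = x at h ⊢
  omega

lemma phi_8_5 : phi 8 5 = 4681 := by
  have h := phi_mul_prime_of_not_dvd (a := 8) (k := 1) (p := 5) (by norm_num) (by norm_num)
  rw [show (1 * 5 : ℕ) = 5 by norm_num, show (8 ^ 5 : ℕ) = 32768 by norm_num, phi_32768_1, phi_8_1] at h
  generalize phi 8 5 = x at h ⊢
  omega

lemma phi_2_15 : phi 2 15 = 151 := by
  have h := phi_mul_prime_of_not_dvd (a := 2) (k := 5) (p := 3) (by norm_num) (by norm_num)
  rw [show (5 * 3 : ℕ) = 15 by norm_num, show (2 ^ 3 : ℕ) = 8 by norm_num, phi_8_5, phi_2_5] at h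
  generalize phi 2 15 = x at h ⊢
  omega

lemma phi_2_16 : phi 2 16 = 257 := by
  have h := phi_mul_prime_of_dvd (a := 2) (k := 8) (p := 2) (by norm_num) (by norm_num)
  rw [show (8 * 2 : ℕ) = 16 by norm_num, show (2 ^ 2 : ℕ) = 4 by norm_num, phi_4_8] at h
  exact h

lemma phi_4_9 : phi 4 9 = 4161 := by
  have h := phi_mul_prime_of_dvd (a := 4) (k := 3) (p := 3) (by norm_num) (by norm_num)
  rw [show (3 * 3 : ℕ) = 9 by norm_num, show (4 ^ 3 : ℕ) = 64 by norm_num, phi_64_3] at h
  exact h

lemma phi_2_18 : phi 2 18 = 57 := by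
  have h := phi_mul_prime_of_not_dvd (a := 2) (k := 9) (p := 2) (by norm_num) (by norm_num)
  rw [show (9 * 2 : ℕ) = 18 by norm_num, show (2 ^ 2 : ℕ) = 4 by norm_num, phi_4_9, phi_2_9] at h
  generalize phi 2 18 = x at h ⊢
  omega

lemma phi_387420489_1 : phi 387420489 1 = 387420488 := by
  have h := phi_one (a := 387420489) (by norm_num)
  generalize phi 387420489 1 = x at h ⊢
  omega

lemma phi_729_3 : phi 729 3 = 532171 := by
  have h := phi_mul_prime_of_not_dvd (a := 729) (k := 1) (p := 3) (by norm_num) (by norm_num)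
  rw [show (1 * 3 : ℕ) = 3 by norm_num, show (729 ^ 3 : ℕ) = 387420489 by norm_num, phi_387420489_1, phi_729_1] at h
  generalize phi 729 3 = x at h ⊢
  omega

lemma phi_9_9 : phi 9 9 = 532171 := by
  have h := phi_mul_prime_of_dvd (a := 9) (k := 3) (p := 3) (by norm_num) (by norm_num)
  rw [show (3 * 3 : ℕ) = 9 by norm_num, show (9 ^ 3 : ℕ) = 729 by norm_num, phi_729_3] at h
  exact h

lemma phi_3_18 : phi 3 18 = 703 := by
  have h := phi_mul_prime_of_not_dvd (a := 3) (k := 9) (p := 2) (by norm_num) (by norm_num)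
  rw [show (9 * 2 : ℕ) = 18 by norm_num, show (3 ^ 2 : ℕ) = 9 by norm_num, phi_9_9, phi_3_9] at h
  generalize phi 3 18 = x at h ⊢
  omega

lemma phi_2_20 : phi 2 20 = 205 := by
  have h := phi_mul_prime_of_dvd (a := 2) (k := 10) (p := 2) (by norm_num) (by norm_num)
  rw [show (10 * 2 : ℕ) = 20 by norm_num, show (2 ^ 2 : ℕ) = 4 by norm_num, phi_4_10] at h
  exact h

lemma phi_4194304_1 : phi 4194304 1 = 4194303 := by
  have h := phi_one (a := 4194304) (by norm_num)
  generalize phi 4194304 1 = x at h ⊢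
  omega

lemma phi_4_11 : phi 4 11 = 1398101 := by
  have h := phi_mul_prime_of_not_dvd (a := 4) (k := 1) (p := 11) (by norm_num) (by norm_num)
  rw [show (1 * 11 : ℕ) = 11 by norm_num, show (4 ^ 11 : ℕ) = 4194304 by norm_num, phi_4194304_1, phi_4_1] at h
  generalize phi 4 11 = x at h ⊢
  omega

lemma phi_2_22 : phi 2 22 = 683 := by
  have h := phi_mul_prime_of_not_dvd (a := 2) (k := 11) (p := 2) (by norm_num) (by norm_num)
  rw [show (11 * 2 : ℕ) = 22 by norm_num, show (2 ^ 2 : ℕ) = 4 by norm_num, phi_4_11, phi_2_11] at h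
  generalize phi 2 22 = x at h ⊢
  omega

lemma phi_2_24 : phi 2 24 = 241 := by
  have h := phi_mul_prime_of_dvd (a := 2) (k := 12) (p := 2) (by norm_num) (by norm_num)
  rw [show (12 * 2 : ℕ) = 24 by norm_num, show (2 ^ 2 : ℕ) = 4 by norm_num, phi_4_12] at h
  exact h

lemma phi_268435456_1 : phi 268435456 1 = 268435455 := by
  have h := phi_one (a := 268435456) (by norm_num)
  generalize phi 268435456 1 = x at h ⊢
  omega

lemma phi_16_7 : phi 16 7 = 17895697 := by
  have h := phi_mul_prime_of_not_dvd (a := 16) (k := 1) (p := 7) (by norm_num) (by norm_num)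
  rw [show (1 * 7 : ℕ) = 7 by norm_num, show (16 ^ 7 : ℕ) = 268435456 by norm_num, phi_268435456_1, phi_16_1] at h
  generalize phi 16 7 = x at h ⊢
  omega

lemma phi_4_14 : phi 4 14 = 3277 := by
  have h := phi_mul_prime_of_not_dvd (a := 4) (k := 7) (p := 2) (by norm_num) (by norm_num)
  rw [show (7 * 2 : ℕ) = 14 by norm_num, show (4 ^ 2 : ℕ) = 16 by norm_num, phi_16_7, phi_4_7] at h
  generalize phi 4 14 = x at h ⊢
  omega

lemma phi_2_28 : phi 2 28 = 3277 := by
  have h := phi_mul_prime_of_dvd (a := 2) (k := 14) (p := 2) (by norm_num) (by norm_num)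
  rw [show (14 * 2 : ℕ) = 28 by norm_num, show (2 ^ 2 : ℕ) = 4 by norm_num, phi_4_14] at h
  exact h

lemma phi_1073741824_1 : phi 1073741824 1 = 1073741823 := by
  have h := phi_one (a := 1073741824) (by norm_num)
  generalize phi 1073741824 1 = x at h ⊢
  omega

lemma phi_64_5 : phi 64 5 = 17043521 := by
  have h := phi_mul_prime_of_not_dvd (a := 64) (k := 1) (p := 5) (by norm_num) (by norm_num)
  rw [show (1 * 5 : ℕ) = 5 by norm_num, show (64 ^ 5 : ℕ) = 1073741824 by norm_num, phi_1073741824_1, phi_64_1] at h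
  generalize phi 64 5 = x at h ⊢
  omega

lemma phi_4_15 : phi 4 15 = 49981 := by
  have h := phi_mul_prime_of_not_dvd (a := 4) (k := 5) (p := 3) (by norm_num) (by norm_num)
  rw [show (5 * 3 : ℕ) = 15 by norm_num, show (4 ^ 3 : ℕ) = 64 by norm_num, phi_64_5, phi_4_5] at h
  generalize phi 4 15 = x at h ⊢
  omega

lemma phi_2_30 : phi 2 30 = 331 := by
  have h := phi_mul_prime_of_not_dvd (a := 2) (k := 15) (p := 2) (by norm_num) (by norm_num)
  rw [show (15 * 2 : ℕ) = 30 by norm_num, show (2 ^ 2 : ℕ) = 4 by norm_num, phi_4_15, phi_2_15] at h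
  generalize phi 2 30 = x at h ⊢
  omega

lemma phi_68719476736_1 : phi 68719476736 1 = 68719476735 := by
  have h := phi_one (a := 68719476736) (by norm_num)
  generalize phi 68719476736 1 = x at h ⊢
  omega

lemma phi_4096_3 : phi 4096 3 = 16781313 := by
  have h := phi_mul_prime_of_not_dvd (a := 4096) (k := 1) (p := 3) (by norm_num) (by norm_num)
  rw [show (1 * 3 : ℕ) = 3 by norm_num, show (4096 ^ 3 : ℕ) = 68719476736 by norm_num, phi_68719476736_1, phi_4096_1] at h
  generalize phi 4096 3 = x at h ⊢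
  omega

lemma phi_16_9 : phi 16 9 = 16781313 := by
  have h := phi_mul_prime_of_dvd (a := 16) (k := 3) (p := 3) (by norm_num) (by norm_num)
  rw [show (3 * 3 : ℕ) = 9 by norm_num, show (16 ^ 3 : ℕ) = 4096 by norm_num, phi_4096_3] at h
  exact h

lemma phi_4_18 : phi 4 18 = 4033 := by
  have h := phi_mul_prime_of_not_dvd (a := 4) (k := 9) (p := 2) (by norm_num) (by norm_num)
  rw [show (9 * 2 : ℕ) = 18 by norm_num, show (4 ^ 2 : ℕ) = 16 by norm_num, phi_16_9, phi_4_9] at h
  generalize phi 4 18 = x at h ⊢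
  omega

lemma phi_2_36 : phi 2 36 = 4033 := by
  have h := phi_mul_prime_of_dvd (a := 2) (k := 18) (p := 2) (by norm_num) (by norm_num)
  rw [show (18 * 2 : ℕ) = 36 by norm_num, show (2 ^ 2 : ℕ) = 4 by norm_num, phi_4_18] at h
  exact h

lemma phi_4398046511104_1 : phi 4398046511104 1 = 4398046511103 := by
  have h := phi_one (a := 4398046511104) (by norm_num)
  generalize phi 4398046511104 1 = x at h ⊢
  omega

lemma phi_64_7 : phi 64 7 = 69810262081 := by
  have h := phi_mul_prime_of_not_dvd (a := 64) (k := 1) (p := 7) (by norm_num) (by norm_num)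
  rw [show (1 * 7 : ℕ) = 7 by norm_num, show (64 ^ 7 : ℕ) = 4398046511104 by norm_num, phi_4398046511104_1, phi_64_1] at h
  generalize phi 64 7 = x at h ⊢
  omega

lemma phi_4_21 : phi 4 21 = 12783421 := by
  have h := phi_mul_prime_of_not_dvd (a := 4) (k := 7) (p := 3) (by norm_num) (by norm_num)
  rw [show (7 * 3 : ℕ) = 21 by norm_num, show (4 ^ 3 : ℕ) = 64 by norm_num, phi_64_7, phi_4_7] at h
  generalize phi 4 21 = x at h ⊢
  omega

lemma phi_2097152_1 : phi 2097152 1 = 2097151 := by
  have h := phi_one (a := 2097152) (by norm_num)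
  generalize phi 2097152 1 = x at h ⊢
  omega

lemma phi_8_7 : phi 8 7 = 299593 := by
  have h := phi_mul_prime_of_not_dvd (a := 8) (k := 1) (p := 7) (by norm_num) (by norm_num)
  rw [show (1 * 7 : ℕ) = 7 by norm_num, show (8 ^ 7 : ℕ) = 2097152 by norm_num, phi_2097152_1, phi_8_1] at h
  generalize phi 8 7 = x at h ⊢
  omega

lemma phi_2_21 : phi 2 21 = 2359 := by
  have h := phi_mul_prime_of_not_dvd (a := 2) (k := 7) (p := 3) (by norm_num) (by norm_num)
  rw [show (7 * 3 : ℕ) = 21 by norm_num, show (2 ^ 3 : ℕ) = 8 by norm_num, phi_8_7, phi_2_7] at h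
  generalize phi 2 21 = x at h ⊢
  omega

lemma phi_2_42 : phi 2 42 = 5419 := by
  have h := phi_mul_prime_of_not_dvd (a := 2) (k := 21) (p := 2) (by norm_num) (by norm_num)
  rw [show (21 * 2 : ℕ) = 42 by norm_num, show (2 ^ 2 : ℕ) = 4 by norm_num, phi_4_21, phi_2_21] at h
  generalize phi 2 42 = x at h ⊢
  omega

lemma pp_small_3 (q : ℕ) (hq : 2 ≤ q) (h : pp q 3 ≤ 3 * 3) :
    (q, 3, pp q 3) ∈ ppTable := by
  have ht : Nat.totient 3 = 2 := by decide
  by_cases hq0 : 11 ≤ q
  · exfalso
    have h1 : 3 * 3 < pp q 3 := by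
      apply pp_gt_of_pow hq (by norm_num)
      rw [ht]
      calc 12 * 3 * (2 + 1) < 11 ^ 2 := by norm_num
        _ ≤ q ^ 2 := Nat.pow_le_pow_left hq0 2
    omega
  · have hq1 : q < 11 := by omega
    interval_cases q
    · have hv : pp 2 3 = 7 := by
        unfold pp
        rw [phi_2_3]
        norm_num
      rw [hv]
      decide
    · have hv : pp 3 3 = 13 := by
        unfold pp
        rw [phi_3_3]
        norm_num
      rw [hv] at h
      omega
    · have hv : pp 4 3 = 7 := by
        unfold pp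
        rw [phi_4_3]
        norm_num
      rw [hv]
      decide
    · have hv : pp 5 3 = 31 := by
        unfold pp
        rw [phi_5_3]
        norm_num
      rw [hv] at h
      omega
    · have hv : pp 6 3 = 43 := by
        unfold pp
        rw [phi_6_3]
        norm_num
      rw [hv] at h
      omega
    · have hv : pp 7 3 = 19 := by
        unfold pp
        rw [phi_7_3]
        norm_num
      rw [hv] at h
      omega
    · have hv : pp 8 3 = 73 := by
        unfold pp
        rw [phi_8_3]
        norm_num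
      rw [hv] at h
      omega
    · have hv : pp 9 3 = 91 := by
        unfold pp
        rw [phi_9_3]
        norm_num
      rw [hv] at h
      omega
    · have hv : pp 10 3 = 37 := by
        unfold pp
        rw [phi_10_3]
        norm_num
      rw [hv] at h
      omega

lemma pp_small_4 (q : ℕ) (hq : 2 ≤ q) (h : pp q 4 ≤ 3 * 4) :
    (q, 4, pp q 4) ∈ ppTable := by
  have ht : Nat.totient 4 = 2 := by decide
  by_cases hq0 : 13 ≤ q
  · exfalso
    have h1 : 3 * 4 < pp q 4 := by
      apply pp_gt_of_pow hq (by norm_num)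
      rw [ht]
      calc 12 * 4 * (2 + 1) < 13 ^ 2 := by norm_num
        _ ≤ q ^ 2 := Nat.pow_le_pow_left hq0 2
    omega
  · have hq1 : q < 13 := by omega
    interval_cases q
    · have hv : pp 2 4 = 5 := by
        unfold pp
        rw [phi_2_4]
        norm_num
      rw [hv]
      decide
    · have hv : pp 3 4 = 5 := by
        unfold pp
        rw [phi_3_4]
        norm_num
      rw [hv]
      decide
    · have hv : pp 4 4 = 17 := by
        unfold pp
        rw [phi_4_4]
        norm_num
      rw [hv] at h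
      omega
    · have hv : pp 5 4 = 13 := by
        unfold pp
        rw [phi_5_4]
        norm_num
      rw [hv] at h
      omega
    · have hv : pp 6 4 = 37 := by
        unfold pp
        rw [phi_6_4]
        norm_num
      rw [hv] at h
      omega
    · have hv : pp 7 4 = 25 := by
        unfold pp
        rw [phi_7_4]
        norm_num
      rw [hv] at h
      omega
    · have hv : pp 8 4 = 65 := by
        unfold pp
        rw [phi_8_4]
        norm_num
      rw [hv] at h
      omega
    · have hv : pp 9 4 = 41 := by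
        unfold pp
        rw [phi_9_4]
        norm_num
      rw [hv] at h
      omega
    · have hv : pp 10 4 = 101 := by
        unfold pp
        rw [phi_10_4]
        norm_num
      rw [hv] at h
      omega
    · have hv : pp 11 4 = 61 := by
        unfold pp
        rw [phi_11_4]
        norm_num
      rw [hv] at h
      omega
    · have hv : pp 12 4 = 145 := by
        unfold pp
        rw [phi_12_4]
        norm_num
      rw [hv] at h
      omega

lemma pp_small_5 (q : ℕ) (hq : 2 ≤ q) (h : pp q 5 ≤ 3 * 5) :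
    (q, 5, pp q 5) ∈ ppTable := by
  have ht : Nat.totient 5 = 4 := by decide
  by_cases hq0 : 5 ≤ q
  · exfalso
    have h1 : 3 * 5 < pp q 5 := by
      apply pp_gt_of_pow hq (by norm_num)
      rw [ht]
      calc 12 * 5 * (4 + 1) < 5 ^ 4 := by norm_num
        _ ≤ q ^ 4 := Nat.pow_le_pow_left hq0 4
    omega
  · have hq1 : q < 5 := by omega
    interval_cases q
    · have hv : pp 2 5 = 31 := by
        unfold pp
        rw [phi_2_5]
        norm_num
      rw [hv] at h
      omega
    · have hv : pp 3 5 = 121 := by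
        unfold pp
        rw [phi_3_5]
        norm_num
      rw [hv] at h
      omega
    · have hv : pp 4 5 = 341 := by
        unfold pp
        rw [phi_4_5]
        norm_num
      rw [hv] at h
      omega

lemma pp_small_6 (q : ℕ) (hq : 2 ≤ q) (h : pp q 6 ≤ 3 * 6) :
    (q, 6, pp q 6) ∈ ppTable := by
  have ht : Nat.totient 6 = 2 := by decide
  by_cases hq0 : 15 ≤ q
  · exfalso
    have h1 : 3 * 6 < pp q 6 := by
      apply pp_gt_of_pow hq (by norm_num)
      rw [ht]
      calc 12 * 6 * (2 + 1) < 15 ^ 2 := by norm_num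
        _ ≤ q ^ 2 := Nat.pow_le_pow_left hq0 2
    omega
  · have hq1 : q < 15 := by omega
    interval_cases q
    · have hv : pp 2 6 = 1 := by
        unfold pp
        rw [phi_2_6]
        norm_num
      rw [hv]
      decide
    · have hv : pp 3 6 = 7 := by
        unfold pp
        rw [phi_3_6]
        norm_num
      rw [hv]
      decide
    · have hv : pp 4 6 = 13 := by
        unfold pp
        rw [phi_4_6]
        norm_num
      rw [hv]
      decide
    · have hv : pp 5 6 = 7 := by
        unfold pp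
        rw [phi_5_6]
        norm_num
      rw [hv]
      decide
    · have hv : pp 6 6 = 31 := by
        unfold pp
        rw [phi_6_6]
        norm_num
      rw [hv] at h
      omega
    · have hv : pp 7 6 = 43 := by
        unfold pp
        rw [phi_7_6]
        norm_num
      rw [hv] at h
      omega
    · have hv : pp 8 6 = 19 := by
        unfold pp
        rw [phi_8_6]
        norm_num
      rw [hv] at h
      omega
    · have hv : pp 9 6 = 73 := by
        unfold pp
        rw [phi_9_6]
        norm_num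
      rw [hv] at h
      omega
    · have hv : pp 10 6 = 91 := by
        unfold pp
        rw [phi_10_6]
        norm_num
      rw [hv] at h
      omega
    · have hv : pp 11 6 = 37 := by
        unfold pp
        rw [phi_11_6]
        norm_num
      rw [hv] at h
      omega
    · have hv : pp 12 6 = 133 := by
        unfold pp
        rw [phi_12_6]
        norm_num
      rw [hv] at h
      omega
    · have hv : pp 13 6 = 157 := by
        unfold pp
        rw [phi_13_6]
        norm_num
      rw [hv] at h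
      omega
    · have hv : pp 14 6 = 61 := by
        unfold pp
        rw [phi_14_6]
        norm_num
      rw [hv] at h
      omega

lemma pp_small_7 (q : ℕ) (hq : 2 ≤ q) (h : pp q 7 ≤ 3 * 7) :
    (q, 7, pp q 7) ∈ ppTable := by
  have ht : Nat.totient 7 = 6 := by decide
  by_cases hq0 : 3 ≤ q
  · exfalso
    have h1 : 3 * 7 < pp q 7 := by
      apply pp_gt_of_pow hq (by norm_num)
      rw [ht]
      calc 12 * 7 * (6 + 1) < 3 ^ 6 := by norm_num
        _ ≤ q ^ 6 := Nat.pow_le_pow_left hq0 6
    omega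
  · have hq1 : q < 3 := by omega
    interval_cases q
    · have hv : pp 2 7 = 127 := by
        unfold pp
        rw [phi_2_7]
        norm_num
      rw [hv] at h
      omega

lemma pp_small_8 (q : ℕ) (hq : 2 ≤ q) (h : pp q 8 ≤ 3 * 8) :
    (q, 8, pp q 8) ∈ ppTable := by
  have ht : Nat.totient 8 = 4 := by decide
  by_cases hq0 : 5 ≤ q
  · exfalso
    have h1 : 3 * 8 < pp q 8 := by
      apply pp_gt_of_pow hq (by norm_num)
      rw [ht]
      calc 12 * 8 * (4 + 1) < 5 ^ 4 := by norm_num
        _ ≤ q ^ 4 := Nat.pow_le_pow_left hq0 4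
    omega
  · have hq1 : q < 5 := by omega
    interval_cases q
    · have hv : pp 2 8 = 17 := by
        unfold pp
        rw [phi_2_8]
        norm_num
      rw [hv]
      decide
    · have hv : pp 3 8 = 41 := by
        unfold pp
        rw [phi_3_8]
        norm_num
      rw [hv] at h
      omega
    · have hv : pp 4 8 = 257 := by
        unfold pp
        rw [phi_4_8]
        norm_num
      rw [hv] at h
      omega

lemma pp_small_9 (q : ℕ) (hq : 2 ≤ q) (h : pp q 9 ≤ 3 * 9) :
    (q, 9, pp q 9) ∈ ppTable := by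
  have ht : Nat.totient 9 = 6 := by decide
  by_cases hq0 : 4 ≤ q
  · exfalso
    have h1 : 3 * 9 < pp q 9 := by
      apply pp_gt_of_pow hq (by norm_num)
      rw [ht]
      calc 12 * 9 * (6 + 1) < 4 ^ 6 := by norm_num
        _ ≤ q ^ 6 := Nat.pow_le_pow_left hq0 6
    omega
  · have hq1 : q < 4 := by omega
    interval_cases q
    · have hv : pp 2 9 = 73 := by
        unfold pp
        rw [phi_2_9]
        norm_num
      rw [hv] at h
      omega
    · have hv : pp 3 9 = 757 := by
        unfold pp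
        rw [phi_3_9]
        norm_num
      rw [hv] at h
      omega

lemma pp_small_10 (q : ℕ) (hq : 2 ≤ q) (h : pp q 10 ≤ 3 * 10) :
    (q, 10, pp q 10) ∈ ppTable := by
  have ht : Nat.totient 10 = 4 := by decide
  by_cases hq0 : 5 ≤ q
  · exfalso
    have h1 : 3 * 10 < pp q 10 := by
      apply pp_gt_of_pow hq (by norm_num)
      rw [ht]
      calc 12 * 10 * (4 + 1) < 5 ^ 4 := by norm_num
        _ ≤ q ^ 4 := Nat.pow_le_pow_left hq0 4
    omega
  · have hq1 : q < 5 := by omega
    interval_cases q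
    · have hv : pp 2 10 = 11 := by
        unfold pp
        rw [phi_2_10]
        norm_num
      rw [hv]
      decide
    · have hv : pp 3 10 = 61 := by
        unfold pp
        rw [phi_3_10]
        norm_num
      rw [hv] at h
      omega
    · have hv : pp 4 10 = 41 := by
        unfold pp
        rw [phi_4_10]
        norm_num
      rw [hv] at h
      omega

lemma pp_small_11 (q : ℕ) (hq : 2 ≤ q) (h : pp q 11 ≤ 3 * 11) :
    (q, 11, pp q 11) ∈ ppTable := by
  have ht : Nat.totient 11 = 10 := by decide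
  by_cases hq0 : 3 ≤ q
  · exfalso
    have h1 : 3 * 11 < pp q 11 := by
      apply pp_gt_of_pow hq (by norm_num)
      rw [ht]
      calc 12 * 11 * (10 + 1) < 3 ^ 10 := by norm_num
        _ ≤ q ^ 10 := Nat.pow_le_pow_left hq0 10
    omega
  · have hq1 : q < 3 := by omega
    interval_cases q
    · have hv : pp 2 11 = 2047 := by
        unfold pp
        rw [phi_2_11]
        norm_num
      rw [hv] at h
      omega

lemma pp_small_12 (q : ℕ) (hq : 2 ≤ q) (h : pp q 12 ≤ 3 * 12) :
    (q, 12, pp q 12) ∈ ppTable := by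
  have ht : Nat.totient 12 = 4 := by decide
  by_cases hq0 : 6 ≤ q
  · exfalso
    have h1 : 3 * 12 < pp q 12 := by
      apply pp_gt_of_pow hq (by norm_num)
      rw [ht]
      calc 12 * 12 * (4 + 1) < 6 ^ 4 := by norm_num
        _ ≤ q ^ 4 := Nat.pow_le_pow_left hq0 4
    omega
  · have hq1 : q < 6 := by omega
    interval_cases q
    · have hv : pp 2 12 = 13 := by
        unfold pp
        rw [phi_2_12]
        norm_num
      rw [hv]
      decide
    · have hv : pp 3 12 = 73 := by
        unfold pp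
        rw [phi_3_12]
        norm_num
      rw [hv] at h
      omega
    · have hv : pp 4 12 = 241 := by
        unfold pp
        rw [phi_4_12]
        norm_num
      rw [hv] at h
      omega
    · have hv : pp 5 12 = 601 := by
        unfold pp
        rw [phi_5_12]
        norm_num
      rw [hv] at h
      omega

lemma pp_small_14 (q : ℕ) (hq : 2 ≤ q) (h : pp q 14 ≤ 3 * 14) :
    (q, 14, pp q 14) ∈ ppTable := by
  have ht : Nat.totient 14 = 6 := by decide
  by_cases hq0 : 4 ≤ q
  · exfalso
    have h1 : 3 * 14 < pp q 14 := by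
      apply pp_gt_of_pow hq (by norm_num)
      rw [ht]
      calc 12 * 14 * (6 + 1) < 4 ^ 6 := by norm_num
        _ ≤ q ^ 6 := Nat.pow_le_pow_left hq0 6
    omega
  · have hq1 : q < 4 := by omega
    interval_cases q
    · have hv : pp 2 14 = 43 := by
        unfold pp
        rw [phi_2_14]
        norm_num
      rw [hv] at h
      omega
    · have hv : pp 3 14 = 547 := by
        unfold pp
        rw [phi_3_14]
        norm_num
      rw [hv] at h
      omega

lemma pp_small_15 (q : ℕ) (hq : 2 ≤ q) (h : pp q 15 ≤ 3 * 15) :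
    (q, 15, pp q 15) ∈ ppTable := by
  have ht : Nat.totient 15 = 8 := by decide
  by_cases hq0 : 3 ≤ q
  · exfalso
    have h1 : 3 * 15 < pp q 15 := by
      apply pp_gt_of_pow hq (by norm_num)
      rw [ht]
      calc 12 * 15 * (8 + 1) < 3 ^ 8 := by norm_num
        _ ≤ q ^ 8 := Nat.pow_le_pow_left hq0 8
    omega
  · have hq1 : q < 3 := by omega
    interval_cases q
    · have hv : pp 2 15 = 151 := by
        unfold pp
        rw [phi_2_15]
        norm_num
      rw [hv] at h
      omega

lemma pp_small_16 (q : ℕ) (hq : 2 ≤ q) (h : pp q 16 ≤ 3 * 16) :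
    (q, 16, pp q 16) ∈ ppTable := by
  have ht : Nat.totient 16 = 8 := by decide
  by_cases hq0 : 3 ≤ q
  · exfalso
    have h1 : 3 * 16 < pp q 16 := by
      apply pp_gt_of_pow hq (by norm_num)
      rw [ht]
      calc 12 * 16 * (8 + 1) < 3 ^ 8 := by norm_num
        _ ≤ q ^ 8 := Nat.pow_le_pow_left hq0 8
    omega
  · have hq1 : q < 3 := by omega
    interval_cases q
    · have hv : pp 2 16 = 257 := by
        unfold pp
        rw [phi_2_16]
        norm_num
      rw [hv] at h
      omega

lemma pp_small_18 (q : ℕ) (hq : 2 ≤ q) (h : pp q 18 ≤ 3 * 18) :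
    (q, 18, pp q 18) ∈ ppTable := by
  have ht : Nat.totient 18 = 6 := by decide
  by_cases hq0 : 4 ≤ q
  · exfalso
    have h1 : 3 * 18 < pp q 18 := by
      apply pp_gt_of_pow hq (by norm_num)
      rw [ht]
      calc 12 * 18 * (6 + 1) < 4 ^ 6 := by norm_num
        _ ≤ q ^ 6 := Nat.pow_le_pow_left hq0 6
    omega
  · have hq1 : q < 4 := by omega
    interval_cases q
    · have hv : pp 2 18 = 19 := by
        unfold pp
        rw [phi_2_18]
        norm_num
      rw [hv]
      decide
    · have hv : pp 3 18 = 703 := by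
        unfold pp
        rw [phi_3_18]
        norm_num
      rw [hv] at h
      omega

lemma pp_small_20 (q : ℕ) (hq : 2 ≤ q) (h : pp q 20 ≤ 3 * 20) :
    (q, 20, pp q 20) ∈ ppTable := by
  have ht : Nat.totient 20 = 8 := by decide
  by_cases hq0 : 3 ≤ q
  · exfalso
    have h1 : 3 * 20 < pp q 20 := by
      apply pp_gt_of_pow hq (by norm_num)
      rw [ht]
      calc 12 * 20 * (8 + 1) < 3 ^ 8 := by norm_num
        _ ≤ q ^ 8 := Nat.pow_le_pow_left hq0 8
    omega
  · have hq1 : q < 3 := by omega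
    interval_cases q
    · have hv : pp 2 20 = 41 := by
        unfold pp
        rw [phi_2_20]
        norm_num
      rw [hv]
      decide

lemma pp_small_22 (q : ℕ) (hq : 2 ≤ q) (h : pp q 22 ≤ 3 * 22) :
    (q, 22, pp q 22) ∈ ppTable := by
  have ht : Nat.totient 22 = 10 := by decide
  by_cases hq0 : 3 ≤ q
  · exfalso
    have h1 : 3 * 22 < pp q 22 := by
      apply pp_gt_of_pow hq (by norm_num)
      rw [ht]
      calc 12 * 22 * (10 + 1) < 3 ^ 10 := by norm_num
        _ ≤ q ^ 10 := Nat.pow_le_pow_left hq0 10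
    omega
  · have hq1 : q < 3 := by omega
    interval_cases q
    · have hv : pp 2 22 = 683 := by
        unfold pp
        rw [phi_2_22]
        norm_num
      rw [hv] at h
      omega

lemma pp_small_24 (q : ℕ) (hq : 2 ≤ q) (h : pp q 24 ≤ 3 * 24) :
    (q, 24, pp q 24) ∈ ppTable := by
  have ht : Nat.totient 24 = 8 := by decide
  by_cases hq0 : 3 ≤ q
  · exfalso
    have h1 : 3 * 24 < pp q 24 := by
      apply pp_gt_of_pow hq (by norm_num)
      rw [ht]
      calc 12 * 24 * (8 + 1) < 3 ^ 8 := by norm_num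
        _ ≤ q ^ 8 := Nat.pow_le_pow_left hq0 8
    omega
  · have hq1 : q < 3 := by omega
    interval_cases q
    · have hv : pp 2 24 = 241 := by
        unfold pp
        rw [phi_2_24]
        norm_num
      rw [hv] at h
      omega

lemma pp_small_28 (q : ℕ) (hq : 2 ≤ q) (h : pp q 28 ≤ 3 * 28) :
    (q, 28, pp q 28) ∈ ppTable := by
  have ht : Nat.totient 28 = 12 := by decide
  by_cases hq0 : 3 ≤ q
  · exfalso
    have h1 : 3 * 28 < pp q 28 := by
      apply pp_gt_of_pow hq (by norm_num)
      rw [ht]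
      calc 12 * 28 * (12 + 1) < 3 ^ 12 := by norm_num
        _ ≤ q ^ 12 := Nat.pow_le_pow_left hq0 12
    omega
  · have hq1 : q < 3 := by omega
    interval_cases q
    · have hv : pp 2 28 = 3277 := by
        unfold pp
        rw [phi_2_28]
        norm_num
      rw [hv] at h
      omega

lemma pp_small_30 (q : ℕ) (hq : 2 ≤ q) (h : pp q 30 ≤ 3 * 30) :
    (q, 30, pp q 30) ∈ ppTable := by
  have ht : Nat.totient 30 = 8 := by decide
  by_cases hq0 : 3 ≤ q
  · exfalso
    have h1 : 3 * 30 < pp q 30 := by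
      apply pp_gt_of_pow hq (by norm_num)
      rw [ht]
      calc 12 * 30 * (8 + 1) < 3 ^ 8 := by norm_num
        _ ≤ q ^ 8 := Nat.pow_le_pow_left hq0 8
    omega
  · have hq1 : q < 3 := by omega
    interval_cases q
    · have hv : pp 2 30 = 331 := by
        unfold pp
        rw [phi_2_30]
        norm_num
      rw [hv] at h
      omega

lemma pp_small_36 (q : ℕ) (hq : 2 ≤ q) (h : pp q 36 ≤ 3 * 36) :
    (q, 36, pp q 36) ∈ ppTable := by
  have ht : Nat.totient 36 = 12 := by decide
  by_cases hq0 : 3 ≤ q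
  · exfalso
    have h1 : 3 * 36 < pp q 36 := by
      apply pp_gt_of_pow hq (by norm_num)
      rw [ht]
      calc 12 * 36 * (12 + 1) < 3 ^ 12 := by norm_num
        _ ≤ q ^ 12 := Nat.pow_le_pow_left hq0 12
    omega
  · have hq1 : q < 3 := by omega
    interval_cases q
    · have hv : pp 2 36 = 4033 := by
        unfold pp
        rw [phi_2_36]
        norm_num
      rw [hv] at h
      omega

lemma pp_small_42 (q : ℕ) (hq : 2 ≤ q) (h : pp q 42 ≤ 3 * 42) :
    (q, 42, pp q 42) ∈ ppTable := by
  have ht : Nat.totient 42 = 12 := by decide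
  by_cases hq0 : 3 ≤ q
  · exfalso
    have h1 : 3 * 42 < pp q 42 := by
      apply pp_gt_of_pow hq (by norm_num)
      rw [ht]
      calc 12 * 42 * (12 + 1) < 3 ^ 12 := by norm_num
        _ ≤ q ^ 12 := Nat.pow_le_pow_left hq0 12
    omega
  · have hq1 : q < 3 := by omega
    interval_cases q
    · have hv : pp 2 42 = 5419 := by
        unfold pp
        rw [phi_2_42]
        norm_num
      rw [hv] at h
      omega

/-- If the primitive part of `q ^ n - 1` is at most `3 n`, then `(q, n)` is one of thirteen pairs. -/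
theorem pp_small (q n : ℕ) (hq : 2 ≤ q) (hn : 3 ≤ n) (h : pp q n ≤ 3 * n) :
    (q, n, pp q n) ∈ ppTable := by
  by_cases hex : n ∈ excList
  · simp only [excList, List.mem_cons, List.not_mem_nil, or_false] at hex
    rcases hex with rfl | rfl | rfl | rfl | rfl | rfl | rfl | rfl | rfl | rfl | rfl | rfl | rfl |
      rfl | rfl | rfl | rfl | rfl | rfl | rfl | rfl
    · exact pp_small_3 q hq h
    · exact pp_small_4 q hq h
    · exact pp_small_5 q hq h
    · exact pp_small_6 q hq h
    · exact pp_small_7 q hq h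
    · exact pp_small_8 q hq h
    · exact pp_small_9 q hq h
    · exact pp_small_10 q hq h
    · exact pp_small_11 q hq h
    · exact pp_small_12 q hq h
    · exact pp_small_14 q hq h
    · exact pp_small_15 q hq h
    · exact pp_small_16 q hq h
    · exact pp_small_18 q hq h
    · exact pp_small_20 q hq h
    · exact pp_small_22 q hq h
    · exact pp_small_24 q hq h
    · exact pp_small_28 q hq h
    · exact pp_small_30 q hq h
    · exact pp_small_36 q hq h
    · exact pp_small_42 q hq h
  · exfalso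
    have := pp_gt_of_not_mem hq hn hex
    omega

end Cfsg.Agent.Lib.Helper99_PrimPartEval
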