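import Mathlib
import Cfsg.Agent.Lib.Helper12_Hup5
import Cfsg.Agent.Lib.Helper99_PrimPartEval
import Cfsg.Agent.Lib.Helper99_Zsigmondy

set_option autoImplicit false
set_option linter.unusedSimpArgs false
set_option linter.unusedSectionVars false
set_option linter.style.haveILetI false

namespace Cfsg.Agent.Lib.Helper12_Hup6

open Module Cfsg.Agent.Lib.Helper12_Hup1 Cfsg.Agent.Lib.Helper12_Hup2
  Cfsg.Agent.Lib.Helper12_Hup5

universe u

/-- the arithmetic of the table of small primitive parts -/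
theorem arith2 {p n s w X : ℕ} (hp : p.Prime) (hs : s.Prime) (hsp : s ≠ p) (hn : n = s ^ w)
    (hr : (n + 1).Prime) (h26 : ¬ (p = 2 ∧ n = 6))
    (ht : (p, n, X) ∈ Cfsg.Agent.Lib.Helper99_PrimPartEval.ppTable) : p = 3 ∧ n = 4 := by
  have key : ∀ q : ℕ, q.Prime → q ∣ n → q = s := by
    intro q hq hd
    rw [hn] at hd
    exact (Nat.prime_dvd_prime_iff_eq hq hs).1 (hq.dvd_of_dvd_pow hd)
  simp only [Cfsg.Agent.Lib.Helper99_PrimPartEval.ppTable, List.mem_cons, Prod.mk.injEq,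
    List.not_mem_nil, or_false] at ht
  rcases ht with ⟨rfl, rfl, -⟩ | ⟨rfl, rfl, -⟩ | ⟨rfl, rfl, -⟩ | ⟨rfl, rfl, -⟩ | ⟨rfl, rfl, -⟩ |
    ⟨rfl, rfl, -⟩ | ⟨rfl, rfl, -⟩ | ⟨rfl, rfl, -⟩ | ⟨rfl, rfl, -⟩ | ⟨rfl, rfl, -⟩ | ⟨rfl, rfl, -⟩ |
    ⟨rfl, rfl, -⟩ | ⟨rfl, rfl, -⟩
  · exact absurd ⟨rfl, rfl⟩ h26
  · exact absurd (key 2 Nat.prime_two (by norm_num)).symm hsp
  · exact absurd (key 2 Nat.prime_two (by norm_num)).symm hsp
  · exact absurd (key 2 Nat.prime_two (by norm_num)).symm hsp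
  · exact absurd (key 2 Nat.prime_two (by norm_num)).symm hsp
  · exact ⟨rfl, rfl⟩
  · exact absurd (key 3 Nat.prime_three (by norm_num)).symm hsp
  · have h2 := key 2 Nat.prime_two (by norm_num)
    have h3 := key 3 Nat.prime_three (by norm_num)
    omega
  · exfalso; revert hr; norm_num
  · exact absurd (key 2 Nat.prime_two (by norm_num)).symm hsp
  · exact absurd (key 2 Nat.prime_two (by norm_num)).symm hsp
  · exfalso; revert hp; norm_num
  · exfalso; revert hp; norm_num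

variable {p : ℕ} [Fact p.Prime] {V : Type u} [AddCommGroup V] [Module (ZMod p) V]
variable (H : Subgroup (V ≃ₗ[ZMod p] V))

/-- dimension at least three, not `2^6` -/
theorem big_case [Finite V] [Nontrivial V] (hsolv : Group.IsSolvable H) (htr : Trans H)
    (hn : 3 ≤ finrank (ZMod p) V) (h26 : ¬ (p = 2 ∧ finrank (ZMod p) V = 6)) :
    HasIrrCyc H ∨ Nat.card V = 81 := by
  have hp : p.Prime := Fact.out
  by_cases hIC : HasIrrCyc H
  · exact Or.inl hIC
  right
  set n := finrank (ZMod p) V with hn'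
  -- every primitive prime divisor is `n + 1`, to the first power
  have hall : ∀ r : ℕ, r.Prime → r ∣ p ^ n - 1 → (∀ k, 0 < k → k < n → ¬ r ∣ p ^ k - 1) →
      r = n + 1 ∧ ¬ r ^ 2 ∣ p ^ n - 1 ∧ ∃ s w, s.Prime ∧ s ≠ p ∧ n = s ^ w := by
    intro r hr hd hppd
    rcases ppd_case H hr hd hppd hsolv htr with h | h
    · exact absurd h hIC
    · exact h
  obtain ⟨r, hr, hrd, hrppd⟩ := Cfsg.Agent.Lib.Helper99_Zsigmondy.zsigmondy p n hp.one_lt
    (by omega) (by rintro ⟨h1, h2⟩; exact h26 ⟨h1, h2⟩) (by rintro ⟨h1, -⟩; omega)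
  obtain ⟨hrn, -, s, w, hs, hsp, hnsw⟩ := hall r hr hrd hrppd
  have hn1 : (n + 1).Prime := hrn ▸ hr
  -- the primitive part is at most `n + 1`
  have hppos := Cfsg.Agent.Lib.Helper99_PrimPart.pp_pos (q := p) (n := n) hp.two_le
  have hppdvd := Cfsg.Agent.Lib.Helper99_PrimPart.pp_dvd_pow_sub_one (q := p) (n := n) hp.pos
    (by omega)
  have hprime : ∀ {d : ℕ}, d.Prime → d ∣ Cfsg.Agent.Lib.Helper99_PrimPart.pp p n → d = n + 1 := by
    intro d hd hdd
    obtain ⟨h1, h2⟩ := Cfsg.Agent.Lib.Helper99_PrimPart.ppd_of_dvd_pp hp.two_le hn hd hdd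
    exact (hall d hd h1 h2).1
  have hpow := Nat.eq_prime_pow_of_unique_prime_dvd hppos.ne' hprime
  set k := (Cfsg.Agent.Lib.Helper99_PrimPart.pp p n).primeFactorsList.length with hk
  have hk1 : k ≤ 1 := by
    by_contra hk2
    push Not at hk2
    have h1 : (n + 1) ^ 2 ∣ Cfsg.Agent.Lib.Helper99_PrimPart.pp p n := by
      rw [hpow]
      exact pow_dvd_pow _ hk2
    have h2 : (n + 1) ∣ Cfsg.Agent.Lib.Helper99_PrimPart.pp p n :=
      (dvd_pow_self _ (by norm_num)).trans h1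
    obtain ⟨h3, h4⟩ := Cfsg.Agent.Lib.Helper99_PrimPart.ppd_of_dvd_pp hp.two_le hn hn1 h2
    exact (hall (n + 1) hn1 h3 h4).2.1 (h1.trans hppdvd)
  have hle : Cfsg.Agent.Lib.Helper99_PrimPart.pp p n ≤ 3 * n := by
    rw [hpow]
    calc (n + 1) ^ k ≤ (n + 1) ^ 1 := Nat.pow_le_pow_right (by omega) hk1
      _ ≤ 3 * n := by rw [pow_one]; omega
  have htab := Cfsg.Agent.Lib.Helper99_PrimPartEval.pp_small p n hp.two_le hn hle
  obtain ⟨h3, h4⟩ := arith2 hp hs hsp hnsw hn1 h26 htab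
  rw [card_V (p := p), ← hn', h3, h4]
  norm_num

/-- dimension one -/
theorem hasIrrCyc_of_finrank_one (h1 : finrank (ZMod p) V = 1) : HasIrrCyc H := by
  refine ⟨⊥, inferInstance, inferInstance, ?_⟩
  intro W _
  have := is_simple_module_of_finrank_eq_one (K := ZMod p) (V := V) (A := ZMod p) h1
  exact eq_bot_or_eq_top W

/-- the case `|V| = 4` -/
theorem case_two_two [Finite V] [Nontrivial V] (hsolv : Group.IsSolvable H) (htr : Trans H)
    (hp2 : p = 2) (hn : finrank (ZMod p) V = 2) : HasIrrCyc H := by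
  have h3 : Nat.Prime 3 := Nat.prime_three
  have hd : 3 ∣ p ^ finrank (ZMod p) V - 1 := by rw [hn, hp2]; norm_num
  have hppd : ∀ k, 0 < k → k < finrank (ZMod p) V → ¬ 3 ∣ p ^ k - 1 := by
    intro k hk0 hk
    rw [hn] at hk
    have : k = 1 := by omega
    rw [this, hp2]
    norm_num
  rcases ppd_case H h3 hd hppd hsolv htr with h | ⟨-, -, s, w, hs, hsp, hsw⟩
  · exact h
  · exfalso
    rw [hn] at hsw
    have hw : w ≠ 0 := by
      rintro rfl
      simp at hsw
    have h1 : s ∣ 2 := by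
      rw [hsw]
      exact dvd_pow_self s hw
    have h2 := (Nat.prime_dvd_prime_iff_eq hs Nat.prime_two).1 h1
    exact hsp (h2.trans hp2.symm)

/-- **Huppert's theorem**, group-theoretic core, modulo the plane case and the case `2^6` -/
theorem huppert_core [Finite V] [Nontrivial V] (hsolv : Group.IsSolvable H) (htr : Trans H)
    (hplane : p ≠ 2 → finrank (ZMod p) V = 2 → HasIrrCyc H ∨ (p + 1) ∣ 24)
    (h26 : p = 2 → finrank (ZMod p) V = 6 → HasIrrCyc H) :
    HasIrrCyc H ∨ Nat.card V ∈ ({9, 25, 49, 121, 529, 81} : Set ℕ) := by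
  have hp : p.Prime := Fact.out
  have hn0 : 0 < finrank (ZMod p) V := finrank_pos' (p := p) (V := V)
  rcases Nat.lt_or_ge (finrank (ZMod p) V) 3 with hlt | hge
  · have h12 : finrank (ZMod p) V = 1 ∨ finrank (ZMod p) V = 2 := by omega
    rcases h12 with h1 | h2
    · exact Or.inl (hasIrrCyc_of_finrank_one H h1)
    · by_cases hp2 : p = 2
      · exact Or.inl (case_two_two H hsolv htr hp2 h2)
      · rcases hplane hp2 h2 with h | h
        · exact Or.inl h
        · right
          rw [card_V (p := p), h2]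
          have hle : p + 1 ≤ 24 := Nat.le_of_dvd (by norm_num) h
          have hp24 : p ≤ 23 := by omega
          clear hplane h26 htr hsolv hn0 hlt h2
          interval_cases p <;> first | (exfalso; revert hp; norm_num; done) |
            (exfalso; revert h; norm_num; done) | (exfalso; exact hp2 rfl) | simp
  · by_cases hc : p = 2 ∧ finrank (ZMod p) V = 6
    · exact Or.inl (h26 hc.1 hc.2)
    · rcases big_case H hsolv htr hge hc with h | h
      · exact Or.inl h
      · right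
        rw [h]
        simp

end Cfsg.Agent.Lib.Helper12_Hup6
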