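import Mathlib
import Cfsg.Agent.Lib.Helper66_MI_SpDefs

/-!
# S2141 package CONJ (helper66's market): conjugating `H`

`conjSub x H = x H x⁻¹`.  Conjugation by an isometry preserves being a subgroup of `Sp`, the index,
the property of containing no root group, and `Small`.  Conjugation by an element of `Q_v` does not change
the local data `Bbar`, `Zv`, `Dbar` at `(v, v')`.
-/

set_option autoImplicit false
set_option linter.unusedVariables false
set_option linter.unusedSectionVars false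

namespace Cfsg.Agent.Lib.Helper32_MISp_CONJ

open Cfsg.Agent.Lib.Helper94_Symp Cfsg.Agent.Lib.Helper94_SympTI
  Cfsg.Agent.Lib.Helper94_SympPerfect Cfsg.Agent.Lib.Helper66_MI_SpDefs

variable {F V : Type*} [Field F] [AddCommGroup V] [Module F V]
variable (B : LinearMap.BilinForm F V) (hB : B.IsAlt)

/-- `g_v(w + c v, t) = g_v(w, t + 2c)` -/
theorem gv_add_smul_self' {v w : V} (hw : B v w = 0) (c t : F) :
    gv B hB v (w + c • v) t = gv B hB v w (t + 2 * c) := by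
  have h' : B v (w + c • v) = 0 := by rw [map_add, map_smul, hw, hB v, smul_zero, add_zero]
  ext x
  rw [gv_apply B hB h', gv_apply B hB hw]
  simp only [map_add, map_smul, smul_eq_mul]
  module

/-- an element of `Q_v` conjugates `g_v(w,t)` to `g_v(w, t + 2c)` for some `c` -/
theorem exists_conj_gv_Qv {v w : V} {x : V ≃ₗ[F] V} (hx : x ∈ Qv B v) (hw : B v w = 0) :
    ∃ c : F, ∀ t : F, x * gv B hB v w t * x⁻¹ = gv B hB v w (t + 2 * c) := by
  obtain ⟨hx1, hxv, hx2⟩ := hx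
  have hwv : B w v = 0 := by rw [alt_swap B hB, hw, neg_zero]
  obtain ⟨c, hc⟩ := hx2 w hwv
  refine ⟨c, fun t => ?_⟩
  rw [conj_gv B hB hx1, hxv, hc, gv_add_smul_self' B hB hw]

theorem conjSub_le {x : V ≃ₗ[F] V} (hx : x ∈ isoGroup B) {H : Subgroup (V ≃ₗ[F] V)}
    (hH : H ≤ isoGroup B) : conjSub x H ≤ isoGroup B := by
  intro g hg
  have h1 := hH (mem_conjSub.mp hg)
  have h2 : g = x * (x⁻¹ * g * x) * x⁻¹ := by group
  rw [h2]
  exact (isoGroup B).mul_mem ((isoGroup B).mul_mem hx h1) ((isoGroup B).inv_mem hx)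

theorem relIndex_conjSub {x : V ≃ₗ[F] V} (hx : x ∈ isoGroup B) (H : Subgroup (V ≃ₗ[F] V)) :
    (conjSub x H).relIndex (isoGroup B) = H.relIndex (isoGroup B) := by
  have hK : (isoGroup B).map (MulAut.conj x).toMonoidHom = isoGroup B := by
    ext g
    constructor
    · rintro ⟨k, hk, rfl⟩
      show x * k * x⁻¹ ∈ isoGroup B
      exact (isoGroup B).mul_mem ((isoGroup B).mul_mem hx hk) ((isoGroup B).inv_mem hx)
    · intro hg
      refine ⟨x⁻¹ * g * x, (isoGroup B).mul_mem ((isoGroup B).mul_mem ((isoGroup B).inv_mem hx) hg) hx, ?_⟩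
      show x * (x⁻¹ * g * x) * x⁻¹ = g
      group
  have h := Subgroup.relIndex_map_map_of_injective H (isoGroup B)
    (f := (MulAut.conj x).toMonoidHom) (MulAut.conj x).injective
  rw [hK] at h
  exact h

theorem noRoot_conjSub {x : V ≃ₗ[F] V} (hx : x ∈ isoGroup B) {H : Subgroup (V ≃ₗ[F] V)}
    (h : NoRoot B hB H) : NoRoot B hB (conjSub x H) := by
  intro u hu hle
  have hu' : x⁻¹ u ≠ 0 := by
    intro h0
    apply hu
    have := apply_inv_apply' x u
    rw [h0, map_zero] at this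
    exact this.symm
  apply h (x⁻¹ u) hu'
  rintro _ ⟨t, rfl⟩
  have h1 := mem_conjSub.mp (hle (stv_mem_Xv B hB u t))
  have h2 : x⁻¹ * stv B hB u t * x = stv B hB (x⁻¹ u) t := by
    have := conj_stv B hB ((isoGroup B).inv_mem hx) u t
    rwa [inv_inv] at this
  rwa [h2] at h1

theorem small_conjSub {x : V ≃ₗ[F] V} (hx : x ∈ isoGroup B) {N : ℕ}
    {H : Subgroup (V ≃ₗ[F] V)} (h : Small B hB N H) : Small B hB N (conjSub x H) where
  le := conjSub_le B hx h.le
  noRoot := noRoot_conjSub B hB hx h.noRoot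
  idx := by rw [relIndex_conjSub B hx]; exact h.idx

theorem Bbar_conjSub_Qv {v v' : V} (hvv : B v v' = 1) {x : V ≃ₗ[F] V} (hx : x ∈ Qv B v)
    (H : Subgroup (V ≃ₗ[F] V)) : Bbar B hB (conjSub x H) v v' = Bbar B hB H v v' := by
  have hxi : x⁻¹ ∈ Qv B v := (Qv B v).inv_mem hx
  ext w
  rw [mem_Bbar, mem_Bbar]
  constructor
  · rintro ⟨hw, t, ht⟩
    refine ⟨hw, ?_⟩
    have hvw : B v w = 0 := by rw [alt_swap B hB, hw.1, neg_zero]
    obtain ⟨c, hc⟩ := exists_conj_gv_Qv B hB hxi hvw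
    have h1 := mem_conjSub.mp ht
    have h2 := hc t
    rw [inv_inv] at h2
    rw [h2] at h1
    exact ⟨_, h1⟩
  · rintro ⟨hw, t, ht⟩
    refine ⟨hw, ?_⟩
    have hvw : B v w = 0 := by rw [alt_swap B hB, hw.1, neg_zero]
    obtain ⟨c, hc⟩ := exists_conj_gv_Qv B hB hxi hvw
    refine ⟨t - 2 * c, mem_conjSub.mpr ?_⟩
    have h2 := hc (t - 2 * c)
    rw [inv_inv, sub_add_cancel] at h2
    rw [h2]
    exact ht

theorem Zv_conjSub_Qv {v v' : V} (hvv : B v v' = 1) {x : V ≃ₗ[F] V} (hx : x ∈ Qv B v)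
    (H : Subgroup (V ≃ₗ[F] V)) : Zv B hB (conjSub x H) v = Zv B hB H v := by
  have hxi : x⁻¹ ∈ Qv B v := (Qv B v).inv_mem hx
  have h2 : ∀ t : F, x⁻¹ * stv B hB v t * x = stv B hB v t := by
    intro t
    have := conj_stv B hB hxi.1 v t
    rwa [inv_inv, hxi.2.1] at this
  ext t
  rw [mem_Zv, mem_Zv, mem_conjSub, h2]

include hB in
theorem Dbar_conjSub_Qv {v v' : V} (hvv : B v v' = 1) {x : V ≃ₗ[F] V} (hx : x ∈ Qv B v)
    (H : Subgroup (V ≃ₗ[F] V)) : Dbar B (conjSub x H) v v' = Dbar B H v v' := by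
  have hxi : x⁻¹ ∈ Qv B v := (Qv B v).inv_mem hx
  ext l
  rw [mem_Dbar, mem_Dbar]
  constructor
  · rintro ⟨hl, g, hg, hgl⟩
    refine ⟨hl, x⁻¹ * g * (l * x * l⁻¹), ?_, ?_⟩
    · exact (Qv B v).mul_mem ((Qv B v).mul_mem hxi hg) (conj_mem_Qv B hl.1 hx)
    · have h1 := mem_conjSub.mp hgl
      have h2 : x⁻¹ * g * (l * x * l⁻¹) * l = x⁻¹ * (g * l) * x := by group
      rw [h2]
      exact h1
  · rintro ⟨hl, g, hg, hgl⟩
    refine ⟨hl, x * g * (l * x⁻¹ * l⁻¹), ?_, ?_⟩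
    · exact (Qv B v).mul_mem ((Qv B v).mul_mem hx hg) (conj_mem_Qv B hl.1 hxi)
    · apply mem_conjSub.mpr
      have h2 : x⁻¹ * (x * g * (l * x⁻¹ * l⁻¹) * l) * x = g * l := by group
      rw [h2]
      exact hgl

end Cfsg.Agent.Lib.Helper32_MISp_CONJ
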