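import Mathlib
import Cfsg.Agent.Lib.Helper66_MI_SpDefs
import Cfsg.Agent.Lib.Helper32_MISp_CONJ

/-!
# S2141 package L1 (helper66's market): elements of `Dbar` normalise the local data

For `l ∈ Dbar` with `l v = c • v`: `c • l Bbar ⊆ Bbar`, `c² Z ⊆ Z`; `K_H` preserves `Bbar`; in characteristic 2
`K_H` normalises `H ∩ Q_v` with the same `t` (E1).
-/

set_option autoImplicit false
set_option linter.unusedVariables false
set_option linter.unusedSectionVars false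

namespace Cfsg.Agent.Lib.Helper32_MISp_L1

open Cfsg.Agent.Lib.Helper94_Symp Cfsg.Agent.Lib.Helper94_SympTI
  Cfsg.Agent.Lib.Helper94_SympPerfect Cfsg.Agent.Lib.Helper66_MI_SpDefs
  Cfsg.Agent.Lib.Helper32_MISp_CONJ

variable {F V : Type*} [Field F] [AddCommGroup V] [Module F V]
variable (B : LinearMap.BilinForm F V) (hB : B.IsAlt)

/-- `g_{c v}(w,t) = g_v(c w, c² t)` -/
theorem gv_smul_left {v w : V} (hw : B v w = 0) (c t : F) :
    gv B hB (c • v) w t = gv B hB v (c • w) (c * c * t) := by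
  have h1 : B (c • v) w = 0 := by rw [map_smul, LinearMap.smul_apply, hw, smul_zero]
  have h2 : B v (c • w) = 0 := by rw [map_smul, hw, smul_zero]
  ext x
  rw [gv_apply B hB h1, gv_apply B hB h2]
  simp only [map_smul, smul_eq_mul]
  module

/-- an isometry with `l v = c • v` acts on `Q_v` by `g_v(w,t) ↦ g_v(c • l w, c² t)` -/
theorem gv_conj_of_eigen' {v w : V} {l : V ≃ₗ[F] V} (hl : l ∈ isoGroup B) {c : F}
    (hlv : l v = c • v) (hw : B v w = 0) (t : F) :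
    l * gv B hB v w t * l⁻¹ = gv B hB v (c • l w) (c * c * t) := by
  rw [conj_gv B hB hl, hlv]
  by_cases hc : c = 0
  · subst hc
    have h0 : B (0 : V) (l w) = 0 := by simp
    have h0' : B v ((0 : F) • l w) = 0 := by simp
    ext x
    rw [gv_apply B hB (by rw [zero_smul]; exact h0), gv_apply B hB h0']
    simp
  · have h1 : B v (l w) = 0 := by
      have h2 : B (l v) (l w) = 0 := by rw [hl v w, hw]
      rw [hlv, map_smul, LinearMap.smul_apply, smul_eq_mul] at h2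
      exact (mul_eq_zero.mp h2).resolve_left hc
    exact gv_smul_left B hB h1 c t

include hB in
/-- `L` preserves `W` -/
theorem Lv_map_Wsub' {v v' : V} {l : V ≃ₗ[F] V} (hl : l ∈ Lv B v v') {w : V}
    (hw : w ∈ Wsub B v v') : l w ∈ Wsub B v v' := by
  obtain ⟨hl1, ⟨c, hc, hlv⟩, ⟨c', hc', hlv'⟩⟩ := (mem_Lv B).mp hl
  refine ⟨?_, ?_⟩
  · have h2 : B (l w) (l v) = 0 := by rw [hl1 w v, hw.1]
    rw [hlv, map_smul, smul_eq_mul] at h2
    exact (mul_eq_zero.mp h2).resolve_left hc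
  · have h2 : B (l w) (l v') = 0 := by rw [hl1 w v', hw.2]
    rw [hlv', map_smul, smul_eq_mul] at h2
    exact (mul_eq_zero.mp h2).resolve_left hc'

/-- the key conjugation: for `y = g l ∈ H` (`g ∈ Q_v`, `l v = c • v`, `l` an isometry) and `g_v(w,t) ∈ H`,
some `g_v(c • l w, c² t + 2 d)` lies in `H`. -/
theorem exists_conj_mem {v : V} {H : Subgroup (V ≃ₗ[F] V)} {l g : V ≃ₗ[F] V}
    (hl : l ∈ isoGroup B) (hg : g ∈ Qv B v) (hgl : g * l ∈ H) {c : F} (hlv : l v = c • v)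
    {w : V} (hw : B v w = 0) {t : F} (ht : gv B hB v w t ∈ H) :
    ∃ d : F, gv B hB v (c • l w) (c * c * t + 2 * d) ∈ H := by
  have h1 : (g * l) * gv B hB v w t * (g * l)⁻¹ ∈ H :=
    H.mul_mem (H.mul_mem hgl ht) (H.inv_mem hgl)
  have h2 : (g * l) * gv B hB v w t * (g * l)⁻¹ = g * (l * gv B hB v w t * l⁻¹) * g⁻¹ := by group
  rw [h2, gv_conj_of_eigen' B hB hl hlv hw] at h1
  have h3 : B v (c • l w) = 0 := by
    by_cases hc : c = 0
    · subst hc; simp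
    · have h4 : B (l v) (l w) = 0 := by rw [hl v w, hw]
      rw [hlv, map_smul, LinearMap.smul_apply, smul_eq_mul] at h4
      rw [map_smul, (mul_eq_zero.mp h4).resolve_left hc, smul_zero]
  obtain ⟨d, hd⟩ := exists_conj_gv_Qv B hB hg h3
  rw [hd] at h1
  exact ⟨d, h1⟩

/-- (L1) for `l ∈ Dbar` with `l v = c • v`: `c • l Bbar ⊆ Bbar` -/
theorem L1_Bbar {v v' : V} (hvv : B v v' = 1) {H : Subgroup (V ≃ₗ[F] V)} {l : V ≃ₗ[F] V}
    (hl : l ∈ Dbar B H v v') {c : F} (hlv : l v = c • v) {w : V}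
    (hw : w ∈ Bbar B hB H v v') : c • l w ∈ Bbar B hB H v v' := by
  obtain ⟨hlL, g, hg, hgl⟩ := hl
  obtain ⟨hwW, t, ht⟩ := hw
  have hvw : B v w = 0 := by rw [alt_swap B hB, hwW.1, neg_zero]
  obtain ⟨d, hd⟩ := exists_conj_mem B hB hlL.1.1 hg hgl hlv hvw ht
  exact ⟨(Wsub B v v').smul_mem c (Lv_map_Wsub' B hB hlL hwW), _, hd⟩

/-- (L1) for `l ∈ Dbar` with `l v = c • v`: `c² Z ⊆ Z` -/
theorem L1_Zv {v v' : V} (hvv : B v v' = 1) {H : Subgroup (V ≃ₗ[F] V)} {l : V ≃ₗ[F] V}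
    (hl : l ∈ Dbar B H v v') {c : F} (hlv : l v = c • v) {t : F}
    (ht : t ∈ Zv B hB H v) : c * c * t ∈ Zv B hB H v := by
  obtain ⟨hlL, g, hg, hgl⟩ := hl
  have ht' : stv B hB v t ∈ H := ht
  have h1 : (g * l) * stv B hB v t * (g * l)⁻¹ ∈ H :=
    H.mul_mem (H.mul_mem hgl ht') (H.inv_mem hgl)
  have h2 : (g * l) * stv B hB v t * (g * l)⁻¹ = g * (l * stv B hB v t * l⁻¹) * g⁻¹ := by group
  rw [h2, conj_stv B hB hlL.1.1, hlv, stv_smul, conj_stv B hB hg.1, hg.2.1] at h1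
  exact h1

/-- for `c ∈ T_1`: `c² Z ⊆ Z` -/
theorem T1_Zv {v v' : V} (hvv : B v v' = 1) {H : Subgroup (V ≃ₗ[F] V)} {c : Fˣ}
    (hc : c ∈ T1 B H v v') {t : F} (ht : t ∈ Zv B hB H v) :
    (c : F) * (c : F) * t ∈ Zv B hB H v := by
  obtain ⟨l, hl, hlv⟩ := hc
  exact L1_Zv B hB hvv hl hlv ht

/-- `K_H` preserves `Bbar` -/
theorem KH_Bbar {v v' : V} (hvv : B v v' = 1) {H : Subgroup (V ≃ₗ[F] V)} {k : V ≃ₗ[F] V}
    (hk : k ∈ KH B H v v') {w : V} (hw : w ∈ Bbar B hB H v v') : k w ∈ Bbar B hB H v v' := by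
  have hkv : k v = (1 : F) • v := by rw [one_smul]; exact hk.2.2.1
  have := L1_Bbar B hB hvv hk.1 hkv hw
  rwa [one_smul] at this

/-- (E1) in characteristic 2, `K_H` normalises `H ∩ Q_v` with the SAME `t` -/
theorem E1 (h2 : (2 : F) = 0) {v v' : V} (hvv : B v v' = 1) {H : Subgroup (V ≃ₗ[F] V)}
    {k : V ≃ₗ[F] V} (hk : k ∈ KH B H v v') {w : V} (hw : w ∈ Wsub B v v') {t : F}
    (h : gv B hB v w t ∈ H) : gv B hB v (k w) t ∈ H := by
  obtain ⟨⟨hkL, g, hg, hgk⟩, hkK⟩ := hk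
  have hkv : k v = (1 : F) • v := by rw [one_smul]; exact hkK.2.1
  have hvw : B v w = 0 := by rw [alt_swap B hB, hw.1, neg_zero]
  obtain ⟨d, hd⟩ := exists_conj_mem B hB hkK.1 hg hgk hkv hvw h
  rwa [one_smul, one_mul, one_mul, h2, zero_mul, add_zero] at hd

end Cfsg.Agent.Lib.Helper32_MISp_L1
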