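import Mathlib

/-!
S2141 COVER (helper66's market): covering a transitive `G`-set by the translates of a subset `Y` stabilised by a
subgroup `K'`.  NOTE: the statement needs `K'` of finite index (otherwise `K'.index = 0` and the bound is false:
`G = ℤ` acting trivially on a point, `K' = ⊥`); `cover_bound'` assumes `K'.index ≠ 0`, `cover_bound` assumes
`[Finite G]` as allowed by the architect's note.  helper63.
-/

set_option autoImplicit false

namespace Cfsg.Agent.Lib.Helper63_MISp_COVER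

/-- general version: `K'` of finite index -/
theorem cover_bound' {G Ω : Type*} [Group G] [MulAction G Ω] [Finite Ω]
    (htr : ∀ x y : Ω, ∃ g : G, g • x = y) (Y : Set Ω) (hY : Y.Nonempty) (K' : Subgroup G)
    (hfi : K'.index ≠ 0)
    (hK' : ∀ k ∈ K', ∀ y ∈ Y, k • y ∈ Y) :
    Nat.card Ω ≤ K'.index * Nat.card Y ∧
      (Nat.card Ω = K'.index * Nat.card Y →
        ∀ g : G, (∃ y ∈ Y, g • y ∈ Y) → g ∈ K') := by
  have hfin : Finite (G ⧸ K') := by
    have : K'.FiniteIndex := ⟨hfi⟩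
    infer_instance
  -- decomposition g = out [g] * k
  have hdec : ∀ g : G, ((QuotientGroup.mk g : G ⧸ K').out)⁻¹ * g ∈ K' := by
    intro g
    rw [← QuotientGroup.eq]
    exact Quotient.out_eq' _
  -- the covering map
  let φ : (G ⧸ K') × Y → Ω := fun p => (p.1.out) • (p.2 : Ω)
  have hsurj : Function.Surjective φ := by
    intro x
    obtain ⟨y₀, hy₀⟩ := hY
    obtain ⟨g, hg⟩ := htr y₀ x
    refine ⟨((QuotientGroup.mk g : G ⧸ K'),
      ⟨(((QuotientGroup.mk g : G ⧸ K').out)⁻¹ * g) • y₀, hK' _ (hdec g) y₀ hy₀⟩), ?_⟩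
    show ((QuotientGroup.mk g : G ⧸ K').out) • ((((QuotientGroup.mk g : G ⧸ K').out)⁻¹ * g) • y₀) = x
    rw [smul_smul, mul_inv_cancel_left, hg]
  have hcard : Nat.card ((G ⧸ K') × Y) = K'.index * Nat.card Y := by
    rw [Nat.card_prod]; rfl
  refine ⟨?_, ?_⟩
  · rw [← hcard]
    exact Nat.card_le_card_of_surjective φ hsurj
  · intro heq g hg
    obtain ⟨y, hy, hgy⟩ := hg
    have hbij : Function.Bijective φ :=
      hsurj.bijective_of_nat_card_le (by rw [hcard, heq])
    -- two preimages of g • y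
    have h1mem : ((QuotientGroup.mk (1 : G) : G ⧸ K').out)⁻¹ ∈ K' := by
      have := hdec 1
      rwa [mul_one] at this
    have e1 : φ ((QuotientGroup.mk g : G ⧸ K'),
        ⟨(((QuotientGroup.mk g : G ⧸ K').out)⁻¹ * g) • y, hK' _ (hdec g) y hy⟩) = g • y := by
      show ((QuotientGroup.mk g : G ⧸ K').out) •
        ((((QuotientGroup.mk g : G ⧸ K').out)⁻¹ * g) • y) = g • y
      rw [smul_smul, mul_inv_cancel_left]
    have e2 : φ ((QuotientGroup.mk (1 : G) : G ⧸ K'),
        ⟨((QuotientGroup.mk (1 : G) : G ⧸ K').out)⁻¹ • (g • y), hK' _ h1mem _ hgy⟩) = g • y := by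
      show ((QuotientGroup.mk (1 : G) : G ⧸ K').out) •
        (((QuotientGroup.mk (1 : G) : G ⧸ K').out)⁻¹ • (g • y)) = g • y
      rw [smul_smul, mul_inv_cancel, one_smul]
    have h3 := hbij.1 (e1.trans e2.symm)
    have h4 : (QuotientGroup.mk g : G ⧸ K') = QuotientGroup.mk (1 : G) := congrArg Prod.fst h3
    have h5 := QuotientGroup.eq.1 h4
    rw [mul_one] at h5
    exact (Subgroup.inv_mem_iff K').1 h5

/-- **COVER** (with `[Finite G]`, see the note above) -/
theorem cover_bound {G Ω : Type*} [Group G] [Finite G] [MulAction G Ω] [Finite Ω]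
    (htr : ∀ x y : Ω, ∃ g : G, g • x = y) (Y : Set Ω) (hY : Y.Nonempty) (K' : Subgroup G)
    (hK' : ∀ k ∈ K', ∀ y ∈ Y, k • y ∈ Y) :
    Nat.card Ω ≤ K'.index * Nat.card Y ∧
      (Nat.card Ω = K'.index * Nat.card Y →
        ∀ g : G, (∃ y ∈ Y, g • y ∈ Y) → g ∈ K') :=
  cover_bound' htr Y hY K' Subgroup.index_ne_zero_of_finite hK'

end Cfsg.Agent.Lib.Helper63_MISp_COVER
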