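import Mathlib
import Cfsg.Agent.Lib.Helper66_MI_SpDefs

/-!
# S2141 package DUAL2 (architect helper66, proof helper69)

Annihilators of additive subgroups of `V` for the pairing `V × V → F / Z'`, `Z'` an additive subgroup
of index 2 of the finite field `F` (which forces characteristic 2): `|ann X| |X| = |V|`,
`ann (ann X) = X`; and the existence of `Z'` (the image of the Artin-Schreier map `x ↦ x² + x`).
Route: `V` is a `ZMod 2`-vector space, `(x, a) ↦ ψ (B a x)` is a nondegenerate `ZMod 2`-bilinear form
(`ψ : F → ZMod 2` with kernel `Z'`), and Mathlib's `finrank_orthogonal`, `orthogonal_orthogonal` apply.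
Also: a reflexive bilinear form is symmetric or alternating.
-/

set_option autoImplicit false

namespace Cfsg.Agent.Lib.Helper69_MISp_DUAL2

open Cfsg.Agent.Lib.Helper66_MI_SpDefs

variable {F V : Type*} [Field F] [AddCommGroup V] [Module F V]

/-- a reflexive bilinear form is symmetric or alternating -/
theorem isSymm_or_isAlt_of_isRefl (B : LinearMap.BilinForm F V) (hR : B.IsRefl) :
    (∀ x y, B x y = B y x) ∨ (∀ x, B x x = 0) := by
  have key : ∀ x y z : V, B x y * B z x = B x z * B y x := by
    intro x y z
    have h0 : B x (B x y • z - B x z • y) = 0 := by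
      rw [map_sub, map_smul, map_smul, smul_eq_mul, smul_eq_mul]
      ring
    have h1 := hR _ _ h0
    rw [map_sub, LinearMap.sub_apply, map_smul, map_smul, LinearMap.smul_apply,
      LinearMap.smul_apply, smul_eq_mul, smul_eq_mul, sub_eq_zero] at h1
    exact h1
  have key2 : ∀ x y : V, B x x ≠ 0 → B x y = B y x := by
    intro x y hx
    have h1 := key x y x
    exact mul_right_cancel₀ hx (by rw [h1, mul_comm])
  by_cases hsymm : ∀ x y, B x y = B y x
  · exact Or.inl hsymm
  · right
    push_neg at hsymm
    obtain ⟨u, v, huv⟩ := hsymm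
    have hv : B v v = 0 := by
      by_contra h
      exact huv (key2 v u h).symm
    intro w
    by_contra hw
    have hwy : ∀ y, B w y = B y w := fun y => key2 w y hw
    have h1 : B u w = 0 := by
      have h2 := key u v w
      rw [hwy u] at h2
      have h3 : B u w * (B u v - B v u) = 0 := by linear_combination h2
      rcases mul_eq_zero.mp h3 with h | h
      · exact h
      · exact absurd (sub_eq_zero.mp h) huv
    have h2 : B v w = 0 := by
      have h2 := key v u w
      rw [hwy v] at h2
      have h3 : B v w * (B v u - B u v) = 0 := by linear_combination h2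
      rcases mul_eq_zero.mp h3 with h | h
      · exact h
      · exact absurd (sub_eq_zero.mp h).symm huv
    have h3 : B (v + w) (v + w) ≠ 0 := by
      have h4 : B (v + w) (v + w) = B w w := by
        simp only [map_add, LinearMap.add_apply]
        rw [hv, h2, hwy v, h2]
        ring
      rw [h4]
      exact hw
    have h4 := key2 (v + w) u h3
    simp only [map_add, LinearMap.add_apply] at h4
    rw [hwy u, h1, add_zero, add_zero] at h4
    exact huv h4.symm

/-- an additive subgroup of index 2 forces characteristic 2 -/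
theorem two_eq_zero_of_index_two [Finite F] (Z' : AddSubgroup F) (hZ' : Z'.index = 2) :
    (2 : F) = 0 := by
  have hdvd : 2 ∣ Nat.card F := by
    rw [← Z'.card_mul_index, hZ']
    exact dvd_mul_left 2 _
  haveI : Fact (Nat.Prime 2) := ⟨Nat.prime_two⟩
  obtain ⟨x, hx⟩ := exists_prime_addOrderOf_dvd_card' 2 hdvd
  have hx0 : x ≠ 0 := by
    intro h
    rw [h, addOrderOf_zero] at hx
    omega
  have h2x : (2 : ℕ) • x = 0 := by
    rw [← hx]
    exact addOrderOf_nsmul_eq_zero x
  rw [two_nsmul, ← two_mul] at h2x
  exact (mul_eq_zero.mp h2x).resolve_right hx0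

/-- the additive character `F → ZMod 2` with kernel `Z'` -/
noncomputable def psi (Z' : AddSubgroup F) (hZ' : Z'.index = 2) : F →+ ZMod 2 := by
  classical
  exact AddMonoidHom.mk' (fun x => if x ∈ Z' then 0 else 1) (by
    intro a b
    have h := AddSubgroup.add_mem_iff_of_index_two hZ' (a := a) (b := b)
    by_cases ha : a ∈ Z'
    · by_cases hb : b ∈ Z'
      · have hab : a + b ∈ Z' := h.mpr ⟨fun _ => hb, fun _ => ha⟩
        simp [ha, hb, hab]
      · have hab : a + b ∉ Z' := fun hab => hb (h.mp hab |>.mp ha)
        simp [ha, hb, hab]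
    · by_cases hb : b ∈ Z'
      · have hab : a + b ∉ Z' := fun hab => ha (h.mp hab |>.mpr hb)
        simp [ha, hb, hab]
      · have hab : a + b ∈ Z' := h.mpr ⟨fun h' => absurd h' ha, fun h' => absurd h' hb⟩
        simp only [ha, hb, hab, if_true, if_false]
        decide)

theorem psi_eq_zero_iff (Z' : AddSubgroup F) (hZ' : Z'.index = 2) (x : F) :
    psi Z' hZ' x = 0 ↔ x ∈ Z' := by
  classical
  unfold psi
  simp only [AddMonoidHom.mk'_apply]
  by_cases hx : x ∈ Z'
  · simp [hx]
  · simp [hx]

section zmod

variable [Module (ZMod 2) V]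

/-- the `ZMod 2`-bilinear form `(x, a) ↦ ψ (B a x)` -/
noncomputable def gam (B : LinearMap.BilinForm F V) (ψ : F →+ ZMod 2) :
    LinearMap.BilinForm (ZMod 2) V :=
  AddMonoidHom.toZModLinearMap 2
    (AddMonoidHom.mk' (fun x : V => AddMonoidHom.toZModLinearMap 2
      (AddMonoidHom.mk' (fun a : V => ψ (B a x)) (by
        intro a b
        rw [map_add, LinearMap.add_apply, map_add]))) (by
      intro x y
      apply LinearMap.ext
      intro a
      show ψ (B a (x + y)) = ψ (B a x) + ψ (B a y)
      rw [map_add, map_add]))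

theorem gam_apply (B : LinearMap.BilinForm F V) (ψ : F →+ ZMod 2) (x a : V) :
    gam B ψ x a = ψ (B a x) := rfl

theorem gam_nondegenerate [Finite F] (B : LinearMap.BilinForm F V) (hN : B.Nondegenerate)
    (Z' : AddSubgroup F) (hZ' : Z'.index = 2) : (gam B (psi Z' hZ')).Nondegenerate := by
  have hne : ∀ c : F, c ≠ 0 → ∃ d : F, d * c ∉ Z' := by
    intro c hc
    by_contra h
    push_neg at h
    have htop : Z' = ⊤ := by
      rw [eq_top_iff]
      intro y _
      have h1 := h (y * c⁻¹)
      rwa [inv_mul_cancel_right₀ hc] at h1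
    rw [htop, AddSubgroup.index_top] at hZ'
    omega
  constructor
  · intro x hx
    apply hN.2 x
    intro a
    by_contra hc
    obtain ⟨d, hd⟩ := hne _ hc
    apply hd
    have h1 := hx (d • a)
    rw [gam_apply, psi_eq_zero_iff, map_smul, LinearMap.smul_apply, smul_eq_mul] at h1
    exact h1
  · intro a ha
    apply hN.1 a
    intro x
    by_contra hc
    obtain ⟨d, hd⟩ := hne _ hc
    apply hd
    have h1 := ha (d • x)
    rw [gam_apply, psi_eq_zero_iff, map_smul, smul_eq_mul] at h1
    exact h1

theorem mem_ann_iff (B : LinearMap.BilinForm F V) (Z' : AddSubgroup F) (hZ' : Z'.index = 2)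
    (X : AddSubgroup V) (a : V) :
    a ∈ ann B Z' X ↔
      a ∈ (gam B (psi Z' hZ')).orthogonal (AddSubgroup.toZModSubmodule 2 X) := by
  rw [mem_ann, LinearMap.BilinForm.mem_orthogonal_iff]
  constructor
  · intro h x hx
    rw [gam_apply, psi_eq_zero_iff]
    exact h x hx
  · intro h x hx
    have h1 := h x hx
    rwa [gam_apply, psi_eq_zero_iff] at h1

theorem key [Finite F] [FiniteDimensional F V] (B : LinearMap.BilinForm F V)
    (hN : B.Nondegenerate) (Z' : AddSubgroup F) (hZ' : Z'.index = 2) (X : AddSubgroup V) :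
    Nat.card (ann B Z' X) * Nat.card X = Nat.card V ∧
      ((∀ x y, B x y = B y x) → ann B Z' (ann B Z' X) = X) := by
  haveI : Finite V := Module.finite_of_finite F
  haveI : Module.Finite (ZMod 2) V := Module.Finite.of_finite
  have hγ := gam_nondegenerate B hN Z' hZ'
  obtain ⟨γ, hγdef⟩ : ∃ γ, γ = gam B (psi Z' hZ') := ⟨_, rfl⟩
  obtain ⟨W, hW⟩ : ∃ W, W = AddSubgroup.toZModSubmodule 2 X := ⟨_, rfl⟩
  have hmem : ∀ a, a ∈ ann B Z' X ↔ a ∈ γ.orthogonal W := by
    intro a
    rw [hγdef, hW]
    exact mem_ann_iff B Z' hZ' X a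
  rw [← hγdef] at hγ
  constructor
  · have h1 : Nat.card (ann B Z' X) = Nat.card (γ.orthogonal W) :=
      Nat.card_congr (Equiv.subtypeEquivRight hmem)
    have h2 : Nat.card X = Nat.card W := by
      rw [hW]
      rfl
    rw [h1, h2, Module.natCard_eq_pow_finrank (K := ZMod 2) (V := γ.orthogonal W),
      Module.natCard_eq_pow_finrank (K := ZMod 2) (V := W),
      Module.natCard_eq_pow_finrank (K := ZMod 2) (V := V),
      LinearMap.BilinForm.finrank_orthogonal hγ W, ← pow_add,
      Nat.sub_add_cancel (Submodule.finrank_le W)]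
  · intro hsymm
    have hrefl : γ.IsRefl := by
      intro x y hxy
      rw [hγdef, gam_apply] at hxy ⊢
      rwa [hsymm x y]
    have h1 := LinearMap.BilinForm.orthogonal_orthogonal hγ hrefl W
    ext a
    rw [mem_ann]
    constructor
    · intro h
      have h2 : a ∈ γ.orthogonal (γ.orthogonal W) := by
        rw [LinearMap.BilinForm.mem_orthogonal_iff]
        intro b hb
        rw [hγdef, gam_apply, psi_eq_zero_iff]
        exact h b ((hmem b).mpr hb)
      rw [h1, hW] at h2
      exact h2
    · intro ha b hb
      have h2 : a ∈ γ.orthogonal (γ.orthogonal W) := by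
        rw [h1, hW]
        exact ha
      rw [LinearMap.BilinForm.mem_orthogonal_iff] at h2
      have h3 := h2 b ((hmem b).mp hb)
      rwa [hγdef, gam_apply, psi_eq_zero_iff] at h3

end zmod

theorem card_ann [Finite F] [FiniteDimensional F V] (B : LinearMap.BilinForm F V)
    (hN : B.Nondegenerate) (hR : B.IsRefl)
    (Z' : AddSubgroup F) (hZ' : Z'.index = 2) (X : AddSubgroup V) :
    Nat.card (ann B Z' X) * Nat.card X = Nat.card V := by
  have h2 := two_eq_zero_of_index_two Z' hZ'
  letI : Module (ZMod 2) V := AddCommGroup.zmodModule (n := 2) (by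
    intro x
    rw [two_nsmul, ← two_smul F, h2, zero_smul])
  exact (key B hN Z' hZ' X).1

theorem ann_ann [Finite F] [FiniteDimensional F V] (B : LinearMap.BilinForm F V)
    (hN : B.Nondegenerate) (hR : B.IsRefl)
    (Z' : AddSubgroup F) (hZ' : Z'.index = 2) (X : AddSubgroup V) :
    ann B Z' (ann B Z' X) = X := by
  have h2 := two_eq_zero_of_index_two Z' hZ'
  letI : Module (ZMod 2) V := AddCommGroup.zmodModule (n := 2) (by
    intro x
    rw [two_nsmul, ← two_smul F, h2, zero_smul])
  have hneg : ∀ c : F, -c = c := by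
    intro c
    have h1 : c + c = 0 := by rw [← two_mul, h2, zero_mul]
    exact neg_eq_of_add_eq_zero_left h1
  have hsymm : ∀ x y, B x y = B y x := by
    rcases isSymm_or_isAlt_of_isRefl B hR with h | h
    · exact h
    · intro x y
      have h1 : B (x + y) (x + y) = 0 := h _
      simp only [map_add, LinearMap.add_apply] at h1
      rw [h x, h y, zero_add, add_zero] at h1
      rw [← hneg (B y x)]
      exact eq_neg_of_add_eq_zero_right h1
  exact (key B hN Z' hZ' X).2 hsymm

/-- the image of the Artin-Schreier map has index 2 -/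
theorem exists_index_two [Finite F] (h2 : (2 : F) = 0) : ∃ Z' : AddSubgroup F, Z'.index = 2 := by
  obtain ⟨φ, hφ⟩ : ∃ φ : F →+ F, ∀ x, φ x = x * x + x := by
    refine ⟨AddMonoidHom.mk' (fun x => x * x + x) ?_, fun x => rfl⟩
    intro a b
    have h1 : (a + b) * (a + b) + (a + b) = a * a + a + (b * b + b) + 2 * (a * b) := by ring
    rw [h1, h2, zero_mul, add_zero]
  refine ⟨φ.range, ?_⟩
  have hker : Nat.card φ.ker = 2 := by
    rw [Nat.card_eq_two_iff' (0 : φ.ker)]
    have h1mem : (1 : F) ∈ φ.ker := by
      rw [AddMonoidHom.mem_ker, hφ, one_mul, ← two_mul, h2, zero_mul]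
    refine ⟨⟨1, h1mem⟩, fun h => one_ne_zero (α := F) (congrArg Subtype.val h), ?_⟩
    rintro ⟨y, hy⟩ hy0
    apply Subtype.ext
    show y = 1
    rw [AddMonoidHom.mem_ker, hφ] at hy
    have h3 : y * (y + 1) = 0 := by linear_combination hy
    rcases mul_eq_zero.mp h3 with h | h
    · exact absurd (Subtype.ext h) hy0
    · have h4 : y = -1 := eq_neg_of_add_eq_zero_left h
      have h5 : (-1 : F) = 1 := by
        have h6 : (1 : F) + 1 = 0 := by rw [← two_mul, h2, zero_mul]
        exact neg_eq_of_add_eq_zero_left h6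
      rw [h4, h5]
  have h3 : Nat.card φ.ker * φ.ker.index = Nat.card F := φ.ker.card_mul_index
  have h4 : Nat.card φ.range * φ.range.index = Nat.card F := φ.range.card_mul_index
  rw [AddSubgroup.index_ker, hker] at h3
  have hpos : 0 < Nat.card φ.range := Nat.card_pos
  have h5 : Nat.card φ.range * φ.range.index = Nat.card φ.range * 2 := by
    rw [h4, ← h3, mul_comm]
  exact Nat.eq_of_mul_eq_mul_left hpos h5

end Cfsg.Agent.Lib.Helper69_MISp_DUAL2
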