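import Mathlib

/-!
# S2141 package E2 (architect helper66, proof helper69): the torus inequality

`Z` an additive subgroup of a finite field `F`, `T` a group of units with `c² Z ⊆ Z`.  The multiplier
ring `mult Z = {c : c Z ⊆ Z}` is a subfield with `f` elements; `|Z| f ≤ q` if `Z ≠ F`, `f² ≤ q` if moreover
`Z ≠ 0`, and `|T| ≤ 2 (f - 1)` (`|T| ≤ f - 1` in characteristic 2).
-/

set_option autoImplicit false

namespace Cfsg.Agent.Lib.Helper69_MISp_E2

variable {F : Type*} [Field F]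

/-- the multiplier ring of an additive subgroup -/
def mult (Z : AddSubgroup F) : Subring F where
  carrier := {c | ∀ z ∈ Z, c * z ∈ Z}
  mul_mem' := by
    intro a b ha hb z hz
    rw [mul_assoc]
    exact ha _ (hb z hz)
  one_mem' := by
    intro z hz
    rwa [one_mul]
  add_mem' := by
    intro a b ha hb z hz
    rw [add_mul]
    exact Z.add_mem (ha z hz) (hb z hz)
  zero_mem' := by
    intro z _
    rw [zero_mul]
    exact Z.zero_mem
  neg_mem' := by
    intro a ha z hz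
    rw [neg_mul]
    exact Z.neg_mem (ha z hz)

theorem mem_mult {Z : AddSubgroup F} {c : F} : c ∈ mult Z ↔ ∀ z ∈ Z, c * z ∈ Z := Iff.rfl

theorem card_ne_zero_subtype {M : Type*} [Zero M] [Finite M] :
    Nat.card {u : M // u ≠ 0} = Nat.card M - 1 := by
  classical
  haveI := Fintype.ofFinite M
  rw [Nat.card_eq_fintype_card, Nat.card_eq_fintype_card,
    Fintype.card_subtype_compl (fun u : M => u = 0), Fintype.card_subtype_eq]

theorem inv_mem_mult [Finite F] {Z : AddSubgroup F} {c : F} (hc : c ∈ mult Z) :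
    c⁻¹ ∈ mult Z := by
  by_cases h0 : c = 0
  · rw [h0, inv_zero]
    exact (mult Z).zero_mem
  have hinj : Function.Injective (fun z : Z => (⟨c * z.1, hc z.1 z.2⟩ : Z)) := by
    intro z z' h
    have h1 : c * z.1 = c * z'.1 := congrArg Subtype.val h
    exact Subtype.ext (mul_left_cancel₀ h0 h1)
  have hsurj := Finite.surjective_of_injective hinj
  intro z hz
  obtain ⟨z', hz'⟩ := hsurj ⟨z, hz⟩
  have h1 : c * z'.1 = z := congrArg Subtype.val hz'
  rw [← h1, inv_mul_cancel_left₀ h0]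
  exact z'.2

theorem two_le_card_mult [Finite F] (Z : AddSubgroup F) : 2 ≤ Nat.card (mult Z) := by
  haveI : Nontrivial (mult Z) :=
    ⟨⟨0, 1, fun h => zero_ne_one (α := F) (congrArg Subtype.val h)⟩⟩
  exact Finite.one_lt_card

theorem card_mul_card_mult_le [Finite F] {Z : AddSubgroup F} (hZ : Z ≠ ⊤) :
    Nat.card Z * Nat.card (mult Z) ≤ Nat.card F := by
  obtain ⟨x, hx⟩ : ∃ x : F, x ∉ Z := by
    by_contra h
    push_neg at h
    exact hZ (eq_top_iff.mpr (fun x _ => h x))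
  have hinj : Function.Injective
      (fun c : mult Z => (QuotientAddGroup.mk (c.1 * x) : F ⧸ Z)) := by
    intro c c' h
    by_contra hne
    have h1 : -(c.1 * x) + c'.1 * x ∈ Z := QuotientAddGroup.eq.mp h
    have h2 : (c'.1 - c.1) * x ∈ Z := by
      have h3 : (c'.1 - c.1) * x = -(c.1 * x) + c'.1 * x := by ring
      rw [h3]
      exact h1
    have h3 : c'.1 - c.1 ≠ 0 := fun h => hne (Subtype.ext (sub_eq_zero.mp h).symm)
    have h4 : (c'.1 - c.1)⁻¹ ∈ mult Z := inv_mem_mult ((mult Z).sub_mem c'.2 c.2)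
    have h5 := h4 _ h2
    rw [inv_mul_cancel_left₀ h3] at h5
    exact hx h5
  have h1 := Nat.card_le_card_of_injective _ hinj
  have h2 : Nat.card Z * Z.index = Nat.card F := Z.card_mul_index
  rw [AddSubgroup.index] at h2
  calc Nat.card Z * Nat.card (mult Z) ≤ Nat.card Z * Nat.card (F ⧸ Z) :=
        Nat.mul_le_mul_left _ h1
    _ = Nat.card F := h2

theorem card_mult_sq_le [Finite F] {Z : AddSubgroup F} (h : mult Z ≠ ⊤) :
    Nat.card (mult Z) * Nat.card (mult Z) ≤ Nat.card F := by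
  obtain ⟨x, hx⟩ : ∃ x : F, x ∉ mult Z := by
    by_contra h'
    push_neg at h'
    exact h (eq_top_iff.mpr (fun x _ => h' x))
  have hinj : Function.Injective (fun p : mult Z × mult Z => p.1.1 + p.2.1 * x) := by
    rintro ⟨a, b⟩ ⟨a', b'⟩ hp
    have hp' : a.1 + b.1 * x = a'.1 + b'.1 * x := hp
    by_cases hb : b = b'
    · subst hb
      have h1 : a.1 = a'.1 := add_right_cancel hp'
      rw [Subtype.ext h1]
    · exfalso
      have h3 : b.1 - b'.1 ≠ 0 := fun h => hb (Subtype.ext (sub_eq_zero.mp h))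
      have h4 : (b.1 - b'.1) * x = a'.1 - a.1 := by linear_combination hp'
      have h5 : x = (b.1 - b'.1)⁻¹ * (a'.1 - a.1) := by
        rw [← h4, inv_mul_cancel_left₀ h3]
      apply hx
      rw [h5]
      exact (mult Z).mul_mem (inv_mem_mult ((mult Z).sub_mem b.2 b'.2))
        ((mult Z).sub_mem a'.2 a.2)
  have h1 := Nat.card_le_card_of_injective _ hinj
  rwa [Nat.card_prod] at h1

theorem mult_ne_top {Z : AddSubgroup F} (hZ : Z ≠ ⊤) (hZ0 : Z ≠ ⊥) : mult Z ≠ ⊤ := by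
  intro h
  obtain ⟨z, hz, hz0⟩ : ∃ z ∈ Z, z ≠ 0 := by
    by_contra h'
    push_neg at h'
    exact hZ0 (eq_bot_iff.mpr (fun z hz => AddSubgroup.mem_bot.mpr (h' z hz)))
  apply hZ
  rw [eq_top_iff]
  intro y _
  have h1 : y * z⁻¹ ∈ mult Z := by
    rw [h]
    trivial
  have h2 := h1 z hz
  rwa [inv_mul_cancel_right₀ hz0] at h2

/-- in characteristic 2 the multiplier field is closed under square roots -/
theorem mem_mult_of_sq [Finite F] (h2 : (2 : F) = 0) {Z : AddSubgroup F} {c : F}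
    (hc : c * c ∈ mult Z) : c ∈ mult Z := by
  have hneg : ∀ x : F, -x = x := by
    intro x
    have h1 : x + x = 0 := by rw [← two_mul, h2, zero_mul]
    exact neg_eq_of_add_eq_zero_left h1
  have hinj : Function.Injective
      (fun d : mult Z => (⟨d.1 * d.1, (mult Z).mul_mem d.2 d.2⟩ : mult Z)) := by
    intro d d' h
    have h1 : d.1 * d.1 = d'.1 * d'.1 := congrArg Subtype.val h
    rcases mul_self_eq_mul_self_iff.mp h1 with h | h
    · exact Subtype.ext h
    · rw [hneg] at h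
      exact Subtype.ext h
  obtain ⟨d, hd⟩ := Finite.surjective_of_injective hinj ⟨c * c, hc⟩
  have h1 : d.1 * d.1 = c * c := congrArg Subtype.val hd
  rcases mul_self_eq_mul_self_iff.mp h1 with h | h
  · rw [← h]
    exact d.2
  · rw [hneg] at h
    rw [← h]
    exact d.2

theorem card_torus_le_char2 [Finite F] (h2 : (2 : F) = 0) {Z : AddSubgroup F} (T : Subgroup Fˣ)
    (hT : ∀ c ∈ T, ∀ z ∈ Z, (c : F) * (c : F) * z ∈ Z) :
    Nat.card T ≤ Nat.card (mult Z) - 1 := by
  have hmem : ∀ c : T, ((c.1 : Fˣ) : F) ∈ mult Z := fun c => mem_mult_of_sq h2 (hT c.1 c.2)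
  have hinj : Function.Injective (fun c : T =>
      (⟨⟨((c.1 : Fˣ) : F), hmem c⟩, fun h => (c.1 : Fˣ).ne_zero (congrArg Subtype.val h)⟩ :
        {d : mult Z // d ≠ 0})) := by
    intro c c' h
    have h1 : ((c.1 : Fˣ) : F) = ((c'.1 : Fˣ) : F) := congrArg (fun d => d.1.1) h
    exact Subtype.ext (Units.ext h1)
  have h1 := Nat.card_le_card_of_injective _ hinj
  rwa [card_ne_zero_subtype] at h1

theorem card_torus_le [Finite F] {Z : AddSubgroup F} (T : Subgroup Fˣ)
    (hT : ∀ c ∈ T, ∀ z ∈ Z, (c : F) * (c : F) * z ∈ Z) :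
    Nat.card T ≤ 2 * (Nat.card (mult Z) - 1) := by
  classical
  haveI := Fintype.ofFinite F
  haveI : Fintype T := Fintype.ofFinite T
  set S : Finset F := (Finset.univ.filter (fun c : F => c ∈ mult Z)).erase 0 with hS
  have hScard : S.card = Nat.card (mult Z) - 1 := by
    rw [hS, Finset.card_erase_of_mem (by simp [(mult Z).zero_mem]), Nat.card_eq_fintype_card,
      Fintype.card_subtype]
  have hmaps : ∀ a ∈ (Finset.univ : Finset T), ((a.1 : Fˣ) : F) * ((a.1 : Fˣ) : F) ∈ S := by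
    intro a _
    rw [hS, Finset.mem_erase, Finset.mem_filter]
    exact ⟨mul_ne_zero (a.1 : Fˣ).ne_zero (a.1 : Fˣ).ne_zero, Finset.mem_univ _, hT a.1 a.2⟩
  have hfib : ∀ b ∈ S, (Finset.univ.filter
      (fun a : T => ((a.1 : Fˣ) : F) * ((a.1 : Fˣ) : F) = b)).card ≤ 2 := by
    intro b _
    by_cases hne : ∃ a₀ : T, ((a₀.1 : Fˣ) : F) * ((a₀.1 : Fˣ) : F) = b
    · obtain ⟨a₀, ha₀⟩ := hne
      have h1 : (Finset.univ.filter
          (fun a : T => ((a.1 : Fˣ) : F) * ((a.1 : Fˣ) : F) = b)).card ≤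
          ({((a₀.1 : Fˣ) : F), -((a₀.1 : Fˣ) : F)} : Finset F).card := by
        apply Finset.card_le_card_of_injOn (fun a : T => ((a.1 : Fˣ) : F))
        · intro a ha
          have ha' : ((a.1 : Fˣ) : F) * ((a.1 : Fˣ) : F) = b := (Finset.mem_filter.mp ha).2
          have h3 := mul_self_eq_mul_self_iff.mp (ha'.trans ha₀.symm)
          simpa using h3
        · intro a _ a' _ h
          exact Subtype.ext (Units.ext h)
      exact h1.trans Finset.card_le_two
    · have h1 : Finset.univ.filter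
          (fun a : T => ((a.1 : Fˣ) : F) * ((a.1 : Fˣ) : F) = b) = ∅ := by
        rw [Finset.filter_eq_empty_iff]
        intro a _ ha
        exact hne ⟨a, ha⟩
      rw [h1]
      simp
  have h1 := Finset.card_le_mul_card_image_of_maps_to hmaps 2 hfib
  rwa [Finset.card_univ, hScard, ← Nat.card_eq_fintype_card] at h1

theorem nat_aux (n f q : ℕ) (hf2 : 2 ≤ f) (hff : f * f ≤ q) (hle : n * f ≤ (f - 1) * q) :
    n ≤ q - 1 := by
  obtain ⟨f', rfl⟩ : ∃ f', f = f' + 2 := ⟨f - 2, by omega⟩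
  have hq1 : 1 ≤ q := by nlinarith
  obtain ⟨q', rfl⟩ : ∃ q', q = q' + 1 := ⟨q - 1, by omega⟩
  have h3 : f' + 2 - 1 = f' + 1 := by omega
  rw [h3] at hle
  have h4 : q' + 1 - 1 = q' := by omega
  rw [h4]
  by_contra hcon
  push_neg at hcon
  nlinarith

/-- **E2** in characteristic 2 -/
theorem torus_ineq_char2 [Finite F] (h2 : (2 : F) = 0) (Z : AddSubgroup F) (hZ : Z ≠ ⊤)
    (T : Subgroup Fˣ) (hT : ∀ c ∈ T, ∀ z ∈ Z, (c : F) * (c : F) * z ∈ Z) :
    Nat.card T * Nat.card Z ≤ Nat.card F - 1 ∧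
      (Z ≠ ⊥ → ∃ f : ℕ, 2 ≤ f ∧ f * f ≤ Nat.card F ∧
        Nat.card T * Nat.card Z * f ≤ (f - 1) * Nat.card F) := by
  have hB : Z ≠ ⊥ → 2 ≤ Nat.card (mult Z) ∧ Nat.card (mult Z) * Nat.card (mult Z) ≤ Nat.card F ∧
      Nat.card T * Nat.card Z * Nat.card (mult Z) ≤ (Nat.card (mult Z) - 1) * Nat.card F := by
    intro hZ0
    refine ⟨two_le_card_mult Z, card_mult_sq_le (mult_ne_top hZ hZ0), ?_⟩
    rw [mul_assoc]
    exact Nat.mul_le_mul (card_torus_le_char2 h2 T hT) (card_mul_card_mult_le hZ)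
  refine ⟨?_, fun hZ0 => ⟨_, hB hZ0⟩⟩
  by_cases hZ0 : Z = ⊥
  · rw [hZ0, AddSubgroup.card_bot, mul_one, ← Nat.card_units]
    exact Subgroup.card_le_card_group T
  · obtain ⟨hf2, hff, hle⟩ := hB hZ0
    exact nat_aux _ _ _ hf2 hff hle

/-- **E2** in any characteristic -/
theorem torus_ineq [Finite F] (Z : AddSubgroup F) (hZ : Z ≠ ⊤) (hZ0 : Z ≠ ⊥) (T : Subgroup Fˣ)
    (hT : ∀ c ∈ T, ∀ z ∈ Z, (c : F) * (c : F) * z ∈ Z) :
    ∃ f : ℕ, 2 ≤ f ∧ f * f ≤ Nat.card F ∧ Nat.card T ≤ 2 * (f - 1) ∧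
      Nat.card Z * f ≤ Nat.card F :=
  ⟨Nat.card (mult Z), two_le_card_mult Z, card_mult_sq_le (mult_ne_top hZ hZ0),
    card_torus_le T hT, card_mul_card_mult_le hZ⟩

end Cfsg.Agent.Lib.Helper69_MISp_E2
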