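import Mathlib
import Cfsg.Agent.Lib.Helper66_MI_SpDefs
import Cfsg.Agent.Lib.Helper66_MISp_LOCAL
import Cfsg.Agent.Lib.Helper69_MISp_E2
import Cfsg.Agent.Lib.Helper32_MISp_L1
import Cfsg.Agent.Lib.Helper70_MISp_O1

/-!
# S2141 / MISp-E5a (architect helper66): `[W : Bbar] ≤ q`, and the equality case.

`E5a_of` takes the conclusions of `L0'` (package LOCAL) and of `torus_ineq_char2` (package E2, applied to
`Z = Zv`, `T = T1`) as explicit hypotheses; the rest is arithmetic with `N_m = q² N_(m-1) + q + 1`.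
-/

set_option autoImplicit false
set_option linter.unusedSectionVars false
set_option linter.unusedVariables false

namespace Cfsg.Agent.Lib.Helper84_MISp_E5a

open Cfsg.Agent.Lib.Helper94_Symp Cfsg.Agent.Lib.Helper94_SympTI
  Cfsg.Agent.Lib.Helper94_SympPerfect Cfsg.Agent.Lib.Helper66_MI_SpDefs

theorem arith1 {W b z t r n qm Nm1 : ℕ}
    (h1 : W * (qm + 1) * (qm * r) ≤ n * (b * z * t)) (h2a : t * z ≤ qm)
    (hn : n < (qm + 1) * (qm + 1) * Nm1 + (qm + 1) + 1) (hr : Nm1 ≤ r) (hNm1 : 2 ≤ Nm1)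
    (hbW : b ∣ W) (hb : 0 < b) (hqm : 3 ≤ qm) : W ≤ (qm + 1) * b := by
  obtain ⟨i, rfl⟩ := hbW
  by_contra hcon
  push Not at hcon
  have hi : qm + 2 ≤ i := by
    by_contra h
    push Not at h
    have : i ≤ qm + 1 := by omega
    have : b * i ≤ (qm + 1) * b := by
      calc b * i ≤ b * (qm + 1) := Nat.mul_le_mul_left _ this
        _ = (qm + 1) * b := mul_comm _ _
    omega
  -- cancel `b * qm`
  have h3 : b * i * (qm + 1) * (qm * r) ≤ n * (b * qm) := by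
    calc b * i * (qm + 1) * (qm * r) ≤ n * (b * z * t) := h1
      _ = n * (b * (t * z)) := by ring
      _ ≤ n * (b * qm) := Nat.mul_le_mul_left _ (Nat.mul_le_mul_left _ h2a)
  have h4 : (b * qm) * (i * (qm + 1) * r) ≤ (b * qm) * n := by
    calc (b * qm) * (i * (qm + 1) * r) = b * i * (qm + 1) * (qm * r) := by ring
      _ ≤ n * (b * qm) := h3
      _ = (b * qm) * n := mul_comm _ _
  have hpos : 0 < b * qm := Nat.mul_pos hb (by omega)
  have h5 : i * (qm + 1) * r ≤ n := Nat.le_of_mul_le_mul_left h4 hpos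
  have h6 : (qm + 2) * (qm + 1) * Nm1 ≤ i * (qm + 1) * r :=
    Nat.mul_le_mul (Nat.mul_le_mul_right _ hi) hr
  have h7 : (qm + 2) * (qm + 1) * Nm1 = (qm + 1) * (qm + 1) * Nm1 + (qm + 1) * Nm1 := by ring
  have h8 : (qm + 1) * 2 ≤ (qm + 1) * Nm1 := Nat.mul_le_mul_left _ hNm1
  omega

theorem arith2 {b z t r n qm Nm1 : ℕ}
    (h1 : (qm + 1) * b * (qm + 1) * (qm * r) ≤ n * (b * z * t)) (h2a : t * z ≤ qm)
    (h2b : z ≠ 1 → ∃ f : ℕ, 2 ≤ f ∧ f * f ≤ qm + 1 ∧ t * z * f ≤ (f - 1) * (qm + 1))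
    (hn : n < (qm + 1) * (qm + 1) * Nm1 + (qm + 1) + 1) (hr : Nm1 ≤ r) (hNm1 : 2 ≤ Nm1)
    (hb : 0 < b) (hz : 0 < z) (ht : 0 < t) (hqm : 3 ≤ qm) :
    r = Nm1 ∧ z = 1 ∧ t = qm := by
  -- cancel `b`
  have h3 : b * ((qm + 1) * (qm + 1) * (qm * r)) ≤ b * (n * (z * t)) := by
    calc b * ((qm + 1) * (qm + 1) * (qm * r)) = (qm + 1) * b * (qm + 1) * (qm * r) := by ring
      _ ≤ n * (b * z * t) := h1
      _ = b * (n * (z * t)) := by ring
  have h4 : (qm + 1) * (qm + 1) * (qm * r) ≤ n * (z * t) := Nat.le_of_mul_le_mul_left h3 hb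
  have hzt : z * t ≤ qm := by rw [mul_comm]; exact h2a
  -- `r = Nm1`
  have h5 : qm * ((qm + 1) * (qm + 1) * r) ≤ qm * n := by
    calc qm * ((qm + 1) * (qm + 1) * r) = (qm + 1) * (qm + 1) * (qm * r) := by ring
      _ ≤ n * (z * t) := h4
      _ ≤ n * qm := Nat.mul_le_mul_left _ hzt
      _ = qm * n := mul_comm _ _
  have h6 : (qm + 1) * (qm + 1) * r ≤ n := Nat.le_of_mul_le_mul_left h5 (by omega)
  have hrle : r ≤ Nm1 := by
    by_contra h
    push Not at h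
    have h7 : (qm + 1) * (qm + 1) * (Nm1 + 1) ≤ (qm + 1) * (qm + 1) * r :=
      Nat.mul_le_mul_left _ h
    have h8 : (qm + 1) * (qm + 1) * (Nm1 + 1) =
        (qm + 1) * (qm + 1) * Nm1 + (qm * qm + 2 * qm + 1) := by ring
    have : qm ≤ qm * qm := Nat.le_mul_self qm
    omega
  have hreq : r = Nm1 := le_antisymm hrle hr
  subst hreq
  -- `z * t = qm`
  have hzt' : qm ≤ z * t := by
    by_contra h
    push Not at h
    obtain ⟨qm', rfl⟩ : ∃ qm', qm = qm' + 1 := ⟨qm - 1, by omega⟩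
    have hzt2 : z * t ≤ qm' := by omega
    have hlt : n * (z * t) < ((qm' + 1 + 1) * (qm' + 1 + 1) * r + (qm' + 1 + 1) + 1) * (z * t) :=
      Nat.mul_lt_mul_of_pos_right hn (Nat.mul_pos hz ht)
    have hle : ((qm' + 1 + 1) * (qm' + 1 + 1) * r + (qm' + 1 + 1) + 1) * (z * t) ≤
        ((qm' + 1 + 1) * (qm' + 1 + 1) * r + (qm' + 1 + 1) + 1) * qm' :=
      Nat.mul_le_mul_left _ hzt2
    have hexp : ((qm' + 1 + 1) * (qm' + 1 + 1) * r + (qm' + 1 + 1) + 1) * qm' + 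
        ((qm' + 1 + 1) * (qm' + 1 + 1) * r) = (qm' + 1 + 1) * (qm' + 1 + 1) * ((qm' + 1) * r)
          + (qm' + 3) * qm' := by ring
    have h9 : (qm' + 3) * qm' < (qm' + 1 + 1) * (qm' + 1 + 1) * r := by
      have : (qm' + 1 + 1) * (qm' + 1 + 1) * 2 ≤ (qm' + 1 + 1) * (qm' + 1 + 1) * r :=
        Nat.mul_le_mul_left _ hNm1
      nlinarith
    omega
  have hzteq : z * t = qm := le_antisymm hzt hzt'
  -- `z = 1`
  have hz1 : z = 1 := by
    by_contra hz1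
    obtain ⟨f, hf2, hff, hf⟩ := h2b hz1
    obtain ⟨f', rfl⟩ : ∃ f', f = f' + 1 := ⟨f - 1, by omega⟩
    rw [mul_comm t z, hzteq, Nat.add_sub_cancel] at hf
    -- qm * (f'+1) ≤ f' * (qm+1)  →  qm ≤ f'
    have : qm ≤ f' := by nlinarith
    nlinarith
  refine ⟨rfl, hz1, ?_⟩
  rw [hz1, one_mul] at hzteq
  exact hzteq

theorem Npts_eq_sum {q : ℕ} (hq : 2 ≤ q) (m : ℕ) : Npts m q = ∑ k ∈ Finset.range (2 * m), q ^ k := by
  unfold Npts
  rw [Nat.geomSum_eq hq]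

theorem Npts_succ {q : ℕ} (hq : 2 ≤ q) (m : ℕ) : Npts (m + 1) q = q * q * Npts m q + q + 1 := by
  rw [Npts_eq_sum hq, Npts_eq_sum hq, show 2 * (m + 1) = 2 * m + 1 + 1 by ring,
    Finset.sum_range_succ', Finset.sum_range_succ', Finset.mul_sum]
  simp only [pow_zero, pow_succ]
  congr 2
  · apply Finset.sum_congr rfl
    intro k _
    ring
  · ring

theorem two_le_Npts {q : ℕ} (hq : 2 ≤ q) {m : ℕ} (hm : 1 ≤ m) : 2 ≤ Npts m q := by
  obtain ⟨k, rfl⟩ : ∃ k, m = k + 1 := ⟨m - 1, by omega⟩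
  rw [Npts_succ hq]
  omega

variable {F V : Type*} [Field F] [AddCommGroup V] [Module F V]
variable (B : LinearMap.BilinForm F V)

theorem E5a_of [Finite F] [FiniteDimensional F V] {m q : ℕ} (S : Setting B m q)
    (hq : 4 ≤ q) (hm : 2 ≤ m) {v v' : V} {H : Subgroup (V ≃ₗ[F] V)}
    (hH : Small B S.alt (Npts m q) H) (hK : KMin B v v' (Npts (m - 1) q))
    (hKH : KH B H v v' ≠ Kv B v v')
    (hL0 : Nat.card (Wsub B v v') * Nat.card F *
        ((Nat.card F - 1) * (KH B H v v').relIndex (Kv B v v')) ≤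
      H.relIndex (isoGroup B) *
        (Nat.card (Bbar B S.alt H v v') * Nat.card (Zv B S.alt H v) * Nat.card (T1 B H v v')))
    (hE2 : Nat.card (T1 B H v v') * Nat.card (Zv B S.alt H v) ≤ Nat.card F - 1 ∧
      (Zv B S.alt H v ≠ ⊥ → ∃ f : ℕ, 2 ≤ f ∧ f * f ≤ Nat.card F ∧
        Nat.card (T1 B H v v') * Nat.card (Zv B S.alt H v) * f ≤ (f - 1) * Nat.card F)) :
    Nat.card (Wsub B v v') ≤ q * Nat.card (Bbar B S.alt H v v') ∧
      (Nat.card (Wsub B v v') = q * Nat.card (Bbar B S.alt H v v') →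
        (KH B H v v').relIndex (Kv B v v') = Npts (m - 1) q ∧ Zv B S.alt H v = ⊥ ∧
          Nat.card (T1 B H v v') = q - 1) := by
  have hVfin : Finite V := Module.finite_of_finite F
  rw [S.card] at hL0 hE2
  obtain ⟨qm, rfl⟩ : ∃ qm, q = qm + 1 := ⟨q - 1, by omega⟩
  obtain ⟨k, rfl⟩ : ∃ k, m = k + 1 := ⟨m - 1, by omega⟩
  rw [Nat.add_sub_cancel] at hL0 hE2 hK ⊢
  have hqm : 3 ≤ qm := by omega
  have hq2 : 2 ≤ qm + 1 := by omega
  have hn := hH.idx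
  rw [Npts_succ hq2] at hn
  have hNm1 : 2 ≤ Npts k (qm + 1) := two_le_Npts hq2 (by omega)
  have hr : Npts k (qm + 1) ≤ (KH B H v v').relIndex (Kv B v v') :=
    hK _ (KH_le_Kv B H v v') hKH
  have hb : 0 < Nat.card (Bbar B S.alt H v v') := Nat.card_pos
  have hz : 0 < Nat.card (Zv B S.alt H v) := Nat.card_pos
  have ht : 0 < Nat.card (T1 B H v v') := Nat.card_pos
  have hbW : Nat.card (Bbar B S.alt H v v') ∣ Nat.card (Wsub B v v') := by
    have hle : Bbar B S.alt H v v' ≤ (Wsub B v v').toAddSubgroup := by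
      intro w hw
      exact ((mem_Bbar B S.alt).mp hw).1
    exact AddSubgroup.card_dvd_of_le hle
  refine ⟨arith1 hL0 hE2.1 hn hr hNm1 hbW hb hqm, ?_⟩
  intro heq
  rw [heq] at hL0
  have h2b : Nat.card (Zv B S.alt H v) ≠ 1 → ∃ f : ℕ, 2 ≤ f ∧ f * f ≤ qm + 1 ∧
      Nat.card (T1 B H v v') * Nat.card (Zv B S.alt H v) * f ≤ (f - 1) * (qm + 1) := by
    intro hne
    apply hE2.2
    intro hbot
    apply hne
    rw [hbot]
    exact AddSubgroup.card_bot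
  obtain ⟨h1, h2, h3⟩ := arith2 hL0 hE2.1 h2b hn hr hNm1 hb hz ht hqm
  exact ⟨h1, AddSubgroup.card_eq_one.mp h2, h3⟩

/-- (E5a), verbatim package statement. -/
theorem E5a [Finite F] [FiniteDimensional F V] {m q : ℕ} (S : Setting B m q) (h2 : (2 : F) = 0)
    (hq : 4 ≤ q) (hm : 2 ≤ m) {v v' : V} (hvv : B v v' = 1) {H : Subgroup (V ≃ₗ[F] V)}
    (hH : Small B S.alt (Npts m q) H) (hK : KMin B v v' (Npts (m - 1) q))
    (hKH : KH B H v v' ≠ Kv B v v') :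
    Nat.card (Wsub B v v') ≤ q * Nat.card (Bbar B S.alt H v v') ∧
      (Nat.card (Wsub B v v') = q * Nat.card (Bbar B S.alt H v v') →
        (KH B H v v').relIndex (Kv B v v') = Npts (m - 1) q ∧ Zv B S.alt H v = ⊥ ∧
          Nat.card (T1 B H v v') = q - 1) := by
  have hv0 : v ≠ 0 := by
    rintro rfl
    simp at hvv
  exact E5a_of B S hq hm hH hK hKH
    (Cfsg.Agent.Lib.Helper66_MISp_LOCAL.L0' B S.alt hvv hH.le)
    (Cfsg.Agent.Lib.Helper69_MISp_E2.torus_ineq_char2 h2 (Zv B S.alt H v)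
      (Cfsg.Agent.Lib.Helper70_MISp_O1.Zv_ne_top B hH.noRoot hv0) (T1 B H v v')
      (fun c hc z hz => Cfsg.Agent.Lib.Helper32_MISp_L1.T1_Zv B S.alt hvv hc hz))

end Cfsg.Agent.Lib.Helper84_MISp_E5a
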