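import Mathlib
import Cfsg.Agent.Lib.Helper66_MI_SpDefs
import Cfsg.Agent.Lib.Helper10_MISp_KTRANS
import Cfsg.Agent.Lib.Helper63_MISp_COVER
import Cfsg.Agent.Lib.Helper94_MI_SpKiso
import Cfsg.Agent.Lib.Helper66_MISp_LOCAL
import Cfsg.Agent.Lib.Helper69_MISp_DUAL2
import Cfsg.Agent.Lib.Helper69_MISp_E2
import Cfsg.Agent.Lib.Helper32_MISp_L1
import Cfsg.Agent.Lib.Helper84_MISp_E5a

set_option autoImplicit false

/-!
# S2141 package E5b (architect helper66; formalised by helper12)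

If `Bbar ≠ W` (case II, `q` even) then `Bbar = a^⊥ ∩ W` for some `0 ≠ a ∈ W`, `K_H ⊇ Stab_K(F a)`,
`Z = 0`, `T_1 = F^*`.  See `pending/helper66/S2141_sketches.md` (E5b).
-/

namespace Cfsg.Agent.Lib.Helper12_MISp_E5b

open Cfsg.Agent.Lib.Helper94_Symp Cfsg.Agent.Lib.Helper94_SympTI
  Cfsg.Agent.Lib.Helper94_SympPerfect Cfsg.Agent.Lib.Helper66_MI_SpDefs
open Cfsg.Agent.Lib.Helper10_MISp_KTRANS Cfsg.Agent.Lib.Helper94_MI_SpKiso

/-! ## arithmetic -/


theorem arith_smallZ {a q r n w : ℤ} (hq : 4 ≤ q) (ha2 : 2 ≤ a) (haq : 2 * a ≤ q)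
    (hw : q * q ≤ w) (hr : 0 ≤ r) (hn : 0 ≤ n)
    (h1 : a * q * r ≤ n) (h2 : (n + 1) * (q - 1) + 1 ≤ q * q * w)
    (h3 : w ≤ r * (a - 1) + 1) : False := by
  have hq1 : 0 ≤ q - 1 := by linarith
  have ha1 : 0 ≤ a - 1 := by linarith
  have hqa : 0 ≤ q - a := by linarith
  have e1 : a * q * (q - 1) * w ≤ a * q * (q - 1) * (r * (a - 1) + 1) :=
    mul_le_mul_of_nonneg_left h3 (mul_nonneg (mul_nonneg (by linarith) (by linarith)) hq1)
  have e2 : (a - 1) * (q - 1) * (a * q * r) ≤ (a - 1) * (q - 1) * n :=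
    mul_le_mul_of_nonneg_left h1 (mul_nonneg ha1 hq1)
  have e3 : (a - 1) * ((n + 1) * (q - 1) + 1) ≤ (a - 1) * (q * q * w) :=
    mul_le_mul_of_nonneg_left h2 ha1
  have hsum : q * (w * (q - a)) ≤ q * (a * q - 2 * a + 1) := by nlinarith [e1, e2, e3]
  have key : w * (q - a) ≤ a * q - 2 * a + 1 := le_of_mul_le_mul_left hsum (by linarith)
  have e4 : q * q * (q - a) ≤ w * (q - a) := mul_le_mul_of_nonneg_right hw hqa
  have e5 : q * q * a ≤ q * q * (q - a) :=
    mul_le_mul_of_nonneg_left (by linarith) (mul_nonneg (by linarith) (by linarith))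
  have e6 : 4 * (q * a) ≤ q * (q * a) :=
    mul_le_mul_of_nonneg_right hq (mul_nonneg (by linarith) (by linarith))
  have e7 : 8 ≤ q * a := by nlinarith
  nlinarith [key, e4, e5, e6, e7]

theorem arith_small {a q r n w : ℕ} (hq : 4 ≤ q) (ha2 : 2 ≤ a) (haq : 2 * a ≤ q)
    (hw : q * q ≤ w)
    (h1 : a * q * r ≤ n) (h2 : (n + 1) * (q - 1) ≤ q * q * w - 1)
    (h3 : w - 1 ≤ r * (a - 1)) : False := by
  have hw1 : 1 ≤ q * q * w := by
    have : 1 ≤ q * q := by nlinarith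
    nlinarith
  have h2' : (n + 1) * (q - 1) + 1 ≤ q * q * w := by omega
  have h3' : w ≤ r * (a - 1) + 1 := by omega
  have hq1 : 1 ≤ q := by omega
  have ha1 : 1 ≤ a := by omega
  zify [hq1, ha1] at h2' h3'
  zify at hq ha2 haq hw h1
  exact arith_smallZ hq ha2 haq hw (by positivity) (by positivity) h1 h2' h3'

/-- from the key inequality `(L0')` to `a q r ≤ n` -/
theorem arith_L0 {w q r n b z t a : ℕ} (hq : 2 ≤ q) (hb : 0 < b) (hab : a * b = w)
    (htz : t * z ≤ q - 1) (hL : w * q * ((q - 1) * r) ≤ n * (b * z * t)) :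
    a * q * r ≤ n := by
  have hq1 : 0 < q - 1 := by omega
  have h1 : n * (b * z * t) ≤ n * b * (q - 1) := by
    calc n * (b * z * t) = n * b * (t * z) := by ring
      _ ≤ n * b * (q - 1) := Nat.mul_le_mul_left _ htz
  have h2 : (w * q * r) * (q - 1) ≤ (n * b) * (q - 1) := by
    calc (w * q * r) * (q - 1) = w * q * ((q - 1) * r) := by ring
      _ ≤ n * (b * z * t) := hL
      _ ≤ n * b * (q - 1) := h1
  have h3 : w * q * r ≤ n * b := Nat.le_of_mul_le_mul_right h2 hq1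
  rw [← hab] at h3
  have h4 : (a * q * r) * b ≤ n * b := by
    calc (a * q * r) * b = a * b * q * r := by ring
      _ ≤ n * b := h3
  exact Nat.le_of_mul_le_mul_right h4 hb

theorem pow_split {q m : ℕ} (hm : 1 ≤ m) : q ^ (2 * m) = q * q * q ^ (2 * m - 2) := by
  have : 2 * m = 2 + (2 * m - 2) := by omega
  conv_lhs => rw [this, pow_add]
  ring

theorem sq_le_pow {q m : ℕ} (hq : 1 ≤ q) (hm : 2 ≤ m) : q * q ≤ q ^ (2 * m - 2) := by
  calc q * q = q ^ 2 := by ring
    _ ≤ q ^ (2 * m - 2) := Nat.pow_le_pow_right hq (by omega)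

/-- a power of two `a ≤ q = 2^e` dividing a power of `q` is `q` or at most `q / 2` -/
theorem two_pow_dichotomy {a q e k : ℕ} (hqe : q = 2 ^ e) (hdvd : a ∣ q ^ k) (hle : a ≤ q) :
    a = q ∨ 2 * a ≤ q := by
  rw [hqe, ← pow_mul] at hdvd
  obtain ⟨i, -, rfl⟩ := (Nat.dvd_prime_pow Nat.prime_two).1 hdvd
  rw [hqe] at hle ⊢
  have hie : i ≤ e := (Nat.pow_le_pow_iff_right (by norm_num)).1 hle
  rcases Nat.eq_or_lt_of_le hie with h | h
  · left; rw [h]
  · right
    calc 2 * 2 ^ i = 2 ^ (i + 1) := by ring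
      _ ≤ 2 ^ e := Nat.pow_le_pow_right (by norm_num) h


/-! ## geometry -/

variable {F V : Type*} [Field F] [AddCommGroup V] [Module F V]
variable (B : LinearMap.BilinForm F V) (hB : B.IsAlt)


/-- the annihilator of `X` inside `W = Wsub v v'` for the pairing into `F / Z'` -/
def annW (v v' : V) (Z' : AddSubgroup F) (X : AddSubgroup V) : AddSubgroup V where
  carrier := {a | a ∈ Wsub B v v' ∧ ∀ x ∈ X, B a x ∈ Z'}
  add_mem' := by
    rintro a b ⟨ha, ha2⟩ ⟨hb, hb2⟩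
    refine ⟨(Wsub B v v').add_mem ha hb, fun x hx => ?_⟩
    rw [map_add, LinearMap.add_apply]
    exact Z'.add_mem (ha2 x hx) (hb2 x hx)
  zero_mem' := ⟨(Wsub B v v').zero_mem, fun x _ => by simp⟩
  neg_mem' := by
    rintro a ⟨ha, ha2⟩
    refine ⟨(Wsub B v v').neg_mem ha, fun x hx => ?_⟩
    rw [map_neg, LinearMap.neg_apply]
    exact Z'.neg_mem (ha2 x hx)

theorem mem_annW {v v' : V} {Z' : AddSubgroup F} {X : AddSubgroup V} {a : V} :
    a ∈ annW B v v' Z' X ↔ a ∈ Wsub B v v' ∧ ∀ x ∈ X, B a x ∈ Z' := Iff.rfl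

/-- pull back an additive subgroup of `V` to `W` -/
def pullW (v v' : V) (X : AddSubgroup V) : AddSubgroup ↥(Wsub B v v') :=
  X.comap (Wsub B v v').subtype.toAddMonoidHom

theorem mem_pullW {v v' : V} {X : AddSubgroup V} {x : ↥(Wsub B v v')} :
    x ∈ pullW B v v' X ↔ (x : V) ∈ X := Iff.rfl

theorem card_pullW {v v' : V} {X : AddSubgroup V} (hX : ∀ x ∈ X, x ∈ Wsub B v v') :
    Nat.card (pullW B v v' X) = Nat.card X := by
  refine Nat.card_congr ⟨fun x => ⟨(x.1 : V), x.2⟩, fun x => ⟨⟨x.1, hX x.1 x.2⟩, x.2⟩, ?_, ?_⟩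
  · intro x; rfl
  · intro x; rfl

theorem pullW_annW {v v' : V} (Z' : AddSubgroup F) (X : AddSubgroup V)
    (hX : ∀ x ∈ X, x ∈ Wsub B v v') :
    pullW B v v' (annW B v v' Z' X) =
      ann (B.restrict (Wsub B v v')) Z' (pullW B v v' X) := by
  ext a
  rw [mem_pullW, mem_annW, mem_ann]
  constructor
  · rintro ⟨-, h⟩ x hx
    exact h x hx
  · intro h
    refine ⟨a.2, fun x hx => ?_⟩
    exact h ⟨x, hX x hx⟩ hx

theorem annW_le {v v' : V} (Z' : AddSubgroup F) (X : AddSubgroup V) :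
    ∀ a ∈ annW B v v' Z' X, a ∈ Wsub B v v' := fun _ ha => ha.1

include hB in
theorem card_annW [Finite F] [FiniteDimensional F V] (hN : B.Nondegenerate) {v v' : V}
    (hvv : B v v' = 1) (Z' : AddSubgroup F) (hZ' : Z'.index = 2) (X : AddSubgroup V)
    (hX : ∀ x ∈ X, x ∈ Wsub B v v') :
    Nat.card (annW B v v' Z' X) * Nat.card X = Nat.card (Wsub B v v') := by
  have hN' := Cfsg.Agent.Lib.Helper94_MI_SpKiso.Wsub_restrict_nondeg B hB hvv hN
  have hA' := Cfsg.Agent.Lib.Helper94_MI_SpKiso.restrict_isAlt B hB v v'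
  have h1 := Cfsg.Agent.Lib.Helper69_MISp_DUAL2.card_ann (B.restrict (Wsub B v v')) hN' hA'.isRefl Z' hZ' (pullW B v v' X)
  rw [← pullW_annW B Z' X hX, card_pullW B (annW_le B Z' X), card_pullW B hX] at h1
  exact h1

include hB in
theorem annW_annW [Finite F] [FiniteDimensional F V] (hN : B.Nondegenerate) {v v' : V}
    (hvv : B v v' = 1) (Z' : AddSubgroup F) (hZ' : Z'.index = 2) (X : AddSubgroup V)
    (hX : ∀ x ∈ X, x ∈ Wsub B v v') :
    annW B v v' Z' (annW B v v' Z' X) = X := by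
  have hN' := Cfsg.Agent.Lib.Helper94_MI_SpKiso.Wsub_restrict_nondeg B hB hvv hN
  have hA' := Cfsg.Agent.Lib.Helper94_MI_SpKiso.restrict_isAlt B hB v v'
  have h1 := Cfsg.Agent.Lib.Helper69_MISp_DUAL2.ann_ann (B.restrict (Wsub B v v')) hN' hA'.isRefl Z' hZ' (pullW B v v' X)
  rw [← pullW_annW B Z' X hX, ← pullW_annW B Z' _ (annW_le B Z' X)] at h1
  ext w
  constructor
  · intro hw
    have hwW : w ∈ Wsub B v v' := hw.1
    have : (⟨w, hwW⟩ : ↥(Wsub B v v')) ∈ pullW B v v' (annW B v v' Z' (annW B v v' Z' X)) := hw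
    rw [h1] at this
    exact this
  · intro hw
    have hwW : w ∈ Wsub B v v' := hX w hw
    have : (⟨w, hwW⟩ : ↥(Wsub B v v')) ∈ pullW B v v' X := hw
    rw [← h1] at this
    exact this



include hB in
/-- for independent `a, a' ∈ W` there is `y ∈ W` with `B a y = 0`, `B a' y = 1` -/
theorem exists_dual_vec (hN : B.Nondegenerate) {v v' : V} (hvv : B v v' = 1) {a a' : V}
    (ha : a ∈ Wsub B v v') (ha' : a' ∈ Wsub B v v') (ha0 : a ≠ 0)
    (hind : ∀ c : F, a' ≠ c • a) :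
    ∃ y ∈ Wsub B v v', B a y = 0 ∧ B a' y = 1 := by
  by_contra hcon
  have hnd := Wsub_nondegOn B hB hN hvv
  -- every `y ∈ W` with `B a y = 0` has `B a' y = 0`
  have h0 : ∀ y ∈ Wsub B v v', B a y = 0 → B a' y = 0 := by
    intro y hy hay
    by_contra hne
    apply hcon
    refine ⟨(B a' y)⁻¹ • y, (Wsub B v v').smul_mem _ hy, ?_, ?_⟩
    · rw [map_smul, smul_eq_mul, hay, mul_zero]
    · rw [map_smul, smul_eq_mul, inv_mul_cancel₀ hne]
  obtain ⟨x0, hx0, hx0a⟩ := hnd a ha ha0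
  have hd : B a x0 ≠ 0 := alt_ne_zero_comm B hB hx0a
  set c : F := B a' x0 / B a x0 with hc
  have hkey : ∀ x ∈ Wsub B v v', B (a' - c • a) x = 0 := by
    intro x hx
    have hy' : x - (B a x / B a x0) • x0 ∈ Wsub B v v' :=
      (Wsub B v v').sub_mem hx ((Wsub B v v').smul_mem _ hx0)
    have e1 : B a (x - (B a x / B a x0) • x0) = 0 := by
      rw [map_sub, map_smul, smul_eq_mul, div_mul_cancel₀ _ hd, sub_self]
    have e2 := h0 _ hy' e1
    rw [map_sub, map_smul, smul_eq_mul, sub_eq_zero] at e2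
    rw [map_sub, LinearMap.sub_apply, map_smul, LinearMap.smul_apply, smul_eq_mul, e2, hc]
    field_simp
    ring
  have hz : a' - c • a = 0 := by
    by_contra hne
    have hmem : a' - c • a ∈ Wsub B v v' :=
      (Wsub B v v').sub_mem ha' ((Wsub B v v').smul_mem _ ha)
    obtain ⟨x, hx, hxne⟩ := hnd _ hmem hne
    apply hxne
    rw [alt_swap B hB, hkey x hx, neg_zero]
  exact hind c (sub_eq_zero.mp hz)

include hB in
/-- an additive subgroup `A ≤ W` of order `q` such that every element of `K_v` mapping some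
nonzero element of `A` into `A` preserves `A`, is a line `F a` -/
theorem A_eq_line [Finite F] [FiniteDimensional F V] (hN : B.Nondegenerate) {v v' : V}
    (hvv : B v v' = 1) (A : AddSubgroup V)
    (hAW : ∀ a ∈ A, a ∈ Wsub B v v') (hcard : Nat.card A = Nat.card F)
    (hstab : ∀ k ∈ Kv B v v', ∀ a ∈ A, a ≠ 0 → k a ∈ A → ∀ a' ∈ A, k a' ∈ A) :
    ∃ a ∈ A, a ≠ 0 ∧ ∀ x, x ∈ A ↔ ∃ c : F, x = c • a := by
  haveI : Finite V := Module.finite_of_finite F
  -- a nonzero element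
  have hnt : ∃ a ∈ A, a ≠ 0 := by
    by_contra hcon
    push Not at hcon
    have hbot : A = ⊥ := by
      rw [eq_bot_iff]
      intro x hx
      exact (AddSubgroup.mem_bot).2 (hcon x hx)
    rw [hbot, AddSubgroup.card_bot] at hcard
    have : 1 < Nat.card F := Finite.one_lt_card
    omega
  obtain ⟨a, haA, ha0⟩ := hnt
  have haW := hAW a haA
  -- the line `F a`
  set L : AddSubgroup V := (Submodule.span F {a}).toAddSubgroup with hL
  have hLmem : ∀ x, x ∈ L ↔ ∃ c : F, x = c • a := by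
    intro x
    rw [hL, Submodule.mem_toAddSubgroup, Submodule.mem_span_singleton]
    constructor
    · rintro ⟨c, rfl⟩; exact ⟨c, rfl⟩
    · rintro ⟨c, rfl⟩; exact ⟨c, rfl⟩
  have hLcard : Nat.card L = Nat.card F := by
    have e : F ≃ₗ[F] Submodule.span F {a} := LinearEquiv.toSpanNonzeroSingleton F V a ha0
    exact (Nat.card_congr e.toEquiv).symm
  -- the key closure property
  have hclos : ∀ a' ∈ A, (∀ c : F, a' ≠ c • a) → ∀ c : F, a' + c • a ∈ A := by
    intro a' ha'A hind c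
    have ha'W := hAW a' ha'A
    by_cases hBa : B a' a = 0
    · obtain ⟨y, hyW, hay, ha'y⟩ := exists_dual_vec B hB hN hvv haW ha'W ha0 hind
      have hacy : B a (c • y) = 0 := by rw [map_smul, smul_eq_mul, hay, mul_zero]
      set k := gv B hB a (c • y) 0 with hk
      have hvy : B v y = 0 := by rw [alt_swap B hB, hyW.1, neg_zero]
      have hv'y : B v' y = 0 := by rw [alt_swap B hB, hyW.2, neg_zero]
      have hva : B v a = 0 := by rw [alt_swap B hB, haW.1, neg_zero]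
      have hv'a : B v' a = 0 := by rw [alt_swap B hB, haW.2, neg_zero]
      have hkK : k ∈ Kv B v v' := by
        refine ⟨gv_mem_isoGroup B hB _ _ _, ?_, ?_⟩
        · rw [hk, gv_apply B hB hacy]
          simp [hvy, hva]
        · rw [hk, gv_apply B hB hacy]
          simp [hv'y, hv'a]
      have hka : k a = a := by
        rw [hk, gv_apply B hB hacy]
        simp [hay, hB a]
      have hka' : k a' = a' + c • a := by
        rw [hk, gv_apply B hB hacy]
        simp [ha'y, hBa]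
      have := hstab k hkK a haA ha0 (by rw [hka]; exact haA) a' ha'A
      rwa [hka'] at this
    · set k := stv B hB a (c / B a' a) with hk
      have hkK : k ∈ Kv B v v' := stv_mem_Kv B hB haW _
      have hka : k a = a := by
        rw [hk, stv_apply, hB a, mul_zero, zero_smul, add_zero]
      have hka' : k a' = a' + c • a := by
        rw [hk, stv_apply, div_mul_cancel₀ _ hBa]
      have := hstab k hkK a haA ha0 (by rw [hka]; exact haA) a' ha'A
      rwa [hka'] at this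
  -- `A ≤ L`
  have hAL : ∀ a' ∈ A, ∃ c : F, a' = c • a := by
    intro a' ha'A
    by_contra hcon
    push Not at hcon
    have h1 := hclos a' ha'A hcon
    have hLA : L ≤ A := by
      intro x hx
      obtain ⟨c, rfl⟩ := (hLmem x).1 hx
      have := A.sub_mem (h1 c) ha'A
      rwa [add_sub_cancel_left] at this
    have hEq : L = A := AddSubgroup.eq_of_le_of_card_ge hLA (by rw [hcard, hLcard])
    have : a' ∈ L := by rw [hEq]; exact ha'A
    obtain ⟨c, hc⟩ := (hLmem a').1 this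
    exact hcon c hc
  have hAleL : A ≤ L := fun x hx => (hLmem x).2 (hAL x hx)
  have hEq : A = L := AddSubgroup.eq_of_le_of_card_ge hAleL (by rw [hcard, hLcard])
  refine ⟨a, haA, ha0, fun x => ?_⟩
  rw [hEq]
  exact hLmem x



/-- the nonzero vectors of `W` -/
abbrev Wnz (v v' : V) : Type _ := {w : V // w ∈ Wsub B v v' ∧ w ≠ 0}

/-- `K_v` acts on the nonzero vectors of `W` -/
instance kvAct (v v' : V) : MulAction ↥(Kv B v v') (Wnz B v v') where
  smul k w := ⟨(k : V ≃ₗ[F] V) w.1, Kv_map_mem B k.2 w.2.1, fun h =>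
    w.2.2 ((LinearEquiv.map_eq_zero_iff (k : V ≃ₗ[F] V)).1 h)⟩
  one_smul w := Subtype.ext rfl
  mul_smul k k' w := Subtype.ext rfl

theorem kvAct_coe {v v' : V} (k : ↥(Kv B v v')) (w : Wnz B v v') :
    ((k • w : Wnz B v v') : V) = (k : V ≃ₗ[F] V) w.1 := rfl

theorem card_Wnz [Finite F] [FiniteDimensional F V] (v v' : V) :
    Nat.card (Wnz B v v') = Nat.card (Wsub B v v') - 1 := by
  haveI : Finite V := Module.finite_of_finite F
  have e : Wnz B v v' ≃ ↥(((Wsub B v v' : Submodule F V) : Set V) \ {0}) :=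
    ⟨fun w => ⟨w.1, w.2.1, w.2.2⟩, fun w => ⟨w.1, w.2.1, w.2.2⟩, fun _ => rfl, fun _ => rfl⟩
  rw [Nat.card_congr e, Nat.card_coe_set_eq, Set.ncard_diff_singleton_of_mem
    (Wsub B v v').zero_mem, ← Nat.card_coe_set_eq]
  rfl

/-- the nonzero elements of an additive subgroup `A ≤ W`, as a subset of `Wnz` -/
def Ynz (v v' : V) (A : AddSubgroup V) : Set (Wnz B v v') := {w | w.1 ∈ A}

theorem card_Ynz [Finite F] [FiniteDimensional F V] {v v' : V} (A : AddSubgroup V)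
    (hAW : ∀ a ∈ A, a ∈ Wsub B v v') :
    Nat.card (Ynz B v v' A) = Nat.card A - 1 := by
  haveI : Finite V := Module.finite_of_finite F
  have e : ↥(Ynz B v v' A) ≃ ↥((A : Set V) \ {0}) :=
    ⟨fun w => ⟨w.1.1, w.2, w.1.2.2⟩, fun w => ⟨⟨w.1, hAW w.1 w.2.1, w.2.2⟩, w.2.1⟩,
      fun _ => rfl, fun _ => rfl⟩
  rw [Nat.card_congr e, Nat.card_coe_set_eq, Set.ncard_diff_singleton_of_mem
    A.zero_mem, ← Nat.card_coe_set_eq]
  rfl

include hB in
/-- the covering inequality for a `K_H`-invariant additive subgroup `A ≠ 0` of `W`,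
with its equality case -/
theorem cover_A [Finite F] [FiniteDimensional F V] (hN : B.Nondegenerate) {v v' : V}
    (hvv : B v v' = 1) (H : Subgroup (V ≃ₗ[F] V)) (A : AddSubgroup V)
    (hAW : ∀ a ∈ A, a ∈ Wsub B v v') (hA0 : ∃ a ∈ A, a ≠ 0)
    (hinv : ∀ k ∈ KH B H v v', ∀ a ∈ A, k a ∈ A) :
    Nat.card (Wsub B v v') - 1 ≤ (KH B H v v').relIndex (Kv B v v') * (Nat.card A - 1) ∧
      (Nat.card (Wsub B v v') - 1 = (KH B H v v').relIndex (Kv B v v') * (Nat.card A - 1) →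
        ∀ k ∈ Kv B v v', ∀ a ∈ A, a ≠ 0 → k a ∈ A → k ∈ KH B H v v') := by
  haveI : Finite V := Module.finite_of_finite F
  haveI : Finite (V ≃ₗ[F] V) := Finite.of_injective (fun g : V ≃ₗ[F] V => (g : V → V))
    (fun g g' h => LinearEquiv.ext (congrFun h))
  have htr : ∀ x y : Wnz B v v', ∃ g : ↥(Kv B v v'), g • x = y := by
    intro x y
    obtain ⟨k, hk, hkxy⟩ := Kv_trans B hB hN hvv x.2.1 y.2.1 x.2.2 y.2.2
    exact ⟨⟨k, hk⟩, Subtype.ext hkxy⟩
  obtain ⟨a0, ha0A, ha00⟩ := hA0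
  have hY : (Ynz B v v' A).Nonempty := ⟨⟨a0, hAW a0 ha0A, ha00⟩, ha0A⟩
  have hK' : ∀ k ∈ (KH B H v v').subgroupOf (Kv B v v'), ∀ y ∈ Ynz B v v' A,
      k • y ∈ Ynz B v v' A := by
    intro k hk y hy
    exact hinv k.1 (Subgroup.mem_subgroupOf.1 hk) y.1 hy
  have h := Cfsg.Agent.Lib.Helper63_MISp_COVER.cover_bound htr (Ynz B v v' A) hY
    ((KH B H v v').subgroupOf (Kv B v v')) hK'
  rw [card_Wnz, card_Ynz B A hAW] at h
  refine ⟨h.1, fun heq k hk a haA ha0 hka => ?_⟩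
  have := h.2 heq ⟨k, hk⟩ ⟨⟨a, hAW a haA, ha0⟩, haA, hka⟩
  exact Subgroup.mem_subgroupOf.1 this


/-! ## the package -/

/-- (E5b) if `Bbar ≠ W` then `Bbar = a^⊥ ∩ W` for some `0 ≠ a ∈ W`, `K_H = Stab_K(F a)`,
`Z = 0`, `T_1 = F^*` -/
theorem E5b [Finite F] [FiniteDimensional F V] {m q : ℕ} (S : Setting B m q) (h2 : (2 : F) = 0)
    (hq : 4 ≤ q) (hm : 2 ≤ m) {v v' : V} (hvv : B v v' = 1) {H : Subgroup (V ≃ₗ[F] V)}
    (hH : Small B S.alt (Npts m q) H) (hK : KMin B v v' (Npts (m - 1) q))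
    (hKH : KH B H v v' ≠ Kv B v v') (hne : ∃ w ∈ Wsub B v v', w ∉ Bbar B S.alt H v v') :
    ∃ a ∈ Wsub B v v', a ≠ 0 ∧
      (∀ w, w ∈ Bbar B S.alt H v v' ↔ w ∈ Wsub B v v' ∧ B a w = 0) ∧
      (∀ k ∈ Kv B v v', (∃ c : F, k a = c • a) → k ∈ KH B H v v') ∧
      Zv B S.alt H v = ⊥ ∧ Nat.card (T1 B H v v') = q - 1 := by
  have hB := S.alt
  have hN := S.nondeg
  have hFq : Nat.card F = q := S.card
  haveI : Finite V := Module.finite_of_finite F
  obtain ⟨Z', hZ'⟩ := Cfsg.Agent.Lib.Helper69_MISp_DUAL2.exists_index_two (F := F) h2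
  set X := Bbar B hB H v v' with hX
  have hXW : ∀ x ∈ X, x ∈ Wsub B v v' := fun x hx => hx.1
  set A := annW B v v' Z' X with hA
  have hAW : ∀ a ∈ A, a ∈ Wsub B v v' := annW_le B Z' X
  have hcardA : Nat.card A * Nat.card X = Nat.card (Wsub B v v') :=
    card_annW B hB hN hvv Z' hZ' X hXW
  have hW := Cfsg.Agent.Lib.Helper66_MISp_LOCAL.card_Wsub B hB S hvv
  have hXpos : 0 < Nat.card X := Nat.card_pos
  have hApos : 0 < Nat.card A := Nat.card_pos
  -- `|A| ≥ 2`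
  have ha2 : 2 ≤ Nat.card A := by
    by_contra hlt
    have h1 : Nat.card A = 1 := by omega
    rw [h1, one_mul] at hcardA
    obtain ⟨w, hwW, hwX⟩ := hne
    have htop : pullW B v v' X = ⊤ :=
      (AddSubgroup.card_eq_iff_eq_top _).1 (by rw [card_pullW B hXW, hcardA])
    have hw : (⟨w, hwW⟩ : ↥(Wsub B v v')) ∈ pullW B v v' X := by rw [htop]; trivial
    exact hwX hw
  have hA0 : ∃ a ∈ A, a ≠ 0 := by
    by_contra hcon
    push Not at hcon
    have hbot : A = ⊥ := by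
      rw [eq_bot_iff]
      intro x hx
      exact (AddSubgroup.mem_bot).2 (hcon x hx)
    rw [hbot, AddSubgroup.card_bot] at ha2
    omega
  -- `K_H` preserves `A`
  have hinv : ∀ k ∈ KH B H v v', ∀ a ∈ A, k a ∈ A := by
    intro k hk a ha
    have hkK : k ∈ Kv B v v' := KH_le_Kv B H v v' hk
    refine ⟨Kv_map_mem B hkK ha.1, fun x hx => ?_⟩
    have hk' : k⁻¹ ∈ KH B H v v' := (KH B H v v').inv_mem hk
    have h1 : k⁻¹ x ∈ X := Cfsg.Agent.Lib.Helper32_MISp_L1.KH_Bbar B hB hvv hk' hx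
    have h3 := ha.2 _ h1
    have h4 : B (k a) x = B a (k⁻¹ x) := by
      have := isoGroup_inv_apply ((isoGroup B).inv_mem hkK.1) a x
      rwa [inv_inv] at this
    rw [h4]
    exact h3
  -- `Z ≠ F`
  have hv0 : v ≠ 0 := by
    rintro rfl
    simp at hvv
  have hZtop : Zv B hB H v ≠ ⊤ := by
    intro htop
    apply hH.noRoot v hv0
    rintro g ⟨t, rfl⟩
    have : t ∈ Zv B hB H v := by rw [htop]; trivial
    exact this
  have htor0 := Cfsg.Agent.Lib.Helper69_MISp_E2.torus_ineq_char2 h2 (Zv B hB H v) hZtop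
    (T1 B H v v') (fun c hc z hz => Cfsg.Agent.Lib.Helper32_MISp_L1.T1_Zv B hB hvv hc hz)
  have hL := Cfsg.Agent.Lib.Helper66_MISp_LOCAL.L0' B hB hvv hH.le
  have hE5a := Cfsg.Agent.Lib.Helper84_MISp_E5a.E5a_of B S hq hm hH hK hKH hL htor0
  -- `|A| ≤ q`
  have haq : Nat.card A ≤ q := by
    have h1 := hE5a.1
    rw [← hcardA] at h1
    exact Nat.le_of_mul_le_mul_right h1 hXpos
  have htor := htor0.1
  rw [hFq] at htor
  rw [hFq] at hL
  have h1 : Nat.card A * q * (KH B H v v').relIndex (Kv B v v') ≤ H.relIndex (isoGroup B) :=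
    arith_L0 (by omega) hXpos hcardA htor hL
  have h2' : (H.relIndex (isoGroup B) + 1) * (q - 1) ≤ q * q * Nat.card (Wsub B v v') - 1 := by
    have hidx : H.relIndex (isoGroup B) + 1 ≤ Npts m q := hH.idx
    calc (H.relIndex (isoGroup B) + 1) * (q - 1) ≤ Npts m q * (q - 1) :=
          Nat.mul_le_mul_right _ hidx
      _ ≤ q ^ (2 * m) - 1 := Nat.div_mul_le_self _ _
      _ = q * q * Nat.card (Wsub B v v') - 1 := by rw [pow_split (by omega), hW]
  have hcov := cover_A B hB hN hvv H A hAW hA0 hinv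
  -- `q` is a power of two
  have hchar : CharP F 2 := CharTwo.of_one_ne_zero_of_two_eq_zero one_ne_zero h2
  obtain ⟨e, hqe⟩ : ∃ e, q = 2 ^ e := by
    letI := Fintype.ofFinite F
    obtain ⟨n, -, hn⟩ := FiniteField.card F 2
    exact ⟨n, by rw [← hFq, Nat.card_eq_fintype_card, hn]⟩
  have hdvd : Nat.card A ∣ q ^ (2 * m - 2) := ⟨Nat.card X, by rw [← hW]; exact hcardA.symm⟩
  rcases two_pow_dichotomy hqe hdvd haq with haeq | hasmall
  swap
  · exact (arith_small hq ha2 hasmall (by rw [hW]; exact sq_le_pow (by omega) hm) h1 h2'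
      hcov.1).elim
  -- the case `|A| = q`
  have hWeq : Nat.card (Wsub B v v') = q * Nat.card X := by rw [← hcardA, haeq]
  obtain ⟨hr, hZ0, hT⟩ := hE5a.2 hWeq
  have heq : Nat.card (Wsub B v v') - 1 =
      (KH B H v v').relIndex (Kv B v v') * (Nat.card A - 1) := by
    rw [hr, haeq, hW, Npts]
    have hd : q - 1 ∣ q ^ (2 * (m - 1)) - 1 := Nat.sub_one_dvd_pow_sub_one q (2 * (m - 1))
    rw [Nat.div_mul_cancel hd]
    congr 2
    omega
  have hstab0 := hcov.2 heq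
  have hstab : ∀ k ∈ Kv B v v', ∀ a ∈ A, a ≠ 0 → k a ∈ A → ∀ a' ∈ A, k a' ∈ A :=
    fun k hk a ha ha0 hka a' ha' => hinv k (hstab0 k hk a ha ha0 hka) a' ha'
  obtain ⟨a, haA, ha0, hAline⟩ := A_eq_line B hB hN hvv A hAW (by rw [haeq, hFq]) hstab
  have hXX : annW B v v' Z' A = X := annW_annW B hB hN hvv Z' hZ' X hXW
  refine ⟨a, hAW a haA, ha0, ?_, ?_, hZ0, hT⟩
  · intro w
    rw [← hXX, mem_annW]
    constructor
    · rintro ⟨hwW, hw⟩
      refine ⟨hwW, ?_⟩
      by_contra hne0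
      have hwa : B w a ≠ 0 := alt_ne_zero_comm B hB hne0
      have htop : Z' = ⊤ := by
        rw [eq_top_iff]
        intro t _
        have hx : (t / B w a) • a ∈ A := (hAline _).2 ⟨_, rfl⟩
        have := hw _ hx
        rwa [map_smul, smul_eq_mul, div_mul_cancel₀ _ hwa] at this
      rw [htop, AddSubgroup.index_top] at hZ'
      omega
    · rintro ⟨hwW, hw⟩
      refine ⟨hwW, fun x hx => ?_⟩
      obtain ⟨c, rfl⟩ := (hAline x).1 hx
      rw [map_smul, smul_eq_mul, alt_swap B hB, hw, neg_zero, mul_zero]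
      exact Z'.zero_mem
  · rintro k hk ⟨c, hc⟩
    exact hstab0 k hk a haA ha0 (by rw [hc]; exact (hAline _).2 ⟨c, rfl⟩)

end Cfsg.Agent.Lib.Helper12_MISp_E5b
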