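import Mathlib
import Cfsg.Agent.Lib.Helper66_MI_SpDefs
import Cfsg.Agent.Lib.Helper10_MISp_GV
import Cfsg.Agent.Lib.Helper32_MISp_CONJ
import Cfsg.Agent.Lib.Helper94_MI_SpDecomp

set_option autoImplicit false

/-!
# S2141 package T2 (architect helper66): the splitting tool
-/

namespace Cfsg.Agent.Lib.Helper79_MISp_T2

open Cfsg.Agent.Lib.Helper94_Symp Cfsg.Agent.Lib.Helper94_SympTI
  Cfsg.Agent.Lib.Helper94_SympPerfect Cfsg.Agent.Lib.Helper66_MI_SpDefs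

variable {F V : Type*} [Field F] [AddCommGroup V] [Module F V]
variable (B : LinearMap.BilinForm F V) (hB : B.IsAlt)

/-- the eigenvalue of a torus element on `v'` -/
theorem torus_snd {v v' : V} (hvv : B v v' = 1) {l0 : V ≃ₗ[F] V} (hT : l0 ∈ Tv B v v') {c : F}
    (hc : l0 v = c • v) : c ≠ 0 ∧ l0 v' = c⁻¹ • v' := by
  have hL := (mem_Lv B).1 hT.1
  obtain ⟨hiso, -, d, hd, hd'⟩ := hL
  have h1 := hiso v v'
  rw [hc, hd', map_smul, map_smul, LinearMap.smul_apply, smul_eq_mul, smul_eq_mul, hvv,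
    mul_one] at h1
  have hc0 : c ≠ 0 := by
    intro h0; rw [h0, mul_zero] at h1; exact zero_ne_one h1
  refine ⟨hc0, ?_⟩
  have : d = c⁻¹ := eq_inv_of_mul_eq_one_left h1
  rw [hd', this]

/-- a torus element acts on `Q_v` by `g_v(w,t) ↦ g_v(c w, c² t)` -/
theorem torus_conj_gv {v v' : V} {l0 : V ≃ₗ[F] V} (hT : l0 ∈ Tv B v v') {c : F}
    (hc : l0 v = c • v) {w : V} (hw : w ∈ Wsub B v v') (t : F) :
    l0 * gv B hB v w t * l0⁻¹ = gv B hB v (c • w) (c * c * t) := by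
  have h1 : B v w = 0 := by rw [alt_swap B hB, hw.1, neg_zero]
  have hiso : l0 ∈ isoGroup B := ((mem_Lv B).1 hT.1).1
  rw [Cfsg.Agent.Lib.Helper10_MISp_GV.gv_conj_of_eigen B hB hiso hc h1, hT.2 w hw]

/-- the commutator map `g ↦ l0 g l0⁻¹ g⁻¹` on `Q_v` -/
theorem torus_comm_gv {v v' : V} {l0 : V ≃ₗ[F] V} (hT : l0 ∈ Tv B v v') {c : F}
    (hc : l0 v = c • v) {w : V} (hw : w ∈ Wsub B v v') (t : F) :
    l0 * gv B hB v w t * l0⁻¹ * (gv B hB v w t)⁻¹ =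
      gv B hB v ((c - 1) • w) ((c * c - 1) * t) := by
  have h1 : B v w = 0 := by rw [alt_swap B hB, hw.1, neg_zero]
  have h2 : B v (c • w) = 0 := by rw [map_smul, h1, smul_zero]
  have h3 : B v (-w) = 0 := by rw [map_neg, h1, neg_zero]
  rw [torus_conj_gv B hB hT hc hw, gv_inv B hB h1, gv_mul B hB h2 h3]
  have e1 : c • w + -w = (c - 1) • w := by module
  have e2 : c * c * t + -t + B (-w) (c • w) = (c * c - 1) * t := by
    rw [map_neg, LinearMap.neg_apply, map_smul, hB w]; simp; ring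
  rw [e1, e2]

/-- conjugating a torus element by an element of `Q_v` -/
theorem conj_torus {v v' : V} {l0 : V ≃ₗ[F] V} (hT : l0 ∈ Tv B v v') {c : F}
    (hc : l0 v = c • v) {w : V} (hw : w ∈ Wsub B v v') (t : F) :
    (gv B hB v w t)⁻¹ * l0 * gv B hB v w t =
      gv B hB v ((c - 1) • w) ((c * c - 1) * t) * l0 := by
  have h1 : B v w = 0 := by rw [alt_swap B hB, hw.1, neg_zero]
  have h2 : B v (c • w) = 0 := by rw [map_smul, h1, smul_zero]
  have h3 : B v (-w) = 0 := by rw [map_neg, h1, neg_zero]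
  have e0 : (gv B hB v w t)⁻¹ * l0 * gv B hB v w t
      = (gv B hB v w t)⁻¹ * (l0 * gv B hB v w t * l0⁻¹) * l0 := by group
  rw [e0, torus_conj_gv B hB hT hc hw, gv_inv B hB h1, gv_mul B hB h3 h2]
  have e1 : -w + c • w = (c - 1) • w := by module
  have e2 : -t + c * c * t + B (c • w) (-w) = (c * c - 1) * t := by
    rw [map_neg, map_smul, LinearMap.smul_apply, hB w]; simp; ring
  rw [e1, e2]

include hB in
theorem decomp_vec' {v v' : V} (hvv : B v v' = 1) (x : V) :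
    x - B x v' • v + B x v • v' ∈ Wsub B v v' := by
  have h3 : B v' v = -1 := by rw [alt_swap B hB, hvv]
  refine (mem_Wsub B).2 ⟨?_, ?_⟩
  · simp only [map_add, map_sub, map_smul, LinearMap.add_apply, LinearMap.sub_apply,
      LinearMap.smul_apply, smul_eq_mul, hB v, h3]
    ring
  · simp only [map_add, map_sub, map_smul, LinearMap.add_apply, LinearMap.sub_apply,
      LinearMap.smul_apply, smul_eq_mul, hB v', hvv]
    ring

/-- `L` preserves `W` -/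
theorem Lv_map_Wsub' {v v' : V} {l : V ≃ₗ[F] V} (hl : l ∈ Lv B v v') {w : V}
    (hw : w ∈ Wsub B v v') : l w ∈ Wsub B v v' := by
  obtain ⟨hiso, ⟨a, ha0, ha⟩, b, hb0, hb⟩ := (mem_Lv B).1 hl
  refine (mem_Wsub B).2 ⟨?_, ?_⟩
  · have h1 := hiso w v
    rw [ha, map_smul, smul_eq_mul, hw.1] at h1
    rcases mul_eq_zero.1 h1 with h | h
    · exact absurd h ha0
    · exact h
  · have h1 := hiso w v'
    rw [hb, map_smul, smul_eq_mul, hw.2] at h1
    rcases mul_eq_zero.1 h1 with h | h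
    · exact absurd h hb0
    · exact h

include hB in
/-- torus elements commute with the Levi complement -/
theorem torus_comm_Lv {v v' : V} (hvv : B v v' = 1) {l0 l : V ≃ₗ[F] V} (hT : l0 ∈ Tv B v v')
    (hl : l ∈ Lv B v v') : l0 * l = l * l0 := by
  obtain ⟨c, -, hc⟩ := ((mem_Lv B).1 hT.1).2.1
  obtain ⟨hc0, hc'⟩ := torus_snd B hvv hT hc
  obtain ⟨-, ⟨a, -, ha⟩, b, -, hb⟩ := (mem_Lv B).1 hl
  ext x
  have hw := decomp_vec' B hB hvv x
  set w := x - B x v' • v + B x v • v' with hwdef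
  have hx : x = B x v' • v + (-(B x v)) • v' + w := by rw [hwdef]; module
  have hlw := Lv_map_Wsub' B hl hw
  rw [hx]
  simp only [LinearEquiv.mul_apply, map_add, map_smul, ha, hb, hc, hc', hT.2 w hw, hT.2 _ hlw]
  module

theorem finite_equiv [Finite F] [FiniteDimensional F V] : Finite (V ≃ₗ[F] V) := by
  have : Finite V := Module.finite_of_finite F
  exact Finite.of_injective (fun e : V ≃ₗ[F] V => (e : V → V)) DFunLike.coe_injective

include hB in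
/-- (T2) if `Dbar` contains a torus element `l0 = h(c)` with `c² ≠ 1`, then some `Q_v`-conjugate
of `H` contains `Dbar` -/
theorem T2 [Finite F] [FiniteDimensional F V] {v v' : V} (hvv : B v v' = 1)
    {H : Subgroup (V ≃ₗ[F] V)} {l0 : V ≃ₗ[F] V}
    (hT : l0 ∈ Tv B v v') (hD : l0 ∈ Dbar B H v v') {c : F} (hc : l0 v = c • v)
    (hc2 : c * c ≠ 1) : ∃ x ∈ Qv B v, Dbar B H v v' ≤ conjSub x H := by
  have hc1 : c - 1 ≠ 0 := by
    intro h
    have : c = 1 := sub_eq_zero.1 h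
    rw [this, one_mul] at hc2
    exact hc2 rfl
  have hcc1 : c * c - 1 ≠ 0 := fun h => hc2 (sub_eq_zero.1 h)
  obtain ⟨hl0L, g0, hg0, hg0H⟩ := (mem_Dbar B).1 hD
  obtain ⟨w0, hw0, t0, rfl⟩ := Cfsg.Agent.Lib.Helper94_MI_SpDecomp.Qv_param B hB hvv hg0
  -- the conjugating element
  set w := (c - 1)⁻¹ • w0 with hwdef
  set t := (c * c - 1)⁻¹ * t0 with htdef
  have hw : w ∈ Wsub B v v' := (Wsub B v v').smul_mem _ hw0
  have hvw : B v w = 0 := by rw [alt_swap B hB, hw.1, neg_zero]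
  set x := gv B hB v w t with hxdef
  have hxQ : x ∈ Qv B v := gv_mem_Qv B hB hvw t
  refine ⟨x, hxQ, ?_⟩
  set H' := conjSub x H with hH'
  -- (1) `l0 ∈ H'`
  have hl0H' : l0 ∈ H' := by
    rw [hH', mem_conjSub, hxdef, conj_torus B hB hT hc hw]
    have e1 : (c - 1) • w = w0 := by
      rw [hwdef, smul_smul, mul_inv_cancel₀ hc1, one_smul]
    have e2 : (c * c - 1) * t = t0 := by
      rw [htdef, ← mul_assoc, mul_inv_cancel₀ hcc1, one_mul]
    rw [e1, e2]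
    exact hg0H
  -- (2)
  have hDeq : Dbar B H' v v' = Dbar B H v v' :=
    Cfsg.Agent.Lib.Helper32_MISp_CONJ.Dbar_conjSub_Qv B hB hvv hxQ H
  have hfin : Finite (V ≃ₗ[F] V) := finite_equiv (F := F) (V := V)
  -- the commutator map on `H' ⊓ Qv`
  have hl0P : l0 ∈ Pv B v := hl0L.1
  have hψmem : ∀ g : V ≃ₗ[F] V, g ∈ H' ⊓ Qv B v → l0 * g * l0⁻¹ * g⁻¹ ∈ H' ⊓ Qv B v := by
    intro g hg
    refine ⟨H'.mul_mem (H'.mul_mem (H'.mul_mem hl0H' hg.1) (H'.inv_mem hl0H')) (H'.inv_mem hg.1),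
      (Qv B v).mul_mem (conj_mem_Qv B hl0P hg.2) ((Qv B v).inv_mem hg.2)⟩
  have hψinj : ∀ g₁ ∈ Qv B v, ∀ g₂ ∈ Qv B v,
      l0 * g₁ * l0⁻¹ * g₁⁻¹ = l0 * g₂ * l0⁻¹ * g₂⁻¹ → g₁ = g₂ := by
    intro g₁ hg₁ g₂ hg₂ h
    obtain ⟨w₁, hw₁, t₁, rfl⟩ := Cfsg.Agent.Lib.Helper94_MI_SpDecomp.Qv_param B hB hvv hg₁
    obtain ⟨w₂, hw₂, t₂, rfl⟩ := Cfsg.Agent.Lib.Helper94_MI_SpDecomp.Qv_param B hB hvv hg₂
    rw [torus_comm_gv B hB hT hc hw₁, torus_comm_gv B hB hT hc hw₂] at h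
    obtain ⟨e1, e2⟩ := Cfsg.Agent.Lib.Helper94_MI_SpDecomp.gv_inj B hB hvv
      ((Wsub B v v').smul_mem _ hw₁) ((Wsub B v v').smul_mem _ hw₂) h
    have e1' : w₁ = w₂ := by
      have := congrArg (fun y => (c - 1)⁻¹ • y) e1
      simpa [smul_smul, inv_mul_cancel₀ hc1] using this
    have e2' : t₁ = t₂ := mul_left_cancel₀ hcc1 e2
    rw [e1', e2']
  let ψ : ↥(H' ⊓ Qv B v) → ↥(H' ⊓ Qv B v) :=
    fun g => ⟨l0 * (g : V ≃ₗ[F] V) * l0⁻¹ * (g : V ≃ₗ[F] V)⁻¹, hψmem g g.2⟩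
  have hψi : Function.Injective ψ := by
    intro g₁ g₂ h
    apply Subtype.ext
    exact hψinj _ g₁.2.2 _ g₂.2.2 (congrArg Subtype.val h)
  have hψs : Function.Surjective ψ := Finite.injective_iff_surjective.1 hψi
  intro l hl
  rw [← hDeq] at hl
  obtain ⟨hlL, g, hgQ, hglH'⟩ := (mem_Dbar B).1 hl
  have hcomm : l0 * l = l * l0 := torus_comm_Lv B hB hvv hT hlL
  have hψg : l0 * g * l0⁻¹ * g⁻¹ ∈ H' ⊓ Qv B v := by
    refine ⟨?_, (Qv B v).mul_mem (conj_mem_Qv B hl0P hgQ) ((Qv B v).inv_mem hgQ)⟩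
    have e : l0 * g * l0⁻¹ * g⁻¹ = l0 * (g * l) * l0⁻¹ * (g * l)⁻¹ := by
      have h1 : l * l0⁻¹ * l⁻¹ = l0⁻¹ := by
        have : l * l0⁻¹ = l0⁻¹ * l := by
          rw [eq_inv_mul_iff_mul_eq, ← mul_assoc, hcomm, mul_assoc, mul_inv_cancel, mul_one]
        rw [this, mul_assoc, mul_inv_cancel, mul_one]
      calc l0 * g * l0⁻¹ * g⁻¹ = l0 * g * (l * l0⁻¹ * l⁻¹) * g⁻¹ := by rw [h1]
        _ = l0 * (g * l) * l0⁻¹ * (g * l)⁻¹ := by group
    rw [e]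
    exact H'.mul_mem (H'.mul_mem (H'.mul_mem hl0H' hglH') (H'.inv_mem hl0H')) (H'.inv_mem hglH')
  obtain ⟨g', hg'⟩ := hψs ⟨_, hψg⟩
  have hgg' : (g' : V ≃ₗ[F] V) = g :=
    hψinj _ g'.2.2 _ hgQ (congrArg Subtype.val hg')
  have hgH' : g ∈ H' := by rw [← hgg']; exact g'.2.1
  have : l = g⁻¹ * (g * l) := by group
  rw [this]
  exact H'.mul_mem (H'.inv_mem hgH') hglH'

end Cfsg.Agent.Lib.Helper79_MISp_T2
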