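import Mathlib
import Cfsg.Agent.Lib.Helper66_MI_SpDefs
import Cfsg.Agent.Lib.Helper10_MISp_KTRANS
import Cfsg.Agent.Lib.Helper94_MI_SpKiso
import Cfsg.Agent.Lib.Helper94_MI_SpDecomp
import Cfsg.Agent.Lib.Helper32_MISp_CONJ
import Cfsg.Agent.Lib.Helper32_MISp_L1
import Cfsg.Agent.Lib.Helper79_MISp_T2
import Cfsg.Agent.Lib.Helper12_MISp_E5b

set_option autoImplicit false

/-!
# S2141 package E5c (architect helper66; formalised by helper12)

The configuration of (E5b) (`Bbar = a^⊥ ∩ W`, `K_H ⊇ Stab_K(F a)`, `Z = 0`, `T_1 = F^*`) is impossible.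
-/

namespace Cfsg.Agent.Lib.Helper12_MISp_E5c

open Cfsg.Agent.Lib.Helper94_Symp Cfsg.Agent.Lib.Helper94_SympTI
  Cfsg.Agent.Lib.Helper94_SympPerfect Cfsg.Agent.Lib.Helper66_MI_SpDefs
open Cfsg.Agent.Lib.Helper10_MISp_KTRANS
  Cfsg.Agent.Lib.Helper94_MI_SpKiso Cfsg.Agent.Lib.Helper94_MI_SpDecomp
  Cfsg.Agent.Lib.Helper32_MISp_CONJ

variable {F V : Type*} [Field F] [AddCommGroup V] [Module F V]
variable (B : LinearMap.BilinForm F V) (hB : B.IsAlt)

/-- (E5c) the configuration of (E5b) is impossible -/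
theorem E5c [Finite F] [FiniteDimensional F V] {m q : ℕ} (S : Setting B m q) (h2 : (2 : F) = 0)
    (hq : 4 ≤ q) (hm : 2 ≤ m) {v v' : V} (hvv : B v v' = 1) {H : Subgroup (V ≃ₗ[F] V)}
    (hH : Small B S.alt (Npts m q) H) {a : V} (ha : a ∈ Wsub B v v') (ha0 : a ≠ 0)
    (hBbar : ∀ w, w ∈ Bbar B S.alt H v v' ↔ w ∈ Wsub B v v' ∧ B a w = 0)
    (hKH : ∀ k ∈ Kv B v v', (∃ c : F, k a = c • a) → k ∈ KH B H v v')
    (hZ : Zv B S.alt H v = ⊥) (hT : Nat.card (T1 B H v v') = q - 1) : False := by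
  have hB := S.alt
  have hN := S.nondeg
  have hFq : Nat.card F = q := S.card
  -- `T_1 = ⊤`
  have hT1 : T1 B H v v' = ⊤ := by
    apply (Subgroup.card_eq_iff_eq_top _).1
    rw [hT, ← hFq, Nat.card_units]
  -- a unit `c0 ≠ 1`
  obtain ⟨c0, hc01⟩ : ∃ c0 : Fˣ, c0 ≠ 1 := by
    by_contra hcon
    push Not at hcon
    have hsub : Subsingleton Fˣ := ⟨fun x y => by rw [hcon x, hcon y]⟩
    have h1 : Nat.card Fˣ = 1 := Nat.card_unique
    rw [Nat.card_units, hFq] at h1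
    omega
  have hc0T : c0 ∈ T1 B H v v' := by rw [hT1]; trivial
  obtain ⟨l, hlD, hlv⟩ := (mem_T1 B).1 hc0T
  obtain ⟨h, hhT, k, hkK, hlhk⟩ := Lv_decomp B hB hvv (Dbar_le_Lv B H v v' hlD)
  have hhfix : ∀ w ∈ Wsub B v v', h w = w := hhT.2
  have hhinvfix : ∀ w ∈ Wsub B v v', h⁻¹ w = w := ((Tv B v v').inv_mem hhT).2
  -- `l⁻¹ w = k⁻¹ w` on `W`
  have hlinv : ∀ w ∈ Wsub B v v', l⁻¹ w = k⁻¹ w := by
    intro w hw
    rw [hlhk, mul_inv_rev, LinearEquiv.mul_apply, hhinvfix w hw]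
  have hlinvD : l⁻¹ ∈ Dbar B H v v' := (Dbar B H v v').inv_mem hlD
  have hc0ne : (c0 : F) ≠ 0 := c0.ne_zero
  have hlinvv : l⁻¹ v = (c0 : F)⁻¹ • v := by
    have h1 : l⁻¹ (l v) = v := inv_apply_apply' l v
    rw [hlv, map_smul] at h1
    calc l⁻¹ v = (c0 : F)⁻¹ • ((c0 : F) • l⁻¹ v) := by
          rw [smul_smul, inv_mul_cancel₀ hc0ne, one_smul]
      _ = (c0 : F)⁻¹ • v := by rw [h1]
  -- `k⁻¹` preserves `Bbar`
  have hkinv : ∀ w ∈ Wsub B v v', B a w = 0 → B a (k⁻¹ w) = 0 := by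
    intro w hw haw
    have hwB : w ∈ Bbar B hB H v v' := (hBbar w).2 ⟨hw, haw⟩
    have h1 := Cfsg.Agent.Lib.Helper32_MISp_L1.L1_Bbar B hB hvv hlinvD hlinvv hwB
    rw [hlinv w hw] at h1
    have h3 := ((hBbar _).1 h1).2
    rw [map_smul, smul_eq_mul] at h3
    rcases mul_eq_zero.1 h3 with h4 | h4
    · exact absurd h4 (inv_ne_zero hc0ne)
    · exact h4
  -- `k a ∈ F a`
  have hka : ∃ c : F, k a = c • a := by
    by_contra hcon
    push Not at hcon
    have hkaW : k a ∈ Wsub B v v' := Kv_map_mem B hkK ha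
    obtain ⟨y, hyW, hay, hkay⟩ :=
      Cfsg.Agent.Lib.Helper12_MISp_E5b.exists_dual_vec B hB hN hvv ha hkaW ha0 hcon
    have h1 := hkinv y hyW hay
    have h3 : B (k a) y = B a (k⁻¹ y) := by
      have := isoGroup_inv_apply ((isoGroup B).inv_mem hkK.1) a y
      rwa [inv_inv] at this
    rw [h3, h1] at hkay
    exact zero_ne_one hkay
  have hkKH : k ∈ KH B H v v' := hKH k hkK hka
  have hkD : k ∈ Dbar B H v v' := hkKH.1
  have hhD : h ∈ Dbar B H v v' := by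
    have : h = l * k⁻¹ := by rw [hlhk, mul_inv_cancel_right]
    rw [this]
    exact (Dbar B H v v').mul_mem hlD ((Dbar B H v v').inv_mem hkD)
  have hhv : h v = (c0 : F) • v := by
    rw [← hlv, hlhk, LinearEquiv.mul_apply, hkK.2.1]
  have hc2 : (c0 : F) * (c0 : F) ≠ 1 := by
    intro hcc
    apply hc01
    have h3 : ((c0 : F) + 1) * ((c0 : F) + 1) = 0 := by
      have : ((c0 : F) + 1) * ((c0 : F) + 1) = (c0 : F) * (c0 : F) + 2 * (c0 : F) + 1 := by ring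
      rw [this, hcc, h2]
      have : (1 : F) + 0 * (c0 : F) + 1 = 2 := by ring
      rw [this, h2]
    have h4 : (c0 : F) + 1 = 0 := by
      rcases mul_eq_zero.1 h3 with h | h <;> exact h
    have h5 : (c0 : F) = 1 := by
      have : (c0 : F) = -1 := eq_neg_of_add_eq_zero_left h4
      rw [this]
      have : (-1 : F) = 1 := by
        have : (1 : F) + 1 = 0 := by rw [one_add_one_eq_two, h2]
        exact neg_eq_of_add_eq_zero_left this
      exact this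
    exact Units.ext h5
  obtain ⟨x, hxQ, hle⟩ := Cfsg.Agent.Lib.Helper79_MISp_T2.T2 B hB hvv hhT hhD hhv hc2
  have hnr := noRoot_conjSub B hB (Qv_le B v hxQ) hH.noRoot
  apply hnr a ha0
  rintro g ⟨t, rfl⟩
  apply hle
  have hsK : stv B hB a t ∈ Kv B v v' := stv_mem_Kv B hB ha t
  have hsa : stv B hB a t a = (1 : F) • a := by
    rw [stv_apply, hB a, mul_zero, zero_smul, add_zero, one_smul]
  exact (hKH _ hsK ⟨1, hsa⟩).1

end Cfsg.Agent.Lib.Helper12_MISp_E5c
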