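import Cfsg.Prelude.Def_Perm
import Mathlib.Tactic

/-!
Basic algebra of (right) near-fields `Cfsg.NearField`.
-/

set_option autoImplicit false

namespace Cfsg.Agent.Lib.Helper12_NearField

open Cfsg

variable {F : Type*} [NearField F]

theorem nf_add_mul (a b c : F) : (a + b) * c = a * c + b * c := NearField.right_distrib a b c

theorem nf_mul_zero (a : F) : a * 0 = 0 := NearField.mul_zero a

theorem nf_zero_ne_one : (0 : F) ≠ 1 := NearField.zero_ne_one

theorem nf_zero_mul (a : F) : (0 : F) * a = 0 := by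
  have h := nf_add_mul (0 : F) 0 a
  rw [add_zero] at h
  exact left_eq_add.mp h

theorem nf_neg_mul (x a : F) : (-x) * a = -(x * a) := by
  have h := nf_add_mul x (-x) a
  rw [add_neg_cancel, nf_zero_mul] at h
  exact (neg_eq_of_add_eq_zero_right h.symm).symm

theorem nf_sub_mul (x y a : F) : (x - y) * a = x * a - y * a := by
  rw [sub_eq_add_neg, nf_add_mul, nf_neg_mul, ← sub_eq_add_neg]

/-- A chosen inverse. -/
noncomputable def nfInv (a : F) (ha : a ≠ 0) : F := Classical.choose (NearField.exists_inv a ha)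

theorem nf_mul_inv (a : F) (ha : a ≠ 0) : a * nfInv a ha = 1 :=
  (Classical.choose_spec (NearField.exists_inv a ha)).1

theorem nf_inv_mul (a : F) (ha : a ≠ 0) : nfInv a ha * a = 1 :=
  (Classical.choose_spec (NearField.exists_inv a ha)).2

theorem nf_inv_ne_zero (a : F) (ha : a ≠ 0) : nfInv a ha ≠ 0 := by
  intro h
  have := nf_mul_inv a ha
  rw [h, nf_mul_zero] at this
  exact nf_zero_ne_one this

theorem nf_mul_ne_zero {a b : F} (ha : a ≠ 0) (hb : b ≠ 0) : a * b ≠ 0 := by
  intro h
  apply hb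
  have : nfInv a ha * (a * b) = b := by rw [← mul_assoc, nf_inv_mul, one_mul]
  rw [← this, h, nf_mul_zero]

theorem nf_mul_left_cancel {a b c : F} (ha : a ≠ 0) (h : a * b = a * c) : b = c := by
  have := congrArg (fun x => nfInv a ha * x) h
  simpa [← mul_assoc, nf_inv_mul] using this

theorem nf_mul_right_cancel {a b c : F} (hc : c ≠ 0) (h : a * c = b * c) : a = b := by
  have := congrArg (fun x => x * nfInv c hc) h
  simpa [mul_assoc, nf_mul_inv] using this

/-- The affine permutation `x ↦ x * m + t` of a near-field, for `m ≠ 0`. -/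
noncomputable def affPerm (m t : F) (hm : m ≠ 0) : Equiv.Perm F where
  toFun x := x * m + t
  invFun y := (y - t) * nfInv m hm
  left_inv x := by
    simp only [add_sub_cancel_right, mul_assoc, nf_mul_inv, mul_one]
  right_inv y := by
    simp only [mul_assoc, nf_inv_mul, mul_one, sub_add_cancel]

@[simp] theorem affPerm_apply (m t : F) (hm : m ≠ 0) (x : F) : affPerm m t hm x = x * m + t := rfl

/-- The affine group of a near-field. -/
def affGroup (F : Type*) [NearField F] : Subgroup (Equiv.Perm F) where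
  carrier := {σ | ∃ a b : F, a ≠ 0 ∧ ∀ x : F, σ x = x * a + b}
  one_mem' := ⟨1, 0, fun h => nf_zero_ne_one h.symm, fun x => by simp⟩
  mul_mem' := by
    rintro σ τ ⟨a, b, ha, hσ⟩ ⟨c, d, hc, hτ⟩
    refine ⟨c * a, d * a + b, nf_mul_ne_zero hc ha, fun x => ?_⟩
    simp only [Equiv.Perm.coe_mul, Function.comp_apply, hτ, hσ, nf_add_mul, mul_assoc, add_assoc]
  inv_mem' := by
    rintro σ ⟨a, b, ha, hσ⟩
    refine ⟨nfInv a ha, (-b) * nfInv a ha, nf_inv_ne_zero a ha, fun x => ?_⟩
    apply σ.injective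
    rw [Equiv.Perm.inv_def, Equiv.apply_symm_apply, hσ, nf_add_mul, mul_assoc, mul_assoc,
      nf_inv_mul, mul_one, mul_one, add_assoc, neg_add_cancel, add_zero]

theorem mem_affGroup (σ : Equiv.Perm F) :
    σ ∈ affGroup F ↔ ∃ a b : F, a ≠ 0 ∧ ∀ x : F, σ x = x * a + b := Iff.rfl

theorem affPerm_mem (m t : F) (hm : m ≠ 0) : affPerm m t hm ∈ affGroup F :=
  ⟨m, t, hm, fun _ => rfl⟩

/-- Sharpness: an affine map fixing two distinct points is the identity. -/
theorem eq_one_of_fix_two {σ : Equiv.Perm F} (hσ : σ ∈ affGroup F) {u v : F} (huv : u ≠ v)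
    (hu : σ u = u) (hv : σ v = v) : σ = 1 := by
  obtain ⟨a, b, ha, h⟩ := hσ
  have h1 : u * a + b = u := by rw [← h]; exact hu
  have h2 : v * a + b = v := by rw [← h]; exact hv
  have h3 : (u - v) * a = (u - v) * 1 := by
    rw [nf_sub_mul, mul_one]
    have : u * a + b - (v * a + b) = u - v := by rw [h1, h2]
    rw [← this]
    simp
  have ha1 : a = 1 := nf_mul_left_cancel (sub_ne_zero.mpr huv) h3
  have hb0 : b = 0 := by
    rw [ha1, mul_one] at h1
    exact left_eq_add.mp h1.symm
  ext x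
  rw [h, ha1, hb0]
  simp

/-- Double transitivity. -/
theorem exists_affPerm {a b c d : F} (hab : a ≠ b) (hcd : c ≠ d) :
    ∃ σ ∈ affGroup F, σ a = c ∧ σ b = d := by
  have hab' : a - b ≠ 0 := sub_ne_zero.mpr hab
  have hcd' : c - d ≠ 0 := sub_ne_zero.mpr hcd
  set m : F := nfInv (a - b) hab' * (c - d) with hm
  have hm0 : m ≠ 0 := nf_mul_ne_zero (nf_inv_ne_zero _ _) hcd'
  refine ⟨affPerm m (-(a * m) + c) hm0, affPerm_mem _ _ _, ?_, ?_⟩
  · simp
  · have h1 : (a - b) * m = c - d := by
      rw [hm, ← mul_assoc, nf_mul_inv, one_mul]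
    rw [nf_sub_mul] at h1
    simp only [affPerm_apply]
    -- b*m - a*m + c = d
    have h2 : b * m + -(a * m) = -(c - d) := by
      rw [← h1, neg_sub, sub_eq_add_neg]
    rw [← add_assoc, h2]
    simp

end Cfsg.Agent.Lib.Helper12_NearField
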