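import Mathlib
import Cfsg.Agent.Lib.Helper94_OrthRefl
import Cfsg.Agent.Lib.Helper94_OrthVec
import Cfsg.Agent.Lib.Helper29_ODDefs

set_option autoImplicit false
set_option linter.unusedSimpArgs false
set_option linter.unusedVariables false
set_option linter.unusedSectionVars false

/-!
Definitions for the maximality of the stabiliser of an orthogonal frame (blocks of dimension one)
in `Ω = [O, O]` (rows S5679, S5696), in the abstract setting of helper94
(`Q : V → F`, `B` its polar form, `oG Q` the isometry group).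

* `OFr Q B c e`  : `e : ι → V` is an orthogonal basis with `Q (e i) = c ≠ 0` (characteristic `≠ 2`);
* `co B c e v i` : the `i`-th coordinate of `v`;
* `zJ B c e J`   : the sign change `e j ↦ - e j` (`j ∈ J`), `e i ↦ e i` (`i ∉ J`);
* `IsMon e g`    : `g` is monomial (maps every `e i` to some `± e j`).
-/

namespace Cfsg.Agent.Lib.Helper32_OFDefs

open Module Cfsg.Agent.Lib.Helper94_Symp Cfsg.Agent.Lib.Helper94_OrthSmall

variable {F V : Type*} [Field F] [AddCommGroup V] [Module F V]

/-- `e` is an orthogonal frame (basis) of norm `c` for the quadratic map `Q` with polar form `B`,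
in characteristic different from two. -/
structure OFr (Q : V → F) (B : LinearMap.BilinForm F V) {ι : Type*} [Fintype ι] (c : F)
    (e : ι → V) : Prop where
  hQs : ∀ (a : F) (v : V), Q (a • v) = a * a * Q v
  hQp : ∀ u v : V, Q (u + v) = Q u + Q v + B u v
  h2 : (2 : F) ≠ 0
  c0 : c ≠ 0
  Qe : ∀ i, Q (e i) = c
  orth : ∀ i j, i ≠ j → B (e i) (e j) = 0
  exp : ∀ v : V, v = ∑ i, ((2 * c)⁻¹ * B v (e i)) • e i

/-- the `i`-th coordinate of `v` with respect to the frame `e` -/
def co (B : LinearMap.BilinForm F V) {ι : Type*} (c : F) (e : ι → V) (v : V) (i : ι) : F :=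
  (2 * c)⁻¹ * B v (e i)

/-- `g` is monomial with respect to the frame `e` -/
def IsMon {ι : Type*} (e : ι → V) (g : V ≃ₗ[F] V) : Prop :=
  ∀ i, ∃ j, g (e i) = e j ∨ g (e i) = -e j

/-- the linear map `v ↦ v - ∑ j ∈ J, (c⁻¹ * B v (e j)) • e j` -/
def zLin (B : LinearMap.BilinForm F V) {ι : Type*} (c : F) (e : ι → V) (J : Finset ι) :
    V →ₗ[F] V :=
  LinearMap.id - ∑ j ∈ J, (c⁻¹ • B.flip (e j)).smulRight (e j)

lemma zLin_apply (B : LinearMap.BilinForm F V) {ι : Type*} (c : F) (e : ι → V) (J : Finset ι)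
    (v : V) : zLin B c e J v = v - ∑ j ∈ J, (c⁻¹ * B v (e j)) • e j := by
  simp [zLin, LinearMap.sum_apply]

open Classical in
/-- the sign change at the set `J` of indices (the identity if `zLin` is not an involution) -/
noncomputable def zJ (B : LinearMap.BilinForm F V) {ι : Type*} (c : F) (e : ι → V)
    (J : Finset ι) : V ≃ₗ[F] V :=
  if h : (zLin B c e J).comp (zLin B c e J) = LinearMap.id then
    LinearEquiv.ofLinearMap (zLin B c e J) (zLin B c e J) h h
  else 1

section API

variable {Q : V → F} {B : LinearMap.BilinForm F V} {ι : Type*} [Fintype ι] [DecidableEq ι]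
  {c : F} {e : ι → V}

lemma OFr.symm (h : OFr Q B c e) (u v : V) : B u v = B v u := B_symm Q B h.hQp u v

lemma OFr.Bee (h : OFr Q B c e) (i : ι) : B (e i) (e i) = 2 * c := by
  rw [B_self Q B h.hQs h.hQp, h.Qe]

lemma OFr.Bee' (h : OFr Q B c e) (i j : ι) : B (e i) (e j) = if i = j then 2 * c else 0 := by
  split_ifs with hij
  · rw [hij, h.Bee]
  · exact h.orth i j hij

lemma OFr.two_c (h : OFr Q B c e) : (2 * c : F) ≠ 0 := mul_ne_zero h.h2 h.c0

lemma OFr.exp' (h : OFr Q B c e) (v : V) : v = ∑ i, co B c e v i • e i := h.exp v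

lemma OFr.co_e (h : OFr Q B c e) (i j : ι) : co B c e (e i) j = if i = j then 1 else 0 := by
  unfold co
  rw [h.Bee']
  split_ifs
  · exact inv_mul_cancel₀ h.two_c
  · rw [mul_zero]

/-- coordinates of a linear combination -/
lemma OFr.B_sum (h : OFr Q B c e) (a : ι → F) (i : ι) :
    B (∑ j, a j • e j) (e i) = 2 * c * a i := by
  simp only [map_sum, map_smul, LinearMap.sum_apply, LinearMap.smul_apply, smul_eq_mul, h.Bee']
  rw [Finset.sum_eq_single i]
  · simp; ring
  · intro j _ hji
    simp [hji]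
  · intro hi
    exact absurd (Finset.mem_univ i) hi

lemma OFr.co_sum (h : OFr Q B c e) (a : ι → F) (i : ι) : co B c e (∑ j, a j • e j) i = a i := by
  unfold co
  rw [h.B_sum, ← mul_assoc, inv_mul_cancel₀ h.two_c, one_mul]

/-- a vector is determined by its coordinates -/
lemma OFr.ext (h : OFr Q B c e) {u v : V} (huv : ∀ i, B u (e i) = B v (e i)) : u = v := by
  rw [h.exp u, h.exp v]
  exact Finset.sum_congr rfl fun i _ => by rw [huv i]

/-- the form in coordinates -/
lemma OFr.B_eq (h : OFr Q B c e) (u v : V) :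
    B u v = 2 * c * ∑ i, co B c e u i * co B c e v i := by
  conv_lhs => rw [h.exp' v]
  simp only [map_sum, map_smul, smul_eq_mul]
  rw [Finset.mul_sum]
  refine Finset.sum_congr rfl fun i _ => ?_
  unfold co
  have := h.two_c
  field_simp

lemma OFr.Q_eq (h : OFr Q B c e) (v : V) : Q v = c * ∑ i, co B c e v i * co B c e v i := by
  have h1 := B_self Q B h.hQs h.hQp v
  rw [h.B_eq] at h1
  have h2 := h.h2
  have : (2 : F) * (c * ∑ i, co B c e v i * co B c e v i) = 2 * Q v := by
    rw [← h1]; ring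
  exact (mul_left_cancel₀ h2 this).symm

lemma OFr.nondeg (h : OFr Q B c e) : B.Nondegenerate := by
  have hl : ∀ v : V, (∀ w, B v w = 0) → v = 0 := by
    intro v hv
    rw [h.exp v]
    exact Finset.sum_eq_zero fun i _ => by rw [hv, mul_zero, zero_smul]
  refine ⟨hl, ?_⟩
  intro v hv
  exact hl v fun w => by rw [h.symm]; exact hv w

/-- two linear maps agreeing on the frame are equal -/
lemma OFr.map_ext (h : OFr Q B c e) {W : Type*} [AddCommGroup W] [Module F W]
    {f g : V →ₗ[F] W} (hfg : ∀ i, f (e i) = g (e i)) : f = g := by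
  ext v
  rw [h.exp v]
  simp only [map_sum, map_smul, hfg]

lemma OFr.equiv_ext (h : OFr Q B c e) {f g : V ≃ₗ[F] V} (hfg : ∀ i, f (e i) = g (e i)) :
    f = g := by
  apply LinearEquiv.toLinearMap_injective
  exact h.map_ext hfg

lemma OFr.e_ne_zero (h : OFr Q B c e) (i : ι) : e i ≠ 0 := by
  intro h0
  have := h.Bee i
  rw [h0] at this
  simp at this
  rcases this with h1 | h1
  · exact h.h2 h1
  · exact h.c0 h1

lemma OFr.e_inj (h : OFr Q B c e) : Function.Injective e := by
  intro i j hij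
  by_contra hne
  have := h.orth i j hne
  rw [hij, h.Bee] at this
  exact h.two_c this

lemma OFr.e_ne_neg (h : OFr Q B c e) (i j : ι) : e i ≠ -e j := by
  intro hij
  by_cases hne : i = j
  · subst hne
    have h1 : (2 : F) • e i = 0 := by
      rw [two_smul]
      nth_rewrite 1 [hij]
      exact neg_add_cancel _
    rcases smul_eq_zero.mp h1 with h2 | h2
    · exact h.h2 h2
    · exact h.e_ne_zero i h2
  · have := h.orth i j hne
    rw [hij, map_neg, LinearMap.neg_apply, h.Bee, neg_eq_zero] at this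
    exact h.two_c this

/-! ### the sign changes -/

lemma OFr.zLin_e (h : OFr Q B c e) (J : Finset ι) (i : ι) :
    zLin B c e J (e i) = if i ∈ J then -e i else e i := by
  rw [zLin_apply]
  simp only [h.Bee']
  split_ifs with hi
  · rw [Finset.sum_eq_single i]
    · rw [if_pos rfl]
      have h1 : c⁻¹ * (2 * c) = 2 := by
        rw [mul_comm, mul_assoc, mul_inv_cancel₀ h.c0, mul_one]
      rw [h1, two_smul]
      abel
    · intro j _ hji
      rw [if_neg (Ne.symm hji), mul_zero, zero_smul]
    · intro hi'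
      exact absurd hi hi'
  · rw [Finset.sum_eq_zero, sub_zero]
    intro j hj
    have : i ≠ j := fun hij => hi (hij ▸ hj)
    rw [if_neg this, mul_zero, zero_smul]

lemma OFr.zLin_invol (h : OFr Q B c e) (J : Finset ι) :
    (zLin B c e J).comp (zLin B c e J) = LinearMap.id := by
  apply h.map_ext
  intro i
  rw [LinearMap.comp_apply, h.zLin_e, LinearMap.id_apply]
  split_ifs with hi
  · rw [map_neg, h.zLin_e, if_pos hi, neg_neg]
  · rw [h.zLin_e, if_neg hi]

lemma OFr.zJ_apply (h : OFr Q B c e) (J : Finset ι) (v : V) :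
    zJ B c e J v = v - ∑ j ∈ J, (c⁻¹ * B v (e j)) • e j := by
  unfold zJ
  rw [dif_pos (h.zLin_invol J)]
  exact zLin_apply B c e J v

lemma OFr.zJ_e (h : OFr Q B c e) (J : Finset ι) (i : ι) :
    zJ B c e J (e i) = if i ∈ J then -e i else e i := by
  unfold zJ
  rw [dif_pos (h.zLin_invol J)]
  exact h.zLin_e J i

lemma OFr.zJ_e_mem (h : OFr Q B c e) {J : Finset ι} {i : ι} (hi : i ∈ J) :
    zJ B c e J (e i) = -e i := by rw [h.zJ_e, if_pos hi]

lemma OFr.zJ_e_not_mem (h : OFr Q B c e) {J : Finset ι} {i : ι} (hi : i ∉ J) :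
    zJ B c e J (e i) = e i := by rw [h.zJ_e, if_neg hi]

lemma OFr.zJ_mul_self (h : OFr Q B c e) (J : Finset ι) : zJ B c e J * zJ B c e J = 1 := by
  apply h.equiv_ext
  intro i
  rw [LinearEquiv.mul_apply, h.zJ_e]
  split_ifs with hi
  · rw [map_neg, h.zJ_e_mem hi, neg_neg]; rfl
  · rw [h.zJ_e_not_mem hi]; rfl

lemma OFr.zJ_inv (h : OFr Q B c e) (J : Finset ι) : (zJ B c e J)⁻¹ = zJ B c e J :=
  inv_eq_of_mul_eq_one_right (h.zJ_mul_self J)

lemma OFr.zJ_empty (h : OFr Q B c e) : zJ B c e (∅ : Finset ι) = 1 := by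
  apply h.equiv_ext
  intro i
  rw [h.zJ_e_not_mem (Finset.notMem_empty i)]; rfl

/-- the coordinates of `zJ J v` -/
lemma OFr.B_zJ (h : OFr Q B c e) (J : Finset ι) (v : V) (i : ι) :
    B (zJ B c e J v) (e i) = if i ∈ J then -B v (e i) else B v (e i) := by
  rw [h.zJ_apply]
  simp only [map_sub, map_sum, map_smul, LinearMap.sub_apply, LinearMap.sum_apply,
    LinearMap.smul_apply, smul_eq_mul, h.Bee']
  split_ifs with hi
  · rw [Finset.sum_eq_single i]
    · rw [if_pos rfl]
      have := h.c0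
      field_simp
      ring
    · intro j _ hji
      rw [if_neg hji, mul_zero]
    · intro hi'
      exact absurd hi hi'
  · rw [Finset.sum_eq_zero, sub_zero]
    intro j hj
    have : j ≠ i := fun hij => hi (hij ▸ hj)
    rw [if_neg this, mul_zero]

lemma OFr.zJ_mem_oG (h : OFr Q B c e) (J : Finset ι) : zJ B c e J ∈ oG Q := by
  intro v
  rw [h.Q_eq, h.Q_eq v]
  congr 1
  refine Finset.sum_congr rfl fun i _ => ?_
  unfold co
  rw [h.B_zJ]
  split_ifs <;> ring

/-! ### monomial elements -/

lemma IsMon.one : IsMon e (1 : V ≃ₗ[F] V) := fun i => ⟨i, Or.inl rfl⟩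

lemma IsMon.mul {g g' : V ≃ₗ[F] V} (hg : IsMon e g) (hg' : IsMon e g') : IsMon e (g * g') := by
  intro i
  obtain ⟨j, hj⟩ := hg' i
  obtain ⟨k, hk⟩ := hg j
  refine ⟨k, ?_⟩
  rw [LinearEquiv.mul_apply]
  rcases hj with hj | hj <;> rcases hk with hk | hk
  · left; rw [hj, hk]
  · right; rw [hj, hk]
  · right; rw [hj, map_neg, hk]
  · left; rw [hj, map_neg, hk, neg_neg]

lemma OFr.isMon_zJ (h : OFr Q B c e) (J : Finset ι) : IsMon e (zJ B c e J) := by
  intro i
  refine ⟨i, ?_⟩
  rw [h.zJ_e]
  split_ifs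
  · exact Or.inr rfl
  · exact Or.inl rfl

/-- the inverse of a monomial element is monomial -/
lemma OFr.isMon_inv (h : OFr Q B c e) {g : V ≃ₗ[F] V} (hg : IsMon e g) : IsMon e g⁻¹ := by
  choose f hf using hg
  have hinj : Function.Injective f := by
    intro i i' hii
    by_contra hne
    rcases hf i with h1 | h1 <;> rcases hf i' with h2 | h2
    · exact hne (h.e_inj (g.injective (by rw [h1, h2, hii])))
    · have : g (e i) = g (-e i') := by rw [map_neg, h1, h2, hii, neg_neg]
      exact h.e_ne_neg i i' (g.injective this)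
    · have : g (e i) = g (-e i') := by rw [map_neg, h1, h2, hii]
      exact h.e_ne_neg i i' (g.injective this)
    · exact hne (h.e_inj (g.injective (by rw [h1, h2, hii])))
  have hsurj : Function.Surjective f := Finite.injective_iff_surjective.mp hinj
  intro j
  obtain ⟨i, rfl⟩ := hsurj j
  refine ⟨i, ?_⟩
  rcases hf i with h1 | h1
  · left
    rw [← h1, inv_apply_apply']
  · right
    have : e (f i) = g (-e i) := by rw [map_neg, h1, neg_neg]
    rw [this, inv_apply_apply']

end API

/-! ### vocabulary of case (C) -/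

section Vocab

variable {ι : Type*} [Fintype ι] [DecidableEq ι]

/-- `M` contains the double sign changes and the 3-cycles of the frame. -/
structure HasMon (B : LinearMap.BilinForm F V) (c : F) (e : ι → V)
    (M : Subgroup (V ≃ₗ[F] V)) : Prop where
  hz : ∀ k l : ι, k ≠ l → zJ B c e {k, l} ∈ M
  h3 : ∀ a b d : ι, a ≠ b → a ≠ d → b ≠ d → ∃ τ ∈ M, τ (e a) = e b ∧ τ (e b) = e d ∧
    τ (e d) = e a ∧ ∀ i, i ≠ a → i ≠ b → i ≠ d → τ (e i) = e i

/-- the standing hypotheses of case (C): `M` is a group of isometries containing the double sign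
changes and the 3-cycles, and the stabiliser in `M` of every frame line is monomial. -/
structure CCtx (Q : V → F) (B : LinearMap.BilinForm F V) (c : F) (e : ι → V)
    (M : Subgroup (V ≃ₗ[F] V)) : Prop where
  fr : OFr Q B c e
  hMO : M ≤ oG Q
  mon : HasMon B c e M
  hC : ∀ g ∈ M, ∀ k, (g (e k) = e k ∨ g (e k) = -e k) → IsMon e g

/-- (C0) an element of `M` mapping a frame vector to a frame vector up to sign is monomial -/
def PropC0 (e : ι → V) (M : Subgroup (V ≃ₗ[F] V)) : Prop :=
  ∀ g ∈ M, ∀ i j, (g (e i) = e j ∨ g (e i) = -e j) → IsMon e g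

/-- (V) Lemma V -/
def PropV (B : LinearMap.BilinForm F V) (c : F) (e : ι → V) (M : Subgroup (V ≃ₗ[F] V)) : Prop :=
  ∀ (S : Finset ι) (y : V), 5 ≤ Sᶜ.card → B y y = 2 * c → (∃ k, k ∉ S ∧ B y (e k) ≠ 0) →
    (∀ h ∈ M, (∀ i ∈ S, h (e i) = e i) → (h y = y ∨ h y = -y ∨ B (h y) y = 0)) →
    ∃ k, y = e k ∨ y = -e k

open Classical in
/-- (MOVED) a monomial involution whose commutator space has dimension `d` moves at most `2 d`
frame vectors -/
def PropMoved (F : Type*) [Field F] {V : Type*} [AddCommGroup V] [Module F V] {ι : Type*}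
    [Fintype ι] [DecidableEq ι] (e : ι → V) : Prop :=
  ∀ (t : V ≃ₗ[F] V), IsMon e t → t * t = 1 → ∀ W : Submodule F V, (∀ x, x - t x ∈ W) →
    (Finset.univ.filter (fun i => t (e i) ≠ e i)).card ≤ 2 * finrank F W

/-- (VJ) if the conjugate by `g ∈ M` of a sign change of rank at most four is monomial then so is
`g` -/
def PropVJ (B : LinearMap.BilinForm F V) (c : F) (e : ι → V) (M : Subgroup (V ≃ₗ[F] V)) : Prop :=
  ∀ g ∈ M, ∀ J : Finset ι, J.Nonempty → J.card ≤ 4 → IsMon e (g * zJ B c e J * g⁻¹) → IsMon e g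

/-- (B) two columns of a non-monomial element of `M` have no common zero coordinate -/
def PropB (B : LinearMap.BilinForm F V) (e : ι → V) (M : Subgroup (V ≃ₗ[F] V)) : Prop :=
  ∀ g ∈ M, ∀ a b l : ι, a ≠ b → B (g (e a)) (e l) = 0 → B (g (e b)) (e l) = 0 → IsMon e g

end Vocab

end Cfsg.Agent.Lib.Helper32_OFDefs
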