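import Mathlib
import Cfsg.Agent.Lib.Helper32_OFDefs

/-!
# OF market (S5679 + S5696, architect helper32), package OF-MONSTAB (formalised by helper12)

In the isometry group the stabiliser of the decomposition into the frame lines is the monomial group.
-/

set_option autoImplicit false

namespace Cfsg.Agent.Lib.Helper12_OF_MONSTAB

open Module Cfsg.Agent.Lib.Helper94_Symp Cfsg.Agent.Lib.Helper94_OrthSmall
  Cfsg.Agent.Lib.Helper94_OrthSiegel Cfsg.Agent.Lib.Helper94_OrthSiegel2
  Cfsg.Agent.Lib.Helper94_OrthNondeg Cfsg.Agent.Lib.Helper29_ODDefs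
  Cfsg.Agent.Lib.Helper32_OFDefs

variable {F V : Type*} [Field F] [AddCommGroup V] [Module F V]
variable {Q : V → F} {B : LinearMap.BilinForm F V}

theorem span_singleton_neg' (x : V) :
    Submodule.span F ({-x} : Set V) = Submodule.span F {x} := by
  apply le_antisymm
  · rw [Submodule.span_singleton_le_iff_mem]
    exact (Submodule.span F {x}).neg_mem (Submodule.mem_span_singleton_self x)
  · rw [Submodule.span_singleton_le_iff_mem]
    have h := (Submodule.span F ({-x} : Set V)).neg_mem (Submodule.mem_span_singleton_self (-x))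
    rwa [neg_neg] at h

theorem map_span_singleton (g : V ≃ₗ[F] V) (x : V) :
    (Submodule.span F ({x} : Set V)).map (g : V →ₗ[F] V) = Submodule.span F {g x} := by
  rw [Submodule.map_span, Set.image_singleton]
  rfl

/-- OF-MONSTAB (M). -/
theorem MONSTAB {t : ℕ} {c : F} {e : Fin t → V} (hfr : OFr Q B c e) {D : Fin t → Submodule F V}
    (hDe : ∀ i, D i = Submodule.span F {e i}) {S : Subgroup (V ≃ₗ[F] V)} (hS : IsDStab D S)
    {g : V ≃ₗ[F] V} (hg : g ∈ oG Q) : g ∈ S ↔ IsMon e g := by
  rw [hS g]
  constructor
  · rintro ⟨σ, hσ⟩ i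
    refine ⟨σ i, ?_⟩
    have h1 : g (e i) ∈ (D i).map (g : V →ₗ[F] V) := by
      rw [hDe i, map_span_singleton]
      exact Submodule.mem_span_singleton_self _
    rw [hσ i, hDe (σ i), Submodule.mem_span_singleton] at h1
    obtain ⟨a, ha⟩ := h1
    have h2 : Q (g (e i)) = Q (e i) := hg (e i)
    rw [← ha, hfr.hQs, hfr.Qe, hfr.Qe] at h2
    have h3 : (a - 1) * (a + 1) = 0 := by
      have : (a * a - 1) * c = 0 := by rw [sub_mul, h2, one_mul, sub_self]
      rcases mul_eq_zero.mp this with h | h
      · rw [← h]; ring
      · exact absurd h hfr.c0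
    rcases mul_eq_zero.mp h3 with h | h
    · left
      have : a = 1 := by rw [sub_eq_zero] at h; exact h
      rw [← ha, this, one_smul]
    · right
      have : a = -1 := by rw [add_eq_zero_iff_eq_neg] at h; exact h
      rw [← ha, this, neg_one_smul]
  · intro hmon
    choose f hf using hmon
    have hinj : Function.Injective f := by
      intro i i' hii
      by_contra hne
      rcases hf i with h1 | h1 <;> rcases hf i' with h2 | h2
      · exact hne (hfr.e_inj (g.injective (by rw [h1, h2, hii])))
      · have : g (e i) = g (-e i') := by rw [map_neg, h1, h2, hii, neg_neg]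
        exact hfr.e_ne_neg i i' (g.injective this)
      · have : g (e i) = g (-e i') := by rw [map_neg, h1, h2, hii]
        exact hfr.e_ne_neg i i' (g.injective this)
      · exact hne (hfr.e_inj (g.injective (by rw [h1, h2, hii])))
    have hbij : Function.Bijective f := ⟨hinj, Finite.injective_iff_surjective.mp hinj⟩
    refine ⟨Equiv.ofBijective f hbij, fun i => ?_⟩
    rw [hDe i, map_span_singleton, Equiv.ofBijective_apply, hDe (f i)]
    rcases hf i with h1 | h1
    · rw [h1]
    · rw [h1, span_singleton_neg']

end Cfsg.Agent.Lib.Helper12_OF_MONSTAB
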