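import Mathlib
import Cfsg.Agent.Lib.Helper95_OPDefs
import Cfsg.Agent.Lib.Helper95_OPBasic
import Cfsg.Agent.Lib.Helper48_OODefs
import Cfsg.Agent.Lib.Helper87_OO2Defs

/-!
# S2344 wave 2, package OO2-HEIS (cutter helper87; formalised by helper12)

Siegel elements attached to a totally singular plane `⟨a, b⟩`: `E_swap`, `E_add_left`.
-/

set_option autoImplicit false
set_option linter.unusedSimpArgs false

namespace Cfsg.Agent.Lib.Helper12_OO2_HEIS

open Module Cfsg.Agent.Lib.Helper94_OrthSmall Cfsg.Agent.Lib.Helper44_QuadClass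
  Cfsg.Agent.Lib.Helper14_OmegaSimple Cfsg.Agent.Lib.Helper38_MIODefs
  Cfsg.Agent.Lib.Helper95_OPDefs Cfsg.Agent.Lib.Helper95_OPBasic Cfsg.Agent.Lib.Helper48_OODefs
  Cfsg.Agent.Lib.Helper87_OO2Defs

variable {F V : Type*} [Field F] [AddCommGroup V] [Module F V] {Q : QuadraticForm F V}

theorem E_swap {a b : V} (ha : Q a = 0) (hb : Q b = 0) (hab : QuadraticMap.polar (⇑Q) a b = 0) :
    E Q a b = E Q b (-a) := by
  have hba : QuadraticMap.polar (⇑Q) b a = 0 := by rw [QuadraticMap.polar_comm, hab]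
  have hbna : QuadraticMap.polar (⇑Q) b (-a) = 0 := by rw [QuadraticMap.polar_neg_right, hba, neg_zero]
  ext x
  rw [E_apply Q ha hab, E_apply Q hb hbna, hb, QuadraticMap.map_neg, ha,
    QuadraticMap.polar_neg_right]
  module

theorem E_add_left {a b w : V} (ha : Q a = 0) (hb : Q b = 0)
    (hab : QuadraticMap.polar (⇑Q) a b = 0) (haw : QuadraticMap.polar (⇑Q) a w = 0)
    (hbw : QuadraticMap.polar (⇑Q) b w = 0) (s : F) :
    E Q (b + s • a) w = E Q b w * E Q a (s • w) * E Q a ((s * Q w) • b) := by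
  have hba : QuadraticMap.polar (⇑Q) b a = 0 := by rw [QuadraticMap.polar_comm, hab]
  have hwa : QuadraticMap.polar (⇑Q) w a = 0 := by rw [QuadraticMap.polar_comm, haw]
  have hwb : QuadraticMap.polar (⇑Q) w b = 0 := by rw [QuadraticMap.polar_comm, hbw]
  have haa : QuadraticMap.polar (⇑Q) a a = 0 := by rw [QuadraticMap.polar_self, ha]; simp
  have hbb : QuadraticMap.polar (⇑Q) b b = 0 := by rw [QuadraticMap.polar_self, hb]; simp
  have hww : QuadraticMap.polar (⇑Q) w w = 2 * Q w := by rw [QuadraticMap.polar_self]; simp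
  -- hypotheses of the four `E_apply`
  have hu : Q (b + s • a) = 0 := by
    rw [QuadraticMap.map_add Q, QuadraticMap.map_smul, QuadraticMap.polar_smul_right, ha, hb, hba]
    simp
  have huw : QuadraticMap.polar (⇑Q) (b + s • a) w = 0 := by
    rw [QuadraticMap.polar_add_left, QuadraticMap.polar_smul_left, hbw, haw]
    simp
  have h1 : QuadraticMap.polar (⇑Q) a (s • w) = 0 := by
    rw [QuadraticMap.polar_smul_right, haw]; simp
  have h2 : QuadraticMap.polar (⇑Q) a ((s * Q w) • b) = 0 := by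
    rw [QuadraticMap.polar_smul_right, hab]; simp
  ext x
  rw [LinearEquiv.mul_apply, LinearEquiv.mul_apply, E_apply Q hu huw, E_apply Q hb hbw,
    E_apply Q ha h1, E_apply Q ha h2]
  simp only [QuadraticMap.map_smul, QuadraticMap.polar_add_left, QuadraticMap.polar_add_right,
    QuadraticMap.polar_sub_left, QuadraticMap.polar_smul_left, QuadraticMap.polar_smul_right, ha,
    hb, hab, haw, hbw, hba, hwa, hwb, haa, hbb, hww, smul_eq_mul, mul_zero, add_zero, sub_zero,
    zero_mul, zero_smul]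
  module

end Cfsg.Agent.Lib.Helper12_OO2_HEIS
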