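import Mathlib
import Cfsg.Agent.Lib.Helper38_MIODefs

set_option autoImplicit false

/-!
MIO-TR (helper38's market for S2143 / S2145 / S2147): the group generated by the Siegel elements is
transitive on the non-zero vectors of each norm (dimension at least five, every characteristic, every finite
field), in the form "a function invariant under all Siegel elements is constant on the non-zero vectors of
each norm".
-/

namespace Cfsg.Agent.Lib.Helper17_MIO_TR

open Module Cfsg.Agent.Lib.Helper94_OrthSmall Cfsg.Agent.Lib.Helper44_QuadClass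
  Cfsg.Agent.Lib.Helper14_OmegaSimple Cfsg.Agent.Lib.Helper38_MIODefs
  Cfsg.Agent.Lib.Helper14_Siegel

variable {F W : Type*} [Field F] [Fintype F] [AddCommGroup W] [Module F W] [FiniteDimensional F W]

/-- the direct step: if `x` is not a multiple of `δ = y - x` and `Q x = Q y`, one Siegel element maps
`x` to `y`. -/
theorem step (Q : QuadraticForm F W) (hQ : (QuadraticMap.polarBilin Q).Nondegenerate)
    (hdim : 5 ≤ finrank F W) {x y : W} (hxy : Q x = Q y)
    (hind : x ∉ Submodule.span F {y - x}) :
    ∃ u z : W, Q u = 0 ∧ QuadraticMap.polar (⇑Q) u z = 0 ∧ E Q u z x = y := by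
  obtain ⟨δ, hδ⟩ : ∃ δ, δ = y - x := ⟨_, rfl⟩
  rw [← hδ] at hind
  have hy : y = x + δ := by rw [hδ]; abel
  -- `Q δ = - polar x δ`
  have hQδ : Q δ = - QuadraticMap.polar (⇑Q) x δ := by
    have h1 : Q y = Q x + Q δ + QuadraticMap.polar (⇑Q) x δ := by
      rw [hy]
      have := hQp Q x δ
      rw [QuadraticMap.polarBilin_apply_apply] at this
      exact this
    rw [← hxy] at h1
    linear_combination -h1
  by_cases hδz : δ = 0
  · refine ⟨0, 0, map_zero Q, by simp [QuadraticMap.polar], ?_⟩
    rw [E_zero_left, hy, hδz, add_zero]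
    rfl
  have key : ∃ s : W, Q s = 0 ∧ QuadraticMap.polar (⇑Q) s δ = 0 ∧
      QuadraticMap.polar (⇑Q) s x = 1 := by
    by_cases hδ0 : Q δ = 0
    · have hδx : QuadraticMap.polar (⇑Q) δ x = 0 := by
        rw [QuadraticMap.polar_comm]
        rw [hδ0] at hQδ
        linear_combination hQδ
      obtain ⟨s, hs, hδs, hsx⟩ := exists_singular_orth_polar Q hQ hdim hδz hδ0 hδx hind 1
      exact ⟨s, hs, by rw [QuadraticMap.polar_comm]; exact hδs, hsx⟩
    · obtain ⟨s, hs, hsδ, hsx⟩ := exists_singular_orth_polar_ns Q hQ hdim hδ0 hind 1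
      exact ⟨s, hs, hsδ, hsx⟩
  obtain ⟨s, hs, hsδ, hsx⟩ := key
  refine ⟨s, δ, hs, hsδ, ?_⟩
  have hxs : QuadraticMap.polar (⇑Q) x s = 1 := by rw [QuadraticMap.polar_comm]; exact hsx
  rw [E_apply Q hs hsδ, hxs, hQδ, hy]
  module

/-- one Siegel element maps `x` to any `y` of the same norm which is not a multiple of `x` -/
theorem indep_step (Q : QuadraticForm F W) (hQ : (QuadraticMap.polarBilin Q).Nondegenerate)
    (hdim : 5 ≤ finrank F W) {x y : W} (hx : x ≠ 0) (hxy : Q x = Q y)
    (hind : y ∉ Submodule.span F {x}) :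
    ∃ u z : W, Q u = 0 ∧ QuadraticMap.polar (⇑Q) u z = 0 ∧ E Q u z x = y := by
  apply step Q hQ hdim hxy
  intro h
  obtain ⟨k, hk⟩ := Submodule.mem_span_singleton.mp h
  -- `k • (y - x) = x`
  have hk0 : k ≠ 0 := by
    rintro rfl
    rw [zero_smul] at hk
    exact hx hk.symm
  apply hind
  rw [Submodule.mem_span_singleton]
  refine ⟨k⁻¹ * (1 + k), ?_⟩
  have h1 : k • y = (1 + k) • x := by
    rw [smul_sub] at hk
    linear_combination (norm := module) hk
  rw [← smul_smul, ← h1, smul_smul, inv_mul_cancel₀ hk0, one_smul]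

/-- there is a vector of the same norm as `x ≠ 0` which is not a multiple of `x` -/
theorem exists_indep (Q : QuadraticForm F W) (hQ : (QuadraticMap.polarBilin Q).Nondegenerate)
    (hdim : 5 ≤ finrank F W) {x : W} (hx : x ≠ 0) :
    ∃ x' : W, Q x' = Q x ∧ x' ∉ Submodule.span F {x} := by
  by_cases hQx : Q x = 0
  · obtain ⟨b, hb, hxb⟩ := exists_hyperbolic_partner Q hQ hx hQx
    refine ⟨b, by rw [hb, hQx], ?_⟩
    intro h
    obtain ⟨k, rfl⟩ := Submodule.mem_span_singleton.mp h
    rw [QuadraticMap.polar_smul_right, polar_self', hQx] at hxb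
    simp at hxb
  · -- some `d ∉ F x`
    obtain ⟨d, hd⟩ : ∃ d : W, d ∉ Submodule.span F {x} := by
      by_contra hcon
      push Not at hcon
      have htop : Submodule.span F {x} = ⊤ := by
        rw [eq_top_iff]
        intro d _
        exact hcon d
      have h1 : finrank F (Submodule.span F {x}) ≤ 1 := by
        have := finrank_span_le_card (R := F) ({x} : Set W)
        simpa using this
      rw [htop, finrank_top] at h1
      omega
    obtain ⟨s, hs, hsx, hsd⟩ := exists_singular_orth_polar_ns Q hQ hdim hQx hd 1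
    refine ⟨x + s, ?_, ?_⟩
    · have := hQp Q x s
      rw [QuadraticMap.polarBilin_apply_apply, QuadraticMap.polar_comm, hsx, hs] at this
      rw [this]; ring
    · intro h
      have hs' : s ∈ Submodule.span F {x} := by
        have := Submodule.sub_mem _ h (Submodule.mem_span_singleton_self x)
        rwa [add_sub_cancel_left] at this
      obtain ⟨k, rfl⟩ := Submodule.mem_span_singleton.mp hs'
      rw [QuadraticMap.map_smul, smul_eq_mul] at hs
      rcases mul_eq_zero.mp hs with h0 | h0
      · have hk : k = 0 := by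
          rcases mul_eq_zero.mp h0 with h | h <;> exact h
        rw [hk, zero_smul] at hsd
        simp [QuadraticMap.polar] at hsd
      · exact hQx h0

theorem tr_const (Q : QuadraticForm F W) (hQ : (QuadraticMap.polarBilin Q).Nondegenerate)
    (hdim : 5 ≤ finrank F W) {α : Type*} (f : W → α)
    (hf : ∀ u z : W, Q u = 0 → QuadraticMap.polar (⇑Q) u z = 0 → ∀ x, f (E Q u z x) = f x)
    {x y : W} (hx : x ≠ 0) (hy : y ≠ 0) (hxy : Q x = Q y) : f x = f y := by
  have main : ∀ {a b : W}, a ≠ 0 → Q a = Q b → b ∉ Submodule.span F {a} → f a = f b := by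
    intro a b ha hab hind
    obtain ⟨u, z, hu, huz, h⟩ := indep_step Q hQ hdim ha hab hind
    rw [← h, hf u z hu huz]
  by_cases hind : y ∈ Submodule.span F {x}
  · obtain ⟨x', hx'Q, hx'⟩ := exists_indep Q hQ hdim hx
    have hx'0 : x' ≠ 0 := by
      rintro rfl
      exact hx' (Submodule.zero_mem _)
    have h1 : f x = f x' := main hx hx'Q.symm hx'
    have h2 : f x' = f y := by
      apply main hx'0 (by rw [hx'Q, hxy])
      intro h
      obtain ⟨c, hc⟩ := Submodule.mem_span_singleton.mp hind
      obtain ⟨k, hk⟩ := Submodule.mem_span_singleton.mp h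
      have hk0 : k ≠ 0 := by
        rintro rfl
        rw [zero_smul] at hk
        exact hy hk.symm
      apply hx'
      rw [Submodule.mem_span_singleton]
      refine ⟨k⁻¹ * c, ?_⟩
      rw [← smul_smul, hc, ← hk, smul_smul, inv_mul_cancel₀ hk0, one_smul]
    rw [h1, h2]
  · exact main hx hxy hind

end Cfsg.Agent.Lib.Helper17_MIO_TR
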