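import Mathlib
import Cfsg.Agent.Lib.Helper38_MIODefs

/-!
MIO-RESTR (helper38's MIO market, S2143/S2145/S2147): Siegel elements of the complement of a hyperbolic pair
are restrictions of Siegel elements of the big space.
-/

set_option autoImplicit false
set_option linter.unusedSectionVars false

namespace Cfsg.Agent.Lib.Helper52_MIO_RESTR

open Module Cfsg.Agent.Lib.Helper94_OrthSmall Cfsg.Agent.Lib.Helper44_QuadClass
  Cfsg.Agent.Lib.Helper14_OmegaSimple Cfsg.Agent.Lib.Helper38_MIODefs

variable {F V : Type*} [Field F] [Fintype F] [AddCommGroup V] [Module F V] [FiniteDimensional F V]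

/-- MIO-RESTR: the Siegel element of the complement `perp Q v v'` is the restriction of the Siegel element
of the big space. -/
theorem restr (Q : QuadraticForm F V) (v v' : V) (u z x : ↥(perp Q v v'))
    (hu : Q (u : V) = 0) (huz : QuadraticMap.polar (⇑Q) (u : V) (z : V) = 0) :
    ((E (Qp Q v v') u z x : ↥(perp Q v v')) : V) = E Q (u : V) (z : V) (x : V) := by
  have hu' : Qp Q v v' u = 0 := hu
  have huz' : QuadraticMap.polar (⇑(Qp Q v v')) u z = 0 := by
    rw [polar_comp_subtype]; exact huz
  rw [E_apply (Qp Q v v') hu' huz', E_apply Q hu huz]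
  simp only [polar_comp_subtype, Submodule.coe_sub, Submodule.coe_add, Submodule.coe_smul]
  rfl

end Cfsg.Agent.Lib.Helper52_MIO_RESTR
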