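import Mathlib
import Cfsg.Agent.Lib.Helper95_OPDefs
import Cfsg.Agent.Lib.Helper95_OPBasic
import Cfsg.Agent.Lib.Helper48_OODefs

set_option autoImplicit false

/-!
Definitions for the KILL SECTION of S2344 (helper64; row owner helper48): the phantom `D = B_n - 1` of the
minimal degree problem for `Ω_{2n+1}(q)`, `q` odd, `n ≥ 4` (finding 205, pending/helper64/S2344_kill.md).

* PART 1 (Mathlib only): operators on a complex vector space satisfying the relations of `SL_2(F)`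
  (`SL2Rel`), the Fourier projections `avgP`, the space `Esp` of `X`-fixed `χ₂`-eigenvectors of the torus,
  the joint weight spaces `wt2` inside an invariant subspace `Y`, and the hypothesis `HasGen` of Lemma X.
* PART 2: the elements `nn`, `dd` of the long-root `SL_2` attached to a hyperbolic quadruple `v, v', a, a'`,
  the space `KFix` of vectors fixed by `K = Ω(⟨v,v',a,a'⟩^⊥)` (given by its generators), and the operators
  `opX`, `opS`, `opD` fed to Lemma X.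
-/

namespace Cfsg.Agent.Lib.Helper64_OOKDefs

open Module Cfsg.Agent.Lib.Helper94_OrthSmall Cfsg.Agent.Lib.Helper44_QuadClass
  Cfsg.Agent.Lib.Helper14_OmegaSimple Cfsg.Agent.Lib.Helper38_MIODefs
  Cfsg.Agent.Lib.Helper95_OPDefs Cfsg.Agent.Lib.Helper95_OPBasic Cfsg.Agent.Lib.Helper48_OODefs

/-! ## PART 1: operator vocabulary (Mathlib only) -/

section abstract

variable {F : Type*} [Field F] [Fintype F] {X : Type*} [AddCommGroup X] [Module ℂ X]

/-- the quadratic character of `F` with values in `ℂ` -/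
noncomputable def chi2 [DecidableEq F] (t : F) : ℂ := ((quadraticChar F t : ℤ) : ℂ)

/-- The relations of `SL_2(F)` for operators: `Xo u` = upper unipotent, `S` = Weyl element, `D t` = torus. -/
structure SL2Rel (Xo : F → Module.End ℂ X) (S : Module.End ℂ X) (D : F → Module.End ℂ X) : Prop where
  x_zero : Xo 0 = 1
  x_add : ∀ u u' : F, Xo (u + u') = Xo u * Xo u'
  d_one : D 1 = 1
  d_mul : ∀ t t' : F, t ≠ 0 → t' ≠ 0 → D (t * t') = D t * D t'
  d_x : ∀ t u : F, t ≠ 0 → D t * Xo u = Xo (t ^ 2 * u) * D t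
  d_s : ∀ t : F, t ≠ 0 → D t * S * D t = S
  s_sq : S * S = D (-1)
  bruhat : ∀ u : F, u ≠ 0 → Xo u * S = S * Xo (-u⁻¹) * D (-u⁻¹) * S * Xo (-u⁻¹)

/-- The Fourier projection onto the `α`-weight space of the additive family `Xo`:
`q⁻¹ ∑_u ψ(-α u) Xo u`. -/
noncomputable def avgP (ψ : AddChar F ℂ) (Xo : F → Module.End ℂ X) (α : F) : Module.End ℂ X :=
  ((Fintype.card F : ℂ))⁻¹ • ∑ u : F, ψ (-(α * u)) • Xo u

/-- The projection onto the `Xo`-fixed vectors: `q⁻¹ ∑_u Xo u`. -/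
noncomputable def avg0 (Xo : F → Module.End ℂ X) : Module.End ℂ X :=
  ((Fintype.card F : ℂ))⁻¹ • ∑ u : F, Xo u

/-- The `Xo`-fixed vectors on which the torus acts by the quadratic character. -/
def Esp [DecidableEq F] (Xo : F → Module.End ℂ X) (D : F → Module.End ℂ X) : Submodule ℂ X where
  carrier := {y | (∀ u : F, Xo u y = y) ∧ ∀ t : F, t ≠ 0 → D t y = chi2 t • y}
  add_mem' := by
    rintro a b ⟨ha1, ha2⟩ ⟨hb1, hb2⟩
    refine ⟨fun u => ?_, fun t ht => ?_⟩
    · rw [map_add, ha1 u, hb1 u]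
    · rw [map_add, ha2 t ht, hb2 t ht, smul_add]
  zero_mem' := ⟨fun u => map_zero _, fun t _ => by rw [map_zero, smul_zero]⟩
  smul_mem' := by
    rintro c a ⟨ha1, ha2⟩
    refine ⟨fun u => ?_, fun t ht => ?_⟩
    · rw [map_smul, ha1 u]
    · rw [map_smul, ha2 t ht, smul_comm]

/-- The joint weight space of the two additive families `Xo`, `Z` inside the subspace `Y`:
`Xo u = ψ(α u)`, `Z u = ψ(β u)`. -/
def wt2 (ψ : AddChar F ℂ) (Xo Z : F → Module.End ℂ X) (Y : Submodule ℂ X) (α β : F) :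
    Submodule ℂ X where
  carrier := {y | y ∈ Y ∧ ∀ u : F, Xo u y = ψ (α * u) • y ∧ Z u y = ψ (β * u) • y}
  add_mem' := by
    rintro a b ⟨ha0, ha⟩ ⟨hb0, hb⟩
    refine ⟨Y.add_mem ha0 hb0, fun u => ⟨?_, ?_⟩⟩
    · rw [map_add, (ha u).1, (hb u).1, smul_add]
    · rw [map_add, (ha u).2, (hb u).2, smul_add]
  zero_mem' := ⟨Y.zero_mem, fun u => ⟨by rw [map_zero, smul_zero], by rw [map_zero, smul_zero]⟩⟩
  smul_mem' := by
    rintro c a ⟨ha0, ha⟩
    refine ⟨Y.smul_mem c ha0, fun u => ⟨?_, ?_⟩⟩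
    · rw [map_smul, (ha u).1, smul_comm]
    · rw [map_smul, (ha u).2, smul_comm]

omit [Fintype F] in
theorem mem_wt2 (ψ : AddChar F ℂ) (Xo Z : F → Module.End ℂ X) (Y : Submodule ℂ X) (α β : F) (y : X) :
    y ∈ wt2 ψ Xo Z Y α β ↔
      y ∈ Y ∧ ∀ u : F, Xo u y = ψ (α * u) • y ∧ Z u y = ψ (β * u) • y := Iff.rfl

/-- Hypothesis (H2) of Lemma X for the weight `β ≠ 0` of `Z`: a vector of `Y`, fixed by `Xo`, of `Z`-weight `β`,
on which the torus `D` acts by the quadratic character, and which is NOT an eigenvector of `J = avg0 Xo ∘ S`. -/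
def HasGen [DecidableEq F] (ψ : AddChar F ℂ) (Xo Z : F → Module.End ℂ X) (S : Module.End ℂ X)
    (D : F → Module.End ℂ X) (Y : Submodule ℂ X) (β : F) : Prop :=
  ∃ e : X, e ∈ wt2 ψ Xo Z Y 0 β ∧ (∀ t : F, t ≠ 0 → D t e = chi2 t • e) ∧
    ¬ ∃ c : ℂ, avg0 Xo (S e) = c • e


/-- Invariance of a subspace under the three operator families. -/
def YInv (Y : Submodule ℂ X) (Xo : F → Module.End ℂ X) (S : Module.End ℂ X)
    (D : F → Module.End ℂ X) : Prop :=
  (∀ u : F, ∀ y ∈ Y, Xo u y ∈ Y) ∧ (∀ y ∈ Y, S y ∈ Y) ∧ ∀ t : F, ∀ y ∈ Y, D t y ∈ Y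

/-- The two copies of `SL_2` commute. -/
structure OpsCommute (Xo : F → Module.End ℂ X) (S : Module.End ℂ X) (D : F → Module.End ℂ X)
    (Z : F → Module.End ℂ X) (S' : Module.End ℂ X) (D' : F → Module.End ℂ X) : Prop where
  xz : ∀ u u' : F, Commute (Xo u) (Z u')
  xs : ∀ u : F, Commute (Xo u) S'
  xd : ∀ u t : F, Commute (Xo u) (D' t)
  sz : ∀ u : F, Commute S (Z u)
  ss : Commute S S'
  sd : ∀ t : F, Commute S (D' t)
  dz : ∀ t u : F, Commute (D t) (Z u)
  ds : ∀ t : F, Commute (D t) S'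
  dd : ∀ t t' : F, Commute (D t) (D' t')

/-- The quadratic Gauss sum `∑_u χ₂(u) ψ(u)`. -/
noncomputable def gsum [DecidableEq F] (ψ : AddChar F ℂ) : ℂ := ∑ u : F, chi2 u * ψ u

end abstract

/-! ## PART 2: the long-root `SL_2` of a hyperbolic quadruple -/

section geom

variable {F V : Type*} [Field F] [AddCommGroup V] [Module F V] (Q : QuadraticForm F V)

/-- `n(t) = x(-t) y(t⁻¹) x(-t)`, `x(u) = E Q v (u • a')`, `y(u) = E Q a (u • v')`:
`v ↦ -t⁻¹ a`, `a ↦ t v`, `v' ↦ -t a'`, `a' ↦ t⁻¹ v'`, identity on `⟨v,v',a,a'⟩^⊥`. -/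
noncomputable def nn (v v' a a' : V) (t : F) : V ≃ₗ[F] V :=
  E Q v ((-t) • a') * E Q a (t⁻¹ • v') * E Q v ((-t) • a')

/-- `d(t) = n(t) n(1)⁻¹`: `v ↦ t v`, `a ↦ t⁻¹ a`, `v' ↦ t⁻¹ v'`, `a' ↦ t a'`. -/
noncomputable def dd (v v' a a' : V) (t : F) : V ≃ₗ[F] V :=
  nn Q v v' a a' t * (nn Q v v' a a' 1)⁻¹

variable {X : Type*} [AddCommGroup X] [Module ℂ X]

/-- The operators of the root group `x(u) = E Q v (u • a')`. -/
noncomputable def opX (ρ : Representation ℂ ↥(T Q) X) (v a' : V) (u : F) : Module.End ℂ X :=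
  repE Q ρ (E Q v (u • a'))

/-- The operator of the Weyl element `s = n(1)`. -/
noncomputable def opS (ρ : Representation ℂ ↥(T Q) X) (v v' a a' : V) : Module.End ℂ X :=
  repE Q ρ (nn Q v v' a a' 1)

/-- The operators of the torus `d(t)`. -/
noncomputable def opD (ρ : Representation ℂ ↥(T Q) X) (v v' a a' : V) (t : F) : Module.End ℂ X :=
  repE Q ρ (dd Q v v' a a' t)

/-- The vectors fixed by `K`: fixed by all Siegel elements `E(p, r)` with `p, r ∈ W = perp Q v v'` orthogonal to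
`a, a'`, `p` singular, `p ⊥ r`. -/
def KFix (ρ : Representation ℂ ↥(T Q) X) (v v' : V) (a a' : ↥(perp Q v v')) : Submodule ℂ X where
  carrier := {x | ∀ p r : ↥(perp Q v v'),
    QuadraticMap.polar (⇑(Qp Q v v')) p a = 0 → QuadraticMap.polar (⇑(Qp Q v v')) p a' = 0 →
    QuadraticMap.polar (⇑(Qp Q v v')) r a = 0 → QuadraticMap.polar (⇑(Qp Q v v')) r a' = 0 →
    Qp Q v v' p = 0 → QuadraticMap.polar (⇑(Qp Q v v')) p r = 0 →
    repE Q ρ (E Q (p : V) (r : V)) x = x}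
  add_mem' := by
    intro x y hx hy p r h1 h2 h3 h4 h5 h6
    rw [map_add, hx p r h1 h2 h3 h4 h5 h6, hy p r h1 h2 h3 h4 h5 h6]
  zero_mem' := by
    intro p r _ _ _ _ _ _
    rw [map_zero]
  smul_mem' := by
    intro c x hx p r h1 h2 h3 h4 h5 h6
    rw [map_smul, hx p r h1 h2 h3 h4 h5 h6]

theorem mem_KFix (ρ : Representation ℂ ↥(T Q) X) (v v' : V) (a a' : ↥(perp Q v v')) (x : X) :
    x ∈ KFix Q ρ v v' a a' ↔ ∀ p r : ↥(perp Q v v'),
      QuadraticMap.polar (⇑(Qp Q v v')) p a = 0 → QuadraticMap.polar (⇑(Qp Q v v')) p a' = 0 →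
      QuadraticMap.polar (⇑(Qp Q v v')) r a = 0 → QuadraticMap.polar (⇑(Qp Q v v')) r a' = 0 →
      Qp Q v v' p = 0 → QuadraticMap.polar (⇑(Qp Q v v')) p r = 0 →
      repE Q ρ (E Q (p : V) (r : V)) x = x := Iff.rfl

/-- `KFix` is symmetric in `a, a'`. -/
theorem KFix_swap (ρ : Representation ℂ ↥(T Q) X) (v v' : V) (a a' : ↥(perp Q v v')) :
    KFix Q ρ v v' a' a = KFix Q ρ v v' a a' := by
  ext x
  rw [mem_KFix, mem_KFix]
  constructor
  · intro h p r h1 h2 h3 h4 h5 h6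
    exact h p r h2 h1 h4 h3 h5 h6
  · intro h p r h1 h2 h3 h4 h5 h6
    exact h p r h2 h1 h4 h3 h5 h6


/-- A hyperbolic quadruple: two orthogonal hyperbolic pairs `(v, v')`, `(a, a')`. -/
structure HypQuad (v v' a a' : V) : Prop where
  qv : Q v = 0
  qv' : Q v' = 0
  qa : Q a = 0
  qa' : Q a' = 0
  vv' : QuadraticMap.polar (⇑Q) v v' = 1
  aa' : QuadraticMap.polar (⇑Q) a a' = 1
  va : QuadraticMap.polar (⇑Q) v a = 0
  va' : QuadraticMap.polar (⇑Q) v a' = 0
  v'a : QuadraticMap.polar (⇑Q) v' a = 0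
  v'a' : QuadraticMap.polar (⇑Q) v' a' = 0

/-- A hyperbolic pair of `W = perp Q v v'` completes `(v, v')` to a hyperbolic quadruple. -/
theorem hypQuad_of_perp {v v' : V} (hv : Q v = 0) (hv' : Q v' = 0)
    (hvv' : QuadraticMap.polar (⇑Q) v v' = 1) (a a' : ↥(perp Q v v'))
    (ha : Qp Q v v' a = 0) (ha' : Qp Q v v' a' = 0)
    (haa' : QuadraticMap.polar (⇑(Qp Q v v')) a a' = 1) :
    HypQuad Q v v' (a : V) (a' : V) where
  qv := hv
  qv' := hv'
  qa := ha
  qa' := ha'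
  vv' := hvv'
  aa' := by rw [← polar_comp_subtype]; exact haa'
  va := ((mem_perp Q v v').1 a.2).1
  va' := ((mem_perp Q v v').1 a'.2).1
  v'a := ((mem_perp Q v v').1 a.2).2
  v'a' := ((mem_perp Q v v').1 a'.2).2

/-- The swapped quadruple. -/
theorem HypQuad.swap {v v' a a' : V} (h : HypQuad Q v v' a a') : HypQuad Q v v' a' a where
  qv := h.qv
  qv' := h.qv'
  qa := h.qa'
  qa' := h.qa
  vv' := h.vv'
  aa' := by rw [QuadraticMap.polar_comm]; exact h.aa'
  va := h.va'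
  va' := h.va
  v'a := h.v'a'
  v'a' := h.v'a

/-- The label `β a' + β y - β Q(y) a = E_W(a, y) (β a')` (`y ∈ W₂ = perp (Qp Q v v') a a'`): these are exactly the
singular vectors `w` of `W` with `B(w, a) = β`. -/
def wlab {v v' : V} (a a' : ↥(perp Q v v')) (β : F) (y : ↥(perp (Qp Q v v') a a')) : ↥(perp Q v v') :=
  β • a' + β • (y : ↥(perp Q v v')) - (β * Qp (Qp Q v v') a a' y) • a

/-- The vector `b_y = ρ(E(a, y)) e`. -/
noncomputable def bvec (ρ : Representation ℂ ↥(T Q) X) {v v' : V} (a a' : ↥(perp Q v v'))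
    (e : X) (y : ↥(perp (Qp Q v v') a a')) : X :=
  repE Q ρ (E Q (a : V) ((y : ↥(perp Q v v')) : V)) e


/-- The component of `x` in the weight space of label `w`, with respect to an internal decomposition. -/
noncomputable def comp {v v' : V} [DecidableEq ↥(perp Q v v')] (ρ : Representation ℂ ↥(T Q) X)
    (ψ : AddChar F ℂ)
    (hint : DirectSum.IsInternal (fun u : ↥(perp Q v v') => wsp Q ρ ψ v v' u))
    (x : X) (w : ↥(perp Q v v')) : X :=
  (((LinearEquiv.ofBijective (DirectSum.coeLinearMap (fun u : ↥(perp Q v v') => wsp Q ρ ψ v v' u))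
    hint).symm x w : ↥(wsp Q ρ ψ v v' w)) : X)

end geom

end Cfsg.Agent.Lib.Helper64_OOKDefs
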