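import Mathlib
import Cfsg.Agent.Lib.Helper64_OOKDefs

set_option autoImplicit false
set_option linter.unusedSectionVars false
set_option linter.unusedVariables false

/-!
# S2344 kill section (architect helper64), package OO-K-WSUPP

An eigenvector of the root group `u ↦ E(v, u r)` with character `u ↦ ψ (c u)` has weight components only
at the labels `w` with `B(w, r) = c`.  The component map `x ↦ comp x w` is linear and commutes with the
operators of the radical (proved by induction on the direct sum), which avoids any sum over the labels.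
-/

namespace Cfsg.Agent.Lib.Helper86_OO_K_WSUPP

open Module Cfsg.Agent.Lib.Helper94_OrthSmall Cfsg.Agent.Lib.Helper44_QuadClass
  Cfsg.Agent.Lib.Helper14_OmegaSimple Cfsg.Agent.Lib.Helper38_MIODefs
  Cfsg.Agent.Lib.Helper95_OPDefs Cfsg.Agent.Lib.Helper95_OPBasic Cfsg.Agent.Lib.Helper48_OODefs
  Cfsg.Agent.Lib.Helper64_OOKDefs

section abstractDS

variable {ι : Type*} [DecidableEq ι] {X : Type*} [AddCommGroup X] [Module ℂ X]
  (A : ι → Submodule ℂ X)

/-- the component map of an internal direct sum, as a linear map -/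
noncomputable def cmp (hint : DirectSum.IsInternal A) (w : ι) : X →ₗ[ℂ] X :=
  (A w).subtype ∘ₗ (DirectSum.component ℂ ι (fun i => ↥(A i)) w) ∘ₗ
    ((LinearEquiv.ofBijective (DirectSum.coeLinearMap A) hint).symm : X →ₗ[ℂ] _)

theorem cmp_apply (hint : DirectSum.IsInternal A) (w : ι) (x : X) :
    cmp A hint w x =
      (((LinearEquiv.ofBijective (DirectSum.coeLinearMap A) hint).symm x w : ↥(A w)) : X) := rfl

theorem cmp_coe_of (hint : DirectSum.IsInternal A) (w w' : ι) (a : ↥(A w')) :
    cmp A hint w (DirectSum.coeLinearMap A (DirectSum.of (fun i => ↥(A i)) w' a)) =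
      if w' = w then (a : X) else 0 := by
  have h1 : (LinearEquiv.ofBijective (DirectSum.coeLinearMap A) hint).symm
      (DirectSum.coeLinearMap A (DirectSum.of (fun i => ↥(A i)) w' a)) =
      DirectSum.of (fun i => ↥(A i)) w' a := by
    apply (LinearEquiv.ofBijective (DirectSum.coeLinearMap A) hint).injective
    rw [LinearEquiv.apply_symm_apply]
    rfl
  rw [cmp_apply, h1]
  by_cases h : w' = w
  · subst h
    rw [if_pos rfl, DirectSum.of_eq_same]
  · rw [if_neg h, DirectSum.of_eq_of_ne _ _ _ (Ne.symm h)]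
    rfl

/-- an operator acting by scalars on the summands commutes with the component maps -/
theorem cmp_scalar (hint : DirectSum.IsInternal A) (T : X →ₗ[ℂ] X) (s : ι → ℂ)
    (hT : ∀ i, ∀ a ∈ A i, T a = s i • a) (w : ι) (x : X) :
    cmp A hint w (T x) = s w • cmp A hint w x := by
  have hall : ∀ z : DirectSum ι (fun i => ↥(A i)),
      cmp A hint w (T (DirectSum.coeLinearMap A z)) =
        s w • cmp A hint w (DirectSum.coeLinearMap A z) := by
    intro z
    induction z using DirectSum.induction_on with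
    | zero => simp
    | of i a =>
      have h1 := cmp_coe_of A hint w i a
      rw [DirectSum.coeLinearMap_of] at h1 ⊢
      rw [hT i a a.2, map_smul, h1]
      by_cases h : i = w
      · subst h
        rw [if_pos rfl]
      · rw [if_neg h, smul_zero, smul_zero]
    | add y z hy hz =>
      rw [map_add, map_add, map_add, hy, hz, map_add, smul_add]
  obtain ⟨z, rfl⟩ := (LinearEquiv.ofBijective (DirectSum.coeLinearMap A) hint).surjective x
  exact hall z

end abstractDS

section main

variable {F V : Type*} [Field F] [Fintype F] [AddCommGroup V] [Module F V] [FiniteDimensional F V]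
  {X : Type*} [AddCommGroup X] [Module ℂ X]

theorem comp_eq_cmp (Q : QuadraticForm F V) {v v' : V} [DecidableEq ↥(perp Q v v')]
    (ρ : Representation ℂ ↥(T Q) X) (ψ : AddChar F ℂ)
    (hint : DirectSum.IsInternal (fun u : ↥(perp Q v v') => wsp Q ρ ψ v v' u))
    (x : X) (w : ↥(perp Q v v')) :
    comp Q ρ ψ hint x w = cmp (fun u : ↥(perp Q v v') => wsp Q ρ ψ v v' u) hint w x := rfl

/-- OO-K-WSUPP. -/
theorem comp_eq_zero_of_eigen (Q : QuadraticForm F V)
    (hQ : (QuadraticMap.polarBilin Q).Nondegenerate)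
    (hdim : 5 ≤ finrank F V) {v v' : V} (hv : Q v = 0) [DecidableEq ↥(perp Q v v')]
    (ρ : Representation ℂ ↥(T Q) X) (ψ : AddChar F ℂ) (hψ : ψ ≠ 1)
    (hint : DirectSum.IsInternal (fun u : ↥(perp Q v v') => wsp Q ρ ψ v v' u))
    (r : ↥(perp Q v v')) (c : F) (x : X)
    (hx : ∀ u : F, repE Q ρ (E Q v (u • (r : V))) x = ψ (c * u) • x)
    (w : ↥(perp Q v v')) (hw : QuadraticMap.polar (⇑(Qp Q v v')) w r ≠ c) :
    comp Q ρ ψ hint x w = 0 := by
  by_contra hne
  apply hψ
  -- the polar form of the restriction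
  have hpol : QuadraticMap.polar (⇑(Qp Q v v')) w r = QuadraticMap.polar (⇑Q) (w : V) (r : V) := by
    simp [QuadraticMap.polar]
  set b : F := QuadraticMap.polar (⇑Q) (w : V) (r : V) with hb
  have hbc : b - c ≠ 0 := by
    rw [hpol] at hw
    exact sub_ne_zero.mpr hw
  -- the two expressions for the component of `ρ(E(v, u r)) x`
  have key : ∀ u : F, ψ (b * u) • comp Q ρ ψ hint x w = ψ (c * u) • comp Q ρ ψ hint x w := by
    intro u
    have h1 := cmp_scalar (fun u : ↥(perp Q v v') => wsp Q ρ ψ v v' u) hint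
      (repE Q ρ (E Q v (u • (r : V))))
      (fun i : ↥(perp Q v v') => ψ (QuadraticMap.polar (⇑Q) (i : V) (u • (r : V))))
      (fun i a ha => by
        have := (mem_wsp Q ρ ψ v v' i a).mp ha (u • r)
        rwa [Submodule.coe_smul] at this) w x
    rw [hx u, map_smul] at h1
    have h2 : QuadraticMap.polar (⇑Q) (w : V) (u • (r : V)) = b * u := by
      rw [QuadraticMap.polar_smul_right, smul_eq_mul, mul_comm]
    rw [h2] at h1
    rw [comp_eq_cmp]
    exact h1.symm
  have hψ1 : ∀ u : F, ψ (b * u) = ψ (c * u) := by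
    intro u
    have h2 := key u
    rw [← sub_eq_zero, ← sub_smul] at h2
    rcases smul_eq_zero.mp h2 with h3 | h3
    · exact sub_eq_zero.mp h3
    · exact absurd h3 hne
  ext t
  have h4 := hψ1 (t / (b - c))
  have h5 : b * (t / (b - c)) = t + c * (t / (b - c)) := by
    field_simp
    ring
  rw [h5, AddChar.map_add_eq_mul] at h4
  have h6 : ψ (c * (t / (b - c))) ≠ 0 := by
    intro h0
    have h7 : ψ (c * (t / (b - c)) + -(c * (t / (b - c)))) = 1 := by
      rw [add_neg_cancel, AddChar.map_zero_eq_one]
    rw [AddChar.map_add_eq_mul, h0, zero_mul] at h7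
    exact zero_ne_one h7
  have h8 : ψ t = 1 := by
    have h9 : ψ t * ψ (c * (t / (b - c))) = 1 * ψ (c * (t / (b - c))) := by rw [h4, one_mul]
    exact mul_right_cancel₀ h6 h9
  rw [h8]
  rfl

end main

end Cfsg.Agent.Lib.Helper86_OO_K_WSUPP
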