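import Mathlib
import Cfsg.Agent.Lib.Helper64_OOKDefs

/-!
# S2344 kill market (architect helper64), package OO-K-COMP (proof helper9)

The components of a vector with respect to an internal decomposition into the weight spaces `wsp`.
-/

set_option autoImplicit false
set_option linter.unusedSectionVars false
set_option linter.unusedVariables false

namespace Cfsg.Agent.Lib.Helper9_OO_K_COMP

open Module Cfsg.Agent.Lib.Helper94_OrthSmall Cfsg.Agent.Lib.Helper44_QuadClass
  Cfsg.Agent.Lib.Helper14_OmegaSimple Cfsg.Agent.Lib.Helper38_MIODefs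
  Cfsg.Agent.Lib.Helper95_OPDefs Cfsg.Agent.Lib.Helper95_OPBasic Cfsg.Agent.Lib.Helper48_OODefs
  Cfsg.Agent.Lib.Helper64_OOKDefs

/-! ## generic facts on internal direct sums over a finite index type -/

section generic

variable {R : Type*} [Ring R] {M : Type*} [AddCommGroup M] [Module R M]
  {ι : Type*} [DecidableEq ι] (D : ι → Submodule R M)

/-- the component of a vector -/
noncomputable def cmp (hint : DirectSum.IsInternal D) (x : M) (i : ι) : M :=
  (((LinearEquiv.ofBijective (DirectSum.coeLinearMap D) hint).symm x i : ↥(D i)) : M)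

theorem cmp_mem (hint : DirectSum.IsInternal D) (x : M) (i : ι) : cmp D hint x i ∈ D i :=
  ((LinearEquiv.ofBijective (DirectSum.coeLinearMap D) hint).symm x i).2

theorem coe_eq_sum [Fintype ι] (f : DirectSum ι fun i => ↥(D i)) :
    DirectSum.coeLinearMap D f = ∑ i, ((f i : ↥(D i)) : M) := by
  classical
  rw [DirectSum.coeLinearMap_eq_dfinsuppSum]
  exact DFinsupp.sum_eq_sum_fintype f (fun i => rfl)

theorem sum_cmp [Fintype ι] (hint : DirectSum.IsInternal D) (x : M) :
    ∑ i, cmp D hint x i = x := by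
  have h := coe_eq_sum D ((LinearEquiv.ofBijective (DirectSum.coeLinearMap D) hint).symm x)
  have h2 : DirectSum.coeLinearMap D ((LinearEquiv.ofBijective (DirectSum.coeLinearMap D) hint).symm x)
      = x := (LinearEquiv.ofBijective (DirectSum.coeLinearMap D) hint).apply_symm_apply x
  rw [h2] at h
  exact h.symm

theorem cmp_unique [Fintype ι] (hint : DirectSum.IsInternal D) (x : M) (c : ι → M)
    (hc : ∀ i, c i ∈ D i) (hsum : ∑ i, c i = x) (i : ι) : cmp D hint x i = c i := by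
  classical
  let f : DirectSum ι fun i => ↥(D i) := DFinsupp.equivFunOnFintype.symm (fun j => ⟨c j, hc j⟩)
  have hf : ∀ j, ((f j : ↥(D j)) : M) = c j := fun j => rfl
  have h1 : DirectSum.coeLinearMap D f = x := by
    rw [coe_eq_sum, ← hsum]
    exact Finset.sum_congr rfl (fun j _ => hf j)
  have h2 : (LinearEquiv.ofBijective (DirectSum.coeLinearMap D) hint).symm x = f := by
    rw [LinearEquiv.symm_apply_eq]
    exact h1.symm
  unfold cmp
  rw [h2]
  exact hf i

theorem cmp_add (hint : DirectSum.IsInternal D) (x x2 : M) (i : ι) :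
    cmp D hint (x + x2) i = cmp D hint x i + cmp D hint x2 i := by
  unfold cmp
  rw [map_add, DirectSum.add_apply, Submodule.coe_add]

theorem cmp_smul (hint : DirectSum.IsInternal D) (c : R) (x : M) (i : ι) :
    cmp D hint (c • x) i = c • cmp D hint x i := by
  unfold cmp
  rw [map_smul, DirectSum.smul_apply, Submodule.coe_smul]

theorem cmp_of_mem (hint : DirectSum.IsInternal D) {x : M} {i0 : ι} (hx : x ∈ D i0) (i : ι) :
    cmp D hint x i = if i = i0 then x else 0 := by
  have h2 : (LinearEquiv.ofBijective (DirectSum.coeLinearMap D) hint).symm x =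
      DirectSum.lof R ι (fun i => ↥(D i)) i0 ⟨x, hx⟩ := by
    rw [LinearEquiv.symm_apply_eq]
    show x = DirectSum.coeLinearMap D (DirectSum.lof R ι (fun i => ↥(D i)) i0 ⟨x, hx⟩)
    rw [DirectSum.coeLinearMap_lof]
  unfold cmp
  rw [h2]
  by_cases h : i = i0
  · subst h
    rw [if_pos rfl, DirectSum.lof_eq_of, DirectSum.of_eq_same]
  · rw [if_neg h, DirectSum.lof_eq_of, DirectSum.of_eq_of_ne i0 i _ h]
    rfl

end generic

section partC

variable {F V : Type*} [Field F] [Fintype F] [AddCommGroup V] [Module F V] [FiniteDimensional F V]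
  {X : Type*} [AddCommGroup X] [Module ℂ X]

theorem comp_eq_cmp (Q : QuadraticForm F V) {v v' : V} [DecidableEq ↥(perp Q v v')]
    (ρ : Representation ℂ ↥(T Q) X) (ψ : AddChar F ℂ)
    (hint : DirectSum.IsInternal (fun u : ↥(perp Q v v') => wsp Q ρ ψ v v' u))
    (x : X) (w : ↥(perp Q v v')) :
    comp Q ρ ψ hint x w = cmp (fun u : ↥(perp Q v v') => wsp Q ρ ψ v v' u) hint x w := rfl

/-! ## OO-K-COMP (M) -/
theorem comp_mem (Q : QuadraticForm F V) {v v' : V} [DecidableEq ↥(perp Q v v')]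
    (ρ : Representation ℂ ↥(T Q) X) (ψ : AddChar F ℂ)
    (hint : DirectSum.IsInternal (fun u : ↥(perp Q v v') => wsp Q ρ ψ v v' u))
    (x : X) (w : ↥(perp Q v v')) : comp Q ρ ψ hint x w ∈ wsp Q ρ ψ v v' w := by
  rw [comp_eq_cmp]
  exact cmp_mem _ hint x w

theorem sum_comp (Q : QuadraticForm F V) {v v' : V} [DecidableEq ↥(perp Q v v')]
    [Fintype ↥(perp Q v v')]
    (ρ : Representation ℂ ↥(T Q) X) (ψ : AddChar F ℂ)
    (hint : DirectSum.IsInternal (fun u : ↥(perp Q v v') => wsp Q ρ ψ v v' u))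
    (x : X) : ∑ w : ↥(perp Q v v'), comp Q ρ ψ hint x w = x := by
  simp only [comp_eq_cmp]
  exact sum_cmp _ hint x

theorem comp_unique (Q : QuadraticForm F V) {v v' : V} [DecidableEq ↥(perp Q v v')]
    [Fintype ↥(perp Q v v')]
    (ρ : Representation ℂ ↥(T Q) X) (ψ : AddChar F ℂ)
    (hint : DirectSum.IsInternal (fun u : ↥(perp Q v v') => wsp Q ρ ψ v v' u))
    (x : X) (c : ↥(perp Q v v') → X) (hc : ∀ w, c w ∈ wsp Q ρ ψ v v' w)
    (hsum : ∑ w : ↥(perp Q v v'), c w = x) (w : ↥(perp Q v v')) :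
    comp Q ρ ψ hint x w = c w := by
  rw [comp_eq_cmp]
  exact cmp_unique _ hint x c hc hsum w

theorem comp_map (Q : QuadraticForm F V) (hQ : (QuadraticMap.polarBilin Q).Nondegenerate)
    (hdim : 5 ≤ finrank F V) {v v' : V} (hv : Q v = 0) [DecidableEq ↥(perp Q v v')]
    (ρ : Representation ℂ ↥(T Q) X) (ψ : AddChar F ℂ)
    (hint : DirectSum.IsInternal (fun u : ↥(perp Q v v') => wsp Q ρ ψ v v' u))
    (g : V ≃ₗ[F] V) (hg : g ∈ T Q) (t : F) (ht : t ≠ 0) (hgv : g v = t • v)
    (φ : ↥(perp Q v v') ≃ₗ[F] ↥(perp Q v v'))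
    (hφ : ∀ w : ↥(perp Q v v'), ((φ w : ↥(perp Q v v')) : V) = g (w : V))
    (x : X) (w : ↥(perp Q v v')) :
    comp Q ρ ψ hint (repE Q ρ g x) (t⁻¹ • φ w) = repE Q ρ g (comp Q ρ ψ hint x w) := by
  classical
  have : Finite V := Module.finite_of_finite F
  let _ : Fintype ↥(perp Q v v') := Fintype.ofFinite _
  -- the bijection `w ↦ t⁻¹ • φ w`
  let eqv : ↥(perp Q v v') ≃ ↥(perp Q v v') :=
    ⟨fun w => t⁻¹ • φ w, fun w' => φ.symm (t • w'),
      fun w => by
        simp only [smul_smul, mul_inv_cancel₀ ht, one_smul, LinearEquiv.symm_apply_apply],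
      fun w' => by
        simp only [LinearEquiv.apply_symm_apply, smul_smul, inv_mul_cancel₀ ht, one_smul]⟩
  have hc : ∀ w', repE Q ρ g (comp Q ρ ψ hint x (eqv.symm w')) ∈ wsp Q ρ ψ v v' w' := by
    intro w'
    have h := wsp_map Q hQ hdim hv ρ ψ g hg t ht hgv φ hφ (eqv.symm w')
      (comp Q ρ ψ hint x (eqv.symm w')) (comp_mem Q ρ ψ hint x (eqv.symm w'))
    have h2 : t⁻¹ • φ (eqv.symm w') = w' := eqv.apply_symm_apply w'
    rwa [h2] at h
  have hsum : ∑ w' : ↥(perp Q v v'), repE Q ρ g (comp Q ρ ψ hint x (eqv.symm w')) =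
      repE Q ρ g x := by
    rw [← map_sum]
    congr 1
    rw [Fintype.sum_equiv eqv.symm (fun w' => comp Q ρ ψ hint x (eqv.symm w'))
      (fun w => comp Q ρ ψ hint x w) (fun w' => rfl)]
    exact sum_comp Q ρ ψ hint x
  have h := comp_unique Q ρ ψ hint (repE Q ρ g x)
    (fun w' => repE Q ρ g (comp Q ρ ψ hint x (eqv.symm w'))) hc hsum (t⁻¹ • φ w)
  rw [h]
  have h3 : eqv.symm (t⁻¹ • φ w) = w := eqv.symm_apply_apply w
  rw [h3]

/-! ## extra lemmas (requested by helper64): linearity of `comp`, components of a weight vector -/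

theorem comp_add (Q : QuadraticForm F V) {v v' : V} [DecidableEq ↥(perp Q v v')]
    (ρ : Representation ℂ ↥(T Q) X) (ψ : AddChar F ℂ)
    (hint : DirectSum.IsInternal (fun u : ↥(perp Q v v') => wsp Q ρ ψ v v' u))
    (x x2 : X) (w : ↥(perp Q v v')) :
    comp Q ρ ψ hint (x + x2) w = comp Q ρ ψ hint x w + comp Q ρ ψ hint x2 w := by
  simp only [comp_eq_cmp]
  exact cmp_add _ hint x x2 w

theorem comp_smul (Q : QuadraticForm F V) {v v' : V} [DecidableEq ↥(perp Q v v')]
    (ρ : Representation ℂ ↥(T Q) X) (ψ : AddChar F ℂ)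
    (hint : DirectSum.IsInternal (fun u : ↥(perp Q v v') => wsp Q ρ ψ v v' u))
    (c : ℂ) (x : X) (w : ↥(perp Q v v')) :
    comp Q ρ ψ hint (c • x) w = c • comp Q ρ ψ hint x w := by
  simp only [comp_eq_cmp]
  exact cmp_smul _ hint c x w

theorem comp_of_mem (Q : QuadraticForm F V) {v v' : V} [DecidableEq ↥(perp Q v v')]
    (ρ : Representation ℂ ↥(T Q) X) (ψ : AddChar F ℂ)
    (hint : DirectSum.IsInternal (fun u : ↥(perp Q v v') => wsp Q ρ ψ v v' u))
    {x : X} {w0 : ↥(perp Q v v')} (hx : x ∈ wsp Q ρ ψ v v' w0) (w : ↥(perp Q v v')) :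
    comp Q ρ ψ hint x w = if w = w0 then x else 0 := by
  rw [comp_eq_cmp]
  exact cmp_of_mem _ hint hx w

theorem comp_zero (Q : QuadraticForm F V) {v v' : V} [DecidableEq ↥(perp Q v v')]
    (ρ : Representation ℂ ↥(T Q) X) (ψ : AddChar F ℂ)
    (hint : DirectSum.IsInternal (fun u : ↥(perp Q v v') => wsp Q ρ ψ v v' u))
    (w : ↥(perp Q v v')) : comp Q ρ ψ hint 0 w = 0 := by
  have h := comp_smul Q ρ ψ hint 0 0 w
  rwa [zero_smul, zero_smul] at h

end partC

end Cfsg.Agent.Lib.Helper9_OO_K_COMP
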