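import Mathlib
import Cfsg.Agent.Lib.Helper64_OOKDefs
import Cfsg.Agent.Lib.Helper17_MIO_TR
import Cfsg.Agent.Lib.Helper52_MIO_RESTR
import Cfsg.Agent.Lib.Helper9_OO_K_COMP
import Cfsg.Agent.Lib.Helper86_OO_K_WSUPP

/-!
# S2344 kill section (architect helper64), package OO-K-Y00 (formalised by helper12)

`dim wt2(0,0) ≤ dim (KFix ∩ wsp 0) + 1`.
-/

set_option autoImplicit false

namespace Cfsg.Agent.Lib.Helper12_OO_K_Y00

open Module Cfsg.Agent.Lib.Helper94_OrthSmall Cfsg.Agent.Lib.Helper44_QuadClass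
  Cfsg.Agent.Lib.Helper14_OmegaSimple Cfsg.Agent.Lib.Helper38_MIODefs
  Cfsg.Agent.Lib.Helper95_OPDefs Cfsg.Agent.Lib.Helper95_OPBasic Cfsg.Agent.Lib.Helper48_OODefs
  Cfsg.Agent.Lib.Helper64_OOKDefs

section lin

variable {F V : Type*} [Field F] [AddCommGroup V] [Module F V]
  {X : Type*} [AddCommGroup X] [Module ℂ X]

/-- the component map as a linear map. -/
noncomputable def compL (Q : QuadraticForm F V) {v v' : V} [DecidableEq ↥(perp Q v v')]
    (ρ : Representation ℂ ↥(T Q) X) (ψ : AddChar F ℂ)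
    (hint : DirectSum.IsInternal (fun u : ↥(perp Q v v') => wsp Q ρ ψ v v' u))
    (w : ↥(perp Q v v')) : X →ₗ[ℂ] X :=
  (wsp Q ρ ψ v v' w).subtype ∘ₗ
    (DirectSum.component ℂ ↥(perp Q v v') (fun u : ↥(perp Q v v') => ↥(wsp Q ρ ψ v v' u)) w) ∘ₗ
      ((LinearEquiv.ofBijective
        (DirectSum.coeLinearMap (fun u : ↥(perp Q v v') => wsp Q ρ ψ v v' u)) hint).symm :
          X →ₗ[ℂ] _)

theorem compL_apply (Q : QuadraticForm F V) {v v' : V} [DecidableEq ↥(perp Q v v')]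
    (ρ : Representation ℂ ↥(T Q) X) (ψ : AddChar F ℂ)
    (hint : DirectSum.IsInternal (fun u : ↥(perp Q v v') => wsp Q ρ ψ v v' u))
    (w : ↥(perp Q v v')) (x : X) : compL Q ρ ψ hint w x = comp Q ρ ψ hint x w := rfl

end lin

section core

variable {X : Type*} [AddCommGroup X] [Module ℂ X] [FiniteDimensional ℂ X]

/-- the abstract rank-nullity count: the `z`-component maps `N` into `U`, and the vectors of `N` with vanishing
`z`-component are supported on a level set `LS` of lines on which "vanishing of the component" is constant. -/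
theorem finrank_le_of_components {ι : Type*} [Fintype ι] (c : ι → X →ₗ[ℂ] X) (z : ι)
    (M : ι → Submodule ℂ X) (hmem : ∀ i x, c i x ∈ M i) (hsum : ∀ x, ∑ i, c i x = x)
    (N U : Submodule ℂ X) (LS : Set ι)
    (h0 : ∀ x ∈ N, c z x ∈ U)
    (hout : ∀ x ∈ N, ∀ i, i ≠ z → i ∉ LS → c i x = 0)
    (hconst : ∀ x ∈ N, ∀ i ∈ LS, ∀ j ∈ LS, c i x = 0 → c j x = 0)
    (hline : ∀ i ∈ LS, ∀ y ∈ M i, ∀ y' ∈ M i, y ≠ 0 → ∃ l : ℂ, y' = l • y) :
    finrank ℂ ↥N ≤ finrank ℂ ↥U + 1 := by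
  classical
  set Φ : ↥N →ₗ[ℂ] X := (c z).domRestrict N with hΦ
  have hrk := LinearMap.finrank_range_add_finrank_ker Φ
  have hrange : LinearMap.range Φ ≤ U := by
    rintro y ⟨x, rfl⟩
    exact h0 x.1 x.2
  have h1 : finrank ℂ ↥(LinearMap.range Φ) ≤ finrank ℂ ↥U := Submodule.finrank_mono hrange
  -- vectors of `N` all of whose components in `LS ∪ {z}` vanish are zero
  have hzero : ∀ x ∈ N, c z x = 0 → (∀ i ∈ LS, c i x = 0) → x = 0 := by
    intro x hx hz hLS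
    rw [← hsum x]
    apply Finset.sum_eq_zero
    intro i _
    by_cases hiz : i = z
    · rw [hiz, hz]
    · by_cases hi : i ∈ LS
      · exact hLS i hi
      · exact hout x hx i hiz hi
  have h2 : finrank ℂ ↥(LinearMap.ker Φ) ≤ 1 := by
    by_cases hne : ∃ i0 ∈ LS, ∃ x0 : ↥(LinearMap.ker Φ), c i0 (x0 : ↥N) ≠ 0
    · obtain ⟨i0, hi0, x0, hx0⟩ := hne
      apply finrank_le_one x0
      intro w
      obtain ⟨l, hl⟩ := hline i0 hi0 _ (hmem i0 (x0 : ↥N)) _ (hmem i0 (w : ↥N)) hx0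
      refine ⟨l, ?_⟩
      -- `d = w - l • x0` vanishes
      have hd : ((w : ↥N) : X) - l • ((x0 : ↥N) : X) = 0 := by
        apply hzero
        · exact N.sub_mem (w : ↥N).2 (N.smul_mem l (x0 : ↥N).2)
        · have hw0 : c z ((w : ↥N) : X) = 0 := LinearMap.mem_ker.1 w.2
          have hx00 : c z ((x0 : ↥N) : X) = 0 := LinearMap.mem_ker.1 x0.2
          rw [map_sub, map_smul, hw0, hx00, smul_zero, sub_zero]
        · intro j hj
          apply hconst _ (N.sub_mem (w : ↥N).2 (N.smul_mem l (x0 : ↥N).2)) i0 hi0 j hj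
          rw [map_sub, map_smul, hl, sub_self]
      apply Subtype.ext
      apply Subtype.ext
      rw [sub_eq_zero] at hd
      simp only [Submodule.coe_smul]
      exact hd.symm
    · push Not at hne
      apply finrank_le_one (0 : ↥(LinearMap.ker Φ))
      intro w
      refine ⟨0, ?_⟩
      rw [zero_smul]
      apply Subtype.ext
      apply Subtype.ext
      have : ((w : ↥N) : X) = 0 :=
        hzero _ (w : ↥N).2 (LinearMap.mem_ker.1 w.2) (fun i hi => hne i hi w)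
      simp only [ZeroMemClass.coe_zero]
      exact this.symm
  omega

end core

section main

variable {F V : Type*} [Field F] [Fintype F] [AddCommGroup V] [Module F V] [FiniteDimensional F V]
  {X : Type*} [AddCommGroup X] [Module ℂ X] [FiniteDimensional ℂ X]

omit [Fintype F] [FiniteDimensional F V] [FiniteDimensional ℂ X] in
theorem repE_injective (Q : QuadraticForm F V) (ρ : Representation ℂ ↥(T Q) X) {g : V ≃ₗ[F] V}
    (hg : g ∈ T Q) : Function.Injective (repE Q ρ g) := by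
  rw [repE_of_mem Q ρ hg]
  intro y y' h
  have h1 : ρ (⟨g, hg⟩ : ↥(T Q))⁻¹ * ρ ⟨g, hg⟩ = 1 := by
    rw [← map_mul, inv_mul_cancel, map_one]
  have h2 : (ρ (⟨g, hg⟩ : ↥(T Q))⁻¹ * ρ ⟨g, hg⟩) y = (ρ (⟨g, hg⟩ : ↥(T Q))⁻¹ * ρ ⟨g, hg⟩) y' := by
    rw [Module.End.mul_apply, Module.End.mul_apply, h]
  rw [h1] at h2
  exact h2

omit [FiniteDimensional ℂ X] in
/-- equivariance of the components of a `K`-fixed vector under a generator `E(p, r)` of `K`
(`hmap` = the statement of `comp_map`, package OO-K-COMP). -/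
theorem comp_K (Q : QuadraticForm F V) (hQ : (QuadraticMap.polarBilin Q).Nondegenerate)
    (hdim : 5 ≤ finrank F V) {v v' : V} (a a' : ↥(perp Q v v'))
    (ρ : Representation ℂ ↥(T Q) X) (ψ : AddChar F ℂ) [DecidableEq ↥(perp Q v v')]
    (hint : DirectSum.IsInternal (fun u : ↥(perp Q v v') => wsp Q ρ ψ v v' u))
    (hmap : ∀ (g : V ≃ₗ[F] V), g ∈ T Q → ∀ (t : F), t ≠ 0 → g v = t • v →
      ∀ (φ : ↥(perp Q v v') ≃ₗ[F] ↥(perp Q v v')),
      (∀ w : ↥(perp Q v v'), ((φ w : ↥(perp Q v v')) : V) = g (w : V)) →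
      ∀ (x : X) (w : ↥(perp Q v v')),
        comp Q ρ ψ hint (repE Q ρ g x) (t⁻¹ • φ w) = repE Q ρ g (comp Q ρ ψ hint x w))
    (x : X) (hx : x ∈ KFix Q ρ v v' a a') (p r : ↥(perp Q v v'))
    (h1 : QuadraticMap.polar (⇑(Qp Q v v')) p a = 0) (h2 : QuadraticMap.polar (⇑(Qp Q v v')) p a' = 0)
    (h3 : QuadraticMap.polar (⇑(Qp Q v v')) r a = 0) (h4 : QuadraticMap.polar (⇑(Qp Q v v')) r a' = 0)
    (h5 : Qp Q v v' p = 0) (h6 : QuadraticMap.polar (⇑(Qp Q v v')) p r = 0) (w : ↥(perp Q v v')) :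
    E Q (p : V) (r : V) ∈ T Q ∧
    comp Q ρ ψ hint x (E (Qp Q v v') p r w) = repE Q ρ (E Q (p : V) (r : V)) (comp Q ρ ψ hint x w) := by
  have hu : Q (p : V) = 0 := h5
  have huz : QuadraticMap.polar (⇑Q) (p : V) (r : V) = 0 := by
    rw [← polar_comp_subtype]; exact h6
  have hg : E Q (p : V) (r : V) ∈ T Q := E_mem_T Q hQ hdim hu huz
  refine ⟨hg, ?_⟩
  have hvp : QuadraticMap.polar (⇑Q) v (p : V) = 0 := ((mem_perp Q v v').1 p.2).1
  have hvr : QuadraticMap.polar (⇑Q) v (r : V) = 0 := ((mem_perp Q v v').1 r.2).1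
  have hgv : E Q (p : V) (r : V) v = (1 : F) • v := by
    rw [E_apply Q hu huz, hvp, hvr]
    simp
  have hφ : ∀ w : ↥(perp Q v v'),
      ((E (Qp Q v v') p r w : ↥(perp Q v v')) : V) = E Q (p : V) (r : V) (w : V) :=
    fun w => Cfsg.Agent.Lib.Helper52_MIO_RESTR.restr Q v v' p r w hu huz
  have key := hmap (E Q (p : V) (r : V)) hg 1 one_ne_zero hgv (E (Qp Q v v') p r) hφ x w
  rw [hx p r h1 h2 h3 h4 h5 h6, inv_one, one_smul] at key
  exact key

/-- OO-K-Y00 with the statements of `comp_mem`, `sum_comp`, `comp_map` (OO-K-COMP) and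
`comp_eq_zero_of_eigen` (OO-K-WSUPP) as hypotheses. -/
theorem y00_of (Q : QuadraticForm F V) (hQ : (QuadraticMap.polarBilin Q).Nondegenerate)
    (hdim : 9 ≤ finrank F V) {v v' : V} (hv : Q v = 0) (hv' : Q v' = 0)
    (hvv' : QuadraticMap.polar (⇑Q) v v' = 1) (a a' : ↥(perp Q v v'))
    (ha : Qp Q v v' a = 0) (ha' : Qp Q v v' a' = 0)
    (haa' : QuadraticMap.polar (⇑(Qp Q v v')) a a' = 1)
    (ρ : Representation ℂ ↥(T Q) X) (ψ : AddChar F ℂ)
    [DecidableEq ↥(perp Q v v')] [Fintype ↥(perp Q v v')]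
    (hint : DirectSum.IsInternal (fun u : ↥(perp Q v v') => wsp Q ρ ψ v v' u))
    (hcm : ∀ (x : X) (w : ↥(perp Q v v')), comp Q ρ ψ hint x w ∈ wsp Q ρ ψ v v' w)
    (hsc : ∀ x : X, ∑ w : ↥(perp Q v v'), comp Q ρ ψ hint x w = x)
    (hmap : ∀ (g : V ≃ₗ[F] V), g ∈ T Q → ∀ (t : F), t ≠ 0 → g v = t • v →
      ∀ (φ : ↥(perp Q v v') ≃ₗ[F] ↥(perp Q v v')),
      (∀ w : ↥(perp Q v v'), ((φ w : ↥(perp Q v v')) : V) = g (w : V)) →
      ∀ (x : X) (w : ↥(perp Q v v')),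
        comp Q ρ ψ hint (repE Q ρ g x) (t⁻¹ • φ w) = repE Q ρ g (comp Q ρ ψ hint x w))
    (hsupp : ∀ (r : ↥(perp Q v v')) (c : F) (x : X),
      (∀ u : F, repE Q ρ (E Q v (u • (r : V))) x = ψ (c * u) • x) →
      ∀ w : ↥(perp Q v v'), QuadraticMap.polar (⇑(Qp Q v v')) w r ≠ c → comp Q ρ ψ hint x w = 0)
    (f : ℕ) (hW : WData Q ρ ψ v v' 1 f) :
    finrank ℂ ↥(wt2 ψ (opX Q ρ v (a' : V)) (opX Q ρ v (a : V)) (KFix Q ρ v v' a a') 0 0) ≤
      finrank ℂ ↥(KFix Q ρ v v' a a' ⊓ wsp Q ρ ψ v v' 0) + 1 := by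
  classical
  have hdim5 : 5 ≤ finrank F V := by omega
  -- the second complement
  have hQW : (QuadraticMap.polarBilin (Qp Q v v')).Nondegenerate :=
    nondegenerate_perp hQ hv hv' hvv'
  have hQ2 : (QuadraticMap.polarBilin (Qp (Qp Q v v') a a')).Nondegenerate :=
    nondegenerate_perp hQW ha ha' haa'
  have hd1 := finrank_perp hv hv' hvv'
  have hd2 := finrank_perp ha ha' haa'
  have hdim2 : 5 ≤ finrank F ↥(perp (Qp Q v v') a a') := by omega
  -- the level set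
  set LS : Set ↥(perp Q v v') := {w | w ≠ 0 ∧ Qp Q v v' w = 0 ∧
    QuadraticMap.polar (⇑(Qp Q v v')) w a = 0 ∧ QuadraticMap.polar (⇑(Qp Q v v')) w a' = 0} with hLS
  apply finrank_le_of_components (fun w => compL Q ρ ψ hint w) 0 (fun w => wsp Q ρ ψ v v' w)
    (fun w x => hcm x w) (fun x => hsc x) _ _ LS
  · -- the `0`-component lies in `KFix ⊓ wsp 0`
    intro x hx
    rw [mem_wt2] at hx
    refine ⟨?_, hcm x 0⟩
    intro p r h1 h2 h3 h4 h5 h6
    have key := (comp_K Q hQ hdim5 a a' ρ ψ hint hmap x hx.1 p r h1 h2 h3 h4 h5 h6 0).2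
    rw [map_zero] at key
    exact key.symm
  · -- components outside the level set vanish
    intro x hx w hw0 hwLS
    rw [mem_wt2] at hx
    show comp Q ρ ψ hint x w = 0
    by_cases hQw : Qp Q v v' w = 0
    · by_cases hwa : QuadraticMap.polar (⇑(Qp Q v v')) w a = 0
      · have hwa' : QuadraticMap.polar (⇑(Qp Q v v')) w a' ≠ 0 := fun h =>
          hwLS ⟨hw0, hQw, hwa, h⟩
        exact hsupp a' 0 x (fun u => (hx.2 u).1) w hwa'
      · exact hsupp a 0 x (fun u => (hx.2 u).2) w hwa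
    · have h1 := hcm x w
      rw [hW.hns w hQw, Submodule.mem_bot] at h1
      exact h1
  · -- vanishing is constant on the level set
    intro x hx w hw w' hw' hcw
    rw [mem_wt2] at hx
    show comp Q ρ ψ hint x w' = 0
    have hcw0 : comp Q ρ ψ hint x w = 0 := hcw
    -- the function on `W₂`
    have hmem2 : ∀ y : ↥(perp Q v v'), y ∈ LS → y ∈ perp (Qp Q v v') a a' := by
      intro y hy
      rw [mem_perp]
      exact ⟨by rw [QuadraticMap.polar_comm]; exact hy.2.2.1,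
        by rw [QuadraticMap.polar_comm]; exact hy.2.2.2⟩
    have hf : ∀ u z : ↥(perp (Qp Q v v') a a'), Qp (Qp Q v v') a a' u = 0 →
        QuadraticMap.polar (⇑(Qp (Qp Q v v') a a')) u z = 0 → ∀ y : ↥(perp (Qp Q v v') a a'),
        (comp Q ρ ψ hint x ((E (Qp (Qp Q v v') a a') u z y : ↥(perp (Qp Q v v') a a')) :
          ↥(perp Q v v')) = 0) = (comp Q ρ ψ hint x (y : ↥(perp Q v v')) = 0) := by
      intro u z hu huz y
      have hu' : Qp Q v v' (u : ↥(perp Q v v')) = 0 := hu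
      have huz' : QuadraticMap.polar (⇑(Qp Q v v')) (u : ↥(perp Q v v')) (z : ↥(perp Q v v')) = 0 := by
        rw [← polar_comp_subtype]; exact huz
      have hr := Cfsg.Agent.Lib.Helper52_MIO_RESTR.restr (Qp Q v v') a a' u z y hu' huz'
      have hua := (mem_perp (Qp Q v v') a a').1 u.2
      have hza := (mem_perp (Qp Q v v') a a').1 z.2
      have key := comp_K Q hQ hdim5 a a' ρ ψ hint hmap x hx.1 (u : ↥(perp Q v v'))
        (z : ↥(perp Q v v')) (by rw [QuadraticMap.polar_comm]; exact hua.1)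
        (by rw [QuadraticMap.polar_comm]; exact hua.2) (by rw [QuadraticMap.polar_comm]; exact hza.1)
        (by rw [QuadraticMap.polar_comm]; exact hza.2) hu' huz' (y : ↥(perp Q v v'))
      rw [hr, key.2]
      apply propext
      constructor
      · intro h0
        apply repE_injective Q ρ key.1
        rw [h0, map_zero]
      · intro h0
        rw [h0, map_zero]
    have hne : (⟨w, hmem2 w hw⟩ : ↥(perp (Qp Q v v') a a')) ≠ 0 := by
      intro h
      exact hw.1 (congrArg Subtype.val h)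
    have hne' : (⟨w', hmem2 w' hw'⟩ : ↥(perp (Qp Q v v') a a')) ≠ 0 := by
      intro h
      exact hw'.1 (congrArg Subtype.val h)
    have hQQ : Qp (Qp Q v v') a a' ⟨w, hmem2 w hw⟩ = Qp (Qp Q v v') a a' ⟨w', hmem2 w' hw'⟩ := by
      show Qp Q v v' w = Qp Q v v' w'
      rw [hw.2.1, hw'.2.1]
    have htr := Cfsg.Agent.Lib.Helper17_MIO_TR.tr_const (Qp (Qp Q v v') a a') hQ2 hdim2
      (fun y : ↥(perp (Qp Q v v') a a') => comp Q ρ ψ hint x (y : ↥(perp Q v v')) = 0) hf hne hne' hQQ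
    have : (comp Q ρ ψ hint x w = 0) = (comp Q ρ ψ hint x w' = 0) := htr
    rw [← this]
    exact hcw0
  · -- the weight spaces on the level set are lines
    intro w hw y hy y' hy' hy0
    have h1 : finrank ℂ ↥(wsp Q ρ ψ v v' w) = 1 := hW.he w hw.1 hw.2.1
    have hne : (⟨y, hy⟩ : ↥(wsp Q ρ ψ v v' w)) ≠ 0 := by
      intro h
      exact hy0 (congrArg Subtype.val h)
    obtain ⟨l, hl⟩ := (finrank_eq_one_iff_of_nonzero' _ hne).1 h1 ⟨y', hy'⟩
    exact ⟨l, (congrArg Subtype.val hl).symm⟩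

end main

section final

variable {F V : Type*} [Field F] [Fintype F] [AddCommGroup V] [Module F V] [FiniteDimensional F V]
  {X : Type*} [AddCommGroup X] [Module ℂ X] [FiniteDimensional ℂ X]

/-- OO-K-Y00 (verbatim): `dim wt2(0,0) ≤ dim (KFix ∩ wsp 0) + 1`. -/
theorem y00 (Q : QuadraticForm F V) (hQ : (QuadraticMap.polarBilin Q).Nondegenerate)
    (hdim : 9 ≤ finrank F V) {v v' : V} (hv : Q v = 0) (hv' : Q v' = 0)
    (hvv' : QuadraticMap.polar (⇑Q) v v' = 1) (a a' : ↥(perp Q v v'))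
    (ha : Qp Q v v' a = 0) (ha' : Qp Q v v' a' = 0)
    (haa' : QuadraticMap.polar (⇑(Qp Q v v')) a a' = 1)
    (ρ : Representation ℂ ↥(T Q) X) (ψ : AddChar F ℂ) (hψ : ψ ≠ 1)
    [DecidableEq ↥(perp Q v v')]
    (hint : DirectSum.IsInternal (fun u : ↥(perp Q v v') => wsp Q ρ ψ v v' u))
    (f : ℕ) (hW : WData Q ρ ψ v v' 1 f) :
    finrank ℂ ↥(wt2 ψ (opX Q ρ v (a' : V)) (opX Q ρ v (a : V)) (KFix Q ρ v v' a a') 0 0) ≤
      finrank ℂ ↥(KFix Q ρ v v' a a' ⊓ wsp Q ρ ψ v v' 0) + 1 := by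
  have : Finite V := Module.finite_of_finite F
  have : Fintype ↥(perp Q v v') := Fintype.ofFinite _
  have hdim5 : 5 ≤ finrank F V := by omega
  exact y00_of Q hQ hdim hv hv' hvv' a a' ha ha' haa' ρ ψ hint
    (fun x w => Cfsg.Agent.Lib.Helper9_OO_K_COMP.comp_mem Q ρ ψ hint x w)
    (fun x => Cfsg.Agent.Lib.Helper9_OO_K_COMP.sum_comp Q ρ ψ hint x)
    (fun g hg t ht hgv φ hφ x w =>
      Cfsg.Agent.Lib.Helper9_OO_K_COMP.comp_map Q hQ hdim5 hv ρ ψ hint g hg t ht hgv φ hφ x w)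
    (fun r c x hx w hw =>
      Cfsg.Agent.Lib.Helper86_OO_K_WSUPP.comp_eq_zero_of_eigen Q hQ hdim5 hv ρ ψ hψ hint
        r c x hx w hw)
    f hW

end final

end Cfsg.Agent.Lib.Helper12_OO_K_Y00
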