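import Mathlib
import Cfsg.Agent.Lib.Helper97_OX2Defs
import Cfsg.Agent.Lib.Helper94_OrthVec

set_option autoImplicit false
set_option linter.unusedSectionVars false
set_option linter.unusedVariables false

/-!
# OEXT2 market (`oext_packages`, architect helper97), package COMM_APP, core (helper12)

`root_of_u0_of`: the statement of `root_of_u0` (with the `K`-independence of `u, w` added, and `Root`
unfolded), taking the statements of COMM_N (`nmap_props`), COMM_IOTA (`iota_props`) and COMM_ABS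
(`comm_abs`, at the field `F` and the forms `trQ τ QK`, `trB τ BK`) as hypotheses.
-/

namespace Cfsg.Agent.Lib.Helper12_OX2_COMM_APPaux

open Module Cfsg.Agent.Lib.Helper94_Symp Cfsg.Agent.Lib.Helper94_OrthSmall
  Cfsg.Agent.Lib.Helper94_OrthSiegel
  Cfsg.Agent.Lib.Helper98_ExtDefs Cfsg.Agent.Lib.Helper97_OX2Defs
open scoped commutatorElement

variable {F K V : Type*} [Field F] [Field K] [Algebra F K] [AddCommGroup V] [Module F V]
  [Module K V] [IsScalarTower F K V]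
variable {θ : K} {ε : F} {τ : K →ₗ[F] F} {QK : V → K} {BK : LinearMap.BilinForm K V}

/-- the image `g (K u + K w)` as an `F`-subspace -/
def h12T (K : Type*) {F V : Type*} [Field F] [Field K] [Algebra F K] [AddCommGroup V] [Module F V]
    [Module K V] [IsScalarTower F K V] (g : V ≃ₗ[F] V) (u w : V) : Submodule F V :=
  ((Submodule.span K {u, w}).restrictScalars F).map g.toLinearMap

theorem h12mem_T {g : V ≃ₗ[F] V} {u w x : V} :
    x ∈ h12T K g u w ↔ ∃ a b : K, g (a • u + b • w) = x := by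
  unfold h12T
  rw [Submodule.mem_map]
  constructor
  · rintro ⟨y, hy, rfl⟩
    rw [Submodule.restrictScalars_mem, Submodule.mem_span_pair] at hy
    obtain ⟨a, b, rfl⟩ := hy
    exact ⟨a, b, rfl⟩
  · rintro ⟨a, b, rfl⟩
    refine ⟨a • u + b • w, ?_, rfl⟩
    rw [Submodule.restrictScalars_mem, Submodule.mem_span_pair]
    exact ⟨a, b, rfl⟩

/-- a totally singular `K`-line is totally singular -/
theorem h12QK_line (C : Ctx θ ε τ QK BK) {u w : V} (hu : QK u = 0) (hw : QK w = 0)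
    (huw : BK u w = 0) (a b : K) : QK (a • u + b • w) = 0 := by
  rw [C.hQp, C.hQs, C.hQs, hu, hw, map_smul, map_smul, LinearMap.smul_apply, huw]
  simp

/-- the core of COMM_APP -/
theorem root_of_u0_of (C : Ctx θ ε τ QK BK) (M : Subgroup (V ≃ₗ[F] V)) (hM : HypO τ QK BK M)
    -- COMM_N
    (hNM : ∀ {u w : V}, QK u = 0 → QK w = 0 → BK u w = 0 → ∀ κ : K,
      (∀ x, ksieg F QK BK (κ • u) w x = x + nmap F BK κ u w x) ∧
      (∀ x y, trB τ BK (nmap F BK κ u w x) y = -trB τ BK x (nmap F BK κ u w y)) ∧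
      (∀ x, (∀ a b : K, trB τ BK x (a • u + b • w) = 0) → nmap F BK κ u w x = 0) ∧
      (∀ x, nmap F BK κ u w x = κ • nmap F BK 1 u w x) ∧
      (∀ x, ∃ a b : K, nmap F BK 1 u w x = a • u + b • w))
    -- COMM_IOTA
    (hIO : ∀ (t : Submodule F V), (∀ x ∈ t, trQ τ QK x = 0) → ∀ {u₀ : V},
      (∀ z ∈ t, trB τ BK z u₀ = 0) → τ (QK u₀) ≠ 0 → ∀ {b' : V}, b' ∈ t → BK b' u₀ ≠ 0 →
      ∀ (ι : V ≃ₗ[F] V), (∀ x, ι x = x - ((QK u₀)⁻¹ * BK x u₀) • u₀) →
      (∀ x, ι (ι x) = x) ∧ ι ∈ oG (trQ τ QK) ∧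
      (∀ x ∈ t, ∃ s : F, ι x = x - s • (b' - ι b')) ∧
      trB τ BK (ι b') b' ≠ 0 ∧
      (∀ e ∈ t, trB τ BK e (ι b') = 0 → ι e = e))
    -- COMM_ABS (over `F`, for `trQ τ QK`, `trB τ BK`)
    (hAB : ∀ (t' t'' : Submodule F V), (∀ x ∈ t', trQ τ QK x = 0) → (∀ x ∈ t'', trQ τ QK x = 0) →
      ∀ (N' N'' : V →ₗ[F] V),
      (∀ x y, trB τ BK (N' x) y = -trB τ BK x (N' y)) → (∀ x, N' x ∈ t') →
      (∀ x, (∀ y ∈ t', trB τ BK x y = 0) → N' x = 0) →
      (∀ x y, trB τ BK (N'' x) y = -trB τ BK x (N'' y)) → (∀ x, N'' x ∈ t'') →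
      (∀ x, (∀ y ∈ t'', trB τ BK x y = 0) → N'' x = 0) →
      ∀ {a'' b' : V}, a'' ∈ t'' → b' ∈ t' → trB τ BK a'' b' ≠ 0 →
      (∀ x ∈ t'', ∃ s : F, x - s • a'' ∈ t') → (∀ x ∈ t', ∃ s : F, x - s • b' ∈ t'') →
      ∀ (g₁ g₂ : V ≃ₗ[F] V), (∀ x, g₁ x = x + N' x) → (∀ x, g₂ x = x + N'' x) →
      ⁅g₁, g₂⁆ = sieg (trQ τ QK) (trB τ BK) (N' a'') ((trB τ BK a'' b')⁻¹ • N'' b'))
    {g : V ≃ₗ[F] V} (hg : g ∈ M) {u w : V} (hu : QK u = 0) (hw : QK w = 0) (huw : BK u w = 0)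
    (hind : ∀ x y : K, x • u + y • w = 0 → x = 0 ∧ y = 0)
    {u₀ : V} (hperp : ∀ a b : K, trB τ BK (g (a • u + b • w)) u₀ = 0) (hτd : τ (QK u₀) ≠ 0)
    (hns : ¬ IsSquare (QK u₀)) {a₀ b₀ : K} (hne : BK (g (a₀ • u + b₀ • w)) u₀ ≠ 0) :
    ∃ p₁ : V, p₁ ≠ 0 ∧ QK p₁ = 0 ∧
      ∀ κ l : K, sieg (trQ τ QK) (trB τ BK) (κ • p₁) (l • p₁) ∈ M := by
  -- notation
  have hgO : g ∈ oG (trQ τ QK) := hM.le hg
  have hgB : ∀ x y, trB τ BK (g x) (g y) = trB τ BK x y := C.hypO_oG_B hM hg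
  have Bsymm : ∀ x y, trB τ BK x y = trB τ BK y x := B_symm (trQ τ QK) (trB τ BK) C.trQ_add
  have hginv : ∀ x y, trB τ BK (g⁻¹ x) y = trB τ BK x (g y) := by
    intro x y
    rw [← hgB (g⁻¹ x) y, apply_inv_apply']
  have hginv' : ∀ x y, trB τ BK (g x) y = trB τ BK x (g⁻¹ y) := by
    intro x y
    rw [← hgB x (g⁻¹ y), apply_inv_apply']
  have hL := h12QK_line C hu hw huw
  -- the subspace `t`
  have hts : ∀ x ∈ h12T K g u w, trQ τ QK x = 0 := by
    intro x hx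
    obtain ⟨a, b, rfl⟩ := h12mem_T.mp hx
    rw [hgO, trQ_apply, hL, map_zero]
  have hb't : g (a₀ • u + b₀ • w) ∈ h12T K g u w := h12mem_T.mpr ⟨a₀, b₀, rfl⟩
  have hperp' : ∀ z ∈ h12T K g u w, trB τ BK z u₀ = 0 := by
    intro z hz
    obtain ⟨a, b, rfl⟩ := h12mem_T.mp hz
    exact hperp a b
  -- the reflection
  obtain ⟨ι, hιM, hι⟩ := hM.refl_mem u₀ hτd hns
  obtain ⟨hιι, hιO, hιt, hβ, hιfix⟩ := hIO (h12T K g u w) hts hperp' hτd hb't hne ι hι
  have hιB : ∀ x y, trB τ BK (ι x) (ι y) = trB τ BK x y :=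
    oG_B (trQ τ QK) (trB τ BK) C.trQ_add hιO
  have hιB' : ∀ x y, trB τ BK (ι x) y = trB τ BK x (ι y) := by
    intro x y
    rw [← hιB x (ι y), hιι]
  have hιinv : ∀ x, ι⁻¹ x = ι x := by
    intro x
    apply ι.injective
    rw [apply_inv_apply', hιι]
  -- the nilpotent maps
  have hn1 := hNM hu hw huw 1
  obtain ⟨-, -, -, -, hn1L⟩ := hn1
  have hN'x : ∀ (κ : K) (x : V),
      (g.toLinearMap ∘ₗ nmap F BK κ u w ∘ₗ (g⁻¹ : V ≃ₗ[F] V).toLinearMap) x =
        g (nmap F BK κ u w (g⁻¹ x)) := fun κ x => rfl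
  have hN''x : ∀ (κ : K) (x : V),
      (ι.toLinearMap ∘ₗ (g.toLinearMap ∘ₗ nmap F BK κ u w ∘ₗ (g⁻¹ : V ≃ₗ[F] V).toLinearMap) ∘ₗ
        ι.toLinearMap) x = ι (g (nmap F BK κ u w (g⁻¹ (ι x)))) := fun κ x => rfl
  -- properties of `N' κ`
  have hN'form : ∀ (κ : K) (x : V), g (nmap F BK κ u w (g⁻¹ x)) =
      g (κ • nmap F BK 1 u w (g⁻¹ x)) := by
    intro κ x
    rw [(hNM hu hw huw κ).2.2.2.1]
  have hs' : ∀ (κ : K) (x y : V), trB τ BK (g (nmap F BK κ u w (g⁻¹ x))) y =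
      -trB τ BK x (g (nmap F BK κ u w (g⁻¹ y))) := by
    intro κ x y
    rw [hginv', (hNM hu hw huw κ).2.1, hginv]
  have hi' : ∀ (κ : K) (x : V), g (nmap F BK κ u w (g⁻¹ x)) ∈ h12T K g u w := by
    intro κ x
    rw [hN'form]
    obtain ⟨a, b, hab⟩ := hn1L (g⁻¹ x)
    rw [hab]
    refine h12mem_T.mpr ⟨κ * a, κ * b, ?_⟩
    rw [smul_add, smul_smul, smul_smul]
  have hk' : ∀ (κ : K) (x : V), (∀ y ∈ h12T K g u w, trB τ BK x y = 0) →
      g (nmap F BK κ u w (g⁻¹ x)) = 0 := by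
    intro κ x hx
    rw [(hNM hu hw huw κ).2.2.1 (g⁻¹ x), map_zero]
    intro a b
    rw [hginv]
    exact hx _ (h12mem_T.mpr ⟨a, b, rfl⟩)
  -- the elements `g₁ κ`, `g₂ κ` of `M`
  have hksM : ∀ κ : K, ksieg F QK BK (κ • u) w ∈ M := by
    intro κ
    apply hM.sieg_mem
    · rw [C.hQs, hu, mul_zero]
    · rw [map_smul, LinearMap.smul_apply, huw, smul_zero]
  have hg₁M : ∀ κ : K, g * ksieg F QK BK (κ • u) w * g⁻¹ ∈ M := fun κ =>
    M.mul_mem (M.mul_mem hg (hksM κ)) (M.inv_mem hg)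
  have hg₁x : ∀ (κ : K) (x : V), (g * ksieg F QK BK (κ • u) w * g⁻¹) x =
      x + g (nmap F BK κ u w (g⁻¹ x)) := by
    intro κ x
    rw [LinearEquiv.mul_apply, LinearEquiv.mul_apply, (hNM hu hw huw κ).1, map_add,
      apply_inv_apply']
  have hg₂M : ∀ κ : K, ι * (g * ksieg F QK BK (κ • u) w * g⁻¹) * ι⁻¹ ∈ M := fun κ =>
    M.mul_mem (M.mul_mem hιM (hg₁M κ)) (M.inv_mem hιM)
  have hg₂x : ∀ (κ : K) (x : V), (ι * (g * ksieg F QK BK (κ • u) w * g⁻¹) * ι⁻¹) x =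
      x + ι (g (nmap F BK κ u w (g⁻¹ (ι x)))) := by
    intro κ x
    rw [LinearEquiv.mul_apply, LinearEquiv.mul_apply, hg₁x, map_add, hιinv, hιι]
  -- `p₁`
  obtain ⟨a₁, b₁, hp₁⟩ := hn1L (g⁻¹ (ι (g (a₀ • u + b₀ • w))))
  have hQp₁ : ∀ κ : K, QK (κ • nmap F BK 1 u w (g⁻¹ (ι (g (a₀ • u + b₀ • w))))) = 0 := by
    intro κ
    rw [hp₁, C.hQs, hL, mul_zero]
  have hBp₁ : ∀ κ l : K, BK (κ • nmap F BK 1 u w (g⁻¹ (ι (g (a₀ • u + b₀ • w)))))
      (l • nmap F BK 1 u w (g⁻¹ (ι (g (a₀ • u + b₀ • w))))) = 0 := by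
    intro κ l
    have h0 := hQp₁ 1
    rw [one_smul] at h0
    rw [map_smul, map_smul, LinearMap.smul_apply, B_self QK BK C.hQs C.hQp, h0]
    simp
  refine ⟨nmap F BK 1 u w (g⁻¹ (ι (g (a₀ • u + b₀ • w)))), ?_, ?_, ?_⟩
  · -- `p₁ ≠ 0`
    intro h0
    rw [nmap_apply, one_smul] at h0
    have h1 : (-(BK (g⁻¹ (ι (g (a₀ • u + b₀ • w)))) w)) • u +
        (BK (g⁻¹ (ι (g (a₀ • u + b₀ • w)))) u) • w = 0 := by
      rw [← h0, neg_smul]; abel
    obtain ⟨e1, e2⟩ := hind _ _ h1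
    apply hβ
    rw [← hginv, trB_apply, map_add, map_smul, map_smul, e2, neg_eq_zero.mp e1, smul_zero,
      smul_zero, add_zero, map_zero]
  · have := hQp₁ 1
    rwa [one_smul] at this
  · intro κ l
    -- apply COMM_ABS to `κ` and `λ = β • l`
    set b' := g (a₀ • u + b₀ • w) with hb'
    set β := trB τ BK (ι b') b' with hβdef
    set p₁ := nmap F BK 1 u w (g⁻¹ (ι b')) with hp₁def
    set lam : K := algebraMap F K β * l with hlam
    have key := hAB (h12T K g u w) ((h12T K g u w).map ι.toLinearMap) hts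
      (by
        rintro x ⟨y, hy, rfl⟩
        show trQ τ QK (ι y) = 0
        rw [hιO, hts y hy])
      (g.toLinearMap ∘ₗ nmap F BK κ u w ∘ₗ (g⁻¹ : V ≃ₗ[F] V).toLinearMap)
      (ι.toLinearMap ∘ₗ (g.toLinearMap ∘ₗ nmap F BK lam u w ∘ₗ (g⁻¹ : V ≃ₗ[F] V).toLinearMap) ∘ₗ
        ι.toLinearMap)
      (fun x y => by rw [hN'x, hN'x]; exact hs' κ x y)
      (fun x => by rw [hN'x]; exact hi' κ x)
      (fun x hx => by rw [hN'x]; exact hk' κ x hx)
      (fun x y => by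
        rw [hN''x, hN''x, hιB', hs' lam (ι x) (ι y), hιB' x])
      (fun x => by
        rw [hN''x]
        exact Submodule.mem_map_of_mem (hi' lam (ι x)))
      (fun x hx => by
        rw [hN''x, hk' lam (ι x), map_zero]
        intro y hy
        rw [hιB']
        exact hx _ (Submodule.mem_map_of_mem hy))
      (a'' := ι b') (b' := b')
      (Submodule.mem_map_of_mem hb't) hb't hβ
      (by
        rintro x ⟨y, hy, rfl⟩
        obtain ⟨s, hs⟩ := hιt y hy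
        refine ⟨s, ?_⟩
        have : ι.toLinearMap y - s • ι b' = y - s • b' := by
          show ι y - s • ι b' = y - s • b'
          rw [hs, smul_sub]; abel
        rw [this]
        exact Submodule.sub_mem _ hy (Submodule.smul_mem _ s hb't))
      (by
        intro x hx
        obtain ⟨s, hs⟩ := hιt x hx
        refine ⟨s, ?_⟩
        have hmem : x - s • b' ∈ h12T K g u w :=
          Submodule.sub_mem _ hx (Submodule.smul_mem _ s hb't)
        have : x - s • b' = ι.toLinearMap (x - s • b') := by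
          show x - s • b' = ι (x - s • b')
          rw [map_sub, map_smul, hs, smul_sub]; abel
        rw [this]
        exact Submodule.mem_map_of_mem hmem)
      (g * ksieg F QK BK (κ • u) w * g⁻¹) (ι * (g * ksieg F QK BK (lam • u) w * g⁻¹) * ι⁻¹)
      (fun x => by rw [hg₁x, hN'x])
      (fun x => by rw [hg₂x, hN''x])
    -- the commutator is in `M`
    have hcM : ⁅g * ksieg F QK BK (κ • u) w * g⁻¹,
        ι * (g * ksieg F QK BK (lam • u) w * g⁻¹) * ι⁻¹⁆ ∈ M := by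
      rw [commutatorElement_def]
      exact M.mul_mem (M.mul_mem (M.mul_mem (hg₁M κ) (hg₂M lam)) (M.inv_mem (hg₁M κ)))
        (M.inv_mem (hg₂M lam))
    rw [key, hN'x, hN''x, hN'form κ, hN'form lam] at hcM
    -- `ι` fixes `g (lam • p₁)`
    have hfix : ι (g (lam • p₁)) = g (lam • p₁) := by
      apply hιfix
      · rw [← hN'form]; exact hi' lam _
      · have h1 := hs' lam (ι b') (ι b')
        rw [hN'form lam, Bsymm (ι b') _] at h1
        have h2 : (2 : F) * trB τ BK (g (lam • p₁)) (ι b') = 0 := by linear_combination h1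
        exact (mul_eq_zero.mp h2).resolve_left C.h2
    rw [hfix] at hcM
    -- conjugate back by `g⁻¹`
    have hQ1 : trQ τ QK (g (κ • p₁)) = 0 := by
      rw [hgO, trQ_apply, hQp₁ κ, map_zero]
    have hB1 : trB τ BK (g (κ • p₁)) (β⁻¹ • g (lam • p₁)) = 0 := by
      rw [map_smul, smul_eq_mul, hgB, trB_apply, hBp₁ κ lam, map_zero, mul_zero]
    have hconj := conj_sieg (trQ τ QK) (trB τ BK) C.trQ_smul C.trQ_add
      ((oG (trQ τ QK)).inv_mem hgO) hQ1 hB1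
    rw [inv_inv, inv_apply_apply', (g⁻¹).map_smul β⁻¹, inv_apply_apply'] at hconj
    have hfin : β⁻¹ • lam • p₁ = l • p₁ := by
      rw [hlam, ← smul_assoc]
      congr 1
      rw [Algebra.smul_def, ← mul_assoc, ← map_mul, inv_mul_cancel₀ hβ, map_one, one_mul]
    rw [hfin] at hconj
    rw [← hconj]
    exact M.mul_mem (M.mul_mem (M.inv_mem hg) hcM) hg

end Cfsg.Agent.Lib.Helper12_OX2_COMM_APPaux
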