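import Mathlib
import Cfsg.Agent.Lib.Helper97_OX2Defs
import Cfsg.Agent.Lib.Helper94_OrthVec

/-!
OEXT2 market (architect helper97), package COMM_IOTA (helper47): the `K`-reflection `ι` in `u₀`
against the totally singular `F`-subspace `t ⊆ u₀^⊥`.
For `x ∈ t`, `BK x u₀ = z x • θ` with `z x ∈ F`; `ι x = x - (z x / z b') • (b' - ι b')`;
`trB (ι b') b' = -(z b')² ε τ (d⁻¹)`, `d = QK u₀`, and `τ (d⁻¹) = τ d / N(d) ≠ 0`.
-/

set_option autoImplicit false
set_option linter.unusedSectionVars false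
set_option linter.unusedVariables false

namespace Cfsg.Agent.Lib.Helper47_OX2_COMM_IOTA

open Module Cfsg.Agent.Lib.Helper94_OrthSmall Cfsg.Agent.Lib.Helper94_OrthSiegel
  Cfsg.Agent.Lib.Helper98_ExtDefs Cfsg.Agent.Lib.Helper97_OX2Defs
open scoped commutatorElement

variable {F K V : Type*} [Field F] [Field K] [Algebra F K] [AddCommGroup V] [Module F V]
  [Module K V] [IsScalarTower F K V]
variable {θ : K} {ε : F} {τ : K →ₗ[F] F} {QK : V → K} {BK : LinearMap.BilinForm K V}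

/-- `τ (d⁻¹) ≠ 0` when `τ d ≠ 0` -/
theorem tau_inv_ne_zero (C : Ctx θ ε τ QK BK) {d : K} (hτd : τ d ≠ 0) : τ d⁻¹ ≠ 0 := by
  have hd0 : d ≠ 0 := by
    intro h
    apply hτd
    rw [h, map_zero]
  obtain ⟨x, y, hxy⟩ := C.hdec d
  have hx : x ≠ 0 := by
    intro h
    apply hτd
    rw [hxy, C.tau_dec, h]
  have hmul : d * (algebraMap F K x + (-y) • θ) = algebraMap F K (x * x - ε * (y * y)) := by
    rw [hxy]
    simp only [Algebra.smul_def, map_neg, map_sub, map_mul]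
    have := C.hθ
    linear_combination (-(algebraMap F K y * algebraMap F K y)) * this
  have hn : x * x - ε * (y * y) ≠ 0 := by
    intro h
    rw [h, map_zero] at hmul
    rcases mul_eq_zero.mp hmul with h' | h'
    · exact hd0 h'
    · exact hx (C.dec_zero h').1
  have hinv : d⁻¹ = (x * x - ε * (y * y))⁻¹ • (algebraMap F K x + (-y) • θ) := by
    apply inv_eq_of_mul_eq_one_right
    rw [mul_smul_comm, hmul, Algebra.smul_def, ← map_mul, inv_mul_cancel₀ hn, map_one]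
  rw [hinv, map_smul, C.tau_dec, smul_eq_mul]
  exact mul_ne_zero (inv_ne_zero hn) hx

/-- COMM_IOTA: the `K`-reflection in `u₀` against the totally singular `t ⊆ u₀^⊥` -/
theorem iota_props (C : Ctx θ ε τ QK BK) (t : Submodule F V) (hts : ∀ x ∈ t, trQ τ QK x = 0)
    {u₀ : V} (hperp : ∀ z ∈ t, trB τ BK z u₀ = 0) (hτd : τ (QK u₀) ≠ 0) {b' : V} (hb' : b' ∈ t)
    (hne : BK b' u₀ ≠ 0) (ι : V ≃ₗ[F] V) (hι : ∀ x, ι x = x - ((QK u₀)⁻¹ * BK x u₀) • u₀) :
    (∀ x, ι (ι x) = x) ∧ ι ∈ oG (trQ τ QK) ∧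
    (∀ x ∈ t, ∃ s : F, ι x = x - s • (b' - ι b')) ∧
    trB τ BK (ι b') b' ≠ 0 ∧
    (∀ e ∈ t, trB τ BK e (ι b') = 0 → ι e = e) := by
  have hd0 : QK u₀ ≠ 0 := by
    intro h
    apply hτd
    rw [h, map_zero]
  have hτinv : τ (QK u₀)⁻¹ ≠ 0 := tau_inv_ne_zero C hτd
  have hself : BK u₀ u₀ = 2 * QK u₀ := B_self QK BK C.hQs C.hQp u₀
  -- `BK (ι x) u₀ = - BK x u₀`
  have hBι : ∀ x, BK (ι x) u₀ = -BK x u₀ := by
    intro x
    rw [hι, map_sub, LinearMap.sub_apply, map_smul, LinearMap.smul_apply, hself, smul_eq_mul]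
    field_simp
    ring
  have h1 : ∀ x, ι (ι x) = x := by
    intro x
    rw [hι (ι x), hBι, hι x, mul_neg, neg_smul, sub_neg_eq_add, sub_add_cancel]
  have h2 : ι ∈ oG (trQ τ QK) := by
    intro x
    rw [trQ_apply, trQ_apply]
    congr 1
    rw [hι, sub_eq_add_neg, ← neg_smul, C.hQp, C.hQs, map_smul, smul_eq_mul]
    field_simp
    ring
  -- the `F`-valued functional `z`
  have hz : ∀ x ∈ t, BK x u₀ = (ε⁻¹ * τ (θ * BK x u₀)) • θ := by
    intro x hx
    have := C.recon (BK x u₀)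
    have h0 : τ (BK x u₀) = 0 := hperp x hx
    rw [h0, map_zero, zero_add] at this
    exact this
  obtain ⟨z, hzdef⟩ : ∃ z : V → F, z = fun x => ε⁻¹ * τ (θ * BK x u₀) := ⟨_, rfl⟩
  have hz' : ∀ x ∈ t, BK x u₀ = z x • θ := by
    intro x hx
    rw [hzdef]
    exact hz x hx
  have hz1 : z b' ≠ 0 := by
    intro h
    apply hne
    rw [hz' b' hb', h, zero_smul]
  have hdiff : b' - ι b' = ((QK u₀)⁻¹ * (z b' • θ)) • u₀ := by
    rw [hι, hz' b' hb', sub_sub_cancel]
  have h3 : ∀ x ∈ t, ∃ s : F, ι x = x - s • (b' - ι b') := by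
    intro x hx
    refine ⟨z x / z b', ?_⟩
    rw [hdiff, hι, hz' x hx, ← smul_assoc]
    congr 2
    rw [mul_smul_comm, mul_smul_comm, smul_smul, div_mul_cancel₀ _ hz1]
  -- `t` is totally isotropic for `trB`
  have hiso : ∀ e ∈ t, ∀ e' ∈ t, trB τ BK e e' = 0 := by
    intro e he e' he'
    have := C.trQ_add e e'
    rw [hts e he, hts e' he', hts (e + e') (t.add_mem he he'), zero_add, zero_add] at this
    exact this.symm
  -- the general formula
  have hgen : ∀ e ∈ t, trB τ BK e (ι b') = -(z b' * z e * (ε * τ (QK u₀)⁻¹)) := by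
    intro e he
    have h0 : τ (BK e b') = 0 := hiso e he b' hb'
    rw [trB_apply, hι b', map_sub, map_smul, smul_eq_mul, hz' b' hb', hz' e he, map_sub, h0,
      zero_sub, mul_assoc, smul_mul_smul_comm, C.hθ, mul_smul_comm, mul_comm (QK u₀)⁻¹,
      ← Algebra.smul_def, map_smul, map_smul, smul_eq_mul, smul_eq_mul]
  refine ⟨h1, h2, h3, ?_, ?_⟩
  · rw [trB_apply, C.BK_symm, ← trB_apply, hgen b' hb']
    exact neg_ne_zero.mpr (mul_ne_zero (mul_ne_zero hz1 hz1) (mul_ne_zero C.eps_ne_zero hτinv))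
  · intro e he h0
    rw [hgen e he, neg_eq_zero] at h0
    have hze : z e = 0 := by
      rcases mul_eq_zero.mp h0 with h' | h'
      · rcases mul_eq_zero.mp h' with h'' | h''
        · exact absurd h'' hz1
        · exact h''
      · exact absurd h' (mul_ne_zero C.eps_ne_zero hτinv)
    rw [hι, hz' e he, hze, zero_smul, mul_zero, zero_smul, sub_zero]

end Cfsg.Agent.Lib.Helper47_OX2_COMM_IOTA
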