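import Mathlib
import Cfsg.Agent.Lib.Helper97_OX2Defs
import Cfsg.Agent.Lib.Helper94_OrthVec

set_option autoImplicit false
set_option linter.unusedSectionVars false
set_option linter.unusedVariables false

/-!
# OEXT2 (architect helper97), package COMM_N (helper48): the nilpotent part of a `K`-Siegel element
of a totally singular `K`-line.
-/

namespace Cfsg.Agent.Lib.Helper48_OX2_COMM_N

open Module Cfsg.Agent.Lib.Helper94_OrthSmall Cfsg.Agent.Lib.Helper94_OrthSiegel
  Cfsg.Agent.Lib.Helper98_ExtDefs Cfsg.Agent.Lib.Helper97_OX2Defs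
open scoped commutatorElement

variable {F K V : Type*} [Field F] [Field K] [Algebra F K] [AddCommGroup V] [Module F V]
  [Module K V] [IsScalarTower F K V]
variable {θ : K} {ε : F} {τ : K →ₗ[F] F} {QK : V → K} {BK : LinearMap.BilinForm K V}

/-- COMM_N: the nilpotent part of a `K`-Siegel element of a totally singular `K`-line -/
theorem nmap_props (C : Ctx θ ε τ QK BK) {u w : V} (hu : QK u = 0) (hw : QK w = 0)
    (huw : BK u w = 0) (κ : K) :
    (∀ x, ksieg F QK BK (κ • u) w x = x + nmap F BK κ u w x) ∧
    (∀ x y, trB τ BK (nmap F BK κ u w x) y = -trB τ BK x (nmap F BK κ u w y)) ∧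
    (∀ x, (∀ a b : K, trB τ BK x (a • u + b • w) = 0) → nmap F BK κ u w x = 0) ∧
    (∀ x, nmap F BK κ u w x = κ • nmap F BK 1 u w x) ∧
    (∀ x, ∃ a b : K, nmap F BK 1 u w x = a • u + b • w) := by
  refine ⟨?_, ?_, ?_, ?_, ?_⟩
  · intro x
    have hu' : QK (κ • u) = 0 := by rw [C.hQs, hu, mul_zero]
    have huw' : BK (κ • u) w = 0 := by rw [map_smul, LinearMap.smul_apply, huw, smul_zero]
    rw [C.ksieg_apply hu' huw', nmap_apply, hw, zero_mul, zero_smul, sub_zero, map_smul,
      smul_eq_mul, smul_sub, smul_smul, smul_smul, smul_smul, mul_comm (BK x w) κ, add_sub_assoc]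
  · intro x y
    rw [trB_apply, trB_apply, nmap_apply, nmap_apply, ← map_neg]
    congr 1
    simp only [map_smul, map_sub, LinearMap.smul_apply, LinearMap.sub_apply, smul_eq_mul]
    rw [C.BK_symm w y, C.BK_symm u y]
    ring
  · intro x hx
    have h1 : BK x u = 0 := by
      apply C.eq_zero_of_tau_mul
      intro k'
      have := hx k' 0
      rwa [zero_smul, add_zero, trB_apply, map_smul, smul_eq_mul] at this
    have h2 : BK x w = 0 := by
      apply C.eq_zero_of_tau_mul
      intro k'
      have := hx 0 k'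
      rwa [zero_smul, zero_add, trB_apply, map_smul, smul_eq_mul] at this
    rw [nmap_apply, h1, h2, zero_smul, zero_smul, sub_zero, smul_zero]
  · intro x
    rw [nmap_apply, nmap_apply, one_smul]
  · intro x
    refine ⟨-BK x w, BK x u, ?_⟩
    rw [nmap_apply, one_smul, neg_smul]
    abel

end Cfsg.Agent.Lib.Helper48_OX2_COMM_N
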