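import Mathlib
import Cfsg.Agent.Lib.Helper97_OX2Defs
import Cfsg.Agent.Lib.Helper94_OrthVec

set_option autoImplicit false
set_option linter.unusedSectionVars false
set_option linter.unusedVariables false

/-!
OEXT2 market (helper97 architect), package COMM_ABS: the commutator of `1 + N'` and `1 + N''` for two skew nilpotent maps
attached to two totally singular subspaces meeting in codimension one with pairing of rank one is a Siegel element.
-/

namespace Cfsg.Agent.Lib.Helper93_OX2_COMM_ABS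

open Module Cfsg.Agent.Lib.Helper94_OrthSmall Cfsg.Agent.Lib.Helper94_OrthSiegel
  Cfsg.Agent.Lib.Helper98_ExtDefs Cfsg.Agent.Lib.Helper97_OX2Defs
open scoped commutatorElement

section GEO

variable {K V : Type*} [Field K] [AddCommGroup V] [Module K V]
  (Q : V → K) (B : LinearMap.BilinForm K V)
  (hQs : ∀ (c : K) (v : V), Q (c • v) = c * c * Q v)
  (hQp : ∀ u v : V, Q (u + v) = Q u + Q v + B u v)

include hQs hQp

/-- COMM_ABS: the commutator of `1 + N'` and `1 + N''` -/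
theorem comm_abs (h2 : (2 : K) ≠ 0) (t' t'' : Submodule K V) (ht' : ∀ x ∈ t', Q x = 0)
    (ht'' : ∀ x ∈ t'', Q x = 0) (N' N'' : V →ₗ[K] V)
    (hs' : ∀ x y, B (N' x) y = -B x (N' y)) (hi' : ∀ x, N' x ∈ t')
    (hk' : ∀ x, (∀ y ∈ t', B x y = 0) → N' x = 0)
    (hs'' : ∀ x y, B (N'' x) y = -B x (N'' y)) (hi'' : ∀ x, N'' x ∈ t'')
    (hk'' : ∀ x, (∀ y ∈ t'', B x y = 0) → N'' x = 0)
    {a'' b' : V} (ha : a'' ∈ t'') (hb : b' ∈ t') (hβ : B a'' b' ≠ 0)
    (h1 : ∀ x ∈ t'', ∃ s : K, x - s • a'' ∈ t') (h2' : ∀ x ∈ t', ∃ s : K, x - s • b' ∈ t'')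
    (g₁ g₂ : V ≃ₗ[K] V) (hg₁ : ∀ x, g₁ x = x + N' x) (hg₂ : ∀ x, g₂ x = x + N'' x) :
    ⁅g₁, g₂⁆ = sieg Q B (N' a'') ((B a'' b')⁻¹ • N'' b') := by
  have hsymm := B_symm Q B hQp
  have hB0' : ∀ x ∈ t', ∀ y ∈ t', B x y = 0 := by
    intro x hx y hy
    rw [B_eq Q B hQp, ht' _ (t'.add_mem hx hy), ht' x hx, ht' y hy]
    ring
  have hB0'' : ∀ x ∈ t'', ∀ y ∈ t'', B x y = 0 := by
    intro x hx y hy
    rw [B_eq Q B hQp, ht'' _ (t''.add_mem hx hy), ht'' x hx, ht'' y hy]
    ring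
  have hNN' : ∀ x, N' (N' x) = 0 := fun x => hk' _ (fun y hy => hB0' _ (hi' x) y hy)
  have hNN'' : ∀ x, N'' (N'' x) = 0 := fun x => hk'' _ (fun y hy => hB0'' _ (hi'' x) y hy)
  set β : K := B a'' b' with hβdef
  set e' : V := N' a'' with he'
  set e'' : V := N'' b' with he''
  have hN't'' : ∀ x ∈ t'', N' x = (β⁻¹ * B x b') • e' := by
    intro x hx
    obtain ⟨s, hs⟩ := h1 x hx
    have h0 : N' (x - s • a'') = 0 := hk' _ (fun y hy => hB0' _ hs y hy)
    rw [map_sub, map_smul, sub_eq_zero] at h0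
    have hsβ : B x b' = s * β := by
      have := hB0' _ hs b' hb
      rw [map_sub, LinearMap.sub_apply, map_smul, LinearMap.smul_apply, smul_eq_mul] at this
      linear_combination this
    rw [h0, hsβ]
    congr 1
    field_simp
  have hN''t' : ∀ x ∈ t', N'' x = (β⁻¹ * B x a'') • e'' := by
    intro x hx
    obtain ⟨s, hs⟩ := h2' x hx
    have h0 : N'' (x - s • b') = 0 := hk'' _ (fun y hy => hB0'' _ hs y hy)
    rw [map_sub, map_smul, sub_eq_zero] at h0
    have hsβ : B x a'' = s * β := by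
      have := hB0'' _ hs a'' ha
      rw [map_sub, LinearMap.sub_apply, map_smul, LinearMap.smul_apply, smul_eq_mul,
        hsymm b' a''] at this
      linear_combination this
    rw [h0, hsβ]
    congr 1
    field_simp
  have hbe'' : B e'' b' = 0 := by
    have := hs'' b' b'
    rw [hsymm b' (N'' b')] at this
    have h3 : 2 * B e'' b' = 0 := by linear_combination this
    rcases mul_eq_zero.mp h3 with h | h
    · exact absurd h h2
    · exact h
  have hae' : B e' a'' = 0 := by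
    have := hs' a'' a''
    rw [hsymm a'' (N' a'')] at this
    have h3 : 2 * B e' a'' = 0 := by linear_combination this
    rcases mul_eq_zero.mp h3 with h | h
    · exact absurd h h2
    · exact h
  have hN'e'' : N' e'' = 0 := by
    rw [hN't'' e'' (hi'' b'), hbe'', mul_zero, zero_smul]
  have hN''e' : N'' e' = 0 := by
    rw [hN''t' e' (hi' a''), hae', mul_zero, zero_smul]
  have hN'e' : N' e' = 0 := hNN' a''
  have hAC : ∀ x, N' (N'' x) = -((β⁻¹ * B x e'') • e') := by
    intro x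
    rw [hN't'' _ (hi'' x), hs'' x b', mul_neg, neg_smul]
  have hCA : ∀ x, N'' (N' x) = -((β⁻¹ * B x e') • e'') := by
    intro x
    rw [hN''t' _ (hi' x), hs' x a'', mul_neg, neg_smul]
  have hg₁inv : ∀ y, g₁⁻¹ y = y - N' y := by
    intro y
    have h3 : g₁ (y - N' y) = y := by
      rw [hg₁, map_sub, hNN']
      abel
    calc g₁⁻¹ y = g₁⁻¹ (g₁ (y - N' y)) := by rw [h3]
      _ = (g₁⁻¹ * g₁) (y - N' y) := rfl
      _ = y - N' y := by rw [inv_mul_cancel]; rfl
  have hg₂inv : ∀ y, g₂⁻¹ y = y - N'' y := by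
    intro y
    have h3 : g₂ (y - N'' y) = y := by
      rw [hg₂, map_sub, hNN'']
      abel
    calc g₂⁻¹ y = g₂⁻¹ (g₂ (y - N'' y)) := by rw [h3]
      _ = (g₂⁻¹ * g₂) (y - N'' y) := rfl
      _ = y - N'' y := by rw [inv_mul_cancel]; rfl
  -- the Siegel element
  have hQe' : Q e' = 0 := ht' _ (hi' a'')
  have hQe'' : Q e'' = 0 := ht'' _ (hi'' b')
  have he'e'' : B e' e'' = 0 := by
    rw [he', hs' a'' e'', hN'e'', map_zero, neg_zero]
  have huz : B e' (β⁻¹ • e'') = 0 := by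
    rw [map_smul, he'e'', smul_zero]
  ext x
  rw [sieg_apply Q B hQs hQp hQe' huz, commutatorElement_def]
  simp only [LinearEquiv.mul_apply]
  rw [hg₂inv, hg₁inv, hg₂, hg₁]
  simp only [map_sub, map_add, map_neg, map_smul, hNN', hNN'', hAC, hCA, hN'e'', hN''e', hN'e',
    smul_zero, neg_zero, sub_zero, smul_eq_mul, hQs, hQe'', mul_zero, zero_mul,
    zero_smul]
  module

end GEO

end Cfsg.Agent.Lib.Helper93_OX2_COMM_ABS
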