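import Mathlib
import Cfsg.Agent.Lib.Helper97_OX2Defs
import Cfsg.Agent.Lib.Helper94_OrthVec
import Cfsg.Agent.Lib.Helper12_OX2_COMM_APPaux
import Cfsg.Agent.Lib.Helper47_OX2_COMM_IOTA
import Cfsg.Agent.Lib.Helper48_OX2_COMM_N
import Cfsg.Agent.Lib.Helper93_OX2_COMM_ABS

set_option autoImplicit false
set_option linter.unusedSectionVars false
set_option linter.unusedVariables false

namespace Cfsg.Agent.Lib.Helper12_OX2_COMM_APP

open Module Cfsg.Agent.Lib.Helper94_OrthSmall Cfsg.Agent.Lib.Helper94_OrthSiegel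
  Cfsg.Agent.Lib.Helper98_ExtDefs Cfsg.Agent.Lib.Helper97_OX2Defs
open scoped commutatorElement

variable {F K V : Type*} [Field F] [Field K] [Algebra F K] [AddCommGroup V] [Module F V]
  [Module K V] [IsScalarTower F K V]
variable {θ : K} {ε : F} {τ : K →ₗ[F] F} {QK : V → K} {BK : LinearMap.BilinForm K V}

/-- COMM_APP: from the configuration `u₀` to a long root group of `M`
(assembly of COMM_N, COMM_IOTA, COMM_ABS through `Helper12_OX2_COMM_APPaux.root_of_u0_of`). -/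
theorem root_of_u0 (C : Ctx θ ε τ QK BK) (M : Subgroup (V ≃ₗ[F] V)) (hM : HypO τ QK BK M)
    {g : V ≃ₗ[F] V} (hg : g ∈ M) {u w : V} (hu : QK u = 0) (hw : QK w = 0) (huw : BK u w = 0)
    (hind : ∀ x y : K, x • u + y • w = 0 → x = 0 ∧ y = 0)
    {u₀ : V} (hperp : ∀ a b : K, trB τ BK (g (a • u + b • w)) u₀ = 0) (hτd : τ (QK u₀) ≠ 0)
    (hns : ¬ IsSquare (QK u₀)) {a₀ b₀ : K} (hne : BK (g (a₀ • u + b₀ • w)) u₀ ≠ 0) :
    ∃ p₁ : V, p₁ ≠ 0 ∧ QK p₁ = 0 ∧ Root τ QK BK M p₁ :=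
  Cfsg.Agent.Lib.Helper12_OX2_COMM_APPaux.root_of_u0_of C M hM
    (fun hu hw huw κ => Cfsg.Agent.Lib.Helper48_OX2_COMM_N.nmap_props C hu hw huw κ)
    (fun t hts _ hperp hτd _ hb' hne ι hι =>
      Cfsg.Agent.Lib.Helper47_OX2_COMM_IOTA.iota_props C t hts hperp hτd hb' hne ι hι)
    (fun t' t'' ht' ht'' N' N'' hs' hi' hk' hs'' hi'' hk'' _ _ ha hb hβ h1 h2' g₁ g₂ hg₁ hg₂ =>
      Cfsg.Agent.Lib.Helper93_OX2_COMM_ABS.comm_abs (trQ τ QK) (trB τ BK) C.trQ_smul C.trQ_add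
        C.h2 t' t'' ht' ht'' N' N'' hs' hi' hk' hs'' hi'' hk'' ha hb hβ h1 h2' g₁ g₂ hg₁ hg₂)
    hg hu hw huw hind hperp hτd hns hne

end Cfsg.Agent.Lib.Helper12_OX2_COMM_APP
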