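import Mathlib
import Cfsg.Agent.Lib.Helper56_PGDefs

/-!
# S4085 package TWOF (architect helper56; formalised by helper12): auxiliary form

`phiTwo_of_orderOf_aux` : the statement of TWOF with the conclusions of L2 (`cls_of_npp`),
L3 (`cls_of_mem_zpowers_npp`) and COUNTB (`card_lo_of_npp`) as hypotheses.
-/

namespace Cfsg.Agent.Lib.Helper12_PG_TWOFaux
open Cfsg.Agent.Lib.Helper56_PGDefs

theorem phiTwo_of_orderOf_aux {G : Type*} [Group G] [Finite G]
    (hS : ∀ x : G, Dom (Cmp (G := G)) x → x = 1)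
    (hL2 : ∀ {x : G}, NPP (orderOf x) → cls (Cmp (G := G)) x = Nat.totient (orderOf x))
    (hL3 : ∀ {x y : G}, NPP (orderOf x) → y ∈ Subgroup.zpowers x →
      cls (Cmp (G := G)) y = Nat.totient (orderOf y))
    (hCB : ∀ {x : G}, NPP (orderOf x) → Nat.card (Lo (Cmp (G := G)) x) =
      orderOf x - Nat.totient (orderOf x) -
        (if orderOf x % 4 = 2 then Nat.totient (orderOf x) else 0))
    {q : ℕ} (hq : q.Prime) (hq2 : q ≠ 2) {g : G}
    (hg : orderOf g = 2 * q) : PhiTwo (Cmp (G := G)) q := by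
  have hq0 : q ≠ 0 := hq.ne_zero
  have hqodd : Odd q := hq.odd_of_ne_two hq2
  have hq3 : 3 ≤ q := by
    have := hq.two_le
    omega
  have hnpp : NPP (orderOf g) := by
    rw [hg]
    exact ⟨2, q, Nat.prime_two, hq, fun h => hq2 h.symm, dvd_mul_right 2 q, dvd_mul_left q 2⟩
  -- orders
  have hot : orderOf (g ^ q) = 2 := by
    rw [orderOf_pow_of_dvd hq0 (by rw [hg]; exact dvd_mul_left q 2), hg,
      Nat.mul_div_cancel _ hq.pos]
  have hoy : orderOf (g ^ 2) = q := by
    rw [orderOf_pow_of_dvd two_ne_zero (by rw [hg]; exact dvd_mul_right 2 q), hg,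
      Nat.mul_div_cancel_left _ two_pos]
  have htmem : g ^ q ∈ Subgroup.zpowers g := Subgroup.npow_mem_zpowers g q
  have hymem : g ^ 2 ∈ Subgroup.zpowers g := Subgroup.npow_mem_zpowers g 2
  have hcop : Nat.Coprime 2 q := (Nat.coprime_primes Nat.prime_two hq).mpr (fun h => hq2 h.symm)
  have hphi : Nat.totient (2 * q) = q - 1 := by
    rw [Nat.totient_mul hcop, Nat.totient_two, one_mul, Nat.totient_prime hq]
  refine ⟨g, g ^ q, g ^ 2, ?_, ?_, ?_, ?_, ?_, ?_, ?_, ?_⟩
  · -- `t` is not dominating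
    intro hd
    have h1 := hS _ hd
    rw [h1, orderOf_one] at hot
    omega
  · -- `cls t = 1`
    rw [hL3 hnpp htmem, hot, Nat.totient_two]
  · -- `Cmp t g`
    exact Or.inl htmem
  · -- `cls g = q - 1`
    rw [hL2 hnpp, hg, hphi]
  · -- `|Lo g| = 2`
    rw [hCB hnpp, hg, hphi]
    have h4 : 2 * q % 4 = 2 := by
      rcases hqodd with ⟨k, hk⟩
      omega
    rw [if_pos h4]
    omega
  · -- `Cmp g y`
    exact Or.inr hymem
  · -- `¬ Cmp y t`
    rintro (h | h)
    · have h1 := orderOf_dvd_of_mem_zpowers h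
      rw [hoy, hot] at h1
      exact hq2 ((Nat.prime_dvd_prime_iff_eq hq Nat.prime_two).mp h1)
    · have h1 := orderOf_dvd_of_mem_zpowers h
      rw [hoy, hot] at h1
      exact hq2 ((Nat.prime_dvd_prime_iff_eq Nat.prime_two hq).mp h1).symm
  · -- `cls y = q - 1`
    rw [hL3 hnpp hymem, hoy, Nat.totient_prime hq]

end Cfsg.Agent.Lib.Helper12_PG_TWOFaux
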