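import Mathlib
import Cfsg.Agent.Lib.Helper56_PGDefs
import Cfsg.Agent.Lib.Helper12_PG_TWOFaux
import Cfsg.Agent.Lib.Helper89_PG_L2
import Cfsg.Agent.Lib.Helper89_PG_L3
import Cfsg.Agent.Lib.Helper10_PG_COUNTB

/-!
# S4085 package TWOF (architect helper56; formalised by helper12)

An element of order `2 q` (`q` an odd prime) makes the graph criterion `PhiTwo q` true.
-/

namespace Cfsg.Agent.Lib.Helper12_PG_TWOF
open Cfsg.Agent.Lib.Helper56_PGDefs

section main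
variable {G : Type*} [Group G] [Finite G] (hS : ∀ x : G, Dom (Cmp (G := G)) x → x = 1)
include hS

theorem phiTwo_of_orderOf {q : ℕ} (hq : q.Prime) (hq2 : q ≠ 2) {g : G}
    (hg : orderOf g = 2 * q) : PhiTwo (Cmp (G := G)) q :=
  Cfsg.Agent.Lib.Helper12_PG_TWOFaux.phiTwo_of_orderOf_aux hS
    (fun hx => Cfsg.Agent.Lib.Helper89_PG_L2.cls_of_npp hS hx)
    (fun hx hy => Cfsg.Agent.Lib.Helper89_PG_L3.cls_of_mem_zpowers_npp hS hx hy)
    (fun hx => Cfsg.Agent.Lib.Helper10_PG_COUNTB.card_lo_of_npp hS hx) hq hq2 hg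

end main

end Cfsg.Agent.Lib.Helper12_PG_TWOF
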