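import Mathlib.GroupTheory.GroupAction.Basic
import Mathlib.GroupTheory.GroupAction.Primitive
import Mathlib.GroupTheory.Perm.Basic
import Mathlib.GroupTheory.Subgroup.Centralizer

/-!
Shared lemmas on permutation groups (subgroups of `Equiv.Perm α`): centralisers of transitive
groups are semiregular, a semiregular group containing a transitive one equals it, and the
centraliser of a regular group is transitive.
-/

set_option autoImplicit false

namespace Cfsg.Agent.Lib.Helper12_Perm

variable {α : Type*}

/-- A subgroup of `Perm α` is transitive iff any point can be moved to any other. -/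
theorem isPretransitive_iff (H : Subgroup (Equiv.Perm α)) :
    MulAction.IsPretransitive H α ↔ ∀ a b : α, ∃ h ∈ H, h a = b := by
  constructor
  · intro h a b
    obtain ⟨g, hg⟩ := h.exists_smul_eq a b
    exact ⟨g, g.2, hg⟩
  · intro h
    exact ⟨fun a b => let ⟨g, hg, hgab⟩ := h a b; ⟨⟨g, hg⟩, hgab⟩⟩

/-- The stabilizer of a point in a subgroup of `Perm α` is trivial iff only the identity fixes
the point. -/
theorem stabilizer_eq_bot_iff (H : Subgroup (Equiv.Perm α)) (a : α) :
    MulAction.stabilizer H a = ⊥ ↔ ∀ h ∈ H, h a = a → h = 1 := by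
  rw [Subgroup.eq_bot_iff_forall]
  constructor
  · intro h g hg hga
    have := h ⟨g, hg⟩ hga
    exact congrArg Subtype.val this
  · intro h g hg
    exact Subtype.ext (h g g.2 hg)

/-- A permutation commuting with a transitive set of permutations and fixing a point is trivial. -/
theorem eq_one_of_commute_of_fixed (H : Subgroup (Equiv.Perm α))
    (htr : ∀ a b : α, ∃ h ∈ H, h a = b) (c : Equiv.Perm α)
    (hc : ∀ h ∈ H, h * c = c * h) (a : α) (hca : c a = a) : c = 1 := by
  ext x
  obtain ⟨h, hh, rfl⟩ := htr a x
  have := congrArg (fun σ : Equiv.Perm α => σ a) (hc h hh)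
  simp only [Equiv.Perm.coe_mul, Function.comp_apply, hca] at this
  simpa using this.symm

/-- The centraliser of a transitive permutation group is semiregular. -/
theorem centralizer_semiregular (H : Subgroup (Equiv.Perm α))
    (htr : ∀ a b : α, ∃ h ∈ H, h a = b) (c : Equiv.Perm α)
    (hc : c ∈ Subgroup.centralizer (H : Set (Equiv.Perm α))) (a : α) (hca : c a = a) : c = 1 :=
  eq_one_of_commute_of_fixed H htr c (fun h hh => Subgroup.mem_centralizer_iff.mp hc h hh) a hca

/-- A semiregular permutation group containing a transitive one is equal to it. -/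
theorem eq_of_le_of_transitive_of_semiregular (K L : Subgroup (Equiv.Perm α)) (hKL : K ≤ L)
    (htr : ∀ a b : α, ∃ h ∈ K, h a = b) (hsr : ∀ c ∈ L, ∀ a : α, c a = a → c = 1)
    [Nonempty α] : K = L := by
  apply le_antisymm hKL
  intro c hc
  obtain ⟨a⟩ := ‹Nonempty α›
  obtain ⟨k, hk, hka⟩ := htr a (c a)
  have : k⁻¹ * c = 1 := by
    apply hsr _ (L.mul_mem (L.inv_mem (hKL hk)) hc) a
    simp [← hka]
  have : c = k := by
    have := congrArg (fun x => k * x) this
    simpa using this
  rw [this]; exact hk

/-- The centraliser of a regular permutation group is transitive. -/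
theorem centralizer_transitive_of_regular (H : Subgroup (Equiv.Perm α))
    (htr : ∀ a b : α, ∃ h ∈ H, h a = b) (hreg : ∀ h ∈ H, ∀ a : α, h a = a → h = 1) (a b : α) :
    ∃ c ∈ Subgroup.centralizer (H : Set (Equiv.Perm α)), c a = b := by
  classical
  -- for every base point `u`, choose `g u x ∈ H` moving `u` to `x`
  choose g hgH hg using htr
  have key : ∀ (u : α) (h : Equiv.Perm α), h ∈ H → g u (h u) = h := by
    intro u h hh
    have h1 : (h⁻¹ * g u (h u)) = 1 := by
      apply hreg _ (H.mul_mem (H.inv_mem hh) (hgH u (h u))) u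
      simp [hg]
    have := congrArg (fun x => h * x) h1
    simpa using this
  -- the map `x ↦ (g u x) v`
  let f : α → α → α → α := fun u v x => g u x v
  have hf : ∀ u v (h : Equiv.Perm α), h ∈ H → ∀ x, f u v (h x) = h (f u v x) := by
    intro u v h hh x
    have hx : h x = (h * g u x) u := by simp [hg]
    change g u (h x) v = h (g u x v)
    rw [hx, key u _ (H.mul_mem hh (hgH u x))]
    simp
  have hfu : ∀ u v, f u v u = v := by
    intro u v
    change g u u v = v
    have := key u 1 H.one_mem
    simp only [Equiv.Perm.coe_one, id_eq] at this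
    rw [this]; rfl
  have hinv : ∀ u v x, f v u (f u v x) = x := by
    intro u v x
    have h1 : f u v x = g u x v := rfl
    rw [h1, hf v u _ (hgH u x), hfu, hg]
  refine ⟨⟨f a b, f b a, hinv a b, hinv b a⟩, ?_, hfu a b⟩
  rw [Subgroup.mem_centralizer_iff]
  intro h hh
  ext x
  simp only [Equiv.Perm.coe_mul, Function.comp_apply, Equiv.coe_fn_mk]
  exact (hf a b h hh x).symm

end Cfsg.Agent.Lib.Helper12_Perm
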