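import Mathlib
import Cfsg.Prelude.Def_Perm
import Cfsg.Agent.S0673

/-!
Permutation groups of prime degree via polynomial functions (after P. Müller's proof of
Burnside's theorem): if a group `G` of permutations of `ZMod p` containing the translation
`x ↦ x + 1` leaves invariant the space of polynomial functions of degree `< r` for some
`2 ≤ r ≤ p - 2`, then `G` consists of affine maps.
-/

set_option autoImplicit false

namespace Cfsg.Agent.Lib.Helper12_PrimeDeg

open Polynomial Cfsg.Agent.S0673

variable {p : ℕ} [hp : Fact p.Prime] {K : Type*} [Field K] [CharP K p]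

/-- uniqueness of the polynomial of degree `< p` representing a function -/
theorem poly_eq_of_eval_eq {P Q : K[X]} (hP : P.degree < p) (hQ : Q.degree < p)
    (h : ∀ j : ZMod p, P.eval (ZMod.cast j : K) = Q.eval (ZMod.cast j : K)) : P = Q := by
  rw [← sub_eq_zero]
  by_contra hne
  have hdeg : (P - Q).degree < p := lt_of_le_of_lt (Polynomial.degree_sub_le P Q) (max_lt hP hQ)
  have hnat : (P - Q).natDegree < p := (Polynomial.natDegree_lt_iff_degree_lt hne).mpr hdeg
  apply hne
  apply Polynomial.eq_zero_of_natDegree_lt_card_of_eval_eq_zero (P - Q)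
    (cast_injective (p := p) (K := K))
  · intro j
    rw [Polynomial.eval_sub, h j, sub_self]
  · rw [ZMod.card]; exact hnat

/-- a polynomial of degree `< p` whose function lies in `polyFun r` has degree `< r` -/
theorem degree_lt_of_mem_polyFun {P : K[X]} {r : ℕ} (hr : r ≤ p) (hP : P.degree < p)
    (h : (fun j : ZMod p => P.eval (ZMod.cast j : K)) ∈ polyFun p K r) : P.degree < r := by
  rw [mem_polyFun] at h
  obtain ⟨Q, hQ, hQf⟩ := h
  have hQp : Q.degree < p := lt_of_lt_of_le hQ (by exact_mod_cast hr)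
  have := poly_eq_of_eval_eq hP hQp hQf
  rw [this]; exact hQ

omit hp [CharP K p] in
theorem polyFun_mono {r s : ℕ} (h : r ≤ s) : polyFun p K r ≤ polyFun p K s := by
  intro f hf
  rw [mem_polyFun] at hf ⊢
  obtain ⟨P, hP, hPf⟩ := hf
  exact ⟨P, lt_of_lt_of_le hP (by exact_mod_cast h), hPf⟩

theorem polyFun_top : polyFun p K p = ⊤ := by
  apply Submodule.eq_top_of_finrank_eq
  rw [finrank_polyFun p le_rfl, Module.finrank_fintype_fun_eq_card, ZMod.card]

/-- every function is a polynomial function of degree `< p` -/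
theorem exists_poly (f : ZMod p → K) :
    ∃ P : K[X], P.degree < p ∧ ∀ j : ZMod p, f j = P.eval (ZMod.cast j : K) := by
  have : f ∈ polyFun p K p := by rw [polyFun_top]; trivial
  exact mem_polyFun.mp this

/-- power sums over the prime field -/
theorem sum_cast_pow (m : ℕ) (hm : m < p) :
    ∑ j : ZMod p, (ZMod.cast j : K) ^ m = if m = p - 1 then -1 else 0 := by
  have hcast : ∀ j : ZMod p, (ZMod.cast j : K) ^ m = ZMod.castHom (dvd_refl p) K (j ^ m) := by
    intro j
    rw [map_pow]; rfl
  simp_rw [hcast]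
  rw [← map_sum]
  split_ifs with h
  · have : ∑ j : ZMod p, j ^ m = -1 := by
      rw [h]
      have h1 : ∀ j : ZMod p, j ^ (p - 1) = if j = 0 then 0 else 1 := by
        intro j
        split_ifs with hj
        · rw [hj, zero_pow]
          have := hp.out.two_le
          omega
        · exact ZMod.pow_card_sub_one_eq_one hj
      simp_rw [h1]
      rw [Finset.sum_ite, Finset.sum_const_zero, zero_add, Finset.sum_const, nsmul_one]
      have hcard : (Finset.univ.filter (fun j : ZMod p => ¬ j = 0)).card = p - 1 := by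
        rw [Finset.filter_not, Finset.card_sdiff_of_subset (Finset.subset_univ _), Finset.card_univ,
          ZMod.card, Finset.filter_eq', if_pos (Finset.mem_univ _), Finset.card_singleton]
      rw [hcard]
      have := hp.out.one_le
      rw [Nat.cast_sub this]
      simp
    rw [this, map_neg, map_one]
  · have : ∑ j : ZMod p, j ^ m = 0 := by
      apply FiniteField.sum_pow_lt_card_sub_one
      rw [ZMod.card]
      omega
    rw [this, map_zero]

/-- the sum of the values of a polynomial of degree `< p` -/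
theorem sum_eval (R : K[X]) (hR : R.natDegree < p) :
    ∑ j : ZMod p, R.eval (ZMod.cast j : K) = - R.coeff (p - 1) := by
  have h1 : ∀ j : ZMod p, R.eval (ZMod.cast j : K) =
      ∑ m ∈ Finset.range p, R.coeff m * (ZMod.cast j : K) ^ m := fun j =>
    Polynomial.eval_eq_sum_range' hR _
  simp_rw [h1]
  rw [Finset.sum_comm]
  simp_rw [← Finset.mul_sum]
  have h2 : ∀ m ∈ Finset.range p, R.coeff m * ∑ j : ZMod p, (ZMod.cast j : K) ^ m =
      if m = p - 1 then - R.coeff (p - 1) else 0 := by
    intro m hm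
    rw [sum_cast_pow m (Finset.mem_range.mp hm)]
    split_ifs with h
    · rw [h]; ring
    · ring
  rw [Finset.sum_congr rfl h2, Finset.sum_ite_eq']
  have : p - 1 ∈ Finset.range p := by
    rw [Finset.mem_range]
    have := hp.out.one_le
    omega
  rw [if_pos this]


/-- the orthogonal complement of `polyFun s` for the dot product is `polyFun (p - s)` -/
theorem mem_orth_iff {s : ℕ} (hsp : s ≤ p) (h : ZMod p → K) :
    (∀ f ∈ polyFun p K s, ∑ j, f j * h j = 0) ↔ h ∈ polyFun p K (p - s) := by
  have hp1 := hp.out.one_le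
  constructor
  · intro horth
    obtain ⟨Q, hQ, hQh⟩ := exists_poly h
    rw [mem_polyFun]
    refine ⟨Q, ?_, hQh⟩
    by_contra hcon
    have hQ0 : Q ≠ 0 := by
      rintro rfl
      apply hcon
      rw [degree_zero]
      exact WithBot.bot_lt_coe _
    have hm_lt : Q.natDegree < p := (natDegree_lt_iff_degree_lt hQ0).mpr hQ
    have hm_ge : p - s ≤ Q.natDegree := by
      by_contra hlt
      push Not at hlt
      exact hcon ((natDegree_lt_iff_degree_lt hQ0).mp hlt)
    obtain ⟨a, ha⟩ : ∃ a, Q.natDegree + a = p - 1 := ⟨p - 1 - Q.natDegree, by omega⟩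
    have hf : (fun j : ZMod p => (ZMod.cast j : K) ^ a) ∈ polyFun p K s := by
      rw [mem_polyFun]
      refine ⟨X ^ a, ?_, fun j => by simp⟩
      rw [degree_X_pow]
      exact_mod_cast (by omega : a < s)
    have h1 := horth _ hf
    have h2 : ∑ j : ZMod p, (ZMod.cast j : K) ^ a * h j =
        ∑ j : ZMod p, (X ^ a * Q).eval (ZMod.cast j : K) := by
      apply Finset.sum_congr rfl
      intro j _
      rw [hQh j]
      simp
    have hnd : (X ^ a * Q).natDegree = p - 1 := by
      rw [natDegree_X_pow_mul a hQ0]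
      exact ha
    rw [h2, sum_eval _ (by rw [hnd]; omega), neg_eq_zero, ← ha, coeff_X_pow_mul] at h1
    exact hQ0 (leadingCoeff_eq_zero.mp h1)
  · intro hh f hf
    obtain ⟨P, hP, hPf⟩ := mem_polyFun.mp hf
    obtain ⟨Q, hQ, hQh⟩ := mem_polyFun.mp hh
    have h1 : ∑ j, f j * h j = ∑ j : ZMod p, (P * Q).eval (ZMod.cast j : K) := by
      apply Finset.sum_congr rfl
      intro j _
      rw [hPf, hQh, eval_mul]
    by_cases hP0 : P = 0
    · rw [h1, hP0]; simp
    by_cases hQ0 : Q = 0
    · rw [h1, hQ0]; simp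
    have hPn : P.natDegree < s := (natDegree_lt_iff_degree_lt hP0).mpr hP
    have hQn : Q.natDegree < p - s := (natDegree_lt_iff_degree_lt hQ0).mpr hQ
    have hPQ : (P * Q).natDegree < p - 1 := by
      have := natDegree_mul_le (p := P) (q := Q)
      omega
    rw [h1, sum_eval _ (by omega), neg_eq_zero]
    exact coeff_eq_zero_of_natDegree_lt hPQ


theorem addRight_inv_apply (x : ZMod p) : ((Equiv.addRight (1 : ZMod p))⁻¹ : Equiv.Perm (ZMod p)) x = x - 1 := by
  rw [Equiv.Perm.inv_def, Equiv.symm_apply_eq]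
  simp

omit hp [CharP K p] in
theorem const_mem_polyFun (c : K) {r : ℕ} (hr : 1 ≤ r) : (fun _ : ZMod p => c) ∈ polyFun p K r := by
  rw [mem_polyFun]
  refine ⟨C c, lt_of_le_of_lt degree_C_le ?_, fun j => by simp⟩
  exact_mod_cast hr

omit hp [CharP K p] in
theorem cast_pow_mem_polyFun (j : ℕ) {r : ℕ} (hr : j < r) :
    (fun x : ZMod p => (ZMod.cast x : K) ^ j) ∈ polyFun p K r := by
  rw [mem_polyFun]
  refine ⟨X ^ j, ?_, fun x => by simp⟩
  rw [degree_X_pow]
  exact_mod_cast hr

/-- invariance of `polyFun s` under a group passes to the orthogonal complement -/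
theorem orth_invariant (G : Subgroup (Equiv.Perm (ZMod p))) {s : ℕ} (hsp : s ≤ p)
    (hinv : ∀ g ∈ G, ∀ f ∈ polyFun p K s, (fun x => f (g x)) ∈ polyFun p K s) :
    ∀ g ∈ G, ∀ f ∈ polyFun p K (p - s), (fun x => f (g x)) ∈ polyFun p K (p - s) := by
  intro g hg h hh
  rw [← mem_orth_iff hsp]
  intro f hf
  have h1 := hinv g⁻¹ (G.inv_mem hg) f hf
  have h2 := (mem_orth_iff hsp h).mpr hh _ h1
  rw [← h2]
  rw [← Equiv.sum_comp g (fun j => f (g⁻¹ j) * h j)]
  apply Finset.sum_congr rfl
  intro j _
  simp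

/-- **Main lemma.** A group of permutations of `ZMod p` containing `x ↦ x + 1` and leaving
invariant the polynomial functions of degree `< r` for some `2 ≤ r ≤ p - 2` is affine. -/
theorem affine_of_invariant (G : Subgroup (Equiv.Perm (ZMod p)))
    (hτ : Equiv.addRight (1 : ZMod p) ∈ G) {r : ℕ} (hr2 : 2 ≤ r) (hrp : r + 2 ≤ p)
    (hinv : ∀ g ∈ G, ∀ f ∈ polyFun p K r, (fun x => f (g x)) ∈ polyFun p K r) :
    G ≤ Cfsg.affineGroup (ZMod p) := by
  classical
  have hp2 := hp.out.two_le
  -- Step A: the submodule generated by the functions `ι ∘ g`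
  set U : Submodule K (ZMod p → K) := Submodule.span K
    (Set.range (fun g : G => fun x : ZMod p => (ZMod.cast ((g : Equiv.Perm (ZMod p)) x) : K)) ∪
      {fun _ => 1}) with hU
  have hgen : ∀ g ∈ G, (fun x : ZMod p => (ZMod.cast (g x) : K)) ∈ U := fun g hg =>
    Submodule.subset_span (Or.inl ⟨⟨g, hg⟩, rfl⟩)
  have hUinv : ∀ h ∈ G, ∀ f ∈ U, (fun x => f (h x)) ∈ U := by
    intro h hh
    have : U ≤ U.comap (LinearMap.funLeft K K h) := by
      rw [hU, Submodule.span_le]
      rintro f (⟨g, rfl⟩ | hf)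
      · exact hgen ((g : Equiv.Perm (ZMod p)) * h) (G.mul_mem g.2 hh)
      · rw [Set.mem_singleton_iff] at hf
        rw [hf]
        exact Submodule.subset_span (Or.inr rfl)
    intro f hf
    exact this hf
  have hUtrans : ∀ f ∈ U, (fun j => f (j - 1)) ∈ U := by
    intro f hf
    have := hUinv _ (G.inv_mem hτ) f hf
    simp only [addRight_inv_apply] at this
    exact this
  obtain ⟨s, hsp, hsrank, hsmem⟩ := Cfsg.Agent.S0673.result U hUtrans
  have hUeq : U = polyFun p K s := Submodule.ext (fun f => (hsmem f).trans mem_polyFun.symm)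
  have hιr : ∀ g ∈ G, (fun x : ZMod p => (ZMod.cast (g x) : K)) ∈ polyFun p K r := by
    intro g hg
    have h1 : (fun x : ZMod p => (ZMod.cast x : K) ^ 1) ∈ polyFun p K r :=
      cast_pow_mem_polyFun 1 (by omega)
    have := hinv g hg _ h1
    simpa using this
  have hUr : U ≤ polyFun p K r := by
    rw [hU, Submodule.span_le]
    rintro f (⟨g, rfl⟩ | hf)
    · exact hιr g g.2
    · rw [Set.mem_singleton_iff] at hf
      rw [hf]
      exact const_mem_polyFun 1 (by omega)
  have hsr : s ≤ r := by
    have := Submodule.finrank_mono hUr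
    rw [hsrank, finrank_polyFun r (by omega)] at this
    exact this
  have hs2 : 2 ≤ s := by
    have h1 := hgen 1 G.one_mem
    rw [hUeq] at h1
    have h2 : (fun x : ZMod p => (ZMod.cast ((1 : Equiv.Perm (ZMod p)) x) : K)) =
        fun j : ZMod p => (X : K[X]).eval (ZMod.cast j : K) := by
      funext j; simp
    rw [h2] at h1
    have := degree_lt_of_mem_polyFun hsp (by rw [degree_X]; exact_mod_cast (by omega : 1 < p)) h1
    rw [degree_X] at this
    exact_mod_cast this
  -- an element of exact degree `s - 1`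
  obtain ⟨g₀, hg₀, hg₀s⟩ : ∃ g₀ ∈ G,
      (fun x : ZMod p => (ZMod.cast (g₀ x) : K)) ∉ polyFun p K (s - 1) := by
    by_contra hcon
    push Not at hcon
    have hle : U ≤ polyFun p K (s - 1) := by
      rw [hU, Submodule.span_le]
      rintro f (⟨g, rfl⟩ | hf)
      · exact hcon g g.2
      · rw [Set.mem_singleton_iff] at hf
        rw [hf]
        exact const_mem_polyFun 1 (by omega)
    have := Submodule.finrank_mono hle
    rw [hsrank, finrank_polyFun (s - 1) (by omega)] at this
    omega
  -- Step B: invariance of `polyFun s` and of its orthogonal complement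
  have hsinv : ∀ g ∈ G, ∀ f ∈ polyFun p K s, (fun x => f (g x)) ∈ polyFun p K s := by
    intro g hg f hf
    rw [← hUeq] at hf ⊢
    exact hUinv g hg f hf
  have horth := orth_invariant G hsp hsinv
  -- Step C
  obtain ⟨P₀, hP₀deg, hP₀⟩ := mem_polyFun.mp (hUeq ▸ hgen g₀ hg₀)
  have hP₀0 : P₀ ≠ 0 := by
    rintro rfl
    apply hg₀s
    have : (fun x : ZMod p => (ZMod.cast (g₀ x) : K)) = fun _ => 0 := by
      funext x; rw [hP₀ x]; simp
    rw [this]
    exact const_mem_polyFun 0 (by omega)
  have hP₀nat : P₀.natDegree = s - 1 := by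
    have h1 : P₀.natDegree < s := (natDegree_lt_iff_degree_lt hP₀0).mpr hP₀deg
    have h2 : ¬ P₀.natDegree < s - 1 := by
      intro hlt
      apply hg₀s
      rw [mem_polyFun]
      exact ⟨P₀, (natDegree_lt_iff_degree_lt hP₀0).mp hlt, hP₀⟩
    omega
  have hstar : ∀ j : ℕ, j + s ≤ p - 1 → j * (s - 1) < p → j * (s - 1) < p - s := by
    intro j hj hje
    have h1 : (fun x : ZMod p => (ZMod.cast x : K) ^ j) ∈ polyFun p K (p - s) :=
      cast_pow_mem_polyFun j (by omega)
    have h2 := horth g₀ hg₀ _ h1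
    have h3 : (fun x : ZMod p => (ZMod.cast (g₀ x) : K) ^ j) =
        fun x : ZMod p => (P₀ ^ j).eval (ZMod.cast x : K) := by
      funext x
      rw [hP₀ x, eval_pow]
    rw [h3] at h2
    have hnat : (P₀ ^ j).natDegree = j * (s - 1) := by
      rw [natDegree_pow, hP₀nat]
    have hPj0 : P₀ ^ j ≠ 0 := pow_ne_zero _ hP₀0
    have h4 := degree_lt_of_mem_polyFun (by omega : p - s ≤ p)
      ((natDegree_lt_iff_degree_lt hPj0).mp (by rw [hnat]; exact hje)) h2
    have h5 := (natDegree_lt_iff_degree_lt hPj0).mpr h4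
    rw [hnat] at h5
    exact h5
  -- Step D: arithmetic forces `s = 2`
  have hs : s = 2 := by
    by_contra hne
    have he2 : 2 ≤ s - 1 := by omega
    have hodd : p % 2 = 1 := by
      rcases hp.out.eq_two_or_odd with h | h
      · omega
      · exact h
    have h1 := hstar 1 (by omega) (by omega)
    set e := s - 1 with he
    set j := (p - 1) / e with hj
    have hje : j * e ≤ p - 1 := Nat.div_mul_le_self _ _
    have hj2 : 2 * j ≤ p - 1 := by nlinarith
    have h2 := hstar j (by omega) (by omega)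
    have h3 : p - 1 < e * ((p - 1) / e + 1) := Nat.lt_mul_div_succ _ (by omega)
    rw [← hj] at h3
    have h3' : p - 1 < j * e + e := by
      calc p - 1 < e * (j + 1) := h3
        _ = j * e + e := by ring
    generalize j * e = t at *
    omega
  -- Step E: degree one means affine
  intro g hg
  have h1 := hgen g hg
  rw [hUeq, hs, mem_polyFun] at h1
  obtain ⟨P, hPdeg, hP⟩ := h1
  have hPle : P.degree ≤ 1 := by
    by_cases hP0 : P = 0
    · rw [hP0, degree_zero]; exact bot_le
    · have h2 : P.natDegree < 2 := (natDegree_lt_iff_degree_lt hP0).mpr hPdeg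
      have h3 : P.natDegree ≤ 1 := by omega
      exact_mod_cast degree_le_of_natDegree_le h3
  have hPeq := eq_X_add_C_of_degree_le_one hPle
  have hval : ∀ x : ZMod p, (ZMod.cast (g x) : K) = P.coeff 1 * (ZMod.cast x : K) + P.coeff 0 := by
    intro x
    rw [hP x]
    conv_lhs => rw [hPeq]
    simp
  have hb : P.coeff 0 = (ZMod.cast (g 0) : K) := by
    have := hval 0
    rw [ZMod.cast_zero, mul_zero, zero_add] at this
    exact this.symm
  have ha : P.coeff 1 = (ZMod.cast (g 1 - g 0) : K) := by
    have := hval 1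
    rw [ZMod.cast_one (dvd_refl p), mul_one, hb] at this
    rw [ZMod.cast_sub (dvd_refl p), this]
    ring
  have hgx : ∀ x : ZMod p, g x = (g 1 - g 0) * x + g 0 := by
    intro x
    apply cast_injective (p := p) (K := K)
    rw [hval x, ha, hb, ZMod.cast_add (dvd_refl p), ZMod.cast_mul (dvd_refl p)]
  have hne : g 1 - g 0 ≠ 0 := by
    intro h
    have : g 1 = g 0 := sub_eq_zero.mp h
    have h01 := g.injective this
    exact one_ne_zero h01
  exact ⟨Units.mk0 _ hne, g 0, fun x => by rw [Units.val_mk0]; exact hgx x⟩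


section Affine

variable {R : Type*} [CommRing R]

omit hp in
theorem affine_coef_unique {σ : Equiv.Perm R} {a a' : Rˣ} {b b' : R}
    (h : ∀ x, σ x = (a : R) * x + b) (h' : ∀ x, σ x = (a' : R) * x + b') : a = a' ∧ b = b' := by
  have hb : b = b' := by
    have h0 := h 0
    have h0' := h' 0
    rw [mul_zero, zero_add] at h0 h0'
    rw [← h0, ← h0']
  refine ⟨?_, hb⟩
  apply Units.ext
  have h1 := h 1
  have h1' := h' 1
  rw [mul_one] at h1 h1'
  rw [hb] at h1
  have := h1.symm.trans h1'
  exact add_right_cancel this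

omit hp in
theorem mem_affineGroup {σ : Equiv.Perm R} :
    σ ∈ Cfsg.affineGroup R ↔ ∃ a : Rˣ, ∃ b : R, ∀ x, σ x = (a : R) * x + b := Iff.rfl

/-- the linear coefficient of an affine permutation, as a homomorphism -/
noncomputable def coefHom (R : Type*) [CommRing R] : Cfsg.affineGroup R →* Rˣ where
  toFun σ := Classical.choose (mem_affineGroup.mp σ.2)
  map_one' := by
    have h := Classical.choose_spec (mem_affineGroup.mp (1 : Cfsg.affineGroup R).2)
    obtain ⟨b, hb⟩ := h
    have h1 : ∀ x : R, ((1 : Cfsg.affineGroup R) : Equiv.Perm R) x = ((1 : Rˣ) : R) * x + 0 := by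
      intro x; simp
    exact (affine_coef_unique hb h1).1
  map_mul' σ τ := by
    obtain ⟨b, hb⟩ := Classical.choose_spec (mem_affineGroup.mp (σ * τ).2)
    obtain ⟨b₁, hb₁⟩ := Classical.choose_spec (mem_affineGroup.mp σ.2)
    obtain ⟨b₂, hb₂⟩ := Classical.choose_spec (mem_affineGroup.mp τ.2)
    generalize Classical.choose (mem_affineGroup.mp (σ * τ).2) = a at hb ⊢
    generalize Classical.choose (mem_affineGroup.mp σ.2) = a₁ at hb₁ ⊢
    generalize Classical.choose (mem_affineGroup.mp τ.2) = a₂ at hb₂ ⊢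
    have h1 : ∀ x : R, ((σ * τ : Cfsg.affineGroup R) : Equiv.Perm R) x =
        ((a₁ * a₂ : Rˣ) : R) * x + (((a₁ : Rˣ) : R) * b₂ + b₁) := by
      intro x
      rw [Subgroup.coe_mul, Equiv.Perm.mul_apply, hb₂, hb₁, Units.val_mul]
      ring
    exact (affine_coef_unique hb h1).1

omit hp in
theorem coefHom_spec (σ : Cfsg.affineGroup R) :
    ∃ b : R, ∀ x, (σ : Equiv.Perm R) x = ((coefHom R σ : Rˣ) : R) * x + b :=
  Classical.choose_spec (mem_affineGroup.mp σ.2)

omit hp in
theorem affineGroup_isSolvable : Group.IsSolvable (Cfsg.affineGroup R) := by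
  have hker : Group.IsSolvable (coefHom R).ker := by
    apply Group.isSolvable_of_comm
    intro σ τ
    obtain ⟨b₁, hb₁⟩ := coefHom_spec (σ : Cfsg.affineGroup R)
    obtain ⟨b₂, hb₂⟩ := coefHom_spec (τ : Cfsg.affineGroup R)
    have hσ : coefHom R (σ : Cfsg.affineGroup R) = 1 := σ.2
    have hτ : coefHom R (τ : Cfsg.affineGroup R) = 1 := τ.2
    rw [hσ] at hb₁
    rw [hτ] at hb₂
    apply Subtype.ext
    apply Subtype.ext
    ext x
    show ((σ : Cfsg.affineGroup R) : Equiv.Perm R) (((τ : Cfsg.affineGroup R) : Equiv.Perm R) x) =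
      ((τ : Cfsg.affineGroup R) : Equiv.Perm R) (((σ : Cfsg.affineGroup R) : Equiv.Perm R) x)
    rw [hb₁, hb₂, hb₂, hb₁]
    simp only [Units.val_one, one_mul]
    ring
  exact Group.isSolvable_of_ker_le_range (coefHom R).ker.subtype (coefHom R) (by
    intro x hx
    exact ⟨⟨x, hx⟩, rfl⟩)

omit hp in
theorem isSolvable_of_le_affineGroup (G : Subgroup (Equiv.Perm R)) (h : G ≤ Cfsg.affineGroup R) :
    Group.IsSolvable G :=
  have := affineGroup_isSolvable (R := R)
  Group.isSolvable_of_isSolvable_injective (f := Subgroup.inclusion h)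
    (Subgroup.inclusion_injective h)

end Affine

/-- a labelling of a set of prime size `p` by `ZMod p` turning a given transitive group into one
containing the translation `x ↦ x + 1`. -/
theorem exists_labelling {α : Type*} [Fintype α] [DecidableEq α] (hα : Fintype.card α = p)
    (G : Subgroup (Equiv.Perm α)) [MulAction.IsPretransitive G α] :
    ∃ e : α ≃ ZMod p, Equiv.addRight (1 : ZMod p) ∈
      G.map (e.permCongrHom : Equiv.Perm α →* Equiv.Perm (ZMod p)) := by
  have hpp := hp.out
  have hne : Nonempty α := by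
    rw [← Fintype.card_pos_iff, hα]; exact hpp.pos
  obtain ⟨a₀⟩ := hne
  have hdvd : p ∣ Nat.card G := by
    have h1 : (MulAction.stabilizer G a₀).index = Nat.card α :=
      MulAction.index_stabilizer_of_transitive G a₀
    rw [Nat.card_eq_fintype_card, hα] at h1
    rw [← h1]
    exact Subgroup.index_dvd_card _
  obtain ⟨c, hc⟩ := exists_prime_orderOf_dvd_card' p hdvd
  have hc' : orderOf (c : Equiv.Perm α) = p := by rw [Subgroup.orderOf_coe]; exact hc
  have hcyc : (c : Equiv.Perm α).IsCycle :=
    Equiv.Perm.isCycle_of_prime_order'' (hα ▸ hpp) (hc'.trans hα.symm)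
  have hsupp : (c : Equiv.Perm α).support = Finset.univ := by
    apply Finset.eq_univ_of_card
    rw [← hcyc.orderOf, hc', hα]
  have hmove : (c : Equiv.Perm α) a₀ ≠ a₀ := by
    rw [← Equiv.Perm.mem_support, hsupp]; exact Finset.mem_univ _
  have hpow : ∀ m : ℕ, ((c : Equiv.Perm α) ^ m) a₀ = a₀ → p ∣ m := by
    intro m hm
    rw [← hc', orderOf_dvd_iff_pow_eq_one, hcyc.pow_eq_one_iff' hmove]
    exact hm
  have : NeZero p := ⟨hpp.ne_zero⟩
  let φ : ZMod p → α := fun k => ((c : Equiv.Perm α) ^ k.val) a₀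
  have hφinj : Function.Injective φ := by
    intro i j hij
    wlog hle : i.val ≤ j.val generalizing i j
    · exact (this hij.symm (by omega)).symm
    have h1 : ((c : Equiv.Perm α) ^ (j.val - i.val)) a₀ = a₀ := by
      have h2 : ((c : Equiv.Perm α) ^ j.val) a₀ = ((c : Equiv.Perm α) ^ i.val) a₀ := hij.symm
      have h3 : j.val = i.val + (j.val - i.val) := by omega
      rw [h3, pow_add, Equiv.Perm.mul_apply] at h2
      exact ((c : Equiv.Perm α) ^ i.val).injective h2
    have h4 := hpow _ h1
    have hj := ZMod.val_lt j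
    have h5 : j.val - i.val = 0 := Nat.eq_zero_of_dvd_of_lt h4 (by omega)
    apply ZMod.val_injective
    omega
  have hφbij : Function.Bijective φ :=
    (Fintype.bijective_iff_injective_and_card φ).mpr ⟨hφinj, by rw [ZMod.card, hα]⟩
  let e : α ≃ ZMod p := (Equiv.ofBijective φ hφbij).symm
  have hesymm : ∀ k : ZMod p, e.symm k = φ k := fun k => rfl
  have : Fact (1 < p) := ⟨hpp.one_lt⟩
  have hstep : ∀ k : ZMod p, (c : Equiv.Perm α) (φ k) = φ (k + 1) := by
    intro k
    show (c : Equiv.Perm α) (((c : Equiv.Perm α) ^ k.val) a₀) =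
      ((c : Equiv.Perm α) ^ (k + 1).val) a₀
    rw [ZMod.val_add, ZMod.val_one]
    have h1 : ∀ n : ℕ, (c : Equiv.Perm α) ^ (n % p) = (c : Equiv.Perm α) ^ n := by
      intro n
      have := pow_mod_orderOf (c : Equiv.Perm α) n
      rwa [hc'] at this
    rw [h1, pow_succ', Equiv.Perm.mul_apply]
  refine ⟨e, Subgroup.mem_map.mpr ⟨c, c.2, ?_⟩⟩
  ext k
  show e ((c : Equiv.Perm α) (e.symm k)) = k + 1
  rw [hesymm, hstep, ← hesymm, Equiv.apply_symm_apply]

end Cfsg.Agent.Lib.Helper12_PrimeDeg

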