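import Mathlib
import Cfsg.Prelude.Def_Perm
import Cfsg.Agent.S0673
import Cfsg.Agent.Lib.Helper12_PrimeDeg

/-!
Burnside's theorem on permutation groups of prime degree, in the form: a group of
permutations of `ZMod p` containing `x ↦ x + 1` which is not doubly transitive consists of
affine maps.  (Orbital adjacency operators + the classification of translation invariant
subspaces of the function space in characteristic `p`.)
-/

set_option autoImplicit false

namespace Cfsg.Agent.Lib.Helper12_PrimeDeg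

open Polynomial Cfsg.Agent.S0673

variable {p : ℕ} [hp : Fact p.Prime]

section NotTwoTransitive

/-- the adjacency operator of a relation on `ZMod p` -/
noncomputable def orbOp (p : ℕ) [NeZero p] (K : Type*) [Field K] (O : ZMod p → ZMod p → Prop)
    [DecidableRel O] : Module.End K (ZMod p → K) where
  toFun f := fun x => ∑ y, if O x y then f y else 0
  map_add' f₁ f₂ := by
    funext x
    simp only [Pi.add_apply]
    rw [← Finset.sum_add_distrib]
    apply Finset.sum_congr rfl
    intro y _
    split_ifs <;> simp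
  map_smul' c f := by
    funext x
    simp only [Pi.smul_apply, smul_eq_mul, RingHom.id_apply]
    rw [Finset.mul_sum]
    apply Finset.sum_congr rfl
    intro y _
    split_ifs <;> simp

theorem orbOp_apply {K : Type*} [Field K] (O : ZMod p → ZMod p → Prop) [DecidableRel O]
    (f : ZMod p → K) (x : ZMod p) :
    orbOp p K O f x = ∑ y, if O x y then f y else 0 := rfl

theorem orbOp_comp_perm {K : Type*} [Field K] (O : ZMod p → ZMod p → Prop) [DecidableRel O]
    (g : Equiv.Perm (ZMod p)) (hO : ∀ x y, O (g x) (g y) ↔ O x y) (f : ZMod p → K) :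
    orbOp p K O (fun x => f (g x)) = fun x => orbOp p K O f (g x) := by
  funext x
  rw [orbOp_apply, orbOp_apply]
  rw [← Equiv.sum_comp g (fun y => if O (g x) y then f y else 0)]
  apply Finset.sum_congr rfl
  intro y _
  simp only [hO]

theorem translation_mem (G : Subgroup (Equiv.Perm (ZMod p)))
    (hτ : Equiv.addRight (1 : ZMod p) ∈ G) (x : ZMod p) : Equiv.addRight x ∈ G := by
  have h := G.pow_mem hτ x.val
  rw [Equiv.nsmul_addRight, nsmul_one, ZMod.natCast_zmod_val] at h
  exact h

theorem zmod_two_key : ∀ u v : ZMod 2, u ≠ v → v = 1 + u := by decide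

theorem zmod_two_cases : ∀ x : ZMod 2, x = 0 ∨ x = 1 := by decide

theorem zmod_three_key :
    ∀ u v w : ZMod 3, u ≠ v → u ≠ w → v ≠ w → w = (v - u) * 2 + u := by decide

theorem zmod_three_cases : ∀ x : ZMod 3, x = 0 ∨ x = 1 ∨ x = 2 := by decide

theorem zmod_three_sq : ∀ u : ZMod 3, u ≠ 0 → u * u = 1 := by decide

theorem affineGroup_zmod_two : Cfsg.affineGroup (ZMod 2) = ⊤ := by
  rw [eq_top_iff]
  intro g _
  refine ⟨1, g 0, ?_⟩
  have h01 : g 0 ≠ g 1 := fun h => (by decide : (0 : ZMod 2) ≠ 1) (g.injective h)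
  intro x
  rcases zmod_two_cases x with rfl | rfl
  · rw [Units.val_one, mul_zero, zero_add]
  · rw [Units.val_one, mul_one]
    exact zmod_two_key _ _ h01

theorem affineGroup_zmod_three : Cfsg.affineGroup (ZMod 3) = ⊤ := by
  rw [eq_top_iff]
  intro g _
  have h01 : g 0 ≠ g 1 := fun h => (by decide : (0 : ZMod 3) ≠ 1) (g.injective h)
  have h02 : g 0 ≠ g 2 := fun h => (by decide : (0 : ZMod 3) ≠ 2) (g.injective h)
  have h12 : g 1 ≠ g 2 := fun h => (by decide : (1 : ZMod 3) ≠ 2) (g.injective h)
  have ha : g 1 - g 0 ≠ 0 := fun h => h01 (sub_eq_zero.mp h).symm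
  refine ⟨⟨g 1 - g 0, g 1 - g 0, zmod_three_sq _ ha, zmod_three_sq _ ha⟩, g 0, ?_⟩
  intro x
  show g x = (g 1 - g 0) * x + g 0
  rcases zmod_three_cases x with rfl | rfl | rfl
  · rw [mul_zero, zero_add]
  · rw [mul_one, sub_add_cancel]
  · exact zmod_three_key _ _ _ h01 h02 h12

theorem affineGroup_eq_top_of_le_three (hp3 : p ≤ 3) : Cfsg.affineGroup (ZMod p) = ⊤ := by
  have h2 := hp.out.two_le
  have h23 : p = 2 ∨ p = 3 := by omega
  rcases h23 with rfl | rfl
  · exact affineGroup_zmod_two
  · exact affineGroup_zmod_three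

/-- translation invariant subspaces are spaces of polynomial functions -/
theorem eq_polyFun_of_shift_invariant {K : Type*} [Field K] [CharP K p]
    (W : Submodule K (ZMod p → K)) (hW : ∀ f ∈ W, (fun j => f (j - 1)) ∈ W) :
    W = polyFun p K (Module.finrank K W) ∧ Module.finrank K W ≤ p := by
  obtain ⟨r, hrp, hrank, hmem⟩ := Cfsg.Agent.S0673.result W hW
  rw [hrank]
  exact ⟨Submodule.ext (fun f => (hmem f).trans mem_polyFun.symm), hrp⟩

/-- a function with sum zero is a polynomial function of degree `< p - 1` -/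
theorem mem_polyFun_of_sum_eq_zero {K : Type*} [Field K] [CharP K p] (h : ZMod p → K)
    (hsum : ∑ j, h j = 0) : h ∈ polyFun p K (p - 1) := by
  rw [← mem_orth_iff hp.out.one_le]
  intro f hf
  rw [mem_polyFun] at hf
  obtain ⟨P, hP, hPf⟩ := hf
  have hP0 : P.degree ≤ 0 := by
    have : P.degree < (1 : WithBot ℕ) := by exact_mod_cast hP
    exact Nat.WithBot.lt_one_iff_le_zero.mp this
  have hPC := Polynomial.eq_C_of_degree_le_zero hP0
  have : ∀ j, f j = P.coeff 0 := by
    intro j
    rw [hPf j, hPC]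
    simp
  simp only [this]
  rw [← Finset.mul_sum, hsum, mul_zero]

/-- **Burnside.** A group of permutations of `ZMod p` containing the translation `x ↦ x + 1`
is doubly transitive or consists of affine maps. -/
theorem affine_of_not_two_transitive (G : Subgroup (Equiv.Perm (ZMod p)))
    (hτ : Equiv.addRight (1 : ZMod p) ∈ G)
    (h2 : ¬ ∀ a b c d : ZMod p, a ≠ b → c ≠ d → ∃ g ∈ G, g a = c ∧ g b = d) :
    G ≤ Cfsg.affineGroup (ZMod p) := by
  classical
  by_cases hp3 : p ≤ 3
  · rw [affineGroup_eq_top_of_le_three hp3]; exact le_top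
  have hpp := hp.out
  have hp5 : 5 ≤ p := by
    rcases Nat.lt_or_ge p 5 with h | h
    · exfalso
      have h4 : p = 4 := by omega
      rw [h4] at hpp
      exact absurd hpp (by decide)
    · exact h
  push Not at h2
  obtain ⟨a, b, c, d, hab, hcd, hno⟩ := h2
  let O : ZMod p → ZMod p → Prop := fun x y => ∃ g ∈ G, g a = x ∧ g b = y
  have hOinv : ∀ g ∈ G, ∀ x y, O (g x) (g y) ↔ O x y := by
    intro g hg x y
    constructor
    · rintro ⟨h, hh, h1, h2⟩
      refine ⟨g⁻¹ * h, G.mul_mem (G.inv_mem hg) hh, ?_, ?_⟩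
      · simp [h1]
      · simp [h2]
    · rintro ⟨h, hh, h1, h2⟩
      exact ⟨g * h, G.mul_mem hg hh, by simp [h1], by simp [h2]⟩
  have hOirr : ∀ x, ¬ O x x := by
    rintro x ⟨g, _, h1, h2⟩
    exact hab (g.injective (h1.trans h2.symm))
  have hOcd : ¬ O c d := fun ⟨g, hg, h1, h2⟩ => hno g hg h1 h2
  have hO0 : O 0 (b - a) := by
    have := (hOinv _ (translation_mem G hτ (-a)) a b).mpr ⟨1, G.one_mem, rfl, rfl⟩
    simpa [sub_eq_add_neg] using this
  set T : Module.End (ZMod p) (ZMod p → ZMod p) := orbOp p (ZMod p) O with hT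
  have hTg : ∀ g ∈ G, ∀ f : ZMod p → ZMod p, T (fun x => f (g x)) = fun x => T f (g x) :=
    fun g hg f => orbOp_comp_perm O g (hOinv g hg) f
  -- the valency
  set k : ℕ := (Finset.univ.filter (fun y => O 0 y)).card with hk
  have hT1 : ∀ x, T (fun _ => (1 : ZMod p)) x = (k : ZMod p) := by
    intro x
    have h1 := congrFun (hTg _ (translation_mem G hτ x) (fun _ => (1 : ZMod p))) 0
    have h2 : (Equiv.addRight x) (0 : ZMod p) = x := by simp
    rw [h2] at h1
    rw [← h1, hT, orbOp_apply, Finset.sum_boole]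
  have hk0 : 0 < k := Finset.card_pos.mpr ⟨b - a, by simp [hO0]⟩
  have hkp : k < p := by
    have h1 : (Finset.univ.filter (fun y => O 0 y)) ⊂ Finset.univ := by
      rw [Finset.filter_ssubset]
      exact ⟨0, Finset.mem_univ _, hOirr 0⟩
    have := Finset.card_lt_card h1
    rwa [Finset.card_univ, ZMod.card] at this
  have hkK : (k : ZMod p) ≠ 0 := by
    intro h
    rw [ZMod.natCast_eq_zero_iff] at h
    exact absurd (Nat.le_of_dvd hk0 h) (by omega)
  set N : Module.End (ZMod p) (ZMod p → ZMod p) := T - (k : ZMod p) • 1 with hN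
  have hNapp : ∀ f x, N f x = T f x - (k : ZMod p) * f x := fun f x => rfl
  have hNg : ∀ g ∈ G, ∀ f : ZMod p → ZMod p, N (fun x => f (g x)) = fun x => N f (g x) := by
    intro g hg f
    funext x
    rw [hNapp, hNapp, hTg g hg]
  have hN1 : N (fun _ => (1 : ZMod p)) = 0 := by
    funext x
    rw [hNapp, hT1]
    simp
  -- invariance of kernels
  have hker1 : ∀ g ∈ G, ∀ f ∈ LinearMap.ker N, (fun x => f (g x)) ∈ LinearMap.ker N := by
    intro g hg f hf
    rw [LinearMap.mem_ker] at hf ⊢
    rw [hNg g hg, hf]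
    rfl
  have hker2 : ∀ g ∈ G, ∀ f ∈ LinearMap.ker (N ^ 2), (fun x => f (g x)) ∈ LinearMap.ker (N ^ 2) := by
    intro g hg f hf
    rw [LinearMap.mem_ker, pow_two, Module.End.mul_apply] at hf ⊢
    rw [hNg g hg, hNg g hg, hf]
    rfl
  have hrange : ∀ g ∈ G, ∀ f ∈ LinearMap.range N, (fun x => f (g x)) ∈ LinearMap.range N := by
    rintro g hg _ ⟨u, rfl⟩
    exact ⟨fun x => u (g x), hNg g hg u⟩
  have hshift : ∀ W : Submodule (ZMod p) (ZMod p → ZMod p),
      (∀ g ∈ G, ∀ f ∈ W, (fun x => f (g x)) ∈ W) → ∀ f ∈ W, (fun j => f (j - 1)) ∈ W := by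
    intro W hW f hf
    have := hW _ (G.inv_mem hτ) f hf
    simp only [addRight_inv_apply] at this
    exact this
  obtain ⟨hW1, hr1p⟩ := eq_polyFun_of_shift_invariant _ (hshift _ hker1)
  set r₁ := Module.finrank (ZMod p) (LinearMap.ker N) with hr₁
  have hfinV : Module.finrank (ZMod p) (ZMod p → ZMod p) = p := by
    rw [Module.finrank_fintype_fun_eq_card, ZMod.card]
  have hr1pos : 1 ≤ r₁ := by
    rw [hr₁, Submodule.one_le_finrank_iff]
    intro h
    have h1 : (fun _ : ZMod p => (1 : ZMod p)) ∈ LinearMap.ker N := LinearMap.mem_ker.mpr hN1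
    rw [h, Submodule.mem_bot] at h1
    have := congrFun h1 0
    simp at this
  -- `ker N` does not contain the sum-zero functions
  have hr1lt : r₁ + 2 ≤ p := by
    by_contra hcon
    have hle : p - 1 ≤ r₁ := by omega
    let h : ZMod p → ZMod p := fun y => (if y = c then 1 else 0) - (if y = d then 1 else 0)
    have hsum : ∑ j, h j = 0 := by
      simp only [h]
      rw [Finset.sum_sub_distrib]
      simp
    have hmem : h ∈ LinearMap.ker N := by
      rw [hW1]
      exact polyFun_mono hle (mem_polyFun_of_sum_eq_zero h hsum)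
    have hNh := congrFun (LinearMap.mem_ker.mp hmem) c
    rw [hNapp] at hNh
    have hTh : T h c = 0 := by
      rw [hT, orbOp_apply]
      apply Finset.sum_eq_zero
      intro y _
      split_ifs with hy
      · have h1 : y ≠ c := fun e => hOirr c (e ▸ hy)
        have h2 : y ≠ d := fun e => hOcd (e ▸ hy)
        simp [h, h1, h2]
      · rfl
    have hhc : h c = 1 := by simp [h, hcd]
    rw [hTh, hhc] at hNh
    simp at hNh
    exact hkK hNh
  rcases Nat.eq_or_lt_of_le hr1pos with h1 | h1
  · -- `ker N` is the constants; pass to `ker N²`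
    obtain ⟨hW2, hr2p⟩ := eq_polyFun_of_shift_invariant _ (hshift _ hker2)
    obtain ⟨hW3, hr3p⟩ := eq_polyFun_of_shift_invariant _ (hshift _ hrange)
    have hrk := LinearMap.finrank_range_add_finrank_ker N
    rw [hfinV] at hrk
    have hr3 : Module.finrank (ZMod p) (LinearMap.range N) = p - 1 := by omega
    have h1mem : (fun _ : ZMod p => (1 : ZMod p)) ∈ LinearMap.range N := by
      rw [hW3, hr3]
      exact const_mem_polyFun 1 (by omega)
    obtain ⟨u, hu⟩ := h1mem
    have hle2 : Module.finrank (ZMod p) (LinearMap.ker (N ^ 2)) ≤ 2 :=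
      finrank_ker_pow_le N (by omega) 2
    have hlt : LinearMap.ker N < LinearMap.ker (N ^ 2) := by
      refine lt_of_le_of_ne ?_ ?_
      · intro f hf
        rw [LinearMap.mem_ker] at hf ⊢
        rw [pow_two, Module.End.mul_apply, hf, map_zero]
      · intro heq
        have hu2 : u ∈ LinearMap.ker (N ^ 2) := by
          rw [LinearMap.mem_ker, pow_two, Module.End.mul_apply, hu, hN1]
        rw [← heq, LinearMap.mem_ker, hu] at hu2
        have := congrFun hu2 0
        simp at this
    have hlt' := Submodule.finrank_lt_finrank_of_lt hlt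
    have hr2 : Module.finrank (ZMod p) (LinearMap.ker (N ^ 2)) = 2 := by omega
    rw [hr2] at hW2
    exact affine_of_invariant (K := ZMod p) G hτ (r := 2) le_rfl (by omega)
      (fun g hg f hf => by rw [← hW2] at hf ⊢; exact hker2 g hg f hf)
  · exact affine_of_invariant (K := ZMod p) G hτ (r := r₁) h1 hr1lt
      (fun g hg f hf => by rw [← hW1] at hf ⊢; exact hker1 g hg f hf)

end NotTwoTransitive

end Cfsg.Agent.Lib.Helper12_PrimeDeg
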