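import Mathlib
import Cfsg.Prelude.Def_Perm
import Cfsg.Agent.Lib.Helper12_PrimeDeg
import Cfsg.Agent.Lib.Helper12_PrimeDeg2

/-!
Subgroups of index `p` in permutation groups of prime degree `p` containing an involution
normalising a Sylow `p`-subgroup: they fix a point.  Everything is done for groups of
permutations of `ZMod p` containing the translation `x ↦ x + 1`.
-/

set_option autoImplicit false

namespace Cfsg.Agent.Lib.Helper12_PrimeDeg

variable {p : ℕ} [hp : Fact p.Prime]

section IndexP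

theorem addRight_pow_p (x : ZMod p) : (Equiv.addRight x) ^ p = 1 := by
  rw [Equiv.nsmul_addRight]
  have : p • x = 0 := by simp
  rw [this]
  ext y
  simp

theorem addRight_inv_apply' (j y : ZMod p) :
    ((Equiv.addRight j)⁻¹ : Equiv.Perm (ZMod p)) y = y - j := by
  rw [Equiv.Perm.inv_def]
  simp [sub_eq_add_neg]

theorem addRight_injective : Function.Injective (Equiv.addRight : ZMod p → Equiv.Perm (ZMod p)) := by
  intro x y h
  have := congrArg (fun σ : Equiv.Perm (ZMod p) => σ 0) h
  simpa using this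

theorem not_dvd_card_of_index (G H : Subgroup (Equiv.Perm (ZMod p)))
    (hcard : Nat.card G = p * Nat.card H) : ¬ p ∣ Nat.card H := by
  classical
  intro hdvd
  have h1 : Nat.card G ∣ Nat.card (Equiv.Perm (ZMod p)) := Subgroup.card_subgroup_dvd_card G
  have h2 : Nat.card (Equiv.Perm (ZMod p)) = p.factorial := by
    rw [Nat.card_eq_fintype_card, Fintype.card_perm, ZMod.card]
  obtain ⟨m, hm⟩ := hdvd
  have h3 : p * p ∣ p.factorial := by
    rw [← h2]
    refine Dvd.dvd.trans ?_ h1
    rw [hcard, hm]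
    exact ⟨m, by ring⟩
  obtain ⟨q, hq⟩ : ∃ q, p = q + 1 := ⟨p - 1, by have := hp.out.pos; omega⟩
  have hqp : (q + 1).Prime := hq ▸ hp.out
  rw [hq, Nat.factorial_succ] at h3
  have h4 : (q + 1) ∣ q.factorial := Nat.dvd_of_mul_dvd_mul_left (by omega) h3
  have h5 := hqp.dvd_factorial.mp h4
  omega

theorem translation_eq_one_of_mem (H : Subgroup (Equiv.Perm (ZMod p)))
    (hp' : ¬ p ∣ Nat.card H) {x : ZMod p} (hx : Equiv.addRight x ∈ H) : x = 0 := by
  by_contra hne
  apply hp'
  have h1 : orderOf (Equiv.addRight x) = p := by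
    apply orderOf_eq_prime (addRight_pow_p x)
    intro h
    apply hne
    apply addRight_injective
    rw [h]
    ext y
    simp
  have h2 := Subgroup.orderOf_dvd_natCard H hx
  rwa [h1] at h2

theorem exists_factorization (G H : Subgroup (Equiv.Perm (ZMod p))) (hHG : H ≤ G)
    (hτ : Equiv.addRight (1 : ZMod p) ∈ G) (hcard : Nat.card G = p * Nat.card H)
    {g : Equiv.Perm (ZMod p)} (hg : g ∈ G) :
    ∃ i : ZMod p, ∃ h ∈ H, g = Equiv.addRight i * h := by
  classical
  have hp' := not_dvd_card_of_index G H hcard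
  have : Finite G := inferInstance
  let f : ZMod p × H → G := fun ih =>
    ⟨Equiv.addRight ih.1 * (ih.2 : Equiv.Perm (ZMod p)),
      G.mul_mem (translation_mem G hτ ih.1) (hHG ih.2.2)⟩
  have hf : Function.Injective f := by
    rintro ⟨i, h⟩ ⟨j, h'⟩ hij
    have h0 : Equiv.addRight i * (h : Equiv.Perm (ZMod p)) =
        Equiv.addRight j * (h' : Equiv.Perm (ZMod p)) := congrArg Subtype.val hij
    have h1 : Equiv.addRight (i - j) = (h' : Equiv.Perm (ZMod p)) * (h : Equiv.Perm (ZMod p))⁻¹ := by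
      have : Equiv.addRight (i - j) = (Equiv.addRight j)⁻¹ * Equiv.addRight i := by
        ext y
        rw [Equiv.Perm.mul_apply, addRight_inv_apply']
        simp [sub_eq_add_neg, add_assoc]
      rw [this, eq_mul_inv_iff_mul_eq, mul_assoc, h0, ← mul_assoc, inv_mul_cancel, one_mul]
    have h2 : i - j = 0 := by
      apply translation_eq_one_of_mem H hp'
      rw [h1]
      exact H.mul_mem h'.2 (H.inv_mem h.2)
    have hij' : i = j := sub_eq_zero.mp h2
    subst hij'
    have h3 : (h : Equiv.Perm (ZMod p)) = h' := mul_left_cancel h0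
    have : h = h' := Subtype.ext h3
    rw [this]
  have hcard' : Nat.card G ≤ Nat.card (ZMod p × H) := by
    rw [Nat.card_prod, Nat.card_eq_fintype_card (α := ZMod p), ZMod.card, hcard]
  have hbij := hf.bijective_of_nat_card_le hcard'
  obtain ⟨⟨i, h⟩, hih⟩ := hbij.2 ⟨g, hg⟩
  exact ⟨i, h, h.2, (congrArg Subtype.val hih).symm⟩

/-- a group of affine maps of order prime to `p` fixes a point (the centroid of an orbit) -/
theorem fixed_point_of_affine (H : Subgroup (Equiv.Perm (ZMod p)))
    (hH : H ≤ Cfsg.affineGroup (ZMod p)) (hp' : ¬ p ∣ Nat.card H) :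
    ∃ x₀ : ZMod p, ∀ h ∈ H, h x₀ = x₀ := by
  classical
  have : Fintype H := Fintype.ofFinite H
  have hn : ((Nat.card H : ℕ) : ZMod p) ≠ 0 := by
    intro h
    rw [ZMod.natCast_eq_zero_iff] at h
    exact hp' h
  set s : ZMod p := ∑ h : H, (h : Equiv.Perm (ZMod p)) 0 with hs
  refine ⟨s * ((Nat.card H : ℕ) : ZMod p)⁻¹, ?_⟩
  intro h' hh'
  obtain ⟨a, b, hab⟩ := hH hh'
  have h1 : ∑ h : H, h' ((h : Equiv.Perm (ZMod p)) 0) = (a : ZMod p) * s + (Nat.card H : ℕ) * b := by
    simp only [hab]
    rw [Finset.sum_add_distrib, ← Finset.mul_sum, Finset.sum_const, Finset.card_univ,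
      nsmul_eq_mul, Nat.card_eq_fintype_card]
  have h2 : ∑ h : H, h' ((h : Equiv.Perm (ZMod p)) 0) = s := by
    rw [hs]
    exact Equiv.sum_comp (Equiv.mulLeft (⟨h', hh'⟩ : H)) (fun h : H => (h : Equiv.Perm (ZMod p)) 0)
  rw [hab]
  have h3 : (a : ZMod p) * s + (Nat.card H : ℕ) * b = s := h1.symm.trans h2
  have h4 : b = ((Nat.card H : ℕ) : ZMod p) * b * ((Nat.card H : ℕ) : ZMod p)⁻¹ := by
    rw [mul_comm _ b, mul_assoc, mul_inv_cancel₀ hn, mul_one]
  rw [h4, ← mul_assoc, ← add_mul, h3]

theorem factorization_unique (H : Subgroup (Equiv.Perm (ZMod p))) (hp' : ¬ p ∣ Nat.card H)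
    {i j : ZMod p} {h h' : Equiv.Perm (ZMod p)} (hh : h ∈ H) (hh' : h' ∈ H)
    (h0 : Equiv.addRight i * h = Equiv.addRight j * h') : i = j := by
  have h1 : Equiv.addRight (i - j) = h' * h⁻¹ := by
    have : Equiv.addRight (i - j) = (Equiv.addRight j)⁻¹ * Equiv.addRight i := by
      ext y
      rw [Equiv.Perm.mul_apply, addRight_inv_apply']
      simp [sub_eq_add_neg, add_assoc]
    rw [this, eq_mul_inv_iff_mul_eq, mul_assoc, h0, ← mul_assoc, inv_mul_cancel, one_mul]
  have h2 : i - j = 0 := by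
    apply translation_eq_one_of_mem H hp'
    rw [h1]
    exact H.mul_mem hh' (H.inv_mem hh)
  exact sub_eq_zero.mp h2

theorem even_card_of_involution {ι : Type*} [DecidableEq ι] (s : Finset ι) (g : ι → ι)
    (hmem : ∀ a ∈ s, g a ∈ s) (hne : ∀ a ∈ s, g a ≠ a) (hinv : ∀ a ∈ s, g (g a) = a) :
    Even s.card := by
  have h := Finset.sum_involution (s := s) (f := fun _ => (1 : ZMod 2)) (fun a _ => g a)
    (fun a ha => by decide) (fun a ha _ => hne a ha) hmem (fun a ha => hinv a ha)
  rw [Finset.sum_const, nsmul_one, ZMod.natCast_eq_zero_iff] at h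
  exact even_iff_two_dvd.mpr h

/-- shape of a permutation normalising the group of translations -/
theorem affine_of_normalizes (t : Equiv.Perm (ZMod p)) (m : ZMod p)
    (htn : t * Equiv.addRight 1 * t⁻¹ = Equiv.addRight m) :
    ∀ x, t x = m * x + t 0 := by
  have hstep : ∀ x, t (x + 1) = t x + m := by
    intro x
    have := congrArg (fun σ : Equiv.Perm (ZMod p) => σ (t x)) htn
    simpa using this
  have hnat : ∀ n : ℕ, t (n : ZMod p) = m * n + t 0 := by
    intro n
    induction n with
    | zero => simp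
    | succ n ih =>
      rw [Nat.cast_succ, hstep, ih]
      ring
  intro x
  have := hnat x.val
  rwa [ZMod.natCast_zmod_val] at this

/-- an involution normalising the translations is a reflection `x ↦ -x + b` (for odd `p`) -/
theorem reflection_of_involution (hp3 : 3 ≤ p) (t : Equiv.Perm (ZMod p)) (m : ZMod p)
    (htn : t * Equiv.addRight 1 * t⁻¹ = Equiv.addRight m) (ht2 : t * t = 1) (ht1 : t ≠ 1) :
    ∀ x, t x = -x + t 0 := by
  have hshape := affine_of_normalizes t m htn
  have h2ne : (2 : ZMod p) ≠ 0 := by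
    intro h
    have h' : ((2 : ℕ) : ZMod p) = 0 := by exact_mod_cast h
    rw [ZMod.natCast_eq_zero_iff] at h'
    have := Nat.le_of_dvd (by norm_num) h'
    omega
  have htt : ∀ x, t (t x) = x := by
    intro x
    have := congrArg (fun σ : Equiv.Perm (ZMod p) => σ x) ht2
    simpa using this
  have e0 := htt 0
  have e1 := htt 1
  rw [hshape (t 0)] at e0
  rw [hshape (t 1), hshape 1] at e1
  have hm2 : m * m = 1 := by
    have : m * (m * 1 + t 0) + t 0 = m * m + (m * t 0 + t 0) := by ring
    rw [this, e0, add_zero] at e1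
    exact e1
  have hm : m = 1 ∨ m = -1 := by
    have : (m - 1) * (m + 1) = 0 := by ring_nf; rw [← hm2]; ring
    rcases mul_eq_zero.mp this with h | h
    · left; exact sub_eq_zero.mp h
    · right; exact eq_neg_of_add_eq_zero_left h
  rcases hm with rfl | rfl
  · exfalso
    apply ht1
    have hb : t 0 = 0 := by
      have : (2 : ZMod p) * t 0 = 0 := by
        rw [one_mul] at e0
        rw [two_mul]
        exact e0
      rcases mul_eq_zero.mp this with h | h
      · exact absurd h h2ne
      · exact h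
    ext x
    rw [hshape x, hb]
    simp
  · intro x
    rw [hshape x]
    ring

/-- the doubly transitive case: the orbit of `0` under `H` is a difference set with
multiplier `-1`, hence trivial -/
theorem fixed_point_of_two_transitive (G H : Subgroup (Equiv.Perm (ZMod p))) (hHG : H ≤ G)
    (hτ : Equiv.addRight (1 : ZMod p) ∈ G) (hcard : Nat.card G = p * Nat.card H)
    (hp3 : 3 ≤ p)
    (h2 : ∀ a b c d : ZMod p, a ≠ b → c ≠ d → ∃ g ∈ G, g a = c ∧ g b = d)
    (t : Equiv.Perm (ZMod p)) (ht : t ∈ G) (b₀ : ZMod p) (htx : ∀ x, t x = -x + b₀) :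
    ∃ x₀ : ZMod p, ∀ h ∈ H, h x₀ = x₀ := by
  classical
  have hp' := not_dvd_card_of_index G H hcard
  have h2ne : (2 : ZMod p) ≠ 0 := by
    intro h
    have h' : ((2 : ℕ) : ZMod p) = 0 := by exact_mod_cast h
    rw [ZMod.natCast_eq_zero_iff] at h'
    have := Nat.le_of_dvd (by norm_num) h'
    omega
  -- the orbit of `0`
  let Dm : ZMod p → Prop := fun x => ∃ h ∈ H, h 0 = x
  have hD0 : Dm 0 := ⟨1, H.one_mem, rfl⟩
  have hDinv : ∀ h ∈ H, ∀ x, Dm (h x) ↔ Dm x := by
    intro h hh x
    constructor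
    · rintro ⟨h₁, hh₁, e⟩
      refine ⟨h⁻¹ * h₁, H.mul_mem (H.inv_mem hh) hh₁, ?_⟩
      rw [Equiv.Perm.mul_apply, e]
      simp
    · rintro ⟨h₁, hh₁, e⟩
      exact ⟨h * h₁, H.mul_mem hh hh₁, by rw [Equiv.Perm.mul_apply, e]⟩
  -- the action on the translates of the orbit
  have hfac : ∀ (g : G) (i : ZMod p), ∃ j : ZMod p, ∃ h ∈ H,
      (g : Equiv.Perm (ZMod p)) * Equiv.addRight i = Equiv.addRight j * h := fun g i =>
    exists_factorization G H hHG hτ hcard (G.mul_mem g.2 (translation_mem G hτ i))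
  choose σ hσ using hfac
  have hσD : ∀ (g : G) (i x : ZMod p), Dm ((g : Equiv.Perm (ZMod p)) x - σ g i) ↔ Dm (x - i) := by
    intro g i x
    obtain ⟨h, hh, e⟩ := hσ g i
    have e1 := congrArg (fun τ : Equiv.Perm (ZMod p) => τ (x - i)) e
    simp only [Equiv.Perm.mul_apply, Equiv.coe_addRight, sub_add_cancel] at e1
    rw [e1, add_sub_cancel_right]
    exact hDinv h hh _
  have hσinj : ∀ g : G, Function.Injective (σ g) := by
    intro g i i' hii
    obtain ⟨h, hh, e⟩ := hσ g i
    obtain ⟨h', hh', e'⟩ := hσ g i'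
    rw [← hii] at e'
    -- τ_i h⁻¹ = g⁻¹ τ_j = τ_i' h'⁻¹
    have e2 : Equiv.addRight i * h⁻¹ = Equiv.addRight i' * h'⁻¹ := by
      have a1 : Equiv.addRight i * h⁻¹ = (g : Equiv.Perm (ZMod p))⁻¹ * Equiv.addRight (σ g i) := by
        rw [eq_inv_mul_iff_mul_eq, ← mul_assoc, e, mul_assoc, mul_inv_cancel, mul_one]
      have a2 : Equiv.addRight i' * h'⁻¹ = (g : Equiv.Perm (ZMod p))⁻¹ * Equiv.addRight (σ g i) := by
        rw [eq_inv_mul_iff_mul_eq, ← mul_assoc, e', mul_assoc, mul_inv_cancel, mul_one]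
      rw [a1, a2]
    exact factorization_unique H hp' (H.inv_mem hh) (H.inv_mem hh') e2
  -- the number of translates through two points
  let M : ZMod p → ZMod p → ℕ := fun u v =>
    (Finset.univ.filter (fun i : ZMod p => Dm (u - i) ∧ Dm (v - i))).card
  have hMle : ∀ (g : G) (u v : ZMod p),
      M u v ≤ M ((g : Equiv.Perm (ZMod p)) u) ((g : Equiv.Perm (ZMod p)) v) := by
    intro g u v
    apply Finset.card_le_card_of_injOn (σ g)
    · intro i hi
      simp only [Finset.coe_filter, Finset.mem_univ, true_and, Set.mem_ofPred_eq] at hi ⊢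
      exact ⟨(hσD g i u).mpr hi.1, (hσD g i v).mpr hi.2⟩
    · exact (hσinj g).injOn
  have hMeq : ∀ g ∈ G, ∀ u v : ZMod p, M (g u) (g v) = M u v := by
    intro g hg u v
    apply le_antisymm
    · have := hMle ⟨g⁻¹, G.inv_mem hg⟩ (g u) (g v)
      simpa using this
    · exact hMle ⟨g, hg⟩ u v
  have hconst : ∀ d d' : ZMod p, d ≠ 0 → d' ≠ 0 → M 0 d' = M 0 d := by
    intro d d' hd hd'
    obtain ⟨g, hg, g0, gd⟩ := h2 0 d 0 d' (Ne.symm hd) (Ne.symm hd')
    have := hMeq g hg 0 d
    rwa [g0, gd] at this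
  -- the reflection symmetry of the orbit
  obtain ⟨e₀, hsym⟩ : ∃ e₀ : ZMod p, ∀ x, Dm (e₀ - x) ↔ Dm x := by
    refine ⟨b₀ - σ ⟨t, ht⟩ 0, fun x => ?_⟩
    have := hσD ⟨t, ht⟩ 0 x
    rw [sub_zero] at this
    rw [← this]
    show Dm (b₀ - σ ⟨t, ht⟩ 0 - x) ↔ Dm (t x - σ ⟨t, ht⟩ 0)
    rw [htx]
    have : b₀ - σ ⟨t, ht⟩ 0 - x = -x + b₀ - σ ⟨t, ht⟩ 0 := by ring
    rw [this]
  -- parity of the number of translates
  have hpar : ∀ d : ZMod p, (Odd (M 0 d) ↔ Dm ((e₀ - d) * 2⁻¹)) := by
    intro d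
    set i₀ : ZMod p := (d - e₀) * 2⁻¹ with hi₀
    have hi₀2 : 2 * i₀ = d - e₀ := by
      rw [hi₀, mul_comm, mul_assoc, inv_mul_cancel₀ h2ne, mul_one]
    set S : Finset (ZMod p) := Finset.univ.filter (fun i : ZMod p => Dm (0 - i) ∧ Dm (d - i))
      with hS
    let g : ZMod p → ZMod p := fun i => d - e₀ - i
    have hgg : ∀ i, g (g i) = i := fun i => by simp only [g]; ring
    have hgfix : ∀ i, g i = i ↔ i = i₀ := by
      intro i
      simp only [g]
      constructor
      · intro h
        have h1 : 2 * i = 2 * i₀ := by rw [hi₀2, two_mul]; nth_rewrite 1 [← h]; ring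
        exact mul_left_cancel₀ h2ne h1
      · rintro rfl
        rw [← hi₀2]; ring
    have hgS : ∀ i, i ∈ S ↔ g i ∈ S := by
      intro i
      simp only [hS, Finset.mem_filter, Finset.mem_univ, true_and, g]
      have a1 : (0 : ZMod p) - (d - e₀ - i) = e₀ - (d - i) := by ring
      have a2 : d - (d - e₀ - i) = e₀ - (0 - i) := by ring
      rw [a1, a2, hsym, hsym]
      exact and_comm
    have heven : Even (S.erase i₀).card := by
      apply even_card_of_involution (S.erase i₀) g
      · intro a ha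
        rw [Finset.mem_erase] at ha ⊢
        refine ⟨fun h => ha.1 ?_, (hgS a).mp ha.2⟩
        have := (hgfix (g a)).mpr h
        rw [hgg] at this
        exact (hgfix a).mp this.symm
      · intro a ha
        rw [Finset.mem_erase] at ha
        exact fun h => ha.1 ((hgfix a).mp h)
      · intro a _
        exact hgg a
    have hmem : i₀ ∈ S ↔ Dm ((e₀ - d) * 2⁻¹) := by
      simp only [hS, Finset.mem_filter, Finset.mem_univ, true_and]
      have a1 : (0 : ZMod p) - i₀ = (e₀ - d) * 2⁻¹ := by rw [hi₀]; ring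
      have a2 : d - i₀ = e₀ - (0 - i₀) := by
        have : d = 2 * i₀ + e₀ := by rw [hi₀2]; ring
        nth_rewrite 1 [this]; ring
      rw [a2, hsym, a1]
      exact and_self_iff
    show Odd S.card ↔ _
    rw [← hmem]
    constructor
    · intro hodd
      by_contra hnot
      rw [Finset.erase_eq_of_notMem hnot] at heven
      exact (Nat.not_even_iff_odd.mpr hodd) heven
    · intro hin
      rw [← Finset.card_erase_add_one hin]
      exact heven.add_one
  -- all points different from the centre behave alike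
  set c₀ : ZMod p := e₀ * 2⁻¹ with hc₀
  have halike : ∀ y y' : ZMod p, y ≠ c₀ → y' ≠ c₀ → (Dm y ↔ Dm y') := by
    intro y y' hy hy'
    have hd : ∀ z : ZMod p, z ≠ c₀ → e₀ - 2 * z ≠ 0 := by
      intro z hz h
      apply hz
      rw [hc₀]
      have : e₀ = 2 * z := sub_eq_zero.mp h
      rw [this, mul_comm, ← mul_assoc, inv_mul_cancel₀ h2ne, one_mul]
    have hy2 : ∀ z : ZMod p, (e₀ - (e₀ - 2 * z)) * 2⁻¹ = z := by
      intro z
      have : e₀ - (e₀ - 2 * z) = z * 2 := by ring
      rw [this, mul_assoc, mul_inv_cancel₀ h2ne, mul_one]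
    have h1 := hpar (e₀ - 2 * y)
    have h2' := hpar (e₀ - 2 * y')
    rw [hy2] at h1 h2'
    rw [← h1, ← h2', hconst _ _ (hd y hy) (hd y' hy')]
  -- `H` is not transitive
  have hnottrans : ¬ ∀ x, Dm x := by
    intro hall
    apply hp'
    have : MulAction.IsPretransitive H (ZMod p) := by
      refine ⟨fun x y => ?_⟩
      obtain ⟨hx, hhx, ex⟩ := hall x
      obtain ⟨hy, hhy, ey⟩ := hall y
      refine ⟨⟨hy * hx⁻¹, H.mul_mem hhy (H.inv_mem hhx)⟩, ?_⟩
      show (hy * hx⁻¹) x = y
      rw [Equiv.Perm.mul_apply, ← ex]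
      simp [ey]
    have h1 : (MulAction.stabilizer H (0 : ZMod p)).index = Nat.card (ZMod p) :=
      MulAction.index_stabilizer_of_transitive H (0 : ZMod p)
    rw [Nat.card_eq_fintype_card, ZMod.card] at h1
    have h3 := Subgroup.index_dvd_card (MulAction.stabilizer H (0 : ZMod p))
    rwa [h1] at h3
  refine ⟨c₀, ?_⟩
  by_cases hc : Dm c₀
  · intro h hh
    by_contra hne
    apply hnottrans
    have hhc : Dm (h c₀) := (hDinv h hh c₀).mpr hc
    intro x
    by_cases hx : x = c₀
    · rw [hx]; exact hc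
    · exact (halike x (h c₀) hx hne).mpr hhc
  · have h0c : (0 : ZMod p) ≠ c₀ := fun h => hc (h ▸ hD0)
    intro h hh
    by_contra hne
    apply hc
    have : Dm (h c₀) := (halike (h c₀) 0 hne h0c).mpr hD0
    exact (hDinv h hh c₀).mp this

/-- **Core statement.**  Let `G` be a group of permutations of `ZMod p` containing the
translation `x ↦ x + 1` and an involution normalising the translations.  Then every subgroup
of index `p` of `G` fixes a point. -/
theorem fixed_point_of_index_p (G H : Subgroup (Equiv.Perm (ZMod p))) (hHG : H ≤ G)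
    (hτ : Equiv.addRight (1 : ZMod p) ∈ G) (hcard : Nat.card G = p * Nat.card H)
    (t : Equiv.Perm (ZMod p)) (ht : t ∈ G) (ht2 : t * t = 1) (ht1 : t ≠ 1)
    (m : ZMod p) (htn : t * Equiv.addRight 1 * t⁻¹ = Equiv.addRight m) :
    ∃ x₀ : ZMod p, ∀ h ∈ H, h x₀ = x₀ := by
  have hp' := not_dvd_card_of_index G H hcard
  by_cases haff : G ≤ Cfsg.affineGroup (ZMod p)
  · exact fixed_point_of_affine H (hHG.trans haff) hp'
  · have h2 : ∀ a b c d : ZMod p, a ≠ b → c ≠ d → ∃ g ∈ G, g a = c ∧ g b = d := by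
      by_contra h
      exact haff (affine_of_not_two_transitive G hτ h)
    have hp3 : 3 ≤ p := by
      by_contra h
      have h3 : p ≤ 3 := by omega
      apply haff
      rw [affineGroup_eq_top_of_le_three h3]
      exact le_top
    exact fixed_point_of_two_transitive G H hHG hτ hcard hp3 h2 t ht (t 0)
      (reflection_of_involution hp3 t m htn ht2 ht1)

/-- a labelling of a set of prime size `p` by `ZMod p` turning a given permutation of order `p`
into the translation `x ↦ x + 1`. -/
theorem exists_labelling_of_orderOf {α : Type*} [Fintype α] [DecidableEq α]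
    (hα : Fintype.card α = p) (c : Equiv.Perm α) (hc' : orderOf c = p) :
    ∃ e : α ≃ ZMod p, (e.permCongrHom : Equiv.Perm α →* Equiv.Perm (ZMod p)) c =
      Equiv.addRight (1 : ZMod p) := by
  have hpp := hp.out
  have hne : Nonempty α := by
    rw [← Fintype.card_pos_iff, hα]; exact hpp.pos
  obtain ⟨a₀⟩ := hne
  have hcyc : c.IsCycle :=
    Equiv.Perm.isCycle_of_prime_order'' (hα ▸ hpp) (hc'.trans hα.symm)
  have hsupp : c.support = Finset.univ := by
    apply Finset.eq_univ_of_card
    rw [← hcyc.orderOf, hc', hα]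
  have hmove : c a₀ ≠ a₀ := by
    rw [← Equiv.Perm.mem_support, hsupp]; exact Finset.mem_univ _
  have hpow : ∀ m : ℕ, (c ^ m) a₀ = a₀ → p ∣ m := by
    intro m hm
    rw [← hc', orderOf_dvd_iff_pow_eq_one, hcyc.pow_eq_one_iff' hmove]
    exact hm
  have : NeZero p := ⟨hpp.ne_zero⟩
  let φ : ZMod p → α := fun k => (c ^ k.val) a₀
  have hφinj : Function.Injective φ := by
    intro i j hij
    wlog hle : i.val ≤ j.val generalizing i j
    · exact (this hij.symm (by omega)).symm
    have h1 : (c ^ (j.val - i.val)) a₀ = a₀ := by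
      have h2 : (c ^ j.val) a₀ = (c ^ i.val) a₀ := hij.symm
      have h3 : j.val = i.val + (j.val - i.val) := by omega
      rw [h3, pow_add, Equiv.Perm.mul_apply] at h2
      exact (c ^ i.val).injective h2
    have h4 := hpow _ h1
    have hj := ZMod.val_lt j
    have h5 : j.val - i.val = 0 := Nat.eq_zero_of_dvd_of_lt h4 (by omega)
    apply ZMod.val_injective
    omega
  have hφbij : Function.Bijective φ :=
    (Fintype.bijective_iff_injective_and_card φ).mpr ⟨hφinj, by rw [ZMod.card, hα]⟩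
  let e : α ≃ ZMod p := (Equiv.ofBijective φ hφbij).symm
  have hesymm : ∀ k : ZMod p, e.symm k = φ k := fun k => rfl
  have : Fact (1 < p) := ⟨hpp.one_lt⟩
  have hstep : ∀ k : ZMod p, c (φ k) = φ (k + 1) := by
    intro k
    show c ((c ^ k.val) a₀) = (c ^ (k + 1).val) a₀
    rw [ZMod.val_add, ZMod.val_one]
    have h1 : ∀ n : ℕ, c ^ (n % p) = c ^ n := by
      intro n
      have := pow_mod_orderOf c n
      rwa [hc'] at this
    rw [h1, pow_succ', Equiv.Perm.mul_apply]
  refine ⟨e, ?_⟩
  ext k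
  show e (c (e.symm k)) = k + 1
  rw [hesymm, hstep, ← hesymm, Equiv.apply_symm_apply]

end IndexP

end Cfsg.Agent.Lib.Helper12_PrimeDeg
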