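import Mathlib
import Cfsg.Prelude.Def_Perm
import Cfsg.Agent.S0673
import Cfsg.Agent.Lib.Helper12_PrimeDeg
import Cfsg.Agent.Lib.Helper12_PrimeDeg2
import Cfsg.Agent.Lib.Helper12_PrimeDeg3

/-!
Neumann's theorem: a non-affine group of permutations of `ZMod p` containing the translation
`x ↦ x + 1` and a reflection `x ↦ -x + b` is triply transitive.
-/

set_option autoImplicit false

namespace Cfsg.Agent.Lib.Helper12_PrimeDeg

open Polynomial Cfsg.Agent.S0673

variable {p : ℕ} [hp : Fact p.Prime]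

section ThreeTransitive

/-- the functional attached to a family of sets indexed by pairs -/
def triFun (S : ZMod p → ZMod p → Finset (ZMod p)) (k : ZMod p)
    (f : ZMod p → ZMod p) (x y : ZMod p) : ZMod p :=
  k * (f x + f y) - 2 * ∑ z ∈ S x y, f z

theorem triFun_add (S : ZMod p → ZMod p → Finset (ZMod p)) (k : ZMod p)
    (f g : ZMod p → ZMod p) (x y : ZMod p) :
    triFun S k (f + g) x y = triFun S k f x y + triFun S k g x y := by
  simp only [triFun, Pi.add_apply, Finset.sum_add_distrib]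
  ring

theorem triFun_smul (S : ZMod p → ZMod p → Finset (ZMod p)) (k c : ZMod p)
    (f : ZMod p → ZMod p) (x y : ZMod p) :
    triFun S k (c • f) x y = c * triFun S k f x y := by
  simp only [triFun, Pi.smul_apply, smul_eq_mul, ← Finset.mul_sum]
  ring

/-- the common kernel of the functionals `triFun S k · x y`, `x ≠ y` -/
def triKer (S : ZMod p → ZMod p → Finset (ZMod p)) (k : ZMod p) :
    Submodule (ZMod p) (ZMod p → ZMod p) where
  carrier := {f | ∀ x y, x ≠ y → triFun S k f x y = 0}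
  zero_mem' := by
    intro x y _
    simp [triFun]
  add_mem' := by
    intro f g hf hg x y hxy
    rw [triFun_add, hf x y hxy, hg x y hxy, add_zero]
  smul_mem' := by
    intro c f hf x y hxy
    rw [triFun_smul, hf x y hxy, mul_zero]

theorem two_ne_zero_of_three_le (hp3 : 3 ≤ p) : (2 : ZMod p) ≠ 0 := by
  intro h
  have h' : ((2 : ℕ) : ZMod p) = 0 := by exact_mod_cast h
  rw [ZMod.natCast_eq_zero_iff] at h'
  have := Nat.le_of_dvd (by norm_num) h'
  omega

theorem three_le_of_not_affine (G : Subgroup (Equiv.Perm (ZMod p)))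
    (hnaff : ¬ G ≤ Cfsg.affineGroup (ZMod p)) : 3 ≤ p := by
  by_contra h
  have h3 : p ≤ 3 := by omega
  apply hnaff
  rw [affineGroup_eq_top_of_le_three h3]
  exact le_top

/-- the setwise stabiliser of a pair is transitive on the remaining points -/
theorem setwise_transitive (G : Subgroup (Equiv.Perm (ZMod p)))
    (hτ : Equiv.addRight (1 : ZMod p) ∈ G) (hnaff : ¬ G ≤ Cfsg.affineGroup (ZMod p))
    (t : Equiv.Perm (ZMod p)) (ht : t ∈ G) (b₀ : ZMod p) (htx : ∀ x, t x = -x + b₀)
    {a b c : ZMod p} (hab : a ≠ b) (hca : c ≠ a) (hcb : c ≠ b) {z : ZMod p}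
    (hza : z ≠ a) (hzb : z ≠ b) :
    ∃ g ∈ G, ((g a = a ∧ g b = b) ∨ (g a = b ∧ g b = a)) ∧ g c = z := by
  classical
  have hpp := hp.out
  have hp3 : 3 ≤ p := three_le_of_not_affine G hnaff
  have h2ne : (2 : ZMod p) ≠ 0 := two_ne_zero_of_three_le hp3
  have h2 : ∀ a b c d : ZMod p, a ≠ b → c ≠ d → ∃ g ∈ G, g a = c ∧ g b = d := by
    by_contra h
    exact hnaff (affine_of_not_two_transitive G hτ h)
  let R : ZMod p → ZMod p → ZMod p → Prop := fun x y w =>
    ∃ g ∈ G, ((g a = x ∧ g b = y) ∨ (g a = y ∧ g b = x)) ∧ g c = w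
  by_contra hcon
  have hcon' : ¬ R a b z := hcon
  have hRinv : ∀ g ∈ G, ∀ x y w, R (g x) (g y) (g w) ↔ R x y w := by
    intro g hg x y w
    constructor
    · rintro ⟨h, hh, hxy, hw⟩
      refine ⟨g⁻¹ * h, G.mul_mem (G.inv_mem hg) hh, ?_, ?_⟩
      · rcases hxy with ⟨h1, h2⟩ | ⟨h1, h2⟩
        · left; constructor <;> simp [h1, h2]
        · right; constructor <;> simp [h1, h2]
      · simp [hw]
    · rintro ⟨h, hh, hxy, hw⟩
      refine ⟨g * h, G.mul_mem hg hh, ?_, ?_⟩
      · rcases hxy with ⟨h1, h2⟩ | ⟨h1, h2⟩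
        · left; constructor <;> simp [h1, h2]
        · right; constructor <;> simp [h1, h2]
      · simp [hw]
  have hRsymm : ∀ x y w, R x y w ↔ R y x w := by
    intro x y w
    constructor
    · rintro ⟨h, hh, hxy, hw⟩
      exact ⟨h, hh, hxy.symm, hw⟩
    · rintro ⟨h, hh, hxy, hw⟩
      exact ⟨h, hh, hxy.symm, hw⟩
  have hRabc : R a b c := ⟨1, G.one_mem, Or.inl ⟨rfl, rfl⟩, rfl⟩
  let S : ZMod p → ZMod p → Finset (ZMod p) := fun x y => Finset.univ.filter (fun w => R x y w)
  have hSmem : ∀ x y w, w ∈ S x y ↔ R x y w := by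
    intro x y w
    simp only [S, Finset.mem_filter, Finset.mem_univ, true_and]
  set k : ℕ := (S a b).card with hk
  have hcount : ∀ x y, x ≠ y → (S x y).card = k := by
    intro x y hxy
    obtain ⟨g, hg, ga, gb⟩ := h2 a b x y hab hxy
    symm
    apply Finset.card_bij (fun w _ => g w)
    · intro w hw
      rw [hSmem] at hw ⊢
      rw [← ga, ← gb]
      exact (hRinv g hg a b w).mpr hw
    · intro w _ w' _ h
      exact g.injective h
    · intro w hw
      refine ⟨g⁻¹ w, ?_, by simp⟩
      rw [hSmem] at hw ⊢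
      rw [← ga, ← gb] at hw
      apply (hRinv g hg a b (g⁻¹ w)).mp
      simpa using hw
  set W : Submodule (ZMod p) (ZMod p → ZMod p) := triKer S (k : ZMod p) with hW
  have hcomp : ∀ g ∈ G, ∀ (f : ZMod p → ZMod p) (x y : ZMod p),
      triFun S (k : ZMod p) (fun w => f (g w)) x y = triFun S (k : ZMod p) f (g x) (g y) := by
    intro g hg f x y
    have hsum : ∑ w ∈ S x y, f (g w) = ∑ w ∈ S (g x) (g y), f w :=
      Finset.sum_equiv g (fun w => by rw [hSmem, hSmem]; exact (hRinv g hg x y w).symm)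
        (fun w _ => rfl)
    simp only [triFun]
    rw [hsum]
  have hWinv : ∀ g ∈ G, ∀ f ∈ W, (fun w => f (g w)) ∈ W := by
    intro g hg f hf x y hxy
    rw [hcomp g hg]
    exact hf _ _ (fun h => hxy (g.injective h))
  have hconst : ∀ c' : ZMod p, ∀ x y, x ≠ y →
      triFun S (k : ZMod p) (fun _ => c') x y = 0 := by
    intro c' x y hxy
    simp only [triFun, Finset.sum_const, hcount x y hxy, nsmul_eq_mul]
    ring
  -- the identity function lies in `W`
  have hι : (fun x : ZMod p => x) ∈ W := by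
    intro x y hxy
    set F : ZMod p → ZMod p → ZMod p :=
      fun x y => triFun S (k : ZMod p) (fun w : ZMod p => w) x y with hF
    have hF1 : ∀ x y c', x ≠ y → F (x + c') (y + c') = F x y := by
      intro x y c' hxy
      have h1 := hcomp _ (translation_mem G hτ c') (fun w => w) x y
      have h2 : (fun w : ZMod p => (Equiv.addRight c') w) = (fun w => w) + (fun _ => c') := by
        funext w
        simp
      rw [h2, triFun_add, hconst c' x y hxy, add_zero] at h1
      rw [hF]
      simp only [Equiv.coe_addRight] at h1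
      exact h1.symm
    have hF2 : ∀ x y, F y x = F x y := by
      intro x y
      simp only [hF, triFun]
      have : S y x = S x y := by
        ext w
        rw [hSmem, hSmem]
        exact hRsymm y x w
      rw [this, add_comm]
    have hF3 : ∀ x y, x ≠ y → F (-x + b₀) (-y + b₀) = - F x y := by
      intro x y hxy
      have h1 := hcomp t ht (fun w => w) x y
      have h2 : (fun w : ZMod p => t w) = ((-1 : ZMod p) • (fun w => w)) + (fun _ => b₀) := by
        funext w
        simp [htx]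
      rw [h2, triFun_add, triFun_smul, hconst b₀ x y hxy, add_zero, htx, htx] at h1
      rw [hF]
      simp only
      rw [← h1]
      ring
    have h3 := hF3 x y hxy
    have h4 := hF1 (-x + b₀) (-y + b₀) (x + y - b₀) (by
      intro h
      apply hxy
      have := add_right_cancel h
      exact neg_injective this)
    have e1 : -x + b₀ + (x + y - b₀) = y := by ring
    have e2 : -y + b₀ + (x + y - b₀) = x := by ring
    rw [e1, e2, hF2 x y, h3] at h4
    have h5 : (2 : ZMod p) * F x y = 0 := by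
      rw [two_mul]
      nth_rewrite 1 [h4]
      ring
    rcases mul_eq_zero.mp h5 with h | h
    · exact absurd h h2ne
    · exact h
  have hshift : ∀ f ∈ W, (fun j => f (j - 1)) ∈ W := by
    intro f hf
    have := hWinv _ (G.inv_mem hτ) f hf
    simp only [addRight_inv_apply] at this
    exact this
  obtain ⟨hWeq, hrp⟩ := eq_polyFun_of_shift_invariant W hshift
  set r := Module.finrank (ZMod p) W with hr
  have hr2 : 2 ≤ r := by
    have h1 : (fun j : ZMod p => (X : (ZMod p)[X]).eval (ZMod.cast j : ZMod p)) ∈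
        polyFun p (ZMod p) r := by
      rw [← hWeq]
      have : (fun j : ZMod p => (X : (ZMod p)[X]).eval (ZMod.cast j : ZMod p)) =
          fun x : ZMod p => x := by
        funext j
        simp
      rw [this]
      exact hι
    have h2 := degree_lt_of_mem_polyFun hrp (by rw [degree_X]; exact_mod_cast hpp.one_lt) h1
    rw [degree_X] at h2
    have : (1 : ℕ) < r := by exact_mod_cast h2
    omega
  have hrbig : p - 1 ≤ r := by
    by_contra hlt
    apply hnaff
    exact affine_of_invariant (K := ZMod p) G hτ (r := r) hr2 (by omega)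
      (fun g hg f hf => by rw [← hWeq] at hf ⊢; exact hWinv g hg f hf)
  -- a sum-zero function on which the functional does not vanish
  let h : ZMod p → ZMod p := fun w => (if w = c then 1 else 0) - (if w = z then 1 else 0)
  have hsum : ∑ j, h j = 0 := by
    simp only [h]
    rw [Finset.sum_sub_distrib]
    simp
  have hmem : h ∈ W := by
    rw [hWeq]
    exact polyFun_mono hrbig (mem_polyFun_of_sum_eq_zero h hsum)
  have h0 := hmem a b hab
  have hha : h a = 0 := by simp [h, hca.symm, hza.symm]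
  have hhb : h b = 0 := by simp [h, hcb.symm, hzb.symm]
  have hS : ∑ w ∈ S a b, h w = 1 := by
    simp only [h]
    rw [Finset.sum_sub_distrib, Finset.sum_ite_eq', Finset.sum_ite_eq',
      if_pos ((hSmem a b c).mpr hRabc), if_neg (fun hz => hcon' ((hSmem a b z).mp hz))]
    simp
  simp only [triFun] at h0
  rw [hha, hhb, hS] at h0
  apply h2ne
  have : (2 : ZMod p) = -((k : ZMod p) * (0 + 0) - 2 * 1) := by ring
  rw [this, h0, neg_zero]

/-- **Neumann.** A non-affine group of permutations of `ZMod p` containing the translation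
`x ↦ x + 1` and a reflection `x ↦ -x + b₀` is triply transitive. -/
theorem three_transitive_core (G : Subgroup (Equiv.Perm (ZMod p)))
    (hτ : Equiv.addRight (1 : ZMod p) ∈ G) (hnaff : ¬ G ≤ Cfsg.affineGroup (ZMod p))
    (t : Equiv.Perm (ZMod p)) (ht : t ∈ G) (b₀ : ZMod p) (htx : ∀ x, t x = -x + b₀) :
    ∀ a b c a' b' c' : ZMod p, a ≠ b → a ≠ c → b ≠ c → a' ≠ b' → a' ≠ c' → b' ≠ c' →
      ∃ g ∈ G, g a = a' ∧ g b = b' ∧ g c = c' := by
  classical
  have hp3 : 3 ≤ p := three_le_of_not_affine G hnaff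
  have h2ne : (2 : ZMod p) ≠ 0 := two_ne_zero_of_three_le hp3
  have h2 : ∀ a b c d : ZMod p, a ≠ b → c ≠ d → ∃ g ∈ G, g a = c ∧ g b = d := by
    by_contra h
    exact hnaff (affine_of_not_two_transitive G hτ h)
  have hsw := fun {a b c : ZMod p} (hab : a ≠ b) (hca : c ≠ a) (hcb : c ≠ b) {z : ZMod p}
    (hza : z ≠ a) (hzb : z ≠ b) => setwise_transitive G hτ hnaff t ht b₀ htx hab hca hcb hza hzb
  -- the reflection
  set z₀ : ZMod p := b₀ * 2⁻¹ with hz₀
  have hb₀ : b₀ = 2 * z₀ := by
    rw [hz₀, mul_comm, mul_assoc, inv_mul_cancel₀ h2ne, mul_one]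
  have htz : t z₀ = z₀ := by rw [htx, hb₀]; ring
  have ht1 : t (z₀ + 1) = z₀ - 1 := by rw [htx, hb₀]; ring
  have ht2 : t (z₀ - 1) = z₀ + 1 := by rw [htx, hb₀]; ring
  have hne1 : z₀ + 1 ≠ z₀ - 1 := by
    intro h
    apply h2ne
    have : (2 : ZMod p) = (z₀ + 1) - (z₀ - 1) := by ring
    rw [this, h, sub_self]
  -- an element swapping `a` and `b` and fixing `c`
  have hswap : ∀ a b c : ZMod p, a ≠ b → c ≠ a → c ≠ b → ∃ u ∈ G, u a = b ∧ u b = a ∧ u c = c := by
    intro a b c hab hca hcb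
    obtain ⟨h₁, hh₁, e1, e2⟩ := h2 (z₀ + 1) (z₀ - 1) a b hne1 hab
    have hwa : h₁ z₀ ≠ a := by
      rw [← e1]
      intro h
      have := h₁.injective h
      have h1 : (1 : ZMod p) = 0 := by
        have : z₀ + 1 = z₀ + 0 := by rw [add_zero]; exact this.symm
        exact add_left_cancel this
      exact one_ne_zero h1
    have hwb : h₁ z₀ ≠ b := by
      rw [← e2]
      intro h
      have := h₁.injective h
      have h1 : (-1 : ZMod p) = 0 := by
        have : z₀ + (-1) = z₀ + 0 := by rw [add_zero, ← sub_eq_add_neg]; exact this.symm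
        exact add_left_cancel this
      exact one_ne_zero (neg_eq_zero.mp h1)
    obtain ⟨h₂, hh₂, hab2, e3⟩ := hsw hab hwa hwb hca hcb
    set hh : Equiv.Perm (ZMod p) := h₂ * h₁ with hhh
    have hhG : hh ∈ G := G.mul_mem hh₂ hh₁
    have hhz : hh z₀ = c := e3
    have hinvc : hh⁻¹ c = z₀ := by rw [← hhz]; simp
    refine ⟨hh * t * hh⁻¹, G.mul_mem (G.mul_mem hhG ht) (G.inv_mem hhG), ?_, ?_, ?_⟩
    · rcases hab2 with ⟨f1, f2⟩ | ⟨f1, f2⟩
      · have ka : hh (z₀ + 1) = a := by show h₂ (h₁ (z₀ + 1)) = a; rw [e1, f1]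
        have kb : hh (z₀ - 1) = b := by show h₂ (h₁ (z₀ - 1)) = b; rw [e2, f2]
        have : hh⁻¹ a = z₀ + 1 := by rw [← ka]; simp
        show hh (t (hh⁻¹ a)) = b
        rw [this, ht1, kb]
      · have ka : hh (z₀ + 1) = b := by show h₂ (h₁ (z₀ + 1)) = b; rw [e1, f1]
        have kb : hh (z₀ - 1) = a := by show h₂ (h₁ (z₀ - 1)) = a; rw [e2, f2]
        have : hh⁻¹ a = z₀ - 1 := by rw [← kb]; simp
        show hh (t (hh⁻¹ a)) = b
        rw [this, ht2, ka]
    · rcases hab2 with ⟨f1, f2⟩ | ⟨f1, f2⟩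
      · have ka : hh (z₀ + 1) = a := by show h₂ (h₁ (z₀ + 1)) = a; rw [e1, f1]
        have kb : hh (z₀ - 1) = b := by show h₂ (h₁ (z₀ - 1)) = b; rw [e2, f2]
        have : hh⁻¹ b = z₀ - 1 := by rw [← kb]; simp
        show hh (t (hh⁻¹ b)) = a
        rw [this, ht2, ka]
      · have ka : hh (z₀ + 1) = b := by show h₂ (h₁ (z₀ + 1)) = b; rw [e1, f1]
        have kb : hh (z₀ - 1) = a := by show h₂ (h₁ (z₀ - 1)) = a; rw [e2, f2]
        have : hh⁻¹ b = z₀ + 1 := by rw [← ka]; simp
        show hh (t (hh⁻¹ b)) = a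
        rw [this, ht1, kb]
    · show hh (t (hh⁻¹ c)) = c
      rw [hinvc, htz, hhz]
  -- the pointwise stabiliser of two points is transitive on the remaining points
  have hpt : ∀ a b c z : ZMod p, a ≠ b → c ≠ a → c ≠ b → z ≠ a → z ≠ b →
      ∃ g ∈ G, g a = a ∧ g b = b ∧ g c = z := by
    intro a b c z hab hca hcb hza hzb
    obtain ⟨g, hg, hgab, hgc⟩ := hsw hab hca hcb hza hzb
    rcases hgab with ⟨ga, gb⟩ | ⟨ga, gb⟩
    · exact ⟨g, hg, ga, gb, hgc⟩
    · obtain ⟨u, hu, ua, ub, uc⟩ := hswap a b c hab hca hcb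
      refine ⟨g * u, G.mul_mem hg hu, ?_, ?_, ?_⟩
      · show g (u a) = a; rw [ua, gb]
      · show g (u b) = b; rw [ub, ga]
      · show g (u c) = z; rw [uc, hgc]
  intro a b c a' b' c' hab hac hbc hab' hac' hbc'
  obtain ⟨g₁, hg₁, e1, e2⟩ := h2 a b a' b' hab hab'
  have hc1 : g₁ c ≠ a' := by
    rw [← e1]
    exact fun h => hac (g₁.injective h).symm
  have hc2 : g₁ c ≠ b' := by
    rw [← e2]
    exact fun h => hbc (g₁.injective h).symm
  obtain ⟨g₂, hg₂, f1, f2, f3⟩ := hpt a' b' (g₁ c) c' hab' hc1 hc2 hac'.symm hbc'.symm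
  refine ⟨g₂ * g₁, G.mul_mem hg₂ hg₁, ?_, ?_, ?_⟩
  · show g₂ (g₁ a) = a'; rw [e1, f1]
  · show g₂ (g₁ b) = b'; rw [e2, f2]
  · show g₂ (g₁ c) = c'; exact f3

end ThreeTransitive

end Cfsg.Agent.Lib.Helper12_PrimeDeg
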