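import Mathlib
import Cfsg.Prelude.Def_Perm
import Cfsg.Agent.S0673
import Cfsg.Agent.Lib.Helper12_PrimeDeg
import Cfsg.Agent.Lib.Helper12_PrimeDeg2
import Cfsg.Agent.Lib.Helper12_PrimeDeg3
import Cfsg.Agent.Lib.Helper12_PrimeDeg4

/-!
Neumann's bound on the number of orbits of a two point stabiliser in a non-affine group of
permutations of `ZMod p` containing the translations, in terms of the affine maps it contains.
Here: if the multipliers of the affine maps in `G`, together with their multiples by a fixed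
`n`, exhaust the non-zero residues, then a two point stabiliser has at most two orbits on the
remaining points.
-/

set_option autoImplicit false

namespace Cfsg.Agent.Lib.Helper12_PrimeDeg

open Polynomial Cfsg.Agent.S0673 Matrix

variable {p : ℕ} [hp : Fact p.Prime]

section OrbitBound

theorem perm_inv_apply_self {α : Type*} (g : Equiv.Perm α) (x : α) : g⁻¹ (g x) = x := by
  simp

theorem exists_ne_zero_orth {K : Type*} [Field K] (v : Fin 3 → Fin 4 → K) :
    ∃ lam : Fin 4 → K, lam ≠ 0 ∧ ∀ i, v i ⬝ᵥ lam = 0 := by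
  let f : (Fin 4 → K) →ₗ[K] (Fin 3 → K) := Matrix.mulVecLin (Matrix.of v)
  have h : LinearMap.ker f ≠ ⊥ := LinearMap.ker_ne_bot_of_finrank_lt (by simp)
  obtain ⟨lam, hmem, hne⟩ := Submodule.exists_mem_ne_zero_of_ne_bot h
  refine ⟨lam, hne, fun i => ?_⟩
  have := congrFun (LinearMap.mem_ker.mp hmem) i
  simpa [f, Matrix.mulVec] using this

theorem cons_dot {K : Type*} [Field K] (u : K) (v : Fin 3 → K) (lam : Fin 4 → K) :
    (Fin.cons u v : Fin 4 → K) ⬝ᵥ lam = u * lam 0 + ∑ i, v i * lam i.succ := by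
  rw [dotProduct, Fin.sum_univ_succ]
  simp only [Fin.cons_zero, Fin.cons_succ]

/-- the vector of partial sums of a function over a family of sets indexed by pairs -/
def orbVec (S : Fin 3 → ZMod p → ZMod p → Finset (ZMod p)) (f : ZMod p → ZMod p)
    (x y : ZMod p) : Fin 4 → ZMod p :=
  Fin.cons (f x) (fun i => ∑ z ∈ S i x y, f z)

theorem orbVec_add (S : Fin 3 → ZMod p → ZMod p → Finset (ZMod p)) (f g : ZMod p → ZMod p)
    (x y : ZMod p) : orbVec S (f + g) x y = orbVec S f x y + orbVec S g x y := by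
  funext j
  refine Fin.cases ?_ (fun i => ?_) j
  · simp [orbVec]
  · simp [orbVec, Finset.sum_add_distrib]

theorem orbVec_smul (S : Fin 3 → ZMod p → ZMod p → Finset (ZMod p)) (c : ZMod p)
    (f : ZMod p → ZMod p) (x y : ZMod p) : orbVec S (c • f) x y = c • orbVec S f x y := by
  funext j
  refine Fin.cases ?_ (fun i => ?_) j
  · simp [orbVec]
  · simp [orbVec, Finset.mul_sum]

theorem orbVec_zero (S : Fin 3 → ZMod p → ZMod p → Finset (ZMod p)) (x y : ZMod p) :
    orbVec S 0 x y = 0 := by
  funext j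
  refine Fin.cases ?_ (fun i => ?_) j
  · simp [orbVec]
  · simp [orbVec]

/-- the functions killed by the functionals `f ↦ orbVec S f x y ⬝ᵥ lam`, `x ≠ y` -/
def orbKer (S : Fin 3 → ZMod p → ZMod p → Finset (ZMod p)) (lam : Fin 4 → ZMod p) :
    Submodule (ZMod p) (ZMod p → ZMod p) where
  carrier := {f | ∀ x y, x ≠ y → orbVec S f x y ⬝ᵥ lam = 0}
  zero_mem' := by
    intro x y _
    rw [orbVec_zero, zero_dotProduct]
  add_mem' := by
    intro f g hf hg x y hxy
    rw [orbVec_add, add_dotProduct, hf x y hxy, hg x y hxy, add_zero]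
  smul_mem' := by
    intro c f hf x y hxy
    rw [orbVec_smul, smul_dotProduct, hf x y hxy, smul_zero]

/-- **Neumann's orbit bound** (special case): at most two orbits of a two point stabiliser on
the remaining points. -/
theorem two_orbit_bound (G : Subgroup (Equiv.Perm (ZMod p)))
    (hτ : Equiv.addRight (1 : ZMod p) ∈ G) (hnaff : ¬ G ≤ Cfsg.affineGroup (ZMod p))
    (n : ZMod p)
    (hM : ∀ d : ZMod p, d ≠ 0 → ∃ g ∈ G, ∃ m b : ZMod p,
      (∀ x, g x = m * x + b) ∧ (d = m ∨ d = m * n))
    {a b : ZMod p} (hab : a ≠ b) (c : Fin 3 → ZMod p) (hca : ∀ i, c i ≠ a)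
    (hcb : ∀ i, c i ≠ b) :
    ∃ i j, i ≠ j ∧ ∃ g ∈ G, g a = a ∧ g b = b ∧ g (c i) = c j := by
  classical
  have hpp := hp.out
  have hp3 : 3 ≤ p := three_le_of_not_affine G hnaff
  have h2 : ∀ a b c d : ZMod p, a ≠ b → c ≠ d → ∃ g ∈ G, g a = c ∧ g b = d := by
    by_contra h
    exact hnaff (affine_of_not_two_transitive G hτ h)
  by_contra hcon
  have hcon' : ∀ i j, i ≠ j → ∀ g ∈ G, g a = a → g b = b → g (c i) ≠ c j := by
    intro i j hij g hg ga gb gc
    exact hcon ⟨i, j, hij, g, hg, ga, gb, gc⟩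
  let R : Fin 3 → ZMod p → ZMod p → ZMod p → Prop := fun i x y w =>
    ∃ g ∈ G, g a = x ∧ g b = y ∧ g (c i) = w
  have hRinv : ∀ i, ∀ g ∈ G, ∀ x y w, R i (g x) (g y) (g w) ↔ R i x y w := by
    intro i g hg x y w
    constructor
    · rintro ⟨h, hh, h1, h2, h3⟩
      refine ⟨g⁻¹ * h, G.mul_mem (G.inv_mem hg) hh, ?_, ?_, ?_⟩
      · show g⁻¹ (h a) = x; rw [h1, perm_inv_apply_self]
      · show g⁻¹ (h b) = y; rw [h2, perm_inv_apply_self]
      · show g⁻¹ (h (c i)) = w; rw [h3, perm_inv_apply_self]
    · rintro ⟨h, hh, h1, h2, h3⟩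
      refine ⟨g * h, G.mul_mem hg hh, ?_, ?_, ?_⟩
      · show g (h a) = g x; rw [h1]
      · show g (h b) = g y; rw [h2]
      · show g (h (c i)) = g w; rw [h3]
  have hRdisj : ∀ i j x y w, R i x y w → R j x y w → i = j := by
    rintro i j x y w ⟨g, hg, ga, gb, gc⟩ ⟨g', hg', ga', gb', gc'⟩
    by_contra hij
    apply hcon' i j hij (g'⁻¹ * g) (G.mul_mem (G.inv_mem hg') hg)
    · show g'⁻¹ (g a) = a; rw [ga, ← ga', perm_inv_apply_self]
    · show g'⁻¹ (g b) = b; rw [gb, ← gb', perm_inv_apply_self]
    · show g'⁻¹ (g (c i)) = c j; rw [gc, ← gc', perm_inv_apply_self]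
  have hRne : ∀ i x y w, R i x y w → w ≠ x ∧ w ≠ y := by
    rintro i x y w ⟨g, hg, ga, gb, gc⟩
    constructor
    · rw [← gc, ← ga]; exact fun h => hca i (g.injective h)
    · rw [← gc, ← gb]; exact fun h => hcb i (g.injective h)
  have hRself : ∀ i, R i a b (c i) := fun i => ⟨1, G.one_mem, rfl, rfl, rfl⟩
  let S : Fin 3 → ZMod p → ZMod p → Finset (ZMod p) :=
    fun i x y => Finset.univ.filter (fun w => R i x y w)
  have hSmem : ∀ i x y w, w ∈ S i x y ↔ R i x y w := by
    intro i x y w
    simp only [S, Finset.mem_filter, Finset.mem_univ, true_and]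
  let k : Fin 3 → ℕ := fun i => (S i a b).card
  have hcount : ∀ i x y, x ≠ y → (S i x y).card = k i := by
    intro i x y hxy
    obtain ⟨g, hg, ga, gb⟩ := h2 a b x y hab hxy
    symm
    apply Finset.card_bij (fun w _ => g w)
    · intro w hw
      rw [hSmem] at hw ⊢
      rw [← ga, ← gb]
      exact (hRinv i g hg a b w).mpr hw
    · intro w _ w' _ h
      exact g.injective h
    · intro w hw
      refine ⟨g⁻¹ w, ?_, by simp⟩
      rw [hSmem] at hw ⊢
      rw [← ga, ← gb] at hw
      apply (hRinv i g hg a b (g⁻¹ w)).mp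
      simpa using hw
  let α : Fin 4 → ZMod p := Fin.cons 1 (fun i => (k i : ZMod p))
  have hcomp : ∀ g ∈ G, ∀ (f : ZMod p → ZMod p) (x y : ZMod p),
      orbVec S (fun w => f (g w)) x y = orbVec S f (g x) (g y) := by
    intro g hg f x y
    have hsum : ∀ i, ∑ w ∈ S i x y, f (g w) = ∑ w ∈ S i (g x) (g y), f w := fun i =>
      Finset.sum_equiv g (fun w => by rw [hSmem, hSmem]; exact (hRinv i g hg x y w).symm)
        (fun w _ => rfl)
    simp only [orbVec, hsum]
  have hconst : ∀ c' : ZMod p, ∀ x y, x ≠ y → orbVec S (fun _ => c') x y = c' • α := by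
    intro c' x y hxy
    funext j
    refine Fin.cases ?_ (fun i => ?_) j
    · simp [orbVec, α]
    · simp [orbVec, α, hcount i x y hxy, mul_comm]
  -- the choice of the coefficients
  obtain ⟨lam, hlam0, hlam⟩ := exists_ne_zero_orth
    ![α, orbVec S (fun w : ZMod p => w) 0 1, orbVec S (fun w : ZMod p => w) 0 n]
  have hα : α ⬝ᵥ lam = 0 := hlam 0
  have hB : orbVec S (fun w : ZMod p => w) 0 1 ⬝ᵥ lam = 0 := hlam 1
  have hC : orbVec S (fun w : ZMod p => w) 0 n ⬝ᵥ lam = 0 := hlam 2
  set W : Submodule (ZMod p) (ZMod p → ZMod p) := orbKer S lam with hW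
  have hWinv : ∀ g ∈ G, ∀ f ∈ W, (fun w => f (g w)) ∈ W := by
    intro g hg f hf x y hxy
    rw [hcomp g hg]
    exact hf _ _ (fun h => hxy (g.injective h))
  -- the identity function lies in `W`
  have hι : (fun x : ZMod p => x) ∈ W := by
    set F : ZMod p → ZMod p → ZMod p :=
      fun x y => orbVec S (fun w : ZMod p => w) x y ⬝ᵥ lam with hF
    have haff : ∀ g ∈ G, ∀ m b' : ZMod p, (∀ x, g x = m * x + b') → ∀ x y, x ≠ y →
        F (g x) (g y) = m * F x y := by
      intro g hg m b' hgx x y hxy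
      have h1 := hcomp g hg (fun w => w) x y
      have h2 : (fun w : ZMod p => g w) = (m • (fun w : ZMod p => w)) + (fun _ => b') := by
        funext w
        simp [hgx]
      rw [h2, orbVec_add, orbVec_smul, hconst b' x y hxy] at h1
      simp only [hF]
      rw [← h1, add_dotProduct, smul_dotProduct, smul_dotProduct, hα, smul_zero, add_zero,
        smul_eq_mul]
    have htrans : ∀ x y c', x ≠ y → F (x + c') (y + c') = F x y := by
      intro x y c' hxy
      have := haff _ (translation_mem G hτ c') 1 c' (fun x => by simp) x y hxy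
      simpa using this
    intro x y hxy
    show F x y = 0
    have hd0 : y - x ≠ 0 := fun h => hxy (sub_eq_zero.mp h).symm
    obtain ⟨g, hg, m, b', hgx, hd⟩ := hM (y - x) hd0
    rcases hd with hd | hd
    · have h1 := haff g hg m b' hgx 0 1 zero_ne_one
      have hB' : F 0 1 = 0 := hB
      rw [hB', mul_zero, hgx, hgx, mul_zero, zero_add, mul_one, ← hd] at h1
      have h3 := htrans b' (y - x + b') (x - b') (by
        intro h
        apply hd0
        have : (0 : ZMod p) + b' = y - x + b' := by rw [zero_add]; exact h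
        exact (add_right_cancel this).symm)
      have e1 : b' + (x - b') = x := by ring
      have e2 : y - x + b' + (x - b') = y := by ring
      rw [e1, e2, h1] at h3
      exact h3
    · have hn0 : (0 : ZMod p) ≠ n := by
        intro h
        apply hd0
        rw [hd, ← h, mul_zero]
      have h1 := haff g hg m b' hgx 0 n hn0
      have hC' : F 0 n = 0 := hC
      rw [hC', mul_zero, hgx, hgx, mul_zero, zero_add, ← hd] at h1
      have h3 := htrans b' (y - x + b') (x - b') (by
        intro h
        apply hd0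
        have : (0 : ZMod p) + b' = y - x + b' := by rw [zero_add]; exact h
        exact (add_right_cancel this).symm)
      have e1 : b' + (x - b') = x := by ring
      have e2 : y - x + b' + (x - b') = y := by ring
      rw [e1, e2, h1] at h3
      exact h3
  have hshift : ∀ f ∈ W, (fun j => f (j - 1)) ∈ W := by
    intro f hf
    have := hWinv _ (G.inv_mem hτ) f hf
    simp only [addRight_inv_apply] at this
    exact this
  obtain ⟨hWeq, hrp⟩ := eq_polyFun_of_shift_invariant W hshift
  set r := Module.finrank (ZMod p) W with hr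
  have hr2 : 2 ≤ r := by
    have h1 : (fun j : ZMod p => (X : (ZMod p)[X]).eval (ZMod.cast j : ZMod p)) ∈
        polyFun p (ZMod p) r := by
      rw [← hWeq]
      have : (fun j : ZMod p => (X : (ZMod p)[X]).eval (ZMod.cast j : ZMod p)) =
          fun x : ZMod p => x := by
        funext j
        simp
      rw [this]
      exact hι
    have h2 := degree_lt_of_mem_polyFun hrp (by rw [degree_X]; exact_mod_cast hpp.one_lt) h1
    rw [degree_X] at h2
    have : (1 : ℕ) < r := by exact_mod_cast h2
    omega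
  have hrbig : p - 1 ≤ r := by
    by_contra hlt
    apply hnaff
    exact affine_of_invariant (K := ZMod p) G hτ (r := r) hr2 (by omega)
      (fun g hg f hf => by rw [← hWeq] at hf ⊢; exact hWinv g hg f hf)
  -- evaluation on differences of point masses
  have hpoint : ∀ w : ZMod p,
      (Fin.cons (if a = w then 1 else 0) (fun i => if w ∈ S i a b then 1 else 0) :
        Fin 4 → ZMod p) ⬝ᵥ lam = 0 := by
    intro w
    let h : ZMod p → ZMod p := fun v => (if v = w then 1 else 0) - (if v = b then 1 else 0)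
    have hsum : ∑ j, h j = 0 := by
      simp only [h]
      rw [Finset.sum_sub_distrib]
      simp
    have hmem : h ∈ W := by
      rw [hWeq]
      exact polyFun_mono hrbig (mem_polyFun_of_sum_eq_zero h hsum)
    have h0 := hmem a b hab
    have hvec : orbVec S h a b =
        (Fin.cons (if a = w then 1 else 0) (fun i => if w ∈ S i a b then 1 else 0) :
          Fin 4 → ZMod p) := by
      funext j
      refine Fin.cases ?_ (fun i => ?_) j
      · simp [orbVec, h, hab]
      · have hb : b ∉ S i a b := fun hb => ((hRne i a b b ((hSmem i a b b).mp hb)).2) rfl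
        simp only [orbVec, h, Fin.cons_succ]
        rw [Finset.sum_sub_distrib, Finset.sum_ite_eq', Finset.sum_ite_eq', if_neg hb, sub_zero]
    rw [hvec] at h0
    exact h0
  apply hlam0
  funext j
  refine Fin.cases ?_ (fun i => ?_) j
  · have h1 := hpoint a
    rw [cons_dot] at h1
    have h2 : ∀ i, a ∉ S i a b := fun i ha => ((hRne i a b a ((hSmem i a b a).mp ha)).1) rfl
    simp only [h2, if_false, zero_mul, Finset.sum_const_zero, add_zero, if_true, one_mul] at h1
    exact h1
  · have h1 := hpoint (c i)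
    rw [cons_dot] at h1
    have h2 : ∀ j, (c i ∈ S j a b) ↔ j = i := by
      intro j
      constructor
      · intro hj
        exact hRdisj j i a b (c i) ((hSmem j a b (c i)).mp hj) (hRself i)
      · rintro rfl
        exact (hSmem _ a b _).mpr (hRself _)
    have h3 : a ≠ c i := fun h => hca i h.symm
    simp only [h2, if_neg h3, zero_mul, zero_add] at h1
    rw [Finset.sum_eq_single i] at h1
    · simpa using h1
    · intro j _ hj
      rw [if_neg hj, zero_mul]
    · intro h
      exact absurd (Finset.mem_univ i) h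

/-- for `p ≡ 3 mod 4` every non-zero residue is `±` a square -/
theorem eq_sq_or_neg_sq (hp34 : p % 4 = 3) {d : ZMod p} (hd : d ≠ 0) :
    ∃ y : ZMod p, y ≠ 0 ∧ (d = y * y ∨ d = y * y * (-1)) := by
  have hodd : Odd (p / 2) := by
    refine ⟨p / 4, ?_⟩
    omega
  rcases ZMod.pow_div_two_eq_neg_one_or_one p hd with h | h
  · obtain ⟨y, hy⟩ := (ZMod.euler_criterion p hd).mpr h
    refine ⟨y, ?_, Or.inl hy⟩
    rintro rfl
    apply hd
    rw [hy, mul_zero]
  · have hnd : -d ≠ 0 := neg_ne_zero.mpr hd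
    have h1 : (-d) ^ (p / 2) = 1 := by
      rw [neg_pow, hodd.neg_one_pow, h]
      ring
    obtain ⟨y, hy⟩ := (ZMod.euler_criterion p hnd).mpr h1
    refine ⟨y, ?_, Or.inr ?_⟩
    · rintro rfl
      apply hnd
      rw [hy, mul_zero]
    · rw [← hy]
      ring

/-- if `G` contains at least `p (p - 1) / 2` affine maps then all squares are multipliers -/
theorem sq_multiplier_of_card (G : Subgroup (Equiv.Perm (ZMod p)))
    (hA : p * (p - 1) ≤ 2 * Nat.card (G ⊓ Cfsg.affineGroup (ZMod p) : Subgroup (Equiv.Perm (ZMod p))))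
    (y : ZMod p) (hy : y ≠ 0) :
    ∃ g ∈ G, ∃ b : ZMod p, ∀ x, g x = y * y * x + b := by
  classical
  have hpp := hp.out
  set A : Subgroup (Equiv.Perm (ZMod p)) := G ⊓ Cfsg.affineGroup (ZMod p) with hAdef
  let ψ : A →* (ZMod p)ˣ := (coefHom (ZMod p)).comp (Subgroup.inclusion inf_le_right)
  have hψ : ∀ σ : A, ∃ b : ZMod p, ∀ x, (σ : Equiv.Perm (ZMod p)) x = ((ψ σ : (ZMod p)ˣ) : ZMod p) * x + b :=
    fun σ => coefHom_spec (Subgroup.inclusion inf_le_right σ)
  -- the kernel has at most `p` elements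
  have hker : Nat.card ψ.ker ≤ p := by
    have hinj : Function.Injective (fun σ : ψ.ker => ((σ : A) : Equiv.Perm (ZMod p)) 0) := by
      intro σ σ' h
      obtain ⟨b, hb⟩ := hψ (σ : A)
      obtain ⟨b', hb'⟩ := hψ (σ' : A)
      have h1 : ψ (σ : A) = 1 := σ.2
      have h1' : ψ (σ' : A) = 1 := σ'.2
      rw [h1] at hb
      rw [h1'] at hb'
      have hbb : b = b' := by
        have e := hb 0
        have e' := hb' 0
        simp only [mul_zero, zero_add] at e e'
        rw [← e, ← e']
        exact h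
      apply Subtype.ext
      apply Subtype.ext
      ext x
      rw [hb, hb', hbb]
    have := Nat.card_le_card_of_injective _ hinj
    rwa [Nat.card_eq_fintype_card (α := ZMod p), ZMod.card] at this
  have hcardA : Nat.card ψ.ker * Nat.card ψ.range = Nat.card A := by
    rw [← Subgroup.index_ker]
    exact Subgroup.card_mul_index ψ.ker
  have hunits : Nat.card (ZMod p)ˣ = p - 1 := by
    rw [Nat.card_eq_fintype_card, ZMod.card_units]
  have hidx : Nat.card ψ.range * ψ.range.index = p - 1 := by
    rw [← hunits]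
    exact Subgroup.card_mul_index ψ.range
  have hp0 : 0 < p := hpp.pos
  have hrange : p - 1 ≤ 2 * Nat.card ψ.range := by
    have h1 : p * (p - 1) ≤ 2 * (p * Nat.card ψ.range) := by
      calc p * (p - 1) ≤ 2 * Nat.card A := hA
        _ = 2 * (Nat.card ψ.ker * Nat.card ψ.range) := by rw [hcardA]
        _ ≤ 2 * (p * Nat.card ψ.range) := by
          apply Nat.mul_le_mul_left
          exact Nat.mul_le_mul_right _ hker
    have h2 : p * (p - 1) ≤ p * (2 * Nat.card ψ.range) := by
      calc p * (p - 1) ≤ 2 * (p * Nat.card ψ.range) := h1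
        _ = p * (2 * Nat.card ψ.range) := by ring
    exact Nat.le_of_mul_le_mul_left h2 hp0
  have hidx2 : ψ.range.index = 1 ∨ ψ.range.index = 2 := by
    have hpos : 0 < Nat.card ψ.range := Nat.card_pos
    have hle : ψ.range.index ≤ 2 := by
      by_contra hgt
      have h3 : 3 ≤ ψ.range.index := by omega
      have : Nat.card ψ.range * 3 ≤ Nat.card ψ.range * ψ.range.index :=
        Nat.mul_le_mul_left _ h3
      omega
    have hne : ψ.range.index ≠ 0 := by
      intro h0
      rw [h0, mul_zero] at hidx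
      have := hpp.two_le
      omega
    omega
  have hsq : (Units.mk0 y hy) ^ 2 ∈ ψ.range := by
    rcases hidx2 with h | h
    · rw [Subgroup.index_eq_one] at h
      rw [h]
      trivial
    · exact Subgroup.sq_mem_of_index_two h _
  obtain ⟨σ, hσ⟩ := hsq
  obtain ⟨b, hb⟩ := hψ σ
  refine ⟨(σ : Equiv.Perm (ZMod p)), (inf_le_left : A ≤ G) σ.2, b, fun x => ?_⟩
  rw [hb, hσ]
  simp [pow_two]

/-- the orbit bound for `p ≡ 3 mod 4` and at least `p (p - 1) / 2` affine maps -/
theorem two_orbit_bound_of_card (G : Subgroup (Equiv.Perm (ZMod p)))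
    (hτ : Equiv.addRight (1 : ZMod p) ∈ G) (hnaff : ¬ G ≤ Cfsg.affineGroup (ZMod p))
    (hA : p * (p - 1) ≤ 2 * Nat.card (G ⊓ Cfsg.affineGroup (ZMod p) : Subgroup (Equiv.Perm (ZMod p))))
    (hp34 : p % 4 = 3)
    {a b : ZMod p} (hab : a ≠ b) (c : Fin 3 → ZMod p) (hca : ∀ i, c i ≠ a)
    (hcb : ∀ i, c i ≠ b) :
    ∃ i j, i ≠ j ∧ ∃ g ∈ G, g a = a ∧ g b = b ∧ g (c i) = c j := by
  apply two_orbit_bound G hτ hnaff (-1) ?_ hab c hca hcb
  intro d hd
  obtain ⟨y, hy, hdy⟩ := eq_sq_or_neg_sq hp34 hd
  obtain ⟨g, hg, b', hgb⟩ := sq_multiplier_of_card G hA y hy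
  exact ⟨g, hg, y * y, b', hgb, hdy⟩

end OrbitBound

end Cfsg.Agent.Lib.Helper12_PrimeDeg
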