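import Cfsg.Agent.Lib.Helper12_PrimeDeg
import Cfsg.Agent.Lib.Helper12_PrimeDeg2
import Cfsg.Agent.Lib.Helper12_PrimeDeg3
import Cfsg.Agent.Lib.Helper12_PrimeDeg4
import Cfsg.Agent.S0677
import Mathlib

/-!
# Sylow `p`-normalisers of permutation groups of prime degree containing the translation

For `H ≤ Perm (ZMod p)` containing `x ↦ x + 1`: the Sylow `p`-subgroup generated by the translation,
its normaliser (the affine elements of `H`), the multiplier order `m`, Sylow counting, and the
transfer argument (if every affine element of `H` is a translation then `H` has order `p`).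
-/

set_option autoImplicit false

namespace Cfsg.Agent.Lib.Helper12_PrimeDeg

section SylowNormalizer

variable {p : ℕ} [hp : Fact p.Prime]

theorem addRight_one_zpow (k : ℤ) :
    (Equiv.addRight (1 : ZMod p)) ^ k = Equiv.addRight ((k : ZMod p)) := by
  rw [Equiv.zsmul_addRight]
  simp

theorem addRight_eq_zpow (b : ZMod p) :
    Equiv.addRight b = (Equiv.addRight (1 : ZMod p)) ^ ((b.val : ℕ) : ℤ) := by
  rw [addRight_one_zpow]
  simp

theorem orderOf_addRight_one : orderOf (Equiv.addRight (1 : ZMod p)) = p := by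
  apply orderOf_eq_prime (addRight_pow_p 1)
  intro h
  have := congrArg (fun σ : Equiv.Perm (ZMod p) => σ 0) h
  simp at this

theorem card_dvd_factorial (H : Subgroup (Equiv.Perm (ZMod p))) : Nat.card H ∣ p.factorial := by
  have := Subgroup.card_subgroup_dvd_card H
  rwa [Nat.card_eq_fintype_card (α := Equiv.Perm (ZMod p)), Fintype.card_perm, ZMod.card] at this

theorem mem_zpowers_tau_iff (H : Subgroup (Equiv.Perm (ZMod p)))
    (hτ : Equiv.addRight (1 : ZMod p) ∈ H) (g : H) :
    g ∈ Subgroup.zpowers (⟨Equiv.addRight 1, hτ⟩ : H) ↔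
      ∃ b : ZMod p, (g : Equiv.Perm (ZMod p)) = Equiv.addRight b := by
  constructor
  · intro hg
    obtain ⟨k, rfl⟩ := Subgroup.mem_zpowers_iff.mp hg
    refine ⟨(k : ZMod p), ?_⟩
    rw [Subgroup.coe_zpow, Subgroup.coe_mk, addRight_one_zpow]
  · rintro ⟨b, hb⟩
    apply Subgroup.mem_zpowers_iff.mpr
    refine ⟨((b.val : ℕ) : ℤ), ?_⟩
    apply Subtype.ext
    rw [Subgroup.coe_zpow, Subgroup.coe_mk, hb, ← addRight_eq_zpow]

theorem card_zpowers_tau (H : Subgroup (Equiv.Perm (ZMod p)))
    (hτ : Equiv.addRight (1 : ZMod p) ∈ H) :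
    Nat.card (Subgroup.zpowers (⟨Equiv.addRight 1, hτ⟩ : H)) = p := by
  rw [Nat.card_zpowers, ← Subgroup.orderOf_coe, Subgroup.coe_mk, orderOf_addRight_one]

theorem exists_sylow_eq_zpowers (H : Subgroup (Equiv.Perm (ZMod p)))
    (hτ : Equiv.addRight (1 : ZMod p) ∈ H) :
    ∃ P : Sylow p H, (P : Subgroup H) = Subgroup.zpowers (⟨Equiv.addRight 1, hτ⟩ : H) := by
  have hpp := hp.out
  have hz : IsPGroup p (Subgroup.zpowers (⟨Equiv.addRight 1, hτ⟩ : H)) :=
    IsPGroup.of_card (n := 1) (by rw [card_zpowers_tau, pow_one])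
  obtain ⟨Q, hQ⟩ := hz.exists_le_sylow
  refine ⟨Q, ?_⟩
  symm
  apply Subgroup.eq_of_le_of_card_ge hQ
  rw [card_zpowers_tau]
  obtain ⟨k, hk⟩ := IsPGroup.iff_card.mp Q.isPGroup'
  have hk2 : k < 2 := by
    by_contra hk2
    have hk2 : 2 ≤ k := by omega
    apply Cfsg.Agent.S0677.not_sq_dvd_factorial hpp
    refine Dvd.dvd.trans ?_ (card_dvd_factorial H)
    refine Dvd.dvd.trans ?_ (Subgroup.card_subgroup_dvd_card (Q : Subgroup H))
    rw [hk, ← pow_two]
    exact pow_dvd_pow p hk2
  rw [hk]
  calc p ^ k ≤ p ^ 1 := Nat.pow_le_pow_right hpp.pos (by omega)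
    _ = p := pow_one p

/-- conjugating a translation by an affine map -/
theorem affine_conj_translation {g : Equiv.Perm (ZMod p)} {a b : ZMod p}
    (hg : ∀ x, g x = a * x + b) (c : ZMod p) :
    g * Equiv.addRight c * g⁻¹ = Equiv.addRight (a * c) := by
  ext x
  simp only [Equiv.Perm.coe_mul, Function.comp_apply, Equiv.coe_addRight]
  have h1 : g (g⁻¹ x) = x := by simp
  rw [hg] at h1
  rw [hg]
  linear_combination h1

/-- affine elements of `H` normalise the group of translations -/
theorem affine_conj_mem (H : Subgroup (Equiv.Perm (ZMod p)))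
    (hτ : Equiv.addRight (1 : ZMod p) ∈ H) (g : H)
    (hg : (g : Equiv.Perm (ZMod p)) ∈ Cfsg.affineGroup (ZMod p)) (h : H)
    (hh : h ∈ Subgroup.zpowers (⟨Equiv.addRight 1, hτ⟩ : H)) :
    g * h * g⁻¹ ∈ Subgroup.zpowers (⟨Equiv.addRight 1, hτ⟩ : H) := by
  obtain ⟨a, b, hab⟩ := mem_affineGroup.mp hg
  obtain ⟨c, hc⟩ := (mem_zpowers_tau_iff H hτ h).mp hh
  apply (mem_zpowers_tau_iff H hτ _).mpr
  refine ⟨(a : ZMod p) * c, ?_⟩
  rw [Subgroup.coe_mul, Subgroup.coe_mul, Subgroup.coe_inv, hc]
  exact affine_conj_translation hab c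

/-- the normaliser of the Sylow subgroup of translations consists of the affine elements -/
theorem normalizer_eq_affine (H : Subgroup (Equiv.Perm (ZMod p)))
    (hτ : Equiv.addRight (1 : ZMod p) ∈ H) (P : Sylow p H)
    (hP : (P : Subgroup H) = Subgroup.zpowers (⟨Equiv.addRight 1, hτ⟩ : H)) :
    Subgroup.normalizer ((P : Subgroup H) : Set H) =
      (Cfsg.affineGroup (ZMod p)).subgroupOf H := by
  ext g
  rw [Subgroup.mem_subgroupOf, Subgroup.mem_normalizer_iff, hP]
  constructor
  · intro hg
    have h1 := (hg ⟨Equiv.addRight 1, hτ⟩).mp (Subgroup.mem_zpowers _)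
    obtain ⟨b, hb⟩ := (mem_zpowers_tau_iff H hτ _).mp h1
    rw [Subgroup.coe_mul, Subgroup.coe_mul, Subgroup.coe_inv, Subgroup.coe_mk] at hb
    have haff := affine_of_normalizes (g : Equiv.Perm (ZMod p)) b hb
    have hb0 : b ≠ 0 := by
      rintro rfl
      have h1 := haff 1
      rw [zero_mul, zero_add] at h1
      have := (g : Equiv.Perm (ZMod p)).injective h1
      exact one_ne_zero this
    exact mem_affineGroup.mpr ⟨Units.mk0 b hb0, (g : Equiv.Perm (ZMod p)) 0, fun x => by
      rw [Units.val_mk0]; exact haff x⟩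
  · intro hg h
    constructor
    · intro hh
      exact affine_conj_mem H hτ g hg h hh
    · intro hh
      have hg' : ((g⁻¹ : H) : Equiv.Perm (ZMod p)) ∈ Cfsg.affineGroup (ZMod p) := by
        rw [Subgroup.coe_inv]; exact inv_mem hg
      have := affine_conj_mem H hτ g⁻¹ hg' _ hh
      simpa [mul_assoc] using this

/-- the multiplier homomorphism on the affine part of `H` -/
noncomputable def multHom (H : Subgroup (Equiv.Perm (ZMod p))) :
    ((Cfsg.affineGroup (ZMod p)).subgroupOf H) →* (ZMod p)ˣ :=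
  (coefHom (ZMod p)).comp (H.subtype.subgroupComap (Cfsg.affineGroup (ZMod p)))

theorem multHom_spec (H : Subgroup (Equiv.Perm (ZMod p)))
    (g : (Cfsg.affineGroup (ZMod p)).subgroupOf H) :
    ∃ b : ZMod p, ∀ x, ((g : H) : Equiv.Perm (ZMod p)) x =
      ((multHom H g : (ZMod p)ˣ) : ZMod p) * x + b :=
  coefHom_spec (H.subtype.subgroupComap (Cfsg.affineGroup (ZMod p)) g)

theorem multHom_eq (H : Subgroup (Equiv.Perm (ZMod p)))
    (g : (Cfsg.affineGroup (ZMod p)).subgroupOf H) {a b : ZMod p}
    (h : ∀ x, ((g : H) : Equiv.Perm (ZMod p)) x = a * x + b) :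
    ((multHom H g : (ZMod p)ˣ) : ZMod p) = a := by
  obtain ⟨b', hb'⟩ := multHom_spec H g
  have h0 := (h 0).symm.trans (hb' 0)
  have h1 := (h 1).symm.trans (hb' 1)
  rw [mul_zero, zero_add, mul_zero, zero_add] at h0
  rw [mul_one, mul_one, h0] at h1
  exact (add_right_cancel h1).symm

/-- the order `m` of the group of multipliers of the affine elements of `H` -/
theorem exists_multiplier_order (H : Subgroup (Equiv.Perm (ZMod p)))
    (hτ : Equiv.addRight (1 : ZMod p) ∈ H) :
    ∃ m : ℕ, m ∣ p - 1 ∧ Nat.card ((Cfsg.affineGroup (ZMod p)).subgroupOf H) = p * m ∧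
      (∀ g ∈ H, ∀ a b : ZMod p, (∀ x, g x = a * x + b) → a ^ m = 1) ∧
      (2 ∣ m → ∃ t ∈ H, ∃ b₀ : ZMod p, ∀ x, t x = -x + b₀) := by
  classical
  have hpp := hp.out
  set N' := (Cfsg.affineGroup (ZMod p)).subgroupOf H with hN'
  set ψ := multHom H with hψ
  have hunits : Nat.card (ZMod p)ˣ = p - 1 := by
    rw [Nat.card_eq_fintype_card, ZMod.card_units]
  have hm1 : Nat.card ψ.range ∣ p - 1 := by
    rw [← hunits]; exact Subgroup.card_subgroup_dvd_card _
  have hcardN : Nat.card ψ.ker * Nat.card ψ.range = Nat.card N' := by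
    rw [← Subgroup.index_ker]; exact Subgroup.card_mul_index ψ.ker
  have hkerle : Nat.card ψ.ker ≤ p := by
    have hinj : Function.Injective
        (fun σ : ψ.ker => (((σ : N') : H) : Equiv.Perm (ZMod p)) 0) := by
      intro σ σ' h
      obtain ⟨b, hb⟩ := multHom_spec H (σ : N')
      obtain ⟨b', hb'⟩ := multHom_spec H (σ' : N')
      have h1 : ψ (σ : N') = 1 := σ.2
      have h1' : ψ (σ' : N') = 1 := σ'.2
      rw [← hψ, h1] at hb
      rw [← hψ, h1'] at hb'
      have hbb : b = b' := by
        have e := hb 0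
        have e' := hb' 0
        simp only [mul_zero, zero_add] at e e'
        rw [← e, ← e']
        exact h
      apply Subtype.ext
      apply Subtype.ext
      apply Subtype.ext
      ext x
      rw [hb, hb', hbb]
    have := Nat.card_le_card_of_injective _ hinj
    rwa [Nat.card_eq_fintype_card (α := ZMod p), ZMod.card] at this
  have hpdvd : p ∣ Nat.card N' := by
    have hle : Subgroup.zpowers (⟨Equiv.addRight 1, hτ⟩ : H) ≤ N' := by
      intro g hg
      obtain ⟨b, hb⟩ := (mem_zpowers_tau_iff H hτ g).mp hg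
      rw [hN', Subgroup.mem_subgroupOf, hb]
      exact mem_affineGroup.mpr ⟨1, b, fun x => by simp⟩
    have := Subgroup.card_dvd_of_le hle
    rwa [card_zpowers_tau] at this
  have hmpos : 0 < Nat.card ψ.range := Nat.card_pos
  have hp1 : 0 < p - 1 := by have := hpp.two_le; omega
  have hmlt : Nat.card ψ.range < p := by
    have := Nat.le_of_dvd hp1 hm1; omega
  have hker : Nat.card ψ.ker = p := by
    have h1 : p ∣ Nat.card ψ.ker * Nat.card ψ.range := by rw [hcardN]; exact hpdvd
    rcases (Nat.Prime.dvd_mul hpp).mp h1 with h | h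
    · have hkpos : 0 < Nat.card ψ.ker := Nat.card_pos
      have := Nat.le_of_dvd hkpos h
      omega
    · have := Nat.le_of_dvd hmpos h
      omega
  refine ⟨Nat.card ψ.range, hm1, ?_, ?_, ?_⟩
  · rw [← hcardN, hker]
  · intro g hg a b hab
    have ha0 : a ≠ 0 := by
      rintro rfl
      have h1 := hab 1
      have h0 := hab 0
      rw [zero_mul, zero_add] at h1 h0
      exact one_ne_zero (g.injective (h1.trans h0.symm))
    have hgN : (⟨g, hg⟩ : H) ∈ N' := by
      rw [hN', Subgroup.mem_subgroupOf]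
      exact mem_affineGroup.mpr ⟨Units.mk0 a ha0, b, fun x => by
        rw [Units.val_mk0]; exact hab x⟩
    have h1 : ((ψ ⟨⟨g, hg⟩, hgN⟩ : (ZMod p)ˣ) : ZMod p) = a := multHom_eq H _ hab
    have h2 : (⟨ψ ⟨⟨g, hg⟩, hgN⟩, ⟨_, rfl⟩⟩ : ψ.range) ^ Nat.card ψ.range = 1 :=
      pow_card_eq_one'
    have h3 := congrArg (fun u : ψ.range => (((u : (ZMod p)ˣ)) : ZMod p)) h2
    simp only [SubgroupClass.coe_pow, Units.val_pow_eq_pow_val, OneMemClass.coe_one,
      Units.val_one] at h3
    rw [← h1]; exact h3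
  · intro h2m
    have hp3 : 3 ≤ p := by
      have := Nat.le_of_dvd hp1 (h2m.trans hm1)
      omega
    have h2N : 2 ∣ Nat.card N' := by
      rw [← hcardN]; exact Dvd.dvd.mul_left h2m _
    obtain ⟨t, ht⟩ := exists_prime_orderOf_dvd_card' 2 h2N
    have htt : t * t = 1 := by
      rw [← pow_two, ← ht]; exact pow_orderOf_eq_one t
    have ht1 : t ≠ 1 := by
      rintro rfl
      rw [orderOf_one] at ht
      omega
    obtain ⟨b, hb⟩ := multHom_spec H t
    rw [← hψ] at hb
    have hψt : ((ψ t : (ZMod p)ˣ) : ZMod p) * ((ψ t : (ZMod p)ˣ) : ZMod p) = 1 := by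
      rw [← Units.val_mul, ← map_mul, htt, map_one, Units.val_one]
    refine ⟨((t : H) : Equiv.Perm (ZMod p)), (t : H).2, b, ?_⟩
    rcases mul_self_eq_one_iff.mp hψt with h | h
    · exfalso
      rw [h] at hb
      have htt' : ∀ x, ((t : H) : Equiv.Perm (ZMod p)) (((t : H) : Equiv.Perm (ZMod p)) x) = x := by
        intro x
        have := congrArg (fun u : N' => ((u : H) : Equiv.Perm (ZMod p)) x) htt
        simpa using this
      have h0 := htt' 0
      rw [hb, hb] at h0
      have hb0 : b = 0 := by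
        have h2 : (2 : ZMod p) * b = 0 := by linear_combination h0
        rcases mul_eq_zero.mp h2 with h2 | h2
        · exact absurd h2 (two_ne_zero_of_three_le hp3)
        · exact h2
      apply ht1
      apply Subtype.ext
      apply Subtype.ext
      ext x
      rw [hb, hb0]
      simp
    · intro x
      rw [hb, h]
      ring

theorem isPretransitive_of_translation (H : Subgroup (Equiv.Perm (ZMod p)))
    (hτ : Equiv.addRight (1 : ZMod p) ∈ H) : MulAction.IsPretransitive H (ZMod p) := by
  refine ⟨fun x y => ⟨⟨Equiv.addRight (y - x), translation_mem H hτ _⟩, ?_⟩⟩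
  show Equiv.addRight (y - x) x = y
  simp

theorem isPreprimitive_of_translation (H : Subgroup (Equiv.Perm (ZMod p)))
    (hτ : Equiv.addRight (1 : ZMod p) ∈ H) : MulAction.IsPreprimitive H (ZMod p) := by
  have := isPretransitive_of_translation H hτ
  apply MulAction.IsPreprimitive.of_prime_card
  rw [Nat.card_eq_fintype_card, ZMod.card]
  exact hp.out

/-- Sylow counting: the index of the affine part is `≡ 1 mod p` -/
theorem sylow_count (H : Subgroup (Equiv.Perm (ZMod p)))
    (hτ : Equiv.addRight (1 : ZMod p) ∈ H) :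
    ∃ n : ℕ, n % p = 1 ∧
      Nat.card H = Nat.card ((Cfsg.affineGroup (ZMod p)).subgroupOf H) * n := by
  obtain ⟨P, hP⟩ := exists_sylow_eq_zpowers H hτ
  refine ⟨Nat.card (Sylow p H), ?_, ?_⟩
  · have := card_sylow_modEq_one p H
    rw [Nat.ModEq] at this
    rw [this]
    exact Nat.mod_eq_of_lt hp.out.one_lt
  · have h1 := Sylow.card_eq_index_normalizer P
    have h2 := normalizer_eq_affine H hτ P hP
    rw [h1]
    rw [show Subgroup.normalizer ((P : Sylow p H) : Set H) =
      Subgroup.normalizer ((P : Subgroup H) : Set H) from rfl, h2]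
    exact (Subgroup.card_mul_index _).symm

/-- the transfer argument: if all affine elements of `K` are translations then `K` has
order `p` -/
theorem card_eq_of_affine_eq_translation (K : Subgroup (Equiv.Perm (ZMod p)))
    (hτ : Equiv.addRight (1 : ZMod p) ∈ K)
    (hK : ∀ g ∈ K, ∀ a b : ZMod p, (∀ x, g x = a * x + b) → a = 1) : Nat.card K = p := by
  classical
  have hpp := hp.out
  obtain ⟨P, hP⟩ := exists_sylow_eq_zpowers K hτ
  have hnorm := normalizer_eq_affine K hτ P hP
  have hPc : Subgroup.normalizer ((P : Sylow p K) : Set K) ≤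
      Subgroup.centralizer ((P : Sylow p K) : Set K) := by
    intro g hg
    have hg' : g ∈ Subgroup.normalizer ((P : Subgroup K) : Set K) := hg
    rw [hnorm, Subgroup.mem_subgroupOf] at hg'
    obtain ⟨a, b, hab⟩ := mem_affineGroup.mp hg'
    have ha := hK _ g.2 _ _ hab
    rw [Subgroup.mem_centralizer_iff]
    intro h hh
    have hh' : h ∈ (P : Subgroup K) := hh
    rw [hP] at hh'
    obtain ⟨c, hc⟩ := (mem_zpowers_tau_iff K hτ h).mp hh'
    apply Subtype.ext
    rw [Subgroup.coe_mul, Subgroup.coe_mul, hc]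
    ext x
    simp only [Equiv.Perm.coe_mul, Function.comp_apply, Equiv.coe_addRight]
    rw [hab, hab, ha]
    ring
  have hcompl := MonoidHom.ker_transferSylow_isComplement' P hPc
  have hcard := hcompl.card_mul_card
  have hPcard : Nat.card (P : Subgroup K) = p := by rw [hP, card_zpowers_tau]
  set L := (MonoidHom.transferSylow P hPc).ker with hL
  by_cases hbot : L = ⊥
  · rw [hbot, Subgroup.card_bot, one_mul, hPcard] at hcard
    exact hcard.symm
  · exfalso
    have hprim := isPreprimitive_of_translation K hτ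
    have hLt : MulAction.IsPretransitive L (ZMod p) := by
      apply MulAction.IsQuasiPreprimitive.isPretransitive_of_normal
      intro hfix
      apply hbot
      rw [Subgroup.eq_bot_iff_forall]
      intro g hg
      apply Subtype.ext
      ext x
      have hx : x ∈ MulAction.fixedPoints L (ZMod p) := by rw [hfix]; trivial
      exact hx ⟨g, hg⟩
    have hpL : p ∣ Nat.card L := by
      have h1 : (MulAction.stabilizer L (0 : ZMod p)).index = Nat.card (ZMod p) :=
        MulAction.index_stabilizer_of_transitive L 0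
      rw [Nat.card_eq_fintype_card, ZMod.card] at h1
      have h2 := Subgroup.index_dvd_card (MulAction.stabilizer L (0 : ZMod p))
      rwa [h1] at h2
    apply Cfsg.Agent.S0677.not_sq_dvd_factorial hpp
    refine Dvd.dvd.trans ?_ (card_dvd_factorial K)
    rw [← hcard, hPcard]
    exact Nat.mul_dvd_mul_right hpL p

end SylowNormalizer

end Cfsg.Agent.Lib.Helper12_PrimeDeg
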