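import Mathlib

set_option autoImplicit false

/-!
Elementary facts on `SL₂(K)`: the upper and lower unitriangular elements, the diagonal elements, the Weyl element,
the relations between them and the Bruhat decomposition.
-/

namespace Cfsg.Agent.Lib.Helper37_SL2Bruhat

open Matrix

variable {K : Type*} [Field K]

/-- The upper unitriangular element. -/
def up (t : K) : SpecialLinearGroup (Fin 2) K := ⟨!![1, t; 0, 1], by simp [det_fin_two]⟩

/-- The lower unitriangular element. -/
def lo (t : K) : SpecialLinearGroup (Fin 2) K := ⟨!![1, 0; t, 1], by simp [det_fin_two]⟩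

/-- The diagonal element. -/
def dg (l : Kˣ) : SpecialLinearGroup (Fin 2) K :=
  ⟨!![(l : K), 0; 0, ((l⁻¹ : Kˣ) : K)], by simp [det_fin_two]⟩

/-- The Weyl element. -/
def we : SpecialLinearGroup (Fin 2) K := ⟨!![0, 1; -1, 0], by simp [det_fin_two]⟩

theorem up_coe (t : K) : ((up t : SpecialLinearGroup (Fin 2) K) : Matrix (Fin 2) (Fin 2) K) = !![1, t; 0, 1] := rfl

theorem lo_coe (t : K) : ((lo t : SpecialLinearGroup (Fin 2) K) : Matrix (Fin 2) (Fin 2) K) = !![1, 0; t, 1] := rfl

theorem dg_coe (l : Kˣ) : ((dg l : SpecialLinearGroup (Fin 2) K) : Matrix (Fin 2) (Fin 2) K) =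
    !![(l : K), 0; 0, ((l⁻¹ : Kˣ) : K)] := rfl

theorem we_coe : ((we : SpecialLinearGroup (Fin 2) K) : Matrix (Fin 2) (Fin 2) K) = !![0, 1; -1, 0] := rfl

/-- Two elements with the same matrix are equal. -/
theorem ext_mat {g h : SpecialLinearGroup (Fin 2) K}
    (e : (g : Matrix (Fin 2) (Fin 2) K) = (h : Matrix (Fin 2) (Fin 2) K)) : g = h := Subtype.ext e

theorem up_add (s t : K) : up (s + t) = up s * up t := by
  apply ext_mat
  rw [Matrix.SpecialLinearGroup.coe_mul, up_coe, up_coe, up_coe]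
  ext i j
  fin_cases i <;> fin_cases j <;> simp [Matrix.mul_apply, Fin.sum_univ_two, add_comm]

theorem lo_add (s t : K) : lo (s + t) = lo s * lo t := by
  apply ext_mat
  rw [Matrix.SpecialLinearGroup.coe_mul, lo_coe, lo_coe, lo_coe]
  ext i j
  fin_cases i <;> fin_cases j <;> simp [Matrix.mul_apply, Fin.sum_univ_two, add_comm]

theorem up_zero : up (0 : K) = 1 := by
  apply ext_mat
  rw [up_coe, Matrix.SpecialLinearGroup.coe_one]
  ext i j
  fin_cases i <;> fin_cases j <;> simp

theorem lo_zero : lo (0 : K) = 1 := by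
  apply ext_mat
  rw [lo_coe, Matrix.SpecialLinearGroup.coe_one]
  ext i j
  fin_cases i <;> fin_cases j <;> simp

theorem up_inv (t : K) : (up t)⁻¹ = up (-t) := by
  rw [inv_eq_iff_mul_eq_one, ← up_add, add_neg_cancel, up_zero]

theorem lo_inv (t : K) : (lo t)⁻¹ = lo (-t) := by
  rw [inv_eq_iff_mul_eq_one, ← lo_add, add_neg_cancel, lo_zero]

theorem dg_mul (l n : Kˣ) : dg (l * n) = dg l * dg n := by
  apply ext_mat
  rw [Matrix.SpecialLinearGroup.coe_mul, dg_coe, dg_coe, dg_coe]
  ext i j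
  fin_cases i <;> fin_cases j <;> simp [Matrix.mul_apply, Fin.sum_univ_two, mul_comm]

theorem dg_one : dg (1 : Kˣ) = 1 := by
  apply ext_mat
  rw [dg_coe, Matrix.SpecialLinearGroup.coe_one]
  ext i j
  fin_cases i <;> fin_cases j <;> simp

theorem dg_inv (l : Kˣ) : (dg l)⁻¹ = dg l⁻¹ := by
  rw [inv_eq_iff_mul_eq_one, ← dg_mul, mul_inv_cancel, dg_one]

theorem dg_neg_one : ((dg (-1 : Kˣ) : SpecialLinearGroup (Fin 2) K) : Matrix (Fin 2) (Fin 2) K) = -1 := by
  rw [dg_coe]
  ext i j
  fin_cases i <;> fin_cases j <;> simp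

theorem dg_eq_one_iff (l : Kˣ) : dg l = 1 ↔ l = 1 := by
  constructor
  · intro h
    have h1 := congrArg (fun g : SpecialLinearGroup (Fin 2) K => (g : Matrix (Fin 2) (Fin 2) K) 0 0) h
    simp only [dg_coe, Matrix.SpecialLinearGroup.coe_one] at h1
    apply Units.ext
    simpa using h1
  · rintro rfl
    exact dg_one

theorem up_injective : Function.Injective (up : K → SpecialLinearGroup (Fin 2) K) := by
  intro s t h
  have h1 := congrArg (fun g : SpecialLinearGroup (Fin 2) K => (g : Matrix (Fin 2) (Fin 2) K) 0 1) h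
  simpa [up_coe] using h1

/-- Conjugation of an upper unitriangular element by a diagonal element. -/
theorem dg_conj_up (l : Kˣ) (t : K) : dg l * up t * (dg l)⁻¹ = up ((l : K) ^ 2 * t) := by
  rw [dg_inv]
  apply ext_mat
  rw [Matrix.SpecialLinearGroup.coe_mul, Matrix.SpecialLinearGroup.coe_mul, dg_coe, dg_coe, up_coe, up_coe]
  ext i j
  fin_cases i <;> fin_cases j <;> simp [Matrix.mul_apply, Fin.sum_univ_two]
  ring

/-- Conjugation of an upper unitriangular element by the Weyl element. -/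
theorem we_conj_up (t : K) : we * up t * we⁻¹ = lo (-t) := by
  rw [mul_inv_eq_iff_eq_mul]
  apply ext_mat
  rw [Matrix.SpecialLinearGroup.coe_mul, Matrix.SpecialLinearGroup.coe_mul, we_coe, up_coe, lo_coe]
  ext i j
  fin_cases i <;> fin_cases j <;> simp [Matrix.mul_apply, Fin.sum_univ_two]

/-- The Weyl element as a product of unitriangular elements. -/
theorem we_eq : (we : SpecialLinearGroup (Fin 2) K) = up 1 * lo (-1) * up 1 := by
  apply ext_mat
  rw [Matrix.SpecialLinearGroup.coe_mul, Matrix.SpecialLinearGroup.coe_mul, we_coe, up_coe, lo_coe]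
  ext i j
  fin_cases i <;> fin_cases j <;> simp [Matrix.mul_apply, Fin.sum_univ_two]

/-- The diagonal elements as products of unitriangular elements. -/
theorem dg_eq (l : Kˣ) : dg l =
    (up (l : K) * lo (-((l⁻¹ : Kˣ) : K)) * up (l : K)) * (up (-1) * lo 1 * up (-1)) := by
  apply ext_mat
  simp only [Matrix.SpecialLinearGroup.coe_mul, dg_coe, up_coe, lo_coe]
  ext i j
  fin_cases i <;> fin_cases j <;> simp [Matrix.mul_apply, Fin.sum_univ_two]

theorem we_sq : ((we * we : SpecialLinearGroup (Fin 2) K) : Matrix (Fin 2) (Fin 2) K) = -1 := by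
  rw [Matrix.SpecialLinearGroup.coe_mul, we_coe]
  ext i j
  fin_cases i <;> fin_cases j <;> simp [Matrix.mul_apply, Fin.sum_univ_two]

/-- The Bruhat decomposition of `SL₂(K)`. -/
theorem bruhat (g : SpecialLinearGroup (Fin 2) K) :
    (∃ (t : K) (l : Kˣ), g = up t * dg l) ∨ (∃ (t : K) (l : Kˣ) (s : K), g = up t * dg l * we * up s) := by
  have hdet : (g : Matrix (Fin 2) (Fin 2) K) 0 0 * (g : Matrix (Fin 2) (Fin 2) K) 1 1 -
      (g : Matrix (Fin 2) (Fin 2) K) 0 1 * (g : Matrix (Fin 2) (Fin 2) K) 1 0 = 1 := by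
    have := g.2
    rwa [det_fin_two] at this
  have hg : (g : Matrix (Fin 2) (Fin 2) K) = !![(g : Matrix (Fin 2) (Fin 2) K) 0 0, (g : Matrix (Fin 2) (Fin 2) K) 0 1;
      (g : Matrix (Fin 2) (Fin 2) K) 1 0, (g : Matrix (Fin 2) (Fin 2) K) 1 1] := by
    ext i j
    fin_cases i <;> fin_cases j <;> rfl
  generalize (g : Matrix (Fin 2) (Fin 2) K) 0 0 = p at hdet hg
  generalize (g : Matrix (Fin 2) (Fin 2) K) 0 1 = r at hdet hg
  generalize (g : Matrix (Fin 2) (Fin 2) K) 1 0 = s at hdet hg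
  generalize (g : Matrix (Fin 2) (Fin 2) K) 1 1 = t at hdet hg
  by_cases h0 : s = 0
  · left
    have hpt : p * t = 1 := by rw [h0, mul_zero, sub_zero] at hdet; exact hdet
    have hp0 : p ≠ 0 := left_ne_zero_of_mul_eq_one hpt
    refine ⟨r * p, Units.mk0 p hp0, ?_⟩
    have hti : t = p⁻¹ := eq_inv_of_mul_eq_one_right hpt
    apply ext_mat
    rw [Matrix.SpecialLinearGroup.coe_mul, up_coe, dg_coe, hg]
    ext i j
    fin_cases i <;> fin_cases j <;> simp [Matrix.mul_apply, Fin.sum_univ_two, h0, hti]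
    field_simp
  · right
    have hs0 : (-s⁻¹) ≠ 0 := neg_ne_zero.mpr (inv_ne_zero h0)
    refine ⟨p * s⁻¹, Units.mk0 (-s⁻¹) hs0, t * s⁻¹, ?_⟩
    have hr' : r = (p * t - 1) * s⁻¹ := by
      field_simp
      linear_combination -hdet
    apply ext_mat
    simp only [Matrix.SpecialLinearGroup.coe_mul, up_coe, dg_coe, we_coe]
    rw [hg]
    ext i j
    fin_cases i <;> fin_cases j <;>
      simp [Matrix.mul_apply, Fin.sum_univ_two, h0]
    · rw [hr']
      field_simp
      ring
    · field_simp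

end Cfsg.Agent.Lib.Helper37_SL2Bruhat
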