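import Mathlib
import Cfsg.Agent.Lib.Helper37_SL2Bruhat
import Cfsg.Agent.Lib.Helper35_PSL2Card

/-!
# QUAD package PCORE (architect helper37; formalised by helper12)

`PSL₂(F)` has no nontrivial normal `p`-subgroup, `p` the characteristic: such a subgroup lies in the
images of both the upper and the lower unitriangular subgroup, which meet trivially.
-/

set_option autoImplicit false

namespace Cfsg.Agent.Lib.Helper12_Quad_PCORE

open Matrix Cfsg.Agent.Lib.Helper37_SL2Bruhat

variable {F : Type*} [Field F]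

/-- the off-diagonal entries of a central element of `SL₂(F)` vanish. -/
theorem center_entries {g : SpecialLinearGroup (Fin 2) F}
    (hg : g ∈ Subgroup.center (SpecialLinearGroup (Fin 2) F)) :
    (g : Matrix (Fin 2) (Fin 2) F) 0 1 = 0 ∧ (g : Matrix (Fin 2) (Fin 2) F) 1 0 = 0 := by
  rw [Matrix.SpecialLinearGroup.mem_center_iff] at hg
  obtain ⟨r, -, hr⟩ := hg
  rw [← hr]
  simp

/-- `t ↦ up t` as a homomorphism. -/
def upHom (F : Type*) [Field F] : Multiplicative F →* SpecialLinearGroup (Fin 2) F where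
  toFun t := up (Multiplicative.toAdd t)
  map_one' := up_zero
  map_mul' _ _ := up_add _ _

/-- `t ↦ lo t` as a homomorphism. -/
def loHom (F : Type*) [Field F] : Multiplicative F →* SpecialLinearGroup (Fin 2) F where
  toFun t := lo (Multiplicative.toAdd t)
  map_one' := lo_zero
  map_mul' _ _ := lo_add _ _

/-- the quotient map `SL₂(F) → PSL₂(F)`. -/
def pr (F : Type*) [Field F] :
    SpecialLinearGroup (Fin 2) F →* Matrix.ProjectiveSpecialLinearGroup (Fin 2) F :=
  QuotientGroup.mk' (Subgroup.center (SpecialLinearGroup (Fin 2) F))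

theorem pr_eq_one_iff (g : SpecialLinearGroup (Fin 2) F) :
    pr F g = 1 ↔ g ∈ Subgroup.center (SpecialLinearGroup (Fin 2) F) :=
  QuotientGroup.eq_one_iff g

theorem pr_surjective : Function.Surjective (pr F) := QuotientGroup.mk'_surjective _

theorem pr_up_injective : Function.Injective ((pr F).comp (upHom F)) := by
  rw [injective_iff_map_eq_one]
  intro t ht
  have h1 : up (Multiplicative.toAdd t) ∈ Subgroup.center (SpecialLinearGroup (Fin 2) F) :=
    (pr_eq_one_iff _).1 ht
  have h2 := (center_entries h1).1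
  rw [up_coe] at h2
  have h3 : Multiplicative.toAdd t = 0 := by simpa using h2
  exact Multiplicative.toAdd.injective h3

/-- the image of the upper unitriangular subgroup in `PSL₂(F)`. -/
def Ubar (F : Type*) [Field F] : Subgroup (Matrix.ProjectiveSpecialLinearGroup (Fin 2) F) :=
  ((pr F).comp (upHom F)).range

/-- the image of the lower unitriangular subgroup in `PSL₂(F)`. -/
def Lbar (F : Type*) [Field F] : Subgroup (Matrix.ProjectiveSpecialLinearGroup (Fin 2) F) :=
  ((pr F).comp (loHom F)).range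

theorem card_Ubar [Fintype F] : Nat.card (Ubar F) = Fintype.card F := by
  have e := MonoidHom.ofInjective (pr_up_injective (F := F))
  have h1 : Nat.card (Ubar F) = Nat.card (Multiplicative F) := (Nat.card_congr e.toEquiv).symm
  rw [h1, Nat.card_eq_fintype_card, Fintype.card_multiplicative]

theorem Ubar_inf_Lbar : Ubar F ⊓ Lbar F = ⊥ := by
  rw [eq_bot_iff]
  rintro x ⟨⟨s, rfl⟩, ⟨t, ht⟩⟩
  rw [Subgroup.mem_bot]
  -- `pr (lo t') = pr (up s')`
  have h1 : pr F (lo (Multiplicative.toAdd t)) = pr F (up (Multiplicative.toAdd s)) := ht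
  have h2 : pr F ((lo (Multiplicative.toAdd t))⁻¹ * up (Multiplicative.toAdd s)) = 1 := by
    rw [map_mul, map_inv, h1, inv_mul_cancel]
  have h3 := (pr_eq_one_iff _).1 h2
  have h4 := (center_entries h3).1
  rw [lo_inv, Matrix.SpecialLinearGroup.coe_mul, lo_coe, up_coe] at h4
  have h5 : Multiplicative.toAdd s = 0 := by
    simpa [Matrix.mul_apply, Fin.sum_univ_two] using h4
  show pr F (up (Multiplicative.toAdd s)) = 1
  rw [h5, up_zero, map_one]

/-- conjugation by the image of the Weyl element maps `Ubar` into `Lbar`. -/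
theorem conj_Ubar_mem_Lbar {x : Matrix.ProjectiveSpecialLinearGroup (Fin 2) F} (hx : x ∈ Ubar F) :
    pr F we * x * (pr F we)⁻¹ ∈ Lbar F := by
  obtain ⟨s, rfl⟩ := hx
  refine ⟨Multiplicative.ofAdd (-(Multiplicative.toAdd s)), ?_⟩
  show pr F (lo (-(Multiplicative.toAdd s))) = pr F we * pr F (up (Multiplicative.toAdd s)) * (pr F we)⁻¹
  rw [← we_conj_up, map_mul, map_mul, map_inv]

/-- a `p`-subgroup of `PSL₂(F)` containing `Ubar` is `Ubar`. -/
theorem eq_Ubar_of_le [Fintype F] (p : ℕ) [Fact p.Prime] [CharP F p]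
    (M : Subgroup (Matrix.ProjectiveSpecialLinearGroup (Fin 2) F)) (hM : IsPGroup p M)
    (hle : Ubar F ≤ M) : M = Ubar F := by
  obtain ⟨f, -, hf⟩ := FiniteField.card F p
  have hp := (Fact.out : p.Prime)
  set q := Fintype.card F with hq
  have hq2 : 2 ≤ q := by
    rw [hf]
    calc 2 ≤ p := hp.two_le
      _ = p ^ 1 := (pow_one p).symm
      _ ≤ p ^ (f : ℕ) := Nat.pow_le_pow_right hp.pos f.pos
  have hpq : p ∣ q := by
    rw [hf]
    exact dvd_pow_self p f.pos.ne'
  obtain ⟨k, hk⟩ := (IsPGroup.iff_card).1 hM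
  -- `|M|` divides `|SL₂(F)|`
  have hd1 : Nat.card M ∣ Nat.card (SpecialLinearGroup (Fin 2) F) := by
    rw [Cfsg.Agent.Lib.Helper35_PSL2Card.card_SL2_eq_card_PSL2_mul]
    exact Dvd.dvd.mul_right (Subgroup.card_subgroup_dvd_card M) _
  have hd2 : p ^ k ∣ q * ((q ^ 2 - 1) * (q - 1)) := by
    have h := Cfsg.Agent.Lib.Helper35_PSL2Card.card_SL2_mul (F := F)
    rw [← hq] at h
    have e : (q ^ 2 - 1) * (q ^ 2 - q) = q * ((q ^ 2 - 1) * (q - 1)) := by
      have : q ^ 2 - q = q * (q - 1) := by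
        rw [Nat.mul_sub, mul_one, sq]
      rw [this]
      ring
    rw [← e, ← h, ← hk]
    exact Dvd.dvd.mul_right hd1 _
  have hcop : Nat.Coprime (p ^ k) ((q ^ 2 - 1) * (q - 1)) := by
    apply Nat.Coprime.pow_left
    rw [Nat.Prime.coprime_iff_not_dvd hp]
    intro hdvd
    rcases (Nat.Prime.dvd_mul hp).1 hdvd with h | h
    · have h1 : p ∣ q ^ 2 := Dvd.dvd.pow hpq (by norm_num)
      have h2 : p ∣ q ^ 2 - (q ^ 2 - 1) := Nat.dvd_sub h1 h
      have h3 : q ^ 2 - (q ^ 2 - 1) = 1 := by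
        have : 1 ≤ q ^ 2 := Nat.one_le_pow _ _ (by omega)
        omega
      rw [h3] at h2
      exact hp.one_lt.ne' (Nat.dvd_one.1 h2)
    · have h2 : p ∣ q - (q - 1) := Nat.dvd_sub hpq h
      have h3 : q - (q - 1) = 1 := by omega
      rw [h3] at h2
      exact hp.one_lt.ne' (Nat.dvd_one.1 h2)
  have hd3 : p ^ k ∣ q := hcop.dvd_of_dvd_mul_right hd2
  have hle2 : Nat.card M ≤ Nat.card (Ubar F) := by
    rw [card_Ubar, hk]
    exact Nat.le_of_dvd (by omega) hd3
  exact (Subgroup.eq_of_le_of_card_ge hle hle2).symm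

/-- **PCORE**. -/
theorem normal_pgroup_psl2 {F : Type*} [Field F] [Fintype F] (p : ℕ) [Fact p.Prime] [CharP F p]
    (N : Subgroup (Matrix.ProjectiveSpecialLinearGroup (Fin 2) F)) (hN : N.Normal)
    (hp : IsPGroup p N) : N = ⊥ := by
  obtain ⟨f, -, hf⟩ := FiniteField.card F p
  have hU : IsPGroup p (Ubar F) := IsPGroup.of_card (n := f) (by rw [card_Ubar, hf])
  have hM : IsPGroup p (N ⊔ Ubar F : Subgroup _) := IsPGroup.to_sup_of_normal_left hp hU
  have hNU : N ≤ Ubar F := by
    rw [← eq_Ubar_of_le p _ hM le_sup_right]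
    exact le_sup_left
  have hNL : N ≤ Lbar F := by
    intro n hn
    have h1 : (pr F we)⁻¹ * n * (pr F we)⁻¹⁻¹ ∈ N := hN.conj_mem n hn _
    have h2 := conj_Ubar_mem_Lbar (hNU h1)
    have e : pr F we * ((pr F we)⁻¹ * n * (pr F we)⁻¹⁻¹) * (pr F we)⁻¹ = n := by group
    rwa [e] at h2
  rw [eq_bot_iff, ← Ubar_inf_Lbar (F := F)]
  exact le_inf hNU hNL

end Cfsg.Agent.Lib.Helper12_Quad_PCORE
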