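import Cfsg.Agent.Lib.Helper2_Coprime
import Mathlib.GroupTheory.PGroup
import Mathlib.GroupTheory.Sylow

set_option autoImplicit false

namespace Cfsg.Agent.Lib.Helper2_NC

open Subgroup MulAction Cfsg.Agent.Lib.Helper2_Coprime

section FixedPoints

variable {G : Type*} [Group G]

/-- If a `q`-group `K` normalises a finite subgroup `A`, the number of fixed points
`|C_A(K)|` is congruent to `|A|` modulo `q`. -/
theorem card_modEq_card_inf_centralizer (A K : Subgroup G) [Finite A]
    (hK : K ≤ normalizer (A : Set G)) (q : ℕ) [Fact q.Prime] (hKq : IsPGroup q K) :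
    Nat.card A ≡ Nat.card (A ⊓ centralizer (K : Set G) : Subgroup G) [MOD q] := by
  let _ : MulAction K A := MulAction.compHom A (conjAut A K hK)
  have h1 := hKq.card_modEq_card_fixedPoints A
  have h2 : Nat.card (fixedPoints K A) = Nat.card (A ⊓ centralizer (K : Set G) : Subgroup G) := by
    refine Nat.card_congr ?_
    refine
      { toFun := fun a => ⟨(a : A), ?_⟩
        invFun := fun z => ⟨⟨(z : G), (mem_inf.mp z.2).1⟩, ?_⟩
        left_inv := fun a => rfl
        right_inv := fun z => rfl }
    · refine mem_inf.mpr ⟨(a : A).2, ?_⟩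
      rw [mem_centralizer_iff]
      intro k hk
      have h3 : (⟨k, hk⟩ : K) • (a : A) = (a : A) := a.2 ⟨k, hk⟩
      have h4 : k * ((a : A) : G) * k⁻¹ = ((a : A) : G) := congrArg Subtype.val h3
      have h5 := congrArg (fun t => t * k) h4
      simpa [mul_assoc] using h5
    · intro k
      apply Subtype.ext
      show (k : G) * (z : G) * (k : G)⁻¹ = (z : G)
      have h3 := mem_centralizer_iff.mp (mem_inf.mp z.2).2 k k.2
      rw [h3]
      simp
  rw [← h2]
  exact h1

end FixedPoints

section NC

variable {G : Type*} [Group G] [Finite G] {p : ℕ} [Fact p.Prime]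

/-- If `T` is an abelian Sylow `p`-subgroup such that, for every prime `q ≠ p` dividing `|G|`,
every `q`-subgroup normalising `T` centralises `T`, then `N_G(T) ≤ C_G(T)`. -/
theorem normalizer_le_centralizer_of_forall_prime (T : Sylow p G) [IsMulCommutative T]
    (h : ∀ q : ℕ, q.Prime → q ≠ p → q ∣ Nat.card G → ∀ Q : Subgroup G, IsPGroup q Q →
      Q ≤ normalizer ((T : Subgroup G) : Set G) → Q ≤ centralizer ((T : Subgroup G) : Set G)) :
    normalizer ((T : Subgroup G) : Set G) ≤ centralizer ((T : Subgroup G) : Set G) := by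
  have hp : p.Prime := Fact.out
  set N := normalizer ((T : Subgroup G) : Set G) with hN
  set C' : Subgroup N := (centralizer ((T : Subgroup G) : Set G)).subgroupOf N with hC'
  have hTC : (T : Subgroup G) ≤ centralizer ((T : Subgroup G) : Set G) := T.le_centralizer
  suffices hidx : C'.index = 1 by
    have := index_eq_one.mp hidx
    rw [hC', subgroupOf_eq_top] at this
    exact this
  by_contra hne
  obtain ⟨q, hq, hqd⟩ := Nat.exists_prime_and_dvd hne
  have : Fact q.Prime := ⟨hq⟩
  -- `q ≠ p`
  have hqp : q ≠ p := by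
    rintro rfl
    have h1 : C'.index ∣ ((T : Subgroup G).subgroupOf N).index :=
      index_dvd_of_le (subgroupOf_mono N hTC)
    have h2 : ((T : Subgroup G).subgroupOf N).index ∣ (T : Subgroup G).index :=
      relIndex_dvd_index_of_le le_normalizer
    exact T.not_dvd_index (hqd.trans (h1.trans h2))
  have hqG : q ∣ Nat.card G :=
    hqd.trans ((index_dvd_card C').trans (card_subgroup_dvd_card N))
  obtain ⟨Q⟩ : Nonempty (Sylow q N) := inferInstance
  have hQle : (Q : Subgroup N) ≤ C' := by
    have h1 : IsPGroup q ((Q : Subgroup N).map N.subtype) := Q.2.map _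
    have h2 := h q hq hqp hqG ((Q : Subgroup N).map N.subtype) h1 (map_subtype_le _)
    intro x hx
    rw [hC', mem_subgroupOf]
    exact h2 ⟨x, hx, rfl⟩
  have h3 : C'.index ∣ (Q : Subgroup N).index := index_dvd_of_le hQle
  exact Q.not_dvd_index (hqd.trans h3)

end NC

end Cfsg.Agent.Lib.Helper2_NC
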