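import Cfsg.Prelude.Def_Transfer
import Mathlib.GroupTheory.Transfer
import Mathlib.GroupTheory.Focal

set_option autoImplicit false
open Cfsg

namespace Cfsg.Agent.Lib.Helper2_Transfer

variable {G : Type*} [Group G] [Finite G] {p : ℕ} [Fact p.Prime]

/-- A normal complement to one Sylow `p`-subgroup is a complement to every Sylow `p`-subgroup. -/
theorem isComplement'_sylow_of_normal (P Q : Sylow p G) (N : Subgroup G) [N.Normal]
    (hN : N.IsComplement' (P : Subgroup G)) : N.IsComplement' (Q : Subgroup G) := by
  have hp : p.Prime := Fact.out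
  have hcardPQ : Nat.card (Q : Subgroup G) = Nat.card (P : Subgroup G) := by
    rw [Sylow.card_eq_multiplicity, Sylow.card_eq_multiplicity]
  have hcard : Nat.card N * Nat.card (Q : Subgroup G) = Nat.card G := by
    rw [hcardPQ]; exact hN.card_mul_card
  have hndvd : ¬ p ∣ Nat.card N := hN.index_eq_card ▸ P.not_dvd_index
  have hcop : Nat.Coprime (Nat.card N) (Nat.card (Q : Subgroup G)) := by
    obtain ⟨k, hk⟩ := Q.2.exists_card_eq
    rw [hk]
    exact Nat.Coprime.pow_right k
      (Nat.Coprime.symm ((Nat.Prime.coprime_iff_not_dvd hp).mpr hndvd))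
  exact Subgroup.isComplement'_of_coprime hcard hcop

theorem hasNormalPComplement_iff (P : Sylow p G) :
    HasNormalPComplement p G ↔ ∃ N : Subgroup G, N.Normal ∧ N.IsComplement' (P : Subgroup G) := by
  constructor
  · rintro ⟨Q, N, hN, hc⟩
    exact ⟨N, hN, isComplement'_sylow_of_normal Q P N hc⟩
  · rintro ⟨N, hN, hc⟩
    exact ⟨P, N, hN, hc⟩

/-- Burnside's normal `p`-complement theorem in `HasNormalPComplement` form. -/
theorem hasNormalPComplement_of_normalizer_le_centralizer (P : Sylow p G)
    (hP : Subgroup.normalizer (P : Set G) ≤ Subgroup.centralizer (P : Set G)) :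
    HasNormalPComplement p G :=
  ⟨P, (MonoidHom.transferSylow P hP).ker, inferInstance,
    MonoidHom.ker_transferSylow_isComplement' P hP⟩

/-- The order of a normal `p`-complement is prime to `p`. -/
theorem not_dvd_card_of_isComplement' (P : Sylow p G) (N : Subgroup G)
    (hN : N.IsComplement' (P : Subgroup G)) : ¬ p ∣ Nat.card N :=
  hN.index_eq_card ▸ P.not_dvd_index

/-- A normal `p`-complement meets every `p`-subgroup trivially. -/
theorem inf_eq_bot_of_isComplement' (P : Sylow p G) (N : Subgroup G)
    (hN : N.IsComplement' (P : Subgroup G)) (Q : Subgroup G) (hQ : IsPGroup p Q) :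
    N ⊓ Q = ⊥ := by
  have h1 : IsPGroup p (N ⊓ Q : Subgroup G) := hQ.to_le inf_le_right
  rcases h1.card_eq_or_dvd with h | h
  · exact Subgroup.card_eq_one.mp h
  · exact absurd (h.trans (Subgroup.card_dvd_of_le inf_le_left))
      (not_dvd_card_of_isComplement' P N hN)

end Cfsg.Agent.Lib.Helper2_Transfer
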