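import Mathlib
import Cfsg.Agent.S0084
import Cfsg.Agent.S0058

set_option autoImplicit false

/-!
# REE-TOR package ABS2 (architect helper37; formalised by helper12)

A finite group with `3 ∤ |C|`, `8 ∤ |C|`, containing an involution, in which the centraliser of every
involution is abelian of order `4n` (`n` odd) without elements of order 4, is itself abelian of order `4n`
without elements of order 4.
-/

namespace Cfsg.Agent.Lib.Helper12_ReeTor_ABS2

open Subgroup

theorem mem_cent_singleton {G : Type*} [Group G] {x z : G} :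
    z ∈ centralizer ({x} : Set G) ↔ x * z = z * x := by
  rw [mem_centralizer_iff]
  constructor
  · intro h
    exact h x rfl
  · intro h y hy
    rw [Set.mem_singleton_iff] at hy
    rw [hy]
    exact h

/-- elements squaring to one commute when their product squares to one -/
theorem comm_of_sq {G : Type*} [Group G] {a b : G} (ha : a * a = 1) (hb : b * b = 1)
    (hab : (a * b) * (a * b) = 1) : a * b = b * a := by
  calc a * b = a * ((a * b) * (a * b)) * b := by rw [hab, mul_one]
    _ = (a * a) * (b * a) * (b * b) := by group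
    _ = b * a := by rw [ha, hb, one_mul, mul_one]

/-- the version for a group `H` (as a type) -/
theorem abs2_type {H : Type*} [Group H] [Finite H] (n : ℕ)
    (h3 : ¬ 3 ∣ Nat.card H) (h8 : ¬ 8 ∣ Nat.card H) (he : ∃ e : H, orderOf e = 2)
    (hc : ∀ e : H, orderOf e = 2 →
      (∀ g ∈ centralizer ({e} : Set H), ∀ k ∈ centralizer ({e} : Set H), g * k = k * g) ∧
      Nat.card ↥(centralizer ({e} : Set H)) = 4 * n ∧
      ∀ z ∈ centralizer ({e} : Set H), orderOf z ≠ 4) :
    (∀ g k : H, g * k = k * g) ∧ Nat.card H = 4 * n ∧ ∀ z : H, orderOf z ≠ 4 := by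
  haveI : Fact (Nat.Prime 2) := ⟨Nat.prime_two⟩
  obtain ⟨e0, he0⟩ := he
  obtain ⟨-, hcard0, -⟩ := hc e0 he0
  have h4H : 4 ∣ Nat.card H := by
    have h1 := card_subgroup_dvd_card (centralizer ({e0} : Set H))
    rw [hcard0] at h1
    exact Dvd.dvd.trans (Dvd.intro _ rfl) h1
  have hpos : Nat.card H ≠ 0 := Nat.card_pos.ne'
  have hfac : (Nat.card H).factorization 2 = 2 := by
    have h1 : 2 ≤ (Nat.card H).factorization 2 :=
      (Nat.Prime.pow_dvd_iff_le_factorization Nat.prime_two hpos).1 (by norm_num; exact h4H)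
    have h2 : ¬ 3 ≤ (Nat.card H).factorization 2 := by
      intro h
      apply h8
      have := (Nat.Prime.pow_dvd_iff_le_factorization Nat.prime_two hpos).2 h
      norm_num at this
      exact this
    omega
  -- every Sylow 2-subgroup has order 4 and exponent 2
  have hS4 : ∀ S : Sylow 2 H, Nat.card (S : Subgroup H) = 4 := by
    intro S
    have := S.card_eq_multiplicity
    rw [hfac] at this
    norm_num at this
    exact this
  have hSsq : ∀ S : Sylow 2 H, ∀ z ∈ (S : Subgroup H), z * z = 1 := by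
    intro S z hz
    have hd : orderOf z ∣ 4 := by
      rw [← hS4 S]
      have := orderOf_dvd_natCard (⟨z, hz⟩ : (S : Subgroup H))
      rwa [Subgroup.orderOf_mk] at this
    have hm := Nat.mem_divisors.2 ⟨hd, by norm_num⟩
    have e : Nat.divisors 4 = {1, 2, 4} := by decide
    rw [e] at hm
    simp only [Finset.mem_insert, Finset.mem_singleton] at hm
    rcases hm with h | h | h
    · rw [orderOf_eq_one_iff.1 h, one_mul]
    · have := pow_orderOf_eq_one z
      rwa [h, pow_two] at this
    · exfalso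
      have h2 : orderOf (z ^ 2) = 2 := by
        rw [orderOf_pow' z (by norm_num), h]
        norm_num
      have hz2 : z ∈ centralizer ({z ^ 2} : Set H) := by
        rw [mem_cent_singleton, ← pow_succ, ← pow_succ']
      exact (hc _ h2).2.2 z hz2 h
  -- Klein four
  obtain ⟨S⟩ : Nonempty (Sylow 2 H) := inferInstance
  have hK : IsKleinFour S := by
    refine ⟨hS4 S, ?_⟩
    have hdvd : Monoid.exponent S ∣ 2 := by
      apply Monoid.exponent_dvd_of_forall_pow_eq_one
      intro g
      apply Subtype.ext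
      rw [pow_two]
      exact hSsq S g.1 g.2
    have hne1 : Monoid.exponent S ≠ 1 := by
      intro h
      have hsub : Subsingleton S := Monoid.exp_eq_one_iff.1 h
      have h1 : Nat.card S ≤ 1 := Finite.card_le_one_iff_subsingleton.2 hsub
      have h2 : Nat.card S = 4 := hS4 S
      omega
    rcases (Nat.dvd_prime Nat.prime_two).1 hdvd with h | h
    · exact absurd h hne1
    · exact h
  obtain ⟨P, M, hMn, hMP⟩ := Cfsg.Agent.S0084.result S hK h3
  have hP4 := hS4 P
  have hPsq := hSsq P
  have hPcomm : ∀ x ∈ (P : Subgroup H), ∀ y ∈ (P : Subgroup H), x * y = y * x := by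
    intro x hx y hy
    exact comm_of_sq (hPsq x hx) (hPsq y hy) (hPsq _ ((P : Subgroup H).mul_mem hx hy))
  haveI hPc : IsMulCommutative (P : Subgroup H) :=
    IsPGroup.isMulCommutative_of_card_eq_prime_sq (p := 2) (by rw [hP4]; norm_num)
  have hPncyc : ¬ IsCyclic (P : Subgroup H) := by
    intro hcyc
    obtain ⟨g, hg⟩ := hcyc.exists_generator
    have h1 : orderOf g = Nat.card (P : Subgroup H) := orderOf_eq_card_of_forall_mem_zpowers hg
    rw [hP4] at h1
    have h2 : g ^ 2 = 1 := by
      apply Subtype.ext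
      rw [pow_two]
      exact hPsq g.1 g.2
    have h3 := orderOf_dvd_of_pow_eq_one h2
    rw [h1] at h3
    omega
  have hPM : (P : Subgroup H) ≤ normalizer (M : Set H) := by
    intro x _
    rw [mem_normalizer_iff]
    intro y
    constructor
    · intro h
      exact hMn.conj_mem y h x
    · intro h
      have := hMn.conj_mem _ h x⁻¹
      have e : x⁻¹ * (x * y * x⁻¹) * x⁻¹⁻¹ = y := by group
      rwa [e] at this
  have hMcard : Nat.card M * 4 = Nat.card H := by
    have := hMP.card_mul_card
    rwa [hP4] at this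
  have hModd : Odd (Nat.card M) := by
    rw [← Nat.not_even_iff_odd]
    intro hev
    obtain ⟨k, hk⟩ := hev
    apply h8
    rw [← hMcard, hk]
    exact ⟨k, by ring⟩
  have hcop : (Nat.card (P : Subgroup H)).Coprime (Nat.card M) := by
    rw [hP4]
    have : Nat.Coprime 2 (Nat.card M) := Nat.coprime_two_left.2 hModd
    have h2 : (4 : ℕ) = 2 ^ 2 := by norm_num
    rw [h2]
    exact Nat.Coprime.pow_left 2 this
  have hgen := Cfsg.Agent.S0058.result (P : Subgroup H) M hPncyc hPM hcop
  -- a nonidentity element of `P`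
  have hPbot : (P : Subgroup H) ≠ ⊥ := by
    intro h
    rw [h, card_bot] at hP4
    omega
  obtain ⟨⟨e, heP⟩, he1'⟩ := ne_bot_iff_exists_ne_one.1 hPbot
  have he1 : e ≠ 1 := fun h => he1' (Subtype.ext h)
  have hinv : ∀ a ∈ (P : Subgroup H), a ≠ 1 → orderOf a = 2 := by
    intro a ha ha1
    exact orderOf_eq_prime (by rw [pow_two]; exact hPsq a ha) ha1
  have he2 : orderOf e = 2 := hinv e heP he1
  obtain ⟨hab, hcard, hno4⟩ := hc e he2
  -- `P ≤ C(e)` and `M ≤ C(e)`
  have hPD : ∀ a ∈ (P : Subgroup H), ∀ x ∈ (P : Subgroup H), x ∈ centralizer ({a} : Set H) := by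
    intro a ha x hx
    rw [mem_cent_singleton]
    exact hPcomm a ha x hx
  have hMD : M ≤ centralizer ({e} : Set H) := by
    rw [← hgen]
    refine iSup_le fun a => iSup_le fun ha => ?_
    obtain ⟨haP, ha1⟩ := ha
    intro x hx
    obtain ⟨-, hxa⟩ := mem_inf.1 hx
    have ha2 : orderOf a = 2 := hinv a haP ha1
    have hcomm := (hc a ha2).1 x hxa e (hPD a haP e heP)
    rw [mem_cent_singleton]
    exact hcomm.symm
  have htop : ∀ h : H, h ∈ centralizer ({e} : Set H) := by
    intro h
    obtain ⟨⟨m, p⟩, hmp⟩ := hMP.2 h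
    have : (m : H) * (p : H) = h := hmp
    rw [← this]
    exact (centralizer ({e} : Set H)).mul_mem (hMD m.2) (hPD e heP p.1 p.2)
  refine ⟨fun g k => hab g (htop g) k (htop k), ?_, fun z => hno4 z (htop z)⟩
  have hD : centralizer ({e} : Set H) = ⊤ := by
    rw [eq_top_iff]
    intro h _
    exact htop h
  rw [hD, card_top] at hcard
  exact hcard

theorem abs2 {G : Type*} [Group G] [Finite G] (C : Subgroup G) (n : ℕ) (hn : Odd n)
    (h3 : ¬ 3 ∣ Nat.card C) (h8 : ¬ 8 ∣ Nat.card C) (he : ∃ e ∈ C, orderOf e = 2)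
    (hc : ∀ e ∈ C, orderOf e = 2 →
      (∀ g ∈ C ⊓ Subgroup.centralizer ({e} : Set G), ∀ k ∈ C ⊓ Subgroup.centralizer ({e} : Set G), g * k = k * g) ∧
      Nat.card ↥(C ⊓ Subgroup.centralizer ({e} : Set G)) = 4 * n ∧
      ∀ z ∈ C ⊓ Subgroup.centralizer ({e} : Set G), orderOf z ≠ 4) :
    (∀ g ∈ C, ∀ k ∈ C, g * k = k * g) ∧ Nat.card C = 4 * n ∧ ∀ z ∈ C, orderOf z ≠ 4 := by
  -- centralisers in `↥C`
  have hcent : ∀ e : C, centralizer ({e} : Set C) = (centralizer ({(e : G)} : Set G)).subgroupOf C := by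
    intro e
    ext x
    rw [mem_subgroupOf, mem_cent_singleton, mem_cent_singleton, Subtype.ext_iff]
    rfl
  have hcardeq : ∀ e : C, Nat.card ↥(centralizer ({e} : Set C)) =
      Nat.card ↥(C ⊓ centralizer ({(e : G)} : Set G)) := by
    intro e
    rw [hcent e, ← card_map_of_injective C.subtype_injective, subgroupOf_map_subtype, inf_comm]
  have hmem : ∀ (e x : C), x ∈ centralizer ({e} : Set C) →
      (x : G) ∈ C ⊓ centralizer ({(e : G)} : Set G) := by
    intro e x hx
    rw [hcent e, mem_subgroupOf] at hx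
    exact mem_inf.2 ⟨x.2, hx⟩
  obtain ⟨e0, he0C, he0⟩ := he
  have key := abs2_type (H := C) n h3 h8 ⟨⟨e0, he0C⟩, by rw [Subgroup.orderOf_mk]; exact he0⟩ (by
    intro e he2
    have he2' : orderOf (e : G) = 2 := by rw [Subgroup.orderOf_coe]; exact he2
    obtain ⟨h1, h2, h3'⟩ := hc e.1 e.2 he2'
    refine ⟨?_, ?_, ?_⟩
    · intro g hg k hk
      apply Subtype.ext
      exact h1 g.1 (hmem e g hg) k.1 (hmem e k hk)
    · rw [hcardeq e]
      exact h2
    · intro z hz
      rw [← Subgroup.orderOf_coe]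
      exact h3' z.1 (hmem e z hz))
  obtain ⟨k1, k2, k3⟩ := key
  refine ⟨?_, k2, ?_⟩
  · intro g hg k hk
    exact congrArg Subtype.val (k1 ⟨g, hg⟩ ⟨k, hk⟩)
  · intro z hz
    have := k3 ⟨z, hz⟩
    rwa [Subgroup.orderOf_mk] at this

end Cfsg.Agent.Lib.Helper12_ReeTor_ABS2
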