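import Mathlib

set_option autoImplicit false

/-!
# REE-TOR package TRANSPORT2 (architect helper37; formalised by helper12)

Transport of the structure of centralisers of elements of order `p` from `Q ≅ C_G(a)` to
`C_G(x) ⊓ C_G(e)` for every involution `e` commuting with `x` (all involutions being conjugate to `a`).
-/

namespace Cfsg.Agent.Lib.Helper12_ReeTor_TRANSPORT2

open Subgroup

theorem mem_cent_singleton {G : Type*} [Group G] {x z : G} :
    z ∈ centralizer ({x} : Set G) ↔ x * z = z * x := by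
  rw [mem_centralizer_iff]
  constructor
  · intro h
    exact h x rfl
  · intro h y hy
    rw [Set.mem_singleton_iff] at hy
    rw [hy]
    exact h

theorem orderOf_conj_inv {G : Type*} [Group G] (g z : G) : orderOf (g⁻¹ * z * g) = orderOf z := by
  have h := MulEquiv.orderOf_eq (MulAut.conj g⁻¹) z
  rw [MulAut.conj_apply, inv_inv] at h
  exact h

theorem transport_cent {G : Type*} [Group G] {Q : Type*} [Group Q] (a : G)
    (ψ : ↥(Subgroup.centralizer ({a} : Set G)) ≃* Q) (p N : ℕ)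
    (hQ : ∀ w : Q, orderOf w = p →
      (∀ g ∈ Subgroup.centralizer ({w} : Set Q), ∀ k ∈ Subgroup.centralizer ({w} : Set Q), g * k = k * g) ∧
      Nat.card ↥(Subgroup.centralizer ({w} : Set Q)) = N ∧
      ∀ z ∈ Subgroup.centralizer ({w} : Set Q), orderOf z ≠ 4)
    (hconj : ∀ t : G, orderOf t = 2 → ∃ g : G, g * a * g⁻¹ = t)
    (x : G) (hx : orderOf x = p) (e : G) (he : orderOf e = 2) (hex : e * x = x * e) :
    (∀ g ∈ Subgroup.centralizer ({x} : Set G) ⊓ Subgroup.centralizer ({e} : Set G),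
      ∀ k ∈ Subgroup.centralizer ({x} : Set G) ⊓ Subgroup.centralizer ({e} : Set G), g * k = k * g) ∧
    Nat.card ↥(Subgroup.centralizer ({x} : Set G) ⊓ Subgroup.centralizer ({e} : Set G)) = N ∧
    ∀ z ∈ Subgroup.centralizer ({x} : Set G) ⊓ Subgroup.centralizer ({e} : Set G), orderOf z ≠ 4 := by
  obtain ⟨g, hg⟩ := hconj e he
  -- conjugation by `g⁻¹`
  have L1 : ∀ z : G, e * z = z * e → a * (g⁻¹ * z * g) = (g⁻¹ * z * g) * a := by
    intro z hz
    calc a * (g⁻¹ * z * g) = g⁻¹ * ((g * a * g⁻¹) * z) * g := by group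
      _ = g⁻¹ * (z * (g * a * g⁻¹)) * g := by rw [hg, hz]
      _ = (g⁻¹ * z * g) * a := by group
  have L2 : ∀ z : G, x * z = z * x → (g⁻¹ * x * g) * (g⁻¹ * z * g) = (g⁻¹ * z * g) * (g⁻¹ * x * g) := by
    intro z hz
    calc (g⁻¹ * x * g) * (g⁻¹ * z * g) = g⁻¹ * (x * z) * g := by group
      _ = g⁻¹ * (z * x) * g := by rw [hz]
      _ = (g⁻¹ * z * g) * (g⁻¹ * x * g) := by group
  have hx'a : g⁻¹ * x * g ∈ centralizer ({a} : Set G) := mem_cent_singleton.2 (L1 x hex)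
  set w : Q := ψ ⟨g⁻¹ * x * g, hx'a⟩ with hw
  have hwp : orderOf w = p := by
    rw [hw, MulEquiv.orderOf_eq, Subgroup.orderOf_mk, orderOf_conj_inv]
    exact hx
  obtain ⟨hcomm, hcard, hord⟩ := hQ w hwp
  -- the map
  have hmemA : ∀ z : G, z ∈ centralizer ({x} : Set G) ⊓ centralizer ({e} : Set G) →
      g⁻¹ * z * g ∈ centralizer ({a} : Set G) := by
    intro z hz
    exact mem_cent_singleton.2 (L1 z (mem_cent_singleton.1 (mem_inf.1 hz).2))
  have hmemW : ∀ (z : G) (hz : z ∈ centralizer ({x} : Set G) ⊓ centralizer ({e} : Set G)),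
      ψ ⟨g⁻¹ * z * g, hmemA z hz⟩ ∈ centralizer ({w} : Set Q) := by
    intro z hz
    rw [mem_cent_singleton, hw, ← map_mul, ← map_mul]
    congr 1
    apply Subtype.ext
    exact L2 z (mem_cent_singleton.1 (mem_inf.1 hz).1)
  refine ⟨?_, ?_, ?_⟩
  · intro z1 hz1 z2 hz2
    have h := hcomm _ (hmemW z1 hz1) _ (hmemW z2 hz2)
    rw [← map_mul, ← map_mul] at h
    have h2 := congrArg Subtype.val (ψ.injective h)
    have h3 : (g⁻¹ * z1 * g) * (g⁻¹ * z2 * g) = (g⁻¹ * z2 * g) * (g⁻¹ * z1 * g) := h2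
    calc z1 * z2 = g * ((g⁻¹ * z1 * g) * (g⁻¹ * z2 * g)) * g⁻¹ := by group
      _ = g * ((g⁻¹ * z2 * g) * (g⁻¹ * z1 * g)) * g⁻¹ := by rw [h3]
      _ = z2 * z1 := by group
  · rw [← hcard]
    let f : ↥(centralizer ({x} : Set G) ⊓ centralizer ({e} : Set G)) →
        ↥(centralizer ({w} : Set Q)) := fun z => ⟨ψ ⟨g⁻¹ * z.1 * g, hmemA z.1 z.2⟩, hmemW z.1 z.2⟩
    have hinj : Function.Injective f := by
      intro z1 z2 h
      have h1 : ψ ⟨g⁻¹ * z1.1 * g, hmemA z1.1 z1.2⟩ = ψ ⟨g⁻¹ * z2.1 * g, hmemA z2.1 z2.2⟩ :=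
        congrArg Subtype.val h
      have h2 := congrArg Subtype.val (ψ.injective h1)
      have h3 : g⁻¹ * z1.1 * g = g⁻¹ * z2.1 * g := h2
      apply Subtype.ext
      calc z1.1 = g * (g⁻¹ * z1.1 * g) * g⁻¹ := by group
        _ = g * (g⁻¹ * z2.1 * g) * g⁻¹ := by rw [h3]
        _ = z2.1 := by group
    have hsurj : Function.Surjective f := by
      intro u
      -- `y = ψ⁻¹ u ∈ C(a)`
      set y := ψ.symm u.1 with hy
      have hya : a * y.1 = y.1 * a := mem_cent_singleton.1 y.2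
      have hyx : (g⁻¹ * x * g) * y.1 = y.1 * (g⁻¹ * x * g) := by
        have h1 : w * u.1 = u.1 * w := mem_cent_singleton.1 u.2
        have h2 : ψ.symm (w * u.1) = ψ.symm (u.1 * w) := by rw [h1]
        have hww : ψ.symm w = ⟨g⁻¹ * x * g, hx'a⟩ := by rw [hw, ψ.symm_apply_apply]
        rw [map_mul, map_mul, hww] at h2
        exact congrArg Subtype.val h2
      have hz : g * y.1 * g⁻¹ ∈ centralizer ({x} : Set G) ⊓ centralizer ({e} : Set G) := by
        refine mem_inf.2 ⟨mem_cent_singleton.2 ?_, mem_cent_singleton.2 ?_⟩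
        · calc x * (g * y.1 * g⁻¹) = g * ((g⁻¹ * x * g) * y.1) * g⁻¹ := by group
            _ = g * (y.1 * (g⁻¹ * x * g)) * g⁻¹ := by rw [hyx]
            _ = (g * y.1 * g⁻¹) * x := by group
        · rw [← hg]
          calc (g * a * g⁻¹) * (g * y.1 * g⁻¹) = g * (a * y.1) * g⁻¹ := by group
            _ = g * (y.1 * a) * g⁻¹ := by rw [hya]
            _ = (g * y.1 * g⁻¹) * (g * a * g⁻¹) := by group
      refine ⟨⟨g * y.1 * g⁻¹, hz⟩, ?_⟩
      apply Subtype.ext
      show ψ ⟨g⁻¹ * (g * y.1 * g⁻¹) * g, _⟩ = u.1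
      have e1 : (⟨g⁻¹ * (g * y.1 * g⁻¹) * g, hmemA _ hz⟩ : ↥(centralizer ({a} : Set G))) = y := by
        apply Subtype.ext
        show g⁻¹ * (g * y.1 * g⁻¹) * g = y.1
        group
      rw [e1, hy, ψ.apply_symm_apply]
    exact Nat.card_congr (Equiv.ofBijective f ⟨hinj, hsurj⟩)
  · intro z hz
    have h := hord _ (hmemW z hz)
    rw [MulEquiv.orderOf_eq, Subgroup.orderOf_mk, orderOf_conj_inv] at h
    exact h

end Cfsg.Agent.Lib.Helper12_ReeTor_TRANSPORT2
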