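import Mathlib.GroupTheory.Index
import Mathlib.GroupTheory.Abelianization.Defs
import Mathlib.GroupTheory.Commutator.Basic
import Mathlib.GroupTheory.QuotientGroup.Basic
import Mathlib.GroupTheory.Coset.Card
import Mathlib.Tactic.Group
import Mathlib.GroupTheory.IndexNormal
import Mathlib.Algebra.Group.Subgroup.Finite

/-!
# Groups with an abelian subgroup of index two (helper2)

`card_center_mul_card_commutator`: if `T` is an abelian subgroup of index two of the nonabelian
finite group `G`, then `|Z(G)| * |G'| = |T|`.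
-/

set_option autoImplicit false

namespace Cfsg.Agent.Lib.Helper2_AbelianIndexTwo

open Subgroup
open scoped commutatorElement

variable {G : Type*} [Group G]

/-- If `T` has index two and `g ∉ T`, every element lies in `T` or is `s * g` with `s ∈ T`. -/
theorem cases_of_index_two {T : Subgroup G} (hT : T.index = 2) {g : G} (hg : g ∉ T) (x : G) :
    x ∈ T ∨ ∃ s ∈ T, x = s * g := by
  by_cases hx : x ∈ T
  · exact Or.inl hx
  · right
    refine ⟨x * g⁻¹, ?_, by group⟩
    rw [mul_mem_iff_of_index_two hT, inv_mem_iff]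
    exact ⟨fun h => absurd h hx, fun h => absurd h hg⟩

/-- An element commuting with `T` (of index two) and with some `g ∉ T` is central. -/
theorem mem_center_of_commute {T : Subgroup G} (hT : T.index = 2) {g : G} (hg : g ∉ T) {z : G}
    (hzT : ∀ t ∈ T, z * t = t * z) (hzg : z * g = g * z) : z ∈ center G := by
  rw [mem_center_iff]
  intro x
  rcases cases_of_index_two hT hg x with hx | ⟨s, hs, rfl⟩
  · exact (hzT x hx).symm
  · rw [mul_assoc, ← hzg, ← mul_assoc, ← hzT s hs, mul_assoc]

/-- The centre of a nonabelian group lies in every abelian subgroup of index two. -/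
theorem center_le_of_index_two {T : Subgroup G} (hT : T.index = 2)
    (hTc : ∀ s ∈ T, ∀ t ∈ T, s * t = t * s) (hna : ∃ x y : G, x * y ≠ y * x) : center G ≤ T := by
  intro z hz
  by_contra hzT
  obtain ⟨x, y, hxy⟩ := hna
  apply hxy
  have hzc : ∀ g : G, g * z = z * g := fun g => mem_center_iff.mp hz g
  rcases cases_of_index_two hT hzT x with hx | ⟨s, hs, rfl⟩ <;>
    rcases cases_of_index_two hT hzT y with hy | ⟨t, ht, rfl⟩
  · exact hTc x hx y hy
  · rw [← mul_assoc, hTc x hx t ht, mul_assoc, mul_assoc, hzc x]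
  · rw [mul_assoc, ← hzc y, ← mul_assoc, hTc s hs y hy, mul_assoc]
  · calc s * z * (t * z) = s * (z * t) * z := by group
      _ = s * (t * z) * z := by rw [hzc t]
      _ = (s * t) * z * z := by group
      _ = (t * s) * z * z := by rw [hTc s hs t ht]
      _ = t * (s * z) * z := by group
      _ = t * (z * s) * z := by rw [hzc s]
      _ = t * z * (s * z) := by group

section

variable (T : Subgroup G) (hT : T.index = 2) (hTc : ∀ s ∈ T, ∀ t ∈ T, s * t = t * s) (g : G)

/-- The commutator map `t ↦ ⁅t, g⁆` on an abelian normal subgroup, as a homomorphism. -/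
def commHom [hn : T.Normal] (hTc : ∀ s ∈ T, ∀ t ∈ T, s * t = t * s) (g : G) : T →* T where
  toFun t := ⟨⁅(t : G), g⁆, by
    have h : ⁅(t : G), g⁆ = (t : G) * (g * (t : G)⁻¹ * g⁻¹) := by
      rw [commutatorElement_def]; group
    rw [h]
    exact mul_mem t.2 (hn.conj_mem _ (inv_mem t.2) g)⟩
  map_one' := by
    ext
    simp
  map_mul' s t := by
    ext
    simp only [Subgroup.coe_mul, commutatorElement_def, mul_inv_rev]
    have h1 : g * (s : G)⁻¹ * g⁻¹ ∈ T := hn.conj_mem _ (inv_mem s.2) g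
    have h2 : (t : G) * g * (t : G)⁻¹ * g⁻¹ ∈ T := by
      have h : (t : G) * g * (t : G)⁻¹ * g⁻¹ = (t : G) * (g * (t : G)⁻¹ * g⁻¹) := by group
      rw [h]
      exact mul_mem t.2 (hn.conj_mem _ (inv_mem t.2) g)
    calc (s : G) * t * g * ((t : G)⁻¹ * (s : G)⁻¹) * g⁻¹
        = (s : G) * (((t : G) * g * (t : G)⁻¹ * g⁻¹) * (g * (s : G)⁻¹ * g⁻¹)) := by group
      _ = (s : G) * ((g * (s : G)⁻¹ * g⁻¹) * ((t : G) * g * (t : G)⁻¹ * g⁻¹)) := by
          rw [hTc _ h2 _ h1]
      _ = (s : G) * g * (s : G)⁻¹ * g⁻¹ * ((t : G) * g * (t : G)⁻¹ * g⁻¹) := by group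

theorem coe_commHom [T.Normal] (t : T) : ((commHom T hTc g t : T) : G) = ⁅(t : G), g⁆ := rfl

end

/-- If `T` is an abelian subgroup of index two of a nonabelian finite group `G`, then
`|Z(G)| * |G'| = |T|`. -/
theorem card_center_mul_card_commutator [Finite G] (T : Subgroup G) (hT : T.index = 2)
    (hTc : ∀ s ∈ T, ∀ t ∈ T, s * t = t * s) (hna : ∃ x y : G, x * y ≠ y * x) :
    Nat.card (center G) * Nat.card (commutator G) = Nat.card T := by
  have hn : T.Normal := normal_of_index_eq_two hT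
  obtain ⟨g, hg⟩ : ∃ g : G, g ∉ T := by
    by_contra hcon
    push Not at hcon
    have : T = ⊤ := eq_top_iff.mpr (fun x _ => hcon x)
    rw [this, index_top] at hT
    omega
  have hZT : center G ≤ T := center_le_of_index_two hT hTc hna
  set φ := commHom T hTc g with hφ
  -- the kernel
  have hker : φ.ker = (center G).subgroupOf T := by
    ext t
    rw [MonoidHom.mem_ker, mem_subgroupOf, ← Subtype.coe_inj, coe_commHom, coe_one,
      commutatorElement_eq_one_iff_mul_comm]
    constructor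
    · intro h
      exact mem_center_of_commute hT hg (fun s hs => hTc _ t.2 _ hs) h
    · intro h
      exact (mem_center_iff.mp h g).symm
  -- the range
  have hrange_le : ∀ x y : G, ⁅x, y⁆ ∈ φ.range.map T.subtype := by
    -- `g * w * g⁻¹ = (φ w)⁻¹ * w`
    have hconj : ∀ w : T, g * (w : G) * g⁻¹ = ((φ w : T) : G)⁻¹ * w := by
      intro w
      rw [coe_commHom, commutatorElement_def]
      group
    have hmem : ∀ w : T, ((φ w : T) : G) ∈ φ.range.map T.subtype := fun w =>
      ⟨φ w, ⟨w, rfl⟩, rfl⟩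
    intro x y
    rcases cases_of_index_two hT hg x with hx | ⟨s, hs, rfl⟩ <;>
      rcases cases_of_index_two hT hg y with hy | ⟨t, ht, rfl⟩
    · have : ⁅x, y⁆ = 1 := commutatorElement_eq_one_iff_mul_comm.mpr (hTc x hx y hy)
      rw [this]; exact one_mem _
    · -- `⁅x, t * g⁆ = φ x`
      have h1 : ⁅x, t * g⁆ = t * ((φ ⟨x, hx⟩ : T) : G) * t⁻¹ := by
        rw [coe_commHom, commutatorElement_def, commutatorElement_def]
        have e : x * (t * g) * x⁻¹ * (t * g)⁻¹ = (x * t) * g * x⁻¹ * g⁻¹ * t⁻¹ := by group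
        rw [e, hTc x hx t ht]
        group
      have h2 : t * ((φ ⟨x, hx⟩ : T) : G) * t⁻¹ = ((φ ⟨x, hx⟩ : T) : G) := by
        rw [hTc t ht _ (φ ⟨x, hx⟩).2, mul_inv_cancel_right]
      rw [h1, h2]
      exact hmem _
    · -- `⁅s * g, y⁆ = (φ y)⁻¹`
      have h1 : ⁅s * g, y⁆ = s * ((φ ⟨y, hy⟩ : T) : G)⁻¹ * s⁻¹ := by
        rw [coe_commHom, commutatorElement_def, commutatorElement_def]
        have : s * g * y * (s * g)⁻¹ * y⁻¹ = s * (g * y * g⁻¹ * y⁻¹) * s⁻¹ * (s * y * s⁻¹ * y⁻¹) := by
          group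
        rw [this, hTc s hs y hy]
        group
      have h2 : s * ((φ ⟨y, hy⟩ : T) : G)⁻¹ * s⁻¹ = ((φ ⟨y, hy⟩ : T) : G)⁻¹ := by
        rw [hTc s hs _ (inv_mem (φ ⟨y, hy⟩).2), mul_inv_cancel_right]
      rw [h1, h2]
      exact inv_mem (hmem _)
    · -- `⁅s * g, t * g⁆ = (φ (t * s⁻¹))⁻¹`
      set w : T := ⟨t * s⁻¹, mul_mem ht (inv_mem hs)⟩ with hw
      have h1 : ⁅s * g, t * g⁆ = s * (g * (w : G) * g⁻¹) * t⁻¹ := by
        rw [commutatorElement_def]
        show s * g * (t * g) * (s * g)⁻¹ * (t * g)⁻¹ = s * (g * (t * s⁻¹) * g⁻¹) * t⁻¹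
        group
      rw [h1, hconj w]
      have h2 : s * (((φ w : T) : G)⁻¹ * (w : G)) * t⁻¹ = ((φ w : T) : G)⁻¹ * (s * (w : G) * t⁻¹) := by
        rw [← mul_assoc s, hTc s hs _ (inv_mem (φ w).2)]
        group
      have h3 : s * (w : G) * t⁻¹ = 1 := by
        show s * (t * s⁻¹) * t⁻¹ = 1
        rw [hTc t ht _ (inv_mem hs)]
        group
      rw [h2, h3, mul_one]
      exact inv_mem (hmem _)
  have hcomm_eq : commutator G = φ.range.map T.subtype := by
    apply le_antisymm
    · rw [_root_.commutator_def, Subgroup.commutator_le]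
      intro x _ y _
      exact hrange_le x y
    · rintro - ⟨-, ⟨t, rfl⟩, rfl⟩
      rw [_root_.commutator_def]
      exact commutator_mem_commutator (mem_top _) (mem_top _)
  have h1 : Nat.card (commutator G) = Nat.card φ.range := by
    rw [hcomm_eq, card_map_of_injective T.subtype_injective]
  have h2 : Nat.card (center G) = Nat.card φ.ker := by
    rw [hker]
    exact (Nat.card_congr (subgroupOfEquivOfLe hZT).toEquiv).symm
  rw [h1, h2, ← index_ker]
  exact φ.ker.card_mul_index

end Cfsg.Agent.Lib.Helper2_AbelianIndexTwo
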