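import Cfsg.Agent.Lib.Helper2_TwoMaxClassStruct
import Cfsg.Agent.Lib.Helper2_AbelianIndexTwo

/-!
# Taussky's theorem (helper2)

* `sq_mem_center`, `conj_mul_mem_center`: in a group with a cyclic subgroup `⟨a⟩` of index two and
  `b ∉ ⟨a⟩`, the elements `b * b` and `b * a * b⁻¹ * a` are central.
* `maxClass_index_commutator`: a 2-group of order `2 ^ n`, `3 ≤ n`, of class `n - 1` has commutator
  subgroup of index four containing all squares.
* `taussky`: a group of order `2 ^ n`, `3 ≤ n`, whose commutator subgroup has index four has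
  class `n - 1`.
-/

set_option autoImplicit false

namespace Cfsg.Agent.Lib.Helper2_TwoMaxClass

open Subgroup Cfsg.Agent.Lib.Helper2_MaxClass
open scoped commutatorElement

universe u

section

variable {X : Type*} [Group X]

/-- With `⟨a⟩` of index two and `b ∉ ⟨a⟩`, the square of `b` is central. -/
theorem sq_mem_center {a b : X} (hidx : (zpowers a).index = 2) (hb : b ∉ zpowers a) :
    b * b ∈ center X := by
  have h1 : b * b ∈ zpowers a := mul_self_mem_of_index_two hidx b
  obtain ⟨k, hk⟩ := mem_zpowers_iff.mp h1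
  apply central_of_commute hidx hb
  · rw [← hk]
    exact (Commute.refl a).zpow_left k
  · exact (Commute.refl b).mul_left (Commute.refl b)

/-- With `⟨a⟩` of index two and `b ∉ ⟨a⟩`, the element `b * a * b⁻¹ * a` is central. -/
theorem conj_mul_mem_center {a b : X} (hidx : (zpowers a).index = 2) (hb : b ∉ zpowers a) :
    b * a * b⁻¹ * a ∈ center X := by
  have hCnormal : (zpowers a).Normal := normal_of_index_eq_two hidx
  have hbb := sq_mem_center hidx hb
  have h1 : b * a * b⁻¹ ∈ zpowers a := hCnormal.conj_mem a (mem_zpowers a) b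
  obtain ⟨k, hk⟩ := mem_zpowers_iff.mp h1
  apply central_of_commute hidx hb
  · rw [← hk]
    exact ((Commute.refl a).zpow_left k).mul_left (Commute.refl a)
  · have hbbc : ∀ g : X, g * (b * b) = (b * b) * g := fun g => mem_center_iff.mp hbb g
    have h2 : Commute (b * a * b⁻¹) a := by
      rw [← hk]; exact (Commute.refl a).zpow_left k
    have h3 : b * (b * a * b⁻¹ * a) * b⁻¹ = b * a * b⁻¹ * a := by
      calc b * (b * a * b⁻¹ * a) * b⁻¹ = (b * b) * a * (b * b)⁻¹ * (b * a * b⁻¹) := by group
        _ = a * (b * a * b⁻¹) := by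
            rw [← hbbc a, mul_assoc a, mul_inv_cancel, mul_one]
        _ = b * a * b⁻¹ * a := h2.eq.symm
    have h4 : b * (b * a * b⁻¹ * a) = (b * a * b⁻¹ * a) * b := by
      calc b * (b * a * b⁻¹ * a) = b * (b * a * b⁻¹ * a) * b⁻¹ * b := by group
        _ = (b * a * b⁻¹ * a) * b := by rw [h3]
    exact h4.symm

end

/-- A 2-group of maximal class has commutator subgroup of index four, containing all squares. -/
theorem maxClass_index_commutator {X : Type u} [Group X] [Finite X] (n : ℕ) (hn : 3 ≤ n)
    (hX : Nat.card X = 2 ^ n) (hc : Group.nilpotencyClass X = n - 1) :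
    (commutator X).index = 4 ∧ ∀ x : X, x * x ∈ commutator X := by
  have : Fact (Nat.Prime 2) := ⟨Nat.prime_two⟩
  have hPG : IsPGroup 2 X := IsPGroup.of_card hX
  obtain ⟨a, b, hord, hidx, hb, hZC, hbb, hu⟩ := maxClass_structure n hn hX hc
  obtain ⟨hZ, hQ, hQc⟩ := maxClass_center hX hn hc
  have hCnormal : (zpowers a).Normal := normal_of_index_eq_two hidx
  -- `D = ⟨a²⟩`
  set D : Subgroup X := zpowers (a * a) with hD
  have hDnormal : D.Normal := by
    constructor
    intro s hs g
    obtain ⟨j, rfl⟩ := mem_zpowers_iff.mp hs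
    have h1 : g * (a * a) ^ j * g⁻¹ = (g * (a * a) * g⁻¹) ^ j := by rw [conj_zpow]
    rw [h1]
    apply zpow_mem
    have h2 : g * (a * a) * g⁻¹ = (g * a * g⁻¹) * (g * a * g⁻¹) := by group
    rw [h2]
    obtain ⟨k, hk⟩ := mem_zpowers_iff.mp (hCnormal.conj_mem a (mem_zpowers a) g)
    rw [← hk, ← (Commute.refl a).mul_zpow]
    exact zpow_mem (mem_zpowers _) k
  have hDcard : Nat.card D = 2 ^ (n - 2) := by
    rw [hD, Nat.card_zpowers, ← pow_two, orderOf_pow' a (by norm_num), hord]
    have h1 : (2 : ℕ) ^ (n - 1) = 2 ^ (n - 2) * 2 := by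
      rw [← pow_succ]; congr 1; omega
    have h2 : Nat.gcd (2 ^ (n - 1)) 2 = 2 := by
      apply Nat.gcd_eq_right
      rw [h1]; exact Dvd.intro_left _ rfl
    rw [h2, h1, Nat.mul_div_cancel _ (by norm_num : 0 < 2)]
  have hDidx : D.index = 4 := by
    have h1 := D.card_mul_index
    rw [hDcard, hX] at h1
    have h2 : (2 : ℕ) ^ n = 2 ^ (n - 2) * 4 := by
      have : (4 : ℕ) = 2 ^ 2 := by norm_num
      rw [this, ← pow_add]; congr 1; omega
    rw [h2] at h1
    exact Nat.eq_of_mul_eq_mul_left (pow_pos (by norm_num) _) h1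
  -- `X' ≤ D`
  have hXD : commutator X ≤ D := by
    have hcard : Nat.card (X ⧸ D) = 2 ^ 2 := by
      rw [← Subgroup.index_eq_card, hDidx]; norm_num
    have hcomm : IsMulCommutative (X ⧸ D) := IsPGroup.isMulCommutative_of_card_eq_prime_sq hcard
    rw [_root_.commutator_def, Subgroup.commutator_le]
    intro x _ y _
    rw [← QuotientGroup.ker_mk' D, MonoidHom.mem_ker, map_commutatorElement,
      commutatorElement_eq_one_iff_mul_comm]
    exact hcomm.is_comm.comm _ _
  -- `Z(X) ≤ X'`
  have hXnormal : (commutator X).Normal := by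
    rw [_root_.commutator_def]; infer_instance
  have hXne : commutator X ≠ ⊥ := by
    intro h
    rw [commutator_eq_bot_iff_center_eq_top] at h
    have h1 : Nat.card (center X) = Nat.card X := by rw [h, card_top]
    rw [hZ, hX] at h1
    have h2 : 2 ^ 3 ≤ 2 ^ n := Nat.pow_le_pow_right (by norm_num) hn
    omega
  obtain ⟨z, hzX', hzc, hz1⟩ :=
    Cfsg.Agent.Lib.Helper32_PGroup.exists_mem_center_of_normal hPG (commutator X) hXne
  have hZX' : center X ≤ commutator X := by
    rw [eq_zpowers_of_card_two (center X) hZ z hzc hz1]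
    exact zpowers_le.mpr hzX'
  -- `a² ∈ X'`
  have haa : a * a ∈ commutator X := by
    have h1 : a * a = ⁅a, b⁆ * (b * a * b⁻¹ * a) := by
      rw [commutatorElement_def]; group
    rw [h1]
    apply mul_mem _ (hZX' hu)
    rw [_root_.commutator_def]
    exact commutator_mem_commutator (mem_top _) (mem_top _)
  have hDX : D ≤ commutator X := by
    rw [hD, zpowers_le]; exact haa
  have heq : commutator X = D := le_antisymm hXD hDX
  refine ⟨by rw [heq, hDidx], ?_⟩
  intro x
  by_cases hx : x ∈ zpowers a
  · obtain ⟨k, rfl⟩ := mem_zpowers_iff.mp hx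
    rw [heq, ← (Commute.refl a).mul_zpow]
    exact zpow_mem (mem_zpowers _) k
  · exact hZX' (sq_mem_center hidx hx)

/-- Quotienting by a subgroup equal to the centre lowers the class by one. -/
theorem class_quotient_of_eq_center {X : Type*} [Group X] (R : Subgroup X) [R.Normal]
    (h : R = center X) : Group.nilpotencyClass (X ⧸ R) = Group.nilpotencyClass X - 1 := by
  subst h
  exact Group.nilpotencyClass_quotient_center

/-- **Taussky**: a group of order `2 ^ n`, `3 ≤ n`, whose commutator subgroup has index four is of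
maximal class. -/
theorem taussky : ∀ (n : ℕ) (X : Type u) [Group X] [Finite X], 3 ≤ n →
    Nat.card X = 2 ^ n → (commutator X).index = 4 → Group.nilpotencyClass X = n - 1 := by
  intro n
  induction n with
  | zero => intro X _ _ h; omega
  | succ n ih =>
  intro X _ _ hn hX hidx
  have : Fact (Nat.Prime 2) := ⟨Nat.prime_two⟩
  have hPG : IsPGroup 2 X := IsPGroup.of_card hX
  have hnil : Group.IsNilpotent X := hPG.isNilpotent
  have h8 : 2 ^ 3 ≤ 2 ^ (n + 1) := Nat.pow_le_pow_right (by norm_num) hn
  -- `X` is not abelian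
  have hXne : commutator X ≠ ⊥ := by
    intro h
    rw [h, index_bot, hX] at hidx
    omega
  have hna : ∃ x y : X, x * y ≠ y * x := by
    by_contra hcon
    push Not at hcon
    apply hXne
    rw [commutator_eq_bot_iff_center_eq_top, eq_top_iff]
    intro x _
    rw [mem_center_iff]
    intro g
    exact hcon g x
  have hclass2 : 2 ≤ Group.nilpotencyClass X := by
    by_contra hlt
    push Not at hlt
    have h1 : Group.nilpotencyClass X ≤ 1 := by omega
    rw [← Subgroup.upperCentralSeries_eq_top_iff_nilpotencyClass_le,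
      Subgroup.upperCentralSeries_one, ← commutator_eq_bot_iff_center_eq_top] at h1
    exact hXne h1
  rcases Nat.lt_or_ge n 3 with hlt | hge
  · have hn2 : n = 2 := by omega
    subst hn2
    have := class_le 2 3 X hX (by norm_num)
    omega
  · -- a central subgroup of order two inside `X'`
    have hXnormal : (commutator X).Normal := by
      rw [_root_.commutator_def]; infer_instance
    obtain ⟨z, hzX', hzc, hz1⟩ :=
      Cfsg.Agent.Lib.Helper32_PGroup.exists_mem_center_of_normal hPG (commutator X) hXne
    obtain ⟨k, hk⟩ := hPG.exists_orderOf_eq_pow z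
    have hk0 : k ≠ 0 := by
      rintro rfl
      rw [pow_zero, orderOf_eq_one_iff] at hk
      exact hz1 hk
    obtain ⟨j, rfl⟩ := Nat.exists_eq_succ_of_ne_zero hk0
    set r := z ^ (2 ^ j) with hr
    have hrr : r ^ 2 = 1 := by
      rw [hr, ← pow_mul, ← pow_succ, ← hk]
      exact pow_orderOf_eq_one z
    have hr1 : r ≠ 1 := by
      intro h1
      rw [hr] at h1
      have hdvd := orderOf_dvd_of_pow_eq_one h1
      rw [hk] at hdvd
      have := (Nat.pow_dvd_pow_iff_le_right (by norm_num : 1 < 2)).mp hdvd
      omega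
    have hrX' : r ∈ commutator X := pow_mem hzX' _
    have hrc : r ∈ center X := pow_mem hzc _
    set R : Subgroup X := zpowers r with hR
    have hRcard : Nat.card R = 2 := by
      rw [hR, Nat.card_zpowers]
      exact orderOf_eq_prime hrr hr1
    have hRc : R ≤ center X := zpowers_le.mpr hrc
    have hRX' : R ≤ commutator X := zpowers_le.mpr hrX'
    have hRnormal : R.Normal := Cfsg.Agent.Lib.Helper32_PGroup.normal_of_le_center R hRc
    -- the quotient
    set π := QuotientGroup.mk' R with hπ
    have hπsurj : Function.Surjective π := QuotientGroup.mk'_surjective _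
    have hkerπ : π.ker = R := QuotientGroup.ker_mk' _
    have hQcard : Nat.card (X ⧸ R) = 2 ^ n := by
      have h1 := card_eq_card_quotient_mul_card_subgroup R
      rw [hX, hRcard, pow_succ] at h1
      exact (Nat.eq_of_mul_eq_mul_right (by norm_num) h1).symm
    have hQcomm : commutator (X ⧸ R) = (commutator X).map π := by
      rw [_root_.commutator_def, _root_.commutator_def, map_commutator, ← MonoidHom.range_eq_map,
        MonoidHom.range_eq_top_of_surjective π hπsurj]
    have hQidx : (commutator (X ⧸ R)).index = 4 := by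
      rw [hQcomm, index_map_eq _ hπsurj (by rw [hkerπ]; exact hRX'), hidx]
    have hQclass : Group.nilpotencyClass (X ⧸ R) = n - 1 := ih (X ⧸ R) hge hQcard hQidx
    obtain ⟨C', hC'cyc, hC'idx⟩ := exists_cyclic_index_two n (X ⧸ R) hge hQcard hQclass
    set T : Subgroup X := C'.comap π with hT
    have hTidx : T.index = 2 := by
      rw [hT, index_comap_of_surjective C' hπsurj, hC'idx]
    obtain ⟨⟨g', hg'C⟩, hg'⟩ := hC'cyc.exists_generator
    obtain ⟨t, rfl⟩ := hπsurj g'
    have hTdecomp : ∀ u ∈ T, ∃ z ∈ R, ∃ k : ℤ, u = z * t ^ k := by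
      intro u hu
      have hu' := hg' ⟨π u, hu⟩
      obtain ⟨k, hk⟩ := mem_zpowers_iff.mp hu'
      have hk' : (π t) ^ k = π u := by simpa using congrArg Subtype.val hk
      refine ⟨u * (t ^ k)⁻¹, ?_, k, by group⟩
      rw [← hkerπ, MonoidHom.mem_ker, map_mul, map_inv, map_zpow, hk', mul_inv_cancel]
    have hTc : ∀ u ∈ T, ∀ v ∈ T, u * v = v * u := by
      intro u hu v hv
      obtain ⟨z₁, hz₁, k, rfl⟩ := hTdecomp u hu
      obtain ⟨z₂, hz₂, l, rfl⟩ := hTdecomp v hv
      have h1 : ∀ g : X, g * z₁ = z₁ * g := fun g => mem_center_iff.mp (hRc hz₁) g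
      have h2 : ∀ g : X, g * z₂ = z₂ * g := fun g => mem_center_iff.mp (hRc hz₂) g
      calc z₁ * t ^ k * (z₂ * t ^ l) = z₁ * (t ^ k * z₂) * t ^ l := by group
        _ = z₁ * (z₂ * t ^ k) * t ^ l := by rw [h2]
        _ = (z₁ * z₂) * (t ^ k * t ^ l) := by group
        _ = (z₂ * z₁) * (t ^ l * t ^ k) := by
            rw [h2 z₁, ← zpow_add, ← zpow_add, add_comm]
        _ = z₂ * (z₁ * t ^ l) * t ^ k := by group
        _ = z₂ * (t ^ l * z₁) * t ^ k := by rw [h1]
        _ = z₂ * t ^ l * (z₁ * t ^ k) := by group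
    have hB := Cfsg.Agent.Lib.Helper2_AbelianIndexTwo.card_center_mul_card_commutator T hTidx hTc hna
    have hTcard : Nat.card T = 2 ^ n := by
      have h1 := T.card_mul_index
      rw [hTidx, hX, pow_succ] at h1
      exact Nat.eq_of_mul_eq_mul_right (by norm_num) h1
    have hX'card : Nat.card (commutator X) = 2 ^ (n - 1) := by
      have h1 := (commutator X).card_mul_index
      rw [hidx, hX] at h1
      have h2 : (2 : ℕ) ^ (n + 1) = 2 ^ (n - 1) * 4 := by
        have : (4 : ℕ) = 2 ^ 2 := by norm_num
        rw [this, ← pow_add]; congr 1; omega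
      rw [h2] at h1
      exact Nat.eq_of_mul_eq_mul_right (by norm_num) h1
    have hZcard : Nat.card (center X) = 2 := by
      rw [hTcard, hX'card] at hB
      have h2 : (2 : ℕ) ^ n = 2 * 2 ^ (n - 1) := by
        rw [← pow_succ']; congr 1; omega
      rw [h2] at hB
      exact Nat.eq_of_mul_eq_mul_right (pow_pos (by norm_num) _) hB
    have hReq : R = center X := eq_of_le_of_card_ge hRc (by rw [hZcard, hRcard])
    have := class_quotient_of_eq_center R hReq
    rw [hQclass] at this
    omega

end Cfsg.Agent.Lib.Helper2_TwoMaxClass
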