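import Mathlib
import Cfsg.Prelude.Def_Solvable
import Cfsg.Prelude.Def_CaseTheorems

/-!
# S3390 (Magaard–Waldecker: Sylow 2-structure in fixity 2): shared definitions (architect helper56)

* `Fix2 G Ω`  : elementwise form of "every nonidentity element fixes at most two points"
* `stabIn S ω`: the stabilizer of `ω` in the subgroup `S`, as a subgroup of `G`
* `Pic S α β` : the local picture when `T = S_α` is nontrivial and proper in the 2-group `S`:
  `T` fixes exactly `α, β`, `S_β = T`, `N_S(T) = T ∪ wT` with `w` swapping `α, β`.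
-/

set_option autoImplicit false

namespace Cfsg.Agent.Lib.Helper56_S3390Defs

/-- elementwise form of "every nonidentity element fixes at most two points" -/
def Fix2 (G : Type*) [Group G] (Ω : Type*) [MulAction G Ω] : Prop :=
  ∀ g : G, g ≠ 1 → ∀ a b c : Ω, g • a = a → g • b = b → g • c = c → a = b ∨ a = c ∨ b = c

variable {G : Type*} [Group G] {Ω : Type*} [MulAction G Ω]

/-- the stabilizer of `ω` in the subgroup `S`, as a subgroup of `G` -/
abbrev stabIn (S : Subgroup G) (ω : Ω) : Subgroup G := S ⊓ MulAction.stabilizer G ω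

/-- The local picture for a point `α` whose stabilizer `T = S_α` in the 2-group `S` is neither
trivial nor all of `S`; `β` is the second fixed point of `T`. -/
structure Pic (S : Subgroup G) (α β : Ω) : Prop where
  ne : α ≠ β
  Tne : stabIn S α ≠ ⊥
  stab_eq : stabIn S β = stabIn S α
  fixT : ∀ t ∈ stabIn S α, t ≠ 1 → ∀ ω : Ω, t • ω = ω → ω = α ∨ ω = β
  norm : ∀ x ∈ S, (∀ t ∈ stabIn S α, x * t * x⁻¹ ∈ stabIn S α) → x ∈ stabIn S α ∨ x • α = β
  swap : ∃ w ∈ S, w • α = β ∧ ∀ t ∈ stabIn S α, w * t * w⁻¹ ∈ stabIn S α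
  normcard : Nat.card ↥(S ⊓ Subgroup.normalizer ((stabIn S α : Subgroup G) : Set G)) =
    2 * Nat.card ↥(stabIn S α)

end Cfsg.Agent.Lib.Helper56_S3390Defs
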