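import Cfsg.Agent.Lib.Helper2_TwoMaxClass

/-!
# 2-groups of maximal class: generators (helper2)

* `central_of_commute`: if `⟨a⟩` has index two, `b ∉ ⟨a⟩`, and `g` commutes with `a` and `b`, then
  `g` is central.
* `maxClass_structure`: a 2-group of order `2 ^ n`, `3 ≤ n`, of class `n - 1` has elements `a`, `b`
  with `a` of order `2 ^ (n - 1)`, `b ∉ ⟨a⟩`, `Z(X) ≤ ⟨a⟩`, `b² ∈ Z(X)` and `b a b⁻¹ a ∈ Z(X)`.
-/

set_option autoImplicit false

namespace Cfsg.Agent.Lib.Helper2_TwoMaxClass

open Subgroup Cfsg.Agent.Lib.Helper2_MaxClass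

universe u

/-- If `⟨a⟩` has index two and `b ∉ ⟨a⟩`, every element is `a ^ k` or `b * a ^ k`. -/
theorem cases_of_index_two {X : Type*} [Group X] {a b : X} (hidx : (zpowers a).index = 2)
    (hb : b ∉ zpowers a) (x : X) : (∃ k : ℤ, x = a ^ k) ∨ (∃ k : ℤ, x = b * a ^ k) := by
  by_cases hx : x ∈ zpowers a
  · left
    obtain ⟨k, hk⟩ := mem_zpowers_iff.mp hx
    exact ⟨k, hk.symm⟩
  · right
    have h1 : b⁻¹ * x ∈ zpowers a := by
      rw [mul_mem_iff_of_index_two hidx, inv_mem_iff]
      exact ⟨fun h => absurd h hb, fun h => absurd h hx⟩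
    obtain ⟨k, hk⟩ := mem_zpowers_iff.mp h1
    exact ⟨k, by rw [hk]; group⟩

/-- If `⟨a⟩` has index two, `b ∉ ⟨a⟩`, and `g` commutes with `a` and `b`, then `g` is central. -/
theorem central_of_commute {X : Type*} [Group X] {a b g : X} (hidx : (zpowers a).index = 2)
    (hb : b ∉ zpowers a) (hga : Commute g a) (hgb : Commute g b) : g ∈ center X := by
  rw [mem_center_iff]
  intro x
  rcases cases_of_index_two hidx hb x with ⟨k, rfl⟩ | ⟨k, rfl⟩
  · exact ((hga.zpow_right k).eq).symm
  · exact ((hgb.mul_right (hga.zpow_right k)).eq).symm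

/-- Generators of a 2-group of maximal class. -/
theorem maxClass_structure {X : Type u} [Group X] [Finite X] (n : ℕ) (hn : 3 ≤ n)
    (hX : Nat.card X = 2 ^ n) (hc : Group.nilpotencyClass X = n - 1) :
    ∃ a b : X, orderOf a = 2 ^ (n - 1) ∧ (zpowers a).index = 2 ∧ b ∉ zpowers a ∧
      center X ≤ zpowers a ∧ b * b ∈ center X ∧ b * a * b⁻¹ * a ∈ center X := by
  have : Fact (Nat.Prime 2) := ⟨Nat.prime_two⟩
  obtain ⟨C, hCcyc, hCidx⟩ := exists_cyclic_index_two n X hn hX hc
  obtain ⟨hZ, hQ, hQc⟩ := maxClass_center hX hn hc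
  obtain ⟨⟨a, haC⟩, ha⟩ := hCcyc.exists_generator
  have hCeq : C = zpowers a := by
    apply le_antisymm
    · intro y hy
      have := ha ⟨y, hy⟩
      rw [mem_zpowers_iff] at this ⊢
      obtain ⟨k, hk⟩ := this
      exact ⟨k, by simpa using congrArg Subtype.val hk⟩
    · exact zpowers_le.mpr haC
  subst hCeq
  have hCcard : Nat.card (zpowers a) = 2 ^ (n - 1) := by
    have h1 := (zpowers a).card_mul_index
    rw [hCidx, hX] at h1
    have h2 : 2 ^ n = 2 ^ (n - 1) * 2 := by
      rw [← pow_succ]; congr 1; omega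
    rw [h2] at h1
    exact Nat.eq_of_mul_eq_mul_right (by norm_num) h1
  have hord : orderOf a = 2 ^ (n - 1) := by rw [← Nat.card_zpowers, hCcard]
  -- an element outside `⟨a⟩`
  obtain ⟨b, hb⟩ : ∃ b : X, b ∉ zpowers a := by
    by_contra hcon
    push Not at hcon
    have : zpowers a = ⊤ := eq_top_iff.mpr (fun x _ => hcon x)
    rw [this, index_top] at hCidx
    omega
  have hCnormal : (zpowers a).Normal := normal_of_index_eq_two hCidx
  -- the centre lies in `⟨a⟩`
  have hZC : center X ≤ zpowers a := by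
    intro z hz
    by_contra hzC
    have hza : Commute z a := (mem_center_iff.mp hz a).symm
    have haz : a ∈ center X := by
      apply central_of_commute hCidx hzC (Commute.refl a)
      exact hza.symm
    have hle : zpowers a ≤ center X := zpowers_le.mpr haz
    have h1 := card_le_of_le hle
    rw [hCcard, hZ] at h1
    have h2 : 2 ^ 2 ≤ 2 ^ (n - 1) := Nat.pow_le_pow_right (by norm_num) (by omega)
    omega
  have hbb : b * b ∈ center X := by
    have h1 : b * b ∈ zpowers a := mul_self_mem_of_index_two hCidx b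
    obtain ⟨k, hk⟩ := mem_zpowers_iff.mp h1
    apply central_of_commute hCidx hb
    · rw [← hk]
      exact (Commute.refl a).zpow_left k
    · exact (Commute.refl b).mul_left (Commute.refl b)
  refine ⟨a, b, hord, hCidx, hb, hZC, hbb, ?_⟩
  have h1 : b * a * b⁻¹ ∈ zpowers a := hCnormal.conj_mem a (mem_zpowers a) b
  obtain ⟨k, hk⟩ := mem_zpowers_iff.mp h1
  apply central_of_commute hCidx hb
  · rw [← hk]
    exact ((Commute.refl a).zpow_left k).mul_left (Commute.refl a)
  · -- conjugating by `b`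
    have hbbc : ∀ g : X, g * (b * b) = (b * b) * g := fun g => mem_center_iff.mp hbb g
    have h2 : Commute (b * a * b⁻¹) a := by
      rw [← hk]; exact (Commute.refl a).zpow_left k
    have h3 : b * (b * a * b⁻¹ * a) * b⁻¹ = b * a * b⁻¹ * a := by
      calc b * (b * a * b⁻¹ * a) * b⁻¹ = (b * b) * a * (b * b)⁻¹ * (b * a * b⁻¹) := by group
        _ = a * (b * a * b⁻¹) := by
            rw [← hbbc a, mul_assoc a, mul_inv_cancel, mul_one]
        _ = b * a * b⁻¹ * a := h2.eq.symm
    have h4 : b * (b * a * b⁻¹ * a) = (b * a * b⁻¹ * a) * b := by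
      calc b * (b * a * b⁻¹ * a) = b * (b * a * b⁻¹ * a) * b⁻¹ * b := by group
        _ = (b * a * b⁻¹ * a) * b := by rw [h3]
    exact h4.symm

end Cfsg.Agent.Lib.Helper2_TwoMaxClass
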