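import Mathlib.GroupTheory.SpecificGroups.Cyclic
import Mathlib.GroupTheory.SpecificGroups.Quaternion
import Mathlib.GroupTheory.PGroup
import Mathlib.GroupTheory.Sylow
import Mathlib.GroupTheory.Index
import Mathlib.GroupTheory.GroupAction.ConjAct
import Mathlib.GroupTheory.Perm.Cycle.Type
import Mathlib.Data.ZMod.Basic

/-!
# Finite 2-groups with a unique involution (helper50)

Pieces for: a finite 2-group with a unique involution is cyclic or generalized quaternion.
-/

set_option autoImplicit false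

namespace Cfsg.Agent.Lib.Helper50_UniqueInv

section Cyclic

variable {A : Type*} [Group A] [Finite A] [IsCyclic A]

/-- In a finite cyclic group, the number of solutions of `x ^ n = 1` is at most `n`. -/
theorem ncard_pow_eq_one_le {n : ℕ} (hn : 0 < n) : {a : A | a ^ n = 1}.ncard ≤ n := by
  classical
  have : Fintype A := Fintype.ofFinite A
  have h := IsCyclic.card_pow_eq_one_le (α := A) hn
  have h2 : {a : A | a ^ n = 1}.ncard = (Finset.univ.filter (fun a : A => a ^ n = 1)).card := by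
    rw [← Set.ncard_coe_finset]
    congr 1
    ext a
    simp
  rw [h2]
  exact h

/-- In a finite cyclic group a subgroup is exactly the set of solutions of `x ^ |K| = 1`. -/
theorem mem_of_pow_card_eq_one (K : Subgroup A) {g : A} (hg : g ^ Nat.card K = 1) : g ∈ K := by
  classical
  have hpos : 0 < Nat.card K := Nat.card_pos
  have h1 : {a : A | a ^ Nat.card K = 1}.ncard ≤ Nat.card K := ncard_pow_eq_one_le hpos
  have hsub : (K : Set A) ⊆ {a : A | a ^ Nat.card K = 1} := by
    intro k hk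
    have : (⟨k, hk⟩ : K) ^ Nat.card K = 1 := pow_card_eq_one'
    exact congrArg Subtype.val this
  have hfin : {a : A | a ^ Nat.card K = 1}.Finite := Set.toFinite _
  have h2 : (K : Set A).ncard = Nat.card K := by
    rw [← Nat.card_coe_set_eq]; rfl
  have heq : (K : Set A) = {a : A | a ^ Nat.card K = 1} :=
    Set.eq_of_subset_of_ncard_le hsub (by rw [h2]; exact h1) hfin
  have : g ∈ {a : A | a ^ Nat.card K = 1} := hg
  rw [← heq] at this
  exact this

theorem le_of_card_dvd (H K : Subgroup A) (h : Nat.card H ∣ Nat.card K) : H ≤ K := by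
  intro g hg
  apply mem_of_pow_card_eq_one
  obtain ⟨m, hm⟩ := h
  have : (⟨g, hg⟩ : H) ^ Nat.card H = 1 := pow_card_eq_one'
  have h1 : g ^ Nat.card H = 1 := congrArg Subtype.val this
  rw [hm, pow_mul, h1, one_pow]

theorem comm_of_isCyclic (a b : A) : a * b = b * a :=
  (IsCyclic.isMulCommutative (α := A)).is_comm.comm a b

theorem le_or_lt_of_isPGroup {p : ℕ} [Fact p.Prime] (hA : IsPGroup p A) (H K : Subgroup A) :
    H ≤ K ∨ K < H := by
  obtain ⟨i, hi⟩ := (hA.to_subgroup H).exists_card_eq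
  obtain ⟨j, hj⟩ := (hA.to_subgroup K).exists_card_eq
  rcases le_or_gt i j with h | h
  · left
    apply le_of_card_dvd
    rw [hi, hj]
    exact pow_dvd_pow p h
  · right
    have hle : K ≤ H := by
      apply le_of_card_dvd
      rw [hi, hj]
      exact pow_dvd_pow p h.le
    refine lt_of_le_of_ne hle ?_
    intro heq
    rw [heq, hi] at hj
    have hp : 1 < p := (Fact.out : p.Prime).one_lt
    exact absurd (Nat.pow_right_injective hp hj) (ne_of_gt h)

end Cyclic

theorem two_mul_card_le_of_lt {G : Type*} [Group G] [Finite G] {H K : Subgroup G} (h : H < K) :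
    2 * Nat.card H ≤ Nat.card K := by
  obtain ⟨m, hm⟩ := Subgroup.card_dvd_of_le h.le
  have hKpos : 0 < Nat.card K := Nat.card_pos
  have hHpos : 0 < Nat.card H := Nat.card_pos
  have hm1 : m ≠ 1 := by
    intro h1
    rw [h1, mul_one] at hm
    exact absurd (Subgroup.eq_of_le_of_card_ge h.le hm.le) (ne_of_lt h)
  have hm0 : m ≠ 0 := by
    intro h0
    rw [h0, mul_zero] at hm
    omega
  have : 2 ≤ m := by omega
  rw [hm, mul_comm]
  exact Nat.mul_le_mul_left _ this

section Endo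

variable {A : Type*} [Group A] [Finite A] [IsCyclic A]

/-- the homomorphism `c ↦ φ c * c` on a cyclic group -/
noncomputable def psi (φ : A →* A) : A →* A :=
  MonoidHom.mk' (fun c => φ c * c) (by
    intro a b
    show φ (a * b) * (a * b) = φ a * a * (φ b * b)
    rw [map_mul, mul_assoc, mul_assoc]
    congr 1
    rw [← mul_assoc, ← mul_assoc, comm_of_isCyclic (φ b) a])

theorem psi_apply (φ : A →* A) (c : A) : psi φ c = φ c * c := rfl

/-- Key lemma: a cyclic `2`-group `A`, an endomorphism `φ` fixing `s`, moving something,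
such that `φ c * c * s` is never `1`.  Then `s` is an involution and `φ` is inversion. -/
theorem endo_lemma (hA : IsPGroup 2 A) (φ : A →* A) (s : A) (hs : φ s = s)
    (h1 : ∀ c : A, φ c * c * s ≠ 1) (h2 : ∃ c : A, φ c ≠ c) :
    s ≠ 1 ∧ s ^ 2 = 1 ∧ ∀ c : A, φ c = c⁻¹ := by
  have hs1 : s ≠ 1 := by
    intro h
    have := h1 1
    rw [map_one, one_mul, one_mul] at this
    exact this h
  -- `s ∉ range ψ`
  have hsr : s ∉ (psi φ).range := by
    rintro ⟨c, hc⟩
    have hinv : psi φ c⁻¹ = s⁻¹ := by rw [map_inv, hc]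
    rw [psi_apply] at hinv
    apply h1 c⁻¹
    rw [hinv, inv_mul_cancel]
  -- chain
  have hlt1 : (psi φ).range < Subgroup.zpowers s := by
    rcases le_or_lt_of_isPGroup hA (Subgroup.zpowers s) (psi φ).range with h | h
    · exact absurd (h (Subgroup.mem_zpowers s)) hsr
    · exact h
  have hphi_fix : ∀ c ∈ Subgroup.zpowers s, φ c = c := by
    intro c hc
    obtain ⟨k, rfl⟩ := Subgroup.mem_zpowers_iff.mp hc
    rw [map_zpow, hs]
  have hlt2 : Subgroup.zpowers s < ⊤ := by
    refine lt_of_le_of_ne le_top ?_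
    intro h
    obtain ⟨c, hc⟩ := h2
    exact hc (hphi_fix c (h ▸ Subgroup.mem_top c))
  -- cardinalities
  have hc1 := two_mul_card_le_of_lt hlt1
  have hc2 := two_mul_card_le_of_lt hlt2
  have hc3 : Nat.card (psi φ).ker * Nat.card (psi φ).range = Nat.card A := by
    rw [← Subgroup.index_ker, Subgroup.card_mul_index]
  have hc4 : Nat.card (⊤ : Subgroup A) = Nat.card A := Subgroup.card_top
  have hrpos : 0 < Nat.card (psi φ).range := Nat.card_pos
  have hker4 : 4 ≤ Nat.card (psi φ).ker := by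
    by_contra hlt
    push Not at hlt
    have : Nat.card (psi φ).ker * Nat.card (psi φ).range ≤ 3 * Nat.card (psi φ).range :=
      Nat.mul_le_mul_right _ (by omega)
    omega
  -- subgroup of order 4 in the kernel
  obtain ⟨k, hk⟩ := (hA.to_subgroup (psi φ).ker).exists_card_eq
  have hk2 : 2 ≤ k := by
    by_contra hlt
    push Not at hlt
    have : k = 0 ∨ k = 1 := by omega
    rcases this with rfl | rfl <;> omega
  have hdvd : 2 ^ 2 ∣ Nat.card (psi φ).ker := by
    rw [hk]; exact pow_dvd_pow 2 hk2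
  obtain ⟨F', hF'⟩ := Sylow.exists_subgroup_card_pow_prime 2 hdvd
  let F : Subgroup A := F'.map (psi φ).ker.subtype
  have hFcard : Nat.card F = 4 := by
    rw [Subgroup.card_map_of_injective (Subgroup.subtype_injective _), hF']; norm_num
  have hFker : F ≤ (psi φ).ker := Subgroup.map_subtype_le F'
  have hFinv : ∀ c ∈ F, φ c = c⁻¹ := by
    intro c hc
    have := hFker hc
    rw [MonoidHom.mem_ker, psi_apply] at this
    exact eq_inv_of_mul_eq_one_left this
  -- `F` is not inside `zpowers s`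
  have hlt3 : Subgroup.zpowers s < F := by
    rcases le_or_lt_of_isPGroup hA F (Subgroup.zpowers s) with h | h
    · exfalso
      have hsq : ∀ c ∈ F, c ^ 2 = 1 := by
        intro c hc
        have e1 := hFinv c hc
        have e2 := hphi_fix c (h hc)
        rw [e2] at e1
        rw [pow_two]
        nth_rewrite 1 [e1]
        exact inv_mul_cancel c
      have hsub : (F : Set A) ⊆ {a : A | a ^ 2 = 1} := fun c hc => hsq c hc
      have hn1 : (F : Set A).ncard ≤ {a : A | a ^ 2 = 1}.ncard :=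
        Set.ncard_le_ncard hsub (Set.toFinite _)
      have hn2 : {a : A | a ^ 2 = 1}.ncard ≤ 2 := ncard_pow_eq_one_le (by norm_num)
      have hn3 : (F : Set A).ncard = Nat.card F := by
        rw [← Nat.card_coe_set_eq]; rfl
      omega
    · exact h
  have hc5 := two_mul_card_le_of_lt hlt3
  have hzs : Nat.card (Subgroup.zpowers s) ≤ 2 := by omega
  have hs2 : s ^ 2 = 1 := by
    rw [Nat.card_zpowers] at hzs
    have hpos : 0 < orderOf s := orderOf_pos s
    have : orderOf s = 1 ∨ orderOf s = 2 := by omega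
    rcases this with h | h
    · rw [orderOf_eq_one_iff] at h; exact absurd h hs1
    · rw [← h]; exact pow_orderOf_eq_one s
  refine ⟨hs1, hs2, ?_⟩
  have hr1 : Nat.card (psi φ).range = 1 := by omega
  intro c
  have hmem : psi φ c ∈ (psi φ).range := ⟨c, rfl⟩
  have hbot : (psi φ).range = ⊥ := Subgroup.card_eq_one.mp hr1
  rw [hbot, Subgroup.mem_bot, psi_apply] at hmem
  exact eq_inv_of_mul_eq_one_left hmem

end Endo

section InP

variable {P : Type*} [Group P] [Finite P]

/-- Uniqueness of involutions, elementwise. -/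
def UniqueInvolution (P : Type*) [Group P] : Prop :=
  ∀ u v : P, u ^ 2 = 1 → v ^ 2 = 1 → u ≠ 1 → v ≠ 1 → u = v

/-- Step 2: `A` a normal cyclic `2`-subgroup, `x ∉ A` with `x² ∈ A` acting nontrivially on `A`,
in a group with a unique involution: then `x² ≠ 1`, `x⁴ = 1` and `x` inverts `A`. -/
theorem inverts_of_sq_mem (huniq : UniqueInvolution P) (A : Subgroup P) [A.Normal] [IsCyclic A]
    (hA : IsPGroup 2 A) (x : P) (hxA : x ∉ A) (hx2 : x ^ 2 ∈ A)
    (hnc : ∃ c ∈ A, x * c * x⁻¹ ≠ c) :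
    x ^ 2 ≠ 1 ∧ x ^ 4 = 1 ∧ ∀ c ∈ A, x * c * x⁻¹ = c⁻¹ := by
  -- an involution in `A`
  obtain ⟨c₀, hc₀A, hc₀⟩ := hnc
  have hAne : Nat.card A ≠ 1 := by
    intro h1
    have hbot : A = ⊥ := Subgroup.card_eq_one.mp h1
    rw [hbot, Subgroup.mem_bot] at hc₀A
    apply hc₀
    rw [hc₀A]; group
  have h2dvd : 2 ∣ Nat.card A := (hA.card_eq_or_dvd).resolve_left hAne
  obtain ⟨u, hu⟩ := exists_prime_orderOf_dvd_card' (G := A) 2 h2dvd
  have hu1 : (u : P) ≠ 1 := by
    intro h
    have : u = 1 := Subtype.ext h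
    rw [this, orderOf_one] at hu
    norm_num at hu
  have hu2 : (u : P) ^ 2 = 1 := by
    have : u ^ 2 = 1 := by rw [← hu]; exact pow_orderOf_eq_one u
    exact congrArg Subtype.val this
  let φ : A →* A := (MulAut.conjNormal x : MulAut A).toMonoidHom
  have hφ : ∀ c : A, ((φ c : A) : P) = x * c * x⁻¹ := fun c => MulAut.conjNormal_apply x c
  let s : A := ⟨x ^ 2, hx2⟩
  have hs : φ s = s := by
    apply Subtype.ext
    rw [hφ]
    show x * x ^ 2 * x⁻¹ = x ^ 2
    group
  have h1 : ∀ c : A, φ c * c * s ≠ 1 := by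
    intro c h
    have h' : x * (c : P) * x⁻¹ * c * x ^ 2 = 1 := by
      have := congrArg Subtype.val h
      simpa [hφ] using this
    have hcomm : (c : P) * x ^ 2 = x ^ 2 * c := by
      have : c * s = s * c := comm_of_isCyclic c s
      exact congrArg Subtype.val this
    have hsq : (x * c) ^ 2 = 1 := by
      rw [pow_two]
      calc x * c * (x * c) = x * c * x⁻¹ * (x ^ 2 * c) := by group
        _ = x * c * x⁻¹ * (c * x ^ 2) := by rw [hcomm]
        _ = x * c * x⁻¹ * c * x ^ 2 := by group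
        _ = 1 := h'
    by_cases hxc : x * (c : P) = 1
    · apply hxA
      have : x = (c : P)⁻¹ := eq_inv_of_mul_eq_one_left hxc
      rw [this]; exact A.inv_mem c.2
    · have := huniq (x * c) u hsq hu2 hxc hu1
      apply hxA
      have hx : x = u * (c : P)⁻¹ := by rw [← this]; group
      rw [hx]; exact A.mul_mem u.2 (A.inv_mem c.2)
  have h2 : ∃ c : A, φ c ≠ c := by
    refine ⟨⟨c₀, hc₀A⟩, ?_⟩
    intro h
    apply hc₀
    have := congrArg Subtype.val h
    rw [hφ] at this
    exact this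
  obtain ⟨r1, r2, r3⟩ := endo_lemma hA φ s hs h1 h2
  refine ⟨?_, ?_, ?_⟩
  · intro h
    apply r1
    exact Subtype.ext h
  · have := congrArg Subtype.val r2
    have h4 : (x ^ 2) ^ 2 = 1 := this
    rw [← pow_mul] at h4
    exact h4
  · intro c hc
    have := congrArg Subtype.val (r3 ⟨c, hc⟩)
    rw [hφ] at this
    exact this

theorem conj_eq_or_inv (huniq : UniqueInvolution P) (A : Subgroup P) [A.Normal] [IsCyclic A]
    (f : P) (hfA : f ∈ A) (hf2 : f ^ 2 ≠ 1) (hf4 : f ^ 4 = 1) (y : P) :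
    y * f * y⁻¹ = f ∨ y * f * y⁻¹ = f⁻¹ := by
  have hgA : y * f * y⁻¹ ∈ A := Subgroup.Normal.conj_mem inferInstance f hfA y
  have hg2 : (y * f * y⁻¹) ^ 2 = y * f ^ 2 * y⁻¹ := by rw [conj_pow]
  have hf22 : (f ^ 2) ^ 2 = 1 := by rw [← pow_mul]; exact hf4
  have hg22 : ((y * f * y⁻¹) ^ 2) ^ 2 = 1 := by
    rw [hg2, conj_pow, hf22]; group
  have hg21 : (y * f * y⁻¹) ^ 2 ≠ 1 := by
    rw [hg2]
    intro h
    apply hf2
    have : f ^ 2 = y⁻¹ * (y * f ^ 2 * y⁻¹) * y := by group
    rw [this, h]; group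
  have heq : (y * f * y⁻¹) ^ 2 = f ^ 2 := huniq _ _ hg22 hf22 hg21 hf2
  have hcomm : (y * f * y⁻¹) * f⁻¹ = f⁻¹ * (y * f * y⁻¹) := by
    have := comm_of_isCyclic (⟨y * f * y⁻¹, hgA⟩ : A) (⟨f, hfA⟩⁻¹ : A)
    exact congrArg Subtype.val this
  generalize y * f * y⁻¹ = g at *
  have hsq : (g * f⁻¹) ^ 2 = 1 := by
    rw [pow_two]
    calc g * f⁻¹ * (g * f⁻¹)
        = g * (f⁻¹ * g) * f⁻¹ := by group
      _ = g * (g * f⁻¹) * f⁻¹ := by rw [hcomm]
      _ = g ^ 2 * (f ^ 2)⁻¹ := by
        rw [pow_two, pow_two, mul_inv_rev]; simp only [mul_assoc]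
      _ = 1 := by rw [heq]; group
  by_cases h1 : g * f⁻¹ = 1
  · left
    exact mul_inv_eq_one.mp h1
  · right
    have := huniq _ _ hsq hf22 h1 hf2
    have h3 : g = f ^ 2 * f := by rw [← this]; group
    rw [h3]
    have : f ^ 2 * f * f = 1 := by
      rw [← hf4]; group
    exact eq_inv_of_mul_eq_one_left this

theorem sq_conj_eq (huniq : UniqueInvolution P) (A : Subgroup P) [A.Normal] [IsCyclic A]
    (f : P) (hfA : f ∈ A) (hf2 : f ^ 2 ≠ 1) (hf4 : f ^ 4 = 1) (y : P) :
    y ^ 2 * f * (y ^ 2)⁻¹ = f := by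
  have h : y ^ 2 * f * (y ^ 2)⁻¹ = y * (y * f * y⁻¹) * y⁻¹ := by
    rw [pow_two, mul_inv_rev]; simp only [mul_assoc]
  rw [h]
  rcases conj_eq_or_inv huniq A f hfA hf2 hf4 y with h1 | h1
  · rw [h1, h1]
  · rw [h1]
    have : y * f⁻¹ * y⁻¹ = (y * f * y⁻¹)⁻¹ := by group
    rw [this, h1, inv_inv]

theorem sq_mem_of_card_eq_two_mul {H K : Subgroup P} (hle : H ≤ K)
    (hcard : Nat.card K = 2 * Nat.card H) {w : P} (hw : w ∈ K) : w ^ 2 ∈ H := by
  have h1 : Nat.card (H.subgroupOf K) = Nat.card H :=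
    Nat.card_congr (Subgroup.subgroupOfEquivOfLe hle).toEquiv
  have h2 : Nat.card (H.subgroupOf K) * (H.subgroupOf K).index = Nat.card K :=
    Subgroup.card_mul_index _
  have hpos : 0 < Nat.card H := Nat.card_pos
  have h3 : (H.subgroupOf K).index = 2 := by
    rw [h1, hcard, mul_comm] at h2
    exact Nat.eq_of_mul_eq_mul_right hpos h2
  have := Subgroup.sq_mem_of_index_two h3 (⟨w, hw⟩ : K)
  exact Subgroup.mem_subgroupOf.mp this

/-- Step 1: a self-centralizing normal cyclic subgroup has index at most 2. -/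
theorem eq_top_or_index_eq_two (hP : IsPGroup 2 P) (huniq : UniqueInvolution P)
    (A : Subgroup P) [A.Normal] [IsCyclic A]
    (hcent : Subgroup.centralizer (A : Set P) ≤ A) : A = ⊤ ∨ A.index = 2 := by
  by_contra hcon
  rw [not_or] at hcon
  obtain ⟨hAtop, hAidx⟩ := hcon
  have hA : IsPGroup 2 A := hP.to_subgroup A
  obtain ⟨N, hN⟩ := hP.exists_card_eq
  obtain ⟨m, hm⟩ := hA.exists_card_eq
  have hidx : Nat.card A * A.index = Nat.card P := Subgroup.card_mul_index A
  have hmN : m ≤ N := by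
    have : Nat.card A ∣ Nat.card P := Subgroup.card_subgroup_dvd_card A
    rw [hm, hN] at this
    exact (Nat.pow_dvd_pow_iff_le_right (by norm_num)).mp this
  have hindex : A.index = 2 ^ (N - m) := by
    have h2 : (2 : ℕ) ^ N = 2 ^ m * 2 ^ (N - m) := by
      rw [← pow_add]; congr 1; omega
    rw [hm, hN, h2] at hidx
    exact Nat.eq_of_mul_eq_mul_left (by positivity) hidx
  have hm2 : m + 2 ≤ N := by
    by_contra hlt
    have : N - m = 0 ∨ N - m = 1 := by omega
    rcases this with h | h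
    · rw [h, pow_zero] at hindex
      exact hAtop (Subgroup.index_eq_one.mp hindex)
    · rw [h, pow_one] at hindex
      exact hAidx hindex
  -- elements outside `A` squaring into `A` invert `A`
  have hinv : ∀ y : P, y ∉ A → y ^ 2 ∈ A → ∀ c ∈ A, y * c * y⁻¹ = c⁻¹ := by
    intro y hy hy2
    have hnc : ∃ c ∈ A, y * c * y⁻¹ ≠ c := by
      by_contra hno
      push Not at hno
      apply hy
      apply hcent
      rw [Subgroup.mem_centralizer_iff]
      intro h hh
      have := hno h hh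
      calc h * y = (y * h * y⁻¹) * y := by rw [this]
        _ = y * h := by group
    exact (inverts_of_sq_mem huniq A hA y hy hy2 hnc).2.2
  -- the two subgroups
  have hdvd1 : 2 ^ (m + 1) ∣ Nat.card P := by
    rw [hN]; exact pow_dvd_pow 2 (by omega)
  obtain ⟨B₁, hB₁card, hAB₁⟩ := Sylow.exists_subgroup_card_pow_succ hdvd1 hm
  have hdvd2 : 2 ^ (m + 1 + 1) ∣ Nat.card P := by
    rw [hN]; exact pow_dvd_pow 2 (by omega)
  obtain ⟨B₂, hB₂card, hB₁B₂⟩ := Sylow.exists_subgroup_card_pow_succ hdvd2 hB₁card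
  have hcard1 : Nat.card B₁ = 2 * Nat.card A := by rw [hB₁card, hm, pow_succ]; ring
  have hcard2 : Nat.card B₂ = 2 * Nat.card B₁ := by rw [hB₂card, hB₁card, pow_succ]; ring
  have hlt1 : A < B₁ := by
    refine lt_of_le_of_ne hAB₁ ?_
    intro h
    rw [← h] at hcard1
    have : 0 < Nat.card A := Nat.card_pos
    omega
  have hlt2 : B₁ < B₂ := by
    refine lt_of_le_of_ne hB₁B₂ ?_
    intro h
    rw [← h] at hcard2
    have : 0 < Nat.card B₁ := Nat.card_pos
    omega
  obtain ⟨y₁, hy₁B, hy₁A⟩ := SetLike.exists_of_lt hlt1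
  obtain ⟨y₂, hy₂B, hy₂B₁⟩ := SetLike.exists_of_lt hlt2
  have hy₁sq : y₁ ^ 2 ∈ A := sq_mem_of_card_eq_two_mul hAB₁ hcard1 hy₁B
  have hy₁inv := hinv y₁ hy₁A hy₁sq
  -- an element of order 4 in `A`
  have hex : ∃ c ∈ A, c ^ 2 ≠ 1 := by
    by_contra hno
    push Not at hno
    apply hy₁A
    apply hcent
    rw [Subgroup.mem_centralizer_iff]
    intro h hh
    have h1 := hy₁inv h hh
    have h2 : h⁻¹ = h := by
      have := hno h hh
      rw [pow_two] at this
      exact (eq_inv_of_mul_eq_one_left this).symm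
    rw [h2] at h1
    calc h * y₁ = (y₁ * h * y₁⁻¹) * y₁ := by rw [h1]
      _ = y₁ * h := by group
  obtain ⟨c, hcA, hc2⟩ := hex
  have hexk : ∃ k : ℕ, c ^ 2 ^ k = 1 := hP c
  classical
  let k := Nat.find hexk
  have hk : c ^ 2 ^ k = 1 := Nat.find_spec hexk
  have hk0 : k ≠ 0 := by
    intro h0
    rw [h0, pow_zero, pow_one] at hk
    apply hc2; rw [hk, one_pow]
  have hk1 : k ≠ 1 := by
    intro h1
    rw [h1, pow_one] at hk
    exact hc2 hk
  have hkmin : c ^ 2 ^ (k - 1) ≠ 1 := Nat.find_min hexk (by omega : k - 1 < k)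
  let f := c ^ 2 ^ (k - 2)
  have hfA : f ∈ A := A.pow_mem hcA _
  have hf2 : f ^ 2 ≠ 1 := by
    show (c ^ 2 ^ (k - 2)) ^ 2 ≠ 1
    rw [← pow_mul, ← pow_succ]
    have : k - 2 + 1 = k - 1 := by omega
    rw [this]; exact hkmin
  have hf4 : f ^ 4 = 1 := by
    show (c ^ 2 ^ (k - 2)) ^ 4 = 1
    rw [← pow_mul]
    have : 2 ^ (k - 2) * 4 = 2 ^ k := by
      have h4 : (4 : ℕ) = 2 ^ 2 := by norm_num
      rw [h4, ← pow_add]; congr 1; omega
    rw [this]; exact hk
  -- the final case distinction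
  have hw : y₂ ^ 2 ∈ B₁ := sq_mem_of_card_eq_two_mul hB₁B₂ hcard2 hy₂B
  by_cases hwA : y₂ ^ 2 ∈ A
  · have hy₂A : y₂ ∉ A := fun h => hy₂B₁ (hAB₁ h)
    have hy₂inv := hinv y₂ hy₂A hwA
    have hprod : y₁ * y₂ ∈ A := by
      apply hcent
      rw [Subgroup.mem_centralizer_iff]
      intro h hh
      have e1 := hy₂inv h hh
      have e2 := hy₁inv h⁻¹ (A.inv_mem hh)
      rw [inv_inv] at e2
      calc h * (y₁ * y₂) = (y₁ * (y₂ * h * y₂⁻¹) * y₁⁻¹) * (y₁ * y₂) := by rw [e1, e2]
        _ = y₁ * y₂ * h := by group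
    apply hy₂B₁
    have : y₂ = y₁⁻¹ * (y₁ * y₂) := by group
    rw [this]
    exact B₁.mul_mem (B₁.inv_mem hy₁B) (hAB₁ hprod)
  · have hw2 : (y₂ ^ 2) ^ 2 ∈ A := sq_mem_of_card_eq_two_mul hAB₁ hcard1 hw
    have e1 := hinv (y₂ ^ 2) hwA hw2 f hfA
    have e2 := sq_conj_eq huniq A f hfA hf2 hf4 y₂
    rw [e2] at e1
    apply hf2
    rw [pow_two]
    nth_rewrite 1 [e1]
    exact inv_mul_cancel f

end InP

section Recognition

variable {P : Type*} [Group P]

/-- `i ↦ a ^ i` as an additive hom from `ZMod (2n)` when `a^(2n) = 1`. -/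
noncomputable def zpAdd (n : ℕ) (a : P) (ha : a ^ (2 * n) = 1) : ZMod (2 * n) →+ Additive P :=
  ZMod.lift (2 * n) ⟨zmultiplesHom (Additive P) (Additive.ofMul a), by
    show ((2 * n : ℕ) : ℤ) • Additive.ofMul a = 0
    rw [natCast_zsmul, ← ofMul_pow, ha]; rfl⟩

/-- `i ↦ a ^ i` on `ZMod (2n)`. -/
noncomputable def zpm (n : ℕ) (a : P) (ha : a ^ (2 * n) = 1) (i : ZMod (2 * n)) : P :=
  Additive.toMul (zpAdd n a ha i)

variable (n : ℕ) (a : P) (ha : a ^ (2 * n) = 1)

theorem zpm_add (i j : ZMod (2 * n)) : zpm n a ha (i + j) = zpm n a ha i * zpm n a ha j := by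
  unfold zpm; rw [map_add]; rfl

theorem zpm_neg (i : ZMod (2 * n)) : zpm n a ha (-i) = (zpm n a ha i)⁻¹ := by
  unfold zpm; rw [map_neg]; rfl

theorem zpm_zero : zpm n a ha 0 = 1 := by
  unfold zpm; rw [map_zero]; rfl

theorem zpm_intCast (k : ℤ) : zpm n a ha (k : ZMod (2 * n)) = a ^ k := by
  unfold zpm zpAdd
  rw [ZMod.lift_coe]
  show Additive.toMul (k • Additive.ofMul a) = a ^ k
  rfl

theorem zpm_natCast (k : ℕ) : zpm n a ha (k : ZMod (2 * n)) = a ^ k := by
  have := zpm_intCast n a ha (k : ℤ)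
  rw [Int.cast_natCast, zpow_natCast] at this
  exact this

theorem zpm_eq_zpow (i : ZMod (2 * n)) : ∃ k : ℤ, zpm n a ha i = a ^ k := by
  refine ⟨(ZMod.cast i : ℤ), ?_⟩
  have := zpm_intCast n a ha (ZMod.cast i : ℤ)
  rw [ZMod.intCast_zmod_cast] at this
  exact this

theorem zpm_mul_x (x : P) (hxa : x * a * x⁻¹ = a⁻¹) (i : ZMod (2 * n)) :
    zpm n a ha i * x = x * (zpm n a ha i)⁻¹ := by
  obtain ⟨k, hk⟩ := zpm_eq_zpow n a ha i
  rw [hk]
  have h1 : x * a ^ (-k) * x⁻¹ = (a⁻¹) ^ (-k) := by rw [← conj_zpow, hxa]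
  rw [inv_zpow, zpow_neg, inv_inv] at h1
  calc a ^ k * x = (x * (a ^ k)⁻¹ * x⁻¹) * x := by rw [h1]
    _ = x * (a ^ k)⁻¹ := by group

/-- The candidate isomorphism from the quaternion group. -/
noncomputable def qmap (x : P) : QuaternionGroup n → P
  | QuaternionGroup.a i => zpm n a ha i
  | QuaternionGroup.xa i => x * zpm n a ha i

theorem qmap_mul (x : P) (hx : x ^ 2 = a ^ n) (hxa : x * a * x⁻¹ = a⁻¹)
    (q r : QuaternionGroup n) :
    qmap n a ha x (q * r) = qmap n a ha x q * qmap n a ha x r := by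
  rcases q with i | i <;> rcases r with j | j
  · simp only [QuaternionGroup.a_mul_a, qmap, zpm_add]
  · simp only [QuaternionGroup.a_mul_xa, qmap]
    rw [sub_eq_neg_add, zpm_add, zpm_neg, ← mul_assoc, ← mul_assoc, zpm_mul_x n a ha x hxa i]
  · simp only [QuaternionGroup.xa_mul_a, qmap, zpm_add, mul_assoc]
  · simp only [QuaternionGroup.xa_mul_xa, qmap]
    have e : ((n : ZMod (2 * n)) + j - i) = (n : ZMod (2 * n)) + (-i + j) := by ring
    rw [e, zpm_add, zpm_add, zpm_neg, zpm_natCast, ← hx]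
    calc x ^ 2 * ((zpm n a ha i)⁻¹ * zpm n a ha j)
        = x * (x * (zpm n a ha i)⁻¹) * zpm n a ha j := by rw [pow_two]; simp only [mul_assoc]
      _ = x * (zpm n a ha i * x) * zpm n a ha j := by rw [zpm_mul_x n a ha x hxa i]
      _ = x * zpm n a ha i * (x * zpm n a ha j) := by simp only [mul_assoc]

/-- Recognition of the generalized quaternion group. -/
theorem nonempty_mulEquiv_quaternionGroup [Finite P] (hn : 2 ≤ n) (x : P)
    (hord : orderOf a = 2 * n) (hx : x ^ 2 = a ^ n) (hxa : x * a * x⁻¹ = a⁻¹)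
    (hcard : Nat.card P = 4 * n) : Nonempty (P ≃* QuaternionGroup n) := by
  have ha : a ^ (2 * n) = 1 := by rw [← hord]; exact pow_orderOf_eq_one a
  have : NeZero n := ⟨by omega⟩
  let F : QuaternionGroup n →* P := MonoidHom.mk' (qmap n a ha x) (qmap_mul n a ha x hx hxa)
  have hinj : Function.Injective F := by
    rw [injective_iff_map_eq_one]
    intro q hq
    rcases q with i | i
    · have h1 : zpm n a ha i = 1 := hq
      have h2 : zpm n a ha ((i.val : ℕ) : ZMod (2 * n)) = a ^ i.val := zpm_natCast n a ha i.val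
      rw [ZMod.natCast_zmod_val] at h2
      rw [h2] at h1
      have h3 : orderOf a ∣ i.val := orderOf_dvd_of_pow_eq_one h1
      have h4 : i.val < 2 * n := ZMod.val_lt i
      rw [hord] at h3
      have h5 : i.val = 0 := Nat.eq_zero_of_dvd_of_lt h3 h4
      have h6 : i = 0 := (ZMod.val_eq_zero i).mp h5
      rw [h6]; rfl
    · exfalso
      have h1 : x * zpm n a ha i = 1 := hq
      obtain ⟨k, hk⟩ := zpm_eq_zpow n a ha i
      rw [hk] at h1
      have h2 : x = (a ^ k)⁻¹ := eq_inv_of_mul_eq_one_left h1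
      have h3 : x * a * x⁻¹ = a := by
        rw [h2, ← zpow_neg]
        have : a ^ (-k) * a = a * a ^ (-k) := by
          rw [← zpow_add_one, ← zpow_one_add]; congr 1; ring
        rw [this]; group
      rw [h3] at hxa
      have h4 : a ^ 2 = 1 := by
        rw [pow_two]
        nth_rewrite 1 [hxa]
        exact inv_mul_cancel a
      have h5 : orderOf a ∣ 2 := orderOf_dvd_of_pow_eq_one h4
      rw [hord] at h5
      have := Nat.le_of_dvd (by norm_num) h5
      omega
  have hcardQ : Nat.card (QuaternionGroup n) = 4 * n := by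
    rw [Nat.card_eq_fintype_card, QuaternionGroup.card]
  have hbij : Function.Bijective F :=
    Function.Injective.bijective_of_nat_card_le hinj (by rw [hcard, hcardQ])
  exact ⟨(MulEquiv.ofBijective F hbij).symm⟩

end Recognition

end Cfsg.Agent.Lib.Helper50_UniqueInv
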