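import Mathlib
import Cfsg.Agent.Lib.Helper56_S3390Defs
import Cfsg.Agent.S0112
import Cfsg.Agent.S4399
import Cfsg.Agent.Lib.Helper2_Taussky
import Cfsg.Agent.Lib.Helper54_TwoGroups

/-!
# S3390 package MC (architect helper56; formalised by helper12)

A noncyclic 2-group with an involution whose centralizer has order 4 is dihedral or semidihedral.
-/

set_option autoImplicit false

open Cfsg.Agent.Lib.Helper56_S3390Defs

namespace Cfsg.Agent.Lib.Helper12_S3390_MC

/-- in a generalized quaternion group every involution is central. -/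
theorem quaternion_invol_central {m : ℕ} (hm : m ≠ 0) (q : QuaternionGroup m) (hq2 : q ^ 2 = 1)
    (r : QuaternionGroup m) : q * r = r * q := by
  have : NeZero m := ⟨hm⟩
  have : NeZero (2 * m) := ⟨by omega⟩
  cases q with
  | a i =>
    have hi : i + i = 0 := by
      have h1 : (QuaternionGroup.a i) ^ 2 = QuaternionGroup.a (i + i) := by
        rw [sq, QuaternionGroup.a_mul_a]
      rw [h1, QuaternionGroup.one_def] at hq2
      exact QuaternionGroup.a.inj hq2
    cases r with
    | a j => rw [QuaternionGroup.a_mul_a, QuaternionGroup.a_mul_a, add_comm]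
    | xa j =>
      rw [QuaternionGroup.a_mul_xa, QuaternionGroup.xa_mul_a]
      congr 1
      have : -i = i := by
        rw [neg_eq_iff_add_eq_zero]
        exact hi
      rw [sub_eq_add_neg, this]
  | xa i =>
    exfalso
    rw [QuaternionGroup.xa_sq, QuaternionGroup.one_def] at hq2
    have h0 : ((m : ℕ) : ZMod (2 * m)) = 0 := QuaternionGroup.a.inj hq2
    rw [ZMod.natCast_eq_zero_iff] at h0
    have := Nat.le_of_dvd (Nat.pos_of_ne_zero hm) h0
    omega

/-- the abstract form: a finite noncyclic 2-group `X` with an involution `t` such that `C_X(t)` has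
order 4. -/
theorem dihedral_or_quasi_aux {X : Type*} [Group X] [Finite X] (hP : IsPGroup 2 X)
    (hnc : ¬ IsCyclic X) (t : X) (ht1 : t ≠ 1) (ht2 : t ^ 2 = 1)
    (hC : Nat.card (Subgroup.centralizer ({t} : Set X)) = 4) :
    (∃ n : ℕ, Nonempty (X ≃* DihedralGroup n)) ∨ Cfsg.IsQuasiDihedral X := by
  have : Fact (Nat.Prime 2) := ⟨Nat.prime_two⟩
  obtain ⟨n, hn⟩ := hP.exists_card_eq
  have hto : orderOf t = 2 := orderOf_eq_prime ht2 ht1
  set A : Subgroup X := Subgroup.centralizer ({t} : Set X) with hA
  have htA : t ∈ A := by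
    rw [hA, Subgroup.mem_centralizer_singleton_iff]
  -- `n ≥ 2`
  have hn2 : 2 ≤ n := by
    have h1 : Nat.card A ≤ Nat.card X := Subgroup.card_le_card_group A
    rw [hC, hn] at h1
    by_contra hlt
    push Not at hlt
    interval_cases n <;> omega
  rcases Nat.lt_or_ge n 3 with hlt | hge
  · -- `|X| = 4`: Klein four group
    left
    have hn' : n = 2 := by omega
    subst hn'
    have hX4 : Nat.card X = 4 := by rw [hn]; norm_num
    have hcomm : ∀ x y : X, x * y = y * x := by
      have := IsPGroup.isMulCommutative_of_card_eq_prime_sq (p := 2) (G := X) (by rw [hX4]; norm_num)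
      intro x y
      exact mul_comm' x y
    -- every element has order dividing 2
    have hsq : ∀ x : X, x * x = 1 := by
      intro x
      have hdvd : orderOf x ∣ 4 := by
        rw [← hX4]
        exact orderOf_dvd_natCard x
      have hne4 : orderOf x ≠ 4 := by
        intro h4
        apply hnc
        exact isCyclic_of_orderOf_eq_card x (by rw [h4, hX4])
      have hdiv : Nat.divisors 4 = {1, 2, 4} := by decide
      have hmem : orderOf x ∈ Nat.divisors 4 := Nat.mem_divisors.2 ⟨hdvd, by norm_num⟩
      rw [hdiv] at hmem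
      simp only [Finset.mem_insert, Finset.mem_singleton] at hmem
      rcases hmem with h | h | h
      · rw [orderOf_eq_one_iff] at h
        rw [h, one_mul]
      · rw [← sq, ← h]
        exact pow_orderOf_eq_one x
      · exact absurd h hne4
    -- an element outside `⟨t⟩`
    have hz : Nat.card (Subgroup.zpowers t) = 2 := by rw [Nat.card_zpowers, hto]
    obtain ⟨x, hx⟩ : ∃ x : X, x ∉ Subgroup.zpowers t := by
      by_contra hcon
      push Not at hcon
      have : Subgroup.zpowers t = ⊤ := by
        rw [eq_top_iff]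
        intro x _
        exact hcon x
      rw [this, Subgroup.card_top, hX4] at hz
      omega
    refine ⟨2, ?_⟩
    refine Cfsg.Agent.Lib.Helper54_TwoGroups.nonempty_mulEquiv_dihedralGroup 2 t x hto (hsq x) ?_ hx
      (by rw [hX4])
    have htinv : t⁻¹ = t := by
      rw [inv_eq_iff_mul_eq_one]
      exact hsq t
    rw [htinv, hcomm x t, mul_assoc, mul_inv_cancel, mul_one]
  · -- `|X| ≥ 8`
    have hAcard : Nat.card A = 2 ^ 2 := by rw [hC]; norm_num
    have hAcomm : ∀ x ∈ A, ∀ y ∈ A, x * y = y * x := by
      have := IsPGroup.isMulCommutative_of_card_eq_prime_sq (p := 2) (G := A) hAcard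
      intro x hx y hy
      have := mul_comm' (⟨x, hx⟩ : A) ⟨y, hy⟩
      exact congrArg Subtype.val this
    have hCA : Subgroup.centralizer (A : Set X) = A := by
      apply le_antisymm
      · intro x hx
        rw [hA, Subgroup.mem_centralizer_singleton_iff]
        exact (hx t htA).symm
      · intro x hx
        rw [Subgroup.mem_centralizer_iff]
        intro y hy
        exact hAcomm y hy x hx
    have hclass := Cfsg.Agent.S0112.result (p := 2) n hn A hAcard hCA
    obtain ⟨hidx, hsqc⟩ := Cfsg.Agent.Lib.Helper2_TwoMaxClass.maxClass_index_commutator n hge hn hclass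
    have hab : Nat.card (Abelianization X) = 4 := by
      rw [← hidx]
      rfl
    have hexp : ∀ x : Abelianization X, x ^ 2 = 1 := by
      intro x
      obtain ⟨y, rfl⟩ : ∃ y : X, Abelianization.of y = x := QuotientGroup.mk_surjective x
      rw [← map_pow, ← MonoidHom.mem_ker, Abelianization.ker_of, sq]
      exact hsqc y
    rcases Cfsg.Agent.S4399.result hP hab hexp with h4 | ⟨k, hk⟩ | ⟨k, hk, a, b, ha, hb, hab'⟩ |
      ⟨k, ⟨e⟩⟩
    · exfalso
      rw [hn] at h4
      have : 2 ^ 3 ≤ 2 ^ n := Nat.pow_le_pow_right (by norm_num) hge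
      omega
    · left
      exact ⟨_, hk⟩
    · right
      refine ⟨k + 3, by omega, hk, a, b, ha, hb, ?_⟩
      rw [hab']
      rfl
    · exfalso
      have hm : (2 ^ (k + 1) : ℕ) ≠ 0 := by positivity
      have het2 : (e t) ^ 2 = 1 := by rw [← map_pow, ht2, map_one]
      have hcen : ∀ x : X, x ∈ A := by
        intro x
        rw [hA, Subgroup.mem_centralizer_singleton_iff]
        apply e.injective
        rw [map_mul, map_mul]
        exact (quaternion_invol_central hm (e t) het2 (e x)).symm
      have hAtop : A = ⊤ := by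
        rw [eq_top_iff]
        intro x _
        exact hcen x
      rw [hAtop, Subgroup.card_top, hn] at hC
      have : 2 ^ 3 ≤ 2 ^ n := Nat.pow_le_pow_right (by norm_num) hge
      omega

variable {G : Type*} [Group G]

/-- **MC**. -/
theorem dihedral_or_quasi (P : Subgroup G) [Finite ↥P] (hP : IsPGroup 2 ↥P) (hnc : ¬ IsCyclic ↥P)
    (t : G) (htP : t ∈ P) (ht1 : t ≠ 1) (ht2 : t ^ 2 = 1)
    (hC : Nat.card ↥(P ⊓ Subgroup.centralizer ({t} : Set G)) = 4) :
    (∃ n : ℕ, Nonempty (↥P ≃* DihedralGroup n)) ∨ Cfsg.IsQuasiDihedral ↥P := by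
  refine dihedral_or_quasi_aux hP hnc ⟨t, htP⟩ ?_ ?_ ?_
  · intro h
    exact ht1 (congrArg Subtype.val h)
  · apply Subtype.ext
    simpa using ht2
  · rw [← hC]
    apply Nat.card_congr
    refine
      { toFun := fun x => ⟨(x.1 : G), ⟨x.1.2, ?_⟩⟩
        invFun := fun y => ⟨⟨y.1, y.2.1⟩, ?_⟩
        left_inv := fun x => rfl
        right_inv := fun y => rfl }
    · have hx := x.2
      rw [Subgroup.mem_centralizer_singleton_iff] at hx
      show (x.1 : G) ∈ Subgroup.centralizer ({t} : Set G)
      rw [Subgroup.mem_centralizer_singleton_iff]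
      exact congrArg Subtype.val hx
    · have hy : (y.1 : G) ∈ Subgroup.centralizer ({t} : Set G) := y.2.2
      rw [Subgroup.mem_centralizer_singleton_iff] at hy
      show (⟨y.1, y.2.1⟩ : ↥P) ∈ Subgroup.centralizer ({⟨t, htP⟩} : Set ↥P)
      rw [Subgroup.mem_centralizer_singleton_iff]
      exact Subtype.ext hy

end Cfsg.Agent.Lib.Helper12_S3390_MC
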