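import Mathlib
import Cfsg.Agent.Lib.Helper17_Coherence

/-!
# S3282 (abstract Brauer–Suzuki–Wall), package A3: the lattice argument (helper17)

Pure integer combinatorics: the shape of the multiplicity vectors `a l = (phi l, ·)`.
-/

set_option autoImplicit false
set_option linter.unusedSectionVars false
set_option linter.unusedVariables false

namespace Cfsg.Agent.Lib.Helper17_BSW_A3

open Cfsg.Agent.Lib.Helper17_Coherence

variable {I : Type*} [Fintype I] [DecidableEq I] {L : Type*} [Fintype L] [DecidableEq L]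

theorem entry_bound (f : I → ℤ) (h : ∑ i, f i ^ 2 = 3) (i : I) :
    f i = -1 ∨ f i = 0 ∨ f i = 1 := by
  have hle : f i ^ 2 ≤ 3 := by
    rw [← h]
    exact Finset.single_le_sum (f := fun i => f i ^ 2) (fun j _ => sq_nonneg (f j))
      (Finset.mem_univ i)
  have h1 : -1 ≤ f i := by nlinarith [sq_nonneg (f i + 2)]
  have h2 : f i ≤ 1 := by nlinarith [sq_nonneg (f i - 2)]
  omega

theorem sum_mul_root (f : I → ℤ) (ε : ℤ) (Z W : I) :
    ∑ i, f i * (ε * (ei Z i - ei W i)) = ε * (f Z - f W) := by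
  have : ∀ i, f i * (ε * (ei Z i - ei W i)) = ε * (ei Z i * f i) - ε * (ei W i * f i) := by
    intro i; ring
  rw [Finset.sum_congr rfl (fun i _ => this i), Finset.sum_sub_distrib, ← Finset.mul_sum,
    ← Finset.mul_sum, sum_ei_mul, sum_ei_mul]
  ring

theorem sum_root_mul (f : I → ℤ) (ε : ℤ) (Z W : I) :
    ∑ i, (ε * (ei Z i - ei W i)) * f i = ε * (f Z - f W) := by
  rw [← sum_mul_root f ε Z W]
  exact Finset.sum_congr rfl (fun i _ => mul_comm _ _)

/-- A norm-2 vector with degree sum `-1` is a root `e_X - e_Y`. -/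
theorem root_shape (f dg : I → ℤ) (hdg : ∀ i, 0 < dg i) (h2 : ∑ i, f i ^ 2 = 2)
    (hd : ∑ i, f i * dg i = -1) : ∃ X Y : I, X ≠ Y ∧ ∀ i, f i = ei X i - ei Y i := by
  obtain ⟨ψ, -, ψ', -, hne, hs, hs', hrest⟩ := sum_sq_eq_two Finset.univ f h2
  have hpt : ∀ i, f i = f ψ * ei ψ i + f ψ' * ei ψ' i := by
    intro i
    by_cases h1 : i = ψ
    · rw [h1, ei_self, ei_ne hne]; ring
    · by_cases h2 : i = ψ'
      · rw [h2, ei_self, ei_ne (Ne.symm hne)]; ring
      · rw [ei_ne h1, ei_ne h2, hrest i (Finset.mem_univ i) h1 h2]; ring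
  have hsum : ∑ i, f i * dg i = f ψ * dg ψ + f ψ' * dg ψ' := by
    have : ∀ i, f i * dg i = f ψ * (ei ψ i * dg i) + f ψ' * (ei ψ' i * dg i) := by
      intro i
      have := hpt i
      calc f i * dg i = (f ψ * ei ψ i + f ψ' * ei ψ' i) * dg i := by rw [← this]
        _ = _ := by ring
    rw [Finset.sum_congr rfl (fun i _ => this i), Finset.sum_add_distrib, ← Finset.mul_sum,
      ← Finset.mul_sum, sum_ei_mul, sum_ei_mul]
  rw [hsum] at hd
  have hp1 := hdg ψ
  have hp2 := hdg ψ'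
  rcases hs with hs | hs <;> rcases hs' with hs' | hs'
  · rw [hs, hs'] at hd; omega
  · refine ⟨ψ, ψ', hne, ?_⟩
    intro i; rw [hpt i, hs, hs']; ring
  · refine ⟨ψ', ψ, Ne.symm hne, ?_⟩
    intro i; rw [hpt i, hs, hs']; ring
  · rw [hs, hs'] at hd; omega

theorem root_inner (X Y X' Y' : I) :
    ∑ i, (ei X i - ei Y i) * (ei X' i - ei Y' i) = ei X' X - ei Y' X - ei X' Y + ei Y' Y := by
  have : ∀ i, (ei X i - ei Y i) * (ei X' i - ei Y' i)
      = ei X i * (ei X' i - ei Y' i) - ei Y i * (ei X' i - ei Y' i) := by intro i; ring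
  rw [Finset.sum_congr rfl (fun i _ => this i), Finset.sum_sub_distrib, sum_ei_mul, sum_ei_mul]
  ring

theorem root_share {X Y X' Y' : I}
    (h : 1 ≤ ∑ i, (ei X i - ei Y i) * (ei X' i - ei Y' i)) : X = X' ∨ Y = Y' := by
  rw [root_inner] at h
  by_contra hcon
  push Not at hcon
  rw [ei_ne hcon.1, ei_ne hcon.2] at h
  have h1 := ei_nonneg Y' X
  have h2 := ei_nonneg X' Y
  omega

/-- completing a norm-3 vector with one known entry -/
theorem two_more (f : I → ℤ) (h3 : ∑ i, f i ^ 2 = 3) (P : I) (s : ℤ) (hs : s = 1 ∨ s = -1)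
    (hP : f P = s) : ∃ c d : I, c ≠ d ∧ c ≠ P ∧ d ≠ P ∧ (f c = 1 ∨ f c = -1) ∧
      (f d = 1 ∨ f d = -1) ∧ ∀ i, f i = s * ei P i + f c * ei c i + f d * ei d i := by
  have h1 := Finset.add_sum_erase Finset.univ (fun i => f i ^ 2) (Finset.mem_univ P)
  have hsq : f P ^ 2 = 1 := by rw [hP]; rcases hs with h | h <;> rw [h] <;> norm_num
  have h2 : ∑ i ∈ Finset.univ.erase P, f i ^ 2 = 2 := by
    omega
  obtain ⟨c, hc, d, hd, hcd, hfc, hfd, hrest⟩ := sum_sq_eq_two _ f h2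
  have hcP := Finset.ne_of_mem_erase hc
  have hdP := Finset.ne_of_mem_erase hd
  refine ⟨c, d, hcd, hcP, hdP, hfc, hfd, ?_⟩
  intro i
  by_cases hiP : i = P
  · rw [hiP, ei_self, ei_ne (Ne.symm hcP), ei_ne (Ne.symm hdP), hP]; ring
  · by_cases hic : i = c
    · rw [hic, ei_self, ei_ne hcP, ei_ne hcd]; ring
    · by_cases hid : i = d
      · rw [hid, ei_self, ei_ne hdP, ei_ne (Ne.symm hcd)]; ring
      · rw [ei_ne hiP, ei_ne hic, ei_ne hid,
          hrest i (Finset.mem_erase.mpr ⟨hiP, Finset.mem_univ i⟩) hic hid]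
        ring

/-- completing a norm-3 vector with two known entries -/
theorem one_more (f : I → ℤ) (h3 : ∑ i, f i ^ 2 = 3) (P Q : I) (hPQ : P ≠ Q) (s : ℤ)
    (hs : s = 1 ∨ s = -1) (hP : f P = s) (hQ : f Q = s) :
    ∃ V : I, V ≠ P ∧ V ≠ Q ∧ (f V = 1 ∨ f V = -1) ∧
      ∀ i, f i = s * ei P i + s * ei Q i + f V * ei V i := by
  have h1 := Finset.add_sum_erase Finset.univ (fun i => f i ^ 2) (Finset.mem_univ P)
  have hQm : Q ∈ Finset.univ.erase P := Finset.mem_erase.mpr ⟨Ne.symm hPQ, Finset.mem_univ Q⟩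
  have h1' := Finset.add_sum_erase (Finset.univ.erase P) (fun i => f i ^ 2) hQm
  have hsq : f P ^ 2 = 1 := by rw [hP]; rcases hs with h | h <;> rw [h] <;> norm_num
  have hsq' : f Q ^ 2 = 1 := by rw [hQ]; rcases hs with h | h <;> rw [h] <;> norm_num
  have h2 : ∑ i ∈ (Finset.univ.erase P).erase Q, f i ^ 2 = 1 := by
    omega
  obtain ⟨V, hV, hfV, hrest⟩ := sum_sq_eq_one _ f h2
  have hVQ := Finset.ne_of_mem_erase hV
  have hVP := Finset.ne_of_mem_erase (Finset.mem_of_mem_erase hV)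
  refine ⟨V, hVP, hVQ, hfV, ?_⟩
  intro i
  by_cases hiP : i = P
  · rw [hiP, ei_self, ei_ne hPQ, ei_ne (Ne.symm hVP), hP]; ring
  · by_cases hiQ : i = Q
    · rw [hiQ, ei_self, ei_ne (Ne.symm hPQ), ei_ne (Ne.symm hVQ), hQ]; ring
    · by_cases hiV : i = V
      · rw [hiV, ei_self, ei_ne hVP, ei_ne hVQ]; ring
      · rw [ei_ne hiP, ei_ne hiQ, ei_ne hiV,
          hrest i (Finset.mem_erase.mpr ⟨hiQ, Finset.mem_erase.mpr ⟨hiP, Finset.mem_univ i⟩⟩) hiV]
        ring

/-- a norm-3 vector with three known entries -/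
theorem no_more (f : I → ℤ) (h3 : ∑ i, f i ^ 2 = 3) (P Q R : I) (hPQ : P ≠ Q) (hPR : P ≠ R)
    (hQR : Q ≠ R) (s : ℤ) (hs : s = 1 ∨ s = -1) (hP : f P = s) (hQ : f Q = s) (hR : f R = s) :
    ∀ i, f i = s * (ei P i + ei Q i + ei R i) := by
  obtain ⟨V, hVP, hVQ, hfV, hform⟩ := one_more f h3 P Q hPQ s hs hP hQ
  have hVR : V = R := by
    by_contra hne
    have := hform R
    rw [ei_ne (Ne.symm hPR), ei_ne (Ne.symm hQR), ei_ne (Ne.symm hne), hR] at this
    rcases hs with h | h <;> rw [h] at this <;> omega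
  intro i
  rw [hform i, hVR, hR]; ring


/-- all the roots `b l` share a common signed unit -/
theorem existsP (ν : L) (b : L → I → ℤ) (X Y : L → I)
    (hshape : ∀ l, l ≠ ν → X l ≠ Y l ∧ ∀ i, b l i = ei (X l) i - ei (Y l) i)
    (hshare : ∀ l m, l ≠ ν → m ≠ ν → X l = X m ∨ Y l = Y m) (l0 : L) (hl0 : l0 ≠ ν) :
    ∃ (ε : ℤ) (Z : I) (W : L → I), (ε = 1 ∨ ε = -1) ∧ (∀ l, l ≠ ν → W l ≠ Z) ∧
      ∀ l, l ≠ ν → ∀ i, b l i = ε * (ei Z i - ei (W l) i) := by
  by_cases hall : ∀ m, m ≠ ν → X m = X l0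
  · refine ⟨1, X l0, Y, Or.inl rfl, ?_, ?_⟩
    · intro l hl
      rw [← hall l hl]
      exact (hshape l hl).1.symm
    · intro l hl i
      rw [(hshape l hl).2 i, hall l hl]; ring
  · push Not at hall
    obtain ⟨m1, hm1, hX1⟩ := hall
    have hY1 : Y m1 = Y l0 := (hshare m1 l0 hm1 hl0).resolve_left hX1
    have hallY : ∀ m, m ≠ ν → Y m = Y l0 := by
      intro m hm
      rcases hshare m l0 hm hl0 with h | h
      · rcases hshare m m1 hm hm1 with h' | h'
        · exact absurd (h'.symm.trans h) hX1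
        · exact h'.trans hY1
      · exact h
    refine ⟨-1, Y l0, X, Or.inr rfl, ?_, ?_⟩
    · intro l hl
      rw [← hallY l hl]
      exact (hshape l hl).1
    · intro l hl i
      rw [(hshape l hl).2 i, hallY l hl]; ring

/-- consequences of the common shape -/
theorem core (i0 : I) (cjL : L → L) (ν : L) (b : L → I → ℤ)
    (hb0 : ∀ l, b l i0 = 0)
    (hg : ∀ l m, ∑ i, b l i * b m i =
      1 + (if l = m then 1 else 0) + (if l = cjL m then 1 else 0))
    (ε : ℤ) (Z : I) (W : L → I) (hε : ε = 1 ∨ ε = -1) (hWZ : ∀ l, l ≠ ν → W l ≠ Z)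
    (hb : ∀ l, l ≠ ν → ∀ i, b l i = ε * (ei Z i - ei (W l) i)) (l0 : L) (hl0 : l0 ≠ ν) :
    Z ≠ i0 ∧ (∀ l, l ≠ ν → W l ≠ i0 ∧ W l ≠ Z) ∧
      (∀ l m, l ≠ ν → m ≠ ν → (W l = W m ↔ (l = m ∨ l = cjL m))) := by
  have hε2 : ε * ε = 1 := by rcases hε with h | h <;> rw [h] <;> norm_num
  refine ⟨?_, ?_, ?_⟩
  · intro h
    have h1 := hb l0 hl0 Z
    rw [ei_self, ei_ne (Ne.symm (hWZ l0 hl0)), h, hb0] at h1
    rcases hε with h | h <;> rw [h] at h1 <;> omega
  · intro l hl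
    refine ⟨?_, hWZ l hl⟩
    intro h
    have h1 := hb l hl (W l)
    rw [ei_self, ei_ne (hWZ l hl), h, hb0] at h1
    rcases hε with h | h <;> rw [h] at h1 <;> omega
  · intro l m hl hm
    have h1 : ∑ i, b l i * b m i = 1 + ei (W m) (W l) := by
      have : ∀ i, b l i * b m i = (ε * (ei Z i - ei (W l) i)) * b m i := by
        intro i; rw [hb l hl i]
      rw [Finset.sum_congr rfl (fun i _ => this i), sum_root_mul, hb m hm Z, hb m hm (W l),
        ei_self, ei_ne (Ne.symm (hWZ m hm)), ei_ne (hWZ l hl)]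
      have : ε * (ε * (1 - 0) - ε * (0 - ei (W m) (W l))) = (ε * ε) * (1 + ei (W m) (W l)) := by
        ring
      rw [this, hε2, one_mul]
    rw [hg l m] at h1
    constructor
    · intro h
      rw [h, ei_self] at h1
      by_contra hcon
      push Not at hcon
      rw [if_neg hcon.1, if_neg hcon.2] at h1
      omega
    · rintro (h | h)
      · rw [h]
      · rw [if_pos h] at h1
        have h2 : ei (W m) (W l) = 1 := by
          have := ei_le_one (W m) (W l)
          split_ifs at h1 <;> omega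
        exact (ei_eq_one_iff _ _).mp h2


/-- the shape of the exceptional vector `b ν` -/
theorem nuShape (i0 : I) (dg : I → ℤ) (cjL : L → L) (hcj : ∀ l, cjL (cjL l) = l) (ν : L)
    (hν : cjL ν = ν) (hnr : ∀ l, l ≠ ν → cjL l ≠ l) (b : L → I → ℤ)
    (hν0 : b ν i0 = 0) (hν3 : ∑ i, b ν i ^ 2 = 3)
    (hνl : ∀ l, l ≠ ν → ∑ i, b ν i * b l i = 1)
    (hd : ∀ l, ∑ i, b l i * dg i = -1)
    (ε : ℤ) (Z : I) (W : L → I) (hε : ε = 1 ∨ ε = -1) (hWZ : ∀ l, l ≠ ν → W l ≠ Z)
    (hb : ∀ l, l ≠ ν → ∀ i, b l i = ε * (ei Z i - ei (W l) i))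
    (hW2 : ∀ l m, l ≠ ν → m ≠ ν → (W l = W m ↔ (l = m ∨ l = cjL m)))
    (l0 : L) (hl0 : l0 ≠ ν) :
    ∃ (ε' : ℤ) (Z' : I) (W' : L → I), (ε' = 1 ∨ ε' = -1) ∧ (∀ l, l ≠ ν → W' l ≠ Z') ∧
      (∀ l, l ≠ ν → ∀ i, b l i = ε' * (ei Z' i - ei (W' l) i)) ∧
      ((∃ (c d : I) (bc bd : ℤ), (bc = 1 ∨ bc = -1) ∧ (bd = 1 ∨ bd = -1) ∧ c ≠ d ∧ c ≠ i0 ∧
          d ≠ i0 ∧ c ≠ Z' ∧ d ≠ Z' ∧ (∀ l, l ≠ ν → W' l ≠ c ∧ W' l ≠ d) ∧
          ∀ i, b ν i = ε' * ei Z' i + bc * ei c i + bd * ei d i) ∨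
        (Fintype.card L = 5 ∧ ∃ (V : I) (η : ℤ), (η = 1 ∨ η = -1) ∧ V ≠ i0 ∧ V ≠ Z' ∧
          (∀ l, l ≠ ν → W' l ≠ V) ∧
          ∀ i, 2 * b ν i = 2 * η * ei V i - ε' * ∑ l ∈ Finset.univ.erase ν, ei (W' l) i)) := by
  have key : ∀ l, l ≠ ν → b ν Z - b ν (W l) = ε := by
    intro l hl
    have h1 := hνl l hl
    have : ∀ i, b ν i * b l i = b ν i * (ε * (ei Z i - ei (W l) i)) := by
      intro i; rw [hb l hl i]
    rw [Finset.sum_congr rfl (fun i _ => this i), sum_mul_root] at h1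
    rcases hε with h | h <;> rw [h] at h1 ⊢ <;> omega
  have hent := entry_bound (b ν) hν3
  have hcase : b ν Z = ε ∨ b ν Z = 0 ∨ b ν Z = -ε := by
    have := hent Z
    rcases hε with h | h <;> rw [h] <;> omega
  rcases hcase with hZ | hZ | hZ
  · -- case A
    have hW0 : ∀ l, l ≠ ν → b ν (W l) = 0 := by
      intro l hl; have := key l hl; omega
    obtain ⟨c, d, hcd, hcZ, hdZ, hfc, hfd, hform⟩ := two_more (b ν) hν3 Z ε hε hZ
    refine ⟨ε, Z, W, hε, hWZ, hb,
      Or.inl ⟨c, d, b ν c, b ν d, hfc, hfd, hcd, ?_, ?_, hcZ, hdZ, ?_, hform⟩⟩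
    · intro h; rw [h, hν0] at hfc; omega
    · intro h; rw [h, hν0] at hfd; omega
    · intro l hl
      have := hW0 l hl
      constructor
      · intro h; rw [h] at this; omega
      · intro h; rw [h] at this; omega
  · -- case B
    have hWm : ∀ l, l ≠ ν → b ν (W l) = -ε := by
      intro l hl; have := key l hl; omega
    have hnε : (-ε = 1 ∨ -ε = -1) := by rcases hε with h | h <;> rw [h] <;> norm_num
    by_cases hone : ∀ l, l ≠ ν → W l = W l0
    · -- B1: swap
      obtain ⟨c, d, hcd, hcZ, hdZ, hfc, hfd, hform⟩ :=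
        two_more (b ν) hν3 (W l0) (-ε) hnε (hWm l0 hl0)
      refine ⟨-ε, W l0, fun _ => Z, hnε, fun l hl => (hWZ l0 hl0).symm, ?_,
        Or.inl ⟨c, d, b ν c, b ν d, hfc, hfd, hcd, ?_, ?_, hcZ, hdZ, ?_, hform⟩⟩
      · intro l hl i
        rw [hb l hl i, hone l hl]; ring
      · intro h; rw [h, hν0] at hfc; omega
      · intro h; rw [h, hν0] at hfd; omega
      · intro l hl
        constructor
        · intro h; rw [← h, hZ] at hfc; omega
        · intro h; rw [← h, hZ] at hfd; omega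
    · push Not at hone
      obtain ⟨l1, hl1, hW1⟩ := hone
      by_cases htwo : ∀ l, l ≠ ν → W l = W l0 ∨ W l = W l1
      · -- B2a
        obtain ⟨V, hVP, hVQ, hfV, hform⟩ := one_more (b ν) hν3 (W l0) (W l1) (Ne.symm hW1)
          (-ε) hnε (hWm l0 hl0) (hWm l1 hl1)
        have hcν : ∀ l, l ≠ ν → cjL l ≠ ν := by
          intro l hl h
          apply hl
          have := hcj l
          rw [h, hν] at this
          exact this.symm
        have hWc : ∀ l, l ≠ ν → W (cjL l) = W l := by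
          intro l hl
          exact (hW2 (cjL l) l (hcν l hl) hl).mpr (Or.inr rfl)
        have huniv : (Finset.univ : Finset L) = {ν, l0, cjL l0, l1, cjL l1} := by
          ext l
          simp only [Finset.mem_univ, Finset.mem_insert, Finset.mem_singleton, true_iff]
          by_cases hl : l = ν
          · left; exact hl
          · right
            rcases htwo l hl with h | h
            · rcases (hW2 l l0 hl hl0).mp h with h' | h'
              · left; exact h'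
              · right; left; exact h'
            · rcases (hW2 l l1 hl hl1).mp h with h' | h'
              · right; right; left; exact h'
              · right; right; right; exact h'
        have d1 : l0 ≠ cjL l0 := (hnr l0 hl0).symm
        have d2 : l0 ≠ l1 := fun h => hW1 (by rw [h])
        have d3 : l0 ≠ cjL l1 := fun h => hW1 (by rw [h, hWc l1 hl1])
        have d4 : cjL l0 ≠ l1 := fun h => hW1 (by rw [← h, hWc l0 hl0])
        have d5 : cjL l0 ≠ cjL l1 := fun h => d2 (by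
          have := congrArg cjL h; rwa [hcj, hcj] at this)
        have d6 : l1 ≠ cjL l1 := (hnr l1 hl1).symm
        have n3 : cjL l0 ∉ ({l1, cjL l1} : Finset L) := by simp [d4, d5]
        have n2 : l0 ∉ ({cjL l0, l1, cjL l1} : Finset L) := by simp [d1, d2, d3]
        have n1 : ν ∉ ({l0, cjL l0, l1, cjL l1} : Finset L) := by
          simp [Ne.symm hl0, Ne.symm (hcν l0 hl0), Ne.symm hl1, Ne.symm (hcν l1 hl1)]
        have hcard : Fintype.card L = 5 := by
          rw [← Finset.card_univ, huniv, Finset.card_insert_of_notMem n1,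
            Finset.card_insert_of_notMem n2, Finset.card_insert_of_notMem n3, Finset.card_pair d6]
        have hsum : ∀ i, ∑ l ∈ Finset.univ.erase ν, ei (W l) i
            = 2 * ei (W l0) i + 2 * ei (W l1) i := by
          intro i
          rw [huniv, Finset.erase_insert n1, Finset.sum_insert n2, Finset.sum_insert n3,
            Finset.sum_pair d6, hWc l0 hl0, hWc l1 hl1]
          ring
        refine ⟨ε, Z, W, hε, hWZ, hb, Or.inr ⟨hcard, V, b ν V, hfV, ?_, ?_, ?_, ?_⟩⟩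
        · intro h; rw [h, hν0] at hfV; omega
        · intro h; rw [h, hZ] at hfV; omega
        · intro l hl h
          rcases htwo l hl with h' | h'
          · exact hVP (by rw [← h, h'])
          · exact hVQ (by rw [← h, h'])
        · intro i
          rw [hsum i, hform i]; ring
      · -- B2b
        push Not at htwo
        obtain ⟨l2, hl2, hW20, hW21⟩ := htwo
        have hform := no_more (b ν) hν3 (W l0) (W l1) (W l2) (Ne.symm hW1) (Ne.symm hW20)
          (Ne.symm hW21) (-ε) hnε (hWm l0 hl0) (hWm l1 hl1) (hWm l2 hl2)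
        exfalso
        have hdν := hd ν
        have : ∀ i, b ν i * dg i = -ε * (ei (W l0) i * dg i) + -ε * (ei (W l1) i * dg i)
            + -ε * (ei (W l2) i * dg i) := by
          intro i; rw [hform i]; ring
        rw [Finset.sum_congr rfl (fun i _ => this i), Finset.sum_add_distrib,
          Finset.sum_add_distrib, ← Finset.mul_sum, ← Finset.mul_sum, ← Finset.mul_sum,
          sum_ei_mul, sum_ei_mul, sum_ei_mul] at hdν
        have hdl : ∀ l, l ≠ ν → ε * (dg Z - dg (W l)) = -1 := by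
          intro l hl
          have h1 := hd l
          have : ∀ i, b l i * dg i = (ε * (ei Z i - ei (W l) i)) * dg i := by
            intro i; rw [hb l hl i]
          rw [Finset.sum_congr rfl (fun i _ => this i), sum_root_mul] at h1
          exact h1
        have e0 := hdl l0 hl0
        have e1 := hdl l1 hl1
        have e2 := hdl l2 hl2
        rcases hε with h | h <;> rw [h] at e0 e1 e2 hdν <;> omega
  · -- case C
    exfalso
    have k := key l0 hl0
    have e := hent (W l0)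
    rw [hZ] at k
    rcases hε with h | h <;> rw [h] at k <;> omega


/-- **PKG A3** of S3282 (abstract Brauer–Suzuki–Wall): the lattice argument. -/
theorem lattice (i0 : I) (dg : I → ℤ) (hdg : ∀ i, 0 < dg i) (hd0 : dg i0 = 1)
    (cjL : L → L) (hcj : ∀ l, cjL (cjL l) = l) (ν : L) (hν : cjL ν = ν)
    (hnr : ∀ l, l ≠ ν → cjL l ≠ l) (a : L → I → ℤ) (h0 : ∀ l, a l i0 = 1)
    (hgram : ∀ l m, ∑ i, a l i * a m i =
      2 + (if l = m then 1 else 0) + (if l = cjL m then 1 else 0))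
    (hdeg : ∀ l, ∑ i, a l i * dg i = 0) (hne : ∃ l, l ≠ ν) :
    ∃ (ε : ℤ) (Z : I) (W : L → I), (ε = 1 ∨ ε = -1) ∧ Z ≠ i0 ∧
      (∀ l, l ≠ ν → W l ≠ i0 ∧ W l ≠ Z) ∧
      (∀ l m, l ≠ ν → m ≠ ν → (W l = W m ↔ (l = m ∨ l = cjL m))) ∧
      (∀ l, l ≠ ν → ∀ i, a l i = ei i0 i + ε * (ei Z i - ei (W l) i)) ∧
      ((∃ (c d : I) (bc bd : ℤ), (bc = 1 ∨ bc = -1) ∧ (bd = 1 ∨ bd = -1) ∧ c ≠ d ∧ c ≠ i0 ∧
          d ≠ i0 ∧ c ≠ Z ∧ d ≠ Z ∧ (∀ l, l ≠ ν → W l ≠ c ∧ W l ≠ d) ∧
          ∀ i, a ν i = ei i0 i + ε * ei Z i + bc * ei c i + bd * ei d i) ∨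
        (Fintype.card L = 5 ∧ ∃ (V : I) (η : ℤ), (η = 1 ∨ η = -1) ∧ V ≠ i0 ∧ V ≠ Z ∧
          (∀ l, l ≠ ν → W l ≠ V) ∧
          ∀ i, 2 * a ν i = 2 * ei i0 i + 2 * η * ei V i -
            ε * ∑ l ∈ Finset.univ.erase ν, ei (W l) i)) := by
  obtain ⟨l0, hl0⟩ := hne
  obtain ⟨b, hbdef⟩ : ∃ b : L → I → ℤ, ∀ l i, b l i = a l i - ei i0 i :=
    ⟨fun l i => a l i - ei i0 i, fun _ _ => rfl⟩
  have hab : ∀ l i, a l i = ei i0 i + b l i := fun l i => by rw [hbdef]; ring
  have hb0 : ∀ l, b l i0 = 0 := fun l => by rw [hbdef, h0, ei_self]; ring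
  have hg : ∀ l m, ∑ i, b l i * b m i =
      1 + (if l = m then 1 else 0) + (if l = cjL m then 1 else 0) := by
    intro l m
    have : ∀ i, b l i * b m i
        = a l i * a m i - ei i0 i * a m i - ei i0 i * a l i + ei i0 i * ei i0 i := by
      intro i; rw [hbdef, hbdef]; ring
    rw [Finset.sum_congr rfl (fun i _ => this i), Finset.sum_add_distrib, Finset.sum_sub_distrib,
      Finset.sum_sub_distrib, sum_ei_mul, sum_ei_mul, sum_ei_mul, hgram, h0, h0, ei_self]
    ring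
  have hd : ∀ l, ∑ i, b l i * dg i = -1 := by
    intro l
    have : ∀ i, b l i * dg i = a l i * dg i - ei i0 i * dg i := by
      intro i; rw [hbdef]; ring
    rw [Finset.sum_congr rfl (fun i _ => this i), Finset.sum_sub_distrib, sum_ei_mul, hdeg, hd0]
    ring
  have hshape : ∀ l, ∃ X Y : I, l ≠ ν → (X ≠ Y ∧ ∀ i, b l i = ei X i - ei Y i) := by
    intro l
    by_cases hl : l = ν
    · exact ⟨i0, i0, fun h => absurd hl h⟩
    · have h2 : ∑ i, b l i ^ 2 = 2 := by
        have := hg l l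
        rw [if_pos rfl, if_neg (Ne.symm (hnr l hl))] at this
        simp only [sq]
        linarith
      obtain ⟨X, Y, hXY, hf⟩ := root_shape (b l) dg hdg h2 (hd l)
      exact ⟨X, Y, fun _ => ⟨hXY, hf⟩⟩
  choose X Y hXY using hshape
  have hshare : ∀ l m, l ≠ ν → m ≠ ν → X l = X m ∨ Y l = Y m := by
    intro l m hl hm
    apply root_share
    have := hg l m
    have e : ∑ i, (ei (X l) i - ei (Y l) i) * (ei (X m) i - ei (Y m) i) = ∑ i, b l i * b m i :=
      Finset.sum_congr rfl (fun i _ => by rw [(hXY l hl).2 i, (hXY m hm).2 i])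
    rw [e, this]
    split_ifs <;> norm_num
  obtain ⟨ε, Z, W, hε, hWZ, hb⟩ := existsP ν b X Y hXY hshare l0 hl0
  obtain ⟨-, -, hW2⟩ := core i0 cjL ν b hb0 hg ε Z W hε hWZ hb l0 hl0
  have hν3 : ∑ i, b ν i ^ 2 = 3 := by
    have := hg ν ν
    rw [if_pos rfl, if_pos hν.symm] at this
    simp only [sq]
    linarith
  have hνl : ∀ l, l ≠ ν → ∑ i, b ν i * b l i = 1 := by
    intro l hl
    have h1 := hg ν l
    have h2 : ¬ ν = cjL l := by
      intro h; apply hl; have := hcj l; rw [← h, hν] at this; exact this.symm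
    rw [if_neg (Ne.symm hl), if_neg h2] at h1
    linarith
  obtain ⟨ε', Z', W', hε', hWZ', hb', halt⟩ := nuShape i0 dg cjL hcj ν hν hnr b (hb0 ν) hν3 hνl hd
    ε Z W hε hWZ hb hW2 l0 hl0
  obtain ⟨hZ0, hW1, hW2'⟩ := core i0 cjL ν b hb0 hg ε' Z' W' hε' hWZ' hb' l0 hl0
  refine ⟨ε', Z', W', hε', hZ0, hW1, hW2', ?_, ?_⟩
  · intro l hl i; rw [hab l i, hb' l hl i]
  · rcases halt with ⟨c, d, bc, bd, h1, h2, h3, h4, h5, h6, h7, h8, h9⟩ | ⟨hc, V, η, h1, h2, h3, h4, h5⟩
    · left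
      exact ⟨c, d, bc, bd, h1, h2, h3, h4, h5, h6, h7, h8, fun i => by rw [hab ν i, h9 i]; ring⟩
    · right
      exact ⟨hc, V, η, h1, h2, h3, h4, fun i => by rw [hab ν i]; have := h5 i; linarith⟩

end Cfsg.Agent.Lib.Helper17_BSW_A3
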