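import Mathlib
import Cfsg.Agent.Lib.Helper77_BSWDefs
import Cfsg.Agent.S4478

/-!
# S3282 package B1 (helper21): defect zero and the elements not conjugate into `K`
-/

set_option autoImplicit false
open Cfsg
open scoped ComplexConjugate

namespace Cfsg.Agent.Lib.Helper21_BSW_B1

open Cfsg.Agent.Lib.Helper77_BSWDefs Cfsg.Agent.Lib.Helper80_CharBasic
  Cfsg.Agent.Lib.Helper3_CharComplete

/-- the full `p`-part of `N = a * b` divides `a` when `p ∤ b` -/
theorem ordProj_dvd_left {N a b p : ℕ} (hp : p.Prime) (hN : N = a * b) (hb : ¬ p ∣ b) :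
    p ^ N.factorization p ∣ a := by
  have h1 : p ^ N.factorization p ∣ a * b := hN ▸ Nat.ordProj_dvd N p
  have h2 : Nat.Coprime (p ^ N.factorization p) b :=
    Nat.Coprime.pow_left _ ((Nat.Prime.coprime_iff_not_dvd hp).mpr hb)
  exact h2.dvd_of_dvd_mul_right h1

theorem not_dvd_eps {ε : ℤ} (hε : ε = 1 ∨ ε = -1) {p : ℕ} (hp : p.Prime) : ¬ (p : ℤ) ∣ ε := by
  intro h
  have h1 : (p : ℤ) ∣ 1 := by
    rcases hε with rfl | rfl
    · exact h
    · exact (dvd_neg.mp h)
  have h2 : p ∣ 1 := by exact_mod_cast h1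
  exact hp.one_lt.ne' (Nat.dvd_one.mp h2)

section PartB

variable {G : Type*} [Group G] [Fintype G] {t s : G} {K : Subgroup G} {ε : ℤ} {q : ℕ}
  {St c d : IrrCharacter G} {Θ : Finset (IrrCharacter G)}

/-- the arithmetic of `CharData`: `|G| = 2 q k m` with `m = k + ε`, `k` even -/
theorem arith (D : CharData t K ε q St c d Θ) :
    ∃ m : ℕ, (m : ℤ) = (Nat.card K : ℤ) + ε ∧ Nat.card G = 2 * q * Nat.card K * m ∧
      Even (Nat.card K) ∧ 2 ≤ Nat.card K ∧ 0 < m ∧ 0 < q := by
  have hk := D.Θ_card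
  have hq := D.hq
  have hG := D.card_G
  set k := Nat.card K with hkdef
  have hev : Even k := ⟨Θ.card + 1, by omega⟩
  have hk2 : 2 ≤ k := by omega
  rcases D.hε with rfl | rfl
  · have hq' : q = 2 * k + 1 := by omega
    refine ⟨k + 1, by push_cast; ring, ?_, hev, hk2, by omega, by omega⟩
    have h2 : 2 * Nat.card G = 2 * (2 * q * k * (k + 1)) := by
      rw [hG, hq']
      have : 2 * k + 1 - 1 = 2 * k := by omega
      rw [this]
      ring
    omega
  · have hq' : q = 2 * k - 1 := by omega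
    refine ⟨k - 1, by push_cast [Nat.cast_sub (by omega : 1 ≤ k)]; ring, ?_, hev, hk2,
      by omega, by omega⟩
    obtain ⟨j, hj⟩ : ∃ j, k = j + 2 := ⟨k - 2, by omega⟩
    have hq'' : q = 2 * j + 3 := by omega
    have h2 : 2 * Nat.card G = 2 * (2 * q * k * (k - 1)) := by
      rw [hG, hq'', hj]
      have e1 : 2 * j + 3 - 1 = 2 * (j + 1) := by omega
      have e2 : j + 2 - 1 = j + 1 := by omega
      rw [e1, e2]
      ring
    omega

theorem St_eq_zero_of_dvd (D : CharData t K ε q St c d Θ) {p : ℕ} (hp : p.Prime) (hpq : p ∣ q)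
    {g : G} (hg : p ∣ orderOf g) : (St : G → ℂ) g = 0 := by
  obtain ⟨m, hm, hN, hev, hk2, hm0, hq0⟩ := arith D
  apply Cfsg.Agent.S4478.vanish St p hp ?_ g hg
  rw [Cfsg.Agent.Lib.Helper79_CharVals.charDegree_of_eq_natCast D.St_one]
  apply ordProj_dvd_left hp (a := q) (b := 2 * Nat.card K * m) (by rw [hN]; ring)
  intro hdvd
  have hpqZ : (p : ℤ) ∣ (q : ℤ) := by exact_mod_cast hpq
  have hq := D.hq
  apply not_dvd_eps D.hε hp
  rcases (Nat.Prime.dvd_mul hp).mp hdvd with h1 | h1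
  · have h2 : (p : ℤ) ∣ 2 * (Nat.card K : ℤ) := by exact_mod_cast h1
    have : ε = (q : ℤ) - 2 * (Nat.card K : ℤ) := by omega
    rw [this]
    exact dvd_sub hpqZ h2
  · have h2 : (p : ℤ) ∣ 2 * (m : ℤ) := dvd_mul_of_dvd_right (by exact_mod_cast h1) _
    have : ε = 2 * (m : ℤ) - (q : ℤ) := by omega
    rw [this]
    exact dvd_sub h2 hpqZ

theorem cd_eq_zero_of_dvd (D : CharData t K ε q St c d Θ) {r : ℕ} (hr : r.Prime)
    (hrk : (r : ℤ) ∣ (Nat.card K : ℤ) + ε) {g : G} (hg : r ∣ orderOf g) :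
    (c : G → ℂ) g = 0 ∧ (d : G → ℂ) g = 0 := by
  obtain ⟨m, hm, hN, hev, hk2, hm0, hq0⟩ := arith D
  have hq := D.hq
  have hrm : r ∣ m := by
    rw [← hm] at hrk
    exact_mod_cast hrk
  have hrmZ : (r : ℤ) ∣ (m : ℤ) := by exact_mod_cast hrm
  have hqC : (q : ℂ) = 2 * (Nat.card K : ℂ) + (ε : ℂ) := by
    have := congrArg (fun z : ℤ => (z : ℂ)) hq
    push_cast at this
    exact this
  have hmC : (m : ℂ) = (Nat.card K : ℂ) + (ε : ℂ) := by
    have := congrArg (fun z : ℤ => (z : ℂ)) hm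
    push_cast at this
    exact this
  have hc1 : (c : G → ℂ) 1 = (m : ℕ) := by
    have := D.c_one
    rw [hqC] at this
    rw [hmC]
    linear_combination (1 / 2 : ℂ) * this
  have hd1 : (d : G → ℂ) 1 = (m : ℕ) := by
    have := D.d_one
    rw [hqC] at this
    rw [hmC]
    linear_combination (1 / 2 : ℂ) * this
  have hdiv : r ^ (Nat.card G).factorization r ∣ m := by
    apply ordProj_dvd_left hr (a := m) (b := 2 * q * Nat.card K) (by rw [hN]; ring)
    intro hdvd
    apply not_dvd_eps D.hε hr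
    have hkZ : (r : ℤ) ∣ (Nat.card K : ℤ) → (r : ℤ) ∣ ε := by
      intro h2
      have : ε = (m : ℤ) - (Nat.card K : ℤ) := by omega
      rw [this]
      exact dvd_sub hrmZ h2
    rcases (Nat.Prime.dvd_mul hr).mp hdvd with h1 | h1
    · rcases (Nat.Prime.dvd_mul hr).mp h1 with h2 | h2
      · have h3 : r = 2 := (Nat.prime_dvd_prime_iff_eq hr Nat.prime_two).mp h2
        subst h3
        apply hkZ
        exact_mod_cast even_iff_two_dvd.mp hev
      · have h3 : (r : ℤ) ∣ (q : ℤ) := by exact_mod_cast h2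
        have : ε = 2 * (m : ℤ) - (q : ℤ) := by omega
        rw [this]
        exact dvd_sub (dvd_mul_of_dvd_right hrmZ _) h3
    · exact hkZ (by exact_mod_cast h1)
  constructor
  · apply Cfsg.Agent.S4478.vanish c r hr ?_ g hg
    rw [Cfsg.Agent.Lib.Helper79_CharVals.charDegree_of_eq_natCast hc1]
    exact hdiv
  · apply Cfsg.Agent.S4478.vanish d r hr ?_ g hg
    rw [Cfsg.Agent.Lib.Helper79_CharVals.charDegree_of_eq_natCast hd1]
    exact hdiv

theorem conjInto_one : ConjInto K (1 : G) := ⟨1, by simp⟩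

theorem conjInto_of_conj {g : G} (x : G) (h : ConjInto K (x⁻¹ * g * x)) : ConjInto K g := by
  obtain ⟨y, hy⟩ := h
  refine ⟨x * y, ?_⟩
  have : (x * y)⁻¹ * g * (x * y) = y⁻¹ * (x⁻¹ * g * x) * y := by group
  rw [this]
  exact hy

theorem conjInto_of_dvd (h : Setup t s K) (hB : Basics t s K) (D : CharData t K ε q St c d Θ)
    {l : ℕ} (hl : l.Prime) (hlk : l ∣ 2 * Nat.card K) {g : G} (hg : l ∣ orderOf g) :
    ConjInto K g := by
  obtain ⟨m, hm, hN, hev, hk2, hm0, hq0⟩ := arith D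
  have hq := D.hq
  by_cases hl2 : l = 2
  · subst hl2
    exact hB.conjInto_of_even g hg
  have hlK : l ∣ Nat.card K := by
    rcases (Nat.Prime.dvd_mul hl).mp hlk with h1 | h1
    · exact absurd ((Nat.prime_dvd_prime_iff_eq hl Nat.prime_two).mp h1) hl2
    · exact h1
  have hlKZ : (l : ℤ) ∣ (Nat.card K : ℤ) := by exact_mod_cast hlK
  haveI : Fact l.Prime := ⟨hl⟩
  -- a Sylow `l`-subgroup of `G` inside `K`
  obtain ⟨P₀⟩ : Nonempty (Sylow l ↥K) := inferInstance
  have hP₀ : Nat.card (P₀ : Subgroup ↥K) = l ^ (Nat.card K).factorization l :=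
    P₀.card_eq_multiplicity
  have hfac : (Nat.card G).factorization l = (Nat.card K).factorization l := by
    have hk0 : Nat.card K ≠ 0 := by omega
    have hnd : ¬ l ∣ 2 * q * m := by
      intro hdvd
      apply not_dvd_eps D.hε hl
      rcases (Nat.Prime.dvd_mul hl).mp hdvd with h1 | h1
      · rcases (Nat.Prime.dvd_mul hl).mp h1 with h2 | h2
        · exact absurd ((Nat.prime_dvd_prime_iff_eq hl Nat.prime_two).mp h2) hl2
        · have h3 : (l : ℤ) ∣ (q : ℤ) := by exact_mod_cast h2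
          have : ε = (q : ℤ) - 2 * (Nat.card K : ℤ) := by omega
          rw [this]
          exact dvd_sub h3 (dvd_mul_of_dvd_right hlKZ _)
      · have h3 : (l : ℤ) ∣ (m : ℤ) := by exact_mod_cast h1
        have : ε = (m : ℤ) - (Nat.card K : ℤ) := by omega
        rw [this]
        exact dvd_sub h3 hlKZ
    have hN' : Nat.card G = Nat.card K * (2 * q * m) := by rw [hN]; ring
    rw [hN', Nat.factorization_mul hk0 (by positivity)]
    simp [Nat.factorization_eq_zero_of_not_dvd hnd]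
  let P₁ : Subgroup G := (P₀ : Subgroup ↥K).map K.subtype
  have hP₁K : P₁ ≤ K := by
    rintro x ⟨y, _, rfl⟩
    exact y.2
  have hP₁card : Nat.card P₁ = l ^ (Nat.card G).factorization l := by
    rw [hfac, ← hP₀]
    exact Subgroup.card_map_of_injective K.subtype_injective
  let P : Sylow l G := Sylow.ofCard P₁ hP₁card
  -- the element `z` of order `l`
  obtain ⟨n, hn⟩ := hg
  have hn0 : 0 < n := by
    rcases Nat.eq_zero_or_pos n with h0 | h0
    · rw [h0, mul_zero] at hn
      exact absurd hn (orderOf_pos g).ne'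
    · exact h0
  set z := g ^ n with hz
  have hzord : orderOf z = l := by
    rw [hz, orderOf_pow' g hn0.ne', hn, Nat.gcd_eq_right (Dvd.intro_left l rfl)]
    exact Nat.mul_div_cancel l hn0
  have hzP : IsPGroup l (Subgroup.zpowers z) := by
    rw [IsPGroup.iff_card, Nat.card_zpowers, hzord]
    exact ⟨1, (pow_one l).symm⟩
  obtain ⟨Q, hQ⟩ := hzP.exists_le_sylow
  obtain ⟨x, hx⟩ := MulAction.exists_smul_eq G Q P
  have hzQ : z ∈ (Q : Subgroup G) := hQ (Subgroup.mem_zpowers z)
  have hxz : x * z * x⁻¹ ∈ K := by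
    apply hP₁K
    have h1 : x * z * x⁻¹ ∈ ((x • Q : Sylow l G) : Subgroup G) := by
      rw [Sylow.coe_subgroup_smul]
      have h2 := Subgroup.smul_mem_pointwise_smul z (MulAut.conj x) (Q : Subgroup G) hzQ
      rwa [MulAut.smul_def, MulAut.conj_apply] at h2
    rw [hx] at h1
    exact h1
  -- now `x g x⁻¹` centralizes `y = x z x⁻¹ ∈ K ∖ 1`
  have hy1 : x * z * x⁻¹ ≠ 1 := by
    intro h1
    have : z = 1 := by
      have : z = x⁻¹ * (x * z * x⁻¹) * x := by group
      rw [this, h1]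
      group
    rw [this, orderOf_one] at hzord
    exact hl.one_lt.ne hzord
  have hcent : x * g * x⁻¹ ∈ Subgroup.centralizer ({x * z * x⁻¹} : Set G) := by
    rw [Subgroup.mem_centralizer_singleton_iff]
    have hgz : g * z = z * g := by
      rw [hz, ← pow_succ', ← pow_succ]
    calc x * g * x⁻¹ * (x * z * x⁻¹) = x * (g * z) * x⁻¹ := by group
      _ = x * (z * g) * x⁻¹ := by rw [hgz]
      _ = x * z * x⁻¹ * (x * g * x⁻¹) := by group
  have hH := hB.centralizer_le _ hxz hy1 hcent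
  have h3 := hB.conjInto_of_mem_H _ hH
  apply conjInto_of_conj x⁻¹
  rw [inv_inv]
  exact h3

theorem St_off (h : Setup t s K) (hB : Basics t s K) (D : CharData t K ε q St c d Θ) {g : G}
    (hg : ¬ ConjInto K g) :
    ((St : G → ℂ) g = 0 ∧ ¬ Nat.Coprime (orderOf g) q) ∨
      ((St : G → ℂ) g = -(ε : ℂ) ∧ Nat.Coprime (orderOf g) q) := by
  obtain ⟨m, hm, hN, hev, hk2, hm0, hq0⟩ := arith D
  by_cases hcop : Nat.Coprime (orderOf g) q
  · right
    refine ⟨?_, hcop⟩
    have hg1 : g ≠ 1 := by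
      rintro rfl
      exact hg conjInto_one
    have ho1 : orderOf g ≠ 1 := by
      rwa [Ne, orderOf_eq_one_iff]
    obtain ⟨r, hr, hrg⟩ := Nat.exists_prime_and_dvd ho1
    have hrN : r ∣ Nat.card G := hrg.trans (orderOf_dvd_natCard g)
    have hrm : r ∣ m := by
      rw [hN] at hrN
      rcases (Nat.Prime.dvd_mul hr).mp hrN with h1 | h1
      · exfalso
        have h2 : r ∣ 2 * Nat.card K * q := by
          have : 2 * q * Nat.card K = 2 * Nat.card K * q := by ring
          rwa [this] at h1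
        rcases (Nat.Prime.dvd_mul hr).mp h2 with h3 | h3
        · exact hg (conjInto_of_dvd h hB D hr h3 hrg)
        · have : r ∣ Nat.gcd (orderOf g) q := Nat.dvd_gcd hrg h3
          rw [hcop] at this
          exact hr.one_lt.ne' (Nat.dvd_one.mp this)
      · exact h1
    have hrk : (r : ℤ) ∣ (Nat.card K : ℤ) + ε := by
      rw [← hm]
      exact_mod_cast hrm
    obtain ⟨hc0, hd0⟩ := cd_eq_zero_of_dvd D hr hrk hrg
    have := D.cd_off g hg
    rw [hc0, hd0] at this
    linear_combination -this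
  · left
    refine ⟨?_, hcop⟩
    obtain ⟨p, hp, hpg, hpq⟩ := Nat.Prime.not_coprime_iff_dvd.mp hcop
    exact St_eq_zero_of_dvd D hp hpq hpg

end PartB

end Cfsg.Agent.Lib.Helper21_BSW_B1
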