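import Mathlib
import Cfsg.Agent.Lib.Helper77_BSWDefs
import Cfsg.Agent.Lib.Helper21_BSW_B1

/-!
# S3282 package B3 (helper21): the number of involutions inverting an element not conjugate
into `K`
-/

set_option autoImplicit false
open Cfsg
open scoped ComplexConjugate

namespace Cfsg.Agent.Lib.Helper21_BSW_B3

open Cfsg.Agent.Lib.Helper77_BSWDefs Cfsg.Agent.Lib.Helper80_CharBasic
  Cfsg.Agent.Lib.Helper3_CharComplete

section PartB

variable {G : Type*} [Group G] [Fintype G] {t s : G} {K : Subgroup G} {ε : ℤ} {q : ℕ}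
  {St c d : IrrCharacter G} {Θ : Finset (IrrCharacter G)}

/-- the sum over all irreducible characters splits along `1, St, c, d, Θ, others` -/
theorem sum_split (D : CharData t K ε q St c d Θ) (f : IrrCharacter G → ℂ)
    (h0 : ∀ χ : IrrCharacter G, χ ≠ oneIrr G → χ ≠ St → χ ≠ c → χ ≠ d → χ ∉ Θ → f χ = 0) :
    ∑ χ : IrrCharacter G, f χ = f (oneIrr G) + (f St + (f c + (f d + ∑ θ ∈ Θ, f θ))) := by
  classical
  set T : Finset (IrrCharacter G) := insert (oneIrr G) (insert St (insert c (insert d Θ))) with hT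
  have h0' : ∀ χ ∈ (Finset.univ \ T), f χ = 0 := by
    intro χ hχ
    simp only [hT, Finset.mem_sdiff, Finset.mem_univ, true_and, Finset.mem_insert, not_or] at hχ
    obtain ⟨h1, h2, h3, h4, h5⟩ := hχ
    exact h0 χ h1 h2 h3 h4 h5
  have n1 : oneIrr G ∉ insert St (insert c (insert d Θ)) := by
    simp only [Finset.mem_insert, not_or]
    exact ⟨D.St_ne_one.symm, D.c_ne_one.symm, D.d_ne_one.symm, D.one_notMem⟩
  have n2 : St ∉ insert c (insert d Θ) := by
    simp only [Finset.mem_insert, not_or]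
    exact ⟨D.St_ne_c, D.St_ne_d, D.St_notMem⟩
  have n3 : c ∉ insert d Θ := by
    simp only [Finset.mem_insert, not_or]
    exact ⟨D.c_ne_d, D.c_notMem⟩
  rw [← Finset.sum_sdiff (Finset.subset_univ T), Finset.sum_eq_zero h0', zero_add, hT,
    Finset.sum_insert n1, Finset.sum_insert n2, Finset.sum_insert n3,
    Finset.sum_insert D.d_notMem]

theorem invCount_off (h : Setup t s K) (hB : Basics t s K) (D : CharData t K ε q St c d Θ)
    (hoff : ∀ g : G, ¬ ConjInto K g → (St : G → ℂ) g = 0 ∨ (St : G → ℂ) g = -(ε : ℂ))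
    (hpc : ∀ g : G, (pairCount g : ℂ) * (Nat.card (Subgroup.centralizer ({t} : Set G)) : ℂ) ^ 2 =
      (Nat.card G : ℂ) * ∑ χ : IrrCharacter G,
        ((χ : G → ℂ) t) ^ 2 * conj ((χ : G → ℂ) g) / (χ : G → ℂ) 1)
    (hpi : ∀ g : G, orderOf g ≠ 2 → pairCount g = invCount g)
    {g : G} (hg : ¬ ConjInto K g) :
    (invCount g : ℂ) = ((q : ℂ) - 1) / 2 * (St : G → ℂ) g + (1 + (ε : ℂ)) / 2 * (q : ℂ) := by
  classical
  obtain ⟨m, hm, hN, hev, hk2, hm0, hq0⟩ := Cfsg.Agent.Lib.Helper21_BSW_B1.arith D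
  have hg2 : orderOf g ≠ 2 := fun h2 => hg (hB.conjInto_of_even g (by rw [h2]))
  rw [← hpi g hg2]
  have htK : ConjInto K t := ⟨1, by simpa using h.htK⟩
  have ht1 : t ≠ 1 := by
    intro h1
    have := h.ht
    rw [h1, orderOf_one] at this
    omega
  have hpcg := hpc g
  have hoffg := hoff g hg
  set x := (St : G → ℂ) g with hx
  have hxreal : conj x = x := by
    rcases hoffg with h0 | h0
    · rw [h0]; simp
    · rw [h0]; simp
  have hεreal : conj (ε : ℂ) = (ε : ℂ) := map_intCast (starRingEnd ℂ) ε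
  have hε2 : (ε : ℂ) ^ 2 = 1 := by
    rcases D.hε with rfl | rfl <;> norm_num
  have hc1 : (c : G → ℂ) 1 = ((q : ℂ) + ε) / 2 := by
    have := D.c_one
    linear_combination (1 / 2 : ℂ) * this
  have hd1 : (d : G → ℂ) 1 = ((q : ℂ) + ε) / 2 := by
    have := D.d_one
    linear_combination (1 / 2 : ℂ) * this
  have hct2 : (c : G → ℂ) t ^ 2 = 1 := by
    rcases D.c_K t htK ht1 with h1 | h1 <;> rw [h1] <;> norm_num
  have hdt2 : (d : G → ℂ) t ^ 2 = 1 := by
    rw [D.d_K t htK ht1, hct2]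
  have hsum : ∑ χ : IrrCharacter G,
        ((χ : G → ℂ) t) ^ 2 * conj ((χ : G → ℂ) g) / (χ : G → ℂ) 1 =
      1 + x / q + 2 * (x + ε) / ((q : ℂ) + ε) + Θ.card * (4 * (x + ε) / ((q : ℂ) + ε)) := by
    rw [sum_split D]
    · have e1 : ((oneIrr G : IrrCharacter G) : G → ℂ) t ^ 2 *
          conj (((oneIrr G : IrrCharacter G) : G → ℂ) g) /
          ((oneIrr G : IrrCharacter G) : G → ℂ) 1 = 1 := by
        simp [oneIrr]
      have e2 : (St : G → ℂ) t ^ 2 * conj ((St : G → ℂ) g) / (St : G → ℂ) 1 = x / q := by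
        rw [D.St_K t htK ht1, D.St_one, hxreal, hε2, one_mul]
      have e34 : (c : G → ℂ) t ^ 2 * conj ((c : G → ℂ) g) / (c : G → ℂ) 1 +
          ((d : G → ℂ) t ^ 2 * conj ((d : G → ℂ) g) / (d : G → ℂ) 1) =
          2 * (x + ε) / ((q : ℂ) + ε) := by
        rw [hct2, hdt2, hc1, hd1, one_mul, one_mul, ← add_div, ← map_add, D.cd_off g hg,
          map_add, hxreal, hεreal]
        rw [div_div_eq_mul_div, mul_comm]
      have e5 : ∑ θ ∈ Θ, (θ : G → ℂ) t ^ 2 * conj ((θ : G → ℂ) g) / (θ : G → ℂ) 1 =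
          Θ.card * (4 * (x + ε) / ((q : ℂ) + ε)) := by
        rw [Finset.sum_congr rfl (fun θ hθ => by
          rw [D.Θ_t θ hθ, D.Θ_off θ hθ g hg, D.Θ_one θ hθ, map_add, hxreal, hεreal]),
          Finset.sum_const, nsmul_eq_mul]
      rw [e1, e2, ← add_assoc ((c : G → ℂ) t ^ 2 * conj ((c : G → ℂ) g) / (c : G → ℂ) 1),
        e34, e5]
      ring
    · intro χ h1 h2 h3 h4 h5
      rw [D.others χ h1 h2 h3 h4 h5 t htK ht1]
      simp
  rw [hsum, hB.card_H] at hpcg
  have hΘ := D.Θ_card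
  have hq := D.hq
  set n := Θ.card with hn
  have hk : Nat.card K = 2 * n + 2 := by omega
  rcases D.hε with rfl | rfl
  · -- ε = 1 : q = 4 n + 5
    have hq' : q = 4 * n + 5 := by omega
    have hm' : m = 2 * n + 3 := by omega
    rw [hN, hk, hq', hm'] at hpcg
    rw [hq']
    push_cast at hpcg ⊢
    have hne1 : (4 * (n : ℂ) + 5) ≠ 0 := by exact_mod_cast (by omega : 4 * n + 5 ≠ 0)
    have hne2 : (4 * (n : ℂ) + 5 + 1) ≠ 0 := by exact_mod_cast (by omega : 4 * n + 5 + 1 ≠ 0)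
    have hne3 : (2 * (2 * (n : ℂ) + 2)) ^ 2 ≠ 0 := by
      apply pow_ne_zero
      exact_mod_cast (by omega : 2 * (2 * n + 2) ≠ 0)
    apply mul_right_cancel₀ hne3
    rw [hpcg]
    rcases hoffg with h0 | h0
    · rw [h0]
      field_simp
      ring
    · rw [h0]
      push_cast
      field_simp
      ring
  · -- ε = -1 : q = 4 n + 3
    have hq' : q = 4 * n + 3 := by omega
    have hm' : m = 2 * n + 1 := by omega
    rw [hN, hk, hq', hm'] at hpcg
    rw [hq']
    push_cast at hpcg ⊢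
    have hne1 : (4 * (n : ℂ) + 3) ≠ 0 := by exact_mod_cast (by omega : 4 * n + 3 ≠ 0)
    have hne2 : (4 * (n : ℂ) + 3 + -1) ≠ 0 := by
      have : (4 * (n : ℂ) + 3 + -1) = ((4 * n + 2 : ℕ) : ℂ) := by push_cast; ring
      rw [this]
      exact_mod_cast (by omega : 4 * n + 2 ≠ 0)
    have hne3 : (2 * (2 * (n : ℂ) + 2)) ^ 2 ≠ 0 := by
      apply pow_ne_zero
      exact_mod_cast (by omega : 2 * (2 * n + 2) ≠ 0)
    apply mul_right_cancel₀ hne3
    rw [hpcg]
    rcases hoffg with h0 | h0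
    · rw [h0]
      field_simp
      ring
    · rw [h0]
      push_cast
      field_simp
      ring

end PartB

end Cfsg.Agent.Lib.Helper21_BSW_B3
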