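import Mathlib
import Cfsg.Agent.Lib.Helper77_BSWDefs
import Cfsg.Agent.Lib.Helper3_CharEigen

/-!
# S3282 package B5c (helper21): `d` is the complex conjugate of `c`, case `ε = -1`
-/

set_option autoImplicit false
open Cfsg
open scoped ComplexConjugate

namespace Cfsg.Agent.Lib.Helper21_BSW_B5c

open Cfsg.Agent.Lib.Helper77_BSWDefs Cfsg.Agent.Lib.Helper80_CharBasic
  Cfsg.Agent.Lib.Helper3_CharComplete

/-- A rational number that is an algebraic integer is an integer. -/
theorem int_of_isIntegral_rat (r : ℚ) (h : IsIntegral ℤ ((r : ℂ))) : ∃ z : ℤ, r = z := by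
  have h1 : ((r : ℂ)) = algebraMap ℚ ℂ r := rfl
  rw [h1] at h
  have h2 : IsIntegral ℤ r := (isIntegral_algebraMap_iff (algebraMap ℚ ℂ).injective).mp h
  obtain ⟨y, hy⟩ := IsIntegrallyClosed.isIntegral_iff.mp h2
  exact ⟨y, hy.symm⟩

theorem isIntegral_irr_apply {G : Type*} [Group G] [Finite G] (χ : IrrCharacter G) (g : G) :
    IsIntegral ℤ ((χ : G → ℂ) g) := by
  obtain ⟨n, ρ, hirr, hρ⟩ := χ.2
  rw [← hρ]
  exact Cfsg.Agent.Lib.Helper3_CharEigen.isIntegral_char ρ g

section PartB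

variable {G : Type*} [Group G] [Fintype G] {t s : G} {K : Subgroup G} {q : ℕ}
  {St c d : IrrCharacter G} {Θ : Finset (IrrCharacter G)}

theorem cj_oneIrr : cj (oneIrr G) = oneIrr G := by
  apply Subtype.ext
  funext g
  simp [oneIrr]

/-- the conjugate of an irreducible character of degree `(q-1)/2` that is `±1` at `t` is `c` or
`d` -/
theorem cj_mem (h : Setup t s K) (D : CharData t K (-1) q St c d Θ) (χ : IrrCharacter G)
    (hχ1 : 2 * (χ : G → ℂ) 1 = (q : ℂ) + ((-1 : ℤ) : ℂ)) (hχ : χ ≠ oneIrr G)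
    (hχt : (χ : G → ℂ) t = 1 ∨ (χ : G → ℂ) t = -1) : cj χ = c ∨ cj χ = d := by
  have hΘ := D.Θ_card
  have hq := D.hq
  have hk2 : 2 ≤ Nat.card K := by omega
  have hq3 : 3 ≤ q := by omega
  have hq3C : (3 : ℝ) ≤ (q : ℝ) := by exact_mod_cast hq3
  have htK : ConjInto K t := ⟨1, by simpa using h.htK⟩
  have ht1 : t ≠ 1 := by
    intro h1
    have := h.ht
    rw [h1, orderOf_one] at this
    omega
  have hdeg : 2 * (cj χ : G → ℂ) 1 = (q : ℂ) - 1 := by
    have : (cj χ : G → ℂ) 1 = conj ((χ : G → ℂ) 1) := rfl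
    rw [this]
    have h3 : conj ((χ : G → ℂ) 1) = (χ : G → ℂ) 1 := by
      obtain ⟨n, _, hn⟩ := irr_apply_one χ
      rw [hn]
      simp
    rw [h3]
    push_cast at hχ1
    linear_combination hχ1
  by_contra hcon
  push Not at hcon
  obtain ⟨hc, hd⟩ := hcon
  have h1 : cj χ ≠ oneIrr G := by
    intro h1
    apply hχ
    have := congrArg cj h1
    rw [cj, Cfsg.Agent.Lib.Helper3_RealClasses.conjIrr_conjIrr] at this
    rw [this]
    exact cj_oneIrr
  have h2 : cj χ ≠ St := by
    intro h2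
    rw [h2, D.St_one] at hdeg
    have h3 : (q : ℂ) = -1 := by linear_combination hdeg
    have h4 : (q : ℝ) = -1 := by exact_mod_cast h3
    linarith
  have h3 : cj χ ∉ Θ := by
    intro h3
    have h4 := D.Θ_one _ h3
    rw [h4] at hdeg
    push_cast at hdeg
    have h5 : (q : ℂ) = 1 := by linear_combination hdeg
    have h6 : (q : ℝ) = 1 := by exact_mod_cast h5
    linarith
  have h4 := D.others (cj χ) h1 h2 hc hd h3 t htK ht1
  have h5 : (cj χ : G → ℂ) t = conj ((χ : G → ℂ) t) := rfl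
  rw [h5] at h4
  rcases hχt with h6 | h6 <;> rw [h6] at h4 <;> simp at h4

theorem conj_c_eq_d (h : Setup t s K) (hB : Basics t s K) (D : CharData t K (-1) q St c d Θ)
    (y : G) (hy : ¬ ConjInto K y) (hy0 : (St : G → ℂ) y = 0)
    (hnorm : (c : G → ℂ) y * conj ((c : G → ℂ) y) + (d : G → ℂ) y * conj ((d : G → ℂ) y) =
        ((q : ℂ) + 1) / 2) :
    ∀ g : G, conj ((c : G → ℂ) g) = (d : G → ℂ) g := by
  have htK : ConjInto K t := ⟨1, by simpa using h.htK⟩
  have ht1 : t ≠ 1 := by
    intro h1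
    have := h.ht
    rw [h1, orderOf_one] at this
    omega
  have hct := D.c_K t htK ht1
  have hdt : (d : G → ℂ) t = 1 ∨ (d : G → ℂ) t = -1 := by
    rw [D.d_K t htK ht1]
    exact hct
  have hcc := cj_mem h D c D.c_one D.c_ne_one hct
  have hdd := cj_mem h D d D.d_one D.d_ne_one hdt
  rcases hcc with hcc | hcc
  · -- `conj c = c`: contradiction
    exfalso
    have hdd' : cj d = d := by
      rcases hdd with hdd | hdd
      · exfalso
        apply D.c_ne_d
        have := congrArg cj hdd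
        rw [cj, Cfsg.Agent.Lib.Helper3_RealClasses.conjIrr_conjIrr] at this
        rw [this]
        exact hcc.symm
      · exact hdd
    have hcy : conj ((c : G → ℂ) y) = (c : G → ℂ) y := by
      have : (cj c : G → ℂ) y = conj ((c : G → ℂ) y) := rfl
      rw [← this, hcc]
    have hdy : conj ((d : G → ℂ) y) = (d : G → ℂ) y := by
      have : (cj d : G → ℂ) y = conj ((d : G → ℂ) y) := rfl
      rw [← this, hdd']
    rw [hcy, hdy] at hnorm
    have hsum := D.cd_off y hy
    rw [hy0] at hsum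
    push_cast at hsum
    have hprod : (c : G → ℂ) y * (d : G → ℂ) y = (((1 - (q : ℚ)) / 4 : ℚ) : ℂ) := by
      push_cast
      have e1 : (c : G → ℂ) y + (d : G → ℂ) y = -1 := by linear_combination hsum
      linear_combination (1 / 2 : ℂ) * ((c : G → ℂ) y + (d : G → ℂ) y - 1) * e1 -
        (1 / 2 : ℂ) * hnorm
    have hint : IsIntegral ℤ ((((1 - (q : ℚ)) / 4 : ℚ) : ℂ)) := by
      rw [← hprod]
      exact (isIntegral_irr_apply c y).mul (isIntegral_irr_apply d y)
    obtain ⟨z, hz⟩ := int_of_isIntegral_rat _ hint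
    have hΘ := D.Θ_card
    have hq := D.hq
    have hz2 : (1 : ℤ) - (q : ℤ) = 4 * z := by
      have : ((1 : ℚ) - (q : ℚ)) = 4 * (z : ℚ) := by linarith
      exact_mod_cast this
    omega
  · intro g
    have : (cj c : G → ℂ) g = conj ((c : G → ℂ) g) := rfl
    rw [← this, hcc]

end PartB

end Cfsg.Agent.Lib.Helper21_BSW_B5c
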