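import Mathlib
import Cfsg.Agent.Lib.Helper77_BSWDefs
import Cfsg.Agent.Lib.Helper2_BSW_Common

/-!
# S3282 package B6a : the family of centralizers (helper2)
-/

set_option autoImplicit false
set_option linter.unusedVariables false
set_option linter.unusedSectionVars false

namespace Cfsg.Agent.Lib.Helper2_BSW_B6a

open Cfsg.Agent.Lib.Helper77_BSWDefs Cfsg.Agent.Lib.Helper2_BSW_Common

/-- The centralizer of an element. -/
abbrev Cn {G : Type*} [Group G] (x : G) : Subgroup G := Subgroup.centralizer ({x} : Set G)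

/-- The hypotheses of B6a. -/
structure Hyp {G : Type*} [Group G] [Fintype G] (q : ℕ) (S : Finset G) : Prop where
  hq3 : 3 ≤ q
  hS1 : (1 : G) ∉ S
  hSconj : ∀ v ∈ S, ∀ x : G, x * v * x⁻¹ ∈ S
  hcardG : 2 * Nat.card G = q * (q + 1) * (q - 1)
  hcard : S.card = q ^ 2 - 1
  hcent : ∀ x ∈ S, Nat.card (Cn x) = q
  hmem : ∀ x ∈ S, ∀ z ∈ Cn x, z ≠ 1 → z ∈ S
  hcomm : ∀ x ∈ S, ∀ a ∈ Cn x, ∀ b ∈ Cn x, a * b = b * a

namespace Hyp

variable {G : Type*} [Group G] [Fintype G] {q : ℕ} {S : Finset G}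

theorem self_mem (x : G) : x ∈ Cn x := Subgroup.mem_centralizer_singleton_iff.2 rfl

theorem F1 (H : Hyp q S) {x : G} (hx : x ∈ S) {z : G} (hz : z ∈ Cn x) (hz1 : z ≠ 1) :
    z ∈ S ∧ Cn z = Cn x := by
  have hzS := H.hmem x hx z hz hz1
  refine ⟨hzS, ?_⟩
  symm
  apply Subgroup.eq_of_le_of_card_ge
  · intro a ha
    exact Subgroup.mem_centralizer_singleton_iff.2 (H.hcomm x hx a ha z hz)
  · rw [H.hcent z hzS, H.hcent x hx]

theorem ti (H : Hyp q S) {x0 x1 : G} (h0 : x0 ∈ S) (h1 : x1 ∈ S) {z : G} (hz0 : z ∈ Cn x0)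
    (hz1 : z ∈ Cn x1) (hz : z ≠ 1) : Cn x0 = Cn x1 := by
  rw [← (H.F1 h0 hz0 hz).2, ← (H.F1 h1 hz1 hz).2]

theorem inf_eq_bot (H : Hyp q S) {x0 x1 : G} (h0 : x0 ∈ S) (h1 : x1 ∈ S)
    (hne : Cn x0 ≠ Cn x1) : Cn x0 ⊓ Cn x1 = ⊥ := by
  rw [eq_bot_iff]
  rintro z ⟨hz0, hz1⟩
  rw [Subgroup.mem_bot]
  by_contra hz
  exact hne (H.ti h0 h1 hz0 hz1 hz)

theorem conj_mem (H : Hyp q S) {x : G} (hx : x ∈ S) (g : G) :
    g * x * g⁻¹ ∈ S ∧ Cn (g * x * g⁻¹) = mc g (Cn x) :=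
  ⟨H.hSconj x hx g, centralizer_conj g x⟩

theorem q_pos (H : Hyp q S) : 0 < q := by have := H.hq3; omega

theorem coprime_q (H : Hyp q S) : Nat.Coprime q ((q + 1) * (q - 1)) := by
  have hq := H.hq3
  apply Nat.Coprime.mul_right
  · simp
  · have : q = (q - 1) + 1 := by omega
    rw [Nat.coprime_comm]
    nth_rewrite 2 [this]
    simp

/-- Semiregularity. -/
theorem semireg (H : Hyp q S) {x0 x1 : G} (h0 : x0 ∈ S) (h1 : x1 ∈ S) (hne : Cn x0 ≠ Cn x1)
    {z : G} (hz : z ∈ Cn x0) (hzN : z ∈ Subgroup.normalizer ((Cn x1 : Subgroup G) : Set G)) :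
    z = 1 := by
  have hle : Subgroup.zpowers z ≤ Subgroup.normalizer ((Cn x1 : Subgroup G) : Set G) :=
    (Subgroup.zpowers_le).2 hzN
  have hset := Subgroup.coe_mul_of_right_le_normalizer_left (Cn x1) (Subgroup.zpowers z) hle
  have hbot : Cn x1 ⊓ Subgroup.zpowers z = ⊥ := by
    rw [eq_bot_iff, ← H.inf_eq_bot h0 h1 hne, inf_comm]
    exact inf_le_inf_right _ ((Subgroup.zpowers_le).2 hz)
  obtain ⟨hc, -⟩ := card_of_factor (A := Cn x1) (B := Subgroup.zpowers z)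
    (N := Cn x1 ⊔ Subgroup.zpowers z) le_sup_left le_sup_right hbot (by
      intro n hn
      have : n ∈ ((Cn x1 ⊔ Subgroup.zpowers z : Subgroup G) : Set G) := hn
      rw [hset, Set.mem_mul] at this
      obtain ⟨a, ha, b, hb, hab⟩ := this
      exact ⟨a, ha, b, hb, hab.symm⟩)
  rw [H.hcent x1 h1, Nat.card_zpowers] at hc
  have hd1 : q * orderOf z ∣ q * ((q + 1) * (q - 1)) := by
    rw [← hc, ← mul_assoc, ← H.hcardG]
    exact Dvd.dvd.mul_left (Subgroup.card_subgroup_dvd_card _) 2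
  have hd2 : orderOf z ∣ (q + 1) * (q - 1) := Nat.dvd_of_mul_dvd_mul_left H.q_pos hd1
  have hd3 : orderOf z ∣ q := by
    rw [← H.hcent x0 h0]
    have := orderOf_dvd_natCard (⟨z, hz⟩ : ↥(Cn x0))
    rwa [Subgroup.orderOf_mk] at this
  have hd4 := Nat.dvd_gcd hd3 hd2
  rw [H.coprime_q] at hd4
  exact orderOf_eq_one_iff.1 (Nat.dvd_one.1 hd4)

open Classical in
/-- The family of centralizers. -/
noncomputable def fam (S : Finset G) : Finset (Subgroup G) := S.image Cn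

open Classical in
theorem mem_fam {R : Subgroup G} : R ∈ fam S ↔ ∃ x ∈ S, Cn x = R := by
  unfold fam; exact Finset.mem_image

open Classical in
theorem card_filter_mem (R : Subgroup G) :
    (Finset.univ.filter (fun z : G => z ∈ R)).card = Nat.card R := by
  rw [Nat.card_eq_fintype_card, Fintype.card_subtype]

open Classical in
theorem card_fam (H : Hyp q S) : (fam S).card = q + 1 := by
  have hq := H.hq3
  have h1 := Finset.card_eq_sum_card_image (Cn : G → Subgroup G) S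
  have h2 : ∀ b ∈ S.image (Cn : G → Subgroup G),
      (S.filter (fun a => Cn a = b)).card = q - 1 := by
    intro b hb
    obtain ⟨x, hx, rfl⟩ := Finset.mem_image.1 hb
    have e : S.filter (fun a => Cn a = Cn x) =
        (Finset.univ.filter (fun z : G => z ∈ Cn x)).erase 1 := by
      ext a
      simp only [Finset.mem_filter, Finset.mem_erase, Finset.mem_univ, true_and]
      constructor
      · rintro ⟨haS, hab⟩
        refine ⟨fun e => H.hS1 (e ▸ haS), ?_⟩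
        rw [← hab]; exact self_mem a
      · rintro ⟨ha1, haC⟩
        exact H.F1 hx haC ha1
    rw [e, Finset.card_erase_of_mem, card_filter_mem, H.hcent x hx]
    simp only [Finset.mem_filter, Finset.mem_univ, true_and]
    exact Subgroup.one_mem _
  rw [Finset.sum_const_nat h2, H.hcard] at h1
  have h3 : q ^ 2 - 1 = (q + 1) * (q - 1) := by
    obtain ⟨r, rfl⟩ : ∃ r, q = r + 1 := ⟨q - 1, by omega⟩
    simp only [Nat.add_sub_cancel]
    have : (r + 1) ^ 2 = (r + 1 + 1) * r + 1 := by ring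
    rw [this, Nat.add_sub_cancel]
  rw [h3] at h1
  have h4 : 0 < q - 1 := by omega
  exact (Nat.eq_of_mul_eq_mul_right h4 h1).symm

open Classical in
/-- Regularity of `Q` on the other members of the family. -/
theorem reg (H : Hyp q S) {x0 x1 : G} (h0 : x0 ∈ S) (h1 : x1 ∈ S) (hne : Cn x0 ≠ Cn x1)
    {x : G} (hx : x ∈ S) : Cn x = Cn x0 ∨ ∃ z ∈ Cn x0, Cn x = mc z (Cn x1) := by
  by_cases hxe : Cn x = Cn x0
  · exact Or.inl hxe
  right
  set I : Finset (Subgroup G) :=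
    (Finset.univ.filter (fun z : G => z ∈ Cn x0)).image (fun z => mc z (Cn x1)) with hI
  have hinj : Set.InjOn (fun z => mc z (Cn x1))
      ((Finset.univ.filter (fun z : G => z ∈ Cn x0) : Finset G) : Set G) := by
    intro z1 hz1 z2 hz2 he
    simp only [Finset.coe_filter, Finset.mem_univ, true_and, Set.mem_ofPred_eq] at hz1 hz2
    have he' : mc z1 (Cn x1) = mc z2 (Cn x1) := he
    have h2 : mc (z2⁻¹ * z1) (Cn x1) = Cn x1 := by
      rw [← mc_mc, he', mc_mc, inv_mul_cancel, mc_one]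
    have h3 := H.semireg h0 h1 hne ((Cn x0).mul_mem ((Cn x0).inv_mem hz2) hz1)
      (mc_eq_self_iff.1 h2)
    exact (inv_mul_eq_one.1 h3).symm
  have hIcard : I.card = q := by
    rw [hI, Finset.card_image_of_injOn hinj, card_filter_mem, H.hcent x0 h0]
  have hsub : I ⊆ (fam S).erase (Cn x0) := by
    intro R hR
    obtain ⟨z, hz, rfl⟩ := Finset.mem_image.1 hR
    simp only [Finset.mem_filter, Finset.mem_univ, true_and] at hz
    rw [Finset.mem_erase]
    constructor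
    · intro he
      apply hne
      have h2 : Cn x1 = mc z⁻¹ (Cn x0) := mc_eq_iff.1 he
      rw [h2, mc_of_mem ((Cn x0).inv_mem hz)]
    · exact mem_fam.2 ⟨z * x1 * z⁻¹, (H.conj_mem h1 z).1, (H.conj_mem h1 z).2⟩
  have hcardE : ((fam S).erase (Cn x0)).card = q := by
    rw [Finset.card_erase_of_mem (mem_fam.2 ⟨x0, h0, rfl⟩), H.card_fam]; simp
  have hIeq : I = (fam S).erase (Cn x0) :=
    Finset.eq_of_subset_of_card_le hsub (by rw [hcardE, hIcard])
  have hxI : Cn x ∈ I := by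
    rw [hIeq, Finset.mem_erase]
    exact ⟨hxe, mem_fam.2 ⟨x, hx, rfl⟩⟩
  obtain ⟨z, hz, hzx⟩ := Finset.mem_image.1 hxI
  simp only [Finset.mem_filter, Finset.mem_univ, true_and] at hz
  exact ⟨z, hz, hzx.symm⟩

open Classical in
/-- All members of the family are conjugate. -/
theorem conjugate (H : Hyp q S) {x0 x1 : G} (h0 : x0 ∈ S) (h1 : x1 ∈ S) :
    ∃ g : G, Cn x1 = mc g (Cn x0) := by
  by_cases hne : Cn x0 = Cn x1
  · exact ⟨1, by rw [mc_one, hne]⟩
  -- a third member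
  have hq := H.hq3
  have hc : 0 < (((fam S).erase (Cn x0)).erase (Cn x1)).card := by
    have e1 : ((fam S).erase (Cn x0)).card = q := by
      rw [Finset.card_erase_of_mem (mem_fam.2 ⟨x0, h0, rfl⟩), H.card_fam]; simp
    have e2 : Cn x1 ∈ (fam S).erase (Cn x0) :=
      Finset.mem_erase.2 ⟨fun e => hne e.symm, mem_fam.2 ⟨x1, h1, rfl⟩⟩
    rw [Finset.card_erase_of_mem e2, e1]; omega
  obtain ⟨R, hR⟩ := Finset.card_pos.1 hc
  rw [Finset.mem_erase, Finset.mem_erase] at hR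
  obtain ⟨hR1, hR0, hRf⟩ := hR
  obtain ⟨x2, h2, rfl⟩ := mem_fam.1 hRf
  rcases H.reg h0 h1 hne h2 with e | ⟨z, hz, e⟩
  · exact absurd e hR0
  rcases H.reg h1 h0 (fun e => hne e.symm) h2 with e' | ⟨z', hz', e'⟩
  · exact absurd e' hR1
  refine ⟨z⁻¹ * z', ?_⟩
  rw [← mc_mc, ← e', e, mc_mc, inv_mul_cancel, mc_one]

open Classical in
theorem card_normalizer (H : Hyp q S) {x0 : G} (h0 : x0 ∈ S) :
    2 * Nat.card (Subgroup.normalizer ((Cn x0 : Subgroup G) : Set G)) = q * (q - 1) := by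
  set Q := Cn x0 with hQ
  have hmaps : Set.MapsTo (fun g : G => mc g Q) ((Finset.univ : Finset G) : Set G)
      ((fam S : Finset (Subgroup G)) : Set (Subgroup G)) := by
    intro g _
    exact Finset.mem_coe.2 (mem_fam.2 ⟨g * x0 * g⁻¹, (H.conj_mem h0 g).1, (H.conj_mem h0 g).2⟩)
  have h1 := Finset.card_eq_sum_card_fiberwise hmaps
  have h2 : ∀ b ∈ fam S, ((Finset.univ : Finset G).filter (fun g => mc g Q = b)).card =
      Nat.card (Subgroup.normalizer (Q : Set G)) := by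
    intro b hb
    obtain ⟨x1, hx1, rfl⟩ := mem_fam.1 hb
    obtain ⟨g0, hg0⟩ := H.conjugate h0 hx1
    rw [← card_filter_mem]
    apply Finset.card_bij (fun g _ => g0⁻¹ * g)
    · intro a ha
      simp only [Finset.mem_filter, Finset.mem_univ, true_and] at ha ⊢
      rw [← mc_eq_self_iff, ← mc_mc, ha, hg0, mc_mc, inv_mul_cancel, mc_one]
    · intro a _ b _ hab
      exact mul_left_cancel hab
    · intro n hn
      simp only [Finset.mem_filter, Finset.mem_univ, true_and] at hn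
      refine ⟨g0 * n, ?_, by group⟩
      simp only [Finset.mem_filter, Finset.mem_univ, true_and]
      rw [← mc_mc, mc_eq_self_iff.2 hn, hg0]
  rw [Finset.sum_const_nat h2, H.card_fam, Finset.card_univ, ← Nat.card_eq_fintype_card] at h1
  have h3 := H.hcardG
  rw [h1] at h3
  have h4 : (q + 1) * (2 * Nat.card (Subgroup.normalizer (Q : Set G))) =
      (q + 1) * (q * (q - 1)) := by
    calc (q + 1) * (2 * Nat.card (Subgroup.normalizer (Q : Set G)))
        = 2 * ((q + 1) * Nat.card (Subgroup.normalizer (Q : Set G))) := by ring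
      _ = q * (q + 1) * (q - 1) := h3
      _ = (q + 1) * (q * (q - 1)) := by ring
  exact Nat.eq_of_mul_eq_mul_left (by omega) h4

end Hyp

theorem exists_pair {G : Type*} [Group G] [Fintype G] [DecidableEq G] (q : ℕ) (hq : Odd q)
    (hq3 : 3 ≤ q) (S : Finset G) (hS1 : (1 : G) ∉ S)
    (hSconj : ∀ v ∈ S, ∀ x : G, x * v * x⁻¹ ∈ S)
    (hcardG : 2 * Nat.card G = q * (q + 1) * (q - 1)) (hcard : S.card = q ^ 2 - 1)
    (hcent : ∀ x ∈ S, Nat.card (Subgroup.centralizer ({x} : Set G)) = q)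
    (hmem : ∀ x ∈ S, ∀ z ∈ Subgroup.centralizer ({x} : Set G), z ≠ 1 → z ∈ S)
    (hcomm : ∀ x ∈ S, ∀ a ∈ Subgroup.centralizer ({x} : Set G),
      ∀ b ∈ Subgroup.centralizer ({x} : Set G), a * b = b * a) :
    ∃ Q Q' : Subgroup G, Q ≠ Q' ∧ Nat.card Q = q ∧ Nat.card Q' = q ∧
      (∀ x ∈ Q, x ≠ 1 → x ∈ S ∧ Subgroup.centralizer ({x} : Set G) = Q) ∧
      (∀ x ∈ Q', x ≠ 1 → x ∈ S ∧ Subgroup.centralizer ({x} : Set G) = Q') ∧
      2 * Nat.card (Subgroup.normalizer (Q : Set G)) = q * (q - 1) ∧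
      2 * Nat.card (Subgroup.normalizer (Q : Set G) ⊓ Subgroup.normalizer (Q' : Set G) :
        Subgroup G) + 1 = q ∧
      Q ⊓ (Subgroup.normalizer (Q : Set G) ⊓ Subgroup.normalizer (Q' : Set G)) = ⊥ ∧
      Subgroup.normalizer (Q : Set G) =
        Q ⊔ (Subgroup.normalizer (Q : Set G) ⊓ Subgroup.normalizer (Q' : Set G)) ∧
      (∀ z ∈ Q, z ∈ Subgroup.normalizer (Q' : Set G) → z = 1) ∧
      (∀ x ∈ S, Subgroup.centralizer ({x} : Set G) = Q ∨
        ∃ z ∈ Q, Subgroup.centralizer ({x} : Set G) = Q'.map (MulAut.conj z).toMonoidHom) := by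
  classical
  have H : Hyp q S := ⟨hq3, hS1, hSconj, hcardG, hcard, hcent, hmem, hcomm⟩
  -- choose `x0`
  have hSpos : 0 < S.card := by
    rw [hcard]
    have : 3 ^ 2 ≤ q ^ 2 := Nat.pow_le_pow_left hq3 2
    omega
  obtain ⟨x0, h0⟩ := Finset.card_pos.1 hSpos
  have hc : 0 < ((Hyp.fam S).erase (Cn x0)).card := by
    rw [Finset.card_erase_of_mem (Hyp.mem_fam.2 ⟨x0, h0, rfl⟩), H.card_fam]; omega
  obtain ⟨R, hR⟩ := Finset.card_pos.1 hc
  rw [Finset.mem_erase] at hR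
  obtain ⟨hR0, hRf⟩ := hR
  obtain ⟨x1, h1, rfl⟩ := Hyp.mem_fam.1 hRf
  have hne : Cn x0 ≠ Cn x1 := fun e => hR0 e.symm
  have hsemi : ∀ z ∈ Cn x0, z ∈ Subgroup.normalizer ((Cn x1 : Subgroup G) : Set G) → z = 1 :=
    fun z hz hzN => H.semireg h0 h1 hne hz hzN
  have hbot : Cn x0 ⊓ (Subgroup.normalizer ((Cn x0 : Subgroup G) : Set G) ⊓
      Subgroup.normalizer ((Cn x1 : Subgroup G) : Set G)) = ⊥ := by
    rw [eq_bot_iff]
    rintro z ⟨hz, -, hzN⟩
    rw [Subgroup.mem_bot]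
    exact hsemi z hz hzN
  have hfac : ∀ n ∈ Subgroup.normalizer ((Cn x0 : Subgroup G) : Set G), ∃ a ∈ Cn x0,
      ∃ b ∈ (Subgroup.normalizer ((Cn x0 : Subgroup G) : Set G) ⊓
        Subgroup.normalizer ((Cn x1 : Subgroup G) : Set G) : Subgroup G), n = a * b := by
    intro n hn
    obtain ⟨hnS, hnC⟩ := H.conj_mem h1 n
    rcases H.reg h0 h1 hne hnS with e | ⟨z, hz, e⟩
    · exfalso
      rw [hnC] at e
      have e2 : Cn x1 = mc n⁻¹ (Cn x0) := mc_eq_iff.1 e
      rw [mc_eq_self_iff.2 (Subgroup.inv_mem _ hn)] at e2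
      exact hne e2.symm
    · rw [hnC] at e
      have e2 : mc (z⁻¹ * n) (Cn x1) = Cn x1 := by
        rw [← mc_mc, e, mc_mc, inv_mul_cancel, mc_one]
      refine ⟨z, hz, z⁻¹ * n, Subgroup.mem_inf.2 ⟨?_, mc_eq_self_iff.1 e2⟩, by group⟩
      exact Subgroup.mul_mem _ (Subgroup.inv_mem _ (Subgroup.le_normalizer hz)) hn
  obtain ⟨hcardN, hNsup⟩ := card_of_factor (A := Cn x0)
    (B := (Subgroup.normalizer ((Cn x0 : Subgroup G) : Set G) ⊓
        Subgroup.normalizer ((Cn x1 : Subgroup G) : Set G) : Subgroup G))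
    (N := Subgroup.normalizer ((Cn x0 : Subgroup G) : Set G)) Subgroup.le_normalizer inf_le_left
    hbot hfac
  have hNcard := H.card_normalizer h0
  refine ⟨Cn x0, Cn x1, hne, hcent x0 h0, hcent x1 h1, fun x hx hx1 => H.F1 h0 hx hx1,
    fun x hx hx1 => H.F1 h1 hx hx1, hNcard, ?_, hbot, hNsup, hsemi,
    fun x hx => H.reg h0 h1 hne hx⟩
  rw [hcardN, hcent x0 h0] at hNcard
  have h5 : q * (2 * Nat.card (Subgroup.normalizer ((Cn x0 : Subgroup G) : Set G) ⊓
      Subgroup.normalizer ((Cn x1 : Subgroup G) : Set G) : Subgroup G)) = q * (q - 1) := by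
    rw [← hNcard]; ring
  have h6 := Nat.eq_of_mul_eq_mul_left H.q_pos h5
  omega

end Cfsg.Agent.Lib.Helper2_BSW_B6a
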