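import Mathlib
import Cfsg.Agent.Lib.Helper77_BSWDefs
import Cfsg.Agent.Lib.Helper2_BSW_Common

/-!
# S3282 package B6b : the subgroup `D`, case `q = 2k + 1` (helper2)
-/

set_option autoImplicit false

namespace Cfsg.Agent.Lib.Helper2_BSW_B6b

open Cfsg.Agent.Lib.Helper77_BSWDefs Cfsg.Agent.Lib.Helper2_BSW_Common

/-- The last clause of B6b/B6c for a conjugate `x K x⁻¹` of `K`. -/
theorem final_clause {G : Type*} [Group G] {t s : G} {K : Subgroup G}
    (h : Setup t s K) (hB : Basics t s K) (x : G) :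
    ∀ X : Subgroup G, X ≤ mc x K → X ≠ ⊥ →
      Subgroup.normalizer (X : Set G) = Subgroup.normalizer ((mc x K : Subgroup G) : Set G) ∧
      ∃ u : G, orderOf u = 2 ∧ u ∉ mc x K ∧ (∀ d ∈ mc x K, u * d * u⁻¹ = d⁻¹) ∧
        Subgroup.normalizer ((mc x K : Subgroup G) : Set G) = mc x K ⊔ Subgroup.zpowers u := by
  have ht1 : t ≠ 1 := ne_one_of_orderOf_two h.ht
  have hK1 : K ≠ ⊥ := by
    intro e
    have := h.htK
    rw [e, Subgroup.mem_bot] at this
    exact ht1 this
  have hNK : Subgroup.normalizer (K : Set G) = Subgroup.centralizer ({t} : Set G) :=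
    normalizer_of_le_K h hB K le_rfl hK1
  have hND : Subgroup.normalizer ((mc x K : Subgroup G) : Set G) =
      mc x (Subgroup.centralizer ({t} : Set G)) := by
    rw [normalizer_mc, hNK]
  intro X hX hX1
  constructor
  · set X₀ : Subgroup G := X.comap (MulAut.conj x).toMonoidHom with hX₀
    have hmap : mc x X₀ = X :=
      Subgroup.map_comap_eq_self_of_surjective (MulAut.conj x).surjective X
    have hX₀K : X₀ ≤ K := by
      intro y hy
      have h1 : x * y * x⁻¹ ∈ X := by
        have : (MulAut.conj x).toMonoidHom y ∈ X := hy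
        simpa [MulAut.conj_apply] using this
      have h2 := hX h1
      rw [mem_mc] at h2
      have e : x⁻¹ * (x * y * x⁻¹) * x = y := by group
      rwa [e] at h2
    have hX₀1 : X₀ ≠ ⊥ := by
      intro e
      apply hX1
      rw [← hmap, e]
      exact Subgroup.map_bot _
    rw [hND, ← hmap, normalizer_mc, normalizer_of_le_K h hB X₀ hX₀K hX₀1]
  · refine ⟨x * s * x⁻¹, ?_, ?_, ?_, ?_⟩
    · have := orderOf_injective (MulAut.conj x).toMonoidHom (MulAut.conj x).injective s
      simpa [MulAut.conj_apply, h.hs] using this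
    · rw [mem_mc]
      have e : x⁻¹ * (x * s * x⁻¹) * x = s := by group
      rw [e]; exact h.hsK
    · intro d hd
      rw [mem_mc] at hd
      have h1 := h.hinv _ hd
      have e : x * s * x⁻¹ * d * (x * s * x⁻¹)⁻¹ = x * (s * (x⁻¹ * d * x) * s⁻¹) * x⁻¹ := by
        group
      rw [e, h1]; group
    · rw [hND, ← h.hH]
      show Subgroup.map _ (K ⊔ Subgroup.zpowers s) = _
      rw [Subgroup.map_sup, MonoidHom.map_zpowers]
      simp only [MulEquiv.coe_toMonoidHom, MulAut.conj_apply]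

theorem exists_D_plus {G : Type*} [Group G] [Finite G] {t s : G} {K : Subgroup G}
    (h : Setup t s K) (hB : Basics t s K) (q : ℕ) (hq : q = 2 * Nat.card K + 1)
    (Q : Subgroup G) (hQ : Nat.card Q = q)
    (hcent : ∀ x ∈ Q, x ≠ 1 → Subgroup.centralizer ({x} : Set G) = Q)
    (hN : 2 * Nat.card (Subgroup.normalizer (Q : Set G)) = q * (q - 1)) :
    ∃ D : Subgroup G, IsMulCommutative ↥D ∧ 2 * Nat.card ↥D + 1 = q ∧ Q ⊓ D = ⊥ ∧
      Subgroup.normalizer (Q : Set G) = Q ⊔ D ∧
      ∀ X : Subgroup G, X ≤ D → X ≠ ⊥ →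
        Subgroup.normalizer (X : Set G) = Subgroup.normalizer (D : Set G) ∧
        ∃ u : G, orderOf u = 2 ∧ u ∉ D ∧ (∀ d ∈ D, u * d * u⁻¹ = d⁻¹) ∧
          Subgroup.normalizer (D : Set G) = D ⊔ Subgroup.zpowers u := by
  set k := Nat.card K with hk
  have hkpos : 0 < k := Nat.card_pos
  obtain ⟨m, hm⟩ := hB.even_card
  have hNcard : Nat.card (Subgroup.normalizer (Q : Set G)) = q * k := by
    have h1 : q - 1 = 2 * k := by omega
    rw [h1] at hN
    have : 2 * Nat.card (Subgroup.normalizer (Q : Set G)) = 2 * (q * k) := by rw [hN]; ring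
    exact Nat.eq_of_mul_eq_mul_left (by norm_num) this
  have hoddQ : Odd (Nat.card Q) := by rw [hQ, hq]; exact ⟨k, rfl⟩
  -- an involution of `N(Q)`
  obtain ⟨u, huN, hu⟩ : ∃ u ∈ Subgroup.normalizer (Q : Set G), orderOf u = 2 := by
    have : Fact (Nat.Prime 2) := ⟨Nat.prime_two⟩
    have hdvd : 2 ∣ Nat.card (Subgroup.normalizer (Q : Set G)) := by
      rw [hNcard]; exact ⟨q * m, by rw [hk, hm]; ring⟩
    obtain ⟨y, hy⟩ := exists_prime_orderOf_dvd_card' (G := ↥(Subgroup.normalizer (Q : Set G))) 2 hdvd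
    exact ⟨(y : G), y.2, by rw [Subgroup.orderOf_coe]; exact hy⟩
  -- a non-identity element of `Q`
  obtain ⟨x0, hx0, hx01⟩ : ∃ x0 ∈ Q, x0 ≠ 1 := by
    by_contra hcon
    push Not at hcon
    have : Q = ⊥ := (Subgroup.eq_bot_iff_forall _).2 hcon
    rw [this, Subgroup.card_bot] at hQ
    omega
  have hCA : ∀ g : G, (∀ a ∈ Q, g * a = a * g) → g ∈ Q := by
    intro g hg
    rw [← hcent x0 hx0 hx01, Subgroup.mem_centralizer_singleton_iff]
    exact hg x0 hx0
  have hfpf : ∀ v : G, orderOf v = 2 → v ∈ Subgroup.normalizer (Q : Set G) →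
      ∀ a ∈ Q, v * a = a * v → a = 1 := by
    intro v hv _ a ha hva
    by_contra ha1
    have hvQ : v ∈ Q := by
      rw [← hcent a ha ha1, Subgroup.mem_centralizer_singleton_iff]; exact hva
    exact ne_one_of_orderOf_two hv
      (eq_one_of_sq_of_odd Q hoddQ hvQ (mul_self_of_orderOf_two hv))
  obtain ⟨-, hbot, hfac, huniq⟩ := invol_structure Q hoddQ hCA hfpf u hu huN
  set W : Subgroup G :=
    Subgroup.normalizer (Q : Set G) ⊓ Subgroup.centralizer ({u} : Set G) with hW
  obtain ⟨hcardN, hNsup⟩ := card_of_factor (A := Q) (B := W)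
    (N := Subgroup.normalizer (Q : Set G)) Subgroup.le_normalizer inf_le_left hbot hfac
  have hWcard : Nat.card W = k := by
    rw [hNcard, hQ] at hcardN
    have hq0 : 0 < q := by omega
    exact (Nat.eq_of_mul_eq_mul_left hq0 hcardN).symm
  obtain ⟨x, hux⟩ := hB.exists_conj_invol u hu
  have hWle : W ≤ mc x K := le_conj_K h hB hux W inf_le_right huniq
  have hWD : W = mc x K := by
    apply Subgroup.eq_of_le_of_card_ge hWle
    rw [card_mc, hWcard]
  refine ⟨mc x K, ⟨⟨fun a b => ?_⟩⟩, ?_, ?_, ?_, final_clause h hB x⟩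
  · have ha := mem_mc.1 a.2
    have hb := mem_mc.1 b.2
    have hc := h.comm _ ha _ hb
    apply Subtype.ext
    show (a : G) * (b : G) = (b : G) * (a : G)
    have e1 : (a : G) * (b : G) = x * ((x⁻¹ * a * x) * (x⁻¹ * b * x)) * x⁻¹ := by group
    rw [e1, hc]; group
  · rw [card_mc]; omega
  · rw [← hWD]; exact hbot
  · rw [← hWD]; exact hNsup

end Cfsg.Agent.Lib.Helper2_BSW_B6b
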