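import Mathlib
import Cfsg.Agent.Lib.Helper77_BSWDefs

/-!
# S3282 package B6c (helper77's Brauer-Suzuki-Wall market): the subgroup `D`, case `q = 2k - 1`.
-/

set_option autoImplicit false
open Cfsg

namespace Cfsg.Agent.Lib.Helper49_BSW_B6c

open Cfsg.Agent.Lib.Helper77_BSWDefs

section gen
variable {G : Type*} [Group G]

/-- The conjugate subgroup `g Q g⁻¹`. -/
abbrev cjs (g : G) (Q : Subgroup G) : Subgroup G := Q.map (MulAut.conj g).toMonoidHom

theorem mem_cjs {g x : G} {Q : Subgroup G} : x ∈ cjs g Q ↔ g⁻¹ * x * g ∈ Q := by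
  unfold cjs
  rw [Subgroup.mem_map_equiv, MulAut.conj_symm_apply]

theorem cjs_mul (g g' : G) (Q : Subgroup G) : cjs (g * g') Q = cjs g (cjs g' Q) := by
  ext x
  simp only [mem_cjs]
  have : (g * g')⁻¹ * x * (g * g') = g'⁻¹ * (g⁻¹ * x * g) * g' := by group
  rw [this]

theorem cjs_one (Q : Subgroup G) : cjs 1 Q = Q := by
  ext x
  rw [mem_cjs]
  simp

theorem cjs_inj {g : G} {Q Q' : Subgroup G} (h : cjs g Q = cjs g Q') : Q = Q' := by
  ext x
  have h1 := SetLike.ext_iff.mp h (g * x * g⁻¹)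
  simp only [mem_cjs] at h1
  have : g⁻¹ * (g * x * g⁻¹) * g = x := by group
  rwa [this] at h1

theorem mem_normalizer_iff_cjs {g : G} {Q : Subgroup G} :
    g ∈ Subgroup.normalizer (Q : Set G) ↔ cjs g Q = Q := by
  rw [Subgroup.mem_normalizer_iff'']
  constructor
  · intro h
    ext x
    rw [mem_cjs]
    exact (h x).symm
  · intro h y
    have h1 := SetLike.ext_iff.mp h y
    rw [mem_cjs] at h1
    exact h1.symm

theorem centralizer_conj (g x : G) :
    Subgroup.centralizer ({g * x * g⁻¹} : Set G) = cjs g (Subgroup.centralizer ({x} : Set G)) := by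
  ext y
  rw [mem_cjs, Subgroup.mem_centralizer_singleton_iff, Subgroup.mem_centralizer_singleton_iff]
  constructor
  · intro h
    have : g⁻¹ * y * g * x = g⁻¹ * (y * (g * x * g⁻¹)) * g := by group
    rw [this, h]; group
  · intro h
    have : y * (g * x * g⁻¹) = g * (g⁻¹ * y * g * x) * g⁻¹ := by group
    rw [this, h]; group

end gen

section core
variable {G : Type*} [Group G] {Q Q' : Subgroup G}

/-- An element `h ≠ 1` of `E` normalizing `z Q' z⁻¹` (`z ∈ Q`) forces `z = 1`. -/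
theorem z_eq_one
    (hcent : ∀ x ∈ Q, x ≠ 1 → Subgroup.centralizer ({x} : Set G) = Q)
    (hQE : Q ⊓ (Subgroup.normalizer (Q : Set G) ⊓ Subgroup.normalizer (Q' : Set G)) = ⊥)
    (hsemi : ∀ z ∈ Q, z ∈ Subgroup.normalizer (Q' : Set G) → z = 1)
    {h : G} (hE : h ∈ Subgroup.normalizer (Q : Set G) ⊓ Subgroup.normalizer (Q' : Set G))
    (h1 : h ≠ 1) {z : G} (hz : z ∈ Q) (hn : cjs h (cjs z Q') = cjs z Q') : z = 1 := by
  have hNQ : h ∈ Subgroup.normalizer (Q : Set G) := (Subgroup.mem_inf.mp hE).1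
  have hNQ' : h ∈ Subgroup.normalizer (Q' : Set G) := (Subgroup.mem_inf.mp hE).2
  have h2 : z⁻¹ * h * z ∈ Subgroup.normalizer (Q' : Set G) := by
    rw [mem_normalizer_iff_cjs, cjs_mul, cjs_mul, hn, ← cjs_mul, inv_mul_cancel, cjs_one]
  have h3 : z⁻¹ * h * z * h⁻¹ ∈ Subgroup.normalizer (Q' : Set G) :=
    Subgroup.mul_mem _ h2 (Subgroup.inv_mem _ hNQ')
  have h4 : h * z * h⁻¹ ∈ Q := (Subgroup.mem_normalizer_iff.mp hNQ z).mp hz
  have h5 : z⁻¹ * h * z * h⁻¹ ∈ Q := by
    have : z⁻¹ * h * z * h⁻¹ = z⁻¹ * (h * z * h⁻¹) := by group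
    rw [this]
    exact Subgroup.mul_mem _ (Subgroup.inv_mem _ hz) h4
  have h6 := hsemi _ h5 h3
  have h7 : h * z = z * h := by
    have : h * z = z * (z⁻¹ * h * z * h⁻¹) * h := by group
    rw [this, h6, mul_one]
  by_contra hz1
  have h8 : h ∈ Subgroup.centralizer ({z} : Set G) := by
    rw [Subgroup.mem_centralizer_singleton_iff]
    exact h7
  rw [hcent z hz hz1] at h8
  have h9 : h ∈ Q ⊓ (Subgroup.normalizer (Q : Set G) ⊓ Subgroup.normalizer (Q' : Set G)) :=
    Subgroup.mem_inf.mpr ⟨h8, hE⟩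
  rw [hQE, Subgroup.mem_bot] at h9
  exact h1 h9

/-- If `g⁻¹ h g ∈ E` for some `1 ≠ h ∈ E`, then `g` permutes `{Q, Q'}`. -/
theorem perm_pair
    (hcent : ∀ x ∈ Q, x ≠ 1 → Subgroup.centralizer ({x} : Set G) = Q)
    (hQE : Q ⊓ (Subgroup.normalizer (Q : Set G) ⊓ Subgroup.normalizer (Q' : Set G)) = ⊥)
    (hsemi : ∀ z ∈ Q, z ∈ Subgroup.normalizer (Q' : Set G) → z = 1)
    (htrans : ∀ g : G, cjs g Q = Q ∨ ∃ z ∈ Q, cjs g Q = cjs z Q')
    (htrans' : ∀ g : G, cjs g Q' = Q ∨ ∃ z ∈ Q, cjs g Q' = cjs z Q')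
    {h : G} (hE : h ∈ Subgroup.normalizer (Q : Set G) ⊓ Subgroup.normalizer (Q' : Set G))
    (h1 : h ≠ 1) {g : G}
    (hg : g⁻¹ * h * g ∈ Subgroup.normalizer (Q : Set G) ⊓ Subgroup.normalizer (Q' : Set G)) :
    (cjs g Q = Q ∨ cjs g Q = Q') ∧ (cjs g Q' = Q ∨ cjs g Q' = Q') := by
  have e1 : cjs (g⁻¹ * h * g) Q = Q := mem_normalizer_iff_cjs.mp (Subgroup.mem_inf.mp hg).1
  have e2 : cjs (g⁻¹ * h * g) Q' = Q' := mem_normalizer_iff_cjs.mp (Subgroup.mem_inf.mp hg).2
  have hh : h * g = g * (g⁻¹ * h * g) := by group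
  have n1 : cjs h (cjs g Q) = cjs g Q := by
    rw [← cjs_mul, hh, cjs_mul, e1]
  have n2 : cjs h (cjs g Q') = cjs g Q' := by
    rw [← cjs_mul, hh, cjs_mul, e2]
  constructor
  · rcases htrans g with h0 | ⟨z, hz, h0⟩
    · exact Or.inl h0
    · right
      rw [h0] at n1
      have := z_eq_one hcent hQE hsemi hE h1 hz n1
      rw [h0, this, cjs_one]
  · rcases htrans' g with h0 | ⟨z, hz, h0⟩
    · exact Or.inl h0
    · right
      rw [h0] at n2
      have := z_eq_one hcent hQE hsemi hE h1 hz n2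
      rw [h0, this, cjs_one]

/-- Same hypotheses: `g ∈ E` or `g` swaps `Q` and `Q'`. -/
theorem mem_or_swap (hne : Q ≠ Q')
    (hcent : ∀ x ∈ Q, x ≠ 1 → Subgroup.centralizer ({x} : Set G) = Q)
    (hQE : Q ⊓ (Subgroup.normalizer (Q : Set G) ⊓ Subgroup.normalizer (Q' : Set G)) = ⊥)
    (hsemi : ∀ z ∈ Q, z ∈ Subgroup.normalizer (Q' : Set G) → z = 1)
    (htrans : ∀ g : G, cjs g Q = Q ∨ ∃ z ∈ Q, cjs g Q = cjs z Q')
    (htrans' : ∀ g : G, cjs g Q' = Q ∨ ∃ z ∈ Q, cjs g Q' = cjs z Q')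
    {h : G} (hE : h ∈ Subgroup.normalizer (Q : Set G) ⊓ Subgroup.normalizer (Q' : Set G))
    (h1 : h ≠ 1) {g : G}
    (hg : g⁻¹ * h * g ∈ Subgroup.normalizer (Q : Set G) ⊓ Subgroup.normalizer (Q' : Set G)) :
    g ∈ Subgroup.normalizer (Q : Set G) ⊓ Subgroup.normalizer (Q' : Set G) ∨
      (cjs g Q = Q' ∧ cjs g Q' = Q) := by
  obtain ⟨p1, p2⟩ := perm_pair hcent hQE hsemi htrans htrans' hE h1 hg
  have hne' : cjs g Q ≠ cjs g Q' := fun e => hne (cjs_inj e)
  rcases p1 with a | a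
  · rcases p2 with b | b
    · exact absurd (a.trans b.symm) hne'
    · left
      exact Subgroup.mem_inf.mpr ⟨mem_normalizer_iff_cjs.mpr a, mem_normalizer_iff_cjs.mpr b⟩
  · rcases p2 with b | b
    · exact Or.inr ⟨a, b⟩
    · exact absurd (a.trans b.symm) hne'

end core

section final

theorem invol_mem_normalizer {G : Type*} [Group G] {u : G} (hu : u * u = 1) {X : Subgroup G}
    (hX : ∀ x ∈ X, u * x * u⁻¹ ∈ X) : u ∈ Subgroup.normalizer (X : Set G) := by
  rw [Subgroup.mem_normalizer_iff]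
  intro x
  refine ⟨hX x, fun hy => ?_⟩
  have h1 := hX _ hy
  have hinv : u⁻¹ = u := inv_eq_of_mul_eq_one_right hu
  have : u * (u * x * u⁻¹) * u⁻¹ = x := by
    rw [hinv]
    have : u * (u * x * u) * u = (u * u) * x * (u * u) := by group
    rw [this, hu, one_mul, mul_one]
  rwa [this] at h1

theorem exists_D_minus {G : Type*} [Group G] [Finite G] {t s : G} {K : Subgroup G}
    (h : Setup t s K) (hB : Basics t s K) (q : ℕ) (hq : q + 1 = 2 * Nat.card K)
    (htor : ∀ g : G, g ≠ 1 → orderOf g ∣ Nat.card K - 1 →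
      Nat.card (Subgroup.centralizer ({g} : Set G)) = Nat.card K - 1 ∧
      ∃ u : G, orderOf u = 2 ∧ ∀ a ∈ Subgroup.centralizer ({g} : Set G), u * a * u⁻¹ = a⁻¹)
    (Q Q' : Subgroup G) (hne : Q ≠ Q') (hQ : Nat.card Q = q) (hQ' : Nat.card Q' = q)
    (hcent : ∀ x ∈ Q, x ≠ 1 → Subgroup.centralizer ({x} : Set G) = Q)
    (hcent' : ∀ x ∈ Q', x ≠ 1 → Subgroup.centralizer ({x} : Set G) = Q')
    (hE : 2 * Nat.card (Subgroup.normalizer (Q : Set G) ⊓ Subgroup.normalizer (Q' : Set G) :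
        Subgroup G) + 1 = q)
    (hQE : Q ⊓ (Subgroup.normalizer (Q : Set G) ⊓ Subgroup.normalizer (Q' : Set G)) = ⊥)
    (hNQ : Subgroup.normalizer (Q : Set G) =
        Q ⊔ (Subgroup.normalizer (Q : Set G) ⊓ Subgroup.normalizer (Q' : Set G)))
    (hsemi : ∀ z ∈ Q, z ∈ Subgroup.normalizer (Q' : Set G) → z = 1)
    (htrans : ∀ g : G, Q.map (MulAut.conj g).toMonoidHom = Q ∨
        ∃ z ∈ Q, Q.map (MulAut.conj g).toMonoidHom = Q'.map (MulAut.conj z).toMonoidHom)
    (htrans' : ∀ g : G, Q'.map (MulAut.conj g).toMonoidHom = Q ∨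
        ∃ z ∈ Q, Q'.map (MulAut.conj g).toMonoidHom = Q'.map (MulAut.conj z).toMonoidHom) :
    ∃ D : Subgroup G, IsMulCommutative ↥D ∧ 2 * Nat.card ↥D + 1 = q ∧ Q ⊓ D = ⊥ ∧
      Subgroup.normalizer (Q : Set G) = Q ⊔ D ∧
      ∀ X : Subgroup G, X ≤ D → X ≠ ⊥ →
        Subgroup.normalizer (X : Set G) = Subgroup.normalizer (D : Set G) ∧
        ∃ u : G, orderOf u = 2 ∧ u ∉ D ∧ (∀ d ∈ D, u * d * u⁻¹ = d⁻¹) ∧
          Subgroup.normalizer (D : Set G) = D ⊔ Subgroup.zpowers u := by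
  classical
  obtain ⟨k2, hk2⟩ := hB.even_card
  by_cases hbot : (Subgroup.normalizer (Q : Set G) ⊓ Subgroup.normalizer (Q' : Set G) :
      Subgroup G) = ⊥
  · refine ⟨⊥, ⟨⟨fun a b => Subsingleton.elim _ _⟩⟩, ?_, ?_, ?_, ?_⟩
    · rw [hbot] at hE
      exact hE
    · simp
    · rw [hbot] at hNQ
      exact hNQ
    · intro X hX hX1
      exact absurd (le_bot_iff.mp hX) hX1
  · -- notation
    obtain ⟨E, hEdef⟩ : ∃ E : Subgroup G,
        E = Subgroup.normalizer (Q : Set G) ⊓ Subgroup.normalizer (Q' : Set G) := ⟨_, rfl⟩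
    rw [← hEdef] at hE hQE hNQ hbot
    have hk : Nat.card E + 1 = Nat.card K := by omega
    obtain ⟨⟨h0, h0E⟩, h01'⟩ := (Subgroup.ne_bot_iff_exists_ne_one).mp hbot
    have h01 : h0 ≠ 1 := fun e => h01' (Subtype.ext e)
    have hdvdE : ∀ x ∈ E, orderOf x ∣ Nat.card K - 1 := by
      intro x hx
      have h1 := Subgroup.orderOf_dvd_natCard E hx
      have e : Nat.card K - 1 = Nat.card E := by omega
      rw [e]
      exact h1
    have hoddE : ∀ j : ℕ, j ∣ Nat.card K - 1 → Odd j := by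
      intro j hj
      rcases Nat.even_or_odd j with he | ho
      · exfalso
        obtain ⟨a, ha⟩ := he
        obtain ⟨b, hb⟩ := hj
        have : Nat.card K - 1 = 2 * (a * b) := by rw [hb, ha]; ring
        omega
      · exact ho
    obtain ⟨hcard, u, hu2, huinv⟩ := htor h0 h01 (hdvdE h0 h0E)
    have huu : u * u = 1 := by
      rw [← pow_two, ← hu2, pow_orderOf_eq_one]
    have h0E' : h0 ∈ Subgroup.normalizer (Q : Set G) ⊓ Subgroup.normalizer (Q' : Set G) := by
      rw [← hEdef]; exact h0E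
    have hmos : ∀ g : G, g⁻¹ * h0 * g ∈ E → g ∈ E ∨ (cjs g Q = Q' ∧ cjs g Q' = Q) := by
      intro g hg
      rw [hEdef] at hg hQE ⊢
      exact mem_or_swap hne hcent hQE hsemi htrans htrans' h0E' h01 hg
    -- C(h0) ≤ E
    have hCE : Subgroup.centralizer ({h0} : Set G) ≤ E := by
      intro d hd
      have hd' : d * h0 = h0 * d := by
        rw [Subgroup.mem_centralizer_singleton_iff] at hd
        exact hd
      have hdc : d⁻¹ * h0 * d = h0 := by
        rw [mul_assoc, ← hd']; group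
      rcases hmos d (by rw [hdc]; exact h0E) with hm | ⟨s1, s2⟩
      · exact hm
      · have hdd : d * d ∈ E := by
          rw [hEdef]
          refine Subgroup.mem_inf.mpr ⟨mem_normalizer_iff_cjs.mpr ?_, mem_normalizer_iff_cjs.mpr ?_⟩
          · rw [cjs_mul, s1, s2]
          · rw [cjs_mul, s2, s1]
        have hod : orderOf d ∣ Nat.card K - 1 := by
          rw [← hcard]
          exact Subgroup.orderOf_dvd_natCard _ hd
        obtain ⟨j, hj⟩ := hoddE _ hod
        have hdj : d = (d * d) ^ (j + 1) := by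
          rw [← pow_two, ← pow_mul]
          have : 2 * (j + 1) = orderOf d + 1 := by omega
          rw [this, pow_succ, pow_orderOf_eq_one, one_mul]
        rw [hdj]
        exact Subgroup.pow_mem _ hdd _
    have hCeq : Subgroup.centralizer ({h0} : Set G) = E :=
      Subgroup.eq_of_le_of_card_ge hCE (by rw [hcard]; omega)
    rw [hCeq] at huinv
    -- E is commutative
    have hcomm : ∀ a ∈ E, ∀ b ∈ E, a * b = b * a := by
      intro a ha b hb
      have h1 := huinv a ha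
      have h2 := huinv b hb
      have h3 := huinv (a * b) (Subgroup.mul_mem _ ha hb)
      have h4 : u * (a * b) * u⁻¹ = (u * a * u⁻¹) * (u * b * u⁻¹) := by group
      rw [h4, h1, h2] at h3
      have h5 : (a⁻¹ * b⁻¹)⁻¹ = ((a * b)⁻¹)⁻¹ := by rw [h3]
      rw [mul_inv_rev, inv_inv, inv_inv, inv_inv] at h5
      exact h5.symm
    -- centralizers of nonidentity elements of E
    have hcentE : ∀ x ∈ E, x ≠ 1 → Subgroup.centralizer ({x} : Set G) = E := by
      intro x hx hx1
      obtain ⟨hc, -⟩ := htor x hx1 (hdvdE x hx)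
      have hle : E ≤ Subgroup.centralizer ({x} : Set G) := by
        intro e he
        rw [Subgroup.mem_centralizer_singleton_iff]
        exact hcomm e he x hx
      exact (Subgroup.eq_of_le_of_card_ge hle (by rw [hc]; omega)).symm
    have huE : u ∉ E := by
      intro hu
      have h1 := hdvdE u hu
      rw [hu2] at h1
      have := hoddE 2 h1
      exact absurd this (by decide)
    have huN : u ∈ Subgroup.normalizer (E : Set G) :=
      invol_mem_normalizer huu (fun x hx => by rw [huinv x hx]; exact Subgroup.inv_mem _ hx)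
    have huswap : cjs u Q = Q' ∧ cjs u Q' = Q := by
      have h1 : u⁻¹ * h0 * u ∈ E := (Subgroup.mem_normalizer_iff''.mp huN h0).mp h0E
      rcases hmos u h1 with hm | hs
      · exact absurd hm huE
      · exact hs
    have hNE : Subgroup.normalizer (E : Set G) = E ⊔ Subgroup.zpowers u := by
      apply le_antisymm
      · intro g hg
        have h1 : g⁻¹ * h0 * g ∈ E := (Subgroup.mem_normalizer_iff''.mp hg h0).mp h0E
        rcases hmos g h1 with hm | ⟨s1, s2⟩
        · exact Subgroup.mem_sup_left hm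
        · have h2 : u⁻¹ * g ∈ E := by
            rw [hEdef]
            refine Subgroup.mem_inf.mpr
              ⟨mem_normalizer_iff_cjs.mpr ?_, mem_normalizer_iff_cjs.mpr ?_⟩
            · rw [cjs_mul, s1, ← huswap.1, ← cjs_mul, inv_mul_cancel, cjs_one]
            · rw [cjs_mul, s2, ← huswap.2, ← cjs_mul, inv_mul_cancel, cjs_one]
          have h3 : g = u * (u⁻¹ * g) := by group
          rw [h3]
          exact Subgroup.mul_mem _ (Subgroup.mem_sup_right (Subgroup.mem_zpowers u))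
            (Subgroup.mem_sup_left h2)
      · exact sup_le Subgroup.le_normalizer (Subgroup.zpowers_le.mpr huN)
    refine ⟨E, ⟨⟨fun a b => Subtype.ext (hcomm a.1 a.2 b.1 b.2)⟩⟩, hE, hQE, hNQ, ?_⟩
    intro X hX hX1
    obtain ⟨⟨x, hxX⟩, hx1'⟩ := (Subgroup.ne_bot_iff_exists_ne_one).mp hX1
    have hx1 : x ≠ 1 := fun e => hx1' (Subtype.ext e)
    refine ⟨?_, u, hu2, huE, huinv, hNE⟩
    apply le_antisymm
    · intro g hg
      have h1 : g * x * g⁻¹ ∈ X := (Subgroup.mem_normalizer_iff.mp hg x).mp hxX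
      have h2 : g * x * g⁻¹ ≠ 1 := by
        intro e
        apply hx1
        have : x = g⁻¹ * (g * x * g⁻¹) * g := by group
        rw [this, e]; group
      have h3 := hcentE _ (hX h1) h2
      rw [centralizer_conj, hcentE x (hX hxX) hx1] at h3
      exact mem_normalizer_iff_cjs.mpr h3
    · rw [hNE]
      refine sup_le ?_ (Subgroup.zpowers_le.mpr ?_)
      · intro e he
        rw [Subgroup.mem_normalizer_iff]
        intro y
        constructor
        · intro hy
          have : e * y * e⁻¹ = y := by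
            rw [hcomm e he y (hX hy)]; group
          rw [this]; exact hy
        · intro hy
          have h1 : e * y * e⁻¹ ∈ E := hX hy
          have h2 : y = e * y * e⁻¹ := by
            have h3 := hcomm e he _ h1
            have h4 : y = e⁻¹ * (e * y * e⁻¹ * e) := by group
            have h5 : e⁻¹ * (e * (e * y * e⁻¹)) = e * y * e⁻¹ := by group
            rw [← h3, h5] at h4
            exact h4
          rw [h2]; exact hy
      · exact invol_mem_normalizer huu
          (fun y hy => by rw [huinv y (hX hy)]; exact Subgroup.inv_mem _ hy)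

end final

end Cfsg.Agent.Lib.Helper49_BSW_B6c
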