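import Mathlib
import Cfsg.Agent.Lib.Helper77_BSWDefs

/-!
# S3282 package B4 (helper59): strongly real elements have abelian centralizers
-/

set_option autoImplicit false
set_option linter.unusedVariables false
open Cfsg
open scoped ComplexConjugate

namespace Cfsg.Agent.Lib.Helper59_BSW_B4

open Cfsg.Agent.Lib.Helper77_BSWDefs Cfsg.Agent.Lib.Helper80_CharBasic
  Cfsg.Agent.Lib.Helper3_CharComplete

/-! ### lemma R -/

theorem lemmaR {G : Type*} [Group G] [Finite G] (g : G) (N : ℕ) (hN : 0 < N)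
    (hcount : invCount g = N) (hdvd : Nat.card (Subgroup.centralizer ({g} : Set G)) ∣ N) :
    Nat.card (Subgroup.centralizer ({g} : Set G)) = N ∧
      ∃ u : G, orderOf u = 2 ∧ ∀ a ∈ Subgroup.centralizer ({g} : Set G), u * a * u⁻¹ = a⁻¹ := by
  classical
  unfold invCount at hcount
  have hne : Nonempty {u : G // orderOf u = 2 ∧ u * g * u⁻¹ = g⁻¹} := by
    by_contra hcon
    rw [not_nonempty_iff] at hcon
    rw [Nat.card_of_isEmpty] at hcount
    omega
  obtain ⟨⟨u, hu2, hug⟩⟩ := hne
  have huu : u * u = 1 := by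
    have := pow_orderOf_eq_one u
    rw [hu2, pow_two] at this
    exact this
  have huinv : u⁻¹ = u := inv_eq_of_mul_eq_one_left huu
  -- the map w ↦ w u⁻¹ into the elements of C(g) inverted by u
  let J := {a : Subgroup.centralizer ({g} : Set G) // u * (a : G) * u⁻¹ = (a : G)⁻¹}
  have hmap : ∀ w : {w : G // orderOf w = 2 ∧ w * g * w⁻¹ = g⁻¹},
      (w : G) * u⁻¹ ∈ Subgroup.centralizer ({g} : Set G) ∧
        u * ((w : G) * u⁻¹) * u⁻¹ = ((w : G) * u⁻¹)⁻¹ := by
    rintro ⟨w, hw2, hwg⟩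
    have hww : w * w = 1 := by
      have := pow_orderOf_eq_one w
      rw [hw2, pow_two] at this
      exact this
    have hwinv : w⁻¹ = w := inv_eq_of_mul_eq_one_left hww
    constructor
    · rw [Subgroup.mem_centralizer_singleton_iff]
      -- (w u⁻¹) g = g (w u⁻¹)
      have h1 : u⁻¹ * g * u = g⁻¹ := by
        have : u⁻¹ * g * u = u * g * u⁻¹ := by rw [huinv]
        rw [this, hug]
      have h2 : w * g⁻¹ * w⁻¹ = g := by
        have : w * g⁻¹ * w⁻¹ = (w * g * w⁻¹)⁻¹ := by group
        rw [this, hwg, inv_inv]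
      calc w * u⁻¹ * g = w * (u⁻¹ * g * u) * u⁻¹ := by group
        _ = w * g⁻¹ * u⁻¹ := by rw [h1]
        _ = (w * g⁻¹ * w⁻¹) * (w * u⁻¹) := by group
        _ = g * (w * u⁻¹) := by rw [h2]
    · simp only [huinv, mul_inv_rev, hwinv]
      calc u * (w * u) * u = u * w * (u * u) := by group
        _ = u * w := by rw [huu, mul_one]
  let f : {w : G // orderOf w = 2 ∧ w * g * w⁻¹ = g⁻¹} → J :=
    fun w => ⟨⟨(w : G) * u⁻¹, (hmap w).1⟩, (hmap w).2⟩
  have hf : Function.Injective f := by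
    intro w1 w2 h12
    have : (w1 : G) * u⁻¹ = (w2 : G) * u⁻¹ := congrArg (fun j : J => ((j : Subgroup.centralizer ({g} : Set G)) : G)) h12
    exact Subtype.ext (mul_right_cancel this)
  have h1 : N ≤ Nat.card J := by
    rw [← hcount]
    exact Nat.card_le_card_of_injective f hf
  have hinc : Function.Injective (fun j : J => (j : Subgroup.centralizer ({g} : Set G))) :=
    Subtype.val_injective
  have h2 : Nat.card J ≤ Nat.card (Subgroup.centralizer ({g} : Set G)) :=
    Nat.card_le_card_of_injective _ hinc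
  have h3 : Nat.card (Subgroup.centralizer ({g} : Set G)) ≤ N := Nat.le_of_dvd hN hdvd
  have h4 : Nat.card (Subgroup.centralizer ({g} : Set G)) = N := by omega
  refine ⟨h4, u, hu2, ?_⟩
  have hbij := hinc.bijective_of_nat_card_le (by omega)
  intro a ha
  obtain ⟨j, hj⟩ := hbij.2 ⟨a, ha⟩
  have := j.2
  have hja : ((j : Subgroup.centralizer ({g} : Set G)) : G) = a := congrArg Subtype.val hj
  rw [hja] at this
  exact this

/-! ### common pieces -/

theorem conjInto_conj {G : Type*} [Group G] {K : Subgroup G} {g : G} (x : G) :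
    ConjInto K (x * g * x⁻¹) ↔ ConjInto K g := by
  constructor
  · rintro ⟨z, hz⟩
    refine ⟨x⁻¹ * z, ?_⟩
    have : (x⁻¹ * z)⁻¹ * g * (x⁻¹ * z) = z⁻¹ * (x * g * x⁻¹) * z := by group
    rw [this]; exact hz
  · rintro ⟨z, hz⟩
    refine ⟨x * z, ?_⟩
    have : (x * z)⁻¹ * (x * g * x⁻¹) * (x * z) = z⁻¹ * g * z := by group
    rw [this]; exact hz

variable {G : Type*} [Group G] [Fintype G] {t s : G} {K : Subgroup G} {ε : ℤ} {q : ℕ}
  {St c d : IrrCharacter G} {Θ : Finset (IrrCharacter G)}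

omit [Fintype G] in
/-- an element commuting with a non-identity element conjugate into `K` is conjugate into `K` -/
theorem conjInto_of_commute (hB : Basics t s K) {x z : G} (hz : ConjInto K z) (hz1 : z ≠ 1)
    (hxz : x * z = z * x) : ConjInto K x := by
  obtain ⟨w, hw⟩ := hz
  have hy1 : w⁻¹ * z * w ≠ 1 := by
    intro h1
    apply hz1
    have : z = w * (w⁻¹ * z * w) * w⁻¹ := by group
    rw [this, h1]; group
  have hmem : w⁻¹ * x * w ∈ Subgroup.centralizer ({w⁻¹ * z * w} : Set G) := by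
    rw [Subgroup.mem_centralizer_singleton_iff]
    calc w⁻¹ * x * w * (w⁻¹ * z * w) = w⁻¹ * (x * z) * w := by group
      _ = w⁻¹ * (z * x) * w := by rw [hxz]
      _ = w⁻¹ * z * w * (w⁻¹ * x * w) := by group
  have h1 := hB.centralizer_le _ hw hy1 hmem
  have h2 := hB.conjInto_of_mem_H _ h1
  have h3 : w⁻¹ * x * w = w⁻¹ * x * (w⁻¹)⁻¹ := by rw [inv_inv]
  rw [h3, conjInto_conj] at h2
  exact h2

/-- Arithmetic of `CharData`. -/
theorem arith (hB : Basics t s K) (D : CharData t K ε q St c d Θ) :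
    ∃ e : ℕ, (e : ℤ) = (Nat.card K : ℤ) + ε ∧ 0 < e ∧ q = Nat.card K + e ∧
      Nat.card G = q * (2 * Nat.card K * e) := by
  have hk2 : 2 ≤ Nat.card K := by
    obtain ⟨r, hr⟩ := hB.even_card
    have : 0 < Nat.card K := Nat.card_pos
    omega
  have hq := D.hq
  have hcG := D.card_G
  rcases D.hε with h1 | h1
  · refine ⟨Nat.card K + 1, by rw [h1]; push_cast; ring, by omega, ?_, ?_⟩
    · rw [h1] at hq; omega
    · have hq' : q = 2 * Nat.card K + 1 := by rw [h1] at hq; omega
      have h2 : q + 1 = 2 * (Nat.card K + 1) := by omega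
      have h3 : q - 1 = 2 * Nat.card K := by omega
      rw [h2, h3] at hcG
      have : 2 * Nat.card G = 2 * (q * (2 * Nat.card K * (Nat.card K + 1))) := by
        rw [hcG]; ring
      omega
  · refine ⟨Nat.card K - 1, by rw [h1]; push_cast [Nat.cast_sub (by omega : 1 ≤ Nat.card K)]; ring,
      by omega, ?_, ?_⟩
    · rw [h1] at hq; omega
    · have hq' : q + 1 = 2 * Nat.card K := by rw [h1] at hq; omega
      have h3 : q - 1 = 2 * (Nat.card K - 1) := by omega
      rw [hq', h3] at hcG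
      have : 2 * Nat.card G = 2 * (q * (2 * Nat.card K * (Nat.card K - 1))) := by
        rw [hcG]; ring
      omega

theorem eps_ne_zero (D : CharData t K ε q St c d Θ) : (ε : ℂ) ≠ 0 := by
  rcases D.hε with h1 | h1 <;> rw [h1] <;> norm_num

/-- a prime dividing `q` and `K` or `e` is impossible -/
theorem prime_not_dvd_of_dvd_q (D : CharData t K ε q St c d Θ) {p : ℕ} (hp : p.Prime)
    (hpq : p ∣ q) : ¬ p ∣ Nat.card K ∧ ¬ (p : ℤ) ∣ (Nat.card K : ℤ) + ε := by
  have hq := D.hq
  have hpq' : (p : ℤ) ∣ (q : ℤ) := Int.natCast_dvd_natCast.mpr hpq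
  have hε1 : ¬ (p : ℤ) ∣ ε := by
    intro h
    have : (p : ℤ) ∣ 1 := by
      rcases D.hε with h1 | h1
      · rw [h1] at h; exact h
      · rw [h1] at h; simpa using h
    have := Int.natCast_dvd_natCast.mp (by simpa using this : (p : ℤ) ∣ ((1 : ℕ) : ℤ))
    exact hp.one_lt.ne' (Nat.dvd_one.mp this)
  constructor
  · intro h
    apply hε1
    have h' : (p : ℤ) ∣ (Nat.card K : ℤ) := Int.natCast_dvd_natCast.mpr h
    have : ε = (q : ℤ) - 2 * (Nat.card K : ℤ) := by rw [hq]; ring
    rw [this]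
    exact dvd_sub hpq' (Dvd.dvd.mul_left h' 2)
  · intro h
    apply hε1
    have : ε = 2 * ((Nat.card K : ℤ) + ε) - (q : ℤ) := by rw [hq]; ring
    rw [this]
    exact dvd_sub (Dvd.dvd.mul_left h 2) hpq'

/-- the mixed case: commuting elements of prime orders `p ∣ q` and `r ∣ k + ε` cannot exist -/
theorem mixed (hB : Basics t s K) (D : CharData t K ε q St c d Θ)
    (hSt0 : ∀ (p : ℕ), p.Prime → p ∣ q → ∀ g : G, p ∣ orderOf g → (St : G → ℂ) g = 0)
    (hcd0 : ∀ (r : ℕ), r.Prime → (r : ℤ) ∣ (Nat.card K : ℤ) + ε → ∀ g : G, r ∣ orderOf g →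
      (c : G → ℂ) g = 0 ∧ (d : G → ℂ) g = 0)
    {p r : ℕ} (hp : p.Prime) (hpq : p ∣ q) (hr : r.Prime)
    (hrk : (r : ℤ) ∣ (Nat.card K : ℤ) + ε) {y z : G} (hy : orderOf y = p) (hz : orderOf z = r)
    (hyz : y * z = z * y) : False := by
  have hpr : p ≠ r := by
    rintro rfl
    exact (prime_not_dvd_of_dvd_q D hp hpq).2 hrk
  have hcop : Nat.Coprime (orderOf y) (orderOf z) := by
    rw [hy, hz]; exact (Nat.coprime_primes hp hr).mpr hpr
  have hord : orderOf (y * z) = p * r := by
    have := (show Commute y z from hyz).orderOf_mul_eq_mul_orderOf_of_coprime hcop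
    rw [this, hy, hz]
  have h1 : (St : G → ℂ) (y * z) = 0 := hSt0 p hp hpq _ (by rw [hord]; exact dvd_mul_right _ _)
  have h2 := hcd0 r hr hrk (y * z) (by rw [hord]; exact dvd_mul_left _ _)
  have h3 : ¬ ConjInto K (y * z) := by
    intro hc
    have := hB.orderOf_dvd _ hc
    rw [hord] at this
    exact (prime_not_dvd_of_dvd_q D hp hpq).1 (dvd_trans (dvd_mul_right _ _) this)
  have h4 := D.cd_off _ h3
  rw [h1, h2.1, h2.2] at h4
  apply eps_ne_zero D
  have : (ε : ℂ) = 0 := by linear_combination -h4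
  exact this

/-- a prime dividing the order of the centralizer of an element not conjugate into `K` does not
divide `2k` -/
theorem not_dvd_two_k (hB : Basics t s K)
    (hconj : ∀ (l : ℕ), l.Prime → l ∣ 2 * Nat.card K → ∀ g : G, l ∣ orderOf g → ConjInto K g)
    {x : G} (hx : ¬ ConjInto K x) {l : ℕ} (hl : l.Prime)
    (hlc : l ∣ Nat.card (Subgroup.centralizer ({x} : Set G))) : ¬ l ∣ 2 * Nat.card K := by
  intro hlk
  have : Fact l.Prime := ⟨hl⟩
  obtain ⟨z, hz⟩ := exists_prime_orderOf_dvd_card' (G := Subgroup.centralizer ({x} : Set G)) l hlc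
  have hz' : orderOf (z : G) = l := by rw [Subgroup.orderOf_coe]; exact hz
  have hzc : ConjInto K (z : G) := hconj l hl hlk _ (by rw [hz'])
  have hz1 : (z : G) ≠ 1 := by
    intro h1
    rw [h1, orderOf_one] at hz'
    exact hl.one_lt.ne hz'
  have hcomm : x * (z : G) = (z : G) * x := by
    have := Subgroup.mem_centralizer_singleton_iff.mp z.2
    exact this.symm
  exact hx (conjInto_of_commute hB hzc hz1 hcomm)

omit [Fintype G] in
theorem one_conjInto : ConjInto K (1 : G) := ⟨1, by simp⟩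

theorem card_centralizer_dvd_q (h : Setup t s K) (hB : Basics t s K)
    (D : CharData t K ε q St c d Θ)
    (hSt0 : ∀ (p : ℕ), p.Prime → p ∣ q → ∀ g : G, p ∣ orderOf g → (St : G → ℂ) g = 0)
    (hcd0 : ∀ (r : ℕ), r.Prime → (r : ℤ) ∣ (Nat.card K : ℤ) + ε → ∀ g : G, r ∣ orderOf g →
      (c : G → ℂ) g = 0 ∧ (d : G → ℂ) g = 0)
    (hconj : ∀ (l : ℕ), l.Prime → l ∣ 2 * Nat.card K → ∀ g : G, l ∣ orderOf g → ConjInto K g)
    {x : G} (hx : ¬ ConjInto K x) (hx0 : (St : G → ℂ) x = 0) :
    Nat.card (Subgroup.centralizer ({x} : Set G)) ∣ q := by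
  obtain ⟨e, he, hepos, hqe, hG⟩ := arith hB D
  have hdvdG : Nat.card (Subgroup.centralizer ({x} : Set G)) ∣ q * (2 * Nat.card K * e) := by
    rw [← hG]; exact Subgroup.card_subgroup_dvd_card _
  apply Nat.Coprime.dvd_of_dvd_mul_right _ hdvdG
  apply Nat.Coprime.mul_right
  · -- coprime to 2k
    apply Nat.coprime_of_dvd
    intro l hl hlc hlk
    exact not_dvd_two_k hB hconj hx hl hlc hlk
  · -- coprime to e
    apply Nat.coprime_of_dvd
    intro r hr hrc hre
    have hrk : (r : ℤ) ∣ (Nat.card K : ℤ) + ε := by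
      rw [← he]; exact Int.natCast_dvd_natCast.mpr hre
    have : Fact r.Prime := ⟨hr⟩
    obtain ⟨z, hz⟩ :=
      exists_prime_orderOf_dvd_card' (G := Subgroup.centralizer ({x} : Set G)) r hrc
    have hz' : orderOf (z : G) = r := by rw [Subgroup.orderOf_coe]; exact hz
    -- a prime divisor of the order of x divides q
    have hx1 : orderOf x ≠ 1 := by
      intro h1
      rw [orderOf_eq_one_iff] at h1
      exact hx (h1 ▸ one_conjInto)
    obtain ⟨p, hp, hpx⟩ := Nat.exists_prime_and_dvd hx1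
    have hpG : p ∣ q * (2 * Nat.card K * e) := by
      rw [← hG]; exact dvd_trans hpx (orderOf_dvd_natCard x)
    have hpq : p ∣ q := by
      rcases (Nat.Prime.dvd_mul hp).mp hpG with h1 | h1
      · exact h1
      · exfalso
        rcases (Nat.Prime.dvd_mul hp).mp h1 with h2 | h2
        · exact hx (hconj p hp h2 x hpx)
        · have hpk : (p : ℤ) ∣ (Nat.card K : ℤ) + ε := by
            rw [← he]; exact Int.natCast_dvd_natCast.mpr h2
          have h3 := hcd0 p hp hpk x hpx
          have h4 := D.cd_off x hx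
          rw [h3.1, h3.2, hx0] at h4
          apply eps_ne_zero D
          have : (ε : ℂ) = 0 := by linear_combination -h4
          exact this
    have hy : orderOf (x ^ (orderOf x / p)) = p :=
      orderOf_pow_orderOf_div (orderOf_pos x).ne' hpx
    have hcomm : x ^ (orderOf x / p) * (z : G) = (z : G) * x ^ (orderOf x / p) := by
      have h1 : (z : G) * x = x * (z : G) := Subgroup.mem_centralizer_singleton_iff.mp z.2
      exact ((show Commute (z : G) x from h1).pow_right _).symm.eq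
    exact mixed hB D hSt0 hcd0 hp hpq hr hrk hy hz' hcomm

theorem card_centralizer_dvd_k (h : Setup t s K) (hB : Basics t s K)
    (D : CharData t K ε q St c d Θ)
    (hSt0 : ∀ (p : ℕ), p.Prime → p ∣ q → ∀ g : G, p ∣ orderOf g → (St : G → ℂ) g = 0)
    (hcd0 : ∀ (r : ℕ), r.Prime → (r : ℤ) ∣ (Nat.card K : ℤ) + ε → ∀ g : G, r ∣ orderOf g →
      (c : G → ℂ) g = 0 ∧ (d : G → ℂ) g = 0)
    (hconj : ∀ (l : ℕ), l.Prime → l ∣ 2 * Nat.card K → ∀ g : G, l ∣ orderOf g → ConjInto K g)
    {g : G} (hg : ¬ ConjInto K g) (hg0 : (St : G → ℂ) g = -(ε : ℂ)) :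
    (Nat.card (Subgroup.centralizer ({g} : Set G)) : ℤ) ∣ (Nat.card K : ℤ) + ε := by
  obtain ⟨e, he, hepos, hqe, hG⟩ := arith hB D
  rw [← he]
  apply Int.natCast_dvd_natCast.mpr
  have hdvdG : Nat.card (Subgroup.centralizer ({g} : Set G)) ∣ e * (2 * Nat.card K * q) := by
    have : e * (2 * Nat.card K * q) = q * (2 * Nat.card K * e) := by ring
    rw [this, ← hG]; exact Subgroup.card_subgroup_dvd_card _
  apply Nat.Coprime.dvd_of_dvd_mul_right _ hdvdG
  apply Nat.Coprime.mul_right
  · apply Nat.coprime_of_dvd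
    intro l hl hlc hlk
    exact not_dvd_two_k hB hconj hg hl hlc hlk
  · apply Nat.coprime_of_dvd
    intro p hp hpc hpq
    have : Fact p.Prime := ⟨hp⟩
    obtain ⟨z, hz⟩ :=
      exists_prime_orderOf_dvd_card' (G := Subgroup.centralizer ({g} : Set G)) p hpc
    have hz' : orderOf (z : G) = p := by rw [Subgroup.orderOf_coe]; exact hz
    have hg1 : orderOf g ≠ 1 := by
      intro h1
      rw [orderOf_eq_one_iff] at h1
      exact hg (h1 ▸ one_conjInto)
    obtain ⟨r, hr, hrg⟩ := Nat.exists_prime_and_dvd hg1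
    have hrG : r ∣ q * (2 * Nat.card K * e) := by
      rw [← hG]; exact dvd_trans hrg (orderOf_dvd_natCard g)
    have hre : r ∣ e := by
      rcases (Nat.Prime.dvd_mul hr).mp hrG with h1 | h1
      · exfalso
        have := hSt0 r hr h1 g hrg
        rw [this] at hg0
        apply eps_ne_zero D
        have : (ε : ℂ) = 0 := by linear_combination hg0
        exact this
      · rcases (Nat.Prime.dvd_mul hr).mp h1 with h2 | h2
        · exact absurd (hconj r hr h2 g hrg) hg
        · exact h2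
    have hrk : (r : ℤ) ∣ (Nat.card K : ℤ) + ε := by
      rw [← he]; exact Int.natCast_dvd_natCast.mpr hre
    have hy : orderOf (g ^ (orderOf g / r)) = r :=
      orderOf_pow_orderOf_div (orderOf_pos g).ne' hrg
    have hcomm : (z : G) * g ^ (orderOf g / r) = g ^ (orderOf g / r) * (z : G) := by
      have h1 : (z : G) * g = g * (z : G) := Subgroup.mem_centralizer_singleton_iff.mp z.2
      exact ((show Commute (z : G) g from h1).pow_right _).eq
    exact mixed hB D hSt0 hcd0 hp hpq hr hrk hz' hy hcomm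

end Cfsg.Agent.Lib.Helper59_BSW_B4
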