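import Mathlib
import Cfsg.Agent.Lib.Helper77_BSWDefs

/-!
# S3282 package B5a (helper59): centralizers of the elements with `St = 0` have order `q`
-/

set_option autoImplicit false
set_option linter.unusedVariables false
open Cfsg
open scoped ComplexConjugate

namespace Cfsg.Agent.Lib.Helper59_BSW_B5a

open Cfsg.Agent.Lib.Helper77_BSWDefs Cfsg.Agent.Lib.Helper80_CharBasic
  Cfsg.Agent.Lib.Helper3_CharComplete

/-- `ConjInto` is invariant under conjugation. -/
theorem conjInto_conj {G : Type*} [Group G] {K : Subgroup G} {g : G} (x : G) :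
    ConjInto K (x * g * x⁻¹) ↔ ConjInto K g := by
  constructor
  · rintro ⟨z, hz⟩
    refine ⟨x⁻¹ * z, ?_⟩
    have : (x⁻¹ * z)⁻¹ * g * (x⁻¹ * z) = z⁻¹ * (x * g * x⁻¹) * z := by group
    rw [this]; exact hz
  · rintro ⟨z, hz⟩
    refine ⟨x * z, ?_⟩
    have : (x * z)⁻¹ * (x * g * x⁻¹) * (x * z) = z⁻¹ * g * z := by group
    rw [this]; exact hz

/-- the size of a conjugation-closed set containing `x` is at least `|G| / |C(x)|` -/
theorem card_le_of_class {G : Type*} [Group G] [Finite G] (P : G → Prop)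
    (hP : ∀ g x : G, P g → P (x * g * x⁻¹)) {x : G} (hx : P x) :
    Nat.card G ≤ Nat.card (Subgroup.centralizer ({x} : Set G)) * Nat.card {g : G // P g} := by
  classical
  have h1 : Nat.card (MulAction.orbit (ConjAct G) x) *
      Nat.card (MulAction.stabilizer (ConjAct G) x) = Nat.card (ConjAct G) := by
    rw [Nat.card_coe_set_eq, ← MulAction.index_stabilizer]
    exact Subgroup.index_mul_card _
  have h2 : Nat.card (Subgroup.centralizer ({x} : Set G)) =
      Nat.card (MulAction.stabilizer (ConjAct G) x) :=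
    Subgroup.nat_card_centralizer_nat_card_stabilizer x
  have h3 : Nat.card (ConjAct G) = Nat.card G := rfl
  have h4 : Nat.card (MulAction.orbit (ConjAct G) x) ≤ Nat.card {g : G // P g} := by
    apply Nat.card_le_card_of_injective
      (fun y : MulAction.orbit (ConjAct G) x => (⟨y.1, by
        obtain ⟨c, hc⟩ := y.2
        rw [← hc]
        change P (c • x)
        rw [ConjAct.smul_def]
        exact hP x _ hx⟩ : {g : G // P g}))
    intro a b hab
    apply Subtype.ext
    simpa using congrArg Subtype.val hab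
  calc Nat.card G = Nat.card (MulAction.orbit (ConjAct G) x) *
        Nat.card (MulAction.stabilizer (ConjAct G) x) := by rw [h1, h3]
    _ ≤ Nat.card {g : G // P g} * Nat.card (MulAction.stabilizer (ConjAct G) x) :=
        Nat.mul_le_mul_right _ h4
    _ = _ := by rw [h2, mul_comm]

variable {G : Type*} [Group G] [Fintype G] {t s : G} {K : Subgroup G} {ε : ℤ} {q : ℕ}
  {St c d : IrrCharacter G} {Θ : Finset (IrrCharacter G)}

theorem card_centralizer_Piq (h : Setup t s K) (hB : Basics t s K)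
    (D : CharData t K ε q St c d Θ)
    (hcard : Nat.card {g : G // ¬ ConjInto K g ∧ (St : G → ℂ) g = 0} = q ^ 2 - 1)
    (hdvd : ∀ x : G, ¬ ConjInto K x → (St : G → ℂ) x = 0 →
      Nat.card (Subgroup.centralizer ({x} : Set G)) ∣ q)
    {x : G} (hx : ¬ ConjInto K x) (hx0 : (St : G → ℂ) x = 0) :
    Nat.card (Subgroup.centralizer ({x} : Set G)) = q := by
  have hle := card_le_of_class (G := G) (fun g => ¬ ConjInto K g ∧ (St : G → ℂ) g = 0)
    (by
      rintro g y ⟨h1, h2⟩
      exact ⟨fun hh => h1 ((conjInto_conj y).mp hh), by rw [irr_conj]; exact h2⟩)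
    (x := x) ⟨hx, hx0⟩
  rw [hcard] at hle
  obtain ⟨j, hj⟩ := hdvd x hx hx0
  set m := Nat.card (Subgroup.centralizer ({x} : Set G)) with hm
  have hcG := D.card_G
  -- q is odd and at least 3
  have hk2 : 2 ≤ Nat.card K := by
    obtain ⟨r, hr⟩ := hB.even_card
    have : 0 < Nat.card K := Nat.card_pos
    omega
  have hq3 : 3 ≤ q := by
    have := D.hq
    rcases D.hε with h1 | h1 <;> rw [h1] at this <;> omega
  have hqodd : ¬ 2 ∣ q := by
    have := D.hq
    rcases D.hε with h1 | h1 <;> rw [h1] at this <;> omega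
  have hmpos : 0 < m := Nat.card_pos
  -- q (q^2 - 1) = 2 |G| ≤ 2 m (q^2 - 1)
  have hq2 : (q + 1) * (q - 1) = q ^ 2 - 1 := by
    obtain ⟨r, rfl⟩ : ∃ r, q = r + 1 := ⟨q - 1, by omega⟩
    simp only [Nat.add_sub_cancel]
    have : (r + 1) ^ 2 = (r + 1 + 1) * r + 1 := by ring
    omega
  have hpos : 0 < q ^ 2 - 1 := by
    have : 9 ≤ q ^ 2 := by nlinarith
    omega
  have h5 : q * (q ^ 2 - 1) ≤ 2 * m * (q ^ 2 - 1) := by
    calc q * (q ^ 2 - 1) = q * (q + 1) * (q - 1) := by rw [mul_assoc, hq2]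
      _ = 2 * Nat.card G := hcG.symm
      _ ≤ 2 * (m * (q ^ 2 - 1)) := Nat.mul_le_mul_left _ hle
      _ = 2 * m * (q ^ 2 - 1) := by ring
  have h6 : q ≤ 2 * m := Nat.le_of_mul_le_mul_right h5 hpos
  -- q = m * j with j ≤ 2 and q odd
  have hj0 : j ≠ 0 := by rintro rfl; omega
  have hj2 : j ≠ 2 := by
    rintro rfl
    exact hqodd ⟨m, by rw [hj]; ring⟩
  have hj3 : ¬ 3 ≤ j := by
    intro h3
    have : m * 3 ≤ m * j := Nat.mul_le_mul_left _ h3
    omega
  have hj1 : j = 1 := by omega
  rw [hj, hj1, mul_one]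

end Cfsg.Agent.Lib.Helper59_BSW_B5a
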