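import Mathlib
import Cfsg.Agent.Lib.Helper77_BSWDefs
import Cfsg.Agent.Lib.Helper17_Coherence
import Cfsg.Agent.Lib.Helper75_IndChar
import Cfsg.Agent.Lib.Helper75_CommChar

/-!
# Package A2 of S3282 (abstract Brauer–Suzuki–Wall; architect helper77)

The generalized characters `phi K lam = ind_K^G (1 - lam)`: values and Gram matrix.
-/

set_option autoImplicit false
set_option linter.unusedSectionVars false
set_option linter.unusedVariables false
open Cfsg
open scoped ComplexConjugate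

namespace Cfsg.Agent.Lib.Helper65_BSW_A2

open Cfsg.Agent.Lib.Helper77_BSWDefs Cfsg.Agent.Lib.Helper80_CharBasic
  Cfsg.Agent.Lib.Helper3_CharComplete

open Cfsg.Agent.Lib.Helper75_Induced Cfsg.Agent.Lib.Helper3_CharOrtho

variable {G : Type*} [Group G] [Fintype G] {t s : G} {K : Subgroup G} [Fintype ↥K]

theorem phi_eq_sub (lam : IrrCharacter ↥K) :
    phi K lam = indFun K (fun _ => (1 : ℂ)) - indFun K (lam : ↥K → ℂ) := by
  have h1 : (fun y : ↥K => 1 - (lam : ↥K → ℂ) y) =
      (fun _ => (1 : ℂ)) + (-1 : ℂ) • (lam : ↥K → ℂ) := by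
    funext y
    simp [sub_eq_add_neg]
  unfold phi
  rw [h1, indFun_add, indFun_smul]
  funext g
  simp [sub_eq_add_neg]

theorem phi_isGeneralizedCharacter (lam : IrrCharacter ↥K) :
    IsGeneralizedCharacter G (phi K lam) := by
  refine ⟨indFun K (fun _ => (1 : ℂ)), indFun K (lam : ↥K → ℂ), ?_, ?_, phi_eq_sub lam⟩
  · exact Cfsg.Agent.Lib.Helper75_IndChar.isCharacter_indFun K
      (Cfsg.Agent.Lib.Helper3_CharBridge.isCharacter_of_isIrrCharacter (isIrrCharacter_one ↥K))
  · exact Cfsg.Agent.Lib.Helper75_IndChar.isCharacter_indFun K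
      (Cfsg.Agent.Lib.Helper3_CharBridge.isCharacter_of_isIrrCharacter lam.2)

theorem phi_isClassFunction (lam : IrrCharacter ↥K) : IsClassFunction G (phi K lam) :=
  isClassFunction_indFun K _

/-- CORRECTED statement: the package file had no commutativity hypothesis (false for nonabelian
`K`). -/
theorem phi_one (hcomm : ∀ x ∈ K, ∀ y ∈ K, x * y = y * x) (lam : IrrCharacter ↥K) :
    phi K lam 1 = 0 := by
  have hc : ∀ a b : ↥K, a * b = b * a := fun a b => Subtype.ext (hcomm a a.2 b b.2)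
  unfold phi
  rw [indFun_one, Cfsg.Agent.Lib.Helper75_CommChar.irr_one hc lam, sub_self, mul_zero]

theorem phi_oneIrr : phi K (oneIrr ↥K) = 0 := by
  have h1 : (fun y : ↥K => 1 - ((oneIrr ↥K : IrrCharacter ↥K) : ↥K → ℂ) y) = (0 : ↥K → ℂ) := by
    funext y
    show (1 : ℂ) - 1 = 0
    ring
  unfold phi
  rw [h1, indFun_zero]

theorem phi_apply_of_not_conjInto (lam : IrrCharacter ↥K) {g : G} (hg : ¬ ConjInto K g) :
    phi K lam g = 0 := by
  unfold phi
  rw [indFun_apply]
  have h1 : ∀ x : G, extendByZero K (fun y => 1 - (lam : ↥K → ℂ) y) (x⁻¹ * g * x) = 0 := by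
    intro x
    apply extendByZero_of_not_mem
    intro hx
    exact hg ⟨x, hx⟩
  rw [Finset.sum_congr rfl (fun x _ => h1 x), Finset.sum_const_zero, mul_zero]

theorem phi_apply_of_mem (h : Setup t s K) (hB : Basics t s K) (lam : IrrCharacter ↥K) {y : G}
    (hy : y ∈ K) (hy1 : y ≠ 1) :
    phi K lam y = 2 - (lam : ↥K → ℂ) ⟨y, hy⟩ - conj ((lam : ↥K → ℂ) ⟨y, hy⟩) := by
  classical
  set θ : ↥K → ℂ := fun z => 1 - (lam : ↥K → ℂ) z with hθ
  have hyinv : y⁻¹ ∈ K := K.inv_mem hy
  have hpt : ∀ x : G, extendByZero K θ (x⁻¹ * y * x) =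
      (if x ∈ K then θ ⟨y, hy⟩ else 0) + (if x * s⁻¹ ∈ K then θ ⟨y⁻¹, hyinv⟩ else 0) := by
    intro x
    by_cases hxK : x ∈ K
    · have hxs : x * s⁻¹ ∉ K := by
        intro hxs
        apply h.hsK
        have : s = (x * s⁻¹)⁻¹ * x := by group
        rw [this]
        exact K.mul_mem (K.inv_mem hxs) hxK
      rw [if_pos hxK, if_neg hxs, add_zero, hB.conj_of_mem_K y hy x hxK]
      exact extendByZero_of_mem K θ hy
    · by_cases hxs : x * s⁻¹ ∈ K
      · rw [if_neg hxK, if_pos hxs, zero_add]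
        have hx : x = (x * s⁻¹) * s := by group
        have h1 := hB.conj_of_mem_Ks y hy (x * s⁻¹) hxs
        rw [← hx] at h1
        rw [h1]
        exact extendByZero_of_mem K θ hyinv
      · rw [if_neg hxK, if_neg hxs, add_zero]
        apply extendByZero_of_not_mem
        intro hmem
        have hxH := hB.mem_H_of_conj_mem y hy hy1 x hmem
        rcases (hB.mem_H_iff x).1 hxH with hx | ⟨a, ha, hx⟩
        · exact hxK hx
        · apply hxs
          rw [hx]
          simpa using ha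
  have hcard : ∑ x : G, (if x ∈ K then θ ⟨y, hy⟩ else 0) = (Nat.card K : ℂ) * θ ⟨y, hy⟩ := by
    rw [← Finset.sum_filter, Finset.sum_const, nsmul_eq_mul]
    congr 2
    rw [Nat.card_eq_fintype_card, Fintype.card_subtype]
  have hcard' : ∑ x : G, (if x * s⁻¹ ∈ K then θ ⟨y⁻¹, hyinv⟩ else 0) =
      (Nat.card K : ℂ) * θ ⟨y⁻¹, hyinv⟩ := by
    have h1 : ∑ x : G, (if x * s⁻¹ ∈ K then θ ⟨y⁻¹, hyinv⟩ else 0) =
        ∑ x : G, (if x ∈ K then θ ⟨y⁻¹, hyinv⟩ else 0) := by
      apply Fintype.sum_equiv (Equiv.mulRight s⁻¹)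
      intro x
      rfl
    rw [h1, ← Finset.sum_filter, Finset.sum_const, nsmul_eq_mul]
    congr 2
    rw [Nat.card_eq_fintype_card, Fintype.card_subtype]
  have hK0 : (Nat.card K : ℂ) ≠ 0 := by
    rw [Nat.cast_ne_zero]
    exact Nat.card_pos.ne'
  have hinv : (lam : ↥K → ℂ) ⟨y⁻¹, hyinv⟩ = conj ((lam : ↥K → ℂ) ⟨y, hy⟩) := by
    have := irr_inv lam ⟨y, hy⟩
    exact this
  unfold phi
  rw [indFun_apply, Finset.sum_congr rfl (fun x _ => hpt x), Finset.sum_add_distrib, hcard,
    hcard', ← mul_add, ← mul_assoc, inv_mul_cancel₀ hK0, one_mul, hθ]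
  simp only
  rw [hinv]
  ring

/-- the restriction of `phi K mu` to `K` -/
theorem phi_restrict (h : Setup t s K) (hB : Basics t s K) (mu : IrrCharacter ↥K) :
    (fun y : ↥K => phi K mu (y : G)) =
      (2 : ℂ) • (fun _ : ↥K => (1 : ℂ)) + (-1 : ℂ) • (mu : ↥K → ℂ) +
        (-1 : ℂ) • ((cj mu : IrrCharacter ↥K) : ↥K → ℂ) := by
  funext y
  have hc : ∀ a b : ↥K, a * b = b * a := fun a b => Subtype.ext (h.comm a a.2 b b.2)
  by_cases hy1 : y = 1
  · subst hy1
    have h1 : phi K mu ((1 : ↥K) : G) = 0 := phi_one h.comm mu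
    rw [h1]
    simp only [Pi.add_apply, Pi.smul_apply, smul_eq_mul, mul_one,
      Cfsg.Agent.Lib.Helper3_RealClasses.conjIrr_apply,
      Cfsg.Agent.Lib.Helper75_CommChar.irr_one hc mu, map_one]
    ring
  · have hy1' : (y : G) ≠ 1 := fun hh => hy1 (Subtype.ext hh)
    rw [phi_apply_of_mem h hB mu y.2 hy1']
    simp only [Pi.add_apply, Pi.smul_apply, smul_eq_mul, mul_one,
      Cfsg.Agent.Lib.Helper3_RealClasses.conjIrr_apply, Subtype.coe_eta]
    ring

theorem cj_oneIrr {A : Type*} [Group A] [Fintype A] : cj (oneIrr A) = oneIrr A := by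
  apply Subtype.ext
  funext g
  show conj (1 : ℂ) = 1
  simp

theorem classInner_phi_one (h : Setup t s K) (hB : Basics t s K) (lam : IrrCharacter ↥K)
    (hlam : lam ≠ oneIrr ↥K) : classInner (phi K lam) (fun _ => (1 : ℂ)) = 1 := by
  have hcf : IsClassFunction G (fun _ : G => (1 : ℂ)) := fun _ _ => rfl
  unfold phi
  rw [frobenius_reciprocity K _ _ hcf]
  have h1 : (fun y : ↥K => 1 - (lam : ↥K → ℂ) y) =
      (fun _ => (1 : ℂ)) - (lam : ↥K → ℂ) := by
    funext y
    rfl
  rw [h1, classInner_sub_left,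
    classInner_self_of_isIrrCharacter (isIrrCharacter_one ↥K),
    classInner_of_isIrrCharacter_of_ne lam.2 (isIrrCharacter_one ↥K)
      (fun hh => hlam (Subtype.ext hh)), sub_zero]

theorem classInner_phi_phi (h : Setup t s K) (hB : Basics t s K) (lam mu : IrrCharacter ↥K)
    (hlam : lam ≠ oneIrr ↥K) (hmu : mu ≠ oneIrr ↥K) :
    classInner (phi K lam) (phi K mu) =
      2 + (if lam = mu then 1 else 0) + (if lam = cj mu then 1 else 0) := by
  have hcjmu : cj mu ≠ oneIrr ↥K := by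
    intro hh
    apply hmu
    have h1 : Cfsg.Agent.Lib.Helper3_RealClasses.conjIrr
        (Cfsg.Agent.Lib.Helper3_RealClasses.conjIrr mu) = cj (oneIrr ↥K) := congrArg cj hh
    rw [Cfsg.Agent.Lib.Helper3_RealClasses.conjIrr_conjIrr, cj_oneIrr] at h1
    exact h1
  have hone := isIrrCharacter_one ↥K
  have e1 : classInner (fun _ : ↥K => (1 : ℂ)) (fun _ : ↥K => (1 : ℂ)) = 1 :=
    classInner_self_of_isIrrCharacter hone
  have e2 : classInner (fun _ : ↥K => (1 : ℂ)) (mu : ↥K → ℂ) = 0 :=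
    classInner_of_isIrrCharacter_of_ne hone mu.2 (fun hh => hmu (Subtype.ext hh.symm))
  have e3 : classInner (fun _ : ↥K => (1 : ℂ)) ((cj mu : IrrCharacter ↥K) : ↥K → ℂ) = 0 :=
    classInner_of_isIrrCharacter_of_ne hone (cj mu).2 (fun hh => hcjmu (Subtype.ext hh.symm))
  have e4 : classInner (lam : ↥K → ℂ) (fun _ : ↥K => (1 : ℂ)) = 0 :=
    classInner_of_isIrrCharacter_of_ne lam.2 hone (fun hh => hlam (Subtype.ext hh))
  have e5 : classInner (lam : ↥K → ℂ) (mu : ↥K → ℂ) = if lam = mu then 1 else 0 := by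
    rw [classInner_irr lam.2 mu.2]
    by_cases hh : lam = mu
    · rw [if_pos hh, if_pos (congrArg Subtype.val hh)]
    · rw [if_neg hh, if_neg (fun h' => hh (Subtype.ext h'))]
  have e6 : classInner (lam : ↥K → ℂ) ((cj mu : IrrCharacter ↥K) : ↥K → ℂ) =
      if lam = cj mu then 1 else 0 := by
    rw [classInner_irr lam.2 (cj mu).2]
    by_cases hh : lam = cj mu
    · rw [if_pos hh, if_pos (congrArg Subtype.val hh)]
    · rw [if_neg hh, if_neg (fun h' => hh (Subtype.ext h'))]
  have h1 : (fun y : ↥K => 1 - (lam : ↥K → ℂ) y) =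
      (fun _ => (1 : ℂ)) - (lam : ↥K → ℂ) := by
    funext y
    rfl
  have hstep : classInner (phi K lam) (phi K mu) =
      classInner (fun y : ↥K => 1 - (lam : ↥K → ℂ) y) (fun y : ↥K => phi K mu (y : G)) := by
    conv_lhs => unfold phi
    exact frobenius_reciprocity K _ _ (phi_isClassFunction mu)
  rw [hstep, phi_restrict h hB mu, h1, classInner_sub_left]
  simp only [classInner_add_right, classInner_smul_right, e1, e2, e3, e4, e5, e6, map_neg,
    map_one, map_ofNat]
  ring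

end Cfsg.Agent.Lib.Helper65_BSW_A2
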