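import Mathlib
import Cfsg.Agent.Lib.Helper77_BSWDefs
import Cfsg.Agent.Lib.Helper17_Coherence
import Cfsg.Agent.Lib.Helper3_CharColumn

/-!
# Package B5b of S3282 (abstract Brauer–Suzuki–Wall; architect helper77)

The column of an element with `St = 0`, case `ε = -1`: Cauchy–Schwarz against the degrees.
-/

set_option autoImplicit false
set_option linter.unusedSectionVars false
set_option linter.unusedVariables false
open Cfsg
open scoped ComplexConjugate

namespace Cfsg.Agent.Lib.Helper65_BSW_B5b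

open Cfsg.Agent.Lib.Helper77_BSWDefs Cfsg.Agent.Lib.Helper80_CharBasic
  Cfsg.Agent.Lib.Helper3_CharComplete

open Cfsg.Agent.Lib.Helper3_CharColumn Cfsg.Agent.Lib.Helper3_CharOrtho

variable {G : Type*} [Group G] [Fintype G] {t s : G} {K : Subgroup G} {ε : ℤ} {q : ℕ}
  {St c d : IrrCharacter G} {Θ : Finset (IrrCharacter G)}

open scoped Classical in
/-- the "other" irreducible characters -/
noncomputable def others (St c d : IrrCharacter G) (Θ : Finset (IrrCharacter G)) :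
    Finset (IrrCharacter G) :=
  Finset.univ.filter (fun χ => χ ≠ oneIrr G ∧ χ ≠ St ∧ χ ≠ c ∧ χ ≠ d ∧ χ ∉ Θ)

theorem mem_others {χ : IrrCharacter G} :
    χ ∈ others St c d Θ ↔ χ ≠ oneIrr G ∧ χ ≠ St ∧ χ ≠ c ∧ χ ≠ d ∧ χ ∉ Θ := by
  classical
  simp [others]

theorem sum_split (D : CharData t K ε q St c d Θ) (f : IrrCharacter G → ℂ) :
    ∑ χ : IrrCharacter G, f χ = f (oneIrr G) + f St + f c + f d + ∑ θ ∈ Θ, f θ +
      ∑ χ ∈ others St c d Θ, f χ := by
  classical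
  have hO : others St c d Θ =
      Finset.univ \ (insert (oneIrr G) (insert St (insert c (insert d Θ)))) := by
    ext χ
    rw [mem_others]
    simp only [Finset.mem_sdiff, Finset.mem_univ, true_and, Finset.mem_insert, not_or]
  rw [hO, ← Finset.sum_sdiff
    (Finset.subset_univ (insert (oneIrr G) (insert St (insert c (insert d Θ)))))]
  rw [Finset.sum_insert, Finset.sum_insert, Finset.sum_insert, Finset.sum_insert D.d_notMem]
  · ring
  · simp [D.c_ne_d, D.c_notMem]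
  · simp [D.St_ne_c, D.St_ne_d, D.St_notMem]
  · simp [D.St_ne_one.symm, D.c_ne_one.symm, D.d_ne_one.symm, D.one_notMem]

theorem numerics (D : CharData t K (-1) q St c d Θ) :
    3 ≤ q ∧ (Nat.card K : ℂ) = ((q : ℂ) + 1) / 2 ∧ (Θ.card : ℂ) = ((q : ℂ) - 3) / 4 ∧
      (Nat.card G : ℂ) = (q : ℂ) * ((q : ℂ) + 1) * ((q : ℂ) - 1) / 2 := by
  have hk : 2 ≤ Nat.card K := by
    have := D.Θ_card
    omega
  have hq := D.hq
  have hq3 : 3 ≤ q := by omega
  have h1 : ((q : ℤ) : ℂ) = ((2 * (Nat.card K : ℤ) + (-1) : ℤ) : ℂ) := congrArg _ hq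
  push_cast at h1
  have h2 : ((2 * Θ.card + 2 : ℕ) : ℂ) = (Nat.card K : ℂ) := congrArg _ D.Θ_card
  push_cast at h2
  have h3 : ((2 * Nat.card G : ℕ) : ℂ) = ((q * (q + 1) * (q - 1) : ℕ) : ℂ) := congrArg _ D.card_G
  rw [Nat.cast_mul, Nat.cast_mul, Nat.cast_mul, Nat.cast_sub (by omega : 1 ≤ q)] at h3
  push_cast at h3
  refine ⟨hq3, ?_, ?_, ?_⟩
  · linear_combination (-1 / 2 : ℂ) * h1
  · linear_combination (1 / 2 : ℂ) * h2 - (1 / 4 : ℂ) * h1
  · linear_combination (1 / 2 : ℂ) * h3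

theorem conj_irr_one (χ : IrrCharacter G) : conj ((χ : G → ℂ) 1) = (χ : G → ℂ) 1 := by
  obtain ⟨n, _, hn⟩ := irr_apply_one χ
  rw [hn, Complex.conj_natCast]


theorem one_conjInto : ConjInto K (1 : G) := ⟨1, by simp⟩

/-- the key identity on the column of `y` -/
theorem col_identity (D : CharData t K (-1) q St c d Θ)
    {y : G} (hy : ¬ ConjInto K y) (hy0 : (St : G → ℂ) y = 0)
    (hcy : Nat.card (Subgroup.centralizer ({y} : Set G)) = q) :
    (c : G → ℂ) y * conj ((c : G → ℂ) y) + (d : G → ℂ) y * conj ((d : G → ℂ) y) +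
      ∑ χ ∈ others St c d Θ, ((χ : G → ℂ) y - (χ : G → ℂ) 1 / ((q : ℂ) + 1)) *
        conj ((χ : G → ℂ) y - (χ : G → ℂ) 1 / ((q : ℂ) + 1)) = ((q : ℂ) + 1) / 2 := by
  classical
  obtain ⟨hq3, hK, hΘ, hG⟩ := numerics D
  have hQ1 : (q : ℂ) + 1 ≠ 0 := by
    have : ((q + 1 : ℕ) : ℂ) ≠ 0 := Nat.cast_ne_zero.2 (by omega)
    simpa using this
  have hc1 : (c : G → ℂ) 1 = ((q : ℂ) - 1) / 2 := by
    have := D.c_one
    push_cast at this
    linear_combination (1 / 2 : ℂ) * this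
  have hd1 : (d : G → ℂ) 1 = ((q : ℂ) - 1) / 2 := by
    have := D.d_one
    push_cast at this
    linear_combination (1 / 2 : ℂ) * this
  have hθ1 : ∀ θ ∈ Θ, (θ : G → ℂ) 1 = (q : ℂ) - 1 := by
    intro θ hθ
    have := D.Θ_one θ hθ
    push_cast at this
    rw [this]
    ring
  have hθy : ∀ θ ∈ Θ, (θ : G → ℂ) y = -1 := by
    intro θ hθ
    have := D.Θ_off θ hθ y hy
    rw [hy0] at this
    push_cast at this
    rw [this]
    ring
  have hcdy : (c : G → ℂ) y + (d : G → ℂ) y = -1 := by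
    have := D.cd_off y hy
    rw [hy0] at this
    push_cast at this
    rw [this]
    ring
  have hone : ∀ g : G, ((oneIrr G : IrrCharacter G) : G → ℂ) g = 1 := fun g => rfl
  -- (i) degrees
  have t1 : ∑ θ ∈ Θ, (θ : G → ℂ) 1 ^ 2 = ((q : ℂ) - 3) / 4 * ((q : ℂ) - 1) ^ 2 := by
    rw [Finset.sum_congr rfl (fun θ hθ => by rw [hθ1 θ hθ] :
      ∀ θ ∈ Θ, (θ : G → ℂ) 1 ^ 2 = ((q : ℂ) - 1) ^ 2), Finset.sum_const, nsmul_eq_mul, hΘ]
  have t2 : ∑ θ ∈ Θ, (θ : G → ℂ) y * conj ((θ : G → ℂ) 1) =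
      ((q : ℂ) - 3) / 4 * (-1 * ((q : ℂ) - 1)) := by
    rw [Finset.sum_congr rfl (fun θ hθ => by rw [hθy θ hθ, conj_irr_one, hθ1 θ hθ] :
      ∀ θ ∈ Θ, (θ : G → ℂ) y * conj ((θ : G → ℂ) 1) = -1 * ((q : ℂ) - 1)),
      Finset.sum_const, nsmul_eq_mul, hΘ]
  have t3 : ∑ θ ∈ Θ, (θ : G → ℂ) y * conj ((θ : G → ℂ) y) = ((q : ℂ) - 3) / 4 := by
    have h1 : ∀ θ ∈ Θ, (θ : G → ℂ) y * conj ((θ : G → ℂ) y) = (1 : ℂ) := by
      intro θ hθ
      rw [hθy θ hθ]
      simp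
    rw [Finset.sum_eq_card_nsmul h1, nsmul_eq_mul, hΘ, mul_one]
  have e1 := sum_sq_irr_one (G := G)
  rw [sum_split D, hone, D.St_one, hc1, hd1, t1, hG] at e1
  -- (ii) the columns of `y` and `1`
  have e2 := column_orthogonality y (1 : G)
  have hy1 : ¬ IsConj y 1 := by
    intro hh
    have h1 : y = 1 := isConj_one_left.1 hh
    apply hy
    rw [h1]
    exact one_conjInto
  rw [if_neg hy1, sum_split D, hone, hone, hy0, conj_irr_one c, conj_irr_one d, hc1, hd1, t2, map_one,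
    zero_mul] at e2
  -- (iii) the column of `y`
  have e3 := column_orthogonality_self y
  rw [hcy, sum_split D, hone, hy0, t3, map_one, zero_mul] at e3
  -- conjugate of (ii)
  have e2' : ∑ χ ∈ others St c d Θ, conj ((χ : G → ℂ) y) * (χ : G → ℂ) 1 =
      conj (∑ χ ∈ others St c d Θ, (χ : G → ℂ) y * conj ((χ : G → ℂ) 1)) := by
    rw [map_sum]
    apply Finset.sum_congr rfl
    intro χ _
    rw [map_mul, Complex.conj_conj]
  -- expand the square
  have hexp : ∀ χ : IrrCharacter G,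
      ((χ : G → ℂ) y - (χ : G → ℂ) 1 / ((q : ℂ) + 1)) *
        conj ((χ : G → ℂ) y - (χ : G → ℂ) 1 / ((q : ℂ) + 1)) =
      (χ : G → ℂ) y * conj ((χ : G → ℂ) y) -
        ((χ : G → ℂ) y * conj ((χ : G → ℂ) 1)) / ((q : ℂ) + 1) -
        (conj ((χ : G → ℂ) y) * (χ : G → ℂ) 1) / ((q : ℂ) + 1) +
        ((χ : G → ℂ) 1) ^ 2 / ((q : ℂ) + 1) ^ 2 := by
    intro χ
    have h1 : conj ((q : ℂ) + 1) = (q : ℂ) + 1 := by simp
    rw [map_sub, map_div₀, conj_irr_one, h1]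
    field_simp
    ring
  rw [Finset.sum_congr rfl (fun χ _ => hexp χ), Finset.sum_add_distrib, Finset.sum_sub_distrib,
    Finset.sum_sub_distrib, ← Finset.sum_div, ← Finset.sum_div, ← Finset.sum_div, e2']
  set S1 := ∑ χ ∈ others St c d Θ, ((χ : G → ℂ) 1) ^ 2 with hS1
  set S2 := ∑ χ ∈ others St c d Θ, (χ : G → ℂ) y * conj ((χ : G → ℂ) 1) with hS2
  set S3 := ∑ χ ∈ others St c d Θ, (χ : G → ℂ) y * conj ((χ : G → ℂ) y) with hS3
  have hS2val : S2 = ((q : ℂ) + 1) * ((q : ℂ) - 3) / 4 := by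
    linear_combination e2 - (((q : ℂ) - 1) / 2) * hcdy
  have hS2c : conj S2 = ((q : ℂ) + 1) * ((q : ℂ) - 3) / 4 := by
    rw [hS2val]
    have h1 : ((q : ℂ) + 1) * ((q : ℂ) - 3) / 4 =
        (((((q : ℝ) + 1) * ((q : ℝ) - 3) / 4 : ℝ)) : ℂ) := by
      push_cast
      ring
    rw [h1, Complex.conj_ofReal]
  have hS1val : S1 = ((q : ℂ) + 1) ^ 2 * ((q : ℂ) - 3) / 4 := by
    linear_combination e1
  rw [hS2c, hS2val, hS1val]
  have hv1 : ((q : ℂ) + 1) * ((q : ℂ) - 3) / 4 / ((q : ℂ) + 1) = ((q : ℂ) - 3) / 4 := by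
    field_simp
  have hv2 : ((q : ℂ) + 1) ^ 2 * ((q : ℂ) - 3) / 4 / ((q : ℂ) + 1) ^ 2 = ((q : ℂ) - 3) / 4 := by
    field_simp
  rw [hv1, hv2]
  linear_combination e3


theorem sum_norm_irr (χ : IrrCharacter G) :
    ∑ g : G, (χ : G → ℂ) g * conj ((χ : G → ℂ) g) = (Nat.card G : ℂ) := by
  rw [← irr_norm χ]
  apply Finset.sum_congr rfl
  intro g _
  rw [irr_inv]

open scoped Classical in
/-- the total norm of `c` and `d` on the set `St = 0` -/
theorem sum_A (hB : Basics t s K) (D : CharData t K (-1) q St c d Θ)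
    (hoff : ∀ g : G, ¬ ConjInto K g → (St : G → ℂ) g = 0 ∨ (St : G → ℂ) g = 1)
    (hcd0 : ∀ g : G, ¬ ConjInto K g → (St : G → ℂ) g = 1 →
      (c : G → ℂ) g = 0 ∧ (d : G → ℂ) g = 0) :
    ∑ g ∈ Finset.univ.filter (fun g : G => ¬ ConjInto K g ∧ (St : G → ℂ) g = 0),
      ((c : G → ℂ) g * conj ((c : G → ℂ) g) + (d : G → ℂ) g * conj ((d : G → ℂ) g)) =
    ((q : ℂ) ^ 2 - 1) * ((q : ℂ) + 1) / 2 := by
  obtain ⟨hq3, hK, hΘ, hG⟩ := numerics D
  have hQ1 : (q : ℂ) + 1 ≠ 0 := by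
    have : ((q + 1 : ℕ) : ℂ) ≠ 0 := Nat.cast_ne_zero.2 (by omega)
    simpa using this
  have hc1 : (c : G → ℂ) 1 = ((q : ℂ) - 1) / 2 := by
    have := D.c_one
    push_cast at this
    linear_combination (1 / 2 : ℂ) * this
  have hd1 : (d : G → ℂ) 1 = ((q : ℂ) - 1) / 2 := by
    have := D.d_one
    push_cast at this
    linear_combination (1 / 2 : ℂ) * this
  set A : G → ℂ := fun g =>
    (c : G → ℂ) g * conj ((c : G → ℂ) g) + (d : G → ℂ) g * conj ((d : G → ℂ) g) with hA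
  have htot : ∑ g : G, A g = 2 * (Nat.card G : ℂ) := by
    rw [hA]
    simp only
    rw [Finset.sum_add_distrib, sum_norm_irr, sum_norm_irr]
    ring
  have hpt : ∀ g : G, A g = (if g = 1 then ((q : ℂ) - 1) ^ 2 / 2 else 0) +
      (if ConjInto K g ∧ g ≠ 1 then (2 : ℂ) else 0) +
      (if ¬ ConjInto K g ∧ (St : G → ℂ) g = 0 then A g else 0) := by
    intro g
    by_cases hg1 : g = 1
    · subst hg1
      rw [if_pos rfl, if_neg (fun hh => hh.2 rfl), if_neg (fun hh => hh.1 one_conjInto), add_zero,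
        add_zero, hA]
      simp only
      rw [conj_irr_one, conj_irr_one, hc1, hd1]
      ring
    · by_cases hgK : ConjInto K g
      · rw [if_neg hg1, if_pos ⟨hgK, hg1⟩, if_neg (fun hh => hh.1 hgK), zero_add, add_zero, hA]
        simp only
        rw [D.d_K g hgK hg1]
        rcases D.c_K g hgK hg1 with h1 | h1
        · rw [h1]
          simp
          norm_num
        · rw [h1]
          simp
          norm_num
      · rw [if_neg hg1, if_neg (fun hh => hgK hh.1), zero_add, zero_add]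
        rcases hoff g hgK with h0 | h1
        · rw [if_pos ⟨hgK, h0⟩]
        · have h2 : ¬ (¬ ConjInto K g ∧ (St : G → ℂ) g = 0) := by
            rintro ⟨_, h0⟩
            rw [h0] at h1
            exact zero_ne_one h1
          rw [if_neg h2, hA]
          simp only
          rw [(hcd0 g hgK h1).1, (hcd0 g hgK h1).2]
          simp
  have hN : ((Finset.univ.filter (fun g : G => ConjInto K g ∧ g ≠ 1)).card : ℂ) =
      (q : ℂ) * ((q : ℂ) - 1) ^ 2 / 4 := by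
    have h1 : (Finset.univ.filter (fun g : G => ConjInto K g ∧ g ≠ 1)).card =
        Nat.card {g : G // ConjInto K g ∧ g ≠ 1} := by
      rw [Nat.card_eq_fintype_card, Fintype.card_subtype]
    have h2 := hB.card_conjInto
    rw [← h1] at h2
    have hk1 : 1 ≤ Nat.card K := Nat.card_pos
    have h3 : ((2 * Nat.card K *
        (Finset.univ.filter (fun g : G => ConjInto K g ∧ g ≠ 1)).card : ℕ) : ℂ) =
        ((Nat.card G * (Nat.card K - 1) : ℕ) : ℂ) := congrArg _ h2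
    rw [Nat.cast_mul, Nat.cast_mul, Nat.cast_mul, Nat.cast_sub hk1, hK, hG] at h3
    push_cast at h3
    have h4 : ((q : ℂ) + 1) * ((Finset.univ.filter (fun g : G => ConjInto K g ∧ g ≠ 1)).card : ℂ) =
        ((q : ℂ) + 1) * ((q : ℂ) * ((q : ℂ) - 1) ^ 2 / 4) := by
      linear_combination h3
    exact mul_left_cancel₀ hQ1 h4
  have hsum : ∑ g : G, A g = ((q : ℂ) - 1) ^ 2 / 2 +
      2 * ((Finset.univ.filter (fun g : G => ConjInto K g ∧ g ≠ 1)).card : ℂ) +
      ∑ g ∈ Finset.univ.filter (fun g : G => ¬ ConjInto K g ∧ (St : G → ℂ) g = 0), A g := by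
    rw [Finset.sum_congr rfl (fun g _ => hpt g), Finset.sum_add_distrib, Finset.sum_add_distrib,
      Finset.sum_ite_eq' Finset.univ (1 : G), if_pos (Finset.mem_univ _), ← Finset.sum_filter,
      ← Finset.sum_filter, Finset.sum_const, nsmul_eq_mul]
    ring
  rw [htot, hN, hG] at hsum
  linear_combination -hsum

open scoped Classical in
theorem table_minus (h : Setup t s K) (hB : Basics t s K)
    (D : CharData t K (-1) q St c d Θ)
    (hoff : ∀ g : G, ¬ ConjInto K g → (St : G → ℂ) g = 0 ∨ (St : G → ℂ) g = 1)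
    (hcd0 : ∀ g : G, ¬ ConjInto K g → (St : G → ℂ) g = 1 → (c : G → ℂ) g = 0 ∧ (d : G → ℂ) g = 0)
    (hcard : Nat.card {g : G // ¬ ConjInto K g ∧ (St : G → ℂ) g = 0} = q ^ 2 - 1)
    (hcent : ∀ x : G, ¬ ConjInto K x → (St : G → ℂ) x = 0 →
      Nat.card (Subgroup.centralizer ({x} : Set G)) = q)
    {y : G} (hy : ¬ ConjInto K y) (hy0 : (St : G → ℂ) y = 0) :
    ((c : G → ℂ) y * conj ((c : G → ℂ) y) + (d : G → ℂ) y * conj ((d : G → ℂ) y) =
        ((q : ℂ) + 1) / 2) ∧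
      ∀ χ : IrrCharacter G, χ ≠ oneIrr G → χ ≠ St → χ ≠ c → χ ≠ d → χ ∉ Θ →
        (χ : G → ℂ) y = (χ : G → ℂ) 1 / ((q : ℂ) + 1) := by
  obtain ⟨hq3, hK, hΘ, hG⟩ := numerics D
  set Sf : Finset G := Finset.univ.filter (fun g : G => ¬ ConjInto K g ∧ (St : G → ℂ) g = 0)
    with hSf
  have hcardS : (Sf.card : ℂ) = (q : ℂ) ^ 2 - 1 := by
    have h1 : Sf.card = q ^ 2 - 1 := by
      rw [← hcard, Nat.card_eq_fintype_card, Fintype.card_subtype]
    rw [h1, Nat.cast_sub (Nat.one_le_pow _ _ (by omega))]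
    push_cast
    ring
  -- the real defect
  set e : G → ℝ := fun g => ∑ χ ∈ others St c d Θ,
    Complex.normSq ((χ : G → ℂ) g - (χ : G → ℂ) 1 / ((q : ℂ) + 1)) with he
  have he0 : ∀ g, 0 ≤ e g := fun g => Finset.sum_nonneg (fun χ _ => Complex.normSq_nonneg _)
  have hcol : ∀ g ∈ Sf, (c : G → ℂ) g * conj ((c : G → ℂ) g) +
      (d : G → ℂ) g * conj ((d : G → ℂ) g) + ((e g : ℝ) : ℂ) = ((q : ℂ) + 1) / 2 := by
    intro g hg
    rw [hSf, Finset.mem_filter] at hg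
    have h1 := col_identity D hg.2.1 hg.2.2 (hcent g hg.2.1 hg.2.2)
    rw [← h1, he]
    simp only
    rw [Complex.ofReal_sum]
    congr 1
    apply Finset.sum_congr rfl
    intro χ _
    rw [Complex.mul_conj]
  have hsumcol : ∑ g ∈ Sf, ((c : G → ℂ) g * conj ((c : G → ℂ) g) +
      (d : G → ℂ) g * conj ((d : G → ℂ) g) + ((e g : ℝ) : ℂ)) =
      (Sf.card : ℂ) * (((q : ℂ) + 1) / 2) := by
    rw [Finset.sum_congr rfl hcol, Finset.sum_const, nsmul_eq_mul]
  rw [Finset.sum_add_distrib, sum_A hB D hoff hcd0, hcardS] at hsumcol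
  have hE0 : ∑ g ∈ Sf, ((e g : ℝ) : ℂ) = 0 := by
    linear_combination hsumcol
  rw [← Complex.ofReal_sum, Complex.ofReal_eq_zero] at hE0
  have hySf : y ∈ Sf := by
    rw [hSf, Finset.mem_filter]
    exact ⟨Finset.mem_univ _, hy, hy0⟩
  have hey : e y = 0 := (Finset.sum_eq_zero_iff_of_nonneg (fun g _ => he0 g)).1 hE0 y hySf
  constructor
  · have h1 := hcol y hySf
    rw [hey, Complex.ofReal_zero, add_zero] at h1
    exact h1
  · intro χ h1 h2 h3 h4 h5
    have hχ : χ ∈ others St c d Θ := mem_others.2 ⟨h1, h2, h3, h4, h5⟩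
    have h6 := (Finset.sum_eq_zero_iff_of_nonneg
      (fun χ _ => Complex.normSq_nonneg _)).1 hey χ hχ
    rw [Complex.normSq_eq_zero, sub_eq_zero] at h6
    exact h6

end Cfsg.Agent.Lib.Helper65_BSW_B5b
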