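import Mathlib
import Cfsg.Agent.Lib.Helper77_BSWDefs
import Cfsg.Agent.Lib.Helper3_CharColumn

/-!
# S3282 package B5d (helper75): the number of factorizations inside the set `St = 0`, case `ε = -1`

`count_minus`: `#{v ∈ S : v⁻¹ y ∈ S} = 2 (q - 1)` for `y ∈ S = {g : ¬ConjInto K g ∧ St g = 0}`.
-/

set_option autoImplicit false
open Cfsg
open scoped ComplexConjugate

namespace Cfsg.Agent.Lib.Helper75_BSW_B5d

open Cfsg.Agent.Lib.Helper77_BSWDefs Cfsg.Agent.Lib.Helper80_CharBasic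
  Cfsg.Agent.Lib.Helper3_CharComplete

variable {G : Type*} [Group G] [Fintype G] {t s : G} {K : Subgroup G} {q : ℕ}
  {St c d : IrrCharacter G} {Θ : Finset (IrrCharacter G)}

theorem conjInto_inv {g : G} (hg : ConjInto K g⁻¹) : ConjInto K g := by
  obtain ⟨x, hx⟩ := hg
  refine ⟨x, ?_⟩
  have := K.inv_mem hx
  have e : (x⁻¹ * g⁻¹ * x)⁻¹ = x⁻¹ * g * x := by group
  rwa [e] at this

/-- The final rational-function identity. -/
theorem final_identity (Q N Gc : ℂ) (h1 : Q - 1 ≠ 0) (h2 : Q + 1 ≠ 0) (h0 : Q ≠ 0)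
    (hG : 2 * Gc = Q * (Q + 1) * (Q - 1))
    (hN : N * Gc = ((Q ^ 2 - 1) ^ 2 - (Q - 1) ^ 2 / (Q + 1))
      + (0 - (Q - 1) ^ 2 / (Q + 1) * Q ^ 2)
      + (((Q ^ 2 - 1) / 2) ^ 2 * (-1) / ((Q - 1) / 2)
          - 2 * ((Q - 1) ^ 2 / (Q + 1) * ((Q - 1) / 2) ^ 2))
      + ((Q - 3) / 4) * ((Q ^ 2 - 1) ^ 2 * (-1) / (Q - 1) - (Q - 1) ^ 2 / (Q + 1) * (Q - 1) ^ 2)
      + (Q - 1) ^ 2 / (Q + 1) * Gc) :
    N = 2 * (Q - 1) := by
  have hGc : Gc = Q * (Q + 1) * (Q - 1) / 2 := by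
    rw [← hG]; ring
  have hGne : Gc ≠ 0 := by
    rw [hGc]
    exact div_ne_zero (mul_ne_zero (mul_ne_zero h0 h2) h1) two_ne_zero
  have : N * Gc = 2 * (Q - 1) * Gc := by
    rw [hN, hGc]
    field_simp
    ring
  exact mul_right_cancel₀ hGne this

theorem count_minus [DecidableEq G] (h : Setup t s K) (hB : Basics t s K)
    (D : CharData t K (-1) q St c d Θ)
    (S : Finset G) (hS : ∀ g : G, g ∈ S ↔ ¬ ConjInto K g ∧ (St : G → ℂ) g = 0)
    (hcard : S.card = q ^ 2 - 1)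
    (hconv : ∀ y : G, ((S.filter (fun v => v⁻¹ * y ∈ S)).card : ℂ) * (Nat.card G : ℂ) =
      ∑ χ : IrrCharacter G,
        (conj (∑ v ∈ S, (χ : G → ℂ) v)) ^ 2 * (χ : G → ℂ) y / (χ : G → ℂ) 1)
    (hcd : ∀ g : G, conj ((c : G → ℂ) g) = (d : G → ℂ) g)
    (htab : ∀ y ∈ S, ∀ χ : IrrCharacter G, χ ≠ oneIrr G → χ ≠ St → χ ≠ c → χ ≠ d → χ ∉ Θ →
        (χ : G → ℂ) y = (χ : G → ℂ) 1 / ((q : ℂ) + 1))
    {y : G} (hy : y ∈ S) :
    (S.filter (fun v => v⁻¹ * y ∈ S)).card = 2 * (q - 1) := by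
  classical
  -- arithmetic of `q`, `k`, `|Θ|`
  have hq := D.hq
  have hΘc := D.Θ_card
  have hk2 : 2 ≤ Nat.card K := by omega
  have hq3 : 3 ≤ q := by omega
  set Q : ℂ := (q : ℂ) with hQ
  have hkQ : (Nat.card K : ℂ) = (Q + 1) / 2 := by
    have : ((q : ℤ) : ℂ) = ((2 * (Nat.card K : ℤ) + (-1) : ℤ) : ℂ) := by rw [hq]
    push_cast at this
    rw [hQ, this]; ring
  have hΘQ : (Θ.card : ℂ) = (Q - 3) / 4 := by
    have : ((2 * Θ.card + 2 : ℕ) : ℂ) = (Nat.card K : ℂ) := by rw [hΘc]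
    push_cast at this
    rw [hkQ] at this
    linear_combination this / 2
  have hQ1 : Q - 1 ≠ 0 := by
    rw [hQ]
    have : ((q : ℂ) - 1) = ((q - 1 : ℕ) : ℂ) := by
      rw [Nat.cast_sub (by omega)]; simp
    rw [this]
    exact_mod_cast (by omega : q - 1 ≠ 0)
  have hQp : Q + 1 ≠ 0 := by
    rw [hQ]
    exact_mod_cast (by omega : q + 1 ≠ 0)
  have hQ0 : Q ≠ 0 := by
    rw [hQ]
    exact_mod_cast (by omega : q ≠ 0)
  have hGQ : 2 * (Nat.card G : ℂ) = Q * (Q + 1) * (Q - 1) := by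
    have := D.card_G
    have h2 : ((2 * Nat.card G : ℕ) : ℂ) = ((q * (q + 1) * (q - 1) : ℕ) : ℂ) := by rw [this]
    rw [Nat.cast_mul, Nat.cast_mul, Nat.cast_mul, Nat.cast_sub (by omega)] at h2
    push_cast at h2
    rw [hQ]; exact h2
  have hSQ : (S.card : ℂ) = Q ^ 2 - 1 := by
    rw [hcard, Nat.cast_sub (Nat.one_le_pow _ _ (by omega))]
    push_cast
    rfl
  have hconjQ : conj Q = Q := by rw [hQ, Complex.conj_natCast]
  -- membership facts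
  have hSoff : ∀ v ∈ S, ¬ ConjInto K v := fun v hv => ((hS v).mp hv).1
  have hSSt : ∀ v ∈ S, (St : G → ℂ) v = 0 := fun v hv => ((hS v).mp hv).2
  have hSinv : ∀ v ∈ S, v⁻¹ ∈ S := by
    intro v hv
    rw [hS]
    refine ⟨fun hc => hSoff v hv (conjInto_inv hc), ?_⟩
    rw [irr_inv, hSSt v hv, map_zero]
  -- degrees
  have hSt1 : (St : G → ℂ) 1 = Q := D.St_one
  have hc1 : (c : G → ℂ) 1 = (Q - 1) / 2 := by
    have := D.c_one
    push_cast at this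
    rw [hQ]
    linear_combination this / 2
  have hd1 : (d : G → ℂ) 1 = (Q - 1) / 2 := by
    have := D.d_one
    push_cast at this
    rw [hQ]
    linear_combination this / 2
  have hθ1 : ∀ θ ∈ Θ, (θ : G → ℂ) 1 = Q - 1 := by
    intro θ hθ
    have := D.Θ_one θ hθ
    push_cast at this
    rw [hQ, this]; ring
  -- class sums
  have s1 : ∑ v ∈ S, (oneIrr G : G → ℂ) v = Q ^ 2 - 1 := by
    have : ∀ v ∈ S, (oneIrr G : G → ℂ) v = 1 := fun v _ => rfl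
    rw [Finset.sum_congr rfl this, Finset.sum_const, nsmul_eq_mul, mul_one, hSQ]
  have sSt : ∑ v ∈ S, (St : G → ℂ) v = 0 := Finset.sum_eq_zero hSSt
  have sθ : ∀ θ ∈ Θ, ∑ v ∈ S, (θ : G → ℂ) v = -(Q ^ 2 - 1) := by
    intro θ hθ
    have : ∀ v ∈ S, (θ : G → ℂ) v = -1 := by
      intro v hv
      rw [D.Θ_off θ hθ v (hSoff v hv), hSSt v hv]
      push_cast; ring
    rw [Finset.sum_congr rfl this, Finset.sum_const, nsmul_eq_mul, hSQ]; ring
  have sO : ∀ χ : IrrCharacter G, χ ≠ oneIrr G → χ ≠ St → χ ≠ c → χ ≠ d → χ ∉ Θ →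
      ∑ v ∈ S, (χ : G → ℂ) v = (Q ^ 2 - 1) * ((χ : G → ℂ) 1 / (Q + 1)) := by
    intro χ h1 h2 h3 h4 h5
    rw [Finset.sum_congr rfl (fun v hv => htab v hv χ h1 h2 h3 h4 h5), Finset.sum_const,
      nsmul_eq_mul, hSQ]
  have scd : ∑ v ∈ S, (c : G → ℂ) v + ∑ v ∈ S, (d : G → ℂ) v = -(Q ^ 2 - 1) := by
    rw [← Finset.sum_add_distrib]
    have : ∀ v ∈ S, (c : G → ℂ) v + (d : G → ℂ) v = -1 := by
      intro v hv
      rw [D.cd_off v (hSoff v hv), hSSt v hv]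
      push_cast; ring
    rw [Finset.sum_congr rfl this, Finset.sum_const, nsmul_eq_mul, hSQ]; ring
  have sd_eq : ∑ v ∈ S, (d : G → ℂ) v = conj (∑ v ∈ S, (c : G → ℂ) v) := by
    rw [map_sum]
    exact Finset.sum_congr rfl (fun v _ => (hcd v).symm)
  have sc_real : conj (∑ v ∈ S, (c : G → ℂ) v) = ∑ v ∈ S, (c : G → ℂ) v := by
    rw [map_sum]
    have e1 : ∑ v ∈ S, conj ((c : G → ℂ) v) = ∑ v ∈ S, (c : G → ℂ) v⁻¹ :=
      Finset.sum_congr rfl (fun v _ => (irr_inv c v).symm)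
    rw [e1]
    refine Finset.sum_bij (fun v _ => v⁻¹) (fun v hv => hSinv v hv) ?_ ?_ ?_
    · intro a _ b _ hab
      exact inv_injective hab
    · intro b hb
      exact ⟨b⁻¹, hSinv b hb, inv_inv b⟩
    · intro v _
      rfl
  have sc : ∑ v ∈ S, (c : G → ℂ) v = -(Q ^ 2 - 1) / 2 := by
    rw [sd_eq, sc_real] at scd
    linear_combination scd / 2
  have sd : ∑ v ∈ S, (d : G → ℂ) v = -(Q ^ 2 - 1) / 2 := by
    rw [sd_eq, sc_real, sc]
  -- values at `y`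
  have hyoff := hSoff y hy
  have hySt := hSSt y hy
  have hycd : (c : G → ℂ) y + (d : G → ℂ) y = -1 := by
    rw [D.cd_off y hyoff, hySt]; push_cast; ring
  have hyθ : ∀ θ ∈ Θ, (θ : G → ℂ) y = -1 := by
    intro θ hθ
    rw [D.Θ_off θ hθ y hyoff, hySt]; push_cast; ring
  -- the terms
  set κ : ℂ := (Q - 1) ^ 2 / (Q + 1) with hκ
  let f : IrrCharacter G → ℂ := fun χ =>
    (conj (∑ v ∈ S, (χ : G → ℂ) v)) ^ 2 * (χ : G → ℂ) y / (χ : G → ℂ) 1
  let gg : IrrCharacter G → ℂ := fun χ => f χ - κ * (χ : G → ℂ) 1 ^ 2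
  have hdegreal : ∀ χ : IrrCharacter G, conj ((χ : G → ℂ) 1) = (χ : G → ℂ) 1 := by
    intro χ
    obtain ⟨n, -, hn⟩ := irr_apply_one χ
    rw [hn, Complex.conj_natCast]
  have hdegne : ∀ χ : IrrCharacter G, (χ : G → ℂ) 1 ≠ 0 := by
    intro χ
    obtain ⟨n, hn0, hn⟩ := irr_apply_one χ
    rw [hn]; exact_mod_cast hn0.ne'
  have hsumsq := Cfsg.Agent.Lib.Helper3_CharColumn.sum_sq_irr_one (G := G)
  have htotal : ∑ χ : IrrCharacter G, f χ = ∑ χ : IrrCharacter G, gg χ + κ * (Nat.card G : ℂ) := by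
    rw [← hsumsq, Finset.mul_sum, ← Finset.sum_add_distrib]
    refine Finset.sum_congr rfl (fun χ _ => ?_)
    simp only [gg]; ring
  -- the special set
  set Sp : Finset (IrrCharacter G) := insert (oneIrr G) (insert St (insert c (insert d Θ)))
    with hSp
  have hggO : ∀ χ : IrrCharacter G, χ ∉ Sp → gg χ = 0 := by
    intro χ hχ
    simp only [hSp, Finset.mem_insert, not_or] at hχ
    obtain ⟨h1, h2, h3, h4, h5⟩ := hχ
    simp only [gg, f]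
    rw [sO χ h1 h2 h3 h4 h5, htab y hy χ h1 h2 h3 h4 h5, hκ]
    have hχ1 := hdegne χ
    rw [map_mul, map_div₀, map_sub, map_pow, map_add, hconjQ, hdegreal χ, map_one]
    field_simp
    ring
  have hsumgg : ∑ χ : IrrCharacter G, gg χ = ∑ χ ∈ Sp, gg χ := by
    symm
    apply Finset.sum_subset (Finset.subset_univ _)
    intro χ _ hχ
    exact hggO χ hχ
  have hn1 : oneIrr G ∉ insert St (insert c (insert d Θ)) := by
    simp only [Finset.mem_insert, not_or]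
    exact ⟨D.St_ne_one.symm, D.c_ne_one.symm, D.d_ne_one.symm, D.one_notMem⟩
  have hn2 : St ∉ insert c (insert d Θ) := by
    simp only [Finset.mem_insert, not_or]
    exact ⟨D.St_ne_c, D.St_ne_d, D.St_notMem⟩
  have hn3 : c ∉ insert d Θ := by
    simp only [Finset.mem_insert, not_or]
    exact ⟨D.c_ne_d, D.c_notMem⟩
  have hn4 : d ∉ Θ := D.d_notMem
  have hgg1 : gg (oneIrr G) = (Q ^ 2 - 1) ^ 2 - κ := by
    simp only [gg, f]
    rw [s1]
    have e1 : (oneIrr G : G → ℂ) y = 1 := rfl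
    have e2 : (oneIrr G : G → ℂ) 1 = 1 := rfl
    rw [e1, e2, map_sub, map_pow, hconjQ, map_one]
    ring
  have hggSt : gg St = 0 - κ * Q ^ 2 := by
    simp only [gg, f]
    rw [sSt, hSt1, map_zero]
    ring
  have hggcd : gg c + gg d = ((Q ^ 2 - 1) / 2) ^ 2 * (-1) / ((Q - 1) / 2)
      - 2 * (κ * ((Q - 1) / 2) ^ 2) := by
    simp only [gg, f]
    rw [sc, sd, hc1, hd1]
    have e : conj (-(Q ^ 2 - 1) / 2) = -(Q ^ 2 - 1) / 2 := by
      rw [map_div₀, map_neg, map_sub, map_pow, hconjQ, map_one]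
      congr 1
      exact Complex.conj_ofNat 2
    rw [e, ← hycd]
    field_simp
    ring
  have hggθ : ∀ θ ∈ Θ, gg θ = (Q ^ 2 - 1) ^ 2 * (-1) / (Q - 1) - κ * (Q - 1) ^ 2 := by
    intro θ hθ
    simp only [gg, f]
    rw [sθ θ hθ, hθ1 θ hθ, hyθ θ hθ, map_neg, map_sub, map_pow, hconjQ, map_one]
    ring
  have hSpsum : ∑ χ ∈ Sp, gg χ = ((Q ^ 2 - 1) ^ 2 - κ) + (0 - κ * Q ^ 2)
      + (((Q ^ 2 - 1) / 2) ^ 2 * (-1) / ((Q - 1) / 2) - 2 * (κ * ((Q - 1) / 2) ^ 2))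
      + ((Q - 3) / 4) * ((Q ^ 2 - 1) ^ 2 * (-1) / (Q - 1) - κ * (Q - 1) ^ 2) := by
    rw [hSp, Finset.sum_insert hn1, Finset.sum_insert hn2, Finset.sum_insert hn3,
      Finset.sum_insert hn4, Finset.sum_congr rfl hggθ, Finset.sum_const, nsmul_eq_mul, hΘQ,
      hgg1, hggSt, ← add_assoc (gg c), hggcd]
    ring
  have hmain := hconv y
  have hN : ((S.filter (fun v => v⁻¹ * y ∈ S)).card : ℂ) = 2 * (Q - 1) := by
    apply final_identity Q _ (Nat.card G : ℂ) hQ1 hQp hQ0 hGQ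
    rw [hmain]
    show ∑ χ : IrrCharacter G, f χ = _
    rw [htotal, hsumgg, hSpsum]
  have hcast : ((S.filter (fun v => v⁻¹ * y ∈ S)).card : ℂ) = ((2 * (q - 1) : ℕ) : ℂ) := by
    rw [hN, Nat.cast_mul, Nat.cast_sub (by omega)]
    push_cast
    rfl
  exact_mod_cast hcast

end Cfsg.Agent.Lib.Helper75_BSW_B5d
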