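import Mathlib
import Cfsg.Agent.Lib.Helper77_BSWDefs
import Cfsg.Agent.Lib.Helper80_FullyRamified
import Cfsg.Agent.Lib.Helper3_CharBridge

/-!
# S3282 package CONV (helper75): convolution of the indicator of a union of classes with itself

`conv_formula`: for a conjugation-closed finite set `S`,
`#{v ∈ S : v⁻¹ y ∈ S} · |G| = ∑_χ conj(∑_{v ∈ S} χ v)² χ(y) / χ(1)`.
-/

set_option autoImplicit false
open Cfsg
open scoped ComplexConjugate

namespace Cfsg.Agent.Lib.Helper75_BSW_CONV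

open Cfsg.Agent.Lib.Helper77_BSWDefs Cfsg.Agent.Lib.Helper80_CharBasic
  Cfsg.Agent.Lib.Helper3_CharComplete

variable {G : Type*} [Group G] [Fintype G] [DecidableEq G]

/-- The indicator function of a finite set. -/
noncomputable def ind (S : Finset G) : G → ℂ := fun g => if g ∈ S then 1 else 0

theorem conj_mem_iff (S : Finset G) (hS : ∀ v ∈ S, ∀ x : G, x * v * x⁻¹ ∈ S) (v x : G) :
    x * v * x⁻¹ ∈ S ↔ v ∈ S := by
  constructor
  · intro h
    have := hS _ h x⁻¹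
    simpa [mul_assoc] using this
  · intro h
    exact hS v h x

theorem ind_isClassFunction (S : Finset G) (hS : ∀ v ∈ S, ∀ x : G, x * v * x⁻¹ ∈ S) :
    IsClassFunction G (ind S) := by
  intro g h
  unfold ind
  exact if_congr (conj_mem_iff S hS g h) rfl rfl

theorem classInner_ind (S : Finset G) (χ : G → ℂ) :
    classInner (ind S) χ = (Nat.card G : ℂ)⁻¹ * conj (∑ v ∈ S, χ v) := by
  unfold classInner ind
  congr 1
  rw [map_sum]
  simp only [ite_mul, one_mul, zero_mul]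
  rw [Finset.sum_ite_mem, Finset.univ_inter]

/-- Summing an irreducible character over the translates `v⁻¹ y`, `v ∈ S`. -/
theorem sum_inv_mul (S : Finset G) (hS : ∀ v ∈ S, ∀ x : G, x * v * x⁻¹ ∈ S)
    (χ : IrrCharacter G) (y : G) :
    ∑ v ∈ S, (χ : G → ℂ) (v⁻¹ * y) =
      conj (∑ v ∈ S, (χ : G → ℂ) v) * (χ : G → ℂ) y / (χ : G → ℂ) 1 := by
  have hG : (Nat.card G : ℂ) ≠ 0 := by exact_mod_cast Nat.card_pos.ne'
  obtain ⟨n, hn, hχ1⟩ := irr_apply_one χ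
  have h1 : (χ : G → ℂ) 1 ≠ 0 := by
    rw [hχ1]; exact_mod_cast hn.ne'
  -- invariance under conjugation of the summation variable
  have hinv : ∀ h : G, ∑ v ∈ S, (χ : G → ℂ) (y * (h * v⁻¹ * h⁻¹)) =
      ∑ v ∈ S, (χ : G → ℂ) (v⁻¹ * y) := by
    intro h
    refine Finset.sum_bij (fun v _ => h * v * h⁻¹) (fun v hv => hS v hv h) ?_ ?_ ?_
    · intro a _ b _ hab
      simpa using hab
    · intro b hb
      refine ⟨h⁻¹ * b * h, ?_, by group⟩
      have := hS b hb h⁻¹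
      simpa using this
    · intro v _
      have e1 : (h * v * h⁻¹)⁻¹ * y = (h * v⁻¹ * h⁻¹) * y := by group
      rw [e1]
      have e2 : y * (h * v⁻¹ * h⁻¹) = y * ((h * v⁻¹ * h⁻¹) * y) * y⁻¹ := by group
      rw [e2, irr_conj]
  have hsum : (Nat.card G : ℂ) * ∑ v ∈ S, (χ : G → ℂ) (v⁻¹ * y) =
      ∑ v ∈ S, (Nat.card G : ℂ) / (χ : G → ℂ) 1 * (χ : G → ℂ) v⁻¹ * (χ : G → ℂ) y := by
    calc (Nat.card G : ℂ) * ∑ v ∈ S, (χ : G → ℂ) (v⁻¹ * y)
        = ∑ _h : G, ∑ v ∈ S, (χ : G → ℂ) (v⁻¹ * y) := by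
          rw [Finset.sum_const, Finset.card_univ, nsmul_eq_mul, Nat.card_eq_fintype_card]
      _ = ∑ h : G, ∑ v ∈ S, (χ : G → ℂ) (y * (h * v⁻¹ * h⁻¹)) :=
          Finset.sum_congr rfl (fun h _ => (hinv h).symm)
      _ = ∑ v ∈ S, ∑ h : G, (χ : G → ℂ) (y * (h * v⁻¹ * h⁻¹)) := Finset.sum_comm
      _ = ∑ v ∈ S, (Nat.card G : ℂ) / (χ : G → ℂ) 1 * (χ : G → ℂ) v⁻¹ * (χ : G → ℂ) y :=
          Finset.sum_congr rfl (fun v _ =>
            Cfsg.Agent.Lib.Helper80_FullyRamified.sum_mul_conj_irr χ v⁻¹ y)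
  have hconj : conj (∑ v ∈ S, (χ : G → ℂ) v) = ∑ v ∈ S, (χ : G → ℂ) v⁻¹ := by
    rw [map_sum]
    exact Finset.sum_congr rfl (fun v _ => (irr_inv χ v).symm)
  rw [hconj]
  have h2 : (Nat.card G : ℂ) * ∑ v ∈ S, (χ : G → ℂ) (v⁻¹ * y) =
      (Nat.card G : ℂ) * ((∑ v ∈ S, (χ : G → ℂ) v⁻¹) * (χ : G → ℂ) y / (χ : G → ℂ) 1) := by
    rw [hsum, Finset.sum_mul, Finset.sum_div, Finset.mul_sum]
    refine Finset.sum_congr rfl (fun v _ => ?_)
    field_simp
  exact mul_left_cancel₀ hG h2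

theorem conv_formula (S : Finset G)
    (hS : ∀ v ∈ S, ∀ x : G, x * v * x⁻¹ ∈ S) (y : G) :
    ((S.filter (fun v => v⁻¹ * y ∈ S)).card : ℂ) * (Nat.card G : ℂ) =
      ∑ χ : IrrCharacter G,
        (conj (∑ v ∈ S, (χ : G → ℂ) v)) ^ 2 * (χ : G → ℂ) y / (χ : G → ℂ) 1 := by
  have hG : (Nat.card G : ℂ) ≠ 0 := by exact_mod_cast Nat.card_pos.ne'
  have hexp := classFunction_eq_sum (ind S) (ind_isClassFunction S hS)
  have hcount : ((S.filter (fun v => v⁻¹ * y ∈ S)).card : ℂ) = ∑ v ∈ S, ind S (v⁻¹ * y) := by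
    unfold ind
    rw [Finset.card_filter]
    push_cast
    rfl
  have hval : ∀ v : G, ind S (v⁻¹ * y) =
      ∑ χ : IrrCharacter G, (Nat.card G : ℂ)⁻¹ * conj (∑ w ∈ S, (χ : G → ℂ) w) *
        (χ : G → ℂ) (v⁻¹ * y) := by
    intro v
    have := congrFun hexp (v⁻¹ * y)
    rw [Finset.sum_apply] at this
    rw [this]
    refine Finset.sum_congr rfl (fun χ _ => ?_)
    rw [Pi.smul_apply, smul_eq_mul, classInner_ind]
  rw [hcount]
  simp_rw [hval]
  rw [Finset.sum_comm, Finset.sum_mul]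
  refine Finset.sum_congr rfl (fun χ _ => ?_)
  rw [← Finset.mul_sum, sum_inv_mul S hS χ y]
  field_simp

end Cfsg.Agent.Lib.Helper75_BSW_CONV
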