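import Mathlib
import Cfsg.Agent.Lib.Helper77_BSWDefs
import Cfsg.Agent.Lib.Helper75_BSW_CONV
import Cfsg.Agent.Lib.Helper3_CharColumn

/-!
# S3282 package INV (helper75): pairs of involutions and the class multiplication formula

* `pairCount_eq_invCount`: for `g` not an involution, the number of pairs of involutions with product
  `g` is the number of involutions inverting `g`;
* `pairCount_formula`: if all involutions are conjugate to `t`, then
  `pairCount g · |C(t)|² = |G| ∑_χ χ(t)² conj(χ g) / χ(1)`.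
-/

set_option autoImplicit false
open Cfsg
open scoped ComplexConjugate

namespace Cfsg.Agent.Lib.Helper75_BSW_INV

open Cfsg.Agent.Lib.Helper77_BSWDefs Cfsg.Agent.Lib.Helper80_CharBasic
  Cfsg.Agent.Lib.Helper3_CharComplete

theorem pairCount_eq_invCount {G : Type*} [Group G] [Finite G] (g : G) (hg : orderOf g ≠ 2) :
    pairCount g = invCount g := by
  unfold pairCount invCount
  apply Nat.card_congr
  apply Equiv.subtypeEquivRight
  intro u
  constructor
  · rintro ⟨hu, huv⟩
    refine ⟨hu, ?_⟩
    have hu2 : u * u = 1 := by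
      have := pow_orderOf_eq_one u
      rw [hu, pow_two] at this
      exact this
    have hv2 : (u⁻¹ * g) * (u⁻¹ * g) = 1 := by
      have := pow_orderOf_eq_one (u⁻¹ * g)
      rw [huv, pow_two] at this
      exact this
    have huinv : u⁻¹ = u := inv_eq_of_mul_eq_one_left hu2
    rw [huinv] at hv2 ⊢
    -- u g u g = 1
    calc u * g * u = (u * g * (u * g)) * g⁻¹ := by group
      _ = g⁻¹ := by rw [hv2, one_mul]
  · rintro ⟨hu, hinv⟩
    refine ⟨hu, ?_⟩
    have hu2 : u * u = 1 := by
      have := pow_orderOf_eq_one u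
      rw [hu, pow_two] at this
      exact this
    have huinv : u⁻¹ = u := inv_eq_of_mul_eq_one_left hu2
    rw [huinv] at hinv ⊢
    have hv2 : (u * g) ^ 2 = 1 := by
      rw [pow_two]
      calc u * g * (u * g) = (u * g * u) * g := by group
        _ = 1 := by rw [hinv, inv_mul_cancel]
    have hne : u * g ≠ 1 := by
      intro h1
      have : g = u := by
        calc g = u * (u * g) := by rw [← mul_assoc, hu2, one_mul]
          _ = u := by rw [h1, mul_one]
      exact hg (this ▸ hu)
    exact orderOf_eq_prime hv2 hne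

section formula

variable {G : Type*} [Group G] [Fintype G]

theorem orderOf_conj_eq (x u : G) : orderOf (x * u * x⁻¹) = orderOf u := by
  have := orderOf_injective (MulAut.conj x).toMonoidHom (MulAut.conj x).injective u
  simpa [MulAut.conj_apply] using this

theorem pairCount_formula (t : G) (ht : orderOf t = 2)
    (hconj : ∀ u : G, orderOf u = 2 → IsConj u t) (g : G) :
    (pairCount g : ℂ) * (Nat.card (Subgroup.centralizer ({t} : Set G)) : ℂ) ^ 2 =
      (Nat.card G : ℂ) * ∑ χ : IrrCharacter G,
        ((χ : G → ℂ) t) ^ 2 * conj ((χ : G → ℂ) g) / (χ : G → ℂ) 1 := by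
  classical
  set T : Finset G := Finset.univ.filter (fun u => orderOf u = 2) with hT
  have hTmem : ∀ u : G, u ∈ T ↔ orderOf u = 2 := by
    intro u; simp [hT]
  have hTconj : ∀ v ∈ T, ∀ x : G, x * v * x⁻¹ ∈ T := by
    intro v hv x
    rw [hTmem] at hv ⊢
    rw [orderOf_conj_eq, hv]
  -- `T` is the conjugacy class of `t`
  have hTeq : T = Cfsg.Agent.Lib.Helper3_CharColumn.conjFinset t := by
    ext u
    rw [hTmem, Cfsg.Agent.Lib.Helper3_CharColumn.mem_conjFinset]
    constructor
    · exact hconj u
    · intro hut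
      obtain ⟨c, hc⟩ := isConj_iff.mp hut
      -- c * u * c⁻¹ = t
      have : orderOf (c * u * c⁻¹) = 2 := by rw [hc, ht]
      rwa [orderOf_conj_eq] at this
  have hcardT : (T.card : ℂ) * (Nat.card (Subgroup.centralizer ({t} : Set G)) : ℂ) =
      (Nat.card G : ℂ) := by
    rw [hTeq]
    exact_mod_cast Cfsg.Agent.Lib.Helper3_CharColumn.card_conjFinset_mul_card_centralizer t
  have hcount : pairCount g = (T.filter (fun v => v⁻¹ * g ∈ T)).card := by
    unfold pairCount
    rw [Nat.card_eq_fintype_card, Fintype.card_subtype]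
    congr 1
    ext u
    simp [hT]
  have hconv := Cfsg.Agent.Lib.Helper75_BSW_CONV.conv_formula T hTconj g
  rw [← hcount] at hconv
  -- the class sums
  have hsum : ∀ χ : IrrCharacter G, ∑ v ∈ T, (χ : G → ℂ) v = (T.card : ℂ) * (χ : G → ℂ) t := by
    intro χ
    rw [Finset.sum_congr rfl (fun v hv => irr_isConj χ (hconj v ((hTmem v).mp hv))),
      Finset.sum_const, nsmul_eq_mul]
  have htinv : t⁻¹ = t := by
    have h2 : t * t = 1 := by
      have := pow_orderOf_eq_one t
      rw [ht, pow_two] at this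
      exact this
    exact inv_eq_of_mul_eq_one_left h2
  have hreal : ∀ χ : IrrCharacter G, conj ((χ : G → ℂ) t) = (χ : G → ℂ) t := by
    intro χ
    rw [← irr_inv, htinv]
  have hdeg : ∀ χ : IrrCharacter G, conj ((χ : G → ℂ) 1) = (χ : G → ℂ) 1 := by
    intro χ
    obtain ⟨n, -, hn⟩ := irr_apply_one χ
    rw [hn, Complex.conj_natCast]
  -- conjugate the convolution formula
  have hconv' : (pairCount g : ℂ) * (Nat.card G : ℂ) =
      ∑ χ : IrrCharacter G, ((T.card : ℂ) * (χ : G → ℂ) t) ^ 2 * conj ((χ : G → ℂ) g) /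
        (χ : G → ℂ) 1 := by
    have := congrArg conj hconv
    rw [map_mul, Complex.conj_natCast, Complex.conj_natCast, map_sum] at this
    rw [this]
    refine Finset.sum_congr rfl (fun χ _ => ?_)
    rw [map_div₀, map_mul, map_pow, Complex.conj_conj, hsum χ, hdeg χ]
  have hC : (Nat.card (Subgroup.centralizer ({t} : Set G)) : ℂ) ≠ 0 := by
    exact_mod_cast Nat.card_pos.ne'
  have hG : (Nat.card G : ℂ) ≠ 0 := by exact_mod_cast Nat.card_pos.ne'
  have hfinal : (pairCount g : ℂ) * (Nat.card G : ℂ) *
      (Nat.card (Subgroup.centralizer ({t} : Set G)) : ℂ) ^ 2 =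
      (Nat.card G : ℂ) * ((Nat.card G : ℂ) * ∑ χ : IrrCharacter G,
        ((χ : G → ℂ) t) ^ 2 * conj ((χ : G → ℂ) g) / (χ : G → ℂ) 1) := by
    rw [hconv', Finset.sum_mul, Finset.mul_sum, Finset.mul_sum]
    refine Finset.sum_congr rfl (fun χ _ => ?_)
    rw [← hcardT]
    ring
  have : (Nat.card G : ℂ) * ((pairCount g : ℂ) *
      (Nat.card (Subgroup.centralizer ({t} : Set G)) : ℂ) ^ 2) =
      (Nat.card G : ℂ) * ((Nat.card G : ℂ) * ∑ χ : IrrCharacter G,
        ((χ : G → ℂ) t) ^ 2 * conj ((χ : G → ℂ) g) / (χ : G → ℂ) 1) := by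
    rw [← hfinal]; ring
  exact mul_left_cancel₀ hG this

end formula

end Cfsg.Agent.Lib.Helper75_BSW_INV
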