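import Mathlib
import Cfsg.Agent.Lib.Helper77_BSWDefs

set_option autoImplicit false

/-!
Package A0 of S3282 (abstract Brauer–Suzuki–Wall theorem, architect helper77): the elementary
group-theoretic consequences `Basics` of the hypotheses `Setup`.
-/

open Cfsg

namespace Cfsg.Agent.Lib.Helper8_BSW_A0

open Cfsg.Agent.Lib.Helper77_BSWDefs

section

variable {G : Type*} [Group G] {t s : G} {K : Subgroup G}

theorem t_sq (h : Setup t s K) : t * t = 1 := by
  have := pow_orderOf_eq_one t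
  rwa [h.ht, sq] at this

theorem s_sq (h : Setup t s K) : s * s = 1 := by
  have := pow_orderOf_eq_one s
  rwa [h.hs, sq] at this

theorem s_inv (h : Setup t s K) : s⁻¹ = s := inv_eq_of_mul_eq_one_left (s_sq h)

/-- `s x = x⁻¹ s` for `x ∈ K` -/
theorem s_mul (h : Setup t s K) {x : G} (hx : x ∈ K) : s * x = x⁻¹ * s :=
  mul_inv_eq_iff_eq_mul.1 (h.hinv x hx)

theorem mul_s_mul_s (h : Setup t s K) {a b : G} (hb : b ∈ K) :
    (a * s) * (b * s) = a * b⁻¹ := by
  rw [mul_assoc, ← mul_assoc s b s, s_mul h hb, mul_assoc b⁻¹, s_sq h, mul_one]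

/-- the subgroup `K ∪ K s` -/
def KS (h : Setup t s K) : Subgroup G where
  carrier := {g | g ∈ K ∨ ∃ a ∈ K, g = a * s}
  mul_mem' := by
    rintro x y (hx | ⟨a, ha, rfl⟩) (hy | ⟨b, hb, rfl⟩)
    · exact Or.inl (K.mul_mem hx hy)
    · exact Or.inr ⟨x * b, K.mul_mem hx hb, (mul_assoc _ _ _).symm⟩
    · refine Or.inr ⟨a * y⁻¹, K.mul_mem ha (K.inv_mem hy), ?_⟩
      rw [mul_assoc, s_mul h hy, mul_assoc]
    · refine Or.inl ?_
      rw [mul_s_mul_s h hb]
      exact K.mul_mem ha (K.inv_mem hb)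
  one_mem' := Or.inl K.one_mem
  inv_mem' := by
    rintro x (hx | ⟨a, ha, rfl⟩)
    · exact Or.inl (K.inv_mem hx)
    · refine Or.inr ⟨a, ha, ?_⟩
      apply inv_eq_of_mul_eq_one_left
      rw [mul_s_mul_s h ha, mul_inv_cancel]

theorem mem_H_iff (h : Setup t s K) (g : G) :
    g ∈ Subgroup.centralizer ({t} : Set G) ↔ g ∈ K ∨ ∃ a ∈ K, g = a * s := by
  constructor
  · intro hg
    rw [← h.hH] at hg
    have hle : K ⊔ Subgroup.zpowers s ≤ KS h := by
      apply sup_le
      · intro x hx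
        exact Or.inl hx
      · rw [Subgroup.zpowers_le]
        exact Or.inr ⟨1, K.one_mem, (one_mul s).symm⟩
    exact hle hg
  · rintro (hg | ⟨a, ha, rfl⟩)
    · exact h.hKH hg
    · exact Subgroup.mul_mem _ (h.hKH ha) h.hsH

theorem orderOf_mul_s (h : Setup t s K) {a : G} (ha : a ∈ K) : orderOf (a * s) = 2 := by
  apply orderOf_eq_prime
  · rw [sq, mul_s_mul_s h ha, mul_inv_cancel]
  · intro h1
    apply h.hsK
    rw [eq_inv_of_mul_eq_one_right h1]
    exact K.inv_mem ha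

theorem eq_t_of_mem (h : Setup t s K) {y : G} (hy : y ∈ K) (hy2 : orderOf y = 2) : y = t := by
  have hyy : y * y = 1 := by
    have := pow_orderOf_eq_one y
    rwa [hy2, sq] at this
  have hyinv : y⁻¹ = y := inv_eq_of_mul_eq_one_left hyy
  have hcs : y ∈ Subgroup.centralizer ({s} : Set G) := by
    rw [Subgroup.mem_centralizer_iff]
    intro z hz
    rw [Set.mem_singleton_iff.1 hz, s_mul h hy, hyinv]
  have hmem : y ∈ Subgroup.zpowers t := by
    rw [← h.hCK]
    exact ⟨hy, hcs⟩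
  obtain ⟨n, rfl⟩ := Subgroup.mem_zpowers_iff.1 hmem
  rcases Int.even_or_odd' n with ⟨m, rfl | rfl⟩
  · exfalso
    have h1 : t ^ (2 * m) = 1 := by
      rw [zpow_mul, zpow_ofNat, sq, t_sq h, one_zpow]
    rw [h1, orderOf_one] at hy2
    omega
  · rw [zpow_add, zpow_mul, zpow_ofNat, sq, t_sq h, one_zpow, one_mul, zpow_one]

theorem mem_H_of_conj_mem (h : Setup t s K) {y : G} (hy : y ∈ K) (hy1 : y ≠ 1) (g : G)
    (hg : g⁻¹ * y * g ∈ K) : g ∈ Subgroup.centralizer ({t} : Set G) := by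
  by_contra hgH
  have hbot := h.hTI g hgH
  have hmem : y ∈ K ⊓ K.map (MulAut.conj g).toMonoidHom := by
    refine Subgroup.mem_inf.2 ⟨hy, ?_⟩
    rw [Subgroup.mem_map]
    refine ⟨g⁻¹ * y * g, hg, ?_⟩
    show g * (g⁻¹ * y * g) * g⁻¹ = y
    group
  rw [hbot, Subgroup.mem_bot] at hmem
  exact hy1 hmem

theorem centralizer_le (h : Setup t s K) {y : G} (hy : y ∈ K) (hy1 : y ≠ 1) :
    Subgroup.centralizer ({y} : Set G) ≤ Subgroup.centralizer ({t} : Set G) := by
  intro g hg
  apply mem_H_of_conj_mem h hy hy1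
  rw [Subgroup.mem_centralizer_iff] at hg
  have h1 := hg y rfl
  rw [mul_assoc, h1, ← mul_assoc, inv_mul_cancel, one_mul]
  exact hy

theorem centralizer_eq (h : Setup t s K) {y : G} (hy : y ∈ K) (hyy : y * y ≠ 1) :
    Subgroup.centralizer ({y} : Set G) = K := by
  have hy1 : y ≠ 1 := by
    rintro rfl
    exact hyy (one_mul 1)
  apply le_antisymm
  · intro g hg
    have hgH := centralizer_le h hy hy1 hg
    rcases (mem_H_iff h g).1 hgH with hgK | ⟨a, ha, rfl⟩
    · exact hgK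
    · exfalso
      rw [Subgroup.mem_centralizer_iff] at hg
      have h1 := hg y rfl
      rw [mul_assoc a s y, s_mul h hy, ← mul_assoc, ← mul_assoc] at h1
      have h2 := mul_right_cancel h1
      rw [h.comm y hy a ha] at h2
      have h3 : y = y⁻¹ := mul_left_cancel h2
      apply hyy
      nth_rewrite 2 [h3]
      exact mul_inv_cancel y
  · intro g hg
    rw [Subgroup.mem_centralizer_iff]
    intro z hz
    rw [Set.mem_singleton_iff.1 hz]
    exact h.comm y hy g hg

theorem conj_of_mem_K (h : Setup t s K) {y a : G} (hy : y ∈ K) (ha : a ∈ K) :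
    a⁻¹ * y * a = y := by
  rw [mul_assoc, h.comm y hy a ha, ← mul_assoc, inv_mul_cancel, one_mul]

theorem conj_of_mem_Ks (h : Setup t s K) {y a : G} (hy : y ∈ K) (ha : a ∈ K) :
    (a * s)⁻¹ * y * (a * s) = y⁻¹ := by
  rw [mul_inv_rev, s_inv h]
  have h1 : s * a⁻¹ * y * (a * s) = s * (a⁻¹ * y * a) * s := by
    simp only [mul_assoc]
  rw [h1, conj_of_mem_K h hy ha, s_mul h hy, mul_assoc, s_sq h, mul_one]

theorem exists_conj_invol (h : Setup t s K) (u : G) (hu : orderOf u = 2) :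
    ∃ x : G, u = x * t * x⁻¹ := by
  obtain ⟨c, hc⟩ := isConj_iff.1 (h.hconj t u h.ht hu)
  exact ⟨c, hc.symm⟩

theorem card_centralizer_conj (x g : G) :
    Nat.card (Subgroup.centralizer ({x * g * x⁻¹} : Set G)) =
      Nat.card (Subgroup.centralizer ({g} : Set G)) := by
  apply Nat.card_congr
  symm
  refine Equiv.subtypeEquiv (MulAut.conj x).toEquiv ?_
  intro z
  have e1 : x * g * x⁻¹ * (x * z * x⁻¹) = x * (g * z) * x⁻¹ := by group
  have e2 : x * z * x⁻¹ * (x * g * x⁻¹) = x * (z * g) * x⁻¹ := by group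
  constructor
  · intro hz
    rw [Subgroup.mem_centralizer_iff] at hz
    show x * z * x⁻¹ ∈ Subgroup.centralizer ({x * g * x⁻¹} : Set G)
    rw [Subgroup.mem_centralizer_iff]
    intro w hw
    rw [Set.mem_singleton_iff.1 hw, e1, e2, hz g rfl]
  · intro hz
    have hz' : x * z * x⁻¹ ∈ Subgroup.centralizer ({x * g * x⁻¹} : Set G) := hz
    rw [Subgroup.mem_centralizer_iff] at hz'
    have h1 := hz' _ rfl
    rw [e1, e2] at h1
    have h2 := mul_left_cancel (mul_right_cancel h1)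
    rw [Subgroup.mem_centralizer_iff]
    intro w hw
    rw [Set.mem_singleton_iff.1 hw]
    exact h2

theorem card_H (h : Setup t s K) :
    Nat.card (Subgroup.centralizer ({t} : Set G)) = 2 * Nat.card K := by
  have hidx : (K.subgroupOf (Subgroup.centralizer ({t} : Set G))).index = 2 := by
    rw [Subgroup.index_eq_two_iff]
    refine ⟨⟨s, h.hsH⟩, ?_⟩
    rintro ⟨b, hb⟩
    rw [Subgroup.mem_subgroupOf, Subgroup.mem_subgroupOf]
    show Xor (b * s ∈ K) (b ∈ K)
    rcases (mem_H_iff h b).1 hb with hbK | ⟨a, ha, rfl⟩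
    · refine Or.inr ⟨hbK, fun hc => h.hsK ?_⟩
      have := K.mul_mem (K.inv_mem hbK) hc
      rwa [inv_mul_cancel_left] at this
    · refine Or.inl ⟨?_, fun hc => h.hsK ?_⟩
      · rw [mul_assoc, s_sq h, mul_one]
        exact ha
      · have := K.mul_mem (K.inv_mem ha) hc
        rwa [inv_mul_cancel_left] at this
  have h1 := Subgroup.index_mul_card (K.subgroupOf (Subgroup.centralizer ({t} : Set G)))
  have h2 : Nat.card (K.subgroupOf (Subgroup.centralizer ({t} : Set G))) = Nat.card K :=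
    Nat.card_congr (Subgroup.subgroupOfEquivOfLe h.hKH).toEquiv
  rw [hidx, h2] at h1
  exact h1.symm

theorem even_card (h : Setup t s K) : Even (Nat.card K) := by
  have := Subgroup.orderOf_dvd_natCard K h.htK
  rw [h.ht] at this
  exact even_iff_two_dvd.2 this

theorem conjInto_of_mem_H (h : Setup t s K) {g : G}
    (hg : g ∈ Subgroup.centralizer ({t} : Set G)) : ConjInto K g := by
  rcases (mem_H_iff h g).1 hg with hgK | ⟨a, ha, rfl⟩
  · refine ⟨1, ?_⟩
    rw [inv_one, one_mul, mul_one]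
    exact hgK
  · obtain ⟨x, hx⟩ := exists_conj_invol h _ (orderOf_mul_s h ha)
    refine ⟨x, ?_⟩
    rw [hx]
    have h1 : x⁻¹ * (x * t * x⁻¹) * x = t := by group
    rw [h1]
    exact h.htK

theorem conjInto_of_even (h : Setup t s K) [Finite G] (g : G) (hg : 2 ∣ orderOf g) :
    ConjInto K g := by
  have ho : orderOf g ≠ 0 := (orderOf_pos g).ne'
  have hz2 : orderOf (g ^ (orderOf g / 2)) = 2 := orderOf_pow_orderOf_div ho hg
  have hcomm0 : g * g ^ (orderOf g / 2) = g ^ (orderOf g / 2) * g :=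
    (pow_mul_comm' g (orderOf g / 2)).symm
  obtain ⟨z, hzdef⟩ : ∃ z : G, z = g ^ (orderOf g / 2) := ⟨_, rfl⟩
  rw [← hzdef] at hz2 hcomm0
  obtain ⟨x, hx⟩ := exists_conj_invol h z hz2
  have hmem : x⁻¹ * g * x ∈ Subgroup.centralizer ({t} : Set G) := by
    rw [Subgroup.mem_centralizer_iff]
    intro w hw
    rw [Set.mem_singleton_iff.1 hw]
    have ht : t = x⁻¹ * z * x := by
      rw [hx]
      group
    have e1 : x⁻¹ * z * x * (x⁻¹ * g * x) = x⁻¹ * (z * g) * x := by group
    have e2 : x⁻¹ * g * x * (x⁻¹ * z * x) = x⁻¹ * (g * z) * x := by group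
    rw [ht, e1, e2, hcomm0]
  obtain ⟨w, hw⟩ := conjInto_of_mem_H h hmem
  refine ⟨x * w, ?_⟩
  have h1 : (x * w)⁻¹ * g * (x * w) = w⁻¹ * (x⁻¹ * g * x) * w := by group
  rw [h1]
  exact hw

theorem orderOf_dvd_of_conjInto (g : G) (hg : ConjInto K g) : orderOf g ∣ Nat.card K := by
  obtain ⟨x, hx⟩ := hg
  have h1 : orderOf (x⁻¹ * g * x) = orderOf g := by
    have := MulEquiv.orderOf_eq (MulAut.conj x⁻¹) g
    rwa [MulAut.conj_apply, inv_inv] at this
  rw [← h1]
  exact Subgroup.orderOf_dvd_natCard K hx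

theorem exists_notMem_H (h : Setup t s K) : ∃ g : G, g ∉ Subgroup.centralizer ({t} : Set G) := by
  by_contra hall
  obtain ⟨x, hx⟩ := exists_conj_invol h s h.hs
  have hxH : x ∈ Subgroup.centralizer ({t} : Set G) := by
    by_contra hx'
    exact hall ⟨x, hx'⟩
  rw [Subgroup.mem_centralizer_iff] at hxH
  have h1 := hxH t rfl
  apply h.hsK
  rw [hx, ← h1, mul_assoc, mul_inv_cancel, mul_one]
  exact h.htK

theorem pairCount_of_mem (h : Setup t s K) {y : G} (hy : y ∈ K) (hy1 : y ≠ 1) :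
    pairCount y = Nat.card K := by
  unfold pairCount
  symm
  apply Nat.card_congr
  have hwd : ∀ a : K, orderOf (((a : G) * s)⁻¹ * y) = 2 := by
    intro a
    have h1 : ((a : G) * s)⁻¹ * y = (y⁻¹ * a) * s := by
      rw [mul_inv_rev, s_inv h, mul_assoc, s_mul h (K.mul_mem (K.inv_mem a.2) hy), mul_inv_rev,
        inv_inv]
    rw [h1]
    exact orderOf_mul_s h (K.mul_mem (K.inv_mem hy) a.2)
  refine Equiv.ofBijective
    (fun a : K => (⟨(a : G) * s, orderOf_mul_s h a.2, hwd a⟩ :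
      {u : G // orderOf u = 2 ∧ orderOf (u⁻¹ * y) = 2})) ⟨?_, ?_⟩
  · intro a b hab
    have h1 : (a : G) * s = (b : G) * s := congrArg Subtype.val hab
    exact Subtype.ext (mul_right_cancel h1)
  · rintro ⟨u, hu2, huy⟩
    have huu : u * u = 1 := by
      have := pow_orderOf_eq_one u
      rwa [hu2, sq] at this
    have huinv : u⁻¹ = u := inv_eq_of_mul_eq_one_left huu
    have h1 : (u⁻¹ * y) * (u⁻¹ * y) = 1 := by
      have := pow_orderOf_eq_one (u⁻¹ * y)
      rwa [huy, sq] at this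
    have h2 : u⁻¹ * y * u = y⁻¹ := by
      apply eq_inv_of_mul_eq_one_left
      rw [huinv] at h1 ⊢
      rw [← h1]
      simp only [mul_assoc]
    have huH : u ∈ Subgroup.centralizer ({t} : Set G) := by
      apply mem_H_of_conj_mem h hy hy1
      rw [h2]
      exact K.inv_mem hy
    rcases (mem_H_iff h u).1 huH with huK | ⟨a, ha, rfl⟩
    · exfalso
      have hut : u = t := eq_t_of_mem h huK hu2
      have h3 : y⁻¹ = y := by
        rw [← h2]
        exact conj_of_mem_K h hy huK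
      have hyy : y * y = 1 := by
        nth_rewrite 1 [← h3]
        exact inv_mul_cancel y
      have hy2 : orderOf y = 2 := orderOf_eq_prime (by rw [sq]; exact hyy) hy1
      have hyt : y = t := eq_t_of_mem h hy hy2
      rw [hut, hyt, inv_mul_cancel, orderOf_one] at huy
      omega
    · exact ⟨⟨a, ha⟩, rfl⟩

theorem card_conjInto (h : Setup t s K) [Finite G] :
    2 * Nat.card K * Nat.card {g : G // ConjInto K g ∧ g ≠ 1} =
      Nat.card G * (Nat.card K - 1) := by
  classical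
  -- representatives
  have hch : ∀ a : {g : G // ConjInto K g ∧ g ≠ 1},
      ∃ p : G × {y : K // y ≠ 1}, (a : G) = p.1 * ((p.2 : K) : G) * p.1⁻¹ := by
    rintro ⟨g, ⟨x, hx⟩, hg1⟩
    have hne : (⟨x⁻¹ * g * x, hx⟩ : K) ≠ 1 := by
      intro h1
      apply hg1
      have h2 : x⁻¹ * g * x = 1 := congrArg Subtype.val h1
      have h3 : g = x * (x⁻¹ * g * x) * x⁻¹ := by group
      rw [h3, h2, mul_one, mul_inv_cancel]
    refine ⟨(x, ⟨⟨x⁻¹ * g * x, hx⟩, hne⟩), ?_⟩
    show g = x * (x⁻¹ * g * x) * x⁻¹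
    group
  choose f hf using hch
  -- `H` normalizes `K ∖ 1`
  have hnorm : ∀ (hh : G), hh ∈ Subgroup.centralizer ({t} : Set G) → ∀ y : G, y ∈ K → y ≠ 1 →
      hh⁻¹ * y * hh ∈ K ∧ hh⁻¹ * y * hh ≠ 1 := by
    intro hh hhH y hy hy1
    constructor
    · rcases (mem_H_iff h hh).1 hhH with hK | ⟨a, ha, rfl⟩
      · rw [conj_of_mem_K h hy hK]
        exact hy
      · rw [conj_of_mem_Ks h hy ha]
        exact K.inv_mem hy
    · intro h1
      apply hy1
      have h3 : y = hh * (hh⁻¹ * y * hh) * hh⁻¹ := by group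
      rw [h3, h1, mul_one, mul_inv_cancel]
  let Φ : {g : G // ConjInto K g ∧ g ≠ 1} × (Subgroup.centralizer ({t} : Set G)) →
      G × {y : K // y ≠ 1} := fun p =>
    ((f p.1).1 * (p.2 : G),
      ⟨⟨(p.2 : G)⁻¹ * (((f p.1).2 : K) : G) * (p.2 : G),
        (hnorm p.2 p.2.2 _ ((f p.1).2 : K).2
          (fun h1 => (f p.1).2.2 (Subtype.ext h1))).1⟩,
        fun h1 => (hnorm p.2 p.2.2 _ ((f p.1).2 : K).2
          (fun h1 => (f p.1).2.2 (Subtype.ext h1))).2 (congrArg Subtype.val h1)⟩)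
  have hΦ1 : ∀ p, (Φ p).1 = (f p.1).1 * (p.2 : G) := fun p => rfl
  have hΦ2 : ∀ p, (((Φ p).2 : K) : G) = (p.2 : G)⁻¹ * (((f p.1).2 : K) : G) * (p.2 : G) :=
    fun p => rfl
  have hval : ∀ p, (Φ p).1 * (((Φ p).2 : K) : G) * (Φ p).1⁻¹ = (p.1 : G) := by
    intro p
    rw [hΦ1, hΦ2, hf p.1]
    group
  have hinj : Function.Injective Φ := by
    intro p p' hpp
    have h1 : (p.1 : G) = (p'.1 : G) := by
      rw [← hval p, ← hval p', hpp]
    have h2 : p.1 = p'.1 := Subtype.ext h1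
    have h3 : (Φ p).1 = (Φ p').1 := by rw [hpp]
    rw [hΦ1, hΦ1, h2] at h3
    have h4 : (p.2 : G) = (p'.2 : G) := mul_left_cancel h3
    exact Prod.ext h2 (Subtype.ext h4)
  have hsurj : Function.Surjective Φ := by
    rintro ⟨x, ⟨⟨y, hy⟩, hy1⟩⟩
    have hy1' : y ≠ 1 := fun h1 => hy1 (Subtype.ext h1)
    have hgA : ConjInto K (x * y * x⁻¹) ∧ x * y * x⁻¹ ≠ 1 := by
      constructor
      · refine ⟨x, ?_⟩
        have h1 : x⁻¹ * (x * y * x⁻¹) * x = y := by group
        rw [h1]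
        exact hy
      · intro h1
        apply hy1'
        have h3 : y = x⁻¹ * (x * y * x⁻¹) * x := by group
        rw [h3, h1, mul_one, inv_mul_cancel]
    obtain ⟨a, ha⟩ : ∃ a : {g : G // ConjInto K g ∧ g ≠ 1}, (a : G) = x * y * x⁻¹ :=
      ⟨⟨_, hgA⟩, rfl⟩
    have hfa := hf a
    rw [ha] at hfa
    -- `hh = x_a⁻¹ x ∈ H`
    have hconj : ((f a).1⁻¹ * x) * y * ((f a).1⁻¹ * x)⁻¹ = (((f a).2 : K) : G) := by
      have h1 : ((f a).1⁻¹ * x) * y * ((f a).1⁻¹ * x)⁻¹ = (f a).1⁻¹ * (x * y * x⁻¹) * (f a).1 := by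
        group
      rw [h1, hfa]
      group
    have hhH : (f a).1⁻¹ * x ∈ Subgroup.centralizer ({t} : Set G) := by
      have h1 : ((f a).1⁻¹ * x)⁻¹ ∈ Subgroup.centralizer ({t} : Set G) := by
        apply mem_H_of_conj_mem h hy hy1'
        rw [inv_inv, hconj]
        exact ((f a).2 : K).2
      have := Subgroup.inv_mem _ h1
      rwa [inv_inv] at this
    refine ⟨(a, ⟨(f a).1⁻¹ * x, hhH⟩), ?_⟩
    apply Prod.ext
    · show (f a).1 * ((f a).1⁻¹ * x) = x
      rw [mul_inv_cancel_left]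
    · apply Subtype.ext
      apply Subtype.ext
      show ((f a).1⁻¹ * x)⁻¹ * (((f a).2 : K) : G) * ((f a).1⁻¹ * x) = y
      rw [← hconj]
      group
  have hcard := Nat.card_congr (Equiv.ofBijective Φ ⟨hinj, hsurj⟩)
  rw [Nat.card_prod, Nat.card_prod, card_H h] at hcard
  have hK1 : Nat.card {y : K // y ≠ 1} + 1 = Nat.card K := by
    rw [← Finite.card_option]
    exact Nat.card_congr (Equiv.optionSubtypeNe (1 : K))
  have hK1' : Nat.card K - 1 = Nat.card {y : K // y ≠ 1} := by omega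
  rw [hK1', ← hcard]
  ring

end

/-- PKG A0 of S3282: the elementary consequences of the hypotheses. -/
theorem basics {G : Type*} [Group G] [Finite G] {t s : G} {K : Subgroup G}
    (h : Setup t s K) : Basics t s K where
  card_H := card_H h
  even_card := even_card h
  mem_H_iff := mem_H_iff h
  orderOf_mul_s := fun _ ha => orderOf_mul_s h ha
  eq_t_of_mem := fun _ hy hy2 => eq_t_of_mem h hy hy2
  mem_H_of_conj_mem := fun _ hy hy1 g hg => mem_H_of_conj_mem h hy hy1 g hg
  centralizer_le := fun _ hy hy1 => centralizer_le h hy hy1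
  centralizer_eq := fun _ hy hyy => centralizer_eq h hy hyy
  conj_of_mem_K := fun _ hy _ ha => conj_of_mem_K h hy ha
  conj_of_mem_Ks := fun _ hy _ ha => conj_of_mem_Ks h hy ha
  exists_conj_invol := exists_conj_invol h
  card_centralizer_invol := by
    intro u hu
    obtain ⟨x, rfl⟩ := exists_conj_invol h u hu
    rw [card_centralizer_conj, card_H h]
  conjInto_of_mem_H := fun _ hg => conjInto_of_mem_H h hg
  conjInto_of_even := conjInto_of_even h
  orderOf_dvd := orderOf_dvd_of_conjInto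
  card_conjInto := card_conjInto h
  pairCount_of_mem := fun _ hy hy1 => pairCount_of_mem h hy hy1
  exists_notMem_H := exists_notMem_H h

end Cfsg.Agent.Lib.Helper8_BSW_A0
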