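/-
S3282 (abstract Brauer–Suzuki–Wall), package A1: the dual of a finite abelian group with a unique
involution.  Statements verbatim from pending/helper77/S3282_packages.lean.txt.
-/
import Mathlib
import Cfsg.Agent.Lib.Helper77_BSWDefs
import Cfsg.Agent.Lib.Helper17_Coherence
import Cfsg.Agent.Lib.Helper75_CommChar

set_option autoImplicit false
open Cfsg
open scoped ComplexConjugate

namespace Cfsg.Agent.Lib.Helper9_BSW_A1

open Cfsg.Agent.Lib.Helper77_BSWDefs Cfsg.Agent.Lib.Helper80_CharBasic
  Cfsg.Agent.Lib.Helper3_CharComplete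

open Cfsg.Agent.Lib.Helper75_LinChar Cfsg.Agent.Lib.Helper75_CanonExt

variable {A : Type*} [Group A] [Fintype A] (hcomm : ∀ a b : A, a * b = b * a)
  (t₀ : A) (ht₀ : orderOf t₀ = 2) (huniq : ∀ y : A, orderOf y = 2 → y = t₀)

theorem sq_eq_one_cases (z : ℂ) (h : z * z = 1) : z = 1 ∨ z = -1 := by
  have h2 : (z - 1) * (z + 1) = 0 := by linear_combination h
  rcases mul_eq_zero.mp h2 with h3 | h3
  · left; linear_combination h3
  · right; linear_combination h3

theorem cj_eq_iff (lam : IrrCharacter A) :
    cj lam = lam ↔ ∀ y : A, conj ((lam : A → ℂ) y) = (lam : A → ℂ) y := by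
  constructor
  · intro h y
    have := congrArg (fun χ : IrrCharacter A => (χ : A → ℂ) y) h
    simpa using this
  · intro h
    apply Subtype.ext
    funext y
    exact h y

include hcomm in
theorem real_values (lam : IrrCharacter A) (hlam : cj lam = lam) (y : A) :
    (lam : A → ℂ) y = 1 ∨ (lam : A → ℂ) y = -1 := by
  have hl : IsLin A (lam : A → ℂ) := isLin_of_comm hcomm lam.2
  have h1 := (cj_eq_iff lam).mp hlam y
  have h2 := hl.mul_conj y
  rw [h1] at h2
  exact sq_eq_one_cases _ h2

theorem oneIrr_apply (y : A) : ((oneIrr A : IrrCharacter A) : A → ℂ) y = 1 := rfl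

theorem cj_oneIrr : cj (oneIrr A) = oneIrr A := by
  rw [cj_eq_iff]
  intro y
  rw [oneIrr_apply]; simp

include hcomm ht₀ huniq in
/-- the number of real irreducible characters is two -/
theorem card_real : Nat.card {χ : IrrCharacter A // ∀ g : A, ((χ : A → ℂ) g).im = 0} = 2 := by
  classical
  rw [Cfsg.Agent.Lib.Helper3_RealClasses.card_real_irr_eq_card_real_classes]
  -- real classes ≃ {1, t₀}
  have hconj : ∀ a b : A, IsConj a b ↔ a = b := by
    intro a b
    rw [isConj_iff]
    constructor
    · rintro ⟨c, hc⟩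
      rw [← hc, hcomm c a]; group
    · rintro rfl; exact ⟨1, by group⟩
  have ht1 : t₀ ≠ 1 := by
    intro h
    rw [h, orderOf_one] at ht₀
    norm_num at ht₀
  have htt : t₀ * t₀ = 1 := by
    have := pow_orderOf_eq_one t₀
    rw [ht₀, pow_two] at this
    exact this
  have hreal : ∀ a : A, a = a⁻¹ ↔ a = 1 ∨ a = t₀ := by
    intro a
    constructor
    · intro h
      by_cases ha : a = 1
      · exact Or.inl ha
      · right
        apply huniq
        have haa : a ^ 2 = 1 := by
          rw [pow_two]
          nth_rewrite 2 [h]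
          exact mul_inv_cancel a
        exact orderOf_eq_prime haa ha
    · rintro (rfl | rfl)
      · simp
      · exact eq_inv_of_mul_eq_one_left htt
  let e : {K : ConjClasses A // ∀ g : A, ConjClasses.mk g = K → IsConj g g⁻¹} ≃
      {a : A // a = 1 ∨ a = t₀} :=
    { toFun := fun K => ⟨Quotient.out K.1, by
        have h := K.2 (Quotient.out K.1) (by
          show ConjClasses.mk (Quotient.out K.1) = K.1
          exact Quotient.out_eq K.1)
        exact (hreal _).mp ((hconj _ _).mp h)⟩
      invFun := fun a => ⟨ConjClasses.mk a.1, by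
        intro g hg
        rw [ConjClasses.mk_eq_mk_iff_isConj, hconj] at hg
        rw [hconj, hg]
        exact (hreal _).mpr a.2⟩
      left_inv := by
        intro K
        apply Subtype.ext
        show ConjClasses.mk (Quotient.out K.1) = K.1
        exact Quotient.out_eq K.1
      right_inv := by
        intro a
        apply Subtype.ext
        show Quotient.out (ConjClasses.mk a.1) = a.1
        have : ConjClasses.mk (Quotient.out (ConjClasses.mk a.1)) = ConjClasses.mk a.1 :=
          Quotient.out_eq _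
        rw [ConjClasses.mk_eq_mk_iff_isConj, hconj] at this
        exact this }
  rw [Nat.card_congr e]
  have : {a : A // a = 1 ∨ a = t₀} = {a : A // a ∈ ({1, t₀} : Finset A)} := by
    congr 1
    funext a
    simp
  rw [this, Nat.card_eq_fintype_card, Fintype.card_coe, Finset.card_pair ht1.symm]

include hcomm ht₀ huniq in
theorem exists_nu : ∃ ν : IrrCharacter A, ν ≠ oneIrr A ∧ cj ν = ν ∧
    ∀ lam : IrrCharacter A, cj lam = lam → lam = oneIrr A ∨ lam = ν := by
  classical
  have hc := card_real hcomm t₀ ht₀ huniq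
  have hiff : ∀ χ : IrrCharacter A, (∀ g : A, ((χ : A → ℂ) g).im = 0) ↔ cj χ = χ := by
    intro χ
    rw [cj_eq_iff]
    constructor
    · intro h g; exact Complex.conj_eq_iff_im.mpr (h g)
    · intro h g; exact Complex.conj_eq_iff_im.mp (h g)
  have hc2 : (Finset.univ.filter (fun χ : IrrCharacter A => cj χ = χ)).card = 2 := by
    rw [← hc, Nat.card_eq_fintype_card, Fintype.card_subtype]
    congr 1
    ext χ
    simp only [Finset.mem_filter, Finset.mem_univ, true_and]
    exact (hiff χ).symm
  have h1mem : oneIrr A ∈ Finset.univ.filter (fun χ : IrrCharacter A => cj χ = χ) := by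
    simp only [Finset.mem_filter, Finset.mem_univ, true_and]
    exact cj_oneIrr
  obtain ⟨x, y, hxy, hS⟩ := Finset.card_eq_two.mp hc2
  have hx : x ∈ Finset.univ.filter (fun χ : IrrCharacter A => cj χ = χ) := by
    rw [hS]; simp
  have hy : y ∈ Finset.univ.filter (fun χ : IrrCharacter A => cj χ = χ) := by
    rw [hS]; simp
  have hx' : cj x = x := (Finset.mem_filter.mp hx).2
  have hy' : cj y = y := (Finset.mem_filter.mp hy).2
  have hall : ∀ lam : IrrCharacter A, cj lam = lam → lam = x ∨ lam = y := by
    intro lam hl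
    have : lam ∈ Finset.univ.filter (fun χ : IrrCharacter A => cj χ = χ) := by
      simp only [Finset.mem_filter, Finset.mem_univ, true_and]; exact hl
    rw [hS] at this
    simpa using this
  rcases hall _ cj_oneIrr with h1 | h1
  · refine ⟨y, ?_, hy', ?_⟩
    · rw [h1]; exact hxy.symm
    · intro lam hl
      rcases hall lam hl with h | h
      · left; rw [h, h1]
      · right; exact h
  · refine ⟨x, ?_, hx', ?_⟩
    · rw [h1]; exact hxy
    · intro lam hl
      rcases hall lam hl with h | h
      · right; exact h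
      · left; rw [h, h1]

include hcomm in
theorem exists_neg (ν : IrrCharacter A) (hν : ν ≠ oneIrr A) (hr : cj ν = ν) :
    ∃ y : A, (ν : A → ℂ) y = -1 := by
  by_contra hcon
  push Not at hcon
  apply hν
  apply Subtype.ext
  funext y
  rw [oneIrr_apply]
  rcases real_values hcomm ν hr y with h | h
  · exact h
  · exact absurd h (hcon y)

include hcomm in
theorem exists_pos (ν : IrrCharacter A) (hr : cj ν = ν) (h4 : 4 ≤ Fintype.card A) :
    ∃ y : A, y ≠ 1 ∧ (ν : A → ℂ) y = 1 := by
  classical
  have hl : IsLin A (ν : A → ℂ) := isLin_of_comm hcomm ν.2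
  by_contra hcon
  push Not at hcon
  have hneg : ∀ y : A, y ≠ 1 → (ν : A → ℂ) y = -1 := by
    intro y hy
    rcases real_values hcomm ν hr y with h | h
    · exact absurd h (hcon y hy)
    · exact h
  -- pick y₁ ≠ 1
  have hne1 : ((Finset.univ : Finset A) \ {1}).Nonempty := by
    rw [← Finset.card_pos, Finset.card_sdiff_of_subset (Finset.subset_univ _), Finset.card_univ,
      Finset.card_singleton]
    omega
  obtain ⟨y₁, hy₁⟩ := hne1
  have hy₁1 : y₁ ≠ 1 := by simpa using hy₁
  have hne2 : ((Finset.univ : Finset A) \ {1, y₁, y₁⁻¹}).Nonempty := by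
    rw [← Finset.card_pos, Finset.card_sdiff_of_subset (Finset.subset_univ _), Finset.card_univ]
    have : ({1, y₁, y₁⁻¹} : Finset A).card ≤ 3 := Finset.card_le_three
    omega
  obtain ⟨y₂, hy₂⟩ := hne2
  simp only [Finset.mem_sdiff, Finset.mem_univ, Finset.mem_insert, Finset.mem_singleton,
    true_and, not_or] at hy₂
  obtain ⟨hy₂1, -, hy₂i⟩ := hy₂
  have h12 : y₁ * y₂ ≠ 1 := by
    intro h
    apply hy₂i
    exact eq_inv_of_mul_eq_one_right h
  have := hneg _ h12
  rw [hl.map_mul, hneg _ hy₁1, hneg _ hy₂1] at this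
  norm_num at this

include hcomm ht₀ in
theorem apply_invol (lam : IrrCharacter A) :
    (lam : A → ℂ) t₀ = 1 ∨ (lam : A → ℂ) t₀ = -1 := by
  have hl : IsLin A (lam : A → ℂ) := isLin_of_comm hcomm lam.2
  apply sq_eq_one_cases
  rw [← hl.map_mul]
  have htt : t₀ * t₀ = 1 := by
    have := pow_orderOf_eq_one t₀
    rw [ht₀, pow_two] at this
    exact this
  rw [htt, hl.2]

include hcomm in
theorem sum_nonreal (ν : IrrCharacter A) (hν : ν ≠ oneIrr A) {y : A} (hy : y ≠ 1) :
    ∑ lam ∈ (Finset.univ.erase (oneIrr A)).erase ν, (lam : A → ℂ) y = -1 - (ν : A → ℂ) y := by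
  have h0 := Cfsg.Agent.Lib.Helper75_CommChar.sum_irr_apply hcomm hy
  have h1 : ν ∈ Finset.univ.erase (oneIrr A) := by
    simp only [Finset.mem_erase, Finset.mem_univ, and_true]; exact hν
  have h2 := Finset.add_sum_erase (Finset.univ.erase (oneIrr A))
    (fun lam : IrrCharacter A => (lam : A → ℂ) y) h1
  have h3 := Finset.add_sum_erase Finset.univ
    (fun lam : IrrCharacter A => (lam : A → ℂ) y) (Finset.mem_univ (oneIrr A))
  rw [h0, ← h2] at h3
  simp only [oneIrr_apply] at h3
  linear_combination h3

end Cfsg.Agent.Lib.Helper9_BSW_A1
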