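/-
S3282 (abstract Brauer–Suzuki–Wall), package ARITH: pure arithmetic lemmas.
Statements verbatim from pending/helper77/S3282_packages.lean.txt.
-/
import Mathlib

set_option autoImplicit false

namespace Cfsg.Agent.Lib.Helper9_BSW_ARITH

/-- The sign analysis: from the degree equation and the cleared-denominator difference equation. -/
theorem signs_aux (z w c₁ d₁ : ℤ) (ε bc bd : ℤ) (hz : 0 < z) (hw : 0 < w) (hc : 0 < c₁)
    (hd : 0 < d₁) (hε : ε = 1 ∨ ε = -1) (hbc : bc = 1 ∨ bc = -1) (hbd : bd = 1 ∨ bd = -1)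
    (hA : w = z + ε)
    (hB : 1 + ε * z + bc * c₁ + bd * d₁ = 0)
    (hC : (bc * d₁ + bd * c₁) * w = -4 * ε * c₁ * d₁) :
    bc = -ε ∧ bd = -ε ∧ 2 * c₁ = w ∧ 2 * d₁ = w := by
  rcases hε with rfl | rfl <;> rcases hbc with rfl | rfl <;> rcases hbd with rfl | rfl
  · exfalso; nlinarith
  · exfalso
    have h1 : d₁ - c₁ = w := by linarith
    nlinarith [mul_pos hc hd]
  · exfalso
    have h1 : c₁ - d₁ = w := by linarith
    nlinarith [mul_pos hc hd]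
  · have h1 : c₁ + d₁ = w := by linarith
    have h2 : (c₁ - d₁) ^ 2 = 0 := by
      have : (c₁ + d₁) * (c₁ + d₁) = 4 * c₁ * d₁ := by
        have h9 := hC
        rw [← h1] at h9
        linarith
      nlinarith
    have h3 : c₁ = d₁ := by
      have := pow_eq_zero_iff (n := 2) (by norm_num) |>.mp h2
      linarith
    refine ⟨rfl, rfl, by linarith, by linarith⟩
  · have h1 : c₁ + d₁ = w := by linarith
    have h2 : (c₁ - d₁) ^ 2 = 0 := by
      have : (c₁ + d₁) * (c₁ + d₁) = 4 * c₁ * d₁ := by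
        have h9 := hC
        rw [← h1] at h9
        linarith
      nlinarith
    have h3 : c₁ = d₁ := by
      have := pow_eq_zero_iff (n := 2) (by norm_num) |>.mp h2
      linarith
    refine ⟨by norm_num, by norm_num, by linarith, by linarith⟩
  · exfalso
    have h1 : c₁ - d₁ = w := by linarith
    nlinarith [mul_pos hc hd]
  · exfalso
    have h1 : d₁ - c₁ = w := by linarith
    nlinarith [mul_pos hc hd]
  · exfalso; nlinarith

/-- The size analysis. -/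
theorem size_aux (k g z w : ℤ) (ε : ℤ) (hk : 2 ≤ k) (hz : 0 < z)
    (hε : ε = 1 ∨ ε = -1) (hA : w = z + ε)
    (hD : g * (z - ε) ^ 2 = 4 * k ^ 3 * z * w)
    (hcong : (2 * k) ∣ z - ε) (hdiv : 2 * k ∣ g) :
    z = 2 * k + ε ∧ g = k * z * w := by
  obtain ⟨i, hi⟩ := hcong
  obtain ⟨j, hj⟩ := hdiv
  have hε2 : ε * ε = 1 := by rcases hε with rfl | rfl <;> norm_num
  have hk0 : (0 : ℤ) < k := by linarith
  have hzi : z = 2 * k * i + ε := by linarith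
  have hwi : w = 2 * (k * i + ε) := by rw [hA, hzi]; ring
  -- g i² = k z w
  have h1 : g * i ^ 2 = k * z * w := by
    have h2 : (4 * k ^ 2) * (g * i ^ 2) = (4 * k ^ 2) * (k * z * w) := by
      rw [hi] at hD
      calc (4 * k ^ 2) * (g * i ^ 2) = g * (2 * k * i) ^ 2 := by ring
        _ = 4 * k ^ 3 * z * w := hD
        _ = (4 * k ^ 2) * (k * z * w) := by ring
    exact mul_left_cancel₀ (by positivity) h2
  -- j i² = (2ki+ε)(ki+ε)
  have h3 : j * i ^ 2 = (2 * k * i + ε) * (k * i + ε) := by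
    have h4 : (2 * k) * (j * i ^ 2) = (2 * k) * ((2 * k * i + ε) * (k * i + ε)) := by
      calc (2 * k) * (j * i ^ 2) = g * i ^ 2 := by rw [hj]; ring
        _ = k * z * w := h1
        _ = (2 * k) * ((2 * k * i + ε) * (k * i + ε)) := by rw [hzi, hwi]; ring
    exact mul_left_cancel₀ (by positivity) h4
  have h5 : i ∣ 1 := by
    have h6 : (1 : ℤ) = j * i ^ 2 - i * (2 * k ^ 2 * i + 3 * k * ε) := by
      rw [h3]
      have : (2 * k * i + ε) * (k * i + ε) = i * (2 * k ^ 2 * i + 3 * k * ε) + ε * ε := by ring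
      rw [this, hε2]; ring
    rw [h6]
    exact dvd_sub (Dvd.intro_left _ (by ring : j * i * i = j * i ^ 2)) (dvd_mul_right _ _)
  have hi0 : 0 ≤ i := by
    by_contra hneg
    push Not at hneg
    have : z - ε < 0 := by rw [hi]; nlinarith
    rcases hε with rfl | rfl <;> linarith
  have hi1 : i = 1 := by
    rcases Int.isUnit_iff.mp (isUnit_of_dvd_one h5) with h | h
    · exact h
    · linarith
  subst hi1
  refine ⟨by linarith, by linarith⟩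

theorem arith_gen (k g z w c₁ d₁ : ℕ) (ε bc bd : ℤ) (hk : 2 ≤ k) (hg : 0 < g) (hz : 0 < z)
    (hw : 0 < w) (hc : 0 < c₁) (hd : 0 < d₁)
    (hε : ε = 1 ∨ ε = -1) (hbc : bc = 1 ∨ bc = -1) (hbd : bd = 1 ∨ bd = -1)
    (hdeg1 : 1 + ε * ((z : ℤ) - w) = 0)
    (hdeg2 : 1 + ε * (z : ℤ) + bc * c₁ + bd * d₁ = 0)
    (hEm : (1 : ℚ) + ε / z + (bc / c₁ + bd / d₁) = 4 * (k : ℚ) ^ 3 / g)
    (hEp : (1 : ℚ) + ε / z - 8 * ε / w - (bc / c₁ + bd / d₁) = 4 * (k : ℚ) ^ 3 / g)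
    (hcong : (2 * k : ℤ) ∣ (z : ℤ) - ε)
    (hdiv : 2 * k ∣ g) :
    (z : ℤ) = 2 * k + ε ∧ g = k * z * w ∧ bc = -ε ∧ bd = -ε ∧ 2 * c₁ = w ∧ 2 * d₁ = w := by
  have hgQ : (g : ℚ) ≠ 0 := by exact_mod_cast hg.ne'
  have hzQ : (z : ℚ) ≠ 0 := by exact_mod_cast hz.ne'
  have hwQ : (w : ℚ) ≠ 0 := by exact_mod_cast hw.ne'
  have hcQ : (c₁ : ℚ) ≠ 0 := by exact_mod_cast hc.ne'
  have hdQ : (d₁ : ℚ) ≠ 0 := by exact_mod_cast hd.ne'
  have hε2 : ε * ε = 1 := by rcases hε with rfl | rfl <;> norm_num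
  have hA : (w : ℤ) = z + ε := by
    have : ε * (1 + ε * ((z : ℤ) - w)) = 0 := by rw [hdeg1]; ring
    have h2 : ε + (ε * ε) * ((z : ℤ) - w) = 0 := by linarith
    rw [hε2] at h2; linarith
  have hAQ : (w : ℚ) = z + ε := by exact_mod_cast hA
  have hS : ((bc : ℚ) / c₁ + bd / d₁) = -4 * ε / w := by
    have : 2 * ((bc : ℚ) / c₁ + bd / d₁) = -8 * ε / w := by
      have h8 : (8 : ℚ) * ε / w = - (-8 * ε / w) := by ring
      linarith
    have h4 : (-8 : ℚ) * ε / w = 2 * (-4 * ε / w) := by ring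
    linarith
  have hCQ : (((bc : ℚ) * d₁ + bd * c₁) * w : ℚ) = -4 * ε * c₁ * d₁ := by
    have h1 : ((bc : ℚ) / c₁ + bd / d₁) * (c₁ * d₁ * w) = ((bc : ℚ) * d₁ + bd * c₁) * w := by
      field_simp
    rw [← h1, hS]; field_simp
  have hC : ((bc * d₁ + bd * c₁) * w : ℤ) = -4 * ε * c₁ * d₁ := by exact_mod_cast hCQ
  obtain ⟨h1, h2, h3, h4⟩ := signs_aux z w c₁ d₁ ε bc bd (by exact_mod_cast hz)
    (by exact_mod_cast hw) (by exact_mod_cast hc) (by exact_mod_cast hd) hε hbc hbd hA hdeg2 hC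
  have hDQ0 : (1 : ℚ) + ε / z - 4 * ε / w = 4 * (k : ℚ) ^ 3 / g := by
    have h8 : (8 : ℚ) * ε / w = 2 * (4 * ε / w) := by ring
    linarith
  have hDQ : ((g : ℚ) * ((z : ℚ) - ε) ^ 2) = 4 * (k : ℚ) ^ 3 * z * w := by
    have h5a : ((1 : ℚ) + ε / z - 4 * ε / w) * (z * w) = z * w + ε * w - 4 * ε * z := by
      field_simp
    have h5 : ((1 : ℚ) + ε / z - 4 * ε / w) * (z * w) = ((z : ℚ) - ε) ^ 2 := by
      rw [h5a, hAQ]; ring
    rw [← h5, hDQ0]; field_simp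
  have hD : ((g : ℤ) * ((z : ℤ) - ε) ^ 2) = 4 * (k : ℤ) ^ 3 * z * w := by exact_mod_cast hDQ
  obtain ⟨h7, h8⟩ := size_aux k g z w ε (by exact_mod_cast hk)
    (by exact_mod_cast hz) hε hA hD hcong (by exact_mod_cast hdiv)
  refine ⟨h7, by exact_mod_cast h8, h1, h2, by exact_mod_cast h3, by exact_mod_cast h4⟩

theorem arith_weird (w v : ℕ) (ε η : ℤ) (hw : 0 < w) (hv : 0 < v)
    (hε : ε = 1 ∨ ε = -1) (hη : η = 1 ∨ η = -1)
    (hdeg : 1 + η * (v : ℤ) - 2 * ε * w = 0)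
    (heq : (1 : ℚ) - 26 * ε / w + η / v = 1 - η / v) : False := by
  have hwQ : (w : ℚ) ≠ 0 := by exact_mod_cast hw.ne'
  have hvQ : (v : ℚ) ≠ 0 := by exact_mod_cast hv.ne'
  have h1 : (2 : ℚ) * (η / v) = 26 * ε / w := by linarith
  have h2 : (2 : ℚ) * η * w = 26 * ε * v := by
    have h3 : (2 : ℚ) * (η / v) * (v * w) = 2 * η * w := by field_simp
    have h4 : (26 : ℚ) * ε / w * (v * w) = 26 * ε * v := by field_simp
    rw [← h3, ← h4, h1]
  have h5 : (2 : ℤ) * η * w = 26 * ε * v := by exact_mod_cast h2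
  rcases hε with rfl | rfl <;> rcases hη with rfl | rfl <;> omega

/-- canonical sign pattern (-,+,+). -/
theorem two_aux1 (g d0 d1 d2 : ℤ) (hg : 0 < g) (h0 : 0 < d0) (h1 : 0 < d1) (h2 : 0 < d2)
    (hdeg : 1 - d0 + d1 + d2 = 0)
    (heq : (d0 * d1 * d2 - d1 * d2 + d0 * d2 + d0 * d1) * g = 32 * (d0 * d1 * d2))
    (hc0 : (4 : ℤ) ∣ d0 - 3) (hsq : 1 + d0 ^ 2 + d1 ^ 2 + d2 ^ 2 ≤ g) :
    g = 12 ∧ d0 = 3 ∧ d1 = 1 ∧ d2 = 1 := by
  have hP : 0 < d0 * d1 * d2 := by positivity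
  have hst : d0 * d1 * d2 < d0 * d1 * d2 - d1 * d2 + d0 * d2 + d0 * d1 := by
    have : d0 = 1 + d1 + d2 := by linarith
    subst this
    nlinarith [mul_pos h1 h2, mul_pos h1 h1, mul_pos h2 h2]
  have hg32 : g < 32 := by
    by_contra hcon
    push Not at hcon
    nlinarith
  have hd0 : d0 ≤ 5 := by nlinarith
  have hd0' : d0 = 3 := by omega
  subst hd0'
  have hd1 : d1 = 1 := by omega
  have hd2 : d2 = 1 := by omega
  subst hd1 hd2
  refine ⟨by linarith, rfl, rfl, rfl⟩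

/-- canonical sign pattern (+,-,-). -/
theorem two_aux2 (g d0 d1 d2 : ℤ) (hg : 0 < g) (h0 : 0 < d0) (h1 : 0 < d1) (h2 : 0 < d2)
    (hdeg : 1 + d0 - d1 - d2 = 0)
    (heq : (d0 * d1 * d2 + d1 * d2 - d0 * d2 - d0 * d1) * g = 32 * (d0 * d1 * d2))
    (hc0 : (4 : ℤ) ∣ d0 + 3) (hc1 : (4 : ℤ) ∣ d1 - 3) (hc2 : (4 : ℤ) ∣ d2 - 3)
    (hsq : 1 + d0 ^ 2 + d1 ^ 2 + d2 ^ 2 ≤ g) :
    g = 60 ∧ d0 = 5 ∧ d1 = 3 ∧ d2 = 3 := by
  have hP : 0 < d0 * d1 * d2 := by positivity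
  have h13 : 3 ≤ d1 := by omega
  have h23 : 3 ≤ d2 := by omega
  have hst : d0 * d1 * d2 < 3 * (d0 * d1 * d2 + d1 * d2 - d0 * d2 - d0 * d1) := by
    have e1 : 3 * (d0 * d2) ≤ d0 * d1 * d2 := by nlinarith [mul_pos h0 h2]
    have e2 : 3 * (d0 * d1) ≤ d0 * d1 * d2 := by nlinarith [mul_pos h0 h1]
    nlinarith [mul_pos h1 h2]
  have hg96 : g < 96 := by
    by_contra hcon
    push Not at hcon
    nlinarith
  have hd0 : d0 ≤ 9 := by nlinarith
  have hd1 : d1 ≤ 9 := by nlinarith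
  have hd2 : d2 ≤ 9 := by nlinarith
  have hd1' : d1 = 3 ∨ d1 = 7 := by omega
  have hd2' : d2 = 3 ∨ d2 = 7 := by omega
  rcases hd1' with rfl | rfl <;> rcases hd2' with rfl | rfl
  · have : d0 = 5 := by linarith
    subst this
    refine ⟨by linarith, rfl, rfl, rfl⟩
  · exfalso
    have : d0 = 9 := by linarith
    subst this
    linarith
  · exfalso
    have : d0 = 9 := by linarith
    subst this
    linarith
  · exfalso; linarith

theorem arith_two (g : ℕ) (b : Fin 3 → ℤ) (dg : Fin 3 → ℕ) (hg : 0 < g)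
    (hb : ∀ i, b i = 1 ∨ b i = -1) (hd : ∀ i, 0 < dg i)
    (hdeg : 1 + ∑ i, b i * (dg i : ℤ) = 0)
    (heq : ((1 : ℚ) + ∑ i, (b i : ℚ) / (dg i : ℚ)) * g = 32)
    (hcong : ∀ i, (4 : ℤ) ∣ (dg i : ℤ) + 3 * b i)
    (hsq : 1 + ∑ i, dg i ^ 2 ≤ g) :
    (g = 12 ∧ ∃ i, b i = -1 ∧ dg i = 3 ∧ ∀ j, j ≠ i → b j = 1 ∧ dg j = 1) ∨
      (g = 60 ∧ ∃ i, b i = 1 ∧ dg i = 5 ∧ ∀ j, j ≠ i → b j = -1 ∧ dg j = 3) := by
  rw [Fin.sum_univ_three] at hdeg heq hsq
  have hq0 : ((dg 0 : ℕ) : ℚ) ≠ 0 := by exact_mod_cast (hd 0).ne'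
  have hq1 : ((dg 1 : ℕ) : ℚ) ≠ 0 := by exact_mod_cast (hd 1).ne'
  have hq2 : ((dg 2 : ℕ) : ℚ) ≠ 0 := by exact_mod_cast (hd 2).ne'
  have heqQ : (((dg 0 : ℚ) * dg 1 * dg 2 + b 0 * (dg 1 * dg 2) + b 1 * (dg 0 * dg 2)
      + b 2 * (dg 0 * dg 1)) * g : ℚ) = 32 * ((dg 0 : ℚ) * dg 1 * dg 2) := by
    have h1 : ((1 : ℚ) + ((b 0 : ℚ) / (dg 0 : ℚ) + (b 1 : ℚ) / (dg 1 : ℚ) + (b 2 : ℚ) / (dg 2 : ℚ)))
        * ((dg 0 : ℚ) * dg 1 * dg 2) = ((dg 0 : ℚ) * dg 1 * dg 2 + b 0 * (dg 1 * dg 2)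
          + b 1 * (dg 0 * dg 2) + b 2 * (dg 0 * dg 1)) := by
      field_simp
      ring
    rw [← h1]
    calc _ = (((1 : ℚ) + ((b 0 : ℚ) / (dg 0 : ℚ) + (b 1 : ℚ) / (dg 1 : ℚ) + (b 2 : ℚ) / (dg 2 : ℚ)))
        * g) * ((dg 0 : ℚ) * dg 1 * dg 2) := by ring
      _ = _ := by rw [heq]
  have heqZ : (((dg 0 : ℤ) * dg 1 * dg 2 + b 0 * (dg 1 * dg 2) + b 1 * (dg 0 * dg 2)
      + b 2 * (dg 0 * dg 1)) * g : ℤ) = 32 * ((dg 0 : ℤ) * dg 1 * dg 2) := by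
    exact_mod_cast heqQ
  have hsqZ : (1 : ℤ) + ((dg 0 : ℤ) ^ 2 + (dg 1 : ℤ) ^ 2 + (dg 2 : ℤ) ^ 2) ≤ g := by
    exact_mod_cast hsq
  have hgZ : (0 : ℤ) < g := by exact_mod_cast hg
  have p0 : (0 : ℤ) < dg 0 := by exact_mod_cast hd 0
  have p1 : (0 : ℤ) < dg 1 := by exact_mod_cast hd 1
  have p2 : (0 : ℤ) < dg 2 := by exact_mod_cast hd 2
  have c0 := hcong 0
  have c1 := hcong 1
  have c2 := hcong 2
  rcases hb 0 with e0 | e0 <;> rcases hb 1 with e1 | e1 <;> rcases hb 2 with e2 | e2 <;>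
    rw [e0, e1, e2] at hdeg heqZ <;> rw [e0] at c0 <;> rw [e1] at c1 <;> rw [e2] at c2
  · exfalso; linarith
  · -- (+,+,-): minus at 2
    left
    obtain ⟨a1, a2, a3, a4⟩ := two_aux1 g (dg 2) (dg 0) (dg 1) hgZ p2 p0 p1 (by linarith)
      (by linear_combination heqZ) (by omega) (by linarith)
    refine ⟨by exact_mod_cast a1, 2, e2, by exact_mod_cast a2, ?_⟩
    intro j hj
    fin_cases j
    · exact ⟨e0, by exact_mod_cast a3⟩
    · exact ⟨e1, by exact_mod_cast a4⟩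
    · exact absurd rfl hj
  · -- (+,-,+): minus at 1
    left
    obtain ⟨a1, a2, a3, a4⟩ := two_aux1 g (dg 1) (dg 0) (dg 2) hgZ p1 p0 p2 (by linarith)
      (by linear_combination heqZ) (by omega) (by linarith)
    refine ⟨by exact_mod_cast a1, 1, e1, by exact_mod_cast a2, ?_⟩
    intro j hj
    fin_cases j
    · exact ⟨e0, by exact_mod_cast a3⟩
    · exact absurd rfl hj
    · exact ⟨e2, by exact_mod_cast a4⟩
  · -- (+,-,-): plus at 0
    right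
    obtain ⟨a1, a2, a3, a4⟩ := two_aux2 g (dg 0) (dg 1) (dg 2) hgZ p0 p1 p2 (by linarith)
      (by linear_combination heqZ) (by omega) (by omega) (by omega) (by linarith)
    refine ⟨by exact_mod_cast a1, 0, e0, by exact_mod_cast a2, ?_⟩
    intro j hj
    fin_cases j
    · exact absurd rfl hj
    · exact ⟨e1, by exact_mod_cast a3⟩
    · exact ⟨e2, by exact_mod_cast a4⟩
  · -- (-,+,+): minus at 0
    left
    obtain ⟨a1, a2, a3, a4⟩ := two_aux1 g (dg 0) (dg 1) (dg 2) hgZ p0 p1 p2 (by linarith)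
      (by linear_combination heqZ) (by omega) (by linarith)
    refine ⟨by exact_mod_cast a1, 0, e0, by exact_mod_cast a2, ?_⟩
    intro j hj
    fin_cases j
    · exact absurd rfl hj
    · exact ⟨e1, by exact_mod_cast a3⟩
    · exact ⟨e2, by exact_mod_cast a4⟩
  · -- (-,+,-): plus at 1
    right
    obtain ⟨a1, a2, a3, a4⟩ := two_aux2 g (dg 1) (dg 0) (dg 2) hgZ p1 p0 p2 (by linarith)
      (by linear_combination heqZ) (by omega) (by omega) (by omega) (by linarith)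
    refine ⟨by exact_mod_cast a1, 1, e1, by exact_mod_cast a2, ?_⟩
    intro j hj
    fin_cases j
    · exact ⟨e0, by exact_mod_cast a3⟩
    · exact absurd rfl hj
    · exact ⟨e2, by exact_mod_cast a4⟩
  · -- (-,-,+): plus at 2
    right
    obtain ⟨a1, a2, a3, a4⟩ := two_aux2 g (dg 2) (dg 0) (dg 1) hgZ p2 p0 p1 (by linarith)
      (by linear_combination heqZ) (by omega) (by omega) (by omega) (by linarith)
    refine ⟨by exact_mod_cast a1, 2, e2, by exact_mod_cast a2, ?_⟩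
    intro j hj
    fin_cases j
    · exact ⟨e0, by exact_mod_cast a3⟩
    · exact ⟨e1, by exact_mod_cast a4⟩
    · exact absurd rfl hj
  · -- (-,-,-)
    exfalso
    omega

end Cfsg.Agent.Lib.Helper9_BSW_ARITH
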