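/-
S3282 (abstract Brauer–Suzuki–Wall theorem): the first-wave work packages, re-exported under the
names used by the assembly files of helper77 (`Helper77_BSWPartA`, `Helper77_BSWPartB`).  Every theorem
below is proved by the package landed by the seat named in the proof term; the statements are the
ones posted in pending/helper77/S3282_packages.lean.txt (where the paper proof is written out).
-/
import Mathlib
import Cfsg.Agent.Lib.Helper77_BSWDefs
import Cfsg.Agent.Lib.Helper17_Coherence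
import Cfsg.Agent.Lib.Helper11_BSW_A4
import Cfsg.Agent.Lib.Helper11_BSW_B2
import Cfsg.Agent.Lib.Helper17_BSW_A3
import Cfsg.Agent.Lib.Helper21_BSW_B1
import Cfsg.Agent.Lib.Helper21_BSW_B3
import Cfsg.Agent.Lib.Helper21_BSW_B5c
import Cfsg.Agent.Lib.Helper2_BSW_B6a
import Cfsg.Agent.Lib.Helper2_BSW_B6b
import Cfsg.Agent.Lib.Helper49_BSW_B6c
import Cfsg.Agent.Lib.Helper59_BSW_B4
import Cfsg.Agent.Lib.Helper59_BSW_B5a
import Cfsg.Agent.Lib.Helper59_BSW_B5e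
import Cfsg.Agent.Lib.Helper65_BSW_A2
import Cfsg.Agent.Lib.Helper65_BSW_B5b
import Cfsg.Agent.Lib.Helper75_BSW_B5d
import Cfsg.Agent.Lib.Helper75_BSW_CONV
import Cfsg.Agent.Lib.Helper75_BSW_INV
import Cfsg.Agent.Lib.Helper8_BSW_A0
import Cfsg.Agent.Lib.Helper9_BSW_A1
import Cfsg.Agent.Lib.Helper9_BSW_ARITH

set_option autoImplicit false
open Cfsg
open scoped ComplexConjugate

namespace Cfsg.Agent.Lib.Helper77_BSWPackages

open Cfsg.Agent.Lib.Helper77_BSWDefs Cfsg.Agent.Lib.Helper80_CharBasic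
  Cfsg.Agent.Lib.Helper3_CharComplete

/-! ## PKG A0 : elementary group theory (est. 400 lines)

All fields of `Basics` (see Helper77_BSWDefs).  H := C(t) = K ⊔ ⟨s⟩ = K ∪ Ks since s normalizes K
(hinv) and s² = 1.  (as)² = a (s a s⁻¹) = 1.  An involution y ∈ K commutes with s (s y s⁻¹ = y⁻¹ = y), so
y ∈ K ⊓ C(s) = ⟨t⟩.  TI: g⁻¹ y g ∈ K, y ∈ K∖1 ⇒ y ∈ K ⊓ gKg⁻¹ ≠ ⊥ ⇒ g ∈ H (hTI).  C(y) ≤ H for y ∈ K∖1;
C(y) = K if y² ≠ 1 (elements of Ks invert y).  Involutions are conjugate to t (hconj), |C(u)| = |H| = 2k.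
Elements of H are conjugate into K (elements of Ks are involutions, conjugate to t ∈ K).  g of even order:
z = g^(o/2) = x t x⁻¹, g ∈ C(z) = x H x⁻¹.  card_conjInto: the non-identity elements conjugate into K lie in
exactly one conjugate x K x⁻¹ (TI), there are |G:N(K)| = |G:H| conjugates (N(K) = H), each with k-1 of them.
pairCount y = k (y ∈ K∖1): u, u⁻¹y involutions ⇒ u inverts y ⇒ u ∈ H (TI) ⇒ u ∈ Ks (u ∈ K would give
y² = 1 and u = t = y, then u⁻¹ y = 1); conversely all k elements of Ks work.  G ≠ H: else t is central,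
but s ≠ t is conjugate to t. -/
namespace A0

theorem basics {G : Type*} [Group G] [Finite G] {t s : G} {K : Subgroup G}
    (h : Setup t s K) : Basics t s K := by
  exact Cfsg.Agent.Lib.Helper8_BSW_A0.basics h

end A0

/-! ## PKG INV : pairs of involutions and the class multiplication formula (est. 250 lines)

`pairCount_eq_invCount`: for an involution u, (u⁻¹ g)² = 1 ⇔ u g u⁻¹ = g⁻¹, and u⁻¹ g ≠ 1 as g is not an
involution.  `pairCount_formula`: T = class of t = all involutions, |T| = |G|/|C(t)|.  The class function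
N(g) = #{(u,v) ∈ T², uv = g} has (N, χ) = |G|⁻¹ Σ_{u,v ∈ T} conj χ(uv) = |G|⁻¹ |T|² conj(χ t)² / χ(1)
(Helper77_CAd.sum_sum_irr_mul or Helper79_ClassAlgebra2.irr_card_mul_mul) and χ(t) is real (t = t⁻¹);
expand N = Σ (N,χ) χ (Helper3_CharComplete.classFunction_eq_sum). -/
namespace INV

theorem pairCount_eq_invCount {G : Type*} [Group G] [Finite G] (g : G) (hg : orderOf g ≠ 2) :
    pairCount g = invCount g := by
  exact Cfsg.Agent.Lib.Helper75_BSW_INV.pairCount_eq_invCount g hg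

theorem pairCount_formula {G : Type*} [Group G] [Fintype G] (t : G) (ht : orderOf t = 2)
    (hconj : ∀ u : G, orderOf u = 2 → IsConj u t) (g : G) :
    (pairCount g : ℂ) * (Nat.card (Subgroup.centralizer ({t} : Set G)) : ℂ) ^ 2 =
      (Nat.card G : ℂ) * ∑ χ : IrrCharacter G,
        ((χ : G → ℂ) t) ^ 2 * conj ((χ : G → ℂ) g) / (χ : G → ℂ) 1 := by
  exact Cfsg.Agent.Lib.Helper75_BSW_INV.pairCount_formula t ht hconj g

end INV

/-! ## PKG A1 : the dual of a finite abelian group with a unique involution (est. 250 lines)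

Irreducible characters of an abelian group are linear (Helper75_CommChar, Helper75_LinChar.IsLin).
A real linear character has values ±1.  #{real irreducible characters} = #{real classes} =
#{y : y = y⁻¹} = 2 (Helper3_RealClasses.card_real_irr_eq_card_real_classes, or
Σ_lam Σ_y lam(y)² = |A| #{y² = 1}).  ker nu has index ≤ 2.  Σ_lam lam(y) = 0 for y ≠ 1
(Helper75_CommChar.sum_irr_apply). -/
namespace A1

variable {A : Type*} [Group A] [Fintype A] (hcomm : ∀ a b : A, a * b = b * a)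
  (t₀ : A) (ht₀ : orderOf t₀ = 2) (huniq : ∀ y : A, orderOf y = 2 → y = t₀)

include hcomm in
theorem real_values (lam : IrrCharacter A) (hlam : cj lam = lam) (y : A) :
    (lam : A → ℂ) y = 1 ∨ (lam : A → ℂ) y = -1 := by
  exact Cfsg.Agent.Lib.Helper9_BSW_A1.real_values hcomm lam hlam y

include hcomm ht₀ huniq in
theorem exists_nu : ∃ ν : IrrCharacter A, ν ≠ oneIrr A ∧ cj ν = ν ∧
    ∀ lam : IrrCharacter A, cj lam = lam → lam = oneIrr A ∨ lam = ν := by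
  exact Cfsg.Agent.Lib.Helper9_BSW_A1.exists_nu hcomm t₀ ht₀ huniq

include hcomm in
theorem exists_neg (ν : IrrCharacter A) (hν : ν ≠ oneIrr A) (hr : cj ν = ν) :
    ∃ y : A, (ν : A → ℂ) y = -1 := by
  exact Cfsg.Agent.Lib.Helper9_BSW_A1.exists_neg hcomm ν hν hr

include hcomm in
theorem exists_pos (ν : IrrCharacter A) (hr : cj ν = ν) (h4 : 4 ≤ Fintype.card A) :
    ∃ y : A, y ≠ 1 ∧ (ν : A → ℂ) y = 1 := by
  exact Cfsg.Agent.Lib.Helper9_BSW_A1.exists_pos hcomm ν hr h4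

include hcomm ht₀ in
theorem apply_invol (lam : IrrCharacter A) :
    (lam : A → ℂ) t₀ = 1 ∨ (lam : A → ℂ) t₀ = -1 := by
  exact Cfsg.Agent.Lib.Helper9_BSW_A1.apply_invol hcomm t₀ ht₀ lam

include hcomm in
theorem sum_nonreal (ν : IrrCharacter A) (hν : ν ≠ oneIrr A) {y : A} (hy : y ≠ 1) :
    ∑ lam ∈ (Finset.univ.erase (oneIrr A)).erase ν, (lam : A → ℂ) y = -1 - (ν : A → ℂ) y := by
  exact Cfsg.Agent.Lib.Helper9_BSW_A1.sum_nonreal hcomm ν hν hy

end A1

/-! ## PKG A2 : the generalized characters `phi K lam = ind_K^G (1 - lam)` (est. 400 lines)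

ind of a character is a character (Helper75_IndChar), so phi = ind 1 - ind lam is a generalized character.
phi(g) = |K|⁻¹ Σ_x (1-lam)°(x⁻¹ g x); for g = y ∈ K∖1: x⁻¹ y x ∈ K ⇔ x ∈ H = K ∪ Ks (Basics), x ∈ K gives y,
x ∈ Ks gives y⁻¹: phi(y) = (1 - lam y) + (1 - lam y⁻¹).  Inner products by Frobenius reciprocity
(Helper75_Induced.frobenius_reciprocity): (phi lam, phi mu) = (1 - lam, (phi mu)|_K)_K
= |K|⁻¹ Σ_y (1 - lam y) conj(2 - mu y - conj(mu y)) and orthogonality of Irr(K). -/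
namespace A2

variable {G : Type*} [Group G] [Fintype G] {t s : G} {K : Subgroup G} [Fintype ↥K]

theorem phi_isGeneralizedCharacter (lam : IrrCharacter ↥K) :
    IsGeneralizedCharacter G (phi K lam) := by
  exact Cfsg.Agent.Lib.Helper65_BSW_A2.phi_isGeneralizedCharacter lam

theorem phi_isClassFunction (lam : IrrCharacter ↥K) : IsClassFunction G (phi K lam) := by
  exact Cfsg.Agent.Lib.Helper65_BSW_A2.phi_isClassFunction lam

theorem phi_one (hcomm : ∀ x ∈ K, ∀ y ∈ K, x * y = y * x) (lam : IrrCharacter ↥K) :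
    phi K lam 1 = 0 := by
  exact Cfsg.Agent.Lib.Helper65_BSW_A2.phi_one hcomm lam

theorem phi_oneIrr : phi K (oneIrr ↥K) = 0 := by
  exact Cfsg.Agent.Lib.Helper65_BSW_A2.phi_oneIrr

theorem phi_apply_of_not_conjInto (lam : IrrCharacter ↥K) {g : G} (hg : ¬ ConjInto K g) :
    phi K lam g = 0 := by
  exact Cfsg.Agent.Lib.Helper65_BSW_A2.phi_apply_of_not_conjInto lam hg

theorem phi_apply_of_mem (h : Setup t s K) (hB : Basics t s K) (lam : IrrCharacter ↥K) {y : G}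
    (hy : y ∈ K) (hy1 : y ≠ 1) :
    phi K lam y = 2 - (lam : ↥K → ℂ) ⟨y, hy⟩ - conj ((lam : ↥K → ℂ) ⟨y, hy⟩) := by
  exact Cfsg.Agent.Lib.Helper65_BSW_A2.phi_apply_of_mem h hB lam hy hy1

theorem classInner_phi_one (h : Setup t s K) (hB : Basics t s K) (lam : IrrCharacter ↥K)
    (hlam : lam ≠ oneIrr ↥K) : classInner (phi K lam) (fun _ => (1 : ℂ)) = 1 := by
  exact Cfsg.Agent.Lib.Helper65_BSW_A2.classInner_phi_one h hB lam hlam

theorem classInner_phi_phi (h : Setup t s K) (hB : Basics t s K) (lam mu : IrrCharacter ↥K)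
    (hlam : lam ≠ oneIrr ↥K) (hmu : mu ≠ oneIrr ↥K) :
    classInner (phi K lam) (phi K mu) =
      2 + (if lam = mu then 1 else 0) + (if lam = cj mu then 1 else 0) := by
  exact Cfsg.Agent.Lib.Helper65_BSW_A2.classInner_phi_phi h hB lam mu hlam hmu

end A2

/-! ## PKG A4 : values on `K ∖ 1` from the multiplicities in the `phi K lam` (est. 150 lines)

χ|_K = Σ_lam m_lam lam (every function on the abelian group K is a class function;
Helper3_CharComplete.classFunction_eq_sum), (χ, phi lam)_G = (χ|_K, 1 - lam)_K = m_1 - m_lam (Frobenius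
reciprocity + classInner_conj_symm), so for y ≠ 1: χ y = Σ m_lam lam y = m_1 Σ_lam lam y - Σ (χ, phi lam) lam y
and Σ_lam lam y = 0; the term lam = 1 vanishes since phi K 1 = 0. -/
namespace A4

variable {G : Type*} [Group G] [Fintype G] {K : Subgroup G} [Fintype ↥K]

theorem apply_of_mem (hcomm : ∀ x ∈ K, ∀ y ∈ K, x * y = y * x) (χ : G → ℂ)
    (hχ : IsClassFunction G χ) {y : G} (hy : y ∈ K) (hy1 : y ≠ 1) :
    χ y = - ∑ lam ∈ Finset.univ.erase (oneIrr ↥K),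
      classInner χ (phi K lam) * (lam : ↥K → ℂ) ⟨y, hy⟩ := by
  exact Cfsg.Agent.Lib.Helper11_BSW_A4.apply_of_mem hcomm χ hχ hy hy1

end A4

/-! ## PKG A3 : the lattice argument (pure integer combinatorics, est. 500 lines)

I = Irr(G), i0 = 1_G, dg = degrees, L = Irr(K) ∖ {1}, a l i = (phi l, i).  b l := a l - e_{i0} has
b l i0 = 0, norm 2 for l ≠ ν (so b l = ±e_X ± e_Y), norm 3 for l = ν, (b l, b m) = 1 unless m ∈ {l, cjL l}
(then b l = b m), and Σ b l · dg = -1.  Two unrelated norm-2 vectors share exactly one signed unit σ e_X;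
a third one either contains σ e_X too or is the third side of a "triangle", which is impossible by degrees
(2 σ' dg Y = -1).  So all contain ε e_Z, and b l = ε(e_Z - e_{W l}) by the degree equation (ε = 1 ⇒ other
sign -, ε = -1 ⇒ other sign +).  For ν: ε(b ν Z - b ν (W l)) = 1 for all l, entries in {0, ±1}, three nonzero
entries: either b ν Z = ε and b ν (W l) = 0 (first alternative), or b ν Z = 0 and b ν (W l) = -ε for all l:
with one class (|L| = 3) rename (ε, Z, W) := (-ε, W, Z); with two classes (|L| = 5) this is the second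
alternative; with three classes the degree equation 1 - 3ε(dg Z + ε) = 0 is impossible; more classes
contradict norm 3.  `ei` is Helper17_Coherence.ei; Helper17_Coherence.sum_sq_eq_two / shape_three help. -/
namespace A3

open Cfsg.Agent.Lib.Helper17_Coherence

variable {I : Type*} [Fintype I] [DecidableEq I] {L : Type*} [Fintype L] [DecidableEq L]

theorem lattice (i0 : I) (dg : I → ℤ) (hdg : ∀ i, 0 < dg i) (hd0 : dg i0 = 1)
    (cjL : L → L) (hcj : ∀ l, cjL (cjL l) = l) (ν : L) (hν : cjL ν = ν)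
    (hnr : ∀ l, l ≠ ν → cjL l ≠ l) (a : L → I → ℤ) (h0 : ∀ l, a l i0 = 1)
    (hgram : ∀ l m, ∑ i, a l i * a m i =
      2 + (if l = m then 1 else 0) + (if l = cjL m then 1 else 0))
    (hdeg : ∀ l, ∑ i, a l i * dg i = 0) (hne : ∃ l, l ≠ ν) :
    ∃ (ε : ℤ) (Z : I) (W : L → I), (ε = 1 ∨ ε = -1) ∧ Z ≠ i0 ∧
      (∀ l, l ≠ ν → W l ≠ i0 ∧ W l ≠ Z) ∧
      (∀ l m, l ≠ ν → m ≠ ν → (W l = W m ↔ (l = m ∨ l = cjL m))) ∧
      (∀ l, l ≠ ν → ∀ i, a l i = ei i0 i + ε * (ei Z i - ei (W l) i)) ∧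
      ((∃ (c d : I) (bc bd : ℤ), (bc = 1 ∨ bc = -1) ∧ (bd = 1 ∨ bd = -1) ∧ c ≠ d ∧ c ≠ i0 ∧
          d ≠ i0 ∧ c ≠ Z ∧ d ≠ Z ∧ (∀ l, l ≠ ν → W l ≠ c ∧ W l ≠ d) ∧
          ∀ i, a ν i = ei i0 i + ε * ei Z i + bc * ei c i + bd * ei d i) ∨
        (Fintype.card L = 5 ∧ ∃ (V : I) (η : ℤ), (η = 1 ∨ η = -1) ∧ V ≠ i0 ∧ V ≠ Z ∧
          (∀ l, l ≠ ν → W l ≠ V) ∧
          ∀ i, 2 * a ν i = 2 * ei i0 i + 2 * η * ei V i -
            ε * ∑ l ∈ Finset.univ.erase ν, ei (W l) i)) := by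
  exact Cfsg.Agent.Lib.Helper17_BSW_A3.lattice i0 dg hdg hd0 cjL hcj ν hν hnr a h0 hgram hdeg hne

end A3

/-! ## PKG ARITH : pure arithmetic (est. 300 lines)

arith_gen: subtracting, bc/c₁ + bd/d₁ = -4ε/w; with e_c = -ε bc, e_d = -ε bd: e_c c₁ + e_d d₁ = z + ε = w and
e_c/c₁ + e_d/d₁ = 4/w, which forces e_c = e_d = 1, c₁ = d₁ = w/2 (AM–GM equality; mixed signs give the
wrong sign).  Adding: 4k³/g = 1 + ε/z - 4ε/w = (z-ε)²/(z w), so g = 4k³ z w/(z-ε)².  z - ε = 2k i, i ≥ 1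
(i = 0 gives 4k³/g = 0), g = k z w / i², g/(2k) = z (w/2)/i² with z ≡ w/2 ≡ ε mod i ⇒ i = 1.
arith_weird: 2η/v = 26ε/w, η v = 2ε w - 1 ⇒ 25 w = 13 ε.
arith_two: sign patterns (+,+,-): LHS > 1 ⇒ g < 32 ⇒ dg = (1,1,3), g = 12; (+,-,-): dg ≡ 3 mod 4 for the
minus signs, ≡ 1 for plus; LHS > 1/3 ⇒ g < 96 ⇒ dg = (5,3,3), g = 60; other patterns violate hdeg. -/
namespace ARITH

theorem arith_gen (k g z w c₁ d₁ : ℕ) (ε bc bd : ℤ) (hk : 2 ≤ k) (hg : 0 < g) (hz : 0 < z)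
    (hw : 0 < w) (hc : 0 < c₁) (hd : 0 < d₁)
    (hε : ε = 1 ∨ ε = -1) (hbc : bc = 1 ∨ bc = -1) (hbd : bd = 1 ∨ bd = -1)
    (hdeg1 : 1 + ε * ((z : ℤ) - w) = 0)
    (hdeg2 : 1 + ε * (z : ℤ) + bc * c₁ + bd * d₁ = 0)
    (hEm : (1 : ℚ) + ε / z + (bc / c₁ + bd / d₁) = 4 * (k : ℚ) ^ 3 / g)
    (hEp : (1 : ℚ) + ε / z - 8 * ε / w - (bc / c₁ + bd / d₁) = 4 * (k : ℚ) ^ 3 / g)
    (hcong : (2 * k : ℤ) ∣ (z : ℤ) - ε)
    (hdiv : 2 * k ∣ g) :
    (z : ℤ) = 2 * k + ε ∧ g = k * z * w ∧ bc = -ε ∧ bd = -ε ∧ 2 * c₁ = w ∧ 2 * d₁ = w := by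
  exact Cfsg.Agent.Lib.Helper9_BSW_ARITH.arith_gen k g z w c₁ d₁ ε bc bd hk hg hz hw hc hd hε hbc hbd hdeg1 hdeg2 hEm hEp hcong hdiv

theorem arith_weird (w v : ℕ) (ε η : ℤ) (hw : 0 < w) (hv : 0 < v)
    (hε : ε = 1 ∨ ε = -1) (hη : η = 1 ∨ η = -1)
    (hdeg : 1 + η * (v : ℤ) - 2 * ε * w = 0)
    (heq : (1 : ℚ) - 26 * ε / w + η / v = 1 - η / v) : False := by
  exact Cfsg.Agent.Lib.Helper9_BSW_ARITH.arith_weird w v ε η hw hv hε hη hdeg heq

theorem arith_two (g : ℕ) (b : Fin 3 → ℤ) (dg : Fin 3 → ℕ) (hg : 0 < g)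
    (hb : ∀ i, b i = 1 ∨ b i = -1) (hd : ∀ i, 0 < dg i)
    (hdeg : 1 + ∑ i, b i * (dg i : ℤ) = 0)
    (heq : ((1 : ℚ) + ∑ i, (b i : ℚ) / (dg i : ℚ)) * g = 32)
    (hcong : ∀ i, (4 : ℤ) ∣ (dg i : ℤ) + 3 * b i)
    (hsq : 1 + ∑ i, dg i ^ 2 ≤ g) :
    (g = 12 ∧ ∃ i, b i = -1 ∧ dg i = 3 ∧ ∀ j, j ≠ i → b j = 1 ∧ dg j = 1) ∨
      (g = 60 ∧ ∃ i, b i = 1 ∧ dg i = 5 ∧ ∀ j, j ≠ i → b j = -1 ∧ dg j = 3) := by
  exact Cfsg.Agent.Lib.Helper9_BSW_ARITH.arith_two g b dg hg hb hd hdeg heq hcong hsq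

end ARITH

/-! ## PKG CONV : convolution of the indicator of a union of classes with itself (est. 250 lines)

F = 1_S = Σ_χ f_χ χ, f_χ = |G|⁻¹ Σ_{v ∈ S} conj χ(v).  #{v ∈ S, v⁻¹y ∈ S} = Σ_{v ∈ S} F(v⁻¹ y)
= Σ_χ f_χ Σ_{v∈S} χ(v⁻¹ y), and Σ_{v∈S} χ(v⁻¹ y) = (Σ_{v∈S} χ(v⁻¹)) χ(y)/χ(1) because S is closed under
conjugation: average over conjugates and use Σ_g χ(g a g⁻¹ b) = |G| χ(a) χ(b)/χ(1)
(Helper79_ClassAlgebra2.irr_card_mul_mul / Helper80_FullyRamified.sum_conj_mul_irr). -/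
namespace CONV

theorem conv_formula {G : Type*} [Group G] [Fintype G] [DecidableEq G] (S : Finset G)
    (hS : ∀ v ∈ S, ∀ x : G, x * v * x⁻¹ ∈ S) (y : G) :
    ((S.filter (fun v => v⁻¹ * y ∈ S)).card : ℂ) * (Nat.card G : ℂ) =
      ∑ χ : IrrCharacter G,
        (conj (∑ v ∈ S, (χ : G → ℂ) v)) ^ 2 * (χ : G → ℂ) y / (χ : G → ℂ) 1 := by
  exact Cfsg.Agent.Lib.Helper75_BSW_CONV.conv_formula S hS y

end CONV

section PartB

variable {G : Type*} [Group G] [Fintype G] {t s : G} {K : Subgroup G} {ε : ℤ} {q : ℕ}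
  {St c d : IrrCharacter G} {Θ : Finset (IrrCharacter G)}

/-! ## PKG B1 : defect zero and the elements not conjugate into `K` (est. 350 lines)

q = 2k + ε, |G| = q(q²-1)/2 = 2 q k (k+ε), and q, 2k, k+ε are pairwise coprime (k even, k+ε odd).
St(1) = q: v_p(|G|) = v_p(q) for p | q ⇒ Cfsg.Agent.S4478.vanish.  c(1) = d(1) = k+ε likewise for r | k+ε.
conjInto_of_dvd: l = 2: Basics.conjInto_of_even.  l odd, l | k: a Sylow l-subgroup of K is one of G
(v_l |G| = v_l k), so z = g^(o(g)/l) is conjugate to an element y of K∖1, g centralizes z, C(y) ≤ H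
(Basics.centralizer_le), elements of H are conjugate into K (Basics.conjInto_of_mem_H).
St_off: g ≠ 1; a prime divisor of o(g) divides |G|; it does not divide 2k (else ConjInto); if some p | q
divides o(g): St g = 0; else some r | k+ε does and c g = d g = 0 ⇒ St g = -ε by CharData.cd_off. -/
namespace B1

theorem St_eq_zero_of_dvd (D : CharData t K ε q St c d Θ) {p : ℕ} (hp : p.Prime) (hpq : p ∣ q)
    {g : G} (hg : p ∣ orderOf g) : (St : G → ℂ) g = 0 := by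
  exact Cfsg.Agent.Lib.Helper21_BSW_B1.St_eq_zero_of_dvd D hp hpq hg

theorem cd_eq_zero_of_dvd (D : CharData t K ε q St c d Θ) {r : ℕ} (hr : r.Prime)
    (hrk : (r : ℤ) ∣ (Nat.card K : ℤ) + ε) {g : G} (hg : r ∣ orderOf g) :
    (c : G → ℂ) g = 0 ∧ (d : G → ℂ) g = 0 := by
  exact Cfsg.Agent.Lib.Helper21_BSW_B1.cd_eq_zero_of_dvd D hr hrk hg

theorem conjInto_of_dvd (h : Setup t s K) (hB : Basics t s K) (D : CharData t K ε q St c d Θ)
    {l : ℕ} (hl : l.Prime) (hlk : l ∣ 2 * Nat.card K) {g : G} (hg : l ∣ orderOf g) :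
    ConjInto K g := by
  exact Cfsg.Agent.Lib.Helper21_BSW_B1.conjInto_of_dvd h hB D hl hlk hg

theorem St_off (h : Setup t s K) (hB : Basics t s K) (D : CharData t K ε q St c d Θ) {g : G}
    (hg : ¬ ConjInto K g) :
    ((St : G → ℂ) g = 0 ∧ ¬ Nat.Coprime (orderOf g) q) ∨
      ((St : G → ℂ) g = -(ε : ℂ) ∧ Nat.Coprime (orderOf g) q) := by
  exact Cfsg.Agent.Lib.Helper21_BSW_B1.St_off h hB D hg

end B1

/-! ## PKG B2 : the number of elements with `St = 0` (est. 150 lines)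

Σ_g |St g|² = |G| (St irreducible).  Split G: g = 1 (q²); g ≠ 1 conjugate into K (|St g|² = 1, N_K of them);
off K with St g = 0 (N_q of them); off K with St g = -ε (N_D of them, |St g|² = 1).  So q² + N_K + N_D = |G|
= 1 + N_K + N_q + N_D, hence N_q = q² - 1. -/
namespace B2

theorem card_Piq (h : Setup t s K) (hB : Basics t s K) (D : CharData t K ε q St c d Θ)
    (hoff : ∀ g : G, ¬ ConjInto K g → (St : G → ℂ) g = 0 ∨ (St : G → ℂ) g = -(ε : ℂ)) :
    Nat.card {g : G // ¬ ConjInto K g ∧ (St : G → ℂ) g = 0} = q ^ 2 - 1 := by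
  exact Cfsg.Agent.Lib.Helper11_BSW_B2.card_Piq h hB D hoff

end B2

/-! ## PKG B3 : the number of involutions inverting an element not conjugate into `K` (est. 300 lines)

g is not an involution (involutions are conjugate to t ∈ K), so invCount g = pairCount g (hpi).  In hpc:
|C(t)| = 2k, |G| = 2qk(k+ε); the sum over Irr(G) splits as 1, St, c, d, Θ, others (CharData.others: they
vanish at t).  St t = ε, (c t)² = (d t)² = 1, (θ t)² = 4, |Θ| = (k-2)/2, θ g = St g + ε, c g + d g = St g + ε,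
all values real (hoff).  Sum = 1 + St g/q + (2k-2)(St g + ε)/(q+ε).  Then
invCount g = (q(q+ε)/(2(q-ε))) · Sum = (q-1)/2 · St g + (1+ε) q/2. -/
namespace B3

theorem invCount_off (h : Setup t s K) (hB : Basics t s K) (D : CharData t K ε q St c d Θ)
    (hoff : ∀ g : G, ¬ ConjInto K g → (St : G → ℂ) g = 0 ∨ (St : G → ℂ) g = -(ε : ℂ))
    (hpc : ∀ g : G, (pairCount g : ℂ) * (Nat.card (Subgroup.centralizer ({t} : Set G)) : ℂ) ^ 2 =
      (Nat.card G : ℂ) * ∑ χ : IrrCharacter G,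
        ((χ : G → ℂ) t) ^ 2 * conj ((χ : G → ℂ) g) / (χ : G → ℂ) 1)
    (hpi : ∀ g : G, orderOf g ≠ 2 → pairCount g = invCount g)
    {g : G} (hg : ¬ ConjInto K g) :
    (invCount g : ℂ) = ((q : ℂ) - 1) / 2 * (St : G → ℂ) g + (1 + (ε : ℂ)) / 2 * (q : ℂ) := by
  exact Cfsg.Agent.Lib.Helper21_BSW_B3.invCount_off h hB D hoff hpc hpi hg

end B3

/-! ## PKG B4 : strongly real elements have abelian centralizers (est. 350 lines)

lemmaR: take u inverting g.  w ↦ w u⁻¹ maps the involutions inverting g injectively into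
{a ∈ C(g) : u a u⁻¹ = a⁻¹} ((a u)² = a (u a u⁻¹)); so N ≤ |C(g)|, and |C(g)| | N gives equality, i.e. u inverts
every element of C(g).  (If g² = 1 the hypotheses are contradictory: then u ∈ C(g) is not counted.)
card_centralizer_dvd_q: |C(x)| divides |G| = q · 2k(k+ε); show it is prime to 2k(k+ε) by Cauchy.  z ∈ C(x)
of prime order l | 2k: z = u y u⁻¹ with y ∈ K∖1 (hconj), x ∈ C(z) ≤ u H u⁻¹ ⇒ x conjugate into K, no.
z of prime order r | k+ε: some prime p | q divides o(x) (else some r' | k+ε does, then c x = d x = 0 and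
St x = -ε ≠ 0); y := x^(o(x)/p) commutes with z, o(yz) = p r; St(yz) = 0 (hSt0), c(yz) = d(yz) = 0 (hcd0), yz is
not conjugate into K (p ∤ k), so cd_off gives 0 = 0 + ε, no.   card_centralizer_dvd_k: symmetric. -/
namespace B4

theorem lemmaR {G : Type*} [Group G] [Finite G] (g : G) (N : ℕ) (hN : 0 < N)
    (hcount : invCount g = N) (hdvd : Nat.card (Subgroup.centralizer ({g} : Set G)) ∣ N) :
    Nat.card (Subgroup.centralizer ({g} : Set G)) = N ∧
      ∃ u : G, orderOf u = 2 ∧ ∀ a ∈ Subgroup.centralizer ({g} : Set G), u * a * u⁻¹ = a⁻¹ := by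
  exact Cfsg.Agent.Lib.Helper59_BSW_B4.lemmaR g N hN hcount hdvd

theorem card_centralizer_dvd_q (h : Setup t s K) (hB : Basics t s K)
    (D : CharData t K ε q St c d Θ)
    (hSt0 : ∀ (p : ℕ), p.Prime → p ∣ q → ∀ g : G, p ∣ orderOf g → (St : G → ℂ) g = 0)
    (hcd0 : ∀ (r : ℕ), r.Prime → (r : ℤ) ∣ (Nat.card K : ℤ) + ε → ∀ g : G, r ∣ orderOf g →
      (c : G → ℂ) g = 0 ∧ (d : G → ℂ) g = 0)
    (hconj : ∀ (l : ℕ), l.Prime → l ∣ 2 * Nat.card K → ∀ g : G, l ∣ orderOf g → ConjInto K g)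
    {x : G} (hx : ¬ ConjInto K x) (hx0 : (St : G → ℂ) x = 0) :
    Nat.card (Subgroup.centralizer ({x} : Set G)) ∣ q := by
  exact Cfsg.Agent.Lib.Helper59_BSW_B4.card_centralizer_dvd_q h hB D hSt0 hcd0 hconj hx hx0

theorem card_centralizer_dvd_k (h : Setup t s K) (hB : Basics t s K)
    (D : CharData t K ε q St c d Θ)
    (hSt0 : ∀ (p : ℕ), p.Prime → p ∣ q → ∀ g : G, p ∣ orderOf g → (St : G → ℂ) g = 0)
    (hcd0 : ∀ (r : ℕ), r.Prime → (r : ℤ) ∣ (Nat.card K : ℤ) + ε → ∀ g : G, r ∣ orderOf g →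
      (c : G → ℂ) g = 0 ∧ (d : G → ℂ) g = 0)
    (hconj : ∀ (l : ℕ), l.Prime → l ∣ 2 * Nat.card K → ∀ g : G, l ∣ orderOf g → ConjInto K g)
    {g : G} (hg : ¬ ConjInto K g) (hg0 : (St : G → ℂ) g = -(ε : ℂ)) :
    (Nat.card (Subgroup.centralizer ({g} : Set G)) : ℤ) ∣ (Nat.card K : ℤ) + ε := by
  exact Cfsg.Agent.Lib.Helper59_BSW_B4.card_centralizer_dvd_k h hB D hSt0 hcd0 hconj hg hg0

end B4

/-! ## PKG B5a : centralizers of the elements with `St = 0` have order `q` (est. 120 lines)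

The class of x lies in the set {¬ConjInto, St = 0} (both conditions are class invariant), so
|G|/|C(x)| ≤ q²-1 with |G| = q(q²-1)/2: |C(x)| ≥ q/2; it divides the odd number q, so it is q. -/
namespace B5a

theorem card_centralizer_Piq (h : Setup t s K) (hB : Basics t s K)
    (D : CharData t K ε q St c d Θ)
    (hcard : Nat.card {g : G // ¬ ConjInto K g ∧ (St : G → ℂ) g = 0} = q ^ 2 - 1)
    (hdvd : ∀ x : G, ¬ ConjInto K x → (St : G → ℂ) x = 0 →
      Nat.card (Subgroup.centralizer ({x} : Set G)) ∣ q)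
    {x : G} (hx : ¬ ConjInto K x) (hx0 : (St : G → ℂ) x = 0) :
    Nat.card (Subgroup.centralizer ({x} : Set G)) = q := by
  exact Cfsg.Agent.Lib.Helper59_BSW_B5a.card_centralizer_Piq h hB D hcard hdvd hx hx0

end B5a

/-! ## PKG B5b : the column of an element with `St = 0`, case `ε = -1` (est. 450 lines)

ε = -1: q = 2k-1, St(1) = q, c(1) = d(1) = (q-1)/2, θ(1) = q-1, |Θ| = (q-3)/4.  O := the "other" irreducible
characters, r_χ := χ(1)/(q+1) for χ ∈ O.  (i) Σ χ(1)² = |G| (Helper3_CharColumn.sum_sq_irr_one) gives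
Σ_O χ(1)² = (q+1)²(q-3)/4, i.e. Σ_O r_χ² = (q-3)/4.  (ii) column orthogonality of y and 1
(Helper3_CharColumn.column_orthogonality) with St y = 0, θ y = -1, c y + d y = -1 gives
Σ_O χ(1) conj(χ y) = (q+1)(q-3)/4.  (iii) column_orthogonality_self: 1 + |Θ| + |c y|² + |d y|² + Σ_O |χ y|² = q.
(iv) 0 ≤ Σ_O |χ y - r_χ|² ⇒ Σ_O |χ y|² ≥ (q-3)/4 ⇒ |c y|² + |d y|² ≤ (q+1)/2, for every y in the set.
(v) (c,c) = 1: Σ_{St = 0} |c|² = |G| - ((q-1)/2)² - N_K (c has absolute value 1 on the N_K = q(q-1)²/4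
non-identity elements conjugate into K (Basics.card_conjInto), and vanishes where St = 1 (hcd0)); same for d;
sum = (q²-1)(q+1)/2 = (number of y)·(q+1)/2.  So equality holds in (iv) for every y, whence χ y = r_χ. -/
namespace B5b

theorem table_minus (h : Setup t s K) (hB : Basics t s K)
    (D : CharData t K (-1) q St c d Θ)
    (hoff : ∀ g : G, ¬ ConjInto K g → (St : G → ℂ) g = 0 ∨ (St : G → ℂ) g = 1)
    (hcd0 : ∀ g : G, ¬ ConjInto K g → (St : G → ℂ) g = 1 → (c : G → ℂ) g = 0 ∧ (d : G → ℂ) g = 0)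
    (hcard : Nat.card {g : G // ¬ ConjInto K g ∧ (St : G → ℂ) g = 0} = q ^ 2 - 1)
    (hcent : ∀ x : G, ¬ ConjInto K x → (St : G → ℂ) x = 0 →
      Nat.card (Subgroup.centralizer ({x} : Set G)) = q)
    {y : G} (hy : ¬ ConjInto K y) (hy0 : (St : G → ℂ) y = 0) :
    ((c : G → ℂ) y * conj ((c : G → ℂ) y) + (d : G → ℂ) y * conj ((d : G → ℂ) y) =
        ((q : ℂ) + 1) / 2) ∧
      ∀ χ : IrrCharacter G, χ ≠ oneIrr G → χ ≠ St → χ ≠ c → χ ≠ d → χ ∉ Θ →
        (χ : G → ℂ) y = (χ : G → ℂ) 1 / ((q : ℂ) + 1) := by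
  exact Cfsg.Agent.Lib.Helper65_BSW_B5b.table_minus h hB D hoff hcd0 hcard hcent hy hy0

end B5b

/-! ## PKG B5c : `d` is the complex conjugate of `c`, case `ε = -1` (est. 200 lines)

conj c is irreducible (Helper3_RealClasses.conjIrr).  It does not vanish at t (c t = ±1), so it is not an
"other" character; its degree (q-1)/2 is not q or q-1 (q ≥ 3) and it is not 1 (c ≠ 1): conj c ∈ {c, d}, and
likewise conj d.  If conj c = c then conj d = d, the values at y are real with c y + d y = -1 and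
(c y)² + (d y)² = (q+1)/2, so (c y)(d y) = (1-q)/4 is a rational algebraic integer, i.e. 4 | q-1; but
q = 2k-1 with k even. -/
namespace B5c

theorem conj_c_eq_d (h : Setup t s K) (hB : Basics t s K) (D : CharData t K (-1) q St c d Θ)
    (y : G) (hy : ¬ ConjInto K y) (hy0 : (St : G → ℂ) y = 0)
    (hnorm : (c : G → ℂ) y * conj ((c : G → ℂ) y) + (d : G → ℂ) y * conj ((d : G → ℂ) y) =
        ((q : ℂ) + 1) / 2) :
    ∀ g : G, conj ((c : G → ℂ) g) = (d : G → ℂ) g := by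
  exact Cfsg.Agent.Lib.Helper21_BSW_B5c.conj_c_eq_d h hB D y hy hy0 hnorm

end B5c

/-! ## PKG B5d : the number of factorizations inside the set `St = 0`, case `ε = -1` (est. 400 lines)

S_χ := Σ_{v ∈ S} χ v: S_1 = q²-1, S_St = 0, S_θ = -(q²-1), S_χ = (q²-1) χ(1)/(q+1) for the others (htab),
S_c + S_d = -(q²-1), S_d = conj S_c (hcd) and S_c is real since S = S⁻¹, so S_c = S_d = -(q²-1)/2.  In hconv:
RHS = (q²-1)² [1 - |Θ|/(q-1) + (c y + d y)/(2(q-1)) + Σ_O χ(1)²/(q+1)³] with |Θ| = (q-3)/4, c y + d y = -1,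
Σ_O χ(1)² = (q+1)²(q-3)/4 (from Σ χ(1)² = |G|): RHS = (q²-1)² q/(q+1); LHS = N q(q²-1)/2.  N = 2(q-1). -/
namespace B5d

theorem count_minus [DecidableEq G] (h : Setup t s K) (hB : Basics t s K)
    (D : CharData t K (-1) q St c d Θ)
    (S : Finset G) (hS : ∀ g : G, g ∈ S ↔ ¬ ConjInto K g ∧ (St : G → ℂ) g = 0)
    (hcard : S.card = q ^ 2 - 1)
    (hconv : ∀ y : G, ((S.filter (fun v => v⁻¹ * y ∈ S)).card : ℂ) * (Nat.card G : ℂ) =
      ∑ χ : IrrCharacter G,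
        (conj (∑ v ∈ S, (χ : G → ℂ) v)) ^ 2 * (χ : G → ℂ) y / (χ : G → ℂ) 1)
    (hcd : ∀ g : G, conj ((c : G → ℂ) g) = (d : G → ℂ) g)
    (htab : ∀ y ∈ S, ∀ χ : IrrCharacter G, χ ≠ oneIrr G → χ ≠ St → χ ≠ c → χ ≠ d → χ ∉ Θ →
        (χ : G → ℂ) y = (χ : G → ℂ) 1 / ((q : ℂ) + 1))
    {y : G} (hy : y ∈ S) :
    (S.filter (fun v => v⁻¹ * y ∈ S)).card = 2 * (q - 1) := by
  exact Cfsg.Agent.Lib.Helper75_BSW_B5d.count_minus h hB D S hS hcard hconv hcd htab hy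

end B5d

end PartB

/-! ## PKG B5e : three subgroups of order `q` through `y` give too many factorizations
(pure group theory, est. 250 lines)

If a, b ∈ C(y) do not commute, then C(y), C(a), C(b) are three distinct subgroups of order q containing y
(b ∈ C(y)∖C(a), a ∈ C(y)∖C(b), a ∈ C(a)∖C(b)); pairwise intersections are proper subgroups of a group of odd
order q, so have order ≤ q/3; the union has ≥ 3q - q + 1 elements.  Every v ≠ 1, y in the union lies in S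
(hmem) and so does v⁻¹ y (same subgroup): ≥ 2q - 1 > 2(q-1) factorizations. -/
namespace B5e

theorem comm_of_count {G : Type*} [Group G] [Fintype G] [DecidableEq G] (q : ℕ) (hq : Odd q)
    (S : Finset G)
    (hS1 : (1 : G) ∉ S)
    (hcent : ∀ x ∈ S, Nat.card (Subgroup.centralizer ({x} : Set G)) = q)
    (hmem : ∀ x ∈ S, ∀ z ∈ Subgroup.centralizer ({x} : Set G), z ≠ 1 → z ∈ S)
    (hcount : ∀ y ∈ S, (S.filter (fun v => v⁻¹ * y ∈ S)).card ≤ 2 * (q - 1))
    {y : G} (hy : y ∈ S) :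
    ∀ a ∈ Subgroup.centralizer ({y} : Set G), ∀ b ∈ Subgroup.centralizer ({y} : Set G),
      a * b = b * a := by
  exact Cfsg.Agent.Lib.Helper59_BSW_B5e.comm_of_count q hq S hS1 hcent hmem hcount hy

end B5e

/-! ## PKG B6a : the family of centralizers (pure group theory, est. 600 lines)

𝒬 := {C(x) : x ∈ S}.  For x ∈ S, Q = C(x) is abelian of order q, every z ∈ Q∖1 is in S and C(z) ⊇ Q has
order q, so C(z) = Q: the members of 𝒬 are TI, S is the disjoint union of the Q∖1, |𝒬| = q+1 ≥ 4.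
Semiregularity: z ∈ Q∖1 normalizing Q' ≠ Q gives the subgroup ⟨z⟩Q' of order o(z)·q (⟨z⟩ ∩ Q' ≤ Q ∩ Q' = 1),
which divides |G| = q (q²-1)/2, so o(z) | gcd(q, (q²-1)/2) = 1.  Hence z ↦ z Q' z⁻¹ is injective on Q with
values in 𝒬∖{Q} (q elements): bijective.  Same with Q, Q' exchanged; as |𝒬| ≥ 3 all members are conjugate:
|G : N(Q)| = q+1, 2|N(Q)| = q(q-1); N(Q) is transitive on 𝒬∖{Q} so E := N(Q) ∩ N(Q') has index q in N(Q),
Q ∩ E = 1 (semiregularity), N(Q) = QE by orders. -/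
namespace B6a

theorem exists_pair {G : Type*} [Group G] [Fintype G] [DecidableEq G] (q : ℕ) (hq : Odd q)
    (hq3 : 3 ≤ q) (S : Finset G) (hS1 : (1 : G) ∉ S)
    (hSconj : ∀ v ∈ S, ∀ x : G, x * v * x⁻¹ ∈ S)
    (hcardG : 2 * Nat.card G = q * (q + 1) * (q - 1)) (hcard : S.card = q ^ 2 - 1)
    (hcent : ∀ x ∈ S, Nat.card (Subgroup.centralizer ({x} : Set G)) = q)
    (hmem : ∀ x ∈ S, ∀ z ∈ Subgroup.centralizer ({x} : Set G), z ≠ 1 → z ∈ S)
    (hcomm : ∀ x ∈ S, ∀ a ∈ Subgroup.centralizer ({x} : Set G),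
      ∀ b ∈ Subgroup.centralizer ({x} : Set G), a * b = b * a) :
    ∃ Q Q' : Subgroup G, Q ≠ Q' ∧ Nat.card Q = q ∧ Nat.card Q' = q ∧
      (∀ x ∈ Q, x ≠ 1 → x ∈ S ∧ Subgroup.centralizer ({x} : Set G) = Q) ∧
      (∀ x ∈ Q', x ≠ 1 → x ∈ S ∧ Subgroup.centralizer ({x} : Set G) = Q') ∧
      2 * Nat.card (Subgroup.normalizer (Q : Set G)) = q * (q - 1) ∧
      2 * Nat.card (Subgroup.normalizer (Q : Set G) ⊓ Subgroup.normalizer (Q' : Set G) :
        Subgroup G) + 1 = q ∧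
      Q ⊓ (Subgroup.normalizer (Q : Set G) ⊓ Subgroup.normalizer (Q' : Set G)) = ⊥ ∧
      Subgroup.normalizer (Q : Set G) =
        Q ⊔ (Subgroup.normalizer (Q : Set G) ⊓ Subgroup.normalizer (Q' : Set G)) ∧
      (∀ z ∈ Q, z ∈ Subgroup.normalizer (Q' : Set G) → z = 1) ∧
      (∀ x ∈ S, Subgroup.centralizer ({x} : Set G) = Q ∨
        ∃ z ∈ Q, Subgroup.centralizer ({x} : Set G) = Q'.map (MulAut.conj z).toMonoidHom) := by
  exact Cfsg.Agent.Lib.Helper2_BSW_B6a.exists_pair q hq hq3 S hS1 hSconj hcardG hcard hcent hmem hcomm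

end B6a

/-! ## PKG B6b : the subgroup `D`, case `q = 2k + 1` (pure group theory, est. 350 lines)

|N(Q)| = qk is even: take an involution u ∈ N(Q).  C_Q(u) = 1 (x ∈ Q∖1 commuting with u puts u ∈ C(x) = Q of
odd order), so u inverts Q (Cfsg.Agent.S0739.inverts_of_fpf).  Two involutions of N(Q) differ by an element
of C(Q) = Q, so the involutions of N(Q) are the q elements of Qu, one Q-class (x u x⁻¹ = x² u).  Hence
|C_{N(Q)}(u)| = k; it lies in C(u) = x H x⁻¹ (Basics.exists_conj_invol) and contains a unique involution;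
x⁻¹ C_{N(Q)}(u) x ≤ H = K ∪ Ks misses Ks (its elements are involutions ≠ t), so it is K.  D := x K x⁻¹:
abelian, |D| = k, Q ∩ D = 1 (coprime orders), N(Q) = QD (orders).  For 1 ≠ X ≤ D: N(X) ≤ x H x⁻¹ by
Setup.hTI, and x H x⁻¹ = D ⟨x s x⁻¹⟩ normalizes X and D; u' := x s x⁻¹. -/
namespace B6b

theorem exists_D_plus {G : Type*} [Group G] [Finite G] {t s : G} {K : Subgroup G}
    (h : Setup t s K) (hB : Basics t s K) (q : ℕ) (hq : q = 2 * Nat.card K + 1)
    (Q : Subgroup G) (hQ : Nat.card Q = q)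
    (hcent : ∀ x ∈ Q, x ≠ 1 → Subgroup.centralizer ({x} : Set G) = Q)
    (hN : 2 * Nat.card (Subgroup.normalizer (Q : Set G)) = q * (q - 1)) :
    ∃ D : Subgroup G, IsMulCommutative ↥D ∧ 2 * Nat.card ↥D + 1 = q ∧ Q ⊓ D = ⊥ ∧
      Subgroup.normalizer (Q : Set G) = Q ⊔ D ∧
      ∀ X : Subgroup G, X ≤ D → X ≠ ⊥ →
        Subgroup.normalizer (X : Set G) = Subgroup.normalizer (D : Set G) ∧
        ∃ u : G, orderOf u = 2 ∧ u ∉ D ∧ (∀ d ∈ D, u * d * u⁻¹ = d⁻¹) ∧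
          Subgroup.normalizer (D : Set G) = D ⊔ Subgroup.zpowers u := by
  exact Cfsg.Agent.Lib.Helper2_BSW_B6b.exists_D_plus h hB q hq Q hQ hcent hN

end B6b

/-! ## PKG B6c : the subgroup `D`, case `q = 2k - 1` (pure group theory, est. 450 lines)

E := N(Q) ∩ N(Q'), |E| = k-1 (odd).  k = 2: D = ⊥.  Else take h ∈ E of prime order (Cauchy), D := C(h):
abelian of order k-1, inverted by an involution u (htor).  D ≤ E: for d ∈ D, h normalizes d Q d⁻¹, which is Q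
or z Q' z⁻¹ (z ∈ Q, htrans); in the second case z⁻¹ (h z h⁻¹) ∈ Q ∩ N(Q') = 1 (hsemi), so z ∈ C(h) ∩ Q, and
z ≠ 1 would give h ∈ C(z) = Q, h ∈ Q ∩ E = 1; so d Q d⁻¹ ∈ {Q, Q'}, likewise d Q' d⁻¹ (htrans'); D has odd
order, so it fixes both: D ≤ E, D = E.  For x ∈ D∖1: C(x) = D (htor: order k-1, D ≤ C(x)).  1 ≠ X ≤ D,
g ∈ N(X): x ∈ D ∩ g D g⁻¹ ⇒ g D g⁻¹ ≤ C(x) = D, so N(X) ≤ N(D); D⟨u⟩ ≤ N(X).  |N(D)| = 2(k-1): involutions
of N(D) invert D (|C(v)| = 2k is prime to k-1), lie in D u, form one D-class; w := |C_{N(D)}(u)| = |N(D)|/(k-1);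
C_{N(D)}(u) has a unique involution and lies in C(u) = x H x⁻¹, hence in x K x⁻¹: w | k; N(D)/D acts
semiregularly on D∖1: w | k-2.  So w | 2. -/
namespace B6c

theorem exists_D_minus {G : Type*} [Group G] [Finite G] {t s : G} {K : Subgroup G}
    (h : Setup t s K) (hB : Basics t s K) (q : ℕ) (hq : q + 1 = 2 * Nat.card K)
    (htor : ∀ g : G, g ≠ 1 → orderOf g ∣ Nat.card K - 1 →
      Nat.card (Subgroup.centralizer ({g} : Set G)) = Nat.card K - 1 ∧
      ∃ u : G, orderOf u = 2 ∧ ∀ a ∈ Subgroup.centralizer ({g} : Set G), u * a * u⁻¹ = a⁻¹)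
    (Q Q' : Subgroup G) (hne : Q ≠ Q') (hQ : Nat.card Q = q) (hQ' : Nat.card Q' = q)
    (hcent : ∀ x ∈ Q, x ≠ 1 → Subgroup.centralizer ({x} : Set G) = Q)
    (hcent' : ∀ x ∈ Q', x ≠ 1 → Subgroup.centralizer ({x} : Set G) = Q')
    (hE : 2 * Nat.card (Subgroup.normalizer (Q : Set G) ⊓ Subgroup.normalizer (Q' : Set G) :
        Subgroup G) + 1 = q)
    (hQE : Q ⊓ (Subgroup.normalizer (Q : Set G) ⊓ Subgroup.normalizer (Q' : Set G)) = ⊥)
    (hNQ : Subgroup.normalizer (Q : Set G) =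
        Q ⊔ (Subgroup.normalizer (Q : Set G) ⊓ Subgroup.normalizer (Q' : Set G)))
    (hsemi : ∀ z ∈ Q, z ∈ Subgroup.normalizer (Q' : Set G) → z = 1)
    (htrans : ∀ g : G, Q.map (MulAut.conj g).toMonoidHom = Q ∨
        ∃ z ∈ Q, Q.map (MulAut.conj g).toMonoidHom = Q'.map (MulAut.conj z).toMonoidHom)
    (htrans' : ∀ g : G, Q'.map (MulAut.conj g).toMonoidHom = Q ∨
        ∃ z ∈ Q, Q'.map (MulAut.conj g).toMonoidHom = Q'.map (MulAut.conj z).toMonoidHom) :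
    ∃ D : Subgroup G, IsMulCommutative ↥D ∧ 2 * Nat.card ↥D + 1 = q ∧ Q ⊓ D = ⊥ ∧
      Subgroup.normalizer (Q : Set G) = Q ⊔ D ∧
      ∀ X : Subgroup G, X ≤ D → X ≠ ⊥ →
        Subgroup.normalizer (X : Set G) = Subgroup.normalizer (D : Set G) ∧
        ∃ u : G, orderOf u = 2 ∧ u ∉ D ∧ (∀ d ∈ D, u * d * u⁻¹ = d⁻¹) ∧
          Subgroup.normalizer (D : Set G) = D ⊔ Subgroup.zpowers u := by
  exact Cfsg.Agent.Lib.Helper49_BSW_B6c.exists_D_minus h hB q hq htor Q Q' hne hQ hQ' hcent hcent' hE hQE hNQ hsemi htrans htrans'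

end B6c

end Cfsg.Agent.Lib.Helper77_BSWPackages
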