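import Cfsg.Agent.Lib.Helper77_BSWDefs
import Cfsg.Agent.Lib.Helper77_BlockBasics
import Cfsg.Agent.Lib.Helper57_FrobNorm
import Cfsg.Agent.Lib.Helper75_CharArith
import Cfsg.Agent.Lib.Helper17_Coherence

/-!
# Brauer–Suzuki–Wall, bridge 1: integer coefficients of the `phi K lam` (helper77)

`coef K lam χ = (phi K lam, χ) ∈ ℤ`, the expansion of `phi K lam`, Parseval, the degree equation.
-/

set_option autoImplicit false
open Cfsg
open scoped ComplexConjugate

namespace Cfsg.Agent.Lib.Helper77_BSWBridge1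

open Cfsg.Agent.Lib.Helper77_BSWDefs Cfsg.Agent.Lib.Helper80_CharBasic
  Cfsg.Agent.Lib.Helper3_CharComplete Cfsg.Agent.Lib.Helper3_CharOrtho
  Cfsg.Agent.Lib.Helper3_CharBridge Cfsg.Agent.Lib.Helper75_CharArith
  Cfsg.Agent.Lib.Helper57_FrobNorm

variable {G : Type*} [Group G] [Fintype G] {K : Subgroup G}

section

variable (hgen : ∀ lam : IrrCharacter ↥K, IsGeneralizedCharacter G (phi K lam))

include hgen in
theorem exists_coef (lam : IrrCharacter ↥K) (χ : IrrCharacter G) :
    ∃ z : ℤ, classInner (phi K lam) (χ : G → ℂ) = z :=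
  classInner_genChar_int (hgen lam) (isCharacter_of_isIrrCharacter χ.2)

/-- The multiplicity of `χ` in `phi K lam`. -/
noncomputable def coef (lam : IrrCharacter ↥K) (χ : IrrCharacter G) : ℤ :=
  Classical.choose (exists_coef hgen lam χ)

theorem coef_spec (lam : IrrCharacter ↥K) (χ : IrrCharacter G) :
    classInner (phi K lam) (χ : G → ℂ) = (coef hgen lam χ : ℂ) :=
  Classical.choose_spec (exists_coef hgen lam χ)

theorem coef_spec' (lam : IrrCharacter ↥K) (χ : IrrCharacter G) :
    classInner (χ : G → ℂ) (phi K lam) = (coef hgen lam χ : ℂ) := by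
  rw [← classInner_conj_symm, coef_spec hgen]
  simp

variable (hcf : ∀ lam : IrrCharacter ↥K, IsClassFunction G (phi K lam))

include hcf in
theorem phi_eq_sum (lam : IrrCharacter ↥K) (g : G) :
    phi K lam g = ∑ χ : IrrCharacter G, (coef hgen lam χ : ℂ) * (χ : G → ℂ) g := by
  have h := congrFun (classFunction_eq_sum (phi K lam) (hcf lam)) g
  rw [h, Finset.sum_apply]
  refine Finset.sum_congr rfl (fun χ _ => ?_)
  rw [Pi.smul_apply, smul_eq_mul, coef_spec hgen]

include hcf in
theorem sum_coef_mul (lam mu : IrrCharacter ↥K) :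
    ((∑ χ : IrrCharacter G, coef hgen lam χ * coef hgen mu χ : ℤ) : ℂ) =
      classInner (phi K lam) (phi K mu) := by
  rw [classInner_eq_sum_irr (hcf lam) (phi K mu)]
  push_cast
  refine Finset.sum_congr rfl (fun χ _ => ?_)
  rw [coef_spec hgen, coef_spec' hgen]

include hcf in
theorem sum_coef_deg (lam : IrrCharacter ↥K) (h1 : phi K lam 1 = 0) :
    ∑ χ : IrrCharacter G, coef hgen lam χ * (charDegree (χ : G → ℂ) : ℤ) = 0 := by
  have h := phi_eq_sum hgen hcf lam 1
  rw [h1] at h
  have h2 : ((∑ χ : IrrCharacter G, coef hgen lam χ * (charDegree (χ : G → ℂ) : ℤ) : ℤ) : ℂ)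
      = 0 := by
    rw [h]
    push_cast
    refine Finset.sum_congr rfl (fun χ _ => ?_)
    rw [Cfsg.Agent.Lib.Helper77_BlockBasics.apply_one_eq_charDegree χ]
  exact_mod_cast h2

theorem coef_one (lam : IrrCharacter ↥K)
    (h1 : classInner (phi K lam) (fun _ => (1 : ℂ)) = 1) : coef hgen lam (oneIrr G) = 1 := by
  have h := coef_spec hgen lam (oneIrr G)
  have h2 : ((oneIrr G : IrrCharacter G) : G → ℂ) = fun _ => (1 : ℂ) := rfl
  rw [h2, h1] at h
  exact_mod_cast h.symm

end

end Cfsg.Agent.Lib.Helper77_BSWBridge1
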