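import Cfsg.Agent.Lib.Helper77_BSWDefs

/-!
# More definitions for the abstract Brauer–Suzuki–Wall theorem S3282 (helper77)

The possible "shapes" of the multiplicities `a lam χ = (χ, phi K lam)` produced by the lattice
argument, and the resulting values on `K ∖ 1`.  Everything is stated without decidable equality.
-/

set_option autoImplicit false
open Cfsg
open scoped ComplexConjugate

namespace Cfsg.Agent.Lib.Helper77_BSWDefs2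

open Cfsg.Agent.Lib.Helper77_BSWDefs Cfsg.Agent.Lib.Helper80_CharBasic
  Cfsg.Agent.Lib.Helper3_CharComplete

/-- Common data: `ν` is the unique non-trivial real irreducible character of `K`, and `a lam χ` is
the (integer) multiplicity of `χ` in `phi K lam`. -/
structure Coefs {G : Type*} [Group G] [Fintype G] (K : Subgroup G) [Fintype ↥K]
    (ν : IrrCharacter ↥K) (a : IrrCharacter ↥K → IrrCharacter G → ℤ) : Prop where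
  hν1 : ν ≠ oneIrr ↥K
  hνr : cj ν = ν
  hνu : ∀ lam : IrrCharacter ↥K, cj lam = lam → lam = oneIrr ↥K ∨ lam = ν
  ha : ∀ (lam : IrrCharacter ↥K) (χ : IrrCharacter G),
    classInner (χ : G → ℂ) (phi K lam) = (a lam χ : ℂ)

/-- The generic shape: `a lam = e_1 + ε (e_Z - e_{W lam})` for `lam ≠ 1, ν` and
`a ν = e_1 + ε e_Z + bc e_c + bd e_d`. -/
structure GenShape {G : Type*} [Group G] [Fintype G] (K : Subgroup G) [Fintype ↥K]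
    (ν : IrrCharacter ↥K) (a : IrrCharacter ↥K → IrrCharacter G → ℤ) (ε : ℤ)
    (Z : IrrCharacter G) (W : IrrCharacter ↥K → IrrCharacter G) (c d : IrrCharacter G)
    (bc bd : ℤ) : Prop where
  hε : ε = 1 ∨ ε = -1
  hbc : bc = 1 ∨ bc = -1
  hbd : bd = 1 ∨ bd = -1
  hZ1 : Z ≠ oneIrr G
  hc1 : c ≠ oneIrr G
  hd1 : d ≠ oneIrr G
  hcZ : c ≠ Z
  hdZ : d ≠ Z
  hcd : c ≠ d
  hW : ∀ lam : IrrCharacter ↥K, lam ≠ oneIrr ↥K → lam ≠ ν →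
    W lam ≠ oneIrr G ∧ W lam ≠ Z ∧ W lam ≠ c ∧ W lam ≠ d
  hWinj : ∀ lam mu : IrrCharacter ↥K, lam ≠ oneIrr ↥K → lam ≠ ν → mu ≠ oneIrr ↥K → mu ≠ ν →
    (W lam = W mu ↔ (lam = mu ∨ lam = cj mu))
  a_one : ∀ lam : IrrCharacter ↥K, lam ≠ oneIrr ↥K → a lam (oneIrr G) = 1
  a_Z : ∀ lam : IrrCharacter ↥K, lam ≠ oneIrr ↥K → a lam Z = ε
  a_W : ∀ lam : IrrCharacter ↥K, lam ≠ oneIrr ↥K → lam ≠ ν → a lam (W lam) = -ε
  a_other : ∀ lam : IrrCharacter ↥K, lam ≠ oneIrr ↥K → lam ≠ ν → ∀ χ : IrrCharacter G,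
    χ ≠ oneIrr G → χ ≠ Z → χ ≠ W lam → a lam χ = 0
  a_c : a ν c = bc
  a_d : a ν d = bd
  a_ν_other : ∀ χ : IrrCharacter G, χ ≠ oneIrr G → χ ≠ Z → χ ≠ c → χ ≠ d → a ν χ = 0

/-- The values on `K ∖ 1` in the generic shape. -/
structure GenVals {G : Type*} [Group G] [Fintype G] (K : Subgroup G) [Fintype ↥K]
    (ν : IrrCharacter ↥K) (ε : ℤ)
    (Z : IrrCharacter G) (W : IrrCharacter ↥K → IrrCharacter G) (c d : IrrCharacter G)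
    (bc bd : ℤ) : Prop where
  Z_K : ∀ (y : G) (_ : y ∈ K), y ≠ 1 → (Z : G → ℂ) y = (ε : ℂ)
  W_K : ∀ lam : IrrCharacter ↥K, lam ≠ oneIrr ↥K → lam ≠ ν → ∀ (y : G) (hy : y ∈ K), y ≠ 1 →
    (W lam : G → ℂ) y =
      (ε : ℂ) * ((lam : ↥K → ℂ) ⟨y, hy⟩ + conj ((lam : ↥K → ℂ) ⟨y, hy⟩))
  c_K : ∀ (y : G) (hy : y ∈ K), y ≠ 1 → (c : G → ℂ) y = -(bc : ℂ) * (ν : ↥K → ℂ) ⟨y, hy⟩
  d_K : ∀ (y : G) (hy : y ∈ K), y ≠ 1 → (d : G → ℂ) y = -(bd : ℂ) * (ν : ↥K → ℂ) ⟨y, hy⟩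
  other_K : ∀ χ : IrrCharacter G, χ ≠ oneIrr G → χ ≠ Z → χ ≠ c → χ ≠ d →
    (∀ lam : IrrCharacter ↥K, lam ≠ oneIrr ↥K → lam ≠ ν → χ ≠ W lam) →
    ∀ y ∈ K, y ≠ 1 → (χ : G → ℂ) y = 0

/-- The arithmetic output in the generic shape (`z = Z(1)`). -/
structure GenArith {G : Type*} [Group G] [Fintype G] (K : Subgroup G) [Fintype ↥K]
    (ν : IrrCharacter ↥K) (ε : ℤ)
    (Z : IrrCharacter G) (W : IrrCharacter ↥K → IrrCharacter G) (c d : IrrCharacter G)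
    (bc bd : ℤ) : Prop where
  z_eq : (charDegree (Z : G → ℂ) : ℤ) = 2 * (Nat.card K : ℤ) + ε
  card_G : (Nat.card G : ℤ) =
    (Nat.card K : ℤ) * (charDegree (Z : G → ℂ) : ℤ) * ((charDegree (Z : G → ℂ) : ℤ) + ε)
  bc_eq : bc = -ε
  bd_eq : bd = -ε
  c_deg : 2 * (charDegree (c : G → ℂ) : ℤ) = (charDegree (Z : G → ℂ) : ℤ) + ε
  d_deg : 2 * (charDegree (d : G → ℂ) : ℤ) = (charDegree (Z : G → ℂ) : ℤ) + ε
  W_deg : ∀ lam : IrrCharacter ↥K, lam ≠ oneIrr ↥K → lam ≠ ν →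
    (charDegree (W lam : G → ℂ) : ℤ) = (charDegree (Z : G → ℂ) : ℤ) + ε

/-- The exceptional shape (only possible when `|K| = 6`): `a lam = e_1 + ε (e_Z - e_{W lam})` for
`lam ≠ 1, ν` and `a ν = e_1 + η e_V - ε Σ_{classes} e_{W lam}`. -/
structure WeirdShape {G : Type*} [Group G] [Fintype G] (K : Subgroup G) [Fintype ↥K]
    (ν : IrrCharacter ↥K) (a : IrrCharacter ↥K → IrrCharacter G → ℤ) (ε η : ℤ)
    (Z V : IrrCharacter G) (W : IrrCharacter ↥K → IrrCharacter G) : Prop where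
  hε : ε = 1 ∨ ε = -1
  hη : η = 1 ∨ η = -1
  hZ1 : Z ≠ oneIrr G
  hV1 : V ≠ oneIrr G
  hVZ : V ≠ Z
  hW : ∀ lam : IrrCharacter ↥K, lam ≠ oneIrr ↥K → lam ≠ ν →
    W lam ≠ oneIrr G ∧ W lam ≠ Z ∧ W lam ≠ V
  hWinj : ∀ lam mu : IrrCharacter ↥K, lam ≠ oneIrr ↥K → lam ≠ ν → mu ≠ oneIrr ↥K → mu ≠ ν →
    (W lam = W mu ↔ (lam = mu ∨ lam = cj mu))
  a_one : ∀ lam : IrrCharacter ↥K, lam ≠ oneIrr ↥K → a lam (oneIrr G) = 1
  a_Z : ∀ lam : IrrCharacter ↥K, lam ≠ oneIrr ↥K → lam ≠ ν → a lam Z = ε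
  a_W : ∀ lam : IrrCharacter ↥K, lam ≠ oneIrr ↥K → lam ≠ ν → a lam (W lam) = -ε
  a_other : ∀ lam : IrrCharacter ↥K, lam ≠ oneIrr ↥K → lam ≠ ν → ∀ χ : IrrCharacter G,
    χ ≠ oneIrr G → χ ≠ Z → χ ≠ W lam → a lam χ = 0
  a_ν_Z : a ν Z = 0
  a_ν_V : a ν V = η
  a_ν_W : ∀ lam : IrrCharacter ↥K, lam ≠ oneIrr ↥K → lam ≠ ν → a ν (W lam) = -ε
  a_ν_other : ∀ χ : IrrCharacter G, χ ≠ oneIrr G → χ ≠ Z → χ ≠ V →
    (∀ lam : IrrCharacter ↥K, lam ≠ oneIrr ↥K → lam ≠ ν → χ ≠ W lam) → a ν χ = 0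

end Cfsg.Agent.Lib.Helper77_BSWDefs2
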