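import Mathlib
import Cfsg.Agent.Lib.Helper77_BSWDefs2
import Cfsg.Agent.Lib.Helper77_BSWBridge1
import Cfsg.Agent.Lib.Helper9_BSW_A1
import Cfsg.Agent.Lib.Helper65_BSW_A2

/-!
# S3282, generic shape: common lemmas for packages GEN2 and GEN3 (helper21)
-/

set_option autoImplicit false
open Cfsg
open scoped ComplexConjugate

namespace Cfsg.Agent.Lib.Helper21_BSW_GenCommon

open Cfsg.Agent.Lib.Helper77_BSWDefs Cfsg.Agent.Lib.Helper77_BSWDefs2
  Cfsg.Agent.Lib.Helper80_CharBasic Cfsg.Agent.Lib.Helper3_CharComplete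

section

variable {G : Type*} [Group G] [Fintype G] {t s : G} {K : Subgroup G} [Fintype ↥K]
  {ν : IrrCharacter ↥K} {a : IrrCharacter ↥K → IrrCharacter G → ℤ} {ε : ℤ}
  {Z : IrrCharacter G} {W : IrrCharacter ↥K → IrrCharacter G} {c d : IrrCharacter G} {bc bd : ℤ}

/-- the non-real irreducible characters of `K` -/
noncomputable def nonreal (K : Subgroup G) [Fintype ↥K] (ν : IrrCharacter ↥K) :
    Finset (IrrCharacter ↥K) :=
  (Finset.univ.erase (oneIrr ↥K)).erase ν

theorem mem_nonreal {lam : IrrCharacter ↥K} :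
    lam ∈ nonreal K ν ↔ lam ≠ oneIrr ↥K ∧ lam ≠ ν := by
  unfold nonreal
  simp only [Finset.mem_erase, Finset.mem_univ, and_true]
  tauto

theorem cj_cj (lam : IrrCharacter ↥K) : cj (cj lam) = lam :=
  Cfsg.Agent.Lib.Helper3_RealClasses.conjIrr_conjIrr lam

theorem cj_mem_nonreal (C : Coefs K ν a) {lam : IrrCharacter ↥K} (h : lam ∈ nonreal K ν) :
    cj lam ∈ nonreal K ν ∧ cj lam ≠ lam := by
  rw [mem_nonreal] at h ⊢
  refine ⟨⟨?_, ?_⟩, ?_⟩
  · intro h1
    apply h.1
    have := congrArg cj h1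
    rw [cj_cj] at this
    rw [this]
    exact Cfsg.Agent.Lib.Helper65_BSW_A2.cj_oneIrr
  · intro h1
    apply h.2
    have := congrArg cj h1
    rw [cj_cj, C.hνr] at this
    exact this
  · intro h1
    rcases C.hνu lam h1 with h2 | h2
    · exact h.1 h2
    · exact h.2 h2

theorem fiber_W (C : Coefs K ν a) (S : GenShape K ν a ε Z W c d bc bd) {lam : IrrCharacter ↥K}
    (hlam : lam ∈ nonreal K ν) :
    (nonreal K ν).filter (fun mu => W mu = W lam) = {lam, cj lam} := by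
  ext mu
  simp only [Finset.mem_filter, Finset.mem_insert, Finset.mem_singleton]
  have hl := mem_nonreal.mp hlam
  constructor
  · rintro ⟨hmu, hW⟩
    have hm := mem_nonreal.mp hmu
    exact (S.hWinj mu lam hm.1 hm.2 hl.1 hl.2).mp hW
  · intro hmu
    have hmem : mu ∈ nonreal K ν := by
      rcases hmu with rfl | rfl
      · exact hlam
      · exact (cj_mem_nonreal C hlam).1
    have hm := mem_nonreal.mp hmem
    exact ⟨hmem, (S.hWinj mu lam hm.1 hm.2 hl.1 hl.2).mpr hmu⟩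

theorem sum_image_W (C : Coefs K ν a) (S : GenShape K ν a ε Z W c d bc bd)
    (F : IrrCharacter G → ℂ) :
    ∑ lam ∈ nonreal K ν, F (W lam) = 2 * ∑ θ ∈ (nonreal K ν).image W, F θ := by
  rw [Finset.mul_sum]
  symm
  apply Finset.sum_image' (fun lam => F (W lam))
  intro lam hlam
  rw [Finset.sum_congr rfl (fun mu hmu => by rw [(Finset.mem_filter.mp hmu).2]),
    Finset.sum_const, fiber_W C S hlam, Finset.card_pair (cj_mem_nonreal C hlam).2.symm,
    nsmul_eq_mul]
  norm_num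

theorem card_nonreal (C : Coefs K ν a) :
    (nonreal K ν).card + 2 = Fintype.card (IrrCharacter ↥K) := by
  unfold nonreal
  have h1 : ν ∈ Finset.univ.erase (oneIrr ↥K) := by
    simp only [Finset.mem_erase, Finset.mem_univ, and_true]
    exact C.hν1
  rw [Finset.card_erase_of_mem h1, Finset.card_erase_of_mem (Finset.mem_univ _),
    Finset.card_univ]
  have h2 : 2 ≤ Fintype.card (IrrCharacter ↥K) := by
    have := Finset.card_le_univ ({oneIrr ↥K, ν} : Finset (IrrCharacter ↥K))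
    rwa [Finset.card_pair C.hν1.symm] at this
  omega

theorem card_image_W (C : Coefs K ν a) (S : GenShape K ν a ε Z W c d bc bd) :
    2 * ((nonreal K ν).image W).card + 2 = Fintype.card (IrrCharacter ↥K) := by
  have h := sum_image_W C S (fun _ => (1 : ℂ))
  rw [Finset.sum_const, Finset.sum_const, nsmul_eq_mul, nsmul_eq_mul, mul_one, mul_one] at h
  have h2 : (nonreal K ν).card = 2 * ((nonreal K ν).image W).card := by exact_mod_cast h
  rw [← h2]
  exact card_nonreal C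

/-- splitting a sum over `Irr(G)` in the generic shape -/
theorem sum_split_gen (S : GenShape K ν a ε Z W c d bc bd) (F : IrrCharacter G → ℂ)
    (h0 : ∀ χ : IrrCharacter G, χ ≠ oneIrr G → χ ≠ Z → χ ≠ c → χ ≠ d →
      (∀ lam : IrrCharacter ↥K, lam ≠ oneIrr ↥K → lam ≠ ν → χ ≠ W lam) → F χ = 0) :
    ∑ χ : IrrCharacter G, F χ =
      F (oneIrr G) + (F Z + (F c + (F d + ∑ θ ∈ (nonreal K ν).image W, F θ))) := by
  set Im := (nonreal K ν).image W with hIm
  have hImmem : ∀ χ, χ ∈ Im ↔ ∃ lam, lam ≠ oneIrr ↥K ∧ lam ≠ ν ∧ W lam = χ := by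
    intro χ
    rw [hIm, Finset.mem_image]
    constructor
    · rintro ⟨lam, hlam, rfl⟩
      exact ⟨lam, (mem_nonreal.mp hlam).1, (mem_nonreal.mp hlam).2, rfl⟩
    · rintro ⟨lam, h1, h2, rfl⟩
      exact ⟨lam, mem_nonreal.mpr ⟨h1, h2⟩, rfl⟩
  have n4 : d ∉ Im := by
    rw [hImmem]
    rintro ⟨lam, h1, h2, h3⟩
    exact (S.hW lam h1 h2).2.2.2 h3
  have n3 : c ∉ insert d Im := by
    rw [Finset.mem_insert, hImmem]
    rintro (h | ⟨lam, h1, h2, h3⟩)
    · exact S.hcd h
    · exact (S.hW lam h1 h2).2.2.1 h3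
  have n2 : Z ∉ insert c (insert d Im) := by
    rw [Finset.mem_insert, Finset.mem_insert, hImmem]
    rintro (h | h | ⟨lam, h1, h2, h3⟩)
    · exact S.hcZ h.symm
    · exact S.hdZ h.symm
    · exact (S.hW lam h1 h2).2.1 h3
  have n1 : oneIrr G ∉ insert Z (insert c (insert d Im)) := by
    rw [Finset.mem_insert, Finset.mem_insert, Finset.mem_insert, hImmem]
    rintro (h | h | h | ⟨lam, h1, h2, h3⟩)
    · exact S.hZ1 h.symm
    · exact S.hc1 h.symm
    · exact S.hd1 h.symm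
    · exact (S.hW lam h1 h2).1 h3
  rw [← Finset.sum_insert n4, ← Finset.sum_insert n3, ← Finset.sum_insert n2,
    ← Finset.sum_insert n1]
  symm
  apply Finset.sum_subset (Finset.subset_univ _)
  intro χ _ hχ
  simp only [Finset.mem_insert, not_or] at hχ
  obtain ⟨h1, h2, h3, h4, h5⟩ := hχ
  apply h0 χ h1 h2 h3 h4
  intro lam hl1 hl2 h6
  apply h5
  rw [hImmem]
  exact ⟨lam, hl1, hl2, h6.symm⟩

/-- the expansion of `phi K lam` with the integer coefficients `a lam χ` -/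
theorem phi_expand (C : Coefs K ν a) (lam : IrrCharacter ↥K) (g : G) :
    phi K lam g = ∑ χ : IrrCharacter G, (a lam χ : ℂ) * (χ : G → ℂ) g := by
  have hgen : ∀ lam : IrrCharacter ↥K, IsGeneralizedCharacter G (phi K lam) :=
    fun lam => Cfsg.Agent.Lib.Helper65_BSW_A2.phi_isGeneralizedCharacter lam
  have hcf : ∀ lam : IrrCharacter ↥K, IsClassFunction G (phi K lam) :=
    fun lam => Cfsg.Agent.Lib.Helper65_BSW_A2.phi_isClassFunction lam
  rw [Cfsg.Agent.Lib.Helper77_BSWBridge1.phi_eq_sum hgen hcf lam g]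
  refine Finset.sum_congr rfl (fun χ _ => ?_)
  rw [← C.ha, Cfsg.Agent.Lib.Helper77_BSWBridge1.coef_spec' hgen]

theorem phi_nonreal (C : Coefs K ν a) (S : GenShape K ν a ε Z W c d bc bd)
    {lam : IrrCharacter ↥K} (hlam : lam ∈ nonreal K ν) (g : G) :
    phi K lam g = 1 + (ε : ℂ) * ((Z : G → ℂ) g - (W lam : G → ℂ) g) := by
  have hl := mem_nonreal.mp hlam
  have hW := S.hW lam hl.1 hl.2
  rw [phi_expand C lam g]
  have hsub : ∑ χ ∈ ({oneIrr G, Z, W lam} : Finset (IrrCharacter G)),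
      (a lam χ : ℂ) * (χ : G → ℂ) g = ∑ χ : IrrCharacter G, (a lam χ : ℂ) * (χ : G → ℂ) g := by
    apply Finset.sum_subset (Finset.subset_univ _)
    intro χ _ hχ
    simp only [Finset.mem_insert, Finset.mem_singleton, not_or] at hχ
    rw [S.a_other lam hl.1 hl.2 χ hχ.1 hχ.2.1 hχ.2.2]
    simp
  rw [← hsub, Finset.sum_insert, Finset.sum_pair hW.2.1.symm, S.a_one lam hl.1, S.a_Z lam hl.1,
    S.a_W lam hl.1 hl.2]
  · have : ((oneIrr G : IrrCharacter G) : G → ℂ) g = 1 := rfl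
    rw [this]
    push_cast
    ring
  · simp only [Finset.mem_insert, Finset.mem_singleton, not_or]
    exact ⟨S.hZ1.symm, hW.1.symm⟩

theorem phi_nu (C : Coefs K ν a) (S : GenShape K ν a ε Z W c d bc bd) (g : G) :
    phi K ν g = 1 + (ε : ℂ) * (Z : G → ℂ) g + (bc : ℂ) * (c : G → ℂ) g +
      (bd : ℂ) * (d : G → ℂ) g := by
  rw [phi_expand C ν g]
  have hsub : ∑ χ ∈ ({oneIrr G, Z, c, d} : Finset (IrrCharacter G)),
      (a ν χ : ℂ) * (χ : G → ℂ) g = ∑ χ : IrrCharacter G, (a ν χ : ℂ) * (χ : G → ℂ) g := by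
    apply Finset.sum_subset (Finset.subset_univ _)
    intro χ _ hχ
    simp only [Finset.mem_insert, Finset.mem_singleton, not_or] at hχ
    rw [S.a_ν_other χ hχ.1 hχ.2.1 hχ.2.2.1 hχ.2.2.2]
    simp
  rw [← hsub, Finset.sum_insert, Finset.sum_insert, Finset.sum_pair S.hcd, S.a_one ν C.hν1,
    S.a_Z ν C.hν1, S.a_c, S.a_d]
  · have : ((oneIrr G : IrrCharacter G) : G → ℂ) g = 1 := rfl
    rw [this]
    push_cast
    ring
  · simp only [Finset.mem_insert, Finset.mem_singleton, not_or]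
    exact ⟨S.hcZ.symm, S.hdZ.symm⟩
  · simp only [Finset.mem_insert, Finset.mem_singleton, not_or]
    exact ⟨S.hZ1.symm, S.hc1.symm, S.hd1.symm⟩

end

end Cfsg.Agent.Lib.Helper21_BSW_GenCommon
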