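import Mathlib
import Cfsg.Prelude.Def_Characters
import Cfsg.Agent.Lib.Helper80_CharBasic
import Cfsg.Agent.Lib.Helper75_CharArith

set_option autoImplicit false

/-!
Package A7 of S3282 (architect helper77): restriction congruence. If an irreducible character `χ`
of degree `n` takes the constant integer value `e` on `H ∖ 1`, then `|H|` divides `n - e`.
-/

open Cfsg
open scoped ComplexConjugate

namespace Cfsg.Agent.Lib.Helper8_BSW_A7

open Cfsg.Agent.Lib.Helper80_CharBasic

theorem restrict_cong {G : Type*} [Group G] [Fintype G] (H : Subgroup G) (χ : IrrCharacter G)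
    (e : ℤ) (n : ℕ) (h1 : (χ : G → ℂ) 1 = n)
    (hval : ∀ x ∈ H, x ≠ 1 → (χ : G → ℂ) x = (e : ℂ)) : (Nat.card H : ℤ) ∣ (n : ℤ) - e := by
  classical
  have hχ : Cfsg.IsCharacter H (fun h : H => (χ : G → ℂ) h) :=
    Cfsg.Agent.Lib.Helper75_CharArith.isCharacter_restrict H
      (Cfsg.Agent.Lib.Helper3_CharBridge.isCharacter_of_isIrrCharacter χ.2)
  have hone : Cfsg.IsCharacter H (fun _ : H => (1 : ℂ)) :=
    Cfsg.Agent.Lib.Helper3_CharBridge.isCharacter_of_isIrrCharacter (isIrrCharacter_one H)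
  obtain ⟨m, hm⟩ := Cfsg.Agent.Lib.Helper75_CharArith.classInner_isCharacter_nat hχ hone
  unfold Cfsg.classInner at hm
  have hterm : ∀ h : H, (χ : G → ℂ) h * conj (1 : ℂ)
      = (e : ℂ) + (if h = 1 then ((n : ℂ) - (e : ℂ)) else 0) := by
    intro h
    rw [map_one, mul_one]
    by_cases hh : h = 1
    · rw [if_pos hh, hh, Subgroup.coe_one, h1]
      ring
    · rw [if_neg hh, add_zero]
      apply hval _ h.2
      intro h0
      exact hh (Subtype.ext h0)
  have hsum : ∑ h : H, (χ : G → ℂ) h * conj (1 : ℂ)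
      = (Nat.card H : ℂ) * (e : ℂ) + ((n : ℂ) - (e : ℂ)) := by
    rw [Finset.sum_congr rfl (fun h _ => hterm h), Finset.sum_add_distrib, Finset.sum_const,
      Finset.sum_ite_eq' Finset.univ (1 : H), if_pos (Finset.mem_univ _), Finset.card_univ,
      nsmul_eq_mul, Nat.card_eq_fintype_card]
  rw [hsum] at hm
  have hH0 : (Nat.card H : ℂ) ≠ 0 := by
    rw [Nat.card_eq_fintype_card]
    exact_mod_cast Fintype.card_ne_zero
  have h2 : (Nat.card H : ℂ) * (e : ℂ) + ((n : ℂ) - (e : ℂ)) = (Nat.card H : ℂ) * (m : ℂ) := by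
    rw [← hm, ← mul_assoc, mul_inv_cancel₀ hH0, one_mul]
  have h3 : (Nat.card H : ℤ) * e + ((n : ℤ) - e) = (Nat.card H : ℤ) * (m : ℤ) := by
    exact_mod_cast h2
  refine ⟨(m : ℤ) - e, ?_⟩
  linarith

end Cfsg.Agent.Lib.Helper8_BSW_A7
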