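import Mathlib
import Cfsg.Agent.Lib.Helper21_BSW_GenCommon
import Cfsg.Agent.Lib.Helper8_BSW_A0
import Cfsg.Agent.Lib.Helper8_BSW_A7
import Cfsg.Agent.Lib.Helper75_BSW_INV
import Cfsg.Agent.Lib.Helper9_BSW_ARITH

/-!
# S3282 package GEN2 (helper21): the arithmetic of the generic shape
-/

set_option autoImplicit false
open Cfsg
open scoped ComplexConjugate

namespace Cfsg.Agent.Lib.Helper21_BSW_GEN2

open Cfsg.Agent.Lib.Helper77_BSWDefs Cfsg.Agent.Lib.Helper77_BSWDefs2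
  Cfsg.Agent.Lib.Helper80_CharBasic Cfsg.Agent.Lib.Helper3_CharComplete
  Cfsg.Agent.Lib.Helper21_BSW_GenCommon

theorem charDegree_pos {G : Type*} [Group G] [Finite G] (χ : IrrCharacter G) :
    0 < charDegree (χ : G → ℂ) := by
  obtain ⟨n, hn, h1⟩ := irr_apply_one χ
  have h2 := Cfsg.Agent.Lib.Helper77_BlockBasics.apply_one_eq_charDegree χ
  rw [h1] at h2
  have : n = charDegree (χ : G → ℂ) := by exact_mod_cast h2
  omega

theorem sq_of_pm {x : ℂ} (h : x = 1 ∨ x = -1) : x ^ 2 = 1 := by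
  rcases h with rfl | rfl <;> norm_num

theorem conj_of_pm {x : ℂ} (h : x = 1 ∨ x = -1) : conj x = x := by
  rcases h with rfl | rfl <;> simp

section

variable {G : Type*} [Group G] [Fintype G] {t s : G} {K : Subgroup G} [Fintype ↥K]
  {ν : IrrCharacter ↥K} {a : IrrCharacter ↥K → IrrCharacter G → ℤ} {ε : ℤ}
  {Z : IrrCharacter G} {W : IrrCharacter ↥K → IrrCharacter G} {c d : IrrCharacter G} {bc bd : ℤ}

/-- the degree of `W lam` -/
theorem deg_W (h : Setup t s K) (C : Coefs K ν a) (S : GenShape K ν a ε Z W c d bc bd)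
    {lam : IrrCharacter ↥K} (hlam : lam ∈ nonreal K ν) :
    (charDegree (W lam : G → ℂ) : ℤ) = (charDegree (Z : G → ℂ) : ℤ) + ε := by
  have h1 := phi_nonreal C S hlam 1
  rw [Cfsg.Agent.Lib.Helper65_BSW_A2.phi_one h.comm,
    Cfsg.Agent.Lib.Helper77_BlockBasics.apply_one_eq_charDegree Z,
    Cfsg.Agent.Lib.Helper77_BlockBasics.apply_one_eq_charDegree (W lam)] at h1
  have h2 : (0 : ℤ) = 1 + ε * ((charDegree (Z : G → ℂ) : ℤ) - (charDegree (W lam : G → ℂ) : ℤ)) := by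
    exact_mod_cast h1
  rcases S.hε with rfl | rfl <;> omega

theorem deg_nu (h : Setup t s K) (C : Coefs K ν a) (S : GenShape K ν a ε Z W c d bc bd) :
    1 + ε * (charDegree (Z : G → ℂ) : ℤ) + bc * (charDegree (c : G → ℂ) : ℤ) +
      bd * (charDegree (d : G → ℂ) : ℤ) = 0 := by
  have h1 := phi_nu C S 1
  rw [Cfsg.Agent.Lib.Helper65_BSW_A2.phi_one h.comm,
    Cfsg.Agent.Lib.Helper77_BlockBasics.apply_one_eq_charDegree Z,
    Cfsg.Agent.Lib.Helper77_BlockBasics.apply_one_eq_charDegree c,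
    Cfsg.Agent.Lib.Helper77_BlockBasics.apply_one_eq_charDegree d] at h1
  exact_mod_cast h1.symm

/-- the involution equation at `y ∈ K ∖ 1` -/
theorem invol_eq (h : Setup t s K) (hB : Basics t s K) (C : Coefs K ν a)
    (S : GenShape K ν a ε Z W c d bc bd) (V : GenVals K ν ε Z W c d bc bd)
    (y : G) (hy : y ∈ K) (hy1 : y ≠ 1) :
    (Nat.card K : ℂ) * (2 * (Nat.card K : ℂ)) ^ 2 = (Nat.card G : ℂ) *
      (1 + (ε : ℂ) / (charDegree (Z : G → ℂ) : ℂ) +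
        (-(bc : ℂ) * (ν : ↥K → ℂ) ⟨y, hy⟩) / (charDegree (c : G → ℂ) : ℂ) +
        (-(bd : ℂ) * (ν : ↥K → ℂ) ⟨y, hy⟩) / (charDegree (d : G → ℂ) : ℂ) +
        2 * (ε : ℂ) * (-1 - (ν : ↥K → ℂ) ⟨y, hy⟩) * 2 /
          ((charDegree (Z : G → ℂ) : ℂ) + (ε : ℂ))) := by
  have hcommK : ∀ a b : ↥K, a * b = b * a := fun a b => Subtype.ext (h.comm a a.2 b b.2)
  have ht1 : t ≠ 1 := by
    intro h1
    have := h.ht
    rw [h1, orderOf_one] at this
    omega
  have htKord : orderOf (⟨t, h.htK⟩ : ↥K) = 2 := by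
    rw [Subgroup.orderOf_mk]
    exact h.ht
  have hyK1 : (⟨y, hy⟩ : ↥K) ≠ 1 := by
    intro h1
    apply hy1
    exact congrArg Subtype.val h1
  have hε2 : (ε : ℂ) ^ 2 = 1 := by
    rcases S.hε with rfl | rfl <;> norm_num
  have hbc2 : (bc : ℂ) ^ 2 = 1 := by
    rcases S.hbc with rfl | rfl <;> norm_num
  have hbd2 : (bd : ℂ) ^ 2 = 1 := by
    rcases S.hbd with rfl | rfl <;> norm_num
  have hεr : conj (ε : ℂ) = (ε : ℂ) := map_intCast (starRingEnd ℂ) ε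
  have hbcr : conj (bc : ℂ) = (bc : ℂ) := map_intCast (starRingEnd ℂ) bc
  have hbdr : conj (bd : ℂ) = (bd : ℂ) := map_intCast (starRingEnd ℂ) bd
  have hνt := Cfsg.Agent.Lib.Helper9_BSW_A1.apply_invol hcommK ⟨t, h.htK⟩ htKord ν
  have hνy := Cfsg.Agent.Lib.Helper9_BSW_A1.real_values hcommK ν C.hνr ⟨y, hy⟩
  have hpc := Cfsg.Agent.Lib.Helper75_BSW_INV.pairCount_formula t h.ht
    (fun u hu => h.hconj u t hu h.ht) y
  rw [hB.pairCount_of_mem y hy hy1, hB.card_H] at hpc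
  push_cast at hpc
  rw [hpc]
  congr 1
  -- the sum
  rw [sum_split_gen S]
  · -- the five contributions
    have e1 : ((oneIrr G : IrrCharacter G) : G → ℂ) t ^ 2 *
        conj (((oneIrr G : IrrCharacter G) : G → ℂ) y) /
        ((oneIrr G : IrrCharacter G) : G → ℂ) 1 = 1 := by
      simp [oneIrr]
    have e2 : (Z : G → ℂ) t ^ 2 * conj ((Z : G → ℂ) y) / (Z : G → ℂ) 1 =
        (ε : ℂ) / (charDegree (Z : G → ℂ) : ℂ) := by
      rw [V.Z_K t h.htK ht1, V.Z_K y hy hy1, hεr, hε2, one_mul,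
        Cfsg.Agent.Lib.Helper77_BlockBasics.apply_one_eq_charDegree Z]
    have e3 : (c : G → ℂ) t ^ 2 * conj ((c : G → ℂ) y) / (c : G → ℂ) 1 =
        (-(bc : ℂ) * (ν : ↥K → ℂ) ⟨y, hy⟩) / (charDegree (c : G → ℂ) : ℂ) := by
      rw [V.c_K t h.htK ht1, V.c_K y hy hy1, map_mul, map_neg, hbcr, conj_of_pm hνy,
        Cfsg.Agent.Lib.Helper77_BlockBasics.apply_one_eq_charDegree c]
      have : (-(bc : ℂ) * (ν : ↥K → ℂ) ⟨t, h.htK⟩) ^ 2 = 1 := by
        rw [mul_pow, neg_sq, hbc2, sq_of_pm hνt, one_mul]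
      rw [this, one_mul]
    have e4 : (d : G → ℂ) t ^ 2 * conj ((d : G → ℂ) y) / (d : G → ℂ) 1 =
        (-(bd : ℂ) * (ν : ↥K → ℂ) ⟨y, hy⟩) / (charDegree (d : G → ℂ) : ℂ) := by
      rw [V.d_K t h.htK ht1, V.d_K y hy hy1, map_mul, map_neg, hbdr, conj_of_pm hνy,
        Cfsg.Agent.Lib.Helper77_BlockBasics.apply_one_eq_charDegree d]
      have : (-(bd : ℂ) * (ν : ↥K → ℂ) ⟨t, h.htK⟩) ^ 2 = 1 := by
        rw [mul_pow, neg_sq, hbd2, sq_of_pm hνt, one_mul]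
      rw [this, one_mul]
    have hFW : ∀ lam ∈ nonreal K ν,
        (W lam : G → ℂ) t ^ 2 * conj ((W lam : G → ℂ) y) / (W lam : G → ℂ) 1 =
        (4 * (ε : ℂ)) * ((lam : ↥K → ℂ) ⟨y, hy⟩ + conj ((lam : ↥K → ℂ) ⟨y, hy⟩)) /
          ((charDegree (Z : G → ℂ) : ℂ) + (ε : ℂ)) := by
      intro lam hlam
      have hl := mem_nonreal.mp hlam
      have hlt := Cfsg.Agent.Lib.Helper9_BSW_A1.apply_invol hcommK ⟨t, h.htK⟩ htKord lam
      rw [V.W_K lam hl.1 hl.2 t h.htK ht1, V.W_K lam hl.1 hl.2 y hy hy1,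
        Cfsg.Agent.Lib.Helper77_BlockBasics.apply_one_eq_charDegree (W lam)]
      have hdeg : ((charDegree (W lam : G → ℂ) : ℕ) : ℂ) =
          (charDegree (Z : G → ℂ) : ℂ) + (ε : ℂ) := by
        have := deg_W h C S hlam
        exact_mod_cast this
      rw [hdeg, conj_of_pm hlt, map_mul, map_add, hεr, Complex.conj_conj]
      have : ((ε : ℂ) * ((lam : ↥K → ℂ) ⟨t, h.htK⟩ + (lam : ↥K → ℂ) ⟨t, h.htK⟩)) ^ 2 = 4 := by
        rw [mul_pow, hε2, one_mul, ← two_mul, mul_pow, sq_of_pm hlt]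
        norm_num
      rw [this]
      ring
    have hS := Cfsg.Agent.Lib.Helper9_BSW_A1.sum_nonreal hcommK ν C.hν1 hyK1
    have e5 : ∑ θ ∈ (nonreal K ν).image W,
        (θ : G → ℂ) t ^ 2 * conj ((θ : G → ℂ) y) / (θ : G → ℂ) 1 =
        2 * (ε : ℂ) * (-1 - (ν : ↥K → ℂ) ⟨y, hy⟩) * 2 /
          ((charDegree (Z : G → ℂ) : ℂ) + (ε : ℂ)) := by
      have h2 := sum_image_W C S
        (fun θ => (θ : G → ℂ) t ^ 2 * conj ((θ : G → ℂ) y) / (θ : G → ℂ) 1)
      beta_reduce at h2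
      rw [Finset.sum_congr rfl hFW, ← Finset.sum_div, ← Finset.mul_sum,
        Finset.sum_add_distrib, ← map_sum] at h2
      have hS' : ∑ lam ∈ nonreal K ν, (lam : ↥K → ℂ) ⟨y, hy⟩ = -1 - (ν : ↥K → ℂ) ⟨y, hy⟩ := hS
      rw [hS', map_sub, map_neg, map_one, conj_of_pm hνy] at h2
      linear_combination (-1 / 2 : ℂ) * h2
    rw [e1, e2, e3, e4, e5]
    ring
  · intro χ h1 h2 h3 h4 h5
    rw [V.other_K χ h1 h2 h3 h4 h5 t h.htK ht1]
    simp

theorem arith_of_gen (h : Setup t s K) (hB : Basics t s K) (hk : 4 ≤ Nat.card K)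
    (C : Coefs K ν a) (S : GenShape K ν a ε Z W c d bc bd)
    (V : GenVals K ν ε Z W c d bc bd) : GenArith K ν ε Z W c d bc bd := by
  have hcommK : ∀ a b : ↥K, a * b = b * a := fun a b => Subtype.ext (h.comm a a.2 b b.2)
  -- a non-real character exists
  have hcardIrr : Fintype.card (IrrCharacter ↥K) = Nat.card K := by
    rw [Cfsg.Agent.Lib.Helper75_CommChar.card_irr hcommK, Nat.card_eq_fintype_card]
  have hnr : (nonreal K ν).Nonempty := by
    rw [← Finset.card_pos]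
    have := card_nonreal C
    omega
  obtain ⟨lam₀, hlam₀⟩ := hnr
  have hdW := deg_W h C S hlam₀
  have hdν := deg_nu h C S
  -- elements with `ν = -1` and `ν = 1`
  obtain ⟨ym, hym⟩ := Cfsg.Agent.Lib.Helper9_BSW_A1.exists_neg hcommK ν C.hν1 C.hνr
  obtain ⟨yp, hyp1, hyp⟩ := Cfsg.Agent.Lib.Helper9_BSW_A1.exists_pos hcommK ν C.hνr
    (by rw [← Nat.card_eq_fintype_card]; exact hk)
  have hym1 : (ym : G) ≠ 1 := by
    intro h1
    have : ym = 1 := Subtype.ext h1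
    rw [this] at hym
    have h2 : (ν : ↥K → ℂ) 1 = 1 := Cfsg.Agent.Lib.Helper75_CommChar.irr_one hcommK ν
    rw [h2] at hym
    norm_num at hym
  have hyp1' : (yp : G) ≠ 1 := fun h1 => hyp1 (Subtype.ext h1)
  have hEm := invol_eq h hB C S V ym ym.2 hym1
  have hEp := invol_eq h hB C S V yp yp.2 hyp1'
  rw [Subtype.coe_eta, hym] at hEm
  rw [Subtype.coe_eta, hyp] at hEp
  set k := Nat.card K with hkdef
  set z := charDegree (Z : G → ℂ) with hz
  set w := charDegree (W lam₀ : G → ℂ) with hw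
  set c₁ := charDegree (c : G → ℂ) with hc₁
  set d₁ := charDegree (d : G → ℂ) with hd₁
  have hz0 : 0 < z := charDegree_pos Z
  have hw0 : 0 < w := charDegree_pos (W lam₀)
  have hc0 : 0 < c₁ := charDegree_pos c
  have hd0 : 0 < d₁ := charDegree_pos d
  have hg0 : 0 < Nat.card G := Nat.card_pos
  have hwC : (w : ℂ) = (z : ℂ) + (ε : ℂ) := by exact_mod_cast hdW
  have hzC : (z : ℂ) ≠ 0 := by exact_mod_cast hz0.ne'
  have hwC0 : (z : ℂ) + (ε : ℂ) ≠ 0 := by rw [← hwC]; exact_mod_cast hw0.ne'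
  have hcC : (c₁ : ℂ) ≠ 0 := by exact_mod_cast hc0.ne'
  have hdC : (d₁ : ℂ) ≠ 0 := by exact_mod_cast hd0.ne'
  have hgC : (Nat.card G : ℂ) ≠ 0 := by exact_mod_cast hg0.ne'
  have hdeg1 : 1 + ε * ((z : ℤ) - w) = 0 := by
    rw [hdW]
    have : ε * ε = 1 := by rcases S.hε with rfl | rfl <;> norm_num
    linear_combination -this
  have hEmQ : (1 : ℚ) + ε / z + (bc / c₁ + bd / d₁) = 4 * (k : ℚ) ^ 3 / (Nat.card G : ℕ) := by
    have hC : (((1 : ℚ) + ε / z + (bc / c₁ + bd / d₁) : ℚ) : ℂ) =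
        ((4 * (k : ℚ) ^ 3 / (Nat.card G : ℕ) : ℚ) : ℂ) := by
      push_cast
      rw [eq_div_iff hgC]
      linear_combination (-1 : ℂ) * hEm
    exact_mod_cast hC
  have hEpQ : (1 : ℚ) + ε / z - 8 * ε / w - (bc / c₁ + bd / d₁) =
      4 * (k : ℚ) ^ 3 / (Nat.card G : ℕ) := by
    have hC : (((1 : ℚ) + ε / z - 8 * ε / w - (bc / c₁ + bd / d₁) : ℚ) : ℂ) =
        ((4 * (k : ℚ) ^ 3 / (Nat.card G : ℕ) : ℚ) : ℂ) := by
      push_cast
      rw [eq_div_iff hgC, hwC]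
      linear_combination (-1 : ℂ) * hEp
    exact_mod_cast hC
  have hcong : (2 * k : ℤ) ∣ (z : ℤ) - ε := by
    have := Cfsg.Agent.Lib.Helper8_BSW_A7.restrict_cong (Subgroup.centralizer ({t} : Set G)) Z ε z
      (Cfsg.Agent.Lib.Helper77_BlockBasics.apply_one_eq_charDegree Z) (by
        intro x hx hx1
        obtain ⟨u, hu⟩ := hB.conjInto_of_mem_H x hx
        have h1 : u⁻¹ * x * u ≠ 1 := by
          intro h1
          apply hx1
          have : x = u * (u⁻¹ * x * u) * u⁻¹ := by group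
          rw [this, h1]
          group
        have h2 := V.Z_K _ hu h1
        have h3 := irr_conj Z x u⁻¹
        rw [inv_inv] at h3
        rw [← h3, h2])
    rw [hB.card_H] at this
    exact_mod_cast this
  have hdiv : 2 * k ∣ Nat.card G := by
    have := Subgroup.card_subgroup_dvd_card (Subgroup.centralizer ({t} : Set G))
    rwa [hB.card_H] at this
  obtain ⟨r1, r2, r3, r4, r5, r6⟩ := Cfsg.Agent.Lib.Helper9_BSW_ARITH.arith_gen k (Nat.card G) z w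
    c₁ d₁ ε bc bd (by omega) hg0 hz0 hw0 hc0 hd0 S.hε S.hbc S.hbd hdeg1 hdν hEmQ hEpQ hcong hdiv
  refine ⟨r1, ?_, r3, r4, ?_, ?_, ?_⟩
  · rw [r2]
    push_cast
    rw [hdW]
  · rw [← hdW]
    exact_mod_cast r5
  · rw [← hdW]
    exact_mod_cast r6
  · intro lam h1 h2
    exact deg_W h C S (mem_nonreal.mpr ⟨h1, h2⟩)

end

end Cfsg.Agent.Lib.Helper21_BSW_GEN2
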