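import Mathlib
import Cfsg.Agent.Lib.Helper21_BSW_GenCommon
import Cfsg.Agent.Lib.Helper21_BSW_GEN2

/-!
# S3282 package GEN3 (helper21): `CharData` in the generic shape
-/

set_option autoImplicit false
open Cfsg
open scoped ComplexConjugate

namespace Cfsg.Agent.Lib.Helper21_BSW_GEN3

open Cfsg.Agent.Lib.Helper77_BSWDefs Cfsg.Agent.Lib.Helper77_BSWDefs2
  Cfsg.Agent.Lib.Helper80_CharBasic Cfsg.Agent.Lib.Helper3_CharComplete
  Cfsg.Agent.Lib.Helper21_BSW_GenCommon Cfsg.Agent.Lib.Helper21_BSW_GEN2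

theorem exists_conj_mem {G : Type*} [Group G] {K : Subgroup G} {g : G} (hg : ConjInto K g)
    (hg1 : g ≠ 1) :
    ∃ y : G, ∃ _ : y ∈ K, y ≠ 1 ∧ ∀ χ : IrrCharacter G, (χ : G → ℂ) g = (χ : G → ℂ) y := by
  obtain ⟨x, hx⟩ := hg
  refine ⟨x⁻¹ * g * x, hx, ?_, ?_⟩
  · intro h1
    apply hg1
    have : g = x * (x⁻¹ * g * x) * x⁻¹ := by group
    rw [this, h1]
    group
  · intro χ
    have h3 := irr_conj χ g x⁻¹
    rw [inv_inv] at h3
    exact h3.symm

theorem pm_mul_pm {x y : ℂ} (hx : x = 1 ∨ x = -1) (hy : y = 1 ∨ y = -1) :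
    -x * y = 1 ∨ -x * y = -1 := by
  rcases hx with rfl | rfl <;> rcases hy with rfl | rfl <;> norm_num

section

variable {G : Type*} [Group G] [Fintype G] {t s : G} {K : Subgroup G} [Fintype ↥K]
  {ν : IrrCharacter ↥K} {a : IrrCharacter ↥K → IrrCharacter G → ℤ} {ε : ℤ}
  {Z : IrrCharacter G} {W : IrrCharacter ↥K → IrrCharacter G} {c d : IrrCharacter G} {bc bd : ℤ}

theorem charData_gen (h : Setup t s K) (hB : Basics t s K) (hk : 4 ≤ Nat.card K)
    (C : Coefs K ν a) (S : GenShape K ν a ε Z W c d bc bd)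
    (V : GenVals K ν ε Z W c d bc bd) (A : GenArith K ν ε Z W c d bc bd) :
    ∃ Θ : Finset (IrrCharacter G), CharData t K ε (charDegree (Z : G → ℂ)) Z c d Θ := by
  have hcommK : ∀ a b : ↥K, a * b = b * a := fun a b => Subtype.ext (h.comm a a.2 b b.2)
  have ht1 : t ≠ 1 := by
    intro h1
    have := h.ht
    rw [h1, orderOf_one] at this
    omega
  have htKord : orderOf (⟨t, h.htK⟩ : ↥K) = 2 := by
    rw [Subgroup.orderOf_mk]
    exact h.ht
  have hε2 : (ε : ℂ) ^ 2 = 1 := by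
    rcases S.hε with rfl | rfl <;> norm_num
  have hεε : (ε : ℂ) * (ε : ℂ) = 1 := by rw [← sq]; exact hε2
  have hbcC : (bc : ℂ) = -(ε : ℂ) := by rw [A.bc_eq]; push_cast; ring
  have hbdC : (bd : ℂ) = -(ε : ℂ) := by rw [A.bd_eq]; push_cast; ring
  have hεpm : (ε : ℂ) = 1 ∨ (ε : ℂ) = -1 := by
    rcases S.hε with rfl | rfl
    · left; norm_num
    · right; norm_num
  have hbcpm : (bc : ℂ) = 1 ∨ (bc : ℂ) = -1 := by
    rcases S.hbc with rfl | rfl
    · left; norm_num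
    · right; norm_num
  set Θ := (nonreal K ν).image W with hΘ
  have hΘmem : ∀ χ, χ ∈ Θ ↔ ∃ lam, lam ∈ nonreal K ν ∧ W lam = χ := by
    intro χ
    rw [hΘ, Finset.mem_image]
  refine ⟨Θ, ?_⟩
  refine
    { hε := S.hε
      hq := A.z_eq
      card_G := ?_
      St_one := Cfsg.Agent.Lib.Helper77_BlockBasics.apply_one_eq_charDegree Z
      St_K := ?_
      c_one := ?_
      d_one := ?_
      c_K := ?_
      d_K := ?_
      cd_off := ?_
      Θ_card := ?_
      Θ_one := ?_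
      Θ_t := ?_
      Θ_off := ?_
      St_ne_one := S.hZ1
      c_ne_one := S.hc1
      d_ne_one := S.hd1
      St_ne_c := S.hcZ.symm
      St_ne_d := S.hdZ.symm
      c_ne_d := S.hcd
      one_notMem := ?_
      St_notMem := ?_
      c_notMem := ?_
      d_notMem := ?_
      others := ?_ }
  · -- card_G
    have hz := A.z_eq
    have hG := A.card_G
    set z := charDegree (Z : G → ℂ) with hzdef
    set k := Nat.card K with hkdef
    rcases S.hε with rfl | rfl
    · have hz' : z = 2 * k + 1 := by omega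
      have hG' : Nat.card G = k * z * (z + 1) := by exact_mod_cast hG
      rw [hG', hz']
      have : 2 * k + 1 - 1 = 2 * k := by omega
      rw [this]
      ring
    · have hz' : z = 2 * k - 1 := by omega
      obtain ⟨j, hj⟩ : ∃ j, k = j + 2 := ⟨k - 2, by omega⟩
      have hz'' : z = 2 * j + 3 := by omega
      have hG' : (Nat.card G : ℤ) = ((k * z * (z - 1) : ℕ) : ℤ) := by
        rw [hG]
        push_cast [Nat.cast_sub (by omega : 1 ≤ z)]
        ring
      have hG'' : Nat.card G = k * z * (z - 1) := by exact_mod_cast hG'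
      rw [hG'', hz'', hj]
      have e1 : 2 * j + 3 - 1 = 2 * (j + 1) := by omega
      rw [e1]
      ring
  · -- St_K
    intro g hg hg1
    obtain ⟨y, hy, hy1, hχ⟩ := exists_conj_mem hg hg1
    rw [hχ Z, V.Z_K y hy hy1]
  · -- c_one
    have := A.c_deg
    have h2 : ((2 * (charDegree (c : G → ℂ) : ℤ) : ℤ) : ℂ) =
        (((charDegree (Z : G → ℂ) : ℤ) + ε : ℤ) : ℂ) := by rw [this]
    push_cast at h2
    rw [Cfsg.Agent.Lib.Helper77_BlockBasics.apply_one_eq_charDegree c]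
    exact h2
  · -- d_one
    have := A.d_deg
    have h2 : ((2 * (charDegree (d : G → ℂ) : ℤ) : ℤ) : ℂ) =
        (((charDegree (Z : G → ℂ) : ℤ) + ε : ℤ) : ℂ) := by rw [this]
    push_cast at h2
    rw [Cfsg.Agent.Lib.Helper77_BlockBasics.apply_one_eq_charDegree d]
    exact h2
  · -- c_K
    intro g hg hg1
    obtain ⟨y, hy, hy1, hχ⟩ := exists_conj_mem hg hg1
    rw [hχ c, V.c_K y hy hy1]
    exact pm_mul_pm hbcpm
      (Cfsg.Agent.Lib.Helper9_BSW_A1.real_values hcommK ν C.hνr ⟨y, hy⟩)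
  · -- d_K
    intro g hg hg1
    obtain ⟨y, hy, hy1, hχ⟩ := exists_conj_mem hg hg1
    rw [hχ c, hχ d, V.c_K y hy hy1, V.d_K y hy hy1, hbcC, hbdC]
  · -- cd_off
    intro g hg
    have h1 := phi_nu C S g
    rw [Cfsg.Agent.Lib.Helper65_BSW_A2.phi_apply_of_not_conjInto ν hg, hbcC, hbdC] at h1
    linear_combination (ε : ℂ) * h1 + ((Z : G → ℂ) g - (c : G → ℂ) g - (d : G → ℂ) g) * hεε
  · -- Θ_card
    have := card_image_W C S
    rw [Cfsg.Agent.Lib.Helper75_CommChar.card_irr hcommK, ← Nat.card_eq_fintype_card] at this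
    exact this
  · -- Θ_one
    intro θ hθ
    obtain ⟨lam, hlam, rfl⟩ := (hΘmem θ).mp hθ
    have hl := mem_nonreal.mp hlam
    have := A.W_deg lam hl.1 hl.2
    have h2 : (((charDegree (W lam : G → ℂ) : ℤ) : ℤ) : ℂ) =
        (((charDegree (Z : G → ℂ) : ℤ) + ε : ℤ) : ℂ) := by rw [this]
    push_cast at h2
    rw [Cfsg.Agent.Lib.Helper77_BlockBasics.apply_one_eq_charDegree (W lam)]
    exact h2
  · -- Θ_t
    intro θ hθ
    obtain ⟨lam, hlam, rfl⟩ := (hΘmem θ).mp hθ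
    have hl := mem_nonreal.mp hlam
    have hlt := Cfsg.Agent.Lib.Helper9_BSW_A1.apply_invol hcommK ⟨t, h.htK⟩ htKord lam
    rw [V.W_K lam hl.1 hl.2 t h.htK ht1, conj_of_pm hlt, mul_pow, hε2, one_mul, ← two_mul,
      mul_pow, sq_of_pm hlt]
    norm_num
  · -- Θ_off
    intro θ hθ g hg
    obtain ⟨lam, hlam, rfl⟩ := (hΘmem θ).mp hθ
    have h1 := phi_nonreal C S hlam g
    rw [Cfsg.Agent.Lib.Helper65_BSW_A2.phi_apply_of_not_conjInto lam hg] at h1
    linear_combination (ε : ℂ) * h1 + ((Z : G → ℂ) g - (W lam : G → ℂ) g) * hεε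
  · -- one_notMem
    intro hmem
    obtain ⟨lam, hlam, h1⟩ := (hΘmem _).mp hmem
    have hl := mem_nonreal.mp hlam
    exact (S.hW lam hl.1 hl.2).1 h1
  · intro hmem
    obtain ⟨lam, hlam, h1⟩ := (hΘmem _).mp hmem
    have hl := mem_nonreal.mp hlam
    exact (S.hW lam hl.1 hl.2).2.1 h1
  · intro hmem
    obtain ⟨lam, hlam, h1⟩ := (hΘmem _).mp hmem
    have hl := mem_nonreal.mp hlam
    exact (S.hW lam hl.1 hl.2).2.2.1 h1
  · intro hmem
    obtain ⟨lam, hlam, h1⟩ := (hΘmem _).mp hmem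
    have hl := mem_nonreal.mp hlam
    exact (S.hW lam hl.1 hl.2).2.2.2 h1
  · -- others
    intro χ h1 h2 h3 h4 h5 g hg hg1
    obtain ⟨y, hy, hy1, hχ⟩ := exists_conj_mem hg hg1
    rw [hχ χ]
    apply V.other_K χ h1 h2 h3 h4 ?_ y hy hy1
    intro lam hl1 hl2 h6
    apply h5
    rw [hΘmem]
    exact ⟨lam, mem_nonreal.mpr ⟨hl1, hl2⟩, h6.symm⟩

end

end Cfsg.Agent.Lib.Helper21_BSW_GEN3
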