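import Mathlib
import Cfsg.Agent.Lib.Helper77_BSWDefs2
import Cfsg.Agent.Lib.Helper77_BSWBridge1
import Cfsg.Agent.Lib.Helper65_BSW_A2
import Cfsg.Agent.Lib.Helper11_BSW_A4
import Cfsg.Agent.Lib.Helper9_BSW_A1
import Cfsg.Agent.Lib.Helper9_BSW_ARITH
import Cfsg.Agent.Lib.Helper75_BSW_INV
import Cfsg.Agent.Lib.Helper8_BSW_A7

/-!
# S3282 second-wave package TWO (helper55): the case `|K| = 2`

`K = {1, t}`, `Irr K = {1, ν}`; `phi K ν = 1 + b₀ χ₀ + b₁ χ₁ + b₂ χ₂`, `χ(t) = (χ, phi K ν)`; the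
arithmetic (`ARITH.arith_two`) gives `|G| = 12` or `60` and the `CharData`.
-/

set_option autoImplicit false
set_option linter.unusedSectionVars false
open Cfsg
open scoped ComplexConjugate

namespace Cfsg.Agent.Lib.Helper55_BSW_TWO

open Cfsg.Agent.Lib.Helper77_BSWDefs Cfsg.Agent.Lib.Helper77_BSWDefs2
  Cfsg.Agent.Lib.Helper80_CharBasic Cfsg.Agent.Lib.Helper3_CharComplete
  Cfsg.Agent.Lib.Helper77_BSWBridge1

/-! ### Combinatorics -/

/-- An integer vector of norm `4` with an entry `1` has exactly three more non-zero entries, all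
`± 1`. -/
theorem norm_three {ι : Type*} [Fintype ι] [DecidableEq ι] (a : ι → ℤ) (i₀ : ι)
    (h1 : a i₀ = 1) (hs : ∑ i, a i * a i = 4) :
    ∃ x y z : ι, x ≠ i₀ ∧ y ≠ i₀ ∧ z ≠ i₀ ∧ x ≠ y ∧ x ≠ z ∧ y ≠ z ∧
      (a x = 1 ∨ a x = -1) ∧ (a y = 1 ∨ a y = -1) ∧ (a z = 1 ∨ a z = -1) ∧
      ∀ i, i ≠ i₀ → i ≠ x → i ≠ y → i ≠ z → a i = 0 := by
  classical
  obtain ⟨S, hS⟩ : ∃ S : Finset ι, S = Finset.univ.filter (fun i => i ≠ i₀ ∧ a i ≠ 0) := ⟨_, rfl⟩
  have hmem : ∀ i, i ∈ S ↔ i ≠ i₀ ∧ a i ≠ 0 := by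
    intro i; rw [hS]; simp
  have hsum : ∑ i ∈ S, a i * a i = 3 := by
    have h2 := Finset.add_sum_erase Finset.univ (fun i => a i * a i) (Finset.mem_univ i₀)
    have h3 : ∑ i ∈ Finset.univ.erase i₀, a i * a i = ∑ i ∈ S, a i * a i := by
      symm
      apply Finset.sum_subset
      · intro i hi
        rw [Finset.mem_erase]
        exact ⟨((hmem i).mp hi).1, Finset.mem_univ _⟩
      · intro i hi hnot
        rw [Finset.mem_erase] at hi
        rw [hmem] at hnot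
        have : a i = 0 := by
          by_contra hne
          exact hnot ⟨hi.1, hne⟩
        rw [this, mul_zero]
    rw [h3, h1, hs] at h2
    linarith
  have hone : ∀ i ∈ S, a i * a i = 1 := by
    intro i hi
    by_contra hne
    have hne0 : a i ≠ 0 := ((hmem i).mp hi).2
    have hge : 4 ≤ a i * a i := by
      rcases lt_trichotomy (a i) 0 with hlt | heq | hgt
      · have : a i ≤ -2 := by
          by_contra hh
          push Not at hh
          have : a i = -1 := by omega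
          apply hne; rw [this]; norm_num
        nlinarith
      · exact absurd heq hne0
      · have : 2 ≤ a i := by
          by_contra hh
          push Not at hh
          have : a i = 1 := by omega
          apply hne; rw [this]; norm_num
        nlinarith
    have hle : a i * a i ≤ ∑ j ∈ S, a j * a j :=
      Finset.single_le_sum (f := fun j => a j * a j) (fun j _ => mul_self_nonneg (a j)) hi
    rw [hsum] at hle
    omega
  have hpm : ∀ i ∈ S, a i = 1 ∨ a i = -1 := by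
    intro i hi
    have h2 : (a i - 1) * (a i + 1) = 0 := by linear_combination hone i hi
    rcases mul_eq_zero.mp h2 with h3 | h3
    · left; omega
    · right; omega
  have hcard : S.card = 3 := by
    have h2 : ∑ i ∈ S, a i * a i = ∑ _i ∈ S, (1 : ℤ) := Finset.sum_congr rfl hone
    rw [hsum, Finset.sum_const, nsmul_eq_mul, mul_one] at h2
    exact_mod_cast h2.symm
  obtain ⟨x, y, z, hxy, hxz, hyz, hSeq⟩ := Finset.card_eq_three.mp hcard
  have hx : x ∈ S := by rw [hSeq]; simp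
  have hy : y ∈ S := by rw [hSeq]; simp
  have hz : z ∈ S := by rw [hSeq]; simp
  refine ⟨x, y, z, ((hmem x).mp hx).1, ((hmem y).mp hy).1, ((hmem z).mp hz).1, hxy, hxz, hyz,
    hpm x hx, hpm y hy, hpm z hz, ?_⟩
  intro i hi0 hix hiy hiz
  by_contra hne
  have hiS : i ∈ S := (hmem i).mpr ⟨hi0, hne⟩
  rw [hSeq] at hiS
  simp only [Finset.mem_insert, Finset.mem_singleton] at hiS
  rcases hiS with h | h | h
  · exact hix h
  · exact hiy h
  · exact hiz h

/-- A sum with at most four non-zero terms. -/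
theorem sum_four {ι : Type*} [Fintype ι] [DecidableEq ι] {M : Type*} [AddCommMonoid M]
    (f : ι → M) (i₀ x y z : ι) (hx0 : x ≠ i₀) (hy0 : y ≠ i₀) (hz0 : z ≠ i₀) (hxy : x ≠ y)
    (hxz : x ≠ z) (hyz : y ≠ z)
    (h0 : ∀ i, i ≠ i₀ → i ≠ x → i ≠ y → i ≠ z → f i = 0) :
    ∑ i, f i = f i₀ + (f x + (f y + f z)) := by
  have h1 : ∑ i ∈ ({i₀, x, y, z} : Finset ι), f i = ∑ i, f i := by
    apply Finset.sum_subset (Finset.subset_univ _)
    intro i _ hi
    simp only [Finset.mem_insert, Finset.mem_singleton, not_or] at hi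
    exact h0 i hi.1 hi.2.1 hi.2.2.1 hi.2.2.2
  rw [← h1, Finset.sum_insert, Finset.sum_insert, Finset.sum_insert, Finset.sum_singleton]
  · simp only [Finset.mem_singleton]; exact hyz
  · simp only [Finset.mem_insert, Finset.mem_singleton, not_or]; exact ⟨hxy, hxz⟩
  · simp only [Finset.mem_insert, Finset.mem_singleton, not_or]
    exact ⟨hx0.symm, hy0.symm, hz0.symm⟩

/-! ### The group `K = {1, t}` and its characters -/

variable {G : Type*} [Group G] [Fintype G] {t s : G} {K : Subgroup G} [Fintype ↥K]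

theorem t_ne_one (h : Setup t s K) : t ≠ 1 := by
  intro h1
  have := h.ht
  rw [h1, orderOf_one] at this
  omega

theorem mem_K_cases (hB : Basics t s K) (hk : Nat.card K = 2) {y : G} (hy : y ∈ K) :
    y = 1 ∨ y = t := by
  have hd : orderOf y ∣ 2 := hk ▸ Subgroup.orderOf_dvd_natCard K hy
  rcases (Nat.dvd_prime Nat.prime_two).mp hd with h1 | h2
  · left; exact orderOf_eq_one_iff.mp h1
  · right; exact hB.eq_t_of_mem y hy h2

/-- Non-identity elements of `C(t)` are involutions. -/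
theorem orderOf_of_mem_H (h : Setup t s K) (hB : Basics t s K) (hk : Nat.card K = 2) {x : G}
    (hx : x ∈ Subgroup.centralizer ({t} : Set G)) (hx1 : x ≠ 1) : orderOf x = 2 := by
  rcases (hB.mem_H_iff x).mp hx with hxK | ⟨a, ha, rfl⟩
  · rcases mem_K_cases hB hk hxK with h1 | h1
    · exact absurd h1 hx1
    · rw [h1]; exact h.ht
  · exact hB.orderOf_mul_s a ha

/-- The non-trivial character of `K`. -/
theorem exists_nu (h : Setup t s K) (hB : Basics t s K) (hk : Nat.card K = 2) :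
    ∃ ν : IrrCharacter ↥K, ν ≠ oneIrr ↥K ∧ cj ν = ν ∧ (ν : ↥K → ℂ) ⟨t, h.htK⟩ = -1 ∧
      ∀ lam : IrrCharacter ↥K, lam = oneIrr ↥K ∨ lam = ν := by
  have hc : ∀ a b : ↥K, a * b = b * a := fun a b => Subtype.ext (h.comm a a.2 b b.2)
  have ht₀ : orderOf (⟨t, h.htK⟩ : ↥K) = 2 := by rw [Subgroup.orderOf_mk]; exact h.ht
  have huniq : ∀ y : ↥K, orderOf y = 2 → y = ⟨t, h.htK⟩ := by
    intro y hy
    apply Subtype.ext
    exact hB.eq_t_of_mem y y.2 (by rw [Subgroup.orderOf_coe]; exact hy)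
  have hcases : ∀ y : ↥K, y = 1 ∨ y = ⟨t, h.htK⟩ := by
    intro y
    rcases mem_K_cases hB hk y.2 with h1 | h1
    · left; exact Subtype.ext h1
    · right; exact Subtype.ext h1
  obtain ⟨ν, hν1, hνr, hνu⟩ := Cfsg.Agent.Lib.Helper9_BSW_A1.exists_nu hc ⟨t, h.htK⟩ ht₀ huniq
  refine ⟨ν, hν1, hνr, ?_, ?_⟩
  · obtain ⟨y, hy⟩ := Cfsg.Agent.Lib.Helper9_BSW_A1.exists_neg hc ν hν1 hνr
    rcases hcases y with h1 | h1
    · exfalso
      rw [h1, Cfsg.Agent.Lib.Helper75_CommChar.irr_one hc ν] at hy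
      norm_num at hy
    · rw [← h1]; exact hy
  · intro lam
    apply hνu
    rw [Cfsg.Agent.Lib.Helper9_BSW_A1.cj_eq_iff]
    intro y
    rcases hcases y with h1 | h1
    · rw [h1, Cfsg.Agent.Lib.Helper75_CommChar.irr_one hc lam, map_one]
    · rw [h1]
      rcases Cfsg.Agent.Lib.Helper9_BSW_A1.apply_invol hc ⟨t, h.htK⟩ ht₀ lam with h2 | h2
      · rw [h2, map_one]
      · rw [h2, map_neg, map_one]

/-- The value at `t` is the multiplicity in `phi K ν`. -/
theorem apply_t (h : Setup t s K) (ν : IrrCharacter ↥K) (hν1 : ν ≠ oneIrr ↥K)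
    (hνt : (ν : ↥K → ℂ) ⟨t, h.htK⟩ = -1)
    (hall : ∀ lam : IrrCharacter ↥K, lam = oneIrr ↥K ∨ lam = ν)
    (χ : G → ℂ) (hχ : IsClassFunction G χ) : χ t = classInner χ (phi K ν) := by
  classical
  have h1 := Cfsg.Agent.Lib.Helper11_BSW_A4.apply_of_mem h.comm χ hχ h.htK (t_ne_one h)
  have h2 : Finset.univ.erase (oneIrr ↥K) = {ν} := by
    ext lam
    simp only [Finset.mem_erase, Finset.mem_univ, and_true, Finset.mem_singleton]
    constructor
    · intro hl
      rcases hall lam with h3 | h3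
      · exact absurd h3 hl
      · exact h3
    · intro hl
      rw [hl]; exact hν1
  rw [h2, Finset.sum_singleton, hνt] at h1
  rw [h1]; ring

/-! ### The multiplicities in `phi K ν` -/

theorem hgen (K : Subgroup G) [Fintype ↥K] :
    ∀ lam : IrrCharacter ↥K, IsGeneralizedCharacter G (phi K lam) :=
  fun lam => Cfsg.Agent.Lib.Helper65_BSW_A2.phi_isGeneralizedCharacter lam

theorem hcf (K : Subgroup G) [Fintype ↥K] :
    ∀ lam : IrrCharacter ↥K, IsClassFunction G (phi K lam) :=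
  fun lam => Cfsg.Agent.Lib.Helper65_BSW_A2.phi_isClassFunction lam

/-- The multiplicity of `χ` in `phi K ν`. -/
noncomputable def mult (K : Subgroup G) [Fintype ↥K] (ν : IrrCharacter ↥K)
    (χ : IrrCharacter G) : ℤ :=
  coef (hgen K) ν χ

theorem mult_spec (h : Setup t s K) (ν : IrrCharacter ↥K) (hν1 : ν ≠ oneIrr ↥K)
    (hνt : (ν : ↥K → ℂ) ⟨t, h.htK⟩ = -1)
    (hall : ∀ lam : IrrCharacter ↥K, lam = oneIrr ↥K ∨ lam = ν) (χ : IrrCharacter G) :
    (χ : G → ℂ) t = (mult K ν χ : ℂ) := by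
  rw [apply_t h ν hν1 hνt hall (χ : G → ℂ)
    (Cfsg.Agent.Lib.Helper3_CharBridge.isClassFunction_of_isIrrCharacter χ.2)]
  exact coef_spec' (hgen K) ν χ

theorem mult_one (h : Setup t s K) (hB : Basics t s K) (ν : IrrCharacter ↥K)
    (hν1 : ν ≠ oneIrr ↥K) : mult K ν (oneIrr G) = 1 :=
  coef_one (hgen K) ν (Cfsg.Agent.Lib.Helper65_BSW_A2.classInner_phi_one h hB ν hν1)

theorem mult_sq_sum (h : Setup t s K) (hB : Basics t s K) (ν : IrrCharacter ↥K)
    (hν1 : ν ≠ oneIrr ↥K) (hνr : cj ν = ν) :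
    ∑ χ : IrrCharacter G, mult K ν χ * mult K ν χ = 4 := by
  have h1 := sum_coef_mul (hgen K) (hcf K) ν ν
  rw [Cfsg.Agent.Lib.Helper65_BSW_A2.classInner_phi_phi h hB ν ν hν1 hν1, if_pos rfl,
    if_pos hνr.symm] at h1
  have h2 : ((∑ χ : IrrCharacter G, mult K ν χ * mult K ν χ : ℤ) : ℂ) = ((4 : ℤ) : ℂ) := by
    unfold mult
    rw [h1]; norm_num
  exact_mod_cast h2

theorem mult_deg_sum (h : Setup t s K) (ν : IrrCharacter ↥K) :
    ∑ χ : IrrCharacter G, mult K ν χ * (charDegree (χ : G → ℂ) : ℤ) = 0 :=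
  sum_coef_deg (hgen K) (hcf K) ν (Cfsg.Agent.Lib.Helper65_BSW_A2.phi_one h.comm ν)

theorem phi_sum (ν : IrrCharacter ↥K) (g : G) :
    phi K ν g = ∑ χ : IrrCharacter G, (mult K ν χ : ℂ) * (χ : G → ℂ) g :=
  phi_eq_sum (hgen K) (hcf K) ν g

/-- Values on the non-identity elements conjugate into `K`. -/
theorem apply_conjInto (hB : Basics t s K) (hk : Nat.card K = 2) (χ : IrrCharacter G) {g : G}
    (hg : ConjInto K g) (hg1 : g ≠ 1) : (χ : G → ℂ) g = (χ : G → ℂ) t := by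
  obtain ⟨x, hx⟩ := hg
  have hcl := Cfsg.Agent.Lib.Helper3_CharBridge.isClassFunction_of_isIrrCharacter χ.2
  have h1 : x⁻¹ * g * x = t := by
    rcases mem_K_cases hB hk hx with h2 | h2
    · exfalso
      apply hg1
      have : g = x * (x⁻¹ * g * x) * x⁻¹ := by group
      rw [this, h2]; group
    · exact h2
  have h2 := hcl g x⁻¹
  rw [inv_inv, h1] at h2
  exact h2.symm

/-- Values on the non-identity elements of `C(t)`. -/
theorem apply_of_mem_H (h : Setup t s K) (hB : Basics t s K) (hk : Nat.card K = 2)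
    (χ : IrrCharacter G) {x : G} (hx : x ∈ Subgroup.centralizer ({t} : Set G)) (hx1 : x ≠ 1) :
    (χ : G → ℂ) x = (χ : G → ℂ) t := by
  have hcl := Cfsg.Agent.Lib.Helper3_CharBridge.isClassFunction_of_isIrrCharacter χ.2
  have ho := orderOf_of_mem_H h hB hk hx hx1
  obtain ⟨c, hc⟩ := isConj_iff.mp (h.hconj t x h.ht ho)
  rw [← hc]
  exact hcl t c

/-! ### The arithmetic hypotheses -/

theorem charDegree_oneIrr : charDegree ((oneIrr G : IrrCharacter G) : G → ℂ) = 1 := by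
  have h1 := Cfsg.Agent.Lib.Helper77_BlockBasics.apply_one_eq_charDegree (oneIrr G)
  have h2 : ((oneIrr G : IrrCharacter G) : G → ℂ) 1 = 1 := rfl
  rw [h2] at h1
  exact_mod_cast h1.symm

section arith

variable (h : Setup t s K) (hB : Basics t s K) (hk : Nat.card K = 2)
  (ν : IrrCharacter ↥K) (hν1 : ν ≠ oneIrr ↥K)
  (hνt : (ν : ↥K → ℂ) ⟨t, h.htK⟩ = -1)
  (hall : ∀ lam : IrrCharacter ↥K, lam = oneIrr ↥K ∨ lam = ν)
  (x y z : IrrCharacter G) (hx0 : x ≠ oneIrr G) (hy0 : y ≠ oneIrr G) (hz0 : z ≠ oneIrr G)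
  (hxy : x ≠ y) (hxz : x ≠ z) (hyz : y ≠ z)
  (hoth : ∀ χ : IrrCharacter G, χ ≠ oneIrr G → χ ≠ x → χ ≠ y → χ ≠ z → mult K ν χ = 0)

include h hB hν1 hx0 hy0 hz0 hxy hxz hyz hoth in
theorem deg_eq :
    1 + (mult K ν x * (charDegree (x : G → ℂ) : ℤ) + (mult K ν y * (charDegree (y : G → ℂ) : ℤ) +
      mult K ν z * (charDegree (z : G → ℂ) : ℤ))) = 0 := by
  classical
  have h1 := mult_deg_sum h ν (G := G)
  rw [sum_four (fun χ : IrrCharacter G => mult K ν χ * (charDegree (χ : G → ℂ) : ℤ))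
    (oneIrr G) x y z hx0 hy0 hz0 hxy hxz hyz
    (fun χ h0 h1 h2 h3 => by rw [hoth χ h0 h1 h2 h3, zero_mul])] at h1
  rw [mult_one h hB ν hν1, charDegree_oneIrr] at h1
  simpa using h1

include h hB hk hν1 hνt hall hx0 hy0 hz0 hxy hxz hyz hoth in
theorem inv_eq (hbx : mult K ν x = 1 ∨ mult K ν x = -1) (hby : mult K ν y = 1 ∨ mult K ν y = -1)
    (hbz : mult K ν z = 1 ∨ mult K ν z = -1) :
    ((1 : ℚ) + ((mult K ν x : ℚ) / (charDegree (x : G → ℂ) : ℚ) +
      ((mult K ν y : ℚ) / (charDegree (y : G → ℂ) : ℚ) +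
        (mult K ν z : ℚ) / (charDegree (z : G → ℂ) : ℚ)))) * (Nat.card G : ℚ) = 32 := by
  classical
  have hpc := Cfsg.Agent.Lib.Helper75_BSW_INV.pairCount_formula t h.ht
    (fun u hu => h.hconj u t hu h.ht) t
  rw [hB.pairCount_of_mem t h.htK (t_ne_one h), hB.card_H, hk] at hpc
  have hterm : ∀ χ : IrrCharacter G,
      ((χ : G → ℂ) t) ^ 2 * conj ((χ : G → ℂ) t) / (χ : G → ℂ) 1 =
        (mult K ν χ : ℂ) ^ 2 * (mult K ν χ : ℂ) / (charDegree (χ : G → ℂ) : ℂ) := by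
    intro χ
    rw [mult_spec h ν hν1 hνt hall χ,
      Cfsg.Agent.Lib.Helper77_BlockBasics.apply_one_eq_charDegree χ, map_intCast]
  rw [Finset.sum_congr rfl (fun χ _ => hterm χ)] at hpc
  rw [sum_four (fun χ : IrrCharacter G =>
      (mult K ν χ : ℂ) ^ 2 * (mult K ν χ : ℂ) / (charDegree (χ : G → ℂ) : ℂ))
    (oneIrr G) x y z hx0 hy0 hz0 hxy hxz hyz
    (fun χ h0 h1 h2 h3 => by rw [hoth χ h0 h1 h2 h3]; simp)] at hpc
  rw [mult_one h hB ν hν1, charDegree_oneIrr] at hpc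
  have hcube : ∀ m : ℤ, m = 1 ∨ m = -1 → (m : ℂ) ^ 2 * (m : ℂ) = (m : ℂ) := by
    intro m hm
    rcases hm with rfl | rfl <;> norm_num
  rw [hcube _ hbx, hcube _ hby, hcube _ hbz] at hpc
  apply Rat.cast_injective (α := ℂ)
  push_cast
  push_cast at hpc
  linear_combination -hpc

include h hB hk hν1 hνt hall in
theorem cong_eq (χ : IrrCharacter G) :
    (4 : ℤ) ∣ (charDegree (χ : G → ℂ) : ℤ) + 3 * mult K ν χ := by
  have h1 := Cfsg.Agent.Lib.Helper8_BSW_A7.restrict_cong (Subgroup.centralizer ({t} : Set G)) χ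
    (mult K ν χ) (charDegree (χ : G → ℂ))
    (Cfsg.Agent.Lib.Helper77_BlockBasics.apply_one_eq_charDegree χ)
    (fun x hx hx1 => by
      rw [apply_of_mem_H h hB hk χ hx hx1, mult_spec h ν hν1 hνt hall χ])
  rw [hB.card_H, hk] at h1
  obtain ⟨w, hw⟩ := h1
  refine ⟨w + mult K ν χ, ?_⟩
  push_cast at hw
  linarith

include hx0 hy0 hz0 hxy hxz hyz in
theorem sq_le :
    1 + (charDegree (x : G → ℂ) ^ 2 + (charDegree (y : G → ℂ) ^ 2 + charDegree (z : G → ℂ) ^ 2))
      ≤ Nat.card G := by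
  classical
  have h1 := Cfsg.Agent.Lib.Helper80_CharComplete.sum_sq_degrees (G := G)
  rw [finsum_eq_sum_of_fintype] at h1
  have h2 : ∑ χ : IrrCharacter G, charDegree (χ : G → ℂ) ^ 2 = Nat.card G := by
    have h3 : ((∑ χ : IrrCharacter G, charDegree (χ : G → ℂ) ^ 2 : ℕ) : ℂ) = (Nat.card G : ℂ) := by
      rw [← h1]
      push_cast
      refine Finset.sum_congr rfl (fun χ _ => ?_)
      rw [Cfsg.Agent.Lib.Helper77_BlockBasics.apply_one_eq_charDegree χ]
    exact_mod_cast h3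
  rw [← h2]
  have h4 : ∑ χ ∈ ({oneIrr G, x, y, z} : Finset (IrrCharacter G)), charDegree (χ : G → ℂ) ^ 2 ≤
      ∑ χ : IrrCharacter G, charDegree (χ : G → ℂ) ^ 2 :=
    Finset.sum_le_sum_of_subset (Finset.subset_univ _)
  rw [Finset.sum_insert, Finset.sum_insert, Finset.sum_insert, Finset.sum_singleton,
    charDegree_oneIrr] at h4
  · simpa using h4
  · simp only [Finset.mem_singleton]; exact hyz
  · simp only [Finset.mem_insert, Finset.mem_singleton, not_or]; exact ⟨hxy, hxz⟩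
  · simp only [Finset.mem_insert, Finset.mem_singleton, not_or]
    exact ⟨hx0.symm, hy0.symm, hz0.symm⟩

end arith

/-! ### Building `CharData` -/

theorem charData_of (h : Setup t s K) (hB : Basics t s K) (hk : Nat.card K = 2)
    (ν : IrrCharacter ↥K) (hν1 : ν ≠ oneIrr ↥K)
    (hνt : (ν : ↥K → ℂ) ⟨t, h.htK⟩ = -1)
    (hall : ∀ lam : IrrCharacter ↥K, lam = oneIrr ↥K ∨ lam = ν)
    (ε : ℤ) (hε : ε = 1 ∨ ε = -1) (q : ℕ) (hq : (q : ℤ) = 4 + ε)
    (St c d : IrrCharacter G) (hx0 : St ≠ oneIrr G) (hy0 : c ≠ oneIrr G) (hz0 : d ≠ oneIrr G)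
    (hxy : St ≠ c) (hxz : St ≠ d) (hyz : c ≠ d)
    (hoth : ∀ χ : IrrCharacter G, χ ≠ oneIrr G → χ ≠ St → χ ≠ c → χ ≠ d → mult K ν χ = 0)
    (hbx : mult K ν St = ε) (hby : mult K ν c = -ε) (hbz : mult K ν d = -ε)
    (hG : 2 * Nat.card G = q * (q + 1) * (q - 1))
    (hdx : charDegree (St : G → ℂ) = q)
    (hdy : 2 * (charDegree (c : G → ℂ) : ℤ) = q + ε)
    (hdz : 2 * (charDegree (d : G → ℂ) : ℤ) = q + ε) :
    CharData t K ε q St c d ∅ := by
  classical
  have hεC : (ε : ℂ) * (ε : ℂ) = 1 := by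
    rcases hε with rfl | rfl <;> norm_num
  have hval : ∀ (χ : IrrCharacter G) (g : G), ConjInto K g → g ≠ 1 →
      (χ : G → ℂ) g = (mult K ν χ : ℂ) := by
    intro χ g hg hg1
    rw [apply_conjInto hB hk χ hg hg1, mult_spec h ν hν1 hνt hall χ]
  refine
    { hε := hε
      hq := by rw [hk, hq]; norm_num
      card_G := hG
      St_one := by
        rw [Cfsg.Agent.Lib.Helper77_BlockBasics.apply_one_eq_charDegree St, hdx]
      St_K := fun g hg hg1 => by rw [hval St g hg hg1, hbx]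
      c_one := by
        rw [Cfsg.Agent.Lib.Helper77_BlockBasics.apply_one_eq_charDegree c]
        exact_mod_cast hdy
      d_one := by
        rw [Cfsg.Agent.Lib.Helper77_BlockBasics.apply_one_eq_charDegree d]
        exact_mod_cast hdz
      c_K := fun g hg hg1 => by
        rw [hval c g hg hg1, hby]
        rcases hε with rfl | rfl
        · right; norm_num
        · left; norm_num
      d_K := fun g hg hg1 => by rw [hval d g hg hg1, hval c g hg hg1, hby, hbz]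
      cd_off := fun g hg => by
        have h1 := phi_sum ν g (K := K)
        rw [Cfsg.Agent.Lib.Helper65_BSW_A2.phi_apply_of_not_conjInto ν hg,
          sum_four (fun χ : IrrCharacter G => (mult K ν χ : ℂ) * (χ : G → ℂ) g)
            (oneIrr G) St c d hx0 hy0 hz0 hxy hxz hyz
            (fun χ h0 h1 h2 h3 => by rw [hoth χ h0 h1 h2 h3]; simp),
          mult_one h hB ν hν1, hbx, hby, hbz] at h1
        have h2 : ((oneIrr G : IrrCharacter G) : G → ℂ) g = 1 := rfl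
        rw [h2] at h1
        push_cast at h1
        linear_combination (ε : ℂ) * h1 - ((c : G → ℂ) g + (d : G → ℂ) g - (St : G → ℂ) g) * hεC
      Θ_card := by rw [hk]; simp
      Θ_one := fun θ hθ => absurd hθ (Finset.notMem_empty θ)
      Θ_t := fun θ hθ => absurd hθ (Finset.notMem_empty θ)
      Θ_off := fun θ hθ => absurd hθ (Finset.notMem_empty θ)
      St_ne_one := hx0
      c_ne_one := hy0
      d_ne_one := hz0
      St_ne_c := hxy
      St_ne_d := hxz
      c_ne_d := hyz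
      one_notMem := Finset.notMem_empty _
      St_notMem := Finset.notMem_empty _
      c_notMem := Finset.notMem_empty _
      d_notMem := Finset.notMem_empty _
      others := fun χ h0 h1 h2 h3 _ g hg hg1 => by
        rw [hval χ g hg hg1, hoth χ h0 h1 h2 h3]; simp }

theorem charData_final (h : Setup t s K) (hB : Basics t s K) (hk : Nat.card K = 2)
    (ν : IrrCharacter ↥K) (hν1 : ν ≠ oneIrr ↥K)
    (hνt : (ν : ↥K → ℂ) ⟨t, h.htK⟩ = -1)
    (hall : ∀ lam : IrrCharacter ↥K, lam = oneIrr ↥K ∨ lam = ν)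
    (χf : Fin 3 → IrrCharacter G) (hinj : ∀ i j : Fin 3, i ≠ j → χf i ≠ χf j)
    (hne : ∀ j, χf j ≠ oneIrr G)
    (hoth : ∀ χ : IrrCharacter G, χ ≠ oneIrr G → (∀ j, χ ≠ χf j) → mult K ν χ = 0)
    (i : Fin 3)
    (hcase : (Nat.card G = 12 ∧ mult K ν (χf i) = -1 ∧ charDegree (χf i : G → ℂ) = 3 ∧
        ∀ j, j ≠ i → mult K ν (χf j) = 1 ∧ charDegree (χf j : G → ℂ) = 1) ∨
      (Nat.card G = 60 ∧ mult K ν (χf i) = 1 ∧ charDegree (χf i : G → ℂ) = 5 ∧
        ∀ j, j ≠ i → mult K ν (χf j) = -1 ∧ charDegree (χf j : G → ℂ) = 3)) :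
    ∃ (ε : ℤ) (q : ℕ) (St c d : IrrCharacter G) (Θ : Finset (IrrCharacter G)),
      CharData t K ε q St c d Θ := by
  have hi1 : i + 1 ≠ i := (by decide : ∀ i : Fin 3, i + 1 ≠ i) i
  have hi2 : i + 2 ≠ i := (by decide : ∀ i : Fin 3, i + 2 ≠ i) i
  have hi12 : i + 1 ≠ i + 2 := (by decide : ∀ i : Fin 3, i + 1 ≠ i + 2) i
  have hcov : ∀ j : Fin 3, j = i ∨ j = i + 1 ∨ j = i + 2 :=
    (by decide : ∀ i j : Fin 3, j = i ∨ j = i + 1 ∨ j = i + 2) i
  have hoth' : ∀ χ : IrrCharacter G, χ ≠ oneIrr G → χ ≠ χf i → χ ≠ χf (i + 1) →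
      χ ≠ χf (i + 2) → mult K ν χ = 0 := by
    intro χ h0 h1 h2 h3
    apply hoth χ h0
    intro j
    rcases hcov j with rfl | rfl | rfl
    · exact h1
    · exact h2
    · exact h3
  rcases hcase with ⟨hg, hb, hd, hrest⟩ | ⟨hg, hb, hd, hrest⟩
  · obtain ⟨hb1, hd1⟩ := hrest (i + 1) hi1
    obtain ⟨hb2, hd2⟩ := hrest (i + 2) hi2
    refine ⟨-1, 3, χf i, χf (i + 1), χf (i + 2), ∅,
      charData_of h hB hk ν hν1 hνt hall (-1) (Or.inr rfl) 3 (by norm_num)
        (χf i) (χf (i + 1)) (χf (i + 2)) (hne _) (hne _) (hne _)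
        (hinj _ _ hi1.symm) (hinj _ _ hi2.symm) (hinj _ _ hi12) hoth' hb
        (by rw [hb1]; norm_num) (by rw [hb2]; norm_num) (by rw [hg]) hd
        (by rw [hd1]; norm_num) (by rw [hd2]; norm_num)⟩
  · obtain ⟨hb1, hd1⟩ := hrest (i + 1) hi1
    obtain ⟨hb2, hd2⟩ := hrest (i + 2) hi2
    refine ⟨1, 5, χf i, χf (i + 1), χf (i + 2), ∅,
      charData_of h hB hk ν hν1 hνt hall 1 (Or.inl rfl) 5 (by norm_num)
        (χf i) (χf (i + 1)) (χf (i + 2)) (hne _) (hne _) (hne _)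
        (hinj _ _ hi1.symm) (hinj _ _ hi2.symm) (hinj _ _ hi12) hoth' hb
        (by rw [hb1]) (by rw [hb2]) (by rw [hg]) hd
        (by rw [hd1]; norm_num) (by rw [hd2]; norm_num)⟩

/-- **PKG TWO**: the case `|K| = 2`. -/
theorem charData_two (h : Setup t s K) (hB : Basics t s K) (hk : Nat.card K = 2) :
    ∃ (ε : ℤ) (q : ℕ) (St c d : IrrCharacter G) (Θ : Finset (IrrCharacter G)),
      CharData t K ε q St c d Θ := by
  classical
  obtain ⟨ν, hν1, hνr, hνt, hall⟩ := exists_nu h hB hk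
  obtain ⟨x, y, z, hx0, hy0, hz0, hxy, hxz, hyz, hbx, hby, hbz, hoth⟩ :=
    norm_three (mult K ν) (oneIrr G) (mult_one h hB ν hν1) (mult_sq_sum h hB ν hν1 hνr)
  have hdeg := deg_eq h hB ν hν1 x y z hx0 hy0 hz0 hxy hxz hyz hoth
  have hinv := inv_eq h hB hk ν hν1 hνt hall x y z hx0 hy0 hz0 hxy hxz hyz hoth hbx hby hbz
  have hcx := cong_eq h hB hk ν hν1 hνt hall x
  have hcy := cong_eq h hB hk ν hν1 hνt hall y
  have hcz := cong_eq h hB hk ν hν1 hνt hall z
  have hsq := sq_le x y z hx0 hy0 hz0 hxy hxz hyz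
  obtain ⟨χf, hχf⟩ : ∃ χf : Fin 3 → IrrCharacter G, χf = ![x, y, z] := ⟨_, rfl⟩
  have hf0 : χf 0 = x := by rw [hχf]; rfl
  have hf1 : χf 1 = y := by rw [hχf]; rfl
  have hf2 : χf 2 = z := by rw [hχf]; rfl
  have hall3 : ∀ (P : Fin 3 → Prop), P 0 → P 1 → P 2 → ∀ i, P i := by
    intro P h0 h1 h2 i
    fin_cases i
    · exact h0
    · exact h1
    · exact h2
  have hinj : ∀ i j : Fin 3, i ≠ j → χf i ≠ χf j := by
    refine hall3 _ (hall3 _ ?_ ?_ ?_) (hall3 _ ?_ ?_ ?_) (hall3 _ ?_ ?_ ?_)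
    · intro hh; exact absurd rfl hh
    · intro _; rw [hf0, hf1]; exact hxy
    · intro _; rw [hf0, hf2]; exact hxz
    · intro _; rw [hf0, hf1]; exact hxy.symm
    · intro hh; exact absurd rfl hh
    · intro _; rw [hf1, hf2]; exact hyz
    · intro _; rw [hf0, hf2]; exact hxz.symm
    · intro _; rw [hf1, hf2]; exact hyz.symm
    · intro hh; exact absurd rfl hh
  have hne : ∀ j, χf j ≠ oneIrr G :=
    hall3 _ (by rw [hf0]; exact hx0) (by rw [hf1]; exact hy0) (by rw [hf2]; exact hz0)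
  have hoth' : ∀ χ : IrrCharacter G, χ ≠ oneIrr G → (∀ j, χ ≠ χf j) → mult K ν χ = 0 := by
    intro χ h0 hj
    exact hoth χ h0 (hf0 ▸ hj 0) (hf1 ▸ hj 1) (hf2 ▸ hj 2)
  have harith := Cfsg.Agent.Lib.Helper9_BSW_ARITH.arith_two (Nat.card G)
    (fun i => mult K ν (χf i)) (fun i => charDegree (χf i : G → ℂ)) Nat.card_pos
    (hall3 _ (by simp only [hf0]; exact hbx) (by simp only [hf1]; exact hby)
      (by simp only [hf2]; exact hbz))
    (fun i => Cfsg.Agent.Lib.Helper77_BlockBasics.charDegree_pos (χf i))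
    (by rw [Fin.sum_univ_three]; simp only [hf0, hf1, hf2]; linarith)
    (by rw [Fin.sum_univ_three]; simp only [hf0, hf1, hf2]; rw [← hinv]; ring)
    (hall3 _ (by simp only [hf0]; exact hcx) (by simp only [hf1]; exact hcy)
      (by simp only [hf2]; exact hcz))
    (by rw [Fin.sum_univ_three]; simp only [hf0, hf1, hf2]; omega)
  rcases harith with ⟨hg, i, hi⟩ | ⟨hg, i, hi⟩
  · exact charData_final h hB hk ν hν1 hνt hall χf hinj hne hoth' i (Or.inl ⟨hg, hi⟩)
  · exact charData_final h hB hk ν hν1 hνt hall χf hinj hne hoth' i (Or.inr ⟨hg, hi⟩)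

end Cfsg.Agent.Lib.Helper55_BSW_TWO
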