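import Mathlib
import Cfsg.Agent.Lib.Helper77_BSWDefs2
import Cfsg.Agent.Lib.Helper9_BSW_A1
import Cfsg.Agent.Lib.Helper9_BSW_ARITH
import Cfsg.Agent.Lib.Helper11_BSW_A4
import Cfsg.Agent.Lib.Helper75_BSW_INV
import Cfsg.Agent.Lib.Helper65_BSW_A2

/-!
# Package WEIRD of S3282 (abstract Brauer–Suzuki–Wall; architect helper77)

The exceptional shape of the multiplicities (only conceivable when `|K| = 6`) is impossible.
-/

set_option autoImplicit false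
set_option linter.unusedSectionVars false
set_option linter.unusedVariables false
set_option linter.unusedSimpArgs false
open Cfsg
open scoped ComplexConjugate

namespace Cfsg.Agent.Lib.Helper65_BSW_WEIRD

open Cfsg.Agent.Lib.Helper77_BSWDefs Cfsg.Agent.Lib.Helper77_BSWDefs2
  Cfsg.Agent.Lib.Helper80_CharBasic Cfsg.Agent.Lib.Helper3_CharComplete

open Cfsg.Agent.Lib.Helper3_RealClasses Cfsg.Agent.Lib.Helper3_CharOrtho
  Cfsg.Agent.Lib.Helper75_LinChar Cfsg.Agent.Lib.Helper75_CanonExt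

/-- a sum supported on five distinct points -/
theorem sum_five {I : Type*} [Fintype I] (x₁ x₂ x₃ x₄ x₅ : I)
    (h12 : x₁ ≠ x₂) (h13 : x₁ ≠ x₃) (h14 : x₁ ≠ x₄) (h15 : x₁ ≠ x₅) (h23 : x₂ ≠ x₃)
    (h24 : x₂ ≠ x₄) (h25 : x₂ ≠ x₅) (h34 : x₃ ≠ x₄) (h35 : x₃ ≠ x₅) (h45 : x₄ ≠ x₅)
    (f : I → ℂ)
    (h0 : ∀ χ, χ ≠ x₁ → χ ≠ x₂ → χ ≠ x₃ → χ ≠ x₄ → χ ≠ x₅ → f χ = 0) :
    ∑ χ, f χ = f x₁ + f x₂ + f x₃ + f x₄ + f x₅ := by
  classical
  rw [← Finset.sum_subset (Finset.subset_univ ({x₁, x₂, x₃, x₄, x₅} : Finset I))]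
  · rw [Finset.sum_insert, Finset.sum_insert, Finset.sum_insert, Finset.sum_insert,
      Finset.sum_singleton]
    · ring
    · simp [h45]
    · simp [h34, h35]
    · simp [h23, h24, h25]
    · simp [h12, h13, h14, h15]
  · intro χ _ hχ
    simp only [Finset.mem_insert, Finset.mem_singleton, not_or] at hχ
    exact h0 χ hχ.1 hχ.2.1 hχ.2.2.1 hχ.2.2.2.1 hχ.2.2.2.2

/-- the six irreducible characters of `K`: `1, ν, l₁, cj l₁, l₂, cj l₂` -/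
structure Six {A : Type*} [Group A] [Fintype A] (ν l₁ l₂ : IrrCharacter A) : Prop where
  h11 : l₁ ≠ oneIrr A
  h1ν : l₁ ≠ ν
  h21 : l₂ ≠ oneIrr A
  h2ν : l₂ ≠ ν
  h2l1 : l₂ ≠ l₁
  h2c1 : l₂ ≠ cj l₁
  all : ∀ lam : IrrCharacter A, lam = oneIrr A ∨ lam = ν ∨ lam = l₁ ∨ lam = cj l₁ ∨ lam = l₂ ∨
    lam = cj l₂
  sum : ∀ f : IrrCharacter A → ℂ, ∑ lam, f lam =
    f (oneIrr A) + f ν + f l₁ + f (cj l₁) + f l₂ + f (cj l₂)

theorem Six.swap {A : Type*} [Group A] [Fintype A] {ν l₁ l₂ : IrrCharacter A}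
    (X : Six ν l₁ l₂) : Six ν l₂ l₁ where
  h11 := X.h21
  h1ν := X.h2ν
  h21 := X.h11
  h2ν := X.h1ν
  h2l1 := X.h2l1.symm
  h2c1 := by
    intro hh
    apply X.h2c1
    rw [hh]
    exact (conjIrr_conjIrr l₂).symm
  all := by
    intro lam
    rcases X.all lam with h | h | h | h | h | h
    · exact Or.inl h
    · exact Or.inr (Or.inl h)
    · exact Or.inr (Or.inr (Or.inr (Or.inr (Or.inl h))))
    · exact Or.inr (Or.inr (Or.inr (Or.inr (Or.inr h))))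
    · exact Or.inr (Or.inr (Or.inl h))
    · exact Or.inr (Or.inr (Or.inr (Or.inl h)))
  sum := by
    intro f
    rw [X.sum f]
    ring

/-- the six irreducible characters of `K` -/
theorem irr_six {A : Type*} [Group A] [Fintype A] (ν : IrrCharacter A) (hν1 : ν ≠ oneIrr A)
    (hνr : cj ν = ν) (hνu : ∀ lam : IrrCharacter A, cj lam = lam → lam = oneIrr A ∨ lam = ν)
    (hcard : Fintype.card (IrrCharacter A) = 6) :
    ∃ l₁ l₂ : IrrCharacter A, Six ν l₁ l₂ := by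
  classical
  have hcjcj : ∀ lam : IrrCharacter A, cj (cj lam) = lam := fun lam => conjIrr_conjIrr lam
  have hcj1 : cj (oneIrr A) = oneIrr A := Cfsg.Agent.Lib.Helper65_BSW_A2.cj_oneIrr
  -- the first non-real character
  have hex1 : ∃ l₁ : IrrCharacter A, l₁ ≠ oneIrr A ∧ l₁ ≠ ν := by
    by_contra hcon
    push Not at hcon
    have hsub : (Finset.univ : Finset (IrrCharacter A)) ⊆ {oneIrr A, ν} := by
      intro lam _
      by_cases h1 : lam = oneIrr A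
      · simp [h1]
      · simp [hcon lam h1]
    have := Finset.card_le_card hsub
    rw [Finset.card_univ, hcard] at this
    have h2 : ({oneIrr A, ν} : Finset (IrrCharacter A)).card ≤ 2 := Finset.card_le_two
    omega
  obtain ⟨l₁, hl11, hl1ν⟩ := hex1
  have hc1 : cj l₁ ≠ l₁ := fun hh => (hνu l₁ hh).elim hl11 hl1ν
  have hc11 : cj l₁ ≠ oneIrr A := by
    intro hh
    apply hl11
    rw [← hcjcj l₁, hh, hcj1]
  have hc1ν : cj l₁ ≠ ν := by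
    intro hh
    apply hl1ν
    rw [← hcjcj l₁, hh, hνr]
  have hex2 : ∃ l₂ : IrrCharacter A, l₂ ≠ oneIrr A ∧ l₂ ≠ ν ∧ l₂ ≠ l₁ ∧ l₂ ≠ cj l₁ := by
    by_contra hcon
    push Not at hcon
    have hsub : (Finset.univ : Finset (IrrCharacter A)) ⊆ {oneIrr A, ν, l₁, cj l₁} := by
      intro lam _
      by_cases h1 : lam = oneIrr A
      · simp [h1]
      · by_cases h2 : lam = ν
        · simp [h2]
        · by_cases h3 : lam = l₁
          · simp [h3]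
          · simp [hcon lam h1 h2 h3]
    have := Finset.card_le_card hsub
    rw [Finset.card_univ, hcard] at this
    have h2 : ({oneIrr A, ν, l₁, cj l₁} : Finset (IrrCharacter A)).card ≤ 4 :=
      Finset.card_le_four
    omega
  obtain ⟨l₂, hl21, hl2ν, hl2l1, hl2c1⟩ := hex2
  have hc2 : cj l₂ ≠ l₂ := fun hh => (hνu l₂ hh).elim hl21 hl2ν
  have hc21 : cj l₂ ≠ oneIrr A := by
    intro hh
    apply hl21
    rw [← hcjcj l₂, hh, hcj1]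
  have hc2ν : cj l₂ ≠ ν := by
    intro hh
    apply hl2ν
    rw [← hcjcj l₂, hh, hνr]
  have hc2l1 : cj l₂ ≠ l₁ := by
    intro hh
    apply hl2c1
    rw [← hcjcj l₂, hh]
  have hc2c1 : cj l₂ ≠ cj l₁ := by
    intro hh
    apply hl2l1
    rw [← hcjcj l₂, hh, hcjcj]
  have huniv : (Finset.univ : Finset (IrrCharacter A)) =
      {oneIrr A, ν, l₁, cj l₁, l₂, cj l₂} := by
    symm
    apply Finset.eq_univ_of_card
    rw [hcard, Finset.card_insert_of_notMem, Finset.card_insert_of_notMem,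
      Finset.card_insert_of_notMem, Finset.card_insert_of_notMem, Finset.card_insert_of_notMem,
      Finset.card_singleton]
    all_goals simp [hν1, hl11, hl1ν, hc1, hc11, hc1ν, hl21, hl2ν, hl2l1, hl2c1, hc2, hc21, hc2ν, hc2l1, hc2c1, hν1.symm, hl11.symm, hl1ν.symm, hc1.symm, hc11.symm, hc1ν.symm, hl21.symm, hl2ν.symm, hl2l1.symm, hl2c1.symm, hc2.symm, hc21.symm, hc2ν.symm, hc2l1.symm, hc2c1.symm]
  refine ⟨l₁, l₂, hl11, hl1ν, hl21, hl2ν, hl2l1, hl2c1, ?_, ?_⟩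
  · intro lam
    have hmem : lam ∈ (Finset.univ : Finset (IrrCharacter A)) := Finset.mem_univ _
    rw [huniv] at hmem
    simpa only [Finset.mem_insert, Finset.mem_singleton] using hmem
  intro f
  rw [huniv, Finset.sum_insert, Finset.sum_insert, Finset.sum_insert, Finset.sum_insert,
    Finset.sum_insert, Finset.sum_singleton]
  · ring
  all_goals simp [hν1, hl11, hl1ν, hc1, hc11, hc1ν, hl21, hl2ν, hl2l1, hl2c1, hc2, hc21, hc2ν, hc2l1, hc2c1, hν1.symm, hl11.symm, hl1ν.symm, hc1.symm, hc11.symm, hc1ν.symm, hl21.symm, hl2ν.symm, hl2l1.symm, hl2c1.symm, hc2.symm, hc21.symm, hc2ν.symm, hc2l1.symm, hc2c1.symm]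


section core

variable {G : Type*} [Group G] [Fintype G] {t s : G} {K : Subgroup G} [Fintype ↥K]
  {ν : IrrCharacter ↥K} {a : IrrCharacter ↥K → IrrCharacter G → ℤ} {ε η : ℤ}
  {Z V : IrrCharacter G} {W : IrrCharacter ↥K → IrrCharacter G} {l₁ l₂ : IrrCharacter ↥K}

/-- values on `K ∖ 1` from the multiplicities -/
theorem value_formula (h : Setup t s K) (C : Coefs K ν a) (X : Six ν l₁ l₂)
    (χ : IrrCharacter G) {y : G} (hy : y ∈ K) (hy1 : y ≠ 1) :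
    (χ : G → ℂ) y = -((a ν χ : ℂ) * (ν : ↥K → ℂ) ⟨y, hy⟩ +
      (a l₁ χ : ℂ) * (l₁ : ↥K → ℂ) ⟨y, hy⟩ +
      (a (cj l₁) χ : ℂ) * conj ((l₁ : ↥K → ℂ) ⟨y, hy⟩) +
      (a l₂ χ : ℂ) * (l₂ : ↥K → ℂ) ⟨y, hy⟩ +
      (a (cj l₂) χ : ℂ) * conj ((l₂ : ↥K → ℂ) ⟨y, hy⟩)) := by
  have h1 := Cfsg.Agent.Lib.Helper11_BSW_A4.apply_of_mem h.comm (χ : G → ℂ)
    (Cfsg.Agent.Lib.Helper3_CharBridge.isClassFunction_of_isIrrCharacter χ.2) hy hy1
  rw [h1, Finset.sum_erase_eq_sub (Finset.mem_univ _), X.sum]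
  simp only [C.ha, conjIrr_apply]
  have h2 : ((oneIrr ↥K : IrrCharacter ↥K) : ↥K → ℂ) ⟨y, hy⟩ = 1 := rfl
  rw [h2]
  ring

/-- the degree equation `phi K lam 1 = 0` -/
theorem deg_formula (h : Setup t s K) (C : Coefs K ν a) (lam : IrrCharacter ↥K) :
    ∑ χ : IrrCharacter G, (a lam χ : ℂ) * (χ : G → ℂ) 1 = 0 := by
  have h1 := congrFun (classFunction_eq_sum (phi K lam)
    (Cfsg.Agent.Lib.Helper65_BSW_A2.phi_isClassFunction lam)) 1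
  rw [Cfsg.Agent.Lib.Helper65_BSW_A2.phi_one h.comm lam, Finset.sum_apply] at h1
  rw [h1]
  apply Finset.sum_congr rfl
  intro χ _
  rw [Pi.smul_apply, smul_eq_mul, ← classInner_conj_symm, C.ha, map_intCast]


theorem core (h : Setup t s K) (hB : Basics t s K) (C : Coefs K ν a)
    (S : WeirdShape K ν a ε η Z V W) (X : Six ν l₁ l₂)
    (y : G) (hy : y ∈ K) (hy1 : y ≠ 1)
    (hνt : (ν : ↥K → ℂ) ⟨t, h.htK⟩ = -1)
    (hl1t : (l₁ : ↥K → ℂ) ⟨t, h.htK⟩ = -1) (hl2t : (l₂ : ↥K → ℂ) ⟨t, h.htK⟩ = 1)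
    (hνy : (ν : ↥K → ℂ) ⟨y, hy⟩ = 1)
    (hr1 : (l₁ : ↥K → ℂ) ⟨y, hy⟩ + conj ((l₁ : ↥K → ℂ) ⟨y, hy⟩) = -1)
    (hr2 : (l₂ : ↥K → ℂ) ⟨y, hy⟩ + conj ((l₂ : ↥K → ℂ) ⟨y, hy⟩) = -1) : False := by
  have hcjcj : ∀ lam : IrrCharacter ↥K, cj (cj lam) = lam := fun lam => conjIrr_conjIrr lam
  have hcj1 : cj (oneIrr ↥K) = oneIrr ↥K := Cfsg.Agent.Lib.Helper65_BSW_A2.cj_oneIrr
  have ht1 : t ≠ 1 := by
    intro hh
    have := h.ht
    rw [hh, orderOf_one] at this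
    omega
  have hc11 : cj l₁ ≠ oneIrr ↥K := by
    intro hh
    apply X.h11
    rw [← hcjcj l₁, hh, hcj1]
  have hc1ν : cj l₁ ≠ ν := by
    intro hh
    apply X.h1ν
    rw [← hcjcj l₁, hh, C.hνr]
  have hc21 : cj l₂ ≠ oneIrr ↥K := by
    intro hh
    apply X.h21
    rw [← hcjcj l₂, hh, hcj1]
  have hc2ν : cj l₂ ≠ ν := by
    intro hh
    apply X.h2ν
    rw [← hcjcj l₂, hh, C.hνr]
  have hWc1 : W (cj l₁) = W l₁ :=
    (S.hWinj (cj l₁) l₁ hc11 hc1ν X.h11 X.h1ν).2 (Or.inr rfl)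
  have hWc2 : W (cj l₂) = W l₂ :=
    (S.hWinj (cj l₂) l₂ hc21 hc2ν X.h21 X.h2ν).2 (Or.inr rfl)
  have hW12 : W l₁ ≠ W l₂ := by
    intro hh
    rcases (S.hWinj l₁ l₂ X.h11 X.h1ν X.h21 X.h2ν).1 hh with h1 | h1
    · exact X.h2l1 h1.symm
    · apply X.h2c1
      rw [h1, hcjcj]
  obtain ⟨hW11, hW1Z, hW1V⟩ := S.hW l₁ X.h11 X.h1ν
  obtain ⟨hW21, hW2Z, hW2V⟩ := S.hW l₂ X.h21 X.h2ν
  -- every `W lam` is `W l₁` or `W l₂`
  have hWall : ∀ lam : IrrCharacter ↥K, lam ≠ oneIrr ↥K → lam ≠ ν → W lam = W l₁ ∨ W lam = W l₂ := by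
    intro lam h1 h2
    rcases X.all lam with hh | hh | hh | hh | hh | hh
    · exact absurd hh h1
    · exact absurd hh h2
    · exact Or.inl (by rw [hh])
    · exact Or.inl (by rw [hh, hWc1])
    · exact Or.inr (by rw [hh])
    · exact Or.inr (by rw [hh, hWc2])
  -- the table of multiplicities
  have aV : ∀ lam : IrrCharacter ↥K, lam ≠ oneIrr ↥K → lam ≠ ν → a lam V = 0 := by
    intro lam h1 h2
    exact S.a_other lam h1 h2 V S.hV1 S.hVZ (S.hW lam h1 h2).2.2.symm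
  have a_l1_W2 : a l₁ (W l₂) = 0 := S.a_other l₁ X.h11 X.h1ν (W l₂) hW21 hW2Z hW12.symm
  have a_c1_W2 : a (cj l₁) (W l₂) = 0 :=
    S.a_other (cj l₁) hc11 hc1ν (W l₂) hW21 hW2Z (by rw [hWc1]; exact hW12.symm)
  have a_l2_W1 : a l₂ (W l₁) = 0 := S.a_other l₂ X.h21 X.h2ν (W l₁) hW11 hW1Z hW12
  have a_c2_W1 : a (cj l₂) (W l₁) = 0 :=
    S.a_other (cj l₂) hc21 hc2ν (W l₁) hW11 hW1Z (by rw [hWc2]; exact hW12)
  have a_c1_W1 : a (cj l₁) (W l₁) = -ε := by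
    have := S.a_W (cj l₁) hc11 hc1ν
    rwa [hWc1] at this
  have a_c2_W2 : a (cj l₂) (W l₂) = -ε := by
    have := S.a_W (cj l₂) hc21 hc2ν
    rwa [hWc2] at this
  have a_oth : ∀ χ : IrrCharacter G, χ ≠ oneIrr G → χ ≠ Z → χ ≠ V → χ ≠ W l₁ → χ ≠ W l₂ →
      a ν χ = 0 ∧ a l₁ χ = 0 ∧ a (cj l₁) χ = 0 ∧ a l₂ χ = 0 ∧ a (cj l₂) χ = 0 := by
    intro χ h1 h2 h3 h4 h5
    refine ⟨?_, ?_, ?_, ?_, ?_⟩
    · apply S.a_ν_other χ h1 h2 h3
      intro lam hl1 hl2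
      rcases hWall lam hl1 hl2 with hh | hh
      · rw [hh]; exact h4
      · rw [hh]; exact h5
    · exact S.a_other l₁ X.h11 X.h1ν χ h1 h2 h4
    · exact S.a_other (cj l₁) hc11 hc1ν χ h1 h2 (by rw [hWc1]; exact h4)
    · exact S.a_other l₂ X.h21 X.h2ν χ h1 h2 h5
    · exact S.a_other (cj l₂) hc21 hc2ν χ h1 h2 (by rw [hWc2]; exact h5)
  -- the values on `K ∖ 1`
  have vZ : ∀ (g : G) (hg : g ∈ K), g ≠ 1 → (Z : G → ℂ) g = -(ε : ℂ) *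
      ((l₁ : ↥K → ℂ) ⟨g, hg⟩ + conj ((l₁ : ↥K → ℂ) ⟨g, hg⟩) +
        ((l₂ : ↥K → ℂ) ⟨g, hg⟩ + conj ((l₂ : ↥K → ℂ) ⟨g, hg⟩))) := by
    intro g hg hg1
    rw [value_formula h C X Z hg hg1, S.a_ν_Z, S.a_Z l₁ X.h11 X.h1ν, S.a_Z (cj l₁) hc11 hc1ν,
      S.a_Z l₂ X.h21 X.h2ν, S.a_Z (cj l₂) hc21 hc2ν]
    push_cast
    ring
  have vV : ∀ (g : G) (hg : g ∈ K), g ≠ 1 → (V : G → ℂ) g = -(η : ℂ) * (ν : ↥K → ℂ) ⟨g, hg⟩ := by
    intro g hg hg1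
    rw [value_formula h C X V hg hg1, S.a_ν_V, aV l₁ X.h11 X.h1ν, aV (cj l₁) hc11 hc1ν,
      aV l₂ X.h21 X.h2ν, aV (cj l₂) hc21 hc2ν]
    push_cast
    ring
  have vW1 : ∀ (g : G) (hg : g ∈ K), g ≠ 1 → (W l₁ : G → ℂ) g = (ε : ℂ) *
      ((ν : ↥K → ℂ) ⟨g, hg⟩ + ((l₁ : ↥K → ℂ) ⟨g, hg⟩ + conj ((l₁ : ↥K → ℂ) ⟨g, hg⟩))) := by
    intro g hg hg1
    rw [value_formula h C X (W l₁) hg hg1, S.a_ν_W l₁ X.h11 X.h1ν, S.a_W l₁ X.h11 X.h1ν,
      a_c1_W1, a_l2_W1, a_c2_W1]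
    push_cast
    ring
  have vW2 : ∀ (g : G) (hg : g ∈ K), g ≠ 1 → (W l₂ : G → ℂ) g = (ε : ℂ) *
      ((ν : ↥K → ℂ) ⟨g, hg⟩ + ((l₂ : ↥K → ℂ) ⟨g, hg⟩ + conj ((l₂ : ↥K → ℂ) ⟨g, hg⟩))) := by
    intro g hg hg1
    rw [value_formula h C X (W l₂) hg hg1, S.a_ν_W l₂ X.h21 X.h2ν, S.a_W l₂ X.h21 X.h2ν,
      a_c2_W2, a_l1_W2, a_c1_W2]
    push_cast
    ring
  have voth : ∀ χ : IrrCharacter G, χ ≠ oneIrr G → χ ≠ Z → χ ≠ V → χ ≠ W l₁ → χ ≠ W l₂ →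
      ∀ (g : G) (hg : g ∈ K), g ≠ 1 → (χ : G → ℂ) g = 0 := by
    intro χ h1 h2 h3 h4 h5 g hg hg1
    obtain ⟨e1, e2, e3, e4, e5⟩ := a_oth χ h1 h2 h3 h4 h5
    rw [value_formula h C X χ hg hg1, e1, e2, e3, e4, e5]
    push_cast
    ring
  -- signs
  have hε2 : (ε : ℂ) ^ 2 = 1 := by
    rcases S.hε with hh | hh <;> rw [hh] <;> norm_num
  have hη2 : (η : ℂ) ^ 2 = 1 := by
    rcases S.hη with hh | hh <;> rw [hh] <;> norm_num
  -- values at `t` and `y`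
  have Zt : (Z : G → ℂ) t = 0 := by
    rw [vZ t h.htK ht1, hl1t, hl2t]
    simp only [map_neg, map_one]
    ring
  have Vt : (V : G → ℂ) t = (η : ℂ) := by
    rw [vV t h.htK ht1, hνt]
    ring
  have W1t : (W l₁ : G → ℂ) t = -3 * (ε : ℂ) := by
    rw [vW1 t h.htK ht1, hνt, hl1t]
    simp only [map_neg, map_one]
    ring
  have W2t : (W l₂ : G → ℂ) t = (ε : ℂ) := by
    rw [vW2 t h.htK ht1, hνt, hl2t]
    simp only [map_neg, map_one]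
    ring
  have Vy : (V : G → ℂ) y = -(η : ℂ) := by
    rw [vV y hy hy1, hνy]
    ring
  have W1y : (W l₁ : G → ℂ) y = 0 := by
    rw [vW1 y hy hy1, hνy, hr1]
    ring
  have W2y : (W l₂ : G → ℂ) y = 0 := by
    rw [vW2 y hy hy1, hνy, hr2]
    ring
  -- the five special characters
  have five : ∀ f : IrrCharacter G → ℂ,
      (∀ χ, χ ≠ oneIrr G → χ ≠ Z → χ ≠ V → χ ≠ W l₁ → χ ≠ W l₂ → f χ = 0) →
      ∑ χ, f χ = f (oneIrr G) + f Z + f V + f (W l₁) + f (W l₂) := fun f h0 =>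
    sum_five (oneIrr G) Z V (W l₁) (W l₂) S.hZ1.symm S.hV1.symm hW11.symm hW21.symm S.hVZ.symm
      hW1Z.symm hW2Z.symm hW1V.symm hW2V.symm hW12 f h0
  -- degrees
  obtain ⟨z, hz0, hz⟩ := irr_apply_one Z
  obtain ⟨v, hv0, hv⟩ := irr_apply_one V
  obtain ⟨w, hw0, hw⟩ := irr_apply_one (W l₁)
  obtain ⟨w', hw'0, hw'⟩ := irr_apply_one (W l₂)
  have h1one : ((oneIrr G : IrrCharacter G) : G → ℂ) 1 = 1 := rfl
  have d1 := deg_formula (G := G) h C l₁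
  rw [five _ (fun χ h1 h2 h3 h4 h5 => by rw [(a_oth χ h1 h2 h3 h4 h5).2.1]; simp),
    S.a_one l₁ X.h11, S.a_Z l₁ X.h11 X.h1ν, aV l₁ X.h11 X.h1ν, S.a_W l₁ X.h11 X.h1ν, a_l1_W2,
    h1one, hz, hv, hw, hw'] at d1
  push_cast at d1
  have d2 := deg_formula (G := G) h C l₂
  rw [five _ (fun χ h1 h2 h3 h4 h5 => by rw [(a_oth χ h1 h2 h3 h4 h5).2.2.2.1]; simp),
    S.a_one l₂ X.h21, S.a_Z l₂ X.h21 X.h2ν, aV l₂ X.h21 X.h2ν, S.a_W l₂ X.h21 X.h2ν, a_l2_W1,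
    h1one, hz, hv, hw, hw'] at d2
  push_cast at d2
  have d3 := deg_formula (G := G) h C ν
  rw [five _ (fun χ h1 h2 h3 h4 h5 => by rw [(a_oth χ h1 h2 h3 h4 h5).1]; simp),
    S.a_one ν C.hν1, S.a_ν_Z, S.a_ν_V, S.a_ν_W l₁ X.h11 X.h1ν, S.a_ν_W l₂ X.h21 X.h2ν,
    h1one, hz, hv, hw, hw'] at d3
  push_cast at d3
  have hww' : (w' : ℂ) = (w : ℂ) := by
    have e1 : (ε : ℂ) * (w : ℂ) = (ε : ℂ) * (w' : ℂ) := by linear_combination d2 - d1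
    have e2 : (ε : ℂ) ^ 2 * (w : ℂ) = (ε : ℂ) ^ 2 * (w' : ℂ) := by
      linear_combination (ε : ℂ) * e1
    rw [hε2, one_mul, one_mul] at e2
    exact e2.symm
  have hdegC : (1 : ℂ) + (η : ℂ) * (v : ℂ) - 2 * (ε : ℂ) * (w : ℂ) = 0 := by
    rw [hww'] at d3
    linear_combination d3
  have hdeg : 1 + η * (v : ℤ) - 2 * ε * w = 0 := by exact_mod_cast hdegC
  -- the two pair counts
  have hconj : ∀ u : G, orderOf u = 2 → IsConj u t := fun u hu => h.hconj u t hu h.ht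
  have pt := Cfsg.Agent.Lib.Helper75_BSW_INV.pairCount_formula t h.ht hconj t
  have py := Cfsg.Agent.Lib.Helper75_BSW_INV.pairCount_formula t h.ht hconj y
  rw [hB.pairCount_of_mem t h.htK ht1] at pt
  rw [hB.pairCount_of_mem y hy hy1, pt] at py
  have hG0 : (Nat.card G : ℂ) ≠ 0 := by
    rw [Nat.cast_ne_zero]
    exact Nat.card_pos.ne'
  have hsums := mul_left_cancel₀ hG0 py
  have hgone : ∀ g : G, ((oneIrr G : IrrCharacter G) : G → ℂ) g = 1 := fun g => rfl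
  rw [five _ (fun χ h1 h2 h3 h4 h5 => by rw [voth χ h1 h2 h3 h4 h5 t h.htK ht1]; simp),
    five _ (fun χ h1 h2 h3 h4 h5 => by rw [voth χ h1 h2 h3 h4 h5 t h.htK ht1]; simp),
    hgone, hgone, hgone, Zt, Vt, W1t, W2t, Vy, W1y, W2y, hz, hv, hw, hw', hww'] at hsums
  have hwC : (w : ℂ) ≠ 0 := by
    rw [Nat.cast_ne_zero]
    omega
  have hvC : (v : ℂ) ≠ 0 := by
    rw [Nat.cast_ne_zero]
    omega
  have hcε : conj (ε : ℂ) = (ε : ℂ) := map_intCast _ _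
  have hcη : conj (η : ℂ) = (η : ℂ) := map_intCast _ _
  simp only [map_one, map_zero, map_neg, map_mul, hcε, hcη, map_ofNat] at hsums
  have heqC : (1 : ℂ) - 26 * (ε : ℂ) / (w : ℂ) + (η : ℂ) / (v : ℂ) = 1 - (η : ℂ) / (v : ℂ) := by
    have e3 : (ε : ℂ) ^ 3 = ε := by rw [pow_succ, hε2, one_mul]
    have e4 : (η : ℂ) ^ 3 = η := by rw [pow_succ, hη2, one_mul]
    have e5 : (-3 * (ε : ℂ)) ^ 2 * (-3 * (ε : ℂ)) / (w : ℂ) = -27 * (ε : ℂ) / (w : ℂ) := by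
      have : (-3 * (ε : ℂ)) ^ 2 * (-3 * (ε : ℂ)) = -27 * (ε : ℂ) ^ 3 := by ring
      rw [this, e3]
    have e6 : (ε : ℂ) ^ 2 * (ε : ℂ) / (w : ℂ) = (ε : ℂ) / (w : ℂ) := by
      rw [hε2, one_mul]
    have e7 : (η : ℂ) ^ 2 * (η : ℂ) / (v : ℂ) = (η : ℂ) / (v : ℂ) := by
      rw [hη2, one_mul]
    have e8 : (η : ℂ) ^ 2 * -(η : ℂ) / (v : ℂ) = -((η : ℂ) / (v : ℂ)) := by
      rw [hη2, one_mul, neg_div]
    rw [e5, e6, e7, e8] at hsums
    linear_combination hsums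
  have heq : (1 : ℚ) - 26 * ε / w + η / v = 1 - η / v := by
    have hC : (((1 : ℚ) - 26 * ε / w + η / v : ℚ) : ℂ) = ((1 - η / v : ℚ) : ℂ) := by
      push_cast
      exact heqC
    exact_mod_cast hC
  exact Cfsg.Agent.Lib.Helper9_BSW_ARITH.arith_weird w v ε η hw0 hv0 S.hε S.hη hdeg heq

end core


section main

variable {G : Type*} [Group G] [Fintype G] {t s : G} {K : Subgroup G} [Fintype ↥K]
  {ν : IrrCharacter ↥K} {a : IrrCharacter ↥K → IrrCharacter G → ℤ} {ε : ℤ}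
  {Z : IrrCharacter G} {W : IrrCharacter ↥K → IrrCharacter G} {c d : IrrCharacter G} {bc bd : ℤ}

theorem false_of_weird {η : ℤ} {V : IrrCharacter G} (h : Setup t s K) (hB : Basics t s K)
    (hcard : Fintype.card (IrrCharacter ↥K) = 6)
    (C : Coefs K ν a) (S : WeirdShape K ν a ε η Z V W) : False := by
  have hc : ∀ x y : ↥K, x * y = y * x := fun x y => Subtype.ext (h.comm x x.2 y y.2)
  have hcardK : Fintype.card ↥K = 6 := by
    rw [← Cfsg.Agent.Lib.Helper75_CommChar.card_irr hc]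
    exact hcard
  obtain ⟨l₁, l₂, X⟩ := irr_six ν C.hν1 C.hνr C.hνu hcard
  have htK2 : orderOf (⟨t, h.htK⟩ : ↥K) = 2 := by
    rw [← Subgroup.orderOf_coe]
    exact h.ht
  have ht1 : (⟨t, h.htK⟩ : ↥K) ≠ 1 := by
    intro hh
    rw [hh, orderOf_one] at htK2
    omega
  have hlin : ∀ lam : IrrCharacter ↥K, IsLin ↥K (lam : ↥K → ℂ) :=
    fun lam => isLin_of_comm hc lam.2
  have hone : ∀ g : ↥K, ((oneIrr ↥K : IrrCharacter ↥K) : ↥K → ℂ) g = 1 := fun g => rfl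
  -- the element `y`
  obtain ⟨yK, hy1, hνy⟩ := Cfsg.Agent.Lib.Helper9_BSW_A1.exists_pos hc ν C.hνr
    (by rw [hcardK]; norm_num)
  have hyG1 : (yK : G) ≠ 1 := fun hh => hy1 (Subtype.ext hh)
  -- signs at `t`
  have sgn := fun lam => Cfsg.Agent.Lib.Helper9_BSW_A1.apply_invol hc ⟨t, h.htK⟩ htK2 lam
  have hsum_t := Cfsg.Agent.Lib.Helper75_CommChar.sum_irr_apply hc ht1
  rw [X.sum] at hsum_t
  simp only [conjIrr_apply, hone] at hsum_t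
  -- `ν t = -1` in all consistent cases
  have key : (ν : ↥K → ℂ) ⟨t, h.htK⟩ = -1 ∧
      (((l₁ : ↥K → ℂ) ⟨t, h.htK⟩ = -1 ∧ (l₂ : ↥K → ℂ) ⟨t, h.htK⟩ = 1) ∨
        ((l₁ : ↥K → ℂ) ⟨t, h.htK⟩ = 1 ∧ (l₂ : ↥K → ℂ) ⟨t, h.htK⟩ = -1)) := by
    rcases sgn ν with e0 | e0 <;> rcases sgn l₁ with e1 | e1 <;> rcases sgn l₂ with e2 | e2 <;>
      rw [e0, e1, e2] at hsum_t <;> simp only [map_neg, map_one] at hsum_t <;>
      first
        | exact ⟨e0, Or.inl ⟨e1, e2⟩⟩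
        | exact ⟨e0, Or.inr ⟨e1, e2⟩⟩
        | (exfalso; norm_num at hsum_t)
  obtain ⟨hνt, hcases⟩ := key
  -- `y² ≠ 1`
  have hy2 : yK * yK ≠ 1 := by
    intro hh
    have ho : orderOf yK = 2 := by
      apply orderOf_eq_prime
      · rw [pow_two]; exact hh
      · exact hy1
    have ho' : orderOf (yK : G) = 2 := by
      rw [Subgroup.orderOf_coe]
      exact ho
    have hyt : (yK : G) = t := hB.eq_t_of_mem yK yK.2 ho'
    have : yK = ⟨t, h.htK⟩ := Subtype.ext hyt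
    rw [this, hνt] at hνy
    norm_num at hνy
  -- the sums at `y` and `y²`
  have hsum_y := Cfsg.Agent.Lib.Helper75_CommChar.sum_irr_apply hc hy1
  rw [X.sum] at hsum_y
  simp only [conjIrr_apply, hone] at hsum_y
  have hsum_y2 := Cfsg.Agent.Lib.Helper75_CommChar.sum_irr_apply hc hy2
  rw [X.sum] at hsum_y2
  simp only [conjIrr_apply, hone, (hlin _).map_mul, map_mul] at hsum_y2
  have n1 := (hlin l₁).mul_conj yK
  have n2 := (hlin l₂).mul_conj yK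
  rw [hνy] at hsum_y hsum_y2
  set p := (l₁ : ↥K → ℂ) yK with hp
  set p' := conj ((l₁ : ↥K → ℂ) yK) with hp'
  set q := (l₂ : ↥K → ℂ) yK with hq
  set q' := conj ((l₂ : ↥K → ℂ) yK) with hq'
  have hdiff : ((p + p') - (q + q')) ^ 2 = 0 := by
    linear_combination 2 * hsum_y2 + 4 * n1 + 4 * n2 - (p + p' + q + q' - 2) * hsum_y
  have hr12 : p + p' = q + q' := by
    have := pow_eq_zero_iff (two_ne_zero) |>.1 hdiff
    exact sub_eq_zero.1 this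
  have hr1 : p + p' = -1 := by linear_combination (1 / 2 : ℂ) * hsum_y + (1 / 2 : ℂ) * hr12
  have hr2 : q + q' = -1 := by linear_combination (1 / 2 : ℂ) * hsum_y - (1 / 2 : ℂ) * hr12
  rcases hcases with ⟨e1, e2⟩ | ⟨e1, e2⟩
  · exact core h hB C S X (yK : G) yK.2 hyG1 hνt e1 e2 hνy hr1 hr2
  · exact core h hB C S X.swap (yK : G) yK.2 hyG1 hνt e2 e1 hνy hr2 hr1

end main

end Cfsg.Agent.Lib.Helper65_BSW_WEIRD
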