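/-
S3282 (abstract Brauer–Suzuki–Wall theorem): the second-wave work packages (Part A bridging),
re-exported under the names used by `Helper77_BSWPartA`.  Statements as posted in
pending/helper77/S3282_packages2.lean.txt.
-/
import Mathlib
import Cfsg.Agent.Lib.Helper77_BSWDefs2
import Cfsg.Agent.Lib.Helper21_BSW_GEN2
import Cfsg.Agent.Lib.Helper21_BSW_GEN3
import Cfsg.Agent.Lib.Helper55_BSW_TWO
import Cfsg.Agent.Lib.Helper65_BSW_WEIRD
import Cfsg.Agent.Lib.Helper78_BSW_GEN1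
import Cfsg.Agent.Lib.Helper8_BSW_A7

set_option autoImplicit false
open Cfsg
open scoped ComplexConjugate

namespace Cfsg.Agent.Lib.Helper77_BSWPackages2

open Cfsg.Agent.Lib.Helper77_BSWDefs Cfsg.Agent.Lib.Helper77_BSWDefs2
  Cfsg.Agent.Lib.Helper80_CharBasic Cfsg.Agent.Lib.Helper3_CharComplete

/-! ## PKG A7 : restriction congruence (est. 100 lines)

(χ|_H, 1_H)_H = (n + (|H|-1) e)/|H| is a natural number (Helper75_CharArith.isCharacter_restrict +
classInner_isCharacter_nat, or Helper57_FrobNorm.classInner_genChar_int). -/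
namespace A7

theorem restrict_cong {G : Type*} [Group G] [Fintype G] (H : Subgroup G) (χ : IrrCharacter G)
    (e : ℤ) (n : ℕ) (h1 : (χ : G → ℂ) 1 = n)
    (hval : ∀ x ∈ H, x ≠ 1 → (χ : G → ℂ) x = (e : ℂ)) :
    (Nat.card H : ℤ) ∣ (n : ℤ) - e := by
  exact Cfsg.Agent.Lib.Helper8_BSW_A7.restrict_cong H χ e n h1 hval

end A7

section

variable {G : Type*} [Group G] [Fintype G] {t s : G} {K : Subgroup G} [Fintype ↥K]
  {ν : IrrCharacter ↥K} {a : IrrCharacter ↥K → IrrCharacter G → ℤ} {ε : ℤ}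
  {Z : IrrCharacter G} {W : IrrCharacter ↥K → IrrCharacter G} {c d : IrrCharacter G} {bc bd : ℤ}

/-! ## PKG GEN1 : values on `K ∖ 1` in the generic shape (est. 250 lines)

χ(y) = - Σ_{lam ≠ 1} a lam χ · lam(y)  (A4.apply_of_mem with `Coefs.ha`).
χ = Z: a lam Z = ε for all lam ≠ 1, so Z(y) = -ε Σ_{lam ≠ 1} lam(y) = ε.
χ = W mu: a lam (W mu) = -ε if W lam = W mu, i.e. lam ∈ {mu, cj mu} (two different characters, `hWinj`,
mu is not real by `Coefs.hνu`), and 0 otherwise (also for lam = ν: `a_ν_other`, `hW`).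
χ = c: only a ν c = bc is non-zero.  Others: all multiplicities vanish. -/
namespace GEN1

theorem values_gen (hcomm : ∀ x ∈ K, ∀ y ∈ K, x * y = y * x) (C : Coefs K ν a)
    (S : GenShape K ν a ε Z W c d bc bd) : GenVals K ν ε Z W c d bc bd := by
  exact Cfsg.Agent.Lib.Helper78_BSW_GEN1.values_gen hcomm C S

end GEN1

/-! ## PKG GEN2 : the arithmetic of the generic shape (est. 500 lines)

z, w_lam, c₁, d₁ := degrees of Z, W lam, c, d.  phi K lam (1) = 0 gives 1 + ε (z - w_lam) = 0 (so all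
w_lam = z + ε =: w) and 1 + ε z + bc c₁ + bd d₁ = 0.  For y ∈ K∖1 (INV.pairCount_formula,
Basics.pairCount_of_mem, Basics.card_H: |C(t)| = 2k):
  k (2k)² = |G| Σ_χ χ(t)² conj(χ y)/χ(1);
only 1, Z, c, d and the W lam contribute (`GenVals.other_K` at t); Z(t)² = 1, c(t)² = d(t)² = 1 (ν(t) = ±1),
(W lam)(t)² = 4 (lam(t) = ±1: A1.apply_invol), all values at y are real.  The W lam are counted twice
when lam runs over the non-real characters (`hWinj`), so
  Σ_{θ ∈ image W} θ(t)² conj(θ y)/θ(1) = (4/w) · (1/2) Σ_{lam ≠ 1, ν} ε (lam y + conj(lam y))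
     = (4 ε/w) Σ_{lam ≠ 1, ν} lam(y) = -4 ε (1 + ν y)/w      (A1.sum_nonreal),
  4k³/|G| = 1 + ε/z - 4ε(1 + ν y)/w - ν(y) (bc/c₁ + bd/d₁).
Take y with ν y = -1 (A1.exists_neg) and y ≠ 1 with ν y = 1 (A1.exists_pos, k ≥ 4): hypotheses hEm, hEp of
ARITH.arith_gen.  hcong: A7.restrict_cong for H = C(t) (Z = ε on H∖1: Basics.conjInto_of_mem_H + class
function).  hdiv: 2k = |C(t)| divides |G|. -/
namespace GEN2

theorem arith_of_gen (h : Setup t s K) (hB : Basics t s K) (hk : 4 ≤ Nat.card K)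
    (C : Coefs K ν a) (S : GenShape K ν a ε Z W c d bc bd)
    (V : GenVals K ν ε Z W c d bc bd) : GenArith K ν ε Z W c d bc bd := by
  exact Cfsg.Agent.Lib.Helper21_BSW_GEN2.arith_of_gen h hB hk C S V

end GEN2

/-! ## PKG GEN3 : `CharData` in the generic shape (est. 500 lines)

q := z = Z(1), Θ := image of W on the non-real characters (2 to 1: 2|Θ| + 2 = k since |Irr K| = k,
Helper75_CommChar.card_irr).  Values on the non-identity elements conjugate into K: transport
`GenVals` by conjugation (characters are class functions).  c_K: ν y = ±1 (A1.real_values).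
Θ_t: lam(t) = ±1 (A1.apply_invol).  Off the conjugates of K, phi K lam (g) = 0 (A2.phi_apply_of_not_conjInto)
and phi K lam = Σ_χ a lam χ · χ give 1 + ε (Z g - (W lam) g) = 0 and 1 + ε Z g + bc c g + bd d g = 0, i.e.
Θ_off and cd_off (bc = bd = -ε).  card_G: |G| = k z (z+ε), z = 2k + ε. -/
namespace GEN3

theorem charData_gen (h : Setup t s K) (hB : Basics t s K) (hk : 4 ≤ Nat.card K)
    (C : Coefs K ν a) (S : GenShape K ν a ε Z W c d bc bd)
    (V : GenVals K ν ε Z W c d bc bd) (A : GenArith K ν ε Z W c d bc bd) :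
    ∃ Θ : Finset (IrrCharacter G), CharData t K ε (charDegree (Z : G → ℂ)) Z c d Θ := by
  exact Cfsg.Agent.Lib.Helper21_BSW_GEN3.charData_gen h hB hk C S V A

end GEN3

/-! ## PKG WEIRD : the exceptional shape is impossible (est. 500 lines)

|Irr K| = 6, so k = 6: Irr K = {1, ν, l₁, cj l₁, l₂, cj l₂}.  Values on K∖1 (A4.apply_of_mem):
Z(y) = ε (1 + ν y),  (W l_i)(y) = ε (l_i y + conj(l_i y) + ν y),  V(y) = -η ν y, all others vanish.
Degrees (phi(1) = 0): w_i = z + ε =: w, 1 + η v - 2 ε w = 0.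
Σ_lam lam(t) = 0 with lam(t) = ±1 forces ν t = -1 and {l₁ t, l₂ t} = {1, -1}; say l₁ t = -1.  Then
Z t = 0, (W l₁) t = -3ε, (W l₂) t = ε, V t = η.  Let y ≠ 1 with ν y = 1 (A1.exists_pos); r_i := l_i y +
conj(l_i y) is real, Σ_lam lam(y) = 0 gives r₁ + r₂ = -2 and (y² ≠ 1 as ν t = -1) Σ_lam lam(y²) = 0 gives
r₁² + r₂² = 2, so r₁ = r₂ = -1: (W l_i) y = 0, V y = -η.   pairCount is k at both t and y, so
Σ_χ χ(t)² conj(χ t)/χ(1) = Σ_χ χ(t)² conj(χ y)/χ(1) (INV.pairCount_formula), i.e.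
1 - 26 ε/w + η/v = 1 - η/v: ARITH.arith_weird. -/
namespace WEIRD

theorem false_of_weird {η : ℤ} {V : IrrCharacter G} (h : Setup t s K) (hB : Basics t s K)
    (hcard : Fintype.card (IrrCharacter ↥K) = 6)
    (C : Coefs K ν a) (S : WeirdShape K ν a ε η Z V W) : False := by
  exact Cfsg.Agent.Lib.Helper65_BSW_WEIRD.false_of_weird h hB hcard C S

end WEIRD

/-! ## PKG TWO : the case `|K| = 2` (est. 600 lines)

K = {1, t}, Irr K = {1, ν}, ν t = -1, H = C(t) has order 4 and its non-identity elements are involutions,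
conjugate to t.  (phi ν, phi ν) = 4, (phi ν, 1) = 1 (A2), so a ν = e_1 + b₀ e_{χ₀} + b₁ e_{χ₁} + b₂ e_{χ₂}
with b_i = ±1 and distinct χ_i ≠ 1.  χ(t) = -a ν χ · ν(t) = a ν χ for every χ (A4): χ_i(t) = b_i, all other
non-trivial irreducible characters vanish at t.  phi ν (1) = 0: 1 + Σ b_i d_i = 0 (d_i = χ_i(1)).
pairCount t = 2 (Basics.pairCount_of_mem) in INV.pairCount_formula: 2·16 = |G| (1 + Σ b_i/d_i).
A7.restrict_cong with H = C(t), e = b_i: 4 | d_i - b_i.  Σ_χ χ(1)² = |G| ≥ 1 + Σ d_i².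
ARITH.arith_two: |G| = 12 (ε = -1, q = 3, St := the χ_i with b_i = -1, degree 3; c, d the two others) or
|G| = 60 (ε = 1, q = 5, St := the χ_i with b_i = 1, degree 5; c, d of degree 3).  Θ = ∅.  A non-identity
element is conjugate into K iff it is an involution.  cd_off: phi ν (g) = 0 off the conjugates of K. -/
namespace TWO

theorem charData_two (h : Setup t s K) (hB : Basics t s K) (hk : Nat.card K = 2) :
    ∃ (ε : ℤ) (q : ℕ) (St c d : IrrCharacter G) (Θ : Finset (IrrCharacter G)),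
      CharData t K ε q St c d Θ := by
  exact Cfsg.Agent.Lib.Helper55_BSW_TWO.charData_two h hB hk

end TWO

end

end Cfsg.Agent.Lib.Helper77_BSWPackages2
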