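import Cfsg.Agent.Lib.Helper77_BSWBridge2
import Cfsg.Agent.Lib.Helper77_BSWPackages
import Cfsg.Agent.Lib.Helper77_BSWPackages2
import Cfsg.Agent.Lib.Helper75_CommChar

/-!
# Brauer–Suzuki–Wall, Part A assembly: from `Setup` to `CharData` (helper77)
-/

set_option autoImplicit false
set_option linter.unusedSectionVars false
open Cfsg
open scoped ComplexConjugate

namespace Cfsg.Agent.Lib.Helper77_BSWPartA

open Cfsg.Agent.Lib.Helper77_BSWDefs Cfsg.Agent.Lib.Helper77_BSWDefs2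
  Cfsg.Agent.Lib.Helper80_CharBasic Cfsg.Agent.Lib.Helper3_CharComplete
  Cfsg.Agent.Lib.Helper77_BSWBridge2 Cfsg.Agent.Lib.Helper17_Coherence
open Cfsg.Agent.Lib.Helper77_BSWPackages Cfsg.Agent.Lib.Helper77_BSWPackages2

variable {G : Type*} [Group G] [Fintype G] {t s : G} {K : Subgroup G} [Fintype ↥K]
  {ν : IrrCharacter ↥K} {a : IrrCharacter ↥K → IrrCharacter G → ℤ}

theorem hcommK (h : Setup t s K) : ∀ a b : ↥K, a * b = b * a :=
  fun a b => Subtype.ext (h.comm a a.2 b b.2)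

theorem card_irr_K (h : Setup t s K) : Fintype.card (IrrCharacter ↥K) = Nat.card K := by
  rw [Cfsg.Agent.Lib.Helper75_CommChar.card_irr (hcommK h), Nat.card_eq_fintype_card]

theorem cj_one_K : cj (oneIrr ↥K) = oneIrr ↥K := by
  apply Subtype.ext
  funext g
  simp [oneIrr]

theorem cj_cj (lam : IrrCharacter ↥K) : cj (cj lam) = lam :=
  Cfsg.Agent.Lib.Helper3_RealClasses.conjIrr_conjIrr lam

theorem cj_ne_one {lam : IrrCharacter ↥K} (hl : lam ≠ oneIrr ↥K) : cj lam ≠ oneIrr ↥K := by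
  intro h1
  apply hl
  rw [← cj_cj lam, h1, cj_one_K]

theorem exists_nu (h : Setup t s K) (hB : Basics t s K) :
    ∃ ν : IrrCharacter ↥K, ν ≠ oneIrr ↥K ∧ cj ν = ν ∧
      ∀ lam : IrrCharacter ↥K, cj lam = lam → lam = oneIrr ↥K ∨ lam = ν := by
  refine A1.exists_nu (hcommK h) ⟨t, h.htK⟩ ?_ ?_
  · rw [← h.ht]; exact Subgroup.orderOf_mk t h.htK
  · intro y hy
    apply Subtype.ext
    have h1 : orderOf (y : G) = 2 := by rw [Subgroup.orderOf_coe]; exact hy
    exact hB.eq_t_of_mem y.1 y.2 h1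

theorem charDegree_oneIrr : (charDegree ((oneIrr G : IrrCharacter G) : G → ℂ) : ℤ) = 1 := by
  have h1 := Cfsg.Agent.Lib.Helper77_BlockBasics.apply_one_eq_charDegree (oneIrr G)
  have h2 : ((oneIrr G : IrrCharacter G) : G → ℂ) 1 = 1 := rfl
  rw [h2] at h1
  have h3 : (charDegree ((oneIrr G : IrrCharacter G) : G → ℂ) : ℂ) = ((1 : ℕ) : ℂ) := by
    rw [← h1]; simp
  exact_mod_cast h3


/-- The lattice argument applied to the coefficients: one of the two shapes occurs. -/
theorem exists_shape (h : Setup t s K) (hB : Basics t s K) (hk : 4 ≤ Nat.card K)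
    (C : Coefs K ν a) :
    (∃ (ε : ℤ) (Z : IrrCharacter G) (W : IrrCharacter ↥K → IrrCharacter G)
        (c d : IrrCharacter G) (bc bd : ℤ), GenShape K ν a ε Z W c d bc bd) ∨
      (Fintype.card (IrrCharacter ↥K) = 6 ∧
        ∃ (ε η : ℤ) (Z V : IrrCharacter G) (W : IrrCharacter ↥K → IrrCharacter G),
          WeirdShape K ν a ε η Z V W) := by
  classical
  -- the index set `L`
  have hcardL : Fintype.card {lam : IrrCharacter ↥K // lam ≠ oneIrr ↥K} + 1 =
      Fintype.card (IrrCharacter ↥K) := by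
    have h1 := Fintype.card_subtype_compl (fun lam : IrrCharacter ↥K => lam = oneIrr ↥K)
    have h2 : Fintype.card {lam : IrrCharacter ↥K // lam = oneIrr ↥K} = 1 :=
      Fintype.card_subtype_eq (oneIrr ↥K)
    have h3 : 0 < Fintype.card (IrrCharacter ↥K) := Fintype.card_pos_iff.mpr ⟨oneIrr ↥K⟩
    have h4 : Fintype.card {lam : IrrCharacter ↥K // lam ≠ oneIrr ↥K} =
        Fintype.card {lam : IrrCharacter ↥K // ¬ lam = oneIrr ↥K} := rfl
    rw [h4, h1, h2]
    omega
  set cjL : {lam : IrrCharacter ↥K // lam ≠ oneIrr ↥K} →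
      {lam : IrrCharacter ↥K // lam ≠ oneIrr ↥K} := fun l => ⟨cj l.1, cj_ne_one l.2⟩ with hcjL
  have hcj : ∀ l, cjL (cjL l) = l := fun l => Subtype.ext (cj_cj l.1)
  set νL : {lam : IrrCharacter ↥K // lam ≠ oneIrr ↥K} := ⟨ν, C.hν1⟩ with hνL
  have hνfix : cjL νL = νL := Subtype.ext C.hνr
  have hnr : ∀ l, l ≠ νL → cjL l ≠ l := by
    intro l hl hfix
    have h1 : cj l.1 = l.1 := congrArg Subtype.val hfix
    rcases C.hνu l.1 h1 with h2 | h2
    · exact l.2 h2
    · exact hl (Subtype.ext h2)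
  set aL : {lam : IrrCharacter ↥K // lam ≠ oneIrr ↥K} → IrrCharacter G → ℤ :=
    fun l χ => a l.1 χ with haL
  have h0 : ∀ l, aL l (oneIrr G) = 1 := fun l => coefs_apply_one C h hB l.1 l.2
  have hgram : ∀ l m, ∑ χ, aL l χ * aL m χ =
      2 + (if l = m then 1 else 0) + (if l = cjL m then 1 else 0) := by
    intro l m
    have h1 := coefs_gram C l.1 m.1
    rw [A2.classInner_phi_phi h hB l.1 m.1 l.2 m.2] at h1
    have e1 : (l.1 = m.1) ↔ (l = m) := Subtype.ext_iff.symm
    have e2 : (l.1 = cj m.1) ↔ (l = cjL m) :=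
      ⟨fun hh => Subtype.ext hh, fun hh => congrArg Subtype.val hh⟩
    have h2 : ((∑ χ, aL l χ * aL m χ : ℤ) : ℂ) =
        ((2 + (if l = m then 1 else 0) + (if l = cjL m then 1 else 0) : ℤ) : ℂ) := by
      rw [h1]
      by_cases c1 : l = m <;> by_cases c2 : l = cjL m
      · rw [if_pos (e1.mpr c1), if_pos (e2.mpr c2), if_pos c1, if_pos c2]; norm_num
      · rw [if_pos (e1.mpr c1), if_neg (fun hh => c2 (e2.mp hh)), if_pos c1, if_neg c2]; norm_num
      · rw [if_neg (fun hh => c1 (e1.mp hh)), if_pos (e2.mpr c2), if_neg c1, if_pos c2]; norm_num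
      · rw [if_neg (fun hh => c1 (e1.mp hh)), if_neg (fun hh => c2 (e2.mp hh)), if_neg c1,
          if_neg c2]; norm_num
    exact_mod_cast h2
  have hdeg : ∀ l, ∑ χ, aL l χ * (charDegree (χ : G → ℂ) : ℤ) = 0 :=
    fun l => coefs_deg C h.comm l.1
  have hne : ∃ l, l ≠ νL := by
    apply Fintype.exists_ne_of_one_lt_card
    have := card_irr_K h
    omega
  obtain ⟨ε, Z, W, hε, hZ1, hW, hWinj, hshape, halt⟩ :=
    A3.lattice (oneIrr G) (fun χ => (charDegree (χ : G → ℂ) : ℤ))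
      (fun χ => by exact_mod_cast Cfsg.Agent.Lib.Helper77_BlockBasics.charDegree_pos χ)
      charDegree_oneIrr cjL hcj νL hνfix hnr aL h0 hgram hdeg hne
  -- extend `W` to all of `Irr K`
  set W' : IrrCharacter ↥K → IrrCharacter G :=
    fun lam => if hl : lam = oneIrr ↥K then oneIrr G else W ⟨lam, hl⟩ with hW'def
  have hW' : ∀ (lam : IrrCharacter ↥K) (hl : lam ≠ oneIrr ↥K), W' lam = W ⟨lam, hl⟩ := by
    intro lam hl
    simp only [hW'def, dif_neg hl]
  have hneL : ∀ (lam : IrrCharacter ↥K) (hl : lam ≠ oneIrr ↥K), lam ≠ ν →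
      (⟨lam, hl⟩ : {lam : IrrCharacter ↥K // lam ≠ oneIrr ↥K}) ≠ νL := by
    intro lam hl hlν hh
    exact hlν (congrArg Subtype.val hh)
  -- common facts
  have hWinj' : ∀ lam mu : IrrCharacter ↥K, lam ≠ oneIrr ↥K → lam ≠ ν → mu ≠ oneIrr ↥K →
      mu ≠ ν → (W' lam = W' mu ↔ (lam = mu ∨ lam = cj mu)) := by
    intro lam mu hl hlν hm hmν
    rw [hW' lam hl, hW' mu hm, hWinj ⟨lam, hl⟩ ⟨mu, hm⟩ (hneL lam hl hlν) (hneL mu hm hmν)]
    constructor
    · rintro (hh | hh)
      · left; exact congrArg Subtype.val hh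
      · right; exact congrArg Subtype.val hh
    · rintro (hh | hh)
      · left; exact Subtype.ext hh
      · right; exact Subtype.ext hh
  have haZ : ∀ lam : IrrCharacter ↥K, lam ≠ oneIrr ↥K → lam ≠ ν → a lam Z = ε := by
    intro lam hl hlν
    have h1 := hshape ⟨lam, hl⟩ (hneL lam hl hlν) Z
    rw [ei_ne hZ1, ei_self, ei_ne (hW ⟨lam, hl⟩ (hneL lam hl hlν)).2.symm] at h1
    simpa [haL] using h1
  have haW : ∀ lam : IrrCharacter ↥K, lam ≠ oneIrr ↥K → lam ≠ ν → a lam (W' lam) = -ε := by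
    intro lam hl hlν
    have h1 := hshape ⟨lam, hl⟩ (hneL lam hl hlν) (W ⟨lam, hl⟩)
    rw [ei_ne (hW ⟨lam, hl⟩ (hneL lam hl hlν)).1, ei_ne (hW ⟨lam, hl⟩ (hneL lam hl hlν)).2,
      ei_self] at h1
    rw [hW' lam hl]
    simpa [haL] using h1
  have haO : ∀ lam : IrrCharacter ↥K, lam ≠ oneIrr ↥K → lam ≠ ν → ∀ χ : IrrCharacter G,
      χ ≠ oneIrr G → χ ≠ Z → χ ≠ W' lam → a lam χ = 0 := by
    intro lam hl hlν χ h1 h2 h3
    rw [hW' lam hl] at h3
    have h4 := hshape ⟨lam, hl⟩ (hneL lam hl hlν) χ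
    rw [ei_ne h1, ei_ne h2, ei_ne h3] at h4
    simpa [haL] using h4
  rcases halt with ⟨c, d, bc, bd, hbc, hbd, hcd, hc1, hd1, hcZ, hdZ, hWcd, hν⟩ |
    ⟨hcard5, V, η, hη, hV1, hVZ, hWV, hν⟩
  · left
    refine ⟨ε, Z, W', c, d, bc, bd, ?_⟩
    refine
      { hε := hε, hbc := hbc, hbd := hbd, hZ1 := hZ1, hc1 := hc1, hd1 := hd1, hcZ := hcZ,
        hdZ := hdZ, hcd := hcd, hW := ?_, hWinj := hWinj', a_one := ?_, a_Z := ?_,
        a_W := haW, a_other := haO, a_c := ?_, a_d := ?_, a_ν_other := ?_ }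
    · intro lam hl hlν
      rw [hW' lam hl]
      exact ⟨(hW _ (hneL lam hl hlν)).1, (hW _ (hneL lam hl hlν)).2,
        (hWcd _ (hneL lam hl hlν)).1, (hWcd _ (hneL lam hl hlν)).2⟩
    · intro lam hl
      exact coefs_apply_one C h hB lam hl
    · intro lam hl
      by_cases hlν : lam = ν
      · subst hlν
        have h1 := hν Z
        rw [ei_ne hZ1, ei_self, ei_ne hcZ.symm, ei_ne hdZ.symm] at h1
        simpa [haL, hνL] using h1
      · exact haZ lam hl hlν
    · have h1 := hν c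
      rw [ei_ne hc1, ei_ne hcZ, ei_self, ei_ne hcd] at h1
      simpa [haL, hνL] using h1
    · have h1 := hν d
      rw [ei_ne hd1, ei_ne hdZ, ei_ne hcd.symm, ei_self] at h1
      simpa [haL, hνL] using h1
    · intro χ h1 h2 h3 h4
      have h5 := hν χ
      rw [ei_ne h1, ei_ne h2, ei_ne h3, ei_ne h4] at h5
      simpa [haL, hνL] using h5
  · right
    refine ⟨by omega, ε, η, Z, V, W', ?_⟩
    -- the sum in the formula for `a ν`
    have hsum0 : ∀ χ : IrrCharacter G,
        (∀ lam : IrrCharacter ↥K, lam ≠ oneIrr ↥K → lam ≠ ν → χ ≠ W' lam) →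
        ∑ l ∈ Finset.univ.erase νL, ei (W l) χ = 0 := by
      intro χ hχ
      apply Finset.sum_eq_zero
      intro l hl
      have hlν : l ≠ νL := Finset.ne_of_mem_erase hl
      have h1 : l.1 ≠ ν := fun hh => hlν (Subtype.ext hh)
      have h2 := hχ l.1 l.2 h1
      rw [hW' l.1 l.2] at h2
      exact ei_ne h2
    refine
      { hε := hε, hη := hη, hZ1 := hZ1, hV1 := hV1, hVZ := hVZ, hW := ?_, hWinj := hWinj',
        a_one := ?_, a_Z := haZ, a_W := haW, a_other := haO, a_ν_Z := ?_, a_ν_V := ?_,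
        a_ν_W := ?_, a_ν_other := ?_ }
    · intro lam hl hlν
      rw [hW' lam hl]
      exact ⟨(hW _ (hneL lam hl hlν)).1, (hW _ (hneL lam hl hlν)).2, hWV _ (hneL lam hl hlν)⟩
    · intro lam hl
      exact coefs_apply_one C h hB lam hl
    · have h1 := hν Z
      rw [ei_ne hZ1, ei_ne hVZ.symm, hsum0 Z] at h1
      · have h2 : 2 * a ν Z = 0 := by simpa [haL, hνL] using h1
        omega
      · intro lam hl hlν
        rw [hW' lam hl]
        exact (hW _ (hneL lam hl hlν)).2.symm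
    · have h1 := hν V
      rw [ei_ne hV1, ei_self, hsum0 V] at h1
      · have h2 : 2 * a ν V = 2 * η := by simpa [haL, hνL] using h1
        omega
      · intro lam hl hlν
        rw [hW' lam hl]
        exact (hWV _ (hneL lam hl hlν)).symm
    · intro lam hl hlν
      set l0 : {lam : IrrCharacter ↥K // lam ≠ oneIrr ↥K} := ⟨lam, hl⟩ with hl0
      have hl0ν : l0 ≠ νL := hneL lam hl hlν
      have hc0ν : cjL l0 ≠ νL := by
        intro hh
        apply hl0ν
        rw [← hcj l0, hh, hνfix]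
      have hc0 : cjL l0 ≠ l0 := hnr l0 hl0ν
      have h1 := hν (W l0)
      rw [ei_ne (hW l0 hl0ν).1, ei_ne (hWV l0 hl0ν)] at h1
      have hsum : ∑ l ∈ Finset.univ.erase νL, ei (W l) (W l0) = 2 := by
        have hsub : ({l0, cjL l0} : Finset _) ⊆ Finset.univ.erase νL := by
          intro x hx
          rw [Finset.mem_insert, Finset.mem_singleton] at hx
          rcases hx with rfl | rfl
          · exact Finset.mem_erase.mpr ⟨hl0ν, Finset.mem_univ _⟩
          · exact Finset.mem_erase.mpr ⟨hc0ν, Finset.mem_univ _⟩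
        rw [← Finset.sum_subset hsub]
        · rw [Finset.sum_pair hc0.symm, ei_self]
          have h2 : W (cjL l0) = W l0 :=
            (hWinj (cjL l0) l0 hc0ν hl0ν).mpr (Or.inr rfl)
          rw [h2, ei_self]
          norm_num
        · intro x hx hx2
          have hxν : x ≠ νL := Finset.ne_of_mem_erase hx
          apply ei_ne
          intro hh
          apply hx2
          rw [Finset.mem_insert, Finset.mem_singleton]
          rcases (hWinj l0 x hl0ν hxν).mp hh with h3 | h3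
          · left; exact h3.symm
          · right; rw [h3, hcj]
      rw [hsum] at h1
      rw [hW' lam hl]
      show a ν (W l0) = -ε
      have h2 : 2 * a ν (W l0) = -(ε * 2) := by simpa [haL, hνL] using h1
      omega
    · intro χ h1 h2 h3 h4
      have h5 := hν χ
      rw [ei_ne h1, ei_ne h3, hsum0 χ h4] at h5
      have h6 : 2 * a ν χ = 0 := by simpa [haL, hνL] using h5
      omega


/-- Part A: the character-theoretic data. -/
theorem partA (h : Setup t s K) (hB : Basics t s K) :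
    ∃ (ε : ℤ) (q : ℕ) (St c d : IrrCharacter G) (Θ : Finset (IrrCharacter G)),
      CharData t K ε q St c d Θ := by
  by_cases hk : Nat.card K = 2
  · exact TWO.charData_two h hB hk
  · have hk4 : 4 ≤ Nat.card K := by
      have h1 : orderOf (⟨t, h.htK⟩ : K) = 2 := by
        rw [← h.ht]; exact Subgroup.orderOf_mk t h.htK
      have h2 : orderOf (⟨t, h.htK⟩ : K) ∣ Nat.card K := orderOf_dvd_natCard _
      rw [h1] at h2
      have h3 : 0 < Nat.card K := Nat.card_pos
      obtain ⟨r, hr⟩ := h2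
      omega
    obtain ⟨ν, hν1, hνr, hνu⟩ := exists_nu h hB
    have C := coefs_coefK (G := G) ν hν1 hνr hνu
    rcases exists_shape h hB hk4 C with ⟨ε, Z, W, c, d, bc, bd, S⟩ | ⟨hcard, ε, η, Z, V, W, S⟩
    · have V := GEN1.values_gen h.comm C S
      have A := GEN2.arith_of_gen h hB hk4 C S V
      obtain ⟨Θ, D⟩ := GEN3.charData_gen h hB hk4 C S V A
      exact ⟨ε, _, Z, c, d, Θ, D⟩
    · exact (WEIRD.false_of_weird h hB hcard C S).elim

end Cfsg.Agent.Lib.Helper77_BSWPartA
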