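import Cfsg.Agent.Lib.Helper77_BSWDefs
import Cfsg.Agent.Lib.Helper77_BSWPackages

/-!
# Brauer–Suzuki–Wall, Part B assembly: from `CharData` to the conclusion of S3282 (helper77)
-/

set_option autoImplicit false
set_option linter.unusedSectionVars false
open Cfsg
open scoped ComplexConjugate

namespace Cfsg.Agent.Lib.Helper77_BSWPartB

open Cfsg.Agent.Lib.Helper77_BSWDefs Cfsg.Agent.Lib.Helper80_CharBasic
  Cfsg.Agent.Lib.Helper3_CharComplete
open Cfsg.Agent.Lib.Helper77_BSWPackages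

/-- The conclusion of S3282. -/
def Concl (G : Type*) [Group G] : Prop :=
  ∃ Q D : Subgroup G, 2 * Nat.card G = Nat.card ↥Q * (Nat.card ↥Q + 1) * (Nat.card ↥Q - 1) ∧
      (∀ x ∈ Q, x ≠ 1 → Subgroup.centralizer ({x} : Set G) = Q) ∧
      IsMulCommutative ↥D ∧ 2 * Nat.card ↥D + 1 = Nat.card ↥Q ∧ Q ⊓ D = ⊥ ∧
      Subgroup.normalizer (Q : Set G) = Q ⊔ D ∧
      ∀ X : Subgroup G, X ≤ D → X ≠ ⊥ →
        Subgroup.normalizer (X : Set G) = Subgroup.normalizer (D : Set G) ∧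
        ∃ u : G, orderOf u = 2 ∧ u ∉ D ∧ (∀ d ∈ D, u * d * u⁻¹ = d⁻¹) ∧
          Subgroup.normalizer (D : Set G) = D ⊔ Subgroup.zpowers u

section

variable {G : Type*} [Group G] [Fintype G] {t s : G} {K : Subgroup G} {ε : ℤ} {q : ℕ}
  {St c d : IrrCharacter G} {Θ : Finset (IrrCharacter G)}

theorem two_le_card (h : Setup t s K) : 2 ≤ Nat.card K := by
  have h1 : orderOf (⟨t, h.htK⟩ : K) = 2 := by
    rw [← h.ht]
    exact Subgroup.orderOf_mk t h.htK
  have h2 : orderOf (⟨t, h.htK⟩ : K) ∣ Nat.card K := orderOf_dvd_natCard _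
  rw [h1] at h2
  exact Nat.le_of_dvd Nat.card_pos h2

theorem q_facts (h : Setup t s K) (D : CharData t K ε q St c d Θ) :
    3 ≤ q ∧ Odd q := by
  have hk := two_le_card h
  have hq := D.hq
  rcases D.hε with rfl | rfl
  · constructor
    · omega
    · rw [← Int.odd_coe_nat, hq]; exact ⟨Nat.card K, by ring⟩
  · constructor
    · omega
    · rw [← Int.odd_coe_nat, hq]; exact ⟨Nat.card K - 1, by ring⟩

theorem card_G_int (h : Setup t s K) (D : CharData t K ε q St c d Θ) :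
    (Nat.card G : ℤ) = (q : ℤ) * (2 * (Nat.card K : ℤ)) * ((Nat.card K : ℤ) + ε) := by
  have hq3 := (q_facts h D).1
  have h1 : (2 * Nat.card G : ℤ) = (q : ℤ) * ((q : ℤ) + 1) * ((q : ℤ) - 1) := by
    have := D.card_G
    have h2 : ((2 * Nat.card G : ℕ) : ℤ) = ((q * (q + 1) * (q - 1) : ℕ) : ℤ) := by rw [this]
    rw [Nat.cast_mul, Nat.cast_mul, Nat.cast_mul, Nat.cast_sub (by omega)] at h2
    simpa using h2
  have hε2 : ε * ε = 1 := by rcases D.hε with rfl | rfl <;> norm_num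
  rw [D.hq] at h1
  have : (2 * Nat.card G : ℤ) = 2 * ((2 * (Nat.card K : ℤ) + ε) * (2 * (Nat.card K : ℤ)) *
      ((Nat.card K : ℤ) + ε)) := by
    rw [h1]; linear_combination (2 * (Nat.card K : ℤ) + ε) * (hε2)
  rw [D.hq]
  linarith


/-- A prime divisor of `|G|` divides `q`, `2k` or `k + ε`. -/
theorem prime_trichotomy (h : Setup t s K) (D : CharData t K ε q St c d Θ) {l : ℕ}
    (hl : l.Prime) (hlG : l ∣ Nat.card G) :
    l ∣ q ∨ l ∣ 2 * Nat.card K ∨ (l : ℤ) ∣ (Nat.card K : ℤ) + ε := by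
  have h1 : (l : ℤ) ∣ (Nat.card G : ℤ) := Int.natCast_dvd_natCast.mpr hlG
  rw [card_G_int h D] at h1
  have hlp : Prime (l : ℤ) := Nat.prime_iff_prime_int.mp hl
  rcases hlp.dvd_or_dvd h1 with h2 | h2
  · rcases hlp.dvd_or_dvd h2 with h3 | h3
    · left; exact Int.natCast_dvd_natCast.mp h3
    · right; left
      have : (l : ℤ) ∣ ((2 * Nat.card K : ℕ) : ℤ) := by simpa using h3
      exact Int.natCast_dvd_natCast.mp this
  · right; right; exact h2

/-- The elements `≠ 1` have an order divisible by a prime. -/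
theorem exists_prime_dvd_orderOf {g : G} (hg : g ≠ 1) :
    ∃ l : ℕ, l.Prime ∧ l ∣ orderOf g ∧ l ∣ Nat.card G := by
  have h1 : orderOf g ≠ 1 := by
    intro h; exact hg (orderOf_eq_one_iff.mp h)
  obtain ⟨l, hl, hlg⟩ := Nat.exists_prime_and_dvd h1
  exact ⟨l, hl, hlg, hlg.trans (orderOf_dvd_natCard g)⟩

theorem conjInto_one : ConjInto K (1 : G) := ⟨1, by simp [K.one_mem]⟩

theorem conjInto_conj {g : G} (x : G) : ConjInto K (x * g * x⁻¹) ↔ ConjInto K g := by
  constructor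
  · rintro ⟨y, hy⟩
    refine ⟨x⁻¹ * y, ?_⟩
    have : (x⁻¹ * y)⁻¹ * g * (x⁻¹ * y) = y⁻¹ * (x * g * x⁻¹) * y := by group
    rw [this]; exact hy
  · rintro ⟨y, hy⟩
    refine ⟨x * y, ?_⟩
    have : (x * y)⁻¹ * (x * g * x⁻¹) * (x * y) = y⁻¹ * g * y := by group
    rw [this]; exact hy

/-- A prime cannot divide both `q` and `2k`. -/
theorem not_dvd_both (D : CharData t K ε q St c d Θ) {l : ℕ} (hl : l.Prime) (h1 : l ∣ q)
    (h2 : l ∣ 2 * Nat.card K) : False := by
  have h3 : (l : ℤ) ∣ (q : ℤ) := Int.natCast_dvd_natCast.mpr h1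
  have h4 : (l : ℤ) ∣ 2 * (Nat.card K : ℤ) := by
    have := Int.natCast_dvd_natCast.mpr h2
    simpa using this
  rw [D.hq] at h3
  have h5 : (l : ℤ) ∣ ε := (Int.dvd_add_right h4).mp h3
  have h6 : (l : ℤ) ∣ 1 := by
    rcases D.hε with rfl | rfl
    · exact h5
    · simpa using h5
  have := Int.natCast_dvd_natCast.mp (by simpa using h6 : (l : ℤ) ∣ ((1 : ℕ) : ℤ))
  exact hl.one_lt.ne' (Nat.dvd_one.mp this)

/-- A prime cannot divide both `q` and `k + ε`. -/
theorem not_dvd_both' (D : CharData t K ε q St c d Θ) {l : ℕ} (hl : l.Prime) (h1 : l ∣ q)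
    (h2 : (l : ℤ) ∣ (Nat.card K : ℤ) + ε) : False := by
  have h3 : (l : ℤ) ∣ (q : ℤ) := Int.natCast_dvd_natCast.mpr h1
  rw [D.hq] at h3
  -- 2k + ε = 2 (k + ε) - ε
  have h5 : (l : ℤ) ∣ ε := by
    have : ε = 2 * ((Nat.card K : ℤ) + ε) - (2 * (Nat.card K : ℤ) + ε) := by ring
    rw [this]; exact dvd_sub (Dvd.dvd.mul_left h2 2) h3
  have h6 : (l : ℤ) ∣ 1 := by
    rcases D.hε with rfl | rfl
    · exact h5
    · simpa using h5
  have := Int.natCast_dvd_natCast.mp (by simpa using h6 : (l : ℤ) ∣ ((1 : ℕ) : ℤ))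
  exact hl.one_lt.ne' (Nat.dvd_one.mp this)


theorem St_off' (h : Setup t s K) (hB : Basics t s K) (D : CharData t K ε q St c d Θ) :
    ∀ g : G, ¬ ConjInto K g → (St : G → ℂ) g = 0 ∨ (St : G → ℂ) g = -(ε : ℂ) := fun g hg =>
  (B1.St_off h hB D hg).elim (fun h => Or.inl h.1) (fun h => Or.inr h.1)

theorem invCount_eq (h : Setup t s K) (hB : Basics t s K) (D : CharData t K ε q St c d Θ)
    {g : G} (hg : ¬ ConjInto K g) :
    (invCount g : ℂ) = ((q : ℂ) - 1) / 2 * (St : G → ℂ) g + (1 + (ε : ℂ)) / 2 * (q : ℂ) :=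
  B3.invCount_off h hB D (St_off' h hB D)
    (INV.pairCount_formula t h.ht (fun u hu => h.hconj u t hu h.ht))
    (fun g hg => INV.pairCount_eq_invCount g hg) hg

theorem invCount_zero_plus (h : Setup t s K) (hB : Basics t s K)
    (D : CharData t K 1 q St c d Θ) {x : G} (hx : ¬ ConjInto K x)
    (hx0 : (St : G → ℂ) x = 0) : invCount x = q := by
  have h1 := invCount_eq h hB D hx
  rw [hx0] at h1
  have h2 : (invCount x : ℂ) = (q : ℂ) := by rw [h1]; push_cast; ring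
  exact_mod_cast h2

theorem invCount_torus (h : Setup t s K) (hB : Basics t s K) (D : CharData t K ε q St c d Θ)
    {g : G} (hg : ¬ ConjInto K g) (hg0 : (St : G → ℂ) g = -(ε : ℂ)) :
    (invCount g : ℤ) = (Nat.card K : ℤ) + ε := by
  have h1 := invCount_eq h hB D hg
  rw [hg0] at h1
  have hq : (q : ℂ) = 2 * (Nat.card K : ℂ) + (ε : ℂ) := by
    have := D.hq
    have h2 : ((q : ℤ) : ℂ) = ((2 * (Nat.card K : ℤ) + ε : ℤ) : ℂ) := by rw [this]
    push_cast at h2; exact h2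
  have hε2 : (ε : ℂ) * (ε : ℂ) = 1 := by
    rcases D.hε with rfl | rfl <;> norm_num
  have h2 : (invCount g : ℂ) = (Nat.card K : ℂ) + (ε : ℂ) := by
    rw [h1, hq]; linear_combination (0 : ℂ) * hε2
  have h3 : (((invCount g : ℤ)) : ℂ) = (((Nat.card K : ℤ) + ε : ℤ) : ℂ) := by
    push_cast; exact h2
  exact_mod_cast h3

/-- Inversion by an element makes a subgroup commutative. -/
theorem comm_of_inverted {H : Subgroup G} {u : G} (hu : ∀ a ∈ H, u * a * u⁻¹ = a⁻¹) :
    ∀ a ∈ H, ∀ b ∈ H, a * b = b * a := by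
  intro a ha b hb
  have h1 := hu (a * b) (H.mul_mem ha hb)
  have h2 : u * (a * b) * u⁻¹ = (u * a * u⁻¹) * (u * b * u⁻¹) := by group
  rw [h2, hu a ha, hu b hb] at h1
  have h3 : (a⁻¹ * b⁻¹)⁻¹ = ((a * b)⁻¹)⁻¹ := by rw [h1]
  simpa using h3.symm


theorem hSt0 (D : CharData t K ε q St c d Θ) :
    ∀ (p : ℕ), p.Prime → p ∣ q → ∀ g : G, p ∣ orderOf g → (St : G → ℂ) g = 0 :=
  fun _ hp hpq _ hg => B1.St_eq_zero_of_dvd D hp hpq hg

theorem hcd0 (D : CharData t K ε q St c d Θ) :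
    ∀ (r : ℕ), r.Prime → (r : ℤ) ∣ (Nat.card K : ℤ) + ε → ∀ g : G, r ∣ orderOf g →
      (c : G → ℂ) g = 0 ∧ (d : G → ℂ) g = 0 :=
  fun _ hr hrk _ hg => B1.cd_eq_zero_of_dvd D hr hrk hg

theorem hconjd (h : Setup t s K) (hB : Basics t s K) (D : CharData t K ε q St c d Θ) :
    ∀ (l : ℕ), l.Prime → l ∣ 2 * Nat.card K → ∀ g : G, l ∣ orderOf g → ConjInto K g :=
  fun _ hl hlk _ hg => B1.conjInto_of_dvd h hB D hl hlk hg

/-- Case `ε = 1`: the centralizer of an element with `St = 0` is abelian of order `q`. -/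
theorem cent_plus (h : Setup t s K) (hB : Basics t s K) (D : CharData t K 1 q St c d Θ)
    {x : G} (hx : ¬ ConjInto K x) (hx0 : (St : G → ℂ) x = 0) :
    Nat.card (Subgroup.centralizer ({x} : Set G)) = q ∧
      ∀ a ∈ Subgroup.centralizer ({x} : Set G), ∀ b ∈ Subgroup.centralizer ({x} : Set G),
        a * b = b * a := by
  have h1 := B4.card_centralizer_dvd_q h hB D (hSt0 D) (hcd0 D) (hconjd h hB D) hx hx0
  have hq3 := (q_facts h D).1
  obtain ⟨h2, u, _, hu⟩ := B4.lemmaR x q (by omega) (invCount_zero_plus h hB D hx hx0) h1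
  exact ⟨h2, comm_of_inverted hu⟩

/-- Both signs: the centralizer of an element with `St = -ε` has order `k + ε` and is inverted by
an involution. -/
theorem cent_torus (h : Setup t s K) (hB : Basics t s K) (D : CharData t K ε q St c d Θ)
    {g : G} (hg : ¬ ConjInto K g) (hg0 : (St : G → ℂ) g = -(ε : ℂ)) :
    (Nat.card (Subgroup.centralizer ({g} : Set G)) : ℤ) = (Nat.card K : ℤ) + ε ∧
      ∃ u : G, orderOf u = 2 ∧ ∀ a ∈ Subgroup.centralizer ({g} : Set G), u * a * u⁻¹ = a⁻¹ := by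
  have h1 := B4.card_centralizer_dvd_k h hB D (hSt0 D) (hcd0 D) (hconjd h hB D) hg hg0
  have h2 := invCount_torus h hB D hg hg0
  have hk := two_le_card h
  have hpos : 0 < invCount g := by
    have : (0 : ℤ) < (invCount g : ℤ) := by
      rw [h2]; rcases D.hε with rfl | rfl <;> omega
    exact_mod_cast this
  rw [← h2] at h1
  obtain ⟨h3, hu⟩ := B4.lemmaR g (invCount g) hpos rfl (Int.natCast_dvd_natCast.mp h1)
  refine ⟨?_, hu⟩
  rw [h3, h2]

/-- Off the conjugates of `K`, `c` and `d` vanish at the elements of order prime to `q`. -/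
theorem cd_zero_of_coprime (h : Setup t s K) (hB : Basics t s K)
    (D : CharData t K ε q St c d Θ) {g : G} (hg : ¬ ConjInto K g)
    (hco : Nat.Coprime (orderOf g) q) : (c : G → ℂ) g = 0 ∧ (d : G → ℂ) g = 0 := by
  have hg1 : g ≠ 1 := by rintro rfl; exact hg conjInto_one
  obtain ⟨l, hl, hlg, hlG⟩ := exists_prime_dvd_orderOf hg1
  rcases prime_trichotomy h D hl hlG with h1 | h1 | h1
  · exfalso
    have : l ∣ Nat.gcd (orderOf g) q := Nat.dvd_gcd hlg h1
    rw [hco] at this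
    exact hl.one_lt.ne' (Nat.dvd_one.mp this)
  · exact absurd (hconjd h hB D l hl h1 g hlg) hg
  · exact hcd0 D l hl h1 g hlg


/-- Non-identity elements of the centralizer of an element of the set `{¬ ConjInto, St = 0}` are
again in this set. -/
theorem mem_of_mem_centralizer (h : Setup t s K) (hB : Basics t s K)
    (D : CharData t K ε q St c d Θ)
    (hcent : ∀ x : G, ¬ ConjInto K x → (St : G → ℂ) x = 0 →
      Nat.card (Subgroup.centralizer ({x} : Set G)) = q)
    {x : G} (hx : ¬ ConjInto K x) (hx0 : (St : G → ℂ) x = 0) {z : G}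
    (hz : z ∈ Subgroup.centralizer ({x} : Set G)) (hz1 : z ≠ 1) :
    ¬ ConjInto K z ∧ (St : G → ℂ) z = 0 := by
  have h1 : orderOf z ∣ q := by
    have h2 : orderOf (⟨z, hz⟩ : Subgroup.centralizer ({x} : Set G)) ∣
        Nat.card (Subgroup.centralizer ({x} : Set G)) := orderOf_dvd_natCard _
    rw [hcent x hx hx0, Subgroup.orderOf_mk] at h2
    exact h2
  obtain ⟨p, hp, hpz, _⟩ := exists_prime_dvd_orderOf hz1
  have hpq : p ∣ q := hpz.trans h1
  refine ⟨?_, hSt0 D p hp hpq z hpz⟩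
  intro hc
  have h3 : p ∣ 2 * Nat.card K := Dvd.dvd.mul_left (hpz.trans (hB.orderOf_dvd z hc)) 2
  exact not_dvd_both D hp hpq h3

theorem conj_closed (x v : G) :
    (¬ ConjInto K (x * v * x⁻¹) ∧ (St : G → ℂ) (x * v * x⁻¹) = 0) ↔
      (¬ ConjInto K v ∧ (St : G → ℂ) v = 0) := by
  rw [conjInto_conj, irr_conj]

/-- Case `ε = -1`: the centralizer of an element with `St = 0` is abelian of order `q`. -/
theorem cent_minus (h : Setup t s K) (hB : Basics t s K) (D : CharData t K (-1) q St c d Θ)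
    {x : G} (hx : ¬ ConjInto K x) (hx0 : (St : G → ℂ) x = 0) :
    Nat.card (Subgroup.centralizer ({x} : Set G)) = q ∧
      ∀ a ∈ Subgroup.centralizer ({x} : Set G), ∀ b ∈ Subgroup.centralizer ({x} : Set G),
        a * b = b * a := by
  classical
  have hoff : ∀ g : G, ¬ ConjInto K g → (St : G → ℂ) g = 0 ∨ (St : G → ℂ) g = 1 := by
    intro g hg
    rcases St_off' h hB D g hg with h1 | h1
    · exact Or.inl h1
    · right; rw [h1]; norm_num
  have hcard := B2.card_Piq h hB D (St_off' h hB D)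
  have hdvd : ∀ x : G, ¬ ConjInto K x → (St : G → ℂ) x = 0 →
      Nat.card (Subgroup.centralizer ({x} : Set G)) ∣ q := fun x hx hx0 =>
    B4.card_centralizer_dvd_q h hB D (hSt0 D) (hcd0 D) (hconjd h hB D) hx hx0
  have hcent : ∀ x : G, ¬ ConjInto K x → (St : G → ℂ) x = 0 →
      Nat.card (Subgroup.centralizer ({x} : Set G)) = q := fun x hx hx0 =>
    B5a.card_centralizer_Piq h hB D hcard hdvd hx hx0
  have hcd0' : ∀ g : G, ¬ ConjInto K g → (St : G → ℂ) g = 1 →
      (c : G → ℂ) g = 0 ∧ (d : G → ℂ) g = 0 := by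
    intro g hg hg1
    rcases B1.St_off h hB D hg with ⟨h1, _⟩ | ⟨_, h2⟩
    · rw [hg1] at h1; exact absurd h1 one_ne_zero
    · exact cd_zero_of_coprime h hB D hg h2
  have tab := fun (y : G) (hy : ¬ ConjInto K y) (hy0 : (St : G → ℂ) y = 0) =>
    B5b.table_minus h hB D hoff hcd0' hcard hcent hy hy0
  have hcd := B5c.conj_c_eq_d h hB D x hx hx0 (tab x hx hx0).1
  set S : Finset G := Finset.univ.filter (fun g => ¬ ConjInto K g ∧ (St : G → ℂ) g = 0) with hSdef
  have hS : ∀ g : G, g ∈ S ↔ ¬ ConjInto K g ∧ (St : G → ℂ) g = 0 := by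
    intro g; simp [hSdef]
  have hScard : S.card = q ^ 2 - 1 := by
    rw [← hcard, Nat.card_eq_fintype_card]
    exact (Fintype.card_of_subtype S hS).symm
  have hSconj : ∀ v ∈ S, ∀ x : G, x * v * x⁻¹ ∈ S := by
    intro v hv x
    rw [hS] at hv ⊢
    exact (conj_closed x v).mpr hv
  have hconv := fun y => CONV.conv_formula S hSconj y
  have hcount : ∀ y ∈ S, (S.filter (fun v => v⁻¹ * y ∈ S)).card = 2 * (q - 1) :=
    fun y hy => B5d.count_minus h hB D S hS hScard hconv hcd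
      (fun y hy => (tab y ((hS y).mp hy).1 ((hS y).mp hy).2).2) hy
  refine ⟨hcent x hx hx0, ?_⟩
  have hS1 : (1 : G) ∉ S := by
    rw [hS]; intro h1; exact h1.1 conjInto_one
  exact B5e.comm_of_count q (q_facts h D).2 S hS1
    (fun x hx => hcent x ((hS x).mp hx).1 ((hS x).mp hx).2)
    (fun x hx z hz hz1 => (hS z).mpr
      (mem_of_mem_centralizer h hB D hcent ((hS x).mp hx).1 ((hS x).mp hx).2 hz hz1))
    (fun y hy => le_of_eq (hcount y hy)) ((hS x).mpr ⟨hx, hx0⟩)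


theorem centralizer_conj (g x : G) :
    Subgroup.centralizer ({g * x * g⁻¹} : Set G) =
      (Subgroup.centralizer ({x} : Set G)).map (MulAut.conj g).toMonoidHom := by
  ext y
  rw [Subgroup.mem_centralizer_singleton_iff, Subgroup.mem_map]
  constructor
  · intro hy
    refine ⟨g⁻¹ * y * g, ?_, ?_⟩
    · rw [Subgroup.mem_centralizer_singleton_iff]
      have h1 : g⁻¹ * (g * x * g⁻¹ * y) * g = g⁻¹ * (y * (g * x * g⁻¹)) * g := by rw [hy]
      have h2 : g⁻¹ * (g * x * g⁻¹ * y) * g = x * (g⁻¹ * y * g) := by group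
      have h3 : g⁻¹ * (y * (g * x * g⁻¹)) * g = g⁻¹ * y * g * x := by group
      rw [← h2, ← h3, h1]
    · simp [MulAut.conj_apply]; group
  · rintro ⟨a, ha, rfl⟩
    rw [Subgroup.mem_centralizer_singleton_iff] at ha
    simp only [MulEquiv.coe_toMonoidHom, MulAut.conj_apply]
    have h2 : g * x * g⁻¹ * (g * a * g⁻¹) = g * (x * a) * g⁻¹ := by group
    have h3 : g * a * g⁻¹ * (g * x * g⁻¹) = g * (a * x) * g⁻¹ := by group
    rw [h2, h3, ha]

/-- The family of the centralizers of the elements with `St = 0` (application of `B6a`). -/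
theorem exists_pair (h : Setup t s K) (hB : Basics t s K) (D : CharData t K ε q St c d Θ)
    (hcent : ∀ x : G, ¬ ConjInto K x → (St : G → ℂ) x = 0 →
      Nat.card (Subgroup.centralizer ({x} : Set G)) = q)
    (hcomm : ∀ x : G, ¬ ConjInto K x → (St : G → ℂ) x = 0 →
      ∀ a ∈ Subgroup.centralizer ({x} : Set G), ∀ b ∈ Subgroup.centralizer ({x} : Set G),
        a * b = b * a) :
    ∃ Q Q' : Subgroup G, Q ≠ Q' ∧ Nat.card Q = q ∧ Nat.card Q' = q ∧
      (∀ x ∈ Q, x ≠ 1 → (¬ ConjInto K x ∧ (St : G → ℂ) x = 0) ∧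
        Subgroup.centralizer ({x} : Set G) = Q) ∧
      (∀ x ∈ Q', x ≠ 1 → (¬ ConjInto K x ∧ (St : G → ℂ) x = 0) ∧
        Subgroup.centralizer ({x} : Set G) = Q') ∧
      2 * Nat.card (Subgroup.normalizer (Q : Set G)) = q * (q - 1) ∧
      2 * Nat.card (Subgroup.normalizer (Q : Set G) ⊓ Subgroup.normalizer (Q' : Set G) :
        Subgroup G) + 1 = q ∧
      Q ⊓ (Subgroup.normalizer (Q : Set G) ⊓ Subgroup.normalizer (Q' : Set G)) = ⊥ ∧
      Subgroup.normalizer (Q : Set G) =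
        Q ⊔ (Subgroup.normalizer (Q : Set G) ⊓ Subgroup.normalizer (Q' : Set G)) ∧
      (∀ z ∈ Q, z ∈ Subgroup.normalizer (Q' : Set G) → z = 1) ∧
      (∀ x : G, ¬ ConjInto K x → (St : G → ℂ) x = 0 →
        Subgroup.centralizer ({x} : Set G) = Q ∨
        ∃ z ∈ Q, Subgroup.centralizer ({x} : Set G) = Q'.map (MulAut.conj z).toMonoidHom) := by
  classical
  set S : Finset G := Finset.univ.filter (fun g => ¬ ConjInto K g ∧ (St : G → ℂ) g = 0) with hSdef
  have hS : ∀ g : G, g ∈ S ↔ ¬ ConjInto K g ∧ (St : G → ℂ) g = 0 := by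
    intro g; simp [hSdef]
  have hcard := B2.card_Piq h hB D (St_off' h hB D)
  have hScard : S.card = q ^ 2 - 1 := by
    rw [← hcard, Nat.card_eq_fintype_card]
    exact (Fintype.card_of_subtype S hS).symm
  have hSconj : ∀ v ∈ S, ∀ x : G, x * v * x⁻¹ ∈ S := by
    intro v hv x
    rw [hS] at hv ⊢
    exact (conj_closed x v).mpr hv
  have hS1 : (1 : G) ∉ S := by
    rw [hS]; intro h1; exact h1.1 conjInto_one
  obtain ⟨Q, Q', h1, h2, h3, h4, h5, h6, h7, h8, h9, h10, h11⟩ :=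
    B6a.exists_pair q (q_facts h D).2 (q_facts h D).1 S hS1 hSconj D.card_G hScard
      (fun x hx => hcent x ((hS x).mp hx).1 ((hS x).mp hx).2)
      (fun x hx z hz hz1 => (hS z).mpr
        (mem_of_mem_centralizer h hB D hcent ((hS x).mp hx).1 ((hS x).mp hx).2 hz hz1))
      (fun x hx => hcomm x ((hS x).mp hx).1 ((hS x).mp hx).2)
  refine ⟨Q, Q', h1, h2, h3, ?_, ?_, h6, h7, h8, h9, h10, ?_⟩
  · intro x hx hx1
    exact ⟨(hS x).mp (h4 x hx hx1).1, (h4 x hx hx1).2⟩
  · intro x hx hx1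
    exact ⟨(hS x).mp (h5 x hx hx1).1, (h5 x hx hx1).2⟩
  · intro x hx hx0
    exact h11 x ((hS x).mpr ⟨hx, hx0⟩)


/-- Case `ε = 1`. -/
theorem partB_plus (h : Setup t s K) (hB : Basics t s K) (D : CharData t K 1 q St c d Θ) :
    Concl G := by
  obtain ⟨Q, Q', _, hQ, _, h4, _, h6, _, _, _, _, _⟩ :=
    exists_pair h hB D (fun x hx hx0 => (cent_plus h hB D hx hx0).1)
      (fun x hx hx0 => (cent_plus h hB D hx hx0).2)
  have hq : q = 2 * Nat.card K + 1 := by
    have := D.hq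
    omega
  obtain ⟨E, hE1, hE2, hE3, hE4, hE5⟩ :=
    B6b.exists_D_plus h hB q hq Q hQ (fun x hx hx1 => (h4 x hx hx1).2) h6
  refine ⟨Q, E, ?_, fun x hx hx1 => (h4 x hx hx1).2, hE1, ?_, hE3, hE4, hE5⟩
  · rw [hQ]; exact D.card_G
  · rw [hQ]; exact hE2

/-- Case `ε = -1`. -/
theorem partB_minus (h : Setup t s K) (hB : Basics t s K) (D : CharData t K (-1) q St c d Θ) :
    Concl G := by
  have hcent := fun (x : G) (hx : ¬ ConjInto K x) (hx0 : (St : G → ℂ) x = 0) =>
    (cent_minus h hB D hx hx0).1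
  obtain ⟨Q, Q', hne, hQ, hQ', h4, h5, h6, h7, h8, h9, h10, h11⟩ :=
    exists_pair h hB D hcent (fun x hx hx0 => (cent_minus h hB D hx hx0).2)
  have hk := two_le_card h
  have hq : q + 1 = 2 * Nat.card K := by
    have := D.hq
    omega
  have hq3 := (q_facts h D).1
  -- the torus
  have htor : ∀ g : G, g ≠ 1 → orderOf g ∣ Nat.card K - 1 →
      Nat.card (Subgroup.centralizer ({g} : Set G)) = Nat.card K - 1 ∧
      ∃ u : G, orderOf u = 2 ∧ ∀ a ∈ Subgroup.centralizer ({g} : Set G), u * a * u⁻¹ = a⁻¹ := by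
    intro g hg1 hgk
    have hgK : ¬ ConjInto K g := by
      intro hc
      have h1 := hB.orderOf_dvd g hc
      have h2 : orderOf g ∣ Nat.card K - (Nat.card K - 1) := Nat.dvd_sub h1 hgk
      have h3 : Nat.card K - (Nat.card K - 1) = 1 := by omega
      rw [h3] at h2
      exact hg1 (orderOf_eq_one_iff.mp (Nat.dvd_one.mp h2))
    have hco : Nat.Coprime (orderOf g) q := by
      apply Nat.Coprime.coprime_dvd_left hgk
      have h3 : q = 2 * (Nat.card K - 1) + 1 := by omega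
      rw [h3]
      simp
    have hSt : (St : G → ℂ) g = -(((-1 : ℤ)) : ℂ) := by
      rcases B1.St_off h hB D hgK with ⟨_, h2⟩ | ⟨h1, _⟩
      · exact absurd hco h2
      · exact h1
    obtain ⟨h1, h2⟩ := cent_torus h hB D hgK hSt
    refine ⟨?_, h2⟩
    omega
  -- transitivity
  have hex : ∀ P : Subgroup G, Nat.card P = q → ∃ x ∈ P, x ≠ 1 := by
    intro P hP
    by_contra hcon
    push_neg at hcon
    have : P = ⊥ := (Subgroup.eq_bot_iff_forall P).mpr hcon
    rw [this, Subgroup.card_bot] at hP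
    omega
  have htrans : ∀ g : G, Q.map (MulAut.conj g).toMonoidHom = Q ∨
      ∃ z ∈ Q, Q.map (MulAut.conj g).toMonoidHom = Q'.map (MulAut.conj z).toMonoidHom := by
    intro g
    obtain ⟨x, hx, hx1⟩ := hex Q hQ
    obtain ⟨hxS, hxC⟩ := h4 x hx hx1
    have h1 := h11 (g * x * g⁻¹) ((conj_closed g x).mpr hxS).1 ((conj_closed g x).mpr hxS).2
    rw [centralizer_conj, hxC] at h1
    exact h1
  have htrans' : ∀ g : G, Q'.map (MulAut.conj g).toMonoidHom = Q ∨
      ∃ z ∈ Q, Q'.map (MulAut.conj g).toMonoidHom = Q'.map (MulAut.conj z).toMonoidHom := by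
    intro g
    obtain ⟨x, hx, hx1⟩ := hex Q' hQ'
    obtain ⟨hxS, hxC⟩ := h5 x hx hx1
    have h1 := h11 (g * x * g⁻¹) ((conj_closed g x).mpr hxS).1 ((conj_closed g x).mpr hxS).2
    rw [centralizer_conj, hxC] at h1
    exact h1
  obtain ⟨E, hE1, hE2, hE3, hE4, hE5⟩ :=
    B6c.exists_D_minus h hB q hq htor Q Q' hne hQ hQ' (fun x hx hx1 => (h4 x hx hx1).2)
      (fun x hx hx1 => (h5 x hx hx1).2) h7 h8 h9 h10 htrans htrans'
  refine ⟨Q, E, ?_, fun x hx hx1 => (h4 x hx hx1).2, hE1, ?_, hE3, hE4, hE5⟩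
  · rw [hQ]; exact D.card_G
  · rw [hQ]; exact hE2

/-- Part B: from `CharData` to the conclusion of S3282. -/
theorem partB (h : Setup t s K) (hB : Basics t s K) (D : CharData t K ε q St c d Θ) :
    Concl G := by
  rcases D.hε with rfl | rfl
  · exact partB_plus h hB D
  · exact partB_minus h hB D

end

end Cfsg.Agent.Lib.Helper77_BSWPartB
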