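import Mathlib
import Cfsg.Agent.S3282
import Cfsg.Agent.Lib.Helper22_Basic

/-!
# S4016-BSWFIN (package of helper87's S4016 market; formalized by helper12)

The final contradiction of S4016 in the case `p = 3`: the configuration satisfies the hypotheses of
the abstract Brauer–Suzuki–Wall theorem (landed `Cfsg.Agent.S3282.result`), and its conclusion
contradicts "all `3'`-subgroups are abelian".
-/

set_option autoImplicit false

namespace Cfsg.Agent.Lib.Helper12_S4016_BSWFIN

open Subgroup

/-- Elements of `zpowers u` for an involution-like `u`. -/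
theorem eq_one_or_eq_of_mem_zpowers {G : Type*} [Group G] {u z : G} (hu : u * u = 1)
    (hz : z ∈ zpowers u) : z = 1 ∨ z = u := by
  obtain ⟨k, rfl⟩ := Subgroup.mem_zpowers_iff.mp hz
  have h2 : u ^ (2 : ℤ) = 1 := by
    rw [zpow_ofNat, pow_two, hu]
  rcases Int.emod_two_eq_zero_or_one k with h | h
  · left
    have : k = 2 * (k / 2) := by omega
    rw [this, zpow_mul, h2, one_zpow]
  · right
    have : k = 2 * (k / 2) + 1 := by omega
    rw [this, zpow_add, zpow_mul, h2, one_zpow, one_mul, zpow_one]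

/-- `u` with `u² = 1` mapping `A` into itself normalizes `A`. -/
theorem mem_normalizer_of_sq {G : Type*} [Group G] (A : Subgroup G) {u : G} (hu : u * u = 1)
    (hn : ∀ a ∈ A, u * a * u⁻¹ ∈ A) : u ∈ normalizer (A : Set G) := by
  rw [mem_normalizer_iff]
  intro h
  refine ⟨hn h, fun hh => ?_⟩
  have h1 := hn _ hh
  have huinv : u⁻¹ = u := inv_eq_of_mul_eq_one_right hu
  have : u * (u * h * u⁻¹) * u⁻¹ = h := by
    rw [huinv]
    calc u * (u * h * u) * u = (u * u) * h * (u * u) := by group
      _ = h := by rw [hu, one_mul, mul_one]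
  rwa [this] at h1

/-- Membership in `A ⊔ zpowers u`, `u² = 1`, `u` normalizing `A`. -/
theorem mem_sup_zpowers_iff {G : Type*} [Group G] (A : Subgroup G) {u : G} (hu : u * u = 1)
    (hn : ∀ a ∈ A, u * a * u⁻¹ ∈ A) {x : G} : x ∈ A ⊔ zpowers u ↔ x ∈ A ∨ x * u ∈ A := by
  have huinv : u⁻¹ = u := inv_eq_of_mul_eq_one_right hu
  constructor
  · intro hx
    have hle : zpowers u ≤ normalizer (A : Set G) := by
      rw [zpowers_le]
      exact mem_normalizer_of_sq A hu hn
    have hx' : x ∈ ((A ⊔ zpowers u : Subgroup G) : Set G) := hx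
    rw [coe_mul_of_right_le_normalizer_left A (zpowers u) hle] at hx'
    obtain ⟨a, ha, z, hz, rfl⟩ := hx'
    rcases eq_one_or_eq_of_mem_zpowers hu hz with rfl | rfl
    · left
      simpa using ha
    · right
      have : a * z * z = a := by rw [mul_assoc, hu, mul_one]
      simp only [this]
      exact ha
  · rintro (hx | hx)
    · exact (le_sup_left : A ≤ A ⊔ zpowers u) hx
    · have h1 : x * u ∈ A ⊔ zpowers u := (le_sup_left : A ≤ A ⊔ zpowers u) hx
      have h2 : u ∈ A ⊔ zpowers u := (le_sup_right : zpowers u ≤ A ⊔ zpowers u) (mem_zpowers u)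
      have : x = x * u * u⁻¹ := by group
      rw [this]
      exact mul_mem h1 (inv_mem h2)

/-- In a `3`-group an element of square one is trivial. -/
theorem eq_one_of_sq_of_isPGroup {G : Type*} [Group G] {A : Subgroup G} (hA : IsPGroup 3 ↥A)
    {y : G} (hy : y ∈ A) (h2 : y * y = 1) : y = 1 := by
  obtain ⟨k, hk⟩ := hA ⟨y, hy⟩
  have hk' : y ^ (3 ^ k) = 1 := by
    have := congrArg Subtype.val hk
    simpa using this
  have h1 : orderOf y ∣ 3 ^ k := orderOf_dvd_of_pow_eq_one hk'
  have h2' : orderOf y ∣ 2 := orderOf_dvd_of_pow_eq_one (by rw [pow_two, h2])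
  have hc : Nat.Coprime (3 ^ k) 2 := Nat.Coprime.pow_left k (by norm_num)
  have : orderOf y ∣ 1 := by
    have := Nat.dvd_gcd h1 h2'
    rwa [hc.gcd_eq_one] at this
  exact orderOf_eq_one_iff.mp (Nat.dvd_one.mp this)


/-- **BSWFIN**.  The final contradiction in the case `p = 3`. -/
theorem BSWFIN {G : Type*} [Group G] [Finite G]
    (hab : ∀ X : Subgroup G, ¬ 3 ∣ Nat.card ↥X → ∀ a ∈ X, ∀ b ∈ X, a * b = b * a)
    (P : Sylow 3 G) (hcyc : IsCyclic ↥P) (hP1 : (P : Subgroup G) ≠ ⊥)
    (t s : G) (ht : orderOf t = 2) (hs : orderOf s = 2) (hts : t * s = s * t) (hne : s ≠ t)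
    (htP : ∀ y ∈ P, t * y = y * t) (hsP : ∀ y ∈ P, s * y * s⁻¹ = y⁻¹)
    (hCt : Subgroup.centralizer ({t} : Set G) = (P : Subgroup G) ⊔ Subgroup.closure {t, s})
    (hNP : Subgroup.normalizer ((P : Subgroup G) : Set G) = (P : Subgroup G) ⊔ Subgroup.closure {t, s})
    (hTI : ∀ g : G, g ∉ Subgroup.normalizer ((P : Subgroup G) : Set G) →
      (P : Subgroup G) ⊓ (P : Subgroup G).map (MulAut.conj g).toMonoidHom = ⊥)
    (hconj : ∀ x y : G, orderOf x = 2 → orderOf y = 2 → IsConj x y) : False := by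
  classical
  have : Fact (Nat.Prime 3) := ⟨by norm_num⟩
  -- basic facts
  have htt : t * t = 1 := by rw [← pow_two, ← ht, pow_orderOf_eq_one]
  have hss : s * s = 1 := by rw [← pow_two, ← hs, pow_orderOf_eq_one]
  have ht1 : t ≠ 1 := by rintro rfl; simp at ht
  have htinv : t⁻¹ = t := inv_eq_of_mul_eq_one_right htt
  have hsinv : s⁻¹ = s := inv_eq_of_mul_eq_one_right hss
  have hP3 : ∀ y ∈ (P : Subgroup G), y * y = 1 → y = 1 :=
    fun y hy h => eq_one_of_sq_of_isPGroup P.2 hy h
  have hPcomm : ∀ a ∈ (P : Subgroup G), ∀ b ∈ (P : Subgroup G), a * b = b * a := by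
    intro a ha b hb
    have := hcyc
    have h := (IsCyclic.commGroup (α := ↥(P : Subgroup G))).mul_comm ⟨a, ha⟩ ⟨b, hb⟩
    exact congrArg Subtype.val h
  obtain ⟨y₀, hy₀P, hy₀1⟩ : ∃ y ∈ (P : Subgroup G), y ≠ 1 := by
    by_contra hcon
    push Not at hcon
    exact hP1 ((Subgroup.eq_bot_iff_forall _).mpr hcon)
  -- the subgroup K
  set K : Subgroup G := (P : Subgroup G) ⊔ zpowers t with hKdef
  have hKmem : ∀ x : G, x ∈ K ↔ x ∈ (P : Subgroup G) ∨ x * t ∈ (P : Subgroup G) := by
    intro x
    refine mem_sup_zpowers_iff (P : Subgroup G) htt ?_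
    intro a ha
    have : t * a * t⁻¹ = a := by rw [htP a ha, mul_assoc, mul_inv_cancel, mul_one]
    rw [this]; exact ha
  have hPK : (P : Subgroup G) ≤ K := le_sup_left
  have htK : t ∈ K := (le_sup_right : zpowers t ≤ K) (mem_zpowers t)
  -- t commutes with K
  have htKc : ∀ x ∈ K, t * x = x * t := by
    intro x hx
    rcases (hKmem x).mp hx with h | h
    · exact htP x h
    · have h1 := htP _ h
      -- t * (x * t) = (x * t) * t
      have : t * x * t = x * t * t := by rw [← mul_assoc] at h1; exact h1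
      exact mul_right_cancel this
  -- squares of elements of K lie in P
  have hKsq : ∀ x ∈ K, x * x ∈ (P : Subgroup G) := by
    intro x hx
    rcases (hKmem x).mp hx with h | h
    · exact mul_mem h h
    · have h1 := mul_mem h h
      have h2 : x * t * (x * t) = x * x := by
        calc x * t * (x * t) = x * (t * x) * t := by group
          _ = x * (x * t) * t := by rw [htKc x hx]
          _ = x * x * (t * t) := by group
          _ = x * x := by rw [htt, mul_one]
      rwa [h2] at h1
  -- elements of K of square one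
  have hKinv : ∀ x ∈ K, x * x = 1 → x = 1 ∨ x = t := by
    intro x hx h2
    rcases (hKmem x).mp hx with h | h
    · left; exact hP3 x h h2
    · right
      have h3 : x * t * (x * t) = 1 := by
        calc x * t * (x * t) = x * (t * x) * t := by group
          _ = x * (x * t) * t := by rw [htKc x hx]
          _ = x * x * (t * t) := by group
          _ = 1 := by rw [htt, h2, mul_one]
      have h4 := hP3 _ h h3
      calc x = x * t * t⁻¹ := by group
        _ = t := by rw [h4, one_mul, htinv]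
  -- K is commutative
  have hKcomm : ∀ a ∈ K, ∀ b ∈ K, a * b = b * a := by
    have hKP : ∀ a ∈ K, ∀ b ∈ (P : Subgroup G), a * b = b * a := by
      intro a ha b hb
      rcases (hKmem a).mp ha with h | h
      · exact hPcomm a h b hb
      · have h1 := hPcomm _ h b hb
        -- a * t * b = b * (a * t)
        have h2 : a * t * b = a * b * t := by
          rw [mul_assoc, htP b hb, ← mul_assoc]
        rw [h2, ← mul_assoc] at h1
        exact mul_right_cancel h1
    intro a ha b hb
    rcases (hKmem b).mp hb with h | h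
    · exact hKP a ha b h
    · have h1 := hKP a ha _ h
      -- a * (b * t) = b * t * a
      have h2 : b * t * a = b * a * t := by
        rw [mul_assoc, htKc a ha, ← mul_assoc]
      rw [h2, ← mul_assoc] at h1
      exact mul_right_cancel h1
  have hKab : IsMulCommutative ↥K := by
    rw [isMulCommutative_iff]
    intro a b
    exact Subtype.ext (hKcomm a a.2 b b.2)
  have hKH : K ≤ Subgroup.centralizer ({t} : Set G) := by
    intro x hx
    rw [mem_centralizer_iff]
    intro h hh
    rw [Set.mem_singleton_iff] at hh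
    subst hh
    exact htKc x hx
  have hsH : s ∈ Subgroup.centralizer ({t} : Set G) := by
    rw [mem_centralizer_iff]
    intro h hh
    rw [Set.mem_singleton_iff] at hh
    subst hh
    exact hts
  have hsK : s ∉ K := by
    intro hsK
    rcases hKinv s hsK hss with h | h
    · rw [h] at hs; simp at hs
    · exact hne h
  have hH : K ⊔ Subgroup.zpowers s = Subgroup.centralizer ({t} : Set G) := by
    rw [hCt, hKdef, sup_assoc]
    congr 1
    rw [zpowers_eq_closure, zpowers_eq_closure, ← Subgroup.closure_union]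
    rfl
  -- s inverts K
  have hinv : ∀ x ∈ K, s * x * s⁻¹ = x⁻¹ := by
    intro x hx
    rcases (hKmem x).mp hx with h | h
    · exact hsP x h
    · have h1 := hsP _ h
      -- s * (x * t) * s⁻¹ = (x * t)⁻¹
      have hst : s * t * s⁻¹ = t := by rw [← hts, mul_assoc, mul_inv_cancel, mul_one]
      have h2 : s * (x * t) * s⁻¹ = s * x * s⁻¹ * t := by
        calc s * (x * t) * s⁻¹ = (s * x * s⁻¹) * (s * t * s⁻¹) := by group
          _ = s * x * s⁻¹ * t := by rw [hst]
      rw [h2] at h1
      have h3 : (x * t)⁻¹ = x⁻¹ * t := by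
        rw [mul_inv_rev, htinv]
        have := htKc x⁻¹ (inv_mem hx)
        exact this
      rw [h3] at h1
      exact mul_right_cancel h1
  have hCK : K ⊓ Subgroup.centralizer ({s} : Set G) = Subgroup.zpowers t := by
    apply le_antisymm
    · rintro x ⟨hxK, hxs⟩
      have hxs' : s * x = x * s := by
        have := mem_centralizer_iff.mp hxs s (Set.mem_singleton s)
        exact this
      have h1 := hinv x hxK
      rw [hxs', mul_assoc, mul_inv_cancel, mul_one] at h1
      have h2 : x * x = 1 := by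
        nth_rewrite 1 [h1]
        exact inv_mul_cancel x
      rcases hKinv x hxK h2 with h | h
      · rw [h]; exact one_mem _
      · rw [h]; exact mem_zpowers t
    · rw [zpowers_le]
      refine Subgroup.mem_inf.mpr ⟨htK, ?_⟩
      rw [mem_centralizer_iff]
      intro h hh
      rw [Set.mem_singleton_iff] at hh
      subst hh
      exact hts.symm
  have hTI' : ∀ g : G, g ∉ Subgroup.centralizer ({t} : Set G) →
      K ⊓ K.map (MulAut.conj g).toMonoidHom = ⊥ := by
    intro g hg
    have hgN : g ∉ Subgroup.normalizer ((P : Subgroup G) : Set G) := by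
      rw [hNP, ← hCt]; exact hg
    have hPg := hTI g hgN
    rw [eq_bot_iff]
    rintro z ⟨hzK, hzg⟩
    rw [mem_bot]
    obtain ⟨w, hwK, hwz⟩ := mem_map.mp hzg
    have hwz' : g * w * g⁻¹ = z := by simpa using hwz
    -- z * z ∈ P ⊓ P^g
    have h1 : z * z ∈ (P : Subgroup G) ⊓ (P : Subgroup G).map (MulAut.conj g).toMonoidHom := by
      refine ⟨hKsq z hzK, ?_⟩
      refine mem_map.mpr ⟨w * w, hKsq w hwK, ?_⟩
      rw [← hwz']
      simp only [MulEquiv.coe_toMonoidHom, MulAut.conj_apply]
      group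
    rw [hPg, mem_bot] at h1
    have h2 : w * w = 1 := by
      have : g * (w * w) * g⁻¹ = 1 := by
        rw [← h1, ← hwz']; group
      have h3 : w * w = g⁻¹ * (g * (w * w) * g⁻¹) * g := by group
      rw [h3, this]; group
    rcases hKinv w hwK h2 with h | h
    · rw [← hwz', h]; group
    · exfalso
      rcases hKinv z hzK h1 with h' | h'
      · rw [h', h] at hwz'
        apply ht1
        have : t = g⁻¹ * (g * t * g⁻¹) * g := by group
        rw [this, hwz']; group
      · apply hg
        rw [mem_centralizer_iff]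
        intro x hx
        rw [Set.mem_singleton_iff] at hx
        subst hx
        rw [h, h'] at hwz'
        -- g * t * g⁻¹ = t
        calc x * g = (g * x * g⁻¹) * g := by rw [hwz']
          _ = g * x := by group
  -- apply Brauer–Suzuki–Wall
  obtain ⟨Q, D, hcard, hCQ, hDab, hDQ, hQD, hNQ, hX⟩ :=
    Cfsg.Agent.S3282.result t ht K hKab hKH htK s hs hsH hsK hH hCK hinv hTI' hconj
  -- Q is abelian
  have hQcomm : ∀ a ∈ Q, ∀ b ∈ Q, a * b = b * a := by
    intro a ha b hb
    by_cases ha1 : a = 1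
    · rw [ha1, one_mul, mul_one]
    · have := hCQ a ha ha1
      have hb' : b ∈ Subgroup.centralizer ({a} : Set G) := by rw [this]; exact hb
      exact mem_centralizer_iff.mp hb' a (Set.mem_singleton a)
  -- conjugating P onto another Sylow subgroup
  have hsyl : ∀ A : Subgroup G, IsPGroup 3 ↥A → ∃ g : G, ∀ a ∈ A, g⁻¹ * a * g ∈ (P : Subgroup G) := by
    intro A hA
    obtain ⟨Q', hQ'⟩ := hA.exists_le_sylow
    obtain ⟨g, hg⟩ := MulAction.exists_smul_eq G P Q'
    refine ⟨g, fun a ha => ?_⟩
    have h1 : a ∈ (Q' : Subgroup G) := hQ' ha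
    rw [← hg, Sylow.coe_subgroup_smul, Subgroup.mem_pointwise_smul_iff_inv_smul_mem] at h1
    simpa [MulAut.smul_def, MulAut.conj_apply] using h1
  -- 3 does not divide |Q|
  have h3Q : ¬ 3 ∣ Nat.card ↥Q := by
    intro h3
    obtain ⟨x, hx⟩ := exists_prime_orderOf_dvd_card' 3 h3
    have hxo : orderOf (x : G) = 3 := by rw [Subgroup.orderOf_coe]; exact hx
    have hx1 : (x : G) ≠ 1 := by
      intro h; rw [h] at hxo; simp at hxo
    have hzp : IsPGroup 3 ↥(zpowers (x : G)) := by
      apply IsPGroup.of_card (n := 1)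
      rw [Nat.card_zpowers, hxo, pow_one]
    obtain ⟨g, hg⟩ := hsyl _ hzp
    have hy := hg (x : G) (mem_zpowers _)
    -- t' = g t g⁻¹ commutes with x
    have htx : g * t * g⁻¹ ∈ Subgroup.centralizer ({(x : G)} : Set G) := by
      rw [mem_centralizer_iff]
      intro h hh
      rw [Set.mem_singleton_iff] at hh
      subst hh
      have := htP _ hy
      calc (x : G) * (g * t * g⁻¹) = g * ((g⁻¹ * x * g) * t) * g⁻¹ := by group
        _ = g * (t * (g⁻¹ * x * g)) * g⁻¹ := by rw [this]
        _ = g * t * g⁻¹ * x := by group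
    rw [hCQ x x.2 hx1] at htx
    have ht'1 : g * t * g⁻¹ ≠ 1 := by
      intro h
      apply ht1
      have : t = g⁻¹ * (g * t * g⁻¹) * g := by group
      rw [this, h]; group
    have hC' := hCQ _ htx ht'1
    have hs' : g * s * g⁻¹ ∈ Q := by
      rw [← hC', mem_centralizer_iff]
      intro h hh
      rw [Set.mem_singleton_iff] at hh
      subst hh
      calc g * t * g⁻¹ * (g * s * g⁻¹) = g * (t * s) * g⁻¹ := by group
        _ = g * (s * t) * g⁻¹ := by rw [hts]
        _ = g * s * g⁻¹ * (g * t * g⁻¹) := by group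
    have hy' : g * y₀ * g⁻¹ ∈ Q := by
      rw [← hC', mem_centralizer_iff]
      intro h hh
      rw [Set.mem_singleton_iff] at hh
      subst hh
      calc g * t * g⁻¹ * (g * y₀ * g⁻¹) = g * (t * y₀) * g⁻¹ := by group
        _ = g * (y₀ * t) * g⁻¹ := by rw [htP y₀ hy₀P]
        _ = g * y₀ * g⁻¹ * (g * t * g⁻¹) := by group
    have hcomm := hQcomm _ hs' _ hy'
    have h1 : s * y₀ = y₀ * s := by
      have h2 : g * (s * y₀) * g⁻¹ = g * (y₀ * s) * g⁻¹ := by
        calc g * (s * y₀) * g⁻¹ = g * s * g⁻¹ * (g * y₀ * g⁻¹) := by group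
          _ = g * y₀ * g⁻¹ * (g * s * g⁻¹) := hcomm
          _ = g * (y₀ * s) * g⁻¹ := by group
      exact mul_left_cancel (mul_right_cancel h2)
    have h2 := hsP y₀ hy₀P
    rw [h1, mul_assoc, mul_inv_cancel, mul_one] at h2
    apply hy₀1
    apply hP3 y₀ hy₀P
    nth_rewrite 1 [h2]
    exact inv_mul_cancel y₀
  -- D ≠ ⊥ and Q ≠ ⊥
  have hD1 : D ≠ ⊥ := by
    intro h
    apply h3Q
    rw [← hDQ, h, Subgroup.card_bot]
  obtain ⟨x₀, hx₀Q, hx₀1⟩ : ∃ x ∈ Q, x ≠ 1 := by
    by_contra hcon
    push Not at hcon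
    have : Q = ⊥ := (Subgroup.eq_bot_iff_forall _).mpr hcon
    rw [this, Subgroup.card_bot] at hDQ
    have : 0 < Nat.card ↥D := Nat.card_pos
    omega
  obtain ⟨-, u, hu2, huD, huinv, hND⟩ := hX D le_rfl hD1
  have huu : u * u = 1 := by rw [← pow_two, ← hu2, pow_orderOf_eq_one]
  have hNDmem : ∀ x : G, x ∈ Subgroup.normalizer (D : Set G) ↔ x ∈ D ∨ x * u ∈ D := by
    intro x
    rw [hND]
    refine mem_sup_zpowers_iff D huu ?_
    intro a ha
    rw [huinv a ha]
    exact inv_mem ha
  -- D is not a 3-group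
  have hD3 : ¬ IsPGroup 3 ↥D := by
    intro hD3
    obtain ⟨g, hg⟩ := hsyl D hD3
    have hDsq : ∀ y ∈ D, y * y = 1 → y = 1 := fun y hy h => eq_one_of_sq_of_isPGroup hD3 hy h
    have ht'2 : g * t * g⁻¹ * (g * t * g⁻¹) = 1 := by
      calc g * t * g⁻¹ * (g * t * g⁻¹) = g * (t * t) * g⁻¹ := by group
        _ = 1 := by rw [htt]; group
    have hs'2 : g * s * g⁻¹ * (g * s * g⁻¹) = 1 := by
      calc g * s * g⁻¹ * (g * s * g⁻¹) = g * (s * s) * g⁻¹ := by group
        _ = 1 := by rw [hss]; group
    have ht'N : g * t * g⁻¹ ∈ Subgroup.normalizer (D : Set G) := by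
      apply mem_normalizer_of_sq D ht'2
      intro a ha
      have h1 := htP _ (hg a ha)
      have : g * t * g⁻¹ * a * (g * t * g⁻¹)⁻¹ = a := by
        calc g * t * g⁻¹ * a * (g * t * g⁻¹)⁻¹ = g * (t * (g⁻¹ * a * g)) * t⁻¹ * g⁻¹ := by group
          _ = g * ((g⁻¹ * a * g) * t) * t⁻¹ * g⁻¹ := by rw [h1]
          _ = a := by group
      rw [this]; exact ha
    have hs'N : g * s * g⁻¹ ∈ Subgroup.normalizer (D : Set G) := by
      apply mem_normalizer_of_sq D hs'2
      intro a ha
      have h1 := hsP _ (hg a ha)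
      have : g * s * g⁻¹ * a * (g * s * g⁻¹)⁻¹ = a⁻¹ := by
        calc g * s * g⁻¹ * a * (g * s * g⁻¹)⁻¹ = g * (s * (g⁻¹ * a * g) * s⁻¹) * g⁻¹ := by group
          _ = g * (g⁻¹ * a * g)⁻¹ * g⁻¹ := by rw [h1]
          _ = a⁻¹ := by group
      rw [this]; exact inv_mem ha
    have ht'D : g * t * g⁻¹ * u ∈ D := by
      rcases (hNDmem _).mp ht'N with h | h
      · exfalso
        have := hDsq _ h ht'2
        apply ht1
        have h' : t = g⁻¹ * (g * t * g⁻¹) * g := by group
        rw [h', this]; group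
      · exact h
    have hs'D : g * s * g⁻¹ * u ∈ D := by
      rcases (hNDmem _).mp hs'N with h | h
      · exfalso
        have := hDsq _ h hs'2
        have hs1 : s = 1 := by
          have h' : s = g⁻¹ * (g * s * g⁻¹) * g := by group
          rw [h', this]; group
        rw [hs1] at hs; simp at hs
      · exact h
    have hprod : g * (t * s⁻¹) * g⁻¹ ∈ D := by
      have := mul_mem ht'D (inv_mem hs'D)
      have h' : g * t * g⁻¹ * u * (g * s * g⁻¹ * u)⁻¹ = g * (t * s⁻¹) * g⁻¹ := by group
      rwa [h'] at this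
    have hsq : g * (t * s⁻¹) * g⁻¹ * (g * (t * s⁻¹) * g⁻¹) = 1 := by
      rw [hsinv]
      calc g * (t * s) * g⁻¹ * (g * (t * s) * g⁻¹) = g * (t * s * (t * s)) * g⁻¹ := by group
        _ = g * (t * s * (s * t)) * g⁻¹ := by rw [hts]
        _ = g * (t * (s * s) * t) * g⁻¹ := by group
        _ = 1 := by rw [hss, mul_one, htt]; group
    have h1 := hDsq _ hprod hsq
    apply hne
    have h2 : t * s⁻¹ = 1 := by
      have h' : t * s⁻¹ = g⁻¹ * (g * (t * s⁻¹) * g⁻¹) * g := by group
      rw [h', h1]; group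
    have := mul_inv_eq_one.mp h2
    exact this.symm
  -- a prime r ≠ 3 dividing |D|
  have hDpos : Nat.card ↥D ≠ 0 := Nat.card_pos.ne'
  obtain ⟨r, hr, hrD, hr3⟩ : ∃ r : ℕ, r.Prime ∧ r ∣ Nat.card ↥D ∧ r ≠ 3 := by
    by_contra hcon
    push Not at hcon
    apply hD3
    have := Nat.eq_prime_pow_of_unique_prime_dvd hDpos (p := 3) (fun {d} hd hdd => hcon d hd hdd)
    exact IsPGroup.of_card this
  have : Fact r.Prime := ⟨hr⟩
  obtain ⟨d, hd⟩ := exists_prime_orderOf_dvd_card' r hrD
  have hdo : orderOf (d : G) = r := by rw [Subgroup.orderOf_coe]; exact hd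
  have hdN : (d : G) ∈ Subgroup.normalizer (Q : Set G) := by
    rw [hNQ]; exact (le_sup_right : D ≤ Q ⊔ D) d.2
  have hXcard : ¬ 3 ∣ Nat.card ↥(Q ⊔ zpowers (d : G)) := by
    intro h3
    have h1 := Helper22_Basic.card_sup_dvd_of_le_normalizer Q (zpowers (d : G))
      (by rw [zpowers_le]; exact hdN)
    rw [Nat.card_zpowers, hdo] at h1
    have h2 := h3.trans h1
    rcases (Nat.Prime.dvd_mul (by norm_num : Nat.Prime 3)).mp h2 with h | h
    · exact h3Q h
    · exact hr3 ((Nat.prime_dvd_prime_iff_eq (by norm_num) hr).mp h).symm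
  have hcomm := hab _ hXcard (d : G) ((le_sup_right : zpowers (d : G) ≤ _) (mem_zpowers _))
    x₀ ((le_sup_left : Q ≤ Q ⊔ zpowers (d : G)) hx₀Q)
  have hdQ : (d : G) ∈ Q := by
    rw [← hCQ x₀ hx₀Q hx₀1, mem_centralizer_iff]
    intro h hh
    rw [Set.mem_singleton_iff] at hh
    subst hh
    exact hcomm.symm
  have hd1 : (d : G) ∈ Q ⊓ D := ⟨hdQ, d.2⟩
  rw [hQD, mem_bot] at hd1
  rw [hd1] at hdo
  simp at hdo
  exact hr.one_lt.ne' hdo.symm

end Cfsg.Agent.Lib.Helper12_S4016_BSWFIN
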