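import Mathlib
import Cfsg.Prelude.Def_Characters
import Cfsg.Prelude.Def_Blocks

/-!
# Brauer 1943 (S0996): shared definitions (helper16)

`G` finite, `P` a Sylow `p`-subgroup of prime order with `C_G(P) = P`, `N = N_G(P)` of order `p e`,
`1 + n p` Sylow `p`-subgroups, `n ≤ (p+1)/2`.

* `NP P` : the normalizer of `P`;
* `Setting0`, `Setting` : the standing hypotheses (`Setting` adds: normal `p'`-subgroups are trivial);
* `LinN P` : the linear characters of `N` that are trivial on `P`; `LinN.fn` the class function;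
* `pavg P f` : the average of `f` over `P` (for a character: the multiplicity of `1_P`);
* `TwoPt P e` : all two-point stabilizers `N_G(P) ∩ N_G(Q)` have order `e`;
* `BData` : the abstract arithmetic data (degrees, signs, multiplicities of the induced characters).
-/

set_option autoImplicit false

namespace Cfsg.Agent.Lib.Helper16_B43Defs

open Cfsg

universe u

section group

variable {G : Type u} [Group G]

/-- The normalizer of a Sylow subgroup. -/
abbrev NP {p : ℕ} (P : Sylow p G) : Subgroup G :=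
  Subgroup.normalizer ((P : Subgroup G) : Set G)

/-- Standing hypotheses of Brauer's theorem, first part. -/
structure Setting0 (p e n : ℕ) (P : Sylow p G) : Prop where
  hP : Nat.card P = p
  hC : Subgroup.centralizer ((P : Subgroup G) : Set G) = (P : Subgroup G)
  hN : Nat.card (NP P) = p * e
  hn : Nat.card (Sylow p G) = 1 + n * p
  he2 : 2 ≤ e
  hn1 : 1 ≤ n
  hnp : 2 * n ≤ p + 1
  hperf : commutator G = ⊤

/-- Standing hypotheses of Brauer's theorem: moreover every normal `p'`-subgroup is trivial. -/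
structure Setting (p e n : ℕ) (P : Sylow p G) : Prop extends Setting0 p e n P where
  hcore : ∀ K : Subgroup G, K.Normal → ¬ p ∣ Nat.card K → K = ⊥

/-- The linear characters of `N_G(P)` that are trivial on `P`. -/
def LinN {p : ℕ} (P : Sylow p G) : Type u :=
  {l : ↥(NP P) →* ℂˣ // ∀ x : ↥(NP P), (x : G) ∈ (P : Subgroup G) → l x = 1}

/-- The class function of `N_G(P)` given by `l`. -/
def LinN.fn {p : ℕ} {P : Sylow p G} (l : LinN P) : ↥(NP P) → ℂ :=
  fun x => ((l.1 x : ℂˣ) : ℂ)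

/-- The trivial linear character. -/
def LinN.one {p : ℕ} (P : Sylow p G) : LinN P := ⟨1, fun _ _ => rfl⟩

/-- The complex conjugate (= inverse) linear character. -/
def LinN.inv {p : ℕ} {P : Sylow p G} (l : LinN P) : LinN P :=
  ⟨l.1⁻¹, fun x hx => by rw [MonoidHom.inv_apply, l.2 x hx, inv_one]⟩

instance {p : ℕ} (P : Sylow p G) [Finite G] : Finite (LinN P) :=
  Subtype.finite

noncomputable instance {p : ℕ} (P : Sylow p G) [Finite G] : Fintype (LinN P) :=
  Fintype.ofFinite _

noncomputable instance {p : ℕ} (P : Sylow p G) : DecidableEq (LinN P) := Classical.decEq _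

/-- The average of `f` over `P`. -/
noncomputable def pavg {p : ℕ} (P : Sylow p G) (f : G → ℂ) : ℂ :=
  (Nat.card P : ℂ)⁻¹ * ∑ᶠ x : ↥(P : Subgroup G), f x

/-- All two-point stabilizers of the action on the Sylow subgroups have order `e`. -/
def TwoPt {p : ℕ} (P : Sylow p G) (e : ℕ) : Prop :=
  ∀ Q : Sylow p G, Q ≠ P → Nat.card ↥(NP P ⊓ NP Q) = e

end group

/-- The abstract arithmetic data of Brauer's theorem: `ι` indexes the irreducible characters,
`κ` the linear characters of `N/P`. -/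
structure BData (p e t n : ℕ) (ι : Type*) [Fintype ι] [DecidableEq ι] (κ : Type*) [Fintype κ]
    [DecidableEq κ] where
  X : Finset ι
  Y : Finset ι
  one : ι
  k1 : κ
  deg : ι → ℕ
  m1 : ι → ℕ
  δ : ι → ℤ
  ε : ℤ
  c : κ → ι → ℕ
  hdisj : Disjoint X Y
  hXcard : X.card = e
  hYcard : Y.card = t
  hκ : Fintype.card κ = e
  het : e * t = p - 1
  hone : one ∈ X
  hδone : δ one = 1
  hdeg1 : ∀ χ, deg χ = 1 → χ = one
  hdegone : deg one = 1
  hδ : ∀ χ ∈ X, δ χ = 1 ∨ δ χ = -1
  hε : ε = 1 ∨ ε = -1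
  hdegX : ∀ χ ∈ X, (deg χ : ℤ) = p * m1 χ - (p - 1) * δ χ
  hdegY : ∀ χ ∈ Y, (deg χ : ℤ) = p * m1 χ + ε * e
  hdegYeq : ∀ χ ∈ Y, ∀ ψ ∈ Y, deg χ = deg ψ
  hdegZ : ∀ χ, χ ∉ X → χ ∉ Y → deg χ = p * m1 χ
  hdegpos : ∀ χ, 0 < deg χ
  hdvd : ∀ χ, χ ∈ X ∨ χ ∈ Y → deg χ ∣ e * (1 + n * p)
  hI1 : ∀ χ, ∑ l, c l χ = m1 χ
  hI2 : ∀ l, ∑ χ, c l χ * deg χ = 1 + n * p
  hI3 : ∀ l, ∑ χ, c l χ * m1 χ = n + 1
  hI4 : ∀ l, c l one = if l = k1 then 1 else 0

end Cfsg.Agent.Lib.Helper16_B43Defs
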