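import Cfsg.Agent.S4441
import Cfsg.Agent.Lib.Helper78_PartA
import Cfsg.Agent.Lib.Helper23_ZStarB
import Cfsg.Agent.Lib.Helper30_KleinBlock
import Cfsg.Agent.Lib.Helper75_CharArith

/-!
# S4706 (Ito / Brauer): the Brauer side (helper15)

`P` a self-centralising Sylow subgroup of prime order `p ≥ 5` with `|N_G(P) : P| = 2`, and an
irreducible character `ρ` of degree `p - 1` not vanishing on `P \ 1`.  Then there are `(p-1)/2`
irreducible characters `θ` with `θ = ρ - 1` on `p`-regular elements (`exists_exceptional`), and every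
character `Ψ` vanishing on `p`-singular elements with `[Ψ,1] = 0`, `[Ψ,ρ] = 1`, `Ψ(1) = p(p-1)/2`
equals `ρ + (p-1)/2 (ρ - 1)` on `p`-regular elements (`psi_value`).
-/

set_option autoImplicit false
set_option linter.unusedSectionVars false
set_option linter.unusedVariables false

namespace Cfsg.Agent.Lib.Helper15_ItoBrauer

open Cfsg
open Cfsg.Agent.Lib.Helper3_CharBridge Cfsg.Agent.Lib.Helper3_CharOrtho
  Cfsg.Agent.Lib.Helper3_CharComplete Cfsg.Agent.Lib.Helper75_CharArith
  Cfsg.Agent.Lib.Helper80_CharBasic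
open scoped ComplexConjugate

universe u

variable {G : Type u} [Group G] [Fintype G]

theorem exists_exceptional (p : ℕ) [hp : Fact p.Prime] (hp5 : 5 ≤ p) (P : Sylow p G)
    (hP : Nat.card P = p)
    (hC : ∀ c ∈ Subgroup.centralizer ((P : Subgroup G) : Set G), c ∈ (P : Subgroup G))
    (he : (Subgroup.centralizer ((P : Subgroup G) : Set G)).relIndex
      (Subgroup.normalizer ((P : Subgroup G) : Set G)) = 2)
    (ρ : IrrCharacter G) (hρ1 : (ρ : G → ℂ) 1 = (p : ℂ) - 1) (x : G)
    (hx : x ∈ (P : Subgroup G)) (hx1 : x ≠ 1) (hρx : (ρ : G → ℂ) x ≠ 0) :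
    ∃ Y : Finset (IrrCharacter G), Y.card = (p - 1) / 2 ∧
      ∀ θ ∈ Y, ∀ g : G, ¬ p ∣ orderOf g → (θ : G → ℂ) g = (ρ : G → ℂ) g - 1 := by
  classical
  obtain ⟨M, hM⟩ := Cfsg.Agent.Lib.Helper23_ZStarB.exists_pModular p hp.out
  obtain ⟨X, Y, hB, hdisj, hXc, hYc, εX, ε, hX, hε, hYdeg, hYagree, hYrel⟩ :=
    Cfsg.Agent.S4441.result p M hM (by omega) P hP 2 he
  have hpZ : (5 : ℤ) ≤ (p : ℤ) := by exact_mod_cast hp5
  -- the two known members of the principal block
  have h1B : oneIrr G ∈ principalBlock M G := Cfsg.Agent.Lib.Helper30_KleinBlock.oneIrr_mem hM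
  have hρB : ρ ∈ principalBlock M G := by
    by_contra hρB
    have h := (Cfsg.Agent.Lib.Helper78_PartA.principal_local p M hM P hP ⊥ bot_le
      (by rw [Subgroup.card_bot]; exact Nat.coprime_one_left p)
      (fun c hc => ⟨c, hC c hc, 1, Subgroup.one_mem _, (mul_one c).symm⟩) ρ).2 hρB x hx hx1
    rw [Finset.sum_eq_single (1 : G)] at h
    · rw [if_pos (Subgroup.one_mem _), mul_one] at h
      exact hρx h
    · intro v _ hv
      rw [if_neg]
      rw [Subgroup.mem_bot]
      exact hv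
    · intro h1
      exact absurd (Finset.mem_univ _) h1
  -- degrees
  have hdeg1 : (charDegree ((oneIrr G : IrrCharacter G) : G → ℂ) : ℤ) = 1 := by
    have h := Cfsg.Agent.Lib.Helper16_BrauerFinal.charDegree_cast (oneIrr G)
    have h2 : ((oneIrr G : IrrCharacter G) : G → ℂ) 1 = 1 := rfl
    rw [h2] at h
    have : (charDegree ((oneIrr G : IrrCharacter G) : G → ℂ) : ℕ) = 1 := by exact_mod_cast h
    rw [this]; rfl
  have hdegρ : (charDegree (ρ : G → ℂ) : ℤ) = (p : ℤ) - 1 := by
    have h := Cfsg.Agent.Lib.Helper16_BrauerFinal.charDegree_cast ρ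
    rw [hρ1] at h
    have h2 : ((charDegree (ρ : G → ℂ) : ℤ) : ℂ) = (((p : ℤ) - 1 : ℤ) : ℂ) := by
      push_cast
      exact h
    exact_mod_cast h2
  have h1Y : oneIrr G ∉ Y := by
    intro h
    have h2 := hYdeg _ h
    rw [hdeg1] at h2
    have h3 := (Int.modEq_iff_dvd.mp h2)
    rcases hε with rfl | rfl
    · have : (p : ℤ) ∣ 1 := by simpa using h3
      have := Int.le_of_dvd (by norm_num) this
      omega
    · have : (p : ℤ) ∣ -3 := by
        have h4 : (-1 : ℤ) * (2 : ℕ) - 1 = -3 := by norm_num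
        rw [← h4]; exact h3
      have := Int.le_of_dvd (by norm_num) ((dvd_neg).mp this)
      omega
  have hρY : ρ ∉ Y := by
    intro h
    have h2 := hYdeg _ h
    rw [hdegρ] at h2
    have h3 := (Int.modEq_iff_dvd.mp h2)
    rcases hε with rfl | rfl
    · have : (p : ℤ) ∣ 3 := by
        have h4 : (1 : ℤ) * (2 : ℕ) - ((p : ℤ) - 1) = 3 - p := by push_cast; ring
        rw [h4] at h3
        have := dvd_add h3 (dvd_refl (p : ℤ))
        simpa using this
      have := Int.le_of_dvd (by norm_num) this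
      omega
    · have : (p : ℤ) ∣ 1 := by
        have h4 : (-1 : ℤ) * (2 : ℕ) - ((p : ℤ) - 1) = -1 - p := by push_cast; ring
        rw [h4] at h3
        have := dvd_add h3 (dvd_refl (p : ℤ))
        have h5 : (-1 - (p : ℤ) + p) = -1 := by ring
        rw [h5] at this
        exact (dvd_neg).mp this
      have := Int.le_of_dvd (by norm_num) this
      omega
  have h1X : oneIrr G ∈ X := by
    have : oneIrr G ∈ X ∪ Y := hB ▸ h1B
    exact this.resolve_right h1Y
  have hρX : ρ ∈ X := by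
    have : ρ ∈ X ∪ Y := hB ▸ hρB
    exact this.resolve_right hρY
  have hne : oneIrr G ≠ ρ := by
    intro h
    have h2 : (ρ : G → ℂ) 1 = 1 := by rw [← h]; rfl
    rw [hρ1] at h2
    have h3 : (p : ℂ) = 2 := by linear_combination h2
    have : p = 2 := by exact_mod_cast h3
    omega
  -- signs
  have hε1 : εX (oneIrr G) = 1 := by
    obtain ⟨hs, hd, -⟩ := hX _ h1X
    rw [hdeg1] at hd
    rcases hs with h | h
    · exact h
    · rw [h] at hd
      have h3 := (Int.modEq_iff_dvd.mp hd)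
      have : (p : ℤ) ∣ 2 := by
        have h4 : (-1 : ℤ) - 1 = -2 := by norm_num
        rw [h4] at h3
        exact (dvd_neg).mp h3
      have := Int.le_of_dvd (by norm_num) this
      omega
  have hερ : εX ρ = -1 := by
    obtain ⟨hs, hd, -⟩ := hX _ hρX
    rw [hdegρ] at hd
    rcases hs with h | h
    · rw [h] at hd
      have h3 := (Int.modEq_iff_dvd.mp hd)
      have : (p : ℤ) ∣ 2 := by
        have h4 : (1 : ℤ) - ((p : ℤ) - 1) = 2 - p := by ring
        rw [h4] at h3
        have := dvd_add h3 (dvd_refl (p : ℤ))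
        simpa using this
      have := Int.le_of_dvd (by norm_num) this
      omega
    · exact h
  -- X = {1, ρ}
  have hXeq : X = {oneIrr G, ρ} := by
    have hfin : X.Finite := Set.toFinite X
    symm
    apply Set.eq_of_subset_of_ncard_le
    · intro χ hχ
      rcases hχ with rfl | rfl
      · exact h1X
      · exact hρX
    · rw [← Nat.card_coe_set_eq, hXc, Set.ncard_pair hne]
    · exact hfin
  -- the relation
  have hrel : ∀ θ ∈ Y, ∀ g : G, ¬ p ∣ orderOf g →
      (ε : ℂ) * (θ : G → ℂ) g = 1 - (ρ : G → ℂ) g := by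
    intro θ hθ g hg
    rw [hYrel θ hθ g hg, hXeq, finsum_mem_pair hne, hε1, hερ]
    have : ((oneIrr G : IrrCharacter G) : G → ℂ) g = 1 := rfl
    rw [this]
    push_cast
    ring
  have hεm : ε = -1 := by
    rcases hε with h | h
    · exfalso
      by_cases hYe : Y.Nonempty
      · obtain ⟨θ, hθ⟩ := hYe
        have h2 := hrel θ hθ 1 (by
          rw [orderOf_one]
          intro h3
          have := Nat.le_of_dvd one_pos h3
          omega)
        rw [h, hρ1] at h2
        obtain ⟨n, hn, hn1⟩ := irr_apply_one θ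
        rw [hn1] at h2
        have h3 : ((n : ℤ) : ℂ) = ((2 - (p : ℤ) : ℤ) : ℂ) := by
          push_cast
          linear_combination h2
        have h4 : (n : ℤ) = 2 - (p : ℤ) := by exact_mod_cast h3
        omega
      · rw [Set.not_nonempty_iff_eq_empty] at hYe
        rw [hYe] at hYc
        simp at hYc
        have : 2 ≤ (p - 1) / 2 := by omega
        omega
    · exact h
  refine ⟨(Set.toFinite Y).toFinset, ?_, ?_⟩
  · rw [← Set.ncard_eq_toFinset_card Y (Set.toFinite Y), ← Nat.card_coe_set_eq, hYc]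
  · intro θ hθ g hg
    rw [Set.Finite.mem_toFinset] at hθ
    have h := hrel θ hθ g hg
    rw [hεm] at h
    push_cast at h
    linear_combination -h

/-- the decomposition of a character supported on the `p`-regular elements -/
theorem psi_value (p : ℕ) [hp : Fact p.Prime] (hp5 : 5 ≤ p) (ρ : IrrCharacter G)
    (hρ1 : (ρ : G → ℂ) 1 = (p : ℂ) - 1) (Y : Finset (IrrCharacter G))
    (hYc : Y.card = (p - 1) / 2)
    (hY : ∀ θ ∈ Y, ∀ g : G, ¬ p ∣ orderOf g → (θ : G → ℂ) g = (ρ : G → ℂ) g - 1)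
    (Ψ : G → ℂ) (hΨ : IsCharacter G Ψ) (hΨ1 : Ψ 1 = (p : ℂ) * ((p : ℂ) - 1) / 2)
    (hΨs : ∀ g : G, p ∣ orderOf g → Ψ g = 0)
    (h1 : classInner Ψ (fun _ => (1 : ℂ)) = 0) (hρ : classInner Ψ (ρ : G → ℂ) = 1) :
    ∀ g : G, ¬ p ∣ orderOf g →
      Ψ g = (ρ : G → ℂ) g + (((p : ℂ) - 1) / 2) * ((ρ : G → ℂ) g - 1) := by
  classical
  obtain ⟨m, hm, hsum⟩ := exists_multiplicities hΨ
  have hpodd : Odd p := hp.out.odd_of_ne_two (by omega)
  obtain ⟨k, hk⟩ := hpodd
  have hkC : (p : ℂ) = 2 * (k : ℂ) + 1 := by exact_mod_cast congrArg (Nat.cast : ℕ → ℂ) hk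
  have hYcard : (Y.card : ℂ) = ((p : ℂ) - 1) / 2 := by
    rw [hYc, hkC]
    have : (2 * k + 1 - 1) / 2 = k := by omega
    rw [hk, this]
    ring
  have hone : ¬ p ∣ orderOf (1 : G) := by
    rw [orderOf_one]
    intro h3
    have := Nat.le_of_dvd one_pos h3
    omega
  -- multiplicity of the exceptional characters
  have hmθ : ∀ θ ∈ Y, m θ = 1 := by
    intro θ hθ
    have hz : classInner Ψ ((fun _ => (1 : ℂ)) + (-1 : ℂ) • (ρ : G → ℂ) + (θ : G → ℂ)) = 0 := by
      unfold classInner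
      rw [Finset.sum_eq_zero, mul_zero]
      intro g _
      by_cases hg : p ∣ orderOf g
      · rw [hΨs g hg, zero_mul]
      · have : (((fun _ => (1 : ℂ)) + (-1 : ℂ) • (ρ : G → ℂ) + (θ : G → ℂ) : G → ℂ)) g = 0 := by
          simp only [Pi.add_apply, Pi.smul_apply, smul_eq_mul]
          rw [hY θ hθ g hg]
          ring
        rw [this, map_zero, mul_zero]
    rw [classInner_add_right, classInner_add_right, classInner_smul_right, h1, hρ, hm θ] at hz
    have h2 : ((m θ : ℂ)) = 1 := by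
      have : conj (-1 : ℂ) = -1 := by simp
      rw [this] at hz
      linear_combination hz
    exact_mod_cast h2
  have hmρ : m ρ = 1 := by
    have := hm ρ
    rw [hρ] at this
    exact_mod_cast this.symm
  have hρY : ρ ∉ Y := by
    intro h
    have := hY ρ h 1 hone
    have h0 : (0 : ℂ) = -1 := by linear_combination this
    norm_num at h0
  -- degree count
  have hdeg : ∀ χ : IrrCharacter G, ∃ n : ℕ, 0 < n ∧ (χ : G → ℂ) 1 = n := irr_apply_one
  choose d hd0 hd using hdeg
  have hdθ : ∀ θ ∈ Y, d θ = p - 2 := by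
    intro θ hθ
    have h := hY θ hθ 1 hone
    rw [hd θ, hρ1] at h
    have h2 : ((d θ : ℤ) : ℂ) = (((p : ℤ) - 2 : ℤ) : ℂ) := by
      push_cast
      linear_combination h
    have h3 : (d θ : ℤ) = (p : ℤ) - 2 := by exact_mod_cast h2
    omega
  have hdρ : d ρ = p - 1 := by
    have h := hd ρ
    rw [hρ1] at h
    have h2 : ((d ρ : ℤ) : ℂ) = (((p : ℤ) - 1 : ℤ) : ℂ) := by
      push_cast
      linear_combination -h
    have h3 : (d ρ : ℤ) = (p : ℤ) - 1 := by exact_mod_cast h2
    omega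
  have hsum1 : ∑ χ : IrrCharacter G, m χ * d χ = p * (p - 1) / 2 := by
    have h := congrFun hsum 1
    rw [hΨ1, Finset.sum_apply] at h
    simp only [Pi.smul_apply, smul_eq_mul, hd] at h
    have h2 : ((∑ χ : IrrCharacter G, m χ * d χ : ℕ) : ℂ) = ((p * (p - 1) / 2 : ℕ) : ℂ) := by
      push_cast
      rw [← h]
      have : p * (p - 1) / 2 = (2 * k + 1) * k := by
        rw [hk]
        have : (2 * k + 1) * (2 * k + 1 - 1) = 2 * ((2 * k + 1) * k) := by
          have : 2 * k + 1 - 1 = 2 * k := by omega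
          rw [this]; ring
        rw [this, Nat.mul_div_cancel_left _ (by norm_num : 0 < 2)]
      rw [this, hkC]
      push_cast
      ring
    exact_mod_cast h2
  set S : Finset (IrrCharacter G) := insert ρ Y with hS
  have hsumS : ∑ χ ∈ S, m χ * d χ = p * (p - 1) / 2 := by
    rw [hS, Finset.sum_insert hρY, hmρ, hdρ, one_mul]
    have : ∑ χ ∈ Y, m χ * d χ = ∑ χ ∈ Y, (p - 2) := by
      apply Finset.sum_congr rfl
      intro θ hθ
      rw [hmθ θ hθ, hdθ θ hθ, one_mul]
    rw [this, Finset.sum_const, smul_eq_mul, hYc, hk]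
    have h1 : (2 * k + 1 - 1) / 2 = k := by omega
    have h2 : 2 * k + 1 - 1 = 2 * k := by omega
    have h3 : 2 * k + 1 - 2 = 2 * k - 1 := by omega
    rw [h1, h2, h3]
    have h4 : (2 * k + 1) * (2 * k) / 2 = (2 * k + 1) * k := by
      have : (2 * k + 1) * (2 * k) = 2 * ((2 * k + 1) * k) := by ring
      rw [this, Nat.mul_div_cancel_left _ (by norm_num : 0 < 2)]
    rw [h4]
    have hk2 : 2 ≤ k := by omega
    obtain ⟨j, rfl⟩ : ∃ j, k = j + 1 := ⟨k - 1, by omega⟩
    have : 2 * (j + 1) - 1 = 2 * j + 1 := by omega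
    rw [this]
    ring
  have hzero : ∀ χ : IrrCharacter G, χ ∉ S → m χ = 0 := by
    have hsplit := Finset.sum_add_sum_compl S (fun χ => m χ * d χ)
    rw [hsum1, hsumS] at hsplit
    have hc : ∑ χ ∈ Sᶜ, m χ * d χ = 0 := by omega
    intro χ hχ
    have := (Finset.sum_eq_zero_iff.mp hc) χ (Finset.mem_compl.mpr hχ)
    rcases Nat.mul_eq_zero.mp this with h | h
    · exact h
    · have := hd0 χ
      omega
  intro g hg
  have hval := congrFun hsum g
  rw [Finset.sum_apply] at hval
  simp only [Pi.smul_apply, smul_eq_mul] at hval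
  rw [← Finset.sum_add_sum_compl S] at hval
  have hc : ∑ χ ∈ Sᶜ, (m χ : ℂ) * (χ : G → ℂ) g = 0 := by
    apply Finset.sum_eq_zero
    intro χ hχ
    rw [hzero χ (Finset.mem_compl.mp hχ)]
    simp
  rw [hc, add_zero, hS, Finset.sum_insert hρY, hmρ] at hval
  have hs : ∑ χ ∈ Y, (m χ : ℂ) * (χ : G → ℂ) g = ∑ χ ∈ Y, ((ρ : G → ℂ) g - 1) := by
    apply Finset.sum_congr rfl
    intro θ hθ
    rw [hmθ θ hθ, hY θ hθ g hg]
    simp
  rw [hs, Finset.sum_const, nsmul_eq_mul, hYcard] at hval
  rw [hval]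
  push_cast
  ring

end Cfsg.Agent.Lib.Helper15_ItoBrauer
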