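import Mathlib

set_option autoImplicit false

/-!
# Burnside-type counting identities for multiply transitive actions (helper32)

Package PA of S4706 (helper15): for a finite group `G` acting on a finite set `Ω`,

* `sum_fix_sq`        : `2`-transitive ⇒ `∑ g, fix(g)^2 = 2 |G|`;
* `sum_fix_of_sq`     : `2`-transitive ⇒ `∑ g, fix(g^2) = 2 |G|`;
* `sum_fix_cube`      : `3`-transitive ⇒ `∑ g, fix(g)^3 = 5 |G|`;
* `sum_fix_mul_fix_sq`: `3`-transitive ⇒ `∑ g, fix(g) fix(g^2) = 3 |G|`.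

The generic tool is `sum_class`: if `G` is transitive on a nonempty invariant class `{x | P x}` of a
`G`-set `X` and `σ : X → X` preserves the class, then `∑_{x ∈ P} #{g | g • x = σ x} = |G|`.
-/

namespace Cfsg.Agent.Lib.Helper32_ItoCount

open MulAction Finset

section General

variable {G : Type*} [Group G] [Fintype G] {X : Type*} [Fintype X] [DecidableEq X] [MulAction G X]

/-- the number of `g` with `g • x = y` is `|Stab x|` when `y` lies in the orbit of `x` -/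
theorem card_filter_smul_eq (x y : X) (g0 : G) (h : g0 • x = y) :
    (univ.filter (fun g : G => g • x = y)).card = Nat.card (stabilizer G x) := by
  classical
  rw [← Fintype.card_subtype, ← Nat.card_eq_fintype_card]
  refine Nat.card_congr ⟨fun g => ⟨g0⁻¹ * g.1, ?_⟩, fun s => ⟨g0 * s.1, ?_⟩, ?_, ?_⟩
  · rw [mem_stabilizer_iff, mul_smul, g.2, ← h, inv_smul_smul]
  · rw [mul_smul, mem_stabilizer_iff.mp s.2, h]
  · intro g; ext; simp
  · intro s; ext; simp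

/-- swapping the two sums -/
theorem sum_card_filter_comm (σ : X → X) :
    ∑ g : G, (univ.filter (fun x : X => g • x = σ x)).card =
      ∑ x : X, (univ.filter (fun g : G => g • x = σ x)).card := by
  simp only [Finset.card_filter]
  exact Finset.sum_comm

/-- **Key lemma**: a transitive invariant class preserved by `σ` contributes `|G|`. -/
theorem sum_class (P : X → Prop) [DecidablePred P] (σ : X → X) (hne : ∃ x, P x)
    (hσ : ∀ x, P x → P (σ x)) (htr : ∀ x y, P x → P y → ∃ g : G, g • x = y)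
    (hst : ∀ x (g : G), P x → P (g • x)) :
    ∑ x ∈ univ.filter P, (univ.filter (fun g : G => g • x = σ x)).card = Fintype.card G := by
  classical
  set S := univ.filter P with hS
  have hSpos : 0 < S.card := by
    obtain ⟨x, hx⟩ := hne
    exact Finset.card_pos.mpr ⟨x, by simp [hS, hx]⟩
  have key : ∀ x ∈ S, (univ.filter (fun g : G => g • x = σ x)).card * S.card = Fintype.card G := by
    intro x hx
    have hPx : P x := by simpa [hS] using hx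
    obtain ⟨g0, hg0⟩ := htr x (σ x) hPx (hσ x hPx)
    rw [card_filter_smul_eq x (σ x) g0 hg0]
    have horb : orbit G x = (S : Set X) := by
      ext y
      simp only [mem_orbit_iff, hS, coe_filter, mem_univ, true_and, Set.mem_ofPred_eq]
      constructor
      · rintro ⟨g, rfl⟩; exact hst x g hPx
      · intro hy; exact htr x y hPx hy
    have h1 := MulAction.card_orbit_mul_card_stabilizer_eq_card_group G x
    have h2 : Fintype.card (orbit G x) = S.card := by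
      rw [← Nat.card_eq_fintype_card, horb]
      simp
    rw [Nat.card_eq_fintype_card, mul_comm, ← h2]
    exact h1
  have : (∑ x ∈ S, (univ.filter (fun g : G => g • x = σ x)).card) * S.card
      = Fintype.card G * S.card := by
    rw [Finset.sum_mul, Finset.sum_congr rfl key, Finset.sum_const, smul_eq_mul, mul_comm]
  exact Nat.eq_of_mul_eq_mul_right hSpos this

/-- a class on which no `g` realises `σ` contributes `0` -/
theorem sum_class_zero (P : X → Prop) [DecidablePred P] (σ : X → X)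
    (h : ∀ x, P x → ∀ g : G, g • x ≠ σ x) :
    ∑ x ∈ univ.filter P, (univ.filter (fun g : G => g • x = σ x)).card = 0 := by
  refine Finset.sum_eq_zero fun x hx => ?_
  have hPx : P x := by simpa using hx
  rw [Finset.card_eq_zero, Finset.filter_eq_empty_iff]
  intro g _
  exact h x hPx g

end General

section Points

variable {G : Type*} [Group G] [Fintype G] {Ω : Type*} [Fintype Ω] [DecidableEq Ω] [MulAction G Ω]

theorem natCard_fixedBy (g : G) :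
    Nat.card (fixedBy Ω g) = (univ.filter (fun w : Ω => g • w = w)).card := by
  rw [← Fintype.card_subtype, ← Nat.card_eq_fintype_card]
  rfl

/-- `fix(g)^2` counts the fixed pairs -/
theorem fix_sq_eq (g : G) :
    Nat.card (fixedBy Ω g) ^ 2 = (univ.filter (fun x : Ω × Ω => g • x = id x)).card := by
  rw [natCard_fixedBy, sq, ← Finset.card_product]
  congr 1
  ext ⟨a, b⟩
  simp [Prod.ext_iff]

/-- `fix(g^2)` counts the swapped pairs -/
theorem fix_of_sq_eq (g : G) :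
    Nat.card (fixedBy Ω (g ^ 2)) = (univ.filter (fun x : Ω × Ω => g • x = Prod.swap x)).card := by
  rw [natCard_fixedBy]
  symm
  refine Finset.card_nbij' (fun x => x.1) (fun u => (u, g • u)) ?_ ?_ ?_ ?_
  · rintro ⟨a, b⟩ h
    simp only [coe_filter, mem_univ, true_and, Set.mem_ofPred_eq, Prod.smul_mk, Prod.swap_prod_mk,
      Prod.mk.injEq] at h ⊢
    rw [sq, mul_smul, h.1, h.2]
  · intro u h
    simp only [coe_filter, mem_univ, true_and, Set.mem_ofPred_eq, Prod.smul_mk, Prod.swap_prod_mk,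
      Prod.mk.injEq] at h ⊢
    rw [← mul_smul, ← sq, h]
  · rintro ⟨a, b⟩ h
    simp only [coe_filter, mem_univ, true_and, Set.mem_ofPred_eq, Prod.smul_mk, Prod.swap_prod_mk,
      Prod.mk.injEq] at h ⊢
    exact h.1
  · intro u _
    rfl

/-- unpacked transitivity -/
theorem trans_one (h1 : IsPretransitive G Ω) (a b : Ω) : ∃ g : G, g • a = b :=
  h1.exists_smul_eq a b

theorem trans_two (h2 : IsMultiplyPretransitive G Ω 2) {a b c d : Ω} (hab : a ≠ b) (hcd : c ≠ d) :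
    ∃ g : G, g • a = c ∧ g • b = d :=
  is_two_pretransitive_iff.mp h2 hab hcd

theorem inj_vec3 {α : Type*} {a x y : α} (h1 : a ≠ x) (h2 : a ≠ y) (h3 : x ≠ y) :
    Function.Injective ![a, x, y] := by
  intro i j hij; fin_cases i <;> fin_cases j <;> simp_all

theorem trans_three (h3 : IsMultiplyPretransitive G Ω 3) {a b c a' b' c' : Ω}
    (hab : a ≠ b) (hac : a ≠ c) (hbc : b ≠ c) (hab' : a' ≠ b') (hac' : a' ≠ c') (hbc' : b' ≠ c') :
    ∃ g : G, g • a = a' ∧ g • b = b' ∧ g • c = c' := by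
  obtain ⟨g, hg⟩ := (isMultiplyPretransitive_iff.1 h3)
    ⟨![a, b, c], inj_vec3 hab hac hbc⟩ ⟨![a', b', c'], inj_vec3 hab' hac' hbc'⟩
  have e := fun i => DFunLike.congr_fun hg i
  refine ⟨g, ?_, ?_, ?_⟩
  · simpa using e 0
  · simpa using e 1
  · simpa using e 2


/-! ### Pairs -/

/-- the diagonal class of pairs contributes `|G|` -/
theorem sum_pairs_diag (h1 : IsPretransitive G Ω) [Nonempty Ω] (σ : Ω × Ω → Ω × Ω)
    (hσ : ∀ x : Ω × Ω, x.1 = x.2 → (σ x).1 = (σ x).2) :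
    ∑ x ∈ univ.filter (fun x : Ω × Ω => x.1 = x.2),
      (univ.filter (fun g : G => g • x = σ x)).card = Fintype.card G := by
  refine sum_class (fun x : Ω × Ω => x.1 = x.2) σ ?_ hσ ?_ ?_
  · obtain ⟨a⟩ := ‹Nonempty Ω›
    exact ⟨(a, a), rfl⟩
  · rintro ⟨a, b⟩ ⟨c, d⟩ hx hy
    simp only at hx hy
    subst hx hy
    obtain ⟨g, hg⟩ := trans_one h1 a c
    exact ⟨g, by simp [Prod.smul_mk, hg]⟩
  · rintro ⟨a, b⟩ g hx
    simp only at hx
    subst hx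
    simp [Prod.smul_mk]

/-- the off-diagonal class of pairs contributes `|G|` -/
theorem sum_pairs_off (h2 : IsMultiplyPretransitive G Ω 2) (hΩ : 2 ≤ Fintype.card Ω)
    (σ : Ω × Ω → Ω × Ω) (hσ : ∀ x : Ω × Ω, x.1 ≠ x.2 → (σ x).1 ≠ (σ x).2) :
    ∑ x ∈ univ.filter (fun x : Ω × Ω => x.1 ≠ x.2),
      (univ.filter (fun g : G => g • x = σ x)).card = Fintype.card G := by
  refine sum_class (fun x : Ω × Ω => x.1 ≠ x.2) σ ?_ hσ ?_ ?_
  · obtain ⟨a, b, hab⟩ := Fintype.exists_pair_of_one_lt_card (α := Ω) (by omega)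
    exact ⟨(a, b), hab⟩
  · rintro ⟨a, b⟩ ⟨c, d⟩ hx hy
    simp only at hx hy
    obtain ⟨g, hg1, hg2⟩ := trans_two h2 hx hy
    exact ⟨g, by simp [Prod.smul_mk, hg1, hg2]⟩
  · rintro ⟨a, b⟩ g hx
    simp only [Prod.smul_mk] at hx ⊢
    exact fun h => hx (smul_left_cancel g h)

theorem pretransitive_of_two (h2 : IsMultiplyPretransitive G Ω 2) : IsPretransitive G Ω :=
  isPretransitive_of_is_two_pretransitive (h2 := h2)

/-- generic pair sum: if `σ` preserves the two classes, the sum is `2 |G|` -/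
theorem sum_pairs (h2 : IsMultiplyPretransitive G Ω 2) (hΩ : 2 ≤ Fintype.card Ω)
    (σ : Ω × Ω → Ω × Ω) (hσ : ∀ x : Ω × Ω, x.1 = x.2 ↔ (σ x).1 = (σ x).2) :
    ∑ g : G, (univ.filter (fun x : Ω × Ω => g • x = σ x)).card = 2 * Fintype.card G := by
  have : Nonempty Ω := Fintype.card_pos_iff.mp (by omega)
  rw [sum_card_filter_comm,
    ← Finset.sum_filter_add_sum_filter_not univ (fun x : Ω × Ω => x.1 = x.2),
    sum_pairs_diag (pretransitive_of_two h2) σ (fun x hx => (hσ x).mp hx),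
    sum_pairs_off h2 hΩ σ (fun x hx h => hx ((hσ x).mpr h)), two_mul]

/-- PA1 -/
theorem sum_fix_sq (h2 : IsMultiplyPretransitive G Ω 2) (hΩ : 2 ≤ Fintype.card Ω) :
    ∑ g : G, Nat.card (fixedBy Ω g) ^ 2 = 2 * Fintype.card G := by
  rw [Finset.sum_congr rfl (fun g _ => fix_sq_eq (Ω := Ω) g)]
  exact sum_pairs h2 hΩ id (fun x => Iff.rfl)

/-- PA2 -/
theorem sum_fix_of_sq (h2 : IsMultiplyPretransitive G Ω 2) (hΩ : 2 ≤ Fintype.card Ω) :
    ∑ g : G, Nat.card (fixedBy Ω (g ^ 2)) = 2 * Fintype.card G := by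
  rw [Finset.sum_congr rfl (fun g _ => fix_of_sq_eq (Ω := Ω) g)]
  exact sum_pairs h2 hΩ Prod.swap (fun x => by simp [eq_comm])

/-! ### Triples -/

/-- `fix(g)^3` counts the fixed triples -/
theorem fix_cube_eq (g : G) :
    Nat.card (fixedBy Ω g) ^ 3 = (univ.filter (fun x : Ω × Ω × Ω => g • x = id x)).card := by
  rw [pow_succ', fix_sq_eq, natCard_fixedBy, ← Finset.card_product]
  congr 1
  ext ⟨a, b, c⟩
  simp [Prod.ext_iff]

/-- `fix(g) fix(g^2)` counts the triples `(u, w, w')` with `g u = u`, `g w = w'`, `g w' = w` -/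
theorem fix_mul_fix_sq_eq (g : G) :
    Nat.card (fixedBy Ω g) * Nat.card (fixedBy Ω (g ^ 2)) =
      (univ.filter (fun x : Ω × Ω × Ω => g • x = (x.1, x.2.2, x.2.1))).card := by
  rw [fix_of_sq_eq, natCard_fixedBy, ← Finset.card_product]
  congr 1
  ext ⟨a, b, c⟩
  simp [Prod.ext_iff]

/-- splitting a sum over triples according to the equality pattern -/
theorem sum_triples_split (f : Ω × Ω × Ω → ℕ) :
    ∑ x, f x =
      ∑ x ∈ univ.filter (fun x : Ω × Ω × Ω => x.1 = x.2.1 ∧ x.2.1 = x.2.2), f x +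
      ∑ x ∈ univ.filter (fun x : Ω × Ω × Ω => x.1 = x.2.1 ∧ x.2.1 ≠ x.2.2), f x +
      ∑ x ∈ univ.filter (fun x : Ω × Ω × Ω => x.1 = x.2.2 ∧ x.1 ≠ x.2.1), f x +
      ∑ x ∈ univ.filter (fun x : Ω × Ω × Ω => x.2.1 = x.2.2 ∧ x.1 ≠ x.2.1), f x +
      ∑ x ∈ univ.filter (fun x : Ω × Ω × Ω => x.1 ≠ x.2.1 ∧ x.1 ≠ x.2.2 ∧ x.2.1 ≠ x.2.2), f x := by
  simp only [Finset.sum_filter, ← Finset.sum_add_distrib]
  refine Finset.sum_congr rfl ?_
  rintro ⟨a, b, c⟩ _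
  by_cases hab : a = b <;> by_cases hbc : b = c <;> by_cases hac : a = c <;> simp_all

variable (h3 : IsMultiplyPretransitive G Ω 3) (hΩ : 3 ≤ Fintype.card Ω)

include h3 hΩ

theorem two_of_three : IsMultiplyPretransitive G Ω 2 := by
  have := h3
  exact isMultiplyPretransitive_of_le (n := 3) (by omega) (by simpa using hΩ)

theorem exists_three : ∃ a b c : Ω, a ≠ b ∧ a ≠ c ∧ b ≠ c := by
  have : 2 < Fintype.card Ω := by omega
  obtain ⟨a, b, c, hab, hac, hbc⟩ := Fintype.two_lt_card_iff.mp this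
  exact ⟨a, b, c, hab, hac, hbc⟩

/-- class `a = b = c` -/
theorem sum_triples_1 (σ : Ω × Ω × Ω → Ω × Ω × Ω)
    (hσ : ∀ x : Ω × Ω × Ω, (x.1 = x.2.1 ∧ x.2.1 = x.2.2) →
      ((σ x).1 = (σ x).2.1 ∧ (σ x).2.1 = (σ x).2.2)) :
    ∑ x ∈ univ.filter (fun x : Ω × Ω × Ω => x.1 = x.2.1 ∧ x.2.1 = x.2.2),
      (univ.filter (fun g : G => g • x = σ x)).card = Fintype.card G := by
  have h1 := pretransitive_of_two (two_of_three h3 hΩ)
  refine sum_class (fun x : Ω × Ω × Ω => x.1 = x.2.1 ∧ x.2.1 = x.2.2) σ ?_ hσ ?_ ?_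
  · obtain ⟨a, -⟩ := exists_three h3 hΩ
    exact ⟨(a, a, a), rfl, rfl⟩
  · rintro ⟨a, b, c⟩ ⟨a', b', c'⟩ ⟨hx1, hx2⟩ ⟨hy1, hy2⟩
    simp only at hx1 hx2 hy1 hy2
    subst hx1 hx2 hy1 hy2
    obtain ⟨g, hg⟩ := trans_one h1 a a'
    exact ⟨g, by simp [Prod.smul_mk, hg]⟩
  · rintro ⟨a, b, c⟩ g ⟨hx1, hx2⟩
    simp only at hx1 hx2
    subst hx1 hx2
    simp [Prod.smul_mk]

/-- class `a = b ≠ c` -/
theorem sum_triples_2 (σ : Ω × Ω × Ω → Ω × Ω × Ω)
    (hσ : ∀ x : Ω × Ω × Ω, (x.1 = x.2.1 ∧ x.2.1 ≠ x.2.2) →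
      ((σ x).1 = (σ x).2.1 ∧ (σ x).2.1 ≠ (σ x).2.2)) :
    ∑ x ∈ univ.filter (fun x : Ω × Ω × Ω => x.1 = x.2.1 ∧ x.2.1 ≠ x.2.2),
      (univ.filter (fun g : G => g • x = σ x)).card = Fintype.card G := by
  have h2 := two_of_three h3 hΩ
  refine sum_class (fun x : Ω × Ω × Ω => x.1 = x.2.1 ∧ x.2.1 ≠ x.2.2) σ ?_ hσ ?_ ?_
  · obtain ⟨a, b, -, hab, -⟩ := exists_three h3 hΩ
    exact ⟨(a, a, b), rfl, hab⟩
  · rintro ⟨a, b, c⟩ ⟨a', b', c'⟩ ⟨hx1, hx2⟩ ⟨hy1, hy2⟩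
    simp only at hx1 hx2 hy1 hy2
    subst hx1 hy1
    obtain ⟨g, hg1, hg2⟩ := trans_two h2 hx2 hy2
    exact ⟨g, by simp [Prod.smul_mk, hg1, hg2]⟩
  · rintro ⟨a, b, c⟩ g ⟨hx1, hx2⟩
    simp only [Prod.smul_mk] at hx1 hx2 ⊢
    subst hx1
    exact ⟨rfl, fun h => hx2 (smul_left_cancel g h)⟩

/-- class `a = c ≠ b` -/
theorem sum_triples_3 (σ : Ω × Ω × Ω → Ω × Ω × Ω)
    (hσ : ∀ x : Ω × Ω × Ω, (x.1 = x.2.2 ∧ x.1 ≠ x.2.1) →
      ((σ x).1 = (σ x).2.2 ∧ (σ x).1 ≠ (σ x).2.1)) :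
    ∑ x ∈ univ.filter (fun x : Ω × Ω × Ω => x.1 = x.2.2 ∧ x.1 ≠ x.2.1),
      (univ.filter (fun g : G => g • x = σ x)).card = Fintype.card G := by
  have h2 := two_of_three h3 hΩ
  refine sum_class (fun x : Ω × Ω × Ω => x.1 = x.2.2 ∧ x.1 ≠ x.2.1) σ ?_ hσ ?_ ?_
  · obtain ⟨a, b, -, hab, -⟩ := exists_three h3 hΩ
    exact ⟨(a, b, a), rfl, hab⟩
  · rintro ⟨a, b, c⟩ ⟨a', b', c'⟩ ⟨hx1, hx2⟩ ⟨hy1, hy2⟩
    simp only at hx1 hx2 hy1 hy2
    subst hx1 hy1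
    obtain ⟨g, hg1, hg2⟩ := trans_two h2 hx2 hy2
    exact ⟨g, by simp [Prod.smul_mk, hg1, hg2]⟩
  · rintro ⟨a, b, c⟩ g ⟨hx1, hx2⟩
    simp only [Prod.smul_mk] at hx1 hx2 ⊢
    subst hx1
    exact ⟨rfl, fun h => hx2 (smul_left_cancel g h)⟩

/-- class `b = c ≠ a` -/
theorem sum_triples_4 (σ : Ω × Ω × Ω → Ω × Ω × Ω)
    (hσ : ∀ x : Ω × Ω × Ω, (x.2.1 = x.2.2 ∧ x.1 ≠ x.2.1) →
      ((σ x).2.1 = (σ x).2.2 ∧ (σ x).1 ≠ (σ x).2.1)) :
    ∑ x ∈ univ.filter (fun x : Ω × Ω × Ω => x.2.1 = x.2.2 ∧ x.1 ≠ x.2.1),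
      (univ.filter (fun g : G => g • x = σ x)).card = Fintype.card G := by
  have h2 := two_of_three h3 hΩ
  refine sum_class (fun x : Ω × Ω × Ω => x.2.1 = x.2.2 ∧ x.1 ≠ x.2.1) σ ?_ hσ ?_ ?_
  · obtain ⟨a, b, -, hab, -⟩ := exists_three h3 hΩ
    exact ⟨(a, b, b), rfl, hab⟩
  · rintro ⟨a, b, c⟩ ⟨a', b', c'⟩ ⟨hx1, hx2⟩ ⟨hy1, hy2⟩
    simp only at hx1 hx2 hy1 hy2
    subst hx1 hy1
    obtain ⟨g, hg1, hg2⟩ := trans_two h2 hx2 hy2
    exact ⟨g, by simp [Prod.smul_mk, hg1, hg2]⟩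
  · rintro ⟨a, b, c⟩ g ⟨hx1, hx2⟩
    simp only [Prod.smul_mk] at hx1 hx2 ⊢
    subst hx1
    exact ⟨rfl, fun h => hx2 (smul_left_cancel g h)⟩

/-- class of triples of distinct points -/
theorem sum_triples_5 (σ : Ω × Ω × Ω → Ω × Ω × Ω)
    (hσ : ∀ x : Ω × Ω × Ω, (x.1 ≠ x.2.1 ∧ x.1 ≠ x.2.2 ∧ x.2.1 ≠ x.2.2) →
      ((σ x).1 ≠ (σ x).2.1 ∧ (σ x).1 ≠ (σ x).2.2 ∧ (σ x).2.1 ≠ (σ x).2.2)) :
    ∑ x ∈ univ.filter (fun x : Ω × Ω × Ω => x.1 ≠ x.2.1 ∧ x.1 ≠ x.2.2 ∧ x.2.1 ≠ x.2.2),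
      (univ.filter (fun g : G => g • x = σ x)).card = Fintype.card G := by
  refine sum_class (fun x : Ω × Ω × Ω => x.1 ≠ x.2.1 ∧ x.1 ≠ x.2.2 ∧ x.2.1 ≠ x.2.2) σ ?_ hσ ?_ ?_
  · obtain ⟨a, b, c, hab, hac, hbc⟩ := exists_three h3 hΩ
    exact ⟨(a, b, c), hab, hac, hbc⟩
  · rintro ⟨a, b, c⟩ ⟨a', b', c'⟩ ⟨hx1, hx2, hx3⟩ ⟨hy1, hy2, hy3⟩
    simp only at hx1 hx2 hx3 hy1 hy2 hy3
    obtain ⟨g, hg1, hg2, hg3⟩ := trans_three h3 hx1 hx2 hx3 hy1 hy2 hy3
    exact ⟨g, by simp [Prod.smul_mk, hg1, hg2, hg3]⟩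
  · rintro ⟨a, b, c⟩ g ⟨hx1, hx2, hx3⟩
    simp only [Prod.smul_mk] at hx1 hx2 hx3 ⊢
    exact ⟨fun h => hx1 (smul_left_cancel g h), fun h => hx2 (smul_left_cancel g h),
      fun h => hx3 (smul_left_cancel g h)⟩

/-- PA3 -/
theorem sum_fix_cube : ∑ g : G, Nat.card (fixedBy Ω g) ^ 3 = 5 * Fintype.card G := by
  rw [Finset.sum_congr rfl (fun g _ => fix_cube_eq (Ω := Ω) g), sum_card_filter_comm,
    sum_triples_split, sum_triples_1 h3 hΩ id (fun _ h => h), sum_triples_2 h3 hΩ id (fun _ h => h),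
    sum_triples_3 h3 hΩ id (fun _ h => h), sum_triples_4 h3 hΩ id (fun _ h => h),
    sum_triples_5 h3 hΩ id (fun _ h => h)]
  ring

/-- PA4 -/
theorem sum_fix_mul_fix_sq :
    ∑ g : G, Nat.card (fixedBy Ω g) * Nat.card (fixedBy Ω (g ^ 2)) = 3 * Fintype.card G := by
  rw [Finset.sum_congr rfl (fun g _ => fix_mul_fix_sq_eq (Ω := Ω) g),
    sum_card_filter_comm (σ := fun x : Ω × Ω × Ω => (x.1, x.2.2, x.2.1)),
    sum_triples_split,
    sum_triples_1 h3 hΩ (fun x : Ω × Ω × Ω => (x.1, x.2.2, x.2.1))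
      (fun x h => ⟨h.1.trans h.2, h.2.symm⟩),
    sum_triples_4 h3 hΩ (fun x : Ω × Ω × Ω => (x.1, x.2.2, x.2.1))
      (fun x h => ⟨h.1.symm, fun h' => h.2 (h'.trans h.1.symm)⟩),
    sum_triples_5 h3 hΩ (fun x : Ω × Ω × Ω => (x.1, x.2.2, x.2.1))
      (fun x h => ⟨h.2.1, h.1, fun h' => h.2.2 h'.symm⟩),
    sum_class_zero (fun x : Ω × Ω × Ω => x.1 = x.2.1 ∧ x.2.1 ≠ x.2.2), 
    sum_class_zero (fun x : Ω × Ω × Ω => x.1 = x.2.2 ∧ x.1 ≠ x.2.1)]
  · ring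
  · rintro ⟨a, b, c⟩ ⟨hx1, hx2⟩ g hg
    simp only [Prod.smul_mk, Prod.mk.injEq] at hx1 hx2 hg
    subst hx1
    exact hx2 (hg.1.symm.trans hg.2.2)
  · rintro ⟨a, b, c⟩ ⟨hx1, hx2⟩ g hg
    simp only [Prod.smul_mk, Prod.mk.injEq] at hx1 hx2 hg
    subst hx1
    exact hx2 (hg.1.symm.trans hg.2.1)

end Points

end Cfsg.Agent.Lib.Helper32_ItoCount
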