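import Mathlib

set_option autoImplicit false
set_option linter.unusedSectionVars false

/-!
# Permutation groups of prime degree: elementary fixed-point lemmas (helper32)

Package PC of S4706 (helper15): `α` of prime cardinality `p`, `G : Subgroup (Perm α)`.
-/

namespace Cfsg.Agent.Lib.Helper32_ItoPerm

open MulAction Equiv

variable {α : Type*} [Fintype α] [DecidableEq α] {p : ℕ} [Fact p.Prime]

/-- a permutation of order `p` on `p` points is a `p`-cycle -/
theorem isCycle_of_orderOf_eq (hα : Fintype.card α = p) (σ : Perm α) (hσ : orderOf σ = p) :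
    σ.IsCycle := by
  have hp : (Fintype.card α).Prime := hα ▸ (Fact.out : p.Prime)
  exact Equiv.Perm.isCycle_of_prime_order'' hp (hσ.trans hα.symm)

/-- a permutation of order `p` on `p` points has no fixed point -/
theorem apply_ne_of_orderOf_eq (hα : Fintype.card α = p) (σ : Perm α) (hσ : orderOf σ = p)
    (a : α) : σ a ≠ a := by
  have hc : σ.IsCycle := isCycle_of_orderOf_eq hα σ hσ
  have hs : σ.support.card = Fintype.card α := by rw [← hc.orderOf, hσ, hα]
  have hu : σ.support = Finset.univ := Finset.eq_univ_of_card _ hs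
  have ha : a ∈ σ.support := hu ▸ Finset.mem_univ a
  exact Perm.mem_support.1 ha

/-- a permutation of order divisible by `p` on `p` points has no fixed point -/
theorem apply_ne_of_dvd_orderOf (hα : Fintype.card α = p) (σ : Perm α) (hσ : p ∣ orderOf σ)
    (a : α) : σ a ≠ a := by
  obtain ⟨k, hk⟩ := hσ
  have hpos : 0 < orderOf σ := orderOf_pos σ
  have hk0 : k ≠ 0 := by
    rintro rfl
    rw [mul_zero] at hk
    omega
  have hord : orderOf (σ ^ k) = p := by
    rw [orderOf_pow_of_dvd hk0 ⟨p, by rw [hk, mul_comm]⟩, hk,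
      Nat.mul_div_cancel _ (Nat.pos_of_ne_zero hk0)]
  intro h
  exact apply_ne_of_orderOf_eq hα (σ ^ k) hord a (Perm.pow_apply_eq_self_of_apply_eq_self h k)

theorem smul_eq_coe_apply (G : Subgroup (Equiv.Perm α)) (g : G) (a : α) :
    g • a = (g : Perm α) a := rfl

/-- PC1: elements of order divisible by `p` in a permutation group of degree `p` have no fixed
point -/
theorem fix_eq_zero_of_dvd_orderOf (hα : Fintype.card α = p) (G : Subgroup (Equiv.Perm α)) (g : G)
    (hg : p ∣ orderOf g) : Nat.card (fixedBy α g) = 0 := by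
  have hg' : p ∣ orderOf (g : Perm α) := by rwa [Subgroup.orderOf_coe]
  have hempty : fixedBy α g = ∅ := by
    rw [Set.eq_empty_iff_forall_notMem]
    intro a ha
    rw [mem_fixedBy, smul_eq_coe_apply] at ha
    exact apply_ne_of_dvd_orderOf hα _ hg' a ha
  rw [hempty]
  simp

/-- PC1' -/
theorem fix_sq_eq_zero_of_dvd_orderOf (hα : Fintype.card α = p) (hp2 : p ≠ 2)
    (G : Subgroup (Equiv.Perm α)) (g : G)
    (hg : p ∣ orderOf g) : Nat.card (fixedBy α (g ^ 2)) = 0 := by
  apply fix_eq_zero_of_dvd_orderOf hα G (g ^ 2)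
  rw [orderOf_pow]
  have hp : p.Prime := Fact.out
  have hd : Nat.gcd (orderOf g) 2 ∣ orderOf g := Nat.gcd_dvd_left _ _
  have hcop : Nat.Coprime p (Nat.gcd (orderOf g) 2) := by
    have h2 : Nat.Coprime p 2 := (Nat.coprime_primes hp Nat.prime_two).2 hp2
    exact Nat.Coprime.coprime_dvd_right (Nat.gcd_dvd_right _ _) h2
  have hmul : p ∣ (orderOf g / Nat.gcd (orderOf g) 2) * Nat.gcd (orderOf g) 2 := by
    rw [Nat.div_mul_cancel hd]
    exact hg
  exact hcop.dvd_of_dvd_mul_right hmul

/-- PC2: a Sylow `p`-subgroup of a permutation group of degree `p` is self-centralising -/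
theorem mem_of_mem_centralizer (hα : Fintype.card α = p) (G : Subgroup (Equiv.Perm α))
    (P : Sylow p G) (hP : Nat.card P = p) (c : G)
    (hc : c ∈ Subgroup.centralizer ((P : Subgroup G) : Set G)) : c ∈ (P : Subgroup G) := by
  obtain ⟨x, hx⟩ := exists_prime_orderOf_dvd_card' (G := (P : Subgroup G)) p (by rw [hP])
  set σ : Perm α := ((x : G) : Perm α) with hσdef
  set τ : Perm α := (c : Perm α) with hτdef
  have hσ : orderOf σ = p := by
    rw [hσdef, Subgroup.orderOf_coe, Subgroup.orderOf_coe, hx]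
  have hcyc : σ.IsCycle := isCycle_of_orderOf_eq hα σ hσ
  have hcomm : Commute τ σ := by
    have h1 := (Subgroup.mem_centralizer_iff.1 hc) (x : G) x.2
    have h2 : ((c * (x : G) : G) : Perm α) = (((x : G) * c : G) : Perm α) := by rw [h1]
    exact h2
  have hne : Nonempty α := by
    rw [← Fintype.card_pos_iff, hα]
    exact (Fact.out : p.Prime).pos
  obtain ⟨a⟩ := hne
  obtain ⟨i, hi⟩ := hcyc.exists_pow_eq (apply_ne_of_orderOf_eq hα σ hσ a)
    (apply_ne_of_orderOf_eq hα σ hσ (τ a))
  have hτ : τ = σ ^ i := by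
    ext b
    obtain ⟨j, hj⟩ := hcyc.exists_pow_eq (apply_ne_of_orderOf_eq hα σ hσ a)
      (apply_ne_of_orderOf_eq hα σ hσ b)
    have h1 : τ ((σ ^ j) a) = (σ ^ j) (τ a) := by
      have := (hcomm.pow_right j).eq
      exact congrArg (fun f : Perm α => f a) this
    rw [← hj, h1, ← hi, ← Perm.mul_apply, ← Perm.mul_apply, ← pow_add, ← pow_add, add_comm]
  have hcx : c = (x : G) ^ i := by
    apply Subtype.ext
    rw [Subgroup.coe_pow]
    exact hτ
  rw [hcx]
  exact Subgroup.pow_mem _ x.2 i

/-- PC3 -/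
theorem fix_le_fix_sq (G : Subgroup (Equiv.Perm α)) (g : G) :
    Nat.card (fixedBy α g) ≤ Nat.card (fixedBy α (g ^ 2)) := by
  apply Nat.card_mono (Set.toFinite _)
  intro a ha
  rw [mem_fixedBy] at ha ⊢
  rw [pow_two, mul_smul, ha, ha]

/-- PC4 -/
theorem eq_one_of_fix_eq_card (G : Subgroup (Equiv.Perm α)) (g : G)
    (h : Fintype.card α ≤ Nat.card (fixedBy α g)) : g = 1 := by
  have h1 : (fixedBy α g).ncard ≤ Nat.card α := Set.ncard_le_card _
  have h2 : (fixedBy α g).ncard = Nat.card α := by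
    rw [Nat.card_coe_set_eq] at h
    rw [Nat.card_eq_fintype_card] at h1 ⊢
    omega
  have h3 : fixedBy α g = Set.univ := (Set.eq_univ_iff_ncard _).2 h2
  apply Subtype.ext
  ext a
  have ha : a ∈ fixedBy α g := h3 ▸ Set.mem_univ a
  rw [mem_fixedBy, smul_eq_coe_apply] at ha
  rw [ha]
  rfl

end Cfsg.Agent.Lib.Helper32_ItoPerm
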