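import Mathlib
import Cfsg.Prelude.Def_Characters
import Cfsg.Agent.Lib.Helper75_Induced
import Cfsg.Agent.Lib.Helper75_IndChar
import Cfsg.Agent.Lib.Helper15_Linear

/-!
# The exterior square of a 2-transitive permutation character (helper33, package S4706-PB for helper15)

For a 2-transitive action of a finite group `G` on `Ω`, `g ↦ (fix(g)^2 - fix(g^2))/2` is the character
induced from the sign character of the setwise stabiliser of a pair `{a, b}`.
-/

set_option autoImplicit false
set_option linter.unusedSectionVars false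
set_option linter.unusedSimpArgs false

namespace Cfsg.Agent.Lib.Helper33_ItoAlt

open MulAction

variable {G : Type*} [Group G] [Fintype G] {Ω : Type*} [Fintype Ω] [DecidableEq Ω] [MulAction G Ω]

/-- number of fixed points as a filter cardinality -/
theorem card_fixedBy_eq (g : G) :
    Nat.card (fixedBy Ω g) = (Finset.univ.filter (fun c : Ω => g • c = c)).card := by
  classical
  rw [Nat.card_eq_fintype_card, ← Fintype.card_subtype]
  exact Fintype.card_congr (Equiv.refl _)

/-- the map `x ↦ (x • a, x • b)` -/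
def phi (a b : Ω) (x : G) : Ω × Ω := (x • a, x • b)

/-- the order of the two-point stabiliser, as a fibre cardinality -/
def nD (G : Type*) [Group G] [Fintype G] {Ω : Type*} [DecidableEq Ω] [MulAction G Ω] (a b : Ω) : ℕ :=
  (Finset.univ.filter (fun x : G => phi a b x = (a, b))).card

theorem nD_pos (a b : Ω) : 0 < nD G a b := by
  unfold nD
  apply Finset.card_pos.mpr
  exact ⟨1, by simp [phi]⟩

theorem card_fiber (h2 : ∀ {a b c d : Ω}, a ≠ b → c ≠ d → ∃ g : G, g • a = c ∧ g • b = d)
    {a b : Ω} (hab : a ≠ b) (p : Ω × Ω) (hp : p.1 ≠ p.2) :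
    (Finset.univ.filter (fun x : G => phi a b x = p)).card = nD G a b := by
  obtain ⟨x0, h1, h2'⟩ := h2 hab hp
  unfold nD
  symm
  apply Finset.card_bij (fun x _ => x0 * x)
  · intro x hx
    simp only [Finset.mem_filter, Finset.mem_univ, true_and] at hx ⊢
    simp only [phi, Prod.mk.injEq] at hx
    refine Prod.ext ?_ ?_
    · simp [phi, mul_smul, hx.1, h1]
    · simp [phi, mul_smul, hx.2, h2']
  · intro x _ y _ h
    exact mul_left_cancel h
  · intro y hy
    simp only [Finset.mem_filter, Finset.mem_univ, true_and] at hy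
    refine ⟨x0⁻¹ * y, ?_, by simp⟩
    simp only [Finset.mem_filter, Finset.mem_univ, true_and]
    have e1 : y • a = p.1 := by rw [← hy, phi]
    have e2 : y • b = p.2 := by rw [← hy, phi]
    simp only [phi, Prod.mk.injEq]
    constructor
    · rw [mul_smul, e1, ← h1, inv_smul_smul]
    · rw [mul_smul, e2, ← h2', inv_smul_smul]

theorem card_filter_phi (h2 : ∀ {a b c d : Ω}, a ≠ b → c ≠ d → ∃ g : G, g • a = c ∧ g • b = d)
    {a b : Ω} (hab : a ≠ b) (P : Ω × Ω → Prop) [DecidablePred P] :
    (Finset.univ.filter (fun x : G => P (phi a b x))).card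
      = (Finset.univ.filter (fun p : Ω × Ω => p.1 ≠ p.2 ∧ P p)).card * nD G a b := by
  rw [Finset.card_eq_sum_card_fiberwise (f := phi a b)
    (s := Finset.univ.filter (fun x : G => P (phi a b x)))
    (t := Finset.univ.filter (fun p : Ω × Ω => p.1 ≠ p.2 ∧ P p))]
  · rw [Finset.sum_const_nat (m := nD G a b)]
    intro p hp
    simp only [Finset.mem_filter, Finset.mem_univ, true_and] at hp
    rw [← card_fiber h2 hab p hp.1]
    congr 1
    ext x
    simp only [Finset.mem_filter, Finset.mem_univ, true_and]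
    constructor
    · intro h; exact h.2
    · intro h; exact ⟨h ▸ hp.2, h⟩
  · intro x hx
    simp only [Finset.coe_filter, Finset.mem_univ, true_and, Set.mem_ofPred_eq] at hx ⊢
    refine ⟨?_, hx⟩
    simp only [phi]
    intro h
    exact hab (smul_left_cancel x h)


/-- the setwise stabiliser of the pair `{a, b}` -/
def pairStab (G : Type*) [Group G] {Ω : Type*} [MulAction G Ω] (a b : Ω) : Subgroup G where
  carrier := {g | (g • a = a ∧ g • b = b) ∨ (g • a = b ∧ g • b = a)}
  one_mem' := Or.inl ⟨one_smul _ _, one_smul _ _⟩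
  mul_mem' := by
    rintro g h (⟨g1, g2⟩ | ⟨g1, g2⟩) (⟨h1, h2⟩ | ⟨h1, h2⟩)
    · left; simp [mul_smul, g1, g2, h1, h2]
    · right; simp [mul_smul, g1, g2, h1, h2]
    · right; simp [mul_smul, g1, g2, h1, h2]
    · left; simp [mul_smul, g1, g2, h1, h2]
  inv_mem' := by
    rintro g (⟨g1, g2⟩ | ⟨g1, g2⟩)
    · left; exact ⟨by rw [inv_smul_eq_iff, g1], by rw [inv_smul_eq_iff, g2]⟩
    · right; exact ⟨by rw [inv_smul_eq_iff, g2], by rw [inv_smul_eq_iff, g1]⟩

theorem mem_pairStab {a b : Ω} {g : G} :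
    g ∈ pairStab G a b ↔ (g • a = a ∧ g • b = b) ∨ (g • a = b ∧ g • b = a) := Iff.rfl

/-- the sign character of the pair stabiliser -/
noncomputable def lamHom {a b : Ω} (hab : a ≠ b) : pairStab G a b →* ℂ where
  toFun g := if g.1 • a = a then 1 else -1
  map_one' := by simp
  map_mul' := by
    rintro ⟨g, (⟨g1, g2⟩ | ⟨g1, g2⟩)⟩ ⟨h, (⟨h1, h2⟩ | ⟨h1, h2⟩)⟩
    · simp [mul_smul, g1, g2, h1, h2]
    · simp [mul_smul, g1, g2, h1, h2, hab.symm]
    · simp [mul_smul, g1, g2, h1, h2, hab.symm]
    · simp [mul_smul, g1, g2, h1, h2, hab.symm]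

theorem extendByZero_lam {a b : Ω} (hab : a ≠ b) (y : G) :
    Cfsg.extendByZero (pairStab G a b) (fun l => lamHom hab l) y
      = (if y • a = a ∧ y • b = b then (1 : ℂ) else 0) - (if y • a = b ∧ y • b = a then (1 : ℂ) else 0) := by
  by_cases hy : y ∈ pairStab G a b
  · rw [Cfsg.Agent.Lib.Helper75_Induced.extendByZero_of_mem _ _ hy]
    rcases hy with ⟨y1, y2⟩ | ⟨y1, y2⟩
    · simp [lamHom, y1, y2, hab]
    · simp [lamHom, y1, y2, hab.symm]
  · rw [Cfsg.Agent.Lib.Helper75_Induced.extendByZero_of_not_mem _ _ hy]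
    rw [mem_pairStab, not_or] at hy
    simp [hy.1, hy.2]


/-- ordered pairs of distinct fixed points -/
theorem card_fix_pairs (g : G) :
    (Finset.univ.filter (fun p : Ω × Ω => p.1 ≠ p.2 ∧ (g • p.1 = p.1 ∧ g • p.2 = p.2))).card
      + (Finset.univ.filter (fun c : Ω => g • c = c)).card
      = (Finset.univ.filter (fun c : Ω => g • c = c)).card * (Finset.univ.filter (fun c : Ω => g • c = c)).card := by
  set Fx := Finset.univ.filter (fun c : Ω => g • c = c) with hFx
  have hprod : (Fx ×ˢ Fx).card = Fx.card * Fx.card := Finset.card_product _ _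
  rw [← hprod, ← Finset.card_filter_add_card_filter_not (s := Fx ×ˢ Fx) (fun p : Ω × Ω => p.1 ≠ p.2)]
  congr 1
  · congr 1
    ext p
    simp only [Finset.mem_filter, Finset.mem_univ, true_and, Finset.mem_product, hFx]
    tauto
  · symm
    apply Finset.card_bij (fun p _ => p.1)
    · intro p hp
      simp only [Finset.mem_filter, Finset.mem_product, hFx, Finset.mem_univ, true_and] at hp ⊢
      exact hp.1.1
    · intro p hp q hq h
      simp only [Finset.mem_filter, Finset.mem_product, ne_eq, not_not] at hp hq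
      exact Prod.ext h (by rw [← hp.2, ← hq.2, h])
    · intro c hc
      refine ⟨(c, c), ?_, rfl⟩
      simp only [Finset.mem_filter, Finset.mem_product, ne_eq, not_not, and_self, and_true]
      exact hc

/-- ordered pairs swapped by `g` -/
theorem card_swap_pairs (g : G) :
    (Finset.univ.filter (fun p : Ω × Ω => p.1 ≠ p.2 ∧ (g • p.1 = p.2 ∧ g • p.2 = p.1))).card
      + (Finset.univ.filter (fun c : Ω => g • c = c)).card
      = (Finset.univ.filter (fun c : Ω => g ^ 2 • c = c)).card := by
  rw [← Finset.card_filter_add_card_filter_not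
    (s := Finset.univ.filter (fun c : Ω => g ^ 2 • c = c)) (fun c : Ω => g • c = c), add_comm]
  congr 1
  · congr 1
    ext c
    simp only [Finset.mem_filter, Finset.mem_univ, true_and]
    constructor
    · intro h; exact ⟨by rw [sq, mul_smul, h, h], h⟩
    · intro h; exact h.2
  · apply Finset.card_bij (fun p _ => p.1)
    · intro p hp
      simp only [Finset.mem_filter, Finset.mem_univ, true_and] at hp ⊢
      obtain ⟨hne, h1, h2⟩ := hp
      refine ⟨by rw [sq, mul_smul, h1, h2], ?_⟩
      rw [h1]; exact fun h => hne h.symm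
    · intro p hp q hq h
      simp only [Finset.mem_filter, Finset.mem_univ, true_and] at hp hq
      exact Prod.ext h (by rw [← hp.2.1, ← hq.2.1, h])
    · intro c hc
      simp only [Finset.mem_filter, Finset.mem_univ, true_and] at hc
      refine ⟨(c, g • c), ?_, rfl⟩
      rw [Finset.mem_filter]
      refine ⟨Finset.mem_univ _, fun h => hc.2 h.symm, rfl, ?_⟩
      show g • g • c = c
      rw [← mul_smul, ← sq]; exact hc.1


theorem card_pairStab (h2 : ∀ {a b c d : Ω}, a ≠ b → c ≠ d → ∃ g : G, g • a = c ∧ g • b = d)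
    {a b : Ω} (hab : a ≠ b) : Nat.card (pairStab G a b) = 2 * nD G a b := by
  classical
  have e1 : Nat.card (pairStab G a b)
      = (Finset.univ.filter (fun x : G => x ∈ pairStab G a b)).card := by
    rw [Nat.card_eq_fintype_card, ← Fintype.card_subtype]
  have e2 : (Finset.univ.filter (fun x : G => x ∈ pairStab G a b))
      = Finset.univ.filter (fun x : G => (fun p : Ω × Ω => p = (a, b) ∨ p = (b, a)) (phi a b x)) := by
    apply Finset.filter_congr
    intro x _
    simp only [mem_pairStab, phi, Prod.mk.injEq]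
  rw [e1, e2, card_filter_phi h2 hab (fun p : Ω × Ω => p = (a, b) ∨ p = (b, a))]
  congr 1
  have e3 : (Finset.univ.filter (fun p : Ω × Ω => p.1 ≠ p.2 ∧ (p = (a, b) ∨ p = (b, a))))
      = {(a, b), (b, a)} := by
    ext p
    simp only [Finset.mem_filter, Finset.mem_univ, true_and, Finset.mem_insert, Finset.mem_singleton]
    constructor
    · intro h; exact h.2
    · rintro (rfl | rfl)
      · exact ⟨hab, Or.inl rfl⟩
      · exact ⟨hab.symm, Or.inr rfl⟩
  rw [e3, Finset.card_pair]
  intro h
  exact hab (Prod.ext_iff.mp h).1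

theorem sum_ext (h2 : ∀ {a b c d : Ω}, a ≠ b → c ≠ d → ∃ g : G, g • a = c ∧ g • b = d)
    {a b : Ω} (hab : a ≠ b) (g : G) :
    ∑ x : G, Cfsg.extendByZero (pairStab G a b) (fun l => lamHom hab l) (x⁻¹ * g * x)
      = (nD G a b : ℂ) * (((Finset.univ.filter (fun c : Ω => g • c = c)).card : ℂ) ^ 2
          - ((Finset.univ.filter (fun c : Ω => g ^ 2 • c = c)).card : ℂ)) := by
  classical
  simp_rw [extendByZero_lam hab]
  rw [Finset.sum_sub_distrib, Finset.sum_boole, Finset.sum_boole]
  have e1 : (Finset.univ.filter (fun x : G => (x⁻¹ * g * x) • a = a ∧ (x⁻¹ * g * x) • b = b))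
      = Finset.univ.filter (fun x : G =>
          (fun p : Ω × Ω => g • p.1 = p.1 ∧ g • p.2 = p.2) (phi a b x)) := by
    apply Finset.filter_congr
    intro x _
    simp only [phi, mul_smul, inv_smul_eq_iff]
  have e2 : (Finset.univ.filter (fun x : G => (x⁻¹ * g * x) • a = b ∧ (x⁻¹ * g * x) • b = a))
      = Finset.univ.filter (fun x : G =>
          (fun p : Ω × Ω => g • p.1 = p.2 ∧ g • p.2 = p.1) (phi a b x)) := by
    apply Finset.filter_congr
    intro x _
    simp only [phi, mul_smul, inv_smul_eq_iff]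
  rw [e1, e2, card_filter_phi h2 hab (fun p : Ω × Ω => g • p.1 = p.1 ∧ g • p.2 = p.2),
    card_filter_phi h2 hab (fun p : Ω × Ω => g • p.1 = p.2 ∧ g • p.2 = p.1)]
  have c1 := card_fix_pairs (Ω := Ω) g
  have c2 := card_swap_pairs (Ω := Ω) g
  set A := (Finset.univ.filter (fun p : Ω × Ω => p.1 ≠ p.2 ∧ (g • p.1 = p.1 ∧ g • p.2 = p.2))).card
  set B := (Finset.univ.filter (fun p : Ω × Ω => p.1 ≠ p.2 ∧ (g • p.1 = p.2 ∧ g • p.2 = p.1))).card
  set f := (Finset.univ.filter (fun c : Ω => g • c = c)).card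
  set f2 := (Finset.univ.filter (fun c : Ω => g ^ 2 • c = c)).card
  have c1' : (A : ℂ) + f = f * f := by exact_mod_cast c1
  have c2' : (B : ℂ) + f = f2 := by exact_mod_cast c2
  push_cast
  rw [← c2']
  have : (A : ℂ) = f * f - f := by rw [← c1']; ring
  rw [this]
  ring

/-- PB: the exterior square of a 2-transitive permutation character is a character. -/
theorem isCharacter_altSq (h2 : IsMultiplyPretransitive G Ω 2) (hΩ : 2 ≤ Fintype.card Ω) :
    Cfsg.IsCharacter G (fun g : G =>
      (((Nat.card (fixedBy Ω g) : ℂ)) ^ 2 - (Nat.card (fixedBy Ω (g ^ 2)) : ℂ)) / 2) := by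
  classical
  obtain ⟨a, b, hab⟩ := Fintype.one_lt_card_iff.mp hΩ
  have h2' : ∀ {a b c d : Ω}, a ≠ b → c ≠ d → ∃ g : G, g • a = c ∧ g • b = d :=
    is_two_pretransitive_iff.mp h2
  have key : (fun g : G =>
      (((Nat.card (fixedBy Ω g) : ℂ)) ^ 2 - (Nat.card (fixedBy Ω (g ^ 2)) : ℂ)) / 2)
      = Cfsg.indFun (pairStab G a b) (fun l => lamHom hab l) := by
    funext g
    rw [Cfsg.Agent.Lib.Helper75_Induced.indFun_apply, sum_ext h2' hab g, card_pairStab h2' hab,
      card_fixedBy_eq, card_fixedBy_eq]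
    have hn : (nD G a b : ℂ) ≠ 0 := by exact_mod_cast (nD_pos (G := G) a b).ne'
    push_cast
    field_simp
  rw [key]
  exact Cfsg.Agent.Lib.Helper75_IndChar.isCharacter_indFun _
    (Cfsg.Agent.Lib.Helper15_Linear.isCharacter_of_hom (lamHom hab)).1

end Cfsg.Agent.Lib.Helper33_ItoAlt
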