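import Mathlib

/-!
Two simplicity criteria for finite permutation groups.

* `isSimpleGroup_of_prime_degree`: a transitive faithful group of prime degree `p` and order
  `p * t` (`p ∤ t`) such that the Sylow counting forces the normalizer of a Sylow `p`-subgroup to
  have order `p * q` with `q` prime, `t ≠ q`, is simple.  (Generalises the argument of
  `Cfsg.Agent.S0418`.)
* `isSimpleGroup_of_two_pretransitive`: a faithful 2-transitive group whose point stabilizer is
  simple and whose degree is divisible by two distinct primes is simple.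
-/

set_option autoImplicit false
set_option linter.style.haveILetI false
set_option linter.unusedSectionVars false

namespace Cfsg.Agent.Lib.Helper7_Simple

open MulAction

section general

variable {G : Type*} [Group G] {α : Type*} [MulAction G α] [FaithfulSMul G α]

/-- a nontrivial element moves some point -/
theorem exists_smul_ne {x : G} (hx : x ≠ 1) : ∃ a : α, x • a ≠ a := by
  by_contra h
  push Not at h
  exact hx (FaithfulSMul.eq_of_smul_eq_smul (α := α) (by simpa using h))

/-- a subgroup of prime order `p` acting faithfully on `p` points is transitive -/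
theorem isPretransitive_of_card_eq_prime [Finite α] {p : ℕ} (hp : p.Prime)
    (hα : Nat.card α = p) (Q : Subgroup G) (hQ : Nat.card Q = p) : IsPretransitive Q α := by
  have hex : ∃ x ∈ Q, x ≠ 1 := by
    by_contra h
    push Not at h
    have : Q = ⊥ := (Subgroup.eq_bot_iff_forall _).mpr h
    rw [this, Subgroup.card_bot] at hQ
    exact hp.one_lt.ne hQ
  obtain ⟨x, hxQ, hx1⟩ := hex
  obtain ⟨a, ha⟩ := exists_smul_ne (α := α) hx1
  rw [isPretransitive_iff_orbit_eq_univ a, Set.eq_univ_iff_ncard, hα]
  have hdvd : (orbit Q a).ncard ∣ p := by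
    rw [← index_stabilizer, ← hQ]
    exact Subgroup.index_dvd_card _
  have hlt : 1 < (orbit Q a).ncard := by
    rw [Set.one_lt_ncard (Set.toFinite _)]
    exact ⟨a, mem_orbit_self a, x • a, ⟨⟨x, hxQ⟩, rfl⟩, fun h => ha h.symm⟩
  exact ((Nat.dvd_prime hp).mp hdvd).resolve_left hlt.ne'

/-- a normal subgroup which is not trivial does not fix every point -/
theorem fixedPoints_ne_top_of_ne_bot (N : Subgroup G) (hN : N ≠ ⊥) :
    fixedPoints N α ≠ ⊤ := by
  intro h
  apply hN
  rw [Subgroup.eq_bot_iff_forall]
  intro x hx
  by_contra hx1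
  obtain ⟨a, ha⟩ := exists_smul_ne (α := α) hx1
  have : a ∈ fixedPoints N α := by rw [h]; trivial
  exact ha (this ⟨x, hx⟩)

/-- a nontrivial normal subgroup of a primitive group is transitive -/
theorem isPretransitive_of_normal_of_preprimitive [IsPreprimitive G α]
    (N : Subgroup G) [N.Normal] (hN : N ≠ ⊥) : IsPretransitive N α :=
  IsQuasiPreprimitive.isPretransitive_of_normal (G := G) (fixedPoints_ne_top_of_ne_bot N hN)

/-- a nontrivial normal subgroup of a transitive group of prime degree is transitive -/
theorem isPretransitive_of_normal_of_prime [IsPretransitive G α] (hp : (Nat.card α).Prime)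
    (N : Subgroup G) [N.Normal] (hN : N ≠ ⊥) : IsPretransitive N α := by
  have : IsPreprimitive G α := IsPreprimitive.of_prime_card hp
  exact isPretransitive_of_normal_of_preprimitive N hN

/-- ... hence its order is divisible by the degree -/
theorem card_dvd_of_normal_of_prime [IsPretransitive G α] (hp : (Nat.card α).Prime)
    (N : Subgroup G) [N.Normal] (hN : N ≠ ⊥) : Nat.card α ∣ Nat.card N := by
  haveI := isPretransitive_of_normal_of_prime hp N hN
  haveI : Nonempty α := (Nat.card_pos_iff.mp hp.pos).1
  obtain ⟨a⟩ := ‹Nonempty α›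
  rw [← index_stabilizer_of_transitive N a]
  exact Subgroup.index_dvd_card _

/-- the centralizer of a transitive subgroup acts freely, so is no bigger than the set -/
theorem card_centralizer_le [Finite α] (Q : Subgroup G) [IsPretransitive Q α] [Nonempty α] :
    Nat.card (Subgroup.centralizer (Q : Set G)) ≤ Nat.card α := by
  obtain ⟨a⟩ := ‹Nonempty α›
  apply Nat.card_le_card_of_injective (fun c : Subgroup.centralizer (Q : Set G) => (c : G) • a)
  intro c c' h
  simp only at h
  apply Subtype.ext
  apply FaithfulSMul.eq_of_smul_eq_smul (α := α)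
  intro b
  obtain ⟨q, rfl⟩ := exists_smul_eq Q a b
  have hc : (q : G) * (c : G) = (c : G) * (q : G) := c.2 q q.2
  have hc' : (q : G) * (c' : G) = (c' : G) * (q : G) := c'.2 q q.2
  rw [Subgroup.smul_def, ← mul_smul, ← mul_smul, ← hc, ← hc', mul_smul, mul_smul, h]

end general

section sylow

variable {G : Type*} [Group G] [Finite G] {α : Type*} [MulAction G α] [FaithfulSMul G α] [Finite α]

variable {p t : ℕ} [hp : Fact p.Prime]

theorem sylow_card (hG : Nat.card G = p * t) (hpt : ¬ p ∣ t) (P : Sylow p G) : Nat.card P = p := by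
  rw [Sylow.card_eq_multiplicity, hG]
  have ht0 : t ≠ 0 := fun h => hpt (h ▸ dvd_zero p)
  rw [Nat.factorization_mul hp.out.ne_zero ht0, Finsupp.add_apply, hp.out.factorization_self,
    Nat.factorization_eq_zero_of_not_dvd hpt, pow_one]

theorem centralizer_sylow_eq (hG : Nat.card G = p * t) (hpt : ¬ p ∣ t) (hα : Nat.card α = p)
    (P : Sylow p G) : Subgroup.centralizer ((P : Subgroup G) : Set G) = P := by
  have hP := sylow_card hG hpt P
  haveI := isPretransitive_of_card_eq_prime (α := α) hp.out hα (P : Subgroup G) hP
  haveI : Nonempty α := (Nat.card_pos_iff.mp (by rw [hα]; exact hp.out.pos)).1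
  have hle : (P : Subgroup G) ≤ Subgroup.centralizer ((P : Subgroup G) : Set G) := by
    rw [Subgroup.le_centralizer_iff_isMulCommutative]
    haveI := isCyclic_of_prime_card hP
    exact IsCyclic.isMulCommutative
  refine (Subgroup.eq_of_le_of_card_ge hle ?_).symm
  have hc := card_centralizer_le (α := α) (P : Subgroup G)
  rw [hα] at hc
  rw [hP]
  exact hc

/-- The order of the normalizer of a Sylow `p`-subgroup, when Sylow counting determines it. -/
theorem card_normalizer_sylow {q : ℕ} (hG : Nat.card G = p * t) (hpt : ¬ p ∣ t)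
    (hα : Nat.card α = p)
    (harith : ∀ k n : ℕ, k ∣ p - 1 → n * (p * k) = p * t → n % p = 1 → k = q)
    (P : Sylow p G) :
    Nat.card (Subgroup.normalizer ((P : Subgroup G) : Set G)) = p * q := by
  have hP := sylow_card hG hpt P
  have h1 := Subgroup.card_eq_card_quotient_mul_card_subgroup
    (P : Subgroup G).normalizerMonoidHom.ker
  rw [Nat.card_congr (QuotientGroup.quotientKerEquivRange _).toEquiv] at h1
  have h2 : Nat.card (P : Subgroup G).normalizerMonoidHom.ker = p := by
    rw [Subgroup.normalizerMonoidHom_ker,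
      Nat.card_congr (Subgroup.subgroupOfEquivOfLe (Subgroup.centralizer_le_normalizer _)).toEquiv,
      centralizer_sylow_eq (α := α) hG hpt hα P, hP]
  have h3 : Nat.card (P : Subgroup G).normalizerMonoidHom.range ∣ p - 1 := by
    have hd := Subgroup.card_subgroup_dvd_card (P : Subgroup G).normalizerMonoidHom.range
    haveI := isCyclic_of_prime_card hP
    rw [IsCyclic.card_mulAut, hP, Nat.totient_prime hp.out] at hd
    exact hd
  have h4 : Nat.card (Sylow p G) * Nat.card (Subgroup.normalizer ((P : Subgroup G) : Set G)) =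
      p * t := by
    rw [Sylow.card_eq_index_normalizer P, ← hG]
    exact Subgroup.index_mul_card _
  have h5 := card_sylow_modEq_one p G
  rw [h2] at h1
  rw [h1] at h4 ⊢
  have h6 : Nat.card (Sylow p G) % p = 1 := by
    have := h5
    unfold Nat.ModEq at this
    rw [this, Nat.mod_eq_of_lt hp.out.one_lt]
  have := harith _ _ h3 (by rw [mul_comm p]; exact h4) h6
  rw [this, mul_comm]

/-- Simplicity of a transitive group of prime degree `p` and order `p * t` when the normalizer of a
Sylow `p`-subgroup is forced to have order `p * q`, `q` prime. -/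
theorem isSimpleGroup_of_prime_degree {q : ℕ} (hq : q.Prime) [IsPretransitive G α]
    (hG : Nat.card G = p * t) (hpt : ¬ p ∣ t) (htq : t ≠ q) (hα : Nat.card α = p)
    (harith : ∀ k n : ℕ, k ∣ p - 1 → n * (p * k) = p * t → n % p = 1 → k = q) :
    IsSimpleGroup G := by
  have hαp : (Nat.card α).Prime := by rw [hα]; exact hp.out
  have ht0 : t ≠ 0 := fun h => hpt (h ▸ dvd_zero p)
  haveI : Nontrivial G := by
    rw [← Finite.one_lt_card_iff_nontrivial, hG]
    calc 1 < p := hp.out.one_lt
      _ ≤ p * t := Nat.le_mul_of_pos_right p (Nat.pos_of_ne_zero ht0)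
  refine ⟨fun N hN => ?_⟩
  by_cases hbot : N = ⊥
  · exact Or.inl hbot
  right
  have hpN : p ∣ Nat.card N := by
    rw [← hα]; exact card_dvd_of_normal_of_prime hαp N hbot
  -- a Sylow subgroup inside N
  obtain ⟨x, hx⟩ := exists_prime_orderOf_dvd_card' p hpN
  have hx' : orderOf (x : G) = p := by rw [Subgroup.orderOf_coe]; exact hx
  have hpg : IsPGroup p (Subgroup.zpowers (x : G)) :=
    IsPGroup.of_card (n := 1) (by rw [Nat.card_zpowers, hx', pow_one])
  obtain ⟨P, hP⟩ := hpg.exists_le_sylow
  have hPc := sylow_card hG hpt P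
  have hPeq : Subgroup.zpowers (x : G) = P :=
    Subgroup.eq_of_le_of_card_ge hP (by rw [hPc, Nat.card_zpowers, hx'])
  have hPN : (P : Subgroup G) ≤ N := by
    rw [← hPeq, Subgroup.zpowers_le]; exact x.2
  have hnorm := card_normalizer_sylow (α := α) hG hpt hα harith P
  have hcent := centralizer_sylow_eq (α := α) hG hpt hα P
  -- the Sylow subgroup of N
  let PN : Sylow p N := P.subtype hPN
  have hPNcoe : (PN : Subgroup N) = (P : Subgroup G).subgroupOf N := Sylow.coe_subtype P hPN
  have hPNmap : (PN : Subgroup N).map N.subtype = P := by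
    rw [hPNcoe, Subgroup.map_subgroupOf_eq_of_le hPN]
  have hfrat := Sylow.normalizer_sup_eq_top PN
  rw [hPNmap] at hfrat
  suffices hle : Subgroup.normalizer ((P : Subgroup G) : Set G) ≤ N by
    rw [← hfrat]; exact (sup_eq_right.mpr hle).symm
  by_cases hB : Subgroup.normalizer ((PN : Subgroup N) : Set N) ≤
      Subgroup.centralizer ((PN : Subgroup N) : Set N)
  · -- Burnside transfer: normal complement K
    exfalso
    have hcompl : (MonoidHom.transferSylow PN hB).ker.IsComplement' PN :=
      MonoidHom.ker_transferSylow_isComplement' PN hB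
    have hnd : ¬ p ∣ Nat.card (MonoidHom.transferSylow PN hB).ker :=
      MonoidHom.not_dvd_card_ker_transferSylow PN hB
    have hKbot : (MonoidHom.transferSylow PN hB).ker = ⊥ := by
      by_contra hKne
      haveI : IsPretransitive N α := isPretransitive_of_normal_of_prime hαp N hbot
      apply hnd
      have hd := card_dvd_of_normal_of_prime (G := N) hαp _ hKne
      rw [hα] at hd
      exact hd
    have htop : (PN : Subgroup N) = ⊤ := by
      rw [hKbot] at hcompl
      exact Subgroup.isComplement'_bot_left.mp hcompl
    have hNP : N = P := by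
      rw [← hPNmap, htop, ← MonoidHom.range_eq_map, Subgroup.range_subtype]
    have hnt : Subgroup.normalizer ((P : Subgroup G) : Set G) = ⊤ := by
      rw [← hNP]; exact Subgroup.normalizer_eq_top N
    rw [hnt, Subgroup.card_top, hG] at hnorm
    exact htq (Nat.eq_of_mul_eq_mul_left hp.out.pos hnorm)
  · -- some y ∈ N normalizes P but does not centralize it
    rw [SetLike.not_le_iff_exists] at hB
    obtain ⟨y, hyN, hyC⟩ := hB
    have hyN' : (y : G) ∈ Subgroup.normalizer ((P : Subgroup G) : Set G) := by
      rw [hPNcoe, ← Subgroup.subgroupOf_normalizer_eq hPN, Subgroup.mem_subgroupOf] at hyN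
      exact hyN
    have hyC' : (y : G) ∉ (P : Subgroup G) := by
      intro hyP
      apply hyC
      rw [Subgroup.mem_centralizer_iff]
      intro h hh
      have hh' : (h : G) ∈ (P : Subgroup G) := by
        have : h ∈ (PN : Subgroup N) := hh
        rw [hPNcoe, Subgroup.mem_subgroupOf] at this
        exact this
      have hyc : (y : G) ∈ Subgroup.centralizer ((P : Subgroup G) : Set G) := by
        rw [hcent]; exact hyP
      apply Subtype.ext
      exact hyc (h : G) hh'
    have hPL : (P : Subgroup G) ≤ N ⊓ Subgroup.normalizer ((P : Subgroup G) : Set G) :=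
      le_inf hPN Subgroup.le_normalizer
    have hLcard : Nat.card ↥(N ⊓ Subgroup.normalizer ((P : Subgroup G) : Set G)) ∣ p * q := by
      rw [← hnorm]; exact Subgroup.card_dvd_of_le inf_le_right
    have hpL : p ∣ Nat.card ↥(N ⊓ Subgroup.normalizer ((P : Subgroup G) : Set G)) := by
      have hd := Subgroup.card_dvd_of_le hPL
      rw [hPc] at hd
      exact hd
    have hne : Nat.card ↥(N ⊓ Subgroup.normalizer ((P : Subgroup G) : Set G)) ≠ p := by
      intro h
      have hPLeq : (P : Subgroup G) = N ⊓ Subgroup.normalizer ((P : Subgroup G) : Set G) :=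
        Subgroup.eq_of_le_of_card_ge hPL (by rw [h, hPc])
      apply hyC'
      rw [hPLeq]
      exact Subgroup.mem_inf.mpr ⟨y.2, hyN'⟩
    have hLpq : Nat.card ↥(N ⊓ Subgroup.normalizer ((P : Subgroup G) : Set G)) = p * q := by
      generalize Nat.card ↥(N ⊓ Subgroup.normalizer ((P : Subgroup G) : Set G)) = l at *
      obtain ⟨m, rfl⟩ := hpL
      have hm : m ∣ q := (Nat.mul_dvd_mul_iff_left hp.out.pos).mp hLcard
      rcases (Nat.dvd_prime hq).mp hm with rfl | rfl
      · exact absurd (mul_one p) hne
      · rfl
    have hLeq : N ⊓ Subgroup.normalizer ((P : Subgroup G) : Set G) =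
        Subgroup.normalizer ((P : Subgroup G) : Set G) :=
      Subgroup.eq_of_le_of_card_ge inf_le_right (by rw [hLpq, hnorm])
    rw [← hLeq]; exact inf_le_left

end sylow

section twoTransitive

variable {G : Type*} [Group G] [Finite G] {α : Type*} [MulAction G α] [FaithfulSMul G α] [Finite α]

/-- In a 2-transitive group, a normal subgroup meeting a point stabilizer trivially has all its
non-identity elements of the same order. -/
theorem orderOf_eq_of_regular_normal [h2t : IsMultiplyPretransitive G α 2]
    (N : Subgroup G) [N.Normal] (a : α) (hreg : N ⊓ stabilizer G a = ⊥)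
    {n n' : G} (hn : n ∈ N) (hn' : n' ∈ N) (hn1 : n ≠ 1) (hn'1 : n' ≠ 1) :
    orderOf n = orderOf n' := by
  have hmove : ∀ m ∈ N, m ≠ 1 → m • a ≠ a := by
    intro m hm hm1 hfix
    apply hm1
    have : m ∈ N ⊓ stabilizer G a := ⟨hm, hfix⟩
    rw [hreg] at this
    exact this
  have h2 : ∀ {a b c d : α}, a ≠ b → c ≠ d → ∃ g : G, g • a = c ∧ g • b = d :=
    is_two_pretransitive_iff.mp h2t
  obtain ⟨g, hga, hgn⟩ := h2 (a := a) (b := n • a) (c := a) (d := n' • a)
    (hmove n hn hn1).symm (hmove n' hn' hn'1).symm
  have hconj : g * n * g⁻¹ = n' := by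
    have h1 : n'⁻¹ * (g * n * g⁻¹) ∈ N ⊓ stabilizer G a := by
      refine ⟨N.mul_mem (N.inv_mem hn') (‹N.Normal›.conj_mem n hn g), ?_⟩
      show n'⁻¹ * (g * n * g⁻¹) ∈ stabilizer G a
      rw [mem_stabilizer_iff, mul_smul, mul_smul, mul_smul]
      have hga' : g⁻¹ • a = a := by rw [inv_smul_eq_iff, hga]
      rw [hga', hgn, inv_smul_smul]
    rw [hreg, Subgroup.mem_bot, inv_mul_eq_one] at h1
    exact h1.symm
  have hsc : SemiconjBy g n n' := by
    unfold SemiconjBy
    rw [← hconj]; group
  exact hsc.orderOf_eq

/-- A faithful 2-transitive group with simple point stabilizer, of degree divisible by two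
distinct primes, is simple. -/
theorem isSimpleGroup_of_two_pretransitive [IsMultiplyPretransitive G α 2] (a : α)
    (hstab : IsSimpleGroup (stabilizer G a)) {r s : ℕ} (hr : r.Prime) (hs : s.Prime)
    (hrs : r ≠ s) (hrα : r ∣ Nat.card α) (hsα : s ∣ Nat.card α) : IsSimpleGroup G := by
  haveI : IsPretransitive G α := isPretransitive_of_is_two_pretransitive
  haveI : IsPreprimitive G α := isPreprimitive_of_is_two_pretransitive inferInstance
  haveI : Nontrivial G := by
    haveI := hstab.toNontrivial
    exact (Subgroup.subtype_injective (stabilizer G a)).nontrivial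
  refine ⟨fun N hN => ?_⟩
  by_cases hbot : N = ⊥
  · exact Or.inl hbot
  right
  haveI : IsPretransitive N α := isPretransitive_of_normal_of_preprimitive N hbot
  have hsub : (N.subgroupOf (stabilizer G a)).Normal := inferInstance
  rcases hstab.eq_bot_or_eq_top_of_normal _ hsub with h | h
  · -- regular normal subgroup: impossible
    exfalso
    have hreg : N ⊓ stabilizer G a = ⊥ := by
      rw [Subgroup.subgroupOf_eq_bot] at h
      exact h.eq_bot
    have hcardN : Nat.card N = Nat.card α := by
      have h1 := index_stabilizer_of_transitive N a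
      have h2 : stabilizer N a = ⊥ := by
        rw [Subgroup.eq_bot_iff_forall]
        intro x hx
        have : (x : G) ∈ N ⊓ stabilizer G a := ⟨x.2, hx⟩
        rw [hreg, Subgroup.mem_bot] at this
        exact Subtype.ext this
      rw [h2, Subgroup.index_bot] at h1
      exact h1
    haveI : Fact r.Prime := ⟨hr⟩
    haveI : Fact s.Prime := ⟨hs⟩
    obtain ⟨x, hx⟩ := exists_prime_orderOf_dvd_card' r (hcardN ▸ hrα)
    obtain ⟨y, hy⟩ := exists_prime_orderOf_dvd_card' s (hcardN ▸ hsα)
    have hx1 : (x : G) ≠ 1 := by
      intro h1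
      have : orderOf (x : G) = r := by rw [Subgroup.orderOf_coe]; exact hx
      rw [h1, orderOf_one] at this
      exact hr.one_lt.ne this
    have hy1 : (y : G) ≠ 1 := by
      intro h1
      have : orderOf (y : G) = s := by rw [Subgroup.orderOf_coe]; exact hy
      rw [h1, orderOf_one] at this
      exact hs.one_lt.ne this
    have := orderOf_eq_of_regular_normal N a hreg x.2 y.2 hx1 hy1
    rw [Subgroup.orderOf_coe, Subgroup.orderOf_coe, hx, hy] at this
    exact hrs this
  · -- stabilizer inside N, N transitive
    rw [Subgroup.subgroupOf_eq_top] at h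
    rw [eq_top_iff]
    intro g _
    obtain ⟨n, hn⟩ := exists_smul_eq N a (g • a)
    have : (n : G)⁻¹ * g ∈ stabilizer G a := by
      rw [mem_stabilizer_iff, mul_smul, inv_smul_eq_iff]
      exact hn.symm
    have h2 := N.mul_mem n.2 (h this)
    rwa [mul_inv_cancel_left] at h2

end twoTransitive

end Cfsg.Agent.Lib.Helper7_Simple
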