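import Cfsg.Agent.Lib.Helper21_BSW3
import Cfsg.Agent.S0002

/-!
Bender's proof of the Brauer-Suzuki-Wall theorem, step S1229: the action on the Sylow 2-subgroups is
sharply triply transitive.
-/

set_option autoImplicit false
open Cfsg
open scoped Pointwise

namespace Cfsg.Agent.Lib.Helper21_BSW

open Cfsg.Agent.Lib.Helper21_StronglyEmbedded

variable {G : Type*} [Group G]

section
variable [Finite G] (hC : CIT G)

include hC in
/-- An element normalizing three distinct Sylow 2-subgroups is trivial. -/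
theorem eq_one_of_three_fixed (P₁ P₂ P₃ : Sylow 2 G) (hnc : ¬ IsCyclic (P₁ : Subgroup G))
    (hnn : ¬ (P₁ : Subgroup G).Normal) (h12 : P₁ ≠ P₂) (h13 : P₁ ≠ P₃) (h23 : P₂ ≠ P₃)
    {g : G} (h₁ : g ∈ nrm P₁) (h₂ : g ∈ nrm P₂) (h₃ : g ∈ nrm P₃) : g = 1 := by
  by_contra hg
  obtain ⟨g₂, hg₂⟩ := MulAction.exists_smul_eq G P₁ P₂
  obtain ⟨g₃, hg₃⟩ := MulAction.exists_smul_eq G P₁ P₃
  have hP₂nc : ¬ IsCyclic (P₂ : Subgroup G) := hg₂ ▸ not_isCyclic_smul g₂ P₁ hnc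
  have hP₃nc : ¬ IsCyclic (P₃ : Subgroup G) := hg₃ ▸ not_isCyclic_smul g₃ P₁ hnc
  obtain ⟨u₂, hu₂, hu₂P⟩ := exists_involution_smul_eq hC P₁ P₂ hnc hP₂nc h12
  obtain ⟨u₃, hu₃, hu₃P⟩ := exists_involution_smul_eq hC P₁ P₃ hnc hP₃nc h13
  have hu₂N : u₂ ∉ nrm P₁ := not_mem_nrm_of_smul_ne (hu₂P ▸ h12.symm)
  have hu₃N : u₃ ∉ nrm P₁ := not_mem_nrm_of_smul_ne (hu₃P ▸ h13.symm)
  have hgD₂ : g ∈ twoPt P₁ u₂ := by
    rw [twoPt_eq_inf, hu₂P]; exact Subgroup.mem_inf.mpr ⟨h₁, h₂⟩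
  have hgD₃ : g ∈ twoPt P₁ u₃ := by
    rw [twoPt_eq_inf, hu₃P]; exact Subgroup.mem_inf.mpr ⟨h₁, h₃⟩
  have hinv₂ : ∀ d ∈ twoPt P₁ u₂, u₂ * d * u₂⁻¹ = d⁻¹ := fun d hd =>
    conj_eq_inv_of_mem_twoPt P₁ hnc hnn hC hu₂ hu₂N hd
  have hinv₃ : ∀ d ∈ twoPt P₁ u₃, u₃ * d * u₃⁻¹ = d⁻¹ := fun d hd =>
    conj_eq_inv_of_mem_twoPt P₁ hnc hnn hC hu₃ hu₃N hd
  -- `D₃ ≤ D₂`
  have hle : twoPt P₁ u₃ ≤ twoPt P₁ u₂ := by
    intro c hc
    have hcN : c ∈ nrm P₁ := (Subgroup.mem_inf.mp hc).1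
    obtain ⟨d, hd, t, ht, hcdt⟩ := exists_mul_of_mem_normalizer P₁ hnc hnn hC hu₂N hcN
    have hcg : c * g = g * c := commute_of_inverted hinv₃ hc hgD₃
    have hdg : d * g = g * d := commute_of_inverted hinv₂ hd hgD₂
    have htg : t * g = g * t := by
      have : t = d⁻¹ * c := by rw [hcdt]; group
      rw [this]
      calc d⁻¹ * c * g = d⁻¹ * (c * g) := by group
        _ = d⁻¹ * (g * c) := by rw [hcg]
        _ = d⁻¹ * (g * d) * d⁻¹ * c := by group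
        _ = d⁻¹ * (d * g) * d⁻¹ * c := by rw [hdg]
        _ = g * (d⁻¹ * c) := by group
    by_cases ht1 : t = 1
    · rw [hcdt, ht1, mul_one]; exact hd
    · exfalso
      have ht2 : orderOf t = 2 := orderOf_eq_two_of_mem hC P₁ ht ht1
      have hgc : g ∈ Subgroup.centralizer ({t} : Set G) := by
        rw [Subgroup.mem_centralizer_iff]
        intro y hy
        rw [Set.mem_singleton_iff] at hy
        subst hy
        exact htg
      rw [centralizer_eq hC P₁ ht2 ht] at hgc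
      exact hg (eq_one_of_mem_twoPt_of_mem P₁ hnc hnn hC hu₂N hgD₂ hgc)
  have hle' : twoPt P₁ u₃ ≤ nrm P₂ := by
    refine hle.trans ?_
    rw [twoPt_eq_inf, hu₂P]; exact inf_le_right
  rcases eq_or_eq_of_twoPt_le hC P₁ hnc hnn hu₃ hu₃N P₂ hle' with h | h
  · exact h12 h.symm
  · exact h23 (h.trans hu₃P)


include hC in
/-- `T` acts semiregularly on the other Sylow 2-subgroups. -/
theorem eq_one_of_mem_of_mem_nrm (T Q : Sylow 2 G) (hQT : Q ≠ T) {x : G} (hxT : x ∈ T)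
    (hxQ : x ∈ nrm Q) : x = 1 := by
  by_contra hx1
  have hx2 : orderOf x = 2 := orderOf_eq_two_of_mem hC T hxT hx1
  have hxQ' : x ∈ Q := mem_of_mem_normalizer Q hx2 hxQ
  apply hQT
  apply Sylow.ext
  rw [← centralizer_eq hC Q hx2 hxQ', ← centralizer_eq hC T hx2 hxT]

include hC in
/-- S1229 (3), in terms of Sylow subgroups: `T` acts regularly on the other Sylow 2-subgroups. -/
theorem existsUnique_mem_smul_eq (T : Sylow 2 G) (hnc : ¬ IsCyclic (T : Subgroup G))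
    (hnn : ¬ (T : Subgroup G).Normal) (Q R : Sylow 2 G) (hQ : Q ≠ T) (hR : R ≠ T) :
    ∃! t : G, t ∈ T ∧ t • Q = R := by
  have huniq : ∀ t t' : G, t ∈ T → t' ∈ T → t • Q = R → t' • Q = R → t = t' := by
    intro t t' ht ht' h h'
    have hx : (t'⁻¹ * t) • Q = Q := by rw [mul_smul, h, ← h', inv_smul_smul]
    have hxN : t'⁻¹ * t ∈ nrm Q := Sylow.smul_eq_iff_mem_normalizer.mp hx
    have hxT : t'⁻¹ * t ∈ T := (T : Subgroup G).mul_mem ((T : Subgroup G).inv_mem ht') ht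
    have := eq_one_of_mem_of_mem_nrm hC T Q hQ hxT hxN
    calc t = t' * (t'⁻¹ * t) := by group
      _ = t' := by rw [this, mul_one]
  suffices hex : ∃ t : G, t ∈ T ∧ t • Q = R by
    obtain ⟨t, ht, htQ⟩ := hex
    exact ⟨t, ⟨ht, htQ⟩, fun t' ht' => huniq t' t ht'.1 ht ht'.2 htQ⟩
  -- existence, through the conjugacy of complements
  obtain ⟨gQ, hgQ⟩ := MulAction.exists_smul_eq G T Q
  obtain ⟨gR, hgR⟩ := MulAction.exists_smul_eq G T R
  have hQnc : ¬ IsCyclic (Q : Subgroup G) := hgQ ▸ not_isCyclic_smul gQ T hnc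
  have hRnc : ¬ IsCyclic (R : Subgroup G) := hgR ▸ not_isCyclic_smul gR T hnc
  obtain ⟨wQ, hwQ, hwQT⟩ := exists_involution_smul_eq hC T Q hnc hQnc (Ne.symm hQ)
  obtain ⟨wR, hwR, hwRT⟩ := exists_involution_smul_eq hC T R hnc hRnc (Ne.symm hR)
  have hwQN : wQ ∉ nrm T := not_mem_nrm_of_smul_ne (hwQT ▸ hQ)
  have hwRN : wR ∉ nrm T := not_mem_nrm_of_smul_ne (hwRT ▸ hR)
  have hA : ((T : Subgroup G).subgroupOf (nrm T)).Normal := Subgroup.normal_in_normalizer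
  have hAc : IsMulCommutative ↥((T : Subgroup G).subgroupOf (nrm T)) :=
    ⟨⟨fun a b => Subtype.ext (Subtype.ext (commute_of_mem hC T
      (Subgroup.mem_subgroupOf.mp a.2) (Subgroup.mem_subgroupOf.mp b.2)))⟩⟩
  have hcompQ := (isComplement'_twoPt T hnc hnn hC hwQN).symm
  have hcompR := (isComplement'_twoPt T hnc hnn hC hwRN).symm
  have hcop : (Nat.card ↥((T : Subgroup G).subgroupOf (nrm T))).Coprime
      ((T : Subgroup G).subgroupOf (nrm T)).index := by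
    have h1 : Nat.card ↥((T : Subgroup G).subgroupOf (nrm T)) = Nat.card ↥(T : Subgroup G) :=
      Nat.card_congr (Subgroup.subgroupOfEquivOfLe Subgroup.le_normalizer).toEquiv
    have h2 := ((T : Subgroup G).subgroupOf (nrm T)).card_mul_index
    have h3 := card_normalizer T hnc hnn hC hwQN
    rw [h1] at h2 ⊢
    have hpos : 0 < Nat.card ↥(T : Subgroup G) := Nat.card_pos
    have h4 : ((T : Subgroup G).subgroupOf (nrm T)).index = Nat.card ↥(T : Subgroup G) - 1 := by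
      rw [h3] at h2
      exact Nat.eq_of_mul_eq_mul_left hpos h2
    rw [h4]
    obtain ⟨k, hk⟩ : ∃ k, Nat.card ↥(T : Subgroup G) = k + 1 := ⟨_, (Nat.succ_pred_eq_of_pos hpos).symm⟩
    rw [hk, Nat.add_sub_cancel]
    exact Nat.coprime_self_add_left.mpr (Nat.coprime_one_left k)
  obtain ⟨a, haA, hconj⟩ := Cfsg.Agent.S0002.result ((T : Subgroup G).subgroupOf (nrm T)) hcop
    _ _ hcompQ hcompR
  have htT : (a : G) ∈ T := Subgroup.mem_subgroupOf.mp haA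
  refine ⟨(a : G), htT, ?_⟩
  -- `D_R` normalizes `a • Q`
  have hle : twoPt T wR ≤ nrm ((a : G) • Q) := by
    intro e he
    have heN : e ∈ nrm T := (Subgroup.mem_inf.mp he).1
    have he' : (⟨e, heN⟩ : ↥(nrm T)) ∈ (twoPt T wR).subgroupOf (nrm T) :=
      Subgroup.mem_subgroupOf.mpr he
    rw [← hconj, Subgroup.mem_pointwise_smul_iff_inv_smul_mem, Subgroup.mem_subgroupOf] at he'
    have he'' : (a : G)⁻¹ * e * (a : G) ∈ twoPt T wQ := by
      have : (((MulAut.conj a)⁻¹ • (⟨e, heN⟩ : ↥(nrm T)) : ↥(nrm T)) : G)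
          = (a : G)⁻¹ * e * (a : G) := by
        rw [MulAut.smul_def, ← map_inv, MulAut.conj_apply]
        simp
      rw [← this]; exact he'
    have hQ' : (a : G)⁻¹ * e * (a : G) ∈ nrm Q := by
      rw [twoPt_eq_inf, hwQT] at he''
      exact (Subgroup.mem_inf.mp he'').2
    rw [nrm, normalizer_smul_sylow, mem_map_conj_iff]
    exact hQ'
  rcases eq_or_eq_of_twoPt_le hC T hnc hnn hwR hwRN ((a : G) • Q) hle with h | h
  · exfalso
    apply hQ
    have h1 : (a : G)⁻¹ • T = T :=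
      Sylow.smul_eq_iff_mem_normalizer.mpr
        (Subgroup.le_normalizer ((T : Subgroup G).inv_mem htT))
    have h2 : ∀ b : G, b • Q = T → Q = b⁻¹ • T := fun b hb => by rw [← hb, inv_smul_smul]
    exact (h2 _ h).trans h1
  · rw [h, hwRT]


include hC in
/-- The two-point stabilizer is transitive on the remaining Sylow 2-subgroups. -/
theorem exists_mem_twoPt_smul_eq (T : Sylow 2 G) (hnc : ¬ IsCyclic (T : Subgroup G))
    (hnn : ¬ (T : Subgroup G).Normal) {u : G} (huH : u ∉ nrm T)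
    (P Q : Sylow 2 G) (hPT : P ≠ T) (hPT₂ : P ≠ u • T) (hQT : Q ≠ T) (hQT₂ : Q ≠ u • T) :
    ∃ d ∈ twoPt T u, d • P = Q := by
  have hT₂T : u • T ≠ T := fun h => huH (Sylow.smul_eq_iff_mem_normalizer.mp h)
  obtain ⟨t, ⟨ht, htP⟩, -⟩ := existsUnique_mem_smul_eq hC T hnc hnn (u • T) P hT₂T hPT
  obtain ⟨t', ⟨ht', htQ⟩, -⟩ := existsUnique_mem_smul_eq hC T hnc hnn (u • T) Q hT₂T hQT
  have ht1 : t ≠ 1 := by
    rintro rfl
    rw [one_smul] at htP
    exact hPT₂ htP.symm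
  have ht'1 : t' ≠ 1 := by
    rintro rfl
    rw [one_smul] at htQ
    exact hQT₂ htQ.symm
  have ht2 : orderOf t = 2 := orderOf_eq_two_of_mem hC T ht ht1
  have ht'2 : orderOf t' = 2 := orderOf_eq_two_of_mem hC T ht' ht'1
  have hSE := stronglyEmbedded_normalizer T hnc hnn hC
  obtain ⟨d, hd, hdt⟩ := exists_mem_inf_conj hSE huH ht2 (Subgroup.le_normalizer ht) ht'2
    (Subgroup.le_normalizer ht')
  refine ⟨d, hd, ?_⟩
  have hd₂ : d • (u • T) = u • T := by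
    have hd' : d ∈ twoPt T u := hd
    rw [twoPt_eq_inf] at hd'
    exact Sylow.smul_eq_iff_mem_normalizer.mpr (Subgroup.mem_inf.mp hd').2
  have hdt' : d * t = t' * d := by rw [← hdt]; group
  rw [← htP, ← mul_smul, hdt', mul_smul, hd₂, htQ]

include hC in
/-- S1229 (1), in terms of Sylow subgroups: the action on the Sylow 2-subgroups is triply transitive. -/
theorem exists_smul_eq_triple (T : Sylow 2 G) (hnc : ¬ IsCyclic (T : Subgroup G))
    (hnn : ¬ (T : Subgroup G).Normal) (P₁ P₂ P₃ Q₁ Q₂ Q₃ : Sylow 2 G)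
    (hP12 : P₁ ≠ P₂) (hP13 : P₁ ≠ P₃) (hP23 : P₂ ≠ P₃)
    (hQ12 : Q₁ ≠ Q₂) (hQ13 : Q₁ ≠ Q₃) (hQ23 : Q₂ ≠ Q₃) :
    ∃ g : G, g • P₁ = Q₁ ∧ g • P₂ = Q₂ ∧ g • P₃ = Q₃ := by
  obtain ⟨a, ha⟩ := MulAction.exists_smul_eq G T Q₁
  have hQnc : ¬ IsCyclic (Q₁ : Subgroup G) := ha ▸ not_isCyclic_smul a T hnc
  have hQnn : ¬ (Q₁ : Subgroup G).Normal := ha ▸ not_normal_smul a T hnn
  obtain ⟨g₁, hg₁⟩ := MulAction.exists_smul_eq G P₁ Q₁
  have h1 : g₁ • P₂ ≠ Q₁ := by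
    rw [← hg₁]
    exact fun h => hP12 (MulAction.injective g₁ h).symm
  obtain ⟨t, ⟨ht, htP⟩, -⟩ := existsUnique_mem_smul_eq hC Q₁ hQnc hQnn (g₁ • P₂) Q₂ h1 hQ12.symm
  have htQ₁ : t • Q₁ = Q₁ := Sylow.smul_eq_iff_mem_normalizer.mpr (Subgroup.le_normalizer ht)
  have hg₂1 : (t * g₁) • P₁ = Q₁ := by rw [mul_smul, hg₁, htQ₁]
  have hg₂2 : (t * g₁) • P₂ = Q₂ := by rw [mul_smul, htP]
  have hQ₂nc : ¬ IsCyclic (Q₂ : Subgroup G) := by
    obtain ⟨b, hb⟩ := MulAction.exists_smul_eq G T Q₂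
    exact hb ▸ not_isCyclic_smul b T hnc
  obtain ⟨u, hu, huQ⟩ := exists_involution_smul_eq hC Q₁ Q₂ hQnc hQ₂nc hQ12
  have huN : u ∉ nrm Q₁ := not_mem_nrm_of_smul_ne (huQ ▸ hQ12.symm)
  have h31 : (t * g₁) • P₃ ≠ Q₁ := by
    rw [← hg₂1]
    exact fun h => hP13 (MulAction.injective (t * g₁) h).symm
  have h32 : (t * g₁) • P₃ ≠ u • Q₁ := by
    rw [huQ, ← hg₂2]
    exact fun h => hP23 (MulAction.injective (t * g₁) h).symm
  obtain ⟨d, hd, hdP⟩ := exists_mem_twoPt_smul_eq hC Q₁ hQnc hQnn huN ((t * g₁) • P₃) Q₃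
    h31 h32 hQ13.symm (huQ ▸ hQ23.symm)
  have hd' : d ∈ nrm Q₁ ⊓ nrm Q₂ := by
    have := hd
    rw [twoPt_eq_inf, huQ] at this
    exact this
  have hd1 : d • Q₁ = Q₁ := Sylow.smul_eq_iff_mem_normalizer.mpr (Subgroup.mem_inf.mp hd').1
  have hd2 : d • Q₂ = Q₂ := Sylow.smul_eq_iff_mem_normalizer.mpr (Subgroup.mem_inf.mp hd').2
  refine ⟨d * (t * g₁), ?_, ?_, ?_⟩
  · rw [mul_smul, hg₂1, hd1]
  · rw [mul_smul, hg₂2, hd2]
  · rw [mul_smul, hdP]

end

/-! ### Cosets of the normalizer and Sylow subgroups -/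

/-- The Sylow subgroup attached to a coset of `N(T)`. -/
def sylOf (T : Sylow 2 G) (x : G ⧸ nrm T) : Sylow 2 G :=
  Quotient.liftOn' x (fun g => g • T) (by
    intro a b hab
    rw [QuotientGroup.leftRel_apply] at hab
    have h : (a⁻¹ * b) • T = T := Sylow.smul_eq_iff_mem_normalizer.mpr hab
    calc a • T = a • ((a⁻¹ * b) • T) := by rw [h]
      _ = b • T := by rw [← mul_smul]; congr 1; group)

theorem sylOf_mk (T : Sylow 2 G) (a : G) : sylOf T (QuotientGroup.mk a) = a • T := rfl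

theorem sylOf_one (T : Sylow 2 G) : sylOf T (QuotientGroup.mk 1) = T := by
  rw [sylOf_mk, one_smul]

theorem sylOf_smul (T : Sylow 2 G) (g : G) (x : G ⧸ nrm T) : sylOf T (g • x) = g • sylOf T x := by
  induction x using QuotientGroup.induction_on with
  | H a => rw [MulAction.Quotient.smul_mk, sylOf_mk, sylOf_mk, smul_eq_mul, mul_smul]

theorem sylOf_injective (T : Sylow 2 G) : Function.Injective (sylOf T) := by
  intro x y
  induction x using QuotientGroup.induction_on with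
  | H a =>
    induction y using QuotientGroup.induction_on with
    | H b =>
      intro h
      rw [sylOf_mk, sylOf_mk] at h
      rw [QuotientGroup.eq]
      apply Sylow.smul_eq_iff_mem_normalizer.mp
      rw [mul_smul, ← h, inv_smul_smul]

theorem exists_sylOf_eq_smul (T : Sylow 2 G) (x : G ⧸ nrm T) : ∃ a : G, sylOf T x = a • T := by
  induction x using QuotientGroup.induction_on with
  | H a => exact ⟨a, rfl⟩

end Cfsg.Agent.Lib.Helper21_BSW
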