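import Mathlib
import Cfsg.Agent.Lib.Helper21_BSW4

/-!
Bender's proof of the Brauer-Suzuki-Wall theorem, step S1230: coordinates on the set of Sylow
2-subgroups by the projective line over a field.
-/

set_option autoImplicit false
open Cfsg
open scoped Pointwise

namespace Cfsg.Agent.Lib.Helper21_BSW

open Cfsg.Agent.Lib.Helper21_StronglyEmbedded

variable {G : Type*} [Group G]

/-- Coordinates on `T` by a field `F`: an additive bijection `φ : F → T` under which the nonzero
scalars are induced by conjugation with elements of `D = N(T) ∩ N(uT)`. -/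
structure Coord (T : Sylow 2 G) (u : G) (F : Type*) [Field F] where
  /-- the coordinate map -/
  φ : F → G
  φ_mem : ∀ x, φ x ∈ T
  φ_inj : Function.Injective φ
  φ_surj : ∀ t ∈ T, ∃ x, φ x = t
  φ_add : ∀ x y, φ (x + y) = φ x * φ y
  scal : ∀ a : F, a ≠ 0 → ∃ d ∈ twoPt T u, ∀ x, d * φ x * d⁻¹ = φ (a * x)

namespace Coord

variable {T : Sylow 2 G} {u : G} {F : Type*} [Field F] (c : Coord T u F)

theorem φ_zero : c.φ 0 = 1 := by
  have h := c.φ_add 0 0
  rw [add_zero] at h
  exact (mul_eq_left).mp h.symm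

theorem φ_ne_one {x : F} (hx : x ≠ 0) : c.φ x ≠ 1 := by
  intro h
  exact hx (c.φ_inj (h.trans c.φ_zero.symm))

theorem φ_smul_T (x : F) : c.φ x • T = T :=
  Sylow.smul_eq_iff_mem_normalizer.mpr (Subgroup.le_normalizer (c.φ_mem x))

/-- The bijection from the projective line to the Sylow 2-subgroups. -/
def β (p : OnePoint F) : Sylow 2 G := p.elim T (fun x => c.φ x • (u • T))

@[simp] theorem β_infty : c.β OnePoint.infty = T := rfl
@[simp] theorem β_coe (x : F) : c.β (x : OnePoint F) = c.φ x • (u • T) := rfl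

theorem β_zero : c.β ((0 : F) : OnePoint F) = u • T := by
  rw [β_coe, c.φ_zero, one_smul]

/-- Translations. -/
theorem φ_smul_β (b x : F) : c.φ b • c.β (x : OnePoint F) = c.β ((b + x : F) : OnePoint F) := by
  rw [β_coe, β_coe, ← mul_smul, ← c.φ_add]

/-- Scalars. -/
theorem scal_smul {a : F} {d : G} (hd : d ∈ twoPt T u) (h : ∀ x, d * c.φ x * d⁻¹ = c.φ (a * x))
    (x : F) : d • c.β (x : OnePoint F) = c.β ((a * x : F) : OnePoint F) := by
  have hd₂ : d • (u • T) = u • T := by
    have hd' := hd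
    rw [twoPt_eq_inf] at hd'
    exact Sylow.smul_eq_iff_mem_normalizer.mpr (Subgroup.mem_inf.mp hd').2
  have h1 : d * c.φ x = c.φ (a * x) * d := by rw [← h x]; group
  rw [β_coe, β_coe, ← mul_smul, h1, mul_smul, hd₂]

end Coord

theorem smul_eq_of_mem_twoPt {T : Sylow 2 G} {u d : G} (hd : d ∈ twoPt T u) : d • T = T :=
  Sylow.smul_eq_iff_mem_normalizer.mpr (Subgroup.mem_inf.mp hd).1

theorem smul_smul_eq_of_mem_twoPt {T : Sylow 2 G} {u d : G} (hd : d ∈ twoPt T u) :
    d • (u • T) = u • T := by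
  have hd' := hd
  rw [twoPt_eq_inf] at hd'
  exact Sylow.smul_eq_iff_mem_normalizer.mpr (Subgroup.mem_inf.mp hd').2

section
variable [Finite G] (hC : CIT G) {T : Sylow 2 G} {u : G} {F : Type*} [Field F] (c : Coord T u F)
  (hnc : ¬ IsCyclic (T : Subgroup G)) (hnn : ¬ (T : Subgroup G).Normal)
  (hu : orderOf u = 2) (huH : u ∉ nrm T)

omit [Finite G] in
include huH in
theorem smul_ne_of_not_mem_nrm : u • T ≠ T := fun h => huH (Sylow.smul_eq_iff_mem_normalizer.mp h)

omit [Finite G] in
include hu in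
theorem eq_smul_of_invol_smul_eq {P Q : Sylow 2 G} (h : u • P = Q) : P = u • Q := by
  rw [← h, ← mul_smul, sq_eq_one_of_orderOf_eq_two hu, one_smul]

namespace Coord

omit [Finite G] in
include huH in
theorem β_coe_ne_T (x : F) : c.β (x : OnePoint F) ≠ T := by
  intro h
  rw [β_coe] at h
  have h2 : ∀ b : G, b • (u • T) = T → u • T = b⁻¹ • T := fun b hb => eq_inv_smul_iff.mpr hb
  have h3 : (c.φ x)⁻¹ • T = T :=
    Sylow.smul_eq_iff_mem_normalizer.mpr
      (Subgroup.le_normalizer ((T : Subgroup G).inv_mem (c.φ_mem x)))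
  exact smul_ne_of_not_mem_nrm huH ((h2 _ h).trans h3)

include hC huH in
theorem β_injective : Function.Injective c.β := by
  intro p q h
  induction p using OnePoint.rec with
  | infty =>
    induction q using OnePoint.rec with
    | infty => rfl
    | coe y => exact absurd h.symm (c.β_coe_ne_T huH y)
  | coe x =>
    induction q using OnePoint.rec with
    | infty => exact absurd h (c.β_coe_ne_T huH x)
    | coe y =>
      rw [β_coe, β_coe] at h
      have h1 : ((c.φ y)⁻¹ * c.φ x) • (u • T) = u • T := by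
        rw [mul_smul, h, inv_smul_smul]
      have h2 : (c.φ y)⁻¹ * c.φ x ∈ nrm (u • T) := Sylow.smul_eq_iff_mem_normalizer.mp h1
      have h3 : (c.φ y)⁻¹ * c.φ x ∈ T :=
        (T : Subgroup G).mul_mem ((T : Subgroup G).inv_mem (c.φ_mem y)) (c.φ_mem x)
      have h4 := eq_one_of_mem_of_mem_nrm hC T (u • T) (smul_ne_of_not_mem_nrm huH) h3 h2
      have h5 : c.φ x = c.φ y := by
        calc c.φ x = c.φ y * ((c.φ y)⁻¹ * c.φ x) := by group
          _ = c.φ y := by rw [h4, mul_one]
      rw [c.φ_inj h5]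

include hC hnc hnn huH in
theorem exists_β_eq_of_ne {P : Sylow 2 G} (hP : P ≠ T) : ∃ x : F, c.β (x : OnePoint F) = P := by
  obtain ⟨t, ⟨ht, htP⟩, -⟩ := existsUnique_mem_smul_eq hC T hnc hnn (u • T) P (smul_ne_of_not_mem_nrm huH) hP
  obtain ⟨x, hx⟩ := c.φ_surj t ht
  exact ⟨x, by rw [β_coe, hx, htP]⟩

include hC hnc hnn huH in
theorem β_surjective : Function.Surjective c.β := by
  intro P
  by_cases hP : P = T
  · exact ⟨OnePoint.infty, hP.symm⟩
  · obtain ⟨x, hx⟩ := c.exists_β_eq_of_ne hC hnc hnn huH hP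
    exact ⟨_, hx⟩

include hC hnc hnn hu huH in
/-- The inversion `x ↦ 1/x` is induced by an element of `G`. -/
theorem exists_inversion :
    ∃ g : G, g • T = u • T ∧ g • (u • T) = T ∧
      ∀ x : F, x ≠ 0 → g • c.β (x : OnePoint F) = c.β ((x⁻¹ : F) : OnePoint F) := by
  have huu : u • (u • T) = T := invol_smul_smul hu T
  -- the image of the point `1`
  have h1T : u • c.β ((1 : F) : OnePoint F) ≠ T := by
    intro h
    have h' : c.β ((1 : F) : OnePoint F) = u • T := eq_smul_of_invol_smul_eq hu h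
    rw [← c.β_zero] at h'
    have := c.β_injective hC huH h'
    exact one_ne_zero (OnePoint.coe_injective this)
  obtain ⟨k, hk⟩ := c.exists_β_eq_of_ne hC hnc hnn huH h1T
  have hk0 : k ≠ 0 := by
    rintro rfl
    rw [c.β_zero] at hk
    have h' : c.β ((1 : F) : OnePoint F) = T := (eq_smul_of_invol_smul_eq hu hk.symm).trans huu
    exact c.β_coe_ne_T huH 1 h'
  -- the action of `u` on the finite nonzero points
  have hux : ∀ x : F, x ≠ 0 → u • c.β (x : OnePoint F) = c.β ((x⁻¹ * k : F) : OnePoint F) := by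
    intro x hx
    obtain ⟨d, hd, hdx⟩ := c.scal x hx
    have hinv : u * d * u⁻¹ = d⁻¹ := conj_eq_inv_of_mem_twoPt T hnc hnn hC hu huH hd
    have hud : u * d = d⁻¹ * u := by rw [← hinv]; group
    have e1 : c.β (x : OnePoint F) = d • c.β ((1 : F) : OnePoint F) := by
      rw [c.scal_smul hd hdx, mul_one]
    have e2 : d • c.β ((x⁻¹ * k : F) : OnePoint F) = c.β (k : OnePoint F) := by
      rw [c.scal_smul hd hdx, mul_inv_cancel_left₀ hx]
    rw [e1, ← mul_smul, hud, mul_smul, ← hk, ← e2, inv_smul_smul]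
  obtain ⟨d', hd', hd'x⟩ := c.scal k⁻¹ (inv_ne_zero hk0)
  refine ⟨d' * u, ?_, ?_, ?_⟩
  · rw [mul_smul, smul_smul_eq_of_mem_twoPt hd']
  · rw [mul_smul, huu, smul_eq_of_mem_twoPt hd']
  · intro x hx
    rw [mul_smul, hux x hx, c.scal_smul hd' hd'x]
    congr 2
    field_simp

end Coord

end

end Cfsg.Agent.Lib.Helper21_BSW
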