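import Mathlib

set_option autoImplicit false

/-!
# Helper61: SL(2,F) in characteristic 2, an affine extension with the same prime graph

* `SamePrimeGraph A B`: same prime divisors of the order and same pairs `p ≠ q` with an element
  of order `p * q` (literally the shape used in the frozen statements).
* `samePrimeGraph_of_split`: abstract criterion for a split extension by a group of exponent 2.
* `Aff F k`: the group `Mat(2×k, F) ⋊ SL(2, F)`.
* `exists_small_copy`: a finite group has an isomorphic copy in `Type`.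
-/

namespace Cfsg.Agent.Lib.Helper61_SL2

open Matrix

universe u v w

/-- Same prime graph (vertices and edges), in the literal shape of the frozen statements. -/
def SamePrimeGraph (A : Type u) (B : Type v) [Group A] [Group B] : Prop :=
  (∀ p : ℕ, p.Prime → (p ∣ Nat.card A ↔ p ∣ Nat.card B)) ∧
  (∀ p q : ℕ, p.Prime → q.Prime → p ≠ q →
    ((∃ g : A, orderOf g = p * q) ↔ (∃ g : B, orderOf g = p * q)))

theorem SamePrimeGraph.of_mulEquiv {A : Type u} {B : Type v} [Group A] [Group B] (e : A ≃* B) :
    SamePrimeGraph A B := by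
  refine ⟨fun p _ => by rw [Nat.card_congr e.toEquiv], fun p q _ _ _ => ?_⟩
  constructor
  · rintro ⟨g, hg⟩
    exact ⟨e g, by rw [MulEquiv.orderOf_eq, hg]⟩
  · rintro ⟨g, hg⟩
    exact ⟨e.symm g, by rw [MulEquiv.orderOf_eq, hg]⟩

theorem SamePrimeGraph.symm {A : Type u} {B : Type v} [Group A] [Group B]
    (h : SamePrimeGraph A B) : SamePrimeGraph B A :=
  ⟨fun p hp => (h.1 p hp).symm, fun p q hp hq hpq => (h.2 p q hp hq hpq).symm⟩

theorem SamePrimeGraph.trans {A : Type u} {B : Type v} {C : Type w} [Group A] [Group B] [Group C]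
    (h : SamePrimeGraph A B) (h' : SamePrimeGraph B C) : SamePrimeGraph A C :=
  ⟨fun p hp => (h.1 p hp).trans (h'.1 p hp),
    fun p q hp hq hpq => (h.2 p q hp hq hpq).trans (h'.2 p q hp hq hpq)⟩

/-- A finite group has an isomorphic copy living in `Type`. -/
theorem exists_small_copy (H' : Type u) [Group H'] [Finite H'] :
    ∃ (H : Type) (_ : Group H) (_ : Finite H), Nonempty (H ≃* H') := by
  classical
  let e : Fin (Nat.card H') ≃ H' := (Finite.equivFin H').symm
  let _ : Group (Fin (Nat.card H')) := e.group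
  exact ⟨Fin (Nat.card H'), inferInstance, inferInstance, ⟨e.mulEquiv⟩⟩

/-- Abstract criterion: a split surjection `π : H → S` whose kernel has exponent 2, such that every
element lying over an element of odd prime order `r` has `r`-th power one, gives the same prime
graph, provided `|S|` is even. -/
theorem samePrimeGraph_of_split {H : Type u} {S : Type v} [Group H] [Group S] [Finite H]
    (π : H →* S) (ι : S →* H) (hπι : ∀ s, π (ι s) = s)
    (hker : ∀ h : H, π h = 1 → h ^ 2 = 1)
    (hfpf : ∀ (h : H) (r : ℕ), r.Prime → r ≠ 2 → orderOf (π h) = r → h ^ r = 1)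
    (h2 : 2 ∣ Nat.card S) : SamePrimeGraph S H := by
  classical
  have hsurj : Function.Surjective π := fun s => ⟨ι s, hπι s⟩
  have hinj : Function.Injective ι := fun a b hab => by
    have := congrArg π hab
    rwa [hπι, hπι] at this
  -- the kernel is a 2-group
  have hK : IsPGroup 2 π.ker := by
    intro x
    refine ⟨1, ?_⟩
    have := hker x.1 (MonoidHom.mem_ker.mp x.2)
    apply Subtype.ext
    simpa using this
  obtain ⟨n, hn⟩ := IsPGroup.iff_card.mp hK
  have hcard : Nat.card H = 2 ^ n * Nat.card S := by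
    rw [← hn, ← Subgroup.card_mul_index π.ker, Subgroup.index_ker,
      MonoidHom.range_eq_top.mpr hsurj, Subgroup.card_top]
  refine ⟨fun p hp => ?_, fun p q hp hq hpq => ?_⟩
  · rw [hcard]
    constructor
    · intro h; exact Dvd.dvd.mul_left h _
    · intro h
      rcases (Nat.Prime.dvd_mul hp).mp h with h' | h'
      · have := (Nat.prime_dvd_prime_iff_eq hp Nat.prime_two).mp (hp.dvd_of_dvd_pow h')
        rw [this]; exact h2
      · exact h'
  · constructor
    · rintro ⟨g, hg⟩
      exact ⟨ι g, by rw [orderOf_injective ι hinj, hg]⟩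
    · rintro ⟨h, hh⟩
      have hd : orderOf (π h) ∣ p * q := by
        rw [← hh]; exact orderOf_map_dvd π h
      have hpow : h ^ (2 * orderOf (π h)) = 1 := by
        rw [mul_comm, pow_mul]
        apply hker
        rw [map_pow, pow_orderOf_eq_one]
      have hdvd : p * q ∣ 2 * orderOf (π h) := by
        rw [← hh]; exact orderOf_dvd_of_pow_eq_one hpow
      obtain ⟨d1, d2, hd1, hd2, hd12⟩ := (Nat.dvd_mul).mp hd
      rcases (Nat.dvd_prime hp).mp hd1 with rfl | rfl <;>
        rcases (Nat.dvd_prime hq).mp hd2 with rfl | rfl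
      · -- order 1
        exfalso
        rw [← hd12] at hdvd
        have := Nat.le_of_dvd (by norm_num) hdvd
        have h2p := hp.two_le
        have h2q := hq.two_le
        nlinarith
      · -- order q, so p = 2
        exfalso
        rw [← hd12, one_mul] at hdvd
        have hp2 : p ∣ 2 := by
          have : p * d2 ∣ 2 * d2 := hdvd
          exact Nat.dvd_of_mul_dvd_mul_right hq.pos this
        have hp2' : p = 2 := (Nat.prime_dvd_prime_iff_eq hp Nat.prime_two).mp hp2
        have hq2 : d2 ≠ 2 := fun h' => hpq (hp2'.trans h'.symm)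
        have := hfpf h d2 hq hq2 (by rw [← hd12, one_mul])
        have hdvd' : p * d2 ∣ d2 := by
          rw [← hh]; exact orderOf_dvd_of_pow_eq_one this
        have := Nat.le_of_dvd hq.pos hdvd'
        have h2p := hp.two_le
        have h2q := hq.pos
        nlinarith
      · -- order p, so q = 2
        exfalso
        rw [← hd12, mul_one] at hdvd
        have hq2 : q ∣ 2 := by
          have : d1 * q ∣ d1 * 2 := by rw [mul_comm d1 2]; exact hdvd
          exact Nat.dvd_of_mul_dvd_mul_left hp.pos this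
        have hq2' : q = 2 := (Nat.prime_dvd_prime_iff_eq hq Nat.prime_two).mp hq2
        have hp2 : d1 ≠ 2 := fun h' => hpq (h'.trans hq2'.symm)
        have := hfpf h d1 hp hp2 (by rw [← hd12, mul_one])
        have hdvd' : d1 * q ∣ d1 := by
          rw [← hh]; exact orderOf_dvd_of_pow_eq_one this
        have := Nat.le_of_dvd hp.pos hdvd'
        have h2p := hp.pos
        have h2q := hq.two_le
        nlinarith
      · exact ⟨π h, hd12.symm⟩

/-! ### The affine group `Mat(2×k, F) ⋊ SL(2, F)` -/

/-- The group `Mat(2×k, F) ⋊ SL(2, F)`, with `SL(2,F)` acting by left multiplication. -/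
structure Aff (F : Type u) [Field F] (k : ℕ) where
  /-- linear part -/
  g : SpecialLinearGroup (Fin 2) F
  /-- translation part -/
  m : Matrix (Fin 2) (Fin k) F

namespace Aff

variable {F : Type u} [Field F] {k : ℕ}

theorem ext' {a b : Aff F k} (hg : a.g = b.g) (hm : a.m = b.m) : a = b := by
  cases a; cases b; cases hg; cases hm; rfl

instance : Mul (Aff F k) :=
  ⟨fun a b => ⟨a.g * b.g, a.m + (a.g : Matrix (Fin 2) (Fin 2) F) * b.m⟩⟩
instance : One (Aff F k) := ⟨⟨1, 0⟩⟩
instance : Inv (Aff F k) :=
  ⟨fun a => ⟨a.g⁻¹, -(((a.g⁻¹ : SpecialLinearGroup (Fin 2) F) : Matrix (Fin 2) (Fin 2) F) * a.m)⟩⟩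

@[simp] theorem mul_g (a b : Aff F k) : (a * b).g = a.g * b.g := rfl
@[simp] theorem mul_m (a b : Aff F k) :
    (a * b).m = a.m + (a.g : Matrix (Fin 2) (Fin 2) F) * b.m := rfl
@[simp] theorem one_g : (1 : Aff F k).g = 1 := rfl
@[simp] theorem one_m : (1 : Aff F k).m = 0 := rfl
@[simp] theorem inv_g (a : Aff F k) : (a⁻¹).g = a.g⁻¹ := rfl
@[simp] theorem inv_m (a : Aff F k) :
    (a⁻¹).m = -(((a.g⁻¹ : SpecialLinearGroup (Fin 2) F) : Matrix (Fin 2) (Fin 2) F) * a.m) := rfl

theorem coe_inv_mul_self (g : SpecialLinearGroup (Fin 2) F) :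
    ((g⁻¹ : SpecialLinearGroup (Fin 2) F) : Matrix (Fin 2) (Fin 2) F) *
      (g : Matrix (Fin 2) (Fin 2) F) = 1 := by
  have h : ((g⁻¹ * g : SpecialLinearGroup (Fin 2) F) : Matrix (Fin 2) (Fin 2) F) = 1 := by
    rw [inv_mul_cancel]; rfl
  exact h

instance : Group (Aff F k) where
  mul_assoc a b c := by
    apply ext'
    · simp [mul_assoc]
    · simp [Matrix.mul_add, Matrix.mul_assoc, add_assoc]
  one_mul a := by
    apply ext' <;> simp
  mul_one a := by
    apply ext' <;> simp
  inv_mul_cancel a := by
    apply ext'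
    · simp
    · simp

/-- projection to `SL(2,F)` -/
def proj : Aff F k →* SpecialLinearGroup (Fin 2) F where
  toFun a := a.g
  map_one' := rfl
  map_mul' _ _ := rfl

/-- the complement `SL(2,F)` -/
def incl : SpecialLinearGroup (Fin 2) F →* Aff F k where
  toFun g := ⟨g, 0⟩
  map_one' := rfl
  map_mul' a b := by
    apply ext' <;> simp

@[simp] theorem proj_apply (a : Aff F k) : proj a = a.g := rfl
@[simp] theorem proj_incl (g : SpecialLinearGroup (Fin 2) F) : proj (incl (k := k) g) = g := rfl

theorem pow_g (a : Aff F k) (n : ℕ) : (a ^ n).g = a.g ^ n := by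
  have := map_pow (proj (F := F) (k := k)) a n
  simpa using this

theorem pow_m (a : Aff F k) (n : ℕ) :
    (a ^ n).m = (∑ i ∈ Finset.range n, (a.g : Matrix (Fin 2) (Fin 2) F) ^ i) * a.m := by
  induction n with
  | zero => simp
  | succ n ih =>
    rw [pow_succ, mul_m, ih, pow_g, Finset.sum_range_succ, Matrix.add_mul]
    rfl

instance [Finite F] : Finite (Aff F k) := by
  have : Function.Injective (fun a : Aff F k => (a.g, a.m)) := by
    intro a b hab
    simp only [Prod.mk.injEq] at hab
    exact ext' hab.1 hab.2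
  exact Finite.of_injective _ this

/-- If `g - 1` is invertible and `g ^ r = 1` then every element over `g` has `r`-th power one. -/
theorem pow_eq_one_of_det_ne_zero (a : Aff F k) (r : ℕ) (hr : a.g ^ r = 1)
    (hdet : ((a.g : Matrix (Fin 2) (Fin 2) F) - 1).det ≠ 0) : a ^ r = 1 := by
  apply ext'
  · rw [pow_g, hr]; rfl
  · rw [pow_m, one_m]
    have h1 : ((a.g : Matrix (Fin 2) (Fin 2) F) - 1) *
        (∑ i ∈ Finset.range r, (a.g : Matrix (Fin 2) (Fin 2) F) ^ i) = 0 := by
      rw [mul_geom_sum]
      have h' : ((a.g ^ r : SpecialLinearGroup (Fin 2) F) : Matrix (Fin 2) (Fin 2) F) = 1 := by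
        rw [hr]; rfl
      have : (a.g : Matrix (Fin 2) (Fin 2) F) ^ r = 1 := h'
      rw [this, sub_self]
    have hunit : IsUnit ((a.g : Matrix (Fin 2) (Fin 2) F) - 1) := by
      rw [Matrix.isUnit_iff_isUnit_det]
      exact isUnit_iff_ne_zero.mpr hdet
    have h2 : (∑ i ∈ Finset.range r, (a.g : Matrix (Fin 2) (Fin 2) F) ^ i) = 0 :=
      hunit.mul_right_eq_zero.mp h1
    rw [h2, Matrix.zero_mul]

/-- the translations form a subset of size `|F|^(2k)`; in particular the group is large -/
theorem card_ge [Finite F] : Nat.card F ^ (2 * k) ≤ Nat.card (Aff F k) := by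
  classical
  have hinj : Function.Injective (fun m : Matrix (Fin 2) (Fin k) F => (⟨1, m⟩ : Aff F k)) := by
    intro a b hab
    exact congrArg Aff.m hab
  have := Nat.card_le_card_of_injective _ hinj
  refine le_trans (le_of_eq ?_) this
  symm
  show Nat.card (Fin 2 → Fin k → F) = _
  rw [Nat.card_fun, Nat.card_fun, Nat.card_fin, Nat.card_fin, ← pow_mul, mul_comm]

end Aff

/-! ### `SL(2,F)` in characteristic 2 -/

section SL2

variable {F : Type u} [Field F]

/-- Cayley–Hamilton for `SL(2,F)`. -/
theorem sl2_sq (g : SpecialLinearGroup (Fin 2) F) :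
    (g : Matrix (Fin 2) (Fin 2) F) * g =
      ((g : Matrix (Fin 2) (Fin 2) F).trace) • (g : Matrix (Fin 2) (Fin 2) F) - 1 := by
  have hdet := g.2
  rw [Matrix.det_fin_two] at hdet
  ext i j
  fin_cases i <;> fin_cases j <;>
    simp [Matrix.mul_apply, Fin.sum_univ_two, Matrix.trace_fin_two]
  · linear_combination (-1 : F) * hdet
  · ring
  · ring
  · linear_combination (-1 : F) * hdet

theorem sl2_det_sub_one (g : SpecialLinearGroup (Fin 2) F) :
    ((g : Matrix (Fin 2) (Fin 2) F) - 1).det = 2 - (g : Matrix (Fin 2) (Fin 2) F).trace := by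
  have hdet := g.2
  rw [Matrix.det_fin_two] at hdet
  rw [Matrix.det_fin_two, Matrix.trace_fin_two]
  simp
  linear_combination hdet

variable [CharP F 2]

theorem two_eq_zero' : (2 : F) = 0 := by
  have := CharP.cast_eq_zero F 2
  simpa using this

theorem neg_one_eq_one_mat : (-1 : Matrix (Fin 2) (Fin 2) F) = 1 := by
  have h2 : (2 : F) = 0 := two_eq_zero'
  ext i j
  fin_cases i <;> fin_cases j <;> simp
  · linear_combination (-1 : F) * h2
  · linear_combination (-1 : F) * h2

theorem sl2_sq_eq_one_of_trace_eq_zero (g : SpecialLinearGroup (Fin 2) F)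
    (ht : (g : Matrix (Fin 2) (Fin 2) F).trace = 0) : g ^ 2 = 1 := by
  apply Subtype.ext
  have h := sl2_sq g
  rw [ht, zero_smul, zero_sub, neg_one_eq_one_mat] at h
  rw [pow_two]
  exact h

/-- The element `[[1,1],[0,1]]`. -/
def unip : SpecialLinearGroup (Fin 2) F :=
  ⟨!![1, 1; 0, 1], by simp [Matrix.det_fin_two]⟩

omit [CharP F 2] in
theorem unip_ne_one : (unip : SpecialLinearGroup (Fin 2) F) ≠ 1 := by
  intro h
  have := congrArg (fun x : SpecialLinearGroup (Fin 2) F => (x : Matrix (Fin 2) (Fin 2) F) 0 1) h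
  simp [unip] at this

theorem two_dvd_card_sl2 [Finite F] : 2 ∣ Nat.card (SpecialLinearGroup (Fin 2) F) := by
  have h2 : (2 : F) = 0 := two_eq_zero'
  have h1 : (unip : SpecialLinearGroup (Fin 2) F) ^ 2 = 1 := by
    apply sl2_sq_eq_one_of_trace_eq_zero
    simp only [unip, Matrix.trace_fin_two]
    simp
    linear_combination h2
  have : orderOf (unip : SpecialLinearGroup (Fin 2) F) = 2 :=
    orderOf_eq_prime h1 (unip_ne_one (F := F))
  have h := orderOf_dvd_natCard (unip : SpecialLinearGroup (Fin 2) F)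
  rwa [this] at h

/-- Main: the affine group has the same prime graph as `SL(2,F)` in characteristic 2. -/
theorem samePrimeGraph_aff [Finite F] (k : ℕ) :
    SamePrimeGraph (SpecialLinearGroup (Fin 2) F) (Aff F k) := by
  apply samePrimeGraph_of_split (Aff.proj (F := F) (k := k)) (Aff.incl (F := F) (k := k))
  · intro s; rfl
  · intro h hh
    have hg : h.g = 1 := hh
    apply Aff.ext'
    · rw [Aff.pow_g, hg]; simp
    · rw [Aff.pow_m, hg]
      have : (1 + 1 : Matrix (Fin 2) (Fin 2) F) = 0 := by
        have h1 := neg_one_eq_one_mat (F := F)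
        calc (1 + 1 : Matrix (Fin 2) (Fin 2) F) = 1 + (-1) := by rw [h1]
          _ = 0 := by simp
      have hsum : (∑ i ∈ Finset.range 2,
          ((1 : SpecialLinearGroup (Fin 2) F) : Matrix (Fin 2) (Fin 2) F) ^ i) = 0 := by
        rw [Finset.sum_range_succ, Finset.sum_range_succ, Finset.sum_range_zero, zero_add,
          pow_zero, pow_one]
        exact this
      rw [hsum, Matrix.zero_mul]; rfl
  · intro h r hr hr2 hord
    apply Aff.pow_eq_one_of_det_ne_zero
    · have : Aff.proj h = h.g := rfl
      rw [← this, ← hord]; exact pow_orderOf_eq_one _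
    · rw [sl2_det_sub_one, two_eq_zero', zero_sub, neg_ne_zero]
      intro ht
      have hsq := sl2_sq_eq_one_of_trace_eq_zero h.g ht
      have : orderOf (Aff.proj h) ∣ 2 := orderOf_dvd_of_pow_eq_one hsq
      rw [hord] at this
      exact hr2 ((Nat.prime_dvd_prime_iff_eq hr Nat.prime_two).mp this)
  · exact two_dvd_card_sl2

/-- In characteristic 2, the centre of `SL(2,F)` is trivial. -/
theorem center_sl2_eq_bot : Subgroup.center (SpecialLinearGroup (Fin 2) F) = ⊥ := by
  rw [eq_bot_iff]
  intro A hA
  rw [Subgroup.mem_bot]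
  obtain ⟨r, hr, hrA⟩ := (Matrix.SpecialLinearGroup.mem_center_iff (A := A)).mp hA
  simp only [Fintype.card_fin] at hr
  have h2 : (2 : F) = 0 := two_eq_zero'
  have hr1 : r = 1 := by
    have : (r - 1) ^ 2 = 0 := by linear_combination hr - r * h2 + h2
    have := (pow_eq_zero_iff (two_ne_zero)).mp this
    exact sub_eq_zero.mp this
  apply Subtype.ext
  rw [← hrA, hr1]
  simp

/-- In characteristic 2, `PSL(2,F) ≃* SL(2,F)`. -/
noncomputable def pslEquivSl :
    ProjectiveSpecialLinearGroup (Fin 2) F ≃* SpecialLinearGroup (Fin 2) F :=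
  (QuotientGroup.quotientMulEquivOfEq center_sl2_eq_bot).trans QuotientGroup.quotientBot

end SL2

end Cfsg.Agent.Lib.Helper61_SL2
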