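import Mathlib
set_option autoImplicit false
open Matrix

namespace Cfsg.Agent.Lib.Helper38_SL2
variable {F : Type*} [Field F]

/-- explicit element of SL₂ -/
def mk2 (a b c d : F) (h : a * d - b * c = 1) : SpecialLinearGroup (Fin 2) F :=
  ⟨!![a, b; c, d], by rw [Matrix.det_fin_two_of]; exact h⟩

@[simp] theorem mk2_coe (a b c d : F) (h) :
  ((mk2 a b c d h : SpecialLinearGroup (Fin 2) F) : Matrix (Fin 2) (Fin 2) F) = !![a, b; c, d] := rfl

theorem mk2_mul (a b c d a' b' c' d' : F) (h h') :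
    mk2 a b c d h * mk2 a' b' c' d' h' =
      mk2 (a * a' + b * c') (a * b' + b * d') (c * a' + d * c') (c * b' + d * d')
        (by linear_combination (a' * d' - b' * c') * h + h') := by
  apply Matrix.SpecialLinearGroup.ext
  intro i j
  rw [Matrix.SpecialLinearGroup.coe_mul]
  fin_cases i <;> fin_cases j <;> simp [Matrix.mul_apply, Fin.sum_univ_two]

theorem mk2_eq_iff (a b c d a' b' c' d' : F) (h h') :
    mk2 a b c d h = mk2 a' b' c' d' h' ↔ a = a' ∧ b = b' ∧ c = c' ∧ d = d' := by
  constructor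
  · intro e
    have := congrArg (fun g : SpecialLinearGroup (Fin 2) F => (g : Matrix (Fin 2) (Fin 2) F)) e
    simp only [mk2_coe] at this
    have h00 := congrFun (congrFun this 0) 0
    have h01 := congrFun (congrFun this 0) 1
    have h10 := congrFun (congrFun this 1) 0
    have h11 := congrFun (congrFun this 1) 1
    simp at h00 h01 h10 h11
    exact ⟨h00, h01, h10, h11⟩
  · rintro ⟨rfl, rfl, rfl, rfl⟩; rfl

theorem eq_mk2 (g : SpecialLinearGroup (Fin 2) F) :
    g = mk2 (g 0 0) (g 0 1) (g 1 0) (g 1 1) (by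
      have := g.det_coe; rw [Matrix.det_fin_two] at this; exact this) := by
  apply Matrix.SpecialLinearGroup.ext
  intro i j
  fin_cases i <;> fin_cases j <;> rfl

theorem one_eq_mk2 : (1 : SpecialLinearGroup (Fin 2) F) = mk2 1 0 0 1 (by ring) := by
  apply Matrix.SpecialLinearGroup.ext
  intro i j
  fin_cases i <;> fin_cases j <;> simp

theorem exists_eq_mk2 (g : SpecialLinearGroup (Fin 2) F) :
    ∃ (a b c d : F) (h : a * d - b * c = 1), g = mk2 a b c d h :=
  ⟨_, _, _, _, _, eq_mk2 g⟩

@[simp] theorem mk2_apply_00 (a b c d : F) (h) : (mk2 a b c d h) 0 0 = a := rfl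
@[simp] theorem mk2_apply_01 (a b c d : F) (h) : (mk2 a b c d h) 0 1 = b := rfl
@[simp] theorem mk2_apply_10 (a b c d : F) (h) : (mk2 a b c d h) 1 0 = c := rfl
@[simp] theorem mk2_apply_11 (a b c d : F) (h) : (mk2 a b c d h) 1 1 = d := rfl

end Cfsg.Agent.Lib.Helper38_SL2
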