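import Mathlib
import Cfsg.Agent.Lib.Helper21_BSW5
import Cfsg.Agent.Lib.Helper5_SLGen
import Cfsg.Agent.S2301
import Cfsg.Agent.Lib.Helper61_SL2

/-!
Bender's proof of the Brauer-Suzuki-Wall theorem, step S1230: from coordinates to the isomorphism with
`SL(2,F)`.
-/

set_option autoImplicit false
set_option linter.unusedSectionVars false
set_option linter.unusedSimpArgs false
open Cfsg
open scoped Pointwise

namespace Cfsg.Agent.Lib.Helper21_BSW

open Matrix

section SL
variable {F : Type*} [Field F] [DecidableEq F]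

/-- The action of `SL(2,F)` on the projective line. -/
def slSmul (A : SpecialLinearGroup (Fin 2) F) (p : OnePoint F) : OnePoint F :=
  (SpecialLinearGroup.toGL A) • p

theorem slSmul_mul (A B : SpecialLinearGroup (Fin 2) F) (p : OnePoint F) :
    slSmul (A * B) p = slSmul A (slSmul B p) := by
  rw [slSmul, map_mul, mul_smul]; rfl

theorem slSmul_one (p : OnePoint F) : slSmul (1 : SpecialLinearGroup (Fin 2) F) p = p := by
  rw [slSmul, map_one, one_smul]

theorem slSmul_infty (A : SpecialLinearGroup (Fin 2) F) :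
    slSmul A OnePoint.infty = if A 1 0 = 0 then OnePoint.infty else ((A 0 0 / A 1 0 : F) : OnePoint F) :=
  OnePoint.smul_infty_eq_ite _

theorem slSmul_coe (A : SpecialLinearGroup (Fin 2) F) (k : F) :
    slSmul A (k : OnePoint F) = if A 1 0 * k + A 1 1 = 0 then OnePoint.infty
      else (((A 0 0 * k + A 0 1) / (A 1 0 * k + A 1 1) : F) : OnePoint F) :=
  OnePoint.smul_some_eq_ite

theorem eq_one_of_slSmul [CharP F 2] (A : SpecialLinearGroup (Fin 2) F)
    (h : ∀ p, slSmul A p = p) : A = 1 := by
  have h10 : A 1 0 = 0 := by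
    have := h OnePoint.infty
    rw [slSmul_infty] at this
    by_contra hne
    rw [if_neg hne] at this
    exact OnePoint.coe_ne_infty _ this
  have h0 := h ((0 : F) : OnePoint F)
  rw [slSmul_coe, h10] at h0
  simp only [mul_zero, zero_add] at h0
  have h11 : A 1 1 ≠ 0 := by
    intro h11
    rw [if_pos h11] at h0
    exact OnePoint.infty_ne_coe _ h0
  rw [if_neg h11] at h0
  have h01 : A 0 1 = 0 := by
    have := OnePoint.coe_injective h0
    rcases div_eq_zero_iff.mp this with h | h
    · exact h
    · exact absurd h h11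
  have h1 := h ((1 : F) : OnePoint F)
  rw [slSmul_coe, h10, h01] at h1
  simp only [mul_one, zero_add, add_zero] at h1
  rw [if_neg h11] at h1
  have h00 : A 0 0 = A 1 1 := by
    have := OnePoint.coe_injective h1
    rwa [div_eq_one_iff_eq h11] at this
  have hdet := A.det_coe
  rw [Matrix.det_fin_two, h10, h01, h00] at hdet
  have h11' : A 1 1 = 1 := by
    have h2 : (A 1 1 - 1) ^ 2 = 0 := by
      have h2 : (2 : F) = 0 := CharTwo.two_eq_zero
      linear_combination hdet - (A 1 1) * h2 + h2
    have := pow_eq_zero_iff (two_ne_zero) |>.mp h2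
    exact sub_eq_zero.mp this
  ext i j
  fin_cases i <;> fin_cases j <;> simp [h10, h01, h00, h11']

section W
variable [CharP F 2]

/-- The Weyl element, acting as `x ↦ 1/x`. -/
def wSL : SpecialLinearGroup (Fin 2) F :=
  ⟨!![0, 1; 1, 0], by
    rw [Matrix.det_fin_two_of]
    have h2 : (2 : F) = 0 := CharTwo.two_eq_zero
    linear_combination -h2⟩

theorem wSL_coe : ((wSL : SpecialLinearGroup (Fin 2) F) : Matrix (Fin 2) (Fin 2) F)
    = !![0, 1; 1, 0] := rfl

theorem slSmul_wSL_infty : slSmul (wSL : SpecialLinearGroup (Fin 2) F) OnePoint.infty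
    = ((0 : F) : OnePoint F) := by
  rw [slSmul_infty]
  simp [wSL]

theorem slSmul_wSL_zero : slSmul (wSL : SpecialLinearGroup (Fin 2) F) ((0 : F) : OnePoint F)
    = OnePoint.infty := by
  rw [slSmul_coe]
  simp [wSL]

theorem slSmul_wSL_coe {x : F} (hx : x ≠ 0) :
    slSmul (wSL : SpecialLinearGroup (Fin 2) F) (x : OnePoint F) = ((x⁻¹ : F) : OnePoint F) := by
  rw [slSmul_coe]
  simp [wSL, hx]

omit [DecidableEq F] [CharP F 2] in
theorem transvection_upper_coe (b : F) :
    ((SpecialLinearGroup.transvection (show (0 : Fin 2) ≠ 1 by decide) b :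
      SpecialLinearGroup (Fin 2) F) : Matrix (Fin 2) (Fin 2) F) = !![1, b; 0, 1] := by
  rw [Matrix.SpecialLinearGroup.transvection_coe]
  ext i j
  fin_cases i <;> fin_cases j <;> simp [Matrix.transvection, Matrix.single_apply]

omit [DecidableEq F] [CharP F 2] in
theorem transvection_lower_coe (b : F) :
    ((SpecialLinearGroup.transvection (show (1 : Fin 2) ≠ 0 by decide) b :
      SpecialLinearGroup (Fin 2) F) : Matrix (Fin 2) (Fin 2) F) = !![1, 0; b, 1] := by
  rw [Matrix.SpecialLinearGroup.transvection_coe]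
  ext i j
  fin_cases i <;> fin_cases j <;> simp [Matrix.transvection, Matrix.single_apply]

theorem transvection_lower_eq (b : F) :
    SpecialLinearGroup.transvection (show (1 : Fin 2) ≠ 0 by decide) b
      = wSL * SpecialLinearGroup.transvection (show (0 : Fin 2) ≠ 1 by decide) b * wSL := by
  have h : ((SpecialLinearGroup.transvection (show (1 : Fin 2) ≠ 0 by decide) b :
      SpecialLinearGroup (Fin 2) F) : Matrix (Fin 2) (Fin 2) F)
      = ((wSL * SpecialLinearGroup.transvection (show (0 : Fin 2) ≠ 1 by decide) b * wSL :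
        SpecialLinearGroup (Fin 2) F) : Matrix (Fin 2) (Fin 2) F) := by
    rw [Matrix.SpecialLinearGroup.coe_mul, Matrix.SpecialLinearGroup.coe_mul,
      transvection_upper_coe, transvection_lower_coe, wSL_coe, Matrix.mul_fin_two,
      Matrix.mul_fin_two]
    simp
  exact Subtype.ext h

end W

theorem slSmul_upper_infty (b : F) :
    slSmul (SpecialLinearGroup.transvection (show (0 : Fin 2) ≠ 1 by decide) b) OnePoint.infty
      = OnePoint.infty := by
  rw [slSmul_infty]
  simp [SpecialLinearGroup.transvection_coe, Matrix.transvection, Matrix.single_apply]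

theorem slSmul_upper_coe (b x : F) :
    slSmul (SpecialLinearGroup.transvection (show (0 : Fin 2) ≠ 1 by decide) b) (x : OnePoint F)
      = ((b + x : F) : OnePoint F) := by
  rw [slSmul_coe]
  simp [SpecialLinearGroup.transvection_coe, Matrix.transvection, Matrix.single_apply, add_comm]

end SL

section Main
variable {G : Type*} [Group G] [Finite G] (hC : CIT G) {T : Sylow 2 G} {u : G}
  {F : Type*} [Field F] [DecidableEq F] [CharP F 2] (c : Coord T u F)
  (hnc : ¬ IsCyclic (T : Subgroup G)) (hnn : ¬ (T : Subgroup G).Normal)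
  (hu : orderOf u = 2) (huH : u ∉ nrm T)

include hC hnc hnn hu huH in
/-- Every element of `SL(2,F)` is induced by an element of `G`. -/
theorem exists_smul_β_eq (A : SpecialLinearGroup (Fin 2) F) :
    ∃ g : G, ∀ p, g • c.β p = c.β (slSmul A p) := by
  have hmul : ∀ A B : SpecialLinearGroup (Fin 2) F,
      (∃ g : G, ∀ p, g • c.β p = c.β (slSmul A p)) → (∃ g : G, ∀ p, g • c.β p = c.β (slSmul B p)) →
      ∃ g : G, ∀ p, g • c.β p = c.β (slSmul (A * B) p) := by
    rintro A B ⟨gA, hA⟩ ⟨gB, hB⟩
    exact ⟨gA * gB, fun p => by rw [mul_smul, hB, hA, slSmul_mul]⟩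
  have hupper : ∀ b : F, ∃ g : G, ∀ p, g • c.β p
      = c.β (slSmul (SpecialLinearGroup.transvection (show (0 : Fin 2) ≠ 1 by decide) b) p) := by
    intro b
    refine ⟨c.φ b, fun p => ?_⟩
    induction p using OnePoint.rec with
    | infty => rw [slSmul_upper_infty, Coord.β_infty, c.φ_smul_T]
    | coe x => rw [slSmul_upper_coe, c.φ_smul_β]
  have hw : ∃ g : G, ∀ p, g • c.β p = c.β (slSmul (wSL : SpecialLinearGroup (Fin 2) F) p) := by
    obtain ⟨g, hg1, hg2, hg3⟩ := c.exists_inversion hC hnc hnn hu huH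
    refine ⟨g, fun p => ?_⟩
    induction p using OnePoint.rec with
    | infty => rw [slSmul_wSL_infty, Coord.β_infty, hg1, c.β_zero]
    | coe x =>
      by_cases hx : x = 0
      · subst hx
        rw [slSmul_wSL_zero, c.β_zero, hg2, Coord.β_infty]
      · rw [slSmul_wSL_coe hx, hg3 x hx]
  refine Cfsg.Agent.Lib.Helper5_SLGen.transvection_induction
    (fun A => ∃ g : G, ∀ p, g • c.β p = c.β (slSmul A p)) ?_ hmul A
  intro i j hij b
  fin_cases i <;> fin_cases j
  · exact absurd rfl hij
  · exact hupper b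
  · have := transvection_lower_eq b
    simp only [Fin.mk_one, Fin.zero_eta, Fin.isValue] at this ⊢
    rw [this]
    exact hmul _ _ (hmul _ _ hw (hupper b)) hw
  · exact absurd rfl hij

include hC hnc hnn huH in
/-- The action of `G` on the Sylow 2-subgroups is faithful. -/
theorem eq_of_smul_β_eq {g g' : G} (h : ∀ p, g • c.β p = g' • c.β p) : g = g' := by
  have hfix : ∀ p, (g'⁻¹ * g) ∈ nrm (c.β p) := fun p => by
    apply Sylow.smul_eq_iff_mem_normalizer.mp
    rw [mul_smul, h p, inv_smul_smul]
  have hinj := c.β_injective hC huH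
  have h01 : ((0 : F) : OnePoint F) ≠ ((1 : F) : OnePoint F) := fun h =>
    zero_ne_one (OnePoint.coe_injective h)
  have h1 := eq_one_of_three_fixed hC (c.β OnePoint.infty) (c.β ((0 : F) : OnePoint F))
    (c.β ((1 : F) : OnePoint F)) hnc hnn
    (fun h => OnePoint.infty_ne_coe _ (hinj h)) (fun h => OnePoint.infty_ne_coe _ (hinj h))
    (fun h => h01 (hinj h)) (hfix _) (hfix _) (hfix _)
  calc g = g' * (g'⁻¹ * g) := by group
    _ = g' := by rw [h1, mul_one]

include hC hnc hnn hu huH in
theorem exists_hom :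
    ∃ f : SpecialLinearGroup (Fin 2) F →* G, ∀ A p, f A • c.β p = c.β (slSmul A p) := by
  choose f hf using exists_smul_β_eq hC c hnc hnn hu huH
  refine ⟨⟨⟨f, ?_⟩, ?_⟩, hf⟩
  · apply eq_of_smul_β_eq hC c hnc hnn huH
    intro p
    rw [hf, slSmul_one, one_smul]
  · intro A B
    apply eq_of_smul_β_eq hC c hnc hnn huH
    intro p
    rw [hf, mul_smul, hf B, hf A, slSmul_mul]

include hC c hnc hnn hu huH in
/-- The order of `G`. -/
theorem card_eq_of_coord [Fintype F] :
    Nat.card G = Nat.card (SpecialLinearGroup (Fin 2) F) := by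
  have hinj := c.β_injective hC huH
  have hsurj := c.β_surjective hC hnc hnn huH
  have hΩ : Nat.card (Sylow 2 G) = Nat.card F + 1 := by
    have e : OnePoint F ≃ Sylow 2 G := Equiv.ofBijective c.β ⟨hinj, hsurj⟩
    rw [← Nat.card_congr e]
    exact Finite.card_option
  have hFT : Nat.card F = Nat.card ↥(T : Subgroup G) := by
    have e : F ≃ ↥(T : Subgroup G) := Equiv.ofBijective (fun x => ⟨c.φ x, c.φ_mem x⟩)
      ⟨fun x y h => c.φ_inj (congrArg Subtype.val h), fun t => by
        obtain ⟨x, hx⟩ := c.φ_surj t.1 t.2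
        exact ⟨x, Subtype.ext hx⟩⟩
    exact Nat.card_congr e
  have hN := card_normalizer T hnc hnn hC huH
  have hidx := (Subgroup.normalizer ((T : Subgroup G) : Set G)).index_mul_card
  have hS : Nat.card (Sylow 2 G) = (Subgroup.normalizer ((T : Subgroup G) : Set G)).index :=
    T.card_eq_index_normalizer
  rw [← hS, hΩ, hN, hFT] at hidx
  rw [Cfsg.Agent.S2301.card_SL2, ← Nat.card_eq_fintype_card, hFT, ← hidx]
  have hpos : 0 < Nat.card ↥(T : Subgroup G) := Nat.card_pos
  obtain ⟨k, hk⟩ : ∃ k, Nat.card ↥(T : Subgroup G) = k + 1 :=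
    ⟨_, (Nat.succ_pred_eq_of_pos hpos).symm⟩
  rw [hk, Nat.add_sub_cancel]
  have h2 : (k + 1) ^ 2 - 1 = k * (k + 2) := by
    apply Nat.sub_eq_of_eq_add
    ring
  rw [h2]
  ring

include hC c hnc hnn hu huH in
/-- The Brauer-Suzuki-Wall theorem, relative to coordinates. -/
theorem nonempty_mulEquiv_of_coord [Fintype F] :
    Nonempty (G ≃* SpecialLinearGroup (Fin 2) F) := by
  obtain ⟨f, hf⟩ := exists_hom hC c hnc hnn hu huH
  have hβ := c.β_injective hC huH
  have hfinj : Function.Injective f := by
    intro A B hAB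
    have h1 : ∀ p, slSmul (B⁻¹ * A) p = p := by
      intro p
      have h2 : slSmul A p = slSmul B p := by
        apply hβ
        rw [← hf, ← hf, hAB]
      rw [slSmul_mul, h2, ← slSmul_mul, inv_mul_cancel, slSmul_one]
    have h3 := eq_one_of_slSmul _ h1
    calc A = B * (B⁻¹ * A) := by group
      _ = B := by rw [h3, mul_one]
  have hcard := card_eq_of_coord hC c hnc hnn hu huH
  have hbij : Function.Bijective f := hfinj.bijective_of_nat_card_le hcard.le
  exact ⟨(MulEquiv.ofBijective f hbij).symm⟩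

end Main

end Cfsg.Agent.Lib.Helper21_BSW
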