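import Mathlib

/-!
A field from a regular action: if a commutative group `D` acts by automorphisms on a commutative
group `A`, regularly on the nonidentity elements of `A`, then `A` carries the structure of a field
whose addition is the group law of `A` and whose nonzero scalars act as `D`.
-/

set_option autoImplicit false

namespace Cfsg.Agent.Lib.Helper21_RegField

universe u v

/-- A commutative group `D` acting regularly on the nonidentity elements of a commutative group
`A` (written multiplicatively), with a chosen nonidentity base point `e`. -/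
structure RegData (A : Type u) (D : Type v) [Group A] [Group D] where
  /-- the action -/
  act : D → A → A
  act_one : ∀ a, act 1 a = a
  act_mul : ∀ d d' a, act (d * d') a = act d (act d' a)
  act_hom : ∀ d a b, act d (a * b) = act d a * act d b
  comm_A : ∀ a b : A, a * b = b * a
  comm_D : ∀ d d' : D, d * d' = d' * d
  trans : ∀ a b : A, a ≠ 1 → b ≠ 1 → ∃ d, act d a = b
  free : ∀ d a, a ≠ 1 → act d a = a → d = 1
  /-- the base point -/
  e : A
  he : e ≠ 1

variable {A : Type u} {D : Type v} [Group A] [Group D]

namespace RegData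

variable (S : RegData A D)

theorem act_one' (d : D) : S.act d 1 = 1 := by
  have h := S.act_hom d 1 1
  rw [mul_one] at h
  exact (mul_eq_left).mp h.symm

theorem act_inv_act (d : D) (a : A) : S.act d⁻¹ (S.act d a) = a := by
  rw [← S.act_mul, inv_mul_cancel, S.act_one]

theorem act_act_inv (d : D) (a : A) : S.act d (S.act d⁻¹ a) = a := by
  rw [← S.act_mul, mul_inv_cancel, S.act_one]

theorem act_eq_one_iff (d : D) (a : A) : S.act d a = 1 ↔ a = 1 := by
  constructor
  · intro h
    have := S.act_inv_act d a
    rw [h, S.act_one'] at this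
    exact this.symm
  · rintro rfl
    exact S.act_one' d

open Classical in
/-- The element of `D` carrying the base point to `a`. -/
noncomputable def delta (a : A) : D :=
  if h : a = 1 then 1 else Classical.choose (S.trans S.e a S.he h)

theorem act_delta {a : A} (h : a ≠ 1) : S.act (S.delta a) S.e = a := by
  rw [delta, dif_neg h]
  exact Classical.choose_spec (S.trans S.e a S.he h)

theorem delta_act (d : D) : S.delta (S.act d S.e) = d := by
  have hne : S.act d S.e ≠ 1 := fun h => S.he ((S.act_eq_one_iff d S.e).mp h)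
  have h1 := S.act_delta hne
  have h2 : S.act (d⁻¹ * S.delta (S.act d S.e)) S.e = S.e := by
    rw [S.act_mul, h1, S.act_inv_act]
  have h3 := S.free _ _ S.he h2
  calc S.delta (S.act d S.e) = d * (d⁻¹ * S.delta (S.act d S.e)) := by group
    _ = d := by rw [h3, mul_one]

theorem delta_e : S.delta S.e = 1 := by
  have := S.delta_act 1
  rwa [S.act_one] at this

open Classical in
/-- The multiplication on `A`. -/
noncomputable def mulA (a b : A) : A := if a = 1 then 1 else S.act (S.delta a) b

open Classical in
/-- The multiplicative inverse on `A`. -/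
noncomputable def invA (a : A) : A := if a = 1 then 1 else S.act (S.delta a)⁻¹ S.e

theorem mulA_one_left (b : A) : S.mulA 1 b = 1 := by
  rw [mulA, if_pos rfl]

theorem mulA_one_right (a : A) : S.mulA a 1 = 1 := by
  rw [mulA]
  split_ifs
  · rfl
  · exact S.act_one' _

theorem mulA_of_ne {a : A} (h : a ≠ 1) (b : A) : S.mulA a b = S.act (S.delta a) b := by
  rw [mulA, if_neg h]

theorem mulA_ne_one {a b : A} (ha : a ≠ 1) (hb : b ≠ 1) : S.mulA a b ≠ 1 := by
  rw [S.mulA_of_ne ha]
  exact fun h => hb ((S.act_eq_one_iff _ _).mp h)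

theorem mulA_eq_act_mul {a b : A} (ha : a ≠ 1) (hb : b ≠ 1) :
    S.mulA a b = S.act (S.delta a * S.delta b) S.e := by
  rw [S.mulA_of_ne ha, S.act_mul, S.act_delta hb]

theorem delta_mulA {a b : A} (ha : a ≠ 1) (hb : b ≠ 1) :
    S.delta (S.mulA a b) = S.delta a * S.delta b := by
  rw [S.mulA_eq_act_mul ha hb, S.delta_act]

theorem mulA_comm (a b : A) : S.mulA a b = S.mulA b a := by
  by_cases ha : a = 1
  · subst ha; rw [S.mulA_one_left, S.mulA_one_right]
  by_cases hb : b = 1
  · subst hb; rw [S.mulA_one_left, S.mulA_one_right]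
  rw [S.mulA_eq_act_mul ha hb, S.mulA_eq_act_mul hb ha, S.comm_D]

theorem mulA_assoc (a b c : A) : S.mulA (S.mulA a b) c = S.mulA a (S.mulA b c) := by
  by_cases ha : a = 1
  · subst ha; rw [S.mulA_one_left, S.mulA_one_left, S.mulA_one_left]
  by_cases hb : b = 1
  · subst hb; rw [S.mulA_one_right, S.mulA_one_left, S.mulA_one_right]
  rw [S.mulA_of_ne (S.mulA_ne_one ha hb), S.delta_mulA ha hb, S.act_mul, S.mulA_of_ne ha,
    S.mulA_of_ne hb]

theorem mulA_e_left (a : A) : S.mulA S.e a = a := by
  rw [S.mulA_of_ne S.he, S.delta_e, S.act_one]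

theorem mulA_mul (a b c : A) : S.mulA a (b * c) = S.mulA a b * S.mulA a c := by
  by_cases ha : a = 1
  · subst ha; rw [S.mulA_one_left, S.mulA_one_left, S.mulA_one_left, mul_one]
  rw [S.mulA_of_ne ha, S.mulA_of_ne ha, S.mulA_of_ne ha, S.act_hom]

theorem mulA_invA {a : A} (ha : a ≠ 1) : S.mulA a (S.invA a) = S.e := by
  rw [invA, if_neg ha, S.mulA_of_ne ha, S.act_act_inv]

theorem invA_one : S.invA 1 = 1 := by
  rw [invA, if_pos rfl]

end RegData

/-- The carrier of the field attached to `S`. -/
structure Fld (S : RegData A D) where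
  /-- the underlying element -/
  val : A

namespace Fld

variable {S : RegData A D}

theorem ext' {x y : Fld S} (h : x.val = y.val) : x = y := by
  cases x; cases y; cases h; rfl

noncomputable instance : Add (Fld S) := ⟨fun x y => ⟨x.val * y.val⟩⟩
noncomputable instance : Mul (Fld S) := ⟨fun x y => ⟨S.mulA x.val y.val⟩⟩
noncomputable instance : Neg (Fld S) := ⟨fun x => ⟨x.val⁻¹⟩⟩
noncomputable instance : Inv (Fld S) := ⟨fun x => ⟨S.invA x.val⟩⟩
noncomputable instance : Zero (Fld S) := ⟨⟨1⟩⟩
noncomputable instance : One (Fld S) := ⟨⟨S.e⟩⟩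

theorem add_val (x y : Fld S) : (x + y).val = x.val * y.val := rfl
theorem mul_val (x y : Fld S) : (x * y).val = S.mulA x.val y.val := rfl
theorem neg_val (x : Fld S) : (-x).val = x.val⁻¹ := rfl
theorem inv_val (x : Fld S) : (x⁻¹).val = S.invA x.val := rfl
theorem zero_val : (0 : Fld S).val = 1 := rfl
theorem one_val : (1 : Fld S).val = S.e := rfl

theorem ne_zero_iff {x : Fld S} : x ≠ 0 ↔ x.val ≠ 1 := by
  constructor
  · intro h h'
    exact h (ext' (h'.trans zero_val.symm))
  · intro h h'
    exact h (by rw [h', zero_val])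

noncomputable instance instField : Field (Fld S) :=
  Field.ofMinimalAxioms (Fld S)
    (fun a b c => ext' (by simp only [add_val, mul_assoc]))
    (fun a => ext' (by simp only [add_val, zero_val, one_mul]))
    (fun a => ext' (by simp only [add_val, neg_val, zero_val, inv_mul_cancel]))
    (fun a b c => ext' (by simp only [mul_val, S.mulA_assoc]))
    (fun a b => ext' (by simp only [mul_val]; exact S.mulA_comm _ _))
    (fun a => ext' (by simp only [mul_val, one_val, S.mulA_e_left]))
    (fun a ha => ext' (by
      simp only [mul_val, inv_val, one_val]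
      exact S.mulA_invA (ne_zero_iff.mp ha)))
    (ext' (by simp only [inv_val, zero_val, S.invA_one]))
    (fun a b c => ext' (by simp only [mul_val, add_val, S.mulA_mul]))
    ⟨0, 1, fun h => S.he (by
      have := congrArg Fld.val h
      rw [zero_val, one_val] at this
      exact this.symm)⟩

/-- The scalar attached to `d : D`. -/
noncomputable def ofD (d : D) : Fld S := ⟨S.act d S.e⟩

theorem ofD_ne_zero (d : D) : (ofD d : Fld S) ≠ 0 :=
  ne_zero_iff.mpr (fun h => S.he ((S.act_eq_one_iff d S.e).mp h))

theorem ofD_mul_val (d : D) (x : Fld S) : (ofD d * x).val = S.act d x.val := by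
  rw [mul_val, ofD]
  have hne : S.act d S.e ≠ 1 := fun h => S.he ((S.act_eq_one_iff d S.e).mp h)
  rw [S.mulA_of_ne hne, S.delta_act]

theorem exists_ofD_eq {a : Fld S} (ha : a ≠ 0) : ∃ d : D, ofD d = a :=
  ⟨S.delta a.val, ext' (S.act_delta (ne_zero_iff.mp ha))⟩

end Fld

end Cfsg.Agent.Lib.Helper21_RegField
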