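import Mathlib
import Cfsg.Agent.Lib.Helper21_BSW6
import Cfsg.Agent.Lib.Helper21_RegField

/-!
The Brauer-Suzuki-Wall theorem (S1230): the field of coordinates and the final isomorphism.
-/

set_option autoImplicit false
open Cfsg
open scoped Pointwise

namespace Cfsg.Agent.Lib.Helper21_BSW

open Cfsg.Agent.Lib.Helper21_StronglyEmbedded
open Cfsg.Agent.Lib.Helper21_RegField
open Matrix

variable {G : Type*} [Group G] [Finite G] (hC : CIT G) (T : Sylow 2 G) {u : G}
  (hnc : ¬ IsCyclic (T : Subgroup G)) (hnn : ¬ (T : Subgroup G).Normal)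
  (hu : orderOf u = 2) (huH : u ∉ nrm T)

/-- The regular action of `D = N(T) ∩ N(uT)` on `T`. -/
noncomputable def regData {e : G} (he2 : orderOf e = 2) (heT : e ∈ T) :
    RegData ↥(T : Subgroup G) ↥(twoPt T u) where
  act d t := ⟨(d : G) * t * (d : G)⁻¹,
    (Subgroup.mem_normalizer_iff.mp (Subgroup.mem_inf.mp d.2).1 t).mp t.2⟩
  act_one a := Subtype.ext (by simp)
  act_mul d d' a := Subtype.ext (by simp only [Subgroup.coe_mul, _root_.mul_inv_rev]; group)
  act_hom d a b := Subtype.ext (by simp only [Subgroup.coe_mul]; group)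
  comm_A a b := Subtype.ext (commute_of_mem hC T a.2 b.2)
  comm_D d d' := Subtype.ext (commute_of_inverted
    (fun x hx => conj_eq_inv_of_mem_twoPt T hnc hnn hC hu huH hx) d.2 d'.2)
  trans a b ha hb := by
    have ha1 : (a : G) ≠ 1 := fun h => ha (Subtype.ext h)
    have hb1 : (b : G) ≠ 1 := fun h => hb (Subtype.ext h)
    have ha2 : orderOf (a : G) = 2 := orderOf_eq_two_of_mem hC T a.2 ha1
    have hb2 : orderOf (b : G) = 2 := orderOf_eq_two_of_mem hC T b.2 hb1
    have hSE := stronglyEmbedded_normalizer T hnc hnn hC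
    obtain ⟨d, hd, hdt⟩ := exists_mem_inf_conj hSE huH ha2 (Subgroup.le_normalizer a.2) hb2
      (Subgroup.le_normalizer b.2)
    exact ⟨⟨d, hd⟩, Subtype.ext hdt⟩
  free d a ha h := by
    have ha1 : (a : G) ≠ 1 := fun h => ha (Subtype.ext h)
    have ha2 : orderOf (a : G) = 2 := orderOf_eq_two_of_mem hC T a.2 ha1
    have h1 : (d : G) * a * (d : G)⁻¹ = a := congrArg Subtype.val h
    have hdc : (d : G) ∈ Subgroup.centralizer ({(a : G)} : Set G) := by
      rw [Subgroup.mem_centralizer_iff]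
      intro y hy
      rw [Set.mem_singleton_iff] at hy
      subst hy
      calc (a : G) * d = ((d : G) * a * (d : G)⁻¹) * d := by rw [h1]
        _ = d * a := by group
    rw [centralizer_eq hC T ha2 a.2] at hdc
    exact Subtype.ext (eq_one_of_mem_twoPt_of_mem T hnc hnn hC huH d.2 hdc)
  e := ⟨e, heT⟩
  he := fun h => by
    have : e = 1 := congrArg Subtype.val h
    rw [this, orderOf_one] at he2
    exact absurd he2 (by norm_num)

end Cfsg.Agent.Lib.Helper21_BSW

namespace Cfsg.Agent.Lib.Helper21_RegField.Fld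

variable {A : Type*} {D : Type*} [Group A] [Group D] {S : RegData A D}

/-- The carrier is in bijection with `A`. -/
def equivA : Fld S ≃ A where
  toFun x := x.val
  invFun a := ⟨a⟩
  left_inv _ := rfl
  right_inv _ := rfl

instance [Finite A] : Finite (Fld S) := Finite.of_equiv A equivA.symm

end Cfsg.Agent.Lib.Helper21_RegField.Fld

namespace Cfsg.Agent.Lib.Helper21_BSW

open Cfsg.Agent.Lib.Helper21_StronglyEmbedded
open Cfsg.Agent.Lib.Helper21_RegField
open Matrix

variable {G : Type*} [Group G] [Finite G] (hC : CIT G) (T : Sylow 2 G) {u : G}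
  (hnc : ¬ IsCyclic (T : Subgroup G)) (hnn : ¬ (T : Subgroup G).Normal)
  (hu : orderOf u = 2) (huH : u ∉ nrm T)

include hC hnc hnn in
theorem exists_involution_not_mem_nrm : ∃ u : G, orderOf u = 2 ∧ u ∉ nrm T := by
  have h1 : ∃ g : G, g • T ≠ T := by
    by_contra h
    push Not at h
    apply hnn
    rw [← Subgroup.normalizer_eq_top_iff, eq_top_iff]
    intro g _
    exact Sylow.smul_eq_iff_mem_normalizer.mp (h g)
  obtain ⟨g, hg⟩ := h1
  obtain ⟨w, hw, hwT⟩ := exists_involution_smul_eq hC T (g • T) hnc (not_isCyclic_smul g T hnc)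
    (Ne.symm hg)
  exact ⟨w, hw, not_mem_nrm_of_smul_ne (hwT ▸ hg)⟩

include hC hnc hnn hu huH in
/-- Coordinates exist, over a field in `Type`. -/
theorem exists_coord : ∃ (F : Type) (_ : Field F) (_ : Fintype F),
    Nonempty (Coord T u F) := by
  obtain ⟨e, he2, heT⟩ := exists_involution_mem_sylow T hnc hC
  let S := regData hC T hnc hnn hu huH he2 heT
  let r : Shrink.{0} (Fld S) ≃+* Fld S := Shrink.ringEquiv.{0} (Fld S)
  have : Finite (Shrink.{0} (Fld S)) := Finite.of_equiv (Fld S) r.toEquiv.symm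
  refine ⟨Shrink.{0} (Fld S), inferInstance, Fintype.ofFinite _, ⟨?_⟩⟩
  refine
    { φ := fun x => ((r x).val : G)
      φ_mem := fun x => (r x).val.2
      φ_inj := fun x y h => r.injective (Fld.ext' (Subtype.ext h))
      φ_surj := fun t ht => ⟨r.symm ⟨⟨t, ht⟩⟩, by rw [RingEquiv.apply_symm_apply]⟩
      φ_add := fun x y => by rw [map_add, Fld.add_val, Subgroup.coe_mul]
      scal := fun a ha => ?_ }
  have hra : r a ≠ 0 := fun h => ha (r.injective (h.trans (map_zero r).symm))
  obtain ⟨d, hd⟩ := Fld.exists_ofD_eq hra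
  refine ⟨d, d.2, fun x => ?_⟩
  have h1 := Fld.ofD_mul_val d (r x)
  rw [hd, ← map_mul] at h1
  rw [h1]
  rfl


include hC hnc hnn in
/-- The Brauer-Suzuki-Wall theorem for groups whose involution centralizers are elementary abelian. -/
theorem exists_mulEquiv_PSL : ∃ (F : Type) (_ : Field F) (_ : Fintype F),
    Fintype.card F = Nat.card ↥(T : Subgroup G) ∧
      Nonempty (G ≃* Matrix.ProjectiveSpecialLinearGroup (Fin 2) F) := by
  classical
  obtain ⟨u, hu, huH⟩ := exists_involution_not_mem_nrm hC T hnc hnn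
  obtain ⟨F, hF, hFin, ⟨c⟩⟩ := exists_coord hC T hnc hnn hu huH
  refine ⟨F, hF, hFin, ?_, ?_⟩
  · rw [← Nat.card_eq_fintype_card]
    have e : F ≃ ↥(T : Subgroup G) := Equiv.ofBijective (fun x => ⟨c.φ x, c.φ_mem x⟩)
      ⟨fun x y h => c.φ_inj (congrArg Subtype.val h), fun t => by
        obtain ⟨x, hx⟩ := c.φ_surj t.1 t.2
        exact ⟨x, Subtype.ext hx⟩⟩
    exact Nat.card_congr e
  · have h2 : (2 : F) = 0 := by
      apply c.φ_inj
      rw [← one_add_one_eq_two, c.φ_add, c.φ_zero]
      rw [← pow_two]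
      exact sq_eq_one_of_mem hC T (c.φ_mem 1)
    have : CharP F 2 := CharTwo.of_one_ne_zero_of_two_eq_zero one_ne_zero h2
    obtain ⟨e⟩ := nonempty_mulEquiv_of_coord hC c hnc hnn hu huH
    exact ⟨e.trans Cfsg.Agent.Lib.Helper61_SL2.pslEquivSl.symm⟩

end Cfsg.Agent.Lib.Helper21_BSW
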