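import Mathlib
import Cfsg.Agent.Lib.Helper21_BSW7

/-!
The Brauer-Suzuki-Wall theorem, `SL` form: same as `exists_mulEquiv_PSL` but with target
`SL(2, F)` and the extra information `CharP F 2` packaged as `Fintype.card F = |T|`.
-/

set_option autoImplicit false
open Cfsg
open scoped Pointwise

namespace Cfsg.Agent.Lib.Helper21_BSW

open Cfsg.Agent.Lib.Helper21_StronglyEmbedded
open Cfsg.Agent.Lib.Helper21_RegField
open Matrix

variable {G : Type*} [Group G] [Finite G] (hC : CIT G) (T : Sylow 2 G)
  (hnc : ¬ IsCyclic (T : Subgroup G)) (hnn : ¬ (T : Subgroup G).Normal)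

include hC hnc hnn in
/-- The Brauer-Suzuki-Wall theorem for groups whose involution centralizers are elementary
abelian, with the special linear group as target. -/
theorem exists_mulEquiv_SL : ∃ (F : Type) (_ : Field F) (_ : Fintype F),
    Fintype.card F = Nat.card ↥(T : Subgroup G) ∧
      Nonempty (G ≃* Matrix.SpecialLinearGroup (Fin 2) F) := by
  classical
  obtain ⟨u, hu, huH⟩ := exists_involution_not_mem_nrm hC T hnc hnn
  obtain ⟨F, hF, hFin, ⟨c⟩⟩ := exists_coord hC T hnc hnn hu huH
  refine ⟨F, hF, hFin, ?_, ?_⟩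
  · rw [← Nat.card_eq_fintype_card]
    have e : F ≃ ↥(T : Subgroup G) := Equiv.ofBijective (fun x => ⟨c.φ x, c.φ_mem x⟩)
      ⟨fun x y h => c.φ_inj (congrArg Subtype.val h), fun t => by
        obtain ⟨x, hx⟩ := c.φ_surj t.1 t.2
        exact ⟨x, Subtype.ext hx⟩⟩
    exact Nat.card_congr e
  · have h2 : (2 : F) = 0 := by
      apply c.φ_inj
      rw [← one_add_one_eq_two, c.φ_add, c.φ_zero]
      rw [← pow_two]
      exact sq_eq_one_of_mem hC T (c.φ_mem 1)
    have : CharP F 2 := CharTwo.of_one_ne_zero_of_two_eq_zero one_ne_zero h2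
    exact nonempty_mulEquiv_of_coord hC c hnc hnn hu huH

end Cfsg.Agent.Lib.Helper21_BSW
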