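import Mathlib
import Cfsg.Agent.Lib.Helper21_BSW6

/-!
`SL(2, 𝔽₂)` is the symmetric group on three letters (helper21): the action on the projective line
over `𝔽₂` is faithful, and the orders agree.
-/

set_option autoImplicit false
open Cfsg

namespace Cfsg.Agent.Lib.Helper21_SL2F2

open Cfsg.Agent.Lib.Helper21_BSW

/-- The permutation representation of `SL(2,F)` on the projective line. -/
noncomputable def slPermHom (F : Type*) [Field F] [DecidableEq F] :
    Matrix.SpecialLinearGroup (Fin 2) F →* Equiv.Perm (OnePoint F) where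
  toFun A :=
    { toFun := slSmul A
      invFun := slSmul A⁻¹
      left_inv := fun p => by rw [← slSmul_mul, inv_mul_cancel, slSmul_one]
      right_inv := fun p => by rw [← slSmul_mul, mul_inv_cancel, slSmul_one] }
  map_one' := by
    ext p
    exact slSmul_one p
  map_mul' A B := by
    ext p
    exact slSmul_mul A B p

theorem slPermHom_apply {F : Type*} [Field F] [DecidableEq F]
    (A : Matrix.SpecialLinearGroup (Fin 2) F) (p : OnePoint F) :
    slPermHom F A p = slSmul A p := rfl

theorem slPermHom_injective {F : Type*} [Field F] [DecidableEq F] [CharP F 2] :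
    Function.Injective (slPermHom F) := by
  rw [injective_iff_map_eq_one]
  intro A hA
  apply eq_one_of_slSmul
  intro p
  rw [← slPermHom_apply, hA]
  rfl

/-- `SL(2, 𝔽₂)` is the full symmetric group of any three-element set. -/
theorem nonempty_mulEquiv_perm {α : Type*} [Fintype α] [DecidableEq α]
    (h : Fintype.card α = 3) :
    Nonempty (Matrix.SpecialLinearGroup (Fin 2) (ZMod 2) ≃* Equiv.Perm α) := by
  classical
  have : Fact (Nat.Prime 2) := ⟨Nat.prime_two⟩
  have hF : Fintype.card (ZMod 2) = 2 := ZMod.card 2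
  have hcardO : Nat.card (OnePoint (ZMod 2)) = 3 := by
    have h1 : Nat.card (Option (ZMod 2)) = Nat.card (ZMod 2) + 1 := Finite.card_option
    have h2 : Nat.card (ZMod 2) = 2 := by rw [Nat.card_eq_fintype_card, hF]
    rw [h2] at h1
    exact h1
  have hcardSL : Nat.card (Matrix.SpecialLinearGroup (Fin 2) (ZMod 2)) = 6 := by
    rw [Cfsg.Agent.S2301.card_SL2, hF]
    norm_num
  have hcardP : Nat.card (Equiv.Perm (OnePoint (ZMod 2))) = 6 := by
    rw [Nat.card_perm, hcardO]
    rfl
  have hbij : Function.Bijective (slPermHom (ZMod 2)) := by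
    rw [Nat.bijective_iff_injective_and_card]
    exact ⟨slPermHom_injective, by rw [hcardSL, hcardP]⟩
  have e1 : Matrix.SpecialLinearGroup (Fin 2) (ZMod 2) ≃* Equiv.Perm (OnePoint (ZMod 2)) :=
    MulEquiv.ofBijective (slPermHom (ZMod 2)) hbij
  have hcard : Fintype.card (OnePoint (ZMod 2)) = Fintype.card α := by
    rw [h, ← Nat.card_eq_fintype_card, hcardO]
  exact ⟨e1.trans (Fintype.equivOfCardEq hcard).permCongrHom⟩

end Cfsg.Agent.Lib.Helper21_SL2F2
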