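import Mathlib.GroupTheory.GroupAction.MultipleTransitivity
import Mathlib.GroupTheory.GroupAction.Quotient
import Mathlib.GroupTheory.GroupAction.ConjAct
import Mathlib.GroupTheory.Sylow
import Mathlib.GroupTheory.PGroup
import Mathlib.Data.Fintype.CardEmbedding
import Mathlib.Tactic

/-!
Finite sharply doubly transitive groups: the fixed-point-free elements together with the
identity form a regular normal elementary abelian subgroup (no Frobenius theorem needed).
-/

set_option autoImplicit false

namespace Cfsg.Agent.Lib.Helper12_Sharp2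

open MulAction

variable {G α : Type*} [Group G] [MulAction G α]

/-- fixed-point-free -/
def Fpf (G : Type*) (α : Type*) [Group G] [MulAction G α] (g : G) : Prop := ∀ a : α, g • a ≠ a

theorem eq_one_of_fix_two (hsh : ∀ x : Fin 2 ↪ α, stabilizer G x = ⊥) {g : G} {a b : α}
    (hab : a ≠ b) (ha : g • a = a) (hb : g • b = b) : g = 1 := by
  have : g ∈ stabilizer G (Function.Embedding.embFinTwo hab) := by
    rw [mem_stabilizer_iff]
    ext i
    rw [Function.Embedding.smul_apply]
    fin_cases i
    · exact ha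
    · exact hb
  rw [hsh] at this
  exact Subgroup.mem_bot.mp this

theorem card_group [Fintype α] [DecidableEq α]
    (h2t : IsMultiplyPretransitive G α 2) (hsh : ∀ x : Fin 2 ↪ α, stabilizer G x = ⊥)
    (hn : 2 ≤ Fintype.card α) : Nat.card G = Fintype.card α * (Fintype.card α - 1) := by
  have hne : Nonempty (Fin 2 ↪ α) := by
    rw [Function.Embedding.nonempty_iff_card_le, Fintype.card_fin]; exact hn
  obtain ⟨x₀⟩ := hne
  have hbij : Function.Bijective (fun g : G => g • x₀) := by
    constructor
    · intro g h hgh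
      have : h⁻¹ * g ∈ stabilizer G x₀ := by
        rw [mem_stabilizer_iff, mul_smul]
        have hgh' : g • x₀ = h • x₀ := hgh
        rw [hgh', inv_smul_smul]
      rw [hsh, Subgroup.mem_bot] at this
      have := congrArg (fun y => h * y) this
      simpa using this
    · intro y
      exact h2t.exists_smul_eq x₀ y
  rw [Nat.card_congr (Equiv.ofBijective _ hbij), Nat.card_eq_fintype_card,
    Fintype.card_embedding_eq, Fintype.card_fin]
  simp [Nat.descFactorial]
  ring


open Classical in
/-- In a sharply 2-transitive group of degree `n ≥ 2`, the identity together with the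
fixed-point-free elements make up exactly `n` elements. -/
theorem card_one_or_fpf [Fintype α] [DecidableEq α] [Fintype G]
    (h2t : IsMultiplyPretransitive G α 2) (hsh : ∀ x : Fin 2 ↪ α, stabilizer G x = ⊥)
    (hn : 2 ≤ Fintype.card α) :
    (Finset.univ.filter (fun g : G => g = 1 ∨ Fpf G α g)).card = Fintype.card α := by
  have htr : IsPretransitive G α := isPretransitive_of_is_two_pretransitive
  have hne : Nonempty α := by rw [← Fintype.card_pos_iff]; omega
  have hΩ : Fintype.card (orbitRel.Quotient G α) = 1 := by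
    rw [Fintype.card_eq_one_iff_nonempty_unique]
    have hs : Subsingleton (orbitRel.Quotient G α) :=
      (pretransitive_iff_subsingleton_quotient G α).mp htr
    obtain ⟨a⟩ := hne
    exact ⟨⟨⟨Quotient.mk'' a⟩, fun x => Subsingleton.elim _ _⟩⟩
  have hB := sum_card_fixedBy_eq_card_orbits_mul_card_group G α
  rw [hΩ, one_mul] at hB
  have hG := card_group h2t hsh hn
  rw [Nat.card_eq_fintype_card] at hG
  -- values of the fixed point count
  have h1 : Fintype.card (fixedBy α (1 : G)) = Fintype.card α := by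
    rw [Fintype.card_eq_nat_card, Fintype.card_eq_nat_card]
    apply Nat.card_congr
    exact ⟨fun x => x.1, fun x => ⟨x, by simp⟩, fun x => rfl, fun x => rfl⟩
  have hg : ∀ g : G, g ≠ 1 →
      Fintype.card (fixedBy α g) = if Fpf G α g then 0 else 1 := by
    intro g hg1
    split_ifs with hf
    · rw [Fintype.card_eq_zero_iff]
      exact ⟨fun x => hf x.1 x.2⟩
    · unfold Fpf at hf
      push Not at hf
      obtain ⟨a, ha⟩ := hf
      rw [Fintype.card_eq_one_iff]
      refine ⟨⟨a, ha⟩, fun y => ?_⟩
      apply Subtype.ext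
      by_contra hne
      exact hg1 (eq_one_of_fix_two hsh (fun h => hne h.symm) ha y.2)
  -- split the Burnside sum
  rw [← Finset.add_sum_erase Finset.univ _ (Finset.mem_univ (1 : G)), h1] at hB
  have hsum : ∑ g ∈ Finset.univ.erase (1 : G), Fintype.card (fixedBy α g)
      = ((Finset.univ.erase (1 : G)).filter (fun g => ¬ Fpf G α g)).card := by
    rw [Finset.card_filter]
    apply Finset.sum_congr rfl
    intro g hg'
    rw [hg g (Finset.ne_of_mem_erase hg')]
    by_cases hf : Fpf G α g <;> simp [hf]
  rw [hsum] at hB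
  have hsplit := Finset.card_filter_add_card_filter_not (s := Finset.univ.erase (1 : G))
    (fun g => Fpf G α g)
  rw [Finset.card_erase_of_mem (Finset.mem_univ _), Finset.card_univ] at hsplit
  have hset : Finset.univ.filter (fun g : G => g = 1 ∨ Fpf G α g)
      = insert 1 ((Finset.univ.erase (1 : G)).filter (fun g => Fpf G α g)) := by
    ext g
    simp only [Finset.mem_filter, Finset.mem_univ, true_and, Finset.mem_insert, Finset.mem_erase,
      ne_eq, and_true]
    constructor
    · rintro (h | h)
      · left; exact h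
      · by_cases hg1 : g = 1
        · left; exact hg1
        · right; exact ⟨hg1, h⟩
    · rintro (h | h)
      · left; exact h
      · right; exact h.2
  rw [hset, Finset.card_insert_of_notMem (by simp)]
  have : Fintype.card α * (Fintype.card α - 1) = Fintype.card α * Fintype.card α - Fintype.card α := by
    rw [Nat.mul_sub, mul_one]
  have h3 : Fintype.card α ≤ Fintype.card α * Fintype.card α := Nat.le_mul_self _
  have h4 : 2 * Fintype.card α ≤ Fintype.card α * Fintype.card α := Nat.mul_le_mul_right _ hn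
  omega


theorem fpf_conj {x : G} (hx : Fpf G α x) (g : G) : Fpf G α (g * x * g⁻¹) := by
  intro a ha
  apply hx (g⁻¹ • a)
  rw [mul_smul, mul_smul] at ha
  have := congrArg (fun z => g⁻¹ • z) ha
  simpa using this

theorem commute_imp_one_or_fpf (hsh : ∀ x : Fin 2 ↪ α, stabilizer G x = ⊥) {x : G}
    (hx : Fpf G α x) {h : G} (hh : h * x = x * h) : h = 1 ∨ Fpf G α h := by
  by_contra hcon
  push Not at hcon
  obtain ⟨h1, hnf⟩ := hcon
  unfold Fpf at hnf
  push Not at hnf
  obtain ⟨a, ha⟩ := hnf
  apply h1
  refine eq_one_of_fix_two hsh (hx a).symm ha ?_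
  rw [← mul_smul, hh, mul_smul, ha]

/-- The set of elements that are trivial or fixed-point-free. -/
def NS (G : Type*) (α : Type*) [Group G] [MulAction G α] : Set G := {g | g = 1 ∨ Fpf G α g}

theorem ncard_NS [Fintype α] [DecidableEq α] [Finite G]
    (h2t : IsMultiplyPretransitive G α 2) (hsh : ∀ x : Fin 2 ↪ α, stabilizer G x = ⊥)
    (hn : 2 ≤ Fintype.card α) : (NS G α).ncard = Fintype.card α := by
  classical
  have : Fintype G := Fintype.ofFinite G
  rw [← card_one_or_fpf h2t hsh hn, ← Set.ncard_coe_finset]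
  congr 1
  ext g
  simp [NS]

/-- Key counting step: the centraliser of a non-trivial fixed-point-free element is exactly the
set of trivial-or-fixed-point-free elements, and all non-trivial fixed-point-free elements are
conjugate. -/
theorem key [Fintype α] [DecidableEq α] [Finite G]
    (h2t : IsMultiplyPretransitive G α 2) (hsh : ∀ x : Fin 2 ↪ α, stabilizer G x = ⊥)
    (hn : 2 ≤ Fintype.card α) {x : G} (hx1 : x ≠ 1) (hx : Fpf G α x) :
    (∀ g : G, g * x = x * g ↔ g = 1 ∨ Fpf G α g) ∧
      (∀ y : G, y ≠ 1 → Fpf G α y → ∃ g : G, g * x * g⁻¹ = y) := by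
  classical
  have hNS := ncard_NS h2t hsh hn
  have hG := card_group h2t hsh hn
  generalize Fintype.card α = n at *
  have hfinNS : (NS G α).Finite := Set.toFinite _
  -- the centralizer as a set
  let C : Set G := {g | g * x = x * g}
  let O : Set G := {y | ∃ g : G, g * x * g⁻¹ = y}
  have hC : C ⊆ NS G α := fun g hg => commute_imp_one_or_fpf hsh hx hg
  have hO : O ⊆ NS G α \ {1} := by
    rintro y ⟨g, rfl⟩
    refine ⟨Or.inr (fpf_conj hx g), ?_⟩
    simp only [Set.mem_singleton_iff]
    intro h
    apply hx1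
    have := congrArg (fun z => g⁻¹ * z * g) h
    simpa [mul_assoc] using this
  have hCle : C.ncard ≤ n := by
    rw [← hNS]; exact Set.ncard_le_ncard hC hfinNS
  have hOle : O.ncard ≤ n - 1 := by
    have h1 : (NS G α \ {1}).ncard = n - 1 := by
      rw [Set.ncard_sdiff_singleton_of_mem (show (1 : G) ∈ NS G α from Or.inl rfl), hNS]
    rw [← h1]; exact Set.ncard_le_ncard hO (hfinNS.subset Set.sdiff_subset)
  -- orbit-stabilizer
  have hos : C.ncard * O.ncard = n * (n - 1) := by
    rw [← hG]
    have h1 := Subgroup.card_mul_index (stabilizer (ConjAct G) x)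
    rw [index_stabilizer] at h1
    have e1 : Nat.card (stabilizer (ConjAct G) x) = C.ncard := by
      rw [← Nat.card_coe_set_eq]
      apply Nat.card_congr
      refine ⟨fun k => ⟨ConjAct.ofConjAct k.1, ?_⟩, fun g => ⟨ConjAct.toConjAct g.1, ?_⟩,
        fun k => rfl, fun g => rfl⟩
      · have := k.2
        rw [mem_stabilizer_iff, ConjAct.smul_def] at this
        change ConjAct.ofConjAct k.1 * x = x * ConjAct.ofConjAct k.1
        exact mul_inv_eq_iff_eq_mul.mp this
      · rw [mem_stabilizer_iff, ConjAct.smul_def]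
        have := g.2
        change g.1 * x = x * g.1 at this
        simp only [ConjAct.ofConjAct_toConjAct]
        exact mul_inv_eq_iff_eq_mul.mpr this
    have e2 : (orbit (ConjAct G) x).ncard = O.ncard := by
      have : orbit (ConjAct G) x = O := by
        ext y
        simp only [mem_orbit_iff, ConjAct.smul_def, O, Set.mem_ofPred_eq]
        constructor
        · rintro ⟨k, hk⟩; exact ⟨ConjAct.ofConjAct k, hk⟩
        · rintro ⟨g, hg⟩; exact ⟨ConjAct.toConjAct g, hg⟩
      rw [this]
    rw [e1, e2] at h1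
    rw [h1]
    exact Nat.card_congr ConjAct.ofConjAct.toEquiv
  have hn1 : 1 ≤ n - 1 := by omega
  have hCeq : C.ncard = n := by
    by_contra hne
    have hlt : C.ncard ≤ n - 1 := by omega
    have := Nat.mul_le_mul hlt hOle
    rw [hos] at this
    have : n * (n - 1) ≤ (n - 1) * (n - 1) := this
    have h3 : n ≤ n - 1 := Nat.le_of_mul_le_mul_right this (by omega)
    omega
  have hOeq : O.ncard = n - 1 := by
    rw [hCeq] at hos
    exact Nat.eq_of_mul_eq_mul_left (by omega) hos
  have hCset : C = NS G α := Set.eq_of_subset_of_ncard_le hC (by rw [hNS, hCeq]) hfinNS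
  have hOset : O = NS G α \ {1} :=
    Set.eq_of_subset_of_ncard_le hO (by
      rw [Set.ncard_sdiff_singleton_of_mem (show (1 : G) ∈ NS G α from Or.inl rfl), hNS, hOeq]) (hfinNS.subset Set.sdiff_subset)
  constructor
  · intro g
    change g ∈ C ↔ g ∈ NS G α
    rw [hCset]
  · intro y hy1 hy
    have : y ∈ O := by
      rw [hOset]
      exact ⟨Or.inr hy, by simpa using hy1⟩
    exact this


/-- The regular normal elementary abelian subgroup of a finite sharply 2-transitive group. -/
theorem exists_regular_normal [Fintype α] [DecidableEq α] [Finite G]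
    (h2t : IsMultiplyPretransitive G α 2) (hsh : ∀ x : Fin 2 ↪ α, stabilizer G x = ⊥)
    (hn : 2 ≤ Fintype.card α) :
    ∃ (N : Subgroup G) (p j : ℕ), p.Prime ∧ 1 ≤ j ∧ Fintype.card α = p ^ j ∧
      (∀ g, g ∈ N ↔ g = 1 ∨ Fpf G α g) ∧ N.Normal ∧ (∀ x ∈ N, ∀ y ∈ N, x * y = y * x) ∧
      (∀ x ∈ N, x ^ p = 1) ∧ Nat.card N = Fintype.card α := by
  classical
  have hNS := ncard_NS h2t hsh hn
  obtain ⟨x₀, hx₀NS, hx₀1⟩ := Set.exists_ne_of_one_lt_ncard (s := NS G α) (by omega) 1
  have hx₀ : Fpf G α x₀ := hx₀NS.resolve_left hx₀1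
  obtain ⟨hkey1, -⟩ := key h2t hsh hn hx₀1 hx₀
  let N : Subgroup G := Subgroup.centralizer {x₀}
  have hmem : ∀ g, g ∈ N ↔ g = 1 ∨ Fpf G α g := by
    intro g
    rw [← hkey1 g, Subgroup.mem_centralizer_iff]
    constructor
    · intro h; exact (h x₀ rfl).symm
    · rintro h y rfl; exact h.symm
  have hcomm : ∀ x ∈ N, ∀ y ∈ N, x * y = y * x := by
    intro x hx y hy
    by_cases hx1 : x = 1
    · rw [hx1]; simp
    · have hxf : Fpf G α x := ((hmem x).mp hx).resolve_left hx1
      exact (((key h2t hsh hn hx1 hxf).1 y).mpr ((hmem y).mp hy)).symm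
  have hnormal : N.Normal := by
    constructor
    intro g hg k
    rw [hmem] at hg ⊢
    rcases hg with rfl | hg
    · left; simp
    · right; exact fpf_conj hg k
  -- the prime
  have hfin : 0 < orderOf x₀ := orderOf_pos x₀
  have hm1 : orderOf x₀ ≠ 1 := by rwa [Ne, orderOf_eq_one_iff]
  set p := (orderOf x₀).minFac with hp
  have hpp : p.Prime := Nat.minFac_prime hm1
  have hpd : p ∣ orderOf x₀ := Nat.minFac_dvd _
  have hFact : Fact p.Prime := ⟨hpp⟩
  let y₀ := x₀ ^ (orderOf x₀ / p)
  have hy₀ord : orderOf y₀ = p := by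
    have hd : orderOf x₀ / p ∣ orderOf x₀ := Nat.div_dvd_of_dvd hpd
    have h0 : orderOf x₀ / p ≠ 0 := by
      intro h
      have := Nat.div_mul_cancel hpd
      rw [h, zero_mul] at this
      omega
    rw [orderOf_pow_of_dvd h0 hd, Nat.div_div_self hpd (by omega)]
  have hy₀N : y₀ ∈ N := N.pow_mem ((hmem x₀).mpr (Or.inr hx₀)) _
  have hy₀1 : y₀ ≠ 1 := by
    intro h
    rw [h, orderOf_one] at hy₀ord
    exact hpp.one_lt.ne hy₀ord
  have hy₀f : Fpf G α y₀ := ((hmem y₀).mp hy₀N).resolve_left hy₀1
  have hexp : ∀ x ∈ N, x ^ p = 1 := by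
    intro x hx
    by_cases hx1 : x = 1
    · rw [hx1, one_pow]
    · have hxf : Fpf G α x := ((hmem x).mp hx).resolve_left hx1
      obtain ⟨g, rfl⟩ := (key h2t hsh hn hy₀1 hy₀f).2 x hx1 hxf
      rw [conj_pow, ← hy₀ord, pow_orderOf_eq_one]
      simp
  have hcardN : Nat.card N = Fintype.card α := by
    rw [← hNS, ← Nat.card_coe_set_eq]
    apply Nat.card_congr
    refine ⟨fun g => ⟨g.1, (hmem g.1).mp g.2⟩, fun g => ⟨g.1, (hmem g.1).mpr g.2⟩,
      fun g => rfl, fun g => rfl⟩
  have hpg : IsPGroup p N := by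
    intro g
    refine ⟨1, ?_⟩
    rw [pow_one]
    apply Subtype.ext
    simpa using hexp g.1 g.2
  obtain ⟨j, hj⟩ := IsPGroup.iff_card.mp hpg
  refine ⟨N, p, j, hpp, ?_, ?_, hmem, hnormal, hcomm, hexp, hcardN⟩
  · by_contra h
    have : j = 0 := by omega
    rw [this, pow_zero] at hj
    omega
  · rw [← hcardN, hj]

end Cfsg.Agent.Lib.Helper12_Sharp2
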