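import Cfsg.Agent.Lib.Helper21_StronglyEmbedded
import Cfsg.Agent.S1226
import Mathlib.GroupTheory.Sylow
import Mathlib.GroupTheory.Complement

/-!
Groups in which the centralizer of every involution is an elementary abelian 2-group
(the setting of the Brauer-Suzuki-Wall theorem, following Bender's elementary proof).
-/

set_option autoImplicit false
open Cfsg

namespace Cfsg.Agent.Lib.Helper21_BSW

open Cfsg.Agent.Lib.Helper21_StronglyEmbedded

variable {G : Type*} [Group G]

/-- The standing hypothesis: centralizers of involutions are elementary abelian 2-groups. -/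
def CIT (G : Type*) [Group G] : Prop :=
  ∀ t : G, orderOf t = 2 → IsMulCommutative (Subgroup.centralizer ({t} : Set G)) ∧
    ∀ c ∈ Subgroup.centralizer ({t} : Set G), c ^ 2 = 1

theorem CIT.isPGroup (hC : CIT G) {t : G} (ht : orderOf t = 2) :
    IsPGroup 2 (Subgroup.centralizer ({t} : Set G)) := by
  rintro ⟨c, hc⟩
  refine ⟨1, ?_⟩
  apply Subtype.ext
  change c ^ 2 ^ 1 = 1
  rw [pow_one]
  exact (hC t ht).2 c hc

/-- Under CIT a nontrivial Sylow 2-subgroup is the centralizer of one of its involutions. -/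
theorem exists_centralizer_eq [Finite G] (hC : CIT G) (T : Sylow 2 G)
    (hnt : Nontrivial (T : Subgroup G)) :
    ∃ t : G, orderOf t = 2 ∧ t ∈ T ∧ Subgroup.centralizer ({t} : Set G) = (T : Subgroup G) := by
  have : Fact (Nat.Prime 2) := ⟨Nat.prime_two⟩
  have hT2 : IsPGroup 2 (T : Subgroup G) := T.isPGroup'
  have hcnt : Nontrivial (Subgroup.center (T : Subgroup G)) := hT2.center_nontrivial
  have hc2 : IsPGroup 2 (Subgroup.center (T : Subgroup G)) := hT2.to_subgroup _
  obtain ⟨k, hk, hcard⟩ := (hc2.nontrivial_iff_card).mp hcnt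
  have hdvd : 2 ∣ Nat.card (Subgroup.center (T : Subgroup G)) := by
    rw [hcard]; exact dvd_pow_self 2 (by omega)
  obtain ⟨x, hx⟩ := exists_prime_orderOf_dvd_card' 2 hdvd
  refine ⟨((x : (T : Subgroup G)) : G), ?_, (x : (T : Subgroup G)).2, ?_⟩
  · rw [Subgroup.orderOf_coe, Subgroup.orderOf_coe]; exact hx
  · have ht2 : orderOf ((x : (T : Subgroup G)) : G) = 2 := by
      rw [Subgroup.orderOf_coe, Subgroup.orderOf_coe]; exact hx
    apply T.is_maximal' (hC.isPGroup ht2)
    intro y hy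
    rw [Subgroup.mem_centralizer_iff]
    intro z hz
    rw [Set.mem_singleton_iff] at hz
    subst hz
    have := Subgroup.mem_center_iff.mp x.2 ⟨y, hy⟩
    exact (congrArg Subtype.val this).symm

/-- Under CIT a Sylow 2-subgroup has exponent 2. -/
theorem sq_eq_one_of_mem [Finite G] (hC : CIT G) (T : Sylow 2 G) {a : G} (ha : a ∈ T) :
    a ^ 2 = 1 := by
  by_cases hnt : Nontrivial (T : Subgroup G)
  · obtain ⟨t, ht, -, hCt⟩ := exists_centralizer_eq hC T hnt
    exact (hC t ht).2 a (hCt ▸ ha)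
  · rw [not_nontrivial_iff_subsingleton] at hnt
    have : (⟨a, ha⟩ : (T : Subgroup G)) = 1 := Subsingleton.elim _ _
    have : a = 1 := congrArg Subtype.val this
    rw [this, one_pow]

/-- Under CIT a Sylow 2-subgroup is commutative. -/
theorem commute_of_mem [Finite G] (hC : CIT G) (T : Sylow 2 G) {a b : G} (ha : a ∈ T)
    (hb : b ∈ T) : a * b = b * a := by
  by_cases hnt : Nontrivial (T : Subgroup G)
  · obtain ⟨t, ht, -, hCt⟩ := exists_centralizer_eq hC T hnt
    have hcomm := (hC t ht).1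
    have ha' : a ∈ Subgroup.centralizer ({t} : Set G) := hCt ▸ (ha : a ∈ (T : Subgroup G))
    have hb' : b ∈ Subgroup.centralizer ({t} : Set G) := hCt ▸ (hb : b ∈ (T : Subgroup G))
    have := hcomm.is_comm.comm ⟨a, ha'⟩ ⟨b, hb'⟩
    exact congrArg Subtype.val this
  · rw [not_nontrivial_iff_subsingleton] at hnt
    have h1 : (⟨a, ha⟩ : (T : Subgroup G)) = 1 := Subsingleton.elim _ _
    have : a = 1 := congrArg Subtype.val h1
    rw [this, one_mul, mul_one]

/-- Nonidentity elements of the Sylow 2-subgroup are involutions. -/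
theorem orderOf_eq_two_of_mem [Finite G] (hC : CIT G) (T : Sylow 2 G) {a : G} (ha : a ∈ T)
    (ha1 : a ≠ 1) : orderOf a = 2 :=
  orderOf_eq_prime (sq_eq_one_of_mem hC T ha) ha1

/-- The centralizer of an involution of `T` is `T`. -/
theorem centralizer_eq [Finite G] (hC : CIT G) (T : Sylow 2 G) {s : G} (hs : orderOf s = 2)
    (hsT : s ∈ T) : Subgroup.centralizer ({s} : Set G) = (T : Subgroup G) := by
  have : Fact (Nat.Prime 2) := ⟨Nat.prime_two⟩
  apply T.is_maximal' (hC.isPGroup hs)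
  intro y hy
  rw [Subgroup.mem_centralizer_iff]
  intro z hz
  rw [Set.mem_singleton_iff] at hz
  subst hz
  exact commute_of_mem hC T hsT hy

/-- Involutions of `N_G(T)` lie in `T`. -/
theorem mem_of_mem_normalizer [Finite G] (T : Sylow 2 G) {s : G} (hs : orderOf s = 2)
    (hsN : s ∈ Subgroup.normalizer ((T : Subgroup G) : Set G)) : s ∈ T := by
  have : Fact (Nat.Prime 2) := ⟨Nat.prime_two⟩
  have hT2 : IsPGroup 2 (T : Subgroup G) := T.isPGroup'
  have hz2 : IsPGroup 2 (Subgroup.zpowers s) := isPGroup_zpowers_of_orderOf_eq_two hs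
  have hle : Subgroup.zpowers s ≤ Subgroup.normalizer ((T : Subgroup G) : Set G) :=
    Subgroup.zpowers_le.mpr hsN
  have hsup : IsPGroup 2 (Subgroup.zpowers s ⊔ (T : Subgroup G) : Subgroup G) :=
    hz2.to_sup_of_normal_right' hT2 hle
  have := T.is_maximal' hsup le_sup_right
  have h2 : s ∈ Subgroup.zpowers s ⊔ (T : Subgroup G) :=
    le_sup_left (a := Subgroup.zpowers s) (Subgroup.mem_zpowers s)
  rw [this] at h2
  exact h2

/-- A fixed-point-free involutory automorphism (given by conjugation) of a finite subgroup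
inverts every element. -/
theorem inverts_of_fixedPointFree {D : Subgroup G} [Finite D] {u : G} (hu2 : u * u = 1)
    (hnorm : ∀ d ∈ D, u * d * u⁻¹ ∈ D) (hfpf : ∀ d ∈ D, u * d * u⁻¹ = d → d = 1) :
    ∀ d ∈ D, u * d * u⁻¹ = d⁻¹ := by
  have huinv : u⁻¹ = u := inv_eq_of_mul_eq_one_left hu2
  let f : D → D := fun d => ⟨d.1⁻¹ * (u * d.1 * u⁻¹), D.mul_mem (D.inv_mem d.2) (hnorm d.1 d.2)⟩
  have hinj : Function.Injective f := by
    intro d e h
    have h' : d.1⁻¹ * (u * d.1 * u⁻¹) = e.1⁻¹ * (u * e.1 * u⁻¹) := congrArg Subtype.val h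
    have hfix : u * (e.1 * d.1⁻¹) * u⁻¹ = e.1 * d.1⁻¹ := by
      have : u * (e.1 * d.1⁻¹) * u⁻¹ = (u * e.1 * u⁻¹) * (u * d.1 * u⁻¹)⁻¹ := by group
      rw [this]
      have h2 : u * e.1 * u⁻¹ = e.1 * (d.1⁻¹ * (u * d.1 * u⁻¹)) := by rw [h']; group
      rw [h2]; group
    have := hfpf _ (D.mul_mem e.2 (D.inv_mem d.2)) hfix
    apply Subtype.ext
    have h3 : e.1 = d.1 := by
      calc e.1 = (e.1 * d.1⁻¹) * d.1 := by group
        _ = d.1 := by rw [this, one_mul]
    exact h3.symm
  have hsurj : Function.Surjective f := Finite.injective_iff_surjective.mp hinj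
  intro d hd
  obtain ⟨e, he⟩ := hsurj ⟨d, hd⟩
  have he' : e.1⁻¹ * (u * e.1 * u⁻¹) = d := congrArg Subtype.val he
  rw [← he']
  calc u * (e.1⁻¹ * (u * e.1 * u⁻¹)) * u⁻¹
      = u * e.1⁻¹ * (u * e.1 * u⁻¹) * u⁻¹ := by group
    _ = u * e.1⁻¹ * (u * e.1 * u) * u := by rw [huinv]
    _ = u * e.1⁻¹ * u * e.1 * (u * u) := by group
    _ = u * e.1⁻¹ * u * e.1 := by rw [hu2, mul_one]
    _ = (e.1⁻¹ * (u * e.1 * u))⁻¹ := by
        rw [mul_inv_rev, mul_inv_rev, mul_inv_rev, inv_inv, huinv]; group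
    _ = (e.1⁻¹ * (u * e.1 * u⁻¹))⁻¹ := by rw [huinv]

/-- An element whose order divides both an odd number and 2 is trivial. -/
theorem eq_one_of_sq_of_odd_card [Finite G] {D : Subgroup G} (hodd : Odd (Nat.card ↥D)) {x : G}
    (hx : x ∈ D) (hx2 : x ^ 2 = 1) : x = 1 := by
  have h1 : orderOf x ∣ 2 := orderOf_dvd_of_pow_eq_one hx2
  have h2 : orderOf x ∣ Nat.card ↥D := by
    have := orderOf_dvd_natCard (⟨x, hx⟩ : ↥D)
    rwa [Subgroup.orderOf_mk] at this
  have h3 : orderOf x = 1 := by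
    rcases (Nat.dvd_prime Nat.prime_two).mp h1 with h | h
    · exact h
    · exfalso
      rw [h] at h2
      exact (Nat.not_even_iff_odd.mpr hodd) (even_iff_two_dvd.mpr h2)
  exact orderOf_eq_one_iff.mp h3

theorem card_subtype_ne_one (α : Type*) [Group α] [Finite α] :
    Nat.card {x : α // x ≠ 1} = Nat.card α - 1 := by
  classical
  have : Fintype α := Fintype.ofFinite α
  rw [Nat.card_eq_fintype_card, Nat.card_eq_fintype_card, Fintype.card_subtype_compl,
    Fintype.card_subtype_eq]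

end Cfsg.Agent.Lib.Helper21_BSW
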