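import Mathlib

set_option autoImplicit false

/-!
# Sharply multiply transitive groups: generic lemmas (helper59)

* `exists_smul_tuple`: `k`-fold transitivity on injective tuples given as functions;
* `card_of_sharp`: the order of a sharply `k`-transitive group;
* `exists_smul_eq_of_two_trans`: a subgroup `M` normalized by a group `H` that is `2`-transitive
  on an invariant set `Δ`, with `M` moving a point of `Δ`, is transitive on `Δ`;
* `card_eq_of_transitive_on`: orbit-stabilizer for a subgroup transitive on a set;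
* `mem_zpowers_of_commute`: an element commuting with a "cycle with at most one fixed point"
  is one of its powers;
* `card_normalizer_eq`: a self-centralizing subgroup of prime order `p` has normalizer of
  order `p * j` with `j ∣ p - 1`;
* `index_mul_card_dvd_card_normalizer`: Frattini argument in numerical form.
-/

namespace Cfsg.Agent.Lib.Helper59_SharpTrans

open MulAction

section Tuples

variable {Γ α : Type*} [Group Γ] [MulAction Γ α]

/-- `k`-fold transitivity on injective tuples given as functions. -/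
theorem exists_smul_tuple {k : ℕ} [hk : IsMultiplyPretransitive Γ α k] (f g : Fin k → α)
    (hf : Function.Injective f) (hg : Function.Injective g) : ∃ γ : Γ, ∀ i, γ • f i = g i := by
  obtain ⟨γ, hγ⟩ := (isMultiplyPretransitive_iff.1 hk) ⟨f, hf⟩ ⟨g, hg⟩
  refine ⟨γ, fun i => ?_⟩
  have := DFunLike.congr_fun hγ i
  simpa using this

/-- The order of a sharply `k`-transitive group. -/
theorem card_of_sharp [Fintype α] {k : ℕ} [hk : IsMultiplyPretransitive Γ α k]
    (hkα : k ≤ Fintype.card α) (hsharp : ∀ x : Fin k ↪ α, stabilizer Γ x = ⊥) :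
    Nat.card Γ = (Fintype.card α).descFactorial k := by
  classical
  have hne : Nonempty (Fin k ↪ α) := by
    apply Function.Embedding.nonempty_of_card_le
    simpa using hkα
  obtain ⟨x₀⟩ := hne
  have h1 := (stabilizer Γ x₀).index_mul_card
  rw [index_stabilizer, hsharp x₀, Subgroup.card_bot, mul_one] at h1
  have h2 : orbit Γ x₀ = Set.univ := by
    have : IsPretransitive Γ (Fin k ↪ α) := hk
    exact orbit_eq_univ Γ x₀
  rw [← h1, h2, Set.ncard_univ, Nat.card_eq_fintype_card, Fintype.card_embedding_eq,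
    Fintype.card_fin]

end Tuples

section Vec

variable {α : Type*}

theorem injective_vec2 {x y : α} (h : x ≠ y) : Function.Injective ![x, y] := by
  intro i j hij; fin_cases i <;> fin_cases j <;> simp_all

theorem injective_vec3 {a x y : α} (h1 : a ≠ x) (h2 : a ≠ y) (h3 : x ≠ y) :
    Function.Injective ![a, x, y] := by
  intro i j hij; fin_cases i <;> fin_cases j <;> simp_all

theorem injective_vec4 {a b x y : α} (h0 : a ≠ b) (h1 : a ≠ x) (h2 : a ≠ y) (h3 : b ≠ x)
    (h4 : b ≠ y) (h5 : x ≠ y) : Function.Injective ![a, b, x, y] := by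
  intro i j hij; fin_cases i <;> fin_cases j <;> simp_all

end Vec

section Trans

variable {Γ α : Type*} [Group Γ] [MulAction Γ α]

theorem two_trans [IsMultiplyPretransitive Γ α 2] (x y x' y' : α) (hxy : x ≠ y)
    (hxy' : x' ≠ y') : ∃ g : Γ, g • x = x' ∧ g • y = y' := by
  obtain ⟨g, hg⟩ := exists_smul_tuple (Γ := Γ) (k := 2) ![x, y] ![x', y']
    (injective_vec2 hxy) (injective_vec2 hxy')
  exact ⟨g, hg 0, hg 1⟩

theorem three_trans [IsMultiplyPretransitive Γ α 3] (a x y x' y' : α) (h1 : a ≠ x) (h2 : a ≠ y)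
    (h3 : x ≠ y) (h4 : a ≠ x') (h5 : a ≠ y') (h6 : x' ≠ y') :
    ∃ g : Γ, g • a = a ∧ g • x = x' ∧ g • y = y' := by
  obtain ⟨g, hg⟩ := exists_smul_tuple (Γ := Γ) (k := 3) ![a, x, y] ![a, x', y']
    (injective_vec3 h1 h2 h3) (injective_vec3 h4 h5 h6)
  exact ⟨g, hg 0, hg 1, hg 2⟩

theorem four_trans [IsMultiplyPretransitive Γ α 4] (a b x y x' y' : α) (h0 : a ≠ b) (h1 : a ≠ x)
    (h2 : a ≠ y) (h3 : b ≠ x) (h4 : b ≠ y) (h5 : x ≠ y) (h6 : a ≠ x') (h7 : a ≠ y')
    (h8 : b ≠ x') (h9 : b ≠ y') (h10 : x' ≠ y') :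
    ∃ g : Γ, g • a = a ∧ g • b = b ∧ g • x = x' ∧ g • y = y' := by
  obtain ⟨g, hg⟩ := exists_smul_tuple (Γ := Γ) (k := 4) ![a, b, x, y] ![a, b, x', y']
    (injective_vec4 h0 h1 h2 h3 h4 h5) (injective_vec4 h0 h6 h7 h8 h9 h10)
  exact ⟨g, hg 0, hg 1, hg 2, hg 3⟩

end Trans

section Normal

variable {Γ α : Type*} [Group Γ] [MulAction Γ α]

/-- A subgroup `M` normalized by a subgroup `H` acting `2`-transitively on an invariant set
`Δ`, with `M ≤ H` moving some point of `Δ`, is transitive on `Δ`. -/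
theorem exists_smul_eq_of_two_trans (H M : Subgroup Γ) (Δ : Set α)
    (hΔ : ∀ h ∈ H, ∀ x ∈ Δ, h • x ∈ Δ)
    (h2 : ∀ x ∈ Δ, ∀ y ∈ Δ, ∀ x' ∈ Δ, ∀ y' ∈ Δ, x ≠ y → x' ≠ y' →
      ∃ h ∈ H, h • x = x' ∧ h • y = y')
    (hMH : M ≤ H) (hnorm : ∀ h ∈ H, ∀ m ∈ M, h * m * h⁻¹ ∈ M)
    (hmove : ∃ m ∈ M, ∃ u ∈ Δ, m • u ≠ u) :
    ∀ x ∈ Δ, ∀ y ∈ Δ, ∃ m ∈ M, m • x = y := by
  intro x hx y hy
  by_cases hxy : x = y
  · exact ⟨1, one_mem _, by rw [one_smul, hxy]⟩
  obtain ⟨m, hm, u, hu, hmu⟩ := hmove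
  obtain ⟨h, hh, hux, hvy⟩ := h2 u hu (m • u) (hΔ m (hMH hm) u hu) x hx y hy
    (fun h => hmu h.symm) hxy
  refine ⟨h * m * h⁻¹, hnorm h hh m hm, ?_⟩
  rw [← hux, mul_smul, mul_smul, inv_smul_smul, hvy]

/-- Orbit-stabilizer for a subgroup transitive on an invariant set. -/
theorem card_eq_of_transitive_on (M : Subgroup Γ) (Δ : Set α)
    (hinv : ∀ m ∈ M, ∀ x ∈ Δ, m • x ∈ Δ) (htr : ∀ x ∈ Δ, ∀ y ∈ Δ, ∃ m ∈ M, m • x = y)
    (δ : α) (hδ : δ ∈ Δ) :
    Nat.card M = Δ.ncard * Nat.card (M ⊓ stabilizer Γ δ : Subgroup Γ) := by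
  have h1 := (stabilizer M δ).index_mul_card
  rw [index_stabilizer] at h1
  have h2 : orbit M δ = Δ := by
    ext y
    rw [mem_orbit_iff]
    constructor
    · rintro ⟨m, rfl⟩
      exact hinv m.1 m.2 δ hδ
    · intro hy
      obtain ⟨m, hm, hmy⟩ := htr δ hδ y hy
      exact ⟨⟨m, hm⟩, hmy⟩
  have h3 : (stabilizer M δ).map M.subtype = M ⊓ stabilizer Γ δ := by
    ext g
    rw [Subgroup.mem_map, Subgroup.mem_inf, mem_stabilizer_iff]
    constructor
    · rintro ⟨m, hm, rfl⟩
      exact ⟨m.2, hm⟩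
    · rintro ⟨hg, hgδ⟩
      exact ⟨⟨g, hg⟩, hgδ, rfl⟩
  rw [← h1, h2, ← h3, Subgroup.card_map_of_injective M.subtype_injective]

end Normal

section Cycle

variable {Γ α : Type*} [Group Γ] [MulAction Γ α] [FaithfulSMul Γ α]

/-- An element commuting with `x`, where the points moved by `x` form a single cycle through
`b` and `x` has at most one fixed point, is a power of `x`. -/
theorem mem_zpowers_of_commute (x c : Γ) (b : α) (hcyc : ∀ y : α, x • y ≠ y → ∃ i : ℤ, x ^ i • b = y)
    (hb : x • b ≠ b) (hfix : ∀ y z : α, x • y = y → x • z = z → y = z) (hc : c * x = x * c) :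
    c ∈ Subgroup.zpowers x := by
  have h1 : x • (c • b) ≠ c • b := by
    rw [← mul_smul, ← hc, mul_smul]
    intro h
    exact hb (smul_left_cancel c h)
  obtain ⟨i, hi⟩ := hcyc _ h1
  have hcomm : ∀ j : ℤ, c * x ^ j = x ^ j * c := fun j => (Commute.zpow_right hc j)
  refine ⟨i, ?_⟩
  apply FaithfulSMul.eq_of_smul_eq_smul (α := α)
  intro y
  change x ^ i • y = c • y
  by_cases hy : x • y = y
  · have h2 : x • (c • y) = c • y := by rw [← mul_smul, ← hc, mul_smul, hy]
    rw [hfix _ _ h2 hy]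
    have : x ^ i ∈ stabilizer Γ y := zpow_mem (mem_stabilizer_iff.2 hy) i
    exact this
  · obtain ⟨j, rfl⟩ := hcyc y hy
    have e1 : c • x ^ j • b = x ^ j • c • b := by
      rw [← mul_smul, hcomm j, mul_smul]
    rw [e1, ← hi, ← mul_smul, ← mul_smul, ← zpow_add, ← zpow_add, add_comm]

end Cycle

section Normalizer

variable {Γ : Type*} [Group Γ] [Finite Γ]

/-- A self-centralizing subgroup of prime order `p` has normalizer of order `p * j` with
`j ∣ p - 1`. -/
theorem card_normalizer_eq (P : Subgroup Γ) {p : ℕ} (hp : p.Prime) (hcard : Nat.card P = p)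
    (hcent : Subgroup.centralizer (P : Set Γ) = P) :
    ∃ j, j ∣ p - 1 ∧ Nat.card (Subgroup.normalizer (P : Set Γ)) = p * j := by
  have : Fact p.Prime := ⟨hp⟩
  have hcyc : IsCyclic P := isCyclic_of_prime_card hcard
  have h1 := (P.normalizerMonoidHom.ker).index_mul_card
  rw [Subgroup.index_ker] at h1
  have h2 : Nat.card P.normalizerMonoidHom.ker = p := by
    rw [Subgroup.normalizerMonoidHom_ker, hcent, ← hcard]
    exact Nat.card_congr (Subgroup.subgroupOfEquivOfLe Subgroup.le_normalizer).toEquiv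
  refine ⟨Nat.card P.normalizerMonoidHom.range, ?_, ?_⟩
  · have := Subgroup.card_subgroup_dvd_card P.normalizerMonoidHom.range
    rwa [IsCyclic.card_mulAut, hcard, Nat.totient_prime hp] at this
  · rw [← h1, h2, mul_comm]

/-- Frattini argument in numerical form: if a normal subgroup `N` contains the Sylow
`p`-subgroup `P`, then `[Γ : N] * |P|` divides `|N_Γ(P)|`. -/
theorem index_mul_card_dvd_card_normalizer {p : ℕ} [Fact p.Prime] (P : Sylow p Γ)
    (N : Subgroup Γ) [N.Normal] (hPN : (P : Subgroup Γ) ≤ N) :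
    N.index * Nat.card P ∣ Nat.card (Subgroup.normalizer ((P : Subgroup Γ) : Set Γ)) := by
  have h0 : Subgroup.normalizer ((P : Subgroup Γ) : Set Γ) ⊔ N = ⊤ :=
    Sylow.normalizer_sup_eq_top' P hPN
  have h1 : N.index = N.relIndex (Subgroup.normalizer ((P : Subgroup Γ) : Set Γ)) := by
    rw [← Subgroup.relIndex_sup_right, h0, Subgroup.relIndex_top_right]
  have h2 : N.relIndex (Subgroup.normalizer ((P : Subgroup Γ) : Set Γ)) ∣
      (P : Subgroup Γ).relIndex (Subgroup.normalizer ((P : Subgroup Γ) : Set Γ)) :=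
    Subgroup.relIndex_dvd_of_le_left _ hPN
  have h3 : (P : Subgroup Γ).relIndex (Subgroup.normalizer ((P : Subgroup Γ) : Set Γ)) *
      Nat.card P = Nat.card (Subgroup.normalizer ((P : Subgroup Γ) : Set Γ)) := by
    have := ((P : Subgroup Γ).subgroupOf
      (Subgroup.normalizer ((P : Subgroup Γ) : Set Γ))).index_mul_card
    rw [← this, Subgroup.relIndex]
    congr 1
    exact (Nat.card_congr (Subgroup.subgroupOfEquivOfLe Subgroup.le_normalizer).toEquiv).symm
  rw [← h3, h1]
  exact Nat.mul_dvd_mul_right h2 _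

end Normalizer

end Cfsg.Agent.Lib.Helper59_SharpTrans
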