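import Mathlib
import Cfsg.Agent.Lib.Helper12_Sharp2
import Cfsg.Agent.Lib.Helper59_SharpTrans
import Cfsg.Agent.Lib.Helper21_BSW

/-!
Triply transitive groups of odd degree in which only the identity fixes three points
(helper21): the one-point stabilizer has a regular normal elementary abelian 2-subgroup,
which is a Sylow 2-subgroup of the whole group, and centralizers of involutions are
elementary abelian.
-/

set_option autoImplicit false

namespace Cfsg.Agent.Lib.Helper21_Sharp3

open MulAction
open Cfsg.Agent.Lib.Helper12_Sharp2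
open Cfsg.Agent.Lib.Helper59_SharpTrans
open Cfsg.Agent.Lib.Helper21_BSW

/-- Only the identity fixes three distinct points. -/
def Sharp3 (Γ α : Type*) [Group Γ] [MulAction Γ α] : Prop :=
  ∀ g : Γ, ∀ a b c : α, a ≠ b → a ≠ c → b ≠ c → g • a = a → g • b = b → g • c = c → g = 1

variable {Γ α : Type*} [Group Γ] [MulAction Γ α]

theorem fixedPoints_zpowers (t : Γ) :
    fixedPoints (Subgroup.zpowers t) α = {x | t • x = x} := by
  ext x
  constructor
  · intro hx
    exact hx ⟨t, Subgroup.mem_zpowers t⟩
  · intro hx g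
    have hle : Subgroup.zpowers t ≤ stabilizer Γ x := by
      rw [Subgroup.zpowers_le]
      exact hx
    exact hle g.2

/-- An involution has exactly one fixed point. -/
theorem existsUnique_fixed [Finite α] (hs : Sharp3 Γ α) (hodd : Odd (Nat.card α)) {t : Γ}
    (ht : orderOf t = 2) : ∃! x : α, t • x = x := by
  have : Fact (Nat.Prime 2) := ⟨Nat.prime_two⟩
  have hP : IsPGroup 2 (Subgroup.zpowers t) :=
    IsPGroup.of_card (n := 1) (by rw [Nat.card_zpowers, ht, pow_one])
  have hmod := hP.card_modEq_card_fixedPoints α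
  rw [fixedPoints_zpowers] at hmod
  set S : Set α := {x | t • x = x} with hS
  have hSodd : Odd S.ncard := by
    rw [← Nat.card_coe_set_eq]
    rcases hodd with ⟨k, hk⟩
    have h1 : Nat.card α % 2 = 1 := by omega
    have h2 : Nat.card S % 2 = 1 := by
      have := hmod
      unfold Nat.ModEq at this
      omega
    exact Nat.odd_iff.mpr h2
  have ht1 : t ≠ 1 := by
    intro h
    rw [h, orderOf_one] at ht
    omega
  have hle : S.ncard ≤ 2 := by
    by_contra hgt
    have h3 : 2 < S.ncard := by omega
    obtain ⟨a, b, c, ha, hb, hc, hab, hac, hbc⟩ := (Set.two_lt_ncard_iff).mp h3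
    exact ht1 (hs t a b c hab hac hbc ha hb hc)
  have h1 : S.ncard = 1 := by
    rcases hSodd with ⟨k, hk⟩
    omega
  obtain ⟨x, hx⟩ := Set.ncard_eq_one.mp h1
  refine ⟨x, ?_, ?_⟩
  · have : x ∈ S := by rw [hx]; exact Set.mem_singleton x
    exact this
  · intro y hy
    have : y ∈ S := hy
    rw [hx] at this
    exact this

/-- The stabilizer of a point acts sharply on pairs of the remaining points. -/
theorem stabilizer_sharp (hs : Sharp3 Γ α) (x : α) :
    ∀ e : Fin 2 ↪ SubMulAction.ofStabilizer Γ x, stabilizer (stabilizer Γ x) e = ⊥ := by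
  intro e
  rw [eq_bot_iff]
  intro g hg
  rw [mem_stabilizer_iff] at hg
  have h0 : (g : Γ) • ((e 0 : SubMulAction.ofStabilizer Γ x) : α) = e 0 := by
    have := congrArg (fun f : Fin 2 ↪ SubMulAction.ofStabilizer Γ x =>
      ((f 0 : SubMulAction.ofStabilizer Γ x) : α)) hg
    simp at this
    exact this
  have h1 : (g : Γ) • ((e 1 : SubMulAction.ofStabilizer Γ x) : α) = e 1 := by
    have := congrArg (fun f : Fin 2 ↪ SubMulAction.ofStabilizer Γ x =>
      ((f 1 : SubMulAction.ofStabilizer Γ x) : α)) hg
    simp at this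
    exact this
  have hne : ((e 0 : SubMulAction.ofStabilizer Γ x) : α) ≠ e 1 := by
    intro h
    have := e.injective (Subtype.ext h)
    simp at this
  have hx0 : x ≠ ((e 0 : SubMulAction.ofStabilizer Γ x) : α) :=
    (SubMulAction.neq_of_mem_ofStabilizer Γ x).symm
  have hx1 : x ≠ ((e 1 : SubMulAction.ofStabilizer Γ x) : α) :=
    (SubMulAction.neq_of_mem_ofStabilizer Γ x).symm
  have := hs (g : Γ) x _ _ hx0 hx1 hne g.2 h0 h1
  rw [Subgroup.mem_bot]
  exact Subtype.ext this

theorem isPretransitive_of_three (h3 : IsMultiplyPretransitive Γ α 3) [Finite α]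
    (h : 3 ≤ Nat.card α) : IsPretransitive Γ α := by
  have : IsMultiplyPretransitive Γ α 1 := isMultiplyPretransitive_of_le (n := 3) (by omega) h
  exact is_one_pretransitive_iff.mp this

/-- The regular normal elementary abelian 2-subgroup of a point stabilizer. -/
theorem exists_regular [Fintype α] [DecidableEq α] [Finite Γ]
    (h3 : IsMultiplyPretransitive Γ α 3) (hs : Sharp3 Γ α) (hodd : Odd (Fintype.card α))
    (h5 : 5 ≤ Fintype.card α) (x : α) :
    ∃ (A : Subgroup Γ) (j : ℕ), 2 ≤ j ∧ Fintype.card α = 2 ^ j + 1 ∧ Nat.card A = 2 ^ j ∧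
      (∀ g, g ∈ A ↔ g • x = x ∧ (g = 1 ∨ ∀ y, y ≠ x → g • y ≠ y)) ∧
      (∀ a ∈ A, ∀ b ∈ A, a * b = b * a) ∧ (∀ a ∈ A, a ^ 2 = 1) := by
  classical
  have hcard3 : 3 ≤ Nat.card α := by rw [Nat.card_eq_fintype_card]; omega
  have hpre : IsPretransitive Γ α := isPretransitive_of_three h3 hcard3
  have h2 : IsMultiplyPretransitive (stabilizer Γ x) (SubMulAction.ofStabilizer Γ x) 2 :=
    SubMulAction.ofStabilizer.isMultiplyPretransitive.mp h3
  have hfin : Fintype (SubMulAction.ofStabilizer Γ x) := Fintype.ofFinite _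
  have hΩ : Fintype.card (SubMulAction.ofStabilizer Γ x) + 1 = Fintype.card α := by
    rw [← Nat.card_eq_fintype_card, ← Nat.card_eq_fintype_card]
    exact SubMulAction.nat_card_ofStabilizer_add_one_eq Γ x
  obtain ⟨N, p, j, hp, hj, hcard, hmem, -, hcomm, hexp, hN⟩ :=
    exists_regular_normal h2 (stabilizer_sharp hs x) (by omega)
  have hp2 : p = 2 := by
    have heven : Even (p ^ j) := by
      rw [← hcard]
      rcases hodd with ⟨k, hk⟩
      exact ⟨k, by omega⟩
    have := (Nat.even_pow.mp heven).1
    exact (Nat.Prime.even_iff hp).mp this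
  subst hp2
  have hj2 : 2 ≤ j := by
    by_contra hlt
    have hj1 : j = 1 := by omega
    rw [hj1] at hcard
    omega
  refine ⟨N.map (stabilizer Γ x).subtype, j, hj2, by omega, ?_, ?_, ?_, ?_⟩
  · rw [Subgroup.card_map_of_injective (Subgroup.subtype_injective _), hN, hcard]
  · intro g
    rw [Subgroup.mem_map]
    constructor
    · rintro ⟨n, hn, rfl⟩
      refine ⟨n.2, ?_⟩
      rcases (hmem n).mp hn with h1 | hf
      · left
        rw [h1]
        rfl
      · right
        intro y hy hfix
        exact hf ⟨y, (SubMulAction.mem_ofStabilizer_iff Γ x).mpr hy⟩ (Subtype.ext hfix)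
    · rintro ⟨hgx, hg⟩
      refine ⟨⟨g, hgx⟩, ?_, rfl⟩
      rw [hmem]
      rcases hg with h1 | hf
      · left
        exact Subtype.ext h1
      · right
        intro a ha
        exact hf a (SubMulAction.neq_of_mem_ofStabilizer Γ x) (congrArg Subtype.val ha)
  · intro a ha b hb
    rw [Subgroup.mem_map] at ha hb
    obtain ⟨a', ha', rfl⟩ := ha
    obtain ⟨b', hb', rfl⟩ := hb
    have := hcomm a' ha' b' hb'
    exact congrArg Subtype.val this
  · intro a ha
    rw [Subgroup.mem_map] at ha
    obtain ⟨a', ha', rfl⟩ := ha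
    have := hexp a' ha'
    exact congrArg Subtype.val this

/-- The order of a triply transitive group in which only the identity fixes three points. -/
theorem card_group [Fintype α] (h3 : IsMultiplyPretransitive Γ α 3) (hs : Sharp3 Γ α)
    (h : 3 ≤ Fintype.card α) :
    Nat.card Γ = Fintype.card α * (Fintype.card α - 1) * (Fintype.card α - 2) := by
  have hsharp : ∀ e : Fin 3 ↪ α, stabilizer Γ e = ⊥ := by
    intro e
    rw [eq_bot_iff]
    intro g hg
    rw [mem_stabilizer_iff] at hg
    have hfix : ∀ i, g • e i = e i := by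
      intro i
      have := congrArg (fun f : Fin 3 ↪ α => f i) hg
      simpa using this
    have hne : ∀ i j : Fin 3, i ≠ j → e i ≠ e j := fun i j hij h => hij (e.injective h)
    rw [Subgroup.mem_bot]
    exact hs g (e 0) (e 1) (e 2) (hne 0 1 (by decide)) (hne 0 2 (by decide))
      (hne 1 2 (by decide)) (hfix 0) (hfix 1) (hfix 2)
  rw [card_of_sharp (Γ := Γ) (α := α) (k := 3) h hsharp]
  simp [Nat.descFactorial]
  ring

/-- The main structural statement: a Sylow 2-subgroup that is elementary abelian, non-cyclic,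
non-normal, of order `card α - 1`, and all involution centralizers are elementary abelian. -/
theorem exists_sylow [Fintype α] [DecidableEq α] [Finite Γ]
    (h3 : IsMultiplyPretransitive Γ α 3) (hs : Sharp3 Γ α) (hodd : Odd (Fintype.card α))
    (h5 : 5 ≤ Fintype.card α) :
    ∃ (T : Sylow 2 Γ) (j : ℕ), 2 ≤ j ∧ Fintype.card α = 2 ^ j + 1 ∧
      Nat.card (T : Subgroup Γ) = 2 ^ j ∧ ¬ IsCyclic (T : Subgroup Γ) ∧
      ¬ (T : Subgroup Γ).Normal ∧ CIT Γ := by
  classical
  have : Fact (Nat.Prime 2) := ⟨Nat.prime_two⟩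
  have hcard3 : 3 ≤ Nat.card α := by rw [Nat.card_eq_fintype_card]; omega
  have hpre : IsPretransitive Γ α := isPretransitive_of_three h3 hcard3
  have hne : Nonempty α := by rw [← Fintype.card_pos_iff]; omega
  obtain ⟨x⟩ := hne
  obtain ⟨A, j, hj, hn, hA, hmem, hcomm, hexp⟩ := exists_regular h3 hs hodd h5 x
  have hP : IsPGroup 2 A := IsPGroup.of_card hA
  have h4 : 4 ≤ 2 ^ j := by
    calc 4 = 2 ^ 2 := by norm_num
      _ ≤ 2 ^ j := Nat.pow_le_pow_right (by norm_num) hj
  have hindex : ¬ 2 ∣ A.index := by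
    have h1 := A.index_mul_card
    rw [card_group h3 hs (by omega), hA, hn] at h1
    have h2 : A.index = (2 ^ j + 1) * (2 ^ j - 1) := by
      have hpos : 0 < 2 ^ j := by positivity
      have e1 : 2 ^ j + 1 - 1 = 2 ^ j := by omega
      have e2 : 2 ^ j + 1 - 2 = 2 ^ j - 1 := by omega
      rw [e1, e2] at h1
      have : A.index * 2 ^ j = ((2 ^ j + 1) * (2 ^ j - 1)) * 2 ^ j := by rw [h1]; ring
      exact Nat.eq_of_mul_eq_mul_right hpos this
    rw [h2]
    have ho1 : Odd (2 ^ j + 1) := by
      have : Even (2 ^ j) := (Nat.even_pow' (by omega)).mpr even_two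
      exact this.add_one
    have ho2 : Odd (2 ^ j - 1) := by
      have : Even (2 ^ j) := (Nat.even_pow' (by omega)).mpr even_two
      exact Nat.Even.sub_odd (by omega) this odd_one
    have := ho1.mul ho2
    rw [← Nat.not_even_iff_odd, even_iff_two_dvd] at this
    exact this
  refine ⟨hP.toSylow hindex, j, hj, hn, ?_, ?_, ?_, ?_⟩
  · rw [IsPGroup.toSylow_coe]; exact hA
  · rw [IsPGroup.toSylow_coe]
    intro hcyc
    obtain ⟨g, hg⟩ := IsCyclic.exists_ofOrder_eq_natCard (α := A)
    rw [hA] at hg
    have h2 : g ^ 2 = 1 := Subtype.ext (hexp g g.2)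
    have := orderOf_le_of_pow_eq_one (by norm_num) h2
    omega
  · rw [IsPGroup.toSylow_coe]
    intro hnorm
    -- a nontrivial element of A
    have hA1 : 1 < Nat.card A := by omega
    have hnt : Nontrivial A := Finite.one_lt_card_iff_nontrivial.mp hA1
    obtain ⟨a, ha1⟩ := exists_ne (1 : A)
    have ha1' : (a : Γ) ≠ 1 := fun h => ha1 (Subtype.ext h)
    -- a point different from x
    obtain ⟨y, hy⟩ : ∃ y : α, y ≠ x := by
      by_contra hcon
      push Not at hcon
      have : Fintype.card α ≤ 1 := Fintype.card_le_one_iff.mpr fun a b => by rw [hcon a, hcon b]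
      omega
    obtain ⟨g, hg⟩ := exists_smul_eq Γ x y
    have hconj := hnorm.conj_mem (a : Γ) a.2 g⁻¹
    rw [inv_inv] at hconj
    have hfix := ((hmem _).mp hconj).1
    have hafix : (a : Γ) • y = y := by
      rw [mul_smul, mul_smul, hg, inv_smul_eq_iff, hg] at hfix
      exact hfix
    rcases ((hmem _).mp a.2).2 with h | h
    · exact ha1' h
    · exact h y hy hafix
  · -- centralizers of involutions
    intro t ht
    obtain ⟨z, hz, hzuniq⟩ := existsUnique_fixed hs (by rwa [Nat.card_eq_fintype_card]) ht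
    obtain ⟨B, j', -, -, -, hmemB, hcommB, hexpB⟩ := exists_regular h3 hs hodd h5 z
    have hle : Subgroup.centralizer ({t} : Set Γ) ≤ B := by
      intro c hc
      rw [Subgroup.mem_centralizer_iff] at hc
      have hct : t * c = c * t := hc t rfl
      have hcz : c • z = z := by
        apply hzuniq
        rw [← mul_smul, hct, mul_smul, hz]
      rw [hmemB]
      refine ⟨hcz, ?_⟩
      by_contra hcon
      push Not at hcon
      obtain ⟨hc1, y, hyz, hcy⟩ := hcon
      have hcty : c • (t • y) = t • y := by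
        rw [← mul_smul, ← hct, mul_smul, hcy]
      have hty : t • y = y := by
        by_contra hne
        have h1 : z ≠ t • y := by
          intro h
          apply hyz
          have : t • z = t • y := by rw [hz]; exact h
          exact (smul_left_cancel t this).symm
        exact hc1 (hs c z y (t • y) hyz.symm h1 (Ne.symm hne) hcz hcy hcty)
      exact hyz (hzuniq y hty)
    refine ⟨⟨⟨fun a b => Subtype.ext (hcommB a (hle a.2) b (hle b.2))⟩⟩, ?_⟩
    intro c hc
    exact hexpB c (hle hc)

end Cfsg.Agent.Lib.Helper21_Sharp3
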