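import Mathlib
import Cfsg.Agent.S4706
import Cfsg.Agent.Lib.Helper16_B43Defs

/-!
# S0996 package E2d (architect helper16): the case `e = 2` of Brauer's theorem, endgame (helper63)

`endgame_e2`: in the setting with `e = 2` and a subgroup of index `p`, the group acts faithfully on `p`
points with Sylow normalizer of order `2 p`; landed `S4706.result` gives `G ≃* SL₂(F)`, `|F| = 2 ^ a = p - 1`,
and `SL₂(F) = PSL₂(F)` in characteristic 2.
-/

set_option autoImplicit false
set_option linter.unusedSectionVars false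

namespace Cfsg.Agent.Lib.Helper63_B43_E2d

open Cfsg Cfsg.Agent.Lib.Helper16_B43Defs

/-- In characteristic 2 the centre of `SL₂(F)` is trivial, so `SL₂(F) ≃* PSL₂(F)`. -/
theorem nonempty_sl_equiv_psl_of_two_eq_zero (F : Type*) [Field F] (h2 : (2 : F) = 0) :
    Nonempty (Matrix.SpecialLinearGroup (Fin 2) F ≃*
      Matrix.ProjectiveSpecialLinearGroup (Fin 2) F) := by
  have hc : Subgroup.center (Matrix.SpecialLinearGroup (Fin 2) F) = ⊥ := by
    rw [eq_bot_iff]
    intro A hA
    rw [Matrix.SpecialLinearGroup.mem_center_iff] at hA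
    obtain ⟨r, hr, hrA⟩ := hA
    rw [Fintype.card_fin] at hr
    have h1 : (r - 1) ^ 2 = 0 := by
      have : (r - 1) ^ 2 = r ^ 2 + 1 - 2 * r := by ring
      rw [this, hr, h2, zero_mul, sub_zero]
      have : (1 : F) + 1 = 2 := by norm_num
      rw [this, h2]
    have h3 : r = 1 := by
      have := pow_eq_zero_iff (two_ne_zero) |>.1 h1
      exact sub_eq_zero.1 this
    rw [Subgroup.mem_bot]
    apply Subtype.ext
    rw [← hrA, h3, map_one]
    rfl
  exact ⟨(QuotientGroup.quotientBot (G := Matrix.SpecialLinearGroup (Fin 2) F)).symm.trans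
    (QuotientGroup.quotientMulEquivOfEq hc.symm)⟩

theorem endgame_e2 {G : Type*} [Group G] [Finite G] {p n : ℕ} [Fact p.Prime]
    {P : Sylow p G} (S : Setting p 2 n P) (H : Subgroup G) (hH : H.index = p) :
    ∃ (a : ℕ) (F : Type) (_ : Field F) (_ : Fintype F), p = 2 ^ a + 1 ∧ Fintype.card F = 2 ^ a ∧
      Nonempty (G ≃* Matrix.ProjectiveSpecialLinearGroup (Fin 2) F) := by
  classical
  have hp : p.Prime := Fact.out
  have := Fintype.ofFinite (G ⧸ H)
  -- orders
  have hcardS : Nat.card (Sylow p G) = (NP P).index := Sylow.card_eq_index_normalizer P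
  have hcardG : Nat.card G = (1 + n * p) * (p * 2) := by
    rw [← Subgroup.index_mul_card (NP P), ← hcardS, S.hN, S.hn]
  have hidxP : (P : Subgroup G).index = (1 + n * p) * 2 := by
    have h1 := Subgroup.index_mul_card (P : Subgroup G)
    rw [S.hP, hcardG] at h1
    have hp0 : 0 < p := hp.pos
    apply Nat.eq_of_mul_eq_mul_right hp0
    rw [h1]; ring
  have hndvd : ¬ p ∣ (1 + n * p) * 2 := by
    rw [← hidxP]
    exact Sylow.not_dvd_index P
  have hp2 : 2 < p := by
    rcases Nat.lt_or_ge 2 p with h | h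
    · exact h
    · exfalso
      have : p = 2 := le_antisymm h hp.two_le
      apply hndvd
      rw [this]
      exact Dvd.intro_left _ rfl
  have hcardH : Nat.card H = (1 + n * p) * 2 := by
    have h1 := Subgroup.index_mul_card H
    rw [hH, hcardG] at h1
    have hp0 : 0 < p := hp.pos
    apply Nat.eq_of_mul_eq_mul_left hp0
    rw [h1]; ring
  -- the action on the cosets of `H`
  obtain ⟨φ, hφ⟩ : ∃ φ : G →* Equiv.Perm (G ⧸ H), φ = MulAction.toPermHom G (G ⧸ H) := ⟨_, rfl⟩
  have hkerle : φ.ker ≤ H := by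
    rw [hφ, ← Subgroup.normalCore_eq_ker]
    exact Subgroup.normalCore_le H
  have hker : φ.ker = ⊥ := by
    apply S.hcore φ.ker (MonoidHom.normal_ker φ)
    intro hdvd
    apply hndvd
    rw [← hcardH]
    exact hdvd.trans (Subgroup.card_dvd_of_le hkerle)
  have hinj : Function.Injective φ := (MonoidHom.ker_eq_bot_iff φ).1 hker
  obtain ⟨ψ⟩ : Nonempty (G ≃* φ.range) := ⟨MonoidHom.ofInjective hinj⟩
  have hα : Fintype.card (G ⧸ H) = p := by
    rw [← Nat.card_eq_fintype_card, ← Subgroup.index_eq_card, hH]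
  -- transport the Sylow subgroup
  have hrange : (P : Subgroup G) ≤ (ψ.symm : φ.range →* G).range := by
    intro x _
    exact ⟨ψ x, ψ.symm_apply_apply x⟩
  obtain ⟨P', hP'⟩ : ∃ P' : Sylow p φ.range,
      P' = P.comapOfInjective (ψ.symm : φ.range →* G) ψ.symm.injective hrange := ⟨_, rfl⟩
  have hP'coe : (P' : Subgroup φ.range) = (P : Subgroup G).comap (ψ.symm : φ.range →* G) := by
    rw [hP']
    exact Sylow.coe_comapOfInjective P _ _ _
  have hnorm : Subgroup.normalizer ((P' : Subgroup φ.range) : Set φ.range) =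
      (NP P).comap (ψ.symm : φ.range →* G) := by
    rw [hP'coe]
    exact (Subgroup.comap_normalizer_eq_of_surjective (P : Subgroup G)
      (f := (ψ.symm : φ.range →* G)) ψ.symm.surjective).symm
  have hN' : Nat.card (Subgroup.normalizer ((P' : Subgroup φ.range) : Set φ.range)) = 2 * p := by
    rw [hnorm, Subgroup.comap_equiv_eq_map_symm, Subgroup.card_map_of_injective, S.hN, mul_comm]
    exact ψ.symm.symm.injective
  rcases Cfsg.Agent.S4706.result hp2 hα φ.range P' hN' with hnormal | ⟨a, F, iF, iF', h1, h2, ⟨ι⟩⟩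
  · exfalso
    have h3 := Subgroup.normalizer_eq_top_iff.2 hnormal
    rw [h3, Subgroup.card_top] at hN'
    have h4 : Nat.card φ.range = Nat.card G := (Nat.card_congr ψ.toEquiv).symm
    rw [h4, hcardG] at hN'
    have hn1 := S.hn1
    have hp0 : 0 < p := hp.pos
    have h5 : (1 + n * p) * (p * 2) = 1 * (p * 2) := by rw [hN']; ring
    have h6 := Nat.eq_of_mul_eq_mul_right (by positivity : 0 < p * 2) h5
    have : 1 ≤ n * p := Nat.mul_pos hn1 hp0
    omega
  · refine ⟨a, F, iF, iF', h1, h2, ?_⟩
    have h2F : (2 : F) = 0 := by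
      have h3 := Nat.cast_card_eq_zero F
      rw [h2, Nat.cast_pow] at h3
      have := pow_eq_zero_iff (n := a) (by
        intro ha
        rw [ha, pow_zero] at h1
        omega) |>.1 h3
      exact_mod_cast this
    obtain ⟨κ⟩ := nonempty_sl_equiv_psl_of_two_eq_zero F h2F
    exact ⟨(ψ.trans ι).trans κ⟩

end Cfsg.Agent.Lib.Helper63_B43_E2d
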