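import Mathlib

set_option autoImplicit false

namespace Cfsg.Agent.Lib.Helper41_Dicyclic

open Finset

/-- Sum of centralizer sizes equals number of classes times group order. -/
theorem sum_card_commute {G : Type*} [Group G] [Fintype G] [DecidableEq G] :
    ∑ g : G, (Finset.univ.filter fun h : G => g * h = h * g).card =
      Nat.card (ConjClasses G) * Fintype.card G := by
  classical
  rw [← Nat.card_eq_fintype_card (α := G), ← card_comm_eq_card_conjClasses_mul_card,
    Nat.card_congr (Equiv.subtypeProdEquivSigmaSubtype (fun a b : G => Commute a b)),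
    Nat.card_sigma]
  apply Finset.sum_congr rfl
  intro g _
  rw [Nat.card_eq_fintype_card, Fintype.card_subtype]
  congr 1
  ext h
  simp only [Finset.mem_filter, Finset.mem_univ, true_and]
  exact ⟨fun hc => hc, fun hc => hc⟩

/-- The number of conjugacy classes of a "dicyclic-like" group: an abelian subgroup `T` of index 2,
every element outside `T` squaring to the same element `z ≠ 1` of `T`, and `1, z` the only elements of
`T` with trivial square. -/
theorem two_mul_card_conjClasses {G : Type*} [Group G] [Finite G] (T : Subgroup G)
    (hT : ∀ a ∈ T, ∀ b ∈ T, a * b = b * a) (hidx : T.index = 2) (z : G) (hzT : z ∈ T) (hz1 : z ≠ 1)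
    (ha : ∀ x : G, x ∉ T → x * x = z) (hb : ∀ t ∈ T, t * t = 1 → t = 1 ∨ t = z) :
    2 * Nat.card (ConjClasses G) = Nat.card T + 6 := by
  classical
  have := Fintype.ofFinite G
  -- basic consequences
  have hmul_mem : ∀ x y : G, x ∉ T → y ∉ T → x * y ∈ T := by
    intro x y hx hy
    exact (Subgroup.mul_mem_iff_of_index_two hidx).2 (iff_of_false hx hy)
  have hmul_nmem : ∀ x t : G, x ∉ T → t ∈ T → x * t ∉ T := by
    intro x t hx ht h
    exact hx ((Subgroup.mul_mem_cancel_right T ht).1 h)
  obtain ⟨x₀, hx₀⟩ : ∃ x₀ : G, x₀ ∉ T := by
    by_contra h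
    push Not at h
    have : T = ⊤ := by rw [eq_top_iff]; intro g _; exact h g
    rw [this, Subgroup.index_top] at hidx
    omega
  have hzz : z * z = 1 := by
    have h1 := ha x₀ hx₀
    have h3 : x₀ * z ∉ T := hmul_nmem x₀ z hx₀ hzT
    have h4 := ha (x₀ * z) h3
    -- (x₀ z)(x₀ z) = z and z = x₀ x₀ commutes with x₀
    have hcomm : x₀ * z = z * x₀ := by rw [← h1, mul_assoc]
    have : x₀ * z * (x₀ * z) = z * z * z := by
      calc x₀ * z * (x₀ * z) = x₀ * (z * x₀) * z := by group
        _ = x₀ * (x₀ * z) * z := by rw [hcomm]
        _ = (x₀ * x₀) * z * z := by group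
        _ = z * z * z := by rw [h1]
    rw [this] at h4
    have : z * z * z = 1 * z := by rw [h4, one_mul]
    exact mul_right_cancel this
  -- inversion action
  have hinv : ∀ x t : G, x ∉ T → t ∈ T → x * t = t⁻¹ * x := by
    intro x t hx ht
    have h1 := ha x hx
    have h2 := ha (x * t) (hmul_nmem x t hx ht)
    have : x * t * (x * t) = x * x := by rw [h1, h2]
    have h3 : t * x * t = x := by
      have : x * (t * x * t) = x * x := by rw [← this]; group
      exact mul_left_cancel this
    calc x * t = t⁻¹ * (t * x * t) := by group
      _ = t⁻¹ * x := by rw [h3]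
  -- z is central
  have hzc : ∀ g : G, z * g = g * z := by
    intro g
    by_cases hg : g ∈ T
    · exact hT z hzT g hg
    · have := hinv g z hg hzT
      have hzinv : z⁻¹ = z := inv_eq_of_mul_eq_one_left hzz
      rw [hzinv] at this
      exact this.symm
  -- centralizer sizes
  set n := Fintype.card T with hn
  have hG : Fintype.card G = 2 * n := by
    have := Subgroup.index_mul_card T
    rw [hidx, Nat.card_eq_fintype_card, Nat.card_eq_fintype_card] at this
    exact this.symm
  have hcard1 : ∀ g : G, g ∈ T → g * g ≠ 1 →
      (Finset.univ.filter fun h : G => g * h = h * g).card = n := by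
    intro g hg hgg
    have : (Finset.univ.filter fun h : G => g * h = h * g) = Finset.univ.filter fun h : G => h ∈ T := by
      ext h
      simp only [Finset.mem_filter, Finset.mem_univ, true_and]
      constructor
      · intro hc
        by_contra hh
        have := hinv h g hh hg
        have h2 : g * h = g⁻¹ * h := by rw [hc, this]
        have h3 : g = g⁻¹ := mul_right_cancel h2
        apply hgg
        calc g * g = g * g⁻¹ := by rw [← h3]
          _ = 1 := mul_inv_cancel g
      · intro hh
        exact hT g hg h hh
    rw [this, hn, Fintype.card_subtype]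
  have hcard2 : ∀ g : G, g * g = 1 → g ∈ T →
      (Finset.univ.filter fun h : G => g * h = h * g).card = 2 * n := by
    intro g hgg hg
    have : (Finset.univ.filter fun h : G => g * h = h * g) = Finset.univ := by
      ext h
      simp only [Finset.mem_filter, Finset.mem_univ, true_and, iff_true]
      rcases hb g hg hgg with rfl | rfl
      · simp
      · exact hzc h
    rw [this, Finset.card_univ, hG]
  have hcard3 : ∀ g : G, g ∉ T →
      (Finset.univ.filter fun h : G => g * h = h * g).card = 4 := by
    intro g hg
    have hgz : g * z ∉ T := hmul_nmem g z hg hzT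
    have : (Finset.univ.filter fun h : G => g * h = h * g) = {1, z, g, g * z} := by
      ext h
      simp only [Finset.mem_filter, Finset.mem_univ, true_and, Finset.mem_insert,
        Finset.mem_singleton]
      constructor
      · intro hc
        by_cases hh : h ∈ T
        · have h1 := hinv g h hg hh
          have h2 : h * g = h⁻¹ * g := by rw [← hc, h1]
          have h3 : h = h⁻¹ := mul_right_cancel h2
          have h4 : h * h = 1 := by
            calc h * h = h * h⁻¹ := by rw [← h3]
              _ = 1 := mul_inv_cancel h
          rcases hb h hh h4 with h5 | h5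
          · exact Or.inl h5
          · exact Or.inr (Or.inl h5)
        · -- h = g t with t ∈ T commuting with g
          set t := g⁻¹ * h with ht
          have htT : t ∈ T := hmul_mem g⁻¹ h (fun h' => hg (by simpa using T.inv_mem h')) hh
          have hgt : h = g * t := by rw [ht]; group
          have hct : g * t = t * g := by
            have : g * (g * t) = (g * t) * g := by rw [← hgt]; exact hc
            have h6 : g * (g * t) = g * (t * g) := by rw [this]; group
            exact mul_left_cancel h6
          have h1 := hinv g t hg htT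
          have h2 : t * g = t⁻¹ * g := by rw [← hct, h1]
          have h3 : t = t⁻¹ := mul_right_cancel h2
          have h4 : t * t = 1 := by
            calc t * t = t * t⁻¹ := by rw [← h3]
              _ = 1 := mul_inv_cancel t
          rcases hb t htT h4 with h5 | h5
          · right; right; left
            rw [hgt, h5, mul_one]
          · right; right; right
            rw [hgt, h5]
      · rintro (rfl | rfl | rfl | rfl)
        · simp
        · exact (hzc g).symm
        · rfl
        · calc g * (g * z) = g * (z * g) := by rw [hzc g]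
            _ = g * z * g := by group
    rw [this]
    have h1z : (1 : G) ≠ z := Ne.symm hz1
    have h1g : (1 : G) ≠ g := fun h => hg (h ▸ T.one_mem)
    have h1gz : (1 : G) ≠ g * z := fun h => hgz (h ▸ T.one_mem)
    have hzg : z ≠ g := fun h => hg (h ▸ hzT)
    have hzgz : z ≠ g * z := fun h => hgz (h ▸ hzT)
    have hggz : g ≠ g * z := by
      intro h
      apply hz1
      have : g * 1 = g * z := by rw [mul_one]; exact h
      exact (mul_left_cancel this).symm
    rw [Finset.card_insert_of_notMem, Finset.card_insert_of_notMem, Finset.card_insert_of_notMem,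
      Finset.card_singleton]
    · simp [hggz]
    · simp [hzg, hzgz]
    · simp [h1z, h1g, h1gz]
  -- total count
  have hsum := sum_card_commute (G := G)
  rw [hG] at hsum
  have hsplit : ∑ g : G, (Finset.univ.filter fun h : G => g * h = h * g).card =
      ∑ g ∈ Finset.univ.filter (fun g : G => g ∈ T), (Finset.univ.filter fun h : G => g * h = h * g).card +
      ∑ g ∈ Finset.univ.filter (fun g : G => g ∉ T), (Finset.univ.filter fun h : G => g * h = h * g).card :=
    (Finset.sum_filter_add_sum_filter_not _ _ _).symm
  have hcT : (Finset.univ.filter (fun g : G => g ∈ T)).card = n := by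
    rw [hn, Fintype.card_subtype]
  have hcNT : (Finset.univ.filter (fun g : G => g ∉ T)).card = n := by
    have := Finset.card_filter_add_card_filter_not (s := (Finset.univ : Finset G)) (fun g : G => g ∈ T)
    rw [hcT, Finset.card_univ, hG] at this
    omega
  have hpart2 : ∑ g ∈ Finset.univ.filter (fun g : G => g ∉ T),
      (Finset.univ.filter fun h : G => g * h = h * g).card = 4 * n := by
    rw [Finset.sum_congr rfl (fun g hg => hcard3 g (Finset.mem_filter.1 hg).2), Finset.sum_const, hcNT,
      smul_eq_mul, mul_comm]
  have hpart1 : ∑ g ∈ Finset.univ.filter (fun g : G => g ∈ T),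
      (Finset.univ.filter fun h : G => g * h = h * g).card = n * n + 2 * n := by
    have hf : ∀ g ∈ Finset.univ.filter (fun g : G => g ∈ T),
        (Finset.univ.filter fun h : G => g * h = h * g).card = n + (if g = 1 ∨ g = z then n else 0) := by
      intro g hg
      have hgT := (Finset.mem_filter.1 hg).2
      by_cases h1 : g = 1 ∨ g = z
      · rw [if_pos h1]
        have hgg : g * g = 1 := by
          rcases h1 with rfl | rfl
          · simp
          · exact hzz
        rw [hcard2 g hgg hgT]; ring
      · rw [if_neg h1, add_zero]
        apply hcard1 g hgT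
        intro hgg
        exact h1 (hb g hgT hgg)
    rw [Finset.sum_congr rfl hf, Finset.sum_add_distrib, Finset.sum_const, hcT, smul_eq_mul,
      Finset.sum_ite, Finset.sum_const, Finset.sum_const_zero, add_zero, smul_eq_mul]
    have : ((Finset.univ.filter (fun g : G => g ∈ T)).filter (fun g => g = 1 ∨ g = z)).card = 2 := by
      have : ((Finset.univ.filter (fun g : G => g ∈ T)).filter (fun g => g = 1 ∨ g = z)) = {1, z} := by
        ext g
        simp only [Finset.mem_filter, Finset.mem_univ, true_and, Finset.mem_insert,
          Finset.mem_singleton]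
        constructor
        · exact fun h => h.2
        · rintro (rfl | rfl)
          · exact ⟨T.one_mem, Or.inl rfl⟩
          · exact ⟨hzT, Or.inr rfl⟩
      rw [this, Finset.card_insert_of_notMem (by simpa using Ne.symm hz1), Finset.card_singleton]
    rw [this]
  rw [hsplit, hpart1, hpart2] at hsum
  have hnpos : 0 < n := Fintype.card_pos
  rw [Nat.card_eq_fintype_card (α := T), ← hn]
  have : n * (n + 6) = n * (2 * Nat.card (ConjClasses G)) := by
    nlinarith [hsum]
  exact (Nat.eq_of_mul_eq_mul_left hnpos this).symm

/-- Wrapper: the normalizer `N` of an abelian subgroup `T`, when `N ≠ T`, `|N : T| ≤ 2`, all elements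
of `N \ T` square to `z` and `1, z` are the only elements of `T` with trivial square, has order `2|T|`
and `(|T| + 6)/2` conjugacy classes. -/
theorem normalizer_dicyclic {G : Type*} [Group G] [Finite G] (T : Subgroup G) (z : G)
    (hT : ∀ a ∈ T, ∀ b ∈ T, a * b = b * a)
    (hzT : z ∈ T) (hz1 : z ≠ 1)
    (hw : ∃ w ∈ Subgroup.normalizer (T : Set G), w ∉ T)
    (hN : ∀ x ∈ Subgroup.normalizer (T : Set G), ∀ y ∈ Subgroup.normalizer (T : Set G),
      x ∉ T → y ∉ T → x * y ∈ T)
    (ha : ∀ x ∈ Subgroup.normalizer (T : Set G), x ∉ T → x * x = z)
    (hb : ∀ t ∈ T, t * t = 1 → t = 1 ∨ t = z) :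
    Nat.card (Subgroup.normalizer (T : Set G)) = 2 * Nat.card T ∧
    2 * Nat.card (ConjClasses (Subgroup.normalizer (T : Set G))) = Nat.card T + 6 := by
  have hTN : T ≤ Subgroup.normalizer (T : Set G) := Subgroup.le_normalizer
  have hidx : (T.subgroupOf (Subgroup.normalizer (T : Set G))).index = 2 := by
    rw [Subgroup.index_eq_two_iff]
    obtain ⟨w, hwN, hwT⟩ := hw
    refine ⟨⟨w, hwN⟩, ?_⟩
    rintro ⟨b, hbN⟩
    simp only [Subgroup.mem_subgroupOf, Subgroup.coe_mul]
    by_cases hbT : b ∈ T
    · right; exact ⟨hbT, fun h => hwT ((Subgroup.mul_mem_cancel_left T hbT).1 h)⟩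
    · left; exact ⟨hN b hbN w hwN hbT hwT, hbT⟩
  have hcard : Nat.card (T.subgroupOf (Subgroup.normalizer (T : Set G))) = Nat.card T :=
    Nat.card_congr (Subgroup.subgroupOfEquivOfLe hTN).toEquiv
  constructor
  · have := Subgroup.index_mul_card (T.subgroupOf (Subgroup.normalizer (T : Set G)))
    rw [hidx, hcard] at this
    exact this.symm
  · rw [← hcard]
    apply two_mul_card_conjClasses (T.subgroupOf (Subgroup.normalizer (T : Set G))) _ hidx
      ⟨z, hTN hzT⟩
    · simpa [Subgroup.mem_subgroupOf] using hzT
    · intro h; apply hz1; simpa using congrArg Subtype.val h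
    · rintro ⟨x, hxN⟩ hx
      simp only [Subgroup.mem_subgroupOf] at hx
      apply Subtype.ext
      simpa using ha x hxN hx
    · rintro ⟨t, htN⟩ ht htt
      simp only [Subgroup.mem_subgroupOf] at ht
      have h1 : t * t = 1 := by simpa using congrArg Subtype.val htt
      rcases hb t ht h1 with h | h
      · left; exact Subtype.ext h
      · right; exact Subtype.ext h
    · rintro ⟨a, haN⟩ ha' ⟨b, hbN⟩ hb'
      simp only [Subgroup.mem_subgroupOf] at ha' hb'
      apply Subtype.ext
      simpa using hT a ha' b hb'

end Cfsg.Agent.Lib.Helper41_Dicyclic
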