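import Mathlib

set_option autoImplicit false

namespace Cfsg.Agent.Lib.Helper41_SL2

open QuadraticAlgebra Matrix Polynomial

section quad

variable {F : Type*} [Field F] [Fintype F] {a b : F}

theorem finite_quad (a b : F) : Finite (QuadraticAlgebra F a b) :=
  Finite.of_equiv _ (QuadraticAlgebra.equivProd a b).symm

theorem natCard_quad (a b : F) : Nat.card (QuadraticAlgebra F a b) = Fintype.card F ^ 2 := by
  rw [Nat.card_congr (QuadraticAlgebra.equivProd a b), Nat.card_prod, Nat.card_eq_fintype_card, pow_two]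

theorem C_pow (x : F) (n : ℕ) :
    ((QuadraticAlgebra.C x : QuadraticAlgebra F a b)) ^ n = QuadraticAlgebra.C (x ^ n) := by
  induction n with
  | zero => simp [QuadraticAlgebra.C_one]
  | succ n ih => rw [pow_succ, ih, pow_succ, QuadraticAlgebra.C_mul]

theorem C_pow_card (x : F) :
    ((QuadraticAlgebra.C x : QuadraticAlgebra F a b)) ^ Fintype.card F = QuadraticAlgebra.C x := by
  rw [C_pow, FiniteField.pow_card]

theorem eq_C_add_C_mul_omega (z : QuadraticAlgebra F a b) :
    z = QuadraticAlgebra.C z.re + QuadraticAlgebra.C z.im * ω := by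
  ext <;> simp

variable [Hab : Fact (∀ r : F, r ^ 2 ≠ a + b * r)]

/-- Frobenius `z ↦ z ^ q` as a ring hom on the quadratic extension. -/
theorem exists_frob :
    ∃ φ : QuadraticAlgebra F a b →+* QuadraticAlgebra F a b, ∀ z, φ z = z ^ Fintype.card F := by
  obtain ⟨p, hp, n, hpp, hn⟩ := FiniteField.card' F
  have : Fact p.Prime := ⟨hpp⟩
  have : CharP (QuadraticAlgebra F a b) p := by
    refine charP_of_injective_algebraMap (algebraMap F (QuadraticAlgebra F a b)).injective p
  refine ⟨iterateFrobenius (QuadraticAlgebra F a b) p n, fun z => ?_⟩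
  rw [iterateFrobenius_def, hn]

theorem one_lt_card : 1 < Fintype.card F := Fintype.one_lt_card

theorem omega_pow_card : (ω : QuadraticAlgebra F a b) ^ Fintype.card F = star ω := by
  classical
  obtain ⟨φ, hφ⟩ := exists_frob (F := F) (a := a) (b := b)
  set q := Fintype.card F with hq
  set w' : QuadraticAlgebra F a b := ω ^ q with hw'
  -- w' is a root of the same quadratic
  have h1 : w' * w' = QuadraticAlgebra.C a + QuadraticAlgebra.C b * w' := by
    have e : (ω : QuadraticAlgebra F a b) * ω = QuadraticAlgebra.C a + QuadraticAlgebra.C b * ω := by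
      ext <;> simp
    have := congrArg φ e
    rw [map_mul, map_add, map_mul, hφ, hφ, hφ, C_pow_card, C_pow_card] at this
    exact this
  have h2 : (w' - ω) * (w' - star ω) = 0 := by
    have e : (ω : QuadraticAlgebra F a b) * ω = QuadraticAlgebra.C a + QuadraticAlgebra.C b * ω := by
      ext <;> simp
    have e2 : (star ω : QuadraticAlgebra F a b) = QuadraticAlgebra.C b - ω := by
      ext <;> simp
    rw [e2]
    have : (w' - ω) * (w' - (QuadraticAlgebra.C b - ω)) =
        w' * w' - QuadraticAlgebra.C b * w' - (ω * ω - QuadraticAlgebra.C b * ω) := by ring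
    rw [this, h1, e]; ring
  rcases mul_eq_zero.1 h2 with h3 | h3
  · -- impossible: Frobenius would be the identity
    exfalso
    have hw : w' = ω := sub_eq_zero.1 h3
    have hall : ∀ z : QuadraticAlgebra F a b, z ^ q = z := by
      intro z
      rw [← hφ]
      conv_lhs => rw [eq_C_add_C_mul_omega z]
      rw [map_add, map_mul, hφ, hφ, hφ, C_pow_card, C_pow_card, ← hw', hw]
      exact (eq_C_add_C_mul_omega z).symm
    have := finite_quad a b
    let _ := Fintype.ofFinite (QuadraticAlgebra F a b)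
    have hq1 : 1 < q := Fintype.one_lt_card
    have hdeg := FiniteField.X_pow_card_sub_X_natDegree_eq (QuadraticAlgebra F a b) hq1
    have hne : (X ^ q - X : (QuadraticAlgebra F a b)[X]) ≠ 0 := by
      intro h0
      rw [h0] at hdeg
      simp at hdeg
      omega
    have hsub : (Finset.univ : Finset (QuadraticAlgebra F a b)) ⊆ (X ^ q - X : (QuadraticAlgebra F a b)[X]).roots.toFinset := by
      intro z _
      rw [Multiset.mem_toFinset, mem_roots hne]
      simp [hall z]
    have hc := Finset.card_le_card hsub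
    have hr : (X ^ q - X : (QuadraticAlgebra F a b)[X]).roots.toFinset.card ≤ q := by
      calc _ ≤ Multiset.card (X ^ q - X : (QuadraticAlgebra F a b)[X]).roots := Multiset.toFinset_card_le _
        _ ≤ (X ^ q - X : (QuadraticAlgebra F a b)[X]).natDegree := Polynomial.card_roots' _
        _ = q := hdeg
    rw [Finset.card_univ, ← Nat.card_eq_fintype_card, natCard_quad] at hc
    have : q ^ 2 ≤ q := le_trans hc hr
    nlinarith
  · exact sub_eq_zero.1 h3

theorem pow_card_eq_star (z : QuadraticAlgebra F a b) : z ^ Fintype.card F = star z := by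
  obtain ⟨φ, hφ⟩ := exists_frob (F := F) (a := a) (b := b)
  rw [← hφ]
  conv_lhs => rw [eq_C_add_C_mul_omega z]
  rw [map_add, map_mul, hφ, hφ, hφ, C_pow_card, C_pow_card, omega_pow_card]
  ext <;> simp <;> ring

theorem pow_card_add_one (z : QuadraticAlgebra F a b) :
    z ^ (Fintype.card F + 1) = QuadraticAlgebra.C (QuadraticAlgebra.norm z) := by
  rw [pow_succ, pow_card_eq_star, mul_comm, QuadraticAlgebra.C_eq_algebraMap,
    QuadraticAlgebra.algebraMap_norm_eq_mul_star]

end quad


section mat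

variable {F : Type*} [Field F]

/-- The companion matrix of `X² - b X - a`. -/
def comp (a b : F) : Matrix (Fin 2) (Fin 2) F := !![0, a; 1, b]

theorem comp_mul_self (a b : F) : comp a b * comp a b = a • (1 : Matrix (Fin 2) (Fin 2) F) + b • comp a b := by
  ext i j
  fin_cases i <;> fin_cases j <;> simp [comp, Matrix.mul_apply, Fin.sum_univ_two, mul_comm]

/-- The regular representation of the quadratic algebra on the basis `1, ω`. -/
noncomputable def toMat (a b : F) : QuadraticAlgebra F a b →ₐ[F] Matrix (Fin 2) (Fin 2) F :=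
  QuadraticAlgebra.lift ⟨comp a b, comp_mul_self a b⟩

theorem toMat_apply (a b : F) (z : QuadraticAlgebra F a b) :
    toMat a b z = !![z.re, a * z.im; z.im, z.re + b * z.im] := by
  ext i j
  fin_cases i <;> fin_cases j <;> simp [toMat, comp, QuadraticAlgebra.lift, mul_comm]

theorem det_toMat (a b : F) (z : QuadraticAlgebra F a b) :
    (toMat a b z).det = QuadraticAlgebra.norm z := by
  rw [toMat_apply, Matrix.det_fin_two, QuadraticAlgebra.norm_def]
  simp
  ring

theorem toMat_injective (a b : F) : Function.Injective (toMat a b) := by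
  intro z w h
  rw [toMat_apply, toMat_apply] at h
  have h0 := congrFun (congrFun h 0) 0
  have h1 := congrFun (congrFun h 1) 0
  simp at h0 h1
  ext <;> assumption

/-- Cayley-Hamilton for `SL₂`. -/
theorem sl2_mul_self (A : Matrix.SpecialLinearGroup (Fin 2) F) :
    (A : Matrix (Fin 2) (Fin 2) F) * (A : Matrix (Fin 2) (Fin 2) F) =
      (-1 : F) • (1 : Matrix (Fin 2) (Fin 2) F) +
        (Matrix.trace (A : Matrix (Fin 2) (Fin 2) F)) • (A : Matrix (Fin 2) (Fin 2) F) := by
  have hdet : (A : Matrix (Fin 2) (Fin 2) F).det = 1 := A.2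
  rw [Matrix.det_fin_two] at hdet
  ext i j
  fin_cases i <;> fin_cases j <;>
    simp [Matrix.mul_apply, Fin.sum_univ_two, Matrix.trace_fin_two] <;>
    first | ring1 | linear_combination (-1 : F) * hdet

/-- An element of `SL₂` whose matrix is a scalar matrix is central. -/
theorem mem_center_of_scalar (B : Matrix.SpecialLinearGroup (Fin 2) F) (c : F)
    (h : (B : Matrix (Fin 2) (Fin 2) F) = c • (1 : Matrix (Fin 2) (Fin 2) F)) :
    B ∈ Subgroup.center (Matrix.SpecialLinearGroup (Fin 2) F) := by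
  rw [Subgroup.mem_center_iff]
  intro g
  apply Subtype.ext
  simp only [Matrix.SpecialLinearGroup.coe_mul, h, Matrix.mul_smul, Matrix.smul_mul, mul_one, one_mul]

theorem scalar_of_mem_center (B : Matrix.SpecialLinearGroup (Fin 2) F)
    (h : B ∈ Subgroup.center (Matrix.SpecialLinearGroup (Fin 2) F)) :
    ∃ c : F, c ^ 2 = 1 ∧ (B : Matrix (Fin 2) (Fin 2) F) = c • (1 : Matrix (Fin 2) (Fin 2) F) := by
  rw [Matrix.SpecialLinearGroup.mem_center_iff] at h
  obtain ⟨r, hr, hrB⟩ := h
  refine ⟨r, by simpa using hr, ?_⟩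
  rw [← hrB]
  ext i j
  simp [Matrix.scalar_apply, Matrix.smul_apply, Matrix.one_apply, Matrix.diagonal_apply]

/-- The `n`-th power in `PSL₂` is trivial iff the matrix power is scalar. -/
theorem psl_pow_eq_one_iff (A : Matrix.SpecialLinearGroup (Fin 2) F) (n : ℕ) :
    (QuotientGroup.mk A : Matrix.ProjectiveSpecialLinearGroup (Fin 2) F) ^ n = 1 ↔
      ∃ c : F, (A : Matrix (Fin 2) (Fin 2) F) ^ n = c • (1 : Matrix (Fin 2) (Fin 2) F) := by
  rw [← QuotientGroup.mk_pow, QuotientGroup.eq_one_iff]
  constructor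
  · intro h
    obtain ⟨c, _, hc⟩ := scalar_of_mem_center _ h
    exact ⟨c, by rw [← hc, Matrix.SpecialLinearGroup.coe_pow]⟩
  · rintro ⟨c, hc⟩
    exact mem_center_of_scalar _ c (by rw [Matrix.SpecialLinearGroup.coe_pow, hc])

end mat

section split

variable {F : Type*} [Field F]

/-- If a `2×2` matrix satisfies a quadratic with distinct roots `r, s` and `r ^ n = s ^ n = c`,
then its `n`-th power is the scalar `c`. -/
theorem pow_eq_scalar_of_roots (M : Matrix (Fin 2) (Fin 2) F) (t r s c : F) (n : ℕ)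
    (hM : M * M = (-1 : F) • (1 : Matrix (Fin 2) (Fin 2) F) + t • M) (hne : r ≠ s) (hsum : r + s = t)
    (hprod : r * s = 1) (hrn : r ^ n = c) (hsn : s ^ n = c) :
    M ^ n = c • (1 : Matrix (Fin 2) (Fin 2) F) := by
  have hf : aeval M ((X - C r) * (X - C s)) = 0 := by
    simp only [map_mul, map_sub, aeval_X, aeval_C, Algebra.algebraMap_eq_smul_one]
    have : (M - r • (1 : Matrix (Fin 2) (Fin 2) F)) * (M - s • (1 : Matrix (Fin 2) (Fin 2) F)) =
        M * M - (r + s) • M + (r * s) • (1 : Matrix (Fin 2) (Fin 2) F) := by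
      simp only [sub_mul, mul_sub, Matrix.smul_mul, Matrix.mul_smul, mul_one, one_mul, add_smul,
        smul_smul]
      rw [mul_comm s r]
      abel
    rw [this, hM, hsum, hprod]
    simp
  have hcop : IsCoprime (X - C r) (X - C s) :=
    Polynomial.isCoprime_X_sub_C_of_isUnit_sub (sub_ne_zero.2 hne).isUnit
  have h1 : (X - C r) ∣ (X ^ n - C c : F[X]) := by
    rw [Polynomial.dvd_iff_isRoot]
    simp [hrn]
  have h2 : (X - C s) ∣ (X ^ n - C c : F[X]) := by
    rw [Polynomial.dvd_iff_isRoot]
    simp [hsn]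
  obtain ⟨h, hh⟩ := hcop.mul_dvd h1 h2
  have := congrArg (aeval M) hh
  rw [map_mul, hf, zero_mul, map_sub, map_pow, aeval_X, aeval_C, Algebra.algebraMap_eq_smul_one,
    sub_eq_zero] at this
  exact this

end split

section cases

variable {F : Type*} [Field F] [Fintype F]

theorem gcd_two_cases (N : ℕ) : (Nat.gcd 2 N = 1) ∨ (Nat.gcd 2 N = 2 ∧ 2 ∣ N) := by
  have h : Nat.gcd 2 N ∣ 2 := Nat.gcd_dvd_left 2 N
  rcases (Nat.dvd_prime Nat.prime_two).1 h with h1 | h2
  · exact Or.inl h1
  · exact Or.inr ⟨h2, h2 ▸ Nat.gcd_dvd_right 2 N⟩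

/-- Every element of `PSL₂(F)` has order dividing `p`, `(q-1)/d` or `(q+1)/d`. -/
theorem psl2_pow_cases (p : ℕ) [Fact p.Prime] [CharP F p] (A : Matrix.SpecialLinearGroup (Fin 2) F) :
    (QuotientGroup.mk A : Matrix.ProjectiveSpecialLinearGroup (Fin 2) F) ^ p = 1 ∨
    (QuotientGroup.mk A : Matrix.ProjectiveSpecialLinearGroup (Fin 2) F) ^
      ((Fintype.card F - 1) / Nat.gcd 2 (Fintype.card F - 1)) = 1 ∨
    (QuotientGroup.mk A : Matrix.ProjectiveSpecialLinearGroup (Fin 2) F) ^
      ((Fintype.card F + 1) / Nat.gcd 2 (Fintype.card F - 1)) = 1 := by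
  have hp : p.Prime := Fact.out
  set q := Fintype.card F with hq
  have hq2 : 2 ≤ q := Fintype.one_lt_card
  set M : Matrix (Fin 2) (Fin 2) F := (A : Matrix (Fin 2) (Fin 2) F) with hM
  set t : F := Matrix.trace M with ht
  have hMM : M * M = (-1 : F) • (1 : Matrix (Fin 2) (Fin 2) F) + t • M := sl2_mul_self A
  simp only [psl_pow_eq_one_iff]
  rw [← hM]
  by_cases hroot : ∃ r : F, r ^ 2 = -1 + t * r
  · obtain ⟨r, hr⟩ := hroot
    set s : F := t - r with hs
    have hprod : r * s = 1 := by rw [hs]; linear_combination (-1 : F) * hr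
    have hsum : r + s = t := by rw [hs]; ring
    by_cases hrs : r = s
    · -- unipotent up to sign
      left
      have ht2 : t = 2 * r := by rw [← hsum, ← hrs]; ring
      have hr1 : r * r = 1 := by rw [hrs] at hprod ⊢; rw [← hrs] at hprod; rw [← hrs]; exact hprod
      set N : Matrix (Fin 2) (Fin 2) F := M - r • (1 : Matrix (Fin 2) (Fin 2) F) with hN
      have hNN : N * N = 0 := by
        have : N * N = M * M - (2 * r) • M + (r * r) • (1 : Matrix (Fin 2) (Fin 2) F) := by
          rw [hN]
          simp only [sub_mul, mul_sub, Matrix.smul_mul, Matrix.mul_smul, mul_one, one_mul,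
            smul_smul, two_mul, add_smul]
          abel
        rw [this, hMM, ht2, hr1]
        simp
      have hNp : N ^ p = 0 := by
        have : p = 2 + (p - 2) := by have := hp.two_le; omega
        rw [this, pow_add, pow_two, hNN, zero_mul]
      have hMN : M = r • (1 : Matrix (Fin 2) (Fin 2) F) + N := by rw [hN]; abel
      have hcomm : Commute (r • (1 : Matrix (Fin 2) (Fin 2) F)) N := by
        rw [Commute, SemiconjBy]
        simp
      refine ⟨r ^ p, ?_⟩
      rw [hMN, add_pow_char_of_commute _ hcomm, hNp, add_zero, _root_.smul_pow, one_pow]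
    · right; left
      have hr0 : r ≠ 0 := by
        rintro rfl
        simp at hprod
      have hs0 : s ≠ 0 := by
        rintro h0
        rw [h0] at hprod
        simp at hprod
      have hsinv : s = r⁻¹ := eq_inv_of_mul_eq_one_right hprod
      rcases gcd_two_cases (q - 1) with h1 | ⟨h2, hdvd⟩
      · rw [h1, Nat.div_one]
        refine ⟨1, ?_⟩
        apply pow_eq_scalar_of_roots M t r s 1 (q - 1) hMM hrs hsum hprod
        · exact FiniteField.pow_card_sub_one_eq_one r hr0
        · exact FiniteField.pow_card_sub_one_eq_one s hs0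
      · rw [h2]
        obtain ⟨m, hm⟩ := hdvd
        have hm' : (q - 1) / 2 = m := by omega
        rw [hm']
        set c : F := r ^ m with hc
        have hcc : c * c = 1 := by
          rw [hc, ← pow_add, ← two_mul, ← hm]
          exact FiniteField.pow_card_sub_one_eq_one r hr0
        refine ⟨c, ?_⟩
        apply pow_eq_scalar_of_roots M t r s c m hMM hrs hsum hprod rfl
        rw [hsinv, inv_pow, ← hc]
        exact inv_eq_of_mul_eq_one_right hcc
  · right; right
    push Not at hroot
    have : Fact (∀ r : F, r ^ 2 ≠ -1 + t * r) := ⟨hroot⟩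
    let ψ : QuadraticAlgebra F (-1) t →ₐ[F] Matrix (Fin 2) (Fin 2) F :=
      QuadraticAlgebra.lift ⟨M, hMM⟩
    have hψω : ψ ω = M := by
      simp [ψ, QuadraticAlgebra.lift]
    have hω : (ω : QuadraticAlgebra F (-1) t) ^ (q + 1) = 1 := by
      rw [hq, pow_card_add_one, QuadraticAlgebra.norm_def]
      simp
    rcases gcd_two_cases (q - 1) with h1 | ⟨h2, hdvd⟩
    · rw [h1, Nat.div_one]
      refine ⟨1, ?_⟩
      rw [← hψω, ← map_pow, hω, map_one, one_smul]
    · rw [h2]
      obtain ⟨m, hm⟩ := hdvd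
      have hm' : (q + 1) / 2 = m + 1 := by omega
      rw [hm']
      have hη : (ω : QuadraticAlgebra F (-1) t) ^ (m + 1) * (ω : QuadraticAlgebra F (-1) t) ^ (m + 1) = 1 := by
        rw [← pow_add, ← hω]
        congr 1
        omega
      rcases mul_self_eq_one_iff.1 hη with h | h
      · refine ⟨1, ?_⟩
        rw [← hψω, ← map_pow, h, map_one, one_smul]
      · refine ⟨-1, ?_⟩
        rw [← hψω, ← map_pow, h, map_neg, map_one, neg_smul, one_smul]

end cases


section exist

variable {F : Type*} [Field F]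

theorem orderOf_eq_of_forall_pow {G : Type*} [Monoid G] (x : G) (k : ℕ)
    (h : ∀ n : ℕ, x ^ n = 1 ↔ k ∣ n) : orderOf x = k := by
  apply Nat.dvd_antisymm
  · exact orderOf_dvd_of_pow_eq_one ((h k).2 dvd_rfl)
  · exact (h _).1 (pow_orderOf_eq_one x)

theorem dvd_two_mul_iff (N n : ℕ) : N ∣ 2 * n ↔ N / Nat.gcd 2 N ∣ n := by
  rcases gcd_two_cases N with h1 | ⟨h2, m, rfl⟩
  · rw [h1, Nat.div_one]
    have hc : Nat.Coprime N 2 := (Nat.coprime_comm.1 h1)
    exact Nat.Coprime.dvd_mul_left hc
  · rw [h2, Nat.mul_div_cancel_left m (by norm_num : 0 < 2)]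
    exact Nat.mul_dvd_mul_iff_left (by norm_num : 0 < 2)

/-- the standard unipotent element -/
def unip (F : Type*) [Field F] : Matrix.SpecialLinearGroup (Fin 2) F :=
  ⟨!![1, 1; 0, 1], by simp [Matrix.det_fin_two]⟩

theorem unip_pow (n : ℕ) : ((unip F ^ n : Matrix.SpecialLinearGroup (Fin 2) F) : Matrix (Fin 2) (Fin 2) F) =
    !![1, (n : F); 0, 1] := by
  induction n with
  | zero =>
    ext i j
    fin_cases i <;> fin_cases j <;> simp
  | succ n ih =>
    rw [pow_succ, Matrix.SpecialLinearGroup.coe_mul, ih]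
    ext i j
    fin_cases i <;> fin_cases j <;> simp [unip, Matrix.mul_apply, Fin.sum_univ_two, add_comm]

theorem orderOf_unip (p : ℕ) [Fact p.Prime] [CharP F p] :
    orderOf (QuotientGroup.mk (unip F) : Matrix.ProjectiveSpecialLinearGroup (Fin 2) F) = p := by
  apply orderOf_eq_prime
  · rw [psl_pow_eq_one_iff]
    refine ⟨1, ?_⟩
    rw [← Matrix.SpecialLinearGroup.coe_pow, unip_pow, CharP.cast_eq_zero, one_smul]
    ext i j
    fin_cases i <;> fin_cases j <;> simp
  · intro h
    have h1 : (QuotientGroup.mk (unip F) : Matrix.ProjectiveSpecialLinearGroup (Fin 2) F) ^ 1 = 1 := by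
      rw [pow_one]; exact h
    rw [psl_pow_eq_one_iff] at h1
    obtain ⟨c, hc⟩ := h1
    rw [pow_one] at hc
    have := congrFun (congrFun hc 0) 1
    simp [unip] at this

/-- the diagonal element -/
def diagElt (x : Fˣ) : Matrix.SpecialLinearGroup (Fin 2) F :=
  ⟨!![(x : F), 0; 0, ((x⁻¹ : Fˣ) : F)], by simp [Matrix.det_fin_two]⟩

theorem diagElt_pow (x : Fˣ) (n : ℕ) :
    ((diagElt x ^ n : Matrix.SpecialLinearGroup (Fin 2) F) : Matrix (Fin 2) (Fin 2) F) =
      !![((x ^ n : Fˣ) : F), 0; 0, (((x ^ n)⁻¹ : Fˣ) : F)] := by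
  induction n with
  | zero =>
    ext i j
    fin_cases i <;> fin_cases j <;> simp
  | succ n ih =>
    rw [pow_succ, Matrix.SpecialLinearGroup.coe_mul, ih]
    ext i j
    fin_cases i <;> fin_cases j <;> simp [diagElt, Matrix.mul_apply, Fin.sum_univ_two, pow_succ, mul_comm]

theorem diagElt_psl_pow_iff (x : Fˣ) (n : ℕ) :
    (QuotientGroup.mk (diagElt x) : Matrix.ProjectiveSpecialLinearGroup (Fin 2) F) ^ n = 1 ↔
      x ^ (2 * n) = 1 := by
  rw [psl_pow_eq_one_iff, ← Matrix.SpecialLinearGroup.coe_pow, diagElt_pow]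
  constructor
  · rintro ⟨c, hc⟩
    have h0 := congrFun (congrFun hc 0) 0
    have h1 := congrFun (congrFun hc 1) 1
    simp at h0 h1
    have : ((x ^ n : Fˣ) : F) = (((x ^ n)⁻¹ : Fˣ) : F) := by
      rw [Units.val_inv_eq_inv_val, Units.val_pow_eq_pow_val, h1, h0]
    have h2 : x ^ n = (x ^ n)⁻¹ := Units.ext this
    rw [two_mul, pow_add]
    nth_rewrite 1 [h2]
    exact inv_mul_cancel _
  · intro h
    refine ⟨((x ^ n : Fˣ) : F), ?_⟩
    have h2 : (x ^ n)⁻¹ = x ^ n := by
      rw [two_mul, pow_add] at h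
      exact inv_eq_of_mul_eq_one_right h
    rw [h2]
    ext i j
    fin_cases i <;> fin_cases j <;> simp

end exist


section nonsplit

variable {F : Type*} [Field F]

theorem exists_no_root [Finite F] : ∃ a : F, ∀ r : F, r ^ 2 ≠ a + 1 * r := by
  by_contra h
  push Not at h
  have hsurj : Function.Surjective (fun r : F => r ^ 2 - r) := fun a => by
    obtain ⟨r, hr⟩ := h a
    exact ⟨r, by simp [hr]⟩
  have hinj := Finite.injective_iff_surjective.2 hsurj
  have := @hinj 0 1 (by simp)
  exact zero_ne_one this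

/-- element of `SL₂` from a norm-one element of the quadratic extension -/
noncomputable def torusElt (a b : F) (z : QuadraticAlgebra F a b) (hz : QuadraticAlgebra.norm z = 1) :
    Matrix.SpecialLinearGroup (Fin 2) F :=
  ⟨toMat a b z, by rw [det_toMat, hz]⟩

theorem torusElt_pow (a b : F) (z : QuadraticAlgebra F a b) (hz : QuadraticAlgebra.norm z = 1) (n : ℕ) :
    ((torusElt a b z hz ^ n : Matrix.SpecialLinearGroup (Fin 2) F) : Matrix (Fin 2) (Fin 2) F) =
      toMat a b (z ^ n) := by
  rw [Matrix.SpecialLinearGroup.coe_pow, map_pow]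
  rfl

theorem torusElt_psl_pow_iff {a b : F} [Hab : Fact (∀ r : F, r ^ 2 ≠ a + b * r)]
    (z : QuadraticAlgebra F a b) (hz : QuadraticAlgebra.norm z = 1) (n : ℕ) :
    (QuotientGroup.mk (torusElt a b z hz) : Matrix.ProjectiveSpecialLinearGroup (Fin 2) F) ^ n = 1 ↔
      z ^ (2 * n) = 1 := by
  rw [psl_pow_eq_one_iff, ← Matrix.SpecialLinearGroup.coe_pow, torusElt_pow]
  constructor
  · rintro ⟨c, hc⟩
    have h1 : toMat a b (algebraMap F _ c) = c • (1 : Matrix (Fin 2) (Fin 2) F) := by
      rw [AlgHom.commutes, Algebra.algebraMap_eq_smul_one]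
    have h2 : z ^ n = algebraMap F _ c := toMat_injective a b (hc.trans h1.symm)
    have h3 : c ^ 2 = 1 := by
      have := congrArg QuadraticAlgebra.norm h2
      rw [map_pow, hz, one_pow, QuadraticAlgebra.norm_algebraMap] at this
      exact this.symm
    rw [mul_comm, pow_mul, h2, ← map_pow, h3, map_one]
  · intro h
    have h2 : z ^ n * z ^ n = 1 := by rw [← pow_add, ← two_mul]; exact h
    rcases mul_self_eq_one_iff.1 h2 with h3 | h3
    · exact ⟨1, by rw [h3, map_one, one_smul]⟩
    · exact ⟨-1, by rw [h3, map_neg, map_one, neg_smul, one_smul]⟩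

theorem exists_norm_one_orderOf [Fintype F] {a b : F} [Hab : Fact (∀ r : F, r ^ 2 ≠ a + b * r)] :
    ∃ z : QuadraticAlgebra F a b, QuadraticAlgebra.norm z = 1 ∧ orderOf z = Fintype.card F + 1 := by
  have hfin := finite_quad a b
  obtain ⟨ζ, hζ⟩ := IsCyclic.exists_ofOrder_eq_natCard (α := (QuadraticAlgebra F a b)ˣ)
  set q := Fintype.card F with hq
  have hq1 : 1 ≤ q := Fintype.card_pos
  rw [Nat.card_units, natCard_quad, ← hq] at hζ
  have hfac : q ^ 2 - 1 = (q - 1) * (q + 1) := by
    obtain ⟨k, hk⟩ : ∃ k, q = k + 1 := ⟨q - 1, by omega⟩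
    rw [hk]
    have e : (k + 1) ^ 2 = (k + 1 - 1) * (k + 1 + 1) + 1 := by
      simp only [Nat.add_sub_cancel]
      ring
    rw [e, Nat.add_sub_cancel]
  have hq2 : 2 ≤ q := Fintype.one_lt_card
  have hqne : q - 1 ≠ 0 := by omega
  have hord : orderOf (ζ ^ (q - 1)) = q + 1 := by
    rw [orderOf_pow_of_dvd hqne (by rw [hζ, hfac]; exact Dvd.intro _ rfl), hζ, hfac]
    exact Nat.mul_div_cancel_left _ (by omega)
  refine ⟨((ζ ^ (q - 1) : (QuadraticAlgebra F a b)ˣ) : QuadraticAlgebra F a b), ?_, ?_⟩
  · rw [Units.val_pow_eq_pow_val, map_pow]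
    apply FiniteField.pow_card_sub_one_eq_one
    rw [Ne, QuadraticAlgebra.norm_eq_zero_iff_eq_zero]
    exact ζ.ne_zero
  · rw [orderOf_units, hord]

end nonsplit

end Cfsg.Agent.Lib.Helper41_SL2
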