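import Mathlib
import Cfsg.Agent.Lib.Helper41_SL2
import Cfsg.Agent.Lib.Helper41_SL2Conj
import Cfsg.Agent.Lib.Helper41_Dicyclic

set_option autoImplicit false

namespace Cfsg.Agent.Lib.Helper41_SL2Torus

open Cfsg.Agent.Lib.Helper41_SL2

section general

variable {F : Type*} [Field F] (a b : F)

/-- A matrix commuting with `toMat z`, `z ∉ F`, lies in the image of `toMat`. -/
theorem eq_toMat_of_commute (z : QuadraticAlgebra F a b) (hz : z.im ≠ 0)
    (B : Matrix (Fin 2) (Fin 2) F) (h : B * toMat a b z = toMat a b z * B) :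
    B = toMat a b ⟨B 0 0, B 1 0⟩ := by
  rw [toMat_apply] at h ⊢
  have e00 := congrFun (congrFun h 0) 0
  have e10 := congrFun (congrFun h 1) 0
  simp only [Matrix.mul_apply, Fin.sum_univ_two, Matrix.of_apply, Matrix.cons_val_zero,
    Matrix.cons_val_one, Matrix.cons_val', Matrix.cons_val_fin_one] at e00 e10
  have h01 : B 0 1 = a * B 1 0 := by
    have : z.im * (B 0 1 - a * B 1 0) = 0 := by linear_combination e00
    exact sub_eq_zero.1 ((mul_eq_zero.1 this).resolve_left hz)
  have h11 : B 1 1 = B 0 0 + b * B 1 0 := by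
    have : z.im * (B 1 1 - (B 0 0 + b * B 1 0)) = 0 := by linear_combination e10
    exact sub_eq_zero.1 ((mul_eq_zero.1 this).resolve_left hz)
  ext i j
  fin_cases i <;> fin_cases j <;> simp [h01, h11]

/-- A matrix conjugating `toMat z` to `toMat (star z)`, `z ∉ F`, has trace zero. -/
theorem trace_eq_zero_of_anticommute (z : QuadraticAlgebra F a b) (hz : z.im ≠ 0)
    (B : Matrix (Fin 2) (Fin 2) F) (h : B * toMat a b z = toMat a b (star z) * B) :
    Matrix.trace B = 0 := by
  rw [toMat_apply, toMat_apply] at h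
  have e10 := congrFun (congrFun h 1) 0
  simp only [Matrix.mul_apply, Fin.sum_univ_two, Matrix.of_apply, Matrix.cons_val_zero,
    Matrix.cons_val_one, Matrix.cons_val', Matrix.cons_val_fin_one, QuadraticAlgebra.re_star,
    QuadraticAlgebra.im_star] at e10
  rw [Matrix.trace_fin_two]
  have : z.im * (B 0 0 + B 1 1) = 0 := by linear_combination e10
  exact (mul_eq_zero.1 this).resolve_left hz

theorem adjugate_toMat (z : QuadraticAlgebra F a b) :
    Matrix.adjugate (toMat a b z) = toMat a b (star z) := by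
  rw [toMat_apply, toMat_apply, Matrix.adjugate_fin_two]
  ext i j
  fin_cases i <;> fin_cases j <;> simp

theorem trace_toMat (z : QuadraticAlgebra F a b) :
    Matrix.trace (toMat a b z) = QuadraticAlgebra.trace z := by
  rw [toMat_apply, Matrix.trace_fin_two, QuadraticAlgebra.trace_def]
  simp
  ring

theorem toMat_algebraMap (c : F) :
    toMat a b (algebraMap F _ c) = c • (1 : Matrix (Fin 2) (Fin 2) F) := by
  rw [AlgHom.commutes, Algebra.algebraMap_eq_smul_one]

/-- The non-split torus: matrices of norm-one elements of the quadratic algebra. -/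
def nsTorus : Subgroup (Matrix.SpecialLinearGroup (Fin 2) F) where
  carrier := {g | ∃ z : QuadraticAlgebra F a b, QuadraticAlgebra.norm z = 1 ∧
    (g : Matrix (Fin 2) (Fin 2) F) = toMat a b z}
  one_mem' := ⟨1, by simp, by simp⟩
  mul_mem' := by
    rintro g h ⟨z, hz, hg⟩ ⟨w, hw, hh⟩
    exact ⟨z * w, by rw [map_mul, hz, hw, one_mul],
      by rw [Matrix.SpecialLinearGroup.coe_mul, hg, hh, map_mul]⟩
  inv_mem' := by
    rintro g ⟨z, hz, hg⟩
    exact ⟨star z, by rw [QuadraticAlgebra.norm_star, hz],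
      by rw [Matrix.SpecialLinearGroup.coe_inv, hg, adjugate_toMat]⟩

theorem mem_nsTorus (g : Matrix.SpecialLinearGroup (Fin 2) F) :
    g ∈ nsTorus a b ↔ ∃ z : QuadraticAlgebra F a b, QuadraticAlgebra.norm z = 1 ∧
      (g : Matrix (Fin 2) (Fin 2) F) = toMat a b z := Iff.rfl

theorem torusElt_mem (z : QuadraticAlgebra F a b) (hz : QuadraticAlgebra.norm z = 1) :
    torusElt a b z hz ∈ nsTorus a b := ⟨z, hz, rfl⟩

theorem nsTorus_comm (g h : Matrix.SpecialLinearGroup (Fin 2) F) (hg : g ∈ nsTorus a b)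
    (hh : h ∈ nsTorus a b) : g * h = h * g := by
  obtain ⟨z, -, hz⟩ := hg
  obtain ⟨w, -, hw⟩ := hh
  apply Subtype.ext
  rw [Matrix.SpecialLinearGroup.coe_mul, Matrix.SpecialLinearGroup.coe_mul, hz, hw, ← map_mul,
    ← map_mul, mul_comm]

/-- An element of `SL₂` commuting with a non-scalar element of the torus lies in the torus. -/
theorem mem_nsTorus_of_commute (z : QuadraticAlgebra F a b) (hz : z.im ≠ 0)
    (g : Matrix.SpecialLinearGroup (Fin 2) F)
    (h : (g : Matrix (Fin 2) (Fin 2) F) * toMat a b z = toMat a b z * g) : g ∈ nsTorus a b := by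
  have h1 := eq_toMat_of_commute a b z hz _ h
  refine ⟨_, ?_, h1⟩
  rw [← det_toMat, ← h1]
  exact g.2

/-- Norm-one elements of `F` inside the quadratic algebra are `±1`. -/
theorem im_ne_zero_of_ne (z : QuadraticAlgebra F a b) (hz : QuadraticAlgebra.norm z = 1)
    (h1 : z ≠ 1) (h2 : z ≠ -1) : z.im ≠ 0 := by
  intro him
  rw [QuadraticAlgebra.norm_def, him] at hz
  have : (z.re - 1) * (z.re + 1) = 0 := by linear_combination hz
  rcases mul_eq_zero.1 this with h | h
  · apply h1
    ext
    · simpa [QuadraticAlgebra.re_one] using sub_eq_zero.1 h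
    · simpa [QuadraticAlgebra.im_one] using him
  · apply h2
    ext
    · simpa [QuadraticAlgebra.re_one] using eq_neg_of_add_eq_zero_left h
    · simpa [QuadraticAlgebra.im_one] using him

end general

section finite

variable {F : Type*} [Field F] [Fintype F] (a b : F) [Hab : Fact (∀ r : F, r ^ 2 ≠ a + b * r)]

omit [Fintype F] in
theorem orderOf_torusElt (z : QuadraticAlgebra F a b) (hz : QuadraticAlgebra.norm z = 1) :
    orderOf (torusElt a b z hz) = orderOf z := by
  rw [orderOf_eq_orderOf_iff]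
  intro n
  constructor
  · intro h
    have h1 := congrArg (fun g : Matrix.SpecialLinearGroup (Fin 2) F =>
      (g : Matrix (Fin 2) (Fin 2) F)) h
    simp only [torusElt_pow, Matrix.SpecialLinearGroup.coe_one] at h1
    apply toMat_injective a b
    rw [h1, map_one]
  · intro h
    apply Subtype.ext
    rw [torusElt_pow, h, map_one, Matrix.SpecialLinearGroup.coe_one]

theorem nsTorus_eq_zpowers (z₀ : QuadraticAlgebra F a b) (hz₀ : QuadraticAlgebra.norm z₀ = 1)
    (hord : orderOf z₀ = Fintype.card F + 1) :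
    nsTorus a b = Subgroup.zpowers (torusElt a b z₀ hz₀) := by
  apply le_antisymm
  · rintro g ⟨z, hz, hg⟩
    have hprim : IsPrimitiveRoot z₀ (Fintype.card F + 1) := by
      rw [← hord]; exact IsPrimitiveRoot.orderOf z₀
    have hz1 : z ^ (Fintype.card F + 1) = 1 := by
      rw [pow_card_add_one, hz]; rfl
    obtain ⟨i, -, hi⟩ := hprim.eq_pow_of_pow_eq_one hz1
    rw [Subgroup.mem_zpowers_iff]
    refine ⟨(i : ℤ), ?_⟩
    rw [zpow_natCast]
    apply Subtype.ext
    rw [torusElt_pow, hi, hg]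
  · rw [Subgroup.zpowers_le]
    exact torusElt_mem a b z₀ hz₀

theorem card_nsTorus : Nat.card (nsTorus a b) = Fintype.card F + 1 := by
  obtain ⟨z₀, hz₀, hord⟩ := exists_norm_one_orderOf (F := F) (a := a) (b := b)
  rw [nsTorus_eq_zpowers a b z₀ hz₀ hord, Nat.card_zpowers, orderOf_torusElt, hord]

theorem isCyclic_nsTorus : IsCyclic (nsTorus a b) := by
  obtain ⟨z₀, hz₀, hord⟩ := exists_norm_one_orderOf (F := F) (a := a) (b := b)
  rw [nsTorus_eq_zpowers a b z₀ hz₀ hord]
  infer_instance

end finite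

section general2

variable {F : Type*} [Field F] (a b : F)

theorem ne_one_of_coe_ne (g : Matrix.SpecialLinearGroup (Fin 2) F) (z : QuadraticAlgebra F a b)
    (hgz : (g : Matrix (Fin 2) (Fin 2) F) = toMat a b z)
    (h1 : (g : Matrix (Fin 2) (Fin 2) F) ≠ 1) (h2 : (g : Matrix (Fin 2) (Fin 2) F) ≠ -1) :
    z ≠ 1 ∧ z ≠ -1 := by
  constructor
  · rintro rfl
    apply h1
    rw [hgz, map_one]
  · rintro rfl
    apply h2
    rw [hgz, map_neg, map_one]

/-- The centralizer of a non-scalar element of the torus is the torus. -/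
theorem centralizer_eq (g : Matrix.SpecialLinearGroup (Fin 2) F) (hg : g ∈ nsTorus a b)
    (h1 : (g : Matrix (Fin 2) (Fin 2) F) ≠ 1) (h2 : (g : Matrix (Fin 2) (Fin 2) F) ≠ -1) :
    Subgroup.centralizer ({g} : Set (Matrix.SpecialLinearGroup (Fin 2) F)) = nsTorus a b := by
  obtain ⟨z, hz, hgz⟩ := hg
  obtain ⟨hz1, hz2⟩ := ne_one_of_coe_ne a b g z hgz h1 h2
  have him := im_ne_zero_of_ne a b z hz hz1 hz2
  ext x
  rw [Subgroup.mem_centralizer_iff]
  constructor
  · intro h
    have h3 := h g rfl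
    apply mem_nsTorus_of_commute a b z him x
    rw [← hgz, ← Matrix.SpecialLinearGroup.coe_mul, ← Matrix.SpecialLinearGroup.coe_mul, h3]
  · rintro hx h rfl
    exact nsTorus_comm a b h x ⟨z, hz, hgz⟩ hx

end general2

section finite2

variable {F : Type*} [Field F] [Fintype F] (a b : F) [Hab : Fact (∀ r : F, r ^ 2 ≠ a + b * r)]

/-- There is a non-scalar norm-one element. -/
theorem exists_nonscalar :
    ∃ z₀ : QuadraticAlgebra F a b, QuadraticAlgebra.norm z₀ = 1 ∧ z₀.im ≠ 0 := by
  obtain ⟨z₀, hz₀, hord⟩ := exists_norm_one_orderOf (F := F) (a := a) (b := b)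
  refine ⟨z₀, hz₀, ?_⟩
  have hq : 2 ≤ Fintype.card F := Fintype.one_lt_card
  apply im_ne_zero_of_ne a b z₀ hz₀
  · rintro rfl
    rw [orderOf_one] at hord
    omega
  · rintro rfl
    have : orderOf (-1 : QuadraticAlgebra F a b) ∣ 2 := orderOf_dvd_of_pow_eq_one (by simp)
    have := Nat.le_of_dvd (by norm_num) this
    omega

theorem centralizer_nsTorus :
    Subgroup.centralizer ((nsTorus a b : Subgroup (Matrix.SpecialLinearGroup (Fin 2) F)) :
      Set (Matrix.SpecialLinearGroup (Fin 2) F)) = nsTorus a b := by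
  obtain ⟨z₀, hz₀, him⟩ := exists_nonscalar (F := F) a b
  apply le_antisymm
  · intro x hx
    apply mem_nsTorus_of_commute a b z₀ him x
    have := hx (torusElt a b z₀ hz₀) (torusElt_mem a b z₀ hz₀)
    have h2 := congrArg (fun g : Matrix.SpecialLinearGroup (Fin 2) F =>
      (g : Matrix (Fin 2) (Fin 2) F)) this
    simp only [Matrix.SpecialLinearGroup.coe_mul] at h2
    exact h2.symm
  · intro x hx y hy
    exact nsTorus_comm a b y x hy hx

end finite2

section finite3

variable {F : Type*} [Field F] [Fintype F] (a b : F) [Hab : Fact (∀ r : F, r ^ 2 ≠ a + b * r)]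

/-- Every irreducible quadratic `X² - τ X + 1` has a root of norm one in the quadratic algebra. -/
theorem exists_norm_one_trace (τ : F) (hτ : ∀ r : F, r ^ 2 ≠ -1 + τ * r) :
    ∃ z : QuadraticAlgebra F a b, QuadraticAlgebra.norm z = 1 ∧ QuadraticAlgebra.trace z = τ := by
  have : Fact (∀ r : F, r ^ 2 ≠ -1 + τ * r) := ⟨hτ⟩
  have := finite_quad a b
  obtain ⟨φ⟩ := FiniteField.nonempty_algHom_of_finrank_dvd (F := F)
    (K := QuadraticAlgebra F (-1) τ) (L := QuadraticAlgebra F a b)
    (by rw [QuadraticAlgebra.finrank_eq_two, QuadraticAlgebra.finrank_eq_two])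
  set z := φ QuadraticAlgebra.omega with hz
  have hzz : z * z = (-1 : F) • 1 + τ • z := by
    rw [hz, ← map_mul, QuadraticAlgebra.omega_mul_omega_eq_add, map_add, map_smul, map_smul, map_one]
  have hsq := QuadraticAlgebra.sq_eq_trace_smul_sub_norm z
  rw [sq, hzz] at hsq
  have him := congrArg QuadraticAlgebra.im hsq
  have hre := congrArg QuadraticAlgebra.re hsq
  simp [QuadraticAlgebra.re_one, QuadraticAlgebra.im_one] at him hre
  have hz0 : z.im ≠ 0 := by
    intro h0
    have h1 := congrArg QuadraticAlgebra.re hzz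
    simp [QuadraticAlgebra.re_one, h0] at h1
    exact hτ z.re (by rw [sq, h1])
  have htr : QuadraticAlgebra.trace z = τ := by
    rcases him with h | h
    · exact h.symm
    · exact absurd h hz0
  refine ⟨z, ?_, htr⟩
  rw [htr] at hre
  linear_combination hre

end finite3

section eigen

variable {F : Type*} [Field F]

/-- An element of `SL₂` without eigenvectors has an irreducible characteristic polynomial. -/
theorem no_root_of_no_eigenvector (g : Matrix.SpecialLinearGroup (Fin 2) F)
    (hg : ∀ (c : F) (v : Fin 2 → F), v ≠ 0 → (g : Matrix (Fin 2) (Fin 2) F).mulVec v ≠ c • v) :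
    ∀ r : F, r ^ 2 ≠ -1 + Matrix.trace (g : Matrix (Fin 2) (Fin 2) F) * r := by
  intro r hr
  have hdet : (g : Matrix (Fin 2) (Fin 2) F).det = 1 := g.2
  rw [Matrix.det_fin_two] at hdet
  rw [Matrix.trace_fin_two] at hr
  have h0 : ((g : Matrix (Fin 2) (Fin 2) F) - r • (1 : Matrix (Fin 2) (Fin 2) F)).det = 0 := by
    rw [Matrix.det_fin_two]
    simp
    linear_combination hdet + hr
  obtain ⟨v, hv, hMv⟩ := Matrix.exists_mulVec_eq_zero_iff.2 h0
  apply hg r v hv
  rw [Matrix.sub_mulVec, Matrix.smul_mulVec, Matrix.one_mulVec] at hMv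
  exact sub_eq_zero.1 hMv

theorem trace_sq_ne_four_of_no_root (τ : F) (hτ : ∀ r : F, r ^ 2 ≠ -1 + τ * r) : τ ^ 2 ≠ 4 := by
  intro h
  have : (τ - 2) * (τ + 2) = 0 := by linear_combination h
  rcases mul_eq_zero.1 this with h2 | h2
  · apply hτ 1
    linear_combination -h2
  · apply hτ (-1)
    linear_combination h2

end eigen

section finite4

variable {F : Type*} [Field F] [Fintype F] (a b : F) [Hab : Fact (∀ r : F, r ^ 2 ≠ a + b * r)]

/-- Every element of `SL₂` without an eigenvector is conjugate into the non-split torus. -/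
theorem exists_conj_mem_nsTorus (g : Matrix.SpecialLinearGroup (Fin 2) F)
    (hg : ∀ (c : F) (v : Fin 2 → F), v ≠ 0 → (g : Matrix (Fin 2) (Fin 2) F).mulVec v ≠ c • v) :
    ∃ h : Matrix.SpecialLinearGroup (Fin 2) F, h * g * h⁻¹ ∈ nsTorus a b := by
  have hτ := no_root_of_no_eigenvector g hg
  obtain ⟨z, hz, htr⟩ := exists_norm_one_trace a b _ hτ
  have h1 : Matrix.trace ((torusElt a b z hz : Matrix.SpecialLinearGroup (Fin 2) F) :
      Matrix (Fin 2) (Fin 2) F) = Matrix.trace (g : Matrix (Fin 2) (Fin 2) F) := by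
    rw [← htr, ← trace_toMat]; rfl
  obtain ⟨U, hU⟩ := Helper41_SL2Conj.conj_of_trace_eq (torusElt a b z hz) g h1
    (trace_sq_ne_four_of_no_root _ hτ)
  exact ⟨U, hU ▸ torusElt_mem a b z hz⟩

end finite4

section normalizer

variable {F : Type*} [Field F]

theorem trace_conj (n g : Matrix.SpecialLinearGroup (Fin 2) F) :
    Matrix.trace ((n * g * n⁻¹ : Matrix.SpecialLinearGroup (Fin 2) F) : Matrix (Fin 2) (Fin 2) F) =
      Matrix.trace (g : Matrix (Fin 2) (Fin 2) F) := by
  rw [Matrix.SpecialLinearGroup.coe_mul, Matrix.SpecialLinearGroup.coe_mul, Matrix.trace_mul_comm,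
    ← Matrix.mul_assoc, ← Matrix.SpecialLinearGroup.coe_mul, inv_mul_cancel,
    Matrix.SpecialLinearGroup.coe_one, Matrix.one_mul]

variable (a b : F) [Hab : Fact (∀ r : F, r ^ 2 ≠ a + b * r)]

/-- An element normalizing the torus either lies in it or inverts it. -/
theorem normalizer_cases (z₀ : QuadraticAlgebra F a b) (hz₀ : QuadraticAlgebra.norm z₀ = 1)
    (him : z₀.im ≠ 0) (n : Matrix.SpecialLinearGroup (Fin 2) F)
    (hn : n ∈ Subgroup.normalizer ((nsTorus a b : Subgroup (Matrix.SpecialLinearGroup (Fin 2) F)) :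
      Set (Matrix.SpecialLinearGroup (Fin 2) F))) :
    n ∈ nsTorus a b ∨
      (n : Matrix (Fin 2) (Fin 2) F) * toMat a b z₀ = toMat a b (star z₀) * n := by
  have hg₀ := torusElt_mem a b z₀ hz₀
  obtain ⟨z₁, hz₁, h1⟩ := (Subgroup.mem_normalizer_iff.1 hn _).1 hg₀
  have htr : QuadraticAlgebra.trace z₁ = QuadraticAlgebra.trace z₀ := by
    rw [← trace_toMat, ← h1, trace_conj, ← trace_toMat]; rfl
  have hprod : (z₁ - z₀) * (z₁ - star z₀) = 0 := by
    have e1 := QuadraticAlgebra.sq_eq_trace_smul_sub_norm z₁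
    have e0 := QuadraticAlgebra.sq_eq_trace_smul_sub_norm z₀
    rw [htr, hz₁, Algebra.smul_def] at e1
    rw [hz₀, Algebra.smul_def] at e0
    rw [QuadraticAlgebra.star_eq z₀]
    linear_combination e1 - e0
  have hmat : (n : Matrix (Fin 2) (Fin 2) F) * toMat a b z₀ = toMat a b z₁ * n := by
    rw [← h1, ← Matrix.SpecialLinearGroup.coe_mul, inv_mul_cancel_right,
      Matrix.SpecialLinearGroup.coe_mul]
    rfl
  rcases mul_eq_zero.1 hprod with h | h
  · left
    apply mem_nsTorus_of_commute a b z₀ him n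
    rw [hmat, sub_eq_zero.1 h]
  · right
    rw [hmat, sub_eq_zero.1 h]

/-- An element of the normalizer of the torus outside the torus squares to `-1`. -/
theorem normalizer_mul_self (z₀ : QuadraticAlgebra F a b) (hz₀ : QuadraticAlgebra.norm z₀ = 1)
    (him : z₀.im ≠ 0) (n : Matrix.SpecialLinearGroup (Fin 2) F)
    (hn : n ∈ Subgroup.normalizer ((nsTorus a b : Subgroup (Matrix.SpecialLinearGroup (Fin 2) F)) :
      Set (Matrix.SpecialLinearGroup (Fin 2) F))) (hnT : n ∉ nsTorus a b) :
    (n : Matrix (Fin 2) (Fin 2) F) * (n : Matrix (Fin 2) (Fin 2) F) = -1 := by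
  have h := (normalizer_cases a b z₀ hz₀ him n hn).resolve_left hnT
  have htr := trace_eq_zero_of_anticommute a b z₀ him _ h
  rw [sl2_mul_self, htr, zero_smul, add_zero, neg_smul, one_smul]

/-- The product of two elements of the normalizer outside the torus lies in the torus. -/
theorem normalizer_mul_mem (z₀ : QuadraticAlgebra F a b) (hz₀ : QuadraticAlgebra.norm z₀ = 1)
    (him : z₀.im ≠ 0) (x y : Matrix.SpecialLinearGroup (Fin 2) F)
    (hx : x ∈ Subgroup.normalizer ((nsTorus a b : Subgroup (Matrix.SpecialLinearGroup (Fin 2) F)) :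
      Set (Matrix.SpecialLinearGroup (Fin 2) F)))
    (hy : y ∈ Subgroup.normalizer ((nsTorus a b : Subgroup (Matrix.SpecialLinearGroup (Fin 2) F)) :
      Set (Matrix.SpecialLinearGroup (Fin 2) F)))
    (hxT : x ∉ nsTorus a b) (hyT : y ∉ nsTorus a b) : x * y ∈ nsTorus a b := by
  have h1 := (normalizer_cases a b z₀ hz₀ him x hx).resolve_left hxT
  have h2 := (normalizer_cases a b z₀ hz₀ him y hy).resolve_left hyT
  have hs : (star z₀).im ≠ 0 := by simpa using him
  have h3 := (normalizer_cases a b (star z₀) (by rw [QuadraticAlgebra.norm_star, hz₀]) hs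
    x hx).resolve_left hxT
  rw [star_star] at h3
  apply mem_nsTorus_of_commute a b z₀ him
  rw [Matrix.SpecialLinearGroup.coe_mul, Matrix.mul_assoc, h2, ← Matrix.mul_assoc, h3,
    Matrix.mul_assoc]

end normalizer

section finite5

variable {F : Type*} [Field F] (a b : F) [Hab : Fact (∀ r : F, r ^ 2 ≠ a + b * r)]

theorem trace_sq_ne_four (z₀ : QuadraticAlgebra F a b) (hz₀ : QuadraticAlgebra.norm z₀ = 1)
    (him : z₀.im ≠ 0) : (QuadraticAlgebra.trace z₀) ^ 2 ≠ 4 := by
  intro h
  have e0 := QuadraticAlgebra.sq_eq_trace_smul_sub_norm z₀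
  rw [hz₀, Algebra.smul_def, map_one] at e0
  have : (QuadraticAlgebra.trace z₀ - 2) * (QuadraticAlgebra.trace z₀ + 2) = 0 := by
    linear_combination h
  rcases mul_eq_zero.1 this with h2 | h2
  · have h3 : QuadraticAlgebra.trace z₀ = 2 := by linear_combination h2
    rw [h3] at e0
    have h4 : (z₀ - 1) * (z₀ - 1) = 0 := by
      rw [map_ofNat] at e0
      linear_combination e0
    have h5 : z₀ = 1 := sub_eq_zero.1 (mul_self_eq_zero.1 h4)
    apply him
    rw [h5, QuadraticAlgebra.im_one]
  · have h3 : QuadraticAlgebra.trace z₀ = -2 := by linear_combination h2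
    rw [h3] at e0
    have h4 : (z₀ + 1) * (z₀ + 1) = 0 := by
      rw [map_neg, map_ofNat] at e0
      linear_combination e0
    have h5 : z₀ = -1 := eq_neg_of_add_eq_zero_left (mul_self_eq_zero.1 h4)
    apply him
    rw [h5]
    simp [QuadraticAlgebra.im_one]

omit Hab in
theorem mem_nsTorus_iff_commute (z₀ : QuadraticAlgebra F a b)
    (hz₀ : QuadraticAlgebra.norm z₀ = 1) (him : z₀.im ≠ 0)
    (t : Matrix.SpecialLinearGroup (Fin 2) F) :
    t ∈ nsTorus a b ↔ Commute t (torusElt a b z₀ hz₀) := by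
  constructor
  · intro ht
    exact nsTorus_comm a b _ _ ht (torusElt_mem a b z₀ hz₀)
  · intro h
    apply mem_nsTorus_of_commute a b z₀ him
    have := congrArg (fun g : Matrix.SpecialLinearGroup (Fin 2) F =>
      (g : Matrix (Fin 2) (Fin 2) F)) h.eq
    simp only [Matrix.SpecialLinearGroup.coe_mul] at this
    exact this

variable [Fintype F]

/-- The normalizer of the torus is strictly bigger than the torus. -/
theorem exists_normalizer_not_mem :
    ∃ w ∈ Subgroup.normalizer ((nsTorus a b : Subgroup (Matrix.SpecialLinearGroup (Fin 2) F)) :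
      Set (Matrix.SpecialLinearGroup (Fin 2) F)), w ∉ nsTorus a b := by
  obtain ⟨z₀, hz₀, him⟩ := exists_nonscalar (F := F) a b
  set g₀ := torusElt a b z₀ hz₀ with hg₀
  have htr0 : Matrix.trace (g₀ : Matrix (Fin 2) (Fin 2) F) = QuadraticAlgebra.trace z₀ := by
    rw [← trace_toMat]; rfl
  have h1 : Matrix.trace ((g₀⁻¹ : Matrix.SpecialLinearGroup (Fin 2) F) :
      Matrix (Fin 2) (Fin 2) F) = Matrix.trace (g₀ : Matrix (Fin 2) (Fin 2) F) := by
    rw [htr0, Matrix.SpecialLinearGroup.coe_inv]
    have : (g₀ : Matrix (Fin 2) (Fin 2) F) = toMat a b z₀ := rfl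
    rw [this, adjugate_toMat, trace_toMat, QuadraticAlgebra.trace_star]
  obtain ⟨U, hU⟩ := Helper41_SL2Conj.conj_of_trace_eq g₀⁻¹ g₀ h1
    (by rw [htr0]; exact trace_sq_ne_four a b z₀ hz₀ him)
  refine ⟨U, ?_, ?_⟩
  · rw [Subgroup.mem_normalizer_iff]
    intro t
    have key : Commute (U * t * U⁻¹) g₀ ↔ Commute t g₀ := by
      rw [← Commute.inv_right_iff, hU, Commute.conj_iff]
    rw [mem_nsTorus_iff_commute a b z₀ hz₀ him, mem_nsTorus_iff_commute a b z₀ hz₀ him, ← hg₀, key]
  · intro hUT
    have hc := (mem_nsTorus_iff_commute a b z₀ hz₀ him U).1 hUT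
    rw [← hg₀] at hc
    have h2 : g₀⁻¹ = g₀ := by
      rw [hU, hc.eq, mul_inv_cancel_right]
    have h3 : g₀ * g₀ = 1 := by
      nth_rewrite 1 [← h2]
      exact inv_mul_cancel g₀
    have h4 := congrArg (fun g : Matrix.SpecialLinearGroup (Fin 2) F =>
      (g : Matrix (Fin 2) (Fin 2) F)) h3
    have h5 : toMat a b (z₀ * z₀) = toMat a b 1 := by
      rw [map_mul, map_one]
      simp only [Matrix.SpecialLinearGroup.coe_mul, Matrix.SpecialLinearGroup.coe_one] at h4
      exact h4
    have h6 := toMat_injective a b h5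
    apply him
    rcases mul_self_eq_one_iff.1 h6 with h7 | h7
    · rw [h7, QuadraticAlgebra.im_one]
    · rw [h7]; simp [QuadraticAlgebra.im_one]

end finite5

section summary

variable {F : Type*} [Field F] [Fintype F] (a b : F) [Hab : Fact (∀ r : F, r ^ 2 ≠ a + b * r)]

theorem two_ne_zero_of_odd (hodd : Odd (Fintype.card F)) : (2 : F) ≠ 0 := by
  apply Ring.two_ne_zero
  intro h
  have := FiniteField.even_card_iff_char_two.1 h
  rcases hodd with ⟨k, hk⟩
  omega

/-- For `q` odd the normalizer of the non-split torus has order `2(q+1)` and `(q+7)/2` classes. -/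
theorem normalizer_nsTorus_odd (hodd : Odd (Fintype.card F)) :
    Nat.card (Subgroup.normalizer ((nsTorus a b : Subgroup (Matrix.SpecialLinearGroup (Fin 2) F)) :
      Set (Matrix.SpecialLinearGroup (Fin 2) F))) = 2 * (Fintype.card F + 1) ∧
    2 * Nat.card (ConjClasses (Subgroup.normalizer
      ((nsTorus a b : Subgroup (Matrix.SpecialLinearGroup (Fin 2) F)) :
      Set (Matrix.SpecialLinearGroup (Fin 2) F)))) = Fintype.card F + 7 := by
  obtain ⟨z₀, hz₀, him⟩ := exists_nonscalar (F := F) a b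
  have h2 : (2 : F) ≠ 0 := two_ne_zero_of_odd hodd
  have hm1 : QuadraticAlgebra.norm (-1 : QuadraticAlgebra F a b) = 1 := by
    rw [QuadraticAlgebra.norm_neg, map_one]
  have key := Helper41_Dicyclic.normalizer_dicyclic (nsTorus a b) (torusElt a b (-1) hm1)
    (fun x hx y hy => nsTorus_comm a b x y hx hy) (torusElt_mem a b _ hm1) ?_
    (exists_normalizer_not_mem a b)
    (fun x hx y hy hxT hyT => normalizer_mul_mem a b z₀ hz₀ him x y hx hy hxT hyT) ?_ ?_
  · rw [card_nsTorus] at key
    exact ⟨key.1, by rw [key.2]⟩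
  · intro h
    have h3 := congrArg (fun g : Matrix.SpecialLinearGroup (Fin 2) F =>
      (g : Matrix (Fin 2) (Fin 2) F) 0 0) h
    have h4 : ((torusElt a b (-1) hm1 : Matrix.SpecialLinearGroup (Fin 2) F) :
        Matrix (Fin 2) (Fin 2) F) = toMat a b (-1) := rfl
    simp only [h4, map_neg, map_one, Matrix.SpecialLinearGroup.coe_one, Matrix.neg_apply,
      Matrix.one_apply_eq] at h3
    apply h2
    linear_combination -h3
  · intro x hx hxT
    apply Subtype.ext
    rw [Matrix.SpecialLinearGroup.coe_mul, normalizer_mul_self a b z₀ hz₀ him x hx hxT]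
    change (-1 : Matrix (Fin 2) (Fin 2) F) = toMat a b (-1)
    rw [map_neg, map_one]
  · rintro t ⟨w, hw, htw⟩ htt
    have h3 := congrArg (fun g : Matrix.SpecialLinearGroup (Fin 2) F =>
      (g : Matrix (Fin 2) (Fin 2) F)) htt
    simp only [Matrix.SpecialLinearGroup.coe_mul, Matrix.SpecialLinearGroup.coe_one, htw] at h3
    rw [← map_mul, ← map_one (toMat a b)] at h3
    rcases mul_self_eq_one_iff.1 (toMat_injective a b h3) with h4 | h4
    · left
      apply Subtype.ext
      rw [htw, h4, map_one, Matrix.SpecialLinearGroup.coe_one]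
    · right
      apply Subtype.ext
      rw [htw, h4]
      rfl

end summary

end Cfsg.Agent.Lib.Helper41_SL2Torus
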