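import Mathlib
import Cfsg.Agent.Lib.Helper50_SL2Mat

/-!
# Interface between subgroups of `SL(2,F)` and of `PSL(2,F)` (helper50, Dickson project)

* `mem_center_iff` : the centre of `SL(2,F)` consists of the scalar elements;
* `iso_of_hom` : a homomorphism from `Ĥ ≤ SL(2,F)` whose kernel is the set of scalars of `Ĥ`
  identifies the image of `Ĥ` in `PSL(2,F)` with its range;
* `iso_of_equiv` : images in `PSL(2,F)` of `Ĥ` and of `α(Ĥ)` are isomorphic for an automorphism `α`;
* `dc` : the diagonal automorphism `x ↦ diag(1,α) x diag(1,α)⁻¹`.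
-/

set_option autoImplicit false

namespace Cfsg.Agent.Lib.Helper50_DkPSL

open Matrix Cfsg.Agent.Lib.Helper50_SL2Mat
open scoped MatrixGroups

variable {F : Type*} [Field F]

/-- the projection onto `PSL(2,F)` -/
abbrev proj : SL(2, F) →* Matrix.ProjectiveSpecialLinearGroup (Fin 2) F :=
  QuotientGroup.mk' (Subgroup.center SL(2, F))

theorem mem_center_iff (g : SL(2, F)) : g ∈ Subgroup.center SL(2, F) ↔ IsScalar g := by
  constructor
  · intro hg
    have h1 := Subgroup.mem_center_iff.1 hg (tU 1)
    have h2 := Subgroup.mem_center_iff.1 hg (tL 1)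
    have a1 := congrArg (fun m : SL(2, F) => m 0 0) h1
    have a2 := congrArg (fun m : SL(2, F) => m 0 1) h1
    have b1 := congrArg (fun m : SL(2, F) => m 0 0) h2
    simp only [mul00, mul01, tU00, tU01, tU10, tU11, tL00, tL01, tL10] at a1 a2 b1
    refine ⟨?_, ?_, ?_⟩
    · linear_combination -b1
    · linear_combination a1
    · linear_combination -a2
  · intro hg
    rw [Subgroup.mem_center_iff]
    intro h
    exact ((hg.commute h).eq).symm

theorem proj_eq_one_iff (g : SL(2, F)) : proj g = 1 ↔ IsScalar g := by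
  rw [← mem_center_iff]
  exact QuotientGroup.eq_one_iff g

theorem proj_surjective : Function.Surjective (proj : SL(2, F) → _) :=
  QuotientGroup.mk'_surjective _

/-- every subgroup of `PSL(2,F)` is the image of its preimage -/
theorem map_comap_proj (H : Subgroup (Matrix.ProjectiveSpecialLinearGroup (Fin 2) F)) :
    (H.comap proj).map proj = H :=
  Subgroup.map_comap_eq_self_of_surjective proj_surjective H

/-- the restriction of the projection to a subgroup, onto its image -/
noncomputable def projRestrict (K : Subgroup SL(2, F)) : K →* (K.map proj) :=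
  (proj.comp K.subtype).codRestrict (K.map proj) (fun x => ⟨x.1, x.2, rfl⟩)

theorem projRestrict_surjective (K : Subgroup SL(2, F)) :
    Function.Surjective (projRestrict K) := by
  rintro ⟨_, ⟨x, hx, rfl⟩⟩
  exact ⟨⟨x, hx⟩, rfl⟩

theorem projRestrict_eq_one_iff (K : Subgroup SL(2, F)) (x : K) :
    projRestrict K x = 1 ↔ IsScalar (x : SL(2, F)) := by
  rw [← proj_eq_one_iff]
  constructor
  · intro h
    exact congrArg Subtype.val h
  · intro h
    exact Subtype.ext h

@[simp] theorem coe_projRestrict (K : Subgroup SL(2, F)) (x : K) :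
    ((projRestrict K x : K.map proj) : Matrix.ProjectiveSpecialLinearGroup (Fin 2) F) =
      proj (x : SL(2, F)) := rfl

/-- a homomorphism with kernel the scalars identifies the image in `PSL(2,F)` with its range -/
theorem iso_of_hom {X : Type*} [Group X] (K : Subgroup SL(2, F)) (φ : K →* X)
    (hker : ∀ x : K, φ x = 1 ↔ IsScalar (x : SL(2, F))) :
    Nonempty ((K.map proj) ≃* φ.range) := by
  have hk : (projRestrict K).ker = φ.ker := by
    ext x
    rw [MonoidHom.mem_ker, MonoidHom.mem_ker, projRestrict_eq_one_iff, hker]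
  have e1 := QuotientGroup.quotientKerEquivOfSurjective (projRestrict K)
    (projRestrict_surjective K)
  have e2 := QuotientGroup.quotientMulEquivOfEq hk
  have e3 := QuotientGroup.quotientKerEquivRange φ
  exact ⟨e1.symm.trans (e2.trans e3)⟩

/-- surjective version -/
theorem iso_of_hom_surjective {X : Type*} [Group X] (K : Subgroup SL(2, F)) (φ : K →* X)
    (hker : ∀ x : K, φ x = 1 ↔ IsScalar (x : SL(2, F))) (hsurj : Function.Surjective φ) :
    Nonempty ((K.map proj) ≃* X) := by
  obtain ⟨e⟩ := iso_of_hom K φ hker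
  have : φ.range = ⊤ := MonoidHom.range_eq_top.2 hsurj
  exact ⟨e.trans ((MulEquiv.subgroupCongr this).trans Subgroup.topEquiv)⟩

theorem isScalar_map_equiv (α : SL(2, F) ≃* SL(2, F)) (g : SL(2, F)) :
    IsScalar (α g) ↔ IsScalar g := by
  rw [← mem_center_iff, ← mem_center_iff]
  constructor
  · intro h
    rw [Subgroup.mem_center_iff] at h ⊢
    intro x
    apply α.injective
    rw [map_mul, map_mul]
    exact h (α x)
  · intro h
    rw [Subgroup.mem_center_iff] at h ⊢
    intro x
    obtain ⟨y, rfl⟩ := α.surjective x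
    rw [← map_mul, ← map_mul, h y]

/-- images in `PSL(2,F)` of a subgroup and of its image under an automorphism of `SL(2,F)` -/
theorem iso_of_equiv (α : SL(2, F) ≃* SL(2, F)) (K : Subgroup SL(2, F)) :
    Nonempty ((K.map proj) ≃* ((K.map α.toMonoidHom).map proj)) := by
  let φ : K →* ((K.map α.toMonoidHom).map proj) :=
    ((proj.comp α.toMonoidHom).comp K.subtype).codRestrict _
      (fun x => ⟨α x.1, ⟨x.1, x.2, rfl⟩, rfl⟩)
  apply iso_of_hom_surjective K φ
  · intro x
    rw [← isScalar_map_equiv α, ← proj_eq_one_iff]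
    constructor
    · intro h; exact congrArg Subtype.val h
    · intro h; exact Subtype.ext h
  · rintro ⟨_, ⟨_, ⟨x, hx, rfl⟩, rfl⟩⟩
    exact ⟨⟨x, hx⟩, rfl⟩

/-- the diagonal automorphism `x ↦ [[x00, x01/α],[α x10, x11]]` -/
noncomputable def dcHom (α : F) (hα : α ≠ 0) : SL(2, F) →* SL(2, F) where
  toFun x := mk (x 0 0) (x 0 1 / α) (α * x 1 0) (x 1 1) (by
    have := det1 x
    field_simp
    linear_combination this)
  map_one' := by apply ext4 <;> simp
  map_mul' x y := by
    apply ext4 <;> simp only [mul00, mul01, mul10, mul11, mk00, mk01, mk10, mk11]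
    · field_simp
    · field_simp
    · ring
    · field_simp

theorem dcHom_comp (α β : F) (hα : α ≠ 0) (hβ : β ≠ 0) (h : α * β = 1) (x : SL(2, F)) :
    dcHom α hα (dcHom β hβ x) = x := by
  have hβ' : β = α⁻¹ := eq_inv_of_mul_eq_one_right h
  subst hβ'
  apply ext4 <;> simp only [dcHom, MonoidHom.coe_mk, OneHom.coe_mk, mk00, mk01, mk10, mk11]
  · field_simp
  · field_simp

/-- the diagonal automorphism as an equivalence -/
noncomputable def dc (α : F) (hα : α ≠ 0) : SL(2, F) ≃* SL(2, F) :=
  MulEquiv.ofBijective (dcHom α hα) (by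
    constructor
    · intro x y hxy
      have := congrArg (dcHom α⁻¹ (inv_ne_zero hα)) hxy
      rwa [dcHom_comp _ _ _ _ (inv_mul_cancel₀ hα), dcHom_comp _ _ _ _ (inv_mul_cancel₀ hα)] at this
    · intro x
      exact ⟨dcHom α⁻¹ (inv_ne_zero hα) x, dcHom_comp _ _ _ _ (mul_inv_cancel₀ hα) x⟩)

theorem dc_apply (α : F) (hα : α ≠ 0) (x : SL(2, F)) : dc α hα x = dcHom α hα x := rfl

theorem dc_tU (α : F) (hα : α ≠ 0) : dc α hα (tU α) = tU 1 := by
  rw [dc_apply]
  apply ext4 <;> simp [dcHom, hα]

theorem dc_tL (α : F) (hα : α ≠ 0) : dc α hα (tL (1 / α)) = tL 1 := by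
  rw [dc_apply]
  apply ext4 <;> simp [dcHom, hα]

end Cfsg.Agent.Lib.Helper50_DkPSL
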