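import Mathlib
import Cfsg.Agent.S0260
import Cfsg.Agent.Lib.Helper50_SL2Dickson
import Cfsg.Agent.Lib.Helper50_DkPSL

/-!
# Dickson's list as a predicate, and the `p`-closed case (helper50)

`DList F p q X` is the conclusion of Dickson's theorem (statement S0799) for an abstract group `X`.
`borel_case`: a subgroup of `SL(2,F)` with a nontrivial normal Sylow `p`-subgroup has image in
`PSL(2,F)` isomorphic to a subgroup of the normaliser of a Sylow `p`-subgroup.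
-/

set_option autoImplicit false

namespace Cfsg.Agent.Lib.Helper50_DkBorel

open Matrix Cfsg.Agent.Lib.Helper50_SL2Mat Cfsg.Agent.Lib.Helper50_DkPSL
open scoped MatrixGroups

/-- the conclusion of Dickson's theorem for an abstract group `X` -/
def DList (F : Type*) [Field F] [Fintype F] (p q : ℕ) [Fact p.Prime] (X : Type*) [Group X] :
    Prop :=
  (∃ k : ℕ, (k ∣ (q + 1) / Nat.gcd 2 (q - 1) ∨ k ∣ (q - 1) / Nat.gcd 2 (q - 1)) ∧
      ((IsCyclic X ∧ Nat.card X = k) ∨ Nonempty (X ≃* DihedralGroup k))) ∨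
    (∃ (P : Sylow p (Matrix.ProjectiveSpecialLinearGroup (Fin 2) F))
        (K : Subgroup (Matrix.ProjectiveSpecialLinearGroup (Fin 2) F)),
        K ≤ Subgroup.normalizer ((P : Subgroup (Matrix.ProjectiveSpecialLinearGroup (Fin 2) F)) :
          Set (Matrix.ProjectiveSpecialLinearGroup (Fin 2) F)) ∧ Nonempty (X ≃* K)) ∨
    Nonempty (X ≃* alternatingGroup (Fin 4)) ∨ Nonempty (X ≃* Equiv.Perm (Fin 4)) ∨
    Nonempty (X ≃* alternatingGroup (Fin 5)) ∨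
    (∃ (K : Type) (_ : Field K) (_ : Fintype K) (m : ℕ), Fintype.card K ^ m = q ∧
      (Nonempty (X ≃* Matrix.ProjectiveSpecialLinearGroup (Fin 2) K) ∨
        Nonempty (X ≃* Matrix.ProjGenLinGroup (Fin 2) K)))

theorem DList.congr {F : Type*} [Field F] [Fintype F] {p q : ℕ} [Fact p.Prime] {X Y : Type*}
    [Group X] [Group Y] (e : X ≃* Y) (h : DList F p q X) : DList F p q Y := by
  rcases h with ⟨k, hk, h | ⟨⟨f⟩⟩⟩ | ⟨P, K, hK, ⟨f⟩⟩ | ⟨⟨f⟩⟩ | ⟨⟨f⟩⟩ | ⟨⟨f⟩⟩ |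
    ⟨K, i1, i2, m, hm, ⟨⟨f⟩⟩ | ⟨⟨f⟩⟩⟩
  · left
    refine ⟨k, hk, Or.inl ⟨?_, ?_⟩⟩
    · have := h.1
      exact isCyclic_of_surjective e e.surjective
    · rw [← h.2]; exact (Nat.card_congr e.toEquiv).symm
  · left; exact ⟨k, hk, Or.inr ⟨e.symm.trans f⟩⟩
  · right; left; exact ⟨P, K, hK, ⟨e.symm.trans f⟩⟩
  · right; right; left; exact ⟨e.symm.trans f⟩
  · right; right; right; left; exact ⟨e.symm.trans f⟩
  · right; right; right; right; left; exact ⟨e.symm.trans f⟩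
  · right; right; right; right; right
    exact ⟨K, i1, i2, m, hm, Or.inl ⟨e.symm.trans f⟩⟩
  · right; right; right; right; right
    exact ⟨K, i1, i2, m, hm, Or.inr ⟨e.symm.trans f⟩⟩

variable {F : Type*} [Field F]

/-- conjugating `tU b` (`b ≠ 0`) to an upper unitriangular element forces `h 1 0 = 0` -/
theorem lower_zero_of_conj {h : SL(2, F)} {b b' : F} (hb : b ≠ 0)
    (hh : h * tU b * h⁻¹ = tU b') : h 1 0 = 0 := by
  obtain ⟨-, -, c10, -⟩ := conj_tU h b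
  rw [hh, tU10] at c10
  have : b * (h 1 0 * h 1 0) = 0 := by linear_combination c10
  rcases mul_eq_zero.1 this with h0 | h0
  · exact absurd h0 hb
  · exact mul_self_eq_zero.1 h0

variable [Fintype F] (p : ℕ) [Fact p.Prime] [CharP F p]

/-- a subgroup with a nontrivial normal `p`-subgroup is conjugate into the Borel subgroup -/
theorem exists_conj_lower_zero (K P : Subgroup SL(2, F)) (hP : IsPGroup p P)
    (hP1 : P ≠ ⊥) (hn : ∀ k ∈ K, ∀ x ∈ P, k * x * k⁻¹ ∈ P) :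
    ∃ g : SL(2, F), ∀ k ∈ K, (g⁻¹ * k * g) 1 0 = 0 := by
  obtain ⟨g, hg⟩ := Cfsg.Agent.Lib.Helper50_SL2Dickson.exists_conj_of_isPGroup p P hP
  obtain ⟨x₀, hx₀, hx₀1⟩ : ∃ x ∈ P, x ≠ 1 := by
    by_contra h
    push Not at h
    exact hP1 ((Subgroup.eq_bot_iff_forall P).2 h)
  obtain ⟨b₀, hb₀⟩ := hg x₀ hx₀
  have hb₀0 : b₀ ≠ 0 := by
    rintro rfl
    rw [tU_zero] at hb₀
    apply hx₀1
    calc x₀ = g * (g⁻¹ * x₀ * g) * g⁻¹ := by group
      _ = 1 := by rw [hb₀]; group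
  refine ⟨g, fun k hk => ?_⟩
  obtain ⟨b₁, hb₁⟩ := hg _ (hn k hk x₀ hx₀)
  apply lower_zero_of_conj hb₀0 (b' := b₁)
  rw [← hb₀, ← hb₁]
  group

/-- **The `p`-closed case.** -/
theorem borel_case (q : ℕ) (K P : Subgroup SL(2, F)) (hP : IsPGroup p P)
    (hP1 : P ≠ ⊥) (hn : ∀ k ∈ K, ∀ x ∈ P, k * x * k⁻¹ ∈ P) :
    DList F p q ↥(K.map proj) := by
  obtain ⟨g, hg⟩ := exists_conj_lower_zero p K P hP hP1 hn
  obtain ⟨e⟩ := iso_of_equiv (MulAut.conj g⁻¹) K
  refine DList.congr e.symm ?_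
  right; left
  refine ⟨(Cfsg.Agent.S0260.US p).mapSurjective proj_surjective,
    (K.map (MulAut.conj g⁻¹).toMonoidHom).map proj, ?_, ⟨MulEquiv.refl _⟩⟩
  rw [Sylow.coe_mapSurjective]
  refine le_trans ?_ (Subgroup.le_normalizer_map proj)
  apply Subgroup.map_mono
  rintro _ ⟨k, hk, rfl⟩
  have h10 : (g⁻¹ * k * g) 1 0 = 0 := hg k hk
  have := Cfsg.Agent.S0260.smul_US_eq_of_lower_zero p (g⁻¹ * k * g) h10
  rw [Sylow.smul_eq_iff_mem_normalizer] at this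
  show (MulAut.conj g⁻¹) k ∈ _
  rw [MulAut.conj_apply, inv_inv]
  exact this

end Cfsg.Agent.Lib.Helper50_DkBorel
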