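import Mathlib

/-!
Groups in which commuting is transitive outside a central subgroup `Z`:
the classes `cls x` (elements whose "torus" is conjugate to that of `x`) and their sizes.
Also an elementary orbit-stabiliser count for conjugation by a subgroup.
-/

set_option autoImplicit false

namespace Cfsg.Agent.Lib.Helper50_CTClass

variable {Γ : Type*} [Group Γ]

/-- Commuting is transitive outside the central subgroup `Z`. -/
structure CT (Z : Subgroup Γ) : Prop where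
  central : ∀ z ∈ Z, ∀ g : Γ, Commute z g
  trans : ∀ x y w : Γ, y ∉ Z → Commute x y → Commute y w → Commute x w

variable {Z : Subgroup Γ}

theorem CT.conj_mem_iff (h : CT Z) (g y : Γ) : g * y * g⁻¹ ∈ Z ↔ y ∈ Z := by
  constructor
  · intro hy
    have hc := h.central _ hy g⁻¹
    have e : y = g⁻¹ * (g * y * g⁻¹) * g := by group
    rw [e, ← hc.eq, mul_assoc, inv_mul_cancel, mul_one]
    exact hy
  · intro hy
    have hc := h.central _ hy g
    rw [← hc.eq, mul_assoc, mul_inv_cancel, mul_one]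
    exact hy

theorem commute_conj {a b : Γ} (g : Γ) (h : Commute a b) :
    Commute (g * a * g⁻¹) (g * b * g⁻¹) := by
  unfold Commute SemiconjBy at *
  calc g * a * g⁻¹ * (g * b * g⁻¹) = g * (a * b) * g⁻¹ := by group
    _ = g * (b * a) * g⁻¹ := by rw [h]
    _ = g * b * g⁻¹ * (g * a * g⁻¹) := by group

theorem commute_of_conj {a b : Γ} (g : Γ) (h : Commute (g * a * g⁻¹) (g * b * g⁻¹)) :
    Commute a b := by
  have := commute_conj g⁻¹ h
  have e1 : g⁻¹ * (g * a * g⁻¹) * g⁻¹⁻¹ = a := by group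
  have e2 : g⁻¹ * (g * b * g⁻¹) * g⁻¹⁻¹ = b := by group
  rwa [e1, e2] at this

/-- the class of `x` -/
def cls (Z : Subgroup Γ) (x : Γ) : Set Γ := {y | y ∉ Z ∧ ∃ g : Γ, Commute (g * x * g⁻¹) y}

theorem mem_cls_self {x : Γ} (hx : x ∉ Z) : x ∈ cls Z x :=
  ⟨hx, 1, by simp⟩

theorem CT.cls_subset (h : CT Z) {x y : Γ} (hx : x ∉ Z) (hy : y ∈ cls Z x) :
    cls Z y ⊆ cls Z x := by
  obtain ⟨hyZ, g, hg⟩ := hy
  rintro w ⟨hwZ, k, hk⟩
  refine ⟨hwZ, k * g, ?_⟩
  -- (kg) x (kg)⁻¹ commutes with k y k⁻¹ which commutes with w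
  have h1 : Commute (k * (g * x * g⁻¹) * k⁻¹) (k * y * k⁻¹) := commute_conj k hg
  have e : k * g * x * (k * g)⁻¹ = k * (g * x * g⁻¹) * k⁻¹ := by group
  rw [e]
  exact h.trans _ _ _ (fun hh => hyZ ((h.conj_mem_iff k y).1 hh)) h1 hk

theorem CT.mem_cls_symm (h : CT Z) {x y : Γ} (hx : x ∉ Z) (hy : y ∈ cls Z x) :
    x ∈ cls Z y := by
  obtain ⟨hyZ, g, hg⟩ := hy
  refine ⟨hx, g⁻¹, ?_⟩
  have := commute_conj g⁻¹ hg.symm
  have e1 : g⁻¹ * (g * x * g⁻¹) * g⁻¹⁻¹ = x := by group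
  rwa [e1] at this

theorem CT.cls_eq (h : CT Z) {x y : Γ} (hx : x ∉ Z) (hy : y ∈ cls Z x) :
    cls Z y = cls Z x :=
  Set.Subset.antisymm (h.cls_subset hx hy) (h.cls_subset hy.1 (h.mem_cls_symm hx hy))

theorem CT.cls_disjoint (h : CT Z) {x y : Γ} (hx : x ∉ Z) (hy : y ∉ Z) (hxy : y ∉ cls Z x) :
    Disjoint (cls Z x) (cls Z y) := by
  rw [Set.disjoint_left]
  intro w hwx hwy
  apply hxy
  have e1 := h.cls_eq hx hwx
  have e2 := h.cls_eq hy hwy
  rw [← e1, e2]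
  exact mem_cls_self hy

theorem CT.le_centralizer (h : CT Z) (x : Γ) : Z ≤ Subgroup.centralizer {x} := by
  intro z hz
  rw [Subgroup.mem_centralizer_singleton_iff]
  exact ((h.central z hz x).eq)

theorem mem_centralizer_iff_commute {x c : Γ} :
    c ∈ Subgroup.centralizer ({x} : Set Γ) ↔ Commute c x := by
  rw [Subgroup.mem_centralizer_singleton_iff]
  exact Iff.rfl

/-- If `h x h⁻¹` commutes with `x` (noncentral), then `h` normalises `C(x)`. -/
theorem CT.mem_normalizer (hZ : CT Z) {x : Γ} (hx : x ∉ Z) {k : Γ}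
    (hk : Commute (k * x * k⁻¹) x) :
    k ∈ Subgroup.normalizer ((Subgroup.centralizer ({x} : Set Γ) : Subgroup Γ) : Set Γ) := by
  rw [Subgroup.mem_normalizer_iff]
  intro a
  have hkx : k * x * k⁻¹ ∉ Z := fun hh => hx ((hZ.conj_mem_iff k x).1 hh)
  rw [mem_centralizer_iff_commute, mem_centralizer_iff_commute]
  constructor
  · intro ha
    exact hZ.trans _ _ _ hkx (commute_conj k ha) hk
  · intro ha
    have : Commute (k * a * k⁻¹) (k * x * k⁻¹) := hZ.trans _ _ _ hx ha hk.symm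
    exact commute_of_conj k this

theorem CT.conj_mem_centralizer (hZ : CT Z) {x : Γ} {k : Γ}
    (hk : k ∈ Subgroup.normalizer ((Subgroup.centralizer ({x} : Set Γ) : Subgroup Γ) : Set Γ)) :
    Commute (k * x * k⁻¹) x := by
  rw [Subgroup.mem_normalizer_iff] at hk
  have := (hk x).1 (by rw [mem_centralizer_iff_commute])
  rwa [mem_centralizer_iff_commute] at this

/-- The size of a class. -/
theorem CT.card_cls [Finite Γ] (hZ : CT Z) {x : Γ} (hx : x ∉ Z) :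
    (cls Z x).ncard *
      Nat.card (Subgroup.normalizer ((Subgroup.centralizer ({x} : Set Γ) : Subgroup Γ) : Set Γ)) =
    Nat.card Γ * (Nat.card (Subgroup.centralizer ({x} : Set Γ)) - Nat.card Z) := by
  classical
  set C := Subgroup.centralizer ({x} : Set Γ) with hC
  set Nn := Subgroup.normalizer (C : Set Γ) with hNn
  have hchoose : ∀ y : cls Z x, ∃ g : Γ, Commute (g * x * g⁻¹) (y : Γ) := fun y => y.2.2
  choose gy hgy using hchoose
  -- the set C \ Z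
  have hcard : Nat.card {c : Γ // c ∈ C ∧ c ∉ Z} = Nat.card C - Nat.card Z := by
    have h1 : Nat.card {c : Γ // c ∈ C ∧ c ∉ Z} = ((C : Set Γ) \ (Z : Set Γ)).ncard := by
      rw [← Nat.card_coe_set_eq]; rfl
    rw [h1, Set.ncard_sdiff (hZ.le_centralizer x)]
    rfl
  rw [← hcard, ← Nat.card_coe_set_eq, ← Nat.card_prod, ← Nat.card_prod]
  apply Nat.card_congr
  refine
    { toFun := fun yn => (gy yn.1 * yn.2.1, ⟨(gy yn.1 * yn.2.1)⁻¹ * yn.1.1 * (gy yn.1 * yn.2.1), ?_, ?_⟩)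
      invFun := fun gc => (⟨gc.1 * gc.2.1 * gc.1⁻¹, ?_⟩, ⟨(gy ⟨gc.1 * gc.2.1 * gc.1⁻¹, ?_⟩)⁻¹ * gc.1, ?_⟩)
      left_inv := ?_
      right_inv := ?_ }
  · -- membership in C
    obtain ⟨y, n⟩ := yn
    rw [mem_centralizer_iff_commute]
    have hn := hZ.conj_mem_centralizer n.2
    -- y commutes with gy (n x n⁻¹) gy⁻¹
    have hnx : n.1 * x * n.1⁻¹ ∉ Z := fun hh => hx ((hZ.conj_mem_iff _ x).1 hh)
    have h1 : Commute (gy y * (n.1 * x * n.1⁻¹) * (gy y)⁻¹) (gy y * x * (gy y)⁻¹) :=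
      commute_conj _ hn
    have h2 : Commute (gy y * (n.1 * x * n.1⁻¹) * (gy y)⁻¹) (y : Γ) :=
      hZ.trans _ _ _ (fun hh => hx ((hZ.conj_mem_iff _ x).1 hh)) h1 (hgy y)
    have h3 := commute_conj (gy y * n.1)⁻¹ h2
    have e1 : (gy y * n.1)⁻¹ * (gy y * (n.1 * x * n.1⁻¹) * (gy y)⁻¹) * (gy y * n.1)⁻¹⁻¹ = x := by
      group
    rw [e1] at h3
    have e2 : (gy y * n.1)⁻¹ * (y : Γ) * (gy y * n.1)⁻¹⁻¹ = (gy y * n.1)⁻¹ * y * (gy y * n.1) := by
      group
    rw [e2] at h3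
    exact h3.symm
  · obtain ⟨y, n⟩ := yn
    intro hh
    have := (hZ.conj_mem_iff (gy y * n.1)⁻¹ (y : Γ)).1 (by simpa using hh)
    exact y.2.1 this
  · -- g c g⁻¹ ∈ cls
    refine ⟨fun hh => gc.2.2.2 ((hZ.conj_mem_iff _ _).1 hh), gc.1, ?_⟩
    exact commute_conj _ (mem_centralizer_iff_commute.1 gc.2.2.1).symm
  · refine ⟨fun hh => gc.2.2.2 ((hZ.conj_mem_iff _ _).1 hh), gc.1, ?_⟩
    exact commute_conj _ (mem_centralizer_iff_commute.1 gc.2.2.1).symm
  · -- gy⁻¹ g ∈ Nn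
    set y : cls Z x := ⟨gc.1 * gc.2.1 * gc.1⁻¹, _⟩ with hy
    apply hZ.mem_normalizer hx
    -- (gy⁻¹ g) x (gy⁻¹ g)⁻¹ commutes with x  ⇔  g x g⁻¹ commutes with gy x gy⁻¹
    have hc : Commute (gc.1 * x * gc.1⁻¹) (y : Γ) :=
      commute_conj _ (mem_centralizer_iff_commute.1 gc.2.2.1).symm
    have h1 : Commute (gc.1 * x * gc.1⁻¹) (gy y * x * (gy y)⁻¹) :=
      hZ.trans _ _ _ y.2.1 hc (hgy y).symm
    have h2 := commute_conj (gy y)⁻¹ h1
    have e1 : (gy y)⁻¹ * (gc.1 * x * gc.1⁻¹) * (gy y)⁻¹⁻¹ = (gy y)⁻¹ * gc.1 * x * ((gy y)⁻¹ * gc.1)⁻¹ := by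
      group
    have e2 : (gy y)⁻¹ * (gy y * x * (gy y)⁻¹) * (gy y)⁻¹⁻¹ = x := by group
    rwa [e1, e2] at h2
  · rintro ⟨y, n⟩
    have e : (⟨gy y * n.1 * ((gy y * n.1)⁻¹ * y.1 * (gy y * n.1)) * (gy y * n.1)⁻¹, by
        have : gy y * n.1 * ((gy y * n.1)⁻¹ * y.1 * (gy y * n.1)) * (gy y * n.1)⁻¹ = y.1 := by group
        rw [this]; exact y.2⟩ : cls Z x) = y := by
      apply Subtype.ext
      show gy y * n.1 * ((gy y * n.1)⁻¹ * y.1 * (gy y * n.1)) * (gy y * n.1)⁻¹ = y.1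
      group
    ext
    · exact congrArg Subtype.val e
    · show (gy _)⁻¹ * (gy y * n.1) = n.1
      rw [e]; group
  · rintro ⟨g, c⟩
    ext
    · show gy _ * ((gy _)⁻¹ * g) = g
      group
    · show (gy _ * ((gy _)⁻¹ * g))⁻¹ * (g * c.1 * g⁻¹) * (gy _ * ((gy _)⁻¹ * g)) = c.1
      group

/-- orbit-stabiliser for conjugation by a subgroup containing the centraliser -/
theorem card_eq_orbit_mul_centralizer [Finite Γ] (N : Subgroup Γ) (x : Γ)
    (hC : Subgroup.centralizer ({x} : Set Γ) ≤ N) :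
    Nat.card N = {y : Γ | ∃ n ∈ N, n * x * n⁻¹ = y}.ncard *
      Nat.card (Subgroup.centralizer ({x} : Set Γ)) := by
  classical
  set O : Set Γ := {y : Γ | ∃ n ∈ N, n * x * n⁻¹ = y} with hO
  have hchoose : ∀ y : O, ∃ n : Γ, n ∈ N ∧ n * x * n⁻¹ = (y : Γ) := fun y => y.2
  choose ny hnyN hny using hchoose
  rw [← Nat.card_coe_set_eq, ← Nat.card_prod]
  apply Nat.card_congr
  refine
    { toFun := fun n => (⟨n.1 * x * n.1⁻¹, n.1, n.2, rfl⟩,
        ⟨(ny ⟨n.1 * x * n.1⁻¹, n.1, n.2, rfl⟩)⁻¹ * n.1, ?_⟩)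
      invFun := fun yc => ⟨ny yc.1 * yc.2.1, N.mul_mem (hnyN yc.1) (hC yc.2.2)⟩
      left_inv := ?_
      right_inv := ?_ }
  · rw [mem_centralizer_iff_commute]
    set y : O := ⟨n.1 * x * n.1⁻¹, n.1, n.2, rfl⟩ with hy
    have h1 : ny y * x * (ny y)⁻¹ = n.1 * x * n.1⁻¹ := hny y
    unfold Commute SemiconjBy
    calc (ny y)⁻¹ * n.1 * x = (ny y)⁻¹ * (n.1 * x * n.1⁻¹) * n.1 := by group
      _ = (ny y)⁻¹ * (ny y * x * (ny y)⁻¹) * n.1 := by rw [h1]
      _ = x * ((ny y)⁻¹ * n.1) := by group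
  · intro n
    apply Subtype.ext
    show ny _ * ((ny _)⁻¹ * n.1) = n.1
    group
  · rintro ⟨y, c⟩
    have hc : Commute c.1 x := mem_centralizer_iff_commute.1 c.2
    have e : (⟨ny y * c.1 * x * (ny y * c.1)⁻¹, ny y * c.1, N.mul_mem (hnyN y) (hC c.2), rfl⟩ : O)
        = y := by
      apply Subtype.ext
      show ny y * c.1 * x * (ny y * c.1)⁻¹ = y.1
      rw [← hny y]
      calc ny y * c.1 * x * (ny y * c.1)⁻¹ = ny y * (c.1 * x) * c.1⁻¹ * (ny y)⁻¹ := by group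
        _ = ny y * (x * c.1) * c.1⁻¹ * (ny y)⁻¹ := by rw [hc.eq]
        _ = ny y * x * (ny y)⁻¹ := by group
    ext
    · exact congrArg Subtype.val e
    · show (ny _)⁻¹ * (ny y * c.1) = c.1
      rw [e]; group

/-- If any two elements of `N \ A` differ by an element of `A`, then `|N| ∈ {|A|, 2|A|}`. -/
theorem card_eq_or_two_mul [Finite Γ] (A N : Subgroup Γ) (hAN : A ≤ N)
    (h : ∀ g k : Γ, g ∈ N → k ∈ N → g ∉ A → k ∉ A → g⁻¹ * k ∈ A) :
    Nat.card N = Nat.card A ∨ Nat.card N = 2 * Nat.card A := by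
  classical
  by_cases hNA : N ≤ A
  · left; rw [le_antisymm hNA hAN]
  · right
    obtain ⟨g, hgN, hgA⟩ := SetLike.not_le_iff_exists.1 hNA
    have hset : (N : Set Γ) = (A : Set Γ) ∪ (fun a => g * a) '' (A : Set Γ) := by
      ext k
      constructor
      · intro hk
        by_cases hkA : k ∈ A
        · exact Or.inl hkA
        · right
          exact ⟨g⁻¹ * k, h g k hgN hk hgA hkA, by group⟩
      · rintro (hk | ⟨a, ha, rfl⟩)
        · exact hAN hk
        · exact N.mul_mem hgN (hAN ha)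
    have hdisj : Disjoint (A : Set Γ) ((fun a => g * a) '' (A : Set Γ)) := by
      rw [Set.disjoint_left]
      rintro k hk ⟨a, ha, rfl⟩
      apply hgA
      have : g = g * a * a⁻¹ := by group
      rw [this]
      exact A.mul_mem hk (A.inv_mem ha)
    have h1 : Nat.card N = (N : Set Γ).ncard := (Nat.card_coe_set_eq _)
    have h2 : Nat.card A = (A : Set Γ).ncard := (Nat.card_coe_set_eq _)
    rw [h1, hset, Set.ncard_union_eq hdisj (Set.toFinite _) (Set.toFinite _),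
      Set.ncard_image_of_injective _ (mul_right_injective g), ← h2]
    ring

end Cfsg.Agent.Lib.Helper50_CTClass
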