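import Cfsg.Agent.Lib.Helper50_SL2Mat
import Cfsg.Agent.Lib.Helper50_CTClass

/-!
A finite group `Γ` with a faithful representation `ρ : Γ →* SL(2,F)` in "standard position":
`ρ u = tU α`, `ρ v = tL β` with `α β ≠ 0`.  Basic subgroups (`Zs`, `Bn`, `Qs`, `Ps`) and their
first properties.
-/

set_option autoImplicit false

namespace Cfsg.Agent.Lib.Helper50_SL2Rep

open Matrix Cfsg.Agent.Lib.Helper50_SL2Mat Cfsg.Agent.Lib.Helper50_CTClass
open scoped MatrixGroups

variable {F : Type*} [Field F]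

/-- upper triangular elements -/
def Bor : Subgroup SL(2, F) where
  carrier := {g | g 1 0 = 0}
  mul_mem' := by
    intro a b ha hb
    simp only [Set.mem_setOf_eq, mul10] at *
    rw [ha, hb]; ring
  one_mem' := one10
  inv_mem' := by
    intro a ha
    simp only [Set.mem_setOf_eq, inv10] at *
    rw [ha]; ring

/-- upper unitriangular elements -/
def Uni : Subgroup SL(2, F) where
  carrier := {g | g 1 0 = 0 ∧ g 0 0 = 1}
  mul_mem' := by
    rintro a b ⟨ha, ha'⟩ ⟨hb, hb'⟩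
    refine ⟨?_, ?_⟩
    · rw [mul10, ha, hb]; ring
    · rw [mul00, ha', hb', hb]; ring
  one_mem' := ⟨one10, one00⟩
  inv_mem' := by
    rintro a ⟨ha, ha'⟩
    refine ⟨?_, ?_⟩
    · rw [inv10, ha]; ring
    · rw [inv00]
      have := det1 a
      rw [ha, ha'] at this
      linear_combination this

/-- upper triangular with equal diagonal entries -/
def PUni : Subgroup SL(2, F) where
  carrier := {g | g 1 0 = 0 ∧ g 0 0 = g 1 1}
  mul_mem' := by
    rintro a b ⟨ha, ha'⟩ ⟨hb, hb'⟩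
    refine ⟨?_, ?_⟩
    · rw [mul10, ha, hb]; ring
    · rw [mul00, mul11, ha', hb', hb, ha]; ring
  one_mem' := ⟨one10, by rw [one00, one11]⟩
  inv_mem' := by
    rintro a ⟨ha, ha'⟩
    refine ⟨?_, ?_⟩
    · rw [inv10, ha]; ring
    · rw [inv00, inv11, ha']

/-- scalar elements -/
def Scal : Subgroup SL(2, F) where
  carrier := {g | IsScalar g}
  mul_mem' := fun ha hb => IsScalar.mul ha hb
  one_mem' := isScalar_one
  inv_mem' := fun ha => IsScalar.inv ha

variable {Γ : Type*} [Group Γ] (ρ : Γ →* SL(2, F))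

/-- elements acting as scalars -/
def Zs : Subgroup Γ := Scal.comap ρ
/-- the stabiliser of the point at infinity -/
def Bn : Subgroup Γ := Bor.comap ρ
/-- unipotent upper triangular part -/
def Qs : Subgroup Γ := Uni.comap ρ
/-- `± ` unipotent upper triangular part -/
def Ps : Subgroup Γ := PUni.comap ρ

variable {ρ}

theorem mem_Zs {g : Γ} : g ∈ Zs ρ ↔ IsScalar (ρ g) := Iff.rfl
theorem mem_Bn {g : Γ} : g ∈ Bn ρ ↔ (ρ g) 1 0 = 0 := Iff.rfl
theorem mem_Qs {g : Γ} : g ∈ Qs ρ ↔ (ρ g) 1 0 = 0 ∧ (ρ g) 0 0 = 1 := Iff.rfl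
theorem mem_Ps {g : Γ} : g ∈ Ps ρ ↔ (ρ g) 1 0 = 0 ∧ (ρ g) 0 0 = (ρ g) 1 1 := Iff.rfl

theorem Qs_le_Ps : Qs ρ ≤ Ps ρ := by
  intro g hg
  obtain ⟨h1, h2⟩ := mem_Qs.1 hg
  refine mem_Ps.2 ⟨h1, ?_⟩
  have := det1 (ρ g)
  rw [h1, h2] at this
  rw [h2]; linear_combination -this

theorem Ps_le_Bn : Ps ρ ≤ Bn ρ := fun _ hg => (mem_Ps.1 hg).1

theorem Zs_le_Ps : Zs ρ ≤ Ps ρ := fun _ hg => mem_Ps.2 ⟨(mem_Zs.1 hg).2.1, (mem_Zs.1 hg).2.2⟩

theorem mem_Qs_iff_exists {g : Γ} : g ∈ Qs ρ ↔ ∃ x : F, ρ g = tU x := by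
  constructor
  · intro hg
    exact ⟨_, eq_tU_of hg.1 hg.2⟩
  · rintro ⟨x, hx⟩
    refine mem_Qs.2 ?_
    rw [hx]; exact ⟨rfl, rfl⟩

/-- commuting in `Γ` can be tested in the image -/
theorem commute_iff_map (hρ : Function.Injective ρ) (a b : Γ) :
    Commute a b ↔ Commute (ρ a) (ρ b) := by
  constructor
  · intro h; exact h.map ρ
  · intro h
    apply hρ
    rw [map_mul, map_mul]
    exact h

/-- commuting transitivity in `Γ` outside `Zs` -/
theorem ct (hρ : Function.Injective ρ) : CT (Zs ρ) where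
  central := by
    intro z hz g
    rw [commute_iff_map hρ]
    exact IsScalar.commute hz _
  trans := by
    intro x y w hy h1 h2
    rw [commute_iff_map hρ] at h1 h2 ⊢
    exact commute_trans hy h1 h2

theorem two_ne_zero_of_char (p : ℕ) [Fact p.Prime] [CharP F p] (hp : p ≠ 2) : (2 : F) ≠ 0 := by
  intro h
  have h2 : ((2 : ℕ) : F) = 0 := by exact_mod_cast h
  rw [CharP.cast_eq_zero_iff F p] at h2
  exact hp ((Nat.prime_dvd_prime_iff_eq Fact.out Nat.prime_two).1 h2)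

/-- `|Zs| ≤ 2` -/
theorem card_Zs_le [Finite Γ] (hρ : Function.Injective ρ) : Nat.card (Zs ρ) ≤ 2 := by
  classical
  have hfin : Finite (({1, negOne} : Set SL(2, F))) := Set.finite_coe_iff.2 (Set.toFinite _)
  have h1 : Nat.card (Zs ρ) ≤ Nat.card (({1, negOne} : Set SL(2, F))) := by
    apply Nat.card_le_card_of_injective
      (fun g : Zs ρ => (⟨ρ g.1, by
        rcases (IsScalar.eq_one_or (mem_Zs.1 g.2)) with h | h
        · exact Or.inl h
        · exact Or.inr h⟩ : ({1, negOne} : Set SL(2, F))))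
    intro a b hab
    apply Subtype.ext
    apply hρ
    exact congrArg Subtype.val hab
  refine le_trans h1 ?_
  rw [Nat.card_coe_set_eq]
  have := Set.ncard_insert_le (1 : SL(2, F)) {negOne}
  rw [Set.ncard_singleton] at this
  exact this

theorem card_Zs_pos [Finite Γ] : 0 < Nat.card (Zs ρ) := Nat.card_pos

/-- an element whose image squares to `1` is scalar -/
theorem isScalar_of_sq {g : SL(2, F)} (h2 : (2 : F) ≠ 0) (h : g * g = 1) : IsScalar g := by
  have e : g = g⁻¹ := eq_inv_of_mul_eq_one_left h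
  have e01 : g 0 1 = -g 0 1 := by conv_lhs => rw [e, inv01]
  have e10 : g 1 0 = -g 1 0 := by conv_lhs => rw [e, inv10]
  have e00 : g 0 0 = g 1 1 := by conv_lhs => rw [e, inv00]
  refine ⟨?_, ?_, e00⟩
  · apply mul_left_cancel₀ h2; linear_combination e01
  · apply mul_left_cancel₀ h2; linear_combination e10

/-- powers of upper triangular elements -/
theorem pow_upper {g : SL(2, F)} (h : g 1 0 = 0) (n : ℕ) :
    (g ^ n) 1 0 = 0 ∧ (g ^ n) 0 0 = (g 0 0) ^ n ∧ (g ^ n) 1 1 = (g 1 1) ^ n := by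
  induction n with
  | zero => simp
  | succ n ih =>
    obtain ⟨i1, i2, i3⟩ := ih
    rw [pow_succ]
    refine ⟨?_, ?_, ?_⟩
    · rw [mul10, i1, h]; ring
    · rw [mul00, i2, h]; ring
    · rw [mul11, i1, i3]; ring

end Cfsg.Agent.Lib.Helper50_SL2Rep
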