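import Mathlib
import Cfsg.Agent.S0260
import Cfsg.Agent.S2437
import Cfsg.Agent.S0265
import Cfsg.Agent.Lib.Helper50_SL2Rep
import Cfsg.Agent.Lib.Helper50_DkBorel
import Cfsg.Agent.Lib.Helper5_PSLCard
import Cfsg.Agent.Lib.Helper35_PSL2Card

/-!
# Orders in `PSL(2,q)` (helper50)

* `card_PSL2`: `|PSL(2,q)| · gcd(2, q-1) = q (q² - 1)`;
* `index_Bb`: the image of the Borel subgroup has index `q + 1`;
* `index_normalizer_sylow`: the normaliser of any Sylow `p`-subgroup of `PSL(2,q)` has index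
  `q + 1`.
-/

set_option autoImplicit false

namespace Cfsg.Agent.Lib.Helper50_DkOrders

open Matrix Cfsg.Agent.Lib.Helper50_SL2Mat Cfsg.Agent.Lib.Helper50_DkPSL
  Cfsg.Agent.Lib.Helper50_SL2Rep Cfsg.Agent.Lib.Helper50_DkBorel
open scoped MatrixGroups

variable {F : Type*} [Field F] [Fintype F]

/-- the two parities of `q` -/
theorem two_cases : ((2 : F) = 0 ∧ Nat.gcd 2 (Fintype.card F - 1) = 1 ∧ Even (Fintype.card F)) ∨
    ((2 : F) ≠ 0 ∧ Nat.gcd 2 (Fintype.card F - 1) = 2 ∧ Odd (Fintype.card F)) := by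
  have hq : 2 ≤ Fintype.card F := Fintype.one_lt_card
  by_cases h : Fintype.card F % 2 = 0
  · left
    have hc := FiniteField.even_card_iff_char_two.2 h
    have : CharP F 2 := ringChar.of_eq hc
    refine ⟨CharTwo.two_eq_zero, ?_, Nat.even_iff.2 h⟩
    have hodd : Odd (Fintype.card F - 1) := Nat.odd_iff.2 (by omega)
    exact Nat.coprime_two_left.2 hodd
  · right
    have hodd : Odd (Fintype.card F) := Nat.odd_iff.2 (by omega)
    refine ⟨?_, ?_, hodd⟩
    · intro h2
      apply h
      apply FiniteField.even_card_iff_char_two.1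
      have : CharP F 2 := by
        apply CharTwo.of_one_ne_zero_of_two_eq_zero one_ne_zero h2
      exact ringChar.eq F 2
    · have : (Fintype.card F - 1) % 2 = 0 := by omega
      exact Nat.gcd_eq_left (Nat.dvd_of_mod_eq_zero this)

/-- `|PSL(2,q)| · gcd(2, q - 1) = q (q² - 1)` -/
theorem card_PSL2 : Nat.card PSL(2, F) * Nat.gcd 2 (Fintype.card F - 1) =
    Fintype.card F * (Fintype.card F ^ 2 - 1) := by
  rw [← Cfsg.Agent.Lib.Helper5_PSLCard.card_SL_two,
    Cfsg.Agent.Lib.Helper35_PSL2Card.card_SL2_eq_card_PSL2_mul,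
    Cfsg.Agent.Lib.Helper35_PSL2Card.card_center_SL2]
  rcases two_cases (F := F) with ⟨h2, hg, -⟩ | ⟨h2, hg, -⟩
  · rw [hg, Cfsg.Agent.Lib.Helper35_PSL2Card.card_rootsOfUnity_two_of_eq h2]
  · rw [hg, Cfsg.Agent.Lib.Helper35_PSL2Card.card_rootsOfUnity_two_of_ne h2]

/-- the order of the Borel subgroup of `SL(2,q)` -/
theorem card_Bor : Nat.card (Bor : Subgroup SL(2, F)) = (Fintype.card F - 1) * Fintype.card F := by
  classical
  have e : (Bor : Subgroup SL(2, F)) ≃ Cfsg.Agent.S2437.BSL F :=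
    Equiv.subtypeEquivRight (fun g => by
      rw [Cfsg.Agent.S2437.mem_BSL_iff]
      rfl)
  rw [Nat.card_congr e, ← Nat.card_congr (Cfsg.Agent.S2437.bEquiv (F := F)), Nat.card_prod,
    Nat.card_eq_fintype_card, Nat.card_eq_fintype_card, Fintype.card_units]

theorem index_Bor : (Bor : Subgroup SL(2, F)).index = Fintype.card F + 1 := by
  have h1 := Subgroup.card_mul_index (Bor : Subgroup SL(2, F))
  rw [card_Bor, Cfsg.Agent.Lib.Helper5_PSLCard.card_SL_two] at h1
  have hq : 2 ≤ Fintype.card F := Fintype.one_lt_card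
  obtain ⟨k, hk⟩ : ∃ k, Fintype.card F = k + 2 := ⟨Fintype.card F - 2, by omega⟩
  rw [hk] at h1 ⊢
  have e1 : (k + 2) ^ 2 - 1 = (k + 1) * (k + 3) := by
    have : (k + 2) ^ 2 = (k + 1) * (k + 3) + 1 := by ring
    omega
  rw [e1, show k + 2 - 1 = k + 1 by omega] at h1
  have hpos : 0 < (k + 1) * (k + 2) := by positivity
  apply Nat.eq_of_mul_eq_mul_left hpos
  rw [h1]; ring

/-- the image in `PSL(2,q)` of the Borel subgroup -/
noncomputable def Bb : Subgroup PSL(2, F) := (Bor : Subgroup SL(2, F)).map proj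

theorem ker_proj_le_Bor : (proj : SL(2, F) →* PSL(2, F)).ker ≤ Bor := by
  intro g hg
  rw [MonoidHom.mem_ker, proj_eq_one_iff] at hg
  exact hg.2.1

theorem index_Bb : (Bb : Subgroup PSL(2, F)).index = Fintype.card F + 1 := by
  rw [Bb, Subgroup.index_map_eq _ proj_surjective ker_proj_le_Bor, index_Bor]

variable (p : ℕ) [Fact p.Prime] [CharP F p]

/-- the standard Sylow `p`-subgroup of `PSL(2,q)` -/
noncomputable def PS : Sylow p PSL(2, F) :=
  (Cfsg.Agent.S0260.US p).mapSurjective proj_surjective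

theorem coe_PS : ((PS p : Sylow p PSL(2, F)) : Subgroup PSL(2, F)) =
    (Cfsg.Agent.S0260.U : Subgroup SL(2, F)).map proj := by
  rw [PS, Sylow.coe_mapSurjective, Cfsg.Agent.S0260.coe_US]

theorem tU_mem_U (b : F) : tU b ∈ (Cfsg.Agent.S0260.U : Subgroup SL(2, F)) := by
  rw [← Cfsg.Agent.Lib.Helper50_SL2Dickson.uT_eq_tU]
  exact Cfsg.Agent.S0260.uT_mem_U b

theorem normalizer_PS :
    Subgroup.normalizer (((PS p : Sylow p PSL(2, F)) : Subgroup PSL(2, F)) : Set PSL(2, F)) =
      Bb := by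
  apply le_antisymm
  · intro nb hnb
    obtain ⟨n, rfl⟩ := proj_surjective nb
    refine ⟨n, ?_, rfl⟩
    rw [Subgroup.mem_normalizer_iff] at hnb
    have h1 : proj (tU 1) ∈ ((PS p : Sylow p PSL(2, F)) : Subgroup PSL(2, F)) := by
      rw [coe_PS]
      exact Subgroup.mem_map_of_mem _ (tU_mem_U 1)
    have h2 := (hnb _).1 h1
    rw [coe_PS] at h2
    obtain ⟨u', hu', hu'e⟩ := h2
    obtain ⟨b', rfl⟩ := (Cfsg.Agent.S0260.mem_U_iff u').1 hu'
    rw [Cfsg.Agent.Lib.Helper50_SL2Dickson.uT_eq_tU] at hu'e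
    -- `n * tU 1 * n⁻¹ = tU b' * z` with `z` scalar
    have h3 : proj ((tU b')⁻¹ * (n * tU 1 * n⁻¹)) = 1 := by
      rw [map_mul, map_inv, hu'e, map_mul, map_mul, map_inv, inv_mul_cancel]
    have hz : IsScalar ((tU b')⁻¹ * (n * tU 1 * n⁻¹)) := (proj_eq_one_iff _).1 h3
    set z := (tU b')⁻¹ * (n * tU 1 * n⁻¹) with hzdef
    have hnz : n * tU 1 * n⁻¹ = tU b' * z := by rw [hzdef]; group
    have hz1 : z = 1 := by
      have htr : tr (n * tU 1 * n⁻¹) = 2 := by
        rw [tr_conj]; simp only [tr, tU00, tU11]; norm_num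
      rw [hnz] at htr
      obtain ⟨z01, z10, z00⟩ := hz
      simp only [tr, mul00, mul11, tU00, tU01, tU10, tU11, z01, z10] at htr
      have hsq := IsScalar.sq ⟨z01, z10, z00⟩
      rcases two_cases (F := F) with ⟨h2, -, -⟩ | ⟨h2, -, -⟩
      · -- characteristic two
        have : (z 0 0 - 1) * (z 0 0 - 1) = 0 := by linear_combination hsq + (1 - z 0 0) * h2
        have h00 : z 0 0 = 1 := by
          have := mul_self_eq_zero.1 this
          linear_combination this
        apply ext4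
        · rw [h00, one00]
        · rw [z01, one01]
        · rw [z10, one10]
        · rw [← z00, h00, one11]
      · have h00 : z 0 0 = 1 := by
          have : (2 : F) * (z 0 0 - 1) = 0 := by linear_combination htr + z00
          rcases mul_eq_zero.1 this with h | h
          · exact absurd h h2
          · linear_combination h
        apply ext4
        · rw [h00, one00]
        · rw [z01, one01]
        · rw [z10, one10]
        · rw [← z00, h00, one11]
    rw [hz1, mul_one] at hnz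
    exact lower_zero_of_conj one_ne_zero hnz
  · rw [coe_PS, Bb]
    refine le_trans ?_ (Subgroup.le_normalizer_map proj)
    apply Subgroup.map_mono
    intro k hk
    have h10 : k 1 0 = 0 := hk
    have := Cfsg.Agent.S0260.smul_US_eq_of_lower_zero p k h10
    rw [Sylow.smul_eq_iff_mem_normalizer] at this
    have hN : k ∈ Subgroup.normalizer
        (((Cfsg.Agent.S0260.US p : Sylow p SL(2, F)) : Subgroup SL(2, F)) : Set SL(2, F)) := this
    rw [Cfsg.Agent.S0260.coe_US] at hN
    exact hN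

/-- the normaliser of a Sylow `p`-subgroup of `PSL(2,q)` has index `q + 1` -/
theorem index_normalizer_sylow (P : Sylow p PSL(2, F)) :
    (Subgroup.normalizer ((P : Subgroup PSL(2, F)) : Set PSL(2, F))).index =
      Fintype.card F + 1 := by
  have h1 := Sylow.card_eq_index_normalizer P
  have h2 := Sylow.card_eq_index_normalizer (PS p : Sylow p PSL(2, F))
  have h3 : (Subgroup.normalizer
      (((PS p : Sylow p PSL(2, F)) : Subgroup PSL(2, F)) : Set PSL(2, F))).index =
      Fintype.card F + 1 := by rw [normalizer_PS, index_Bb]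
  exact h1.symm.trans (h2.trans h3)

/-- `|N(P)| (q + 1) = |PSL(2,q)|` -/
theorem card_normalizer_sylow (P : Sylow p PSL(2, F)) :
    Nat.card (Subgroup.normalizer ((P : Subgroup PSL(2, F)) : Set PSL(2, F))) *
      (Fintype.card F + 1) = Nat.card PSL(2, F) := by
  rw [← index_normalizer_sylow p P, Subgroup.card_mul_index]


/-- `|N(P)| · gcd(2, q - 1) = q (q - 1)` -/
theorem card_normalizer_sylow_mul (P : Sylow p PSL(2, F)) :
    Nat.card (Subgroup.normalizer ((P : Subgroup PSL(2, F)) : Set PSL(2, F))) *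
      Nat.gcd 2 (Fintype.card F - 1) = Fintype.card F * (Fintype.card F - 1) := by
  have h1 := card_normalizer_sylow p P
  have h2 := card_PSL2 (F := F)
  rw [← h1] at h2
  have hq : 2 ≤ Fintype.card F := Fintype.one_lt_card
  obtain ⟨k, hk⟩ : ∃ k, Fintype.card F = k + 2 := ⟨Fintype.card F - 2, by omega⟩
  rw [hk] at h2 ⊢
  have e1 : (k + 2) ^ 2 - 1 = (k + 1) * (k + 3) := by
    have : (k + 2) ^ 2 = (k + 1) * (k + 3) + 1 := by ring
    omega
  rw [e1] at h2
  rw [show k + 2 - 1 = k + 1 by omega] at h2 ⊢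
  have hpos : 0 < k + 2 + 1 := by omega
  apply Nat.eq_of_mul_eq_mul_right hpos
  calc Nat.card ↥(Subgroup.normalizer ((P : Subgroup PSL(2, F)) : Set PSL(2, F))) *
        Nat.gcd 2 (k + 1) * (k + 2 + 1)
      = Nat.card ↥(Subgroup.normalizer ((P : Subgroup PSL(2, F)) : Set PSL(2, F))) *
        (k + 2 + 1) * Nat.gcd 2 (k + 1) := by ring
    _ = (k + 2) * ((k + 1) * (k + 3)) := h2
    _ = (k + 2) * (k + 1) * (k + 2 + 1) := by ring

/-- subgroups of the normaliser of a Sylow `p`-subgroup have order at most `q (q - 1) / d` -/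
theorem card_mul_le_of_le_normalizer (P : Sylow p PSL(2, F)) (K : Subgroup PSL(2, F))
    (hK : K ≤ Subgroup.normalizer ((P : Subgroup PSL(2, F)) : Set PSL(2, F))) :
    Nat.card K * Nat.gcd 2 (Fintype.card F - 1) ∣ Fintype.card F * (Fintype.card F - 1) := by
  rw [← card_normalizer_sylow_mul p P]
  exact Nat.mul_dvd_mul_right (Subgroup.card_dvd_of_le hK) _

omit [Fintype F] [Fact p.Prime] [CharP F p] in
theorem card_A4 : Nat.card (alternatingGroup (Fin 4)) = 12 := by
  rw [nat_card_alternatingGroup, Nat.card_eq_fintype_card, Fintype.card_fin]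
  rfl

omit [Fintype F] [Fact p.Prime] [CharP F p] in
theorem card_S4 : Nat.card (Equiv.Perm (Fin 4)) = 24 := by
  rw [Nat.card_eq_fintype_card, Fintype.card_perm, Fintype.card_fin]
  rfl

omit [Fintype F] [Fact p.Prime] [CharP F p] in
theorem card_A5 : Nat.card (alternatingGroup (Fin 5)) = 60 := by
  rw [nat_card_alternatingGroup, Nat.card_eq_fintype_card, Fintype.card_fin]
  rfl

omit [Fact p.Prime] [CharP F p] in
theorem card_PGL2 : Nat.card (Matrix.ProjGenLinGroup (Fin 2) F) =
    Fintype.card F * (Fintype.card F ^ 2 - 1) := by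
  rw [Cfsg.Agent.S0265.result 2, Cfsg.Agent.Lib.Helper5_PSLCard.card_SL_two]

omit [Fact p.Prime] [CharP F p] in
/-- a subgroup of `PSL(2,q)` with `|H| d ≤ q (q - 1)` has index at least `q + 1` -/
theorem le_index_of_card_le (H : Subgroup PSL(2, F))
    (h : Nat.card H * Nat.gcd 2 (Fintype.card F - 1) ≤ Fintype.card F * (Fintype.card F - 1)) :
    Fintype.card F + 1 ≤ H.index := by
  by_contra hlt
  push Not at hlt
  have h1 := Subgroup.card_mul_index H
  have h2 := card_PSL2 (F := F)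
  rw [← h1] at h2
  have hq : 2 ≤ Fintype.card F := Fintype.one_lt_card
  obtain ⟨k, hk⟩ : ∃ k, Fintype.card F = k + 2 := ⟨Fintype.card F - 2, by omega⟩
  rw [hk] at h2 h hlt
  have e1 : (k + 2) ^ 2 - 1 = (k + 1) * (k + 3) := by
    have : (k + 2) ^ 2 = (k + 1) * (k + 3) + 1 := by ring
    omega
  rw [e1] at h2
  rw [show k + 2 - 1 = k + 1 by omega] at h
  have hidx : H.index ≤ k + 2 := by omega
  have h3 : Nat.card H * Nat.gcd 2 (k + 2 - 1) * H.index ≤ (k + 2) * (k + 1) * (k + 2) :=
    Nat.mul_le_mul h hidx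
  have h4 : Nat.card H * H.index * Nat.gcd 2 (k + 2 - 1) =
      Nat.card H * Nat.gcd 2 (k + 2 - 1) * H.index := by ring
  rw [h4] at h2
  rw [h2] at h3
  nlinarith

end Cfsg.Agent.Lib.Helper50_DkOrders
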