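import Mathlib
import Cfsg.Agent.Lib.Helper4_InvPairs
import Cfsg.Agent.Lib.Helper17_Sylow

/-!
# Groups in which the centralizer of an involution is a four-group (helper55)

Elementary structure: the centralizer `V = C(t)` consists of `1, t, u, tu`, and there are exactly
two pairs of involutions with product `t`.
-/

set_option autoImplicit false

namespace Cfsg.Agent.Lib.Helper55_V4Cent

open Subgroup Cfsg.Agent.Lib.Helper4_InvPairs

variable {G : Type*} [Group G]

/-- the standing hypotheses: `t` is an involution whose centralizer is a four-group, and all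
involutions are conjugate to `t` -/
structure V4Hyp (t : G) : Prop where
  ht : orderOf t = 2
  hcard : Nat.card (centralizer ({t} : Set G)) = 4
  hexp : ∀ v ∈ centralizer ({t} : Set G), v * v = 1
  hconj : ∀ u : G, orderOf u = 2 → IsConj t u

variable {t : G}

theorem mem_cent_iff (g : G) : g ∈ centralizer ({t} : Set G) ↔ g * t = t * g :=
  mem_centralizer_singleton_iff

theorem t_mem : t ∈ centralizer ({t} : Set G) := (mem_cent_iff t).mpr rfl

/-- a further involution of the centralizer -/
theorem exists_u (h : V4Hyp t) : ∃ u ∈ centralizer ({t} : Set G), u ≠ 1 ∧ u ≠ t := by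
  have hle : zpowers t ≤ centralizer ({t} : Set G) := by
    rw [zpowers_le]; exact t_mem
  have hlt : zpowers t < centralizer ({t} : Set G) := by
    apply lt_of_le_of_ne hle
    intro heq
    have h1 : Nat.card (zpowers t) = 2 := by rw [Nat.card_zpowers, h.ht]
    rw [heq, h.hcard] at h1
    omega
  obtain ⟨u, hu, hun⟩ := SetLike.exists_of_lt hlt
  refine ⟨u, hu, ?_, ?_⟩
  · rintro rfl; exact hun (one_mem _)
  · rintro rfl; exact hun (mem_zpowers _)

section

variable (h : V4Hyp t) {u : G} (hu : u ∈ centralizer ({t} : Set G)) (hu1 : u ≠ 1) (hut : u ≠ t)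

include h hu in
theorem u_comm : u * t = t * u := (mem_cent_iff u).mp hu

include h hu in
theorem u_sq : u * u = 1 := h.hexp u hu

include h in
theorem t_sq : t * t = 1 := mul_self_of_orderOf_two h.ht

include h in
theorem t_ne_one : t ≠ 1 := ne_one_of_orderOf_two h.ht

include h hu in
theorem tu_mem : t * u ∈ centralizer ({t} : Set G) := mul_mem t_mem hu

include h hu hu1 in
theorem orderOf_u : orderOf u = 2 := orderOf_two_of_mul_self (u_sq h hu) hu1

include h hu hut in
theorem tu_ne_one : t * u ≠ 1 := by
  intro h1
  apply hut
  have h2 : t * u = t * t := by rw [h1, t_sq h]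
  exact mul_left_cancel h2

include h hu hut in
theorem orderOf_tu : orderOf (t * u) = 2 :=
  orderOf_two_of_mul_self (h.hexp _ (tu_mem h hu)) (tu_ne_one h hu hut)

/-- the four elements of the centralizer -/
def four (hu : u ∈ centralizer ({t} : Set G)) : Fin 4 → ↥(centralizer ({t} : Set G)) :=
  ![1, ⟨t, t_mem⟩, ⟨u, hu⟩, ⟨t, t_mem⟩ * ⟨u, hu⟩]

include h hu1 hut in
theorem four_injective : Function.Injective (four hu) := by
  have e1 : t ≠ 1 := t_ne_one h
  have e2 : t * u ≠ 1 := tu_ne_one h hu hut
  have e3 : t * u ≠ t := fun h1 => hu1 (by simpa using h1)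
  have e4 : t * u ≠ u := fun h1 => e1 (by simpa using h1)
  intro i j hij
  have hval : ((four hu i : ↥(centralizer ({t} : Set G))) : G) = (four hu j : G) := by rw [hij]
  fin_cases i <;> fin_cases j <;>
    first
    | rfl
    | (exfalso
       simp only [four, Matrix.cons_val_zero, Matrix.cons_val_one, Matrix.cons_val, Fin.mk_one,
         Fin.zero_eta, Fin.reduceFinMk, Subgroup.coe_one, Subgroup.coe_mul] at hval
       first
         | exact e1 hval
         | exact e1 hval.symm
         | exact hu1 hval
         | exact hu1 hval.symm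
         | exact hut hval
         | exact hut hval.symm
         | exact e2 hval
         | exact e2 hval.symm
         | exact e3 hval
         | exact e3 hval.symm
         | exact e4 hval
         | exact e4 hval.symm)

include h hu1 hut in
theorem four_bijective : Function.Bijective (four hu) := by
  haveI : Finite ↥(centralizer ({t} : Set G)) := Nat.finite_of_card_ne_zero (by rw [h.hcard]; norm_num)
  apply (four_injective h hu hu1 hut).bijective_of_nat_card_le
  rw [h.hcard, Nat.card_eq_fintype_card, Fintype.card_fin]

include h hu hu1 hut in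
/-- the elements of the centralizer -/
theorem cent_cases {v : G} (hv : v ∈ centralizer ({t} : Set G)) :
    v = 1 ∨ v = t ∨ v = u ∨ v = t * u := by
  obtain ⟨i, hi⟩ := (four_bijective h hu hu1 hut).2 ⟨v, hv⟩
  have hval : ((four hu i : ↥(centralizer ({t} : Set G))) : G) = v := by rw [hi]
  fin_cases i
  · left; rw [← hval]; rfl
  · right; left; rw [← hval]; rfl
  · right; right; left; rw [← hval]; rfl
  · right; right; right; rw [← hval]; rfl

include h hu hu1 hut in
/-- the number of pairs of conjugates of `t` with product `t` -/
theorem card_pairs :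
    Nat.card {p : G × G // IsConj t p.1 ∧ IsConj t p.2 ∧ p.1 * p.2 = t} = 2 := by
  have hc := u_comm h hu
  have huu := u_sq h hu
  have m0 : u * (t * u) = t := by rw [← mul_assoc, hc, mul_assoc, huu, mul_one]
  have m1 : (t * u) * u = t := by rw [mul_assoc, huu, mul_one]
  have c0 : IsConj t u := h.hconj u (orderOf_u h hu hu1)
  have c1 : IsConj t (t * u) := h.hconj _ (orderOf_tu h hu hut)
  have hbij : Function.Bijective (fun j : Fin 2 =>
      (![⟨(u, t * u), c0, c1, m0⟩, ⟨(t * u, u), c1, c0, m1⟩] j :
        {p : G × G // IsConj t p.1 ∧ IsConj t p.2 ∧ p.1 * p.2 = t})) := by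
    constructor
    · intro i j hij
      have h1 := congrArg (fun p : {p : G × G // IsConj t p.1 ∧ IsConj t p.2 ∧
        p.1 * p.2 = t} => p.1.1) hij
      have e4 : t * u ≠ u := fun h1 => t_ne_one h (by simpa using h1)
      fin_cases i <;> fin_cases j
      · rfl
      · exfalso; exact e4 h1.symm
      · exfalso; exact e4 h1
      · rfl
    · rintro ⟨⟨x, y⟩, hx, hy, hxy⟩
      have hx2 : orderOf x = 2 := by
        rw [Cfsg.Agent.Lib.Helper17_Sylow.orderOf_of_isConj hx]; exact h.ht
      have hy2 : orderOf y = 2 := by
        rw [Cfsg.Agent.Lib.Helper17_Sylow.orderOf_of_isConj hy]; exact h.ht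
      have hxi := inv_eq_self_of_orderOf_two hx2
      have hxx := mul_self_of_orderOf_two hx2
      have hyy := mul_self_of_orderOf_two hy2
      simp only at hxy
      have hyx : y = x * t := by rw [← hxy, ← mul_assoc, hxx, one_mul]
      have hxV : x ∈ centralizer ({t} : Set G) := by
        rw [mem_cent_iff]
        -- `t x = x y x = x t`... use `y y = 1`
        have h3 : x * t * (x * t) = 1 := by rw [← hyx]; exact hyy
        have h4 : t * x = (x * t)⁻¹ := by
          rw [mul_inv_rev, hxi, inv_eq_self_of_orderOf_two h.ht]
        rw [h4]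
        exact (eq_inv_of_mul_eq_one_left h3)
      rcases cent_cases h hu hu1 hut hxV with rfl | rfl | rfl | rfl
      · exfalso; rw [orderOf_one] at hx2; omega
      · exfalso
        rw [t_sq h] at hyx
        rw [hyx, orderOf_one] at hy2; omega
      · refine ⟨0, ?_⟩
        apply Subtype.ext
        have : y = t * x := by rw [hyx, hc]
        simp [this]
      · refine ⟨1, ?_⟩
        apply Subtype.ext
        have : y = u := by
          rw [hyx, mul_assoc, hc, ← mul_assoc, t_sq h, one_mul]
        simp [this]
  rw [← Nat.card_eq_of_bijective _ hbij, Nat.card_eq_fintype_card, Fintype.card_fin]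

end

end Cfsg.Agent.Lib.Helper55_V4Cent
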