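import Mathlib
import Cfsg.Agent.Lib.Helper55_V4Cent
import Cfsg.Agent.Lib.Helper3_CharColumn

/-!
# Four-group involution centralizer, the case `|G| = 12` (helper55)

The group acts faithfully on the four cosets of a subgroup of order `3`, hence is `A₄`.
-/

set_option autoImplicit false

namespace Cfsg.Agent.Lib.Helper55_V4A4

open Subgroup Cfsg.Agent.Lib.Helper55_V4Cent Cfsg.Agent.Lib.Helper4_InvPairs

variable {G : Type*} [Group G]

/-- a group of order `n!/2` with a core-free subgroup of index `n` is `Aₙ` -/
theorem nonempty_equiv_alt_of_core [Finite G] (H : Subgroup G) (n : ℕ) (hH : H.index = n)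
    (hcore : H.normalCore = ⊥) (hcard : 2 * Nat.card G = n.factorial) :
    Nonempty (G ≃* alternatingGroup (Fin n)) := by
  classical
  have : Fintype (G ⧸ H) := Fintype.ofFinite _
  have hc : Fintype.card (G ⧸ H) = n := by
    rw [← Nat.card_eq_fintype_card, ← Subgroup.index_eq_card]; exact hH
  have hf : Function.Injective (MulAction.toPermHom G (G ⧸ H)) := by
    rw [← MonoidHom.ker_eq_bot_iff, ← Subgroup.normalCore_eq_ker]
    exact hcore
  have hrange : Nat.card (MulAction.toPermHom G (G ⧸ H)).range = Nat.card G :=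
    (Nat.card_congr (MonoidHom.ofInjective hf).toEquiv).symm
  have hidx : (MulAction.toPermHom G (G ⧸ H)).range.index = 2 := by
    have h1 := (MulAction.toPermHom G (G ⧸ H)).range.card_mul_index
    rw [hrange, Nat.card_perm, ← Subgroup.index_eq_card, hH, ← hcard] at h1
    have hpos : 0 < Nat.card G := Nat.card_pos
    have h2 : Nat.card G * (MulAction.toPermHom G (G ⧸ H)).range.index = Nat.card G * 2 := by
      rw [h1]; ring
    exact Nat.eq_of_mul_eq_mul_left hpos h2
  have halt : (MulAction.toPermHom G (G ⧸ H)).range = alternatingGroup (G ⧸ H) :=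
    Equiv.Perm.eq_alternatingGroup_of_index_eq_two hidx
  have e : (G ⧸ H) ≃ Fin n := Fintype.equivFinOfCardEq hc
  exact ⟨(MonoidHom.ofInjective hf).trans
    ((MulEquiv.subgroupCongr halt).trans (Equiv.altCongrHom e))⟩

variable {t : G}

/-- no element of order `3` commutes with an involution -/
theorem not_comm_of_orderOf_three [Finite G] (h : V4Hyp t) {w x : G} (hw : orderOf w = 2)
    (hx : orderOf x = 3) : x * w ≠ w * x := by
  classical
  have : Fintype G := Fintype.ofFinite G
  intro hc
  have hcard : Nat.card (centralizer ({w} : Set G)) = 4 := by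
    rw [← Cfsg.Agent.Lib.Helper3_CharColumn.card_centralizer_eq_of_isConj (h.hconj w hw)]
    exact h.hcard
  have hmem : x ∈ centralizer ({w} : Set G) := mem_centralizer_singleton_iff.mpr hc
  have hdvd := Subgroup.orderOf_dvd_natCard (centralizer ({w} : Set G)) hmem
  rw [hx, hcard] at hdvd
  omega

/-- in the case `|G| = 12` the group is `A₄` -/
theorem nonempty_equiv_A4 [Finite G] (h : V4Hyp t) (hcard : Nat.card G = 12) :
    Nonempty (G ≃* ↥(alternatingGroup (Fin 4))) := by
  haveI : Fact (Nat.Prime 3) := ⟨by norm_num⟩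
  obtain ⟨x, hx⟩ := exists_prime_orderOf_dvd_card' (G := G) 3 (by rw [hcard]; norm_num)
  have hP : Nat.card (zpowers x) = 3 := by rw [Nat.card_zpowers, hx]
  have hidx : (zpowers x).index = 4 := by
    have h1 := (zpowers x).card_mul_index
    rw [hP, hcard] at h1
    omega
  apply nonempty_equiv_alt_of_core (zpowers x) 4 hidx _ (by rw [hcard]; simp [Nat.factorial])
  -- the core is trivial
  by_contra hne
  have hle : (zpowers x).normalCore ≤ zpowers x := Subgroup.normalCore_le _
  -- the core is all of `⟨x⟩`
  have hxcore : x ∈ (zpowers x).normalCore := by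
    obtain ⟨⟨y, hy⟩, hy1'⟩ := (Subgroup.ne_bot_iff_exists_ne_one).mp hne
    have hy1 : y ≠ 1 := fun h1 => hy1' (Subtype.ext h1)
    -- `y` is a nontrivial power of `x`, and `x` is a power of `y`
    have hyx : y ∈ zpowers x := hle hy
    have hoy : orderOf y = 3 := by
      have hd : orderOf y ∣ 3 := by
        have := Subgroup.orderOf_dvd_natCard (zpowers x) hyx
        rwa [hP] at this
      rcases (Nat.dvd_prime (by norm_num : Nat.Prime 3)).mp hd with h1 | h3
      · exfalso; exact hy1 (orderOf_eq_one_iff.mp h1)
      · exact h3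
    have hzy : zpowers y = zpowers x := by
      apply Subgroup.eq_of_le_of_card_ge
      · rw [zpowers_le]; exact hyx
      · rw [Nat.card_zpowers, Nat.card_zpowers, hoy, hx]
    have hxy : x ∈ zpowers y := by rw [hzy]; exact mem_zpowers x
    exact (zpowers_le.mpr hy) hxy
  -- conjugates of `x` lie in `⟨x⟩`
  have hnorm : ∀ g : G, g * x * g⁻¹ ∈ zpowers x := fun g =>
    hle ((Subgroup.normalCore_normal _).conj_mem x hxcore g)
  -- an involution inverts `x`
  have hinv : ∀ w : G, orderOf w = 2 → w * x * w⁻¹ = x⁻¹ := by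
    intro w hw
    have h1 := hnorm w
    have h3 : (w * x * w⁻¹) ^ 3 = 1 := by
      rw [conj_pow, ← hx, pow_orderOf_eq_one, mul_one, mul_inv_cancel]
    obtain ⟨k, hk⟩ := mem_zpowers_iff.mp h1
    -- `w x w⁻¹` is `1`, `x` or `x⁻¹`
    have hcases : w * x * w⁻¹ = 1 ∨ w * x * w⁻¹ = x ∨ w * x * w⁻¹ = x⁻¹ := by
      rw [← hk]
      have hk3 : x ^ k = x ^ (k % 3) := by
        have h9 := zpow_mod_orderOf x k
        rw [hx] at h9
        exact_mod_cast h9.symm
      have hr1 : 0 ≤ k % 3 := Int.emod_nonneg _ (by norm_num)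
      have hr2 : k % 3 < 3 := Int.emod_lt_of_pos _ (by norm_num)
      rw [hk3]
      have hx3 : x ^ (3 : ℤ) = 1 := by
        have := pow_orderOf_eq_one x
        rw [hx] at this
        exact_mod_cast this
      interval_cases (k % 3)
      · left; simp
      · right; left; simp
      · right; right
        have : x ^ (2 : ℤ) * x = 1 := by
          rw [← zpow_add_one]; exact hx3
        exact eq_inv_of_mul_eq_one_left this
    rcases hcases with h0 | h0 | h0
    · exfalso
      have : x = 1 := by
        have h4 : w * x = w := by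
          have := congrArg (· * w) h0
          simpa using this
        exact mul_left_cancel (a := w) (by rw [h4, mul_one])
      rw [this, orderOf_one] at hx
      omega
    · exfalso
      apply not_comm_of_orderOf_three h hw hx
      have := congrArg (· * w) h0
      simp only [inv_mul_cancel_right] at this
      exact this.symm
    · exact h0
  obtain ⟨u, hu, hu1, hut⟩ := exists_u h
  have i1 := hinv t h.ht
  have i2 := hinv u (orderOf_u h hu hu1)
  have i3 := hinv (t * u) (orderOf_tu h hu hut)
  have h5 : (t * u) * x * (t * u)⁻¹ = x := by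
    rw [mul_inv_rev]
    calc t * u * x * (u⁻¹ * t⁻¹) = t * (u * x * u⁻¹) * t⁻¹ := by group
      _ = t * x⁻¹ * t⁻¹ := by rw [i2]
      _ = (t * x * t⁻¹)⁻¹ := by group
      _ = x := by rw [i1, inv_inv]
  rw [h5] at i3
  -- `x = x⁻¹` contradicts the order `3`
  have h6 : x ^ 2 = 1 := by
    rw [pow_two]
    nth_rewrite 1 [i3]
    exact inv_mul_cancel x
  have h7 := orderOf_dvd_of_pow_eq_one h6
  rw [hx] at h7
  omega

end Cfsg.Agent.Lib.Helper55_V4A4
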