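import Mathlib
import Cfsg.Agent.S0494
import Cfsg.Agent.Lib.Helper55_V4A4

/-!
# Recognition of `A₄`, `S₄`, `A₅` among groups without cyclic normal subgroups (helper50)

`NNC G`: the only cyclic normal subgroup of `G` is trivial.  A group with `NNC` of order `12`, `24`,
`60` is `A₄`, `S₄`, `A₅` respectively.
-/

set_option autoImplicit false

namespace Cfsg.Agent.Lib.Helper50_DkGroups

open Subgroup

/-- no nontrivial cyclic normal subgroup -/
def NNC (G : Type*) [Group G] : Prop := ∀ N : Subgroup G, N.Normal → IsCyclic N → N = ⊥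

theorem factorization_eq (N p n m : ℕ) (hp : p.Prime) (h : N = p ^ n * m) (hm : ¬ p ∣ m) :
    N.factorization p = n := by
  have hm0 : m ≠ 0 := by rintro rfl; exact hm (dvd_zero p)
  subst h
  rw [Nat.factorization_mul (pow_ne_zero _ hp.ne_zero) hm0, Finsupp.add_apply,
    Nat.Prime.factorization_pow hp, Nat.factorization_eq_zero_of_not_dvd hm, add_zero]
  simp

variable {G : Type*} [Group G]

theorem isCyclic_of_card_le_three (K : Subgroup G) [Finite K] (h : Nat.card K ≤ 3) :
    IsCyclic K := by
  have hpos : 0 < Nat.card K := Nat.card_pos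
  have : Nat.card K = 1 ∨ Nat.card K = 2 ∨ Nat.card K = 3 := by omega
  rcases this with h1 | h1 | h1
  · have : Subsingleton K := (Nat.card_eq_one_iff_unique.1 h1).1
    infer_instance
  · have : Fact (Nat.Prime 2) := ⟨Nat.prime_two⟩
    exact isCyclic_of_prime_card h1
  · have : Fact (Nat.Prime 3) := ⟨Nat.prime_three⟩
    exact isCyclic_of_prime_card h1

/-- order `12` -/
theorem equiv_A4 [Finite G] (h : NNC G) (hcard : Nat.card G = 12) :
    Nonempty (G ≃* alternatingGroup (Fin 4)) := by
  have : Fact (Nat.Prime 3) := ⟨by norm_num⟩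
  obtain ⟨x, hx⟩ := exists_prime_orderOf_dvd_card' (G := G) 3 (by rw [hcard]; norm_num)
  have hP : Nat.card (zpowers x) = 3 := by rw [Nat.card_zpowers, hx]
  have hidx : (zpowers x).index = 4 := by
    have h1 := (zpowers x).card_mul_index
    rw [hP, hcard] at h1
    omega
  apply Cfsg.Agent.Lib.Helper55_V4A4.nonempty_equiv_alt_of_core (zpowers x) 4 hidx _
    (by rw [hcard]; simp [Nat.factorial])
  apply h _ (Subgroup.normalCore_normal _)
  have hle : (zpowers x).normalCore ≤ zpowers x := Subgroup.normalCore_le _
  have : Finite ((zpowers x).normalCore) := inferInstance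
  apply isCyclic_of_card_le_three
  have := Subgroup.card_le_of_le hle
  omega

/-- a core-free subgroup of index `n` in a group of order `n!` gives the symmetric group -/
theorem equiv_perm_of_core [Finite G] (H : Subgroup G) (n : ℕ) (hH : H.index = n)
    (hcore : H.normalCore = ⊥) (hcard : Nat.card G = n.factorial) :
    Nonempty (G ≃* Equiv.Perm (Fin n)) := by
  classical
  have : Fintype (G ⧸ H) := Fintype.ofFinite _
  have hc : Fintype.card (G ⧸ H) = n := by
    rw [← Nat.card_eq_fintype_card, ← Subgroup.index_eq_card]; exact hH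
  have hf : Function.Injective (MulAction.toPermHom G (G ⧸ H)) := by
    rw [← MonoidHom.ker_eq_bot_iff, ← Subgroup.normalCore_eq_ker]
    exact hcore
  have hbij : Function.Bijective (MulAction.toPermHom G (G ⧸ H)) := by
    apply hf.bijective_of_nat_card_le
    rw [Nat.card_perm, ← Subgroup.index_eq_card, hH, hcard]
  have e : (G ⧸ H) ≃ Fin n := Fintype.equivFinOfCardEq hc
  exact ⟨(MulEquiv.ofBijective _ hbij).trans e.permCongrHom⟩

/-- order `24` -/
theorem equiv_S4 [Finite G] (h : NNC G) (hcard : Nat.card G = 24) :
    Nonempty (G ≃* Equiv.Perm (Fin 4)) := by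
  have : Fact (Nat.Prime 3) := ⟨by norm_num⟩
  obtain ⟨P⟩ : Nonempty (Sylow 3 G) := inferInstance
  have hfac : (24 : ℕ).factorization 3 = 1 :=
    factorization_eq 24 3 1 8 Nat.prime_three (by norm_num) (by norm_num)
  have hP : Nat.card P = 3 := by rw [P.card_eq_multiplicity, hcard, hfac, pow_one]
  have hPidx : (P : Subgroup G).index = 8 := by
    have h1 := (P : Subgroup G).card_mul_index
    rw [hP, hcard] at h1
    omega
  have hPc : IsCyclic (P : Subgroup G) := isCyclic_of_prime_card hP
  have hPne : (P : Subgroup G) ≠ ⊥ := by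
    intro hb
    rw [hb, Subgroup.card_bot] at hP
    omega
  have hPnn : ¬ (P : Subgroup G).Normal := fun hn => hPne (h _ hn hPc)
  -- number of Sylow subgroups
  have hmod := card_sylow_modEq_one 3 G
  have hdvd := P.card_dvd_index
  rw [hPidx] at hdvd
  have hn3 : Nat.card (Sylow 3 G) = 1 ∨ Nat.card (Sylow 3 G) = 4 := by
    have hle := Nat.le_of_dvd (by norm_num) hdvd
    have hpos : 0 < Nat.card (Sylow 3 G) := Nat.card_pos
    unfold Nat.ModEq at hmod
    generalize Nat.card (Sylow 3 G) = k at *
    interval_cases k <;> simp_all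
  have hNidx : (normalizer (P : Set G)).index = 4 := by
    rw [← P.card_eq_index_normalizer]
    rcases hn3 with h1 | h4
    · exfalso
      apply hPnn
      have h2 : (normalizer (P : Set G)).index = 1 := by
        rw [← P.card_eq_index_normalizer, h1]
      rw [Subgroup.index_eq_one] at h2
      exact Subgroup.normalizer_eq_top_iff.1 h2
    · exact h4
  have hNcard : Nat.card (normalizer (P : Set G)) = 6 := by
    have h1 := (normalizer (P : Set G)).card_mul_index
    rw [hNidx, hcard] at h1
    omega
  apply equiv_perm_of_core (normalizer (P : Set G)) 4 hNidx _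
    (by rw [hcard]; simp [Nat.factorial])
  apply h _ (Subgroup.normalCore_normal _)
  have hle : (normalizer (P : Set G)).normalCore ≤
      normalizer (P : Set G) := Subgroup.normalCore_le _
  apply isCyclic_of_card_le_three
  have hd := Subgroup.card_dvd_of_le hle
  rw [hNcard] at hd
  have hne : Nat.card ((normalizer (P : Set G)).normalCore) ≠ 6 := by
    intro h6
    apply hPnn
    apply P.normal_of_normalizer_normal
    have : (normalizer (P : Set G)).normalCore =
        normalizer (P : Set G) :=
      Subgroup.eq_of_le_of_card_ge hle (by rw [h6, hNcard])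
    rw [← this]
    exact Subgroup.normalCore_normal _
  have hle6 := Nat.le_of_dvd (by norm_num) hd
  generalize Nat.card ((normalizer (P : Set G)).normalCore) = k at *
  interval_cases k <;> simp_all


/-! ### order `60` -/

/-- conjugation by `y` restricted to a subgroup normalised by `y`, as a permutation -/
def conjPerm (R : Subgroup G) (y : G) (hy : y ∈ normalizer (R : Set G)) : Equiv.Perm R where
  toFun x := ⟨y * x * y⁻¹, (mem_normalizer_iff.1 hy x).1 x.2⟩
  invFun x := ⟨y⁻¹ * x * y, by
    have := (mem_normalizer_iff.1 (inv_mem hy) x).1 x.2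
    simpa using this⟩
  left_inv x := by apply Subtype.ext; simp [mul_assoc]
  right_inv x := by apply Subtype.ext; simp [mul_assoc]

theorem conjPerm_pow (R : Subgroup G) (y : G) (hy : y ∈ normalizer (R : Set G)) (n : ℕ) (x : R) :
    (((conjPerm R y hy) ^ n) x : G) = y ^ n * x * (y ^ n)⁻¹ := by
  induction n generalizing x with
  | zero => simp
  | succ n ih =>
    rw [pow_succ', Equiv.Perm.mul_apply]
    show y * ((conjPerm R y hy ^ n) x : G) * y⁻¹ = _
    rw [ih, pow_succ']
    group

/-- an element of order `5` normalising a subgroup of order `≤ 4` centralises it -/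
theorem commute_of_small [Finite G] (R : Subgroup G) (y : G) (hy : y ∈ normalizer (R : Set G))
    (hy5 : y ^ 5 = 1) (hR : Nat.card R ≤ 4) : ∀ x ∈ R, y * x = x * y := by
  have h5 : (conjPerm R y hy) ^ 5 = 1 := by
    ext x
    rw [conjPerm_pow, hy5]
    simp
  have h24 : (conjPerm R y hy) ^ 24 = 1 := by
    have h1 : orderOf (conjPerm R y hy) ∣ Nat.card (Equiv.Perm R) := orderOf_dvd_natCard _
    rw [Nat.card_perm] at h1
    have h2 : (Nat.card R).factorial ∣ (4 : ℕ).factorial := Nat.factorial_dvd_factorial hR
    have h3 : (4 : ℕ).factorial = 24 := by decide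
    rw [h3] at h2
    exact orderOf_dvd_iff_pow_eq_one.1 (h1.trans h2)
  have h1 : conjPerm R y hy = 1 := by
    have e25 : (conjPerm R y hy) ^ 25 = 1 := by
      have : (25 : ℕ) = 5 * 5 := by norm_num
      rw [this, pow_mul, h5, one_pow]
    calc conjPerm R y hy = (conjPerm R y hy) ^ 24 * conjPerm R y hy := by rw [h24, one_mul]
      _ = (conjPerm R y hy) ^ 25 := (pow_succ _ 24).symm
      _ = 1 := e25
  intro x hx
  have h2 : ((conjPerm R y hy) ⟨x, hx⟩ : G) = x := by rw [h1]; rfl
  have h3 : y * x * y⁻¹ = x := h2
  calc y * x = y * x * y⁻¹ * y := by group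
    _ = x * y := by rw [h3]

section sixty

variable [Finite G] (h : NNC G) (hcard : Nat.card G = 60)

include h hcard

theorem card_normalizer_zpowers_five (y : G) (hy : orderOf y = 5) :
    Nat.card (normalizer ((zpowers y : Subgroup G) : Set G)) = 10 := by
  have : Fact (Nat.Prime 5) := ⟨by norm_num⟩
  have hfac : (60 : ℕ).factorization 5 = 1 :=
    factorization_eq 60 5 1 12 (by norm_num) (by norm_num) (by norm_num)
  have hc : Nat.card (zpowers y) = 5 ^ (Nat.card G).factorization 5 := by
    rw [Nat.card_zpowers, hy, hcard, hfac, pow_one]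
  obtain ⟨P, hPcoe⟩ : ∃ P : Sylow 5 G, (P : Subgroup G) = zpowers y :=
    ⟨Sylow.ofCard (zpowers y) hc, Sylow.coe_ofCard _ hc⟩
  have hPcard : Nat.card (P : Subgroup G) = 5 := by rw [hPcoe, Nat.card_zpowers, hy]
  have hPidx : (P : Subgroup G).index = 12 := by
    have h1 := (P : Subgroup G).card_mul_index
    rw [hPcard, hcard] at h1
    omega
  have hmod := card_sylow_modEq_one 5 G
  have hdvd := P.card_dvd_index
  rw [hPidx] at hdvd
  have hn5 : Nat.card (Sylow 5 G) = 1 ∨ Nat.card (Sylow 5 G) = 6 := by
    have hle := Nat.le_of_dvd (by norm_num) hdvd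
    have hpos : 0 < Nat.card (Sylow 5 G) := Nat.card_pos
    unfold Nat.ModEq at hmod
    generalize Nat.card (Sylow 5 G) = k at *
    interval_cases k <;> simp_all
  have hidx : (normalizer ((zpowers y : Subgroup G) : Set G)).index = 6 := by
    have h0 : (normalizer ((zpowers y : Subgroup G) : Set G)) = normalizer (P : Set G) := by
      rw [← hPcoe]; rfl
    rw [h0, ← P.card_eq_index_normalizer]
    rcases hn5 with h1 | h6
    · exfalso
      have h2 : (normalizer (P : Set G)).index = 1 := by
        rw [← P.card_eq_index_normalizer, h1]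
      rw [Subgroup.index_eq_one] at h2
      have hn : (P : Subgroup G).Normal := Subgroup.normalizer_eq_top_iff.1 h2
      rw [hPcoe] at hn
      have := h _ hn inferInstance
      have hy1 : y = 1 := by
        have : y ∈ (⊥ : Subgroup G) := by rw [← this]; exact mem_zpowers y
        exact Subgroup.mem_bot.1 this
      rw [hy1, orderOf_one] at hy
      omega
    · exact h6
  have h1 := (normalizer ((zpowers y : Subgroup G) : Set G)).card_mul_index
  rw [hidx, hcard] at h1
  omega

omit h hcard in
/-- Frattini: the normaliser of a Sylow subgroup of a normal subgroup has order divisible by the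
index -/
theorem index_dvd_card_normalizer (N : Subgroup G) [N.Normal] (r : ℕ) [Fact r.Prime]
    (R : Sylow r N) :
    N.index ∣ Nat.card (normalizer (((R : Subgroup N).map N.subtype : Subgroup G) : Set G)) := by
  have h1 := Sylow.normalizer_sup_eq_top R
  have h2 : N.relIndex (normalizer (((R : Subgroup N).map N.subtype : Subgroup G) : Set G) ⊔ N) =
      N.relIndex (normalizer (((R : Subgroup N).map N.subtype : Subgroup G) : Set G)) :=
    Subgroup.relIndex_sup_right _ _
  rw [h1, Subgroup.relIndex_top_right] at h2
  rw [h2]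
  exact Subgroup.relIndex_dvd_card _ _

/-- a normal subgroup of order prime to `5` is trivial -/
theorem eq_bot_of_not_dvd (N : Subgroup G) [hN : N.Normal] (h5 : ¬ 5 ∣ Nat.card N) : N = ⊥ := by
  have hNdvd : Nat.card N ∣ 60 := hcard ▸ Subgroup.card_subgroup_dvd_card N
  have hNpos : 0 < Nat.card N := Nat.card_pos
  have hidx5 : 5 ∣ N.index := by
    have h1 := N.card_mul_index
    rw [hcard] at h1
    have h2 : 5 ∣ Nat.card N * N.index := by rw [h1]; norm_num
    exact ((Nat.Prime.dvd_mul (by norm_num)).1 h2).resolve_left h5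
  -- the key bound on Sylow subgroups of `N`
  have key : ∀ r : ℕ, r.Prime → r ≠ 5 → r ^ (Nat.card N).factorization r ∣ 10 := by
    intro r hr hr5
    have : Fact r.Prime := ⟨hr⟩
    obtain ⟨R⟩ : Nonempty (Sylow r N) := inferInstance
    set R' : Subgroup G := (R : Subgroup N).map N.subtype with hR'
    have hRc : Nat.card R' = r ^ (Nat.card N).factorization r := by
      rw [hR', Subgroup.card_map_of_injective N.subtype_injective, R.card_eq_multiplicity]
    have hRdvd60 : Nat.card R' ∣ 60 := hcard ▸ Subgroup.card_subgroup_dvd_card R'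
    have hR4 : Nat.card R' ≤ 4 := by
      -- a prime power dividing `60`, prime to `5`
      have hcop : Nat.Coprime (Nat.card R') 5 := by
        rw [hRc]
        apply Nat.Coprime.pow_left
        exact (Nat.coprime_primes hr (by norm_num)).2 hr5
      have h12 : Nat.card R' ∣ 12 := by
        have : Nat.card R' ∣ 5 * 12 := by norm_num; exact hRdvd60
        exact hcop.dvd_of_dvd_mul_left this
      have hle := Nat.le_of_dvd (by norm_num) h12
      have hpp : IsPrimePow (Nat.card R') ∨ Nat.card R' = 1 := by
        rw [hRc]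
        by_cases hk : (Nat.card N).factorization r = 0
        · right; rw [hk, pow_zero]
        · left; exact hr.isPrimePow.pow hk
      rcases hpp with hpp | h1
      · generalize Nat.card R' = k at *
        interval_cases k
        all_goals first | omega | (exfalso; revert hpp; decide)
      · omega
    have h5N := index_dvd_card_normalizer N r R
    have h5' : 5 ∣ Nat.card (normalizer ((R' : Subgroup G) : Set G)) := hidx5.trans h5N
    have : Fact (Nat.Prime 5) := ⟨by norm_num⟩
    obtain ⟨y, hy⟩ := exists_prime_orderOf_dvd_card' (G := normalizer ((R' : Subgroup G) : Set G)) 5 h5'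
    have hy5 : orderOf (y : G) = 5 := by rw [Subgroup.orderOf_coe, hy]
    have hcomm := commute_of_small R' (y : G) y.2 (by rw [← hy5, pow_orderOf_eq_one]) hR4
    have hle : R' ≤ normalizer ((zpowers (y : G) : Subgroup G) : Set G) := by
      intro x hx
      apply Subgroup.centralizer_le_normalizer
      rw [Subgroup.mem_centralizer_iff]
      intro z hz
      obtain ⟨k, rfl⟩ := mem_zpowers_iff.1 hz
      exact ((show Commute (y : G) x from hcomm x hx).zpow_left k).eq
    have := Subgroup.card_dvd_of_le hle
    rw [card_normalizer_zpowers_five h hcard (y : G) hy5, hRc] at this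
    exact this
  -- conclude `|N| ≤ 2`
  have h3 : ¬ 3 ∣ Nat.card N := by
    intro h3
    have hk : 1 ≤ (Nat.card N).factorization 3 :=
      (Nat.Prime.dvd_iff_one_le_factorization Nat.prime_three hNpos.ne').1 h3
    have := key 3 Nat.prime_three (by norm_num)
    have h31 : 3 ∣ 3 ^ (Nat.card N).factorization 3 := dvd_pow_self 3 (by omega)
    have : 3 ∣ 10 := h31.trans this
    omega
  have h4 : ¬ 4 ∣ Nat.card N := by
    intro h4
    have hk : 2 ≤ (Nat.card N).factorization 2 := by
      have : 2 ^ 2 ∣ Nat.card N := by norm_num; exact h4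
      exact (Nat.Prime.pow_dvd_iff_le_factorization Nat.prime_two hNpos.ne').1 this
    have := key 2 Nat.prime_two (by norm_num)
    have h41 : 2 ^ 2 ∣ 2 ^ (Nat.card N).factorization 2 := pow_dvd_pow 2 hk
    have : 2 ^ 2 ∣ 10 := h41.trans this
    omega
  have hle2 : Nat.card N ≤ 3 := by
    have hle := Nat.le_of_dvd (by norm_num) hNdvd
    generalize Nat.card N = k at *
    interval_cases k
    all_goals omega
  exact h N hN (isCyclic_of_card_le_three N hle2)

/-- a proper normal subgroup has order prime to `5` -/
theorem not_dvd_of_ne_top (N : Subgroup G) [hN : N.Normal] (hne : N ≠ ⊤) :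
    ¬ 5 ∣ Nat.card N := by
  intro h5
  have : Fact (Nat.Prime 5) := ⟨by norm_num⟩
  obtain ⟨y, hy⟩ := exists_prime_orderOf_dvd_card' (G := N) 5 h5
  have hy5 : orderOf (y : G) = 5 := by rw [Subgroup.orderOf_coe, hy]
  have hfacG : (60 : ℕ).factorization 5 = 1 :=
    factorization_eq 60 5 1 12 (by norm_num) (by norm_num) (by norm_num)
  have hNdvd : Nat.card N ∣ 60 := hcard ▸ Subgroup.card_subgroup_dvd_card N
  have hNpos : 0 < Nat.card N := Nat.card_pos
  have hfacN : (Nat.card N).factorization 5 = 1 := by
    apply le_antisymm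
    · have := (Nat.factorization_le_iff_dvd hNpos.ne' (by norm_num)).2 hNdvd 5
      rwa [hfacG] at this
    · exact (Nat.Prime.dvd_iff_one_le_factorization (by norm_num) hNpos.ne').1 h5
  have hc : Nat.card (zpowers y) = 5 ^ (Nat.card N).factorization 5 := by
    rw [Nat.card_zpowers, hy, hfacN, pow_one]
  obtain ⟨P, hPcoe⟩ : ∃ P : Sylow 5 N, (P : Subgroup N) = zpowers y :=
    ⟨Sylow.ofCard (zpowers y) hc, Sylow.coe_ofCard _ hc⟩
  have hPcard : Nat.card (P : Subgroup N) = 5 := by rw [hPcoe, Nat.card_zpowers, hy]
  have hmap : ((P : Subgroup N).map N.subtype : Subgroup G) = zpowers (y : G) := by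
    rw [hPcoe, MonoidHom.map_zpowers]; rfl
  -- index of `N` divides `10` and `12`, so it is `2`
  have hidx10 : N.index ∣ 10 := by
    have := index_dvd_card_normalizer N 5 P
    rwa [hmap, card_normalizer_zpowers_five h hcard (y : G) hy5] at this
  have hNidx : N.index = 2 := by
    have h1 := N.card_mul_index
    rw [hcard] at h1
    obtain ⟨m, hm⟩ := h5
    have h12 : N.index ∣ 12 := ⟨m, by rw [hm] at h1; nlinarith⟩
    have hne1 : N.index ≠ 1 := fun h1' => hne (Subgroup.index_eq_one.1 h1')
    have hpos : 0 < N.index := Nat.pos_of_ne_zero (by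
      intro h0; rw [h0] at h1; omega)
    have hle := Nat.le_of_dvd (by norm_num) hidx10
    generalize N.index = k at *
    interval_cases k
    all_goals omega
  have hNcard : Nat.card N = 30 := by
    have h1 := N.card_mul_index
    rw [hcard, hNidx] at h1
    omega
  -- Sylow `5`-subgroups of `N`
  have hPidx : (P : Subgroup N).index = 6 := by
    have h1 := (P : Subgroup N).card_mul_index
    rw [hPcard, hNcard] at h1
    omega
  have hmod := card_sylow_modEq_one 5 N
  have hdvd := P.card_dvd_index
  rw [hPidx] at hdvd
  have hn5 : Nat.card (Sylow 5 N) = 1 ∨ Nat.card (Sylow 5 N) = 6 := by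
    have hle := Nat.le_of_dvd (by norm_num) hdvd
    have hpos : 0 < Nat.card (Sylow 5 N) := Nat.card_pos
    unfold Nat.ModEq at hmod
    generalize Nat.card (Sylow 5 N) = k at *
    interval_cases k <;> simp_all
  rcases hn5 with h1 | h6
  · -- unique Sylow subgroup of `N`: normal in `G`
    have hsub : Subsingleton (Sylow 5 N) := (Nat.card_eq_one_iff_unique.1 h1).1
    have hconj : ∀ g : G, g * (y : G) * g⁻¹ ∈ zpowers (y : G) := by
      intro g
      have hgy : g * (y : G) * g⁻¹ ∈ N := hN.conj_mem _ y.2 g
      have hy'5 : orderOf (⟨g * (y : G) * g⁻¹, hgy⟩ : N) = 5 := by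
        rw [← Subgroup.orderOf_coe]
        show orderOf (g * (y : G) * g⁻¹) = 5
        have := orderOf_injective (MulAut.conj g).toMonoidHom (MulAut.conj g).injective (y : G)
        rw [← hy5, ← this]
        rfl
      have hc' : Nat.card (zpowers (⟨g * (y : G) * g⁻¹, hgy⟩ : N)) =
          5 ^ (Nat.card N).factorization 5 := by
        rw [Nat.card_zpowers, hy'5, hfacN, pow_one]
      have heq : Sylow.ofCard _ hc' = P := Subsingleton.elim _ _
      have heq' : zpowers (⟨g * (y : G) * g⁻¹, hgy⟩ : N) = zpowers y := by
        rw [← hPcoe, ← heq, Sylow.coe_ofCard]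
      have hmem : (⟨g * (y : G) * g⁻¹, hgy⟩ : N) ∈ zpowers y := by
        rw [← heq']; exact mem_zpowers _
      obtain ⟨k, hk⟩ := mem_zpowers_iff.1 hmem
      rw [mem_zpowers_iff]
      refine ⟨k, ?_⟩
      have := congrArg Subtype.val hk
      simpa using this
    have hnorm : (zpowers (y : G)).Normal := by
      constructor
      intro x hx g
      obtain ⟨k, rfl⟩ := mem_zpowers_iff.1 hx
      rw [← conj_zpow]
      exact zpow_mem (hconj g) k
    have := h _ hnorm inferInstance
    have hy1 : (y : G) = 1 := by
      have : (y : G) ∈ (⊥ : Subgroup G) := by rw [← this]; exact mem_zpowers _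
      exact Subgroup.mem_bot.1 this
    rw [hy1, orderOf_one] at hy5
    omega
  · -- self-normalising Sylow subgroup: Burnside transfer
    have hnidx : (normalizer (P : Set N)).index = 6 := by
      rw [← P.card_eq_index_normalizer, h6]
    have hncard : Nat.card (normalizer (P : Set N)) = 5 := by
      have h1 := (normalizer (P : Set N)).card_mul_index
      rw [hnidx, hNcard] at h1
      omega
    have hneq : normalizer (P : Set N) = (P : Subgroup N) := by
      symm
      have hle : Nat.card (normalizer (P : Set N)) ≤ Nat.card (P : Subgroup N) := by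
        rw [hncard, hPcard]
      exact Subgroup.eq_of_le_of_card_ge Subgroup.le_normalizer hle
    have hP : normalizer (P : Set N) ≤ centralizer (P : Set N) := by
      rw [hneq]
      intro a ha
      rw [Subgroup.mem_centralizer_iff]
      intro b hb
      have ha' : a ∈ zpowers y := by rw [← hPcoe]; exact ha
      have hb' : b ∈ zpowers y := by rw [← hPcoe]; exact hb
      obtain ⟨i, rfl⟩ := mem_zpowers_iff.1 ha'
      obtain ⟨j, rfl⟩ := mem_zpowers_iff.1 hb'
      exact (zpow_mul_comm y j i)
    have hcompl := MonoidHom.ker_transferSylow_isComplement' P hP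
    have hKcard : Nat.card (MonoidHom.transferSylow P hP).ker = 6 := by
      have := hcompl.card_mul_card
      rw [hPcard, hNcard] at this
      omega
    -- the image of the kernel in `G` is normal
    have hKnorm : ((MonoidHom.transferSylow P hP).ker.map N.subtype).Normal := by
      constructor
      rintro _ ⟨x, hx, rfl⟩ g
      have hgx : g * (x : G) * g⁻¹ ∈ N := hN.conj_mem _ x.2 g
      refine ⟨⟨g * (x : G) * g⁻¹, hgx⟩, ?_, rfl⟩
      have hx6 : x ^ 6 = 1 := by
        have := pow_card_eq_one' (G := (MonoidHom.transferSylow P hP).ker) (x := ⟨x, hx⟩)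
        rw [hKcard] at this
        exact congrArg Subtype.val this
      have hx6' : (⟨g * (x : G) * g⁻¹, hgx⟩ : N) ^ 6 = 1 := by
        apply Subtype.ext
        show (g * (x : G) * g⁻¹) ^ 6 = 1
        rw [conj_pow]
        have : (x : G) ^ 6 = 1 := by
          have := congrArg Subtype.val hx6
          simpa using this
        rw [this]; group
      show _ ∈ (MonoidHom.transferSylow P hP).ker
      rw [MonoidHom.mem_ker]
      set w := MonoidHom.transferSylow P hP ⟨g * (x : G) * g⁻¹, hgx⟩ with hw
      have hw6 : w ^ 6 = 1 := by rw [hw, ← map_pow, hx6', map_one]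
      have hw5 : w ^ 5 = 1 := by
        have := pow_card_eq_one' (G := (P : Subgroup N)) (x := w)
        rwa [hPcard] at this
      calc w = w ^ 6 * (w ^ 5)⁻¹ := by group
        _ = 1 := by rw [hw6, hw5, inv_one, mul_one]
    have hK6 : Nat.card ((MonoidHom.transferSylow P hP).ker.map N.subtype) = 6 := by
      rw [Subgroup.card_map_of_injective N.subtype_injective, hKcard]
    have hbot := eq_bot_of_not_dvd h hcard _ (hN := hKnorm) (by rw [hK6]; norm_num)
    rw [hbot, Subgroup.card_bot] at hK6
    omega

/-- a group of order `60` without cyclic normal subgroups is simple -/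
theorem isSimpleGroup_sixty : IsSimpleGroup G := by
  have hnt : Nontrivial G := by
    rw [← Finite.one_lt_card_iff_nontrivial, hcard]; norm_num
  refine { exists_pair_ne := hnt.exists_pair_ne, eq_bot_or_eq_top_of_normal := ?_ }
  intro N hN
  by_cases htop : N = ⊤
  · exact Or.inr htop
  · left
    exact eq_bot_of_not_dvd h hcard N (not_dvd_of_ne_top h hcard N htop)

/-- order `60` -/
theorem equiv_A5 : Nonempty (G ≃* alternatingGroup (Fin 5)) := by
  have := isSimpleGroup_sixty h hcard
  exact Cfsg.Agent.S0494.result hcard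

end sixty

end Cfsg.Agent.Lib.Helper50_DkGroups
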