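import Mathlib
import Cfsg.Agent.Lib.Helper50_SL2Mat

/-!
# Centralisers of semisimple elements of `SL(2,F)` (helper50, Dickson project)

For a non-scalar `x ∈ SL(2,F)` every element commuting with `x` has the form `α + β x`.  If `λ` is a
root of the characteristic polynomial of `x` in an extension field `E` and `λ ≠ λ⁻¹`, then
`α + β x ↦ α + β λ` is an injective homomorphism from the centraliser of `x` into `Eˣ`; hence every
finite subgroup of the centraliser of a semisimple non-scalar element is cyclic.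
-/

set_option autoImplicit false

namespace Cfsg.Agent.Lib.Helper50_DkTorus

open Matrix Cfsg.Agent.Lib.Helper50_SL2Mat
open scoped MatrixGroups

variable {F : Type*} [Field F]

/-- `a = α + β x` entrywise -/
def Rep (x a : SL(2, F)) (α β : F) : Prop :=
  a 0 0 = α + β * x 0 0 ∧ a 0 1 = β * x 0 1 ∧ a 1 0 = β * x 1 0 ∧ a 1 1 = α + β * x 1 1

/-- every element commuting with a non-scalar `x` is `α + β x` -/
theorem exists_rep {x a : SL(2, F)} (hx : ¬ IsScalar x) (h : Commute a x) :
    ∃ α β : F, Rep x a α β := by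
  rw [commute_iff] at h
  obtain ⟨a1, a2, a3⟩ := h
  unfold IsScalar at hx
  by_cases c1 : x 0 1 = 0
  · by_cases c2 : x 1 0 = 0
    · have c3 : x 0 0 - x 1 1 ≠ 0 := fun h => hx ⟨c1, c2, sub_eq_zero.1 h⟩
      rw [c1] at a2
      rw [c2] at a3
      have e1 : a 0 1 = 0 := by
        have : a 0 1 * (x 0 0 - x 1 1) = 0 := by linear_combination a2
        exact (mul_eq_zero.1 this).resolve_right c3
      have e2 : a 1 0 = 0 := by
        have : a 1 0 * (x 0 0 - x 1 1) = 0 := by linear_combination a3
        exact (mul_eq_zero.1 this).resolve_right c3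
      refine ⟨a 0 0 - (a 0 0 - a 1 1) / (x 0 0 - x 1 1) * x 0 0,
        (a 0 0 - a 1 1) / (x 0 0 - x 1 1), ?_, ?_, ?_, ?_⟩
      · ring
      · rw [e1, c1]; ring
      · rw [e2, c2]; ring
      · field_simp
        ring
    · refine ⟨a 0 0 - a 1 0 / x 1 0 * x 0 0, a 1 0 / x 1 0, ?_, ?_, ?_, ?_⟩
      · ring
      · field_simp
        linear_combination a1
      · field_simp
      · field_simp
        linear_combination a3
  · refine ⟨a 0 0 - a 0 1 / x 0 1 * x 0 0, a 0 1 / x 0 1, ?_, ?_, ?_, ?_⟩
    · ring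
    · field_simp
    · field_simp
      linear_combination -a1
    · field_simp
      linear_combination a2

theorem rep_unique {x a : SL(2, F)} (hx : ¬ IsScalar x) {α β α' β' : F} (h : Rep x a α β)
    (h' : Rep x a α' β') : α = α' ∧ β = β' := by
  obtain ⟨r1, r2, r3, r4⟩ := h
  obtain ⟨s1, s2, s3, s4⟩ := h'
  have hβ : β = β' := by
    unfold IsScalar at hx
    by_contra hne
    have hd : β - β' ≠ 0 := sub_ne_zero.2 hne
    apply hx
    refine ⟨?_, ?_, ?_⟩
    · have : (β - β') * x 0 1 = 0 := by linear_combination r2.symm.trans s2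
      exact (mul_eq_zero.1 this).resolve_left hd
    · have : (β - β') * x 1 0 = 0 := by linear_combination r3.symm.trans s3
      exact (mul_eq_zero.1 this).resolve_left hd
    · have : (β - β') * (x 0 0 - x 1 1) = 0 := by
        linear_combination (r1.symm.trans s1) - (r4.symm.trans s4)
      exact sub_eq_zero.1 ((mul_eq_zero.1 this).resolve_left hd)
  refine ⟨?_, hβ⟩
  subst hβ
  linear_combination r1.symm.trans s1

theorem rep_one (x : SL(2, F)) : Rep x 1 1 0 := by
  refine ⟨?_, ?_, ?_, ?_⟩ <;> simp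

/-- `x² = τ x - 1` entrywise, used for products of representations -/
theorem rep_mul {x a b : SL(2, F)} {α β α' β' : F} (ha : Rep x a α β) (hb : Rep x b α' β') :
    Rep x (a * b) (α * α' - β * β') (α * β' + α' * β + β * β' * tr x) := by
  obtain ⟨r1, r2, r3, r4⟩ := ha
  obtain ⟨s1, s2, s3, s4⟩ := hb
  have hd := det1 x
  unfold tr
  refine ⟨?_, ?_, ?_, ?_⟩
  · rw [mul00, r1, r2, s1, s3]; linear_combination (-(β * β')) * hd
  · rw [mul01, r1, r2, s2, s4]; ring
  · rw [mul10, r3, r4, s1, s3]; ring
  · rw [mul11, r3, r4, s2, s4]; linear_combination (-(β * β')) * hd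

theorem rep_tr {x a : SL(2, F)} {α β : F} (ha : Rep x a α β) : tr a = 2 * α + β * tr x := by
  obtain ⟨r1, -, -, r4⟩ := ha
  unfold tr
  rw [r1, r4]; ring

theorem rep_det {x a : SL(2, F)} {α β : F} (ha : Rep x a α β) :
    α * α + α * β * tr x + β * β = 1 := by
  obtain ⟨r1, r2, r3, r4⟩ := ha
  have hd := det1 x
  have hda := det1 a
  rw [r1, r2, r3, r4] at hda
  unfold tr
  linear_combination hda - β * β * hd

variable {E : Type*} [Field E]

section eigen

variable (ι : F →+* E) {x : SL(2, F)} {lam mu : E}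

/-- the eigenvalue of `a = α + β x` -/
noncomputable def ev (lam : E) (α β : F) : E := ι α + ι β * lam

theorem ev_mul (hsum : lam + mu = ι (tr x)) (hprod : lam * mu = 1) (α β α' β' : F) :
    ev ι lam (α * α' - β * β') (α * β' + α' * β + β * β' * tr x) =
      ev ι lam α β * ev ι lam α' β' := by
  unfold ev
  simp only [map_sub, map_mul, map_add]
  rw [← hsum]
  linear_combination (ι β * ι β') * hprod

theorem ev_mul_ev (hsum : lam + mu = ι (tr x)) (hprod : lam * mu = 1) {a : SL(2, F)} {α β : F}
    (ha : Rep x a α β) : ev ι lam α β * ev ι mu α β = 1 := by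
  have hd := congrArg ι (rep_det ha)
  simp only [map_add, map_mul, map_one] at hd
  rw [← hsum] at hd
  unfold ev
  linear_combination hd + (ι β * ι β) * hprod

theorem eq_one_of_ev (hsum : lam + mu = ι (tr x)) (hprod : lam * mu = 1)
    (hne : lam ≠ mu) {a : SL(2, F)} {α β : F} (ha : Rep x a α β) (h1 : ev ι lam α β = 1) :
    a = 1 := by
  have h2 : ev ι mu α β = 1 := by
    have := ev_mul_ev ι hsum hprod ha
    rw [h1, one_mul] at this
    exact this
  unfold ev at h1 h2
  have hβ : ι β = 0 := by
    have : ι β * (lam - mu) = 0 := by linear_combination h1 - h2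
    exact (mul_eq_zero.1 this).resolve_right (sub_ne_zero.2 hne)
  have hα : ι α = 1 := by rw [hβ] at h1; linear_combination h1
  have hβ0 : β = 0 := (map_eq_zero ι).1 hβ
  have hα1 : α = 1 := ι.injective (by rw [hα, map_one])
  obtain ⟨r1, r2, r3, r4⟩ := ha
  subst hβ0 hα1
  apply ext4
  · rw [r1, one00]; ring
  · rw [r2, one01]; ring
  · rw [r3, one10]; ring
  · rw [r4, one11]; ring


theorem ev_add_ev (hsum : lam + mu = ι (tr x)) {a : SL(2, F)} {α β : F}
    (ha : Rep x a α β) : ev ι lam α β + ev ι mu α β = ι (tr a) := by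
  rw [rep_tr ha]
  unfold ev
  simp only [map_add, map_mul, map_ofNat]
  rw [← hsum]
  ring

end eigen

/-- the homomorphism from a subgroup of the centraliser of `x` to `E`, with the quadratic relation
satisfied by its values -/
theorem exists_hom' (ι : F →+* E) {x : SL(2, F)} {lam mu : E} (hx : ¬ IsScalar x)
    (hsum : lam + mu = ι (tr x)) (hprod : lam * mu = 1) (hne : lam ≠ mu)
    (A : Subgroup SL(2, F)) (hA : ∀ a ∈ A, Commute a x) :
    ∃ f : A →* E, Function.Injective f ∧
      (∀ a : A, f a * f a - ι (tr (a : SL(2, F))) * f a + 1 = 0) ∧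
      ∀ a : A, (a : SL(2, F)) = x → f a = lam := by
  classical
  choose α β hαβ using fun a : A => exists_rep hx (hA a.1 a.2)
  have hone : α 1 = 1 ∧ β 1 = 0 := rep_unique hx (hαβ 1) (rep_one x)
  have hmul : ∀ a b : A, α (a * b) = α a * α b - β a * β b ∧
      β (a * b) = α a * β b + α b * β a + β a * β b * tr x := fun a b =>
    rep_unique hx (hαβ (a * b)) (rep_mul (hαβ a) (hαβ b))
  let f : A →* E :=
    { toFun := fun a => ev ι lam (α a) (β a)
      map_one' := by
        show ev ι lam (α 1) (β 1) = 1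
        rw [hone.1, hone.2]; simp [ev]
      map_mul' := fun a b => by
        show ev ι lam (α (a * b)) (β (a * b)) = ev ι lam (α a) (β a) * ev ι lam (α b) (β b)
        rw [(hmul a b).1, (hmul a b).2]
        exact ev_mul ι hsum hprod _ _ _ _ }
  refine ⟨f, ?_, ?_, ?_⟩
  · rw [injective_iff_map_eq_one]
    intro a ha
    apply Subtype.ext
    exact eq_one_of_ev ι hsum hprod hne (hαβ a) ha
  · intro a
    show ev ι lam (α a) (β a) * ev ι lam (α a) (β a) - ι (tr (a : SL(2, F))) * ev ι lam (α a) (β a)
      + 1 = 0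
    have h1 := ev_mul_ev ι hsum hprod (hαβ a)
    have h2 := ev_add_ev ι hsum (mu := mu) (hαβ a)
    rw [← h2]
    linear_combination (-1 : E) * h1
  · intro a hax
    show ev ι lam (α a) (β a) = lam
    have hr : Rep x (a : SL(2, F)) 0 1 := by
      rw [hax]
      refine ⟨?_, ?_, ?_, ?_⟩ <;> ring
    obtain ⟨h0, h1⟩ := rep_unique hx (hαβ a) hr
    rw [h0, h1]
    simp [ev]

theorem exists_hom (ι : F →+* E) {x : SL(2, F)} {lam mu : E} (hx : ¬ IsScalar x)
    (hsum : lam + mu = ι (tr x)) (hprod : lam * mu = 1) (hne : lam ≠ mu)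
    (A : Subgroup SL(2, F)) (hA : ∀ a ∈ A, Commute a x) :
    ∃ f : A →* E, Function.Injective f := by
  obtain ⟨f, hf, -⟩ := exists_hom' ι hx hsum hprod hne A hA
  exact ⟨f, hf⟩

/-- not scalar when `tr² ≠ 4` -/
theorem not_isScalar_of_tr {x : SL(2, F)} (hx : tr x * tr x ≠ 4) : ¬ IsScalar x := by
  intro hs
  apply hx
  have hsq := hs.sq
  obtain ⟨-, -, h3⟩ := hs
  unfold tr
  rw [← h3]
  linear_combination 4 * hsq

/-- cyclicity, given a square root of the discriminant in an extension field -/
theorem isCyclic_of_commute_aux (h2 : (2 : F) ≠ 0) (ι : F →+* E) {x : SL(2, F)}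
    (hx : tr x * tr x ≠ 4) (δ : E) (hδ : δ * δ = ι (tr x * tr x - 4))
    (A : Subgroup SL(2, F)) [Finite A] (hA : ∀ a ∈ A, Commute a x) : IsCyclic A := by
  have h2E : (2 : E) ≠ 0 := by
    have h : (2 : E) = ι 2 := (map_ofNat ι 2).symm
    rw [h]
    exact (map_ne_zero ι).2 h2
  have hδ0 : δ ≠ 0 := by
    intro h0
    rw [h0, mul_zero] at hδ
    have := (map_eq_zero ι).1 hδ.symm
    exact hx (by linear_combination this)
  have hδ' : δ * δ = ι (tr x) * ι (tr x) - 4 := by
    rw [hδ, map_sub, map_mul, map_ofNat]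
  obtain ⟨f, hf⟩ := exists_hom ι (lam := (ι (tr x) + δ) / 2) (mu := (ι (tr x) - δ) / 2)
    (not_isScalar_of_tr hx) (by field_simp; ring)
    (by field_simp; linear_combination (-1 : E) * hδ')
    (by
      intro h
      apply hδ0
      field_simp at h
      have h' : 2 * δ = 0 := by linear_combination h
      exact (mul_eq_zero.1 h').resolve_left h2E) A hA
  exact isCyclic_of_injective_ringHom f hf

/-- **Cyclicity.** A finite subgroup of the centraliser of a semisimple non-scalar element of
`SL(2,F)` (`2 ≠ 0`) is cyclic. -/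
theorem isCyclic_of_commute (h2 : (2 : F) ≠ 0) {x : SL(2, F)} (hx : tr x * tr x ≠ 4)
    (A : Subgroup SL(2, F)) [Finite A] (hA : ∀ a ∈ A, Commute a x) : IsCyclic A := by
  obtain ⟨δ, hδ⟩ := IsAlgClosed.exists_pow_nat_eq
    (algebraMap F (AlgebraicClosure F) (tr x * tr x - 4)) (n := 2) (by norm_num)
  exact isCyclic_of_commute_aux h2 (algebraMap F (AlgebraicClosure F)) hx δ
    (by rw [← hδ]; ring) A hA


open Polynomial in
theorem exists_root_quadratic {K : Type*} [Field K] [IsAlgClosed K] (τ : K) :
    ∃ lam : K, lam * lam - τ * lam + 1 = 0 := by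
  have hnat : (X ^ 2 - C τ * X + 1 : K[X]).natDegree = 2 := by compute_degree!
  have hdeg : (X ^ 2 - C τ * X + 1 : K[X]).degree ≠ 0 := by
    intro h
    have h0 := natDegree_eq_zero_iff_degree_le_zero.2 (le_of_eq h)
    rw [hnat] at h0
    norm_num at h0
  obtain ⟨x, hx⟩ := IsAlgClosed.exists_root _ hdeg
  refine ⟨x, ?_⟩
  simpa [IsRoot, pow_two] using hx

/-- **Cyclicity, any characteristic.** A finite subgroup of the centraliser of an element `x` of
`SL(2,F)` with `tr x ^ 2 ≠ 4` is cyclic. -/
theorem isCyclic_of_commute' {x : SL(2, F)} (hx : tr x * tr x ≠ 4)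
    (A : Subgroup SL(2, F)) [Finite A] (hA : ∀ a ∈ A, Commute a x) : IsCyclic A := by
  obtain ⟨lam, hlam⟩ := exists_root_quadratic (algebraMap F (AlgebraicClosure F) (tr x))
  obtain ⟨f, hf⟩ := exists_hom (algebraMap F (AlgebraicClosure F)) (lam := lam)
    (mu := algebraMap F (AlgebraicClosure F) (tr x) - lam)
    (not_isScalar_of_tr hx) (by ring) (by linear_combination -hlam)
    (by
      intro h
      apply hx
      apply (algebraMap F (AlgebraicClosure F)).injective
      rw [map_mul, map_ofNat]
      have h1 : algebraMap F (AlgebraicClosure F) (tr x) = 2 * lam := by linear_combination -h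
      rw [h1] at hlam ⊢
      linear_combination (-4 : AlgebraicClosure F) * hlam) A hA
  exact isCyclic_of_injective_ringHom f hf


/-- **Equal or inverse, any characteristic.** Commuting elements of `SL(2,F)` with the same trace
`τ`, `τ² ≠ 4`, are equal or inverse to each other. -/
theorem eq_or_eq_inv_of_commute' {y z : SL(2, F)} (h : Commute z y) (ht : tr z = tr y)
    (hy : tr y * tr y ≠ 4) : z = y ∨ z = y⁻¹ := by
  obtain ⟨lam, hlam⟩ := exists_root_quadratic (algebraMap F (AlgebraicClosure F) (tr y))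
  obtain ⟨f, hf, hq, hfy⟩ := exists_hom' (algebraMap F (AlgebraicClosure F)) (lam := lam)
    (mu := algebraMap F (AlgebraicClosure F) (tr y) - lam)
    (not_isScalar_of_tr hy) (by ring) (by linear_combination -hlam)
    (by
      intro h
      apply hy
      apply (algebraMap F (AlgebraicClosure F)).injective
      rw [map_mul, map_ofNat]
      have h1 : algebraMap F (AlgebraicClosure F) (tr y) = 2 * lam := by linear_combination -h
      rw [h1] at hlam ⊢
      linear_combination (-4 : AlgebraicClosure F) * hlam)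
    (Subgroup.centralizer {y}) (fun a ha => Subgroup.mem_centralizer_singleton_iff.1 ha)
  have hyC : y ∈ Subgroup.centralizer ({y} : Set SL(2, F)) :=
    Subgroup.mem_centralizer_singleton_iff.2 rfl
  have hzC : z ∈ Subgroup.centralizer ({y} : Set SL(2, F)) :=
    Subgroup.mem_centralizer_singleton_iff.2 h.eq
  have h1 := hq ⟨z, hzC⟩
  have h2 : f ⟨y, hyC⟩ = lam := hfy ⟨y, hyC⟩ rfl
  simp only at h1
  rw [ht] at h1
  -- `f z` is a root of the same quadratic as `lam`
  have h3 : (f ⟨z, hzC⟩ - lam) * (f ⟨z, hzC⟩ * lam - 1) = 0 := by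
    linear_combination lam * h1 - f ⟨z, hzC⟩ * hlam
  rcases mul_eq_zero.1 h3 with h4 | h4
  · left
    have : f ⟨z, hzC⟩ = f ⟨y, hyC⟩ := by rw [h2]; linear_combination h4
    exact congrArg Subtype.val (hf this)
  · right
    have hinv : (⟨z, hzC⟩ : Subgroup.centralizer ({y} : Set SL(2, F))) * ⟨y, hyC⟩ = 1 := by
      apply hf
      rw [map_mul, map_one, h2]
      linear_combination h4
    have := congrArg Subtype.val hinv
    exact eq_inv_of_mul_eq_one_left this

end Cfsg.Agent.Lib.Helper50_DkTorus
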