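import Mathlib
import Cfsg.Agent.Lib.Helper41_SL2
import Cfsg.Agent.Lib.Helper54_TwoGroups
import Cfsg.Agent.Lib.Helper50_DkTorus
import Cfsg.Agent.Lib.Helper50_DkPSL

/-!
# The cyclic and dihedral cases of Dickson's theorem (helper50)

`cyc_case`: an abelian subgroup `K` of `SL(2,F)` of order prime to `p` all of whose elements with
`tr² = 4` are scalar has cyclic image in `PSL(2,F)`, of order dividing `(q ± 1)/d`.

`dih_case`: if `T = K ∩ C(x)` has index `2` in `K` (`x` semisimple) then the image of `K` is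
dihedral of order `2k`, `k ∣ (q ± 1)/d`.
-/

set_option autoImplicit false

namespace Cfsg.Agent.Lib.Helper50_DkTorusCase

open Matrix Cfsg.Agent.Lib.Helper50_SL2Mat Cfsg.Agent.Lib.Helper50_DkPSL
  Cfsg.Agent.Lib.Helper50_DkTorus
open scoped MatrixGroups

variable {F : Type*} [Field F] [Fintype F] (p : ℕ) [Fact p.Prime] [CharP F p]

/-- the order of an element of `PSL(2,F)` of order prime to `p` divides `(q+1)/d` or `(q-1)/d` -/
theorem orderOf_dvd (a : SL(2, F)) (hcop : ¬ p ∣ orderOf (proj a)) :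
    orderOf (proj a) ∣ (Fintype.card F + 1) / Nat.gcd 2 (Fintype.card F - 1) ∨
      orderOf (proj a) ∣ (Fintype.card F - 1) / Nat.gcd 2 (Fintype.card F - 1) := by
  rcases Cfsg.Agent.Lib.Helper41_SL2.psl2_pow_cases p a with h | h | h
  · have h1 : orderOf (proj a) ∣ p := orderOf_dvd_of_pow_eq_one h
    rcases (Nat.dvd_prime (Fact.out : p.Prime)).1 h1 with h2 | h2
    · left; rw [h2]; exact one_dvd _
    · exact absurd (h2 ▸ dvd_refl _) hcop
  · right; exact orderOf_dvd_of_pow_eq_one h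
  · left; exact orderOf_dvd_of_pow_eq_one h

omit [Fintype F] [Fact p.Prime] [CharP F p] in
theorem isScalar_pow {a : SL(2, F)} (ha : IsScalar a) (n : ℕ) : IsScalar (a ^ n) := by
  induction n with
  | zero => rw [pow_zero]; exact isScalar_one
  | succ n ih => rw [pow_succ]; exact ih.mul ha

omit [Fintype F] [Fact p.Prime] [CharP F p] in
theorem isScalar_zpow {a : SL(2, F)} (ha : IsScalar a) (n : ℤ) : IsScalar (a ^ n) := by
  cases n with
  | ofNat n => rw [Int.ofNat_eq_natCast, zpow_natCast]; exact isScalar_pow ha n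
  | negSucc n => rw [zpow_negSucc]; exact (isScalar_pow ha _).inv

/-- **The cyclic case.** -/
theorem cyc_case (K : Subgroup SL(2, F)) (hcomm : ∀ a ∈ K, ∀ b ∈ K, a * b = b * a)
    (hss : ∀ x ∈ K, tr x * tr x = 4 → IsScalar x) (hcop : ¬ p ∣ Nat.card K) :
    ∃ k : ℕ, (k ∣ (Fintype.card F + 1) / Nat.gcd 2 (Fintype.card F - 1) ∨
        k ∣ (Fintype.card F - 1) / Nat.gcd 2 (Fintype.card F - 1)) ∧
      IsCyclic ↥(K.map proj) ∧ Nat.card ↥(K.map proj) = k := by
  have hcyc : IsCyclic ↥(K.map proj) := by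
    by_cases hex : ∃ x ∈ K, ¬ IsScalar x
    · obtain ⟨x, hxK, hxs⟩ := hex
      have hx4 : tr x * tr x ≠ 4 := fun h => hxs (hss x hxK h)
      have : IsCyclic K := isCyclic_of_commute' hx4 K (fun a ha => hcomm a ha x hxK)
      exact isCyclic_of_surjective (projRestrict K) (projRestrict_surjective K)
    · push Not at hex
      have : Subsingleton ↥(K.map proj) := by
        constructor
        rintro ⟨_, ⟨a, ha, rfl⟩⟩ ⟨_, ⟨b, hb, rfl⟩⟩
        apply Subtype.ext
        show proj a = proj b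
        rw [(proj_eq_one_iff a).2 (hex a ha), (proj_eq_one_iff b).2 (hex b hb)]
      infer_instance
  obtain ⟨c, hc⟩ := hcyc.exists_generator
  have hord : orderOf c = Nat.card ↥(K.map proj) := orderOf_eq_card_of_forall_mem_zpowers hc
  obtain ⟨a, ha, hac⟩ : ∃ a ∈ K, proj a = (c : Matrix.ProjectiveSpecialLinearGroup (Fin 2) F) := by
    obtain ⟨a, ha, h⟩ := c.2
    exact ⟨a, ha, h⟩
  have hord' : orderOf (proj a) = Nat.card ↥(K.map proj) := by
    rw [hac, Subgroup.orderOf_coe, hord]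
  have hdvdK : Nat.card ↥(K.map proj) ∣ Nat.card K :=
    Subgroup.card_dvd_of_surjective (projRestrict K) (projRestrict_surjective K)
  refine ⟨Nat.card ↥(K.map proj), ?_, hcyc, rfl⟩
  rw [← hord']
  apply orderOf_dvd p a
  rw [hord']
  exact fun h => hcop (h.trans hdvdK)

omit [Fintype F] [Fact p.Prime] [CharP F p] in
theorem nonempty_mulEquiv_dihedralGroup_aux {G : Type*} [Group G] [Finite G] (c x : G)
    (hx2 : x * x = 1) (hxc : x * c * x⁻¹ = c⁻¹) (hxn : x ∉ Subgroup.zpowers c)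
    (hcard : Nat.card G = 2 * orderOf c) : Nonempty (G ≃* DihedralGroup (orderOf c)) :=
  Cfsg.Agent.Lib.Helper54_TwoGroups.nonempty_mulEquiv_dihedralGroup (orderOf c) c x rfl hx2 hxc
    hxn hcard

/-- **The dihedral case.** -/
theorem dih_case (K T : Subgroup SL(2, F)) (hTK : T ≤ K) (hidx : T.relIndex K = 2)
    (x : SL(2, F)) (hx : tr x * tr x ≠ 4) (hxT : x ∈ T)
    (hTC : ∀ y ∈ K, (y ∈ T ↔ Commute y x))
    (hss : ∀ y ∈ T, tr y * tr y = 4 → IsScalar y) (hT2 : ∀ y ∈ T, y * y = 1 → IsScalar y)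
    (hcop : ¬ p ∣ Nat.card T) :
    ∃ k : ℕ, (k ∣ (Fintype.card F + 1) / Nat.gcd 2 (Fintype.card F - 1) ∨
        k ∣ (Fintype.card F - 1) / Nat.gcd 2 (Fintype.card F - 1)) ∧
      Nonempty (↥(K.map proj) ≃* DihedralGroup k) := by
  classical
  have hxs : ¬ IsScalar x := not_isScalar_of_tr hx
  have hcomm : ∀ a ∈ T, Commute a x := fun a ha => (hTC a (hTK ha)).1 ha
  -- `T` is cyclic
  have hTcyc : IsCyclic T := isCyclic_of_commute' hx T hcomm
  obtain ⟨a₀, ha₀⟩ := hTcyc.exists_generator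
  have haT : (a₀ : SL(2, F)) ∈ T := a₀.2
  have haK : (a₀ : SL(2, F)) ∈ K := hTK haT
  have hgen : ∀ y ∈ T, ∃ j : ℤ, (a₀ : SL(2, F)) ^ j = y := by
    intro y hy
    obtain ⟨j, hj⟩ := Subgroup.mem_zpowers_iff.1 (ha₀ ⟨y, hy⟩)
    refine ⟨j, ?_⟩
    have := congrArg Subtype.val hj
    simpa using this
  set a : SL(2, F) := (a₀ : SL(2, F)) with ha_def
  -- `a` is not scalar
  obtain ⟨jx, hjx⟩ := hgen x hxT
  have has : ¬ IsScalar a := fun h => hxs (hjx ▸ isScalar_zpow h jx)
  have ha4 : tr a * tr a ≠ 4 := fun h => has (hss a haT h)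
  -- scalars of `K` lie in `T`
  have hscT : ∀ y ∈ K, IsScalar y → y ∈ T := fun y hy hs => (hTC y hy).2 (hs.commute x)
  -- pick `g ∈ K \ T`
  obtain ⟨g, hgK, hgT⟩ : ∃ g ∈ K, g ∉ T := by
    by_contra hcon
    push Not at hcon
    have : K ≤ T := hcon
    have h1 : T.relIndex K = 1 := Subgroup.relIndex_eq_one.2 this
    omega
  -- `T` is normal in `K`
  have hnorm : (T.subgroupOf K).Normal := Subgroup.normal_of_index_eq_two hidx
  have hconjT : ∀ y ∈ T, g * y * g⁻¹ ∈ T := by
    intro y hy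
    have := hnorm.conj_mem ⟨y, hTK hy⟩ (Subgroup.mem_subgroupOf.2 hy) ⟨g, hgK⟩
    exact Subgroup.mem_subgroupOf.1 this
  -- `g a g⁻¹ = a⁻¹`
  have hTab : ∀ y ∈ T, ∀ z ∈ T, Commute y z := by
    intro y hy z hz
    obtain ⟨i, rfl⟩ := hgen y hy
    obtain ⟨j, rfl⟩ := hgen z hz
    exact (Commute.refl a).zpow_zpow i j
  have hga : g * a * g⁻¹ = a⁻¹ := by
    have h1 : Commute (g * a * g⁻¹) a := hTab _ (hconjT a haT) a haT
    have h2 : tr (g * a * g⁻¹) = tr a := tr_conj g a
    rcases eq_or_eq_inv_of_commute' h1 h2 ha4 with h | h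
    · exfalso
      apply hgT
      rw [hTC g hgK]
      have hcga : Commute g a := by
        have : g * a = a * g := by
          calc g * a = (g * a * g⁻¹) * g := by group
            _ = a * g := by rw [h]
        exact this
      rw [← hjx]
      exact hcga.zpow_right jx
    · exact h
  -- `g * g ∈ T`, and it is scalar
  have hggT : g * g ∈ T := by
    have := Subgroup.mul_self_mem_of_index_two hidx ⟨g, hgK⟩
    exact Subgroup.mem_subgroupOf.1 this
  have hconj_inv : ∀ y ∈ T, g * y * g⁻¹ = y⁻¹ := by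
    intro y hy
    obtain ⟨j, rfl⟩ := hgen y hy
    have : g * a ^ j * g⁻¹ = (g * a * g⁻¹) ^ j := by
      have := map_zpow (MulAut.conj g).toMonoidHom a j
      simpa [MulAut.conj_apply] using this
    rw [this, hga, _root_.inv_zpow]
  have hggs : IsScalar (g * g) := by
    apply hT2 _ hggT
    have h1 := hconj_inv _ hggT
    have h2 : g * (g * g) * g⁻¹ = g * g := by group
    rw [h2] at h1
    calc g * g * (g * g) = g * g * (g * g)⁻¹ := by rw [← h1]
      _ = 1 := mul_inv_cancel _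
  -- the images
  set ρ := projRestrict K with hρ
  have hρs : Function.Surjective ρ := projRestrict_surjective K
  set c : ↥(K.map proj) := ρ ⟨a, haK⟩ with hc_def
  set s : ↥(K.map proj) := ρ ⟨g, hgK⟩ with hs_def
  have hss1 : s * s = 1 := by
    rw [hs_def, ← map_mul, projRestrict_eq_one_iff]
    exact hggs
  have hsc : s * c * s⁻¹ = c⁻¹ := by
    rw [hs_def, hc_def, ← map_mul, ← map_inv, ← map_mul, ← map_inv]
    congr 1
    apply Subtype.ext
    exact hga
  have hzp : (T.subgroupOf K).map ρ = Subgroup.zpowers c := by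
    have h1 : T.subgroupOf K = Subgroup.zpowers (⟨a, haK⟩ : K) := by
      ext ⟨y, hy⟩
      rw [Subgroup.mem_subgroupOf, Subgroup.mem_zpowers_iff]
      constructor
      · intro hyT
        obtain ⟨j, hj⟩ := hgen y hyT
        refine ⟨j, ?_⟩
        apply Subtype.ext
        simpa using hj
      · rintro ⟨j, hj⟩
        have := congrArg Subtype.val hj
        simp only [Subgroup.coe_zpow] at this
        show y ∈ T
        rw [← this]
        exact T.zpow_mem haT j
    rw [h1, MonoidHom.map_zpowers]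
  have hker : ρ.ker ≤ T.subgroupOf K := by
    intro y hy
    rw [MonoidHom.mem_ker, projRestrict_eq_one_iff] at hy
    exact Subgroup.mem_subgroupOf.2 (hscT y y.2 hy)
  have hsn : s ∉ Subgroup.zpowers c := by
    rw [← hzp]
    rintro ⟨y, hy, hys⟩
    apply hgT
    have h1 : ρ (y⁻¹ * ⟨g, hgK⟩) = 1 := by rw [map_mul, map_inv, hys]; exact inv_mul_cancel _
    have h2 : y⁻¹ * ⟨g, hgK⟩ ∈ T.subgroupOf K := hker h1
    have h3 : (⟨g, hgK⟩ : K) ∈ T.subgroupOf K := by
      have := (T.subgroupOf K).mul_mem hy h2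
      simpa using this
    exact Subgroup.mem_subgroupOf.1 h3
  have hidx' : (Subgroup.zpowers c).index = 2 := by
    rw [← hzp, Subgroup.index_map_eq _ hρs hker]
    exact hidx
  have hcard : Nat.card ↥(K.map proj) = 2 * orderOf c := by
    rw [← Subgroup.card_mul_index (Subgroup.zpowers c), hidx', Nat.card_zpowers, mul_comm]
  refine ⟨orderOf c, ?_, nonempty_mulEquiv_dihedralGroup_aux c s hss1 hsc hsn hcard⟩
  have hco : orderOf c = orderOf (proj a) := by
    rw [← Subgroup.orderOf_coe]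
    rfl
  rw [hco]
  apply orderOf_dvd p a
  intro hdvd
  apply hcop
  have h1 : orderOf (proj a) ∣ orderOf a := orderOf_map_dvd proj a
  have h2 : orderOf a ∣ Nat.card T := by
    have : orderOf a₀ = orderOf a := (Subgroup.orderOf_coe a₀).symm
    rw [← this]
    exact orderOf_dvd_natCard a₀
  exact hdvd.trans (h1.trans h2)

end Cfsg.Agent.Lib.Helper50_DkTorusCase
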