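import Mathlib
import Cfsg.Agent.Lib.Helper50_DkTorusCase
import Cfsg.Agent.Lib.Helper50_DkGroups
import Cfsg.Agent.Lib.Helper50_SL2Rep

/-!
# Structural lemmas for Dickson's theorem (helper50)

* `dih_of_index_two`: a non-abelian subgroup `K` of `SL(2,F)` with an abelian semisimple subgroup
  of index two has dihedral image in `PSL(2,F)`.
* `exists_abelian_of_conj_commute`: if all `K`-conjugates of a semisimple `n` commute with `n` then
  `K ∩ C(n)` is abelian of index at most two in `K`.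
* `card_map_proj`: `|K| = 2 |K̄|` if `-1 ∈ K` (odd characteristic).
* `nnc_map_proj`: criterion for the image of `K` to have no cyclic normal subgroup.
-/

set_option autoImplicit false

namespace Cfsg.Agent.Lib.Helper50_DkStruct

open Matrix Cfsg.Agent.Lib.Helper50_SL2Mat Cfsg.Agent.Lib.Helper50_DkPSL
  Cfsg.Agent.Lib.Helper50_DkTorus Cfsg.Agent.Lib.Helper50_DkTorusCase
  Cfsg.Agent.Lib.Helper50_DkGroups
open scoped MatrixGroups

variable {F : Type*} [Field F]

/-- elements commuting with a non-scalar element commute with each other -/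
theorem comm_of_commute {x a b : SL(2, F)} (hx : ¬ IsScalar x) (ha : Commute a x)
    (hb : Commute b x) : a * b = b * a :=
  (commute_trans hx ha hb.symm).eq

/-- if an index two subgroup consists of scalars the group is abelian -/
theorem comm_of_scalar_index_two (K A : Subgroup SL(2, F)) (hidx : A.relIndex K = 2)
    (hsc : ∀ a ∈ A, IsScalar a) : ∀ a ∈ K, ∀ b ∈ K, a * b = b * a := by
  intro a ha b hb
  by_cases haA : a ∈ A
  · exact ((hsc a haA).commute b).eq
  by_cases hbA : b ∈ A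
  · exact ((hsc b hbA).commute a).eq.symm
  have h := Subgroup.mul_mem_iff_of_index_two (H := A.subgroupOf K) hidx
    (a := (⟨a, ha⟩ : K)⁻¹) (b := ⟨b, hb⟩)
  have h1 : (⟨a, ha⟩ : K)⁻¹ * ⟨b, hb⟩ ∈ A.subgroupOf K := by
    rw [h, inv_mem_iff]
    simp only [Subgroup.mem_subgroupOf]
    exact ⟨fun h' => absurd h' haA, fun h' => absurd h' hbA⟩
  have h2 : a⁻¹ * b ∈ A := Subgroup.mem_subgroupOf.1 h1
  have h3 := (hsc _ h2).commute a
  have h4 : b = a * (a⁻¹ * b) := by group
  rw [h4]
  calc a * (a * (a⁻¹ * b)) = a * ((a⁻¹ * b) * a) := by rw [h3.eq]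
    _ = a * (a⁻¹ * b) * a := by group

variable [Fintype F] (p : ℕ) [Fact p.Prime] [CharP F p]

/-- **Dihedral from an abelian subgroup of index two.** -/
theorem dih_of_index_two (K A : Subgroup SL(2, F)) (hAK : A ≤ K) (hidx : A.relIndex K = 2)
    (hAab : ∀ a ∈ A, ∀ b ∈ A, a * b = b * a)
    (hKnab : ¬ ∀ a ∈ K, ∀ b ∈ K, a * b = b * a)
    (hss : ∀ y ∈ A, tr y * tr y = 4 → IsScalar y) (hA2 : ∀ y ∈ A, y * y = 1 → IsScalar y)
    (hcop : ¬ p ∣ Nat.card A) :
    ∃ k : ℕ, (k ∣ (Fintype.card F + 1) / Nat.gcd 2 (Fintype.card F - 1) ∨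
        k ∣ (Fintype.card F - 1) / Nat.gcd 2 (Fintype.card F - 1)) ∧
      Nonempty (↥(K.map proj) ≃* DihedralGroup k) := by
  obtain ⟨x, hxA, hxs⟩ : ∃ x ∈ A, ¬ IsScalar x := by
    by_contra hcon
    push Not at hcon
    exact hKnab (comm_of_scalar_index_two K A hidx hcon)
  have hx4 : tr x * tr x ≠ 4 := fun h => hxs (hss x hxA h)
  have hTC : ∀ y ∈ K, (y ∈ A ↔ Commute y x) := by
    intro y hy
    refine ⟨fun hyA => hAab y hyA x hxA, fun hyx => ?_⟩
    by_contra hyA
    apply hKnab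
    -- every element of `K` commutes with `x`
    have hall : ∀ k ∈ K, Commute k x := by
      intro k hk
      by_cases hkA : k ∈ A
      · exact hAab k hkA x hxA
      have h := Subgroup.mul_mem_iff_of_index_two (H := A.subgroupOf K) hidx
        (a := (⟨y, hy⟩ : K)⁻¹) (b := ⟨k, hk⟩)
      have h1 : (⟨y, hy⟩ : K)⁻¹ * ⟨k, hk⟩ ∈ A.subgroupOf K := by
        rw [h, inv_mem_iff]
        simp only [Subgroup.mem_subgroupOf]
        exact ⟨fun h' => absurd h' hyA, fun h' => absurd h' hkA⟩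
      have h2 : y⁻¹ * k ∈ A := Subgroup.mem_subgroupOf.1 h1
      have h3 : Commute (y⁻¹ * k) x := hAab _ h2 x hxA
      have h4 : k = y * (y⁻¹ * k) := by group
      rw [h4]
      exact hyx.mul_left h3
    intro a ha b hb
    exact comm_of_commute hxs (hall a ha) (hall b hb)
  exact dih_case p K A hAK hidx x hx4 hxA hTC hss hA2 hcop

omit [Fintype F] in
/-- **Abelian subgroup of index at most two from a normalised torus element.** -/
theorem exists_abelian_of_conj_commute (K : Subgroup SL(2, F)) [Finite K] (n : SL(2, F))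
    (hn4 : tr n * tr n ≠ 4) (hconj : ∀ g ∈ K, Commute (g * n * g⁻¹) n) :
    ∃ T : Subgroup SL(2, F), T ≤ K ∧ (∀ a ∈ T, ∀ b ∈ T, a * b = b * a) ∧ T.relIndex K ≤ 2 := by
  have hns : ¬ IsScalar n := not_isScalar_of_tr hn4
  refine ⟨K ⊓ Subgroup.centralizer {n}, inf_le_left, ?_, ?_⟩
  · intro a ha b hb
    have ha' : Commute a n := Subgroup.mem_centralizer_singleton_iff.1 ha.2
    have hb' : Commute b n := Subgroup.mem_centralizer_singleton_iff.1 hb.2
    exact comm_of_commute hns ha' hb'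
  · set T := K ⊓ Subgroup.centralizer ({n} : Set SL(2, F)) with hT
    have hmemT : ∀ g ∈ K, (g ∈ T ↔ g * n * g⁻¹ = n) := by
      intro g hg
      rw [hT, Subgroup.mem_inf, Subgroup.mem_centralizer_singleton_iff]
      constructor
      · rintro ⟨-, h⟩
        rw [h, mul_assoc, mul_inv_cancel, mul_one]
      · intro h
        refine ⟨hg, ?_⟩
        calc g * n = (g * n * g⁻¹) * g := by group
          _ = n * g := by rw [h]
    have hcases : ∀ g ∈ K, g ∉ T → g * n * g⁻¹ = n⁻¹ := by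
      intro g hg hgT
      rcases eq_or_eq_inv_of_commute' (hconj g hg) (tr_conj g n) hn4 with h | h
      · exact absurd ((hmemT g hg).2 h) hgT
      · exact h
    by_cases hKT : K ≤ T
    · rw [Subgroup.relIndex_eq_one.2 hKT]; norm_num
    · obtain ⟨g₀, hg₀K, hg₀T⟩ := SetLike.not_le_iff_exists.1 hKT
      have h0 := hcases g₀ hg₀K hg₀T
      have h0' : g₀⁻¹ * n * g₀ = n⁻¹ := by
        have : n = g₀⁻¹ * n⁻¹ * g₀ := by rw [← h0]; group
        calc g₀⁻¹ * n * g₀ = (g₀⁻¹ * n⁻¹ * g₀)⁻¹ := by group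
          _ = n⁻¹ := by rw [← this]
      have : (T.subgroupOf K).index = 2 := by
        rw [Subgroup.index_eq_two_iff]
        refine ⟨⟨g₀, hg₀K⟩⁻¹, ?_⟩
        rintro ⟨b, hb⟩
        simp only [Subgroup.mem_subgroupOf, Subgroup.coe_mul, Subgroup.coe_inv]
        by_cases hbT : b ∈ T
        · right
          refine ⟨hbT, fun h => hg₀T ?_⟩
          have : g₀⁻¹ ∈ T := by
            have := T.mul_mem (T.inv_mem hbT) h
            simpa using this
          simpa using T.inv_mem this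
        · left
          refine ⟨?_, hbT⟩
          rw [hmemT _ (K.mul_mem hb (K.inv_mem hg₀K))]
          have hb1 := hcases b hb hbT
          calc b * g₀⁻¹ * n * (b * g₀⁻¹)⁻¹ = b * (g₀⁻¹ * n * g₀) * b⁻¹ := by group
            _ = b * n⁻¹ * b⁻¹ := by rw [h0']
            _ = (b * n * b⁻¹)⁻¹ := by group
            _ = n := by rw [hb1, inv_inv]
      have h2 : T.relIndex K = 2 := this
      rw [h2]

omit [Fintype F] [Fact p.Prime] [CharP F p] in
theorem negOne_ne_one (h2 : (2 : F) ≠ 0) : (negOne : SL(2, F)) ≠ 1 := by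
  intro h
  have := congrArg (fun g : SL(2, F) => g 0 0) h
  simp only [negOne, mk00, one00] at this
  apply h2
  linear_combination -this

omit [Fintype F] [Fact p.Prime] [CharP F p] in
theorem isScalar_negOne : IsScalar (negOne : SL(2, F)) := by
  refine ⟨?_, ?_, ?_⟩ <;> simp [negOne]

omit [Fintype F] [Fact p.Prime] [CharP F p] in
/-- `|K| = 2 |K̄|` when `-1 ∈ K` -/
theorem card_map_proj (h2 : (2 : F) ≠ 0) (K : Subgroup SL(2, F)) (hneg : negOne ∈ K) :
    Nat.card K = 2 * Nat.card ↥(K.map proj) := by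
  set ρ := projRestrict K with hρ
  have hsurj : Function.Surjective ρ := projRestrict_surjective K
  have h1 := Subgroup.card_mul_index ρ.ker
  have h2' : ρ.ker.index = Nat.card ↥(K.map proj) := by
    rw [Subgroup.index_ker, MonoidHom.range_eq_top.2 hsurj, Subgroup.card_top]
  have h3 : Nat.card ρ.ker = 2 := by
    rw [Nat.card_eq_two_iff]
    have hmem : (⟨negOne, hneg⟩ : K) ∈ ρ.ker := by
      rw [MonoidHom.mem_ker, projRestrict_eq_one_iff]
      exact isScalar_negOne
    refine ⟨1, ⟨⟨negOne, hneg⟩, hmem⟩, ?_, ?_⟩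
    · intro h
      have := congrArg (fun z : ρ.ker => ((z : K) : SL(2, F))) h
      exact negOne_ne_one h2 this.symm
    · ext ⟨⟨z, hzK⟩, hz⟩
      simp only [Set.mem_insert_iff, Set.mem_singleton_iff, Set.mem_univ, iff_true]
      rw [MonoidHom.mem_ker, projRestrict_eq_one_iff] at hz
      rcases hz.eq_one_or with h | h
      · left; apply Subtype.ext; apply Subtype.ext; exact h
      · right; apply Subtype.ext; apply Subtype.ext; exact h
  rw [← h1, h2', h3]

omit [Fintype F] [Fact p.Prime] [CharP F p] in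
theorem IsScalar.mul_self {z : SL(2, F)} (hz : IsScalar z) : z * z = 1 := by
  rcases hz.eq_one_or with h | h
  · rw [h, mul_one]
  · rw [h]; apply ext4 <;> simp [negOne, mul00, mul01, mul10, mul11]

omit [Fintype F] [Fact p.Prime] [CharP F p] in
/-- **No cyclic normal subgroups.** -/
theorem nnc_map_proj (h2 : (2 : F) ≠ 0) (K : Subgroup SL(2, F)) [Finite K]
    (hnab : ∀ A : Subgroup SL(2, F), A ≤ K → (∀ a ∈ A, ∀ b ∈ A, a * b = b * a) →
      2 < A.relIndex K)
    (hnp : ∀ v ∈ K, tr v = 2 → (∀ g ∈ K, ∃ j : ℤ, g * v * g⁻¹ = v ^ j) → v = 1) :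
    NNC ↥(K.map proj) := by
  intro N hN hcyc
  by_contra hne
  obtain ⟨c, hc⟩ := hcyc.exists_generator
  obtain ⟨n, hnK, hnc⟩ : ∃ n ∈ K, proj n = ((c : ↥(K.map proj)) : PSL(2, F)) := by
    obtain ⟨n, hn, h⟩ := (c : ↥(K.map proj)).2
    exact ⟨n, hn, h⟩
  have hns : ¬ IsScalar n := by
    intro hs
    apply hne
    have hc1 : c = 1 := by
      apply Subtype.ext
      apply Subtype.ext
      rw [← hnc]
      exact (proj_eq_one_iff n).2 hs
    rw [Subgroup.eq_bot_iff_forall]
    intro y hy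
    obtain ⟨j, hj⟩ := Subgroup.mem_zpowers_iff.1 (hc ⟨y, hy⟩)
    rw [hc1, _root_.one_zpow] at hj
    exact (congrArg Subtype.val hj).symm
  -- key fact
  have key : ∀ g ∈ K, ∃ z : SL(2, F), IsScalar z ∧ ∃ j : ℤ, g * n * g⁻¹ = z * n ^ j := by
    intro g hg
    obtain ⟨gb, hgb⟩ : ∃ gb : ↥(K.map proj), (gb : PSL(2, F)) = proj g :=
      ⟨⟨proj g, Subgroup.mem_map_of_mem proj hg⟩, rfl⟩
    have h1 : gb * (c : ↥(K.map proj)) * gb⁻¹ ∈ N := hN.conj_mem _ c.2 gb
    obtain ⟨j, hj⟩ := Subgroup.mem_zpowers_iff.1 (hc ⟨_, h1⟩)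
    have hj' : ((c : ↥(K.map proj)) : PSL(2, F)) ^ j =
        proj g * ((c : ↥(K.map proj)) : PSL(2, F)) * (proj g)⁻¹ := by
      have := congrArg (fun z : N => ((z : ↥(K.map proj)) : PSL(2, F))) hj
      rw [← hgb]
      simpa using this
    rw [← hnc, ← map_zpow, ← map_inv, ← map_mul, ← map_mul] at hj'
    have h3 : proj ((g * n * g⁻¹) * (n ^ j)⁻¹) = 1 := by
      rw [map_mul, map_inv, ← hj', mul_inv_cancel]
    refine ⟨(g * n * g⁻¹) * (n ^ j)⁻¹, (proj_eq_one_iff _).1 h3, j, ?_⟩
    group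
  by_cases hn4 : tr n * tr n = 4
  · -- parabolic case
    have hv : n * n = 1 := by
      apply hnp (n * n) (K.mul_mem hnK hnK)
      · rw [tr_sq, hn4]; norm_num
      · intro g hg
        obtain ⟨z, hz, j, hj⟩ := key g hg
        refine ⟨j, ?_⟩
        have hzc : Commute z (n ^ j) := hz.commute _
        calc g * (n * n) * g⁻¹ = (g * n * g⁻¹) * (g * n * g⁻¹) := by group
          _ = (z * n ^ j) * (z * n ^ j) := by rw [hj]
          _ = (z * z) * (n ^ j * n ^ j) := by
              rw [mul_assoc, ← mul_assoc (n ^ j), ← hzc.eq]; group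
          _ = n ^ j * n ^ j := by rw [IsScalar.mul_self hz, one_mul]
          _ = (n * n) ^ j := by rw [(Commute.refl n).mul_zpow]
    exact hns (Cfsg.Agent.Lib.Helper50_SL2Rep.isScalar_of_sq h2 hv)
  · -- semisimple case
    obtain ⟨T, hTK, hTab, hTidx⟩ := exists_abelian_of_conj_commute K n hn4 (by
      intro g hg
      obtain ⟨z, hz, j, hj⟩ := key g hg
      rw [hj]
      exact (hz.commute n).mul_left ((Commute.refl n).zpow_left j))
    have := hnab T hTK hTab
    omega

end Cfsg.Agent.Lib.Helper50_DkStruct
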