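import Cfsg.Agent.Lib.Helper51_SL2Dich

/-!
# Subgroups of `SL(2,F)` (`F` finite of odd characteristic) containing `tU 1` and `tL 1`

For such a subgroup `M`, put `A = {x | tU x ∈ M}`.  Either we are in the exceptional case
(`p = 3`, `|A| = 3`, `|M| ∈ {60, 120}`), or `A` is a subfield, `SL(2, A) ≤ M`, and every element
of `M` is `a • g₀` with `g₀` a matrix over `A` and `a² ∈ A`.
-/

set_option autoImplicit false
set_option linter.unusedSimpArgs false

namespace Cfsg.Agent.Lib.Helper51_SL2Sub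

open Matrix Cfsg.Agent.Lib.Helper50_SL2Mat Cfsg.Agent.Lib.Helper50_CTClass
  Cfsg.Agent.Lib.Helper50_SL2Rep Cfsg.Agent.Lib.Helper50_SL2Std
  Cfsg.Agent.Lib.Helper51_SL2Dich
open scoped MatrixGroups

variable {F : Type*} [Field F]

/-- the Weyl element -/
def wE : SL(2, F) := mk 0 1 (-1) 0 (by ring)

@[simp] theorem wE00 : (wE : SL(2, F)) 0 0 = 0 := rfl
@[simp] theorem wE01 : (wE : SL(2, F)) 0 1 = 1 := rfl
@[simp] theorem wE10 : (wE : SL(2, F)) 1 0 = -1 := rfl
@[simp] theorem wE11 : (wE : SL(2, F)) 1 1 = 0 := rfl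

theorem wE_eq : (wE : SL(2, F)) = tU 1 * tL (-1) * tU 1 := by
  apply ext4 <;>
    simp only [mul00, mul01, mul10, mul11, tU00, tU01, tU10, tU11, tL00, tL01, tL10, tL11,
      wE00, wE01, wE10, wE11] <;> ring

theorem wE_conj_tU (x : F) : (wE : SL(2, F)) * tU x * wE⁻¹ = tL (-x) := by
  apply ext4 <;>
    simp only [mul00, mul01, mul10, mul11, inv00, inv01, inv10, inv11, tU00, tU01, tU10, tU11,
      tL00, tL01, tL10, tL11, wE00, wE01, wE10, wE11] <;> ring

theorem wE_inv_conj_tU (x : F) : (wE : SL(2, F))⁻¹ * tU x * wE = tL (-x) := by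
  apply ext4 <;>
    simp only [mul00, mul01, mul10, mul11, inv00, inv01, inv10, inv11, tU00, tU01, tU10, tU11,
      tL00, tL01, tL10, tL11, wE00, wE01, wE10, wE11] <;> ring

section cover

variable {Γ : Type*} [Group Γ] {ρ : Γ →* SL(2, F)}

/-- Bruhat cover from the index formula -/
theorem bruhat [Finite Γ] (hρ : Function.Injective ρ)
    (hidx : (Bn ρ).index = Nat.card (Qs ρ) + 1) (w₀ : Γ) (hw : ρ w₀ = wE) :
    ∀ g : Γ, g ∉ Bn ρ → ∃ q ∈ Qs ρ, ∃ b ∈ Bn ρ, g = q * w₀ * b := by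
  classical
  let f : Γ → Γ ⧸ Bn ρ := fun q => ((q * w₀ : Γ) : Γ ⧸ Bn ρ)
  have hinj : Set.InjOn f (Qs ρ : Set Γ) := by
    intro q hq q' hq' hqq
    have h1 : (q * w₀)⁻¹ * (q' * w₀) ∈ Bn ρ := QuotientGroup.eq.1 hqq
    have ht : q⁻¹ * q' ∈ Qs ρ := (Qs ρ).mul_mem ((Qs ρ).inv_mem hq) hq'
    obtain ⟨t, ht'⟩ := mem_Qs_iff_exists.1 ht
    have e : (q * w₀)⁻¹ * (q' * w₀) = w₀⁻¹ * (q⁻¹ * q') * w₀ := by group
    rw [e] at h1
    have h10 : (ρ (w₀⁻¹ * (q⁻¹ * q') * w₀)) 1 0 = 0 := h1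
    rw [map_mul, map_mul, map_inv, ht', hw, wE_inv_conj_tU, tL10] at h10
    have ht0 : t = 0 := by linear_combination -h10
    have h1' : q⁻¹ * q' = 1 := by
      apply hρ
      rw [ht', ht0, tU_zero, map_one]
    calc q = q' * (q⁻¹ * q')⁻¹ := by group
      _ = q' := by rw [h1', inv_one, mul_one]
  have hnotBn : ∀ g : Γ, g ∉ Bn ρ → ((g : Γ) : Γ ⧸ Bn ρ) ≠ ((1 : Γ) : Γ ⧸ Bn ρ) := by
    intro g hg hh
    have h1 : g⁻¹ * 1 ∈ Bn ρ := QuotientGroup.eq.1 hh
    rw [mul_one] at h1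
    have h3 : g ∈ Bn ρ := by simpa using (Bn ρ).inv_mem h1
    exact hg h3
  have hne : ∀ q ∈ Qs ρ, f q ≠ ((1 : Γ) : Γ ⧸ Bn ρ) := by
    intro q hq
    apply hnotBn
    obtain ⟨x, hx⟩ := mem_Qs_iff_exists.1 hq
    rw [mem_Bn, map_mul, hx, hw, mul10]
    simp only [tU10, tU11, wE00, wE10]
    intro h0
    have : (1 : F) = 0 := by linear_combination -h0
    exact one_ne_zero this
  have himage : f '' (Qs ρ : Set Γ) = {c | c ≠ ((1 : Γ) : Γ ⧸ Bn ρ)} := by
    refine Set.eq_of_subset_of_ncard_le ?_ ?_ (Set.toFinite _)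
    · rintro _ ⟨q, hq, rfl⟩
      exact hne q hq
    · rw [Set.InjOn.ncard_image hinj]
      have e : {c : Γ ⧸ Bn ρ | c ≠ ((1 : Γ) : Γ ⧸ Bn ρ)} = Set.univ \ {((1 : Γ) : Γ ⧸ Bn ρ)} := by
        ext c; simp
      rw [e, Set.ncard_sdiff_singleton_of_mem (Set.mem_univ _), Set.ncard_univ]
      have e2 : Nat.card (Γ ⧸ Bn ρ) = (Bn ρ).index := rfl
      rw [e2, hidx, Nat.add_sub_cancel]
      exact le_refl _
  intro g hg
  have hg' : ((g : Γ) : Γ ⧸ Bn ρ) ∈ {c | c ≠ ((1 : Γ) : Γ ⧸ Bn ρ)} := hnotBn g hg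
  rw [← himage] at hg'
  obtain ⟨q, hq, hqg⟩ := hg'
  have h1 : (q * w₀)⁻¹ * g ∈ Bn ρ := QuotientGroup.eq.1 hqg
  exact ⟨q, hq, (q * w₀)⁻¹ * g, h1, by group⟩

end cover

section main

variable (M : Subgroup SL(2, F))

/-- parameters of the upper transvections in `M` -/
def AA : Set F := {x | tU x ∈ M}

variable {M}

theorem mem_AA {x : F} : x ∈ AA M ↔ tU x ∈ M := Iff.rfl

theorem AA_zero : (0 : F) ∈ AA M := by rw [mem_AA, tU_zero]; exact M.one_mem

theorem AA_add {x y : F} (hx : x ∈ AA M) (hy : y ∈ AA M) : x + y ∈ AA M := by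
  rw [mem_AA, tU_add]; exact M.mul_mem hx hy

theorem AA_neg {x : F} (hx : x ∈ AA M) : -x ∈ AA M := by
  rw [mem_AA, ← tU_inv]; exact M.inv_mem hx

theorem AA_sub {x y : F} (hx : x ∈ AA M) (hy : y ∈ AA M) : x - y ∈ AA M := by
  rw [sub_eq_add_neg]; exact AA_add hx (AA_neg hy)

theorem AA_nsmul {x : F} (hx : x ∈ AA M) (n : ℕ) : (n : F) * x ∈ AA M := by
  rw [mem_AA, ← tU_pow]; exact M.pow_mem hx n

theorem wE_mem (hU : tU 1 ∈ M) (hL : tL 1 ∈ M) : (wE : SL(2, F)) ∈ M := by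
  rw [wE_eq]
  refine M.mul_mem (M.mul_mem hU ?_) hU
  rw [← tL_inv]; exact M.inv_mem hL

theorem tL_mem_of_AA (hU : tU 1 ∈ M) (hL : tL 1 ∈ M) {x : F} (hx : x ∈ AA M) : tL x ∈ M := by
  have h := wE_conj_tU (-x)
  rw [neg_neg] at h
  rw [← h]
  exact M.mul_mem (M.mul_mem (wE_mem hU hL) (AA_neg hx)) (M.inv_mem (wE_mem hU hL))

/-- upper triangular elements of `M` scale `A` by the square of their corner entry -/
theorem AA_upper {g : SL(2, F)} (hg : g ∈ M) (h10 : g 1 0 = 0) {x : F} (hx : x ∈ AA M) :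
    g 0 0 * g 0 0 * x ∈ AA M := by
  have : g * tU x * g⁻¹ = tU (g 0 0 * g 0 0 * x) := by
    obtain ⟨c00, c01, c10, c11⟩ := conj_tU g x
    rw [h10] at c00 c10 c11
    apply ext4
    · rw [c00]; simp
    · rw [c01]; simp; ring
    · rw [c10]; simp
    · rw [c11]; simp
  rw [mem_AA, ← this]
  exact M.mul_mem (M.mul_mem hg hx) (M.inv_mem hg)

end main


section fin

variable {M : Subgroup SL(2, F)}

/-- the index formula for `M` -/
def IdxF (M : Subgroup SL(2, F)) : Prop :=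
  (Bn M.subtype).index = Nat.card (Qs M.subtype) + 1

/-- first column of an element of `M` outside the Borel subgroup -/
theorem col [Finite M] (hU : tU 1 ∈ M) (hL : tL 1 ∈ M) (hidx : IdxF M) {g : SL(2, F)}
    (hg : g ∈ M) (h10 : g 1 0 ≠ 0) :
    g 0 0 / g 1 0 ∈ AA M ∧ ∀ x ∈ AA M, g 1 0 * g 1 0 * x ∈ AA M := by
  obtain ⟨q, hq, b, hb, hgqb⟩ := bruhat M.subtype_injective hidx ⟨wE, wE_mem hU hL⟩ rfl ⟨g, hg⟩
    (by rw [mem_Bn]; exact h10)
  obtain ⟨y, hy⟩ := mem_Qs_iff_exists.1 hq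
  have hy' : (q : SL(2, F)) = tU y := hy
  have hyA : y ∈ AA M := by rw [mem_AA, ← hy']; exact q.2
  have hb10 : (b : SL(2, F)) 1 0 = 0 := hb
  have hg' : g = tU y * wE * (b : SL(2, F)) := by
    have := congrArg Subtype.val hgqb
    rw [← hy']
    exact this
  have e00 : g 0 0 = -(y * (b : SL(2, F)) 0 0) := by
    rw [hg']
    simp only [mul00, mul01, mul10, mul11, tU00, tU01, tU10, tU11, wE00, wE01, wE10, wE11, hb10]
    ring
  have e10 : g 1 0 = -((b : SL(2, F)) 0 0) := by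
    rw [hg']
    simp only [mul00, mul01, mul10, mul11, tU00, tU01, tU10, tU11, wE00, wE01, wE10, wE11, hb10]
    ring
  have hb00 : (b : SL(2, F)) 0 0 ≠ 0 := by
    intro h0
    apply h10
    rw [e10, h0, neg_zero]
  constructor
  · have : g 0 0 / g 1 0 = y := by
      rw [e00, e10]
      field_simp
    rw [this]
    exact hyA
  · intro x hx
    have := AA_upper b.2 hb10 hx
    have e : g 1 0 * g 1 0 * x = (b : SL(2, F)) 0 0 * (b : SL(2, F)) 0 0 * x := by
      rw [e10]; ring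
    rw [e]
    exact this

/-- `A` is closed under `x ↦ x⁻¹` -/
theorem AA_inv [Finite M] (hU : tU 1 ∈ M) (hL : tL 1 ∈ M) (hidx : IdxF M) {x : F}
    (hx : x ∈ AA M) : x⁻¹ ∈ AA M := by
  by_cases hx0 : x = 0
  · rw [hx0, _root_.inv_zero]; exact AA_zero
  have hg : tL (-x) ∈ M := tL_mem_of_AA hU hL (AA_neg hx)
  have h10 : (tL (-x) : SL(2, F)) 1 0 ≠ 0 := by
    rw [tL10]; exact neg_ne_zero.2 hx0
  have := (col hU hL hidx hg h10).1
  rw [tL00, tL10] at this
  have e : x⁻¹ = -(1 / -x) := by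
    field_simp
  rw [e]
  exact AA_neg this

/-- `A` is closed under multiplication by squares of its elements -/
theorem AA_sq_mul [Finite M] (hU : tU 1 ∈ M) (hL : tL 1 ∈ M) (hidx : IdxF M) {x y : F}
    (hx : x ∈ AA M) (hy : y ∈ AA M) : x * x * y ∈ AA M := by
  by_cases hx0 : x = 0
  · rw [hx0, zero_mul, zero_mul]; exact AA_zero
  have hg : tL (-x) ∈ M := tL_mem_of_AA hU hL (AA_neg hx)
  have h10 : (tL (-x) : SL(2, F)) 1 0 ≠ 0 := by
    rw [tL10]; exact neg_ne_zero.2 hx0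
  have := (col hU hL hidx hg h10).2 y hy
  rw [tL10] at this
  have e : x * x * y = -x * -x * y := by ring
  rw [e]
  exact this

/-- `A` is closed under multiplication -/
theorem AA_mul [Finite M] {p : ℕ} [Fact p.Prime] [CharP F p] (hp : p ≠ 2) (hU : tU 1 ∈ M)
    (hL : tL 1 ∈ M) (hidx : IdxF M) {x y : F} (hx : x ∈ AA M) (hy : y ∈ AA M) :
    x * y ∈ AA M := by
  have h1 : (1 : F) ∈ AA M := hU
  have h2 : (x + 1) * (x + 1) * y - x * x * y - y ∈ AA M :=
    AA_sub (AA_sub (AA_sq_mul hU hL hidx (AA_add hx h1) hy) (AA_sq_mul hU hL hidx hx hy)) hy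
  have h3 := AA_nsmul h2 ((p + 1) / 2)
  have hodd : Odd p := (Fact.out : p.Prime).odd_of_ne_two hp
  obtain ⟨k, hk⟩ := hodd
  have hk2 : (p + 1) / 2 = k + 1 := by omega
  have hpF : (p : F) = 0 := CharP.cast_eq_zero F p
  have hkF : (2 : F) * ((k : F) + 1) = 1 := by
    have : ((2 * k + 1 : ℕ) : F) = 0 := by rw [← hk]; exact hpF
    push_cast at this
    linear_combination this
  have e : (((p + 1) / 2 : ℕ) : F) * ((x + 1) * (x + 1) * y - x * x * y - y) = x * y := by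
    rw [hk2]
    push_cast
    linear_combination (x * y) * hkF
  rw [e] at h3
  exact h3


/-- every element of `M` is a multiple `a • g₀` of a matrix `g₀` over `A`, with `a² ∈ A` -/
theorem entries [Finite M] {p : ℕ} [Fact p.Prime] [CharP F p] (hp : p ≠ 2) (hU : tU 1 ∈ M)
    (hL : tL 1 ∈ M) (hidx : IdxF M) {g : SL(2, F)} (hg : g ∈ M) :
    ∃ a : F, a ≠ 0 ∧ a * a ∈ AA M ∧ ∀ i j, ∃ t ∈ AA M, g i j = a * t := by
  have h1 : (1 : F) ∈ AA M := hU
  have hmul : ∀ {x y : F}, x ∈ AA M → y ∈ AA M → x * y ∈ AA M :=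
    fun hx hy => AA_mul hp hU hL hidx hx hy
  have hinv : ∀ {x : F}, x ∈ AA M → x⁻¹ ∈ AA M := fun hx => AA_inv hU hL hidx hx
  have hd := det1 g
  by_cases h10 : g 1 0 = 0
  · -- upper triangular
    have h00 : g 0 0 ≠ 0 := by
      intro h0
      rw [h0, h10] at hd
      simp at hd
    have haa : g 0 0 * g 0 0 ∈ AA M := by
      have := AA_upper hg h10 h1
      rwa [mul_one] at this
    have h11 : g 1 1 = (g 0 0)⁻¹ := by
      rw [h10, mul_zero, sub_zero] at hd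
      exact eq_inv_of_mul_eq_one_right hd
    -- the element `g * wE`
    have hgw : g * wE ∈ M := M.mul_mem hg (wE_mem hU hL)
    have hgw10 : (g * wE : SL(2, F)) 1 0 = -(g 0 0)⁻¹ := by
      simp only [mul10, wE00, wE10, h10, h11]; ring
    have hgw00 : (g * wE : SL(2, F)) 0 0 = -(g 0 1) := by
      simp only [mul00, wE00, wE10]; ring
    have hne : (g * wE : SL(2, F)) 1 0 ≠ 0 := by
      rw [hgw10]; exact neg_ne_zero.2 (inv_ne_zero h00)
    have hc := (col hU hL hidx hgw hne).1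
    rw [hgw00, hgw10] at hc
    have e01 : -(g 0 1) / -(g 0 0)⁻¹ = g 0 0 * g 0 1 := by field_simp
    rw [e01] at hc
    refine ⟨g 0 0, h00, haa, ?_⟩
    intro i j
    fin_cases i <;> fin_cases j
    · exact ⟨1, h1, by simp⟩
    · refine ⟨(g 0 0 * g 0 0)⁻¹ * (g 0 0 * g 0 1), hmul (hinv haa) hc, ?_⟩
      show g 0 1 = _
      field_simp
    · exact ⟨0, AA_zero, by show g 1 0 = _; rw [h10, mul_zero]⟩
    · refine ⟨(g 0 0 * g 0 0)⁻¹, hinv haa, ?_⟩
      show g 1 1 = _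
      rw [h11]; field_simp
  · -- lower left entry nonzero
    obtain ⟨hc1, hc2⟩ := col hU hL hidx hg h10
    have haa : g 1 0 * g 1 0 ∈ AA M := by
      have := hc2 1 h1
      rwa [mul_one] at this
    have hgi : g⁻¹ ∈ M := M.inv_mem hg
    have hgi10 : (g⁻¹) 1 0 ≠ 0 := by
      rw [inv10]; exact neg_ne_zero.2 h10
    have hc3 := (col hU hL hidx hgi hgi10).1
    rw [inv00, inv10] at hc3
    have e11 : g 1 1 / -g 1 0 = -(g 1 1 / g 1 0) := by field_simp
    rw [e11] at hc3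
    have hc4 : g 1 1 / g 1 0 ∈ AA M := by
      have := AA_neg hc3
      rwa [neg_neg] at this
    refine ⟨g 1 0, h10, haa, ?_⟩
    intro i j
    fin_cases i <;> fin_cases j
    · exact ⟨g 0 0 / g 1 0, hc1, by show g 0 0 = _; field_simp⟩
    · refine ⟨(g 0 0 / g 1 0) * (g 1 1 / g 1 0) - (g 1 0 * g 1 0)⁻¹,
        AA_sub (hmul hc1 hc4) (hinv haa), ?_⟩
      show g 0 1 = _
      have h01 : g 0 1 * g 1 0 = g 0 0 * g 1 1 - 1 := by linear_combination -hd
      have e : g 1 0 * (g 0 0 / g 1 0 * (g 1 1 / g 1 0) - (g 1 0 * g 1 0)⁻¹) =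
          (g 0 0 * g 1 1 - 1) / g 1 0 := by
        field_simp
      rw [e, ← h01]
      field_simp
    · exact ⟨1, h1, by show g 1 0 = _; rw [mul_one]⟩
    · exact ⟨g 1 1 / g 1 0, hc4, by show g 1 1 = _; field_simp⟩

/-- `SL(2, A) ≤ M` -/
theorem sl_le [Finite M] {p : ℕ} [Fact p.Prime] [CharP F p] (hp : p ≠ 2) (hU : tU 1 ∈ M)
    (hL : tL 1 ∈ M) (hidx : IdxF M) {g : SL(2, F)} (hg : ∀ i j, g i j ∈ AA M) : g ∈ M := by
  have h1 : (1 : F) ∈ AA M := hU
  have hmul : ∀ {x y : F}, x ∈ AA M → y ∈ AA M → x * y ∈ AA M :=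
    fun hx hy => AA_mul hp hU hL hidx hx hy
  have hinv : ∀ {x : F}, x ∈ AA M → x⁻¹ ∈ AA M := fun hx => AA_inv hU hL hidx hx
  -- the case of a nonzero lower left entry
  have key : ∀ k : SL(2, F), (∀ i j, k i j ∈ AA M) → k 1 0 ≠ 0 → k ∈ M := by
    intro k hk h10
    have hd := det1 k
    have h01 : k 0 1 * k 1 0 = k 0 0 * k 1 1 - 1 := by linear_combination -hd
    have e : k = tU ((k 0 0 - 1) * (k 1 0)⁻¹) * tL (k 1 0) * tU ((k 1 1 - 1) * (k 1 0)⁻¹) := by
      apply ext4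
      · simp only [mul00, mul01, mul10, mul11, tU00, tU01, tU10, tU11, tL00, tL01, tL10, tL11]
        field_simp
        ring
      · simp only [mul00, mul01, mul10, mul11, tU00, tU01, tU10, tU11, tL00, tL01, tL10, tL11]
        have e2 : (1 * 1 + (k 0 0 - 1) * (k 1 0)⁻¹ * k 1 0) * ((k 1 1 - 1) * (k 1 0)⁻¹) +
            (1 * 0 + (k 0 0 - 1) * (k 1 0)⁻¹ * 1) * 1 = (k 0 0 * k 1 1 - 1) / k 1 0 := by
          field_simp
          ring
        rw [e2, ← h01]
        field_simp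
      · simp only [mul00, mul01, mul10, mul11, tU00, tU01, tU10, tU11, tL00, tL01, tL10, tL11]
        ring
      · simp only [mul00, mul01, mul10, mul11, tU00, tU01, tU10, tU11, tL00, tL01, tL10, tL11]
        field_simp
        ring
    rw [e]
    refine M.mul_mem (M.mul_mem ?_ (tL_mem_of_AA hU hL (hk 1 0))) ?_
    · exact hmul (AA_sub (hk 0 0) h1) (hinv (hk 1 0))
    · exact hmul (AA_sub (hk 1 1) h1) (hinv (hk 1 0))
  by_cases h10 : g 1 0 = 0
  · have hd := det1 g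
    have h11 : g 1 1 ≠ 0 := by
      intro h0
      rw [h0, h10] at hd
      simp at hd
    have hgw : g * wE ∈ M := by
      apply key
      · intro i j
        fin_cases i <;> fin_cases j
        · show (g * wE : SL(2, F)) 0 0 ∈ AA M
          simp only [mul00, wE00, wE10]
          have : g 0 0 * 0 + g 0 1 * -1 = -(g 0 1) := by ring
          rw [this]; exact AA_neg (hg 0 1)
        · show (g * wE : SL(2, F)) 0 1 ∈ AA M
          simp only [mul01, wE01, wE11]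
          have : g 0 0 * 1 + g 0 1 * 0 = g 0 0 := by ring
          rw [this]; exact hg 0 0
        · show (g * wE : SL(2, F)) 1 0 ∈ AA M
          simp only [mul10, wE00, wE10]
          have : g 1 0 * 0 + g 1 1 * -1 = -(g 1 1) := by ring
          rw [this]; exact AA_neg (hg 1 1)
        · show (g * wE : SL(2, F)) 1 1 ∈ AA M
          simp only [mul11, wE01, wE11]
          have : g 1 0 * 1 + g 1 1 * 0 = g 1 0 := by ring
          rw [this]; exact hg 1 0
      · simp only [mul10, wE00, wE10, h10]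
        intro h0
        apply h11
        linear_combination -h0
    have : g = g * wE * wE⁻¹ := by group
    rw [this]
    exact M.mul_mem hgw (M.inv_mem (wE_mem hU hL))
  · exact key g hg h10


theorem card_Qs_eq (M : Subgroup SL(2, F)) : Nat.card (Qs M.subtype) = Nat.card (AA M) := by
  apply Nat.card_congr
  refine
    { toFun := fun g => ⟨((g : M) : SL(2, F)) 0 1, ?_⟩
      invFun := fun x => ⟨⟨tU x.1, x.2⟩, mem_Qs_iff_exists.2 ⟨x.1, rfl⟩⟩
      left_inv := ?_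
      right_inv := ?_ }
  · obtain ⟨y, hy⟩ := mem_Qs_iff_exists.1 g.2
    have hy' : ((g : M) : SL(2, F)) = tU y := hy
    rw [hy', tU01, mem_AA, ← hy']
    exact (g : M).2
  · intro g
    obtain ⟨y, hy⟩ := mem_Qs_iff_exists.1 g.2
    have hy' : ((g : M) : SL(2, F)) = tU y := hy
    apply Subtype.ext
    apply Subtype.ext
    show tU (((g : M) : SL(2, F)) 0 1) = ((g : M) : SL(2, F))
    rw [hy', tU01]
  · intro x
    apply Subtype.ext
    show (tU x.1 : SL(2, F)) 0 1 = x.1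
    rw [tU01]

/-- the good case: `A` is a subfield and `M` is squeezed between `SL(2, A)` and its normaliser -/
structure Good (M : Subgroup SL(2, F)) : Prop where
  one_mem : (1 : F) ∈ AA M
  mul_mem : ∀ x ∈ AA M, ∀ y ∈ AA M, x * y ∈ AA M
  inv_mem : ∀ x ∈ AA M, x⁻¹ ∈ AA M
  entries : ∀ g ∈ M, ∃ a : F, a ≠ 0 ∧ a * a ∈ AA M ∧ ∀ i j, ∃ t ∈ AA M, g i j = a * t
  sl_le : ∀ g : SL(2, F), (∀ i j, g i j ∈ AA M) → g ∈ M

/-- **The dichotomy for subgroups containing `tU 1` and `tL 1`.** -/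
theorem engine [Fintype F] {p : ℕ} [Fact p.Prime] [CharP F p] (hp : p ≠ 2)
    (M : Subgroup SL(2, F)) (hU : tU 1 ∈ M) (hL : tL 1 ∈ M) :
    Good M ∨ (p = 3 ∧ Nat.card (AA M) = 3 ∧ (Nat.card M = 60 ∨ Nat.card M = 120)) := by
  have hstd : Std p M.subtype ⟨tU 1, hU⟩ ⟨tL 1, hL⟩ (1 : F) 1 :=
    ⟨M.subtype_injective, hp, one_ne_zero, one_ne_zero, rfl, rfl⟩
  rcases std_dichotomy_strong hstd with hidx | ⟨h3, hQ, hcard⟩
  · left
    have hidx' : IdxF M := hidx
    exact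
      { one_mem := hU
        mul_mem := fun x hx y hy => AA_mul hp hU hL hidx' hx hy
        inv_mem := fun x hx => AA_inv hU hL hidx' hx
        entries := fun g hg => entries hp hU hL hidx' hg
        sl_le := fun g hg => sl_le hp hU hL hidx' hg }
  · right
    refine ⟨h3, by rw [← card_Qs_eq, hQ], ?_⟩
    have h1 : 0 < Nat.card (Zs M.subtype) := Nat.card_pos
    have h2 := card_Zs_le (ρ := M.subtype) M.subtype_injective
    have : Nat.card (Zs M.subtype) = 1 ∨ Nat.card (Zs M.subtype) = 2 := by omega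
    rcases this with h | h
    · left; rw [hcard, h]
    · right; rw [hcard, h]

end fin

end Cfsg.Agent.Lib.Helper51_SL2Sub
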