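import Mathlib
import Cfsg.Agent.Lib.Helper50_DkStruct
import Cfsg.Agent.Lib.Helper50_DkOrders
import Cfsg.Agent.Lib.Helper41_SL2Torus
import Cfsg.Agent.Lib.Helper51_SL2Sub

/-!
# Dihedral subgroups of `PSL(2,q)` (helper50)

* `exists_dihedral_plus`: `PSL(2,q)` has a subgroup isomorphic to `DihedralGroup ((q+1)/d)`
  (image of the normaliser of a non-split torus);
* `exists_dihedral_minus`: for `q ≥ 4`, a subgroup isomorphic to `DihedralGroup ((q-1)/d)`
  (image of the monomial group).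
-/

set_option autoImplicit false

namespace Cfsg.Agent.Lib.Helper50_DkDihedral

open Matrix Cfsg.Agent.Lib.Helper50_SL2Mat Cfsg.Agent.Lib.Helper50_DkPSL
  Cfsg.Agent.Lib.Helper50_DkTorus Cfsg.Agent.Lib.Helper50_DkTorusCase
  Cfsg.Agent.Lib.Helper50_DkStruct Cfsg.Agent.Lib.Helper50_DkOrders
open scoped MatrixGroups

variable {F : Type*} [Field F] [Fintype F]

/-- `|K| = |K̄| · d` when `K` contains the scalars -/
theorem card_map_proj_of_center (K : Subgroup SL(2, F)) (hZ : ∀ z : SL(2, F), IsScalar z → z ∈ K) :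
    Nat.card K = Nat.card ↥(K.map proj) * Nat.gcd 2 (Fintype.card F - 1) := by
  rcases two_cases (F := F) with ⟨h2, hg, -⟩ | ⟨h2, hg, -⟩
  · rw [hg, mul_one]
    apply Nat.card_congr
    refine Equiv.ofBijective (projRestrict K) ⟨?_, projRestrict_surjective K⟩
    rw [injective_iff_map_eq_one]
    intro x hx
    rw [projRestrict_eq_one_iff] at hx
    apply Subtype.ext
    rcases hx.eq_one_or with h | h
    · exact h
    · rw [h]
      apply ext4 <;> simp only [negOne, mk00, mk01, mk10, mk11, Subgroup.coe_one, one00, one01,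
        one10, one11]
      · linear_combination -h2
      · linear_combination -h2
  · rw [hg, card_map_proj h2 K (hZ _ isScalar_negOne), mul_comm]

theorem eq_one_of_sq_of_odd {G : Type*} [Group G] (A : Subgroup G) [Finite A]
    (hodd : Odd (Nat.card A)) {y : G} (hy : y ∈ A) (hyy : y * y = 1) : y = 1 := by
  have h1 : orderOf (⟨y, hy⟩ : A) ∣ Nat.card A := orderOf_dvd_natCard _
  have h2 : orderOf (⟨y, hy⟩ : A) = orderOf y := Subgroup.orderOf_mk y hy
  rw [h2] at h1
  have hodd' : Odd (orderOf y) := hodd.of_dvd_nat h1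
  have hd : orderOf y ∣ 2 := orderOf_dvd_of_pow_eq_one (by rw [pow_two]; exact hyy)
  rcases (Nat.dvd_prime Nat.prime_two).1 hd with h | h
  · exact orderOf_eq_one_iff.1 h
  · rw [h] at hodd'
    exact absurd hodd' (by decide)

/-- **Dihedral image with known order.** -/
theorem dihedral_of_index_two_card (p : ℕ) [Fact p.Prime] [CharP F p]
    (K A : Subgroup SL(2, F)) (hAK : A ≤ K) (hidx : A.relIndex K = 2)
    (hAab : ∀ a ∈ A, ∀ b ∈ A, a * b = b * a)
    (hKnab : ¬ ∀ a ∈ K, ∀ b ∈ K, a * b = b * a)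
    (hss : ∀ y ∈ A, tr y * tr y = 4 → IsScalar y) (hA2 : ∀ y ∈ A, y * y = 1 → IsScalar y)
    (hcop : ¬ p ∣ Nat.card A) (hZ : ∀ z : SL(2, F), IsScalar z → z ∈ K) :
    Nonempty (↥(K.map proj) ≃* DihedralGroup (Nat.card A / Nat.gcd 2 (Fintype.card F - 1))) := by
  obtain ⟨k, -, ⟨e⟩⟩ := dih_of_index_two p K A hAK hidx hAab hKnab hss hA2 hcop
  have h1 : Nat.card ↥(K.map proj) = 2 * k := by
    rw [Nat.card_congr e.toEquiv, DihedralGroup.nat_card]
  have h2 := card_map_proj_of_center K hZ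
  have h3' : Nat.card K = Nat.card A * A.relIndex K := by
    rw [Subgroup.relIndex, ← Subgroup.card_mul_index (A.subgroupOf K)]
    congr 1
    exact Nat.card_congr (Subgroup.subgroupOfEquivOfLe hAK).toEquiv
  have h3 : Nat.card K = Nat.card A * 2 := by
    rw [h3']
    exact congrArg (fun t => Nat.card A * t) hidx
  have hdpos : 0 < Nat.gcd 2 (Fintype.card F - 1) := Nat.gcd_pos_of_pos_left _ (by norm_num)
  have hk : k = Nat.card A / Nat.gcd 2 (Fintype.card F - 1) := by
    rw [h1, h3] at h2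
    have : Nat.card A = k * Nat.gcd 2 (Fintype.card F - 1) := by
      have h4 : Nat.card A * 2 = (k * Nat.gcd 2 (Fintype.card F - 1)) * 2 := by
        rw [h2]; ring
      exact Nat.eq_of_mul_eq_mul_right (by norm_num) h4
    rw [this, Nat.mul_div_cancel _ hdpos]
  rw [← hk]
  exact ⟨e⟩

/-- the characteristic does not divide `q ± 1` -/
theorem not_dvd_succ (p : ℕ) [Fact p.Prime] [CharP F p] : ¬ p ∣ Fintype.card F + 1 := by
  have hp : p.Prime := Fact.out
  obtain ⟨n, -, hn⟩ := FiniteField.card F p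
  have hpq : p ∣ Fintype.card F := by
    rw [hn]
    exact dvd_pow_self p n.ne_zero
  intro h
  have := (Nat.dvd_add_right hpq).1 h
  exact hp.one_lt.ne' (Nat.dvd_one.1 this)

theorem not_dvd_pred (p : ℕ) [Fact p.Prime] [CharP F p] : ¬ p ∣ Fintype.card F - 1 := by
  have hp : p.Prime := Fact.out
  obtain ⟨n, -, hn⟩ := FiniteField.card F p
  have hpq : p ∣ Fintype.card F := by
    rw [hn]
    exact dvd_pow_self p n.ne_zero
  have hq : 2 ≤ Fintype.card F := Fintype.one_lt_card
  intro h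
  have h1 : p ∣ (Fintype.card F - 1) + 1 := by
    rw [Nat.sub_add_cancel (by omega)]
    exact hpq
  have := (Nat.dvd_add_right h).1 h1
  exact hp.one_lt.ne' (Nat.dvd_one.1 this)

section plus

open Cfsg.Agent.Lib.Helper41_SL2Torus Cfsg.Agent.Lib.Helper41_SL2

/-- **The dihedral subgroup of order `2(q+1)/d`.** -/
theorem exists_dihedral_plus :
    ∃ H : Subgroup PSL(2, F),
      Nonempty (H ≃* DihedralGroup ((Fintype.card F + 1) / Nat.gcd 2 (Fintype.card F - 1))) := by
  classical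
  obtain ⟨p, hchar⟩ := CharP.exists F
  have hp : p.Prime := (CharP.char_is_prime_or_zero F p).resolve_right
    (fun h0 => by
      subst h0
      have := CharP.charP_to_charZero F
      exact not_finite F)
  have : Fact p.Prime := ⟨hp⟩
  obtain ⟨a, ha⟩ := exists_no_root (F := F)
  have : Fact (∀ r : F, r ^ 2 ≠ a + 1 * r) := ⟨ha⟩
  set T : Subgroup SL(2, F) := nsTorus a 1 with hT
  set K : Subgroup SL(2, F) := Subgroup.normalizer (T : Set SL(2, F)) with hK
  have hTK : T ≤ K := Subgroup.le_normalizer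
  obtain ⟨z₀, hz₀, him⟩ := exists_nonscalar (F := F) a 1
  obtain ⟨w, hwK, hwT⟩ := exists_normalizer_not_mem (F := F) a 1
  have hcardT : Nat.card T = Fintype.card F + 1 := card_nsTorus a 1
  -- index two
  have hidx : T.relIndex K = 2 := by
    show (T.subgroupOf K).index = 2
    rw [Subgroup.index_eq_two_iff]
    refine ⟨⟨w, hwK⟩, ?_⟩
    rintro ⟨b, hb⟩
    simp only [Subgroup.mem_subgroupOf, Subgroup.coe_mul]
    by_cases hbT : b ∈ T
    · right
      refine ⟨hbT, fun h => hwT ?_⟩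
      have := T.mul_mem (T.inv_mem hbT) h
      simpa using this
    · left
      exact ⟨normalizer_mul_mem a 1 z₀ hz₀ him b w hb hwK hbT hwT, hbT⟩
  have hAab : ∀ x ∈ T, ∀ y ∈ T, x * y = y * x := fun x hx y hy => nsTorus_comm a 1 x y hx hy
  have hKnab : ¬ ∀ x ∈ K, ∀ y ∈ K, x * y = y * x := by
    intro h
    apply hwT
    rw [mem_nsTorus_iff_commute a 1 z₀ hz₀ him]
    exact h w hwK _ (hTK (torusElt_mem a 1 z₀ hz₀))
  -- scalar criterion
  have hscal : ∀ y ∈ T, ∀ z : QuadraticAlgebra F a 1,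
      (y : Matrix (Fin 2) (Fin 2) F) = toMat a 1 z → z.im = 0 → IsScalar y := by
    intro y _ z hyz h0
    have e := toMat_apply a 1 z
    rw [← hyz, h0] at e
    refine ⟨?_, ?_, ?_⟩
    · have := congrFun (congrFun e 0) 1
      simpa using this
    · have := congrFun (congrFun e 1) 0
      simpa using this
    · have h00 := congrFun (congrFun e 0) 0
      have h11 := congrFun (congrFun e 1) 1
      simp at h00 h11
      rw [h00, h11]
  have hss : ∀ y ∈ T, tr y * tr y = 4 → IsScalar y := by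
    intro y hy ht
    obtain ⟨z, hz, hyz⟩ := hy
    by_cases h0 : z.im = 0
    · exact hscal y ⟨z, hz, hyz⟩ z hyz h0
    · exfalso
      apply trace_sq_ne_four a 1 z hz h0
      rw [← trace_toMat, ← hyz, Matrix.trace_fin_two, pow_two]
      exact ht
  have hA2 : ∀ y ∈ T, y * y = 1 → IsScalar y := by
    intro y hy hyy
    rcases two_cases (F := F) with ⟨-, -, heven⟩ | ⟨h2, -, -⟩
    · have hodd : Odd (Nat.card T) := by
        rw [hcardT]
        exact heven.add_one
      rw [eq_one_of_sq_of_odd T hodd hy hyy]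
      exact isScalar_one
    · exact Cfsg.Agent.Lib.Helper50_SL2Rep.isScalar_of_sq h2 hyy
  have hcop : ¬ p ∣ Nat.card T := by
    rw [hcardT]
    exact not_dvd_succ p
  have hZ : ∀ z : SL(2, F), IsScalar z → z ∈ K := by
    intro z hz
    apply hTK
    have hc := hz.commute (torusElt a 1 z₀ hz₀)
    exact (mem_nsTorus_iff_commute a 1 z₀ hz₀ him z).2 hc
  obtain ⟨e⟩ := dihedral_of_index_two_card p K T hTK hidx hAab hKnab hss hA2 hcop hZ
  rw [hcardT] at e
  exact ⟨K.map proj, ⟨e⟩⟩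

end plus


section minus

/-- the diagonal subgroup -/
def Diag : Subgroup SL(2, F) where
  carrier := {g | g 0 1 = 0 ∧ g 1 0 = 0}
  one_mem' := ⟨one01, one10⟩
  mul_mem' := by
    rintro g h ⟨g1, g2⟩ ⟨h1, h2⟩
    refine ⟨?_, ?_⟩
    · rw [mul01, g1, h1]; ring
    · rw [mul10, g2, h2]; ring
  inv_mem' := by
    rintro g ⟨g1, g2⟩
    refine ⟨?_, ?_⟩
    · rw [inv01, g1]; ring
    · rw [inv10, g2]; ring

/-- the monomial subgroup -/
def Mono : Subgroup SL(2, F) where
  carrier := {g | (g 0 1 = 0 ∧ g 1 0 = 0) ∨ (g 0 0 = 0 ∧ g 1 1 = 0)}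
  one_mem' := Or.inl ⟨one01, one10⟩
  mul_mem' := by
    rintro g h (⟨g1, g2⟩ | ⟨g1, g2⟩) (⟨h1, h2⟩ | ⟨h1, h2⟩)
    · left
      refine ⟨?_, ?_⟩
      · rw [mul01, g1, h1]; ring
      · rw [mul10, g2, h2]; ring
    · right
      refine ⟨?_, ?_⟩
      · rw [mul00, g1, h1]; ring
      · rw [mul11, g2, h2]; ring
    · right
      refine ⟨?_, ?_⟩
      · rw [mul00, g1, h2]; ring
      · rw [mul11, g2, h1]; ring
    · left
      refine ⟨?_, ?_⟩
      · rw [mul01, g1, h2]; ring
      · rw [mul10, g2, h1]; ring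
  inv_mem' := by
    rintro g (⟨g1, g2⟩ | ⟨g1, g2⟩)
    · left
      refine ⟨?_, ?_⟩
      · rw [inv01, g1]; ring
      · rw [inv10, g2]; ring
    · right
      refine ⟨?_, ?_⟩
      · rw [inv00, g2]
      · rw [inv11, g1]

omit [Fintype F] in
theorem mem_Diag (g : SL(2, F)) : g ∈ (Diag : Subgroup SL(2, F)) ↔ g 0 1 = 0 ∧ g 1 0 = 0 := Iff.rfl

omit [Fintype F] in
theorem mem_Mono (g : SL(2, F)) : g ∈ (Mono : Subgroup SL(2, F)) ↔
    (g 0 1 = 0 ∧ g 1 0 = 0) ∨ (g 0 0 = 0 ∧ g 1 1 = 0) := Iff.rfl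

/-- diagonal matrices -/
noncomputable def dg (u : Fˣ) : SL(2, F) := mk (u : F) 0 0 ((u : F)⁻¹) (by simp)

omit [Fintype F] in
theorem dg00 (u : Fˣ) : (dg u : SL(2, F)) 0 0 = u := mk00 _ _ _ _ _
omit [Fintype F] in
theorem dg01 (u : Fˣ) : (dg u : SL(2, F)) 0 1 = 0 := mk01 _ _ _ _ _
omit [Fintype F] in
theorem dg10 (u : Fˣ) : (dg u : SL(2, F)) 1 0 = 0 := mk10 _ _ _ _ _
omit [Fintype F] in
theorem dg11 (u : Fˣ) : (dg u : SL(2, F)) 1 1 = (u : F)⁻¹ := mk11 _ _ _ _ _

/-- the diagonal subgroup has order `q - 1` -/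
theorem card_Diag : Nat.card (Diag : Subgroup SL(2, F)) = Fintype.card F - 1 := by
  classical
  rw [← Fintype.card_units, ← Nat.card_eq_fintype_card]
  apply Nat.card_congr
  refine
    { toFun := fun g => Units.mk0 ((g : SL(2, F)) 0 0) (by
        intro h0
        have hd := det1 (g : SL(2, F))
        rw [h0, g.2.1] at hd
        simp at hd)
      invFun := fun u => ⟨dg u, ⟨dg01 u, dg10 u⟩⟩
      left_inv := ?_
      right_inv := ?_ }
  · rintro ⟨g, g1, g2⟩
    apply Subtype.ext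
    have hd := det1 g
    rw [g1] at hd
    have h00 : g 0 0 ≠ 0 := by
      intro h0
      rw [h0] at hd
      simp at hd
    apply ext4
    · rw [dg00]; rfl
    · rw [dg01, g1]
    · rw [dg10, g2]
    · rw [dg11]
      show (g 0 0)⁻¹ = g 1 1
      field_simp
      linear_combination -hd
  · intro u
    apply Units.ext
    exact dg00 u

open Cfsg.Agent.Lib.Helper51_SL2Sub in
/-- **The dihedral subgroup of order `2(q-1)/d`.** -/
theorem exists_dihedral_minus (h4 : 4 ≤ Fintype.card F) :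
    ∃ H : Subgroup PSL(2, F),
      Nonempty (H ≃* DihedralGroup ((Fintype.card F - 1) / Nat.gcd 2 (Fintype.card F - 1))) := by
  classical
  obtain ⟨p, hchar⟩ := CharP.exists F
  have hp : p.Prime := (CharP.char_is_prime_or_zero F p).resolve_right
    (fun h0 => by
      subst h0
      have := CharP.charP_to_charZero F
      exact not_finite F)
  have : Fact p.Prime := ⟨hp⟩
  set A : Subgroup SL(2, F) := Diag with hA
  set K : Subgroup SL(2, F) := Mono with hK
  have hAK : A ≤ K := fun g hg => Or.inl hg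
  have hwK : (wE : SL(2, F)) ∈ K := Or.inr ⟨by simp [wE], by simp [wE]⟩
  have hwA : (wE : SL(2, F)) ∉ A := by
    rintro ⟨h, -⟩
    simp [wE] at h
  have hidx : A.relIndex K = 2 := by
    show (A.subgroupOf K).index = 2
    rw [Subgroup.index_eq_two_iff]
    refine ⟨⟨wE, hwK⟩, ?_⟩
    rintro ⟨b, hb⟩
    simp only [Subgroup.mem_subgroupOf, Subgroup.coe_mul]
    by_cases hbA : b ∈ A
    · right
      refine ⟨hbA, fun h => hwA ?_⟩
      have := A.mul_mem (A.inv_mem hbA) h
      simpa using this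
    · left
      refine ⟨?_, hbA⟩
      rcases hb with hb | ⟨b1, b2⟩
      · exact absurd hb hbA
      · refine ⟨?_, ?_⟩
        · rw [mul01, b1]; simp [wE]
        · rw [mul10, b2]; simp [wE]
  have hAab : ∀ x ∈ A, ∀ y ∈ A, x * y = y * x := by
    rintro x ⟨x1, x2⟩ y ⟨y1, y2⟩
    apply ext4 <;> simp only [mul00, mul01, mul10, mul11, x1, x2, y1, y2] <;> ring
  -- an element of `Fˣ` with `u² ≠ 1`
  obtain ⟨u, hu⟩ : ∃ u : Fˣ, (u : F) * u ≠ 1 := by
    obtain ⟨ζ, hζ⟩ := IsCyclic.exists_ofOrder_eq_natCard (α := Fˣ)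
    rw [Nat.card_eq_fintype_card, Fintype.card_units] at hζ
    refine ⟨ζ, fun h => ?_⟩
    have h1 : ζ ^ 2 = 1 := by
      apply Units.ext
      rw [Units.val_pow_eq_pow_val, pow_two, h]
      rfl
    have := orderOf_dvd_of_pow_eq_one h1
    rw [hζ] at this
    have := Nat.le_of_dvd (by norm_num) this
    omega
  have hKnab : ¬ ∀ x ∈ K, ∀ y ∈ K, x * y = y * x := by
    intro h
    have hg : dg u ∈ K := Or.inl ⟨dg01 u, dg10 u⟩
    have := h _ hg _ hwK
    have e := congrArg (fun g : SL(2, F) => g 0 1) this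
    simp only [mul01, dg00, dg01, dg11] at e
    simp [wE] at e
    apply hu
    have hu0 : (u : F) ≠ 0 := u.ne_zero
    field_simp at e
    linear_combination e
  have hss : ∀ y ∈ A, tr y * tr y = 4 → IsScalar y := by
    rintro y ⟨y1, y2⟩ ht
    refine ⟨y1, y2, ?_⟩
    have hd := det1 y
    rw [y1] at hd
    unfold tr at ht
    have : (y 0 0 - y 1 1) * (y 0 0 - y 1 1) = 0 := by linear_combination ht - 4 * hd
    have := mul_self_eq_zero.1 this
    linear_combination this
  have hA2 : ∀ y ∈ A, y * y = 1 → IsScalar y := by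
    rintro y ⟨y1, y2⟩ hyy
    refine ⟨y1, y2, ?_⟩
    have hd := det1 y
    rw [y1] at hd
    have e := congrArg (fun g : SL(2, F) => g 0 0) hyy
    simp only [mul00, y1, one00] at e
    linear_combination (y 1 1) * e - (y 0 0) * hd
  have hcop : ¬ p ∣ Nat.card A := by
    rw [hA, card_Diag]
    exact not_dvd_pred p
  have hZ : ∀ z : SL(2, F), IsScalar z → z ∈ K := fun z hz => Or.inl ⟨hz.1, hz.2.1⟩
  obtain ⟨e⟩ := dihedral_of_index_two_card p K A hAK hidx hAab hKnab hss hA2 hcop hZ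
  rw [hA, card_Diag] at e
  exact ⟨K.map proj, ⟨e⟩⟩

end minus

end Cfsg.Agent.Lib.Helper50_DkDihedral
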