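import Mathlib

/-!
# Dihedral subgroups of `A₄`, `S₄`, `A₅` (helper50)

If `DihedralGroup k` embeds in `A₄` then `k ∈ {1, 2}`; in `S₄` then `k ∈ {1, 2, 3, 4}`; in `A₅` then
`k ∈ {1, 2, 3, 5}`.
-/

set_option autoImplicit false

namespace Cfsg.Agent.Lib.Helper50_DkSmall

set_option maxRecDepth 100000 in
theorem A4_pow : ∀ g : alternatingGroup (Fin 4), g ^ 2 = 1 ∨ g ^ 3 = 1 := by
  decide

set_option maxRecDepth 100000 in
theorem S4_pow : ∀ g : Equiv.Perm (Fin 4), g ^ 2 = 1 ∨ g ^ 3 = 1 ∨ g ^ 4 = 1 := by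
  decide

set_option maxRecDepth 100000 in
theorem A5_pow : ∀ g : alternatingGroup (Fin 5), g ^ 2 = 1 ∨ g ^ 3 = 1 ∨ g ^ 5 = 1 := by
  decide

set_option maxRecDepth 100000 in
theorem A4_no_D3 : ∀ s r : alternatingGroup (Fin 4), s * s = 1 → r * r * r = 1 →
    s * r * s⁻¹ = r⁻¹ → s = 1 ∨ r = 1 := by
  decide

theorem eq_of_dvd_prime {k p : ℕ} (hp : p.Prime) (h : k ∣ p) : k = 1 ∨ k = p :=
  (Nat.dvd_prime hp).1 h

variable {k : ℕ} {X : Type*} [Group X]

theorem orderOf_image (ψ : DihedralGroup k →* X) (hψ : Function.Injective ψ) :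
    orderOf (ψ (DihedralGroup.r 1)) = k := by
  rw [orderOf_injective ψ hψ, DihedralGroup.orderOf_r_one]

theorem dvd_of_pow (ψ : DihedralGroup k →* X) (hψ : Function.Injective ψ) {n : ℕ}
    (h : ψ (DihedralGroup.r 1) ^ n = 1) : k ∣ n := by
  rw [← orderOf_image ψ hψ]
  exact orderOf_dvd_of_pow_eq_one h

theorem dihedral_A4 (ψ : DihedralGroup k →* alternatingGroup (Fin 4))
    (hψ : Function.Injective ψ) : k = 1 ∨ k = 2 := by
  rcases A4_pow (ψ (DihedralGroup.r 1)) with h | h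
  · exact eq_of_dvd_prime Nat.prime_two (dvd_of_pow ψ hψ h)
  · rcases eq_of_dvd_prime Nat.prime_three (dvd_of_pow ψ hψ h) with h1 | h3
    · exact Or.inl h1
    · exfalso
      subst h3
      have hs : ψ (DihedralGroup.sr 0) * ψ (DihedralGroup.sr 0) = 1 := by
        rw [← map_mul, DihedralGroup.sr_mul_self, map_one]
      have hr : ψ (DihedralGroup.r 1) * ψ (DihedralGroup.r 1) * ψ (DihedralGroup.r 1) = 1 := by
        rw [← map_mul, ← map_mul]
        have : (DihedralGroup.r 1 * DihedralGroup.r 1 * DihedralGroup.r 1 : DihedralGroup 3) = 1 := by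
          decide
        rw [this, map_one]
      have hc : ψ (DihedralGroup.sr 0) * ψ (DihedralGroup.r 1) * (ψ (DihedralGroup.sr 0))⁻¹ =
          (ψ (DihedralGroup.r 1))⁻¹ := by
        rw [← map_inv, ← map_mul, ← map_mul, ← map_inv]
        congr 1
      rcases A4_no_D3 _ _ hs hr hc with h1 | h1
      · have := hψ (h1.trans (map_one ψ).symm)
        revert this
        decide
      · have := hψ (h1.trans (map_one ψ).symm)
        revert this
        decide

theorem dihedral_S4 (ψ : DihedralGroup k →* Equiv.Perm (Fin 4))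
    (hψ : Function.Injective ψ) : k = 1 ∨ k = 2 ∨ k = 3 ∨ k = 4 := by
  rcases S4_pow (ψ (DihedralGroup.r 1)) with h | h | h
  · rcases eq_of_dvd_prime Nat.prime_two (dvd_of_pow ψ hψ h) with h1 | h1 <;> omega
  · rcases eq_of_dvd_prime Nat.prime_three (dvd_of_pow ψ hψ h) with h1 | h1 <;> omega
  · have hd := dvd_of_pow ψ hψ h
    have hle := Nat.le_of_dvd (by norm_num) hd
    interval_cases k
    · simp at hd
    · omega
    · omega
    · omega
    · omega

theorem dihedral_A5 (ψ : DihedralGroup k →* alternatingGroup (Fin 5))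
    (hψ : Function.Injective ψ) : k = 1 ∨ k = 2 ∨ k = 3 ∨ k = 5 := by
  rcases A5_pow (ψ (DihedralGroup.r 1)) with h | h | h
  · rcases eq_of_dvd_prime Nat.prime_two (dvd_of_pow ψ hψ h) with h1 | h1 <;> omega
  · rcases eq_of_dvd_prime Nat.prime_three (dvd_of_pow ψ hψ h) with h1 | h1 <;> omega
  · rcases eq_of_dvd_prime Nat.prime_five (dvd_of_pow ψ hψ h) with h1 | h1 <;> omega

end Cfsg.Agent.Lib.Helper50_DkSmall
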