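import Mathlib
import Cfsg.Agent.Lib.Helper5_PSLCard
import Cfsg.Agent.S0265

set_option autoImplicit false

/-!
Subfield subgroups of `PSL₂(F)`: a field embedding `ι : K →+* F` induces an embedding
`PSL₂(K) ↪ PSL₂(F)`; when every element of `K` becomes a square in `F` (e.g. `|F| = |K|^(2j)` odd)
it also induces `PGL₂(K) ↪ PSL₂(F)` via `g ↦ ± (√ι(det g))⁻¹ • ι(g)`; and for `|F| = |K|^m` odd with
`m` odd there is no subgroup of `PSL₂(F)` isomorphic to `PGL₂(K)` (2-part of the orders).
-/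

namespace Cfsg.Agent.Lib.Helper41_Subfield


open Matrix

theorem exists_ringHom {F K : Type*} [Field F] [Fintype F] [Field K] [Fintype K] (m : ℕ)
    (hK : Fintype.card K ^ m = Fintype.card F) : Nonempty (K →+* F) := by
  obtain ⟨p, hp⟩ := CharP.exists K
  have : Fact p.Prime := ⟨CharP.char_is_prime K p⟩
  obtain ⟨n, hpn, hKn⟩ := FiniteField.card K p
  have hFc : Fintype.card F = p ^ ((n:ℕ) * m) := by rw [← hK, hKn, pow_mul]
  have : CharP F p := charP_of_card_eq_prime_pow hFc
  let _ : Algebra (ZMod p) K := ZMod.algebra K p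
  let _ : Algebra (ZMod p) F := ZMod.algebra F p
  have h1 : Fintype.card K = p ^ Module.finrank (ZMod p) K := by
    rw [Module.card_eq_pow_finrank (K := ZMod p), ZMod.card]
  have h2 : Fintype.card F = p ^ Module.finrank (ZMod p) F := by
    rw [Module.card_eq_pow_finrank (K := ZMod p) (V := F), ZMod.card]
  have hp1 : 1 < p := hpn.one_lt
  have h3 : Module.finrank (ZMod p) K = n := Nat.pow_right_injective hp1 (by show p ^ _ = p ^ _; rw [← h1, hKn])
  have h4 : Module.finrank (ZMod p) F = n * m := Nat.pow_right_injective hp1 (by show p ^ _ = p ^ _; rw [← h2, hFc])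
  obtain ⟨f⟩ := FiniteField.nonempty_algHom_of_finrank_dvd (F := ZMod p) (K := K) (L := F)
    (by rw [h3, h4]; exact dvd_mul_right _ _)
  exact ⟨f.toRingHom⟩




variable {F K : Type*} [Field F] [Field K]

/-- The composite `SL₂(K) → SL₂(F) → PSL₂(F)` induced by a field embedding. -/
noncomputable def pslHom (ι : K →+* F) :
    SpecialLinearGroup (Fin 2) K →* ProjectiveSpecialLinearGroup (Fin 2) F :=
  (QuotientGroup.mk' _).comp (SpecialLinearGroup.map ι)

theorem scalar_two_apply {R : Type*} [CommRing R] (r : R) (i j : Fin 2) :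
    (Matrix.scalar (Fin 2) r) i j = if i = j then r else 0 := by
  simp [Matrix.scalar_apply, Matrix.diagonal_apply]

theorem pslHom_ker (ι : K →+* F) :
    (pslHom ι).ker = Subgroup.center (SpecialLinearGroup (Fin 2) K) := by
  ext A
  rw [MonoidHom.mem_ker]
  show QuotientGroup.mk' _ (SpecialLinearGroup.map ι A) = 1 ↔ _
  rw [QuotientGroup.mk'_apply, QuotientGroup.eq_one_iff, Matrix.SpecialLinearGroup.mem_center_iff,
    Matrix.SpecialLinearGroup.mem_center_iff]
  constructor
  · rintro ⟨r, hr, h⟩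
    have h00 := congrFun (congrFun h 0) 0
    have h01 := congrFun (congrFun h 0) 1
    have h10 := congrFun (congrFun h 1) 0
    have h11 := congrFun (congrFun h 1) 1
    simp only [scalar_two_apply, SpecialLinearGroup.map_apply_coe, RingHom.mapMatrix_apply,
      Matrix.map_apply] at h00 h01 h10 h11
    simp at h00 h01 h10 h11
    have e01 : A 0 1 = 0 := ι.injective (by rw [← h01, map_zero])
    have e10 : A 1 0 = 0 := ι.injective (by rw [← h10, map_zero])
    have e11 : A 1 1 = A 0 0 := ι.injective (by rw [← h11, ← h00])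
    have hd := A.det_coe
    rw [Matrix.det_fin_two, e01, e10, e11] at hd
    refine ⟨A 0 0, ?_, ?_⟩
    · rw [Fintype.card_fin, sq]; linear_combination hd
    · ext i j
      fin_cases i <;> fin_cases j <;> simp [scalar_two_apply, e01, e10, e11]
  · rintro ⟨r, hr, h⟩
    refine ⟨ι r, by rw [← map_pow, hr, map_one], ?_⟩
    ext i j
    rw [SpecialLinearGroup.map_apply_coe, RingHom.mapMatrix_apply, Matrix.map_apply, ← h,
      scalar_two_apply, scalar_two_apply]
    split_ifs <;> simp

theorem exists_psl_embed (ι : K →+* F) :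
    ∃ H : Subgroup (ProjectiveSpecialLinearGroup (Fin 2) F),
      Nonempty (H ≃* ProjectiveSpecialLinearGroup (Fin 2) K) := by
  refine ⟨(pslHom ι).range, ⟨?_⟩⟩
  have e1 := QuotientGroup.quotientKerEquivRange (pslHom ι)
  have e2 := QuotientGroup.quotientMulEquivOfEq (pslHom_ker ι)
  exact (e2.symm.trans e1).symm





/-- Two elements of `SL₂(F)` that differ by a sign have the same image in `PSL₂(F)`. -/
theorem mk_eq_of_neg (A B : Matrix.SpecialLinearGroup (Fin 2) F)
    (h : (A : Matrix (Fin 2) (Fin 2) F) = - (B : Matrix (Fin 2) (Fin 2) F)) :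
    (QuotientGroup.mk A : ProjectiveSpecialLinearGroup (Fin 2) F) = QuotientGroup.mk B := by
  rw [QuotientGroup.eq, Matrix.SpecialLinearGroup.mem_center_iff]
  refine ⟨-1, by simp, ?_⟩
  have h1 : ((A⁻¹ * B : Matrix.SpecialLinearGroup (Fin 2) F) : Matrix (Fin 2) (Fin 2) F)
      = -((A⁻¹ * A : Matrix.SpecialLinearGroup (Fin 2) F) : Matrix (Fin 2) (Fin 2) F) := by
    rw [Matrix.SpecialLinearGroup.coe_mul, Matrix.SpecialLinearGroup.coe_mul, h, Matrix.mul_neg, neg_neg]
  rw [h1, inv_mul_cancel]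
  ext i j
  simp only [scalar_two_apply, Matrix.SpecialLinearGroup.coe_one, Matrix.neg_apply, Matrix.one_apply]
  split_ifs <;> simp

/-- The matrix `s⁻¹ • ι(g)` of determinant one attached to `g ∈ GL₂(K)` and a square root `s` of
`ι (det g)`. -/
noncomputable def sqrtScale (ι : K →+* F) (g : GL (Fin 2) K) (s : F)
    (hs : s * s = ι (g : Matrix (Fin 2) (Fin 2) K).det) : Matrix.SpecialLinearGroup (Fin 2) F :=
  ⟨s⁻¹ • (g : Matrix (Fin 2) (Fin 2) K).map ι, by
    have hd : (g : Matrix (Fin 2) (Fin 2) K).det ≠ 0 := by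
      have := g.det.ne_zero
      simpa using this
    have hs0 : s ≠ 0 := by
      rintro rfl
      rw [mul_zero] at hs
      exact hd (ι.injective (by rw [← hs, map_zero]))
    rw [Matrix.det_smul, Fintype.card_fin, ← RingHom.mapMatrix_apply, ← RingHom.map_det, ← hs]
    field_simp⟩


theorem sqrtScale_coe (ι : K →+* F) (g : GL (Fin 2) K) (s : F)
    (hs : s * s = ι (g : Matrix (Fin 2) (Fin 2) K).det) :
    (sqrtScale ι g s hs : Matrix (Fin 2) (Fin 2) F) = s⁻¹ • (g : Matrix (Fin 2) (Fin 2) K).map ι := rfl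

theorem det_ne_zero_of_GL (g : GL (Fin 2) K) : (g : Matrix (Fin 2) (Fin 2) K).det ≠ 0 := by
  have := g.det.ne_zero
  simpa using this

/-- The class of `sqrtScale` does not depend on the square root. -/
theorem mk_sqrtScale_eq (ι : K →+* F) (g : GL (Fin 2) K) (s t : F)
    (hs : s * s = ι (g : Matrix (Fin 2) (Fin 2) K).det)
    (ht : t * t = ι (g : Matrix (Fin 2) (Fin 2) K).det) :
    (QuotientGroup.mk (sqrtScale ι g s hs) : ProjectiveSpecialLinearGroup (Fin 2) F)
      = QuotientGroup.mk (sqrtScale ι g t ht) := by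
  have h : s = t ∨ s = -t := by
    have : (s - t) * (s + t) = 0 := by linear_combination hs - ht
    rcases mul_eq_zero.mp this with h | h
    · left; linear_combination h
    · right; linear_combination h
  rcases h with rfl | rfl
  · rfl
  · apply mk_eq_of_neg
    rw [sqrtScale_coe, sqrtScale_coe, inv_neg, neg_smul]

/-- The homomorphism `GL₂(K) → PSL₂(F)`, `g ↦ ± (√ι(det g))⁻¹ • ι(g)`, when every element of `K`
becomes a square in `F`. -/
noncomputable def pglHom (ι : K →+* F) (hsq : ∀ a : K, IsSquare (ι a)) :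
    GL (Fin 2) K →* ProjectiveSpecialLinearGroup (Fin 2) F :=
  MonoidHom.mk' (fun g => QuotientGroup.mk (sqrtScale ι g (hsq (g : Matrix (Fin 2) (Fin 2) K).det).choose
      (hsq (g : Matrix (Fin 2) (Fin 2) K).det).choose_spec.symm)) (by
    intro g h
    set s := (hsq (g : Matrix (Fin 2) (Fin 2) K).det).choose with hs_def
    have hs : s * s = ι (g : Matrix (Fin 2) (Fin 2) K).det := (hsq (g : Matrix (Fin 2) (Fin 2) K).det).choose_spec.symm
    set t := (hsq (h : Matrix (Fin 2) (Fin 2) K).det).choose with ht_def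
    have ht : t * t = ι (h : Matrix (Fin 2) (Fin 2) K).det := (hsq (h : Matrix (Fin 2) (Fin 2) K).det).choose_spec.symm
    have hst : (s * t) * (s * t) = ι ((g * h : GL (Fin 2) K) : Matrix (Fin 2) (Fin 2) K).det := by
      rw [Matrix.GeneralLinearGroup.coe_mul, Matrix.det_mul, map_mul, ← hs, ← ht]; ring
    rw [mk_sqrtScale_eq ι (g * h) _ (s * t) _ hst, ← QuotientGroup.mk_mul]
    congr 1
    apply Subtype.ext
    rw [Matrix.SpecialLinearGroup.coe_mul, sqrtScale_coe, sqrtScale_coe, sqrtScale_coe,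
      Matrix.GeneralLinearGroup.coe_mul, Matrix.map_mul, Matrix.smul_mul, Matrix.mul_smul, smul_smul,
      mul_inv])


theorem pglHom_apply (ι : K →+* F) (hsq : ∀ a : K, IsSquare (ι a)) (g : GL (Fin 2) K) :
    pglHom ι hsq g = QuotientGroup.mk (sqrtScale ι g (hsq (g : Matrix (Fin 2) (Fin 2) K).det).choose
      (hsq (g : Matrix (Fin 2) (Fin 2) K).det).choose_spec.symm) := rfl

theorem sqrtScale_mem_center_iff (ι : K →+* F) (g : GL (Fin 2) K) (s : F)
    (hs : s * s = ι (g : Matrix (Fin 2) (Fin 2) K).det) :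
    sqrtScale ι g s hs ∈ Subgroup.center (Matrix.SpecialLinearGroup (Fin 2) F) ↔
      g ∈ Subgroup.center (GL (Fin 2) K) := by
  rw [Matrix.SpecialLinearGroup.mem_center_iff,
    Matrix.GeneralLinearGroup.center_eq_range_scalar, MonoidHom.mem_range]
  have hd := det_ne_zero_of_GL g
  have hs0 : s ≠ 0 := by
    intro h0
    rw [h0, mul_zero] at hs
    exact hd (ι.injective (by rw [← hs, map_zero]))
  constructor
  · rintro ⟨r, hr, h⟩
    rw [sqrtScale_coe] at h
    have h00 := congrFun (congrFun h 0) 0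
    have h01 := congrFun (congrFun h 0) 1
    have h10 := congrFun (congrFun h 1) 0
    have h11 := congrFun (congrFun h 1) 1
    simp only [scalar_two_apply, Matrix.smul_apply, Matrix.map_apply, smul_eq_mul] at h00 h01 h10 h11
    simp at h00 h01 h10 h11
    have e01 : (g : Matrix (Fin 2) (Fin 2) K) 0 1 = 0 := by tauto
    have e10 : (g : Matrix (Fin 2) (Fin 2) K) 1 0 = 0 := by tauto
    have e11 : (g : Matrix (Fin 2) (Fin 2) K) 1 1 = (g : Matrix (Fin 2) (Fin 2) K) 0 0 := by
      apply ι.injective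
      have : s⁻¹ * ι ((g : Matrix (Fin 2) (Fin 2) K) 1 1) = s⁻¹ * ι ((g : Matrix (Fin 2) (Fin 2) K) 0 0) := by
        rw [← h11, ← h00]
      exact mul_left_cancel₀ (inv_ne_zero hs0) this
    have hu : (g : Matrix (Fin 2) (Fin 2) K) 0 0 ≠ 0 := by
      intro h0
      apply hd
      rw [Matrix.det_fin_two, e01, e11, h0]; ring
    refine ⟨Units.mk0 _ hu, ?_⟩
    apply Units.ext
    rw [Matrix.GeneralLinearGroup.coe_scalar]
    ext i j
    fin_cases i <;> fin_cases j <;> simp [scalar_two_apply, e01, e10, e11]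
  · rintro ⟨u, hu⟩
    have hg : (g : Matrix (Fin 2) (Fin 2) K) = Matrix.scalar (Fin 2) (u : K) := by
      rw [← hu, Matrix.GeneralLinearGroup.coe_scalar]
    have hdet : (g : Matrix (Fin 2) (Fin 2) K).det = (u : K) * u := by
      rw [hg, Matrix.det_fin_two]
      simp [scalar_two_apply]
    refine ⟨s⁻¹ * ι u, ?_, ?_⟩
    · rw [Fintype.card_fin]
      rw [hdet, map_mul] at hs
      field_simp
      linear_combination -hs
    · rw [sqrtScale_coe, hg]
      ext i j
      rw [Matrix.smul_apply, Matrix.map_apply, scalar_two_apply, scalar_two_apply]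
      split_ifs <;> simp

theorem pglHom_ker (ι : K →+* F) (hsq : ∀ a : K, IsSquare (ι a)) :
    (pglHom ι hsq).ker = Subgroup.center (GL (Fin 2) K) := by
  ext g
  rw [MonoidHom.mem_ker, pglHom_apply, QuotientGroup.eq_one_iff, sqrtScale_mem_center_iff]

theorem exists_pgl_embed (ι : K →+* F) (hsq : ∀ a : K, IsSquare (ι a)) :
    ∃ H : Subgroup (ProjectiveSpecialLinearGroup (Fin 2) F),
      Nonempty (H ≃* Matrix.ProjGenLinGroup (Fin 2) K) := by
  refine ⟨(pglHom ι hsq).range, ⟨?_⟩⟩
  have e1 := QuotientGroup.quotientKerEquivRange (pglHom ι hsq)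
  have e2 : GL (Fin 2) K ⧸ (pglHom ι hsq).ker ≃* GL (Fin 2) K ⧸ Subgroup.center (GL (Fin 2) K) :=
    QuotientGroup.quotientMulEquivOfEq (pglHom_ker ι hsq)
  exact (e2.symm.trans e1).symm




/-- Arithmetic: `2 (k-1)` divides `k^(2j) - 1` for odd `k`. -/
theorem two_mul_pred_dvd (k j : ℕ) (hk : Odd k) : 2 * (k - 1) ∣ k ^ (2 * j) - 1 := by
  obtain ⟨t, rfl⟩ := hk
  have h1 : (2 * t + 1) ^ 2 - 1 ∣ (2 * t + 1) ^ (2 * j) - 1 :=
    Nat.pow_sub_one_dvd_pow_sub_one _ (dvd_mul_right 2 j)
  refine dvd_trans ?_ h1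
  refine ⟨t + 1, ?_⟩
  have : (2 * t + 1) ^ 2 = 4 * t * (t + 1) + 1 := by ring
  rw [this]
  simp only [Nat.add_sub_cancel]
  ring

/-- If `|K|^(2j) = |F|` is odd, every element of `K` becomes a square in `F`. -/
theorem isSquare_of_even {F K : Type*} [Field F] [Fintype F] [Field K] [Fintype K] (ι : K →+* F)
    (j : ℕ) (hK : Fintype.card K ^ (2 * j) = Fintype.card F) (hodd : Odd (Fintype.card F)) (a : K) :
    IsSquare (ι a) := by
  by_cases ha : a = 0
  · rw [ha, map_zero]; exact ⟨0, by simp⟩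
  have hF2 : ringChar F ≠ 2 := by
    intro h
    rw [FiniteField.even_card_iff_char_two] at h
    rw [Nat.odd_iff] at hodd
    omega
  have hia : ι a ≠ 0 := by
    intro h
    exact ha (ι.injective (by rw [h, map_zero]))
  rw [FiniteField.isSquare_iff hF2 hia]
  have hkodd : Odd (Fintype.card K) := by
    have h1 : Odd (Fintype.card K ^ (2 * j)) := by rw [hK]; exact hodd
    have hj : 2 * j ≠ 0 := by
      intro h0
      rw [h0, pow_zero] at hK
      have := Fintype.one_lt_card (α := F)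
      omega
    exact (Nat.odd_pow_iff hj).mp h1
  obtain ⟨c, hc⟩ := two_mul_pred_dvd (Fintype.card K) j hkodd
  rw [hK, mul_assoc] at hc
  have hq2 : Fintype.card F / 2 = (Fintype.card K - 1) * c := by
    obtain ⟨t, ht⟩ := hodd
    generalize (Fintype.card K - 1) * c = x at hc ⊢
    omega
  rw [hq2, pow_mul, ← map_pow, FiniteField.pow_card_sub_one_eq_one a ha, map_one, one_pow]




/-- Arithmetic: for odd `k` and odd `m`, `2 k (k^2-1)` does not divide `k^m ((k^m)^2 - 1)`. -/
theorem not_dvd_of_odd (k m : ℕ) (hk : Odd k) (hk1 : 1 < k) (hm : Odd m) :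
    ¬ 2 * (k * (k ^ 2 - 1)) ∣ k ^ m * ((k ^ m) ^ 2 - 1) := by
  intro h
  have h1 : (∑ i ∈ Finset.range m, (k ^ 2) ^ i) * (k ^ 2 - 1) + 1 = (k ^ 2) ^ m := by
    have := geom_sum_mul_add (k ^ 2 - 1) m
    have hk2 : k ^ 2 - 1 + 1 = k ^ 2 := Nat.sub_add_cancel (Nat.one_le_pow _ _ (by omega))
    rw [hk2] at this
    exact this
  set S := ∑ i ∈ Finset.range m, (k ^ 2) ^ i with hS
  have hSodd : Odd S := by
    rw [hS, Finset.odd_sum_iff_odd_card_odd]
    have : (Finset.range m).filter (fun i => Odd ((k ^ 2) ^ i)) = Finset.range m := by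
      apply Finset.filter_true_of_mem
      intro i _
      exact (hk.pow).pow
    rw [this, Finset.card_range]
    exact hm
  have h2 : (k ^ m) ^ 2 - 1 = S * (k ^ 2 - 1) := by
    rw [← pow_mul, mul_comm m 2, pow_mul, ← h1]
    simp
  rw [h2] at h
  have hpos : 0 < k ^ 2 - 1 := by
    have : 1 < k ^ 2 := Nat.one_lt_pow (by norm_num) hk1
    omega
  have h3 : 2 * k * (k ^ 2 - 1) ∣ (k ^ m * S) * (k ^ 2 - 1) := by
    have e1 : 2 * k * (k ^ 2 - 1) = 2 * (k * (k ^ 2 - 1)) := by ring
    have e2 : (k ^ m * S) * (k ^ 2 - 1) = k ^ m * (S * (k ^ 2 - 1)) := by ring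
    rw [e1, e2]; exact h
  have h4 : 2 * k ∣ k ^ m * S := Nat.dvd_of_mul_dvd_mul_right hpos h3
  have h5 : 2 ∣ k ^ m * S := dvd_trans (dvd_mul_right 2 k) h4
  have h6 : Odd (k ^ m * S) := (hk.pow).mul hSodd
  rw [← even_iff_two_dvd] at h5
  exact (Nat.not_even_iff_odd.mpr h6) h5

theorem even_of_pgl_embed {F K : Type*} [Field F] [Fintype F] [Field K] [Fintype K] (m : ℕ)
    (hK : Fintype.card K ^ m = Fintype.card F) (hodd : Odd (Fintype.card F))
    (H : Subgroup (ProjectiveSpecialLinearGroup (Fin 2) F))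
    (e : H ≃* Matrix.ProjGenLinGroup (Fin 2) K) : Even m := by
  by_contra hm
  rw [Nat.not_even_iff_odd] at hm
  have hm0 : m ≠ 0 := by
    rintro rfl
    simp at hm
  have hkodd : Odd (Fintype.card K) := by
    have h1 : Odd (Fintype.card K ^ m) := by rw [hK]; exact hodd
    exact (Nat.odd_pow_iff hm0).mp h1
  have hk1 : 1 < Fintype.card K := Fintype.one_lt_card
  have h1 : Nat.card H = Fintype.card K * (Fintype.card K ^ 2 - 1) := by
    rw [Nat.card_congr e.toEquiv, Cfsg.Agent.S0265.result, Cfsg.Agent.Lib.Helper5_PSLCard.card_SL_two]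
  have h2 := Cfsg.Agent.Lib.Helper5_PSLCard.card_PSL_mul (F := F) 2 (by norm_num)
  rw [Cfsg.Agent.Lib.Helper5_PSLCard.card_SL_two] at h2
  have hg : Nat.gcd (Fintype.card F - 1) 2 = 2 := by
    obtain ⟨t, ht⟩ := hodd
    rw [ht]
    simp
  rw [hg] at h2
  have h3 : Nat.card H ∣ Nat.card (ProjectiveSpecialLinearGroup (Fin 2) F) := Subgroup.card_subgroup_dvd_card H
  apply not_dvd_of_odd (Fintype.card K) m hkodd hk1 hm
  rw [hK, ← h2, ← h1, mul_comm]
  exact Nat.mul_dvd_mul_right h3 2

end Cfsg.Agent.Lib.Helper41_Subfield
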