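import Mathlib
import Cfsg.Agent.Lib.Helper21_BSW8
import Cfsg.Agent.Lib.Helper61_SL2
import Cfsg.Agent.Lib.Helper5_PSLCard
import Cfsg.Agent.S4065

set_option autoImplicit false

namespace Cfsg.Agent.Lib.Helper99_SL2Even

open Matrix
open scoped MatrixGroups
open Cfsg.Agent.Lib.Helper21_BSW

universe u
variable {F : Type u} [Field F]

/-- upper unitriangular element -/
def uu (x : F) : SL(2, F) := ⟨!![1, x; 0, 1], by simp [Matrix.det_fin_two]⟩

/-- lower unitriangular element -/
def ll (x : F) : SL(2, F) := ⟨!![1, 0; x, 1], by simp [Matrix.det_fin_two]⟩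

theorem uu_val (x : F) : (uu x : Matrix (Fin 2) (Fin 2) F) = !![1, x; 0, 1] := rfl
theorem ll_val (x : F) : (ll x : Matrix (Fin 2) (Fin 2) F) = !![1, 0; x, 1] := rfl

theorem uu_mul (x y : F) : uu x * uu y = uu (x + y) := by
  apply Subtype.ext
  rw [Matrix.SpecialLinearGroup.coe_mul, uu_val, uu_val, uu_val]
  ext i j
  fin_cases i <;> fin_cases j <;> simp [Matrix.mul_apply, Fin.sum_univ_two] <;> ring

theorem uu_zero : uu (0 : F) = 1 := by
  apply Subtype.ext
  rw [uu_val]
  ext i j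
  fin_cases i <;> fin_cases j <;> simp

theorem ll_mul (x y : F) : ll x * ll y = ll (x + y) := by
  apply Subtype.ext
  rw [Matrix.SpecialLinearGroup.coe_mul, ll_val, ll_val, ll_val]
  ext i j
  fin_cases i <;> fin_cases j <;> simp [Matrix.mul_apply, Fin.sum_univ_two] <;> ring

theorem ll_zero : ll (0 : F) = 1 := by
  apply Subtype.ext
  rw [ll_val]
  ext i j
  fin_cases i <;> fin_cases j <;> simp

theorem uu_injective : Function.Injective (uu : F → SL(2, F)) := by
  intro x y h
  have := congrArg (fun g : SL(2, F) => (g : Matrix (Fin 2) (Fin 2) F) 0 1) h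
  simpa [uu_val] using this

theorem uu_ne_ll (x : F) : uu (1 : F) ≠ ll x := by
  intro h
  have := congrArg (fun g : SL(2, F) => (g : Matrix (Fin 2) (Fin 2) F) 0 1) h
  simp [uu_val, ll_val] at this

theorem not_commute_uu_ll : uu (1 : F) * ll 1 ≠ ll 1 * uu 1 := by
  intro h
  have := congrArg (fun g : SL(2, F) => (g : Matrix (Fin 2) (Fin 2) F) 1 1) h
  simp [uu_val, ll_val, Matrix.mul_apply, Fin.sum_univ_two] at this

section char2
variable [CharP F 2]

theorem uu_sq (x : F) : uu x * uu x = 1 := by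
  rw [uu_mul, CharTwo.add_self_eq_zero, uu_zero]

theorem ll_sq (x : F) : ll x * ll x = 1 := by
  rw [ll_mul, CharTwo.add_self_eq_zero, ll_zero]

/-- In characteristic 2, an element commuting with an involution of `SL(2,F)` squares to 1. -/
theorem sq_eq_one_of_commute (t c : SL(2, F)) (ht : t * t = 1) (ht1 : t ≠ 1)
    (hc : c * t = t * c) : c * c = 1 := by
  have h2 : (2 : F) = 0 := CharTwo.two_eq_zero
  have hT : (t : Matrix (Fin 2) (Fin 2) F) * (t : Matrix (Fin 2) (Fin 2) F) = 1 := by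
    have := congrArg Subtype.val ht
    simpa using this
  have hC : (c : Matrix (Fin 2) (Fin 2) F) * (t : Matrix (Fin 2) (Fin 2) F)
      = (t : Matrix (Fin 2) (Fin 2) F) * (c : Matrix (Fin 2) (Fin 2) F) := by
    have := congrArg Subtype.val hc
    simpa using this
  set T := (t : Matrix (Fin 2) (Fin 2) F) with hTdef
  set C := (c : Matrix (Fin 2) (Fin 2) F) with hCdef
  have hdet : T 0 0 * T 1 1 - T 0 1 * T 1 0 = 1 := by
    have := t.2
    rw [Matrix.det_fin_two] at this
    exact this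
  have e00 := congrFun (congrFun hT 0) 0
  have e01 := congrFun (congrFun hT 0) 1
  have e10 := congrFun (congrFun hT 1) 0
  have e11 := congrFun (congrFun hT 1) 1
  simp only [Matrix.mul_apply, Fin.sum_univ_two, Matrix.one_apply_eq, Matrix.one_apply_ne,
    ne_eq, Fin.reduceEq, not_false_eq_true] at e00 e01 e10 e11
  -- T is not the identity
  have hTne : ¬ (T 0 1 = 0 ∧ T 1 0 = 0) := by
    rintro ⟨hb, hc'⟩
    apply ht1
    have ha : T 0 0 = 1 := by
      apply Cfsg.Agent.S4065.sq_eq_one_char_two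
      rw [hb] at e00
      linear_combination e00
    have hd : T 1 1 = 1 := by
      apply Cfsg.Agent.S4065.sq_eq_one_char_two
      rw [hb] at e11
      linear_combination e11
    apply Subtype.ext
    ext i j
    fin_cases i <;> fin_cases j
    · exact ha
    · exact hb
    · exact hc'
    · exact hd
  -- trace of T is zero
  have htr : T 0 0 + T 1 1 = 0 := by
    by_contra hne
    apply hTne
    constructor
    · have : T 0 1 * (T 0 0 + T 1 1) = 0 := by linear_combination e01
      exact (mul_eq_zero.1 this).resolve_right hne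
    · have : T 1 0 * (T 0 0 + T 1 1) = 0 := by linear_combination e10
      exact (mul_eq_zero.1 this).resolve_right hne
  have c01 := congrFun (congrFun hC 0) 1
  have c10 := congrFun (congrFun hC 1) 0
  simp only [Matrix.mul_apply, Fin.sum_univ_two] at c01 c10
  have htrC : C 0 0 + C 1 1 = 0 := by
    by_contra hne
    apply hTne
    have hd : T 1 1 = T 0 0 := by linear_combination htr - T 0 0 * h2
    constructor
    · have : T 0 1 * (C 0 0 + C 1 1) = 0 := by
        rw [hd] at c01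
        linear_combination c01 + T 0 1 * C 1 1 * h2
      exact (mul_eq_zero.1 this).resolve_right hne
    · have : T 1 0 * (C 0 0 + C 1 1) = 0 := by
        rw [hd] at c10
        linear_combination c10 + T 1 0 * C 0 0 * h2
      exact (mul_eq_zero.1 this).resolve_right hne
  have := Cfsg.Agent.Lib.Helper61_SL2.sl2_sq_eq_one_of_trace_eq_zero c (by
    rw [Matrix.trace_fin_two]; exact htrC)
  rwa [pow_two] at this

/-- Subgroups of `SL(2,F)` in characteristic 2 are CIT groups. -/
theorem cit_subgroup (M : Subgroup SL(2, F)) : CIT ↥M := by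
  intro t ht
  have ht1 : (t : SL(2, F)) ≠ 1 := by
    intro h
    have : t = 1 := Subtype.ext h
    rw [this, orderOf_one] at ht
    norm_num at ht
  have htt : (t : SL(2, F)) * t = 1 := by
    have := pow_orderOf_eq_one t
    rw [ht, pow_two] at this
    exact congrArg Subtype.val this
  constructor
  · refine ⟨⟨fun a b => ?_⟩⟩
    apply Subtype.ext
    apply Subtype.ext
    have ha := Subgroup.mem_centralizer_singleton_iff.1 a.2
    have hb := Subgroup.mem_centralizer_singleton_iff.1 b.2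
    have ha' : (a.1 : SL(2, F)) * t = t * a.1 := (congrArg Subtype.val ha)
    have hb' : (b.1 : SL(2, F)) * t = t * b.1 := (congrArg Subtype.val hb)
    exact Cfsg.Agent.S4065.sl2_ca (t : SL(2, F)) ht1 a.1 b.1 ha' hb'
  · intro c hc
    have hc' := Subgroup.mem_centralizer_singleton_iff.1 hc
    have hc'' : (c : SL(2, F)) * t = t * c := congrArg Subtype.val hc'
    apply Subtype.ext
    rw [pow_two]
    exact sq_eq_one_of_commute (t : SL(2, F)) c htt ht1 hc''

end char2

/-- `x ↦ [[1,x],[0,1]]` as a homomorphism. -/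
def uuHom : Multiplicative F →* SL(2, F) where
  toFun x := uu (Multiplicative.toAdd x)
  map_one' := uu_zero
  map_mul' x y := (uu_mul _ _).symm

/-- The order of a subgroup of `SL(2,F)` (`F` finite of characteristic 2) containing
`[[1,1],[0,1]]`, `[[1,a],[0,1]]` (`a ≠ 0,1`) and `[[1,0],[1,1]]`. -/
theorem card_of_subgroup [Fintype F] [CharP F 2] (M : Subgroup SL(2, F)) (a : F) (ha0 : a ≠ 0)
    (ha1 : a ≠ 1) (h1 : uu 1 ∈ M) (ha : uu a ∈ M) (hl : ll 1 ∈ M) :
    ∃ m : ℕ, Nat.card M = 2 ^ m * ((2 ^ m) ^ 2 - 1) := by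
  classical
  have hC : CIT ↥M := cit_subgroup M
  -- the three elements in M
  let u1 : ↥M := ⟨uu 1, h1⟩
  let ua : ↥M := ⟨uu a, ha⟩
  let l1 : ↥M := ⟨ll 1, hl⟩
  have hu1sq : u1 * u1 = 1 := Subtype.ext (uu_sq 1)
  have huasq : ua * ua = 1 := Subtype.ext (uu_sq a)
  have hl1sq : l1 * l1 = 1 := Subtype.ext (ll_sq 1)
  have hcomm : u1 * ua = ua * u1 := by
    apply Subtype.ext
    show uu 1 * uu a = uu a * uu 1
    rw [uu_mul, uu_mul, add_comm]
  -- the 2-subgroup V of upper unitriangular elements of M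
  have hV : IsPGroup 2 ((uuHom (F := F)).range.subgroupOf M) := by
    rintro ⟨g, hg⟩
    refine ⟨1, ?_⟩
    apply Subtype.ext
    apply Subtype.ext
    show (g : SL(2, F)) ^ 2 ^ 1 = 1
    obtain ⟨x, hx⟩ := Subgroup.mem_subgroupOf.1 hg
    rw [pow_one, ← hx, pow_two]
    exact uu_sq (Multiplicative.toAdd x)
  obtain ⟨T, hVT⟩ := hV.exists_le_sylow
  have hu1T : u1 ∈ T := hVT (Subgroup.mem_subgroupOf.2 ⟨Multiplicative.ofAdd 1, rfl⟩)
  have huaT : ua ∈ T := hVT (Subgroup.mem_subgroupOf.2 ⟨Multiplicative.ofAdd a, rfl⟩)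
  have hu1ne : u1 ≠ 1 := by
    intro h
    have h' : uu (1 : F) = uu 0 := by rw [uu_zero]; exact congrArg Subtype.val h
    exact one_ne_zero (uu_injective h')
  have huane : ua ≠ 1 := by
    intro h
    have h' : uu a = uu 0 := by rw [uu_zero]; exact congrArg Subtype.val h
    exact ha0 (uu_injective h')
  have hu1a : u1 ≠ ua := by
    intro h
    have h' : uu (1 : F) = uu a := congrArg Subtype.val h
    exact ha1 (uu_injective h').symm
  -- T is not cyclic
  have hnc : ¬ IsCyclic (T : Subgroup ↥M) := by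
    intro hcyc
    obtain ⟨g, hg⟩ := hcyc.exists_generator
    have hg2 : g ^ 2 = 1 := by
      apply Subtype.ext
      exact sq_eq_one_of_mem hC T g.2
    have hall : ∀ x : (T : Subgroup ↥M), x = 1 ∨ x = g := by
      intro x
      obtain ⟨k, rfl⟩ := Subgroup.mem_zpowers_iff.1 (hg x)
      rcases Int.emod_two_eq_zero_or_one k with h | h
      · left
        obtain ⟨j, rfl⟩ : (2 : ℤ) ∣ k := Int.dvd_of_emod_eq_zero h
        rw [_root_.zpow_mul, zpow_ofNat, hg2, _root_.one_zpow]
      · right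
        have : k = 2 * (k / 2) + 1 := by omega
        rw [this, _root_.zpow_add, _root_.zpow_mul, zpow_ofNat, hg2, _root_.one_zpow, one_mul, zpow_one]
    have e1 := hall ⟨u1, hu1T⟩
    have e2 := hall ⟨ua, huaT⟩
    rcases e1 with e1 | e1
    · exact hu1ne (congrArg Subtype.val e1)
    · rcases e2 with e2 | e2
      · exact huane (congrArg Subtype.val e2)
      · exact hu1a (congrArg Subtype.val (e1.trans e2.symm))
  -- T is not normal
  have hnn : ¬ (T : Subgroup ↥M).Normal := by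
    intro hn
    have hL : IsPGroup 2 (Subgroup.zpowers l1) := by
      rintro ⟨g, hg⟩
      refine ⟨1, ?_⟩
      apply Subtype.ext
      show g ^ 2 ^ 1 = 1
      obtain ⟨k, rfl⟩ := Subgroup.mem_zpowers_iff.1 hg
      rw [pow_one, ← zpow_ofNat, ← _root_.zpow_mul, mul_comm, _root_.zpow_mul, zpow_ofNat, pow_two, hl1sq,
        _root_.one_zpow]
    obtain ⟨Q, hQ⟩ := hL.exists_le_sylow
    have hQT : Q = T := by
      have := Sylow.unique_of_normal T hn
      exact Subsingleton.elim _ _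
    have hl1T : l1 ∈ T := hQT ▸ hQ (Subgroup.mem_zpowers l1)
    have := commute_of_mem hC T hu1T hl1T
    exact not_commute_uu_ll (congrArg Subtype.val this)
  obtain ⟨F₀, hF₀, hFin, hcard, ⟨e⟩⟩ := exists_mulEquiv_SL hC T hnc hnn
  obtain ⟨m, hm⟩ := (T.2 : IsPGroup 2 (T : Subgroup ↥M)).exists_card_eq
  refine ⟨m, ?_⟩
  rw [Nat.card_congr e.toEquiv, Cfsg.Agent.Lib.Helper5_PSLCard.card_SL_two, hcard, hm]


theorem dvd_of_two_pow_sub_one_dvd (a b : ℕ) (h : 2 ^ a - 1 ∣ 2 ^ b - 1) : a ∣ b := by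
  have hg := Nat.pow_sub_one_gcd_pow_sub_one 2 a b
  rw [Nat.gcd_eq_left h] at hg
  have h1 : 2 ^ a = 2 ^ Nat.gcd a b := by
    have p1 : 1 ≤ 2 ^ a := Nat.one_le_two_pow
    have p2 : 1 ≤ 2 ^ Nat.gcd a b := Nat.one_le_two_pow
    omega
  have h2 : a = Nat.gcd a b := Nat.pow_right_injective (le_refl 2) h1
  rw [h2]
  exact Nat.gcd_dvd_right a b

theorem odd_two_pow_sq_sub_one (m : ℕ) (hm : 1 ≤ m) : Odd ((2 ^ m) ^ 2 - 1) := by
  have h1 : Even ((2 ^ m) ^ 2) := by
    rw [← pow_mul]
    exact (Nat.even_pow.2 ⟨even_two, by omega⟩)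
  have h2 : 1 ≤ (2 ^ m) ^ 2 := Nat.one_le_pow _ _ (by positivity)
  exact Nat.Even.sub_odd h2 h1 odd_one

/-- the arithmetic behind the maximality of `SL(2,q)` in `SL(2,q^r)`, `q` even. -/
theorem arith (e r m : ℕ) (he : 1 ≤ e) (hm1 : 1 ≤ m) (hr : r.Prime)
    (h1 : 2 ^ e * ((2 ^ e) ^ 2 - 1) ∣ 2 ^ m * ((2 ^ m) ^ 2 - 1))
    (h2 : 2 ^ m * ((2 ^ m) ^ 2 - 1) ∣ 2 ^ (e * r) * ((2 ^ (e * r)) ^ 2 - 1)) :
    m = e ∨ m = e * r := by
  have hr2 := hr.two_le
  have hcop : ∀ a b : ℕ, 1 ≤ b → Nat.Coprime ((2 ^ b) ^ 2 - 1) (2 ^ a) := by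
    intro a b hb
    apply Nat.Coprime.pow_right
    rw [Nat.coprime_comm, Nat.prime_two.coprime_iff_not_dvd]
    intro hd
    have := odd_two_pow_sq_sub_one b hb
    rw [← Nat.not_even_iff_odd] at this
    exact this (even_iff_two_dvd.2 hd)
  have d1 : (2 ^ e) ^ 2 - 1 ∣ (2 ^ m) ^ 2 - 1 :=
    (hcop m e he).dvd_of_dvd_mul_left ((dvd_mul_left _ _).trans h1)
  have d2 : (2 ^ m) ^ 2 - 1 ∣ (2 ^ (e * r)) ^ 2 - 1 :=
    (hcop (e * r) m hm1).dvd_of_dvd_mul_left ((dvd_mul_left _ _).trans h2)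
  rw [← pow_mul, ← pow_mul] at d1 d2
  have k1 := dvd_of_two_pow_sub_one_dvd _ _ d1
  have k2 := dvd_of_two_pow_sub_one_dvd _ _ d2
  have k1' : e ∣ m := (Nat.mul_dvd_mul_iff_right (by norm_num : 0 < 2)).1 k1
  have k2' : m ∣ e * r := (Nat.mul_dvd_mul_iff_right (by norm_num : 0 < 2)).1 k2
  obtain ⟨j, rfl⟩ := k1'
  have hj : j ∣ r := (Nat.mul_dvd_mul_iff_left (by omega : 0 < e)).1 k2'
  rcases (Nat.dvd_prime hr).1 hj with rfl | rfl
  · left; ring
  · right; rfl


section subfield
universe v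
variable {K : Type v} [Field K]

theorem map_uu (ι : K →+* F) (x : K) : Matrix.SpecialLinearGroup.map ι (uu x) = uu (ι x) := by
  apply Subtype.ext
  rw [Matrix.SpecialLinearGroup.map_apply_coe, RingHom.mapMatrix_apply, uu_val, uu_val]
  ext i j
  fin_cases i <;> fin_cases j <;> simp

theorem map_ll (ι : K →+* F) (x : K) : Matrix.SpecialLinearGroup.map ι (ll x) = ll (ι x) := by
  apply Subtype.ext
  rw [Matrix.SpecialLinearGroup.map_apply_coe, RingHom.mapMatrix_apply, ll_val, ll_val]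
  ext i j
  fin_cases i <;> fin_cases j <;> simp

theorem map_injective (ι : K →+* F) :
    Function.Injective (Matrix.SpecialLinearGroup.map (n := Fin 2) ι) := by
  intro A B h
  apply Subtype.ext
  ext i j
  have := congrArg (fun g : SL(2, F) => (g : Matrix (Fin 2) (Fin 2) F) i j) h
  simp only [Matrix.SpecialLinearGroup.map_apply_coe, RingHom.mapMatrix_apply,
    Matrix.map_apply] at this
  exact ι.injective this

/-- `SL(2,K)` is a maximal subgroup of `SL(2,F)` when `F/K` has prime degree, characteristic 2,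
`|K| > 2`. -/
theorem isCoatom_range_map [Fintype F] [Fintype K] [CharP F 2] (ι : K →+* F)
    (e r : ℕ) (he : 1 ≤ e) (hKc : Fintype.card K = 2 ^ e) (hK3 : 3 ≤ Fintype.card K)
    (hFc : Fintype.card F = 2 ^ (e * r)) (hr : r.Prime) :
    IsCoatom (Matrix.SpecialLinearGroup.map (n := Fin 2) ι).range := by
  classical
  set H' := (Matrix.SpecialLinearGroup.map (n := Fin 2) ι).range with hH'
  have hr2 := hr.two_le
  -- cardinalities
  have cG : Nat.card SL(2, F) = 2 ^ (e * r) * ((2 ^ (e * r)) ^ 2 - 1) := by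
    rw [Cfsg.Agent.Lib.Helper5_PSLCard.card_SL_two, hFc]
  have cH : Nat.card H' = 2 ^ e * ((2 ^ e) ^ 2 - 1) := by
    have e1 : SL(2, K) ≃ H' :=
      (MonoidHom.ofInjective (map_injective ι)).toEquiv
    rw [← Nat.card_congr e1, Cfsg.Agent.Lib.Helper5_PSLCard.card_SL_two, hKc]
  have hlt : 2 ^ e < 2 ^ (e * r) := by
    apply Nat.pow_lt_pow_right (by norm_num)
    nlinarith
  have hposH : 0 < (2 ^ e) ^ 2 - 1 := by
    have : 2 ^ 1 ≤ 2 ^ e := Nat.pow_le_pow_right (by norm_num) he
    have : 4 ≤ (2 ^ e) ^ 2 := by nlinarith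
    omega
  have hcardlt : Nat.card H' < Nat.card SL(2, F) := by
    rw [cG, cH]
    have h1 : (2 ^ e) ^ 2 < (2 ^ (e * r)) ^ 2 := Nat.pow_lt_pow_left hlt (by norm_num)
    have h2 : (2 ^ e) ^ 2 - 1 < (2 ^ (e * r)) ^ 2 - 1 := by omega
    exact Nat.mul_lt_mul_of_lt_of_lt hlt h2
  -- an element a ≠ 0, 1 of K
  obtain ⟨a, ha0, ha1⟩ : ∃ a : K, a ≠ 0 ∧ a ≠ 1 := by
    by_contra hcon
    push Not at hcon
    have : Fintype.card K ≤ 2 := by
      have hsub : (Finset.univ : Finset K) ⊆ {0, 1} := by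
        intro x _
        by_cases hx : x = 0
        · simp [hx]
        · simp [hcon x hx]
      calc Fintype.card K = (Finset.univ : Finset K).card := rfl
        _ ≤ ({0, 1} : Finset K).card := Finset.card_le_card hsub
        _ ≤ 2 := Finset.card_le_two
    omega
  constructor
  · intro htop
    rw [htop] at hcardlt
    have : Nat.card (⊤ : Subgroup SL(2, F)) = Nat.card SL(2, F) := Subgroup.card_top
    omega
  · intro M hM
    have hle : H' ≤ M := le_of_lt hM
    have h1 : uu (1 : F) ∈ M := hle ⟨uu 1, by rw [map_uu, map_one]⟩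
    have ha : uu (ι a) ∈ M := hle ⟨uu a, map_uu ι a⟩
    have hl : ll (1 : F) ∈ M := hle ⟨ll 1, by rw [map_ll, map_one]⟩
    have hιa0 : ι a ≠ 0 := fun h => ha0 (ι.injective (by rw [h, map_zero]))
    have hιa1 : ι a ≠ 1 := fun h => ha1 (ι.injective (by rw [h, map_one]))
    obtain ⟨m, hm⟩ := card_of_subgroup M (ι a) hιa0 hιa1 h1 ha hl
    have hm1 : 1 ≤ m := by
      by_contra hcon
      have hm0 : m = 0 := by omega
      have h0 : Nat.card M = 0 := by rw [hm, hm0]; norm_num
      have : 0 < Nat.card M := Nat.card_pos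
      omega
    have d1 : 2 ^ e * ((2 ^ e) ^ 2 - 1) ∣ 2 ^ m * ((2 ^ m) ^ 2 - 1) := by
      rw [← cH, ← hm]
      exact Subgroup.card_dvd_of_le hle
    have d2 : 2 ^ m * ((2 ^ m) ^ 2 - 1) ∣ 2 ^ (e * r) * ((2 ^ (e * r)) ^ 2 - 1) := by
      rw [← cG, ← hm]
      exact Subgroup.card_subgroup_dvd_card M
    rcases arith e r m he hm1 hr d1 d2 with rfl | rfl
    · exfalso
      have : H' = M := Subgroup.eq_of_le_of_card_ge hle (by rw [hm, cH])
      exact (ne_of_lt hM) this
    · exact Subgroup.eq_top_of_card_eq M (by rw [hm, cG])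


end subfield

end Cfsg.Agent.Lib.Helper99_SL2Even
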