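import Mathlib
import Cfsg.Agent.Lib.Helper99_SL2Even
import Cfsg.Agent.Lib.Helper50_CTClass
import Cfsg.Agent.Lib.Helper41_SL2Torus
import Cfsg.Agent.Lib.Helper4_DihedralIso
import Cfsg.Agent.S0262
import Cfsg.Agent.S2302
import Cfsg.Agent.S2437

/-!
Subgroup structure of `SL(2,F)`, `F` a finite field of characteristic 2 (helper99):
centralizers of elements of odd order (tori), their normalizers (dihedral), odd-order subgroups
are abelian, subgroups with a normal Sylow 2-subgroup lie in a Borel subgroup.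
-/

set_option autoImplicit false

namespace Cfsg.Agent.Lib.Helper99_SL2EvenSub

open Matrix
open scoped MatrixGroups
open Cfsg.Agent.Lib.Helper99_SL2Even

variable {F : Type*} [Field F]

/-- A matrix commuting with a non-scalar `2 × 2` matrix `x` is of the form `l x + m`. -/
theorem comm_form (x y : Matrix (Fin 2) (Fin 2) F)
    (hx : ¬ (x 0 1 = 0 ∧ x 1 0 = 0 ∧ x 0 0 - x 1 1 = 0)) (hy : y * x = x * y) :
    ∃ l m : F, y = l • x + m • (1 : Matrix (Fin 2) (Fin 2) F) := by
  have h01 := congrFun (congrFun hy 0) 1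
  have h10 := congrFun (congrFun hy 1) 0
  have h00 := congrFun (congrFun hy 0) 0
  simp only [Matrix.mul_apply, Fin.sum_univ_two] at h01 h10 h00
  obtain ⟨l, hl1, hl2, hl3⟩ := Cfsg.Agent.S4065.parallel (x 0 1) (x 1 0) (x 0 0 - x 1 1)
    (y 0 1) (y 1 0) (y 0 0 - y 1 1) hx
    (by linear_combination h00) (by linear_combination -h01) (by linear_combination h10)
  refine ⟨l, y 1 1 - l * x 1 1, ?_⟩
  ext i j
  fin_cases i <;> fin_cases j <;> simp
  · linear_combination hl3
  · exact hl1
  · exact hl2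

section char2

variable [CharP F 2]

theorem two_eq_zero : (2 : F) = 0 := CharTwo.two_eq_zero

omit [CharP F 2] in
/-- The trace of `x⁻¹` is the trace of `x`. -/
theorem trace_inv (x : SL(2, F)) :
    Matrix.trace ((x⁻¹ : SL(2, F)) : Matrix (Fin 2) (Fin 2) F) =
      Matrix.trace (x : Matrix (Fin 2) (Fin 2) F) := by
  rw [Matrix.SpecialLinearGroup.coe_inv, Matrix.adjugate_fin_two, Matrix.trace_fin_two,
    Matrix.trace_fin_two]
  simp [add_comm]

/-- In characteristic 2, `x⁻¹ = x + tr x`. -/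
theorem coe_inv_eq (x : SL(2, F)) :
    ((x⁻¹ : SL(2, F)) : Matrix (Fin 2) (Fin 2) F) =
      (x : Matrix (Fin 2) (Fin 2) F) +
        Matrix.trace (x : Matrix (Fin 2) (Fin 2) F) • (1 : Matrix (Fin 2) (Fin 2) F) := by
  have h2 : (2 : F) = 0 := two_eq_zero
  rw [Matrix.SpecialLinearGroup.coe_inv, Matrix.adjugate_fin_two, Matrix.trace_fin_two]
  ext i j
  fin_cases i <;> fin_cases j <;> simp
  · linear_combination (-(x : Matrix (Fin 2) (Fin 2) F) 0 0) * h2
  · linear_combination (-(x : Matrix (Fin 2) (Fin 2) F) 0 1) * h2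
  · linear_combination (-(x : Matrix (Fin 2) (Fin 2) F) 1 0) * h2
  · linear_combination (-(x : Matrix (Fin 2) (Fin 2) F) 1 1) * h2

/-- The trace of the identity is zero. -/
theorem trace_one_eq_zero :
    Matrix.trace ((1 : SL(2, F)) : Matrix (Fin 2) (Fin 2) F) = 0 := by
  have h2 : (2 : F) = 0 := two_eq_zero
  rw [Matrix.SpecialLinearGroup.coe_one, Matrix.trace_fin_two]
  simp
  linear_combination h2

/-- An element commuting with `x` (of nonzero trace) and of the same trace is `x` or `x⁻¹`. -/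
theorem eq_or_eq_inv_of_commute (x y : SL(2, F))
    (hτ : Matrix.trace (x : Matrix (Fin 2) (Fin 2) F) ≠ 0) (hc : y * x = x * y)
    (ht : Matrix.trace (y : Matrix (Fin 2) (Fin 2) F) =
      Matrix.trace (x : Matrix (Fin 2) (Fin 2) F)) : y = x ∨ y = x⁻¹ := by
  have h2 : (2 : F) = 0 := two_eq_zero
  have hx1 : x ≠ 1 := by
    rintro rfl
    exact hτ trace_one_eq_zero
  have hc' : (y : Matrix (Fin 2) (Fin 2) F) * x = x * y := by
    have := congrArg Subtype.val hc
    simpa using this
  obtain ⟨l, m, hlm⟩ := comm_form (x : Matrix (Fin 2) (Fin 2) F) y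
    (Cfsg.Agent.S4065.nonscalar_of_ne_one x hx1) hc'
  set τ := Matrix.trace (x : Matrix (Fin 2) (Fin 2) F) with hτdef
  have htr : Matrix.trace (y : Matrix (Fin 2) (Fin 2) F) = l * τ := by
    rw [hlm, Matrix.trace_add, Matrix.trace_smul, Matrix.trace_smul, Matrix.trace_one]
    simp
    linear_combination m * h2
  have hl : l = 1 := by
    rw [ht] at htr
    have : (l - 1) * τ = 0 := by linear_combination -htr
    rcases mul_eq_zero.1 this with h | h
    · linear_combination h
    · exact absurd h hτ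
  subst hl
  have hdet : (y : Matrix (Fin 2) (Fin 2) F).det = 1 := y.2
  rw [hlm, add_comm, Cfsg.Agent.Lib.Helper41_SL2Conj.det_add_smul, ← hτdef] at hdet
  have hm : m * (m + τ) = 0 := by linear_combination hdet
  rcases mul_eq_zero.1 hm with h | h
  · left
    apply Subtype.ext
    rw [hlm, h]
    simp
  · right
    apply Subtype.ext
    have hm' : m = τ := by linear_combination h - τ * h2
    rw [hlm, coe_inv_eq, hm', one_smul]

/-- A nontrivial element of odd order has nonzero trace. -/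
theorem trace_ne_zero_of_odd (x : SL(2, F)) (hx : x ≠ 1) (hodd : Odd (orderOf x)) :
    Matrix.trace (x : Matrix (Fin 2) (Fin 2) F) ≠ 0 := by
  intro h
  have h2 := Cfsg.Agent.Lib.Helper61_SL2.sl2_sq_eq_one_of_trace_eq_zero x h
  have hd : orderOf x ∣ 2 := orderOf_dvd_of_pow_eq_one h2
  have h1 : orderOf x = 1 := by
    rcases (Nat.dvd_prime Nat.prime_two).1 hd with h | h
    · exact h
    · rw [h] at hodd
      exact absurd hodd (by decide)
  exact hx (orderOf_eq_one_iff.1 h1)

/-- `tr (x²) = (tr x)²`. -/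
theorem trace_sq (x : SL(2, F)) :
    Matrix.trace ((x ^ 2 : SL(2, F)) : Matrix (Fin 2) (Fin 2) F) =
      Matrix.trace (x : Matrix (Fin 2) (Fin 2) F) ^ 2 := by
  have h2 : (2 : F) = 0 := two_eq_zero
  rw [pow_two, Matrix.SpecialLinearGroup.coe_mul, Cfsg.Agent.Lib.Helper61_SL2.sl2_sq,
    Matrix.trace_sub, Matrix.trace_smul, Matrix.trace_one]
  simp
  linear_combination (-1 : F) * h2

/-- `tr (x ^ (2 ^ k)) = (tr x) ^ (2 ^ k)`. -/
theorem trace_pow_two_pow (x : SL(2, F)) (k : ℕ) :
    Matrix.trace ((x ^ (2 ^ k) : SL(2, F)) : Matrix (Fin 2) (Fin 2) F) =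
      Matrix.trace (x : Matrix (Fin 2) (Fin 2) F) ^ (2 ^ k) := by
  induction k with
  | zero => simp
  | succ k ih =>
    rw [pow_succ, pow_mul, trace_sq, ih, ← pow_mul]


/-! ### Centralizers of elements of odd order -/

open Cfsg.Agent.Lib.Helper50_CTClass in
/-- `SL(2,F)` is a CT-group (characteristic 2). -/
theorem ct_sl2 : CT (⊥ : Subgroup SL(2, F)) where
  central := by
    intro z hz g
    rw [Subgroup.mem_bot] at hz
    subst hz
    exact Commute.one_left g
  trans := by
    intro x y w hy hxy hyw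
    have hy1 : y ≠ 1 := fun h => hy (by rw [h]; exact Subgroup.one_mem _)
    exact Cfsg.Agent.S4065.sl2_ca y hy1 x w hxy.eq hyw.eq.symm

theorem mem_cent_iff (x c : SL(2, F)) :
    c ∈ Subgroup.centralizer ({x} : Set SL(2, F)) ↔ c * x = x * c :=
  Subgroup.mem_centralizer_singleton_iff

theorem self_mem_cent (x : SL(2, F)) : x ∈ Subgroup.centralizer ({x} : Set SL(2, F)) :=
  (mem_cent_iff x x).2 rfl

/-- Centralizers of nontrivial elements are abelian. -/
theorem cent_comm (x : SL(2, F)) (hx : x ≠ 1) (a b : SL(2, F))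
    (ha : a ∈ Subgroup.centralizer ({x} : Set SL(2, F)))
    (hb : b ∈ Subgroup.centralizer ({x} : Set SL(2, F))) : a * b = b * a :=
  Cfsg.Agent.S4065.sl2_ca x hx a b ((mem_cent_iff x a).1 ha) ((mem_cent_iff x b).1 hb)

/-- The centralizer of a nontrivial element of the centralizer of `x` is the centralizer of `x`. -/
theorem cent_eq_of_mem (x c : SL(2, F)) (hx : x ≠ 1) (hc1 : c ≠ 1)
    (hc : c ∈ Subgroup.centralizer ({x} : Set SL(2, F))) :
    Subgroup.centralizer ({c} : Set SL(2, F)) = Subgroup.centralizer ({x} : Set SL(2, F)) := by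
  have hcx : c * x = x * c := (mem_cent_iff x c).1 hc
  ext g
  rw [mem_cent_iff, mem_cent_iff]
  constructor
  · intro h
    -- g and x commute with c
    have := Cfsg.Agent.S4065.sl2_ca c hc1 g x h hcx.symm
    exact this
  · intro h
    exact Cfsg.Agent.S4065.sl2_ca x hx g c h hcx

/-- The centralizer of a nontrivial element of odd order contains no involution. -/
theorem eq_one_of_sq_of_mem_cent (x : SL(2, F)) (hx : x ≠ 1) (hodd : Odd (orderOf x))
    (c : SL(2, F)) (hc : c ∈ Subgroup.centralizer ({x} : Set SL(2, F))) (hcc : c * c = 1) :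
    c = 1 := by
  by_contra hc1
  have hxc : x * c = c * x := ((mem_cent_iff x c).1 hc).symm
  have hxx := sq_eq_one_of_commute c x hcc hc1 hxc
  have hd : orderOf x ∣ 2 := orderOf_dvd_of_pow_eq_one (by rw [pow_two]; exact hxx)
  have h1 : orderOf x = 1 := by
    rcases (Nat.dvd_prime Nat.prime_two).1 hd with h | h
    · exact h
    · rw [h] at hodd
      exact absurd hodd (by decide)
  exact hx (orderOf_eq_one_iff.1 h1)

/-- The centralizer of a nontrivial element of odd order has odd order. -/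
theorem odd_card_cent [Finite F] (x : SL(2, F)) (hx : x ≠ 1) (hodd : Odd (orderOf x)) :
    Odd (Nat.card (Subgroup.centralizer ({x} : Set SL(2, F)))) := by
  by_contra h
  rw [Nat.not_odd_iff_even] at h
  haveI : Fact (Nat.Prime 2) := ⟨Nat.prime_two⟩
  obtain ⟨c, hc⟩ := exists_prime_orderOf_dvd_card' (G := Subgroup.centralizer ({x} : Set SL(2, F)))
    2 h.two_dvd
  have hcc : (c : SL(2, F)) * c = 1 := by
    have := pow_orderOf_eq_one c
    rw [hc, pow_two] at this
    exact congrArg Subtype.val this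
  have := eq_one_of_sq_of_mem_cent x hx hodd c c.2 hcc
  have hc1 : c = 1 := Subtype.ext this
  rw [hc1, orderOf_one] at hc
  norm_num at hc

/-- An element normalizing the centralizer of `x` centralizes or inverts `x`. -/
theorem conj_eq_or_inv (x k : SL(2, F))
    (hτ : Matrix.trace (x : Matrix (Fin 2) (Fin 2) F) ≠ 0)
    (hk : k ∈ Subgroup.normalizer
      ((Subgroup.centralizer ({x} : Set SL(2, F)) : Subgroup SL(2, F)) : Set SL(2, F))) :
    k * x * k⁻¹ = x ∨ k * x * k⁻¹ = x⁻¹ := by
  have h1 : k * x * k⁻¹ ∈ Subgroup.centralizer ({x} : Set SL(2, F)) :=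
    (Subgroup.mem_normalizer_iff.1 hk x).1 (self_mem_cent x)
  exact eq_or_eq_inv_of_commute x (k * x * k⁻¹) hτ ((mem_cent_iff x _).1 h1)
    (Cfsg.Agent.Lib.Helper41_SL2Torus.trace_conj k x)

open Cfsg.Agent.Lib.Helper50_CTClass in
/-- An element inverting `x` normalizes the centralizer of `x`. -/
theorem mem_normalizer_of_inv (x k : SL(2, F)) (hx : x ≠ 1) (hk : k * x * k⁻¹ = x⁻¹) :
    k ∈ Subgroup.normalizer
      ((Subgroup.centralizer ({x} : Set SL(2, F)) : Subgroup SL(2, F)) : Set SL(2, F)) := by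
  apply ct_sl2.mem_normalizer (x := x) (by rw [Subgroup.mem_bot]; exact hx)
  rw [hk]
  exact (Commute.refl x).inv_left

/-- Some element inverts `x`. -/
theorem exists_inverting [Fintype F] (x : SL(2, F))
    (hτ : Matrix.trace (x : Matrix (Fin 2) (Fin 2) F) ≠ 0) :
    ∃ k : SL(2, F), k * x * k⁻¹ = x⁻¹ := by
  have h2 : (2 : F) = 0 := two_eq_zero
  obtain ⟨U, hU⟩ := Cfsg.Agent.Lib.Helper41_SL2Conj.conj_of_trace_eq x⁻¹ x (trace_inv x) (by
    intro h
    apply hτ
    have : Matrix.trace (x : Matrix (Fin 2) (Fin 2) F) ^ 2 = 0 := by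
      rw [h]; linear_combination 2 * h2
    exact pow_eq_zero_iff (two_ne_zero) |>.1 this)
  exact ⟨U, hU.symm⟩

/-- The normalizer of the centralizer of a nontrivial element of odd order has twice its order. -/
theorem card_normalizer_cent [Fintype F] (x : SL(2, F)) (hx : x ≠ 1) (hodd : Odd (orderOf x)) :
    Nat.card (Subgroup.normalizer
      ((Subgroup.centralizer ({x} : Set SL(2, F)) : Subgroup SL(2, F)) : Set SL(2, F))) =
      2 * Nat.card (Subgroup.centralizer ({x} : Set SL(2, F))) := by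
  have hτ := trace_ne_zero_of_odd x hx hodd
  set C := Subgroup.centralizer ({x} : Set SL(2, F)) with hC
  set N := Subgroup.normalizer ((C : Subgroup SL(2, F)) : Set SL(2, F)) with hN
  have hinv : ∀ g ∈ N, g ∉ C → g * x * g⁻¹ = x⁻¹ := by
    intro g hg hgC
    rcases conj_eq_or_inv x g hτ hg with h | h
    · exfalso
      apply hgC
      rw [hC, mem_cent_iff]
      calc g * x = g * x * g⁻¹ * g := by group
        _ = x * g := by rw [h]
    · exact h
  rcases Cfsg.Agent.Lib.Helper50_CTClass.card_eq_or_two_mul C N Subgroup.le_normalizer (by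
    intro g k hg hk hgC hkC
    have h1 := hinv g hg hgC
    have h2 := hinv k hk hkC
    rw [hC, mem_cent_iff]
    have h3 : g⁻¹ * x⁻¹ * g = x := by rw [← h1]; group
    calc g⁻¹ * k * x = g⁻¹ * (k * x * k⁻¹) * k := by group
      _ = g⁻¹ * x⁻¹ * g * (g⁻¹ * k) := by rw [h2]; group
      _ = x * (g⁻¹ * k) := by rw [h3]) with h | h
  · exfalso
    obtain ⟨U, hU⟩ := exists_inverting x hτ
    have hUN : U ∈ N := mem_normalizer_of_inv x U hx hU
    have hCN : C = N := Subgroup.eq_of_le_of_card_ge Subgroup.le_normalizer (le_of_eq h)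
    have hUC : U ∈ C := hCN ▸ hUN
    have h3 : U * x = x * U := (mem_cent_iff x U).1 hUC
    have h4 : x⁻¹ = x := by
      rw [← hU, h3]; group
    have h5 : x * x = 1 := by
      nth_rewrite 1 [← h4]
      exact inv_mul_cancel x
    have h6 := eq_one_of_sq_of_mem_cent x hx hodd x (self_mem_cent x) h5
    exact hx h6
  · exact h


/-! ### The centralizer of an element of odd order is a torus -/

/-- The centralizer of a diagonal element with distinct eigenvalues is the split torus. -/
theorem cent_tor (r : Fˣ) (hr : (r : F) ≠ ((r⁻¹ : Fˣ) : F)) :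
    Subgroup.centralizer ({Cfsg.Agent.S0262.tor r} : Set SL(2, F)) =
      (Cfsg.Agent.S0262.torusHom : Fˣ →* SL(2, F)).range := by
  ext g
  rw [mem_cent_iff]
  constructor
  · intro h
    have h' : (g : Matrix (Fin 2) (Fin 2) F) * Cfsg.Agent.S0262.tor r =
        (Cfsg.Agent.S0262.tor r : Matrix (Fin 2) (Fin 2) F) * g := by
      have := congrArg Subtype.val h
      simpa using this
    rw [Cfsg.Agent.S0262.tor_coe] at h'
    have h01 := congrFun (congrFun h' 0) 1
    have h10 := congrFun (congrFun h' 1) 0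
    simp [Matrix.mul_apply, Fin.sum_univ_two] at h01 h10
    have hne : (r : F) - ((r⁻¹ : Fˣ) : F) ≠ 0 := sub_ne_zero.2 hr
    have g01 : (g : Matrix (Fin 2) (Fin 2) F) 0 1 = 0 := by
      have : (g : Matrix (Fin 2) (Fin 2) F) 0 1 * ((r : F) - ((r⁻¹ : Fˣ) : F)) = 0 := by
        rw [Units.val_inv_eq_inv_val]
        linear_combination -h01
      exact (mul_eq_zero.1 this).resolve_right hne
    have g10 : (g : Matrix (Fin 2) (Fin 2) F) 1 0 = 0 := by
      have : (g : Matrix (Fin 2) (Fin 2) F) 1 0 * ((r : F) - ((r⁻¹ : Fˣ) : F)) = 0 := by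
        rw [Units.val_inv_eq_inv_val]
        linear_combination h10
      exact (mul_eq_zero.1 this).resolve_right hne
    have hdet := g.2
    rw [Matrix.det_fin_two, g01, g10] at hdet
    have h00 : (g : Matrix (Fin 2) (Fin 2) F) 0 0 ≠ 0 := by
      intro h0
      rw [h0] at hdet
      simp at hdet
    refine ⟨Units.mk0 _ h00, ?_⟩
    apply Subtype.ext
    show (Cfsg.Agent.S0262.tor (Units.mk0 _ h00) : Matrix (Fin 2) (Fin 2) F) = g
    rw [Cfsg.Agent.S0262.tor_coe]
    ext i j
    fin_cases i <;> fin_cases j <;> simp [g01, g10]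
    field_simp
    linear_combination -hdet
  · rintro ⟨a, rfl⟩
    show Cfsg.Agent.S0262.torusHom a * Cfsg.Agent.S0262.torusHom r =
      Cfsg.Agent.S0262.torusHom r * Cfsg.Agent.S0262.torusHom a
    rw [← map_mul, ← map_mul, mul_comm]


omit [CharP F 2] in
/-- Centralizers of conjugate elements are isomorphic. -/
theorem cent_conj_equiv (y U : SL(2, F)) :
    Nonempty (Subgroup.centralizer ({y} : Set SL(2, F)) ≃*
      Subgroup.centralizer ({U * y * U⁻¹} : Set SL(2, F))) := by
  have e1 := (Subgroup.centralizer ({y} : Set SL(2, F))).equivMapOfInjective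
    (MulAut.conj U).toMonoidHom (MulAut.conj U).injective
  exact ⟨e1.trans (MulEquiv.subgroupCongr
    (Cfsg.Agent.Lib.Helper21_BSW.map_conj_centralizer U y))⟩

open Cfsg.Agent.Lib.Helper41_SL2 Cfsg.Agent.Lib.Helper41_SL2Torus in
/-- The centralizer of a nontrivial element of odd order is cyclic of order `q - 1` or `q + 1`. -/
theorem cent_structure [Fintype F] (x : SL(2, F)) (hx : x ≠ 1) (hodd : Odd (orderOf x)) :
    IsCyclic (Subgroup.centralizer ({x} : Set SL(2, F))) ∧
    (Nat.card (Subgroup.centralizer ({x} : Set SL(2, F))) = Fintype.card F - 1 ∨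
     Nat.card (Subgroup.centralizer ({x} : Set SL(2, F))) = Fintype.card F + 1) := by
  have h2 : (2 : F) = 0 := two_eq_zero
  have hτ := trace_ne_zero_of_odd x hx hodd
  set τ := Matrix.trace (x : Matrix (Fin 2) (Fin 2) F) with hτdef
  have hτ4 : τ ^ 2 ≠ 4 := by
    intro h
    apply hτ
    have : τ ^ 2 = 0 := by rw [h]; linear_combination 2 * h2
    exact pow_eq_zero_iff (two_ne_zero) |>.1 this
  by_cases hroot : ∃ r : F, r ^ 2 = -1 + τ * r
  · obtain ⟨r, hr⟩ := hroot
    have hr0 : r ≠ 0 := by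
      rintro rfl
      have : (1 : F) = 0 := by linear_combination hr
      exact one_ne_zero this
    set ru : Fˣ := Units.mk0 r hr0 with hru
    have hrinv : ((ru⁻¹ : Fˣ) : F) = τ - r := by
      rw [Units.val_inv_eq_inv_val, hru, Units.val_mk0]
      field_simp
      linear_combination hr
    have htr : Matrix.trace (x : Matrix (Fin 2) (Fin 2) F) =
        Matrix.trace (Cfsg.Agent.S0262.tor ru : Matrix (Fin 2) (Fin 2) F) := by
      have h3 : Matrix.trace (Cfsg.Agent.S0262.tor ru : Matrix (Fin 2) (Fin 2) F) =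
          (ru : F) + ((ru⁻¹ : Fˣ) : F) := by
        rw [Cfsg.Agent.S0262.tor_coe, Matrix.trace_fin_two]
        simp
      rw [h3, hrinv, hru, Units.val_mk0]
      ring
    obtain ⟨U, hU⟩ := Cfsg.Agent.Lib.Helper41_SL2Conj.conj_of_trace_eq x
      (Cfsg.Agent.S0262.tor ru) htr (by rw [← htr]; exact hτ4)
    have hne : (ru : F) ≠ ((ru⁻¹ : Fˣ) : F) := by
      rw [hrinv, hru, Units.val_mk0]
      intro h
      apply hτ
      linear_combination -h + r * h2
    obtain ⟨e⟩ := cent_conj_equiv (Cfsg.Agent.S0262.tor ru) U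
    rw [← hU, cent_tor ru hne] at e
    constructor
    · exact isCyclic_of_surjective e e.surjective
    · left
      rw [← Nat.card_congr e.toEquiv, Cfsg.Agent.S0262.card_torus]
  · push Not at hroot
    obtain ⟨a, ha⟩ := exists_no_root (F := F)
    haveI : Fact (∀ r : F, r ^ 2 ≠ a + 1 * r) := ⟨ha⟩
    obtain ⟨z, hz, htrz⟩ := exists_norm_one_trace a 1 τ hroot
    set g₀ := torusElt a 1 z hz with hg₀
    have hg₀coe : (g₀ : Matrix (Fin 2) (Fin 2) F) = toMat a 1 z := rfl
    have htr : Matrix.trace (x : Matrix (Fin 2) (Fin 2) F) =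
        Matrix.trace (g₀ : Matrix (Fin 2) (Fin 2) F) := by
      rw [hg₀coe, trace_toMat, htrz]
    obtain ⟨U, hU⟩ := Cfsg.Agent.Lib.Helper41_SL2Conj.conj_of_trace_eq x g₀ htr
      (by rw [← htr]; exact hτ4)
    have h1 : (g₀ : Matrix (Fin 2) (Fin 2) F) ≠ 1 := by
      intro h
      apply hτ
      rw [hτdef, htr, h, Matrix.trace_one]
      simp
      exact h2
    have h1' : (g₀ : Matrix (Fin 2) (Fin 2) F) ≠ -1 := by
      rw [Cfsg.Agent.Lib.Helper61_SL2.neg_one_eq_one_mat]
      exact h1
    have hcent := centralizer_eq a 1 g₀ (torusElt_mem a 1 z hz) h1 h1'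
    obtain ⟨e⟩ := cent_conj_equiv g₀ U
    rw [← hU, hcent] at e
    constructor
    · haveI := isCyclic_nsTorus (F := F) a 1
      exact isCyclic_of_surjective e e.surjective
    · right
      rw [← Nat.card_congr e.toEquiv, card_nsTorus]


/-- Elements of the normalizer outside the centralizer invert the centralizer. -/
theorem inverts_of_mem_normalizer (x : SL(2, F)) (hx : x ≠ 1) (hodd : Odd (orderOf x))
    [Finite F] (k : SL(2, F))
    (hk : k ∈ Subgroup.normalizer
      ((Subgroup.centralizer ({x} : Set SL(2, F)) : Subgroup SL(2, F)) : Set SL(2, F)))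
    (hkC : k ∉ Subgroup.centralizer ({x} : Set SL(2, F))) (y : SL(2, F))
    (hy : y ∈ Subgroup.centralizer ({x} : Set SL(2, F))) : k * y * k⁻¹ = y⁻¹ := by
  by_cases hy1 : y = 1
  · subst hy1; group
  have hcy := cent_eq_of_mem x y hx hy1 hy
  have hyodd : Odd (orderOf y) := by
    have h1 : orderOf y ∣ Nat.card (Subgroup.centralizer ({x} : Set SL(2, F))) := by
      have := orderOf_dvd_natCard (⟨y, hy⟩ : Subgroup.centralizer ({x} : Set SL(2, F)))
      rwa [Subgroup.orderOf_mk] at this
    exact (odd_card_cent x hx hodd).of_dvd_nat h1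
  have hτy := trace_ne_zero_of_odd y hy1 hyodd
  have hk' : k ∈ Subgroup.normalizer
      ((Subgroup.centralizer ({y} : Set SL(2, F)) : Subgroup SL(2, F)) : Set SL(2, F)) := by
    rw [hcy]; exact hk
  rcases conj_eq_or_inv y k hτy hk' with h | h
  · exfalso
    apply hkC
    rw [← hcy, mem_cent_iff]
    calc k * y = k * y * k⁻¹ * k := by group
      _ = y * k := by rw [h]
  · exact h

/-- Elements of the normalizer outside the centralizer are involutions. -/
theorem sq_eq_one_of_mem_normalizer (x : SL(2, F)) (hx : x ≠ 1) (hodd : Odd (orderOf x))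
    [Finite F] (k : SL(2, F))
    (hk : k ∈ Subgroup.normalizer
      ((Subgroup.centralizer ({x} : Set SL(2, F)) : Subgroup SL(2, F)) : Set SL(2, F)))
    (hkC : k ∉ Subgroup.centralizer ({x} : Set SL(2, F))) : k * k = 1 := by
  have h1 := inverts_of_mem_normalizer x hx hodd k hk hkC x (self_mem_cent x)
  have hkk : k * k ∈ Subgroup.centralizer ({x} : Set SL(2, F)) := by
    rw [mem_cent_iff]
    have h2 : k * x⁻¹ * k⁻¹ = x := by
      have : k * x⁻¹ * k⁻¹ = (k * x * k⁻¹)⁻¹ := by group
      rw [this, h1, inv_inv]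
    calc k * k * x = k * (k * x * k⁻¹) * k := by group
      _ = k * x⁻¹ * k⁻¹ * (k * k) := by rw [h1]; group
      _ = x * (k * k) := by rw [h2]
  have h3 := inverts_of_mem_normalizer x hx hodd k hk hkC (k * k) hkk
  have h4 : k * (k * k) * k⁻¹ = k * k := by group
  rw [h4] at h3
  apply eq_one_of_sq_of_mem_cent x hx hodd (k * k) hkk
  nth_rewrite 1 [h3]
  exact inv_mul_cancel _

open Cfsg.Agent.Lib.Helper4_DihedralIso in
/-- The normalizer of the centralizer of a nontrivial element of odd order is dihedral. -/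
theorem normalizer_cent_dihedral [Fintype F] (x : SL(2, F)) (hx : x ≠ 1)
    (hodd : Odd (orderOf x)) :
    Nonempty (Subgroup.normalizer
      ((Subgroup.centralizer ({x} : Set SL(2, F)) : Subgroup SL(2, F)) : Set SL(2, F)) ≃*
      DihedralGroup (Nat.card (Subgroup.centralizer ({x} : Set SL(2, F))))) := by
  have hτ := trace_ne_zero_of_odd x hx hodd
  obtain ⟨hcyc, -⟩ := cent_structure x hx hodd
  set C := Subgroup.centralizer ({x} : Set SL(2, F)) with hC
  set N := Subgroup.normalizer ((C : Subgroup SL(2, F)) : Set SL(2, F)) with hN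
  obtain ⟨c₀, hc₀⟩ := hcyc.exists_generator
  have hord₀ : orderOf c₀ = Nat.card C := orderOf_eq_card_of_forall_mem_zpowers hc₀
  have hord : orderOf (c₀ : SL(2, F)) = Nat.card C := by rw [Subgroup.orderOf_coe, hord₀]
  obtain ⟨U, hU⟩ := exists_inverting x hτ
  have hUN : U ∈ N := mem_normalizer_of_inv x U hx hU
  have hUC : U ∉ C := by
    intro hUC
    have h3 : U * x = x * U := (mem_cent_iff x U).1 hUC
    have h4 : x⁻¹ = x := by
      rw [← hU, h3]; group
    have h5 : x * x = 1 := by
      nth_rewrite 1 [← h4]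
      exact inv_mul_cancel x
    exact hx (eq_one_of_sq_of_mem_cent x hx hodd x (self_mem_cent x) h5)
  have hUcN : U * (c₀ : SL(2, F)) ∈ N := N.mul_mem hUN (Subgroup.le_normalizer c₀.2)
  have hUcC : U * (c₀ : SL(2, F)) ∉ C := by
    intro h
    apply hUC
    have : U = U * (c₀ : SL(2, F)) * (c₀ : SL(2, F))⁻¹ := by group
    rw [this]
    exact C.mul_mem h (C.inv_mem c₀.2)
  have hw := sq_eq_one_of_mem_normalizer x hx hodd U hUN hUC
  have hw' := sq_eq_one_of_mem_normalizer x hx hodd _ hUcN hUcC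
  have hw1 : U ≠ 1 := fun h => hUC (h ▸ C.one_mem)
  have hw'1 : U * (c₀ : SL(2, F)) ≠ 1 := fun h => hUcC (h ▸ C.one_mem)
  have hprod : U * (U * (c₀ : SL(2, F))) = c₀ := by
    rw [← mul_assoc, hw, one_mul]
  have hle : Subgroup.closure ({U, U * (c₀ : SL(2, F))} : Set SL(2, F)) ≤ N := by
    rw [Subgroup.closure_le]
    rintro z (rfl | hz)
    · exact hUN
    · rw [Set.mem_singleton_iff] at hz
      subst hz
      exact hUcN
  have hcard : Nat.card (Subgroup.closure ({U, U * (c₀ : SL(2, F))} : Set SL(2, F))) =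
      Nat.card N := by
    rw [card_closure hw hw' hw1 hw'1, hprod, hord, hN, card_normalizer_cent x hx hodd]
  have heq : Subgroup.closure ({U, U * (c₀ : SL(2, F))} : Set SL(2, F)) = N :=
    Subgroup.eq_of_le_of_card_ge hle (le_of_eq hcard.symm)
  have e := dihedralEquiv hw hw' hw1 hw'1
  rw [hprod, hord] at e
  exact ⟨(MulEquiv.subgroupCongr heq).symm.trans e.symm⟩


/-! ### Subgroups of odd order are abelian -/

open Cfsg.Agent.Lib.Helper50_CTClass in
theorem ct_subgroup (K : Subgroup SL(2, F)) : CT (⊥ : Subgroup ↥K) where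
  central := by
    intro z hz g
    rw [Subgroup.mem_bot] at hz
    subst hz
    exact Commute.one_left g
  trans := by
    intro x y w hy hxy hyw
    have hy1 : (y : SL(2, F)) ≠ 1 := by
      intro h
      apply hy
      rw [Subgroup.mem_bot]
      exact Subtype.ext h
    have h1 : (x : SL(2, F)) * y = y * x := congrArg Subtype.val hxy.eq
    have h2 : (w : SL(2, F)) * y = y * w := (congrArg Subtype.val hyw.eq).symm
    have := Cfsg.Agent.S4065.sl2_ca (y : SL(2, F)) hy1 x w h1 h2
    exact Subtype.ext this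

/-- auxiliary arithmetic for the class equation -/
theorem two_mul_ge_of_class_eq (n c k : ℕ) (hc : 2 ≤ c) (h : n * c = k * (c - 1)) : k ≤ 2 * n := by
  obtain ⟨d, rfl⟩ : ∃ d, c = d + 2 := ⟨c - 2, by omega⟩
  have h' : n * (d + 2) = k * (d + 1) := by
    rw [h]; congr 1
  nlinarith

open Cfsg.Agent.Lib.Helper50_CTClass in
/-- In a subgroup of odd order, centralizers of nontrivial elements are self-normalizing. -/
theorem normalizer_cent_eq_of_odd [Finite F] (K : Subgroup SL(2, F)) (hK : Odd (Nat.card K))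
    (x : ↥K) (hx : x ≠ 1) :
    Subgroup.normalizer ((Subgroup.centralizer ({x} : Set ↥K) : Subgroup ↥K) : Set ↥K) =
      Subgroup.centralizer ({x} : Set ↥K) := by
  apply le_antisymm _ Subgroup.le_normalizer
  intro k hk
  have hcomm := (ct_subgroup K).conj_mem_centralizer hk
  have hx1 : (x : SL(2, F)) ≠ 1 := fun h => hx (Subtype.ext h)
  have hxodd : Odd (orderOf (x : SL(2, F))) := by
    rw [Subgroup.orderOf_coe]
    exact hK.of_dvd_nat (orderOf_dvd_natCard x)
  have hτ := trace_ne_zero_of_odd (x : SL(2, F)) hx1 hxodd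
  have hc : ((k : SL(2, F)) * x * (k : SL(2, F))⁻¹) * x = x * ((k : SL(2, F)) * x * (k : SL(2, F))⁻¹) :=
    congrArg Subtype.val hcomm.eq
  rw [mem_centralizer_iff_commute]
  rcases eq_or_eq_inv_of_commute (x : SL(2, F)) _ hτ hc
    (Cfsg.Agent.Lib.Helper41_SL2Torus.trace_conj (k : SL(2, F)) x) with h | h
  · apply Subtype.ext
    show (k : SL(2, F)) * x = x * k
    calc (k : SL(2, F)) * x = (k : SL(2, F)) * x * (k : SL(2, F))⁻¹ * k := by group
      _ = x * k := by rw [h]
  · -- `k` inverts `x`, so `k * k` centralizes `x`, and `k` is a power of `k * k`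
    have hkk : Commute ((k : SL(2, F)) * k) (x : SL(2, F)) := by
      have h2 : (k : SL(2, F)) * (x : SL(2, F))⁻¹ * (k : SL(2, F))⁻¹ = x := by
        have : (k : SL(2, F)) * (x : SL(2, F))⁻¹ * (k : SL(2, F))⁻¹ =
            ((k : SL(2, F)) * x * (k : SL(2, F))⁻¹)⁻¹ := by group
        rw [this, h, inv_inv]
      show (k : SL(2, F)) * k * x = x * ((k : SL(2, F)) * k)
      calc (k : SL(2, F)) * k * x = k * ((k : SL(2, F)) * x * (k : SL(2, F))⁻¹) * k := by group
        _ = (k : SL(2, F)) * (x : SL(2, F))⁻¹ * (k : SL(2, F))⁻¹ * (k * k) := by rw [h]; group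
        _ = x * ((k : SL(2, F)) * k) := by rw [h2]
    have hkodd : Odd (orderOf (k : SL(2, F))) := by
      rw [Subgroup.orderOf_coe]
      exact hK.of_dvd_nat (orderOf_dvd_natCard k)
    obtain ⟨j, hj⟩ := hkodd
    have hpow : ((k : SL(2, F)) * k) ^ (j + 1) = k := by
      rw [← pow_two, ← pow_mul]
      have : 2 * (j + 1) = orderOf (k : SL(2, F)) + 1 := by omega
      rw [this, pow_succ, pow_orderOf_eq_one, one_mul]
    have := hkk.pow_left (j + 1)
    rw [hpow] at this
    exact Subtype.ext this.eq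

open Cfsg.Agent.Lib.Helper50_CTClass in
/-- Subgroups of odd order of `SL(2,F)` (`F` finite of characteristic 2) are abelian. -/
theorem comm_of_odd [Finite F] (K : Subgroup SL(2, F)) (hK : Odd (Nat.card K))
    (a b : SL(2, F)) (ha : a ∈ K) (hb : b ∈ K) : a * b = b * a := by
  classical
  have hCT := ct_subgroup K
  -- every nontrivial element is central
  have key : ∀ x : ↥K, x ≠ 1 → Subgroup.centralizer ({x} : Set ↥K) = ⊤ := by
    intro x hx
    have hxZ : x ∉ (⊥ : Subgroup ↥K) := by rwa [Subgroup.mem_bot]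
    -- the class equation for `x`
    have hcls : ∀ y : ↥K, y ≠ 1 →
        (cls (⊥ : Subgroup ↥K) y).ncard * Nat.card (Subgroup.centralizer ({y} : Set ↥K)) =
          Nat.card ↥K * (Nat.card (Subgroup.centralizer ({y} : Set ↥K)) - 1) := by
      intro y hy
      have hyZ : y ∉ (⊥ : Subgroup ↥K) := by rwa [Subgroup.mem_bot]
      have := hCT.card_cls hyZ
      rwa [normalizer_cent_eq_of_odd K hK y hy, Subgroup.card_bot] at this
    have hc2 : ∀ y : ↥K, y ≠ 1 → 2 ≤ Nat.card (Subgroup.centralizer ({y} : Set ↥K)) := by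
      intro y hy
      have h1 : (1 : ℕ) < Nat.card (Subgroup.centralizer ({y} : Set ↥K)) := by
        rw [Finite.one_lt_card_iff_nontrivial]
        refine ⟨⟨⟨y, Subgroup.mem_centralizer_singleton_iff.2 rfl⟩, 1, ?_⟩⟩
        intro h
        exact hy (congrArg Subtype.val h)
      omega
    have hsub : ∀ y : ↥K, cls (⊥ : Subgroup ↥K) y ⊆ {z : ↥K | z ≠ 1} := by
      intro y z hz
      have := hz.1
      rwa [Subgroup.mem_bot] at this
    have hcompl : ({z : ↥K | z ≠ 1} : Set ↥K).ncard = Nat.card ↥K - 1 := by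
      have : ({z : ↥K | z ≠ 1} : Set ↥K) = ({1} : Set ↥K)ᶜ := by
        ext z; simp
      rw [this, Set.ncard_compl, Set.ncard_singleton]
    have hall : ∀ y : ↥K, y ≠ 1 → y ∈ cls (⊥ : Subgroup ↥K) x := by
      intro y hy
      by_contra hyx
      have hyZ : y ∉ (⊥ : Subgroup ↥K) := by rwa [Subgroup.mem_bot]
      have hdisj := hCT.cls_disjoint hxZ hyZ hyx
      have hunion : (cls (⊥ : Subgroup ↥K) x ∪ cls (⊥ : Subgroup ↥K) y).ncard ≤ Nat.card ↥K - 1 := by
        rw [← hcompl]
        exact Set.ncard_le_ncard (Set.union_subset (hsub x) (hsub y)) (Set.toFinite _)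
      rw [Set.ncard_union_eq hdisj (Set.toFinite _) (Set.toFinite _)] at hunion
      have h1 := two_mul_ge_of_class_eq _ _ _ (hc2 x hx) (hcls x hx)
      have h2 := two_mul_ge_of_class_eq _ _ _ (hc2 y hy) (hcls y hy)
      have hpos : 0 < Nat.card ↥K := Nat.card_pos
      omega
    have hclsx : cls (⊥ : Subgroup ↥K) x = {z : ↥K | z ≠ 1} :=
      Set.Subset.antisymm (hsub x) (fun z hz => hall z hz)
    have h3 := hcls x hx
    rw [hclsx, hcompl] at h3
    have hc := hc2 x hx
    have hpos : 0 < Nat.card ↥K := Nat.card_pos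
    have hcard : Nat.card (Subgroup.centralizer ({x} : Set ↥K)) = Nat.card ↥K := by
      obtain ⟨d, hd⟩ : ∃ d, Nat.card (Subgroup.centralizer ({x} : Set ↥K)) = d + 2 :=
        ⟨Nat.card (Subgroup.centralizer ({x} : Set ↥K)) - 2, by omega⟩
      obtain ⟨e, he⟩ : ∃ e, Nat.card ↥K = e + 1 := ⟨Nat.card ↥K - 1, by omega⟩
      rw [hd, he] at h3 ⊢
      have h3' : e * (d + 2) = (e + 1) * (d + 1) := by
        have : e + 1 - 1 = e := by omega
        have h5 : d + 2 - 1 = d + 1 := by omega
        rw [this, h5] at h3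
        exact h3
      nlinarith
    exact Subgroup.eq_top_of_card_eq _ hcard
  by_cases ha1 : (⟨a, ha⟩ : ↥K) = 1
  · have : a = 1 := congrArg Subtype.val ha1
    rw [this, one_mul, mul_one]
  · have h := key ⟨a, ha⟩ ha1
    have hb' : (⟨b, hb⟩ : ↥K) ∈ Subgroup.centralizer ({(⟨a, ha⟩ : ↥K)} : Set ↥K) := by
      rw [h]; exact Subgroup.mem_top _
    rw [Subgroup.mem_centralizer_singleton_iff] at hb'
    exact (congrArg Subtype.val hb').symm


/-! ### Maximal subgroups: the Borel case and the dihedral case -/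

omit [CharP F 2] in
/-- Conjugation by `g` as an order isomorphism preserves coatoms. -/
theorem isCoatom_map_conj (M : Subgroup SL(2, F)) (hM : IsCoatom M) (g : SL(2, F)) :
    IsCoatom (M.map (MulAut.conj g).toMonoidHom) := by
  have := (OrderIso.isCoatom_iff (MulEquiv.mapSubgroup (MulAut.conj g)) M).2 hM
  exact this

omit [CharP F 2] in
theorem card_top_sl2 [Fintype F] :
    Nat.card SL(2, F) = Fintype.card F * (Fintype.card F ^ 2 - 1) :=
  Cfsg.Agent.Lib.Helper5_PSLCard.card_SL_two

/-- The standard involution of `S2302` is `uu 1`. -/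
theorem u_eq_uu [Fintype F] : (Cfsg.Agent.S2302.u : SL(2, F)) = uu 1 := by
  apply Subtype.ext
  rfl

/-- the normalizer of a torus is a proper subgroup -/
theorem normalizer_cent_ne_top [Fintype F] (h4 : 4 ≤ Fintype.card F) (x : SL(2, F)) (hx : x ≠ 1)
    (hodd : Odd (orderOf x)) :
    Subgroup.normalizer
      ((Subgroup.centralizer ({x} : Set SL(2, F)) : Subgroup SL(2, F)) : Set SL(2, F)) ≠ ⊤ := by
  intro h
  have h1 := card_normalizer_cent x hx hodd
  rw [h, Subgroup.card_top, card_top_sl2] at h1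
  obtain ⟨-, hc⟩ := cent_structure x hx hodd
  set q := Fintype.card F with hq
  have hq2 : q ^ 2 - 1 = (q - 1) * (q + 1) := by
    have : q ^ 2 = (q - 1) * (q + 1) + 1 := by
      obtain ⟨k, hk⟩ : ∃ k, q = k + 4 := ⟨q - 4, by omega⟩
      rw [hk]
      have : k + 4 - 1 = k + 3 := by omega
      rw [this]; ring
    omega
  rw [hq2] at h1
  obtain ⟨k, hk⟩ : ∃ k, q = k + 4 := ⟨q - 4, by omega⟩
  have hk1 : q - 1 = k + 3 := by omega
  rcases hc with hc | hc
  · rw [hc, hk1, hk] at h1
    have h3 : (k + 3) * ((k + 4) * (k + 4 + 1)) = (k + 3) * 2 := by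
      rw [mul_comm (k + 3) 2, ← h1]; ring
    have h4 := Nat.eq_of_mul_eq_mul_left (by omega) h3
    nlinarith
  · rw [hc, hk1, hk] at h1
    have h3 : (k + 4 + 1) * ((k + 4) * (k + 3)) = (k + 4 + 1) * 2 := by
      rw [mul_comm (k + 4 + 1) 2, ← h1]; ring
    have h4 := Nat.eq_of_mul_eq_mul_left (by omega) h3
    nlinarith

open Cfsg.Agent.Lib.Helper50_CTClass in
/-- A maximal subgroup normalizing a nontrivial subgroup of odd order is dihedral of order
`2 (q - 1)` or `2 (q + 1)`. -/
theorem dihedral_of_normal_odd [Fintype F] (h4 : 4 ≤ Fintype.card F) (M : Subgroup SL(2, F))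
    (hM : IsCoatom M) (K : Subgroup SL(2, F)) (hK1 : K ≠ ⊥)
    (hKodd : Odd (Nat.card K)) (hnorm : ∀ k ∈ M, ∀ y ∈ K, k * y * k⁻¹ ∈ K) :
    Nonempty (M ≃* DihedralGroup (Fintype.card F - 1)) ∨
      Nonempty (M ≃* DihedralGroup (Fintype.card F + 1)) := by
  obtain ⟨x, hxK, hx1⟩ : ∃ x ∈ K, x ≠ 1 := by
    by_contra h
    push Not at h
    exact hK1 ((Subgroup.eq_bot_iff_forall K).2 h)
  have hxodd : Odd (orderOf x) := by
    have := orderOf_dvd_natCard (⟨x, hxK⟩ : ↥K)
    rw [Subgroup.orderOf_mk] at this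
    exact hKodd.of_dvd_nat this
  set N := Subgroup.normalizer
      ((Subgroup.centralizer ({x} : Set SL(2, F)) : Subgroup SL(2, F)) : Set SL(2, F)) with hN
  have hMN : M ≤ N := by
    intro k hk
    apply ct_sl2.mem_normalizer (x := x) (by rw [Subgroup.mem_bot]; exact hx1)
    exact comm_of_odd K hKodd _ _ (hnorm k hk x hxK) hxK
  have hNtop := normalizer_cent_ne_top h4 x hx1 hxodd
  have hMN' : M = N := by
    by_contra hne
    exact hNtop (hM.2 N (lt_of_le_of_ne hMN hne))
  obtain ⟨e⟩ := normalizer_cent_dihedral x hx1 hxodd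
  obtain ⟨-, hc⟩ := cent_structure x hx1 hxodd
  rcases hc with hc | hc
  · left
    rw [hc] at e
    exact ⟨(MulEquiv.subgroupCongr hMN').trans e⟩
  · right
    rw [hc] at e
    exact ⟨(MulEquiv.subgroupCongr hMN').trans e⟩

/-- A maximal subgroup is not of odd order. -/
theorem not_odd_of_isCoatom [Fintype F] (h4 : 4 ≤ Fintype.card F) (M : Subgroup SL(2, F))
    (hM : IsCoatom M) : ¬ Odd (Nat.card M) := by
  intro hodd
  by_cases hbot : M = ⊥
  · -- `⊥ < ⟨uu 1⟩ < ⊤`
    subst hbot
    have h1 : (⊥ : Subgroup SL(2, F)) < Subgroup.zpowers (uu (1 : F)) := by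
      rw [bot_lt_iff_ne_bot, Ne, Subgroup.zpowers_eq_bot]
      intro h
      have h' : uu (1 : F) = uu 0 := by rw [uu_zero]; exact h
      exact one_ne_zero (uu_injective h')
    have h2 := hM.2 _ h1
    have hl : ll (1 : F) ∈ Subgroup.zpowers (uu (1 : F)) := by rw [h2]; exact Subgroup.mem_top _
    obtain ⟨k, hk⟩ := Subgroup.mem_zpowers_iff.1 hl
    apply not_commute_uu_ll (F := F)
    rw [← hk]
    exact ((Commute.refl (uu (1 : F))).zpow_right k).eq
  · rcases dihedral_of_normal_odd h4 M hM M hbot hodd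
      (fun k hk y hy => M.mul_mem (M.mul_mem hk hy) (M.inv_mem hk)) with ⟨⟨e⟩⟩ | ⟨⟨e⟩⟩
    · have := Nat.card_congr e.toEquiv
      rw [DihedralGroup.nat_card] at this
      rw [this] at hodd
      exact absurd hodd (by simp)
    · have := Nat.card_congr e.toEquiv
      rw [DihedralGroup.nat_card] at this
      rw [this] at hodd
      exact absurd hodd (by simp)

/-- A maximal subgroup containing an involution `t` all of whose conjugates under the subgroup
commute with `t` is a Borel subgroup, of order `q (q - 1)`. -/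
theorem card_of_normal_two [Fintype F] (M : Subgroup SL(2, F)) (hM : IsCoatom M)
    (t : SL(2, F)) (ht1 : t ≠ 1) (htt : t * t = 1)
    (hcomm : ∀ k ∈ M, (k * t * k⁻¹) * t = t * (k * t * k⁻¹)) :
    Nat.card M = Fintype.card F * (Fintype.card F - 1) := by
  have h2 : (2 : F) = 0 := two_eq_zero
  have hord : orderOf t = 2 := orderOf_eq_prime (by rw [pow_two]; exact htt) ht1
  obtain ⟨g, hg⟩ := isConj_iff.1 (Cfsg.Agent.S2302.conj_u t hord)
  rw [u_eq_uu] at hg
  set B := (Cfsg.Agent.S2437.BSL F).map (MulAut.conj g).toMonoidHom with hB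
  have hMB : M ≤ B := by
    intro k hk
    rw [hB, Cfsg.Agent.Lib.Helper21_StronglyEmbedded.mem_map_conj_iff,
      Cfsg.Agent.S2437.mem_BSL_iff]
    set k' := g⁻¹ * k * g with hk'
    -- `v = k' (uu 1) k'⁻¹` commutes with `uu 1`
    set v := k' * uu 1 * k'⁻¹ with hv
    have hvk : v * k' = k' * uu 1 := by rw [hv]; group
    have hvc : v * uu 1 = uu 1 * v := by
      have h1 := hcomm k hk
      rw [← hg] at h1
      have e1 : v = g⁻¹ * (k * (g * uu 1 * g⁻¹) * k⁻¹) * g := by rw [hv, hk']; group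
      have e2 : uu (1 : F) = g⁻¹ * (g * uu 1 * g⁻¹) * g := by group
      rw [e1]
      nth_rewrite 2 [e2]
      nth_rewrite 3 [e2]
      calc g⁻¹ * (k * (g * uu 1 * g⁻¹) * k⁻¹) * g * (g⁻¹ * (g * uu 1 * g⁻¹) * g)
          = g⁻¹ * ((k * (g * uu 1 * g⁻¹) * k⁻¹) * (g * uu 1 * g⁻¹)) * g := by group
        _ = g⁻¹ * ((g * uu 1 * g⁻¹) * (k * (g * uu 1 * g⁻¹) * k⁻¹)) * g := by rw [h1]
        _ = g⁻¹ * (g * uu 1 * g⁻¹) * g * (g⁻¹ * (k * (g * uu 1 * g⁻¹) * k⁻¹) * g) := by group
    have hvc' : (v : Matrix (Fin 2) (Fin 2) F) * (uu (1 : F) : Matrix (Fin 2) (Fin 2) F) =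
        (uu (1 : F) : Matrix (Fin 2) (Fin 2) F) * v := by
      have := congrArg Subtype.val hvc
      simpa using this
    have hvk' : (v : Matrix (Fin 2) (Fin 2) F) * (k' : Matrix (Fin 2) (Fin 2) F) =
        (k' : Matrix (Fin 2) (Fin 2) F) * (uu (1 : F) : Matrix (Fin 2) (Fin 2) F) := by
      have := congrArg Subtype.val hvk
      simpa using this
    rw [uu_val] at hvc' hvk'
    have c00 := congrFun (congrFun hvc' 0) 0
    have c01 := congrFun (congrFun hvc' 0) 1
    have k10 := congrFun (congrFun hvk' 1) 0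
    have k11 := congrFun (congrFun hvk' 1) 1
    simp [Matrix.mul_apply, Fin.sum_univ_two] at c00 c01 k10 k11
    -- `v 1 0 = 0`, `v 0 0 = v 1 1`, hence `v 1 1 = 1`
    have hdet := v.2
    rw [Matrix.det_fin_two] at hdet
    have hv10 : (v : Matrix (Fin 2) (Fin 2) F) 1 0 = 0 := c00
    have hv00 : (v : Matrix (Fin 2) (Fin 2) F) 0 0 = (v : Matrix (Fin 2) (Fin 2) F) 1 1 := by
      linear_combination c01
    have hv11 : (v : Matrix (Fin 2) (Fin 2) F) 1 1 = 1 := by
      apply Cfsg.Agent.S4065.sq_eq_one_char_two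
      rw [hv10, hv00] at hdet
      linear_combination hdet
    show (k' : Matrix (Fin 2) (Fin 2) F) 1 0 = 0
    rw [hv10, hv11] at k11
    linear_combination -k11
  have hBtop : B ≠ ⊤ := by
    intro h
    have : g * ll 1 * g⁻¹ ∈ B := by rw [h]; exact Subgroup.mem_top _
    rw [hB, Cfsg.Agent.Lib.Helper21_StronglyEmbedded.mem_map_conj_iff,
      Cfsg.Agent.S2437.mem_BSL_iff] at this
    have e : g⁻¹ * (g * ll 1 * g⁻¹) * g = ll (1 : F) := by group
    rw [e] at this
    have h10 : (ll (1 : F) : Matrix (Fin 2) (Fin 2) F) 1 0 = 1 := by rw [ll_val]; rfl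
    have : (ll (1 : F) : Matrix (Fin 2) (Fin 2) F) 1 0 = 0 := this
    rw [h10] at this
    exact one_ne_zero this
  have hMB' : M = B := by
    by_contra hne
    exact hBtop (hM.2 B (lt_of_le_of_ne hMB hne))
  rw [hMB', hB]
  have e1 := (Cfsg.Agent.S2437.BSL F).equivMapOfInjective (MulAut.conj g).toMonoidHom
    (MulAut.conj g).injective
  rw [← Nat.card_congr e1.toEquiv, ← Nat.card_congr (Cfsg.Agent.S2437.bEquiv (F := F)),
    Nat.card_prod, Nat.card_units, Nat.card_eq_fintype_card, mul_comm]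

end char2

end Cfsg.Agent.Lib.Helper99_SL2EvenSub
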