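import Mathlib
import Cfsg.Agent.Lib.Helper99_SL2EvenSub
import Cfsg.Agent.Lib.Helper41_Subfield
import Cfsg.Agent.S0800

/-!
Subgroups of `SL(2,F)` (`F` finite of characteristic 2) isomorphic to `SL(2,F₀)` are conjugate to
the standard subfield subgroup; maximal ones have prime degree (helper99).
-/

set_option autoImplicit false

namespace Cfsg.Agent.Lib.Helper99_SL2EvenSub

open Matrix
open scoped MatrixGroups
open Cfsg.Agent.Lib.Helper99_SL2Even

/-- An element of a finite field fixed by the `|K|`-th power map lies in the image of `K`. -/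
theorem mem_range_of_pow_card {K F : Type*} [Field K] [Fintype K] [Field F] (ι : K →+* F)
    (y : F) (hy : y ^ Fintype.card K = y) : ∃ z : K, ι z = y := by
  classical
  set s := Fintype.card K with hs
  have hs1 : 1 < s := Fintype.one_lt_card
  set p : Polynomial F := Polynomial.X ^ s - Polynomial.X with hp
  have hp0 : p ≠ 0 := FiniteField.X_pow_card_sub_X_ne_zero F hs1
  have hdeg : p.natDegree = s := FiniteField.X_pow_card_sub_X_natDegree_eq F hs1
  have himg : (Finset.univ.image ι : Finset F) ⊆ p.roots.toFinset := by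
    intro w hw
    obtain ⟨z, -, rfl⟩ := Finset.mem_image.1 hw
    rw [Multiset.mem_toFinset, Polynomial.mem_roots hp0, Polynomial.IsRoot, hp]
    simp only [Polynomial.eval_sub, Polynomial.eval_pow, Polynomial.eval_X]
    rw [← map_pow, hs, FiniteField.pow_card, sub_self]
  have hcard : (Finset.univ.image ι : Finset F).card = s := by
    rw [Finset.card_image_of_injective _ ι.injective, Finset.card_univ]
  have hle : p.roots.toFinset.card ≤ s := by
    calc p.roots.toFinset.card ≤ Multiset.card p.roots := Multiset.toFinset_card_le _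
      _ ≤ p.natDegree := Polynomial.card_roots' p
      _ = s := hdeg
  have heq : (Finset.univ.image ι : Finset F) = p.roots.toFinset :=
    Finset.eq_of_subset_of_card_le himg (by rw [hcard]; exact hle)
  have hyroot : y ∈ p.roots.toFinset := by
    rw [Multiset.mem_toFinset, Polynomial.mem_roots hp0, Polynomial.IsRoot, hp]
    simp only [Polynomial.eval_sub, Polynomial.eval_pow, Polynomial.eval_X]
    rw [hy, sub_self]
  rw [← heq] at hyroot
  obtain ⟨z, -, hz⟩ := Finset.mem_image.1 hyroot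
  exact ⟨z, hz⟩

section

variable {F : Type*} [Field F] [CharP F 2]

/-- The centralizer of `uu 1` consists of the `uu b`. -/
theorem commute_uu_one_iff (g : SL(2, F)) : g * uu 1 = uu 1 * g ↔ ∃ b : F, g = uu b := by
  constructor
  · intro h
    have h' : (g : Matrix (Fin 2) (Fin 2) F) * (uu (1 : F) : Matrix (Fin 2) (Fin 2) F) =
        (uu (1 : F) : Matrix (Fin 2) (Fin 2) F) * g := by
      have := congrArg Subtype.val h
      simpa using this
    rw [uu_val] at h'
    have c00 := congrFun (congrFun h' 0) 0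
    have c01 := congrFun (congrFun h' 0) 1
    simp [Matrix.mul_apply, Fin.sum_univ_two] at c00 c01
    have hdet := g.2
    rw [Matrix.det_fin_two] at hdet
    have h00 : (g : Matrix (Fin 2) (Fin 2) F) 0 0 = (g : Matrix (Fin 2) (Fin 2) F) 1 1 := by
      linear_combination c01
    have h11 : (g : Matrix (Fin 2) (Fin 2) F) 1 1 = 1 := by
      apply Cfsg.Agent.S4065.sq_eq_one_char_two
      rw [c00, h00] at hdet
      linear_combination hdet
    refine ⟨(g : Matrix (Fin 2) (Fin 2) F) 0 1, ?_⟩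
    apply Subtype.ext
    rw [uu_val]
    ext i j
    fin_cases i <;> fin_cases j <;> simp [c00, h00, h11]
  · rintro ⟨b, rfl⟩
    rw [uu_mul, uu_mul, add_comm]

/-- The centralizer of `ll c`, `c ≠ 0`, consists of the `ll b`. -/
theorem commute_ll_iff (c : F) (hc : c ≠ 0) (g : SL(2, F)) :
    g * ll c = ll c * g ↔ ∃ b : F, g = ll b := by
  constructor
  · intro h
    have h' : (g : Matrix (Fin 2) (Fin 2) F) * (ll c : Matrix (Fin 2) (Fin 2) F) =
        (ll c : Matrix (Fin 2) (Fin 2) F) * g := by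
      have := congrArg Subtype.val h
      simpa using this
    rw [ll_val] at h'
    have c00 := congrFun (congrFun h' 0) 0
    have c10 := congrFun (congrFun h' 1) 0
    simp [Matrix.mul_apply, Fin.sum_univ_two] at c00 c10
    have hdet := g.2
    rw [Matrix.det_fin_two] at hdet
    have h01 : (g : Matrix (Fin 2) (Fin 2) F) 0 1 = 0 := by
      rcases c00 with h | h
      · exact h
      · exact absurd h hc
    have h00 : (g : Matrix (Fin 2) (Fin 2) F) 0 0 = (g : Matrix (Fin 2) (Fin 2) F) 1 1 := by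
      have : c * ((g : Matrix (Fin 2) (Fin 2) F) 0 0 - (g : Matrix (Fin 2) (Fin 2) F) 1 1) = 0 := by
        linear_combination -c10
      rcases mul_eq_zero.1 this with h | h
      · exact absurd h hc
      · linear_combination h
    have h11 : (g : Matrix (Fin 2) (Fin 2) F) 1 1 = 1 := by
      apply Cfsg.Agent.S4065.sq_eq_one_char_two
      rw [h01, h00] at hdet
      linear_combination hdet
    refine ⟨(g : Matrix (Fin 2) (Fin 2) F) 1 0, ?_⟩
    apply Subtype.ext
    rw [ll_val]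
    ext i j
    fin_cases i <;> fin_cases j <;> simp [h01, h00, h11]
  · rintro ⟨b, rfl⟩
    rw [ll_mul, ll_mul, add_comm]

end

/-- Centralizers correspond under isomorphisms. -/
theorem card_centralizer_mulEquiv {G H : Type*} [Group G] [Group H] (e : G ≃* H) (x : G) :
    Nat.card (Subgroup.centralizer ({x} : Set G)) =
      Nat.card (Subgroup.centralizer ({e x} : Set H)) := by
  apply Nat.card_congr
  refine
    { toFun := fun g => ⟨e g.1, ?_⟩
      invFun := fun h => ⟨e.symm h.1, ?_⟩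
      left_inv := fun g => Subtype.ext (e.symm_apply_apply _)
      right_inv := fun h => Subtype.ext (e.apply_symm_apply _) }
  · have := Subgroup.mem_centralizer_singleton_iff.1 g.2
    rw [Subgroup.mem_centralizer_singleton_iff, ← map_mul, ← map_mul, this]
  · have := Subgroup.mem_centralizer_singleton_iff.1 h.2
    rw [Subgroup.mem_centralizer_singleton_iff]
    apply e.injective
    rw [map_mul, map_mul, e.apply_symm_apply, this]


section traces

variable {F : Type*} [Field F] [CharP F 2]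

theorem trace_uu_mul_ll (a b : F) :
    Matrix.trace ((uu a * ll b : SL(2, F)) : Matrix (Fin 2) (Fin 2) F) = a * b := by
  have h2 : (2 : F) = 0 := two_eq_zero
  rw [Matrix.SpecialLinearGroup.coe_mul, uu_val, ll_val, Matrix.trace_fin_two]
  simp [Matrix.mul_apply, Fin.sum_univ_two]
  linear_combination h2

/-- An involution (or the identity) has trace zero. -/
theorem trace_eq_zero_of_sq (g : SL(2, F)) (hg : g * g = 1) :
    Matrix.trace (g : Matrix (Fin 2) (Fin 2) F) = 0 := by
  by_contra hτ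
  have h1 : g ≠ 1 := by
    rintro rfl
    exact hτ trace_one_eq_zero
  -- `g` commutes with `g` and has the same trace, fine; use `g = g⁻¹`
  have h3 := coe_inv_eq g
  have h4 : g⁻¹ = g := by
    rw [inv_eq_iff_mul_eq_one]; exact hg
  rw [h4] at h3
  have h5 : Matrix.trace (g : Matrix (Fin 2) (Fin 2) F) • (1 : Matrix (Fin 2) (Fin 2) F) = 0 := by
    have := congrArg (fun X => X - (g : Matrix (Fin 2) (Fin 2) F)) h3
    simp only [sub_self, add_sub_cancel_left] at this
    exact this.symm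
  have h6 := congrFun (congrFun h5 0) 0
  simp at h6
  exact hτ h6

variable {F₀ : Type*} [Field F₀] [Fintype F₀] [CharP F₀ 2]

/-- Traces of the elements of a subgroup isomorphic to `SL(2,F₀)` are fixed by the `|F₀|`-th
power map. -/
theorem trace_pow_card_of_equiv (M : Subgroup SL(2, F)) (e : ↥M ≃* SL(2, F₀)) (g : SL(2, F))
    (hg : g ∈ M) :
    Matrix.trace (g : Matrix (Fin 2) (Fin 2) F) ^ Fintype.card F₀ =
      Matrix.trace (g : Matrix (Fin 2) (Fin 2) F) := by
  haveI : Fact (Nat.Prime 2) := ⟨Nat.prime_two⟩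
  obtain ⟨m, -, hm⟩ := FiniteField.card F₀ 2
  set s := Fintype.card F₀ with hs
  have hs1 : 1 ≤ s := by rw [hm]; exact Nat.one_le_two_pow
  have hord : orderOf (e ⟨g, hg⟩) = orderOf g := by
    rw [MulEquiv.orderOf_eq, Subgroup.orderOf_mk]
  have htrs : Matrix.trace ((g ^ s : SL(2, F)) : Matrix (Fin 2) (Fin 2) F) =
      Matrix.trace (g : Matrix (Fin 2) (Fin 2) F) ^ s := by
    rw [hm]; exact trace_pow_two_pow g m
  by_cases hcop : Nat.Coprime (orderOf g) 2
  · rcases Cfsg.Agent.S0800.result (F := F₀) (q := s) rfl 2 (e ⟨g, hg⟩) (by rw [hord]; exact hcop)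
      with h | h
    · rw [hord] at h
      have h1 : g ^ (s - 1) = 1 := orderOf_dvd_iff_pow_eq_one.1 h
      have h2 : g ^ s = g := by
        have : s = (s - 1) + 1 := by omega
        rw [this, pow_succ, h1, one_mul]
      rw [← htrs, h2]
    · rw [hord] at h
      have h1 : g ^ (s + 1) = 1 := orderOf_dvd_iff_pow_eq_one.1 h
      have h2 : g ^ s = g⁻¹ := by
        rw [pow_succ] at h1
        exact eq_inv_of_mul_eq_one_left h1
      rw [← htrs, h2, trace_inv]
  · have h2 : 2 ∣ orderOf g :=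
      (Nat.Prime.dvd_iff_not_coprime Nat.prime_two).2 (fun h => hcop h.symm)
    have hpos : orderOf g ≠ 0 := by
      rw [← hord]
      exact (orderOf_pos _).ne'
    set t := g ^ (orderOf g / 2) with ht
    have hot : orderOf t = 2 := orderOf_pow_orderOf_div hpos h2
    have htt : t * t = 1 := by
      have := pow_orderOf_eq_one t
      rwa [hot, pow_two] at this
    have ht1 : t ≠ 1 := by
      intro h
      rw [h, orderOf_one] at hot
      norm_num at hot
    have hc : g * t = t * g := ((Commute.refl g).pow_right _).eq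
    have hgg := sq_eq_one_of_commute t g htt ht1 hc
    rw [trace_eq_zero_of_sq g hgg, zero_pow (by omega)]

end traces


section centcard

variable {F₀ : Type*} [Field F₀] [Fintype F₀] [CharP F₀ 2]

theorem card_cent_uu_one :
    Nat.card (Subgroup.centralizer ({uu (1 : F₀)} : Set SL(2, F₀))) = Fintype.card F₀ := by
  rw [← Nat.card_eq_fintype_card]
  symm
  apply Nat.card_congr
  refine Equiv.ofBijective
    (fun b => ⟨uu b, (mem_cent_iff _ _).2 ((commute_uu_one_iff _).2 ⟨b, rfl⟩)⟩) ⟨?_, ?_⟩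
  · intro a b hab
    exact uu_injective (congrArg Subtype.val hab)
  · rintro ⟨g, hg⟩
    obtain ⟨b, hb⟩ := (commute_uu_one_iff g).1 ((mem_cent_iff _ _).1 hg)
    exact ⟨b, Subtype.ext hb.symm⟩

/-- The centralizer of an involution of `SL(2,F₀)` has `|F₀|` elements. -/
theorem card_cent_involution (t : SL(2, F₀)) (ht : orderOf t = 2) :
    Nat.card (Subgroup.centralizer ({t} : Set SL(2, F₀))) = Fintype.card F₀ := by
  obtain ⟨g, hg⟩ := isConj_iff.1 (Cfsg.Agent.S2302.conj_u t ht)
  rw [u_eq_uu] at hg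
  obtain ⟨e⟩ := cent_conj_equiv (uu (1 : F₀)) g
  rw [hg] at e
  rw [← Nat.card_congr e.toEquiv, card_cent_uu_one]

variable {F : Type*} [Field F] [Fintype F] [CharP F 2]

/-- If the centralizer of the involution `t ∈ M` is parametrized by `f`, and the parameters of
the elements of `M` are fixed by the `|F₀|`-th power map, then `M` contains all `f (ι z)`. -/
theorem param_mem_of_pow_card (M : Subgroup SL(2, F)) (e : ↥M ≃* SL(2, F₀)) (ι : F₀ →+* F)
    (f : F → SL(2, F)) (finj : Function.Injective f) (t : SL(2, F)) (htM : t ∈ M)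
    (ht2 : orderOf t = 2) (hf : ∀ g : SL(2, F), g * t = t * g ↔ ∃ b, g = f b)
    (hA : ∀ a, f a ∈ M → a ^ Fintype.card F₀ = a) (z : F₀) : f (ι z) ∈ M := by
  classical
  set tM : ↥M := ⟨t, htM⟩ with htM'
  have hord : orderOf (e tM) = 2 := by
    rw [MulEquiv.orderOf_eq, htM', Subgroup.orderOf_mk, ht2]
  have hcard : Nat.card (Subgroup.centralizer ({tM} : Set ↥M)) = Fintype.card F₀ := by
    rw [card_centralizer_mulEquiv e tM, card_cent_involution _ hord]
  -- the parameters of elements of `M`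
  have hX : Nat.card {a : F // f a ∈ M} = Nat.card (Subgroup.centralizer ({tM} : Set ↥M)) := by
    apply Nat.card_congr
    refine Equiv.ofBijective (fun a => ⟨⟨f a.1, a.2⟩, ?_⟩) ⟨?_, ?_⟩
    · rw [Subgroup.mem_centralizer_singleton_iff]
      apply Subtype.ext
      exact (hf (f a.1)).2 ⟨a.1, rfl⟩
    · intro a b hab
      have h1 : f a.1 = f b.1 := congrArg (fun x => (x.1 : SL(2, F))) hab
      exact Subtype.ext (finj h1)
    · rintro ⟨⟨g, hgM⟩, hg⟩
      rw [Subgroup.mem_centralizer_singleton_iff] at hg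
      have hg' : g * t = t * g := congrArg Subtype.val hg
      obtain ⟨b, hb⟩ := (hf g).1 hg'
      exact ⟨⟨b, hb ▸ hgM⟩, Subtype.ext (Subtype.ext hb.symm)⟩
  have hchoose : ∀ a : {a : F // f a ∈ M}, ∃ w : F₀, ι w = a.1 := fun a =>
    mem_range_of_pow_card ι a.1 (hA a.1 a.2)
  choose φ hφ using hchoose
  have hφinj : Function.Injective φ := by
    intro a b hab
    apply Subtype.ext
    rw [← hφ a, ← hφ b, hab]
  have hbij : Function.Bijective φ := by
    apply Function.Injective.bijective_of_nat_card_le hφinj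
    rw [hX, hcard, Nat.card_eq_fintype_card]
  obtain ⟨a, ha⟩ := hbij.2 z
  rw [← ha, hφ a]
  exact a.2

end centcard


section main

theorem card_fn_lt (a b : ℕ) (ha : 1 ≤ a) (hab : a < b) :
    a * (a ^ 2 - 1) < b * (b ^ 2 - 1) := by
  have h1 : a ^ 2 ≤ b ^ 2 := Nat.pow_le_pow_left hab.le 2
  have h2 : 0 < b ^ 2 - 1 := by
    have : 2 ≤ b := by omega
    have : 4 ≤ b ^ 2 := by nlinarith
    omega
  calc a * (a ^ 2 - 1) ≤ a * (b ^ 2 - 1) := Nat.mul_le_mul_left _ (by omega)
    _ < b * (b ^ 2 - 1) := Nat.mul_lt_mul_of_pos_right hab h2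

variable {F : Type*} [Field F] [Fintype F] [CharP F 2]
variable {F₀ : Type*} [Field F₀] [Fintype F₀] [CharP F₀ 2]

omit [Fintype F₀] [CharP F₀ 2] in
theorem transvection_eq (i j : Fin 2) (h : i ≠ j) (c : F₀) :
    Matrix.SpecialLinearGroup.transvection h c = (if i = 0 then uu c else ll c) := by
  apply Subtype.ext
  fin_cases i <;> fin_cases j
  · exact absurd rfl h
  · ext a b
    fin_cases a <;> fin_cases b <;>
      simp [Matrix.SpecialLinearGroup.transvection, Matrix.transvection, uu_val, Matrix.single]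
  · ext a b
    fin_cases a <;> fin_cases b <;>
      simp [Matrix.SpecialLinearGroup.transvection, Matrix.transvection, ll_val, Matrix.single]
  · exact absurd rfl h

omit [Fintype F] [CharP F 2] [Fintype F₀] [CharP F₀ 2] in
theorem map_transvection (ι : F₀ →+* F) (i j : Fin 2) (h : i ≠ j) (c : F₀) :
    Matrix.SpecialLinearGroup.map ι (Matrix.SpecialLinearGroup.transvection h c) =
      (if i = 0 then uu (ι c) else ll (ι c)) := by
  rw [transvection_eq]
  split_ifs
  · exact map_uu ι c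
  · exact map_ll ι c

/-- The image of `SL(2,F₀)` lies in any subgroup containing the `uu (ι z)` and `ll (ι z)`. -/
theorem range_map_le (ι : F₀ →+* F) (M : Subgroup SL(2, F)) (hu : ∀ z : F₀, uu (ι z) ∈ M)
    (hl : ∀ z : F₀, ll (ι z) ∈ M) :
    (Matrix.SpecialLinearGroup.map (n := Fin 2) ι).range ≤ M := by
  rintro _ ⟨A, rfl⟩
  refine Matrix.SL2.transvection_induction
    (fun A => Matrix.SpecialLinearGroup.map (n := Fin 2) ι A ∈ M) ?_ ?_ A
  · intro i j h c
    show Matrix.SpecialLinearGroup.map (n := Fin 2) ι _ ∈ M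
    rw [map_transvection]
    split_ifs
    · exact hu c
    · exact hl c
  · intro A B hA hB
    show Matrix.SpecialLinearGroup.map (n := Fin 2) ι (A * B) ∈ M
    rw [map_mul]
    exact M.mul_mem hA hB


omit [Fintype F] [CharP F 2] in
theorem ll_injective : Function.Injective (ll : F → SL(2, F)) := by
  intro x y h
  have := congrArg (fun g : SL(2, F) => (g : Matrix (Fin 2) (Fin 2) F) 1 0) h
  simpa [ll_val] using this

omit [Fintype F] in
theorem orderOf_uu_one : orderOf (uu (1 : F)) = 2 := by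
  apply orderOf_eq_prime
  · rw [pow_two]; exact uu_sq 1
  · intro h
    have h' : uu (1 : F) = uu 0 := by rw [uu_zero]; exact h
    exact one_ne_zero (uu_injective h')

omit [Fintype F] in
theorem orderOf_ll (c : F) (hc : c ≠ 0) : orderOf (ll c) = 2 := by
  apply orderOf_eq_prime
  · rw [pow_two]; exact ll_sq c
  · intro h
    have h' : ll c = ll 0 := by rw [ll_zero]; exact h
    exact hc (ll_injective h')

/-- A subgroup isomorphic to `SL(2,F₀)` containing `uu 1` and some `ll c`, `c ≠ 0`, is the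
standard copy of `SL(2,F₀)`. -/
theorem eq_range_map_of_standard (M : Subgroup SL(2, F)) (e : ↥M ≃* SL(2, F₀)) (ι : F₀ →+* F)
    (h1 : uu 1 ∈ M) (c : F) (hc0 : c ≠ 0) (hc : ll c ∈ M) :
    M = (Matrix.SpecialLinearGroup.map (n := Fin 2) ι).range := by
  set s := Fintype.card F₀ with hs
  have htr := trace_pow_card_of_equiv M e
  have hcs : c ^ s = c := by
    have := htr (uu 1 * ll c) (M.mul_mem h1 hc)
    rwa [trace_uu_mul_ll, one_mul] at this
  have hA : ∀ a, uu a ∈ M → a ^ s = a := by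
    intro a ha
    have := htr (uu a * ll c) (M.mul_mem ha hc)
    rw [trace_uu_mul_ll, mul_pow, hcs] at this
    exact mul_right_cancel₀ hc0 this
  have hB : ∀ b, ll b ∈ M → b ^ s = b := by
    intro b hb
    have := htr (uu 1 * ll b) (M.mul_mem h1 hb)
    rwa [trace_uu_mul_ll, one_mul] at this
  have hu : ∀ z : F₀, uu (ι z) ∈ M :=
    param_mem_of_pow_card M e ι uu uu_injective (uu 1) h1 orderOf_uu_one commute_uu_one_iff hA
  have hl : ∀ z : F₀, ll (ι z) ∈ M :=
    param_mem_of_pow_card M e ι ll ll_injective (ll c) hc (orderOf_ll c hc0)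
      (commute_ll_iff c hc0) hB
  have hle := range_map_le ι M hu hl
  have hcard : Nat.card (Matrix.SpecialLinearGroup.map (n := Fin 2) ι).range = Nat.card M := by
    rw [← Nat.card_congr (MonoidHom.ofInjective (map_injective ι)).toEquiv,
      Nat.card_congr e.toEquiv]
  exact (Subgroup.eq_of_le_of_card_ge hle (le_of_eq hcard.symm)).symm


omit [CharP F 2] [CharP F₀ 2] in
/-- The standard copy of `SL(2,F₀)` lies in the standard copy of `SL(2,K₂)` if
`|K₂|` is a power of `|F₀|`. -/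
theorem range_map_le_range_map {K₂ : Type*} [Field K₂] [Fintype K₂] (ι : F₀ →+* F)
    (ι₂ : K₂ →+* F) (k : ℕ) (hk : Fintype.card K₂ = Fintype.card F₀ ^ k) :
    (Matrix.SpecialLinearGroup.map (n := Fin 2) ι).range ≤
      (Matrix.SpecialLinearGroup.map (n := Fin 2) ι₂).range := by
  rintro _ ⟨A, rfl⟩
  have hex : ∀ i j : Fin 2, ∃ b : K₂, ι₂ b = ι ((A : Matrix (Fin 2) (Fin 2) F₀) i j) := by
    intro i j
    apply mem_range_of_pow_card ι₂
    rw [hk, ← map_pow, FiniteField.pow_card_pow]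
  choose B hB using hex
  have hmap : ι₂.mapMatrix (Matrix.of B) = ι.mapMatrix (A : Matrix (Fin 2) (Fin 2) F₀) := by
    ext i j
    simp [RingHom.mapMatrix_apply, hB]
  have hdet : (Matrix.of B).det = 1 := by
    apply ι₂.injective
    rw [RingHom.map_det, hmap, ← RingHom.map_det, A.2, map_one, map_one]
  let A₂ : SL(2, K₂) := ⟨Matrix.of B, hdet⟩
  refine ⟨A₂, ?_⟩
  apply Subtype.ext
  rw [Matrix.SpecialLinearGroup.map_apply_coe, Matrix.SpecialLinearGroup.map_apply_coe]
  exact hmap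

/-- A maximal subgroup isomorphic to `SL(2,F₀)` in standard position: `|F| = |F₀| ^ r`, `r` prime. -/
theorem prime_degree_of_standard (M : Subgroup SL(2, F)) (hM : IsCoatom M) (e : ↥M ≃* SL(2, F₀))
    (h1 : uu 1 ∈ M) (c : F) (hc0 : c ≠ 0) (hc : ll c ∈ M) :
    ∃ r : ℕ, r.Prime ∧ Fintype.card F = Fintype.card F₀ ^ r := by
  haveI : Fact (Nat.Prime 2) := ⟨Nat.prime_two⟩
  obtain ⟨m, -, hm⟩ := FiniteField.card F₀ 2
  obtain ⟨n, -, hn⟩ := FiniteField.card F 2
  set s := Fintype.card F₀ with hs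
  set q := Fintype.card F with hq
  have hm1 : 1 ≤ (m : ℕ) := m.pos
  have hn1 : 1 ≤ (n : ℕ) := n.pos
  have hMcard : Nat.card M = s * (s ^ 2 - 1) := by
    rw [Nat.card_congr e.toEquiv, Cfsg.Agent.Lib.Helper5_PSLCard.card_SL_two]
  have hdvd : s * (s ^ 2 - 1) ∣ q * (q ^ 2 - 1) := by
    rw [← hMcard, hq, ← card_top_sl2 (F := F)]
    exact Subgroup.card_subgroup_dvd_card M
  have hmn : (m : ℕ) ∣ (n : ℕ) := by
    have h3 : (s ^ 2 - 1) ∣ q * (q ^ 2 - 1) := dvd_trans (dvd_mul_left _ _) hdvd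
    have hodd : Odd (s ^ 2 - 1) := by rw [hm]; exact odd_two_pow_sq_sub_one m hm1
    have hcop : Nat.Coprime (s ^ 2 - 1) q := by
      rw [hn]
      exact (Nat.coprime_two_right.2 hodd).pow_right n
    have h4 : (s ^ 2 - 1) ∣ (q ^ 2 - 1) := hcop.dvd_of_dvd_mul_left h3
    rw [hm, hn, ← pow_mul, ← pow_mul] at h4
    have h5 := dvd_of_two_pow_sub_one_dvd _ _ h4
    exact Nat.dvd_of_mul_dvd_mul_right (by norm_num) h5
  obtain ⟨r, hr⟩ := hmn
  have hqs : q = s ^ r := by rw [hn, hm, hr, pow_mul]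
  obtain ⟨ι⟩ := Cfsg.Agent.Lib.Helper41_Subfield.exists_ringHom (F := F) (K := F₀) r hqs.symm
  have hMeq := eq_range_map_of_standard M e ι h1 c hc0 hc
  have hr0 : r ≠ 0 := by
    rintro rfl
    omega
  have hs2 : 2 ≤ s := by
    rw [hm]
    calc 2 = 2 ^ 1 := by norm_num
      _ ≤ 2 ^ (m : ℕ) := Nat.pow_le_pow_right (by norm_num) hm1
  refine ⟨r, ?_, hqs⟩
  by_contra hrp
  have hr1 : r ≠ 1 := by
    rintro rfl
    rw [pow_one] at hqs
    apply hM.1
    apply Subgroup.eq_top_of_card_eq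
    rw [hMcard, card_top_sl2, ← hq, hqs]
  -- a proper factorization of `r`
  set r₁ := r.minFac with hr₁
  have hr₁p : r₁.Prime := Nat.minFac_prime hr1
  obtain ⟨r₂, hr₂⟩ := Nat.minFac_dvd r
  have hr₂2 : 2 ≤ r₂ := by
    rcases Nat.lt_or_ge r₂ 2 with h | h
    · exfalso
      interval_cases r₂
      · exact hr0 (by rw [hr₂]; ring)
      · apply hrp
        rw [hr₂, mul_one]
        exact hr₁p
    · exact h
  have hmr₂ : (m : ℕ) * r₂ ≠ 0 := by
    have : 0 < (m : ℕ) * r₂ := Nat.mul_pos (by omega) (by omega)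
    omega
  letI : Fintype (GaloisField 2 ((m : ℕ) * r₂)) := Fintype.ofFinite _
  have hK₂ : Fintype.card (GaloisField 2 ((m : ℕ) * r₂)) = s ^ r₂ := by
    rw [← Nat.card_eq_fintype_card, GaloisField.card 2 _ hmr₂, hm, pow_mul]
  obtain ⟨ι₂⟩ := Cfsg.Agent.Lib.Helper41_Subfield.exists_ringHom (F := F)
    (K := GaloisField 2 ((m : ℕ) * r₂)) r₁ (by
      rw [hK₂, ← hq, hqs, ← pow_mul]
      congr 1
      rw [hr₂, mul_comm])
  set L := (Matrix.SpecialLinearGroup.map (n := Fin 2) ι₂).range with hL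
  have hML : M ≤ L := by
    rw [hMeq]
    exact range_map_le_range_map ι ι₂ r₂ hK₂
  have hLcard : Nat.card L = s ^ r₂ * ((s ^ r₂) ^ 2 - 1) := by
    rw [hL, ← Nat.card_congr (MonoidHom.ofInjective (map_injective ι₂)).toEquiv,
      Cfsg.Agent.Lib.Helper5_PSLCard.card_SL_two, hK₂]
  have hlt1 : s < s ^ r₂ := by
    calc s = s ^ 1 := (pow_one s).symm
      _ < s ^ r₂ := Nat.pow_lt_pow_right (by omega) (by omega)
  have hlt2 : s ^ r₂ < q := by
    rw [hqs, hr₂]
    apply Nat.pow_lt_pow_right (by omega)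
    have : 2 ≤ r₁ := hr₁p.two_le
    nlinarith
  have hne : M ≠ L := by
    intro h
    have := card_fn_lt s (s ^ r₂) (by omega) hlt1
    rw [← hMcard, ← hLcard, h] at this
    exact lt_irrefl _ this
  have hLtop := hM.2 L (lt_of_le_of_ne hML hne)
  have := card_fn_lt (s ^ r₂) q (by omega) hlt2
  rw [← hLcard, hLtop, Subgroup.card_top, card_top_sl2, ← hq] at this
  exact lt_irrefl _ this


omit [Fintype F] in
/-- An involution not commuting with `uu 1` is conjugate under some `uu y` to some `ll c`. -/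
theorem exists_conj_ll (t : SL(2, F)) (htt : t * t = 1) (hnc : t * uu 1 ≠ uu 1 * t) :
    ∃ (y c : F), c ≠ 0 ∧ uu y * ll c * (uu y)⁻¹ = t := by
  have h2 : (2 : F) = 0 := two_eq_zero
  have htr := trace_eq_zero_of_sq t htt
  rw [Matrix.trace_fin_two] at htr
  have hdet := t.2
  rw [Matrix.det_fin_two] at hdet
  set a := (t : Matrix (Fin 2) (Fin 2) F) 0 0 with ha
  set b := (t : Matrix (Fin 2) (Fin 2) F) 0 1 with hb
  set c := (t : Matrix (Fin 2) (Fin 2) F) 1 0 with hc
  set d := (t : Matrix (Fin 2) (Fin 2) F) 1 1 with hd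
  have hda : d = a := by linear_combination htr - a * h2
  have hc0 : c ≠ 0 := by
    intro hc0
    apply hnc
    have ha1 : a = 1 := by
      apply Cfsg.Agent.S4065.sq_eq_one_char_two
      rw [hc0, hda] at hdet
      linear_combination hdet
    have : t = uu b := by
      apply Subtype.ext
      rw [uu_val]
      ext i j
      fin_cases i <;> fin_cases j
      · exact ha1
      · rfl
      · exact hc0
      · show d = 1
        rw [hda, ha1]
    rw [this, uu_mul, uu_mul, add_comm]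
  have hinv : (uu ((1 + a) / c))⁻¹ = uu ((1 + a) / c) := by
    rw [inv_eq_iff_mul_eq_one]; exact uu_sq _
  refine ⟨(1 + a) / c, c, hc0, ?_⟩
  rw [hinv]
  apply Subtype.ext
  rw [Matrix.SpecialLinearGroup.coe_mul, Matrix.SpecialLinearGroup.coe_mul, uu_val, ll_val]
  ext i j
  fin_cases i <;> fin_cases j <;>
    simp only [Matrix.mul_apply, Fin.sum_univ_two, Matrix.of_apply, Matrix.cons_val',
      Matrix.cons_val_zero, Matrix.cons_val_one, Matrix.cons_val_fin_one, Fin.zero_eta,
      Fin.mk_one, Fin.isValue]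
  · show _ = a
    field_simp
    linear_combination (c) * h2
  · show _ = b
    field_simp
    rw [hda] at hdet
    linear_combination (-1 : F) * hdet + (1 + a) * h2 + (a + a ^ 2 - c * b) * h2
  · show _ = c
    ring
  · show _ = d
    rw [hda]
    field_simp
    linear_combination (c) * h2

open Cfsg.Agent.Lib.Helper21_BSW in
/-- A maximal subgroup of `SL(2,F)` with a noncyclic, non-normal Sylow 2-subgroup is isomorphic
to `SL(2,F₀)`, where `|F| = |F₀| ^ r` with `r` prime. -/
theorem subfield_of_noncyclic_sylow (M : Subgroup SL(2, F)) (hM : IsCoatom M)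
    (P : Sylow 2 ↥M) (hnc : ¬ IsCyclic (P : Subgroup ↥M)) (hnn : ¬ (P : Subgroup ↥M).Normal) :
    ∃ (F₀ : Type) (_ : Field F₀) (_ : Fintype F₀) (r : ℕ), r.Prime ∧ Fintype.card F₀ ≠ 2 ∧
      Fintype.card F = Fintype.card F₀ ^ r ∧ Nonempty (↥M ≃* SL(2, F₀)) := by
  classical
  haveI : Fact (Nat.Prime 2) := ⟨Nat.prime_two⟩
  have hC : CIT ↥M := cit_subgroup M
  obtain ⟨F₀, hF₀, hFin, hcard, ⟨e⟩⟩ := exists_mulEquiv_SL hC P hnc hnn
  -- the order of `P`
  obtain ⟨k, hk⟩ := (P.2 : IsPGroup 2 (P : Subgroup ↥M)).exists_card_eq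
  have hk0 : k ≠ 0 := by
    rintro rfl
    rw [pow_zero] at hk
    apply hnc
    haveI : Subsingleton (P : Subgroup ↥M) := (Nat.card_eq_one_iff_unique.1 hk).1
    exact isCyclic_of_subsingleton
  have hk1 : k ≠ 1 := by
    rintro rfl
    rw [pow_one] at hk
    exact hnc (isCyclic_of_prime_card hk)
  have hne2 : Fintype.card F₀ ≠ 2 := by
    rw [hcard, hk]
    intro h
    have : k = 1 := Nat.pow_right_injective (le_refl 2) (by show 2 ^ k = 2 ^ 1; rw [h])
    exact hk1 this
  have hF₀2 : ringChar F₀ = 2 := by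
    apply FiniteField.even_card_iff_char_two.2
    rw [hcard, hk]
    exact Nat.even_iff.1 ((Nat.even_pow' hk0).2 even_two)
  haveI : CharP F₀ 2 := ringChar.of_eq hF₀2
  -- two non-commuting involutions
  have hPnt : Nontrivial (P : Subgroup ↥M) := by
    by_contra h
    rw [not_nontrivial_iff_subsingleton] at h
    exact hnc isCyclic_of_subsingleton
  obtain ⟨t₁, ht₁⟩ := exists_ne (1 : (P : Subgroup ↥M))
  have ht₁1 : (t₁ : ↥M) ≠ 1 := fun h => ht₁ (Subtype.ext h)
  have ht₁o : orderOf (t₁ : ↥M) = 2 := orderOf_eq_two_of_mem hC P t₁.2 ht₁1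
  obtain ⟨P', hP'⟩ : ∃ P' : Sylow 2 ↥M, P' ≠ P := by
    by_contra h
    push Not at h
    haveI : Subsingleton (Sylow 2 ↥M) := ⟨fun a b => (h a).trans (h b).symm⟩
    exact hnn (Sylow.normal_of_subsingleton P)
  obtain ⟨g, hg⟩ := MulAction.exists_smul_eq ↥M P P'
  have hP'nt : Nontrivial (P' : Subgroup ↥M) := by
    have hc : Nat.card (P' : Subgroup ↥M) = Nat.card (P : Subgroup ↥M) := by
      rw [← hg]
      exact (Nat.card_congr (Sylow.equivSMul P g).toEquiv).symm
    rw [← Finite.one_lt_card_iff_nontrivial, hc, Finite.one_lt_card_iff_nontrivial]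
    exact hPnt
  obtain ⟨t₂, ht₂⟩ := exists_ne (1 : (P' : Subgroup ↥M))
  have ht₂1 : (t₂ : ↥M) ≠ 1 := fun h => ht₂ (Subtype.ext h)
  have ht₂o : orderOf (t₂ : ↥M) = 2 := orderOf_eq_two_of_mem hC P' t₂.2 ht₂1
  have hncomm : (t₂ : ↥M) * (t₁ : ↥M) ≠ (t₁ : ↥M) * (t₂ : ↥M) := by
    intro h
    have h1 : (t₂ : ↥M) ∈ Subgroup.centralizer ({(t₁ : ↥M)} : Set ↥M) :=
      Subgroup.mem_centralizer_singleton_iff.2 h
    rw [centralizer_eq hC P ht₁o t₁.2] at h1
    have e1 := centralizer_eq hC P ht₂o h1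
    have e2 := centralizer_eq hC P' ht₂o t₂.2
    apply hP'
    apply Sylow.ext
    rw [← e2, e1]
  -- in `SL(2,F)`
  set τ₁ : SL(2, F) := ((t₁ : ↥M) : SL(2, F)) with hτ₁
  set τ₂ : SL(2, F) := ((t₂ : ↥M) : SL(2, F)) with hτ₂
  have hτ₁M : τ₁ ∈ M := (t₁ : ↥M).2
  have hτ₂M : τ₂ ∈ M := (t₂ : ↥M).2
  have hτ₁o : orderOf τ₁ = 2 := by rw [hτ₁, Subgroup.orderOf_coe]; exact ht₁o
  have hτ₂o : orderOf τ₂ = 2 := by rw [hτ₂, Subgroup.orderOf_coe]; exact ht₂o
  have hτnc : τ₂ * τ₁ ≠ τ₁ * τ₂ := fun h => hncomm (Subtype.ext h)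
  obtain ⟨g₁, hg₁⟩ := isConj_iff.1 (Cfsg.Agent.S2302.conj_u τ₁ hτ₁o)
  rw [u_eq_uu] at hg₁
  set τ₂' := g₁⁻¹ * τ₂ * g₁ with hτ₂'
  have hτ₂'sq : τ₂' * τ₂' = 1 := by
    have : τ₂ * τ₂ = 1 := by
      have := pow_orderOf_eq_one τ₂
      rwa [hτ₂o, pow_two] at this
    calc τ₂' * τ₂' = g₁⁻¹ * (τ₂ * τ₂) * g₁ := by rw [hτ₂']; group
      _ = 1 := by rw [this]; group
  have hτ₂'nc : τ₂' * uu 1 ≠ uu 1 * τ₂' := by
    intro h
    apply hτnc
    rw [← hg₁]
    have e1 : τ₂ = g₁ * τ₂' * g₁⁻¹ := by rw [hτ₂']; group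
    rw [e1]
    calc g₁ * τ₂' * g₁⁻¹ * (g₁ * uu 1 * g₁⁻¹) = g₁ * (τ₂' * uu 1) * g₁⁻¹ := by group
      _ = g₁ * (uu 1 * τ₂') * g₁⁻¹ := by rw [h]
      _ = g₁ * uu 1 * g₁⁻¹ * (g₁ * τ₂' * g₁⁻¹) := by group
  obtain ⟨y, c, hc0, hyc⟩ := exists_conj_ll τ₂' hτ₂'sq hτ₂'nc
  set h := g₁ * uu y with hh
  have hh1 : h * uu 1 * h⁻¹ = τ₁ := by
    rw [← hg₁, hh]
    have : uu y * uu 1 * (uu y)⁻¹ = uu (1 : F) := by
      rw [uu_mul, add_comm, ← uu_mul, mul_inv_cancel_right]
    calc g₁ * uu y * uu 1 * (g₁ * uu y)⁻¹ = g₁ * (uu y * uu 1 * (uu y)⁻¹) * g₁⁻¹ := by group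
      _ = g₁ * uu 1 * g₁⁻¹ := by rw [this]
  have hh2 : h * ll c * h⁻¹ = τ₂ := by
    rw [hh]
    calc g₁ * uu y * ll c * (g₁ * uu y)⁻¹ = g₁ * (uu y * ll c * (uu y)⁻¹) * g₁⁻¹ := by group
      _ = g₁ * τ₂' * g₁⁻¹ := by rw [hyc]
      _ = τ₂ := by rw [hτ₂']; group
  -- the conjugate subgroup in standard position
  set M' := M.map (MulAut.conj h⁻¹).toMonoidHom with hM'
  have hmem : ∀ x : SL(2, F), x ∈ M' ↔ h * x * h⁻¹ ∈ M := by
    intro x
    rw [hM', Cfsg.Agent.Lib.Helper21_StronglyEmbedded.mem_map_conj_iff, inv_inv]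
  have hM'co : IsCoatom M' := isCoatom_map_conj M hM h⁻¹
  have e' : ↥M ≃* ↥M' :=
    M.equivMapOfInjective (MulAut.conj h⁻¹).toMonoidHom (MulAut.conj h⁻¹).injective
  obtain ⟨r, hr, hqr⟩ := prime_degree_of_standard M' hM'co (e'.symm.trans e)
    ((hmem _).2 (hh1 ▸ hτ₁M)) c hc0 ((hmem _).2 (hh2 ▸ hτ₂M))
  exact ⟨F₀, hF₀, hFin, r, hr, hne2, hqr, ⟨e⟩⟩

end main

end Cfsg.Agent.Lib.Helper99_SL2EvenSub
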