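import Mathlib
import Cfsg.Agent.Lib.Helper50_DkStruct
import Cfsg.Agent.Lib.Helper50_DkBorel
import Cfsg.Agent.Lib.Helper99_SL2EvenSub2
import Cfsg.Agent.Lib.Helper21_BSW8
import Cfsg.Agent.Lib.Helper61_SL2
import Cfsg.Agent.Lib.Helper5_PSLCard

/-!
# Dickson's theorem in characteristic two (helper50)

`dickson_even`: for `F` finite of characteristic `2`, the image in `PSL(2,F)` of any subgroup of
`SL(2,F)` is on Dickson's list.
-/

set_option autoImplicit false

namespace Cfsg.Agent.Lib.Helper50_DkEven

open Matrix Cfsg.Agent.Lib.Helper50_SL2Mat Cfsg.Agent.Lib.Helper50_DkPSL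
  Cfsg.Agent.Lib.Helper50_DkTorus Cfsg.Agent.Lib.Helper50_DkTorusCase
  Cfsg.Agent.Lib.Helper50_DkGroups Cfsg.Agent.Lib.Helper50_DkStruct
  Cfsg.Agent.Lib.Helper50_DkBorel
open scoped MatrixGroups

variable {F : Type*} [Field F] [CharP F 2]

theorem isScalar_iff_eq_one (g : SL(2, F)) : IsScalar g ↔ g = 1 := by
  constructor
  · intro h
    rcases h.eq_one_or with h1 | h1
    · exact h1
    · rw [h1]
      have h2 : (2 : F) = 0 := CharTwo.two_eq_zero
      apply ext4 <;> simp only [negOne, mk00, mk01, mk10, mk11, one00, one01, one10, one11]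
      · linear_combination -h2
      · linear_combination -h2
  · rintro rfl
    exact isScalar_one

/-- elements of odd order with `tr² = 4` are trivial -/
theorem hss_of_odd (A : Subgroup SL(2, F)) [Finite A] (hA : Odd (Nat.card A)) :
    ∀ y ∈ A, tr y * tr y = 4 → IsScalar y := by
  intro y hy ht
  rw [isScalar_iff_eq_one]
  by_contra hy1
  have h2 : (2 : F) = 0 := CharTwo.two_eq_zero
  have h4 : (4 : F) = 0 := by linear_combination (2 : F) * h2
  rw [h4] at ht
  have ht0 : tr y = 0 := mul_self_eq_zero.1 ht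
  have hodd : Odd (orderOf y) := by
    have h1 : orderOf (⟨y, hy⟩ : A) ∣ Nat.card A := orderOf_dvd_natCard _
    have h2 : orderOf (⟨y, hy⟩ : A) = orderOf y := Subgroup.orderOf_mk y hy
    rw [h2] at h1
    exact hA.of_dvd_nat h1
  apply Cfsg.Agent.Lib.Helper99_SL2EvenSub.trace_ne_zero_of_odd y hy1 hodd
  rw [Matrix.trace_fin_two]
  exact ht0

/-- elements of odd order with `y² = 1` are trivial -/
theorem hA2_of_odd (A : Subgroup SL(2, F)) [Finite A] (hA : Odd (Nat.card A)) :
    ∀ y ∈ A, y * y = 1 → IsScalar y := by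
  intro y hy hyy
  rw [isScalar_iff_eq_one]
  have h1 : orderOf (⟨y, hy⟩ : A) ∣ Nat.card A := orderOf_dvd_natCard _
  have h2 : orderOf (⟨y, hy⟩ : A) = orderOf y := Subgroup.orderOf_mk y hy
  rw [h2] at h1
  have hodd : Odd (orderOf y) := hA.of_dvd_nat h1
  have hd : orderOf y ∣ 2 := orderOf_dvd_of_pow_eq_one (by rw [pow_two]; exact hyy)
  rcases (Nat.dvd_prime Nat.prime_two).1 hd with h | h
  · exact orderOf_eq_one_iff.1 h
  · rw [h] at hodd
    exact absurd hodd (by decide)

variable [Fintype F]

/-- relative index of the image of a subgroup of a subgroup -/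
theorem relIndex_map_subtype {G : Type*} [Group G] (K : Subgroup G) (N : Subgroup K) :
    (N.map K.subtype).relIndex K = N.index := by
  have := Subgroup.relIndex_map_map_of_injective N ⊤ K.subtype_injective
  rw [Subgroup.relIndex_top_right, ← MonoidHom.range_eq_map, Subgroup.range_subtype] at this
  exact this

/-- **Dickson's theorem in characteristic two.** -/
theorem dickson_even [Fact (Nat.Prime 2)] (K : Subgroup SL(2, F)) :
    DList F 2 (Fintype.card F) ↥(K.map proj) := by
  classical
  obtain ⟨P⟩ : Nonempty (Sylow 2 K) := inferInstance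
  have hC : Cfsg.Agent.Lib.Helper21_BSW.CIT ↥K := Cfsg.Agent.Lib.Helper99_SL2Even.cit_subgroup K
  by_cases hnn : (P : Subgroup K).Normal
  · by_cases hdvd : 2 ∣ Nat.card K
    · -- the Borel case
      have hPne : (P : Subgroup K) ≠ ⊥ := P.ne_bot_of_dvd_card hdvd
      apply borel_case 2 _ K ((P : Subgroup K).map K.subtype) (P.isPGroup'.map K.subtype)
      · intro h
        apply hPne
        rw [Subgroup.eq_bot_iff_forall] at h ⊢
        intro x hx
        have := h _ (Subgroup.mem_map_of_mem K.subtype hx)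
        exact Subtype.ext this
      · rintro k hk _ ⟨x, hx, rfl⟩
        have := hnn.conj_mem x hx ⟨k, hk⟩
        exact ⟨_, this, rfl⟩
    · -- odd order: cyclic
      have hodd : Odd (Nat.card K) := Nat.odd_iff.2 (by omega)
      have hcomm : ∀ a ∈ K, ∀ b ∈ K, a * b = b * a := fun a ha b hb =>
        Cfsg.Agent.Lib.Helper99_SL2EvenSub.comm_of_odd K hodd a b ha hb
      obtain ⟨k, hk, hcyc, hkc⟩ := cyc_case 2 K hcomm (hss_of_odd K hodd) hdvd
      left
      exact ⟨k, hk, Or.inl ⟨hcyc, hkc⟩⟩
  · have hPne : (P : Subgroup K) ≠ ⊥ := by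
      intro h
      apply hnn
      rw [h]
      infer_instance
    have heven : 2 ∣ Nat.card K := by
      rcases P.2.card_eq_or_dvd with h | h
      · exact absurd (Subgroup.card_eq_one.1 h) hPne
      · exact h.trans (Subgroup.card_subgroup_dvd_card _)
    by_cases hcyc : IsCyclic (P : Subgroup K)
    · -- the dihedral case
      have hmin : (Nat.card K).minFac = 2 := (Nat.minFac_eq_two_iff _).2 heven
      have hcomp := IsCyclic.isComplement' hmin hcyc
      set N := (MonoidHom.transferSylow P (hcyc.normalizer_le_centralizer hmin)).ker with hN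
      have hNodd : ¬ 2 ∣ Nat.card N :=
        MonoidHom.not_dvd_card_ker_transferSylow P (hcyc.normalizer_le_centralizer hmin)
      have hNidx : N.index = Nat.card (P : Subgroup K) := hcomp.symm.index_eq_card
      have hP2 : Nat.card (P : Subgroup K) = 2 := by
        obtain ⟨g, hg⟩ := hcyc.exists_generator
        have hord : orderOf g = Nat.card (P : Subgroup K) :=
          orderOf_eq_card_of_forall_mem_zpowers hg
        have hg2 : g ^ 2 = 1 := by
          apply Subtype.ext
          have := Cfsg.Agent.Lib.Helper21_BSW.sq_eq_one_of_mem hC P g.2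
          simpa using this
        have hd : orderOf g ∣ 2 := orderOf_dvd_of_pow_eq_one hg2
        rw [hord] at hd
        rcases (Nat.dvd_prime Nat.prime_two).1 hd with h | h
        · exact absurd (Subgroup.card_eq_one.1 h) hPne
        · exact h
      set A : Subgroup SL(2, F) := N.map K.subtype with hA
      have hAK : A ≤ K := by
        rintro _ ⟨a, -, rfl⟩
        exact a.2
      have hAidx : A.relIndex K = 2 := by
        rw [hA, relIndex_map_subtype, hNidx, hP2]
      have hAcard : Nat.card A = Nat.card N :=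
        Nat.card_congr (N.equivMapOfInjective K.subtype K.subtype_injective).symm.toEquiv
      have hAodd : Odd (Nat.card A) := by
        rw [hAcard]
        exact Nat.odd_iff.2 (by omega)
      have hAab : ∀ a ∈ A, ∀ b ∈ A, a * b = b * a := fun a ha b hb =>
        Cfsg.Agent.Lib.Helper99_SL2EvenSub.comm_of_odd A hAodd a b ha hb
      have hKnab : ¬ ∀ a ∈ K, ∀ b ∈ K, a * b = b * a := by
        intro hab
        apply hnn
        refine ⟨fun n hn g => ?_⟩
        have : g * n * g⁻¹ = n := by
          apply Subtype.ext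
          have := hab g.1 g.2 n.1 n.2
          show (g : SL(2, F)) * n * (g : SL(2, F))⁻¹ = n
          rw [this, mul_assoc, mul_inv_cancel, mul_one]
        rw [this]
        exact hn
      obtain ⟨k, hk, hd⟩ := dih_of_index_two 2 K A hAK hAidx hAab hKnab
        (hss_of_odd A hAodd) (hA2_of_odd A hAodd) (by rw [hAcard]; exact hNodd)
      left
      exact ⟨k, hk, Or.inr hd⟩
    · -- the subfield case
      obtain ⟨F₀, hF₀, hFin, hcard, ⟨e⟩⟩ :=
        Cfsg.Agent.Lib.Helper21_BSW.exists_mulEquiv_SL hC P hcyc hnn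
      obtain ⟨k, hk⟩ := (P.2 : IsPGroup 2 (P : Subgroup ↥K)).exists_card_eq
      have hk0 : k ≠ 0 := by
        rintro rfl
        rw [pow_zero] at hk
        exact hPne (Subgroup.card_eq_one.1 hk)
      have hF₀2 : ringChar F₀ = 2 := by
        apply FiniteField.even_card_iff_char_two.2
        rw [hcard, hk]
        exact Nat.even_iff.1 ((Nat.even_pow' hk0).2 even_two)
      have : CharP F₀ 2 := ringChar.of_eq hF₀2
      obtain ⟨m, -, hm⟩ := FiniteField.card F₀ 2
      obtain ⟨n, -, hn⟩ := FiniteField.card F 2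
      set s := Fintype.card F₀ with hs
      set q := Fintype.card F with hq
      have hm1 : 1 ≤ (m : ℕ) := m.pos
      have hKcard : Nat.card K = s * (s ^ 2 - 1) := by
        rw [Nat.card_congr e.toEquiv, Cfsg.Agent.Lib.Helper5_PSLCard.card_SL_two]
      have hdvd : s * (s ^ 2 - 1) ∣ q * (q ^ 2 - 1) := by
        rw [← hKcard, hq, ← Cfsg.Agent.Lib.Helper5_PSLCard.card_SL_two (F := F)]
        exact Subgroup.card_subgroup_dvd_card K
      have hmn : (m : ℕ) ∣ (n : ℕ) := by
        have h3 : (s ^ 2 - 1) ∣ q * (q ^ 2 - 1) := dvd_trans (dvd_mul_left _ _) hdvd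
        have hodd : Odd (s ^ 2 - 1) := by
          rw [hm]; exact Cfsg.Agent.Lib.Helper99_SL2Even.odd_two_pow_sq_sub_one m hm1
        have hcop : Nat.Coprime (s ^ 2 - 1) q := by
          rw [hn]
          exact (Nat.coprime_two_right.2 hodd).pow_right n
        have h4 : (s ^ 2 - 1) ∣ (q ^ 2 - 1) := hcop.dvd_of_dvd_mul_left h3
        rw [hm, hn, ← pow_mul, ← pow_mul] at h4
        have h5 := Cfsg.Agent.Lib.Helper99_SL2Even.dvd_of_two_pow_sub_one_dvd _ _ h4
        exact Nat.dvd_of_mul_dvd_mul_right (by norm_num) h5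
      obtain ⟨r, hr⟩ := hmn
      have hqs : s ^ r = q := by rw [hn, hm, hr, pow_mul]
      right; right; right; right; right
      refine ⟨F₀, hF₀, hFin, r, hqs, Or.inl ?_⟩
      let φ : K →* PSL(2, F₀) :=
        (Cfsg.Agent.Lib.Helper61_SL2.pslEquivSl (F := F₀)).symm.toMonoidHom.comp e.toMonoidHom
      apply iso_of_hom_surjective K φ
      · intro x
        rw [isScalar_iff_eq_one]
        constructor
        · intro h
          have h1 : (Cfsg.Agent.Lib.Helper61_SL2.pslEquivSl (F := F₀)).symm (e x) = 1 := h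
          rw [MulEquiv.map_eq_one_iff, MulEquiv.map_eq_one_iff] at h1
          rw [h1]; rfl
        · intro h
          have hx : x = 1 := Subtype.ext h
          rw [hx, map_one]
      · intro y
        obtain ⟨x, hx⟩ := e.surjective (Cfsg.Agent.Lib.Helper61_SL2.pslEquivSl y)
        refine ⟨x, ?_⟩
        show (Cfsg.Agent.Lib.Helper61_SL2.pslEquivSl (F := F₀)).symm (e x) = y
        rw [hx, MulEquiv.symm_apply_apply]

end Cfsg.Agent.Lib.Helper50_DkEven
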