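import Mathlib
import Cfsg.Agent.Lib.Helper51_SL2Prime

set_option autoImplicit false

namespace Cfsg.Agent.Lib.Helper51_SL2Prime

open Matrix Cfsg.Agent.Lib.Helper50_SL2Mat Cfsg.Agent.Lib.Helper50_SL2Rep
  Cfsg.Agent.Lib.Helper50_SL2Classes Cfsg.Agent.Lib.Helper50_CTClass
open scoped MatrixGroups

variable {F : Type*} [Field F]

/-- **Subgroup form.** A finite subgroup `H` of `SL(2,F)` (`2 ≠ 0` in `F`) whose elements of
trace `± 2` are scalar and which has no abelian subgroup of index `≤ 2` has order `24`, `48` or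
`120`, contains `-1`, and its non-scalar elements have centralisers (in `H`) of order
`4`, `6`, `8` or `10`. -/
theorem pprime_orders_subgroup (h2 : (2 : F) ≠ 0) (H : Subgroup SL(2, F)) [Finite H]
    (hss : ∀ x ∈ H, tr x * tr x = 4 → IsScalar x)
    (hnab : ∀ A : Subgroup SL(2, F), A ≤ H → (∀ a ∈ A, ∀ b ∈ A, a * b = b * a) →
      2 < A.relIndex H) :
    (Nat.card H = 24 ∨ Nat.card H = 48 ∨ Nat.card H = 120) ∧ negOne ∈ H ∧
    ∀ x ∈ H, ¬ IsScalar x →
      (Nat.card ↥(H ⊓ Subgroup.centralizer ({x} : Set SL(2, F))) = 4 ∨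
       Nat.card ↥(H ⊓ Subgroup.centralizer ({x} : Set SL(2, F))) = 6 ∨
       Nat.card ↥(H ⊓ Subgroup.centralizer ({x} : Set SL(2, F))) = 8 ∨
       Nat.card ↥(H ⊓ Subgroup.centralizer ({x} : Set SL(2, F))) = 10) := by
  have hρ : Function.Injective H.subtype := H.subtype_injective
  have hss' : ∀ x : H, x ∉ Zs H.subtype → tr (H.subtype x) * tr (H.subtype x) ≠ 4 := by
    intro x hx ht
    exact hx (mem_Zs.2 (hss x.1 x.2 ht))
  have hnab' : ∀ A : Subgroup H, (∀ a ∈ A, ∀ b ∈ A, a * b = b * a) → 2 < A.index := by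
    intro A hA
    have h1 : A.map H.subtype ≤ H := by
      rintro _ ⟨a, -, rfl⟩
      exact a.2
    have h3 := hnab (A.map H.subtype) h1 (by
      rintro _ ⟨a, ha, rfl⟩ _ ⟨b, hb, rfl⟩
      rw [← map_mul, ← map_mul, hA a ha b hb])
    have h4 : (A.map H.subtype).relIndex H = A.index := by
      have := Subgroup.relIndex_map_map_of_injective A ⊤ hρ
      rw [Subgroup.relIndex_top_right, ← MonoidHom.range_eq_map, Subgroup.range_subtype] at this
      exact this
    rwa [h4] at h3
  obtain ⟨r1, r2, r3⟩ := pprime_orders hρ h2 hss' hnab'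
  refine ⟨r1, ?_, ?_⟩
  · -- `-1 ∈ H`
    have : 1 < Nat.card (Zs H.subtype) := by omega
    rw [Subgroup.one_lt_card_iff_ne_bot, Ne, Subgroup.eq_bot_iff_forall] at this
    push Not at this
    obtain ⟨z, hz, hz1⟩ := this
    rcases (mem_Zs.1 hz).eq_one_or with h | h
    · exact absurd (Subtype.ext h) hz1
    · rw [← h]; exact z.2
  · intro x hx hxs
    have hxZ : (⟨x, hx⟩ : H) ∉ Zs H.subtype := fun hh => hxs (mem_Zs.1 hh)
    have hcard : Nat.card ↥(H ⊓ Subgroup.centralizer ({x} : Set SL(2, F))) =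
        Nat.card (Subgroup.centralizer ({(⟨x, hx⟩ : H)} : Set H)) := by
      apply Nat.card_congr
      refine
        { toFun := fun y => ⟨⟨y.1, y.2.1⟩, ?_⟩
          invFun := fun z => ⟨z.1.1, z.1.2, ?_⟩
          left_inv := fun y => rfl
          right_inv := fun z => rfl }
      · rw [Subgroup.mem_centralizer_singleton_iff]
        apply Subtype.ext
        exact Subgroup.mem_centralizer_singleton_iff.1 y.2.2
      · show (z.1.1 : SL(2, F)) ∈ Subgroup.centralizer ({x} : Set SL(2, F))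
        rw [Subgroup.mem_centralizer_singleton_iff]
        have := Subgroup.mem_centralizer_singleton_iff.1 z.2
        exact congrArg Subtype.val this
    rw [hcard]
    exact r3 _ hxZ

/-- the coprime case gives the semisimplicity hypothesis -/
theorem hss_of_ringChar (h2 : (2 : F) ≠ 0) (H : Subgroup SL(2, F))
    (hcard : ¬ ringChar F ∣ Nat.card H) : ∀ x ∈ H, tr x * tr x = 4 → IsScalar x := by
  intro x hx ht
  apply isScalar_of_tr_sq h2 (m := Nat.card H) (fun h => hcard ((ringChar.spec F _).1 h)) _ ht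
  have : (⟨x, hx⟩ : H) ^ Nat.card H = 1 := pow_card_eq_one'
  exact congrArg Subtype.val this

/-- the coprime version of `pprime_orders_subgroup` -/
theorem pprime_orders_subgroup' (h2 : (2 : F) ≠ 0) (H : Subgroup SL(2, F)) [Finite H]
    (hcard : ¬ ringChar F ∣ Nat.card H)
    (hnab : ∀ A : Subgroup SL(2, F), A ≤ H → (∀ a ∈ A, ∀ b ∈ A, a * b = b * a) →
      2 < A.relIndex H) :
    (Nat.card H = 24 ∨ Nat.card H = 48 ∨ Nat.card H = 120) ∧ negOne ∈ H ∧
    ∀ x ∈ H, ¬ IsScalar x →
      (Nat.card ↥(H ⊓ Subgroup.centralizer ({x} : Set SL(2, F))) = 4 ∨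
       Nat.card ↥(H ⊓ Subgroup.centralizer ({x} : Set SL(2, F))) = 6 ∨
       Nat.card ↥(H ⊓ Subgroup.centralizer ({x} : Set SL(2, F))) = 8 ∨
       Nat.card ↥(H ⊓ Subgroup.centralizer ({x} : Set SL(2, F))) = 10) :=
  pprime_orders_subgroup h2 H (hss_of_ringChar h2 H hcard) hnab

end Cfsg.Agent.Lib.Helper51_SL2Prime
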