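import Mathlib
import Cfsg.Agent.S0274
import Cfsg.Agent.Lib.Helper50_SL2Dickson
import Cfsg.Agent.Lib.Helper51_SL2PrimeSub
import Cfsg.Agent.Lib.Helper5_PSLCard
import Cfsg.Agent.Lib.Helper35_PSL2Card

/-!
A weak form of Dickson's theorem for the prime field: a subgroup `M` of `SL(2,F)` or
`PSL(2,F)` with `|F| = p` an odd prime is the whole group, or all its commutators have order
dividing `p` (it is triangularisable), or the squares of its elements commute pairwise (it has
an abelian subgroup of index at most two), or it has one of three small orders.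
-/

set_option autoImplicit false

namespace Cfsg.Agent.Lib.Helper99_PSL2Prime

open Matrix
open scoped MatrixGroups commutatorElement
open Cfsg.Agent.Lib.Helper50_SL2Mat

variable {F : Type*} [Field F] [Fintype F]

/-- a field with `p` elements has characteristic `p` -/
theorem charP_of_card (p : ℕ) [Fact p.Prime] (hF : Fintype.card F = p) : CharP F p := by
  have hp : p.Prime := Fact.out
  obtain ⟨n, hpr, hc⟩ := FiniteField.card F (ringChar F)
  rw [hF] at hc
  have hdvd : ringChar F ∣ p := by
    rw [hc]; exact dvd_pow_self _ n.ne_zero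
  have : ringChar F = p := (Nat.prime_dvd_prime_iff_eq hpr hp).1 hdvd
  exact ringChar.of_eq this

/-- the order of `SL(2,F)` for `|F| = p` -/
theorem card_SL2_prime (p : ℕ) (hF : Fintype.card F = p) :
    Nat.card SL(2, F) = p * (p ^ 2 - 1) := by
  rw [Cfsg.Agent.Lib.Helper5_PSLCard.card_SL_two, hF]

/-- `SL(2, ZMod p)` has the same order -/
theorem card_SL2_zmod (p : ℕ) [Fact p.Prime] :
    Nat.card SL(2, ZMod p) = p * (p ^ 2 - 1) := by
  rw [Cfsg.Agent.Lib.Helper5_PSLCard.card_SL_two, ZMod.card]

omit [Fintype F] in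
/-- the commutator of two upper triangular matrices has trace two -/
theorem tr_commutator_of_upper {a b : SL(2, F)} (ha : a 1 0 = 0) (hb : b 1 0 = 0) :
    tr ⁅a, b⁆ = 2 := by
  have hda := det1 a
  have hdb := det1 b
  rw [ha] at hda
  rw [hb] at hdb
  rw [commutatorElement_def]
  simp only [tr, mul00, mul01, mul10, mul11, inv00, inv01, inv10, inv11, ha, hb]
  linear_combination (2 * b 0 0 * b 1 1) * hda + 2 * hdb

/-- **Weak Dickson over the prime field, in `SL(2,F)`.** -/
theorem sl2_cases (p : ℕ) [Fact p.Prime] [CharP F p] (hp2 : p ≠ 2) (hF : Fintype.card F = p)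
    (M : Subgroup SL(2, F)) :
    M = ⊤ ∨ (∀ a ∈ M, ∀ b ∈ M, ⁅a, b⁆ ^ p = 1) ∨
      (∀ a ∈ M, ∀ b ∈ M, Commute (a ^ 2) (b ^ 2)) ∨
      ((Nat.card M = 24 ∨ Nat.card M = 48 ∨ Nat.card M = 120) ∧ negOne ∈ M) := by
  classical
  have hp : p.Prime := Fact.out
  have h2F : (2 : F) ≠ 0 := by
    intro h
    have : ((2 : ℕ) : F) = 0 := by exact_mod_cast h
    rw [CharP.cast_eq_zero_iff F p] at this
    exact hp2 ((Nat.prime_dvd_prime_iff_eq hp Nat.prime_two).1 this)
  by_cases h1 : 1 < Nat.card (Sylow p M)
  · left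
    obtain ⟨K, hKM, ⟨e⟩⟩ := Cfsg.Agent.S0274.result p hp2 M h1
    have hK : Nat.card K = Nat.card SL(2, F) := by
      rw [Nat.card_congr e.toEquiv, card_SL2_zmod, card_SL2_prime p hF]
    have hKtop : K = ⊤ := Subgroup.eq_top_of_card_eq K hK
    rw [hKtop] at hKM
    exact top_le_iff.1 hKM
  · right
    have hpos : 0 < Nat.card (Sylow p M) := Nat.card_pos
    have hone : Nat.card (Sylow p M) = 1 := by omega
    have : Subsingleton (Sylow p M) := (Nat.card_eq_one_iff_unique.1 hone).1
    obtain ⟨P⟩ : Nonempty (Sylow p M) := inferInstance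
    have hPn : (P : Subgroup M).Normal := Sylow.normal_of_subsingleton P
    by_cases hdvd : p ∣ Nat.card M
    · left
      -- the normal Sylow subgroup is conjugate into the upper unitriangular group
      set P' : Subgroup SL(2, F) := (P : Subgroup M).map M.subtype with hP'
      have hP'p : IsPGroup p P' := P.isPGroup'.map M.subtype
      obtain ⟨g, hg⟩ := Cfsg.Agent.Lib.Helper50_SL2Dickson.exists_conj_of_isPGroup p P' hP'p
      have hPne : (P : Subgroup M) ≠ ⊥ := P.ne_bot_of_dvd_card hdvd
      obtain ⟨x₀, hx₀1⟩ := (Subgroup.ne_bot_iff_exists_ne_one.1 hPne)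
      set y₀ : SL(2, F) := ((x₀ : M) : SL(2, F)) with hy₀
      have hy₀P : y₀ ∈ P' := Subgroup.mem_map_of_mem M.subtype x₀.2
      obtain ⟨b₀, hb₀⟩ := hg y₀ hy₀P
      have hb₀0 : b₀ ≠ 0 := by
        rintro rfl
        rw [tU_zero] at hb₀
        have : y₀ = 1 := by
          have h := congrArg (fun z => g * z * g⁻¹) hb₀
          simp only [mul_one, mul_inv_cancel] at h
          rw [← h]; group
        apply hx₀1
        apply Subtype.ext
        apply Subtype.ext
        exact this
      -- every element of `M` becomes upper triangular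
      have hupper : ∀ m ∈ M, (g⁻¹ * m * g) 1 0 = 0 := by
        intro m hm
        have hconj : m * y₀ * m⁻¹ ∈ P' := by
          have := hPn.conj_mem (x₀ : M) x₀.2 ⟨m, hm⟩
          exact ⟨_, this, rfl⟩
        obtain ⟨b', hb'⟩ := hg _ hconj
        have hk : (g⁻¹ * m * g) * tU b₀ * (g⁻¹ * m * g)⁻¹ = tU b' := by
          rw [← hb₀, ← hb']; group
        have h10 := (conj_tU (g⁻¹ * m * g) b₀).2.2.1
        rw [hk, tU10] at h10
        have : b₀ * ((g⁻¹ * m * g) 1 0 * (g⁻¹ * m * g) 1 0) = 0 := by
          linear_combination h10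
        rcases mul_eq_zero.1 this with h | h
        · exact absurd h hb₀0
        · exact mul_self_eq_zero.1 h
      intro a ha b hb
      have htr : tr ⁅g⁻¹ * a * g, g⁻¹ * b * g⁆ = 2 :=
        tr_commutator_of_upper (hupper a ha) (hupper b hb)
      have hpow := pow_char_of_tr_two p htr
      have hc : ⁅g⁻¹ * a * g, g⁻¹ * b * g⁆ = g⁻¹ * ⁅a, b⁆ * g⁻¹⁻¹ := by
        simp only [commutatorElement_def]; group
      rw [hc, conj_pow] at hpow
      have h := congrArg (fun z => g * z * g⁻¹) hpow
      simp only [mul_one, mul_inv_cancel] at h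
      rw [← h]; group
    · right
      by_cases hnab : ∀ A : Subgroup SL(2, F), A ≤ M → (∀ a ∈ A, ∀ b ∈ A, a * b = b * a) →
          2 < A.relIndex M
      · right
        have hcard : ¬ ringChar F ∣ Nat.card M := by rwa [ringChar.eq F p]
        exact (Cfsg.Agent.Lib.Helper51_SL2Prime.pprime_orders_subgroup' h2F M hcard hnab).imp_right
          (fun h => h.1)
      · left
        push Not at hnab
        obtain ⟨A, hAM, hAab, hidx⟩ := hnab
        have hsq : ∀ a ∈ M, a ^ 2 ∈ A := by
          intro a ha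
          have hne : A.relIndex M ≠ 0 := Subgroup.index_ne_zero_of_finite
          have h12 : A.relIndex M = 1 ∨ A.relIndex M = 2 := by omega
          rcases h12 with h | h
          · exact (Subgroup.relIndex_eq_one.1 h) (M.pow_mem ha 2)
          · have := Subgroup.sq_mem_of_index_two (H := A.subgroupOf M) h ⟨a, ha⟩
            simpa [Subgroup.mem_subgroupOf] using this
        intro a ha b hb
        exact hAab _ (hsq a ha) _ (hsq b hb)

/-- twice the order of `PSL(2,F)` for `|F| = p` odd -/
theorem card_PSL2_prime (p : ℕ) [Fact p.Prime] [CharP F p] (hp2 : p ≠ 2)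
    (hF : Fintype.card F = p) : Nat.card PSL(2, F) * 2 = p * (p ^ 2 - 1) := by
  have hp : p.Prime := Fact.out
  have h2F : (2 : F) ≠ 0 := by
    intro h
    have : ((2 : ℕ) : F) = 0 := by exact_mod_cast h
    rw [CharP.cast_eq_zero_iff F p] at this
    exact hp2 ((Nat.prime_dvd_prime_iff_eq hp Nat.prime_two).1 this)
  rw [← card_SL2_prime p hF, Cfsg.Agent.Lib.Helper35_PSL2Card.card_SL2_eq_card_PSL2_mul,
    Cfsg.Agent.Lib.Helper35_PSL2Card.card_center_SL2,
    Cfsg.Agent.Lib.Helper35_PSL2Card.card_rootsOfUnity_two_of_ne h2F]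

/-- **Weak Dickson over the prime field, in `PSL(2,F)`.** -/
theorem psl2_cases (p : ℕ) [Fact p.Prime] [CharP F p] (hp2 : p ≠ 2) (hF : Fintype.card F = p)
    (M : Subgroup PSL(2, F)) :
    M = ⊤ ∨ (∀ a ∈ M, ∀ b ∈ M, ⁅a, b⁆ ^ p = 1) ∨
      (∀ a ∈ M, ∀ b ∈ M, Commute (a ^ 2) (b ^ 2)) ∨
      (Nat.card M = 12 ∨ Nat.card M = 24 ∨ Nat.card M = 60) := by
  classical
  set π : SL(2, F) →* PSL(2, F) := QuotientGroup.mk' (Subgroup.center SL(2, F)) with hπ
  have hsurj : Function.Surjective π := QuotientGroup.mk'_surjective _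
  rcases sl2_cases p hp2 hF (M.comap π) with h | h | h | ⟨h, -⟩
  · left
    rw [eq_top_iff]
    intro x _
    obtain ⟨y, rfl⟩ := hsurj x
    have : y ∈ M.comap π := by rw [h]; trivial
    exact this
  · right; left
    intro a ha b hb
    obtain ⟨a', rfl⟩ := hsurj a
    obtain ⟨b', rfl⟩ := hsurj b
    rw [← map_commutatorElement, ← map_pow, h a' ha b' hb, map_one]
  · right; right; left
    intro a ha b hb
    obtain ⟨a', rfl⟩ := hsurj a
    obtain ⟨b', rfl⟩ := hsurj b
    have := (h a' ha b' hb).map π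
    simpa only [map_pow] using this
  · right; right; right
    have hidx : (M.comap π).index = M.index := Subgroup.index_comap_of_surjective M hsurj
    have h1 := Subgroup.card_mul_index (M.comap π)
    have h2 := Subgroup.card_mul_index M
    have h3 := card_PSL2_prime p hp2 hF
    have h4 := card_SL2_prime p hF
    have hi : M.index ≠ 0 := Subgroup.index_ne_zero_of_finite
    rw [hidx] at h1
    have h5 : Nat.card (M.comap π) * M.index = (Nat.card M * 2) * M.index := by
      rw [h1, h4, ← h3, ← h2]; ring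
    have h6 : Nat.card (M.comap π) = Nat.card M * 2 := Nat.eq_of_mul_eq_mul_right (Nat.pos_of_ne_zero hi) h5
    omega

/-- transfer "all commutators have `n`-th power one" from an overgroup to an isomorphic copy -/
theorem transfer_comm_pow {G K : Type*} [Group G] [Group K] {H M : Subgroup G} (hHM : H ≤ M)
    (e : H ≃* K) (n : ℕ) (h : ∀ a ∈ M, ∀ b ∈ M, ⁅a, b⁆ ^ n = 1) (x y : K) : ⁅x, y⁆ ^ n = 1 := by
  have h0 := h _ (hHM (e.symm x).2) _ (hHM (e.symm y).2)
  have h' : ⁅e.symm x, e.symm y⁆ ^ n = 1 := by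
    apply Subtype.ext
    rw [Subgroup.coe_pow, ← Subgroup.coe_subtype, map_commutatorElement]
    exact h0
  have h2 := congrArg e h'
  rw [map_pow, map_commutatorElement, e.apply_symm_apply, e.apply_symm_apply, map_one] at h2
  exact h2

/-- transfer "all squares commute" from an overgroup to an isomorphic copy -/
theorem transfer_sq_comm {G K : Type*} [Group G] [Group K] {H M : Subgroup G} (hHM : H ≤ M)
    (e : H ≃* K) (h : ∀ a ∈ M, ∀ b ∈ M, Commute (a ^ 2) (b ^ 2)) (x y : K) :
    Commute (x ^ 2) (y ^ 2) := by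
  have h0 := h _ (hHM (e.symm x).2) _ (hHM (e.symm y).2)
  have h' : Commute ((e.symm x) ^ 2) ((e.symm y) ^ 2) := by
    apply Subtype.ext
    simp only [Subgroup.coe_mul, Subgroup.coe_pow]
    exact h0
  have h2 := h'.map e
  rw [map_pow, map_pow, e.apply_symm_apply, e.apply_symm_apply] at h2
  exact h2

end Cfsg.Agent.Lib.Helper99_PSL2Prime
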