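import Cfsg.Agent.Lib.Helper51_SL2SubIso
import Cfsg.Agent.Lib.Helper50_SL2DicksonPair
import Cfsg.Agent.Lib.Helper99_PSL2Prime

/-!
# Weak Dickson for `SL(2,F)`, `F` finite of odd characteristic

`sl2_cases_odd`: a subgroup `M` of `SL(2,F)` has all commutators of order dividing `p`
(triangularisable), or commuting squares (abelian subgroup of index `≤ 2`), or order
`24, 48, 120`, or some automorphism of `SL(2,F)` moves it to a subgroup containing `tU 1` and
`tL 1` (to which `Helper51_SL2Sub.engine` applies).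

`sl2_sq_cases`, `psl2_sq_cases`: the resulting list for `|F| = p²`.
-/

set_option autoImplicit false

namespace Cfsg.Agent.Lib.Helper51_SL2Cases

open Matrix Cfsg.Agent.Lib.Helper50_SL2Mat Cfsg.Agent.Lib.Helper51_SL2Sub
  Cfsg.Agent.Lib.Helper51_SL2SubMax Cfsg.Agent.Lib.Helper51_SL2SubMax2
open scoped MatrixGroups commutatorElement

variable {F : Type*} [Field F]

/-- conjugation by `diag(a, 1)` as an automorphism of `SL(2,F)` -/
def dEq (a : F) (ha : a ≠ 0) : SL(2, F) ≃* SL(2, F) where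
  toFun h := mk (h 0 0) (a * h 0 1) (h 1 0 / a) (h 1 1) (by
    have := det1 h
    field_simp
    linear_combination this)
  invFun h := mk (h 0 0) (h 0 1 / a) (a * h 1 0) (h 1 1) (by
    have := det1 h
    field_simp
    linear_combination this)
  left_inv h := by
    apply ext4 <;> simp only [mk00, mk01, mk10, mk11]
    · field_simp
    · field_simp
  right_inv h := by
    apply ext4 <;> simp only [mk00, mk01, mk10, mk11]
    · field_simp
    · field_simp
  map_mul' g h := by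
    apply ext4 <;> simp only [mul00, mul01, mul10, mul11, mk00, mk01, mk10, mk11]
    · field_simp
    · ring
    · field_simp
    · field_simp

theorem dEq_symm_tU (a : F) (ha : a ≠ 0) (x : F) : (dEq a ha).symm (tU x) = tU (x / a) := by
  apply ext4 <;> simp [dEq]

theorem dEq_symm_tL (a : F) (ha : a ≠ 0) (x : F) : (dEq a ha).symm (tL x) = tL (a * x) := by
  apply ext4 <;> simp [dEq]

/-- a non-`p`-closed subgroup can be moved by an automorphism to contain `tU 1` and `tL 1` -/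
theorem exists_aut [Fintype F] (p : ℕ) [Fact p.Prime] [CharP F p] (hp : p ≠ 2)
    (M : Subgroup SL(2, F)) (hM : 1 < Nat.card (Sylow p M)) :
    ∃ φ : SL(2, F) ≃* SL(2, F), tU 1 ∈ M.map φ.toMonoidHom ∧ tL 1 ∈ M.map φ.toMonoidHom := by
  obtain ⟨g, a, ha, hall⟩ :=
    Cfsg.Agent.Lib.Helper50_SL2DicksonPair.dickson_strong p hp M hM
  refine ⟨(MulAut.conj g).trans (dEq a ha).symm, ?_, ?_⟩
  · refine ⟨_, hall (tU 1), ?_⟩
    show (dEq a ha).symm (g * (g⁻¹ * _ * g) * g⁻¹) = _
    have : g * (g⁻¹ * Cfsg.Agent.Lib.Helper50_SL2Gen.dmap p a ha (tU 1) * g) * g⁻¹ =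
        Cfsg.Agent.Lib.Helper50_SL2Gen.dmap p a ha (tU 1) := by group
    rw [this, Cfsg.Agent.Lib.Helper50_SL2Gen.dmap_tU, dEq_symm_tU, div_self ha]
  · refine ⟨_, hall (tL 1), ?_⟩
    show (dEq a ha).symm (g * (g⁻¹ * _ * g) * g⁻¹) = _
    have : g * (g⁻¹ * Cfsg.Agent.Lib.Helper50_SL2Gen.dmap p a ha (tL 1) * g) * g⁻¹ =
        Cfsg.Agent.Lib.Helper50_SL2Gen.dmap p a ha (tL 1) := by group
    rw [this, Cfsg.Agent.Lib.Helper50_SL2Gen.dmap_tL, dEq_symm_tL, map_one, mul_one_div_cancel ha]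

/-- **Weak Dickson in odd characteristic, in `SL(2,F)`.** -/
theorem sl2_cases_odd [Fintype F] (p : ℕ) [Fact p.Prime] [CharP F p] (hp2 : p ≠ 2)
    (M : Subgroup SL(2, F)) :
    (∃ φ : SL(2, F) ≃* SL(2, F), tU 1 ∈ M.map φ.toMonoidHom ∧ tL 1 ∈ M.map φ.toMonoidHom) ∨
      (∀ a ∈ M, ∀ b ∈ M, ⁅a, b⁆ ^ p = 1) ∨
      (∀ a ∈ M, ∀ b ∈ M, Commute (a ^ 2) (b ^ 2)) ∨
      ((Nat.card M = 24 ∨ Nat.card M = 48 ∨ Nat.card M = 120) ∧ negOne ∈ M) := by
  classical
  have hp : p.Prime := Fact.out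
  have h2F : (2 : F) ≠ 0 := by
    intro h
    have : ((2 : ℕ) : F) = 0 := by exact_mod_cast h
    rw [CharP.cast_eq_zero_iff F p] at this
    exact hp2 ((Nat.prime_dvd_prime_iff_eq hp Nat.prime_two).1 this)
  by_cases h1 : 1 < Nat.card (Sylow p M)
  · left
    exact exists_aut p hp2 M h1
  · right
    have hpos : 0 < Nat.card (Sylow p M) := Nat.card_pos
    have hone : Nat.card (Sylow p M) = 1 := by omega
    have : Subsingleton (Sylow p M) := (Nat.card_eq_one_iff_unique.1 hone).1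
    obtain ⟨P⟩ : Nonempty (Sylow p M) := inferInstance
    have hPn : (P : Subgroup M).Normal := Sylow.normal_of_subsingleton P
    by_cases hdvd : p ∣ Nat.card M
    · left
      set P' : Subgroup SL(2, F) := (P : Subgroup M).map M.subtype with hP'
      have hP'p : IsPGroup p P' := P.isPGroup'.map M.subtype
      obtain ⟨g, hg⟩ := Cfsg.Agent.Lib.Helper50_SL2Dickson.exists_conj_of_isPGroup p P' hP'p
      have hPne : (P : Subgroup M) ≠ ⊥ := P.ne_bot_of_dvd_card hdvd
      obtain ⟨x₀, hx₀1⟩ := (Subgroup.ne_bot_iff_exists_ne_one.1 hPne)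
      set y₀ : SL(2, F) := ((x₀ : M) : SL(2, F)) with hy₀
      have hy₀P : y₀ ∈ P' := Subgroup.mem_map_of_mem M.subtype x₀.2
      obtain ⟨b₀, hb₀⟩ := hg y₀ hy₀P
      have hb₀0 : b₀ ≠ 0 := by
        rintro rfl
        rw [tU_zero] at hb₀
        have : y₀ = 1 := by
          have h := congrArg (fun z => g * z * g⁻¹) hb₀
          simp only [mul_one, mul_inv_cancel] at h
          rw [← h]; group
        apply hx₀1
        apply Subtype.ext
        apply Subtype.ext
        exact this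
      have hupper : ∀ m ∈ M, (g⁻¹ * m * g) 1 0 = 0 := by
        intro m hm
        have hconj : m * y₀ * m⁻¹ ∈ P' := by
          have := hPn.conj_mem (x₀ : M) x₀.2 ⟨m, hm⟩
          exact ⟨_, this, rfl⟩
        obtain ⟨b', hb'⟩ := hg _ hconj
        have hk : (g⁻¹ * m * g) * tU b₀ * (g⁻¹ * m * g)⁻¹ = tU b' := by
          rw [← hb₀, ← hb']; group
        have h10 := (conj_tU (g⁻¹ * m * g) b₀).2.2.1
        rw [hk, tU10] at h10
        have : b₀ * ((g⁻¹ * m * g) 1 0 * (g⁻¹ * m * g) 1 0) = 0 := by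
          linear_combination h10
        rcases mul_eq_zero.1 this with h | h
        · exact absurd h hb₀0
        · exact mul_self_eq_zero.1 h
      intro a ha b hb
      have htr : tr ⁅g⁻¹ * a * g, g⁻¹ * b * g⁆ = 2 :=
        Cfsg.Agent.Lib.Helper99_PSL2Prime.tr_commutator_of_upper (hupper a ha) (hupper b hb)
      have hpow := pow_char_of_tr_two p htr
      have hc : ⁅g⁻¹ * a * g, g⁻¹ * b * g⁆ = g⁻¹ * ⁅a, b⁆ * g⁻¹⁻¹ := by
        simp only [commutatorElement_def]; group
      rw [hc, conj_pow] at hpow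
      have h := congrArg (fun z => g * z * g⁻¹) hpow
      simp only [mul_one, mul_inv_cancel] at h
      rw [← h]; group
    · right
      by_cases hnab : ∀ A : Subgroup SL(2, F), A ≤ M → (∀ a ∈ A, ∀ b ∈ A, a * b = b * a) →
          2 < A.relIndex M
      · right
        have hcard : ¬ ringChar F ∣ Nat.card M := by rwa [ringChar.eq F p]
        exact (Cfsg.Agent.Lib.Helper51_SL2Prime.pprime_orders_subgroup' h2F M hcard hnab).imp_right
          (fun h => h.1)
      · left
        push Not at hnab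
        obtain ⟨A, hAM, hAab, hidx⟩ := hnab
        have hsq : ∀ a ∈ M, a ^ 2 ∈ A := by
          intro a ha
          have hne : A.relIndex M ≠ 0 := Subgroup.index_ne_zero_of_finite
          have h12 : A.relIndex M = 1 ∨ A.relIndex M = 2 := by omega
          rcases h12 with h | h
          · exact (Subgroup.relIndex_eq_one.1 h) (M.pow_mem ha 2)
          · have := Subgroup.sq_mem_of_index_two (H := A.subgroupOf M) h ⟨a, ha⟩
            simpa [Subgroup.mem_subgroupOf] using this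
        intro a ha b hb
        exact hAab _ (hsq a ha) _ (hsq b hb)

section subfield

variable {K : Type*} [Field K] [Fintype K]

/-- two elements of the normaliser outside the subfield subgroup differ by an element of it -/
theorem mul_inv_mem_S0 (ι : K →+* F) (h2 : (2 : F) ≠ 0) {g n : SL(2, F)} (hgN : g ∈ N0 ι)
    (hgS : g ∉ S0 ι) (hnN : n ∈ N0 ι) (hnS : n ∉ S0 ι) : n * g⁻¹ ∈ S0 ι := by
  obtain ⟨a, ha0, haa, hg⟩ := hgN
  have ha' : a ∉ Set.range ι := by
    rintro ⟨a', rfl⟩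
    apply hgS
    rw [mem_S0_iff]
    intro i j
    obtain ⟨_, ⟨t, rfl⟩, e⟩ := hg i j
    exact ⟨a' * t, by rw [map_mul, e]⟩
  obtain ⟨b, hb0, hbb, hnent⟩ := hnN
  have hb' : b ∉ Set.range ι := by
    rintro ⟨b', rfl⟩
    apply hnS
    rw [mem_S0_iff]
    intro i j
    obtain ⟨_, ⟨t, rfl⟩, e⟩ := hnent i j
    exact ⟨b' * t, by rw [map_mul, e]⟩
  obtain ⟨ab, hab⟩ := Cfsg.Agent.Lib.Helper51_SL2SubIso.mul_mem_range ι h2 haa hbb ha' hb'
  obtain ⟨_, ⟨g00, rfl⟩, e00⟩ := hg 0 0
  obtain ⟨_, ⟨g01, rfl⟩, e01⟩ := hg 0 1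
  obtain ⟨_, ⟨g10, rfl⟩, e10⟩ := hg 1 0
  obtain ⟨_, ⟨g11, rfl⟩, e11⟩ := hg 1 1
  obtain ⟨_, ⟨n00, rfl⟩, f00⟩ := hnent 0 0
  obtain ⟨_, ⟨n01, rfl⟩, f01⟩ := hnent 0 1
  obtain ⟨_, ⟨n10, rfl⟩, f10⟩ := hnent 1 0
  obtain ⟨_, ⟨n11, rfl⟩, f11⟩ := hnent 1 1
  rw [mem_S0_iff]
  intro i j
  fin_cases i <;> fin_cases j
  · refine ⟨ab * (n00 * g11 - n01 * g10), ?_⟩
    show _ = (n * g⁻¹ : SL(2, F)) 0 0
    rw [mul00, inv00, inv10, f00, f01, e11, e10, map_mul, map_sub, map_mul, map_mul, hab]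
    ring
  · refine ⟨ab * (n01 * g00 - n00 * g01), ?_⟩
    show _ = (n * g⁻¹ : SL(2, F)) 0 1
    rw [mul01, inv01, inv11, f00, f01, e01, e00, map_mul, map_sub, map_mul, map_mul, hab]
    ring
  · refine ⟨ab * (n10 * g11 - n11 * g10), ?_⟩
    show _ = (n * g⁻¹ : SL(2, F)) 1 0
    rw [mul10, inv00, inv10, f10, f11, e11, e10, map_mul, map_sub, map_mul, map_mul, hab]
    ring
  · refine ⟨ab * (n11 * g00 - n10 * g01), ?_⟩
    show _ = (n * g⁻¹ : SL(2, F)) 1 1
    rw [mul11, inv01, inv11, f10, f11, e01, e00, map_mul, map_sub, map_mul, map_mul, hab]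
    ring

/-- the subfield subgroup has index at most two in its normaliser -/
theorem relIndex_S0_N0 (ι : K →+* F) (h2 : (2 : F) ≠ 0) : (S0 ι).relIndex (N0 ι) ∣ 2 := by
  rw [Subgroup.relIndex_dvd_two_iff]
  by_cases hle : N0 ι ≤ S0 ι
  · exact ⟨1, (N0 ι).one_mem, fun b hb => Or.inr (hle hb)⟩
  · obtain ⟨g, hgN, hgS⟩ := SetLike.not_le_iff_exists.1 hle
    refine ⟨g⁻¹, (N0 ι).inv_mem hgN, fun b hb => ?_⟩
    by_cases hbS : b ∈ S0 ι
    · exact Or.inr hbS
    · exact Or.inl (mul_inv_mem_S0 ι h2 hgN hgS hb hbS)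

theorem card_N0_dvd (ι : K →+* F) (h2 : (2 : F) ≠ 0) :
    Nat.card (N0 ι) ∣ 2 * (Fintype.card K * (Fintype.card K ^ 2 - 1)) := by
  have h1 := Subgroup.relIndex_mul_relIndex (⊥ : Subgroup SL(2, F)) (S0 ι) (N0 ι) bot_le
    (S0_le_N0 ι)
  rw [Subgroup.relIndex_bot_left, Subgroup.relIndex_bot_left, card_S0] at h1
  rw [← h1, mul_comm 2]
  exact Nat.mul_dvd_mul_left _ (relIndex_S0_N0 ι h2)

end subfield

section square

variable [Fintype F]

omit [Fintype F] in
theorem two_ne_zero_of_char (p : ℕ) [Fact p.Prime] [CharP F p] (hp2 : p ≠ 2) : (2 : F) ≠ 0 := by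
  have hp : p.Prime := Fact.out
  intro h
  have : ((2 : ℕ) : F) = 0 := by exact_mod_cast h
  rw [CharP.cast_eq_zero_iff F p] at this
  exact hp2 ((Nat.prime_dvd_prime_iff_eq hp Nat.prime_two).1 this)

/-- **Weak Dickson for `SL(2, p²)`.** -/
theorem sl2_sq_cases (p : ℕ) [Fact p.Prime] [CharP F p] (hp2 : p ≠ 2)
    (hF : Fintype.card F = p ^ 2) (M : Subgroup SL(2, F)) :
    M = ⊤ ∨ (∀ a ∈ M, ∀ b ∈ M, ⁅a, b⁆ ^ p = 1) ∨
      (∀ a ∈ M, ∀ b ∈ M, Commute (a ^ 2) (b ^ 2)) ∨
      (Nat.card M = 24 ∨ Nat.card M = 48 ∨ Nat.card M = 120) ∨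
      Nat.card M ∣ 2 * (p * (p ^ 2 - 1)) ∨
      (p = 3 ∧ (Nat.card M = 60 ∨ Nat.card M = 120)) := by
  classical
  have h2F := two_ne_zero_of_char (F := F) p hp2
  rcases sl2_cases_odd p hp2 M with ⟨φ, hU, hL⟩ | h | h | h
  · set M' : Subgroup SL(2, F) := M.map φ.toMonoidHom with hM'
    have hcard : Nat.card M' = Nat.card M :=
      (Nat.card_congr (M.equivMapOfInjective φ.toMonoidHom φ.injective).toEquiv).symm
    have htop : M' = ⊤ → M = ⊤ := by
      intro h
      rw [eq_top_iff]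
      intro x _
      have hx : φ x ∈ M' := by rw [h]; trivial
      obtain ⟨y, hy, hyx⟩ := hx
      have : y = x := φ.injective hyx
      rwa [← this]
    rcases engine hp2 M' hU hL with hG | ⟨h3, -, hc⟩
    · let ι₀ : ZMod p →+* F := ZMod.castHom (dvd_refl p) F
      have hF' : Fintype.card F = Fintype.card (ZMod p) ^ 2 := by rw [ZMod.card, hF]
      have hι : ∀ x : ZMod p, ι₀ x ∈ AA M' := by
        intro x
        have h1 := AA_nsmul hG.one_mem x.val
        rw [mul_one, ZMod.natCast_val] at h1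
        exact h1
      rcases subring_cases ι₀ Nat.prime_two hF' (AA M') hι
        (fun x hx y hy => AA_add hx hy) hG.mul_mem with hA | hA
      · right; right; right; right; left
        have hle : M' ≤ N0 ι₀ := by
          intro g hg
          rw [mem_N0, ← hA]
          exact hG.entries g hg
        have h1 := Subgroup.card_dvd_of_le hle
        have h2 := card_N0_dvd ι₀ h2F
        rw [ZMod.card] at h2
        rw [← hcard]
        exact h1.trans h2
      · left
        apply htop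
        apply Cfsg.Agent.Lib.Helper50_SL2Gen.closure_eq_top_of_forall
        · intro c
          have : c ∈ AA M' := by rw [hA]; trivial
          exact this
        · intro c
          have : c ∈ AA M' := by rw [hA]; trivial
          exact tL_mem_of_AA hU hL this
    · right; right; right; right; right
      rw [← hcard]
      exact ⟨h3, hc⟩
  · right; left; exact h
  · right; right; left; exact h
  · right; right; right; left; exact h.1

/-- `|SL(2,F)| = 2 |PSL(2,F)|` in odd characteristic -/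
theorem card_comap_mk (h2F : (2 : F) ≠ 0) (M : Subgroup PSL(2, F)) :
    Nat.card (M.comap (QuotientGroup.mk' (Subgroup.center SL(2, F)))) = Nat.card M * 2 := by
  set π : SL(2, F) →* PSL(2, F) := QuotientGroup.mk' (Subgroup.center SL(2, F)) with hπ
  have hsurj : Function.Surjective π := QuotientGroup.mk'_surjective _
  have hidx : (M.comap π).index = M.index := Subgroup.index_comap_of_surjective M hsurj
  have h1 := Subgroup.card_mul_index (M.comap π)
  have h2 := Subgroup.card_mul_index M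
  have h3 : Nat.card SL(2, F) = Nat.card PSL(2, F) * 2 := by
    rw [Cfsg.Agent.Lib.Helper35_PSL2Card.card_SL2_eq_card_PSL2_mul,
      Cfsg.Agent.Lib.Helper35_PSL2Card.card_center_SL2,
      Cfsg.Agent.Lib.Helper35_PSL2Card.card_rootsOfUnity_two_of_ne h2F]
  have hi : M.index ≠ 0 := Subgroup.index_ne_zero_of_finite
  rw [hidx] at h1
  have h5 : Nat.card (M.comap π) * M.index = (Nat.card M * 2) * M.index := by
    rw [h1, h3, ← h2]; ring
  exact Nat.eq_of_mul_eq_mul_right (Nat.pos_of_ne_zero hi) h5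

/-- the order of `PSL(2,F)` in odd characteristic -/
theorem card_PSL2_odd (h2F : (2 : F) ≠ 0) :
    Nat.card PSL(2, F) * 2 = Fintype.card F * (Fintype.card F ^ 2 - 1) := by
  rw [← Cfsg.Agent.Lib.Helper5_PSLCard.card_SL_two,
    Cfsg.Agent.Lib.Helper35_PSL2Card.card_SL2_eq_card_PSL2_mul,
    Cfsg.Agent.Lib.Helper35_PSL2Card.card_center_SL2,
    Cfsg.Agent.Lib.Helper35_PSL2Card.card_rootsOfUnity_two_of_ne h2F]

/-- **Weak Dickson for `PSL(2, p²)`.** -/
theorem psl2_sq_cases (p : ℕ) [Fact p.Prime] [CharP F p] (hp2 : p ≠ 2)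
    (hF : Fintype.card F = p ^ 2) (M : Subgroup PSL(2, F)) :
    M = ⊤ ∨ (∀ a ∈ M, ∀ b ∈ M, ⁅a, b⁆ ^ p = 1) ∨
      (∀ a ∈ M, ∀ b ∈ M, Commute (a ^ 2) (b ^ 2)) ∨
      (Nat.card M = 12 ∨ Nat.card M = 24 ∨ Nat.card M = 60) ∨
      Nat.card M ∣ p * (p ^ 2 - 1) ∨
      (p = 3 ∧ (Nat.card M = 30 ∨ Nat.card M = 60)) := by
  classical
  have h2F := two_ne_zero_of_char (F := F) p hp2
  set π : SL(2, F) →* PSL(2, F) := QuotientGroup.mk' (Subgroup.center SL(2, F)) with hπ
  have hsurj : Function.Surjective π := QuotientGroup.mk'_surjective _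
  have h6 := card_comap_mk h2F M
  rcases sl2_sq_cases p hp2 hF (M.comap π) with h | h | h | h | h | ⟨h3, h⟩
  · left
    rw [eq_top_iff]
    intro x _
    obtain ⟨y, rfl⟩ := hsurj x
    have : y ∈ M.comap π := by rw [h]; trivial
    exact this
  · right; left
    intro a ha b hb
    obtain ⟨a', rfl⟩ := hsurj a
    obtain ⟨b', rfl⟩ := hsurj b
    rw [← map_commutatorElement, ← map_pow, h a' ha b' hb, map_one]
  · right; right; left
    intro a ha b hb
    obtain ⟨a', rfl⟩ := hsurj a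
    obtain ⟨b', rfl⟩ := hsurj b
    have := (h a' ha b' hb).map π
    simpa only [map_pow] using this
  · right; right; right; left
    rw [h6] at h
    omega
  · right; right; right; right; left
    rw [h6, mul_comm] at h
    exact Nat.dvd_of_mul_dvd_mul_left (by norm_num) h
  · right; right; right; right; right
    rw [h6] at h
    exact ⟨h3, by omega⟩

end square

end Cfsg.Agent.Lib.Helper51_SL2Cases
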