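import Mathlib
import Cfsg.Agent.Lib.Helper50_DkStruct
import Cfsg.Agent.Lib.Helper50_DkBorel
import Cfsg.Agent.Lib.Helper51_SL2Cases
import Cfsg.Agent.Lib.Helper51_SL2PrimeSub
import Cfsg.Agent.Lib.Helper5_PSLCard

/-!
# Dickson's theorem in odd characteristic (helper50)

`dickson_odd`: for `F` finite of odd characteristic `p`, the image in `PSL(2,F)` of any subgroup of
`SL(2,F)` is on Dickson's list.
-/

set_option autoImplicit false

namespace Cfsg.Agent.Lib.Helper50_DkOdd

open Matrix Cfsg.Agent.Lib.Helper50_SL2Mat Cfsg.Agent.Lib.Helper50_DkPSL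
  Cfsg.Agent.Lib.Helper50_DkTorus Cfsg.Agent.Lib.Helper50_DkTorusCase
  Cfsg.Agent.Lib.Helper50_DkGroups Cfsg.Agent.Lib.Helper50_DkStruct
  Cfsg.Agent.Lib.Helper50_DkBorel
open scoped MatrixGroups

/-- a copy in `Type` of a finite field -/
theorem exists_type_zero_field (A : Type*) [Field A] [Finite A] :
    ∃ (K : Type) (_ : Field K) (_ : Fintype K), Nonempty (K ≃+* A) := by
  classical
  have : Fintype A := Fintype.ofFinite A
  obtain ⟨p, hchar⟩ := CharP.exists A
  have hp : p.Prime := (CharP.char_is_prime_or_zero A p).resolve_right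
    (fun h0 => by
      subst h0
      have := CharP.charP_to_charZero A
      exact not_finite A)
  have : Fact p.Prime := ⟨hp⟩
  obtain ⟨n, -, hcard⟩ := FiniteField.card A p
  have : Fintype (GaloisField p n) := Fintype.ofFinite _
  refine ⟨GaloisField p n, inferInstance, inferInstance, ⟨?_⟩⟩
  apply FiniteField.ringEquivOfCardEq
  rw [hcard, ← Nat.card_eq_fintype_card, GaloisField.card p n n.ne_zero]

variable {F : Type*} [Field F] [Fintype F] (p : ℕ) [Fact p.Prime] [CharP F p]

omit [Fintype F] in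
theorem two_ne_zero_of_char (hp2 : p ≠ 2) : (2 : F) ≠ 0 := by
  intro h
  have : ((2 : ℕ) : F) = 0 := by exact_mod_cast h
  rw [CharP.cast_eq_zero_iff F p] at this
  exact hp2 ((Nat.prime_dvd_prime_iff_eq (Fact.out : p.Prime) Nat.prime_two).1 this)

/-- **The coprime case.** -/
theorem coprime_case (hp2 : p ≠ 2) (K : Subgroup SL(2, F)) (hcop : ¬ p ∣ Nat.card K) :
    DList F p (Fintype.card F) ↥(K.map proj) := by
  have h2 : (2 : F) ≠ 0 := two_ne_zero_of_char p hp2
  have hcard : ¬ ringChar F ∣ Nat.card K := by rwa [ringChar.eq F p]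
  have hss := Cfsg.Agent.Lib.Helper51_SL2Prime.hss_of_ringChar h2 K hcard
  by_cases hnab : ∀ A : Subgroup SL(2, F), A ≤ K → (∀ a ∈ A, ∀ b ∈ A, a * b = b * a) →
      2 < A.relIndex K
  · obtain ⟨hc, hneg, -⟩ :=
      Cfsg.Agent.Lib.Helper51_SL2Prime.pprime_orders_subgroup' h2 K hcard hnab
    have hX := card_map_proj h2 K hneg
    have hnnc : NNC ↥(K.map proj) := by
      apply nnc_map_proj h2 K hnab
      intro v hv htr _
      have hs : IsScalar v := hss v hv (by rw [htr]; norm_num)
      exact hs.eq_one_of_tr h2 htr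
    rcases hc with h | h | h
    · right; right; left
      exact equiv_A4 hnnc (by omega)
    · right; right; right; left
      exact equiv_S4 hnnc (by omega)
    · right; right; right; right; left
      exact equiv_A5 hnnc (by omega)
  · push Not at hnab
    obtain ⟨A, hAK, hAab, hAidx⟩ := hnab
    left
    by_cases hKab : ∀ a ∈ K, ∀ b ∈ K, a * b = b * a
    · obtain ⟨k, hk, hcyc, hkc⟩ := cyc_case p K hKab hss hcop
      exact ⟨k, hk, Or.inl ⟨hcyc, hkc⟩⟩
    · have hne : A.relIndex K ≠ 0 := Subgroup.index_ne_zero_of_finite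
      have hne1 : A.relIndex K ≠ 1 := by
        intro h
        apply hKab
        intro a ha b hb
        have hle := Subgroup.relIndex_eq_one.1 h
        exact hAab a (hle ha) b (hle hb)
      have hidx : A.relIndex K = 2 := by omega
      obtain ⟨k, hk, hd⟩ := dih_of_index_two p K A hAK hidx hAab hKab
        (fun y hy => hss y (hAK hy))
        (fun y _ h => Cfsg.Agent.Lib.Helper50_SL2Rep.isScalar_of_sq h2 h)
        (fun h => hcop (h.trans (Subgroup.card_dvd_of_le hAK)))
      exact ⟨k, hk, Or.inr hd⟩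

/-- `tU 1 * tU 1` and `tL 1 * tL 1` do not commute in odd characteristic -/
theorem not_comm_sq (h2 : (2 : F) ≠ 0) :
    (tU (1 : F) * tU 1) * (tL 1 * tL 1) ≠ (tL 1 * tL 1) * (tU 1 * tU 1) := by
  intro h
  have := congrArg (fun g : SL(2, F) => g 0 0) h
  simp only [mul00, mul01, mul10, mul11, tU00, tU01, tU10, tU11, tL00, tL01, tL10, tL11] at this
  have h4 : (2 : F) * 2 = 0 := by linear_combination this
  rcases mul_eq_zero.1 h4 with h | h <;> exact h2 h

/-- subgroups containing `tU 1` and `tL 1` have image without cyclic normal subgroups -/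
theorem nnc_of_tU_tL (hp2 : p ≠ 2) (M : Subgroup SL(2, F)) (hU : tU 1 ∈ M) (hL : tL 1 ∈ M) :
    NNC ↥(M.map proj) := by
  have h2 : (2 : F) ≠ 0 := two_ne_zero_of_char p hp2
  apply nnc_map_proj h2 M
  · intro A hAM hAab
    by_contra hle
    have hne : A.relIndex M ≠ 0 := Subgroup.index_ne_zero_of_finite
    have hsq : ∀ g ∈ M, g * g ∈ A := by
      intro g hg
      have h12 : A.relIndex M = 1 ∨ A.relIndex M = 2 := by omega
      rcases h12 with h | h
      · exact (Subgroup.relIndex_eq_one.1 h) (M.mul_mem hg hg)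
      · have := Subgroup.mul_self_mem_of_index_two (H := A.subgroupOf M) h ⟨g, hg⟩
        exact Subgroup.mem_subgroupOf.1 this
    exact not_comm_sq h2 (hAab _ (hsq _ hU) _ (hsq _ hL))
  · intro v hvM htr hnorm
    by_contra hv1
    have hvp : v ^ p = 1 := pow_char_of_tr_two p htr
    have hV : IsPGroup p (Subgroup.zpowers v) := by
      apply IsPGroup.of_card (n := 1)
      rw [Nat.card_zpowers, pow_one]
      exact orderOf_eq_prime hvp hv1
    have hV1 : Subgroup.zpowers v ≠ ⊥ := by
      rw [Ne, Subgroup.zpowers_eq_bot]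
      exact hv1
    have hn : ∀ k ∈ M, ∀ x ∈ Subgroup.zpowers v, k * x * k⁻¹ ∈ Subgroup.zpowers v := by
      intro k hk x hx
      obtain ⟨i, rfl⟩ := Subgroup.mem_zpowers_iff.1 hx
      obtain ⟨j, hj⟩ := hnorm k hk
      have : k * v ^ i * k⁻¹ = (k * v * k⁻¹) ^ i := by
        have := map_zpow (MulAut.conj k).toMonoidHom v i
        simpa [MulAut.conj_apply] using this
      rw [this, hj]
      exact Subgroup.zpow_mem _ (Subgroup.zpow_mem _ (Subgroup.mem_zpowers v) j) i
    obtain ⟨g, hg⟩ := exists_conj_lower_zero p M (Subgroup.zpowers v) hV hV1 hn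
    have e1 := hg _ hU
    have e2 := hg _ hL
    simp only [mul00, mul01, mul10, mul11, inv00, inv01, inv10, inv11, tU00, tU01, tU10, tU11,
      tL00, tL01, tL10, tL11] at e1 e2
    have hd := det1 g
    have h10 : g 1 0 = 0 := by
      have : g 1 0 * g 1 0 = 0 := by linear_combination -e1
      exact mul_self_eq_zero.1 this
    have h00 : g 0 0 = 0 := by
      have : g 0 0 * g 0 0 = 0 := by linear_combination e2
      exact mul_self_eq_zero.1 this
    rw [h10, h00] at hd
    simp at hd


open Cfsg.Agent.Lib.Helper51_SL2Sub Cfsg.Agent.Lib.Helper51_SL2SubMax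
  Cfsg.Agent.Lib.Helper51_SL2SubMax2 Cfsg.Agent.Lib.Helper51_SL2SubIso in
/-- **The good case**: the image is `PSL(2,K)` or `PGL(2,K)` for a subfield `K`. -/
theorem good_case (hp2 : p ≠ 2) (M : Subgroup SL(2, F)) (hG : Good M) :
    DList F p (Fintype.card F) ↥(M.map proj) := by
  classical
  have h2 : (2 : F) ≠ 0 := two_ne_zero_of_char p hp2
  obtain ⟨K₀, i1, i2, ⟨e⟩⟩ := exists_type_zero_field ↥(subf hG)
  set ι₀ : K₀ →+* F := (subf hG).subtype.comp (e : K₀ →+* ↥(subf hG)) with hι₀
  have hrange : Set.range ι₀ = Set.range (subf hG).subtype := by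
    ext x
    constructor
    · rintro ⟨y, rfl⟩
      exact ⟨e y, rfl⟩
    · rintro ⟨a, rfl⟩
      exact ⟨e.symm a, by simp [hι₀]⟩
  have hS0 : S0 ι₀ = S0 (subf hG).subtype := by
    ext g
    rw [mem_S0_iff, mem_S0_iff, hrange]
  have hN0 : N0 ι₀ = N0 (subf hG).subtype := by
    ext g
    rw [mem_N0, mem_N0, hrange]
  have h1 : S0 ι₀ ≤ M := hS0 ▸ S0_le hG
  have h3 : M ≤ N0 ι₀ := hN0 ▸ le_N0 hG
  have hm : Fintype.card K₀ ^ (@Module.finrank K₀ F _ _ ι₀.toAlgebra.toModule) =
      Fintype.card F := by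
    let _ := ι₀.toAlgebra
    exact (Module.card_eq_pow_finrank (K := K₀) (V := F)).symm
  right; right; right; right; right
  refine ⟨K₀, i1, i2, _, hm, ?_⟩
  have hS : M = S0 ι₀ → Nonempty (↥(M.map proj) ≃* PSL(2, K₀)) := by
    intro h
    obtain ⟨f⟩ := nonempty_iso_psl ι₀
    exact ⟨(MulEquiv.subgroupCongr (congrArg (Subgroup.map proj) h)).trans f⟩
  rcases N0_cases ι₀ h2 M h1 h3 with h | h
  · left; exact hS h
  · by_cases hne : S0 ι₀ = N0 ι₀
    · left; exact hS (h.trans hne.symm)
    · right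
      obtain ⟨f⟩ := nonempty_iso_pgl ι₀ (isSquare_of_ne ι₀ h2 hne)
      exact ⟨(MulEquiv.subgroupCongr (congrArg (Subgroup.map proj) h)).trans f⟩

/-- `SL(2,3)` embeds in any subgroup containing `tU 1` and `tL 1` (characteristic `3`) -/
theorem card_dvd_of_tU_tL (M : Subgroup SL(2, F)) (hU : tU 1 ∈ M) (hL : tL 1 ∈ M) :
    Nat.card SL(2, ZMod p) ∣ Nat.card M := by
  set d := Cfsg.Agent.Lib.Helper50_SL2Gen.dmap (F := F) p 1 one_ne_zero with hd
  have hle : (⊤ : Subgroup SL(2, ZMod p)) ≤ M.comap d := by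
    rw [← Cfsg.Agent.Lib.Helper50_SL2Gen.closure_pair_eq_top p 1 one_ne_zero,
      Subgroup.closure_le]
    rintro x (rfl | rfl)
    · show d (tU 1) ∈ M
      rw [hd, Cfsg.Agent.Lib.Helper50_SL2Gen.dmap_tU]
      exact hU
    · show d (tL 1) ∈ M
      rw [hd, Cfsg.Agent.Lib.Helper50_SL2Gen.dmap_tL, map_one, div_one]
      exact hL
  have hmem : ∀ x, d x ∈ M := fun x => hle (Subgroup.mem_top x)
  have hinj : Function.Injective (d.codRestrict M hmem) := by
    intro x y h
    apply Cfsg.Agent.Lib.Helper50_SL2Gen.dmap_injective p (1 : F) one_ne_zero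
    exact congrArg Subtype.val h
  exact Subgroup.card_dvd_of_injective _ hinj

open Cfsg.Agent.Lib.Helper51_SL2Sub in
/-- **Subgroups containing `tU 1` and `tL 1`.** -/
theorem tt_case (hp2 : p ≠ 2) (M : Subgroup SL(2, F)) (hU : tU 1 ∈ M) (hL : tL 1 ∈ M) :
    DList F p (Fintype.card F) ↥(M.map proj) := by
  have h2 : (2 : F) ≠ 0 := two_ne_zero_of_char p hp2
  rcases engine hp2 M hU hL with hG | ⟨h3, -, hc⟩
  · exact good_case p hp2 M hG
  · right; right; right; right; left
    have hdvd := card_dvd_of_tU_tL p M hU hL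
    have h24 : Nat.card SL(2, ZMod p) = 24 := by
      subst h3
      rw [Cfsg.Agent.Lib.Helper5_PSLCard.card_SL_two, ZMod.card]
      norm_num
    rw [h24] at hdvd
    have h120 : Nat.card M = 120 := by
      rcases hc with h | h
      · rw [h] at hdvd; omega
      · exact h
    have hneg : negOne ∈ M := by
      have hw := wE_mem hU hL
      have : (negOne : SL(2, F)) = wE * wE := by
        apply ext4 <;> simp [negOne, wE, mul00, mul01, mul10, mul11]
      rw [this]
      exact M.mul_mem hw hw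
    have hX := card_map_proj h2 M hneg
    exact equiv_A5 (nnc_of_tU_tL p hp2 M hU hL) (by omega)

/-- **Dickson's theorem in odd characteristic.** -/
theorem dickson_odd (hp2 : p ≠ 2) (K : Subgroup SL(2, F)) :
    DList F p (Fintype.card F) ↥(K.map proj) := by
  classical
  by_cases h1 : 1 < Nat.card (Sylow p K)
  · obtain ⟨φ, hU, hL⟩ := Cfsg.Agent.Lib.Helper51_SL2Cases.exists_aut p hp2 K h1
    obtain ⟨e⟩ := iso_of_equiv φ K
    exact DList.congr e.symm (tt_case p hp2 _ hU hL)
  · by_cases hdvd : p ∣ Nat.card K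
    · have hpos : 0 < Nat.card (Sylow p K) := Nat.card_pos
      have hone : Nat.card (Sylow p K) = 1 := by omega
      have : Subsingleton (Sylow p K) := (Nat.card_eq_one_iff_unique.1 hone).1
      obtain ⟨P⟩ : Nonempty (Sylow p K) := inferInstance
      have hPn : (P : Subgroup K).Normal := Sylow.normal_of_subsingleton P
      have hPne : (P : Subgroup K) ≠ ⊥ := P.ne_bot_of_dvd_card hdvd
      apply borel_case p _ K ((P : Subgroup K).map K.subtype) (P.isPGroup'.map K.subtype)
      · intro h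
        apply hPne
        rw [Subgroup.eq_bot_iff_forall] at h ⊢
        intro x hx
        have := h _ (Subgroup.mem_map_of_mem K.subtype hx)
        exact Subtype.ext this
      · rintro k hk _ ⟨x, hx, rfl⟩
        have := hPn.conj_mem x hx ⟨k, hk⟩
        exact ⟨_, this, rfl⟩
    · exact coprime_case p hp2 K hdvd

end Cfsg.Agent.Lib.Helper50_DkOdd
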