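import Mathlib
import Cfsg.Agent.S0799
import Cfsg.Agent.Lib.Helper50_DkOrders
import Cfsg.Agent.Lib.Helper50_DkSmall

/-!
# Maximality of the dihedral subgroups of `PSL(2,q)` (helper50)

`isCoatom_of_dihedral_plus`: for `q ∉ {2, 7, 9}` every subgroup of `PSL(2,q)` isomorphic to
`DihedralGroup ((q+1)/d)` is maximal.
-/

set_option autoImplicit false

namespace Cfsg.Agent.Lib.Helper50_DkMax

open Cfsg.Agent.Lib.Helper50_DkOrders Cfsg.Agent.Lib.Helper50_DkSmall
open scoped MatrixGroups

/-- an injective homomorphism from an isomorphic copy of a subgroup -/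
theorem exists_hom {G X Y : Type*} [Group G] [Group X] [Group Y] (H H' : Subgroup G)
    (hle : H ≤ H') (f : H ≃* Y) (e : H' ≃* X) :
    ∃ ψ : Y →* X, Function.Injective ψ := by
  refine ⟨(e.toMonoidHom.comp (Subgroup.inclusion hle)).comp f.symm.toMonoidHom, ?_⟩
  intro a b hab
  have h1 : e (Subgroup.inclusion hle (f.symm a)) = e (Subgroup.inclusion hle (f.symm b)) := hab
  exact f.symm.injective (Subgroup.inclusion_injective hle (e.injective h1))

/-- `q + 1` does not divide `q (q - 1)` -/
theorem not_dvd_borel_plus {q : ℕ} (hq : 2 ≤ q) : ¬ (q + 1) ∣ q * (q - 1) := by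
  intro h
  obtain ⟨k, rfl⟩ : ∃ k, q = k + 2 := ⟨q - 2, by omega⟩
  have h1 : (k + 2) * (k + 2 - 1) = (k + 2 + 1) * k + 2 := by
    rw [show k + 2 - 1 = k + 1 by omega]; ring
  rw [h1] at h
  have h2 : (k + 2 + 1) ∣ 2 := (Nat.dvd_add_right (dvd_mul_right _ _)).1 h
  have := Nat.le_of_dvd (by norm_num) h2
  omega

/-- the subfield case for `q + 1` -/
theorem not_dvd_subfield_plus {r m q d : ℕ} (hr : 2 ≤ r) (hm : 2 ≤ m) (hq : r ^ m = q)
    (hd : d = 1 ∨ d = 2) : ¬ (q + 1) ∣ d * (r * (r ^ 2 - 1)) := by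
  intro h
  have hcop : Nat.Coprime (q + 1) r := by
    rw [Nat.coprime_iff_gcd_eq_one]
    have h1 : Nat.gcd (q + 1) r ∣ r := Nat.gcd_dvd_right _ _
    have h2 : Nat.gcd (q + 1) r ∣ q := by
      have : r ∣ q := by
        rw [← hq]
        exact dvd_pow_self r (by omega : m ≠ 0)
      exact h1.trans this
    have h3 : Nat.gcd (q + 1) r ∣ q + 1 := Nat.gcd_dvd_left _ _
    exact Nat.dvd_one.1 ((Nat.dvd_add_right h2).1 h3)
  have h1 : (q + 1) ∣ r * (d * (r ^ 2 - 1)) := by
    have : d * (r * (r ^ 2 - 1)) = r * (d * (r ^ 2 - 1)) := by ring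
    rwa [this] at h
  have h2 : (q + 1) ∣ d * (r ^ 2 - 1) := hcop.dvd_of_dvd_mul_left h1
  have hr2 : 4 ≤ r ^ 2 := by nlinarith
  have hpos : 0 < d * (r ^ 2 - 1) := by
    rcases hd with rfl | rfl <;> omega
  have hle := Nat.le_of_dvd hpos h2
  by_cases hm3 : 3 ≤ m
  · have h3 : r ^ 3 ≤ q := by
      rw [← hq]
      exact Nat.pow_le_pow_right (by omega) hm3
    have h4 : 2 * r ^ 2 ≤ r ^ 3 := by
      have : r ^ 3 = r * r ^ 2 := by ring
      rw [this]
      exact Nat.mul_le_mul_right _ hr
    have h5 : d * (r ^ 2 - 1) ≤ 2 * (r ^ 2 - 1) := by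
      rcases hd with rfl | rfl <;> omega
    omega
  · have hm2 : m = 2 := by omega
    subst hm2
    rcases hd with rfl | rfl
    · omega
    · rw [← hq] at h2
      have h3 : (r ^ 2 + 1) ∣ 2 * (r ^ 2 - 1) + 4 := by
        have : 2 * (r ^ 2 - 1) + 4 = (r ^ 2 + 1) * 2 := by omega
        rw [this]
        exact dvd_mul_right _ _
      have h4 : (r ^ 2 + 1) ∣ 4 := (Nat.dvd_add_right h2).1 h3
      have := Nat.le_of_dvd (by norm_num) h4
      omega

variable {F : Type*} [Field F] [Fintype F]

/-- **Maximality of the dihedral subgroups of order `2(q+1)/d`.** -/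
theorem isCoatom_of_dihedral_plus (hq : Fintype.card F ∉ ({2, 7, 9} : Finset ℕ))
    (H : Subgroup PSL(2, F))
    (f : H ≃* DihedralGroup ((Fintype.card F + 1) / Nat.gcd 2 (Fintype.card F - 1))) :
    IsCoatom H := by
  classical
  obtain ⟨p, hchar⟩ := CharP.exists F
  have hp : p.Prime := (CharP.char_is_prime_or_zero F p).resolve_right
    (fun h0 => by
      subst h0
      have := CharP.charP_to_charZero F
      exact not_finite F)
  have : Fact p.Prime := ⟨hp⟩
  have hq2 : 2 ≤ Fintype.card F := Fintype.one_lt_card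
  simp only [Finset.mem_insert, Finset.mem_singleton, not_or] at hq
  obtain ⟨hq2', hq7, hq9⟩ := hq
  have hcardG := card_PSL2 (F := F)
  have hcardH : Nat.card H = 2 * ((Fintype.card F + 1) / Nat.gcd 2 (Fintype.card F - 1)) := by
    rw [Nat.card_congr f.toEquiv, DihedralGroup.nat_card]
  -- abbreviations
  obtain ⟨d, hd⟩ : ∃ d, d = Nat.gcd 2 (Fintype.card F - 1) := ⟨_, rfl⟩
  obtain ⟨k, hk⟩ : ∃ k, k = (Fintype.card F + 1) / d := ⟨_, rfl⟩
  obtain ⟨q, hqdef⟩ : ∃ q, q = Fintype.card F := ⟨_, rfl⟩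
  rw [← hd] at hcardG hcardH f
  rw [← hk] at hcardH
  rw [← hqdef] at hcardG hq2 hq2' hq7 hq9 hk
  have hd' : d = Nat.gcd 2 (q - 1) := by rw [hd, hqdef]
  have f' : H ≃* DihedralGroup k := by rw [hk, hqdef]; exact f
  have hdq : (d = 1 ∧ Even q) ∨ (d = 2 ∧ Odd q) := by
    rcases two_cases (F := F) with ⟨-, hg, he⟩ | ⟨-, hg, ho⟩
    · left; rw [hd, hqdef]; exact ⟨hg, he⟩
    · right; rw [hd, hqdef]; exact ⟨hg, ho⟩
  have hd12 : d = 1 ∨ d = 2 := by rcases hdq with ⟨h, -⟩ | ⟨h, -⟩ <;> [left; right] <;> exact h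
  have hkd : k * d = q + 1 := by
    rw [hk]
    apply Nat.div_mul_cancel
    rcases hdq with ⟨h, -⟩ | ⟨h, ho⟩
    · rw [h]; exact one_dvd _
    · rw [h]
      obtain ⟨t, ht⟩ := ho
      exact ⟨t + 1, by omega⟩
  have hkpos : 0 < k := by
    rcases Nat.eq_zero_or_pos k with h | h
    · rw [h] at hkd; omega
    · exact h
  have hGfac : q * (q ^ 2 - 1) = q * (q - 1) * (q + 1) := by
    obtain ⟨t, rfl⟩ : ∃ t, q = t + 2 := ⟨q - 2, by omega⟩
    have : (t + 2) ^ 2 - 1 = (t + 1) * (t + 3) := by
      have : (t + 2) ^ 2 = (t + 1) * (t + 3) + 1 := by ring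
      omega
    rw [this, show t + 2 - 1 = t + 1 by omega]; ring
  rw [hGfac] at hcardG
  constructor
  · -- `H ≠ ⊤`
    intro hH
    have h1 : Nat.card H = Nat.card PSL(2, F) := by rw [hH, Subgroup.card_top]
    rw [← h1, hcardH] at hcardG
    have h2 : 2 * k * d = 2 * (q + 1) := by rw [mul_assoc, hkd]
    rw [h2] at hcardG
    have h3 : 2 = q * (q - 1) := by
      have h4 : 2 * (q + 1) = q * (q - 1) * (q + 1) := hcardG
      exact Nat.eq_of_mul_eq_mul_right (by omega) h4
    have h5 : 3 ≤ q := by omega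
    have : 3 * 2 ≤ q * (q - 1) := Nat.mul_le_mul h5 (by omega)
    omega
  · -- overgroups
    intro H' hlt
    by_contra hH'
    have hle : H ≤ H' := le_of_lt hlt
    have hcard_lt : Nat.card H < Nat.card H' := by
      by_contra hge
      push Not at hge
      exact (ne_of_lt hlt) (Subgroup.eq_of_le_of_card_ge hle hge)
    have hcard_dvd : Nat.card H ∣ Nat.card H' := Subgroup.card_dvd_of_le hle
    have hH'dvd : Nat.card H' ∣ Nat.card PSL(2, F) := Subgroup.card_subgroup_dvd_card H'
    have hH'ne : Nat.card H' ≠ Nat.card PSL(2, F) :=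
      fun h => hH' (Subgroup.eq_top_of_card_eq H' h)
    -- small `q` from small `k`
    have hsmall : ∀ (X : Type) [Group X] (n : ℕ), Nat.card X = n → H' ≃* X →
        (n = 12 ∨ n = 24 ∨ n = 60) →
        (∀ ψ : DihedralGroup k →* X, Function.Injective ψ →
          (n = 12 ∧ (k = 1 ∨ k = 2)) ∨ (n = 24 ∧ (k = 1 ∨ k = 2 ∨ k = 3 ∨ k = 4)) ∨
          (n = 60 ∧ (k = 1 ∨ k = 2 ∨ k = 3 ∨ k = 5))) → False := by
      intro X _ n hXn e hn hψ
      obtain ⟨ψ, hψi⟩ := exists_hom H H' hle f' e
      have hH'n : Nat.card H' = n := by rw [Nat.card_congr e.toEquiv, hXn]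
      rw [hH'n] at hH'dvd hH'ne
      have key := hψ ψ hψi
      -- the possible `q`
      have hqs : q = 3 ∨ q = 4 ∨ q = 5 ∨ (n = 24 ∧ False) ∨ False := by
        rcases key with ⟨hn', hk'⟩ | ⟨hn', hk'⟩ | ⟨hn', hk'⟩
        · rcases hdq with ⟨h1, he⟩ | ⟨h1, ho⟩
          · rw [h1] at hkd
            rcases hk' with rfl | rfl <;> omega
          · rw [h1] at hkd
            rcases hk' with rfl | rfl <;> omega
        · rcases hdq with ⟨h1, he⟩ | ⟨h1, ho⟩
          · rw [h1] at hkd
            obtain ⟨t, ht⟩ := he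
            rcases hk' with rfl | rfl | rfl | rfl <;> omega
          · rw [h1] at hkd
            rcases hk' with rfl | rfl | rfl | rfl <;> omega
        · rcases hdq with ⟨h1, he⟩ | ⟨h1, ho⟩
          · rw [h1] at hkd
            obtain ⟨t, ht⟩ := he
            rcases hk' with rfl | rfl | rfl | rfl <;> omega
          · rw [h1] at hkd
            rcases hk' with rfl | rfl | rfl | rfl <;> omega
      rcases hqs with rfl | rfl | rfl | ⟨-, h⟩ | h
      · -- q = 3
        have hd2 : d = 2 := by
          rcases hdq with ⟨-, he⟩ | ⟨h1, -⟩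
          · exact absurd he (by decide)
          · exact h1
        rw [hd2] at hcardG
        have hG : Nat.card PSL(2, F) = 12 := by omega
        rw [hG] at hH'dvd hH'ne
        rcases hn with rfl | rfl | rfl
        · exact hH'ne rfl
        · exact absurd hH'dvd (by norm_num)
        · exact absurd hH'dvd (by norm_num)
      · -- q = 4
        have hd1 : d = 1 := by
          rcases hdq with ⟨h1, -⟩ | ⟨-, ho⟩
          · exact h1
          · exact absurd ho (by decide)
        rw [hd1] at hcardG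
        have hG : Nat.card PSL(2, F) = 60 := by omega
        rw [hG] at hH'dvd hH'ne
        rw [hd1] at hkd
        have hk5 : k = 5 := by omega
        rcases key with ⟨-, hk'⟩ | ⟨-, hk'⟩ | ⟨hn', -⟩
        · omega
        · omega
        · exact hH'ne hn'
      · -- q = 5
        have hd2 : d = 2 := by
          rcases hdq with ⟨-, he⟩ | ⟨h1, -⟩
          · exact absurd he (by decide)
          · exact h1
        rw [hd2] at hcardG
        have hG : Nat.card PSL(2, F) = 60 := by omega
        rw [hG] at hH'dvd hH'ne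
        rw [hd2] at hkd
        have hk3 : k = 3 := by omega
        rcases key with ⟨-, hk'⟩ | ⟨hn', -⟩ | ⟨hn', -⟩
        · omega
        · rw [hn'] at hH'dvd
          exact absurd hH'dvd (by norm_num)
        · exact hH'ne hn'
      · exact h
      · exact h
    have hS := Cfsg.Agent.S0799.result (F := F) rfl p H'
    rw [← hd, ← hqdef] at hS
    rcases hS with ⟨k', hk', ⟨-, hc⟩ | ⟨⟨e⟩⟩⟩ | ⟨P, K, hK, ⟨e⟩⟩ |
      ⟨⟨e⟩⟩ | ⟨⟨e⟩⟩ | ⟨⟨e⟩⟩ | ⟨K, i1, i2, m, hm, ⟨⟨e⟩⟩ | ⟨⟨e⟩⟩⟩
    · -- cyclic
      have hk'le : k' ≤ k := by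
        rcases hk' with h | h
        · rw [hk]; exact Nat.le_of_dvd (by rw [← hk]; exact hkpos) h
        · have h1 : (q - 1) / d ≤ (q + 1) / d := Nat.div_le_div_right (by omega)
          have hpos : 0 < (q - 1) / d := by
            apply Nat.div_pos _ (by rcases hd12 with h | h <;> omega)
            rcases hdq with ⟨h1, -⟩ | ⟨h1, ho⟩
            · omega
            · obtain ⟨t, ht⟩ := ho; omega
          rw [hk]
          exact le_trans (Nat.le_of_dvd hpos h) h1
      omega
    · -- dihedral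
      have hc : Nat.card H' = 2 * k' := by
        rw [Nat.card_congr e.toEquiv, DihedralGroup.nat_card]
      have hk'le : k' ≤ k := by
        rcases hk' with h | h
        · rw [hk]; exact Nat.le_of_dvd (by rw [← hk]; exact hkpos) h
        · have h1 : (q - 1) / d ≤ (q + 1) / d := Nat.div_le_div_right (by omega)
          have hpos : 0 < (q - 1) / d := by
            apply Nat.div_pos _ (by rcases hd12 with h | h <;> omega)
            rcases hdq with ⟨h1, -⟩ | ⟨h1, ho⟩
            · omega
            · obtain ⟨t, ht⟩ := ho; omega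
          rw [hk]
          exact le_trans (Nat.le_of_dvd hpos h) h1
      omega
    · -- Borel
      have hc : Nat.card H' = Nat.card K := Nat.card_congr e.toEquiv
      have h1 := card_mul_le_of_le_normalizer p P K hK
      rw [← hd, ← hqdef, ← hc] at h1
      have h2 : Nat.card H * d ∣ q * (q - 1) := (Nat.mul_dvd_mul_right hcard_dvd d).trans h1
      rw [hcardH, mul_assoc, hkd] at h2
      exact not_dvd_borel_plus hq2 ((dvd_mul_left _ _).trans h2)
    · exact hsmall _ 12 card_A4 e (Or.inl rfl) (fun ψ hψ => Or.inl ⟨rfl, dihedral_A4 ψ hψ⟩)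
    · exact hsmall _ 24 card_S4 e (Or.inr (Or.inl rfl))
        (fun ψ hψ => Or.inr (Or.inl ⟨rfl, dihedral_S4 ψ hψ⟩))
    · exact hsmall _ 60 card_A5 e (Or.inr (Or.inr rfl))
        (fun ψ hψ => Or.inr (Or.inr ⟨rfl, dihedral_A5 ψ hψ⟩))
    · -- PSL2(K)
      have hr : 2 ≤ Fintype.card K := Fintype.one_lt_card
      have hc : Nat.card H' * Nat.gcd 2 (Fintype.card K - 1) =
          Fintype.card K * (Fintype.card K ^ 2 - 1) := by
        rw [Nat.card_congr e.toEquiv]
        exact card_PSL2 (F := K)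
      have hm0 : m ≠ 0 := by
        rintro rfl
        rw [pow_zero] at hm
        omega
      by_cases hm1 : m = 1
      · subst hm1
        rw [pow_one] at hm
        apply hH'ne
        rw [hm, ← hd', hGfac] at hc
        have := hc.trans hcardG.symm
        exact Nat.eq_of_mul_eq_mul_right (by rcases hd12 with h | h <;> omega) this
      · have hm2 : 2 ≤ m := by omega
        have h1 : Nat.card H ∣ Fintype.card K * (Fintype.card K ^ 2 - 1) := by
          rw [← hc]
          exact hcard_dvd.trans (dvd_mul_right _ _)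
        have h2 : Nat.card H * d ∣ d * (Fintype.card K * (Fintype.card K ^ 2 - 1)) := by
          rw [mul_comm]
          exact Nat.mul_dvd_mul_left d h1
        rw [hcardH, mul_assoc, hkd] at h2
        exact not_dvd_subfield_plus hr hm2 hm hd12 ((dvd_mul_left _ _).trans h2)
    · -- PGL2(K)
      have hr : 2 ≤ Fintype.card K := Fintype.one_lt_card
      have hc : Nat.card H' = Fintype.card K * (Fintype.card K ^ 2 - 1) := by
        rw [Nat.card_congr e.toEquiv]
        exact card_PGL2 (F := K)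
      have hm0 : m ≠ 0 := by
        rintro rfl
        rw [pow_zero] at hm
        omega
      by_cases hm1 : m = 1
      · subst hm1
        rw [pow_one] at hm
        rw [hm, hGfac, ← hcardG] at hc
        have hle' : Nat.card H' ≤ Nat.card PSL(2, F) := Nat.le_of_dvd Nat.card_pos hH'dvd
        have hge : Nat.card PSL(2, F) ≤ Nat.card H' := by
          rw [hc]
          exact Nat.le_mul_of_pos_right _ (by rcases hd12 with h | h <;> omega)
        exact hH'ne (le_antisymm hle' hge)
      · have hm2 : 2 ≤ m := by omega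
        have h1 : Nat.card H ∣ Fintype.card K * (Fintype.card K ^ 2 - 1) := by
          rw [← hc]
          exact hcard_dvd
        have h2 : Nat.card H * d ∣ d * (Fintype.card K * (Fintype.card K ^ 2 - 1)) := by
          rw [mul_comm]
          exact Nat.mul_dvd_mul_left d h1
        rw [hcardH, mul_assoc, hkd] at h2
        exact not_dvd_subfield_plus hr hm2 hm hd12 ((dvd_mul_left _ _).trans h2)

end Cfsg.Agent.Lib.Helper50_DkMax
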