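import Mathlib
import Cfsg.Agent.S0799
import Cfsg.Agent.S0307
import Cfsg.Agent.Lib.Helper41_SL2
import Cfsg.Agent.Lib.Helper50_DkOrders
import Cfsg.Agent.Lib.Helper50_DkSmall
import Cfsg.Agent.Lib.Helper50_DkMax

/-!
# Maximality of the dihedral subgroups of order `2(q-1)/d` of `PSL(2,q)` (helper50)

`isCoatom_of_dihedral_minus`: for `q ∉ {2, 3, 5, 7, 9, 11}` every subgroup of `PSL(2,q)` isomorphic
to `DihedralGroup ((q-1)/d)` is maximal.
-/

set_option autoImplicit false

namespace Cfsg.Agent.Lib.Helper50_DkMaxMinus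

open Cfsg.Agent.Lib.Helper50_DkOrders Cfsg.Agent.Lib.Helper50_DkSmall
  Cfsg.Agent.Lib.Helper50_DkMax Cfsg.Agent.Lib.Helper50_SL2Mat Cfsg.Agent.Lib.Helper50_DkPSL
open scoped MatrixGroups Pointwise

section orders

variable {K : Type*} [Field K] [Fintype K]

/-- element orders in `PSL(2,K)` -/
theorem psl2_pow (p : ℕ) [Fact p.Prime] [CharP K p] (z : PSL(2, K)) :
    z ^ p = 1 ∨ z ^ ((Fintype.card K - 1) / Nat.gcd 2 (Fintype.card K - 1)) = 1 ∨
      z ^ ((Fintype.card K + 1) / Nat.gcd 2 (Fintype.card K - 1)) = 1 := by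
  obtain ⟨A, rfl⟩ := QuotientGroup.mk_surjective z
  exact Cfsg.Agent.Lib.Helper41_SL2.psl2_pow_cases p A

/-- squares in `PGL(2,K)` come from `PSL(2,K)` -/
theorem exists_psl_of_sq (y : Matrix.ProjGenLinGroup (Fin 2) K) :
    ∃ z : PSL(2, K), Matrix.ProjectiveSpecialLinearGroup.toPGL z = y * y := by
  obtain ⟨g, -, hker⟩ := Cfsg.Agent.S0307.result (F := K) rfl 2 (by norm_num)
  have hmem : y * y ∈ g.ker := by
    rw [MonoidHom.mem_ker, map_mul]
    have hdvd : Nat.gcd 2 (Fintype.card K - 1) ∣ 2 := Nat.gcd_dvd_left _ _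
    have h2 : ((2 : ℕ) : ZMod (Nat.gcd 2 (Fintype.card K - 1))) = 0 :=
      (ZMod.natCast_eq_zero_iff 2 _).2 hdvd
    apply Multiplicative.toAdd.injective
    rw [toAdd_mul, toAdd_one]
    have : Multiplicative.toAdd (g y) + Multiplicative.toAdd (g y) =
        ((2 : ℕ) : ZMod (Nat.gcd 2 (Fintype.card K - 1))) * Multiplicative.toAdd (g y) := by
      push_cast; ring
    rw [this, h2, zero_mul]
  rw [hker] at hmem
  obtain ⟨z, hz⟩ := hmem
  exact ⟨z, hz⟩

/-- element orders in `PGL(2,K)`, for squares -/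
theorem pgl2_sq_pow (p : ℕ) [Fact p.Prime] [CharP K p] (y : Matrix.ProjGenLinGroup (Fin 2) K) :
    y ^ (2 * p) = 1 ∨ y ^ (2 * ((Fintype.card K - 1) / Nat.gcd 2 (Fintype.card K - 1))) = 1 ∨
      y ^ (2 * ((Fintype.card K + 1) / Nat.gcd 2 (Fintype.card K - 1))) = 1 := by
  obtain ⟨z, hz⟩ := exists_psl_of_sq y
  have key : ∀ n : ℕ, z ^ n = 1 → y ^ (2 * n) = 1 := by
    intro n hn
    rw [pow_mul, pow_two, ← hz, ← map_pow, hn, map_one]
  rcases psl2_pow p z with h | h | h
  · exact Or.inl (key _ h)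
  · exact Or.inr (Or.inl (key _ h))
  · exact Or.inr (Or.inr (key _ h))

end orders

section arith

/-- `q - 1` case for subfields of degree at least three -/
theorem not_dvd_subfield_minus {r m q d : ℕ} (hr : 2 ≤ r) (hm : 3 ≤ m) (hq : r ^ m = q)
    (hd : d = 1 ∨ d = 2) : ¬ (q - 1) ∣ d * (r * (r ^ 2 - 1)) := by
  intro h
  have hrq : r ∣ q := by
    rw [← hq]
    exact dvd_pow_self r (by omega : m ≠ 0)
  have h3 : r ^ 3 ≤ q := by
    rw [← hq]
    exact Nat.pow_le_pow_right (by omega) hm
  have hr3 : 8 ≤ r ^ 3 := by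
    calc 8 = 2 ^ 3 := by norm_num
      _ ≤ r ^ 3 := Nat.pow_le_pow_left hr 3
  have hcop : Nat.Coprime (q - 1) r := by
    rw [Nat.coprime_iff_gcd_eq_one]
    have h1 : Nat.gcd (q - 1) r ∣ r := Nat.gcd_dvd_right _ _
    have h2 : Nat.gcd (q - 1) r ∣ q := h1.trans hrq
    have h3' : Nat.gcd (q - 1) r ∣ q - 1 := Nat.gcd_dvd_left _ _
    have h4 : Nat.gcd (q - 1) r ∣ (q - 1) + 1 := by
      rw [Nat.sub_add_cancel (by omega)]
      exact h2
    exact Nat.dvd_one.1 ((Nat.dvd_add_right h3').1 h4)
  have h1 : (q - 1) ∣ r * (d * (r ^ 2 - 1)) := by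
    have : d * (r * (r ^ 2 - 1)) = r * (d * (r ^ 2 - 1)) := by ring
    rwa [this] at h
  have h2 : (q - 1) ∣ d * (r ^ 2 - 1) := hcop.dvd_of_dvd_mul_left h1
  have hr2 : 4 ≤ r ^ 2 := by nlinarith
  have hpos : 0 < d * (r ^ 2 - 1) := by
    rcases hd with rfl | rfl <;> omega
  have hle := Nat.le_of_dvd hpos h2
  have h4 : 2 * r ^ 2 ≤ r ^ 3 := by
    have : r ^ 3 = r * r ^ 2 := by ring
    rw [this]
    exact Nat.mul_le_mul_right _ hr
  have h5 : d * (r ^ 2 - 1) ≤ 2 * (r ^ 2 - 1) := by
    rcases hd with rfl | rfl <;> omega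
  omega

/-- the degree two case -/
theorem subfield_minus_sq {r k d c n : ℕ} (hr : 2 ≤ r) (hkd : k * d = r ^ 2 - 1)
    (hd : (d = 1 ∧ Even r) ∨ (d = 2 ∧ Odd r)) (hc : c = 1 ∨ c = 2)
    (hn : n ∣ r ∨ n = (r - 1) / d ∨ n = (r + 1) / d) (hk : k ∣ c * n) : r = 2 ∨ r = 3 := by
  have hr2 : 4 ≤ r ^ 2 := by nlinarith
  have hfac : r ^ 2 - 1 = (r - 1) * (r + 1) := by
    obtain ⟨t, rfl⟩ : ∃ t, r = t + 1 := ⟨r - 1, by omega⟩
    have : (t + 1) ^ 2 = t * (t + 2) + 1 := by ring
    rw [this, show t + 1 - 1 = t by omega]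
    simp
  have hkpos : 0 < k := by
    rcases Nat.eq_zero_or_pos k with h | h
    · rw [h] at hkd; omega
    · exact h
  have hd12 : d = 1 ∨ d = 2 := by rcases hd with ⟨h, -⟩ | ⟨h, -⟩ <;> [left; right] <;> exact h
  rcases hn with hn | hn | hn
  · -- `n ∣ r`
    have h1 : k ∣ c * r := hk.trans (Nat.mul_dvd_mul_left c hn)
    have hcop : Nat.Coprime k r := by
      rw [Nat.coprime_iff_gcd_eq_one]
      have g1 : Nat.gcd k r ∣ r := Nat.gcd_dvd_right _ _
      have g2 : Nat.gcd k r ∣ r ^ 2 := g1.trans (dvd_pow_self r (by norm_num))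
      have g3 : Nat.gcd k r ∣ r ^ 2 - 1 := by
        rw [← hkd]
        exact (Nat.gcd_dvd_left _ _).trans (dvd_mul_right _ _)
      have g4 : Nat.gcd k r ∣ (r ^ 2 - 1) + 1 := by
        rw [Nat.sub_add_cancel (by omega)]
        exact g2
      exact Nat.dvd_one.1 ((Nat.dvd_add_right g3).1 g4)
    have h2 : k ∣ c := by
      rw [mul_comm] at h1
      exact hcop.dvd_of_dvd_mul_left h1
    have h3 : k ≤ 2 := by
      have := Nat.le_of_dvd (by rcases hc with rfl | rfl <;> norm_num) h2
      rcases hc with rfl | rfl <;> omega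
    have h4 : k * d ≤ 4 := by
      calc k * d ≤ 2 * 2 := Nat.mul_le_mul h3 (by rcases hd12 with h | h <;> omega)
        _ = 4 := by norm_num
    have h5 : r ^ 2 ≤ 5 := by omega
    left
    by_contra hne
    have : 3 ≤ r := by omega
    nlinarith
  · -- `n = (r - 1) / d`
    exfalso
    have hnpos : 0 < n := by
      rw [hn]
      apply Nat.div_pos _ (by rcases hd12 with h | h <;> omega)
      rcases hd with ⟨h1, -⟩ | ⟨h1, ho⟩
      · omega
      · obtain ⟨t, ht⟩ := ho; omega
    have h1 : k ≤ c * n :=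
      Nat.le_of_dvd (Nat.mul_pos (by rcases hc with rfl | rfl <;> norm_num) hnpos) hk
    have h2 : n * d ≤ r - 1 := by rw [hn]; exact Nat.div_mul_le_self _ _
    have h3 : k * d ≤ c * (r - 1) := by
      calc k * d ≤ c * n * d := Nat.mul_le_mul_right _ h1
        _ = c * (n * d) := by ring
        _ ≤ c * (r - 1) := Nat.mul_le_mul_left _ h2
    rw [hkd, hfac] at h3
    have h4 : c * (r - 1) ≤ 2 * (r - 1) := Nat.mul_le_mul_right _ (by rcases hc with rfl | rfl <;> omega)
    have h5 : (r - 1) * (r + 1) ≤ (r - 1) * 2 := by rw [mul_comm (r - 1) 2]; omega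
    have h6 : r + 1 ≤ 2 := Nat.le_of_mul_le_mul_left h5 (by omega)
    omega
  · -- `n = (r + 1) / d`
    have hnpos : 0 < n := by
      rw [hn]
      apply Nat.div_pos _ (by rcases hd12 with h | h <;> omega)
      rcases hd12 with h | h <;> omega
    have h1 : k ≤ c * n :=
      Nat.le_of_dvd (Nat.mul_pos (by rcases hc with rfl | rfl <;> norm_num) hnpos) hk
    have h2 : n * d ≤ r + 1 := by rw [hn]; exact Nat.div_mul_le_self _ _
    have h3 : k * d ≤ c * (r + 1) := by
      calc k * d ≤ c * n * d := Nat.mul_le_mul_right _ h1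
        _ = c * (n * d) := by ring
        _ ≤ c * (r + 1) := Nat.mul_le_mul_left _ h2
    rw [hkd, hfac] at h3
    have h4 : c * (r + 1) ≤ 2 * (r + 1) := Nat.mul_le_mul_right _ (by rcases hc with rfl | rfl <;> omega)
    have h5 : (r - 1) * (r + 1) ≤ 2 * (r + 1) := by omega
    have h6 : r - 1 ≤ 2 := Nat.le_of_mul_le_mul_right h5 (by omega)
    omega

end arith

section invol

variable {F : Type*} [Field F] [Fintype F] [CharP F 2] [Fact (Nat.Prime 2)]

/-- in characteristic two, involutions normalising a Sylow `2`-subgroup commute -/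
theorem commute_of_sq_of_mem_normalizer (P : Sylow 2 PSL(2, F)) {x y : PSL(2, F)}
    (hx : x ∈ Subgroup.normalizer ((P : Subgroup PSL(2, F)) : Set PSL(2, F)))
    (hy : y ∈ Subgroup.normalizer ((P : Subgroup PSL(2, F)) : Set PSL(2, F)))
    (hxx : x * x = 1) (hyy : y * y = 1) : x * y = y * x := by
  -- involutions of the normaliser lie in `P`
  have hmem : ∀ w : PSL(2, F),
      w ∈ Subgroup.normalizer ((P : Subgroup PSL(2, F)) : Set PSL(2, F)) → w * w = 1 →
      w ∈ (P : Subgroup PSL(2, F)) := by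
    intro w hw hww
    have h1 : IsPGroup 2 (Subgroup.zpowers w) := by
      rintro ⟨g, hg⟩
      refine ⟨1, ?_⟩
      obtain ⟨j, rfl⟩ := Subgroup.mem_zpowers_iff.1 hg
      apply Subtype.ext
      simp only [pow_one, Subgroup.coe_pow, Subgroup.coe_one]
      rw [← zpow_natCast, ← zpow_mul, mul_comm, zpow_mul, zpow_natCast, pow_two, hww, one_zpow]
    have h2 : Subgroup.zpowers w ≤
        Subgroup.normalizer ((P : Subgroup PSL(2, F)) : Set PSL(2, F)) := by
      rw [Subgroup.zpowers_le]
      exact hw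
    have h3 := IsPGroup.to_sup_of_normal_right' h1 P.2 h2
    have h4 := P.is_maximal' h3 le_sup_right
    have h5 : w ∈ Subgroup.zpowers w ⊔ (P : Subgroup PSL(2, F)) :=
      (le_sup_left : Subgroup.zpowers w ≤ _) (Subgroup.mem_zpowers w)
    rw [h4] at h5
    exact h5
  have hxP := hmem x hx hxx
  have hyP := hmem y hy hyy
  -- `P` is a conjugate of the standard Sylow subgroup
  obtain ⟨g, hg⟩ := MulAction.exists_smul_eq PSL(2, F) (PS 2 : Sylow 2 PSL(2, F)) P
  have hP : (P : Subgroup PSL(2, F)) =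
      MulAut.conj g • ((PS 2 : Sylow 2 PSL(2, F)) : Subgroup PSL(2, F)) := by
    rw [← hg]; rfl
  rw [hP, Subgroup.mem_smul_pointwise_iff_exists] at hxP hyP
  obtain ⟨s, hs, rfl⟩ := hxP
  obtain ⟨t, ht, rfl⟩ := hyP
  rw [coe_PS] at hs ht
  obtain ⟨u, hu, rfl⟩ := hs
  obtain ⟨v, hv, rfl⟩ := ht
  obtain ⟨a, rfl⟩ := (Cfsg.Agent.S0260.mem_U_iff u).1 hu
  obtain ⟨b, rfl⟩ := (Cfsg.Agent.S0260.mem_U_iff v).1 hv
  have hc : Cfsg.Agent.S0260.uT a * Cfsg.Agent.S0260.uT b =
      Cfsg.Agent.S0260.uT b * Cfsg.Agent.S0260.uT a := by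
    rw [Cfsg.Agent.Lib.Helper50_SL2Dickson.uT_eq_tU, Cfsg.Agent.Lib.Helper50_SL2Dickson.uT_eq_tU,
      ← tU_add, ← tU_add, add_comm]
  rw [← smul_mul', ← smul_mul', ← map_mul, ← map_mul, hc]

end invol


variable {F : Type*} [Field F] [Fintype F]

/-- **Maximality of the dihedral subgroups of order `2(q-1)/d`.** -/
theorem isCoatom_of_dihedral_minus (hq : Fintype.card F ∉ ({2, 3, 5, 7, 9, 11} : Finset ℕ))
    (H : Subgroup PSL(2, F))
    (f : H ≃* DihedralGroup ((Fintype.card F - 1) / Nat.gcd 2 (Fintype.card F - 1))) :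
    IsCoatom H := by
  classical
  obtain ⟨p, hchar⟩ := CharP.exists F
  have hp : p.Prime := (CharP.char_is_prime_or_zero F p).resolve_right
    (fun h0 => by
      subst h0
      have := CharP.charP_to_charZero F
      exact not_finite F)
  have hpF : Fact p.Prime := ⟨hp⟩
  have hq2 : 2 ≤ Fintype.card F := Fintype.one_lt_card
  simp only [Finset.mem_insert, Finset.mem_singleton, not_or] at hq
  obtain ⟨hq2', hq3, hq5, hq7, hq9, hq11⟩ := hq
  have hcardG := card_PSL2 (F := F)
  have hcardH : Nat.card H = 2 * ((Fintype.card F - 1) / Nat.gcd 2 (Fintype.card F - 1)) := by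
    rw [Nat.card_congr f.toEquiv, DihedralGroup.nat_card]
  -- abbreviations
  obtain ⟨d, hd⟩ : ∃ d, d = Nat.gcd 2 (Fintype.card F - 1) := ⟨_, rfl⟩
  obtain ⟨k, hk⟩ : ∃ k, k = (Fintype.card F - 1) / d := ⟨_, rfl⟩
  obtain ⟨q, hqdef⟩ : ∃ q, q = Fintype.card F := ⟨_, rfl⟩
  rw [← hd] at hcardG hcardH f
  rw [← hk] at hcardH
  rw [← hqdef] at hcardG hq2 hq2' hq3 hq5 hq7 hq9 hq11 hk
  have hq4 : 4 ≤ q := by omega
  have hd' : d = Nat.gcd 2 (q - 1) := by rw [hd, hqdef]
  have f' : H ≃* DihedralGroup k := by rw [hk, hqdef]; exact f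
  have hdq : (d = 1 ∧ Even q) ∨ (d = 2 ∧ Odd q) := by
    rcases two_cases (F := F) with ⟨-, hg, he⟩ | ⟨-, hg, ho⟩
    · left; rw [hd, hqdef]; exact ⟨hg, he⟩
    · right; rw [hd, hqdef]; exact ⟨hg, ho⟩
  have hd12 : d = 1 ∨ d = 2 := by rcases hdq with ⟨h, -⟩ | ⟨h, -⟩ <;> [left; right] <;> exact h
  have hkd : k * d = q - 1 := by
    rw [hk]
    apply Nat.div_mul_cancel
    rw [hd']
    exact Nat.gcd_dvd_right _ _
  obtain ⟨v, hv⟩ : ∃ v, v = (q + 1) / d := ⟨_, rfl⟩
  have hvd : v * d = q + 1 := by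
    rw [hv]
    apply Nat.div_mul_cancel
    rcases hdq with ⟨h, -⟩ | ⟨h, ho⟩
    · rw [h]; exact one_dvd _
    · rw [h]
      obtain ⟨t, ht⟩ := ho
      exact ⟨t + 1, by omega⟩
  have hk2 : 2 ≤ k := by
    by_contra hlt
    push Not at hlt
    have : k * d ≤ 1 * 2 := Nat.mul_le_mul (by omega) (by rcases hd12 with h | h <;> omega)
    omega
  have hkv : k ≤ v := by
    have : k * d ≤ v * d := by omega
    exact Nat.le_of_mul_le_mul_right this (by rcases hd12 with h | h <;> omega)
  have hGfac : q * (q ^ 2 - 1) = q * (q - 1) * (q + 1) := by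
    obtain ⟨t, rfl⟩ : ∃ t, q = t + 2 := ⟨q - 2, by omega⟩
    have : (t + 2) ^ 2 - 1 = (t + 1) * (t + 3) := by
      have : (t + 2) ^ 2 = (t + 1) * (t + 3) + 1 := by ring
      omega
    rw [this, show t + 2 - 1 = t + 1 by omega]; ring
  rw [hGfac] at hcardG
  constructor
  · -- `H ≠ ⊤`
    intro hH
    have h1 : Nat.card H = Nat.card PSL(2, F) := by rw [hH, Subgroup.card_top]
    rw [← h1, hcardH] at hcardG
    have h2 : 2 * k * d = 2 * (q - 1) := by rw [mul_assoc, hkd]
    rw [h2] at hcardG
    have h3 : 2 * (q - 1) = (q - 1) * (q * (q + 1)) := by rw [hcardG]; ring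
    have h4 : (q - 1) * 2 = (q - 1) * (q * (q + 1)) := by rw [← h3]; ring
    have h5 : 2 = q * (q + 1) := Nat.eq_of_mul_eq_mul_left (by omega) h4
    have : 4 * 5 ≤ q * (q + 1) := Nat.mul_le_mul hq4 (by omega)
    omega
  · -- overgroups
    intro H' hlt
    by_contra hH'
    have hle : H ≤ H' := le_of_lt hlt
    have hcard_lt : Nat.card H < Nat.card H' := by
      by_contra hge
      push Not at hge
      exact (ne_of_lt hlt) (Subgroup.eq_of_le_of_card_ge hle hge)
    have hcard_dvd : Nat.card H ∣ Nat.card H' := Subgroup.card_dvd_of_le hle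
    have hH'dvd : Nat.card H' ∣ Nat.card PSL(2, F) := Subgroup.card_subgroup_dvd_card H'
    have hH'ne : Nat.card H' ≠ Nat.card PSL(2, F) :=
      fun h => hH' (Subgroup.eq_top_of_card_eq H' h)
    -- small `q` from small `k`
    have hsmall : ∀ (X : Type) [Group X] (n : ℕ), Nat.card X = n → H' ≃* X →
        (n = 12 ∨ n = 24 ∨ n = 60) →
        (∀ ψ : DihedralGroup k →* X, Function.Injective ψ →
          (n = 12 ∧ (k = 1 ∨ k = 2)) ∨ (n = 24 ∧ (k = 1 ∨ k = 2 ∨ k = 3 ∨ k = 4)) ∨
          (n = 60 ∧ (k = 1 ∨ k = 2 ∨ k = 3 ∨ k = 5))) → False := by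
      intro X _ n hXn e hn hψ
      obtain ⟨ψ, hψi⟩ := exists_hom H H' hle f' e
      have hH'n : Nat.card H' = n := by rw [Nat.card_congr e.toEquiv, hXn]
      rw [hH'n] at hH'dvd hH'ne
      have key := hψ ψ hψi
      have hqs : q = 4 ∨ q = 6 := by
        rcases key with ⟨hn', hk'⟩ | ⟨hn', hk'⟩ | ⟨hn', hk'⟩
        · rcases hdq with ⟨h1, he⟩ | ⟨h1, ho⟩
          · rw [h1] at hkd
            rcases hk' with rfl | rfl <;> omega
          · rw [h1] at hkd
            rcases hk' with rfl | rfl <;> omega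
        · rcases hdq with ⟨h1, he⟩ | ⟨h1, ho⟩
          · rw [h1] at hkd
            obtain ⟨t, ht⟩ := he
            rcases hk' with rfl | rfl | rfl | rfl <;> omega
          · rw [h1] at hkd
            rcases hk' with rfl | rfl | rfl | rfl <;> omega
        · rcases hdq with ⟨h1, he⟩ | ⟨h1, ho⟩
          · rw [h1] at hkd
            obtain ⟨t, ht⟩ := he
            rcases hk' with rfl | rfl | rfl | rfl <;> omega
          · rw [h1] at hkd
            rcases hk' with rfl | rfl | rfl | rfl <;> omega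
      have hd1 : d = 1 := by
        rcases hdq with ⟨h1, -⟩ | ⟨-, ho⟩
        · exact h1
        · rcases hqs with rfl | rfl <;> exact absurd ho (by decide)
      rw [hd1] at hcardG hkd
      rcases hqs with rfl | rfl
      · -- q = 4
        have hG : Nat.card PSL(2, F) = 60 := by omega
        rw [hG] at hH'dvd hH'ne
        have hk3 : k = 3 := by omega
        rcases key with ⟨-, hk'⟩ | ⟨hn', -⟩ | ⟨hn', -⟩
        · omega
        · rw [hn'] at hH'dvd
          exact absurd hH'dvd (by norm_num)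
        · exact hH'ne hn'
      · -- q = 6
        have hG : Nat.card PSL(2, F) = 210 := by omega
        rw [hG] at hH'dvd
        have hk5 : k = 5 := by omega
        rcases key with ⟨-, hk'⟩ | ⟨-, hk'⟩ | ⟨hn', -⟩
        · omega
        · omega
        · rw [hn'] at hH'dvd
          exact absurd hH'dvd (by norm_num)
    have hS := Cfsg.Agent.S0799.result (F := F) rfl p H'
    rw [← hd, ← hqdef, ← hv, ← hk] at hS
    rcases hS with ⟨k', hk', ⟨-, hc⟩ | ⟨⟨e⟩⟩⟩ | ⟨P, K, hK, ⟨e⟩⟩ |
      ⟨⟨e⟩⟩ | ⟨⟨e⟩⟩ | ⟨⟨e⟩⟩ | ⟨K, i1, i2, m, hm, ⟨⟨e⟩⟩ | ⟨⟨e⟩⟩⟩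
    · -- cyclic
      have hvpos : 0 < v := by omega
      have hk'le : k' ≤ v := by
        rcases hk' with h | h
        · exact Nat.le_of_dvd hvpos h
        · exact le_trans (Nat.le_of_dvd (by omega) h) hkv
      have h1 : 2 * k < v := by omega
      have h2 : 2 * k * d < v * d :=
        Nat.mul_lt_mul_of_pos_right h1 (by rcases hd12 with h | h <;> omega)
      rw [mul_assoc, hkd, hvd] at h2
      omega
    · -- dihedral
      have hc : Nat.card H' = 2 * k' := by
        rw [Nat.card_congr e.toEquiv, DihedralGroup.nat_card]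
      rcases hk' with h | h
      · -- `k' ∣ v`
        rw [hcardH, hc] at hcard_dvd
        have h1 : k ∣ k' := Nat.dvd_of_mul_dvd_mul_left (by norm_num) hcard_dvd
        have h2 : k * d ∣ v * d := Nat.mul_dvd_mul_right (h1.trans h) d
        rw [hkd, hvd] at h2
        have h3 : (q - 1) ∣ (q - 1) + 2 := by
          rw [show q - 1 + 2 = q + 1 by omega]; exact h2
        have h4 : (q - 1) ∣ 2 := (Nat.dvd_add_right (dvd_refl _)).1 h3
        have := Nat.le_of_dvd (by norm_num) h4
        omega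
      · have := Nat.le_of_dvd (by omega) h
        omega
    · -- Borel
      have hc : Nat.card H' = Nat.card K := Nat.card_congr e.toEquiv
      have h1 := card_mul_le_of_le_normalizer p P K hK
      rw [← hd, ← hqdef, ← hc] at h1
      have h2 : Nat.card H * d ∣ q * (q - 1) := (Nat.mul_dvd_mul_right hcard_dvd d).trans h1
      rw [hcardH, mul_assoc, hkd] at h2
      have h3 : 2 ∣ q := Nat.dvd_of_mul_dvd_mul_right (by omega : 0 < q - 1) h2
      have heven : Even q := even_iff_two_dvd.2 h3
      have hd1 : d = 1 := by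
        rcases hdq with ⟨h, -⟩ | ⟨-, ho⟩
        · exact h
        · exact absurd heven (Nat.not_even_iff_odd.2 ho)
      rw [hd1, mul_one] at hkd
      have hc2 : ringChar F = 2 := by
        apply FiniteField.even_card_iff_char_two.2
        rw [← hqdef]
        exact Nat.even_iff.1 heven
      have hC2 : CharP F 2 := ringChar.of_eq hc2
      have hp2 : p = 2 := CharP.eq F hchar hC2
      subst hp2
      -- the two involutions
      let φ : DihedralGroup k →* PSL(2, F) :=
        K.subtype.comp (e.toMonoidHom.comp ((Subgroup.inclusion hle).comp f'.symm.toMonoidHom))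
      have hφinj : Function.Injective φ := by
        intro a b hab
        have h1 : (e (Subgroup.inclusion hle (f'.symm a)) : PSL(2, F)) =
            e (Subgroup.inclusion hle (f'.symm b)) := hab
        exact f'.symm.injective (Subgroup.inclusion_injective hle
          (e.injective (Subtype.ext h1)))
      have hφK : ∀ a, φ a ∈ Subgroup.normalizer ((P : Subgroup PSL(2, F)) : Set PSL(2, F)) :=
        fun a => hK (e (Subgroup.inclusion hle (f'.symm a))).2
      have hcomm := commute_of_sq_of_mem_normalizer P (hφK (DihedralGroup.sr 0))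
        (hφK (DihedralGroup.sr 1))
        (by rw [← map_mul, DihedralGroup.sr_mul_self, map_one])
        (by rw [← map_mul, DihedralGroup.sr_mul_self, map_one])
      rw [← map_mul, ← map_mul] at hcomm
      have h5 := hφinj hcomm
      rw [DihedralGroup.sr_mul_sr, DihedralGroup.sr_mul_sr] at h5
      have h6 : (1 - 0 : ZMod k) = 0 - 1 := DihedralGroup.r.inj h5
      have h7 : ((2 : ℕ) : ZMod k) = 0 := by
        push_cast
        linear_combination h6
      have h8 : k ∣ 2 := (ZMod.natCast_eq_zero_iff 2 k).1 h7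
      have := Nat.le_of_dvd (by norm_num) h8
      omega
    · exact hsmall _ 12 card_A4 e (Or.inl rfl) (fun ψ hψ => Or.inl ⟨rfl, dihedral_A4 ψ hψ⟩)
    · exact hsmall _ 24 card_S4 e (Or.inr (Or.inl rfl))
        (fun ψ hψ => Or.inr (Or.inl ⟨rfl, dihedral_S4 ψ hψ⟩))
    · exact hsmall _ 60 card_A5 e (Or.inr (Or.inr rfl))
        (fun ψ hψ => Or.inr (Or.inr ⟨rfl, dihedral_A5 ψ hψ⟩))
    · -- PSL2(K)
      have hr : 2 ≤ Fintype.card K := Fintype.one_lt_card
      have hc : Nat.card H' * Nat.gcd 2 (Fintype.card K - 1) =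
          Fintype.card K * (Fintype.card K ^ 2 - 1) := by
        rw [Nat.card_congr e.toEquiv]
        exact card_PSL2 (F := K)
      have hm0 : m ≠ 0 := by
        rintro rfl
        rw [pow_zero] at hm
        omega
      by_cases hm1 : m = 1
      · subst hm1
        rw [pow_one] at hm
        apply hH'ne
        rw [hm, ← hd', hGfac] at hc
        have := hc.trans hcardG.symm
        exact Nat.eq_of_mul_eq_mul_right (by rcases hd12 with h | h <;> omega) this
      by_cases hm3 : 3 ≤ m
      · have h1 : Nat.card H ∣ Fintype.card K * (Fintype.card K ^ 2 - 1) := by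
          rw [← hc]
          exact hcard_dvd.trans (dvd_mul_right _ _)
        have h2 : Nat.card H * d ∣ d * (Fintype.card K * (Fintype.card K ^ 2 - 1)) := by
          rw [mul_comm]
          exact Nat.mul_dvd_mul_left d h1
        rw [hcardH, mul_assoc, hkd] at h2
        exact not_dvd_subfield_minus hr hm3 hm hd12 ((dvd_mul_left _ _).trans h2)
      · -- `m = 2`
        have hm2 : m = 2 := by omega
        subst hm2
        obtain ⟨p₀, hchar₀⟩ := CharP.exists K
        have hp₀ : p₀.Prime := (CharP.char_is_prime_or_zero K p₀).resolve_right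
          (fun h0 => by
            subst h0
            have := CharP.charP_to_charZero K
            exact not_finite K)
        have hp₀F : Fact p₀.Prime := ⟨hp₀⟩
        obtain ⟨a₀, -, ha₀⟩ := FiniteField.card K p₀
        have hp₀r : p₀ ∣ Fintype.card K := by
          rw [ha₀]; exact dvd_pow_self p₀ a₀.ne_zero
        obtain ⟨ψ, hψi⟩ := exists_hom H H' hle f' e
        have hdr : (Nat.gcd 2 (Fintype.card K - 1) = 1 ∧ Even (Fintype.card K)) ∨
            (Nat.gcd 2 (Fintype.card K - 1) = 2 ∧ Odd (Fintype.card K)) := by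
          rcases two_cases (F := K) with ⟨-, hg, he⟩ | ⟨-, hg, ho⟩
          · exact Or.inl ⟨hg, he⟩
          · exact Or.inr ⟨hg, ho⟩
        have hdd : d = Nat.gcd 2 (Fintype.card K - 1) := by
          rcases hdq with ⟨h1, he⟩ | ⟨h1, ho⟩
          · rcases hdr with ⟨h2, -⟩ | ⟨-, ho'⟩
            · rw [h1, h2]
            · exfalso
              rw [← hm] at he
              exact (Nat.not_even_iff_odd.2 ho'.pow) he
          · rcases hdr with ⟨-, he'⟩ | ⟨h2, -⟩
            · exfalso
              rw [← hm] at ho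
              exact (Nat.not_even_iff_odd.2 ho) ((Nat.even_pow' (by norm_num)).2 he')
            · rw [h1, h2]
        have hkd' : k * Nat.gcd 2 (Fintype.card K - 1) = Fintype.card K ^ 2 - 1 := by
          rw [← hdd, hkd, hm]
        have hcases : Fintype.card K = 2 ∨ Fintype.card K = 3 := by
          rcases psl2_pow p₀ (ψ (DihedralGroup.r 1)) with h | h | h
          · exact subfield_minus_sq hr hkd' hdr (Or.inl rfl) (Or.inl hp₀r)
              (by rw [one_mul]; exact dvd_of_pow ψ hψi h)
          · exact subfield_minus_sq hr hkd' hdr (Or.inl rfl) (Or.inr (Or.inl rfl))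
              (by rw [one_mul]; exact dvd_of_pow ψ hψi h)
          · exact subfield_minus_sq hr hkd' hdr (Or.inl rfl) (Or.inr (Or.inr rfl))
              (by rw [one_mul]; exact dvd_of_pow ψ hψi h)
        rcases hcases with h2 | h3
        · rw [h2] at hc hm
          have hq4' : q = 4 := by rw [← hm]; norm_num
          have hd1 : d = 1 := by
            rcases hdq with ⟨h, -⟩ | ⟨-, ho⟩
            · exact h
            · rw [hq4'] at ho; exact absurd ho (by decide)
          rw [hd1, hq4'] at hkd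
          have hH'6 : Nat.card H' = 6 := by
            have : Nat.gcd 2 (2 - 1) = 1 := by norm_num
            rw [this] at hc
            omega
          omega
        · rw [h3] at hm
          exact hq9 (by rw [← hm]; norm_num)
    · -- PGL2(K)
      have hr : 2 ≤ Fintype.card K := Fintype.one_lt_card
      have hc : Nat.card H' = Fintype.card K * (Fintype.card K ^ 2 - 1) := by
        rw [Nat.card_congr e.toEquiv]
        exact card_PGL2 (F := K)
      have hm0 : m ≠ 0 := by
        rintro rfl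
        rw [pow_zero] at hm
        omega
      by_cases hm1 : m = 1
      · subst hm1
        rw [pow_one] at hm
        rw [hm, hGfac, ← hcardG] at hc
        have hle' : Nat.card H' ≤ Nat.card PSL(2, F) := Nat.le_of_dvd Nat.card_pos hH'dvd
        have hge : Nat.card PSL(2, F) ≤ Nat.card H' := by
          rw [hc]
          exact Nat.le_mul_of_pos_right _ (by rcases hd12 with h | h <;> omega)
        exact hH'ne (le_antisymm hle' hge)
      by_cases hm3 : 3 ≤ m
      · have h1 : Nat.card H ∣ Fintype.card K * (Fintype.card K ^ 2 - 1) := by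
          rw [← hc]
          exact hcard_dvd
        have h2 : Nat.card H * d ∣ d * (Fintype.card K * (Fintype.card K ^ 2 - 1)) := by
          rw [mul_comm]
          exact Nat.mul_dvd_mul_left d h1
        rw [hcardH, mul_assoc, hkd] at h2
        exact not_dvd_subfield_minus hr hm3 hm hd12 ((dvd_mul_left _ _).trans h2)
      · -- `m = 2`
        have hm2 : m = 2 := by omega
        subst hm2
        obtain ⟨p₀, hchar₀⟩ := CharP.exists K
        have hp₀ : p₀.Prime := (CharP.char_is_prime_or_zero K p₀).resolve_right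
          (fun h0 => by
            subst h0
            have := CharP.charP_to_charZero K
            exact not_finite K)
        have hp₀F : Fact p₀.Prime := ⟨hp₀⟩
        obtain ⟨a₀, -, ha₀⟩ := FiniteField.card K p₀
        have hp₀r : p₀ ∣ Fintype.card K := by
          rw [ha₀]; exact dvd_pow_self p₀ a₀.ne_zero
        obtain ⟨ψ, hψi⟩ := exists_hom H H' hle f' e
        have hdr : (Nat.gcd 2 (Fintype.card K - 1) = 1 ∧ Even (Fintype.card K)) ∨
            (Nat.gcd 2 (Fintype.card K - 1) = 2 ∧ Odd (Fintype.card K)) := by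
          rcases two_cases (F := K) with ⟨-, hg, he⟩ | ⟨-, hg, ho⟩
          · exact Or.inl ⟨hg, he⟩
          · exact Or.inr ⟨hg, ho⟩
        have hdd : d = Nat.gcd 2 (Fintype.card K - 1) := by
          rcases hdq with ⟨h1, he⟩ | ⟨h1, ho⟩
          · rcases hdr with ⟨h2, -⟩ | ⟨-, ho'⟩
            · rw [h1, h2]
            · exfalso
              rw [← hm] at he
              exact (Nat.not_even_iff_odd.2 ho'.pow) he
          · rcases hdr with ⟨-, he'⟩ | ⟨h2, -⟩
            · exfalso
              rw [← hm] at ho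
              exact (Nat.not_even_iff_odd.2 ho) ((Nat.even_pow' (by norm_num)).2 he')
            · rw [h1, h2]
        have hkd' : k * Nat.gcd 2 (Fintype.card K - 1) = Fintype.card K ^ 2 - 1 := by
          rw [← hdd, hkd, hm]
        have hcases : Fintype.card K = 2 ∨ Fintype.card K = 3 := by
          rcases pgl2_sq_pow p₀ (ψ (DihedralGroup.r 1)) with h | h | h
          · exact subfield_minus_sq hr hkd' hdr (Or.inr rfl) (Or.inl hp₀r) (dvd_of_pow ψ hψi h)
          · exact subfield_minus_sq hr hkd' hdr (Or.inr rfl) (Or.inr (Or.inl rfl))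
              (dvd_of_pow ψ hψi h)
          · exact subfield_minus_sq hr hkd' hdr (Or.inr rfl) (Or.inr (Or.inr rfl))
              (dvd_of_pow ψ hψi h)
        rcases hcases with h2 | h3
        · rw [h2] at hc hm
          have hq4' : q = 4 := by rw [← hm]; norm_num
          have hd1 : d = 1 := by
            rcases hdq with ⟨h, -⟩ | ⟨-, ho⟩
            · exact h
            · rw [hq4'] at ho; exact absurd ho (by decide)
          rw [hd1, hq4'] at hkd
          have hH'6 : Nat.card H' = 6 := by rw [hc]; norm_num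
          omega
        · rw [h3] at hm
          exact hq9 (by rw [← hm]; norm_num)

end Cfsg.Agent.Lib.Helper50_DkMaxMinus
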