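import Mathlib
import Cfsg.Agent.S0811
import Cfsg.Agent.S0812
import Cfsg.Agent.Lib.Helper63_B43_E2d
import Cfsg.Agent.Lib.Helper5_PSLCard

/-!
# S4016-DIH (package of helper87's S4016 market; formalized by helper12)

`SL₂(F)`, `F` finite of characteristic 2, is not a simple group all of whose `p'`-subgroups are
abelian (`p` odd).
-/

set_option autoImplicit false

namespace Cfsg.Agent.Lib.Helper12_S4016_DIH


/-- A dihedral group of degree at least 3 is not commutative. -/
theorem dihedral_noncomm {m : ℕ} (hm : 3 ≤ m) :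
    (DihedralGroup.r (1 : ZMod m)) * DihedralGroup.sr 0 ≠
      DihedralGroup.sr 0 * DihedralGroup.r (1 : ZMod m) := by
  rw [DihedralGroup.r_mul_sr, DihedralGroup.sr_mul_r]
  intro h
  have h1 : (0 : ZMod m) - 1 = 0 + 1 := by
    injection h
  have h2 : ((2 : ℕ) : ZMod m) = 0 := by
    have : (1 : ZMod m) + 1 = 0 := by
      have h3 : (0 : ZMod m) - 1 + 1 = 0 + 1 + 1 := by rw [h1]
      rw [sub_add_cancel, zero_add] at h3
      exact h3.symm
    push_cast
    rw [← this]; norm_num
  rw [ZMod.natCast_eq_zero_iff] at h2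
  have := Nat.le_of_dvd (by norm_num) h2
  omega

/-- A subgroup of `PSL₂(F)` isomorphic to a dihedral group of degree `m ≥ 3` with `p ∤ 2m`
contradicts the hypothesis that `p'`-subgroups of `SL₂(F) ≃* PSL₂(F)` are abelian. -/
theorem false_of_dihedral {F : Type} [Field F] {p : ℕ}
    (κ : Matrix.SpecialLinearGroup (Fin 2) F ≃* Matrix.ProjectiveSpecialLinearGroup (Fin 2) F)
    (hab : ∀ X : Subgroup (Matrix.SpecialLinearGroup (Fin 2) F), ¬ p ∣ Nat.card ↥X →
      ∀ a ∈ X, ∀ b ∈ X, a * b = b * a)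
    (H : Subgroup (Matrix.ProjectiveSpecialLinearGroup (Fin 2) F)) {m : ℕ} (hm : 3 ≤ m)
    (e : H ≃* DihedralGroup m) (hpm : ¬ p ∣ 2 * m) : False := by
  have hcardH : Nat.card ↥H = 2 * m := by
    rw [Nat.card_congr e.toEquiv, DihedralGroup.nat_card]
  set X : Subgroup (Matrix.SpecialLinearGroup (Fin 2) F) := H.map κ.symm.toMonoidHom with hX
  have hcardX : Nat.card ↥X = 2 * m := by
    rw [hX, Subgroup.card_map_of_injective κ.symm.injective, hcardH]
  have hpX : ¬ p ∣ Nat.card ↥X := by rw [hcardX]; exact hpm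
  set a : H := e.symm (DihedralGroup.r 1) with ha
  set b : H := e.symm (DihedralGroup.sr 0) with hb
  have haX : κ.symm (a : Matrix.ProjectiveSpecialLinearGroup (Fin 2) F) ∈ X :=
    Subgroup.mem_map.mpr ⟨a, a.2, rfl⟩
  have hbX : κ.symm (b : Matrix.ProjectiveSpecialLinearGroup (Fin 2) F) ∈ X :=
    Subgroup.mem_map.mpr ⟨b, b.2, rfl⟩
  have hcomm := hab X hpX _ haX _ hbX
  rw [← map_mul, ← map_mul] at hcomm
  have h1 := κ.symm.injective hcomm
  have h2 : a * b = b * a := Subtype.ext h1
  have h3 := congrArg e h2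
  rw [map_mul, map_mul, ha, hb, MulEquiv.apply_symm_apply, MulEquiv.apply_symm_apply] at h3
  exact dihedral_noncomm hm h3

/-- `SL₂(F)` is never commutative. -/
theorem sl2_noncomm {F : Type} [Field F] :
    ∃ a b : Matrix.SpecialLinearGroup (Fin 2) F, a * b ≠ b * a := by
  let a : Matrix.SpecialLinearGroup (Fin 2) F := ⟨!![1, 1; 0, 1], by simp [Matrix.det_fin_two]⟩
  let b : Matrix.SpecialLinearGroup (Fin 2) F := ⟨!![1, 0; 1, 1], by simp [Matrix.det_fin_two]⟩
  refine ⟨a, b, ?_⟩
  intro h
  have h1 : (a * b).1 0 0 = (b * a).1 0 0 := by rw [h]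
  rw [Matrix.SpecialLinearGroup.coe_mul, Matrix.SpecialLinearGroup.coe_mul] at h1
  simp [a, b, Matrix.mul_apply, Fin.sum_univ_two] at h1

/-- **DIH**. -/
theorem DIH {F : Type} [Field F] [Fintype F] [CharP F 2] {p : ℕ} (hp : p.Prime) (hp2 : p ≠ 2)
    (hab : ∀ X : Subgroup (Matrix.SpecialLinearGroup (Fin 2) F), ¬ p ∣ Nat.card ↥X →
      ∀ a ∈ X, ∀ b ∈ X, a * b = b * a)
    (hsimple : ∀ N : Subgroup (Matrix.SpecialLinearGroup (Fin 2) F), N.Normal → N = ⊥ ∨ N = ⊤) :
    False := by
  classical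
  have h2F : (2 : F) = 0 := by
    have := CharP.cast_eq_zero F 2
    exact_mod_cast this
  obtain ⟨κ⟩ := Cfsg.Agent.Lib.Helper63_B43_E2d.nonempty_sl_equiv_psl_of_two_eq_zero F h2F
  obtain ⟨n, -, hq⟩ := FiniteField.card F 2
  have hn : 1 ≤ (n : ℕ) := n.pos
  have hpodd : ¬ p ∣ 2 := by
    intro h
    exact hp2 ((Nat.prime_dvd_prime_iff_eq hp Nat.prime_two).mp h)
  have hcard : Nat.card (Matrix.SpecialLinearGroup (Fin 2) F) =
      Fintype.card F * (Fintype.card F ^ 2 - 1) := Cfsg.Agent.Lib.Helper5_PSLCard.card_SL_two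
  by_cases hn1 : (n : ℕ) = 1
  · -- |F| = 2, |SL₂(F)| = 6
    have hq2 : Fintype.card F = 2 := by rw [hq, hn1, pow_one]
    have h6 : Nat.card (Matrix.SpecialLinearGroup (Fin 2) F) = 6 := by rw [hcard, hq2]; norm_num
    by_cases hp3 : p = 3
    · subst hp3
      have : Fact (Nat.Prime 3) := ⟨hp⟩
      obtain ⟨x, hx⟩ := exists_prime_orderOf_dvd_card' (G := Matrix.SpecialLinearGroup (Fin 2) F) 3
        (by rw [h6]; norm_num)
      have hc : Nat.card ↥(Subgroup.zpowers x) = 3 := by rw [Nat.card_zpowers, hx]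
      have hidx : (Subgroup.zpowers x).index = 2 := by
        have := (Subgroup.zpowers x).card_mul_index
        rw [hc, h6] at this
        omega
      have hnorm := Subgroup.normal_of_index_eq_two hidx
      rcases hsimple _ hnorm with h | h
      · rw [h, Subgroup.card_bot] at hc; omega
      · rw [h, Subgroup.card_top, h6] at hc; omega
    · have hp6 : ¬ p ∣ 6 := by
        intro h
        have h' : p ∣ 2 * 3 := by simpa using h
        rcases (Nat.Prime.dvd_mul hp).mp h' with h | h
        · exact hpodd h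
        · exact hp3 ((Nat.prime_dvd_prime_iff_eq hp Nat.prime_three).mp h)
      obtain ⟨a, b, habne⟩ := sl2_noncomm (F := F)
      apply habne
      refine hab ⊤ ?_ a (Subgroup.mem_top a) b (Subgroup.mem_top b)
      rw [Subgroup.card_top, h6]
      exact hp6
  · -- |F| ≥ 4
    have hn2 : 2 ≤ (n : ℕ) := by omega
    set q := Fintype.card F with hqdef
    have hq4 : 4 ≤ q := by
      rw [hq]
      calc 4 = 2 ^ 2 := by norm_num
        _ ≤ 2 ^ (n : ℕ) := Nat.pow_le_pow_right (by norm_num) hn2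
    have hqeven : 2 ∣ q := by
      rw [hq]
      exact dvd_pow_self 2 (by omega)
    have hgcd : Nat.gcd 2 (q - 1) = 1 := by
      have : ¬ 2 ∣ q - 1 := by omega
      exact (Nat.Prime.coprime_iff_not_dvd Nat.prime_two).mpr this
    by_cases hpq : p ∣ q + 1
    · -- use the dihedral group of order 2(q-1)
      have hpq' : ¬ p ∣ q - 1 := by
        intro h
        apply hpodd
        have : p ∣ (q + 1) - (q - 1) := Nat.dvd_sub hpq h
        have h2 : (q + 1) - (q - 1) = 2 := by omega
        rwa [h2] at this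
      obtain ⟨H, -, ⟨e⟩⟩ := Cfsg.Agent.S0812.result (F := F) (q := q) rfl (by
        simp only [Finset.mem_insert, Finset.mem_singleton]
        omega)
      rw [hgcd, Nat.div_one] at e
      refine false_of_dihedral κ hab H (m := q - 1) (by omega) e ?_
      intro h
      rcases (Nat.Prime.dvd_mul hp).mp h with h | h
      · exact hpodd h
      · exact hpq' h
    · obtain ⟨H, -, ⟨e⟩⟩ := Cfsg.Agent.S0811.result (F := F) (q := q) rfl (by
        simp only [Finset.mem_insert, Finset.mem_singleton]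
        omega)
      rw [hgcd, Nat.div_one] at e
      refine false_of_dihedral κ hab H (m := q + 1) (by omega) e ?_
      intro h
      rcases (Nat.Prime.dvd_mul hp).mp h with h | h
      · exact hpodd h
      · exact hpq h

end Cfsg.Agent.Lib.Helper12_S4016_DIH
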