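import Mathlib
import Cfsg.Agent.Lib.Helper94_Symp
import Cfsg.Agent.Lib.Helper94_OrthSmall
import Cfsg.Agent.Lib.Helper94_OrthSiegel
import Cfsg.Agent.Lib.Helper94_OrthSiegel2
import Cfsg.Agent.Lib.Helper94_OrthPara
import Cfsg.Agent.Lib.Helper94_OrthNondeg

set_option autoImplicit false

/-!
A quadratic extension acting on a quadratic space: an endomorphism `θ` with
`θ² = τ θ - ν`, adjoint `τ - θ` for the polar form, scaling `Q` by its norm `ν`, with anisotropic
norm form (so `F[θ]` is a field).  Basic identities, the unitary transvections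
`sieg u (t θ u)`, existence lemmas.
-/

namespace Cfsg.Agent.Lib.Helper94_OrthUni

open Module Cfsg.Agent.Lib.Helper94_Symp Cfsg.Agent.Lib.Helper94_OrthSmall
  Cfsg.Agent.Lib.Helper94_OrthSiegel Cfsg.Agent.Lib.Helper94_OrthSiegel2
  Cfsg.Agent.Lib.Helper94_OrthPara Cfsg.Agent.Lib.Helper94_OrthNondeg

variable {F V : Type*} [Field F] [AddCommGroup V] [Module F V]

/-- A quadratic field structure compatible with the quadratic form. -/
structure UStr (Q : V → F) (B : LinearMap.BilinForm F V) (θ : V →ₗ[F] V) (τ ν : F) : Prop where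
  sq : ∀ x, θ (θ x) = τ • θ x - ν • x
  adj : ∀ x y, B (θ x) y = τ * B x y - B x (θ y)
  Qθ : ∀ v, Q (θ v) = ν * Q v
  Bθ : ∀ v, B v (θ v) = τ * Q v
  aniso : ∀ a b : F, a * a + a * b * τ + b * b * ν = 0 → a = 0 ∧ b = 0

/-- `z` lies on the line of `x` over the quadratic field. -/
def Kmem (θ : V →ₗ[F] V) (x z : V) : Prop := ∃ a b : F, z = a • x + b • θ x

/-- The difference `T z - z` for the unitary transvection at `u`. -/
def dv (B : LinearMap.BilinForm F V) (θ : V →ₗ[F] V) (u z : V) : V := B z u • θ u - B z (θ u) • u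

section Str

variable {Q : V → F} {B : LinearMap.BilinForm F V} {θ : V →ₗ[F] V} {τ ν : F}
  (U : UStr Q B θ τ ν)

include U in
lemma UStr.adj' (x y : V) : B x (θ y) = τ * B x y - B (θ x) y := by
  rw [U.adj]; ring

include U in
lemma UStr.Bθθ (x y : V) : B (θ x) (θ y) = ν * B x y := by
  rw [U.adj x (θ y), U.sq, map_sub, map_smul, map_smul, smul_eq_mul, smul_eq_mul]
  ring

include U in
lemma UStr.nu_ne : ν ≠ 0 := by
  intro h
  have := (U.aniso 0 1 (by rw [h]; ring)).2
  exact one_ne_zero this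

include U in
lemma UStr.norm_ne {a b : F} (h : ¬ (a = 0 ∧ b = 0)) : a * a + a * b * τ + b * b * ν ≠ 0 :=
  fun h0 => h (U.aniso a b h0)

include U in
lemma UStr.indep {x : V} (hx : x ≠ 0) {a b : F} (h : a • x + b • θ x = 0) : a = 0 ∧ b = 0 := by
  by_cases hb : b = 0
  · subst hb
    rw [zero_smul, add_zero] at h
    exact ⟨(smul_eq_zero.mp h).resolve_right hx, rfl⟩
  · exfalso
    have h1 : θ x = (-a / b) • x := by
      have h2 : b • θ x = -(a • x) := eq_neg_of_add_eq_zero_right h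
      have h3 : θ x = b⁻¹ • (b • θ x) := by rw [smul_smul, inv_mul_cancel₀ hb, one_smul]
      rw [h3, h2, smul_neg, smul_smul, ← neg_smul]
      congr 1
      field_simp
    have h4 := U.sq x
    rw [h1, map_smul, h1, smul_smul, smul_smul, ← sub_smul] at h4
    have h5 : (-a / b * (-a / b) - (τ * (-a / b) - ν)) • x = 0 := by
      rw [sub_smul, h4, sub_self]
    have h6 := (smul_eq_zero.mp h5).resolve_right hx
    have h7 := (U.aniso (-a / b) (-1) (by linear_combination h6)).2
    exact one_ne_zero (neg_eq_zero.mp h7)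

lemma Kmem.refl (θ : V →ₗ[F] V) (x : V) : Kmem θ x x := ⟨1, 0, by simp⟩

lemma Kmem.theta_self (θ : V →ₗ[F] V) (x : V) : Kmem θ x (θ x) := ⟨0, 1, by simp⟩

lemma Kmem.zero (θ : V →ₗ[F] V) (x : V) : Kmem θ x 0 := ⟨0, 0, by simp⟩

lemma Kmem.add {x z z' : V} (h : Kmem θ x z) (h' : Kmem θ x z') : Kmem θ x (z + z') := by
  obtain ⟨a, b, rfl⟩ := h
  obtain ⟨a', b', rfl⟩ := h'
  exact ⟨a + a', b + b', by module⟩

lemma Kmem.smul {x z : V} (c : F) (h : Kmem θ x z) : Kmem θ x (c • z) := by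
  obtain ⟨a, b, rfl⟩ := h
  exact ⟨c * a, c * b, by module⟩

lemma Kmem.sub {x z z' : V} (h : Kmem θ x z) (h' : Kmem θ x z') : Kmem θ x (z - z') := by
  have := h.add (h'.smul (-1))
  rwa [neg_one_smul, ← sub_eq_add_neg] at this

include U in
lemma Kmem.theta {x z : V} (h : Kmem θ x z) : Kmem θ x (θ z) := by
  obtain ⟨a, b, rfl⟩ := h
  refine ⟨-(b * ν), a + b * τ, ?_⟩
  rw [map_add, map_smul, map_smul, U.sq]
  module

include U in
lemma Kmem.trans {x y z : V} (h : Kmem θ x y) (h' : Kmem θ y z) : Kmem θ x z := by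
  obtain ⟨c, d, rfl⟩ := h'
  exact (h.smul c).add ((h.theta U).smul d)

include U in
lemma Kmem.symm {x z : V} (h : Kmem θ x z) (hz : z ≠ 0) : Kmem θ z x := by
  obtain ⟨a, b, rfl⟩ := h
  have hab : ¬ (a = 0 ∧ b = 0) := by
    rintro ⟨rfl, rfl⟩
    apply hz
    simp
  have hN := U.norm_ne hab
  refine ⟨(a * a + a * b * τ + b * b * ν)⁻¹ * (a + b * τ),
    -((a * a + a * b * τ + b * b * ν)⁻¹ * b), ?_⟩
  rw [map_add, map_smul, map_smul, U.sq]
  have e : ((a * a + a * b * τ + b * b * ν)⁻¹ * (a + b * τ)) • (a • x + b • θ x) +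
      (-((a * a + a * b * τ + b * b * ν)⁻¹ * b)) • (a • θ x + b • (τ • θ x - ν • x)) =
      ((a * a + a * b * τ + b * b * ν)⁻¹ * (a * a + a * b * τ + b * b * ν)) • x := by
    module
  rw [e, inv_mul_cancel₀ hN, one_smul]

end Str

section Quad

variable {Q : V → F} {B : LinearMap.BilinForm F V} {θ : V →ₗ[F] V} {τ ν : F}
  (U : UStr Q B θ τ ν)
  (hQs : ∀ (c : F) (v : V), Q (c • v) = c * c * Q v)
  (hQp : ∀ u v : V, Q (u + v) = Q u + Q v + B u v)

include U hQs hQp in
lemma Q_comb (x : V) (a b : F) :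
    Q (a • x + b • θ x) = (a * a + a * b * τ + b * b * ν) * Q x := by
  rw [hQp, hQs, hQs, U.Qθ]
  simp only [map_smul, LinearMap.smul_apply, smul_eq_mul, U.Bθ]
  ring

include U hQs hQp in
lemma Kmem.sing {x z : V} (h : Kmem θ x z) (hx : Q x = 0) : Q z = 0 := by
  obtain ⟨a, b, rfl⟩ := h
  rw [Q_comb U hQs hQp, hx, mul_zero]

include U in
lemma B_theta_self {x : V} (hx : Q x = 0) : B x (θ x) = 0 := by
  rw [U.Bθ, hx, mul_zero]

include U in
/-- A vector of the line of `x` orthogonal to `y` and `θ y`, where `B x y ≠ 0`, vanishes. -/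
lemma notK_of_perp {x y w : V} (hxy : B x y ≠ 0) (h : Kmem θ x w) (h1 : B w y = 0)
    (h2 : B w (θ y) = 0) : w = 0 := by
  obtain ⟨a, b, rfl⟩ := h
  have e1 : a * B x y + b * (τ * B x y - B x (θ y)) = 0 := by
    rw [← h1, map_add, map_smul, map_smul, LinearMap.add_apply, LinearMap.smul_apply,
      LinearMap.smul_apply, U.adj]
    simp only [smul_eq_mul]
  have e2 : a * B x (θ y) + b * (ν * B x y) = 0 := by
    rw [← h2, map_add, map_smul, map_smul, LinearMap.add_apply, LinearMap.smul_apply,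
      LinearMap.smul_apply, U.Bθθ]
    simp only [smul_eq_mul]
  have hN : B x (θ y) * B x (θ y) + B x (θ y) * (-(B x y)) * τ + (-(B x y)) * (-(B x y)) * ν ≠ 0 :=
    fun h0 => hxy (neg_eq_zero.mp (U.aniso _ _ h0).2)
  have hb : b = 0 := by
    have : b * (B x (θ y) * B x (θ y) + B x (θ y) * (-(B x y)) * τ +
        (-(B x y)) * (-(B x y)) * ν) = 0 := by
      linear_combination B x y * e2 - B x (θ y) * e1
    exact (mul_eq_zero.mp this).resolve_right hN
  have ha : a = 0 := by
    rw [hb] at e1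
    have : a * B x y = 0 := by linear_combination e1
    exact (mul_eq_zero.mp this).resolve_right hxy
  rw [ha, hb]
  simp

include U hQs hQp in
lemma T_apply {u : V} (hu : Q u = 0) (t : F) (x : V) :
    sieg Q B u (t • θ u) x = x + t • dv B θ u x := by
  have h1 : B u (t • θ u) = 0 := by rw [map_smul, B_theta_self U hu, smul_zero]
  rw [sieg_apply Q B hQs hQp hu h1, hQs, U.Qθ, hu, map_smul, dv]
  simp only [smul_eq_mul, mul_zero, zero_mul, zero_smul, sub_zero]
  module

include U hQs hQp in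
lemma T_comm {u : V} (hu : Q u = 0) (t : F) (x : V) :
    sieg Q B u (t • θ u) (θ x) = θ (sieg Q B u (t • θ u) x) := by
  rw [T_apply U hQs hQp hu, T_apply U hQs hQp hu, dv, dv, U.adj x u, U.Bθθ]
  simp only [map_add, map_smul, map_sub, U.sq]
  module

include U hQs hQp in
lemma T_sub {u : V} (hu : Q u = 0) (x : V) :
    sieg Q B u ((1 : F) • θ u) x - x = dv B θ u x := by
  rw [T_apply U hQs hQp hu, one_smul, add_sub_cancel_left]

lemma dv_Kmem (u z : V) : Kmem θ u (dv B θ u z) := ⟨-(B z (θ u)), B z u, by rw [dv]; module⟩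

include U in
lemma dv_ne_zero {u z : V} (hu : u ≠ 0) (h : B z u ≠ 0) : dv B θ u z ≠ 0 := by
  intro h0
  rw [dv] at h0
  have h1 : (-(B z (θ u))) • u + B z u • θ u = 0 := by
    rw [← h0]; module
  exact h (U.indep hu h1).2

end Quad

section Exist

variable [Finite F] [FiniteDimensional F V] (Q : V → F) (B : LinearMap.BilinForm F V)
  (hQs : ∀ (c : F) (v : V), Q (c • v) = c * c * Q v)
  (hQp : ∀ u v : V, Q (u + v) = Q u + Q v + B u v)

include hQs hQp in
/-- A nonzero singular vector of `A` orthogonal to a given list of vectors. -/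
lemma exists_sing_perp : ∀ (l : List V) (A : Submodule F V), l.length + 3 ≤ finrank F A →
    ∃ w ∈ A, w ≠ 0 ∧ Q w = 0 ∧ ∀ p ∈ l, B w p = 0 := by
  intro l
  induction l with
  | nil =>
    intro A h
    obtain ⟨w, hw, hw0, hQw⟩ := exists_singular_in Q B hQs hQp A (by simpa using h)
    exact ⟨w, hw, hw0, hQw, by simp⟩
  | cons p l ih =>
    intro A h
    have h1 := finrank_le_inf_ker_add_one A (B.flip p)
    rw [List.length_cons] at h
    obtain ⟨w, hw, hw0, hQw, hl⟩ := ih (A ⊓ LinearMap.ker (B.flip p)) (by omega)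
    refine ⟨w, hw.1, hw0, hQw, ?_⟩
    intro p' hp'
    rcases List.mem_cons.mp hp' with rfl | hp'
    · exact mem_ker_flip.mp hw.2
    · exact hl p' hp'

include hQp in
/-- A vector outside a subspace is detected by a vector orthogonal to the subspace. -/
lemma exists_perp_ne (hN : B.Nondegenerate) (S : Submodule F V) {p' : V} (h : p' ∉ S) :
    ∃ p, (∀ s ∈ S, B p s = 0) ∧ B p p' ≠ 0 := by
  by_contra hcon
  push Not at hcon
  apply h
  have hR := B_isRefl Q B hQp
  rw [← LinearMap.BilinForm.orthogonal_orthogonal hN hR S]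
  intro p hp
  apply hcon p
  intro s hs
  rw [B_symm Q B hQp]
  exact hp s hs

end Exist

end Cfsg.Agent.Lib.Helper94_OrthUni
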