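import Mathlib
import Cfsg.Agent.Lib.Helper94_OrthUni

set_option autoImplicit false

/-!
Quadratic field structures on quadratic spaces, continued: partners of singular vectors, the
nondegenerate complement of the hyperbolic space spanned by the lines of a singular vector and
a partner, projections.
-/

namespace Cfsg.Agent.Lib.Helper94_OrthUni

open Module Cfsg.Agent.Lib.Helper94_Symp Cfsg.Agent.Lib.Helper94_OrthSmall
  Cfsg.Agent.Lib.Helper94_OrthSiegel Cfsg.Agent.Lib.Helper94_OrthSiegel2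
  Cfsg.Agent.Lib.Helper94_OrthPara Cfsg.Agent.Lib.Helper94_OrthNondeg

variable {F V : Type*} [Field F] [AddCommGroup V] [Module F V]

/-- `y` is a partner of `x` and `A` is the orthogonal of the lines of `x` and `y`. -/
structure Compl (Q : V → F) (B : LinearMap.BilinForm F V) (θ : V →ₗ[F] V) (x y : V)
    (A : Submodule F V) : Prop where
  ysing : Q y = 0
  xy : B x y = 0
  xθy : B x (θ y) = 1
  mem : ∀ a, a ∈ A ↔ B a x = 0 ∧ B a (θ x) = 0 ∧ B a y = 0 ∧ B a (θ y) = 0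

section

variable {Q : V → F} {B : LinearMap.BilinForm F V} {θ : V →ₗ[F] V} {τ ν : F}
  (U : UStr Q B θ τ ν)
  (hQs : ∀ (c : F) (v : V), Q (c • v) = c * c * Q v)
  (hQp : ∀ u v : V, Q (u + v) = Q u + Q v + B u v)

variable [FiniteDimensional F V]

include U hQs hQp in
lemma exists_partner (hN : B.Nondegenerate) {x : V} (hx0 : x ≠ 0) (hx : Q x = 0) :
    ∃ y, Q y = 0 ∧ B x y = 0 ∧ B x (θ y) = 1 := by
  have hsymm := B_symm Q B hQp
  have hxx : B x x = 0 := by rw [B_self Q B hQs hQp, hx, mul_zero]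
  obtain ⟨y₀, hy₀⟩ : ∃ y₀, B x y₀ ≠ 0 := by
    by_contra hcon
    push Not at hcon
    exact hx0 (hN.1 x hcon)
  have hy₀' : B y₀ x ≠ 0 := by rw [hsymm]; exact hy₀
  have hQy₁ := sing_adjust Q B hQs hQp hx hy₀'
  obtain ⟨y₁, hy₁⟩ : ∃ y₁, y₁ = y₀ + (-(Q y₀ / B y₀ x)) • x := ⟨_, rfl⟩
  rw [← hy₁] at hQy₁
  have hα : B x y₁ ≠ 0 := by
    rw [hy₁, map_add, map_smul, hxx, smul_zero, add_zero]
    exact hy₀
  have hN' : B x (θ y₁) * B x (θ y₁) + B x (θ y₁) * (-(B x y₁)) * τ +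
      (-(B x y₁)) * (-(B x y₁)) * ν ≠ 0 :=
    fun h0 => hα (neg_eq_zero.mp (U.aniso _ _ h0).2)
  obtain ⟨α, hαd⟩ : ∃ α, α = B x y₁ := ⟨_, rfl⟩
  obtain ⟨β, hβd⟩ : ∃ β, β = B x (θ y₁) := ⟨_, rfl⟩
  rw [← hαd, ← hβd] at hN'
  obtain ⟨N, hNd⟩ : ∃ N, N = β * β + β * (-α) * τ + (-α) * (-α) * ν := ⟨_, rfl⟩
  rw [← hNd] at hN'
  refine ⟨(β / N) • y₁ + (-α / N) • θ y₁, ?_, ?_, ?_⟩
  · exact Kmem.sing U hQs hQp ⟨_, _, rfl⟩ hQy₁
  · rw [map_add, map_smul, map_smul, ← hαd, ← hβd]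
    simp only [smul_eq_mul]
    field_simp
    ring
  · rw [map_add, map_smul, map_smul, U.sq, map_add, map_smul, map_smul, map_sub, map_smul,
      map_smul, ← hαd, ← hβd]
    simp only [smul_eq_mul]
    field_simp
    rw [hNd]
    ring

include U hQs hQp in
lemma exists_compl (hN : B.Nondegenerate) {x : V} (hx0 : x ≠ 0) (hx : Q x = 0) :
    ∃ y A, Compl Q B θ x y A := by
  obtain ⟨y, hy, hxy, hxθy⟩ := exists_partner U hQs hQp hN hx0 hx
  refine ⟨y, LinearMap.ker (B.flip x) ⊓ LinearMap.ker (B.flip (θ x)) ⊓ LinearMap.ker (B.flip y) ⊓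
    LinearMap.ker (B.flip (θ y)), hy, hxy, hxθy, ?_⟩
  intro a
  simp only [Submodule.mem_inf, mem_ker_flip]
  tauto

variable {x y : V} {A : Submodule F V} (C : Compl Q B θ x y A)

include C in
lemma Compl.memP {a : V} (ha : a ∈ A) : B a x = 0 ∧ B a (θ x) = 0 :=
  ⟨((C.mem a).mp ha).1, ((C.mem a).mp ha).2.1⟩

include U C in
lemma Compl.theta_mem {a : V} (ha : a ∈ A) : θ a ∈ A := by
  obtain ⟨h1, h2, h3, h4⟩ := (C.mem a).mp ha
  rw [C.mem]
  refine ⟨?_, ?_, ?_, ?_⟩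
  · rw [U.adj, h1, h2]; ring
  · rw [U.Bθθ, h1]; ring
  · rw [U.adj, h3, h4]; ring
  · rw [U.Bθθ, h3]; ring

include U hQs hQp C in
/-- The projection onto the complement. -/
lemma Compl.proj (hx : Q x = 0) (v : V) :
    v - (B v (θ y) • x - B v y • θ x - B v (θ x) • y + B v x • θ y) ∈ A := by
  have hsymm := B_symm Q B hQp
  have hxx : B x x = 0 := by rw [B_self Q B hQs hQp, hx, mul_zero]
  have hyy : B y y = 0 := by rw [B_self Q B hQs hQp, C.ysing, mul_zero]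
  have hxθx : B x (θ x) = 0 := B_theta_self U hx
  have hyθy : B y (θ y) = 0 := B_theta_self U C.ysing
  have hθxx : B (θ x) x = 0 := by rw [hsymm]; exact hxθx
  have hθyy : B (θ y) y = 0 := by rw [hsymm]; exact hyθy
  have hθxθx : B (θ x) (θ x) = 0 := by rw [U.Bθθ, hxx, mul_zero]
  have hθyθy : B (θ y) (θ y) = 0 := by rw [U.Bθθ, hyy, mul_zero]
  have hθxy : B (θ x) y = -1 := by rw [U.adj, C.xy, C.xθy]; ring
  have hθxθy : B (θ x) (θ y) = 0 := by rw [U.Bθθ, C.xy, mul_zero]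
  have hyx : B y x = 0 := by rw [hsymm]; exact C.xy
  have hθyx : B (θ y) x = 1 := by rw [hsymm]; exact C.xθy
  have hyθx : B y (θ x) = -1 := by rw [hsymm]; exact hθxy
  have hθyθx : B (θ y) (θ x) = 0 := by rw [hsymm]; exact hθxθy
  rw [C.mem]
  refine ⟨?_, ?_, ?_, ?_⟩
  · simp only [map_sub, map_add, map_smul, LinearMap.sub_apply, LinearMap.add_apply,
      LinearMap.smul_apply, smul_eq_mul, hxx, hθxx, hyx, hθyx]
    ring
  · simp only [map_sub, map_add, map_smul, LinearMap.sub_apply, LinearMap.add_apply,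
      LinearMap.smul_apply, smul_eq_mul, hxθx, hθxθx, hyθx, hθyθx]
    ring
  · simp only [map_sub, map_add, map_smul, LinearMap.sub_apply, LinearMap.add_apply,
      LinearMap.smul_apply, smul_eq_mul, C.xy, hθxy, hyy, hθyy]
    ring
  · simp only [map_sub, map_add, map_smul, LinearMap.sub_apply, LinearMap.add_apply,
      LinearMap.smul_apply, smul_eq_mul, C.xθy, hθxθy, hyθy, hθyθy]
    ring

include U hQs hQp C in
lemma Compl.nondeg (hN : B.Nondegenerate) (hx : Q x = 0) :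
    ∀ a ∈ A, a ≠ 0 → ∃ a' ∈ A, B a' a ≠ 0 := by
  intro a ha ha0
  have hsymm := B_symm Q B hQp
  obtain ⟨h1, h2, h3, h4⟩ := (C.mem a).mp ha
  obtain ⟨v, hv⟩ : ∃ v, B a v ≠ 0 := by
    by_contra hcon
    push Not at hcon
    exact ha0 (hN.1 a hcon)
  refine ⟨_, C.proj U hQs hQp hx v, ?_⟩
  simp only [map_sub, map_add, map_smul, LinearMap.sub_apply, LinearMap.add_apply,
    LinearMap.smul_apply, smul_eq_mul, hsymm x a, hsymm (θ x) a, hsymm y a, hsymm (θ y) a, h1, h2,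
    h3, h4, mul_zero, sub_zero, add_zero]
  rw [hsymm]
  exact hv

include C in
lemma Compl.finrank_le : finrank F V ≤ finrank F A + 4 := by
  have hA : A = ((⊤ : Submodule F V) ⊓ LinearMap.ker (B.flip x) ⊓ LinearMap.ker (B.flip (θ x)) ⊓
      LinearMap.ker (B.flip y) ⊓ LinearMap.ker (B.flip (θ y))) := by
    ext a
    rw [C.mem]
    simp only [Submodule.mem_inf, mem_ker_flip, Submodule.mem_top, true_and]
    tauto
  have h0 : finrank F (⊤ : Submodule F V) = finrank F V := finrank_top F V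
  have h1 := finrank_le_inf_ker_add_one (⊤ : Submodule F V) (B.flip x)
  have h2 := finrank_le_inf_ker_add_one ((⊤ : Submodule F V) ⊓ LinearMap.ker (B.flip x))
    (B.flip (θ x))
  have h3 := finrank_le_inf_ker_add_one ((⊤ : Submodule F V) ⊓ LinearMap.ker (B.flip x) ⊓
    LinearMap.ker (B.flip (θ x))) (B.flip y)
  have h4 := finrank_le_inf_ker_add_one ((⊤ : Submodule F V) ⊓ LinearMap.ker (B.flip x) ⊓
    LinearMap.ker (B.flip (θ x)) ⊓ LinearMap.ker (B.flip y)) (B.flip (θ y))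
  rw [hA]
  omega

include U hQs hQp C in
lemma Compl.decompP (hx : Q x = 0) {p : V} (h1 : B p x = 0) (h2 : B p (θ x) = 0) :
    ∃ c d : F, ∃ a ∈ A, p = c • x + d • θ x + a := by
  refine ⟨B p (θ y), -(B p y), _, C.proj U hQs hQp hx p, ?_⟩
  rw [h1, h2]
  module

include U hQp C in
lemma Compl.inter {a : V} (ha : a ∈ A) (hK : Kmem θ x a) : a = 0 := by
  obtain ⟨h1, h2, h3, h4⟩ := (C.mem a).mp ha
  have hxy' : B x (θ y) ≠ 0 := by rw [C.xθy]; exact one_ne_zero
  obtain ⟨c, d, rfl⟩ := hK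
  have e3 : -d = 0 := by
    rw [← h3]
    simp only [map_add, map_smul, LinearMap.add_apply, LinearMap.smul_apply, smul_eq_mul, C.xy,
      U.adj x y, C.xθy]
    ring
  have e4 : c = 0 := by
    rw [← h4]
    simp only [map_add, map_smul, LinearMap.add_apply, LinearMap.smul_apply, smul_eq_mul, C.xθy,
      U.Bθθ, C.xy]
    ring
  rw [e4, neg_eq_zero.mp e3]
  simp

end

section HP

variable [FiniteDimensional F V] {Q : V → F} {B : LinearMap.BilinForm F V}
  (hQs : ∀ (c : F) (v : V), Q (c • v) = c * c * Q v)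
  (hQp : ∀ u v : V, Q (u + v) = Q u + Q v + B u v)

include hQs hQp in
/-- The orthogonal of a hyperbolic pair inside a nondegenerate subspace is nondegenerate. -/
lemma nondeg_hyp (A : Submodule F V) (hA : ∀ a ∈ A, a ≠ 0 → ∃ a' ∈ A, B a' a ≠ 0)
    {h f : V} (hh : h ∈ A) (hf : f ∈ A) (hQh : Q h = 0) (hQf : Q f = 0) (hhf : B h f ≠ 0) :
    ∀ a ∈ A ⊓ LinearMap.ker (B.flip h) ⊓ LinearMap.ker (B.flip f), a ≠ 0 →
      ∃ a' ∈ A ⊓ LinearMap.ker (B.flip h) ⊓ LinearMap.ker (B.flip f), B a' a ≠ 0 := by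
  have hsymm := B_symm Q B hQp
  have hhh : B h h = 0 := by rw [B_self Q B hQs hQp, hQh, mul_zero]
  have hff : B f f = 0 := by rw [B_self Q B hQs hQp, hQf, mul_zero]
  have hfh : B f h = B h f := hsymm f h
  intro a ha ha0
  have ha1 : B a h = 0 := mem_ker_flip.mp ha.1.2
  have ha2 : B a f = 0 := mem_ker_flip.mp ha.2
  obtain ⟨a', ha', ha'a⟩ := hA a ha.1.1 ha0
  refine ⟨a' - (B a' f / B h f) • h - (B a' h / B h f) • f,
    Submodule.mem_inf.mpr ⟨Submodule.mem_inf.mpr ⟨?_, mem_ker_flip.mpr ?_⟩, mem_ker_flip.mpr ?_⟩, ?_⟩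
  · exact A.sub_mem (A.sub_mem ha' (A.smul_mem _ hh)) (A.smul_mem _ hf)
  · simp only [map_sub, map_smul, LinearMap.sub_apply, LinearMap.smul_apply, smul_eq_mul, hhh,
      hfh]
    field_simp
    ring
  · simp only [map_sub, map_smul, LinearMap.sub_apply, LinearMap.smul_apply, smul_eq_mul, hff]
    field_simp
    ring
  · simp only [map_sub, map_smul, LinearMap.sub_apply, LinearMap.smul_apply, smul_eq_mul,
      hsymm h a, hsymm f a, ha1, ha2, mul_zero, sub_zero]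
    exact ha'a

variable [Finite F]

include hQs hQp in
/-- Every vector of a nondegenerate subspace of dimension at least three is a combination of
two of its singular vectors. -/
lemma sing_sum (A : Submodule F V) (hA : ∀ a ∈ A, a ≠ 0 → ∃ a' ∈ A, B a' a ≠ 0)
    (h3 : 3 ≤ finrank F A) {a : V} (ha : a ∈ A) :
    ∃ s₁ ∈ A, ∃ s₂ ∈ A, Q s₁ = 0 ∧ Q s₂ = 0 ∧ ∃ c : F, a = s₁ + c • s₂ := by
  by_cases ha0 : a = 0
  · exact ⟨0, A.zero_mem, 0, A.zero_mem, Q_zero Q hQs, Q_zero Q hQs, 0, by simp [ha0]⟩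
  obtain ⟨s, hs, hQs', hsa⟩ := exists_sing_not_orth Q B hQs hQp A hA h3 (hA a ha ha0)
  have has : B a s ≠ 0 := by rw [B_symm Q B hQp]; exact hsa
  refine ⟨a + (-(Q a / B a s)) • s, A.add_mem ha (A.smul_mem _ hs), s, hs,
    sing_adjust Q B hQs hQp hQs' has, hQs', Q a / B a s, ?_⟩
  module

end HP

end Cfsg.Agent.Lib.Helper94_OrthUni
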