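import Mathlib
import Cfsg.Agent.Lib.Helper94_OrthUni
import Cfsg.Agent.Lib.Helper94_OrthUni2

set_option autoImplicit false

/-!
Overgroups of the normaliser of a quadratic field structure in an orthogonal group: if the part
of the Siegel group at a singular vector `x` contained in the overgroup `M` is not inside the
line of `x`, then it contains the orthogonal of this line.
-/

namespace Cfsg.Agent.Lib.Helper94_OrthUni

open Module Cfsg.Agent.Lib.Helper94_Symp Cfsg.Agent.Lib.Helper94_OrthSmall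
  Cfsg.Agent.Lib.Helper94_OrthSiegel Cfsg.Agent.Lib.Helper94_OrthSiegel2
  Cfsg.Agent.Lib.Helper94_OrthPara Cfsg.Agent.Lib.Helper94_OrthNondeg

variable {F V : Type*} [Field F] [AddCommGroup V] [Module F V]

section Calc

variable {Q : V → F} {B : LinearMap.BilinForm F V} {θ : V →ₗ[F] V} {τ ν : F}
  (U : UStr Q B θ τ ν)
  (hQs : ∀ (c : F) (v : V), Q (c • v) = c * c * Q v)
  (hQp : ∀ u v : V, Q (u + v) = Q u + Q v + B u v)

include U in
lemma dv_dv_left {u p' : V} : B u (dv B θ p' u) = 0 := by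
  rw [dv, map_sub, map_smul, map_smul]
  simp only [smul_eq_mul]
  ring

include U in
lemma dv_dv_right {u p' : V} :
    B u (θ (dv B θ p' u)) = -(B u (θ p') * B u (θ p') + B u (θ p') * (-(B u p')) * τ +
      (-(B u p')) * (-(B u p')) * ν) := by
  rw [dv, map_sub, map_smul, map_smul, U.sq, map_sub, map_smul, map_smul, map_sub, map_smul,
    map_smul]
  simp only [smul_eq_mul]
  ring

include U hQs hQp in
lemma key_sing {u f w : V} {ε : F} (hε : ε ≠ 0) (hu : Q u = 0) (hf : Q f = 0) (huf : B u f = 0)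
    (huθf : B u (θ f) = -ε) (hwu : B w u = 0) (hwθu : B w (θ u) = 0) (hwf : B w f = 0) :
    Q ((-(Q w / ε)) • θ u + f + w) = 0 := by
  have hsymm := B_symm Q B hQp
  have h1 : B (θ u) f = ε := by rw [U.adj, huf, huθf]; ring
  rw [hQp, hQp, hQs, U.Qθ, hu, hf]
  simp only [map_add, map_smul, LinearMap.add_apply, LinearMap.smul_apply, smul_eq_mul, h1,
    hsymm (θ u) w, hwθu, hsymm f w, hwf]
  field_simp
  ring

include U hQs hQp in
lemma key_dv1 {u f w : V} {ε : F} (hu : Q u = 0) (huf : B u f = 0)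
    (huθf : B u (θ f) = -ε) (hwu : B w u = 0) (hwθu : B w (θ u) = 0) :
    dv B θ ((-(Q w / ε)) • θ u + f + w) u = ε • ((-(Q w / ε)) • θ u + f + w) := by
  have hsymm := B_symm Q B hQp
  have huu : B u u = 0 := by rw [B_self Q B hQs hQp, hu, mul_zero]
  have h1 : B u ((-(Q w / ε)) • θ u + f + w) = 0 := by
    rw [map_add, map_add, map_smul, B_theta_self U hu, huf, hsymm u w, hwu]
    simp
  have hθw : B u (θ w) = 0 := by
    rw [U.adj' u w, hsymm u w, hwu, hsymm (θ u) w, hwθu]; ring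
  have h2 : B u (θ ((-(Q w / ε)) • θ u + f + w)) = -ε := by
    simp only [map_add, map_smul, map_sub, U.sq, smul_eq_mul, B_theta_self U hu, huu, huθf, hθw]
    ring
  rw [dv, h1, h2]
  module

include U hQs hQp in
lemma key_dv2 {u f w : V} {ε : F} (hε : ε ≠ 0) (hf : Q f = 0) (huf : B u f = 0)
    (huθf : B u (θ f) = -ε) (hwf : B w f = 0) (hwθf : B w (θ f) = 0) :
    dv B θ f ((-(Q w / ε)) • θ u + f + w) = (-(Q w)) • θ f := by
  have hff : B f f = 0 := by rw [B_self Q B hQs hQp, hf, mul_zero]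
  have h0 : B (θ u) f = ε := by rw [U.adj, huf, huθf]; ring
  have h1 : B ((-(Q w / ε)) • θ u + f + w) f = -(Q w) := by
    simp only [map_add, map_smul, LinearMap.add_apply, LinearMap.smul_apply, smul_eq_mul, h0, hff,
      hwf]
    field_simp
    ring
  have h2 : B ((-(Q w / ε)) • θ u + f + w) (θ f) = 0 := by
    simp only [map_add, map_smul, LinearMap.add_apply, LinearMap.smul_apply, smul_eq_mul, U.Bθθ,
      huf, B_theta_self U hf, hwθf]
    ring
  rw [dv, h1, h2]
  module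

end Calc

section Main

variable [Finite F] [FiniteDimensional F V] {Q : V → F} {B : LinearMap.BilinForm F V}
  {θ : V →ₗ[F] V} {τ ν : F} (U : UStr Q B θ τ ν)
  (hQs : ∀ (c : F) (v : V), Q (c • v) = c * c * Q v)
  (hQp : ∀ u v : V, Q (u + v) = Q u + Q v + B u v)
  (M : Subgroup (V ≃ₗ[F] V)) (hMO : M ≤ oG Q)
  (hT : ∀ (u : V) (t : F), Q u = 0 → sieg Q B u (t • θ u) ∈ M)

include U hQs hQp hMO hT in
/-- Invariance of the Siegel part at `x` under the unitary transvections fixing `x`. -/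
lemma InZ_dv {x u z : V} (hx : Q x = 0) (hu : Q u = 0) (hux : B u x = 0) (huθx : B u (θ x) = 0)
    (hz : InZ Q B M x z) : InZ Q B M x (dv B θ u z) := by
  have hsymm := B_symm Q B hQp
  have hfix : sieg Q B u ((1 : F) • θ u) x = x := by
    rw [T_apply U hQs hQp hu, dv, hsymm x u, hux, U.adj' x u, hsymm x u, hux, hsymm (θ x) u, huθx]
    simp
  have hg := hT u 1 hu
  have h1 := InZ_map hQs hQp hg (hMO hg) hx hz
  rw [hfix] at h1
  have h2 := InZ_sub hQs hQp hx h1 hz
  rwa [T_sub U hQs hQp hu] at h2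

include U hQs hQp hMO hT in
/-- The direct step: from the line of `f` to the line of `s`. -/
lemma InZ_step {x f s : V} (hx : Q x = 0) (hf : InZ Q B M x f) (hθf : InZ Q B M x (θ f))
    (hs : Q s = 0) (hsx : B s x = 0) (hsθx : B s (θ x) = 0)
    (hne : ¬ (B f s = 0 ∧ B f (θ s) = 0)) : InZ Q B M x s ∧ InZ Q B M x (θ s) := by
  have h1 := InZ_dv U hQs hQp M hMO hT hx hs hsx hsθx hf
  have h2 := InZ_dv U hQs hQp M hMO hT hx hs hsx hsθx hθf
  obtain ⟨a, ha⟩ : ∃ a, a = B f s := ⟨_, rfl⟩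
  obtain ⟨b, hb⟩ : ∃ b, b = B f (θ s) := ⟨_, rfl⟩
  have e1 : dv B θ s f = a • θ s - b • s := by rw [dv, ha, hb]
  have e2 : dv B θ s (θ f) = (τ * a - b) • θ s - (ν * a) • s := by
    rw [dv, U.adj, U.Bθθ, ha, hb]
  rw [e1] at h1
  rw [e2] at h2
  have hN : b * b + b * (-a) * τ + (-a) * (-a) * ν ≠ 0 := by
    apply U.norm_ne
    rintro ⟨h3, h4⟩
    apply hne
    rw [← ha, ← hb]
    exact ⟨neg_eq_zero.mp h4, h3⟩
  constructor
  · have h3 := InZ_smul (b * b + b * (-a) * τ + (-a) * (-a) * ν)⁻¹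
      (InZ_sub hQs hQp hx (InZ_smul (τ * a - b) h1) (InZ_smul a h2))
    have e : (b * b + b * (-a) * τ + (-a) * (-a) * ν)⁻¹ •
        ((τ * a - b) • (a • θ s - b • s) - a • ((τ * a - b) • θ s - (ν * a) • s)) =
        ((b * b + b * (-a) * τ + (-a) * (-a) * ν)⁻¹ *
          (b * b + b * (-a) * τ + (-a) * (-a) * ν)) • s := by
      module
    rwa [e, inv_mul_cancel₀ hN, one_smul] at h3
  · have h3 := InZ_smul (b * b + b * (-a) * τ + (-a) * (-a) * ν)⁻¹
      (InZ_sub hQs hQp hx (InZ_smul (ν * a) h1) (InZ_smul b h2))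
    have e : (b * b + b * (-a) * τ + (-a) * (-a) * ν)⁻¹ •
        ((ν * a) • (a • θ s - b • s) - b • ((τ * a - b) • θ s - (ν * a) • s)) =
        ((b * b + b * (-a) * τ + (-a) * (-a) * ν)⁻¹ *
          (b * b + b * (-a) * τ + (-a) * (-a) * ν)) • θ s := by
      module
    rwa [e, inv_mul_cancel₀ hN, one_smul] at h3

end Main

end Cfsg.Agent.Lib.Helper94_OrthUni
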