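import Mathlib
import Cfsg.Agent.Lib.Helper94_OrthUni
import Cfsg.Agent.Lib.Helper94_OrthUni2
import Cfsg.Agent.Lib.Helper94_OrthUni3

set_option autoImplicit false

/-!
Overgroups of the normaliser of a quadratic field structure, the main step: if the part of the
Siegel group at a singular `x` inside the overgroup is not contained in the line of `x`, then it
contains the whole orthogonal of this line.
-/

namespace Cfsg.Agent.Lib.Helper94_OrthUni

open Module Cfsg.Agent.Lib.Helper94_Symp Cfsg.Agent.Lib.Helper94_OrthSmall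
  Cfsg.Agent.Lib.Helper94_OrthSiegel Cfsg.Agent.Lib.Helper94_OrthSiegel2
  Cfsg.Agent.Lib.Helper94_OrthPara Cfsg.Agent.Lib.Helper94_OrthNondeg

variable {F V : Type*} [Field F] [AddCommGroup V] [Module F V]

section NS

variable [FiniteDimensional F V] (Q : V → F) (B : LinearMap.BilinForm F V)
  (hQp : ∀ u v : V, Q (u + v) = Q u + Q v + B u v)

include hQp in
/-- A nonsingular vector orthogonal to a short list of vectors. -/
lemma exists_nonsing_list (hN : B.Nondegenerate) (l : List V)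
    (hl : 2 * l.length < finrank F V) : ∃ w, Q w ≠ 0 ∧ ∀ p ∈ l, B w p = 0 := by
  classical
  have h1 : finrank F (Submodule.span F ((l.toFinset : Finset V) : Set V)) ≤ l.toFinset.card :=
    finrank_span_finset_le_card _
  have h2 := List.toFinset_card_le l
  obtain ⟨w, hw, hQw⟩ := exists_nonsing Q B hQp hN
    (Submodule.span F ((l.toFinset : Finset V) : Set V)) (by omega)
  refine ⟨w, hQw, fun p hp => ?_⟩
  rw [B_symm Q B hQp]
  exact (mem_orth B).mp hw p (Submodule.subset_span (by simpa using hp))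

end NS

section Main

variable [Finite F] [FiniteDimensional F V] {Q : V → F} {B : LinearMap.BilinForm F V}
  {θ : V →ₗ[F] V} {τ ν : F} (U : UStr Q B θ τ ν)
  (hQs : ∀ (c : F) (v : V), Q (c • v) = c * c * Q v)
  (hQp : ∀ u v : V, Q (u + v) = Q u + Q v + B u v)
  (M : Subgroup (V ≃ₗ[F] V)) (hMO : M ≤ oG Q)
  (hT : ∀ (u : V) (t : F), Q u = 0 → sieg Q B u (t • θ u) ∈ M)

include hQs hQp in
lemma InZ_self {x : V} (hx : Q x = 0) : InZ Q B M x x := by
  have hxx : B x x = 0 := by rw [B_self Q B hQs hQp, hx, mul_zero]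
  refine ⟨hxx, fun t => ?_⟩
  have h := sieg_add_smul Q B hQs hQp hx (z := 0) (by simp) t
  rw [zero_add, sieg_zero_right Q B hQs hQp hx] at h
  rw [h]
  exact M.one_mem

include U hT in
lemma InZ_theta_self {x : V} (hx : Q x = 0) : InZ Q B M x (θ x) :=
  ⟨B_theta_self U hx, fun t => hT x t hx⟩

include U hQs hQp hMO hT in
/-- Spreading inside the complement: from one full line to all singular vectors. -/
lemma spread {x y : V} {A : Submodule F V} (C : Compl Q B θ x y A) (hN : B.Nondegenerate)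
    (h13 : 13 ≤ finrank F V) (hx : Q x = 0)
    {f : V} (hfA : f ∈ A) (hf0 : f ≠ 0) (hQf : Q f = 0) (hf : InZ Q B M x f)
    (hθf : InZ Q B M x (θ f)) {s : V} (hsA : s ∈ A) (hQs' : Q s = 0) :
    InZ Q B M x s ∧ InZ Q B M x (θ s) := by
  have hsymm := B_symm Q B hQp
  have hA := C.nondeg U hQs hQp hN hx
  have hdim := C.finrank_le
  have h3 : 3 ≤ finrank F A := by omega
  by_cases hs0 : s = 0
  · subst hs0
    rw [map_zero]
    exact ⟨InZ_zero hQs hQp hx, InZ_zero hQs hQp hx⟩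
  by_cases hne : B f s = 0 ∧ B f (θ s) = 0
  · obtain ⟨h, hhA, hQh, hhf⟩ := exists_sing_not_orth Q B hQs hQp A hA h3 (hA f hfA hf0)
    have hfh : B f h ≠ 0 := by rw [hsymm]; exact hhf
    obtain ⟨Xh, Xθh⟩ := InZ_step U hQs hQp M hMO hT hx hf hθf hQh (C.memP hhA).1 (C.memP hhA).2
      (fun hc => hfh hc.1)
    by_cases hhs : B h s = 0
    · have hnd := nondeg_hyp hQs hQp A hA hhA hfA hQh hQf hhf
      have d1 := finrank_le_inf_ker_add_one A (B.flip h)
      have d2 := finrank_le_inf_ker_add_one (A ⊓ LinearMap.ker (B.flip h)) (B.flip f)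
      have hsA' : s ∈ A ⊓ LinearMap.ker (B.flip h) ⊓ LinearMap.ker (B.flip f) :=
        Submodule.mem_inf.mpr ⟨Submodule.mem_inf.mpr ⟨hsA, mem_ker_flip.mpr (by rw [hsymm]; exact hhs)⟩,
          mem_ker_flip.mpr (by rw [hsymm]; exact hne.1)⟩
      obtain ⟨t, htA', hQt, hts⟩ := exists_sing_not_orth Q B hQs hQp _ hnd (by omega)
        (hnd s hsA' hs0)
      have htA : t ∈ A := htA'.1.1
      have hth : B t h = 0 := mem_ker_flip.mp htA'.1.2
      have htf : B t f = 0 := mem_ker_flip.mp htA'.2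
      have hQg : Q (h + t) = 0 := by rw [hQp, hQh, hQt, hsymm, hth]; ring
      have hgA : h + t ∈ A := A.add_mem hhA htA
      have hfg : B f (h + t) ≠ 0 := by
        rw [map_add, hsymm f t, htf, add_zero]; exact hfh
      obtain ⟨Xg, Xθg⟩ := InZ_step U hQs hQp M hMO hT hx hf hθf hQg (C.memP hgA).1 (C.memP hgA).2
        (fun hc => hfg hc.1)
      have hgs : B (h + t) s ≠ 0 := by
        rw [map_add, LinearMap.add_apply, hhs, zero_add]; exact hts
      exact InZ_step U hQs hQp M hMO hT hx Xg Xθg hQs' (C.memP hsA).1 (C.memP hsA).2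
        (fun hc => hgs hc.1)
    · exact InZ_step U hQs hQp M hMO hT hx Xh Xθh hQs' (C.memP hsA).1 (C.memP hsA).2
        (fun hc => hhs hc.1)
  · exact InZ_step U hQs hQp M hMO hT hx hf hθf hQs' (C.memP hsA).1 (C.memP hsA).2 hne

include U hQs hQp hMO hT in
/-- From a nonzero vector of the complement to a full line in the complement. -/
lemma line_of_vec {x y : V} {A : Submodule F V} (C : Compl Q B θ x y A) (hN : B.Nondegenerate)
    (h13 : 13 ≤ finrank F V) (hx : Q x = 0)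
    {z₀ : V} (hzA : z₀ ∈ A) (hz0 : z₀ ≠ 0) (hz : InZ Q B M x z₀) :
    ∃ f ∈ A, f ≠ 0 ∧ Q f = 0 ∧ InZ Q B M x f ∧ InZ Q B M x (θ f) := by
  have hsymm := B_symm Q B hQp
  have hA := C.nondeg U hQs hQp hN hx
  have hdim := C.finrank_le
  have h3 : 3 ≤ finrank F A := by omega
  -- a singular vector of the line of `s₀`
  obtain ⟨s₀, hs₀A, hQs₀, hs₀z⟩ := exists_sing_not_orth Q B hQs hQp A hA h3 (hA z₀ hzA hz0)
  have hs₀0 : s₀ ≠ 0 := by
    rintro rfl
    simp at hs₀z
  have hz₀s : B z₀ s₀ ≠ 0 := by rw [hsymm]; exact hs₀z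
  obtain ⟨u, hud⟩ : ∃ u, u = dv B θ s₀ z₀ := ⟨_, rfl⟩
  have Xu : InZ Q B M x u := by
    rw [hud]
    exact InZ_dv U hQs hQp M hMO hT hx hQs₀ (C.memP hs₀A).1 (C.memP hs₀A).2 hz
  have hu0 : u ≠ 0 := by rw [hud]; exact dv_ne_zero U hs₀0 hz₀s
  have hKu : Kmem θ s₀ u := by rw [hud]; exact dv_Kmem s₀ z₀
  have hQu : Q u = 0 := hKu.sing U hQs hQp hQs₀
  have huA : u ∈ A := by
    obtain ⟨a, b, rfl⟩ := hKu
    exact A.add_mem (A.smul_mem _ hs₀A) (A.smul_mem _ (C.theta_mem U hs₀A))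
  -- the second line
  obtain ⟨p', hp'A, hQp', hp'u⟩ := exists_sing_not_orth Q B hQs hQp A hA h3 (hA u huA hu0)
  have hup' : B u p' ≠ 0 := by rw [hsymm]; exact hp'u
  obtain ⟨f, hfd⟩ : ∃ f, f = dv B θ p' u := ⟨_, rfl⟩
  have Xf : InZ Q B M x f := by
    rw [hfd]
    exact InZ_dv U hQs hQp M hMO hT hx hQp' (C.memP hp'A).1 (C.memP hp'A).2 Xu
  have hKf : Kmem θ p' f := by rw [hfd]; exact dv_Kmem p' u
  have hQf : Q f = 0 := hKf.sing U hQs hQp hQp'
  have hfA : f ∈ A := by
    obtain ⟨a, b, rfl⟩ := hKf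
    exact A.add_mem (A.smul_mem _ hp'A) (A.smul_mem _ (C.theta_mem U hp'A))
  obtain ⟨ε, hεd⟩ : ∃ ε, ε = B u (θ p') * B u (θ p') + B u (θ p') * (-(B u p')) * τ +
      (-(B u p')) * (-(B u p')) * ν := ⟨_, rfl⟩
  have hε : ε ≠ 0 := by
    rw [hεd]
    apply U.norm_ne
    rintro ⟨-, h2⟩
    exact hup' (neg_eq_zero.mp h2)
  have huf : B u f = 0 := by rw [hfd]; exact dv_dv_left U
  have huθf : B u (θ f) = -ε := by rw [hfd, hεd]; exact dv_dv_right U
  have hf0 : f ≠ 0 := by
    rintro rfl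
    rw [map_zero, map_zero] at huθf
    exact hε (neg_eq_zero.mp huθf.symm)
  -- a nonsingular vector orthogonal to everything
  obtain ⟨w, hQw, hw⟩ := exists_nonsing_list Q B hQp hN [x, θ x, u, θ u, f, θ f]
    (by simp only [List.length_cons, List.length_nil]; omega)
  have hwx : B w x = 0 := hw x (by simp)
  have hwθx : B w (θ x) = 0 := hw (θ x) (by simp)
  have hwu : B w u = 0 := hw u (by simp)
  have hwθu : B w (θ u) = 0 := hw (θ u) (by simp)
  have hwf : B w f = 0 := hw f (by simp)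
  have hwθf : B w (θ f) = 0 := hw (θ f) (by simp)
  obtain ⟨u', hu'd⟩ : ∃ u', u' = (-(Q w / ε)) • θ u + f + w := ⟨_, rfl⟩
  have hQu' : Q u' = 0 := by
    rw [hu'd]; exact key_sing U hQs hQp hε hQu hQf huf huθf hwu hwθu hwf
  have hθuA := C.theta_mem U huA
  have hu'x : B u' x = 0 := by
    rw [hu'd]
    simp only [map_add, map_smul, LinearMap.add_apply, LinearMap.smul_apply, (C.memP hθuA).1,
      (C.memP hfA).1, hwx]
    simp
  have hu'θx : B u' (θ x) = 0 := by
    rw [hu'd]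
    simp only [map_add, map_smul, LinearMap.add_apply, LinearMap.smul_apply, (C.memP hθuA).2,
      (C.memP hfA).2, hwθx]
    simp
  have Xu' : InZ Q B M x u' := by
    have h1 := InZ_dv U hQs hQp M hMO hT hx hQu' hu'x hu'θx Xu
    rw [hu'd, key_dv1 U hQs hQp hQu huf huθf hwu hwθu, ← hu'd] at h1
    have h2 := InZ_smul ε⁻¹ h1
    rwa [smul_smul, inv_mul_cancel₀ hε, one_smul] at h2
  have Xθf : InZ Q B M x (θ f) := by
    have h1 := InZ_dv U hQs hQp M hMO hT hx hQf (C.memP hfA).1 (C.memP hfA).2 Xu'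
    rw [hu'd, key_dv2 U hQs hQp hε hQf huf huθf hwf hwθf] at h1
    have h2 := InZ_smul (-(Q w))⁻¹ h1
    rwa [smul_smul, inv_mul_cancel₀ (neg_ne_zero.mpr hQw), one_smul] at h2
  exact ⟨f, hfA, hf0, hQf, Xf, Xθf⟩

include U hQs hQp hMO hT in
/-- **Main step**: a vector of the Siegel part at `x` outside the line of `x` forces the whole
orthogonal of the line. -/
theorem semifull_of_notK (hN : B.Nondegenerate) (h13 : 13 ≤ finrank F V) {x z : V} (hx0 : x ≠ 0)
    (hx : Q x = 0) (hz : InZ Q B M x z) (hzK : ¬ Kmem θ x z) :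
    ∀ p, B p x = 0 → B p (θ x) = 0 → InZ Q B M x p := by
  have hsymm := B_symm Q B hQp
  obtain ⟨y, A, C⟩ := exists_compl U hQs hQp hN hx0 hx
  have hA := C.nondeg U hQs hQp hN hx
  have hdim := C.finrank_le
  have h3 : 3 ≤ finrank F A := by omega
  have Xx : InZ Q B M x x := InZ_self hQs hQp M hx
  have Xθx : InZ Q B M x (θ x) := InZ_theta_self U M hT hx
  have hzx : B z x = 0 := by rw [hsymm]; exact hz.1
  -- a nonzero vector of the complement in the Siegel part
  have step0 : ∃ z₀ ∈ A, z₀ ≠ 0 ∧ InZ Q B M x z₀ := by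
    obtain ⟨c1, hc1⟩ : ∃ c1, c1 = B z (θ y) := ⟨_, rfl⟩
    obtain ⟨c2, hc2⟩ : ∃ c2, c2 = B z y := ⟨_, rfl⟩
    obtain ⟨c3, hc3d⟩ : ∃ c3, c3 = B z (θ x) := ⟨_, rfl⟩
    obtain ⟨zA, hzAd⟩ : ∃ zA, zA = z - (c1 • x - c2 • θ x - c3 • y + B z x • θ y) := ⟨_, rfl⟩
    have hzAA : zA ∈ A := by rw [hzAd, hc1, hc2, hc3d]; exact C.proj U hQs hQp hx z
    have hzdec : z = c1 • x - c2 • θ x - c3 • y + zA := by
      rw [hzAd, hzx]; module
    by_cases hzA0 : zA = 0
    · -- then `y` lies in the Siegel part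
      have hc3 : c3 ≠ 0 := by
        intro h0
        apply hzK
        refine ⟨c1, -c2, ?_⟩
        rw [hzdec, hzA0, h0]
        module
      have Xy : InZ Q B M x y := by
        have h1 := InZ_sub hQs hQp hx (InZ_sub hQs hQp hx hz (InZ_smul c1 Xx))
          (InZ_smul (-c2) Xθx)
        have h2 := InZ_smul (-c3)⁻¹ h1
        have hz' : z - c1 • x - (-c2) • θ x = (-c3) • y := by
          rw [hzdec, hzA0]
          module
        rwa [hz', smul_smul, inv_mul_cancel₀ (neg_ne_zero.mpr hc3), one_smul] at h2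
      obtain ⟨s, hsA, hs0, hQs'⟩ := exists_singular_in Q B hQs hQp A h3
      obtain ⟨h1, h2, h3', h4⟩ := (C.mem s).mp hsA
      have hθsA := C.theta_mem U hsA
      obtain ⟨g1, g2, g3, g4⟩ := (C.mem (θ s)).mp hθsA
      have hxx : B x x = 0 := by rw [B_self Q B hQs hQp, hx, mul_zero]
      have hθxθx : B (θ x) (θ x) = 0 := by rw [U.Bθθ, hxx, mul_zero]
      have hQu : Q (θ x + s) = 0 := by
        rw [hQp, U.Qθ, hx, hQs', hsymm, h2]; ring
      have hux : B (θ x + s) x = 0 := by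
        rw [map_add, LinearMap.add_apply, h1, hsymm, B_theta_self U hx, add_zero]
      have huθx : B (θ x + s) (θ x) = 0 := by
        rw [map_add, LinearMap.add_apply, h2, hθxθx, add_zero]
      have h5 := InZ_dv U hQs hQp M hMO hT hx hQu hux huθx Xy
      have hyθx : B y (θ x) = -1 := by rw [hsymm, U.adj, C.xy, C.xθy]; ring
      have hyx : B y x = 0 := by rw [hsymm]; exact C.xy
      have e : dv B θ (θ x + s) y = ν • x + (τ • s - θ s) := by
        rw [dv]
        have e1 : B y (θ x + s) = -1 := by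
          rw [map_add, hyθx, hsymm, h3', add_zero]
        have e2 : B y (θ (θ x + s)) = -τ := by
          rw [map_add, U.sq, map_add, map_sub, map_smul, map_smul, hyθx, hyx, hsymm y (θ s), g3]
          simp
        rw [e1, e2, map_add, U.sq]
        module
      rw [e] at h5
      have h6 := InZ_sub hQs hQp hx h5 (InZ_smul ν Xx)
      rw [add_sub_cancel_left] at h6
      refine ⟨τ • s - θ s, A.sub_mem (A.smul_mem _ hsA) hθsA, ?_, h6⟩
      intro h0
      have h7 : τ • s + (-1 : F) • θ s = 0 := by rw [← h0]; module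
      have := (U.indep hs0 h7).2
      exact one_ne_zero (neg_eq_zero.mp this)
    · obtain ⟨s, hsA, hQs', hszA⟩ := exists_sing_not_orth Q B hQs hQp A hA h3 (hA zA hzAA hzA0)
      have hs0 : s ≠ 0 := by
        rintro rfl
        simp at hszA
      obtain ⟨h1, h2, h3', h4⟩ := (C.mem s).mp hsA
      have hzs : B z s ≠ 0 := by
        rw [hzdec]
        simp only [map_sub, map_add, map_smul, LinearMap.sub_apply, LinearMap.add_apply,
          LinearMap.smul_apply, smul_eq_mul, hsymm x s, hsymm (θ x) s, hsymm y s, h1, h2, h3',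
          mul_zero, sub_zero, zero_add]
        rw [hsymm]; exact hszA
      refine ⟨dv B θ s z, ?_, dv_ne_zero U hs0 hzs,
        InZ_dv U hQs hQp M hMO hT hx hQs' h1 h2 hz⟩
      obtain ⟨a, b, hab⟩ := dv_Kmem (B := B) (θ := θ) s z
      rw [hab]
      exact A.add_mem (A.smul_mem _ hsA) (A.smul_mem _ (C.theta_mem U hsA))
  obtain ⟨z₀, hz₀A, hz₀0, Xz₀⟩ := step0
  obtain ⟨f, hfA, hf0, hQf, Xf, Xθf⟩ := line_of_vec U hQs hQp M hMO hT C hN h13 hx hz₀A hz₀0 Xz₀
  intro p hp1 hp2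
  obtain ⟨c, d, a, haA, rfl⟩ := C.decompP U hQs hQp hx hp1 hp2
  obtain ⟨s₁, hs₁, s₂, hs₂, hQ1, hQ2, c', rfl⟩ := sing_sum hQs hQp A hA h3 haA
  have X1 := (spread U hQs hQp M hMO hT C hN h13 hx hfA hf0 hQf Xf Xθf hs₁ hQ1).1
  have X2 := (spread U hQs hQp M hMO hT C hN h13 hx hfA hf0 hQf Xf Xθf hs₂ hQ2).1
  exact InZ_add hQs hQp hx (InZ_add hQs hQp hx (InZ_smul c Xx) (InZ_smul d Xθx))
    (InZ_add hQs hQp hx X1 (InZ_smul c' X2))

end Main

end Cfsg.Agent.Lib.Helper94_OrthUni
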