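import Mathlib
import Cfsg.Agent.Lib.Helper94_OrthUni
import Cfsg.Agent.Lib.Helper94_OrthUni2
import Cfsg.Agent.Lib.Helper94_OrthUni3
import Cfsg.Agent.Lib.Helper94_OrthUni4

set_option autoImplicit false

/-!
Overgroups of the normaliser of a quadratic field structure: propagation of the full orthogonal
of a line to all singular vectors and to the whole Siegel groups; the alternative where every
Siegel part is inside its line forces the overgroup to normalise the field.
-/

namespace Cfsg.Agent.Lib.Helper94_OrthUni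

open Module Cfsg.Agent.Lib.Helper94_Symp Cfsg.Agent.Lib.Helper94_OrthSmall
  Cfsg.Agent.Lib.Helper94_OrthSiegel Cfsg.Agent.Lib.Helper94_OrthSiegel2
  Cfsg.Agent.Lib.Helper94_OrthPara Cfsg.Agent.Lib.Helper94_OrthNondeg

variable {F V : Type*} [Field F] [AddCommGroup V] [Module F V]

section Swap

variable {Q : V → F} {B : LinearMap.BilinForm F V}
  (hQs : ∀ (c : F) (v : V), Q (c • v) = c * c * Q v)
  (hQp : ∀ u v : V, Q (u + v) = Q u + Q v + B u v)

include hQs hQp in
/-- Symmetry of the Siegel elements attached to two orthogonal singular vectors. -/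
lemma sieg_swap {v z : V} (hv : Q v = 0) (hz : Q z = 0) (hvz : B v z = 0) (t : F) :
    sieg Q B z (t • v) = sieg Q B v ((-t) • z) := by
  have hsymm := B_symm Q B hQp
  have hzv : B z v = 0 := by rw [hsymm]; exact hvz
  ext x
  rw [sieg_apply Q B hQs hQp hz (by rw [map_smul, hzv, smul_zero]),
    sieg_apply Q B hQs hQp hv (by rw [map_smul, hvz, smul_zero]), hQs, hQs, hv, hz]
  simp only [map_smul, smul_eq_mul]
  module

end Swap

/-- The Siegel part at `x` inside `M` contains the orthogonal of the line of `x`. -/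
def SemiFull (Q : V → F) (B : LinearMap.BilinForm F V) (θ : V →ₗ[F] V)
    (M : Subgroup (V ≃ₗ[F] V)) (x : V) : Prop :=
  ∀ p, B p x = 0 → B p (θ x) = 0 → InZ Q B M x p

section Main

variable [Finite F] [FiniteDimensional F V] {Q : V → F} {B : LinearMap.BilinForm F V}
  {θ : V →ₗ[F] V} {τ ν : F} (U : UStr Q B θ τ ν)
  (hQs : ∀ (c : F) (v : V), Q (c • v) = c * c * Q v)
  (hQp : ∀ u v : V, Q (u + v) = Q u + Q v + B u v)
  (M : Subgroup (V ≃ₗ[F] V)) (hMO : M ≤ oG Q)
  (hT : ∀ (u : V) (t : F), Q u = 0 → sieg Q B u (t • θ u) ∈ M)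

include U hQs hQp hMO hT in
lemma semifull_step (hN : B.Nondegenerate) (h13 : 13 ≤ finrank F V) {x z : V} (hx0 : x ≠ 0)
    (hx : Q x = 0) (hz0 : z ≠ 0) (hz : Q z = 0) (hzx : B z x = 0) (hzθx : B z (θ x) = 0)
    (hK : ¬ Kmem θ x z) (hS : SemiFull Q B θ M x) : SemiFull Q B θ M z := by
  have hsymm := B_symm Q B hQp
  have h1 := hS z hzx hzθx
  have h2 : InZ Q B M z x := by
    refine ⟨hzx, fun t => ?_⟩
    rw [sieg_swap hQs hQp hx hz h1.1]
    exact h1.2 (-t)
  have h3 : ¬ Kmem θ z x := fun h => hK (h.symm U hx0)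
  exact semifull_of_notK U hQs hQp M hMO hT hN h13 hz0 hz h2 h3

include hQp in
lemma exists_not_orth (hN : B.Nondegenerate) {x : V} (hx0 : x ≠ 0) : ∃ y, B x y ≠ 0 := by
  by_contra hcon
  push Not at hcon
  exact hx0 (hN.1 x hcon)

include U hQs hQp hMO hT in
lemma semifull_all (hN : B.Nondegenerate) (h13 : 13 ≤ finrank F V) {x y : V} (hx0 : x ≠ 0)
    (hx : Q x = 0) (hy0 : y ≠ 0) (hy : Q y = 0) (hS : SemiFull Q B θ M x) :
    SemiFull Q B θ M y := by
  have hsymm := B_symm Q B hQp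
  obtain ⟨y₁, hy₁⟩ := exists_not_orth hQp hN hx0
  obtain ⟨y₂, hy₂⟩ := exists_not_orth hQp hN hy0
  obtain ⟨w, -, hw0, hQw, hw⟩ := exists_sing_perp Q B hQs hQp
    [x, θ x, y, θ y, y₁, θ y₁, y₂, θ y₂] ⊤ (by
      rw [finrank_top]; simp only [List.length_cons, List.length_nil]; omega)
  have hwx : B w x = 0 := hw x (by simp)
  have hwθx : B w (θ x) = 0 := hw (θ x) (by simp)
  have hwy : B w y = 0 := hw y (by simp)
  have hwθy : B w (θ y) = 0 := hw (θ y) (by simp)
  have hwy₁ : B w y₁ = 0 := hw y₁ (by simp)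
  have hwθy₁ : B w (θ y₁) = 0 := hw (θ y₁) (by simp)
  have hwy₂ : B w y₂ = 0 := hw y₂ (by simp)
  have hwθy₂ : B w (θ y₂) = 0 := hw (θ y₂) (by simp)
  have hK1 : ¬ Kmem θ x w := fun h => hw0 (notK_of_perp U hy₁ h hwy₁ hwθy₁)
  have hSw := semifull_step U hQs hQp M hMO hT hN h13 hx0 hx hw0 hQw hwx hwθx hK1 hS
  have hK2 : ¬ Kmem θ w y := fun h => hw0 (notK_of_perp U hy₂ (h.symm U hy0) hwy₂ hwθy₂)
  have hyw : B y w = 0 := by rw [hsymm]; exact hwy
  have hyθw : B y (θ w) = 0 := by rw [U.adj' y w, hyw, hsymm (θ y) w, hwθy]; ring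
  exact semifull_step U hQs hQp M hMO hT hN h13 hw0 hQw hy0 hy hyw hyθw hK2 hSw

include U hQs hQp hMO hT in
/-- If all Siegel parts are semi-full then `M` contains all Siegel elements. -/
lemma all_of_semifull (hN : B.Nondegenerate) (h13 : 13 ≤ finrank F V)
    (hS : ∀ x, x ≠ 0 → Q x = 0 → SemiFull Q B θ M x) :
    ∀ v z, Q v = 0 → B v z = 0 → sieg Q B v z ∈ M := by
  have hsymm := B_symm Q B hQp
  intro v z' hv hvz'
  by_cases hv0 : v = 0
  · subst hv0
    rw [sieg_zero_left Q B hQs hQp]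
    exact M.one_mem
  obtain ⟨z, hz, hvz, hvθz⟩ := exists_partner U hQs hQp hN hv0 hv
  have hzv : B z v = 0 := by rw [hsymm]; exact hvz
  have hzθv : B z (θ v) = -1 := by rw [U.adj' z v, hzv, hsymm (θ z) v, hvθz]; ring
  have hz0 : z ≠ 0 := by
    rintro rfl
    rw [map_zero, map_zero] at hvθz
    exact zero_ne_one hvθz
  have hSv := hS v hv0 hv
  have hSz := hS z hz0 hz
  -- the partner lies in the Siegel part
  have Xz : InZ Q B M v z := by
    obtain ⟨yz, hyz⟩ := exists_not_orth hQp hN hz0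
    obtain ⟨p', -, hp'0, -, hp'⟩ := exists_sing_perp Q B hQs hQp [z, θ z, v, yz] ⊤ (by
      rw [finrank_top]; simp only [List.length_cons, List.length_nil]; omega)
    have hp'z : B p' z = 0 := hp' z (by simp)
    have hp'θz : B p' (θ z) = 0 := hp' (θ z) (by simp)
    have hp'v : B p' v = 0 := hp' v (by simp)
    have hp'yz : B p' yz = 0 := hp' yz (by simp)
    have hnot : p' ∉ Submodule.span F ({v, θ v, z} : Set V) := by
      intro hmem
      rw [Submodule.mem_span_insert] at hmem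
      obtain ⟨a, r, hr, rfl⟩ := hmem
      rw [Submodule.mem_span_insert] at hr
      obtain ⟨b, r', hr', rfl⟩ := hr
      rw [Submodule.mem_span_singleton] at hr'
      obtain ⟨c, rfl⟩ := hr'
      have hzz : B z z = 0 := by rw [B_self Q B hQs hQp, hz, mul_zero]
      have e1 : a * 1 = 0 := by
        rw [← hp'θz]
        simp only [map_add, map_smul, LinearMap.add_apply, LinearMap.smul_apply, smul_eq_mul,
          hvθz, U.Bθθ, hvz, B_theta_self U hz]
        ring
      have e2 : b * (-1) = 0 := by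
        rw [← hp'z]
        have hθvz : B (θ v) z = -1 := by rw [hsymm]; exact hzθv
        simp only [map_add, map_smul, LinearMap.add_apply, LinearMap.smul_apply, smul_eq_mul,
          hvz, hθvz, hzz]
        ring
      have ha : a = 0 := by linear_combination e1
      have hb : b = 0 := by linear_combination -e2
      have e3 : c * B z yz = 0 := by
        rw [← hp'yz, ha, hb]
        simp only [map_add, map_smul, LinearMap.add_apply, LinearMap.smul_apply, smul_eq_mul]
        ring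
      have hc : c = 0 := (mul_eq_zero.mp e3).resolve_right hyz
      apply hp'0
      rw [ha, hb, hc]
      simp
    obtain ⟨p, hpS, hpp'⟩ := exists_perp_ne Q B hQp hN _ hnot
    have hpv : B p v = 0 := hpS v (Submodule.subset_span (by simp))
    have hpθv : B p (θ v) = 0 := hpS (θ v) (Submodule.subset_span (by simp))
    have hpz : B p z = 0 := hpS z (Submodule.subset_span (by simp))
    have hp'p : B p' p ≠ 0 := by rw [hsymm]; exact hpp'
    refine ⟨hvz, fun t => ?_⟩
    obtain ⟨s, hsd⟩ : ∃ s, s = t / B p' p := ⟨_, rfl⟩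
    have hE1 : sieg Q B v (s • p) ∈ M := (hSv p hpv hpθv).2 s
    have hE2 : sieg Q B z p' ∈ M := by
      have := (hSz p' hp'z hp'θz).2 1
      rwa [one_smul] at this
    have hvsp : B v (s • p) = 0 := by rw [map_smul, hsymm, hpv, smul_zero]
    have hzp' : B z p' = 0 := by rw [hsymm]; exact hp'z
    have hE1O := sieg_mem_oG Q B hQs hQp hv hvsp
    have h1 := conj_sieg Q B hQs hQp hE1O hz hzp'
    have e1 : sieg Q B v (s • p) z = z := by
      rw [sieg_apply Q B hQs hQp hv hvsp, hzv, map_smul, hsymm z p, hpz]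
      simp
    have e2 : sieg Q B v (s • p) p' = p' + (-t) • v := by
      rw [sieg_apply Q B hQs hQp hv hvsp, hp'v, map_smul, hsd]
      simp only [smul_eq_mul, zero_smul, add_zero, mul_zero, sub_zero]
      rw [div_mul_cancel₀ _ hp'p]
      module
    rw [e1, e2] at h1
    have h2 : sieg Q B z (p' + (-t) • v) * sieg Q B z (-p') ∈ M := by
      rw [← h1, ← sieg_inv Q B hQs hQp hz hzp']
      exact M.mul_mem (M.mul_mem (M.mul_mem hE1 hE2) (M.inv_mem hE1)) (M.inv_mem hE2)
    rw [sieg_mul Q B hQs hQp hz (by rw [map_add, map_smul, hzp', hzv]; simp)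
      (by rw [map_neg, hzp', neg_zero])] at h2
    have e3 : p' + (-t) • v + -p' = (-t) • v := by module
    rw [e3, sieg_swap hQs hQp hv hz hvz, neg_neg] at h2
    exact h2
  -- decompose a general vector
  obtain ⟨c, hc⟩ : ∃ c, c = -(B z' (θ v)) := ⟨_, rfl⟩
  have hz'v : B z' v = 0 := by rw [hsymm]; exact hvz'
  have h1 : InZ Q B M v (z' - c • z) := by
    apply hSv
    · rw [map_sub, map_smul, LinearMap.sub_apply, LinearMap.smul_apply, hz'v, hzv]; simp
    · rw [map_sub, map_smul, LinearMap.sub_apply, LinearMap.smul_apply, hzθv, hc]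
      simp
  have h2 := InZ_add hQs hQp hv h1 (InZ_smul c Xz)
  rw [sub_add_cancel] at h2
  have := h2.2 1
  rwa [one_smul] at this

include U hQs hQp hMO hT in
/-- If all Siegel parts are inside their lines then `M` normalises the field. -/
lemma semilinear_of_small (hN : B.Nondegenerate) (h13 : 13 ≤ finrank F V)
    (hK : ∀ x, x ≠ 0 → Q x = 0 → ∀ z, InZ Q B M x z → Kmem θ x z) {g : V ≃ₗ[F] V}
    (hg : g ∈ M) : ∃ a b : F, ∀ x, g (θ x) = a • g x + b • θ (g x) := by
  have hsymm := B_symm Q B hQp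
  have hgO := hMO hg
  -- the conjugate of `θ` preserves all singular lines
  have hL : ∀ y, y ≠ 0 → Q y = 0 → Kmem θ y (g (θ (g⁻¹ y))) := by
    intro y hy0 hy
    have hx : Q (g⁻¹ y) = 0 := by rw [← hgO (g⁻¹ y), apply_inv_apply']; exact hy
    have h1 := InZ_map hQs hQp hg hgO hx (InZ_theta_self U M hT hx)
    rw [apply_inv_apply'] at h1
    exact hK y hy0 hy _ h1
  -- independence
  have hind : ∀ y y', y ≠ 0 → y' ≠ 0 → ¬ Kmem θ y y' → ∀ α β α' β' : F,
      α • y + β • θ y + (α' • y' + β' • θ y') = 0 → α = 0 ∧ β = 0 ∧ α' = 0 ∧ β' = 0 := by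
    intro y y' hy0 hy'0 hK' α β α' β' h
    have hm : α • y + β • θ y = 0 := by
      by_contra hm0
      have k1 : Kmem θ y (α • y + β • θ y) := ⟨α, β, rfl⟩
      have k2 : Kmem θ y' (α • y + β • θ y) := by
        refine ⟨-α', -β', ?_⟩
        have := eq_neg_of_add_eq_zero_left h
        rw [this]; module
      exact hK' ((k2.trans U (k1.symm U hm0)).symm U hy0)
    have hm' : α' • y' + β' • θ y' = 0 := by rwa [hm, zero_add] at h
    exact ⟨(U.indep hy0 hm).1, (U.indep hy0 hm).2, (U.indep hy'0 hm').1, (U.indep hy'0 hm').2⟩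
  -- the coefficients agree for orthogonal independent singular vectors
  have hstep : ∀ y y', y ≠ 0 → y' ≠ 0 → Q y = 0 → Q y' = 0 → B y y' = 0 → ¬ Kmem θ y y' →
      ∀ a b a' b' : F, g (θ (g⁻¹ y)) = a • y + b • θ y → g (θ (g⁻¹ y')) = a' • y' + b' • θ y' →
      a = a' ∧ b = b' := by
    intro y y' hy0 hy'0 hy hy' hyy' hK' a b a' b' e e'
    have hs : Q (y + y') = 0 := by rw [hQp, hy, hy', hyy']; ring
    have hs0 : y + y' ≠ 0 := by
      intro h0
      apply hK'
      refine ⟨-1, 0, ?_⟩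
      have := eq_neg_of_add_eq_zero_right h0
      rw [this]; module
    obtain ⟨a'', b'', e''⟩ := hL (y + y') hs0 hs
    have e3 : g (θ (g⁻¹ (y + y'))) = g (θ (g⁻¹ y)) + g (θ (g⁻¹ y')) := by
      simp only [map_add]
    rw [e3, e, e'] at e''
    have h0 : (a - a'') • y + (b - b'') • θ y + ((a' - a'') • y' + (b' - b'') • θ y') = 0 := by
      have : (a - a'') • y + (b - b'') • θ y + ((a' - a'') • y' + (b' - b'') • θ y') =
          (a • y + b • θ y + (a' • y' + b' • θ y')) - (a'' • (y + y') + b'' • θ (y + y')) := by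
        rw [map_add]; module
      rw [this, e'', sub_self]
    obtain ⟨h1, h2, h3, h4⟩ := hind y y' hy0 hy'0 hK' _ _ _ _ h0
    exact ⟨by linear_combination h1 - h3, by linear_combination h2 - h4⟩
  -- a base singular vector
  obtain ⟨y₀, -, hy₀0, hQy₀⟩ := exists_singular_in Q B hQs hQp (⊤ : Submodule F V) (by
    rw [finrank_top]; omega)
  obtain ⟨a, b, e₀⟩ := hL y₀ hy₀0 hQy₀
  have hall : ∀ y, Q y = 0 → g (θ (g⁻¹ y)) = a • y + b • θ y := by
    intro y hy
    by_cases hy0 : y = 0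
    · subst hy0; simp
    obtain ⟨a', b', e'⟩ := hL y hy0 hy
    obtain ⟨y₁, hy₁⟩ := exists_not_orth hQp hN hy₀0
    obtain ⟨y₂, hy₂⟩ := exists_not_orth hQp hN hy0
    obtain ⟨w, -, hw0, hQw, hw⟩ := exists_sing_perp Q B hQs hQp
      [y₀, y, y₁, θ y₁, y₂, θ y₂] ⊤ (by
        rw [finrank_top]; simp only [List.length_cons, List.length_nil]; omega)
    have hwy₀ : B w y₀ = 0 := hw y₀ (by simp)
    have hwy : B w y = 0 := hw y (by simp)
    have hwy₁ : B w y₁ = 0 := hw y₁ (by simp)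
    have hwθy₁ : B w (θ y₁) = 0 := hw (θ y₁) (by simp)
    have hwy₂ : B w y₂ = 0 := hw y₂ (by simp)
    have hwθy₂ : B w (θ y₂) = 0 := hw (θ y₂) (by simp)
    have hK1 : ¬ Kmem θ y₀ w := fun h => hw0 (notK_of_perp U hy₁ h hwy₁ hwθy₁)
    have hK2 : ¬ Kmem θ y w := fun h => hw0 (notK_of_perp U hy₂ h hwy₂ hwθy₂)
    obtain ⟨aw, bw, ew⟩ := hL w hw0 hQw
    obtain ⟨h1, h2⟩ := hstep y₀ w hy₀0 hw0 hQy₀ hQw (by rw [hsymm]; exact hwy₀) hK1 _ _ _ _ e₀ ew
    obtain ⟨h3, h4⟩ := hstep y w hy0 hw0 hy hQw (by rw [hsymm]; exact hwy) hK2 _ _ _ _ e' ew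
    rw [e', h3, h4, ← h1, ← h2]
  refine ⟨a, b, fun x => ?_⟩
  have hnd : ∀ a ∈ (⊤ : Submodule F V), a ≠ 0 → ∃ a' ∈ (⊤ : Submodule F V), B a' a ≠ 0 := by
    intro a _ ha0
    obtain ⟨y, hy⟩ := exists_not_orth hQp hN ha0
    exact ⟨y, Submodule.mem_top, by rw [hsymm]; exact hy⟩
  obtain ⟨s₁, -, s₂, -, hQ1, hQ2, c, hc⟩ := sing_sum hQs hQp (⊤ : Submodule F V) hnd (by
    rw [finrank_top]; omega) (Submodule.mem_top (x := g x))
  have h1 := hall s₁ hQ1
  have h2 := hall s₂ hQ2
  have h3 : g (θ (g⁻¹ (g x))) = a • g x + b • θ (g x) := by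
    rw [hc]
    simp only [map_add, map_smul, h1, h2]
    module
  rwa [inv_apply_apply'] at h3

end Main

end Cfsg.Agent.Lib.Helper94_OrthUni
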