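import Mathlib
import Cfsg.Agent.Lib.Helper94_OrthUni
import Cfsg.Agent.Lib.Helper94_OrthUni2
import Cfsg.Agent.Lib.Helper94_OrthUni3
import Cfsg.Agent.Lib.Helper94_OrthUni4
import Cfsg.Agent.Lib.Helper94_OrthUni5

set_option autoImplicit false

/-!
**Maximality of the normaliser of a quadratic field structure** (the unitary group over the
quadratic extension) in the group generated by the Siegel elements of an orthogonal space of
dimension at least `13`.
-/

namespace Cfsg.Agent.Lib.Helper94_OrthUni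

open Module Cfsg.Agent.Lib.Helper94_Symp Cfsg.Agent.Lib.Helper94_OrthSmall
  Cfsg.Agent.Lib.Helper94_OrthSiegel Cfsg.Agent.Lib.Helper94_OrthSiegel2
  Cfsg.Agent.Lib.Helper94_OrthPara Cfsg.Agent.Lib.Helper94_OrthNondeg

variable {F V : Type*} [Field F] [AddCommGroup V] [Module F V]

variable [Finite F] [FiniteDimensional F V] {Q : V → F} {B : LinearMap.BilinForm F V}
  {θ : V →ₗ[F] V} {τ ν : F}
  (hQs : ∀ (c : F) (v : V), Q (c • v) = c * c * Q v)
  (hQp : ∀ u v : V, Q (u + v) = Q u + Q v + B u v)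

include hQs hQp in
theorem maximal_ufield (hN : B.Nondegenerate) (G : Subgroup (V ≃ₗ[F] V)) (hG1 : G ≤ oG Q)
    (hG2 : ∀ u z, Q u = 0 → B u z = 0 → sieg Q B u z ∈ G)
    (hG3 : ∀ M : Subgroup (V ≃ₗ[F] V),
      (∀ u z, Q u = 0 → B u z = 0 → sieg Q B u z ∈ M) → G ≤ M)
    (h13 : 13 ≤ finrank F V) (U : UStr Q B θ τ ν) (S : Subgroup (V ≃ₗ[F] V))
    (hS : ∀ g, g ∈ S ↔ ∃ a b : F, ∀ x, g (θ x) = a • g x + b • θ (g x)) :
    (S ⊓ G < G) ∧
      ∀ M : Subgroup (V ≃ₗ[F] V), S ⊓ G ≤ M → M ≤ G → M = S ⊓ G ∨ M = G := by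
  have hsymm := B_symm Q B hQp
  constructor
  · refine lt_of_le_of_ne inf_le_right ?_
    intro heq
    obtain ⟨v, -, hv0, hQv⟩ := exists_singular_in Q B hQs hQp (⊤ : Submodule F V) (by
      rw [finrank_top]; omega)
    obtain ⟨y₁, hy₁⟩ := exists_not_orth hQp hN hv0
    obtain ⟨z, -, hz0, hQz, hz⟩ := exists_sing_perp Q B hQs hQp [v, θ v, y₁, θ y₁] ⊤ (by
      rw [finrank_top]; simp only [List.length_cons, List.length_nil]; omega)
    have hzv : B z v = 0 := hz v (by simp)
    have hzθv : B z (θ v) = 0 := hz (θ v) (by simp)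
    have hzy₁ : B z y₁ = 0 := hz y₁ (by simp)
    have hzθy₁ : B z (θ y₁) = 0 := hz (θ y₁) (by simp)
    have hvz : B v z = 0 := by rw [hsymm]; exact hzv
    have hvv : B v v = 0 := by rw [B_self Q B hQs hQp, hQv, mul_zero]
    have hE : sieg Q B v z ∈ S ⊓ G := by
      rw [heq]; exact hG2 v z hQv hvz
    obtain ⟨a, b, hab⟩ := (hS _).mp hE.1
    have h1 := hab v
    have eθv : sieg Q B v z (θ v) = θ v := by
      rw [sieg_apply Q B hQs hQp hQv hvz, hsymm (θ v) v, B_theta_self U hQv, hsymm (θ v) z, hzθv]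
      simp
    have ev : sieg Q B v z v = v := by
      rw [sieg_apply Q B hQs hQp hQv hvz, hvv, hvz]
      simp
    rw [eθv, ev] at h1
    have h2 : a • v + (b - 1) • θ v = 0 := by
      have : a • v + (b - 1) • θ v = (a • v + b • θ v) - θ v := by module
      rw [this, ← h1, sub_self]
    obtain ⟨ha, hb⟩ := U.indep hv0 h2
    have hb' : b = 1 := by linear_combination hb
    have h3 := hab y₁
    rw [ha, hb', zero_smul, zero_add, one_smul, sieg_apply Q B hQs hQp hQv hvz,
      sieg_apply Q B hQs hQp hQv hvz, hQz, hsymm (θ y₁) z, hzθy₁, hsymm y₁ z, hzy₁] at h3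
    have h4 : B (θ y₁) v • z + (-(B y₁ v)) • θ z = 0 := by
      have e1 : θ y₁ + B (θ y₁) v • z - (0 : F) • v - (0 * B (θ y₁) v) • v =
          θ y₁ + B (θ y₁) v • z := by module
      have e2 : θ (y₁ + B y₁ v • z - (0 : F) • v - (0 * B y₁ v) • v) =
          θ y₁ + B y₁ v • θ z := by
        simp only [map_add, map_sub, map_smul]
        module
      rw [e1, e2] at h3
      have : B (θ y₁) v • z + (-(B y₁ v)) • θ z =
          (θ y₁ + B (θ y₁) v • z) - (θ y₁ + B y₁ v • θ z) := by module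
      rw [this, h3, sub_self]
    have h5 := (U.indep hz0 h4).2
    apply hy₁
    rw [hsymm]
    exact neg_eq_zero.mp h5
  · intro M hHM hMG
    have hMO : M ≤ oG Q := hMG.trans hG1
    have hT : ∀ (u : V) (t : F), Q u = 0 → sieg Q B u (t • θ u) ∈ M := by
      intro u t hu
      apply hHM
      refine ⟨(hS _).mpr ⟨0, 1, fun x => ?_⟩,
        hG2 u _ hu (by rw [map_smul, B_theta_self U hu, smul_zero])⟩
      rw [T_comm U hQs hQp hu]
      module
    by_cases hK : ∀ x, x ≠ 0 → Q x = 0 → ∀ z, InZ Q B M x z → Kmem θ x z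
    · left
      apply le_antisymm _ hHM
      intro m hm
      exact ⟨(hS m).mpr (semilinear_of_small U hQs hQp M hMO hT hN h13 hK hm), hMG hm⟩
    · right
      push Not at hK
      obtain ⟨x, hx0, hx, z, hz, hzK⟩ := hK
      apply le_antisymm hMG
      apply hG3
      have h1 : SemiFull Q B θ M x := semifull_of_notK U hQs hQp M hMO hT hN h13 hx0 hx hz hzK
      apply all_of_semifull U hQs hQp M hMO hT hN h13
      intro y hy0 hy
      exact semifull_all U hQs hQp M hMO hT hN h13 hx0 hx hy0 hy h1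

end Cfsg.Agent.Lib.Helper94_OrthUni
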