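import Mathlib
import Cfsg.Agent.Lib.Helper94_OrthUni6

set_option autoImplicit false

/-!
A quadratic extension acting on a symplectic space with adjoint the conjugate: the alternating
form `B`, the associated quadratic form `Q x = B x (θ x)` with polar form `P`, the unitary
transvections and Eichler elements (which are isometries of `B` commuting with `θ`), and the
isometries `x ↦ x + B x e • f + B x f • e` of `B`.
-/

namespace Cfsg.Agent.Lib.Helper94_SpUni

open Module Cfsg.Agent.Lib.Helper94_Symp Cfsg.Agent.Lib.Helper94_OrthSmall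
  Cfsg.Agent.Lib.Helper94_OrthSiegel Cfsg.Agent.Lib.Helper94_OrthSiegel2
  Cfsg.Agent.Lib.Helper94_OrthPara Cfsg.Agent.Lib.Helper94_OrthNondeg
  Cfsg.Agent.Lib.Helper94_OrthUni

variable {F V : Type*} [Field F] [AddCommGroup V] [Module F V]

/-- A quadratic field structure on a symplectic space, with the attached quadratic form. -/
structure SpU (Q : V → F) (P B : LinearMap.BilinForm F V) (θ : V →ₗ[F] V) (τ ν : F) : Prop where
  U : UStr Q P θ τ ν
  hQs : ∀ (c : F) (v : V), Q (c • v) = c * c * Q v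
  hQp : ∀ u v : V, Q (u + v) = Q u + Q v + P u v
  alt : B.IsAlt
  PB : ∀ x y, P x y = 2 * B x (θ y) - τ * B x y
  QB : ∀ x, Q x = B x (θ x)
  adjB : ∀ x y, B (θ x) y = τ * B x y - B x (θ y)
  two : (2 : F) ≠ 0
  nP : P.Nondegenerate
  nB : B.Nondegenerate

/-- Orthogonality for the hermitian form. -/
def HP (P : LinearMap.BilinForm F V) (θ : V →ₗ[F] V) (x y : V) : Prop :=
  P x y = 0 ∧ P x (θ y) = 0

/-- The unitary transvection at `u` with parameter `t`. -/
noncomputable def Tm (Q : V → F) (P : LinearMap.BilinForm F V) (θ : V →ₗ[F] V) (u : V) (t : F) :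
    V ≃ₗ[F] V := sieg Q P u (t • θ u)

/-- The Eichler element at the singular vectors `u`, `z`. -/
noncomputable def Gm (Q : V → F) (P : LinearMap.BilinForm F V) (θ : V →ₗ[F] V) (u z : V) (t : F) :
    V ≃ₗ[F] V := Tm Q P θ (u + z) t * Tm Q P θ u (-t) * Tm Q P θ z (-t)

/-- The isometry `x ↦ x + B x e • f + B x f • e` (when `B e f = 0`). -/
noncomputable def S2 (B : LinearMap.BilinForm F V) (hB : B.IsAlt) (e f : V) : V ≃ₗ[F] V :=
  stv B hB (e + f) 1 * stv B hB e (-1) * stv B hB f (-1)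

section S2

variable (B : LinearMap.BilinForm F V) (hB : B.IsAlt)

lemma S2_apply {e f : V} (h : B e f = 0) (x : V) :
    S2 B hB e f x = x + B x e • f + B x f • e := by
  have h' : B f e = 0 := by rw [alt_swap B hB, h, neg_zero]
  unfold S2
  simp only [LinearEquiv.mul_apply, stv_apply, map_add, map_smul, hB e, hB f, h, h', mul_zero,
    add_zero]
  module

lemma S2_mem_iso (e f : V) : S2 B hB e f ∈ isoGroup B :=
  (isoGroup B).mul_mem ((isoGroup B).mul_mem (stv_mem_isoGroup B hB _ _)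
    (stv_mem_isoGroup B hB _ _)) (stv_mem_isoGroup B hB _ _)

lemma conj_S2 {g : V ≃ₗ[F] V} (hg : g ∈ isoGroup B) (e f : V) :
    g * S2 B hB e f * g⁻¹ = S2 B hB (g e) (g f) := by
  unfold S2
  have : g * (stv B hB (e + f) 1 * stv B hB e (-1) * stv B hB f (-1)) * g⁻¹ =
      (g * stv B hB (e + f) 1 * g⁻¹) * (g * stv B hB e (-1) * g⁻¹) *
        (g * stv B hB f (-1) * g⁻¹) := by group
  rw [this, conj_stv B hB hg, conj_stv B hB hg, conj_stv B hB hg, map_add]

lemma S2_mul_right {e f f' : V} (h : B e f = 0) (h' : B e f' = 0) (h'' : B f f' = 0) :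
    S2 B hB e f * S2 B hB e f' = S2 B hB e (f + f') := by
  have h1 : B e (f + f') = 0 := by rw [map_add, h, h', add_zero]
  have h2 : B f' e = 0 := by rw [alt_swap B hB, h', neg_zero]
  have h3 : B f' f = 0 := by rw [alt_swap B hB, h'', neg_zero]
  ext x
  rw [LinearEquiv.mul_apply, S2_apply B hB h', S2_apply B hB h, S2_apply B hB h1]
  simp only [map_add, map_smul, LinearMap.add_apply, LinearMap.smul_apply, smul_eq_mul, hB e, h2,
    h3, h, mul_zero, add_zero]
  module

lemma S2_mul_stv {e d : V} (h : B e d = 0) (l : F) :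
    S2 B hB e d * stv B hB d (2 * l) = S2 B hB (e + l • d) d := by
  have h1 : B (e + l • d) d = 0 := by
    rw [map_add, LinearMap.add_apply, map_smul, LinearMap.smul_apply, h, hB d, smul_zero, add_zero]
  have h2 : B d e = 0 := by rw [alt_swap B hB, h, neg_zero]
  ext x
  rw [LinearEquiv.mul_apply, stv_apply, S2_apply B hB h, S2_apply B hB h1]
  simp only [map_add, map_smul, LinearMap.add_apply, LinearMap.smul_apply, smul_eq_mul, hB d, h2,
    mul_zero, add_zero]
  module

end S2

section Basic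

variable {Q : V → F} {P B : LinearMap.BilinForm F V} {θ : V →ₗ[F] V} {τ ν : F}
  (S : SpU Q P B θ τ ν)

include S in
lemma SpU.Psymm (x y : V) : P x y = P y x := B_symm Q P S.hQp x y

include S in
lemma SpU.disc_ne : τ * τ - 4 * ν ≠ 0 := by
  intro h
  have := (S.U.aniso (-τ) 2 (by linear_combination -h)).2
  exact S.two this

include S in
lemma SpU.PBθ (x y : V) : P x (θ y) = τ * B x (θ y) - 2 * ν * B x y := by
  rw [S.PB, S.U.sq, map_sub, map_smul, map_smul, smul_eq_mul, smul_eq_mul]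
  ring

include S in
lemma SpU.Bθθ (x y : V) : B (θ x) (θ y) = ν * B x y := by
  rw [S.adjB, S.U.sq, map_sub, map_smul, map_smul, smul_eq_mul, smul_eq_mul]
  ring

include S in
lemma SpU.DB (x y : V) : (τ * τ - 4 * ν) * B x y = 2 * P x (θ y) - τ * P x y := by
  rw [S.PBθ, S.PB]
  ring

include S in
lemma SpU.Bsing {u : V} (hu : Q u = 0) : B u (θ u) = 0 := by rw [← S.QB, hu]

include S in
lemma HP.toB {x y : V} (h : HP P θ x y) : B x y = 0 ∧ B x (θ y) = 0 := by
  have h1 : B x y = 0 := by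
    have := S.DB x y
    rw [h.1, h.2] at this
    have h0 : (τ * τ - 4 * ν) * B x y = 0 := by rw [this]; ring
    exact (mul_eq_zero.mp h0).resolve_left S.disc_ne
  refine ⟨h1, ?_⟩
  have h3 := S.PB x y
  rw [h.1, h1] at h3
  have h4 : 2 * B x (θ y) = 0 := by linear_combination -h3
  exact (mul_eq_zero.mp h4).resolve_left S.two

include S in
lemma HP_of_B {x y : V} (h1 : B x y = 0) (h2 : B x (θ y) = 0) : HP P θ x y := by
  constructor
  · rw [S.PB, h1, h2]; ring
  · rw [S.PBθ, h1, h2]; ring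

include S in
lemma HP.symm {x y : V} (h : HP P θ x y) : HP P θ y x := by
  refine ⟨by rw [S.Psymm]; exact h.1, ?_⟩
  rw [S.Psymm, S.U.adj, h.1, h.2]
  ring

include S in
lemma HP.kmem_right {x y w : V} (h : HP P θ x y) (hw : Kmem θ y w) : HP P θ x w := by
  obtain ⟨a, b, rfl⟩ := hw
  constructor
  · rw [map_add, map_smul, map_smul, h.1, h.2]
    simp
  · rw [map_add, map_smul, map_smul, S.U.sq, map_add, map_smul, map_smul, map_sub, map_smul,
      map_smul, h.1, h.2]
    simp

include S in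
lemma HP.kmem_left {x y w : V} (h : HP P θ x y) (hw : Kmem θ x w) : HP P θ w y :=
  ((h.symm S).kmem_right S hw).symm S

lemma HP.add_left {x x' y : V} (h : HP P θ x y) (h' : HP P θ x' y) : HP P θ (x + x') y := by
  constructor
  · rw [map_add, LinearMap.add_apply, h.1, h'.1, add_zero]
  · rw [map_add, LinearMap.add_apply, h.2, h'.2, add_zero]

lemma HP.smul_left {x y : V} (c : F) (h : HP P θ x y) : HP P θ (c • x) y := by
  constructor
  · rw [map_smul, LinearMap.smul_apply, h.1, smul_zero]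
  · rw [map_smul, LinearMap.smul_apply, h.2, smul_zero]

lemma HP.add_right {x y y' : V} (h : HP P θ x y) (h' : HP P θ x y') : HP P θ x (y + y') := by
  constructor
  · rw [map_add, h.1, h'.1, add_zero]
  · rw [map_add, map_add, h.2, h'.2, add_zero]

lemma HP.smul_right {x y : V} (c : F) (h : HP P θ x y) : HP P θ x (c • y) := by
  constructor
  · rw [map_smul, h.1, smul_zero]
  · rw [map_smul, map_smul, h.2, smul_zero]

lemma HP.neg_right {x y : V} (h : HP P θ x y) : HP P θ x (-y) := by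
  have := h.smul_right (-1)
  rwa [neg_one_smul] at this

lemma HP.sub_right {x y y' : V} (h : HP P θ x y) (h' : HP P θ x y') : HP P θ x (y - y') := by
  rw [sub_eq_add_neg]
  exact h.add_right h'.neg_right

include S in
lemma HP.self {u : V} (hu : Q u = 0) : HP P θ u u := by
  constructor
  · rw [B_self Q P S.hQs S.hQp, hu, mul_zero]
  · rw [S.U.Bθ, hu, mul_zero]

include S in
lemma HP.B_kmem {x y w : V} (h : HP P θ x y) (hw : Kmem θ y w) : B x w = 0 :=
  (HP.toB S (h.kmem_right S hw)).1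

include S in
lemma HP.B_kmem' {x y w : V} (h : HP P θ x y) (hw : Kmem θ y w) : B w x = 0 := by
  rw [alt_swap B S.alt, h.B_kmem S hw, neg_zero]

include S in
lemma Tm_apply {u : V} (hu : Q u = 0) (t : F) (x : V) :
    Tm Q P θ u t x = x + t • (P x u • θ u - P x (θ u) • u) := by
  unfold Tm
  rw [T_apply S.U S.hQs S.hQp hu, dv]

include S in
lemma Tm_fix {u : V} (hu : Q u = 0) (t : F) {x : V} (h : HP P θ x u) : Tm Q P θ u t x = x := by
  rw [Tm_apply S hu, h.1, h.2]
  simp

include S in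
lemma Tm_comm {u : V} (hu : Q u = 0) (t : F) (x : V) :
    Tm Q P θ u t (θ x) = θ (Tm Q P θ u t x) :=
  T_comm S.U S.hQs S.hQp hu t x

include S in
lemma Tm_inv {u : V} (hu : Q u = 0) (t : F) : (Tm Q P θ u t)⁻¹ = Tm Q P θ u (-t) := by
  unfold Tm
  rw [sieg_inv Q P S.hQs S.hQp hu (by rw [map_smul, B_theta_self S.U hu, smul_zero]), neg_smul]

include S in
lemma Tm_mem_iso {u : V} (hu : Q u = 0) (t : F) : Tm Q P θ u t ∈ isoGroup B := by
  intro x y
  have h1 : B u (θ u) = 0 := S.Bsing hu
  have h2 : B (θ u) u = 0 := by rw [alt_swap B S.alt, h1, neg_zero]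
  have h3 : B u u = 0 := S.alt u
  have h4 : B (θ u) (θ u) = 0 := S.alt _
  have h5 : B u y = - B y u := alt_swap B S.alt _ _
  have h6 : B (θ u) y = - B y (θ u) := alt_swap B S.alt _ _
  rw [Tm_apply S hu, Tm_apply S hu]
  simp only [map_add, map_smul, map_sub, LinearMap.add_apply, LinearMap.smul_apply,
    LinearMap.sub_apply, smul_eq_mul, h1, h2, h3, h4, h5, h6, S.PB x u, S.PBθ x u, S.PB y u,
    S.PBθ y u]
  ring

include S in
lemma conjT_apply {g : V ≃ₗ[F] V} (hg : g ∈ isoGroup B) {u : V} (hu : Q u = 0) (t : F) (x : V) :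
    (g * Tm Q P θ u t * g⁻¹) x = x + t • ((2 * B x (g (θ u)) - τ * B x (g u)) • g (θ u) -
      (τ * B x (g (θ u)) - 2 * ν * B x (g u)) • g u) := by
  rw [LinearEquiv.mul_apply, LinearEquiv.mul_apply, Tm_apply S hu, S.PB, S.PBθ,
    isoGroup_inv_apply hg, isoGroup_inv_apply hg]
  simp only [map_add, map_smul, map_sub, apply_inv_apply']

include S in
lemma Gm_apply {u z : V} (hu : Q u = 0) (hz : Q z = 0) (h : HP P θ u z) (t : F) (x : V) :
    Gm Q P θ u z t x =
      x + t • (P x u • θ z + P x z • θ u - P x (θ u) • z - P x (θ z) • u) := by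
  have huz : Q (u + z) = 0 := by rw [S.hQp, hu, hz, h.1]; ring
  have hzu : HP P θ z u := h.symm S
  have huu : HP P θ u u := HP.self S hu
  have hzz : HP P θ z z := HP.self S hz
  obtain ⟨dz, hdz⟩ : ∃ dz, dz = P x z • θ z - P x (θ z) • z := ⟨_, rfl⟩
  obtain ⟨du, hdu⟩ : ∃ du, du = P x u • θ u - P x (θ u) • u := ⟨_, rfl⟩
  have kz : Kmem θ z dz := ⟨-(P x (θ z)), P x z, by rw [hdz]; module⟩
  have ku : Kmem θ u du := ⟨-(P x (θ u)), P x u, by rw [hdu]; module⟩
  have f1 : Tm Q P θ u (-t) dz = dz := Tm_fix S hu _ (hzu.kmem_left S kz)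
  have f2 : Tm Q P θ (u + z) t dz = dz :=
    Tm_fix S huz _ ((hzu.kmem_left S kz).add_right (hzz.kmem_left S kz))
  have f3 : Tm Q P θ (u + z) t du = du :=
    Tm_fix S huz _ ((huu.kmem_left S ku).add_right (h.kmem_left S ku))
  unfold Gm
  rw [LinearEquiv.mul_apply, LinearEquiv.mul_apply, Tm_apply S hz, ← hdz, map_add, map_smul, f1,
    Tm_apply S hu, ← hdu, map_add, map_add, map_smul, map_smul, f2, f3, Tm_apply S huz, hdz, hdu]
  simp only [map_add]
  module

end Basic

end Cfsg.Agent.Lib.Helper94_SpUni
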