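import Mathlib
import Cfsg.Agent.Lib.Helper94_SpUni

set_option autoImplicit false

/-!
Existence of singular vectors in general position for a quadratic field structure on a
symplectic space.
-/

namespace Cfsg.Agent.Lib.Helper94_SpUni

open Module Cfsg.Agent.Lib.Helper94_Symp Cfsg.Agent.Lib.Helper94_OrthSmall
  Cfsg.Agent.Lib.Helper94_OrthSiegel Cfsg.Agent.Lib.Helper94_OrthSiegel2
  Cfsg.Agent.Lib.Helper94_OrthPara Cfsg.Agent.Lib.Helper94_OrthNondeg
  Cfsg.Agent.Lib.Helper94_OrthUni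

variable {F V : Type*} [Field F] [AddCommGroup V] [Module F V]

/-- The line of `a` over the quadratic field, as a subspace. -/
def Kl (θ : V →ₗ[F] V) (a : V) : Submodule F V := Submodule.span F {a, θ a}

lemma mem_Kl {θ : V →ₗ[F] V} {a x : V} : x ∈ Kl θ a ↔ Kmem θ a x := by
  rw [Kl, Submodule.mem_span_pair]
  constructor
  · rintro ⟨c, d, h⟩
    exact ⟨c, d, h.symm⟩
  · rintro ⟨c, d, h⟩
    exact ⟨c, d, h.symm⟩

lemma finrank_Kl_le (θ : V →ₗ[F] V) (a : V) : finrank F (Kl θ a) ≤ 2 := by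
  classical
  have := finrank_span_finset_le_card (R := F) ({a, θ a} : Finset V)
  have h2 : ({a, θ a} : Finset V).card ≤ 2 := Finset.card_le_two
  simp only [Finset.coe_insert, Finset.coe_singleton] at this
  exact this.trans h2

lemma finrank_span_three_le (a b c : V) :
    finrank F (Submodule.span F ({a, b, c} : Set V)) ≤ 3 := by
  classical
  have := finrank_span_finset_le_card (R := F) ({a, b, c} : Finset V)
  have h2 : ({a, b, c} : Finset V).card ≤ 3 := Finset.card_le_three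
  simp only [Finset.coe_insert, Finset.coe_singleton] at this
  exact this.trans h2

section Exist

variable [Finite F] [FiniteDimensional F V] {Q : V → F} {P B : LinearMap.BilinForm F V}
  {θ : V →ₗ[F] V} {τ ν : F} (S : SpU Q P B θ τ ν)

include S in
/-- A singular vector orthogonal to a small subspace `W` and not orthogonal to a given vector
outside `W`. -/
lemma sno (W : Submodule F V) (hW : 2 * finrank F W + 3 ≤ finrank F V) {b : V} (hb : b ∉ W) :
    ∃ z, Q z = 0 ∧ (∀ w ∈ W, P z w = 0) ∧ P z b ≠ 0 := by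
  have hsymm := S.Psymm
  obtain ⟨Y, hY⟩ : ∃ Y, Y = P.orthogonal W := ⟨_, rfl⟩
  have hYmem : ∀ y, y ∈ Y ↔ ∀ w ∈ W, P y w = 0 := by
    intro y
    rw [hY, mem_orth]
    constructor
    · intro h w hw
      rw [hsymm]; exact h w hw
    · intro h w hw
      rw [hsymm]; exact h w hw
  have hfY : finrank F Y = finrank F V - finrank F W := by
    rw [hY]; exact LinearMap.BilinForm.finrank_orthogonal S.nP W
  obtain ⟨q, hq⟩ := Submodule.exists_isCompl (W ⊓ Y)
  have h1 := Submodule.finrank_sup_add_finrank_inf_eq q Y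
  have h2 : finrank F (W ⊓ Y : Submodule F V) + finrank F q = finrank F V :=
    Submodule.finrank_add_eq_of_isCompl hq
  have h3 : finrank F (W ⊓ Y : Submodule F V) ≤ finrank F W := Submodule.finrank_mono inf_le_left
  have h4 : finrank F (q ⊔ Y : Submodule F V) ≤ finrank F V := Submodule.finrank_le _
  have h5 : finrank F W ≤ finrank F V := Submodule.finrank_le _
  obtain ⟨s, hs, hs0, hQs'⟩ := exists_singular_in Q P S.hQs S.hQp (q ⊓ Y) (by omega)
  have hsY : s ∈ Y := hs.2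
  have hsW : s ∉ W := by
    intro h
    apply hs0
    have h6 : s ∈ (W ⊓ Y) ⊓ q := ⟨⟨h, hsY⟩, hs.1⟩
    rw [hq.inf_eq_bot] at h6
    exact (Submodule.mem_bot F).mp h6
  obtain ⟨p, hpW, hpb⟩ := exists_perp_ne Q P S.hQp S.nP W hb
  obtain ⟨y₁, hy₁W, hy₁s⟩ := exists_perp_ne Q P S.hQp S.nP W hsW
  by_cases hsb : P s b = 0
  · obtain ⟨x, hxY, hx1, hx2⟩ := exists_both_ne_zero P Y ⟨y₁, (hYmem _).mpr hy₁W, hy₁s⟩
      ⟨p, (hYmem _).mpr hpW, hpb⟩
    refine ⟨x + (-(Q x / P x s)) • s, sing_adjust Q P S.hQs S.hQp hQs' hx1, ?_, ?_⟩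
    · intro w hw
      rw [map_add, map_smul, LinearMap.add_apply, LinearMap.smul_apply, (hYmem x).mp hxY w hw,
        (hYmem s).mp hsY w hw]
      simp
    · rw [map_add, LinearMap.add_apply, map_smul, LinearMap.smul_apply, hsb, smul_zero, add_zero]
      exact hx2
  · exact ⟨s, hQs', (hYmem s).mp hsY, hsb⟩

include S in
/-- A singular vector hermitian-orthogonal to `a` and not orthogonal to `b`, for `b` outside the
line of `a`. -/
lemma exists_sing_hp (h14 : 14 ≤ finrank F V) {a b : V} (hK : ¬ Kmem θ a b) :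
    ∃ z, Q z = 0 ∧ HP P θ z a ∧ P z b ≠ 0 := by
  have h2 := finrank_Kl_le (F := F) θ a
  obtain ⟨z, hz, hzW, hzb⟩ := sno S (Kl θ a) (by omega) (fun h => hK (mem_Kl.mp h))
  exact ⟨z, hz, ⟨hzW a (mem_Kl.mpr (Kmem.refl θ a)), hzW (θ a) (mem_Kl.mpr (Kmem.theta_self θ a))⟩,
    hzb⟩

include S in
/-- A singular vector hermitian-orthogonal to `u`, orthogonal to `e` but not to `θ e`, for `e`
outside the line of `u`. -/
lemma exists_sing_hp2 (h14 : 14 ≤ finrank F V) {u e : V} (hK : ¬ Kmem θ u e) :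
    ∃ z, Q z = 0 ∧ HP P θ z u ∧ P z e = 0 ∧ P z (θ e) ≠ 0 := by
  have h3 := finrank_span_three_le (F := F) u (θ u) e
  have he0 : e ≠ 0 := by
    rintro rfl
    exact hK (Kmem.zero θ u)
  have hb : θ e ∉ Submodule.span F ({u, θ u, e} : Set V) := by
    intro h
    obtain ⟨α, β, γ, hαβγ⟩ := Submodule.mem_span_triple.mp h
    obtain ⟨w, hw⟩ : ∃ w, w = θ e - γ • e := ⟨_, rfl⟩
    have k1 : Kmem θ u w := ⟨α, β, by rw [hw, ← hαβγ]; module⟩
    have k2 : Kmem θ e w := ⟨-γ, 1, by rw [hw]; module⟩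
    have hw0 : w ≠ 0 := by
      intro h0
      have h1 : (-γ) • e + (1 : F) • θ e = 0 := by rw [← h0, hw]; module
      exact one_ne_zero (S.U.indep he0 h1).2
    exact hK (k1.trans S.U (k2.symm S.U hw0))
  obtain ⟨z, hz, hzW, hzb⟩ := sno S (Submodule.span F ({u, θ u, e} : Set V)) (by omega) hb
  refine ⟨z, hz, ⟨hzW u (Submodule.subset_span (by simp)),
    hzW (θ u) (Submodule.subset_span (by simp))⟩, hzW e (Submodule.subset_span (by simp)), hzb⟩

include S in
/-- A singular partner of `u` hermitian-orthogonal to `e`, for `u` outside the line of `e`. -/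
lemma partner_perp (h14 : 14 ≤ finrank F V) {e u : V} (hK : ¬ Kmem θ e u) :
    ∃ y, Q y = 0 ∧ HP P θ y e ∧ P u y = 0 ∧ P u (θ y) = 1 := by
  obtain ⟨y₁, hQy₁, hy₁e, hy₁u⟩ := exists_sing_hp S h14 hK
  have hα : P u y₁ ≠ 0 := by rw [S.Psymm]; exact hy₁u
  have hN' : P u (θ y₁) * P u (θ y₁) + P u (θ y₁) * (-(P u y₁)) * τ +
      (-(P u y₁)) * (-(P u y₁)) * ν ≠ 0 :=
    fun h0 => hα (neg_eq_zero.mp (S.U.aniso _ _ h0).2)
  obtain ⟨α, hαd⟩ : ∃ α, α = P u y₁ := ⟨_, rfl⟩
  obtain ⟨β, hβd⟩ : ∃ β, β = P u (θ y₁) := ⟨_, rfl⟩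
  rw [← hαd, ← hβd] at hN'
  obtain ⟨N, hNd⟩ : ∃ N, N = β * β + β * (-α) * τ + (-α) * (-α) * ν := ⟨_, rfl⟩
  rw [← hNd] at hN'
  have hk : Kmem θ y₁ ((β / N) • y₁ + (-α / N) • θ y₁) := ⟨_, _, rfl⟩
  refine ⟨(β / N) • y₁ + (-α / N) • θ y₁, Kmem.sing S.U S.hQs S.hQp hk hQy₁, hy₁e.kmem_left S hk,
    ?_, ?_⟩
  · rw [map_add, map_smul, map_smul, ← hαd, ← hβd]
    simp only [smul_eq_mul]
    field_simp
    ring
  · rw [map_add, map_smul, map_smul, S.U.sq, map_add, map_smul, map_smul, map_sub, map_smul,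
      map_smul, ← hαd, ← hβd]
    simp only [smul_eq_mul]
    field_simp
    rw [hNd]
    ring

end Exist

end Cfsg.Agent.Lib.Helper94_SpUni
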