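import Mathlib
import Cfsg.Agent.Lib.Helper94_SpUni2

set_option autoImplicit false

/-!
Overgroups of the normaliser of a quadratic field in a symplectic group: an element moving a
singular line off its line produces an isometry `x ↦ x + B x e • f + B x f • e`, and such an
isometry produces a full root group of symplectic transvections.
-/

namespace Cfsg.Agent.Lib.Helper94_SpUni

open Module Cfsg.Agent.Lib.Helper94_Symp Cfsg.Agent.Lib.Helper94_OrthSmall
  Cfsg.Agent.Lib.Helper94_OrthSiegel Cfsg.Agent.Lib.Helper94_OrthSiegel2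
  Cfsg.Agent.Lib.Helper94_OrthPara Cfsg.Agent.Lib.Helper94_OrthNondeg
  Cfsg.Agent.Lib.Helper94_OrthUni

variable {F V : Type*} [Field F] [AddCommGroup V] [Module F V]

section Main

variable [Finite F] [FiniteDimensional F V] {Q : V → F} {P B : LinearMap.BilinForm F V}
  {θ : V →ₗ[F] V} {τ ν : F} (S : SpU Q P B θ τ ν)
  (M : Subgroup (V ≃ₗ[F] V)) (hMB : M ≤ isoGroup B)
  (hT : ∀ (u : V) (t : F), Q u = 0 → Tm Q P θ u t ∈ M)

include S hT in
lemma Gm_mem {u z : V} (hu : Q u = 0) (hz : Q z = 0) (h : HP P θ u z) (t : F) :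
    Gm Q P θ u z t ∈ M := by
  have huz : Q (u + z) = 0 := by rw [S.hQp, hu, hz, h.1]; ring
  exact M.mul_mem (M.mul_mem (hT _ _ huz) (hT _ _ hu)) (hT _ _ hz)

include S hMB hT in
/-- From an isometry `S2 e f` with `f` off the line of `e` to a full root group. -/
lemma root_of_S2 (h14 : 14 ≤ finrank F V) {e f : V} (hM : S2 B S.alt e f ∈ M) (hef : B e f = 0)
    (he0 : e ≠ 0) (hK : ¬ Kmem θ e f) :
    ∃ d, d ≠ 0 ∧ Q d = 0 ∧ d ∈ TV B S.alt M := by
  have hsymm := S.Psymm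
  -- first step: replace `f` by a singular vector
  obtain ⟨z, hQz, hze, hzf⟩ := exists_sing_hp S h14 hK
  obtain ⟨c, hc⟩ := exists_not_orth S.hQp S.nP he0
  obtain ⟨u, -, hu0, hQu, hu⟩ := exists_sing_perp Q P S.hQs S.hQp
    [e, θ e, f, θ f, z, θ z, c, θ c] ⊤ (by
      rw [finrank_top]; simp only [List.length_cons, List.length_nil]; omega)
  have hue : HP P θ u e := ⟨hu e (by simp), hu (θ e) (by simp)⟩
  have huf : HP P θ u f := ⟨hu f (by simp), hu (θ f) (by simp)⟩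
  have huz : HP P θ u z := ⟨hu z (by simp), hu (θ z) (by simp)⟩
  have huc : P u c = 0 := hu c (by simp)
  have huθc : P u (θ c) = 0 := hu (θ c) (by simp)
  have heu : HP P θ e u := hue.symm S
  have hfu : HP P θ f u := huf.symm S
  have hez : HP P θ e z := hze.symm S
  have hnK : ¬ Kmem θ u e := by
    intro h
    exact hu0 (notK_of_perp S.U hc (h.symm S.U he0) huc huθc)
  have hh : Gm Q P θ u z 1 ∈ M := Gm_mem S M hT hQu hQz huz 1
  have hhe : Gm Q P θ u z 1 e = e := by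
    rw [Gm_apply S hQu hQz huz, heu.1, heu.2, hez.1, hez.2]
    simp
  obtain ⟨d, hd⟩ : ∃ d, d = P f z • θ u - P f (θ z) • u := ⟨_, rfl⟩
  have hhf : Gm Q P θ u z 1 f = f + d := by
    rw [Gm_apply S hQu hQz huz, hfu.1, hfu.2, hd]
    module
  have kd : Kmem θ u d := ⟨-(P f (θ z)), P f z, by rw [hd]; module⟩
  have hd0 : d ≠ 0 := by
    intro h0
    have h1 : (-(P f (θ z))) • u + P f z • θ u = 0 := by rw [← h0, hd]; module
    apply hzf
    rw [hsymm]
    exact (S.U.indep hu0 h1).2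
  have hQd : Q d = 0 := Kmem.sing S.U S.hQs S.hQp kd hQu
  have hed : B e d = 0 := heu.B_kmem S kd
  have hfd : B f d = 0 := hfu.B_kmem S kd
  have hM2 : S2 B S.alt e d ∈ M := by
    have h1 : Gm Q P θ u z 1 * S2 B S.alt e f * (Gm Q P θ u z 1)⁻¹ = S2 B S.alt e (f + d) := by
      rw [conj_S2 B S.alt (hMB hh), hhe, hhf]
    have h2 := S2_mul_right B S.alt hef hed hfd
    have h3 : S2 B S.alt e d = (S2 B S.alt e f)⁻¹ *
        (Gm Q P θ u z 1 * S2 B S.alt e f * (Gm Q P θ u z 1)⁻¹) := by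
      rw [h1, ← h2, inv_mul_cancel_left]
    rw [h3]
    exact M.mul_mem (M.inv_mem hM) (M.mul_mem (M.mul_mem hh hM) (M.inv_mem hh))
  -- second step: the transvections at `d`
  obtain ⟨z', hQz', hz'u, hz'e, hz'θe⟩ := exists_sing_hp2 S h14 hnK
  have hdz' : HP P θ d z' := (hz'u.symm S).kmem_left S kd
  have hed' : HP P θ e d := heu.kmem_right S kd
  have hez' : P e z' = 0 := by rw [hsymm]; exact hz'e
  have heθz' : P e (θ z') ≠ 0 := by
    have : P e (θ z') = - P z' (θ e) := by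
      rw [hsymm, S.U.adj, hz'e]; ring
    rw [this]
    exact neg_ne_zero.mpr hz'θe
  have hdd : HP P θ d d := HP.self S hQd
  refine ⟨d, hd0, hQd, fun c' => ?_⟩
  obtain ⟨t', ht'⟩ : ∃ t', t' = -(c' / (2 * P e (θ z'))) := ⟨_, rfl⟩
  have hh' : Gm Q P θ d z' t' ∈ M := Gm_mem S M hT hQd hQz' hdz' t'
  have hh'e : Gm Q P θ d z' t' e = e + (-(t' * P e (θ z'))) • d := by
    rw [Gm_apply S hQd hQz' hdz', hed'.1, hed'.2, hez']
    module
  have hh'd : Gm Q P θ d z' t' d = d := by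
    rw [Gm_apply S hQd hQz' hdz', hdd.1, hdd.2, hdz'.1, hdz'.2]
    simp
  have h1 : Gm Q P θ d z' t' * S2 B S.alt e d * (Gm Q P θ d z' t')⁻¹ =
      S2 B S.alt (e + (-(t' * P e (θ z'))) • d) d := by
    rw [conj_S2 B S.alt (hMB hh'), hh'e, hh'd]
  have h2 := S2_mul_stv B S.alt hed (-(t' * P e (θ z')))
  have h3 : stv B S.alt d (2 * (-(t' * P e (θ z')))) = (S2 B S.alt e d)⁻¹ *
      (Gm Q P θ d z' t' * S2 B S.alt e d * (Gm Q P θ d z' t')⁻¹) := by
    rw [h1, ← h2, inv_mul_cancel_left]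
  have h4 : 2 * (-(t' * P e (θ z'))) = c' := by
    rw [ht']
    have := S.two
    field_simp
  rw [← h4, h3]
  exact M.mul_mem (M.inv_mem hM2) (M.mul_mem (M.mul_mem hh' hM2) (M.inv_mem hh'))

include S hMB hT in
/-- An element of `M` moving a singular line off its line produces an isometry `S2 e f` with
`f` off the line of `e`. -/
lemma S2_of_notK (h14 : 14 ≤ finrank F V) {g : V ≃ₗ[F] V} (hg : g ∈ M) {u : V}
    (hu : Q u = 0) (hK : ¬ Kmem θ (g u) (g (θ u))) :
    ∃ e f, S2 B S.alt e f ∈ M ∧ B e f = 0 ∧ e ≠ 0 ∧ ¬ Kmem θ e f := by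
  have hsymm := S.Psymm
  obtain ⟨a, ha⟩ : ∃ a, a = g u := ⟨_, rfl⟩
  obtain ⟨b, hb⟩ : ∃ b, b = g (θ u) := ⟨_, rfl⟩
  rw [← ha, ← hb] at hK
  have hab : B a b = 0 := by rw [ha, hb, hMB hg, S.Bsing hu]
  obtain ⟨z, hQz, hza, hzb⟩ := exists_sing_hp S h14 hK
  obtain ⟨u', -, hu'0, hQu', hu'⟩ := exists_sing_perp Q P S.hQs S.hQp
    [a, θ a, b, θ b, z, θ z] ⊤ (by
      rw [finrank_top]; simp only [List.length_cons, List.length_nil]; omega)
  have hu'a : HP P θ u' a := ⟨hu' a (by simp), hu' (θ a) (by simp)⟩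
  have hu'b : HP P θ u' b := ⟨hu' b (by simp), hu' (θ b) (by simp)⟩
  have hu'z : HP P θ u' z := ⟨hu' z (by simp), hu' (θ z) (by simp)⟩
  have hau' : HP P θ a u' := hu'a.symm S
  have hbu' : HP P θ b u' := hu'b.symm S
  have haz : HP P θ a z := hza.symm S
  have hh : Gm Q P θ u' z 1 ∈ M := Gm_mem S M hT hQu' hQz hu'z 1
  have hha : Gm Q P θ u' z 1 a = a := by
    rw [Gm_apply S hQu' hQz hu'z, hau'.1, hau'.2, haz.1, haz.2]
    simp
  obtain ⟨d, hd⟩ : ∃ d, d = P b z • θ u' - P b (θ z) • u' := ⟨_, rfl⟩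
  have hhb : Gm Q P θ u' z 1 b = b + d := by
    rw [Gm_apply S hQu' hQz hu'z, hbu'.1, hbu'.2, hd]
    module
  have kd : Kmem θ u' d := ⟨-(P b (θ z)), P b z, by rw [hd]; module⟩
  have hd0 : d ≠ 0 := by
    intro h0
    have h1 : (-(P b (θ z))) • u' + P b z • θ u' = 0 := by rw [← h0, hd]; module
    apply hzb
    rw [hsymm]
    exact (S.U.indep hu'0 h1).2
  have had : B a d = 0 := hau'.B_kmem S kd
  have hbd : B b d = 0 := hbu'.B_kmem S kd
  have hda : B d a = 0 := hau'.B_kmem' S kd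
  have hdb : B d b = 0 := hbu'.B_kmem' S kd
  have hba : B b a = 0 := by rw [alt_swap B S.alt, hab, neg_zero]
  have hTM : Tm Q P θ u 1 ∈ M := hT u 1 hu
  have hTM' : Tm Q P θ u (-1) ∈ M := hT u (-1) hu
  obtain ⟨h, hhd⟩ : ∃ h, h = Gm Q P θ u' z 1 := ⟨_, rfl⟩
  rw [← hhd] at hh hha hhb
  have hC : (g * Tm Q P θ u (-1) * g⁻¹) * ((h * g) * Tm Q P θ u 1 * (h * g)⁻¹) ∈ M :=
    M.mul_mem (M.mul_mem (M.mul_mem hg hTM') (M.inv_mem hg))
      (M.mul_mem (M.mul_mem (M.mul_mem hh hg) hTM) (M.inv_mem (M.mul_mem hh hg)))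
  have hdc : B d ((2 : F) • b - τ • a + d) = 0 := by
    rw [map_add, map_sub, map_smul, map_smul, hda, hdb, S.alt d]
    simp
  have hCeq : (g * Tm Q P θ u (-1) * g⁻¹) * ((h * g) * Tm Q P θ u 1 * (h * g)⁻¹) =
      S2 B S.alt d ((2 : F) • b - τ • a + d) := by
    ext x
    rw [LinearEquiv.mul_apply, conjT_apply S (hMB (M.mul_mem hh hg)) hu,
      conjT_apply S (hMB hg) hu, S2_apply B S.alt hdc, LinearEquiv.mul_apply,
      LinearEquiv.mul_apply, ← ha, ← hb, hha, hhb]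
    simp only [map_add, map_sub, map_smul, LinearMap.add_apply, LinearMap.sub_apply,
      LinearMap.smul_apply, smul_eq_mul, S.alt a, S.alt b, hab, hba, hda, hdb,
      mul_zero, add_zero, sub_zero]
    module
  refine ⟨d, (2 : F) • b - τ • a + d, ?_, hdc, hd0, ?_⟩
  · rw [← hCeq]; exact hC
  · intro hk
    have k1 : Kmem θ d ((2 : F) • b - τ • a) := by
      have := hk.sub (Kmem.refl θ d)
      rwa [add_sub_cancel_right] at this
    have k2 : Kmem θ u' ((2 : F) • b - τ • a) := kd.trans S.U k1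
    have h1 : HP P θ z ((2 : F) • b - τ • a) := (hu'z.symm S).kmem_right S k2
    have h2 := h1.1
    rw [map_sub, map_smul, map_smul, hza.1] at h2
    apply hzb
    have h3 : (2 : F) * P z b = 0 := by
      rw [← h2]; simp
    exact (mul_eq_zero.mp h3).resolve_left S.two

end Main

end Cfsg.Agent.Lib.Helper94_SpUni
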