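import Mathlib
import Cfsg.Agent.Lib.Helper94_SpUni3

set_option autoImplicit false

/-!
**Maximality of the normaliser of a quadratic field** (closed under adjoints, not self-adjoint)
in the isometry group of a symplectic space of dimension at least `14` over a finite field of
odd characteristic.
-/

namespace Cfsg.Agent.Lib.Helper94_SpUni

open Module Cfsg.Agent.Lib.Helper94_Symp Cfsg.Agent.Lib.Helper94_OrthSmall
  Cfsg.Agent.Lib.Helper94_OrthSiegel Cfsg.Agent.Lib.Helper94_OrthSiegel2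
  Cfsg.Agent.Lib.Helper94_OrthPara Cfsg.Agent.Lib.Helper94_OrthNondeg
  Cfsg.Agent.Lib.Helper94_OrthUni

variable {F V : Type*} [Field F] [AddCommGroup V] [Module F V]

section Semi

variable [Finite F] [FiniteDimensional F V] {Q : V → F} {B : LinearMap.BilinForm F V}
  {θ : V →ₗ[F] V} {τ ν : F} (U : UStr Q B θ τ ν)
  (hQs : ∀ (c : F) (v : V), Q (c • v) = c * c * Q v)
  (hQp : ∀ u v : V, Q (u + v) = Q u + Q v + B u v)

include U hQs hQp in
/-- A linear automorphism whose conjugate of `θ` preserves all singular lines is semilinear. -/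
lemma semilinear_of_lines (hN : B.Nondegenerate) (h13 : 13 ≤ finrank F V) {g : V ≃ₗ[F] V}
    (hL : ∀ y, y ≠ 0 → Q y = 0 → Kmem θ y (g (θ (g⁻¹ y)))) :
    ∃ a b : F, ∀ x, g (θ x) = a • g x + b • θ (g x) := by
  have hsymm := B_symm Q B hQp
  -- independence
  have hind : ∀ y y', y ≠ 0 → y' ≠ 0 → ¬ Kmem θ y y' → ∀ α β α' β' : F,
      α • y + β • θ y + (α' • y' + β' • θ y') = 0 → α = 0 ∧ β = 0 ∧ α' = 0 ∧ β' = 0 := by
    intro y y' hy0 hy'0 hK' α β α' β' h
    have hm : α • y + β • θ y = 0 := by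
      by_contra hm0
      have k1 : Kmem θ y (α • y + β • θ y) := ⟨α, β, rfl⟩
      have k2 : Kmem θ y' (α • y + β • θ y) := by
        refine ⟨-α', -β', ?_⟩
        have := eq_neg_of_add_eq_zero_left h
        rw [this]; module
      exact hK' ((k2.trans U (k1.symm U hm0)).symm U hy0)
    have hm' : α' • y' + β' • θ y' = 0 := by rwa [hm, zero_add] at h
    exact ⟨(U.indep hy0 hm).1, (U.indep hy0 hm).2, (U.indep hy'0 hm').1, (U.indep hy'0 hm').2⟩
  -- the coefficients agree for orthogonal independent singular vectors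
  have hstep : ∀ y y', y ≠ 0 → y' ≠ 0 → Q y = 0 → Q y' = 0 → B y y' = 0 → ¬ Kmem θ y y' →
      ∀ a b a' b' : F, g (θ (g⁻¹ y)) = a • y + b • θ y → g (θ (g⁻¹ y')) = a' • y' + b' • θ y' →
      a = a' ∧ b = b' := by
    intro y y' hy0 hy'0 hy hy' hyy' hK' a b a' b' e e'
    have hs : Q (y + y') = 0 := by rw [hQp, hy, hy', hyy']; ring
    have hs0 : y + y' ≠ 0 := by
      intro h0
      apply hK'
      refine ⟨-1, 0, ?_⟩
      have := eq_neg_of_add_eq_zero_right h0
      rw [this]; module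
    obtain ⟨a'', b'', e''⟩ := hL (y + y') hs0 hs
    have e3 : g (θ (g⁻¹ (y + y'))) = g (θ (g⁻¹ y)) + g (θ (g⁻¹ y')) := by
      simp only [map_add]
    rw [e3, e, e'] at e''
    have h0 : (a - a'') • y + (b - b'') • θ y + ((a' - a'') • y' + (b' - b'') • θ y') = 0 := by
      have : (a - a'') • y + (b - b'') • θ y + ((a' - a'') • y' + (b' - b'') • θ y') =
          (a • y + b • θ y + (a' • y' + b' • θ y')) - (a'' • (y + y') + b'' • θ (y + y')) := by
        rw [map_add]; module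
      rw [this, e'', sub_self]
    obtain ⟨h1, h2, h3, h4⟩ := hind y y' hy0 hy'0 hK' _ _ _ _ h0
    exact ⟨by linear_combination h1 - h3, by linear_combination h2 - h4⟩
  -- a base singular vector
  obtain ⟨y₀, -, hy₀0, hQy₀⟩ := exists_singular_in Q B hQs hQp (⊤ : Submodule F V) (by
    rw [finrank_top]; omega)
  obtain ⟨a, b, e₀⟩ := hL y₀ hy₀0 hQy₀
  have hall : ∀ y, Q y = 0 → g (θ (g⁻¹ y)) = a • y + b • θ y := by
    intro y hy
    by_cases hy0 : y = 0
    · subst hy0; simp
    obtain ⟨a', b', e'⟩ := hL y hy0 hy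
    obtain ⟨y₁, hy₁⟩ := exists_not_orth hQp hN hy₀0
    obtain ⟨y₂, hy₂⟩ := exists_not_orth hQp hN hy0
    obtain ⟨w, -, hw0, hQw, hw⟩ := exists_sing_perp Q B hQs hQp
      [y₀, y, y₁, θ y₁, y₂, θ y₂] ⊤ (by
        rw [finrank_top]; simp only [List.length_cons, List.length_nil]; omega)
    have hwy₀ : B w y₀ = 0 := hw y₀ (by simp)
    have hwy : B w y = 0 := hw y (by simp)
    have hwy₁ : B w y₁ = 0 := hw y₁ (by simp)
    have hwθy₁ : B w (θ y₁) = 0 := hw (θ y₁) (by simp)
    have hwy₂ : B w y₂ = 0 := hw y₂ (by simp)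
    have hwθy₂ : B w (θ y₂) = 0 := hw (θ y₂) (by simp)
    have hK1 : ¬ Kmem θ y₀ w := fun h => hw0 (notK_of_perp U hy₁ h hwy₁ hwθy₁)
    have hK2 : ¬ Kmem θ y w := fun h => hw0 (notK_of_perp U hy₂ h hwy₂ hwθy₂)
    obtain ⟨aw, bw, ew⟩ := hL w hw0 hQw
    obtain ⟨h1, h2⟩ := hstep y₀ w hy₀0 hw0 hQy₀ hQw (by rw [hsymm]; exact hwy₀) hK1 _ _ _ _ e₀ ew
    obtain ⟨h3, h4⟩ := hstep y w hy0 hw0 hy hQw (by rw [hsymm]; exact hwy) hK2 _ _ _ _ e' ew
    rw [e', h3, h4, ← h1, ← h2]
  refine ⟨a, b, fun x => ?_⟩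
  have hnd : ∀ a ∈ (⊤ : Submodule F V), a ≠ 0 → ∃ a' ∈ (⊤ : Submodule F V), B a' a ≠ 0 := by
    intro a _ ha0
    obtain ⟨y, hy⟩ := exists_not_orth hQp hN ha0
    exact ⟨y, Submodule.mem_top, by rw [hsymm]; exact hy⟩
  obtain ⟨s₁, -, s₂, -, hQ1, hQ2, c, hc⟩ := sing_sum hQs hQp (⊤ : Submodule F V) hnd (by
    rw [finrank_top]; omega) (Submodule.mem_top (x := g x))
  have h1 := hall s₁ hQ1
  have h2 := hall s₂ hQ2
  have h3 : g (θ (g⁻¹ (g x))) = a • g x + b • θ (g x) := by
    rw [hc]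
    simp only [map_add, map_smul, h1, h2]
    module
  rwa [inv_apply_apply'] at h3

end Semi

section Main

variable [Finite F] [FiniteDimensional F V] {Q : V → F} {P B : LinearMap.BilinForm F V}
  {θ : V →ₗ[F] V} {τ ν : F} (S : SpU Q P B θ τ ν)
  (M : Subgroup (V ≃ₗ[F] V)) (hMB : M ≤ isoGroup B)
  (hT : ∀ (u : V) (t : F), Q u = 0 → Tm Q P θ u t ∈ M)

include S hMB hT in
/-- Moving a root group to an orthogonal singular vector on another line. -/
lemma TV_step (h14 : 14 ≤ finrank F V) {u v : V} (hu0 : u ≠ 0) (hu : Q u = 0)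
    (huT : u ∈ TV B S.alt M) (hv : Q v = 0) (hvu : HP P θ v u) (hK : ¬ Kmem θ u v) :
    v ∈ TV B S.alt M := by
  have hsymm := S.Psymm
  have huv : HP P θ u v := hvu.symm S
  have huu : HP P θ u u := HP.self S hu
  have hv0 : v ≠ 0 := by
    rintro rfl
    exact hK (Kmem.zero θ u)
  have hnK : ¬ Kmem θ (v - u) u := by
    rintro ⟨a, b, hab⟩
    by_cases hw : a • v + b • θ v = 0
    · obtain ⟨rfl, rfl⟩ := S.U.indep hv0 hw
      apply hu0
      rw [hab]; simp
    · have k1 : Kmem θ v (a • v + b • θ v) := ⟨a, b, rfl⟩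
      have k2 : Kmem θ u (a • v + b • θ v) := by
        refine ⟨1 + a, b, ?_⟩
        have e : a • v + b • θ v = (a • (v - u) + b • θ (v - u)) + a • u + b • θ u := by
          rw [map_sub]; module
        rw [e, ← hab]; module
      exact hK (k2.trans S.U (k1.symm S.U hw))
  obtain ⟨y, hQy, hye, huy, huθy⟩ := partner_perp S h14 hnK
  have hQz : Q (v - u) = 0 := by
    have e : v - u = v + (-1 : F) • u := by module
    rw [e, Q_add_smul Q P S.hQs S.hQp, hv, hu, hvu.1]
    ring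
  have hg : Gm Q P θ y (v - u) (-1) ∈ M := Gm_mem S M hT hQy hQz hye (-1)
  have hgu : Gm Q P θ y (v - u) (-1) u = v := by
    rw [Gm_apply S hQy hQz hye, huy, huθy, map_sub, map_sub, map_sub, huv.1, huu.1, huv.2, huu.2]
    module
  rw [← hgu]
  exact TV_map hg (hMB hg) huT

include S hMB hT in
/-- A root group at one singular vector gives the root groups at all singular vectors. -/
lemma TV_sing (h14 : 14 ≤ finrank F V) {u v : V} (hu0 : u ≠ 0) (hu : Q u = 0)
    (huT : u ∈ TV B S.alt M) (hv : Q v = 0) : v ∈ TV B S.alt M := by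
  by_cases hv0 : v = 0
  · rw [hv0]; exact TV_zero
  obtain ⟨cu, hcu⟩ := exists_not_orth S.hQp S.nP hu0
  obtain ⟨cv, hcv⟩ := exists_not_orth S.hQp S.nP hv0
  obtain ⟨w, -, hw0, hQw, hw⟩ := exists_sing_perp Q P S.hQs S.hQp
    [u, θ u, v, θ v, cu, θ cu, cv, θ cv] ⊤ (by
      rw [finrank_top]; simp only [List.length_cons, List.length_nil]; omega)
  have hwu : HP P θ w u := ⟨hw u (by simp), hw (θ u) (by simp)⟩
  have hwv : HP P θ w v := ⟨hw v (by simp), hw (θ v) (by simp)⟩
  have hK1 : ¬ Kmem θ u w :=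
    fun h => hw0 (notK_of_perp S.U hcu h (hw cu (by simp)) (hw (θ cu) (by simp)))
  have hK2 : ¬ Kmem θ v w :=
    fun h => hw0 (notK_of_perp S.U hcv h (hw cv (by simp)) (hw (θ cv) (by simp)))
  have hK3 : ¬ Kmem θ w v := fun h => hK2 (h.symm S.U hv0)
  have hwT : w ∈ TV B S.alt M := TV_step S M hMB hT h14 hu0 hu huT hQw hwu hK1
  exact TV_step S M hMB hT h14 hw0 hQw hwT hv (hwv.symm S) hK3

include S hMB hT in
/-- A root group at one singular vector gives all symplectic transvections. -/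
lemma TV_all (h14 : 14 ≤ finrank F V) {u : V} (hu0 : u ≠ 0) (hu : Q u = 0)
    (huT : u ∈ TV B S.alt M) (v : V) : v ∈ TV B S.alt M := by
  have hsymm := S.Psymm
  by_cases hv0 : v = 0
  · rw [hv0]; exact TV_zero
  by_cases hQv : Q v = 0
  · exact TV_sing S M hMB hT h14 hu0 hu huT hQv
  -- a singular vector `x` with `P v x ≠ 0` and `B v x ≠ 0`
  have hnd : ∀ a ∈ (⊤ : Submodule F V), a ≠ 0 → ∃ a' ∈ (⊤ : Submodule F V), P a' a ≠ 0 := by
    intro a _ ha0
    obtain ⟨y, hy⟩ := exists_not_orth S.hQp S.nP ha0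
    exact ⟨y, Submodule.mem_top, by rw [hsymm]; exact hy⟩
  obtain ⟨s, -, hQs', hsv⟩ := exists_sing_not_orth Q P S.hQs S.hQp ⊤ hnd (by
    rw [finrank_top]; omega) (hnd v Submodule.mem_top hv0)
  have hvs : P v s ≠ 0 := by rw [hsymm]; exact hsv
  obtain ⟨x, hQx, hPx, hBx⟩ : ∃ x, Q x = 0 ∧ P v x ≠ 0 ∧ B v x ≠ 0 := by
    by_cases hB : B v s = 0
    · have hθ : B v (θ s) ≠ 0 := by
        intro h0
        apply hvs
        rw [S.PB, hB, h0]; ring
      have hPθ : P v (θ s) = τ * B v (θ s) := by rw [S.PBθ, hB]; ring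
      have hPs : P v s = 2 * B v (θ s) := by rw [S.PB, hB]; ring
      by_cases hτ : 2 + τ = 0
      · refine ⟨s + (-1 : F) • θ s, Kmem.sing S.U S.hQs S.hQp ⟨1, -1, by module⟩ hQs', ?_, ?_⟩
        · rw [map_add, map_smul, hPθ, hPs]
          have h4 : (2 : F) - τ ≠ 0 := by
            intro h
            have h5 : (2 : F) * 2 = 0 := by linear_combination hτ + h
            exact S.two ((mul_eq_zero.mp h5).elim id id)
          have : 2 * B v (θ s) + (-1 : F) • (τ * B v (θ s)) = (2 - τ) * B v (θ s) := by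
            simp only [smul_eq_mul]; ring
          rw [this]
          exact mul_ne_zero h4 hθ
        · rw [map_add, map_smul, hB]
          simpa using hθ
      · refine ⟨s + (1 : F) • θ s, Kmem.sing S.U S.hQs S.hQp ⟨1, 1, by module⟩ hQs', ?_, ?_⟩
        · rw [map_add, map_smul, hPθ, hPs]
          have : 2 * B v (θ s) + (1 : F) • (τ * B v (θ s)) = (2 + τ) * B v (θ s) := by
            simp only [smul_eq_mul]; ring
          rw [this]
          exact mul_ne_zero hτ hθ
        · rw [map_add, map_smul, hB]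
          simpa using hθ
    · exact ⟨s, hQs', hvs, hB⟩
  have hx0 : x ≠ 0 := by
    rintro rfl
    apply hBx
    simp
  have hxT : x ∈ TV B S.alt M := TV_sing S M hMB hT h14 hu0 hu huT hQx
  have hx'Q : Q (v + (-(Q v / P v x)) • x) = 0 := sing_adjust Q P S.hQs S.hQp hQx hPx
  have hx'T : v + (-(Q v / P v x)) • x ∈ TV B S.alt M :=
    TV_sing S M hMB hT h14 hu0 hu huT hx'Q
  have hB' : B (v + (-(Q v / P v x)) • x) x ≠ 0 := by
    rw [map_add, LinearMap.add_apply, map_smul, LinearMap.smul_apply, S.alt x, smul_zero, add_zero]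
    exact hBx
  have := TV_add_smul hxT hx'T hB' (Q v / P v x)
  have e : v + (-(Q v / P v x)) • x + (Q v / P v x) • x = v := by module
  rwa [e] at this

include S in
/-- **Maximality of the normaliser of a quadratic field** in the symplectic group. -/
theorem maximal_spfield (h14 : 14 ≤ finrank F V) (Sg : Subgroup (V ≃ₗ[F] V))
    (hS : ∀ g, g ∈ Sg ↔ ∃ a b : F, ∀ x, g (θ x) = a • g x + b • θ (g x)) :
    (Sg ⊓ isoGroup B < isoGroup B) ∧
      ∀ M : Subgroup (V ≃ₗ[F] V), Sg ⊓ isoGroup B ≤ M → M ≤ isoGroup B →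
        M = Sg ⊓ isoGroup B ∨ M = isoGroup B := by
  have hsymm := S.Psymm
  constructor
  · refine lt_of_le_of_ne inf_le_right ?_
    intro heq
    obtain ⟨x, -, hx0, hQx⟩ := exists_singular_in Q P S.hQs S.hQp (⊤ : Submodule F V) (by
      rw [finrank_top]; omega)
    have hE : stv B S.alt x 1 ∈ Sg ⊓ isoGroup B := by
      rw [heq]; exact stv_mem_isoGroup B S.alt x 1
    obtain ⟨a, b, hab⟩ := (hS _).mp hE.1
    have hxθx : B x (θ x) = 0 := S.Bsing hQx
    have hθxx : B (θ x) x = 0 := by rw [alt_swap B S.alt, hxθx, neg_zero]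
    have h1 := hab x
    rw [stv_apply, stv_apply, S.alt x, hθxx] at h1
    have h2 : a • x + (b - 1) • θ x = 0 := by
      have : a • x + (b - 1) • θ x = (a • (x + ((1 : F) * 0) • x) + b • θ (x + ((1 : F) * 0) • x)) -
          (θ x + ((1 : F) * 0) • x) := by
        simp only [map_add, map_smul]; module
      rw [this, ← h1, sub_self]
    obtain ⟨ha, hb⟩ := S.U.indep hx0 h2
    have hb' : b = 1 := by linear_combination hb
    obtain ⟨y, hy⟩ : ∃ y, B y x ≠ 0 := by
      by_contra hcon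
      push Not at hcon
      exact hx0 (S.nB.2 x hcon)
    have h3 := hab y
    rw [ha, hb', zero_smul, zero_add, one_smul, stv_apply, stv_apply] at h3
    have h4 : (B (θ y) x) • x + (-(B y x)) • θ x = 0 := by
      have : (B (θ y) x) • x + (-(B y x)) • θ x =
          (θ y + ((1 : F) * B (θ y) x) • x) - θ (y + ((1 : F) * B y x) • x) := by
        simp only [map_add, map_smul]; module
      rw [this, h3, sub_self]
    exact hy (neg_eq_zero.mp (S.U.indep hx0 h4).2)
  · intro M hHM hMB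
    have hT : ∀ (u : V) (t : F), Q u = 0 → Tm Q P θ u t ∈ M := by
      intro u t hu
      apply hHM
      refine ⟨(hS _).mpr ⟨0, 1, fun x => ?_⟩, Tm_mem_iso S hu t⟩
      rw [Tm_comm S hu]
      module
    by_cases hK : ∀ g ∈ M, ∀ u, Q u = 0 → Kmem θ (g u) (g (θ u))
    · left
      apply le_antisymm _ hHM
      intro m hm
      refine ⟨(hS m).mpr ?_, hMB hm⟩
      apply semilinear_of_lines S.U S.hQs S.hQp S.nP (by omega)
      intro y hy0 hy
      have hmi : m⁻¹ ∈ M := M.inv_mem hm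
      obtain ⟨α, β, hαβ⟩ := hK m⁻¹ hmi y hy
      have hβ : β ≠ 0 := by
        rintro rfl
        have h1 := congrArg m hαβ
        rw [apply_inv_apply', zero_smul, add_zero, map_smul, apply_inv_apply'] at h1
        have h2 : (-α) • y + (1 : F) • θ y = 0 := by rw [one_smul, h1]; module
        exact one_ne_zero (S.U.indep hy0 h2).2
      have h1 := congrArg m hαβ
      rw [apply_inv_apply', map_add, map_smul, map_smul, apply_inv_apply'] at h1
      refine ⟨-(α / β), 1 / β, ?_⟩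
      have h2 : m (θ (m⁻¹ y)) = β⁻¹ • (β • m (θ (m⁻¹ y))) := by
        rw [smul_smul, inv_mul_cancel₀ hβ, one_smul]
      have h3 : β • m (θ (m⁻¹ y)) = θ y - α • y := by rw [h1]; module
      rw [h2, h3, smul_sub, smul_smul]
      have e1 : β⁻¹ * α = α / β := by field_simp
      have e2 : β⁻¹ = 1 / β := by field_simp
      rw [e1, e2]
      module
    · right
      push Not at hK
      obtain ⟨g, hg, u, hu, hgK⟩ := hK
      obtain ⟨e, f, hM2, hef, he0, heK⟩ := S2_of_notK S M hMB hT h14 hg hu hgK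
      obtain ⟨d, hd0, hQd, hdT⟩ := root_of_S2 S M hMB hT h14 hM2 hef he0 heK
      apply le_antisymm hMB
      apply isoGroup_le_of_stv_mem B S.alt S.nB
      intro v c
      exact TV_all S M hMB hT h14 hd0 hQd hdT v c

end Main

end Cfsg.Agent.Lib.Helper94_SpUni
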