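import Mathlib
import Cfsg.Agent.Lib.Helper94_SpUni4

/-!
# S5804 package WITT1 (helper31, architect helper59): Witt index one in dimension `6`
-/

set_option autoImplicit false

namespace Cfsg.Agent.Lib.Helper31_S5804_WITT1

open Module Cfsg.Agent.Lib.Helper94_Symp Cfsg.Agent.Lib.Helper94_OrthSmall
  Cfsg.Agent.Lib.Helper94_OrthSiegel Cfsg.Agent.Lib.Helper94_OrthSiegel2
  Cfsg.Agent.Lib.Helper94_OrthPara Cfsg.Agent.Lib.Helper94_OrthNondeg
  Cfsg.Agent.Lib.Helper94_OrthUni Cfsg.Agent.Lib.Helper94_SpUni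

variable {F V : Type*} [Field F] [AddCommGroup V] [Module F V]
variable {Q : V → F} {P B : LinearMap.BilinForm F V} {θ : V →ₗ[F] V} {τ ν : F}

/-- **WITT1** (S-M). Witt index one: in dimension `6` two singular hermitian-orthogonal vectors lie on
one `K`-line. -/
theorem kmem_of_sing_hp [FiniteDimensional F V] (S : SpU Q P B θ τ ν) (h6 : finrank F V = 6)
    {x y : V} (hx0 : x ≠ 0) (hx : Q x = 0) (hy : Q y = 0) (hxy : HP P θ x y) : Kmem θ x y := by
  by_contra hK
  have U := S.U
  have hy0 : y ≠ 0 := by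
    rintro rfl
    exact hK (Kmem.zero θ x)
  -- independence
  have hind : ∀ α β α' β' : F,
      α • x + β • θ x + (α' • y + β' • θ y) = 0 → α = 0 ∧ β = 0 ∧ α' = 0 ∧ β' = 0 := by
    intro α β α' β' h
    have hm : α • x + β • θ x = 0 := by
      by_contra hm0
      have k1 : Kmem θ x (α • x + β • θ x) := ⟨α, β, rfl⟩
      have k2 : Kmem θ y (α • x + β • θ x) := by
        refine ⟨-α', -β', ?_⟩
        have := eq_neg_of_add_eq_zero_left h
        rw [this]; module
      exact hK ((k2.trans U (k1.symm U hm0)).symm U hx0)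
    have hm' : α' • y + β' • θ y = 0 := by rwa [hm, zero_add] at h
    exact ⟨(U.indep hx0 hm).1, (U.indep hx0 hm).2, (U.indep hy0 hm').1, (U.indep hy0 hm').2⟩
  -- hermitian orthogonality of all combinations
  have hxx : HP P θ x x := HP.self S hx
  have hyy : HP P θ y y := HP.self S hy
  have hyx : HP P θ y x := hxy.symm S
  have hcomb : ∀ a b c d a' b' c' d' : F,
      P (a • x + b • θ x + (c • y + d • θ y)) (a' • x + b' • θ x + (c' • y + d' • θ y)) = 0 := by
    intro a b c d a' b' c' d'
    have kx : Kmem θ x (a • x + b • θ x) := ⟨a, b, rfl⟩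
    have ky : Kmem θ y (c • y + d • θ y) := ⟨c, d, rfl⟩
    have kx' : Kmem θ x (a' • x + b' • θ x) := ⟨a', b', rfl⟩
    have ky' : Kmem θ y (c' • y + d' • θ y) := ⟨c', d', rfl⟩
    have h1 : HP P θ (a • x + b • θ x) (a' • x + b' • θ x) :=
      (hxx.kmem_right S kx').kmem_left S kx
    have h2 : HP P θ (a • x + b • θ x) (c' • y + d' • θ y) :=
      (hxy.kmem_right S ky').kmem_left S kx
    have h3 : HP P θ (c • y + d • θ y) (a' • x + b' • θ x) :=
      (hyx.kmem_right S kx').kmem_left S ky
    have h4 : HP P θ (c • y + d • θ y) (c' • y + d' • θ y) :=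
      (hyy.kmem_right S ky').kmem_left S ky
    exact ((h1.add_right h2).add_left (h3.add_right h4)).1
  -- the four vectors
  set v : Fin 4 → V := ![x, θ x, y, θ y] with hv
  have hli : LinearIndependent F v := by
    rw [Fintype.linearIndependent_iff]
    intro g hg
    rw [Fin.sum_univ_four] at hg
    have hg' : g 0 • x + g 1 • θ x + (g 2 • y + g 3 • θ y) = 0 := by
      rw [← hg]
      simp only [hv, Matrix.cons_val_zero, Matrix.cons_val_one, Matrix.cons_val]
      module
    obtain ⟨h0, h1, h2, h3⟩ := hind _ _ _ _ hg'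
    intro i
    fin_cases i
    · exact h0
    · exact h1
    · exact h2
    · exact h3
  set W : Submodule F V := Submodule.span F (Set.range v) with hW
  have hfW : finrank F W = 4 := by
    rw [hW, finrank_span_eq_card hli, Fintype.card_fin]
  have hrep : ∀ w ∈ W, ∃ a b c d : F, w = a • x + b • θ x + (c • y + d • θ y) := by
    intro w hw
    rw [hW, Submodule.mem_span_range_iff_exists_fun] at hw
    obtain ⟨c, rfl⟩ := hw
    refine ⟨c 0, c 1, c 2, c 3, ?_⟩
    rw [Fin.sum_univ_four]
    simp only [hv, Matrix.cons_val_zero, Matrix.cons_val_one, Matrix.cons_val]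
    module
  have hle : W ≤ P.orthogonal W := by
    intro m hm
    rw [LinearMap.BilinForm.mem_orthogonal_iff]
    intro n hn
    obtain ⟨a, b, c, d, rfl⟩ := hrep n hn
    obtain ⟨a', b', c', d', rfl⟩ := hrep m hm
    exact hcomb a b c d a' b' c' d'
  have hfo := LinearMap.BilinForm.finrank_orthogonal S.nP W
  have hmono := Submodule.finrank_mono hle
  rw [hfo, hfW, h6] at hmono
  omega

end Cfsg.Agent.Lib.Helper31_S5804_WITT1
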