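import Mathlib
import Cfsg.Agent.Lib.Helper94_SpUni4

/-!
# S5804 clause (6), package REFL (architect helper59): the unitary reflection at a non-singular vector
-/

set_option autoImplicit false
set_option linter.unusedVariables false
set_option linter.unusedSimpArgs false

namespace Cfsg.Agent.Lib.Helper41_S5804_REFL

open Module Cfsg.Agent.Lib.Helper94_Symp Cfsg.Agent.Lib.Helper94_OrthSmall
  Cfsg.Agent.Lib.Helper94_OrthSiegel Cfsg.Agent.Lib.Helper94_OrthSiegel2
  Cfsg.Agent.Lib.Helper94_OrthPara Cfsg.Agent.Lib.Helper94_OrthNondeg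
  Cfsg.Agent.Lib.Helper94_OrthUni Cfsg.Agent.Lib.Helper94_SpUni

variable {F V : Type*} [Field F] [AddCommGroup V] [Module F V]
variable {Q : V → F} {P B : LinearMap.BilinForm F V} {θ : V →ₗ[F] V} {τ ν : F}

/-- the reflection as a linear map -/
noncomputable def reflMap (Q : V → F) (B : LinearMap.BilinForm F V) (θ : V →ₗ[F] V) (y : V) :
    V →ₗ[F] V :=
  LinearMap.id - (2 / Q y) • ((B.flip (θ y)).smulRight y - (B.flip y).smulRight (θ y))

theorem reflMap_apply (y x : V) :
    reflMap Q B θ y x = x - (2 / Q y) • (B x (θ y) • y - B x y • θ y) := by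
  simp [reflMap, LinearMap.flip_apply]

theorem B_reflMap_left (S : SpU Q P B θ τ ν) {y : V} (hy : Q y ≠ 0) (x z : V) :
    B (reflMap Q B θ y x) z = B x z - (2 / Q y) * (B x (θ y) * B y z - B x y * B (θ y) z) := by
  rw [reflMap_apply]
  simp only [map_sub, map_smul, LinearMap.sub_apply, LinearMap.smul_apply, smul_eq_mul]

theorem B_reflMap_y (S : SpU Q P B θ τ ν) {y : V} (hy : Q y ≠ 0) (x : V) :
    B (reflMap Q B θ y x) y = - B x y := by
  rw [B_reflMap_left S hy, S.alt y, alt_swap B S.alt (θ y) y, ← S.QB]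
  field_simp
  ring

theorem B_reflMap_θy (S : SpU Q P B θ τ ν) {y : V} (hy : Q y ≠ 0) (x : V) :
    B (reflMap Q B θ y x) (θ y) = - B x (θ y) := by
  rw [B_reflMap_left S hy, S.alt (θ y), ← S.QB]
  field_simp
  ring

theorem reflMap_invol (S : SpU Q P B θ τ ν) {y : V} (hy : Q y ≠ 0) (x : V) :
    reflMap Q B θ y (reflMap Q B θ y x) = x := by
  rw [reflMap_apply (Q := Q) (B := B) (θ := θ) y (reflMap Q B θ y x), B_reflMap_y S hy,
    B_reflMap_θy S hy, reflMap_apply]
  module

theorem reflMap_iso (S : SpU Q P B θ τ ν) {y : V} (hy : Q y ≠ 0) (x x' : V) :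
    B (reflMap Q B θ y x) (reflMap Q B θ y x') = B x x' := by
  rw [B_reflMap_left S hy, reflMap_apply]
  simp only [map_sub, map_smul, smul_eq_mul]
  rw [S.alt y, S.alt (θ y), alt_swap B S.alt (θ y) y, ← S.QB, alt_swap B S.alt y x',
    alt_swap B S.alt (θ y) x']
  field_simp
  ring

theorem reflMap_comm (S : SpU Q P B θ τ ν) {y : V} (hy : Q y ≠ 0) (x : V) :
    reflMap Q B θ y (θ x) = θ (reflMap Q B θ y x) := by
  rw [reflMap_apply, reflMap_apply]
  simp only [map_sub, map_smul]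
  rw [S.Bθθ, S.adjB x y, S.U.sq]
  module

/-- **REFL** (M). -/
theorem exists_refl (S : SpU Q P B θ τ ν) {y : V} (hy : Q y ≠ 0) :
    ∃ r : V ≃ₗ[F] V, r ∈ isoGroup B ∧ (∀ x, r (θ x) = θ (r x)) ∧
      ∀ x, r x = x - (2 / Q y) • (B x (θ y) • y - B x y • θ y) := by
  refine ⟨LinearEquiv.ofInvolutive (reflMap Q B θ y) (reflMap_invol S hy), ?_, ?_, ?_⟩
  · intro u v
    exact reflMap_iso S hy u v
  · intro x
    exact reflMap_comm S hy x
  · intro x
    exact reflMap_apply y x

end Cfsg.Agent.Lib.Helper41_S5804_REFL
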