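import Mathlib
import Cfsg.Agent.Lib.Helper94_SpUni4
import Cfsg.Agent.Lib.Helper41_S5804_REFL

/-!
# S5804 clause (6), package SIEGEL (architect helper59)

The unitary Siegel element `E = r_p ∘ r_{p+κ}` with its explicit formula.  `exists_siegel_of` takes the
statement of the package REFL (unitary reflections) as a hypothesis.
-/

set_option autoImplicit false

namespace Cfsg.Agent.Lib.Helper95_S5804_SIEGEL

open Module Cfsg.Agent.Lib.Helper94_Symp Cfsg.Agent.Lib.Helper94_OrthSmall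
  Cfsg.Agent.Lib.Helper94_OrthSiegel Cfsg.Agent.Lib.Helper94_OrthSiegel2
  Cfsg.Agent.Lib.Helper94_OrthPara Cfsg.Agent.Lib.Helper94_OrthNondeg
  Cfsg.Agent.Lib.Helper94_OrthUni Cfsg.Agent.Lib.Helper94_SpUni

variable {F V : Type*} [Field F] [AddCommGroup V] [Module F V]
variable {Q : V → F} {P B : LinearMap.BilinForm F V} {θ : V →ₗ[F] V} {τ ν : F}

/-- SIEGEL from the statement of REFL. -/
theorem exists_siegel_of (S : SpU Q P B θ τ ν)
    (hR : ∀ {y : V}, Q y ≠ 0 → ∃ r : V ≃ₗ[F] V, r ∈ isoGroup B ∧ (∀ x, r (θ x) = θ (r x)) ∧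
      ∀ x, r x = x - (2 / Q y) • (B x (θ y) • y - B x y • θ y))
    {p z κ : V} (hp : Q p ≠ 0) (hz : Q z = 0)
    (hpz : HP P θ p z) (hκ : Kmem θ z κ) :
    ∃ E : V ≃ₗ[F] V, E ∈ isoGroup B ∧ (∀ x, E (θ x) = θ (E x)) ∧
      ∀ x, E x = x + (2 / Q p) • (B x (θ κ) • p - B x κ • θ p - B x (θ p) • κ + B x p • θ κ)
        - (2 / Q p) • (B x (θ κ) • κ - B x κ • θ κ) := by
  have hQκ : Q κ = 0 := Kmem.sing S.U S.hQs S.hQp hκ hz
  have hpκ : HP P θ p κ := HP.kmem_right S hpz hκ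
  have hQy : Q (p + κ) = Q p := by
    rw [S.hQp, hQκ, hpκ.1, add_zero, add_zero]
  have hy : Q (p + κ) ≠ 0 := by rw [hQy]; exact hp
  obtain ⟨r₁, hr₁, hc₁, hf₁⟩ := hR hp
  obtain ⟨r₂, hr₂, hc₂, hf₂⟩ := hR hy
  refine ⟨r₁ * r₂, (isoGroup B).mul_mem hr₁ hr₂, fun x => ?_, fun x => ?_⟩
  · rw [LinearEquiv.mul_apply, LinearEquiv.mul_apply, hc₂, hc₁]
  · -- the `B`-values
    obtain ⟨b1, b2⟩ := HP.toB S hpκ
    obtain ⟨b3, b4⟩ := HP.toB S (HP.symm S hpκ)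
    have b5 : B p (θ p) = Q p := (S.QB p).symm
    have b6 : B (θ p) p = -Q p := by rw [alt_swap B S.alt, b5]
    have b7 : B p p = 0 := S.alt p
    have b8 : B (θ p) (θ p) = 0 := S.alt _
    have b9 : B κ (θ κ) = 0 := by rw [← S.QB, hQκ]
    have b10 : B (θ κ) κ = 0 := by rw [alt_swap B S.alt, b9, neg_zero]
    have b11 : B κ κ = 0 := S.alt κ
    have b12 : B (θ κ) (θ κ) = 0 := S.alt _
    have b13 : B (θ κ) p = 0 := by rw [S.adjB, b3, b4]; ring
    have b14 : B (θ κ) (θ p) = 0 := by rw [S.Bθθ, b3, mul_zero]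
    have b15 : B (θ p) κ = 0 := by rw [S.adjB, b1, b2]; ring
    have b16 : B (θ p) (θ κ) = 0 := by rw [S.Bθθ, b1, mul_zero]
    rw [LinearEquiv.mul_apply, hf₁, hf₂, hQy]
    obtain ⟨c, hc⟩ : ∃ c : F, c = 2 / Q p := ⟨_, rfl⟩
    have hcq : c * Q p = 2 := by rw [hc]; field_simp
    rw [← hc]
    simp only [map_add, map_sub, map_smul, LinearMap.add_apply, LinearMap.sub_apply,
      LinearMap.smul_apply, smul_eq_mul, b1, b2, b3, b4, b5, b6, b7, b8, b9, b10, b11, b12, b13,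
      b14, b15, b16, mul_zero, add_zero, zero_add, sub_zero, zero_sub]
    have h1 : c * ((B x (θ p) + B x (θ κ)) * Q p) = 2 * (B x (θ p) + B x (θ κ)) := by
      linear_combination (B x (θ p) + B x (θ κ)) * hcq
    have h2 : c * -((B x p + B x κ) * -Q p) = 2 * (B x p + B x κ) := by
      linear_combination (B x p + B x κ) * hcq
    rw [h1, h2]
    module

/-- **SIEGEL** (verbatim package statement). -/
theorem exists_siegel (S : SpU Q P B θ τ ν) {p z κ : V} (hp : Q p ≠ 0) (hz : Q z = 0)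
    (hpz : HP P θ p z) (hκ : Kmem θ z κ) :
    ∃ E : V ≃ₗ[F] V, E ∈ isoGroup B ∧ (∀ x, E (θ x) = θ (E x)) ∧
      ∀ x, E x = x + (2 / Q p) • (B x (θ κ) • p - B x κ • θ p - B x (θ p) • κ + B x p • θ κ)
        - (2 / Q p) • (B x (θ κ) • κ - B x κ • θ κ) :=
  exists_siegel_of S (fun hy => Cfsg.Agent.Lib.Helper41_S5804_REFL.exists_refl S hy) hp hz hpz hκ

end Cfsg.Agent.Lib.Helper95_S5804_SIEGEL
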