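import Mathlib
import Cfsg.Agent.Lib.Helper94_SpUni4
import Cfsg.Agent.Lib.Helper31_S5804_WITT1
import Cfsg.Agent.Lib.Helper95_S5804_SIEGEL

/-!
# S5804 clause (6), package TRANSV (architect helper59; formalised by helper12)

The tangent configuration produces all symplectic transvections with centre on the line `K z`.
`TV_of_config_aux` takes the statements of the packages WITT1 and SIEGEL as hypotheses;
`TV_of_config` is the verbatim package statement (WITT1 = helper31, SIEGEL = helper95).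
-/

set_option autoImplicit false
set_option linter.unusedSimpArgs false

namespace Cfsg.Agent.Lib.Helper12_S5804_TRANSV

open Module Cfsg.Agent.Lib.Helper94_Symp Cfsg.Agent.Lib.Helper94_OrthSmall
  Cfsg.Agent.Lib.Helper94_OrthSiegel Cfsg.Agent.Lib.Helper94_OrthSiegel2
  Cfsg.Agent.Lib.Helper94_OrthPara Cfsg.Agent.Lib.Helper94_OrthNondeg
  Cfsg.Agent.Lib.Helper94_OrthUni Cfsg.Agent.Lib.Helper94_SpUni

variable {F V : Type*} [Field F] [AddCommGroup V] [Module F V]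

/-- the commutator identity `c₁ E u = u E` in abstract form. -/
theorem comm_identity (B : LinearMap.BilinForm F V) (hB : B.IsAlt) {p p₁ z k k₁ : V}
    {q s t τ ν : F} (hsq : s * q = 2)
    (h1 : B p p₁ = q) (h2 : B p z = 0) (h3 : B p k = 0) (h4 : B p k₁ = 0) (h5 : B p₁ z = 0)
    (h6 : B p₁ k = 0) (h7 : B p₁ k₁ = 0) (h8 : B z k = 0) (h9 : B z k₁ = 0) (h10 : B k k₁ = 0)
    {u E : V ≃ₗ[F] V}
    (hu : ∀ x, u x = x + t • ((2 * B x p - τ * B x z) • p - (τ * B x p - 2 * ν * B x z) • z))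
    (hE : ∀ x, E x = x + s • (B x k₁ • p - B x k • p₁ - B x p₁ • k + B x p • k₁)
        - s • (B x k₁ • k - B x k • k₁)) :
    S2 B hB ((2 * t) • k) ((2 : F) • p - τ • z) * stv B hB k (-8 * t) * E * u = u * E := by
  have h1' : B p₁ p = -q := by rw [alt_swap B hB, h1]
  have h2' : B z p = 0 := by rw [alt_swap B hB, h2, neg_zero]
  have h3' : B k p = 0 := by rw [alt_swap B hB, h3, neg_zero]
  have h4' : B k₁ p = 0 := by rw [alt_swap B hB, h4, neg_zero]
  have h5' : B z p₁ = 0 := by rw [alt_swap B hB, h5, neg_zero]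
  have h6' : B k p₁ = 0 := by rw [alt_swap B hB, h6, neg_zero]
  have h7' : B k₁ p₁ = 0 := by rw [alt_swap B hB, h7, neg_zero]
  have h8' : B k z = 0 := by rw [alt_swap B hB, h8, neg_zero]
  have h9' : B k₁ z = 0 := by rw [alt_swap B hB, h9, neg_zero]
  have h10' : B k₁ k = 0 := by rw [alt_swap B hB, h10, neg_zero]
  have hS2 : B ((2 * t) • k) ((2 : F) • p - τ • z) = 0 := by
    simp only [map_sub, map_smul, LinearMap.smul_apply, smul_eq_mul, h3', h8', mul_zero, sub_self]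
  ext x
  simp only [LinearEquiv.mul_apply, S2_apply B hB hS2, stv_apply, hu, hE, map_add, map_sub,
    map_smul, LinearMap.add_apply, LinearMap.sub_apply, LinearMap.smul_apply, smul_eq_mul, hB p,
    hB p₁, hB z, hB k, hB k₁, h1, h2, h3, h4, h5, h6, h7, h8, h9, h10, h1', h2', h3', h4', h5', h6',
    h7', h8', h9', h10', mul_zero, add_zero, sub_zero, zero_sub, zero_add, sub_self, neg_zero]
  linear_combination (norm := module) hsq • ((-(t * (2 * B x p - τ * B x z))) • k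
    + (4 * t * B x k) • k - (2 * t * B x k) • p + (t * τ * B x k) • z)

/-- `E' c₁ E'⁻¹ = c₁ · stv κ (4t)` in abstract form (`d' = d + κ`). -/
theorem shift_identity (B : LinearMap.BilinForm F V) (hB : B.IsAlt) {d k : V} {t : F}
    (hdk : B k d = 0) :
    S2 B hB ((2 * t) • k) (d + k) * stv B hB k (-8 * t) =
      S2 B hB ((2 * t) • k) d * stv B hB k (-8 * t) * stv B hB k (4 * t) := by
  have hkd : B d k = 0 := by rw [alt_swap B hB, hdk, neg_zero]
  have hS2 : B ((2 * t) • k) d = 0 := by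
    simp only [map_smul, LinearMap.smul_apply, smul_eq_mul, hdk, mul_zero]
  have hS2' : B ((2 * t) • k) (d + k) = 0 := by
    simp only [map_add, map_smul, LinearMap.smul_apply, smul_eq_mul, hdk, hB k, mul_zero, add_zero]
  ext x
  simp only [LinearEquiv.mul_apply, S2_apply B hB hS2, S2_apply B hB hS2', stv_apply, map_add,
    map_smul, LinearMap.add_apply, LinearMap.smul_apply, smul_eq_mul, hB k, hdk, hkd, mul_zero,
    add_zero]
  module

variable {Q : V → F} {P B : LinearMap.BilinForm F V} {θ : V →ₗ[F] V} {τ ν : F}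

/-- **TRANSV**, with the statements of WITT1 and SIEGEL as hypotheses. -/
theorem TV_of_config_aux (S : SpU Q P B θ τ ν)
    (hW : ∀ {x y : V}, x ≠ 0 → Q x = 0 → Q y = 0 → HP P θ x y → Kmem θ x y)
    (hSg : ∀ {p z κ : V}, Q p ≠ 0 → Q z = 0 → HP P θ p z → Kmem θ z κ →
      ∃ E : V ≃ₗ[F] V, E ∈ isoGroup B ∧ (∀ x, E (θ x) = θ (E x)) ∧
        ∀ x, E x = x + (2 / Q p) • (B x (θ κ) • p - B x κ • θ p - B x (θ p) • κ + B x p • θ κ)
          - (2 / Q p) • (B x (θ κ) • κ - B x κ • θ κ))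
    (M : Subgroup (V ≃ₗ[F] V)) (hMB : M ≤ isoGroup B)
    (hH : ∀ r : V ≃ₗ[F] V, r ∈ isoGroup B → (∀ x, r (θ x) = θ (r x)) → r ∈ M)
    {z z₀ : V} (hz0 : z ≠ 0) (hz : Q z = 0) (hz₀ : Q z₀ = 0) {m : V ≃ₗ[F] V} (hm : m ∈ M)
    (hmz : m z₀ = z) (hp : HP P θ (m (θ z₀)) z) (hK : ¬ Kmem θ z (m (θ z₀))) :
    ∀ κ, Kmem θ z κ → κ ∈ TV B S.alt M := by
  have hB := S.alt
  obtain ⟨p', hp'⟩ : ∃ p', p' = m (θ z₀) := ⟨_, rfl⟩
  rw [← hp'] at hp hK
  -- (1) `Q p' ≠ 0`
  have hq : Q p' ≠ 0 := fun h0 => hK (hW hz0 hz h0 (hp.symm S))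
  have hsq : 2 / Q p' * Q p' = 2 := by field_simp
  -- (2) the elements `u_t`
  have huM : ∀ t : F, m * Tm Q P θ z₀ t * m⁻¹ ∈ M := fun t =>
    M.mul_mem (M.mul_mem hm (hH _ (Tm_mem_iso S hz₀ t) (fun x => Tm_comm S hz₀ t x)))
      (M.inv_mem hm)
  have hu : ∀ (t : F) (x : V), (m * Tm Q P θ z₀ t * m⁻¹) x =
      x + t • ((2 * B x p' - τ * B x z) • p' - (τ * B x p' - 2 * ν * B x z) • z) := by
    intro t x
    rw [conjT_apply S (hMB hm) hz₀ t x, hmz, ← hp']
  -- `B`-values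
  have hθp : HP P θ (θ p') z := hp.kmem_left S (Kmem.theta_self θ p')
  have hzz : HP P θ z z := HP.self S hz
  have h1 : B p' (θ p') = Q p' := (S.QB p').symm
  have h2 : B p' z = 0 := (HP.toB S hp).1
  have h5 : B (θ p') z = 0 := (HP.toB S hθp).1
  have h2' : B z p' = 0 := by rw [alt_swap B hB, h2, neg_zero]
  -- main step: for all `κ ∈ K z` and `t`, `c₁ ∈ M`
  have hc1 : ∀ κ, Kmem θ z κ → ∀ t : F,
      S2 B hB ((2 * t) • κ) ((2 : F) • p' - τ • z) * stv B hB κ (-8 * t) ∈ M := by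
    intro κ hκ t
    have hθκ : Kmem θ z (θ κ) := hκ.theta S.U
    obtain ⟨E, hEB, hEθ, hE⟩ := hSg hq hz hp hκ
    have hEM : E ∈ M := hH E hEB hEθ
    have key := comm_identity B hB (t := t) (τ := τ) (ν := ν) hsq h1 h2 (hp.B_kmem S hκ)
      (hp.B_kmem S hθκ) h5 (hθp.B_kmem S hκ) (hθp.B_kmem S hθκ) (hzz.B_kmem S hκ)
      (hzz.B_kmem S hθκ) (S.Bsing (hκ.sing S.U S.hQs S.hQp hz)) (hu t) hE
    have e : S2 B hB ((2 * t) • κ) ((2 : F) • p' - τ • z) * stv B hB κ (-8 * t) =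
        (m * Tm Q P θ z₀ t * m⁻¹) * E * (m * Tm Q P θ z₀ t * m⁻¹)⁻¹ * E⁻¹ := by
      rw [← key]
      group
    rw [e]
    exact M.mul_mem (M.mul_mem (M.mul_mem (huM t) hEM) (M.inv_mem (huM t))) (M.inv_mem hEM)
  intro κ hκ
  have hθκ : Kmem θ z (θ κ) := hκ.theta S.U
  -- `stv κ (4 t) ∈ M`
  have h4t : ∀ t : F, stv B hB κ (4 * t) ∈ M := by
    intro t
    have hκ' : Kmem θ z ((-(1 / 4 : F)) • κ) := hκ.smul _
    have hθκ' : Kmem θ z (θ ((-(1 / 4 : F)) • κ)) := hκ'.theta S.U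
    obtain ⟨E, hEB, hEθ, hE⟩ := hSg hq hz hp hκ'
    have hEM : E ∈ M := hH E hEB hEθ
    have hc := hc1 κ hκ t
    have h4 : (4 : F) ≠ 0 := by
      have : (4 : F) = 2 * 2 := by norm_num
      rw [this]
      exact mul_ne_zero S.two S.two
    -- values of `E`
    have b3 := hp.B_kmem S hκ
    have b4 := hp.B_kmem S hθκ
    have b6 := hθp.B_kmem S hκ
    have b7 := hθp.B_kmem S hθκ
    have b8 := hzz.B_kmem S hκ
    have b9 := hzz.B_kmem S hθκ
    have b10 : B κ (θ κ) = 0 := S.Bsing (hκ.sing S.U S.hQs S.hQp hz)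
    have b3' : B κ p' = 0 := by rw [alt_swap B hB, b3, neg_zero]
    have b6' : B κ (θ p') = 0 := by rw [alt_swap B hB, b6, neg_zero]
    have b8' : B κ z = 0 := by rw [alt_swap B hB, b8, neg_zero]
    have b5' : B z (θ p') = 0 := by rw [alt_swap B hB, h5, neg_zero]
    have hEκ : E κ = κ := by
      rw [hE]
      simp only [map_smul, smul_eq_mul, b10, hB κ, b6', b3', mul_zero, zero_smul, sub_self,
        add_zero, smul_zero, sub_zero]
    have hEz : E z = z := by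
      rw [hE]
      simp only [map_smul, smul_eq_mul, b9, b8, b5', h2', mul_zero, zero_smul, sub_self,
        add_zero, smul_zero, sub_zero]
    have hEp : E p' = p' + (1 / 2 : F) • κ := by
      rw [hE]
      simp only [map_smul, smul_eq_mul, b4, b3, h1, hB p', mul_zero, zero_smul, sub_self,
        add_zero, smul_zero, sub_zero, zero_sub, zero_add]
      have : (2 / Q p') • (-(Q p' • (-(1 / 4 : F)) • κ)) = (1 / 2 : F) • κ := by
        rw [smul_smul, smul_neg, smul_smul]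
        rw [← neg_smul]
        congr 1
        field_simp
        rw [eq_div_iff S.two]
        norm_num
      rw [this]
    have hEd : E ((2 : F) • p' - τ • z) = ((2 : F) • p' - τ • z) + κ := by
      rw [map_sub, map_smul, map_smul, hEp, hEz]
      have : (2 : F) * (1 / 2) = 1 := by
        rw [mul_one_div, div_self S.two]
      rw [smul_add, smul_smul, this, one_smul]
      abel
    have hEk2 : E ((2 * t) • κ) = (2 * t) • κ := by rw [map_smul, hEκ]
    -- conjugate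
    have hconj : E * (S2 B hB ((2 * t) • κ) ((2 : F) • p' - τ • z) * stv B hB κ (-8 * t)) * E⁻¹ =
        S2 B hB ((2 * t) • κ) (((2 : F) • p' - τ • z) + κ) * stv B hB κ (-8 * t) := by
      have : E * (S2 B hB ((2 * t) • κ) ((2 : F) • p' - τ • z) * stv B hB κ (-8 * t)) * E⁻¹ =
          (E * S2 B hB ((2 * t) • κ) ((2 : F) • p' - τ • z) * E⁻¹) *
            (E * stv B hB κ (-8 * t) * E⁻¹) := by group
      rw [this, conj_S2 B hB hEB, conj_stv B hB hEB, hEk2, hEd, hEκ]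
    have hkd : B κ ((2 : F) • p' - τ • z) = 0 := by
      simp only [map_sub, map_smul, smul_eq_mul, b3', b8', mul_zero, sub_self]
    have hsh := shift_identity B hB (t := t) hkd
    have hM2 : E * (S2 B hB ((2 * t) • κ) ((2 : F) • p' - τ • z) * stv B hB κ (-8 * t)) * E⁻¹ ∈ M :=
      M.mul_mem (M.mul_mem hEM hc) (M.inv_mem hEM)
    rw [hconj, hsh] at hM2
    have := M.mul_mem (M.inv_mem hc) hM2
    rwa [inv_mul_cancel_left] at this
  intro c
  have h4 : (4 : F) ≠ 0 := by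
    have : (4 : F) = 2 * 2 := by norm_num
    rw [this]
    exact mul_ne_zero S.two S.two
  have := h4t (c / 4)
  rwa [mul_div_cancel₀ c h4] at this

/-- **TRANSV**, with only the statement of SIEGEL as a hypothesis (WITT1 = helper31's package). -/
theorem TV_of_config_of_siegel [Finite F] [FiniteDimensional F V] (S : SpU Q P B θ τ ν)
    (hSg : ∀ {p z κ : V}, Q p ≠ 0 → Q z = 0 → HP P θ p z → Kmem θ z κ →
      ∃ E : V ≃ₗ[F] V, E ∈ isoGroup B ∧ (∀ x, E (θ x) = θ (E x)) ∧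
        ∀ x, E x = x + (2 / Q p) • (B x (θ κ) • p - B x κ • θ p - B x (θ p) • κ + B x p • θ κ)
          - (2 / Q p) • (B x (θ κ) • κ - B x κ • θ κ))
    (h6 : finrank F V = 6) (M : Subgroup (V ≃ₗ[F] V)) (hMB : M ≤ isoGroup B)
    (hH : ∀ r : V ≃ₗ[F] V, r ∈ isoGroup B → (∀ x, r (θ x) = θ (r x)) → r ∈ M)
    {z z₀ : V} (hz0 : z ≠ 0) (hz : Q z = 0) (hz₀ : Q z₀ = 0) {m : V ≃ₗ[F] V} (hm : m ∈ M)
    (hmz : m z₀ = z) (hp : HP P θ (m (θ z₀)) z) (hK : ¬ Kmem θ z (m (θ z₀))) :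
    ∀ κ, Kmem θ z κ → κ ∈ TV B S.alt M :=
  TV_of_config_aux S
    (fun hx0 hx hy hxy => Cfsg.Agent.Lib.Helper31_S5804_WITT1.kmem_of_sing_hp S h6 hx0 hx hy hxy)
    hSg M hMB hH hz0 hz hz₀ hm hmz hp hK

/-- **TRANSV** (L). The tangent configuration produces all symplectic transvections with centre on
the line `K z`. -/
theorem TV_of_config [Finite F] [FiniteDimensional F V] (S : SpU Q P B θ τ ν)
    (h6 : finrank F V = 6) (M : Subgroup (V ≃ₗ[F] V)) (hMB : M ≤ isoGroup B)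
    (hH : ∀ r : V ≃ₗ[F] V, r ∈ isoGroup B → (∀ x, r (θ x) = θ (r x)) → r ∈ M)
    {z z₀ : V} (hz0 : z ≠ 0) (hz : Q z = 0) (hz₀ : Q z₀ = 0) {m : V ≃ₗ[F] V} (hm : m ∈ M)
    (hmz : m z₀ = z) (hp : HP P θ (m (θ z₀)) z) (hK : ¬ Kmem θ z (m (θ z₀))) :
    ∀ κ, Kmem θ z κ → κ ∈ TV B S.alt M :=
  TV_of_config_of_siegel S
    (fun hp hz hpz hκ => Cfsg.Agent.Lib.Helper95_S5804_SIEGEL.exists_siegel S hp hz hpz hκ)
    h6 M hMB hH hz0 hz hz₀ hm hmz hp hK

end Cfsg.Agent.Lib.Helper12_S5804_TRANSV
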