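import Mathlib
import Cfsg.Agent.S0713
import Cfsg.Agent.Lib.Helper17_Sylow

set_option autoImplicit false

/-!
# S0983 package N5400C (architect helper16; formalised by helper12)

A simple group of order 5400 has no subgroup `H` of index 18 with an element `x` of order 5 fixing
exactly 13 cosets of `H`: the action on `G ⧸ H` is primitive and `x` induces a 5-cycle, so by Jordan's
theorem (S0713) the image of `G` contains `Alt(18)`.
-/

namespace Cfsg.Agent.Lib.Helper12_SO_N5400C

/-- the image of a primitive group in `Perm Ω` is primitive -/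
theorem isPreprimitive_range' {G Ω : Type*} [Group G] [MulAction G Ω]
    (hprim : MulAction.IsPreprimitive G Ω) :
    MulAction.IsPreprimitive (MulAction.toPermHom G Ω).range Ω := by
  let f : Ω →ₑ[(MulAction.toPermHom G Ω).rangeRestrict] Ω :=
    { toFun := id
      map_smul' := fun g a => rfl }
  exact MulAction.IsPreprimitive.of_surjective (f := f) Function.surjective_id

/-- a subgroup of index 18 of a simple group of order 5400 is maximal -/
theorem isCoatom_of_index_18 {G : Type*} [Group G] [Finite G] [IsSimpleGroup G]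
    (hcard : Nat.card G = 5400) (H : Subgroup G) (hH : H.index = 18) : IsCoatom H := by
  have hnc : ¬ IsMulCommutative G :=
    Cfsg.Agent.Lib.Helper17_Sylow.not_isMulCommutative_of_not_prime (by rw [hcard]; norm_num)
  have hHtop : H ≠ ⊤ := by
    intro h
    rw [h, Subgroup.index_top] at hH
    omega
  refine ⟨hHtop, fun M hM => ?_⟩
  by_contra hMtop
  have hdiv : M.index ∣ H.index := Subgroup.index_dvd_of_le hM.le
  rw [hH] at hdiv
  have h1 : M.index ≠ 1 := fun h => hMtop (Subgroup.index_eq_one.1 h)
  have h18 : M.index ≠ 18 := by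
    intro h
    have h2 := Subgroup.relIndex_mul_index hM.le
    rw [h, hH] at h2
    have h3 : H.relIndex M = 1 := by omega
    exact hM.not_ge (Subgroup.relIndex_eq_one.1 h3)
  have hfact := Cfsg.Agent.Lib.Helper17_Sylow.two_mul_card_dvd_factorial_index hnc M hMtop
  rw [hcard] at hfact
  have hle : M.index ≤ 9 := by
    have hle18 : M.index ≤ 18 := Nat.le_of_dvd (by norm_num) hdiv
    interval_cases h : M.index <;> simp_all
  have h9 : (M.index).factorial ∣ (9).factorial := Nat.factorial_dvd_factorial hle
  have h10 : 2 * 5400 ∣ (9).factorial := dvd_trans hfact h9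
  revert h10
  decide

theorem jordan_5400 {G : Type*} [Group G] [Finite G] [IsSimpleGroup G] (hcard : Nat.card G = 5400)
    (H : Subgroup G) (hH : H.index = 18) (x : G) (hx : orderOf x = 5)
    (hfix : Nat.card (MulAction.fixedBy (G ⧸ H) x) = 13) : False := by
  classical
  haveI : Fintype (G ⧸ H) := Fintype.ofFinite _
  have hcardΩ : Fintype.card (G ⧸ H) = 18 := by
    rw [← Nat.card_eq_fintype_card, ← Subgroup.index_eq_card, hH]
  haveI : Nontrivial (G ⧸ H) := by
    rw [← Fintype.one_lt_card_iff_nontrivial, hcardΩ]
    norm_num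
  -- primitivity
  have hco := isCoatom_of_index_18 hcard H hH
  have hprim : MulAction.IsPreprimitive G (G ⧸ H) := by
    rw [← MulAction.isCoatom_stabilizer_iff_preprimitive (G := G) ((1 : G) : G ⧸ H),
      MulAction.stabilizer_quotient]
    exact hco
  -- the permutation induced by `x`
  set σ : Equiv.Perm (G ⧸ H) := MulAction.toPermHom G (G ⧸ H) x with hσ
  have hσapp : ∀ ω, σ ω = x • ω := fun ω => rfl
  have hσ5 : σ ^ 5 = 1 := by
    rw [hσ, ← map_pow, ← hx, pow_orderOf_eq_one, map_one]
  -- support
  have hfixcard : (Finset.univ.filter (fun ω : G ⧸ H => σ ω = ω)).card = 13 := by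
    rw [← hfix, Nat.card_coe_set_eq, ← Set.ncard_coe_finset]
    congr 1
    ext ω
    simp [MulAction.mem_fixedBy, hσapp]
  have hsupp : σ.support.card = 5 := by
    have h1 : σ.support = Finset.univ.filter (fun ω : G ⧸ H => ¬ σ ω = ω) := by
      ext ω
      simp [Equiv.Perm.mem_support]
    have h2 := Finset.card_filter_add_card_filter_not (s := (Finset.univ : Finset (G ⧸ H)))
      (fun ω : G ⧸ H => σ ω = ω)
    rw [Finset.card_univ, hcardΩ, hfixcard] at h2
    rw [h1]
    omega
  have hσne : σ ≠ 1 := by
    intro h
    rw [h, Equiv.Perm.support_one, Finset.card_empty] at hsupp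
    omega
  have hord : orderOf σ = 5 := by
    have hdvd : orderOf σ ∣ 5 := orderOf_dvd_of_pow_eq_one hσ5
    rcases (Nat.dvd_prime (by norm_num : Nat.Prime 5)).1 hdvd with h | h
    · exact absurd (orderOf_eq_one_iff.1 h) hσne
    · exact h
  have hcyc : σ.IsCycle := by
    apply Equiv.Perm.isCycle_of_prime_order
    · rw [hord]; norm_num
    · rw [hord, hsupp]; norm_num
  -- Jordan
  have hσmem : σ ∈ (MulAction.toPermHom G (G ⧸ H)).range := ⟨x, rfl⟩
  have hJ := Cfsg.Agent.S0713.result (MulAction.toPermHom G (G ⧸ H)).range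
    (isPreprimitive_range' hprim) (p := 5) (by norm_num) (by rw [hcardΩ]; norm_num)
    (by rw [hcardΩ]; norm_num) hcyc hsupp hσmem
  -- orders
  have h1 : Nat.card (alternatingGroup (G ⧸ H)) ≤
      Nat.card (MulAction.toPermHom G (G ⧸ H)).range := by
    exact Nat.card_le_card_of_injective (Subgroup.inclusion hJ) (Subgroup.inclusion_injective hJ)
  have h2 : Nat.card (MulAction.toPermHom G (G ⧸ H)).range ≤ Nat.card G := by
    exact Nat.card_le_card_of_surjective (MulAction.toPermHom G (G ⧸ H)).rangeRestrict
      (MulAction.toPermHom G (G ⧸ H)).rangeRestrict_surjective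
  have h3 : 2 * Nat.card (alternatingGroup (G ⧸ H)) = (18).factorial := by
    rw [Nat.card_eq_fintype_card, two_mul_card_alternatingGroup, Fintype.card_perm, hcardΩ]
  have h4 : (8).factorial ≤ (18).factorial := Nat.factorial_le (by norm_num)
  have h5 : (8).factorial = 40320 := by decide
  rw [hcard] at h2
  omega

end Cfsg.Agent.Lib.Helper12_SO_N5400C
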