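import Cfsg.Agent.Lib.Helper9_HigLine

/-!
# Invariant semiregular subgroups are sums of coordinate lines (helper9)
-/

set_option autoImplicit false
set_option linter.unusedSectionVars false
set_option linter.style.haveILetI false
set_option linter.unusedSimpArgs false
set_option linter.unusedVariables false

namespace Cfsg.Agent.Lib.Helper9_HigKey

open Cfsg.Agent.Lib.Helper9_HigLP Cfsg.Agent.Lib.Helper9_HigLine

variable {F : Type*} [Field F] [Fintype F] [CharP F 2] (n : ℕ)

/-- a nonzero invariant semiregular subgroup contains a coordinate line -/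
theorem exists_line_le (hF : Fintype.card F = 2 ^ n) (hn : 2 ≤ n)
    (D : AddSubgroup (Fin n → F)) (hD : Inv n D) (hsr : SemiReg n D) (hne : D ≠ ⊥) :
    ∃ t : Fin n, line n t ≤ D := by
  classical
  let S : Set (AddSubgroup (Fin n → F)) := {D' | D' ≤ D ∧ Inv n D' ∧ D' ≠ ⊥}
  have hS : S.Nonempty := ⟨D, le_refl _, hD, hne⟩
  obtain ⟨M, hM, hmin⟩ := wellFounded_lt.has_min S hS
  obtain ⟨hMD, hMinv, hMne⟩ := hM
  obtain ⟨t, ht⟩ := line_of_minimal n hF hn M hMinv (semiReg_mono n hMD hsr) hMne (by
    intro D' hD' hD'inv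
    by_cases h0 : D' = ⊥
    · exact Or.inl h0
    · right
      by_contra hne'
      exact hmin D' ⟨hD'.trans hMD, hD'inv, h0⟩ (lt_of_le_of_ne hD' hne'))
  exact ⟨t, ht ▸ hMD⟩

theorem line_inf_hyper (t : Fin n) : line n t ⊓ hyper n t = (⊥ : AddSubgroup (Fin n → F)) := by
  rw [eq_bot_iff]
  intro c hc
  rw [AddSubgroup.mem_bot]
  funext s
  by_cases hs : s = t
  · rw [hs]
    exact hc.2
  · exact hc.1 s hs

/-- the dichotomy: each coordinate either vanishes on `D` or its line lies in `D` -/
theorem le_hyper_or_line_le (hF : Fintype.card F = 2 ^ n) (hn : 2 ≤ n) :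
    ∀ (m : ℕ) (D : AddSubgroup (Fin n → F)), Nat.card D ≤ m → Inv n D → SemiReg n D →
      ∀ t : Fin n, D ≤ hyper n t ∨ line n t ≤ D := by
  intro m
  induction m with
  | zero =>
    intro D hcard
    have : 0 < Nat.card D := Nat.card_pos
    omega
  | succ m ih =>
    intro D hcard hD hsr t
    by_cases hne : D = ⊥
    · left
      rw [hne]
      exact bot_le
    obtain ⟨t₀, ht₀⟩ := exists_line_le n hF hn D hD hsr hne
    by_cases htt : t₀ = t
    · right
      rw [← htt]
      exact ht₀
    -- the smaller subgroup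
    have hlt : Nat.card (D ⊓ hyper n t₀ : AddSubgroup (Fin n → F)) < Nat.card D := by
      have hle : D ⊓ hyper n t₀ ≤ D := inf_le_left
      have hne' : D ⊓ hyper n t₀ ≠ D := by
        intro h
        have h1 : (Pi.single t₀ (1 : F) : Fin n → F) ∈ D := ht₀ (single_mem_line n t₀ 1)
        rw [← h] at h1
        have h2 : (Pi.single t₀ (1 : F) : Fin n → F) t₀ = 0 := h1.2
        simp at h2
      have hss : ((D ⊓ hyper n t₀ : AddSubgroup (Fin n → F)) : Set (Fin n → F)) ⊂ (D : Set (Fin n → F)) := by
        refine ⟨hle, ?_⟩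
        intro hcon
        exact hne' (le_antisymm hle hcon)
      have := Set.ncard_lt_ncard hss (Set.toFinite _)
      rw [← Nat.card_coe_set_eq, ← Nat.card_coe_set_eq] at this
      exact this
    rcases ih (D ⊓ hyper n t₀) (by omega) (inv_inf_hyper n hD t₀)
      (semiReg_mono n inf_le_left hsr) t with h | h
    · left
      intro c hc
      have h1 : c - Pi.single t₀ (c t₀) ∈ D :=
        D.sub_mem hc (ht₀ (single_mem_line n t₀ (c t₀)))
      have h2 : c - Pi.single t₀ (c t₀) ∈ hyper n t₀ := by
        show (c - Pi.single t₀ (c t₀) : Fin n → F) t₀ = 0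
        simp
      have h3 := h ⟨h1, h2⟩
      have h4 : (c - Pi.single t₀ (c t₀) : Fin n → F) t = 0 := h3
      have h5 : (Pi.single t₀ (c t₀) : Fin n → F) t = 0 := by
        rw [Pi.single_apply, if_neg (Ne.symm htt)]
      show c t = 0
      simpa [h5] using h4
    · right
      exact h.trans inf_le_left

theorem hyper_or_line (hF : Fintype.card F = 2 ^ n) (hn : 2 ≤ n)
    (D : AddSubgroup (Fin n → F)) (hD : Inv n D) (hsr : SemiReg n D) (t : Fin n) :
    D ≤ hyper n t ∨ line n t ≤ D :=
  le_hyper_or_line_le n hF hn (Nat.card D) D (le_refl _) hD hsr t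

/-- components of elements of `D` lie in `D` -/
theorem single_mem (hF : Fintype.card F = 2 ^ n) (hn : 2 ≤ n)
    (D : AddSubgroup (Fin n → F)) (hD : Inv n D) (hsr : SemiReg n D) (c : Fin n → F) (hc : c ∈ D)
    (t : Fin n) : Pi.single t (c t) ∈ D := by
  rcases hyper_or_line n hF hn D hD hsr t with h | h
  · have : c t = 0 := h hc
    rw [this, Pi.single_zero]
    exact D.zero_mem
  · exact h (single_mem_line n t (c t))

theorem line_le_of_inf_ne_bot (hF : Fintype.card F = 2 ^ n) (hn : 2 ≤ n)
    (D : AddSubgroup (Fin n → F)) (hD : Inv n D) (hsr : SemiReg n D) (t : Fin n)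
    (h : line n t ⊓ D ≠ ⊥) : line n t ≤ D := by
  rcases hyper_or_line n hF hn D hD hsr t with h' | h'
  · exfalso
    apply h
    rw [eq_bot_iff, ← line_inf_hyper n t]
    exact inf_le_inf_left _ h'
  · exact h'

/-! ### lines -/

theorem lin_single (t : Fin n) (a x : F) : lin n (Pi.single t a) x = a * x ^ 2 ^ (t : ℕ) := by
  classical
  rw [lin_apply, Finset.sum_eq_single t]
  · simp
  · intro s _ hs
    rw [Pi.single_apply, if_neg hs, zero_mul]
  · intro h
    exact absurd (Finset.mem_univ t) h

theorem lin_single_injective (t : Fin n) (a : F) (ha : a ≠ 0) :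
    Function.Injective (lin n (Pi.single t a)) := by
  rw [injective_iff_map_eq_zero]
  intro x hx
  rw [lin_single] at hx
  rcases mul_eq_zero.mp hx with h | h
  · exact absurd h ha
  · exact eq_zero_of_pow_eq_zero h

theorem lin_injective_of_mem_line (t : Fin n) (c : Fin n → F) (hc : c ∈ line n t) (hc0 : c ≠ 0) :
    Function.Injective (lin n c) := by
  rw [eq_single_of_mem_line n t c hc]
  apply lin_single_injective
  intro h
  apply hc0
  rw [eq_single_of_mem_line n t c hc, h, Pi.single_zero]

theorem card_line (t : Fin n) : Nat.card (line n t : AddSubgroup (Fin n → F)) = Fintype.card F := by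
  classical
  rw [← Nat.card_eq_fintype_card]
  apply Nat.card_congr
  refine ⟨fun c => c.1 t, fun a => ⟨Pi.single t a, single_mem_line n t a⟩, ?_, ?_⟩
  · intro c
    apply Subtype.ext
    exact (eq_single_of_mem_line n t c.1 c.2).symm
  · intro a
    simp

/-! ### fixed points -/

theorem fixed_trivial (hF : Fintype.card F = 2 ^ n) (t : ℕ) (ht : t + 1 < n)
    (u : F →+ F) (hu : ∀ c : F, c * (u c) ^ 2 ^ t = u c) : u = 0 := by
  classical
  by_contra hne
  obtain ⟨c₁, hc₁⟩ : ∃ c, u c ≠ 0 := by
    by_contra hcon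
    push Not at hcon
    apply hne
    ext x
    exact hcon x
  have h2 : (2 : F) = 0 := CharP.cast_eq_zero F 2
  have hneg : ∀ x : F, -x = x := by
    intro x
    have : x + x = 0 := by rw [← two_mul, h2, zero_mul]
    exact neg_eq_of_add_eq_zero_left this
  -- `u` is injective
  have hinj : Function.Injective u := by
    rw [injective_iff_map_eq_zero]
    intro m hm
    have e1 := hu c₁
    have e2 := hu (c₁ + m)
    rw [map_add, hm, add_zero] at e2
    have e3 : m * (u c₁) ^ 2 ^ t = 0 := by
      have : (c₁ + m) * u c₁ ^ 2 ^ t - c₁ * u c₁ ^ 2 ^ t = 0 := by rw [e1, e2, sub_self]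
      rw [← this]
      ring
    rcases mul_eq_zero.mp e3 with h | h
    · exact h
    · exact absurd (eq_zero_of_pow_eq_zero h) hc₁
  have hsurj : Function.Surjective u := Finite.surjective_of_injective hinj
  -- every element is a root of `X ^ 2 ^ (t + 1) - X`
  have hroot : ∀ r : F, r ^ 2 ^ (t + 1) = r := by
    intro r
    obtain ⟨c, hc⟩ := hsurj 1
    obtain ⟨c', hc'⟩ := hsurj r
    have e1 := hu c
    have e2 := hu c'
    have e3 := hu (c + c')
    rw [map_add, hc, hc'] at e3
    rw [hc, one_pow, mul_one] at e1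
    rw [hc'] at e2
    haveI : Fact (Nat.Prime 2) := ⟨Nat.prime_two⟩
    rw [add_pow_char_pow, one_pow, e1] at e3
    have e4 : c' = r ^ 2 ^ t := by
      have : (1 + c') * (1 + r ^ 2 ^ t) - (1 + r) = 0 := by rw [e3, sub_self]
      have h5 : c' + r ^ 2 ^ t = 0 := by
        have h6 : (1 + c') * (1 + r ^ 2 ^ t) - (1 + r) = c' + r ^ 2 ^ t + (c' * r ^ 2 ^ t - r) := by
          ring
        rw [h6, e2, sub_self, add_zero] at this
        exact this
      have := eq_neg_of_add_eq_zero_left h5
      rw [this, hneg]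
    rw [e4] at e2
    rw [pow_succ, pow_mul, sq]
    exact e2
  -- too many roots
  have hp : (Polynomial.X ^ 2 ^ (t + 1) - Polynomial.X : Polynomial F) = 0 := by
    apply Polynomial.eq_zero_of_natDegree_lt_card_of_eval_eq_zero
      (Polynomial.X ^ 2 ^ (t + 1) - Polynomial.X : Polynomial F) (f := (id : F → F))
      Function.injective_id
    · intro x
      simp only [id, Polynomial.eval_sub, Polynomial.eval_pow, Polynomial.eval_X]
      rw [hroot x, sub_self]
    · rw [hF]
      have h1 : (Polynomial.X ^ 2 ^ (t + 1) - Polynomial.X : Polynomial F).natDegree ≤ 2 ^ (t + 1) := by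
        apply (Polynomial.natDegree_sub_le _ _).trans
        rw [Polynomial.natDegree_X_pow, Polynomial.natDegree_X]
        apply max_le (le_refl _)
        exact Nat.one_le_two_pow
      have h2 : 2 ^ (t + 1) < 2 ^ n := Nat.pow_lt_pow_right (by norm_num) ht
      omega
  have hcoef := congrArg (fun p => Polynomial.coeff p (2 ^ (t + 1))) hp
  simp only [Polynomial.coeff_sub, Polynomial.coeff_X_pow, if_true, Polynomial.coeff_zero] at hcoef
  rw [Polynomial.coeff_X, if_neg] at hcoef
  · simp at hcoef
  · have : 2 ≤ 2 ^ (t + 1) := by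
      calc 2 = 2 ^ 1 := by norm_num
        _ ≤ 2 ^ (t + 1) := Nat.pow_le_pow_right (by norm_num) (by omega)
    omega

/-! ### alternating equivariant forms -/

/-- `lin` as an additive equivalence -/
def linHom : (Fin n → F) →+ (F →+ F) where
  toFun := lin n
  map_zero' := by
    ext x
    simp [lin_apply]
  map_add' := lin_add n

noncomputable def linEquiv (hF : Fintype.card F = 2 ^ n) : (Fin n → F) ≃+ (F →+ F) :=
  AddEquiv.ofBijective (linHom n) (lin_bijective n hF)

theorem linEquiv_apply (hF : Fintype.card F = 2 ^ n) (c : Fin n → F) :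
    linEquiv n hF c = lin n c := rfl

theorem lin_linEquiv_symm (hF : Fintype.card F = 2 ^ n) (φ : F →+ F) :
    lin n ((linEquiv n hF).symm φ) = φ := (linEquiv n hF).apply_symm_apply φ

theorem alt_trivial (hF : Fintype.card F = 2 ^ n) (hn : 2 ≤ n)
    (B : F →+ F →+ F) (halt : ∀ x, B x x = 0)
    (heq : ∀ κ : Fˣ, ∀ x y, B ((κ : F) * x) ((κ : F) * y) = (κ : F) * B x y) : B = 0 := by
  classical
  by_contra hB
  let c : F →+ (Fin n → F) := (linEquiv n hF).symm.toAddMonoidHom.comp B
  have hc : ∀ x, lin n (c x) = B x := fun x => lin_linEquiv_symm n hF (B x)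
  -- `c` is injective
  have hker : ∀ x, c x = 0 → x = 0 := by
    intro x₀ hx₀
    by_contra hx0
    apply hB
    have hBx₀ : B x₀ = 0 := by
      rw [← hc, hx₀]
      ext y
      simp [lin_apply]
    ext x y
    by_cases hx : x = 0
    · rw [hx]
      simp
    let κ : Fˣ := Units.mk0 (x / x₀) (div_ne_zero hx hx0)
    have h1 : x = (κ : F) * x₀ := by
      show x = x / x₀ * x₀
      field_simp
    have h2 : y = (κ : F) * (((κ⁻¹ : Fˣ) : F) * y) := by
      rw [← mul_assoc, ← Units.val_mul, mul_inv_cancel, Units.val_one, one_mul]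
    rw [h1, h2, heq, hBx₀]
    simp
  have hTc : ∀ κ : Fˣ, ∀ x, T n κ (c x) = c ((κ : F) * x) := by
    intro κ x
    apply lin_injective n hF
    ext y
    rw [lin_T, hc, hc]
    have h2 : y = (κ : F) * (((κ⁻¹ : Fˣ) : F) * y) := by
      rw [← mul_assoc, ← Units.val_mul, mul_inv_cancel, Units.val_one, one_mul]
    conv_rhs => rw [h2]
    rw [heq]
  have hD : Inv n c.range := by
    rintro κ _ ⟨x, rfl⟩
    exact ⟨(κ : F) * x, (hTc κ x).symm⟩
  have hsr : SemiReg n c.range := by
    rintro κ _ ⟨x, rfl⟩ hx0 hfix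
    rw [hTc] at hfix
    have h1 : c ((κ : F) * x - x) = 0 := by rw [map_sub, hfix, sub_self]
    have h2 := hker _ h1
    have hx : x ≠ 0 := by
      intro h
      apply hx0
      rw [h, map_zero]
    have h3 : ((κ : F) - 1) * x = 0 := by rw [sub_mul, one_mul]; exact h2
    rcases mul_eq_zero.mp h3 with h | h
    · apply Units.ext
      rw [Units.val_one]
      exact sub_eq_zero.mp h
    · exact absurd h hx
  have hne : c.range ≠ ⊥ := by
    intro h
    apply hB
    ext x y
    have : c x ∈ c.range := ⟨x, rfl⟩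
    rw [h, AddSubgroup.mem_bot] at this
    have h1 := hker x this
    rw [h1]
    simp
  obtain ⟨t, ht⟩ := exists_line_le n hF hn c.range hD hsr hne
  obtain ⟨x₁, hx₁⟩ := ht (single_mem_line n t (1 : F))
  have h1 : B x₁ x₁ = x₁ ^ 2 ^ (t : ℕ) := by
    rw [← hc, hx₁, lin_single, one_mul]
  rw [halt] at h1
  have h2 : x₁ = 0 := eq_zero_of_pow_eq_zero h1.symm
  rw [h2, map_zero] at hx₁
  have := congrFun hx₁ t
  simp at this

end Cfsg.Agent.Lib.Helper9_HigKey
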