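import Cfsg.Agent.Lib.Helper9_HigField
import Cfsg.Agent.Lib.Helper9_HigKey

/-!
# Endomorphisms of an elementary abelian two-group with a regular torus (helper9)

The facts about subgroups of `Z →* Z` (pointwise product) which are invariant under conjugation
by a commutative group `K` acting regularly on `Z ∖ {1}`, transported from the field picture.
-/

set_option autoImplicit false
set_option linter.unusedSectionVars false
set_option linter.style.haveILetI false
set_option linter.unusedSimpArgs false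
set_option linter.unusedVariables false

namespace Cfsg.Agent.Lib.Helper9_HigAlg

open Cfsg.Agent.Lib.Helper9_HigLP Cfsg.Agent.Lib.Helper9_HigLine Cfsg.Agent.Lib.Helper9_HigKey
open Cfsg.Agent.Lib.Helper9_HigField

universe u v

variable {Z : Type u} [CommGroup Z] {K : Type v} [CommGroup K]

/-- conjugation of an endomorphism by the action of `k` -/
def cj (ρ : K →* MulAut Z) (k : K) (ε : Z →* Z) : Z →* Z :=
  ((ρ k : Z ≃* Z) : Z →* Z).comp (ε.comp ((ρ k⁻¹ : Z ≃* Z) : Z →* Z))

theorem cj_apply (ρ : K →* MulAut Z) (k : K) (ε : Z →* Z) (z : Z) :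
    cj ρ k ε z = ρ k (ε (ρ k⁻¹ z)) := rfl

/-- invariance under conjugation -/
def InvD (ρ : K →* MulAut Z) (D : Subgroup (Z →* Z)) : Prop := ∀ k, ∀ ε ∈ D, cj ρ k ε ∈ D

/-- no non-identity element of `K` fixes a non-identity element of `D` -/
def SemiRegD (ρ : K →* MulAut Z) (D : Subgroup (Z →* Z)) : Prop :=
  ∀ k, ∀ ε ∈ D, ε ≠ 1 → cj ρ k ε = ε → k = 1

section Transport

variable {F : Type u} [Field F] [Fintype F] [CharP F 2] (e : Z ≃ F)
  (he : ∀ z z', e (z * z') = e z + e z')

include he

theorem e_one : e 1 = 0 := by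
  have := he 1 1
  rw [mul_one] at this
  exact left_eq_add.mp this

theorem e_symm_add (a b : F) : e.symm (a + b) = e.symm a * e.symm b := by
  apply e.injective
  rw [he, Equiv.apply_symm_apply, Equiv.apply_symm_apply, Equiv.apply_symm_apply]

theorem e_symm_zero : e.symm 0 = 1 := by
  apply e.injective
  rw [Equiv.apply_symm_apply, e_one e he]

/-- the additive map on `F` corresponding to an endomorphism of `Z` -/
def tr (ε : Z →* Z) : F →+ F where
  toFun a := e (ε (e.symm a))
  map_zero' := by rw [e_symm_zero e he, map_one, e_one e he]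
  map_add' a b := by rw [e_symm_add e he, map_mul, he]

theorem tr_apply (ε : Z →* Z) (a : F) : tr e he ε a = e (ε (e.symm a)) := rfl

/-- the endomorphism of `Z` corresponding to an additive map on `F` -/
def un (ψ : F →+ F) : Z →* Z where
  toFun z := e.symm (ψ (e z))
  map_one' := by rw [e_one e he, map_zero, e_symm_zero e he]
  map_mul' z z' := by rw [he, map_add, e_symm_add e he]

theorem un_apply (ψ : F →+ F) (z : Z) : un e he ψ z = e.symm (ψ (e z)) := rfl

theorem tr_un (ψ : F →+ F) : tr e he (un e he ψ) = ψ := by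
  ext a
  simp [tr_apply, un_apply]

theorem un_tr (ε : Z →* Z) : un e he (tr e he ε) = ε := by
  ext z
  simp [tr_apply, un_apply]

theorem tr_mul (ε ε' : Z →* Z) : tr e he (ε * ε') = tr e he ε + tr e he ε' := by
  ext a
  simp [tr_apply, he]

theorem tr_one : tr e he (1 : Z →* Z) = 0 := by
  ext a
  simp [tr_apply, e_one e he]

theorem tr_injective : Function.Injective (tr e he) := by
  intro ε ε' h
  rw [← un_tr e he ε, h, un_tr]

variable (n : ℕ) (hF : Fintype.card F = 2 ^ n)

include hF

/-- coordinates of an endomorphism -/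
noncomputable def co (ε : Z →* Z) : Fin n → F := (linEquiv n hF).symm (tr e he ε)

theorem lin_co (ε : Z →* Z) : lin n (co e he n hF ε) = tr e he ε :=
  lin_linEquiv_symm n hF _

/-- the endomorphism with given coordinates -/
def oc (c : Fin n → F) : Z →* Z := un e he (lin n c)

theorem co_oc (c : Fin n → F) : co e he n hF (oc e he n c) = c := by
  apply lin_injective n hF
  rw [lin_co, oc, tr_un]

theorem oc_co (ε : Z →* Z) : oc e he n (co e he n hF ε) = ε := by
  rw [oc, lin_co, un_tr]

theorem co_injective : Function.Injective (co e he n hF) := by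
  intro ε ε' h
  rw [← oc_co e he n hF ε, h, oc_co]

theorem co_mul (ε ε' : Z →* Z) : co e he n hF (ε * ε') = co e he n hF ε + co e he n hF ε' := by
  apply lin_injective n hF
  rw [lin_add, lin_co, lin_co, lin_co, tr_mul]

theorem co_one : co e he n hF (1 : Z →* Z) = 0 := by
  apply lin_injective n hF
  rw [lin_co, tr_one]
  ext x
  simp [lin_apply]

theorem co_inv (ε : Z →* Z) : co e he n hF ε⁻¹ = - co e he n hF ε := by
  have h := co_mul e he n hF ε ε⁻¹
  rw [mul_inv_cancel, co_one] at h
  exact (neg_eq_of_add_eq_zero_right h.symm).symm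

theorem co_eq_zero (ε : Z →* Z) : co e he n hF ε = 0 ↔ ε = 1 := by
  constructor
  · intro h
    apply co_injective e he n hF
    rw [h, co_one]
  · intro h
    rw [h, co_one]

theorem oc_add (c d : Fin n → F) : oc e he n (c + d) = oc e he n c * oc e he n d := by
  apply co_injective e he n hF
  rw [co_mul, co_oc, co_oc, co_oc]

theorem oc_zero : oc e he n (0 : Fin n → F) = 1 := by
  apply co_injective e he n hF
  rw [co_oc, co_one]

theorem oc_neg (c : Fin n → F) : oc e he n (-c) = (oc e he n c)⁻¹ := by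
  apply co_injective e he n hF
  rw [co_oc, co_inv, co_oc]

/-- the transported subgroup -/
def tD (D : Subgroup (Z →* Z)) : AddSubgroup (Fin n → F) where
  carrier := {c | oc e he n c ∈ D}
  zero_mem' := by
    show oc e he n 0 ∈ D
    rw [oc_zero e he n hF]
    exact D.one_mem
  add_mem' := by
    intro c d hc hd
    show oc e he n (c + d) ∈ D
    rw [oc_add e he n hF]
    exact D.mul_mem hc hd
  neg_mem' := by
    intro c hc
    show oc e he n (-c) ∈ D
    rw [oc_neg e he n hF]
    exact D.inv_mem hc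

theorem mem_tD (D : Subgroup (Z →* Z)) (c : Fin n → F) :
    c ∈ tD e he n hF D ↔ oc e he n c ∈ D := Iff.rfl

theorem co_mem_tD (D : Subgroup (Z →* Z)) (ε : Z →* Z) :
    co e he n hF ε ∈ tD e he n hF D ↔ ε ∈ D := by
  rw [mem_tD, oc_co]

/-- the lines -/
def Ln (i : Fin n) : Subgroup (Z →* Z) where
  carrier := {ε | co e he n hF ε ∈ line n i}
  one_mem' := by
    show co e he n hF 1 ∈ line n i
    rw [co_one]
    exact (line n i).zero_mem
  mul_mem' := by
    intro a b ha hb
    show co e he n hF (a * b) ∈ line n i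
    rw [co_mul]
    exact (line n i).add_mem ha hb
  inv_mem' := by
    intro a ha
    show co e he n hF a⁻¹ ∈ line n i
    rw [co_inv]
    exact (line n i).neg_mem ha

theorem mem_Ln (i : Fin n) (ε : Z →* Z) :
    ε ∈ Ln e he n hF i ↔ co e he n hF ε ∈ line n i := Iff.rfl

theorem oc_mem_Ln (i : Fin n) (c : Fin n → F) :
    oc e he n c ∈ Ln e he n hF i ↔ c ∈ line n i := by
  rw [mem_Ln, co_oc]

theorem injective_of_mem_Ln (i : Fin n) (ε : Z →* Z) (hε : ε ∈ Ln e he n hF i) (h1 : ε ≠ 1) :
    Function.Injective ε := by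
  have h0 : co e he n hF ε ≠ 0 := fun h => h1 ((co_eq_zero e he n hF ε).mp h)
  have hinj := lin_injective_of_mem_line n i _ hε h0
  rw [lin_co] at hinj
  intro z z' hzz'
  apply e.injective
  apply hinj
  rw [tr_apply, tr_apply, Equiv.symm_apply_apply, Equiv.symm_apply_apply, hzz']

theorem card_Ln (i : Fin n) : Nat.card (Ln e he n hF i) = Nat.card Z := by
  have h1 : Nat.card Z = Nat.card (line n i : AddSubgroup (Fin n → F)) := by
    rw [Nat.card_congr e, Nat.card_eq_fintype_card, card_line n i]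
  rw [h1]
  apply Nat.card_congr
  refine ⟨fun ε => ⟨co e he n hF ε.1, ε.2⟩, fun c => ⟨oc e he n c.1, (oc_mem_Ln e he n hF i c.1).mpr c.2⟩,
    ?_, ?_⟩
  · intro ε
    apply Subtype.ext
    exact oc_co e he n hF ε.1
  · intro c
    apply Subtype.ext
    exact co_oc e he n hF c.1

variable (ρ : K →* MulAut Z) (χ : K →* Fˣ) (hχ : Function.Surjective χ)
  (hact : ∀ k z, e (ρ k z) = ((χ k : Fˣ) : F) * e z)

include hact

theorem e_symm_act (k : K) (a : F) : e.symm (((χ k : Fˣ) : F) * a) = ρ k (e.symm a) := by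
  apply e.injective
  rw [hact, Equiv.apply_symm_apply, Equiv.apply_symm_apply]

theorem co_cj (k : K) (ε : Z →* Z) :
    co e he n hF (cj ρ k ε) = T n (χ k) (co e he n hF ε) := by
  apply lin_injective n hF
  ext x
  rw [lin_T, lin_co, lin_co, tr_apply, tr_apply, cj_apply, hact]
  have : e.symm ((((χ k)⁻¹ : Fˣ) : F) * x) = ρ k⁻¹ (e.symm x) := by
    rw [← map_inv]
    exact e_symm_act e he n hF ρ χ hact k⁻¹ x
  rw [this]

include hχ

theorem tD_inv (D : Subgroup (Z →* Z)) (hD : InvD ρ D) : Inv n (tD e he n hF D) := by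
  intro κ c hc
  obtain ⟨k, rfl⟩ := hχ κ
  have h1 : T n (χ k) c = co e he n hF (cj ρ k (oc e he n c)) := by
    rw [co_cj e he n hF ρ χ hact, co_oc]
  rw [h1, co_mem_tD]
  exact hD k _ hc

theorem tD_semiReg (D : Subgroup (Z →* Z)) (hD : SemiRegD ρ D) : SemiReg n (tD e he n hF D) := by
  intro κ c hc hc0 hfix
  obtain ⟨k, rfl⟩ := hχ κ
  have h1 : T n (χ k) c = co e he n hF (cj ρ k (oc e he n c)) := by
    rw [co_cj e he n hF ρ χ hact, co_oc]
  have h2 : cj ρ k (oc e he n c) = oc e he n c := by
    apply co_injective e he n hF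
    rw [← h1, hfix, co_oc]
  have h3 : oc e he n c ≠ 1 := by
    intro h
    apply hc0
    rw [← co_oc e he n hF c, h, co_one]
  rw [hD k _ hc h3 h2, map_one]

omit hχ hact in
theorem oc_sum {ι : Type*} (s : Finset ι) (f : ι → Fin n → F) :
    oc e he n (∑ i ∈ s, f i) = ∏ i ∈ s, oc e he n (f i) := by
  classical
  induction s using Finset.induction_on with
  | empty => simp [oc_zero e he n hF]
  | insert a s ha ih =>
    rw [Finset.sum_insert ha, Finset.prod_insert ha, oc_add e he n hF, ih]

end Transport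

variable [Finite Z]

/-- **Structure of invariant semiregular subgroups of endomorphisms.** -/
theorem exists_lines (ρ : K →* MulAut Z) (h : Reg ρ) (h4 : 4 ≤ Nat.card Z) :
    ∃ (n : ℕ) (L : Fin n → Subgroup (Z →* Z)) (i₀ : Fin n),
      (∀ i, ∀ ε ∈ L i, ε ≠ 1 → Function.Injective ε) ∧
      (∀ i, Nat.card (L i) = Nat.card Z) ∧
      (∀ i, i ≠ i₀ → ∀ u : L i →* Z, (∀ ε : L i, ε.1 (u ε) = u ε) → ∀ ε, u ε = 1) ∧
      (∀ D : Subgroup (Z →* Z), InvD ρ D → SemiRegD ρ D →
        (∀ i, L i ⊓ D ≠ ⊥ → L i ≤ D) ∧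
          (∀ ε ∈ D, ε ∈ Subgroup.closure {ε' | ε' ∈ D ∧ ∃ i, ε' ∈ L i})) := by
  classical
  obtain ⟨F, iF, iFt, iC, e, χ, hχ, he, hact⟩ := exists_field ρ h
  obtain ⟨n, -, hn⟩ := FiniteField.card F 2
  have hF : Fintype.card F = 2 ^ (n : ℕ) := hn
  have hn2 : 2 ≤ (n : ℕ) := by
    by_contra hcon
    have h1 : (n : ℕ) ≤ 1 := by omega
    have h2 : 2 ^ (n : ℕ) ≤ 2 ^ 1 := Nat.pow_le_pow_right (by norm_num) h1
    rw [Nat.card_congr e, Nat.card_eq_fintype_card, hF] at h4
    omega
  refine ⟨n, Ln e he n hF, ⟨(n : ℕ) - 1, by omega⟩, ?_, ?_, ?_, ?_⟩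
  · intro i ε hε h1
    exact injective_of_mem_Ln e he n hF i ε hε h1
  · intro i
    exact card_Ln e he n hF i
  · intro i hi u hu
    have hi1 : (i : ℕ) + 1 < n := by
      have h1 : (i : ℕ) ≠ (n : ℕ) - 1 := fun h => hi (Fin.ext h)
      have := i.2
      omega
    let el : F → Ln e he n hF i := fun a =>
      ⟨oc e he n (Pi.single i a), (oc_mem_Ln e he n hF i _).mpr (single_mem_line n i a)⟩
    have hel : ∀ a b, el (a + b) = el a * el b := by
      intro a b
      apply Subtype.ext
      show oc e he n (Pi.single i (a + b)) = oc e he n (Pi.single i a) * oc e he n (Pi.single i b)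
      rw [Pi.single_add, oc_add e he n hF]
    let u' : F →+ F := AddMonoidHom.mk' (fun a => e (u (el a))) (by
      intro a b
      show e (u (el (a + b))) = e (u (el a)) + e (u (el b))
      rw [hel, map_mul, he])
    have hu' : ∀ c : F, c * (u' c) ^ 2 ^ (i : ℕ) = u' c := by
      intro c
      have h1 := hu (el c)
      have h2 : e ((el c).1 (u (el c))) = c * (e (u (el c))) ^ 2 ^ (i : ℕ) := by
        show e (oc e he n (Pi.single i c) (u (el c))) = _
        rw [oc, un_apply, Equiv.apply_symm_apply, lin_single]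
      show c * (e (u (el c))) ^ 2 ^ (i : ℕ) = e (u (el c))
      rw [← h2, h1]
    have h0 := fixed_trivial n hF (i : ℕ) hi1 u' hu'
    intro ε
    have h1 : ε = el (co e he n hF ε.1 i) := by
      apply Subtype.ext
      show ε.1 = oc e he n (Pi.single i (co e he n hF ε.1 i))
      rw [← eq_single_of_mem_line n i _ ε.2, oc_co]
    have h2 : u' (co e he n hF ε.1 i) = 0 := by rw [h0]; rfl
    have h3 : e (u ε) = 0 := by
      rw [h1]
      exact h2
    apply e.injective
    rw [h3, e_one e he]
  · intro D hD hsr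
    have hDi := tD_inv e he n hF ρ χ hχ hact D hD
    have hDs := tD_semiReg e he n hF ρ χ hχ hact D hsr
    constructor
    · intro i hne
      obtain ⟨ε, hε, hε1⟩ : ∃ ε ∈ Ln e he n hF i ⊓ D, ε ≠ 1 := by
        by_contra hcon
        push Not at hcon
        apply hne
        rw [eq_bot_iff]
        intro ε hε
        rw [Subgroup.mem_bot]
        exact hcon ε hε
      have hl : line n i ⊓ tD e he n hF D ≠ ⊥ := by
        intro hbot
        have h1 : co e he n hF ε ∈ line n i ⊓ tD e he n hF D :=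
          ⟨hε.1, (co_mem_tD e he n hF D ε).mpr hε.2⟩
        rw [hbot, AddSubgroup.mem_bot] at h1
        exact hε1 ((co_eq_zero e he n hF ε).mp h1)
      have hle := line_le_of_inf_ne_bot n hF hn2 _ hDi hDs i hl
      intro ε' hε'
      exact (co_mem_tD e he n hF D ε').mp (hle hε')
    · intro ε hε
      have hc : co e he n hF ε ∈ tD e he n hF D := (co_mem_tD e he n hF D ε).mpr hε
      have h1 : ε = ∏ t : Fin n, oc e he n (Pi.single t (co e he n hF ε t)) := by
        rw [← oc_sum e he n hF, Finset.univ_sum_single, oc_co]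
      rw [h1]
      apply Subgroup.prod_mem
      intro t _
      apply Subgroup.subset_closure
      refine ⟨?_, t, ?_⟩
      · exact single_mem n hF hn2 _ hDi hDs _ hc t
      · exact (oc_mem_Ln e he n hF t _).mpr (single_mem_line n t _)

/-- an alternating biadditive equivariant map `Z × Z → Z` is trivial -/
theorem alt_trivial_Z (ρ : K →* MulAut Z) (h : Reg ρ) (h4 : 4 ≤ Nat.card Z) (B : Z → Z → Z)
    (hB1 : ∀ x x' y, B (x * x') y = B x y * B x' y)
    (hB2 : ∀ x y y', B x (y * y') = B x y * B x y')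
    (halt : ∀ x, B x x = 1) (heq : ∀ k x y, B (ρ k x) (ρ k y) = ρ k (B x y)) :
    ∀ x y, B x y = 1 := by
  classical
  obtain ⟨F, iF, iFt, iC, e, χ, hχ, he, hact⟩ := exists_field ρ h
  obtain ⟨n, -, hn⟩ := FiniteField.card F 2
  have hF : Fintype.card F = 2 ^ (n : ℕ) := hn
  have hn2 : 2 ≤ (n : ℕ) := by
    by_contra hcon
    have h1 : (n : ℕ) ≤ 1 := by omega
    have h2 : 2 ^ (n : ℕ) ≤ 2 ^ 1 := Nat.pow_le_pow_right (by norm_num) h1
    rw [Nat.card_congr e, Nat.card_eq_fintype_card, hF] at h4
    omega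
  let B' : F →+ F →+ F := AddMonoidHom.mk' (fun a => AddMonoidHom.mk'
    (fun b => e (B (e.symm a) (e.symm b))) (by
      intro b b'
      show e (B (e.symm a) (e.symm (b + b'))) = e (B (e.symm a) (e.symm b)) + e (B (e.symm a) (e.symm b'))
      rw [e_symm_add e he, hB2, he])) (by
      intro a a'
      ext b
      show e (B (e.symm (a + a')) (e.symm b)) = e (B (e.symm a) (e.symm b)) + e (B (e.symm a') (e.symm b))
      rw [e_symm_add e he, hB1, he])
  have hB'0 : B' = 0 := by
    apply alt_trivial n hF hn2 B'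
    · intro x
      show e (B (e.symm x) (e.symm x)) = 0
      rw [halt, e_one e he]
    · intro κ x y
      obtain ⟨k, rfl⟩ := hχ κ
      show e (B (e.symm (((χ k : Fˣ) : F) * x)) (e.symm (((χ k : Fˣ) : F) * y))) =
        ((χ k : Fˣ) : F) * e (B (e.symm x) (e.symm y))
      rw [e_symm_act e he n hF ρ χ hact, e_symm_act e he n hF ρ χ hact, heq, hact]
  intro x y
  have h1 : B' (e x) (e y) = e (B x y) := by
    show e (B (e.symm (e x)) (e.symm (e y))) = e (B x y)
    rw [Equiv.symm_apply_apply, Equiv.symm_apply_apply]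
  rw [hB'0] at h1
  apply e.injective
  rw [← h1, e_one e he]
  rfl

/-- the same through an equivariant surjection `π : M → Z` -/
theorem alt_trivial_of_surj (ρ : K →* MulAut Z) (h : Reg ρ) (h4 : 4 ≤ Nat.card Z)
    {M : Type*} [Group M] (ψ : K → M → M) (π : M →* Z) (hπ : Function.Surjective π)
    (hπeq : ∀ k x, π (ψ k x) = ρ k (π x)) (B : M → M → Z)
    (hB1 : ∀ x x' y, B (x * x') y = B x y * B x' y)
    (hB2 : ∀ x y y', B x (y * y') = B x y * B x y')
    (halt : ∀ x, B x x = 1) (heq : ∀ k x y, B (ψ k x) (ψ k y) = ρ k (B x y))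
    (hker : ∀ x y, π x = 1 → B x y = 1) : ∀ x y, B x y = 1 := by
  classical
  have hker2 : ∀ x m, π m = 1 → B x m = 1 := by
    intro x m hm
    have h1 := halt (x * m)
    rw [hB1, hB2, hB2, halt, halt, hker m x hm, one_mul, mul_one, mul_one] at h1
    exact h1
  have hc1 : ∀ x x' y, π x = π x' → B x y = B x' y := by
    intro x x' y hxx'
    have h1 : x = x' * (x'⁻¹ * x) := by group
    have h2 : π (x'⁻¹ * x) = 1 := by rw [map_mul, map_inv, hxx', inv_mul_cancel]
    rw [h1, hB1, hker _ y h2, mul_one]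
  have hc2 : ∀ x y y', π y = π y' → B x y = B x y' := by
    intro x y y' hyy'
    have h1 : y = y' * (y'⁻¹ * y) := by group
    have h2 : π (y'⁻¹ * y) = 1 := by rw [map_mul, map_inv, hyy', inv_mul_cancel]
    rw [h1, hB2, hker2 x _ h2, mul_one]
  let s : Z → M := Function.surjInv hπ
  have hs : ∀ z, π (s z) = z := Function.surjInv_eq hπ
  have hall := alt_trivial_Z ρ h h4 (fun z z' => B (s z) (s z'))
    (by
      intro x x' y
      show B (s (x * x')) (s y) = B (s x) (s y) * B (s x') (s y)
      rw [← hB1]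
      apply hc1
      rw [hs, map_mul, hs, hs])
    (by
      intro x y y'
      show B (s x) (s (y * y')) = B (s x) (s y) * B (s x) (s y')
      rw [← hB2]
      apply hc2
      rw [hs, map_mul, hs, hs])
    (fun x => halt (s x))
    (by
      intro k x y
      show B (s (ρ k x)) (s (ρ k y)) = ρ k (B (s x) (s y))
      rw [← heq]
      have h1 : π (s (ρ k x)) = π (ψ k (s x)) := by rw [hs, hπeq, hs]
      have h2 : π (s (ρ k y)) = π (ψ k (s y)) := by rw [hs, hπeq, hs]
      rw [hc1 _ _ _ h1, hc2 _ _ _ h2])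
  intro x y
  have h1 := hall (π x) (π y)
  have h2 : B (s (π x)) (s (π y)) = B x y := by
    rw [hc1 _ x _ (hs (π x)), hc2 _ _ y (hs (π y))]
  rw [← h2]
  exact h1

end Cfsg.Agent.Lib.Helper9_HigAlg
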