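import Cfsg.Agent.Lib.Helper9_HigA
import Cfsg.Agent.Lib.Helper9_HigAlg

/-!
# Higman's theorem: `W` abelian and central is impossible (helper9)
-/

set_option autoImplicit false
set_option linter.unusedSectionVars false
set_option linter.style.haveILetI false
set_option linter.unusedSimpArgs false
set_option linter.unusedVariables false

namespace Cfsg.Agent.Lib.Helper9_HigBase

open Cfsg.Agent.Lib.Helper9_HigAlg Cfsg.Agent.Lib.Helper9_HigField

universe u v

variable {K : Type v} [CommGroup K] {G : Type u} [Group G] {φ : K →* MulAut G}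

/-- when `W` is central it contains every element whose square is a central involution -/
theorem IsHig.mem_W_of_sq (h : IsHig φ) (hWc : ∀ w ∈ W G, ∀ g : G, w * g = g * w)
    (hWne : ∃ w ∈ W G, w ∉ Om G) (x : G) (hxx : x * x ∈ Om G) : x ∈ W G := by
  obtain ⟨w₀, hw₀, hw₀Z⟩ := hWne
  obtain ⟨w, hw, hw2⟩ := h.sq_surj (W G) h.W_inv w₀ hw₀ (W_sq hw₀) hw₀Z _ hxx
  obtain ⟨t, ht, hxt⟩ := h.eq_mul_of_sq_eq x w (hWc w hw x).symm hw2
  rw [hxt]
  exact (W G).mul_mem (Om_le_W ht) hw

/-- the quotient by the central involutions is again in the class when `W` is central -/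
theorem IsHig.quot (h : IsHig φ) (hWc : ∀ w ∈ W G, ∀ g : G, w * g = g * w)
    (hWne : ∃ w ∈ W G, w ∉ Om G) : IsHig (quotAut φ (Om G) h.Om_inv) where
  fin := by
    haveI := h.fin
    infer_instance
  pgroup := h.pgroup.to_quotient (Om G)
  ex := by
    obtain ⟨w₀, hw₀, hw₀Z⟩ := hWne
    refine ⟨(w₀ : G ⧸ Om G), ?_, ?_⟩
    · rwa [Ne, QuotientGroup.eq_one_iff]
    · rw [← QuotientGroup.mk_mul, QuotientGroup.eq_one_iff]
      exact W_sq hw₀
  reg := by
    intro x y
    induction x using QuotientGroup.induction_on with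
    | H x =>
    induction y using QuotientGroup.induction_on with
    | H y =>
    intro hx1 hx2 hy1 hy2
    rw [Ne, QuotientGroup.eq_one_iff] at hx1 hy1
    rw [← QuotientGroup.mk_mul, QuotientGroup.eq_one_iff] at hx2 hy2
    have hxW := h.mem_W_of_sq hWc hWne x hx2
    have hyW := h.mem_W_of_sq hWc hWne y hy2
    have hxx1 : x * x ≠ 1 := fun h0 => hx1 ((h.mem_Om_iff x).mpr h0)
    have hyy1 : y * y ≠ 1 := fun h0 => hy1 ((h.mem_Om_iff y).mpr h0)
    obtain ⟨k, hk, huniq⟩ := h.reg (x * x) (y * y) hxx1 (Om_sq hx2) hyy1 (Om_sq hy2)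
    refine ⟨k, ?_, ?_⟩
    · show quotAut φ (Om G) h.Om_inv k (x : G ⧸ Om G) = (y : G ⧸ Om G)
      rw [quotAut_mk, QuotientGroup.eq, h.mem_Om_iff]
      have hc : y * (φ k x)⁻¹ = (φ k x)⁻¹ * y := hWc y hyW _
      calc (φ k x)⁻¹ * y * ((φ k x)⁻¹ * y) = (φ k x)⁻¹ * (y * (φ k x)⁻¹) * y := by group
        _ = (φ k x)⁻¹ * ((φ k x)⁻¹ * y) * y := by rw [hc]
        _ = (φ k x * φ k x)⁻¹ * (y * y) := by group
        _ = 1 := by rw [← map_mul, hk]; group
    · intro k' hk'
      apply huniq
      have hk'' : quotAut φ (Om G) h.Om_inv k' (x : G ⧸ Om G) = (y : G ⧸ Om G) := hk'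
      rw [quotAut_mk, QuotientGroup.eq] at hk''
      have hc : y * (φ k' x)⁻¹ = (φ k' x)⁻¹ * y := hWc y hyW _
      have e1 : (φ k' x)⁻¹ * y * ((φ k' x)⁻¹ * y) = (φ k' (x * x))⁻¹ * (y * y) := by
        calc (φ k' x)⁻¹ * y * ((φ k' x)⁻¹ * y) = (φ k' x)⁻¹ * (y * (φ k' x)⁻¹) * y := by group
          _ = (φ k' x)⁻¹ * ((φ k' x)⁻¹ * y) * y := by rw [hc]
          _ = (φ k' x * φ k' x)⁻¹ * (y * y) := by group
          _ = (φ k' (x * x))⁻¹ * (y * y) := by rw [← map_mul]
      rw [Om_sq hk''] at e1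
      have : y * y = φ k' (x * x) * ((φ k' (x * x))⁻¹ * (y * y)) := by group
      rw [this, ← e1, mul_one]

/-- the order of the full preimage of a subgroup of a quotient -/
theorem card_comap_mk' [Finite G] (N : Subgroup G) [N.Normal] (H : Subgroup (G ⧸ N)) :
    Nat.card (H.comap (QuotientGroup.mk' N)) = Nat.card N * Nat.card H := by
  have h1 : (H.comap (QuotientGroup.mk' N)).index = H.index :=
    Subgroup.index_comap_of_surjective H (QuotientGroup.mk'_surjective N)
  have h2 := Subgroup.card_mul_index (H.comap (QuotientGroup.mk' N))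
  have h3 := Subgroup.card_mul_index H
  have h4 := Subgroup.card_eq_card_quotient_mul_card_subgroup N
  have hpos : 0 < H.index := Nat.pos_of_ne_zero Subgroup.index_ne_zero_of_finite
  rw [h1] at h2
  have h5 : Nat.card (H.comap (QuotientGroup.mk' N)) * H.index =
      (Nat.card N * Nat.card H) * H.index := by
    rw [h2, h4, ← h3]
    ring
  exact Nat.eq_of_mul_eq_mul_right hpos h5

theorem card_eq_ker_mul_range {H : Type*} [Group H] [Finite G] (f : G →* H) :
    Nat.card G = Nat.card f.ker * Nat.card f.range := by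
  rw [← Subgroup.index_ker, Subgroup.card_mul_index]

/-- **Case B2**: `W` abelian and central in a nonabelian group is impossible, given the theorem
for the quotient by the central involutions -/
theorem IsHig.caseB2 (h : IsHig φ) (hK : ∃ k : K, k ≠ 1)
    (hnab : ∃ a b : G, a * b ≠ b * a)
    (hWc : ∀ w ∈ W G, ∀ g : G, w * g = g * w)
    (hIH : (∀ a b : G ⧸ Om G, a * b = b * a) ∨ (∀ x : G ⧸ Om G, x * x ∈ Om (G ⧸ Om G))) :
    False := by
  classical
  haveI := h.fin
  obtain ⟨a₀, b₀, hab₀⟩ := hnab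
  have hneZ : ∃ x : G, x ∉ Om G := ⟨b₀, fun h0 => hab₀ (Om_comm h0 a₀)⟩
  have hWne := h.exists_W_not_mem hneZ
  have hmemW := h.mem_W_of_sq hWc hWne
  -- all commutators are central involutions
  have hcmZ : ∀ x y : G, cm x y ∈ Om G := by
    intro x y
    rcases hIH with hab | hsq
    · rw [← QuotientGroup.eq_one_iff, ← QuotientGroup.mk'_apply, map_cm, cm_eq_one_iff]
      exact hab _ _
    · have hsqW : ∀ g : G, g * g ∈ W G := fun g => by
        have := hsq (g : G ⧸ Om G)
        rw [← QuotientGroup.mk_mul] at this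
        exact this
      have hcW : cm x y ∈ W G := by
        rw [cm_eq_sq]
        have h1 : x⁻¹ * x⁻¹ ∈ W G := by
          have := (W G).inv_mem (hsqW x)
          rwa [mul_inv_rev] at this
        exact (W G).mul_mem ((W G).mul_mem h1 (hsqW _)) (hsqW y)
      rw [h.mem_Om_iff]
      have e1 : cm (x * x) y = cm x y * cm x y := by
        rw [cm_mul_left]
        have : x⁻¹ * cm x y * x = cm x y := by
          have e2 : x⁻¹ * cm x y * x = x⁻¹ * (cm x y * x) := by group
          rw [e2, hWc _ hcW x]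
          group
        rw [this]
      rw [← e1, cm_eq_one_iff]
      exact hWc _ (hsqW x) y
  -- squares are central
  have hsqc : ∀ x g : G, (x * x) * g = g * (x * x) := by
    intro x g
    rw [← cm_eq_one_iff, cm_mul_left_of_mem (hcmZ x g)]
    exact Om_sq (hcmZ x g)
  -- fourth powers
  have hpow4 : ∀ x y : G, (x * y) ^ 4 = x ^ 4 * y ^ 4 := by
    intro x y
    have e1 := mul_sq_of_mem (hcmZ y x)
    have hc := hcmZ y x
    have p4 : ∀ g : G, g ^ 4 = (g * g) * (g * g) := by
      intro g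
      rw [show (4 : ℕ) = 2 * 2 from rfl, pow_mul, pow_two, pow_two]
    rw [p4, p4, p4, e1]
    generalize cm y x = c at *
    have hcc : c * c = 1 := Om_sq hc
    calc x * x * (y * y) * c * (x * x * (y * y) * c)
        = x * x * (y * y) * (c * (x * x * (y * y))) * c := by group
      _ = x * x * (y * y) * ((x * x * (y * y)) * c) * c := by rw [Om_comm hc (x * x * (y * y))]
      _ = x * x * ((y * y) * (x * x * (y * y))) * (c * c) := by group
      _ = x * x * ((x * x * (y * y)) * (y * y)) * (c * c) := by rw [hsqc y (x * x * (y * y))]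
      _ = x * x * (x * x) * (y * y * (y * y)) := by rw [hcc]; group
  -- the least `f` with all `2 ^ f`-th powers central involutions
  haveI : Fact (Nat.Prime 2) := ⟨Nat.prime_two⟩
  have hex : ∃ f : ℕ, ∀ x : G, x ^ 2 ^ f ∈ Om G := by
    obtain ⟨b, hb⟩ := IsPGroup.iff_card.mp h.pgroup
    refine ⟨b, fun x => ?_⟩
    rw [← hb, pow_card_eq_one']
    exact (Om G).one_mem
  have hf0 : Nat.find hex ≠ 0 := by
    intro h0
    have := Nat.find_spec hex
    rw [h0] at this
    apply hab₀
    have hb := this b₀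
    rw [pow_zero, pow_one] at hb
    exact (Om_comm hb a₀)
  have hf1 : Nat.find hex ≠ 1 := by
    intro h1
    have := Nat.find_spec hex
    rw [h1] at this
    apply hab₀
    have hb := this b₀
    rw [pow_one, pow_two] at hb
    exact (hWc b₀ (hmemW b₀ hb) a₀).symm
  obtain ⟨f', hf'⟩ : ∃ f', Nat.find hex = f' + 2 := ⟨Nat.find hex - 2, by omega⟩
  have hf : ∀ x : G, x ^ 2 ^ (f' + 2) ∈ Om G := by
    rw [← hf']
    exact Nat.find_spec hex
  have hfmin : ¬ ∀ x : G, x ^ 2 ^ (f' + 1) ∈ Om G := by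
    have := Nat.find_min hex (m := f' + 1) (by omega)
    exact this
  have hpowf : ∀ x : G, x ^ 2 ^ (f' + 2) = (x ^ 4) ^ 2 ^ f' := by
    intro x
    rw [← pow_mul]
    congr 1
    rw [pow_add]
    ring
  have hp4c : ∀ x g : G, x ^ 4 * g = g * x ^ 4 := by
    intro x g
    rw [show (4 : ℕ) = 2 * 2 from rfl, pow_mul, pow_two, pow_two]
    calc x * x * (x * x) * g = x * x * ((x * x) * g) := by group
      _ = x * x * (g * (x * x)) := by rw [hsqc x g]
      _ = (x * x * g) * (x * x) := by group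
      _ = g * (x * x) * (x * x) := by rw [hsqc x g]
      _ = g * (x * x * (x * x)) := by group
  let π : G →* Om G := MonoidHom.mk' (fun x => ⟨x ^ 2 ^ (f' + 2), hf x⟩) (by
    intro x y
    apply Subtype.ext
    show (x * y) ^ 2 ^ (f' + 2) = x ^ 2 ^ (f' + 2) * y ^ 2 ^ (f' + 2)
    rw [hpowf, hpowf, hpowf, hpow4]
    have hcomm : Commute (x ^ 4) (y ^ 4) := hp4c x (y ^ 4)
    exact hcomm.mul_pow _)
  have hπ : ∀ x, (π x : G) = x ^ 2 ^ (f' + 2) := fun x => rfl
  let ρ := resAut φ (Om G) h.Om_inv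
  have hπeq : ∀ k x, π (φ k x) = ρ k (π x) := by
    intro k x
    apply Subtype.ext
    rw [hπ, resAut_apply, hπ, map_pow]
  have hπsurj : Function.Surjective π := by
    push Not at hfmin
    obtain ⟨x₀, hx₀⟩ := hfmin
    have hx₀1 : (π x₀ : G) ≠ 1 := by
      intro h0
      apply hx₀
      rw [h.mem_Om_iff, ← pow_two, ← pow_mul, ← pow_succ]
      rw [hπ] at h0
      exact h0
    intro z
    by_cases hz : z = 1
    · exact ⟨1, by rw [map_one, hz]⟩
    have hz1 : z.1 ≠ 1 := fun h0 => hz (Subtype.ext h0)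
    obtain ⟨k, hk, -⟩ := h.reg (π x₀ : G) z.1 hx₀1 (Om_sq (π x₀).2) hz1 (Om_sq z.2)
    refine ⟨φ k x₀, ?_⟩
    rw [hπeq]
    exact Subtype.ext hk
  -- the squaring homomorphism into the quotient
  let sqb : G →* G ⧸ Om G := MonoidHom.mk' (fun x => ((x * x : G) : G ⧸ Om G)) (by
    intro x y
    show ((x * y * (x * y) : G) : G ⧸ Om G) =
      ((x * x : G) : G ⧸ Om G) * ((y * y : G) : G ⧸ Om G)
    rw [← QuotientGroup.mk_mul, QuotientGroup.eq, mul_sq_of_mem (hcmZ y x)]
    have : (x * x * (y * y) * cm y x)⁻¹ * (x * x * (y * y)) = (cm y x)⁻¹ := by group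
    rw [this]
    exact (Om G).inv_mem (hcmZ y x))
  have hsqb : ∀ x, sqb x = ((x * x : G) : G ⧸ Om G) := fun x => rfl
  have hkersq : sqb.ker = W G := by
    ext x
    rw [MonoidHom.mem_ker, hsqb, QuotientGroup.eq_one_iff]
    exact ⟨hmemW x, W_sq⟩
  let S : Subgroup G := sqb.range.comap (QuotientGroup.mk' (Om G))
  have hSform : ∀ g ∈ S, ∃ x : G, ∃ t ∈ Om G, g = x * x * t := by
    intro g hg
    obtain ⟨x, hx⟩ : ∃ x, sqb x = (g : G ⧸ Om G) := hg
    rw [hsqb, QuotientGroup.eq] at hx
    exact ⟨x, _, hx, by group⟩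
  have hS_le : S ≤ π.ker := by
    intro g hg
    obtain ⟨x, t, ht, rfl⟩ := hSform g hg
    rw [MonoidHom.mem_ker, map_mul, map_mul]
    have h1 : π x * π x = 1 := Subtype.ext (Om_sq (π x).2)
    have h2 : π t = 1 := by
      apply Subtype.ext
      rw [hπ]
      show t ^ 2 ^ (f' + 1 + 1) = 1
      rw [pow_succ' 2 (f' + 1), pow_mul, pow_two, Om_sq ht, one_pow]
    rw [h1, h2, mul_one]
  have h4 : 4 ≤ Nat.card (Om G) := by
    obtain ⟨n, a, hn, hq, -, -⟩ := h.exists_exponents hK
    rw [hq]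
    calc 4 = 2 ^ 2 := by norm_num
      _ ≤ 2 ^ n := Nat.pow_le_pow_right (by norm_num) hn
  have hScard : Nat.card S = Nat.card π.ker := by
    have hG1 := card_eq_ker_mul_range sqb
    rw [hkersq] at hG1
    have hW : Nat.card (W G) = Nat.card (Om G) * Nat.card (Om (G ⧸ Om G)) :=
      card_comap_mk' (Om G) (Om (G ⧸ Om G))
    have hOmq := (h.quot hWc hWne).card_Om
    have hOm := h.card_Om
    have hS : Nat.card S = Nat.card (Om G) * Nat.card sqb.range := card_comap_mk' (Om G) sqb.range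
    have hG2 := card_eq_ker_mul_range π
    have hr : Nat.card π.range = Nat.card (Om G) := by
      rw [MonoidHom.range_eq_top.mpr hπsurj, Subgroup.card_top]
    rw [hr] at hG2
    rw [hW, hOmq, ← hOm] at hG1
    have hqpos : 0 < Nat.card (Om G) := by omega
    have h5 : Nat.card π.ker * Nat.card (Om G) = Nat.card S * Nat.card (Om G) := by
      rw [← hG2, hG1, hS]
      ring
    exact (Nat.eq_of_mul_eq_mul_right hqpos h5).symm
  have hSeq : S = π.ker := Subgroup.eq_of_le_of_card_ge hS_le (le_of_eq hScard.symm)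
  have hker : ∀ x, π x = 1 → ∀ y, cm x y = 1 := by
    intro x hx y
    have hxS : x ∈ S := by
      rw [hSeq]
      exact hx
    obtain ⟨g, t, ht, rfl⟩ := hSform x hxS
    rw [cm_eq_one_iff]
    calc g * g * t * y = g * g * (t * y) := by group
      _ = g * g * (y * t) := by rw [Om_comm ht y]
      _ = (g * g * y) * t := by group
      _ = (y * (g * g)) * t := by rw [hsqc g y]
      _ = y * (g * g * t) := by group
  have hall := alt_trivial_of_surj ρ h.regOm h4 (fun k => φ k) π hπsurj hπeq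
    (fun x y => ⟨cm x y, hcmZ x y⟩)
    (by intro x x' y; apply Subtype.ext; exact cm_mul_left_of_mem (hcmZ x y))
    (by intro x y y'; apply Subtype.ext; exact cm_mul_right_of_mem (hcmZ x y))
    (by intro x; apply Subtype.ext; exact cm_self x)
    (by
      intro k x y
      apply Subtype.ext
      show cm (φ k x) (φ k y) = φ k (cm x y)
      rw [h.cm_map])
    (by intro x y hx; apply Subtype.ext; exact hker x hx y)
  apply hab₀
  have := congrArg Subtype.val (hall a₀ b₀)
  exact (cm_eq_one_iff _ _).mp this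

end Cfsg.Agent.Lib.Helper9_HigBase
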