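import Cfsg.Agent.Lib.Helper76_ShPkgPf
import Cfsg.Agent.Lib.Helper9_HigB2

/-!
# Shult's theorem: `W` abelian and central is impossible (helper12, package SH-B2 of helper76)

Port of `Helper9_HigB2` to the class `Helper76_ShBase.IsSh`: transitivity of `K` on the involutions
is replaced by irreducibility (`IsSh.irr_sub`, `IsSh.sq_surj_ab`) and the vanishing of alternating
equivariant forms comes from `IsSh.altPkg`.
-/

set_option autoImplicit false
set_option linter.unusedSectionVars false
set_option linter.style.haveILetI false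
set_option linter.unusedSimpArgs false
set_option linter.unusedVariables false

namespace Cfsg.Agent.Lib.Helper12_ShB2

open Cfsg.Agent.Lib.Helper9_HigBase Cfsg.Agent.Lib.Helper76_ShPkg Cfsg.Agent.Lib.Helper76_ShBase

universe u v

variable {F : Type u} [Field F] [Fintype F] [CharP F 2]
variable {K : Type v} [CommGroup K] {G : Type u} [Group G]
variable {n d : ℕ} {lam : Fˣ} {χ : K →* Fˣ} {φ : K →* MulAut G} {e : G → F}

/-- when `W` is central its squares cover the central involutions -/
theorem sq_surj_W (h : IsSh n d lam χ φ e) (hWc : ∀ w ∈ W G, ∀ g : G, w * g = g * w)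
    (hWne : ∃ w ∈ W G, w ∉ Om G) : ∀ z ∈ Om G, ∃ w ∈ W G, w * w = z := by
  obtain ⟨w₀, hw₀, hw₀Z⟩ := hWne
  exact h.sq_surj_ab (W G) h.W_inv (fun a ha b _ => hWc a ha b) (fun x hx => W_sq hx) w₀ hw₀ hw₀Z

/-- when `W` is central it contains every element whose square is a central involution -/
theorem mem_W_of_sq (h : IsSh n d lam χ φ e) (hWc : ∀ w ∈ W G, ∀ g : G, w * g = g * w)
    (hWne : ∃ w ∈ W G, w ∉ Om G) (x : G) (hxx : x * x ∈ Om G) : x ∈ W G := by
  obtain ⟨w, hw, hw2⟩ := (sq_surj_W h) hWc hWne _ hxx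
  obtain ⟨t, ht, hxt⟩ := h.eq_mul_of_sq_eq x w (hWc w hw x).symm hw2
  rw [hxt]
  exact (W G).mul_mem (Om_le_W ht) hw

theorem mk_mem_Om_quot_iff (x : G) : (x : G ⧸ Om G) ∈ Om (G ⧸ Om G) ↔ x ∈ W G := Iff.rfl

theorem e_out_sq (e : G → F) (x : G) :
    e ((x : G ⧸ Om G).out * (x : G ⧸ Om G).out) = e (x * x) := by
  obtain ⟨t, ht⟩ := QuotientGroup.mk_out_eq_mul (Om G) x
  rw [ht]
  congr 1
  calc x * t.1 * (x * t.1) = x * (t.1 * x) * t.1 := by group
    _ = x * (x * t.1) * t.1 := by rw [Om_comm t.2 x]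
    _ = x * x * (t.1 * t.1) := by group
    _ = x * x := by rw [Om_sq t.2, mul_one]

/-- the quotient by the central involutions is again in the class when `W` is central -/
theorem quot (h : IsSh n d lam χ φ e) (hWc : ∀ w ∈ W G, ∀ g : G, w * g = g * w)
    (hWne : ∃ w ∈ W G, w ∉ Om G) :
    IsSh n d lam χ (quotAut φ (Om G) h.Om_inv) (fun q : G ⧸ Om G => e (q.out * q.out)) := by
  have hmulW : ∀ x ∈ W G, ∀ y : G, x * y * (x * y) = x * x * (y * y) := by
    intro x hx y
    calc x * y * (x * y) = x * (y * x) * y := by group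
      _ = x * (x * y) * y := by rw [← hWc x hx y]
      _ = x * x * (y * y) := by group
  exact
  { fin := by
      haveI := h.fin
      infer_instance
    pgroup := h.pgroup.to_quotient (Om G)
    cardF := h.cardF
    hn := h.hn
    hd := h.hd
    hlam := h.hlam
    irr := h.irr
    hχ := h.hχ
    hk0 := h.hk0
    invol := by
      intro q
      induction q using QuotientGroup.induction_on with
      | H x =>
        intro hx
        rw [← QuotientGroup.mk_mul, QuotientGroup.eq_one_iff] at hx
        have hxW := (mem_W_of_sq h) hWc hWne x hx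
        exact ((mk_mem_Om_quot_iff x).mpr hxW).1
    e_bij := by
      refine ⟨fun _ _ => Set.mem_univ _, ?_, ?_⟩
      · intro q hq q' hq' hqq'
        induction q using QuotientGroup.induction_on with
        | H x =>
        induction q' using QuotientGroup.induction_on with
        | H y =>
        have hx : x ∈ W G := hq
        have hy : y ∈ W G := hq'
        have h1 : e (x * x) = e (y * y) := by
          have := hqq'
          simp only [e_out_sq e] at this
          exact this
        have h2 : x * x = y * y := h.e_inj (W_sq hx) (W_sq hy) h1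
        obtain ⟨t, ht, hxt⟩ := h.eq_mul_of_sq_eq x y (hWc x hx y) h2.symm
        rw [QuotientGroup.eq, hxt]
        have : (t * y)⁻¹ * y = y⁻¹ * t⁻¹ * y := by group
        rw [this]
        have h3 : y⁻¹ * t⁻¹ * y = t⁻¹ := by
          have h4 : y * t⁻¹ = t⁻¹ * y := Om_comm ((Om G).inv_mem ht) y
          calc y⁻¹ * t⁻¹ * y = y⁻¹ * (t⁻¹ * y) := by group
            _ = y⁻¹ * (y * t⁻¹) := by rw [h4]
            _ = t⁻¹ := by group
        rw [h3]
        exact (Om G).inv_mem ht
      · intro a _
        obtain ⟨z, hz, hza⟩ := h.e_surj a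
        obtain ⟨w, hw, hwz⟩ := (sq_surj_W h) hWc hWne z hz
        refine ⟨(w : G ⧸ Om G), (mk_mem_Om_quot_iff w).mpr hw, ?_⟩
        show e ((w : G ⧸ Om G).out * (w : G ⧸ Om G).out) = a
        rw [e_out_sq e, hwz, hza]
    e_mul := by
      intro q hq q' hq'
      induction q using QuotientGroup.induction_on with
      | H x =>
      induction q' using QuotientGroup.induction_on with
      | H y =>
      have hx : x ∈ W G := hq
      have hy : y ∈ W G := hq'
      show e ((((x : G ⧸ Om G) * (y : G ⧸ Om G))).out * (((x : G ⧸ Om G) * (y : G ⧸ Om G))).out) =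
        e ((x : G ⧸ Om G).out * (x : G ⧸ Om G).out) + e ((y : G ⧸ Om G).out * (y : G ⧸ Om G).out)
      rw [← QuotientGroup.mk_mul, e_out_sq e, e_out_sq e, e_out_sq e, hmulW x hx y]
      exact h.e_mul _ (W_sq hx) _ (W_sq hy)
    act := by
      intro k q hq
      induction q using QuotientGroup.induction_on with
      | H x =>
      have hx : x ∈ W G := hq
      show e ((quotAut φ (Om G) h.Om_inv k (x : G ⧸ Om G)).out *
        (quotAut φ (Om G) h.Om_inv k (x : G ⧸ Om G)).out) =
        ((χ k : Fˣ) : F) * e ((x : G ⧸ Om G).out * (x : G ⧸ Om G).out)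
      rw [quotAut_mk, e_out_sq e, e_out_sq e, ← map_mul]
      exact h.act k _ (W_sq hx) }

/-! ### alternating forms on the central involutions -/

/-- the identification of the central involutions with the field -/
noncomputable def eO (h : IsSh n d lam χ φ e) : Om G ≃ F :=
  Equiv.ofBijective (fun z : Om G => e z.1) ⟨fun x y hxy => Subtype.ext (h.e_inj x.2 y.2 hxy),
    fun a => by
      obtain ⟨z, hz, hza⟩ := h.e_surj a
      exact ⟨⟨z, hz⟩, hza⟩⟩

theorem eO_apply (h : IsSh n d lam χ φ e) (z : Om G) : (eO h) z = e z.1 := rfl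

theorem eO_mul (h : IsSh n d lam χ φ e) (x y : Om G) : (eO h) (x * y) = (eO h) x + (eO h) y :=
  h.e_mul x.1 x.2 y.1 y.2

theorem eO_one (h : IsSh n d lam χ φ e) : (eO h) 1 = 0 := h.e_one

theorem eO_symm_add (h : IsSh n d lam χ φ e) (a b : F) :
    (eO h).symm (a + b) = (eO h).symm a * (eO h).symm b := by
  apply (eO h).injective
  rw [Equiv.apply_symm_apply, (eO_mul h), Equiv.apply_symm_apply, Equiv.apply_symm_apply]

theorem eO_act (h : IsSh n d lam χ φ e) (k : K) (z : Om G) :
    (eO h) (resAut φ (Om G) h.Om_inv k z) = ((χ k : Fˣ) : F) * (eO h) z :=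
  h.act k z.1 z.2

/-- an alternating biadditive equivariant map on the central involutions is trivial -/
theorem alt_trivial_Om (h : IsSh n d lam χ φ e) (B : Om G → Om G → Om G)
    (hB1 : ∀ x x' y, B (x * x') y = B x y * B x' y)
    (hB2 : ∀ x y y', B x (y * y') = B x y * B x y')
    (halt : ∀ x, B x x = 1)
    (heq : ∀ k x y, B (resAut φ (Om G) h.Om_inv k x) (resAut φ (Om G) h.Om_inv k y) =
      resAut φ (Om G) h.Om_inv k (B x y)) :
    ∀ x y, B x y = 1 := by
  classical
  obtain ⟨k₀, hk₀⟩ := h.hk0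
  let B' : F →+ F →+ F := AddMonoidHom.mk' (fun a => AddMonoidHom.mk'
    (fun b => (eO h) (B ((eO h).symm a) ((eO h).symm b))) (by
      intro b b'
      show (eO h) (B ((eO h).symm a) ((eO h).symm (b + b'))) =
        (eO h) (B ((eO h).symm a) ((eO h).symm b)) + (eO h) (B ((eO h).symm a) ((eO h).symm b'))
      rw [(eO_symm_add h), hB2, (eO_mul h)])) (by
      intro a a'
      ext b
      show (eO h) (B ((eO h).symm (a + a')) ((eO h).symm b)) =
        (eO h) (B ((eO h).symm a) ((eO h).symm b)) + (eO h) (B ((eO h).symm a') ((eO h).symm b))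
      rw [(eO_symm_add h), hB1, (eO_mul h)])
  have hsymm_act : ∀ a : F, (eO h).symm ((lam : F) * a) =
      resAut φ (Om G) h.Om_inv k₀ ((eO h).symm a) := by
    intro a
    apply (eO h).injective
    rw [Equiv.apply_symm_apply, (eO_act h), Equiv.apply_symm_apply, hk₀]
  have hB'0 : B' = 0 := by
    apply h.altPkg B'
    · intro x
      show (eO h) (B ((eO h).symm x) ((eO h).symm x)) = 0
      rw [halt, (eO_one h)]
    · intro x y
      show (eO h) (B ((eO h).symm ((lam : F) * x)) ((eO h).symm ((lam : F) * y))) =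
        (lam : F) * (eO h) (B ((eO h).symm x) ((eO h).symm y))
      rw [hsymm_act, hsymm_act, heq, (eO_act h), hk₀]
  intro x y
  have h1 : B' ((eO h) x) ((eO h) y) = (eO h) (B x y) := by
    show (eO h) (B ((eO h).symm ((eO h) x)) ((eO h).symm ((eO h) y))) = (eO h) (B x y)
    rw [Equiv.symm_apply_apply, Equiv.symm_apply_apply]
  rw [hB'0] at h1
  apply (eO h).injective
  rw [← h1, (eO_one h)]
  rfl

/-- the same through an equivariant surjection `π : M → Om G` -/
theorem alt_trivial_of_surj (h : IsSh n d lam χ φ e)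
    {M : Type*} [Group M] (ψ : K → M → M) (π : M →* Om G) (hπ : Function.Surjective π)
    (hπeq : ∀ k x, π (ψ k x) = resAut φ (Om G) h.Om_inv k (π x)) (B : M → M → Om G)
    (hB1 : ∀ x x' y, B (x * x') y = B x y * B x' y)
    (hB2 : ∀ x y y', B x (y * y') = B x y * B x y')
    (halt : ∀ x, B x x = 1)
    (heq : ∀ k x y, B (ψ k x) (ψ k y) = resAut φ (Om G) h.Om_inv k (B x y))
    (hker : ∀ x y, π x = 1 → B x y = 1) : ∀ x y, B x y = 1 := by
  classical
  have hker2 : ∀ x m, π m = 1 → B x m = 1 := by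
    intro x m hm
    have h1 := halt (x * m)
    rw [hB1, hB2, hB2, halt, halt, hker m x hm, one_mul, mul_one, mul_one] at h1
    exact h1
  have hc1 : ∀ x x' y, π x = π x' → B x y = B x' y := by
    intro x x' y hxx'
    have h1 : x = x' * (x'⁻¹ * x) := by group
    have h2 : π (x'⁻¹ * x) = 1 := by rw [map_mul, map_inv, hxx', inv_mul_cancel]
    rw [h1, hB1, hker _ y h2, mul_one]
  have hc2 : ∀ x y y', π y = π y' → B x y = B x y' := by
    intro x y y' hyy'
    have h1 : y = y' * (y'⁻¹ * y) := by group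
    have h2 : π (y'⁻¹ * y) = 1 := by rw [map_mul, map_inv, hyy', inv_mul_cancel]
    rw [h1, hB2, hker2 x _ h2, mul_one]
  let s : Om G → M := Function.surjInv hπ
  have hs : ∀ z, π (s z) = z := Function.surjInv_eq hπ
  have hall := (alt_trivial_Om h) (fun z z' => B (s z) (s z'))
    (by
      intro x x' y
      show B (s (x * x')) (s y) = B (s x) (s y) * B (s x') (s y)
      rw [← hB1]
      apply hc1
      rw [hs, map_mul, hs, hs])
    (by
      intro x y y'
      show B (s x) (s (y * y')) = B (s x) (s y) * B (s x) (s y')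
      rw [← hB2]
      apply hc2
      rw [hs, map_mul, hs, hs])
    (fun x => halt (s x))
    (by
      intro k x y
      show B (s (resAut φ (Om G) h.Om_inv k x)) (s (resAut φ (Om G) h.Om_inv k y)) =
        resAut φ (Om G) h.Om_inv k (B (s x) (s y))
      rw [← heq]
      have h1 : π (s (resAut φ (Om G) h.Om_inv k x)) = π (ψ k (s x)) := by rw [hs, hπeq, hs]
      have h2 : π (s (resAut φ (Om G) h.Om_inv k y)) = π (ψ k (s y)) := by rw [hs, hπeq, hs]
      rw [hc1 _ _ _ h1, hc2 _ _ _ h2])
  intro x y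
  have h1 := hall (π x) (π y)
  have h2 : B (s (π x)) (s (π y)) = B x y := by
    rw [hc1 _ x _ (hs (π x)), hc2 _ _ y (hs (π y))]
  rw [← h2]
  exact h1

/-- **Case B2**: `W` abelian and central in a nonabelian group is impossible, given the theorem
for the quotient by the central involutions -/
theorem caseB2 (h : IsSh n d lam χ φ e)
    (hnab : ∃ a b : G, a * b ≠ b * a)
    (hWc : ∀ w ∈ W G, ∀ g : G, w * g = g * w)
    (hIH : (∀ a b : G ⧸ Om G, a * b = b * a) ∨ (∀ x : G ⧸ Om G, x * x ∈ Om (G ⧸ Om G))) :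
    False := by
  classical
  haveI := h.fin
  obtain ⟨a₀, b₀, hab₀⟩ := hnab
  have hneZ : ∃ x : G, x ∉ Om G := ⟨b₀, fun h0 => hab₀ (Om_comm h0 a₀)⟩
  have hWne := h.exists_W_not_mem hneZ
  have hmemW := (mem_W_of_sq h) hWc hWne
  -- all commutators are central involutions
  have hcmZ : ∀ x y : G, cm x y ∈ Om G := by
    intro x y
    rcases hIH with hab | hsq
    · rw [← QuotientGroup.eq_one_iff, ← QuotientGroup.mk'_apply, map_cm, cm_eq_one_iff]
      exact hab _ _
    · have hsqW : ∀ g : G, g * g ∈ W G := fun g => by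
        have := hsq (g : G ⧸ Om G)
        rw [← QuotientGroup.mk_mul] at this
        exact this
      have hcW : cm x y ∈ W G := by
        rw [cm_eq_sq]
        have h1 : x⁻¹ * x⁻¹ ∈ W G := by
          have := (W G).inv_mem (hsqW x)
          rwa [mul_inv_rev] at this
        exact (W G).mul_mem ((W G).mul_mem h1 (hsqW _)) (hsqW y)
      rw [h.mem_Om_iff]
      have e1 : cm (x * x) y = cm x y * cm x y := by
        rw [cm_mul_left]
        have : x⁻¹ * cm x y * x = cm x y := by
          have e2 : x⁻¹ * cm x y * x = x⁻¹ * (cm x y * x) := by group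
          rw [e2, hWc _ hcW x]
          group
        rw [this]
      rw [← e1, cm_eq_one_iff]
      exact hWc _ (hsqW x) y
  -- squares are central
  have hsqc : ∀ x g : G, (x * x) * g = g * (x * x) := by
    intro x g
    rw [← cm_eq_one_iff, cm_mul_left_of_mem (hcmZ x g)]
    exact Om_sq (hcmZ x g)
  -- fourth powers
  have hpow4 : ∀ x y : G, (x * y) ^ 4 = x ^ 4 * y ^ 4 := by
    intro x y
    have e1 := mul_sq_of_mem (hcmZ y x)
    have hc := hcmZ y x
    have p4 : ∀ g : G, g ^ 4 = (g * g) * (g * g) := by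
      intro g
      rw [show (4 : ℕ) = 2 * 2 from rfl, pow_mul, pow_two, pow_two]
    rw [p4, p4, p4, e1]
    generalize cm y x = c at *
    have hcc : c * c = 1 := Om_sq hc
    calc x * x * (y * y) * c * (x * x * (y * y) * c)
        = x * x * (y * y) * (c * (x * x * (y * y))) * c := by group
      _ = x * x * (y * y) * ((x * x * (y * y)) * c) * c := by rw [Om_comm hc (x * x * (y * y))]
      _ = x * x * ((y * y) * (x * x * (y * y))) * (c * c) := by group
      _ = x * x * ((x * x * (y * y)) * (y * y)) * (c * c) := by rw [hsqc y (x * x * (y * y))]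
      _ = x * x * (x * x) * (y * y * (y * y)) := by rw [hcc]; group
  -- the least `f` with all `2 ^ f`-th powers central involutions
  haveI : Fact (Nat.Prime 2) := ⟨Nat.prime_two⟩
  have hex : ∃ f : ℕ, ∀ x : G, x ^ 2 ^ f ∈ Om G := by
    obtain ⟨b, hb⟩ := IsPGroup.iff_card.mp h.pgroup
    refine ⟨b, fun x => ?_⟩
    rw [← hb, pow_card_eq_one']
    exact (Om G).one_mem
  have hf0 : Nat.find hex ≠ 0 := by
    intro h0
    have := Nat.find_spec hex
    rw [h0] at this
    apply hab₀
    have hb := this b₀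
    rw [pow_zero, pow_one] at hb
    exact (Om_comm hb a₀)
  have hf1 : Nat.find hex ≠ 1 := by
    intro h1
    have := Nat.find_spec hex
    rw [h1] at this
    apply hab₀
    have hb := this b₀
    rw [pow_one, pow_two] at hb
    exact (hWc b₀ (hmemW b₀ hb) a₀).symm
  obtain ⟨f', hf'⟩ : ∃ f', Nat.find hex = f' + 2 := ⟨Nat.find hex - 2, by omega⟩
  have hf : ∀ x : G, x ^ 2 ^ (f' + 2) ∈ Om G := by
    rw [← hf']
    exact Nat.find_spec hex
  have hfmin : ¬ ∀ x : G, x ^ 2 ^ (f' + 1) ∈ Om G := by
    have := Nat.find_min hex (m := f' + 1) (by omega)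
    exact this
  have hpowf : ∀ x : G, x ^ 2 ^ (f' + 2) = (x ^ 4) ^ 2 ^ f' := by
    intro x
    rw [← pow_mul]
    congr 1
    rw [pow_add]
    ring
  have hp4c : ∀ x g : G, x ^ 4 * g = g * x ^ 4 := by
    intro x g
    rw [show (4 : ℕ) = 2 * 2 from rfl, pow_mul, pow_two, pow_two]
    calc x * x * (x * x) * g = x * x * ((x * x) * g) := by group
      _ = x * x * (g * (x * x)) := by rw [hsqc x g]
      _ = (x * x * g) * (x * x) := by group
      _ = g * (x * x) * (x * x) := by rw [hsqc x g]
      _ = g * (x * x * (x * x)) := by group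
  let π : G →* Om G := MonoidHom.mk' (fun x => ⟨x ^ 2 ^ (f' + 2), hf x⟩) (by
    intro x y
    apply Subtype.ext
    show (x * y) ^ 2 ^ (f' + 2) = x ^ 2 ^ (f' + 2) * y ^ 2 ^ (f' + 2)
    rw [hpowf, hpowf, hpowf, hpow4]
    have hcomm : Commute (x ^ 4) (y ^ 4) := hp4c x (y ^ 4)
    exact hcomm.mul_pow _)
  have hπ : ∀ x, (π x : G) = x ^ 2 ^ (f' + 2) := fun x => rfl
  let ρ := resAut φ (Om G) h.Om_inv
  have hπeq : ∀ k x, π (φ k x) = ρ k (π x) := by
    intro k x
    apply Subtype.ext
    rw [hπ, resAut_apply, hπ, map_pow]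
  have hπsurj : Function.Surjective π := by
    push Not at hfmin
    obtain ⟨x₀, hx₀⟩ := hfmin
    have hx₀1 : (π x₀ : G) ≠ 1 := by
      intro h0
      apply hx₀
      rw [h.mem_Om_iff, ← pow_two, ← pow_mul, ← pow_succ]
      rw [hπ] at h0
      exact h0
    let S' : Subgroup G := π.range.map (Om G).subtype
    have hS'mem : ∀ z : G, z ∈ S' ↔ ∃ g : G, (π g : G) = z := by
      intro z
      constructor
      · rintro ⟨_, ⟨g, rfl⟩, rfl⟩
        exact ⟨g, rfl⟩
      · rintro ⟨g, rfl⟩
        exact ⟨π g, ⟨g, rfl⟩, rfl⟩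
    have hle : Om G ≤ S' := by
      apply h.irr_sub S'
      · intro z hz
        obtain ⟨g, rfl⟩ := (hS'mem z).mp hz
        exact (π g).2
      · intro k z hz
        obtain ⟨g, rfl⟩ := (hS'mem z).mp hz
        rw [hS'mem]
        refine ⟨φ k g, ?_⟩
        rw [hπeq]
        rfl
      · exact ⟨(π x₀ : G), (hS'mem _).mpr ⟨x₀, rfl⟩, hx₀1⟩
    intro z
    obtain ⟨g, hg⟩ := (hS'mem z.1).mp (hle z.2)
    exact ⟨g, Subtype.ext hg⟩
  -- the squaring homomorphism into the quotient
  let sqb : G →* G ⧸ Om G := MonoidHom.mk' (fun x => ((x * x : G) : G ⧸ Om G)) (by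
    intro x y
    show ((x * y * (x * y) : G) : G ⧸ Om G) =
      ((x * x : G) : G ⧸ Om G) * ((y * y : G) : G ⧸ Om G)
    rw [← QuotientGroup.mk_mul, QuotientGroup.eq, mul_sq_of_mem (hcmZ y x)]
    have : (x * x * (y * y) * cm y x)⁻¹ * (x * x * (y * y)) = (cm y x)⁻¹ := by group
    rw [this]
    exact (Om G).inv_mem (hcmZ y x))
  have hsqb : ∀ x, sqb x = ((x * x : G) : G ⧸ Om G) := fun x => rfl
  have hkersq : sqb.ker = W G := by
    ext x
    rw [MonoidHom.mem_ker, hsqb, QuotientGroup.eq_one_iff]
    exact ⟨hmemW x, W_sq⟩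
  let S : Subgroup G := sqb.range.comap (QuotientGroup.mk' (Om G))
  have hSform : ∀ g ∈ S, ∃ x : G, ∃ t ∈ Om G, g = x * x * t := by
    intro g hg
    obtain ⟨x, hx⟩ : ∃ x, sqb x = (g : G ⧸ Om G) := hg
    rw [hsqb, QuotientGroup.eq] at hx
    exact ⟨x, _, hx, by group⟩
  have hS_le : S ≤ π.ker := by
    intro g hg
    obtain ⟨x, t, ht, rfl⟩ := hSform g hg
    rw [MonoidHom.mem_ker, map_mul, map_mul]
    have h1 : π x * π x = 1 := Subtype.ext (Om_sq (π x).2)
    have h2 : π t = 1 := by
      apply Subtype.ext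
      rw [hπ]
      show t ^ 2 ^ (f' + 1 + 1) = 1
      rw [pow_succ' 2 (f' + 1), pow_mul, pow_two, Om_sq ht, one_pow]
    rw [h1, h2, mul_one]
  have hScard : Nat.card S = Nat.card π.ker := by
    have hG1 := card_eq_ker_mul_range sqb
    rw [hkersq] at hG1
    have hW : Nat.card (W G) = Nat.card (Om G) * Nat.card (Om (G ⧸ Om G)) :=
      card_comap_mk' (Om G) (Om (G ⧸ Om G))
    have hOmq := ((quot h) hWc hWne).card_Om
    have hOm := h.card_Om
    have hS : Nat.card S = Nat.card (Om G) * Nat.card sqb.range := card_comap_mk' (Om G) sqb.range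
    have hG2 := card_eq_ker_mul_range π
    have hr : Nat.card π.range = Nat.card (Om G) := by
      rw [MonoidHom.range_eq_top.mpr hπsurj, Subgroup.card_top]
    rw [hr] at hG2
    rw [hW, hOmq, ← hOm] at hG1
    have hqpos : 0 < Nat.card (Om G) := Nat.card_pos
    have h5 : Nat.card π.ker * Nat.card (Om G) = Nat.card S * Nat.card (Om G) := by
      rw [← hG2, hG1, hS]
      ring
    exact (Nat.eq_of_mul_eq_mul_right hqpos h5).symm
  have hSeq : S = π.ker := Subgroup.eq_of_le_of_card_ge hS_le (le_of_eq hScard.symm)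
  have hker : ∀ x, π x = 1 → ∀ y, cm x y = 1 := by
    intro x hx y
    have hxS : x ∈ S := by
      rw [hSeq]
      exact hx
    obtain ⟨g, t, ht, rfl⟩ := hSform x hxS
    rw [cm_eq_one_iff]
    calc g * g * t * y = g * g * (t * y) := by group
      _ = g * g * (y * t) := by rw [Om_comm ht y]
      _ = (g * g * y) * t := by group
      _ = (y * (g * g)) * t := by rw [hsqc g y]
      _ = y * (g * g * t) := by group
  have hall := (alt_trivial_of_surj h) (fun k => φ k) π hπsurj hπeq
    (fun x y => ⟨cm x y, hcmZ x y⟩)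
    (by intro x x' y; apply Subtype.ext; exact cm_mul_left_of_mem (hcmZ x y))
    (by intro x y y'; apply Subtype.ext; exact cm_mul_right_of_mem (hcmZ x y))
    (by intro x; apply Subtype.ext; exact cm_self x)
    (by
      intro k x y
      apply Subtype.ext
      show cm (φ k x) (φ k y) = φ k (cm x y)
      rw [h.cm_map])
    (by intro x y hx; apply Subtype.ext; exact hker x hx y)
  apply hab₀
  have := congrArg Subtype.val (hall a₀ b₀)
  exact (cm_eq_one_iff _ _).mp this

end Cfsg.Agent.Lib.Helper12_ShB2
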