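import Cfsg.Prelude.Def_Perm
import Cfsg.Agent.Lib.Helper12_Sharp2
import Mathlib.Algebra.Group.MinimalAxioms

/-!
The near-field of a finite sharply doubly transitive group.
-/

set_option autoImplicit false

namespace Cfsg.Agent.Lib.Helper12_Sharp2NF

open MulAction Cfsg Cfsg.Agent.Lib.Helper12_Sharp2

variable {G α : Type*} [Group G] [MulAction G α]

/-- Coordinate data of a sharply 2-transitive group with regular normal abelian subgroup `N`:
base points `o ≠ e`, translations `τ a ∈ N` with `τ a • o = a`, and dilations `μ a` fixing `o`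
with `μ a • e = a`. -/
structure Coord (G α : Type*) [Group G] [MulAction G α] where
  N : Subgroup G
  o : α
  e : α
  hoe : o ≠ e
  τ : α → G
  μ : α → G
  hnorm : N.Normal
  hcomm : ∀ x ∈ N, ∀ y ∈ N, x * y = y * x
  hτN : ∀ a, τ a ∈ N
  hτ : ∀ a, τ a • o = a
  hτu : ∀ g ∈ N, ∀ a, g • o = a → g = τ a
  hμo : ∀ a, a ≠ o → μ a • o = o
  hμ : ∀ a, a ≠ o → μ a • e = a
  hμu : ∀ (g : G) (a : α), g • o = o → g • e = a → g = μ a
  hfaith : ∀ g : G, (∀ x : α, g • x = x) → g = 1

namespace Coord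

variable (C : Coord G α)

theorem τ_o : C.τ C.o = 1 := (C.hτu 1 C.N.one_mem C.o (one_smul _ _)).symm

theorem τ_smul (a b : α) : C.τ (C.τ b • a) = C.τ b * C.τ a := by
  symm
  apply C.hτu _ (C.N.mul_mem (C.hτN b) (C.hτN a))
  rw [mul_smul, C.hτ]

theorem τ_comm (a b : α) : C.τ a • b = C.τ b • a := by
  have h := C.hcomm _ (C.hτN a) _ (C.hτN b)
  have := congrArg (fun g : G => g • C.o) h
  simpa [mul_smul, C.hτ] using this

theorem ne_o_of_fix {g : G} (hg : g • C.o = C.o) {a : α} (ha : a ≠ C.o) : g • a ≠ C.o := by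
  intro h
  apply ha
  rw [← hg] at h
  exact smul_left_cancel g h

theorem μ_e : C.μ C.e = 1 := (C.hμu 1 C.e (one_smul _ _) (one_smul _ _)).symm

theorem μ_smul {a b : α} (ha : a ≠ C.o) (hb : b ≠ C.o) : C.μ (C.μ b • a) = C.μ b * C.μ a := by
  symm
  apply C.hμu
  · rw [mul_smul, C.hμo a ha, C.hμo b hb]
  · rw [mul_smul, C.hμ a ha]

/-- dilations normalize translations -/
theorem μ_τ {c : α} (hc : c ≠ C.o) (a : α) :
    C.μ c * C.τ a * (C.μ c)⁻¹ = C.τ (C.μ c • a) := by
  apply C.hτu _ (C.hnorm.conj_mem _ (C.hτN a) _)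
  have h1 : (C.μ c)⁻¹ • C.o = C.o := by
    rw [inv_smul_eq_iff, C.hμo c hc]
  rw [mul_smul, mul_smul, h1, C.hτ]

/-- addition -/
def add (a b : α) : α := C.τ b • a

/-- negation -/
def neg (a : α) : α := (C.τ a)⁻¹ • C.o

open Classical in
/-- multiplication -/
noncomputable def mul (x a : α) : α := if a = C.o then C.o else C.μ a • x

theorem mul_o (x : α) : C.mul x C.o = C.o := by simp [mul]

theorem mul_of_ne (x : α) {a : α} (ha : a ≠ C.o) : C.mul x a = C.μ a • x := by simp [mul, ha]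

theorem o_mul (a : α) : C.mul C.o a = C.o := by
  by_cases ha : a = C.o
  · rw [ha, mul_o]
  · rw [mul_of_ne C _ ha, C.hμo a ha]

theorem mul_ne_o {x a : α} (hx : x ≠ C.o) (ha : a ≠ C.o) : C.mul x a ≠ C.o := by
  rw [mul_of_ne C _ ha]
  exact C.ne_o_of_fix (C.hμo a ha) hx

theorem add_assoc' (a b c : α) : C.add (C.add a b) c = C.add a (C.add b c) := by
  simp only [add]
  rw [C.τ_smul, mul_smul]

theorem o_add (a : α) : C.add C.o a = a := C.hτ a

theorem add_o (a : α) : C.add a C.o = a := by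
  simp only [add]; rw [C.τ_o, one_smul]

theorem neg_add (a : α) : C.add (C.neg a) a = C.o := by
  simp only [add, neg]; rw [smul_inv_smul]

theorem mul_assoc' (x a b : α) : C.mul (C.mul x a) b = C.mul x (C.mul a b) := by
  by_cases hb : b = C.o
  · rw [hb, mul_o, mul_o, mul_o]
  by_cases ha : a = C.o
  · simp only [ha, mul_o, o_mul]
  rw [mul_of_ne C _ hb, mul_of_ne C _ ha, mul_of_ne C a hb,
    mul_of_ne C x (C.ne_o_of_fix (C.hμo b hb) ha), C.μ_smul ha hb, mul_smul]

theorem e_mul (a : α) : C.mul C.e a = a := by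
  by_cases ha : a = C.o
  · rw [ha, mul_o]
  · rw [mul_of_ne C _ ha, C.hμ a ha]

theorem mul_e (a : α) : C.mul a C.e = a := by
  rw [mul_of_ne C _ C.hoe.symm, C.μ_e, one_smul]

theorem add_mul' (a b c : α) : C.mul (C.add a b) c = C.add (C.mul a c) (C.mul b c) := by
  by_cases hc : c = C.o
  · rw [hc, mul_o, mul_o, mul_o]; exact (C.o_add _).symm
  rw [mul_of_ne C _ hc, mul_of_ne C _ hc, mul_of_ne C _ hc]
  simp only [add]
  rw [← C.μ_τ hc b, mul_smul, mul_smul, inv_smul_smul]

theorem exists_inv' (a : α) (ha : a ≠ C.o) : ∃ b : α, C.mul a b = C.e ∧ C.mul b a = C.e := by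
  have h1 : (C.μ a)⁻¹ • C.o = C.o := by rw [inv_smul_eq_iff, C.hμo a ha]
  have hb : (C.μ a)⁻¹ • C.e ≠ C.o := C.ne_o_of_fix h1 C.hoe.symm
  refine ⟨(C.μ a)⁻¹ • C.e, ?_, ?_⟩
  · rw [mul_of_ne C _ hb]
    have : C.μ ((C.μ a)⁻¹ • C.e) = (C.μ a)⁻¹ := (C.hμu _ _ h1 rfl).symm
    rw [this, inv_smul_eq_iff, C.hμ a ha]
  · rw [mul_of_ne C _ ha, smul_inv_smul]

/-- The additive group structure. -/
@[instance_reducible]
noncomputable def addGroup : AddGroup α :=
  letI : Add α := ⟨C.add⟩
  letI : Zero α := ⟨C.o⟩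
  letI : Neg α := ⟨C.neg⟩
  AddGroup.ofLeftAxioms C.add_assoc' C.o_add C.neg_add

/-- The multiplicative monoid structure. -/
@[instance_reducible]
noncomputable def monoid : Monoid α where
  mul := C.mul
  mul_assoc := C.mul_assoc'
  one := C.e
  one_mul := C.e_mul
  mul_one := C.mul_e

/-- The near-field structure. -/
@[instance_reducible]
noncomputable def nearField : NearField α where
  toAddGroup := C.addGroup
  toMonoid := C.monoid
  right_distrib := C.add_mul'
  mul_zero := C.mul_o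
  zero_ne_one := C.hoe
  exists_inv := C.exists_inv'

/-- The maps induced by group elements are exactly the affine maps of the near-field. -/
theorem induced_iff (f : α → α) :
    (∃ g : G, ∀ x, g • x = f x) ↔
      ∃ a b : α, a ≠ C.o ∧ ∀ x, f x = C.add (C.mul x a) b := by
  constructor
  · rintro ⟨g, hg⟩
    set b := g • C.o with hb
    set a := (C.τ b)⁻¹ • g • C.e with ha
    have hfix : ((C.τ b)⁻¹ * g) • C.o = C.o := by
      rw [mul_smul, inv_smul_eq_iff, C.hτ]
    have ha0 : a ≠ C.o := by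
      rw [ha, ← mul_smul]
      exact C.ne_o_of_fix hfix C.hoe.symm
    have hμa : (C.τ b)⁻¹ * g = C.μ a := C.hμu _ _ hfix (by rw [mul_smul])
    refine ⟨a, b, ha0, fun x => ?_⟩
    rw [mul_of_ne C _ ha0, ← hμa]
    simp only [add]
    rw [mul_smul, smul_inv_smul, hg]
  · rintro ⟨a, b, ha, hf⟩
    refine ⟨C.τ b * C.μ a, fun x => ?_⟩
    rw [hf, mul_of_ne C _ ha, mul_smul]
    rfl

end Coord

/-- Existence of coordinates for a finite sharply 2-transitive group. -/
theorem exists_coord [Fintype α] [DecidableEq α] [Finite G]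
    (h2t : IsMultiplyPretransitive G α 2) (hsh : ∀ x : Fin 2 ↪ α, stabilizer G x = ⊥)
    (hn : 2 ≤ Fintype.card α) : Nonempty (Coord G α) := by
  classical
  obtain ⟨N, p, j, hpp, hj, hcard, hmem, hnormal, hcomm, hexp, hcardN⟩ :=
    exists_regular_normal h2t hsh hn
  obtain ⟨o, e, hoe⟩ : ∃ o e : α, o ≠ e := by
    have : 1 < Fintype.card α := hn
    rw [Fintype.one_lt_card_iff] at this
    exact this
  have hsemi : ∀ g ∈ N, ∀ a : α, g • a = a → g = 1 := by
    intro g hg a ha
    rcases (hmem g).mp hg with h | h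
    · exact h
    · exact absurd ha (h a)
  have hinj : ∀ a : α, Function.Injective (fun g : N => g • a) := by
    intro a g h hgh
    have hgh' : g • a = h • a := hgh
    have : (h⁻¹ * g : N) • a = a := by
      rw [mul_smul, hgh', inv_smul_smul]
    have := hsemi _ (h⁻¹ * g).2 a this
    have h4 : h⁻¹ * g = 1 := Subtype.ext this
    have := congrArg (fun y => h * y) h4
    simpa using this
  have hsurj : ∀ a b : α, ∃ g : N, g • a = b := by
    intro a b
    have hbij := (hinj a).bijective_of_nat_card_le (by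
      rw [hcardN, Nat.card_eq_fintype_card])
    exact hbij.2 b
  choose τ hτ using hsurj o
  have hμex : ∀ a : α, ∃ g : G, a ≠ o → (g • o = o ∧ g • e = a) := by
    intro a
    by_cases ha : a = o
    · exact ⟨1, fun h => absurd ha h⟩
    · obtain ⟨g, hg1, hg2⟩ := (is_two_pretransitive_iff.mp h2t) hoe (Ne.symm ha)
      exact ⟨g, fun _ => ⟨hg1, hg2⟩⟩
  choose μ hμ using hμex
  refine ⟨{ N := N, o := o, e := e, hoe := hoe, τ := fun a => (τ a : G), μ := μ,
            hnorm := hnormal, hcomm := hcomm, hτN := fun a => (τ a).2, hτ := hτ,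
            hτu := ?_, hμo := fun a ha => (hμ a ha).1, hμ := fun a ha => (hμ a ha).2,
            hμu := ?_, hfaith := ?_ }⟩
  · intro g hg a hga
    have := hinj o (a₁ := ⟨g, hg⟩) (a₂ := τ a) (by
      change g • o = (τ a : G) • o
      rw [hga]; exact (hτ a).symm)
    exact congrArg Subtype.val this
  · intro g a hgo hge
    have hao : a ≠ o := by
      intro h
      rw [h, ← hgo] at hge
      exact hoe (smul_left_cancel g hge).symm
    obtain ⟨h1, h2⟩ := hμ a hao
    have : (μ a)⁻¹ * g = 1 := by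
      apply eq_one_of_fix_two hsh hoe
      · rw [mul_smul, hgo, inv_smul_eq_iff, h1]
      · rw [mul_smul, hge, inv_smul_eq_iff, h2]
    have := congrArg (fun y => μ a * y) this
    simpa using this
  · intro g hg
    exact eq_one_of_fix_two hsh hoe (hg o) (hg e)

end Cfsg.Agent.Lib.Helper12_Sharp2NF
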