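import Cfsg.Agent.Lib.Helper12_Shult_NT
import Cfsg.Agent.Lib.Helper9_HigKey

/-!
# Invariant subgroups of additive endomorphisms under a torus of small index (helper12)

Generalisation of `Helper9_HigLine` / `Helper9_HigKey` from the full multiplicative group of a
finite field `F` of order `2 ^ n` to the cyclic group generated by a single scalar `l` of order
`m`, where `m * d = 2 ^ n - 1` and `d ∣ n` (`Helper12_Shult_NT.Arith n d m`).

Coordinates `c : Fin n → F` stand for the additive map `x ↦ ∑ c s * x ^ 2 ^ s`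
(`Helper9_HigLP.lin`); conjugation by the multiplication by `κ` is `Helper9_HigLine.T n κ`.

Main results: `single_mem_gen`, `line_le_of_mem`, `coprime_of_mem` (an `l`-invariant subgroup on
which no power `l ^ k ≠ 1` fixes a nonzero vector is the direct sum of the coordinate lines it
meets, and only lines `s` with `gcd (m, 2 ^ s - 1) = 1` occur) and `alt_trivial_gen` (no nonzero
alternating biadditive `l`-equivariant map `F × F → F`).
-/

set_option autoImplicit false
set_option linter.unusedSectionVars false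
set_option linter.unusedVariables false
set_option linter.style.haveILetI false
set_option linter.unusedSimpArgs false

namespace Cfsg.Agent.Lib.Helper12_Shult_Lines

open Cfsg.Agent.Lib.Helper9_HigLP Cfsg.Agent.Lib.Helper9_HigLine Cfsg.Agent.Lib.Helper9_HigKey
open Cfsg.Agent.Lib.Helper12_Shult_NT

variable {F : Type*} [Field F] [Fintype F] [CharP F 2]

/-! ### the multiplier subfield of an additive subgroup -/

/-- the multipliers of an additive subgroup of a finite field form a subfield -/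
def stab (B : AddSubgroup F) : Subfield F where
  carrier := {r | ∀ b ∈ B, r * b ∈ B}
  mul_mem' := by
    intro r r' hr hr' b hb
    rw [mul_assoc]
    exact hr _ (hr' b hb)
  one_mem' := by
    intro b hb
    rwa [one_mul]
  add_mem' := by
    intro r r' hr hr' b hb
    rw [add_mul]
    exact B.add_mem (hr b hb) (hr' b hb)
  zero_mem' := by
    intro b hb
    rw [zero_mul]
    exact B.zero_mem
  neg_mem' := by
    intro r hr b hb
    rw [neg_mul]
    exact B.neg_mem (hr b hb)
  inv_mem' := by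
    intro r hr b hb
    by_cases h0 : r = 0
    · rw [h0, inv_zero, zero_mul]
      exact B.zero_mem
    · let f : B → B := fun x => ⟨r * x.1, hr x.1 x.2⟩
      have hf : Function.Injective f := by
        intro x y hxy
        have : r * x.1 = r * y.1 := congrArg Subtype.val hxy
        exact Subtype.ext (mul_left_cancel₀ h0 this)
      obtain ⟨x, hx⟩ := Finite.surjective_of_injective hf ⟨b, hb⟩
      have hx' : r * x.1 = b := congrArg Subtype.val hx
      rw [← hx', ← mul_assoc, inv_mul_cancel₀ h0, one_mul]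
      exact x.2

theorem mem_stab (B : AddSubgroup F) (r : F) : r ∈ stab B ↔ ∀ b ∈ B, r * b ∈ B := Iff.rfl

/-- an additive subgroup stable under a scalar whose order is divisible by `m` is `0` or `F` -/
theorem eq_top_of_mul_mem {n d m : ℕ} (hF : Fintype.card F = 2 ^ n) (h : Arith n d m) (μ : Fˣ)
    (hμ : ∀ N : ℕ, μ ^ N = 1 → m ∣ N) (B : AddSubgroup F) (hB : ∀ b ∈ B, (μ : F) * b ∈ B)
    (hne : B ≠ ⊥) : B = ⊤ := by
  classical
  have hμK : (μ : F) ∈ stab B := hB
  haveI : Fintype (stab B) := Fintype.ofFinite _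
  obtain ⟨j, -, hj⟩ := FiniteField.card (stab B) 2
  have hcard := Module.card_eq_pow_finrank (K := stab B) (V := F)
  rw [hF, hj, ← pow_mul] at hcard
  have hnjr : n = (j : ℕ) * Module.finrank (stab B) F :=
    Nat.pow_right_injective (le_refl 2) hcard
  -- `μ ^ (2 ^ j - 1) = 1`
  have hμ0 : (⟨(μ : F), hμK⟩ : stab B) ≠ 0 := by
    intro h0
    have : (μ : F) = 0 := congrArg Subtype.val h0
    exact μ.ne_zero this
  have hpow := FiniteField.pow_card_sub_one_eq_one (⟨(μ : F), hμK⟩ : stab B) hμ0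
  rw [hj] at hpow
  have hpow' : μ ^ (2 ^ (j : ℕ) - 1) = 1 := by
    apply Units.ext
    have := congrArg Subtype.val hpow
    simpa using this
  have hr1 := h.NT0 hnjr j.pos (hμ _ hpow')
  -- the subfield is everything
  have hall : ∀ y : F, y ∈ stab B := by
    have hcK : Fintype.card (stab B) = Fintype.card F := by
      rw [hj, hF, hnjr, hr1, mul_one]
    have hbij : Function.Bijective (Subtype.val : stab B → F) :=
      (Fintype.bijective_iff_injective_and_card _).mpr ⟨Subtype.val_injective, hcK⟩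
    intro y
    obtain ⟨k, hk⟩ := hbij.2 y
    rw [← hk]
    exact k.2
  obtain ⟨b₀, hb₀, hb₀0⟩ : ∃ b ∈ B, b ≠ 0 := by
    by_contra hcon
    push Not at hcon
    apply hne
    rw [eq_bot_iff]
    intro b hb
    rw [AddSubgroup.mem_bot]
    exact hcon b hb
  rw [eq_top_iff]
  intro y _
  have h1 := hall (y / b₀) b₀ hb₀
  rwa [div_mul_cancel₀ y hb₀0] at h1

/-! ### the multipliers `mu s` -/

/-- the multiplier as a unit -/
def muU (s : ℕ) (κ : Fˣ) : Fˣ := κ * (κ⁻¹) ^ 2 ^ s

theorem mu_eq_coe (s : ℕ) (κ : Fˣ) : mu s κ = ((muU s κ : Fˣ) : F) := by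
  simp [mu, muU]

theorem muU_pow_eq_one_iff (s N : ℕ) (κ : Fˣ) : (muU s κ) ^ N = 1 ↔ κ ^ (N * 2 ^ s) = κ ^ N := by
  unfold muU
  rw [mul_pow, ← pow_mul, inv_pow, mul_inv_eq_one, mul_comm (2 ^ s) N]
  exact eq_comm

theorem pow_mul_two_pow_eq_iff {m : ℕ} (l : Fˣ) (hl : orderOf l = m) (s N : ℕ) :
    l ^ (N * 2 ^ s) = l ^ N ↔ m ∣ N * (2 ^ s - 1) := by
  rw [pow_eq_pow_iff_modEq, hl]
  have h1 : 1 ≤ 2 ^ s := Nat.one_le_two_pow
  have h2 : N ≤ N * 2 ^ s := Nat.le_mul_of_pos_right N (by omega)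
  rw [Nat.ModEq.comm, Nat.modEq_iff_dvd' h2]
  have : N * 2 ^ s - N = N * (2 ^ s - 1) := by
    rw [Nat.mul_sub, mul_one]
  rw [this]

theorem dvd_of_muU_pow {m : ℕ} (l : Fˣ) (hl : orderOf l = m) (s : ℕ)
    (hc : Nat.Coprime m (2 ^ s - 1)) (N : ℕ) (hN : (muU s l) ^ N = 1) : m ∣ N := by
  rw [muU_pow_eq_one_iff, pow_mul_two_pow_eq_iff l hl] at hN
  exact hc.dvd_of_dvd_mul_right hN

theorem mu_eq_one_iff (s : ℕ) (κ : Fˣ) : mu s κ = (1 : F) ↔ κ ^ 2 ^ s = κ := by
  rw [mu_eq_coe]
  have h1 := muU_pow_eq_one_iff s 1 κ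
  rw [pow_one, one_mul, pow_one] at h1
  rw [← h1]
  constructor
  · intro h
    exact Units.ext (by simpa using h)
  · intro h
    rw [h]
    rfl

theorem coprime_of_muinj {m : ℕ} (l : Fˣ) (hl : orderOf l = m) (s : ℕ)
    (hinj : ∀ k : ℕ, mu s (l ^ k) = (1 : F) → l ^ k = 1) : Nat.Coprime m (2 ^ s - 1) := by
  have hm0 : 0 < m := by
    rw [← hl]
    exact orderOf_pos l
  set g := Nat.gcd m (2 ^ s - 1) with hg
  have hgm : g ∣ m := Nat.gcd_dvd_left _ _
  have hgs : g ∣ 2 ^ s - 1 := Nat.gcd_dvd_right _ _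
  obtain ⟨k, hk⟩ := hgm
  obtain ⟨e, he⟩ := hgs
  have h1 : mu s (l ^ k) = (1 : F) := by
    rw [mu_eq_one_iff, ← pow_mul]
    have h2 := (pow_mul_two_pow_eq_iff l hl s k).mpr (by
      rw [he]
      refine ⟨e, ?_⟩
      rw [hk]
      ring)
    exact h2
  have h3 := hinj k h1
  have h4 : m ∣ k := by
    rw [← hl]
    exact orderOf_dvd_of_pow_eq_one h3
  have hk0 : 0 < k := by
    rcases Nat.eq_zero_or_pos k with h0 | h0
    · rw [h0, mul_zero] at hk
      omega
    · exact h0
  have h5 : m ≤ k := Nat.le_of_dvd hk0 h4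
  have hg1 : g = 1 := by
    rcases Nat.eq_zero_or_pos g with h0 | h0
    · rw [h0, zero_mul] at hk
      omega
    · by_contra hne
      have hg2 : 2 ≤ g := by omega
      have : 2 * k ≤ g * k := Nat.mul_le_mul_right k hg2
      omega
  exact hg1

/-- the weights of two admissible coordinates are not Galois conjugate -/
theorem mu_compare_gen {n d m : ℕ} (h : Arith n d m) (l : Fˣ) (hl : orderOf l = m)
    (s t j : Fin n) (hcs : Nat.Coprime m (2 ^ (s : ℕ) - 1)) (hct : Nat.Coprime m (2 ^ (t : ℕ) - 1))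
    (hpow : (mu (t : ℕ) l) ^ 2 ^ (j : ℕ) = (mu (s : ℕ) l : F)) : t = s := by
  by_contra hts
  have hx : (l : F) ≠ 0 := l.ne_zero
  have h3 : l ^ (2 ^ (j : ℕ) + 2 ^ (s : ℕ)) = l ^ (1 + 2 ^ ((t : ℕ) + (j : ℕ))) := by
    apply Units.ext
    simp only [mu, Units.val_inv_eq_inv_val, inv_pow, mul_pow] at hpow
    push_cast
    rw [← pow_mul] at hpow
    have ha : ((l : F) ^ (2 ^ (t : ℕ) * 2 ^ (j : ℕ))) ≠ 0 := pow_ne_zero _ hx
    have hb : ((l : F) ^ 2 ^ (s : ℕ)) ≠ 0 := pow_ne_zero _ hx
    rw [pow_add, pow_add, pow_one, pow_add (2 : ℕ)]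
    field_simp at hpow
    rw [hpow]
    ring
  have h4 := pow_eq_pow_iff_modEq.mp h3
  rw [hl] at h4
  have h5 : 2 ^ (s : ℕ) + 2 ^ (j : ℕ) ≡ 1 + 2 ^ (((t : ℕ) + (j : ℕ)) % n) [MOD m] := by
    rw [add_comm]
    exact h4.trans ((h.two_pow_mod _).add_left 1)
  exact h.NTb s.2 t.2 j.2 (fun hst => hts (Fin.ext hst.symm)) hcs hct h5

/-! ### invariance and semiregularity under a single scalar -/

variable (n : ℕ)

/-- invariance under the single scalar `l` -/
def InvL (l : Fˣ) (D : AddSubgroup (Fin n → F)) : Prop := ∀ c ∈ D, T n l c ∈ D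

/-- no power `l ^ k ≠ 1` fixes a nonzero vector -/
def SemiRegL (l : Fˣ) (D : AddSubgroup (Fin n → F)) : Prop :=
  ∀ k : ℕ, ∀ c ∈ D, c ≠ 0 → T n (l ^ k) c = c → l ^ k = 1

theorem invL_pow {l : Fˣ} {D : AddSubgroup (Fin n → F)} (hD : InvL n l D) (k : ℕ) :
    ∀ c ∈ D, T n (l ^ k) c ∈ D := by
  induction k with
  | zero =>
    intro c hc
    rw [pow_zero, T_one]
    exact hc
  | succ k ih =>
    intro c hc
    rw [pow_succ, T_mul]
    exact ih _ (hD c hc)

theorem invL_inf_hyper {l : Fˣ} {D : AddSubgroup (Fin n → F)} (hD : InvL n l D) (s : Fin n) :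
    InvL n l (D ⊓ hyper n s) := by
  intro c hc
  refine ⟨hD c hc.1, ?_⟩
  have h2 : c s = 0 := hc.2
  show mu (s : ℕ) l * c s = 0
  rw [h2, mul_zero]

theorem semiRegL_mono {l : Fˣ} {D D' : AddSubgroup (Fin n → F)} (h : D' ≤ D)
    (hD : SemiRegL n l D) : SemiRegL n l D' := fun k c hc hc0 hT => hD k c (h hc) hc0 hT

/-! ### minimal invariant subgroups are coordinate lines -/

theorem line_of_minimal_gen {d m : ℕ} (hF : Fintype.card F = 2 ^ n) (h : Arith n d m)
    (l : Fˣ) (hl : orderOf l = m)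
    (D : AddSubgroup (Fin n → F)) (hD : InvL n l D) (hsr : SemiRegL n l D) (hne : D ≠ ⊥)
    (hmin : ∀ D' : AddSubgroup (Fin n → F), D' ≤ D → InvL n l D' → D' = ⊥ ∨ D' = D) :
    ∃ t : Fin n, D = line n t := by
  classical
  obtain ⟨c₀, hc₀D, hc₀⟩ : ∃ c ∈ D, c ≠ 0 := by
    by_contra hcon
    push Not at hcon
    apply hne
    rw [eq_bot_iff]
    intro c hc
    rw [AddSubgroup.mem_bot]
    exact hcon c hc
  have hdich : ∀ s : Fin n, (∀ c ∈ D, c s = 0) ∨ (∀ c ∈ D, c s = 0 → c = 0) := by
    intro s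
    rcases hmin (D ⊓ hyper n s) inf_le_left (invL_inf_hyper n hD s) with h' | h'
    · right
      intro c hc hcs
      have : c ∈ D ⊓ hyper n s := ⟨hc, hcs⟩
      rw [h', AddSubgroup.mem_bot] at this
      exact this
    · left
      intro c hc
      have : c ∈ D ⊓ hyper n s := by rw [h']; exact hc
      exact this.2
  obtain ⟨t, ht⟩ : ∃ t : Fin n, c₀ t ≠ 0 := by
    by_contra hcon
    push Not at hcon
    exact hc₀ (funext hcon)
  have hinjt : ∀ c ∈ D, c t = 0 → c = 0 := by
    rcases hdich t with h' | h'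
    · exact absurd (h' c₀ hc₀D) ht
    · exact h'
  have hmuinj : ∀ s : Fin n, (∀ c ∈ D, c s = 0 → c = 0) →
      ∀ k : ℕ, mu (s : ℕ) (l ^ k) = (1 : F) → l ^ k = 1 := by
    intro s hs k hκ
    apply hsr k c₀ hc₀D hc₀
    have h1 : T n (l ^ k) c₀ - c₀ ∈ D := D.sub_mem (invL_pow n hD k c₀ hc₀D) hc₀D
    have h2 : (T n (l ^ k) c₀ - c₀) s = 0 := by
      simp [T, hκ]
    have := hs _ h1 h2
    exact sub_eq_zero.mp this
  have hcop : ∀ s : Fin n, (∀ c ∈ D, c s = 0 → c = 0) → Nat.Coprime m (2 ^ (s : ℕ) - 1) :=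
    fun s hs => coprime_of_muinj l hl s (hmuinj s hs)
  have hsurj : ∀ s : Fin n, (∀ c ∈ D, c s = 0 → c = 0) → ∀ y : F, ∃ c ∈ D, c s = y := by
    intro s hs y
    let B : AddSubgroup F := D.map (Pi.evalAddMonoidHom (fun _ : Fin n => F) s)
    have hBtop : B = ⊤ := by
      apply eq_top_of_mul_mem hF h (muU (s : ℕ) l) (dvd_of_muU_pow l hl s (hcop s hs)) B
      · rintro _ ⟨c, hc, rfl⟩
        refine ⟨T n l c, hD c hc, ?_⟩
        show mu (s : ℕ) l * c s = _
        rw [mu_eq_coe]
        rfl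
      · intro hbot
        have h1 : c₀ s ∈ B := ⟨c₀, hc₀D, rfl⟩
        rw [hbot, AddSubgroup.mem_bot] at h1
        exact hc₀ (hs c₀ hc₀D h1)
    have hy : y ∈ B := by rw [hBtop]; exact AddSubgroup.mem_top y
    obtain ⟨c, hc, hcy⟩ := hy
    exact ⟨c, hc, hcy⟩
  have hsupp : ∀ s : Fin n, (∀ c ∈ D, c s = 0 → c = 0) → s = t := by
    intro s hs
    let pt : D →+ F := (Pi.evalAddMonoidHom (fun _ : Fin n => F) t).comp D.subtype
    have hptbij : Function.Bijective pt := by
      constructor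
      · rw [injective_iff_map_eq_zero]
        intro x hx
        exact Subtype.ext (hinjt x.1 x.2 hx)
      · intro y
        obtain ⟨c, hc, hcy⟩ := hsurj t hinjt y
        exact ⟨⟨c, hc⟩, hcy⟩
    let e : D ≃+ F := AddEquiv.ofBijective pt hptbij
    let ps : D →+ F := (Pi.evalAddMonoidHom (fun _ : Fin n => F) s).comp D.subtype
    let φ : F →+ F := ps.comp e.symm.toAddMonoidHom
    have hφ : ∀ x : D, φ (x.1 t) = x.1 s := by
      intro x
      have : e.symm (x.1 t) = x := by
        rw [AddEquiv.symm_apply_eq]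
        rfl
      show ps (e.symm (x.1 t)) = x.1 s
      rw [this]
      rfl
    obtain ⟨f, hf⟩ := (lin_bijective n hF).2 φ
    have hequiv : ∀ x : F, φ (mu (t : ℕ) l * x) = mu (s : ℕ) l * φ x := by
      intro x
      obtain ⟨c, hc, hcx⟩ := hsurj t hinjt x
      have h1 := hφ ⟨T n l c, hD c hc⟩
      have h2 := hφ ⟨c, hc⟩
      simp only [T] at h1
      rw [← hcx, h1, h2]
    have hcoef : ∀ j : Fin n, f j * (mu (t : ℕ) l) ^ 2 ^ (j : ℕ) = mu (s : ℕ) l * f j := by
      intro j
      have h1 : lin n (fun j => f j * (mu (t : ℕ) l) ^ 2 ^ (j : ℕ)) =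
          lin n (fun j => mu (s : ℕ) l * f j) := by
        ext x
        rw [lin_apply, lin_apply]
        have h2 := hequiv x
        rw [← hf, lin_apply, lin_apply, Finset.mul_sum] at h2
        refine Eq.trans ?_ (h2.trans ?_)
        · apply Finset.sum_congr rfl
          intro i _
          rw [mul_pow]
          ring
        · apply Finset.sum_congr rfl
          intro i _
          ring
      exact congrFun (lin_injective n hF h1) j
    have hφne : φ ≠ 0 := by
      intro h0
      have := hφ ⟨c₀, hc₀D⟩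
      rw [h0] at this
      exact hc₀ (hs c₀ hc₀D this.symm)
    obtain ⟨j, hj⟩ : ∃ j : Fin n, f j ≠ 0 := by
      by_contra hcon
      push Not at hcon
      apply hφne
      rw [← hf]
      have : f = 0 := funext hcon
      rw [this]
      ext x
      simp [lin_apply]
    have hcmp : (mu (t : ℕ) l) ^ 2 ^ (j : ℕ) = (mu (s : ℕ) l : F) := by
      have := hcoef j
      rw [mul_comm (mu (s : ℕ) l)] at this
      exact mul_left_cancel₀ hj this
    exact (mu_compare_gen h l hl s t j (hcop s hs) (hcop t hinjt) hcmp).symm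
  refine ⟨t, le_antisymm ?_ ?_⟩
  · intro c hc s hst
    rcases hdich s with h' | h'
    · exact h' c hc
    · exact absurd (hsupp s h') hst
  · intro c hc
    obtain ⟨x, hx, hxt⟩ := hsurj t hinjt (c t)
    have : x = c := by
      funext s
      by_cases hs : s = t
      · rw [hs, hxt]
      · rw [hc s hs]
        rcases hdich s with h' | h'
        · exact h' x hx
        · exact absurd (hsupp s h') hs
    rw [← this]
    exact hx

/-- a nonzero invariant semiregular subgroup contains a coordinate line -/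
theorem exists_line_le_gen {d m : ℕ} (hF : Fintype.card F = 2 ^ n) (h : Arith n d m)
    (l : Fˣ) (hl : orderOf l = m)
    (D : AddSubgroup (Fin n → F)) (hD : InvL n l D) (hsr : SemiRegL n l D) (hne : D ≠ ⊥) :
    ∃ t : Fin n, line n t ≤ D := by
  classical
  let S : Set (AddSubgroup (Fin n → F)) := {D' | D' ≤ D ∧ InvL n l D' ∧ D' ≠ ⊥}
  have hS : S.Nonempty := ⟨D, le_refl _, hD, hne⟩
  obtain ⟨M, hM, hmin⟩ := wellFounded_lt.has_min S hS
  obtain ⟨hMD, hMinv, hMne⟩ := hM
  obtain ⟨t, ht⟩ := line_of_minimal_gen n hF h l hl M hMinv (semiRegL_mono n hMD hsr) hMne (by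
    intro D' hD' hD'inv
    by_cases h0 : D' = ⊥
    · exact Or.inl h0
    · right
      by_contra hne'
      exact hmin D' ⟨hD'.trans hMD, hD'inv, h0⟩ (lt_of_le_of_ne hD' hne'))
  exact ⟨t, ht ▸ hMD⟩

/-- the dichotomy: each coordinate either vanishes on `D` or its line lies in `D` -/
theorem le_hyper_or_line_le_gen {d m : ℕ} (hF : Fintype.card F = 2 ^ n) (h : Arith n d m)
    (l : Fˣ) (hl : orderOf l = m) :
    ∀ (N : ℕ) (D : AddSubgroup (Fin n → F)), Nat.card D ≤ N → InvL n l D → SemiRegL n l D →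
      ∀ t : Fin n, D ≤ hyper n t ∨ line n t ≤ D := by
  intro N
  induction N with
  | zero =>
    intro D hcard
    have : 0 < Nat.card D := Nat.card_pos
    omega
  | succ N ih =>
    intro D hcard hD hsr t
    by_cases hne : D = ⊥
    · left
      rw [hne]
      exact bot_le
    obtain ⟨t₀, ht₀⟩ := exists_line_le_gen n hF h l hl D hD hsr hne
    by_cases htt : t₀ = t
    · right
      rw [← htt]
      exact ht₀
    have hlt : Nat.card (D ⊓ hyper n t₀ : AddSubgroup (Fin n → F)) < Nat.card D := by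
      have hle : D ⊓ hyper n t₀ ≤ D := inf_le_left
      have hne' : D ⊓ hyper n t₀ ≠ D := by
        intro h'
        have h1 : (Pi.single t₀ (1 : F) : Fin n → F) ∈ D := ht₀ (single_mem_line n t₀ 1)
        rw [← h'] at h1
        have h2 : (Pi.single t₀ (1 : F) : Fin n → F) t₀ = 0 := h1.2
        simp at h2
      have hss : ((D ⊓ hyper n t₀ : AddSubgroup (Fin n → F)) : Set (Fin n → F)) ⊂
          (D : Set (Fin n → F)) := by
        refine ⟨hle, ?_⟩
        intro hcon
        exact hne' (le_antisymm hle hcon)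
      have := Set.ncard_lt_ncard hss (Set.toFinite _)
      rw [← Nat.card_coe_set_eq, ← Nat.card_coe_set_eq] at this
      exact this
    rcases ih (D ⊓ hyper n t₀) (by omega) (invL_inf_hyper n hD t₀)
      (semiRegL_mono n inf_le_left hsr) t with h' | h'
    · left
      intro c hc
      have h1 : c - Pi.single t₀ (c t₀) ∈ D :=
        D.sub_mem hc (ht₀ (single_mem_line n t₀ (c t₀)))
      have h2 : c - Pi.single t₀ (c t₀) ∈ hyper n t₀ := by
        show (c - Pi.single t₀ (c t₀) : Fin n → F) t₀ = 0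
        simp
      have h3 := h' ⟨h1, h2⟩
      have h4 : (c - Pi.single t₀ (c t₀) : Fin n → F) t = 0 := h3
      have h5 : (Pi.single t₀ (c t₀) : Fin n → F) t = 0 := by
        rw [Pi.single_apply, if_neg (Ne.symm htt)]
      show c t = 0
      simpa [h5] using h4
    · right
      exact h'.trans inf_le_left

theorem hyper_or_line_gen {d m : ℕ} (hF : Fintype.card F = 2 ^ n) (h : Arith n d m)
    (l : Fˣ) (hl : orderOf l = m)
    (D : AddSubgroup (Fin n → F)) (hD : InvL n l D) (hsr : SemiRegL n l D) (t : Fin n) :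
    D ≤ hyper n t ∨ line n t ≤ D :=
  le_hyper_or_line_le_gen n hF h l hl (Nat.card D) D (le_refl _) hD hsr t

/-- components of elements of `D` lie in `D` -/
theorem single_mem_gen {d m : ℕ} (hF : Fintype.card F = 2 ^ n) (h : Arith n d m)
    (l : Fˣ) (hl : orderOf l = m)
    (D : AddSubgroup (Fin n → F)) (hD : InvL n l D) (hsr : SemiRegL n l D) (c : Fin n → F)
    (hc : c ∈ D) (t : Fin n) : Pi.single t (c t) ∈ D := by
  rcases hyper_or_line_gen n hF h l hl D hD hsr t with h' | h'
  · have : c t = 0 := h' hc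
    rw [this, Pi.single_zero]
    exact D.zero_mem
  · exact h' (single_mem_line n t (c t))

/-- a coordinate in the support of an element of `D` has its whole line in `D` -/
theorem line_le_of_mem {d m : ℕ} (hF : Fintype.card F = 2 ^ n) (h : Arith n d m)
    (l : Fˣ) (hl : orderOf l = m)
    (D : AddSubgroup (Fin n → F)) (hD : InvL n l D) (hsr : SemiRegL n l D) (c : Fin n → F)
    (hc : c ∈ D) (t : Fin n) (hct : c t ≠ 0) : line n t ≤ D := by
  rcases hyper_or_line_gen n hF h l hl D hD hsr t with h' | h'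
  · exact absurd (h' hc) hct
  · exact h'

theorem line_le_of_inf_ne_bot_gen {d m : ℕ} (hF : Fintype.card F = 2 ^ n) (h : Arith n d m)
    (l : Fˣ) (hl : orderOf l = m)
    (D : AddSubgroup (Fin n → F)) (hD : InvL n l D) (hsr : SemiRegL n l D) (t : Fin n)
    (hne : line n t ⊓ D ≠ ⊥) : line n t ≤ D := by
  rcases hyper_or_line_gen n hF h l hl D hD hsr t with h' | h'
  · exfalso
    apply hne
    rw [eq_bot_iff, ← line_inf_hyper n t]
    exact inf_le_inf_left _ h'
  · exact h'

/-- only coordinates `t` with `gcd (m, 2 ^ t - 1) = 1` occur in `D` -/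
theorem coprime_of_line_le {m : ℕ} (l : Fˣ) (hl : orderOf l = m)
    (D : AddSubgroup (Fin n → F)) (hsr : SemiRegL n l D) (t : Fin n) (hle : line n t ≤ D) :
    Nat.Coprime m (2 ^ (t : ℕ) - 1) := by
  classical
  apply coprime_of_muinj l hl
  intro k hk
  have h1 : (Pi.single t (1 : F) : Fin n → F) ∈ D := hle (single_mem_line n t 1)
  apply hsr k _ h1
  · intro h0
    have := congrFun h0 t
    simp at this
  · funext s
    by_cases hs : s = t
    · subst hs
      simp [T, hk]
    · simp [T, Pi.single_apply, hs]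

theorem coprime_of_mem {d m : ℕ} (hF : Fintype.card F = 2 ^ n) (h : Arith n d m)
    (l : Fˣ) (hl : orderOf l = m)
    (D : AddSubgroup (Fin n → F)) (hD : InvL n l D) (hsr : SemiRegL n l D) (c : Fin n → F)
    (hc : c ∈ D) (t : Fin n) (hct : c t ≠ 0) : Nat.Coprime m (2 ^ (t : ℕ) - 1) :=
  coprime_of_line_le n l hl D hsr t (line_le_of_mem n hF h l hl D hD hsr c hc t hct)

/-! ### alternating equivariant forms -/

/-- there is no nonzero alternating biadditive map `F × F → F` equivariant under `l` -/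
theorem alt_trivial_gen {d m : ℕ} (hF : Fintype.card F = 2 ^ n) (h : Arith n d m)
    (l : Fˣ) (hl : orderOf l = m)
    (B : F →+ F →+ F) (halt : ∀ x, B x x = 0)
    (heq : ∀ x y, B ((l : F) * x) ((l : F) * y) = (l : F) * B x y) : B = 0 := by
  classical
  by_contra hB
  have heqk : ∀ k : ℕ, ∀ x y, B (((l ^ k : Fˣ) : F) * x) (((l ^ k : Fˣ) : F) * y) =
      ((l ^ k : Fˣ) : F) * B x y := by
    intro k
    induction k with
    | zero =>
      intro x y
      simp
    | succ k ih =>
      intro x y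
      rw [pow_succ, Units.val_mul]
      have e1 : ((l ^ k : Fˣ) : F) * (l : F) * x = ((l ^ k : Fˣ) : F) * ((l : F) * x) := by ring
      have e2 : ((l ^ k : Fˣ) : F) * (l : F) * y = ((l ^ k : Fˣ) : F) * ((l : F) * y) := by ring
      rw [e1, e2, ih, heq]
      ring
  let c : F →+ (Fin n → F) := (linEquiv n hF).symm.toAddMonoidHom.comp B
  have hc : ∀ x, lin n (c x) = B x := fun x => lin_linEquiv_symm n hF (B x)
  have hBc : ∀ x, c x = 0 → B x = 0 := by
    intro x hx
    rw [← hc, hx]
    ext y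
    simp [lin_apply]
  have hcB : ∀ x, B x = 0 → c x = 0 := by
    intro x hx
    show (linEquiv n hF).symm (B x) = 0
    rw [hx, map_zero]
  have hlm : ∀ N : ℕ, l ^ N = 1 → m ∣ N := by
    intro N hN
    rw [← hl]
    exact orderOf_dvd_of_pow_eq_one hN
  -- the kernel is trivial
  have hker : ∀ x, c x = 0 → x = 0 := by
    let Ker : AddSubgroup F := (c.ker)
    have hKinv : ∀ b ∈ Ker, (l : F) * b ∈ Ker := by
      intro b hb
      have hb' : c b = 0 := hb
      show c ((l : F) * b) = 0
      apply hcB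
      ext y
      have h2 : y = (l : F) * (((l⁻¹ : Fˣ) : F) * y) := by
        rw [← mul_assoc, ← Units.val_mul, mul_inv_cancel, Units.val_one, one_mul]
      rw [h2, heq, hBc b hb']
      simp
    intro x₀ hx₀
    by_contra hx0
    have hKne : Ker ≠ ⊥ := by
      intro hbot
      have : x₀ ∈ Ker := hx₀
      rw [hbot, AddSubgroup.mem_bot] at this
      exact hx0 this
    have hKtop := eq_top_of_mul_mem hF h l hlm Ker hKinv hKne
    apply hB
    ext x y
    have hx : x ∈ Ker := by rw [hKtop]; exact AddSubgroup.mem_top x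
    have hx' : c x = 0 := hx
    rw [hBc x hx']
    simp
  have hTc : ∀ k : ℕ, ∀ x, T n (l ^ k) (c x) = c (((l ^ k : Fˣ) : F) * x) := by
    intro k x
    apply lin_injective n hF
    ext y
    rw [lin_T, hc, hc]
    have h2 : y = ((l ^ k : Fˣ) : F) * ((((l ^ k)⁻¹ : Fˣ) : F) * y) := by
      rw [← mul_assoc, ← Units.val_mul, mul_inv_cancel, Units.val_one, one_mul]
    conv_rhs => rw [h2]
    rw [heqk]
  have hD : InvL n l c.range := by
    rintro _ ⟨x, rfl⟩
    have := hTc 1 x
    rw [pow_one] at this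
    exact ⟨(l : F) * x, this.symm⟩
  have hsr : SemiRegL n l c.range := by
    rintro k _ ⟨x, rfl⟩ hx0 hfix
    rw [hTc] at hfix
    have h1 : c (((l ^ k : Fˣ) : F) * x - x) = 0 := by rw [map_sub, hfix, sub_self]
    have h2 := hker _ h1
    have hx : x ≠ 0 := by
      intro h'
      apply hx0
      rw [h', map_zero]
    have h3 : (((l ^ k : Fˣ) : F) - 1) * x = 0 := by rw [sub_mul, one_mul]; exact h2
    rcases mul_eq_zero.mp h3 with h' | h'
    · apply Units.ext
      rw [Units.val_one]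
      exact sub_eq_zero.mp h'
    · exact absurd h' hx
  have hne : c.range ≠ ⊥ := by
    intro h'
    apply hB
    ext x y
    have : c x ∈ c.range := ⟨x, rfl⟩
    rw [h', AddSubgroup.mem_bot] at this
    have h1 := hker x this
    rw [h1]
    simp
  obtain ⟨t, ht⟩ := exists_line_le_gen n hF h l hl c.range hD hsr hne
  obtain ⟨x₁, hx₁⟩ := ht (single_mem_line n t (1 : F))
  have h1 : B x₁ x₁ = x₁ ^ 2 ^ (t : ℕ) := by
    rw [← hc, hx₁, lin_single, one_mul]
  rw [halt] at h1
  have h2 : x₁ = 0 := eq_zero_of_pow_eq_zero h1.symm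
  rw [h2, map_zero] at hx₁
  have := congrFun hx₁ t
  simp at this

/-! ### the same statements for the cyclic group `C = Subgroup.zpowers l` (shape of `Helper9_HigKey`) -/

/-- invariance under a subgroup `C` of scalars -/
def InvC (C : Subgroup Fˣ) (D : AddSubgroup (Fin n → F)) : Prop :=
  ∀ κ ∈ C, ∀ c ∈ D, T n κ c ∈ D

/-- semiregularity of a subgroup `C` of scalars -/
def SemiRegC (C : Subgroup Fˣ) (D : AddSubgroup (Fin n → F)) : Prop :=
  ∀ κ ∈ C, ∀ c ∈ D, c ≠ 0 → T n κ c = c → κ = 1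

theorem InvC.invL {l : Fˣ} {D : AddSubgroup (Fin n → F)} (hD : InvC n (Subgroup.zpowers l) D) :
    InvL n l D := hD l (Subgroup.mem_zpowers l)

theorem SemiRegC.semiRegL {l : Fˣ} {D : AddSubgroup (Fin n → F)}
    (hD : SemiRegC n (Subgroup.zpowers l) D) : SemiRegL n l D :=
  fun k c hc hc0 hT => hD (l ^ k) (Subgroup.npow_mem_zpowers l k) c hc hc0 hT

theorem single_mem_C {d m : ℕ} (hF : Fintype.card F = 2 ^ n) (h : Arith n d m)
    (l : Fˣ) (hl : orderOf l = m) (D : AddSubgroup (Fin n → F))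
    (hD : InvC n (Subgroup.zpowers l) D) (hsr : SemiRegC n (Subgroup.zpowers l) D)
    (c : Fin n → F) (hc : c ∈ D) (t : Fin n) : Pi.single t (c t) ∈ D :=
  single_mem_gen n hF h l hl D hD.invL hsr.semiRegL c hc t

theorem line_le_of_inf_ne_bot_C {d m : ℕ} (hF : Fintype.card F = 2 ^ n) (h : Arith n d m)
    (l : Fˣ) (hl : orderOf l = m) (D : AddSubgroup (Fin n → F))
    (hD : InvC n (Subgroup.zpowers l) D) (hsr : SemiRegC n (Subgroup.zpowers l) D) (t : Fin n)
    (hne : line n t ⊓ D ≠ ⊥) : line n t ≤ D :=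
  line_le_of_inf_ne_bot_gen n hF h l hl D hD.invL hsr.semiRegL t hne

theorem exists_line_le_C {d m : ℕ} (hF : Fintype.card F = 2 ^ n) (h : Arith n d m)
    (l : Fˣ) (hl : orderOf l = m) (D : AddSubgroup (Fin n → F))
    (hD : InvC n (Subgroup.zpowers l) D) (hsr : SemiRegC n (Subgroup.zpowers l) D)
    (hne : D ≠ ⊥) : ∃ t : Fin n, line n t ≤ D :=
  exists_line_le_gen n hF h l hl D hD.invL hsr.semiRegL hne

theorem coprime_of_line_le_C {m : ℕ} (l : Fˣ) (hl : orderOf l = m)
    (D : AddSubgroup (Fin n → F)) (hsr : SemiRegC n (Subgroup.zpowers l) D) (t : Fin n)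
    (hle : line n t ≤ D) : Nat.Coprime m (2 ^ (t : ℕ) - 1) :=
  coprime_of_line_le n l hl D hsr.semiRegL t hle

/-- no nonzero alternating biadditive `l`-equivariant map `F × F → F` -/
theorem alt_trivial_C {d m : ℕ} (hF : Fintype.card F = 2 ^ n) (h : Arith n d m)
    (l : Fˣ) (hl : orderOf l = m)
    (B : F →+ F →+ F) (halt : ∀ x, B x x = 0)
    (heq : ∀ x y, B ((l : F) * x) ((l : F) * y) = (l : F) * B x y) : B = 0 :=
  alt_trivial_gen n hF h l hl B halt heq

/-- every element of `F` is a sum of powers of `l` -/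
theorem span_lambda {d m : ℕ} (hF : Fintype.card F = 2 ^ n) (h : Arith n d m)
    (l : Fˣ) (hl : orderOf l = m) :
    AddSubgroup.closure (Set.range (fun k : ℕ => ((l ^ k : Fˣ) : F))) = ⊤ := by
  apply eq_top_of_mul_mem hF h l
  · intro N hN
    rw [← hl]
    exact orderOf_dvd_of_pow_eq_one hN
  · intro b hb
    induction hb using AddSubgroup.closure_induction with
    | mem x hx =>
      obtain ⟨k, rfl⟩ := hx
      apply AddSubgroup.subset_closure
      refine ⟨k + 1, ?_⟩
      show ((l ^ (k + 1) : Fˣ) : F) = (l : F) * ((l ^ k : Fˣ) : F)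
      rw [pow_succ', Units.val_mul]
    | zero =>
      rw [mul_zero]
      exact AddSubgroup.zero_mem _
    | add x y _ _ hx hy =>
      rw [mul_add]
      exact AddSubgroup.add_mem _ hx hy
    | neg x _ hx =>
      rw [mul_neg]
      exact AddSubgroup.neg_mem _ hx
  · intro hbot
    have h1 : (1 : F) ∈ AddSubgroup.closure (Set.range (fun k : ℕ => ((l ^ k : Fˣ) : F))) := by
      apply AddSubgroup.subset_closure
      exact ⟨0, by simp⟩
    rw [hbot, AddSubgroup.mem_bot] at h1
    exact one_ne_zero h1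

/-- an additive subgroup of `F` stable under multiplication by `l` is `0` or `F` -/
theorem eq_bot_or_eq_top_of_mul_mem {d m : ℕ} (hF : Fintype.card F = 2 ^ n) (h : Arith n d m)
    (l : Fˣ) (hl : orderOf l = m) (B : AddSubgroup F) (hB : ∀ b ∈ B, (l : F) * b ∈ B) :
    B = ⊥ ∨ B = ⊤ := by
  by_cases hb : B = ⊥
  · exact Or.inl hb
  · right
    apply eq_top_of_mul_mem hF h l _ B hB hb
    intro N hN
    rw [← hl]
    exact orderOf_dvd_of_pow_eq_one hN

end Cfsg.Agent.Lib.Helper12_Shult_Lines
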