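import Mathlib

set_option autoImplicit false

/-!
# EO-D (package of S4025, helper20)

A finite group acting faithfully on a field with `p ^ n` elements by maps `v ↦ a * σ v`
(`σ` a field automorphism) has order dividing `n * (p ^ n - 1)`.
Also: a field with `p ^ n` elements has exactly `n` ring automorphisms (`card_ringEquiv_self`).
-/

namespace Cfsg.Agent.Lib.Helper23_EqOrd_EOD

/-- A field with `p ^ n` elements has exactly `n` ring automorphisms. -/
theorem card_ringEquiv_self {F : Type*} [Field F] [Fintype F] {p n : ℕ} [Fact p.Prime]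
    (hF : Fintype.card F = p ^ n) : Nat.card (F ≃+* F) = n := by
  have hp : p.Prime := Fact.out
  obtain ⟨q, hq⟩ := CharP.exists F
  obtain ⟨m, hqp, hm⟩ := FiniteField.card F q
  have hn : n ≠ 0 := by
    rintro rfl
    have h1 : 1 < Fintype.card F := Fintype.one_lt_card
    simp [hF] at h1
  have hpq : p = q := by
    have h1 : p ∣ q ^ (m : ℕ) := by
      rw [← hm, hF]; exact dvd_pow_self p hn
    exact (Nat.prime_dvd_prime_iff_eq hp hqp).1 (hp.dvd_of_dvd_pow h1)
  subst hpq
  let _ : Algebra (ZMod p) F := ZMod.algebra F p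
  have h1 : Nat.card (F ≃ₐ[ZMod p] F) = Module.finrank (ZMod p) F :=
    IsGalois.card_aut_eq_finrank _ _
  have h2 : Fintype.card F = p ^ Module.finrank (ZMod p) F := by
    have h := Module.card_eq_pow_finrank (K := ZMod p) (V := F)
    rw [ZMod.card] at h
    exact h
  have h3 : n = Module.finrank (ZMod p) F :=
    Nat.pow_right_injective hp.two_le (hF.symm.trans h2)
  have e : (F ≃+* F) ≃ (F ≃ₐ[ZMod p] F) :=
    { toFun := fun σ => AlgEquiv.ofRingEquiv (f := σ) (fun x => by
        have h := RingHom.ext_zmod ((σ : F →+* F).comp (algebraMap (ZMod p) F))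
          (algebraMap (ZMod p) F)
        exact congrArg (fun f : ZMod p →+* F => f x) h)
      invFun := fun σ => σ.toRingEquiv
      left_inv := fun σ => by ext; rfl
      right_inv := fun σ => by ext; rfl }
  rw [Nat.card_congr e, h1, h3]

/-- EO-D: a group of semilinear maps of a field with `p ^ n` elements has order dividing
`n (p ^ n - 1)`. -/
theorem EOD {F : Type*} [Field F] [Fintype F] {p n : ℕ} [Fact p.Prime] (hF : Fintype.card F = p ^ n)
    {V : Type*} [AddCommGroup V] [Module (ZMod p) V] {G : Type*} [Group G] [Finite G]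
    (ρ : G →* (V ≃ₗ[ZMod p] V)) (hρ : Function.Injective ρ) (e : V ≃+ F)
    (h : ∀ g : G, ∃ (a : F) (σ : F ≃+* F), ∀ v : V, e (ρ g v) = a * σ (e v)) :
    Nat.card G ∣ n * (p ^ n - 1) := by
  classical
  choose a σ hασ using h
  have ha0 : ∀ g : G, a g ≠ 0 := by
    intro g h0
    have h1 := hασ g (e.symm 1)
    rw [h0, zero_mul] at h1
    have h2 : ρ g (e.symm 1) = 0 := by
      apply e.injective; rw [h1, map_zero]
    have h3 : e.symm 1 = 0 := (ρ g).injective (h2.trans (map_zero (ρ g)).symm)
    have h4 : (1 : F) = 0 := by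
      have h5 := congrArg e h3
      simp at h5
    exact one_ne_zero h4
  have huniq : ∀ (g : G) (b : F) (τ : F ≃+* F), (∀ w : F, a g * σ g w = b * τ w) →
      a g = b ∧ σ g = τ := by
    intro g b τ hw
    have hab : a g = b := by simpa using hw 1
    refine ⟨hab, ?_⟩
    ext w
    have h1 := hw w
    rw [← hab] at h1
    exact mul_left_cancel₀ (ha0 g) h1
  have hmul : ∀ g k : G, a (g * k) = a g * σ g (a k) ∧ σ (g * k) = σ g * σ k := by
    intro g k
    apply huniq
    intro w
    have h1 := hασ (g * k) (e.symm w)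
    rw [map_mul] at h1
    have h2 : (ρ g * ρ k) (e.symm w) = ρ g (ρ k (e.symm w)) := rfl
    rw [h2, hασ g, hασ k, AddEquiv.apply_symm_apply, map_mul] at h1
    rw [← h1, mul_assoc]
    rfl
  let sig : G →* RingAut F := MonoidHom.mk' σ (fun g k => (hmul g k).2)
  have hsig : ∀ g, sig g = σ g := fun g => rfl
  let α : sig.ker →* Fˣ := MonoidHom.mk' (fun g => Units.mk0 (a g.1) (ha0 g.1)) (by
    intro g k
    apply Units.ext
    have hg : σ g.1 = 1 := g.2
    show a (g.1 * k.1) = a g.1 * a k.1
    rw [(hmul g.1 k.1).1, hg]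
    rfl)
  have hαinj : Function.Injective α := by
    rw [injective_iff_map_eq_one]
    intro g hg
    have hg1 : σ g.1 = 1 := g.2
    have hg2 : a g.1 = 1 := congrArg Units.val hg
    apply Subtype.ext
    apply hρ
    show ρ g.1 = ρ 1
    rw [map_one]
    ext v
    apply e.injective
    rw [hασ, hg1, hg2, one_mul]
    rfl
  have hK : Nat.card sig.ker ∣ p ^ n - 1 := by
    have h1 := Subgroup.card_dvd_of_injective α hαinj
    have h2 : Nat.card F = p ^ n := by rw [Nat.card_eq_fintype_card, hF]
    rwa [Nat.card_units, h2] at h1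
  have hR : Nat.card sig.range ∣ n := by
    have h1 := Subgroup.card_subgroup_dvd_card sig.range
    have h2 : Nat.card (RingAut F) = n := card_ringEquiv_self hF
    rwa [h2] at h1
  have hG : Nat.card G = Nat.card sig.range * Nat.card sig.ker := by
    rw [Subgroup.card_eq_card_quotient_mul_card_subgroup sig.ker,
      Nat.card_congr (QuotientGroup.quotientKerEquivRange sig).toEquiv]
  rw [hG]
  exact Nat.mul_dvd_mul hR hK

end Cfsg.Agent.Lib.Helper23_EqOrd_EOD
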