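import Mathlib
import Cfsg.Agent.Lib.Helper1_Frattini

/-!
# SH-FRATTINI (helper63, package (D) of helper76's S3776 plan)

`G` a finite `2`-group, `V ≤ Z(G)` of exponent `2` containing all squares and contained in `G'`:
then `G' = V = Φ(G)`.
-/

set_option autoImplicit false
set_option linter.unusedSectionVars false

namespace Cfsg.Agent.Lib.Helper63_ShFrattini

open scoped commutatorElement

variable {G : Type*} [Group G]

/-- if all squares lie in a central subgroup `V`, then so do all commutators -/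
theorem commutator_le_of_sq_mem (V : Subgroup G) (hVc : V ≤ Subgroup.center G)
    (hsq : ∀ x : G, x * x ∈ V) : commutator G ≤ V := by
  rw [commutator_eq_closure, Subgroup.closure_le]
  rintro _ ⟨a, b, rfl⟩
  have h1 : a⁻¹ * a⁻¹ ∈ V := hsq a⁻¹
  have hc : b⁻¹ * (a⁻¹ * a⁻¹) * b = a⁻¹ * a⁻¹ := by
    have := Subgroup.mem_center_iff.mp (hVc h1) b
    calc b⁻¹ * (a⁻¹ * a⁻¹) * b = b⁻¹ * (b * (a⁻¹ * a⁻¹)) := by rw [this]; group
      _ = a⁻¹ * a⁻¹ := by group
  have e : ⁅a, b⁆ = (a * b) * (a * b) * (b⁻¹ * (a⁻¹ * a⁻¹) * b) * (b⁻¹ * b⁻¹) := by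
    rw [commutatorElement_def]; group
  rw [SetLike.mem_coe, e, hc]
  exact V.mul_mem (V.mul_mem (hsq _) h1) (hsq _)

/-- **SH-FRATTINI.** -/
theorem sh_frattini [Finite G] (hG : IsPGroup 2 G) (V : Subgroup G)
    (hVc : V ≤ Subgroup.center G) (hsq : ∀ x : G, x * x ∈ V)
    (_hV2 : ∀ v ∈ V, v * v = 1) (hVcomm : V ≤ commutator G) :
    commutator G = V ∧ frattini G = V := by
  have : Fact (Nat.Prime 2) := ⟨Nat.prime_two⟩
  have h1 : commutator G = V := le_antisymm (commutator_le_of_sq_mem V hVc hsq) hVcomm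
  refine ⟨h1, le_antisymm ?_ ?_⟩
  · exact Cfsg.Agent.Lib.Helper1_Frattini.frattini_le_of_elementary_quotient (p := 2) V h1.le
      (fun x => by rw [pow_two]; exact hsq x)
  · rw [← h1]
    exact Cfsg.Agent.Lib.Helper1_Frattini.commutator_le_frattini_of_isPGroup hG

end Cfsg.Agent.Lib.Helper63_ShFrattini
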