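import Cfsg.Agent.Lib.Helper9_HigField

/-!
# Two-groups with a commutative group of automorphisms regular on the involutions (helper9)

Basic definitions and facts for the proof of Higman's theorem on Suzuki `2`-groups.
-/

set_option autoImplicit false
set_option linter.unusedSectionVars false
set_option linter.style.haveILetI false
set_option linter.unusedSimpArgs false
set_option linter.unusedVariables false

namespace Cfsg.Agent.Lib.Helper9_HigBase

open Cfsg.Agent.Lib.Helper9_HigField

universe u v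

/-! ### commutators -/

section Cm

variable {G : Type*} [Group G]

/-- the commutator `x⁻¹ y⁻¹ x y` -/
def cm (x y : G) : G := x⁻¹ * y⁻¹ * x * y

theorem cm_def (x y : G) : cm x y = x⁻¹ * y⁻¹ * x * y := rfl

theorem cm_mul_left (x y g : G) : cm (x * y) g = y⁻¹ * cm x g * y * cm y g := by
  unfold cm; group

theorem cm_mul_right (x g h : G) : cm x (g * h) = cm x h * (h⁻¹ * cm x g * h) := by
  unfold cm; group

theorem cm_inv_symm (x y : G) : (cm x y)⁻¹ = cm y x := by
  unfold cm; group

theorem conj_eq_mul_cm (x g : G) : g⁻¹ * x * g = x * cm x g := by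
  unfold cm; group

theorem cm_self (x : G) : cm x x = 1 := by
  unfold cm; group

theorem cm_one_left (x : G) : cm 1 x = 1 := by
  unfold cm; group

theorem cm_one_right (x : G) : cm x 1 = 1 := by
  unfold cm; group

theorem cm_eq_one_iff (x y : G) : cm x y = 1 ↔ x * y = y * x := by
  unfold cm
  constructor
  · intro h
    have : x * y = y * x * (x⁻¹ * y⁻¹ * x * y) := by group
    rw [this, h, mul_one]
  · intro h
    have : x⁻¹ * y⁻¹ * x * y = x⁻¹ * y⁻¹ * (x * y) := by group
    rw [this, h]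
    group

theorem map_cm {H : Type*} [Group H] (f : G →* H) (x y : G) : f (cm x y) = cm (f x) (f y) := by
  unfold cm
  simp

theorem cm_eq_sq (x y : G) :
    cm x y = x⁻¹ * x⁻¹ * (x * y⁻¹ * (x * y⁻¹)) * (y * y) := by
  unfold cm; group

theorem cm_inv_right (x g : G) : cm x g⁻¹ = g * (cm x g)⁻¹ * g⁻¹ := by
  unfold cm; group

theorem cm_inv_left (x g : G) : cm x⁻¹ g = x * (cm x g)⁻¹ * x⁻¹ := by
  unfold cm; group

end Cm

/-! ### central elements of order at most two -/

section OmDef

variable (G : Type*) [Group G]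

/-- the subgroup of central elements of order at most two -/
def Om : Subgroup G where
  carrier := {z | z ∈ Subgroup.center G ∧ z * z = 1}
  one_mem' := ⟨Subgroup.one_mem _, by simp⟩
  mul_mem' := by
    rintro a b ⟨ha, ha2⟩ ⟨hb, hb2⟩
    refine ⟨Subgroup.mul_mem _ ha hb, ?_⟩
    have h1 : b * a = a * b := Subgroup.mem_center_iff.mp ha b
    calc a * b * (a * b) = a * (b * a) * b := by group
      _ = a * (a * b) * b := by rw [h1]
      _ = (a * a) * (b * b) := by group
      _ = 1 := by rw [ha2, hb2, one_mul]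
  inv_mem' := by
    rintro a ⟨ha, ha2⟩
    refine ⟨Subgroup.inv_mem _ ha, ?_⟩
    rw [← mul_inv_rev, ha2, inv_one]

variable {G}

theorem mem_Om {z : G} : z ∈ Om G ↔ z ∈ Subgroup.center G ∧ z * z = 1 := Iff.rfl

theorem Om_comm {z : G} (hz : z ∈ Om G) (g : G) : g * z = z * g :=
  Subgroup.mem_center_iff.mp hz.1 g

theorem Om_sq {z : G} (hz : z ∈ Om G) : z * z = 1 := hz.2

theorem Om_inv_eq {z : G} (hz : z ∈ Om G) : z⁻¹ = z := by
  have := hz.2
  exact inv_eq_of_mul_eq_one_left this

instance Om_normal : (Om G).Normal := ⟨fun z hz g => by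
  have : g * z * g⁻¹ = z := by
    rw [Om_comm hz g]
    group
  rw [this]
  exact hz⟩

instance Om_commGroup : CommGroup (Om G) :=
  { (inferInstance : Group (Om G)) with
    mul_comm := fun a b => Subtype.ext (by
      show a.1 * b.1 = b.1 * a.1
      exact Om_comm b.2 a.1) }

end OmDef

/-! ### restriction and quotient of an action by automorphisms -/

section Actions

variable {K : Type v} [Group K] {G : Type u} [Group G]

/-- restriction of the action to an invariant subgroup -/
def resAut (φ : K →* MulAut G) (H : Subgroup G) (hH : ∀ k, ∀ x ∈ H, φ k x ∈ H) :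
    K →* MulAut H where
  toFun k :=
    { toFun := fun x => ⟨φ k x.1, hH k x.1 x.2⟩
      invFun := fun x => ⟨φ k⁻¹ x.1, hH k⁻¹ x.1 x.2⟩
      left_inv := fun x => Subtype.ext (by
        show φ k⁻¹ (φ k x.1) = x.1
        rw [map_inv, MulAut.inv_apply_self])
      right_inv := fun x => Subtype.ext (by
        show φ k (φ k⁻¹ x.1) = x.1
        rw [map_inv, MulAut.apply_inv_self])
      map_mul' := fun x y => Subtype.ext (by
        show φ k (x.1 * y.1) = φ k x.1 * φ k y.1
        rw [map_mul]) }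
  map_one' := by
    ext x
    show φ 1 x.1 = x.1
    rw [map_one]
    rfl
  map_mul' := by
    intro k k'
    ext x
    show φ (k * k') x.1 = φ k (φ k' x.1)
    rw [map_mul]
    rfl

theorem resAut_apply (φ : K →* MulAut G) (H : Subgroup G) (hH : ∀ k, ∀ x ∈ H, φ k x ∈ H)
    (k : K) (x : H) : ((resAut φ H hH k x : H) : G) = φ k x.1 := rfl

theorem map_eq_of_inv (φ : K →* MulAut G) (N : Subgroup G) (hN : ∀ k, ∀ x ∈ N, φ k x ∈ N)
    (k : K) : N.map ((φ k : G ≃* G) : G →* G) = N := by
  apply le_antisymm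
  · rintro _ ⟨x, hx, rfl⟩
    exact hN k x hx
  · intro x hx
    refine ⟨φ k⁻¹ x, hN k⁻¹ x hx, ?_⟩
    show φ k (φ k⁻¹ x) = x
    rw [map_inv, MulAut.apply_inv_self]

/-- the induced action on the quotient by an invariant normal subgroup -/
def quotAut (φ : K →* MulAut G) (N : Subgroup G) [N.Normal]
    (hN : ∀ k, ∀ x ∈ N, φ k x ∈ N) : K →* MulAut (G ⧸ N) where
  toFun k := QuotientGroup.congr N N (φ k) (map_eq_of_inv φ N hN k)
  map_one' := by
    ext x
    induction x using QuotientGroup.induction_on with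
    | H x =>
      rw [QuotientGroup.congr_mk, map_one]
      rfl
  map_mul' := by
    intro k k'
    ext x
    induction x using QuotientGroup.induction_on with
    | H x =>
      rw [MulAut.mul_apply, QuotientGroup.congr_mk, QuotientGroup.congr_mk, QuotientGroup.congr_mk,
        map_mul]
      rfl

theorem quotAut_mk (φ : K →* MulAut G) (N : Subgroup G) [N.Normal]
    (hN : ∀ k, ∀ x ∈ N, φ k x ∈ N) (k : K) (x : G) :
    quotAut φ N hN k (x : G ⧸ N) = ((φ k x : G) : G ⧸ N) :=
  QuotientGroup.congr_mk N N (φ k) (map_eq_of_inv φ N hN k) x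

end Actions

/-! ### powers in two-groups -/

section Pow

variable {G : Type*} [Group G] [Finite G]

theorem exists_pow_not_mem (hG : IsPGroup 2 G) (S : Subgroup G) (x : G) (hx : x ∉ S) :
    ∃ m : ℕ, x ^ m ∉ S ∧ x ^ m * x ^ m ∈ S := by
  classical
  haveI : Fact (Nat.Prime 2) := ⟨Nat.prime_two⟩
  have hex : ∃ j : ℕ, x ^ 2 ^ j ∈ S := by
    obtain ⟨j, hj⟩ := (IsPGroup.iff_orderOf.mp hG) x
    refine ⟨j, ?_⟩
    rw [← hj, pow_orderOf_eq_one]
    exact S.one_mem
  have hj0 : Nat.find hex ≠ 0 := by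
    intro h0
    have := Nat.find_spec hex
    rw [h0, pow_zero, pow_one] at this
    exact hx this
  obtain ⟨j, hj⟩ := Nat.exists_eq_succ_of_ne_zero hj0
  refine ⟨2 ^ j, ?_, ?_⟩
  · exact Nat.find_min hex (by omega)
  · have := Nat.find_spec hex
    rw [hj, pow_succ, pow_mul, sq] at this
    exact this

theorem exists_pow_invol (hG : IsPGroup 2 G) (x : G) (hx : x ≠ 1) :
    ∃ m : ℕ, x ^ m ≠ 1 ∧ x ^ m * x ^ m = 1 := by
  obtain ⟨m, h1, h2⟩ := exists_pow_not_mem hG ⊥ x (by rwa [Subgroup.mem_bot])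
  rw [Subgroup.mem_bot] at h1 h2
  exact ⟨m, h1, h2⟩

end Pow

/-! ### the class of groups -/

section Class

variable {K : Type v} [CommGroup K] {G : Type u} [Group G]

/-- a finite `2`-group with a commutative group of automorphisms acting regularly on its
involutions -/
structure IsHig (φ : K →* MulAut G) : Prop where
  fin : Finite G
  pgroup : IsPGroup 2 G
  reg : ∀ x y : G, x ≠ 1 → x * x = 1 → y ≠ 1 → y * y = 1 → ∃! k : K, φ k x = y
  ex : ∃ x : G, x ≠ 1 ∧ x * x = 1

variable {φ : K →* MulAut G}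

theorem IsHig.invol_mem_center (h : IsHig φ) (x : G) (hx : x * x = 1) :
    x ∈ Subgroup.center G := by
  haveI := h.fin
  haveI : Fact (Nat.Prime 2) := ⟨Nat.prime_two⟩
  by_cases hx1 : x = 1
  · rw [hx1]
    exact Subgroup.one_mem _
  haveI : Nontrivial G := ⟨⟨x, 1, hx1⟩⟩
  haveI := h.pgroup.center_nontrivial
  obtain ⟨⟨z, hz⟩, hz1⟩ := exists_ne (1 : Subgroup.center G)
  have hz1' : z ≠ 1 := fun h0 => hz1 (Subtype.ext h0)
  obtain ⟨m, hm1, hm2⟩ := exists_pow_invol h.pgroup z hz1'
  obtain ⟨k, hk, -⟩ := h.reg (z ^ m) x hm1 hm2 hx1 hx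
  rw [← hk]
  have hzm : z ^ m ∈ Subgroup.center G := Subgroup.pow_mem _ hz m
  rw [Subgroup.mem_center_iff] at hzm ⊢
  intro g
  have h1 := hzm (φ k⁻¹ g)
  have h2 := congrArg (φ k) h1
  rw [map_mul, map_mul, map_inv, MulAut.apply_inv_self] at h2
  exact h2

theorem IsHig.mem_Om_iff (h : IsHig φ) (z : G) : z ∈ Om G ↔ z * z = 1 :=
  ⟨fun hz => hz.2, fun hz => ⟨h.invol_mem_center z hz, hz⟩⟩

theorem IsHig.Om_inv (h : IsHig φ) : ∀ k, ∀ x ∈ Om G, φ k x ∈ Om G := by
  intro k x hx
  rw [h.mem_Om_iff] at hx ⊢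
  rw [← map_mul, hx, map_one]

theorem IsHig.Om_inv_iff (h : IsHig φ) (k : K) (x : G) : φ k x ∈ Om G ↔ x ∈ Om G := by
  constructor
  · intro hx
    have := h.Om_inv k⁻¹ _ hx
    rwa [map_inv, MulAut.inv_apply_self] at this
  · exact h.Om_inv k x

/-- no non-identity element of `K` fixes a non-identity element -/
theorem IsHig.fix_eq_one (h : IsHig φ) (k : K) (hk : k ≠ 1) (g : G) (hg : φ k g = g) : g = 1 := by
  haveI := h.fin
  by_contra hg1
  obtain ⟨m, hm1, hm2⟩ := exists_pow_invol h.pgroup g hg1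
  obtain ⟨k₀, -, huniq⟩ := h.reg (g ^ m) (g ^ m) hm1 hm2 hm1 hm2
  have h1 : φ k (g ^ m) = g ^ m := by rw [map_pow, hg]
  have h2 : φ 1 (g ^ m) = g ^ m := by rw [map_one]; rfl
  exact hk ((huniq k h1).trans (huniq 1 h2).symm)

/-- no non-identity element of `K` fixes a coset of an invariant subgroup other than the
subgroup itself -/
theorem IsHig.coset_fix (h : IsHig φ) (k : K) (hk : k ≠ 1) (N : Subgroup G)
    (hN : ∀ x ∈ N, φ k x ∈ N) (x : G) (hx : x⁻¹ * φ k x ∈ N) : x ∈ N := by
  haveI := h.fin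
  let f : N → N := fun n => ⟨n.1 * (φ k n.1)⁻¹, N.mul_mem n.2 (N.inv_mem (hN n.1 n.2))⟩
  have hf : Function.Injective f := by
    intro n m hnm
    have h1 : n.1 * (φ k n.1)⁻¹ = m.1 * (φ k m.1)⁻¹ := congrArg Subtype.val hnm
    have h2 : φ k (m.1⁻¹ * n.1) = m.1⁻¹ * n.1 := by
      rw [map_mul, map_inv]
      have : m.1⁻¹ * n.1 = (φ k m.1)⁻¹ * φ k n.1 := by
        have h3 : n.1 = m.1 * (φ k m.1)⁻¹ * φ k n.1 := by
          rw [← h1]
          group
        conv_lhs => rw [h3]
        group
      exact this.symm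
    have h3 := h.fix_eq_one k hk _ h2
    apply Subtype.ext
    have : n.1 = m.1 * (m.1⁻¹ * n.1) := by group
    rw [this, h3, mul_one]
  have hs : Function.Surjective f := Finite.surjective_of_injective hf
  obtain ⟨n, hn⟩ := hs ⟨x⁻¹ * φ k x, hx⟩
  have hn' : n.1 * (φ k n.1)⁻¹ = x⁻¹ * φ k x := congrArg Subtype.val hn
  have hfix : φ k (x * n.1) = x * n.1 := by
    rw [map_mul]
    have : φ k x = x * (x⁻¹ * φ k x) := by group
    rw [this, ← hn']
    group
  have h1 := h.fix_eq_one k hk _ hfix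
  have h2 : x = n.1⁻¹ := eq_inv_of_mul_eq_one_left h1
  rw [h2]
  exact N.inv_mem n.2

/-- the action on the central involutions satisfies the hypotheses of the field construction -/
theorem IsHig.regOm (h : IsHig φ) : Reg (resAut φ (Om G) h.Om_inv) where
  exp := fun z => Subtype.ext (Om_sq z.2)
  reg := by
    intro x y hx hy
    have hx1 : x.1 ≠ 1 := fun h0 => hx (Subtype.ext h0)
    have hy1 : y.1 ≠ 1 := fun h0 => hy (Subtype.ext h0)
    obtain ⟨k, hk, huniq⟩ := h.reg x.1 y.1 hx1 (Om_sq x.2) hy1 (Om_sq y.2)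
    refine ⟨k, Subtype.ext hk, ?_⟩
    intro k' hk'
    exact huniq k' (congrArg Subtype.val hk')
  ne := by
    obtain ⟨x, hx1, hx2⟩ := h.ex
    exact ⟨⟨x, (h.mem_Om_iff x).mpr hx2⟩, fun h0 => hx1 (congrArg Subtype.val h0)⟩

theorem IsHig.finite_K (h : IsHig φ) : Finite K := by
  haveI := h.fin
  obtain ⟨x, hx1, hx2⟩ := h.ex
  apply Finite.of_injective (fun k : K => φ k x)
  intro k k' hkk'
  have hy1 : φ k' x ≠ 1 := by
    intro h0
    apply hx1
    have := congrArg (φ k'⁻¹) h0
    rwa [map_inv, MulAut.inv_apply_self, map_one] at this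
  have hy2 : φ k' x * φ k' x = 1 := by rw [← map_mul, hx2, map_one]
  obtain ⟨k₀, -, huniq⟩ := h.reg x (φ k' x) hx1 hx2 hy1 hy2
  exact (huniq k hkk').trans (huniq k' rfl).symm

theorem IsHig.card_Om (h : IsHig φ) : Nat.card (Om G) = Nat.card K + 1 := by
  classical
  haveI := h.fin
  haveI := h.finite_K
  obtain ⟨x, hx1, hx2⟩ := h.ex
  rw [← Finite.card_option]
  symm
  apply Nat.card_congr
  let f : Option K → Om G := fun o =>
    match o with
    | none => 1
    | some k => ⟨φ k x, h.Om_inv k x ((h.mem_Om_iff x).mpr hx2)⟩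
  have hne : ∀ k : K, φ k x ≠ 1 := by
    intro k h0
    apply hx1
    have := congrArg (φ k⁻¹) h0
    rwa [map_inv, MulAut.inv_apply_self, map_one] at this
  refine Equiv.ofBijective f ⟨?_, ?_⟩
  · intro a b hab
    cases a with
    | none =>
      cases b with
      | none => rfl
      | some k' =>
        exfalso
        have : (1 : G) = φ k' x := congrArg Subtype.val hab
        exact hne k' this.symm
    | some k =>
      cases b with
      | none =>
        exfalso
        have : φ k x = 1 := congrArg Subtype.val hab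
        exact hne k this
      | some k' =>
        have h1 : φ k x = φ k' x := congrArg Subtype.val hab
        have hy2 : φ k' x * φ k' x = 1 := by rw [← map_mul, hx2, map_one]
        obtain ⟨k₀, -, huniq⟩ := h.reg x (φ k' x) hx1 hx2 (hne k') hy2
        rw [(huniq k h1).trans (huniq k' rfl).symm]
  · intro z
    by_cases hz : z = 1
    · exact ⟨none, hz.symm⟩
    · have hz1 : z.1 ≠ 1 := fun h0 => hz (Subtype.ext h0)
      obtain ⟨k, hk, -⟩ := h.reg x z.1 hx1 hx2 hz1 (Om_sq z.2)
      exact ⟨some k, Subtype.ext hk⟩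

/-- `K` acts freely on the non-identity elements -/
theorem IsHig.card_dvd (h : IsHig φ) : Nat.card K ∣ Nat.card G - 1 := by
  classical
  haveI := h.fin
  haveI := h.finite_K
  haveI : Fintype K := Fintype.ofFinite K
  haveI : Fintype G := Fintype.ofFinite G
  letI : MulAction K G := MulAction.compHom G φ
  have hsmul : ∀ (k : K) (g : G), k • g = φ k g := fun k g => rfl
  have hB := MulAction.sum_card_fixedBy_eq_card_orbits_mul_card_group K G
  have h1 : ∀ k : K, k ≠ 1 → Fintype.card (MulAction.fixedBy G k) = 1 := by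
    intro k hk
    rw [Fintype.card_eq_one_iff]
    refine ⟨⟨1, ?_⟩, ?_⟩
    · rw [MulAction.mem_fixedBy, hsmul, map_one]
    · rintro ⟨g, hg⟩
      apply Subtype.ext
      rw [MulAction.mem_fixedBy, hsmul] at hg
      exact h.fix_eq_one k hk g hg
  have h2 : Fintype.card (MulAction.fixedBy G (1 : K)) = Fintype.card G := by
    apply Fintype.card_of_subtype Finset.univ
    intro g
    simp [MulAction.mem_fixedBy]
  rw [← Finset.add_sum_erase Finset.univ _ (Finset.mem_univ (1 : K)), h2] at hB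
  have h3 : ∑ k ∈ Finset.univ.erase (1 : K), Fintype.card (MulAction.fixedBy G k) =
      Fintype.card K - 1 := by
    rw [Finset.sum_congr rfl (fun k hk => h1 k (Finset.ne_of_mem_erase hk))]
    simp
  rw [h3] at hB
  rw [Nat.card_eq_fintype_card, Nat.card_eq_fintype_card]
  have hKpos : 0 < Fintype.card K := Fintype.card_pos
  have hGpos : 0 < Fintype.card G := Fintype.card_pos
  have h4 : Fintype.card G - 1 + Fintype.card K =
      Fintype.card (Quotient (MulAction.orbitRel K G)) * Fintype.card K := by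
    rw [← hB]
    omega
  have h5 : Fintype.card K ∣ Fintype.card G - 1 + Fintype.card K := by
    rw [h4]
    exact dvd_mul_left _ _
  exact (Nat.dvd_add_iff_left (dvd_refl _)).mpr h5

theorem IsHig.sub (h : IsHig φ) (H : Subgroup G) (hH : ∀ k, ∀ x ∈ H, φ k x ∈ H)
    (hex : ∃ x ∈ H, x ≠ 1 ∧ x * x = 1) : IsHig (resAut φ H hH) where
  fin := by
    haveI := h.fin
    infer_instance
  pgroup := h.pgroup.to_subgroup H
  reg := by
    intro x y hx hx2 hy hy2
    have hx1 : x.1 ≠ 1 := fun h0 => hx (Subtype.ext h0)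
    have hy1 : y.1 ≠ 1 := fun h0 => hy (Subtype.ext h0)
    obtain ⟨k, hk, huniq⟩ := h.reg x.1 y.1 hx1 (congrArg Subtype.val hx2) hy1
      (congrArg Subtype.val hy2)
    refine ⟨k, Subtype.ext hk, ?_⟩
    intro k' hk'
    exact huniq k' (congrArg Subtype.val hk')
  ex := by
    obtain ⟨x, hxH, hx1, hx2⟩ := hex
    exact ⟨⟨x, hxH⟩, fun h0 => hx1 (congrArg Subtype.val h0), Subtype.ext hx2⟩

end Class

/-! ### the second centre-like subgroup -/

section WDef

variable {G : Type u} [Group G]

theorem exists_Om_ne_one [Finite G] [Nontrivial G] (hG : IsPGroup 2 G) :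
    ∃ z ∈ Om G, z ≠ 1 := by
  haveI : Fact (Nat.Prime 2) := ⟨Nat.prime_two⟩
  haveI := hG.center_nontrivial
  obtain ⟨⟨z, hz⟩, hz1⟩ := exists_ne (1 : Subgroup.center G)
  have hz1' : z ≠ 1 := fun h0 => hz1 (Subtype.ext h0)
  obtain ⟨m, hm1, hm2⟩ := exists_pow_invol hG z hz1'
  exact ⟨z ^ m, ⟨Subgroup.pow_mem _ hz m, hm2⟩, hm1⟩

variable (G)

/-- the preimage of the central involutions of `G ⧸ Om G` -/
def W : Subgroup G := (Om (G ⧸ Om G)).comap (QuotientGroup.mk' (Om G))

variable {G}

theorem mem_W {x : G} : x ∈ W G ↔ x * x ∈ Om G ∧ ∀ g, cm x g ∈ Om G := by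
  show ((x : G ⧸ Om G) ∈ Subgroup.center (G ⧸ Om G) ∧ (x : G ⧸ Om G) * (x : G ⧸ Om G) = 1) ↔ _
  rw [and_comm]
  apply and_congr
  · rw [← QuotientGroup.mk_mul, QuotientGroup.eq_one_iff]
  · rw [Subgroup.mem_center_iff]
    constructor
    · intro hx g
      have := hx (g : G ⧸ Om G)
      rw [← QuotientGroup.mk_mul, ← QuotientGroup.mk_mul, QuotientGroup.eq] at this
      have h2 : cm x g = (g * x)⁻¹ * (x * g) := by
        unfold cm; group
      rw [h2]
      exact this
    · intro hx g
      induction g using QuotientGroup.induction_on with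
      | H g =>
        rw [← QuotientGroup.mk_mul, ← QuotientGroup.mk_mul, QuotientGroup.eq]
        have h2 : cm x g = (g * x)⁻¹ * (x * g) := by
          unfold cm; group
        rw [← h2]
        exact hx g

theorem Om_le_W : Om G ≤ W G := by
  intro z hz
  rw [mem_W]
  refine ⟨by rw [Om_sq hz]; exact (Om G).one_mem, ?_⟩
  intro g
  have : cm z g = 1 := by
    rw [cm_eq_one_iff]
    exact (Om_comm hz g).symm
  rw [this]
  exact (Om G).one_mem

instance W_normal : (W G).Normal := by
  unfold W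
  have : (Om (G ⧸ Om G)).Normal := inferInstance
  exact Subgroup.Normal.comap this _

theorem W_sq {x : G} (hx : x ∈ W G) : x * x ∈ Om G := (mem_W.mp hx).1

theorem W_cm {x : G} (hx : x ∈ W G) (g : G) : cm x g ∈ Om G := (mem_W.mp hx).2 g

theorem W_cm' {x : G} (hx : x ∈ W G) (g : G) : cm g x ∈ Om G := by
  rw [← cm_inv_symm]
  exact (Om G).inv_mem (W_cm hx g)

end WDef

end Cfsg.Agent.Lib.Helper9_HigBase
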