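import Mathlib
import Cfsg.Agent.Lib.Helper9_HigBase
import Cfsg.Agent.Lib.Helper63_ShFrattini

/-!
# The final shell of S3776 (helper63, for helper76's plan)

From the structural alternative "`G` abelian, or all squares lie in `Ω₁(Z(G))` and `Z(G)` has exponent
`2`" to the frozen conclusion `G' = Φ(G) = Z(G) = {x | x ^ 2 = 1}`.
-/

set_option autoImplicit false
set_option linter.unusedSectionVars false

namespace Cfsg.Agent.Lib.Helper63_ShShell

open scoped commutatorElement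
open Cfsg.Agent.Lib.Helper9_HigBase

variable {G : Type*} [Group G] [Finite G]

/-- a nontrivial characteristic subgroup contains all `x` with `x ^ 2 = 1` -/
theorem sq_mem_characteristic (hG : IsPGroup 2 G) (Y : Subgroup (MulAut G))
    (htr : ∀ x y : G, x ≠ 1 → x ^ 2 = 1 → y ≠ 1 → y ^ 2 = 1 → ∃ a ∈ Y, a x = y)
    (N : Subgroup G) [hNc : N.Characteristic] (hN : N ≠ ⊥) (x : G) (hx : x ^ 2 = 1) : x ∈ N := by
  classical
  have : Fact (Nat.Prime 2) := ⟨Nat.prime_two⟩
  by_cases hx1 : x = 1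
  · rw [hx1]; exact N.one_mem
  have hnt : Nontrivial N := (Subgroup.nontrivial_iff_ne_bot N).mpr hN
  have h2 : 2 ∣ Nat.card N := by
    obtain ⟨n, hn0, hn⟩ := (hG.to_subgroup N).nontrivial_iff_card.mp hnt
    rw [hn]; exact dvd_pow_self 2 hn0.ne'
  obtain ⟨z, hz⟩ := exists_prime_orderOf_dvd_card' 2 h2
  have hz' : orderOf (z : G) = 2 := by rw [Subgroup.orderOf_coe]; exact hz
  have hz2 : (z : G) ^ 2 = 1 := by rw [← hz']; exact pow_orderOf_eq_one _
  have hz1 : (z : G) ≠ 1 := by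
    intro h
    rw [h, orderOf_one] at hz'
    norm_num at hz'
  obtain ⟨a, -, ha⟩ := htr _ x hz1 hz2 hx1 hx
  have hle := Subgroup.characteristic_iff_map_le.mp hNc a
  rw [← ha]
  exact hle ⟨(z : G), z.2, rfl⟩

/-- **Shell.** -/
theorem shell (hG : IsPGroup 2 G) (hna : ¬ IsMulCommutative G)
    (Y : Subgroup (MulAut G))
    (htr : ∀ x y : G, x ≠ 1 → x ^ 2 = 1 → y ≠ 1 → y ^ 2 = 1 → ∃ a ∈ Y, a x = y)
    (hmain : (∀ a b : G, a * b = b * a) ∨
      ((∀ x : G, x * x ∈ Om G) ∧ (∀ z ∈ Subgroup.center G, z * z = 1))) :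
    commutator G = frattini G ∧ frattini G = Subgroup.center G ∧
      ∀ x : G, x ∈ Subgroup.center G ↔ x ^ 2 = 1 := by
  classical
  have : Fact (Nat.Prime 2) := ⟨Nat.prime_two⟩
  rcases hmain with hab | ⟨h1, h2⟩
  · exact absurd ⟨⟨hab⟩⟩ hna
  have hnt : Nontrivial G := by
    by_contra hnt
    rw [not_nontrivial_iff_subsingleton] at hnt
    exact hna ⟨⟨fun a b => Subsingleton.elim _ _⟩⟩
  have hcne : Subgroup.center G ≠ ⊥ := (hG.bot_lt_center).ne'
  have hinv : ∀ x : G, x ^ 2 = 1 → x ∈ Subgroup.center G :=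
    sq_mem_characteristic hG Y htr (Subgroup.center G) hcne
  have hcomne : commutator G ≠ ⊥ := by
    intro hb
    apply hna
    refine ⟨⟨fun a b => ?_⟩⟩
    have h3 : ⁅a, b⁆ ∈ commutator G :=
      Subgroup.commutator_mem_commutator (Subgroup.mem_top _) (Subgroup.mem_top _)
    rw [hb, Subgroup.mem_bot] at h3
    exact commutatorElement_eq_one_iff_mul_comm.mp h3
  have hVcomm : Subgroup.center G ≤ commutator G := by
    intro z hz
    have hz2 : z ^ 2 = 1 := by rw [pow_two]; exact h2 z hz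
    exact sq_mem_characteristic hG Y htr (commutator G) hcomne z hz2
  obtain ⟨e1, e2⟩ := Cfsg.Agent.Lib.Helper63_ShFrattini.sh_frattini hG (Subgroup.center G) le_rfl
    (fun x => (h1 x).1) h2 hVcomm
  refine ⟨e1.trans e2.symm, e2, fun x => ⟨fun hx => ?_, hinv x⟩⟩
  rw [pow_two]; exact h2 x hx

end Cfsg.Agent.Lib.Helper63_ShShell
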