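import Cfsg.Agent.Lib.Helper9_HigKey

/-!
# Shult's theorem: the field-level packages (helper76)

Statements (as `Prop`-valued definitions) of the two field-level facts consumed by the group
theoretic part of the proof of Shult's theorem on Suzuki `2`-groups, for a finite field `F` of
characteristic two and `lam : Fˣ`.
-/

set_option autoImplicit false
set_option linter.unusedSectionVars false

namespace Cfsg.Agent.Lib.Helper76_ShPkg

open Cfsg.Agent.Lib.Helper9_HigLP Cfsg.Agent.Lib.Helper9_HigLine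

variable {F : Type*} [Field F] [Fintype F] [CharP F 2]

/-- invariance under the torus element `lam` -/
def InvC (n : ℕ) (lam : Fˣ) (D : AddSubgroup (Fin n → F)) : Prop := ∀ c ∈ D, T n lam c ∈ D

/-- no non-identity power of `lam` fixes a nonzero element of `D` -/
def SemiRegC (n : ℕ) (lam : Fˣ) (D : AddSubgroup (Fin n → F)) : Prop :=
  ∀ κ ∈ Subgroup.zpowers lam, ∀ c ∈ D, c ≠ 0 → T n κ c = c → κ = 1

/-- invariant semiregular subgroups are sums of coordinate lines -/
def LinesPkg (n : ℕ) (lam : Fˣ) : Prop :=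
  ∀ D : AddSubgroup (Fin n → F), InvC n lam D → SemiRegC n lam D →
    (∀ c ∈ D, ∀ t : Fin n, Pi.single t (c t) ∈ D) ∧
      (∀ t : Fin n, line n t ⊓ D ≠ ⊥ → line n t ≤ D)

/-- alternating biadditive maps equivariant under `lam` vanish -/
def AltPkg (lam : Fˣ) : Prop :=
  ∀ B : F →+ F →+ F, (∀ x, B x x = 0) →
    (∀ x y, B ((lam : F) * x) ((lam : F) * y) = (lam : F) * B x y) → B = 0

theorem InvC.zpow {n : ℕ} {lam : Fˣ} {D : AddSubgroup (Fin n → F)} (hD : InvC n lam D) :
    ∀ κ ∈ Subgroup.zpowers lam, ∀ c ∈ D, T n κ c ∈ D := by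
  have hpow : ∀ j : ℕ, ∀ c ∈ D, T n (lam ^ j) c ∈ D := by
    intro j
    induction j with
    | zero =>
      intro c hc
      rw [pow_zero, T_one]
      exact hc
    | succ j ih =>
      intro c hc
      rw [pow_succ, T_mul]
      exact ih _ (hD c hc)
  intro κ hκ c hc
  rw [← mem_powers_iff_mem_zpowers] at hκ
  obtain ⟨j, rfl⟩ := hκ
  exact hpow j c hc

end Cfsg.Agent.Lib.Helper76_ShPkg
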