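import Cfsg.Agent.Lib.Helper76_ShBase
import Cfsg.Agent.Lib.Helper76_ShPkg
import Cfsg.Agent.Lib.Helper12_Shult_Lines

/-!
# Shult's theorem: the field-level packages hold (helper76, from helper12's `Shult_Lines`)
-/

set_option autoImplicit false
set_option linter.unusedSectionVars false

namespace Cfsg.Agent.Lib.Helper76_ShPkg

open Cfsg.Agent.Lib.Helper12_Shult_NT Cfsg.Agent.Lib.Helper9_HigLine

variable {F : Type*} [Field F] [Fintype F] [CharP F 2]

theorem linesPkg_of_arith {n d m : ℕ} (hF : Fintype.card F = 2 ^ n) (h : Arith n d m)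
    (lam : Fˣ) (hl : orderOf lam = m) : LinesPkg n lam := by
  intro D hD hsr
  have hD' : Cfsg.Agent.Lib.Helper12_Shult_Lines.InvC n (Subgroup.zpowers lam) D :=
    fun κ hκ c hc => hD.zpow κ hκ c hc
  have hsr' : Cfsg.Agent.Lib.Helper12_Shult_Lines.SemiRegC n (Subgroup.zpowers lam) D := hsr
  exact ⟨fun c hc t =>
      Cfsg.Agent.Lib.Helper12_Shult_Lines.single_mem_C n hF h lam hl D hD' hsr' c hc t,
    fun t hne =>
      Cfsg.Agent.Lib.Helper12_Shult_Lines.line_le_of_inf_ne_bot_C n hF h lam hl D hD' hsr' t hne⟩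

theorem altPkg_of_arith {n d m : ℕ} (hF : Fintype.card F = 2 ^ n) (h : Arith n d m)
    (lam : Fˣ) (hl : orderOf lam = m) : AltPkg lam :=
  fun B halt heq => Cfsg.Agent.Lib.Helper12_Shult_Lines.alt_trivial_C n hF h lam hl B halt heq

theorem irr_of_arith {n d m : ℕ} (hF : Fintype.card F = 2 ^ n) (h : Arith n d m)
    (lam : Fˣ) (hl : orderOf lam = m) :
    ∀ S : AddSubgroup F, (∀ x ∈ S, (lam : F) * x ∈ S) → S ≠ ⊥ → S = ⊤ := by
  intro S hS hne
  rcases Cfsg.Agent.Lib.Helper12_Shult_Lines.eq_bot_or_eq_top_of_mul_mem n hF h lam hl S hS with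
    h0 | h0
  · exact absurd h0 hne
  · exact h0

end Cfsg.Agent.Lib.Helper76_ShPkg

namespace Cfsg.Agent.Lib.Helper76_ShBase

open Cfsg.Agent.Lib.Helper12_Shult_NT Cfsg.Agent.Lib.Helper76_ShPkg

universe u v

variable {F : Type u} [Field F] [Fintype F] [CharP F 2]
variable {K : Type v} [CommGroup K] {G : Type u} [Group G]
variable {n d : ℕ} {lam : Fˣ} {χ : K →* Fˣ} {φ : K →* MulAut G} {e : G → F}

theorem IsSh.arith (h : IsSh n d lam χ φ e) : Arith n d (orderOf lam) :=
  ⟨h.hn, h.hlam, h.hd⟩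

theorem IsSh.linesPkg (h : IsSh n d lam χ φ e) : LinesPkg n lam :=
  linesPkg_of_arith h.cardF h.arith lam rfl

theorem IsSh.altPkg (h : IsSh n d lam χ φ e) : AltPkg lam :=
  altPkg_of_arith h.cardF h.arith lam rfl

end Cfsg.Agent.Lib.Helper76_ShBase
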