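import Cfsg.Agent.S3360
import Cfsg.Agent.Lib.Helper9_HigBase
import Cfsg.Agent.Lib.Helper12_FpfLinearize
import Cfsg.Agent.Lib.Helper12_Hup1
import Cfsg.Agent.Lib.Helper23_EqOrd_EOD
import Cfsg.Agent.Lib.Helper63_ShShell
import Cfsg.Agent.Lib.Helper76_ShPkgPf

/-!
# The field model of a Suzuki `2`-group with a solvable transitive automorphism group (helper12)

From the hypotheses of S3776 (a finite `2`-group `G` with at least two involutions and a solvable
group `Y` of automorphisms transitive on the involutions), Huppert's theorem `S3360.result`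
identifies `Ω₁(Z(G))` (all the involutions) with the additive group of a field `F` of order
`2 ^ n` in such a way that ONE element `ξ ∈ Y` acts as the multiplication by a scalar `lam` whose
order `m` satisfies `m * d = 2 ^ n - 1` with `d ∣ n`.
-/

set_option autoImplicit false
set_option linter.unusedSectionVars false
set_option linter.unusedVariables false
set_option linter.style.haveILetI false
set_option linter.unusedSimpArgs false

namespace Cfsg.Agent.Lib.Helper12_Shult_Model

open Cfsg.Agent.Lib.Helper9_HigBase Cfsg.Agent.Lib.Helper12_FpfLinearize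

universe u

variable {G : Type u} [Group G]

theorem mem_Om_iff_omegaCenter (z : G) : z ∈ Om G ↔ z ∈ omegaCenter G 2 := by
  rw [mem_Om, mem_omegaCenter, pow_two]

theorem two_nsmul_V (v : Additive ↥(omegaCenter G 2)) : 2 • v = 0 := by
  apply Additive.toMul.injective
  apply Subtype.ext
  exact (Additive.toMul v).2.2

/-- the `ZMod 2`-module structure on the additive group of the central involutions -/
@[reducible] noncomputable def modV : Module (ZMod 2) (Additive ↥(omegaCenter G 2)) :=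
  AddCommGroup.zmodModule two_nsmul_V

attribute [local instance] modV

/-- the linear action of the automorphism group on the central involutions -/
noncomputable def rho (G : Type u) [Group G] :
    MulAut G →* (Additive ↥(omegaCenter G 2) ≃ₗ[ZMod 2] Additive ↥(omegaCenter G 2)) :=
  MonoidHom.mk' (fun φ => LinearEquiv.ofLinearMap ((actK G 2 φ).toZModLinearMap 2)
      ((actK G 2 φ⁻¹).toZModLinearMap 2)
      (by
        refine LinearMap.ext fun v => ?_
        show actK G 2 φ (actK G 2 φ⁻¹ v) = v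
        have h : actK G 2 φ * actK G 2 φ⁻¹ = 1 := by rw [← map_mul, mul_inv_cancel, map_one]
        exact DFunLike.congr_fun h v)
      (by
        refine LinearMap.ext fun v => ?_
        show actK G 2 φ⁻¹ (actK G 2 φ v) = v
        have h : actK G 2 φ⁻¹ * actK G 2 φ = 1 := by rw [← map_mul, inv_mul_cancel, map_one]
        exact DFunLike.congr_fun h v))
    (by
      intro φ ψ
      refine LinearEquiv.ext fun v => ?_
      show actK G 2 (φ * ψ) v = actK G 2 φ (actK G 2 ψ v)
      rw [map_mul]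
      rfl)

theorem rho_apply (φ : MulAut G) (v : Additive ↥(omegaCenter G 2)) :
    ((Additive.toMul (rho G φ v) : ↥(omegaCenter G 2)) : G) =
      φ ((Additive.toMul v : ↥(omegaCenter G 2)) : G) := rfl

/-- **Field model.** -/
theorem field_model [Finite G] (hG : IsPGroup 2 G)
    (htwo : ∃ x y : G, x ≠ y ∧ x ≠ 1 ∧ x ^ 2 = 1 ∧ y ≠ 1 ∧ y ^ 2 = 1)
    (Y : Subgroup (MulAut G)) (hsol : Group.IsSolvable Y)
    (htr : ∀ x y : G, x ≠ 1 → x ^ 2 = 1 → y ≠ 1 → y ^ 2 = 1 → ∃ a ∈ Y, a x = y) :
    ∃ (n d : ℕ) (F : Type) (_ : Field F) (_ : Fintype F) (_ : CharP F 2) (lam : Fˣ)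
      (ξ : MulAut G) (e : G → F),
      ξ ∈ Y ∧ Fintype.card F = 2 ^ n ∧ 2 ≤ n ∧ d ∣ n ∧ orderOf lam * d = 2 ^ n - 1 ∧
      (∀ x : G, x * x = 1 → x ∈ Subgroup.center G) ∧
      Set.BijOn e (Om G) Set.univ ∧ (∀ x ∈ Om G, ∀ y ∈ Om G, e (x * y) = e x + e y) ∧
      (∀ z ∈ Om G, e (ξ z) = (lam : F) * e z) := by
  classical
  haveI : Fact (Nat.Prime 2) := ⟨Nat.prime_two⟩
  obtain ⟨x₀, y₀, hxy₀, hx₀1, hx₀2, hy₀1, hy₀2⟩ := htwo
  haveI : Nontrivial G := ⟨⟨x₀, 1, hx₀1⟩⟩
  -- involutions are central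
  have hcne : Subgroup.center G ≠ ⊥ := by
    haveI := hG.center_nontrivial
    exact (Subgroup.nontrivial_iff_ne_bot _).mp inferInstance
  have hcent : ∀ x : G, x ^ 2 = 1 → x ∈ Subgroup.center G := fun x hx =>
    Cfsg.Agent.Lib.Helper63_ShShell.sq_mem_characteristic hG Y htr (Subgroup.center G) hcne x hx
  have hmemV : ∀ x : G, x ^ 2 = 1 → x ∈ omegaCenter G 2 := fun x hx => ⟨hcent x hx, hx⟩
  -- notation
  let V := Additive ↥(omegaCenter G 2)
  let toV : ∀ x : G, x ^ 2 = 1 → V := fun x hx => Additive.ofMul ⟨x, hmemV x hx⟩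
  haveI : Finite V := inferInstanceAs (Finite ↥(omegaCenter G 2))
  haveI : Nontrivial V := by
    refine ⟨⟨toV x₀ hx₀2, 0, ?_⟩⟩
    intro h0
    have h1 := congrArg (fun v : V => ((Additive.toMul v : ↥(omegaCenter G 2)) : G)) h0
    exact hx₀1 h1
  -- the linear group
  let r : Y →* (V ≃ₗ[ZMod 2] V) := (rho G).comp Y.subtype
  let H : Subgroup (V ≃ₗ[ZMod 2] V) := r.range
  have hsolH : Group.IsSolvable H :=
    Group.isSolvable_of_surjective (f := r.rangeRestrict) r.rangeRestrict_surjective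
  have hfinL : Finite (V ≃ₗ[ZMod 2] V) :=
    Cfsg.Agent.Lib.Helper12_ExcNF.finite_linearEquiv (p := 2) (V := V)
  have htrH : Cfsg.Agent.Lib.Helper12_Hup1.Trans H := by
    intro v w hv hw
    have hv1 : ((Additive.toMul v : ↥(omegaCenter G 2)) : G) ≠ 1 := by
      intro h0
      apply hv
      apply Additive.toMul.injective
      exact Subtype.ext h0
    have hw1 : ((Additive.toMul w : ↥(omegaCenter G 2)) : G) ≠ 1 := by
      intro h0
      apply hw
      apply Additive.toMul.injective
      exact Subtype.ext h0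
    obtain ⟨a, ha, hav⟩ := htr _ _ hv1 (Additive.toMul v).2.2 hw1 (Additive.toMul w).2.2
    refine ⟨⟨r ⟨a, ha⟩, ⟨⟨a, ha⟩, rfl⟩⟩, ?_⟩
    apply Additive.toMul.injective
    apply Subtype.ext
    exact hav
  -- the cardinality of `V`
  obtain ⟨n, hn⟩ := (IsPGroup.iff_card.mp (hG.to_subgroup (omegaCenter G 2)))
  have hcardV : Nat.card V = 2 ^ n := hn
  have hn2 : 2 ≤ n := by
    by_contra hcon
    have h1 : n ≤ 1 := by omega
    have h2 : Nat.card V ≤ 2 := by
      rw [hcardV]
      calc 2 ^ n ≤ 2 ^ 1 := Nat.pow_le_pow_right (by norm_num) h1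
        _ = 2 := by norm_num
    haveI : Fintype V := Fintype.ofFinite V
    rw [Nat.card_eq_fintype_card] at h2
    have h3 : 2 < Fintype.card V := by
      rw [Fintype.two_lt_card_iff]
      refine ⟨toV x₀ hx₀2, toV y₀ hy₀2, 0, ?_, ?_, ?_⟩
      · intro h0
        have h1 := congrArg (fun v : V => ((Additive.toMul v : ↥(omegaCenter G 2)) : G)) h0
        exact hxy₀ h1
      · intro h0
        have h1 := congrArg (fun v : V => ((Additive.toMul v : ↥(omegaCenter G 2)) : G)) h0
        exact hx₀1 h1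
      · intro h0
        have h1 := congrArg (fun v : V => ((Additive.toMul v : ↥(omegaCenter G 2)) : G)) h0
        exact hy₀1 h1
    omega
  -- Huppert
  have hHup := Cfsg.Agent.S3360.result 2 (V := V) (G := H) hsolH H.subtype
    Subtype.val_injective (fun v w hv hw => htrH v w hv hw)
  rcases hHup with ⟨F, iF, iFt, e, hsl⟩ | hexc
  swap
  · exfalso
    have h2 : 2 ∣ Nat.card V := by
      rw [hcardV]
      exact dvd_pow_self 2 (by omega)
    simp only [Set.mem_insert_iff, Set.mem_singleton_iff] at hexc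
    omega
  -- the field has characteristic two and `2 ^ n` elements
  have h2F : (2 : F) = 0 := by
    have h1 : e (2 • e.symm 1) = 0 := by rw [two_nsmul_V, map_zero]
    rw [map_nsmul, AddEquiv.apply_symm_apply] at h1
    simpa using h1
  haveI iC : CharP F 2 := CharTwo.of_one_ne_zero_of_two_eq_zero one_ne_zero h2F
  have hF : Fintype.card F = 2 ^ n := by
    rw [← hcardV, ← Nat.card_eq_fintype_card]
    exact (Nat.card_congr e.toEquiv).symm
  -- the semilinear description
  choose a σ hασ using hsl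
  have ha0 : ∀ g : H, a g ≠ 0 := by
    intro g h0
    have h1 := hασ g (e.symm 1)
    rw [h0, zero_mul] at h1
    have h2 : H.subtype g (e.symm 1) = 0 := by
      apply e.injective; rw [h1, map_zero]
    have h3 : e.symm 1 = 0 := (H.subtype g).injective (h2.trans (map_zero (H.subtype g)).symm)
    have h4 : (1 : F) = 0 := by
      have h5 := congrArg e h3
      simp at h5
    exact one_ne_zero h4
  have huniq : ∀ (g : H) (b : F) (τ : F ≃+* F), (∀ w : F, a g * σ g w = b * τ w) →
      a g = b ∧ σ g = τ := by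
    intro g b τ hw
    have hab : a g = b := by simpa using hw 1
    refine ⟨hab, ?_⟩
    ext w
    have h1 := hw w
    rw [← hab] at h1
    exact mul_left_cancel₀ (ha0 g) h1
  have hmul : ∀ g k : H, a (g * k) = a g * σ g (a k) ∧ σ (g * k) = σ g * σ k := by
    intro g k
    apply huniq
    intro w
    have h1 := hασ (g * k) (e.symm w)
    rw [map_mul] at h1
    have h2 : (H.subtype g * H.subtype k) (e.symm w) = H.subtype g (H.subtype k (e.symm w)) := rfl
    rw [h2, hασ g, hασ k, AddEquiv.apply_symm_apply, map_mul] at h1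
    rw [← h1, mul_assoc]
    rfl
  let sig : H →* RingAut F := MonoidHom.mk' σ (fun g k => (hmul g k).2)
  let α : sig.ker →* Fˣ := MonoidHom.mk' (fun g => Units.mk0 (a g.1) (ha0 g.1)) (by
    intro g k
    apply Units.ext
    have hg : σ g.1 = 1 := g.2
    show a (g.1 * k.1) = a g.1 * a k.1
    rw [(hmul g.1 k.1).1, hg]
    rfl)
  have hαinj : Function.Injective α := by
    rw [injective_iff_map_eq_one]
    intro g hg
    have hg1 : σ g.1 = 1 := g.2
    have hg2 : a g.1 = 1 := congrArg Units.val hg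
    apply Subtype.ext
    apply Subtype.ext
    show (g.1 : V ≃ₗ[ZMod 2] V) = 1
    refine LinearEquiv.ext fun v => ?_
    apply e.injective
    have := hασ g.1 v
    rw [hg1, hg2, one_mul] at this
    exact this
  -- counting
  have hR : Nat.card sig.range ∣ n := by
    have h1 := Subgroup.card_subgroup_dvd_card sig.range
    have h2 : Nat.card (RingAut F) = n :=
      Cfsg.Agent.Lib.Helper23_EqOrd_EOD.card_ringEquiv_self (p := 2) hF
    rwa [h2] at h1
  have hHcard : Nat.card H = Nat.card sig.range * Nat.card sig.ker := by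
    rw [Subgroup.card_eq_card_quotient_mul_card_subgroup sig.ker,
      Nat.card_congr (QuotientGroup.quotientKerEquivRange sig).toEquiv]
  have hdvdH : (2 ^ n - 1) ∣ Nat.card H := by
    have := Cfsg.Agent.Lib.Helper12_Hup1.card_sub_one_dvd H htrH
    rwa [hcardV] at this
  have hcardα : Nat.card α.range = Nat.card sig.ker :=
    (Nat.card_congr (MonoidHom.ofInjective hαinj).toEquiv).symm
  have hcardFu : Nat.card Fˣ = 2 ^ n - 1 := by
    rw [Nat.card_units, Nat.card_eq_fintype_card, hF]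
  have hmdvd : Nat.card α.range ∣ 2 ^ n - 1 := by
    rw [← hcardFu]
    exact Subgroup.card_subgroup_dvd_card α.range
  -- the generator
  haveI : IsCyclic α.range := Subgroup.isCyclic α.range
  obtain ⟨⟨lam, hlam⟩, hgen⟩ := IsCyclic.exists_generator (α := α.range)
  have hord : orderOf lam = Nat.card α.range := by
    have h1 := orderOf_eq_card_of_forall_mem_zpowers hgen
    rw [← h1]
    exact (Subgroup.orderOf_mk lam hlam).symm
  set m := Nat.card α.range with hm
  have hm0 : 0 < m := Nat.card_pos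
  obtain ⟨d, hd⟩ := hmdvd
  have hdn : d ∣ n := by
    obtain ⟨q, hq⟩ := hdvdH
    rw [hHcard, ← hcardα, hd] at hq
    -- `range * m = m * d * q`
    have h1 : Nat.card sig.range = d * q := by
      have h2 : m * Nat.card sig.range = m * (d * q) := by
        rw [mul_comm m (Nat.card sig.range), hq]
        ring
      exact Nat.eq_of_mul_eq_mul_left hm0 h2
    exact Dvd.dvd.trans ⟨q, h1⟩ hR
  -- the element `ξ`
  obtain ⟨k, hk⟩ := hlam
  obtain ⟨y, hy⟩ := k.1.2
  have hkσ : σ k.1 = 1 := k.2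
  have hka : a k.1 = (lam : F) := congrArg Units.val hk
  -- the map `e` on `G`
  let e' : G → F := fun g => if hg : g ∈ omegaCenter G 2 then e (Additive.ofMul ⟨g, hg⟩) else 0
  have he' : ∀ (g : G) (hg : g ∈ omegaCenter G 2), e' g = e (Additive.ofMul ⟨g, hg⟩) := by
    intro g hg
    show (if hg : g ∈ omegaCenter G 2 then e (Additive.ofMul ⟨g, hg⟩) else 0) = _
    rw [dif_pos hg]
  refine ⟨n, d, F, iF, iFt, iC, lam, (y : MulAut G), e', y.2, hF, hn2, hdn, ?_, ?_, ?_, ?_, ?_⟩
  · rw [hord, ← hd]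
  · intro x hx
    exact hcent x (by rw [pow_two]; exact hx)
  · refine ⟨fun _ _ => Set.mem_univ _, ?_, ?_⟩
    · intro x hx z hz hxz
      have hx' := (mem_Om_iff_omegaCenter x).mp hx
      have hz' := (mem_Om_iff_omegaCenter z).mp hz
      rw [he' x hx', he' z hz'] at hxz
      have h1 := e.injective hxz
      have h2 := congrArg (fun v : V => ((Additive.toMul v : ↥(omegaCenter G 2)) : G)) h1
      exact h2
    · intro b _
      refine ⟨((Additive.toMul (e.symm b) : ↥(omegaCenter G 2)) : G), ?_, ?_⟩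
      · exact (mem_Om_iff_omegaCenter _).mpr (Additive.toMul (e.symm b)).2
      · rw [he' _ (Additive.toMul (e.symm b)).2]
        exact e.apply_symm_apply b
  · intro x hx z hz
    have hx' := (mem_Om_iff_omegaCenter x).mp hx
    have hz' := (mem_Om_iff_omegaCenter z).mp hz
    rw [he' x hx', he' z hz', he' (x * z) ((omegaCenter G 2).mul_mem hx' hz'), ← map_add]
    rfl
  · intro z hz
    have hz' := (mem_Om_iff_omegaCenter z).mp hz
    have hyz : (y : MulAut G) z ∈ omegaCenter G 2 := map_mem_omegaCenter _ hz'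
    rw [he' z hz', he' _ hyz]
    have h1 := hασ k.1 (Additive.ofMul ⟨z, hz'⟩)
    rw [hkσ, hka] at h1
    have h1' : e ((H.subtype k.1) (Additive.ofMul ⟨z, hz'⟩)) =
        (lam : F) * e (Additive.ofMul ⟨z, hz'⟩) := by
      rw [h1]
      rfl
    rw [← h1']
    congr 1
    have h2 : (H.subtype k.1 : V ≃ₗ[ZMod 2] V) = r y := hy.symm
    rw [h2]
    rfl

/-- **Field model**, with the field in the universe of `G`. -/
theorem field_model_u [Finite G] (hG : IsPGroup 2 G)
    (htwo : ∃ x y : G, x ≠ y ∧ x ≠ 1 ∧ x ^ 2 = 1 ∧ y ≠ 1 ∧ y ^ 2 = 1)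
    (Y : Subgroup (MulAut G)) (hsol : Group.IsSolvable Y)
    (htr : ∀ x y : G, x ≠ 1 → x ^ 2 = 1 → y ≠ 1 → y ^ 2 = 1 → ∃ a ∈ Y, a x = y) :
    ∃ (n d : ℕ) (F : Type u) (_ : Field F) (_ : Fintype F) (_ : CharP F 2) (lam : Fˣ)
      (ξ : MulAut G) (e : G → F),
      ξ ∈ Y ∧ Fintype.card F = 2 ^ n ∧ 2 ≤ n ∧ d ∣ n ∧ orderOf lam * d = 2 ^ n - 1 ∧
      (∀ x : G, x * x = 1 → x ∈ Subgroup.center G) ∧
      Set.BijOn e (Om G) Set.univ ∧ (∀ x ∈ Om G, ∀ y ∈ Om G, e (x * y) = e x + e y) ∧
      (∀ z ∈ Om G, e (ξ z) = (lam : F) * e z) := by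
  obtain ⟨n, d, F, iF, iFt, iC, lam, ξ, e, hξ, hF, hn, hd, hord, hinv, hbij, hmul, hact⟩ :=
    field_model hG htwo Y hsol htr
  let f : F ≃+* ULift.{u} F := ULift.ringEquiv.symm
  refine ⟨n, d, ULift.{u} F, inferInstance, inferInstance, inferInstance,
    Units.map (f : F →* ULift.{u} F) lam, ξ, fun g => f (e g), hξ, ?_, hn, hd, ?_, hinv, ?_, ?_, ?_⟩
  · rw [Fintype.card_ulift, hF]
  · rw [orderOf_injective (Units.map (f : F →* ULift.{u} F))
      (Units.map_injective f.injective) lam, hord]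
  · refine ⟨fun _ _ => Set.mem_univ _, ?_, ?_⟩
    · intro x hx y hy hxy
      exact hbij.injOn hx hy (f.injective hxy)
    · intro b _
      obtain ⟨z, hz, hzb⟩ := hbij.surjOn (Set.mem_univ (f.symm b))
      refine ⟨z, hz, ?_⟩
      show f (e z) = b
      rw [hzb, RingEquiv.apply_symm_apply]
  · intro x hx y hy
    show f (e (x * y)) = f (e x) + f (e y)
    rw [hmul x hx y hy, map_add]
  · intro z hz
    show f (e (ξ z)) = f (lam : F) * f (e z)
    rw [hact z hz, map_mul]

/-- **Field model** in the form of helper76's class `IsSh`, with `K = Multiplicative ℤ` acting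
through the powers of one automorphism `ξ ∈ Y`. -/
theorem exists_isSh [Finite G] (hG : IsPGroup 2 G)
    (htwo : ∃ x y : G, x ≠ y ∧ x ≠ 1 ∧ x ^ 2 = 1 ∧ y ≠ 1 ∧ y ^ 2 = 1)
    (Y : Subgroup (MulAut G)) (hsol : Group.IsSolvable Y)
    (htr : ∀ x y : G, x ≠ 1 → x ^ 2 = 1 → y ≠ 1 → y ^ 2 = 1 → ∃ a ∈ Y, a x = y) :
    ∃ (n d : ℕ) (F : Type u) (_ : Field F) (_ : Fintype F) (_ : CharP F 2) (lam : Fˣ)
      (ξ : MulAut G) (e : G → F), ξ ∈ Y ∧
      Cfsg.Agent.Lib.Helper76_ShBase.IsSh n d lam (zpowersHom Fˣ lam)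
        (zpowersHom (MulAut G) ξ) e := by
  obtain ⟨n, d, F, iF, iFt, iC, lam, ξ, e, hξ, hF, hn, hd, hord, hinv, hbij, hmul, hact⟩ :=
    field_model_u hG htwo Y hsol htr
  have hOm : ∀ z : G, z ∈ Om G ↔ z * z = 1 := fun z => ⟨fun hz => hz.2, fun hz => ⟨hinv z hz, hz⟩⟩
  have hOmξ : ∀ (a : MulAut G) (z : G), z ∈ Om G → a z ∈ Om G := by
    intro a z hz
    rw [hOm] at hz ⊢
    rw [← map_mul, hz, map_one]
  -- the action of the powers of `ξ`
  have hpow : ∀ j : ℕ, ∀ z ∈ Om G, e ((ξ ^ j) z) = ((lam ^ j : Fˣ) : F) * e z := by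
    intro j
    induction j with
    | zero =>
      intro z hz
      simp
    | succ j ih =>
      intro z hz
      rw [pow_succ, pow_succ, MulAut.mul_apply, ih _ (hOmξ ξ z hz), hact z hz, Units.val_mul]
      ring
  have hinvpow : ∀ j : ℕ, ∀ z ∈ Om G, e ((ξ ^ j)⁻¹ z) = (((lam ^ j)⁻¹ : Fˣ) : F) * e z := by
    intro j z hz
    have h1 := hpow j _ (hOmξ (ξ ^ j)⁻¹ z hz)
    rw [MulAut.apply_inv_self] at h1
    rw [h1, ← mul_assoc, ← Units.val_mul, inv_mul_cancel, Units.val_one, one_mul]
  refine ⟨n, d, F, iF, iFt, iC, lam, ξ, e, hξ, ?_⟩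
  refine
    { fin := inferInstance
      pgroup := hG
      cardF := hF
      hn := hn
      hd := hd
      hlam := hord
      irr := Cfsg.Agent.Lib.Helper76_ShPkg.irr_of_arith hF ⟨hn, hord, hd⟩ lam rfl
      hχ := ?_
      hk0 := ⟨Multiplicative.ofAdd 1, by simp⟩
      invol := hinv
      e_bij := hbij
      e_mul := hmul
      act := ?_ }
  · intro k
    rw [zpowersHom_apply]
    exact Subgroup.zpow_mem_zpowers lam _
  · intro k z hz
    rw [zpowersHom_apply, zpowersHom_apply]
    obtain ⟨j, hj | hj⟩ := Int.eq_nat_or_neg (Multiplicative.toAdd k)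
    · rw [hj, zpow_natCast, zpow_natCast]
      exact hpow j z hz
    · rw [hj, zpow_neg, zpow_neg, zpow_natCast, zpow_natCast]
      exact hinvpow j z hz

end Cfsg.Agent.Lib.Helper12_Shult_Model
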