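import Mathlib

/-!
# Arithmetic for Suzuki `2`-groups with a solvable transitive automorphism group (helper12)

Throughout `m * d = 2 ^ n - 1`, `d ∣ n`, `2 ≤ n`: `m` is the order of the scalar part of a
subgroup of `ΓL(1, 2 ^ n)` transitive on the nonzero vectors.

* `Arith.NT0` : `m ∣ 2 ^ j - 1`, `n = j * r`, `0 < j` imply `r = 1` (a scalar of order `m`
  generates the field).
* `Arith.NTb` : for `s ≠ t` with `gcd (m, 2 ^ s - 1) = gcd (m, 2 ^ t - 1) = 1` and any `u`,
  `2 ^ s + 2 ^ u ≢ 1 + 2 ^ (t + u)` modulo `m` (the weights `1 - 2 ^ s` and `1 - 2 ^ t` are not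
  Galois conjugate).
-/

set_option autoImplicit false

namespace Cfsg.Agent.Lib.Helper12_Shult_NT

/-- the arithmetic hypotheses -/
structure Arith (n d m : ℕ) : Prop where
  hn : 2 ≤ n
  hmd : m * d = 2 ^ n - 1
  hd : d ∣ n

/-! ### sums of two powers of two -/

theorem aux_one {B C E : ℕ} (h : 1 + 2 ^ B = 2 ^ C + 2 ^ E) :
    (C = 0 ∧ B = E) ∨ (E = 0 ∧ B = C) := by
  rcases Nat.eq_zero_or_pos C with hC | hC
  · left
    subst hC
    refine ⟨rfl, ?_⟩
    have : 2 ^ B = 2 ^ E := by simpa using h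
    exact Nat.pow_right_injective (le_refl 2) this
  rcases Nat.eq_zero_or_pos E with hE | hE
  · right
    subst hE
    refine ⟨rfl, ?_⟩
    have : 2 ^ B = 2 ^ C := by
      have h1 : 1 + 2 ^ B = 2 ^ C + 1 := by simpa using h
      omega
    exact Nat.pow_right_injective (le_refl 2) this
  exfalso
  obtain ⟨C', rfl⟩ : ∃ C', C = C' + 1 := ⟨C - 1, by omega⟩
  obtain ⟨E', rfl⟩ : ∃ E', E = E' + 1 := ⟨E - 1, by omega⟩
  rw [pow_succ, pow_succ] at h
  rcases Nat.eq_zero_or_pos B with hB | hB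
  · subst hB
    have h1 : 1 ≤ 2 ^ C' := Nat.one_le_two_pow
    have h2 : 1 ≤ 2 ^ E' := Nat.one_le_two_pow
    simp at h
    omega
  · obtain ⟨B', rfl⟩ : ∃ B', B = B' + 1 := ⟨B - 1, by omega⟩
    rw [pow_succ] at h
    omega

theorem two_pow_add_eq : ∀ {A B C E : ℕ}, 2 ^ A + 2 ^ B = 2 ^ C + 2 ^ E →
    (A = C ∧ B = E) ∨ (A = E ∧ B = C) := by
  intro A
  induction A with
  | zero =>
    intro B C E h
    rw [pow_zero] at h
    rcases aux_one h with ⟨h1, h2⟩ | ⟨h1, h2⟩
    · left; exact ⟨h1.symm, h2⟩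
    · right; exact ⟨h1.symm, h2⟩
  | succ A ih =>
    intro B C E h
    rcases Nat.eq_zero_or_pos B with hB | hB
    · subst hB
      rw [pow_zero, add_comm] at h
      rcases aux_one h with ⟨h1, h2⟩ | ⟨h1, h2⟩
      · right; exact ⟨h2, h1.symm⟩
      · left; exact ⟨h2, h1.symm⟩
    rcases Nat.eq_zero_or_pos C with hC | hC
    · exfalso
      subst hC
      rw [pow_zero] at h
      rcases aux_one h.symm with ⟨h1, _⟩ | ⟨h1, _⟩ <;> omega
    rcases Nat.eq_zero_or_pos E with hE | hE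
    · exfalso
      subst hE
      rw [pow_zero, add_comm (2 ^ C)] at h
      rcases aux_one h.symm with ⟨h1, _⟩ | ⟨h1, _⟩ <;> omega
    obtain ⟨B', rfl⟩ : ∃ B', B = B' + 1 := ⟨B - 1, by omega⟩
    obtain ⟨C', rfl⟩ : ∃ C', C = C' + 1 := ⟨C - 1, by omega⟩
    obtain ⟨E', rfl⟩ : ∃ E', E = E' + 1 := ⟨E - 1, by omega⟩
    have h' : 2 ^ A + 2 ^ B' = 2 ^ C' + 2 ^ E' := by
      simp only [pow_succ] at h
      omega
    rcases ih h' with ⟨h1, h2⟩ | ⟨h1, h2⟩
    · left; omega
    · right; omega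

namespace Arith

variable {n d m : ℕ}

theorem two_pow_eq (h : Arith n d m) : 2 ^ n = m * d + 1 := by
  have h1 := h.hmd
  have h2 : 1 ≤ 2 ^ n := Nat.one_le_two_pow
  omega

theorem n_succ_lt (h : Arith n d m) : n + 1 < 2 ^ n := by
  have h1 : n - 1 < 2 ^ (n - 1) := Nat.lt_two_pow_self
  have h2 : 2 ^ n = 2 * 2 ^ (n - 1) := by
    rw [← pow_succ']
    congr 1
    have := h.hn
    omega
  have := h.hn
  omega

theorem d_pos (h : Arith n d m) : 0 < d := Nat.pos_of_dvd_of_pos h.hd (by have := h.hn; omega)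

theorem d_le (h : Arith n d m) : d ≤ n := Nat.le_of_dvd (by have := h.hn; omega) h.hd

theorem m_pos (h : Arith n d m) : 0 < m := by
  rcases Nat.eq_zero_or_pos m with h0 | h0
  · exfalso
    have h1 := h.two_pow_eq
    rw [h0, zero_mul] at h1
    have := h.n_succ_lt
    omega
  · exact h0

theorem m_ne_one (h : Arith n d m) : m ≠ 1 := by
  intro h1
  have h2 := h.two_pow_eq
  rw [h1, one_mul] at h2
  have := h.n_succ_lt
  have := h.d_le
  omega

theorem two_pow_modEq_one (h : Arith n d m) : 2 ^ n ≡ 1 [MOD m] := by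
  rw [h.two_pow_eq]
  have : m * d + 1 ≡ 0 + 1 [MOD m] := Nat.ModEq.add_right 1 ((Nat.modEq_zero_iff_dvd).mpr ⟨d, rfl⟩)
  simpa using this

theorem two_pow_mod (h : Arith n d m) (k : ℕ) : 2 ^ k ≡ 2 ^ (k % n) [MOD m] := by
  conv_lhs => rw [← Nat.div_add_mod k n, pow_add, pow_mul]
  have h2 : (2 ^ n) ^ (k / n) ≡ 1 ^ (k / n) [MOD m] := h.two_pow_modEq_one.pow _
  rw [one_pow] at h2
  have h3 := h2.mul_right (2 ^ (k % n))
  rwa [one_mul] at h3

/-- a scalar of order `m` generates the field -/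
theorem NT0 (h : Arith n d m) {j r : ℕ} (hjr : n = j * r) (hj : 0 < j) (hdvd : m ∣ 2 ^ j - 1) :
    r = 1 := by
  by_contra hr
  have hn := h.hn
  have hr0 : r ≠ 0 := by
    intro h0
    rw [h0, mul_zero] at hjr
    omega
  have hr2 : 2 ≤ r := by omega
  obtain ⟨r', rfl⟩ : ∃ r', r = r' + 1 := ⟨r - 1, by omega⟩
  have hr' : 1 ≤ r' := by omega
  set x := j * r' with hx
  have hjx : j ≤ x := by
    rw [hx]
    exact Nat.le_mul_of_pos_right j (by omega)
  have hnx : n = x + j := by rw [hjr, hx]; ring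
  have hA1 : 2 ≤ 2 ^ j := by
    calc 2 = 2 ^ 1 := by norm_num
      _ ≤ 2 ^ j := Nat.pow_le_pow_right (by norm_num) hj
  have hmle : m ≤ 2 ^ j - 1 := Nat.le_of_dvd (by omega) hdvd
  have hB : 2 * x ≤ 2 ^ x := by
    have hx1 : 1 ≤ x := by omega
    clear_value x
    clear hnx hjx hx
    induction x, hx1 using Nat.le_induction with
    | base => norm_num
    | succ k hk ih =>
      rw [pow_succ]
      omega
  have hB2 : 2 ≤ 2 ^ x := by
    calc 2 = 2 ^ 1 := by norm_num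
      _ ≤ 2 ^ x := Nat.pow_le_pow_right (by norm_num) (by omega)
  have hpow : 2 ^ n = 2 ^ j * 2 ^ x := by rw [hnx, pow_add, mul_comm]
  have h1 := h.two_pow_eq
  have hdle := h.d_le
  have h2 : m * d ≤ (2 ^ j - 1) * (x + j) := by
    calc m * d ≤ (2 ^ j - 1) * d := Nat.mul_le_mul_right _ hmle
      _ ≤ (2 ^ j - 1) * (x + j) := Nat.mul_le_mul_left _ (by omega)
  have h3 : (2 ^ j - 1) * (x + j) ≤ (2 ^ j - 1) * 2 ^ x :=
    Nat.mul_le_mul_left _ (by omega)
  obtain ⟨a, ha⟩ : ∃ a, 2 ^ j = a + 1 := ⟨2 ^ j - 1, by omega⟩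
  rw [ha] at hpow h2 h3
  simp only [Nat.add_sub_cancel] at h2 h3
  have h4 : (a + 1) * 2 ^ x = a * 2 ^ x + 2 ^ x := by ring
  omega

/-! ### the rotation argument -/

theorem exists_good (g : ℕ) (hgn : 4 * g < n) (p₁ p₂ p₃ p₄ : ℕ) :
    ∃ k < n, (p₁ + k) % n < n - g ∧ (p₂ + k) % n < n - g ∧ (p₃ + k) % n < n - g ∧
      (p₄ + k) % n < n - g := by
  classical
  have hn0 : 0 < n := by omega
  have hbad : ∀ p, ((Finset.range n).filter (fun k => n - g ≤ (p + k) % n)).card ≤ g := by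
    intro p
    calc ((Finset.range n).filter (fun k => n - g ≤ (p + k) % n)).card
        ≤ (Finset.Ico (n - g) n).card := by
          apply Finset.card_le_card_of_injOn (fun k => (p + k) % n)
          · intro k hk
            simp only [Finset.coe_filter, Finset.mem_range, Set.mem_ofPred_eq] at hk
            simp only [Finset.coe_Ico, Set.mem_Ico]
            exact ⟨hk.2, Nat.mod_lt _ hn0⟩
          · intro k hk k' hk' hkk'
            simp only [Finset.coe_filter, Finset.mem_range, Set.mem_ofPred_eq] at hk hk'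
            have h1 : p + k ≡ p + k' [MOD n] := hkk'
            have h2 : k ≡ k' [MOD n] := Nat.ModEq.add_left_cancel' p h1
            exact Nat.ModEq.eq_of_lt_of_lt h2 hk.1 hk'.1
      _ = g := by
          rw [Nat.card_Ico]
          omega
  by_contra hcon
  push Not at hcon
  have hsub : Finset.range n ⊆
      (Finset.range n).filter (fun k => n - g ≤ (p₁ + k) % n) ∪
      ((Finset.range n).filter (fun k => n - g ≤ (p₂ + k) % n) ∪
      ((Finset.range n).filter (fun k => n - g ≤ (p₃ + k) % n) ∪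
      (Finset.range n).filter (fun k => n - g ≤ (p₄ + k) % n))) := by
    intro k hk
    have hkn : k < n := Finset.mem_range.mp hk
    simp only [Finset.mem_union, Finset.mem_filter]
    by_cases h1 : n - g ≤ (p₁ + k) % n
    · exact Or.inl ⟨hk, h1⟩
    by_cases h2 : n - g ≤ (p₂ + k) % n
    · exact Or.inr (Or.inl ⟨hk, h2⟩)
    by_cases h3 : n - g ≤ (p₃ + k) % n
    · exact Or.inr (Or.inr (Or.inl ⟨hk, h3⟩))
    · exact Or.inr (Or.inr (Or.inr ⟨hk, hcon k hkn (by omega) (by omega) (by omega)⟩))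
  have hc := Finset.card_le_card hsub
  rw [Finset.card_range] at hc
  have u1 := Finset.card_union_le ((Finset.range n).filter (fun k => n - g ≤ (p₁ + k) % n))
      ((Finset.range n).filter (fun k => n - g ≤ (p₂ + k) % n) ∪
      ((Finset.range n).filter (fun k => n - g ≤ (p₃ + k) % n) ∪
      (Finset.range n).filter (fun k => n - g ≤ (p₄ + k) % n)))
  have u2 := Finset.card_union_le ((Finset.range n).filter (fun k => n - g ≤ (p₂ + k) % n))
      ((Finset.range n).filter (fun k => n - g ≤ (p₃ + k) % n) ∪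
      (Finset.range n).filter (fun k => n - g ≤ (p₄ + k) % n))
  have u3 := Finset.card_union_le ((Finset.range n).filter (fun k => n - g ≤ (p₃ + k) % n))
      ((Finset.range n).filter (fun k => n - g ≤ (p₄ + k) % n))
  have b1 := hbad p₁
  have b2 := hbad p₂
  have b3 := hbad p₃
  have b4 := hbad p₄
  omega

/-- the general rotation argument -/
theorem key (h : Arith n d m) {g : ℕ} (hg : d < 2 ^ g) (hgn : 4 * g < n)
    {s u a : ℕ} (hs : s < n) (hu : u < n) (ha : a < n) (hs0 : s ≠ 0)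
    (hne : ¬ (u = 0 ∧ s = a)) : ¬ (2 ^ s + 2 ^ u ≡ 1 + 2 ^ a [MOD m]) := by
  intro hcong
  have hn0 : 0 < n := by omega
  obtain ⟨k, hk, hA, hB, hC, hE⟩ := exists_good (n := n) g hgn s u 0 a
  set A := (s + k) % n with hAdef
  set B := (u + k) % n with hBdef
  set C := (0 + k) % n with hCdef
  set E := (a + k) % n with hEdef
  -- the rotated congruence
  have hrot : 2 ^ A + 2 ^ B ≡ 2 ^ C + 2 ^ E [MOD m] := by
    have h1 := hcong.mul_right (2 ^ k)
    rw [add_mul, add_mul, ← pow_add, ← pow_add, ← pow_add, one_mul] at h1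
    have e1 := (h.two_pow_mod (s + k)).add (h.two_pow_mod (u + k))
    have e2 := (h.two_pow_mod (0 + k)).add (h.two_pow_mod (a + k))
    rw [zero_add] at e2
    rw [zero_add] at hCdef
    rw [hCdef]
    exact e1.symm.trans (h1.trans e2)
  -- size bounds
  obtain ⟨P, hP⟩ : ∃ P, P = 2 ^ (n - g - 1) := ⟨_, rfl⟩
  have hle : ∀ x, x < n - g → 2 ^ x ≤ P := by
    intro x hx
    rw [hP]
    exact Nat.pow_le_pow_right (by norm_num) (by omega)
  have hA' := hle A hA
  have hB' := hle B hB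
  have hC' := hle C hC
  have hE' := hle E hE
  have hA1 : 1 ≤ 2 ^ A := Nat.one_le_two_pow
  have hB1 : 1 ≤ 2 ^ B := Nat.one_le_two_pow
  have hC1 : 1 ≤ 2 ^ C := Nat.one_le_two_pow
  have hE1 : 1 ≤ 2 ^ E := Nat.one_le_two_pow
  -- `2 * P ≤ m`
  have hmP : 2 * P ≤ m := by
    have h1 := h.two_pow_eq
    have h2 : 2 ^ n = 2 * P * 2 ^ g := by
      rw [hP, ← pow_succ', ← pow_add]
      congr 1
      omega
    have h3 : m * d ≤ m * (2 ^ g - 1) := Nat.mul_le_mul_left _ (by omega)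
    have hg1 : 1 ≤ 2 ^ g := Nat.one_le_two_pow
    obtain ⟨G, hG⟩ : ∃ G, 2 ^ g = G + 1 := ⟨2 ^ g - 1, by omega⟩
    rw [hG] at h2 h3
    simp only [Nat.add_sub_cancel] at h3
    by_contra hcon
    push Not at hcon
    have h4 : m + 1 ≤ 2 * P := hcon
    have h5 : (m + 1) * (G + 1) ≤ 2 * P * (G + 1) := Nat.mul_le_mul_right _ h4
    have h6 : (m + 1) * (G + 1) = m * G + m + G + 1 := by ring
    rw [h6] at h5
    have hm0 := h.m_pos
    omega
  have heq : 2 ^ A + 2 ^ B = 2 ^ C + 2 ^ E := by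
    have hd := (Nat.modEq_iff_dvd.mp hrot)
    generalize 2 ^ A = a1 at *
    generalize 2 ^ B = a2 at *
    generalize 2 ^ C = a3 at *
    generalize 2 ^ E = a4 at *
    have hz : ((a3 + a4 : ℕ) : ℤ) - ((a1 + a2 : ℕ) : ℤ) = 0 := by
      apply Int.eq_zero_of_abs_lt_dvd hd
      rw [abs_lt]
      constructor <;> omega
    omega
  rcases two_pow_add_eq heq with ⟨h1, h2⟩ | ⟨h1, h2⟩
  · -- `s ≡ 0`
    have h3 : s + k ≡ 0 + k [MOD n] := h1
    have h4 : s ≡ 0 [MOD n] := Nat.ModEq.add_right_cancel' k h3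
    have h5 := Nat.ModEq.eq_of_lt_of_lt h4 hs hn0
    exact hs0 h5
  · have h3 : s + k ≡ a + k [MOD n] := h1
    have h4 : s ≡ a [MOD n] := Nat.ModEq.add_right_cancel' k h3
    have h5 := Nat.ModEq.eq_of_lt_of_lt h4 hs ha
    have h6 : u + k ≡ 0 + k [MOD n] := h2
    have h7 : u ≡ 0 [MOD n] := Nat.ModEq.add_right_cancel' k h6
    have h8 := Nat.ModEq.eq_of_lt_of_lt h7 hu hn0
    exact hne ⟨h8, h5⟩

theorem four_mul_lt_two_pow {q : ℕ} (hq : 5 ≤ q) : 4 * q + 4 < 2 ^ q := by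
  induction q, hq using Nat.le_induction with
  | base => norm_num
  | succ k hk ih =>
    rw [pow_succ]
    omega

/-- the possible shapes of the parameters -/
theorem cases (h : Arith n d m) :
    (∃ g, d < 2 ^ g ∧ 4 * g < n) ∨ (n ≤ 4 ∧ d = 1) ∨ (n = 6 ∧ d = 3 ∧ m = 21) := by
  have hn := h.hn
  have hdn := h.d_le
  have hd0 := h.d_pos
  by_cases hbig : 21 ≤ n
  · left
    refine ⟨(n - 1) / 4, ?_, by omega⟩
    have hq : 5 ≤ (n - 1) / 4 := by omega
    have := four_mul_lt_two_pow hq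
    omega
  · push Not at hbig
    have hmd := h.hmd
    have hdvd := h.hd
    interval_cases n <;> interval_cases d <;> norm_num at hmd hdvd <;>
      first
      | omega
      | (left; refine ⟨1, ?_, ?_⟩ <;> norm_num; done)
      | (left; refine ⟨2, ?_, ?_⟩ <;> norm_num; done)
      | (left; refine ⟨3, ?_, ?_⟩ <;> norm_num; done)
      | (left; refine ⟨4, ?_, ?_⟩ <;> norm_num; done)

set_option synthInstance.maxSize 2048 in
set_option synthInstance.maxHeartbeats 200000 in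
theorem small4 : ∀ n < 5, ∀ s < n, ∀ t < n, ∀ u < n, s ≠ 0 → s ≠ t →
    ¬ ((2 ^ s + 2 ^ u) % (2 ^ n - 1) = (1 + 2 ^ ((t + u) % n)) % (2 ^ n - 1)) := by
  decide

set_option synthInstance.maxSize 2048 in
set_option synthInstance.maxHeartbeats 200000 in
theorem small6 : ∀ s < 6, ∀ t < 6, ∀ u < 6, Nat.gcd 21 (2 ^ s - 1) = 1 →
    Nat.gcd 21 (2 ^ t - 1) = 1 → s ≠ t →
    ¬ ((2 ^ s + 2 ^ u) % 21 = (1 + 2 ^ ((t + u) % 6)) % 21) := by
  decide

/-- the weights `1 - 2 ^ s` and `1 - 2 ^ t` are not Galois conjugate modulo `m` -/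
theorem NTb (h : Arith n d m) {s t u : ℕ} (hs : s < n) (ht : t < n) (hu : u < n) (hst : s ≠ t)
    (hcs : Nat.Coprime m (2 ^ s - 1)) (hct : Nat.Coprime m (2 ^ t - 1)) :
    ¬ (2 ^ s + 2 ^ u ≡ 1 + 2 ^ ((t + u) % n) [MOD m]) := by
  have hn := h.hn
  have hs0 : s ≠ 0 := by
    intro h0
    rw [h0, pow_zero, Nat.sub_self, Nat.coprime_zero_right] at hcs
    exact h.m_ne_one hcs
  have ha : (t + u) % n < n := Nat.mod_lt _ (by omega)
  have hne : ¬ (u = 0 ∧ s = (t + u) % n) := by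
    rintro ⟨h1, h2⟩
    rw [h1, add_zero, Nat.mod_eq_of_lt ht] at h2
    exact hst h2
  rcases h.cases with ⟨g, hg, hgn⟩ | ⟨hn4, hd1⟩ | ⟨hn6, hd3, hm21⟩
  · exact h.key hg hgn hs hu ha hs0 hne
  · have hm : m = 2 ^ n - 1 := by
      have := h.hmd
      rw [hd1, mul_one] at this
      exact this
    rw [hm]
    exact small4 n (by omega) s hs t ht u hu hs0 hst
  · subst hn6
    subst hm21
    exact small6 s hs t ht u hu hcs hct hst

end Arith

end Cfsg.Agent.Lib.Helper12_Shult_NT
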