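import Mathlib
import Cfsg.Agent.Lib.Helper81_SymOrbit

set_option autoImplicit false

/-!
# S2524 (Tiep–Zalesskii gap for `Sp_2n(q)`, architect helper75), Part A: shared definitions

Pure linear algebra over a field `F`: symmetric matrices up to congruence.

* `Rk1 T` : `T = a • x xᵀ` for some `a : F`, `x` (rank `≤ 1`; `0` included).
* `dsum a S` : the block matrix `a E_00 ⊕ S` of size `m + 1`.
* `CongClosed O`, `AllSym O`, `NoRk1 O`, `Nondeg T`.
* `fib O a` : `{S | dsum a S ∈ O}`.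
* `uni c` : the unipotent matrix `1 + e_0 cᵀ`.
-/

namespace Cfsg.Agent.Lib.Helper30_TZADefs

open Matrix
open Cfsg.Agent.Lib.Helper81_SymOrbit

variable {F : Type*} [Field F] {m n : ℕ}

/-- `T = a • x xᵀ` -/
def Rk1 (T : Matrix (Fin n) (Fin n) F) : Prop :=
  ∃ (a : F) (x : Fin n → F), T = a • vecMulVec x x

/-- `a E_00 ⊕ S` -/
def dsum (a : F) (S : Matrix (Fin m) (Fin m) F) : Matrix (Fin (m + 1)) (Fin (m + 1)) F :=
  Matrix.of fun i j =>
    Fin.cases (Fin.cases a (fun _ => 0) j) (fun i' => Fin.cases 0 (fun j' => S i' j') j) i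

@[simp] theorem dsum_zero_zero (a : F) (S : Matrix (Fin m) (Fin m) F) : dsum a S 0 0 = a := rfl

@[simp] theorem dsum_zero_succ (a : F) (S : Matrix (Fin m) (Fin m) F) (j : Fin m) :
    dsum a S 0 j.succ = 0 := rfl

@[simp] theorem dsum_succ_zero (a : F) (S : Matrix (Fin m) (Fin m) F) (i : Fin m) :
    dsum a S i.succ 0 = 0 := rfl

@[simp] theorem dsum_succ_succ (a : F) (S : Matrix (Fin m) (Fin m) F) (i j : Fin m) :
    dsum a S i.succ j.succ = S i j := rfl

theorem dsum_mul (a b : F) (S S' : Matrix (Fin m) (Fin m) F) :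
    dsum a S * dsum b S' = dsum (a * b) (S * S') := by
  ext i j
  refine Fin.cases ?_ (fun i' => ?_) i <;> refine Fin.cases ?_ (fun j' => ?_) j <;>
    simp [Matrix.mul_apply, Fin.sum_univ_succ]

theorem dsum_transpose (a : F) (S : Matrix (Fin m) (Fin m) F) : (dsum a S)ᵀ = dsum a Sᵀ := by
  ext i j
  refine Fin.cases ?_ (fun i' => ?_) i <;> refine Fin.cases ?_ (fun j' => ?_) j <;>
    simp [Matrix.transpose_apply]

theorem dsum_one_one : dsum (1 : F) (1 : Matrix (Fin m) (Fin m) F) = 1 := by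
  ext i j
  refine Fin.cases ?_ (fun i' => ?_) i <;> refine Fin.cases ?_ (fun j' => ?_) j <;>
    simp [Matrix.one_apply, Fin.succ_ne_zero, (Fin.succ_ne_zero _).symm]

theorem dsum_injective (a : F) : Function.Injective (dsum a : Matrix (Fin m) (Fin m) F → _) := by
  intro S S' h
  ext i j
  have := congrFun (congrFun h i.succ) j.succ
  simpa using this

theorem dsum_inj_left {a b : F} {S S' : Matrix (Fin m) (Fin m) F} (h : dsum a S = dsum b S') :
    a = b := by
  have := congrFun (congrFun h 0) 0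
  simpa using this

/-- a matrix with zero first row and column off the corner is a `dsum` -/
theorem eq_dsum (T : Matrix (Fin (m + 1)) (Fin (m + 1)) F) (h1 : ∀ j : Fin m, T 0 j.succ = 0)
    (h2 : ∀ i : Fin m, T i.succ 0 = 0) :
    T = dsum (T 0 0) (T.submatrix Fin.succ Fin.succ) := by
  ext i j
  refine Fin.cases ?_ (fun i' => ?_) i <;> refine Fin.cases ?_ (fun j' => ?_) j <;>
    simp [h1, h2]

/-- `dsum a S *ᵥ (x0 ; x) = (a x0 ; S x)` -/
theorem dsum_mulVec (a : F) (S : Matrix (Fin m) (Fin m) F) (x0 : F) (x : Fin m → F) :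
    dsum a S *ᵥ (Fin.cons x0 x : Fin (m + 1) → F) = Fin.cons (a * x0) (S *ᵥ x) := by
  funext i
  refine Fin.cases ?_ (fun i' => ?_) i <;>
    simp [Matrix.mulVec, dotProduct, Fin.sum_univ_succ]

/-- congruence closed (in the form of `Helper81_SymOrbit.orbit_bound`) -/
def CongClosed (O : Finset (Matrix (Fin n) (Fin n) F)) : Prop :=
  ∀ T ∈ O, ∀ A B : Matrix (Fin n) (Fin n) F, A * B = 1 → Aᵀ * T * A ∈ O

/-- all members symmetric -/
def AllSym (O : Finset (Matrix (Fin n) (Fin n) F)) : Prop := ∀ T ∈ O, Tᵀ = T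

/-- no member of rank `≤ 1` -/
def NoRk1 (O : Finset (Matrix (Fin n) (Fin n) F)) : Prop := ∀ T ∈ O, ¬ Rk1 T

/-- trivial kernel -/
def Nondeg (T : Matrix (Fin n) (Fin n) F) : Prop := ∀ x : Fin n → F, T *ᵥ x = 0 → x = 0

open Classical in
/-- the fibre `{S | a E_00 ⊕ S ∈ O}` -/
noncomputable def fib [Fintype F] (O : Finset (Matrix (Fin (m + 1)) (Fin (m + 1)) F)) (a : F) :
    Finset (Matrix (Fin m) (Fin m) F) :=
  Finset.univ.filter fun S => dsum a S ∈ O

theorem mem_fib [Fintype F] {O : Finset (Matrix (Fin (m + 1)) (Fin (m + 1)) F)} {a : F}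
    {S : Matrix (Fin m) (Fin m) F} : S ∈ fib O a ↔ dsum a S ∈ O := by
  classical
  simp [fib]

/-- the unipotent matrix `1 + e_0 cᵀ` with `c = (0 ; c')` -/
def uni (c : Fin m → F) : Matrix (Fin (m + 1)) (Fin (m + 1)) F :=
  1 + vecMulVec (Pi.single (0 : Fin (m + 1)) (1 : F)) (Fin.cons 0 c)

theorem uni_mul_neg (c : Fin m → F) : uni c * uni (-c) = 1 := by
  have h := uni_mul_inv (0 : Fin (m + 1)) (Fin.cons (0 : F) c : Fin (m + 1) → F) (by simp)
  have e : (1 : Matrix (Fin (m + 1)) (Fin (m + 1)) F)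
      - vecMulVec (Pi.single (0 : Fin (m + 1)) (1 : F)) (Fin.cons (0 : F) c) = uni (-c) := by
    unfold uni
    rw [sub_eq_add_neg]
    congr 1
    ext i j
    refine Fin.cases ?_ (fun j' => ?_) j <;> simp [vecMulVec_apply]
  rw [e] at h
  exact h

theorem uni_neg_mul (c : Fin m → F) : uni (-c) * uni c = 1 := by
  have := uni_mul_neg (-c)
  rwa [neg_neg] at this

/-- the first row of `(uni c)ᵀ T (uni c)` -/
theorem uni_congr_zero_succ (T : Matrix (Fin (m + 1)) (Fin (m + 1)) F) (c : Fin m → F)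
    (j : Fin m) : ((uni c)ᵀ * T * uni c) 0 j.succ = T 0 j.succ + c j * T 0 0 := by
  have := uni_congr_apply T (0 : Fin (m + 1)) j.succ (Fin.cons (0 : F) c : Fin (m + 1) → F) (by simp)
  simpa [uni] using this

theorem uni_congr_zero_zero (T : Matrix (Fin (m + 1)) (Fin (m + 1)) F) (c : Fin m → F) :
    ((uni c)ᵀ * T * uni c) 0 0 = T 0 0 := by
  have := uni_congr_apply T (0 : Fin (m + 1)) 0 (Fin.cons (0 : F) c : Fin (m + 1) → F) (by simp)
  simpa [uni] using this

end Cfsg.Agent.Lib.Helper30_TZADefs
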