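import Mathlib
import Cfsg.Agent.Lib.Helper30_TZADefs

set_option autoImplicit false
set_option linter.unusedSectionVars false
set_option linter.unusedVariables false

/-!
# TZA package REP (architect helper30, for helper75's S2524; formalised by helper12)

A symmetric matrix over a finite field of odd order that is not of rank `≤ 1` represents every
element of the field.
-/

open Matrix
open Cfsg.Agent.Lib.Helper81_SymOrbit Cfsg.Agent.Lib.Helper30_TZADefs

namespace Cfsg.Agent.Lib.Helper12_TZA_REP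

variable {F : Type*} [Field F] [Fintype F] [DecidableEq F] {m n : ℕ}

theorem h12_two_ne_zero (hodd : Odd (Fintype.card F)) : (2 : F) ≠ 0 := by
  intro h2
  have h3 : ringChar F ∣ 2 := ringChar.dvd (by exact_mod_cast h2)
  have h4 : ringChar F = 2 := by
    rcases (Nat.dvd_prime Nat.prime_two).mp h3 with h | h
    · exact absurd h CharP.ringChar_ne_one
    · exact h
  have h5 := FiniteField.even_card_of_char_two h4
  rcases hodd with ⟨k, hk⟩
  omega

omit [Fintype F] [DecidableEq F] in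
theorem h12_qf_smul (T : Matrix (Fin n) (Fin n) F) (s : F) (v : Fin n → F) :
    qf T (s • v) = s ^ 2 * qf T v := by
  unfold qf
  rw [Matrix.mulVec_smul, smul_dotProduct, dotProduct_smul, smul_eq_mul, smul_eq_mul]
  ring

omit [Fintype F] [DecidableEq F] in
theorem h12_qf_sub_smul (M : Matrix (Fin n) (Fin n) F) (c : F) (t x : Fin n → F) :
    qf (M - c • vecMulVec t t) x = qf M x - c * (x ⬝ᵥ t) ^ 2 := by
  unfold qf
  rw [Matrix.sub_mulVec, Matrix.smul_mulVec, dotProduct_sub, dotProduct_smul,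
    Matrix.vecMulVec_mulVec, op_smul_eq_smul, dotProduct_smul, smul_eq_mul, smul_eq_mul,
    dotProduct_comm t x]
  ring

/-- REP (M) : a symmetric matrix that is not of rank `≤ 1` represents every element of `F`. -/
theorem rep_all (hodd : Odd (Fintype.card F)) (T : Matrix (Fin n) (Fin n) F) (hT : Tᵀ = T)
    (hr : ¬ Rk1 T) (a : F) : ∃ x : Fin n → F, qf T x = a := by
  have h2 : (2 : F) ≠ 0 := h12_two_ne_zero hodd
  have hT0 : T ≠ 0 := by
    intro h
    apply hr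
    exact ⟨0, 0, by rw [h, zero_smul]⟩
  obtain ⟨x1, hb1⟩ := exists_qf_ne_zero h2 T hT hT0
  obtain ⟨b1, hb1def⟩ : ∃ b1 : F, b1 = qf T x1 := ⟨_, rfl⟩
  rw [← hb1def] at hb1
  obtain ⟨t1, ht1⟩ : ∃ t1 : Fin n → F, t1 = T *ᵥ x1 := ⟨_, rfl⟩
  obtain ⟨T', hT'⟩ : ∃ T' : Matrix (Fin n) (Fin n) F, T' = T - b1⁻¹ • vecMulVec t1 t1 :=
    ⟨_, rfl⟩
  have hT's : T'ᵀ = T' := by
    rw [hT', Matrix.transpose_sub, Matrix.transpose_smul, Matrix.transpose_vecMulVec, hT]
  have hT'0 : T' ≠ 0 := by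
    intro h
    apply hr
    refine ⟨b1⁻¹, t1, ?_⟩
    rw [hT'] at h
    exact sub_eq_zero.mp h
  obtain ⟨x2, hb2⟩ := exists_qf_ne_zero h2 T' hT's hT'0
  obtain ⟨b2, hb2def⟩ : ∃ b2 : F, b2 = qf T' x2 := ⟨_, rfl⟩
  rw [← hb2def] at hb2
  obtain ⟨d, hd⟩ : ∃ d : F, d = x2 ⬝ᵥ t1 := ⟨_, rfl⟩
  have hq2 : qf T x2 = b2 + b1⁻¹ * d ^ 2 := by
    rw [hb2def, hT', h12_qf_sub_smul, ← hd]
    ring
  -- solve `b1 X² + b2 Y² = a`
  obtain ⟨X, Y, hXY⟩ : ∃ X Y : F, b1 * X ^ 2 + (b2 * Y ^ 2 - a) = 0 := by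
    have hf : (Polynomial.C b1 * Polynomial.X ^ 2 : Polynomial F).degree = 2 := by
      rw [Polynomial.degree_C_mul_X_pow 2 hb1]
      rfl
    have hg0 : (Polynomial.C b2 * Polynomial.X ^ 2 : Polynomial F).degree = 2 := by
      rw [Polynomial.degree_C_mul_X_pow 2 hb2]
      rfl
    have hg : (Polynomial.C b2 * Polynomial.X ^ 2 - Polynomial.C a : Polynomial F).degree = 2 := by
      rw [Polynomial.degree_sub_C (by rw [hg0]; decide), hg0]
    obtain ⟨X, Y, h⟩ := FiniteField.exists_root_sum_quadratic hf hg (Nat.odd_iff.mp hodd)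
    refine ⟨X, Y, ?_⟩
    simpa using h
  refine ⟨(X - Y * d / b1) • x1 + Y • x2, ?_⟩
  have e1 : x2 ⬝ᵥ (T *ᵥ ((X - Y * d / b1) • x1)) = (X - Y * d / b1) * d := by
    rw [Matrix.mulVec_smul, dotProduct_smul, ← ht1, ← hd, smul_eq_mul]
  have e2 : ((X - Y * d / b1) • x1) ⬝ᵥ (T *ᵥ x2) = (X - Y * d / b1) * d := by
    rw [smul_dotProduct, dotProduct_mulVec_symm T hT x1 x2, ← ht1, ← hd, smul_eq_mul]
  rw [qf_add_smul, h12_qf_smul, ← hb1def, e1, e2, hq2]
  have key : (X - Y * d / b1) ^ 2 * b1 + Y * ((X - Y * d / b1) * d + (X - Y * d / b1) * d) +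
      Y ^ 2 * (b2 + b1⁻¹ * d ^ 2) = b1 * X ^ 2 + b2 * Y ^ 2 := by
    field_simp
    ring
  rw [key]
  linear_combination hXY

end Cfsg.Agent.Lib.Helper12_TZA_REP
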