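import Mathlib

/-!
# Definitions for S1903 (groups of order 320 with derived subgroup of order 64 and `Z(G')` a four-group)

Shared vocabulary of the `s1903_packages` market (architect helper56).

* `cj s x i = s ^ i * x * (s ^ i)⁻¹`.
* `pw g b` : `g` if `b` else `1` (a power with a Boolean exponent).
* `Core s x c1 c2` : the relations that do not mention `x * x`.
* `Data G` : generators `s, x, c1, c2` with the full set of relations, generation and `|G| = 320`.
  Two groups with `Data` are isomorphic (package ISO).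
* `Idx`, `nf`, `Ts`, `Tx` : the normal form `s^i X0^β0 X1^β1 X2^β2 X3^β3 c1^γ1 c2^γ2` and the effect on it of
  left multiplication by `s` and by `x`.
* `ZP G` : the centre of the derived subgroup, as a subgroup of `G`.
-/

namespace Cfsg.Agent.Lib.Helper56_U320Defs

/-- the conjugate `s ^ i * x * (s ^ i)⁻¹` -/
def cj {G : Type*} [Group G] (s x : G) (i : ℕ) : G := s ^ i * x * (s ^ i)⁻¹

/-- power with a Boolean exponent -/
def pw {G : Type*} [One G] (g : G) (b : Bool) : G := if b then g else 1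

@[simp] theorem pw_true {G : Type*} [One G] (g : G) : pw g true = g := rfl
@[simp] theorem pw_false {G : Type*} [One G] (g : G) : pw g false = 1 := rfl

/-- four Boolean exponents -/
abbrev Bits : Type := Bool × Bool × Bool × Bool
/-- two Boolean exponents -/
abbrev Gam : Type := Bool × Bool

/-- the ordered product `y0^β0 * y1^β1 * y2^β2 * y3^β3` -/
def xpw {G : Type*} [Group G] (y0 y1 y2 y3 : G) (β : Bits) : G :=
  pw y0 β.1 * pw y1 β.2.1 * pw y2 β.2.2.1 * pw y3 β.2.2.2

/-- the product `c1^γ1 * c2^γ2` -/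
def cpw {G : Type*} [Group G] (c1 c2 : G) (γ : Gam) : G := pw c1 γ.1 * pw c2 γ.2

/-- left multiplication by `y0` on exponents -/
def st0 (t : Bits × Gam) : Bits × Gam :=
  ((!t.1.1, t.1.2.1, t.1.2.2.1, t.1.2.2.2), (xor t.2.1 t.1.1, xor t.2.2 t.1.1))

/-- left multiplication by `y1` on exponents -/
def st1 (t : Bits × Gam) : Bits × Gam :=
  ((t.1.1, !t.1.2.1, t.1.2.2.1, t.1.2.2.2),
    (xor t.2.1 (xor t.1.1 t.1.2.1), xor t.2.2 t.1.2.1))

/-- left multiplication by `y2` on exponents -/
def st2 (t : Bits × Gam) : Bits × Gam :=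
  ((t.1.1, t.1.2.1, !t.1.2.2.1, t.1.2.2.2),
    (xor t.2.1 (xor t.1.2.1 t.1.2.2.1), xor t.2.2 (xor t.1.1 t.1.2.2.1)))

/-- left multiplication by `y3` on exponents -/
def st3 (t : Bits × Gam) : Bits × Gam :=
  ((t.1.1, t.1.2.1, t.1.2.2.1, !t.1.2.2.2),
    (xor t.2.1 (xor t.1.2.2.1 t.1.2.2.2), xor t.2.2 (xor t.1.1 (xor t.1.2.1 t.1.2.2.2))))

/-- left multiplication by `y0 * y1 * y2 * y3` on exponents -/
def st4 (t : Bits × Gam) : Bits × Gam := st0 (st1 (st2 (st3 t)))

/-- the relations not involving `x * x`, generation or the order -/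
structure Core {G : Type*} [Group G] (s x c1 c2 : G) : Prop where
  s5 : s ^ 5 = 1
  c1c : ∀ g : G, c1 * g = g * c1
  c2c : ∀ g : G, c2 * g = g * c2
  c1sq : c1 * c1 = 1
  c2sq : c2 * c2 = 1
  r1 : cj s x 1 * x = x * cj s x 1 * c1
  r2 : cj s x 2 * x = x * cj s x 2 * c2

/-- generators and relations of the group `2^{2+4} : 5` -/
structure Data (G : Type*) [Group G] where
  s : G
  x : G
  c1 : G
  c2 : G
  core : Core s x c1 c2
  xsq : x * x = c1 * c2
  r4 : cj s x 4 = x * cj s x 1 * cj s x 2 * cj s x 3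
  gen : Subgroup.closure ({s, x} : Set G) = ⊤
  card : Nat.card G = 320

/-- index set of the normal form -/
abbrev Idx : Type := Fin 5 × Bits × Gam

/-- the normal form `s^i * (X0^β0 * X1^β1 * X2^β2 * X3^β3) * (c1^γ1 * c2^γ2)` -/
def nf {G : Type*} [Group G] (D : Data G) (t : Idx) : G :=
  D.s ^ (t.1 : ℕ) * xpw D.x (cj D.s D.x 1) (cj D.s D.x 2) (cj D.s D.x 3) t.2.1 * cpw D.c1 D.c2 t.2.2

/-- left multiplication by `s` on indices -/
def Ts (t : Idx) : Idx := (t.1 + 1, t.2)

/-- left multiplication by `x` on indices: `x * s^i = s^i * X_{(5-i)%5}` -/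
def Tx (t : Idx) : Idx :=
  (t.1, match t.1 with
    | 0 => st0 t.2
    | 1 => st4 t.2
    | 2 => st3 t.2
    | 3 => st2 t.2
    | 4 => st1 t.2)

/-- the centre of the derived subgroup, as a subgroup of `G` -/
def ZP (G : Type*) [Group G] : Subgroup G :=
  (Subgroup.center (commutator G)).map (commutator G).subtype

end Cfsg.Agent.Lib.Helper56_U320Defs
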