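import Mathlib
import Cfsg.Agent.S1248

/-!
# The model side of S1903: the torus element of order 5 normalising the Sylow 2-subgroup of `SU₃(4)`

Shared definitions of the `s1903_packages` market (architect helper56), on top of `Cfsg.Agent.S1248`
(`PF F`, `Mmat`, `mSU`, `mHom`, `muHom`).

* `p0 : PF F` is the central involution with parameters `(0, 1)`; `Mmat 0 1` is the permutation matrix of `(0 1)`.
* `hmat ζ = ζ • 1 + (ζ ^ 3 + ζ) • J` (`J` the all-ones matrix): in the basis `e = (1,1,0)`, `w = (1,1,1)`,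
  `f = (0,1,1)` of `S1248` it is `diag(ζ, ζ³, ζ)`.  For `ζ ^ 5 = 1` it lies in `SU₃(4)` (`hSU`), commutes with
  `mSU p0` and conjugates `mSU (b, c)` to `mSU (ζ² b, c)`.
-/

set_option autoImplicit false

namespace Cfsg.Agent.Lib.Helper56_U320Model

open Matrix Cfsg.Agent.S1248

variable {F : Type*} [Field F] [CharP F 2] [h16 : Fact (∀ x : F, x ^ 16 = x)]

/-- the central involution `(0, 1)` of the parameter group -/
def p0 : PF F := ⟨0, 1, by
  have h2 : (2 : F) = 0 := CharP.cast_eq_zero F 2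
  have : (1 : F) + 1 = 0 := by rw [one_add_one_eq_two, h2]
  simp [this]⟩

/-- the torus matrix -/
def hmat (ζ : F) : Matrix (Fin 3) (Fin 3) F :=
  !![ζ ^ 3, ζ ^ 3 + ζ, ζ ^ 3 + ζ;
     ζ ^ 3 + ζ, ζ ^ 3, ζ ^ 3 + ζ;
     ζ ^ 3 + ζ, ζ ^ 3 + ζ, ζ ^ 3]

omit h16 in
theorem hmat_det (ζ : F) (hζ : ζ ^ 5 = 1) : (hmat ζ).det = 1 := by
  have h2 : (2 : F) = 0 := CharP.cast_eq_zero F 2
  rw [Matrix.det_fin_three]
  simp [hmat]
  grind

omit h16 in
theorem hmat_isU (ζ : F) (hζ : ζ ^ 5 = 1) :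
    (hmat ζ)ᵀ * (hmat ζ).map (fun x => x ^ 4) = 1 := by
  have h2 : (2 : F) = 0 := CharP.cast_eq_zero F 2
  ext i j
  fin_cases i <;> fin_cases j <;>
    simp [hmat, Matrix.mul_apply, Fin.sum_univ_three] <;> grind

variable [Fintype F]

/-- the torus element of `SU₃(4)` -/
def hSU (hF : Fintype.card F = 16) (ζ : F) (hζ : ζ ^ 5 = 1) : Cfsg.SU 3 F 4 :=
  ⟨⟨hmat ζ, hmat_det ζ hζ⟩,
    (Cfsg.Agent.Lib.Helper5_SUOrder.mem_SU_iff _).mpr
      (Cfsg.Agent.S0827.isU_of_transpose_mul_map (by rw [hF]; norm_num) _ (hmat_isU ζ hζ))⟩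

omit h16 in
theorem hSU_val (hF : Fintype.card F = 16) (ζ : F) (hζ : ζ ^ 5 = 1) :
    ((hSU hF ζ hζ).1 : Matrix (Fin 3) (Fin 3) F) = hmat ζ := rfl

/-- the action of the torus element on the parameter group: `(b, c) ↦ (ζ² b, c)` -/
def actP (ζ : F) (hζ : ζ ^ 5 = 1) (p : PF F) : PF F := ⟨ζ ^ 2 * p.b, p.c, by
  have h := p.h
  rw [h, mul_pow, ← pow_mul, show 2 * 5 = 5 * 2 by norm_num, pow_mul, hζ, one_pow, one_mul]⟩

end Cfsg.Agent.Lib.Helper56_U320Model
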