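import Mathlib
import Cfsg.Agent.S1248
import Cfsg.Agent.Lib.Helper56_U320Defs
import Cfsg.Agent.Lib.Helper56_U320Model

/-!
# S1903 market (`s1903_packages`, architect helper56), package CARD, core (helper12)

`card_cent_of`: `|C_{SU₃(4)}(mSU p0)| = 320` from the statements of ZETA, ACT (`hSU_conj`,
`hSU_pow_five`, `hSU_pow_mem_iff`) and CENT (`cent_matrix`) as hypotheses.
Also `h12_card_K : |{k : k⁴ = k}| = 4` and `h12_card_PF : |PF F| = 64`.
-/

set_option autoImplicit false

namespace Cfsg.Agent.Lib.Helper12_U320_CARDaux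

open Matrix Cfsg.Agent.S1248 Cfsg.Agent.Lib.Helper56_U320Defs Cfsg.Agent.Lib.Helper56_U320Model

section
variable {F : Type*} [Field F] [CharP F 2] [h16 : Fact (∀ x : F, x ^ 16 = x)]
variable [Fintype F]

omit h16 in
theorem h12_card_K (hF : Fintype.card F = 16) : Nat.card (PF.K F) = 4 := by
  classical
  obtain ⟨ω, hω4, hω0, hω1⟩ := exists_omega hF
  have h2 : (2 : F) = 0 := two_eq_zero hF
  apply le_antisymm
  · -- at most four roots of `X ^ 4 - X`
    have hne : (Polynomial.X ^ 4 - Polynomial.X : Polynomial F) ≠ 0 :=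
      FiniteField.X_pow_card_sub_X_ne_zero F (by norm_num)
    have hdeg : (Polynomial.X ^ 4 - Polynomial.X : Polynomial F).natDegree = 4 :=
      FiniteField.X_pow_card_sub_X_natDegree_eq F (by norm_num)
    have hsub : Finset.univ.filter (fun k : F => k ^ 4 = k) ⊆
        (Polynomial.X ^ 4 - Polynomial.X : Polynomial F).roots.toFinset := by
      intro x hx
      rw [Finset.mem_filter] at hx
      rw [Multiset.mem_toFinset, Polynomial.mem_roots hne, Polynomial.IsRoot.def]
      simp [hx.2]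
    rw [Nat.card_eq_fintype_card, Fintype.card_subtype]
    calc (Finset.univ.filter (fun k : F => k ^ 4 = k)).card
        ≤ (Polynomial.X ^ 4 - Polynomial.X : Polynomial F).roots.toFinset.card :=
          Finset.card_le_card hsub
      _ ≤ Multiset.card (Polynomial.X ^ 4 - Polynomial.X : Polynomial F).roots :=
          Multiset.toFinset_card_le _
      _ ≤ (Polynomial.X ^ 4 - Polynomial.X : Polynomial F).natDegree := Polynomial.card_roots' _
      _ = 4 := hdeg
  · have hsub : ({0, 1, ω, ω + 1} : Finset F) ⊆ Finset.univ.filter (fun k : F => k ^ 4 = k) := by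
      intro x hx
      simp only [Finset.mem_insert, Finset.mem_singleton] at hx
      rw [Finset.mem_filter]
      refine ⟨Finset.mem_univ _, ?_⟩
      rcases hx with rfl | rfl | rfl | rfl
      · simp
      · simp
      · exact hω4
      · grind
    have hcard : ({0, 1, ω, ω + 1} : Finset F).card = 4 := by
      rw [Finset.card_insert_of_notMem, Finset.card_insert_of_notMem, Finset.card_insert_of_notMem,
        Finset.card_singleton]
      · simp only [Finset.mem_singleton]
        intro h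
        exact one_ne_zero (α := F) (by linear_combination -h)
      · simp only [Finset.mem_insert, Finset.mem_singleton, not_or]
        refine ⟨fun h => hω1 h.symm, fun h => hω0 ?_⟩
        linear_combination -h
      · simp only [Finset.mem_insert, Finset.mem_singleton, not_or]
        refine ⟨zero_ne_one, fun h => hω0 h.symm, fun h => hω1 ?_⟩
        linear_combination -h - h2
    have := Finset.card_le_card hsub
    rw [hcard] at this
    rw [Nat.card_eq_fintype_card, Fintype.card_subtype]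
    exact this

theorem h12_card_PF (hF : Fintype.card F = 16) : Nat.card (PF F) = 64 := by
  obtain ⟨τ, hτ⟩ := exists_tau hF
  rw [Nat.card_congr (PF.equivProd τ hτ), Nat.card_prod, Nat.card_eq_fintype_card (α := F), hF,
    h12_card_K hF]

theorem h12_mSU_mul (hF : Fintype.card F = 16) (p q : PF F) :
    mSU hF (p * q) = mSU hF p * mSU hF q := (mHom hF).map_mul p q

theorem h12_mSU_inv (hF : Fintype.card F = 16) (p : PF F) :
    mSU hF p⁻¹ = (mSU hF p)⁻¹ := (mHom hF).map_inv p

omit [Fintype F] in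
theorem h12_p0_central (p : PF F) : p * p0 = p0 * p := by
  apply PF.ext
  · show p.b + (0 : F) = (0 : F) + p.b
    ring
  · show p.c + (1 : F) + p.b ^ 4 * (0 : F) = (1 : F) + p.c + (0 : F) ^ 4 * p.b
    ring

omit h16 [Fintype F] in
theorem h12_actP_p0 (ζ : F) (hζ : ζ ^ 5 = 1) : actP ζ hζ (p0 : PF F) = p0 := by
  apply PF.ext
  · show ζ ^ 2 * (0 : F) = 0
    ring
  · rfl

/-- the core of CARD -/
theorem card_cent_of (hF : Fintype.card F = 16) (ζ : F) (hζ : ζ ^ 5 = 1)
    (hconj : ∀ p : PF F, hSU hF ζ hζ * mSU hF p = mSU hF (actP ζ hζ p) * hSU hF ζ hζ)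
    (hpow5 : hSU hF ζ hζ ^ 5 = 1)
    (hmem : ∀ j : ℕ, (∃ p : PF F, hSU hF ζ hζ ^ j = mSU hF p) ↔ 5 ∣ j)
    (hcent : ∀ g : Cfsg.SU 3 F 4, g * mSU hF p0 = mSU hF p0 * g →
      ∃ j : ℕ, ∃ p : PF F, g = hSU hF ζ hζ ^ j * mSU hF p) :
    Nat.card (Subgroup.centralizer ({mSU hF (p0 : PF F)} : Set (Cfsg.SU 3 F 4))) = 320 := by
  classical
  set s := hSU hF ζ hζ with hs
  have hsc : Commute s (mSU hF (p0 : PF F)) := by
    have := hconj p0
    rw [h12_actP_p0] at this
    exact this
  have hpc : ∀ p : PF F, Commute (mSU hF p) (mSU hF (p0 : PF F)) := by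
    intro p
    show mSU hF p * mSU hF p0 = mSU hF p0 * mSU hF p
    rw [← h12_mSU_mul, ← h12_mSU_mul, h12_p0_central]
  have hmemC : ∀ (j : ℕ) (p : PF F), s ^ j * mSU hF p ∈
      Subgroup.centralizer ({mSU hF (p0 : PF F)} : Set (Cfsg.SU 3 F 4)) := by
    intro j p
    rw [Subgroup.mem_centralizer_singleton_iff]
    exact ((hsc.pow_left j).mul_left (hpc p)).eq
  -- injectivity helper
  have hinj : ∀ (j j' : ℕ) (p p' : PF F), j ≤ j' → j' < 5 →
      s ^ j * mSU hF p = s ^ j' * mSU hF p' → j = j' ∧ p = p' := by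
    intro j j' p p' hle hlt heq
    obtain ⟨d, rfl⟩ := Nat.exists_eq_add_of_le hle
    rw [pow_add, mul_assoc] at heq
    have h1 : mSU hF p = s ^ d * mSU hF p' := mul_left_cancel heq
    have h2 : s ^ d = mSU hF (p * p'⁻¹) := by
      rw [h12_mSU_mul, h12_mSU_inv, h1, mul_assoc, mul_inv_cancel, mul_one]
    have h3 : 5 ∣ d := (hmem d).mp ⟨_, h2⟩
    have hd0 : d = 0 := by
      obtain ⟨k, hk⟩ := h3
      omega
    subst hd0
    refine ⟨rfl, ?_⟩
    rw [pow_zero, one_mul] at h1
    exact mHom_injective hF h1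
  let φ : Fin 5 × PF F → ↥(Subgroup.centralizer ({mSU hF (p0 : PF F)} : Set (Cfsg.SU 3 F 4))) :=
    fun x => ⟨s ^ (x.1 : ℕ) * mSU hF x.2, hmemC _ _⟩
  have hφ : Function.Bijective φ := by
    constructor
    · rintro ⟨j, p⟩ ⟨j', p'⟩ h
      have h' : s ^ (j : ℕ) * mSU hF p = s ^ (j' : ℕ) * mSU hF p' := congrArg Subtype.val h
      rcases le_total (j : ℕ) (j' : ℕ) with hle | hle
      · obtain ⟨e1, e2⟩ := hinj j j' p p' hle j'.2 h'
        exact Prod.ext (Fin.ext e1) e2
      · obtain ⟨e1, e2⟩ := hinj j' j p' p hle j.2 h'.symm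
        exact Prod.ext (Fin.ext e1.symm) e2.symm
    · rintro ⟨g, hg⟩
      rw [Subgroup.mem_centralizer_singleton_iff] at hg
      obtain ⟨j, p, rfl⟩ := hcent g hg
      refine ⟨(⟨j % 5, Nat.mod_lt _ (by norm_num)⟩, p), ?_⟩
      apply Subtype.ext
      show s ^ (j % 5) * mSU hF p = s ^ j * mSU hF p
      congr 1
      conv_rhs => rw [← Nat.mod_add_div j 5]
      rw [pow_add, pow_mul, hpow5, one_pow, mul_one]
  rw [← Nat.card_congr (Equiv.ofBijective φ hφ), Nat.card_prod, h12_card_PF hF,
    Nat.card_eq_fintype_card, Fintype.card_fin]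

end

end Cfsg.Agent.Lib.Helper12_U320_CARDaux
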