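import Mathlib
import Cfsg.Agent.Lib.Helper27_UQDefs
import Cfsg.Agent.Lib.Helper94_HermWitt
import Cfsg.Agent.Lib.Helper94_HermIrr
import Cfsg.Agent.Lib.Helper27_UQ_CARD

/-!
# S2151-T5 (U5 market, helper85), package D3-WITT: a nondegenerate hermitian space of dimension 3
has Witt index one; frames
-/

set_option autoImplicit false
set_option linter.unusedSectionVars false
set_option linter.unusedVariables false

open Module Cfsg.Agent.Lib.Helper94_Symp Cfsg.Agent.Lib.Helper94_Herm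
  Cfsg.Agent.Lib.Helper94_HermEich Cfsg.Agent.Lib.Helper94_HermPara
  Cfsg.Agent.Lib.Helper94_HermTrans
  Cfsg.Agent.Lib.Helper13_SUGen Cfsg.Agent.Lib.Helper13_PSUSimple
  Cfsg.Agent.Lib.Helper46_U3TI Cfsg.Agent.Lib.Helper14_PSULocal1
  Cfsg.Agent.Lib.Helper27_UQDefs

namespace Cfsg.Agent.Lib.Helper54_U5_D3WITT

variable {F U : Type*} [Field F] [AddCommGroup U] [Module F U] {σ : F →+* F}
variable {C : U →ₗ[F] U →ₛₗ[σ] F}

/-- **D3-WITT**.  Hyperbolic decomposition: for a hyperbolic pair `(a,a')` there is an anisotropic `e` with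
`C e a = 0 = C e a'` and every vector is `x a + y a' + z e`. -/
theorem exists_frame [FiniteDimensional F U] (hσ : Invol σ) (hC : IsHerm C) (hN : NondegOn C ⊤)
    (h3 : finrank F U = 3) {a a' : U} (h : HypPair C a a') :
    ∃ e : U, C e e ≠ 0 ∧ C e a = 0 ∧ C e a' = 0 ∧
      ∀ x : U, x = C x a' • a + C x a • a' + (C x e / C e e) • e := by
  have hfr : finrank F ↥(Wsub C a a') = 1 := by
    have := Cfsg.Agent.Lib.Helper27_UQ_CARD.finrank_Wsub h
    omega
  have hpos : 0 < finrank F ↥(Wsub C a a') := by omega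
  have hnt : Nontrivial ↥(Wsub C a a') := Module.finrank_pos_iff.1 hpos
  obtain ⟨e₀, he₀⟩ := exists_ne (0 : ↥(Wsub C a a'))
  have he₀' : (e₀ : U) ≠ 0 := fun h0 => he₀ (Subtype.ext h0)
  have hgen : ∀ w : ↥(Wsub C a a'), ∃ c : F, c • e₀ = w :=
    (finrank_eq_one_iff_of_nonzero' e₀ he₀).1 hfr
  have hea : C (e₀ : U) a = 0 := e₀.2.1
  have hea' : C (e₀ : U) a' = 0 := e₀.2.2
  have hND := nondegOn_pair hC hN (Submodule.mem_top (x := a)) (Submodule.mem_top (x := a'))
    h.ee h.ff h.ef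
  have hmem : (e₀ : U) ∈ ((⊤ : Submodule F U) ⊓ orthV C a ⊓ orthV C a' : Submodule F U) :=
    Submodule.mem_inf.2 ⟨Submodule.mem_inf.2 ⟨Submodule.mem_top, mem_orthV.2 hea⟩,
      mem_orthV.2 hea'⟩
  obtain ⟨y, hy, hey⟩ := hND _ hmem he₀'
  have hya : C y a = 0 := mem_orthV.1 (Submodule.mem_inf.1 (Submodule.mem_inf.1 hy).1).2
  have hya' : C y a' = 0 := mem_orthV.1 (Submodule.mem_inf.1 hy).2
  obtain ⟨k, hk⟩ := hgen ⟨y, hya, hya'⟩
  have hk' : y = k • (e₀ : U) := (congrArg Subtype.val hk).symm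
  have hee : C (e₀ : U) (e₀ : U) ≠ 0 := by
    intro h0
    apply hey
    rw [hk', map_smulₛₗ, h0, smul_zero]
  refine ⟨(e₀ : U), hee, hea, hea', ?_⟩
  intro x
  obtain ⟨c, hc⟩ := hgen ⟨perpPart C a a' x, perpPart_e h x, perpPart_f h x⟩
  have hc' : perpPart C a a' x = c • (e₀ : U) := (congrArg Subtype.val hc).symm
  have hx := eq_add_perpPart (B := C) a a' x
  have hae : C a (e₀ : U) = 0 := herm_eq_zero hC hea
  have ha'e : C a' (e₀ : U) = 0 := herm_eq_zero hC hea'
  have hxe : C x (e₀ : U) = c * C (e₀ : U) (e₀ : U) := by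
    conv_lhs => rw [hx, hc']
    simp only [map_add, map_smul, LinearMap.add_apply, LinearMap.smul_apply, smul_eq_mul, hae,
      ha'e]
    ring
  have hdiv : C x (e₀ : U) / C (e₀ : U) (e₀ : U) = c := by
    rw [hxe, mul_div_cancel_right₀ _ hee]
  rw [hdiv, ← hc']
  exact hx

/-- **D3-WITT** (S/M).  Witt index one: two orthogonal isotropic vectors are proportional. -/
theorem witt_one [FiniteDimensional F U] (hσ : Invol σ) (hC : IsHerm C) (hN : NondegOn C ⊤)
    (h3 : finrank F U = 3) {a u : U} (ha0 : a ≠ 0) (haa : C a a = 0) (huu : C u u = 0)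
    (hau : C a u = 0) : ∃ c : F, u = c • a := by
  obtain ⟨a', _, ha'a', haa'⟩ := exists_partner hσ hC hN (Submodule.mem_top (x := a)) ha0 haa
  have h : HypPair C a a' := hypPair_mk hC haa ha'a' haa'
  obtain ⟨e, hee, hea, hea', hdec⟩ := exists_frame hσ hC hN h3 h
  have hua : C u a = 0 := herm_eq_zero hC hau
  have hu := hdec u
  rw [hua, zero_smul, add_zero] at hu
  obtain ⟨α, hα⟩ : ∃ α, α = C u a' := ⟨_, rfl⟩
  obtain ⟨κ, hκ⟩ : ∃ κ, κ = C u e / C e e := ⟨_, rfl⟩
  rw [← hα, ← hκ] at hu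
  have hae : C a e = 0 := herm_eq_zero hC hea
  have hnorm : C u u = κ * σ κ * C e e := by
    conv_lhs => rw [hu]
    simp only [map_add, map_smul, map_smulₛₗ, LinearMap.add_apply, LinearMap.smul_apply,
      smul_eq_mul, haa, hae, hea]
    ring
  rw [huu] at hnorm
  have hκ0 : κ = 0 := by
    rcases mul_eq_zero.1 hnorm.symm with h1 | h1
    · rcases mul_eq_zero.1 h1 with h2 | h2
      · exact h2
      · exact (map_eq_zero σ).1 h2
    · exact absurd h1 hee
  refine ⟨α, ?_⟩
  rw [hu, hκ0, zero_smul, add_zero]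

/-- **D3-WITT**.  Every nonzero vector is non-orthogonal to some isotropic vector. -/
theorem exists_iso_nperp [Finite F] [FiniteDimensional F U] (hσ : Invol σ) (hC : IsHerm C)
    (hN : NondegOn C ⊤) (h3 : finrank F U = 3) {x : U} (hx : x ≠ 0) :
    ∃ u : U, C u u = 0 ∧ C x u ≠ 0 := by
  obtain ⟨y, hy⟩ : ∃ y : U, y ∉ Submodule.span F {x} := by
    by_contra hcon
    push Not at hcon
    have htop : (⊤ : Submodule F U) ≤ Submodule.span F {x} := fun y _ => hcon y
    have h1 := Submodule.finrank_mono htop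
    rw [finrank_top, h3] at h1
    have h2 : finrank F (Submodule.span F {x}) ≤ 1 := by
      have := finrank_span_le_card (R := F) ({x} : Set U)
      simpa using this
    omega
  obtain ⟨α, β, hne, hiso⟩ := exists_iso hσ hC hx hy
  obtain ⟨a', _, ha'a', haa'⟩ :=
    exists_partner hσ hC hN (Submodule.mem_top (x := α • x + β • y)) hne hiso
  by_contra hcon
  push Not at hcon
  obtain ⟨z, _, hz⟩ := hN x Submodule.mem_top hx
  apply hz
  have hspan := span_iso hσ hC (U := ⊤) (Submodule.mem_top (x := α • x + β • y))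
    (Submodule.mem_top (x := a')) hiso ha'a' haa' z Submodule.mem_top
  have hle : Submodule.span F {z | z ∈ (⊤ : Submodule F U) ∧ C z z = 0} ≤ LinearMap.ker (C x) := by
    rw [Submodule.span_le]
    intro w hw
    exact LinearMap.mem_ker.2 (hcon w hw.2)
  exact LinearMap.mem_ker.1 (hle hspan)

end Cfsg.Agent.Lib.Helper54_U5_D3WITT
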