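import Mathlib
import Cfsg.Agent.Lib.Helper27_UQDefs
import Cfsg.Agent.Lib.Helper94_HermWitt
import Cfsg.Agent.Lib.Helper94_HermIrr
import Cfsg.Agent.Lib.Helper95_UQ_FLD
import Cfsg.Agent.Lib.Helper27_UQ_GEN
import Cfsg.Agent.Lib.Helper54_U5_D3WITT

set_option autoImplicit false
set_option linter.unusedSectionVars false
set_option linter.unusedVariables false

open Module Cfsg.Agent.Lib.Helper94_Symp Cfsg.Agent.Lib.Helper94_Herm
  Cfsg.Agent.Lib.Helper94_HermEich Cfsg.Agent.Lib.Helper94_HermPara
  Cfsg.Agent.Lib.Helper94_HermTrans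
  Cfsg.Agent.Lib.Helper13_SUGen Cfsg.Agent.Lib.Helper13_PSUSimple
  Cfsg.Agent.Lib.Helper46_U3TI Cfsg.Agent.Lib.Helper14_PSULocal1
  Cfsg.Agent.Lib.Helper27_UQDefs

/-!
# S2151-T5 package D3-FQ5a (architect helper85; formalised by helper12)

Case (d5) of the `F_q`-form lemma: an isotropic `a ∈ I` with `I ∩ F a = F_q a` has between `1` and `q`
hyperbolic partners inside `I`.
-/

namespace Cfsg.Agent.Lib.Helper12_U5_D3FQ5a

open Cfsg.Agent.Lib.Helper54_U5_D3WITT

section D3

variable {F U : Type*} [Field F] [AddCommGroup U] [Module F U] {σ : F →+* F}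
variable {C : U →ₗ[F] U →ₛₗ[σ] F}

/-! ### sesquilinear algebra -/

theorem C_add_left (x y z : U) : C (x + y) z = C x z + C y z := by
  rw [map_add, LinearMap.add_apply]

theorem C_sub_left (x y z : U) : C (x - y) z = C x z - C y z := by
  rw [map_sub, LinearMap.sub_apply]

theorem C_smul_left (c : F) (x z : U) : C (c • x) z = c * C x z := by
  rw [map_smul, LinearMap.smul_apply, smul_eq_mul]

theorem C_add_right (x y z : U) : C x (y + z) = C x y + C x z := map_add _ _ _

theorem C_smul_right (c : F) (x y : U) : C x (c • y) = σ c * C x y := by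
  rw [map_smulₛₗ, smul_eq_mul]

/-! ### the fixed field -/

/-- a type that injects into the fixed field has at most `q` elements -/
theorem card_le_of_inj_fixed [Finite F] (hσ : Invol σ) {q : ℕ} (hF : Nat.card F = q ^ 2)
    {α : Type*} (f : α → F) (hf : ∀ x, σ (f x) = f x) (hinj : Function.Injective f) :
    Nat.card α ≤ q := by
  rw [← Cfsg.Agent.Lib.Helper95_UQ_FLD.card_fixed hσ hF]
  apply Nat.card_le_card_of_injective (fun x => (⟨f x, hf x⟩ : {a : F // σ a = a}))
  intro x y h
  exact hinj (congrArg Subtype.val h)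

theorem two_le_q [Finite F] {q : ℕ} (hF : Nat.card F = q ^ 2) : 2 ≤ q := by
  have h1 : 1 < Nat.card F := Finite.one_lt_card
  rw [hF] at h1
  by_contra h
  have : q ≤ 1 := by omega
  have : q ^ 2 ≤ 1 := by
    calc q ^ 2 ≤ 1 ^ 2 := Nat.pow_le_pow_left this 2
      _ = 1 := by norm_num
  omega

/-- an additive map with `σ`-fixed values on a finite group: `|A| ≤ q |ker|` -/
theorem card_le_mul_ker [Finite F] (hσ : Invol σ) {q : ℕ} (hF : Nat.card F = q ^ 2)
    {A : Type*} [AddGroup A] [Finite A] (g : A →+ F) (hg : ∀ x, σ (g x) = g x) :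
    Nat.card A ≤ q * Nat.card g.ker := by
  have h1 := AddSubgroup.card_mul_index g.ker
  rw [AddSubgroup.index_ker] at h1
  have h2 : Nat.card g.range ≤ q := by
    apply card_le_of_inj_fixed hσ hF (fun x : g.range => (x : F))
    · rintro ⟨_, y, rfl⟩
      exact hg y
    · exact Subtype.val_injective
  calc Nat.card A = Nat.card g.ker * Nat.card g.range := h1.symm
    _ ≤ Nat.card g.ker * q := Nat.mul_le_mul_left _ h2
    _ = q * Nat.card g.ker := mul_comm _ _


/-! ### Part A: `I` is not contained in `a^⊥` -/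

theorem herm_self (hC : IsHerm C) (x : U) : σ (C x x) = C x x := (hC x x).symm

theorem fixed_inv (hσ : Invol σ) {c : F} (hc : σ c = c) : σ c⁻¹ = c⁻¹ := by
  rw [map_inv₀, hc]

/-- Part A. -/
theorem exists_nperp [Finite F] [FiniteDimensional F U] (hσ : Invol σ) (hC : IsHerm C)
    (hN : NondegOn C ⊤) {q : ℕ} (hF : Nat.card F = q ^ 2) (h3 : finrank F U = 3)
    (I : AddSubgroup U) (hcard : Nat.card I = q ^ 3) (hI : ∀ x ∈ I, ∀ y ∈ I, σ (C x y) = C x y)
    {a : U} (ha : a ∈ I) (ha0 : a ≠ 0) (haa : C a a = 0) (hrat : ∀ μ : F, μ • a ∈ I → σ μ = μ) :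
    ∃ x ∈ I, C x a ≠ 0 := by
  by_contra hcon
  push Not at hcon
  haveI : Finite U := Module.finite_of_finite F
  have hq2 := two_le_q hF
  obtain ⟨a', hp⟩ := Cfsg.Agent.Lib.Helper27_UQ_GEN.exists_hypPair hσ hC hN ha0 haa
  obtain ⟨e, hee, hea, hea', hdec⟩ := exists_frame hσ hC hN h3 hp
  have hae : C a e = 0 := by rw [hC e a, hea, map_zero]
  have hQe : σ (C e e) = C e e := herm_self hC e
  -- decomposition of the elements of `I`
  have hdecI : ∀ x ∈ I, x = C x a' • a + (C x e / C e e) • e := by
    intro x hx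
    have h := hdec x
    rw [hcon x hx, zero_smul, add_zero] at h
    exact h
  -- the form on `I`
  have hform : ∀ x ∈ I, ∀ y ∈ I, C x y = C x e * σ (C y e) / C e e := by
    intro x hx y hy
    conv_lhs => rw [hdecI x hx, hdecI y hy]
    simp only [C_add_left, C_smul_left, C_add_right, C_smul_right, haa, hae, hea, mul_zero,
      zero_add, add_zero, map_div₀, hQe]
    field_simp
  -- the map `x ↦ C x e` on `I`
  let g0 : ↥I →+ F := AddMonoidHom.mk' (fun x : ↥I => C (x : U) e) (by
    intro x y
    show C ((x : U) + (y : U)) e = _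
    rw [C_add_left])
  -- its kernel has at most `q` elements
  have hker : Nat.card g0.ker ≤ q := by
    apply card_le_of_inj_fixed hσ hF (fun x : g0.ker => C ((x : ↥I) : U) a')
    · intro x
      apply hrat
      have hx0 : C ((x : ↥I) : U) e = 0 := x.2
      have h := hdecI _ (x : ↥I).2
      rw [hx0, zero_div, zero_smul, add_zero] at h
      rw [← h]
      exact (x : ↥I).2
    · intro x y hxy
      have hx0 : C ((x : ↥I) : U) e = 0 := x.2
      have hy0 : C ((y : ↥I) : U) e = 0 := y.2
      have h1 := hdecI _ (x : ↥I).2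
      have h2 := hdecI _ (y : ↥I).2
      rw [hx0, zero_div, zero_smul, add_zero] at h1
      rw [hy0, zero_div, zero_smul, add_zero] at h2
      apply Subtype.ext
      apply Subtype.ext
      rw [h1, h2]
      simp only at hxy
      rw [hxy]
  -- bound `|I|`
  have hbound : Nat.card I ≤ q * q := by
    by_cases hall : ∀ y : ↥I, C (y : U) e = 0
    · have htop : g0.ker = ⊤ := by
        rw [eq_top_iff]
        intro x _
        exact hall x
      have : Nat.card I = Nat.card g0.ker := by
        rw [htop, AddSubgroup.card_top]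
      rw [this]
      calc Nat.card g0.ker ≤ q := hker
        _ ≤ q * q := Nat.le_mul_self q
    · push Not at hall
      obtain ⟨y0, hy0⟩ := hall
      set c : F := σ (C (y0 : U) e) / C e e with hc
      have hc0 : c ≠ 0 := by
        rw [hc]
        apply div_ne_zero _ hee
        intro h
        apply hy0
        have := congrArg σ h
        rwa [hσ.invol, map_zero] at this
      let g1 : ↥I →+ F := AddMonoidHom.mk' (fun x : ↥I => C (x : U) e * c) (by
        intro x y
        show C ((x : U) + (y : U)) e * c = _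
        rw [C_add_left, add_mul])
      have hg1 : ∀ x, σ (g1 x) = g1 x := by
        intro x
        show σ (C (x : U) e * c) = C (x : U) e * c
        have h1 := hform x x.2 y0 y0.2
        have h2 := hI x x.2 y0 y0.2
        rw [h1] at h2
        have : C (x : U) e * c = C (x : U) e * σ (C (y0 : U) e) / C e e := by
          rw [hc]; ring
        rw [this]
        exact h2
      have hk : g1.ker = g0.ker := by
        ext x
        rw [AddMonoidHom.mem_ker, AddMonoidHom.mem_ker]
        show C (x : U) e * c = 0 ↔ C (x : U) e = 0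
        constructor
        · intro h
          rcases mul_eq_zero.1 h with h | h
          · exact h
          · exact absurd h hc0
        · intro h
          rw [h, zero_mul]
      have := card_le_mul_ker hσ hF g1 hg1
      rw [hk] at this
      calc Nat.card I ≤ q * Nat.card g0.ker := this
        _ ≤ q * q := Nat.mul_le_mul_left _ hker
  rw [hcard] at hbound
  have : q * q < q ^ 3 := by
    calc q * q = q * q * 1 := by ring
      _ < q * q * q := by
        apply Nat.mul_lt_mul_of_pos_left (by omega)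
        positivity
      _ = q ^ 3 := by ring
  omega


/-! ### Part B: existence of a partner -/

/-- an element `x₀ ∈ I` with `C x₀ a = 1` -/
theorem exists_unit_pair [Finite F] [FiniteDimensional F U] (hσ : Invol σ) (hC : IsHerm C)
    (hN : NondegOn C ⊤) {q : ℕ} (hF : Nat.card F = q ^ 2) (h3 : finrank F U = 3)
    (I : AddSubgroup U) (hcard : Nat.card I = q ^ 3) (hI : ∀ x ∈ I, ∀ y ∈ I, σ (C x y) = C x y)
    (hcl : ∀ a : F, σ a = a → ∀ x ∈ I, a • x ∈ I)
    {a : U} (ha : a ∈ I) (ha0 : a ≠ 0) (haa : C a a = 0) (hrat : ∀ μ : F, μ • a ∈ I → σ μ = μ) :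
    ∃ x0 ∈ I, C x0 a = 1 := by
  obtain ⟨x, hx, hxa⟩ := exists_nperp hσ hC hN hF h3 I hcard hI ha ha0 haa hrat
  have hfix : σ (C x a) = C x a := hI x hx a ha
  refine ⟨(C x a)⁻¹ • x, hcl _ (fixed_inv hσ hfix) x hx, ?_⟩
  rw [C_smul_left, inv_mul_cancel₀ hxa]

/-- in characteristic 2: an anisotropic `y ∈ I ∩ a^⊥` -/
theorem exists_aniso_perp [Finite F] [FiniteDimensional F U] (hσ : Invol σ) (hC : IsHerm C)
    (hN : NondegOn C ⊤) {q : ℕ} (hF : Nat.card F = q ^ 2) (h3 : finrank F U = 3)
    (I : AddSubgroup U) (hcard : Nat.card I = q ^ 3) (hI : ∀ x ∈ I, ∀ y ∈ I, σ (C x y) = C x y)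
    {a : U} (ha : a ∈ I) (ha0 : a ≠ 0) (haa : C a a = 0) (hrat : ∀ μ : F, μ • a ∈ I → σ μ = μ) :
    ∃ y ∈ I, C y a = 0 ∧ C y y ≠ 0 := by
  haveI : Finite U := Module.finite_of_finite F
  have hq2 := two_le_q hF
  obtain ⟨a', hp⟩ := Cfsg.Agent.Lib.Helper27_UQ_GEN.exists_hypPair hσ hC hN ha0 haa
  let g : ↥I →+ F := AddMonoidHom.mk' (fun x : ↥I => C (x : U) a) (by
    intro x y
    show C ((x : U) + (y : U)) a = _
    rw [C_add_left])
  have hg : ∀ x, σ (g x) = g x := fun x => hI x x.2 a ha
  have h1 := card_le_mul_ker hσ hF g hg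
  rw [hcard] at h1
  by_contra hcon
  push Not at hcon
  -- every element of the kernel is a multiple of `a`
  have hmult : ∀ x : g.ker, ∃ c : F, ((x : ↥I) : U) = c • a := by
    intro x
    have hxa : C ((x : ↥I) : U) a = 0 := x.2
    have hxx := hcon _ (x : ↥I).2 hxa
    have hax : C a ((x : ↥I) : U) = 0 := by rw [hC _ a, hxa, map_zero]
    exact witt_one hσ hC hN h3 ha0 haa hxx hax
  have hker : Nat.card g.ker ≤ q := by
    apply card_le_of_inj_fixed hσ hF (fun x : g.ker => C ((x : ↥I) : U) a')
    · intro x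
      obtain ⟨c, hc⟩ := hmult x
      apply hrat
      rw [hc, C_smul_left, hp.ef, mul_one, ← hc]
      exact (x : ↥I).2
    · intro x y hxy
      obtain ⟨c, hc⟩ := hmult x
      obtain ⟨d, hd⟩ := hmult y
      simp only [hc, hd, C_smul_left, hp.ef, mul_one] at hxy
      apply Subtype.ext
      apply Subtype.ext
      rw [hc, hd, hxy]
  have : q ^ 3 ≤ q * q := by
    calc q ^ 3 ≤ q * Nat.card g.ker := h1
      _ ≤ q * q := Nat.mul_le_mul_left _ hker
  have h3' : q * q < q ^ 3 := by
    calc q * q = q * q * 1 := by ring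
      _ < q * q * q := by
        apply Nat.mul_lt_mul_of_pos_left (by omega)
        positivity
      _ = q ^ 3 := by ring
  omega

/-- Part B. -/
theorem exists_partner_in [Finite F] [FiniteDimensional F U] (hσ : Invol σ) (hC : IsHerm C)
    (hN : NondegOn C ⊤) {q : ℕ} (hF : Nat.card F = q ^ 2) (h3 : finrank F U = 3)
    (I : AddSubgroup U) (hcard : Nat.card I = q ^ 3) (hI : ∀ x ∈ I, ∀ y ∈ I, σ (C x y) = C x y)
    (hcl : ∀ a : F, σ a = a → ∀ x ∈ I, a • x ∈ I)
    {a : U} (ha : a ∈ I) (ha0 : a ≠ 0) (haa : C a a = 0) (hrat : ∀ μ : F, μ • a ∈ I → σ μ = μ) :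
    ∃ a' ∈ I, HypPair C a a' := by
  obtain ⟨x0, hx0, hx0a⟩ := exists_unit_pair hσ hC hN hF h3 I hcard hI hcl ha ha0 haa hrat
  have hax0 : C a x0 = 1 := by rw [hC x0 a, hx0a, map_one]
  have hQ0 : σ (C x0 x0) = C x0 x0 := herm_self hC x0
  by_cases h2 : (2 : F) = 0
  · -- characteristic 2
    obtain ⟨y, hy, hya, hyy⟩ := exists_aniso_perp hσ hC hN hF h3 I hcard hI ha ha0 haa hrat
    have hay : C a y = 0 := by rw [hC y a, hya, map_zero]
    have hQy : σ (C y y) = C y y := herm_self hC y
    haveI : CharP F 2 := CharTwo.of_one_ne_zero_of_two_eq_zero one_ne_zero h2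
    obtain ⟨r, hr⟩ := FiniteField.isSquare_of_char_two (ringChar.eq F 2) (C x0 x0 / C y y)
    have hrfix : σ r = r := by
      have h1 : σ r * σ r = r * r := by
        rw [← map_mul, ← hr, map_div₀, hQ0, hQy]
      have h3 : (σ r - r) * (σ r - r) = 0 := by
        have : (σ r - r) * (σ r - r) = σ r * σ r + r * r - 2 * (σ r * r) := by ring
        rw [this, h1, h2, zero_mul, sub_zero, ← two_mul, h2, zero_mul]
      rcases mul_eq_zero.1 h3 with h | h <;> exact sub_eq_zero.1 h
    have hx0y : σ (C x0 y) = C x0 y := hI x0 hx0 y hy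
    have hyx0 : C y x0 = C x0 y := by rw [hC x0 y, hx0y]
    refine ⟨x0 + r • y, I.add_mem hx0 (hcl r hrfix y hy), ?_⟩
    apply hypPair_mk hC haa
    · simp only [C_add_left, C_add_right, C_smul_left, C_smul_right, hrfix, hyx0]
      have h4 : r * r * C y y = C x0 x0 := by
        rw [← hr]
        field_simp
      have : C x0 x0 + r * C x0 y + r * (C x0 y + r * C y y) =
          C x0 x0 + r * r * C y y + 2 * (r * C x0 y) := by ring
      rw [this, h4, h2, zero_mul, add_zero, ← two_mul, h2, zero_mul]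
    · rw [C_add_right, C_smul_right, hax0, hay, mul_zero, add_zero]
  · -- characteristic not 2
    set s : F := -(C x0 x0) / 2 with hs
    have h2fix : σ (2 : F) = 2 := map_ofNat σ 2
    have hsfix : σ s = s := by
      rw [hs, map_div₀, map_neg, hQ0, h2fix]
    refine ⟨x0 + s • a, I.add_mem hx0 (hcl s hsfix a ha), ?_⟩
    apply hypPair_mk hC haa
    · simp only [C_add_left, C_add_right, C_smul_left, C_smul_right, hsfix, hx0a, hax0, haa]
      rw [hs]
      field_simp
      ring
    · rw [C_add_right, C_smul_right, hax0, haa, mul_zero, add_zero]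


/-! ### Part C: at most `q` partners -/

theorem card_partners_le [Finite F] [FiniteDimensional F U] (hσ : Invol σ) (hC : IsHerm C)
    (hN : NondegOn C ⊤) {q : ℕ} (hF : Nat.card F = q ^ 2) (h3 : finrank F U = 3)
    (I : AddSubgroup U) (hI : ∀ x ∈ I, ∀ y ∈ I, σ (C x y) = C x y)
    {a a0 : U} (ha : a ∈ I) (ha0I : a0 ∈ I) (hp0 : HypPair C a a0) :
    Nat.card {a' : U // a' ∈ I ∧ HypPair C a a'} ≤ q := by
  have hq2 := two_le_q hF
  obtain ⟨e, hee, hea, hea0, hdec⟩ := exists_frame hσ hC hN h3 hp0
  have hQe : σ (C e e) = C e e := herm_self hC e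
  -- coordinates of a partner
  have hcoord : ∀ p : {a' : U // a' ∈ I ∧ HypPair C a a'},
      (p : U) = C (p : U) a0 • a + a0 + (C (p : U) e / C e e) • e := by
    intro p
    have h := hdec (p : U)
    rw [p.2.2.fe, one_smul] at h
    exact h
  have htfix : ∀ p : {a' : U // a' ∈ I ∧ HypPair C a a'}, σ (C (p : U) a0) = C (p : U) a0 :=
    fun p => hI _ p.2.1 a0 ha0I
  -- the norm equation
  have hnorm : ∀ p : {a' : U // a' ∈ I ∧ HypPair C a a'},
      2 * C (p : U) a0 + C (p : U) e * σ (C (p : U) e) / C e e = 0 := by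
    intro p
    have h0 : C (p : U) (p : U) = 0 := p.2.2.ff
    have h1 : C (C (p : U) a0 • a + a0 + (C (p : U) e / C e e) • e) (p : U) = 0 := by
      rw [← hcoord p]; exact h0
    simp only [C_add_left, C_smul_left] at h1
    rw [p.2.2.ef, hC (p : U) a0, htfix p, hC (p : U) e] at h1
    rw [← h1]
    ring
  -- the mixed values
  have hmixed : ∀ p p' : {a' : U // a' ∈ I ∧ HypPair C a a'},
      σ (C (p : U) e * σ (C (p' : U) e) / C e e) = C (p : U) e * σ (C (p' : U) e) / C e e := by
    intro p p'
    have h0 := hI _ p.2.1 _ p'.2.1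
    have h1 : C (p : U) (p' : U) =
        C (p : U) a0 + C (p' : U) a0 + C (p : U) e * σ (C (p' : U) e) / C e e := by
      conv_lhs => rw [hcoord p]
      simp only [C_add_left, C_smul_left]
      rw [p'.2.2.ef, hC (p' : U) a0, htfix p', hC (p' : U) e]
      ring
    have h2 : C (p : U) e * σ (C (p' : U) e) / C e e =
        C (p : U) (p' : U) - C (p : U) a0 - C (p' : U) a0 := by rw [h1]; ring
    rw [h2, map_sub, map_sub, h0, htfix p, htfix p']
  -- a partner is determined by its coordinates
  have hdet : ∀ p p' : {a' : U // a' ∈ I ∧ HypPair C a a'},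
      C (p : U) a0 = C (p' : U) a0 → C (p : U) e = C (p' : U) e → p = p' := by
    intro p p' h1 h2
    apply Subtype.ext
    rw [hcoord p, hcoord p', h1, h2]
  by_cases h2 : (2 : F) = 0
  · -- characteristic 2: the `e`-coordinate vanishes
    have he0 : ∀ p : {a' : U // a' ∈ I ∧ HypPair C a a'}, C (p : U) e = 0 := by
      intro p
      have h := hnorm p
      rw [h2, zero_mul, zero_add, div_eq_zero_iff] at h
      rcases h with h | h
      · rcases mul_eq_zero.1 h with h | h
        · exact h
        · have := congrArg σ h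
          rwa [hσ.invol, map_zero] at this
      · exact absurd h hee
    apply card_le_of_inj_fixed hσ hF (fun p : {a' : U // a' ∈ I ∧ HypPair C a a'} => C (p : U) a0)
      htfix
    intro p p' h
    exact hdet p p' h (by rw [he0 p, he0 p'])
  · -- characteristic not 2: the `a`-coordinate is determined by the `e`-coordinate
    have hdet' : ∀ p p' : {a' : U // a' ∈ I ∧ HypPair C a a'},
        C (p : U) e = C (p' : U) e → p = p' := by
      intro p p' h
      apply hdet p p' _ h
      have e1 := hnorm p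
      have e2 := hnorm p'
      rw [h] at e1
      have : 2 * (C (p : U) a0 - C (p' : U) a0) = 0 := by linear_combination e1 - e2
      rcases mul_eq_zero.1 this with h' | h'
      · exact absurd h' h2
      · exact sub_eq_zero.1 h'
    by_cases hall : ∀ p : {a' : U // a' ∈ I ∧ HypPair C a a'}, C (p : U) e = 0
    · have hsub : Subsingleton {a' : U // a' ∈ I ∧ HypPair C a a'} :=
        ⟨fun p p' => hdet' p p' (by rw [hall p, hall p'])⟩
      have : Nat.card {a' : U // a' ∈ I ∧ HypPair C a a'} ≤ 1 := by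
        haveI := hsub
        exact Finite.card_le_one_iff_subsingleton.2 hsub
      omega
    · push Not at hall
      obtain ⟨p0, hp0e⟩ := hall
      have hc0 : σ (C (p0 : U) e) / C e e ≠ 0 := by
        apply div_ne_zero _ hee
        intro h
        apply hp0e
        have := congrArg σ h
        rwa [hσ.invol, map_zero] at this
      apply card_le_of_inj_fixed hσ hF
        (fun p : {a' : U // a' ∈ I ∧ HypPair C a a'} => C (p : U) e * σ (C (p0 : U) e) / C e e)
        (fun p => hmixed p p0)
      intro p p' h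
      apply hdet' p p'
      simp only at h
      have h' : C (p : U) e * (σ (C (p0 : U) e) / C e e) =
          C (p' : U) e * (σ (C (p0 : U) e) / C e e) := by
        rw [← mul_div_assoc, ← mul_div_assoc]; exact h
      exact mul_right_cancel₀ hc0 h'

/-- **D3-FQ5a** (M).  Case (d5): every isotropic `a ∈ I` with `I ∩ F a = F_q a` has between `1` and `q`
hyperbolic partners inside `I`. -/
theorem fq_partners [Finite F] [FiniteDimensional F U] (hσ : Invol σ) (hC : IsHerm C)
    (hN : NondegOn C ⊤) {q : ℕ} (hF : Nat.card F = q ^ 2) (h3 : finrank F U = 3)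
    (I : AddSubgroup U) (hcard : Nat.card I = q ^ 3) (hI : ∀ x ∈ I, ∀ y ∈ I, σ (C x y) = C x y)
    (hcl : ∀ a : F, σ a = a → ∀ x ∈ I, a • x ∈ I)
    {a : U} (ha : a ∈ I) (ha0 : a ≠ 0) (haa : C a a = 0) (hrat : ∀ μ : F, μ • a ∈ I → σ μ = μ) :
    (∃ a' ∈ I, HypPair C a a') ∧ Nat.card {a' : U // a' ∈ I ∧ HypPair C a a'} ≤ q := by
  obtain ⟨a0, ha0I, hp0⟩ := exists_partner_in hσ hC hN hF h3 I hcard hI hcl ha ha0 haa hrat
  exact ⟨⟨a0, ha0I, hp0⟩, card_partners_le hσ hC hN hF h3 I hI ha ha0I hp0⟩

end D3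

end Cfsg.Agent.Lib.Helper12_U5_D3FQ5a
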