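import Mathlib
import Cfsg.Agent.Lib.Helper27_UQDefs
import Cfsg.Agent.Lib.Helper95_UQ_FLD

set_option autoImplicit false

/-!
# UQ-COUNT (helper27's unitary `Q_v` foundation layer): one-step recursion for the number of vectors of a
given norm: `#{x | B x x = s} = (q^2-1) q |W| + q^2 #{w ∈ W | B w w = s}`.
-/

namespace Cfsg.Agent.Lib.Helper95_UQ_COUNT

open Module Cfsg.Agent.Lib.Helper94_Symp Cfsg.Agent.Lib.Helper94_Herm
  Cfsg.Agent.Lib.Helper13_SUGen Cfsg.Agent.Lib.Helper27_UQDefs Cfsg.Agent.Lib.Helper95_UQ_FLD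

variable {F V : Type*} [Field F] [AddCommGroup V] [Module F V] {σ : F →+* F}
variable {B : V →ₗ[F] V →ₛₗ[σ] F}

/-- the coordinates `x ↦ ((B x v', B x v), perpPart x)` : `V ≃ (F × F) × W` -/
noncomputable def coordEquiv {v v' : V} (h : HypPair B v v') :
    V ≃ (F × F) × ↥(Wsub B v v') where
  toFun x := ((B x v', B x v), ⟨perpPart B v v' x, ⟨perpPart_e h x, perpPart_f h x⟩⟩)
  invFun p := p.1.1 • v + p.1.2 • v' + (p.2 : V)
  left_inv x := by
    simp only
    exact (eq_add_perpPart (B := B) v v' x).symm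
  right_inv := by
    rintro ⟨⟨a, b⟩, ⟨w, hw1, hw2⟩⟩
    have hw1' : B w v = 0 := hw1
    have hw2' : B w v' = 0 := hw2
    have ha : B (a • v + b • v' + w) v' = a := by
      simp only [map_add, map_smul, LinearMap.add_apply, LinearMap.smul_apply, smul_eq_mul,
        h.ef, h.ff, hw2']
      ring
    have hb : B (a • v + b • v' + w) v = b := by
      simp only [map_add, map_smul, LinearMap.add_apply, LinearMap.smul_apply, smul_eq_mul,
        h.ee, h.fe, hw1']
      ring
    refine Prod.ext (Prod.ext ha hb) (Subtype.ext ?_)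
    show perpPart B v v' (a • v + b • v' + w) = w
    unfold perpPart
    rw [ha, hb]
    abel

theorem coordEquiv_symm_apply {v v' : V} (h : HypPair B v v') (p : (F × F) × ↥(Wsub B v v')) :
    (coordEquiv h).symm p = p.1.1 • v + p.1.2 • v' + (p.2 : V) := rfl

/-- the norm in coordinates -/
theorem norm_coord (hB : IsHerm B) {v v' : V} (h : HypPair B v v') (a b : F) {w : V}
    (hw : w ∈ Wsub B v v') :
    B (a • v + b • v' + w) (a • v + b • v' + w) = a * σ b + σ a * b + B w w := by
  have hw1 : B w v = 0 := hw.1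
  have hw2 : B w v' = 0 := hw.2
  have hw3 : B v w = 0 := herm_eq_zero hB hw1
  have hw4 : B v' w = 0 := herm_eq_zero hB hw2
  simp only [map_add, map_smulₛₗ, LinearMap.add_apply, LinearMap.smul_apply, smul_eq_mul,
    h.ee, h.ff, h.ef, h.fe, hw1, hw2, hw3, hw4, RingHom.id_apply]
  ring

/-- **UQ-COUNT**. -/
theorem card_norm_rec [Finite F] [FiniteDimensional F V] (hσ : Invol σ) (hB : IsHerm B) {q : ℕ}
    (hF : Nat.card F = q ^ 2) {v v' : V} (h : HypPair B v v') {s : F} (hs : σ s = s) :
    Nat.card {x : V // B x x = s} =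
      (q ^ 2 - 1) * q * Nat.card ↥(Wsub B v v') +
        q ^ 2 * Nat.card {w : ↥(Wsub B v v') // B (w : V) (w : V) = s} := by
  classical
  haveI : Finite V := Module.finite_of_finite F
  letI : Fintype ↥(Wsub B v v') := Fintype.ofFinite _
  -- step 1: pass to coordinates
  have e1 : {x : V // B x x = s} ≃
      {p : (F × F) × ↥(Wsub B v v') //
        p.1.1 * σ p.1.2 + σ p.1.1 * p.1.2 = s - B (p.2 : V) (p.2 : V)} := by
    refine (coordEquiv h).subtypeEquiv ?_
    intro x
    have hx := eq_add_perpPart (B := B) v v' x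
    have hW : perpPart B v v' x ∈ Wsub B v v' := ⟨perpPart_e h x, perpPart_f h x⟩
    have hn := norm_coord hB h (B x v') (B x v) hW
    rw [← hx] at hn
    show B x x = s ↔ B x v' * σ (B x v) + σ (B x v') * B x v = s - B (perpPart B v v' x) (perpPart B v v' x)
    rw [hn]
    constructor
    · intro h1
      rw [← h1]; ring
    · intro h1
      rw [h1]; ring
  -- step 2: sigma over `w`
  have e2 : {p : (F × F) × ↥(Wsub B v v') //
        p.1.1 * σ p.1.2 + σ p.1.1 * p.1.2 = s - B (p.2 : V) (p.2 : V)} ≃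
      Σ w : ↥(Wsub B v v'), {p : F × F // p.1 * σ p.2 + σ p.1 * p.2 = s - B (w : V) (w : V)} :=
    { toFun := fun p => ⟨p.1.2, ⟨p.1.1, p.2⟩⟩
      invFun := fun x => ⟨(x.2.1, x.1), x.2.2⟩
      left_inv := fun p => rfl
      right_inv := fun x => rfl }
  rw [Nat.card_congr e1, Nat.card_congr e2, Nat.card_sigma]
  have hfix : ∀ w : ↥(Wsub B v v'), σ (s - B (w : V) (w : V)) = s - B (w : V) (w : V) := by
    intro w
    rw [map_sub, hs, herm_self hB]
  rw [Finset.sum_congr rfl (fun w _ => card_hyp_pairs hσ hF (hfix w))]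
  rw [Finset.sum_add_distrib, Finset.sum_const, Finset.card_univ, smul_eq_mul,
    ← Nat.card_eq_fintype_card, Finset.sum_ite, Finset.sum_const_zero, add_zero, Finset.sum_const,
    smul_eq_mul]
  have hc : (Finset.univ.filter (fun w : ↥(Wsub B v v') => s - B (w : V) (w : V) = 0)).card =
      Nat.card {w : ↥(Wsub B v v') // B (w : V) (w : V) = s} := by
    rw [Nat.card_eq_fintype_card, Fintype.card_subtype]
    congr 1
    ext w
    simp only [Finset.mem_filter, Finset.mem_univ, true_and]
    constructor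
    · intro h1
      exact (sub_eq_zero.mp h1).symm
    · intro h1
      rw [h1, sub_self]
  rw [hc]
  ring

end Cfsg.Agent.Lib.Helper95_UQ_COUNT
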