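import Mathlib
import Cfsg.Agent.Lib.Helper27_UQDefs
import Cfsg.Agent.Lib.Helper94_HermWitt
import Cfsg.Agent.Lib.Helper94_HermIrr
import Cfsg.Agent.Lib.Helper27_UQ_GEN
import Cfsg.Agent.Lib.Helper27_UQ_CARD
import Cfsg.Agent.Lib.Helper95_UQ_COUNT
import Cfsg.Agent.Lib.Helper94_UQ_REG

set_option autoImplicit false
set_option linter.unusedSectionVars false
set_option linter.unusedVariables false

/-
helper32: package U5-D3-CNT (helper85's S2151-T5 market), part a: `card_iso`, `card_norm` VERBATIM
(numbers of nonzero isotropic vectors / vectors of norm `c` in a nondegenerate hermitian 3-space over `F`, `|F| = q^2`),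
plus `card_norm_fiber` (norm fibres `{β | β σ β = t}` have `q + 1` elements), `exists_pair`, `card_line_zero/_ne`.
`card_SU3` is in `Helper32_U5_D3CNT` (needs D3-FREE, D3-TRP).
-/

open Module Cfsg.Agent.Lib.Helper94_Symp Cfsg.Agent.Lib.Helper94_Herm
  Cfsg.Agent.Lib.Helper94_HermEich Cfsg.Agent.Lib.Helper94_HermPara
  Cfsg.Agent.Lib.Helper94_HermTrans
  Cfsg.Agent.Lib.Helper13_SUGen Cfsg.Agent.Lib.Helper13_PSUSimple
  Cfsg.Agent.Lib.Helper46_U3TI Cfsg.Agent.Lib.Helper14_PSULocal1
  Cfsg.Agent.Lib.Helper27_UQDefs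

namespace Cfsg.Agent.Lib.Helper32_U5_D3CNTa

section FLD

variable {F : Type*} [Field F] {σ : F →+* F}

/-- the norm `u ↦ u σ(u)` on units -/
def nmHom (σ : F →+* F) : Fˣ →* Fˣ := MonoidHom.id Fˣ * Units.map (σ : F →* F)

theorem nmHom_coe (u : Fˣ) : ((nmHom σ u : Fˣ) : F) = (u : F) * σ (u : F) := by
  simp [nmHom]

/-- the fibres of the norm over nonzero fixed elements have `q + 1` elements -/
theorem card_norm_fiber [Finite F] (hσ : Invol σ) {q : ℕ} (hF : Nat.card F = q ^ 2) {t : F}
    (ht : σ t = t) (ht0 : t ≠ 0) : Nat.card {β : F // β * σ β = t} = q + 1 := by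
  classical
  have hq2 : 2 ≤ q := by
    have h1 : 1 < Nat.card F := Finite.one_lt_card
    rw [hF] at h1
    by_contra hlt
    push Not at hlt
    interval_cases q <;> simp at h1
  -- the range of the norm is the fixed units
  have hrange : ∀ u : Fˣ, u ∈ (nmHom σ).range ↔ σ (u : F) = (u : F) := by
    intro u
    constructor
    · rintro ⟨y, rfl⟩
      rw [nmHom_coe, map_mul, hσ.invol, mul_comm]
    · intro hu
      obtain ⟨l, hl⟩ := norm_surj hσ (u : F) hu
      have hl0 : l ≠ 0 := by
        intro h0
        rw [h0, zero_mul] at hl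
        exact u.ne_zero hl.symm
      refine ⟨Units.mk0 l hl0, ?_⟩
      apply Units.ext
      rw [nmHom_coe]
      exact hl
  have hcr : Nat.card (nmHom σ).range + 1 = q := by
    rw [← Cfsg.Agent.Lib.Helper95_UQ_FLD.card_fixed hσ hF, ← Finite.card_option]
    apply Nat.card_congr
    exact
      { toFun := fun o => match o with
          | none => ⟨0, map_zero σ⟩
          | some u => ⟨((u : Fˣ) : F), (hrange u.1).mp u.2⟩
        invFun := fun a => if h : (a : F) = 0 then none
          else some ⟨Units.mk0 a.1 h, (hrange _).mpr a.2⟩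
        left_inv := by
          intro o
          cases o with
          | none => simp
          | some u =>
            have : ((u : Fˣ) : F) ≠ 0 := Units.ne_zero _
            simp [this]
        right_inv := by
          intro a
          by_cases h : (a : F) = 0
          · simp only [h, dite_true]
            apply Subtype.ext
            exact h.symm
          · simp only [h, dite_false]
            rfl }
  have hcu : Nat.card Fˣ = q ^ 2 - 1 := by
    rw [Nat.card_units, hF]
  have hmul : Nat.card (nmHom σ).ker * Nat.card (nmHom σ).range = Nat.card Fˣ := by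
    rw [← Subgroup.index_ker, Subgroup.card_mul_index]
  have hker : Nat.card (nmHom σ).ker = q + 1 := by
    have h1 : Nat.card (nmHom σ).range = q - 1 := by omega
    rw [h1, hcu] at hmul
    have h2 : q ^ 2 - 1 = (q + 1) * (q - 1) := by
      obtain ⟨m, rfl⟩ : ∃ m, q = m + 1 := ⟨q - 1, by omega⟩
      simp only [Nat.add_sub_cancel]
      have : (m + 1) ^ 2 = (m + 1 + 1) * m + 1 := by ring
      omega
    rw [h2] at hmul
    exact Nat.eq_of_mul_eq_mul_right (by omega) hmul
  rw [← hker]
  obtain ⟨l, hl⟩ := norm_surj hσ t ht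
  have hl0 : l ≠ 0 := by
    intro h0
    rw [h0, zero_mul] at hl
    exact ht0 hl.symm
  have hsl0 : σ l ≠ 0 := by
    intro h0
    rw [h0, mul_zero] at hl
    exact ht0 hl.symm
  apply Nat.card_congr
  exact
    { toFun := fun β => ⟨Units.mk0 ((β : F) / l) (by
          apply div_ne_zero _ hl0
          intro h0
          have := β.2
          rw [h0, zero_mul] at this
          exact ht0 this.symm), by
        rw [MonoidHom.mem_ker]
        apply Units.ext
        rw [nmHom_coe, Units.val_mk0, Units.val_one, map_div₀]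
        have := β.2
        field_simp
        rw [this, hl]⟩
      invFun := fun u => ⟨((u : Fˣ) : F) * l, by
        have h1 : ((nmHom σ (u : Fˣ) : Fˣ) : F) = 1 := by
          rw [MonoidHom.mem_ker.mp u.2]; rfl
        rw [nmHom_coe] at h1
        rw [map_mul]
        calc ((u : Fˣ) : F) * l * (σ ((u : Fˣ) : F) * σ l)
            = (((u : Fˣ) : F) * σ ((u : Fˣ) : F)) * (l * σ l) := by ring
          _ = t := by rw [h1, hl, one_mul]⟩
      left_inv := by
        intro β
        apply Subtype.ext
        simp only [Units.val_mk0]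
        field_simp
      right_inv := by
        intro u
        apply Subtype.ext
        apply Units.ext
        simp only [Units.val_mk0]
        field_simp }

end FLD

section D3

variable {F U : Type*} [Field F] [AddCommGroup U] [Module F U] {σ : F →+* F}
variable {C : U →ₗ[F] U →ₛₗ[σ] F}

theorem two_le_q [Finite F] {q : ℕ} (hF : Nat.card F = q ^ 2) : 2 ≤ q := by
  have h1 : 1 < Nat.card F := Finite.one_lt_card
  rw [hF] at h1
  by_contra hlt
  push Not at hlt
  interval_cases q <;> simp at h1

/-- a hyperbolic pair exists (dimension 3) -/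
theorem exists_pair [Finite F] [FiniteDimensional F U] (hσ : Invol σ) (hC : IsHerm C)
    (hN : NondegOn C ⊤) (h3 : finrank F U = 3) : ∃ a a' : U, HypPair C a a' := by
  have hU3 : 3 ≤ finrank F (⊤ : Submodule F U) := by rw [finrank_top]; omega
  obtain ⟨x, -, hx⟩ := Cfsg.Agent.Lib.Helper94_HermWitt.exists_ne_zero_of_finrank_pos
    (U := (⊤ : Submodule F U)) (by omega)
  obtain ⟨y, -, hy⟩ := Cfsg.Agent.Lib.Helper94_HermWitt.exists_notMem_span2 hU3 x x
  rw [Set.pair_eq_singleton] at hy
  obtain ⟨a, b, hab0, hab⟩ := exists_iso hσ hC hx hy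
  obtain ⟨a', ha'⟩ := Cfsg.Agent.Lib.Helper27_UQ_GEN.exists_hypPair hσ hC hN hab0 hab
  exact ⟨_, a', ha'⟩

/-- the count on the anisotropic line `W' = ⟨a, a'⟩^⊥`: reduction to the norm equation -/
theorem exists_line_equiv [Finite F] [FiniteDimensional F U] (hσ : Invol σ) (hC : IsHerm C)
    (hN : NondegOn C ⊤) (h3 : finrank F U = 3)
    {a a' : U} (h : HypPair C a a') :
    ∃ n : F, n ≠ 0 ∧ σ n = n ∧ ∀ s : F,
      Nonempty ({β : F // β * σ β * n = s} ≃ {w : ↥(Wsub C a a') // C (w : U) (w : U) = s}) := by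
  classical
  have hfr : finrank F ↥(Wsub C a a') = 1 := by
    have := Cfsg.Agent.Lib.Helper27_UQ_CARD.finrank_Wsub h
    omega
  have hWN : NondegOn C (Wsub C a a') := by
    rw [Wsub_eq_Wp]; exact nondegOn_Wp hC hN h
  obtain ⟨e, he0, hspan⟩ := finrank_eq_one_iff'.mp hfr
  have he0' : (e : U) ≠ 0 := fun h0 => he0 (Subtype.ext h0)
  have hn : C (e : U) (e : U) ≠ 0 := by
    obtain ⟨y, hyW, hy⟩ := hWN e e.2 he0'
    obtain ⟨c, hc⟩ := hspan ⟨y, hyW⟩
    have hc' : y = c • (e : U) := by
      have := congrArg Subtype.val hc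
      simpa using this.symm
    intro h0
    apply hy
    rw [hc', map_smulₛₗ, h0, smul_zero]
  refine ⟨C (e : U) (e : U), hn, herm_self hC (e : U), fun s => ?_⟩
  have hnorm : ∀ β : F, C ((β • e : ↥(Wsub C a a')) : U) ((β • e : ↥(Wsub C a a')) : U) =
      β * σ β * C (e : U) (e : U) := by
    intro β
    simp only [Submodule.coe_smul, map_smulₛₗ, LinearMap.smul_apply,
      smul_eq_mul, RingHom.id_apply]
    ring
  exact ⟨
    { toFun := fun β => ⟨(β : F) • e, by rw [hnorm]; exact β.2⟩
      invFun := fun w => ⟨(hspan w.1).choose, by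
        have h1 := (hspan w.1).choose_spec
        have h2 := w.2
        rw [← h1, hnorm] at h2
        exact h2⟩
      left_inv := by
        intro β
        apply Subtype.ext
        have h1 := (hspan ((β : F) • e)).choose_spec
        have h2 : ((hspan ((β : F) • e)).choose - (β : F)) • e = 0 := by
          rw [sub_smul, h1, sub_self]
        rcases smul_eq_zero.mp h2 with h3 | h3
        · exact sub_eq_zero.mp h3
        · exact absurd h3 he0
      right_inv := by
        intro w
        apply Subtype.ext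
        exact (hspan w.1).choose_spec }⟩

theorem card_line_zero [Finite F] [FiniteDimensional F U] (hσ : Invol σ) (hC : IsHerm C)
    (hN : NondegOn C ⊤) (h3 : finrank F U = 3)
    {a a' : U} (h : HypPair C a a') :
    Nat.card {w : ↥(Wsub C a a') // C (w : U) (w : U) = 0} = 1 := by
  obtain ⟨n, hn, hσn, he⟩ := exists_line_equiv hσ hC hN h3 h
  obtain ⟨e1⟩ := he 0
  rw [← Nat.card_congr e1]
  have : ∀ β : F, β * σ β * n = 0 ↔ β = 0 := by
    intro β
    constructor
    · intro h1
      rcases mul_eq_zero.mp h1 with h2 | h2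
      · rcases mul_eq_zero.mp h2 with h3 | h3
        · exact h3
        · have := congrArg σ h3
          rwa [hσ.invol, map_zero] at this
      · exact absurd h2 hn
    · intro h1
      rw [h1, zero_mul, zero_mul]
  rw [Nat.card_congr (Equiv.subtypeEquivRight this)]
  simp

theorem card_line_ne [Finite F] [FiniteDimensional F U] (hσ : Invol σ) (hC : IsHerm C)
    (hN : NondegOn C ⊤) {q : ℕ} (hF : Nat.card F = q ^ 2) (h3 : finrank F U = 3)
    {a a' : U} (h : HypPair C a a') {s : F} (hs : σ s = s) (hs0 : s ≠ 0) :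
    Nat.card {w : ↥(Wsub C a a') // C (w : U) (w : U) = s} = q + 1 := by
  obtain ⟨n, hn, hσn, he⟩ := exists_line_equiv hσ hC hN h3 h
  obtain ⟨e1⟩ := he s
  rw [← Nat.card_congr e1]
  have hfix : σ (s / n) = s / n := by rw [map_div₀, hs, hσn]
  have hne : s / n ≠ 0 := div_ne_zero hs0 hn
  rw [← card_norm_fiber hσ hF hfix hne]
  apply Nat.card_congr
  refine Equiv.subtypeEquivRight ?_
  intro β
  constructor
  · intro h1
    rw [← h1]
    field_simp
  · intro h1
    rw [h1]
    field_simp

/-- number of all isotropic vectors -/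
theorem card_iso_all [Finite F] [FiniteDimensional F U] (hσ : Invol σ) (hC : IsHerm C)
    (hN : NondegOn C ⊤) {q : ℕ} (hF : Nat.card F = q ^ 2) (h3 : finrank F U = 3) :
    Nat.card {x : U // C x x = 0} = (q ^ 2 - 1) * q * q ^ 2 + q ^ 2 := by
  obtain ⟨a, a', h⟩ := exists_pair hσ hC hN h3
  rw [Cfsg.Agent.Lib.Helper95_UQ_COUNT.card_norm_rec hσ hC hF h (map_zero σ),
    card_line_zero hσ hC hN h3 h,
    Cfsg.Agent.Lib.Helper27_UQ_CARD.card_Wsub hF h, h3]
  norm_num

theorem card_iso [Finite F] [FiniteDimensional F U] (hσ : Invol σ) (hC : IsHerm C)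
    (hN : NondegOn C ⊤) {q : ℕ} (hF : Nat.card F = q ^ 2) (h3 : finrank F U = 3) :
    Nat.card {x : U // x ≠ 0 ∧ C x x = 0} = (q ^ 2 - 1) * (q ^ 3 + 1) := by
  classical
  have hfinU : Finite U := Module.finite_of_finite F
  have hq2 := two_le_q hF
  have hall := card_iso_all hσ hC hN hF h3
  have hsplit : Nat.card {x : U // C x x = 0} = Nat.card {x : U // x ≠ 0 ∧ C x x = 0} + 1 := by
    have e : {x : U // C x x = 0} ≃ Option {x : U // x ≠ 0 ∧ C x x = 0} :=
      { toFun := fun x => if hx : x.1 = 0 then none else some ⟨x.1, hx, x.2⟩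
        invFun := fun o => match o with
          | none => ⟨0, by simp⟩
          | some y => ⟨y.1, y.2.2⟩
        left_inv := by
          intro x
          by_cases hx : x.1 = 0
          · simp only [hx, dite_true]
            apply Subtype.ext
            exact hx.symm
          · simp only [hx, dite_false]
        right_inv := by
          intro o
          cases o with
          | none => simp
          | some y =>
            have := y.2.1
            simp [this] }
    rw [Nat.card_congr e, Finite.card_option]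
  rw [hsplit] at hall
  have h1 : 1 ≤ q ^ 2 := Nat.one_le_pow _ _ (by omega)
  obtain ⟨m, hm⟩ : ∃ m, q ^ 2 = m + 1 := ⟨q ^ 2 - 1, by omega⟩
  have h5 : (q ^ 2 - 1) * (q ^ 3 + 1) + 1 = (q ^ 2 - 1) * q * q ^ 2 + q ^ 2 := by
    rw [hm, Nat.add_sub_cancel, ← hm]
    have : q ^ 3 = q * q ^ 2 := by ring
    rw [this, hm]
    ring
  omega

theorem card_norm [Finite F] [FiniteDimensional F U] (hσ : Invol σ) (hC : IsHerm C)
    (hN : NondegOn C ⊤) {q : ℕ} (hF : Nat.card F = q ^ 2) (h3 : finrank F U = 3) {c : F}
    (hc : σ c = c) (hc0 : c ≠ 0) :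
    Nat.card {x : U // C x x = c} = q ^ 2 * (q ^ 3 + 1) := by
  obtain ⟨a, a', h⟩ := exists_pair hσ hC hN h3
  have hq2 := two_le_q hF
  rw [Cfsg.Agent.Lib.Helper95_UQ_COUNT.card_norm_rec hσ hC hF h hc,
    card_line_ne hσ hC hN hF h3 h hc hc0,
    Cfsg.Agent.Lib.Helper27_UQ_CARD.card_Wsub hF h, h3]
  have h1 : 1 ≤ q ^ 2 := Nat.one_le_pow _ _ (by omega)
  obtain ⟨m, hm⟩ : ∃ m, q ^ 2 = m + 1 := ⟨q ^ 2 - 1, by omega⟩
  norm_num
  rw [hm, Nat.add_sub_cancel, ← hm]
  have : q ^ 3 = q * q ^ 2 := by ring
  rw [this, hm]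
  ring

end D3

end Cfsg.Agent.Lib.Helper32_U5_D3CNTa
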