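import Mathlib
import Cfsg.Agent.Lib.Helper27_UQDefs
import Cfsg.Agent.Lib.Helper94_HermWitt
import Cfsg.Agent.Lib.Helper94_HermIrr
import Cfsg.Agent.Lib.Helper94_UQ_REG
import Cfsg.Agent.Lib.Helper27_UQ_GEN

set_option autoImplicit false
set_option linter.unusedSectionVars false
set_option linter.unusedVariables false

/-!
# U5-D3-TRP (package of helper85, S2151-T5): `SU(U)` is transitive on hyperbolic pairs, `dim U = 3`.
-/

open Module Cfsg.Agent.Lib.Helper94_Symp Cfsg.Agent.Lib.Helper94_Herm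
  Cfsg.Agent.Lib.Helper94_HermEich Cfsg.Agent.Lib.Helper94_HermPara
  Cfsg.Agent.Lib.Helper94_HermTrans
  Cfsg.Agent.Lib.Helper13_SUGen Cfsg.Agent.Lib.Helper13_PSUSimple
  Cfsg.Agent.Lib.Helper46_U3TI Cfsg.Agent.Lib.Helper14_PSULocal1
  Cfsg.Agent.Lib.Helper27_UQDefs

namespace Cfsg.Agent.Lib.Helper71_U5_D3TRP

section D3

variable {F U : Type*} [Field F] [AddCommGroup U] [Module F U] {σ : F →+* F}
variable {C : U →ₗ[F] U →ₛₗ[σ] F}

/-- The first vector of a hyperbolic pair is nonzero. -/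
theorem hypPair_ne_zero {a a' : U} (h : HypPair C a a') : a ≠ 0 := by
  intro h0
  have h1 := h.ef
  rw [h0, map_zero, LinearMap.zero_apply] at h1
  exact zero_ne_one h1

/-- **D3-TRP** (M/L).  `SU(U)` is transitive on hyperbolic pairs (dimension 3, ALL `q ≥ 2`). -/
theorem trans_pair [Finite F] [FiniteDimensional F U] (hσ : Invol σ) (hC : IsHerm C)
    (hN : NondegOn C ⊤) (h3 : finrank F U = 3) {a a' b b' : U} (h : HypPair C a a')
    (h' : HypPair C b b') : ∃ g ∈ SUg C, g a = b ∧ g a' = b' := by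
  have ha0 : a ≠ 0 := hypPair_ne_zero h
  have hb0 : b ≠ 0 := hypPair_ne_zero h'
  obtain ⟨t, ht, hta⟩ := Cfsg.Agent.Lib.Helper27_UQ_GEN.SUg_trans_iso hσ hC hN (by omega)
    ha0 hb0 h.ee h'.ee
  have htu : t ∈ uG C := (mem_SUg.mp ht).1
  have hp : HypPair C b (t a') := by
    refine ⟨h'.ee, ?_, ?_, ?_⟩
    · rw [htu a' a', h.ff]
    · rw [← hta, htu a a', h.ef]
    · rw [← hta, htu a' a, h.fe]
  obtain ⟨g, hg, hgm⟩ := Cfsg.Agent.Lib.Helper94_UQ_REG.exists_Qv_map hC hp h'.ff h'.fe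
  refine ⟨g * t, (SUg C).mul_mem (Qv_le_SUg hC hp hg) ht, ?_, ?_⟩
  · rw [LinearEquiv.mul_apply, hta, hg.2.1]
  · rw [LinearEquiv.mul_apply, hgm]

end D3

end Cfsg.Agent.Lib.Helper71_U5_D3TRP
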