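import Mathlib
import Cfsg.Agent.Lib.Helper32_U5_D3CNTa
import Cfsg.Agent.Lib.Helper71_U5_D3TRP

set_option autoImplicit false
set_option linter.unusedSectionVars false
set_option linter.unusedVariables false

/-
helper32: package U5-D3-CNT (helper85's S2151-T5 market), part b: `card_SU3_aux` = `card_SU3` with D3-FREE (`free_pair`)
as an explicit hypothesis (D3-TRP is imported).
-/

open Module Cfsg.Agent.Lib.Helper94_Symp Cfsg.Agent.Lib.Helper94_Herm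
  Cfsg.Agent.Lib.Helper94_HermEich Cfsg.Agent.Lib.Helper94_HermPara
  Cfsg.Agent.Lib.Helper94_HermTrans
  Cfsg.Agent.Lib.Helper13_SUGen Cfsg.Agent.Lib.Helper13_PSUSimple
  Cfsg.Agent.Lib.Helper46_U3TI Cfsg.Agent.Lib.Helper14_PSULocal1
  Cfsg.Agent.Lib.Helper27_UQDefs

namespace Cfsg.Agent.Lib.Helper32_U5_D3CNTb

section D3

variable {F U : Type*} [Field F] [AddCommGroup U] [Module F U] {σ : F →+* F}
variable {C : U →ₗ[F] U →ₛₗ[σ] F}

/-- isometries map hyperbolic pairs to hyperbolic pairs -/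
theorem hypPair_map {g : U ≃ₗ[F] U} (hg : g ∈ uG C) {a a' : U} (h : HypPair C a a') :
    HypPair C (g a) (g a') :=
  ⟨by rw [hg]; exact h.ee, by rw [hg]; exact h.ff, by rw [hg]; exact h.ef, by rw [hg]; exact h.fe⟩

/-- the partners of an isotropic vector are a torsor under `Q_a` -/
theorem card_partners [Finite F] [FiniteDimensional F U] (hσ : Invol σ) (hC : IsHerm C)
    {q : ℕ} (hF : Nat.card F = q ^ 2) (h3 : finrank F U = 3) {a a' : U} (h : HypPair C a a') :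
    Nat.card {b : U // HypPair C a b} = q ^ 3 := by
  have e : ↥(Qv C a) ≃ {b : U // HypPair C a b} := by
    refine Equiv.ofBijective (fun g => ⟨(g : U ≃ₗ[F] U) a', ?_⟩) ⟨?_, ?_⟩
    · have h1 := hypPair_map (Qv_le_uG C a g.2) h
      rwa [g.2.2.1] at h1
    · intro g g' hgg
      apply Subtype.ext
      exact Cfsg.Agent.Lib.Helper94_UQ_REG.Qv_eq_of_apply hC h g.2 g'.2 (congrArg Subtype.val hgg)
    · rintro ⟨b, hb⟩
      obtain ⟨g, hg, hgb⟩ := Cfsg.Agent.Lib.Helper94_UQ_REG.exists_Qv_map hC h hb.ff hb.fe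
      exact ⟨⟨g, hg⟩, Subtype.ext hgb⟩
  rw [← Nat.card_congr e, Cfsg.Agent.Lib.Helper27_UQ_CARD.card_Qv hσ hC hF h,
    Cfsg.Agent.Lib.Helper27_UQ_CARD.card_Wsub hF h, h3]
  norm_num
  ring

theorem card_SU3_aux [Finite F] [FiniteDimensional F U] (hσ : Invol σ) (hC : IsHerm C)
    (hN : NondegOn C ⊤) {q : ℕ} (hF : Nat.card F = q ^ 2) (h3 : finrank F U = 3)
    (hfree : ∀ {a a' : U}, HypPair C a a' → ∀ {g : U ≃ₗ[F] U}, g ∈ SUg C →
      g a = a → g a' = a' → g = 1) :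
    Nat.card ↥(SUg C) = q ^ 3 * (q ^ 3 + 1) * (q ^ 2 - 1) := by
  classical
  have hfinU : Finite U := Module.finite_of_finite F
  obtain ⟨a₀, a₀', h₀⟩ := Cfsg.Agent.Lib.Helper32_U5_D3CNTa.exists_pair hσ hC hN h3
  -- `SU ≃` hyperbolic pairs
  have e1 : ↥(SUg C) ≃ {p : U × U // HypPair C p.1 p.2} := by
    refine Equiv.ofBijective (fun g => ⟨((g : U ≃ₗ[F] U) a₀, (g : U ≃ₗ[F] U) a₀'),
      hypPair_map (mem_SUg.mp g.2).1 h₀⟩) ⟨?_, ?_⟩
    · intro g g' hgg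
      have h1 : (g : U ≃ₗ[F] U) a₀ = (g' : U ≃ₗ[F] U) a₀ :=
        congrArg (fun p => p.1.1) hgg
      have h2 : (g : U ≃ₗ[F] U) a₀' = (g' : U ≃ₗ[F] U) a₀' :=
        congrArg (fun p => p.1.2) hgg
      have h3' : ((g'⁻¹ * g : ↥(SUg C)) : U ≃ₗ[F] U) = 1 := by
        apply hfree h₀ (g'⁻¹ * g).2
        · show (g' : U ≃ₗ[F] U)⁻¹ ((g : U ≃ₗ[F] U) a₀) = a₀
          rw [h1]
          exact (g' : U ≃ₗ[F] U).symm_apply_apply a₀
        · show (g' : U ≃ₗ[F] U)⁻¹ ((g : U ≃ₗ[F] U) a₀') = a₀'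
          rw [h2]
          exact (g' : U ≃ₗ[F] U).symm_apply_apply a₀'
      have h4 : g'⁻¹ * g = 1 := Subtype.ext h3'
      exact (inv_mul_eq_one.mp h4).symm
    · rintro ⟨⟨b, b'⟩, hb⟩
      obtain ⟨g, hg, hga, hga'⟩ :=
        Cfsg.Agent.Lib.Helper71_U5_D3TRP.trans_pair hσ hC hN h3 h₀ hb
      refine ⟨⟨g, hg⟩, ?_⟩
      apply Subtype.ext
      show ((g a₀, g a₀') : U × U) = (b, b')
      rw [hga, hga']
  -- pairs as a sigma type over the nonzero isotropic vectors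
  have e2 : {p : U × U // HypPair C p.1 p.2} ≃
      Σ a : {x : U // x ≠ 0 ∧ C x x = 0}, {b : U // HypPair C a.1 b} :=
    { toFun := fun p => ⟨⟨p.1.1, Cfsg.Agent.Lib.Helper71_U5_D3TRP.hypPair_ne_zero p.2, p.2.ee⟩,
        ⟨p.1.2, p.2⟩⟩
      invFun := fun x => ⟨(x.1.1, x.2.1), x.2.2⟩
      left_inv := fun p => rfl
      right_inv := fun x => rfl }
  have hfib : ∀ a : {x : U // x ≠ 0 ∧ C x x = 0}, Nat.card {b : U // HypPair C a.1 b} = q ^ 3 := by
    intro a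
    obtain ⟨a', ha'⟩ := Cfsg.Agent.Lib.Helper27_UQ_GEN.exists_hypPair hσ hC hN a.2.1 a.2.2
    exact card_partners hσ hC hF h3 ha'
  let _ : Fintype {x : U // x ≠ 0 ∧ C x x = 0} := Fintype.ofFinite _
  rw [Nat.card_congr e1, Nat.card_congr e2, Nat.card_sigma]
  simp only [hfib]
  rw [Finset.sum_const, Finset.card_univ, smul_eq_mul, ← Nat.card_eq_fintype_card,
    Cfsg.Agent.Lib.Helper32_U5_D3CNTa.card_iso hσ hC hN hF h3]
  ring

end D3

end Cfsg.Agent.Lib.Helper32_U5_D3CNTb
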