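import Mathlib
import Cfsg.Agent.Lib.Helper27_UQDefs
import Cfsg.Agent.Lib.Helper94_HermWitt
import Cfsg.Agent.Lib.Helper94_HermIrr
import Cfsg.Agent.Lib.Helper27_UQ_CARD
import Cfsg.Agent.Lib.Helper27_UQ_KISO

/-!
# S2151-T5 (U5 market, helper85), package D3-FREE: `SU_3` acts freely on hyperbolic pairs
-/

set_option autoImplicit false
set_option linter.unusedSectionVars false
set_option linter.unusedVariables false

open Module Cfsg.Agent.Lib.Helper94_Symp Cfsg.Agent.Lib.Helper94_Herm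
  Cfsg.Agent.Lib.Helper94_HermEich Cfsg.Agent.Lib.Helper94_HermPara
  Cfsg.Agent.Lib.Helper94_HermTrans
  Cfsg.Agent.Lib.Helper13_SUGen Cfsg.Agent.Lib.Helper13_PSUSimple
  Cfsg.Agent.Lib.Helper46_U3TI Cfsg.Agent.Lib.Helper14_PSULocal1
  Cfsg.Agent.Lib.Helper27_UQDefs Cfsg.Agent.Lib.Helper27_UQ_KISO

namespace Cfsg.Agent.Lib.Helper54_U5_D3FREE

variable {F U : Type*} [Field F] [AddCommGroup U] [Module F U] {σ : F →+* F}
variable {C : U →ₗ[F] U →ₛₗ[σ] F}

/-- **D3-FREE** (S/M).  `SU(U)` acts freely on hyperbolic pairs. -/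
theorem free_pair [FiniteDimensional F U] (hσ : Invol σ) (hC : IsHerm C) (hN : NondegOn C ⊤)
    (h3 : finrank F U = 3) {a a' : U} (h : HypPair C a a') {g : U ≃ₗ[F] U} (hg : g ∈ SUg C)
    (hga : g a = a) (hga' : g a' = a') : g = 1 := by
  have hk : g ∈ Kv C a a' := ⟨hg, hga, hga'⟩
  have hfr : finrank F ↥(Wsub C a a') = 1 := by
    have := Cfsg.Agent.Lib.Helper27_UQ_CARD.finrank_Wsub h
    omega
  have hext : extW h (resW hk) = g := extW_resW h hk
  have hdet : LinearEquiv.det (resW hk) = 1 := by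
    rw [← det_extW h, hext]
    exact (mem_SUg.mp hg).2
  have hpos : 0 < finrank F ↥(Wsub C a a') := by omega
  have hnt : Nontrivial ↥(Wsub C a a') := Module.finrank_pos_iff.1 hpos
  obtain ⟨e₀, he₀⟩ := exists_ne (0 : ↥(Wsub C a a'))
  have hgen : ∀ w : ↥(Wsub C a a'), ∃ c : F, c • e₀ = w :=
    (finrank_eq_one_iff_of_nonzero' e₀ he₀).1 hfr
  obtain ⟨μ, hμ⟩ := hgen (resW hk e₀)
  have hk_smul : ((resW hk : ↥(Wsub C a a') ≃ₗ[F] ↥(Wsub C a a')) :
      ↥(Wsub C a a') →ₗ[F] ↥(Wsub C a a')) = μ • LinearMap.id := by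
    apply LinearMap.ext
    intro w
    obtain ⟨c, rfl⟩ := hgen w
    rw [LinearEquiv.coe_coe, map_smul, ← hμ, LinearMap.smul_apply, LinearMap.id_apply, smul_smul,
      smul_smul, mul_comm]
  have hμ1 : μ = 1 := by
    have := congrArg Units.val hdet
    rw [LinearEquiv.coe_det, hk_smul, LinearMap.det_smul, hfr, pow_one, LinearMap.det_id,
      mul_one] at this
    exact this
  have hk1 : resW hk = 1 := by
    apply LinearEquiv.toLinearMap_injective
    rw [hk_smul, hμ1, one_smul]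
    rfl
  rw [← hext, hk1]
  apply ext_pair h
  · rw [extW_v]; rfl
  · rw [extW_v']; rfl
  · intro m hm1 hm2
    have := extW_W h (1 : ↥(Wsub C a a') ≃ₗ[F] ↥(Wsub C a a')) ⟨m, hm1, hm2⟩
    rw [this]
    rfl

end Cfsg.Agent.Lib.Helper54_U5_D3FREE
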