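import Mathlib
import Cfsg.Agent.Lib.Helper32_U5_D3CNTa
import Cfsg.Agent.Lib.Helper32_U5_D3CNTb
import Cfsg.Agent.Lib.Helper54_U5_D3FREE

set_option autoImplicit false
set_option linter.unusedSectionVars false
set_option linter.unusedVariables false

/-
helper32: package U5-D3-CNT (helper85's S2151-T5 market): `card_iso`, `card_norm`, `card_SU3` VERBATIM.
-/

open Module Cfsg.Agent.Lib.Helper94_Symp Cfsg.Agent.Lib.Helper94_Herm
  Cfsg.Agent.Lib.Helper94_HermEich Cfsg.Agent.Lib.Helper94_HermPara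
  Cfsg.Agent.Lib.Helper94_HermTrans
  Cfsg.Agent.Lib.Helper13_SUGen Cfsg.Agent.Lib.Helper13_PSUSimple
  Cfsg.Agent.Lib.Helper46_U3TI Cfsg.Agent.Lib.Helper14_PSULocal1
  Cfsg.Agent.Lib.Helper27_UQDefs

namespace Cfsg.Agent.Lib.Helper32_U5_D3CNT

section D3

variable {F U : Type*} [Field F] [AddCommGroup U] [Module F U] {σ : F →+* F}
variable {C : U →ₗ[F] U →ₛₗ[σ] F}

theorem card_iso [Finite F] [FiniteDimensional F U] (hσ : Invol σ) (hC : IsHerm C)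
    (hN : NondegOn C ⊤) {q : ℕ} (hF : Nat.card F = q ^ 2) (h3 : finrank F U = 3) :
    Nat.card {x : U // x ≠ 0 ∧ C x x = 0} = (q ^ 2 - 1) * (q ^ 3 + 1) :=
  Cfsg.Agent.Lib.Helper32_U5_D3CNTa.card_iso hσ hC hN hF h3

theorem card_norm [Finite F] [FiniteDimensional F U] (hσ : Invol σ) (hC : IsHerm C)
    (hN : NondegOn C ⊤) {q : ℕ} (hF : Nat.card F = q ^ 2) (h3 : finrank F U = 3) {c : F}
    (hc : σ c = c) (hc0 : c ≠ 0) :
    Nat.card {x : U // C x x = c} = q ^ 2 * (q ^ 3 + 1) :=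
  Cfsg.Agent.Lib.Helper32_U5_D3CNTa.card_norm hσ hC hN hF h3 hc hc0

theorem card_SU3 [Finite F] [FiniteDimensional F U] (hσ : Invol σ) (hC : IsHerm C)
    (hN : NondegOn C ⊤) {q : ℕ} (hF : Nat.card F = q ^ 2) (h3 : finrank F U = 3) :
    Nat.card ↥(SUg C) = q ^ 3 * (q ^ 3 + 1) * (q ^ 2 - 1) :=
  Cfsg.Agent.Lib.Helper32_U5_D3CNTb.card_SU3_aux hσ hC hN hF h3
    (fun h _ hg hga hga' => Cfsg.Agent.Lib.Helper54_U5_D3FREE.free_pair hσ hC hN h3 h hg hga hga')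

end D3

end Cfsg.Agent.Lib.Helper32_U5_D3CNT
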