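import Mathlib
import Cfsg.Agent.Lib.Helper27_UQDefs
import Cfsg.Agent.Lib.Helper94_HermWitt
import Cfsg.Agent.Lib.Helper94_HermIrr
import Cfsg.Agent.Lib.Helper95_UQ_FLD

set_option autoImplicit false
set_option linter.unusedSectionVars false
set_option linter.unusedVariables false

/-!
helper41: U5 package D3-FQ2 (architect helper85, S2151-T5): an additive subgroup `I` with `q^3`
elements of a hermitian space over `F`, `|F| = q^2`, on which the form takes `σ`-fixed values and
which is closed under the fixed field, contains a nonzero isotropic vector.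
-/

open Module Cfsg.Agent.Lib.Helper94_Symp Cfsg.Agent.Lib.Helper94_Herm
  Cfsg.Agent.Lib.Helper94_HermEich Cfsg.Agent.Lib.Helper94_HermPara
  Cfsg.Agent.Lib.Helper94_HermTrans
  Cfsg.Agent.Lib.Helper13_SUGen Cfsg.Agent.Lib.Helper13_PSUSimple
  Cfsg.Agent.Lib.Helper46_U3TI Cfsg.Agent.Lib.Helper14_PSULocal1
  Cfsg.Agent.Lib.Helper27_UQDefs

namespace Cfsg.Agent.Lib.Helper41_U5_D3FQ2

/-- pigeonhole on a finite additive subgroup: a map to a smaller finite type identifies two
distinct elements -/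
theorem exists_ne_of_card_lt {U T : Type*} [AddCommGroup U] [Finite T] (I : AddSubgroup U)
    [Finite I] (f : I → T) (h : Nat.card T < Nat.card I) :
    ∃ x y : I, x ≠ y ∧ f x = f y := by
  classical
  have : Fintype T := Fintype.ofFinite T
  have : Fintype I := Fintype.ofFinite I
  rw [Nat.card_eq_fintype_card, Nat.card_eq_fintype_card] at h
  exact Fintype.exists_ne_map_eq_of_card_lt f h

section D3

variable {F U : Type*} [Field F] [AddCommGroup U] [Module F U] {σ : F →+* F}
variable {C : U →ₗ[F] U →ₛₗ[σ] F}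

/-- **D3-FQ2** (M).  Such an `I` contains a nonzero isotropic vector. -/
theorem fq_exists_iso [Finite F] [FiniteDimensional F U] (hσ : Invol σ) (hC : IsHerm C)
    (hN : NondegOn C ⊤) {q : ℕ} (hF : Nat.card F = q ^ 2) (h3 : finrank F U = 3)
    (I : AddSubgroup U) (hcard : Nat.card I = q ^ 3) (hI : ∀ x ∈ I, ∀ y ∈ I, σ (C x y) = C x y)
    (hcl : ∀ a : F, σ a = a → ∀ x ∈ I, a • x ∈ I) :
    ∃ a ∈ I, a ≠ 0 ∧ C a a = 0 := by
  classical
  have hUfin : Finite U := Module.finite_of_finite F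
  have hIfin : Finite I := inferInstance
  -- `q ≥ 2`
  have hq2 : 2 ≤ q := by
    have h1 : 1 < Nat.card F := Finite.one_lt_card
    rw [hF] at h1
    by_contra hlt
    push Not at hlt
    interval_cases q <;> simp at h1
  -- the fixed field
  let K : Subfield F := σ.eqLocusField (RingHom.id F)
  have hKmem : ∀ a : F, a ∈ K ↔ σ a = a := fun a => Iff.rfl
  have hKcard : Nat.card K = q := by
    rw [← Cfsg.Agent.Lib.Helper95_UQ_FLD.card_fixed hσ hF]
    exact Nat.card_congr (Equiv.subtypeEquivRight (fun a => hKmem a))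
  have hKfin : Finite K := inferInstance
  have hq3 : q < q ^ 3 := by
    calc q = q ^ 1 := (pow_one q).symm
      _ < q ^ 3 := Nat.pow_lt_pow_right (by omega) (by norm_num)
  have hq23 : q * q < q ^ 3 := by
    calc q * q = q ^ 2 := (pow_two q).symm
      _ < q ^ 3 := Nat.pow_lt_pow_right (by omega) (by norm_num)
  by_cases h2 : (2 : F) = 0
  · -- characteristic 2: `Q` is additive on `I`
    let f : I → K := fun x => ⟨C (x : U) (x : U), herm_self hC (x : U)⟩
    obtain ⟨x, y, hxy, hfxy⟩ := exists_ne_of_card_lt I f (by rw [hKcard, hcard]; exact hq3)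
    have hQ : C (x : U) (x : U) = C (y : U) (y : U) := congrArg (fun k : K => (k : F)) hfxy
    refine ⟨(x : U) - (y : U), I.sub_mem x.2 y.2, ?_, ?_⟩
    · intro h
      exact hxy (Subtype.ext (sub_eq_zero.mp h))
    · have h1 : σ (C (x : U) (y : U)) = C (x : U) (y : U) := hI x x.2 y y.2
      have h3' : C (y : U) (x : U) = C (x : U) (y : U) := by rw [hC (x : U) (y : U), h1]
      simp only [map_sub, LinearMap.sub_apply]
      rw [h3', hQ]
      linear_combination (-(C (x : U) (y : U)) + C (y : U) (y : U)) * h2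
  · -- odd characteristic
    -- a nonzero vector of `I`
    obtain ⟨x₁, hx₁I, hx₁0⟩ : ∃ x₁ ∈ I, x₁ ≠ 0 := by
      let f : I → Unit := fun _ => ()
      obtain ⟨x, y, hxy, -⟩ := exists_ne_of_card_lt I f (by
        rw [hcard, Nat.card_unique]
        omega)
      refine ⟨(x : U) - (y : U), I.sub_mem x.2 y.2, ?_⟩
      intro h
      exact hxy (Subtype.ext (sub_eq_zero.mp h))
    by_cases hQ1 : C x₁ x₁ = 0
    · exact ⟨x₁, hx₁I, hx₁0, hQ1⟩
    obtain ⟨x₂, hx₂I, hx₂0, hx₂₁⟩ : ∃ x₂ ∈ I, x₂ ≠ 0 ∧ C x₂ x₁ = 0 := by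
      let f : I → K := fun x => ⟨C (x : U) x₁, hI x x.2 x₁ hx₁I⟩
      obtain ⟨x, y, hxy, hfxy⟩ := exists_ne_of_card_lt I f (by rw [hKcard, hcard]; exact hq3)
      have hQ : C (x : U) x₁ = C (y : U) x₁ := congrArg (fun k : K => (k : F)) hfxy
      refine ⟨(x : U) - (y : U), I.sub_mem x.2 y.2, ?_, ?_⟩
      · intro h
        exact hxy (Subtype.ext (sub_eq_zero.mp h))
      · rw [map_sub, LinearMap.sub_apply, hQ, sub_self]
    by_cases hQ2 : C x₂ x₂ = 0
    · exact ⟨x₂, hx₂I, hx₂0, hQ2⟩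
    obtain ⟨x₃, hx₃I, hx₃0, hx₃₁, hx₃₂⟩ : ∃ x₃ ∈ I, x₃ ≠ 0 ∧ C x₃ x₁ = 0 ∧ C x₃ x₂ = 0 := by
      let f : I → K × K := fun x =>
        (⟨C (x : U) x₁, hI x x.2 x₁ hx₁I⟩, ⟨C (x : U) x₂, hI x x.2 x₂ hx₂I⟩)
      obtain ⟨x, y, hxy, hfxy⟩ := exists_ne_of_card_lt I f (by
        rw [Nat.card_prod, hKcard, hcard]; exact hq23)
      have hQa : C (x : U) x₁ = C (y : U) x₁ :=
        congrArg (fun k : K × K => (k.1 : F)) hfxy
      have hQb : C (x : U) x₂ = C (y : U) x₂ :=
        congrArg (fun k : K × K => (k.2 : F)) hfxy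
      refine ⟨(x : U) - (y : U), I.sub_mem x.2 y.2, ?_, ?_, ?_⟩
      · intro h
        exact hxy (Subtype.ext (sub_eq_zero.mp h))
      · rw [map_sub, LinearMap.sub_apply, hQa, sub_self]
      · rw [map_sub, LinearMap.sub_apply, hQb, sub_self]
    by_cases hQ3 : C x₃ x₃ = 0
    · exact ⟨x₃, hx₃I, hx₃0, hQ3⟩
    -- the three norms as elements of the fixed field
    let a : K := ⟨C x₁ x₁, herm_self hC x₁⟩
    let b : K := ⟨C x₂ x₂, herm_self hC x₂⟩
    let c : K := ⟨C x₃ x₃, herm_self hC x₃⟩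
    have ha0 : a ≠ 0 := by
      intro h
      exact hQ1 (congrArg (fun k : K => (k : F)) h)
    have hb0 : b ≠ 0 := by
      intro h
      exact hQ2 (congrArg (fun k : K => (k : F)) h)
    have : Fintype K := Fintype.ofFinite K
    have hKodd : Fintype.card K % 2 = 1 := by
      apply FiniteField.odd_card_of_char_ne_two
      intro hch
      have hcp : CharP K 2 := by
        rw [← hch]
        exact ringChar.charP K
      have h2K : (2 : K) = 0 := by
        have := CharP.cast_eq_zero K 2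
        exact_mod_cast this
      apply h2
      have h5 : ((2 : K) : F) = ((0 : K) : F) := by rw [h2K]
      push_cast at h5
      exact h5
    obtain ⟨α, β, hαβ⟩ := FiniteField.exists_root_sum_quadratic
      (f := Polynomial.C a * Polynomial.X ^ 2 + Polynomial.C 0 * Polynomial.X + Polynomial.C c)
      (g := Polynomial.C b * Polynomial.X ^ 2 + Polynomial.C 0 * Polynomial.X + Polynomial.C 0)
      (Polynomial.degree_quadratic ha0) (Polynomial.degree_quadratic hb0) hKodd
    simp only [Polynomial.eval_add, Polynomial.eval_mul, Polynomial.eval_pow, Polynomial.eval_C,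
      Polynomial.eval_X, zero_mul, add_zero] at hαβ
    have hαβF : C x₁ x₁ * (α : F) ^ 2 + C x₃ x₃ + C x₂ x₂ * (β : F) ^ 2 = 0 := by
      have := congrArg (fun k : K => (k : F)) hαβ
      simpa [a, b, c] using this
    have hσα : σ (α : F) = α := α.2
    have hσβ : σ (β : F) = β := β.2
    have h12 : C x₁ x₂ = 0 := herm_eq_zero hC hx₂₁
    have h13 : C x₁ x₃ = 0 := herm_eq_zero hC hx₃₁
    have h23 : C x₂ x₃ = 0 := herm_eq_zero hC hx₃₂
    refine ⟨(α : F) • x₁ + (β : F) • x₂ + x₃, ?_, ?_, ?_⟩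
    · exact I.add_mem (I.add_mem (hcl _ hσα _ hx₁I) (hcl _ hσβ _ hx₂I)) hx₃I
    · intro h
      have h4 : C ((α : F) • x₁ + (β : F) • x₂ + x₃) x₃ = 0 := by rw [h]; simp
      simp only [map_add, map_smul, LinearMap.add_apply, LinearMap.smul_apply, smul_eq_mul,
        h13, h23, mul_zero, zero_add] at h4
      exact hQ3 h4
    · simp only [map_add, map_smul, map_smulₛₗ, LinearMap.add_apply, LinearMap.smul_apply,
        smul_eq_mul, h12, h13, h23, hx₂₁, hx₃₁, hx₃₂, hσα, hσβ, mul_zero, add_zero, zero_add]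
      linear_combination hαβF

end D3

end Cfsg.Agent.Lib.Helper41_U5_D3FQ2
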