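import Mathlib
import Cfsg.Agent.Lib.Helper27_UQDefs
import Cfsg.Agent.Lib.Helper94_HermWitt
import Cfsg.Agent.Lib.Helper94_HermIrr
import Cfsg.Agent.Lib.Helper54_U5_D3FREE
import Cfsg.Agent.Lib.Helper32_U5_D3CNT
import Cfsg.Agent.Lib.Helper41_U5_D3FQ2
import Cfsg.Agent.Lib.Helper12_U5_D3FQ5a

set_option autoImplicit false
set_option linter.unusedSectionVars false
set_option linter.unusedVariables false

open Module Cfsg.Agent.Lib.Helper94_Symp Cfsg.Agent.Lib.Helper94_Herm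
  Cfsg.Agent.Lib.Helper94_HermEich Cfsg.Agent.Lib.Helper94_HermPara
  Cfsg.Agent.Lib.Helper94_HermTrans
  Cfsg.Agent.Lib.Helper13_SUGen Cfsg.Agent.Lib.Helper13_PSUSimple
  Cfsg.Agent.Lib.Helper46_U3TI Cfsg.Agent.Lib.Helper14_PSULocal1
  Cfsg.Agent.Lib.Helper27_UQDefs

/-!
# S2151-T5 package D3-FQ5b (architect helper85; formalised by helper12)

Case (d5), conclusion: `E ≤ SU(U)` normalising `I` has index at least `q^3+q+1`.
-/

namespace Cfsg.Agent.Lib.Helper12_U5_D3FQ5b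

open Cfsg.Agent.Lib.Helper54_U5_D3FREE Cfsg.Agent.Lib.Helper32_U5_D3CNT Cfsg.Agent.Lib.Helper41_U5_D3FQ2

/-- the arithmetic: `q^3 (q^3+1)(q^2-1) = e r` with `e ≤ q (q^3-1)` forces `r ≥ q^3+q+1` -/
theorem arith {q e r : ℕ} (hq : 2 ≤ q) (he : e ≤ q * (q ^ 3 - 1))
    (h : e * r = q ^ 3 * (q ^ 3 + 1) * (q ^ 2 - 1)) : q ^ 3 + q + 1 ≤ r := by
  by_contra hlt
  push Not at hlt
  have hr : r ≤ q ^ 3 + q := by omega
  have h1 : e * r ≤ q * (q ^ 3 - 1) * (q ^ 3 + q) := Nat.mul_le_mul he hr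
  rw [h] at h1
  obtain ⟨k, rfl⟩ : ∃ k, q = k + 2 := ⟨q - 2, by omega⟩
  have e1 : (k + 2) ^ 3 - 1 = k ^ 3 + 6 * k ^ 2 + 12 * k + 7 := by
    have : (k + 2) ^ 3 = k ^ 3 + 6 * k ^ 2 + 12 * k + 7 + 1 := by ring
    omega
  have e2 : (k + 2) ^ 2 - 1 = k ^ 2 + 4 * k + 3 := by
    have : (k + 2) ^ 2 = k ^ 2 + 4 * k + 3 + 1 := by ring
    omega
  rw [e1, e2] at h1
  nlinarith [sq_nonneg k, pow_pos (show 0 < k + 2 by omega) 7, Nat.zero_le (k ^ 3), Nat.zero_le (k ^ 5),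
    Nat.zero_le (k ^ 7), Nat.zero_le (k ^ 6), Nat.zero_le (k ^ 4)]

section D3

variable {F U : Type*} [Field F] [AddCommGroup U] [Module F U] {σ : F →+* F}
variable {C : U →ₗ[F] U →ₛₗ[σ] F}


/-- **D3-FQ5b** (M).  Case (d5), conclusion. -/
theorem fq_case_rat [Finite F] [FiniteDimensional F U] (hσ : Invol σ) (hC : IsHerm C)
    (hN : NondegOn C ⊤) {q : ℕ} (hq : 2 ≤ q) (hF : Nat.card F = q ^ 2) (h3 : finrank F U = 3)
    (I : AddSubgroup U) (hcard : Nat.card I = q ^ 3) (hI : ∀ x ∈ I, ∀ y ∈ I, σ (C x y) = C x y)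
    (hcl : ∀ a : F, σ a = a → ∀ x ∈ I, a • x ∈ I)
    (hrat : ∀ a ∈ I, a ≠ 0 → C a a = 0 → ∀ μ : F, μ • a ∈ I → σ μ = μ)
    (E : Subgroup (U ≃ₗ[F] U)) (hE : E ≤ SUg C) (hEI : ∀ g ∈ E, ∀ x ∈ I, g x ∈ I) :
    q ^ 3 + q + 1 ≤ E.relIndex (SUg C) := by
  haveI : Finite U := Module.finite_of_finite F
  haveI : Finite (U ≃ₗ[F] U) := Finite.of_injective (fun g : U ≃ₗ[F] U => (g : U → U))
    (fun g g' h => LinearEquiv.ext (congrFun h))
  obtain ⟨a, haI, ha0, haa⟩ := fq_exists_iso hσ hC hN hF h3 I hcard hI hcl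
  obtain ⟨⟨a', ha'I, hp⟩, hcount⟩ := Cfsg.Agent.Lib.Helper12_U5_D3FQ5a.fq_partners hσ hC hN hF h3
    I hcard hI hcl haI ha0 haa (hrat a haI ha0 haa)
  have huG : ∀ g ∈ E, g ∈ uG C := fun g hg => (mem_SUg.mp (hE hg)).1
  -- orbit of `a` under `E`
  have horb : Nat.card (MulAction.orbit ↥E a) ≤ q ^ 3 - 1 := by
    have h1 : Nat.card {x : U // x ∈ I ∧ x ≠ 0} = q ^ 3 - 1 := by
      have e : {x : U // x ∈ I ∧ x ≠ 0} ≃ ↥((I : Set U) \ {0}) :=
        ⟨fun w => ⟨w.1, w.2.1, w.2.2⟩, fun w => ⟨w.1, w.2.1, w.2.2⟩, fun _ => rfl, fun _ => rfl⟩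
      rw [Nat.card_congr e, Nat.card_coe_set_eq, Set.ncard_sdiff_singleton_of_mem I.zero_mem,
        ← Nat.card_coe_set_eq, ← hcard]
      rfl
    rw [← h1]
    apply Nat.card_le_card_of_injective
      (fun x : MulAction.orbit ↥E a => (⟨(x : U), by
        obtain ⟨g, hg⟩ := x.2
        have hg' : ((g : U ≃ₗ[F] U)) a = (x : U) := hg
        refine ⟨?_, ?_⟩
        · rw [← hg']; exact hEI _ g.2 a haI
        · rw [← hg']
          intro h
          exact ha0 ((LinearEquiv.map_eq_zero_iff (g : U ≃ₗ[F] U)).1 h)⟩ :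
        {x : U // x ∈ I ∧ x ≠ 0}))
    intro x y h
    have h2 : (x : U) = (y : U) := congrArg (fun z : {x : U // x ∈ I ∧ x ≠ 0} => (z : U)) h
    exact Subtype.ext h2
  -- stabiliser of `a` in `E`
  have hstab : Nat.card (MulAction.stabilizer ↥E a) ≤ q := by
    refine le_trans ?_ hcount
    have hfix : ∀ h : MulAction.stabilizer ↥E a, ((h : ↥E) : U ≃ₗ[F] U) a = a := fun h => h.2
    apply Nat.card_le_card_of_injective
      (fun h : MulAction.stabilizer ↥E a => (⟨((h : ↥E) : U ≃ₗ[F] U) a', by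
        refine ⟨hEI _ (h : ↥E).2 a' ha'I, ?_⟩
        have hu := huG _ (h : ↥E).2
        have e1 : C a (((h : ↥E) : U ≃ₗ[F] U) a') = 1 := by
          have := hu a a'
          rw [hfix h] at this
          rw [this, hp.ef]
        have e2 : C (((h : ↥E) : U ≃ₗ[F] U) a') (((h : ↥E) : U ≃ₗ[F] U) a') = 0 := by
          rw [hu a' a', hp.ff]
        exact hypPair_mk hC haa e2 e1⟩ : {a'' : U // a'' ∈ I ∧ HypPair C a a''}))
    intro h h' hh
    have h1 : ((h : ↥E) : U ≃ₗ[F] U) a' = ((h' : ↥E) : U ≃ₗ[F] U) a' := congrArg Subtype.val hh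
    -- `k = h⁻¹ h'` fixes `a` and `a'`
    have hk : ((h : ↥E) : U ≃ₗ[F] U)⁻¹ * ((h' : ↥E) : U ≃ₗ[F] U) = 1 := by
      apply free_pair hσ hC hN h3 hp
        ((SUg C).mul_mem ((SUg C).inv_mem (hE (h : ↥E).2)) (hE (h' : ↥E).2))
      · rw [LinearEquiv.mul_apply, hfix h']
        have h5 := inv_apply_apply' ((h : ↥E) : U ≃ₗ[F] U) a
        rwa [hfix h] at h5
      · rw [LinearEquiv.mul_apply, ← h1]
        exact inv_apply_apply' _ a'
    have : ((h : ↥E) : U ≃ₗ[F] U) = ((h' : ↥E) : U ≃ₗ[F] U) := by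
      have := inv_mul_eq_one.1 hk
      exact this
    exact Subtype.ext (Subtype.ext this)
  -- `|E| ≤ q (q^3 - 1)`
  have hEcard : Nat.card E ≤ q * (q ^ 3 - 1) := by
    have h := Subgroup.card_mul_index (MulAction.stabilizer ↥E a)
    rw [MulAction.index_stabilizer, ← Nat.card_coe_set_eq] at h
    rw [← h]
    exact Nat.mul_le_mul hstab horb
  -- Lagrange
  have hlag : Nat.card E * E.relIndex (SUg C) = q ^ 3 * (q ^ 3 + 1) * (q ^ 2 - 1) := by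
    have h1 := Subgroup.card_mul_index (E.subgroupOf (SUg C))
    rw [Nat.card_congr (Subgroup.subgroupOfEquivOfLe hE).toEquiv] at h1
    rw [← card_SU3 hσ hC hN hF h3]
    exact h1
  exact arith hq hEcard hlag

end D3

end Cfsg.Agent.Lib.Helper12_U5_D3FQ5b
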