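import Mathlib
import Cfsg.Agent.Lib.Helper67_UT2Defs
import Cfsg.Agent.Lib.Helper82_T2_KR

set_option autoImplicit false
set_option linter.unusedSectionVars false
set_option linter.unusedVariables false

/-!
# UTENS2 package GEN3 (architect helper67; formalised by helper12)

If the full root groups of all `(y, 0)`, `(0, y)` with `y` isotropic lie in `M`, then so do those of
all `(w, 0)` and `(0, w)`, `w` arbitrary (`dim W ≥ 3`, the fixed field has at least three elements;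
all characteristics).
-/

namespace Cfsg.Agent.Lib.Helper12_UT2_GEN3

open Module
open Cfsg.Agent.Lib.Helper94_Symp Cfsg.Agent.Lib.Helper94_Herm Cfsg.Agent.Lib.Helper13_PSUSimple
  Cfsg.Agent.Lib.Helper94_FrmDefs Cfsg.Agent.Lib.Helper94_HermEich
  Cfsg.Agent.Lib.Helper67_Tens2Defs Cfsg.Agent.Lib.Helper67_UT2Defs

variable {F W : Type*} [Field F] [Finite F] [AddCommGroup W] [Module F W] [FiniteDimensional F W]
variable {σ : F →+* F} {β : W →ₗ[F] W →ₛₗ[σ] F}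

/-- a nonzero vector is not orthogonal to all isotropic vectors (`dim W ≥ 2`) -/
theorem exists_iso_not_perp (hσ : Invol σ) (hβ : IsHerm β) (hN : NondegOn β ⊤)
    (h2 : 2 ≤ finrank F W) (w : W) (hw : w ≠ 0) : ∃ z : W, β z z = 0 ∧ β w z ≠ 0 := by
  have htop : 2 ≤ finrank F (⊤ : Submodule F W) := by rw [finrank_top]; exact h2
  obtain ⟨e, -, f, -, he, hf, hef⟩ := Cfsg.Agent.Lib.Helper94_HermIrr.exists_pair hσ hβ hN
    (fun x => Cfsg.Agent.Lib.Helper94_HermWitt.exists_notMem_span1 htop x)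
  by_contra hcon
  push Not at hcon
  obtain ⟨y, -, hy⟩ := hN w trivial hw
  apply hy
  have hy' : y ∈ Submodule.span F {z | z ∈ (⊤ : Submodule F W) ∧ β z z = 0} :=
    span_iso hσ hβ (U := ⊤) trivial trivial he hf hef y trivial
  have hle : Submodule.span F {z | z ∈ (⊤ : Submodule F W) ∧ β z z = 0} ≤ orthV β w := by
    rw [Submodule.span_le]
    rintro z ⟨-, hz⟩
    exact mem_orthV.mpr (herm_eq_zero hβ (hcon z hz))
  exact herm_eq_zero hβ (mem_orthV.mp (hle hy'))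

/-- a vector of prescribed norm orthogonal to a non-isotropic `w` and an isotropic `z` not
orthogonal to `w` (`dim W ≥ 3`) -/
theorem exists_perp_norm (hσ : Invol σ) (hβ : IsHerm β) (hN : NondegOn β ⊤)
    (h3 : 3 ≤ finrank F W) (w z : W) (hw : β w w ≠ 0) (hz : β z z = 0) (hwz : β w z ≠ 0)
    (ν : F) (hν : σ ν = ν) : ∃ d : W, β d w = 0 ∧ β d z = 0 ∧ β d d = ν := by
  have hzw : β z w ≠ 0 := herm_ne_zero hσ hβ hwz
  have hn : σ (β w w) = β w w := herm_self hβ w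
  obtain ⟨c, hc⟩ : ∃ c : F, c = β z w / β w w := ⟨_, rfl⟩
  have hσc : σ c = β w z / β w w := by rw [hc, map_div₀, hn, ← hβ z w]
  obtain ⟨z1, hz1⟩ : ∃ z1 : W, z1 = z - c • w := ⟨_, rfl⟩
  have hU1 : NondegOn β (⊤ ⊓ orthV β w) := nondegOn_orthV hβ hN trivial hw
  have hz1w : β z1 w = 0 := by
    rw [hz1, map_sub, map_smul, LinearMap.sub_apply, LinearMap.smul_apply, smul_eq_mul, hc]
    field_simp
    ring
  have hz1U : z1 ∈ (⊤ ⊓ orthV β w : Submodule F W) :=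
    Submodule.mem_inf.mpr ⟨trivial, mem_orthV.mpr hz1w⟩
  have hz1z1 : β z1 z1 = -(β z w * β w z) / β w w := by
    have e1 : β z1 z1 = β z1 z - σ c * β z1 w := by
      have e0 : β z1 (z - c • w) = β z1 z - σ c * β z1 w := by
        rw [map_sub, map_smulₛₗ, smul_eq_mul]
      rw [← hz1] at e0
      exact e0
    rw [e1, hz1w, mul_zero, sub_zero, hz1, map_sub, map_smul, LinearMap.sub_apply,
      LinearMap.smul_apply, smul_eq_mul, hz, hc]
    field_simp
    ring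
  have hz1ne : β z1 z1 ≠ 0 := by
    rw [hz1z1]
    exact div_ne_zero (neg_ne_zero.mpr (mul_ne_zero hzw hwz)) hw
  have hU2 : NondegOn β ((⊤ ⊓ orthV β w) ⊓ orthV β z1) := nondegOn_orthV hβ hU1 hz1U hz1ne
  have hdim : 1 ≤ finrank F ((⊤ ⊓ orthV β w) ⊓ orthV β z1 : Submodule F W) := by
    have e1 := Cfsg.Agent.Lib.Helper94_HermWitt.finrank_le_inf_orthV_add_one (B := β)
      (⊤ : Submodule F W) w
    have e2 := Cfsg.Agent.Lib.Helper94_HermWitt.finrank_le_inf_orthV_add_one (B := β)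
      (⊤ ⊓ orthV β w : Submodule F W) z1
    rw [finrank_top] at e1
    omega
  obtain ⟨d1, hd1U, hd10⟩ := Cfsg.Agent.Lib.Helper94_HermWitt.exists_ne_zero_of_finrank_pos hdim
  obtain ⟨d0, hd0U, hd0⟩ := exists_aniso hσ hβ hU2 hd1U hd10
  have hd0w : β d0 w = 0 := mem_orthV.mp (Submodule.mem_inf.mp (Submodule.mem_inf.mp hd0U).1).2
  have hd0z1 : β d0 z1 = 0 := mem_orthV.mp (Submodule.mem_inf.mp hd0U).2
  have hd0z : β d0 z = 0 := by
    have : z = z1 + c • w := by rw [hz1]; abel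
    rw [this, map_add, map_smulₛₗ, hd0z1, hd0w, smul_zero, add_zero]
  obtain ⟨θ, hθ⟩ := norm_surj hσ (ν / β d0 d0) (by rw [map_div₀, hν, herm_self hβ])
  refine ⟨θ • d0, ?_, ?_, ?_⟩
  · rw [map_smul, LinearMap.smul_apply, hd0w, smul_zero]
  · rw [map_smul, LinearMap.smul_apply, hd0z, smul_zero]
  · rw [self_smul, hθ, div_mul_cancel₀ _ hd0]

/-- GEN3 : then the root groups of all `(w, 0)`, `w` arbitrary -/
theorem uu_left (hσ : Invol σ) (hβ : IsHerm β) (hN : NondegOn β ⊤) (h3 : 3 ≤ finrank F W)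
    (hq : ∃ a : F, σ a = a ∧ a ≠ 0 ∧ a ≠ 1)
    (M : Subgroup ((W × W) ≃ₗ[F] (W × W))) (hM : HypU β M)
    (hiso : ∀ y : W, β y y = 0 → ((y, (0 : W)) ∈ UU (uf β) M ∧ ((0 : W), y) ∈ UU (uf β) M)) :
    ∀ w : W, (w, (0 : W)) ∈ UU (uf β) M := by
  intro w
  by_cases hw : β w w = 0
  · exact (hiso w hw).1
  have hw0 : w ≠ 0 := by
    rintro rfl
    exact hw (by simp)
  have hMu : M ≤ uG (uf β) := fun g hg => (mem_SUg.mp (hM.le hg)).1
  have hH : IsHerm (uf β) := uf_isHerm hβ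
  obtain ⟨a, ha, ha0, ha1⟩ := hq
  obtain ⟨s1, hs10, hs1⟩ := exists_skew hσ
  obtain ⟨z0, hz0, hwz0⟩ := exists_iso_not_perp hσ hβ hN (by omega) w hw0
  -- normalise `z` so that `β w z = s1`
  obtain ⟨z, hz_def⟩ : ∃ z : W, z = σ (s1 / β w z0) • z0 := ⟨_, rfl⟩
  have hz : β z z = 0 := by rw [hz_def, self_smul, hz0, mul_zero]
  have hwz : β w z = s1 := by
    rw [hz_def, map_smulₛₗ, smul_eq_mul, hσ.invol, div_mul_cancel₀ _ hwz0]
  have hzw : β z w = -s1 := by rw [hβ w z, hwz, hs1]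
  obtain ⟨n, hn_def⟩ : ∃ n : F, n = β w w := ⟨_, rfl⟩
  have hn : σ n = n := by rw [hn_def]; exact herm_self hβ w
  obtain ⟨α, hα⟩ : ∃ α : F, α = -a := ⟨_, rfl⟩
  have hσα : σ α = α := by rw [hα, map_neg, ha]
  have hα0 : α ≠ 0 := by rw [hα]; exact neg_ne_zero.mpr ha0
  have hα1 : 1 + α ≠ 0 := by
    rw [hα]
    intro h
    apply ha1
    linear_combination -h
  obtain ⟨d, hdw, hdz, hdd⟩ := exists_perp_norm hσ hβ hN h3 w z hw hz
    (by rw [hwz]; exact hs10) (α * (α + 1) * n)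
    (by rw [map_mul, map_mul, map_add, map_one, hσα, hn])
  have hwd : β w d = 0 := herm_eq_zero hβ hdw
  have hzd : β z d = 0 := herm_eq_zero hβ hdz
  obtain ⟨l, hl⟩ := tr_surj hσ (-(1 + 2 * α) * n)
    (by rw [map_mul, map_neg, map_add, map_mul, map_one, map_ofNat, hσα, hn])
  obtain ⟨γ, hγ⟩ : ∃ γ : F, γ = σ (l / s1) := ⟨_, rfl⟩
  have hγ1 : σ γ * s1 = l := by rw [hγ, hσ.invol, div_mul_cancel₀ _ hs10]
  have hγ2 : γ * s1 = -σ l := by
    rw [hγ, map_div₀, hs1]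
    field_simp
  obtain ⟨x, hx⟩ : ∃ x : W, x = α • w + γ • z + d := ⟨_, rfl⟩
  have hxx : β x x = 0 := by
    rw [hx]
    simp only [map_add, map_smul, map_smulₛₗ, LinearMap.add_apply, LinearMap.smul_apply,
      smul_eq_mul, hz, hwz, hzw, hdw, hdz, hwd, hzd, hdd, hσα, ← hn_def]
    linear_combination α * hγ1 - α * hγ2 + α * hl
  have hxz : β x z = α * s1 := by
    rw [hx]
    simp only [map_add, map_smul, LinearMap.add_apply, LinearMap.smul_apply,
      smul_eq_mul, hz, hwz, hdz]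
    ring
  have hzx : β z x = -(α * s1) := by rw [hβ x z, hxz, map_mul, hσα, hs1]; ring
  have hwx : β w x = α * n + l := by
    rw [hx]
    simp only [map_add, map_smulₛₗ, smul_eq_mul, hwz, hwd, hσα, ← hn_def]
    linear_combination hγ1
  obtain ⟨y, hy⟩ : ∃ y : W, y = w + x := ⟨_, rfl⟩
  have hyy : β y y = 0 := by
    rw [hy, self_add hβ, hxx, hwx, ← hn_def, map_add, map_mul, hσα, hn]
    linear_combination hl
  have hyz : β y z = (1 + α) * s1 := by
    rw [hy, map_add, LinearMap.add_apply, hwz, hxz]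
    ring
  have hzy : β z y = -((1 + α) * s1) := by
    rw [hβ y z, hyz, map_mul, map_add, map_one, hσα, hs1]
    ring
  -- the chain
  have h1 : (y, (0 : W)) ∈ UU (uf β) M := (hiso y hyy).1
  have h2 : ((0 : W), z) ∈ UU (uf β) M := (hiso z hz).2
  have h3' : (x, (0 : W)) ∈ UU (uf β) M := (hiso x hxx).1
  have hne : uf β (y, (0 : W)) ((0 : W), z) ≠ 0 := by
    rw [uf_apply]
    simp only [map_zero, add_zero, hyz]
    exact mul_ne_zero hα1 hs10
  have hsum : (y, (0 : W)) + ((0 : W), z) = (y, z) := by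
    rw [Prod.mk_add_mk, add_zero, zero_add]
  have hyzi : uf β ((y, (0 : W)) + ((0 : W), z)) ((y, (0 : W)) + ((0 : W), z)) = 0 := by
    rw [hsum, uf_apply]
    simp only [hyz, hzy]
    ring
  have h4 : (y, z) ∈ UU (uf β) M := by
    have := Cfsg.Agent.Lib.Helper94_UDDefs.UU_add hσ hH hMu h1 h2 hne hyzi
    rwa [hsum] at this
  have hs2 : σ ((α * s1)⁻¹) = -(α * s1)⁻¹ := by
    rw [map_inv₀, map_mul, hσα, hs1, mul_neg, inv_neg]
  have h5 : utv (uf β) (x, (0 : W)) ((α * s1)⁻¹) ∈ M := h3'.2 _ hs2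
  have h6 : utv (uf β) (x, (0 : W)) ((α * s1)⁻¹) (y, z) = (w, z) := by
    rw [utv_apply (uf β) h3'.1, uf_apply]
    simp only [map_zero, zero_add, hzx]
    have hαs : α * s1 ≠ 0 := mul_ne_zero hα0 hs10
    have : (α * s1)⁻¹ * -(α * s1) = -1 := by field_simp
    rw [this, hy]
    ext
    · simp
    · simp
  have h7 : (w, z) ∈ UU (uf β) M := by
    rw [← h6]
    exact Cfsg.Agent.Lib.Helper94_UDDefs.UU_map hMu h5 h4
  have hs3 : σ (-s1⁻¹) = -(-s1⁻¹) := by
    rw [map_neg, map_inv₀, hs1, inv_neg]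
  have h8 : utv (uf β) ((0 : W), z) (-s1⁻¹) ∈ M := h2.2 _ hs3
  have h9 : utv (uf β) ((0 : W), z) (-s1⁻¹) (w, z) = (w, (0 : W)) := by
    rw [utv_apply (uf β) h2.1, uf_apply]
    simp only [map_zero, add_zero, hwz]
    have : -s1⁻¹ * s1 = -1 := by field_simp
    rw [this]
    ext
    · simp
    · simp
  rw [← h9]
  exact Cfsg.Agent.Lib.Helper94_UDDefs.UU_map hMu h8 h7

/-- GEN3 : and of all `(0, w)` -/
theorem uu_right (hσ : Invol σ) (hβ : IsHerm β) (hN : NondegOn β ⊤) (h3 : 3 ≤ finrank F W)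
    (hq : ∃ a : F, σ a = a ∧ a ≠ 0 ∧ a ≠ 1)
    (M : Subgroup ((W × W) ≃ₗ[F] (W × W))) (hM : HypU β M)
    (hiso : ∀ y : W, β y y = 0 → ((y, (0 : W)) ∈ UU (uf β) M ∧ ((0 : W), y) ∈ UU (uf β) M)) :
    ∀ w : W, ((0 : W), w) ∈ UU (uf β) M := by
  intro w
  have hl := uu_left hσ hβ hN h3 hq M hM hiso
  have hMu : M ≤ uG (uf β) := fun g hg => (mem_SUg.mp (hM.le hg)).1
  obtain ⟨s, hs0, hs⟩ := exists_skew hσ
  have hj : jU (Units.mk0 s hs0) ∈ M := hM.jU_mem (Units.mk0 s hs0) (by simpa using hs)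
  have h1 := Cfsg.Agent.Lib.Helper94_UDDefs.UU_map hMu hj (hl w)
  have h2 := Cfsg.Agent.Lib.Helper94_UDDefs.UU_smul hσ h1 (-s)
  have h3 : (-s) • (jU (Units.mk0 s hs0) (w, (0 : W))) = ((0 : W), w) := by
    rw [jU_apply]
    ext
    · simp
    · simp [smul_smul, hs0]
  rwa [h3] at h2

end Cfsg.Agent.Lib.Helper12_UT2_GEN3
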