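import Mathlib
import Cfsg.Agent.Lib.Helper37_UTDefs
import Cfsg.Agent.Lib.Helper94_UDDefs
import Cfsg.Agent.Lib.Helper73_Tens_TP1
import Cfsg.Agent.Lib.Helper17_UT_BAS1

set_option autoImplicit false
set_option linter.unusedSectionVars false
set_option linter.unusedVariables false

/-!
# UTENS package BAS3 (architect helper37): the tensor form is hermitian and nondegenerate.
-/

namespace Cfsg.Agent.Lib.Helper31_UT_BAS3

open Matrix Module
open Cfsg.Agent.Lib.Helper98_ExtDefs Cfsg.Agent.Lib.Helper97_TensDefs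
open Cfsg.Agent.Lib.Helper94_Herm Cfsg.Agent.Lib.Helper13_PSUSimple
open Cfsg.Agent.Lib.Helper67_UT2Defs Cfsg.Agent.Lib.Helper37_UTDefs
open Cfsg.Agent.Lib.Helper94_FrmDefs

variable {F : Type*} [Field F] {ι κ : Type*} [Fintype ι] [Fintype κ] [DecidableEq ι]
  [DecidableEq κ] {σ : F →+* F}
variable {α : (ι → F) →ₗ[F] (ι → F) →ₛₗ[σ] F} {β : (κ → F) →ₗ[F] (κ → F) →ₛₗ[σ] F}
variable {M : Subgroup (Matrix ι κ F ≃ₗ[F] Matrix ι κ F)}

/-- BAS3 (M): the tensor form is hermitian and nondegenerate -/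
theorem tf_isHerm (hσ : Invol σ) (hα : IsHerm α) (hβ : IsHerm β) : IsHerm (tf α β) := by
  intro X Y
  rw [tf_apply, tf_apply, map_sum, Finset.sum_comm]
  refine Finset.sum_congr rfl fun j _ => ?_
  rw [map_sum]
  refine Finset.sum_congr rfl fun l _ => ?_
  rw [map_mul, ← hα (colv X j) (colv Y l), ← hβ (Pi.single j 1) (Pi.single l 1)]

theorem tf_nondeg (hσ : Invol σ) (hα : IsHerm α) (hβ : IsHerm β) (hαN : NondegOn α ⊤)
    (hβN : NondegOn β ⊤) : NondegOn (tf α β) ⊤ := by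
  intro X _ hX
  -- a nonzero row
  have hrow : ∃ i, X i ≠ 0 := by
    by_contra hcon
    push Not at hcon
    exact hX (by ext i j; rw [hcon i]; rfl)
  obtain ⟨i, hi⟩ := hrow
  obtain ⟨y, -, hy⟩ := hβN (X i) trivial hi
  have hc : ctrB β y X ≠ 0 := by
    intro h0
    apply hy
    have := congr_fun h0 i
    rwa [ctrB_apply] at this
  obtain ⟨x, -, hx⟩ := hαN (ctrB β y X) trivial hc
  refine ⟨vecMulVec x y, trivial, ?_⟩
  rw [Cfsg.Agent.Lib.Helper17_UT_BAS1.tf_right_pure]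
  exact hx

end Cfsg.Agent.Lib.Helper31_UT_BAS3
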