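import Mathlib
import Cfsg.Agent.Lib.Helper37_UTDefs
import Cfsg.Agent.Lib.Helper37_UTPairDefs
import Cfsg.Agent.Lib.Helper17_UT_BAS1
import Cfsg.Agent.Lib.Helper31_UT_BAS3
import Cfsg.Agent.Lib.Helper44_UT_BAS4

set_option autoImplicit false
set_option linter.unusedSectionVars false
set_option linter.unusedVariables false

/-!
# UTENS package UT-ZF (architect helper37; formalised by helper53)

Elements of `Z(x ⊗ B)`: `zformII` (an isometry `g` with `(g - 1) V ≤ x ⊗ B` is `1 + P_x ⊗ S`),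
`radII_apply` (`RadStd-II` in applicable form), `tmE_mem_base` (`UTBase` version of BAS5).
-/

namespace Cfsg.Agent.Lib.Helper53_UT_ZF

open Matrix Module
open Cfsg.Agent.Lib.Helper98_ExtDefs Cfsg.Agent.Lib.Helper97_TensDefs
open Cfsg.Agent.Lib.Helper94_Herm Cfsg.Agent.Lib.Helper13_PSUSimple
open Cfsg.Agent.Lib.Helper94_HermEich
open Cfsg.Agent.Lib.Helper67_UT2Defs Cfsg.Agent.Lib.Helper37_UTDefs
open Cfsg.Agent.Lib.Helper37_UTPairDefs
open Cfsg.Agent.Lib.Helper17_UT_BAS1 Cfsg.Agent.Lib.Helper31_UT_BAS3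
open Cfsg.Agent.Lib.Helper44_UT_BAS4

variable {F : Type*} [Field F] {ι κ : Type*} [Fintype ι] [Fintype κ] [DecidableEq ι]
  [DecidableEq κ] {σ : F →+* F}
variable {α : (ι → F) →ₗ[F] (ι → F) →ₛₗ[σ] F} {β : (κ → F) →ₗ[F] (κ → F) →ₛₗ[σ] F}
variable {M : Subgroup (Matrix ι κ F ≃ₗ[F] Matrix ι κ F)}

/-- a partner `x'` of a nonzero vector: `α x' x = 1` and `α x x' = 1` -/
theorem h53_exists_dual (hσ : Invol σ) (hα : IsHerm α) (hαN : NondegOn α ⊤) {x : ι → F}
    (hx0 : x ≠ 0) : ∃ x' : ι → F, α x' x = 1 ∧ α x x' = 1 := by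
  obtain ⟨y, -, hy⟩ := hαN x trivial hx0
  have hy' : α y x ≠ 0 := herm_ne_zero hσ hα hy
  refine ⟨(α y x)⁻¹ • y, ?_, ?_⟩
  · rw [map_smul, LinearMap.smul_apply, smul_eq_mul, inv_mul_cancel₀ hy']
  · have h1 : α ((α y x)⁻¹ • y) x = 1 := by
      rw [map_smul, LinearMap.smul_apply, smul_eq_mul, inv_mul_cancel₀ hy']
    rw [hα ((α y x)⁻¹ • y) x, h1, map_one]

/-- `P_x ⊗ S` on a general matrix -/
theorem h53_tm_rk1h_apply (x : ι → F) (S : (κ → F) →ₗ[F] (κ → F)) (X : Matrix ι κ F) :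
    tm (rk1h α x) S X = vecMulVec x (S (ctrA α x X)) := by
  refine h44_induction (p := fun X => tm (rk1h α x) S X = vecMulVec x (S (ctrA α x X))) ?_ ?_ ?_ X
  · simp only [map_zero]
    ext i j
    simp [vecMulVec_apply]
  · intro X Y hX hY
    simp only [map_add, hX, hY, vecMulVec_add]
  · intro a b
    rw [tm_pure, rk1h_apply, ctrA_pure, map_smul, smul_vecMulVec, vecMulVec_smul]

/-- `tm` is homogeneous in the second argument -/
theorem h53_tm_smul_right (P : (ι → F) →ₗ[F] (ι → F)) (s : F) (Q : (κ → F) →ₗ[F] (κ → F))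
    (X : Matrix ι κ F) : tm P (s • Q) X = s • tm P Q X := by
  rw [tm_apply, tm_apply, map_smul, Matrix.transpose_smul, Matrix.mul_smul]

/-- an isometry `g` with `(g - 1) V ≤ x ⊗ B` is `1 + P_x ⊗ S` -/
theorem zformII (hB : UTBase α β M) {x : ι → F} (hx0 : x ≠ 0) (hx : α x x = 0)
    {g : Matrix ι κ F ≃ₗ[F] Matrix ι κ F} (hg : g ∈ uG (tf α β))
    (h : ∀ X, g X - X ∈ fibB (κ := κ) x) :
    ∃ S : (κ → F) →ₗ[F] (κ → F), ∀ X, g X = X + tm (rk1h α x) S X := by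
  obtain ⟨x', hx'1, hx'2⟩ := h53_exists_dual hB.hσ hB.hα hB.hαN hx0
  have hND := tf_nondeg hB.hσ hB.hα hB.hβ hB.hαN hB.hβN
  -- step 1: `g - 1` kills `ker (ctrA α x)`
  have hker : ∀ v : Matrix ι κ F, ctrA α x v = 0 → g v - v = 0 := by
    intro v hv
    by_contra hne
    obtain ⟨Y, -, hY⟩ := hND (g v - v) trivial hne
    apply hY
    obtain ⟨z, rfl⟩ := g.surjective Y
    obtain ⟨w, hw⟩ := h z
    have h1 : tf α β v (g z - z) = 0 := by
      rw [hw, tf_right_pure', hv, map_zero, LinearMap.zero_apply]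
    rw [map_sub, LinearMap.sub_apply, hg v z]
    rw [map_sub] at h1
    rw [sub_eq_zero] at h1 ⊢
    exact h1.symm
  -- step 2: the map `S`
  let S : (κ → F) →ₗ[F] (κ → F) :=
    ctrA α x' ∘ₗ (g.toLinearMap - LinearMap.id) ∘ₗ vmR x'
  have hS : ∀ w : κ → F, g (vecMulVec x' w) - vecMulVec x' w = vecMulVec x (S w) := by
    intro w
    obtain ⟨w0, hw0⟩ := h (vecMulVec x' w)
    have h2 : S w = w0 := by
      change ctrA α x' (g (vecMulVec x' w) - vecMulVec x' w) = w0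
      rw [hw0, ctrA_pure, hx'2, one_smul]
    rw [h2, hw0]
  refine ⟨S, fun X => ?_⟩
  rw [h53_tm_rk1h_apply]
  have h3 : ctrA α x (X - vecMulVec x' (ctrA α x X)) = 0 := by
    rw [map_sub, ctrA_pure, hx'1, one_smul, sub_self]
  have h4 := hker _ h3
  rw [map_sub] at h4
  have h5 := hS (ctrA α x X)
  rw [← h5]
  have h6 : g X - X = g (vecMulVec x' (ctrA α x X)) - vecMulVec x' (ctrA α x X) := by
    rw [← sub_eq_zero, ← h4]
    abel
  rw [← h6]
  abel

/-- `RadStd-II` in applicable form: `g ∈ M`, `(g - 1) V ≤ x ⊗ B` ⇒ `g = 1 + s N_x`, `σ s = -s` -/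
theorem radII_apply (hB : UTBase α β M) (hII : RadStdII α M) {x : ι → F} (hx0 : x ≠ 0)
    (hx : α x x = 0) {g : Matrix ι κ F ≃ₗ[F] Matrix ι κ F} (hg : g ∈ M)
    (h : ∀ X, g X - X ∈ fibB (κ := κ) x) :
    ∃ s : F, σ s = -s ∧ ∀ X, g X = X + s • nII α x X := by
  have hgU : g ∈ uG (tf α β) := (mem_SUg.mp (hB.hM hg)).1
  obtain ⟨S, hS⟩ := zformII hB hx0 hx hgU h
  obtain ⟨s, hs⟩ := hII x hx0 hx S ⟨g, hg, hS⟩
  have hform : ∀ X, g X = X + s • nII α x X := by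
    intro X
    rw [hS X, hs, h53_tm_smul_right]
    rfl
  by_cases hκ : IsEmpty κ
  · refine ⟨0, by rw [map_zero, neg_zero], fun X => ?_⟩
    ext i j
    exact (hκ.false j).elim
  · rw [not_isEmpty_iff] at hκ
    obtain ⟨j0⟩ := hκ
    refine ⟨s, ?_, hform⟩
    obtain ⟨x', hx'1, hx'2⟩ := h53_exists_dual hB.hσ hB.hα hB.hαN hx0
    have hb0 : (Pi.single j0 (1 : F) : κ → F) ≠ 0 := by
      intro h0
      have := congrFun h0 j0
      simp at this
    obtain ⟨b', -, hb'⟩ := hB.hβN _ trivial hb0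
    set b : κ → F := Pi.single j0 (1 : F) with hb
    have hN1 : nII (κ := κ) α x (vecMulVec x' b) = vecMulVec x b := by
      rw [nII_apply, ctrA_pure, hx'1, one_smul]
    have hN2 : nII (κ := κ) α x (vecMulVec x' b') = vecMulVec x b' := by
      rw [nII_apply, ctrA_pure, hx'1, one_smul]
    have h1 := hgU (vecMulVec x' b) (vecMulVec x' b')
    rw [hform, hform, hN1, hN2] at h1
    simp only [map_add, map_smul, map_smulₛₗ, LinearMap.add_apply, LinearMap.smul_apply,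
      smul_eq_mul, tf_pure, hx, hx'1, hx'2, zero_mul, mul_zero, add_zero, one_mul] at h1
    have h2 : (σ s + s) * β b b' = 0 := by linear_combination h1
    rcases mul_eq_zero.mp h2 with h3 | h3
    · exact eq_neg_of_add_eq_zero_left h3
    · exact absurd h3 hb'

/-- Kronecker elements of `SU(A) ⊗ SU(B)` lie in `M` (`UTBase` version of BAS5) -/
theorem tmE_mem_base (hB : UTBase α β M) {P : (ι → F) ≃ₗ[F] (ι → F)} {Q : (κ → F) ≃ₗ[F] (κ → F)}
    (hP : P ∈ SUg α) (hQ : Q ∈ SUg β) : tmE P Q ∈ M := by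
  rw [mem_SUg] at hP hQ
  apply hB.hN _ _ (isKron_tmE P Q)
  rw [mem_SUg]
  refine ⟨tmE_mem_uG hP.1 hQ.1, ?_⟩
  rw [det_tmE, hP.2, hQ.2, one_pow, one_pow, one_mul]

end Cfsg.Agent.Lib.Helper53_UT_ZF
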