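import Mathlib
import Cfsg.Agent.Lib.Helper37_UTDefs
import Cfsg.Agent.Lib.Helper37_UTPairDefs
import Cfsg.Agent.Lib.Helper17_UT_BAS1
import Cfsg.Agent.Lib.Helper31_UT_BAS3
import Cfsg.Agent.Lib.Helper44_UT_BAS4
import Cfsg.Agent.Lib.Helper53_UT_ZF
import Cfsg.Agent.Lib.Helper14_PSULocal1

set_option autoImplicit false
set_option linter.unusedSectionVars false
set_option linter.unusedVariables false

/-!
# UTENS package UT-LAYER, core (architect helper37; formalised by helper12)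

`layer_of` : the action of `Stab_M(x ⊗ B)` on the layers `ℓ ≤ ℓ^⊥ ≤ V`, with the statement of
`qcomm` (for the vector `x`) as a hypothesis.
-/

namespace Cfsg.Agent.Lib.Helper12_UT_LAYERaux

open Matrix Module
open Cfsg.Agent.Lib.Helper94_Symp
open Cfsg.Agent.Lib.Helper98_ExtDefs Cfsg.Agent.Lib.Helper97_TensDefs
open Cfsg.Agent.Lib.Helper94_Herm Cfsg.Agent.Lib.Helper13_PSUSimple
open Cfsg.Agent.Lib.Helper94_HermEich
open Cfsg.Agent.Lib.Helper67_UT2Defs Cfsg.Agent.Lib.Helper37_UTDefs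
open Cfsg.Agent.Lib.Helper37_UTPairDefs
open Cfsg.Agent.Lib.Helper17_UT_BAS1 Cfsg.Agent.Lib.Helper31_UT_BAS3
open Cfsg.Agent.Lib.Helper44_UT_BAS4 Cfsg.Agent.Lib.Helper53_UT_ZF

variable {F : Type*} [Field F] {ι κ : Type*} [Fintype ι] [Fintype κ] [DecidableEq ι]
  [DecidableEq κ] {σ : F →+* F}
variable {α : (ι → F) →ₗ[F] (ι → F) →ₛₗ[σ] F} {β : (κ → F) →ₗ[F] (κ → F) →ₛₗ[σ] F}
variable {M : Subgroup (Matrix ι κ F ≃ₗ[F] Matrix ι κ F)}

/-- the linear map `c ↦ c ⊗ w` -/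
def h12vmL (w : κ → F) : (ι → F) →ₗ[F] Matrix ι κ F where
  toFun c := vecMulVec c w
  map_add' c c' := add_vecMulVec c c' w
  map_smul' s c := smul_vecMulVec s c w

@[simp] theorem h12vmL_apply (w : κ → F) (c : ι → F) : h12vmL w c = vecMulVec c w := rfl

theorem h12vecMulVec_zero_right (x : ι → F) : vecMulVec x (0 : κ → F) = 0 := by
  ext i j
  simp [vecMulVec_apply]

theorem h12vecMulVec_neg_right (x : ι → F) (w : κ → F) : vecMulVec x (-w) = -vecMulVec x w := by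
  ext i j
  simp [vecMulVec_apply]

theorem h12vecMulVec_sub_right (x : ι → F) (w w' : κ → F) :
    vecMulVec x (w - w') = vecMulVec x w - vecMulVec x w' := by
  ext i j
  simp [vecMulVec_apply, mul_sub]

/-- the Eichler element `eich α x c γ ⊗ 1` on a general matrix -/
theorem h12tmE_eich_apply {x c : ι → F} (hx : α x x = 0) (hcx : α c x = 0) (hxc : α x c = 0)
    (γ : F) (X : Matrix ι κ F) :
    tmE (eich α x c γ) (1 : (κ → F) ≃ₗ[F] (κ → F)) X =
      X + vecMulVec c (ctrA α x X) - vecMulVec x (ctrA α c X)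
        + γ • vecMulVec x (ctrA α x X) := by
  refine h44_induction (p := fun X => tmE (eich α x c γ) (1 : (κ → F) ≃ₗ[F] (κ → F)) X =
      X + vecMulVec c (ctrA α x X) - vecMulVec x (ctrA α c X)
        + γ • vecMulVec x (ctrA α x X)) ?_ ?_ ?_ X
  · simp only [map_zero, h12vecMulVec_zero_right, smul_zero, add_zero, sub_zero]
  · intro X Y hX hY
    simp only [map_add, hX, hY, vecMulVec_add, smul_add]
    abel
  · intro a b
    rw [tmE_pure, eich_apply α hx hcx hxc, ctrA_pure, ctrA_pure]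
    simp only [LinearEquiv.coe_one, id_eq, add_vecMulVec, sub_vecMulVec, smul_vecMulVec,
      vecMulVec_smul, mul_smul]

/-- an isometry mapping `x ⊗ B` onto `x ⊗ B` stabilises `(x ⊗ B)^⊥ = ker (ctrA α x)` -/
theorem h12ctrA_stab (hβN : NondegOn β ⊤) {x : ι → F} {g : Matrix ι κ F ≃ₗ[F] Matrix ι κ F}
    (hg : g ∈ uG (tf α β))
    (hst' : ∀ w : κ → F, ∃ w' : κ → F, g (vecMulVec x w') = vecMulVec x w)
    (X : Matrix ι κ F) (hX : ctrA α x X = 0) : ctrA α x (g X) = 0 := by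
  by_contra hne
  obtain ⟨w, -, hw⟩ := hβN _ trivial hne
  apply hw
  obtain ⟨w', hw'⟩ := hst' w
  rw [← tf_right_pure' (α := α) (β := β), ← hw', hg X (vecMulVec x w'), tf_right_pure', hX,
    map_zero, LinearMap.zero_apply]

/-- a linear equivalence mapping `x ⊗ B` into itself maps it onto itself -/
theorem h12stab_inv {x : ι → F} {g : Matrix ι κ F ≃ₗ[F] Matrix ι κ F}
    (hst : ∀ w : κ → F, ∃ w' : κ → F, g (vecMulVec x w) = vecMulVec x w') :
    ∀ w : κ → F, ∃ w' : κ → F, g (vecMulVec x w') = vecMulVec x w := by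
  have hle : (fibB (κ := κ) x).map g.toLinearMap ≤ fibB x := by
    rintro _ ⟨Y, ⟨w, rfl⟩, rfl⟩
    obtain ⟨w', hw'⟩ := hst w
    exact ⟨w', hw'⟩
  have hfr : finrank F ↥((fibB (κ := κ) x).map g.toLinearMap) = finrank F ↥(fibB (κ := κ) x) :=
    LinearEquiv.finrank_map_eq g (fibB x)
  have heq := Submodule.eq_of_le_of_finrank_eq hle hfr
  intro w
  have hmem : vecMulVec x w ∈ (fibB (κ := κ) x).map g.toLinearMap := by
    rw [heq]
    exact ⟨w, rfl⟩
  obtain ⟨Y, ⟨w', rfl⟩, hY⟩ := hmem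
  exact ⟨w', hY⟩

/-- LAYER with the statement of `qcomm` (for the vector `x`) as a hypothesis -/
theorem layer_of (hB : UTBase α β M) {x : ι → F} (hx0 : x ≠ 0) (hx : α x x = 0)
    (hqc : ∀ h : Matrix ι κ F ≃ₗ[F] Matrix ι κ F, h ∈ M → InQ α x h →
      ∃ (c : ι → F) (γ : F), α c x = 0 ∧ γ + σ γ = -(α c c) ∧
        h = tmE (eich α x c γ) (1 : (κ → F) ≃ₗ[F] (κ → F)))
    {g : Matrix ι κ F ≃ₗ[F] Matrix ι κ F} (hg : g ∈ M)
    (hst : ∀ w : κ → F, ∃ w' : κ → F, g (vecMulVec x w) = vecMulVec x w') :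
    ∃ (g₃ : (κ → F) →ₗ[F] (κ → F)) (φ : (ι → F) →ₗ[F] (ι → F)),
      (∀ X, ctrA α x (g X) = g₃ (ctrA α x X)) ∧
      (∀ c, α c x = 0 → α (φ c) x = 0) ∧
      (∀ c w, α c x = 0 → g (vecMulVec c w) - vecMulVec (φ c) (g₃ w) ∈ fibB (κ := κ) x) := by
  by_cases hκ : IsEmpty κ
  · refine ⟨0, 0, fun X => ?_, fun c _ => ?_, fun c w _ => ?_⟩
    · exact Subsingleton.elim _ _
    · simp
    · refine ⟨0, ?_⟩
      ext i j
      exact (hκ.false j).elim
  rw [not_isEmpty_iff] at hκ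
  obtain ⟨j0⟩ := hκ
  have hgU : g ∈ uG (tf α β) := (mem_SUg.mp (hB.hM hg)).1
  have hgiU : g⁻¹ ∈ uG (tf α β) := inv_mem hgU
  have hst' := h12stab_inv hst
  have hsti' : ∀ w : κ → F, ∃ w' : κ → F, g⁻¹ (vecMulVec x w') = vecMulVec x w := by
    intro w
    obtain ⟨w', hw'⟩ := hst w
    exact ⟨w', by rw [← hw', inv_apply_apply']⟩
  have hker := h12ctrA_stab (α := α) hB.hβN hgU hst'
  have hkeri := h12ctrA_stab (α := α) hB.hβN hgiU hsti'
  obtain ⟨x', hx'1, hx'2⟩ := h53_exists_dual hB.hσ hB.hα hB.hαN hx0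
  let g₃ : (κ → F) →ₗ[F] (κ → F) := ctrA α x ∘ₗ g.toLinearMap ∘ₗ vmR x'
  have hg₃ : ∀ w, g₃ w = ctrA α x (g (vecMulVec x' w)) := fun w => rfl
  have h1 : ∀ X, ctrA α x (g X) = g₃ (ctrA α x X) := by
    intro X
    have h3 : ctrA α x (X - vecMulVec x' (ctrA α x X)) = 0 := by
      rw [map_sub, ctrA_pure, hx'1, one_smul, sub_self]
    have h4 := hker _ h3
    rw [map_sub, map_sub, sub_eq_zero] at h4
    rw [h4, hg₃]
  have hsurj : ∀ b, ∃ w, g₃ w = b := by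
    intro b
    refine ⟨ctrA α x (g⁻¹ (vecMulVec x' b)), ?_⟩
    rw [← h1, apply_inv_apply', ctrA_pure, hx'1, one_smul]
  -- the key claim
  have hkey : ∀ c, α c x = 0 → ∃ c', α c' x = 0 ∧
      ∀ w, g (vecMulVec c w) - vecMulVec c' (g₃ w) ∈ fibB (κ := κ) x := by
    intro c hcx
    have hxc : α x c = 0 := herm_eq_zero hB.hα hcx
    have hcc : σ (-(α c c)) = -(α c c) := by rw [map_neg, ← hB.hα c c]
    obtain ⟨γ, hγ⟩ := tr_surj hB.hσ (-(α c c)) hcc
    have hkM : tmE (eich α x c γ) (1 : (κ → F) ≃ₗ[F] (κ → F)) ∈ M :=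
      tmE_mem_base hB (Cfsg.Agent.Lib.Helper14_PSULocal1.eich_mem_SUg hB.hα hγ) (one_mem _)
    have hkap : ∀ X, tmE (eich α x c γ) (1 : (κ → F) ≃ₗ[F] (κ → F)) X =
        X + vecMulVec c (ctrA α x X) - vecMulVec x (ctrA α c X)
          + γ • vecMulVec x (ctrA α x X) := h12tmE_eich_apply hx hcx hxc γ
    generalize tmE (eich α x c γ) (1 : (κ → F) ≃ₗ[F] (κ → F)) = k at hkM hkap
    have hhM : g * k * g⁻¹ ∈ M := mul_mem (mul_mem hg hkM) (inv_mem hg)
    have hQ : InQ α x (g * k * g⁻¹) := by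
      constructor
      · intro w
        obtain ⟨w', hw'⟩ := hst' w
        have e : g⁻¹ (vecMulVec x w) = vecMulVec x w' := by rw [← hw', inv_apply_apply']
        rw [LinearEquiv.mul_apply, LinearEquiv.mul_apply, e, hkap, ctrA_pure, ctrA_pure, hx, hxc]
        simp only [zero_smul, h12vecMulVec_zero_right, add_zero, sub_zero, smul_zero]
        exact hw'
      · intro X hX
        have hY := hkeri X hX
        rw [LinearEquiv.mul_apply, LinearEquiv.mul_apply, hkap, hY]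
        simp only [h12vecMulVec_zero_right, add_zero, smul_zero]
        rw [map_sub, apply_inv_apply']
        obtain ⟨u', hu'⟩ := hst (ctrA α c (g⁻¹ X))
        rw [hu']
        refine ⟨-u', ?_⟩
        rw [h12vecMulVec_neg_right]
        abel
    obtain ⟨c', γ', hc'x, hγ', hh⟩ := hqc _ hhM hQ
    refine ⟨c', hc'x, fun w => ?_⟩
    have hxc' : α x c' = 0 := herm_eq_zero hB.hα hc'x
    have e1 : (g * k * g⁻¹) (g (vecMulVec x' w)) = g (k (vecMulVec x' w)) := by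
      rw [LinearEquiv.mul_apply, LinearEquiv.mul_apply, inv_apply_apply']
    have e2 : (g * k * g⁻¹) (g (vecMulVec x' w)) =
        g (vecMulVec x' w) + vecMulVec c' (g₃ w)
          - vecMulVec x (ctrA α c' (g (vecMulVec x' w))) + γ' • vecMulVec x (g₃ w) := by
      rw [hh, h12tmE_eich_apply hx hc'x hxc' γ', hg₃ w]
    rw [e1, hkap, ctrA_pure, ctrA_pure, hx'1, one_smul] at e2
    simp only [map_add, map_sub, map_smul] at e2
    obtain ⟨u1, hu1⟩ := hst (α x' c • w)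
    obtain ⟨u2, hu2⟩ := hst w
    rw [hu1, hu2] at e2
    refine ⟨u1 - γ • u2 - ctrA α c' (g (vecMulVec x' w)) + γ' • g₃ w, ?_⟩
    rw [vecMulVec_add, h12vecMulVec_sub_right, h12vecMulVec_sub_right, vecMulVec_smul,
      vecMulVec_smul]
    linear_combination (norm := module) e2
  -- the linear map `φ`
  have hb0 : (Pi.single j0 (1 : F) : κ → F) ≠ 0 := by
    intro h0
    have := congrFun h0 j0
    simp at this
  obtain ⟨w₀, hw₀⟩ := hsurj (Pi.single j0 1)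
  have hne : g₃ w₀ ≠ 0 := by rw [hw₀]; exact hb0
  obtain ⟨y, -, hy⟩ := hB.hβN _ trivial hne
  have hy₁ : β (g₃ w₀) (σ (β (g₃ w₀) y)⁻¹ • y) = 1 := by
    rw [map_smulₛₗ, smul_eq_mul, hB.hσ.invol, inv_mul_cancel₀ hy]
  generalize σ (β (g₃ w₀) y)⁻¹ • y = y₁ at hy₁
  let φ : (ι → F) →ₗ[F] (ι → F) := ctrB β y₁ ∘ₗ g.toLinearMap ∘ₗ h12vmL w₀
  have hφ : ∀ c, φ c = ctrB β y₁ (g (vecMulVec c w₀)) := fun c => rfl
  have hφc : ∀ c, α c x = 0 → ∃ (c' : ι → F) (t : F), α c' x = 0 ∧ φ c = c' + t • x ∧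
      ∀ w, g (vecMulVec c w) - vecMulVec c' (g₃ w) ∈ fibB (κ := κ) x := by
    intro c hcx
    obtain ⟨c', hc'x, hc'⟩ := hkey c hcx
    obtain ⟨u, hu⟩ := hc' w₀
    refine ⟨c', β u y₁, hc'x, ?_, hc'⟩
    have e : g (vecMulVec c w₀) = vecMulVec c' (g₃ w₀) + vecMulVec x u := by
      rw [← hu]; abel
    rw [hφ, e, map_add, ctrB_pure, ctrB_pure, hy₁, one_smul]
  refine ⟨g₃, φ, h1, ?_, ?_⟩
  · intro c hcx
    obtain ⟨c', t, hc'x, hφc', -⟩ := hφc c hcx
    rw [hφc', map_add, LinearMap.add_apply, hc'x, map_smul, LinearMap.smul_apply, hx, smul_zero,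
      add_zero]
  · intro c w hcx
    obtain ⟨c', t, hc'x, hφc', hc'⟩ := hφc c hcx
    obtain ⟨u, hu⟩ := hc' w
    refine ⟨u - t • g₃ w, ?_⟩
    rw [hφc', add_vecMulVec, smul_vecMulVec, h12vecMulVec_sub_right, vecMulVec_smul, ← hu]
    abel

end Cfsg.Agent.Lib.Helper12_UT_LAYERaux
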