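import Mathlib
import Cfsg.Agent.Lib.Helper37_UTDefs
import Cfsg.Agent.Lib.Helper37_UTPairDefs
import Cfsg.Agent.Lib.Helper17_UT_BAS1
import Cfsg.Agent.Lib.Helper31_UT_BAS3
import Cfsg.Agent.Lib.Helper44_UT_BAS4
import Cfsg.Agent.Lib.Helper42_UT_BAS6
import Cfsg.Agent.Lib.Helper14_PSULocal1

set_option autoImplicit false
set_option linter.unusedSectionVars false
set_option linter.unusedVariables false

/-!
# UTENS package UT-QCOMM (architect helper37), hypothesis form

`qcomm_of`: `M ∩ Q_ℓ = Q_x ⊗ 1` (§3 G1-II (a) of `pending/helper37/UTENS_proof.md`, QCOMM of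
`UTENS_part2.md`) with the statement of `radII_apply` (package UT-ZF) for the vector `x` as a
hypothesis.  The verbatim `qcomm` is in `Helper47_UT_QCOMM`.
-/

namespace Cfsg.Agent.Lib.Helper47_UT_QCOMMaux

open Matrix Module
open Cfsg.Agent.Lib.Helper98_ExtDefs Cfsg.Agent.Lib.Helper97_TensDefs
open Cfsg.Agent.Lib.Helper94_Herm Cfsg.Agent.Lib.Helper13_PSUSimple
open Cfsg.Agent.Lib.Helper94_HermEich
open Cfsg.Agent.Lib.Helper67_UT2Defs Cfsg.Agent.Lib.Helper37_UTDefs
open Cfsg.Agent.Lib.Helper37_UTPairDefs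
open Cfsg.Agent.Lib.Helper17_UT_BAS1 Cfsg.Agent.Lib.Helper44_UT_BAS4
open Cfsg.Agent.Lib.Helper94_Symp

variable {F : Type*} [Field F] {ι κ : Type*} [Fintype ι] [Fintype κ] [DecidableEq ι]
  [DecidableEq κ] {σ : F →+* F}
variable {α : (ι → F) →ₗ[F] (ι → F) →ₛₗ[σ] F} {β : (κ → F) →ₗ[F] (κ → F) →ₛₗ[σ] F}
variable {M : Subgroup (Matrix ι κ F ≃ₗ[F] Matrix ι κ F)}

/-- a vector orthogonal to everything (on the left) is zero -/
theorem eq_zero_of_forall {W : Type*} [AddCommGroup W] [Module F W] {b : W →ₗ[F] W →ₛₗ[σ] F}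
    (hN : NondegOn b ⊤) {v : W} (h : ∀ w, b v w = 0) : v = 0 := by
  by_contra hv
  obtain ⟨y, -, hy⟩ := hN v Submodule.mem_top hv
  exact hy (h y)

/-- two vectors with the same products are equal -/
theorem eq_of_forall {W : Type*} [AddCommGroup W] [Module F W] {b : W →ₗ[F] W →ₛₗ[σ] F}
    (hN : NondegOn b ⊤) {v v' : W} (h : ∀ w, b v w = b v' w) : v = v' := by
  have : v - v' = 0 := eq_zero_of_forall hN (fun w => by
    rw [map_sub, LinearMap.sub_apply, h w, sub_self])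
  exact sub_eq_zero.mp this

theorem ctrA_smul_left (θ : F) (e : ι → F) (X : Matrix ι κ F) :
    ctrA α (θ • e) X = σ θ • ctrA α e X := by
  ext j
  rw [ctrA_apply, Pi.smul_apply, ctrA_apply, map_smulₛₗ, smul_eq_mul]

theorem vecMulVec_inj {x : ι → F} (hx0 : x ≠ 0) {w w' : κ → F}
    (h : vecMulVec x w = vecMulVec x w') : w = w' := by
  obtain ⟨i, hi⟩ : ∃ i, x i ≠ 0 := by
    by_contra hcon
    push Not at hcon
    exact hx0 (funext hcon)
  ext j
  have := congrFun (congrFun h i) j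
  rw [vecMulVec_apply, vecMulVec_apply] at this
  exact mul_left_cancel₀ hi this

/-- double orthogonal of an isotropic vector -/
theorem eq_smul_of_perp (hα : IsHerm α) (hαN : NondegOn α ⊤) {x xs : ι → F}
    (hx : α x x = 0) (hxxs : α x xs = 1) {a : ι → F}
    (h : ∀ e : ι → F, α e x = 0 → α a e = 0) : a = α a xs • x := by
  have hxsx : α xs x = 1 := by rw [hα x xs, hxxs, map_one]
  have key : a - α a xs • x = 0 := by
    apply eq_zero_of_forall hαN
    intro z
    obtain ⟨e, he⟩ : ∃ e : ι → F, e = z - α z x • xs := ⟨_, rfl⟩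
    have hz : z = e + α z x • xs := by rw [he]; abel
    have hex : α e x = 0 := by
      rw [he, map_sub, map_smul, LinearMap.sub_apply, LinearMap.smul_apply, hxsx, smul_eq_mul,
        mul_one, sub_self]
    have h1 : α a e = 0 := h e hex
    have h2 : α x e = 0 := herm_eq_zero hα hex
    have h3 : α (a - α a xs • x) e = 0 := by
      rw [map_sub, map_smul, LinearMap.sub_apply, LinearMap.smul_apply, h1, h2, smul_zero,
        sub_zero]
    have h4 : α (a - α a xs • x) xs = 0 := by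
      rw [map_sub, map_smul, LinearMap.sub_apply, LinearMap.smul_apply, hxxs, smul_eq_mul,
        mul_one, sub_self]
    calc α (a - α a xs • x) z = α (a - α a xs • x) (e + α z x • xs) := by rw [← hz]
      _ = 0 := by rw [map_add, map_smulₛₗ, h3, h4, smul_zero, add_zero]
  exact sub_eq_zero.mp key

/-- a matrix all of whose contractions with `x^⊥` vanish lies in `x ⊗ B` -/
theorem mem_fibB_of_ctrA (hα : IsHerm α) (hαN : NondegOn α ⊤) {x xs : ι → F}
    (hx : α x x = 0) (hxxs : α x xs = 1) {D : Matrix ι κ F}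
    (h : ∀ e : ι → F, α e x = 0 → ctrA α e D = 0) : D ∈ fibB (κ := κ) x := by
  refine ⟨fun j => α (colv D j) xs, ?_⟩
  ext i j
  have h1 : colv D j = α (colv D j) xs • x := by
    apply eq_smul_of_perp hα hαN hx hxxs
    intro e he
    have := congrFun (h e he) j
    rw [ctrA_apply] at this
    exact this
  have h2 := congrFun h1 i
  rw [vecMulVec_apply]
  change colv D j i = _
  rw [h2, Pi.smul_apply, smul_eq_mul, mul_comm]

/-- the Kronecker element `eich α x e γ ⊗ 1` as a map -/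
theorem tmE_eich_apply {x e : ι → F} (hx : α x x = 0) (hex : α e x = 0) (hxe : α x e = 0)
    (γ : F) (X : Matrix ι κ F) :
    tmE (eich α x e γ) (1 : (κ → F) ≃ₗ[F] (κ → F)) X =
      X + vecMulVec e (ctrA α x X) - vecMulVec x (ctrA α e X)
        + γ • vecMulVec x (ctrA α x X) := by
  refine h44_induction (p := fun X => tmE (eich α x e γ) (1 : (κ → F) ≃ₗ[F] (κ → F)) X =
      X + vecMulVec e (ctrA α x X) - vecMulVec x (ctrA α e X)
        + γ • vecMulVec x (ctrA α x X)) ?_ ?_ ?_ X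
  · ext i j
    simp [vecMulVec_apply]
  · intro X Y hX hY
    simp only [map_add, vecMulVec_add, smul_add]
    rw [hX, hY]
    abel
  · intro a y
    rw [tmE_pure, eich_apply α hx hex hxe, ctrA_pure, ctrA_pure]
    ext i j
    simp only [vecMulVec_apply, Matrix.add_apply, Matrix.sub_apply, Matrix.smul_apply,
      Pi.add_apply, Pi.sub_apply, Pi.smul_apply, smul_eq_mul, LinearEquiv.coe_one, id_eq]
    ring

theorem tmE_eich_mem (hB : UTBase α β M) {x e : ι → F} {γ : F} (hγ : γ + σ γ = -(α e e)) :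
    tmE (eich α x e γ) (1 : (κ → F) ≃ₗ[F] (κ → F)) ∈ M := by
  have hE : eich α x e γ ∈ SUg α := Cfsg.Agent.Lib.Helper14_PSULocal1.eich_mem_SUg hB.hα hγ
  rw [mem_SUg] at hE
  apply hB.hN _ _ (isKron_tmE _ _)
  rw [mem_SUg]
  refine ⟨tmE_mem_uG hE.1 (Subgroup.one_mem _), ?_⟩
  rw [det_tmE, hE.2, map_one, one_pow, one_pow, one_mul]

theorem utv_mul_eich {x c : ι → F} (hx : α x x = 0) (hcx : α c x = 0) (hxc : α x c = 0)
    (s γ : F) : utv α x s * eich α x c γ = eich α x c (γ + s) := by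
  ext a : 1
  rw [LinearEquiv.mul_apply, eich_apply α hx hcx hxc, eich_apply α hx hcx hxc, utv_apply α hx]
  simp only [map_add, map_sub, map_smul, LinearMap.add_apply, LinearMap.sub_apply,
    LinearMap.smul_apply, hx, hcx, smul_eq_mul, mul_zero, add_zero, sub_zero]
  module

/-- QCOMM with the statement of `radII_apply` (for `x`) as a hypothesis -/
theorem qcomm_of [Finite F] (hB : UTBase α β M) {x : ι → F} (hx0 : x ≠ 0) (hx : α x x = 0)
    (hrad : ∀ g ∈ M, (∀ X, g X - X ∈ fibB (κ := κ) x) →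
      ∃ s : F, σ s = -s ∧ ∀ X, g X = X + s • nII α x X)
    {h : Matrix ι κ F ≃ₗ[F] Matrix ι κ F} (hh : h ∈ M) (hQ : InQ α x h) :
    ∃ (c : ι → F) (γ : F), α c x = 0 ∧ γ + σ γ = -(α c c) ∧
      h = tmE (eich α x c γ) (1 : (κ → F) ≃ₗ[F] (κ → F)) := by
  have hσ := hB.hσ
  have hα := hB.hα
  have hαN := hB.hαN
  have hβ := hB.hβ
  have hβN := hB.hβN
  rcases isEmpty_or_nonempty κ with hE | ⟨⟨j₀⟩⟩
  · refine ⟨0, 0, by simp, by simp, ?_⟩
    apply LinearEquiv.ext
    intro X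
    exact Subsingleton.elim _ _
  obtain ⟨xs, -, hxs, hxxs⟩ := exists_partner hσ hα hαN (Submodule.mem_top : x ∈ ⊤) hx0 hx
  have hxsx : α xs x = 1 := by rw [hα x xs, hxxs, map_one]
  have hu : h ∈ uG (tf α β) := (mem_SUg.mp (hB.hM hh)).1
  -- `h` preserves the contraction with `x`
  have H3 : ∀ X, ctrA α x (h X) = ctrA α x X := by
    intro X
    apply eq_of_forall hβN
    intro w
    rw [← tf_right_pure', ← tf_right_pure', ← hu X (vecMulVec x w), hQ.1 w]
  -- the operators `Y_e`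
  obtain ⟨Yv, hYv⟩ : ∃ Yv : (ι → F) → (κ → F) → (κ → F),
      ∀ e b, Yv e b = ctrA α xs (h (vecMulVec e b) - vecMulVec e b) := ⟨_, fun _ _ => rfl⟩
  have S4 : ∀ e : ι → F, α e x = 0 → ∀ b : κ → F,
      h (vecMulVec e b) = vecMulVec e b + vecMulVec x (Yv e b) := by
    intro e he b
    obtain ⟨w, hw⟩ := hQ.2 (vecMulVec e b) (by rw [ctrA_pure, he, zero_smul])
    rw [hYv, hw, ctrA_pure, hxxs, one_smul, ← hw]
    abel
  have Yv_smul : ∀ (θ : F) (e : ι → F) (b : κ → F), Yv (θ • e) b = θ • Yv e b := by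
    intro θ e b
    rw [hYv, hYv, smul_vecMulVec, map_smul, ← smul_sub, map_smul]
  -- the adjoint relation
  have H4 : ∀ e : ι → F, α e x = 0 → ∀ (X : Matrix ι κ F) (b : κ → F),
      β (ctrA α e (h X - X)) b = -β (ctrA α x X) (Yv e b) := by
    intro e he X b
    have := hu X (vecMulVec e b)
    rw [S4 e he b, map_add, tf_right_pure', tf_right_pure', tf_right_pure', H3] at this
    rw [map_sub, map_sub, LinearMap.sub_apply]
    linear_combination this
  -- the commutator step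
  have S6 : ∀ e : ι → F, α e x = 0 → ∃ s : F, ∀ b : κ → F,
      Yv e b + ctrA α e (h (vecMulVec xs b) - vecMulVec xs b) = s • b := by
    intro e he
    have hxe : α x e = 0 := herm_eq_zero hα he
    obtain ⟨γ, hγ⟩ := tr_surj hσ (-(α e e)) (by rw [map_neg, herm_self hα])
    obtain ⟨k, hk⟩ : ∃ k : Matrix ι κ F ≃ₗ[F] Matrix ι κ F,
        k = tmE (eich α x e γ) (1 : (κ → F) ≃ₗ[F] (κ → F)) := ⟨_, rfl⟩
    have hkM : k ∈ M := by rw [hk]; exact tmE_eich_mem hB hγ
    have hkX : ∀ X, k X = X + vecMulVec e (ctrA α x X) - vecMulVec x (ctrA α e X)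
        + γ • vecMulVec x (ctrA α x X) := by
      intro X
      rw [hk]
      exact tmE_eich_apply hx he hxe γ X
    have hkc : ∀ X, ctrA α x (k X) = ctrA α x X := by
      intro X
      rw [hkX]
      simp only [map_add, map_sub, map_smul, ctrA_pure, he, hx, zero_smul, smul_zero, add_zero,
        sub_zero]
    have hC : ∀ X, h (k X) - k (h X) =
        vecMulVec x (Yv e (ctrA α x X) + ctrA α e (h X - X)) := by
      intro X
      rw [hkX (h X), H3, hkX X, map_add, map_sub, map_add, map_smul, S4 e he, hQ.1, hQ.1]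
      ext i j
      simp only [vecMulVec_apply, Matrix.add_apply, Matrix.sub_apply, Matrix.smul_apply,
        Pi.add_apply, Pi.sub_apply, map_sub, smul_eq_mul]
      ring
    have hgM : h * k * h⁻¹ * k⁻¹ ∈ M :=
      M.mul_mem (M.mul_mem (M.mul_mem hh hkM) (M.inv_mem hh)) (M.inv_mem hkM)
    have hgY : ∀ X, (h * k * h⁻¹ * k⁻¹) (k (h X)) = h (k X) := by
      intro X
      simp only [LinearEquiv.mul_apply, inv_apply_apply']
    obtain ⟨s, hs, hsX⟩ := hrad _ hgM (by
      intro Y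
      obtain ⟨X, rfl⟩ : ∃ X, Y = k (h X) :=
        ⟨h⁻¹ (k⁻¹ Y), by rw [apply_inv_apply', apply_inv_apply']⟩
      rw [hgY, hC]
      exact ⟨_, rfl⟩)
    refine ⟨s, fun b => ?_⟩
    have h1 := hsX (k (h (vecMulVec xs b)))
    rw [hgY, nII_apply, hkc, H3, ctrA_pure, hxsx, one_smul] at h1
    have h2 := hC (vecMulVec xs b)
    rw [ctrA_pure, hxsx, one_smul] at h2
    apply vecMulVec_inj hx0
    rw [← h2, h1, vecMulVec_smul]
    abel
  -- the operators `Y_e` are scalar
  have S7 : ∀ e : ι → F, α e x = 0 → ∃ y : F, ∀ b : κ → F, Yv e b = y • b := by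
    intro e he
    obtain ⟨θ, hθ⟩ := hσ.ne_id
    obtain ⟨s₁, h1⟩ := S6 e he
    have heθ : α (θ • e) x = 0 := by rw [map_smul, LinearMap.smul_apply, he, smul_zero]
    obtain ⟨s₂, h2⟩ := S6 (θ • e) heθ
    have hne : θ - σ θ ≠ 0 := fun h0 => hθ (sub_eq_zero.mp h0).symm
    refine ⟨(s₂ - σ θ * s₁) / (θ - σ θ), fun b => ?_⟩
    have e1 := h1 b
    have e2 := h2 b
    rw [Yv_smul, ctrA_smul_left] at e2
    have e3 : (θ - σ θ) • Yv e b = (s₂ - σ θ * s₁) • b := by
      have : (θ - σ θ) • Yv e b =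
          (θ • Yv e b + σ θ • ctrA α e (h (vecMulVec xs b) - vecMulVec xs b))
            - σ θ • (Yv e b + ctrA α e (h (vecMulVec xs b) - vecMulVec xs b)) := by module
      rw [this, e2, e1]
      module
    rw [div_eq_inv_mul, mul_smul, ← e3, smul_smul, inv_mul_cancel₀ hne, one_smul]
  -- the vector `c`
  obtain ⟨b₀, hb₀⟩ : ∃ b₀ : κ → F, b₀ = Pi.single j₀ 1 := ⟨_, rfl⟩
  obtain ⟨c, hc⟩ : ∃ c : ι → F, c = colv (h (vecMulVec xs b₀) - vecMulVec xs b₀) j₀ := ⟨_, rfl⟩
  have hcA : ∀ e : ι → F, α c e = ctrA α e (h (vecMulVec xs b₀) - vecMulVec xs b₀) j₀ := by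
    intro e
    rw [ctrA_apply, hc]
  have hcx : α c x = 0 := by
    rw [hcA, map_sub, H3, sub_self]
    rfl
  have hce : ∀ e : ι → F, α e x = 0 → ∀ y : F, (∀ b : κ → F, Yv e b = y • b) →
      α c e = -σ y := by
    intro e he y hy
    have h1 : ctrA α e (h (vecMulVec xs b₀) - vecMulVec xs b₀) = (-σ y) • b₀ := by
      apply eq_of_forall hβN
      intro b
      rw [H4 e he, hy b, ctrA_pure, hxsx, one_smul, map_smulₛₗ, map_smul, LinearMap.smul_apply,
        smul_eq_mul, smul_eq_mul]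
      ring
    rw [hcA, h1, Pi.smul_apply, hb₀, Pi.single_eq_same, smul_eq_mul, mul_one]
  -- the final step
  have hxc : α x c = 0 := herm_eq_zero hα hcx
  obtain ⟨γ₀, hγ₀⟩ := tr_surj hσ (-(α c c)) (by rw [map_neg, herm_self hα])
  obtain ⟨k₀, hk₀⟩ : ∃ k₀ : Matrix ι κ F ≃ₗ[F] Matrix ι κ F,
      k₀ = tmE (eich α x c γ₀) (1 : (κ → F) ≃ₗ[F] (κ → F)) := ⟨_, rfl⟩
  have hk₀M : k₀ ∈ M := by rw [hk₀]; exact tmE_eich_mem hB hγ₀
  have hk₀X : ∀ X, k₀ X = X + vecMulVec c (ctrA α x X) - vecMulVec x (ctrA α c X)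
      + γ₀ • vecMulVec x (ctrA α x X) := by
    intro X
    rw [hk₀]
    exact tmE_eich_apply hx hcx hxc γ₀ X
  have hD : ∀ X, h X - k₀ X ∈ fibB (κ := κ) x := by
    intro X
    have hDX : h X - X - vecMulVec c (ctrA α x X) ∈ fibB (κ := κ) x := by
      apply mem_fibB_of_ctrA hα hαN hx hxxs
      intro e he
      obtain ⟨y, hy⟩ := S7 e he
      have hce' := hce e he y hy
      have h5 : ctrA α e (h X - X) = α c e • ctrA α x X := by
        apply eq_of_forall hβN
        intro b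
        rw [H4 e he X b, hy b, map_smulₛₗ, map_smul, LinearMap.smul_apply, hce', smul_eq_mul,
          smul_eq_mul]
        ring
      rw [map_sub, h5, ctrA_pure, sub_self]
    have hsplit : h X - k₀ X = (h X - X - vecMulVec c (ctrA α x X)) +
        (vecMulVec x (ctrA α c X) - γ₀ • vecMulVec x (ctrA α x X)) := by
      rw [hk₀X]
      abel
    rw [hsplit]
    exact (fibB x).add_mem hDX
      ((fibB x).sub_mem ⟨_, rfl⟩ ((fibB x).smul_mem _ ⟨_, rfl⟩))
  have hh'M : h * k₀⁻¹ ∈ M := M.mul_mem hh (M.inv_mem hk₀M)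
  have hh'Y : ∀ X, (h * k₀⁻¹) (k₀ X) = h X := by
    intro X
    rw [LinearEquiv.mul_apply, inv_apply_apply']
  obtain ⟨s, hs, hsX⟩ := hrad _ hh'M (by
    intro Y
    obtain ⟨X, rfl⟩ : ∃ X, Y = k₀ X := ⟨k₀⁻¹ Y, by rw [apply_inv_apply']⟩
    rw [hh'Y]
    exact hD X)
  refine ⟨c, γ₀ + s, hcx, ?_, ?_⟩
  · rw [map_add, hs]
    linear_combination hγ₀
  · rw [← utv_mul_eich hx hcx hxc s γ₀]
    have hsplit : tmE (utv α x s * eich α x c γ₀) (1 : (κ → F) ≃ₗ[F] (κ → F)) =
        tmE (utv α x s) (1 : (κ → F) ≃ₗ[F] (κ → F)) * k₀ := by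
      rw [hk₀, tmE_mul, mul_one]
    rw [hsplit]
    apply LinearEquiv.ext
    intro X
    rw [LinearEquiv.mul_apply, Cfsg.Agent.Lib.Helper42_UT_BAS6.tmE_utv_left hx, ← hsX, hh'Y]

end Cfsg.Agent.Lib.Helper47_UT_QCOMMaux
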