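import Mathlib
import Cfsg.Agent.Lib.Helper37_UTDefs
import Cfsg.Agent.Lib.Helper37_UTPairDefs
import Cfsg.Agent.Lib.Helper47_UT_QCOMMaux
import Cfsg.Agent.Lib.Helper53_UT_ZF

set_option autoImplicit false
set_option linter.unusedSectionVars false
set_option linter.unusedVariables false

/-!
# UTENS package UT-QCOMM (architect helper37): `qcomm`, `M ∩ Q_ℓ = Q_x ⊗ 1`

`Helper47_UT_QCOMMaux.qcomm_of` + `radII_apply` of package UT-ZF (helper53).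
-/

namespace Cfsg.Agent.Lib.Helper47_UT_QCOMM

open Matrix Module
open Cfsg.Agent.Lib.Helper98_ExtDefs Cfsg.Agent.Lib.Helper97_TensDefs
open Cfsg.Agent.Lib.Helper94_Herm Cfsg.Agent.Lib.Helper13_PSUSimple
open Cfsg.Agent.Lib.Helper94_HermEich
open Cfsg.Agent.Lib.Helper67_UT2Defs Cfsg.Agent.Lib.Helper37_UTDefs
open Cfsg.Agent.Lib.Helper37_UTPairDefs

variable {F : Type*} [Field F] {ι κ : Type*} [Fintype ι] [Fintype κ] [DecidableEq ι]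
  [DecidableEq κ] {σ : F →+* F}
variable {α : (ι → F) →ₗ[F] (ι → F) →ₛₗ[σ] F} {β : (κ → F) →ₗ[F] (κ → F) →ₛₗ[σ] F}
variable {M : Subgroup (Matrix ι κ F ≃ₗ[F] Matrix ι κ F)}

/-! ## QCOMM (L): `M ∩ Q_ℓ = Q_x ⊗ 1` -/

theorem qcomm [Finite F] (hB : UTBase α β M) (hII : RadStdII α M) {x : ι → F} (hx0 : x ≠ 0)
    (hx : α x x = 0) {h : Matrix ι κ F ≃ₗ[F] Matrix ι κ F} (hh : h ∈ M) (hQ : InQ α x h) :
    ∃ (c : ι → F) (γ : F), α c x = 0 ∧ γ + σ γ = -(α c c) ∧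
      h = tmE (eich α x c γ) (1 : (κ → F) ≃ₗ[F] (κ → F)) :=
  Cfsg.Agent.Lib.Helper47_UT_QCOMMaux.qcomm_of hB hx0 hx
    (fun g hg hgX => Cfsg.Agent.Lib.Helper53_UT_ZF.radII_apply hB hII hx0 hx hg hgX) hh hQ

end Cfsg.Agent.Lib.Helper47_UT_QCOMM
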