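import Mathlib
import Cfsg.Agent.Lib.Helper97_UExtDefs
import Cfsg.Agent.Lib.Helper94_UDDefs
import Cfsg.Agent.Lib.Helper98_ExtMult

set_option autoImplicit false
set_option linter.unusedSectionVars false
set_option linter.unusedVariables false

/-!
# UEXT2 package HSING (architect helper97; formalised by helper12)

Chevalley–Warning for a pencil of skew-hermitian forms: an additive group `𝒜` of skew-hermitian
forms on a `k`-dimensional space over a finite field `F` with involution `σ`, closed under the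
scalars of the fixed field `F₀`, with `|𝒜|² > |F|^k`, contains a non-zero degenerate form.
-/

namespace Cfsg.Agent.Lib.Helper12_UX_HSING

open Module
open Cfsg.Agent.Lib.Helper94_Symp Cfsg.Agent.Lib.Helper94_Herm Cfsg.Agent.Lib.Helper13_PSUSimple
  Cfsg.Agent.Lib.Helper67_Tens2Defs Cfsg.Agent.Lib.Helper67_UT2Defs Cfsg.Agent.Lib.Helper98_ExtDefs
  Cfsg.Agent.Lib.Helper94_FrmDefs Cfsg.Agent.Lib.Helper94_UDDefs Cfsg.Agent.Lib.Helper97_UExtDefs

section core

open Matrix

/-- Chevalley–Warning for a "hermitian" matrix of linear forms: if `σ (c i j l) = c i l j` then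
`det (Σ x_i c_i)` is a polynomial of degree `≤ k` with coefficients in the fixed field of `σ`,
so it has a non-trivial zero with coordinates in the fixed field as soon as `k < m`. -/
theorem exists_ne_zero_det_eq_zero_herm {F : Type*} [Field F] [Fintype F] (σ : F →+* F)
    {k m : ℕ} (hk : 0 < k) (hkm : k < m) (c : Fin m → Fin k → Fin k → F)
    (hc : ∀ i j l, σ (c i j l) = c i l j) :
    ∃ x : Fin m → σ.eqLocusField (RingHom.id F), x ≠ 0 ∧
      (Matrix.of fun j l => ∑ i, c i j l * (x i : F)).det = 0 := by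
  classical
  have hFin0 : Fintype (σ.eqLocusField (RingHom.id F)) := Fintype.ofFinite _
  let PA : Matrix (Fin k) (Fin k) (MvPolynomial (Fin m) F) :=
    Matrix.of fun j l => ∑ i, MvPolynomial.C (c i j l) * MvPolynomial.X i
  have hev : ∀ x : Fin m → F,
      MvPolynomial.eval x PA.det = (Matrix.of fun j l => ∑ i, c i j l * x i).det := by
    intro x
    rw [RingHom.map_det]
    congr 1
    ext j l
    simp [PA, map_sum]
  have hentry : ∀ j l, (PA j l).totalDegree ≤ 1 := by
    intro j l
    show (∑ i, MvPolynomial.C (c i j l) * MvPolynomial.X i :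
      MvPolynomial (Fin m) F).totalDegree ≤ 1
    refine (MvPolynomial.totalDegree_finsetSum _ _).trans ?_
    apply Finset.sup_le
    intro i _
    refine (MvPolynomial.totalDegree_mul _ _).trans ?_
    rw [MvPolynomial.totalDegree_C, MvPolynomial.totalDegree_X]
  have hdeg : PA.det.totalDegree ≤ k := by
    rw [Matrix.det_apply]
    refine (MvPolynomial.totalDegree_finsetSum _ _).trans ?_
    apply Finset.sup_le
    intro τ _
    refine (MvPolynomial.totalDegree_smul_le _ _).trans ?_
    refine (MvPolynomial.totalDegree_finsetProd _ _).trans ?_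
    calc ∑ i : Fin k, (PA (τ i) i).totalDegree ≤ ∑ i : Fin k, 1 :=
          Finset.sum_le_sum fun i _ => hentry _ _
      _ = k := by simp
  have hfix : MvPolynomial.map σ PA.det = PA.det := by
    rw [RingHom.map_det]
    have hT : (MvPolynomial.map σ).mapMatrix PA = PAᵀ := by
      ext j l
      simp only [RingHom.mapMatrix_apply, Matrix.map_apply, Matrix.transpose_apply, PA,
        Matrix.of_apply, map_sum, map_mul, MvPolynomial.map_C, MvPolynomial.map_X, hc]
    rw [hT, Matrix.det_transpose]
  obtain ⟨p0, hp0⟩ : ∃ p0 : MvPolynomial (Fin m) (σ.eqLocusField (RingHom.id F)),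
      MvPolynomial.map (σ.eqLocusField (RingHom.id F)).subtype p0 = PA.det := by
    have hmem : PA.det ∈ Set.range
        (MvPolynomial.map (σ := Fin m) (σ.eqLocusField (RingHom.id F)).subtype) := by
      rw [MvPolynomial.mem_range_map_iff_coeffs_subset]
      intro a ha
      rw [Finset.mem_coe, MvPolynomial.mem_coeffs_iff] at ha
      obtain ⟨d, -, rfl⟩ := ha
      refine ⟨⟨MvPolynomial.coeff d PA.det, ?_⟩, rfl⟩
      rw [RingHom.mem_eqLocusField, RingHom.id_apply, ← MvPolynomial.coeff_map, hfix]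
    exact hmem
  have hdeg0 : p0.totalDegree ≤ k := by
    have hsupp : p0.support = PA.det.support := by
      rw [← hp0, MvPolynomial.support_map_of_injective _ Subtype.val_injective]
    have htd : p0.totalDegree = PA.det.totalDegree := by
      unfold MvPolynomial.totalDegree
      rw [hsupp]
    rw [htd]
    exact hdeg
  have hev0 : ∀ x : Fin m → σ.eqLocusField (RingHom.id F),
      ((MvPolynomial.eval x p0 : σ.eqLocusField (RingHom.id F)) : F) =
        MvPolynomial.eval (fun i => (x i : F)) PA.det := by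
    intro x
    rw [← hp0, MvPolynomial.eval_map]
    exact MvPolynomial.eval₂_comp (σ.eqLocusField (RingHom.id F)).subtype x p0
  have hp := char_dvd_card_solutions (ringChar F) (f := p0)
    (by rw [Fintype.card_fin]; omega)
  have hprime : (ringChar F).Prime :=
    CharP.char_is_prime (σ.eqLocusField (RingHom.id F)) (ringChar F)
  have hne : Nonempty (Fin k) := ⟨⟨0, hk⟩⟩
  have h0 : MvPolynomial.eval (0 : Fin m → σ.eqLocusField (RingHom.id F)) p0 = 0 := by
    apply Subtype.val_injective
    rw [hev0, hev]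
    have : (Matrix.of fun j l => ∑ i, c i j l *
        (((0 : Fin m → σ.eqLocusField (RingHom.id F)) i : σ.eqLocusField (RingHom.id F)) : F))
        = (0 : Matrix (Fin k) (Fin k) F) := by
      ext j l; simp
    rw [this, Matrix.det_zero]
    rfl
  by_contra hcon
  push Not at hcon
  have hcard : Fintype.card { x : Fin m → σ.eqLocusField (RingHom.id F) //
      MvPolynomial.eval x p0 = 0 } = 1 := by
    rw [Fintype.card_eq_one_iff]
    refine ⟨⟨0, h0⟩, fun ⟨x, hx⟩ => ?_⟩
    by_contra hne'
    apply hcon x (fun h => hne' (Subtype.ext h))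
    rw [← hev, ← hev0, hx]
    rfl
  rw [hcard] at hp
  exact hprime.one_lt.ne' (Nat.dvd_one.mp hp)

end core

variable {F K : Type*} [Field F] [Field K] [Algebra F K] [Finite F] [Finite K]
  {σ : F →+* F} {τ : K →+* K}

/-- the fixed field has at most `√|F|` elements -/
theorem card_fix_sq_le (hσ : Invol σ) :
    Nat.card (σ.eqLocusField (RingHom.id F)) ^ 2 ≤ Nat.card F := by
  obtain ⟨θ, hθ⟩ := hσ.ne_id
  have hinj : Function.Injective
      (fun rs : (σ.eqLocusField (RingHom.id F)) × (σ.eqLocusField (RingHom.id F)) =>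
        (rs.1 : F) + (rs.2 : F) * θ) := by
    rintro ⟨r, s⟩ ⟨r', s'⟩ h
    simp only at h
    by_cases hs : s = s'
    · subst hs
      have : (r : F) = r' := by linear_combination h
      rw [Subtype.ext this]
    · exfalso
      apply hθ
      have hs' : (s : F) - (s' : F) ≠ 0 := by
        intro h0
        exact hs (Subtype.ext (sub_eq_zero.mp h0))
      have hθeq : θ = ((r' : F) - r) / ((s : F) - s') := by
        rw [eq_div_iff hs']
        linear_combination h
      have hr : σ (r : F) = r := r.2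
      have hr' : σ (r' : F) = r' := r'.2
      have hs1 : σ (s : F) = s := s.2
      have hs1' : σ (s' : F) = s' := s'.2
      rw [hθeq, map_div₀, map_sub, map_sub, hr, hr', hs1, hs1']
  have := Nat.card_le_card_of_injective _ hinj
  rwa [Nat.card_prod, ← pow_two] at this

/-- an additive group of forms closed under the scalars of the fixed field, as a vector space over
the fixed field -/
@[reducible] noncomputable def modA {P : Type*} [AddCommGroup P] [Module F P]
    (A : AddSubgroup (P →ₗ[F] P →ₛₗ[σ] F)) (hsm : ∀ s ∈ A, ∀ c : F, σ c = c → c • s ∈ A) :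
    Module (σ.eqLocusField (RingHom.id F)) A where
  smul c s := ⟨(c : F) • s.1, hsm s.1 s.2 c c.2⟩
  one_smul s := Subtype.ext (one_smul F s.1)
  mul_smul c d s := Subtype.ext (mul_smul (c : F) (d : F) s.1)
  smul_zero c := Subtype.ext (smul_zero (c : F))
  smul_add c s t := Subtype.ext (smul_add (c : F) s.1 t.1)
  add_smul c d s := Subtype.ext (add_smul (c : F) (d : F) s.1)
  zero_smul s := Subtype.ext (zero_smul F s.1)

/-- PKG HSING (L): Chevalley–Warning for a pencil of skew-hermitian forms -/
theorem hsing (hσ : Invol σ) {P : Type*} [AddCommGroup P] [Module F P] [FiniteDimensional F P]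
    (A : AddSubgroup (P →ₗ[F] P →ₛₗ[σ] F))
    (hsk : ∀ s ∈ A, ∀ x y, s y x = -σ (s x y))
    (hsm : ∀ s ∈ A, ∀ c : F, σ c = c → c • s ∈ A)
    (hcard : Nat.card F ^ finrank F P < Nat.card A ^ 2) :
    ∃ s ∈ A, s ≠ 0 ∧ ∃ x : P, x ≠ 0 ∧ ∀ y, s x y = 0 := by
  classical
  have hFin : Fintype F := Fintype.ofFinite F
  have hPfin : Finite P := Module.finite_of_finite F
  have hformsfin : Finite (P →ₗ[F] P →ₛₗ[σ] F) :=
    Finite.of_injective (fun s : P →ₗ[F] P →ₛₗ[σ] F => fun x y => s x y)
      (fun s t h => LinearMap.ext₂ (fun x y => congrFun (congrFun h x) y))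
  -- `A` as a vector space over the fixed field
  let instMod : Module (σ.eqLocusField (RingHom.id F)) A := modA A hsm
  have hsmul : ∀ (c : σ.eqLocusField (RingHom.id F)) (s : A),
      ((c • s : A) : P →ₗ[F] P →ₛₗ[σ] F) = (c : F) • (s : P →ₗ[F] P →ₛₗ[σ] F) := fun c s => rfl
  have hcardpow : Nat.card A =
      Nat.card (σ.eqLocusField (RingHom.id F)) ^ finrank (σ.eqLocusField (RingHom.id F)) A :=
    Module.natCard_eq_pow_finrank (K := σ.eqLocusField (RingHom.id F)) (V := A)
  obtain ⟨m, hm⟩ : ∃ m : ℕ, m = finrank (σ.eqLocusField (RingHom.id F)) A := ⟨_, rfl⟩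
  obtain ⟨k, hk⟩ : ∃ k : ℕ, k = finrank F P := ⟨_, rfl⟩
  have bA : Basis (Fin m) (σ.eqLocusField (RingHom.id F)) A := by
    rw [hm]
    exact Module.finBasis _ _
  have bP : Basis (Fin k) F P := by
    rw [hk]
    exact Module.finBasis _ _
  -- `k < m`
  have hkm : k < m := by
    have h1 := card_fix_sq_le hσ
    have h2 : 1 < Nat.card (σ.eqLocusField (RingHom.id F)) := Finite.one_lt_card
    rw [hcardpow, ← hm, ← hk] at hcard
    have h3 : (Nat.card (σ.eqLocusField (RingHom.id F)) ^ 2) ^ k ≤ Nat.card F ^ k :=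
      Nat.pow_le_pow_left h1 k
    have h4 : Nat.card (σ.eqLocusField (RingHom.id F)) ^ (2 * k) <
        Nat.card (σ.eqLocusField (RingHom.id F)) ^ (m * 2) := by
      rw [pow_mul, pow_mul]
      exact lt_of_le_of_lt h3 hcard
    have h5 := (Nat.pow_lt_pow_iff_right h2).mp h4
    omega
  -- `0 < k`
  have hk0 : 0 < k := by
    rcases Nat.eq_zero_or_pos k with h0 | h0
    · exfalso
      have hsub : Subsingleton P := by
        rw [← Module.finrank_zero_iff (R := F), ← hk, h0]
      have hb := bA.ne_zero ⟨0, lt_of_le_of_lt (Nat.zero_le k) hkm⟩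
      apply hb
      apply Subtype.ext
      apply LinearMap.ext₂
      intro x y
      rw [Subsingleton.elim x 0]
      simp
    · exact h0
  obtain ⟨ω, hω0, hω⟩ := exists_skew hσ
  -- the coefficients
  obtain ⟨c, hcdef⟩ : ∃ c : Fin m → Fin k → Fin k → F,
      c = fun i j l => ω * ((bA i : A) : P →ₗ[F] P →ₛₗ[σ] F) (bP j) (bP l) := ⟨_, rfl⟩
  have hc : ∀ i j l, σ (c i j l) = c i l j := by
    intro i j l
    rw [hcdef]
    simp only
    have h1 := hsk _ (bA i).2 (bP j) (bP l)
    rw [map_mul, hω, h1]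
    ring
  obtain ⟨x, hx0, hdet⟩ := exists_ne_zero_det_eq_zero_herm σ hk0 hkm c hc
  -- the form
  obtain ⟨s0, hs0def⟩ : ∃ s0 : A, s0 = bA.equivFun.symm x := ⟨_, rfl⟩
  have hs0ne : s0 ≠ 0 := by
    rw [hs0def]
    intro h
    apply hx0
    have := bA.equivFun.symm.injective (h.trans (map_zero _).symm)
    exact this
  have hs0apply : ∀ u v : P, (s0 : P →ₗ[F] P →ₛₗ[σ] F) u v =
      ∑ i, (x i : F) * ((bA i : A) : P →ₗ[F] P →ₛₗ[σ] F) u v := by
    intro u v
    rw [hs0def, Basis.equivFun_symm_apply, AddSubmonoidClass.coe_finsetSum, LinearMap.sum_apply,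
      LinearMap.sum_apply]
    refine Finset.sum_congr rfl fun i _ => ?_
    rw [hsmul, LinearMap.smul_apply, LinearMap.smul_apply, smul_eq_mul]
  have hG : (Matrix.of fun j l => ∑ i, c i j l * (x i : F)) =
      Matrix.of fun j l => ω * (s0 : P →ₗ[F] P →ₛₗ[σ] F) (bP j) (bP l) := by
    ext j l
    simp only [Matrix.of_apply]
    rw [hs0apply, Finset.mul_sum, hcdef]
    refine Finset.sum_congr rfl fun i _ => ?_
    ring
  rw [hG] at hdet
  obtain ⟨v, hv0, hv⟩ := Matrix.exists_vecMul_eq_zero_iff.mpr hdet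
  obtain ⟨xP, hxP⟩ : ∃ xP : P, xP = bP.equivFun.symm v := ⟨_, rfl⟩
  have hxP0 : xP ≠ 0 := by
    rw [hxP]
    intro h
    apply hv0
    exact bP.equivFun.symm.injective (h.trans (map_zero _).symm)
  refine ⟨(s0 : P →ₗ[F] P →ₛₗ[σ] F), s0.2, ?_, xP, hxP0, ?_⟩
  · intro h
    exact hs0ne (Subtype.ext h)
  · have hbasis : ∀ l, (s0 : P →ₗ[F] P →ₛₗ[σ] F) xP (bP l) = 0 := by
      intro l
      have h1 : (s0 : P →ₗ[F] P →ₛₗ[σ] F) xP (bP l) =
          ∑ j, v j * (s0 : P →ₗ[F] P →ₛₗ[σ] F) (bP j) (bP l) := by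
        rw [hxP, Basis.equivFun_symm_apply, map_sum, LinearMap.sum_apply]
        refine Finset.sum_congr rfl fun j _ => ?_
        rw [map_smul, LinearMap.smul_apply, smul_eq_mul]
      have h2 := congrFun hv l
      simp only [Matrix.vecMul, dotProduct, Matrix.of_apply, Pi.zero_apply] at h2
      have h3 : ω * (s0 : P →ₗ[F] P →ₛₗ[σ] F) xP (bP l) = 0 := by
        rw [h1, Finset.mul_sum, ← h2]
        refine Finset.sum_congr rfl fun j _ => ?_
        ring
      rcases mul_eq_zero.mp h3 with h | h
      · exact absurd h hω0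
      · exact h
    have hzero : (s0 : P →ₗ[F] P →ₛₗ[σ] F) xP = 0 := by
      apply bP.ext
      intro l
      rw [hbasis l, LinearMap.zero_apply]
    intro y
    rw [hzero, LinearMap.zero_apply]

end Cfsg.Agent.Lib.Helper12_UX_HSING
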