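import Mathlib
import Cfsg.Agent.Lib.Helper98_ExtDefs

set_option autoImplicit false

/-!
# S5664 (normaliser of an extension field of prime degree in `Sp_{2m}(q)`): shared definitions

Abstract setting (extends `Helper98_ExtDefs`): `F ⊆ K` finite fields, `V` a finite-dimensional
`K`-space, `B` a non-degenerate alternating `K`-bilinear form on `V`, `fF B = Tr_{K/F} ∘ B` the
induced alternating `F`-form, `M ≤ GL_F(V) = (V ≃ₗ[F] V)`.

* `fF F B x y`      : `Tr_{K/F} (B x y)`.
* `MSp F B M`       : every element of `M` preserves `fF F B`.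
* `SpHyp F B M`     : `M` contains every `K`-linear isometry of `B` (the group `Sp(V, B)`).
* `HasFtv F B M`    : `M` contains a non-trivial `F`-transvection `x ↦ x + a f(x,v) v`.
* `AllFtv F B M`    : `M` contains all of them.
* `Dich F K V M y v₁ δ` : the dichotomy produced by the maximal-intersection argument.
-/

namespace Cfsg.Agent.Lib.Helper29_SpExtDefs

open Cfsg.Agent.Lib.Helper98_ExtDefs

variable (F : Type*) {K V : Type*} [Field F] [Field K] [Algebra F K]
  [AddCommGroup V] [Module F V] [Module K V] [IsScalarTower F K V]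

/-- the `F`-valued form `Tr_{K/F} ∘ B` -/
noncomputable def fF (B : LinearMap.BilinForm K V) (x y : V) : F := Algebra.trace F K (B x y)

/-- every element of `M` preserves `fF F B` -/
def MSp (B : LinearMap.BilinForm K V) (M : Subgroup (V ≃ₗ[F] V)) : Prop :=
  ∀ g ∈ M, ∀ x y : V, fF F B (g x) (g y) = fF F B x y

/-- `M` contains every `K`-linear isometry of `B` -/
def SpHyp (B : LinearMap.BilinForm K V) (M : Subgroup (V ≃ₗ[F] V)) : Prop :=
  ∀ g : V ≃ₗ[K] V, (∀ x y : V, B (g x) (g y) = B x y) → HasMap M (fun x => g x)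

/-- `M` contains a non-trivial `F`-transvection -/
def HasFtv (B : LinearMap.BilinForm K V) (M : Subgroup (V ≃ₗ[F] V)) : Prop :=
  ∃ (a : F) (v : V), a ≠ 0 ∧ v ≠ 0 ∧ HasMap M (fun x => x + (a * fF F B x v) • v)

/-- `M` contains all `F`-transvections -/
def AllFtv (B : LinearMap.BilinForm K V) (M : Subgroup (V ≃ₗ[F] V)) : Prop :=
  ∀ (a : F) (v : V), HasMap M (fun x => x + (a * fF F B x v) • v)

/-- the shape of the work-horse lemma LEMX: for `e, d ∈ K δ ∩ t'` and `s ∈ F` the map
`x ↦ x + f(x, d + s u₀) e + f(x, e) (d + s u₀) + s f(x, e) e` is induced by an element of `M` -/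
def LemX (B : LinearMap.BilinForm K V) (M : Subgroup (V ≃ₗ[F] V)) (y : V ≃ₗ[F] V) (v₁ δ u₀ : V) :
    Prop :=
  ∀ e d : V, e ∈ kline F K V δ ⊓ tsp F K V y v₁ → d ∈ kline F K V δ ⊓ tsp F K V y v₁ → ∀ s : F,
    HasMap M (fun x => x + fF F B x (d + s • u₀) • e + fF F B x e • (d + s • u₀)
      + (s * fF F B x e) • e)

variable (K V)

/-- The dichotomy given by the maximal-intersection argument for `t' = y (K v₁)` and `δ ∈ t'`:
an element of `M` fixing `K δ ∩ t'` pointwise either stabilises `t'` or maps no vector of `t'`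
into `t' \ K δ`. -/
def Dich (M : Subgroup (V ≃ₗ[F] V)) (y : V ≃ₗ[F] V) (v₁ δ : V) : Prop :=
  ∀ x ∈ M, (∀ u ∈ kline F K V δ ⊓ tsp F K V y v₁, x u = u) →
    (∀ u ∈ tsp F K V y v₁, x u ∈ tsp F K V y v₁) ∨
    (∀ u ∈ tsp F K V y v₁, x u ∈ tsp F K V y v₁ → x u ∈ kline F K V δ)

end Cfsg.Agent.Lib.Helper29_SpExtDefs
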