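import Mathlib
import Cfsg.Agent.Lib.Helper97_UExtDefs
import Cfsg.Agent.Lib.Helper98_ExtDefs
import Cfsg.Agent.Lib.Helper29_SpExtDefs
import Cfsg.Agent.Lib.Helper94_UDDefs
import Cfsg.Agent.Lib.Helper94_HermEich
import Cfsg.Agent.Lib.Helper14_PSULocal1

set_option autoImplicit false
set_option linter.unusedSectionVars false
set_option linter.unusedVariables false

/-!
# The normaliser of an extension field of prime degree `r` in `SU_n(q)`, `dim_K V = n / r ≥ 3`:
shared definitions (helper54, project UEXTm)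

Abstract setting: `F` a finite field with an involution `σ` (`Helper94_Herm.Invol σ`), `K ⊇ F` a
finite field with a ring involution `τ` extending `σ` (`Helper97_UExtDefs.TauExt σ τ`), `V` a
finite-dimensional `K`-space regarded as an `F`-space (`IsScalarTower F K V`),
`B : V →ₗ[K] V →ₛₗ[τ] K` a nondegenerate `τ`-hermitian form and `trF h B = Tr_{K/F} ∘ B` the induced
`σ`-hermitian `F`-form.  Subgroups of `SU(V, trF h B)` are subgroups of `V ≃ₗ[F] V`.

Reused: `kline`, `tsp`, `IsSemilin`, `HasMap` of `Helper98_ExtDefs`; `Dich` of `Helper29_SpExtDefs`;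
`utv`, `uG`, `IsHerm`, `NondegOn` of `Helper94_Herm` (used over `K` for `B` and over `F` for
`trF h B`); `eich` of `Helper94_HermEich`; `SUg` of `Helper13_PSUSimple`; `UU` of `Helper94_FrmDefs`.

* `trF h B`          : the `F`-form `Tr_{K/F} ∘ B`.
* `HypU h B M`       : `M ≤ uG (trF h B)` and `M` contains (the restriction of scalars of) `SUg B`.
* `CfgU B M y v₁ δ u₀`: the configuration `t = y (K v₁) ⊆ K δ + F u₀`, `δ, u₀ ∈ t`, `u₀ ∉ K δ`,
                       `v₁`, `δ` isotropic for `B`.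
* `HasTvU h B M`     : `M` contains a nontrivial unitary `F`-transvection with `B`-isotropic centre.
-/

namespace Cfsg.Agent.Lib.Helper54_UXmDefs

open Module
open Cfsg.Agent.Lib.Helper94_Symp Cfsg.Agent.Lib.Helper94_Herm Cfsg.Agent.Lib.Helper13_PSUSimple
  Cfsg.Agent.Lib.Helper98_ExtDefs Cfsg.Agent.Lib.Helper97_UExtDefs
  Cfsg.Agent.Lib.Helper29_SpExtDefs

variable {F K V : Type*} [Field F] [Field K] [Algebra F K] [AddCommGroup V] [Module F V]
  [Module K V] [IsScalarTower F K V] {σ : F →+* F} {τ : K →+* K}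

/-- the `σ`-hermitian `F`-form `Tr_{K/F} ∘ B` -/
noncomputable def trF (h : TauExt σ τ) (B : V →ₗ[K] V →ₛₗ[τ] K) : V →ₗ[F] V →ₛₗ[σ] F :=
  LinearMap.mk₂'ₛₗ (RingHom.id F) σ (fun x y => Algebra.trace F K (B x y))
    (by intro x x' y; simp only [map_add, LinearMap.add_apply])
    (by
      intro c x y
      rw [← algebraMap_smul K c x, map_smul, LinearMap.smul_apply, smul_eq_mul,
        ← Algebra.smul_def, map_smul, RingHom.id_apply])
    (by intro x y y'; simp only [map_add])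
    (by
      intro c x y
      rw [← algebraMap_smul K c y, map_smulₛₗ, smul_eq_mul, h.ext, ← Algebra.smul_def, map_smul])

@[simp] theorem trF_apply (h : TauExt σ τ) (B : V →ₗ[K] V →ₛₗ[τ] K) (x y : V) :
    trF h B x y = Algebra.trace F K (B x y) := rfl

/-- `M` consists of isometries of `Tr ∘ B` and contains the special unitary group of `B` -/
structure HypU (h : TauExt σ τ) (B : V →ₗ[K] V →ₛₗ[τ] K) (M : Subgroup (V ≃ₗ[F] V)) : Prop where
  le : M ≤ uG (trF h B)
  su : ∀ g : V ≃ₗ[K] V, g ∈ SUg B → g.restrictScalars F ∈ M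

/-- The configuration: `t = y (K v₁)` with `y ∈ M` and `v₁` isotropic contains the isotropic vector
`δ ≠ 0` and `u₀ ∉ K δ`, and `t ⊆ K δ + F u₀`. -/
structure CfgU (B : V →ₗ[K] V →ₛₗ[τ] K) (M : Subgroup (V ≃ₗ[F] V)) (y : V ≃ₗ[F] V)
    (v₁ δ u₀ : V) : Prop where
  hy : y ∈ M
  hv₁ : v₁ ≠ 0
  hv₁i : B v₁ v₁ = 0
  hδ : δ ≠ 0
  hδi : B δ δ = 0
  hδt : δ ∈ tsp F K V y v₁
  hu₀t : u₀ ∈ tsp F K V y v₁
  hu₀ : u₀ ∉ kline F K V δ
  hle : tsp F K V y v₁ ≤ kline F K V δ ⊔ Submodule.span F {u₀}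

/-- `M` contains a nontrivial unitary `F`-transvection whose centre is `B`-isotropic -/
def HasTvU (h : TauExt σ τ) (B : V →ₗ[K] V →ₛₗ[τ] K) (M : Subgroup (V ≃ₗ[F] V)) : Prop :=
  ∃ (e : V) (c : F), e ≠ 0 ∧ B e e = 0 ∧ c ≠ 0 ∧ σ c = -c ∧ utv (trF h B) e c ∈ M

end Cfsg.Agent.Lib.Helper54_UXmDefs
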