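import Mathlib
import Cfsg.Agent.Lib.Helper98_ExtDefs

/-!
S5886 package S5b (architect helper98): pure linear algebra, `[K : F]` prime.
If `t` is an `F`-subspace of `V` of `F`-dimension `[K : F]` containing `δ ≠ 0`, different from the
`K`-line `K δ`, and satisfying the dichotomy produced by the maximal-intersection argument, then
`t ⊆ K δ + F u₀` for some `u₀ ∈ t` outside `K δ`.
-/

set_option autoImplicit false

open Cfsg.Agent.Lib.Helper98_ExtDefs

namespace Cfsg.Agent.Lib.Helper59_Ext_S5b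

variable {F K V : Type*} [Field F] [Field K] [Algebra F K] [AddCommGroup V] [Module F V]
  [Module K V] [IsScalarTower F K V] [Finite F] [Finite K] [Module.Finite K V]

/-- the `F`-linear map `κ ↦ κ • δ` -/
def smulMap (F : Type*) {K V : Type*} [Field F] [Field K] [Algebra F K] [AddCommGroup V]
    [Module F V] [Module K V] [IsScalarTower F K V] (δ : V) : K →ₗ[F] V :=
  (LinearMap.toSpanSingleton K V δ).restrictScalars F

omit [Finite F] [Finite K] [Module.Finite K V] in
theorem smulMap_apply (δ : V) (κ : K) : smulMap F δ κ = κ • δ := rfl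

omit [Finite F] [Finite K] [Module.Finite K V] in
theorem smulMap_injective {δ : V} (hδ : δ ≠ 0) : Function.Injective (smulMap F (K := K) δ) := by
  intro a b hab
  simp only [smulMap_apply] at hab
  exact smul_left_injective K hδ hab

omit [Finite F] [Finite K] [Module.Finite K V] in
theorem range_smulMap (δ : V) : LinearMap.range (smulMap F (K := K) δ) = kline F K V δ := by
  ext x
  rw [LinearMap.mem_range, mem_kline]
  rfl

omit [Finite F] [Finite K] [Module.Finite K V] in
theorem finrank_kline {δ : V} (hδ : δ ≠ 0) :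
    Module.finrank F (kline F K V δ) = Module.finrank F K := by
  rw [← range_smulMap, LinearMap.finrank_range_of_inj (smulMap_injective hδ)]

omit [Finite F] [Finite K] [Module.Finite K V] [Algebra F K] [Module F V] [IsScalarTower F K V]
  [Field F] in
/-- a `K`-linear functional vanishing on `W` with a prescribed value at `x ∉ W` -/
theorem exists_functional (W : Submodule K V) (x : V) (hx : x ∉ W) (c : K) :
    ∃ χ : V →ₗ[K] K, (∀ w ∈ W, χ w = 0) ∧ χ x = c := by
  obtain ⟨f, hfx, hf⟩ := Submodule.exists_dual_map_eq_bot_of_notMem hx inferInstance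
  refine ⟨(c / f x) • f, ?_, ?_⟩
  · intro w hw
    have : f w ∈ W.map f := Submodule.mem_map_of_mem hw
    rw [hf, Submodule.mem_bot] at this
    rw [LinearMap.smul_apply, this, smul_zero]
  · rw [LinearMap.smul_apply, smul_eq_mul, div_mul_cancel₀ _ hfx]

/-- the multiplier algebra of an `F`-subspace `D` of `K` -/
def multAlg (D : Submodule F K) : Subalgebra F K where
  carrier := {l | ∀ c ∈ D, l * c ∈ D}
  mul_mem' := by
    intro a b ha hb c hc
    rw [mul_assoc]
    exact ha _ (hb _ hc)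
  add_mem' := by
    intro a b ha hb c hc
    rw [add_mul]
    exact D.add_mem (ha _ hc) (hb _ hc)
  algebraMap_mem' := by
    intro r c hc
    rw [← Algebra.smul_def]
    exact D.smul_mem r hc

theorem S5b (hr : (Module.finrank F K).Prime) (δ : V) (hδ : δ ≠ 0) (t : Submodule F V)
    (hfin : Module.finrank F t = Module.finrank F K) (hδt : δ ∈ t) (hne : t ≠ kline F K V δ)
    (hdich : ∀ χ : V →ₗ[K] K, χ δ = 0 →
      (∀ u ∈ t, χ u • δ ∈ t) ∨ (∀ u ∈ t, χ u • δ ∈ t → u ∈ kline F K V δ)) :
    ∃ u₀ ∈ t, u₀ ∉ kline F K V δ ∧ t ≤ kline F K V δ ⊔ Submodule.span F {u₀} := by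
  classical
  have : Finite V := Module.finite_of_finite K
  have hfinl : Module.finrank F (kline F K V δ) = Module.finrank F K := finrank_kline hδ
  -- `t ⊄ K δ`
  have hnle : ¬ t ≤ kline F K V δ := by
    intro hle
    exact hne (Submodule.eq_of_le_of_finrank_eq hle (hfin.trans hfinl.symm))
  obtain ⟨u₀, hu₀t', hu₀''⟩ := Set.not_subset.1 hnle
  have hu₀t : u₀ ∈ t := hu₀t'
  have hu₀ : u₀ ∉ kline F K V δ := hu₀''
  -- `K δ ⊄ t`
  have hnge : ¬ kline F K V δ ≤ t := by
    intro hle
    exact hne (Submodule.eq_of_le_of_finrank_eq hle (hfinl.trans hfin.symm)).symm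
  set D0 : Submodule F K := t.comap (smulMap F δ) with hD0
  have hD0mem : ∀ κ : K, κ ∈ D0 ↔ κ • δ ∈ t := fun κ => Iff.rfl
  have h1D0 : (1 : K) ∈ D0 := by
    rw [hD0mem, one_smul]; exact hδt
  obtain ⟨κ₀, hκ₀⟩ : ∃ κ : K, κ ∉ D0 := by
    by_contra hall
    push Not at hall
    apply hnge
    intro x hx
    obtain ⟨k, rfl⟩ := mem_kline.1 hx
    exact (hD0mem k).1 (hall k)
  -- (A)
  have hA : ∀ χ : V →ₗ[K] K, χ δ = 0 → χ u₀ • δ ∈ t → ∀ u ∈ t, χ u • δ ∈ t := by
    intro χ hχ hχu
    rcases hdich χ hχ with h | h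
    · exact h
    · exact absurd (h u₀ hu₀t hχu) hu₀
  -- (B)
  have hB : ∀ u ∈ t, u ∈ Submodule.span K {δ, u₀} := by
    intro u₁ hu₁
    by_contra hnot
    obtain ⟨χ, hχW, hχ1⟩ := exists_functional (Submodule.span K {δ, u₀}) u₁ hnot κ₀
    have hχδ : χ δ = 0 := hχW δ (Submodule.subset_span (by simp))
    have hχu₀ : χ u₀ = 0 := hχW u₀ (Submodule.subset_span (by simp))
    have := hA χ hχδ (by rw [hχu₀, zero_smul]; exact t.zero_mem) u₁ hu₁
    rw [hχ1] at this
    exact hκ₀ ((hD0mem κ₀).2 this)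
  have hu₀' : u₀ ∉ Submodule.span K {δ} := by
    intro h
    exact hu₀ (mem_kline.2 (Submodule.mem_span_singleton.1 h))
  -- (C)
  have hC : ∀ (α β : K), α • δ + β • u₀ ∈ t → β ∈ multAlg D0 := by
    intro α β hu c hc
    obtain ⟨χ, hχW, hχ1⟩ := exists_functional (Submodule.span K {δ}) u₀ hu₀' c
    have hχδ : χ δ = 0 := hχW δ (Submodule.mem_span_singleton_self δ)
    have := hA χ hχδ (by rw [hχ1]; exact (hD0mem c).1 hc) _ hu
    rw [map_add, map_smul, map_smul, hχδ, hχ1, smul_zero, zero_add, smul_eq_mul] at this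
    exact (hD0mem _).2 this
  have hsimple := Subalgebra.isSimpleOrder_of_finrank_prime F K hr
  have hL : multAlg D0 = ⊥ := by
    rcases hsimple.eq_bot_or_eq_top (multAlg D0) with h | h
    · exact h
    · exfalso
      apply hκ₀
      have : κ₀ ∈ multAlg D0 := by rw [h]; exact Algebra.mem_top
      have h2 := this 1 h1D0
      rwa [mul_one] at h2
  refine ⟨u₀, hu₀t, hu₀, ?_⟩
  intro u hu
  obtain ⟨α, β, rfl⟩ := Submodule.mem_span_pair.1 (hB u hu)
  have hβ := hC α β hu
  rw [hL, Algebra.mem_bot] at hβ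
  obtain ⟨b, rfl⟩ := hβ
  rw [algebraMap_smul]
  exact Submodule.add_mem_sup (mem_kline.2 ⟨α, rfl⟩)
    (Submodule.smul_mem _ b (Submodule.mem_span_singleton_self u₀))

end Cfsg.Agent.Lib.Helper59_Ext_S5b
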