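import Mathlib
import Cfsg.Agent.Lib.Helper54_UXmDefs
import Cfsg.Agent.Lib.Helper10_UX_TRS
import Cfsg.Agent.Lib.Helper59_Ext_S5b
import Cfsg.Agent.Lib.Helper94_HermWitt

set_option autoImplicit false
set_option linter.unusedSectionVars false
set_option linter.unusedVariables false

/-!
# UEXTm: basic API (helper54)

* `trF` API: `trF_isHerm`, `trF_smul_left/right`, `trF_perp`, `trF_perp'`, `trF_nondeg`,
  `kline_iso`, `tsp_iso`, `finrank_tsp'`, `mem_uG_restrict`.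
* elements of `M` from `HypU`: `ktv_mem` (`K`-unitary transvections), `eich_mem` (Eichler elements),
  `su_trans`, `su_scale` (transitivity of `SUg B` on nonzero isotropic vectors, `dim_K V ≥ 3`),
  `su_trans_mem`, `su_scale_mem`.
-/

namespace Cfsg.Agent.Lib.Helper54_UXm_Basic

open Module
open Cfsg.Agent.Lib.Helper94_Symp Cfsg.Agent.Lib.Helper94_Herm Cfsg.Agent.Lib.Helper13_PSUSimple
  Cfsg.Agent.Lib.Helper94_HermEich Cfsg.Agent.Lib.Helper94_HermTrans
  Cfsg.Agent.Lib.Helper94_HermWitt Cfsg.Agent.Lib.Helper98_ExtDefs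
  Cfsg.Agent.Lib.Helper97_UExtDefs Cfsg.Agent.Lib.Helper54_UXmDefs

variable {F K V : Type*} [Field F] [Field K] [Algebra F K] [AddCommGroup V] [Module F V]
  [Module K V] [IsScalarTower F K V] [Finite F] [Finite K] [Module.Finite K V]
  {σ : F →+* F} {τ : K →+* K}

omit [Module.Finite K V] in
theorem trF_isHerm (h : TauExt σ τ) {B : V →ₗ[K] V →ₛₗ[τ] K} (hB : IsHerm B) :
    IsHerm (trF h B) := by
  intro x y
  rw [trF_apply, trF_apply, hB x y, Cfsg.Agent.Lib.Helper10_UX_TRS.trace_tau h]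

omit [Finite F] [Finite K] [Module.Finite K V] in
theorem trF_smul_left (h : TauExt σ τ) (B : V →ₗ[K] V →ₛₗ[τ] K) (k : K) (x y : V) :
    trF h B (k • x) y = Algebra.trace F K (k * B x y) := by
  rw [trF_apply, map_smul, LinearMap.smul_apply, smul_eq_mul]

omit [Finite F] [Finite K] [Module.Finite K V] in
theorem trF_smul_right (h : TauExt σ τ) (B : V →ₗ[K] V →ₛₗ[τ] K) (k : K) (x y : V) :
    trF h B x (k • y) = Algebra.trace F K (τ k * B x y) := by
  rw [trF_apply, map_smulₛₗ, smul_eq_mul]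

omit [Module.Finite K V] in
/-- `x ⊥ K y` for `Tr ∘ B` iff `B x y = 0` -/
theorem trF_perp (h : TauExt σ τ) (B : V →ₗ[K] V →ₛₗ[τ] K) (x y : V) :
    (∀ k : K, trF h B (k • x) y = 0) ↔ B x y = 0 := by
  constructor
  · intro hk
    have : Module.Finite F K := Module.Finite.of_finite
    apply (traceForm_nondegenerate F K).1
    intro z
    rw [Algebra.traceForm_apply, mul_comm, ← trF_smul_left h B]
    exact hk z
  · intro h0 k
    rw [trF_smul_left, h0, mul_zero, map_zero]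

omit [Module.Finite K V] in
theorem trF_perp' (h : TauExt σ τ) (B : V →ₗ[K] V →ₛₗ[τ] K) (x y : V) :
    (∀ k : K, trF h B x (k • y) = 0) ↔ B x y = 0 := by
  constructor
  · intro hk
    have : Module.Finite F K := Module.Finite.of_finite
    apply (traceForm_nondegenerate F K).1
    intro z
    have := hk (τ z)
    rw [trF_smul_right, h.invol] at this
    rw [Algebra.traceForm_apply, mul_comm]
    exact this
  · intro h0 k
    rw [trF_smul_right, h0, mul_zero, map_zero]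

omit [Module.Finite K V] in
theorem trF_nondeg (h : TauExt σ τ) {B : V →ₗ[K] V →ₛₗ[τ] K} (hN : NondegOn B ⊤) :
    NondegOn (trF h B) ⊤ := by
  intro x _ hx
  obtain ⟨y, -, hy⟩ := hN x trivial hx
  by_contra hcon
  push Not at hcon
  exact hy ((trF_perp' h B x y).mp fun k => hcon (k • y) trivial)

omit [Finite F] [Finite K] [Module.Finite K V] in
/-- an isotropic `K`-line is totally isotropic for `Tr ∘ B` -/
theorem kline_iso (h : TauExt σ τ) {B : V →ₗ[K] V →ₛₗ[τ] K} {v : V} (hv : B v v = 0) :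
    ∀ a ∈ kline F K V v, ∀ b ∈ kline F K V v, trF h B a b = 0 := by
  intro a ha b hb
  obtain ⟨k, rfl⟩ := mem_kline.mp ha
  obtain ⟨l, rfl⟩ := mem_kline.mp hb
  rw [trF_apply, map_smulₛₗ (B (k • v)), B.map_smul, LinearMap.smul_apply, hv, smul_zero, smul_zero,
    map_zero]

omit [Finite F] [Finite K] [Module.Finite K V] in
/-- the image of an isotropic `K`-line under an isometry of `Tr ∘ B` is totally isotropic -/
theorem tsp_iso (h : TauExt σ τ) {B : V →ₗ[K] V →ₛₗ[τ] K} {y : V ≃ₗ[F] V}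
    (hy : y ∈ uG (trF h B)) {v : V} (hv : B v v = 0) :
    ∀ a ∈ tsp F K V y v, ∀ b ∈ tsp F K V y v, trF h B a b = 0 := by
  intro a ha b hb
  obtain ⟨k, rfl⟩ := mem_tsp.mp ha
  obtain ⟨l, rfl⟩ := mem_tsp.mp hb
  rw [hy]
  exact kline_iso h hv _ (mem_kline.mpr ⟨k, rfl⟩) _ (mem_kline.mpr ⟨l, rfl⟩)

omit [Finite F] [Finite K] [Module.Finite K V] in
theorem finrank_tsp' (y : V ≃ₗ[F] V) {v : V} (hv : v ≠ 0) :
    finrank F (tsp F K V y v) = finrank F K := by
  unfold tsp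
  rw [LinearEquiv.finrank_map_eq y, Cfsg.Agent.Lib.Helper59_Ext_S5b.finrank_kline hv]

omit [Finite F] [Finite K] [Module.Finite K V] in
/-- a `K`-linear isometry of `B` is an isometry of `Tr ∘ B` -/
theorem mem_uG_restrict (h : TauExt σ τ) {B : V →ₗ[K] V →ₛₗ[τ] K} {g : V ≃ₗ[K] V}
    (hg : g ∈ uG B) : g.restrictScalars F ∈ uG (trF h B) := by
  intro x y
  rw [trF_apply, trF_apply, LinearEquiv.restrictScalars_apply, LinearEquiv.restrictScalars_apply,
    hg]

omit [Finite F] [Finite K] [Module.Finite K V] in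
/-- `M` contains the `K`-unitary transvections -/
theorem ktv_mem (h : TauExt σ τ) {B : V →ₗ[K] V →ₛₗ[τ] K} (hB : IsHerm B)
    {M : Subgroup (V ≃ₗ[F] V)} (hM : HypU h B M) (a : V) {κ : K} (hκ : τ κ = -κ) :
    (utv B a κ).restrictScalars F ∈ M :=
  hM.su _ (Cfsg.Agent.Lib.Helper14_PSULocal1.utv_mem_SUg hB a hκ)

omit [Finite F] [Finite K] [Module.Finite K V] in
/-- `M` contains the Eichler elements -/
theorem eich_mem (h : TauExt σ τ) {B : V →ₗ[K] V →ₛₗ[τ] K} (hB : IsHerm B)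
    {M : Subgroup (V ≃ₗ[F] V)} (hM : HypU h B M) (w y : V) {c : K} (hc : c + τ c = -(B y y)) :
    (eich B w y c).restrictScalars F ∈ M :=
  hM.su _ (Cfsg.Agent.Lib.Helper14_PSULocal1.eich_mem_SUg hB hc)

omit [Finite F] [Field F] [Algebra F K] [Module F V] [IsScalarTower F K V] in
/-- `SUg B` is transitive on nonzero isotropic vectors (`dim_K V ≥ 3`) -/
theorem su_trans (hτ : Invol τ) {B : V →ₗ[K] V →ₛₗ[τ] K} (hB : IsHerm B) (hN : NondegOn B ⊤)
    (hd : 3 ≤ finrank K V) {b b' : V} (hb0 : b ≠ 0) (hb'0 : b' ≠ 0) (hb : B b b = 0)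
    (hb' : B b' b' = 0) : ∃ g ∈ SUg B, g b = b' := by
  obtain ⟨t, ht, htb⟩ := exists_tv_iso hτ hB hN (by rw [finrank_top]; exact hd)
    (Submodule.mem_top (x := b)) (Submodule.mem_top (x := b')) hb0 hb'0 hb hb'
  exact ⟨t, tvGroup_le_SUg hB ⊤ ht, htb⟩

omit [Finite F] [Field F] [Algebra F K] [Module F V] [IsScalarTower F K V] in
/-- `SUg B` scales nonzero isotropic vectors arbitrarily (`dim_K V ≥ 3`) -/
theorem su_scale (hτ : Invol τ) {B : V →ₗ[K] V →ₛₗ[τ] K} (hB : IsHerm B) (hN : NondegOn B ⊤)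
    (hd : 3 ≤ finrank K V) {b : V} (hb0 : b ≠ 0) (hb : B b b = 0) {μ : K} (hμ : μ ≠ 0) :
    ∃ g ∈ SUg B, g b = μ • b := by
  obtain ⟨t, ht, htb⟩ := exists_tv_scale hτ hB hN (by rw [finrank_top]; exact hd)
    (Submodule.mem_top (x := b)) hb0 hb hμ
  exact ⟨t, tvGroup_le_SUg hB ⊤ ht, htb⟩

/-- transitivity inside `M` -/
theorem su_trans_mem (h : TauExt σ τ) (hσ : Invol σ) {B : V →ₗ[K] V →ₛₗ[τ] K} (hB : IsHerm B)
    (hN : NondegOn B ⊤) (hd : 3 ≤ finrank K V) {M : Subgroup (V ≃ₗ[F] V)} (hM : HypU h B M)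
    {b b' : V} (hb0 : b ≠ 0) (hb'0 : b' ≠ 0) (hb : B b b = 0) (hb' : B b' b' = 0) :
    ∃ g ∈ M, g b = b' ∧ ∀ (k : K) (x : V), g (k • x) = k • g x := by
  obtain ⟨g, hg, hgb⟩ := su_trans (h.toInvol hσ) hB hN hd hb0 hb'0 hb hb'
  exact ⟨g.restrictScalars F, hM.su g hg, hgb, fun k x => g.map_smul k x⟩

/-- scaling inside `M` -/
theorem su_scale_mem (h : TauExt σ τ) (hσ : Invol σ) {B : V →ₗ[K] V →ₛₗ[τ] K} (hB : IsHerm B)
    (hN : NondegOn B ⊤) (hd : 3 ≤ finrank K V) {M : Subgroup (V ≃ₗ[F] V)} (hM : HypU h B M)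
    {b : V} (hb0 : b ≠ 0) (hb : B b b = 0) {μ : K} (hμ : μ ≠ 0) :
    ∃ g ∈ M, g b = μ • b ∧ ∀ (k : K) (x : V), g (k • x) = k • g x := by
  obtain ⟨g, hg, hgb⟩ := su_scale (h.toInvol hσ) hB hN hd hb0 hb hμ
  exact ⟨g.restrictScalars F, hM.su g hg, hgb, fun k x => g.map_smul k x⟩

end Cfsg.Agent.Lib.Helper54_UXm_Basic
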