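import Mathlib
import Cfsg.Agent.Lib.Helper97_UExtDefs
import Cfsg.Agent.Lib.Helper94_UDDefs
import Cfsg.Agent.Lib.Helper98_ExtMult
import Cfsg.Agent.Lib.Helper10_UX_TRS

set_option autoImplicit false
set_option linter.unusedSectionVars false
set_option linter.unusedVariables false

/-!
# UEXT2 package TRM (helper90): the trace maps the `τ`-skew elements of `K` onto the `σ`-skew
elements of `F`.
-/

namespace Cfsg.Agent.Lib.Helper90_UX_TRM

open Module
open Cfsg.Agent.Lib.Helper94_Symp Cfsg.Agent.Lib.Helper94_Herm Cfsg.Agent.Lib.Helper13_PSUSimple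
  Cfsg.Agent.Lib.Helper67_Tens2Defs Cfsg.Agent.Lib.Helper67_UT2Defs Cfsg.Agent.Lib.Helper98_ExtDefs
  Cfsg.Agent.Lib.Helper94_FrmDefs Cfsg.Agent.Lib.Helper94_UDDefs Cfsg.Agent.Lib.Helper97_UExtDefs

variable {F K : Type*} [Field F] [Field K] [Algebra F K] [Finite F] [Finite K]
  {σ : F →+* F} {τ : K →+* K}

/-- PKG TRM (M; uses TRS, FLD) -/
theorem trace_skew_onto (h : TauExt σ τ) (hσ : Invol σ) (c : F) (hc : σ c = -c) :
    ∃ κ : K, τ κ = -κ ∧ Algebra.trace F K κ = c := by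
  obtain ⟨θ, hθ⟩ := hσ.ne_id
  have hd : θ - σ θ ≠ 0 := sub_ne_zero.mpr (Ne.symm hθ)
  have hsurj : Function.Surjective (Algebra.trace F K) := Algebra.trace_surjective F K
  obtain ⟨x, hx⟩ := hsurj (c * θ / (θ - σ θ))
  refine ⟨x - τ x, ?_, ?_⟩
  · rw [map_sub, h.invol]; ring
  · rw [map_sub, Cfsg.Agent.Lib.Helper10_UX_TRS.trace_tau h x, hx]
    rw [map_div₀, map_mul, map_sub, hσ.invol, hc]
    field_simp
    ring

end Cfsg.Agent.Lib.Helper90_UX_TRM
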