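import Mathlib
import Cfsg.Agent.Lib.Helper54_UXmDefs
import Cfsg.Agent.Lib.Helper54_UXm_Basic
import Cfsg.Agent.Lib.Helper90_UX_TRM
import Cfsg.Agent.Lib.Helper10_UX_TRS
import Cfsg.Agent.Lib.Helper94_HermWitt

set_option autoImplicit false
set_option linter.unusedSectionVars false
set_option linter.unusedVariables false

/-!
# UEXTm market (`uxm_packages`, architect helper54), package CONV (helper12)

A configuration `CfgU B M y v₁ δ u₀` with `B u₀ δ ≠ 0` yields a configuration with `B u₀' δ' = 0`: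
conjugate by an Eichler element `eich B δ w c` moving `u₀` out of the hyperbolic plane `K δ + K u₀`,
where `w ⊥ δ, u₀`, `B w w = β'` with `Tr (β' N₀) = 0`, `c + τ c = -β'`, `Tr (c N₀) = 0`,
`N₀ = e₀ τ e₀`, `e₀ = B u₀ δ`.
-/

open Module
open Cfsg.Agent.Lib.Helper94_Symp Cfsg.Agent.Lib.Helper94_Herm Cfsg.Agent.Lib.Helper13_PSUSimple
  Cfsg.Agent.Lib.Helper94_HermEich Cfsg.Agent.Lib.Helper98_ExtDefs Cfsg.Agent.Lib.Helper97_UExtDefs
  Cfsg.Agent.Lib.Helper29_SpExtDefs Cfsg.Agent.Lib.Helper94_FrmDefs Cfsg.Agent.Lib.Helper94_UDDefs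
  Cfsg.Agent.Lib.Helper54_UXmDefs

namespace Cfsg.Agent.Lib.Helper12_UXm_CONV

section HermK

variable {K V : Type*} [Field K] [AddCommGroup V] [Module K V] [FiniteDimensional K V]
  {τ : K →+* K} {B : V →ₗ[K] V →ₛₗ[τ] K}

/-- an anisotropic vector orthogonal to the hyperbolic plane `K δ + K u₀` (`dim ≥ 3`) -/
theorem h12_exists_perp_aniso (hτ : Invol τ) (hB : IsHerm B) (hN : NondegOn B ⊤)
    (hd : 3 ≤ finrank K V) {δ u₀ : V} (hδi : B δ δ = 0) (hne : B u₀ δ ≠ 0) :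
    ∃ d : V, B d δ = 0 ∧ B d u₀ = 0 ∧ B d d ≠ 0 := by
  set e0 := B u₀ δ with he0
  set a := e0⁻¹ with ha
  have ha0 : a ≠ 0 := inv_ne_zero hne
  have hae : a * e0 = 1 := inv_mul_cancel₀ hne
  have hδu : B δ u₀ = τ e0 := hB u₀ δ
  have hνfix : τ (a * τ a * B u₀ u₀) = a * τ a * B u₀ u₀ := by
    rw [map_mul, map_mul, hτ.invol, herm_self hB]; ring
  obtain ⟨b, hb⟩ := tr_surj hτ (-(a * τ a * B u₀ u₀)) (by rw [map_neg, hνfix])
  set f1 := a • u₀ + b • δ with hf1
  have hδf1 : B δ f1 = 1 := by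
    rw [hf1, map_add, map_smulₛₗ, map_smulₛₗ, hδi, hδu, smul_zero, add_zero, smul_eq_mul,
      ← map_mul, hae, map_one]
  have hf1i : B f1 f1 = 0 := by
    have h1 : B (a • u₀) (b • δ) = τ b := by
      rw [map_smulₛₗ, map_smul, LinearMap.smul_apply, smul_eq_mul, smul_eq_mul, hae, mul_one]
    rw [hf1, self_add hB, self_smul, self_smul, hδi, mul_zero, add_zero, h1, hτ.invol]
    linear_combination hb
  have hU := nondegOn_pair hB hN (Submodule.mem_top (x := δ)) (Submodule.mem_top (x := f1)) hδi hf1i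
    hδf1
  have hdim : 1 ≤ finrank K (⊤ ⊓ orthV B δ ⊓ orthV B f1 : Submodule K V) := by
    have h1 := Cfsg.Agent.Lib.Helper94_HermWitt.finrank_le_inf_orthV_add_one (B := B)
      (⊤ : Submodule K V) δ
    have h2 := Cfsg.Agent.Lib.Helper94_HermWitt.finrank_le_inf_orthV_add_one (B := B)
      (⊤ ⊓ orthV B δ : Submodule K V) f1
    have h3 : finrank K (⊤ : Submodule K V) = finrank K V := finrank_top K V
    omega
  obtain ⟨z, hzU, hz0⟩ := Cfsg.Agent.Lib.Helper94_HermWitt.exists_ne_zero_of_finrank_pos hdim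
  obtain ⟨d, hdU, hdd⟩ := exists_aniso hτ hB hU hzU hz0
  have hdδ : B d δ = 0 := mem_orthV.mp hdU.1.2
  have hdf : B d f1 = 0 := mem_orthV.mp hdU.2
  refine ⟨d, hdδ, ?_, hdd⟩
  rw [hf1, map_add, map_smulₛₗ, map_smulₛₗ, hdδ, smul_zero, add_zero, smul_eq_mul] at hdf
  rcases mul_eq_zero.mp hdf with h0 | h0
  · exfalso
    apply ha0
    have := congrArg τ h0
    rw [hτ.invol, map_zero] at this
    exact this
  · exact h0

end HermK

section FieldFK

variable {F K : Type*} [Field F] [Field K] [Algebra F K] [Finite F] [Finite K]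
  {σ : F →+* F} {τ : K →+* K}

/-- a nonzero `τ`-fixed element of trace zero (`[K : F] ≥ 2`) -/
theorem h12_exists_fixed_trace_zero (h : TauExt σ τ) (hσ : Invol σ) (h2 : 2 ≤ finrank F K) :
    ∃ γ : K, γ ≠ 0 ∧ τ γ = γ ∧ Algebra.trace F K γ = 0 := by
  have hfin : Module.Finite F K := Module.Finite.of_finite
  have hker : LinearMap.ker (Algebra.trace F K) ≠ ⊥ := by
    intro hbot
    have h1 := LinearMap.finrank_range_add_finrank_ker (Algebra.trace F K)
    rw [hbot, finrank_bot, add_zero] at h1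
    have h3 : finrank F (LinearMap.range (Algebra.trace F K)) ≤ 1 := by
      calc finrank F (LinearMap.range (Algebra.trace F K)) ≤ finrank F F := Submodule.finrank_le _
        _ = 1 := finrank_self F
    omega
  obtain ⟨c, hcK, hc0⟩ := Submodule.exists_mem_ne_zero_of_ne_bot hker
  have hc : Algebra.trace F K c = 0 := LinearMap.mem_ker.mp hcK
  by_cases hfix : τ c = c
  · exact ⟨c, hc0, hfix, hc⟩
  · obtain ⟨ω, hω0, hω⟩ := exists_skew hσ
    refine ⟨ω • (c - τ c), ?_, ?_, ?_⟩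
    · rw [Ne, smul_eq_zero, not_or]
      exact ⟨hω0, fun h0 => hfix (sub_eq_zero.mp h0).symm⟩
    · rw [h.map_smul, hω, map_sub, h.invol, neg_smul, ← smul_neg, neg_sub]
    · rw [map_smul, map_sub, Cfsg.Agent.Lib.Helper10_UX_TRS.trace_tau h, hc, map_zero, sub_zero,
        smul_zero]

end FieldFK

section Main

variable {F K V : Type*} [Field F] [Field K] [Algebra F K] [AddCommGroup V] [Module F V]
  [Module K V] [IsScalarTower F K V] [Finite F] [Finite K] [Module.Finite K V]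
  {σ : F →+* F} {τ : K →+* K}

/-- the vector `w` and the scalar `c` of the Eichler element -/
theorem h12_exists_w (h : TauExt σ τ) (hσ : Invol σ) (h2 : 2 ≤ finrank F K)
    {B : V →ₗ[K] V →ₛₗ[τ] K} (hB : IsHerm B) (hN : NondegOn B ⊤) (hd : 3 ≤ finrank K V)
    {δ u₀ : V} (hδi : B δ δ = 0) (hne : B u₀ δ ≠ 0) :
    ∃ (w : V) (c : K), B w δ = 0 ∧ B w u₀ = 0 ∧ B w w ≠ 0 ∧ c + τ c = -(B w w) ∧
      Algebra.trace F K (c * (B u₀ δ * τ (B u₀ δ))) = 0 := by
  have hτ : Invol τ := h.toInvol hσ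
  set e0 := B u₀ δ with he0
  set N0 := e0 * τ e0 with hN0
  have hτe0 : τ e0 ≠ 0 := fun h0 => hne (by
    have := congrArg τ h0
    rwa [hτ.invol, map_zero] at this)
  have hN00 : N0 ≠ 0 := mul_ne_zero hne hτe0
  have hN0fix : τ N0 = N0 := by rw [hN0, map_mul, hτ.invol, mul_comm]
  obtain ⟨γ, hγ0, hγfix, hγtr⟩ := h12_exists_fixed_trace_zero h hσ h2
  set β := γ / N0 with hβ
  have hβ0 : β ≠ 0 := div_ne_zero hγ0 hN00
  have hβfix : τ β = β := by rw [hβ, map_div₀, hγfix, hN0fix]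
  have hβN : β * N0 = γ := div_mul_cancel₀ γ hN00
  obtain ⟨d, hdδ, hdu, hdd⟩ := h12_exists_perp_aniso hτ hB hN hd hδi hne
  have hρfix : τ (β / B d d) = β / B d d := by rw [map_div₀, hβfix, herm_self hB]
  obtain ⟨l, hl⟩ := norm_surj hτ (β / B d d) hρfix
  have hww : B (l • d) (l • d) = β := by
    rw [self_smul, hl, div_mul_cancel₀ β hdd]
  obtain ⟨c1, hc1⟩ := tr_surj hτ (-β) (by rw [map_neg, hβfix])
  set a1 := Algebra.trace F K (c1 * N0) with ha1
  have ha1s : σ (-a1) = -(-a1) := by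
    have e1 : σ a1 = Algebra.trace F K (τ c1 * N0) := by
      rw [ha1, ← Cfsg.Agent.Lib.Helper10_UX_TRS.trace_tau h, map_mul, hN0fix]
    have e2 : a1 + σ a1 = 0 := by
      rw [e1, ha1, ← map_add, ← add_mul, hc1, neg_mul, hβN, map_neg, hγtr, neg_zero]
    rw [map_neg, neg_neg]
    linear_combination (-1 : F) * e2
  obtain ⟨κ, hκ, hκtr⟩ := Cfsg.Agent.Lib.Helper90_UX_TRM.trace_skew_onto h hσ (-a1) ha1s
  refine ⟨l • d, c1 + κ / N0, ?_, ?_, ?_, ?_, ?_⟩
  · rw [map_smul, LinearMap.smul_apply, hdδ, smul_zero]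
  · rw [map_smul, LinearMap.smul_apply, hdu, smul_zero]
  · rw [hww]; exact hβ0
  · rw [hww, map_add, map_div₀, hκ, hN0fix]
    linear_combination hc1
  · rw [add_mul, div_mul_cancel₀ κ hN00, map_add, hκtr, ← ha1, add_neg_cancel]

/-- **CONV** (L).  A configuration with `B(u₀, δ) ≠ 0` yields one with `B(u₀', δ') = 0`
(conjugate by an Eichler element moving `u₀` out of the hyperbolic plane `K δ + K u₀`;
needs `dim_K V ≥ 3`).  Proof §7. -/
theorem conv (h : TauExt σ τ) (hσ : Invol σ) (hr : (finrank F K).Prime)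
    {B : V →ₗ[K] V →ₛₗ[τ] K} (hB : IsHerm B) (hN : NondegOn B ⊤) (hd : 3 ≤ finrank K V)
    {M : Subgroup (V ≃ₗ[F] V)} (hM : HypU h B M) {y : V ≃ₗ[F] V} {v₁ δ u₀ : V}
    (hc : CfgU B M y v₁ δ u₀) (hne : B u₀ δ ≠ 0) :
    ∃ (y' : V ≃ₗ[F] V) (δ' u₀' : V), CfgU B M y' v₁ δ' u₀' ∧ B u₀' δ' = 0 := by
  have hτ : Invol τ := h.toInvol hσ
  obtain ⟨w, c, hwδ, hwu, hww, hcw, hctr⟩ := h12_exists_w h hσ hr.two_le hB hN hd hc.hδi hne
  have hδw : B δ w = 0 := herm_eq_zero hB hwδ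
  have huw : B u₀ w = 0 := herm_eq_zero hB hwu
  have hyU : y ∈ uG (trF h B) := hM.le hc.hy
  have hti := Cfsg.Agent.Lib.Helper54_UXm_Basic.tsp_iso h hyU hc.hv₁i
  -- the Eichler element
  have hgM : (eich B δ w c).restrictScalars F ∈ M :=
    Cfsg.Agent.Lib.Helper54_UXm_Basic.eich_mem h hB hM δ w hcw
  have hgU : (eich B δ w c).restrictScalars F ∈ uG (trF h B) := hM.le hgM
  have hgx : ∀ x, eich B δ w c x = x + B x δ • w - B x w • δ + (c * B x δ) • δ :=
    fun x => eich_apply B hc.hδi hwδ hδw c x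
  have hgδ : ∀ k : K, eich B δ w c (k • δ) = k • δ := by
    intro k
    rw [hgx, map_smul, LinearMap.smul_apply, LinearMap.smul_apply, hc.hδi, hδw]
    simp
  have hgu : eich B δ w c u₀ = u₀ + B u₀ δ • w + (c * B u₀ δ) • δ := by
    rw [hgx, huw, zero_smul, sub_zero]
  have hgF : ∀ (a : F) (x : V), eich B δ w c (a • x) = a • eich B δ w c x := by
    intro a x
    rw [← algebraMap_smul K a x, map_smul, algebraMap_smul]
  -- `f (g u₀) u₀ = 0`
  have hfgu : trF h B (eich B δ w c u₀) u₀ = 0 := by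
    have h1 : Algebra.trace F K (B u₀ u₀) = 0 := hti u₀ hc.hu₀t u₀ hc.hu₀t
    rw [trF_apply, hgu, map_add, map_add, LinearMap.add_apply, LinearMap.add_apply, map_smul,
      map_smul, LinearMap.smul_apply, LinearMap.smul_apply, hwu, smul_zero, add_zero, hB u₀ δ,
      smul_eq_mul, map_add, h1, zero_add, mul_assoc]
    exact hctr
  -- decomposition of the elements of `t`
  have hdec : ∀ z ∈ tsp F K V y v₁, ∃ (k' : K) (a : F), z = k' • δ + a • u₀ ∧
      k' • δ ∈ tsp F K V y v₁ := by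
    intro z hz
    obtain ⟨d, hd', z', hz', hdz⟩ := Submodule.mem_sup.mp (hc.hle hz)
    obtain ⟨k', rfl⟩ := mem_kline.mp hd'
    obtain ⟨a, rfl⟩ := Submodule.mem_span_singleton.mp hz'
    refine ⟨k', a, hdz.symm, ?_⟩
    have : k' • δ = z - a • u₀ := by rw [← hdz]; abel
    rw [this]
    exact Submodule.sub_mem _ hz (Submodule.smul_mem _ a hc.hu₀t)
  -- `g u₀ ∉ t`
  have hgut : eich B δ w c u₀ ∉ tsp F K V y v₁ := by
    intro hmem
    obtain ⟨k', a, hka, -⟩ := hdec _ hmem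
    have e : B u₀ δ • w = k' • δ + (algebraMap F K a) • u₀ - u₀ - (c * B u₀ δ) • δ := by
      rw [algebraMap_smul, ← hka, hgu]; abel
    have h0 : B (B u₀ δ • w) w = 0 := by
      rw [e]
      simp only [map_sub, map_add, map_smul, LinearMap.sub_apply, LinearMap.add_apply,
        LinearMap.smul_apply, hδw, huw, smul_zero, add_zero, sub_zero]
    rw [map_smul, LinearMap.smul_apply, smul_eq_mul] at h0
    exact hww ((mul_eq_zero.mp h0).resolve_left hne)
  -- the new configuration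
  obtain ⟨k₀, hk₀⟩ := mem_tsp.mp hc.hδt
  obtain ⟨k₁, hk₁⟩ := mem_tsp.mp hc.hu₀t
  have hk₀0 : k₀ ≠ 0 := by
    intro h0
    apply hc.hδ
    rw [← hk₀, h0, zero_smul, map_zero]
  have hδ' : y⁻¹ δ = k₀ • v₁ := by rw [← hk₀, inv_apply_apply']
  have hy'x : ∀ x, (y⁻¹ * (eich B δ w c).restrictScalars F * y) x = y⁻¹ (eich B δ w c (y x)) := by
    intro x
    rw [LinearEquiv.mul_apply, LinearEquiv.mul_apply, LinearEquiv.restrictScalars_apply]
  -- elements of `y⁻¹ t` are in `K δ'`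
  have hback : ∀ z ∈ tsp F K V y v₁, y⁻¹ z ∈ kline F K V (y⁻¹ δ) := by
    intro z hz
    obtain ⟨k, rfl⟩ := mem_tsp.mp hz
    rw [inv_apply_apply', hδ']
    refine mem_kline.mpr ⟨k / k₀, ?_⟩
    rw [smul_smul, div_mul_cancel₀ k hk₀0]
  refine ⟨y⁻¹ * (eich B δ w c).restrictScalars F * y, y⁻¹ δ, y⁻¹ (eich B δ w c u₀), ?_, ?_⟩
  · refine ⟨M.mul_mem (M.mul_mem (M.inv_mem hc.hy) hgM) hc.hy, hc.hv₁, hc.hv₁i, ?_, ?_, ?_, ?_, ?_, ?_⟩
    · rw [hδ']
      exact smul_ne_zero hk₀0 hc.hv₁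
    · rw [hδ', self_smul, hc.hv₁i, mul_zero]
    · refine mem_tsp.mpr ⟨k₀, ?_⟩
      rw [hy'x, hk₀]
      have := hgδ 1
      rw [one_smul] at this
      rw [this]
    · refine mem_tsp.mpr ⟨k₁, ?_⟩
      rw [hy'x, hk₁]
    · intro hmem
      obtain ⟨k, hk⟩ := mem_kline.mp hmem
      apply hgut
      refine mem_tsp.mpr ⟨k * k₀, ?_⟩
      rw [mul_smul, ← hδ', hk, apply_inv_apply']
    · intro x hx
      obtain ⟨k, rfl⟩ := mem_tsp.mp hx
      rw [hy'x]
      obtain ⟨k', a, hka, hk't⟩ := hdec (y (k • v₁)) (mem_tsp.mpr ⟨k, rfl⟩)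
      rw [hka, map_add, hgδ, hgF, map_add, (y⁻¹).map_smul a]
      exact Submodule.add_mem_sup (hback _ hk't)
        (Submodule.smul_mem _ a (Submodule.mem_span_singleton_self _))
  · apply (Cfsg.Agent.Lib.Helper54_UXm_Basic.trF_perp' h B _ _).mp
    intro k
    rw [uG_inv_apply (trF h B) hyU]
    have hz : y (k • y⁻¹ δ) ∈ tsp F K V y v₁ := by
      refine mem_tsp.mpr ⟨k * k₀, ?_⟩
      rw [mul_smul, hδ']
    obtain ⟨k', a, hka, hk't⟩ := hdec _ hz
    rw [hka, map_add, LinearMap.map_smulₛₗ _ a u₀, hfgu, smul_zero, add_zero, ← hgδ k']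
    have := hgU u₀ (k' • δ)
    rw [LinearEquiv.restrictScalars_apply, LinearEquiv.restrictScalars_apply] at this
    rw [this]
    exact hti u₀ hc.hu₀t _ hk't

end Main

end Cfsg.Agent.Lib.Helper12_UXm_CONV
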