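import Cfsg.Agent.Lib.Helper12_W2pDefs

/-!
# S0720 core, part 1 (helper12): Fourier calculus of a frame

`zc_add/zc_zero/zc_neg/zc_sum` (the additive character `m ↦ ζ ^ m.val`), `shift_pow`, `inv_shift`
(invariant matrices are block circulant), `sum_phi`, `evec_apply`, `wvec_apply`,
`mulVec_evec` (`A e_{k,a'} = ∑ a, mk F A k a a' • e_{k,a}`), `ev` (the vector of the `k`-th eigenspace
with coordinates `y`), `ev_apply`, `ev_inj`, `ev_smul`, `mulVec_ev`, `inv_transpose`,
`blk_transpose` (`mk F Aᵀ k = (mk F A k)ᴴ`), `blk_trace` (`trace (mk F A k) = tau F A k`).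
-/

set_option autoImplicit false
set_option linter.unusedSectionVars false
set_option linter.unusedVariables false
set_option linter.unusedSimpArgs false

namespace Cfsg.Agent.Lib.Helper12_W2pCore

open Equiv MulAction Cfsg.Agent.Lib.Helper12_W2pDefs
open scoped ComplexConjugate

variable {α : Type*} [Fintype α] [DecidableEq α] {G : Subgroup (Perm α)} {p : ℕ}
  [hp : Fact p.Prime]

local notation "blk" => Cfsg.Agent.Lib.Helper12_W2pDefs.mk

/-! ## the additive character `m ↦ ζ ^ m.val` -/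

theorem zeta_prim : IsPrimitiveRoot (zeta p) p :=
  Complex.isPrimitiveRoot_exp p hp.out.ne_zero

theorem zeta_pow_val (m : ZMod p) : zeta p ^ m.val = ZMod.stdAddChar m := by
  conv_rhs => rw [← ZMod.natCast_zmod_val m]
  have h := ZMod.stdAddChar_coe (N := p) (m.val : ℤ)
  rw [Int.cast_natCast] at h
  rw [h, zeta, ← Complex.exp_nat_mul]
  congr 1
  push_cast
  ring

theorem zc_add (a b : ZMod p) : zeta p ^ (a + b).val = zeta p ^ a.val * zeta p ^ b.val := by
  simp only [zeta_pow_val, AddChar.map_add_eq_mul]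

theorem zc_zero : zeta p ^ (0 : ZMod p).val = 1 := by simp

theorem zc_neg (a : ZMod p) : zeta p ^ (-a).val = conj (zeta p ^ a.val) := by
  have h1 : zeta p ^ (-a).val * zeta p ^ a.val = 1 := by
    rw [← zc_add]; simp
  have h2 : ‖zeta p ^ a.val‖ = 1 := by
    rw [norm_pow, zeta_prim.norm'_eq_one hp.out.ne_zero, one_pow]
  rw [← Complex.inv_eq_conj h2]
  exact eq_inv_of_mul_eq_one_left h1

theorem zc_sum (m : ZMod p) : ∑ k : ZMod p, zeta p ^ (m * k).val = if m = 0 then (p : ℂ) else 0 := by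
  simp only [zeta_pow_val]
  have h := AddChar.sum_mulShift (R := ZMod p) (R' := ℂ) m (ZMod.isPrimitive_stdAddChar p)
  simp only [mul_comm m] 
  rw [h]
  simp [ZMod.card]

/-! ## frames -/

variable (F : Frame G p)

theorem shift_pow (j : ℕ) (i : ZMod p) (a : Fin 2) :
    (F.x ^ j) (F.φ (i, a)) = F.φ (i + j, a) := by
  induction j generalizing i with
  | zero => simp
  | succ j ih =>
    rw [pow_succ', Perm.mul_apply, ih, F.hφ]
    congr 2
    push_cast
    ring

theorem inv_shift (A : Matrix α α ℤ) (hA : Inv G A) (j i i' : ZMod p) (a a' : Fin 2) :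
    A (F.φ (i + j, a)) (F.φ (i' + j, a')) = A (F.φ (i, a)) (F.φ (i', a')) := by
  have h := hA (F.x ^ j.val) (G.pow_mem F.hx _) (F.φ (i, a)) (F.φ (i', a'))
  rw [shift_pow, shift_pow, ZMod.natCast_zmod_val] at h
  exact h

theorem sum_phi {M : Type*} [AddCommMonoid M] (f : α → M) :
    ∑ ω, f ω = ∑ a : Fin 2, ∑ i : ZMod p, f (F.φ (i, a)) := by
  rw [← Equiv.sum_comp F.φ, Fintype.sum_prod_type, Finset.sum_comm]

theorem evec_apply (k i : ZMod p) (a a' : Fin 2) :
    evec F k a (F.φ (i, a')) = if a' = a then zeta p ^ (i * k).val else 0 := by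
  simp [evec]

theorem wvec_apply (i : ZMod p) (a : Fin 2) :
    wvec F (F.φ (i, a)) = if a = 0 then 1 else -1 := by
  simp [wvec]

theorem mulVec_evec (A : Matrix α α ℤ) (hA : Inv G A) (k : ZMod p) (a' : Fin 2) :
    (A.map (Int.cast : ℤ → ℂ)).mulVec (evec F k a') = ∑ a, blk F A k a a' • evec F k a := by
  funext ω
  obtain ⟨⟨i, a⟩, rfl⟩ := F.φ.surjective ω
  simp only [Matrix.mulVec, dotProduct, Matrix.map_apply, Finset.sum_apply, Pi.smul_apply,
    smul_eq_mul]
  rw [sum_phi F]
  simp only [evec_apply]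
  have h1 : ∀ a'' : Fin 2, ∑ i' : ZMod p, (A (F.φ (i, a)) (F.φ (i', a'')) : ℂ) *
      (if a'' = a' then zeta p ^ (i' * k).val else 0) =
      if a'' = a' then ∑ i' : ZMod p, (A (F.φ (i, a)) (F.φ (i', a')) : ℂ) * zeta p ^ (i' * k).val
        else 0 := by
    intro a''
    split_ifs with h
    · subst h; rfl
    · simp
  simp only [h1, Finset.sum_ite_eq', Finset.mem_univ, if_true]
  have h2 : ∀ a'' : Fin 2, blk F A k a'' a' * (if a = a'' then zeta p ^ (i * k).val else 0) =
      if a'' = a then blk F A k a a' * zeta p ^ (i * k).val else 0 := by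
    intro a''
    by_cases h : a'' = a
    · subst h; simp
    · simp [h, Ne.symm h]
  simp only [h2, Finset.sum_ite_eq', Finset.mem_univ, if_true]
  rw [← Equiv.sum_comp (Equiv.addRight i)]
  simp only [Equiv.coe_addRight, Helper12_W2pDefs.mk, Finset.sum_mul]
  refine Finset.sum_congr rfl fun d _ => ?_
  have h3 := inv_shift F A hA i 0 d a a'
  rw [zero_add] at h3
  rw [h3, add_mul, zc_add]
  ring

/-- the vector with coordinates `y` in the `k`-th eigenspace -/
noncomputable def ev (k : ZMod p) (y : Fin 2 → ℂ) : α → ℂ :=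
  y 0 • evec F k 0 + y 1 • evec F k 1

theorem ev_apply (k i : ZMod p) (y : Fin 2 → ℂ) (a : Fin 2) :
    ev F k y (F.φ (i, a)) = y a * zeta p ^ (i * k).val := by
  simp only [ev, Pi.add_apply, Pi.smul_apply, smul_eq_mul, evec_apply]
  fin_cases a <;> simp

theorem ev_eq_sum (k : ZMod p) (y : Fin 2 → ℂ) : ev F k y = ∑ a, y a • evec F k a := by
  simp [ev, Fin.sum_univ_two]

theorem ev_inj (k : ZMod p) (y z : Fin 2 → ℂ) (h : ev F k y = ev F k z) : y = z := by
  funext a
  have h1 := congrFun h (F.φ (0, a))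
  simpa [ev_apply] using h1

theorem ev_smul (k : ZMod p) (c : ℂ) (y : Fin 2 → ℂ) : ev F k (c • y) = c • ev F k y := by
  simp only [ev, Pi.smul_apply, smul_eq_mul, smul_add, smul_smul]

theorem mulVec_ev (A : Matrix α α ℤ) (hA : Inv G A) (k : ZMod p) (y : Fin 2 → ℂ) :
    (A.map (Int.cast : ℤ → ℂ)).mulVec (ev F k y) = ev F k ((blk F A k).mulVec y) := by
  rw [ev_eq_sum, Matrix.mulVec_sum]
  simp only [Matrix.mulVec_smul, mulVec_evec F A hA]
  rw [ev_eq_sum]
  simp only [Matrix.mulVec, dotProduct, Fin.sum_univ_two, smul_add, smul_smul, add_smul]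
  module

theorem inv_transpose (A : Matrix α α ℤ) (hA : Inv G A) : Inv G A.transpose :=
  fun g hg i j => hA g hg j i

theorem blk_transpose (A : Matrix α α ℤ) (hA : Inv G A) (k : ZMod p) :
    blk F A.transpose k = (blk F A k).conjTranspose := by
  ext a a'
  simp only [Helper12_W2pDefs.mk, Matrix.transpose_apply, Matrix.conjTranspose_apply, star_sum,
    star_mul']
  rw [← Equiv.sum_comp (Equiv.neg (ZMod p))]
  refine Finset.sum_congr rfl fun d _ => ?_
  simp only [Equiv.neg_apply]
  have h3 := inv_shift F A hA d (-d) 0 a' a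
  rw [neg_add_cancel, zero_add] at h3
  rw [← h3, neg_mul, zc_neg]
  simp

theorem blk_trace (A : Matrix α α ℤ) (k : ZMod p) : (blk F A k).trace = tau F A k := by
  simp only [Matrix.trace, Matrix.diag, Helper12_W2pDefs.mk, Fin.sum_univ_two, tau, cf]
  rw [← Finset.sum_add_distrib]
  refine Finset.sum_congr rfl fun d _ => ?_
  push_cast
  ring

end Cfsg.Agent.Lib.Helper12_W2pCore
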