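import Cfsg.Agent.Lib.Helper12_W2pDefs
import Cfsg.Prelude.Def_Characters
import Cfsg.Prelude.Def_Blocks

set_option autoImplicit false

namespace Cfsg.Agent.Lib.Helper52_W2p_P7

open Equiv MulAction Cfsg.Agent.Lib.Helper12_W2pDefs

theorem P7_two (M : Matrix (Fin 2) (Fin 2) ℂ) (y : Fin 2 → ℂ) (hy : y ≠ 0) (t : ℂ)
    (h1 : M.mulVec y = t • y) (h2 : M.conjTranspose.mulVec y = (starRingEnd ℂ t) • y) :
    M.mulVec ![- starRingEnd ℂ (y 1), starRingEnd ℂ (y 0)] =
        (M.trace - t) • ![- starRingEnd ℂ (y 1), starRingEnd ℂ (y 0)] ∧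
      ∑ a, ∑ b, Complex.normSq (M a b) = Complex.normSq t + Complex.normSq (M.trace - t) := by
  have e1 : M 0 0 * y 0 + M 0 1 * y 1 = t * y 0 := by
    have := congrFun h1 0
    simpa [Matrix.mulVec, dotProduct, Fin.sum_univ_two] using this
  have e2 : M 1 0 * y 0 + M 1 1 * y 1 = t * y 1 := by
    have := congrFun h1 1
    simpa [Matrix.mulVec, dotProduct, Fin.sum_univ_two] using this
  have e3c : starRingEnd ℂ (M 0 0) * y 0 + starRingEnd ℂ (M 1 0) * y 1 = starRingEnd ℂ t * y 0 := by
    have := congrFun h2 0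
    simpa [Matrix.mulVec, dotProduct, Fin.sum_univ_two, Matrix.conjTranspose_apply] using this
  have e4c : starRingEnd ℂ (M 0 1) * y 0 + starRingEnd ℂ (M 1 1) * y 1 = starRingEnd ℂ t * y 1 := by
    have := congrFun h2 1
    simpa [Matrix.mulVec, dotProduct, Fin.sum_univ_two, Matrix.conjTranspose_apply] using this
  have e3 : M 0 0 * starRingEnd ℂ (y 0) + M 1 0 * starRingEnd ℂ (y 1) = t * starRingEnd ℂ (y 0) := by
    have := congrArg (starRingEnd ℂ) e3c
    simpa [map_add, map_mul] using this
  have e4 : M 0 1 * starRingEnd ℂ (y 0) + M 1 1 * starRingEnd ℂ (y 1) = t * starRingEnd ℂ (y 1) := by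
    have := congrArg (starRingEnd ℂ) e4c
    simpa [map_add, map_mul] using this
  have e1c : starRingEnd ℂ (M 0 0) * starRingEnd ℂ (y 0) + starRingEnd ℂ (M 0 1) * starRingEnd ℂ (y 1) =
      starRingEnd ℂ t * starRingEnd ℂ (y 0) := by
    have := congrArg (starRingEnd ℂ) e1
    simpa [map_add, map_mul] using this
  have e2c : starRingEnd ℂ (M 1 0) * starRingEnd ℂ (y 0) + starRingEnd ℂ (M 1 1) * starRingEnd ℂ (y 1) =
      starRingEnd ℂ t * starRingEnd ℂ (y 1) := by
    have := congrArg (starRingEnd ℂ) e2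
    simpa [map_add, map_mul] using this
  have htr : M.trace = M 0 0 + M 1 1 := by simp [Matrix.trace, Fin.sum_univ_two]
  refine ⟨?_, ?_⟩
  · ext i
    fin_cases i
    · simp only [Matrix.mulVec, dotProduct, Fin.sum_univ_two, htr]
      simp
      linear_combination e4
    · simp only [Matrix.mulVec, dotProduct, Fin.sum_univ_two, htr]
      simp
      linear_combination (-1 : ℂ) * e3
  · -- abbreviations
    set a := M 0 0
    set b := M 0 1
    set c := M 1 0
    set d := M 1 1
    set y0 := y 0
    set y1 := y 1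
    set ac := starRingEnd ℂ a
    set bc := starRingEnd ℂ b
    set cc := starRingEnd ℂ c
    set dc := starRingEnd ℂ d
    set tc := starRingEnd ℂ t
    set Y0 := starRingEnd ℂ y0
    set Y1 := starRingEnd ℂ y1
    have k5 : (a - t) * y0 * Y0 = (d - t) * y1 * Y1 := by
      linear_combination Y0 * e1 - y1 * e4
    have k5c : (ac - tc) * y0 * Y0 = (dc - tc) * y1 * Y1 := by
      linear_combination y0 * e1c - Y1 * e4c
    have kb : (y0 * Y0 + y1 * Y1) * b * bc =
        y1 * Y1 * (d - t) * (dc - tc) + y0 * Y0 * (a - t) * (ac - tc) := by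
      linear_combination y0 * bc * e4 - Y1 * (d - t) * e4c + Y1 * bc * e1 - (a - t) * y0 * e1c
    have kc : (y0 * Y0 + y1 * Y1) * c * cc =
        y1 * Y1 * (d - t) * (dc - tc) + y0 * Y0 * (a - t) * (ac - tc) := by
      linear_combination Y0 * cc * e2 - (d - t) * y1 * e2c + y1 * cc * e3 - Y0 * (a - t) * e3c
    have kn : (y0 * Y0 + y1 * Y1) *
        (a * ac + b * bc + c * cc + d * dc - t * tc - (a + d - t) * (ac + dc - tc)) = 0 := by
      linear_combination kb + kc + ((ac - tc) - (dc - tc)) * k5 + ((a - t) - (d - t)) * k5c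
    have hn : y0 * Y0 + y1 * Y1 ≠ 0 := by
      intro h0
      apply hy
      have h3 : ((Complex.normSq y0 + Complex.normSq y1 : ℝ) : ℂ) = 0 := by
        push_cast
        rw [← Complex.mul_conj, ← Complex.mul_conj]
        exact h0
      have h4 : Complex.normSq y0 + Complex.normSq y1 = 0 := by exact_mod_cast h3
      have h5 : Complex.normSq y0 = 0 := by
        have := Complex.normSq_nonneg y0
        have := Complex.normSq_nonneg y1
        linarith
      have h6 : Complex.normSq y1 = 0 := by
        have := Complex.normSq_nonneg y0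
        linarith
      ext i
      fin_cases i
      · exact Complex.normSq_eq_zero.1 h5
      · exact Complex.normSq_eq_zero.1 h6
    have hG := (mul_eq_zero.1 kn).resolve_left hn
    apply Complex.ofReal_injective
    simp only [Fin.sum_univ_two, htr]
    push_cast
    simp only [← Complex.mul_conj]
    have hs : starRingEnd ℂ (a + d - t) = ac + dc - tc := by rw [map_sub, map_add]
    rw [hs]
    linear_combination hG

section parseval
variable {p : ℕ} [Fact p.Prime]

lemma zeta_prim : IsPrimitiveRoot (zeta p) p := by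
  unfold zeta
  exact Complex.isPrimitiveRoot_exp p (Fact.out : p.Prime).ne_zero

/-- the additive character `m ↦ ζ ^ m.val` -/
noncomputable def chi (m : ZMod p) : ℂ := zeta p ^ m.val

lemma chi_add (m m' : ZMod p) : chi (m + m') = chi m * chi m' := by
  unfold chi
  rw [← pow_add, ZMod.val_add]
  have h1 := (zeta_prim (p := p)).pow_eq_one
  conv_rhs => rw [← Nat.mod_add_div (m.val + m'.val) p]
  rw [pow_add, pow_mul, h1, one_pow, mul_one]

lemma chi_zero : chi (0 : ZMod p) = 1 := by
  unfold chi
  simp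

lemma chi_ne_one {m : ZMod p} (hm : m ≠ 0) : chi m ≠ 1 := by
  unfold chi
  intro h
  have h1 := (zeta_prim (p := p)).dvd_of_pow_eq_one _ h
  have h2 : m.val < p := ZMod.val_lt m
  have h3 : m.val = 0 := Nat.eq_zero_of_dvd_of_lt h1 h2
  exact hm ((ZMod.val_eq_zero m).1 h3)

lemma chi_neg (m : ZMod p) : chi (-m) = starRingEnd ℂ (chi m) := by
  have h1 : chi (-m) * chi m = 1 := by rw [← chi_add, neg_add_cancel, chi_zero]
  have hnorm : ‖zeta p‖ = 1 := by
    unfold zeta
    have : (2 * Real.pi * Complex.I / (p : ℂ)) = ((2 * Real.pi / p : ℝ) : ℂ) * Complex.I := by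
      push_cast; ring
    rw [this, Complex.norm_exp_ofReal_mul_I]
  have h2 : starRingEnd ℂ (chi m) * chi m = 1 := by
    rw [Complex.conj_mul', chi, norm_pow, hnorm, one_pow]
    simp
  have hne : chi m ≠ 0 := by
    intro h0
    rw [h0, mul_zero] at h1
    exact zero_ne_one h1
  exact mul_right_cancel₀ hne (h1.trans h2.symm)

lemma sum_chi_mul (c : ZMod p) : ∑ k : ZMod p, chi (c * k) = if c = 0 then (p : ℂ) else 0 := by
  by_cases hc : c = 0
  · subst hc
    simp [chi_zero]
  · rw [if_neg hc]
    have h1 : chi c * ∑ k : ZMod p, chi (c * k) = ∑ k : ZMod p, chi (c * k) := by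
      rw [Finset.mul_sum]
      rw [← Equiv.sum_comp (Equiv.addRight (1 : ZMod p)) (fun k => chi (c * k))]
      apply Finset.sum_congr rfl
      intro k _
      rw [← chi_add]
      congr 1
      simp [mul_add, add_comm]
    have h2 : (chi c - 1) * ∑ k : ZMod p, chi (c * k) = 0 := by
      rw [sub_mul, h1, one_mul, sub_self]
    rcases mul_eq_zero.1 h2 with h3 | h3
    · exact absurd (sub_eq_zero.1 h3) (chi_ne_one hc)
    · exact h3

theorem P7_parseval (f : ZMod p → ℂ) :
    ∑ k : ZMod p, Complex.normSq (∑ d : ZMod p, f d * zeta p ^ (d * k).val) =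
      p * ∑ d, Complex.normSq (f d) := by
  apply Complex.ofReal_injective
  push_cast
  have h1 : ∀ k : ZMod p, ((Complex.normSq (∑ d : ZMod p, f d * zeta p ^ (d * k).val) : ℝ) : ℂ) =
      ∑ d : ZMod p, ∑ e : ZMod p, f d * starRingEnd ℂ (f e) * chi ((d - e) * k) := by
    intro k
    rw [← Complex.mul_conj, map_sum, Finset.sum_mul_sum]
    apply Finset.sum_congr rfl
    intro d _
    apply Finset.sum_congr rfl
    intro e _
    rw [map_mul]
    have h2 : starRingEnd ℂ (zeta p ^ (e * k).val) = chi (-(e * k)) := by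
      rw [chi_neg]; rfl
    rw [h2]
    have h3 : zeta p ^ (d * k).val = chi (d * k) := rfl
    rw [h3]
    have h4 : chi ((d - e) * k) = chi (d * k) * chi (-(e * k)) := by
      rw [← chi_add]; congr 1; ring
    rw [h4]
    ring
  simp only [h1]
  rw [Finset.sum_comm]
  have h5 : ∀ d : ZMod p, ∑ k : ZMod p, ∑ e : ZMod p, f d * starRingEnd ℂ (f e) * chi ((d - e) * k) =
      (p : ℂ) * ((Complex.normSq (f d) : ℝ) : ℂ) := by
    intro d
    rw [Finset.sum_comm]
    have h6 : ∀ e : ZMod p, ∑ k : ZMod p, f d * starRingEnd ℂ (f e) * chi ((d - e) * k) =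
        f d * starRingEnd ℂ (f e) * (if d - e = 0 then (p : ℂ) else 0) := by
      intro e
      rw [← Finset.mul_sum, sum_chi_mul]
    simp only [h6]
    rw [Finset.sum_eq_single d]
    · rw [sub_self, if_pos rfl, ← Complex.mul_conj]
      ring
    · intro e _ hed
      rw [if_neg (fun h => hed (sub_eq_zero.1 h).symm), mul_zero]
    · intro h; exact absurd (Finset.mem_univ d) h
  simp only [h5]
  rw [Finset.mul_sum]

end parseval

end Cfsg.Agent.Lib.Helper52_W2p_P7
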