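import Cfsg.Agent.Lib.Helper12_W2pDefs

/-!
# S0720 (Wielandt `2p`), package B1 (helper65): a `G`-invariant integer matrix has constant row and
column sums, acts on `U1` by the scalar `tw F A`, and `tw` is transpose-invariant.
(architect: helper12)
-/

set_option autoImplicit false
set_option linter.unusedSectionVars false

namespace Cfsg.Agent.Lib.Helper65_W2p_B1

open Equiv MulAction Cfsg.Agent.Lib.Helper12_W2pDefs

variable {α : Type*} [Fintype α] [DecidableEq α]

section

variable {p : ℕ} [Fact p.Prime] {G : Subgroup (Perm α)} (F : Frame G p)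

theorem pow_apply (n : ℕ) (i : ZMod p) (a : Fin 2) :
    (F.x ^ n) (F.φ (i, a)) = F.φ (i + n, a) := by
  induction n with
  | zero => simp
  | succ n ih =>
    rw [pow_succ', Perm.mul_apply, ih, F.hφ]
    congr 2
    push_cast
    ring

theorem exists_shift (i : ZMod p) :
    ∃ g ∈ G, ∀ (j : ZMod p) (a : Fin 2), g (F.φ (j, a)) = F.φ (j + i, a) := by
  refine ⟨F.x ^ i.val, pow_mem F.hx _, fun j a => ?_⟩
  rw [pow_apply, ZMod.natCast_zmod_val]

theorem shift_inv {R : Type*} {A : Matrix α α R} (hA : Inv G A) (i j j' : ZMod p) (a b : Fin 2) :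
    A (F.φ (j + i, a)) (F.φ (j' + i, b)) = A (F.φ (j, a)) (F.φ (j', b)) := by
  obtain ⟨g, hg, hgφ⟩ := exists_shift F i
  rw [← hgφ j a, ← hgφ j' b]
  exact hA g hg _ _

/-- sum over `α` in coordinates -/
theorem sum_coord {M : Type*} [AddCommMonoid M] (f : α → M) :
    ∑ ω, f ω = ∑ d : ZMod p, (f (F.φ (d, 0)) + f (F.φ (d, 1))) := by
  rw [← Equiv.sum_comp F.φ f, Fintype.sum_prod_type]
  refine Finset.sum_congr rfl (fun d _ => ?_)
  rw [Fin.sum_univ_two]

/-- block sums do not depend on the row inside a block -/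
theorem block_sum {A : Matrix α α ℤ} (hA : Inv G A) (i : ZMod p) (a b : Fin 2) :
    ∑ d : ZMod p, A (F.φ (i, a)) (F.φ (d, b)) = ∑ d : ZMod p, A (F.φ (0, a)) (F.φ (d, b)) := by
  rw [← Equiv.sum_comp (Equiv.addRight i) (fun d => A (F.φ (i, a)) (F.φ (d, b)))]
  refine Finset.sum_congr rfl (fun d _ => ?_)
  have := shift_inv F hA i 0 d a b
  rw [zero_add] at this
  simpa using this

/-- column block sums equal row block sums -/
theorem col_block_sum {A : Matrix α α ℤ} (hA : Inv G A) (a b : Fin 2) :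
    ∑ d : ZMod p, A (F.φ (d, a)) (F.φ (0, b)) = ∑ d : ZMod p, A (F.φ (0, a)) (F.φ (d, b)) := by
  rw [← Equiv.sum_comp (Equiv.neg (ZMod p)) (fun d => A (F.φ (0, a)) (F.φ (d, b)))]
  refine Finset.sum_congr rfl (fun d _ => ?_)
  have := shift_inv F hA (-d) d 0 a b
  rw [add_neg_cancel, zero_add] at this
  simpa using this.symm

end

/-- **B1**. -/
theorem B1 {p : ℕ} [Fact p.Prime] (G : Subgroup (Perm α)) [IsPretransitive G α] (F : Frame G p)
    (A : Matrix α α ℤ) (hA : Inv G A) :
    (∀ ω, ∑ ω', A ω ω' = rowSum F A) ∧ (∀ ω', ∑ ω, A ω ω' = rowSum F A) ∧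
    (∀ u ∈ U1 G F, (A.map (Int.cast : ℤ → ℂ)).mulVec u = (tw F A : ℂ) • u) ∧
    tw F A.transpose = tw F A := by
  set a₀ : α := F.φ (0, 0) with ha₀
  -- transitivity in the form we need
  have htrans : ∀ ω : α, ∃ g ∈ G, g a₀ = ω := by
    intro ω
    obtain ⟨g, hg⟩ := MulAction.exists_smul_eq G a₀ ω
    exact ⟨g.1, g.2, hg⟩
  -- row sums
  have hrow : ∀ ω, ∑ ω', A ω ω' = rowSum F A := by
    intro ω
    obtain ⟨g, hg, rfl⟩ := htrans ω
    rw [← Equiv.sum_comp g (fun ω' => A (g a₀) ω')]
    exact Finset.sum_congr rfl (fun ω' _ => hA g hg _ _)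
  -- column sums are constant
  have hcol0 : ∀ ω', ∑ ω, A ω ω' = ∑ ω, A ω a₀ := by
    intro ω'
    obtain ⟨g, hg, rfl⟩ := htrans ω'
    rw [← Equiv.sum_comp g (fun ω => A ω (g a₀))]
    exact Finset.sum_congr rfl (fun ω _ => hA g hg _ _)
  have hcol : ∀ ω', ∑ ω, A ω ω' = rowSum F A := by
    have h1 : ∑ ω' : α, ∑ ω : α, A ω ω' = ∑ ω : α, ∑ ω' : α, A ω ω' := Finset.sum_comm
    rw [Finset.sum_congr rfl (fun ω' _ => hcol0 ω'), Finset.sum_congr rfl (fun ω _ => hrow ω),
      Finset.sum_const, Finset.sum_const, nsmul_eq_mul, nsmul_eq_mul] at h1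
    have hcard : ((Finset.univ : Finset α).card : ℤ) ≠ 0 := by
      have : 0 < (Finset.univ : Finset α).card := Finset.card_pos.mpr ⟨a₀, Finset.mem_univ _⟩
      exact_mod_cast this.ne'
    intro ω'
    rw [hcol0 ω']
    exact mul_left_cancel₀ hcard h1
  -- block sums
  set S : Fin 2 → Fin 2 → ℤ := fun a b => ∑ d : ZMod p, A (F.φ (0, a)) (F.φ (d, b)) with hS
  have hrowS : ∀ a, S a 0 + S a 1 = rowSum F A := by
    intro a
    rw [← hrow (F.φ (0, a)), sum_coord F, Finset.sum_add_distrib]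
  have hcolS : ∀ b, S 0 b + S 1 b = rowSum F A := by
    intro b
    rw [← hcol (F.φ (0, b)), sum_coord F, Finset.sum_add_distrib,
      col_block_sum F hA 0 b, col_block_sum F hA 1 b]
  have hS10 : S 1 0 = S 0 1 := by
    have h1 := hrowS 0
    have h2 := hcolS 0
    linarith
  have hS11 : S 1 1 = S 0 0 := by
    have h1 := hrowS 1
    have h2 := hrowS 0
    linarith
  have htw : tw F A = S 0 0 - S 0 1 := by
    simp only [tw, hS, Finset.sum_sub_distrib]
  refine ⟨hrow, hcol, ?_, ?_⟩
  · -- action on U1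
    set M : Matrix α α ℂ := A.map (Int.cast : ℤ → ℂ) with hM
    have hMw : M.mulVec (wvec F) = (tw F A : ℂ) • wvec F := by
      funext ω
      obtain ⟨⟨i, a⟩, rfl⟩ := F.φ.surjective ω
      have hw : ∀ (d : ZMod p) (b : Fin 2), wvec F (F.φ (d, b)) = if b = 0 then 1 else -1 := by
        intro d b
        simp [wvec]
      have h1 : M.mulVec (wvec F) (F.φ (i, a)) = ((S a 0 - S a 1 : ℤ) : ℂ) := by
        simp only [Matrix.mulVec, dotProduct]
        rw [sum_coord F]
        simp only [hw, hM, Matrix.map_apply, if_true, Fin.isValue, one_ne_zero, if_false, mul_one,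
          mul_neg]
        rw [Finset.sum_add_distrib, Finset.sum_neg_distrib, ← Int.cast_sum, ← Int.cast_sum,
          block_sum F hA i a 0, block_sum F hA i a 1]
        simp only [hS]
        push_cast
        ring
      rw [h1, Pi.smul_apply, hw, smul_eq_mul, htw]
      fin_cases a
      · simp
      · simp only [Fin.mk_one, Fin.isValue, one_ne_zero, if_false, hS10, hS11]
        push_cast
        ring
    have hact : ∀ g ∈ G, ∀ v : α → ℂ, M.mulVec (act g v) = act g (M.mulVec v) := by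
      intro g hg v
      funext ω
      simp only [Matrix.mulVec, dotProduct, act]
      rw [← Equiv.sum_comp g (fun ω' => M ω ω' * v (g⁻¹ ω'))]
      refine Finset.sum_congr rfl (fun ω' _ => ?_)
      have h2 : A (g⁻¹ ω) ω' = A ω (g ω') := by
        have := hA g hg (g⁻¹ ω) ω'
        have h3 : g (g⁻¹ ω) = ω := by simp
        rw [h3] at this
        exact this.symm
      have h4 : g⁻¹ (g ω') = ω' := by simp
      simp only [hM, Matrix.map_apply, h2, h4]
    intro u hu
    refine Submodule.span_induction ?_ ?_ ?_ ?_ hu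
    · rintro v ⟨g, hg, rfl⟩
      rw [hact g hg, hMw]
      funext ω
      simp [act]
    · simp
    · intro v₁ v₂ _ _ h1 h2
      rw [Matrix.mulVec_add, h1, h2, smul_add]
    · intro c v _ h1
      rw [Matrix.mulVec_smul, h1, smul_comm]
  · -- transpose
    rw [htw]
    have : tw F A.transpose = S 0 0 - S 1 0 := by
      simp only [tw, Matrix.transpose_apply, Finset.sum_sub_distrib, hS]
      rw [col_block_sum F hA 0 0, col_block_sum F hA 1 0]
    rw [this, hS10]

end Cfsg.Agent.Lib.Helper65_W2p_B1
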