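import Cfsg.Agent.Lib.Helper12_W2pCore
import Cfsg.Agent.Lib.Helper65_W2p_B1
import Cfsg.Agent.Lib.Helper52_W2p_P7

set_option autoImplicit false
set_option linter.unusedSectionVars false
set_option linter.unusedVariables false
set_option linter.unusedSimpArgs false

/-!
# S0720 core, part 2 (helper12): the eigenvector structure of an invariant matrix at `k`

`blk_eig`, `perp`, `perp_ne_zero`, `D1`, `mulVec_perp` (on top of helper65's `B1` and helper52's `P7_two`).
-/

namespace Cfsg.Agent.Lib.Helper12_W2pCore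

open Equiv MulAction Cfsg.Agent.Lib.Helper12_W2pDefs
open scoped ComplexConjugate

variable {α : Type*} [Fintype α] [DecidableEq α] {G : Subgroup (Perm α)} {p : ℕ}
  [hp : Fact p.Prime]

local notation "blk" => Cfsg.Agent.Lib.Helper12_W2pDefs.mk

variable (F : Frame G p)

/-! ## the eigenvector structure at `k` -/

theorem blk_eig [IsPretransitive G α] (A : Matrix α α ℤ) (hA : Inv G A) (k : ZMod p)
    (y : Fin 2 → ℂ) (hy : ev F k y ∈ U1 G F) :
    (blk F A k).mulVec y = (tw F A : ℂ) • y ∧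
      (blk F A k).conjTranspose.mulVec y = (tw F A : ℂ) • y := by
  obtain ⟨-, -, h3, h4⟩ := Cfsg.Agent.Lib.Helper65_W2p_B1.B1 G F A hA
  obtain ⟨-, -, h3', -⟩ := Cfsg.Agent.Lib.Helper65_W2p_B1.B1 G F A.transpose (inv_transpose A hA)
  constructor
  · apply ev_inj F k
    rw [← mulVec_ev F A hA, h3 _ hy, ev_smul]
  · apply ev_inj F k
    rw [← blk_transpose F A hA, ← mulVec_ev F _ (inv_transpose A hA), h3' _ hy, ev_smul, h4]

/-- the orthogonal companion of `y` -/
noncomputable def perp (y : Fin 2 → ℂ) : Fin 2 → ℂ := ![- conj (y 1), conj (y 0)]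

theorem perp_ne_zero (y : Fin 2 → ℂ) (hy : y ≠ 0) : perp y ≠ 0 := by
  intro h
  apply hy
  have h0 := congrFun h 0
  have h1 := congrFun h 1
  simp only [perp, Matrix.cons_val_zero, Matrix.cons_val_one, Pi.zero_apply, neg_eq_zero,
    map_eq_zero] at h0 h1
  funext a
  fin_cases a
  · exact h1
  · exact h0

theorem D1 [IsPretransitive G α] (A : Matrix α α ℤ) (hA : Inv G A) (k : ZMod p)
    (y : Fin 2 → ℂ) (hy0 : y ≠ 0) (hy : ev F k y ∈ U1 G F) :
    (blk F A k).mulVec (perp y) = (tau F A k - tw F A) • perp y ∧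
      ∑ a, ∑ b, Complex.normSq (blk F A k a b) =
        Complex.normSq (tw F A : ℂ) + Complex.normSq (tau F A k - tw F A) := by
  obtain ⟨h1, h2⟩ := blk_eig F A hA k y hy
  have h2' : (blk F A k).conjTranspose.mulVec y = (starRingEnd ℂ (tw F A : ℂ)) • y := by
    rw [h2]; simp
  have := Cfsg.Agent.Lib.Helper52_W2p_P7.P7_two (blk F A k) y hy0 (tw F A : ℂ) h1 h2'
  rw [blk_trace] at this
  exact this

theorem mulVec_perp [IsPretransitive G α] (A : Matrix α α ℤ) (hA : Inv G A) (k : ZMod p)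
    (y : Fin 2 → ℂ) (hy0 : y ≠ 0) (hy : ev F k y ∈ U1 G F) :
    (A.map (Int.cast : ℤ → ℂ)).mulVec (ev F k (perp y)) =
      (tau F A k - tw F A) • ev F k (perp y) := by
  rw [mulVec_ev F A hA, (D1 F A hA k y hy0 hy).1, ev_smul]

end Cfsg.Agent.Lib.Helper12_W2pCore
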