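import Mathlib
import Cfsg.Agent.Lib.Helper12_W2pDefs

set_option autoImplicit false
set_option linter.unusedSectionVars false

namespace Cfsg.Agent.Lib.Helper24_W2p_Fourier

open Equiv (Perm)
open Cfsg.Agent.Lib.Helper12_W2pDefs

section zeta

variable (p : ℕ) [Fact p.Prime]

theorem zeta_prim : IsPrimitiveRoot (zeta p) p :=
  Complex.isPrimitiveRoot_exp p (NeZero.ne p)

theorem zeta_pow_p : zeta p ^ p = 1 := (zeta_prim p).pow_eq_one

theorem zeta_ne_zero : zeta p ≠ 0 := by
  intro h
  have := zeta_pow_p p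
  rw [h, zero_pow (NeZero.ne p)] at this
  exact zero_ne_one this

theorem zeta_pow_mod (n : ℕ) : zeta p ^ (n % p) = zeta p ^ n := by
  conv_rhs => rw [← Nat.div_add_mod n p, pow_add, pow_mul, zeta_pow_p, one_pow, one_mul]

/-- the additive character `m ↦ ζ ^ m.val` -/
noncomputable def chi (m : ZMod p) : ℂ := zeta p ^ m.val

theorem chi_add (m n : ZMod p) : chi p (m + n) = chi p m * chi p n := by
  unfold chi
  rw [ZMod.val_add, zeta_pow_mod, pow_add]

theorem chi_zero : chi p 0 = 1 := by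
  unfold chi
  rw [ZMod.val_zero, pow_zero]

theorem chi_neg_mul (m : ZMod p) : chi p (-m) * chi p m = 1 := by
  rw [← chi_add, neg_add_cancel, chi_zero]

theorem chi_ne_zero (m : ZMod p) : chi p m ≠ 0 := pow_ne_zero _ (zeta_ne_zero p)

theorem sum_chi : ∑ i : ZMod p, chi p i = 0 := by
  have h1 : ∑ i ∈ Finset.range p, zeta p ^ i = 0 :=
    (zeta_prim p).geom_sum_eq_zero (Fact.out : p.Prime).one_lt
  rw [← h1]
  unfold chi
  refine Finset.sum_nbij' (fun i => i.val) (fun n => (n : ZMod p)) ?_ ?_ ?_ ?_ ?_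
  · intro i _
    exact Finset.mem_range.mpr (ZMod.val_lt i)
  · intro n _
    exact Finset.mem_univ _
  · intro i _
    exact ZMod.natCast_zmod_val i
  · intro n hn
    exact ZMod.val_cast_of_lt (Finset.mem_range.mp hn)
  · intro i _
    rfl

theorem sum_chi_mul (k : ZMod p) : ∑ i : ZMod p, chi p (i * k) = if k = 0 then (p : ℂ) else 0 := by
  split_ifs with hk
  · subst hk
    simp [chi_zero]
  · rw [← sum_chi p]
    have hk' : IsUnit k := isUnit_iff_ne_zero.mpr hk
    exact Fintype.sum_bijective (fun i => i * k) (hk'.unit.mulRight_bijective) _ _ (fun i => rfl)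

end zeta


section frame

variable {α : Type*} [Fintype α] [DecidableEq α] {G : Subgroup (Perm α)} {p : ℕ} [Fact p.Prime]

theorem shift_pow (F : Frame G p) (n : ℕ) (i : ZMod p) (a : Fin 2) :
    (F.x ^ n) (F.φ (i, a)) = F.φ (i + n, a) := by
  induction n with
  | zero => simp
  | succ n ih =>
    rw [pow_succ', Perm.mul_apply, ih, F.hφ]
    congr 2
    push_cast
    ring

theorem shift_pow_inv (F : Frame G p) (n : ℕ) (i : ZMod p) (a : Fin 2) :
    (F.x ^ n)⁻¹ (F.φ (i, a)) = F.φ (i - n, a) := by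
  rw [Perm.inv_eq_iff_eq, shift_pow]
  congr 2
  ring

theorem pow_mem (F : Frame G p) (n : ℕ) : F.x ^ n ∈ G := Subgroup.pow_mem G F.hx n

theorem inv_shift (F : Frame G p) {R : Type*} (A : Matrix α α R) (hA : Inv G A)
    (j i i' : ZMod p) (a a' : Fin 2) :
    A (F.φ (i + j, a)) (F.φ (i' + j, a')) = A (F.φ (i, a)) (F.φ (i', a')) := by
  have h := hA (F.x ^ j.val) (pow_mem F j.val) (F.φ (i, a)) (F.φ (i', a'))
  rw [shift_pow, shift_pow, ZMod.natCast_zmod_val] at h
  exact h

/-- the vector `z 0 • e_{k,0} + z 1 • e_{k,1}` -/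
noncomputable def comb (F : Frame G p) (k : ZMod p) (z : Fin 2 → ℂ) : α → ℂ :=
  z 0 • evec F k 0 + z 1 • evec F k 1

theorem evec_apply (F : Frame G p) (k : ZMod p) (a : Fin 2) (i : ZMod p) (a' : Fin 2) :
    evec F k a (F.φ (i, a')) = if a' = a then chi p (i * k) else 0 := by
  unfold evec chi
  simp

theorem comb_apply (F : Frame G p) (k : ZMod p) (z : Fin 2 → ℂ) (i : ZMod p) (a : Fin 2) :
    comb F k z (F.φ (i, a)) = z a * chi p (i * k) := by
  unfold comb
  simp only [Pi.add_apply, Pi.smul_apply, smul_eq_mul, evec_apply]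
  fin_cases a <;> simp

theorem sum_frame (F : Frame G p) (f : α → ℂ) :
    ∑ ω, f ω = ∑ a : Fin 2, ∑ i : ZMod p, f (F.φ (i, a)) := by
  rw [← Equiv.sum_comp F.φ, Fintype.sum_prod_type, Finset.sum_comm]

theorem mulVec_comb (F : Frame G p) (A : Matrix α α ℤ) (hA : Inv G A) (k : ZMod p)
    (z : Fin 2 → ℂ) :
    (A.map (Int.cast : ℤ → ℂ)).mulVec (comb F k z) = comb F k ((mk F A k).mulVec z) := by
  funext ω
  obtain ⟨⟨i, a⟩, rfl⟩ := F.φ.surjective ω
  rw [comb_apply, Matrix.mulVec, dotProduct, sum_frame F]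
  simp only [Matrix.map_apply, comb_apply, Matrix.mulVec, dotProduct, mk]
  rw [Finset.sum_mul]
  refine Finset.sum_congr rfl (fun b _ => ?_)
  rw [Finset.sum_mul, Finset.sum_mul]
  rw [← Equiv.sum_comp (Equiv.addRight i)]
  refine Finset.sum_congr rfl (fun d _ => ?_)
  simp only [Equiv.coe_addRight]
  have h1 : A (F.φ (i, a)) (F.φ (d + i, b)) = A (F.φ (0, a)) (F.φ (d, b)) := by
    have := inv_shift F A hA i 0 d a b
    rwa [zero_add] at this
  have h2 : chi p ((d + i) * k) = chi p (d * k) * chi p (i * k) := by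
    rw [add_mul, chi_add]
  rw [h1, h2]
  unfold chi
  ring

theorem mk_transpose (F : Frame G p) (A : Matrix α α ℤ) (hA : Inv G A) (k : ZMod p) :
    mk F A.transpose (-k) = (mk F A k).transpose := by
  funext a a'
  simp only [mk, Matrix.transpose_apply]
  rw [← Equiv.sum_comp (Equiv.neg (ZMod p))]
  refine Finset.sum_congr rfl (fun d _ => ?_)
  simp only [Equiv.neg_apply]
  have h1 : A (F.φ (-d, a')) (F.φ (0, a)) = A (F.φ (0, a')) (F.φ (d, a)) := by
    have := inv_shift F A hA d (-d) 0 a' a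
    rw [neg_add_cancel, zero_add] at this
    exact this.symm
  rw [h1, neg_mul_neg]

theorem trace_mk (F : Frame G p) (A : Matrix α α ℤ) (k : ZMod p) :
    (mk F A k).trace = tau F A k := by
  rw [Matrix.trace_fin_two]
  simp only [mk, tau, cf]
  rw [← Finset.sum_add_distrib]
  refine Finset.sum_congr rfl (fun d _ => ?_)
  push_cast
  ring

theorem two_by_two (m : Matrix (Fin 2) (Fin 2) ℂ) (y : Fin 2 → ℂ) (t : ℂ)
    (h : m.mulVec y = t • y) :
    m.transpose.mulVec ![-y 1, y 0] = (m.trace - t) • ![-y 1, y 0] := by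
  have h0 := congrFun h 0
  have h1 := congrFun h 1
  simp only [Matrix.mulVec, dotProduct, Fin.sum_univ_two, Pi.smul_apply, smul_eq_mul] at h0 h1
  funext a
  fin_cases a
  · simp only [Matrix.mulVec, dotProduct, Fin.sum_univ_two, Pi.smul_apply, smul_eq_mul,
      Matrix.transpose_apply, Matrix.trace_fin_two]
    simp
    linear_combination h1
  · simp only [Matrix.mulVec, dotProduct, Fin.sum_univ_two, Pi.smul_apply, smul_eq_mul,
      Matrix.transpose_apply, Matrix.trace_fin_two]
    simp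
    linear_combination (-1 : ℂ) * h0


theorem comb_smul (F : Frame G p) (k : ZMod p) (c : ℂ) (z : Fin 2 → ℂ) :
    comb F k (c • z) = c • comb F k z := by
  unfold comb
  simp only [Pi.smul_apply, smul_eq_mul, smul_add, smul_smul]

theorem comb_add (F : Frame G p) (k : ZMod p) (z z' : Fin 2 → ℂ) :
    comb F k (z + z') = comb F k z + comb F k z' := by
  unfold comb
  simp only [Pi.add_apply, add_smul]
  abel

theorem comb_injective (F : Frame G p) (k : ZMod p) : Function.Injective (comb F k) := by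
  intro z z' h
  funext a
  have h1 := congrFun h (F.φ (0, a))
  rw [comb_apply, comb_apply, zero_mul, chi_zero, mul_one, mul_one] at h1
  exact h1

theorem comb_ne_zero (F : Frame G p) (k : ZMod p) (z : Fin 2 → ℂ) (hz : z ≠ 0) :
    comb F k z ≠ 0 := by
  intro h
  apply hz
  apply comb_injective F k
  rw [h]
  funext ω
  simp [comb]

theorem sum_comb (F : Frame G p) (k : ZMod p) (z : Fin 2 → ℂ) :
    ∑ ω, comb F k z ω = (∑ a, z a) * (if k = 0 then (p : ℂ) else 0) := by
  rw [sum_frame F, Finset.sum_mul]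
  refine Finset.sum_congr rfl (fun a _ => ?_)
  simp only [comb_apply]
  rw [← Finset.mul_sum, sum_chi_mul]

theorem inv_transpose {R : Type*} (A : Matrix α α R) (hA : Inv G A) : Inv G A.transpose := by
  intro g hg i j
  simp only [Matrix.transpose_apply]
  exact hA g hg j i

theorem wvec_eq (F : Frame G p) : wvec F = comb F 0 ![1, -1] := by
  funext ω
  obtain ⟨⟨i, a⟩, rfl⟩ := F.φ.surjective ω
  rw [comb_apply, mul_zero, chi_zero, mul_one]
  unfold wvec
  fin_cases a <;> simp

theorem wvec_mem (F : Frame G p) : wvec F ∈ U1 G F := by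
  apply Submodule.subset_span
  refine ⟨1, G.one_mem, ?_⟩
  funext ω
  simp [act]

theorem sum_wvec (F : Frame G p) : ∑ ω, wvec F ω = 0 := by
  rw [wvec_eq, sum_comb]
  simp

theorem wvec_ne_zero (F : Frame G p) : wvec F ≠ 0 := by
  rw [wvec_eq]
  apply comb_ne_zero
  intro h
  have := congrFun h 0
  simp at this

/-- the dual vector attached to an eigen-coordinate vector `y` in the `k`-th eigenspace -/
noncomputable def vstar (F : Frame G p) (k : ZMod p) (y : Fin 2 → ℂ) : α → ℂ :=
  comb F (-k) ![-y 1, y 0]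

theorem vstar_ne_zero (F : Frame G p) (k : ZMod p) (y : Fin 2 → ℂ) (hy : y ≠ 0) :
    vstar F k y ≠ 0 := by
  apply comb_ne_zero
  intro h
  apply hy
  funext a
  have h0 := congrFun h 0
  have h1 := congrFun h 1
  fin_cases a
  · simpa using h1
  · simpa using h0

theorem sum_vstar (F : Frame G p) (k : ZMod p) (hk : k ≠ 0) (y : Fin 2 → ℂ) :
    ∑ ω, vstar F k y ω = 0 := by
  unfold vstar
  rw [sum_comb, if_neg (neg_ne_zero.mpr hk), mul_zero]

/-- eigen-coordinates: if `comb F k y` is an eigenvector of `A` then `y` is one of `mk F A k` -/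
theorem mk_mulVec_of_eigen (F : Frame G p) (A : Matrix α α ℤ) (hA : Inv G A) (k : ZMod p)
    (y : Fin 2 → ℂ) (t : ℂ)
    (h : (A.map (Int.cast : ℤ → ℂ)).mulVec (comb F k y) = t • comb F k y) :
    (Cfsg.Agent.Lib.Helper12_W2pDefs.mk F A k).mulVec y = t • y := by
  apply comb_injective F k
  rw [← mulVec_comb F A hA, h, comb_smul]

theorem transpose_mulVec_vstar (F : Frame G p) (A : Matrix α α ℤ) (hA : Inv G A) (k : ZMod p)
    (y : Fin 2 → ℂ) (t : ℂ)
    (h : (Cfsg.Agent.Lib.Helper12_W2pDefs.mk F A k).mulVec y = t • y) :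
    (A.transpose.map (Int.cast : ℤ → ℂ)).mulVec (vstar F k y) =
      (tau F A k - t) • vstar F k y := by
  unfold vstar
  rw [mulVec_comb F A.transpose (inv_transpose A hA), mk_transpose F A hA, two_by_two _ y t h,
    comb_smul, trace_mk]

end frame

end Cfsg.Agent.Lib.Helper24_W2p_Fourier
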