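import Mathlib
import Cfsg.Agent.Lib.Helper12_W2pDefs
import Cfsg.Prelude.Def_Characters
import Cfsg.Prelude.Def_Blocks
import Cfsg.Agent.Lib.Helper3_CharBridge
import Cfsg.Agent.Lib.Helper3_CharEigen

/-!
# S0720 (Wielandt, degree `2p`), package P2 (helper80)

An invariant nonzero sum-zero subspace `Y` of the permutation module of a primitive group carries
a faithful character, hence `p ≤ 2 dim Y + 1` by the hypothesis `hFT`.
-/

set_option autoImplicit false

namespace Cfsg.Agent.Lib.Helper80_W2p_P2

open Equiv MulAction Cfsg.Agent.Lib.Helper12_W2pDefs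

variable {α : Type*} [Fintype α] [DecidableEq α]

omit [Fintype α] [DecidableEq α] in
theorem act_mul (g h : Perm α) (v : α → ℂ) : act (g * h) v = act g (act h v) := by
  funext ω
  simp [act, mul_inv_rev, Perm.mul_apply]

omit [Fintype α] [DecidableEq α] in
theorem act_one (v : α → ℂ) : act (1 : Perm α) v = v := by
  funext ω
  simp [act]

/-- the representation of `G` on an invariant subspace -/
noncomputable def repOn (G : Subgroup (Perm α)) (Y : Submodule ℂ (α → ℂ))
    (hinv : ∀ g ∈ G, ∀ v ∈ Y, act g v ∈ Y) : Representation ℂ G Y where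
  toFun g :=
    { toFun := fun v => ⟨act (g : Perm α) v, hinv g g.2 v v.2⟩
      map_add' := fun v w => by
        apply Subtype.ext
        funext ω
        simp [act]
      map_smul' := fun c v => by
        apply Subtype.ext
        funext ω
        simp [act] }
  map_one' := by
    ext v
    simp [act_one]
  map_mul' g h := by
    ext v
    simp [act_mul]

omit [DecidableEq α] in
theorem repOn_apply (G : Subgroup (Perm α)) (Y : Submodule ℂ (α → ℂ))
    (hinv : ∀ g ∈ G, ∀ v ∈ Y, act g v ∈ Y) (g : G) (v : Y) :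
    ((repOn G Y hinv g v : Y) : α → ℂ) = act (g : Perm α) v := rfl

/-- **P2** -/
theorem P2 {p : ℕ} (G : Subgroup (Perm α)) (hG : IsPreprimitive G α)
    (hFT : ∀ χ : G → ℂ, Cfsg.IsCharacter G χ → (∀ g : G, χ g = χ 1 → g = 1) →
      p ≤ 2 * Cfsg.charDegree χ + 1)
    (Y : Submodule ℂ (α → ℂ)) (hinv : ∀ g ∈ G, ∀ v ∈ Y, act g v ∈ Y)
    (hsum : ∀ v ∈ Y, ∑ ω, v ω = 0) (hne : Y ≠ ⊥) : p ≤ 2 * Module.finrank ℂ Y + 1 := by
  set ρ := repOn G Y hinv with hρ
  have hχ : Cfsg.IsCharacter G ρ.character :=
    Cfsg.Agent.Lib.Helper3_CharBridge.isCharacter_of_rep ρ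
  have hdeg : Cfsg.charDegree ρ.character = Module.finrank ℂ Y := by
    unfold Cfsg.charDegree
    rw [Representation.char_one]
    simp
  have hfaith : ∀ g : G, ρ.character g = ρ.character 1 → g = 1 := by
    intro g hg
    rw [Representation.char_one] at hg
    have hid := (Cfsg.Agent.Lib.Helper3_CharEigen.char_eq_finrank_iff ρ g).mp hg
    by_contra hg1
    -- the kernel is a nontrivial normal subgroup, hence transitive
    have hgK : g ∈ (ρ : G →* (Y →ₗ[ℂ] Y)).ker := by
      rw [MonoidHom.mem_ker]
      exact hid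
    have hfix : fixedPoints (ρ : G →* (Y →ₗ[ℂ] Y)).ker α ≠ Set.univ := by
      intro huniv
      apply hg1
      apply Subtype.ext
      ext ω
      have hω : ω ∈ fixedPoints (ρ : G →* (Y →ₗ[ℂ] Y)).ker α := by
        rw [huniv]
        exact Set.mem_univ ω
      have h1 := hω ⟨g, hgK⟩
      exact h1
    have htrans : IsPretransitive (ρ : G →* (Y →ₗ[ℂ] Y)).ker α :=
      IsQuasiPreprimitive.isPretransitive_of_normal hfix
    apply hne
    rw [eq_bot_iff]
    intro v hv
    rw [Submodule.mem_bot]
    have hconst : ∀ ω ω' : α, v ω = v ω' := by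
      intro ω ω'
      obtain ⟨k, hk⟩ := htrans.exists_smul_eq ω ω'
      have h1 : ρ (k : G) ⟨v, hv⟩ = ⟨v, hv⟩ := by
        rw [MonoidHom.mem_ker.mp k.2]
        rfl
      have h2 := congrFun (congrArg Subtype.val h1) ω'
      rw [repOn_apply] at h2
      have h3 : (((k : G) : Perm α))⁻¹ ω' = ω := by
        rw [← hk]
        show (((k : G) : Perm α))⁻¹ (((k : G) : Perm α) ω) = ω
        simp
      simp only [act] at h2
      rw [h3] at h2
      exact h2
    funext ω
    have h1 := hsum v hv
    rw [Finset.sum_congr rfl (fun ω' _ => hconst ω' ω), Finset.sum_const, Finset.card_univ,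
      nsmul_eq_mul] at h1
    rcases mul_eq_zero.mp h1 with h2 | h2
    · have h3 : Fintype.card α = 0 := by exact_mod_cast h2
      have : IsEmpty α := Fintype.card_eq_zero_iff.mp h3
      exact (IsEmpty.false ω).elim
    · exact h2
  have h1 := hFT ρ.character hχ hfaith
  rwa [hdeg] at h1

end Cfsg.Agent.Lib.Helper80_W2p_P2
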