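import Mathlib
import Cfsg.Agent.Lib.Helper12_W2pDefs
import Cfsg.Prelude.Def_Characters
import Cfsg.Prelude.Def_Blocks
import Cfsg.Agent.Lib.Helper24_W2p_Fourier
import Cfsg.Agent.Lib.Helper65_W2p_B1
import Cfsg.Agent.Lib.Helper80_W2p_P2

set_option autoImplicit false
set_option linter.unusedSectionVars false

namespace Cfsg.Agent.Lib.Helper24_W2p_C5

open Equiv (Perm)
open Cfsg.Agent.Lib.Helper12_W2pDefs Cfsg.Agent.Lib.Helper24_W2p_Fourier

variable {α : Type*} [Fintype α] [DecidableEq α]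

section actlemmas

theorem act_add' (g : Perm α) (u v : α → ℂ) : act g (u + v) = act g u + act g v := rfl

theorem act_smul' (g : Perm α) (c : ℂ) (v : α → ℂ) : act g (c • v) = c • act g v := rfl

theorem act_mul' (g h : Perm α) (v : α → ℂ) : act (g * h) v = act g (act h v) := by
  funext ω
  simp [act, mul_inv_rev, Perm.mul_apply]

theorem sum_act (g : Perm α) (v : α → ℂ) : ∑ ω, act g v ω = ∑ ω, v ω :=
  Equiv.sum_comp g⁻¹ v

theorem dot_act (g : Perm α) (v u : α → ℂ) : act g v ⬝ᵥ u = v ⬝ᵥ act g⁻¹ u := by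
  unfold dotProduct act
  rw [← Equiv.sum_comp g]
  simp

theorem mulVec_act (M : Matrix α α ℂ) (g : Perm α) (hM : ∀ i j, M (g i) (g j) = M i j)
    (v : α → ℂ) : M.mulVec (act g v) = act g (M.mulVec v) := by
  funext ω
  unfold Matrix.mulVec dotProduct act
  rw [← Equiv.sum_comp g]
  refine Finset.sum_congr rfl (fun ω' _ => ?_)
  have h1 := hM (g⁻¹ ω) ω'
  have h2 : g (g⁻¹ ω) = ω := (Equiv.eq_symm_apply g).mp rfl
  have h3 : g⁻¹ (g ω') = ω' := Equiv.Perm.inv_eq_iff_eq.mpr rfl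
  rw [h2] at h1
  show M ω (g ω') * v (g⁻¹ (g ω')) = M (g⁻¹ ω) ω' * v ω'
  rw [h1, h3]

theorem act_mem_U1 {G : Subgroup (Perm α)} {p : ℕ} (F : Frame G p) (g : Perm α) (hg : g ∈ G)
    (u : α → ℂ) (hu : u ∈ U1 G F) : act g u ∈ U1 G F := by
  unfold U1 at hu ⊢
  induction hu using Submodule.span_induction with
  | mem v hv =>
    obtain ⟨h, hh, rfl⟩ := hv
    apply Submodule.subset_span
    exact ⟨g * h, G.mul_mem hg hh, (act_mul' g h _).symm⟩
  | zero => exact Submodule.zero_mem _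
  | add v w _ _ hv hw =>
    rw [act_add']
    exact Submodule.add_mem _ hv hw
  | smul c v _ hv =>
    rw [act_smul']
    exact Submodule.smul_mem _ c hv

end actlemmas

section det2

/-- the `2 × 2` determinant of two coordinate vectors -/
def det2 (y z : Fin 2 → ℂ) : ℂ := y 0 * z 1 - y 1 * z 0

theorem det2_mulVec (m : Matrix (Fin 2) (Fin 2) ℂ) (y z : Fin 2 → ℂ) (t : ℂ)
    (h : m.mulVec y = t • y) : det2 y (m.mulVec z) = (m.trace - t) * det2 y z := by
  have h0 := congrFun h 0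
  have h1 := congrFun h 1
  simp only [Matrix.mulVec, dotProduct, Fin.sum_univ_two, Pi.smul_apply, smul_eq_mul] at h0 h1
  simp only [det2, Matrix.mulVec, dotProduct, Fin.sum_univ_two, Matrix.trace_fin_two]
  linear_combination (-(z 1)) * h0 + (z 0) * h1

theorem span2 (y z z' : Fin 2 → ℂ) (h : det2 y z ≠ 0) :
    z' = (det2 z' z / det2 y z) • y + (det2 y z' / det2 y z) • z := by
  funext a
  simp only [Pi.add_apply, Pi.smul_apply, smul_eq_mul]
  fin_cases a
  · simp only [Fin.zero_eta, Fin.isValue]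
    field_simp
    simp only [det2]
    ring
  · simp only [Fin.mk_one, Fin.isValue]
    field_simp
    simp only [det2]
    ring

/-- a vector independent of `y` -/
noncomputable def gfun (y : Fin 2 → ℂ) : Fin 2 → ℂ := if y 0 ≠ 0 then ![0, 1] else ![1, 0]

theorem det2_gfun (y : Fin 2 → ℂ) (hy : y ≠ 0) : det2 y (gfun y) ≠ 0 := by
  unfold gfun
  split_ifs with h0
  · simpa [det2] using h0
  · push Not at h0
    have h1 : y 1 ≠ 0 := by
      intro h1
      apply hy
      funext a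
      fin_cases a
      · exact h0
      · exact h1
    simpa [det2] using h1

end det2


section fourier

variable {G : Subgroup (Perm α)} {p : ℕ} [Fact p.Prime]

theorem dot_comb (F : Frame G p) (v : α → ℂ) (k : ZMod p) (z : Fin 2 → ℂ) :
    v ⬝ᵥ comb F k z = ∑ a, z a * ∑ i, v (F.φ (i, a)) * chi p (i * k) := by
  unfold dotProduct
  rw [sum_frame F]
  refine Finset.sum_congr rfl (fun a _ => ?_)
  rw [Finset.mul_sum]
  refine Finset.sum_congr rfl (fun i _ => ?_)
  rw [comb_apply]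
  ring

/-- the Fourier coefficients of `u` at `k` -/
noncomputable def fc (F : Frame G p) (u : α → ℂ) (k : ZMod p) : Fin 2 → ℂ :=
  fun a => ∑ i, u (F.φ (i, a)) * chi p (i * (-k))

theorem dot_vstar (F : Frame G p) (u : α → ℂ) (k : ZMod p) (y : Fin 2 → ℂ) :
    u ⬝ᵥ vstar F k y = det2 y (fc F u k) := by
  unfold vstar
  rw [dot_comb, Fin.sum_univ_two]
  simp only [det2, fc, Matrix.cons_val_zero, Matrix.cons_val_one]
  ring

theorem proj_eq (F : Frame G p) (u : α → ℂ) (k : ZMod p) :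
    comb F k (fc F u k) = ∑ i : ZMod p, chi p (i * k) • act (F.x ^ i.val) u := by
  funext ω
  obtain ⟨⟨j, a⟩, rfl⟩ := F.φ.surjective ω
  rw [comb_apply, Finset.sum_apply]
  simp only [Pi.smul_apply, smul_eq_mul, act, fc]
  rw [Finset.sum_mul, ← Equiv.sum_comp (Equiv.subLeft j)]
  refine Finset.sum_congr rfl (fun m _ => ?_)
  simp only [Equiv.subLeft_apply]
  rw [shift_pow_inv, ZMod.natCast_zmod_val]
  have h1 : chi p (m * k) = chi p ((j - m) * (-k)) * chi p (j * k) := by
    rw [← chi_add]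
    congr 1
    ring
  rw [h1]
  ring

theorem proj_mem (F : Frame G p) (u : α → ℂ) (hu : u ∈ U1 G F) (k : ZMod p) :
    comb F k (fc F u k) ∈ U1 G F := by
  rw [proj_eq]
  refine Submodule.sum_mem _ (fun i _ => Submodule.smul_mem _ _ ?_)
  exact act_mem_U1 F _ (pow_mem F i.val) u hu

theorem vstar_dot_U1 (F : Frame G p) (k : ZMod p) (y : Fin 2 → ℂ) (hyU : comb F k y ∈ U1 G F)
    (hnC : ¬ Contains G F k) (u : α → ℂ) (hu : u ∈ U1 G F) : vstar F k y ⬝ᵥ u = 0 := by
  rw [dotProduct_comm, dot_vstar]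
  by_contra hne
  apply hnC
  intro z'
  show comb F k z' ∈ U1 G F
  rw [span2 y (fc F u k) z' hne, comb_add, comb_smul, comb_smul]
  exact Submodule.add_mem _ (Submodule.smul_mem _ _ hyU)
    (Submodule.smul_mem _ _ (proj_mem F u hu k))

/-- Fourier inversion: a vector orthogonal to all Fourier vectors vanishes -/
theorem eq_zero_of_dot_comb (F : Frame G p) (v : α → ℂ)
    (h : ∀ k z, v ⬝ᵥ comb F k z = 0) : v = 0 := by
  funext ω
  obtain ⟨⟨j, a⟩, rfl⟩ := F.φ.surjective ω
  have h1 : ∀ k : ZMod p, ∑ i, v (F.φ (i, a)) * chi p (i * k) = 0 := by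
    intro k
    have h2 := h k (Pi.single a 1)
    rw [dot_comb] at h2
    rw [Finset.sum_eq_single a] at h2
    · simpa using h2
    · intro b _ hb
      rw [Pi.single_eq_of_ne hb, zero_mul]
    · intro ha
      exact absurd (Finset.mem_univ a) ha
  have h3 : ∑ k : ZMod p, chi p (-j * k) * ∑ i, v (F.φ (i, a)) * chi p (i * k) = 0 := by
    apply Finset.sum_eq_zero
    intro k _
    rw [h1 k, mul_zero]
  have h4 : ∑ k : ZMod p, chi p (-j * k) * ∑ i, v (F.φ (i, a)) * chi p (i * k) =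
      (p : ℂ) * v (F.φ (j, a)) := by
    simp only [Finset.mul_sum]
    rw [Finset.sum_comm]
    have h5 : ∀ i : ZMod p, ∑ k : ZMod p, chi p (-j * k) * (v (F.φ (i, a)) * chi p (i * k)) =
        v (F.φ (i, a)) * (if i - j = 0 then (p : ℂ) else 0) := by
      intro i
      rw [← sum_chi_mul p (i - j), Finset.mul_sum]
      rw [← Equiv.sum_comp (Equiv.refl (ZMod p))]
      refine Finset.sum_congr rfl (fun k _ => ?_)
      have h6 : chi p (k * (i - j)) = chi p (-j * k) * chi p (i * k) := by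
        rw [← chi_add]
        congr 1
        ring
      simp only [Equiv.refl_apply]
      rw [h6]
      ring
    simp only [h5]
    rw [Finset.sum_eq_single j]
    · simp [mul_comm]
    · intro i _ hi
      rw [if_neg (sub_ne_zero.mpr hi), mul_zero]
    · intro hj
      exact absurd (Finset.mem_univ j) hj
  rw [h4] at h3
  have hp0 : (p : ℂ) ≠ 0 := Nat.cast_ne_zero.mpr (NeZero.ne p)
  simpa [hp0] using h3

end fourier


section main

variable {G : Subgroup (Perm α)} {p : ℕ} [Fact p.Prime]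

theorem det2_add_right (y z z' : Fin 2 → ℂ) : det2 y (z + z') = det2 y z + det2 y z' := by
  simp only [det2, Pi.add_apply]
  ring

theorem det2_smul_right (y z : Fin 2 → ℂ) (c : ℂ) : det2 y (c • z) = c * det2 y z := by
  simp only [det2, Pi.smul_apply, smul_eq_mul]
  ring

theorem comb_zero_eq (F : Frame G p) (z : Fin 2 → ℂ) :
    comb F 0 z = ((z 0 + z 1) / 2) • (1 : α → ℂ) + ((z 0 - z 1) / 2) • wvec F := by
  funext ω
  obtain ⟨⟨i, a⟩, rfl⟩ := F.φ.surjective ω
  rw [comb_apply, mul_zero, chi_zero, mul_one]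
  simp only [Pi.add_apply, Pi.smul_apply, Pi.one_apply, smul_eq_mul, wvec, Equiv.symm_apply_apply]
  fin_cases a
  · simp
    ring
  · simp
    ring

/-- the invariant subspace used in C5 -/
def Ysub (G : Subgroup (Perm α)) (F : Frame G p) (A : Matrix α α ℤ) (μ : ℂ) :
    Submodule ℂ (α → ℂ) where
  carrier := {v | (∑ ω, v ω = 0) ∧ (∀ u ∈ U1 G F, v ⬝ᵥ u = 0) ∧
    (A.transpose.map (Int.cast : ℤ → ℂ)).mulVec v = μ • v}
  add_mem' := by
    rintro v w ⟨h1, h2, h3⟩ ⟨h1', h2', h3'⟩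
    refine ⟨?_, fun u hu => ?_, ?_⟩
    · simp only [Pi.add_apply, Finset.sum_add_distrib, h1, h1', add_zero]
    · rw [add_dotProduct, h2 u hu, h2' u hu, add_zero]
    · rw [Matrix.mulVec_add, h3, h3', smul_add]
  zero_mem' := by
    refine ⟨by simp, fun u _ => zero_dotProduct u, by simp⟩
  smul_mem' := by
    rintro c v ⟨h1, h2, h3⟩
    refine ⟨?_, fun u hu => ?_, ?_⟩
    · simp only [Pi.smul_apply, smul_eq_mul, ← Finset.mul_sum, h1, mul_zero]
    · rw [smul_dotProduct, h2 u hu, smul_zero]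
    · rw [Matrix.mulVec_smul, h3, smul_comm]

theorem mem_Ysub (F : Frame G p) (A : Matrix α α ℤ) (μ : ℂ) (v : α → ℂ) :
    v ∈ Ysub G F A μ ↔ (∑ ω, v ω = 0) ∧ (∀ u ∈ U1 G F, v ⬝ᵥ u = 0) ∧
      (A.transpose.map (Int.cast : ℤ → ℂ)).mulVec v = μ • v := Iff.rfl

theorem Ysub_inv (F : Frame G p) (A : Matrix α α ℤ) (hA : Inv G A) (μ : ℂ) :
    ∀ g ∈ G, ∀ v ∈ Ysub G F A μ, act g v ∈ Ysub G F A μ := by
  rintro g hg v ⟨h1, h2, h3⟩
  refine ⟨?_, fun u hu => ?_, ?_⟩
  · rw [sum_act]; exact h1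
  · rw [dot_act]
    exact h2 _ (act_mem_U1 F g⁻¹ (G.inv_mem hg) u hu)
  · rw [mulVec_act _ g ?_ v, h3, act_smul']
    intro i j
    simp only [Matrix.map_apply, Matrix.transpose_apply]
    rw [hA g hg j i]

theorem dot_mulVec_of_eigen (A : Matrix α α ℤ) (μ : ℂ) (v x : α → ℂ)
    (h3 : (A.transpose.map (Int.cast : ℤ → ℂ)).mulVec v = μ • v) :
    v ⬝ᵥ (A.map (Int.cast : ℤ → ℂ)).mulVec x = μ * (v ⬝ᵥ x) := by
  rw [Matrix.dotProduct_mulVec, ← Matrix.mulVec_transpose, ← Matrix.transpose_map, h3,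
    smul_dotProduct, smul_eq_mul]


/-- **S0720-C5**: the S4503 step. -/
theorem C5 {p : ℕ} [Fact p.Prime] (G : Subgroup (Perm α)) (hG : MulAction.IsPreprimitive G α)
    (hFT : ∀ χ : G → ℂ, Cfsg.IsCharacter G χ → (∀ g : G, χ g = χ 1 → g = 1) →
      p ≤ 2 * Cfsg.charDegree χ + 1)
    (F : Frame G p) (h : ∀ k : ZMod p, k ≠ 0 → Meets G F k ∧ ¬ Contains G F k)
    (A : Matrix α α ℤ) (hA : Inv G A) (k₀ : (ZMod p)ˣ) :
    p - 1 ≤ 2 * (Finset.univ.filter (fun k : (ZMod p)ˣ =>
      tau F A (k : ZMod p) = tau F A (k₀ : ZMod p))).card := by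
  classical
  have hpt := hG.toIsPretransitive
  have hB1 := (Cfsg.Agent.Lib.Helper65_W2p_B1.B1 G F A hA).2.2.1
  set t : ℂ := (tw F A : ℂ) with ht
  have hM : ∀ k : ZMod p, k ≠ 0 → ∃ y : Fin 2 → ℂ, y ≠ 0 ∧ comb F k y ∈ U1 G F :=
    fun k hk => (h k hk).1
  choose! y hy0 hyU using hM
  have hmy : ∀ k : ZMod p, k ≠ 0 →
      (Cfsg.Agent.Lib.Helper12_W2pDefs.mk F A k).mulVec (y k) = t • y k :=
    fun k hk => mk_mulVec_of_eigen F A hA k (y k) t (hB1 _ (hyU k hk))
  set μ : ℂ := tau F A (k₀ : ZMod p) - t with hμ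
  have hk₀ : (k₀ : ZMod p) ≠ 0 := k₀.ne_zero
  -- the subspace `Y`
  have hvmem : vstar F (k₀ : ZMod p) (y k₀) ∈ Ysub G F A μ :=
    ⟨sum_vstar F _ hk₀ _, vstar_dot_U1 F _ _ (hyU _ hk₀) (h _ hk₀).2,
      transpose_mulVec_vstar F A hA _ _ t (hmy _ hk₀)⟩
  have hne : Ysub G F A μ ≠ ⊥ := by
    intro hbot
    rw [hbot] at hvmem
    exact vstar_ne_zero F _ _ (hy0 _ hk₀) ((Submodule.mem_bot ℂ).mp hvmem)
  have hP2 := Cfsg.Agent.Lib.Helper80_W2p_P2.P2 G hG hFT (Ysub G F A μ) (Ysub_inv F A hA μ)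
    (fun v hv => hv.1) hne
  -- the dimension bound
  set S := Finset.univ.filter (fun k : (ZMod p)ˣ =>
      tau F A (k : ZMod p) = tau F A (k₀ : ZMod p)) with hS
  let Ψ : Ysub G F A μ →ₗ[ℂ] (S → ℂ) :=
    { toFun := fun v k => (v : α → ℂ) ⬝ᵥ comb F ((k : (ZMod p)ˣ) : ZMod p)
        (gfun (y ((k : (ZMod p)ˣ) : ZMod p)))
      map_add' := by
        intro v w
        funext k
        simp only [Submodule.coe_add, add_dotProduct, Pi.add_apply]
      map_smul' := by
        intro c v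
        funext k
        simp only [Submodule.coe_smul, smul_dotProduct, Pi.smul_apply, RingHom.id_apply] }
  have hΨ : Function.Injective Ψ := by
    rw [injective_iff_map_eq_zero]
    intro v hv
    apply Subtype.ext
    apply eq_zero_of_dot_comb F
    intro k z
    obtain ⟨h1, h2, h3⟩ := v.2
    by_cases hk : k = 0
    · subst hk
      rw [comb_zero_eq, dotProduct_add, dotProduct_smul, dotProduct_smul, dotProduct_one, h1,
        h2 _ (wvec_mem F), smul_zero, smul_zero, add_zero]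
    · have hyk := h2 _ (hyU k hk)
      obtain ⟨z₁, hz₁, hvz₁⟩ : ∃ z₁ : Fin 2 → ℂ, det2 (y k) z₁ ≠ 0 ∧
          (v : α → ℂ) ⬝ᵥ comb F k z₁ = 0 := by
        by_cases hkS : tau F A k = tau F A (k₀ : ZMod p)
        · refine ⟨gfun (y k), det2_gfun _ (hy0 k hk), ?_⟩
          have hmem : Units.mk0 k hk ∈ S := by
            rw [hS, Finset.mem_filter]
            exact ⟨Finset.mem_univ _, hkS⟩
          have := congrFun hv ⟨Units.mk0 k hk, hmem⟩
          exact this
        · set g := gfun (y k) with hg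
          refine ⟨(Cfsg.Agent.Lib.Helper12_W2pDefs.mk F A k).mulVec g + (-μ) • g, ?_, ?_⟩
          · rw [det2_add_right, det2_smul_right, det2_mulVec _ _ _ t (hmy k hk), trace_mk]
            have hg0 := det2_gfun _ (hy0 k hk)
            have : (tau F A k - t) * det2 (y k) g + -μ * det2 (y k) g =
                (tau F A k - tau F A (k₀ : ZMod p)) * det2 (y k) g := by
              rw [hμ]; ring
            rw [this]
            exact mul_ne_zero (sub_ne_zero.mpr hkS) hg0
          · rw [comb_add, comb_smul, ← mulVec_comb F A hA, dotProduct_add, dotProduct_smul,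
              dot_mulVec_of_eigen A μ _ _ h3, smul_eq_mul]
            ring
      rw [span2 (y k) z₁ z hz₁, comb_add, comb_smul, comb_smul, dotProduct_add, dotProduct_smul,
        dotProduct_smul, hyk, hvz₁, smul_zero, smul_zero, add_zero]
  have hfin : Module.finrank ℂ (Ysub G F A μ) ≤ S.card := by
    have h1 := LinearMap.finrank_le_finrank_of_injective hΨ
    rw [Module.finrank_fintype_fun_eq_card, Fintype.card_coe] at h1
    exact h1
  omega

end main

end Cfsg.Agent.Lib.Helper24_W2p_C5
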