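import Mathlib
import Cfsg.Prelude.Def_Characters
import Cfsg.Agent.Lib.Helper3_CharGaloisAct

/-!
# Extending automorphisms of cyclotomic fields to `ℂ`

* `exists_ringEquiv_commutes`: two algebraically closed extensions of a countable field, of the same
  uncountable cardinality, are isomorphic over that field.
* `exists_ringAut_extending`: every automorphism of a finite-dimensional subfield of `ℂ` extends to
  a ring automorphism of `ℂ`.
* `exists_ringAut_pow`: for `m` coprime to `n` some `σ : ℂ ≃+* ℂ` raises all `n`-th roots of unity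
  to the `m`-th power;  `ringAut_eq_pow`: every `σ : ℂ ≃+* ℂ` acts on the `n`-th roots of unity in
  this way.
* `aut_char_eq`: `σ (χ g) = χ (g ^ m)` for a character `χ` of `G` if `σ` is the `m`-th power map on
  the `|G|`-th roots of unity.
-/

set_option autoImplicit false
set_option linter.unusedSectionVars false
set_option linter.unusedVariables false

namespace Cfsg.Agent.Lib.Helper74_AutExt

open Cardinal

section ext

/-- Algebraically closed extensions of a countable field with the same uncountable cardinality are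
isomorphic over it. -/
theorem exists_ringEquiv_commutes {R K L : Type} [Field R] [Field K] [Field L] [Algebra R K]
    [Algebra R L] [IsAlgClosed K] [IsAlgClosed L] (hR : #R ≤ ℵ₀) (hK : ℵ₀ < #K) (hKL : #K = #L) :
    ∃ f : K ≃+* L, ∀ r : R, f (algebraMap R K r) = algebraMap R L r := by
  obtain ⟨s, hs⟩ := exists_isTranscendenceBasis R K
  obtain ⟨t, ht⟩ := exists_isTranscendenceBasis R L
  have hL : ℵ₀ < #L := hKL ▸ hK
  have h1 : #K = #s :=
    IsAlgClosed.cardinal_eq_cardinal_transcendence_basis_of_aleph0_lt' _ hs hR hK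
  have h2 : #L = #t :=
    IsAlgClosed.cardinal_eq_cardinal_transcendence_basis_of_aleph0_lt' _ ht hR hL
  have h3 : #s = #t := by rw [← h1, ← h2, hKL]
  obtain ⟨e⟩ := Cardinal.eq.mp h3
  letI := IsAlgClosed.isAlgClosure_of_transcendence_basis _ hs
  letI := IsAlgClosed.isAlgClosure_of_transcendence_basis _ ht
  let E : Algebra.adjoin R (Set.range ((↑) : s → K)) ≃ₐ[R]
      Algebra.adjoin R (Set.range ((↑) : t → L)) :=
    hs.1.aevalEquiv.symm.trans ((MvPolynomial.renameEquiv R e).trans ht.1.aevalEquiv)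
  refine ⟨IsAlgClosure.equivOfEquiv K L E.toRingEquiv, fun r => ?_⟩
  have h4 : algebraMap R K r = algebraMap (Algebra.adjoin R (Set.range ((↑) : s → K))) K
      (algebraMap R _ r) := rfl
  rw [h4, IsAlgClosure.equivOfEquiv_algebraMap]
  have h5 : E.toRingEquiv (algebraMap R _ r) = algebraMap R _ r := E.commutes r
  rw [h5]
  rfl

/-- Every automorphism of a finite-dimensional subfield of `ℂ` extends to `ℂ`. -/
theorem exists_ringAut_extending (F : IntermediateField ℚ ℂ) [FiniteDimensional ℚ F]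
    (τ : F ≃ₐ[ℚ] F) : ∃ σ : ℂ ≃+* ℂ, ∀ a : F, σ (a : ℂ) = ((τ a : F) : ℂ) := by
  have hR : #F ≤ ℵ₀ := by
    have h1 := Algebra.IsAlgebraic.cardinalMk_le_max ℚ F
    simpa using h1
  have hK : ℵ₀ < #ℂ := by
    rw [Cardinal.mk_complex]
    exact Cardinal.aleph0_lt_continuum
  obtain ⟨f, hf⟩ := @exists_ringEquiv_commutes F ℂ ℂ _ _ _ (inferInstance : Algebra F ℂ)
    (((algebraMap F ℂ).comp (τ : F →+* F)).toAlgebra) _ _ hR hK rfl
  exact ⟨f, fun a => hf a⟩

end ext

section pow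

open Cfsg.Agent.Lib.Helper3_CharGaloisAct Cfsg.Agent.Lib.Helper3_CharEigen

/-- For `m` coprime to `n` there is a ring automorphism of `ℂ` raising all `n`-th roots of unity
to the `m`-th power. -/
theorem exists_ringAut_pow (n : ℕ) [NeZero n] (m : ℕ) (hm : m.Coprime n) :
    ∃ σ : ℂ ≃+* ℂ, ∀ x : ℂ, x ^ n = 1 → σ x = x ^ m := by
  obtain ⟨τ, hτ⟩ := exists_aut_pow n m hm
  obtain ⟨σ, hσ⟩ := exists_ringAut_extending (cyc n) τ
  refine ⟨σ, fun x hx => ?_⟩
  have hxc : x ∈ cyc n := mem_cyc (NeZero.ne n) hx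
  have h1 := hσ ⟨x, hxc⟩
  have h2 : (⟨x, hxc⟩ : cyc n) ^ n = 1 := Subtype.ext (by simpa using hx)
  rw [hτ _ h2] at h1
  simpa using h1

/-- Every ring automorphism of `ℂ` raises the `n`-th roots of unity to a fixed power coprime to
`n`. -/
theorem ringAut_eq_pow (n : ℕ) [NeZero n] (σ : ℂ ≃+* ℂ) :
    ∃ m : ℕ, m.Coprime n ∧ ∀ x : ℂ, x ^ n = 1 → σ x = x ^ m := by
  have hζ : IsPrimitiveRoot (Complex.exp (2 * Real.pi * Complex.I / n)) n :=
    Complex.isPrimitiveRoot_exp n (NeZero.ne n)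
  have hσζ : IsPrimitiveRoot (σ (Complex.exp (2 * Real.pi * Complex.I / n))) n :=
    hζ.map_of_injective σ.injective
  obtain ⟨m, hmn, hm⟩ := hζ.eq_pow_of_pow_eq_one hσζ.pow_eq_one
  have hcop : m.Coprime n := by
    rw [← hm] at hσζ
    exact (hζ.pow_iff_coprime (NeZero.pos n) m).mp hσζ
  refine ⟨m, hcop, fun x hx => ?_⟩
  obtain ⟨i, -, rfl⟩ := hζ.eq_pow_of_pow_eq_one hx
  rw [map_pow, ← hm, ← pow_mul, ← pow_mul, mul_comm m i]

/-- A ring automorphism of `ℂ` which is the `m`-th power map on the `|G|`-th roots of unity sends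
`χ g` to `χ (g ^ m)`. -/
theorem aut_char_eq {G : Type*} [Group G] [Finite G] (χ : G → ℂ) (hχ : Cfsg.IsCharacter G χ)
    (σ : ℂ ≃+* ℂ) (m : ℕ) (hσ : ∀ x : ℂ, x ^ Nat.card G = 1 → σ x = x ^ m) (g : G) :
    σ (χ g) = χ (g ^ m) := by
  obtain ⟨n, ρ, rfl⟩ := hχ
  rw [char_eq_sum ρ g, char_pow_eq_sum ρ g m, map_sum]
  refine Finset.sum_congr rfl (fun μ hμ => ?_)
  rw [map_mul, map_natCast, hσ μ (eig_pow_card ρ hμ)]

/-- An automorphism acting as the `m`-th power on the `n`-th roots of unity fixes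
`exp (2πi/d)`, `d ∣ n`, iff `m ≡ 1 [MOD d]`. -/
theorem aut_fix_iff (n d : ℕ) [NeZero n] (hd : d ∣ n) (σ : ℂ ≃+* ℂ) (m : ℕ)
    (hσ : ∀ x : ℂ, x ^ n = 1 → σ x = x ^ m) :
    σ (Complex.exp (2 * Real.pi * Complex.I / (d : ℂ))) =
      Complex.exp (2 * Real.pi * Complex.I / (d : ℂ)) ↔ m ≡ 1 [MOD d] := by
  have hd0 : d ≠ 0 := by
    rintro rfl
    exact NeZero.ne n (Nat.eq_zero_of_zero_dvd hd)
  have hζ : IsPrimitiveRoot (Complex.exp (2 * Real.pi * Complex.I / (d : ℂ))) d :=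
    Complex.isPrimitiveRoot_exp d hd0
  have hn : Complex.exp (2 * Real.pi * Complex.I / (d : ℂ)) ^ n = 1 := by
    obtain ⟨c, rfl⟩ := hd
    rw [pow_mul, hζ.pow_eq_one, one_pow]
  rw [hσ _ hn]
  have ho : orderOf (Complex.exp (2 * Real.pi * Complex.I / (d : ℂ))) = d := hζ.eq_orderOf.symm
  have hfin : IsOfFinOrder (Complex.exp (2 * Real.pi * Complex.I / (d : ℂ))) :=
    isOfFinOrder_iff_pow_eq_one.mpr ⟨d, Nat.pos_of_ne_zero hd0, hζ.pow_eq_one⟩
  constructor
  · intro h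
    have h' : Complex.exp (2 * Real.pi * Complex.I / (d : ℂ)) ^ m =
        Complex.exp (2 * Real.pi * Complex.I / (d : ℂ)) ^ 1 := by rw [h, pow_one]
    rw [hfin.pow_eq_pow_iff_modEq, ho] at h'
    exact h'
  · intro h
    have h' : Complex.exp (2 * Real.pi * Complex.I / (d : ℂ)) ^ m =
        Complex.exp (2 * Real.pi * Complex.I / (d : ℂ)) ^ 1 := by
      rw [hfin.pow_eq_pow_iff_modEq, ho]
      exact h
    rw [h', pow_one]

/-- **`p`-conjugacy of characters**, in terms of automorphisms of `ℂ` and in terms of power maps: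
`ψ = σ ∘ χ` for an automorphism `σ` of `ℂ` fixing `exp (2πi/d)` (`d ∣ |G|`) iff `ψ g = χ (g ^ k)` for
some `k` coprime to `|G|` with `k ≡ 1 [MOD d]`. -/
theorem conj_iff_pow {G : Type*} [Group G] [Finite G] (d : ℕ) (hd : d ∣ Nat.card G)
    (χ ψ : G → ℂ) (hχ : Cfsg.IsCharacter G χ) :
    (∃ σ : ℂ ≃+* ℂ, σ (Complex.exp (2 * Real.pi * Complex.I / (d : ℂ))) =
        Complex.exp (2 * Real.pi * Complex.I / (d : ℂ)) ∧ ψ = fun g => σ (χ g)) ↔
      ∃ k : ℕ, k.Coprime (Nat.card G) ∧ k ≡ 1 [MOD d] ∧ ∀ g : G, ψ g = χ (g ^ k) := by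
  have : NeZero (Nat.card G) := ⟨Nat.card_pos.ne'⟩
  constructor
  · rintro ⟨σ, hσd, rfl⟩
    obtain ⟨m, hm, hσ⟩ := ringAut_eq_pow (Nat.card G) σ
    exact ⟨m, hm, (aut_fix_iff (Nat.card G) d hd σ m hσ).mp hσd,
      fun g => aut_char_eq χ hχ σ m hσ g⟩
  · rintro ⟨k, hk, hkd, hψ⟩
    obtain ⟨σ, hσ⟩ := exists_ringAut_pow (Nat.card G) k hk
    refine ⟨σ, (aut_fix_iff (Nat.card G) d hd σ k hσ).mpr hkd, ?_⟩
    funext g
    rw [hψ g, aut_char_eq χ hχ σ k hσ g]

end pow

end Cfsg.Agent.Lib.Helper74_AutExt
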