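import Mathlib
import Cfsg.Agent.Lib.Helper12_W2pDefs
import Cfsg.Agent.Lib.Helper24_W2p_Fourier
import Cfsg.Agent.Lib.Helper74_AutExt
import Cfsg.Agent.Lib.Helper65_W2p_B1

set_option autoImplicit false
set_option linter.unusedSectionVars false

namespace Cfsg.Agent.Lib.Helper24_W2p_C6

open Equiv (Perm)
open Cfsg.Agent.Lib.Helper12_W2pDefs Cfsg.Agent.Lib.Helper24_W2p_Fourier

variable {α : Type*} [Fintype α] [DecidableEq α]

/-- a quadratic relation `A² = a + b J + c A` on vectors -/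
theorem quad_mulVec (A : Matrix α α ℤ) (a b c : ℤ)
    (hAA : A * A = a • (1 : Matrix α α ℤ) + b • (Matrix.of fun _ _ => (1 : ℤ)) + c • A)
    (v : α → ℂ) :
    (A.map (Int.cast : ℤ → ℂ)).mulVec ((A.map (Int.cast : ℤ → ℂ)).mulVec v) =
      (a : ℂ) • v + (b : ℂ) • (fun _ => ∑ ω, v ω) + (c : ℂ) • (A.map (Int.cast : ℤ → ℂ)).mulVec v := by
  rw [Matrix.mulVec_mulVec]
  have h1 : A.map (Int.cast : ℤ → ℂ) * A.map (Int.cast : ℤ → ℂ) = (A * A).map (Int.cast : ℤ → ℂ) := by
    ext i j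
    simp [Matrix.mul_apply]
  rw [h1, hAA]
  funext ω
  simp only [Matrix.mulVec, dotProduct, Matrix.map_apply, Matrix.add_apply, Matrix.smul_apply,
    Matrix.one_apply, Matrix.of_apply, Pi.add_apply, Pi.smul_apply, smul_eq_mul]
  push_cast
  simp only [add_mul, Finset.sum_add_distrib, Finset.mul_sum, mul_assoc, ite_mul, one_mul, zero_mul,
    mul_ite, mul_zero, Finset.sum_ite_eq, Finset.mem_univ, if_true]

theorem quad_transpose (A : Matrix α α ℤ) (a b c : ℤ)
    (hAA : A * A = a • (1 : Matrix α α ℤ) + b • (Matrix.of fun _ _ => (1 : ℤ)) + c • A) :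
    A.transpose * A.transpose =
      a • (1 : Matrix α α ℤ) + b • (Matrix.of fun _ _ => (1 : ℤ)) + c • A.transpose := by
  rw [← Matrix.transpose_mul, hAA, Matrix.transpose_add, Matrix.transpose_add,
    Matrix.transpose_smul, Matrix.transpose_smul, Matrix.transpose_smul, Matrix.transpose_one]
  rfl

/-- eigenvalue relation from an eigenvector with zero sum -/
theorem eigen_quad (A : Matrix α α ℤ) (a b c : ℤ)
    (hAA : A * A = a • (1 : Matrix α α ℤ) + b • (Matrix.of fun _ _ => (1 : ℤ)) + c • A)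
    (v : α → ℂ) (hv : v ≠ 0) (hsum : ∑ ω, v ω = 0) (θ : ℂ)
    (h : (A.map (Int.cast : ℤ → ℂ)).mulVec v = θ • v) : θ ^ 2 = a + c * θ := by
  have h1 := quad_mulVec A a b c hAA v
  rw [h, Matrix.mulVec_smul, h, hsum] at h1
  obtain ⟨ω, hω⟩ : ∃ ω, v ω ≠ 0 := by
    by_contra hcon
    push Not at hcon
    exact hv (funext hcon)
  have h2 := congrFun h1 ω
  simp only [Pi.add_apply, Pi.smul_apply, smul_eq_mul, mul_zero, add_zero] at h2
  have h3 : (θ ^ 2 - (a + c * θ)) * v ω = 0 := by linear_combination h2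
  rcases mul_eq_zero.mp h3 with h4 | h4
  · linear_combination h4
  · exact absurd h4 hω

variable {G : Subgroup (Perm α)} {p : ℕ} [Fact p.Prime]

theorem tau_one_int (F : Frame G p) (hM : Meets G F 1)
    (A : Matrix α α ℤ) (hA : Inv G A)
    (hB1 : ∀ u ∈ U1 G F, (A.map (Int.cast : ℤ → ℂ)).mulVec u = (tw F A : ℂ) • u)
    (a b c : ℤ)
    (hAA : A * A = a • (1 : Matrix α α ℤ) + b • (Matrix.of fun _ _ => (1 : ℤ)) + c • A) :
    ∃ n : ℤ, tau F A 1 = n := by
  obtain ⟨y, hy, hyU⟩ := hM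
  have hyU' : comb F 1 y ∈ U1 G F := hyU
  have hone : (1 : ZMod p) ≠ 0 := one_ne_zero
  set t : ℂ := (tw F A : ℂ) with ht
  have hmy := mk_mulVec_of_eigen F A hA 1 y t (hB1 _ hyU')
  have hstar := transpose_mulVec_vstar F A hA 1 y t hmy
  have hθ := eigen_quad A.transpose a b c (quad_transpose A a b c hAA) (vstar F 1 y)
    (vstar_ne_zero F 1 y hy) (sum_vstar F 1 hone y) _ hstar
  have htt := eigen_quad A a b c hAA (wvec F) (wvec_ne_zero F) (sum_wvec F) t
    (hB1 _ (wvec_mem F))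
  have hprod : (tau F A 1 - t - t) * (tau F A 1 - t + t - c) = 0 := by
    linear_combination hθ - htt
  rcases mul_eq_zero.mp hprod with h1 | h1
  · refine ⟨2 * tw F A, ?_⟩
    push_cast
    linear_combination h1
  · refine ⟨c, ?_⟩
    linear_combination h1

theorem tau_unit_eq (F : Frame G p) (A : Matrix α α ℤ) (k : (ZMod p)ˣ)
    (h : ∃ n : ℤ, tau F A 1 = n) : tau F A (k : ZMod p) = tau F A 1 := by
  obtain ⟨n, hn⟩ := h
  obtain ⟨σ, hσ⟩ := Cfsg.Agent.Lib.Helper74_AutExt.exists_ringAut_pow p (k : ZMod p).val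
    (ZMod.val_coe_unit_coprime k)
  have h1 : σ (tau F A 1) = tau F A (k : ZMod p) := by
    unfold tau
    rw [map_sum]
    refine Finset.sum_congr rfl (fun d _ => ?_)
    rw [map_mul, map_intCast, mul_one]
    congr 1
    have h2 : (zeta p ^ d.val) ^ p = 1 := by
      rw [← pow_mul, mul_comm, pow_mul, zeta_pow_p, one_pow]
    rw [hσ _ h2, ← pow_mul, ZMod.val_mul, zeta_pow_mod]
  rw [← h1, hn, map_intCast]


/-- **S0720-C6**: rank 3 forces constant `tau`. -/
theorem C6 {p : ℕ} [Fact p.Prime] (G : Subgroup (Perm α)) [MulAction.IsPretransitive G α]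
    (F : Frame G p)
    (h : ∀ k : ZMod p, k ≠ 0 → Meets G F k ∧ ¬ Contains G F k)
    (A : Matrix α α ℤ) (hA : Inv G A) (a b c : ℤ)
    (hAA : A * A = a • (1 : Matrix α α ℤ) + b • (Matrix.of fun _ _ => (1 : ℤ)) + c • A)
    (k : (ZMod p)ˣ) : tau F A (k : ZMod p) = tau F A ((1 : (ZMod p)ˣ) : ZMod p) := by
  have hB1 := (Cfsg.Agent.Lib.Helper65_W2p_B1.B1 G F A hA).2.2.1
  have hM := (h 1 one_ne_zero).1
  rw [Units.val_one]
  exact tau_unit_eq F A k (tau_one_int F hM A hA hB1 a b c hAA)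

end Cfsg.Agent.Lib.Helper24_W2p_C6
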