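import Cfsg.Agent.Lib.Helper12_W2pDefs
import Cfsg.Prelude.Def_Characters
import Cfsg.Prelude.Def_Blocks

set_option autoImplicit false

namespace Cfsg.Agent.Lib.Helper52_W2p_P8

open Equiv MulAction Cfsg.Agent.Lib.Helper12_W2pDefs

variable {α : Type*} [Fintype α] [DecidableEq α]

omit [Fintype α] [DecidableEq α] in
/-- If a power `x^k` of an element of prime order `p` with no fixed points fixes a point,
then `p ∣ k`. -/
theorem dvd_of_pow_fix {p : ℕ} [Fact p.Prime] (x : Perm α) (hx : orderOf x = p)
    (hfix : ∀ ω, x ω ≠ ω) (k : ℕ) (ω : α) (h : (x ^ k) ω = ω) : p ∣ k := by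
  have hp : p.Prime := Fact.out
  by_contra hnd
  have hcop : Nat.Coprime k (orderOf x) := by
    rw [hx]; exact (Nat.Coprime.symm ((Nat.Prime.coprime_iff_not_dvd hp).2 hnd))
  obtain ⟨m, hm⟩ := exists_pow_eq_self_of_coprime hcop
  have h1 : x ^ (k * m) = x := by rw [pow_mul, hm]
  have h2 : (x ^ (k * m)) ω = ω := by
    rw [pow_mul]
    clear h1 hm
    induction m with
    | zero => simp
    | succ n ih => rw [pow_succ, Perm.mul_apply, h, ih]
  rw [h1] at h2
  exact hfix ω h2

omit [Fintype α] [DecidableEq α] in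
theorem pow_val_add_one {p : ℕ} [Fact p.Prime] (x : Perm α) (hx : orderOf x = p)
    (i : ZMod p) : x ^ ((i + 1).val) = x * x ^ i.val := by
  have hp : p.Prime := Fact.out
  rw [← pow_succ']
  rw [pow_eq_pow_iff_modEq, hx]
  have : ((i + 1).val : ℕ) = (i.val + 1) % p := by
    rw [ZMod.val_add]
    congr 2
    have : Fact (1 < p) := ⟨hp.one_lt⟩
    exact ZMod.val_one p
  rw [this]
  exact Nat.mod_modEq _ _

theorem P8 {p : ℕ} [Fact p.Prime] (hα : Fintype.card α = 2 * p) (x : Perm α) (hx : orderOf x = p)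
    (hfix : ∀ ω, x ω ≠ ω) (a₀ : α) :
    ∃ φ : ZMod p × Fin 2 ≃ α, φ (0, 0) = a₀ ∧ ∀ i a, x (φ (i, a)) = φ (i + 1, a) := by
  classical
  have hp : p.Prime := Fact.out
  have : NeZero p := ⟨hp.ne_zero⟩
  -- a point outside the orbit of a₀
  have hex : ∃ b₀ : α, ∀ i : ZMod p, (x ^ i.val) a₀ ≠ b₀ := by
    by_contra hne
    push Not at hne
    have hsurj : Function.Surjective (fun i : ZMod p => (x ^ i.val) a₀) := fun b => hne b
    have := Fintype.card_le_of_surjective _ hsurj
    rw [ZMod.card, hα] at this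
    have := hp.pos
    omega
  obtain ⟨b₀, hb₀⟩ := hex
  let f : ZMod p × Fin 2 → α := fun q => if q.2 = 0 then (x ^ q.1.val) a₀ else (x ^ q.1.val) b₀
  have key : ∀ (i j : ZMod p) (ω : α), (x ^ i.val) ω = (x ^ j.val) ω → i = j := by
    intro i j ω h
    wlog hij : j.val ≤ i.val generalizing i j
    · exact (this j i h.symm (le_of_not_ge hij)).symm
    have h' : (x ^ (i.val - j.val)) ω = ω := by
      have : x ^ i.val = x ^ j.val * x ^ (i.val - j.val) := by
        rw [← pow_add]; congr 1; omega
      rw [this, Perm.mul_apply] at h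
      exact (x ^ j.val).injective h
    have hd := dvd_of_pow_fix x hx hfix _ ω h'
    have hlt : i.val - j.val < p := lt_of_le_of_lt (Nat.sub_le _ _) (ZMod.val_lt i)
    have h0 : i.val - j.val = 0 := Nat.eq_zero_of_dvd_of_lt hd hlt
    have : i.val = j.val := by omega
    exact ZMod.val_injective p this
  have hinj : Function.Injective f := by
    rintro ⟨i, a⟩ ⟨j, b⟩ h
    simp only [f] at h
    by_cases ha : a = 0 <;> by_cases hb : b = 0
    · rw [if_pos ha, if_pos hb] at h
      rw [key i j a₀ h, ha, hb]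
    · rw [if_pos ha, if_neg hb] at h
      exfalso
      -- x^i a₀ = x^j b₀ ⇒ b₀ = x^(i + (p - j)) a₀
      have h2 : (x ^ ((i - j : ZMod p)).val) a₀ = b₀ := by
        have e : x ^ ((i - j : ZMod p)).val = (x ^ j.val)⁻¹ * x ^ i.val := by
          rw [eq_inv_mul_iff_mul_eq, ← pow_add, pow_eq_pow_iff_modEq, hx]
          have : ((j.val + (i - j).val : ℕ) : ZMod p) = (i.val : ZMod p) := by
            push_cast
            rw [ZMod.natCast_zmod_val, ZMod.natCast_zmod_val, ZMod.natCast_zmod_val]
            ring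
          exact (ZMod.natCast_eq_natCast_iff' _ _ _).1 this
        rw [e, Perm.mul_apply, h]; exact Perm.inv_eq_iff_eq.mpr rfl
      exact hb₀ _ h2
    · rw [if_neg ha, if_pos hb] at h
      exfalso
      have h2 : (x ^ ((j - i : ZMod p)).val) a₀ = b₀ := by
        have e : x ^ ((j - i : ZMod p)).val = (x ^ i.val)⁻¹ * x ^ j.val := by
          rw [eq_inv_mul_iff_mul_eq, ← pow_add, pow_eq_pow_iff_modEq, hx]
          have : ((i.val + (j - i).val : ℕ) : ZMod p) = (j.val : ZMod p) := by
            push_cast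
            rw [ZMod.natCast_zmod_val, ZMod.natCast_zmod_val, ZMod.natCast_zmod_val]
            ring
          exact (ZMod.natCast_eq_natCast_iff' _ _ _).1 this
        rw [e, Perm.mul_apply, ← h]; exact Perm.inv_eq_iff_eq.mpr rfl
      exact hb₀ _ h2
    · rw [if_neg ha, if_neg hb] at h
      have hab : a = b := by
        have h1 : a = 1 := by
          fin_cases a
          · exact absurd rfl ha
          · rfl
        have h2 : b = 1 := by
          fin_cases b
          · exact absurd rfl hb
          · rfl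
        rw [h1, h2]
      rw [key i j b₀ h, hab]
  have hcard : Fintype.card (ZMod p × Fin 2) = Fintype.card α := by
    rw [Fintype.card_prod, ZMod.card, Fintype.card_fin, hα, mul_comm]
  have hbij : Function.Bijective f := (Fintype.bijective_iff_injective_and_card f).2 ⟨hinj, hcard⟩
  refine ⟨Equiv.ofBijective f hbij, ?_, ?_⟩
  · simp [f, Equiv.ofBijective_apply]
  · intro i a
    simp only [Equiv.ofBijective_apply, f]
    by_cases ha : a = 0
    · rw [if_pos ha, if_pos ha, pow_val_add_one x hx, Perm.mul_apply]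
    · rw [if_neg ha, if_neg ha, pow_val_add_one x hx, Perm.mul_apply]

end Cfsg.Agent.Lib.Helper52_W2p_P8
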