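import Mathlib
import Cfsg.Agent.Lib.Helper12_W2pDefs

/-!
# S0720 package P3 (helper58, for helper12)

`τ(k) = ∑_d c_d ζ^(dk)` for an integer function `c` on `ZMod p`.  By the linear independence of
`ζ, …, ζ^(p-1)` over `ℚ`, `τ(u) = τ(1)` holds exactly when `c (u d) = c d` for all `d`; so the
level set of `1` is the stabiliser of `c` in `(ZMod p)ˣ`.
-/

set_option autoImplicit false

namespace Cfsg.Agent.Lib.Helper58_W2p_P3

open Cfsg.Agent.Lib.Helper12_W2pDefs Polynomial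

variable {p : ℕ} [Fact p.Prime]

lemma zeta_prim : IsPrimitiveRoot (zeta p) p :=
  Complex.isPrimitiveRoot_exp p (Fact.out : p.Prime).ne_zero

lemma sum_zmod_eq_sum_range (f : ℕ → ℂ) :
    ∑ d : ZMod p, f d.val = ∑ n ∈ Finset.range p, f n := by
  refine Finset.sum_bij (fun d _ => d.val) (fun d _ => Finset.mem_range.mpr (ZMod.val_lt d))
    (fun a _ b _ h => ZMod.val_injective p h)
    (fun n hn => ⟨(n : ZMod p), Finset.mem_univ _,
      ZMod.val_natCast_of_lt (Finset.mem_range.mp hn)⟩) (fun _ _ => rfl)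

/-- linear independence of `ζ, …, ζ^(p-1)` over the integers -/
lemma coeff_eq_zero (a : ZMod p → ℤ) (h0 : a 0 = 0)
    (h : ∑ d : ZMod p, (a d : ℂ) * zeta p ^ d.val = 0) : ∀ d, a d = 0 := by
  have hp := (Fact.out : p.Prime)
  have h1 : ∑ n ∈ Finset.range p, ((a (n : ZMod p) : ℤ) : ℂ) * zeta p ^ n = 0 := by
    rw [← sum_zmod_eq_sum_range (fun n => ((a (n : ZMod p) : ℤ) : ℂ) * zeta p ^ n), ← h]
    refine Finset.sum_congr rfl fun d _ => ?_
    rw [ZMod.natCast_zmod_val]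
  obtain ⟨m, hm⟩ : ∃ m, p = m + 1 := ⟨p - 1, (Nat.sub_add_cancel hp.pos).symm⟩
  have hr : Finset.range p = Finset.range (m + 1) := by rw [hm]
  rw [hr, Finset.sum_range_succ'] at h1
  simp only [Nat.cast_zero, h0, Int.cast_zero, zero_mul, add_zero] at h1
  have hz : zeta p ≠ 0 := zeta_prim.ne_zero hp.ne_zero
  have h2 : ∑ i : Fin m, ((a ((((i : ℕ) + 1 : ℕ)) : ZMod p) : ℤ) : ℂ) * zeta p ^ (i : ℕ) = 0 := by
    rw [Finset.sum_range] at h1
    have h3 : zeta p * ∑ i : Fin m, ((a ((((i : ℕ) + 1 : ℕ)) : ZMod p) : ℤ) : ℂ) * zeta p ^ (i : ℕ)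
        = 0 := by
      rw [← h1, Finset.mul_sum]
      refine Finset.sum_congr rfl fun i _ => ?_
      rw [pow_succ]
      ring
    exact (mul_eq_zero.mp h3).resolve_left hz
  -- the polynomial
  set P : ℚ[X] := ∑ i : Fin m, C (((a ((((i : ℕ) + 1 : ℕ)) : ZMod p) : ℤ) : ℚ)) * X ^ (i : ℕ)
    with hP
  have haeval : aeval (zeta p) P = 0 := by
    rw [hP, map_sum, ← h2]
    refine Finset.sum_congr rfl fun i _ => ?_
    simp
  have hdeg : P.degree < m := Polynomial.degree_sum_fin_lt _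
  have hmin : (minpoly ℚ (zeta p)).degree = m := by
    rw [← Polynomial.cyclotomic_eq_minpoly_rat zeta_prim hp.pos, Polynomial.degree_cyclotomic,
      Nat.totient_prime hp, hm]
    simp
  have hP0 : P = 0 := by
    by_contra hne
    have := minpoly.degree_le_of_ne_zero ℚ (zeta p) hne haeval
    rw [hmin] at this
    exact absurd (lt_of_le_of_lt this hdeg) (lt_irrefl _)
  have hcoeff : ∀ i : Fin m, ((a ((((i : ℕ) + 1 : ℕ)) : ZMod p) : ℤ) : ℚ) = 0 := by
    intro i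
    have h4 : P.coeff (i : ℕ) = ((a ((((i : ℕ) + 1 : ℕ)) : ZMod p) : ℤ) : ℚ) := by
      rw [hP]
      simp only [Polynomial.finsetSum_coeff, Polynomial.coeff_C_mul_X_pow]
      rw [Finset.sum_eq_single i]
      · simp
      · intro j _ hj
        rw [if_neg]
        intro h5
        exact hj (Fin.ext h5).symm
      · intro h5
        exact absurd (Finset.mem_univ i) h5
    rw [← h4, hP0, Polynomial.coeff_zero]
  intro d
  by_cases hd : d = 0
  · rw [hd, h0]
  · have hv : d.val ≠ 0 := fun h6 => hd ((ZMod.val_eq_zero d).mp h6)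
    have hlt : d.val < p := ZMod.val_lt d
    obtain ⟨j, hj⟩ : ∃ j, d.val = j + 1 := ⟨d.val - 1, by omega⟩
    have hjm : j < m := by omega
    have h7 := hcoeff ⟨j, hjm⟩
    have h8 : (((j + 1 : ℕ)) : ZMod p) = d := by
      rw [← hj, ZMod.natCast_zmod_val]
    simp only at h7
    rw [h8] at h7
    exact_mod_cast h7

/-- the Fourier sum -/
noncomputable def tauc (c : ZMod p → ℤ) (k : ZMod p) : ℂ :=
  ∑ d : ZMod p, (c d : ℂ) * zeta p ^ (d * k).val

lemma tauc_unit (c : ZMod p → ℤ) (u : (ZMod p)ˣ) :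
    tauc c (u : ZMod p) = ∑ d : ZMod p, (c (d * ((u⁻¹ : (ZMod p)ˣ) : ZMod p)) : ℂ) * zeta p ^ d.val := by
  unfold tauc
  refine Fintype.sum_equiv (Units.mulRight u) _ _ (fun d => ?_)
  rw [Units.mulRight_apply, Units.mul_inv_cancel_right]

lemma tauc_one (c : ZMod p → ℤ) :
    tauc c (((1 : (ZMod p)ˣ)) : ZMod p) = ∑ d : ZMod p, (c d : ℂ) * zeta p ^ d.val := by
  unfold tauc
  simp

/-- the stabiliser of `c` -/
def stab (c : ZMod p → ℤ) : Subgroup (ZMod p)ˣ where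
  carrier := {u | ∀ d : ZMod p, c ((u : ZMod p) * d) = c d}
  one_mem' := fun d => by simp
  mul_mem' := by
    intro u v hu hv d
    rw [Units.val_mul, mul_assoc, hu, hv]
  inv_mem' := by
    intro u hu d
    have := hu (((u⁻¹ : (ZMod p)ˣ) : ZMod p) * d)
    rw [Units.mul_inv_cancel_left] at this
    exact this.symm

lemma mem_stab (c : ZMod p → ℤ) (u : (ZMod p)ˣ) :
    u ∈ stab c ↔ ∀ d : ZMod p, c ((u : ZMod p) * d) = c d := Iff.rfl

lemma mem_stab_iff (c : ZMod p → ℤ) (u : (ZMod p)ˣ) :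
    u ∈ stab c ↔ tauc c (u : ZMod p) = tauc c (((1 : (ZMod p)ˣ)) : ZMod p) := by
  rw [tauc_unit, tauc_one]
  constructor
  · intro hu
    have hu' := (stab c).inv_mem hu
    refine Finset.sum_congr rfl fun d _ => ?_
    rw [mul_comm d, (mem_stab c _).mp hu' d]
  · intro h
    have h1 : ∑ d : ZMod p, (((c (d * ((u⁻¹ : (ZMod p)ˣ) : ZMod p)) - c d : ℤ)) : ℂ) * zeta p ^ d.val
        = 0 := by
      have : ∀ d : ZMod p, (((c (d * ((u⁻¹ : (ZMod p)ˣ) : ZMod p)) - c d : ℤ)) : ℂ) * zeta p ^ d.val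
          = (c (d * ((u⁻¹ : (ZMod p)ˣ) : ZMod p)) : ℂ) * zeta p ^ d.val
            - (c d : ℂ) * zeta p ^ d.val := by
        intro d
        push_cast
        ring
      simp only [this, Finset.sum_sub_distrib, h, sub_self]
    have h2 := coeff_eq_zero (fun d => c (d * ((u⁻¹ : (ZMod p)ˣ) : ZMod p)) - c d)
      (by show c (0 * _) - c 0 = 0; rw [zero_mul, sub_self]) h1
    have h3 : u⁻¹ ∈ stab c := by
      rw [mem_stab]
      intro d
      have h4 : c (d * ((u⁻¹ : (ZMod p)ˣ) : ZMod p)) - c d = 0 := h2 d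
      rw [mul_comm]
      omega
    simpa using (stab c).inv_mem h3

/-- P3 -/
theorem P3 {p : ℕ} [Fact p.Prime] (c : ZMod p → ℤ)
    (hlev : ∀ k₀ : (ZMod p)ˣ, p - 1 ≤ 2 * (Finset.univ.filter (fun k : (ZMod p)ˣ =>
      (∑ d : ZMod p, (c d : ℂ) * zeta p ^ (d * (k : ZMod p)).val) =
        ∑ d : ZMod p, (c d : ℂ) * zeta p ^ (d * (k₀ : ZMod p)).val)).card) :
    ∃ H : Subgroup (ZMod p)ˣ,
      (∀ u : (ZMod p)ˣ, u ∈ H ↔ (∑ d : ZMod p, (c d : ℂ) * zeta p ^ (d * (u : ZMod p)).val) =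
        ∑ d : ZMod p, (c d : ℂ) * zeta p ^ (d * ((1 : (ZMod p)ˣ) : ZMod p)).val) ∧
      p - 1 ≤ 2 * Nat.card H ∧ ∀ u ∈ H, ∀ d : ZMod p, c ((u : ZMod p) * d) = c d := by
  refine ⟨stab c, fun u => mem_stab_iff c u, ?_, fun u hu d => (mem_stab c u).mp hu d⟩
  have hcard : ∀ s : Finset (ZMod p)ˣ, (∀ u, u ∈ s ↔ tauc c (u : ZMod p)
      = tauc c (((1 : (ZMod p)ˣ)) : ZMod p)) → Nat.card (stab c) = s.card := by
    intro s hs
    classical
    rw [Nat.card_eq_fintype_card]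
    exact Fintype.card_of_subtype s (fun u => by rw [hs u, mem_stab_iff])
  have h1 := hlev 1
  refine le_trans h1 (le_of_eq ?_)
  congr 1
  symm
  apply hcard
  intro u
  rw [Finset.mem_filter]
  simp [tauc]

end Cfsg.Agent.Lib.Helper58_W2p_P3
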