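import Cfsg.Agent.Lib.Helper12_W2pDefs

/-!
# S0720 (Wielandt `2p`), package C2 (helper65): if `U1` meets no eigenspace `W_k` (`k ≠ 0`) of `x`,
then `U1` is fixed pointwise by `x`, every conjugate of `x` fixes `w`, and the normal closure of
`x` is intransitive: impossible in a primitive group.  (architect: helper12)
-/

set_option autoImplicit false
set_option linter.unusedSectionVars false

namespace Cfsg.Agent.Lib.Helper65_W2p_C2

open Equiv MulAction Cfsg.Agent.Lib.Helper12_W2pDefs

variable {α : Type*} [Fintype α] [DecidableEq α]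

section act

theorem act_one (v : α → ℂ) : act (1 : Perm α) v = v := by
  funext ω; simp [act]

theorem act_mul (g h : Perm α) (v : α → ℂ) : act (g * h) v = act g (act h v) := by
  funext ω; simp [act, mul_inv_rev]

theorem act_zero (g : Perm α) : act g (0 : α → ℂ) = 0 := by
  funext ω; simp [act]

theorem act_add (g : Perm α) (u v : α → ℂ) : act g (u + v) = act g u + act g v := by
  funext ω; simp [act]

theorem act_smul (g : Perm α) (c : ℂ) (v : α → ℂ) : act g (c • v) = c • act g v := by
  funext ω; simp [act]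

end act

section zeta

variable (p : ℕ) [Fact p.Prime]

theorem zeta_prim : IsPrimitiveRoot (zeta p) p :=
  Complex.isPrimitiveRoot_exp p (Fact.out : p.Prime).ne_zero

/-- `ζ ^ a.val` as a function on `ZMod p` -/
noncomputable def zp (a : ZMod p) : ℂ := zeta p ^ a.val

theorem zp_zero : zp p 0 = 1 := by simp [zp]

theorem zp_add (a b : ZMod p) : zp p (a + b) = zp p a * zp p b := by
  unfold zp
  rw [ZMod.val_add, ← pow_add, ← pow_eq_pow_mod _ (zeta_prim p).pow_eq_one]

theorem zp_ne_one {d : ZMod p} (hd : d ≠ 0) : zp p d ≠ 1 := by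
  unfold zp
  apply (zeta_prim p).pow_ne_one_of_pos_of_lt
  · exact fun h => hd ((ZMod.val_eq_zero d).mp h)
  · exact ZMod.val_lt d

theorem sum_zp_mul (d : ZMod p) :
    ∑ k : ZMod p, zp p (d * k) = if d = 0 then (p : ℂ) else 0 := by
  split_ifs with hd
  · subst hd
    simp [zp_zero]
  · have h1 : zp p d * ∑ k : ZMod p, zp p (d * k) = ∑ k : ZMod p, zp p (d * k) := by
      rw [Finset.mul_sum, ← Equiv.sum_comp (Equiv.addRight (1 : ZMod p))
        (fun k => zp p (d * k))]
      refine Finset.sum_congr rfl (fun k _ => ?_)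
      rw [← zp_add]
      congr 1
      simp only [Equiv.coe_addRight]
      ring
    have h2 : (zp p d - 1) * ∑ k : ZMod p, zp p (d * k) = 0 := by
      rw [sub_mul, h1, one_mul, sub_self]
    rcases mul_eq_zero.mp h2 with h3 | h3
    · exact absurd (sub_eq_zero.mp h3) (zp_ne_one p hd)
    · exact h3

end zeta

section main

variable {p : ℕ} [Fact p.Prime] {G : Subgroup (Perm α)} (F : Frame G p)

theorem pow_apply (n : ℕ) (i : ZMod p) (a : Fin 2) :
    (F.x ^ n) (F.φ (i, a)) = F.φ (i + n, a) := by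
  induction n with
  | zero => simp
  | succ n ih =>
    rw [pow_succ', Perm.mul_apply, ih, F.hφ]
    congr 2
    push_cast
    ring

theorem pow_inv_apply (j i : ZMod p) (a : Fin 2) :
    (F.x ^ j.val)⁻¹ (F.φ (i, a)) = F.φ (i - j, a) := by
  rw [Perm.inv_eq_iff_eq, pow_apply, ZMod.natCast_zmod_val, sub_add_cancel]

theorem U1_act_mem {g : Perm α} (hg : g ∈ G) {u : α → ℂ} (hu : u ∈ U1 G F) :
    act g u ∈ U1 G F := by
  refine Submodule.span_induction ?_ ?_ ?_ ?_ hu
  · rintro v ⟨h, hh, rfl⟩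
    rw [← act_mul]
    exact Submodule.subset_span ⟨g * h, G.mul_mem hg hh, rfl⟩
  · rw [act_zero]; exact Submodule.zero_mem _
  · intro u v _ _ h1 h2; rw [act_add]; exact Submodule.add_mem _ h1 h2
  · intro c v _ h1; rw [act_smul]; exact Submodule.smul_mem _ c h1

/-- Fourier coefficient of `u` on the block `a` at frequency `k` -/
noncomputable def yc (u : α → ℂ) (k : ZMod p) (a : Fin 2) : ℂ :=
  ∑ m : ZMod p, zp p (-(m * k)) * u (F.φ (m, a))

theorem evec_apply (k i : ZMod p) (a a' : Fin 2) :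
    evec F k a' (F.φ (i, a)) = if a = a' then zp p (i * k) else 0 := by
  simp [evec, zp]

theorem proj_eq (k : ZMod p) (u : α → ℂ) :
    yc F u k 0 • evec F k 0 + yc F u k 1 • evec F k 1 =
      ∑ j : ZMod p, zp p (j * k) • act (F.x ^ j.val) u := by
  funext ω
  obtain ⟨⟨i, a⟩, rfl⟩ := F.φ.surjective ω
  have hR : (∑ j : ZMod p, zp p (j * k) • act (F.x ^ j.val) u) (F.φ (i, a)) =
      yc F u k a * zp p (i * k) := by
    rw [Finset.sum_apply]
    simp only [Pi.smul_apply, act, smul_eq_mul, pow_inv_apply]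
    rw [← Equiv.sum_comp (Equiv.subLeft i) (fun j => zp p (j * k) * u (F.φ (i - j, a)))]
    simp only [Equiv.subLeft_apply, sub_sub_cancel, yc]
    rw [Finset.sum_mul]
    refine Finset.sum_congr rfl (fun m _ => ?_)
    have : (i - m) * k = -(m * k) + i * k := by ring
    rw [this, zp_add]
    ring
  rw [hR]
  simp only [Pi.add_apply, Pi.smul_apply, smul_eq_mul, evec_apply]
  fin_cases a <;> simp

theorem proj_mem (k : ZMod p) {u : α → ℂ} (hu : u ∈ U1 G F) :
    yc F u k 0 • evec F k 0 + yc F u k 1 • evec F k 1 ∈ U1 G F := by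
  rw [proj_eq]
  exact Submodule.sum_mem _ (fun j _ =>
    Submodule.smul_mem _ _ (U1_act_mem F (pow_mem F.hx _) hu))

theorem inversion (u : α → ℂ) (i : ZMod p) (a : Fin 2) :
    ∑ k : ZMod p, zp p (i * k) * yc F u k a = (p : ℂ) * u (F.φ (i, a)) := by
  simp only [yc, Finset.mul_sum]
  rw [Finset.sum_comm]
  have h1 : ∀ m : ZMod p, ∑ k : ZMod p, zp p (i * k) * (zp p (-(m * k)) * u (F.φ (m, a))) =
      (if i - m = 0 then (p : ℂ) else 0) * u (F.φ (m, a)) := by
    intro m
    rw [← sum_zp_mul p (i - m), Finset.sum_mul]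
    refine Finset.sum_congr rfl (fun k _ => ?_)
    have : (i - m) * k = i * k + -(m * k) := by ring
    rw [this, zp_add]
    ring
  rw [Finset.sum_congr rfl (fun m _ => h1 m)]
  simp only [sub_eq_zero, ite_mul, zero_mul]
  rw [Finset.sum_ite_eq]
  simp

theorem const_of_not_meets (h : ∀ k : ZMod p, k ≠ 0 → ¬ Meets G F k) {u : α → ℂ}
    (hu : u ∈ U1 G F) (i i' : ZMod p) (a : Fin 2) : u (F.φ (i, a)) = u (F.φ (i', a)) := by
  have hy : ∀ k : ZMod p, k ≠ 0 → ∀ b : Fin 2, yc F u k b = 0 := by
    intro k hk b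
    by_contra hne
    exact h k hk ⟨fun b => yc F u k b, fun h0 => hne (congrFun h0 b), proj_mem F k hu⟩
  have key : ∀ j : ZMod p, (p : ℂ) * u (F.φ (j, a)) = yc F u 0 a := by
    intro j
    rw [← inversion F u j a, Finset.sum_eq_single (0 : ZMod p)]
    · rw [mul_zero, zp_zero, one_mul]
    · intro k _ hk
      rw [hy k hk a, mul_zero]
    · intro h0
      exact absurd (Finset.mem_univ _) h0
  have hp0 : (p : ℂ) ≠ 0 := by
    exact_mod_cast (Fact.out : p.Prime).ne_zero
  exact mul_left_cancel₀ hp0 ((key i).trans (key i').symm)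

theorem act_x_eq (h : ∀ k : ZMod p, k ≠ 0 → ¬ Meets G F k) {u : α → ℂ}
    (hu : u ∈ U1 G F) : act F.x u = u := by
  funext ω
  obtain ⟨⟨i, a⟩, rfl⟩ := F.φ.surjective ω
  have h1 : F.x⁻¹ (F.φ (i, a)) = F.φ (i - 1, a) := by
    rw [Perm.inv_eq_iff_eq, F.hφ, sub_add_cancel]
  simp only [act, h1]
  exact const_of_not_meets F h hu _ _ a

end main

/-- **C2**. -/
theorem C2 {p : ℕ} [Fact p.Prime] (G : Subgroup (Perm α)) (hG : IsPreprimitive G α)
    (F : Frame G p) (h : ∀ k : ZMod p, k ≠ 0 → ¬ Meets G F k) : False := by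
  have := hG
  -- the subgroup of `G` fixing `w`
  let K : Subgroup G :=
    { carrier := {g | act (g : Perm α) (wvec F) = wvec F}
      one_mem' := by
        show act ((1 : G) : Perm α) (wvec F) = wvec F
        rw [Subgroup.coe_one, act_one]
      mul_mem' := by
        intro a b ha hb
        show act ((a * b : G) : Perm α) (wvec F) = wvec F
        rw [Subgroup.coe_mul, act_mul, (show act (b : Perm α) (wvec F) = wvec F from hb)]
        exact ha
      inv_mem' := by
        intro a ha
        show act ((a⁻¹ : G) : Perm α) (wvec F) = wvec F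
        have h1 : act ((a⁻¹ : G) : Perm α) (act (a : Perm α) (wvec F)) = wvec F := by
          rw [← act_mul, Subgroup.coe_inv, inv_mul_cancel, act_one]
        rw [(show act (a : Perm α) (wvec F) = wvec F from ha)] at h1
        exact h1 }
  let xG : G := ⟨F.x, F.hx⟩
  let N : Subgroup G := Subgroup.normalClosure {xG}
  have hNK : N ≤ K := by
    refine (Subgroup.closure_le K).mpr ?_
    intro c hc
    obtain ⟨b, hb, hbc⟩ := Group.mem_conjugatesOfSet_iff.mp hc
    rw [Set.mem_singleton_iff] at hb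
    subst hb
    obtain ⟨g, rfl⟩ := isConj_iff.mp hbc
    show act ((g * xG * g⁻¹ : G) : Perm α) (wvec F) = wvec F
    have hw : wvec F ∈ U1 G F := Submodule.subset_span ⟨1, G.one_mem, (act_one _).symm⟩
    have hu : act ((g⁻¹ : G) : Perm α) (wvec F) ∈ U1 G F := U1_act_mem F (g⁻¹).2 hw
    have h1 := act_x_eq F h hu
    rw [Subgroup.coe_mul, Subgroup.coe_mul, act_mul, act_mul]
    show act (g : Perm α) (act F.x (act ((g⁻¹ : G) : Perm α) (wvec F))) = wvec F
    rw [h1, ← act_mul, ← Subgroup.coe_mul, mul_inv_cancel, Subgroup.coe_one, act_one]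
  have : N.Normal := Subgroup.normalClosure_normal
  have h01 : (1 : ZMod p) ≠ 0 := one_ne_zero
  have hfix : fixedPoints N α ≠ Set.univ := by
    intro hf
    have hmem : F.φ (0, 0) ∈ fixedPoints N α := hf ▸ Set.mem_univ _
    have hxN : xG ∈ N := Subgroup.subset_normalClosure (Set.mem_singleton _)
    have := hmem ⟨xG, hxN⟩
    have h2 : F.x (F.φ (0, 0)) = F.φ (0, 0) := this
    rw [F.hφ, zero_add] at h2
    have := F.φ.injective h2
    exact h01 (Prod.ext_iff.mp this).1
  have : IsPretransitive N α := IsQuasiPreprimitive.isPretransitive_of_normal hfix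
  obtain ⟨n, hn⟩ := MulAction.exists_smul_eq N (F.φ (0, 0)) (F.φ (0, 1))
  have hnK : act ((n : G) : Perm α) (wvec F) = wvec F := hNK n.2
  have h3 := congrFun hnK (F.φ (0, 1))
  have h4 : ((n : G) : Perm α) (F.φ (0, 0)) = F.φ (0, 1) := hn
  have h5 : ((n : G) : Perm α)⁻¹ (F.φ (0, 1)) = F.φ (0, 0) := by
    rw [Perm.inv_eq_iff_eq, h4]
  simp only [act, h5, wvec, Equiv.symm_apply_apply] at h3
  norm_num at h3

end Cfsg.Agent.Lib.Helper65_W2p_C2
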