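import Mathlib
import Cfsg.Agent.Lib.Helper12_W2pDefs
import Cfsg.Agent.Lib.Helper74_AutExt

/-!
# S0720 package C1 (helper12's market): Galois on vectors

A ring automorphism `σ` of `ℂ` with `σ ζ = ζ ^ m` applied entrywise maps `U1` (spanned by `±1`
vectors) into itself and the eigenvector `e_{k,a}` to `e_{mk,a}`.  Hence `Meets` and `Contains`
do not depend on `k ≠ 0`.
-/

set_option autoImplicit false

namespace Cfsg.Agent.Lib.Helper79_W2p_C1

open Equiv MulAction Cfsg.Agent.Lib.Helper12_W2pDefs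

variable {α : Type*} [Fintype α] [DecidableEq α]

theorem zeta_pow_card (p : ℕ) [NeZero p] : zeta p ^ p = 1 :=
  (Complex.isPrimitiveRoot_exp p (NeZero.ne p)).pow_eq_one

theorem zeta_pow_congr (p : ℕ) [NeZero p] (a b : ℕ) (h : (a : ZMod p) = (b : ZMod p)) :
    zeta p ^ a = zeta p ^ b := by
  rw [pow_eq_pow_mod a (zeta_pow_card p), pow_eq_pow_mod b (zeta_pow_card p)]
  congr 1
  exact (ZMod.natCast_eq_natCast_iff' a b p).mp h

/-- entrywise application of a ring automorphism -/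
def ent (σ : ℂ ≃+* ℂ) (v : α → ℂ) : α → ℂ := fun ω => σ (v ω)

theorem ent_add (σ : ℂ ≃+* ℂ) (v w : α → ℂ) : ent σ (v + w) = ent σ v + ent σ w := by
  funext ω
  simp [ent]

theorem ent_smul (σ : ℂ ≃+* ℂ) (c : ℂ) (v : α → ℂ) : ent σ (c • v) = σ c • ent σ v := by
  funext ω
  simp [ent]

theorem ent_zero (σ : ℂ ≃+* ℂ) : ent σ (0 : α → ℂ) = 0 := by
  funext ω
  simp [ent]

theorem ent_act_wvec {p : ℕ} {G : Subgroup (Perm α)} (σ : ℂ ≃+* ℂ) (F : Frame G p) (g : Perm α) :
    ent σ (act g (wvec F)) = act g (wvec F) := by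
  funext ω
  simp only [ent, act, wvec]
  split_ifs <;> simp

theorem ent_mem_U1 {p : ℕ} (G : Subgroup (Perm α)) (σ : ℂ ≃+* ℂ) (F : Frame G p) (v : α → ℂ)
    (hv : v ∈ U1 G F) : ent σ v ∈ U1 G F := by
  unfold U1 at hv ⊢
  induction hv using Submodule.span_induction with
  | mem x hx =>
    obtain ⟨g, hg, rfl⟩ := hx
    rw [ent_act_wvec]
    exact Submodule.subset_span ⟨g, hg, rfl⟩
  | zero =>
    rw [ent_zero]
    exact Submodule.zero_mem _
  | add x y _ _ hx hy =>
    rw [ent_add]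
    exact Submodule.add_mem _ hx hy
  | smul c x _ hx =>
    rw [ent_smul]
    exact Submodule.smul_mem _ _ hx

theorem ent_evec {p : ℕ} [Fact p.Prime] {G : Subgroup (Perm α)} (σ : ℂ ≃+* ℂ) (m : ℕ)
    (hσ : ∀ x : ℂ, x ^ p = 1 → σ x = x ^ m) (F : Frame G p) (k k' : ZMod p)
    (hk : k * (m : ZMod p) = k') (a : Fin 2) :
    ent σ (evec F k a) = evec F k' a := by
  funext ω
  simp only [ent, evec]
  split_ifs with h
  · have h1 : (zeta p ^ ((F.φ.symm ω).1 * k).val) ^ p = 1 := by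
      rw [← pow_mul, mul_comm, pow_mul, zeta_pow_card, one_pow]
    rw [hσ _ h1, ← pow_mul]
    apply zeta_pow_congr
    push_cast
    rw [ZMod.natCast_zmod_val, ZMod.natCast_zmod_val, ← hk]
    ring
  · simp

theorem ent_comb {p : ℕ} [Fact p.Prime] {G : Subgroup (Perm α)} (σ : ℂ ≃+* ℂ) (m : ℕ)
    (hσ : ∀ x : ℂ, x ^ p = 1 → σ x = x ^ m) (F : Frame G p) (k k' : ZMod p)
    (hk : k * (m : ZMod p) = k') (y : Fin 2 → ℂ) :
    ent σ (y 0 • evec F k 0 + y 1 • evec F k 1) =
      σ (y 0) • evec F k' 0 + σ (y 1) • evec F k' 1 := by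
  rw [ent_add, ent_smul, ent_smul, ent_evec σ m hσ F k k' hk, ent_evec σ m hσ F k k' hk]

/-- S0720-C1 -/
theorem C1 {p : ℕ} [Fact p.Prime] (G : Subgroup (Perm α)) (F : Frame G p) (k k' : ZMod p)
    (hk : k ≠ 0) (hk' : k' ≠ 0) :
    (Meets G F k → Meets G F k') ∧ (Contains G F k → Contains G F k') := by
  have hp : p.Prime := Fact.out
  set m : ℕ := (k' * k⁻¹).val with hm
  have hmk : k * (m : ZMod p) = k' := by
    rw [hm, ZMod.natCast_zmod_val]
    field_simp
  have hm0 : (m : ZMod p) ≠ 0 := by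
    intro h0
    rw [h0, mul_zero] at hmk
    exact hk' hmk.symm
  have hcop : m.Coprime p := by
    rw [Nat.coprime_comm, hp.coprime_iff_not_dvd]
    intro hdvd
    exact hm0 ((ZMod.natCast_eq_zero_iff m p).mpr hdvd)
  obtain ⟨σ, hσ⟩ := Cfsg.Agent.Lib.Helper74_AutExt.exists_ringAut_pow p m hcop
  constructor
  · rintro ⟨y, hy, hmem⟩
    refine ⟨fun a => σ (y a), ?_, ?_⟩
    · intro h0
      apply hy
      funext a
      have := congrFun h0 a
      simpa using this
    · have := ent_mem_U1 G σ F _ hmem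
      rwa [ent_comb σ m hσ F k k' hmk] at this
  · intro hc y
    have := ent_mem_U1 G σ F _ (hc (fun a => σ.symm (y a)))
    rw [ent_comb σ m hσ F k k' hmk (fun a => σ.symm (y a))] at this
    simpa using this

end Cfsg.Agent.Lib.Helper79_W2p_C1
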