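import Mathlib
import Cfsg.Agent.Lib.Helper12_W2pDefs
import Cfsg.Agent.Lib.Helper79_W2p_C1
import Cfsg.Agent.Lib.Helper65_W2p_B1

/-!
# S0720 package C3 (helper12's market): `U1 ⊇ W_k` for all `k ≠ 0` forces 2-transitivity

If `U1` contains all eigenspaces `W_k`, `k ≠ 0`, then together with `w ∈ U1` and the all-ones vector
it spans `ℂ^α` (Fourier inversion on `ZMod p`), so an invariant matrix `A`, which is the scalar
`t_A` on `U1` and has constant row sums, satisfies `A = t I + c J`: all off-diagonal entries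
are equal.  Applied to an orbital matrix this gives 2-transitivity.
-/

set_option autoImplicit false

namespace Cfsg.Agent.Lib.Helper79_W2p_C3

open Equiv MulAction Cfsg.Agent.Lib.Helper12_W2pDefs Cfsg.Agent.Lib.Helper79_W2p_C1

variable {α : Type*} [Fintype α] [DecidableEq α]

/-- orthogonality of the characters of `ZMod p` -/
theorem sum_zeta (p : ℕ) [Fact p.Prime] (d : ZMod p) :
    ∑ k : ZMod p, zeta p ^ (d * k).val = if d = 0 then (p : ℂ) else 0 := by
  have hp : p.Prime := Fact.out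
  split_ifs with hd
  · subst hd
    simp [ZMod.card]
  · have hprim : IsPrimitiveRoot (zeta p) p := Complex.isPrimitiveRoot_exp p hp.ne_zero
    have hne : zeta p ^ d.val ≠ 1 := by
      apply hprim.pow_ne_one_of_pos_of_lt
      · intro h0
        exact hd ((ZMod.val_eq_zero d).mp h0)
      · exact ZMod.val_lt d
    have hmul : zeta p ^ d.val * ∑ k : ZMod p, zeta p ^ (d * k).val =
        ∑ k : ZMod p, zeta p ^ (d * k).val := by
      rw [Finset.mul_sum, ← Equiv.sum_comp (Equiv.addRight (1 : ZMod p))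
        (fun k => zeta p ^ (d * k).val)]
      refine Finset.sum_congr rfl (fun k _ => ?_)
      rw [← pow_add]
      apply zeta_pow_congr
      push_cast
      rw [ZMod.natCast_zmod_val, ZMod.natCast_zmod_val, ZMod.natCast_zmod_val]
      simp only [Equiv.coe_addRight]
      ring
    have h2 : (zeta p ^ d.val - 1) * ∑ k : ZMod p, zeta p ^ (d * k).val = 0 := by
      rw [sub_mul, hmul, one_mul, sub_self]
    rcases mul_eq_zero.mp h2 with h | h
    · exact absurd (sub_eq_zero.mp h) hne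
    · exact h

/-- Fourier inversion for the standard basis vectors. -/
theorem single_eq_sum {p : ℕ} [Fact p.Prime] {G : Subgroup (Perm α)} (F : Frame G p)
    (j : ZMod p) (a : Fin 2) :
    (p : ℂ) • (Pi.single (F.φ (j, a)) (1 : ℂ) : α → ℂ) =
      ∑ k : ZMod p, zeta p ^ ((-j) * k).val • evec F k a := by
  funext ω
  obtain ⟨⟨i, a'⟩, rfl⟩ := F.φ.surjective ω
  simp only [Pi.smul_apply, Finset.sum_apply, evec, Equiv.symm_apply_apply, smul_eq_mul]
  by_cases ha : a' = a
  · subst ha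
    simp only [if_true]
    have h1 : ∀ k : ZMod p, zeta p ^ ((-j) * k).val * zeta p ^ (i * k).val =
        zeta p ^ ((i - j) * k).val := by
      intro k
      rw [← pow_add]
      apply zeta_pow_congr
      push_cast
      rw [ZMod.natCast_zmod_val, ZMod.natCast_zmod_val, ZMod.natCast_zmod_val]
      ring
    rw [Finset.sum_congr rfl (fun k _ => h1 k), sum_zeta]
    by_cases hij : i = j
    · subst hij
      simp
    · have h2 : i - j ≠ 0 := sub_ne_zero.mpr hij
      have h3 : F.φ (i, a') ≠ F.φ (j, a') := by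
        intro h
        apply hij
        have := F.φ.injective h
        exact (Prod.mk.inj this).1
      simp [h2, h3]
  · have h3 : F.φ (i, a') ≠ F.φ (j, a) := by
      intro h
      apply ha
      have := F.φ.injective h
      exact (Prod.mk.inj this).2
    simp [ha, h3]

/-- `evec F 0 a` in terms of the all-ones vector and `w`. -/
theorem evec_zero {p : ℕ} [Fact p.Prime] {G : Subgroup (Perm α)} (F : Frame G p) (a : Fin 2) :
    evec F 0 a = (1 / 2 : ℂ) • ((fun _ => (1 : ℂ)) + (if a = 0 then (1 : ℂ) else -1) • wvec F) := by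
  funext ω
  simp only [evec, wvec, Pi.smul_apply, Pi.add_apply, smul_eq_mul, mul_zero, ZMod.val_zero,
    pow_zero]
  fin_cases a
  · by_cases h : (F.φ.symm ω).2 = 0
    · simp [h]
      norm_num
    · have h' : ¬ ((F.φ.symm ω).2 = 0) := h
      simp [h']
  · by_cases h : (F.φ.symm ω).2 = 0
    · simp [h]
    · have h1 : (F.φ.symm ω).2 = 1 := by
        generalize (F.φ.symm ω).2 = z at h ⊢
        fin_cases z
        · exact absurd rfl h
        · rfl
      simp [h1]
      norm_num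

theorem wvec_mem {p : ℕ} (G : Subgroup (Perm α)) (F : Frame G p) : wvec F ∈ U1 G F := by
  apply Submodule.subset_span
  refine ⟨1, G.one_mem, ?_⟩
  funext ω
  simp [act]

theorem evec_mem {p : ℕ} [Fact p.Prime] (G : Subgroup (Perm α)) (F : Frame G p) (k : ZMod p)
    (hk : Contains G F k) (a : Fin 2) : evec F k a ∈ U1 G F := by
  have := hk (fun b => if b = a then 1 else 0)
  fin_cases a
  · simpa using this
  · simpa using this

/-- The core of C3: a matrix with constant row sums acting as a scalar on `U1` has constant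
off-diagonal entries. -/
theorem C3_core {p : ℕ} [Fact p.Prime] (G : Subgroup (Perm α)) (F : Frame G p)
    (h : ∀ k : ZMod p, k ≠ 0 → Contains G F k)
    (A : Matrix α α ℤ) (n t : ℤ)
    (hrow : ∀ ω, ∑ ω', A ω ω' = n)
    (hU1 : ∀ u ∈ U1 G F, (A.map (Int.cast : ℤ → ℂ)).mulVec u = (t : ℂ) • u) :
    ∀ ω ω', ω ≠ ω' → (A ω ω' : ℂ) = ((n : ℂ) - t) / (2 * p) := by
  have hp : p.Prime := Fact.out
  have hp0 : (p : ℂ) ≠ 0 := Nat.cast_ne_zero.mpr hp.ne_zero
  set Ac : Matrix α α ℂ := A.map (Int.cast : ℤ → ℂ) with hAc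
  set L : (α → ℂ) →ₗ[ℂ] (α → ℂ) := Matrix.mulVecLin Ac - (t : ℂ) • LinearMap.id with hL
  have hLU : ∀ u ∈ U1 G F, L u = 0 := by
    intro u hu
    simp [hL, hU1 u hu]
  have hLone : L (fun _ => (1 : ℂ)) = ((n : ℂ) - t) • (fun _ => (1 : ℂ)) := by
    funext ω
    have h1 : ∑ ω', (A ω ω' : ℂ) = (n : ℂ) := by
      rw [← hrow ω]
      push_cast
      rfl
    simp [hL, hAc, Matrix.mulVec, dotProduct, h1]
  have hLe0 : ∀ a : Fin 2, L (evec F 0 a) = ((1 / 2 : ℂ) * ((n : ℂ) - t)) • (fun _ => (1 : ℂ)) := by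
    intro a
    rw [evec_zero, map_smul, map_add, map_smul, hLU _ (wvec_mem G F), hLone, smul_zero, add_zero,
      smul_smul]
  have hLek : ∀ k : ZMod p, k ≠ 0 → ∀ a : Fin 2, L (evec F k a) = 0 := fun k hk a =>
    hLU _ (evec_mem G F k (h k hk) a)
  have hLsingle : ∀ (j : ZMod p) (a : Fin 2), L (Pi.single (F.φ (j, a)) (1 : ℂ)) =
      (((n : ℂ) - t) / (2 * p)) • (fun _ => (1 : ℂ)) := by
    intro j a
    have h1 : (p : ℂ) • L (Pi.single (F.φ (j, a)) (1 : ℂ)) = L (evec F 0 a) := by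
      rw [← map_smul, single_eq_sum, map_sum]
      rw [Finset.sum_eq_single (0 : ZMod p)]
      · simp
      · intro k _ hk
        rw [map_smul, hLek k hk a, smul_zero]
      · intro h0
        exact absurd (Finset.mem_univ _) h0
    rw [hLe0 a] at h1
    have h2 : L (Pi.single (F.φ (j, a)) (1 : ℂ)) =
        (p : ℂ)⁻¹ • ((p : ℂ) • L (Pi.single (F.φ (j, a)) (1 : ℂ))) := by
      rw [smul_smul, inv_mul_cancel₀ hp0, one_smul]
    rw [h2, h1, smul_smul]
    congr 1
    field_simp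
  intro ω ω' hne
  obtain ⟨⟨j, a⟩, rfl⟩ := F.φ.surjective ω'
  have h1 := congrFun (hLsingle j a) ω
  simp only [hL, LinearMap.sub_apply, Matrix.mulVecLin_apply, Matrix.mulVec_single_one,
    LinearMap.smul_apply, LinearMap.id_apply, Pi.sub_apply, Pi.smul_apply, smul_eq_mul,
    mul_one] at h1
  rw [Pi.single_eq_of_ne hne, mul_zero, sub_zero] at h1
  rw [← h1]
  simp [hAc, Matrix.col]

/-- invariance of the orbital matrices (= P6_inv) -/
theorem orbMat_inv (G : Subgroup (Perm α)) (a₀ b : α) : Inv G (orbMat G a₀ b) := by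
  intro g hg i j
  have hiff : (∃ g' ∈ G, g' a₀ = g i ∧ g' b = g j) ↔ (∃ g' ∈ G, g' a₀ = i ∧ g' b = j) := by
    constructor
    · rintro ⟨g', hg', h1, h2⟩
      refine ⟨g⁻¹ * g', G.mul_mem (G.inv_mem hg) hg', ?_, ?_⟩
      · simp [Perm.mul_apply, h1]
      · simp [Perm.mul_apply, h2]
    · rintro ⟨g', hg', h1, h2⟩
      exact ⟨g * g', G.mul_mem hg hg', by simp [Perm.mul_apply, h1],
        by simp [Perm.mul_apply, h2]⟩
  unfold orbMat
  by_cases hc : ∃ g' ∈ G, g' a₀ = i ∧ g' b = j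
  · rw [if_pos hc, if_pos (hiff.mpr hc)]
  · rw [if_neg hc, if_neg (fun h' => hc (hiff.mp h'))]

/-- all-ones off the diagonal gives 2-transitivity (= P6_two) -/
theorem two_of_orbMat (G : Subgroup (Perm α)) (a₀ b : α)
    (h : ∀ ω ω', ω ≠ ω' → orbMat G a₀ b ω ω' = 1) : IsMultiplyPretransitive G α 2 := by
  rw [MulAction.is_two_pretransitive_iff]
  intro a c a' c' hac hac'
  have key : ∀ ω ω', ω ≠ ω' → ∃ g ∈ G, g a₀ = ω ∧ g b = ω' := by
    intro ω ω' hne
    have h1 := h ω ω' hne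
    unfold orbMat at h1
    by_contra hn
    rw [if_neg hn] at h1
    exact zero_ne_one h1
  obtain ⟨g₁, hg₁, h11, h12⟩ := key a c hac
  obtain ⟨g₂, hg₂, h21, h22⟩ := key a' c' hac'
  refine ⟨⟨g₂ * g₁⁻¹, G.mul_mem hg₂ (G.inv_mem hg₁)⟩, ?_, ?_⟩
  · show (g₂ * g₁⁻¹) a = a'
    rw [← h11]
    simp [h21]
  · show (g₂ * g₁⁻¹) c = c'
    rw [← h12]
    simp [h22]

/-- S0720-C3 -/
theorem C3 {p : ℕ} [Fact p.Prime] (G : Subgroup (Perm α)) [IsPretransitive G α] (F : Frame G p)
    (h : ∀ k : ZMod p, k ≠ 0 → Contains G F k) : IsMultiplyPretransitive G α 2 := by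
  have hab : F.φ (0, 0) ≠ F.φ (0, 1) := by
    intro h'
    have := F.φ.injective h'
    simp at this
  obtain ⟨hrow, -, hU1, -⟩ := Cfsg.Agent.Lib.Helper65_W2p_B1.B1 G F
    (orbMat G (F.φ (0, 0)) (F.φ (0, 1))) (orbMat_inv G _ _)
  have hc := C3_core G F h _ _ _ hrow hU1
  have h1 : orbMat G (F.φ (0, 0)) (F.φ (0, 1)) (F.φ (0, 0)) (F.φ (0, 1)) = 1 := by
    unfold orbMat
    rw [if_pos ⟨1, G.one_mem, rfl, rfl⟩]
  have hcval := hc _ _ hab
  rw [h1] at hcval
  apply two_of_orbMat G (F.φ (0, 0)) (F.φ (0, 1))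
  intro ω ω' hne
  have h2 := hc ω ω' hne
  rw [← hcval] at h2
  exact_mod_cast h2

end Cfsg.Agent.Lib.Helper79_W2p_C3
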