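import Mathlib
import Cfsg.Agent.Lib.Helper12_W2pDefs
import Cfsg.Agent.Lib.Helper65_W2p_B1
import Cfsg.Agent.Lib.Helper52_W2p_P7

set_option autoImplicit false
set_option linter.unusedSectionVars false

/-! S0720 package C4 (architect helper12): the two identities (Id1), (Id2) for a G-invariant
integer matrix in the case where U1 meets every eigenspace W_k (k nonzero). -/


namespace Cfsg.Agent.Lib.Helper88_W2p_C4

open Equiv MulAction Cfsg.Agent.Lib.Helper12_W2pDefs

variable {α : Type*} [Fintype α] [DecidableEq α]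

section basics
variable {G : Subgroup (Perm α)} {p : ℕ} [Fact p.Prime]

theorem zeta_pow_p : zeta p ^ p = 1 := by
  unfold zeta
  rw [← Complex.exp_nat_mul]
  have hp : (p : ℂ) ≠ 0 := Nat.cast_ne_zero.mpr (Fact.out : p.Prime).ne_zero
  rw [show (p : ℂ) * (2 * Real.pi * Complex.I / p) = 2 * Real.pi * Complex.I by field_simp]
  exact Complex.exp_two_pi_mul_I

theorem zeta_pow_val_add (a b : ZMod p) :
    zeta p ^ (a + b).val = zeta p ^ a.val * zeta p ^ b.val := by
  rw [ZMod.val_add, ← pow_eq_pow_mod _ zeta_pow_p, pow_add]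

theorem zeta_pow_val_zero : zeta p ^ (0 : ZMod p).val = 1 := by
  rw [ZMod.val_zero, pow_zero]

theorem conj_zeta : (starRingEnd ℂ) (zeta p) = (zeta p)⁻¹ := by
  unfold zeta
  rw [← Complex.exp_conj, ← Complex.exp_neg]
  congr 1
  rw [map_div₀, map_mul, map_mul, Complex.conj_I, Complex.conj_ofReal, Complex.conj_natCast,
    map_ofNat]
  ring

theorem conj_zeta_pow_val (a : ZMod p) :
    (starRingEnd ℂ) (zeta p ^ a.val) = zeta p ^ (-a).val := by
  rw [map_pow, conj_zeta, inv_pow]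
  have h := zeta_pow_val_add (p := p) a (-a)
  rw [add_neg_cancel, zeta_pow_val_zero] at h
  exact inv_eq_of_mul_eq_one_right h.symm

theorem shift_inv (F : Frame G p) (A : Matrix α α ℤ) (hA : Inv G A) (i j : ZMod p)
    (a b : Fin 2) :
    A (F.φ (i, a)) (F.φ (j, b)) = A (F.φ (0, a)) (F.φ (j - i, b)) := by
  have h1 : ∀ (n : ℕ) (i j : ZMod p),
      A (F.φ (i + n, a)) (F.φ (j + n, b)) = A (F.φ (i, a)) (F.φ (j, b)) := by
    intro n
    induction n with
    | zero => intro i j; simp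
    | succ n ih =>
      intro i j
      have := hA F.x F.hx (F.φ (i + n, a)) (F.φ (j + n, b))
      rw [F.hφ, F.hφ] at this
      rw [← ih i j, ← this]
      push_cast
      simp only [add_assoc]
  have := h1 i.val 0 (j - i)
  rw [ZMod.natCast_zmod_val] at this
  simpa using this

theorem sum_phi {M : Type*} [AddCommMonoid M] (F : Frame G p) (f : α → M) :
    ∑ ω, f ω = ∑ i : ZMod p, ∑ a : Fin 2, f (F.φ (i, a)) := by
  rw [← Equiv.sum_comp F.φ f, Fintype.sum_prod_type]

theorem evec_phi (F : Frame G p) (k : ZMod p) (c : Fin 2) (j : ZMod p) (b : Fin 2) :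
    evec F k c (F.φ (j, b)) = if b = c then zeta p ^ (j * k).val else 0 := by
  simp [evec]

theorem u_phi (F : Frame G p) (k : ZMod p) (y : Fin 2 → ℂ) (j : ZMod p) (b : Fin 2) :
    (y 0 • evec F k 0 + y 1 • evec F k 1) (F.φ (j, b)) = y b * zeta p ^ (j * k).val := by
  simp only [Pi.add_apply, Pi.smul_apply, smul_eq_mul, evec_phi]
  fin_cases b <;> simp

theorem mulVec_u_apply (F : Frame G p) (B : Matrix α α ℤ) (k : ZMod p) (y : Fin 2 → ℂ)
    (a : Fin 2) :
    ((B.map (Int.cast : ℤ → ℂ)).mulVec (y 0 • evec F k 0 + y 1 • evec F k 1)) (F.φ (0, a)) =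
      ∑ b : Fin 2, (∑ j : ZMod p, (B (F.φ (0, a)) (F.φ (j, b)) : ℂ) * zeta p ^ (j * k).val)
        * y b := by
  rw [Matrix.mulVec, dotProduct, sum_phi F, Finset.sum_comm]
  refine Finset.sum_congr rfl fun b _ => ?_
  rw [Finset.sum_mul]
  refine Finset.sum_congr rfl fun j _ => ?_
  rw [u_phi, Matrix.map_apply]
  ring

theorem mk_conj (F : Frame G p) (A : Matrix α α ℤ) (hA : Inv G A) (k : ZMod p) (a b : Fin 2) :
    ∑ j : ZMod p, (A (F.φ (j, b)) (F.φ (0, a)) : ℂ) * zeta p ^ (j * k).val =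
      starRingEnd ℂ (Helper12_W2pDefs.mk F A k b a) := by
  unfold Helper12_W2pDefs.mk
  rw [map_sum]
  simp only [map_mul, map_intCast, conj_zeta_pow_val]
  rw [← Equiv.sum_comp (Equiv.neg (ZMod p))]
  refine Finset.sum_congr rfl fun d _ => ?_
  rw [shift_inv F A hA]
  simp only [Equiv.neg_apply, zero_sub, neg_neg, neg_mul]

/-- integer block sums -/
def bs (F : Frame G p) (A : Matrix α α ℤ) (a b : Fin 2) : ℤ :=
  ∑ d : ZMod p, A (F.φ (0, a)) (F.φ (d, b))

theorem rowSum_eq (F : Frame G p) (A : Matrix α α ℤ) :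
    rowSum F A = bs F A 0 0 + bs F A 0 1 := by
  unfold rowSum bs
  rw [sum_phi F, ← Finset.sum_add_distrib]
  refine Finset.sum_congr rfl fun i _ => ?_
  rw [Fin.sum_univ_two]

theorem row_one_eq (F : Frame G p) (A : Matrix α α ℤ) :
    ∑ ω', A (F.φ (0, 1)) ω' = bs F A 1 0 + bs F A 1 1 := by
  unfold bs
  rw [sum_phi F, ← Finset.sum_add_distrib]
  refine Finset.sum_congr rfl fun i _ => ?_
  rw [Fin.sum_univ_two]

theorem col_zero_eq (F : Frame G p) (A : Matrix α α ℤ) (hA : Inv G A) :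
    ∑ ω, A ω (F.φ (0, 0)) = bs F A 0 0 + bs F A 1 0 := by
  unfold bs
  rw [sum_phi F, ← Finset.sum_add_distrib, ← Equiv.sum_comp (Equiv.neg (ZMod p))]
  refine Finset.sum_congr rfl fun i _ => ?_
  rw [Fin.sum_univ_two]
  simp only [Equiv.neg_apply]
  rw [shift_inv F A hA (-i) 0 0 0, shift_inv F A hA (-i) 0 1 0]
  simp only [zero_sub, neg_neg]

theorem tw_eq (F : Frame G p) (A : Matrix α α ℤ) :
    tw F A = bs F A 0 0 - bs F A 0 1 := by
  unfold tw bs
  rw [Finset.sum_sub_distrib]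

theorem sum_cf_eq (F : Frame G p) (A : Matrix α α ℤ) :
    ∑ d, cf F A d = bs F A 0 0 + bs F A 1 1 := by
  unfold cf bs
  rw [Finset.sum_add_distrib]

theorem trace_eq (F : Frame G p) (A : Matrix α α ℤ) (hA : Inv G A) :
    (A * A.transpose).trace =
      p * ∑ a : Fin 2, ∑ b : Fin 2, ∑ d : ZMod p, A (F.φ (0, a)) (F.φ (d, b)) ^ 2 := by
  have h1 : (A * A.transpose).trace = ∑ ω, ∑ ω', A ω ω' ^ 2 := by
    simp only [Matrix.trace, Matrix.diag, Matrix.mul_apply, Matrix.transpose_apply, sq]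
  rw [h1, sum_phi F]
  have h2 : ∀ i : ZMod p, ∑ a : Fin 2, ∑ ω', A (F.φ (i, a)) ω' ^ 2 =
      ∑ a : Fin 2, ∑ b : Fin 2, ∑ d : ZMod p, A (F.φ (0, a)) (F.φ (d, b)) ^ 2 := by
    intro i
    refine Finset.sum_congr rfl fun a _ => ?_
    rw [sum_phi F, Finset.sum_comm]
    refine Finset.sum_congr rfl fun b _ => ?_
    rw [← Equiv.sum_comp (Equiv.subRight i) (fun d => A (F.φ (0, a)) (F.φ (d, b)) ^ 2)]
    refine Finset.sum_congr rfl fun j _ => ?_
    rw [shift_inv F A hA i j a b]
    rfl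
  rw [Finset.sum_congr rfl (fun i _ => h2 i), Finset.sum_const, Finset.card_univ, ZMod.card,
    nsmul_eq_mul]

theorem parseval_entry (F : Frame G p) (A : Matrix α α ℤ) (a b : Fin 2) :
    ∑ k : ZMod p, Complex.normSq (Helper12_W2pDefs.mk F A k a b) =
      p * ∑ d : ZMod p, ((A (F.φ (0, a)) (F.φ (d, b)) : ℤ) : ℝ) ^ 2 := by
  have := Helper52_W2p_P7.P7_parseval (p := p) (fun d => (A (F.φ (0, a)) (F.φ (d, b)) : ℂ))
  simp only [Complex.normSq_intCast, ← sq] at this
  exact this

theorem trace_mk (F : Frame G p) (A : Matrix α α ℤ) (k : ZMod p) :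
    (Helper12_W2pDefs.mk F A k).trace = tau F A k := by
  rw [Matrix.trace_fin_two]
  unfold Helper12_W2pDefs.mk tau cf
  rw [← Finset.sum_add_distrib]
  refine Finset.sum_congr rfl fun d _ => ?_
  push_cast
  ring

theorem mk_zero (F : Frame G p) (A : Matrix α α ℤ) (a b : Fin 2) :
    Helper12_W2pDefs.mk F A 0 a b = (bs F A a b : ℂ) := by
  unfold Helper12_W2pDefs.mk bs
  push_cast
  refine Finset.sum_congr rfl fun d _ => ?_
  rw [mul_zero, ZMod.val_zero, pow_zero, mul_one]

theorem tau_zero (F : Frame G p) (A : Matrix α α ℤ) :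
    tau F A 0 = ((bs F A 0 0 + bs F A 1 1 : ℤ) : ℂ) := by
  rw [← trace_mk, Matrix.trace_fin_two, mk_zero, mk_zero]
  push_cast
  rfl

theorem block_k (G : Subgroup (Perm α)) [IsPretransitive G α] (F : Frame G p)
    (A : Matrix α α ℤ) (hA : Inv G A) (k : ZMod p) (hk : Meets G F k) :
    ∑ a, ∑ b, Complex.normSq (Helper12_W2pDefs.mk F A k a b) =
      Complex.normSq (tw F A : ℂ) + Complex.normSq (tau F A k - tw F A) := by
  obtain ⟨y, hy, hu⟩ := hk
  obtain ⟨-, -, hB3, hB4⟩ := Helper65_W2p_B1.B1 G F A hA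
  have hAT : Inv G A.transpose := fun g hg i j => by
    simp only [Matrix.transpose_apply]; exact hA g hg j i
  obtain ⟨-, -, hB3T, -⟩ := Helper65_W2p_B1.B1 G F A.transpose hAT
  have e1 := hB3 _ hu
  have e2 := hB3T _ hu
  rw [hB4] at e2
  have h1 : (Helper12_W2pDefs.mk F A k).mulVec y = (tw F A : ℂ) • y := by
    funext a
    have := congrFun e1 (F.φ (0, a))
    rw [mulVec_u_apply, Pi.smul_apply, u_phi, zero_mul, ZMod.val_zero, pow_zero, mul_one]
      at this
    rw [Matrix.mulVec, dotProduct, Pi.smul_apply]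
    exact this
  have h2 : (Helper12_W2pDefs.mk F A k).conjTranspose.mulVec y =
      (starRingEnd ℂ (tw F A : ℂ)) • y := by
    funext a
    have := congrFun e2 (F.φ (0, a))
    rw [mulVec_u_apply, Pi.smul_apply, u_phi, zero_mul, ZMod.val_zero, pow_zero, mul_one]
      at this
    simp only [Matrix.transpose_apply] at this
    rw [Matrix.mulVec, dotProduct, Pi.smul_apply, map_intCast, ← this]
    refine Finset.sum_congr rfl fun b _ => ?_
    rw [Matrix.conjTranspose_apply, mk_conj F A hA]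
    rfl
  have := (Helper52_W2p_P7.P7_two _ y hy _ h1 h2).2
  rw [trace_mk] at this
  exact this

theorem shifted_parseval (F : Frame G p) (A : Matrix α α ℤ) :
    ∑ k : ZMod p, Complex.normSq (tau F A k - (tw F A : ℂ)) =
      p * ((∑ d, ((cf F A d : ℤ) : ℝ) ^ 2) - 2 * tw F A * cf F A 0 + (tw F A : ℝ) ^ 2) := by
  have hP := Helper52_W2p_P7.P7_parseval (p := p)
    (fun d => ((cf F A d - if d = 0 then tw F A else 0 : ℤ) : ℂ))
  have hL : ∀ k : ZMod p,
      ∑ d : ZMod p, ((cf F A d - if d = 0 then tw F A else 0 : ℤ) : ℂ) * zeta p ^ (d * k).val =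
        tau F A k - (tw F A : ℂ) := by
    intro k
    unfold tau
    have : ∀ d : ZMod p,
        ((cf F A d - if d = 0 then tw F A else 0 : ℤ) : ℂ) * zeta p ^ (d * k).val =
          (cf F A d : ℂ) * zeta p ^ (d * k).val - (if d = 0 then (tw F A : ℂ) else 0) := by
      intro d
      split_ifs with hd
      · subst hd
        simp
      · simp
    rw [Finset.sum_congr rfl (fun d _ => this d), Finset.sum_sub_distrib, Finset.sum_ite_eq']
    simp
  simp only [hL, Complex.normSq_intCast] at hP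
  rw [hP]
  congr 1
  have : ∀ d : ZMod p,
      (((cf F A d - if d = 0 then tw F A else 0 : ℤ) : ℝ)) *
        ((cf F A d - if d = 0 then tw F A else 0 : ℤ) : ℝ) =
      ((cf F A d : ℤ) : ℝ) ^ 2 -
        (if d = 0 then (2 * tw F A * cf F A 0 - (tw F A : ℝ) ^ 2 : ℝ) else 0) := by
    intro d
    split_ifs with hd
    · subst hd
      push_cast
      ring
    · push_cast
      ring
  rw [Finset.sum_congr rfl (fun d _ => this d), Finset.sum_sub_distrib, Finset.sum_ite_eq']
  simp
  ring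

end basics

theorem C4 {p : ℕ} [Fact p.Prime] (G : Subgroup (Perm α)) [IsPretransitive G α] (F : Frame G p)
    (h : ∀ k : ZMod p, k ≠ 0 → Meets G F k) (A : Matrix α α ℤ) (hA : Inv G A) :
    (∑ d, cf F A d = rowSum F A + tw F A) ∧
    ((A * A.transpose).trace =
      p * (2 * tw F A ^ 2 - 2 * tw F A * cf F A 0 + ∑ d, cf F A d ^ 2)) := by
  obtain ⟨hrow, hcol, -, -⟩ := Helper65_W2p_B1.B1 G F A hA
  have r0 := rowSum_eq F A
  have r1 := (row_one_eq F A).symm.trans (hrow _)
  have c0 := (col_zero_eq F A hA).symm.trans (hcol _)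
  have t0 := tw_eq F A
  have s0 := sum_cf_eq F A
  have hb11 : bs F A 1 1 = bs F A 0 0 := by linarith
  have hb10 : bs F A 1 0 = bs F A 0 1 := by linarith
  refine ⟨by linarith, ?_⟩
  have key : (((A * A.transpose).trace : ℤ) : ℝ) =
      p * (2 * (tw F A : ℝ) ^ 2 - 2 * tw F A * cf F A 0 + ∑ d, ((cf F A d : ℤ) : ℝ) ^ 2) := by
    rw [trace_eq F A hA]
    push_cast
    have e1 : (p : ℝ) * ∑ a : Fin 2, ∑ b : Fin 2, ∑ d : ZMod p,
        ((A (F.φ (0, a)) (F.φ (d, b)) : ℤ) : ℝ) ^ 2 =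
        ∑ k : ZMod p, ∑ a : Fin 2, ∑ b : Fin 2,
          Complex.normSq (Helper12_W2pDefs.mk F A k a b) := by
      rw [Finset.mul_sum, Finset.sum_comm]
      refine Finset.sum_congr rfl fun a _ => ?_
      rw [Finset.mul_sum, Finset.sum_comm]
      refine Finset.sum_congr rfl fun b _ => ?_
      rw [parseval_entry]
    rw [e1]
    have e2 : ∀ k : ZMod p, ∑ a : Fin 2, ∑ b : Fin 2,
        Complex.normSq (Helper12_W2pDefs.mk F A k a b) =
          (tw F A : ℝ) ^ 2 + Complex.normSq (tau F A k - (tw F A : ℂ)) := by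
      intro k
      by_cases hk : k = 0
      · subst hk
        simp only [Fin.sum_univ_two, mk_zero, tau_zero, Complex.normSq_intCast]
        rw [← Int.cast_sub, Complex.normSq_intCast, hb11, hb10, t0]
        push_cast
        ring
      · rw [block_k G F A hA k (h k hk), Complex.normSq_intCast]
        ring
    rw [Finset.sum_congr rfl (fun k _ => e2 k), Finset.sum_add_distrib, shifted_parseval,
      Finset.sum_const, Finset.card_univ, ZMod.card, nsmul_eq_mul]
    ring
  exact_mod_cast key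

end Cfsg.Agent.Lib.Helper88_W2p_C4
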