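import Mathlib

/-!
Package P1 of helper12's S0720 market (Wielandt, primitive groups of degree `2p`), helper94.
Permutation-group reductions for a primitive, not 2-transitive group of degree `2p`:
`p ≠ 2`, `p ∥ |G|`, no normal subgroup of order `p`, elements of order `p` are fixed-point-free, a point stabiliser
fixes no second point.  Jordan's criterion is `MulAction.IsPreprimitive.is_two_pretransitive`.
-/

set_option autoImplicit false

namespace Cfsg.Agent.Lib.Helper94_W2p_P1

open Equiv MulAction

variable {α : Type*} [Fintype α] [DecidableEq α]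

/-- Jordan: a primitive group of degree `2p` containing a cycle of length `p` is 2-transitive -/
theorem two_trans_of_cycle {p : ℕ} (hp : 1 < p) (hα : Fintype.card α = 2 * p)
    (G : Subgroup (Perm α)) (hG : IsPreprimitive G α) (g : Perm α) (hg : g ∈ G) (hc : g.IsCycle)
    (hs : g.support.card = p) : IsMultiplyPretransitive G α 2 := by
  have htr := Equiv.Perm.isPretransitive_of_isCycle_mem hc hg
  have hsn : ((g.support : Set α)ᶜ).ncard = (p - 1) + 1 := by
    apply Nat.add_left_cancel (n := (g.support : Set α).ncard)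
    rw [Set.ncard_add_ncard_compl, Set.ncard_coe_finset, hs, Nat.card_eq_fintype_card, hα]
    omega
  exact hG.is_two_pretransitive hsn (by rw [Nat.card_eq_fintype_card, hα]; omega) htr

/-- elements of order `p` have no fixed point -/
theorem fpf_of_order {p : ℕ} (hp : p.Prime) (hα : Fintype.card α = 2 * p)
    (G : Subgroup (Perm α)) (hG : IsPreprimitive G α) (h2 : ¬ IsMultiplyPretransitive G α 2)
    (x : Perm α) (hx : x ∈ G) (ho : orderOf x = p) (ω : α) : x ω ≠ ω := by
  intro hfix
  obtain ⟨n, hn⟩ := Equiv.Perm.cycleType_prime_order (σ := x) (by rw [ho]; exact hp)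
  rw [ho] at hn
  have hsum : x.support.card = (n + 1) * p := by
    rw [← Equiv.Perm.sum_cycleType, hn, Multiset.sum_replicate, smul_eq_mul]
  have hlt : x.support.card < 2 * p := by
    rw [← hα]
    apply Finset.card_lt_univ_of_notMem (x := ω)
    rw [Equiv.Perm.mem_support]
    exact not_not.2 hfix
  have hppos : 0 < p := hp.pos
  have hn0 : n = 0 := by
    by_contra hne
    have h2n : 2 ≤ n + 1 := by omega
    have : 2 * p ≤ (n + 1) * p := Nat.mul_le_mul_right p h2n
    omega
  have hcyc : x.IsCycle := by
    rw [← Equiv.Perm.card_cycleType_eq_one, hn, hn0]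
    simp
  exact h2 (two_trans_of_cycle hp.one_lt hα G hG x hx hcyc (by rw [hsum, hn0]; simp))

/-- in a primitive group of degree `2p` a point stabiliser fixes no second point -/
theorem stab_moves {p : ℕ} (hp : p.Prime) (hα : Fintype.card α = 2 * p)
    (G : Subgroup (Perm α)) (hG : IsPreprimitive G α) (a b : α) (hab : a ≠ b) :
    ∃ g ∈ G, g a = a ∧ g b ≠ b := by
  by_contra hcon
  push Not at hcon
  have : IsPreprimitive G α := hG
  have : IsPretransitive G α := hG.toIsPretransitive
  have : Nontrivial α := ⟨⟨a, b, hab⟩⟩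
  have hco : IsCoatom (stabilizer G a) := (isCoatom_stabilizer_iff_preprimitive (G := G) (X := α) a).2 hG
  have hle : stabilizer G a ≤ stabilizer G b := by
    intro g hg
    rw [mem_stabilizer_iff] at hg ⊢
    exact hcon g.1 g.2 hg
  have hne : stabilizer G b ≠ ⊤ := by
    intro htop
    obtain ⟨g, hg⟩ := exists_smul_eq G b a
    have : g ∈ stabilizer G b := by rw [htop]; exact Subgroup.mem_top g
    rw [mem_stabilizer_iff] at this
    exact hab (hg.symm.trans this)
  have heq : stabilizer G a = stabilizer G b := by
    rcases eq_or_lt_of_le hle with h | h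
    · exact h
    · exact absurd (hco.2 _ h) hne
  obtain ⟨g, hg⟩ := exists_smul_eq G a b
  have hnorm : g ∈ Subgroup.normalizer (stabilizer G a : Set G) := by
    rw [Subgroup.mem_normalizer_iff]
    intro h
    have h1 : stabilizer G (g • a) = (stabilizer G a).map (MulAut.conj g).toMonoidHom :=
      stabilizer_smul_eq_stabilizer_map_conj g a
    rw [hg, ← heq] at h1
    constructor
    · intro hh
      rw [h1]
      exact ⟨h, hh, rfl⟩
    · intro hh
      rw [h1] at hh
      obtain ⟨h', hh', he⟩ := hh
      have : h' = h := by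
        have := congrArg (fun y => g⁻¹ * y * g) he
        simpa [MulAut.conj_apply, mul_assoc] using this
      rw [← this]
      exact hh'
  have hnot : g ∉ stabilizer G a := by
    intro h
    rw [mem_stabilizer_iff] at h
    exact hab (h.symm.trans hg)
  have hlt : stabilizer G a < Subgroup.normalizer (stabilizer G a : Set G) :=
    lt_of_le_of_ne Subgroup.le_normalizer (fun h => hnot (by rw [h]; exact hnorm))
  have htop : Subgroup.normalizer (stabilizer G a : Set G) = ⊤ := hco.2 _ hlt
  have hnormal : (stabilizer G a).Normal := Subgroup.normalizer_eq_top_iff.1 htop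
  have htriv : ∀ k ∈ stabilizer G a, k = 1 := by
    intro k hk
    apply Subtype.ext
    apply Equiv.Perm.ext
    intro c
    obtain ⟨h, hh⟩ := exists_smul_eq G a c
    have hconj : h⁻¹ * k * h ∈ stabilizer G a := by
      have := hnormal.conj_mem k hk h⁻¹
      simpa using this
    rw [mem_stabilizer_iff, mul_smul, mul_smul, hh] at hconj
    have : k • c = c := by
      have := congrArg (fun y => h • y) hconj
      simpa [hh] using this
    exact this
  have hbot : stabilizer G a = ⊥ := by
    rw [Subgroup.eq_bot_iff_forall]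
    exact htriv
  have hcard : Nat.card G = 2 * p := by
    have h1 : (stabilizer G a).index = Nat.card α := index_stabilizer_of_transitive G a
    rw [hbot, Subgroup.index_bot, Nat.card_eq_fintype_card (α := α), hα] at h1
    exact h1
  haveI : Fact (Nat.Prime 2) := ⟨Nat.prime_two⟩
  obtain ⟨x, hx⟩ := exists_prime_orderOf_dvd_card' (G := G) 2 (by rw [hcard]; exact dvd_mul_right 2 p)
  have hx1 : x ≠ 1 := by
    intro h
    rw [h, orderOf_one] at hx
    omega
  have hzne : Subgroup.zpowers x ≠ ⊥ := by
    intro h
    apply hx1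
    have : x ∈ Subgroup.zpowers x := Subgroup.mem_zpowers x
    rw [h, Subgroup.mem_bot] at this
    exact this
  rw [hbot] at hco
  have hztop : Subgroup.zpowers x = ⊤ := hco.2 _ (bot_lt_iff_ne_bot.2 hzne)
  have hc2 : Nat.card (Subgroup.zpowers x) = 2 := by rw [Nat.card_zpowers, hx]
  rw [hztop, Subgroup.card_top, hcard] at hc2
  have := hp.one_lt
  omega

/-- `p ≠ 2` -/
theorem ne_two {p : ℕ} (hp : p.Prime) (hα : Fintype.card α = 2 * p)
    (G : Subgroup (Perm α)) (hG : IsPreprimitive G α) (h2 : ¬ IsMultiplyPretransitive G α 2) :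
    p ≠ 2 := by
  rintro rfl
  apply h2
  haveI : IsPretransitive G α := hG.toIsPretransitive
  have key : ∀ a b c : α, b ≠ a → c ≠ a → ∃ g : G, g • a = a ∧ g • b = c := by
    intro a b c hba hca
    by_contra hcon
    push Not at hcon
    obtain ⟨g, hgG, hga, hgb⟩ := stab_moves hp hα G hG a b (Ne.symm hba)
    obtain ⟨g', hgG', hga', hgc⟩ := stab_moves hp hα G hG a c (Ne.symm hca)
    have e1 : g b ≠ a := by
      intro h
      apply hba
      have : g b = g a := by rw [h, hga]
      exact g.injective this
    have e2 : g' c ≠ a := by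
      intro h
      apply hca
      have : g' c = g' a := by rw [h, hga']
      exact g'.injective this
    have e3 : b ≠ c := fun h => hcon 1 (one_smul _ _) (by rw [one_smul]; exact h)
    have e4 : g b ≠ c := fun h => hcon ⟨g, hgG⟩ hga h
    have e5 : b ≠ g' c := by
      intro h
      apply hcon ⟨g', hgG'⟩⁻¹
      · rw [inv_smul_eq_iff]
        exact hga'.symm
      · rw [inv_smul_eq_iff]
        exact h
    have e6 : g b ≠ g' c := by
      intro h
      apply hcon (⟨g', hgG'⟩⁻¹ * ⟨g, hgG⟩)
      · rw [mul_smul, inv_smul_eq_iff]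
        show g a = g' a
        rw [hga, hga']
      · rw [mul_smul, inv_smul_eq_iff]
        exact h
    have h5 : ({a, b, g b, c, g' c} : Finset α).card = 5 := by
      rw [Finset.card_insert_of_notMem, Finset.card_insert_of_notMem, Finset.card_insert_of_notMem,
        Finset.card_insert_of_notMem, Finset.card_singleton]
      · simp only [Finset.mem_singleton]
        exact fun h => hgc h.symm
      · simp only [Finset.mem_insert, Finset.mem_singleton, not_or]
        exact ⟨e4, e6⟩
      · simp only [Finset.mem_insert, Finset.mem_singleton, not_or]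
        exact ⟨fun h => hgb h.symm, e3, e5⟩
      · simp only [Finset.mem_insert, Finset.mem_singleton, not_or]
        exact ⟨fun h => hba h.symm, fun h => e1 h.symm, fun h => hca h.symm, fun h => e2 h.symm⟩
    have := Finset.card_le_univ ({a, b, g b, c, g' c} : Finset α)
    rw [h5, hα] at this
    omega
  rw [is_two_pretransitive_iff]
  intro a b c d hab hcd
  obtain ⟨g1, hg1⟩ := exists_smul_eq G a c
  have hb' : g1 • b ≠ c := by
    rw [← hg1]
    intro h
    exact hab (smul_left_cancel _ h).symm
  obtain ⟨k, hk1, hk2⟩ := key c (g1 • b) d hb' (Ne.symm hcd)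
  exact ⟨k * g1, by rw [mul_smul, hg1, hk1], by rw [mul_smul, hk2]⟩

/-- `p² ∤ |G|` -/
theorem not_sq_dvd {p : ℕ} (hp : p.Prime) (hα : Fintype.card α = 2 * p)
    (G : Subgroup (Perm α)) (hp2 : p ≠ 2)
    (h5 : ∀ x ∈ G, orderOf x = p → ∀ ω, x ω ≠ ω) : ¬ p ^ 2 ∣ Nat.card G := by
  intro hdvd
  haveI := Fact.mk hp
  obtain ⟨P, hP⟩ := Sylow.exists_subgroup_card_pow_prime p hdvd
  have hαpos : 0 < Fintype.card α := by rw [hα]; have := hp.pos; omega
  obtain ⟨a⟩ : Nonempty α := Fintype.card_pos_iff.1 hαpos
  by_cases hfree : ∀ k ∈ P, k ≠ 1 → ∀ ω : α, k • ω ≠ ω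
  · have hinj : Function.Injective (fun k : P => (k : G) • a) := by
      intro k k' h
      by_contra hne
      have hne' : (k' : G)⁻¹ * (k : G) ≠ 1 := by
        intro h1
        apply hne
        apply Subtype.ext
        have := congrArg (fun y => (k' : G) * y) h1
        simpa using this
      apply hfree ((k' : G)⁻¹ * (k : G)) (P.mul_mem (P.inv_mem k'.2) k.2) hne' a
      rw [mul_smul, inv_smul_eq_iff]
      exact h
    have hle := Nat.card_le_card_of_injective _ hinj
    rw [hP, Nat.card_eq_fintype_card, hα] at hle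
    have h2le := hp.two_le
    have : p ≤ 2 := by
      by_contra hlt
      push Not at hlt
      have : 3 * p ≤ p * p := Nat.mul_le_mul_right p hlt
      nlinarith
    omega
  · push Not at hfree
    obtain ⟨k, hkP, hk1, ω, hω⟩ := hfree
    have hord : orderOf k ∣ p ^ 2 := by
      have h1 : orderOf (⟨k, hkP⟩ : P) ∣ Nat.card P := orderOf_dvd_natCard _
      rw [hP] at h1
      have h2 : orderOf (⟨k, hkP⟩ : P) = orderOf k := Subgroup.orderOf_mk k hkP
      rwa [h2] at h1
    obtain ⟨j, -, hj⟩ := (Nat.dvd_prime_pow hp).1 hord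
    have hj0 : j ≠ 0 := by
      intro h0
      rw [h0, pow_zero, orderOf_eq_one_iff] at hj
      exact hk1 hj
    have hpd : p ∣ orderOf k := by
      rw [hj]
      exact dvd_pow_self p hj0
    have hk0 : orderOf k ≠ 0 := by
      rw [hj]
      exact pow_ne_zero _ hp.pos.ne'
    have hy : orderOf (k ^ (orderOf k / p)) = p := orderOf_pow_orderOf_div hk0 hpd
    have hyfix : (k ^ (orderOf k / p)) • ω = ω := by
      have : k ∈ stabilizer G ω := hω
      exact (stabilizer G ω).pow_mem this _
    have hy' : orderOf ((k ^ (orderOf k / p) : G) : Perm α) = p := by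
      rw [Subgroup.orderOf_coe]
      exact hy
    exact h5 _ (k ^ (orderOf k / p) : G).2 hy' ω hyfix

/-- P1 -/
theorem P1 {p : ℕ} (hp : p.Prime) (hα : Fintype.card α = 2 * p) (G : Subgroup (Perm α))
    (hG : IsPreprimitive G α) (h2 : ¬ IsMultiplyPretransitive G α 2) :
    p ≠ 2 ∧ p ∣ Nat.card G ∧ ¬ p ^ 2 ∣ Nat.card G ∧
    (∀ H : Subgroup G, H.Normal → Nat.card H ≠ p) ∧
    (∀ x ∈ G, orderOf x = p → ∀ ω, x ω ≠ ω) ∧
    (∀ a b : α, a ≠ b → ∃ g ∈ G, g a = a ∧ g b ≠ b) := by
  have hp2 := ne_two hp hα G hG h2
  have h5 : ∀ x ∈ G, orderOf x = p → ∀ ω, x ω ≠ ω :=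
    fun x hx ho ω => fpf_of_order hp hα G hG h2 x hx ho ω
  haveI : IsPreprimitive G α := hG
  haveI : IsPretransitive G α := hG.toIsPretransitive
  have hαpos : 0 < Fintype.card α := by rw [hα]; have := hp.pos; omega
  obtain ⟨a⟩ : Nonempty α := Fintype.card_pos_iff.1 hαpos
  refine ⟨hp2, ?_, not_sq_dvd hp hα G hp2 h5, ?_, h5, fun a b hab => stab_moves hp hα G hG a b hab⟩
  · have h1 : (stabilizer G a).index = Nat.card α := index_stabilizer_of_transitive G a
    have h3 : (stabilizer G a).index ∣ Nat.card G := Subgroup.index_dvd_card _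
    rw [h1, Nat.card_eq_fintype_card (α := α), hα] at h3
    exact (dvd_mul_left p 2).trans h3
  · intro H hH hcard
    haveI := hH
    have hne : fixedPoints H α ≠ Set.univ := by
      intro huniv
      have hall : ∀ h : H, h = 1 := by
        intro h
        apply Subtype.ext
        apply Subtype.ext
        apply Equiv.Perm.ext
        intro ω
        have hω : ω ∈ fixedPoints H α := by rw [huniv]; exact Set.mem_univ ω
        exact hω h
      haveI : Subsingleton H := ⟨fun x y => (hall x).trans (hall y).symm⟩
      have : Nat.card H = 1 := Nat.card_unique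
      have := hp.one_lt
      omega
    haveI htr : IsPretransitive H α := IsQuasiPreprimitive.isPretransitive_of_normal hne
    have h1 : (stabilizer H a).index = Nat.card α := index_stabilizer_of_transitive H a
    have h3 : (stabilizer H a).index ∣ Nat.card H := Subgroup.index_dvd_card _
    rw [h1, Nat.card_eq_fintype_card (α := α), hα, hcard] at h3
    have := Nat.le_of_dvd hp.pos h3
    have := hp.pos
    omega

end Cfsg.Agent.Lib.Helper94_W2p_P1
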