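import Mathlib
import Cfsg.Prelude.Def_Blocks
import Cfsg.Agent.Lib.Helper3_CharComplete
import Cfsg.Agent.Lib.Helper25_AbDual
import Cfsg.Agent.Lib.Helper32_Sylow
import Cfsg.Agent.Lib.Helper75_GalConj
import Cfsg.Agent.Lib.Helper80_CharBasic
import Cfsg.Agent.Lib.Helper16_BrauerSetup
import Cfsg.Agent.Lib.Helper16_BrauerK
import Cfsg.Agent.Lib.Helper16_BrauerGal
import Cfsg.Agent.Lib.Helper16_GenSetup
import Cfsg.Agent.Lib.Helper16_GenK
import Cfsg.Agent.Lib.Helper16_GenGal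
import Cfsg.Agent.Lib.Helper16_GenFinal

/-!
# Blocks of defect one, general root: `p`-conjugacy (helper16)

Block-free.  `P` Sylow of order `p`, `C_G(P) = P × V`, `θ ∈ Irr(V)`.  A `p`-conjugation is a power
map `g ↦ g ^ k` with `k` coprime to `|G|` and `k ≡ 1` modulo the `p'`-part of `|G|`.

* `exists_conj_hv` : every `p`-singular element is conjugate to some `h v`, `1 ≠ h ∈ P`, `v ∈ V`;
* `value_hv` : `χ (h v) = ∑_{θ'} sfun P V θ' χ h * θ' v`;
* `twist_eq_of_X` : a non-exceptional character is fixed by all `p`-conjugations;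
* `twist_mem_Y`, `exists_twist_Y` : the exceptional characters form one full `p`-conjugacy class.
-/

set_option autoImplicit false
set_option linter.unusedSectionVars false

namespace Cfsg.Agent.Lib.Helper16_GenConj

open Cfsg Cfsg.Agent.Lib.Helper16_BrauerSetup Cfsg.Agent.Lib.Helper16_BrauerGal
  Cfsg.Agent.Lib.Helper16_GenSetup Cfsg.Agent.Lib.Helper16_GenK Cfsg.Agent.Lib.Helper16_GenGal
  Cfsg.Agent.Lib.Helper16_GenFinal
  Cfsg.Agent.Lib.Helper3_CharComplete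
open scoped ComplexConjugate

variable {G : Type*} [Group G] [Fintype G] {p : ℕ} [hp : Fact p.Prime] {P : Sylow p G}
  {V : Subgroup G}

/-- Every `p`-singular element is conjugate to `h v` with `1 ≠ h ∈ P` and `v ∈ V`. -/
theorem exists_conj_hv (hP : Nat.card P = p) (hV : IsPCompl P V) {g : G}
    (hg : p ∣ orderOf g) :
    ∃ (t : G) (h : ↥(P : Subgroup G)) (v : ↥V), h ≠ 1 ∧ g = t * ((h : G) * (v : G)) * t⁻¹ := by
  have hpos : orderOf g ≠ 0 := (orderOf_pos g).ne'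
  set x := g ^ (orderOf g / p) with hx
  have hox : orderOf x = p := orderOf_pow_orderOf_div hpos hg
  have hQ : IsPGroup p (Subgroup.zpowers x) := by
    refine IsPGroup.of_card (n := 1) ?_
    rw [pow_one, Nat.card_zpowers, hox]
  obtain ⟨c, -, hc⟩ := Cfsg.Agent.Lib.Helper32_Sylow.sylow_conj_into ⊤ P le_top
    (Subgroup.zpowers x) le_top hQ
  have hcx : c * x * c⁻¹ ∈ (P : Subgroup G) := hc x (Subgroup.mem_zpowers x)
  have hcx1 : c * x * c⁻¹ ≠ 1 := by
    intro h1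
    have hx1 : x = 1 := by
      have := congrArg (fun y => c⁻¹ * y * c) h1
      simpa [mul_assoc] using this
    rw [hx1, orderOf_one] at hox
    exact hp.out.one_lt.ne hox
  have hcomm : c * g * c⁻¹ ∈ Subgroup.centralizer ({c * x * c⁻¹} : Set G) := by
    rw [Subgroup.mem_centralizer_iff]
    intro y hy
    rw [Set.mem_singleton_iff.mp hy]
    have hgx : Commute g x := (Commute.refl g).pow_right _
    calc c * x * c⁻¹ * (c * g * c⁻¹) = c * (x * g) * c⁻¹ := by group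
      _ = c * (g * x) * c⁻¹ := by rw [hgx.eq]
      _ = c * g * c⁻¹ * (c * x * c⁻¹) := by group
  rw [Cfsg.Agent.Lib.Helper16_BrauerK.centralizer_singleton_eq P hP hcx hcx1] at hcomm
  obtain ⟨h, hh, v, hv, hprod⟩ := hV.prod _ hcomm
  refine ⟨c⁻¹, ⟨h, hh⟩, ⟨v, hv⟩, ?_, ?_⟩
  · intro h1
    have h1' : h = 1 := congrArg Subtype.val h1
    rw [h1', one_mul] at hprod
    have ho : orderOf (c * g * c⁻¹) = orderOf g := by
      have := orderOf_injective (MulAut.conj c).toMonoidHom (MulAut.conj c).injective g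
      simpa using this
    have hdv : orderOf v ∣ Nat.card V := Subgroup.orderOf_dvd_natCard V hv
    rw [← hprod, ho] at hdv
    have hpV : p ∣ Nat.card V := hg.trans hdv
    have := hV.coprime
    rw [Nat.coprime_comm, Nat.Prime.coprime_iff_not_dvd hp.out] at this
    exact this hpV
  · show g = c⁻¹ * (h * v) * c⁻¹⁻¹
    rw [← hprod]
    group

section expansion

variable [Fintype ↥V]

/-- Fourier expansion on `V`: `χ (h v) = ∑_{θ'} sfun P V θ' χ h * θ' v`. -/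
theorem value_hv (hV : IsPCompl P V) (χ : IrrCharacter G) (h : ↥(P : Subgroup G)) (v : ↥V) :
    (χ : G → ℂ) ((h : G) * (v : G)) =
      ∑ θ' : IrrCharacter ↥V, sfun P V θ' χ h * (θ' : ↥V → ℂ) v := by
  have hcl : IsClassFunction ↥V (fun w : ↥V => (χ : G → ℂ) ((h : G) * (w : G))) := by
    intro w u
    show (χ : G → ℂ) ((h : G) * ((u * w * u⁻¹ : ↥V) : G)) = (χ : G → ℂ) ((h : G) * (w : G))
    push_cast
    have e1 : (h : G) * ((u : G) * (w : G) * (u : G)⁻¹) =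
        (u : G) * ((h : G) * (w : G)) * (u : G)⁻¹ := by
      have hc := (hV.commute h u).eq
      calc (h : G) * ((u : G) * (w : G) * (u : G)⁻¹) = ((h : G) * (u : G)) * (w : G) * (u : G)⁻¹ := by
            group
        _ = ((u : G) * (h : G)) * (w : G) * (u : G)⁻¹ := by rw [hc]
        _ = _ := by group
    rw [e1]
    exact Cfsg.Agent.Lib.Helper80_CharBasic.irr_conj χ _ _
  have h1 := congrFun (classFunction_eq_sum _ hcl) v
  rw [Finset.sum_apply] at h1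
  simp only [Pi.smul_apply, smul_eq_mul] at h1
  rw [h1]
  refine Finset.sum_congr rfl fun θ' _ => ?_
  rfl

end expansion

section twistX

variable [Fintype ↥(P : Subgroup G)] [Fintype ↥V] [Fintype (↥(P : Subgroup G) →* ℂˣ)]

/-- A `p`-conjugation does not kill a nontrivial element of `P`. -/
theorem pow_ne_one (hP : Nat.card P = p) {k : ℕ} (hk : k.Coprime (Nat.card G))
    {h : ↥(P : Subgroup G)} (hh : h ≠ 1) : h ^ k ≠ 1 := by
  intro h1
  have ho : orderOf h = p := by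
    have h2 : orderOf h ∣ p := by
      have := orderOf_dvd_natCard h
      rwa [hP] at this
    rcases (Nat.dvd_prime hp.out).mp h2 with h3 | h3
    · exact absurd (orderOf_eq_one_iff.mp h3) hh
    · exact h3
  have h4 : p ∣ k := by
    rw [← ho]
    exact orderOf_dvd_of_pow_eq_one h1
  have h5 : p ∣ Nat.card G := by
    have := Subgroup.card_subgroup_dvd_card (P : Subgroup G)
    rwa [hP] at this
  have h6 : p ∣ Nat.gcd k (Nat.card G) := Nat.dvd_gcd h4 h5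
  rw [hk] at h6
  exact hp.out.one_lt.ne' (Nat.dvd_one.mp h6)

/-- A `p`-conjugation fixes the `p`-regular elements. -/
theorem pow_eq_self_of_reg {k : ℕ}
    (hk1 : k ≡ 1 [MOD Nat.card G / p ^ (Nat.card G).factorization p]) {g : G}
    (hg : ¬ p ∣ orderOf g) : g ^ k = g := by
  have h1 : orderOf g ∣ Nat.card G := orderOf_dvd_natCard g
  have h2 : Nat.card G = p ^ (Nat.card G).factorization p *
      (Nat.card G / p ^ (Nat.card G).factorization p) :=
    (Nat.ordProj_mul_ordCompl_eq_self (Nat.card G) p).symm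
  rw [h2] at h1
  have hcop : (orderOf g).Coprime (p ^ (Nat.card G).factorization p) :=
    Nat.Coprime.pow_right _ ((Nat.Prime.coprime_iff_not_dvd hp.out).mpr hg).symm
  have h3 : orderOf g ∣ Nat.card G / p ^ (Nat.card G).factorization p :=
    hcop.dvd_of_dvd_mul_left h1
  have h4 : k ≡ 1 [MOD orderOf g] := hk1.of_dvd h3
  have := (pow_eq_pow_iff_modEq (x := g)).mpr h4
  rw [this, pow_one]

/-- **(F5a)** A non-exceptional character is fixed by every `p`-conjugation. -/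
theorem twist_eq_of_X (hP : Nat.card P = p) (hV : IsPCompl P V) (θ : IrrCharacter ↥V)
    (χ χ' : IrrCharacter G) (ε : ℤ)
    (hX : ∀ φ : ↥(P : Subgroup G) →* ℂˣ, φ ≠ 1 → nng hV θ χ φ = - ε)
    (hvan : ∀ θ' : IrrCharacter ↥V, ¬ IsConjθ hV θ θ' →
      ∀ h : ↥(P : Subgroup G), h ≠ 1 → sfun P V θ' χ h = 0)
    {k : ℕ} (hk : k.Coprime (Nat.card G))
    (hk1 : k ≡ 1 [MOD Nat.card G / p ^ (Nat.card G).factorization p])
    (hχ : ∀ g, (χ' : G → ℂ) g = (χ : G → ℂ) (g ^ k)) : χ' = χ := by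
  apply Subtype.ext
  funext g
  rw [hχ]
  by_cases hg : p ∣ orderOf g
  · obtain ⟨t, h, v, hh, rfl⟩ := exists_conj_hv hP hV hg
    have e1 : (t * ((h : G) * (v : G)) * t⁻¹) ^ k = t * (((h ^ k : ↥(P : Subgroup G)) : G) * (v : G)) * t⁻¹ := by
      rw [conj_pow, (hV.commute h v).mul_pow, pow_eq_self_of_mem hV hk1 v]
      push_cast
      rfl
    rw [e1, Cfsg.Agent.Lib.Helper80_CharBasic.irr_conj, Cfsg.Agent.Lib.Helper80_CharBasic.irr_conj,
      value_hv hV χ (h ^ k) v, value_hv hV χ h v]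
    refine Finset.sum_congr rfl fun θ' _ => ?_
    congr 1
    have hhk : h ^ k ≠ 1 := pow_ne_one hP hk hh
    by_cases hc : IsConjθ hV θ θ'
    · obtain ⟨n, hn, rfl⟩ := hc
      rw [sfun_conj, sfun_conj, sfun_X hP hV θ χ ε hX, sfun_X hP hV θ χ ε hX]
      · intro h1
        apply hh
        have := congrArg Subtype.val h1
        apply Subtype.ext
        have h2 : n * (h : G) * n⁻¹ = 1 := this
        have := congrArg (fun y => n⁻¹ * y * n) h2
        simpa [mul_assoc] using this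
      · intro h1
        apply hhk
        have := congrArg Subtype.val h1
        apply Subtype.ext
        have h2 : n * ((h ^ k : ↥(P : Subgroup G)) : G) * n⁻¹ = 1 := this
        have := congrArg (fun y => n⁻¹ * y * n) h2
        simpa [mul_assoc] using this
    · rw [hvan θ' hc h hh, hvan θ' hc (h ^ k) hhk]
  · rw [pow_eq_self_of_reg hk1 hg]

end twistX

section inverse

/-- An inverse `p`-conjugation. -/
theorem exists_inverse {k : ℕ} (hk : k.Coprime (Nat.card G))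
    (hk1 : k ≡ 1 [MOD Nat.card G / p ^ (Nat.card G).factorization p]) :
    ∃ l : ℕ, k * l ≡ 1 [MOD Nat.card G] ∧ l.Coprime (Nat.card G) ∧
      l ≡ 1 [MOD Nat.card G / p ^ (Nat.card G).factorization p] := by
  have hdvd : Nat.card G / p ^ (Nat.card G).factorization p ∣ Nat.card G :=
    Nat.ordCompl_dvd _ _
  by_cases h1 : Nat.card G = 1
  · refine ⟨1, ?_, ?_, ?_⟩
    · rw [h1]; exact Nat.modEq_one
    · rw [h1]; exact Nat.coprime_one_right 1
    · exact Nat.ModEq.refl 1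
  · have hgt : 1 < Nat.card G := by
      have : 0 < Nat.card G := Nat.card_pos
      omega
    obtain ⟨l, -, hl⟩ := Nat.exists_mul_mod_eq_one_of_coprime hk hgt
    have hkl : k * l ≡ 1 [MOD Nat.card G] := by
      unfold Nat.ModEq
      rw [hl, Nat.mod_eq_of_lt hgt]
    refine ⟨l, hkl, ?_, ?_⟩
    · have h2 : (k * l).Coprime (Nat.card G) := by
        have := (Nat.ModEq.gcd_eq hkl)
        unfold Nat.Coprime
        rw [this]
        exact Nat.gcd_one_left _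
      exact Nat.Coprime.coprime_mul_left h2
    · have h2 : k * l ≡ 1 [MOD Nat.card G / p ^ (Nat.card G).factorization p] := hkl.of_dvd hdvd
      have h3 : k * l ≡ 1 * l [MOD Nat.card G / p ^ (Nat.card G).factorization p] :=
        Nat.ModEq.mul_right l hk1
      rw [one_mul] at h3
      exact h3.symm.trans h2

end inverse

section twistY

variable [Fintype ↥(P : Subgroup G)] [Fintype ↥V] [Fintype (↥(P : Subgroup G) →* ℂˣ)]

/-- **(F5b)** The exceptional family is stable under `p`-conjugation. -/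
theorem twist_mem_Y (hP : Nat.card P = p) (hV : IsPCompl P V) (θ : IrrCharacter ↥V)
    (X Y : Finset (IrrCharacter G)) (εX : IrrCharacter G → ℤ)
    (hB : ∀ χ, χ ∈ BGen P V θ ↔ χ ∈ X ∨ χ ∈ Y) (hdisj : Disjoint X Y)
    (hXp : ∀ χ ∈ X, ∀ φ : ↥(P : Subgroup G) →* ℂˣ, φ ≠ 1 → nng hV θ χ φ = - εX χ)
    (hvan : ∀ χ ∈ X, ∀ θ' : IrrCharacter ↥V, ¬ IsConjθ hV θ θ' →
      ∀ h : ↥(P : Subgroup G), h ≠ 1 → sfun P V θ' χ h = 0)
    {ψ ψ' : IrrCharacter G} (hψ : ψ ∈ Y)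
    {k : ℕ} (hk : k.Coprime (Nat.card G))
    (hk1 : k ≡ 1 [MOD Nat.card G / p ^ (Nat.card G).factorization p])
    (hχ : ∀ g, (ψ' : G → ℂ) g = (ψ : G → ℂ) (g ^ k)) : ψ' ∈ Y := by
  obtain ⟨l, hkl, hl, hl1⟩ := exists_inverse hk hk1
  have hψB : ψ ∈ BGen P V θ := (hB ψ).mpr (Or.inr hψ)
  have hψ'B : ψ' ∈ BGen P V θ := mem_BGen_twist hV θ hkl hk1 hχ hψB
  rcases (hB ψ').mp hψ'B with h | h
  · exfalso
    have hback : ∀ g, (ψ : G → ℂ) g = (ψ' : G → ℂ) (g ^ l) := by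
      intro g
      rw [hχ, pow_pow_eq_self' hkl g]
    have := twist_eq_of_X hP hV θ ψ' ψ (εX ψ') (hXp ψ' h) (hvan ψ' h) hl hl1 hback
    rw [this] at hψ
    exact (Finset.disjoint_left.mp hdisj h) hψ
  · exact h

/-- A nontrivial linear character of `P` generates the dual group. -/
theorem exists_pow_eq (hP : Nat.card P = p) {φ₁ φ₂ : ↥(P : Subgroup G) →* ℂˣ} (h₂ : φ₂ ≠ 1) :
    ∃ n : ℕ, φ₂ ^ n = φ₁ := by
  have hc : Nat.card (↥(P : Subgroup G) →* ℂˣ) = p := by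
    rw [Cfsg.Agent.Lib.Helper25_AbDual.card_hom (comm_of_card P hP)]
    exact hP
  have htop : Subgroup.zpowers φ₂ = ⊤ := zpowers_eq_top_of_prime_card hc h₂
  have hmem : φ₁ ∈ Subgroup.zpowers φ₂ := by rw [htop]; exact Subgroup.mem_top _
  have : φ₁ ∈ Submonoid.powers φ₂ := (mem_powers_iff_mem_zpowers).mpr hmem
  obtain ⟨n, hn⟩ := this
  exact ⟨n, hn⟩

/-- **(F5c)** Any two exceptional characters are `p`-conjugate. -/
theorem exists_twist_Y (hP : Nat.card P = p) (hV : IsPCompl P V) (θ : IrrCharacter ↥V)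
    (X Y : Finset (IrrCharacter G)) (εX : IrrCharacter G → ℤ)
    (hB : ∀ χ, χ ∈ BGen P V θ ↔ χ ∈ X ∨ χ ∈ Y) (hdisj : Disjoint X Y)
    (hXp : ∀ χ ∈ X, ∀ φ : ↥(P : Subgroup G) →* ℂˣ, φ ≠ 1 → nng hV θ χ φ = - εX χ)
    (hvan : ∀ χ ∈ X, ∀ θ' : IrrCharacter ↥V, ¬ IsConjθ hV θ θ' →
      ∀ h : ↥(P : Subgroup G), h ≠ 1 → sfun P V θ' χ h = 0)
    (hYu : ∀ φ : ↥(P : Subgroup G) →* ℂˣ, φ ≠ 1 →
      ∃ ψ ∈ Y, nng hV θ ψ φ ≠ 0 ∧ ∀ ψ' ∈ Y, nng hV θ ψ' φ ≠ 0 → ψ' = ψ)
    (hYne : ∀ ψ ∈ Y, ∃ φ : ↥(P : Subgroup G) →* ℂˣ, nng hV θ ψ φ ≠ 0)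
    {ψ₁ ψ₂ : IrrCharacter G} (h₁ : ψ₁ ∈ Y) (h₂ : ψ₂ ∈ Y) :
    ∃ k : ℕ, k.Coprime (Nat.card G) ∧
      k ≡ 1 [MOD Nat.card G / p ^ (Nat.card G).factorization p] ∧
      ∀ g, (ψ₂ : G → ℂ) g = (ψ₁ : G → ℂ) (g ^ k) := by
  obtain ⟨φ₁, hφ₁⟩ := hYne ψ₁ h₁
  obtain ⟨φ₂, hφ₂⟩ := hYne ψ₂ h₂
  have hφ₁1 : φ₁ ≠ 1 := by
    rintro rfl
    exact hφ₁ (nng_one hV θ ψ₁)
  have hφ₂1 : φ₂ ≠ 1 := by
    rintro rfl
    exact hφ₂ (nng_one hV θ ψ₂)
  obtain ⟨n, hn⟩ := exists_pow_eq hP (φ₁ := φ₁) hφ₂1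
  -- `p ∤ n`
  have hpn : ¬ p ∣ n := by
    rintro ⟨m, rfl⟩
    have h1m : (1 : ↥(P : Subgroup G) →* ℂˣ) ^ m = 1 :=
      one_pow (M := ↥(P : Subgroup G) →* ℂˣ) m
    rw [pow_mul φ₂ p m, hom_pow_card P hP, h1m] at hn
    exact hφ₁1 hn.symm
  set g' := Nat.card G / p ^ (Nat.card G).factorization p with hg'
  have hcop : p.Coprime g' := by
    rw [Nat.Prime.coprime_iff_not_dvd hp.out]
    exact Nat.not_dvd_ordCompl hp.out Nat.card_pos.ne'
  -- Chinese remainder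
  obtain ⟨l, hlp, hlg⟩ := Nat.chineseRemainder hcop n 1
  have hlcop : l.Coprime (Nat.card G) := by
    have h2 : Nat.card G = p ^ (Nat.card G).factorization p * g' :=
      (Nat.ordProj_mul_ordCompl_eq_self (Nat.card G) p).symm
    rw [h2]
    apply Nat.Coprime.mul_right
    · apply Nat.Coprime.pow_right
      rw [Nat.coprime_comm, Nat.Prime.coprime_iff_not_dvd hp.out]
      intro hpl
      apply hpn
      exact (Nat.modEq_zero_iff_dvd.mp (hlp.symm.trans (Nat.modEq_zero_iff_dvd.mpr hpl)))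
    · have := Nat.ModEq.gcd_eq hlg
      unfold Nat.Coprime
      rw [this]
      exact Nat.gcd_one_left _
  obtain ⟨k, hlk, hk, hk1⟩ := exists_inverse (p := p) hlcop hlg
  have hkl : k * l ≡ 1 [MOD Nat.card G] := by rwa [mul_comm]
  -- the conjugate
  set ψ' : IrrCharacter G :=
    ⟨fun g => (ψ₁ : G → ℂ) (g ^ k),
      Cfsg.Agent.Lib.Helper75_GalConj.isIrrCharacter_powMap ψ₁.2 k hk⟩ with hψ'
  have hχ : ∀ g, (ψ' : G → ℂ) g = (ψ₁ : G → ℂ) (g ^ k) := fun g => rfl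
  have hψ'Y : ψ' ∈ Y := twist_mem_Y hP hV θ X Y εX hB hdisj hXp hvan h₁ hk hk1 hχ
  have hpow : φ₂ ^ l = φ₁ := by
    rw [← hn]
    have h3 : l ≡ n [MOD orderOf φ₂] := by
      apply hlp.of_dvd
      exact orderOf_dvd_of_pow_eq_one (hom_pow_card P hP φ₂)
    exact (pow_eq_pow_iff_modEq (x := φ₂)).mpr h3
  have hnn : nng hV θ ψ' φ₂ ≠ 0 := by
    rw [nng_twist hV θ hkl hk1 hχ φ₂, hpow]
    exact hφ₁
  obtain ⟨ψ₀, -, -, hu⟩ := hYu φ₂ hφ₂1
  have e1 : ψ' = ψ₀ := hu ψ' hψ'Y hnn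
  have e2 : ψ₂ = ψ₀ := hu ψ₂ h₂ hφ₂
  refine ⟨k, hk, hk1, fun g => ?_⟩
  rw [e2, ← e1]

end twistY

end Cfsg.Agent.Lib.Helper16_GenConj
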