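import Mathlib
import Cfsg.Prelude.Def_Characters
import Cfsg.Agent.Lib.Helper57_LatDefs
import Cfsg.Agent.Lib.Helper57_GalOrbit
import Cfsg.Agent.Lib.Helper57_CTHyp
import Cfsg.Agent.Lib.Helper17_LatChar
import Cfsg.Agent.Lib.Helper3_CharColumn
import Cfsg.Agent.Lib.Helper75_CharArith
import Cfsg.Agent.Lib.Helper80_CharBasic

/-!
# Package GF1 of helper57's plan for the general blocks of defect one (helper17)

`latChar_eq_mul_orbit_sum`: the character of a `ℚ_p`-irreducible `ℤ_p`-lattice of a finite group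
is a positive multiple of ONE Galois-orbit sum of irreducible characters.
-/

set_option autoImplicit false
set_option linter.unusedSectionVars false
open scoped ComplexConjugate

namespace Cfsg.Agent.Lib.Helper17_GenF1

open Cfsg Cfsg.Agent.Lib.Helper57_LatDefs Cfsg.Agent.Lib.Helper17_LatChar
  Cfsg.Agent.Lib.Helper57_GalOrbit

universe u

section generic

variable {R : Type*} [CommRing R] {G : Type*} [Group G] [Fintype G] {M : Type*} [AddCommGroup M]
  [Module R M]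

/-- The product of two group-algebra operators is the operator of the convolution. -/
theorem opOf_mul_opOf (ρ : Representation R G M) (e f : G → R) :
    opOf ρ e * opOf ρ f = opOf ρ (fun x => ∑ y, e y * f (y⁻¹ * x)) := by
  ext m
  rw [Module.End.mul_apply, opOf_apply ρ e, opOf_apply ρ f, opOf_apply]
  simp_rw [map_sum, map_smul, Finset.smul_sum, Finset.sum_smul, smul_smul]
  conv_rhs => rw [Finset.sum_comm]
  refine Finset.sum_congr rfl (fun y _ => ?_)
  rw [← Equiv.sum_comp (Equiv.mulLeft y) (fun x => (e y * f (y⁻¹ * x)) • ρ x m)]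
  refine Finset.sum_congr rfl (fun z _ => ?_)
  rw [Equiv.coe_mulLeft, inv_mul_cancel_left, map_mul, Module.End.mul_apply]

/-- The kernel of the operator of a class function is stable. -/
theorem ker_opOf_stable (ρ : Representation R G M) (e : G → R)
    (he : ∀ g y, e (g * y * g⁻¹) = e y) (g : G) :
    (LinearMap.ker (opOf ρ e)).map (ρ g) ≤ LinearMap.ker (opOf ρ e) := by
  rintro _ ⟨m, hm, rfl⟩
  rw [SetLike.mem_coe, LinearMap.mem_ker] at hm
  rw [LinearMap.mem_ker, ← opOf_comm ρ e he, hm, map_zero]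

end generic

variable {p : ℕ} [hp : Fact p.Prime]

/-- **Package GF1.** -/
theorem latChar_eq_mul_orbit_sum {H : Type u} [Group H] [Fintype H] (j : ℚ_[p] →+* ℂ) (Γ : Set ℕ)
    (hΓ1 : 1 ∈ Γ) (hΓc : ∀ k ∈ Γ, k.Coprime (Nat.card H)) (hΓm : ∀ k ∈ Γ, ∀ l ∈ Γ, k * l ∈ Γ)
    (hΓinv : ∀ χ : H → ℂ, IsCharacter H χ → (∀ g, χ g ∈ j.fieldRange) →
      ∀ k ∈ Γ, ∀ g, χ (g ^ k) = χ g)
    (hΓdesc : ∀ (s : Finset (IrrCharacter H)) (c : IrrCharacter H → ℂ),
      (∀ ψ ∈ s, c ψ ∈ j.fieldRange) →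
      (∀ k ∈ Γ, ∀ g, ∑ ψ ∈ s, c ψ * (ψ : H → ℂ) (g ^ k) = ∑ ψ ∈ s, c ψ * (ψ : H → ℂ) g) →
      ∀ g, ∑ ψ ∈ s, c ψ * (ψ : H → ℂ) g ∈ j.fieldRange)
    {M : Type*} [AddCommGroup M] [Module ℤ_[p] M] [Module.Free ℤ_[p] M] [Module.Finite ℤ_[p] M]
    (σ : Representation ℤ_[p] H M) (hirr : IsQIrred σ) (hM : Module.finrank ℤ_[p] M ≠ 0) :
    ∃ (ψ : IrrCharacter H) (s : ℕ), 0 < s ∧
      ∀ h, latChar j σ h = (s : ℂ) * ∑ ψ' ∈ orb Γ ψ, (ψ' : H → ℂ) h := by
  classical
  have hp0 : (p : ℂ) ≠ 0 := by exact_mod_cast hp.out.ne_zero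
  have hH0 : (Nat.card H : ℂ) ≠ 0 := by exact_mod_cast (Nat.card_pos (α := H)).ne'
  set Ψ := latChar j σ with hΨdef
  have hΨ : IsCharacter H Ψ := isCharacter_latChar j σ
  have hΨ1 : Ψ 1 = (Module.finrank ℤ_[p] M : ℂ) := Cfsg.Agent.Lib.Helper57_CTHyp.latChar_one j σ
  obtain ⟨m, hm, hsum⟩ := Cfsg.Agent.Lib.Helper75_CharArith.exists_multiplicities hΨ
  choose d hd0 hd using fun ψ : IrrCharacter H =>
    Cfsg.Agent.Lib.Helper80_CharBasic.irr_apply_one ψ
  -- a constituent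
  have hex : ∃ ψ : IrrCharacter H, m ψ ≠ 0 := by
    by_contra hcon
    push Not at hcon
    have h1 : Ψ 1 = 0 := by
      rw [hsum, Finset.sum_apply]
      apply Finset.sum_eq_zero
      intro ψ _
      rw [hcon ψ, Nat.cast_zero, zero_smul]
      rfl
    rw [hΨ1] at h1
    exact hM (by exact_mod_cast h1)
  obtain ⟨ψ, hψ⟩ := hex
  -- the orbit idempotent has coefficients in `j(ℚ_p)`
  have hK : ∀ g : H, ∑ ψ' ∈ orb Γ ψ, (ψ' : H → ℂ) 1 * (ψ' : H → ℂ) g ∈ j.range := by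
    intro g
    have h1 := hΓdesc (orb Γ ψ) (fun ψ' => (ψ' : H → ℂ) 1) (fun ψ' _ => ?_) (fun k hk g => ?_) g
    · exact RingHom.mem_range.mpr (RingHom.mem_fieldRange.mp h1)
    · obtain ⟨n, _, hn⟩ := Cfsg.Agent.Lib.Helper3_CharColumn.irr_one_eq_natCast ψ'.2
      rw [hn]
      exact natCast_mem _ n
    · have h2 := sum_pw (orb Γ ψ) k (hΓc k hk)
        (fun ψ' hψ' => pw_mem_orb Γ hΓm hψ' hk (hΓc k hk))
        (fun ψ' => (ψ' : H → ℂ) 1 * (ψ' : H → ℂ) g)
      rw [← h2]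
      refine Finset.sum_congr rfl (fun ψ' _ => ?_)
      rw [pw_apply, pw_apply, one_pow]
  have hne : (orb Γ ψ).Nonempty := ⟨ψ, self_mem_orb Γ hΓ1 ψ⟩
  obtain ⟨N, e, he⟩ := exists_integral_coeff j (orb Γ ψ) hK
  obtain ⟨hcl, hconv, he1⟩ := coeff_facts j (orb Γ ψ) hne N e he
  set c : ℤ_[p] := (p : ℤ_[p]) ^ N * (Nat.card H : ℤ_[p]) with hc
  have hc0 : c ≠ 0 := by
    rw [hc]
    apply mul_ne_zero
    · exact pow_ne_zero N (by exact_mod_cast hp.out.ne_zero)
    · exact_mod_cast (Nat.card_pos (α := H)).ne'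
  set T := opOf σ e with hT
  -- T * T = c • T
  have hTT : T * T = c • T := by
    rw [hT, opOf_mul_opOf]
    have : (fun x => ∑ y, e y * e (y⁻¹ * x)) = fun x => c * e x := by
      funext x
      exact hconv x
    rw [this]
    ext v
    rw [opOf_apply, LinearMap.smul_apply, opOf_apply, Finset.smul_sum]
    refine Finset.sum_congr rfl (fun y _ => ?_)
    rw [smul_smul]
  -- the trace of T
  have htr : jInt j (LinearMap.trace ℤ_[p] M T) =
      (p : ℂ) ^ N * (Nat.card H : ℂ) * ∑ ψ' ∈ orb Γ ψ, (d ψ' : ℂ) * (m ψ' : ℂ) := by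
    rw [hT, trace_opOf, map_sum]
    have h1 : ∀ y : H, jInt j (e y * LinearMap.trace ℤ_[p] M (σ y)) = jInt j (e y) * Ψ y := by
      intro y
      rw [map_mul]
      rfl
    simp_rw [h1, he, Finset.mul_sum, Finset.sum_mul]
    rw [Finset.sum_comm]
    refine Finset.sum_congr rfl fun ψ' _ => ?_
    rw [← hm ψ']
    unfold Cfsg.classInner
    rw [Finset.mul_sum, Finset.mul_sum, Finset.mul_sum]
    refine Finset.sum_congr rfl fun y _ => ?_
    rw [Cfsg.Agent.Lib.Helper80_CharBasic.irr_inv, hd]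
    field_simp
  have hTne : T ≠ 0 := by
    intro h0
    rw [h0, map_zero, map_zero] at htr
    have h2 : ∑ ψ' ∈ orb Γ ψ, (d ψ' : ℂ) * (m ψ' : ℂ) = 0 := by
      rcases mul_eq_zero.mp htr.symm with h | h
      · exact absurd h (mul_ne_zero (pow_ne_zero N hp0) hH0)
      · exact h
    have h3 : ∑ ψ' ∈ orb Γ ψ, d ψ' * m ψ' = 0 := by
      have : ((∑ ψ' ∈ orb Γ ψ, d ψ' * m ψ' : ℕ) : ℂ) = 0 := by
        push_cast
        exact h2
      exact_mod_cast this
    have h4 := (Finset.sum_eq_zero_iff.mp h3) ψ (self_mem_orb Γ hΓ1 ψ)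
    rcases Nat.mul_eq_zero.mp h4 with h | h
    · exact absurd h (hd0 ψ).ne'
    · exact hψ h
  -- T = c
  have hTc : T = c • (1 : Module.End ℤ_[p] M) := by
    rcases hirr (LinearMap.ker T) (ker_opOf_stable σ e hcl) with hk | hk
    · ext v
      have h1 : T (T v - c • v) = 0 := by
        rw [map_sub, map_smul, ← Module.End.mul_apply, hTT, LinearMap.smul_apply, sub_self]
      have h2 : T v - c • v ∈ LinearMap.ker T := LinearMap.mem_ker.mpr h1
      rw [hk, Submodule.mem_bot, sub_eq_zero] at h2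
      rw [h2]
      rfl
    · exfalso
      apply hTne
      have h1 := (LinearMap.ker T).finrank_quotient_add_finrank
      rw [hk] at h1
      have h2 : Module.finrank ℤ_[p] (M ⧸ LinearMap.ker T) = 0 := by omega
      rw [LinearEquiv.finrank_eq T.quotKerEquivRange] at h2
      have h3 : LinearMap.range T = ⊥ := Submodule.finrank_eq_zero.mp h2
      exact LinearMap.range_eq_bot.mp h3
  -- conclusion
  have hoff : ∀ ψ' : IrrCharacter H, ψ' ∉ orb Γ ψ → classInner Ψ (ψ' : H → ℂ) = 0 :=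
    fun ψ' hψ' => classInner_eq_zero_of_opOf j (orb Γ ψ) N e he σ hTc ψ' hψ'
  have hinv := hΓinv Ψ hΨ (Cfsg.Agent.Lib.Helper57_CTHyp.latChar_mem_fieldRange j σ)
  obtain ⟨s, hs⟩ := eq_mul_orbit_sum Γ hΓc hΨ hinv ψ hoff
  refine ⟨ψ, s, ?_, hs⟩
  rcases Nat.eq_zero_or_pos s with h0 | h0
  · exfalso
    have h1 := hs 1
    rw [h0, Nat.cast_zero, zero_mul, hΨ1] at h1
    exact hM (by exact_mod_cast h1)
  · exact h0

end Cfsg.Agent.Lib.Helper17_GenF1
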