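import Mathlib
import Cfsg.Agent.Lib.Helper3_DR
import Cfsg.Agent.Lib.Helper57_LatTr

/-!
# Linear algebra over `ℤ_[p]` for the general defect-one project (helper57)

* `exists_retract`: a `p`-pure submodule of a finite free `ℤ_[p]`-module is a direct summand.
* `exists_flag_proj`: for `p • F ≤ W ≤ F`, `F` pure, there is an endomorphism with image in `W`
  which is the identity on `W` modulo `p • F` (a complement of `W / pF` in `F / pF`).
* equivariant versions (averaging over a finite group of order prime to `p`).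
-/

set_option autoImplicit false

namespace Cfsg.Agent.Lib.Helper57_GenLin

variable {p : ℕ} [hp : Fact p.Prime] {L : Type*} [AddCommGroup L] [Module ℤ_[p] L]

/-- `S` is `p`-pure in `L`. -/
def IsPure (S : Submodule ℤ_[p] L) : Prop := ∀ l : L, (p : ℤ_[p]) • l ∈ S → l ∈ S

theorem IsPure.pow_smul_mem {S : Submodule ℤ_[p] L} (hS : IsPure S) (n : ℕ) {l : L}
    (h : ((p : ℤ_[p]) ^ n) • l ∈ S) : l ∈ S := by
  induction n with
  | zero => simpa using h
  | succ n ih =>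
    apply ih
    apply hS
    rw [smul_smul, ← pow_succ']
    exact h

theorem IsPure.smul_mem {S : Submodule ℤ_[p] L} (hS : IsPure S) {a : ℤ_[p]} (ha : a ≠ 0) {l : L}
    (h : a • l ∈ S) : l ∈ S := by
  obtain ⟨n, u, hu⟩ : ∃ (n : ℕ) (u : ℤ_[p]ˣ), a = (u : ℤ_[p]) * (p : ℤ_[p]) ^ n := by
    refine ⟨a.valuation, PadicInt.unitCoeff ha, ?_⟩
    exact PadicInt.unitCoeff_spec ha
  apply hS.pow_smul_mem n
  have : ((p : ℤ_[p]) ^ n) • l = ((u⁻¹ : ℤ_[p]ˣ) : ℤ_[p]) • (a • l) := by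
    rw [hu, smul_smul, ← mul_assoc, Units.inv_mul, one_mul]
  rw [this]
  exact S.smul_mem _ h

theorem isTorsionFree_quotient {S : Submodule ℤ_[p] L} (hS : IsPure S) :
    Module.IsTorsionFree ℤ_[p] (L ⧸ S) := by
  apply Module.IsTorsionFree.of_smul_eq_zero
  intro a q h
  by_cases ha : a = 0
  · exact Or.inl ha
  · right
    obtain ⟨l, rfl⟩ := S.mkQ_surjective q
    rw [← map_smul, Submodule.mkQ_apply, Submodule.Quotient.mk_eq_zero] at h
    rw [Submodule.mkQ_apply, Submodule.Quotient.mk_eq_zero]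
    exact hS.smul_mem ha h

/-- **L1.** A pure submodule of a finite free module is a direct summand. -/
theorem exists_retract [Module.Finite ℤ_[p] L] (S : Submodule ℤ_[p] L) (hS : IsPure S) :
    ∃ r : Module.End ℤ_[p] L, (∀ l, r l ∈ S) ∧ ∀ s ∈ S, r s = s := by
  have := isTorsionFree_quotient hS
  have : Module.Free ℤ_[p] (L ⧸ S) := Module.free_of_finite_type_torsion_free'
  obtain ⟨s, hs⟩ := Module.projective_lifting_property S.mkQ LinearMap.id S.mkQ_surjective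
  refine ⟨LinearMap.id - s ∘ₗ S.mkQ, fun l => ?_, fun t ht => ?_⟩
  · rw [← Submodule.Quotient.mk_eq_zero, ← Submodule.mkQ_apply, LinearMap.sub_apply, map_sub]
    have := LinearMap.congr_fun hs (S.mkQ l)
    simp only [LinearMap.comp_apply, LinearMap.id_apply] at this
    simp only [LinearMap.id_apply, LinearMap.comp_apply, this, sub_self]
  · have h0 : S.mkQ t = 0 := by
      rw [Submodule.mkQ_apply, Submodule.Quotient.mk_eq_zero]; exact ht
    simp [h0]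


/-- **L2.** For `p • F ≤ W ≤ F` with `F` pure: an endomorphism with image in `W` which is the
identity on `W` modulo `p • F`. -/
theorem exists_flag_proj [Module.Free ℤ_[p] L] [Module.Finite ℤ_[p] L] (F W : Submodule ℤ_[p] L)
    (hF : IsPure F) (hWF : W ≤ F) (hpF : ∀ f ∈ F, (p : ℤ_[p]) • f ∈ W) :
    ∃ π : Module.End ℤ_[p] L, (∀ l, π l ∈ W) ∧
      ∀ w ∈ W, ∃ f ∈ F, π w - w = (p : ℤ_[p]) • f := by
  classical
  set N₀ : Submodule ℤ_[p] L := F.map ((p : ℤ_[p]) • (LinearMap.id : L →ₗ[ℤ_[p]] L)) with hN₀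
  have hmemN₀ : ∀ z, z ∈ N₀ ↔ ∃ f ∈ F, z = (p : ℤ_[p]) • f := by
    intro z
    rw [hN₀, Submodule.mem_map]
    constructor
    · rintro ⟨f, hf, rfl⟩
      exact ⟨f, hf, rfl⟩
    · rintro ⟨f, hf, rfl⟩
      exact ⟨f, hf, rfl⟩
  have hN₀W : N₀ ≤ W := by
    intro z hz
    obtain ⟨f, hf, rfl⟩ := (hmemN₀ z).mp hz
    exact hpF f hf
  obtain ⟨n, w, hwW, hspan, hind⟩ := Cfsg.Agent.Lib.Helper3_DR.exists_lift_family W N₀ hN₀W
    (fun m hm => (hmemN₀ _).mpr ⟨m, hWF hm, rfl⟩)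
  set W₀ : Submodule ℤ_[p] L := Submodule.span ℤ_[p] (Set.range w) with hW₀
  have hW₀W : W₀ ≤ W := by
    rw [hW₀, Submodule.span_le]
    rintro _ ⟨i, rfl⟩
    exact hwW i
  have hpure : IsPure W₀ := by
    intro l hl
    have hlF : l ∈ F := hF l (hWF (hW₀W hl))
    obtain ⟨α, hα⟩ := (Submodule.mem_span_range_iff_exists_fun ℤ_[p]).mp hl
    have hdvd := hind α (by rw [hα]; exact (hmemN₀ _).mpr ⟨l, hlF, rfl⟩)
    choose β hβ using hdvd
    have h1 : (p : ℤ_[p]) • l = (p : ℤ_[p]) • ∑ i, β i • w i := by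
      rw [← hα, Finset.smul_sum]
      refine Finset.sum_congr rfl (fun i _ => ?_)
      rw [hβ i, mul_smul]
    have h2 : l = ∑ i, β i • w i := by
      have h3 : (p : ℤ_[p]) • (l - ∑ i, β i • w i) = 0 := by rw [smul_sub, h1, sub_self]
      rcases smul_eq_zero.mp h3 with h4 | h4
      · exact absurd h4 Cfsg.Agent.Lib.Helper3_DR.p_ne_zero
      · exact sub_eq_zero.mp h4
    rw [h2]
    exact Submodule.sum_mem _ (fun i _ => Submodule.smul_mem _ _ (Submodule.subset_span ⟨i, rfl⟩))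
  obtain ⟨r, hr1, hr2⟩ := exists_retract W₀ hpure
  refine ⟨r, fun l => hW₀W (hr1 l), fun x hx => ?_⟩
  have hx' : x ∈ W₀ ⊔ N₀ := by rw [hspan]; exact hx
  obtain ⟨w₀, hw₀, z, hz, rfl⟩ := Submodule.mem_sup.mp hx'
  obtain ⟨f, hf, rfl⟩ := (hmemN₀ z).mp hz
  refine ⟨r f - f, F.sub_mem (hWF (hW₀W (hr1 f))) hf, ?_⟩
  rw [map_add, hr2 w₀ hw₀, map_smul, smul_sub]
  abel

/-! ### Averaging over a finite group of order prime to `p` -/

section avg

open Cfsg.Agent.Lib.Helper57_LatTr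

variable {A : Type*} [Group A] [Fintype A] (σ : Representation ℤ_[p] A L)

/-- The conjugation average of an endomorphism. -/
noncomputable def avgC (u : ℤ_[p]) (π : Module.End ℤ_[p] L) : Module.End ℤ_[p] L :=
  u • ∑ a : A, cj σ a π

theorem avgC_apply (u : ℤ_[p]) (π : Module.End ℤ_[p] L) (l : L) :
    avgC σ u π l = u • ∑ a : A, σ a (π (σ a⁻¹ l)) := by
  unfold avgC
  rw [LinearMap.smul_apply, LinearMap.sum_apply]
  rfl

theorem cj_avgC (u : ℤ_[p]) (π : Module.End ℤ_[p] L) (b : A) :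
    cj σ b (avgC σ u π) = avgC σ u π := by
  unfold avgC
  rw [cj_smul, cj_sum]
  congr 1
  refine Fintype.sum_equiv (Equiv.mulLeft b) _ _ (fun a => ?_)
  rw [Equiv.coe_mulLeft, cj_mul_left]

theorem commute_avgC (u : ℤ_[p]) (π : Module.End ℤ_[p] L) (b : A) :
    Commute (avgC σ u π) (σ b) :=
  (cj_eq_self_iff σ b _).mp (cj_avgC σ u π b)

theorem avgC_mem (u : ℤ_[p]) (π : Module.End ℤ_[p] L) (W : Submodule ℤ_[p] L)
    (hW : ∀ a : A, ∀ w ∈ W, σ a w ∈ W) (hπ : ∀ l, π l ∈ W) (l : L) : avgC σ u π l ∈ W := by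
  rw [avgC_apply]
  exact W.smul_mem _ (Submodule.sum_mem _ (fun a _ => hW a _ (hπ _)))

theorem avgC_sub_mem {u : ℤ_[p]} (hu : u * (Fintype.card A : ℤ_[p]) = 1)
    (π : Module.End ℤ_[p] L) (W S : Submodule ℤ_[p] L)
    (hW : ∀ a : A, ∀ w ∈ W, σ a w ∈ W) (hS : ∀ a : A, ∀ s ∈ S, σ a s ∈ S)
    (hπ : ∀ w ∈ W, π w - w ∈ S) {w : L} (hw : w ∈ W) : avgC σ u π w - w ∈ S := by
  have h1 : u • ∑ a : A, σ a (σ a⁻¹ w) = w := by
    have : ∀ a : A, σ a (σ a⁻¹ w) = w := by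
      intro a
      rw [← Module.End.mul_apply, ← map_mul, mul_inv_cancel, map_one, Module.End.one_apply]
    rw [Finset.sum_congr rfl (fun a _ => this a), Finset.sum_const, Finset.card_univ,
      ← Nat.cast_smul_eq_nsmul ℤ_[p], smul_smul, hu, one_smul]
  have h2 : avgC σ u π w - w = u • ∑ a : A, σ a (π (σ a⁻¹ w) - σ a⁻¹ w) := by
    rw [avgC_apply]
    simp only [map_sub, Finset.sum_sub_distrib, smul_sub]
    rw [h1]
  rw [h2]
  refine S.smul_mem _ (Submodule.sum_mem _ (fun a _ => ?_))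
  exact hS a _ (hπ _ (hW a⁻¹ w hw))

theorem avgC_eq_self {u : ℤ_[p]} (hu : u * (Fintype.card A : ℤ_[p]) = 1)
    (π : Module.End ℤ_[p] L) (S : Submodule ℤ_[p] L)
    (hS : ∀ a : A, ∀ s ∈ S, σ a s ∈ S) (hπ : ∀ s ∈ S, π s = s) {s : L} (hs : s ∈ S) :
    avgC σ u π s = s := by
  have h := avgC_sub_mem σ hu π S ⊥ hS (fun a s hs => by
    rw [Submodule.mem_bot] at hs; rw [hs, map_zero]; exact Submodule.zero_mem _)
    (fun w hw => by rw [hπ w hw, sub_self]; exact Submodule.zero_mem _) hs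
  rw [Submodule.mem_bot] at h
  exact sub_eq_zero.mp h

omit [Group A] in
theorem exists_inv_card (hA : (Nat.card A).Coprime p) :
    ∃ u : ℤ_[p], u * (Fintype.card A : ℤ_[p]) = 1 := by
  have hunit : IsUnit ((Fintype.card A : ℕ) : ℤ_[p]) := by
    rw [PadicInt.isUnit_iff, PadicInt.norm_natCast_eq_one_iff, ← Nat.card_eq_fintype_card]
    exact hA.symm
  exact hunit.exists_left_inv

/-- **Lattice Maschke.** A pure stable sublattice has an equivariant retraction. -/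
theorem exists_equivariant_retract [Module.Finite ℤ_[p] L] (hA : (Nat.card A).Coprime p)
    (S : Submodule ℤ_[p] L) (hS : IsPure S) (hSst : ∀ a : A, ∀ s ∈ S, σ a s ∈ S) :
    ∃ r : Module.End ℤ_[p] L, (∀ a, Commute r (σ a)) ∧ (∀ l, r l ∈ S) ∧ ∀ s ∈ S, r s = s := by
  obtain ⟨u, hu⟩ := exists_inv_card hA
  obtain ⟨r₀, h1, h2⟩ := exists_retract S hS
  exact ⟨avgC σ u r₀, commute_avgC σ u r₀, avgC_mem σ u r₀ S hSst h1,
    fun s hs => avgC_eq_self σ hu r₀ S hSst h2 hs⟩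

/-- **Maschke modulo `p`.** -/
theorem exists_equivariant_flag_proj [Module.Free ℤ_[p] L] [Module.Finite ℤ_[p] L]
    (hA : (Nat.card A).Coprime p) (F W : Submodule ℤ_[p] L)
    (hF : IsPure F) (hWF : W ≤ F) (hpF : ∀ f ∈ F, (p : ℤ_[p]) • f ∈ W)
    (hFst : ∀ a : A, ∀ f ∈ F, σ a f ∈ F) (hWst : ∀ a : A, ∀ w ∈ W, σ a w ∈ W) :
    ∃ π : Module.End ℤ_[p] L, (∀ a, Commute π (σ a)) ∧ (∀ l, π l ∈ W) ∧
      ∀ w ∈ W, ∃ f ∈ F, π w - w = (p : ℤ_[p]) • f := by
  obtain ⟨u, hu⟩ := exists_inv_card hA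
  obtain ⟨π₀, h1, h2⟩ := exists_flag_proj F W hF hWF hpF
  set N₀ : Submodule ℤ_[p] L := F.map ((p : ℤ_[p]) • (LinearMap.id : L →ₗ[ℤ_[p]] L)) with hN₀
  have hmemN₀ : ∀ z, z ∈ N₀ ↔ ∃ f ∈ F, z = (p : ℤ_[p]) • f := by
    intro z
    rw [hN₀, Submodule.mem_map]
    constructor
    · rintro ⟨f, hf, rfl⟩
      exact ⟨f, hf, rfl⟩
    · rintro ⟨f, hf, rfl⟩
      exact ⟨f, hf, rfl⟩
  have hN₀st : ∀ a : A, ∀ s ∈ N₀, σ a s ∈ N₀ := by
    intro a s hs
    obtain ⟨f, hf, rfl⟩ := (hmemN₀ s).mp hs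
    rw [map_smul]
    exact (hmemN₀ _).mpr ⟨σ a f, hFst a f hf, rfl⟩
  refine ⟨avgC σ u π₀, commute_avgC σ u π₀, avgC_mem σ u π₀ W hWst h1, fun w hw => ?_⟩
  have := avgC_sub_mem σ hu π₀ W N₀ hWst hN₀st (fun w hw => by
    obtain ⟨f, hf, h⟩ := h2 w hw
    exact (hmemN₀ _).mpr ⟨f, hf, h⟩) hw
  exact (hmemN₀ _).mp this

end avg

end Cfsg.Agent.Lib.Helper57_GenLin
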