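import Mathlib
import Cfsg.Agent.Lib.Helper57_LatDefs
import Cfsg.Agent.Lib.Helper57_GenLin
import Cfsg.Agent.Lib.Helper3_DR

set_option autoImplicit false

namespace Cfsg.Agent.Lib.Helper50_GenT2

open Cfsg.Agent.Lib.Helper57_LatDefs Cfsg.Agent.Lib.Helper57_GenLin

variable {p : ℕ} [hp : Fact p.Prime]

section General

variable {E : Type*} [AddCommGroup E] [Module ℤ_[p] E]

open Polynomial in
/-- `(T - 1) ^ p = p • g` with `g` a polynomial in `T`. -/
theorem exists_ypow (T : Module.End ℤ_[p] E) (hT : T ^ p = 1) :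
    ∃ g : Module.End ℤ_[p] E, (T - 1) ^ p = (p : ℤ_[p]) • g ∧
      ∀ W : Submodule ℤ_[p] E, (∀ w ∈ W, T w ∈ W) → ∀ w ∈ W, g w ∈ W := by
  obtain ⟨r', hr'⟩ := Cfsg.Agent.Lib.Helper3_DR.exists_poly_identity (p := p)
  have hp1 : p - 1 + 1 = p := Nat.sub_add_cancel hp.out.one_le
  have h1 : ((X + 1 : ℤ_[p][X]) ^ p - 1)
      = X ^ p + C (p : ℤ_[p]) * (X * (1 + X * r')) := by
    have := geom_sum_mul (X + 1 : ℤ_[p][X]) p
    rw [add_sub_cancel_right, hr'] at this
    have hX : (X : ℤ_[p][X]) ^ p = X ^ (p - 1) * X := by rw [← pow_succ, hp1]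
    rw [← this, hX]
    ring
  have h2 := congrArg (aeval (T - 1)) h1
  simp only [map_sub, map_pow, map_add, aeval_X, map_one, sub_add_cancel, map_mul, aeval_C, hT,
    sub_self] at h2
  refine ⟨aeval (T - 1) (-(X * (1 + X * r'))), ?_, ?_⟩
  · rw [map_neg, smul_neg, eq_neg_iff_add_eq_zero]
    rw [h2]
    simp only [map_mul, map_add, aeval_X, map_one]
    rw [Algebra.smul_def]
  · intro W hW w hw
    apply Polynomial.aeval_apply_smul_mem_of_le_comap hw
    intro w hw
    rw [Submodule.mem_comap, LinearMap.sub_apply, Module.End.one_apply]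
    exact W.sub_mem (hW w hw) hw

end General

section Retract

variable {L : Type*} [AddCommGroup L] [Module ℤ_[p] L]

theorem exists_commuting_retract [Module.Finite ℤ_[p] L]
    (v : Module.End ℤ_[p] L) (k : ℕ) (hk : ¬ p ∣ k) (hv : v ^ k = 1)
    (S : Submodule ℤ_[p] L) (hS : IsPure S) (hSv : ∀ s ∈ S, v s ∈ S) :
    ∃ r : Module.End ℤ_[p] L, Commute r v ∧ (∀ l, r l ∈ S) ∧ ∀ s ∈ S, r s = s := by
  obtain ⟨r₀, hr1, hr2⟩ := exists_retract S hS
  have hk0 : k ≠ 0 := by
    rintro rfl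
    exact hk (dvd_zero p)
  obtain ⟨k', rfl⟩ := Nat.exists_eq_succ_of_ne_zero hk0
  obtain ⟨w, hw⟩ : ∃ w : Module.End ℤ_[p] L, w = v ^ k' := ⟨_, rfl⟩
  have hvw : v * w = 1 := by rw [hw, ← pow_succ', hv]
  have hwv : w * v = 1 := by rw [hw, ← pow_succ, hv]
  have hcomm : Commute v w := by rw [hw]; exact Commute.self_pow v k'
  have hwk : w ^ (k' + 1) = 1 := by rw [hw, ← pow_mul, mul_comm, pow_mul, hv, one_pow]
  have hunit : IsUnit (((k' + 1 : ℕ)) : ℤ_[p]) := by
    rw [PadicInt.isUnit_iff, PadicInt.norm_natCast_eq_one_iff]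
    exact (Nat.Prime.coprime_iff_not_dvd hp.out).2 hk
  obtain ⟨u, hu⟩ := hunit.exists_left_inv
  have hSvj : ∀ j : ℕ, ∀ s ∈ S, (v ^ j) s ∈ S := by
    intro j
    induction j with
    | zero => intro s hs; simpa using hs
    | succ j ih =>
      intro s hs
      rw [pow_succ', Module.End.mul_apply]
      exact hSv _ (ih s hs)
  have hSwj : ∀ j : ℕ, ∀ s ∈ S, (w ^ j) s ∈ S := by
    intro j s hs
    rw [hw, ← pow_mul]
    exact hSvj _ s hs
  obtain ⟨c, hcdef⟩ : ∃ c : ℕ → Module.End ℤ_[p] L, ∀ j, c j = v ^ j * r₀ * w ^ j :=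
    ⟨fun j => v ^ j * r₀ * w ^ j, fun _ => rfl⟩
  have hc : ∀ j, v * c j * w = c (j + 1) := by
    intro j
    rw [hcdef, hcdef, pow_succ', pow_succ]
    simp only [mul_assoc]
  have hck : c (k' + 1) = c 0 := by
    rw [hcdef, hcdef, hv, hwk]
    simp
  obtain ⟨R, hRdef⟩ : ∃ R : Module.End ℤ_[p] L, R = ∑ j ∈ Finset.range (k' + 1), c j := ⟨_, rfl⟩
  have hR : v * R * w = R := by
    rw [hRdef, Finset.mul_sum, Finset.sum_mul]
    simp only [hc]
    rw [Finset.sum_range_succ, hck, Finset.sum_range_succ']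
  refine ⟨u • R, ?_, ?_, ?_⟩
  · have h1 : R * v = v * R := by
      calc R * v = (v * R * w) * v := by rw [hR]
        _ = v * R * (w * v) := by simp only [mul_assoc]
        _ = v * R := by rw [hwv, mul_one]
    show (u • R) * v = v * (u • R)
    rw [smul_mul_assoc, mul_smul_comm, h1]
  · intro l
    rw [LinearMap.smul_apply]
    apply S.smul_mem
    rw [hRdef, LinearMap.sum_apply]
    apply Submodule.sum_mem
    intro j _
    rw [hcdef]
    simp only [Module.End.mul_apply]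
    exact hSvj j _ (hr1 _)
  · intro s hs
    have h1 : ∀ j, c j s = s := by
      intro j
      rw [hcdef]
      simp only [Module.End.mul_apply]
      rw [hr2 _ (hSwj j s hs), ← Module.End.mul_apply, ← hcomm.mul_pow, hvw, one_pow,
        Module.End.one_apply]
    rw [LinearMap.smul_apply, hRdef, LinearMap.sum_apply, Finset.sum_congr rfl (fun j _ => h1 j),
      Finset.sum_const, Finset.card_range, ← Nat.cast_smul_eq_nsmul ℤ_[p], smul_smul, hu, one_smul]

end Retract

section Shift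

variable {L : Type*} [AddCommGroup L] [Module ℤ_[p] L]

theorem sum_zmod_val {M : Type*} [AddCommMonoid M] (F : ℕ → M) :
    ∑ j : ZMod p, F j.val = ∑ i ∈ Finset.range p, F i := by
  refine Finset.sum_nbij' (fun j => j.val) (fun i => (i : ZMod p)) ?_ ?_ ?_ ?_ ?_
  · intro j _; exact Finset.mem_range.2 (ZMod.val_lt j)
  · intro i _; exact Finset.mem_univ _
  · intro j _; exact ZMod.natCast_zmod_val j
  · intro i hi; exact ZMod.val_cast_of_lt (Finset.mem_range.1 hi)
  · intro j _; rfl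

theorem sum_zmod_cast {M : Type*} [AddCommMonoid M] (F : ZMod p → M) :
    ∑ j : ZMod p, F j = ∑ i ∈ Finset.range p, F (i : ZMod p) := by
  rw [← sum_zmod_val (fun i => F (i : ZMod p))]
  exact Finset.sum_congr rfl (fun j _ => by rw [ZMod.natCast_zmod_val])

theorem pow_val_add (x : Module.End ℤ_[p] L) (hx : x ^ p = 1) (i j : ZMod p) :
    x ^ (i + j).val = x ^ i.val * x ^ j.val := by
  rw [ZMod.val_add, ← pow_eq_pow_mod _ hx, pow_add]

theorem pow_val_succ (x : Module.End ℤ_[p] L) (hx : x ^ p = 1) (j : ZMod p) :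
    x ^ (j + 1).val = x * x ^ j.val := by
  rw [add_comm, pow_val_add x hx, ZMod.val_one, pow_one]

/-- The cyclic shift on `ZMod p → L`. -/
noncomputable def shiftT (p : ℕ) [hp : Fact p.Prime] (L : Type*) [AddCommGroup L] [Module ℤ_[p] L] :
    Module.End ℤ_[p] (ZMod p → L) :=
  LinearMap.funLeft ℤ_[p] L (fun j : ZMod p => j - 1)

theorem shiftT_apply (f : ZMod p → L) (j : ZMod p) : shiftT p L f j = f (j - 1) := rfl

theorem shiftT_pow_apply (n : ℕ) (f : ZMod p → L) (j : ZMod p) :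
    (shiftT p L ^ n) f j = f (j - n) := by
  induction n generalizing f j with
  | zero => simp
  | succ n ih =>
    rw [pow_succ, Module.End.mul_apply, ih, shiftT_apply]
    congr 1
    push_cast
    ring

theorem shiftT_pow_p : shiftT p L ^ p = 1 := by
  refine LinearMap.ext (fun f => funext (fun j => ?_))
  rw [shiftT_pow_apply]
  simp

/-- The evaluation map `f ↦ ∑ j, x ^ j f_j`. -/
noncomputable def Phi (x : Module.End ℤ_[p] L) : (ZMod p → L) →ₗ[ℤ_[p]] L :=
  ∑ j : ZMod p, (x ^ j.val) ∘ₗ LinearMap.proj j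

theorem Phi_apply (x : Module.End ℤ_[p] L) (f : ZMod p → L) :
    Phi x f = ∑ j : ZMod p, (x ^ j.val) (f j) := by
  unfold Phi
  rw [LinearMap.sum_apply]
  rfl

theorem Phi_shiftT (x : Module.End ℤ_[p] L) (hx : x ^ p = 1) (f : ZMod p → L) :
    Phi x (shiftT p L f) = x (Phi x f) := by
  rw [Phi_apply, Phi_apply, map_sum]
  rw [← Equiv.sum_comp (Equiv.addRight (1 : ZMod p))]
  refine Finset.sum_congr rfl (fun j _ => ?_)
  rw [Equiv.coe_addRight, shiftT_apply, add_sub_cancel_right, pow_val_succ x hx,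
    Module.End.mul_apply]

theorem Phi_const (x : Module.End ℤ_[p] L) (c : L) :
    Phi x (fun _ => c) = nuE p x c := by
  rw [Phi_apply]
  unfold nuE
  rw [LinearMap.sum_apply]
  exact sum_zmod_val (fun i => (x ^ i) c)

end Shift

section Core

variable {L : Type*} [AddCommGroup L] [Module ℤ_[p] L]

/-- The relation module. -/
noncomputable def relK (x : Module.End ℤ_[p] L) (F₀ : Submodule ℤ_[p] L) :
    Submodule ℤ_[p] (ZMod p → L) :=
  Submodule.pi Set.univ (fun _ => F₀) ⊓ LinearMap.ker (Phi x)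

theorem mem_relK (x : Module.End ℤ_[p] L) (F₀ : Submodule ℤ_[p] L) (f : ZMod p → L) :
    f ∈ relK x F₀ ↔ (∀ j, f j ∈ F₀) ∧ Phi x f = 0 := by
  unfold relK
  rw [Submodule.mem_inf, Submodule.mem_pi, LinearMap.mem_ker]
  simp

theorem shiftT_mem_relK (x : Module.End ℤ_[p] L) (hx : x ^ p = 1) (F₀ : Submodule ℤ_[p] L)
    (f : ZMod p → L) (hf : f ∈ relK x F₀) : shiftT p L f ∈ relK x F₀ := by
  rw [mem_relK] at hf ⊢
  refine ⟨fun j => ?_, ?_⟩
  · rw [shiftT_apply]; exact hf.1 _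
  · rw [Phi_shiftT x hx, hf.2, map_zero]

/-- `x ^ n - 1` factors through `x - 1`. -/
theorem pow_sub_one_apply (x : Module.End ℤ_[p] L) (n : ℕ) (l : L) :
    (x ^ n) l - l = x ((∑ i ∈ Finset.range n, x ^ i) l) - (∑ i ∈ Finset.range n, x ^ i) l := by
  have h := mul_geom_sum x n
  have h2 := congrArg (fun φ : Module.End ℤ_[p] L => φ l) h
  simp only [Module.End.mul_apply, LinearMap.sub_apply, Module.End.one_apply] at h2
  exact h2.symm

theorem sum_eq_zero_of_mem_relK (x : Module.End ℤ_[p] L) (F₀ : Submodule ℤ_[p] L)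
    (hD2 : ∀ f ∈ F₀, (∃ m, f = x m - m) → f = 0)
    (f : ZMod p → L) (hf : f ∈ relK x F₀) : ∑ j, f j = 0 := by
  rw [mem_relK] at hf
  apply hD2 _ (Submodule.sum_mem _ (fun j _ => hf.1 j))
  refine ⟨-∑ j : ZMod p, (∑ i ∈ Finset.range j.val, x ^ i) (f j), ?_⟩
  have h1 : ∑ j, f j = -(Phi x f - ∑ j, f j) := by rw [hf.2]; simp
  rw [h1, Phi_apply, ← Finset.sum_sub_distrib]
  have h2 : ∀ j : ZMod p, (x ^ j.val) (f j) - f j
      = x ((∑ i ∈ Finset.range j.val, x ^ i) (f j)) - (∑ i ∈ Finset.range j.val, x ^ i) (f j) :=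
    fun j => pow_sub_one_apply x j.val (f j)
  rw [Finset.sum_congr rfl (fun j _ => h2 j), Finset.sum_sub_distrib, map_neg, map_sum]
  abel


theorem exists_shift_preimage (F₀ : Submodule ℤ_[p] L) (f : ZMod p → L) (hf : ∀ j, f j ∈ F₀)
    (hsum : ∑ j, f j = 0) :
    ∃ μ : ZMod p → L, (∀ j, μ j ∈ F₀) ∧ shiftT p L μ - μ = f := by
  obtain ⟨P, hP⟩ : ∃ P : ℕ → L, ∀ n, P n = ∑ t ∈ Finset.range n, f (t : ZMod p) :=
    ⟨fun n => ∑ t ∈ Finset.range n, f (t : ZMod p), fun _ => rfl⟩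
  have hPp : P p = 0 := by rw [hP, ← hsum, sum_zmod_cast]
  refine ⟨fun j => -P (j.val + 1), fun j => ?_, ?_⟩
  · show -P (j.val + 1) ∈ F₀
    rw [hP]
    exact F₀.neg_mem (Submodule.sum_mem _ (fun t _ => hf _))
  · funext j
    obtain ⟨i, rfl⟩ : ∃ i, j = i + 1 := ⟨j - 1, by ring⟩
    rw [Pi.sub_apply, shiftT_apply, add_sub_cancel_right]
    show -P (i.val + 1) - -P ((i + 1).val + 1) = f (i + 1)
    have hval : (i + 1).val = (i.val + 1) % p := by rw [ZMod.val_add, ZMod.val_one]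
    by_cases hlt : i.val + 1 < p
    · rw [hval, Nat.mod_eq_of_lt hlt, hP (i.val + 1 + 1), Finset.sum_range_succ, ← hP]
      push_cast
      rw [ZMod.natCast_zmod_val]
      abel
    · have heq : i.val + 1 = p := le_antisymm (ZMod.val_lt i) (not_lt.1 hlt)
      have hi : i + 1 = 0 := by
        have h3 : ((i.val + 1 : ℕ) : ZMod p) = 0 := by rw [heq]; exact ZMod.natCast_self p
        push_cast at h3
        rwa [ZMod.natCast_zmod_val] at h3
      rw [hval, heq, Nat.mod_self, hPp, hi, hP]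
      simp

/-- Lemma A: every relation is `(T - 1)` of a relation. -/
theorem relK_le_map (x : Module.End ℤ_[p] L) (hx : x ^ p = 1) (F₀ : Submodule ℤ_[p] L)
    (hD1 : ∀ l, ∃ f ∈ F₀, ∃ m, l = f + (x m - m))
    (hD2 : ∀ f ∈ F₀, (∃ m, f = x m - m) → f = 0)
    (h0 : ∀ l, x l = l → ∃ m, l = nuE p x m) :
    relK x F₀ ≤ (relK x F₀).map (shiftT p L - 1) := by
  intro κ hκ
  have hsum := sum_eq_zero_of_mem_relK x F₀ hD2 κ hκ
  have hκ' := (mem_relK x F₀ κ).1 hκ
  obtain ⟨μ, hμ1, hμ2⟩ := exists_shift_preimage F₀ κ hκ'.1 hsum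
  -- `Phi μ` is fixed by `x`
  have hfix : x (Phi x μ) = Phi x μ := by
    have h1 : Phi x (shiftT p L μ - μ) = 0 := by rw [hμ2]; exact hκ'.2
    rw [map_sub, Phi_shiftT x hx, sub_eq_zero] at h1
    exact h1
  obtain ⟨m, hm⟩ := h0 _ hfix
  obtain ⟨c, hc, m', hm'⟩ := hD1 m
  have hnu : nuE p x m = nuE p x c := by
    rw [hm', map_add]
    have := Cfsg.Agent.Lib.Helper3_DR.nu_y_apply hx m'
    rw [LinearMap.sub_apply, Module.End.one_apply] at this
    have h2 : nuE p x (x m' - m') = 0 := this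
    rw [h2, add_zero]
  refine ⟨μ - fun _ => c, ?_, ?_⟩
  · rw [SetLike.mem_coe, mem_relK]
    refine ⟨fun j => F₀.sub_mem (hμ1 j) hc, ?_⟩
    rw [map_sub, Phi_const, hm, hnu, sub_self]
  · rw [LinearMap.sub_apply, Module.End.one_apply, map_sub]
    have h3 : shiftT p L (fun _ => c) = fun _ => c := rfl
    rw [h3, ← hμ2]
    abel


open Pointwise in
theorem relK_eq_bot [Module.Finite ℤ_[p] L] (x : Module.End ℤ_[p] L) (hx : x ^ p = 1)
    (F₀ : Submodule ℤ_[p] L)
    (hD1 : ∀ l, ∃ f ∈ F₀, ∃ m, l = f + (x m - m))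
    (hD2 : ∀ f ∈ F₀, (∃ m, f = x m - m) → f = 0)
    (h0 : ∀ l, x l = l → ∃ m, l = nuE p x m) :
    relK x F₀ = ⊥ := by
  have hA := relK_le_map x hx F₀ hD1 hD2 h0
  have hB : ∀ n : ℕ, relK x F₀ ≤ (relK x F₀).map ((shiftT p L - 1) ^ n) := by
    intro n
    induction n with
    | zero =>
      rw [pow_zero, Module.End.one_eq_id, Submodule.map_id]
    | succ n ih =>
      calc relK x F₀ ≤ (relK x F₀).map (shiftT p L - 1) := hA
        _ ≤ ((relK x F₀).map ((shiftT p L - 1) ^ n)).map (shiftT p L - 1) :=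
            Submodule.map_mono ih
        _ = (relK x F₀).map ((shiftT p L - 1) ^ (n + 1)) := by
            rw [pow_succ', Module.End.mul_eq_comp, Submodule.map_comp]
  obtain ⟨g, hg1, hg2⟩ := exists_ypow (shiftT p L) shiftT_pow_p
  have hC : relK x F₀ ≤ (⊥ : Submodule ℤ_[p] (ZMod p → L)) ⊔ (p : ℤ_[p]) • relK x F₀ := by
    intro κ hκ
    obtain ⟨κ', hκ', rfl⟩ := hB p hκ
    rw [hg1, LinearMap.smul_apply]
    apply Submodule.mem_sup_right
    exact Submodule.smul_mem_pointwise_smul _ _ _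
      (hg2 _ (fun w hw => shiftT_mem_relK x hx F₀ w hw) _ hκ')
  exact le_bot_iff.1 (Cfsg.Agent.Lib.Helper3_DR.le_of_le_sup_smul _ _ hC)

end Core


section Main

variable {L : Type*} [AddCommGroup L] [Module ℤ_[p] L] [Module.Free ℤ_[p] L]
  [Module.Finite ℤ_[p] L]

open Pointwise in
theorem trace_free_zero (x v : Module.End ℤ_[p] L) (hx : x ^ p = 1) (hxv : Commute x v)
    (k : ℕ) (hk : ¬ p ∣ k) (hv : v ^ k = 1)
    (h0 : ∀ l, x l = l → ∃ m, l = nuE p x m)
    (h1 : ∀ l, nuE p x l = 0 → ∃ m, l = x m - m) :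
    ∀ i : ℕ, 0 < i → i < p → LinearMap.trace ℤ_[p] L (x ^ i * v) = 0 := by
  obtain ⟨S, hSdef⟩ : ∃ S : Submodule ℤ_[p] L, S = LinearMap.range (x - 1) := ⟨_, rfl⟩
  have hmemS : ∀ l, l ∈ S ↔ ∃ m, l = x m - m := by
    intro l
    rw [hSdef, LinearMap.mem_range]
    constructor
    · rintro ⟨m, rfl⟩
      exact ⟨m, by rw [LinearMap.sub_apply, Module.End.one_apply]⟩
    · rintro ⟨m, rfl⟩
      exact ⟨m, by rw [LinearMap.sub_apply, Module.End.one_apply]⟩
  have hnuS : ∀ l, l ∈ S ↔ nuE p x l = 0 := by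
    intro l
    constructor
    · intro hl
      obtain ⟨m, rfl⟩ := (hmemS l).1 hl
      have := Cfsg.Agent.Lib.Helper3_DR.nu_y_apply hx m
      rwa [LinearMap.sub_apply, Module.End.one_apply] at this
    · intro hl
      exact (hmemS l).2 (h1 l hl)
  have hSpure : IsPure S := by
    intro l hl
    rw [hnuS] at hl ⊢
    rw [map_smul] at hl
    exact (smul_eq_zero.1 hl).resolve_left Cfsg.Agent.Lib.Helper3_DR.p_ne_zero
  have hxv' : ∀ l, v (x l) = x (v l) := by
    intro l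
    have := congrArg (fun φ : Module.End ℤ_[p] L => φ l) hxv.eq
    simp only [Module.End.mul_apply] at this
    exact this.symm
  have hSv : ∀ s ∈ S, v s ∈ S := by
    intro s hs
    obtain ⟨m, rfl⟩ := (hmemS s).1 hs
    refine (hmemS _).2 ⟨v m, ?_⟩
    rw [map_sub, hxv']
  obtain ⟨r, hrv, hr1, hr2⟩ := exists_commuting_retract v k hk hv S hSpure hSv
  obtain ⟨F₀, hF₀⟩ : ∃ F₀ : Submodule ℤ_[p] L, F₀ = LinearMap.ker r := ⟨_, rfl⟩
  have hD1 : ∀ l, ∃ f ∈ F₀, ∃ m, l = f + (x m - m) := by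
    intro l
    obtain ⟨m, hm⟩ := (hmemS _).1 (hr1 l)
    refine ⟨l - r l, ?_, m, ?_⟩
    · rw [hF₀, LinearMap.mem_ker, map_sub, hr2 _ (hr1 l), sub_self]
    · rw [← hm]
      abel
  have hD2 : ∀ f ∈ F₀, (∃ m, f = x m - m) → f = 0 := by
    intro f hf hm
    have hfS : f ∈ S := (hmemS f).2 hm
    rw [← hr2 f hfS]
    rw [hF₀] at hf
    exact LinearMap.mem_ker.1 hf
  have hD3 : ∀ f ∈ F₀, v f ∈ F₀ := by
    intro f hf
    rw [hF₀, LinearMap.mem_ker] at hf ⊢
    have := congrArg (fun φ : Module.End ℤ_[p] L => φ f) hrv.eq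
    simp only [Module.End.mul_apply] at this
    rw [this, hf, map_zero]
  -- the pieces
  obtain ⟨N, hN⟩ : ∃ N : ZMod p → Submodule ℤ_[p] L, ∀ j, N j = F₀.map (x ^ j.val) :=
    ⟨fun j => F₀.map (x ^ j.val), fun _ => rfl⟩
  -- independence
  have hK := relK_eq_bot x hx F₀ hD1 hD2 h0
  have hindep : iSupIndep N := by
    rw [iSupIndep_iff_finsetSum_eq_zero_imp_eq_zero]
    intro s w hw hsum j hj
    have hex : ∀ j : ZMod p, ∃ f ∈ F₀, (j ∈ s → (x ^ j.val) f = w j) ∧ (j ∉ s → f = 0) := by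
      intro j
      by_cases hj : j ∈ s
      · have := hw j hj
        rw [hN] at this
        obtain ⟨f, hf, hfw⟩ := this
        exact ⟨f, hf, fun _ => hfw, fun h => absurd hj h⟩
      · exact ⟨0, F₀.zero_mem, fun h => absurd h hj, fun _ => rfl⟩
    choose f hf1 hf2 hf3 using hex
    have hfK : f ∈ relK x F₀ := by
      rw [mem_relK]
      refine ⟨hf1, ?_⟩
      rw [Phi_apply, ← hsum]
      rw [← Finset.sum_subset (Finset.subset_univ s)]
      · exact Finset.sum_congr rfl (fun j hj => hf2 j hj)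
      · intro j _ hjs
        rw [hf3 j hjs, map_zero]
    rw [hK, Submodule.mem_bot] at hfK
    rw [← hf2 j hj, hfK]
    simp
  -- spanning
  have hMx : ∀ m ∈ iSup N, x m ∈ iSup N := by
    intro m hm
    have hle : (iSup N).map x ≤ iSup N := by
      rw [Submodule.map_iSup]
      apply iSup_le
      intro j
      refine le_trans ?_ (le_iSup N (j + 1))
      rw [hN, hN, ← Submodule.map_comp, pow_val_succ x hx]
      rfl
    exact hle (Submodule.mem_map_of_mem hm)
  have hMy : ∀ n : ℕ, ∀ m ∈ iSup N, ((x - 1) ^ n) m ∈ iSup N := by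
    intro n
    induction n with
    | zero => intro m hm; simpa using hm
    | succ n ih =>
      intro m hm
      rw [pow_succ', Module.End.mul_apply, LinearMap.sub_apply, Module.End.one_apply]
      exact (iSup N).sub_mem (hMx _ (ih m hm)) (ih m hm)
  have hF₀M : F₀ ≤ iSup N := by
    refine le_trans ?_ (le_iSup N 0)
    rw [hN, ZMod.val_zero, pow_zero, Module.End.one_eq_id, Submodule.map_id]
  have hiter : ∀ n : ℕ, ∀ l : L, ∃ m ∈ iSup N, ∃ l', l = m + ((x - 1) ^ n) l' := by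
    intro n
    induction n with
    | zero => intro l; exact ⟨0, Submodule.zero_mem _, l, by simp⟩
    | succ n ih =>
      intro l
      obtain ⟨m, hm, l', hl'⟩ := ih l
      obtain ⟨f, hf, l'', hl''⟩ := hD1 l'
      refine ⟨m + ((x - 1) ^ n) f, (iSup N).add_mem hm (hMy n f (hF₀M hf)), l'', ?_⟩
      rw [hl', hl'', map_add, pow_succ, Module.End.mul_apply, LinearMap.sub_apply,
        Module.End.one_apply, add_assoc]
  have hspan : iSup N = ⊤ := by
    obtain ⟨g, hg1, _⟩ := exists_ypow x hx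
    have hle : (⊤ : Submodule ℤ_[p] L) ≤ iSup N ⊔ (p : ℤ_[p]) • (⊤ : Submodule ℤ_[p] L) := by
      intro l _
      obtain ⟨m, hm, l', hl'⟩ := hiter p l
      rw [hl', hg1, LinearMap.smul_apply]
      exact Submodule.add_mem_sup hm
        (Submodule.smul_mem_pointwise_smul _ _ _ Submodule.mem_top)
    exact top_le_iff.1 (Cfsg.Agent.Lib.Helper3_DR.le_of_le_sup_smul _ _ hle)
  have hint : DirectSum.IsInternal N :=
    DirectSum.isInternal_submodule_of_iSupIndep_of_iSup_eq_top hindep hspan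
  intro i hi0 hip
  have hineq : ((i : ℕ) : ZMod p) ≠ 0 := by
    rw [Ne, ZMod.natCast_eq_zero_iff]
    exact Nat.not_dvd_of_pos_of_lt hi0 hip
  have hxi : x ^ i = x ^ ((i : ℕ) : ZMod p).val := by
    rw [ZMod.val_cast_of_lt hip]
  refine LinearMap.trace_eq_zero_of_mapsTo_ne hint (fun j => (i : ZMod p) + j) (fun j => ?_)
    (fun j => ?_)
  · intro h
    exact hineq (by simpa using h)
  · intro w hw
    rw [SetLike.mem_coe, hN] at hw
    obtain ⟨f, hf, rfl⟩ := hw
    rw [SetLike.mem_coe, hN]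
    refine ⟨v f, hD3 f hf, ?_⟩
    rw [pow_val_add x hx, ← hxi, Module.End.mul_apply, Module.End.mul_apply]
    congr 1
    -- x^j (v f) = v (x^j f)
    have hc : Commute (x ^ j.val) v := hxv.pow_left _
    have := congrArg (fun φ : Module.End ℤ_[p] L => φ f) hc.eq
    simp only [Module.End.mul_apply] at this
    exact this

end Main

end Cfsg.Agent.Lib.Helper50_GenT2
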