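import Mathlib
import Cfsg.Agent.Lib.Helper57_LatDefs

/-!
# Package GD (dimension shifting) for the general defect-1 block project of helper57

`N = ⟨x₀⟩ ⋊ K₀`, `X` an `N`-lattice with `H⁰(X) = 0`.  The lattice `Y` of functions
`N ⧸ K₀ → X` of sum zero has `H⁻¹(Y) = 0`, `tr(x₀ⁱ v | Y) = - tr(x₀ⁱ v | X)` and `H⁰(Y) ≅ H⁻¹(X)`
`K₀`-equivariantly.
-/

set_option autoImplicit false
set_option linter.unusedSectionVars false
set_option linter.unusedVariables false

namespace Cfsg.Agent.Lib.Helper51_GenD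

open Cfsg.Agent.Lib.Helper57_LatDefs

universe u

/-! ### Abstract diagram chase -/

section chase

variable {R : Type*} [CommRing R] {P X : Type*} [AddCommGroup P] [Module R P]
  [AddCommGroup X] [Module R X]

theorem nuE_apply (p : ℕ) (A : Module.End R P) (h : P) :
    nuE p A h = ∑ i ∈ Finset.range p, (A ^ i) h := by
  unfold nuE
  rw [LinearMap.sum_apply]

theorem nuE_sub (p : ℕ) (A : Module.End R P) (hA : A ^ p = 1) (h : P) :
    nuE p A (A h - h) = 0 := by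
  have h1 : nuE p A * (A - 1) = 0 := by
    unfold nuE
    rw [geom_sum_mul, hA, sub_self]
  have := congrArg (fun f : Module.End R P => f h) h1
  simpa using this

theorem sub_nuE (p : ℕ) (A : Module.End R P) (hA : A ^ p = 1) (h : P) :
    A (nuE p A h) = nuE p A h := by
  have h1 : (A - 1) * nuE p A = 0 := by
    unfold nuE
    rw [mul_geom_sum, hA, sub_self]
  have := congrArg (fun f : Module.End R P => f h) h1
  simp only [Module.End.mul_apply, LinearMap.sub_apply, Module.End.one_apply,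
    LinearMap.zero_apply] at this
  exact sub_eq_zero.1 this

theorem pow_intertwine (σ : P →ₗ[R] X) (A : Module.End R P) (a : Module.End R X)
    (hσ : ∀ h, σ (A h) = a (σ h)) (i : ℕ) (h : P) : σ ((A ^ i) h) = (a ^ i) (σ h) := by
  induction i generalizing h with
  | zero => simp
  | succ i ih => rw [pow_succ, pow_succ, Module.End.mul_apply, Module.End.mul_apply, ih, hσ]

theorem nuE_intertwine (p : ℕ) (σ : P →ₗ[R] X) (A : Module.End R P) (a : Module.End R X)
    (hσ : ∀ h, σ (A h) = a (σ h)) (h : P) : σ (nuE p A h) = nuE p a (σ h) := by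
  rw [nuE_apply, nuE_apply, map_sum]
  apply Finset.sum_congr rfl
  intro i _
  exact pow_intertwine σ A a hσ i h

variable (p : ℕ) (σ : P →ₗ[R] X) (A : Module.End R P) (a : Module.End R X)
  (hσ : ∀ h, σ (A h) = a (σ h)) (hsurj : Function.Surjective σ) (hA : A ^ p = 1)
  (F1 : ∀ h, A h = h → ∃ u, h = nuE p A u) (F2 : ∀ h, nuE p A h = 0 → ∃ u, h = A u - u)

include hσ hsurj hA F2 in
/-- `H⁻¹` of the kernel vanishes when `H⁰` of the quotient does -/
theorem chase1 (hH0 : ∀ l, a l = l → ∃ m, l = nuE p a m) (f : P) (hf : σ f = 0)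
    (hν : nuE p A f = 0) : ∃ F' : P, σ F' = 0 ∧ f = A F' - F' := by
  obtain ⟨h, hh⟩ := F2 f hν
  have h1 : a (σ h) = σ h := by
    have : σ f = a (σ h) - σ h := by rw [hh, map_sub, hσ]
    rw [hf] at this
    exact (sub_eq_zero.1 this.symm)
  obtain ⟨m, hm⟩ := hH0 _ h1
  obtain ⟨h', hh'⟩ := hsurj m
  refine ⟨h - nuE p A h', ?_, ?_⟩
  · rw [map_sub, nuE_intertwine p σ A a hσ, hh', hm, sub_self]
  · rw [map_sub, sub_nuE p A hA, hh]
    abel

include hσ hsurj hA F2 in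
/-- `H⁰` of the kernel vanishes only if `H⁻¹` of the quotient does -/
theorem chase3 (hY0 : ∀ y, σ y = 0 → A y = y → ∃ m, σ m = 0 ∧ y = nuE p A m)
    (l : X) (hl : nuE p a l = 0) : ∃ m, l = a m - m := by
  obtain ⟨h, hh⟩ := hsurj l
  have h1 : σ (nuE p A h) = 0 := by rw [nuE_intertwine p σ A a hσ, hh, hl]
  obtain ⟨y, hy0, hy⟩ := hY0 _ h1 (sub_nuE p A hA h)
  have h2 : nuE p A (h - y) = 0 := by rw [map_sub, hy, sub_self]
  obtain ⟨u, hu⟩ := F2 _ h2
  refine ⟨σ u, ?_⟩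
  have : σ (h - y) = a (σ u) - σ u := by rw [hu, map_sub, hσ]
  rw [map_sub, hh, hy0, sub_zero] at this
  exact this

include hσ hsurj hA F1 in
/-- transfer of the simplicity of `H⁻¹` of the quotient to `H⁰` of the kernel -/
theorem chase4 {ι : Type*} (πK : ι → Module.End R P) (τK : ι → Module.End R X)
    (hπσ : ∀ k h, σ (πK k h) = τK k (σ h))
    (hπν : ∀ k h, nuE p A (πK k h) = πK k (nuE p A h))
    (hX : ∀ W : Submodule R X, (∀ w ∈ W, nuE p a w = 0) → (∀ m, a m - m ∈ W) →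
      (∀ k, ∀ w ∈ W, τK k w ∈ W) →
      (∀ w ∈ W, ∃ m, w = a m - m) ∨ (∀ l, nuE p a l = 0 → l ∈ W))
    (W' : Submodule R P) (hW'Y : ∀ w ∈ W', σ w = 0) (hW'fix : ∀ w ∈ W', A w = w)
    (hW'ν : ∀ m, σ m = 0 → nuE p A m ∈ W') (hW'K : ∀ k, ∀ w ∈ W', πK k w ∈ W') :
    (∀ w ∈ W', ∃ m, σ m = 0 ∧ w = nuE p A m) ∨ (∀ l, σ l = 0 → A l = l → l ∈ W') := by
  obtain ⟨W, hWdef⟩ : ∃ W : Submodule R X, W = (W'.comap (nuE p A)).map σ := ⟨_, rfl⟩
  have hWmem : ∀ w, w ∈ W ↔ ∃ h, nuE p A h ∈ W' ∧ σ h = w := by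
    intro w
    rw [hWdef, Submodule.mem_map]
    simp only [Submodule.mem_comap]
  have hW1 : ∀ w ∈ W, nuE p a w = 0 := by
    intro w hw
    obtain ⟨h, hh, rfl⟩ := (hWmem w).1 hw
    rw [← nuE_intertwine p σ A a hσ]
    exact hW'Y _ hh
  have hW2 : ∀ m, a m - m ∈ W := by
    intro m
    obtain ⟨h, rfl⟩ := hsurj m
    rw [hWmem]
    refine ⟨A h - h, ?_, by rw [map_sub, hσ]⟩
    rw [nuE_sub p A hA]
    exact W'.zero_mem
  have hW3 : ∀ k, ∀ w ∈ W, τK k w ∈ W := by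
    intro k w hw
    obtain ⟨h, hh, rfl⟩ := (hWmem w).1 hw
    rw [hWmem]
    refine ⟨πK k h, ?_, hπσ k h⟩
    rw [hπν]
    exact hW'K k _ hh
  rcases hX W hW1 hW2 hW3 with hcase | hcase
  · left
    intro w' hw'
    obtain ⟨h, hh⟩ := F1 w' (hW'fix w' hw')
    have hσh : σ h ∈ W := by
      rw [hWmem]
      exact ⟨h, by rw [← hh]; exact hw', rfl⟩
    obtain ⟨m, hm⟩ := hcase _ hσh
    obtain ⟨h'', rfl⟩ := hsurj m
    refine ⟨h - (A h'' - h''), ?_, ?_⟩
    · rw [map_sub, hm, map_sub, hσ, sub_self]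
    · rw [map_sub, nuE_sub p A hA, sub_zero, hh]
  · right
    intro y hy0 hyfix
    obtain ⟨h, hh⟩ := F1 y hyfix
    have h1 : nuE p a (σ h) = 0 := by
      rw [← nuE_intertwine p σ A a hσ, ← hh, hy0]
    obtain ⟨h₁, hh₁, hσh₁⟩ := (hWmem _).1 (hcase _ h1)
    have h2 : σ (h - h₁) = 0 := by rw [map_sub, hσh₁, sub_self]
    have h3 := hW'ν _ h2
    have : y = nuE p A h₁ + nuE p A (h - h₁) := by
      rw [map_sub, hh]
      abel
    rw [this]
    exact W'.add_mem hh₁ h3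

end chase

/-! ### Vanishing of the Tate groups of an induced module -/

section induced

variable {R : Type*} [CommRing R] {P : Type*} [AddCommGroup P] [Module R P]
variable (p : ℕ) (A B e : Module.End R P) (hAB : A * B = 1) (hBA : B * A = 1) (hA : A ^ p = 1)
  (hI : ∑ i ∈ Finset.range p, A ^ i * e * B ^ i = 1)

include hAB hBA hI in
theorem induced_F1 (h : P) (hh : A h = h) : ∃ u, h = nuE p A u := by
  have hB : B h = h := by
    have := congrArg (fun f : Module.End R P => f h) hBA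
    simp only [Module.End.mul_apply, Module.End.one_apply] at this
    rw [hh] at this
    exact this
  have hBi : ∀ i : ℕ, (B ^ i) h = h := by
    intro i
    induction i with
    | zero => simp
    | succ i ih => rw [pow_succ, Module.End.mul_apply, hB, ih]
  refine ⟨e h, ?_⟩
  have := congrArg (fun f : Module.End R P => f h) hI
  simp only [LinearMap.sum_apply, Module.End.mul_apply, Module.End.one_apply, hBi] at this
  rw [nuE_apply]
  exact this.symm

include hAB hBA hA hI in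
theorem induced_F2 (h : P) (hh : nuE p A h = 0) : ∃ u, h = A u - u := by
  have hc : Commute A B := by rw [Commute, SemiconjBy, hAB, hBA]
  have hABi : ∀ i : ℕ, A ^ i * B ^ i = 1 := by
    intro i
    rw [← hc.mul_pow, hAB, one_pow]
  have hBAi : ∀ i : ℕ, B ^ i * A ^ i = 1 := by
    intro i
    rw [← hc.symm.mul_pow, hBA, one_pow]
  -- `ν_B = B^(p-1) ν_A`
  have hνB : ∑ i ∈ Finset.range p, (B ^ i) h = 0 := by
    have h1 : ∀ i ∈ Finset.range p, (B ^ i) h = (B ^ (p - 1)) ((A ^ (p - 1 - i)) h) := by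
      intro i hi
      rw [Finset.mem_range] at hi
      have h2 : A ^ (p - 1) = A ^ i * A ^ (p - 1 - i) := by
        rw [← pow_add]
        congr 1
        omega
      have h3 : B ^ i = B ^ (p - 1) * A ^ (p - 1 - i) := by
        have h4 : B ^ (p - 1) * A ^ (p - 1) = 1 := hBAi _
        calc B ^ i = B ^ i * (B ^ (p - 1) * A ^ (p - 1)) := by rw [h4, mul_one]
          _ = B ^ (p - 1) * (B ^ i * A ^ i) * A ^ (p - 1 - i) := by
              rw [h2]
              have hc' : Commute (B ^ i) (B ^ (p - 1)) := (Commute.refl B).pow_pow _ _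
              rw [← mul_assoc, hc'.eq, mul_assoc, mul_assoc, mul_assoc]
          _ = B ^ (p - 1) * A ^ (p - 1 - i) := by rw [hBAi, mul_one]
      rw [h3, Module.End.mul_apply]
    rw [Finset.sum_congr rfl h1, ← map_sum,
      Finset.sum_range_reflect (fun j => (A ^ j) h) p, ← nuE_apply, hh, map_zero]
  have hsumw : ∑ i ∈ Finset.range p, e ((B ^ i) h) = 0 := by
    rw [← map_sum, hνB, map_zero]
  have hh' : h = ∑ i ∈ Finset.range p, (A ^ i) (e ((B ^ i) h)) := by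
    have := congrArg (fun f : Module.End R P => f h) hI
    simp only [LinearMap.sum_apply, Module.End.mul_apply, Module.End.one_apply] at this
    exact this.symm
  refine ⟨∑ i ∈ Finset.range p, (∑ j ∈ Finset.range i, A ^ j) (e ((B ^ i) h)), ?_⟩
  have h5 : ∀ i : ℕ, ∀ w : P,
      A ((∑ j ∈ Finset.range i, A ^ j) w) - (∑ j ∈ Finset.range i, A ^ j) w = (A ^ i) w - w := by
    intro i w
    have := congrArg (fun f : Module.End R P => f w) (mul_geom_sum A i)
    simpa using this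
  rw [map_sum, ← Finset.sum_sub_distrib]
  rw [Finset.sum_congr rfl (fun i _ => h5 i _), Finset.sum_sub_distrib, hsumw, sub_zero]
  exact hh'

end induced

/-! ### The induced lattice -/

section concrete

open Classical

variable {R : Type*} [CommRing R] {N : Type*} [Group N] {X : Type*} [AddCommGroup X] [Module R X]
variable (τ : Representation R N X) (K₀ : Subgroup N)

/-- the action of `N` on the functions `N ⧸ K₀ → X` -/
noncomputable def piRep : Representation R N (N ⧸ K₀ → X) where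
  toFun n :=
    { toFun := fun f c => τ n (f (n⁻¹ • c))
      map_add' := by
        intro f g
        funext c
        simp
      map_smul' := by
        intro r f
        funext c
        simp }
  map_one' := by
    ext f c
    simp
  map_mul' := by
    intro n m
    ext f c
    simp [mul_smul]

@[simp]
theorem piRep_apply (n : N) (f : N ⧸ K₀ → X) (c : N ⧸ K₀) :
    piRep τ K₀ n f c = τ n (f (n⁻¹ • c)) := rfl

variable [Finite N]

noncomputable local instance : Fintype (N ⧸ K₀) := Fintype.ofFinite _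

/-- the sum map -/
noncomputable def sumMap : (N ⧸ K₀ → X) →ₗ[R] X := ∑ c : N ⧸ K₀, LinearMap.proj c

theorem sumMap_apply (f : N ⧸ K₀ → X) : sumMap (R := R) K₀ f = ∑ c, f c := by
  unfold sumMap
  rw [LinearMap.sum_apply]
  rfl

theorem sumMap_piRep (n : N) (f : N ⧸ K₀ → X) :
    sumMap (R := R) K₀ (piRep τ K₀ n f) = τ n (sumMap (R := R) K₀ f) := by
  rw [sumMap_apply, sumMap_apply, map_sum]
  simp only [piRep_apply]
  exact Fintype.sum_equiv (MulAction.toPerm n⁻¹) _ _ (fun c => rfl)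

theorem sumMap_single (c : N ⧸ K₀) (x : X) :
    sumMap (R := R) K₀ (Pi.single c x) = x := by
  rw [sumMap_apply, Finset.sum_eq_single c]
  · simp
  · intro b _ hb
    simp [hb]
  · intro h
    exact absurd (Finset.mem_univ c) h

theorem sumMap_surjective : Function.Surjective (sumMap (R := R) (X := X) K₀) := by
  intro x
  exact ⟨Pi.single (QuotientGroup.mk 1) x, sumMap_single K₀ _ x⟩

/-- the base coset -/
noncomputable def c₀ : N ⧸ K₀ := QuotientGroup.mk 1

/-- the projection onto the coordinate of the base coset -/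
noncomputable def eProj : Module.End R (N ⧸ K₀ → X) :=
  (LinearMap.single R (fun _ : N ⧸ K₀ => X) (c₀ K₀)) ∘ₗ (LinearMap.proj (c₀ K₀))

theorem eProj_apply (f : N ⧸ K₀ → X) :
    eProj (R := R) K₀ f = Pi.single (c₀ K₀) (f (c₀ K₀)) := rfl

theorem piRep_pow (n : N) (i : ℕ) : piRep τ K₀ n ^ i = piRep τ K₀ (n ^ i) := by
  rw [map_pow]

/-- the powers of `x₀` act regularly on the cosets of `K₀` -/
theorem regular {p : ℕ} [Fact p.Prime] (x₀ : N) (hx₀ : orderOf x₀ = p)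
    (hK₀p : (Nat.card K₀).Coprime p)
    (hNK : ∀ n : N, ∃ i : ℕ, ∃ k ∈ K₀, n = x₀ ^ i * k) (c : N ⧸ K₀) :
    ∃ i ∈ Finset.range p, x₀ ^ i • c₀ K₀ = c ∧
      ∀ j ∈ Finset.range p, x₀ ^ j • c₀ K₀ = c → j = i := by
  have hp : p.Prime := Fact.out
  obtain ⟨n, rfl⟩ := QuotientGroup.mk_surjective c
  obtain ⟨i, k, hk, rfl⟩ := hNK n
  have hmk : ∀ j : ℕ, x₀ ^ j • c₀ K₀ = QuotientGroup.mk (x₀ ^ j) := by
    intro j
    unfold c₀
    rw [MulAction.Quotient.smul_mk, smul_eq_mul, mul_one]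
  have hex : x₀ ^ (i % p) • c₀ K₀ = QuotientGroup.mk (x₀ ^ i * k) := by
    rw [hmk, ← hx₀, pow_mod_orderOf, QuotientGroup.eq]
    have : (x₀ ^ i)⁻¹ * (x₀ ^ i * k) = k := by group
    rw [this]
    exact hk
  refine ⟨i % p, Finset.mem_range.2 (Nat.mod_lt _ hp.pos), hex, ?_⟩
  intro j hj hjc
  rw [Finset.mem_range] at hj
  rw [← hex, hmk, hmk, QuotientGroup.eq] at hjc
  obtain ⟨g, hg⟩ : ∃ g : N, g = (x₀ ^ j)⁻¹ * x₀ ^ (i % p) := ⟨_, rfl⟩
  rw [← hg] at hjc
  have hgp : g ^ p = 1 := by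
    have hc : Commute (x₀ ^ j)⁻¹ (x₀ ^ (i % p)) :=
      ((Commute.refl x₀).pow_pow _ _).inv_left
    rw [hg, hc.mul_pow, inv_pow, ← pow_mul, ← pow_mul, mul_comm j p, mul_comm (i % p) p, pow_mul,
      pow_mul, ← hx₀, pow_orderOf_eq_one, one_pow, one_pow, inv_one, one_mul]
  have h1 : orderOf g ∣ p := orderOf_dvd_of_pow_eq_one hgp
  have h2 : orderOf g ∣ Nat.card K₀ := by
    have := orderOf_dvd_natCard (⟨g, hjc⟩ : K₀)
    rwa [Subgroup.orderOf_mk] at this
  have h3 : orderOf g = 1 := Nat.eq_one_of_dvd_coprimes hK₀p h2 h1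
  have hg1 : g = 1 := orderOf_eq_one_iff.1 h3
  rw [hg, inv_mul_eq_one] at hg1
  have h4 := (pow_eq_pow_iff_modEq (x := x₀)).1 hg1
  rw [hx₀] at h4
  have h5 : j % p = (i % p) % p := h4
  rw [Nat.mod_mod, Nat.mod_eq_of_lt hj] at h5
  exact h5

/-- the identity `Σ Aⁱ e A⁻ⁱ = 1` -/
theorem sum_conj_eProj {p : ℕ} [Fact p.Prime] (x₀ : N) (hx₀ : orderOf x₀ = p)
    (hK₀p : (Nat.card K₀).Coprime p)
    (hNK : ∀ n : N, ∃ i : ℕ, ∃ k ∈ K₀, n = x₀ ^ i * k) :
    ∑ i ∈ Finset.range p, piRep τ K₀ x₀ ^ i * eProj K₀ * piRep τ K₀ x₀⁻¹ ^ i = 1 := by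
  apply LinearMap.ext
  intro f
  funext c
  simp only [LinearMap.sum_apply, Module.End.mul_apply, Module.End.one_apply, Finset.sum_apply,
    piRep_pow, piRep_apply, eProj_apply]
  obtain ⟨i, hi, hic, huniq⟩ := regular K₀ x₀ hx₀ hK₀p hNK c
  rw [Finset.sum_eq_single i]
  · have h1 : (x₀ ^ i)⁻¹ • c = c₀ K₀ := by rw [← hic, inv_smul_smul]
    rw [h1, Pi.single_eq_same]
    have h2 : ((x₀⁻¹ ^ i)⁻¹ • c₀ K₀) = c := by rw [inv_pow, inv_inv, hic]
    rw [h2, ← Module.End.mul_apply, ← map_mul, inv_pow, mul_inv_cancel, map_one,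
      Module.End.one_apply]
  · intro j hj hji
    have h1 : (x₀ ^ j)⁻¹ • c ≠ c₀ K₀ := by
      intro h
      apply hji
      apply huniq j hj
      rw [← h, smul_inv_smul]
    rw [Pi.single_eq_of_ne h1, map_zero]
  · intro h
    exact absurd hi h

/-! ### Fixed-point-free elements on the cosets -/

theorem smul_ne_of_dvd_orderOf {p : ℕ} [Fact p.Prime] (hK₀p : (Nat.card K₀).Coprime p)
    (g : N) (hg : p ∣ orderOf g) (c : N ⧸ K₀) : g • c ≠ c := by
  have hp : p.Prime := Fact.out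
  intro h
  obtain ⟨n, rfl⟩ := QuotientGroup.mk_surjective c
  rw [MulAction.Quotient.smul_mk, smul_eq_mul, eq_comm, QuotientGroup.eq] at h
  have h1 : orderOf (n⁻¹ * (g * n)) = orderOf g := by
    have : n⁻¹ * (g * n) = MulAut.conj n⁻¹ g := by simp [mul_assoc]
    rw [this, MulEquiv.orderOf_eq]
  have h2 : orderOf (n⁻¹ * (g * n)) ∣ Nat.card K₀ := by
    have := orderOf_dvd_natCard (⟨_, h⟩ : K₀)
    rwa [Subgroup.orderOf_mk] at this
  rw [h1] at h2
  have h3 : p ∣ Nat.card K₀ := hg.trans h2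
  have h4 : p ∣ Nat.gcd (Nat.card K₀) p := Nat.dvd_gcd h3 dvd_rfl
  rw [hK₀p] at h4
  exact hp.one_lt.ne' (Nat.dvd_one.1 h4)

theorem dvd_orderOf_mul {p : ℕ} [Fact p.Prime] (x₀ : N) (hx₀ : orderOf x₀ = p) (i : ℕ)
    (hi0 : 0 < i) (hip : i < p) (v : N) (hv : Commute v x₀) (hvp : ¬ p ∣ orderOf v) :
    p ∣ orderOf (x₀ ^ i * v) := by
  have hp : p.Prime := Fact.out
  have hcop : Nat.Coprime p i := by
    rw [Nat.Prime.coprime_iff_not_dvd hp]
    intro h
    have := Nat.le_of_dvd hi0 h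
    omega
  have h1 : orderOf (x₀ ^ i) = p := by
    rw [Nat.Coprime.orderOf_pow (by rw [hx₀]; exact hcop), hx₀]
  have h2 : Commute (x₀ ^ i) v := (hv.symm).pow_left i
  have h3 : (orderOf (x₀ ^ i)).Coprime (orderOf v) := by
    rw [h1, Nat.Prime.coprime_iff_not_dvd hp]
    exact hvp
  rw [h2.orderOf_mul_eq_mul_orderOf_of_coprime h3, h1]
  exact dvd_mul_right _ _

/-! ### Conjugation permutes the powers of `x₀` -/

theorem sum_conj_pow {M : Type*} [AddCommMonoid M] (x₀ : N)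
    (hnorm : (Subgroup.zpowers x₀).Normal) (n : N) (F : N → M) :
    ∑ i ∈ Finset.range (orderOf x₀), F (n⁻¹ * x₀ ^ i * n) =
      ∑ i ∈ Finset.range (orderOf x₀), F (x₀ ^ i) := by
  have hinj : Set.InjOn (fun i : ℕ => x₀ ^ i) (Finset.range (orderOf x₀) : Set ℕ) := by
    intro i hi j hj hij
    exact pow_injOn_Iio_orderOf (by simpa using hi) (by simpa using hj) hij
  rw [← Finset.sum_image (f := fun z => F (n⁻¹ * z * n)) hinj,
    ← Finset.sum_image (f := fun z => F z) hinj]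
  apply Finset.sum_nbij' (fun z => n⁻¹ * z * n) (fun z => n * z * n⁻¹)
  · intro z hz
    rw [← mem_zpowers_iff_mem_range_orderOf] at hz ⊢
    have := hnorm.conj_mem z hz n⁻¹
    rwa [inv_inv] at this
  · intro z hz
    rw [← mem_zpowers_iff_mem_range_orderOf] at hz ⊢
    exact hnorm.conj_mem z hz n
  · intro z _
    group
  · intro z _
    group
  · intro z _
    rfl

theorem nuE_piRep_comm {p : ℕ} (x₀ : N) (hx₀ : orderOf x₀ = p)
    (hnorm : (Subgroup.zpowers x₀).Normal) (n : N) (h : N ⧸ K₀ → X) :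
    nuE p (piRep τ K₀ x₀) (piRep τ K₀ n h) = piRep τ K₀ n (nuE p (piRep τ K₀ x₀) h) := by
  rw [nuE_apply, nuE_apply, map_sum]
  simp only [piRep_pow, ← Module.End.mul_apply, ← map_mul]
  rw [← hx₀]
  have h1 := sum_conj_pow x₀ hnorm n (fun z => piRep τ K₀ (n * z) h)
  rw [← h1]
  apply Finset.sum_congr rfl
  intro i _
  congr 2
  group

/-! ### Traces -/

section trace

variable [IsDomain R] [IsPrincipalIdealRing R] [Module.Free R X] [Module.Finite R X]

theorem trace_piRep_eq_zero (g : N) (hg : ∀ c : N ⧸ K₀, g • c ≠ c) :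
    LinearMap.trace R (N ⧸ K₀ → X) (piRep τ K₀ g) = 0 := by
  let b := Module.Free.chooseBasis R X
  let B := Pi.basis (fun _ : N ⧸ K₀ => b)
  rw [LinearMap.trace_eq_matrix_trace R B, Matrix.trace]
  apply Finset.sum_eq_zero
  rintro ⟨c, j⟩ _
  rw [Matrix.diag_apply, LinearMap.toMatrix_apply, Pi.basis_repr, Pi.basis_apply]
  simp only [piRep_apply]
  have h1 : g⁻¹ • c ≠ c := by
    intro h
    apply hg c
    rw [← h, smul_inv_smul, h]
  rw [Pi.single_eq_of_ne h1, map_zero, map_zero]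
  rfl

/-- the kernel of the sum map -/
noncomputable def kerSum : Submodule R (N ⧸ K₀ → X) := LinearMap.ker (sumMap (R := R) (X := X) K₀)

theorem mem_kerSum (f : N ⧸ K₀ → X) : f ∈ kerSum (R := R) (X := X) K₀ ↔ sumMap (R := R) K₀ f = 0 :=
  LinearMap.mem_ker

theorem piRep_mem_kerSum (n : N) (f : N ⧸ K₀ → X) (hf : f ∈ kerSum (R := R) (X := X) K₀) :
    piRep τ K₀ n f ∈ kerSum (R := R) (X := X) K₀ := by
  rw [mem_kerSum] at hf ⊢
  rw [sumMap_piRep, hf, map_zero]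

/-- the representation on the kernel of the sum map -/
noncomputable def kerRep : Representation R N (kerSum (R := R) (X := X) K₀) where
  toFun n := (piRep τ K₀ n).restrict (fun f hf => piRep_mem_kerSum τ K₀ n f hf)
  map_one' := by
    apply LinearMap.ext
    intro f
    apply Subtype.ext
    simp
  map_mul' := by
    intro n m
    apply LinearMap.ext
    intro f
    apply Subtype.ext
    simp

theorem kerRep_apply (n : N) (f : kerSum (R := R) (X := X) K₀) :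
    ((kerRep τ K₀ n f : kerSum (R := R) (X := X) K₀) : N ⧸ K₀ → X) = piRep τ K₀ n f := rfl

theorem trace_kerRep (g : N) :
    LinearMap.trace R (kerSum (R := R) (X := X) K₀) (kerRep τ K₀ g) =
      LinearMap.trace R (N ⧸ K₀ → X) (piRep τ K₀ g) - LinearMap.trace R X (τ g) := by
  obtain ⟨S, hS⟩ : ∃ S : (N ⧸ K₀ → X) →ₗ[R] (N ⧸ K₀ → X),
      S = (LinearMap.single R (fun _ : N ⧸ K₀ => X) (c₀ K₀)) ∘ₗ sumMap (R := R) K₀ := ⟨_, rfl⟩
  have hSapp : ∀ f, S f = Pi.single (c₀ K₀) (sumMap (R := R) K₀ f) := by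
    intro f; rw [hS]; rfl
  obtain ⟨T, hT⟩ : ∃ T : (N ⧸ K₀ → X) →ₗ[R] (N ⧸ K₀ → X),
      T = piRep τ K₀ g ∘ₗ (LinearMap.id - S) := ⟨_, rfl⟩
  have hTmem : ∀ f, T f ∈ kerSum (R := R) (X := X) K₀ := by
    intro f
    rw [hT, LinearMap.comp_apply]
    apply piRep_mem_kerSum
    rw [mem_kerSum, LinearMap.sub_apply, LinearMap.id_apply, map_sub, hSapp, sumMap_single,
      sub_self]
  have h1 := LinearMap.trace_restrict_eq_of_forall_mem (kerSum (R := R) (X := X) K₀) T hTmem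
  have h2 : T.restrict (fun x _ => hTmem x) = kerRep τ K₀ g := by
    apply LinearMap.ext
    intro f
    apply Subtype.ext
    rw [LinearMap.restrict_apply, kerRep_apply]
    show T f = _
    rw [hT, LinearMap.comp_apply, LinearMap.sub_apply, LinearMap.id_apply, hSapp,
      (mem_kerSum K₀ _).1 f.2, Pi.single_zero, sub_zero]
  rw [h2] at h1
  rw [h1, hT, LinearMap.comp_sub, LinearMap.comp_id, map_sub, hS, ← LinearMap.comp_assoc,
    LinearMap.trace_comp_comm']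
  congr 1
  congr 1
  apply LinearMap.ext
  intro x
  rw [LinearMap.comp_apply, LinearMap.comp_apply, sumMap_piRep]
  congr 1
  exact sumMap_single K₀ _ x

theorem coe_nuE_kerRep (p : ℕ) (x₀ : N) (y : kerSum (R := R) (X := X) K₀) :
    ((nuE p (kerRep τ K₀ x₀) y : kerSum (R := R) (X := X) K₀) : N ⧸ K₀ → X) =
      nuE p (piRep τ K₀ x₀) (y : N ⧸ K₀ → X) := by
  rw [nuE_apply, nuE_apply, Submodule.coe_sum]
  apply Finset.sum_congr rfl
  intro i _
  rw [← map_pow, kerRep_apply, piRep_pow]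

end trace

end concrete

/-! ### The package statement -/

section final

open Classical

variable {p : ℕ} [hp : Fact p.Prime]

theorem exists_shift {N : Type u} [Group N] [Finite N]
    {X : Type u} [AddCommGroup X] [Module ℤ_[p] X] [Module.Free ℤ_[p] X] [Module.Finite ℤ_[p] X]
    (τ : Representation ℤ_[p] N X) (x₀ : N) (hx₀ : orderOf x₀ = p)
    (hnorm : (Subgroup.zpowers x₀).Normal)
    (K₀ : Subgroup N) (hK₀p : (Nat.card K₀).Coprime p)
    (hNK : ∀ n : N, ∃ i : ℕ, ∃ k ∈ K₀, n = x₀ ^ i * k)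
    (hH0 : ∀ l, τ x₀ l = l → ∃ m, l = nuE p (τ x₀) m) :
    ∃ (Y : Type u) (_ : AddCommGroup Y) (_ : Module ℤ_[p] Y) (_ : Module.Free ℤ_[p] Y)
      (_ : Module.Finite ℤ_[p] Y) (τ' : Representation ℤ_[p] N Y),
      (∀ l, nuE p (τ' x₀) l = 0 → ∃ m, l = τ' x₀ m - m) ∧
      (∀ i : ℕ, 0 < i → i < p → ∀ v : N, Commute v x₀ → ¬ p ∣ orderOf v →
        LinearMap.trace ℤ_[p] Y (τ' (x₀ ^ i * v)) = - LinearMap.trace ℤ_[p] X (τ (x₀ ^ i * v))) ∧
      ((∀ l', τ' x₀ l' = l' → ∃ m, l' = nuE p (τ' x₀) m) →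
        ∀ l, nuE p (τ x₀) l = 0 → ∃ m, l = τ x₀ m - m) ∧
      ((∀ W : Submodule ℤ_[p] X, (∀ w ∈ W, nuE p (τ x₀) w = 0) → (∀ m, τ x₀ m - m ∈ W) →
          (∀ k ∈ K₀, ∀ w ∈ W, τ k w ∈ W) →
          (∀ w ∈ W, ∃ m, w = τ x₀ m - m) ∨ (∀ l, nuE p (τ x₀) l = 0 → l ∈ W)) →
        ∀ W' : Submodule ℤ_[p] Y, (∀ w ∈ W', τ' x₀ w = w) → (∀ m, nuE p (τ' x₀) m ∈ W') →
          (∀ k ∈ K₀, ∀ w ∈ W', τ' k w ∈ W') →
          (∀ w ∈ W', ∃ m, w = nuE p (τ' x₀) m) ∨ (∀ l, τ' x₀ l = l → l ∈ W')) := by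
  -- notation
  obtain ⟨A, hAdef⟩ : ∃ A : Module.End ℤ_[p] (N ⧸ K₀ → X), A = piRep τ K₀ x₀ := ⟨_, rfl⟩
  obtain ⟨B, hBdef⟩ : ∃ B : Module.End ℤ_[p] (N ⧸ K₀ → X), B = piRep τ K₀ x₀⁻¹ := ⟨_, rfl⟩
  have hAB : A * B = 1 := by rw [hAdef, hBdef, ← map_mul, mul_inv_cancel, map_one]
  have hBA : B * A = 1 := by rw [hAdef, hBdef, ← map_mul, inv_mul_cancel, map_one]
  have hxp : x₀ ^ p = 1 := by
    have := pow_orderOf_eq_one x₀
    rwa [hx₀] at this
  have hA : A ^ p = 1 := by rw [hAdef, piRep_pow, hxp, map_one]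
  have hI : ∑ i ∈ Finset.range p, A ^ i * eProj K₀ * B ^ i = 1 := by
    rw [hAdef, hBdef]
    exact sum_conj_eProj τ K₀ x₀ hx₀ hK₀p hNK
  have F1 := induced_F1 p A B (eProj K₀) hAB hBA hI
  have F2 := induced_F2 p A B (eProj K₀) hAB hBA hA hI
  have hσ : ∀ h, sumMap (R := ℤ_[p]) K₀ (A h) = τ x₀ (sumMap (R := ℤ_[p]) K₀ h) := by
    intro h
    rw [hAdef]
    exact sumMap_piRep τ K₀ x₀ h
  have hsurj := sumMap_surjective (R := ℤ_[p]) (X := X) K₀
  have hcoeν : ∀ y : kerSum (R := ℤ_[p]) (X := X) K₀,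
      ((nuE p (kerRep τ K₀ x₀) y : kerSum (R := ℤ_[p]) (X := X) K₀) : N ⧸ K₀ → X) =
        nuE p A (y : N ⧸ K₀ → X) := by
    intro y
    rw [hAdef]
    exact coe_nuE_kerRep τ K₀ p x₀ y
  have hcoeA : ∀ y : kerSum (R := ℤ_[p]) (X := X) K₀,
      ((kerRep τ K₀ x₀ y : kerSum (R := ℤ_[p]) (X := X) K₀) : N ⧸ K₀ → X) =
        A (y : N ⧸ K₀ → X) := by
    intro y
    rw [hAdef]
    rfl
  refine ⟨kerSum (R := ℤ_[p]) (X := X) K₀, inferInstance, inferInstance, inferInstance,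
    inferInstance, kerRep τ K₀, ?_, ?_, ?_, ?_⟩
  · -- `H⁻¹(Y) = 0`
    intro l hl
    have hl' : nuE p A (l : N ⧸ K₀ → X) = 0 := by
      rw [← hcoeν, hl]
      rfl
    obtain ⟨F', hF'0, hF'⟩ := chase1 p (sumMap (R := ℤ_[p]) K₀) A (τ x₀) hσ hsurj hA F2 hH0
      (l : N ⧸ K₀ → X) ((mem_kerSum K₀ _).1 l.2) hl'
    refine ⟨⟨F', (mem_kerSum K₀ _).2 hF'0⟩, ?_⟩
    apply Subtype.ext
    rw [Submodule.coe_sub, hcoeA]
    exact hF'
  · -- traces
    intro i hi0 hip v hv hvp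
    rw [trace_kerRep, trace_piRep_eq_zero, zero_sub]
    intro c
    exact smul_ne_of_dvd_orderOf K₀ hK₀p _ (dvd_orderOf_mul x₀ hx₀ i hi0 hip v hv hvp) c
  · -- `H⁰(Y) = 0 → H⁻¹(X) = 0`
    intro hY0 l hl
    apply chase3 p (sumMap (R := ℤ_[p]) K₀) A (τ x₀) hσ hsurj hA F2 ?_ l hl
    intro y hy0 hyfix
    obtain ⟨m, hm⟩ := hY0 ⟨y, (mem_kerSum K₀ _).2 hy0⟩ (by
      apply Subtype.ext
      rw [hcoeA]
      exact hyfix)
    refine ⟨(m : N ⧸ K₀ → X), (mem_kerSum K₀ _).1 m.2, ?_⟩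
    have := congrArg Subtype.val hm
    rw [hcoeν] at this
    exact this
  · -- transfer of simplicity
    intro hX W' hW'fix hW'ν hW'K
    have hX' : ∀ W : Submodule ℤ_[p] X, (∀ w ∈ W, nuE p (τ x₀) w = 0) → (∀ m, τ x₀ m - m ∈ W) →
        (∀ k : K₀, ∀ w ∈ W, τ (k : N) w ∈ W) →
        (∀ w ∈ W, ∃ m, w = τ x₀ m - m) ∨ (∀ l, nuE p (τ x₀) l = 0 → l ∈ W) := by
      intro W h1 h2 h3
      exact hX W h1 h2 (fun k hk w hw => h3 ⟨k, hk⟩ w hw)
    have key := chase4 p (sumMap (R := ℤ_[p]) K₀) A (τ x₀) hσ hsurj hA F1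
      (fun k : K₀ => piRep τ K₀ (k : N)) (fun k : K₀ => τ (k : N))
      (fun k h => sumMap_piRep τ K₀ (k : N) h)
      (fun k h => by rw [hAdef]; exact nuE_piRep_comm τ K₀ x₀ hx₀ hnorm (k : N) h)
      hX' (W'.map (kerSum (R := ℤ_[p]) (X := X) K₀).subtype)
      (by
        rintro _ ⟨w, _, rfl⟩
        exact (mem_kerSum K₀ _).1 w.2)
      (by
        rintro _ ⟨w, hw, rfl⟩
        have := congrArg Subtype.val (hW'fix w hw)
        rw [hcoeA] at this
        exact this)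
      (by
        intro m hm
        refine ⟨nuE p (kerRep τ K₀ x₀) ⟨m, (mem_kerSum K₀ _).2 hm⟩, hW'ν _, ?_⟩
        rw [Submodule.subtype_apply, hcoeν])
      (by
        rintro k _ ⟨w, hw, rfl⟩
        exact ⟨kerRep τ K₀ (k : N) w, hW'K k k.2 w hw, rfl⟩)
    rcases key with key | key
    · left
      intro w hw
      obtain ⟨m, hm0, hm⟩ := key (w : N ⧸ K₀ → X) ⟨w, hw, rfl⟩
      refine ⟨⟨m, (mem_kerSum K₀ _).2 hm0⟩, ?_⟩
      apply Subtype.ext
      rw [hcoeν]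
      exact hm
    · right
      intro l hl
      have h1 := key (l : N ⧸ K₀ → X) ((mem_kerSum K₀ _).1 l.2) (by
        rw [← hcoeA, hl])
      obtain ⟨w, hw, hwl⟩ := h1
      have : w = l := Subtype.ext hwl
      rw [← this]
      exact hw

end final

end Cfsg.Agent.Lib.Helper51_GenD
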