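import Mathlib
import Cfsg.Agent.Lib.Helper57_LatDefs
import Cfsg.Agent.Lib.Helper3_DR
import Cfsg.Agent.Lib.Helper13_PLocal

/-!
# Lifting endomorphisms of `H^0` and `H^{-1}` to `P`-endomorphisms (helper57)

General defect-one project.  `x` is the action of a generator of a group of order `p` on a
`ℤ_[p]`-lattice.  `surj_T`: an endomorphism preserving `ker (x-1) ⊇ range ν` is congruent on the fixed
points, modulo norms, to an endomorphism commuting with `x` that kills `ker ν`.  `surj_Y`: the same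
for `ker ν ⊇ range (x-1)`.
-/

set_option autoImplicit false

namespace Cfsg.Agent.Lib.Helper57_GenB

open Cfsg.Agent.Lib.Helper57_LatDefs Cfsg.Agent.Lib.Helper13_PLocal

variable {p : ℕ} [hp : Fact p.Prime] {L : Type*} [AddCommGroup L] [Module ℤ_[p] L]
  [Module.Free ℤ_[p] L] [Module.Finite ℤ_[p] L]

/-- **B1.** -/
theorem surj_T (x : Module.End ℤ_[p] L) (hx : x ^ p = 1) (α : Module.End ℤ_[p] L)
    (hα1 : ∀ l, x l = l → x (α l) = α l) (hα2 : ∀ m, ∃ m', α (nuE p x m) = nuE p x m') :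
    ∃ ψ : Module.End ℤ_[p] L, Commute ψ x ∧ (∀ l, x l = l → ∃ m, ψ l - α l = nuE p x m) ∧
      (∀ l, nuE p x l = 0 → ψ l = 0) := by
  obtain ⟨a, b, c, 𝔟, u, w, hT, hU, hY, hF⟩ := Cfsg.Agent.Lib.Helper3_DR.dr x hx
  have hcomm : Commute (pT 𝔟) x := proj_commute 𝔟 x hx u w hT hU hY hF _ _ _
  have hxpT : ∀ v, x (pT 𝔟 v) = pT 𝔟 v := x_pT 𝔟 x hT
  have hcomm' : ∀ v, pT 𝔟 (x v) = x (pT 𝔟 v) := by
    intro v
    have := LinearMap.congr_fun hcomm.eq v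
    simpa [Module.End.mul_apply] using this
  have hker : ∀ l, nuE p x l = 0 → pT 𝔟 l = 0 := by
    intro l hl
    rw [pT_eq]
    apply Finset.sum_eq_zero
    intro j _
    have h1 := repr_nuE_T 𝔟 x hx u w hT hU hY hF l j
    rw [hl, map_zero, Finsupp.zero_apply] at h1
    rcases mul_eq_zero.mp h1.symm with h0 | h0
    · exact absurd h0 (by exact_mod_cast hp.out.ne_zero)
    · rw [h0, zero_smul]
  refine ⟨pT 𝔟 * α * pT 𝔟, ?_, ?_, ?_⟩
  · apply LinearMap.ext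
    intro v
    simp only [Module.End.mul_apply]
    rw [hcomm', hxpT, hxpT]
  · intro l hl
    obtain ⟨m₁, hm₁⟩ := fixed_sub_pT_mem 𝔟 x hx u w hT hU hY hF hl
    -- `l = pT l + ν m₁`
    obtain ⟨m₂, hm₂⟩ := hα2 m₁
    have hfix : x (α (pT 𝔟 l)) = α (pT 𝔟 l) := hα1 _ (hxpT l)
    obtain ⟨m₃, hm₃⟩ := fixed_sub_pT_mem 𝔟 x hx u w hT hU hY hF hfix
    refine ⟨-m₂ - m₃, ?_⟩
    simp only [Module.End.mul_apply]
    have h1 : α l = α (pT 𝔟 l) + nuE p x m₂ := by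
      have : l = pT 𝔟 l + nuE p x m₁ := by rw [hm₁]; abel
      conv_lhs => rw [this]
      rw [map_add, hm₂]
    rw [h1, map_sub, map_neg, hm₃]
    abel
  · intro l hl
    simp only [Module.End.mul_apply]
    rw [hker l hl, map_zero, map_zero]

/-- **B2.** -/
theorem surj_Y (x : Module.End ℤ_[p] L) (hx : x ^ p = 1) (β : Module.End ℤ_[p] L)
    (hβ1 : ∀ l, nuE p x l = 0 → nuE p x (β l) = 0) (hβ2 : ∀ m, ∃ m', β (x m - m) = x m' - m') :
    ∃ ψ : Module.End ℤ_[p] L, Commute ψ x ∧ (∀ l, x l = l → ∃ m, ψ l = nuE p x m) ∧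
      (∀ l, nuE p x l = 0 → ∃ m, ψ l - β l = x m - m) := by
  obtain ⟨a, b, c, 𝔟, u, w, hT, hU, hY, hF⟩ := Cfsg.Agent.Lib.Helper3_DR.dr x hx
  have hcomm : Commute (pY 𝔟) x := proj_commute 𝔟 x hx u w hT hU hY hF _ _ _
  have hcomm' : ∀ v, pY 𝔟 (x v) = x (pY 𝔟 v) := by
    intro v
    have := LinearMap.congr_fun hcomm.eq v
    simpa [Module.End.mul_apply] using this
  have hnu : ∀ v, nuE p x (pY 𝔟 v) = 0 := nuE_pY 𝔟 x hx u hU hY
  have hfixY : ∀ l, x l = l → pY 𝔟 l = 0 := by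
    intro l hl
    apply p_smul_eq_zero 𝔟
    have h1 : x (pY 𝔟 l) = pY 𝔟 l := by rw [← hcomm', hl]
    rw [← nuE_fixed x h1, hnu]
  have hxnu : ∀ m, x (nuE p x m) = nuE p x m := by
    intro m
    have := LinearMap.congr_fun (x_mul_nuE x hx) m
    simpa [Module.End.mul_apply] using this
  set ψ₀ : Module.End ℤ_[p] L := pY 𝔟 * β * pY 𝔟 with hψ₀
  have hψ₀fix : ∀ l, x l = l → ψ₀ l = 0 := by
    intro l hl
    simp only [hψ₀, Module.End.mul_apply]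
    rw [hfixY l hl, map_zero, map_zero]
  have hA : InA p x ψ₀ := by
    refine ⟨fun l hl => ?_, fun m => ⟨0, ?_⟩, fun l _ => ?_, fun m => ?_⟩
    · rw [hψ₀fix l hl, map_zero]
    · rw [hψ₀fix _ (hxnu m), map_zero]
    · simp only [hψ₀, Module.End.mul_apply]
      exact hnu _
    · simp only [hψ₀, Module.End.mul_apply]
      obtain ⟨m₂, hm₂⟩ := hβ2 (pY 𝔟 m)
      refine ⟨pY 𝔟 m₂, ?_⟩
      rw [map_sub, hcomm', hm₂, map_sub, hcomm']
  obtain ⟨φ, hφc, hφ1, hφ2⟩ := pl_surj x hx ψ₀ hA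
  refine ⟨φ, hφc, fun l hl => ?_, fun l hl => ?_⟩
  · obtain ⟨m, hm⟩ := hφ1 l hl
    refine ⟨-m, ?_⟩
    rw [LinearMap.sub_apply, hψ₀fix l hl, zero_sub] at hm
    rw [map_neg, ← hm, neg_neg]
  · obtain ⟨m, hm⟩ := hφ2 l hl
    rw [LinearMap.sub_apply] at hm
    -- `ψ₀ l ≡ β l`
    obtain ⟨m₁, hm₁⟩ := nuzero_sub_pY_mem 𝔟 x hx u w hT hU hY hF hl
    obtain ⟨m₂, hm₂⟩ := hβ2 m₁
    have h1 : nuE p x (β (pY 𝔟 l)) = 0 := hβ1 _ (hnu l)
    obtain ⟨m₃, hm₃⟩ := nuzero_sub_pY_mem 𝔟 x hx u w hT hU hY hF h1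
    simp only [LinearMap.sub_apply, Module.End.one_apply] at hm₁ hm₃
    refine ⟨-m - m₂ - m₃, ?_⟩
    have h2 : β l = β (pY 𝔟 l) + (x m₂ - m₂) := by
      have : l = pY 𝔟 l + (x m₁ - m₁) := by rw [hm₁]; abel
      conv_lhs => rw [this]
      rw [map_add, hm₂]
    have h3 : ψ₀ l = β (pY 𝔟 l) - (x m₃ - m₃) := by
      simp only [hψ₀, Module.End.mul_apply]
      rw [hm₃]; abel
    have h4 : φ l = ψ₀ l - (x m - m) := by rw [← hm]; abel
    rw [h4, h3, h2]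
    simp only [map_sub, map_neg]
    abel

end Cfsg.Agent.Lib.Helper57_GenB
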