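import Mathlib
import Cfsg.Agent.Lib.Helper57_LatDefs
import Cfsg.Agent.Lib.Helper57_LatTr
import Cfsg.Agent.Lib.Helper57_LatLocal
import Cfsg.Agent.Lib.Helper57_CT
import Cfsg.Agent.Lib.Helper57_GenLin
import Cfsg.Agent.Lib.Helper57_GenB
import Cfsg.Agent.Lib.Helper17_LatticeLocal

/-!
# Simplicity of `H^0` and `H^{-1}` as modules for the normalizer (helper57)

General defect-one project, step (C).  `L` a `ℚ_p`-irreducible `ℤ_p[G]`-lattice, `P = ⟨x₀⟩` a Sylow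
subgroup of order `p`, `K₀` a `p'`-subgroup with `N_G(P) = P K₀`.  Every `K₀`-stable submodule between
`ν L` and `L^P` is `ν L`, or is `L^P` and then `H^{-1} = 0`; dually for `H^{-1}`.
-/

set_option autoImplicit false
set_option linter.unusedSectionVars false

namespace Cfsg.Agent.Lib.Helper57_GenC

open Finset Cfsg.Agent.Lib.Helper57_LatDefs Cfsg.Agent.Lib.Helper57_LatTr
  Cfsg.Agent.Lib.Helper57_LatLocal Cfsg.Agent.Lib.Helper57_GenLin Cfsg.Agent.Lib.Helper57_GenB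

variable {p : ℕ} [hp : Fact p.Prime]
variable {G : Type*} [Group G] [Finite G] {L : Type*} [AddCommGroup L] [Module ℤ_[p] L]
  [Module.Free ℤ_[p] L] [Module.Finite ℤ_[p] L]

section xlevel

variable (x : Module.End ℤ_[p] L) (hx : x ^ p = 1)

theorem nuE_of_fixed {l : L} (hl : x l = l) : nuE p x l = (p : ℤ_[p]) • l :=
  Cfsg.Agent.Lib.Helper13_PLocal.nuE_fixed x hl

include hx in
theorem x_nuE (m : L) : x (nuE p x m) = nuE p x m := by
  have := LinearMap.congr_fun (Cfsg.Agent.Lib.Helper13_PLocal.x_mul_nuE x hx) m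
  simpa [Module.End.mul_apply] using this

include hx in
theorem nuE_x_sub (m : L) : nuE p x (x m - m) = 0 := by
  have h1 := Cfsg.Agent.Lib.Helper13_PLocal.nuE_mul_pow x hx 1
  rw [pow_one] at h1
  have := LinearMap.congr_fun h1 m
  rw [Module.End.mul_apply] at this
  rw [map_sub, this, sub_self]

theorem isPure_fix : IsPure (LinearMap.ker (x - 1)) := by
  intro l hl
  rw [LinearMap.mem_ker] at hl ⊢
  rw [map_smul] at hl
  rcases smul_eq_zero.mp hl with h | h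
  · exact absurd h Cfsg.Agent.Lib.Helper3_DR.p_ne_zero
  · exact h

theorem isPure_kerNu : IsPure (LinearMap.ker (nuE p x)) := by
  intro l hl
  rw [LinearMap.mem_ker] at hl ⊢
  rw [map_smul] at hl
  rcases smul_eq_zero.mp hl with h | h
  · exact absurd h Cfsg.Agent.Lib.Helper3_DR.p_ne_zero
  · exact h

theorem mem_fix {l : L} : l ∈ LinearMap.ker (x - 1) ↔ x l = l := by
  rw [LinearMap.mem_ker, LinearMap.sub_apply, Module.End.one_apply, sub_eq_zero]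

theorem commute_apply {φ ψ : Module.End ℤ_[p] L} (h : Commute φ ψ) (l : L) : φ (ψ l) = ψ (φ l) := by
  have := LinearMap.congr_fun h.eq l
  simpa [Module.End.mul_apply] using this

/-- `ψ ^ j` is the identity modulo a `ψ`-stable submodule on elements `w` with `ψ w - w ∈ S`. -/
theorem pow_sub_mem (ψ : Module.End ℤ_[p] L) (S W : Submodule ℤ_[p] L) (hS : ∀ s ∈ S, ψ s ∈ S)
    (hW : ∀ w ∈ W, ψ w - w ∈ S) (j : ℕ) {w : L} (hw : w ∈ W) : (ψ ^ j) w - w ∈ S := by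
  induction j with
  | zero => simp
  | succ j ih =>
    rw [pow_succ', Module.End.mul_apply]
    have h1 : ψ ((ψ ^ j) w) - w = ψ ((ψ ^ j) w - w) + (ψ w - w) := by rw [map_sub]; abel
    rw [h1]
    exact S.add_mem (hS _ ih) (hW w hw)

end xlevel

variable (ρ : Representation ℤ_[p] G L)
  (hirr : Cfsg.Agent.Lib.Helper17_LatticeLocal.IsQIrred ρ)
  (x₀ : G) (hx₀ : orderOf x₀ = p) (hsyl : ¬ p ∣ (Subgroup.zpowers x₀).index)
  (K₀ : Subgroup G) (hK₀p : (Nat.card K₀).Coprime p)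
  (hK₀N : K₀ ≤ Subgroup.normalizer (Subgroup.zpowers x₀ : Set G))
  (hNK : ∀ n ∈ Subgroup.normalizer (Subgroup.zpowers x₀ : Set G), ∃ i : ℕ, ∃ k ∈ K₀, n = x₀ ^ i * k)

include hirr hx₀ hsyl hK₀p hK₀N hNK in
/-- **(C⁰).** -/
theorem simple_H0 (W : Submodule ℤ_[p] L) (hW1 : ∀ w ∈ W, ρ x₀ w = w)
    (hW2 : ∀ m, nuE p (ρ x₀) m ∈ W) (hW3 : ∀ k ∈ K₀, ∀ w ∈ W, ρ k w ∈ W) :
    (∀ w ∈ W, ∃ m, w = nuE p (ρ x₀) m) ∨
      ((∀ l, ρ x₀ l = l → l ∈ W) ∧ (∀ l, nuE p (ρ x₀) l = 0 → ∃ m, l = ρ x₀ m - m)) := by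
  classical
  set P : Subgroup G := Subgroup.zpowers x₀ with hPdef
  let _ : Fintype P := Fintype.ofFinite P
  let _ : Fintype (G ⧸ P) := Fintype.ofFinite _
  let _ : Fintype K₀ := Fintype.ofFinite K₀
  have hp0 : 0 < p := hp.out.pos
  have hcard : Fintype.card P = p := by
    rw [← Nat.card_eq_fintype_card]
    exact (Nat.card_zpowers x₀).trans hx₀
  have hsyl' : ¬ p ∣ Fintype.card (G ⧸ P) := by
    rw [← Nat.card_eq_fintype_card, ← Subgroup.index_eq_card]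
    exact hsyl
  have hloc := Cfsg.Agent.Lib.Helper57_CT.localProp_of_isQIrred ρ hirr
  set x := ρ x₀ with hxdef
  have hxp : x ^ p = 1 := by
    have h0 : x₀ ^ p = 1 := by rw [← hx₀]; exact pow_orderOf_eq_one x₀
    rw [hxdef, ← map_pow, h0, map_one]
  -- normalizer facts at the `x`-level
  have hnA : ∀ n ∈ Subgroup.normalizer (P : Set G), InA p x (ρ n) := fun n hn =>
    (inAP_iff ρ x₀ hx₀ hp0 _).mp (inAP_rho_normalizer ρ P hn)
  have hPfix : ∀ h ∈ P, ∀ l, x l = l → ρ h l = l := fun h hh l hl =>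
    (isFix_iff ρ x₀ hx₀ hp0 l).mpr hl h hh
  -- the flag
  set F : Submodule ℤ_[p] L := LinearMap.ker (x - 1) with hF
  have hWF : W ≤ F := fun w hw => (mem_fix x).mpr (hW1 w hw)
  have hpF : ∀ f ∈ F, (p : ℤ_[p]) • f ∈ W := by
    intro f hf
    rw [← nuE_of_fixed x ((mem_fix x).mp hf)]
    exact hW2 f
  set σ : Representation ℤ_[p] K₀ L := ρ.comp K₀.subtype with hσ
  have hσk : ∀ k : K₀, σ k = ρ (k : G) := fun k => rfl
  have hFst : ∀ a : K₀, ∀ f ∈ F, σ a f ∈ F := by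
    intro a f hf
    rw [hσk]
    exact (mem_fix x).mpr ((hnA _ (hK₀N a.2)).1 f ((mem_fix x).mp hf))
  have hWst : ∀ a : K₀, ∀ w ∈ W, σ a w ∈ W := fun a w hw => hW3 a a.2 w hw
  obtain ⟨π, hπc, hπW, hπ1⟩ := exists_equivariant_flag_proj σ hK₀p F W (isPure_fix x) hWF hpF
    hFst hWst
  have hπW' : ∀ w ∈ W, ∃ m, π w - w = nuE p x m := by
    intro w hw
    obtain ⟨f, hf, h⟩ := hπ1 w hw
    exact ⟨f, by rw [h, nuE_of_fixed x ((mem_fix x).mp hf)]⟩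
  obtain ⟨ψ, hψc, hψ1, hψ2⟩ := surj_T x hxp π
    (fun l _ => hW1 _ (hπW l))
    (fun m => by
      obtain ⟨m', hm'⟩ := hπW' _ (hW2 m)
      exact ⟨m' + m, by rw [map_add, ← hm']; abel⟩)
  have hψP : CommP ρ P ψ := (commP_iff ρ x₀ hx₀ hp0 ψ).mpr hψc
  have hψnu : Commute ψ (nuE p x) := Cfsg.Agent.Lib.Helper13_PLocal.commute_nuE x hψc
  -- `ψ` is the identity on `W` modulo norms
  have hψW : ∀ w ∈ W, ψ w - w ∈ LinearMap.range (nuE p x) := by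
    intro w hw
    obtain ⟨m₁, hm₁⟩ := hψ1 w (hW1 w hw)
    obtain ⟨m₂, hm₂⟩ := hπW' w hw
    refine ⟨m₁ + m₂, ?_⟩
    rw [map_add, ← hm₁, ← hm₂]; abel
  have hψrange : ∀ s ∈ LinearMap.range (nuE p x), ψ s ∈ LinearMap.range (nuE p x) := by
    rintro _ ⟨m, rfl⟩
    exact ⟨ψ m, (commute_apply hψnu m).symm⟩
  -- `N`-invariance modulo `𝔎`
  have hN : ∀ n ∈ Subgroup.normalizer (P : Set G), InKP ρ P (cj ρ n ψ - ψ) := by
    intro n hn
    rw [inKP_iff ρ x₀ hx₀ hp0]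
    have hn' : n⁻¹ ∈ Subgroup.normalizer (P : Set G) := Subgroup.inv_mem _ hn
    obtain ⟨i, k, hk, hnk⟩ := hNK n hn
    refine ⟨fun l hl => ?_, fun l hl => ⟨0, ?_⟩⟩
    · -- on fixed vectors
      have hl' : x (ρ n⁻¹ l) = ρ n⁻¹ l := (hnA _ hn').1 l hl
      obtain ⟨m₁, hm₁⟩ := hψ1 _ hl'
      obtain ⟨m₂, hm₂⟩ := hψ1 l hl
      obtain ⟨m₃, hm₃⟩ := (hnA n hn).2.1 m₁
      have hxi : x₀ ^ i ∈ P := Subgroup.pow_mem _ (Subgroup.mem_zpowers x₀) i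
      have h1 : ρ n⁻¹ l = ρ (k⁻¹ : G) l := by
        have : n⁻¹ = k⁻¹ * (x₀ ^ i)⁻¹ := by rw [hnk, mul_inv_rev]
        rw [this, map_mul, Module.End.mul_apply, hPfix _ (Subgroup.inv_mem _ hxi) l hl]
      have h2 : ρ n (π (ρ n⁻¹ l)) = π l := by
        have hc := commute_apply (hπc (⟨k, hk⟩⁻¹ : K₀)) l
        rw [hσk] at hc
        have hc' : π (ρ (k⁻¹ : G) l) = ρ (k⁻¹ : G) (π l) := hc
        rw [h1, hc', hnk, map_mul, Module.End.mul_apply, ← Module.End.mul_apply (ρ k),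
          ← map_mul, mul_inv_cancel, map_one, Module.End.one_apply]
        exact hPfix _ hxi _ (hW1 _ (hπW l))
      refine ⟨m₃ - m₂, ?_⟩
      rw [LinearMap.sub_apply, cj_apply]
      have h3 : ψ (ρ n⁻¹ l) = π (ρ n⁻¹ l) + nuE p x m₁ := by rw [← hm₁]; abel
      have h4 : ψ l = π l + nuE p x m₂ := by rw [← hm₂]; abel
      rw [h3, h4, map_add, h2, hm₃, map_sub]
      abel
    · -- on `ker ν`
      have hl' : nuE p x (ρ n⁻¹ l) = 0 := (hnA _ hn').2.2.1 l hl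
      rw [LinearMap.sub_apply, cj_apply, hψ2 _ hl', hψ2 l hl, map_zero, map_zero]
  rcases n_dich ρ P hloc hcard hsyl' hψP hN with ⟨φ', hφ', h⟩ | ⟨k, hk⟩
  · right
    rw [inKP_iff ρ x₀ hx₀ hp0] at h
    have hφc : Commute φ' x := (commP_iff ρ x₀ hx₀ hp0 φ').mp hφ'
    have hφnu : Commute φ' (nuE p x) := Cfsg.Agent.Lib.Helper13_PLocal.commute_nuE x hφc
    refine ⟨fun l hl => ?_, fun l hl => ?_⟩
    · obtain ⟨m, hm⟩ := h.1 l hl
      simp only [LinearMap.sub_apply, Module.End.mul_apply, Module.End.one_apply] at hm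
      have hfix : x (φ' l) = φ' l := by rw [← commute_apply hφc l, hl]
      obtain ⟨m₁, hm₁⟩ := hψ1 _ hfix
      have h1 : l = π (φ' l) + nuE p x m₁ - nuE p x m := by
        rw [← hm, ← hm₁]; abel
      rw [h1]
      exact W.sub_mem (W.add_mem (hπW _) (hW2 _)) (hW2 _)
    · obtain ⟨m, hm⟩ := h.2 l hl
      simp only [LinearMap.sub_apply, Module.End.mul_apply, Module.End.one_apply] at hm
      have hker : nuE p x (φ' l) = 0 := by rw [← commute_apply hφnu l, hl, map_zero]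
      rw [hψ2 _ hker, zero_sub] at hm
      refine ⟨-m, ?_⟩
      have h5 : l = -(x m - m) := by rw [← hm, neg_neg]
      rw [map_neg, h5]
      abel
  · left
    rw [inKP_iff ρ x₀ hx₀ hp0] at hk
    intro w hw
    obtain ⟨m, hm⟩ := hk.1 w (hW1 w hw)
    obtain ⟨m', hm'⟩ := pow_sub_mem ψ (LinearMap.range (nuE p x)) W hψrange hψW k hw
    refine ⟨m - m', ?_⟩
    rw [map_sub, hm', ← hm]; abel

include hirr hx₀ hsyl hK₀p hK₀N hNK in
/-- **(C⁻¹).** -/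
theorem simple_H1 (W : Submodule ℤ_[p] L) (hW1 : ∀ w ∈ W, nuE p (ρ x₀) w = 0)
    (hW2 : ∀ m, ρ x₀ m - m ∈ W) (hW3 : ∀ k ∈ K₀, ∀ w ∈ W, ρ k w ∈ W) :
    (∀ w ∈ W, ∃ m, w = ρ x₀ m - m) ∨
      ((∀ l, nuE p (ρ x₀) l = 0 → l ∈ W) ∧ (∀ l, ρ x₀ l = l → ∃ m, l = nuE p (ρ x₀) m)) := by
  classical
  set P : Subgroup G := Subgroup.zpowers x₀ with hPdef
  let _ : Fintype P := Fintype.ofFinite P
  let _ : Fintype (G ⧸ P) := Fintype.ofFinite _
  let _ : Fintype K₀ := Fintype.ofFinite K₀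
  have hp0 : 0 < p := hp.out.pos
  have hcard : Fintype.card P = p := by
    rw [← Nat.card_eq_fintype_card]
    exact (Nat.card_zpowers x₀).trans hx₀
  have hsyl' : ¬ p ∣ Fintype.card (G ⧸ P) := by
    rw [← Nat.card_eq_fintype_card, ← Subgroup.index_eq_card]
    exact hsyl
  have hloc := Cfsg.Agent.Lib.Helper57_CT.localProp_of_isQIrred ρ hirr
  set x := ρ x₀ with hxdef
  have hxp : x ^ p = 1 := by
    have h0 : x₀ ^ p = 1 := by rw [← hx₀]; exact pow_orderOf_eq_one x₀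
    rw [hxdef, ← map_pow, h0, map_one]
  have hnA : ∀ n ∈ Subgroup.normalizer (P : Set G), InA p x (ρ n) := fun n hn =>
    (inAP_iff ρ x₀ hx₀ hp0 _).mp (inAP_rho_normalizer ρ P hn)
  -- `ρ h y - y ∈ range (x - 1)` for `h ∈ P`
  have hPaug : ∀ h ∈ P, ∀ y : L, ∃ m, ρ h y - y = x m - m := fun h hh y =>
    (mem_augS_iff ρ x₀ hx₀ hp0 _).mp (sub_mem_augS ρ P hh y)
  -- the flag
  set K : Submodule ℤ_[p] L := LinearMap.ker (nuE p x) with hK
  have hWK : W ≤ K := fun w hw => LinearMap.mem_ker.mpr (hW1 w hw)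
  have hpK' : ∀ f ∈ K, ∃ m, (p : ℤ_[p]) • f = x m - m := by
    intro f hf
    have h1 := card_smul_sub_nuP_mem ρ P f
    rw [hcard, nuP_eq_nuE ρ x₀ hx₀ hp0, LinearMap.mem_ker.mp hf, sub_zero] at h1
    exact (mem_augS_iff ρ x₀ hx₀ hp0 _).mp h1
  have hpK : ∀ f ∈ K, (p : ℤ_[p]) • f ∈ W := by
    intro f hf
    obtain ⟨m, hm⟩ := hpK' f hf
    rw [hm]
    exact hW2 m
  set σ : Representation ℤ_[p] K₀ L := ρ.comp K₀.subtype with hσ
  have hσk : ∀ k : K₀, σ k = ρ (k : G) := fun k => rfl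
  have hKst : ∀ a : K₀, ∀ f ∈ K, σ a f ∈ K := by
    intro a f hf
    rw [hσk]
    exact LinearMap.mem_ker.mpr ((hnA _ (hK₀N a.2)).2.2.1 f (LinearMap.mem_ker.mp hf))
  have hWst : ∀ a : K₀, ∀ w ∈ W, σ a w ∈ W := fun a w hw => hW3 a a.2 w hw
  obtain ⟨π, hπc, hπW, hπ1⟩ := exists_equivariant_flag_proj σ hK₀p K W (isPure_kerNu x) hWK hpK
    hKst hWst
  have hπW' : ∀ w ∈ W, ∃ m, π w - w = x m - m := by
    intro w hw
    obtain ⟨f, hf, h⟩ := hπ1 w hw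
    obtain ⟨m, hm⟩ := hpK' f hf
    exact ⟨m, by rw [h, hm]⟩
  have hπaug : ∀ m, ∃ m', π (x m - m) = x m' - m' := by
    intro m
    obtain ⟨m', hm'⟩ := hπW' _ (hW2 m)
    exact ⟨m' + m, by rw [map_add]; rw [sub_eq_iff_eq_add] at hm'; rw [hm']; abel⟩
  obtain ⟨ψ, hψc, hψ1, hψ2⟩ := surj_Y x hxp π
    (fun l _ => hW1 _ (hπW l)) hπaug
  have hψP : CommP ρ P ψ := (commP_iff ρ x₀ hx₀ hp0 ψ).mpr hψc
  have hψW : ∀ w ∈ W, ψ w - w ∈ LinearMap.range (x - 1) := by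
    intro w hw
    obtain ⟨m₁, hm₁⟩ := hψ2 w (hW1 w hw)
    obtain ⟨m₂, hm₂⟩ := hπW' w hw
    refine ⟨m₁ + m₂, ?_⟩
    simp only [LinearMap.sub_apply, Module.End.one_apply, map_add]
    have : ψ w - w = (ψ w - π w) + (π w - w) := by abel
    rw [this, hm₁, hm₂]
  have hψrange : ∀ s ∈ LinearMap.range (x - 1), ψ s ∈ LinearMap.range (x - 1) := by
    rintro _ ⟨m, rfl⟩
    refine ⟨ψ m, ?_⟩
    simp only [LinearMap.sub_apply, Module.End.one_apply, map_sub]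
    rw [commute_apply hψc m]
  have hN : ∀ n ∈ Subgroup.normalizer (P : Set G), InKP ρ P (cj ρ n ψ - ψ) := by
    intro n hn
    rw [inKP_iff ρ x₀ hx₀ hp0]
    have hn' : n⁻¹ ∈ Subgroup.normalizer (P : Set G) := Subgroup.inv_mem _ hn
    obtain ⟨i, k, hk, hnk⟩ := hNK n hn
    refine ⟨fun l hl => ?_, fun l hl => ?_⟩
    · have hl' : x (ρ n⁻¹ l) = ρ n⁻¹ l := (hnA _ hn').1 l hl
      obtain ⟨m₁, hm₁⟩ := hψ1 _ hl'
      obtain ⟨m₂, hm₂⟩ := hψ1 l hl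
      obtain ⟨m₃, hm₃⟩ := (hnA n hn).2.1 m₁
      refine ⟨m₃ - m₂, ?_⟩
      rw [LinearMap.sub_apply, cj_apply, hm₁, hm₂, hm₃, map_sub]
    · have hxi : x₀ ^ i ∈ P := Subgroup.pow_mem _ (Subgroup.mem_zpowers x₀) i
      have hl' : nuE p x (ρ n⁻¹ l) = 0 := (hnA _ hn').2.2.1 l hl
      obtain ⟨m₁, hm₁⟩ := hψ2 _ hl'
      obtain ⟨m₂, hm₂⟩ := hψ2 l hl
      obtain ⟨m₃, hm₃⟩ := (hnA n hn).2.2.2 m₁
      -- `l'' = ρ (x₀^i)⁻¹ l = l + (x m₄ - m₄)`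
      obtain ⟨m₄, hm₄⟩ := hPaug _ (Subgroup.inv_mem _ hxi) l
      obtain ⟨m₆, hm₆⟩ := hπaug m₄
      obtain ⟨m₅, hm₅⟩ := hPaug _ hxi (π (ρ ((x₀ ^ i)⁻¹ : G) l))
      have h1 : ρ n⁻¹ l = ρ (k⁻¹ : G) (ρ ((x₀ ^ i)⁻¹ : G) l) := by
        have : n⁻¹ = k⁻¹ * (x₀ ^ i)⁻¹ := by rw [hnk, mul_inv_rev]
        rw [this, map_mul, Module.End.mul_apply]
      have h2 : ρ n (π (ρ n⁻¹ l)) = ρ (x₀ ^ i) (π (ρ ((x₀ ^ i)⁻¹ : G) l)) := by
        have hc := commute_apply (hπc (⟨k, hk⟩⁻¹ : K₀)) (ρ ((x₀ ^ i)⁻¹ : G) l)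
        rw [hσk] at hc
        have hc' : π (ρ (k⁻¹ : G) (ρ ((x₀ ^ i)⁻¹ : G) l)) =
            ρ (k⁻¹ : G) (π (ρ ((x₀ ^ i)⁻¹ : G) l)) := hc
        rw [h1, hc', hnk, map_mul, Module.End.mul_apply, ← Module.End.mul_apply (ρ k),
          ← map_mul, mul_inv_cancel, map_one, Module.End.one_apply]
      have h3 : π (ρ ((x₀ ^ i)⁻¹ : G) l) = π l + (x m₆ - m₆) := by
        have : ρ ((x₀ ^ i)⁻¹ : G) l = l + (x m₄ - m₄) := by rw [← hm₄]; abel
        rw [this, map_add, hm₆]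
      refine ⟨m₆ + m₅ + m₃ - m₂, ?_⟩
      rw [LinearMap.sub_apply, cj_apply]
      have h4 : ψ (ρ n⁻¹ l) = π (ρ n⁻¹ l) + (x m₁ - m₁) := by rw [← hm₁]; abel
      have h5 : ψ l = π l + (x m₂ - m₂) := by rw [← hm₂]; abel
      have h6 : ρ (x₀ ^ i) (π (ρ ((x₀ ^ i)⁻¹ : G) l)) =
          π (ρ ((x₀ ^ i)⁻¹ : G) l) + (x m₅ - m₅) := by rw [← hm₅]; abel
      rw [h4, h5, map_add, h2, hm₃, h6, h3]
      simp only [map_add, map_sub]
      abel
  rcases n_dich ρ P hloc hcard hsyl' hψP hN with ⟨φ', hφ', h⟩ | ⟨k, hk⟩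
  · right
    rw [inKP_iff ρ x₀ hx₀ hp0] at h
    have hφc : Commute φ' x := (commP_iff ρ x₀ hx₀ hp0 φ').mp hφ'
    have hφnu : Commute φ' (nuE p x) := Cfsg.Agent.Lib.Helper13_PLocal.commute_nuE x hφc
    refine ⟨fun l hl => ?_, fun l hl => ?_⟩
    · obtain ⟨m, hm⟩ := h.2 l hl
      simp only [LinearMap.sub_apply, Module.End.mul_apply, Module.End.one_apply] at hm
      have hker : nuE p x (φ' l) = 0 := by rw [← commute_apply hφnu l, hl, map_zero]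
      obtain ⟨m₁, hm₁⟩ := hψ2 _ hker
      have h1 : l = π (φ' l) + (x m₁ - m₁) - (x m - m) := by
        rw [← hm, ← hm₁]; abel
      rw [h1]
      exact W.sub_mem (W.add_mem (hπW _) (hW2 _)) (hW2 _)
    · obtain ⟨m, hm⟩ := h.1 l hl
      simp only [LinearMap.sub_apply, Module.End.mul_apply, Module.End.one_apply] at hm
      have hfix : x (φ' l) = φ' l := by rw [← commute_apply hφc l, hl]
      obtain ⟨m₁, hm₁⟩ := hψ1 _ hfix
      refine ⟨m₁ - m, ?_⟩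
      rw [map_sub, ← hm, ← hm₁]; abel
  · left
    rw [inKP_iff ρ x₀ hx₀ hp0] at hk
    intro w hw
    obtain ⟨m, hm⟩ := hk.2 w (hW1 w hw)
    obtain ⟨m', hm'⟩ := pow_sub_mem ψ (LinearMap.range (x - 1)) W hψrange hψW k hw
    simp only [LinearMap.sub_apply, Module.End.one_apply] at hm'
    refine ⟨m - m', ?_⟩
    rw [map_sub]
    have : w = (ψ ^ k) w - ((ψ ^ k) w - w) := by abel
    rw [this, ← hm', hm]; abel

end Cfsg.Agent.Lib.Helper57_GenC
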