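import Mathlib
import Cfsg.Agent.Lib.Helper57_LatDefs
import Cfsg.Agent.Lib.Helper57_GenLin
import Cfsg.Agent.Lib.Helper17_LatChar
import Cfsg.Agent.Lib.Helper17_LatticeLocal

/-!
# Package GA2 of helper57's general defect-one project (helper63)

`exists_qirred_summand`: for a group `A` of order prime to `p` acting on a `ℤ_p`-lattice `X`,
stable `B ≤ F` with `F` pure, `pF ≤ B` and `F/B` simple, there is a stable pure `ℚ_p`-irreducible
`M ≤ F` with `F ≤ M + B` and `M ∩ B ≤ pM`.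
-/

set_option autoImplicit false

namespace Cfsg.Agent.Lib.Helper63_GenA2

open Cfsg Cfsg.Agent.Lib.Helper57_LatDefs Cfsg.Agent.Lib.Helper57_GenLin
  Cfsg.Agent.Lib.Helper17_LatChar

universe u

variable {p : ℕ} [hp : Fact p.Prime]

section sat

variable {X : Type*} [AddCommGroup X] [Module ℤ_[p] X]

/-- The `p`-saturation of a submodule. -/
def sat (M₁ : Submodule ℤ_[p] X) : Submodule ℤ_[p] X where
  carrier := {l | ∃ n : ℕ, ((p : ℤ_[p]) ^ n) • l ∈ M₁}
  zero_mem' := ⟨0, by simp⟩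
  add_mem' := by
    rintro a b ⟨n₁, h₁⟩ ⟨n₂, h₂⟩
    refine ⟨n₁ + n₂, ?_⟩
    rw [smul_add]
    refine M₁.add_mem ?_ ?_
    · rw [pow_add, mul_comm, mul_smul]; exact M₁.smul_mem _ h₁
    · rw [pow_add, mul_smul]; exact M₁.smul_mem _ h₂
  smul_mem' := by
    rintro c a ⟨n, h⟩
    refine ⟨n, ?_⟩
    rw [smul_comm]; exact M₁.smul_mem _ h

theorem mem_sat (M₁ : Submodule ℤ_[p] X) (l : X) :
    l ∈ sat M₁ ↔ ∃ n : ℕ, ((p : ℤ_[p]) ^ n) • l ∈ M₁ := Iff.rfl

theorem le_sat (M₁ : Submodule ℤ_[p] X) : M₁ ≤ sat M₁ :=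
  fun l hl => ⟨0, by simpa using hl⟩

theorem isPure_sat (M₁ : Submodule ℤ_[p] X) : IsPure (sat M₁) := by
  rintro l ⟨n, h⟩
  refine ⟨n + 1, ?_⟩
  rw [pow_succ, mul_smul]
  exact h

theorem sat_le {M₁ M : Submodule ℤ_[p] X} (hle : M₁ ≤ M) (hM : IsPure M) : sat M₁ ≤ M := by
  rintro l ⟨n, h⟩
  exact hM.pow_smul_mem n (hle h)

theorem sat_stable {M₁ : Submodule ℤ_[p] X} (f : X →ₗ[ℤ_[p]] X) (hf : ∀ l ∈ M₁, f l ∈ M₁) :
    ∀ l ∈ sat M₁, f l ∈ sat M₁ := by
  rintro l ⟨n, h⟩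
  refine ⟨n, ?_⟩
  rw [← map_smul]
  exact hf _ h

theorem exists_pow_smul_mem [Module.Finite ℤ_[p] X] (M₁ : Submodule ℤ_[p] X) :
    ∃ N : ℕ, ∀ l ∈ sat M₁, ((p : ℤ_[p]) ^ N) • l ∈ M₁ := by
  classical
  have hfg : (sat M₁).FG := IsNoetherian.noetherian (sat M₁)
  obtain ⟨s, hs⟩ := hfg
  have h1 : ∀ x : X, ∃ n : ℕ, x ∈ s → ((p : ℤ_[p]) ^ n) • x ∈ M₁ := by
    intro x
    by_cases hx : x ∈ s
    · have : x ∈ sat M₁ := by rw [← hs]; exact Submodule.subset_span hx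
      obtain ⟨n, hn⟩ := this
      exact ⟨n, fun _ => hn⟩
    · exact ⟨0, fun h => absurd h hx⟩
  choose n hn using h1
  refine ⟨s.sup n, fun l hl => ?_⟩
  rw [← hs] at hl
  induction hl using Submodule.span_induction with
  | mem x hx =>
    have hle : n x ≤ s.sup n := Finset.le_sup hx
    obtain ⟨d, hd⟩ := Nat.exists_eq_add_of_le hle
    rw [hd, pow_add, mul_comm, mul_smul]
    exact M₁.smul_mem _ (hn x hx)
  | zero => simp
  | add x y _ _ hx hy => rw [smul_add]; exact M₁.add_mem hx hy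
  | smul a x _ hx => rw [smul_comm]; exact M₁.smul_mem _ hx

theorem finrank_sat_le [Module.Free ℤ_[p] X] [Module.Finite ℤ_[p] X] (M₁ : Submodule ℤ_[p] X) :
    Module.finrank ℤ_[p] (sat M₁) ≤ Module.finrank ℤ_[p] M₁ := by
  obtain ⟨N, hN⟩ := exists_pow_smul_mem M₁
  let g : sat M₁ →ₗ[ℤ_[p]] M₁ :=
    LinearMap.codRestrict M₁ (((p : ℤ_[p]) ^ N) • (sat M₁).subtype) (fun l => hN l l.2)
  have hg : Function.Injective g := by
    intro a b hab
    have h1 : ((p : ℤ_[p]) ^ N) • (a : X) = ((p : ℤ_[p]) ^ N) • (b : X) := by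
      have := congrArg (fun z : M₁ => (z : X)) hab
      exact this
    have h2 : ((p : ℤ_[p]) ^ N) • ((a : X) - (b : X)) = 0 := by rw [smul_sub, h1, sub_self]
    rcases smul_eq_zero.mp h2 with h3 | h3
    · exact absurd h3 (pow_ne_zero _ Cfsg.Agent.Lib.Helper3_DR.p_ne_zero)
    · exact Subtype.ext (sub_eq_zero.mp h3)
  exact LinearMap.finrank_le_finrank_of_injective hg

end sat

/-- **Package GA2.** -/
theorem exists_qirred_summand {A : Type*} [Group A] [Finite A] (hA : (Nat.card A).Coprime p)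
    {X : Type*} [AddCommGroup X] [Module ℤ_[p] X] [Module.Free ℤ_[p] X] [Module.Finite ℤ_[p] X]
    (σ : Representation ℤ_[p] A X) (F B : Submodule ℤ_[p] X) (hFpure : IsPure F) (hBF : B ≤ F)
    (hFst : ∀ a, ∀ f ∈ F, σ a f ∈ F) (hBst : ∀ a, ∀ b ∈ B, σ a b ∈ B)
    (hpF : ∀ f ∈ F, (p : ℤ_[p]) • f ∈ B) (hne : ¬ F ≤ B)
    (hsimple : ∀ W : Submodule ℤ_[p] X, B ≤ W → W ≤ F → (∀ a, ∀ w ∈ W, σ a w ∈ W) →
      W ≤ B ∨ F ≤ W) :
    ∃ (M : Submodule ℤ_[p] X) (hM : ∀ a, M.map (σ a) ≤ M), M ≤ F ∧ IsPure M ∧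
      IsQIrred (subRep σ M hM) ∧ F ≤ M ⊔ B ∧
      ∀ m ∈ M, m ∈ B → ∃ m' ∈ M, m = (p : ℤ_[p]) • m' := by
  classical
  have : Fintype A := Fintype.ofFinite A
  -- a member of minimal rank of the family of pure stable submodules of `F` not inside `B`
  let P : Submodule ℤ_[p] X → Prop := fun M =>
    IsPure M ∧ (∀ a, ∀ m ∈ M, σ a m ∈ M) ∧ M ≤ F ∧ ¬ M ≤ B
  have hex : ∃ n, ∃ M, P M ∧ Module.finrank ℤ_[p] M = n :=
    ⟨_, F, ⟨hFpure, hFst, le_rfl, hne⟩, rfl⟩
  obtain ⟨M, hPM, hMn⟩ := Nat.find_spec hex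
  have hmin : ∀ M', P M' → Module.finrank ℤ_[p] M ≤ Module.finrank ℤ_[p] M' := by
    intro M' hM'
    rw [hMn]
    exact Nat.find_min' hex ⟨M', hM', rfl⟩
  obtain ⟨hMpure, hMst, hMF, hMB⟩ := hPM
  have hM : ∀ a, M.map (σ a) ≤ M := by
    rintro a _ ⟨m, hm, rfl⟩
    exact hMst a m hm
  -- `M` is `ℚ_p`-irreducible
  have hirr : IsQIrred (subRep σ M hM) := by
    intro L₁ hL₁
    by_contra hcon
    rw [not_or] at hcon
    obtain ⟨hL₁ne, hL₁rk⟩ := hcon
    have hlt : Module.finrank ℤ_[p] L₁ < Module.finrank ℤ_[p] M :=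
      lt_of_le_of_ne (Submodule.finrank_le L₁) hL₁rk
    set M₁ : Submodule ℤ_[p] X := L₁.map M.subtype with hM₁
    have hM₁rk : Module.finrank ℤ_[p] M₁ = Module.finrank ℤ_[p] L₁ :=
      Submodule.finrank_map_subtype_eq M L₁
    have hM₁M : M₁ ≤ M := by
      rintro _ ⟨l, _, rfl⟩
      exact l.2
    have hM₁st : ∀ a, ∀ l ∈ M₁, σ a l ∈ M₁ := by
      rintro a _ ⟨l, hl, rfl⟩
      exact ⟨subRep σ M hM a l, hL₁ a (Submodule.mem_map_of_mem hl), rfl⟩
    have hM₁ne : M₁ ≠ ⊥ := by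
      intro h
      apply hL₁ne
      rw [eq_bot_iff]
      intro l hl
      have h1 : (l : X) ∈ M₁ := ⟨l, hl, rfl⟩
      rw [h, Submodule.mem_bot] at h1
      rw [Submodule.mem_bot]
      exact Subtype.ext h1
    set S := sat M₁ with hS
    have hSpure : IsPure S := isPure_sat M₁
    have hSM : S ≤ M := sat_le hM₁M hMpure
    have hSst : ∀ a, ∀ l ∈ S, σ a l ∈ S := fun a => sat_stable (σ a) (hM₁st a)
    have hSrk : Module.finrank ℤ_[p] S < Module.finrank ℤ_[p] M :=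
      lt_of_le_of_lt ((finrank_sat_le M₁).trans_eq hM₁rk) hlt
    have hSne : S ≠ ⊥ := by
      intro h
      apply hM₁ne
      rw [eq_bot_iff, ← h]
      exact le_sat M₁
    have hSB : S ≤ B := by
      by_contra h
      exact absurd (hmin S ⟨hSpure, hSst, hSM.trans hMF, h⟩) (not_le.mpr hSrk)
    obtain ⟨r, hrc, hrS, hrid⟩ := exists_equivariant_retract σ hA S hSpure hSst
    set T : Submodule ℤ_[p] X := M ⊓ LinearMap.ker r with hT
    have hTpure : IsPure T := by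
      intro l hl
      refine ⟨hMpure l hl.1, ?_⟩
      have h1 : r ((p : ℤ_[p]) • l) = 0 := hl.2
      rw [map_smul] at h1
      rcases smul_eq_zero.mp h1 with h | h
      · exact absurd h Cfsg.Agent.Lib.Helper3_DR.p_ne_zero
      · exact h
    have hTst : ∀ a, ∀ l ∈ T, σ a l ∈ T := by
      intro a l hl
      refine ⟨hMst a l hl.1, ?_⟩
      show r (σ a l) = 0
      have h2 : r (σ a l) = σ a (r l) :=
        congrArg (fun f : Module.End ℤ_[p] X => f l) (hrc a).eq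
      rw [h2, show r l = 0 from hl.2, map_zero]
    have hrank : Module.finrank ℤ_[p] S + Module.finrank ℤ_[p] T = Module.finrank ℤ_[p] M := by
      let f : M →ₗ[ℤ_[p]] X := r.domRestrict M
      have h1 := (LinearMap.ker f).finrank_quotient_add_finrank
      rw [LinearEquiv.finrank_eq f.quotKerEquivRange] at h1
      have h2 : LinearMap.range f = S := by
        apply le_antisymm
        · rintro _ ⟨m, rfl⟩
          exact hrS _
        · intro s hs
          exact ⟨⟨s, hSM hs⟩, hrid s hs⟩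
      have h3 : (LinearMap.ker f).map M.subtype = T := by
        ext x
        constructor
        · rintro ⟨m, hm, rfl⟩
          exact ⟨m.2, hm⟩
        · rintro ⟨hxM, hx⟩
          exact ⟨⟨x, hxM⟩, hx, rfl⟩
      rw [← h2, ← h3, Submodule.finrank_map_subtype_eq]
      exact h1
    have hSpos : 0 < Module.finrank ℤ_[p] S := by
      rw [Nat.pos_iff_ne_zero]
      intro h
      exact hSne (Submodule.finrank_eq_zero.mp h)
    have hTrk : Module.finrank ℤ_[p] T < Module.finrank ℤ_[p] M := by omega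
    have hTB : T ≤ B := by
      by_contra h
      exact absurd (hmin T ⟨hTpure, hTst, inf_le_left.trans hMF, h⟩) (not_le.mpr hTrk)
    apply hMB
    intro m hm
    have h1 : m = r m + (m - r m) := by abel
    rw [h1]
    refine B.add_mem (hSB (hrS m)) (hTB ⟨M.sub_mem hm (hSM (hrS m)), ?_⟩)
    show r (m - r m) = 0
    rw [map_sub, hrid _ (hrS m), sub_self]
  refine ⟨M, hM, hMF, hMpure, hirr, ?_, ?_⟩
  · -- `F ≤ M ⊔ B`
    have hst : ∀ a, ∀ w ∈ M ⊔ B, σ a w ∈ M ⊔ B := by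
      intro a w hw
      obtain ⟨m, hm, b, hb, rfl⟩ := Submodule.mem_sup.mp hw
      rw [map_add]
      exact Submodule.add_mem _ (Submodule.mem_sup_left (hMst a m hm))
        (Submodule.mem_sup_right (hBst a b hb))
    rcases hsimple (M ⊔ B) le_sup_right (sup_le hMF hBF) hst with h | h
    · exact absurd (le_sup_left.trans h) hMB
    · exact h
  · -- `M ⊓ B ≤ pM`
    set ρ : Representation ℤ_[p] A M := subRep σ M hM with hρ
    let W : Submodule ℤ_[p] M := B.comap M.subtype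
    have hWst : ∀ a : A, ∀ w ∈ W, ρ a w ∈ W := fun a w hw => hBst a _ hw
    have hpW : ∀ f : M, (p : ℤ_[p]) • f ∈ W := fun f => hpF _ (hMF f.2)
    obtain ⟨π, hπc, hπW, hπid⟩ := exists_equivariant_flag_proj ρ hA (⊤ : Submodule ℤ_[p] M) W
      (fun _ _ => trivial) le_top (fun f _ => hpW f) (fun _ _ _ => trivial) hWst
    have hcomm : Cfsg.Agent.Lib.Helper17_LatticeLocal.Comm ρ π := fun g => (hπc g).eq
    rcases Cfsg.Agent.Lib.Helper17_LatticeLocal.unit_or_nilpotent_mod_p ρ hirr π hcomm with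
      ⟨e', f, _, _, he⟩ | ⟨k, f, _, hk⟩
    · exfalso
      apply hMB
      intro m hm
      have h1 := congrArg (fun g : Module.End ℤ_[p] M => g ⟨m, hm⟩) he
      simp only [Module.End.mul_apply, LinearMap.add_apply, Module.End.one_apply,
        LinearMap.smul_apply] at h1
      have h2 : (⟨m, hm⟩ : M) ∈ W := by
        have h3 : (⟨m, hm⟩ : M) = π (e' ⟨m, hm⟩) - (p : ℤ_[p]) • f ⟨m, hm⟩ := by
          rw [h1]; abel
        rw [h3]
        exact W.sub_mem (hπW _) (hpW _)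
      exact h2
    · intro m hm hmB
      have hw : (⟨m, hm⟩ : M) ∈ W := hmB
      have hind : ∀ j : ℕ, ∃ z : M, (π ^ j) ⟨m, hm⟩ - ⟨m, hm⟩ = (p : ℤ_[p]) • z := by
        intro j
        induction j with
        | zero => exact ⟨0, by simp⟩
        | succ j ih =>
          obtain ⟨z, hz⟩ := ih
          obtain ⟨f', _, hf'⟩ := hπid _ hw
          refine ⟨π z + f', ?_⟩
          rw [pow_succ', Module.End.mul_apply]
          have h4 : (π ^ j) ⟨m, hm⟩ = (p : ℤ_[p]) • z + ⟨m, hm⟩ := by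
            rw [← hz]; abel
          rw [h4, map_add, map_smul, smul_add, ← hf']
          abel
      obtain ⟨z, hz⟩ := hind k
      rw [hk, LinearMap.smul_apply] at hz
      refine ⟨((f ⟨m, hm⟩ - z : M) : X), (f ⟨m, hm⟩ - z).2, ?_⟩
      have h5 : (⟨m, hm⟩ : M) = (p : ℤ_[p]) • (f ⟨m, hm⟩ - z) := by
        rw [smul_sub, ← hz]; abel
      exact congrArg Subtype.val h5

end Cfsg.Agent.Lib.Helper63_GenA2
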