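import Mathlib
import Cfsg.Agent.Lib.Helper57_LatDefs
import Cfsg.Agent.Lib.Helper57_LatTr
import Cfsg.Agent.Lib.Helper57_LatLocal
import Cfsg.Agent.Lib.Helper57_GenLin
import Cfsg.Agent.Lib.Helper57_GenC
import Cfsg.Agent.Lib.Helper17_LatChar
import Cfsg.Agent.Lib.Helper50_GenT2
import Cfsg.Agent.Lib.Helper63_GenA2

/-!
# Splitting off the fixed-point summand (helper57)

General defect-one project, step (SPLIT0).  `N = ⟨x₀⟩ K₀` with `⟨x₀⟩` normal of order `p` and `K₀` a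
`p'`-group, `X` an `N`-lattice with `H^{-1} = 0` and `H^0` a nonzero simple `K₀`-module.  Then
`X = M ⊕ R` as `N`-lattices with `M ≤ X^P` `ℚ_p`-irreducible and `R` free over `ℤ_p[P]`; hence
`tr (x₀^i v | X) = tr (v | M)` for `p`-regular `v` centralizing `x₀`.
-/

set_option autoImplicit false
set_option linter.unusedSectionVars false

namespace Cfsg.Agent.Lib.Helper57_GenSplit

open Finset Cfsg.Agent.Lib.Helper57_LatDefs Cfsg.Agent.Lib.Helper57_LatTr
  Cfsg.Agent.Lib.Helper57_LatLocal Cfsg.Agent.Lib.Helper57_GenLin Cfsg.Agent.Lib.Helper57_GenC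
  Cfsg.Agent.Lib.Helper17_LatChar

variable {p : ℕ} [hp : Fact p.Prime]
variable {X : Type*} [AddCommGroup X] [Module ℤ_[p] X] [Module.Free ℤ_[p] X] [Module.Finite ℤ_[p] X]

theorem smul_p_cancel {a b : X} (h : (p : ℤ_[p]) • a = (p : ℤ_[p]) • b) : a = b := by
  have h3 : (p : ℤ_[p]) • (a - b) = 0 := by rw [smul_sub, h, sub_self]
  rcases smul_eq_zero.mp h3 with h4 | h4
  · exact absurd h4 Cfsg.Agent.Lib.Helper3_DR.p_ne_zero
  · exact sub_eq_zero.mp h4

/-- **B3.** A `P`-equivariant retraction onto a fixed sublattice which is a direct summand of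
`H^0`, when `H^{-1} = 0`. -/
theorem exists_p_retraction (x : Module.End ℤ_[p] X) (hx : x ^ p = 1) (M : Submodule ℤ_[p] X)
    (hMfix : ∀ m ∈ M, x m = m)
    (hMB : ∀ m ∈ M, (∃ y, m = nuE p x y) → ∃ m' ∈ M, m = (p : ℤ_[p]) • m')
    (hH1 : ∀ l, nuE p x l = 0 → ∃ y, l = x y - y) :
    ∃ r : Module.End ℤ_[p] X, (∀ l, r l ∈ M) ∧ (∀ m ∈ M, r m = m) ∧ ∀ y, r (x y - y) = 0 := by
  set Rg : Submodule ℤ_[p] X := LinearMap.range (x - 1) with hRg
  have hmemRg : ∀ z, z ∈ Rg ↔ ∃ y, z = x y - y := by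
    intro z
    rw [hRg, LinearMap.mem_range]
    constructor
    · rintro ⟨y, rfl⟩
      exact ⟨y, by simp⟩
    · rintro ⟨y, rfl⟩
      exact ⟨y, by simp⟩
  have hdisj : ∀ m ∈ M, m ∈ Rg → m = 0 := by
    intro m hm hmR
    obtain ⟨y, rfl⟩ := (hmemRg m).mp hmR
    have h1 := nuE_of_fixed x (hMfix _ hm)
    rw [nuE_x_sub x hx] at h1
    rcases smul_eq_zero.mp h1.symm with h | h
    · exact absurd h Cfsg.Agent.Lib.Helper3_DR.p_ne_zero
    · exact h
  set S : Submodule ℤ_[p] X := M ⊔ Rg with hS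
  have hpure : IsPure S := by
    intro l hl
    obtain ⟨m, hm, z, hz, hmz⟩ := Submodule.mem_sup.mp hl
    obtain ⟨y, rfl⟩ := (hmemRg z).mp hz
    have h1 : nuE p x l = m := by
      apply smul_p_cancel (p := p)
      rw [← map_smul, ← hmz, map_add, nuE_x_sub x hx, add_zero, nuE_of_fixed x (hMfix m hm)]
    obtain ⟨m', hm', hmm'⟩ := hMB m hm ⟨l, h1.symm⟩
    have h2 : nuE p x (l - m') = 0 := by
      have h3 : (p : ℤ_[p]) • (l - m') = x y - y := by
        rw [smul_sub, ← hmz, ← hmm']; abel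
      have h4 : (p : ℤ_[p]) • nuE p x (l - m') = (p : ℤ_[p]) • (0 : X) := by
        rw [← map_smul, h3, nuE_x_sub x hx, smul_zero]
      exact smul_p_cancel (p := p) h4
    obtain ⟨y', hy'⟩ := hH1 _ h2
    have h5 : l = m' + (x y' - y') := by rw [← hy']; abel
    rw [h5]
    exact Submodule.add_mem _ (Submodule.mem_sup_left hm')
      (Submodule.mem_sup_right ((hmemRg _).mpr ⟨y', rfl⟩))
  obtain ⟨r₁, hr₁S, hr₁id⟩ := exists_retract S hpure
  set C : Submodule ℤ_[p] X := Rg ⊔ LinearMap.ker r₁ with hC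
  have hcompl : IsCompl M C := by
    constructor
    · rw [Submodule.disjoint_def]
      intro m hm hmC
      obtain ⟨z, hz, k, hk, hzk⟩ := Submodule.mem_sup.mp hmC
      have hkS : k ∈ S := by
        have : k = m - z := by rw [← hzk]; abel
        rw [this]
        exact S.sub_mem (Submodule.mem_sup_left hm) (Submodule.mem_sup_right hz)
      have hk0 : k = 0 := by rw [← hr₁id k hkS]; exact LinearMap.mem_ker.mp hk
      rw [hk0, add_zero] at hzk
      exact hdisj m hm (hzk ▸ hz)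
    · rw [codisjoint_iff, eq_top_iff]
      intro l _
      have h2 : l - r₁ l ∈ LinearMap.ker r₁ := by
        rw [LinearMap.mem_ker, map_sub, hr₁id _ (hr₁S l), sub_self]
      obtain ⟨m, hm, z, hz, hmz⟩ := Submodule.mem_sup.mp (hr₁S l)
      have h1 : l = m + (z + (l - r₁ l)) := by rw [← hmz]; abel
      rw [h1]
      exact Submodule.add_mem _ (Submodule.mem_sup_left hm)
        (Submodule.mem_sup_right (Submodule.add_mem _ (Submodule.mem_sup_left hz)
          (Submodule.mem_sup_right h2)))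
  refine ⟨M.projection C hcompl, fun l => Submodule.projection_apply_mem hcompl l,
    fun m hm => Submodule.projection_apply_of_mem_left hcompl hm, fun y => ?_⟩
  exact (Submodule.projection_apply_eq_zero_iff hcompl).mpr
    (Submodule.mem_sup_left ((hmemRg _).mpr ⟨y, rfl⟩))

/-! ### The splitting -/

variable {N : Type*} [Group N] [Finite N] (τ : Representation ℤ_[p] N X)
  (x₀ : N) (hx₀ : orderOf x₀ = p) (hnorm : (Subgroup.zpowers x₀).Normal)
  (K₀ : Subgroup N) (hK₀p : (Nat.card K₀).Coprime p)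
  (hNK : ∀ n : N, ∃ i : ℕ, ∃ k ∈ K₀, n = x₀ ^ i * k)

include hx₀ hnorm hK₀p hNK in
/-- **(SPLIT0).** -/
theorem split0
    (hH1 : ∀ l, nuE p (τ x₀) l = 0 → ∃ m, l = τ x₀ m - m)
    (hH0 : ¬ ∀ l, τ x₀ l = l → ∃ m, l = nuE p (τ x₀) m)
    (hsimple : ∀ W : Submodule ℤ_[p] X, (∀ w ∈ W, τ x₀ w = w) → (∀ m, nuE p (τ x₀) m ∈ W) →
      (∀ k ∈ K₀, ∀ w ∈ W, τ k w ∈ W) →
      (∀ w ∈ W, ∃ m, w = nuE p (τ x₀) m) ∨ (∀ l, τ x₀ l = l → l ∈ W)) :
    ∃ (M : Submodule ℤ_[p] X) (hM : ∀ n, M.map (τ n) ≤ M), (∀ m ∈ M, τ x₀ m = m) ∧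
      IsQIrred (subRep τ M hM) ∧ Module.finrank ℤ_[p] M ≠ 0 ∧
      ∀ i : ℕ, 0 < i → i < p → ∀ v : N, Commute v x₀ → ¬ p ∣ orderOf v →
        LinearMap.trace ℤ_[p] X (τ (x₀ ^ i * v)) =
          LinearMap.trace ℤ_[p] M (subRep τ M hM v) := by
  classical
  set P : Subgroup N := Subgroup.zpowers x₀ with hPdef
  let _ : Fintype P := Fintype.ofFinite P
  let _ : Fintype K₀ := Fintype.ofFinite K₀
  have hp0 : 0 < p := hp.out.pos
  set x := τ x₀ with hxdef
  have hxp : x ^ p = 1 := by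
    have h0 : x₀ ^ p = 1 := by rw [← hx₀]; exact pow_orderOf_eq_one x₀
    rw [hxdef, ← map_pow, h0, map_one]
  have hnormalizer : ∀ n : N, n ∈ Subgroup.normalizer (P : Set N) := by
    intro n
    have : P.Normal := hnorm
    rw [Subgroup.normalizer_eq_top]
    trivial
  have hnA : ∀ n : N, InA p x (τ n) := fun n =>
    (inAP_iff τ x₀ hx₀ hp0 _).mp (inAP_rho_normalizer τ P (hnormalizer n))
  have hPfix : ∀ h ∈ P, ∀ l, x l = l → τ h l = l := fun h hh l hl =>
    (isFix_iff τ x₀ hx₀ hp0 l).mpr hl h hh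
  have hxi : ∀ i : ℕ, x₀ ^ i ∈ P := fun i => Subgroup.pow_mem _ (Subgroup.mem_zpowers x₀) i
  set F : Submodule ℤ_[p] X := LinearMap.ker (x - 1) with hF
  set B : Submodule ℤ_[p] X := LinearMap.range (nuE p x) with hB
  have hmemB : ∀ z, z ∈ B ↔ ∃ y, z = nuE p x y := by
    intro z
    rw [hB, LinearMap.mem_range]
    exact ⟨fun ⟨y, hy⟩ => ⟨y, hy.symm⟩, fun ⟨y, hy⟩ => ⟨y, hy.symm⟩⟩
  have hBF : B ≤ F := by
    intro z hz
    obtain ⟨y, rfl⟩ := (hmemB z).mp hz
    exact (mem_fix x).mpr (x_nuE x hxp y)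
  have hpF : ∀ f ∈ F, (p : ℤ_[p]) • f ∈ B := by
    intro f hf
    rw [← nuE_of_fixed x ((mem_fix x).mp hf)]
    exact (hmemB _).mpr ⟨f, rfl⟩
  set σ : Representation ℤ_[p] K₀ X := τ.comp K₀.subtype with hσ
  have hσk : ∀ k : K₀, σ k = τ (k : N) := fun k => rfl
  have hFst : ∀ a : K₀, ∀ f ∈ F, σ a f ∈ F := by
    intro a f hf
    rw [hσk]
    exact (mem_fix x).mpr ((hnA _).1 f ((mem_fix x).mp hf))
  have hBst : ∀ a : K₀, ∀ b ∈ B, σ a b ∈ B := by
    intro a b hb
    obtain ⟨y, rfl⟩ := (hmemB b).mp hb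
    obtain ⟨y', hy'⟩ := (hnA (a : N)).2.1 y
    rw [hσk, hy']
    exact (hmemB _).mpr ⟨y', rfl⟩
  have hne : ¬ F ≤ B := by
    intro h
    apply hH0
    intro l hl
    exact (hmemB l).mp (h ((mem_fix x).mpr hl))
  have hsimple' : ∀ W : Submodule ℤ_[p] X, B ≤ W → W ≤ F → (∀ a : K₀, ∀ w ∈ W, σ a w ∈ W) →
      W ≤ B ∨ F ≤ W := by
    intro W hBW hWF hWst
    rcases hsimple W (fun w hw => (mem_fix x).mp (hWF hw))
      (fun m => hBW ((hmemB _).mpr ⟨m, rfl⟩)) (fun k hk w hw => hWst ⟨k, hk⟩ w hw) with h | h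
    · left
      intro w hw
      exact (hmemB w).mpr (h w hw)
    · right
      intro l hl
      exact h l ((mem_fix x).mp hl)
  obtain ⟨M, hMσ, hMF, hMpure, hMirr, hFMB, hMB⟩ :=
    Cfsg.Agent.Lib.Helper63_GenA2.exists_qirred_summand hK₀p σ F B (isPure_fix x) hBF hFst hBst
      hpF hne hsimple'
  have hMfix : ∀ m ∈ M, x m = m := fun m hm => (mem_fix x).mp (hMF hm)
  have hMσ' : ∀ a : K₀, ∀ m ∈ M, σ a m ∈ M := fun a m hm => hMσ a (Submodule.mem_map_of_mem hm)
  have hMN : ∀ n : N, ∀ m ∈ M, τ n m ∈ M := by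
    intro n m hm
    obtain ⟨i, k, hk, rfl⟩ := hNK n
    rw [map_mul, Module.End.mul_apply]
    have h1 : τ k m ∈ M := hMσ' ⟨k, hk⟩ m hm
    rw [hPfix _ (hxi i) _ (hMfix _ h1)]
    exact h1
  have hM : ∀ n, M.map (τ n) ≤ M := by
    rintro n _ ⟨m, hm, rfl⟩
    exact hMN n m hm
  refine ⟨M, hM, hMfix, ?_, ?_, ?_⟩
  · -- QIrred for `N`
    intro L₁ hL₁
    refine hMirr L₁ (fun a => ?_)
    have : subRep σ M hMσ a = subRep τ M hM (a : N) := by
      ext m
      rfl
    rw [this]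
    exact hL₁ (a : N)
  · rw [Ne, Submodule.finrank_eq_zero]
    intro hbot
    apply hne
    rw [hbot, bot_sup_eq] at hFMB
    exact hFMB
  -- the retraction
  obtain ⟨r₀, hr₀M, hr₀id, hr₀aug⟩ := exists_p_retraction x hxp M hMfix
    (fun m hm hy => hMB m hm ((hmemB m).mpr hy)) hH1
  obtain ⟨u, hu⟩ := exists_inv_card (A := K₀) hK₀p
  set r := avgC σ u r₀ with hr
  have hrc : ∀ a : K₀, Commute r (σ a) := commute_avgC σ u r₀
  have hrM : ∀ l, r l ∈ M := avgC_mem σ u r₀ M hMσ' hr₀M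
  have hrid : ∀ m ∈ M, r m = m := fun m hm => avgC_eq_self σ hu r₀ M hMσ' hr₀id hm
  have hraug : ∀ y, r (x y - y) = 0 := by
    intro y
    rw [hr, avgC_apply]
    have : ∀ a : K₀, σ a (r₀ (σ a⁻¹ (x y - y))) = 0 := by
      intro a
      obtain ⟨y', hy'⟩ := (hnA ((a⁻¹ : K₀) : N)).2.2.2 y
      rw [hσk a⁻¹, hy', hr₀aug, map_zero]
    rw [Finset.sum_congr rfl (fun a _ => this a), Finset.sum_const_zero, smul_zero]
  have hrx : Commute r x := by
    apply LinearMap.ext
    intro l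
    simp only [Module.End.mul_apply]
    have h1 : r (x l) = r l := by
      have := hraug l
      rw [map_sub, sub_eq_zero] at this
      exact this
    rw [h1, hMfix _ (hrM l)]
  have hrn : ∀ n : N, Commute r (τ n) := by
    intro n
    obtain ⟨i, k, hk, rfl⟩ := hNK n
    rw [map_mul, map_pow]
    exact (hrx.pow_right i).mul_right (hrc ⟨k, hk⟩)
  have hrnu : Commute r (nuE p x) := Cfsg.Agent.Lib.Helper13_PLocal.commute_nuE x hrx
  have hrr : ∀ l, r (r l) = r l := fun l => hrid _ (hrM l)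
  set R : Submodule ℤ_[p] X := LinearMap.ker r with hRdef
  have hRmem : ∀ l, l - r l ∈ R := by
    intro l
    rw [hRdef, LinearMap.mem_ker, map_sub, hrr, sub_self]
  have hRst : ∀ n : N, ∀ l ∈ R, τ n l ∈ R := by
    intro n l hl
    rw [hRdef, LinearMap.mem_ker] at hl ⊢
    rw [commute_apply (hrn n) l, hl, map_zero]
  intro i hi hip v hv hpv
  set f := τ (x₀ ^ i * v) with hf
  have hfr : Commute f r := (hrn _).symm
  -- the `M`-part
  have hfM : ∀ l, (f * r) l ∈ M := fun l => hMN _ _ (hrM l)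
  have h1 : LinearMap.trace ℤ_[p] X (f * r) = LinearMap.trace ℤ_[p] M (subRep τ M hM v) := by
    rw [← LinearMap.trace_restrict_eq_of_forall_mem M (f * r) hfM]
    congr 1
    ext m
    simp only [LinearMap.coe_restrict_apply, Module.End.mul_apply, subRep_apply_coe]
    rw [hrid _ m.2, hf, map_mul, Module.End.mul_apply]
    exact hPfix _ (hxi i) _ (hMfix _ (hMN v _ m.2))
  -- the `R`-part
  have hfR : ∀ l, (f * (1 - r)) l ∈ R := by
    intro l
    simp only [Module.End.mul_apply, LinearMap.sub_apply, Module.End.one_apply]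
    exact hRst _ _ (hRmem l)
  have hxR : ∀ l ∈ R, x l ∈ R := fun l hl => hRst x₀ l hl
  have hvR : ∀ l ∈ R, τ v l ∈ R := fun l hl => hRst v l hl
  set xR : Module.End ℤ_[p] R := x.restrict hxR with hxRdef
  set vR : Module.End ℤ_[p] R := (τ v).restrict hvR with hvRdef
  have h2 : LinearMap.trace ℤ_[p] X (f * (1 - r)) = LinearMap.trace ℤ_[p] R (xR ^ i * vR) := by
    rw [← LinearMap.trace_restrict_eq_of_forall_mem R (f * (1 - r)) hfR]
    congr 1
    ext l
    have hl : r (l : X) = 0 := LinearMap.mem_ker.mp l.2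
    simp only [LinearMap.coe_restrict_apply, Module.End.mul_apply, LinearMap.sub_apply,
      Module.End.one_apply, hl, sub_zero]
    rw [hxRdef, Module.End.pow_restrict i hxR, LinearMap.coe_restrict_apply, hvRdef,
      LinearMap.coe_restrict_apply, hf, map_mul, map_pow, Module.End.mul_apply]
  have h3 : LinearMap.trace ℤ_[p] R (xR ^ i * vR) = 0 := by
    refine Cfsg.Agent.Lib.Helper50_GenT2.trace_free_zero xR vR ?_ ?_ (orderOf v) hpv ?_ ?_ ?_
      i hi hip
    · rw [hxRdef, Module.End.pow_restrict p hxR]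
      ext l
      rw [LinearMap.coe_restrict_apply, hxp]
      rfl
    · apply LinearMap.ext
      intro l
      apply Subtype.ext
      simp only [Module.End.mul_apply, hxRdef, hvRdef, LinearMap.coe_restrict_apply]
      rw [hxdef, ← Module.End.mul_apply, ← Module.End.mul_apply, ← map_mul, ← map_mul, hv.eq]
    · rw [hvRdef, Module.End.pow_restrict (orderOf v) hvR]
      ext l
      rw [LinearMap.coe_restrict_apply, ← map_pow, pow_orderOf_eq_one, map_one]
      rfl
    · intro l hl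
      have hl' : x (l : X) = l := by
        have := congrArg Subtype.val hl
        simpa [hxRdef, LinearMap.coe_restrict_apply] using this
      have hlr : r (l : X) = 0 := LinearMap.mem_ker.mp l.2
      obtain ⟨m, hm, z, hz, hmz⟩ := Submodule.mem_sup.mp (hFMB ((mem_fix x).mpr hl'))
      obtain ⟨y, rfl⟩ := (hmemB z).mp hz
      refine ⟨⟨y - r y, hRmem y⟩, ?_⟩
      apply Subtype.ext
      rw [Cfsg.Agent.Lib.Helper57_CT.nuE_restrict_apply x R hxR]
      simp only
      have h4 : (l : X) = (l : X) - r l := by rw [hlr, sub_zero]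
      rw [h4, ← hmz, map_add, hrid m hm, commute_apply hrnu y, map_sub]
      abel
    · intro l hl
      have hl' : nuE p x (l : X) = 0 := by
        have := congrArg Subtype.val hl
        rw [Cfsg.Agent.Lib.Helper57_CT.nuE_restrict_apply x R hxR] at this
        simpa using this
      have hlr : r (l : X) = 0 := LinearMap.mem_ker.mp l.2
      obtain ⟨y, hy⟩ := hH1 _ hl'
      refine ⟨⟨y - r y, hRmem y⟩, ?_⟩
      apply Subtype.ext
      simp only [AddSubgroupClass.coe_sub, hxRdef, LinearMap.coe_restrict_apply, map_sub]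
      rw [hMfix _ (hrM y), hy]
      abel
  have h4 : f = f * r + f * (1 - r) := by
    rw [← mul_add]
    simp
  rw [h4, map_add, h1, h2, h3, add_zero]

end Cfsg.Agent.Lib.Helper57_GenSplit
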