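import Mathlib
import Cfsg.Agent.Lib.Helper57_LatDefs
import Cfsg.Agent.Lib.Helper57_LatLocal
import Cfsg.Agent.Lib.Helper57_GenC
import Cfsg.Agent.Lib.Helper57_GenSplit
import Cfsg.Agent.Lib.Helper17_LatChar
import Cfsg.Agent.Lib.Helper17_LatticeLocal
import Cfsg.Agent.Lib.Helper50_GenT2
import Cfsg.Agent.Lib.Helper51_GenD

/-!
# The lattice theorem (CTℤ_p) for a Sylow subgroup of order `p` (helper57)

General defect-one project.  `L` a `ℚ_p`-irreducible `ℤ_p[G]`-lattice, `P = ⟨x₀⟩` a Sylow subgroup of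
order `p`, `N = N_G(P)`.  Either `tr (x₀^i v | L) = 0` for all `p`-regular `v ∈ C_G(P)`, `0 < i < p`,
or there are a sign `δ = ±1` and a `ℚ_p`-irreducible `ℤ_p[N]`-lattice `Y` on which `P` acts trivially
with `tr (x₀^i v | L) = δ · tr (v | Y)`.
-/

set_option autoImplicit false
set_option linter.unusedSectionVars false

namespace Cfsg.Agent.Lib.Helper57_CTZp

open Cfsg.Agent.Lib.Helper57_LatDefs Cfsg.Agent.Lib.Helper57_LatLocal
  Cfsg.Agent.Lib.Helper57_GenC Cfsg.Agent.Lib.Helper57_GenSplit Cfsg.Agent.Lib.Helper17_LatChar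

universe u

variable {p : ℕ} [hp : Fact p.Prime]

/-- Schur–Zassenhaus for a normal subgroup of order `p` and index prime to `p`. -/
theorem exists_complement {N : Type*} [Group N] [Finite N] (x₀ : N) (hx₀ : orderOf x₀ = p)
    (hnorm : (Subgroup.zpowers x₀).Normal) (hidx : ¬ p ∣ (Subgroup.zpowers x₀).index) :
    ∃ K₀ : Subgroup N, (Nat.card K₀).Coprime p ∧ ∀ n : N, ∃ i : ℕ, ∃ k ∈ K₀, n = x₀ ^ i * k := by
  have hcard : Nat.card (Subgroup.zpowers x₀) = p := (Nat.card_zpowers x₀).trans hx₀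
  have hcop : Nat.Coprime (Nat.card (Subgroup.zpowers x₀)) (Subgroup.zpowers x₀).index := by
    rw [hcard]
    exact (Nat.Prime.coprime_iff_not_dvd hp.out).mpr hidx
  obtain ⟨H, hH⟩ := Subgroup.exists_right_complement'_of_coprime hcop
  refine ⟨H, ?_, fun n => ?_⟩
  · have h1 := hH.card_mul_card
    have h2 := Subgroup.card_mul_index (Subgroup.zpowers x₀)
    have h3 : Nat.card H = (Subgroup.zpowers x₀).index := by
      have hpos : 0 < Nat.card (Subgroup.zpowers x₀) := Nat.card_pos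
      exact Nat.eq_of_mul_eq_mul_left hpos (h1.trans h2.symm)
    rw [h3]
    exact ((Nat.Prime.coprime_iff_not_dvd hp.out).mpr hidx).symm
  · obtain ⟨⟨h, k⟩, hhk, -⟩ := Subgroup.isComplement_iff_existsUnique.mp hH n
    let _ : Fintype (Subgroup.zpowers x₀) := Fintype.ofFinite _
    obtain ⟨i, hi⟩ := (mem_zpowers_iff_pow x₀ hx₀ hp.out.pos).mp h.2
    exact ⟨i, k, k.2, by rw [← hhk, hi]⟩

variable {G : Type u} [Group G] [Finite G] {L : Type u} [AddCommGroup L] [Module ℤ_[p] L]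
  [Module.Free ℤ_[p] L] [Module.Finite ℤ_[p] L]

/-- **(CTℤ_p).** -/
theorem ct_zp (ρ : Representation ℤ_[p] G L)
    (hirr : Cfsg.Agent.Lib.Helper17_LatticeLocal.IsQIrred ρ)
    (x₀ : G) (hx₀ : orderOf x₀ = p) (hsyl : ¬ p ∣ (Subgroup.zpowers x₀).index) :
    (∀ i : ℕ, 0 < i → i < p → ∀ v : G, Commute v x₀ → ¬ p ∣ orderOf v →
        LinearMap.trace ℤ_[p] L (ρ (x₀ ^ i * v)) = 0) ∨
    ∃ (δ : ℤ) (_ : δ = 1 ∨ δ = -1) (Y : Type u) (_ : AddCommGroup Y) (_ : Module ℤ_[p] Y)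
      (_ : Module.Free ℤ_[p] Y) (_ : Module.Finite ℤ_[p] Y)
      (σ : Representation ℤ_[p] (Subgroup.normalizer (Subgroup.zpowers x₀ : Set G)) Y),
      IsQIrred σ ∧ Module.finrank ℤ_[p] Y ≠ 0 ∧
      (∀ h : Subgroup.normalizer (Subgroup.zpowers x₀ : Set G),
        (h : G) ∈ Subgroup.zpowers x₀ → σ h = 1) ∧
      ∀ i : ℕ, 0 < i → i < p → ∀ v : Subgroup.normalizer (Subgroup.zpowers x₀ : Set G),
        Commute (v : G) x₀ → ¬ p ∣ orderOf v →
        LinearMap.trace ℤ_[p] L (ρ (x₀ ^ i * (v : G))) = (δ : ℤ_[p]) * LinearMap.trace ℤ_[p] Y (σ v) := by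
  classical
  have hp0 : 0 < p := hp.out.pos
  set P : Subgroup G := Subgroup.zpowers x₀ with hPdef
  set N : Subgroup G := Subgroup.normalizer (P : Set G) with hNdef
  have hx₀N : x₀ ∈ N := Subgroup.le_normalizer (Subgroup.mem_zpowers x₀)
  set y₀ : N := ⟨x₀, hx₀N⟩ with hy₀
  have hy₀ord : orderOf y₀ = p := by rw [← hx₀, hy₀, ← Subgroup.orderOf_coe]
  have hzp : Subgroup.zpowers y₀ = P.subgroupOf N := by
    ext n
    rw [Subgroup.mem_subgroupOf, hPdef, Subgroup.mem_zpowers_iff, Subgroup.mem_zpowers_iff]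
    constructor
    · rintro ⟨k, rfl⟩
      exact ⟨k, by simp [hy₀]⟩
    · rintro ⟨k, hk⟩
      exact ⟨k, Subtype.ext (by simpa [hy₀] using hk)⟩
  have hnorm : (Subgroup.zpowers y₀).Normal := by
    rw [hzp]
    exact Subgroup.normal_in_normalizer
  have hidx : ¬ p ∣ (Subgroup.zpowers y₀).index := by
    rw [hzp]
    intro h
    apply hsyl
    have h1 : P.relIndex N * N.index = P.index := Subgroup.relIndex_mul_index Subgroup.le_normalizer
    rw [← h1]
    exact Dvd.dvd.mul_right h _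
  obtain ⟨K₀, hK₀p, hNK⟩ := exists_complement y₀ hy₀ord hnorm hidx
  let _ : Fintype (Subgroup.zpowers y₀) := Fintype.ofFinite _
  set τ : Representation ℤ_[p] N L := ρ.comp N.subtype with hτ
  have hτn : ∀ n : N, τ n = ρ (n : G) := fun n => rfl
  have hτy : τ y₀ = ρ x₀ := rfl
  -- the `G`-level data for (C)
  set K₁ : Subgroup G := K₀.map N.subtype with hK₁
  have hK₁p : (Nat.card K₁).Coprime p := by
    rw [hK₁, Subgroup.card_map_of_injective N.subtype_injective]
    exact hK₀p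
  have hK₁N : K₁ ≤ Subgroup.normalizer (Subgroup.zpowers x₀ : Set G) := by
    rw [hK₁]
    exact Subgroup.map_subtype_le K₀
  have hNK₁ : ∀ n ∈ Subgroup.normalizer (Subgroup.zpowers x₀ : Set G),
      ∃ i : ℕ, ∃ k ∈ K₁, n = x₀ ^ i * k := by
    intro n hn
    obtain ⟨i, k, hk, hnk⟩ := hNK ⟨n, hn⟩
    refine ⟨i, (k : G), ?_, ?_⟩
    · exact Subgroup.mem_map_of_mem _ hk
    · have := congrArg Subtype.val hnk
      simpa [hy₀] using this
  have hK₁st : ∀ W : Submodule ℤ_[p] L, (∀ k ∈ K₀, ∀ w ∈ W, τ k w ∈ W) →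
      ∀ k ∈ K₁, ∀ w ∈ W, ρ k w ∈ W := by
    intro W hW k hk w hw
    obtain ⟨k', hk', rfl⟩ := Subgroup.mem_map.mp hk
    exact hW k' hk' w hw
  by_cases h0 : ∀ l, ρ x₀ l = l → ∃ m, l = nuE p (ρ x₀) m
  · by_cases h1 : ∀ l, nuE p (ρ x₀) l = 0 → ∃ m, l = ρ x₀ m - m
    · -- both vanish
      left
      intro i hi hip v hv hpv
      have hxp : (ρ x₀) ^ p = 1 := by
        have h0 : x₀ ^ p = 1 := by rw [← hx₀]; exact pow_orderOf_eq_one x₀
        rw [← map_pow, h0, map_one]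
      have hcomm : Commute (ρ x₀) (ρ v) := by
        show ρ x₀ * ρ v = ρ v * ρ x₀
        rw [← map_mul, ← map_mul, hv.eq]
      have hvk : (ρ v) ^ (orderOf v) = 1 := by rw [← map_pow, pow_orderOf_eq_one, map_one]
      have := Cfsg.Agent.Lib.Helper50_GenT2.trace_free_zero (ρ x₀) (ρ v) hxp hcomm (orderOf v) hpv
        hvk h0 h1 i hi hip
      rw [map_mul, map_pow]
      exact this
    · -- `H^0 = 0`, `H^{-1} ≠ 0`: shift
      right
      obtain ⟨Y, iY1, iY2, iY3, iY4, τ', hY1, hYtr, hY0, hYs⟩ :=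
        Cfsg.Agent.Lib.Helper51_GenD.exists_shift τ y₀ hy₀ord hnorm K₀ hK₀p hNK h0
      have hsimpleL : ∀ W : Submodule ℤ_[p] L, (∀ w ∈ W, nuE p (τ y₀) w = 0) →
          (∀ m, τ y₀ m - m ∈ W) → (∀ k ∈ K₀, ∀ w ∈ W, τ k w ∈ W) →
          (∀ w ∈ W, ∃ m, w = τ y₀ m - m) ∨ (∀ l, nuE p (τ y₀) l = 0 → l ∈ W) := by
        intro W hW1 hW2 hW3
        rcases simple_H1 ρ hirr x₀ hx₀ hsyl K₁ hK₁p hK₁N hNK₁ W hW1 hW2 (hK₁st W hW3) with h | h
        · exact Or.inl h
        · exact Or.inr h.1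
      obtain ⟨M, hM, hMfix, hMirr, hMrank, hMtr⟩ := split0 τ' y₀ hy₀ord hnorm K₀ hK₀p hNK hY1
        (fun h => h1 (hY0 h)) (hYs hsimpleL)
      refine ⟨-1, Or.inr rfl, M, inferInstance, inferInstance, inferInstance, inferInstance,
        subRep τ' M hM, hMirr, hMrank, ?_, ?_⟩
      · intro h hh
        have hh' : h ∈ Subgroup.zpowers y₀ := by rw [hzp]; exact hh
        obtain ⟨i, rfl⟩ := (mem_zpowers_iff_pow y₀ hy₀ord hp0).mp hh'
        ext m
        rw [subRep_apply_coe, map_pow, Module.End.one_apply]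
        have hfix : ∀ j : ℕ, ((τ' y₀) ^ j) (m : Y) = m := by
          intro j
          induction j with
          | zero => simp
          | succ j ih => rw [pow_succ, Module.End.mul_apply, hMfix _ m.2, ih]
        exact hfix i
      · intro i hi hip v hv hpv
        have hv' : Commute v y₀ := by
          apply Subtype.ext
          have := hv.eq
          simpa [hy₀] using this
        have h2 := hYtr i hi hip v hv' hpv
        have h3 := hMtr i hi hip v hv' hpv
        have h4 : τ (y₀ ^ i * v) = ρ (x₀ ^ i * (v : G)) := rfl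
        rw [← h4]
        rw [h3] at h2
        rw [h2]
        push_cast
        ring
  · -- `H^0 ≠ 0`
    right
    have hsimpleL : ∀ W : Submodule ℤ_[p] L, (∀ w ∈ W, τ y₀ w = w) →
        (∀ m, nuE p (τ y₀) m ∈ W) → (∀ k ∈ K₀, ∀ w ∈ W, τ k w ∈ W) →
        (∀ w ∈ W, ∃ m, w = nuE p (τ y₀) m) ∨ (∀ l, τ y₀ l = l → l ∈ W) := by
      intro W hW1 hW2 hW3
      rcases simple_H0 ρ hirr x₀ hx₀ hsyl K₁ hK₁p hK₁N hNK₁ W hW1 hW2 (hK₁st W hW3) with h | h
      · exact Or.inl h
      · exact Or.inr h.1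
    have h1 : ∀ l, nuE p (τ y₀) l = 0 → ∃ m, l = τ y₀ m - m := by
      -- apply (C⁰) to the fixed points themselves
      have hxp : (ρ x₀) ^ p = 1 := by
        have h0 : x₀ ^ p = 1 := by rw [← hx₀]; exact pow_orderOf_eq_one x₀
        rw [← map_pow, h0, map_one]
      have hnormalizer : ∀ n : N, (n : G) ∈ Subgroup.normalizer (P : Set G) := fun n => n.2
      rcases simple_H0 ρ hirr x₀ hx₀ hsyl K₁ hK₁p hK₁N hNK₁ (LinearMap.ker (ρ x₀ - 1))
        (fun w hw => (mem_fix (ρ x₀)).mp hw)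
        (fun m => (mem_fix (ρ x₀)).mpr (x_nuE (ρ x₀) hxp m))
        (fun k hk w hw => by
          let _ : Fintype P := Fintype.ofFinite P
          have hkN : k ∈ Subgroup.normalizer (P : Set G) := hK₁N hk
          have hA := (inAP_iff ρ x₀ hx₀ hp0 _).mp
            (Cfsg.Agent.Lib.Helper57_LatTr.inAP_rho_normalizer ρ P hkN)
          exact (mem_fix (ρ x₀)).mpr (hA.1 w ((mem_fix (ρ x₀)).mp hw))) with h | h
      · exfalso
        apply h0
        intro l hl
        exact h l ((mem_fix (ρ x₀)).mpr hl)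
      · exact h.2
    obtain ⟨M, hM, hMfix, hMirr, hMrank, hMtr⟩ := split0 τ y₀ hy₀ord hnorm K₀ hK₀p hNK h1 h0
      hsimpleL
    refine ⟨1, Or.inl rfl, M, inferInstance, inferInstance, inferInstance, inferInstance,
      subRep τ M hM, hMirr, hMrank, ?_, ?_⟩
    · intro h hh
      have hh' : h ∈ Subgroup.zpowers y₀ := by rw [hzp]; exact hh
      obtain ⟨i, rfl⟩ := (mem_zpowers_iff_pow y₀ hy₀ord hp0).mp hh'
      ext m
      rw [subRep_apply_coe, map_pow, Module.End.one_apply]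
      have hfix : ∀ j : ℕ, ((τ y₀) ^ j) (m : L) = m := by
        intro j
        induction j with
        | zero => simp
        | succ j ih => rw [pow_succ, Module.End.mul_apply, hMfix _ m.2, ih]
      exact hfix i
    · intro i hi hip v hv hpv
      have hv' : Commute v y₀ := by
        apply Subtype.ext
        have := hv.eq
        simpa [hy₀] using this
      have h3 := hMtr i hi hip v hv' hpv
      have h4 : τ (y₀ ^ i * v) = ρ (x₀ ^ i * (v : G)) := rfl
      rw [← h4, h3]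
      push_cast
      ring

end Cfsg.Agent.Lib.Helper57_CTZp
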