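import Mathlib
import Cfsg.Prelude.Def_Characters
import Cfsg.Agent.Lib.Helper57_GalOrbit

/-!
# Interfaces of the general defect-one project (helper57)

* `CTGen G p P`: the hypothesis on which the block side works (complex-character form of the lattice
  theorem, after the `G × Z` descent).
* `CTQp H p x₀ ΓH ΓN`: the complex-character form of the lattice theorem over `ℚ_p` for a group `H`
  with a Sylow subgroup `⟨x₀⟩` of order `p` (before the descent): some positive multiple of the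
  `ΓH`-orbit sum of `χ` equals, on `x₀^i v`, `δ` times the sum of a set `O` of irreducible characters of
  `N_H(⟨x₀⟩)` trivial on `x₀` and pairwise conjugate under `ΓN`.
-/

set_option autoImplicit false

namespace Cfsg.Agent.Lib.Helper57_GenDefs

open Cfsg Cfsg.Agent.Lib.Helper57_GalOrbit

universe u

/-- The hypothesis handed to the block side. -/
def CTGen (G : Type u) [Group G] [Fintype G] (p : ℕ) (P : Sylow p G) : Prop :=
  ∃ Γ : Set ℕ, 1 ∈ Γ ∧ (∀ k ∈ Γ, k.Coprime (Nat.card G)) ∧ (∀ k ∈ Γ, ∀ l ∈ Γ, k * l ∈ Γ) ∧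
    (∀ k ∈ Γ, ∃ l ∈ Γ, k * l ≡ 1 [MOD Nat.card G]) ∧
    (∀ k ∈ Γ, k ≡ 1 [MOD Nat.card G / p ^ (Nat.card G).factorization p]) ∧
    ∀ χ : IrrCharacter G, ∃ (s : ℕ) (δ : ℤ)
      (ψ : IrrCharacter (Subgroup.normalizer ((P : Subgroup G) : Set G))),
      0 < s ∧ (δ = 0 ∨ δ = 1 ∨ δ = -1) ∧
      (∀ h : Subgroup.normalizer ((P : Subgroup G) : Set G), (h : G) ∈ (P : Subgroup G) →
        (ψ : Subgroup.normalizer ((P : Subgroup G) : Set G) → ℂ) h =
          (ψ : Subgroup.normalizer ((P : Subgroup G) : Set G) → ℂ) 1) ∧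
      ∀ x ∈ (P : Subgroup G), x ≠ 1 →
        ∀ v : Subgroup.normalizer ((P : Subgroup G) : Set G),
          (v : G) ∈ Subgroup.centralizer ((P : Subgroup G) : Set G) → ¬ p ∣ orderOf v →
          (s : ℂ) * ∑ᶠ χ' ∈ {χ' : IrrCharacter G | ∃ k ∈ Γ, ∀ g, (χ' : G → ℂ) g = (χ : G → ℂ) (g ^ k)},
            (χ' : G → ℂ) (x * (v : G)) =
          (δ : ℂ) * (ψ : Subgroup.normalizer ((P : Subgroup G) : Set G) → ℂ) v

/-- The `ℚ_p`-form for a group `H` with Sylow subgroup `⟨x₀⟩` of order `p`. -/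
def CTQp (H : Type u) [Group H] [Fintype H] (p : ℕ) (x₀ : H) (ΓH ΓN : Set ℕ) : Prop :=
  ∀ χ : IrrCharacter H, ∃ (s : ℕ) (δ : ℤ)
    (O : Finset (IrrCharacter (Subgroup.normalizer (Subgroup.zpowers x₀ : Set H)))),
    0 < s ∧ (δ = 0 ∨ δ = 1 ∨ δ = -1) ∧
    (∀ ψ ∈ O, ∀ h : Subgroup.normalizer (Subgroup.zpowers x₀ : Set H),
      (h : H) ∈ Subgroup.zpowers x₀ →
      (ψ : Subgroup.normalizer (Subgroup.zpowers x₀ : Set H) → ℂ) h =
        (ψ : Subgroup.normalizer (Subgroup.zpowers x₀ : Set H) → ℂ) 1) ∧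
    (∀ ψ₁ ∈ O, ∀ ψ₂ ∈ O, ∃ k ∈ ΓN, ∀ n,
      (ψ₂ : Subgroup.normalizer (Subgroup.zpowers x₀ : Set H) → ℂ) n =
        (ψ₁ : Subgroup.normalizer (Subgroup.zpowers x₀ : Set H) → ℂ) (n ^ k)) ∧
    ∀ i : ℕ, 0 < i → i < p → ∀ v : Subgroup.normalizer (Subgroup.zpowers x₀ : Set H),
      Commute (v : H) x₀ → ¬ p ∣ orderOf v →
      (s : ℂ) * ∑ χ' ∈ orb ΓH χ, (χ' : H → ℂ) (x₀ ^ i * (v : H)) =
        (δ : ℂ) * ∑ ψ ∈ O, (ψ : Subgroup.normalizer (Subgroup.zpowers x₀ : Set H) → ℂ) v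

end Cfsg.Agent.Lib.Helper57_GenDefs
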