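import Mathlib
import Cfsg.Prelude.Def_Characters
import Cfsg.Agent.Lib.Helper57_LatDefs
import Cfsg.Agent.Lib.Helper17_LatChar
import Cfsg.Agent.Lib.Helper75_CharArith
import Cfsg.Agent.Lib.Helper80_CharBasic

/-!
# Package Q1 of the general defect-one project (helper57)

`mult_le_one`: a `ℚ_p`-irreducible lattice of `N = ⟨x₀⟩ K₀` on which `x₀` acts trivially has a
multiplicity-free character, given the same for `K₀` (package GA5).
-/

set_option autoImplicit false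

namespace Cfsg.Agent.Lib.Helper57_GenQ1

open Cfsg Cfsg.Agent.Lib.Helper57_LatDefs Cfsg.Agent.Lib.Helper17_LatChar
  Cfsg.Agent.Lib.Helper3_CharBridge Cfsg.Agent.Lib.Helper3_CharOrtho
  Cfsg.Agent.Lib.Helper3_CharComplete

universe u

variable {p : ℕ} [hp : Fact p.Prime]

theorem mult_le_one {N : Type u} [Group N] [Fintype N] (x₀ : N)
    (K₀ : Subgroup N) [Fintype K₀] (hNK : ∀ n : N, ∃ i : ℕ, ∃ k ∈ K₀, n = x₀ ^ i * k)
    {Y : Type*} [AddCommGroup Y] [Module ℤ_[p] Y] [Module.Free ℤ_[p] Y] [Module.Finite ℤ_[p] Y]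
    (σ : Representation ℤ_[p] N Y) (hirr : IsQIrred σ) (hx₀σ : σ x₀ = 1)
    (j : ℚ_[p] →+* ℂ) (O : Finset (IrrCharacter N)) (hO : O.Nonempty) (s' : ℕ)
    (hΨ : ∀ n, latChar j σ n = (s' : ℂ) * ∑ ψ' ∈ O, (ψ' : N → ℂ) n)
    (hA5 : ∀ τ : Representation ℤ_[p] K₀ Y, IsQIrred τ → ∀ θ : IrrCharacter K₀,
      classInner (latChar j τ) (θ : K₀ → ℂ) = 0 ∨ classInner (latChar j τ) (θ : K₀ → ℂ) = 1) :
    s' ≤ 1 := by
  classical
  set τ : Representation ℤ_[p] K₀ Y := σ.comp K₀.subtype with hτ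
  have hτirr : IsQIrred τ := by
    intro L₁ hL₁
    apply hirr L₁
    intro n
    obtain ⟨i, k, hk, rfl⟩ := hNK n
    rw [map_mul, map_pow, hx₀σ, one_pow, one_mul]
    exact hL₁ ⟨k, hk⟩
  obtain ⟨ψ₀, hψ₀⟩ := hO
  have hres : ∀ ψ' : IrrCharacter N, IsCharacter K₀ (fun k : K₀ => (ψ' : N → ℂ) k) := fun ψ' =>
    Cfsg.Agent.Lib.Helper75_CharArith.isCharacter_restrict K₀ (isCharacter_of_isIrrCharacter ψ'.2)
  -- an irreducible constituent of the restriction of `ψ₀`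
  have hex : ∃ θ : IrrCharacter K₀,
      classInner (fun k : K₀ => (ψ₀ : N → ℂ) k) (θ : K₀ → ℂ) ≠ 0 := by
    by_contra hcon
    push Not at hcon
    have h2 := classFunction_eq_sum (fun k : K₀ => (ψ₀ : N → ℂ) k)
      (isClassFunction_of_isCharacter (hres ψ₀))
    have h3 := congrFun h2 1
    rw [Finset.sum_apply] at h3
    have h4 : (ψ₀ : N → ℂ) 1 = 0 := by
      have : (ψ₀ : N → ℂ) ((1 : K₀) : N) = (ψ₀ : N → ℂ) 1 := rfl
      rw [← this, h3]
      apply Finset.sum_eq_zero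
      intro θ _
      rw [hcon θ, zero_smul]
      rfl
    obtain ⟨d, hdpos, hd⟩ := Cfsg.Agent.Lib.Helper80_CharBasic.irr_apply_one ψ₀
    rw [hd] at h4
    exact hdpos.ne' (by exact_mod_cast h4)
  obtain ⟨θ, hθ⟩ := hex
  -- natural multiplicities
  have hnat : ∀ ψ' : IrrCharacter N, ∃ n : ℕ,
      classInner (fun k : K₀ => (ψ' : N → ℂ) k) (θ : K₀ → ℂ) = n := fun ψ' =>
    Cfsg.Agent.Lib.Helper75_CharArith.classInner_isCharacter_nat (hres ψ')
      (isCharacter_of_isIrrCharacter θ.2)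
  choose m hm using hnat
  have hm0 : m ψ₀ ≠ 0 := by
    intro h0
    apply hθ
    rw [hm ψ₀, h0, Nat.cast_zero]
  -- the inner product of the lattice character
  have hlat : latChar j τ = (s' : ℂ) • ∑ ψ' ∈ O, (fun k : K₀ => (ψ' : N → ℂ) k) := by
    funext k
    rw [Pi.smul_apply, Finset.sum_apply, smul_eq_mul]
    exact hΨ k
  have key : classInner (latChar j τ) (θ : K₀ → ℂ) = ((s' * ∑ ψ' ∈ O, m ψ' : ℕ) : ℂ) := by
    rw [hlat, classInner_smul_left, classInner_sum_left]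
    push_cast
    congr 1
    apply Finset.sum_congr rfl
    intro ψ' _
    exact hm ψ'
  have hpos : 0 < ∑ ψ' ∈ O, m ψ' := by
    have h3 : m ψ₀ ≤ ∑ ψ' ∈ O, m ψ' :=
      Finset.single_le_sum (f := fun ψ' => m ψ') (fun _ _ => Nat.zero_le _) hψ₀
    omega
  rcases hA5 τ hτirr θ with h | h
  · rw [key] at h
    have h' : s' * ∑ ψ' ∈ O, m ψ' = 0 := by exact_mod_cast h
    rcases Nat.mul_eq_zero.mp h' with h0 | h0
    · omega
    · omega
  · rw [key] at h
    have h' : s' * ∑ ψ' ∈ O, m ψ' = 1 := by exact_mod_cast h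
    have := Nat.eq_one_of_mul_eq_one_right h'
    omega

end Cfsg.Agent.Lib.Helper57_GenQ1
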