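import Mathlib
import Cfsg.Prelude.Def_Characters
import Cfsg.Agent.Lib.Helper3_CharEigen

/-!
# Package Q2 of helper57's general defect-one project (helper63)

Kernel clause: if a sum of irreducible characters takes its degree at `h`, so does every summand.
-/

set_option autoImplicit false

namespace Cfsg.Agent.Lib.Helper63_GenQ2

open Cfsg

universe u

/-- A complex number of norm at most `n` and real part at least `n` equals `n`. -/
theorem eq_of_norm_le_of_le_re {z : ℂ} {n : ℝ} (h1 : ‖z‖ ≤ n) (h2 : n ≤ z.re) : z = (n : ℂ) := by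
  have h3 : z.re ≤ ‖z‖ := Complex.re_le_norm z
  have hre : z.re = n := le_antisymm (h3.trans h1) h2
  have hnorm : ‖z‖ = n := le_antisymm h1 (h2.trans h3)
  have him : z.im = 0 := by
    have h4 := Complex.sq_norm z
    rw [Complex.normSq_apply, hnorm, hre] at h4
    nlinarith [mul_self_nonneg z.im]
  apply Complex.ext
  · rw [hre, Complex.ofReal_re]
  · rw [him, Complex.ofReal_im]

/-- `‖χ g‖ ≤ (χ 1).re` and `χ 1` is real, for characters. -/
theorem char_facts {N : Type u} [Group N] [Finite N] {χ : N → ℂ} (hχ : IsCharacter N χ) (g : N) :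
    ∃ n : ℕ, χ 1 = (n : ℂ) ∧ ‖χ g‖ ≤ (n : ℝ) := by
  obtain ⟨n, ρ, rfl⟩ := hχ
  refine ⟨n, ?_, ?_⟩
  · rw [Representation.char_one, Module.finrank_pi, Fintype.card_fin]
  · have := Cfsg.Agent.Lib.Helper3_CharEigen.norm_char_le ρ g
    rw [Module.finrank_pi, Fintype.card_fin] at this
    exact this

theorem ker_of_sum {N : Type u} [Group N] [Finite N] (O : Finset (IrrCharacter N)) (h : N)
    (hsum : ∑ ψ ∈ O, (ψ : N → ℂ) h = ∑ ψ ∈ O, (ψ : N → ℂ) 1) :
    ∀ ψ ∈ O, (ψ : N → ℂ) h = (ψ : N → ℂ) 1 := by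
  classical
  have hchar : ∀ ψ : IrrCharacter N, IsCharacter N (ψ : N → ℂ) := by
    intro ψ
    obtain ⟨n, ρ, _, hρ⟩ := ψ.2
    exact ⟨n, ρ, hρ⟩
  have hle : ∀ ψ ∈ O, ((ψ : N → ℂ) h).re ≤ ((ψ : N → ℂ) 1).re := by
    intro ψ _
    obtain ⟨n, h1, hn⟩ := char_facts (hchar ψ) h
    rw [h1, Complex.natCast_re]
    exact (Complex.re_le_norm _).trans hn
  have hre : ∑ ψ ∈ O, ((ψ : N → ℂ) h).re = ∑ ψ ∈ O, ((ψ : N → ℂ) 1).re := by
    have := congrArg Complex.re hsum
    rw [Complex.re_sum, Complex.re_sum] at this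
    exact this
  have heq := (Finset.sum_eq_sum_iff_of_le hle).mp hre
  intro ψ hψ
  obtain ⟨n, h1, hn⟩ := char_facts (hchar ψ) h
  have h2 := heq ψ hψ
  rw [h1, Complex.natCast_re] at h2
  rw [h1]
  have := eq_of_norm_le_of_le_re hn h2.ge
  rw [this]
  norm_cast

end Cfsg.Agent.Lib.Helper63_GenQ2
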