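import Mathlib
import Cfsg.Prelude.Def_Characters
import Cfsg.Agent.Lib.Helper57_LatDefs
import Cfsg.Agent.Lib.Helper57_GenLin
import Cfsg.Agent.Lib.Helper57_GalOrbit
import Cfsg.Agent.Lib.Helper17_LatChar
import Cfsg.Agent.Lib.Helper17_LatticeLocal
import Cfsg.Agent.Lib.Helper3_DR
import Cfsg.Agent.Lib.Helper57_LatTr
import Cfsg.Agent.Lib.Helper80_CharBasic

set_option autoImplicit false
set_option linter.unusedSectionVars false

namespace Cfsg.Agent.Lib.Helper87_GenA5

open Cfsg Cfsg.Agent.Lib.Helper57_LatDefs Cfsg.Agent.Lib.Helper57_GenLin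
  Cfsg.Agent.Lib.Helper17_LatChar
open Cfsg.Agent.Lib.Helper17_LatticeLocal (Comm comm_of_apply comm_of_smul comm_inv
  unit_or_nilpotent_mod_p exists_eq_smul_of_forall_mem)

open scoped Pointwise

universe u

variable {p : ℕ} [hp : Fact p.Prime]

section partI

variable {A : Type*} [Group A] [Fintype A] {M : Type*} [AddCommGroup M] [Module ℤ_[p] M]
  [Module.Free ℤ_[p] M] [Module.Finite ℤ_[p] M] (σ : Representation ℤ_[p] A M)

theorem comm_iff {T : Module.End ℤ_[p] M} : Comm σ T ↔ ∀ a, Commute T (σ a) := by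
  constructor
  · intro h a
    exact h a
  · intro h a
    exact h a

/-- `M / pM` is simple: a stable `W` containing `pM` is contained in `pM` or is everything. -/
theorem stable_mod_p (hA : (Nat.card A).Coprime p) (hirr : IsQIrred σ)
    (W : Submodule ℤ_[p] M) (hWst : ∀ a : A, ∀ w ∈ W, σ a w ∈ W)
    (hpW : ∀ m : M, (p : ℤ_[p]) • m ∈ W) :
    (∀ w ∈ W, ∃ m : M, w = (p : ℤ_[p]) • m) ∨ W = ⊤ := by
  obtain ⟨π, hπc, hπW, hπ1⟩ := exists_equivariant_flag_proj σ hA ⊤ W (fun l _ => trivial)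
    le_top (fun f _ => hpW f) (fun _ _ _ => trivial) hWst
  have hπ : Comm σ π := (comm_iff σ).2 hπc
  rcases unit_or_nilpotent_mod_p σ (fun L h => hirr L h) π hπ with ⟨e', f, -, -, h⟩ | ⟨k, f, -, h⟩
  · right
    rw [eq_top_iff]
    intro m _
    have h1 := congrArg (fun T : Module.End ℤ_[p] M => T m) h
    simp only [Module.End.mul_apply, LinearMap.add_apply, Module.End.one_apply,
      LinearMap.smul_apply] at h1
    have h2 : m = π (e' m) - (p : ℤ_[p]) • f m := by rw [h1]; abel
    rw [h2]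
    exact W.sub_mem (hπW _) (hpW _)
  · left
    intro w hw
    have key : ∀ i : ℕ, ∃ m : M, (π ^ i) w - w = (p : ℤ_[p]) • m := by
      intro i
      induction i with
      | zero => exact ⟨0, by simp⟩
      | succ i ih =>
        obtain ⟨m, hm⟩ := ih
        obtain ⟨f', -, hf'⟩ := hπ1 w hw
        refine ⟨π m + f', ?_⟩
        have : (π ^ (i + 1)) w - w = π ((π ^ i) w - w) + (π w - w) := by
          rw [pow_succ', Module.End.mul_apply, map_sub]; abel
        rw [this, hm, hf', map_smul, smul_add]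
    obtain ⟨m, hm⟩ := key k
    have h1 := congrArg (fun T : Module.End ℤ_[p] M => T w) h
    simp only [LinearMap.smul_apply] at h1
    refine ⟨f w - m, ?_⟩
    rw [smul_sub, ← hm, ← h1]
    abel

/-- Every commuting endomorphism is invertible or divisible by `p`. -/
theorem unit_or_dvd (hA : (Nat.card A).Coprime p) (hirr : IsQIrred σ)
    {T : Module.End ℤ_[p] M} (hT : Comm σ T) :
    (∃ u : (Module.End ℤ_[p] M)ˣ, (u : Module.End ℤ_[p] M) = T) ∨
      (∃ T' : Module.End ℤ_[p] M, Comm σ T' ∧ T = (p : ℤ_[p]) • T') := by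
  set W : Submodule ℤ_[p] M := LinearMap.range T ⊔ (p : ℤ_[p]) • (⊤ : Submodule ℤ_[p] M) with hW
  have hpW : ∀ m : M, (p : ℤ_[p]) • m ∈ W := fun m =>
    Submodule.mem_sup_right (Submodule.smul_mem_pointwise_smul m _ _ Submodule.mem_top)
  have hWst : ∀ a : A, ∀ w ∈ W, σ a w ∈ W := by
    intro a w hw
    obtain ⟨x, ⟨y, rfl⟩, z, hz, rfl⟩ := Submodule.mem_sup.mp hw
    rw [Submodule.mem_smul_pointwise_iff_exists] at hz
    obtain ⟨z', -, rfl⟩ := hz
    rw [map_add, ← hT.apply, map_smul]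
    exact W.add_mem (Submodule.mem_sup_left ⟨_, rfl⟩) (hpW _)
  rcases stable_mod_p σ hA hirr W hWst hpW with h | h
  · right
    obtain ⟨f, hf⟩ := exists_eq_smul_of_forall_mem T
      (fun x => by
        obtain ⟨m, hm⟩ := h (T x) (Submodule.mem_sup_left ⟨x, rfl⟩)
        exact ⟨m, hm⟩)
    refine ⟨f, ?_, hf⟩
    apply comm_of_smul
    rw [← hf]
    exact hT
  · left
    have hsurj : (⊤ : Submodule ℤ_[p] M) ≤ LinearMap.range T :=
      Cfsg.Agent.Lib.Helper3_DR.le_of_le_sup_smul ⊤ (LinearMap.range T) (by rw [← hW, h])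
    have hs : Function.Surjective T := LinearMap.range_eq_top.mp (top_le_iff.mp hsurj)
    have hi : Function.Injective T := OrzechProperty.injective_of_surjective_endomorphism T hs
    exact ⟨(LinearMap.GeneralLinearGroup.generalLinearEquiv ℤ_[p] M).symm
      (LinearEquiv.ofBijective T ⟨hi, hs⟩), by ext x; rfl⟩

/-- The commutant of the lattice, as a subalgebra of `End M`. -/
noncomputable def Delta : Subalgebra ℤ_[p] (Module.End ℤ_[p] M) := Subalgebra.centralizer ℤ_[p] (Set.range σ)

theorem mem_Delta {T : Module.End ℤ_[p] M} : T ∈ Delta σ ↔ Comm σ T := by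
  unfold Delta
  rw [Subalgebra.mem_centralizer_iff]
  constructor
  · intro h a
    exact (h (σ a) ⟨a, rfl⟩).symm
  · rintro h _ ⟨a, rfl⟩
    exact (h a).symm

/-- The ideal `p Δ`. -/
noncomputable def pI : Ideal (Delta σ) := Ideal.span {algebraMap ℤ_[p] (Delta σ) (p : ℤ_[p])}

theorem mem_pI {x : Delta σ} :
    x ∈ pI σ ↔ ∃ y : Delta σ, x = (p : ℤ_[p]) • y := by
  unfold pI
  rw [Ideal.mem_span_singleton']
  constructor
  · rintro ⟨a, rfl⟩
    exact ⟨a, by rw [Algebra.smul_def, Algebra.commutes]⟩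
  · rintro ⟨y, rfl⟩
    exact ⟨y, by rw [Algebra.smul_def, Algebra.commutes]⟩

instance pI_twoSided : (pI σ).IsTwoSided := by
  refine ⟨fun {a} b ha => ?_⟩
  obtain ⟨y, rfl⟩ := (mem_pI σ).mp ha
  exact (mem_pI σ).mpr ⟨y * b, by rw [smul_mul_assoc]⟩

theorem finite_resid : Finite (ℤ_[p] ⧸ Ideal.span {(p : ℤ_[p])}) := by
  rw [← PadicInt.maximalIdeal_eq_span_p]
  exact Finite.of_equiv (ZMod p) (PadicInt.residueField (p := p)).symm.toEquiv

theorem finite_quot : Finite (Delta σ ⧸ pI σ) := by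
  have : Module.Finite ℤ_[p] (Delta σ) :=
    Module.Finite.of_injective (Delta σ).val.toLinearMap Subtype.val_injective
  have := finite_resid (p := p)
  have : Finite (Delta σ ⧸ (⊤ : Submodule ℤ_[p] (Delta σ))) :=
    Finite.of_subsingleton
  have h1 : Finite (Delta σ ⧸ Ideal.span {(p : ℤ_[p])} • (⊤ : Submodule ℤ_[p] (Delta σ))) :=
    Submodule.finite_quotient_smul _ (Module.Finite.fg_top)
  have h2 : (Ideal.span {(p : ℤ_[p])} • (⊤ : Submodule ℤ_[p] (Delta σ))).toAddSubgroup.FiniteIndex :=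
    @AddSubgroup.finiteIndex_of_finite_quotient _ _ _ h1
  have hle : (Ideal.span {(p : ℤ_[p])} • (⊤ : Submodule ℤ_[p] (Delta σ))).toAddSubgroup ≤
      (pI σ).toAddSubgroup := by
    intro x hx
    have hx' : x ∈ Ideal.span {(p : ℤ_[p])} • (⊤ : Submodule ℤ_[p] (Delta σ)) := hx
    show x ∈ pI σ
    refine Submodule.smul_induction_on hx' ?_ ?_
    · intro r hr n _
      obtain ⟨c, rfl⟩ := Ideal.mem_span_singleton'.mp hr
      exact (mem_pI σ).mpr ⟨c • n, by rw [mul_comm, mul_smul]⟩
    · intro x y hx hy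
      exact (pI σ).add_mem hx hy
  have : (pI σ).toAddSubgroup.FiniteIndex := AddSubgroup.finiteIndex_of_le hle
  exact (pI σ).toAddSubgroup.finite_quotient_of_finiteIndex

/-- **Part I.** The commutant of a `ℚ_p`-irreducible lattice of a `p'`-group is commutative. -/
theorem comm_of_comm (hA : (Nat.card A).Coprime p) (hirr : IsQIrred σ)
    {S T : Module.End ℤ_[p] M} (hS : Comm σ S) (hT : Comm σ T) : S * T = T * S := by
  by_cases hsub : Subsingleton M
  · exact Subsingleton.elim _ _
  rw [not_subsingleton_iff_nontrivial] at hsub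
  have hfin := finite_quot σ
  -- every element of the quotient is a unit or zero
  have h01 : ∀ x : Delta σ ⧸ pI σ, IsUnit x ∨ x = 0 := by
    intro x
    obtain ⟨⟨T, hTm⟩, rfl⟩ := Ideal.Quotient.mk_surjective x
    rcases unit_or_dvd σ hA hirr ((mem_Delta σ).mp hTm) with ⟨u, hu⟩ | ⟨T', hT', hTT'⟩
    · left
      have hinv : ((u⁻¹ : (Module.End ℤ_[p] M)ˣ) : Module.End ℤ_[p] M) ∈ Delta σ :=
        (mem_Delta σ).mpr (comm_inv σ ((mem_Delta σ).mp hTm) u hu)
      rw [isUnit_iff_exists]
      refine ⟨Ideal.Quotient.mk (pI σ) ⟨_, hinv⟩, ?_, ?_⟩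
      · rw [← map_mul, ← map_one (Ideal.Quotient.mk (pI σ))]
        congr 1
        apply Subtype.ext
        show T * ((u⁻¹ : (Module.End ℤ_[p] M)ˣ) : Module.End ℤ_[p] M) = 1
        rw [← hu, Units.mul_inv]
      · rw [← map_mul, ← map_one (Ideal.Quotient.mk (pI σ))]
        congr 1
        apply Subtype.ext
        show ((u⁻¹ : (Module.End ℤ_[p] M)ˣ) : Module.End ℤ_[p] M) * T = 1
        rw [← hu, Units.inv_mul]
    · right
      rw [Ideal.Quotient.eq_zero_iff_mem]
      exact (mem_pI σ).mpr ⟨⟨T', (mem_Delta σ).mpr hT'⟩, Subtype.ext hTT'⟩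
  have hnt : Nontrivial (Delta σ ⧸ pI σ) := by
    rw [Ideal.Quotient.nontrivial_iff]
    intro htop
    have h1 : (1 : Delta σ) ∈ pI σ := by rw [htop]; trivial
    obtain ⟨y, hy⟩ := (mem_pI σ).mp h1
    have hy' : (1 : Module.End ℤ_[p] M) = (p : ℤ_[p]) • (y : Module.End ℤ_[p] M) :=
      congrArg Subtype.val hy
    have hle : (⊤ : Submodule ℤ_[p] M) ≤ ⊥ ⊔ (p : ℤ_[p]) • (⊤ : Submodule ℤ_[p] M) := by
      intro m _
      refine Submodule.mem_sup_right ?_
      have : m = (p : ℤ_[p]) • (y : Module.End ℤ_[p] M) m := by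
        have := congrArg (fun f : Module.End ℤ_[p] M => f m) hy'
        simpa using this
      rw [this]
      exact Submodule.smul_mem_pointwise_smul _ _ _ Submodule.mem_top
    have := Cfsg.Agent.Lib.Helper3_DR.le_of_le_sup_smul ⊤ ⊥ hle
    obtain ⟨m, hm⟩ := exists_ne (0 : M)
    exact hm ((Submodule.mem_bot _).mp (this Submodule.mem_top))
  let _ : DivisionRing (Delta σ ⧸ pI σ) := DivisionRing.ofIsUnitOrEqZero h01
  let _ : Field (Delta σ ⧸ pI σ) := littleWedderburn _
  obtain ⟨g, hg⟩ := IsCyclic.exists_monoid_generator (α := (Delta σ ⧸ pI σ)ˣ)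
  obtain ⟨a₀, ha₀⟩ := Ideal.Quotient.mk_surjective (g : Delta σ ⧸ pI σ)
  -- every element of `Δ` is a polynomial in `a₀`
  have key : (Delta σ).toSubmodule ≤
      (Algebra.adjoin ℤ_[p] {(a₀ : Module.End ℤ_[p] M)}).toSubmodule := by
    apply Cfsg.Agent.Lib.Helper3_DR.le_of_le_sup_smul
    intro T hTm
    have hTm' : T ∈ Delta σ := hTm
    by_cases hx : Ideal.Quotient.mk (pI σ) ⟨T, hTm'⟩ = 0
    · rw [Ideal.Quotient.eq_zero_iff_mem] at hx
      obtain ⟨y, hy⟩ := (mem_pI σ).mp hx
      have hy' : T = (p : ℤ_[p]) • (y : Module.End ℤ_[p] M) := congrArg Subtype.val hy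
      rw [hy']
      exact Submodule.mem_sup_right (Submodule.smul_mem_pointwise_smul _ _ _ y.2)
    · obtain ⟨k, hk⟩ := hg (Units.mk0 _ hx)
      have hk' : (g : Delta σ ⧸ pI σ) ^ k = Ideal.Quotient.mk (pI σ) ⟨T, hTm'⟩ := by
        have := congrArg Units.val hk
        simpa using this
      rw [← ha₀, ← map_pow, Ideal.Quotient.eq] at hk'
      obtain ⟨y, hy⟩ := (mem_pI σ).mp hk'
      have hy' : (a₀ : Module.End ℤ_[p] M) ^ k - T = (p : ℤ_[p]) • (y : Module.End ℤ_[p] M) := by
        have := congrArg Subtype.val hy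
        simpa using this
      have hT' : T = (a₀ : Module.End ℤ_[p] M) ^ k + (p : ℤ_[p]) • (-(y : Module.End ℤ_[p] M)) := by
        rw [smul_neg, ← hy']; abel
      rw [hT']
      refine Submodule.add_mem _ (Submodule.mem_sup_left ?_) (Submodule.mem_sup_right ?_)
      · exact Subalgebra.pow_mem _ (Algebra.self_mem_adjoin_singleton _ _) k
      · exact Submodule.smul_mem_pointwise_smul _ _ _ ((Delta σ).toSubmodule.neg_mem y.2)
  have hS' := key ((mem_Delta σ).mpr hS)
  have hT' := key ((mem_Delta σ).mpr hT)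
  have h1 : Commute S (a₀ : Module.End ℤ_[p] M) :=
    (Algebra.commute_of_mem_adjoin_self hS').symm
  exact Algebra.commute_of_mem_adjoin_singleton_of_commute hT' h1

end partI

/-! ## Part II: the complexification -/

section partII

open Cfsg.Agent.Lib.Helper57_LatTr Representation

variable {A : Type*} [Group A] [Fintype A] {M : Type*} [AddCommGroup M] [Module ℤ_[p] M]
  (σ : Representation ℤ_[p] A M)
variable {n : ℕ} (b : Module.Basis (Fin n) ℤ_[p] M) (J : ℤ_[p] →+* ℂ)

/-- Matrix-level base change of endomorphisms, as a ring hom. -/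
noncomputable def Phi : Module.End ℤ_[p] M →+* Module.End ℂ (Fin n → ℂ) :=
  (Matrix.toLinAlgEquiv' : Matrix (Fin n) (Fin n) ℂ ≃ₐ[ℂ] _).toAlgHom.toRingHom.comp
    ((RingHom.mapMatrix J).comp (LinearMap.toMatrixAlgEquiv b).toAlgHom.toRingHom)

theorem baseChangeRep_apply (g : A) : baseChangeRep b J σ g = Phi b J (σ g) := rfl

theorem Phi_apply (T : Module.End ℤ_[p] M) :
    Phi b J T = Matrix.toLinAlgEquiv' ((LinearMap.toMatrixAlgEquiv b T).map J) := rfl

theorem Phi_smul (c : ℤ_[p]) (T : Module.End ℤ_[p] M) : Phi b J (c • T) = J c • Phi b J T := by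
  rw [Phi_apply, Phi_apply, map_smul, Matrix.map_smul' _ _ _ (map_mul J), map_smul]

theorem span_Phi (X : Module.End ℂ (Fin n → ℂ)) :
    X = ∑ i, ∑ k, (LinearMap.toMatrixAlgEquiv' X i k) •
      Phi b J ((LinearMap.toMatrixAlgEquiv b).symm (Matrix.single i k 1)) := by
  have h1 : ∀ i k, Phi b J ((LinearMap.toMatrixAlgEquiv b).symm (Matrix.single i k 1)) =
      Matrix.toLinAlgEquiv' (Matrix.single i k (1 : ℂ)) := by
    intro i k
    rw [Phi_apply, AlgEquiv.apply_symm_apply, Matrix.map_single, map_one]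
  simp_rw [h1, ← map_smul, ← map_sum, Matrix.smul_single, smul_eq_mul, mul_one]
  rw [← Matrix.matrix_eq_sum_single]
  simp

theorem Phi_avgC (u : ℤ_[p]) (T : Module.End ℤ_[p] M) :
    Phi b J (avgC σ u T) =
      J u • ∑ g : A, baseChangeRep b J σ g * Phi b J T * baseChangeRep b J σ g⁻¹ := by
  unfold avgC
  rw [Phi_smul, map_sum]
  congr 1
  refine Finset.sum_congr rfl fun g _ => ?_
  unfold cj
  rw [map_mul, map_mul]
  rfl

/-- The commutant of the complexification is spanned by the images of averaged integral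
endomorphisms. -/
theorem commutant_eq {u : ℤ_[p]} (hu : u * (Fintype.card A : ℤ_[p]) = 1)
    (X : Module.End ℂ (Fin n → ℂ)) (hX : ∀ g, Commute X (baseChangeRep b J σ g)) :
    ∃ c : Fin n → Fin n → ℂ, X = ∑ i, ∑ k, c i k •
      Phi b J (avgC σ u ((LinearMap.toMatrixAlgEquiv b).symm (Matrix.single i k 1))) := by
  obtain ⟨c, hc⟩ : ∃ c : Fin n → Fin n → ℂ, X = ∑ i, ∑ k, c i k •
      Phi b J ((LinearMap.toMatrixAlgEquiv b).symm (Matrix.single i k 1)) := ⟨_, span_Phi b J X⟩
  refine ⟨c, ?_⟩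
  have h1 : X = J u • ∑ g : A, baseChangeRep b J σ g * X * baseChangeRep b J σ g⁻¹ := by
    have h2 : ∀ g : A, baseChangeRep b J σ g * X * baseChangeRep b J σ g⁻¹ = X := by
      intro g
      rw [← (hX g).eq, mul_assoc, ← map_mul, mul_inv_cancel, map_one, mul_one]
    rw [Finset.sum_congr rfl (fun g _ => h2 g), Finset.sum_const, Finset.card_univ,
      ← Nat.cast_smul_eq_nsmul ℂ, smul_smul]
    have : J u * (Fintype.card A : ℂ) = 1 := by
      have := congrArg J hu
      simpa using this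
    rw [this, one_smul]
  simp_rw [Phi_avgC, smul_comm _ (J u), ← Finset.smul_sum]
  conv_lhs => rw [h1]
  congr 1
  have h3 : ∀ g : A, baseChangeRep b J σ g * X * baseChangeRep b J σ g⁻¹ =
      ∑ i, ∑ k, c i k • (baseChangeRep b J σ g *
        Phi b J ((LinearMap.toMatrixAlgEquiv b).symm (Matrix.single i k 1)) *
          baseChangeRep b J σ g⁻¹) := by
    intro g
    conv_lhs => rw [hc]
    simp only [Finset.mul_sum, Finset.sum_mul, mul_smul_comm, smul_mul_assoc]
  rw [Finset.sum_congr rfl (fun g _ => h3 g), Finset.sum_comm]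
  refine Finset.sum_congr rfl fun i _ => ?_
  rw [Finset.sum_comm]
  refine Finset.sum_congr rfl fun k _ => ?_
  rw [Finset.smul_sum]

/-- The commutant of the complexification of a `ℚ_p`-irreducible lattice of a `p'`-group is
commutative. -/
theorem commute_commutant [Module.Free ℤ_[p] M] [Module.Finite ℤ_[p] M]
    (hA : (Nat.card A).Coprime p) (hirr : IsQIrred σ)
    (X Y : Module.End ℂ (Fin n → ℂ)) (hX : ∀ g, Commute X (baseChangeRep b J σ g))
    (hY : ∀ g, Commute Y (baseChangeRep b J σ g)) : Commute X Y := by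
  obtain ⟨u, hu⟩ := exists_inv_card (p := p) hA
  obtain ⟨c, hc⟩ := commutant_eq σ b J hu X hX
  obtain ⟨d, hd⟩ := commutant_eq σ b J hu Y hY
  rw [hc, hd]
  refine Commute.sum_left _ _ _ fun i _ => Commute.sum_left _ _ _ fun k _ =>
    Commute.sum_right _ _ _ fun i' _ => Commute.sum_right _ _ _ fun k' _ => ?_
  refine (Commute.smul_left ?_ _).smul_right _
  refine Commute.map ?_ (Phi b J)
  exact comm_of_comm σ hA hirr ((comm_iff σ).2 (commute_avgC σ u _))
    ((comm_iff σ).2 (commute_avgC σ u _))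

/-- An irreducible representation has at most one independent intertwiner into a
representation with commutative commutant. -/
theorem finrank_intertwining_le_one {A : Type*} [Group A] [Finite A]
    {S V : Type*} [AddCommGroup S] [Module ℂ S] [FiniteDimensional ℂ S]
    [AddCommGroup V] [Module ℂ V]
    (τ : Representation ℂ A S) [hτ : τ.IsIrreducible] (ρ : Representation ℂ A V)
    (hcomm : ∀ X Y : Module.End ℂ V, (∀ g, Commute X (ρ g)) → (∀ g, Commute Y (ρ g)) →
      Commute X Y) :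
    Module.finrank ℂ (IntertwiningMap τ ρ) ≤ 1 := by
  have : NeZero (Nat.card A : ℂ) := ⟨by exact_mod_cast (Nat.card_pos (α := A)).ne'⟩
  by_cases h0 : ∀ f : IntertwiningMap τ ρ, f = 0
  · exact finrank_le_one (0 : IntertwiningMap τ ρ) (fun w => ⟨0, by rw [h0 w, smul_zero]⟩)
  push Not at h0
  obtain ⟨f₁, hf₁⟩ := h0
  have hinj : Function.Injective f₁ := (IsIrreducible.injective_or_eq_zero f₁).resolve_right hf₁
  obtain ⟨G, hG⟩ := MonoidAlgebra.exists_leftInverse_of_injective
    (IntertwiningMap.equivLinearMapAsModule τ ρ f₁) (by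
      rw [LinearMap.ker_eq_bot]; exact hinj)
  set g : IntertwiningMap ρ τ := (IntertwiningMap.equivLinearMapAsModule ρ τ).symm G with hgdef
  have hg : ∀ v : S, g (f₁ v) = v := fun v => LinearMap.congr_fun hG v
  refine finrank_le_one f₁ (fun f₂ => ?_)
  obtain ⟨c, hc⟩ := (IsIrreducible.algebraMap_intertwiningMap_bijective_of_isAlgClosed
    (ρ := τ)).2 (g.comp f₂)
  have hc' : ∀ v : S, g (f₂ v) = c • v := by
    intro v
    have := congrArg (fun F : IntertwiningMap τ τ => F v) hc
    simp only [IntertwiningMap.comp_apply] at this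
    rw [← this]
    rfl
  refine ⟨c, ?_⟩
  have hX1 : ∀ a, Commute (f₁.toLinearMap ∘ₗ g.toLinearMap) (ρ a) := by
    intro a
    ext v
    simp only [Module.End.mul_apply, LinearMap.comp_apply, IntertwiningMap.toLinearMap_apply]
    rw [g.isIntertwining, f₁.isIntertwining]
  have hX2 : ∀ a, Commute (f₂.toLinearMap ∘ₗ g.toLinearMap) (ρ a) := by
    intro a
    ext v
    simp only [Module.End.mul_apply, LinearMap.comp_apply, IntertwiningMap.toLinearMap_apply]
    rw [g.isIntertwining, f₂.isIntertwining]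
  have hXY := hcomm _ _ hX1 hX2
  apply IntertwiningMap.ext
  ext v
  have h1 := congrArg (fun F : Module.End ℂ V => F (f₁ v)) hXY.eq
  simp only [Module.End.mul_apply, LinearMap.comp_apply, IntertwiningMap.toLinearMap_apply,
    hg, hc', map_smul] at h1
  rw [IntertwiningMap.toLinearMap_apply, IntertwiningMap.toLinearMap_apply,
    IntertwiningMap.smul_apply]
  exact h1

end partII

/-- **Package GA5.** Schur index one for groups of order prime to `p`: the character of a
`ℚ_p`-irreducible `ℤ_p`-lattice of a `p'`-group is multiplicity free. -/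
theorem classInner_latChar_eq_zero_or_one {A : Type u} [Group A] [Fintype A]
    (hA : (Nat.card A).Coprime p)
    {M : Type*} [AddCommGroup M] [Module ℤ_[p] M] [Module.Free ℤ_[p] M] [Module.Finite ℤ_[p] M]
    (σ : Representation ℤ_[p] A M) (hirr : IsQIrred σ) (j : ℚ_[p] →+* ℂ) (ψ : IrrCharacter A) :
    classInner (latChar j σ) (ψ : A → ℂ) = 0 ∨ classInner (latChar j σ) (ψ : A → ℂ) = 1 := by
  obtain ⟨k, τ, hτ, hτψ⟩ := ψ.2
  set b := Module.finBasis ℤ_[p] M with hb
  set ρ := baseChangeRep b (jInt j) σ with hρ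
  have hchar : ρ.character = latChar j σ := by
    funext g
    rw [hρ, baseChangeRep_character]
    rfl
  have : Invertible (Nat.card A : ℂ) :=
    invertibleOfNonzero (by exact_mod_cast (Nat.card_pos (α := A)).ne')
  have h1 : classInner (latChar j σ) (ψ : A → ℂ) =
      (Module.finrank ℂ (Representation.IntertwiningMap τ ρ) : ℂ) := by
    rw [← Representation.card_inv_mul_sum_char_mul_char_eq_finrank τ ρ, hchar, hτψ]
    unfold classInner
    congr 1
    refine Finset.sum_congr rfl fun g _ => ?_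
    rw [Cfsg.Agent.Lib.Helper80_CharBasic.irr_inv]
  have h2 : Module.finrank ℂ (Representation.IntertwiningMap τ ρ) ≤ 1 :=
    finrank_intertwining_le_one τ ρ (fun X Y hX hY => commute_commutant σ b (jInt j) hA hirr X Y hX hY)
  rw [h1]
  rcases Nat.le_one_iff_eq_zero_or_eq_one.mp h2 with h | h
  · left; rw [h, Nat.cast_zero]
  · right; rw [h, Nat.cast_one]

end Cfsg.Agent.Lib.Helper87_GenA5
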