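import Mathlib
import Cfsg.Prelude.Def_Characters
import Cfsg.Agent.Lib.Helper57_GenDefs
import Cfsg.Agent.Lib.Helper57_CTZp
import Cfsg.Agent.Lib.Helper57_CTHyp
import Cfsg.Agent.Lib.Helper57_GalOrbit
import Cfsg.Agent.Lib.Helper17_LatChar
import Cfsg.Agent.Lib.Helper17_GenF1
import Cfsg.Agent.Lib.Helper87_GenA5
import Cfsg.Agent.Lib.Helper63_GenQ2
import Cfsg.Agent.Lib.Helper57_GenQ1

/-!
# The lattice theorem in complex-character form over `ℚ_p` (helper57)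

`ct_qp`: the statement `CTQp H p x₀ ΓH ΓN` of `Helper57_GenDefs` for every finite group `H` with a
Sylow subgroup `⟨x₀⟩` of order `p`; `ΓH`, `ΓN` are the Galois exponents of `j(ℚ_p)` for `H` and for the
normalizer.
-/

set_option autoImplicit false
set_option linter.unusedSectionVars false
open scoped ComplexConjugate

namespace Cfsg.Agent.Lib.Helper57_CTQp

open Cfsg Cfsg.Agent.Lib.Helper57_LatDefs Cfsg.Agent.Lib.Helper57_GenDefs
  Cfsg.Agent.Lib.Helper57_GalOrbit Cfsg.Agent.Lib.Helper17_LatChar Cfsg.Agent.Lib.Helper57_CTHyp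
  Cfsg.Agent.Lib.Helper57_CTZp Cfsg.Agent.Lib.Helper57_LatLocal

universe u

variable {p : ℕ} [hp : Fact p.Prime]

/-- The normalizer of a Sylow subgroup `⟨x₀⟩` of order `p`: a `p'`-complement. -/
theorem exists_complement_normalizer {H : Type*} [Group H] [Finite H] (x₀ : H)
    (hx₀ : orderOf x₀ = p) (hsyl : ¬ p ∣ (Subgroup.zpowers x₀).index) :
    ∃ K₀ : Subgroup (Subgroup.normalizer (Subgroup.zpowers x₀ : Set H)),
      (Nat.card K₀).Coprime p ∧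
      ∀ n : Subgroup.normalizer (Subgroup.zpowers x₀ : Set H), ∃ i : ℕ, ∃ k ∈ K₀,
        n = (⟨x₀, Subgroup.le_normalizer (Subgroup.mem_zpowers x₀)⟩ :
          Subgroup.normalizer (Subgroup.zpowers x₀ : Set H)) ^ i * k := by
  set P : Subgroup H := Subgroup.zpowers x₀ with hPdef
  set N : Subgroup H := Subgroup.normalizer (P : Set H) with hNdef
  set y₀ : N := ⟨x₀, Subgroup.le_normalizer (Subgroup.mem_zpowers x₀)⟩ with hy₀
  have hy₀ord : orderOf y₀ = p := by rw [← hx₀, hy₀, ← Subgroup.orderOf_coe]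
  have hzp : Subgroup.zpowers y₀ = P.subgroupOf N := by
    ext n
    rw [Subgroup.mem_subgroupOf, hPdef, Subgroup.mem_zpowers_iff, Subgroup.mem_zpowers_iff]
    constructor
    · rintro ⟨k, rfl⟩
      exact ⟨k, by simp [hy₀]⟩
    · rintro ⟨k, hk⟩
      exact ⟨k, Subtype.ext (by simpa [hy₀] using hk)⟩
  have hnorm : (Subgroup.zpowers y₀).Normal := by
    rw [hzp]
    exact Subgroup.normal_in_normalizer
  have hidx : ¬ p ∣ (Subgroup.zpowers y₀).index := by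
    rw [hzp]
    intro h
    apply hsyl
    have h1 : P.relIndex N * N.index = P.index := Subgroup.relIndex_mul_index Subgroup.le_normalizer
    rw [← h1]
    exact Dvd.dvd.mul_right h _
  exact exists_complement y₀ hy₀ord hnorm hidx

variable {H : Type u} [Group H] [Fintype H]

/-- **(CTℚ_p).** -/
theorem ct_qp (x₀ : H) (hx₀ : orderOf x₀ = p) (hsyl : ¬ p ∣ (Subgroup.zpowers x₀).index)
    (j : ℚ_[p] →+* ℂ) (ΓH : Set ℕ) (hH1 : 1 ∈ ΓH)
    (hHc : ∀ k ∈ ΓH, k.Coprime (Nat.card H)) (hHm : ∀ k ∈ ΓH, ∀ l ∈ ΓH, k * l ∈ ΓH)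
    (hHinv : ∀ χ : H → ℂ, IsCharacter H χ → (∀ g, χ g ∈ j.fieldRange) →
      ∀ k ∈ ΓH, ∀ g, χ (g ^ k) = χ g)
    (hHdesc : ∀ (s : Finset (IrrCharacter H)) (c : IrrCharacter H → ℂ),
      (∀ ψ ∈ s, c ψ ∈ j.fieldRange) →
      (∀ k ∈ ΓH, ∀ g, ∑ ψ ∈ s, c ψ * (ψ : H → ℂ) (g ^ k) = ∑ ψ ∈ s, c ψ * (ψ : H → ℂ) g) →
      ∀ g, ∑ ψ ∈ s, c ψ * (ψ : H → ℂ) g ∈ j.fieldRange)
    (ΓN : Set ℕ) (hN1 : 1 ∈ ΓN)
    (hNc : ∀ k ∈ ΓN, k.Coprime (Nat.card (Subgroup.normalizer (Subgroup.zpowers x₀ : Set H))))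
    (hNm : ∀ k ∈ ΓN, ∀ l ∈ ΓN, k * l ∈ ΓN)
    (hNi : ∀ k ∈ ΓN, ∃ l ∈ ΓN,
      k * l ≡ 1 [MOD Nat.card (Subgroup.normalizer (Subgroup.zpowers x₀ : Set H))])
    (hNinv : ∀ χ : Subgroup.normalizer (Subgroup.zpowers x₀ : Set H) → ℂ,
      IsCharacter (Subgroup.normalizer (Subgroup.zpowers x₀ : Set H)) χ →
      (∀ g, χ g ∈ j.fieldRange) → ∀ k ∈ ΓN, ∀ g, χ (g ^ k) = χ g)
    (hNdesc : ∀ (s : Finset (IrrCharacter (Subgroup.normalizer (Subgroup.zpowers x₀ : Set H))))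
      (c : IrrCharacter (Subgroup.normalizer (Subgroup.zpowers x₀ : Set H)) → ℂ),
      (∀ ψ ∈ s, c ψ ∈ j.fieldRange) →
      (∀ k ∈ ΓN, ∀ g, ∑ ψ ∈ s, c ψ *
        (ψ : Subgroup.normalizer (Subgroup.zpowers x₀ : Set H) → ℂ) (g ^ k) =
          ∑ ψ ∈ s, c ψ * (ψ : Subgroup.normalizer (Subgroup.zpowers x₀ : Set H) → ℂ) g) →
      ∀ g, ∑ ψ ∈ s, c ψ * (ψ : Subgroup.normalizer (Subgroup.zpowers x₀ : Set H) → ℂ) g ∈
        j.fieldRange) :
    CTQp H p x₀ ΓH ΓN := by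
  classical
  intro χ
  set N : Subgroup H := Subgroup.normalizer (Subgroup.zpowers x₀ : Set H) with hNdef
  let _ : Fintype N := Fintype.ofFinite N
  -- the lattice of the orbit of `χ`
  have hK : ∀ g : H, ∑ ψ ∈ orb ΓH χ, (ψ : H → ℂ) 1 * (ψ : H → ℂ) g ∈ j.range := by
    intro g
    have h1 := hHdesc (orb ΓH χ) (fun ψ => (ψ : H → ℂ) 1) (fun ψ _ => ?_) (fun k hk g => ?_) g
    · exact RingHom.mem_range.mpr (RingHom.mem_fieldRange.mp h1)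
    · obtain ⟨n, _, hn⟩ := Cfsg.Agent.Lib.Helper3_CharColumn.irr_one_eq_natCast ψ.2
      rw [hn]
      exact natCast_mem _ n
    · have h2 := sum_pw (orb ΓH χ) k (hHc k hk)
        (fun ψ hψ => pw_mem_orb ΓH hHm hψ hk (hHc k hk))
        (fun ψ => (ψ : H → ℂ) 1 * (ψ : H → ℂ) g)
      rw [← h2]
      refine Finset.sum_congr rfl (fun ψ _ => ?_)
      rw [pw_apply, pw_apply, one_pow]
  obtain ⟨L, iL1, iL2, iL3, iL4, ρ, hirr, hrank, hoff⟩ :=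
    exists_qirred_lattice j (orb ΓH χ) ⟨χ, self_mem_orb ΓH hH1 χ⟩ hK
  have hφ : IsCharacter H (latChar j ρ) := isCharacter_latChar j ρ
  have hinv := hHinv (latChar j ρ) hφ (latChar_mem_fieldRange j ρ)
  obtain ⟨s, hs⟩ := eq_mul_orbit_sum ΓH hHc hφ hinv χ hoff
  have hs0 : 0 < s := by
    rcases Nat.eq_zero_or_pos s with h0 | h0
    · exfalso
      have h1 := hs 1
      rw [h0, Nat.cast_zero, zero_mul, latChar_one] at h1
      exact hrank (by exact_mod_cast h1)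
    · exact h0
  have hirr' : Cfsg.Agent.Lib.Helper17_LatticeLocal.IsQIrred ρ := hirr
  rcases ct_zp ρ hirr' x₀ hx₀ hsyl with hz | ⟨δ, hδ, Y, i1, i2, i3, i4, σ, hσirr, hYrank, hσP, hσtr⟩
  · refine ⟨s, 0, ∅, hs0, Or.inl rfl, by simp, by simp, ?_⟩
    intro i hi hip v hv hpv
    rw [← hs]
    unfold latChar
    rw [hz i hi hip (v : H) hv (by rwa [Subgroup.orderOf_coe])]
    simp
  · obtain ⟨ψ, s', hs'0, hΨ⟩ := Cfsg.Agent.Lib.Helper17_GenF1.latChar_eq_mul_orbit_sum j ΓN hN1 hNc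
      hNm hNinv hNdesc σ hσirr hYrank
    obtain ⟨K₀, hK₀p, hNK⟩ := exists_complement_normalizer x₀ hx₀ hsyl
    let _ : Fintype K₀ := Fintype.ofFinite K₀
    set y₀ : N := ⟨x₀, Subgroup.le_normalizer (Subgroup.mem_zpowers x₀)⟩ with hy₀
    have hσy : σ y₀ = 1 := hσP y₀ (Subgroup.mem_zpowers x₀)
    have hs'1 : s' ≤ 1 := Cfsg.Agent.Lib.Helper57_GenQ1.mult_le_one y₀ K₀ hNK σ hσirr hσy j
      (orb ΓN ψ) ⟨ψ, self_mem_orb ΓN hN1 ψ⟩ s' hΨ
      (fun τ hτ θ => Cfsg.Agent.Lib.Helper87_GenA5.classInner_latChar_eq_zero_or_one hK₀p τ hτ j θ)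
    have hs'eq : s' = 1 := by omega
    have hΨ' : ∀ n, latChar j σ n = ∑ ψ' ∈ orb ΓN ψ, (ψ' : N → ℂ) n := by
      intro n
      rw [hΨ n, hs'eq, Nat.cast_one, one_mul]
    refine ⟨s, δ, orb ΓN ψ, hs0, ?_, ?_, ?_, ?_⟩
    · rcases hδ with h | h
      · exact Or.inr (Or.inl h)
      · exact Or.inr (Or.inr h)
    · intro ψ' hψ' h hh
      refine Cfsg.Agent.Lib.Helper63_GenQ2.ker_of_sum (orb ΓN ψ) h ?_ ψ' hψ'
      rw [← hΨ' h, ← hΨ' 1]
      unfold latChar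
      have h1 : σ 1 = 1 := map_one σ
      rw [hσP h hh, h1]
    · intro ψ₁ hψ₁ ψ₂ hψ₂
      obtain ⟨k₁, hk₁, h1⟩ := (mem_orb ΓN).mp hψ₁
      obtain ⟨k₂, hk₂, h2⟩ := (mem_orb ΓN).mp hψ₂
      obtain ⟨l₁, hl₁, hkl⟩ := hNi k₁ hk₁
      refine ⟨l₁ * k₂, hNm l₁ hl₁ k₂ hk₂, fun n => ?_⟩
      rw [h2, h1, ← pow_mul]
      have h3 : l₁ * k₂ * k₁ = (k₁ * l₁) * k₂ := by ring
      rw [h3, pow_mul]
      have h4 : n ^ (k₁ * l₁) = n ^ 1 := by
        rw [← pow_mod_card n (k₁ * l₁), ← pow_mod_card n 1]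
        congr 1
        rw [← Nat.card_eq_fintype_card]
        exact hkl
      rw [h4, pow_one]
    · intro i hi hip v hv hpv
      rw [← hs, ← hΨ' v]
      unfold latChar
      rw [hσtr i hi hip v hv hpv]
      push_cast
      rcases hδ with h | h <;> simp [h]

end Cfsg.Agent.Lib.Helper57_CTQp
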