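import Cfsg.Prelude.Def_OddOrderChar
import Cfsg.Agent.Lib.Helper3_CharOrtho
import Cfsg.Agent.S0146

set_option autoImplicit false

namespace Cfsg.Agent.Lib.Helper25_CyclicTI

open Cfsg
open Cfsg.Agent.Lib.Helper3_CharOrtho
open scoped ComplexConjugate

variable {G : Type*} [Group G] [Fintype G]

theorem classInner_sub_right (φ ψ₁ ψ₂ : G → ℂ) :
    Cfsg.classInner φ (ψ₁ - ψ₂) = Cfsg.classInner φ ψ₁ - Cfsg.classInner φ ψ₂ := by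
  simp [Cfsg.classInner, mul_sub, Finset.sum_sub_distrib]

/-- The function `(1 - φ)(1 - ψ)` on `W = W₁ ⊔ W₂`. -/
noncomputable def alphaFun (W₁ W₂ : Subgroup G) (φ ψ : ↥(W₁ ⊔ W₂) →* ℂˣ) : ↥(W₁ ⊔ W₂) → ℂ :=
  fun w => 1 - (φ w : ℂ) - (ψ w : ℂ) + (φ w : ℂ) * (ψ w : ℂ)

omit [Fintype G] in
theorem alphaFun_eq_zero (W₁ W₂ : Subgroup G) (φ ψ : ↥(W₁ ⊔ W₂) →* ℂˣ)
    (hφ : ∀ w : ↥(W₁ ⊔ W₂), (w : G) ∈ W₂ → φ w = 1)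
    (hψ : ∀ w : ↥(W₁ ⊔ W₂), (w : G) ∈ W₁ → ψ w = 1)
    (w : ↥(W₁ ⊔ W₂)) (hw : (w : G) ∈ W₁ ∨ (w : G) ∈ W₂) : alphaFun W₁ W₂ φ ψ w = 0 := by
  unfold alphaFun
  rcases hw with h | h
  · rw [hψ w h]; simp
  · rw [hφ w h]; simp

/-- A class function vanishing on `W \ (W₁ ∪ W₂)` is orthogonal to the function induced from
`(1 - φ)(1 - ψ)`. -/
theorem classInner_ind_alpha_eq_zero (W₁ W₂ : Subgroup G) (θ : G → ℂ) (hθ : Cfsg.IsClassFunction G θ)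
    (hθV : ∀ w : ↥(W₁ ⊔ W₂), (w : G) ∉ W₁ → (w : G) ∉ W₂ → θ w = 0)
    (φ ψ : ↥(W₁ ⊔ W₂) →* ℂˣ)
    (hφ : ∀ w : ↥(W₁ ⊔ W₂), (w : G) ∈ W₂ → φ w = 1)
    (hψ : ∀ w : ↥(W₁ ⊔ W₂), (w : G) ∈ W₁ → ψ w = 1) :
    Cfsg.classInner θ (Cfsg.indFun (W₁ ⊔ W₂) (alphaFun W₁ W₂ φ ψ)) = 0 := by
  classical
  let _ : Fintype ↥(W₁ ⊔ W₂) := Fintype.ofFinite _
  rw [← classInner_conj_symm, Cfsg.Agent.S0146.result (W₁ ⊔ W₂) _ θ hθ]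
  have : Cfsg.classInner (alphaFun W₁ W₂ φ ψ) (fun h : ↥(W₁ ⊔ W₂) => θ h) = 0 := by
    unfold Cfsg.classInner
    rw [Finset.sum_eq_zero, mul_zero]
    intro w _
    by_cases hw : (w : G) ∈ W₁ ∨ (w : G) ∈ W₂
    · rw [alphaFun_eq_zero W₁ W₂ φ ψ hφ hψ w hw, zero_mul]
    · have hw1 : (w : G) ∉ W₁ := fun h => hw (Or.inl h)
      have hw2 : (w : G) ∉ W₂ := fun h => hw (Or.inr h)
      show alphaFun W₁ W₂ φ ψ w * conj (θ (w : G)) = 0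
      rw [hθV w hw1 hw2]; simp
  rw [this, map_zero]

/-- The basic additive rule for the coefficients `a(ω) = ⟨θ, χ ω⟩`:
`a(φψ) = a(φ) + a(ψ) - a(1)`. -/
theorem coeff_mul (W₁ W₂ : Subgroup G) (χ : (↥(W₁ ⊔ W₂) →* ℂˣ) → (G → ℂ))
    (hχ : Cfsg.IsCyclicTIFamily W₁ W₂ χ) (θ : G → ℂ) (hθ : Cfsg.IsClassFunction G θ)
    (hθV : ∀ w : ↥(W₁ ⊔ W₂), (w : G) ∉ W₁ → (w : G) ∉ W₂ → θ w = 0)
    (φ ψ : ↥(W₁ ⊔ W₂) →* ℂˣ)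
    (hφ : ∀ w : ↥(W₁ ⊔ W₂), (w : G) ∈ W₂ → φ w = 1)
    (hψ : ∀ w : ↥(W₁ ⊔ W₂), (w : G) ∈ W₁ → ψ w = 1) :
    Cfsg.classInner θ (χ (φ * ψ)) =
      Cfsg.classInner θ (χ φ) + Cfsg.classInner θ (χ ψ) - Cfsg.classInner θ (χ 1) := by
  by_cases h1 : φ = 1
  · have e : φ * ψ = ψ := by rw [h1]; exact one_mul ψ
    rw [e, h1]; ring
  by_cases h2 : ψ = 1
  · have e : φ * ψ = φ := by rw [h2]; exact mul_one φ
    rw [e, h2]; ring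
  have hind := hχ.induced_eq φ ψ h1 h2 hφ hψ
  have h0 := classInner_ind_alpha_eq_zero W₁ W₂ θ hθ hθV φ ψ hφ hψ
  have hfun : (fun g => 1 - χ φ g - χ ψ g + χ (φ * ψ) g) = χ 1 - χ φ - χ ψ + χ (φ * ψ) := by
    funext g
    rw [hχ.map_one]
    simp
  unfold alphaFun at h0
  rw [hind, hfun, classInner_add_right, classInner_sub_right, classInner_sub_right] at h0
  linear_combination h0

end Cfsg.Agent.Lib.Helper25_CyclicTI
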