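import Cfsg.Prelude.Def_OddOrderChar
import Mathlib.GroupTheory.Complement
import Mathlib.GroupTheory.Index
import Mathlib.Algebra.Group.Subgroup.Pointwise

set_option autoImplicit false

namespace Cfsg.Agent.Lib.Helper25_Dade

open Cfsg

/-- Inside a subgroup `C`, if `N` is normalized by `C`, `N ⊓ M = ⊥`, `N ⊔ M = C` then
`|N| * |M| = |C|`. -/
theorem card_mul_card_of_semidirect {G : Type*} [Group G] [Finite G] (C N M : Subgroup G)
    (hNC : N ≤ C) (hMC : M ≤ C) (hnorm : C ≤ Subgroup.normalizer (N : Set G))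
    (hinf : N ⊓ M = ⊥) (hsup : N ⊔ M = C) :
    Subgroup.IsComplement' (N.subgroupOf C) (M.subgroupOf C) := by
  have hn : (N.subgroupOf C).Normal := (Subgroup.normal_subgroupOf_iff_le_normalizer hNC).mpr hnorm
  apply Subgroup.isComplement'_of_disjoint_and_mul_eq_univ
  · rw [disjoint_iff]
    ext ⟨c, hc⟩
    simp only [Subgroup.mem_inf, Subgroup.mem_subgroupOf, Subgroup.mem_bot]
    constructor
    · rintro ⟨h1, h2⟩
      have : c ∈ N ⊓ M := ⟨h1, h2⟩
      rw [hinf, Subgroup.mem_bot] at this
      exact Subtype.ext this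
    · intro h
      have : c = 1 := congrArg Subtype.val h
      subst this
      exact ⟨N.one_mem, M.one_mem⟩
  · have h1 : N.subgroupOf C ⊔ M.subgroupOf C = ⊤ := by
      rw [← Subgroup.subgroupOf_sup hNC hMC, hsup]
      exact Subgroup.subgroupOf_self C
    rw [← Subgroup.normal_mul, h1]
    rfl

/-- A subgroup `K ≤ C` of order coprime to `|M|` lies in the normal complement `N` of `M` in `C`. -/
theorem le_of_coprime_complement {G : Type*} [Group G] [Finite G] (C N M K : Subgroup G)
    (hNC : N ≤ C) (hMC : M ≤ C) (hKC : K ≤ C) (hnorm : C ≤ Subgroup.normalizer (N : Set G))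
    (hinf : N ⊓ M = ⊥) (hsup : N ⊔ M = C) (hcop : (Nat.card K).Coprime (Nat.card M)) :
    K ≤ N := by
  have hn : (N.subgroupOf C).Normal := (Subgroup.normal_subgroupOf_iff_le_normalizer hNC).mpr hnorm
  have hcompl := card_mul_card_of_semidirect C N M hNC hMC hnorm hinf hsup
  have hidx : (N.subgroupOf C).index = Nat.card M := by
    rw [hcompl.symm.index_eq_card]
    exact Nat.card_congr (Subgroup.subgroupOfEquivOfLe hMC).toEquiv
  have hK : Nat.card (K.subgroupOf C) = Nat.card K :=
    Nat.card_congr (Subgroup.subgroupOfEquivOfLe hKC).toEquiv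
  have h1 : (N.subgroupOf C).relIndex (K.subgroupOf C) ∣ Nat.card M := by
    rw [← hidx]
    exact Subgroup.relIndex_dvd_index_of_normal _ _
  have h2 : (N.subgroupOf C).relIndex (K.subgroupOf C) ∣ Nat.card K := by
    rw [← hK]
    exact Subgroup.relIndex_dvd_card _ _
  have h3 : (N.subgroupOf C).relIndex (K.subgroupOf C) = 1 :=
    Nat.eq_one_of_dvd_coprimes hcop h2 h1
  rw [Subgroup.relIndex_eq_one] at h3
  intro k hk
  have : (⟨k, hKC hk⟩ : C) ∈ K.subgroupOf C := by
    rw [Subgroup.mem_subgroupOf]; exact hk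
  have := h3 this
  rw [Subgroup.mem_subgroupOf] at this
  exact this

/-- Under the Dade hypothesis, conjugating `H a` by `x ∈ L` lands inside `H (x a x⁻¹)`. -/
theorem map_conj_le {G : Type*} [Group G] [Finite G] (A : Set G) (L : Subgroup G) (H : G → Subgroup G)
    (hD : Cfsg.DadeHypothesis A L H) (a : G) (ha : a ∈ A) (x : G) (hx : x ∈ L) :
    (H a).map (MulAut.conj x).toMonoidHom ≤ H (x * a * x⁻¹) := by
  have ha' : x * a * x⁻¹ ∈ A := hD.conj_mem x hx a ha
  set a' := x * a * x⁻¹ with ha'def
  apply le_of_coprime_complement (Subgroup.centralizer ({a'} : Set G)) (H a')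
    (L ⊓ Subgroup.centralizer ({a'} : Set G)) _ (hD.le_centralizer a' ha') inf_le_right
  · -- K ≤ C(a')
    rintro _ ⟨u, hu, rfl⟩
    have huc : u ∈ Subgroup.centralizer ({a} : Set G) := hD.le_centralizer a ha hu
    have hcomm : a * u = u * a := (Subgroup.mem_centralizer_iff.mp huc) a rfl
    rw [Subgroup.mem_centralizer_iff]
    intro h hh
    have : h = a' := hh
    subst this
    simp only [MulEquiv.coe_toMonoidHom, MulAut.conj_apply, ha'def]
    calc x * a * x⁻¹ * (x * u * x⁻¹) = x * (a * u) * x⁻¹ := by group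
      _ = x * (u * a) * x⁻¹ := by rw [hcomm]
      _ = x * u * x⁻¹ * (x * a * x⁻¹) := by group
  · -- C(a') normalizes H a'
    intro c hc
    rw [Subgroup.mem_normalizer_iff]
    intro h
    constructor
    · intro hh
      exact hD.conj_mem_H a' ha' c hc h hh
    · intro hh
      have := hD.conj_mem_H a' ha' c⁻¹ (Subgroup.inv_mem _ hc) _ hh
      have e : c⁻¹ * (c * h * c⁻¹) * c⁻¹⁻¹ = h := by group
      rwa [e] at this
  · exact hD.inf_eq_bot a' ha'
  · exact hD.sup_eq a' ha'
  · have hcard : Nat.card ((H a).map (MulAut.conj x).toMonoidHom) = Nat.card (H a) :=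
      Nat.card_congr ((H a).equivMapOfInjective _ (MulAut.conj x).injective).toEquiv.symm
    rw [hcard]
    exact hD.coprime a ha a' ha'

end Cfsg.Agent.Lib.Helper25_Dade
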