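import Cfsg.Prelude.Def_OddOrderChar
import Cfsg.Agent.Lib.Helper25_Dade
import Mathlib.GroupTheory.FiniteAbelian.Duality
import Mathlib.RingTheory.RootsOfUnity.AlgebraicallyClosed
import Mathlib.Analysis.Complex.Polynomial.Basic

set_option autoImplicit false
set_option linter.style.haveILetI false

namespace Cfsg.Agent.Lib.Helper25_CyclicDual

open Cfsg

/-- The number of linear characters of a finite cyclic group equals its order. -/
theorem card_hom_cyclic (W : Type*) [Group W] [Finite W] [IsCyclic W] :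
    Nat.card (W →* ℂˣ) = Nat.card W := by
  letI : CommGroup W := IsCyclic.commGroup
  haveI : NeZero (Monoid.exponent W) := ⟨Monoid.exponent_ne_zero_of_finite⟩
  exact CommGroup.card_monoidHom_of_hasEnoughRootsOfUnity W ℂ

variable {G : Type*} [Group G]

/-- Two linear characters of `W₁ ⊔ W₂` agreeing on `W₁` and on `W₂` are equal. -/
theorem hom_ext_sup (W₁ W₂ : Subgroup G) (ω ω' : ↥(W₁ ⊔ W₂) →* ℂˣ)
    (h₁ : ∀ w : ↥(W₁ ⊔ W₂), (w : G) ∈ W₁ → ω w = ω' w)
    (h₂ : ∀ w : ↥(W₁ ⊔ W₂), (w : G) ∈ W₂ → ω w = ω' w) : ω = ω' := by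
  have hle : (W₁ ⊔ W₂ : Subgroup G) ≤ (ω.eqLocus ω').map (W₁ ⊔ W₂).subtype := by
    apply sup_le
    · intro x hx
      exact ⟨⟨x, Subgroup.mem_sup_left hx⟩, h₁ ⟨x, Subgroup.mem_sup_left hx⟩ hx, rfl⟩
    · intro x hx
      exact ⟨⟨x, Subgroup.mem_sup_right hx⟩, h₂ ⟨x, Subgroup.mem_sup_right hx⟩ hx, rfl⟩
  ext w
  obtain ⟨w', hw', hww'⟩ := hle w.2
  have : w' = w := Subtype.ext hww'
  subst this
  exact congrArg Units.val hw'

/-- Unique factorisation `ω = φ ψ` with `φ` trivial on `W₂` and `ψ` trivial on `W₁`. -/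
theorem mul_eq_mul (W₁ W₂ : Subgroup G) (φ φ' ψ ψ' : ↥(W₁ ⊔ W₂) →* ℂˣ)
    (hφ : ∀ w : ↥(W₁ ⊔ W₂), (w : G) ∈ W₂ → φ w = 1)
    (hφ' : ∀ w : ↥(W₁ ⊔ W₂), (w : G) ∈ W₂ → φ' w = 1)
    (hψ : ∀ w : ↥(W₁ ⊔ W₂), (w : G) ∈ W₁ → ψ w = 1)
    (hψ' : ∀ w : ↥(W₁ ⊔ W₂), (w : G) ∈ W₁ → ψ' w = 1)
    (h : φ * ψ = φ' * ψ') : φ = φ' ∧ ψ = ψ' := by
  constructor
  · apply hom_ext_sup
    · intro w hw
      have := DFunLike.congr_fun h w
      simpa [hψ w hw, hψ' w hw] using this
    · intro w hw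
      rw [hφ w hw, hφ' w hw]
  · apply hom_ext_sup
    · intro w hw
      rw [hψ w hw, hψ' w hw]
    · intro w hw
      have := DFunLike.congr_fun h w
      simpa [hφ w hw, hφ' w hw] using this

/-- `|W₁ ⊔ W₂| = |W₁| |W₂|` for commuting subgroups with trivial intersection. -/
theorem card_sup_of_commute [Finite G] (W₁ W₂ : Subgroup G) (hdisj : W₁ ⊓ W₂ = ⊥)
    (hcomm : ∀ a ∈ W₁, ∀ b ∈ W₂, a * b = b * a) :
    Nat.card ↥(W₁ ⊔ W₂) = Nat.card W₁ * Nat.card W₂ := by
  have hnorm : W₁ ⊔ W₂ ≤ Subgroup.normalizer (W₁ : Set G) := by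
    apply sup_le
    · exact Subgroup.le_normalizer
    · intro b hb
      rw [Subgroup.mem_normalizer_iff]
      intro a
      constructor
      · intro ha
        have : b * a * b⁻¹ = a := by rw [← hcomm a ha b hb]; group
        rw [this]; exact ha
      · intro ha
        have h1 : (b * a * b⁻¹) * b = b * (b * a * b⁻¹) := hcomm _ ha b hb
        have h2 : a = b * a * b⁻¹ := by
          have : b * a = b * (b * a * b⁻¹) := by rw [← h1]; group
          exact mul_left_cancel this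
        rw [h2]; exact ha
  have hc := Cfsg.Agent.Lib.Helper25_Dade.card_mul_card_of_semidirect (W₁ ⊔ W₂) W₁ W₂
    le_sup_left le_sup_right hnorm hdisj rfl
  have h1 := hc.card_mul_card
  rw [Nat.card_congr (Subgroup.subgroupOfEquivOfLe (le_sup_left : W₁ ≤ W₁ ⊔ W₂)).toEquiv,
    Nat.card_congr (Subgroup.subgroupOfEquivOfLe (le_sup_right : W₂ ≤ W₁ ⊔ W₂)).toEquiv] at h1
  exact h1.symm

/-- The characters of a cyclic group `W` trivial on a subgroup `N` are as many as `|W| / |N|`. -/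
theorem card_hom_trivial_on (W : Type*) [Group W] [Finite W] [IsCyclic W] (N : Subgroup W) :
    Nat.card {φ : W →* ℂˣ // ∀ w ∈ N, φ w = 1} * Nat.card N = Nat.card W := by
  haveI hN : N.Normal := by
    constructor
    intro n hn g
    have : g * n * g⁻¹ = n := by
      rw [mul_comm' g n]; group
    rw [this]; exact hn
  let e : {φ : W →* ℂˣ // ∀ w ∈ N, φ w = 1} ≃ (W ⧸ N →* ℂˣ) :=
    { toFun := fun φ => QuotientGroup.lift N φ.1 (fun w hw => φ.2 w hw)
      invFun := fun η => ⟨η.comp (QuotientGroup.mk' N), fun w hw => by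
        have : QuotientGroup.mk' N w = 1 := (QuotientGroup.eq_one_iff w).mpr hw
        show η (QuotientGroup.mk' N w) = 1
        rw [this, map_one]⟩
      left_inv := by
        intro φ
        apply Subtype.ext
        ext w
        rfl
      right_inv := by
        intro η
        ext x
        rfl }
  haveI : IsCyclic (W ⧸ N) := isCyclic_of_surjective (QuotientGroup.mk' N) (QuotientGroup.mk'_surjective N)
  rw [Nat.card_congr e, card_hom_cyclic, ← Subgroup.index_eq_card, Subgroup.index_mul_card]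

end Cfsg.Agent.Lib.Helper25_CyclicDual
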