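import Cfsg.Prelude.Def_OddOrderChar
import Cfsg.Prelude.Def_OddOrderLocal
import Cfsg.Agent.Lib.Helper3_CharOrtho
import Cfsg.Agent.Lib.Helper75_Induced

set_option autoImplicit false
set_option linter.style.haveILetI false

namespace Cfsg.Agent.Lib.Helper25_TIInd

open Cfsg
open Cfsg.Agent.Lib.Helper3_CharOrtho
open scoped ComplexConjugate

/-- In a finite cyclic group, a subgroup `N` consists exactly of the elements `u` with
`u ^ |N| = 1`. -/
theorem mem_iff_pow_card_eq_one (W : Type*) [Group W] [Finite W] [IsCyclic W] (N : Subgroup W)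
    (u : W) : u ∈ N ↔ u ^ Nat.card N = 1 := by
  classical
  letI : Fintype W := Fintype.ofFinite W
  constructor
  · intro hu
    have h1 : (⟨u, hu⟩ : N) ^ Nat.card N = 1 := pow_card_eq_one'
    have h2 := congrArg Subtype.val h1
    simp only [Subgroup.coe_pow, Subgroup.coe_one] at h2
    exact h2
  · intro hu
    have hle := IsCyclic.card_pow_eq_one_le (α := W) (n := Nat.card N) Nat.card_pos
    have hTS : (Finset.univ.filter (fun a : W => a ∈ N)) ⊆
        (Finset.univ.filter (fun a : W => a ^ Nat.card N = 1)) := by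
      intro a ha
      simp only [Finset.mem_filter, Finset.mem_univ, true_and] at ha ⊢
      have h1 : (⟨a, ha⟩ : N) ^ Nat.card N = 1 := pow_card_eq_one'
      have h2 := congrArg Subtype.val h1
      simp only [Subgroup.coe_pow, Subgroup.coe_one] at h2
      exact h2
    have hT : (Finset.univ.filter (fun a : W => a ∈ N)).card = Nat.card N := by
      rw [Nat.card_eq_fintype_card, Fintype.card_subtype]
    have heq := Finset.eq_of_subset_of_card_le hTS (by rw [hT]; exact hle)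
    have : u ∈ (Finset.univ.filter (fun a : W => a ^ Nat.card N = 1)) := by
      simp only [Finset.mem_filter, Finset.mem_univ, true_and]; exact hu
    rw [← heq] at this
    simpa using this

variable {G : Type*} [Group G]

/-- For `u ∈ W = W₁ ⊔ W₂` cyclic: `u ∈ W₁ ↔ u ^ |W₁| = 1`. -/
theorem mem_left_iff [Finite G] (W₁ W₂ : Subgroup G) [IsCyclic ↥(W₁ ⊔ W₂)] (u : G)
    (hu : u ∈ W₁ ⊔ W₂) : u ∈ W₁ ↔ u ^ Nat.card W₁ = 1 := by
  have h := mem_iff_pow_card_eq_one ↥(W₁ ⊔ W₂) (W₁.subgroupOf (W₁ ⊔ W₂)) ⟨u, hu⟩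
  rw [Subgroup.mem_subgroupOf,
    Nat.card_congr (Subgroup.subgroupOfEquivOfLe (le_sup_left : W₁ ≤ W₁ ⊔ W₂)).toEquiv] at h
  rw [h]
  constructor
  · intro h1
    have := congrArg Subtype.val h1
    simpa using this
  · intro h1
    apply Subtype.ext
    simpa using h1

theorem mem_right_iff [Finite G] (W₁ W₂ : Subgroup G) [IsCyclic ↥(W₁ ⊔ W₂)] (u : G)
    (hu : u ∈ W₁ ⊔ W₂) : u ∈ W₂ ↔ u ^ Nat.card W₂ = 1 := by
  have h := mem_iff_pow_card_eq_one ↥(W₁ ⊔ W₂) (W₂.subgroupOf (W₁ ⊔ W₂)) ⟨u, hu⟩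
  rw [Subgroup.mem_subgroupOf,
    Nat.card_congr (Subgroup.subgroupOfEquivOfLe (le_sup_right : W₂ ≤ W₁ ⊔ W₂)).toEquiv] at h
  rw [h]
  constructor
  · intro h1
    have := congrArg Subtype.val h1
    simpa using this
  · intro h1
    apply Subtype.ext
    simpa using h1

theorem conj_pow_eq_one_iff (x u : G) (n : ℕ) : (x⁻¹ * u * x) ^ n = 1 ↔ u ^ n = 1 := by
  have : (x⁻¹ * u * x) ^ n = x⁻¹ * u ^ n * x := by
    have := map_pow (MulAut.conj x⁻¹) u n
    simp only [MulAut.conj_apply, inv_inv] at this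
    exact this.symm ▸ rfl
  rw [this]
  constructor
  · intro h
    have : u ^ n = x * (x⁻¹ * u ^ n * x) * x⁻¹ := by group
    rw [this, h]; group
  · intro h
    rw [h]; group

/-- The trivial-intersection property of `V = W \ (W₁ ∪ W₂)`. -/
theorem mem_of_conj_mem [Finite G] (W₁ W₂ : Subgroup G) (hW : Cfsg.IsSelfNormalizingCyclic W₁ W₂)
    (w x : G) (hw : w ∈ W₁ ⊔ W₂) (hw₁ : w ∉ W₁) (hw₂ : w ∉ W₂)
    (hv : x⁻¹ * w * x ∈ W₁ ⊔ W₂) (hv₁ : x⁻¹ * w * x ∉ W₁) (hv₂ : x⁻¹ * w * x ∉ W₂) :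
    x ∈ W₁ ⊔ W₂ := by
  obtain ⟨_, _, _, _, hcyc, hnorm⟩ := hW
  haveI := hcyc
  have hcentOf : ∀ y : G, y ∈ W₁ ⊔ W₂ → y ∉ W₁ → y ∉ W₂ →
      Subgroup.centralizer ({y} : Set G) = W₁ ⊔ W₂ := by
    intro y hy hy₁ hy₂
    rw [← Subgroup.normalizer_singleton]
    apply hnorm {y} ?_ (Set.singleton_nonempty _)
    intro z hz
    have : z = y := hz
    subst this
    refine ⟨hy, ?_⟩
    rintro (h | h)
    · exact hy₁ h
    · exact hy₂ h
  have hCw := hcentOf w hw hw₁ hw₂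
  have hCv := hcentOf _ hv hv₁ hv₂
  -- x normalizes W
  have hxW : ∀ u : G, u ∈ W₁ ⊔ W₂ ↔ x⁻¹ * u * x ∈ W₁ ⊔ W₂ := by
    intro u
    have key : u ∈ Subgroup.centralizer ({w} : Set G) ↔
        x⁻¹ * u * x ∈ Subgroup.centralizer ({x⁻¹ * w * x} : Set G) := by
      rw [Subgroup.mem_centralizer_iff, Subgroup.mem_centralizer_iff]
      constructor
      · intro h y hy
        have hy' : y = x⁻¹ * w * x := hy
        subst hy'
        have := h w rfl
        calc x⁻¹ * w * x * (x⁻¹ * u * x) = x⁻¹ * (w * u) * x := by group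
          _ = x⁻¹ * (u * w) * x := by rw [this]
          _ = x⁻¹ * u * x * (x⁻¹ * w * x) := by group
      · intro h y hy
        have hy' : y = w := hy
        subst hy'
        have := h (x⁻¹ * y * x) rfl
        have e : x⁻¹ * (y * u) * x = x⁻¹ * (u * y) * x := by
          calc x⁻¹ * (y * u) * x = x⁻¹ * y * x * (x⁻¹ * u * x) := by group
            _ = x⁻¹ * u * x * (x⁻¹ * y * x) := this
            _ = x⁻¹ * (u * y) * x := by group
        have e2 : x * (x⁻¹ * (y * u) * x) * x⁻¹ = x * (x⁻¹ * (u * y) * x) * x⁻¹ := by rw [e]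
        have l : x * (x⁻¹ * (y * u) * x) * x⁻¹ = y * u := by group
        have r : x * (x⁻¹ * (u * y) * x) * x⁻¹ = u * y := by group
        rw [l, r] at e2
        exact e2
    rw [hCw, hCv] at key
    exact key
  -- x⁻¹ normalizes the set V
  have hxV : x⁻¹ ∈ Subgroup.normalizer ((↑(W₁ ⊔ W₂) : Set G) \ (↑W₁ ∪ ↑W₂)) := by
    rw [Subgroup.mem_set_normalizer_iff]
    intro n
    rw [inv_inv]
    simp only [Set.mem_sdiff, SetLike.mem_coe, Set.mem_union, not_or]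
    constructor
    · rintro ⟨hn, hn₁, hn₂⟩
      have hn' := (hxW n).mp hn
      refine ⟨hn', ?_, ?_⟩
      · rw [mem_left_iff W₁ W₂ _ hn', conj_pow_eq_one_iff, ← mem_left_iff W₁ W₂ _ hn]
        exact hn₁
      · rw [mem_right_iff W₁ W₂ _ hn', conj_pow_eq_one_iff, ← mem_right_iff W₁ W₂ _ hn]
        exact hn₂
    · rintro ⟨hn', hn₁, hn₂⟩
      have hn := (hxW n).mpr hn'
      refine ⟨hn, ?_, ?_⟩
      · rw [mem_left_iff W₁ W₂ _ hn', conj_pow_eq_one_iff, ← mem_left_iff W₁ W₂ _ hn] at hn₁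
        exact hn₁
      · rw [mem_right_iff W₁ W₂ _ hn', conj_pow_eq_one_iff, ← mem_right_iff W₁ W₂ _ hn] at hn₂
        exact hn₂
  have hVne : ((↑(W₁ ⊔ W₂) : Set G) \ (↑W₁ ∪ ↑W₂)).Nonempty := by
    refine ⟨w, hw, ?_⟩
    rintro (h | h)
    · exact hw₁ h
    · exact hw₂ h
  rw [hnorm _ (subset_refl _) hVne] at hxV
  have := Subgroup.inv_mem _ hxV
  rwa [inv_inv] at this

/-- Induction from the TI-subset `V = W \ (W₁ ∪ W₂)`: a function on `W` vanishing on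
`W₁ ∪ W₂` is reproduced on `V` by induction. -/
theorem indFun_apply_of_TI [Fintype G] (W₁ W₂ : Subgroup G)
    (hW : Cfsg.IsSelfNormalizingCyclic W₁ W₂) (f : ↥(W₁ ⊔ W₂) → ℂ)
    (hf : ∀ w : ↥(W₁ ⊔ W₂), ((w : G) ∈ W₁ ∨ (w : G) ∈ W₂) → f w = 0)
    (w : ↥(W₁ ⊔ W₂)) (hw₁ : (w : G) ∉ W₁) (hw₂ : (w : G) ∉ W₂) :
    Cfsg.indFun (W₁ ⊔ W₂) f w = f w := by
  classical
  have hcyc : IsCyclic ↥(W₁ ⊔ W₂) := hW.2.2.2.2.1
  have hterm : ∀ x : G, Cfsg.extendByZero (W₁ ⊔ W₂) f (x⁻¹ * (w : G) * x) =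
      if x ∈ W₁ ⊔ W₂ then f w else 0 := by
    intro x
    by_cases hx : x ∈ W₁ ⊔ W₂
    · rw [if_pos hx]
      have hcomm : (⟨x, hx⟩ : ↥(W₁ ⊔ W₂))⁻¹ * w * ⟨x, hx⟩ = w := by
        rw [mul_comm' (⟨x, hx⟩ : ↥(W₁ ⊔ W₂))⁻¹ w]; group
      have h2 : x⁻¹ * (w : G) * x = (w : G) := by
        have := congrArg Subtype.val hcomm
        simpa using this
      rw [h2]
      exact Cfsg.Agent.Lib.Helper75_Induced.extendByZero_coe _ f w
    · rw [if_neg hx]
      by_cases hv : x⁻¹ * (w : G) * x ∈ W₁ ⊔ W₂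
      · rw [Cfsg.Agent.Lib.Helper75_Induced.extendByZero_of_mem _ f hv]
        by_cases hv' : (x⁻¹ * (w : G) * x ∈ W₁ ∨ x⁻¹ * (w : G) * x ∈ W₂)
        · exact hf ⟨_, hv⟩ hv'
        · exfalso
          apply hx
          exact mem_of_conj_mem W₁ W₂ hW (w : G) x w.2 hw₁ hw₂ hv
            (fun h => hv' (Or.inl h)) (fun h => hv' (Or.inr h))
      · exact Cfsg.Agent.Lib.Helper75_Induced.extendByZero_of_not_mem _ f hv
  rw [Cfsg.Agent.Lib.Helper75_Induced.indFun_apply]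
  simp_rw [hterm]
  rw [Finset.sum_ite, Finset.sum_const_zero, add_zero, Finset.sum_const, nsmul_eq_mul]
  have hcard : (Finset.univ.filter (fun x : G => x ∈ W₁ ⊔ W₂)).card = Nat.card ↥(W₁ ⊔ W₂) := by
    rw [Nat.card_eq_fintype_card, Fintype.card_subtype]
  rw [hcard]
  have : (Nat.card ↥(W₁ ⊔ W₂) : ℂ) ≠ 0 := by
    exact_mod_cast (Nat.card_pos (α := ↥(W₁ ⊔ W₂))).ne'
  field_simp

end Cfsg.Agent.Lib.Helper25_TIInd
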