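import Mathlib
import Cfsg.Prelude.Def_Characters
import Cfsg.Prelude.Def_OddOrderChar
import Cfsg.Prelude.Def_OddOrderLocal
import Cfsg.Agent.Lib.Helper3_CharOrtho
import Cfsg.Agent.Lib.Helper3_CharBridge
import Cfsg.Agent.Lib.Helper3_CharComplete
import Cfsg.Agent.Lib.Helper75_CharArith
import Cfsg.Agent.Lib.Helper75_Induced
import Cfsg.Agent.Lib.Helper79_Linear
import Cfsg.Agent.Lib.Helper25_CyclicTI
import Cfsg.Agent.Lib.Helper25_CyclicDual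
import Cfsg.Agent.S0146
import Cfsg.Agent.S1505

/-!
# Integral coefficients of the induced functions of a cyclic TI subgroup (helper16)

For `W = W₁ ⊔ W₂` as in Peterfalvi (3.1), the class functions `Ind (1 - φ)(1 - ψ) - 1` have integral
coefficients on the irreducible characters of `G`, and the Gram matrix of their coefficient vectors is
`[φ = φ'] + [ψ = ψ'] + [φ = φ'][ψ = ψ']`.
-/

set_option autoImplicit false

namespace Cfsg.Agent.Lib.Helper16_CycCoeff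

open Cfsg.Agent.Lib.Helper3_CharOrtho Cfsg.Agent.Lib.Helper3_CharBridge
open Cfsg.Agent.Lib.Helper3_CharComplete Cfsg.Agent.Lib.Helper75_CharArith
open scoped ComplexConjugate

variable {G : Type*} [Group G] [Fintype G]

omit [Fintype G] in
/-- The principal character is irreducible. -/
theorem isIrrCharacter_one : Cfsg.IsIrrCharacter G (fun _ => (1 : ℂ)) := by
  have := Cfsg.Agent.Lib.Helper79_Linear.isIrrCharacter_of_hom (1 : G →* ℂˣ)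
  simpa using this

/-- Parseval for class functions with integral coefficients. -/
theorem classInner_eq_int_dot {θ₁ θ₂ : G → ℂ} (h₁ : Cfsg.IsClassFunction G θ₁)
    {c₁ c₂ : Cfsg.IrrCharacter G → ℤ}
    (hc₁ : ∀ χ : Cfsg.IrrCharacter G, Cfsg.classInner θ₁ χ = c₁ χ)
    (hc₂ : ∀ χ : Cfsg.IrrCharacter G, Cfsg.classInner θ₂ χ = c₂ χ) :
    Cfsg.classInner θ₁ θ₂ = ((∑ χ : Cfsg.IrrCharacter G, c₁ χ * c₂ χ : ℤ) : ℂ) := by
  rw [classInner_eq_sum_irr h₁ θ₂]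
  push_cast
  refine Finset.sum_congr rfl fun χ _ => ?_
  rw [hc₁ χ, ← classInner_conj_symm θ₂ χ, hc₂ χ, map_intCast]

/-- The class function `Ind (1 - φ)(1 - ψ) - 1`. -/
noncomputable def betaFun (W₁ W₂ : Subgroup G) (φ ψ : ↥(W₁ ⊔ W₂) →* ℂˣ) : G → ℂ :=
  Cfsg.indFun (W₁ ⊔ W₂) (fun w => 1 - (φ w : ℂ) - (ψ w : ℂ) + (φ w : ℂ) * (ψ w : ℂ)) -
    (fun _ => (1 : ℂ))

theorem isClassFunction_beta (W₁ W₂ : Subgroup G) (φ ψ : ↥(W₁ ⊔ W₂) →* ℂˣ) :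
    Cfsg.IsClassFunction G (betaFun W₁ W₂ φ ψ) := by
  intro g h
  unfold betaFun
  simp only [Pi.sub_apply]
  rw [Cfsg.Agent.Lib.Helper75_Induced.isClassFunction_indFun _ _ g h]

theorem exists_int_ind (W₁ W₂ : Subgroup G) (φ ψ : ↥(W₁ ⊔ W₂) →* ℂˣ) {χ : G → ℂ}
    (hχ : Cfsg.IsCharacter G χ) :
    ∃ n : ℤ, Cfsg.classInner (Cfsg.indFun (W₁ ⊔ W₂)
      (fun w => 1 - (φ w : ℂ) - (ψ w : ℂ) + (φ w : ℂ) * (ψ w : ℂ))) χ = n := by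
  classical
  have hres := isCharacter_restrict (W₁ ⊔ W₂) hχ
  have hnat : ∀ ω : ↥(W₁ ⊔ W₂) →* ℂˣ,
      ∃ n : ℕ, Cfsg.classInner (Cfsg.Agent.S1505.cf ω) (fun h : ↥(W₁ ⊔ W₂) => χ h) = n :=
    fun ω => classInner_isCharacter_nat (isCharacter_of_isIrrCharacter
      (Cfsg.Agent.Lib.Helper79_Linear.isIrrCharacter_of_hom ω)) hres
  obtain ⟨n1, h1⟩ := hnat (1 * 1)
  obtain ⟨n2, h2⟩ := hnat (φ * 1)
  obtain ⟨n3, h3⟩ := hnat (1 * ψ)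
  obtain ⟨n4, h4⟩ := hnat (φ * ψ)
  refine ⟨(n1 : ℤ) - n2 - n3 + n4, ?_⟩
  rw [Cfsg.Agent.S0146.result (W₁ ⊔ W₂) _ χ (isClassFunction_of_isCharacter hχ),
    Cfsg.Agent.S1505.alpha_eq, classInner_add_left, classInner_sub_left, classInner_sub_left,
    h1, h2, h3, h4]
  push_cast
  ring

theorem exists_int_beta (W₁ W₂ : Subgroup G) (φ ψ : ↥(W₁ ⊔ W₂) →* ℂˣ) (χ : Cfsg.IrrCharacter G) :
    ∃ n : ℤ, Cfsg.classInner (betaFun W₁ W₂ φ ψ) χ = n := by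
  obtain ⟨n, hn⟩ := exists_int_ind W₁ W₂ φ ψ (isCharacter_of_isIrrCharacter χ.2)
  obtain ⟨m, hm⟩ := classInner_isCharacter_nat
    (isCharacter_of_isIrrCharacter (isIrrCharacter_one (G := G)))
    (isCharacter_of_isIrrCharacter χ.2)
  refine ⟨n - m, ?_⟩
  unfold betaFun
  rw [classInner_sub_left, hn, hm]
  push_cast
  ring

open Classical in
/-- The Gram matrix of the `betaFun`s. -/
theorem classInner_beta (W₁ W₂ : Subgroup G) (hW : Cfsg.IsSelfNormalizingCyclic W₁ W₂)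
    (φ φ' ψ ψ' : ↥(W₁ ⊔ W₂) →* ℂˣ) (hφ : φ ≠ 1) (hφ' : φ' ≠ 1) (hψ : ψ ≠ 1) (hψ' : ψ' ≠ 1)
    (hφ₂ : ∀ w : ↥(W₁ ⊔ W₂), (w : G) ∈ W₂ → φ w = 1)
    (hφ₂' : ∀ w : ↥(W₁ ⊔ W₂), (w : G) ∈ W₂ → φ' w = 1)
    (hψ₁ : ∀ w : ↥(W₁ ⊔ W₂), (w : G) ∈ W₁ → ψ w = 1)
    (hψ₁' : ∀ w : ↥(W₁ ⊔ W₂), (w : G) ∈ W₁ → ψ' w = 1) :
    Cfsg.classInner (betaFun W₁ W₂ φ ψ) (betaFun W₁ W₂ φ' ψ') =
      (if φ = φ' then 1 else 0) + (if ψ = ψ' then 1 else 0) +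
        (if φ = φ' then 1 else 0) * (if ψ = ψ' then 1 else 0) := by
  have h := Cfsg.Agent.S1505.result W₁ W₂ hW φ φ' ψ ψ' hφ hφ' hψ hψ'
    (fun w hw => ⟨hφ₂ w hw, hφ₂' w hw⟩) (fun w hw => ⟨hψ₁ w hw, hψ₁' w hw⟩)
  have h' := Cfsg.Agent.S1505.result W₁ W₂ hW φ' φ ψ' ψ hφ' hφ hψ' hψ
    (fun w hw => ⟨hφ₂' w hw, hφ₂ w hw⟩) (fun w hw => ⟨hψ₁' w hw, hψ₁ w hw⟩)
  have h11 : Cfsg.classInner (fun _ : G => (1 : ℂ)) (fun _ : G => (1 : ℂ)) = 1 :=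
    classInner_self_of_isIrrCharacter isIrrCharacter_one
  have h1' : Cfsg.classInner (fun _ : G => (1 : ℂ)) (Cfsg.indFun (W₁ ⊔ W₂)
      (fun w => 1 - (φ' w : ℂ) - (ψ' w : ℂ) + (φ' w : ℂ) * (ψ' w : ℂ))) = 1 := by
    rw [← classInner_conj_symm, h'.1, map_one]
  unfold betaFun
  rw [classInner_sub_left, Cfsg.Agent.Lib.Helper25_CyclicTI.classInner_sub_right,
    Cfsg.Agent.Lib.Helper25_CyclicTI.classInner_sub_right, h.1, h.2, h11, h1']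
  ring

end Cfsg.Agent.Lib.Helper16_CycCoeff
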