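import Mathlib
import Cfsg.Prelude.Def_Characters
import Cfsg.Agent.Lib.Helper57_GenDefs
import Cfsg.Agent.S0188
import Cfsg.Agent.Lib.Helper79_Linear
import Cfsg.Agent.Lib.Helper77_NormalDefect
import Cfsg.Agent.Lib.Helper3_CharOrtho
import Cfsg.Agent.Lib.Helper76_GalConj
import Cfsg.Agent.Lib.Helper16_CycCoeff
import Cfsg.Agent.Lib.Helper75_Clifford

set_option autoImplicit false
set_option linter.unusedSectionVars false

/-!
# Package GF2 (general defect-one project of helper57): descent from `G × Z` to `G`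
-/

namespace Cfsg.Agent.Lib.Helper75_GenF2

open Cfsg Cfsg.Agent.Lib.Helper57_GenDefs Cfsg.Agent.Lib.Helper57_GalOrbit
open scoped ComplexConjugate

universe u

section omega

variable (m : ℕ) [NeZero m]

/-- the faithful linear character of `Z = Multiplicative (ZMod m)` -/
noncomputable def omega : Multiplicative (ZMod m) →* ℂˣ :=
  (ZMod.stdAddChar (N := m)).toMonoidHom.toHomUnits

theorem omega_apply (z : Multiplicative (ZMod m)) :
    ((omega m z : ℂˣ) : ℂ) = ZMod.stdAddChar (Multiplicative.toAdd z) := by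
  unfold omega
  rw [MonoidHom.coe_toHomUnits]
  rfl

theorem pow_card_Z (z : Multiplicative (ZMod m)) : z ^ m = 1 := by
  have := pow_card_eq_one' (G := Multiplicative (ZMod m)) (x := z)
  simpa [Nat.card_eq_fintype_card, ZMod.card] using this

theorem card_Z : Nat.card (Multiplicative (ZMod m)) = m := by
  simp [Nat.card_eq_fintype_card, ZMod.card]

theorem pow_eq_self_of_modEq {k : ℕ} (hk : k ≡ 1 [MOD m]) (z : Multiplicative (ZMod m)) :
    z ^ k = z := by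
  have h1 : orderOf z ∣ m := orderOf_dvd_of_pow_eq_one (pow_card_Z m z)
  have h2 : k ≡ 1 [MOD orderOf z] := hk.of_dvd h1
  have := (pow_eq_pow_iff_modEq (x := z)).2 h2
  rwa [pow_one] at this

theorem modEq_of_omega_pow {k : ℕ}
    (h : ∀ z : Multiplicative (ZMod m), ((omega m (z ^ k) : ℂˣ) : ℂ) = ((omega m z : ℂˣ) : ℂ)) :
    k ≡ 1 [MOD m] := by
  have h1 := h (Multiplicative.ofAdd (1 : ZMod m))
  rw [omega_apply, omega_apply] at h1
  have h2 : Multiplicative.toAdd ((Multiplicative.ofAdd (1 : ZMod m)) ^ k) = ((k : ℕ) : ZMod m) := by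
    rw [← ofAdd_nsmul, toAdd_ofAdd, nsmul_eq_mul, mul_one]
  rw [h2, toAdd_ofAdd] at h1
  have h3 := ZMod.injective_stdAddChar h1
  have h4 : ((k : ℕ) : ZMod m) = ((1 : ℕ) : ZMod m) := by rw [h3, Nat.cast_one]
  exact (ZMod.natCast_eq_natCast_iff k 1 m).1 h4

end omega

section avg

variable (m : ℕ) [NeZero m]

/-- `ω` as a complex function -/
noncomputable def omC : Multiplicative (ZMod m) → ℂ := fun z => ((omega m z : ℂˣ) : ℂ)

theorem omC_irr : IsIrrCharacter (Multiplicative (ZMod m)) (omC m) :=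
  Cfsg.Agent.Lib.Helper79_Linear.isIrrCharacter_of_hom (omega m)

theorem omC_one : omC m 1 = 1 := by simp [omC]

theorem omC_pow_irr (k : ℕ) :
    IsIrrCharacter (Multiplicative (ZMod m)) (fun z => omC m (z ^ k)) :=
  Cfsg.Agent.Lib.Helper79_Linear.isIrrCharacter_of_hom ((omega m).comp (powMonoidHom k))

theorem omC_pow_of_modEq {k : ℕ} (hk : k ≡ 1 [MOD m]) (z : Multiplicative (ZMod m)) :
    omC m (z ^ k) = omC m z := by
  rw [pow_eq_self_of_modEq m hk z]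

theorem modEq_of_omC_pow {k : ℕ}
    (h : ∀ z : Multiplicative (ZMod m), omC m (z ^ k) = omC m z) : k ≡ 1 [MOD m] :=
  modEq_of_omega_pow m h

/-- averaging against `ω` -/
noncomputable def avg (f : Multiplicative (ZMod m) → ℂ) : ℂ := classInner f (omC m)

theorem avg_mul_sum {ι : Type*} (c : ℂ) (S : Finset ι) (f : ι → Multiplicative (ZMod m) → ℂ) :
    avg m (fun z => c * ∑ i ∈ S, f i z) = c * ∑ i ∈ S, avg m (f i) := by
  have h1 : (fun z => c * ∑ i ∈ S, f i z) = c • ∑ i ∈ S, f i := by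
    funext z
    simp [Finset.sum_apply]
  unfold avg
  rw [h1, Cfsg.Agent.Lib.Helper3_CharOrtho.classInner_smul_left,
    Cfsg.Agent.Lib.Helper3_CharOrtho.classInner_sum_left]

theorem avg_const_mul (c : ℂ) (f : Multiplicative (ZMod m) → ℂ) :
    avg m (fun z => c * f z) = c * avg m f := by
  have h1 : (fun z => c * f z) = c • f := by
    funext z
    simp
  unfold avg
  rw [h1, Cfsg.Agent.Lib.Helper3_CharOrtho.classInner_smul_left]

theorem avg_omC : avg m (omC m) = 1 :=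
  Cfsg.Agent.Lib.Helper3_CharOrtho.classInner_self_of_isIrrCharacter (omC_irr m)

theorem avg_irr_ne {μ : Multiplicative (ZMod m) → ℂ}
    (hμ : IsIrrCharacter (Multiplicative (ZMod m)) μ) (hne : μ ≠ omC m) : avg m μ = 0 :=
  Cfsg.Agent.Lib.Helper3_CharOrtho.classInner_of_isIrrCharacter_of_ne hμ (omC_irr m) hne

end avg

section normalizer

variable {G : Type u} [Group G] (m : ℕ) [NeZero m] (x₀ : G)

theorem mem_zpowers_pair (h : G × Multiplicative (ZMod m)) :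
    h ∈ Subgroup.zpowers ((x₀, 1) : G × Multiplicative (ZMod m)) ↔
      h.1 ∈ Subgroup.zpowers x₀ ∧ h.2 = 1 := by
  constructor
  · intro hh
    obtain ⟨j, rfl⟩ := Subgroup.mem_zpowers_iff.1 hh
    refine ⟨Subgroup.mem_zpowers_iff.2 ⟨j, ?_⟩, ?_⟩
    · rw [Prod.pow_fst]
    · rw [Prod.pow_snd, one_zpow]
  · rintro ⟨h1, h2⟩
    obtain ⟨j, hj⟩ := Subgroup.mem_zpowers_iff.1 h1
    refine Subgroup.mem_zpowers_iff.2 ⟨j, ?_⟩
    apply Prod.ext
    · rw [Prod.pow_fst, hj]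
    · rw [Prod.pow_snd, one_zpow, h2]

theorem mem_normalizer_pair (a : G × Multiplicative (ZMod m)) :
    a ∈ Subgroup.normalizer
        (Subgroup.zpowers ((x₀, 1) : G × Multiplicative (ZMod m)) : Set (G × Multiplicative (ZMod m))) ↔
      a.1 ∈ Subgroup.normalizer (Subgroup.zpowers x₀ : Set G) := by
  rw [Subgroup.mem_normalizer_iff, Subgroup.mem_normalizer_iff]
  constructor
  · intro h g
    have := h (g, 1)
    rw [mem_zpowers_pair, mem_zpowers_pair] at this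
    simp only [Prod.fst_mul, Prod.snd_mul, Prod.fst_inv, Prod.snd_inv, mul_one, mul_inv_cancel,
      and_true] at this
    exact this
  · intro h g
    rw [mem_zpowers_pair, mem_zpowers_pair]
    simp only [Prod.fst_mul, Prod.snd_mul, Prod.fst_inv, Prod.snd_inv]
    rw [← h g.1]
    constructor
    · rintro ⟨h1, h2⟩
      exact ⟨h1, by rw [h2, mul_one, mul_inv_cancel]⟩
    · rintro ⟨h1, h2⟩
      refine ⟨h1, ?_⟩
      have : g.2 = a.2⁻¹ * (a.2 * g.2 * a.2⁻¹) * a.2 := by group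
      rw [this, h2, mul_one, inv_mul_cancel]

/-- the normalizer of `⟨(x₀,1)⟩` is `N_G(⟨x₀⟩) × Z` -/
noncomputable def eN :
    ↥(Subgroup.normalizer
      (Subgroup.zpowers ((x₀, 1) : G × Multiplicative (ZMod m)) : Set (G × Multiplicative (ZMod m)))) ≃*
      ↥(Subgroup.normalizer (Subgroup.zpowers x₀ : Set G)) × Multiplicative (ZMod m) where
  toFun a := (⟨(a : G × Multiplicative (ZMod m)).1, (mem_normalizer_pair m x₀ a.1).1 a.2⟩,
    (a : G × Multiplicative (ZMod m)).2)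
  invFun b := ⟨((b.1 : G), b.2), (mem_normalizer_pair m x₀ ((b.1 : G), b.2)).2 b.1.2⟩
  left_inv a := by
    apply Subtype.ext
    rfl
  right_inv b := by
    apply Prod.ext
    · apply Subtype.ext
      rfl
    · rfl
  map_mul' a b := by
    apply Prod.ext
    · apply Subtype.ext
      rfl
    · rfl

theorem eN_symm_coe (b : ↥(Subgroup.normalizer (Subgroup.zpowers x₀ : Set G)) × Multiplicative (ZMod m)) :
    (((eN m x₀).symm b : ↥(Subgroup.normalizer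
      (Subgroup.zpowers ((x₀, 1) : G × Multiplicative (ZMod m)) : Set (G × Multiplicative (ZMod m))))) :
        G × Multiplicative (ZMod m)) = ((b.1 : G), b.2) := rfl

end normalizer

section index

theorem pow_mem_of_normalizer {G : Type u} [Group G] [Finite G] (x₀ : G) (m : ℕ)
    (hcard : Nat.card G = orderOf x₀ * m) (n : G)
    (hn : n ∈ Subgroup.normalizer (Subgroup.zpowers x₀ : Set G)) :
    n ^ m ∈ Subgroup.zpowers x₀ := by
  have hx : 0 < orderOf x₀ := orderOf_pos x₀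
  have h1 : Nat.card (Subgroup.zpowers x₀) * (Subgroup.zpowers x₀).index = Nat.card G :=
    (Subgroup.zpowers x₀).card_mul_index
  rw [Nat.card_zpowers, hcard] at h1
  have h2 : (Subgroup.zpowers x₀).index = m := Nat.eq_of_mul_eq_mul_left hx h1
  have h3 := Subgroup.relIndex_mul_index
    (Subgroup.le_normalizer (H := Subgroup.zpowers x₀))
  have h4 := Subgroup.pow_index_mem
    ((Subgroup.zpowers x₀).subgroupOf (Subgroup.normalizer (Subgroup.zpowers x₀ : Set G)))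
    (⟨n, hn⟩ : ↥(Subgroup.normalizer (Subgroup.zpowers x₀ : Set G)))
  rw [Subgroup.mem_subgroupOf] at h4
  have h5 : (Subgroup.zpowers x₀).relIndex
      (Subgroup.normalizer (Subgroup.zpowers x₀ : Set G)) ∣ m := by
    rw [← h2, ← h3]
    exact dvd_mul_right _ _
  obtain ⟨j, hj⟩ := h5
  rw [hj, pow_mul]
  exact Subgroup.pow_mem _ h4 j

end index

section main

variable {G : Type u} [Group G] [Fintype G] (m : ℕ) [NeZero m] (x₀ : G)

/-- the normalizer of `⟨(x₀,1)⟩` -/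
abbrev Nt : Subgroup (G × Multiplicative (ZMod m)) :=
  Subgroup.normalizer (Subgroup.zpowers ((x₀, 1) : G × Multiplicative (ZMod m)) :
    Set (G × Multiplicative (ZMod m)))

/-- `χ ⊗ ω` -/
noncomputable def tens (χ : IrrCharacter G) : IrrCharacter (G × Multiplicative (ZMod m)) :=
  ⟨fun x => (χ : G → ℂ) x.1 * omC m x.2,
    (Cfsg.Agent.S0188.result _).2 ⟨χ, omC m, χ.2, omC_irr m, rfl⟩⟩

theorem tens_apply (χ : IrrCharacter G) (g : G) (z : Multiplicative (ZMod m)) :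
    (tens m χ : G × Multiplicative (ZMod m) → ℂ) (g, z) = (χ : G → ℂ) g * omC m z := rfl

theorem tens_injective : Function.Injective (tens (G := G) m) := by
  intro χ₁ χ₂ h
  apply Subtype.ext
  funext g
  have := congrFun (congrArg Subtype.val h) (g, 1)
  simpa [tens, omC_one] using this

theorem finsum_orb (Γ : Set ℕ) (χ : IrrCharacter G) (f : IrrCharacter G → ℂ) :
    ∑ᶠ χ' ∈ {χ' : IrrCharacter G | ∃ k ∈ Γ, ∀ g, (χ' : G → ℂ) g = (χ : G → ℂ) (g ^ k)}, f χ' =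
      ∑ χ' ∈ orb Γ χ, f χ' := by
  have : {χ' : IrrCharacter G | ∃ k ∈ Γ, ∀ g, (χ' : G → ℂ) g = (χ : G → ℂ) (g ^ k)} =
      ↑(orb Γ χ) := by
    ext χ'
    rw [Finset.mem_coe, mem_orb]
    rfl
  rw [this, finsum_mem_coe_finset]

theorem lhs_avg (ΓH : Set ℕ) (hcopG : ∀ k ∈ ΓH, k.Coprime (Nat.card G)) (χ : IrrCharacter G)
    (g : G) :
    ∑ χ' ∈ orb ΓH (tens m χ),
        avg m (fun z => (χ' : G × Multiplicative (ZMod m) → ℂ) (g, z)) =
      ∑ χ'' ∈ orb {k | k ∈ ΓH ∧ k ≡ 1 [MOD m]} χ, (χ'' : G → ℂ) g := by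
  classical
  have himg : (orb {k | k ∈ ΓH ∧ k ≡ 1 [MOD m]} χ).image (tens m) ⊆ orb ΓH (tens m χ) := by
    intro χ' hχ'
    obtain ⟨χ'', h1, rfl⟩ := Finset.mem_image.1 hχ'
    obtain ⟨k, ⟨hk1, hk2⟩, hk⟩ := (mem_orb _).1 h1
    refine (mem_orb ΓH).2 ⟨k, hk1, ?_⟩
    rintro ⟨g, z⟩
    rw [tens_apply, Prod.pow_mk, tens_apply, hk, omC_pow_of_modEq m hk2]
  rw [← Finset.sum_subset himg]
  · rw [Finset.sum_image (fun a _ b _ h => tens_injective m h)]
    refine Finset.sum_congr rfl (fun χ'' _ => ?_)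
    have h1 : (fun z => (tens m χ'' : G × Multiplicative (ZMod m) → ℂ) (g, z)) =
        fun z => (χ'' : G → ℂ) g * omC m z := rfl
    rw [h1, avg_const_mul, avg_omC, mul_one]
  · intro χ' h1 h2
    obtain ⟨k, hk1, hk⟩ := (mem_orb ΓH).1 h1
    have hfun : (fun z => (χ' : G × Multiplicative (ZMod m) → ℂ) (g, z)) =
        fun z => (χ : G → ℂ) (g ^ k) * omC m (z ^ k) := by
      funext z
      rw [hk, Prod.pow_mk, tens_apply]
    rw [hfun, avg_const_mul]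
    have hne : (fun z => omC m (z ^ k)) ≠ omC m := by
      intro heq
      have hk2 : k ≡ 1 [MOD m] := modEq_of_omC_pow m (fun z => congrFun heq z)
      apply h2
      refine Finset.mem_image.2 ⟨pw k (hcopG k hk1) χ,
        (mem_orb _).2 ⟨k, ⟨hk1, hk2⟩, fun g => rfl⟩, ?_⟩
      apply Subtype.ext
      funext ⟨g', z⟩
      rw [tens_apply, pw_apply, hk, Prod.pow_mk, tens_apply, omC_pow_of_modEq m hk2]
    rw [avg_irr_ne m (omC_pow_irr m k) hne, mul_zero]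

theorem decomp (ψ : IrrCharacter ↥(Subgroup.normalizer
      (Subgroup.zpowers ((x₀, 1) : G × Multiplicative (ZMod m)) :
        Set (G × Multiplicative (ZMod m))))) :
    ∃ (φ : ↥(Subgroup.normalizer (Subgroup.zpowers x₀ : Set G)) → ℂ)
      (μ : Multiplicative (ZMod m) → ℂ),
      IsIrrCharacter ↥(Subgroup.normalizer (Subgroup.zpowers x₀ : Set G)) φ ∧
      IsIrrCharacter (Multiplicative (ZMod m)) μ ∧
      ∀ n z, (ψ : _ → ℂ) ((eN m x₀).symm (n, z)) = φ n * μ z := by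
  have h1 := Cfsg.Agent.Lib.Helper75_Clifford.isIrrCharacter_comp_equiv (eN m x₀).symm ψ.2
  obtain ⟨φ, μ, hφ, hμ, h⟩ := (Cfsg.Agent.S0188.result _).1 h1
  exact ⟨φ, μ, hφ, hμ, fun n z => congrFun h (n, z)⟩

/-- `ψ̃` lies over `ω` -/
def IsOm (ψ : IrrCharacter ↥(Subgroup.normalizer
      (Subgroup.zpowers ((x₀, 1) : G × Multiplicative (ZMod m)) :
        Set (G × Multiplicative (ZMod m))))) : Prop :=
  ∃ φ : ↥(Subgroup.normalizer (Subgroup.zpowers x₀ : Set G)) → ℂ,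
    IsIrrCharacter ↥(Subgroup.normalizer (Subgroup.zpowers x₀ : Set G)) φ ∧
    ∀ n z, (ψ : _ → ℂ) ((eN m x₀).symm (n, z)) = φ n * omC m z

theorem isOm_or (ψ : IrrCharacter ↥(Subgroup.normalizer
      (Subgroup.zpowers ((x₀, 1) : G × Multiplicative (ZMod m)) :
        Set (G × Multiplicative (ZMod m))))) :
    IsOm m x₀ ψ ∨ ∀ n, avg m (fun z => (ψ : _ → ℂ) ((eN m x₀).symm (n, z))) = 0 := by
  obtain ⟨φ, μ, hφ, hμ, h⟩ := decomp m x₀ ψ
  by_cases hμω : μ = omC m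
  · left
    subst hμω
    exact ⟨φ, hφ, h⟩
  · right
    intro n
    have h1 : (fun z => (ψ : _ → ℂ) ((eN m x₀).symm (n, z))) = fun z => φ n * μ z :=
      funext (h n)
    rw [h1, avg_const_mul, avg_irr_ne m hμ hμω, mul_zero]

theorem avg_of_isOm {ψ : IrrCharacter ↥(Subgroup.normalizer
      (Subgroup.zpowers ((x₀, 1) : G × Multiplicative (ZMod m)) :
        Set (G × Multiplicative (ZMod m))))}
    {φ : ↥(Subgroup.normalizer (Subgroup.zpowers x₀ : Set G)) → ℂ}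
    (h : ∀ n z, (ψ : _ → ℂ) ((eN m x₀).symm (n, z)) = φ n * omC m z)
    (n : ↥(Subgroup.normalizer (Subgroup.zpowers x₀ : Set G))) :
    avg m (fun z => (ψ : _ → ℂ) ((eN m x₀).symm (n, z))) = φ n := by
  have h1 : (fun z => (ψ : _ → ℂ) ((eN m x₀).symm (n, z))) = fun z => φ n * omC m z :=
    funext (h n)
  rw [h1, avg_const_mul, avg_omC, mul_one]

theorem collapse (hcard : Nat.card G = orderOf x₀ * m)
    (ψ₁ ψ₂ : IrrCharacter ↥(Subgroup.normalizer
      (Subgroup.zpowers ((x₀, 1) : G × Multiplicative (ZMod m)) :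
        Set (G × Multiplicative (ZMod m)))))
    (hker : ∀ h : ↥(Subgroup.normalizer
      (Subgroup.zpowers ((x₀, 1) : G × Multiplicative (ZMod m)) :
        Set (G × Multiplicative (ZMod m)))),
      (h : G × Multiplicative (ZMod m)) ∈
        Subgroup.zpowers ((x₀, 1) : G × Multiplicative (ZMod m)) →
      (ψ₁ : ↥(Nt m x₀) → ℂ) h = (ψ₁ : ↥(Nt m x₀) → ℂ) 1)
    (h1 : IsOm m x₀ ψ₁) (h2 : IsOm m x₀ ψ₂) (k : ℕ) (hk0 : k ≠ 0)
    (hk : ∀ n : ↥(Subgroup.normalizer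
      (Subgroup.zpowers ((x₀, 1) : G × Multiplicative (ZMod m)) :
        Set (G × Multiplicative (ZMod m)))), (ψ₂ : ↥(Nt m x₀) → ℂ) n = (ψ₁ : ↥(Nt m x₀) → ℂ) (n ^ k)) :
    ψ₂ = ψ₁ := by
  obtain ⟨φ₁, hφ₁, e1⟩ := h1
  obtain ⟨φ₂, hφ₂, e2⟩ := h2
  have hstar : ∀ z : Multiplicative (ZMod m), φ₂ 1 * omC m z = φ₁ 1 * omC m (z ^ k) := by
    intro z
    have h3 := hk ((eN m x₀).symm (1, z))
    rw [e2, ← map_pow, Prod.pow_mk, one_pow, e1] at h3
    exact h3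
  have hone : φ₂ 1 = φ₁ 1 := by
    have := hstar 1
    rwa [one_pow, omC_one, mul_one, mul_one] at this
  have hne : φ₁ 1 ≠ 0 := Cfsg.Agent.Lib.Helper76_GalConj.irr_one_ne_zero
    (⟨φ₁, hφ₁⟩ : IrrCharacter ↥(Subgroup.normalizer (Subgroup.zpowers x₀ : Set G)))
  have hmod : k ≡ 1 [MOD m] := by
    apply modEq_of_omC_pow m
    intro z
    have := hstar z
    rw [hone] at this
    exact (mul_left_cancel₀ hne this).symm
  have hk1 : 1 ≤ k := Nat.one_le_iff_ne_zero.2 hk0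
  obtain ⟨j, hj⟩ := (Nat.modEq_iff_dvd' hk1).1 hmod.symm
  have hkj : k = 1 + m * j := by omega
  apply Subtype.ext
  funext a
  rw [hk a, hkj, pow_add, pow_one, pow_mul]
  apply Cfsg.Agent.Lib.Helper77_NormalDefect.irr_mul_ker
  apply hker
  rw [Subgroup.coe_pow]
  apply Subgroup.pow_mem
  rw [Subgroup.coe_pow, mem_zpowers_pair]
  refine ⟨?_, ?_⟩
  · rw [Prod.pow_fst]
    exact pow_mem_of_normalizer x₀ m hcard _ ((mem_normalizer_pair m x₀ a.1).1 a.2)
  · rw [Prod.pow_snd]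
    exact pow_card_Z m _

theorem exists_pow_of_mem_zpowers (p : ℕ) (hp : p.Prime) (hx₀ : orderOf x₀ = p) (x : G)
    (hx : x ∈ Subgroup.zpowers x₀) (hx1 : x ≠ 1) : ∃ i : ℕ, 0 < i ∧ i < p ∧ x₀ ^ i = x := by
  rw [← mem_powers_iff_mem_zpowers] at hx
  obtain ⟨n, rfl⟩ := (Submonoid.mem_powers_iff _ _).1 hx
  refine ⟨n % p, ?_, Nat.mod_lt _ hp.pos, ?_⟩
  · rcases Nat.eq_zero_or_pos (n % p) with h0 | h0
    · exfalso
      apply hx1
      rw [← pow_mod_orderOf, hx₀, h0, pow_zero]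
    · exact h0
  · rw [← hx₀, pow_mod_orderOf]

theorem key_eq (p : ℕ) [Fact p.Prime] (hx₀ : orderOf x₀ = p) (hpm : ¬ p ∣ m)
    (ΓH : Set ℕ) (hcopG : ∀ k ∈ ΓH, k.Coprime (Nat.card G)) (χ : IrrCharacter G)
    (s : ℕ) (δ : ℤ) (O : Finset (IrrCharacter ↥(Nt m x₀)))
    (hval : ∀ i : ℕ, 0 < i → i < p → ∀ v : ↥(Nt m x₀),
      Commute (v : G × Multiplicative (ZMod m)) ((x₀, 1) : G × Multiplicative (ZMod m)) →
      ¬ p ∣ orderOf v →
      (s : ℂ) * ∑ χ' ∈ orb ΓH (tens m χ), (χ' : G × Multiplicative (ZMod m) → ℂ)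
          (((x₀, 1) : G × Multiplicative (ZMod m)) ^ i * (v : G × Multiplicative (ZMod m))) =
        (δ : ℂ) * ∑ ψ ∈ O, (ψ : ↥(Nt m x₀) → ℂ) v)
    (x : G) (hx : x ∈ Subgroup.zpowers x₀) (hx1 : x ≠ 1)
    (v : ↥(Subgroup.normalizer (Subgroup.zpowers x₀ : Set G)))
    (hv : (v : G) ∈ Subgroup.centralizer (Subgroup.zpowers x₀ : Set G))
    (hpv : ¬ p ∣ orderOf v) :
    (s : ℂ) * ∑ χ'' ∈ orb {k | k ∈ ΓH ∧ k ≡ 1 [MOD m]} χ, (χ'' : G → ℂ) (x * (v : G)) =
      (δ : ℂ) * ∑ ψ ∈ O, avg m (fun z => (ψ : ↥(Nt m x₀) → ℂ) ((eN m x₀).symm (v, z))) := by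
  have hp : p.Prime := Fact.out
  obtain ⟨i, hi0, hip, rfl⟩ := exists_pow_of_mem_zpowers x₀ p hp hx₀ x hx hx1
  have hz : ∀ z : Multiplicative (ZMod m),
      (s : ℂ) * ∑ χ' ∈ orb ΓH (tens m χ),
          (χ' : G × Multiplicative (ZMod m) → ℂ) (x₀ ^ i * (v : G), z) =
        (δ : ℂ) * ∑ ψ ∈ O, (ψ : ↥(Nt m x₀) → ℂ) ((eN m x₀).symm (v, z)) := by
    intro z
    have hcomm : Commute (((eN m x₀).symm (v, z) : ↥(Nt m x₀)) : G × Multiplicative (ZMod m))
        ((x₀, 1) : G × Multiplicative (ZMod m)) := by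
      rw [eN_symm_coe]
      have h1 := Subgroup.mem_centralizer_iff.1 hv x₀ (Subgroup.mem_zpowers x₀)
      show ((v : G), z) * (x₀, 1) = (x₀, 1) * ((v : G), z)
      rw [Prod.mk_mul_mk, Prod.mk_mul_mk, h1, mul_one, one_mul]
    have hord : ¬ p ∣ orderOf ((eN m x₀).symm (v, z)) := by
      rw [MulEquiv.orderOf_eq, Prod.orderOf]
      intro hdvd
      have h1 : p ∣ orderOf v * orderOf z := dvd_trans hdvd (Nat.lcm_dvd_mul _ _)
      rcases hp.dvd_mul.1 h1 with h2 | h2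
      · exact hpv h2
      · exact hpm (dvd_trans h2 (orderOf_dvd_of_pow_eq_one (pow_card_Z m z)))
    have h3 := hval i hi0 hip ((eN m x₀).symm (v, z)) hcomm hord
    rw [eN_symm_coe, Prod.pow_mk, one_pow, Prod.mk_mul_mk, one_mul] at h3
    exact h3
  have h4 := congrArg (avg m) (funext hz)
  rw [avg_mul_sum, avg_mul_sum, lhs_avg m ΓH hcopG] at h4
  exact h4

theorem ctGen_aux (p : ℕ) [Fact p.Prime] (hx₀ : orderOf x₀ = p)
    (hcard : Nat.card G = p * m) (hpm : ¬ p ∣ m)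
    (hmG : m = Nat.card G / p ^ (Nat.card G).factorization p)
    (ΓH ΓN : Set ℕ) (hΓ1 : 1 ∈ ΓH)
    (hΓc : ∀ k ∈ ΓH, k.Coprime (Nat.card (G × Multiplicative (ZMod m))))
    (hΓm : ∀ k ∈ ΓH, ∀ l ∈ ΓH, k * l ∈ ΓH)
    (hΓi : ∀ k ∈ ΓH, ∃ l ∈ ΓH, k * l ≡ 1 [MOD Nat.card (G × Multiplicative (ZMod m))])
    (hΓN : ∀ k ∈ ΓN, k ≠ 0)
    (h : CTQp (G × Multiplicative (ZMod m)) p ((x₀, 1) : G × Multiplicative (ZMod m)) ΓH ΓN)
    (Q : Subgroup G) (hQ : Q = Subgroup.zpowers x₀) :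
    ∃ Γ : Set ℕ, 1 ∈ Γ ∧ (∀ k ∈ Γ, k.Coprime (Nat.card G)) ∧ (∀ k ∈ Γ, ∀ l ∈ Γ, k * l ∈ Γ) ∧
    (∀ k ∈ Γ, ∃ l ∈ Γ, k * l ≡ 1 [MOD Nat.card G]) ∧
    (∀ k ∈ Γ, k ≡ 1 [MOD Nat.card G / p ^ (Nat.card G).factorization p]) ∧
    ∀ χ : IrrCharacter G, ∃ (s : ℕ) (δ : ℤ)
      (ψ : IrrCharacter (Subgroup.normalizer (Q : Set G))),
      0 < s ∧ (δ = 0 ∨ δ = 1 ∨ δ = -1) ∧
      (∀ h : Subgroup.normalizer (Q : Set G), (h : G) ∈ Q →
        (ψ : Subgroup.normalizer (Q : Set G) → ℂ) h =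
          (ψ : Subgroup.normalizer (Q : Set G) → ℂ) 1) ∧
      ∀ x ∈ Q, x ≠ 1 →
        ∀ v : Subgroup.normalizer (Q : Set G),
          (v : G) ∈ Subgroup.centralizer (Q : Set G) → ¬ p ∣ orderOf v →
          (s : ℂ) * ∑ᶠ χ' ∈ {χ' : IrrCharacter G | ∃ k ∈ Γ, ∀ g, (χ' : G → ℂ) g =
              (χ : G → ℂ) (g ^ k)},
            (χ' : G → ℂ) (x * (v : G)) =
          (δ : ℂ) * (ψ : Subgroup.normalizer (Q : Set G) → ℂ) v := by
  subst hQ
  classical
  have hGZ : Nat.card (G × Multiplicative (ZMod m)) = Nat.card G * m := by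
    rw [Nat.card_prod, card_Z]
  have hcopG : ∀ k ∈ ΓH, k.Coprime (Nat.card G) := by
    intro k hk
    have := hΓc k hk
    rw [hGZ] at this
    exact Nat.Coprime.coprime_mul_right_right this
  have hcard' : Nat.card G = orderOf x₀ * m := by rw [hx₀, hcard]
  refine ⟨{k | k ∈ ΓH ∧ k ≡ 1 [MOD m]}, ⟨hΓ1, Nat.ModEq.refl 1⟩, ?_, ?_, ?_, ?_, ?_⟩
  · intro k hk
    exact hcopG k hk.1
  · intro k hk l hl
    refine ⟨hΓm k hk.1 l hl.1, ?_⟩
    have := hk.2.mul hl.2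
    rwa [mul_one] at this
  · intro k hk
    obtain ⟨l, hl, hkl⟩ := hΓi k hk.1
    rw [hGZ] at hkl
    have h1 : k * l ≡ 1 [MOD m] := hkl.of_dvd (dvd_mul_left _ _)
    have h2 : l ≡ 1 [MOD m] := by
      have := hk.2.mul_right l
      rw [one_mul] at this
      exact this.symm.trans h1
    exact ⟨l, ⟨hl, h2⟩, hkl.of_dvd (dvd_mul_right _ _)⟩
  · intro k hk
    rw [← hmG]
    exact hk.2
  · intro χ
    obtain ⟨s, δ, O, hs, hδ, hker, hconj, hval⟩ := h (tens m χ)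
    have key := key_eq m x₀ p hx₀ hpm ΓH hcopG χ s δ O hval
    by_cases hex : ∃ ψ₁ ∈ O, IsOm m x₀ ψ₁
    · obtain ⟨ψ₁, hψ₁O, hOm⟩ := hex
      obtain ⟨φ₁, hφ₁, e1⟩ := hOm
      refine ⟨s, δ, ⟨φ₁, hφ₁⟩, hs, hδ, ?_, ?_⟩
      · intro hh hhmem
        have a1 := e1 hh 1
        have a2 := e1 1 1
        rw [omC_one, mul_one] at a1 a2
        show φ₁ hh = φ₁ 1
        rw [← a1, ← a2]
        have h11 : (eN m x₀).symm (1, 1) = 1 := map_one _
        rw [h11]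
        exact hker ψ₁ hψ₁O _ ((mem_zpowers_pair m x₀ _).2 ⟨hhmem, rfl⟩)
      · intro x hx hx1 v hv hpv
        rw [finsum_orb, key x hx hx1 v hv hpv]
        congr 1
        rw [Finset.sum_eq_single ψ₁]
        · exact avg_of_isOm m x₀ e1 v
        · intro ψ₂ hψ₂O hne
          rcases isOm_or m x₀ ψ₂ with h2 | h2
          · exfalso
            apply hne
            obtain ⟨k, hkN, hk⟩ := hconj ψ₁ hψ₁O ψ₂ hψ₂O
            exact collapse m x₀ hcard' ψ₁ ψ₂ (hker ψ₁ hψ₁O) ⟨φ₁, hφ₁, e1⟩ h2 k (hΓN k hkN) hk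
          · exact h2 v
        · intro hn
          exact absurd hψ₁O hn
    · refine ⟨s, 0, ⟨fun _ => 1, Cfsg.Agent.Lib.Helper16_CycCoeff.isIrrCharacter_one⟩, hs,
        Or.inl rfl, fun _ _ => rfl, ?_⟩
      intro x hx hx1 v hv hpv
      rw [finsum_orb, key x hx hx1 v hv hpv, Finset.sum_eq_zero, mul_zero, Int.cast_zero, zero_mul]
      intro ψ hψ
      rcases isOm_or m x₀ ψ with h2 | h2
      · exact absurd ⟨ψ, hψ, h2⟩ hex
      · exact h2 v

end main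

theorem ctGen_of_ctQp {G : Type u} [Group G] [Fintype G] (p : ℕ) [Fact p.Prime] (P : Sylow p G)
    (hP : Nat.card P = p) (m : ℕ) [NeZero m]
    (hm : m = Nat.card G / p ^ (Nat.card G).factorization p)
    (x₀ : G) (hx₀ : orderOf x₀ = p) (hgen : Subgroup.zpowers x₀ = (P : Subgroup G))
    (ΓH ΓN : Set ℕ) (hΓ1 : 1 ∈ ΓH)
    (hΓc : ∀ k ∈ ΓH, k.Coprime (Nat.card (G × Multiplicative (ZMod m))))
    (hΓm : ∀ k ∈ ΓH, ∀ l ∈ ΓH, k * l ∈ ΓH)
    (hΓi : ∀ k ∈ ΓH, ∃ l ∈ ΓH, k * l ≡ 1 [MOD Nat.card (G × Multiplicative (ZMod m))])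
    (hΓN : ∀ k ∈ ΓN, k ≠ 0)
    (h : CTQp (G × Multiplicative (ZMod m)) p ((x₀, 1) : G × Multiplicative (ZMod m)) ΓH ΓN) :
    CTGen G p P := by
  have hp : p.Prime := Fact.out
  have hG0 : Nat.card G ≠ 0 := Nat.card_pos.ne'
  have hpow : p ^ (Nat.card G).factorization p = p := by
    rw [← P.card_eq_multiplicity, hP]
  have hpm : ¬ p ∣ m := by
    rw [hm]
    exact Nat.not_dvd_ordCompl hp hG0
  have hcard : Nat.card G = p * m := by
    rw [hm, hpow]
    have hdvd : p ∣ Nat.card G := by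
      have := Nat.ordProj_dvd (Nat.card G) p
      rwa [hpow] at this
    exact (Nat.mul_div_cancel' hdvd).symm
  exact ctGen_aux m x₀ p hx₀ hcard hpm hm ΓH ΓN hΓ1 hΓc hΓm hΓi hΓN h (P : Subgroup G) hgen.symm

end Cfsg.Agent.Lib.Helper75_GenF2
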