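import Mathlib
import Cfsg.Prelude.Def_Characters
import Cfsg.Agent.Lib.Helper57_GenDefs
import Cfsg.Agent.Lib.Helper57_CTQp
import Cfsg.Agent.Lib.Helper57_CTHyp
import Cfsg.Agent.Lib.Helper17_PadicEmbed
import Cfsg.Agent.Lib.Helper75_GalDescent
import Cfsg.Agent.Lib.Helper75_GenF2

/-!
# `CTGen` for a Sylow subgroup of order `p` (helper57)

The hypothesis of the block side of the general defect-one project, proved from the lattice theorem
`ct_qp` for `G × Z` (`Z` cyclic of order `|G|_{p'}`) and the descent `ctGen_of_ctQp`.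
-/

set_option autoImplicit false

namespace Cfsg.Agent.Lib.Helper57_CTGen

open Cfsg Cfsg.Agent.Lib.Helper57_GenDefs Cfsg.Agent.Lib.Helper57_CTQp

universe u

variable {G : Type u} [Group G] [Fintype G]

/-- **CTGen.** -/
theorem ct_gen (p : ℕ) [hp : Fact p.Prime] (P : Sylow p G) (hP : Nat.card P = p) : CTGen G p P := by
  classical
  obtain ⟨j⟩ := Cfsg.Agent.Lib.Helper17_PadicEmbed.exists_padic_ringHom p
  obtain ⟨x₀, hx₀, hgen⟩ := Cfsg.Agent.Lib.Helper57_CTHyp.exists_generator_sylow P hP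
  set m : ℕ := Nat.card G / p ^ (Nat.card G).factorization p with hm
  have hG0 : Nat.card G ≠ 0 := Nat.card_pos.ne'
  have hm0 : m ≠ 0 := (Nat.ordCompl_pos p hG0).ne'
  have : NeZero m := ⟨hm0⟩
  have hpm : ¬ p ∣ m := Nat.not_dvd_ordCompl hp.out hG0
  have hGcard : Nat.card G = p * m := by
    have h1 : Nat.card P = p ^ (Nat.card G).factorization p := P.card_eq_multiplicity
    have h2 := Nat.ordProj_mul_ordCompl_eq_self (Nat.card G) p
    have h3 : p ^ (Nat.card G).factorization p = p := by rw [← h1, hP]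
    rw [hm]
    conv_lhs => rw [← h2]
    conv_lhs => rw [h3]
    rw [h3]
  -- the group `G × Z`
  set x₁ : G × Multiplicative (ZMod m) := (x₀, 1) with hx₁
  have hx₁ord : orderOf x₁ = p := by
    rw [hx₁, Prod.orderOf_mk, orderOf_one, hx₀, Nat.lcm_one_right]
  have hHcard : Nat.card (G × Multiplicative (ZMod m)) = p * m * m := by
    rw [Nat.card_prod, hGcard, Nat.card_eq_fintype_card (α := Multiplicative (ZMod m)),
      Fintype.card_multiplicative, ZMod.card m]
  have hsyl : ¬ p ∣ (Subgroup.zpowers x₁).index := by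
    have h1 := Subgroup.card_mul_index (Subgroup.zpowers x₁)
    rw [Nat.card_zpowers, hx₁ord, hHcard, mul_assoc] at h1
    have h2 : (Subgroup.zpowers x₁).index = m * m :=
      Nat.eq_of_mul_eq_mul_left hp.out.pos h1
    rw [h2]
    intro h
    rcases (Nat.Prime.dvd_mul hp.out).mp h with h3 | h3 <;> exact hpm h3
  obtain ⟨ΓH, hH1, hHc, hHm, hHi, hHinv, hHdesc⟩ :=
    Cfsg.Agent.Lib.Helper75_GalDescent.exists_galois_powers
      (G := G × Multiplicative (ZMod m)) j.fieldRange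
  obtain ⟨ΓN, hN1, hNc, hNm, hNi, hNinv, hNdesc⟩ :=
    Cfsg.Agent.Lib.Helper75_GalDescent.exists_galois_powers
      (G := Subgroup.normalizer (Subgroup.zpowers x₁ : Set (G × Multiplicative (ZMod m))))
      j.fieldRange
  have hQ := ct_qp x₁ hx₁ord hsyl j ΓH hH1 hHc hHm hHinv hHdesc ΓN hN1 hNc hNm hNi hNinv hNdesc
  refine Cfsg.Agent.Lib.Helper75_GenF2.ctGen_of_ctQp p P hP m hm x₀ hx₀ hgen ΓH ΓN hH1 hHc hHm hHi
    (fun k hk h0 => ?_) hQ
  -- `k ≠ 0`
  have hc := hNc k hk
  rw [h0, Nat.coprime_zero_left] at hc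
  have hx₁N : x₁ ∈ Subgroup.normalizer
      (Subgroup.zpowers x₁ : Set (G × Multiplicative (ZMod m))) :=
    Subgroup.le_normalizer (Subgroup.mem_zpowers x₁)
  have h1 : orderOf (⟨x₁, hx₁N⟩ : Subgroup.normalizer
      (Subgroup.zpowers x₁ : Set (G × Multiplicative (ZMod m)))) = p := by
    rw [← hx₁ord, ← Subgroup.orderOf_coe]
  have h2 := orderOf_dvd_natCard (⟨x₁, hx₁N⟩ : Subgroup.normalizer
      (Subgroup.zpowers x₁ : Set (G × Multiplicative (ZMod m))))
  rw [h1, hc] at h2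
  exact hp.out.one_lt.ne' (Nat.dvd_one.mp h2)

end Cfsg.Agent.Lib.Helper57_CTGen
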