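import Mathlib
import Cfsg.Prelude.Def_Characters
import Cfsg.Agent.Lib.Helper3_CharOrtho
import Cfsg.Agent.Lib.Helper75_Induced
import Cfsg.Agent.Lib.Helper75_Clifford
import Cfsg.Agent.Lib.Helper75_ExtendCyclic
import Cfsg.Agent.Lib.Helper75_AbelianInertia2

/-!
# Restriction to a normal subgroup with cyclic quotient is multiplicity free (helper17)

`classInner_res_eq_zero_or_one`: `N ⊴ G` finite, `G ⧸ N` cyclic, `χ ∈ Irr G`, `θ ∈ Irr N`.  Then
`[χ|_N, θ] ∈ {0, 1}`.

Proof: let `T` be the inertia group of `θ`.  As `T / N` is cyclic, `θ` extends to `T`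
(`Helper75_ExtendCyclic`), so the common ramification index of the members of `Irr(T | θ)` is `1`
and `Ind_N^G θ` is a sum of *distinct* irreducible characters
(`Helper75_AbelianInertia2.ind_decomp_of_abelian_inertia`); conclude by Frobenius reciprocity.

This is input (H1) of helper57's plan for the general blocks of defect one.
-/

set_option autoImplicit false
open scoped ComplexConjugate

namespace Cfsg.Agent.Lib.Helper17_MultFree

open Cfsg.Agent.Lib.Helper3_CharOrtho Cfsg.Agent.Lib.Helper75_Induced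
  Cfsg.Agent.Lib.Helper75_Clifford

variable {G : Type*} [Group G]

/-- The inertia group of a function on a normal subgroup. -/
def inertia (N : Subgroup G) (hN : N.Normal) (θ : N → ℂ) : Subgroup G where
  carrier := {g | conjFun N hN θ g = θ}
  one_mem' := conjFun_one N hN θ
  mul_mem' := by
    intro a b ha hb
    show conjFun N hN θ (a * b) = θ
    rw [← conjFun_conjFun, show conjFun N hN θ a = θ from ha]
    exact hb
  inv_mem' := by
    intro a ha
    show conjFun N hN θ a⁻¹ = θ
    have h1 : conjFun N hN (conjFun N hN θ a) a⁻¹ = conjFun N hN θ a⁻¹ := by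
      rw [show conjFun N hN θ a = θ from ha]
    rw [conjFun_conjFun, mul_inv_cancel, conjFun_one] at h1
    exact h1.symm

theorem mem_inertia (N : Subgroup G) (hN : N.Normal) (θ : N → ℂ) (g : G) :
    g ∈ inertia N hN θ ↔ conjFun N hN θ g = θ := Iff.rfl

/-- A subgroup `T` of `G` has cyclic image in a cyclic quotient `G ⧸ N`. -/
theorem isCyclic_quotient_subgroupOf (N T : Subgroup G) [hN : N.Normal]
    (hcyc : IsCyclic (G ⧸ N)) : IsCyclic (T ⧸ N.subgroupOf T) := by
  let f : T →* G ⧸ N := (QuotientGroup.mk' N).comp T.subtype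
  have hker : N.subgroupOf T ≤ f.ker := by
    intro x hx
    rw [MonoidHom.mem_ker]
    show ((x : G) : G ⧸ N) = 1
    rw [QuotientGroup.eq_one_iff]
    exact Subgroup.mem_subgroupOf.mp hx
  let F : T ⧸ N.subgroupOf T →* G ⧸ N := QuotientGroup.lift (N.subgroupOf T) f hker
  have hinj : Function.Injective F := by
    rw [injective_iff_map_eq_one]
    intro a ha
    induction a using QuotientGroup.induction_on with
    | H x =>
      have h1 : ((x : G) : G ⧸ N) = 1 := ha
      rw [QuotientGroup.eq_one_iff] at h1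
      rw [QuotientGroup.eq_one_iff]
      exact Subgroup.mem_subgroupOf.mpr h1
  exact isCyclic_of_injective F hinj

/-- **Multiplicity freeness over a cyclic quotient.**  If `N ⊴ G` with `G ⧸ N` cyclic, then every
irreducible character of `N` occurs at most once in the restriction of an irreducible character
of `G`. -/
theorem classInner_res_eq_zero_or_one [Fintype G] (N : Subgroup G) (hN : N.Normal) [Fintype N]
    (hcyc : IsCyclic (G ⧸ N)) {χ : G → ℂ} (hχ : Cfsg.IsIrrCharacter G χ)
    {θ : N → ℂ} (hθ : Cfsg.IsIrrCharacter N θ) :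
    Cfsg.classInner (fun n : N => χ n) θ = 0 ∨ Cfsg.classInner (fun n : N => χ n) θ = 1 := by
  classical
  have hNn := hN
  set T : Subgroup G := inertia N hN θ with hTdef
  have hT : ∀ g : G, g ∈ T ↔ conjFun N hN θ g = θ := fun g => Iff.rfl
  have hHT : N ≤ T := Cfsg.Agent.Lib.Helper75_AbelianInertia2.le_inertia N T hN
    (Cfsg.Agent.Lib.Helper3_CharBridge.isClassFunction_of_isIrrCharacter hθ) hT
  have : Fintype T := Fintype.ofFinite T
  have : Fintype (N.subgroupOf T) := Fintype.ofFinite _
  have hN' : (N.subgroupOf T).Normal := inferInstance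
  have hcomm : ∀ x y : G, x * y * x⁻¹ * y⁻¹ ∈ N := by
    intro x y
    rw [← QuotientGroup.eq_one_iff]
    have : IsCyclic (G ⧸ N) := hcyc
    have hc : ∀ a b : G ⧸ N, a * b = b * a := fun a b => IsCyclic.commGroup.mul_comm a b
    show ((x * y * x⁻¹ * y⁻¹ : G) : G ⧸ N) = 1
    rw [QuotientGroup.mk_mul, QuotientGroup.mk_mul, QuotientGroup.mk_mul, hc (x : G ⧸ N) y,
      QuotientGroup.mk_inv, QuotientGroup.mk_inv]
    group
  have hab : ∀ x ∈ T, ∀ y ∈ T, x * y * x⁻¹ * y⁻¹ ∈ N := fun x _ y _ => hcomm x y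
  set θ' := resSubgroupOf N T θ with hθ'def
  have hθ' : Cfsg.IsIrrCharacter (N.subgroupOf T) θ' := isIrrCharacter_resSubgroupOf N T hHT hθ
  have hinv' : ∀ t : T, conjFun (N.subgroupOf T) hN' θ' t = θ' :=
    conjFun_resSubgroupOf N T hN hN' θ hT
  have hcycT : IsCyclic (T ⧸ N.subgroupOf T) := isCyclic_quotient_subgroupOf N T hcyc
  obtain ⟨ψ₀, hψ₀, hψ₀ext⟩ :=
    Cfsg.Agent.Lib.Helper75_ExtendCyclic.exists_irr_extension_of_cyclic (N.subgroupOf T) hN' hcycT
      θ' hθ' (fun g n => by
        have := congrFun (hinv' g) n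
        rw [conjFun_apply] at this
        exact this)
  have he : Cfsg.classInner (res (N.subgroupOf T) ψ₀) θ' = ((1 : ℕ) : ℂ) := by
    have h1 : res (N.subgroupOf T) ψ₀ = θ' := by
      funext n
      rw [res_apply]
      exact hψ₀ext n
    rw [h1, classInner_self_of_isIrrCharacter hθ', Nat.cast_one]
  obtain ⟨C, hC, -, hdec, -⟩ :=
    Cfsg.Agent.Lib.Helper75_AbelianInertia2.ind_decomp_of_abelian_inertia N T hN hθ hT hab ψ₀ hψ₀ 1
      one_ne_zero he
  have hfr := frobenius_reciprocity N θ χ
    (Cfsg.Agent.Lib.Helper3_CharBridge.isClassFunction_of_isIrrCharacter hχ)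
  rw [hdec, Nat.cast_one, one_smul, classInner_sum_left] at hfr
  have hsum : ∑ i ∈ C, Cfsg.classInner i χ = if χ ∈ C then 1 else 0 := by
    rw [Finset.sum_congr rfl (fun i hi => classInner_irr (hC i hi) hχ)]
    rw [Finset.sum_ite_eq' C χ]
  rw [hsum] at hfr
  have hflip : Cfsg.classInner (fun n : N => χ n) θ = conj (Cfsg.classInner θ (fun n : N => χ n)) :=
    (classInner_conj_symm _ _).symm
  rw [hflip, ← hfr]
  split_ifs
  · right; simp
  · left; simp

end Cfsg.Agent.Lib.Helper17_MultFree
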