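import Mathlib
import Cfsg.Prelude.Def_Blocks
import Cfsg.Agent.Lib.Helper16_GenMain
import Cfsg.Agent.Lib.Helper17_MultFree
import Cfsg.Agent.Lib.Helper57_FrobNorm
import Cfsg.Agent.Lib.Helper76_GalConj
import Cfsg.Agent.Lib.Helper76_KerPPrime
import Cfsg.Agent.Lib.Helper74_GoingUp

/-!
# Blocks of defect one, general root: the multiplicity-freeness input `H1V` (helper74)

`P` a Sylow `p`-subgroup of order `p`, `C_G(P) = P × V`, `θ ∈ Irr(V)`.  An irreducible character
`ψ` of `N_G(P)` with `P` in its kernel contains `θ` at most once on restriction to `V`: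

* `N_G(P) / C_G(P)` embeds in `Aut(P)`, which is cyclic (`isCyclic_quot`);
* `θ̃(h v) = θ(v)` is an irreducible character of `C_G(P)` (`prodEquiv`, `isIrr_tilde`);
* `[ψ|_{C_G(P)}, θ̃] = [ψ|_V, θ]` as `P ≤ ker ψ` (`classInner_tilde`);
* conclude with `Helper17_MultFree.classInner_res_eq_zero_or_one`.
-/

set_option autoImplicit false
set_option linter.unusedSectionVars false

namespace Cfsg.Agent.Lib.Helper74_H1V

open Cfsg Cfsg.Agent.Lib.Helper16_GenSetup Cfsg.Agent.Lib.Helper16_GenMain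
open scoped ComplexConjugate

variable {G : Type*} [Group G] [Fintype G] {p : ℕ} [hp : Fact p.Prime] {P : Sylow p G}
  {V : Subgroup G}

/-- The automorphism group of a group of prime order is cyclic. -/
theorem isCyclic_mulAut (hP : Nat.card P = p) : IsCyclic (MulAut ↥(P : Subgroup G)) := by
  have hcycP : IsCyclic ↥(P : Subgroup G) := isCyclic_of_prime_card hP
  have : Fact (Nat.card ↥(P : Subgroup G)).Prime := ⟨by rw [hP]; exact hp.out⟩
  have e := IsCyclic.mulAutMulEquiv ↥(P : Subgroup G)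
  exact isCyclic_of_injective e.toMonoidHom e.injective

/-- A quotient by a subgroup equal to the kernel of a map into a cyclic group is cyclic. -/
theorem isCyclic_quot_of_eq_ker {N A : Type*} [Group N] [Group A] (hA : IsCyclic A) (f : N →* A)
    (K : Subgroup N) (hK : K = f.ker) (hn : K.Normal) : IsCyclic (N ⧸ K) := by
  subst hK
  exact isCyclic_of_injective (QuotientGroup.kerLift f) (QuotientGroup.kerLift_injective f)

theorem normal_cN (P : Sylow p G) :
    ((Subgroup.centralizer ((P : Subgroup G) : Set G)).subgroupOf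
      (Subgroup.normalizer ((P : Subgroup G) : Set G))).Normal := by
  rw [← Subgroup.normalizerMonoidHom_ker]
  infer_instance

/-- `N_G(P) / C_G(P)` is cyclic. -/
theorem isCyclic_quot (hP : Nat.card P = p)
    (hn : ((Subgroup.centralizer ((P : Subgroup G) : Set G)).subgroupOf
      (Subgroup.normalizer ((P : Subgroup G) : Set G))).Normal) :
    IsCyclic (↥(Subgroup.normalizer ((P : Subgroup G) : Set G)) ⧸
      ((Subgroup.centralizer ((P : Subgroup G) : Set G)).subgroupOf
        (Subgroup.normalizer ((P : Subgroup G) : Set G)))) :=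
  isCyclic_quot_of_eq_ker (isCyclic_mulAut hP) (P : Subgroup G).normalizerMonoidHom _
    (Subgroup.normalizerMonoidHom_ker (H := (P : Subgroup G))).symm hn

theorem prodHom_mem_centralizer (hP : Nat.card P = p) (hV : IsPCompl P V)
    (x : ↥(P : Subgroup G) × ↥V) :
    prodHom hV x ∈ Subgroup.centralizer ((P : Subgroup G) : Set G) :=
  Subgroup.mul_mem _ (Cfsg.Agent.Lib.Helper16_BrauerSetup.le_centralizer P hP x.1.2) (hV.le x.2.2)

theorem prodHom_mem_normalizer (hP : Nat.card P = p) (hV : IsPCompl P V)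
    (x : ↥(P : Subgroup G) × ↥V) :
    prodHom hV x ∈ Subgroup.normalizer ((P : Subgroup G) : Set G) :=
  Subgroup.centralizer_le_normalizer _ (prodHom_mem_centralizer hP hV x)

theorem prodHom_injective (hP : Nat.card P = p) (hV : IsPCompl P V) :
    Function.Injective (prodHom hV) := by
  intro x y hxy
  have h1 : (x.1 : G) * (x.2 : G) = (y.1 : G) * (y.2 : G) := hxy
  have h2 : (y.1 : G)⁻¹ * (x.1 : G) = (y.2 : G) * (x.2 : G)⁻¹ := by
    calc (y.1 : G)⁻¹ * (x.1 : G) = (y.1 : G)⁻¹ * ((x.1 : G) * (x.2 : G)) * (x.2 : G)⁻¹ := by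
          group
      _ = (y.1 : G)⁻¹ * ((y.1 : G) * (y.2 : G)) * (x.2 : G)⁻¹ := by rw [h1]
      _ = (y.2 : G) * (x.2 : G)⁻¹ := by group
  have h3 : (y.1 : G)⁻¹ * (x.1 : G) ∈ (P : Subgroup G) :=
    Subgroup.mul_mem _ (Subgroup.inv_mem _ y.1.2) x.1.2
  have h4 : (y.1 : G)⁻¹ * (x.1 : G) ∈ V := by
    rw [h2]; exact Subgroup.mul_mem _ y.2.2 (Subgroup.inv_mem _ x.2.2)
  have h5 : (y.1 : G)⁻¹ * (x.1 : G) = 1 := by
    have ho1 : orderOf ((y.1 : G)⁻¹ * (x.1 : G)) ∣ p := by
      have := Subgroup.orderOf_dvd_natCard _ h3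
      rwa [hP] at this
    have ho2 : orderOf ((y.1 : G)⁻¹ * (x.1 : G)) ∣ Nat.card V :=
      Subgroup.orderOf_dvd_natCard _ h4
    have ho3 : orderOf ((y.1 : G)⁻¹ * (x.1 : G)) ∣ 1 := by
      have := Nat.dvd_gcd ho2 ho1
      rwa [hV.coprime] at this
    exact orderOf_eq_one_iff.mp (Nat.dvd_one.mp ho3)
  have h6 : (x.1 : G) = (y.1 : G) := by
    have := inv_mul_eq_one.mp h5
    exact this.symm
  have h7 : (x.2 : G) = (y.2 : G) := by
    rw [h6] at h1
    exact mul_left_cancel h1
  exact Prod.ext (Subtype.ext h6) (Subtype.ext h7)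

/-- The multiplication map `P × V → C_G(P)`, with `C_G(P)` seen inside `N_G(P)`. -/
def prodHomC (hP : Nat.card P = p) (hV : IsPCompl P V) :
    ↥(P : Subgroup G) × ↥V →*
      ↥((Subgroup.centralizer ((P : Subgroup G) : Set G)).subgroupOf
        (Subgroup.normalizer ((P : Subgroup G) : Set G))) :=
  (((prodHom hV).codRestrict (Subgroup.normalizer ((P : Subgroup G) : Set G))
      (prodHom_mem_normalizer hP hV)).codRestrict
    ((Subgroup.centralizer ((P : Subgroup G) : Set G)).subgroupOf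
      (Subgroup.normalizer ((P : Subgroup G) : Set G)))
    (fun x => Subgroup.mem_subgroupOf.mpr (prodHom_mem_centralizer hP hV x)))

theorem prodHomC_coe (hP : Nat.card P = p) (hV : IsPCompl P V) (x : ↥(P : Subgroup G) × ↥V) :
    (((prodHomC hP hV x :
      ↥((Subgroup.centralizer ((P : Subgroup G) : Set G)).subgroupOf
        (Subgroup.normalizer ((P : Subgroup G) : Set G)))) :
      ↥(Subgroup.normalizer ((P : Subgroup G) : Set G))) : G) = (x.1 : G) * (x.2 : G) := rfl

theorem prodHomC_bijective (hP : Nat.card P = p) (hV : IsPCompl P V) :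
    Function.Bijective (prodHomC hP hV) := by
  constructor
  · intro x y hxy
    apply prodHom_injective hP hV
    have := congrArg (fun c : ↥((Subgroup.centralizer ((P : Subgroup G) : Set G)).subgroupOf
        (Subgroup.normalizer ((P : Subgroup G) : Set G))) => ((c :
      ↥(Subgroup.normalizer ((P : Subgroup G) : Set G))) : G)) hxy
    exact this
  · intro c
    have hc : ((c : ↥(Subgroup.normalizer ((P : Subgroup G) : Set G))) : G) ∈
        Subgroup.centralizer ((P : Subgroup G) : Set G) := Subgroup.mem_subgroupOf.mp c.2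
    obtain ⟨h, hh, v, hv, hcv⟩ := hV.prod _ hc
    refine ⟨(⟨h, hh⟩, ⟨v, hv⟩), ?_⟩
    apply Subtype.ext
    apply Subtype.ext
    rw [prodHomC_coe]
    exact hcv.symm

/-- `P × V ≃* C_G(P)`. -/
noncomputable def prodEquiv (hP : Nat.card P = p) (hV : IsPCompl P V) :
    ↥(P : Subgroup G) × ↥V ≃*
      ↥((Subgroup.centralizer ((P : Subgroup G) : Set G)).subgroupOf
        (Subgroup.normalizer ((P : Subgroup G) : Set G))) :=
  MulEquiv.ofBijective (prodHomC hP hV) (prodHomC_bijective hP hV)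

theorem prodEquiv_coe (hP : Nat.card P = p) (hV : IsPCompl P V) (x : ↥(P : Subgroup G) × ↥V) :
    (((prodEquiv hP hV x :
      ↥((Subgroup.centralizer ((P : Subgroup G) : Set G)).subgroupOf
        (Subgroup.normalizer ((P : Subgroup G) : Set G)))) :
      ↥(Subgroup.normalizer ((P : Subgroup G) : Set G))) : G) = (x.1 : G) * (x.2 : G) := rfl

/-- `θ̃(h v) = θ(v)` on `C_G(P)`. -/
noncomputable def tilde (hP : Nat.card P = p) (hV : IsPCompl P V) (θ : ↥V → ℂ) :
    ↥((Subgroup.centralizer ((P : Subgroup G) : Set G)).subgroupOf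
        (Subgroup.normalizer ((P : Subgroup G) : Set G))) → ℂ :=
  fun c => θ ((prodEquiv hP hV).symm c).2

theorem tilde_apply (hP : Nat.card P = p) (hV : IsPCompl P V) (θ : ↥V → ℂ)
    (x : ↥(P : Subgroup G) × ↥V) : tilde hP hV θ (prodEquiv hP hV x) = θ x.2 := by
  unfold tilde
  rw [MulEquiv.symm_apply_apply]

theorem isIrr_tilde (hP : Nat.card P = p) (hV : IsPCompl P V) (θ : IrrCharacter ↥V) :
    IsIrrCharacter ↥((Subgroup.centralizer ((P : Subgroup G) : Set G)).subgroupOf
        (Subgroup.normalizer ((P : Subgroup G) : Set G))) (tilde hP hV (θ : ↥V → ℂ)) := by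
  have h1 : IsIrrCharacter (↥(P : Subgroup G) × ↥V) (fun x => (θ : ↥V → ℂ) x.2) :=
    Cfsg.Agent.Lib.Helper57_FrobNorm.isIrrCharacter_comp_surjective
      (MonoidHom.snd ↥(P : Subgroup G) ↥V) (fun v => ⟨(1, v), rfl⟩) θ.2
  exact Cfsg.Agent.Lib.Helper74_GoingUp.isIrr_comp_equiv (prodEquiv hP hV).symm h1

variable [Fintype ↥V]

/-- The multiplicity of `θ̃` in `ψ|_{C_G(P)}` is the multiplicity of `θ` in `ψ|_V`. -/
theorem classInner_tilde (hP : Nat.card P = p) (hV : IsPCompl P V) (θ : IrrCharacter ↥V)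
    [Fintype ↥((Subgroup.centralizer ((P : Subgroup G) : Set G)).subgroupOf
        (Subgroup.normalizer ((P : Subgroup G) : Set G)))]
    (ψ : IrrCharacter ↥(Subgroup.normalizer ((P : Subgroup G) : Set G)))
    (hψ : ∀ h : ↥(Subgroup.normalizer ((P : Subgroup G) : Set G)), (h : G) ∈ (P : Subgroup G) →
      (ψ : ↥(Subgroup.normalizer ((P : Subgroup G) : Set G)) → ℂ) h =
        (ψ : ↥(Subgroup.normalizer ((P : Subgroup G) : Set G)) → ℂ) 1) :
    classInner (fun c : ↥((Subgroup.centralizer ((P : Subgroup G) : Set G)).subgroupOf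
        (Subgroup.normalizer ((P : Subgroup G) : Set G))) =>
        (ψ : ↥(Subgroup.normalizer ((P : Subgroup G) : Set G)) → ℂ) c)
      (tilde hP hV (θ : ↥V → ℂ)) =
    (Nat.card V : ℂ)⁻¹ * ∑ v : ↥V,
        (ψ : ↥(Subgroup.normalizer ((P : Subgroup G) : Set G)) → ℂ)
          ⟨(v : G), IsPCompl.mem_normalizer hV v⟩ * conj ((θ : ↥V → ℂ) v) := by
  classical
  haveI : Fintype ↥(P : Subgroup G) := Fintype.ofFinite _
  unfold classInner
  have hcard : Nat.card ↥((Subgroup.centralizer ((P : Subgroup G) : Set G)).subgroupOf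
        (Subgroup.normalizer ((P : Subgroup G) : Set G))) = p * Nat.card V := by
    rw [← Nat.card_congr (prodEquiv hP hV).toEquiv, Nat.card_prod, hP]
  rw [hcard]
  rw [← Equiv.sum_comp (prodEquiv hP hV).toEquiv]
  have hterm : ∀ x : ↥(P : Subgroup G) × ↥V,
      (ψ : ↥(Subgroup.normalizer ((P : Subgroup G) : Set G)) → ℂ)
        (((prodEquiv hP hV).toEquiv x :
          ↥((Subgroup.centralizer ((P : Subgroup G) : Set G)).subgroupOf
            (Subgroup.normalizer ((P : Subgroup G) : Set G)))) :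
          ↥(Subgroup.normalizer ((P : Subgroup G) : Set G))) *
        conj (tilde hP hV (θ : ↥V → ℂ) ((prodEquiv hP hV).toEquiv x)) =
      (ψ : ↥(Subgroup.normalizer ((P : Subgroup G) : Set G)) → ℂ)
          ⟨(x.2 : G), IsPCompl.mem_normalizer hV x.2⟩ * conj ((θ : ↥V → ℂ) x.2) := by
    intro x
    have e1 : (((prodEquiv hP hV).toEquiv x :
          ↥((Subgroup.centralizer ((P : Subgroup G) : Set G)).subgroupOf
            (Subgroup.normalizer ((P : Subgroup G) : Set G)))) :
          ↥(Subgroup.normalizer ((P : Subgroup G) : Set G))) =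
        (⟨(x.1 : G), Subgroup.le_normalizer x.1.2⟩ :
          ↥(Subgroup.normalizer ((P : Subgroup G) : Set G))) *
        ⟨(x.2 : G), IsPCompl.mem_normalizer hV x.2⟩ := by
      apply Subtype.ext
      exact prodEquiv_coe hP hV x
    have e2 : tilde hP hV (θ : ↥V → ℂ) ((prodEquiv hP hV).toEquiv x) = (θ : ↥V → ℂ) x.2 :=
      tilde_apply hP hV _ x
    rw [e1, e2]
    congr 1
    apply Cfsg.Agent.Lib.Helper76_KerPPrime.irr_mul_of_mem_kerC ψ
    rw [Cfsg.Agent.Lib.Helper76_GalConj.mem_kerC]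
    exact hψ _ x.1.2
  rw [Finset.sum_congr rfl (fun x _ => hterm x)]
  have hPc : Nat.card ↥(P : Subgroup G) = p := hP
  have hsplit : ∀ g : ↥V → ℂ,
      ∑ x : ↥(P : Subgroup G) × ↥V, g x.2 = (p : ℂ) * ∑ v, g v := by
    intro g
    rw [Fintype.sum_prod_type]
    dsimp only
    rw [Finset.sum_const, Finset.card_univ, nsmul_eq_mul, ← Nat.card_eq_fintype_card, hPc]
  have key := hsplit (fun v : ↥V =>
    (ψ : ↥(Subgroup.normalizer ((P : Subgroup G) : Set G)) → ℂ)
      ⟨(v : G), IsPCompl.mem_normalizer hV v⟩ * conj ((θ : ↥V → ℂ) v))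
  beta_reduce at key
  rw [key]
  have hp0 : (p : ℂ) ≠ 0 := by exact_mod_cast hp.out.ne_zero
  have hV0 : (Nat.card V : ℂ) ≠ 0 := by
    rw [Nat.cast_ne_zero]; exact Nat.card_pos.ne'
  push_cast
  field_simp

/-- **(H1V)** An irreducible character of `N_G(P)` with `P` in its kernel contains `θ ∈ Irr(V)` at
most once on restriction to `V`. -/
theorem h1V (hP : Nat.card P = p) (hV : IsPCompl P V) (θ : IrrCharacter ↥V) :
    Cfsg.Agent.Lib.Helper16_GenMain.H1V hV θ := by
  classical
  intro ψ hψ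
  haveI : Fintype ↥(Subgroup.normalizer ((P : Subgroup G) : Set G)) := Fintype.ofFinite _
  haveI : Fintype ↥((Subgroup.centralizer ((P : Subgroup G) : Set G)).subgroupOf
        (Subgroup.normalizer ((P : Subgroup G) : Set G))) := Fintype.ofFinite _
  have hn := normal_cN P
  have hcyc := isCyclic_quot hP hn
  have hmf := Cfsg.Agent.Lib.Helper17_MultFree.classInner_res_eq_zero_or_one
    ((Subgroup.centralizer ((P : Subgroup G) : Set G)).subgroupOf
        (Subgroup.normalizer ((P : Subgroup G) : Set G))) hn hcyc ψ.2 (isIrr_tilde hP hV θ)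
  rw [classInner_tilde hP hV θ ψ hψ] at hmf
  exact hmf

end Cfsg.Agent.Lib.Helper74_H1V
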