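import Mathlib
import Cfsg.Prelude.Def_Blocks
import Cfsg.Agent.Lib.Helper3_CharEigen
import Cfsg.Agent.Lib.Helper3_CharOrtho
import Cfsg.Agent.Lib.Helper25_AbDual
import Cfsg.Agent.Lib.Helper80_CharBasic
import Cfsg.Agent.Lib.Helper16_BrauerSetup
import Cfsg.Agent.Lib.Helper16_BrauerAut
import Cfsg.Agent.Lib.Helper16_BrauerMain
import Cfsg.Agent.Lib.Helper16_BrauerFinal
import Cfsg.Agent.Lib.Helper78_McKayA
import Cfsg.Agent.Lib.Helper77_BlockBasics
import Cfsg.Agent.Lib.Helper75_CharArith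
import Cfsg.Agent.Lib.Helper78_LocalRing
import Cfsg.Agent.Lib.Helper78_PartAGen2
import Cfsg.Agent.Lib.Helper23_ZStarB
import Cfsg.Agent.Lib.Helper16_GenBridge
import Cfsg.Agent.Lib.Helper16_GenGlue
import Cfsg.Agent.Lib.Helper16_GenMain
import Cfsg.Agent.Lib.Helper57_CTGen
import Cfsg.Agent.Lib.Helper74_H1V
import Cfsg.Agent.Lib.Helper16_GenSetup
import Cfsg.Agent.Lib.Helper16_GenK
import Cfsg.Agent.Lib.Helper16_GenFinal
import Cfsg.Agent.Lib.Helper16_GenConj

/-!
# S4503, package PK-L: irreducible characters of degree `< (p - 1) / 2` (helper16)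

`P` a Sylow subgroup of order `p`, `C_G(P) = P × V`, `f = |N_G(P) : C_G(P)|`.

* `mem_center_of_norm_eq` : `‖z y‖ = z 1` for a faithful irreducible `z` puts `y` in the centre;
* `multg_conj`, `mult_eq_sum_multg`, `mult_comp_autP` : bookkeeping for the multiplicities;
* `support_eq_orbit`, `exists_pow_not_autP`, `sum_twist_eq_zero` : the orbit combinatorics on `P`;
* `exists_gen_data` : every irreducible character of degree prime to `p` lies in some `BGen P V θ`
  (with the vanishing of the non-conjugate components);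
* `small_dichotomy`, `small_structure` : an irreducible `z` with `2 z(1) + 1 < p`, not trivial on
  `P`, is a small exceptional character: `z(1) = f θ(1)`, the constituents of `z|_P` are one
  `N_G(P)`-orbit, `‖z|_V‖² = f e`;
* `pk_local` : the package PK-L.
-/

set_option autoImplicit false
set_option linter.unusedSectionVars false

namespace Cfsg.Agent.Lib.Helper16_SmallDeg

open Cfsg Cfsg.Agent.Lib.Helper16_BrauerSetup Cfsg.Agent.Lib.Helper16_BrauerAut
  Cfsg.Agent.Lib.Helper16_GenSetup Cfsg.Agent.Lib.Helper16_GenK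
  Cfsg.Agent.Lib.Helper16_GenFinal Cfsg.Agent.Lib.Helper16_GenConj
open scoped ComplexConjugate

variable {G : Type*} [Group G] [Fintype G] {p : ℕ} [hp : Fact p.Prime] {P : Sylow p G}
  {V : Subgroup G}

section conjugation

variable [Fintype ↥(P : Subgroup G)] [Fintype ↥V]

/-- The automorphism of `P` induced by `n ∈ N_G(P)`. -/
def conjP (n : G) (hn : n ∈ Subgroup.normalizer ((P : Subgroup G) : Set G)) :
    MulAut ↥(P : Subgroup G) :=
  (P : Subgroup G).normalizerMonoidHom ⟨n, hn⟩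

theorem conjP_mem (n : G) (hn : n ∈ Subgroup.normalizer ((P : Subgroup G) : Set G)) :
    conjP n hn ∈ autP P := ⟨⟨n, hn⟩, rfl⟩

theorem conjP_apply (n : G) (hn : n ∈ Subgroup.normalizer ((P : Subgroup G) : Set G))
    (h : ↥(P : Subgroup G)) : conjP n hn h = ⟨n * (h : G) * n⁻¹, conj_mem_P hn h⟩ := rfl

/-- The multiplicities of the `θ^n`-component are those of the `θ`-component, moved by `n`. -/
theorem multg_conj (hV : IsPCompl P V) (n : G)
    (hn : n ∈ Subgroup.normalizer ((P : Subgroup G) : Set G)) (θ : IrrCharacter ↥V)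
    (χ : IrrCharacter G) (φ : ↥(P : Subgroup G) →* ℂˣ) :
    multg hV (conjθ hV n hn θ) χ φ =
      multg hV θ χ (φ.comp (conjP n hn).symm.toMonoidHom) := by
  have h1 := multg_spec hV (conjθ hV n hn θ) χ φ
  have h2 := multg_spec hV θ χ (φ.comp (conjP n hn).symm.toMonoidHom)
  have h3 : classInner (sfun P V (conjθ hV n hn θ) χ) (fun h => ((φ h : ℂˣ) : ℂ)) =
      classInner (sfun P V θ χ)
        (fun h => (((φ.comp (conjP n hn).symm.toMonoidHom) h : ℂˣ) : ℂ)) := by
    unfold classInner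
    congr 1
    refine (Finset.sum_congr rfl fun h _ => ?_).trans
      (Equiv.sum_comp (conjP n hn).toEquiv
        (fun h' : ↥(P : Subgroup G) => sfun P V θ χ h' *
          conj (((φ.comp (conjP n hn).symm.toMonoidHom) h' : ℂˣ) : ℂ)))
    rw [sfun_conj hV n hn θ χ h]
    show _ = sfun P V θ χ (conjP n hn h) *
      conj ((φ ((conjP n hn).symm (conjP n hn h)) : ℂˣ) : ℂ)
    rw [MulEquiv.symm_apply_apply]
    rfl
  rw [h1, h2] at h3
  exact_mod_cast h3

theorem multg_conj_one (hV : IsPCompl P V) (n : G)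
    (hn : n ∈ Subgroup.normalizer ((P : Subgroup G) : Set G)) (θ : IrrCharacter ↥V)
    (χ : IrrCharacter G) : multg hV (conjθ hV n hn θ) χ 1 = multg hV θ χ 1 := by
  rw [multg_conj hV n hn θ χ 1]
  rfl

end conjugation

section multP

variable [Fintype ↥(P : Subgroup G)] [Fintype ↥V]

/-- The multiplicity of `φ` in `χ|_P` is `∑_{θ'} θ'(1) · (multiplicity of φ × θ' in χ|_{P × V})`. -/
theorem mult_eq_sum_multg (hV : IsPCompl P V) (χ : IrrCharacter G)
    (φ : ↥(P : Subgroup G) →* ℂˣ) :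
    mult P χ φ = ∑ θ' : IrrCharacter ↥V, charDegree (θ' : ↥V → ℂ) * multg hV θ' χ φ := by
  have h1 := mult_spec P χ φ
  have h2 : resP P χ = ∑ θ' : IrrCharacter ↥V,
      ((charDegree (θ' : ↥V → ℂ) : ℕ) : ℂ) • sfun P V θ' χ := by
    funext h
    rw [Finset.sum_apply]
    have h3 := value_hv hV χ h 1
    simp only [OneMemClass.coe_one, mul_one] at h3
    show (χ : G → ℂ) (h : G) = _
    rw [h3]
    refine Finset.sum_congr rfl fun θ' _ => ?_
    rw [Pi.smul_apply, smul_eq_mul, Cfsg.Agent.Lib.Helper16_BrauerFinal.charDegree_cast θ']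
    ring
  rw [h2, Cfsg.Agent.Lib.Helper3_CharOrtho.classInner_sum_left] at h1
  have h4 : ∀ θ' : IrrCharacter ↥V,
      classInner (((charDegree (θ' : ↥V → ℂ) : ℕ) : ℂ) • sfun P V θ' χ)
        (fun h => ((φ h : ℂˣ) : ℂ)) =
      ((charDegree (θ' : ↥V → ℂ) * multg hV θ' χ φ : ℕ) : ℂ) := by
    intro θ'
    rw [Cfsg.Agent.Lib.Helper3_CharOrtho.classInner_smul_left, multg_spec hV θ' χ φ]
    push_cast
    ring
  rw [Finset.sum_congr rfl (fun θ' _ => h4 θ')] at h1
  exact_mod_cast h1.symm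

/-- The multiplicities in `χ|_P` are invariant under the automizer of `P`. -/
theorem mult_comp_autP (χ : IrrCharacter G) (φ : ↥(P : Subgroup G) →* ℂˣ)
    {α : MulAut ↥(P : Subgroup G)} (hα : α ∈ autP P) :
    mult P χ (φ.comp α.toMonoidHom) = mult P χ φ := by
  have h1 := mult_spec P χ (φ.comp α.toMonoidHom)
  have h2 := mult_spec P χ φ
  have h3 : classInner (resP P χ) (fun h => (((φ.comp α.toMonoidHom) h : ℂˣ) : ℂ)) =
      classInner (resP P χ) (fun h => ((φ h : ℂˣ) : ℂ)) := by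
    unfold classInner
    congr 1
    refine (Finset.sum_congr rfl fun h _ => ?_).trans
      (Equiv.sum_comp α.toEquiv
        (fun h' : ↥(P : Subgroup G) => resP P χ h' * conj ((φ h' : ℂˣ) : ℂ)))
    have hc : resP P χ (α h) = resP P χ h := by
      obtain ⟨g, hg⟩ := isConj_iff.mp (autP_conj P hα h)
      show (χ : G → ℂ) ((α h : ↥(P : Subgroup G)) : G) = (χ : G → ℂ) (h : G)
      rw [← hg]
      exact Cfsg.Agent.Lib.Helper80_CharBasic.irr_conj χ _ _
    show resP P χ h * _ = resP P χ (α h) * conj ((φ (α h) : ℂˣ) : ℂ)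
    rw [hc]
    rfl
  rw [h1, h2] at h3
  exact_mod_cast h3

end multP

section orbit

variable [Fintype ↥(P : Subgroup G)] [Fintype (↥(P : Subgroup G) →* ℂˣ)]

theorem comp_injective (hP : Nat.card P = p) {μ : ↥(P : Subgroup G) →* ℂˣ} (hμ : μ ≠ 1)
    {α β : MulAut ↥(P : Subgroup G)}
    (h : μ.comp α.toMonoidHom = μ.comp β.toMonoidHom) : α = β := by
  have h1 : μ.comp (α * β⁻¹).toMonoidHom = μ := by
    ext x
    have := DFunLike.congr_fun h (β⁻¹ x)
    simp only [MonoidHom.comp_apply, MulEquiv.coe_toMonoidHom] at this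
    show ((μ (α (β⁻¹ x)) : ℂˣ) : ℂ) = μ x
    rw [this]
    show ((μ (β (β⁻¹ x)) : ℂˣ) : ℂ) = μ x
    rw [MulAut.apply_inv_self]
  have h2 := (comp_eq_iff P hP hμ (α * β⁻¹)).mp h1
  exact mul_inv_eq_one.mp h2

open scoped Classical in
/-- A nonnegative `autP`-invariant weight on the linear characters of `P`, vanishing at `1`, of
total mass `f t` (`f = |autP|`) and with all nonzero values at least `t`, is `t` times the indicator
of a single orbit. -/
theorem support_eq_orbit (hP : Nat.card P = p) (m : (↥(P : Subgroup G) →* ℂˣ) → ℕ)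
    (t f : ℕ) (ht : 0 < t) (hf : 0 < f) (hcard : Nat.card (autP P) = f)
    (h1 : m 1 = 0) (hsum : ∑ φ : ↥(P : Subgroup G) →* ℂˣ, m φ = f * t)
    (hge : ∀ φ, m φ ≠ 0 → t ≤ m φ)
    (hinv : ∀ φ, ∀ α ∈ autP P, m (φ.comp α.toMonoidHom) = m φ) :
    ∃ φ₀ : ↥(P : Subgroup G) →* ℂˣ, φ₀ ≠ 1 ∧ m φ₀ = t ∧
      ∀ φ, m φ ≠ 0 → ∃ α ∈ autP P, φ = φ₀.comp α.toMonoidHom := by
  have hex : ∃ φ₀, m φ₀ ≠ 0 := by
    by_contra hno
    push Not at hno
    rw [Finset.sum_eq_zero (fun φ _ => hno φ)] at hsum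
    have : 0 < f * t := Nat.mul_pos hf ht
    omega
  obtain ⟨φ₀, hφ₀⟩ := hex
  have hφ₀1 : φ₀ ≠ 1 := by
    rintro rfl
    exact hφ₀ h1
  have hfin : Fintype (autP P) := Fintype.ofFinite _
  set O : Finset (↥(P : Subgroup G) →* ℂˣ) :=
    Finset.univ.image (fun α : autP P => φ₀.comp α.1.toMonoidHom) with hO
  have hOcard : O.card = f := by
    rw [hO, Finset.card_image_of_injective]
    · rw [Finset.card_univ, ← Nat.card_eq_fintype_card, hcard]
    · intro α β hαβ
      exact Subtype.ext (comp_injective hP hφ₀1 hαβ)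
  have hOm : ∀ φ ∈ O, m φ = m φ₀ := by
    intro φ hφ
    obtain ⟨α, -, rfl⟩ := Finset.mem_image.mp hφ
    exact hinv φ₀ α.1 α.2
  have hsplit := Finset.sum_filter_add_sum_filter_not Finset.univ (· ∈ O) m
  have hsO : ∑ φ ∈ Finset.univ.filter (· ∈ O), m φ = f * m φ₀ := by
    have : Finset.univ.filter (· ∈ O) = O := by
      ext φ
      simp
    rw [this, Finset.sum_congr rfl hOm, Finset.sum_const, hOcard, smul_eq_mul]
  rw [hsO, hsum] at hsplit
  have hge0 := hge φ₀ hφ₀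
  have hmul : f * t ≤ f * m φ₀ := Nat.mul_le_mul_left f hge0
  have hrest : ∑ φ ∈ Finset.univ.filter (fun φ => ¬ φ ∈ O), m φ = 0 := by omega
  have hfm : f * m φ₀ = f * t := by omega
  have hm0 : m φ₀ = t := Nat.eq_of_mul_eq_mul_left hf hfm
  refine ⟨φ₀, hφ₀1, hm0, ?_⟩
  intro φ hφ
  by_contra hno
  have hφO : φ ∉ O := by
    intro hφO
    obtain ⟨α, -, rfl⟩ := Finset.mem_image.mp hφO
    exact hno ⟨α.1, α.2, rfl⟩
  have := (Finset.sum_eq_zero_iff.mp hrest) φ (Finset.mem_filter.mpr ⟨Finset.mem_univ _, hφO⟩)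
  exact hφ this

end orbit

section choosek

/-- If the automizer of `P` is not all of `Aut(P)`, some `p`-conjugation `h ↦ h ^ k` of `P` is not
induced by `N_G(P)`. -/
theorem exists_pow_not_autP (hP : Nat.card P = p) (hlt : Nat.card (autP P) < p - 1) :
    ∃ k : ℕ, k.Coprime (Nat.card G) ∧
      k ≡ 1 [MOD Nat.card G / p ^ (Nat.card G).factorization p] ∧
      ∃ β : MulAut ↥(P : Subgroup G), β ∉ autP P ∧ ∀ h : ↥(P : Subgroup G), β h = h ^ k := by
  have hc : IsCyclic ↥(P : Subgroup G) := isCyclic_of_prime_card hP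
  have hAut : Nat.card (MulAut ↥(P : Subgroup G)) = p - 1 := by
    rw [hc.card_mulAut, hP, Nat.totient_prime hp.out]
  obtain ⟨β, hβ⟩ : ∃ β : MulAut ↥(P : Subgroup G), β ∉ autP P := by
    by_contra hno
    push Not at hno
    have : autP P = ⊤ := by
      ext β
      simp [hno β]
    rw [this, Subgroup.card_top, hAut] at hlt
    omega
  have hpow : ∀ h : ↥(P : Subgroup G), h ^ p = 1 := by
    intro h
    have := pow_card_eq_one' (G := ↥(P : Subgroup G)) (x := h)
    rwa [hP] at this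
  obtain ⟨h₀, hh₀⟩ : ∃ h₀ : ↥(P : Subgroup G), h₀ ≠ 1 := by
    have h1 : 1 < Nat.card ↥(P : Subgroup G) := by
      rw [hP]
      exact hp.out.one_lt
    have : Nontrivial ↥(P : Subgroup G) := (Finite.one_lt_card_iff_nontrivial).mp h1
    exact exists_ne 1
  obtain ⟨j, hj⟩ := exists_zpow_eq P hP hh₀ (β h₀)
  have hpz : (p : ℤ) ≠ 0 := by exact_mod_cast hp.out.ne_zero
  set j' : ℕ := (j % (p : ℤ)).toNat with hj'
  have hj'c : ((j' : ℕ) : ℤ) = j % (p : ℤ) := Int.toNat_of_nonneg (Int.emod_nonneg j hpz)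
  have hj'0 : h₀ ^ j' = β h₀ := by
    rw [← hj, ← zpow_natCast, hj'c]
    have h2 : j = j % (p : ℤ) + (p : ℤ) * (j / (p : ℤ)) := (Int.emod_add_mul_ediv j p).symm
    conv_rhs => rw [h2]
    rw [zpow_add, zpow_mul, zpow_natCast, hpow, one_zpow, mul_one]
  have hβ_all : ∀ h : ↥(P : Subgroup G), β h = h ^ j' := by
    intro h
    obtain ⟨i, rfl⟩ := exists_zpow_eq P hP hh₀ h
    rw [map_zpow, ← hj'0, ← zpow_natCast, ← zpow_natCast, ← zpow_mul, ← zpow_mul, mul_comm]
  have hpj' : ¬ p ∣ j' := by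
    rintro ⟨c, hc'⟩
    have : β h₀ = 1 := by
      rw [← hj'0, hc', pow_mul, hpow, one_pow]
    apply hh₀
    have h3 : β h₀ = β 1 := by rw [this, map_one]
    exact β.injective h3
  -- the Chinese remainder theorem
  have hfac := Cfsg.Agent.Lib.Helper78_McKayA.factorization_card P hP
  set m : ℕ := Nat.card G / p ^ (Nat.card G).factorization p with hm
  have hGpos : Nat.card G ≠ 0 := Nat.card_pos.ne'
  have hGm : Nat.card G = p * m := by
    have := Nat.ordProj_mul_ordCompl_eq_self (Nat.card G) p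
    rw [hfac, pow_one] at this
    rw [hm, hfac, pow_one]
    exact this.symm
  have hcop : p.Coprime m := by
    have := Nat.coprime_ordCompl hp.out hGpos
    rw [hm]
    exact this
  set k : ℕ := (Nat.chineseRemainder hcop j' 1 : ℕ) with hk
  have hk1 : k ≡ j' [MOD p] := (Nat.chineseRemainder hcop j' 1).2.1
  have hk2 : k ≡ 1 [MOD m] := (Nat.chineseRemainder hcop j' 1).2.2
  refine ⟨k, ?_, hk2, β, hβ, ?_⟩
  · rw [hGm]
    apply Nat.Coprime.mul_right
    · rw [Nat.coprime_comm]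
      apply (Nat.Prime.coprime_iff_not_dvd hp.out).mpr
      intro hpk
      apply hpj'
      exact (Nat.modEq_zero_iff_dvd.mp ((hk1.symm.trans (Nat.modEq_zero_iff_dvd.mpr hpk))))
    · have := hk2.gcd_eq
      rw [Nat.gcd_one_left] at this
      exact this
  · intro h
    rw [hβ_all h]
    apply (pow_eq_pow_iff_modEq).mpr
    apply Nat.ModEq.of_dvd _ hk1.symm
    exact orderOf_dvd_of_pow_eq_one (hpow h)

end choosek

section sumzero

variable [Fintype ↥(P : Subgroup G)] [Fintype (↥(P : Subgroup G) →* ℂˣ)]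

/-- If the constituents of `z|_P` form a single `autP`-orbit and `β ∉ autP P`, then `z|_P` and
`z|_P ∘ β` have no common constituent. -/
theorem sum_twist_eq_zero (hP : Nat.card P = p) (z : IrrCharacter G)
    (φ₀ : ↥(P : Subgroup G) →* ℂˣ) (hφ₀ : φ₀ ≠ 1)
    (hsupp : ∀ φ, mult P z φ ≠ 0 → ∃ α ∈ autP P, φ = φ₀.comp α.toMonoidHom)
    (β : MulAut ↥(P : Subgroup G)) (hβ : β ∉ autP P) :
    ∑ y : ↥(P : Subgroup G), (z : G → ℂ) (y : G) * conj ((z : G → ℂ) ((β y : ↥(P : Subgroup G)) : G))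
      = 0 := by
  have hP' : (Nat.card ↥(P : Subgroup G) : ℂ) = p := by exact_mod_cast hP
  have hp0 : (p : ℂ) ≠ 0 := by exact_mod_cast hp.out.ne_zero
  -- the inner sums
  have hin : ∀ φ : ↥(P : Subgroup G) →* ℂˣ,
      ∑ y : ↥(P : Subgroup G), ((φ y : ℂˣ) : ℂ) *
        conj ((z : G → ℂ) ((β y : ↥(P : Subgroup G)) : G)) =
      (p : ℂ) * (mult P z (φ.comp β⁻¹.toMonoidHom) : ℂ) := by
    intro φ
    have h1 := mult_spec P z (φ.comp β⁻¹.toMonoidHom)
    unfold classInner at h1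
    rw [hP'] at h1
    have h2 : ∑ y : ↥(P : Subgroup G), resP P z y *
        conj (((φ.comp β⁻¹.toMonoidHom) y : ℂˣ) : ℂ) =
        (p : ℂ) * (mult P z (φ.comp β⁻¹.toMonoidHom) : ℂ) := by
      rw [← h1, ← mul_assoc, mul_inv_cancel₀ hp0, one_mul]
    have h3 := congrArg (starRingEnd ℂ) h2
    rw [map_mul, Complex.conj_natCast, Complex.conj_natCast, map_sum] at h3
    rw [← h3]
    refine (Finset.sum_congr rfl fun y _ => ?_).trans
      (Equiv.sum_comp β.toEquiv (fun y' : ↥(P : Subgroup G) =>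
        (starRingEnd ℂ) (resP P z y' * conj (((φ.comp β⁻¹.toMonoidHom) y' : ℂˣ) : ℂ))))
    show _ = (starRingEnd ℂ) (resP P z (β y) * conj ((φ (β⁻¹ (β y)) : ℂˣ) : ℂ))
    rw [MulAut.inv_apply_self, map_mul, Complex.conj_conj]
    show _ = conj ((z : G → ℂ) ((β y : ↥(P : Subgroup G)) : G)) * ((φ y : ℂˣ) : ℂ)
    ring
  have hexp : ∀ y : ↥(P : Subgroup G),
      (z : G → ℂ) (y : G) * conj ((z : G → ℂ) ((β y : ↥(P : Subgroup G)) : G)) =
      ∑ φ : ↥(P : Subgroup G) →* ℂˣ, (mult P z φ : ℂ) *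
        (((φ y : ℂˣ) : ℂ) * conj ((z : G → ℂ) ((β y : ↥(P : Subgroup G)) : G))) := by
    intro y
    rw [Cfsg.Agent.Lib.Helper16_BrauerSetup.value_eq P hP z y, Finset.sum_mul]
    refine Finset.sum_congr rfl fun φ _ => ?_
    ring
  rw [Finset.sum_congr rfl (fun y _ => hexp y), Finset.sum_comm]
  refine Finset.sum_eq_zero fun φ _ => ?_
  rw [← Finset.mul_sum, hin φ]
  by_cases h1 : mult P z φ = 0
  · rw [h1]
    simp
  by_cases h2 : mult P z (φ.comp β⁻¹.toMonoidHom) = 0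
  · rw [h2]
    simp
  exfalso
  obtain ⟨α, hα, hφα⟩ := hsupp φ h1
  obtain ⟨α', hα', hφα'⟩ := hsupp _ h2
  have h3 : φ₀.comp (α * β⁻¹).toMonoidHom = φ₀.comp α'.toMonoidHom := by
    rw [← hφα', hφα]
    rfl
  have h4 := comp_injective hP hφ₀ h3
  apply hβ
  have h5 : β = α'⁻¹ * α := by
    rw [← h4]
    group
  rw [h5]
  exact Subgroup.mul_mem _ (Subgroup.inv_mem _ hα') hα

end sumzero

section blockdata

variable [Fintype ↥V]

/-- Every irreducible character of degree prime to `p` lies in some `BGen P V θ`, and for the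
members of that set the components at the `θ'` not conjugate to `θ` vanish on `P \ {1}`. -/
theorem exists_gen_data (hP : Nat.card P = p) (hV : IsPCompl P V) (z : IrrCharacter G)
    (hz : ¬ p ∣ charDegree (z : G → ℂ)) :
    ∃ θ : IrrCharacter ↥V, z ∈ BGen P V θ ∧
      ∀ χ ∈ BGen P V θ, ∀ θ' : IrrCharacter ↥V, ¬ IsConjθ hV θ θ' →
        ∀ h : ↥(P : Subgroup G), h ≠ 1 → sfun P V θ' χ h = 0 := by
  obtain ⟨M, hM⟩ := Cfsg.Agent.Lib.Helper23_ZStarB.exists_pModular p hp.out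
  have hMp := Cfsg.Agent.Lib.Helper78_LocalRing.isPrime_of_isPModular hM
  set B := blockOf M (z : G → ℂ) with hBdef
  have hB : IsPBlock M B := Cfsg.Agent.Lib.Helper78_LocalRing.isPBlock_blockOf z
  have hzB : z ∈ B := Cfsg.Agent.Lib.Helper78_LocalRing.mem_blockOf_self hMp z
  have hd : 0 < blockDefect p B :=
    (Cfsg.Agent.Lib.Helper78_McKayA.not_dvd_charDegree_iff P hM hP z).mp hz
  have hBP : IsDefectGroup p M B (P : Subgroup G) :=
    Cfsg.Agent.Lib.Helper78_McKayA.isDefectGroup_sylow P hM hP hB hd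
  obtain ⟨b, θC, hind, hθ, hkZ⟩ := Cfsg.Agent.Lib.Helper78_PartAGen2.exists_root P hM hP hB hBP
  have hker : Cfsg.Agent.Lib.Helper16_GenBridge.KerP θC :=
    Cfsg.Agent.Lib.Helper16_GenBridge.kerP_of_kerZ hkZ
  have hBeq : B = BGen P V (Cfsg.Agent.Lib.Helper16_GenBridge.resV hP hV θC hker) :=
    Cfsg.Agent.Lib.Helper16_GenGlue.block_eq_BGen hM hP hV hB hBP hind hθ hker
  refine ⟨Cfsg.Agent.Lib.Helper16_GenBridge.resV hP hV θC hker, ?_, ?_⟩
  · rw [← hBeq]
    exact hzB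
  · intro χ hχ θ' hnc h hh
    rw [← hBeq] at hχ
    exact Cfsg.Agent.Lib.Helper16_GenGlue.block_vanish hM hP hV hB hBP hind hθ hker hχ θ' hnc h hh

end blockdata

section bounds

variable [Fintype ↥(P : Subgroup G)] [Fintype ↥V] [Fintype (↥(P : Subgroup G) →* ℂˣ)]

theorem card_hom_eq (hP : Nat.card P = p) : Fintype.card (↥(P : Subgroup G) →* ℂˣ) = p := by
  rw [← Nat.card_eq_fintype_card, Cfsg.Agent.Lib.Helper25_AbDual.card_hom (comm_of_card P hP)]
  exact hP

/-- `⟨χ|_V, θ⟩` is the sum of the multiplicities. -/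
theorem s1_eq_sum (hP : Nat.card P = p) (hV : IsPCompl P V) (θ : IrrCharacter ↥V)
    (χ : IrrCharacter G) :
    s1 hV θ χ = ∑ φ : ↥(P : Subgroup G) →* ℂˣ, (multg hV θ χ φ : ℤ) := by
  unfold s1 nng
  rw [Finset.sum_sub_distrib, Finset.sum_const, Finset.card_univ, card_hom_eq hP, nsmul_eq_mul]
  ring

theorem s1_nonneg (hP : Nat.card P = p) (hV : IsPCompl P V) (θ : IrrCharacter ↥V)
    (χ : IrrCharacter G) : 0 ≤ s1 hV θ χ := by
  rw [s1_eq_sum hP]
  exact Finset.sum_nonneg fun φ _ => Int.natCast_nonneg _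

theorem multg_le_s1 (hP : Nat.card P = p) (hV : IsPCompl P V) (θ : IrrCharacter ↥V)
    (χ : IrrCharacter G) (φ : ↥(P : Subgroup G) →* ℂˣ) :
    (multg hV θ χ φ : ℤ) ≤ s1 hV θ χ := by
  rw [s1_eq_sum hP]
  exact Finset.single_le_sum (f := fun φ => (multg hV θ χ φ : ℤ))
    (fun φ _ => Int.natCast_nonneg _) (Finset.mem_univ φ)

/-- `θ(1) ⟨χ|_V, θ⟩ ≤ χ(1)`. -/
theorem deg_mul_s1_le (hP : Nat.card P = p) (hV : IsPCompl P V) (θ : IrrCharacter ↥V)
    (χ : IrrCharacter G) :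
    ((charDegree (θ : ↥V → ℂ) : ℕ) : ℤ) * s1 hV θ χ ≤ ((charDegree (χ : G → ℂ) : ℕ) : ℤ) := by
  rw [degree_eq_sum hP hV χ]
  exact Finset.single_le_sum
    (f := fun θ' : IrrCharacter ↥V => ((charDegree (θ' : ↥V → ℂ) : ℕ) : ℤ) * s1 hV θ' χ)
    (fun θ' _ => mul_nonneg (Int.natCast_nonneg _) (s1_nonneg hP hV θ' χ)) (Finset.mem_univ θ)

theorem s1_le (hP : Nat.card P = p) (hV : IsPCompl P V) (θ : IrrCharacter ↥V)
    (χ : IrrCharacter G) : s1 hV θ χ ≤ ((charDegree (χ : G → ℂ) : ℕ) : ℤ) := by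
  have h1 := deg_mul_s1_le hP hV θ χ
  have h2 : (1 : ℤ) ≤ ((charDegree (θ : ↥V → ℂ) : ℕ) : ℤ) := by
    exact_mod_cast Cfsg.Agent.Lib.Helper77_BlockBasics.charDegree_pos θ
  have h3 := s1_nonneg hP hV θ χ
  nlinarith

/-- If the `θ`-component of `χ` vanishes on `P \ {1}` and `χ(1) < p`, then `θ` does not occur in
`χ|_V`. -/
theorem multg_eq_zero_of_vanish (hP : Nat.card P = p) (hV : IsPCompl P V) (θ : IrrCharacter ↥V)
    (χ : IrrCharacter G) (hdeg : charDegree (χ : G → ℂ) < p)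
    (h0 : ∀ h : ↥(P : Subgroup G), h ≠ 1 → sfun P V θ χ h = 0)
    (φ : ↥(P : Subgroup G) →* ℂˣ) : multg hV θ χ φ = 0 := by
  have h1 : ∀ φ : ↥(P : Subgroup G) →* ℂˣ, (multg hV θ χ φ : ℤ) = multg hV θ χ 1 := by
    intro φ
    have := nng_eq_zero_of_vanish hP hV θ χ h0 φ
    unfold nng at this
    linarith
  have h2 : s1 hV θ χ = (p : ℤ) * multg hV θ χ 1 := by
    rw [s1_eq_sum hP, Finset.sum_congr rfl (fun φ _ => h1 φ), Finset.sum_const, Finset.card_univ,
      card_hom_eq hP, nsmul_eq_mul]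
  have h3 := s1_le hP hV θ χ
  rw [h2] at h3
  have h4 : (multg hV θ χ 1 : ℤ) = 0 := by
    by_contra hne
    have h5 : (1 : ℤ) ≤ multg hV θ χ 1 := by
      have : (0 : ℤ) ≤ multg hV θ χ 1 := Int.natCast_nonneg _
      omega
    have h6 : (p : ℤ) ≤ (p : ℤ) * multg hV θ χ 1 := by
      have hp0 : (0 : ℤ) ≤ p := Int.natCast_nonneg _
      nlinarith
    have h7 : ((charDegree (χ : G → ℂ) : ℕ) : ℤ) < p := by exact_mod_cast hdeg
    linarith
  have h8 := h1 φ
  rw [h4] at h8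
  exact_mod_cast h8

theorem s1_eq_zero_of_vanish (hP : Nat.card P = p) (hV : IsPCompl P V) (θ : IrrCharacter ↥V)
    (χ : IrrCharacter G) (hdeg : charDegree (χ : G → ℂ) < p)
    (h0 : ∀ h : ↥(P : Subgroup G), h ≠ 1 → sfun P V θ χ h = 0) : s1 hV θ χ = 0 := by
  rw [s1_eq_sum hP]
  refine Finset.sum_eq_zero fun φ _ => ?_
  rw [multg_eq_zero_of_vanish hP hV θ χ hdeg h0 φ]
  rfl

open scoped Classical in
/-- Sums over `Irr(V)` of a function supported on the `N_G(P)`-orbit of `θ` and constant there. -/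
theorem sum_orbit {A : Type*} [AddCommMonoid A] (hV : IsPCompl P V) (θ : IrrCharacter ↥V)
    (F : IrrCharacter ↥V → A) (c : A) (hc : ∀ θ', IsConjθ hV θ θ' → F θ' = c)
    (h0 : ∀ θ', ¬ IsConjθ hV θ θ' → F θ' = 0) :
    ∑ θ' : IrrCharacter ↥V, F θ' =
      ((stab hV θ).relIndex (Subgroup.normalizer ((P : Subgroup G) : Set G))) • c := by
  rw [← ncard_conjθ hV θ, Set.ncard_eq_toFinset_card' {θ' : IrrCharacter ↥V | IsConjθ hV θ θ'},
    ← Finset.sum_filter_add_sum_filter_not Finset.univ (fun θ' => IsConjθ hV θ θ')]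
  rw [Finset.sum_congr rfl (fun θ' hθ' => hc θ' (Finset.mem_filter.mp hθ').2),
    Finset.sum_congr rfl (fun θ' hθ' => h0 θ' (Finset.mem_filter.mp hθ').2),
    Finset.sum_const, Finset.sum_const, smul_zero, add_zero]
  congr 1
  congr 1
  ext θ'
  simp

end bounds

section analysis

variable [Fintype ↥(P : Subgroup G)] [Fintype ↥V] [Fintype (↥(P : Subgroup G) →* ℂˣ)]

open scoped Classical in
/-- Sum of the `nng` of a non-exceptional character. -/
theorem sum_nng_X (hP : Nat.card P = p) (hV : IsPCompl P V) (θ : IrrCharacter ↥V)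
    (χ : IrrCharacter G) (ε : ℤ)
    (h : ∀ φ : ↥(P : Subgroup G) →* ℂˣ, φ ≠ 1 → nng hV θ χ φ = - ε) :
    ∑ φ : ↥(P : Subgroup G) →* ℂˣ, nng hV θ χ φ = - ((p : ℤ) - 1) * ε := by
  rw [← Cfsg.Agent.Lib.Helper16_BrauerMain.sum_subtype_ne_one P (fun φ => nng hV θ χ φ)
    (nng_one hV θ χ)]
  rw [Finset.sum_congr rfl (fun i _ => h i.1 i.2), Finset.sum_const, Finset.card_univ,
    Cfsg.Agent.Lib.Helper16_BrauerMain.card_ne_one P hP, nsmul_eq_mul,
    Nat.cast_sub hp.out.one_le]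
  push_cast
  ring

open scoped Classical in
/-- **Dichotomy for a character of small degree** in `BGen P V θ`: either `θ` occurs in `χ|_{P × V}`
only with the trivial character of `P`, or `χ` is a small exceptional character: `1 × θ` does not
occur, every `φ × θ` occurs at most once, and `⟨χ|_V, θ⟩ = e`. -/
theorem small_dichotomy (hP : Nat.card P = p) (hV : IsPCompl P V) (θ : IrrCharacter ↥V) (e : ℕ)
    (X Y : Finset (IrrCharacter G)) (εX : IrrCharacter G → ℤ) (ε : ℤ)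
    (hYc : e * Y.card = p - 1)
    (hXp : ∀ χ ∈ X, (εX χ = 1 ∨ εX χ = -1) ∧
      ∀ φ : ↥(P : Subgroup G) →* ℂˣ, φ ≠ 1 → nng hV θ χ φ = - εX χ)
    (hε : ε = 1 ∨ ε = -1)
    (hYp : ∀ ψ ∈ Y, ∀ φ : ↥(P : Subgroup G) →* ℂˣ, φ ≠ 1 →
      nng hV θ ψ φ = 0 ∨ nng hV θ ψ φ = ε)
    (hYs : ∀ ψ ∈ Y, (Finset.univ.filter
      (fun φ : ↥(P : Subgroup G) →* ℂˣ => nng hV θ ψ φ ≠ 0)).card = e)
    (z : IrrCharacter G) (hz : z ∈ X ∨ z ∈ Y)
    (hdeg : 2 * charDegree (z : G → ℂ) + 1 < p) :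
    (∀ φ : ↥(P : Subgroup G) →* ℂˣ, φ ≠ 1 → multg hV θ z φ = 0) ∨
    (multg hV θ z 1 = 0 ∧ (∀ φ : ↥(P : Subgroup G) →* ℂˣ, multg hV θ z φ ≤ 1) ∧
      s1 hV θ z = e) := by
  have hp2 := hp.out.two_le
  have hs1le := s1_le hP hV θ z
  have hs1nn := s1_nonneg hP hV θ z
  have hD : (2 : ℤ) * ((charDegree (z : G → ℂ) : ℕ) : ℤ) + 1 < p := by exact_mod_cast hdeg
  have ha0 : (0 : ℤ) ≤ multg hV θ z 1 := Int.natCast_nonneg _
  have hpZ : (2 : ℤ) ≤ p := by exact_mod_cast hp2
  have hepos : 0 < e := by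
    rcases Nat.eq_zero_or_pos e with h | h
    · rw [h, zero_mul] at hYc
      omega
    · exact h
  have hs1def : s1 hV θ z = (p : ℤ) * (multg hV θ z 1 : ℤ) +
      ∑ φ : ↥(P : Subgroup G) →* ℂˣ, nng hV θ z φ := rfl
  have hmφ : ∀ φ : ↥(P : Subgroup G) →* ℂˣ,
      (multg hV θ z φ : ℤ) = multg hV θ z 1 + nng hV θ z φ := by
    intro φ
    unfold nng
    ring
  -- the trivial type from `a = 1` and all `nng = -1`
  have htriv : (∀ φ : ↥(P : Subgroup G) →* ℂˣ, φ ≠ 1 → nng hV θ z φ = -1) →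
      s1 hV θ z = (p : ℤ) * (multg hV θ z 1 : ℤ) - ((p : ℤ) - 1) →
      ∀ φ : ↥(P : Subgroup G) →* ℂˣ, φ ≠ 1 → multg hV θ z φ = 0 := by
    intro hn hs φ hφ
    have h1 : (multg hV θ z 1 : ℤ) = 1 := by
      have hle : (multg hV θ z 1 : ℤ) ≤ 1 := by
        by_contra hgt
        push Not at hgt
        have : (2 : ℤ) * p ≤ (p : ℤ) * (multg hV θ z 1 : ℤ) := by nlinarith
        linarith
      have hge : (1 : ℤ) ≤ multg hV θ z 1 := by
        by_contra hlt
        push Not at hlt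
        have : (multg hV θ z 1 : ℤ) = 0 := by omega
        rw [this] at hs
        linarith
      omega
    have h2 := hmφ φ
    rw [hn φ hφ, h1] at h2
    have : (multg hV θ z φ : ℤ) = 0 := by linarith
    exact_mod_cast this
  rcases hz with hzX | hzY
  · -- non-exceptional
    obtain ⟨hεz, hnz⟩ := hXp z hzX
    have hsum := sum_nng_X hP hV θ z (εX z) hnz
    rw [hsum] at hs1def
    rcases hεz with h1 | h1
    · left
      rw [h1] at hs1def hnz
      exact htriv hnz (by rw [hs1def]; ring)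
    · exfalso
      rw [h1] at hs1def
      have : (p : ℤ) - 1 ≤ s1 hV θ z := by
        rw [hs1def]
        nlinarith
      linarith
  · -- exceptional
    have hrow := rowsum_Y hV θ z ε e (hYp z hzY) (hYs z hzY)
    rw [hrow] at hs1def
    have heZ : (1 : ℤ) ≤ e := by exact_mod_cast hepos
    rcases hε with h1 | h1
    · right
      rw [h1, one_mul] at hs1def
      have ha : (multg hV θ z 1 : ℤ) = 0 := by
        by_contra hne
        have : (1 : ℤ) ≤ multg hV θ z 1 := by omega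
        have : (p : ℤ) ≤ (p : ℤ) * (multg hV θ z 1 : ℤ) := by nlinarith
        linarith
      refine ⟨by exact_mod_cast ha, ?_, ?_⟩
      · intro φ
        by_cases hφ : φ = 1
        · rw [hφ]
          have : multg hV θ z 1 = 0 := by exact_mod_cast ha
          rw [this]
          exact Nat.zero_le 1
        · have h2 := hmφ φ
          rw [ha, zero_add] at h2
          rcases hYp z hzY φ hφ with h3 | h3
          · rw [h3] at h2
            have : multg hV θ z φ = 0 := by exact_mod_cast h2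
            rw [this]
            exact Nat.zero_le 1
          · rw [h3, h1] at h2
            have : multg hV θ z φ = 1 := by exact_mod_cast h2
            rw [this]
      · rw [hs1def, ha]
        ring
    · -- sign `-1`
      rw [h1] at hs1def
      have hYpos : 0 < Y.card := Finset.card_pos.mpr ⟨z, hzY⟩
      have ha1 : (1 : ℤ) ≤ multg hV θ z 1 := by
        by_contra hlt
        have : (multg hV θ z 1 : ℤ) = 0 := by omega
        rw [this] at hs1def
        linarith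
      -- `e` is large, hence `e = p - 1`
      have he1 : e = p - 1 := by
        by_contra hne
        have hY2 : 2 ≤ Y.card := by
          by_contra hlt
          have : Y.card = 1 := by omega
          rw [this, mul_one] at hYc
          exact hne hYc
        have h2e : 2 * e ≤ p - 1 := by
          calc 2 * e = e * 2 := by ring
            _ ≤ e * Y.card := Nat.mul_le_mul_left e hY2
            _ = p - 1 := hYc
        have h2eZ : (2 : ℤ) * e ≤ (p : ℤ) - 1 := by
          have : ((2 * e : ℕ) : ℤ) ≤ ((p - 1 : ℕ) : ℤ) := by exact_mod_cast h2e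
          rw [Nat.cast_sub hp.out.one_le] at this
          push_cast at this
          exact this
        have : (p : ℤ) ≤ (p : ℤ) * (multg hV θ z 1 : ℤ) := by nlinarith
        linarith
      left
      -- every nontrivial `φ` has `nng = -1`
      have hall : ∀ φ : ↥(P : Subgroup G) →* ℂˣ, φ ≠ 1 → nng hV θ z φ = -1 := by
        have hsub : Finset.univ.filter
            (fun φ : ↥(P : Subgroup G) →* ℂˣ => nng hV θ z φ ≠ 0) ⊆
            Finset.univ.filter (fun φ : ↥(P : Subgroup G) →* ℂˣ => φ ≠ 1) := by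
          intro φ hφ
          rw [Finset.mem_filter] at hφ ⊢
          refine ⟨hφ.1, ?_⟩
          rintro rfl
          exact hφ.2 (nng_one hV θ z)
        have hcard : (Finset.univ.filter
            (fun φ : ↥(P : Subgroup G) →* ℂˣ => φ ≠ 1)).card = p - 1 := by
          rw [Finset.filter_ne' Finset.univ (1 : ↥(P : Subgroup G) →* ℂˣ),
            Finset.card_erase_of_mem (Finset.mem_univ _), Finset.card_univ, card_hom_eq hP]
        have heq := Finset.eq_of_subset_of_card_le hsub (by rw [hcard, hYs z hzY, he1])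
        intro φ hφ
        have hmem : φ ∈ Finset.univ.filter
            (fun φ : ↥(P : Subgroup G) →* ℂˣ => nng hV θ z φ ≠ 0) := by
          rw [heq]
          exact Finset.mem_filter.mpr ⟨Finset.mem_univ _, hφ⟩
        have hne := (Finset.mem_filter.mp hmem).2
        rcases hYp z hzY φ hφ with h3 | h3
        · exact absurd h3 hne
        · rw [h3, h1]
      refine htriv hall ?_
      rw [hs1def, he1, Nat.cast_sub hp.out.one_le]
      push_cast
      ring

end analysis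

section kernel

variable [Fintype ↥(P : Subgroup G)] [Fintype ↥V] [Fintype (↥(P : Subgroup G) →* ℂˣ)]

/-- In the trivial case of `small_dichotomy`, `P` lies in the kernel of `z`. -/
theorem const_on_P_of_trivial (hP : Nat.card P = p) (hV : IsPCompl P V) (θ : IrrCharacter ↥V)
    (z : IrrCharacter G) (hdeg : charDegree (z : G → ℂ) < p)
    (hvan : ∀ θ' : IrrCharacter ↥V, ¬ IsConjθ hV θ θ' →
      ∀ h : ↥(P : Subgroup G), h ≠ 1 → sfun P V θ' z h = 0)
    (hT : ∀ φ : ↥(P : Subgroup G) →* ℂˣ, φ ≠ 1 → multg hV θ z φ = 0)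
    (y : ↥(P : Subgroup G)) : (z : G → ℂ) (y : G) = (z : G → ℂ) 1 := by
  have hm : ∀ φ : ↥(P : Subgroup G) →* ℂˣ, φ ≠ 1 → mult P z φ = 0 := by
    intro φ hφ
    rw [mult_eq_sum_multg hV z φ]
    refine Finset.sum_eq_zero fun θ' _ => ?_
    by_cases hc : IsConjθ hV θ θ'
    · obtain ⟨n, hn, rfl⟩ := hc
      rw [multg_conj hV n hn θ z φ, hT _ (comp_ne_one P hφ (conjP n hn).symm), mul_zero]
    · rw [multg_eq_zero_of_vanish hP hV θ' z hdeg (hvan θ' hc) φ, mul_zero]
  have h1 : ∀ y : ↥(P : Subgroup G), (z : G → ℂ) (y : G) = (mult P z 1 : ℂ) := by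
    intro y
    rw [Cfsg.Agent.Lib.Helper16_BrauerSetup.value_eq P hP z y]
    rw [Finset.sum_eq_single (1 : ↥(P : Subgroup G) →* ℂˣ)]
    · simp
    · intro φ _ hφ
      rw [hm φ hφ]
      simp
    · intro h
      exact absurd (Finset.mem_univ _) h
  rw [h1 y]
  have := h1 1
  rw [OneMemClass.coe_one] at this
  rw [this]

end kernel

section normV

variable [Fintype ↥(P : Subgroup G)] [Fintype ↥V] [Fintype (↥(P : Subgroup G) →* ℂˣ)]

/-- `‖χ|_V‖² = ∑_{θ'} ⟨χ|_V, θ'⟩²`. -/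
theorem norm_resV (hP : Nat.card P = p) (hV : IsPCompl P V) (χ : IrrCharacter G) :
    classInner (fun v : ↥V => (χ : G → ℂ) (v : G)) (fun v : ↥V => (χ : G → ℂ) (v : G)) =
      ((∑ θ' : IrrCharacter ↥V, s1 hV θ' χ * s1 hV θ' χ : ℤ) : ℂ) := by
  have hcl : IsClassFunction ↥V (fun v : ↥V => (χ : G → ℂ) (v : G)) := by
    intro v w
    show (χ : G → ℂ) ((w * v * w⁻¹ : ↥V) : G) = (χ : G → ℂ) (v : G)
    push_cast
    exact Cfsg.Agent.Lib.Helper80_CharBasic.irr_conj χ _ _
  rw [Cfsg.Agent.Lib.Helper75_CharArith.classInner_self_eq_sum hcl]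
  push_cast
  refine Finset.sum_congr rfl fun θ' _ => ?_
  rw [← sfun_one_eq (P := P) θ' χ, ← s1_cast hP hV θ' χ, map_intCast (starRingEnd ℂ)]

end normV

section final

variable [Fintype ↥(P : Subgroup G)] [Fintype ↥V] [Fintype (↥(P : Subgroup G) →* ℂˣ)]

open scoped Classical in
/-- **Structure of an irreducible character of degree `< (p - 1) / 2` not trivial on `P`**: it is a
small exceptional character; `z(1) = f θ(1)`, the constituents of `z|_P` form a single orbit of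
`N_G(P)`, each with multiplicity `θ(1)`, and `‖z|_V‖² = f e` with `e ∣ f`. -/
theorem small_structure (hP : Nat.card P = p) (hV : IsPCompl P V) (z : IrrCharacter G)
    (hdeg : 2 * charDegree (z : G → ℂ) + 1 < p)
    (hkerP : ∃ y : ↥(P : Subgroup G), (z : G → ℂ) (y : G) ≠ (z : G → ℂ) 1) (f : ℕ)
    (hf : (Subgroup.centralizer ((P : Subgroup G) : Set G)).relIndex
      (Subgroup.normalizer ((P : Subgroup G) : Set G)) = f) :
    ∃ (θ : IrrCharacter ↥V) (φ₀ : ↥(P : Subgroup G) →* ℂˣ), φ₀ ≠ 1 ∧ 0 < f ∧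
      charDegree (z : G → ℂ) = f * charDegree (θ : ↥V → ℂ) ∧
      mult P z φ₀ = charDegree (θ : ↥V → ℂ) ∧
      (∀ φ, mult P z φ ≠ 0 → ∃ α ∈ autP P, φ = φ₀.comp α.toMonoidHom) ∧
      ∃ e : ℕ, 0 < e ∧ e ∣ f ∧
        classInner (fun v : ↥V => (z : G → ℂ) (v : G)) (fun v : ↥V => (z : G → ℂ) (v : G)) =
          ((f * e : ℕ) : ℂ) := by
  have hp2 := hp.out.two_le
  have hDpos := Cfsg.Agent.Lib.Helper77_BlockBasics.charDegree_pos z
  have hdegp : charDegree (z : G → ℂ) < p := by omega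
  have hzp : ¬ p ∣ charDegree (z : G → ℂ) := Nat.not_dvd_of_pos_of_lt hDpos hdegp
  obtain ⟨θ, hzB, hvan⟩ := exists_gen_data hP hV z hzp
  have hvanz := hvan z hzB
  obtain ⟨X, Y, εX, ε, hBXY, hdisj, hXc, hYc, hXp, hε, hYp, hYu, hYs⟩ :=
    Cfsg.Agent.Lib.Helper16_GenMain.gen_structure hP hV θ _ rfl
      (Cfsg.Agent.Lib.Helper57_CTGen.ct_gen p P hP) (Cfsg.Agent.Lib.Helper74_H1V.h1V hP hV θ)
  set e := (Subgroup.centralizer ((P : Subgroup G) : Set G)).relIndex (stab hV θ) with he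
  have hz : z ∈ X ∨ z ∈ Y := (hBXY z).mp hzB
  rcases small_dichotomy hP hV θ e X Y εX ε hYc hXp hε hYp hYs z hz hdeg with
    hT | ⟨ha, hle1, hs1⟩
  · exfalso
    obtain ⟨y, hy⟩ := hkerP
    exact hy (const_on_P_of_trivial hP hV θ z hdegp hvanz hT y)
  set t := charDegree (θ : ↥V → ℂ) with ht
  have htpos : 0 < t := Cfsg.Agent.Lib.Helper77_BlockBasics.charDegree_pos θ
  set r := (stab hV θ).relIndex (Subgroup.normalizer ((P : Subgroup G) : Set G)) with hr
  have hfe : e * r = f := by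
    rw [← hf]
    exact Subgroup.relIndex_mul_relIndex _ _ _ (centralizer_le_stab hV θ)
      (stab_le_normalizer hV θ)
  have hepos : 0 < e := by
    rcases Nat.eq_zero_or_pos e with h | h
    · rw [h, zero_mul] at hYc
      omega
    · exact h
  have hfpos : 0 < f := by
    rw [← Cfsg.Agent.Lib.Helper16_BrauerAut.card_autP P f hf]
    exact Nat.card_pos
  -- the degree
  have hD : charDegree (z : G → ℂ) = f * t := by
    have h1 := degree_eq_sum hP hV z
    rw [sum_orbit hV θ (fun θ' => ((charDegree (θ' : ↥V → ℂ) : ℕ) : ℤ) * s1 hV θ' z)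
      ((t : ℤ) * e) ?_ ?_] at h1
    · rw [nsmul_eq_mul] at h1
      have h2 : ((charDegree (z : G → ℂ) : ℕ) : ℤ) = ((f * t : ℕ) : ℤ) := by
        rw [h1, ← hfe]
        push_cast
        ring
      exact_mod_cast h2
    · rintro θ' ⟨n, hn, rfl⟩
      show ((charDegree (conjθ hV n hn θ : ↥V → ℂ) : ℕ) : ℤ) * s1 hV (conjθ hV n hn θ) z = _
      rw [charDegree_conjθ, s1_conj hP, hs1]
    · intro θ' hnc
      show ((charDegree (θ' : ↥V → ℂ) : ℕ) : ℤ) * s1 hV θ' z = 0
      rw [s1_eq_zero_of_vanish hP hV θ' z hdegp (hvanz θ' hnc), mul_zero]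
  -- the multiplicities on `P`
  have hm1 : mult P z 1 = 0 := by
    rw [mult_eq_sum_multg hV z 1]
    refine Finset.sum_eq_zero fun θ' _ => ?_
    by_cases hc : IsConjθ hV θ θ'
    · obtain ⟨n, hn, rfl⟩ := hc
      rw [multg_conj_one hV n hn θ z, ha, mul_zero]
    · rw [multg_eq_zero_of_vanish hP hV θ' z hdegp (hvanz θ' hc) 1, mul_zero]
  have hmge : ∀ φ : ↥(P : Subgroup G) →* ℂˣ, mult P z φ ≠ 0 → t ≤ mult P z φ := by
    intro φ hφ
    rw [mult_eq_sum_multg hV z φ] at hφ ⊢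
    obtain ⟨θ', -, hθ'⟩ := Finset.exists_ne_zero_of_sum_ne_zero hφ
    have hc : IsConjθ hV θ θ' := by
      by_contra hc
      apply hθ'
      rw [multg_eq_zero_of_vanish hP hV θ' z hdegp (hvanz θ' hc) φ, mul_zero]
    have hle : charDegree (θ' : ↥V → ℂ) * multg hV θ' z φ ≤
        ∑ θ'' : IrrCharacter ↥V, charDegree (θ'' : ↥V → ℂ) * multg hV θ'' z φ :=
      Finset.single_le_sum
        (f := fun θ'' : IrrCharacter ↥V => charDegree (θ'' : ↥V → ℂ) * multg hV θ'' z φ)
        (fun _ _ => Nat.zero_le _) (Finset.mem_univ θ')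
    refine le_trans ?_ hle
    obtain ⟨n, hn, rfl⟩ := hc
    rw [charDegree_conjθ]
    have hne : multg hV (conjθ hV n hn θ) z φ ≠ 0 := fun h0 => hθ' (by rw [h0, mul_zero])
    calc t = t * 1 := (mul_one t).symm
      _ ≤ t * multg hV (conjθ hV n hn θ) z φ :=
        Nat.mul_le_mul_left t (Nat.one_le_iff_ne_zero.mpr hne)
  have hmsum : ∑ φ : ↥(P : Subgroup G) →* ℂˣ, mult P z φ = f * t := by
    rw [← hD]
    have h1 := Cfsg.Agent.Lib.Helper16_BrauerSetup.value_eq P hP z 1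
    simp only [map_one, Units.val_one, mul_one, OneMemClass.coe_one] at h1
    rw [← Cfsg.Agent.Lib.Helper16_BrauerFinal.charDegree_cast z] at h1
    exact_mod_cast h1.symm
  obtain ⟨φ₀, hφ₀, hmφ₀, hsupp⟩ := support_eq_orbit hP (mult P z) t f htpos hfpos
    (Cfsg.Agent.Lib.Helper16_BrauerAut.card_autP P f hf) hm1 hmsum hmge
    (fun φ α hα => mult_comp_autP z φ hα)
  refine ⟨θ, φ₀, hφ₀, hfpos, hD, hmφ₀, hsupp, e, hepos, ⟨r, hfe.symm⟩, ?_⟩
  rw [norm_resV hP hV z]
  rw [sum_orbit hV θ (fun θ' => s1 hV θ' z * s1 hV θ' z) ((e : ℤ) * e) ?_ ?_]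
  · rw [nsmul_eq_mul, ← hfe]
    push_cast
    ring
  · rintro θ' ⟨n, hn, rfl⟩
    show s1 hV (conjθ hV n hn θ) z * s1 hV (conjθ hV n hn θ) z = _
    rw [s1_conj hP, hs1]
  · intro θ' hnc
    show s1 hV θ' z * s1 hV θ' z = 0
    rw [s1_eq_zero_of_vanish hP hV θ' z hdegp (hvanz θ' hnc), mul_zero]

end final

section central

/-- An element on which a faithful irreducible character has absolute value the degree is
central. -/
theorem mem_center_of_norm_eq {G : Type*} [Group G] [Finite G] (z : IrrCharacter G)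
    (hfaith : ∀ g : G, (z : G → ℂ) g = (z : G → ℂ) 1 → g = 1) (y : G)
    (hy : ‖(z : G → ℂ) y‖ = ‖(z : G → ℂ) 1‖) : y ∈ Subgroup.center G := by
  obtain ⟨n, ρ, hirr, hρ⟩ := z.2
  have h1 : ρ.character 1 = (Module.finrank ℂ (Fin n → ℂ) : ℂ) := Representation.char_one ρ
  have h2 : ‖ρ.character y‖ = (Module.finrank ℂ (Fin n → ℂ) : ℝ) := by
    rw [hρ, hy, ← hρ, h1]
    simp
  obtain ⟨ω, hω⟩ := (Cfsg.Agent.Lib.Helper3_CharEigen.norm_char_eq_iff ρ y).mp h2
  rw [Subgroup.mem_center_iff]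
  intro g
  have h3 : ρ (g * y * g⁻¹ * y⁻¹) = 1 := by
    have hy1 : ρ y * ρ y⁻¹ = 1 := by rw [← map_mul, mul_inv_cancel, map_one]
    have hg1 : ρ g * ρ g⁻¹ = 1 := by rw [← map_mul, mul_inv_cancel, map_one]
    rw [map_mul, map_mul, map_mul]
    have hc : ρ g * ρ y = ρ y * ρ g := by
      rw [hω]
      ext v
      simp
    rw [hc, mul_assoc (ρ y), hg1, mul_one, hy1]
  have h4 : (z : G → ℂ) (g * y * g⁻¹ * y⁻¹) = (z : G → ℂ) 1 := by
    rw [← hρ]
    show LinearMap.trace ℂ (Fin n → ℂ) (ρ (g * y * g⁻¹ * y⁻¹)) = LinearMap.trace ℂ (Fin n → ℂ) (ρ 1)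
    rw [h3, (map_one ρ : ρ 1 = 1)]
  have h5 := hfaith _ h4
  have : g * y = (g * y * g⁻¹ * y⁻¹) * (y * g) := by group
  rw [this, h5, one_mul]


end central

section pkl

variable [Fintype ↥(P : Subgroup G)] [Fintype ↥V] [Fintype (↥(P : Subgroup G) →* ℂˣ)]

/-- **PK-L** (local structure of a faithful irreducible character of degree `< (p - 1) / 2` when `P`
is not normal): with `f = |N_G(P) : C_G(P)|`, `2 ≤ f`, `3 f ≤ p - 1`, some `p`-conjugation `k` makes
`z|_P` and `z^{(k)}|_P` orthogonal, and `‖z|_V‖² ≤ f²`. -/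
theorem pk_local (hP : Nat.card P = p) (hV : IsPCompl P V) (z : IrrCharacter G)
    (hdeg : 2 * charDegree (z : G → ℂ) + 1 < p)
    (hfaith : ∀ g : G, (z : G → ℂ) g = (z : G → ℂ) 1 → g = 1)
    (hPn : ¬ (P : Subgroup G).Normal) (f : ℕ)
    (hf : (Subgroup.centralizer ((P : Subgroup G) : Set G)).relIndex
      (Subgroup.normalizer ((P : Subgroup G) : Set G)) = f) :
    2 ≤ f ∧ 3 * f ≤ p - 1 ∧
    (∃ k : ℕ, k.Coprime (Nat.card G) ∧
      k ≡ 1 [MOD Nat.card G / p ^ (Nat.card G).factorization p] ∧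
      ∑ y : ↥(P : Subgroup G), (z : G → ℂ) (y : G) * conj ((z : G → ℂ) ((y : G) ^ k)) = 0) ∧
    (∃ m : ℕ, m ≤ f ^ 2 ∧
      ∑ v : ↥V, (z : G → ℂ) (v : G) * conj ((z : G → ℂ) (v : G)) =
        (m : ℂ) * (Nat.card V : ℂ)) := by
  classical
  have hp2 := hp.out.two_le
  obtain ⟨h₀, hh₀⟩ : ∃ h₀ : ↥(P : Subgroup G), h₀ ≠ 1 := by
    have h1 : 1 < Nat.card ↥(P : Subgroup G) := by
      rw [hP]
      exact hp.out.one_lt
    have : Nontrivial ↥(P : Subgroup G) := (Finite.one_lt_card_iff_nontrivial).mp h1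
    exact exists_ne 1
  have hkerP : ∃ y : ↥(P : Subgroup G), (z : G → ℂ) (y : G) ≠ (z : G → ℂ) 1 :=
    ⟨h₀, fun h => hh₀ (Subtype.ext (hfaith _ h))⟩
  obtain ⟨θ, φ₀, hφ₀, hfpos, hD, hmφ₀, hsupp, e, hepos, hef, hnorm⟩ :=
    small_structure hP hV z hdeg hkerP f hf
  set t := charDegree (θ : ↥V → ℂ) with ht
  have htpos : 0 < t := Cfsg.Agent.Lib.Helper77_BlockBasics.charDegree_pos θ
  have hfD : f ≤ charDegree (z : G → ℂ) := by
    rw [hD]
    exact Nat.le_mul_of_pos_right f htpos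
  have hcard := Cfsg.Agent.Lib.Helper16_BrauerAut.card_autP P f hf
  have hf2 : 2 ≤ f := by
    by_contra hlt
    have hf1 : f = 1 := by omega
    apply hPn
    have hbot : autP P = ⊥ := Subgroup.eq_bot_of_card_eq _ (by rw [hcard, hf1])
    have hone : ∀ φ : ↥(P : Subgroup G) →* ℂˣ, mult P z φ ≠ 0 → φ = φ₀ := by
      intro φ hφ
      obtain ⟨α, hα, rfl⟩ := hsupp φ hφ
      rw [hbot, Subgroup.mem_bot] at hα
      rw [hα]
      rfl
    have hval : ∀ y : ↥(P : Subgroup G), (z : G → ℂ) (y : G) = (t : ℂ) * ((φ₀ y : ℂˣ) : ℂ) := by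
      intro y
      rw [Cfsg.Agent.Lib.Helper16_BrauerSetup.value_eq P hP z y,
        Finset.sum_eq_single φ₀, hmφ₀]
      · intro φ _ hφ
        have : mult P z φ = 0 := by
          by_contra hne
          exact hφ (hone φ hne)
        rw [this]
        simp
      · intro h
        exact absurd (Finset.mem_univ _) h
    have hcen : ∀ y : ↥(P : Subgroup G), (y : G) ∈ Subgroup.center G := by
      intro y
      apply mem_center_of_norm_eq z hfaith
      have h1 := hval y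
      have h2 := hval 1
      rw [OneMemClass.coe_one] at h2
      rw [h1, h2, norm_mul, norm_mul]
      congr 1
      have hpow : ∀ y : ↥(P : Subgroup G), ((φ₀ y : ℂˣ) : ℂ) ^ p = 1 := by
        intro y
        have h3 : y ^ p = 1 := by
          have := pow_card_eq_one' (G := ↥(P : Subgroup G)) (x := y)
          rwa [hP] at this
        rw [← Units.val_pow_eq_pow_val, ← map_pow, h3, map_one, Units.val_one]
      rw [Complex.norm_eq_one_of_pow_eq_one (hpow y) hp.out.ne_zero,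
        Complex.norm_eq_one_of_pow_eq_one (hpow 1) hp.out.ne_zero]
    constructor
    intro y hy g
    have := Subgroup.mem_center_iff.mp (hcen ⟨y, hy⟩) g
    have h4 : g * y * g⁻¹ = y := by
      show g * (y : G) * g⁻¹ = y
      rw [this]
      group
    rw [h4]
    exact hy
  obtain ⟨c, hc⟩ := Cfsg.Agent.Lib.Helper16_BrauerMain.e_dvd P hP f hf
  have h3f : 3 * f ≤ p - 1 := by
    have h1 : 2 * f < p - 1 := by omega
    rw [hc] at h1 ⊢
    have hc3 : 3 ≤ c := by
      by_contra hlt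
      have : c ≤ 2 := by omega
      have : f * c ≤ f * 2 := Nat.mul_le_mul_left f this
      omega
    calc 3 * f = f * 3 := by ring
      _ ≤ f * c := Nat.mul_le_mul_left f hc3
  refine ⟨hf2, h3f, ?_, ?_⟩
  · obtain ⟨k, hk, hk1, β, hβ, hβk⟩ := exists_pow_not_autP hP (by rw [hcard]; omega)
    refine ⟨k, hk, hk1, ?_⟩
    have h0 := sum_twist_eq_zero hP z φ₀ hφ₀ hsupp β hβ
    rw [← h0]
    refine Finset.sum_congr rfl fun y _ => ?_
    rw [hβk y]
    rfl
  · refine ⟨f * e, ?_, ?_⟩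
    · have : e ≤ f := Nat.le_of_dvd hfpos hef
      calc f * e ≤ f * f := Nat.mul_le_mul_left f this
        _ = f ^ 2 := (sq f).symm
    · have hV0 : (Nat.card V : ℂ) ≠ 0 := by
        rw [Nat.cast_ne_zero]
        exact Nat.card_pos.ne'
      unfold classInner at hnorm
      rw [inv_mul_eq_iff_eq_mul₀ hV0] at hnorm
      rw [hnorm]
      ring

end pkl

end Cfsg.Agent.Lib.Helper16_SmallDeg
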