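import Mathlib
import Cfsg.Prelude.Def_Characters
import Cfsg.Prelude.Def_Blocks
import Cfsg.Agent.Lib.Helper57_GalOrbit
import Cfsg.Agent.Lib.Helper16_GenConj
import Cfsg.Agent.Lib.Helper75_CharArith
import Cfsg.Agent.Lib.Helper3_CharOrtho

/-!
# Generic class-function lemmas for S4503 (helper78)

* `sum_mul_conj_eq_zero_of_vanish` (L1): a function vanishing on the `p`-regular elements is
  orthogonal to a function vanishing on the `p`-singular elements;
* `classInner_eq_of_agree_sing`, `classInner_eq_mul_of_const_sing` : inner products of such a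
  function with functions agreeing / constant on the `p`-singular elements;
* `pw_apply_of_reg` (L2): the Galois twist `z ∘ (· ^ k)` with `k ≡ 1` modulo the `p'`-part of `|G|`
  agrees with `z` on the `p`-regular elements.
-/

set_option autoImplicit false
set_option linter.unusedSectionVars false

namespace Cfsg.Agent.Lib.Helper78_Brauer503L

open Cfsg
open scoped ComplexConjugate

variable {G : Type*} [Group G] [Fintype G] {p : ℕ}

/-- **(L1)** -/
theorem sum_mul_conj_eq_zero_of_vanish (a b : G → ℂ)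
    (ha : ∀ g : G, ¬ p ∣ orderOf g → a g = 0) (hb : ∀ g : G, p ∣ orderOf g → b g = 0) :
    ∑ g : G, a g * conj (b g) = 0 := by
  refine Finset.sum_eq_zero fun g _ => ?_
  by_cases hg : p ∣ orderOf g
  · rw [hb g hg, map_zero, mul_zero]
  · rw [ha g hg, zero_mul]

theorem classInner_eq_zero_of_vanish (a b : G → ℂ)
    (ha : ∀ g : G, ¬ p ∣ orderOf g → a g = 0) (hb : ∀ g : G, p ∣ orderOf g → b g = 0) :
    classInner a b = 0 := by
  unfold classInner
  rw [sum_mul_conj_eq_zero_of_vanish a b ha hb, mul_zero]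

/-- If `a` vanishes on the `p`-regular elements and `c`, `d` agree on the `p`-singular elements,
then `⟨a, c⟩ = ⟨a, d⟩`. -/
theorem classInner_eq_of_agree_sing (a c d : G → ℂ)
    (ha : ∀ g : G, ¬ p ∣ orderOf g → a g = 0) (h : ∀ g : G, p ∣ orderOf g → c g = d g) :
    classInner a c = classInner a d := by
  unfold classInner
  congr 1
  refine Finset.sum_congr rfl fun g _ => ?_
  by_cases hg : p ∣ orderOf g
  · rw [h g hg]
  · rw [ha g hg, zero_mul, zero_mul]

/-- If `a` vanishes on the `p`-regular elements and `c = ε` (a real constant) on the `p`-singular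
elements, then `⟨a, c⟩ = ε ⟨a, 1⟩`. -/
theorem classInner_eq_mul_of_const_sing (a c : G → ℂ) (ε : ℤ)
    (ha : ∀ g : G, ¬ p ∣ orderOf g → a g = 0) (h : ∀ g : G, p ∣ orderOf g → c g = (ε : ℂ)) :
    classInner a c = (ε : ℂ) * classInner a (fun _ => (1 : ℂ)) := by
  rw [classInner_eq_of_agree_sing a c (fun _ => (ε : ℂ)) ha h]
  unfold classInner
  have h1 : ∀ g : G, a g * conj ((fun _ : G => (ε : ℂ)) g) =
      (ε : ℂ) * (a g * conj ((fun _ : G => (1 : ℂ)) g)) := by
    intro g
    show a g * conj (ε : ℂ) = (ε : ℂ) * (a g * conj (1 : ℂ))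
    rw [map_one, mul_one, ← Complex.ofReal_intCast, Complex.conj_ofReal]
    ring
  rw [Finset.sum_congr rfl (fun g _ => h1 g), ← Finset.mul_sum]
  ring

/-- **(L3)** Restriction of constituents: if every `χ ∈ S` is a constituent of the character `β`,
then `∑_{χ ∈ S} ⟨χ|_H, μ⟩ ≤ ⟨β|_H, μ⟩` for every character `μ` of the subgroup `H`. -/
theorem sum_res_inner_le {β : G → ℂ} (hβ : IsCharacter G β) (S : Finset (IrrCharacter G))
    (hS : ∀ χ ∈ S, classInner β (χ : G → ℂ) ≠ 0) (H : Subgroup G) [Fintype ↥H] {μ : ↥H → ℂ}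
    (hμ : IsCharacter ↥H μ) :
    ∃ (a : ℕ) (b : IrrCharacter G → ℕ), classInner (fun h : ↥H => β (h : G)) μ = a ∧
      (∀ χ : IrrCharacter G, classInner (fun h : ↥H => (χ : G → ℂ) (h : G)) μ = b χ) ∧
      ∑ χ ∈ S, b χ ≤ a := by
  classical
  obtain ⟨m, hm, hsum⟩ := Cfsg.Agent.Lib.Helper75_CharArith.exists_multiplicities hβ
  have hb : ∀ χ : IrrCharacter G, ∃ n : ℕ,
      classInner (fun h : ↥H => (χ : G → ℂ) (h : G)) μ = n := fun χ =>
    Cfsg.Agent.Lib.Helper75_CharArith.classInner_isCharacter_nat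
      (Cfsg.Agent.Lib.Helper75_CharArith.isCharacter_restrict H
        (Cfsg.Agent.Lib.Helper3_CharBridge.isCharacter_of_isIrrCharacter χ.2)) hμ
  choose b hb using hb
  have hres : (fun h : ↥H => β (h : G)) =
      ∑ χ : IrrCharacter G, (m χ : ℂ) • (fun h : ↥H => (χ : G → ℂ) (h : G)) := by
    funext h
    have := congrFun hsum (h : G)
    rw [this]
    simp only [Finset.sum_apply, Pi.smul_apply, smul_eq_mul]
  have hval : classInner (fun h : ↥H => β (h : G)) μ =
      ((∑ χ : IrrCharacter G, m χ * b χ : ℕ) : ℂ) := by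
    rw [hres, Cfsg.Agent.Lib.Helper3_CharOrtho.classInner_sum_left]
    push_cast
    refine Finset.sum_congr rfl fun χ _ => ?_
    rw [Cfsg.Agent.Lib.Helper3_CharOrtho.classInner_smul_left, hb χ]
  refine ⟨∑ χ : IrrCharacter G, m χ * b χ, b, hval, hb, ?_⟩
  calc ∑ χ ∈ S, b χ ≤ ∑ χ ∈ S, m χ * b χ := by
        refine Finset.sum_le_sum fun χ hχ => ?_
        have h1 : m χ ≠ 0 := by
          intro h0
          apply hS χ hχ
          rw [hm χ, h0, Nat.cast_zero]
        exact Nat.le_mul_of_pos_left _ (Nat.pos_of_ne_zero h1)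
    _ ≤ ∑ χ : IrrCharacter G, m χ * b χ :=
        Finset.sum_le_sum_of_subset (Finset.subset_univ S)

variable [hp : Fact p.Prime]

/-- **(L2)** the Galois twist agrees with `z` on the `p`-regular elements. -/
theorem pw_apply_of_reg {k : ℕ} (hk : k.Coprime (Nat.card G))
    (hk1 : k ≡ 1 [MOD Nat.card G / p ^ (Nat.card G).factorization p]) (z : IrrCharacter G)
    {g : G} (hg : ¬ p ∣ orderOf g) :
    (Cfsg.Agent.Lib.Helper57_GalOrbit.pw k hk z : G → ℂ) g = (z : G → ℂ) g := by
  rw [Cfsg.Agent.Lib.Helper57_GalOrbit.pw_apply,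
    Cfsg.Agent.Lib.Helper16_GenConj.pow_eq_self_of_reg hk1 hg]

/-- `z * conj z - z * conj (z ∘ (· ^ k))` vanishes on the `p`-regular elements. -/
theorem alpha_vanish {k : ℕ} (hk : k.Coprime (Nat.card G))
    (hk1 : k ≡ 1 [MOD Nat.card G / p ^ (Nat.card G).factorization p]) (z : IrrCharacter G)
    {g : G} (hg : ¬ p ∣ orderOf g) :
    (z : G → ℂ) g * conj ((z : G → ℂ) g) -
      (z : G → ℂ) g * conj ((Cfsg.Agent.Lib.Helper57_GalOrbit.pw k hk z : G → ℂ) g) = 0 := by
  rw [pw_apply_of_reg hk hk1 z hg, sub_self]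

end Cfsg.Agent.Lib.Helper78_Brauer503L
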