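import Mathlib
import Cfsg.Prelude.Def_Characters
import Cfsg.Prelude.Def_Blocks
import Cfsg.Agent.Lib.Helper78_Brauer503L
import Cfsg.Agent.Lib.Helper75_CharProd
import Cfsg.Agent.Lib.Helper76_GalConj
import Cfsg.Agent.Lib.Helper57_GalOrbit

/-!
# Brauer's `(p - 1) / 2` bound: the final counting argument (helper3, S4503)

The abstract counting theorem on top of the outputs of `Helper78_Brauer503X.pkx` (principal block)
and `Helper16_SmallDeg.pk_local` (local structure of a small faithful character).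
-/

set_option autoImplicit false

namespace Cfsg.Agent.Lib.Helper3_Brauer503F

open Cfsg
open scoped ComplexConjugate

section arith

/-- The final arithmetic. -/
theorem arith_final {ι : Type*} [DecidableEq ι] (p f m : ℕ) (hp : p.Prime) (hf2 : 2 ≤ f)
    (hf3 : 3 * f ≤ p - 1) (hm : m ≤ f ^ 2)
    (X0 : Finset ι) (one : ι) (h1 : one ∈ X0) (ε : ι → ℤ) (hε1 : ε one = 1)
    (hε : ∀ χ ∈ X0, ε χ = 1 ∨ ε χ = -1) (hcard : X0.card = f)
    (d bP : ι → ℕ)
    (hd : ∀ χ ∈ X0, (d χ : ℤ) + ((p : ℤ) - 1) * ε χ = (p : ℤ) * bP χ)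
    (hpos : ∀ χ ∈ X0, ε χ = 1 → χ ≠ one → 2 ≤ bP χ)
    (hone : 1 ≤ bP one)
    (hneg : ∀ χ ∈ X0, ε χ = -1 → bP χ = 0)
    (hV : (X0.filter (fun χ => ε χ = -1)).card * (p - 1) ≤ m)
    (ε0 : ℤ) (hε0 : ε0 = 1 ∨ ε0 = -1) (dξ bξ : ℕ)
    (hξ : (dξ : ℤ) - ε0 * (f : ℤ) = (p : ℤ) * bξ)
    (hrel : ε0 * (dξ : ℤ) = ∑ χ ∈ X0, ε χ * (d χ : ℤ)) (hb0 : ε0 = 1 → bξ = 0) : False := by
  have hp2 := hp.two_le
  set nn := (X0.filter (fun χ => ε χ = -1)).card with hnn
  -- `ε χ * d χ = p * (ε χ * bP χ) - (p - 1)`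
  have h2 : ∀ χ ∈ X0, ε χ * (d χ : ℤ) = (p : ℤ) * (ε χ * bP χ) - ((p : ℤ) - 1) := by
    intro χ hχ
    have := hd χ hχ
    rcases hε χ hχ with h | h <;> rw [h] at this ⊢ <;> linarith
  have h3 : ∑ χ ∈ X0, ε χ * (d χ : ℤ) =
      (p : ℤ) * (∑ χ ∈ X0, ε χ * (bP χ : ℤ)) - (f : ℤ) * ((p : ℤ) - 1) := by
    rw [Finset.sum_congr rfl h2, Finset.sum_sub_distrib, ← Finset.mul_sum, Finset.sum_const,
      hcard]
    simp
  -- lower bound for `∑ ε χ * bP χ`
  have h4 : ∀ χ ∈ X0, (2 : ℤ) - (if χ = one then 1 else 0) - (if ε χ = -1 then 2 else 0) ≤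
      ε χ * (bP χ : ℤ) := by
    intro χ hχ
    by_cases hχ1 : χ = one
    · subst hχ1
      rw [hε1]
      simp only [if_true]
      have : (1 : ℤ) ≤ bP χ := by exact_mod_cast hone
      norm_num
      linarith
    · rw [if_neg hχ1]
      rcases hε χ hχ with h | h
      · rw [h]
        have : (2 : ℤ) ≤ bP χ := by exact_mod_cast hpos χ hχ h hχ1
        norm_num
        linarith
      · rw [h, hneg χ hχ h]
        simp
  have h5 : ∑ χ ∈ X0, ((2 : ℤ) - (if χ = one then 1 else 0) - (if ε χ = -1 then 2 else 0)) =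
      2 * (f : ℤ) - 1 - 2 * (nn : ℤ) := by
    rw [Finset.sum_sub_distrib, Finset.sum_sub_distrib, Finset.sum_const, hcard,
      Finset.sum_ite_eq' X0 one, if_pos h1, ← Finset.sum_filter, Finset.sum_const, ← hnn]
    simp
    ring
  have h6 : 2 * (f : ℤ) - 1 - 2 * (nn : ℤ) ≤ ∑ χ ∈ X0, ε χ * (bP χ : ℤ) := by
    rw [← h5]
    exact Finset.sum_le_sum h4
  set S := ∑ χ ∈ X0, ε χ * (bP χ : ℤ) with hS
  -- `ε0 * bξ = S - f`
  have hpz : (p : ℤ) ≠ 0 := by exact_mod_cast hp.ne_zero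
  have h7 : ε0 * (bξ : ℤ) = S - f := by
    have e1 : ε0 * (dξ : ℤ) = (p : ℤ) * (ε0 * bξ) + f := by
      have : (dξ : ℤ) = (p : ℤ) * bξ + ε0 * f := by linarith
      rw [this]
      rcases hε0 with h | h <;> rw [h] <;> ring
    have e2 : (p : ℤ) * (ε0 * bξ) = (p : ℤ) * (S - f) := by
      rw [hrel, h3] at e1
      linarith
    exact mul_left_cancel₀ hpz e2
  have h8 : ε0 * (bξ : ℤ) ≤ 0 := by
    rcases hε0 with h | h
    · rw [hb0 h]; simp
    · rw [h]
      have : (0 : ℤ) ≤ bξ := Int.natCast_nonneg _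
      linarith
  have h9 : f ≤ 2 * nn + 1 := by
    have : (f : ℤ) ≤ 2 * (nn : ℤ) + 1 := by linarith
    exact_mod_cast this
  -- endgame
  have h10 : nn * (3 * f) ≤ f ^ 2 :=
    le_trans (le_trans (Nat.mul_le_mul_left nn hf3) hV) hm
  have h11 : 3 * nn ≤ f := by
    have hfpos : 0 < f := by omega
    have : f * (3 * nn) ≤ f * f := by nlinarith
    exact Nat.le_of_mul_le_mul_left this hfpos
  have hf : f = 2 ∨ f = 3 := by omega
  rcases hf with hf | hf
  · omega
  · have hnn1 : nn = 1 := by omega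
    rw [hnn1, one_mul] at hV
    rw [hf] at hm hf3
    have hp10 : p = 10 := by omega
    rw [hp10] at hp
    exact absurd hp (by norm_num)

end arith

section main

variable {G : Type*} [Group G] [Fintype G] {p : ℕ} [hp : Fact p.Prime] {P : Sylow p G}
  {V : Subgroup G} [Fintype ↥(P : Subgroup G)] [Fintype ↥V]

open Cfsg.Agent.Lib.Helper80_CharBasic Cfsg.Agent.Lib.Helper76_GalConj
  Cfsg.Agent.Lib.Helper78_Brauer503L Cfsg.Agent.Lib.Helper3_CharBridge
  Cfsg.Agent.Lib.Helper3_CharOrtho Cfsg.Agent.Lib.Helper75_CharArith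
  Cfsg.Agent.Lib.Helper75_CharProd

omit [Fintype G] in
/-- Inner product with the trivial character of a subgroup. -/
theorem classInner_res_one (H : Subgroup G) [Fintype ↥H] (θ : G → ℂ) :
    classInner (fun h : ↥H => θ (h : G)) (fun _ => (1 : ℂ)) =
      (Nat.card H : ℂ)⁻¹ * ∑ h : ↥H, θ (h : G) := by
  unfold classInner
  simp

omit [Fintype G] [Fintype ↥(P : Subgroup G)] in
/-- Nontrivial elements of `P` are `p`-singular. -/
theorem dvd_orderOf_of_mem (hP : Nat.card (P : Subgroup G) = p) (h : ↥(P : Subgroup G))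
    (hh : h ≠ 1) : p ∣ orderOf (h : G) := by
  have h1 : orderOf h ∣ p := by
    have := orderOf_dvd_natCard h
    rwa [hP] at this
  rw [Subgroup.orderOf_coe]
  rcases (Nat.dvd_prime hp.out).mp h1 with h2 | h2
  · exact absurd (orderOf_eq_one_iff.mp h2) hh
  · rw [h2]

omit [Fintype G] in
/-- The sum over `P` of a function constant on the `p`-singular elements. -/
theorem sum_P_of_const (hP : Nat.card (P : Subgroup G) = p) (θ : G → ℂ) (c : ℂ)
    (hθ : ∀ g : G, p ∣ orderOf g → θ g = c) :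
    ∑ h : ↥(P : Subgroup G), θ (h : G) = θ 1 + ((p : ℂ) - 1) * c := by
  classical
  rw [← Finset.add_sum_erase Finset.univ _ (Finset.mem_univ (1 : ↥(P : Subgroup G)))]
  congr 1
  have : ∀ h ∈ Finset.univ.erase (1 : ↥(P : Subgroup G)), θ (h : G) = c := by
    intro h hh
    exact hθ _ (dvd_orderOf_of_mem hP h (Finset.ne_of_mem_erase hh))
  rw [Finset.sum_congr rfl this, Finset.sum_const, Finset.card_erase_of_mem (Finset.mem_univ _),
    Finset.card_univ, ← Nat.card_eq_fintype_card, hP, nsmul_eq_mul,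
    Nat.cast_sub hp.out.one_lt.le]
  simp

/-- **PK-F** (helper3's version): the counting argument. -/
theorem pkf3 (hP : Nat.card (P : Subgroup G) = p) (hVreg : ∀ v ∈ V, ¬ p ∣ orderOf v) (f : ℕ)
    (hf2 : 2 ≤ f) (hf3 : 3 * f ≤ p - 1)
    (z : IrrCharacter G) (k : ℕ) (hk : k.Coprime (Nat.card G))
    (hk1 : k ≡ 1 [MOD Nat.card G / p ^ (Nat.card G).factorization p])
    (hk3 : ∑ y : ↥(P : Subgroup G), (z : G → ℂ) (y : G) * conj ((z : G → ℂ) ((y : G) ^ k)) = 0)
    (m : ℕ) (hm1 : m ≤ f ^ 2)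
    (hm2 : ∑ v : ↥V, (z : G → ℂ) (v : G) * conj ((z : G → ℂ) (v : G)) =
      (m : ℂ) * (Nat.card V : ℂ))
    (hker : ∀ ψ : IrrCharacter G,
      (∀ x ∈ (P : Subgroup G), (ψ : G → ℂ) x = (ψ : G → ℂ) 1) → ψ = oneIrr G)
    (X0 Y0 : Finset (IrrCharacter G)) (εX : IrrCharacter G → ℤ) (ε0 : ℤ)
    (hXc : X0.card = f) (hYc : f * Y0.card = p - 1)
    (h1X : oneIrr G ∈ X0) (hε1 : εX (oneIrr G) = 1)
    (hεX : ∀ χ ∈ X0, εX χ = 1 ∨ εX χ = -1)
    (hXsing : ∀ χ ∈ X0, ∀ g : G, p ∣ orderOf g → (χ : G → ℂ) g = (εX χ : ℂ))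
    (hε0 : ε0 = 1 ∨ ε0 = -1)
    (hYsing : ∀ g : G, p ∣ orderOf g → ∑ ξ ∈ Y0, (ξ : G → ℂ) g = -(ε0 : ℂ))
    (hYP : ∀ ξ ∈ Y0, ∑ h : ↥(P : Subgroup G), (ξ : G → ℂ) (h : G) =
      (ξ : G → ℂ) 1 - (ε0 : ℂ) * (f : ℂ))
    (hreg : ∀ g : G, ¬ p ∣ orderOf g → ∀ ξ ∈ Y0,
      (ε0 : ℂ) * (ξ : G → ℂ) g = ∑ χ ∈ X0, (εX χ : ℂ) * (χ : G → ℂ) g)
    (hXV : ∀ χ ∈ X0, ∃ m : ℕ, (Nat.card V : ℂ)⁻¹ * ∑ v : ↥V, (χ : G → ℂ) (v : G) =
      (p : ℂ) * (m : ℂ) - ((p : ℂ) - 1) * (εX χ : ℂ)) : False := by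
  classical
  have hp2 := hp.out.two_le
  have hpC : (p : ℂ) ≠ 0 := by exact_mod_cast hp.out.ne_zero
  have hPC : (Nat.card (P : Subgroup G) : ℂ) ≠ 0 := by rw [hP]; exact hpC
  have hVC : (Nat.card V : ℂ) ≠ 0 := by exact_mod_cast Nat.card_pos.ne'
  set z2 := Cfsg.Agent.Lib.Helper57_GalOrbit.pw k hk z with hz2
  set β : G → ℂ := (z : G → ℂ) * (fun g => conj ((z2 : G → ℂ) g)) with hβdef
  set γ : G → ℂ := (z : G → ℂ) * (fun g => conj ((z : G → ℂ) g)) with hγdef
  have hzc := isCharacter_of_isIrrCharacter z.2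
  have hβ : IsCharacter G β :=
    isCharacter_mul hzc (isCharacter_conj (isCharacter_of_isIrrCharacter z2.2))
  have hγ : IsCharacter G γ := isCharacter_mul hzc (isCharacter_conj hzc)
  have hβapp : ∀ g : G, β g = (z : G → ℂ) g * conj ((z : G → ℂ) (g ^ k)) := fun g => rfl
  have hγapp : ∀ g : G, γ g = (z : G → ℂ) g * conj ((z : G → ℂ) g) := fun g => rfl
  have h1P : IsCharacter ↥(P : Subgroup G) (fun _ => (1 : ℂ)) :=
    isCharacter_of_isIrrCharacter (isIrrCharacter_one _)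
  have h1V : IsCharacter ↥V (fun _ => (1 : ℂ)) :=
    isCharacter_of_isIrrCharacter (isIrrCharacter_one _)
  -- `⟨β|_P, 1⟩ = 0`
  have hβP : classInner (fun h : ↥(P : Subgroup G) => β (h : G)) (fun _ => (1 : ℂ)) = 0 := by
    rw [classInner_res_one]
    simp only [hβapp]
    rw [hk3, mul_zero]
  -- constituents of `β` have no `P`-fixed points
  have hF1 : ∀ χ : IrrCharacter G, classInner β (χ : G → ℂ) ≠ 0 →
      ∑ h : ↥(P : Subgroup G), (χ : G → ℂ) (h : G) = 0 := by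
    intro χ hχ
    obtain ⟨a, b, ha, hb, hle⟩ := sum_res_inner_le hβ {χ}
      (fun χ' hχ' => by rw [Finset.mem_singleton.mp hχ']; exact hχ) (P : Subgroup G) h1P
    rw [hβP] at ha
    have ha0 : a = 0 := by exact_mod_cast ha.symm
    rw [Finset.sum_singleton, ha0] at hle
    have hb0 : b χ = 0 := by omega
    have h2 := hb χ
    rw [hb0, classInner_res_one, Nat.cast_zero] at h2
    rcases mul_eq_zero.mp h2 with h3 | h3
    · exact absurd (inv_eq_zero.mp h3) hPC
    · exact h3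
  -- `⟨γ, 1⟩ = 1`, `⟨β, 1⟩ = 0`
  have hγ1 : classInner γ (fun _ => (1 : ℂ)) = 1 := by
    refine Eq.trans ?_ (classInner_self_of_isIrrCharacter z.2)
    unfold classInner
    congr 1
    refine Finset.sum_congr rfl fun g _ => ?_
    rw [hγapp, map_one, mul_one]
  have hβ1 : classInner β (fun _ => (1 : ℂ)) = 0 := by
    by_contra hne
    have := hF1 (oneIrr G) hne
    have h2 : ∑ h : ↥(P : Subgroup G), ((oneIrr G : IrrCharacter G) : G → ℂ) (h : G) =
        (Nat.card (P : Subgroup G) : ℂ) := by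
      simp [oneIrr, Nat.card_eq_fintype_card]
    rw [h2] at this
    exact hPC this
  -- `α = γ - β` vanishes on the `p`-regular elements
  have hα : ∀ g : G, ¬ p ∣ orderOf g → (γ - β) g = 0 := by
    intro g hg
    show γ g - β g = 0
    rw [hγapp, hβapp]
    exact alpha_vanish hk hk1 z hg
  have hα1 : classInner (γ - β) (fun _ => (1 : ℂ)) = 1 := by
    rw [classInner_sub_left, hγ1, hβ1, sub_zero]
  -- inner products with the members of `X0`
  have hβX : ∀ χ ∈ X0, classInner β (χ : G → ℂ) =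
      classInner γ (χ : G → ℂ) - (εX χ : ℂ) := by
    intro χ hχ
    have := classInner_eq_mul_of_const_sing (γ - β) (χ : G → ℂ) (εX χ) hα (hXsing χ hχ)
    rw [hα1, mul_one, classInner_sub_left] at this
    linear_combination -this
  have hγnat : ∀ χ : IrrCharacter G, ∃ n : ℕ, classInner γ (χ : G → ℂ) = n := fun χ =>
    classInner_isCharacter_nat hγ (isCharacter_of_isIrrCharacter χ.2)
  have hβneg : ∀ χ ∈ X0, εX χ = -1 → classInner β (χ : G → ℂ) ≠ 0 := by
    intro χ hχ hε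
    obtain ⟨n, hn⟩ := hγnat χ
    rw [hβX χ hχ, hn, hε]
    push_cast
    have : ((n : ℂ) - -1) = ((n + 1 : ℕ) : ℂ) := by push_cast; ring
    rw [this]
    exact_mod_cast Nat.succ_ne_zero n
  -- the `P`-multiplicities
  have hbP : ∀ χ : IrrCharacter G, ∃ n : ℕ,
      classInner (fun h : ↥(P : Subgroup G) => (χ : G → ℂ) (h : G)) (fun _ => (1 : ℂ)) = n :=
    fun χ => classInner_isCharacter_nat
      (isCharacter_restrict (P : Subgroup G) (isCharacter_of_isIrrCharacter χ.2)) h1P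
  choose bP hbP using hbP
  have hbP' : ∀ χ : IrrCharacter G,
      ∑ h : ↥(P : Subgroup G), (χ : G → ℂ) (h : G) = (p : ℂ) * (bP χ : ℂ) := by
    intro χ
    have := hbP χ
    rw [classInner_res_one, hP] at this
    rw [← this, mul_inv_cancel_left₀ hpC]
  have hdX : ∀ χ ∈ X0, (charDegree (χ : G → ℂ) : ℤ) + ((p : ℤ) - 1) * εX χ =
      (p : ℤ) * bP χ := by
    intro χ hχ
    have h1 := sum_P_of_const hP (χ : G → ℂ) (εX χ : ℂ) (hXsing χ hχ)
    rw [hbP' χ, irr_one_eq_charDegree] at h1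
    exact_mod_cast h1.symm
  have hdpos : ∀ χ : IrrCharacter G, 1 ≤ charDegree (χ : G → ℂ) := fun χ => charDegree_pos χ
  have hone : 1 ≤ bP (oneIrr G) := by
    have h1 := hdX _ h1X
    rw [hε1] at h1
    have h2 : (1 : ℤ) ≤ charDegree ((oneIrr G : IrrCharacter G) : G → ℂ) := by
      exact_mod_cast hdpos _
    have hpz : (2 : ℤ) ≤ p := by exact_mod_cast hp2
    have h3 : (0 : ℤ) < (p : ℤ) * bP (oneIrr G) := by linarith
    have h4 : (0 : ℤ) < bP (oneIrr G) := by
      rcases Nat.eq_zero_or_pos (bP (oneIrr G)) with h | h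
      · rw [h] at h3; simp at h3
      · exact_mod_cast h
    exact_mod_cast h4
  have hpos : ∀ χ ∈ X0, εX χ = 1 → χ ≠ oneIrr G → 2 ≤ bP χ := by
    intro χ hχ hε hne
    by_contra hlt
    have h1 := hdX χ hχ
    rw [hε] at h1
    have h2 : (1 : ℤ) ≤ charDegree (χ : G → ℂ) := by exact_mod_cast hdpos χ
    have hpz : (2 : ℤ) ≤ p := by exact_mod_cast hp2
    have hb1 : bP χ = 1 := by
      have : bP χ ≠ 0 := by
        intro h0
        rw [h0] at h1
        simp at h1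
        linarith
      omega
    rw [hb1] at h1
    have hd1 : charDegree (χ : G → ℂ) = 1 := by
      have : (charDegree (χ : G → ℂ) : ℤ) = 1 := by push_cast at h1; linarith
      exact_mod_cast this
    apply hne
    apply hker
    intro x hx
    by_cases hx1 : x = 1
    · rw [hx1]
    · have hsing : p ∣ orderOf x := dvd_orderOf_of_mem hP ⟨x, hx⟩
        (fun h => hx1 (congrArg Subtype.val h))
      rw [hXsing χ hχ x hsing, hε, irr_one_eq_charDegree, hd1]
      simp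
  have hneg : ∀ χ ∈ X0, εX χ = -1 → bP χ = 0 := by
    intro χ hχ hε
    have h1 := hF1 χ (hβneg χ hχ hε)
    rw [hbP' χ] at h1
    rcases mul_eq_zero.mp h1 with h | h
    · exact absurd h hpC
    · exact_mod_cast h
  -- the `V`-average
  have hβV : classInner (fun v : ↥V => β (v : G)) (fun _ => (1 : ℂ)) = (m : ℂ) := by
    rw [classInner_res_one]
    have : ∀ v : ↥V, β (v : G) = (z : G → ℂ) (v : G) * conj ((z : G → ℂ) (v : G)) := by
      intro v
      rw [hβapp, Cfsg.Agent.Lib.Helper16_GenConj.pow_eq_self_of_reg hk1 (hVreg v v.2)]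
    rw [Finset.sum_congr rfl (fun v _ => this v), hm2]
    field_simp
  have hVle : (X0.filter (fun χ => εX χ = -1)).card * (p - 1) ≤ m := by
    obtain ⟨a, b, ha, hb, hle⟩ := sum_res_inner_le hβ (X0.filter (fun χ => εX χ = -1))
      (fun χ hχ => hβneg χ (Finset.mem_filter.mp hχ).1 (Finset.mem_filter.mp hχ).2) V h1V
    rw [hβV] at ha
    have ham : a = m := by exact_mod_cast ha.symm
    have hbge : ∀ χ ∈ X0.filter (fun χ => εX χ = -1), p - 1 ≤ b χ := by
      intro χ hχ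
      obtain ⟨hχ0, hε⟩ := Finset.mem_filter.mp hχ
      obtain ⟨m', hm'⟩ := hXV χ hχ0
      have h1 := hb χ
      rw [classInner_res_one, hm', hε] at h1
      have h2 : ((p * m' + (p - 1) : ℕ) : ℂ) = (b χ : ℂ) := by
        rw [← h1]
        push_cast [Nat.cast_sub hp.out.one_lt.le]
        ring
      have h3 : p * m' + (p - 1) = b χ := by exact_mod_cast h2
      omega
    calc (X0.filter (fun χ => εX χ = -1)).card * (p - 1)
        = ∑ _χ ∈ X0.filter (fun χ => εX χ = -1), (p - 1) := by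
          rw [Finset.sum_const, smul_eq_mul]
      _ ≤ ∑ χ ∈ X0.filter (fun χ => εX χ = -1), b χ := Finset.sum_le_sum hbge
      _ ≤ a := hle
      _ = m := ham
  -- the exceptional characters
  have hYne : Y0.Nonempty := by
    rw [Finset.nonempty_iff_ne_empty]
    intro h0
    rw [h0, Finset.card_empty, mul_zero] at hYc
    omega
  have hξex : ∃ ξ ∈ Y0, (ε0 = 1 → bP ξ = 0) := by
    by_cases h1 : ε0 = 1
    · -- some member of `Y0` is a constituent of `β`
      have hsum : classInner (γ - β) (∑ ξ ∈ Y0, (ξ : G → ℂ)) = -(ε0 : ℂ) := by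
        have := classInner_eq_mul_of_const_sing (γ - β) (∑ ξ ∈ Y0, (ξ : G → ℂ)) (-ε0) hα
          (fun g hg => by rw [Finset.sum_apply, hYsing g hg]; push_cast; ring)
        rw [hα1, mul_one] at this
        rw [this]
        push_cast
        ring
      rw [classInner_sum_right] at hsum
      have hex : ∃ ξ ∈ Y0, classInner β (ξ : G → ℂ) ≠ 0 := by
        by_contra hall
        push Not at hall
        have h2 : ∑ ξ ∈ Y0, classInner (γ - β) (ξ : G → ℂ) =
            ∑ ξ ∈ Y0, classInner γ (ξ : G → ℂ) := by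
          refine Finset.sum_congr rfl fun ξ hξ => ?_
          rw [classInner_sub_left, hall ξ hξ, sub_zero]
        rw [h2, h1] at hsum
        choose n hn using hγnat
        rw [Finset.sum_congr rfl (fun ξ _ => hn ξ)] at hsum
        have h3 : ((∑ ξ ∈ Y0, n ξ : ℕ) : ℂ) + 1 = 0 := by
          push_cast
          rw [hsum]
          push_cast
          ring
        have h4 : ((∑ ξ ∈ Y0, n ξ + 1 : ℕ) : ℂ) = 0 := by
          rw [Nat.cast_add, Nat.cast_one]
          exact h3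
        exact absurd (by exact_mod_cast h4) (Nat.succ_ne_zero (∑ ξ ∈ Y0, n ξ))
      obtain ⟨ξ, hξ, hne⟩ := hex
      refine ⟨ξ, hξ, fun _ => ?_⟩
      have h2 := hF1 ξ hne
      rw [hbP' ξ] at h2
      rcases mul_eq_zero.mp h2 with h | h
      · exact absurd h hpC
      · exact_mod_cast h
    · obtain ⟨ξ, hξ⟩ := hYne
      exact ⟨ξ, hξ, fun h => absurd h h1⟩
  obtain ⟨ξ, hξY, hξ0⟩ := hξex
  have hξd : (charDegree (ξ : G → ℂ) : ℤ) - ε0 * (f : ℤ) = (p : ℤ) * bP ξ := by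
    have h1 := hYP ξ hξY
    rw [hbP' ξ, irr_one_eq_charDegree] at h1
    exact_mod_cast h1.symm
  have hrel : ε0 * (charDegree (ξ : G → ℂ) : ℤ) =
      ∑ χ ∈ X0, εX χ * (charDegree (χ : G → ℂ) : ℤ) := by
    have hreg1 : ¬ p ∣ orderOf (1 : G) := by
      rw [orderOf_one, Nat.dvd_one]
      exact hp.out.one_lt.ne'
    have h1 := hreg 1 hreg1 ξ hξY
    rw [irr_one_eq_charDegree] at h1
    have h2 : ∑ χ ∈ X0, (εX χ : ℂ) * (χ : G → ℂ) 1 =
        ((∑ χ ∈ X0, εX χ * (charDegree (χ : G → ℂ) : ℤ) : ℤ) : ℂ) := by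
      push_cast
      refine Finset.sum_congr rfl fun χ _ => ?_
      rw [irr_one_eq_charDegree]
    rw [h2] at h1
    exact_mod_cast h1
  exact arith_final p f m hp.out hf2 hf3 hm1 X0 (oneIrr G) h1X εX hε1 hεX hXc
    (fun χ => charDegree (χ : G → ℂ)) bP hdX hpos hone hneg hVle ε0 hε0
    (charDegree (ξ : G → ℂ)) (bP ξ) hξd hrel hξ0

end main

end Cfsg.Agent.Lib.Helper3_Brauer503F
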