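import Mathlib
import Cfsg.Prelude.Def_Characters
import Cfsg.Prelude.Def_Blocks
import Cfsg.Agent.Lib.Helper76_GalConj
import Cfsg.Agent.Lib.Helper75_CharArith
import Cfsg.Agent.Lib.Helper75_Clifford
import Cfsg.Agent.Lib.Helper78_McKayA
import Cfsg.Agent.Lib.Helper80_CharBasic
import Cfsg.Agent.Lib.Helper3_CharBridge

/-!
# Brauer's `(p - 1) / 2` bound: the reduction to the core case (helper3, package PK-R of S4503)

`Core` is the statement that a finite group `G` with a non-normal Sylow `p`-subgroup `P` of order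
`p`, such that the trivial character is the only irreducible character with `P` in its kernel,
has no faithful irreducible character `z` with `2 z(1) + 1 < p`.  `pkr` derives the full bound
(statement S4503) from `Core` by induction on the group order.
-/

set_option autoImplicit false

namespace Cfsg.Agent.Lib.Helper3_Brauer503R

open Cfsg Cfsg.Agent.Lib.Helper76_GalConj Cfsg.Agent.Lib.Helper80_CharBasic
open scoped ComplexConjugate

universe u

/-- The core case of Brauer's bound, for groups in the universe `u`. -/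
def Core : Prop :=
  ∀ (G : Type u) [Group G] [Finite G] (p : ℕ) [Fact p.Prime] (P : Sylow p G),
    Nat.card P = p → ¬ (P : Subgroup G).Normal →
    (∀ ψ : IrrCharacter G, (∀ x ∈ (P : Subgroup G), (ψ : G → ℂ) x = (ψ : G → ℂ) 1) →
      ψ = oneIrr G) →
    ∀ z : IrrCharacter G, (∀ g : G, (z : G → ℂ) g = (z : G → ℂ) 1 → g = 1) →
      2 * charDegree (z : G → ℂ) + 1 < p → False

section grp

variable {G : Type*} [Group G] [Finite G] {p : ℕ} [hp : Fact p.Prime]

/-- A normal subgroup of order `p` of a normal subgroup gives a normal subgroup of order `p`, when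
`p ^ 2` does not divide the group order. -/
theorem exists_normal_of_normal_sub (hsq : ¬ p ^ 2 ∣ Nat.card G) (N : Subgroup G) [N.Normal]
    (Q : Subgroup N) [Q.Normal] (hQ : Nat.card Q = p) :
    ∃ H : Subgroup G, H.Normal ∧ Nat.card H = p := by
  have hdivN : p ∣ Nat.card N := by
    have := Subgroup.card_subgroup_dvd_card Q
    rwa [hQ] at this
  have hsqN : ¬ p ^ 2 ∣ Nat.card N := fun h => hsq (h.trans (Subgroup.card_subgroup_dvd_card N))
  have hQp : IsPGroup p Q := IsPGroup.of_card (n := 1) (by rw [hQ, pow_one])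
  obtain ⟨S, hS⟩ := hQp.exists_le_sylow
  have hScard : Nat.card (S : Subgroup N) = p :=
    Cfsg.Agent.Lib.Helper78_McKayA.card_sylow_eq hdivN hsqN S
  have hQS : Q = (S : Subgroup N) :=
    Subgroup.eq_of_le_of_card_ge hS (by rw [hQ]; exact hScard.le)
  have hSn : (S : Subgroup N).Normal := hQS ▸ inferInstance
  have := Sylow.characteristic_of_normal S hSn
  refine ⟨(S : Subgroup N).map N.subtype, inferInstance, ?_⟩
  rw [Subgroup.card_map_of_injective N.subtype_injective]
  exact hScard

theorem card_lt_of_ne_top (N : Subgroup G) (h : N ≠ ⊤) : Nat.card N < Nat.card G := by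
  rcases lt_or_eq_of_le (Subgroup.card_le_card_group N) with h1 | h1
  · exact h1
  · exact absurd (Subgroup.eq_top_of_card_eq N h1) h

end grp

section chars

set_option linter.unusedSectionVars false

variable {G : Type u} [Group G] [Finite G]

theorem charDegree_res (N : Subgroup G) (χ : G → ℂ) :
    charDegree (Cfsg.Agent.Lib.Helper75_Clifford.res N χ) = charDegree χ := rfl

theorem res_faithful (N : Subgroup G) (χ : G → ℂ) (hfaith : ∀ g : G, χ g = χ 1 → g = 1)
    (g : N) (hg : Cfsg.Agent.Lib.Helper75_Clifford.res N χ g =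
      Cfsg.Agent.Lib.Helper75_Clifford.res N χ 1) : g = 1 := by
  apply Subtype.ext
  exact hfaith g hg

/-- Degrees add up. -/
theorem charDegree_eq_sum [Fintype G] {χ : G → ℂ} (m : IrrCharacter G → ℕ)
    (hsum : χ = ∑ ψ : IrrCharacter G, (m ψ : ℂ) • (ψ : G → ℂ)) :
    charDegree χ = ∑ ψ : IrrCharacter G, m ψ * charDegree (ψ : G → ℂ) := by
  have h1 : χ 1 = ((∑ ψ : IrrCharacter G, m ψ * charDegree (ψ : G → ℂ) : ℕ) : ℂ) := by
    rw [hsum, Finset.sum_apply]
    push_cast
    apply Finset.sum_congr rfl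
    intro ψ _
    rw [Pi.smul_apply, smul_eq_mul, irr_one_eq_charDegree]
  show ⌊(χ 1).re⌋₊ = _
  rw [h1, Complex.natCast_re, Nat.floor_natCast]

theorem charDegree_le_of_mult [Fintype G] {χ : G → ℂ} (m : IrrCharacter G → ℕ)
    (hsum : χ = ∑ ψ : IrrCharacter G, (m ψ : ℂ) • (ψ : G → ℂ)) (ψ : IrrCharacter G)
    (hψ : m ψ ≠ 0) : charDegree (ψ : G → ℂ) ≤ charDegree χ := by
  classical
  rw [charDegree_eq_sum m hsum]
  calc charDegree (ψ : G → ℂ) ≤ m ψ * charDegree (ψ : G → ℂ) :=
        Nat.le_mul_of_pos_left _ (Nat.pos_of_ne_zero hψ)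
    _ ≤ _ := Finset.single_le_sum (f := fun ψ : IrrCharacter G => m ψ * charDegree (ψ : G → ℂ))
        (fun _ _ => Nat.zero_le _) (Finset.mem_univ ψ)

/-- An element in the kernel of every constituent is in the kernel of the character. -/
theorem apply_eq_of_mem_kers [Fintype G] {χ : G → ℂ} (m : IrrCharacter G → ℕ)
    (hsum : χ = ∑ ψ : IrrCharacter G, (m ψ : ℂ) • (ψ : G → ℂ)) (g : G)
    (hg : ∀ ψ : IrrCharacter G, m ψ ≠ 0 → g ∈ kerC ψ) : χ g = χ 1 := by
  rw [hsum, Finset.sum_apply, Finset.sum_apply]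
  apply Finset.sum_congr rfl
  intro ψ _
  rw [Pi.smul_apply, Pi.smul_apply]
  by_cases h : m ψ = 0
  · rw [h]; simp
  · rw [(mem_kerC ψ g).mp (hg ψ h)]

end chars

section main

open Cfsg.Agent.Lib.Helper75_Clifford Cfsg.Agent.Lib.Helper75_CharArith

/-- **PK-R**: Brauer's bound follows from its core case, by induction on the group order. -/
theorem pkr_aux (core : Core.{u}) : ∀ (n : ℕ) (G : Type u) [Group G] [Finite G], Nat.card G = n →
    ∀ (p : ℕ) [Fact p.Prime], p ∣ Nat.card G → ¬ p ^ 2 ∣ Nat.card G →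
    (∀ H : Subgroup G, H.Normal → Nat.card H ≠ p) →
    ∀ χ : G → ℂ, IsCharacter G χ → (∀ g : G, χ g = χ 1 → g = 1) →
      p ≤ 2 * charDegree χ + 1 := by
  intro n
  induction n using Nat.strong_induction_on with
  | _ n IH =>
  intro G _ _ hn p hp hdiv hsq hnn χ hχ hfaith
  classical
  by_contra hlt
  rw [not_le] at hlt
  -- Step A: a normal subgroup of order divisible by `p` is everything
  have stepA : ∀ N : Subgroup G, N.Normal → p ∣ Nat.card N → N = ⊤ := by
    intro N hN hpN
    by_contra hNtop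
    have hlt' : Nat.card N < n := hn ▸ card_lt_of_ne_top N hNtop
    have hsqN : ¬ p ^ 2 ∣ Nat.card N :=
      fun h => hsq (h.trans (Subgroup.card_subgroup_dvd_card N))
    have hnnN : ∀ Q : Subgroup N, Q.Normal → Nat.card Q ≠ p := by
      intro Q hQ hQc
      obtain ⟨H, hH, hHc⟩ := exists_normal_of_normal_sub hsq N Q hQc
      exact hnn H hH hHc
    have := IH (Nat.card N) hlt' N rfl p hpN hsqN hnnN (res N χ) (isCharacter_res N hχ)
      (res_faithful N χ hfaith)
    rw [charDegree_res] at this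
    omega
  -- the Sylow subgroup
  obtain ⟨P⟩ : Nonempty (Sylow p G) := inferInstance
  have hPc : Nat.card (P : Subgroup G) = p :=
    Cfsg.Agent.Lib.Helper78_McKayA.card_sylow_eq hdiv hsq P
  have hPn : ¬ (P : Subgroup G).Normal := fun h => hnn _ h hPc
  have hker : ∀ ψ : IrrCharacter G, (∀ x ∈ (P : Subgroup G), (ψ : G → ℂ) x = (ψ : G → ℂ) 1) →
      commutator G ≤ kerC ψ := by
    intro ψ hψ
    have hle : (P : Subgroup G) ≤ kerC ψ := fun x hx => (mem_kerC ψ x).mpr (hψ x hx)
    have hdvd : p ∣ Nat.card (kerC ψ) := by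
      have := Subgroup.card_dvd_of_le hle
      rwa [hPc] at this
    rw [stepA (kerC ψ) inferInstance hdvd]
    exact le_top
  have hker' : ∀ ψ : IrrCharacter G,
      (∀ x ∈ (P : Subgroup G), (ψ : G → ℂ) x = (ψ : G → ℂ) 1) → ψ = oneIrr G := by
    intro ψ hψ
    have hle : (P : Subgroup G) ≤ kerC ψ := fun x hx => (mem_kerC ψ x).mpr (hψ x hx)
    have hdvd : p ∣ Nat.card (kerC ψ) := by
      have := Subgroup.card_dvd_of_le hle
      rwa [hPc] at this
    have htop := stepA (kerC ψ) inferInstance hdvd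
    have hconst : ∀ g : G, (ψ : G → ℂ) g = (ψ : G → ℂ) 1 := fun g =>
      (mem_kerC ψ g).mp (htop ▸ Subgroup.mem_top g)
    have hdeg : charDegree (ψ : G → ℂ) = 1 :=
      charDegree_eq_one_of_commutator_le ψ (htop ▸ le_top)
    apply Subtype.ext
    funext g
    rw [hconst g, irr_one_eq_charDegree, hdeg]
    simp [oneIrr]
  -- decomposition into constituents
  have : Fintype G := Fintype.ofFinite G
  obtain ⟨m, hm, hsum⟩ := exists_multiplicities hχ
  have hlin : ∀ ψ : IrrCharacter G, m ψ ≠ 0 → charDegree (ψ : G → ℂ) = 1 := by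
    intro ψ hmψ
    have hdegle := charDegree_le_of_mult m hsum ψ hmψ
    by_cases hpK : p ∣ Nat.card (kerC ψ)
    · exact charDegree_eq_one_of_commutator_le ψ
        ((stepA (kerC ψ) inferInstance hpK) ▸ le_top)
    by_cases hK : kerC ψ = ⊥
    · exfalso
      refine core G p P hPc hPn hker' ψ ?_ (by omega)
      intro g hg
      have : g ∈ kerC ψ := (mem_kerC ψ g).mpr hg
      rw [hK] at this
      exact (Subgroup.mem_bot).mp this
    -- the quotient case
    obtain ⟨ψq, hψq⟩ := exists_quot_char (kerC ψ) ψ le_rfl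
    have hcardmul : Nat.card G = Nat.card (G ⧸ kerC ψ) * Nat.card (kerC ψ) :=
      Subgroup.card_eq_card_quotient_mul_card_subgroup (kerC ψ)
    have hKone : 1 < Nat.card (kerC ψ) := by
      rcases Nat.lt_or_ge 1 (Nat.card (kerC ψ)) with h | h
      · exact h
      · exfalso
        have hpos : 0 < Nat.card (kerC ψ) := Nat.card_pos
        have h1 : Nat.card (kerC ψ) = 1 := by omega
        exact hK ((Subgroup.card_eq_one).mp h1)
    have hqlt : Nat.card (G ⧸ kerC ψ) < n := by
      rw [← hn, hcardmul]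
      have hqpos : 0 < Nat.card (G ⧸ kerC ψ) := Nat.card_pos
      nlinarith
    have hqdiv : p ∣ Nat.card (G ⧸ kerC ψ) := by
      rw [hcardmul] at hdiv
      rcases (Nat.Prime.dvd_mul hp.out).mp hdiv with h | h
      · exact h
      · exact absurd h hpK
    have hqsq : ¬ p ^ 2 ∣ Nat.card (G ⧸ kerC ψ) := fun h =>
      hsq (hcardmul ▸ Dvd.dvd.mul_right h _)
    have hqdeg : charDegree (ψq : G ⧸ kerC ψ → ℂ) = charDegree (ψ : G → ℂ) := by
      rw [← charDegree_infl (kerC ψ) ψq, hψq]
    have hqfaith : ∀ x : G ⧸ kerC ψ,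
        (ψq : G ⧸ kerC ψ → ℂ) x = (ψq : G ⧸ kerC ψ → ℂ) 1 → x = 1 := by
      intro x hx
      obtain ⟨g, rfl⟩ := QuotientGroup.mk_surjective x
      rw [QuotientGroup.eq_one_iff, mem_kerC, ← hψq]
      simpa using hx
    by_cases hqnn : ∀ H : Subgroup (G ⧸ kerC ψ), H.Normal → Nat.card H ≠ p
    · exfalso
      have := IH _ hqlt (G ⧸ kerC ψ) rfl p hqdiv hqsq hqnn (ψq : G ⧸ kerC ψ → ℂ)
        (Cfsg.Agent.Lib.Helper3_CharBridge.isCharacter_of_isIrrCharacter ψq.2) hqfaith
      omega
    · push Not at hqnn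
      obtain ⟨H, hH, hHc⟩ := hqnn
      have hcomapN : (H.comap (QuotientGroup.mk' (kerC ψ))).Normal := hH.comap _
      have hmap : (H.comap (QuotientGroup.mk' (kerC ψ))).map (QuotientGroup.mk' (kerC ψ)) = H :=
        Subgroup.map_comap_eq_self_of_surjective (QuotientGroup.mk'_surjective _) H
      have hdvd : p ∣ Nat.card (H.comap (QuotientGroup.mk' (kerC ψ))) := by
        have := Subgroup.card_map_dvd (H := H.comap (QuotientGroup.mk' (kerC ψ)))
          (QuotientGroup.mk' (kerC ψ))
        rwa [hmap, hHc] at this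
      have htop := stepA _ hcomapN hdvd
      have hHtop : H = ⊤ := by
        rw [← hmap, htop, ← MonoidHom.range_eq_map]
        exact MonoidHom.range_eq_top.mpr (QuotientGroup.mk'_surjective _)
      have hqc : Nat.card (G ⧸ kerC ψ) = p := by
        rw [← hHc, hHtop, Subgroup.card_top]
      have hcyc : IsCyclic (G ⧸ kerC ψ) := isCyclic_of_prime_card hqc
      have hcomm : ∀ a b : G ⧸ kerC ψ, a * b = b * a := fun a b => by
        let _ := hcyc.commGroup
        exact mul_comm a b
      rw [← hqdeg]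
      exact charDegree_eq_one_of_comm hcomm ψq
  -- all constituents are linear, so `G` is abelian
  have hcomm : ∀ a b : G, a * b = b * a := by
    intro a b
    have h1 : a * b * a⁻¹ * b⁻¹ = 1 := by
      apply hfaith
      apply apply_eq_of_mem_kers m hsum
      intro ψ hψ
      have := commutator_le_kerC_of_linear ψ (hlin ψ hψ)
        (Subgroup.commutator_mem_commutator (Subgroup.mem_top a) (Subgroup.mem_top b))
      rwa [commutatorElement_def] at this
    rw [← commutatorElement_def] at h1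
    exact commutatorElement_eq_one_iff_mul_comm.mp h1
  apply hPn
  constructor
  intro x hx g
  rw [hcomm g x, mul_assoc, mul_inv_cancel, mul_one]
  exact hx

/-- **PK-R**, in the form of statement S4503. -/
theorem pkr (core : Core.{u}) {G : Type u} [Group G] [Finite G] (p : ℕ) (hp : p.Prime)
    (hdiv : p ∣ Nat.card G) (hsq : ¬ p ^ 2 ∣ Nat.card G)
    (hnn : ∀ H : Subgroup G, H.Normal → Nat.card H ≠ p) (χ : G → ℂ)
    (hχ : Cfsg.IsCharacter G χ) (hfaith : ∀ g : G, χ g = χ 1 → g = 1) :
    p ≤ 2 * Cfsg.charDegree χ + 1 :=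
  haveI : Fact p.Prime := ⟨hp⟩
  pkr_aux core (Nat.card G) G rfl p hdiv hsq hnn χ hχ hfaith

end main

end Cfsg.Agent.Lib.Helper3_Brauer503R
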