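import Mathlib
import Cfsg.Prelude.Def_Characters
import Cfsg.Prelude.Def_Blocks
import Cfsg.Agent.S0165
import Cfsg.Agent.S0936
import Cfsg.Agent.S1504
import Cfsg.Agent.Lib.Helper57_CTGen
import Cfsg.Agent.Lib.Helper74_H1V
import Cfsg.Agent.Lib.Helper16_GenMain
import Cfsg.Agent.Lib.Helper16_GenFinal
import Cfsg.Agent.Lib.Helper16_GenConj
import Cfsg.Agent.Lib.Helper16_GenBridge
import Cfsg.Agent.Lib.Helper16_GenGlue
import Cfsg.Agent.Lib.Helper78_McKayA
import Cfsg.Agent.Lib.Helper78_NilpotentRank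

/-!
# The principal block of a group with a Sylow `p`-subgroup of order `p` (helper78)

Package PK-X of S4503 (Brauer's `(p - 1) / 2` bound).  `P` a Sylow `p`-subgroup of order `p`,
`C_G(P) = P × V`, `f = |N_G(P) : C_G(P)| < p - 1`.  The principal block is `X0 ⊔ Y0` with
`|X0| = f`, `f |Y0| = p - 1`, `1_G ∈ X0` with sign `+1`; every `χ ∈ X0` is constant `= ε_χ` on the
`p`-singular elements, the sum of the members of `Y0` is `- ε0` there, and the degree relations.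
-/

set_option autoImplicit false
set_option linter.unusedSectionVars false

namespace Cfsg.Agent.Lib.Helper78_Brauer503X

open Cfsg Cfsg.Agent.Lib.Helper16_BrauerSetup Cfsg.Agent.Lib.Helper16_BrauerMain
  Cfsg.Agent.Lib.Helper16_GenSetup Cfsg.Agent.Lib.Helper16_GenK Cfsg.Agent.Lib.Helper16_GenMain
  Cfsg.Agent.Lib.Helper16_GenFinal Cfsg.Agent.Lib.Helper16_GenConj
  Cfsg.Agent.Lib.Helper16_GenBridge Cfsg.Agent.Lib.Helper16_GenGlue
  Cfsg.Agent.Lib.Helper78_PartAGen Cfsg.Agent.Lib.Helper78_McKayA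
  Cfsg.Agent.Lib.Helper78_LocalRing Cfsg.Agent.Lib.Helper78_NilpotentRank
  Cfsg.Agent.Lib.Helper80_CharBasic
open scoped ComplexConjugate

variable {G : Type*} [Group G] [Fintype G] {p : ℕ} [hp : Fact p.Prime] {P : Sylow p G}
  {V : Subgroup G}

section one

variable [Fintype ↥V]

theorem stab_oneIrr (hV : IsPCompl P V) : stab hV (oneIrr ↥V) = NN P := by
  apply le_antisymm (stab_le_normalizer hV _)
  intro n hn
  exact ⟨hn, fun v v' _ => rfl⟩

theorem conjθ_oneIrr (hV : IsPCompl P V) (n : G)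
    (hn : n ∈ Subgroup.normalizer ((P : Subgroup G) : Set G)) :
    conjθ hV n hn (oneIrr ↥V) = oneIrr ↥V := Subtype.ext rfl

theorem not_isConjθ_oneIrr (hV : IsPCompl P V) {θ' : IrrCharacter ↥V} (h : θ' ≠ oneIrr ↥V) :
    ¬ IsConjθ hV (oneIrr ↥V) θ' := by
  rintro ⟨n, hn, rfl⟩
  exact h (conjθ_oneIrr hV n hn)

theorem sfun_oneIrr (h : ↥(P : Subgroup G)) : sfun P V (oneIrr ↥V) (oneIrr G) h = 1 := by
  unfold sfun
  show (Nat.card V : ℂ)⁻¹ * ∑ v : ↥V, (1 : ℂ) * conj (1 : ℂ) = 1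
  have hV0 : (Nat.card V : ℂ) ≠ 0 := by
    rw [Nat.cast_ne_zero]; exact Nat.card_pos.ne'
  simp only [map_one, mul_one, Finset.sum_const, Finset.card_univ, nsmul_eq_mul]
  rw [← Nat.card_eq_fintype_card]
  exact inv_mul_cancel₀ hV0

variable [Fintype ↥(P : Subgroup G)] [Fintype (↥(P : Subgroup G) →* ℂˣ)]

theorem nng_oneIrr (hP : Nat.card P = p) (hV : IsPCompl P V) (φ : ↥(P : Subgroup G) →* ℂˣ)
    (hφ : φ ≠ 1) : nng hV (oneIrr ↥V) (oneIrr G) φ = -1 := by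
  have hp0 : (p : ℂ) ≠ 0 := by exact_mod_cast hp.out.ne_zero
  have h1 := nng_eq hP hV (oneIrr ↥V) (oneIrr G) φ
  simp_rw [sfun_oneIrr, one_mul] at h1
  rw [Finset.sum_sub_distrib, ← map_sum, Cfsg.Agent.S1504.sum_units_hom_eq_zero φ hφ, map_zero]
    at h1
  simp only [Finset.sum_const, Finset.card_univ, nsmul_eq_mul, mul_one] at h1
  rw [← Nat.card_eq_fintype_card, hP, zero_sub, mul_neg, inv_mul_cancel₀ hp0] at h1
  exact_mod_cast h1

end one

section block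

variable [Fintype ↥V]

/-- The principal block is `BGen P V 1_V`; vanishing and orthogonality (no reference to the
modular ideal). -/
theorem principal_facts (hP : Nat.card P = p) (hV : IsPCompl P V) :
    oneIrr G ∈ BGen P V (oneIrr ↥V) ∧
    (∀ χ ∈ BGen P V (oneIrr ↥V), ∀ θ' : IrrCharacter ↥V, θ' ≠ oneIrr ↥V →
      ∀ h : ↥(P : Subgroup G), h ≠ 1 → sfun P V θ' χ h = 0) ∧
    (∀ S : Finset (IrrCharacter G), BGen P V (oneIrr ↥V) = ↑S → ∀ g : G, ¬ p ∣ orderOf g →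
      ∀ h : ↥(P : Subgroup G), h ≠ 1 →
        ∑ χ ∈ S, sfun P V (oneIrr ↥V) χ h * conj ((χ : G → ℂ) g) = 0) := by
  classical
  obtain ⟨M, hM⟩ := Cfsg.Agent.S0165.exists_isPModular p hp.out
  have hMp := isPrime_of_isPModular hM
  set θC : IrrCharacter ↥(CC P) := oneIrr ↥(CC P) with hθC
  have hker : KerP θC := fun x hx => rfl
  have hθV : resV hP hV θC hker = oneIrr ↥V := Subtype.ext rfl
  have hB0 : IsPBlock M (principalBlock M G) := ⟨oneIrr G, rfl⟩
  have hone : oneIrr G ∈ principalBlock M G := oneIrr_mem_principalBlock hMp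
  have hdeg1 : charDegree ((oneIrr G : IrrCharacter G) : G → ℂ) = 1 := by
    unfold charDegree
    show ⌊((1 : ℂ)).re⌋₊ = 1
    simp
  have hd : 0 < blockDefect p (principalBlock M G) := by
    have := (not_dvd_charDegree_iff P hM hP (oneIrr G)).mp (by
      rw [hdeg1]; exact hp.out.not_dvd_one)
    exact this
  have hBP : IsDefectGroup p M (principalBlock M G) (P : Subgroup G) :=
    isDefectGroup_sylow P hM hP hB0 hd
  have hdef : InducedBlockDefined M (CC P) (principalBlock M ↥(CC P)) :=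
    exists_induced P hM hP (oneIrr ↥(CC P))
  have hind : IsInducedBlock M (CC P) (principalBlock M ↥(CC P)) (principalBlock M G) :=
    (Cfsg.Agent.S0936.result p M hM (CC P) _ hdef).mpr rfl
  have hθ : θC ∈ principalBlock M ↥(CC P) := oneIrr_mem_principalBlock hMp
  have hBeq : principalBlock M G = BGen P V (oneIrr ↥V) := by
    rw [← hθV]
    exact block_eq_BGen hM hP hV hB0 hBP hind hθ hker
  refine ⟨hBeq ▸ hone, ?_, ?_⟩
  · intro χ hχ θ' hθ' h hh
    rw [← hBeq] at hχ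
    refine block_vanish hM hP hV hB0 hBP hind hθ hker hχ θ' ?_ h hh
    rw [hθV]
    exact not_isConjθ_oneIrr hV hθ'
  · intro S hS g hg h hh
    have := block_orth hM hP hV hB0 θC hker S (hBeq.trans hS) hg h hh
    rw [hθV] at this
    exact this

end block

section main

variable [Fintype ↥(P : Subgroup G)] [Fintype ↥V] [Fintype (↥(P : Subgroup G) →* ℂˣ)]

/-- `sfun P V 1_V χ 1 = |V|⁻¹ ∑_{v ∈ V} χ v`. -/
theorem sfun_one_oneIrr (χ : IrrCharacter G) :
    sfun P V (oneIrr ↥V) χ 1 = (Nat.card V : ℂ)⁻¹ * ∑ v : ↥V, (χ : G → ℂ) (v : G) := by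
  unfold sfun
  congr 1
  refine Finset.sum_congr rfl fun v _ => ?_
  show (χ : G → ℂ) (((1 : ↥(P : Subgroup G)) : G) * (v : G)) * conj (1 : ℂ) = _
  rw [map_one, mul_one, OneMemClass.coe_one, one_mul]

/-- `∑_{h ∈ P} sfun P V θ χ h = p * multg χ 1`. -/
theorem sum_sfun (hP : Nat.card P = p) (hV : IsPCompl P V) (θ : IrrCharacter ↥V)
    (χ : IrrCharacter G) :
    ∑ h : ↥(P : Subgroup G), sfun P V θ χ h = (p : ℂ) * (multg hV θ χ 1 : ℂ) := by
  have hp0 : (p : ℂ) ≠ 0 := by exact_mod_cast hp.out.ne_zero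
  have h1 := multg_spec hV θ χ 1
  unfold classInner at h1
  have hP' : (Nat.card ↥(P : Subgroup G) : ℂ) = p := by exact_mod_cast hP
  rw [hP'] at h1
  rw [← h1, ← mul_assoc, mul_inv_cancel₀ hp0, one_mul]
  refine Finset.sum_congr rfl fun h _ => ?_
  simp

open scoped Classical in
/-- **PK-X**: the principal block of a group with a Sylow `p`-subgroup of order `p`. -/
theorem pkx (hP : Nat.card P = p) (hV : IsPCompl P V) (f : ℕ)
    (hf : (CC P).relIndex (NN P) = f) (hfp : f < p - 1) :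
    ∃ (X0 Y0 : Finset (IrrCharacter G)) (εX : IrrCharacter G → ℤ) (ε0 : ℤ),
      Disjoint X0 Y0 ∧ X0.card = f ∧ f * Y0.card = p - 1 ∧
      oneIrr G ∈ X0 ∧ εX (oneIrr G) = 1 ∧
      (∀ χ ∈ X0, εX χ = 1 ∨ εX χ = -1) ∧
      (∀ χ ∈ X0, ∀ g : G, p ∣ orderOf g → (χ : G → ℂ) g = (εX χ : ℂ)) ∧
      (ε0 = 1 ∨ ε0 = -1) ∧
      (∀ g : G, p ∣ orderOf g → ∑ ξ ∈ Y0, (ξ : G → ℂ) g = -(ε0 : ℂ)) ∧
      (∀ ξ ∈ Y0, ∑ h : ↥(P : Subgroup G), (ξ : G → ℂ) (h : G) =
        (ξ : G → ℂ) 1 - (ε0 : ℂ) * (f : ℂ)) ∧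
      (∀ g : G, ¬ p ∣ orderOf g → ∀ ξ ∈ Y0,
        (ε0 : ℂ) * (ξ : G → ℂ) g = ∑ χ ∈ X0, (εX χ : ℂ) * (χ : G → ℂ) g) ∧
      (∀ χ ∈ X0, ∃ m : ℕ, (Nat.card V : ℂ)⁻¹ * ∑ v : ↥V, (χ : G → ℂ) (v : G) =
        (p : ℂ) * (m : ℂ) - ((p : ℂ) - 1) * (εX χ : ℂ)) ∧
      (∀ ξ ∈ Y0, ∃ m : ℕ, (Nat.card V : ℂ)⁻¹ * ∑ v : ↥V, (ξ : G → ℂ) (v : G) =
        (p : ℂ) * (m : ℂ) + (ε0 : ℂ) * (f : ℂ)) := by
  obtain ⟨hone, hvan, horth⟩ := principal_facts hP hV
  obtain ⟨X, Y, εX, ε, hBXY, hdisj, hXc, hYc, hXp, hε, hYp, hYu, hYs⟩ :=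
    gen_structure hP hV (oneIrr ↥V) f (by rw [stab_oneIrr]; exact hf)
      (Cfsg.Agent.Lib.Helper57_CTGen.ct_gen p P hP) (Cfsg.Agent.Lib.Helper74_H1V.h1V hP hV _)
  have hp1 : 0 < p - 1 := by omega
  have hfpos : 0 < f := by
    rcases Nat.eq_zero_or_pos f with h | h
    · rw [h, zero_mul] at hYc; omega
    · exact h
  have hset : BGen P V (oneIrr ↥V) = ↑(X ∪ Y) := by
    ext χ
    rw [Finset.coe_union, Set.mem_union, Finset.mem_coe, Finset.mem_coe]
    exact hBXY χ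
  have hXB : ∀ χ ∈ X, χ ∈ BGen P V (oneIrr ↥V) := fun χ hχ => (hBXY χ).mpr (Or.inl hχ)
  have hYB : ∀ χ ∈ Y, χ ∈ BGen P V (oneIrr ↥V) := fun χ hχ => (hBXY χ).mpr (Or.inr hχ)
  -- values on `h v`
  have hval : ∀ χ ∈ BGen P V (oneIrr ↥V), ∀ h : ↥(P : Subgroup G), h ≠ 1 → ∀ v : ↥V,
      (χ : G → ℂ) ((h : G) * (v : G)) = sfun P V (oneIrr ↥V) χ h := by
    intro χ hχ h hh v
    rw [value_hv hV χ h v, Finset.sum_eq_single (oneIrr ↥V)]
    · show _ * (1 : ℂ) = _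
      rw [mul_one]
    · intro θ' _ hθ'
      rw [hvan χ hχ θ' hθ' h hh, zero_mul]
    · intro h
      exact absurd (Finset.mem_univ _) h
  -- a nontrivial linear character of `P`
  have hiota : Nonempty {φ : ↥(P : Subgroup G) →* ℂˣ // φ ≠ 1} := by
    rw [← Fintype.card_pos_iff, card_ne_one P hP]
    exact hp1
  obtain ⟨⟨φ₀, hφ₀⟩⟩ := hiota
  -- the trivial character lies in `X`
  have honeX : oneIrr G ∈ X := by
    rcases (hBXY (oneIrr G)).mp hone with h | h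
    · exact h
    · exfalso
      have h1 := hYs (oneIrr G) h
      have h2 : Finset.univ.filter
          (fun φ : ↥(P : Subgroup G) →* ℂˣ => nng hV (oneIrr ↥V) (oneIrr G) φ ≠ 0) =
          Finset.univ.filter (fun φ : ↥(P : Subgroup G) →* ℂˣ => φ ≠ 1) := by
        ext φ
        simp only [Finset.mem_filter, Finset.mem_univ, true_and]
        constructor
        · intro hne hφ
          rw [hφ, nng_one] at hne
          exact hne rfl
        · intro hφ
          rw [nng_oneIrr hP hV φ hφ]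
          norm_num
      rw [h2, ← Fintype.card_subtype, card_ne_one P hP] at h1
      omega
  have honeε : εX (oneIrr G) = 1 := by
    have h1 := (hXp (oneIrr G) honeX).2 φ₀ hφ₀
    rw [nng_oneIrr hP hV φ₀ hφ₀] at h1
    omega
  -- sums of `nng` over `Y`
  have hYsum : ∀ φ : ↥(P : Subgroup G) →* ℂˣ, φ ≠ 1 →
      ∑ ξ ∈ Y, nng hV (oneIrr ↥V) ξ φ = ε := by
    intro φ hφ
    obtain ⟨ψ, hψY, hψne, hψu⟩ := hYu φ hφ
    rw [Finset.sum_eq_single_of_mem ψ hψY]
    · rcases hYp ψ hψY φ hφ with h | h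
      · exact absurd h hψne
      · exact h
    · intro ψ' hψ' hne
      by_contra h0
      exact hne (hψu ψ' hψ' h0)
  refine ⟨X, Y, εX, ε, hdisj, hXc, hYc, honeX, honeε, fun χ hχ => (hXp χ hχ).1, ?_, hε, ?_, ?_,
    ?_, ?_, ?_⟩
  · -- values of `X` on `p`-singular elements
    intro χ hχ g hg
    obtain ⟨t, h, v, hh, rfl⟩ := exists_conj_hv hP hV hg
    rw [irr_conj χ _ t, hval χ (hXB χ hχ) h hh v]
    exact sfun_X hP hV (oneIrr ↥V) χ (εX χ) (hXp χ hχ).2 h hh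
  · -- the sum over `Y` on `p`-singular elements
    intro g hg
    obtain ⟨t, h, v, hh, rfl⟩ := exists_conj_hv hP hV hg
    have h1 : ∀ ξ ∈ Y, (ξ : G → ℂ) (t * ((h : G) * (v : G)) * t⁻¹) =
        ∑ φ : ↥(P : Subgroup G) →* ℂˣ,
          (nng hV (oneIrr ↥V) ξ φ : ℂ) * ((φ h : ℂˣ) : ℂ) := by
      intro ξ hξ
      rw [irr_conj ξ _ t, hval ξ (hYB ξ hξ) h hh v, value_eq_nn hP hV (oneIrr ↥V) ξ h hh]
    rw [Finset.sum_congr rfl h1, Finset.sum_comm]
    have h2 : ∀ φ : ↥(P : Subgroup G) →* ℂˣ,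
        ∑ ξ ∈ Y, (nng hV (oneIrr ↥V) ξ φ : ℂ) * ((φ h : ℂˣ) : ℂ) =
          (ε : ℂ) * ((φ h : ℂˣ) : ℂ) - (if φ = 1 then (ε : ℂ) else 0) := by
      intro φ
      rw [← Finset.sum_mul]
      by_cases hφ : φ = 1
      · rw [if_pos hφ, hφ]
        simp
      · rw [if_neg hφ, sub_zero]
        congr 1
        exact_mod_cast hYsum φ hφ
    rw [Finset.sum_congr rfl (fun φ _ => h2 φ), Finset.sum_sub_distrib, ← Finset.mul_sum,
      Cfsg.Agent.Lib.Helper25_AbDual.sum_hom_apply (comm_of_card P hP) h, if_neg hh,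
      Finset.sum_ite_eq' Finset.univ (1 : ↥(P : Subgroup G) →* ℂˣ)]
    simp
  · -- the sum over `P` of an exceptional character
    intro ξ hξ
    have hkey : ∀ h : ↥(P : Subgroup G),
        (ξ : G → ℂ) (h : G) - (if h = 1 then (ξ : G → ℂ) 1 else 0) =
          sfun P V (oneIrr ↥V) ξ h - (if h = 1 then sfun P V (oneIrr ↥V) ξ 1 else 0) := by
      intro h
      by_cases hh : h = 1
      · rw [if_pos hh, if_pos hh, hh, OneMemClass.coe_one, sub_self, sub_self]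
      · rw [if_neg hh, if_neg hh, sub_zero, sub_zero]
        have := hval ξ (hYB ξ hξ) h hh 1
        rw [OneMemClass.coe_one, mul_one] at this
        exact this
    have hsum := Finset.sum_congr (s₁ := (Finset.univ : Finset ↥(P : Subgroup G))) rfl
      (fun h _ => hkey h)
    rw [Finset.sum_sub_distrib, Finset.sum_sub_distrib,
      Finset.sum_ite_eq' Finset.univ (1 : ↥(P : Subgroup G)),
      Finset.sum_ite_eq' Finset.univ (1 : ↥(P : Subgroup G)), if_pos (Finset.mem_univ _),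
      if_pos (Finset.mem_univ _), sum_sfun hP hV, value_one hP hV] at hsum
    have hrow : (∑ φ : ↥(P : Subgroup G) →* ℂˣ, (nng hV (oneIrr ↥V) ξ φ : ℂ)) =
        (ε : ℂ) * (f : ℂ) := by
      have := rowsum_Y hV (oneIrr ↥V) ξ ε f (hYp ξ hξ) (hYs ξ hξ)
      exact_mod_cast this
    rw [hrow] at hsum
    linear_combination hsum
  · -- the `p`-regular elements
    intro g hg ξ hξ
    have h1 := exceptional_reg hP hV (oneIrr ↥V) f hfpos X Y εX ε hdisj hXp hYp hYu hYs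
      (fun h hh => horth (X ∪ Y) hset g hg h hh) ξ hξ
    have h2 := congrArg (starRingEnd ℂ) h1
    rw [map_mul, Complex.conj_conj, map_sum] at h2
    have h3 : conj (ε : ℂ) = (ε : ℂ) := by
      rw [← Complex.ofReal_intCast, Complex.conj_ofReal]
    rw [h3] at h2
    rw [h2]
    refine Finset.sum_congr rfl fun χ _ => ?_
    rw [map_mul, Complex.conj_conj, ← Complex.ofReal_intCast, Complex.conj_ofReal]
  · -- restriction of `X` to `V`
    intro χ hχ
    refine ⟨multg hV (oneIrr ↥V) χ 1, ?_⟩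
    rw [← sfun_one_oneIrr (P := P) (V := V) χ, value_one hP hV]
    have h1 : ∑ φ : ↥(P : Subgroup G) →* ℂˣ, nng hV (oneIrr ↥V) χ φ =
        - ((p : ℤ) - 1) * εX χ := by
      rw [← sum_subtype_ne_one P (fun φ => nng hV (oneIrr ↥V) χ φ) (nng_one hV _ χ)]
      rw [Finset.sum_congr rfl (fun i _ => (hXp χ hχ).2 i.1 i.2), Finset.sum_const,
        Finset.card_univ, card_ne_one P hP, nsmul_eq_mul, Nat.cast_sub hp.out.one_le]
      push_cast
      ring
    have h2 : (∑ φ : ↥(P : Subgroup G) →* ℂˣ, (nng hV (oneIrr ↥V) χ φ : ℂ)) =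
        - ((p : ℂ) - 1) * (εX χ : ℂ) := by
      exact_mod_cast h1
    rw [h2]
    ring
  · -- restriction of `Y` to `V`
    intro ξ hξ
    refine ⟨multg hV (oneIrr ↥V) ξ 1, ?_⟩
    rw [← sfun_one_oneIrr (P := P) (V := V) ξ, value_one hP hV]
    have hrow : (∑ φ : ↥(P : Subgroup G) →* ℂˣ, (nng hV (oneIrr ↥V) ξ φ : ℂ)) =
        (ε : ℂ) * (f : ℂ) := by
      have := rowsum_Y hV (oneIrr ↥V) ξ ε f (hYp ξ hξ) (hYs ξ hξ)
      exact_mod_cast this
    rw [hrow]

end main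

end Cfsg.Agent.Lib.Helper78_Brauer503X
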