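import Mathlib
import Cfsg.Agent.Lib.Helper3_Brauer503R
import Cfsg.Agent.Lib.Helper3_Brauer503F
import Cfsg.Agent.Lib.Helper78_Brauer503X
import Cfsg.Agent.Lib.Helper16_SmallDeg

/-!
# Brauer's `(p - 1) / 2` bound: the core case and the theorem (helper3, S4503)

`core` proves `Helper3_Brauer503R.Core` from `Helper78_Brauer503X.pkx` (principal block, helper78),
`Helper16_SmallDeg.pk_local` (local structure, helper16) and `Helper3_Brauer503F.pkf3` (the counting
argument); `brauer_bound` is statement S4503.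
-/

set_option autoImplicit false

namespace Cfsg.Agent.Lib.Helper3_Brauer503C

open Cfsg Cfsg.Agent.Lib.Helper76_GalConj Cfsg.Agent.Lib.Helper80_CharBasic
  Cfsg.Agent.Lib.Helper16_GenSetup Cfsg.Agent.Lib.Helper3_Brauer503R
open scoped ComplexConjugate

universe u

/-- The core case of Brauer's bound. -/
theorem core : Core.{u} := by
  intro G _ _ p hp P hPc hPn hker z hzf hdeg
  classical
  have : Fintype G := Fintype.ofFinite G
  obtain ⟨V, hV⟩ := Cfsg.Agent.Lib.Helper16_GenBridge.exists_isPCompl (P := P) hPc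
  have : Fintype ↥(P : Subgroup G) := Fintype.ofFinite _
  have : Fintype ↥V := Fintype.ofFinite _
  have : Fintype (↥(P : Subgroup G) →* ℂˣ) := Fintype.ofFinite _
  obtain ⟨hf2, hf3, ⟨k, hk1, hk2, hk3⟩, ⟨m, hm1, hm2⟩⟩ :=
    Cfsg.Agent.Lib.Helper16_SmallDeg.pk_local hPc hV z hdeg hzf hPn _ rfl
  have hfp : (Subgroup.centralizer ((P : Subgroup G) : Set G)).relIndex
      (Subgroup.normalizer ((P : Subgroup G) : Set G)) < p - 1 := by omega
  obtain ⟨X0, Y0, εX, ε0, hdisj, hXc, hYc, h1X, hε1, hεX, hXsing, hε0, hYsing, hYP, hreg, hXV,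
      hYV⟩ := Cfsg.Agent.Lib.Helper78_Brauer503X.pkx hPc hV _ rfl hfp
  have hVreg : ∀ v ∈ V, ¬ p ∣ orderOf v := by
    intro v hv hdvd
    have h1 : orderOf (⟨v, hv⟩ : ↥V) ∣ Nat.card V := orderOf_dvd_natCard _
    rw [← Subgroup.orderOf_coe] at h1
    have h2 : p ∣ Nat.card V := hdvd.trans h1
    have h3 := hV.coprime
    exact hp.out.one_lt.ne' (Nat.Coprime.eq_one_of_dvd h3.symm h2)
  exact Cfsg.Agent.Lib.Helper3_Brauer503F.pkf3 hPc hVreg _ hf2 hf3 z k hk1 hk2 hk3 m hm1 hm2 hker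
    X0 Y0 εX ε0 hXc hYc h1X hε1 hεX hXsing hε0 hYsing hYP hreg hXV

end Cfsg.Agent.Lib.Helper3_Brauer503C
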