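import Cfsg.Agent.Lib.Helper12_W2pCore2
import Cfsg.Agent.Lib.Helper10_W2p_P4
import Cfsg.Agent.Lib.Helper10_W2p_P6
import Cfsg.Agent.Lib.Helper24_W2p_C5
import Cfsg.Agent.Lib.Helper24_W2p_C6
import Cfsg.Agent.Lib.Helper52_W2p_P8
import Cfsg.Agent.Lib.Helper58_W2p_P3
import Cfsg.Agent.Lib.Helper65_W2p_C2
import Cfsg.Agent.Lib.Helper79_W2p_C3
import Cfsg.Agent.Lib.Helper88_W2p_C4
import Cfsg.Agent.Lib.Helper94_W2p_P1
import Cfsg.Agent.S4503

/-!
# S0720: Wielandt's theorem on primitive groups of degree `2p` - assembly (helper12)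
-/

set_option autoImplicit false
set_option linter.unusedSectionVars false
set_option linter.unusedVariables false
set_option linter.unusedSimpArgs false

namespace Cfsg.Agent.Lib.Helper12_W2pMain

open Equiv MulAction Cfsg.Agent.Lib.Helper12_W2pDefs

variable {α : Type*} [Fintype α] [DecidableEq α]

section orb

variable (G : Subgroup (Perm α)) (a₀ : α)

/-- the class of `b` is the class of the base point only for `b = a₀` -/
theorem mk_eq_base_iff (b : α) :
    (Quotient.mk'' b : orbitRel.Quotient (stabilizer G a₀) α) = Quotient.mk'' a₀ ↔ b = a₀ := by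
  rw [Quotient.eq'']
  change b ∈ orbit (stabilizer G a₀) a₀ ↔ _
  constructor
  · rintro ⟨g, rfl⟩
    exact g.2
  · rintro rfl
    exact mem_orbit_self _

theorem out_ne_base (q : orbitRel.Quotient (stabilizer G a₀) α)
    (hq : q ≠ Quotient.mk'' a₀) : q.out ≠ a₀ := by
  intro h
  apply hq
  rw [← Quotient.out_eq' q]
  exact (mk_eq_base_iff G a₀ _).mpr h

theorem orbit_out (b : α) :
    orbit (stabilizer G a₀) (Quotient.mk'' b : orbitRel.Quotient (stabilizer G a₀) α).out =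
      orbit (stabilizer G a₀) b := by
  apply orbit_eq_iff.mpr
  have := Quotient.mk_out' (s₁ := orbitRel (stabilizer G a₀) α) b
  exact this

end orb

section orbital

open Cfsg.Agent.Lib.Helper10_W2p_P6

variable {p : ℕ} [hp : Fact p.Prime] (G : Subgroup (Perm α)) (F : Frame G p) (a₀ b : α)

theorem orbMat_zero_or_one (ω ω' : α) : orbMat G a₀ b ω ω' = 0 ∨ orbMat G a₀ b ω ω' = 1 := by
  classical
  rw [orbMat_eq_ite]
  split_ifs <;> simp

theorem cf_orb_zero (hb : b ≠ a₀) : cf F (orbMat G a₀ b) 0 = 0 := by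
  simp [cf, P6_diag G a₀ b _ hb]

theorem cf_orb_bounds (d : ZMod p) :
    0 ≤ cf F (orbMat G a₀ b) d ∧ cf F (orbMat G a₀ b) d ≤ 2 := by
  unfold cf
  rcases orbMat_zero_or_one G a₀ b (F.φ (0, 0)) (F.φ (d, 0)) with h1 | h1 <;>
  rcases orbMat_zero_or_one G a₀ b (F.φ (0, 1)) (F.φ (d, 1)) with h2 | h2 <;>
  rw [h1, h2] <;> norm_num

include F in
theorem card_alpha : Fintype.card α = 2 * p := by
  rw [← Fintype.card_congr F.φ, Fintype.card_prod, ZMod.card, Fintype.card_fin, mul_comm]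

theorem rowSum_orb [IsPretransitive G α] :
    rowSum F (orbMat G a₀ b) = Nat.card (orbit (stabilizer G a₀) b) :=
  P6_row G a₀ b _

theorem trace_orb [IsPretransitive G α] :
    (orbMat G a₀ b * (orbMat G a₀ b).transpose).trace = 2 * p * rowSum F (orbMat G a₀ b) := by
  have h1 := (Cfsg.Agent.Lib.Helper65_W2p_B1.B1 G F (orbMat G a₀ b) (P6_inv G a₀ b)).1
  simp only [Matrix.trace, Matrix.diag, Matrix.mul_apply, Matrix.transpose_apply]
  have h2 : ∀ ω ω', orbMat G a₀ b ω ω' * orbMat G a₀ b ω ω' = orbMat G a₀ b ω ω' := by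
    intro ω ω'
    rcases orbMat_zero_or_one G a₀ b ω ω' with h | h <;> rw [h] <;> norm_num
  simp only [h2, h1, Finset.sum_const, Finset.card_univ, card_alpha G F]
  simp

theorem two_le_orbit (hfix : ∀ a b : α, a ≠ b → ∃ g ∈ G, g a = a ∧ g b ≠ b) (hb : b ≠ a₀) :
    2 ≤ Nat.card (orbit (stabilizer G a₀) b) := by
  obtain ⟨g, hg, hga, hgb⟩ := hfix a₀ b (Ne.symm hb)
  have hgs : (⟨g, hg⟩ : G) ∈ stabilizer G a₀ := hga
  have : Nontrivial (orbit (stabilizer G a₀) b) := by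
    refine ⟨⟨⟨b, mem_orbit_self _⟩, ⟨g b, ⟨⟨⟨g, hg⟩, hgs⟩, rfl⟩⟩, ?_⟩⟩
    intro h
    exact hgb (congrArg Subtype.val h).symm
  exact Finite.one_lt_card_iff_nontrivial.mpr this

/-- the classification of a nondiagonal orbital in the case `a = 1` -/
theorem orbital_class (hp2 : p ≠ 2) (hG : IsPreprimitive G α)
    (hFT : ∀ χ : G → ℂ, Cfsg.IsCharacter G χ → (∀ g : G, χ g = χ 1 → g = 1) →
      p ≤ 2 * Cfsg.charDegree χ + 1)
    (hMC : ∀ k : ZMod p, k ≠ 0 → Meets G F k ∧ ¬ Contains G F k)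
    (hfix : ∀ a b : α, a ≠ b → ∃ g ∈ G, g a = a ∧ g b ≠ b) (hb : b ≠ a₀) :
    (∑ d, cf F (orbMat G a₀ b) d = rowSum F (orbMat G a₀ b) + tw F (orbMat G a₀ b)) ∧
    (∑ d, cf F (orbMat G a₀ b) d ^ 2 =
      2 * (rowSum F (orbMat G a₀ b) - tw F (orbMat G a₀ b) ^ 2)) ∧
    ((∀ d, d ≠ 0 → cf F (orbMat G a₀ b) d = 1) ∨ (∀ d, d ≠ 0 → cf F (orbMat G a₀ b) d = 2) ∨
      ((∀ d, d ≠ 0 → cf F (orbMat G a₀ b) d = 0 ∨ cf F (orbMat G a₀ b) d = 2) ∧
        2 * (Finset.univ.filter (fun d => cf F (orbMat G a₀ b) d = 2)).card = p - 1)) := by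
  haveI : IsPretransitive G α := hG.toIsPretransitive
  have hA := P6_inv G a₀ b
  obtain ⟨h1, h2⟩ := Cfsg.Agent.Lib.Helper88_W2p_C4.C4 G F (fun k hk => (hMC k hk).1) _ hA
  have hp0 : (p : ℤ) ≠ 0 := by exact_mod_cast hp.out.ne_zero
  have h2' : ∑ d, cf F (orbMat G a₀ b) d ^ 2 =
      2 * (rowSum F (orbMat G a₀ b) - tw F (orbMat G a₀ b) ^ 2) := by
    rw [trace_orb G F a₀ b, cf_orb_zero G F a₀ b hb] at h2
    have h3 : (p : ℤ) * (2 * rowSum F (orbMat G a₀ b)) =
        p * (2 * tw F (orbMat G a₀ b) ^ 2 + ∑ d, cf F (orbMat G a₀ b) d ^ 2) := by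
      linear_combination h2
    have h4 := mul_left_cancel₀ hp0 h3
    linarith
  refine ⟨h1, h2', ?_⟩
  obtain ⟨H, -, hH, hc⟩ := Cfsg.Agent.Lib.Helper58_W2p_P3.P3 (cf F (orbMat G a₀ b))
    (fun k₀ => Cfsg.Agent.Lib.Helper24_W2p_C5.C5 G hG hFT F hMC _ hA k₀)
  have hn : (2 : ℤ) ≤ rowSum F (orbMat G a₀ b) := by
    rw [rowSum_orb G F a₀ b]
    exact_mod_cast two_le_orbit G a₀ b hfix hb
  exact Cfsg.Agent.Lib.Helper10_W2p_P4.P4_one hp2 _ _ _ H hH hc (cf_orb_zero G F a₀ b hb)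
    (cf_orb_bounds G F a₀ b) h1 h2' hn

end orbital

section glob

open Cfsg.Agent.Lib.Helper10_W2p_P6

variable {p : ℕ} [hp : Fact p.Prime] (G : Subgroup (Perm α)) (F : Frame G p) (a₀ : α)

/-- the orbital of the base point is the identity matrix -/
theorem orbMat_base [IsPretransitive G α] (ω ω' : α) :
    orbMat G a₀ a₀ ω ω' = if ω = ω' then 1 else 0 := by
  split_ifs with h
  · subst h
    obtain ⟨⟨g, hg⟩, hgω⟩ := exists_smul_eq G a₀ ω
    exact orbMat_eq_one G ⟨g, hg, hgω, hgω⟩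
  · apply orbMat_eq_zero
    rintro ⟨g, -, h1, h2⟩
    exact h (h1.symm.trans h2)

theorem out_base :
    (Quotient.mk'' a₀ : orbitRel.Quotient (stabilizer G a₀) α).out = a₀ :=
  (mk_eq_base_iff G a₀ _).mp (Quotient.out_eq' _)

theorem phi_ne (d : ZMod p) (hd : d ≠ 0) (a : Fin 2) : F.φ (0, a) ≠ F.φ (d, a) := by
  intro h
  have := F.φ.injective h
  simp only [Prod.mk.injEq, and_true] at this
  exact hd this.symm

variable [Fintype (orbitRel.Quotient (stabilizer G a₀) α)]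
  [DecidableEq (orbitRel.Quotient (stabilizer G a₀) α)]

/-- the local Fourier coefficients of the nondiagonal orbitals add up to `2` -/
theorem sum_cf [IsPretransitive G α] (d : ZMod p) (hd : d ≠ 0) :
    ∑ j : {q : orbitRel.Quotient (stabilizer G a₀) α // q ≠ Quotient.mk'' a₀},
      cf F (orbMat G a₀ j.1.out) d = 2 := by
  have h1 : ∑ q : orbitRel.Quotient (stabilizer G a₀) α, cf F (orbMat G a₀ q.out) d = 2 := by
    simp only [cf, Finset.sum_add_distrib, P6_part G a₀]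
    norm_num
  rw [Fintype.sum_eq_add_sum_subtype_ne _ (Quotient.mk'' a₀)] at h1
  rw [out_base G a₀] at h1
  simp only [cf, orbMat_base G a₀, if_neg (phi_ne G F d hd _), add_zero, zero_add] at h1
  exact h1

/-- the row sums of the nondiagonal orbitals add up to `2p - 1` -/
theorem sum_rowSum [IsPretransitive G α] :
    ∑ j : {q : orbitRel.Quotient (stabilizer G a₀) α // q ≠ Quotient.mk'' a₀},
      rowSum F (orbMat G a₀ j.1.out) = 2 * p - 1 := by
  have h1 : ∑ q : orbitRel.Quotient (stabilizer G a₀) α, rowSum F (orbMat G a₀ q.out) = 2 * p := by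
    simp only [rowSum]
    rw [Finset.sum_comm]
    simp only [P6_part G a₀, Finset.sum_const, Finset.card_univ, card_alpha G F]
    simp
  rw [Fintype.sum_eq_add_sum_subtype_ne _ (Quotient.mk'' a₀)] at h1
  rw [out_base G a₀] at h1
  have h2 : rowSum F (orbMat G a₀ a₀) = 1 := by
    simp only [rowSum, orbMat_base G a₀]
    simp
  rw [h2] at h1
  linarith

include F in
/-- a group that is not 2-transitive has at least two nondiagonal orbitals -/
theorem two_le_card [IsPretransitive G α] (h2 : ¬ IsMultiplyPretransitive G α 2) :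
    2 ≤ Fintype.card {q : orbitRel.Quotient (stabilizer G a₀) α // q ≠ Quotient.mk'' a₀} := by
  by_contra hcon
  have hle : Fintype.card {q : orbitRel.Quotient (stabilizer G a₀) α // q ≠ Quotient.mk'' a₀} ≤ 1 := by
    omega
  have hsub := Fintype.card_le_one_iff_subsingleton.mp hle
  have hcard : 1 < Fintype.card α := by
    rw [card_alpha G F]
    have := hp.out.two_le
    omega
  obtain ⟨b, hb⟩ := Fintype.exists_ne_of_one_lt_card hcard a₀
  have hjb : (Quotient.mk'' b : orbitRel.Quotient (stabilizer G a₀) α) ≠ Quotient.mk'' a₀ :=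
    fun h => hb ((mk_eq_base_iff G a₀ b).mp h)
  apply h2
  apply P6_two G a₀ (Quotient.mk'' b : orbitRel.Quotient (stabilizer G a₀) α).out
  intro ω ω' hne
  have h1 := P6_part G a₀ ω ω'
  rw [Fintype.sum_eq_add_sum_subtype_ne _ (Quotient.mk'' a₀), out_base G a₀, orbMat_base G a₀,
    if_neg hne, zero_add, Fintype.sum_subsingleton _ ⟨_, hjb⟩] at h1
  exact h1

theorem inv_mul (A B : Matrix α α ℤ) (hA : Inv G A) (hB : Inv G B) : Inv G (A * B) := by
  intro g hg i j
  simp only [Matrix.mul_apply]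
  rw [← Equiv.sum_comp g]
  exact Finset.sum_congr rfl fun k _ => by rw [hA g hg, hB g hg]

theorem sum_three {M : Type*} [AddCommMonoid M]
    (j j' : {q : orbitRel.Quotient (stabilizer G a₀) α // q ≠ Quotient.mk'' a₀})
    (hj' : j' ≠ j) (hun : ∀ y, y ≠ j → y = j')
    (f : orbitRel.Quotient (stabilizer G a₀) α → M) :
    ∑ q, f q = f (Quotient.mk'' a₀) + (f j.1 + f j'.1) := by
  have huniv : (Finset.univ :
      Finset {q : orbitRel.Quotient (stabilizer G a₀) α // q ≠ Quotient.mk'' a₀}) = {j, j'} := by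
    ext x
    simp only [Finset.mem_univ, Finset.mem_insert, Finset.mem_singleton, true_iff]
    by_cases hx : x = j
    · exact Or.inl hx
    · exact Or.inr (hun x hx)
  rw [Fintype.sum_eq_add_sum_subtype_ne _ (Quotient.mk'' a₀), huniv, Finset.sum_pair hj'.symm]

/-- in rank 3 the square of an orbital matrix is a combination of `1`, the all-ones matrix and
itself -/
theorem rank3 [IsPretransitive G α]
    (hJ : Fintype.card {q : orbitRel.Quotient (stabilizer G a₀) α // q ≠ Quotient.mk'' a₀} = 2)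
    (j : {q : orbitRel.Quotient (stabilizer G a₀) α // q ≠ Quotient.mk'' a₀}) :
    ∃ a b c : ℤ, orbMat G a₀ j.1.out * orbMat G a₀ j.1.out =
      a • (1 : Matrix α α ℤ) + b • (Matrix.of fun _ _ => (1 : ℤ)) + c • orbMat G a₀ j.1.out := by
  have hJ' := hJ
  rw [← Nat.card_eq_fintype_card, Nat.card_eq_two_iff' j] at hJ'
  obtain ⟨j', hj', hun⟩ := hJ'
  have hone : orbMat G a₀ a₀ = (1 : Matrix α α ℤ) := by
    ext ω ω'
    rw [orbMat_base G a₀, Matrix.one_apply]
  have hJm : orbMat G a₀ j'.1.out =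
      (Matrix.of fun _ _ => (1 : ℤ)) - 1 - orbMat G a₀ j.1.out := by
    ext ω ω'
    have h1 := P6_part G a₀ ω ω'
    rw [sum_three G a₀ j j' hj' hun, out_base G a₀, hone] at h1
    simp only [Matrix.sub_apply, Matrix.of_apply]
    linarith
  have hsp := P6_span G a₀ _ (inv_mul G _ _ (P6_inv G a₀ j.1.out) (P6_inv G a₀ j.1.out))
  rw [sum_three G a₀ j j' hj' hun, out_base G a₀, hone, hJm] at hsp
  set B := orbMat G a₀ j.1.out * orbMat G a₀ j.1.out with hB
  refine ⟨B a₀ a₀ - B a₀ j'.1.out, B a₀ j'.1.out, B a₀ j.1.out - B a₀ j'.1.out, ?_⟩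
  conv_lhs => rw [hsp]
  simp only [sub_smul, smul_sub]
  abel

/-- in rank 3 the local Fourier coefficients of an orbital are constant -/
theorem const_of_rank3 (hG : IsPreprimitive G α)
    (hFT : ∀ χ : G → ℂ, Cfsg.IsCharacter G χ → (∀ g : G, χ g = χ 1 → g = 1) →
      p ≤ 2 * Cfsg.charDegree χ + 1)
    (hMC : ∀ k : ZMod p, k ≠ 0 → Meets G F k ∧ ¬ Contains G F k) (b : α)
    (habc : ∃ a b' c : ℤ, orbMat G a₀ b * orbMat G a₀ b =
      a • (1 : Matrix α α ℤ) + b' • (Matrix.of fun _ _ => (1 : ℤ)) + c • orbMat G a₀ b)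
    (d : ZMod p) (hd : d ≠ 0) : cf F (orbMat G a₀ b) d = cf F (orbMat G a₀ b) 1 := by
  have : IsPretransitive G α := hG.toIsPretransitive
  have hA := P6_inv G a₀ b
  obtain ⟨a, b', c, habc⟩ := habc
  obtain ⟨H, hiff, -, hc⟩ := Cfsg.Agent.Lib.Helper58_W2p_P3.P3 (cf F (orbMat G a₀ b))
    (fun k₀ => Cfsg.Agent.Lib.Helper24_W2p_C5.C5 G hG hFT F hMC _ hA k₀)
  have hu : Units.mk0 d hd ∈ H := by
    rw [hiff]
    exact Cfsg.Agent.Lib.Helper24_W2p_C6.C6 G F hMC _ hA a b' c habc (Units.mk0 d hd)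
  have := hc _ hu 1
  rw [Units.val_mk0, mul_one] at this
  exact this

end glob

theorem final_arith (p t₁ t₂ n₁ n₂ : ℤ) (hp : 2 ≤ p) (h1 : p = 2 * t₁ ^ 2 + 2 * t₁ + 1)
    (hn1 : n₁ = p - 1 - t₁) (hn2 : n₂ = p - 1 - t₂) (ht : t₁ + t₂ = -1) :
    ∃ a : ℕ, 0 < a ∧ p = 2 * (a : ℤ) ^ 2 + 2 * a + 1 ∧
      (n₁ = a * (2 * a + 1) ∨ n₁ = (a + 1) * (2 * a + 1)) ∧
      (n₂ = a * (2 * a + 1) ∨ n₂ = (a + 1) * (2 * a + 1)) := by
  rcases le_or_gt 0 t₁ with h | h
  · refine ⟨t₁.toNat, ?_, ?_, ?_, ?_⟩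
    · have : t₁ ≠ 0 := by
        rintro rfl
        norm_num at h1
        omega
      omega
    · rw [Int.toNat_of_nonneg h]; exact h1
    · left; rw [Int.toNat_of_nonneg h, hn1, h1]; ring
    · right
      rw [Int.toNat_of_nonneg h, hn2, h1]
      have : t₂ = -1 - t₁ := by linarith
      rw [this]; ring
  · have h2 : 0 ≤ t₂ := by linarith
    have ht1 : t₁ = -1 - t₂ := by linarith
    refine ⟨t₂.toNat, ?_, ?_, ?_, ?_⟩
    · have : t₂ ≠ 0 := by
        rintro rfl
        rw [ht1] at h1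
        norm_num at h1
        omega
      omega
    · rw [Int.toNat_of_nonneg h2, h1, ht1]; ring
    · right; rw [Int.toNat_of_nonneg h2, hn1, h1, ht1]; ring
    · left; rw [Int.toNat_of_nonneg h2, hn2, h1, ht1]; ring

open Cfsg.Agent.Lib.Helper10_W2p_P6 in
/-- Wielandt's theorem on primitive groups of degree `2p`. -/
theorem main {α : Type*} [Fintype α] [DecidableEq α] {p : ℕ} (hp : p.Prime)
    (hα : Fintype.card α = 2 * p) (G : Subgroup (Equiv.Perm α))
    (hG : MulAction.IsPreprimitive G α) (a₀ : α) :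
    MulAction.IsMultiplyPretransitive G α 2 ∨
      (Nat.card (MulAction.orbitRel.Quotient (MulAction.stabilizer G a₀) α) = 3 ∧
        ∃ a : ℕ, 0 < a ∧ p = 2 * a ^ 2 + 2 * a + 1 ∧ ∀ b : α, b ≠ a₀ →
          Nat.card (MulAction.orbit (MulAction.stabilizer G a₀) b) = a * (2 * a + 1) ∨
          Nat.card (MulAction.orbit (MulAction.stabilizer G a₀) b) = (a + 1) * (2 * a + 1)) := by
  classical
  by_cases h2 : IsMultiplyPretransitive G α 2
  · exact Or.inl h2
  right
  haveI : Fact p.Prime := ⟨hp⟩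
  have : IsPretransitive G α := hG.toIsPretransitive
  obtain ⟨hp2, hdiv, hsq, hnn, hfpf, hfix⟩ := Cfsg.Agent.Lib.Helper94_W2p_P1.P1 hp hα G hG h2
  obtain ⟨x, hx⟩ := exists_prime_orderOf_dvd_card' p hdiv
  have hxo : orderOf (x : Perm α) = p := by rw [Subgroup.orderOf_coe]; exact hx
  obtain ⟨φ, hφ0, hφ⟩ :=
    Cfsg.Agent.Lib.Helper52_W2p_P8.P8 hα (x : Perm α) hxo (hfpf _ x.2 hxo) a₀
  let F : Frame G p := ⟨x, x.2, φ, hφ⟩
  have hFT : ∀ χ : G → ℂ, Cfsg.IsCharacter G χ → (∀ g : G, χ g = χ 1 → g = 1) →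
      p ≤ 2 * Cfsg.charDegree χ + 1 :=
    fun χ hχ hf => Cfsg.Agent.S4503.result p hp hdiv hsq hnn χ hχ hf
  have hMC : ∀ k : ZMod p, k ≠ 0 → Meets G F k ∧ ¬ Contains G F k := by
    intro k hk
    constructor
    · by_contra hM
      exact Cfsg.Agent.Lib.Helper65_W2p_C2.C2 G hG F
        (fun k' hk' hM' => hM ((Cfsg.Agent.Lib.Helper79_W2p_C1.C1 G F k' k hk' hk).1 hM'))
    · intro hC
      exact h2 (Cfsg.Agent.Lib.Helper79_W2p_C3.C3 G F
        (fun k' hk' => (Cfsg.Agent.Lib.Helper79_W2p_C1.C1 G F k k' hk hk').2 hC))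
  -- the nondiagonal orbitals
  have hcls := fun j : {q : orbitRel.Quotient (stabilizer G a₀) α // q ≠ Quotient.mk'' a₀} =>
    orbital_class G F a₀ j.1.out hp2 hG hFT hMC hfix (out_ne_base G a₀ j.1 j.2)
  have hc0 := fun j : {q : orbitRel.Quotient (stabilizer G a₀) α // q ≠ Quotient.mk'' a₀} =>
    cf_orb_zero G F a₀ j.1.out (out_ne_base G a₀ j.1 j.2)
  have hle : Fintype.card {q : orbitRel.Quotient (stabilizer G a₀) α // q ≠ Quotient.mk'' a₀} ≤ 2 :=
    Cfsg.Agent.Lib.Helper10_W2p_P4.P4_count hp2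
      (fun j => cf F (orbMat G a₀ j.1.out)) hc0 (fun j => (hcls j).2.2) (sum_cf G F a₀)
  have hJ : Fintype.card {q : orbitRel.Quotient (stabilizer G a₀) α // q ≠ Quotient.mk'' a₀} = 2 :=
    le_antisymm hle (two_le_card G F a₀ h2)
  have hQ : Nat.card (orbitRel.Quotient (stabilizer G a₀) α) = 3 := by
    rw [Nat.card_eq_fintype_card, Fintype.card_eq_sum_ones,
      Fintype.sum_eq_add_sum_subtype_ne _ (Quotient.mk'' a₀), ← Fintype.card_eq_sum_ones, hJ]
  refine ⟨hQ, ?_⟩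
  -- the two orbitals
  have hJ' := hJ
  rw [← Nat.card_eq_fintype_card, Nat.card_eq_two_iff] at hJ'
  obtain ⟨j₁, j₂, hne, huniv⟩ := hJ'
  have hall : ∀ j : {q : orbitRel.Quotient (stabilizer G a₀) α // q ≠ Quotient.mk'' a₀},
      j = j₁ ∨ j = j₂ := by
    intro j
    have : j ∈ ({j₁, j₂} : Set _) := by rw [huniv]; exact Set.mem_univ j
    simpa using this
  have hfin : (Finset.univ :
      Finset {q : orbitRel.Quotient (stabilizer G a₀) α // q ≠ Quotient.mk'' a₀}) = {j₁, j₂} := by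
    ext j
    simp only [Finset.mem_univ, Finset.mem_insert, Finset.mem_singleton, true_iff]
    exact hall j
  have hconst := fun j : {q : orbitRel.Quotient (stabilizer G a₀) α // q ≠ Quotient.mk'' a₀} =>
    const_of_rank3 G F a₀ hG hFT hMC j.1.out (rank3 G a₀ hJ j)
  have h1ne : (1 : ZMod p) ≠ 0 := by
    haveI : Fact (1 < p) := ⟨hp.one_lt⟩
    exact one_ne_zero
  -- an orbital with vanishing coefficients is impossible
  have hnz : ∀ j : {q : orbitRel.Quotient (stabilizer G a₀) α // q ≠ Quotient.mk'' a₀},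
      cf F (orbMat G a₀ j.1.out) 1 ≠ 0 := by
    intro j h0
    rcases (hcls j).2.2 with hg | hg | ⟨hw, hwc⟩
    · rw [hg 1 h1ne] at h0; norm_num at h0
    · rw [hg 1 h1ne] at h0; norm_num at h0
    · have hemp : Finset.univ.filter (fun d => cf F (orbMat G a₀ j.1.out) d = 2) = ∅ := by
        rw [Finset.filter_eq_empty_iff]
        intro d _ hd2
        by_cases hd : d = 0
        · rw [hd, hc0 j] at hd2; norm_num at hd2
        · rw [hconst j d hd, h0] at hd2; norm_num at hd2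
      rw [hemp, Finset.card_empty] at hwc
      have := hp.two_le
      omega
  have hs1 := sum_cf G F a₀ 1 h1ne
  rw [hfin, Finset.sum_pair hne] at hs1
  have hb1 := cf_orb_bounds G F a₀ j₁.1.out 1
  have hb2 := cf_orb_bounds G F a₀ j₂.1.out 1
  have hv1 : cf F (orbMat G a₀ j₁.1.out) 1 = 1 := by
    have := hnz j₁
    have := hnz j₂
    omega
  have hv2 : cf F (orbMat G a₀ j₂.1.out) 1 = 1 := by omega
  have hg1 := Cfsg.Agent.Lib.Helper10_W2p_P4.P4_good _ _ _ (hc0 j₁)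
    (fun d hd => (hconst j₁ d hd).trans hv1) (hcls j₁).1 (hcls j₁).2.1
  have hg2 := Cfsg.Agent.Lib.Helper10_W2p_P4.P4_good _ _ _ (hc0 j₂)
    (fun d hd => (hconst j₂ d hd).trans hv2) (hcls j₂).1 (hcls j₂).2.1
  have hsr := sum_rowSum G F a₀
  rw [hfin, Finset.sum_pair hne] at hsr
  have ht : tw F (orbMat G a₀ j₁.1.out) + tw F (orbMat G a₀ j₂.1.out) = -1 := by
    have := hg1.2
    have := hg2.2
    linarith
  obtain ⟨a, ha0, hpa, hn1, hn2⟩ := final_arith (p : ℤ) _ _ _ _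
    (by exact_mod_cast hp.two_le) hg1.1 hg1.2 hg2.2 ht
  refine ⟨a, ha0, by exact_mod_cast hpa, ?_⟩
  intro b hb
  have hjb : (Quotient.mk'' b : orbitRel.Quotient (stabilizer G a₀) α) ≠ Quotient.mk'' a₀ :=
    fun h => hb ((mk_eq_base_iff G a₀ b).mp h)
  have hcard : ∀ j : {q : orbitRel.Quotient (stabilizer G a₀) α // q ≠ Quotient.mk'' a₀},
      j.1 = Quotient.mk'' b →
      (Nat.card (orbit (stabilizer G a₀) b) : ℤ) = rowSum F (orbMat G a₀ j.1.out) := by
    intro j hj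
    rw [rowSum_orb G F a₀, hj, orbit_out]
  rcases hall ⟨_, hjb⟩ with h | h
  · have hc := hcard j₁ (by rw [← h])
    rcases hn1 with h' | h'
    · left
      have := hc.trans h'
      exact_mod_cast this
    · right
      have := hc.trans h'
      exact_mod_cast this
  · have hc := hcard j₂ (by rw [← h])
    rcases hn2 with h' | h'
    · left
      have := hc.trans h'
      exact_mod_cast this
    · right
      have := hc.trans h'
      exact_mod_cast this

end Cfsg.Agent.Lib.Helper12_W2pMain
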