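import Mathlib
import Cfsg.Agent.S1003
import Cfsg.Agent.Lib.Helper4_DihedralIso
import Cfsg.Agent.Lib.Helper33_Conj
import Cfsg.Agent.Lib.Helper33_Alperin

/-!
# Simple groups of order 168: local structure

Shared library for S1004--S1008 (helper33).  Everything is elementary Sylow counting on top of
`Cfsg.Agent.S1003` (`n₂ = 21`, `n₃ = 28`, `n₇ = 8`).
-/

set_option autoImplicit false

namespace Cfsg.Agent.Lib.Helper33_Order168

open Subgroup Cfsg.Agent.Lib.Helper17_Sylow Cfsg.Agent.S1003
open Cfsg.Agent.Lib.Helper33_Conj Cfsg.Agent.Lib.Helper33_Alperin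

/-! ### General lemmas -/

section General

variable {G : Type*} [Group G]

theorem centralizer_singleton_eq (x : G) :
    centralizer ({x} : Set G) = centralizer ((zpowers x : Subgroup G) : Set G) := by
  rw [zpowers_eq_closure, centralizer_closure]

theorem mem_centralizer_singleton {g k : G} : k ∈ centralizer ({g} : Set G) ↔ k * g = g * k :=
  mem_centralizer_singleton_iff

/-- A Sylow subgroup of prime order `p` whose normalizer has order `p * q` (`q` prime) in a simple
group which is not of order `p` is self-centralizing. -/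
theorem card_centralizer_sylow_eq [Finite G] [IsSimpleGroup G] {p q : ℕ} [hp : Fact p.Prime]
    (hq : q.Prime) (P : Sylow p G) (hP : Nat.card (P : Subgroup G) = p)
    (hN : Nat.card (normalizer ((P : Subgroup G) : Set G)) = p * q) (hne : Nat.card G ≠ p) :
    Nat.card (centralizer ((P : Subgroup G) : Set G)) = p := by
  have hcyc : IsCyclic (P : Subgroup G) := isCyclic_of_prime_card hP
  have hPC : (P : Subgroup G) ≤ centralizer ((P : Subgroup G) : Set G) :=
    le_centralizer_of_isCyclic _
  have hCN : centralizer ((P : Subgroup G) : Set G) ≤ normalizer ((P : Subgroup G) : Set G) :=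
    centralizer_le_normalizer _
  have h1 : p ∣ Nat.card (centralizer ((P : Subgroup G) : Set G)) := by
    have := card_dvd_of_le hPC
    rwa [hP] at this
  have h2 : Nat.card (centralizer ((P : Subgroup G) : Set G)) ∣ p * q := by
    have := card_dvd_of_le hCN
    rwa [hN] at this
  obtain ⟨c, hc⟩ := h1
  rw [hc] at h2
  have h3 : c ∣ q := Nat.dvd_of_mul_dvd_mul_left hp.out.pos h2
  rcases (Nat.dvd_prime hq).mp h3 with h4 | h4
  · rw [hc, h4, mul_one]
  · exfalso
    have hNC : normalizer ((P : Subgroup G) : Set G) ≤ centralizer ((P : Subgroup G) : Set G) := by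
      have := eq_of_le_of_card_ge hCN (by rw [hc, hN, h4])
      rw [this]
    rcases sylow_eq_bot_or_top_of_normalizer_le_centralizer P hNC with hb | hb
    · rw [hb, card_bot] at hP
      exact hp.out.one_lt.ne hP
    · rw [hb, card_top] at hP
      exact hne hP

/-- If `x` has prime order `p` and `|C(x)| = p` then no element has order `p * m` with `m > 1`:
if `p ∣ orderOf g` and `g ^ (orderOf g / p)` has centralizer of order `p` then `orderOf g = p`. -/
theorem orderOf_eq_of_card_centralizer [Finite G] {p : ℕ} (hp : p.Prime)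
    (hC : ∀ x : G, orderOf x = p → Nat.card (centralizer ({x} : Set G)) = p) (g : G)
    (hg : p ∣ orderOf g) : orderOf g = p := by
  obtain ⟨m, hm⟩ := hg
  have hpos : 0 < orderOf g := orderOf_pos g
  have hm0 : m ≠ 0 := by
    rintro rfl
    rw [mul_zero] at hm
    omega
  have hx : orderOf (g ^ m) = p := by
    rw [orderOf_pow_of_dvd hm0 ⟨p, by rw [hm, mul_comm]⟩, hm, Nat.mul_div_cancel _ (Nat.pos_of_ne_zero hm0)]
  have hmem : g ∈ centralizer ({g ^ m} : Set G) := by
    rw [mem_centralizer_singleton]
    exact (pow_mul_comm' g m).symm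
  have h1 := orderOf_dvd_natCard (⟨g, hmem⟩ : centralizer ({g ^ m} : Set G))
  rw [Subgroup.orderOf_mk, hC _ hx] at h1
  rcases (Nat.dvd_prime hp).mp h1 with h2 | h2
  · rw [h2] at hm
    have := hp.one_lt
    have : p * m = 1 := hm.symm
    have hp1 : p ∣ 1 := ⟨m, this.symm⟩
    exact absurd (Nat.dvd_one.mp hp1) hp.one_lt.ne'
  · exact h2

/-- A group in which every element squares to one is commutative (subgroup form). -/
theorem comm_of_sq_eq_one (T : Subgroup G) (h : ∀ t ∈ T, t * t = 1) (a b : G) (ha : a ∈ T)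
    (hb : b ∈ T) : a * b = b * a := by
  have h1 := h a ha
  have h2 := h b hb
  have h3 := h (a * b) (T.mul_mem ha hb)
  have ha' : a⁻¹ = a := inv_eq_of_mul_eq_one_right h1
  have hb' : b⁻¹ = b := inv_eq_of_mul_eq_one_right h2
  have : a * b = (a * b)⁻¹ := (inv_eq_of_mul_eq_one_right h3).symm
  rw [this, mul_inv_rev, ha', hb']

/-- Elements with a class of full size: if the conjugacy class of `x` has as many elements as there
are elements of order `orderOf x`, every element of that order is conjugate to `x`. -/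
theorem isConj_of_card_eq [Finite G] (x : G) (n : ℕ) (hx : orderOf x = n)
    (hc : Nat.card {g : G // orderOf g = n} ≤ Nat.card {g : G // IsConj x g}) (s : G)
    (hs : orderOf s = n) : IsConj x s := by
  let f : {g : G // IsConj x g} → {g : G // orderOf g = n} :=
    fun g => ⟨g.1, by rw [orderOf_of_isConj g.2, hx]⟩
  have hf : Function.Injective f := by
    intro a b hab
    apply Subtype.ext
    exact congrArg (fun t : {g : G // orderOf g = n} => t.1) hab
  have hbij := hf.bijective_of_nat_card_le hc
  obtain ⟨g, hg⟩ := hbij.2 ⟨s, hs⟩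
  have : g.1 = s := congrArg (fun t : {g : G // orderOf g = n} => t.1) hg
  rw [← this]
  exact g.2

theorem isConj_of_card_eq' [Finite G] (x : G) (n : ℕ) (hx : orderOf x = n)
    (hc : Nat.card {g : G // orderOf g = n} ≤ Nat.card {g : G // IsConj x g}) (s t : G)
    (hs : orderOf s = n) (ht : orderOf t = n) : IsConj s t :=
  (isConj_of_card_eq x n hx hc s hs).symm.trans (isConj_of_card_eq x n hx hc t ht)

end General

/-! ### Order 168: Sylow data, element orders, centralizers -/

section Order168

variable {G : Type*} [Group G] [Finite G] [IsSimpleGroup G]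

theorem card_sylow2 (h : Nat.card G = 168) (T : Sylow 2 G) : Nat.card (T : Subgroup G) = 8 := by
  have hG : Nat.card G = 2 ^ 3 * 21 := by rw [h]; norm_num
  simpa using card_sylow_eq_pow hG (by norm_num) T

theorem card_sylow3 (h : Nat.card G = 168) (Q : Sylow 3 G) : Nat.card (Q : Subgroup G) = 3 := by
  have hG : Nat.card G = 3 ^ 1 * 56 := by rw [h]; norm_num
  simpa using card_sylow_eq_pow hG (by norm_num) Q

theorem card_sylow7 (h : Nat.card G = 168) (P : Sylow 7 G) : Nat.card (P : Subgroup G) = 7 := by
  have hG : Nat.card G = 7 ^ 1 * 24 := by rw [h]; norm_num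
  simpa using card_sylow_eq_pow hG (by norm_num) P

theorem card_normalizer_sylow2 (h : Nat.card G = 168) (T : Sylow 2 G) :
    Nat.card (normalizer ((T : Subgroup G) : Set G)) = 8 := by
  have := card_normalizer_mul_card_sylow T
  rw [card_sylow_two h, h] at this
  omega

theorem card_normalizer_sylow3 (h : Nat.card G = 168) (Q : Sylow 3 G) :
    Nat.card (normalizer ((Q : Subgroup G) : Set G)) = 6 := by
  have := card_normalizer_mul_card_sylow Q
  rw [card_sylow_three h, h] at this
  omega

theorem card_normalizer_sylow7 (h : Nat.card G = 168) (P : Sylow 7 G) :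
    Nat.card (normalizer ((P : Subgroup G) : Set G)) = 21 := by
  have := card_normalizer_mul_card_sylow P
  rw [card_sylow_seven h, h] at this
  omega

theorem normalizer_sylow2 (h : Nat.card G = 168) (T : Sylow 2 G) :
    normalizer ((T : Subgroup G) : Set G) = T := by
  symm
  apply eq_of_le_of_card_ge le_normalizer
  rw [card_normalizer_sylow2 h, card_sylow2 h]

theorem card_centralizer_of_orderOf_seven (h : Nat.card G = 168) (x : G) (hx : orderOf x = 7) :
    Nat.card (centralizer ({x} : Set G)) = 7 := by
  obtain ⟨P, hP⟩ := exists_sylow_eq_zpowers (card_sylow7 h) x hx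
  rw [centralizer_singleton_eq, ← hP]
  exact card_centralizer_sylow_eq (q := 3) Nat.prime_three P (card_sylow7 h P)
    (card_normalizer_sylow7 h P) (by rw [h]; norm_num)

theorem card_centralizer_of_orderOf_three (h : Nat.card G = 168) (x : G) (hx : orderOf x = 3) :
    Nat.card (centralizer ({x} : Set G)) = 3 := by
  obtain ⟨P, hP⟩ := exists_sylow_eq_zpowers (card_sylow3 h) x hx
  rw [centralizer_singleton_eq, ← hP]
  exact card_centralizer_sylow_eq (q := 2) Nat.prime_two P (card_sylow3 h P)
    (card_normalizer_sylow3 h P) (by rw [h]; norm_num)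

omit [Finite G] [IsSimpleGroup G] in
theorem orderOf_dvd_168 (h : Nat.card G = 168) (g : G) : orderOf g ∣ 168 := by
  have := orderOf_dvd_natCard g
  rwa [h] at this

theorem orderOf_eq_three_of_dvd (h : Nat.card G = 168) (g : G) (hg : 3 ∣ orderOf g) :
    orderOf g = 3 :=
  orderOf_eq_of_card_centralizer Nat.prime_three (card_centralizer_of_orderOf_three h) g hg

theorem orderOf_eq_seven_of_dvd (h : Nat.card G = 168) (g : G) (hg : 7 ∣ orderOf g) :
    orderOf g = 7 :=
  orderOf_eq_of_card_centralizer (by norm_num) (card_centralizer_of_orderOf_seven h) g hg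

/-- A Sylow 2-subgroup is not abelian. -/
theorem sylow2_not_comm (h : Nat.card G = 168) (T : Sylow 2 G) :
    ∃ a ∈ (T : Subgroup G), ∃ b ∈ (T : Subgroup G), a * b ≠ b * a := by
  by_contra hcon
  push Not at hcon
  have hTC : (T : Subgroup G) ≤ centralizer ((T : Subgroup G) : Set G) := by
    intro x hx
    rw [mem_centralizer_iff]
    intro y hy
    exact hcon y hy x hx
  have hNC : normalizer ((T : Subgroup G) : Set G) ≤ centralizer ((T : Subgroup G) : Set G) := by
    rw [normalizer_sylow2 h T]
    exact hTC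
  have hc := card_sylow2 h T
  rcases sylow_eq_bot_or_top_of_normalizer_le_centralizer T hNC with hb | hb
  · rw [hb, card_bot] at hc
    omega
  · rw [hb, card_top, h] at hc
    omega

theorem orderOf_ne_eight (h : Nat.card G = 168) (g : G) : orderOf g ≠ 8 := by
  intro hg
  have hpg : IsPGroup 2 (zpowers g) :=
    IsPGroup.of_card (n := 3) (by rw [Nat.card_zpowers, hg]; norm_num)
  obtain ⟨T, hT⟩ := hpg.exists_le_sylow
  have hTeq : zpowers g = T :=
    eq_of_le_of_card_ge hT (by rw [card_sylow2 h, Nat.card_zpowers, hg])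
  obtain ⟨a, ha, b, hb, hab⟩ := sylow2_not_comm h T
  rw [← hTeq] at ha hb
  obtain ⟨i, rfl⟩ := mem_zpowers_iff.mp ha
  obtain ⟨j, rfl⟩ := mem_zpowers_iff.mp hb
  exact hab (zpow_mul_comm g i j)

/-- The element orders of a simple group of order 168. -/
theorem orderOf_mem (h : Nat.card G = 168) (g : G) :
    orderOf g = 1 ∨ orderOf g = 2 ∨ orderOf g = 3 ∨ orderOf g = 4 ∨ orderOf g = 7 := by
  have h1 := orderOf_dvd_168 h g
  have h3 := orderOf_eq_three_of_dvd h g
  have h7 := orderOf_eq_seven_of_dvd h g
  have h8 := orderOf_ne_eight h g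
  generalize orderOf g = d at *
  have hd : d ∈ Nat.divisors 168 := by simp [h1]
  have hdiv : Nat.divisors 168 = {1, 2, 3, 4, 6, 7, 8, 12, 14, 21, 24, 28, 42, 56, 84, 168} := by
    decide
  rw [hdiv] at hd
  simp only [Finset.mem_insert, Finset.mem_singleton] at hd
  rcases hd with rfl | rfl | rfl | rfl | rfl | rfl | rfl | rfl | rfl | rfl | rfl | rfl | rfl |
    rfl | rfl | rfl <;> omega

theorem orderOf_of_mem_sylow2 (h : Nat.card G = 168) (T : Sylow 2 G) (t : G)
    (ht : t ∈ (T : Subgroup G)) : orderOf t = 1 ∨ orderOf t = 2 ∨ orderOf t = 4 := by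
  have h1 := orderOf_dvd_natCard (⟨t, ht⟩ : (T : Subgroup G))
  rw [Subgroup.orderOf_mk, card_sylow2 h] at h1
  rcases orderOf_mem h t with h2 | h2 | h2 | h2 | h2
  · exact Or.inl h2
  · exact Or.inr (Or.inl h2)
  · rw [h2] at h1; norm_num at h1
  · exact Or.inr (Or.inr h2)
  · rw [h2] at h1; norm_num at h1

theorem not_dvd_card_centralizer (h : Nat.card G = 168) (t : G) (ht : orderOf t = 2) (p : ℕ)
    [hp : Fact p.Prime] (hp37 : p = 3 ∨ p = 7) : ¬ p ∣ Nat.card (centralizer ({t} : Set G)) := by
  intro hdvd
  obtain ⟨y, hy⟩ := exists_prime_orderOf_dvd_card' (G := centralizer ({t} : Set G)) p hdvd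
  have hy' : orderOf (y : G) = p := by rw [Subgroup.orderOf_coe, hy]
  have hcomm : Commute t (y : G) := by
    have := mem_centralizer_singleton.mp y.2
    exact this.symm
  have hp2 : p ≠ 2 := by rcases hp37 with rfl | rfl <;> norm_num
  have hcop : (orderOf t).Coprime (orderOf (y : G)) := by
    rw [ht, hy']
    exact (Nat.coprime_primes Nat.prime_two hp.out).mpr (Ne.symm hp2)
  have ho := hcomm.orderOf_mul_eq_mul_orderOf_of_coprime hcop
  rw [ht, hy'] at ho
  have := orderOf_mem h (t * y)
  rcases hp37 with rfl | rfl <;> omega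

/-- The centralizer of an involution is a 2-group. -/
theorem card_centralizer_dvd_eight (h : Nat.card G = 168) (t : G) (ht : orderOf t = 2) :
    Nat.card (centralizer ({t} : Set G)) ∣ 8 := by
  have h1 : Nat.card (centralizer ({t} : Set G)) ∣ 168 := by
    have := card_subgroup_dvd_card (centralizer ({t} : Set G))
    rwa [h] at this
  have h3 := not_dvd_card_centralizer h t ht 3 (Or.inl rfl)
  have h7 := not_dvd_card_centralizer h t ht 7 (Or.inr rfl)
  have hcop : (Nat.card (centralizer ({t} : Set G))).Coprime 21 := by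
    have : (21 : ℕ) = 3 * 7 := by norm_num
    rw [this]
    exact Nat.Coprime.mul_right
      ((Nat.Prime.coprime_iff_not_dvd Nat.prime_three).mpr h3).symm
      ((Nat.Prime.coprime_iff_not_dvd (by norm_num : Nat.Prime 7)).mpr h7).symm
  exact hcop.dvd_of_dvd_mul_right (by simpa using h1)

omit [Finite G] [IsSimpleGroup G] in
theorem orderOf_sq_of_four {u : G} (hu : orderOf u = 4) : orderOf (u ^ 2) = 2 := by
  rw [orderOf_pow_of_dvd (by norm_num) (by rw [hu]; norm_num), hu]

/-- The centralizer of an element of order 4 is a 2-group. -/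
theorem card_centralizer_dvd_eight' (h : Nat.card G = 168) (u : G) (hu : orderOf u = 4) :
    Nat.card (centralizer ({u} : Set G)) ∣ 8 := by
  have hle : centralizer ({u} : Set G) ≤ centralizer ({u ^ 2} : Set G) := by
    intro g hg
    rw [mem_centralizer_singleton] at *
    exact (Commute.pow_right (show Commute g u from hg) 2)
  exact (card_dvd_of_le hle).trans (card_centralizer_dvd_eight h _ (orderOf_sq_of_four hu))

/-- The centralizer of a nontrivial central element of a Sylow 2-subgroup `T` is `T`. -/
theorem centralizer_eq_sylow2 (h : Nat.card G = 168) (T : Sylow 2 G) (z : G)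
    (hz : z ∈ (T : Subgroup G)) (hz1 : z ≠ 1) (hzc : ∀ t ∈ (T : Subgroup G), t * z = z * t) :
    centralizer ({z} : Set G) = T := by
  have hle : (T : Subgroup G) ≤ centralizer ({z} : Set G) := by
    intro t ht
    rw [mem_centralizer_singleton]
    exact hzc t ht
  have hdvd : Nat.card (centralizer ({z} : Set G)) ∣ 8 := by
    rcases orderOf_of_mem_sylow2 h T z hz with h1 | h1 | h1
    · exact absurd (orderOf_eq_one_iff.mp h1) hz1
    · exact card_centralizer_dvd_eight h z h1
    · exact card_centralizer_dvd_eight' h z h1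
  symm
  apply eq_of_le_of_card_ge hle
  rw [card_sylow2 h]
  exact Nat.le_of_dvd (by norm_num) hdvd

end Order168

/-! ### Groups of order 8 with an element of order 4 -/

section Ord8

variable {G : Type*} [Group G] {T : Subgroup G} {u : G}

theorem mem_zpowers_cases (hu4 : orderOf u = 4) {x : G} (hx : x ∈ zpowers u) :
    x = 1 ∨ x = u ∨ x = u ^ 2 ∨ x = u⁻¹ := by
  obtain ⟨k, rfl⟩ := mem_zpowers_iff.mp hx
  rw [← zpow_mod_orderOf, hu4]
  have h0 : 0 ≤ k % 4 := Int.emod_nonneg k (by norm_num)
  have h4 : k % 4 < 4 := Int.emod_lt_of_pos k (by norm_num)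
  have hu4' : u ^ 4 = 1 := by rw [← hu4, pow_orderOf_eq_one]
  have h3 : u ^ (3 : ℤ) = u⁻¹ := by
    rw [eq_inv_iff_mul_eq_one]
    have : u ^ (3 : ℤ) * u = u ^ 4 := by
      rw [show (3 : ℤ) = ((3 : ℕ) : ℤ) by norm_num, zpow_natCast]
      exact (pow_succ u 3).symm
    rw [this, hu4']
  have hk : k % 4 = 0 ∨ k % 4 = 1 ∨ k % 4 = 2 ∨ k % 4 = 3 := by omega
  rcases hk with hk | hk | hk | hk
  · left; rw [Nat.cast_ofNat, hk, zpow_zero]
  · right; left; rw [Nat.cast_ofNat, hk, zpow_one]
  · right; right; left
    rw [Nat.cast_ofNat, hk, show (2 : ℤ) = ((2 : ℕ) : ℤ) by norm_num, zpow_natCast]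
  · right; right; right; rw [Nat.cast_ofNat, hk, h3]

theorem relIndex_zpowers (hT : Nat.card T = 8) (hu : u ∈ T) (hu4 : orderOf u = 4) :
    (zpowers u).relIndex T = 2 := by
  have h1 := card_mul_relIndex_of_le (show zpowers u ≤ T by rwa [zpowers_le])
  rw [Nat.card_zpowers, hu4, hT] at h1
  omega

/-- `T = ⟨u⟩ ∪ w⟨u⟩`. -/
theorem coset_cases (hT : Nat.card T = 8) (hu : u ∈ T) (hu4 : orderOf u = 4) {w t : G}
    (hw : w ∈ T) (hwu : w ∉ zpowers u) (ht : t ∈ T) : t ∈ zpowers u ∨ w⁻¹ * t ∈ zpowers u := by
  have h2 : ((zpowers u).subgroupOf T).index = 2 := relIndex_zpowers hT hu hu4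
  by_cases htu : t ∈ zpowers u
  · exact Or.inl htu
  · right
    have h3 := mul_mem_iff_of_index_two h2 (a := (⟨w⁻¹, T.inv_mem hw⟩ : T)) (b := (⟨t, ht⟩ : T))
    simp only [mem_subgroupOf, MulMemClass.mk_mul_mk] at h3
    rw [h3]
    constructor
    · intro h4
      exact absurd ((zpowers u).inv_mem_iff.mp h4) hwu
    · intro h4
      exact absurd h4 htu

theorem conj_mem_zpowers (hT : Nat.card T = 8) (hu : u ∈ T) (hu4 : orderOf u = 4) {t : G}
    (ht : t ∈ T) : t * u * t⁻¹ ∈ zpowers u := by
  have h2 : ((zpowers u).subgroupOf T).index = 2 := relIndex_zpowers hT hu hu4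
  have hn := normal_of_index_eq_two h2
  have := hn.conj_mem ⟨u, hu⟩ (by rw [mem_subgroupOf]; exact mem_zpowers u) ⟨t, ht⟩
  rw [mem_subgroupOf] at this
  exact this

theorem conj_eq_or (hT : Nat.card T = 8) (hu : u ∈ T) (hu4 : orderOf u = 4) {t : G}
    (ht : t ∈ T) : t * u * t⁻¹ = u ∨ t * u * t⁻¹ = u⁻¹ := by
  have h1 := conj_mem_zpowers hT hu hu4 ht
  have h2 : orderOf (t * u * t⁻¹) = 4 := by rw [orderOf_conj', hu4]
  rcases mem_zpowers_cases hu4 h1 with h3 | h3 | h3 | h3
  · rw [h3, orderOf_one] at h2; omega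
  · exact Or.inl h3
  · rw [h3, orderOf_pow_of_dvd (by norm_num) (by rw [hu4]; norm_num), hu4] at h2; omega
  · exact Or.inr h3

/-- `u ^ 2` is central in `T`. -/
theorem sq_central (hT : Nat.card T = 8) (hu : u ∈ T) (hu4 : orderOf u = 4) {t : G}
    (ht : t ∈ T) : t * u ^ 2 = u ^ 2 * t := by
  have hu4' : u ^ 4 = 1 := by rw [← hu4, pow_orderOf_eq_one]
  have h1 : t * u ^ 2 * t⁻¹ = (t * u * t⁻¹) ^ 2 := by
    rw [pow_two, pow_two]; group
  have h2 : t * u ^ 2 * t⁻¹ = u ^ 2 := by
    rw [h1]
    rcases conj_eq_or hT hu hu4 ht with h3 | h3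
    · rw [h3]
    · rw [h3, inv_pow, inv_eq_iff_mul_eq_one, ← pow_add, hu4']
  calc t * u ^ 2 = t * u ^ 2 * t⁻¹ * t := by group
    _ = u ^ 2 * t := by rw [h2]

/-- In a nonabelian group of order 8, elements outside `⟨u⟩` invert `u`. -/
theorem conj_eq_inv (hT : Nat.card T = 8) (hu : u ∈ T) (hu4 : orderOf u = 4)
    (hnc : ∃ a ∈ T, ∃ b ∈ T, a * b ≠ b * a) {w : G} (hw : w ∈ T) (hwu : w ∉ zpowers u) :
    w * u * w⁻¹ = u⁻¹ := by
  rcases conj_eq_or hT hu hu4 hw with h3 | h3
  · exfalso
    obtain ⟨a, ha, b, hb, hab⟩ := hnc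
    have hcomm : w * u = u * w := by
      calc w * u = w * u * w⁻¹ * w := by group
        _ = u * w := by rw [h3]
    have hc : IsMulCommutative (closure ({u, w} : Set G)) := by
      apply isMulCommutative_closure
      intro x hx y hy
      simp only [Set.mem_insert_iff, Set.mem_singleton_iff] at hx hy
      rcases hx with rfl | rfl <;> rcases hy with rfl | rfl
      · rfl
      · exact hcomm.symm
      · exact hcomm
      · rfl
    have hle : T ≤ closure ({u, w} : Set G) := by
      intro t ht
      have hu' : u ∈ closure ({u, w} : Set G) := subset_closure (by simp)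
      have hw' : w ∈ closure ({u, w} : Set G) := subset_closure (by simp)
      have hz : zpowers u ≤ closure ({u, w} : Set G) := by rwa [zpowers_le]
      rcases coset_cases hT hu hu4 hw hwu ht with h4 | h4
      · exact hz h4
      · have := (closure ({u, w} : Set G)).mul_mem hw' (hz h4)
        rwa [mul_inv_cancel_left] at this
    have := hc.is_comm.comm (⟨a, hle ha⟩ : closure ({u, w} : Set G)) ⟨b, hle hb⟩
    exact hab (congrArg Subtype.val this)
  · exact h3

end Ord8

/-! ### Counting elements -/

section Count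

variable {G : Type*} [Group G] [Finite G] [IsSimpleGroup G]

theorem card_orderOf_three (h : Nat.card G = 168) : Nat.card {g : G // orderOf g = 3} = 56 := by
  rw [card_orderOf_eq_prime (card_sylow3 h), card_sylow_three h]

theorem card_orderOf_seven (h : Nat.card G = 168) : Nat.card {g : G // orderOf g = 7} = 48 := by
  rw [card_orderOf_eq_prime (card_sylow7 h), card_sylow_seven h]

theorem card_two_add_card_four (h : Nat.card G = 168) :
    Nat.card {g : G // orderOf g = 2} + Nat.card {g : G // orderOf g = 4} = 63 := by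
  classical
  have := Fintype.ofFinite G
  have hS : ∀ g ∈ (Finset.univ : Finset G), orderOf g ∈ ({1, 2, 3, 4, 7} : Finset ℕ) := by
    intro g _
    have := orderOf_mem h g
    simp only [Finset.mem_insert, Finset.mem_singleton]
    exact this
  have h1 := Finset.card_eq_sum_card_fiberwise hS
  have h2 : ∀ a, (Finset.univ.filter (fun g : G => orderOf g = a)).card =
      Nat.card {g : G // orderOf g = a} := by
    intro a
    rw [Nat.card_eq_fintype_card, Fintype.card_subtype]
  simp only [h2] at h1
  rw [Finset.card_univ, ← Nat.card_eq_fintype_card, h] at h1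
  rw [Finset.sum_insert (by decide), Finset.sum_insert (by decide), Finset.sum_insert (by decide),
    Finset.sum_insert (by decide), Finset.sum_singleton,
    card_orderOf_eq_one, card_orderOf_three h, card_orderOf_seven h] at h1
  omega

end Count

/-! ### Involutions and elements of order 4 -/

section Invol

variable {G : Type*} [Group G] [Finite G] [IsSimpleGroup G]

/-- A Sylow 2-subgroup has a central involution. -/
theorem exists_central_involution (h : Nat.card G = 168) (T : Sylow 2 G) :
    ∃ z ∈ (T : Subgroup G), orderOf z = 2 ∧ ∀ t ∈ (T : Subgroup G), t * z = z * t := by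
  have hpg : IsPGroup 2 (T : Subgroup G) := T.isPGroup'
  have hnt : Nontrivial (T : Subgroup G) := by
    apply (Finite.one_lt_card_iff_nontrivial).mp
    rw [card_sylow2 h]
    norm_num
  have hcn := hpg.center_nontrivial
  obtain ⟨⟨c, hc⟩, hc1⟩ := exists_ne (1 : center (T : Subgroup G))
  have hc1' : (c : G) ≠ 1 := by
    intro h0
    apply hc1
    apply Subtype.ext
    apply Subtype.ext
    exact h0
  have hcc : ∀ t ∈ (T : Subgroup G), t * (c : G) = (c : G) * t := by
    intro t ht
    have := (mem_center_iff.mp hc) ⟨t, ht⟩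
    exact congrArg Subtype.val this
  rcases orderOf_of_mem_sylow2 h T c c.2 with h1 | h1 | h1
  · exact absurd (orderOf_eq_one_iff.mp h1) hc1'
  · exact ⟨c, c.2, h1, hcc⟩
  · refine ⟨(c : G) ^ 2, (T : Subgroup G).pow_mem c.2 2, orderOf_sq_of_four h1, ?_⟩
    intro t ht
    exact (Commute.pow_right (show Commute t (c : G) from hcc t ht) 2)

/-- A Sylow 2-subgroup has an element of order 4. -/
theorem exists_orderOf_four (h : Nat.card G = 168) (T : Sylow 2 G) :
    ∃ u ∈ (T : Subgroup G), orderOf u = 4 := by
  obtain ⟨a, ha, b, hb, hab⟩ := sylow2_not_comm h T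
  by_contra hcon
  push Not at hcon
  apply hab
  apply comm_of_sq_eq_one (T : Subgroup G) _ a b ha hb
  intro t ht
  rcases orderOf_of_mem_sylow2 h T t ht with h1 | h1 | h1
  · rw [orderOf_eq_one_iff.mp h1, mul_one]
  · rw [← pow_two, ← h1, pow_orderOf_eq_one]
  · exact absurd h1 (hcon t ht)

/-- The centralizer of an involution which is central in a Sylow 2-subgroup has 21 conjugates. -/
theorem card_conj_central_involution (h : Nat.card G = 168) (T : Sylow 2 G) (z : G)
    (hz : z ∈ (T : Subgroup G)) (hz1 : z ≠ 1) (hzc : ∀ t ∈ (T : Subgroup G), t * z = z * t) :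
    Nat.card {g : G // IsConj z g} = 21 := by
  have h1 := card_centralizer_mul_card_conj z
  rw [centralizer_eq_sylow2 h T z hz hz1 hzc, card_sylow2 h, h] at h1
  omega

/-- A subgroup of order 8 is a Sylow 2-subgroup. -/
theorem exists_sylow2_eq (h : Nat.card G = 168) (H : Subgroup G) (hH : Nat.card H = 8) :
    ∃ T : Sylow 2 G, (T : Subgroup G) = H := by
  have hpg : IsPGroup 2 H := IsPGroup.of_card (n := 3) (by rw [hH]; norm_num)
  obtain ⟨T, hT⟩ := hpg.exists_le_sylow
  exact ⟨T, (eq_of_le_of_card_ge hT (by rw [card_sylow2 h, hH])).symm⟩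

/-- The centralizer of an element of order 4 has order 4. -/
theorem card_centralizer_of_orderOf_four (h : Nat.card G = 168) (u : G) (hu : orderOf u = 4) :
    Nat.card (centralizer ({u} : Set G)) = 4 := by
  have h1 := card_centralizer_dvd_eight' h u hu
  have hle : zpowers u ≤ centralizer ({u} : Set G) := by
    rw [zpowers_le, mem_centralizer_singleton]
  have h2 : 4 ∣ Nat.card (centralizer ({u} : Set G)) := by
    have := card_dvd_of_le hle
    rwa [Nat.card_zpowers, hu] at this
  have h3 : Nat.card (centralizer ({u} : Set G)) = 4 ∨ Nat.card (centralizer ({u} : Set G)) = 8 := by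
    have hle8 := Nat.le_of_dvd (by norm_num) h1
    have hpos : 0 < Nat.card (centralizer ({u} : Set G)) := Nat.card_pos
    obtain ⟨c, hc⟩ := h2
    omega
  rcases h3 with h3 | h3
  · exact h3
  · exfalso
    obtain ⟨T, hT⟩ := exists_sylow2_eq h _ h3
    have huT : u ∈ (T : Subgroup G) := by rw [hT]; exact hle (mem_zpowers u)
    have hcT := card_sylow2 h T
    -- an element of `T` outside `⟨u⟩`
    have hex : ∃ w ∈ (T : Subgroup G), w ∉ zpowers u := by
      by_contra hcon
      push Not at hcon
      have hle' : (T : Subgroup G) ≤ zpowers u := hcon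
      have := Subgroup.card_le_of_le hle'
      rw [hcT, Nat.card_zpowers, hu] at this
      omega
    obtain ⟨w, hw, hwu⟩ := hex
    have h4 := conj_eq_inv hcT huT hu (sylow2_not_comm h T) hw hwu
    have h5 : w * u = u * w := by
      have : w ∈ centralizer ({u} : Set G) := by rw [← hT]; exact hw
      exact mem_centralizer_singleton.mp this
    have h6 : w * u * w⁻¹ = u := by rw [h5]; group
    rw [h6] at h4
    have h7 : u ^ 2 = 1 := by
      rw [pow_two]
      nth_rewrite 1 [h4]
      exact inv_mul_cancel u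
    have := orderOf_dvd_of_pow_eq_one h7
    rw [hu] at this
    norm_num at this

theorem card_conj_of_orderOf_four (h : Nat.card G = 168) (u : G) (hu : orderOf u = 4) :
    Nat.card {g : G // IsConj u g} = 42 := by
  have h1 := card_centralizer_mul_card_conj u
  rw [card_centralizer_of_orderOf_four h u hu, h] at h1
  omega

omit [IsSimpleGroup G] in
theorem card_conj_le_card_orderOf (x : G) :
    Nat.card {g : G // IsConj x g} ≤ Nat.card {g : G // orderOf g = orderOf x} := by
  apply Nat.card_le_card_of_injective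
    (fun g : {g : G // IsConj x g} => (⟨g.1, orderOf_of_isConj g.2⟩ : {g : G // orderOf g = orderOf x}))
  intro a b hab
  apply Subtype.ext
  exact congrArg (fun t : {g : G // orderOf g = orderOf x} => t.1) hab

theorem card_orderOf_two_and_four (h : Nat.card G = 168) :
    Nat.card {g : G // orderOf g = 2} = 21 ∧ Nat.card {g : G // orderOf g = 4} = 42 := by
  obtain ⟨T⟩ : Nonempty (Sylow 2 G) := inferInstance
  obtain ⟨z, hz, hz2, hzc⟩ := exists_central_involution h T
  obtain ⟨u, hu, hu4⟩ := exists_orderOf_four h T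
  have hz1 : z ≠ 1 := by
    rintro rfl
    rw [orderOf_one] at hz2
    omega
  have h1 := card_conj_le_card_orderOf z
  have h2 := card_conj_le_card_orderOf u
  rw [card_conj_central_involution h T z hz hz1 hzc, hz2] at h1
  rw [card_conj_of_orderOf_four h u hu4, hu4] at h2
  have h3 := card_two_add_card_four h
  omega

theorem card_orderOf_two (h : Nat.card G = 168) : Nat.card {g : G // orderOf g = 2} = 21 :=
  (card_orderOf_two_and_four h).1

theorem card_orderOf_four (h : Nat.card G = 168) : Nat.card {g : G // orderOf g = 4} = 42 :=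
  (card_orderOf_two_and_four h).2

theorem isConj_of_orderOf_four (h : Nat.card G = 168) (s t : G) (hs : orderOf s = 4)
    (ht : orderOf t = 4) : IsConj s t :=
  isConj_of_card_eq' s 4 hs (by rw [card_orderOf_four h, card_conj_of_orderOf_four h s hs]) s t hs ht

theorem isConj_of_orderOf_three (h : Nat.card G = 168) (s t : G) (hs : orderOf s = 3)
    (ht : orderOf t = 3) : IsConj s t := by
  apply isConj_of_card_eq' s 3 hs _ s t hs ht
  have h1 := card_centralizer_mul_card_conj s
  rw [card_centralizer_of_orderOf_three h s hs, h] at h1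
  rw [card_orderOf_three h]
  omega

theorem isConj_of_orderOf_two (h : Nat.card G = 168) (s t : G) (hs : orderOf s = 2)
    (ht : orderOf t = 2) : IsConj s t := by
  obtain ⟨T⟩ : Nonempty (Sylow 2 G) := inferInstance
  obtain ⟨z, hz, hz2, hzc⟩ := exists_central_involution h T
  have hz1 : z ≠ 1 := by
    rintro rfl
    rw [orderOf_one] at hz2
    omega
  exact isConj_of_card_eq' z 2 hz2
    (by rw [card_orderOf_two h, card_conj_central_involution h T z hz hz1 hzc]) s t hs ht

/-- The centralizer of every involution has order 8. -/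
theorem card_centralizer_of_orderOf_two (h : Nat.card G = 168) (t : G) (ht : orderOf t = 2) :
    Nat.card (centralizer ({t} : Set G)) = 8 := by
  have h1 := card_centralizer_mul_card_conj t
  have h2 : Nat.card {g : G // IsConj t g} = 21 := by
    apply le_antisymm
    · have := card_conj_le_card_orderOf t
      rwa [ht, card_orderOf_two h] at this
    · obtain ⟨T⟩ : Nonempty (Sylow 2 G) := inferInstance
      obtain ⟨z, hz, hz2, hzc⟩ := exists_central_involution h T
      have hz1 : z ≠ 1 := by
        rintro rfl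
        rw [orderOf_one] at hz2
        omega
      have hc := isConj_of_orderOf_two h z t hz2 ht
      rw [← card_conj_central_involution h T z hz hz1 hzc]
      apply Nat.card_le_card_of_injective
        (fun g : {g : G // IsConj z g} => (⟨g.1, hc.symm.trans g.2⟩ : {g : G // IsConj t g}))
      intro a b hab
      apply Subtype.ext
      exact congrArg (fun t' : {g : G // IsConj t g} => t'.1) hab
  rw [h2, h] at h1
  omega

end Invol

/-! ### Elements of order 7 -/

section Seven

variable {G : Type*} [Group G] [Finite G] [IsSimpleGroup G]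

theorem card_conj_of_orderOf_seven (h : Nat.card G = 168) (x : G) (hx : orderOf x = 7) :
    Nat.card {g : G // IsConj x g} = 24 := by
  have h1 := card_centralizer_mul_card_conj x
  rw [card_centralizer_of_orderOf_seven h x hx, h] at h1
  omega

/-- An element of order 7 is not conjugate to its inverse. -/
theorem not_isConj_inv_of_orderOf_seven (h : Nat.card G = 168) (x : G) (hx : orderOf x = 7) :
    ¬ IsConj x x⁻¹ := by
  intro hc
  obtain ⟨g, hg⟩ := isConj_iff.mp hc
  obtain ⟨P, hP⟩ := exists_sylow_eq_zpowers (card_sylow7 h) x hx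
  have hgN : g ∈ normalizer ((P : Subgroup G) : Set G) := by
    apply mem_normalizer_fintype
    intro n hn
    rw [SetLike.mem_coe, hP] at hn ⊢
    obtain ⟨k, rfl⟩ := mem_zpowers_iff.mp hn
    rw [← conj_zpow, hg]
    exact (zpowers x).zpow_mem ((zpowers x).inv_mem (mem_zpowers x)) k
  have hord : orderOf g ∣ 21 := by
    have := orderOf_dvd_natCard (⟨g, hgN⟩ : normalizer ((P : Subgroup G) : Set G))
    rwa [Subgroup.orderOf_mk, card_normalizer_sylow7 h P] at this
  have hg21 : g ^ 21 = 1 := orderOf_dvd_iff_pow_eq_one.mp hord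
  have h2 : Commute (g ^ 2) x := by
    have h3 : g ^ 2 * x * (g ^ 2)⁻¹ = x := by
      have : g ^ 2 * x * (g ^ 2)⁻¹ = g * (g * x * g⁻¹) * g⁻¹ := by
        rw [pow_two]; group
      rw [this, hg]
      have h4 : g * x⁻¹ * g⁻¹ = (g * x * g⁻¹)⁻¹ := by group
      rw [h4, hg, inv_inv]
    unfold Commute SemiconjBy
    calc g ^ 2 * x = g ^ 2 * x * (g ^ 2)⁻¹ * g ^ 2 := by group
      _ = x * g ^ 2 := by rw [h3]
  have h5 : Commute g x := by
    have : g = (g ^ 2) ^ 11 := by
      rw [← pow_mul, show 2 * 11 = 21 + 1 by norm_num, pow_succ, hg21, one_mul]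
    rw [this]
    exact h2.pow_left 11
  have h6 : g * x * g⁻¹ = x := by
    rw [h5.eq]; group
  rw [h6] at hg
  have h7 : x ^ 2 = 1 := by
    rw [pow_two]
    nth_rewrite 1 [hg]
    exact inv_mul_cancel x
  have := orderOf_dvd_of_pow_eq_one h7
  rw [hx] at this
  norm_num at this

end Seven

/-! ### Square roots of involutions -/

section Sqrt

variable {G : Type*} [Group G]

theorem orderOf_eq_four_of_sq {g z : G} (hz : orderOf z = 2) (hg : g ^ 2 = z) : orderOf g = 4 := by
  have h4 : g ^ 2 ^ (1 + 1) = 1 := by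
    rw [show 2 ^ (1 + 1) = 2 * 2 by norm_num, pow_mul, hg, ← hz, pow_orderOf_eq_one]
  have h2 : ¬ g ^ 2 ^ 1 = 1 := by
    rw [pow_one, hg]
    intro h
    rw [h, orderOf_one] at hz
    omega
  have := orderOf_eq_prime_pow h2 h4
  rw [this]
  norm_num

theorem card_sqrt_conj (z k : G) :
    Nat.card {g : G // g ^ 2 = k * z * k⁻¹} = Nat.card {g : G // g ^ 2 = z} := by
  apply Nat.card_congr
  refine
    { toFun := fun g => ⟨k⁻¹ * g.1 * k, ?_⟩
      invFun := fun g => ⟨k * g.1 * k⁻¹, ?_⟩
      left_inv := fun g => by apply Subtype.ext; simp only; group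
      right_inv := fun g => by apply Subtype.ext; simp only; group }
  · have : (k⁻¹ * g.1 * k) ^ 2 = k⁻¹ * g.1 ^ 2 * k := by
      rw [pow_two, pow_two]; group
    rw [this, g.2]; group
  · have : (k * g.1 * k⁻¹) ^ 2 = k * g.1 ^ 2 * k⁻¹ := by
      rw [pow_two, pow_two]; group
    rw [this, g.2]

variable [Finite G] [IsSimpleGroup G]

/-- Every involution has exactly two square roots. -/
theorem card_sqrt_involution (h : Nat.card G = 168) (z : G) (hz : orderOf z = 2) :
    Nat.card {g : G // g ^ 2 = z} = 2 := by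
  let f : {g : G // orderOf g = 4} → {g : G // orderOf g = 2} :=
    fun a => ⟨a.1 ^ 2, orderOf_sq_of_four a.2⟩
  have hf : ∀ b : {g : G // orderOf g = 2},
      Nat.card {a : {g : G // orderOf g = 4} // f a = b} = Nat.card {g : G // g ^ 2 = z} := by
    intro b
    obtain ⟨k, hk⟩ := isConj_iff.mp (isConj_of_orderOf_two h z b.1 hz b.2)
    rw [← card_sqrt_conj z k, hk]
    apply Nat.card_congr
    refine
      { toFun := fun a => ⟨a.1.1, ?_⟩
        invFun := fun g => ⟨⟨g.1, orderOf_eq_four_of_sq b.2 g.2⟩, ?_⟩
        left_inv := fun a => rfl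
        right_inv := fun g => rfl }
    · exact congrArg (fun t : {g : G // orderOf g = 2} => t.1) a.2
    · apply Subtype.ext
      exact g.2
  have h1 := card_eq_mul_of_fibers f _ hf
  rw [card_orderOf_four h, card_orderOf_two h] at h1
  omega

end Sqrt

/-! ### The Sylow 2-subgroups are dihedral -/

section Dihedral

variable {G : Type*} [Group G] [Finite G] [IsSimpleGroup G]

omit [IsSimpleGroup G] in
theorem exists_not_mem_zpowers {T : Subgroup G} (hT : Nat.card T = 8) {u : G} (hu4 : orderOf u = 4) :
    ∃ w ∈ T, w ∉ zpowers u := by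
  by_contra hcon
  push Not at hcon
  have hle' : T ≤ zpowers u := hcon
  have := Subgroup.card_le_of_le hle'
  rw [hT, Nat.card_zpowers, hu4] at this
  omega

/-- The elements of a Sylow 2-subgroup outside a cyclic subgroup of order 4 are involutions. -/
theorem sq_eq_one_of_not_mem_zpowers (h : Nat.card G = 168) (T : Sylow 2 G) {u w : G}
    (hu : u ∈ (T : Subgroup G)) (hu4 : orderOf u = 4) (hw : w ∈ (T : Subgroup G))
    (hwu : w ∉ zpowers u) : w ^ 2 = 1 := by
  rcases orderOf_of_mem_sylow2 h T w hw with h1 | h1 | h1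
  · rw [orderOf_eq_one_iff.mp h1, one_pow]
  · rw [← h1, pow_orderOf_eq_one]
  · exfalso
    have hcT := card_sylow2 h T
    have h2 : w ^ 2 ∈ zpowers u := by
      rcases coset_cases hcT hu hu4 hw hwu ((T : Subgroup G).pow_mem hw 2) with h3 | h3
      · exact h3
      · exfalso
        apply hwu
        have : w⁻¹ * w ^ 2 = w := by rw [pow_two]; group
        rwa [this] at h3
    have h3 : orderOf (w ^ 2) = 2 := orderOf_sq_of_four h1
    have h4 : w ^ 2 = u ^ 2 := by
      rcases mem_zpowers_cases hu4 h2 with h5 | h5 | h5 | h5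
      · rw [h5, orderOf_one] at h3; omega
      · rw [h5, hu4] at h3; omega
      · exact h5
      · rw [h5, orderOf_inv, hu4] at h3; omega
    have hu4' : u ^ 4 = 1 := by rw [← hu4, pow_orderOf_eq_one]
    have hc := card_sqrt_involution h (u ^ 2) (orderOf_sq_of_four hu4)
    have := Fintype.ofFinite {g : G // g ^ 2 = u ^ 2}
    rw [Nat.card_eq_fintype_card] at hc
    have h6 : 2 < Fintype.card {g : G // g ^ 2 = u ^ 2} := by
      rw [Fintype.two_lt_card_iff]
      have hinv : u⁻¹ ^ 2 = u ^ 2 := by
        rw [inv_pow, inv_eq_iff_mul_eq_one, ← pow_add, hu4']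
      refine ⟨⟨u, rfl⟩, ⟨u⁻¹, hinv⟩, ⟨w, h4⟩, ?_, ?_, ?_⟩
      · intro h7
        have h8 : u = u⁻¹ := congrArg Subtype.val h7
        have h9 : u ^ 2 = 1 := by
          rw [pow_two]
          nth_rewrite 1 [h8]
          exact inv_mul_cancel u
        have := orderOf_dvd_of_pow_eq_one h9
        rw [hu4] at this
        norm_num at this
      · intro h7
        have h8 : u = w := congrArg Subtype.val h7
        exact hwu (h8 ▸ mem_zpowers u)
      · intro h7
        have h8 : u⁻¹ = w := congrArg Subtype.val h7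
        exact hwu (h8 ▸ (zpowers u).inv_mem (mem_zpowers u))
    omega

/-- A Sylow 2-subgroup is dihedral of order 8. -/
theorem sylow2_iso_dihedral (h : Nat.card G = 168) (T : Sylow 2 G) :
    Nonempty (↥(T : Subgroup G) ≃* DihedralGroup 4) := by
  obtain ⟨u, hu, hu4⟩ := exists_orderOf_four h T
  have hcT := card_sylow2 h T
  obtain ⟨a, ha, hau⟩ := exists_not_mem_zpowers hcT hu4
  have ha2 : a * a = 1 := by
    rw [← pow_two]
    exact sq_eq_one_of_not_mem_zpowers h T hu hu4 ha hau
  have hau' : a * u ∉ zpowers u := by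
    intro hm
    apply hau
    have := (zpowers u).mul_mem hm ((zpowers u).inv_mem (mem_zpowers u))
    rwa [mul_inv_cancel_right] at this
  have hy2 : (a * u) * (a * u) = 1 := by
    rw [← pow_two]
    exact sq_eq_one_of_not_mem_zpowers h T hu hu4 ((T : Subgroup G).mul_mem ha hu) hau'
  have ha1 : a ≠ 1 := fun h1 => hau (h1 ▸ one_mem _)
  have hy1 : a * u ≠ 1 := fun h1 => hau' (h1 ▸ one_mem _)
  have hxy : a * (a * u) = u := by rw [← mul_assoc, ha2, one_mul]
  have e := Cfsg.Agent.Lib.Helper4_DihedralIso.dihedralEquiv ha2 hy2 ha1 hy1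
  have hcl : closure ({a, a * u} : Set G) = T := by
    apply eq_of_le_of_card_ge
    · rw [closure_le]
      intro x hx
      simp only [Set.mem_insert_iff, Set.mem_singleton_iff] at hx
      rcases hx with rfl | rfl
      · exact ha
      · exact (T : Subgroup G).mul_mem ha hu
    · rw [Cfsg.Agent.Lib.Helper4_DihedralIso.card_closure ha2 hy2 ha1 hy1, hxy, hu4, hcT]
  rw [hxy, hu4, hcl] at e
  exact ⟨e.symm⟩

end Dihedral

/-! ### Klein four-subgroups of a dihedral group of order 8 -/

section Klein

variable {G : Type*} [Group G]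

/-- Two distinct commuting involutions generate a Klein four-group. -/
theorem isKleinFour_closure_pair {z w : G} (hz : z * z = 1) (hw : w * w = 1) (hz1 : z ≠ 1)
    (hw1 : w ≠ 1) (hzw : z ≠ w) (hc : z * w = w * z) :
    IsKleinFour (closure ({z, w} : Set G)) := by
  have h2 : orderOf (z * w) = 2 := by
    apply orderOf_eq_prime
    · rw [pow_two]
      calc z * w * (z * w) = z * w * (w * z) := by rw [hc]
        _ = z * (w * w) * z := by group
        _ = 1 := by rw [hw, mul_one, hz]
    · intro h1
      apply hzw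
      have : z = w⁻¹ := eq_inv_of_mul_eq_one_left h1
      rw [this]
      exact inv_eq_of_mul_eq_one_right hw
  have e := Cfsg.Agent.Lib.Helper4_DihedralIso.dihedralEquiv hz hw hz1 hw1
  rw [h2] at e
  exact
    { card_four := by
        rw [← Nat.card_congr e.toEquiv]
        exact IsKleinFour.card_four
      exponent_two := by
        rw [← Monoid.exponent_eq_of_mulEquiv e]
        exact IsKleinFour.exponent_two }

theorem closure_pair_mul_eq (z w : G) :
    closure ({z, w * z} : Set G) = closure ({z, w} : Set G) := by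
  apply le_antisymm
  · rw [closure_le]
    intro x hx
    simp only [Set.mem_insert_iff, Set.mem_singleton_iff] at hx
    have hz' : z ∈ closure ({z, w} : Set G) := subset_closure (by simp)
    have hw' : w ∈ closure ({z, w} : Set G) := subset_closure (by simp)
    rcases hx with rfl | rfl
    · exact hz'
    · exact (closure ({z, w} : Set G)).mul_mem hw' hz'
  · rw [closure_le]
    intro x hx
    simp only [Set.mem_insert_iff, Set.mem_singleton_iff] at hx
    have hz' : z ∈ closure ({z, w * z} : Set G) := subset_closure (by simp)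
    have hw' : w * z ∈ closure ({z, w * z} : Set G) := subset_closure (by simp)
    rcases hx with h | h
    · rw [h]; exact hz'
    · have := (closure ({z, w * z} : Set G)).mul_mem hw' ((closure ({z, w * z} : Set G)).inv_mem hz')
      rw [mul_inv_cancel_right] at this
      rw [h]; exact this

theorem mul_self_of_mem_klein {U : Subgroup G} (hU : IsKleinFour U) {x : G} (hx : x ∈ U) :
    x * x = 1 := by
  have := IsKleinFour.mul_self (⟨x, hx⟩ : U)
  exact congrArg Subtype.val this

/-- Data describing a dihedral group of order 8 inside `G`. -/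
structure D8Data (T : Subgroup G) (u a : G) : Prop where
  card : Nat.card T = 8
  hu : u ∈ T
  hu4 : orderOf u = 4
  ha : a ∈ T
  hau : a ∉ zpowers u
  hinv : ∀ w ∈ T, w ∉ zpowers u → w ^ 2 = 1

namespace D8Data

variable {T : Subgroup G} {u a : G}

theorem pow_four (D : D8Data T u a) : u ^ 4 = 1 := by rw [← D.hu4, pow_orderOf_eq_one]

theorem sq_ne_one (D : D8Data T u a) : u ^ 2 ≠ 1 := by
  intro h
  have := orderOf_dvd_of_pow_eq_one h
  rw [D.hu4] at this
  norm_num at this

theorem sq_mul_sq (D : D8Data T u a) : u ^ 2 * u ^ 2 = 1 := by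
  rw [← pow_add]; exact D.pow_four

theorem sq_mem (D : D8Data T u a) : u ^ 2 ∈ T := T.pow_mem D.hu 2

theorem sq_not_outside (_D : D8Data T u a) {w : G} (hwu : w ∉ zpowers u) : u ^ 2 ≠ w := by
  rintro rfl
  exact hwu ((zpowers u).pow_mem (mem_zpowers u) 2)

/-- The only involution in `⟨u⟩` is `u ^ 2`. -/
theorem eq_sq_of_mem_zpowers (D : D8Data T u a) {x : G} (hx : x ∈ zpowers u) (hx2 : x * x = 1)
    (hx1 : x ≠ 1) : x = u ^ 2 := by
  rcases mem_zpowers_cases D.hu4 hx with h | h | h | h
  · exact absurd h hx1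
  · exfalso
    rw [h, ← pow_two] at hx2
    exact D.sq_ne_one hx2
  · exact h
  · exfalso
    rw [h, ← mul_inv_rev, inv_eq_one, ← pow_two] at hx2
    exact D.sq_ne_one hx2

theorem mul_self_outside (D : D8Data T u a) {w : G} (hw : w ∈ T) (hwu : w ∉ zpowers u) :
    w * w = 1 := by
  rw [← pow_two]; exact D.hinv w hw hwu

theorem ne_one_outside (_D : D8Data T u a) {w : G} (hwu : w ∉ zpowers u) : w ≠ 1 :=
  fun h => hwu (h ▸ one_mem _)

theorem mul_outside (_D : D8Data T u a) {w x : G} (hwu : w ∉ zpowers u) (hx : x ∈ zpowers u) :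
    w * x ∉ zpowers u := by
  intro hm
  apply hwu
  have := (zpowers u).mul_mem hm ((zpowers u).inv_mem hx)
  rwa [mul_inv_cancel_right] at this

/-- Elements outside `⟨u⟩` invert `u`. -/
theorem conj_eq_inv (D : D8Data T u a) {w : G} (hw : w ∈ T) (hwu : w ∉ zpowers u) :
    w * u * w⁻¹ = u⁻¹ := by
  have h1 := D.mul_self_outside hw hwu
  have h2 := D.mul_self_outside (T.mul_mem hw D.hu) (D.mul_outside hwu (mem_zpowers u))
  have h3 : w⁻¹ = w := inv_eq_of_mul_eq_one_right h1
  rw [h3]
  have h4 : w * u * w = (w * u * (w * u)) * u⁻¹ := by group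
  rw [h4, h2, one_mul]

theorem sq_comm (D : D8Data T u a) {t : G} (ht : t ∈ T) : t * u ^ 2 = u ^ 2 * t :=
  sq_central D.card D.hu D.hu4 ht

/-- The Klein four-group `⟨u², w⟩` for `w` outside `⟨u⟩`. -/
theorem isKleinFour_pair (D : D8Data T u a) {w : G} (hw : w ∈ T) (hwu : w ∉ zpowers u) :
    IsKleinFour (closure ({u ^ 2, w} : Set G)) :=
  isKleinFour_closure_pair D.sq_mul_sq (D.mul_self_outside hw hwu) D.sq_ne_one
    (D.ne_one_outside hwu) (D.sq_not_outside hwu) (D.sq_comm hw).symm

theorem pair_le (D : D8Data T u a) {w : G} (hw : w ∈ T) : closure ({u ^ 2, w} : Set G) ≤ T := by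
  rw [closure_le]
  intro x hx
  simp only [Set.mem_insert_iff, Set.mem_singleton_iff] at hx
  rcases hx with rfl | rfl
  · exact D.sq_mem
  · exact hw

/-- A Klein four-subgroup of `T` is not contained in `⟨u⟩`. -/
theorem exists_outside [Finite G] (D : D8Data T u a) {U : Subgroup G} (hU : IsKleinFour U) :
    ∃ w ∈ U, w ∉ zpowers u := by
  by_contra hcon
  push Not at hcon
  have hle : U ≤ zpowers u := hcon
  have heq : U = zpowers u := by
    apply eq_of_le_of_card_ge hle
    rw [Nat.card_zpowers, D.hu4, hU.card_four]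
  have huU : u ∈ U := by rw [heq]; exact mem_zpowers u
  have := mul_self_of_mem_klein hU huU
  rw [← pow_two] at this
  exact D.sq_ne_one this

/-- Every Klein four-subgroup of `T` contains `u ^ 2`. -/
theorem sq_mem_of_klein [Finite G] (D : D8Data T u a) {U : Subgroup G} (hUT : U ≤ T) (hU : IsKleinFour U) :
    u ^ 2 ∈ U := by
  obtain ⟨w, hw, hwu⟩ := D.exists_outside hU
  -- another nontrivial element
  have hex : ∃ v ∈ U, v ≠ 1 ∧ v ≠ w := by
    by_contra hcon
    push Not at hcon
    have := Fintype.ofFinite U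
    have hc : Fintype.card U = 4 := by rw [← Nat.card_eq_fintype_card]; exact hU.card_four
    have h2 : 2 < Fintype.card U := by omega
    rw [Fintype.two_lt_card_iff] at h2
    obtain ⟨x, y, t, hxy, hxt, hyt⟩ := h2
    have hx := hcon x.1 x.2
    have hy := hcon y.1 y.2
    have ht := hcon t.1 t.2
    have hxy' : x.1 ≠ y.1 := fun h => hxy (Subtype.ext h)
    have hxt' : x.1 ≠ t.1 := fun h => hxt (Subtype.ext h)
    have hyt' : y.1 ≠ t.1 := fun h => hyt (Subtype.ext h)
    by_cases h1 : x.1 = 1
    · by_cases h2 : y.1 = 1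
      · exact hxy' (h1.trans h2.symm)
      · by_cases h3 : t.1 = 1
        · exact hxt' (h1.trans h3.symm)
        · exact hyt' ((hy h2).trans (ht h3).symm)
    · by_cases h2 : y.1 = 1
      · by_cases h3 : t.1 = 1
        · exact hyt' (h2.trans h3.symm)
        · exact hxt' ((hx h1).trans (ht h3).symm)
      · exact hxy' ((hx h1).trans (hy h2).symm)
  obtain ⟨v, hv, hv1, hvw⟩ := hex
  by_cases hvu : v ∈ zpowers u
  · have := D.eq_sq_of_mem_zpowers hvu (mul_self_of_mem_klein hU hv) hv1
    rw [← this]; exact hv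
  · have h1 : w⁻¹ * v ∈ zpowers u := by
      rcases coset_cases D.card D.hu D.hu4 (hUT hw) hwu (hUT hv) with h2 | h2
      · exact absurd h2 hvu
      · exact h2
    have h2 : w⁻¹ * v ∈ U := U.mul_mem (U.inv_mem hw) hv
    have h3 : w⁻¹ * v ≠ 1 := by
      intro h4
      apply hvw
      have := eq_of_inv_mul_eq_one h4
      exact this.symm
    have := D.eq_sq_of_mem_zpowers h1 (mul_self_of_mem_klein hU h2) h3
    rw [← this]; exact h2

theorem klein_eq_pair [Finite G] (D : D8Data T u a) {U : Subgroup G} (hUT : U ≤ T) (hU : IsKleinFour U)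
    {w : G} (hw : w ∈ U) (hwu : w ∉ zpowers u) : U = closure ({u ^ 2, w} : Set G) := by
  symm
  apply eq_of_le_of_card_ge
  · rw [closure_le]
    intro x hx
    simp only [Set.mem_insert_iff, Set.mem_singleton_iff] at hx
    rcases hx with rfl | rfl
    · exact D.sq_mem_of_klein hUT hU
    · exact hw
  · rw [hU.card_four, (D.isKleinFour_pair (hUT hw) hwu).card_four]

theorem au_mem (D : D8Data T u a) : a * u ∈ T := T.mul_mem D.ha D.hu

theorem au_outside (D : D8Data T u a) : a * u ∉ zpowers u := D.mul_outside D.hau (mem_zpowers u)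

/-- The two Klein four-subgroups of `T`. -/
theorem klein_cases [Finite G] (D : D8Data T u a) {U : Subgroup G} (hUT : U ≤ T) (hU : IsKleinFour U) :
    U = closure ({u ^ 2, a} : Set G) ∨ U = closure ({u ^ 2, a * u} : Set G) := by
  obtain ⟨w, hw, hwu⟩ := D.exists_outside hU
  have h1 := D.klein_eq_pair hUT hU hw hwu
  have h2 : a⁻¹ * w ∈ zpowers u := by
    rcases coset_cases D.card D.hu D.hu4 D.ha D.hau (hUT hw) with h3 | h3
    · exact absurd h3 hwu
    · exact h3
  have hw' : w = a * (a⁻¹ * w) := by group
  have hinv : u⁻¹ = u * u ^ 2 := by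
    rw [inv_eq_iff_mul_eq_one, ← pow_succ', ← pow_succ']
    exact D.pow_four
  rcases mem_zpowers_cases D.hu4 h2 with h3 | h3 | h3 | h3
  · left
    rw [h3, mul_one] at hw'
    rw [h1, hw']
  · right
    rw [h3] at hw'
    rw [h1, hw']
  · left
    rw [h3] at hw'
    rw [h1, hw', closure_pair_mul_eq]
  · right
    rw [h3, hinv, ← mul_assoc] at hw'
    rw [h1, hw', closure_pair_mul_eq]

theorem klein_ne (D : D8Data T u a) :
    closure ({u ^ 2, a} : Set G) ≠ closure ({u ^ 2, a * u} : Set G) := by
  intro heq
  have h1 : a ∈ closure ({u ^ 2, a} : Set G) := subset_closure (by simp)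
  have h2 : a * u ∈ closure ({u ^ 2, a} : Set G) := by
    rw [heq]; exact subset_closure (by simp)
  have h3 : u ∈ closure ({u ^ 2, a} : Set G) := by
    have := (closure ({u ^ 2, a} : Set G)).mul_mem ((closure ({u ^ 2, a} : Set G)).inv_mem h1) h2
    rwa [inv_mul_cancel_left] at this
  have := mul_self_of_mem_klein (D.isKleinFour_pair D.ha D.hau) h3
  rw [← pow_two] at this
  exact D.sq_ne_one this

/-- `T` has exactly two Klein four-subgroups. -/
theorem card_klein [Finite G] (D : D8Data T u a) :
    Nat.card {U : Subgroup G // U ≤ T ∧ IsKleinFour ↥U} = 2 := by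
  rw [Nat.card_eq_two_iff]
  refine ⟨⟨closure ({u ^ 2, a} : Set G), D.pair_le D.ha, D.isKleinFour_pair D.ha D.hau⟩,
    ⟨closure ({u ^ 2, a * u} : Set G), D.pair_le D.au_mem, D.isKleinFour_pair D.au_mem D.au_outside⟩,
    ?_, ?_⟩
  · intro h
    exact D.klein_ne (congrArg Subtype.val h)
  · ext ⟨U, hUT, hU⟩
    simp only [Set.mem_insert_iff, Set.mem_singleton_iff, Set.mem_univ, iff_true, Subtype.mk.injEq]
    exact D.klein_cases hUT hU

/-- `T` normalizes its subgroups of order 4. -/
theorem le_normalizer_of_card_four (D : D8Data T u a) {U : Subgroup G} (hUT : U ≤ T)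
    (hU : Nat.card U = 4) : T ≤ normalizer (U : Set G) := by
  have hfin : Finite T := Nat.finite_of_card_ne_zero (by rw [D.card]; norm_num)
  have hpg : IsPGroup 2 T := IsPGroup.of_card (n := 3) (by rw [D.card]; norm_num)
  apply le_normalizer_of_relIndex_eq_prime T U hpg hUT
  have := card_mul_relIndex_of_le hUT
  rw [hU, D.card] at this
  omega

end D8Data

end Klein

/-! ### The Klein four-subgroups of a Sylow 2-subgroup are not conjugate -/

section KleinConj

variable {G : Type*} [Group G] [Finite G] [IsSimpleGroup G]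

theorem exists_d8Data (h : Nat.card G = 168) (T : Sylow 2 G) :
    ∃ u a, D8Data (T : Subgroup G) u a := by
  obtain ⟨u, hu, hu4⟩ := exists_orderOf_four h T
  obtain ⟨a, ha, hau⟩ := exists_not_mem_zpowers (card_sylow2 h T) hu4
  exact ⟨u, a, ⟨card_sylow2 h T, hu, hu4, ha, hau,
    fun w hw hwu => sq_eq_one_of_not_mem_zpowers h T hu hu4 hw hwu⟩⟩

theorem card_klein_sylow2 (h : Nat.card G = 168) (T : Sylow 2 G) :
    Nat.card {U : Subgroup G // U ≤ (T : Subgroup G) ∧ IsKleinFour ↥U} = 2 := by
  obtain ⟨u, a, D⟩ := exists_d8Data h T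
  exact D.card_klein

omit [IsSimpleGroup G] in
theorem index_sylow2 (h : Nat.card G = 168) (T : Sylow 2 G) : (T : Subgroup G).index = 21 := by
  have hG : Nat.card G = 2 ^ 3 * 21 := by rw [h]; norm_num
  exact index_sylow_eq hG (by norm_num) T

theorem not_two_dvd_relIndex (h : Nat.card G = 168) (T : Sylow 2 G) {N : Subgroup G}
    (hTN : (T : Subgroup G) ≤ N) : ¬ 2 ∣ (T : Subgroup G).relIndex N := by
  have h2 := Subgroup.relIndex_mul_index hTN
  rw [index_sylow2 h T] at h2
  intro h4
  have : 2 ∣ 21 := by
    rw [← h2]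
    exact Dvd.dvd.mul_right h4 _
  norm_num at this

/-- The two Klein four-subgroups of a Sylow 2-subgroup are not conjugate in `G`. -/
theorem klein_not_conj (h : Nat.card G = 168) (T : Sylow 2 G) (U W : Subgroup G)
    (hU : U ≤ (T : Subgroup G)) (hW : W ≤ (T : Subgroup G)) (hUk : IsKleinFour U)
    (hWk : IsKleinFour W) (hne : U ≠ W) (g : G) : U.map (MulAut.conj g).toMonoidHom ≠ W := by
  intro hg
  obtain ⟨u, a, D⟩ := exists_d8Data h T
  have hUn := D.le_normalizer_of_card_four hU hUk.card_four
  have hWn := D.le_normalizer_of_card_four hW hWk.card_four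
  have h1 : cj g (T : Subgroup G) ≤ normalizer (W : Set G) := by
    rw [← hg]
    have := cj_normalizer g U
    unfold cj at this
    rw [← this]
    exact cj_mono hUn
  obtain ⟨m, hm, hmle⟩ := exists_cj_le_of_relIndex hWn T.isPGroup' (not_two_dvd_relIndex h T hWn) h1
    (isPGroup_cj T.isPGroup')
  have h5 : cj (m * g) (T : Subgroup G) = T := by
    rw [cj_mul]
    apply eq_of_le_of_card_ge hmle
    rw [card_cj, card_cj]
  have h6 : m * g ∈ (T : Subgroup G) := by
    have h7 : m * g ∈ normalizer ((T : Subgroup G) : Set G) := mem_normalizer_iff_cj.mpr h5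
    rwa [normalizer_sylow2 h T] at h7
  have h7 : cj (m * g) U = U := mem_normalizer_iff_cj.mp (hUn h6)
  have h8 : cj (m * g) U = W := by
    rw [cj_mul]
    have : cj g U = W := hg
    rw [this]
    exact mem_normalizer_iff_cj.mp hm
  exact hne (h7.symm.trans h8)

end KleinConj

/-! ### Recognition of the symmetric group of degree 4 -/

section S4

variable {N : Type*} [Group N] [Finite N]

omit [Finite N] in
theorem comm_of_comm_eq_one {a b : N} (h : a * b * a⁻¹ * b⁻¹ = 1) : b * a = a * b := by
  have : a * b = (a * b * a⁻¹ * b⁻¹) * (b * a) := by group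
  rw [this, h, one_mul]

/-- Recognition of the symmetric group of degree 4: a group of order 24 with a self-centralizing
normal subgroup of order 4 and no element of order 6. -/
theorem nonempty_mulEquiv_perm_four (hN : Nat.card N = 24) (U : Subgroup N) [hUn : U.Normal]
    (hU : Nat.card U = 4) (hC : centralizer (U : Set N) ≤ U) (h6 : ∀ n : N, orderOf n ≠ 6) :
    Nonempty (N ≃* Equiv.Perm (Fin 4)) := by
  have hG : Nat.card N = 3 ^ 1 * 8 := by rw [hN]; norm_num
  have hm : ¬ 3 ∣ 8 := by norm_num
  have hS3 : ∀ P : Sylow 3 N, Nat.card (P : Subgroup N) = 3 := by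
    intro P
    simpa using card_sylow_eq_pow hG hm P
  obtain ⟨y, hy⟩ := exists_prime_orderOf_dvd_card' (G := N) 3 (by rw [hN]; norm_num)
  have h1 := card_sylow_mem_candidates hG hm
  have hc : sylowCandidates 3 8 = [1, 4] := by decide
  rw [hc] at h1
  simp only [List.mem_cons, List.not_mem_nil, or_false] at h1
  have h4 : Nat.card (Sylow 3 N) = 4 := by
    rcases h1 with h1 | h1
    · exfalso
      have hss : Subsingleton (Sylow 3 N) := (Nat.card_eq_one_iff_unique.mp h1).1
      obtain ⟨Q, hQ⟩ := exists_sylow_eq_zpowers hS3 y hy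
      have hQn : (Q : Subgroup N).Normal := Sylow.normal_of_subsingleton Q
      have hyQ : y ∈ (Q : Subgroup N) := by rw [hQ]; exact mem_zpowers y
      have hyC : y ∈ centralizer (U : Set N) := by
        rw [mem_centralizer_iff]
        intro v hv
        have hcU : y * v * y⁻¹ * v⁻¹ ∈ U := U.mul_mem (hUn.conj_mem v hv y) (U.inv_mem hv)
        have hcQ : y * v * y⁻¹ * v⁻¹ ∈ (Q : Subgroup N) := by
          have : y * v * y⁻¹ * v⁻¹ = y * (v * y⁻¹ * v⁻¹) := by group
          rw [this]
          exact (Q : Subgroup N).mul_mem hyQ (hQn.conj_mem _ ((Q : Subgroup N).inv_mem hyQ) v)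
        have := eq_one_of_mem_of_coprime _ _ (hS3 Q) hU (by norm_num) _ hcQ hcU
        exact comm_of_comm_eq_one this
      have hyU := hC hyC
      have := orderOf_dvd_natCard (⟨y, hyU⟩ : U)
      rw [Subgroup.orderOf_mk, hy, hU] at this
      norm_num at this
    · exact h1
  obtain ⟨φ, hφ⟩ : ∃ φ : N →* Equiv.Perm (Sylow 3 N), φ = MulAction.toPermHom N (Sylow 3 N) :=
    ⟨_, rfl⟩
  have hker : φ.ker = ⊥ := by
    have hKU : ∀ v, v ∈ φ.ker → v ∈ U → v = 1 := by
      intro v hvK hvU
      by_contra hv1
      obtain ⟨Q⟩ : Nonempty (Sylow 3 N) := inferInstance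
      have hKN : φ.ker ≤ normalizer ((Q : Subgroup N) : Set N) := by
        intro k hk
        rw [← smul_eq_iff_mem_normalizer']
        have h2 : φ k = 1 := MonoidHom.mem_ker.mp hk
        rw [hφ] at h2
        have h3 := congrArg (fun σ : Equiv.Perm (Sylow 3 N) => σ Q) h2
        exact h3
      have hNQ : Nat.card (normalizer ((Q : Subgroup N) : Set N)) = 6 := by
        have := card_normalizer_mul_card_sylow Q
        rw [h4, hN] at this
        omega
      have hcard : Nat.card (φ.ker ⊓ U : Subgroup N) = 2 := by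
        have d1 : Nat.card (φ.ker ⊓ U : Subgroup N) ∣ 6 := by
          have := card_dvd_of_le (inf_le_left.trans hKN : φ.ker ⊓ U ≤ _)
          rwa [hNQ] at this
        have d2 : Nat.card (φ.ker ⊓ U : Subgroup N) ∣ 4 := by
          have := card_dvd_of_le (inf_le_right : φ.ker ⊓ U ≤ U)
          rwa [hU] at this
        have d3 : Nat.card (φ.ker ⊓ U : Subgroup N) ∣ 2 := by
          have := Nat.dvd_gcd d1 d2
          simpa using this
        have hne : Nat.card (φ.ker ⊓ U : Subgroup N) ≠ 1 := by
          intro h1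
          rw [Subgroup.card_eq_one] at h1
          have : v ∈ (φ.ker ⊓ U : Subgroup N) := ⟨hvK, hvU⟩
          rw [h1] at this
          exact hv1 (mem_bot.mp this)
        rcases (Nat.dvd_prime Nat.prime_two).mp d3 with h | h
        · exact absurd h hne
        · exact h
      have hnorm : (φ.ker ⊓ U : Subgroup N).Normal := inferInstance
      have hcomm := commute_of_normal_of_card_eq_two (φ.ker ⊓ U) hcard v ⟨hvK, hvU⟩ y
      have hv2 : orderOf v = 2 := by
        have hvKU : v ∈ (φ.ker ⊓ U : Subgroup N) := ⟨hvK, hvU⟩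
        have := orderOf_dvd_natCard (⟨v, hvKU⟩ : (φ.ker ⊓ U : Subgroup N))
        rw [← Subgroup.orderOf_coe, hcard] at this
        simp only at this
        rcases (Nat.dvd_prime Nat.prime_two).mp this with h | h
        · exact absurd (orderOf_eq_one_iff.mp h) hv1
        · exact h
      have := hcomm.orderOf_mul_eq_mul_orderOf_of_coprime (by rw [hy, hv2]; norm_num)
      rw [hy, hv2] at this
      exact h6 _ this
    rw [eq_bot_iff]
    intro k hk
    rw [mem_bot]
    have hkC : k ∈ centralizer (U : Set N) := by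
      rw [mem_centralizer_iff]
      intro v hv
      have hcU : k * v * k⁻¹ * v⁻¹ ∈ U := U.mul_mem (hUn.conj_mem v hv k) (U.inv_mem hv)
      have hcK : k * v * k⁻¹ * v⁻¹ ∈ φ.ker := by
        have : k * v * k⁻¹ * v⁻¹ = k * (v * k⁻¹ * v⁻¹) := by group
        rw [this]
        exact φ.ker.mul_mem hk ((MonoidHom.normal_ker φ).conj_mem _ (φ.ker.inv_mem hk) v)
      exact comm_of_comm_eq_one (hKU _ hcK hcU)
    exact hKU k hk (hC hkC)
  have hinj : Function.Injective φ := (MonoidHom.ker_eq_bot_iff φ).mp hker
  have e4 : Sylow 3 N ≃ Fin 4 := Finite.equivFinOfCardEq h4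
  let ψ : N →* Equiv.Perm (Fin 4) := (Equiv.permCongrHom e4).toMonoidHom.comp φ
  have hψinj : Function.Injective ψ := (Equiv.permCongrHom e4).injective.comp hinj
  have hbij : Function.Bijective ψ := by
    apply hψinj.bijective_of_nat_card_le
    rw [hN, Nat.card_eq_fintype_card, Fintype.card_perm, Fintype.card_fin]
    decide
  exact ⟨MulEquiv.ofBijective ψ hbij⟩

end S4

/-! ### Normalizers of Klein four-subgroups -/

section KleinNorm

variable {G : Type*} [Group G] [Finite G] [IsSimpleGroup G]

omit [Finite G] [IsSimpleGroup G] in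
theorem comm_of_mem_klein {U : Subgroup G} (hU : IsKleinFour U) {x y : G} (hx : x ∈ U)
    (hy : y ∈ U) : x * y = y * x := by
  have := hU.isMulCommutative.is_comm.comm (⟨x, hx⟩ : U) ⟨y, hy⟩
  exact congrArg Subtype.val this

/-- A proper divisor-type bound: a subgroup of order dividing 8 and not 8 has order at most 4. -/
theorem le_four_of_dvd_eight {n : ℕ} (hd : n ∣ 8) (hne : n ≠ 8) : n ≤ 4 := by
  have h1 : n ∈ Nat.divisors 8 := by simp [hd]
  have h2 : Nat.divisors 8 = {1, 2, 4, 8} := by decide
  rw [h2] at h1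
  simp only [Finset.mem_insert, Finset.mem_singleton] at h1
  omega

/-- The structure around a Klein four-subgroup `U`: two distinct Sylow 2-subgroups `T'`, `T''`
containing `U`, with `T' ⊓ T'' = U`. -/
theorem klein_two_sylows (h : Nat.card G = 168) (U : Subgroup G) (hU : IsKleinFour U) :
    ∃ T' T'' : Sylow 2 G, U ≤ (T' : Subgroup G) ∧ U ≤ (T'' : Subgroup G) ∧
      (T' : Subgroup G) ≤ normalizer (U : Set G) ∧ (T'' : Subgroup G) ≤ normalizer (U : Set G) ∧
      (T' : Subgroup G) ⊓ T'' = U ∧ centralizer (U : Set G) ≤ U := by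
  have hpg : IsPGroup 2 U := IsPGroup.of_card (n := 2) (by rw [hU.card_four]; norm_num)
  obtain ⟨T', hUT'⟩ := hpg.exists_le_sylow
  obtain ⟨u, a₀, D⟩ := exists_d8Data h T'
  have hT'n := D.le_normalizer_of_card_four hUT' hU.card_four
  have hzU := D.sq_mem_of_klein hUT' hU
  obtain ⟨a, haU, hau⟩ := D.exists_outside hU
  have ha2 : orderOf a = 2 :=
    orderOf_eq_prime (by rw [pow_two]; exact mul_self_of_mem_klein hU haU) (D.ne_one_outside hau)
  obtain ⟨T'', hT''⟩ := exists_sylow2_eq h _ (card_centralizer_of_orderOf_two h a ha2)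
  have hUT'' : U ≤ (T'' : Subgroup G) := by
    rw [hT'']
    intro x hx
    rw [mem_centralizer_singleton]
    exact comm_of_mem_klein hU hx haU
  obtain ⟨u'', a'', D''⟩ := exists_d8Data h T''
  have hT''n := D''.le_normalizer_of_card_four hUT'' hU.card_four
  have huT'' : u ∉ (T'' : Subgroup G) := by
    rw [hT'', mem_centralizer_singleton]
    intro hc
    have h1 := D.conj_eq_inv (hUT' haU) hau
    have h2 : a * u * a⁻¹ = u := by rw [← hc]; group
    rw [h2] at h1
    have h3 : u ^ 2 = 1 := by
      rw [pow_two]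
      nth_rewrite 1 [h1]
      exact inv_mul_cancel u
    exact D.sq_ne_one h3
  have hle : U ≤ (T' : Subgroup G) ⊓ T'' := le_inf hUT' hUT''
  have hcard : Nat.card ((T' : Subgroup G) ⊓ T'' : Subgroup G) ≤ 4 := by
    apply le_four_of_dvd_eight
    · have := card_dvd_of_le (inf_le_left : (T' : Subgroup G) ⊓ T'' ≤ T')
      rwa [card_sylow2 h] at this
    · intro h8
      have h1 : (T' : Subgroup G) ⊓ T'' = T' :=
        eq_of_le_of_card_ge inf_le_left (by rw [h8, card_sylow2 h])
      apply huT''
      have h2 : (T' : Subgroup G) ≤ T'' := by rw [← h1]; exact inf_le_right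
      exact h2 D.hu
  have heq : U = (T' : Subgroup G) ⊓ T'' :=
    eq_of_le_of_card_ge hle (by rw [hU.card_four]; exact hcard)
  refine ⟨T', T'', hUT', hUT'', hT'n, hT''n, heq.symm, ?_⟩
  intro g hg
  rw [mem_centralizer_iff] at hg
  rw [heq]
  constructor
  · have h1 := centralizer_eq_sylow2 h T' (u ^ 2) D.sq_mem D.sq_ne_one (fun t ht => D.sq_comm ht)
    show g ∈ (T' : Subgroup G)
    rw [← h1, mem_centralizer_singleton]
    exact (hg _ hzU).symm
  · show g ∈ (T'' : Subgroup G)
    rw [hT'', mem_centralizer_singleton]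
    exact (hg _ haU).symm

/-- The normalizer of a Klein four-subgroup has order 24. -/
theorem card_normalizer_klein (h : Nat.card G = 168) (U : Subgroup G) (hU : IsKleinFour U) :
    Nat.card (normalizer (U : Set G)) = 24 := by
  obtain ⟨T', T'', hUT', hUT'', hT'n, hT''n, hinf, -⟩ := klein_two_sylows h U hU
  have h8 : 8 ∣ Nat.card (normalizer (U : Set G)) := by
    have := card_dvd_of_le hT'n
    rwa [card_sylow2 h] at this
  have hN168 : Nat.card (normalizer (U : Set G)) ∣ 168 := by
    have := card_subgroup_dvd_card (normalizer (U : Set G))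
    rwa [h] at this
  have hNne8 : Nat.card (normalizer (U : Set G)) ≠ 8 := by
    intro h8'
    have h1 : (T' : Subgroup G) = normalizer (U : Set G) :=
      eq_of_le_of_card_ge hT'n (by rw [h8', card_sylow2 h])
    have h2 : (T'' : Subgroup G) ≤ T' := by rw [h1]; exact hT''n
    have h3 : (T' : Subgroup G) ⊓ T'' = T'' := inf_eq_right.mpr h2
    rw [hinf] at h3
    have := hU.card_four
    rw [h3, card_sylow2 h] at this
    omega
  have hNne168 : Nat.card (normalizer (U : Set G)) ≠ 168 := by
    intro h168
    have h1 : normalizer (U : Set G) = ⊤ := by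
      apply eq_top_of_card_eq
      rw [h168, h]
    have hUn : U.Normal := normalizer_eq_top_iff.mp h1
    have := hU.card_four
    rcases hUn.eq_bot_or_eq_top with hb | hb
    · rw [hb, card_bot] at this; omega
    · rw [hb, card_top, h] at this; omega
  have hNne56 : Nat.card (normalizer (U : Set G)) ≠ 56 := by
    intro h56
    have hidx : (normalizer (U : Set G)).index = 3 := by
      have := (normalizer (U : Set G)).card_mul_index
      rw [h56, h] at this
      omega
    have hne : normalizer (U : Set G) ≠ ⊤ := by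
      intro ht
      rw [ht, card_top, h] at h56
      omega
    have := card_dvd_factorial_index _ hne
    rw [hidx, h] at this
    revert this
    decide
  obtain ⟨k, hk⟩ := h8
  rw [hk] at hN168 hNne8 hNne168 hNne56 ⊢
  have hk21 : k ∣ 21 := Nat.dvd_of_mul_dvd_mul_left (by norm_num : 0 < 8) (by simpa using hN168)
  have hk21' : k ∈ Nat.divisors 21 := by simp [hk21]
  have hd : Nat.divisors 21 = {1, 3, 7, 21} := by decide
  rw [hd] at hk21'
  simp only [Finset.mem_insert, Finset.mem_singleton] at hk21'
  omega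

/-- The normalizer of a Klein four-subgroup is isomorphic to the symmetric group of degree 4. -/
theorem normalizer_klein_iso (h : Nat.card G = 168) (U : Subgroup G) (hU : IsKleinFour U) :
    Nonempty (↥(normalizer (U : Set G)) ≃* Equiv.Perm (Fin 4)) := by
  obtain ⟨T', T'', hUT', hUT'', hT'n, hT''n, hinf, hC⟩ := klein_two_sylows h U hU
  have hnorm : (U.subgroupOf (normalizer (U : Set G))).Normal := normal_in_normalizer
  apply nonempty_mulEquiv_perm_four (card_normalizer_klein h U hU)
    (U.subgroupOf (normalizer (U : Set G)))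
  · rw [Nat.card_congr (subgroupOfEquivOfLe le_normalizer).toEquiv]
    exact hU.card_four
  · intro n hn
    rw [mem_subgroupOf]
    apply hC
    rw [mem_centralizer_iff] at hn ⊢
    intro v hv
    have := hn ⟨v, le_normalizer hv⟩ (by rw [SetLike.mem_coe, mem_subgroupOf]; exact hv)
    exact congrArg Subtype.val this
  · intro n
    rw [← Subgroup.orderOf_coe]
    have := orderOf_mem h (n : G)
    omega

end KleinNorm

/-! ### Groups of order 12 and 24 -/

section Abstract

variable {M : Type*} [Group M] [Finite M]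

theorem index_normalCore_dvd_six (S : Subgroup M) (hS : S.index = 3) : S.normalCore.index ∣ 6 := by
  rw [normalCore_eq_ker, index_ker]
  have := card_subgroup_dvd_card (MulAction.toPermHom M (M ⧸ S)).range
  rw [Nat.card_perm, ← index_eq_card, hS] at this
  exact this

/-- A group of order 12 without elements of order 6 has a normal subgroup of order 4. -/
theorem exists_normal_four_of_card_twelve (hM : Nat.card M = 12) (h6 : ∀ m : M, orderOf m ≠ 6) :
    ∃ K : Subgroup M, K.Normal ∧ Nat.card K = 4 := by
  have hG : Nat.card M = 2 ^ 2 * 3 := by rw [hM]; norm_num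
  obtain ⟨S⟩ : Nonempty (Sylow 2 M) := inferInstance
  have hS : Nat.card (S : Subgroup M) = 4 := by simpa using card_sylow_eq_pow hG (by norm_num) S
  have hSi : (S : Subgroup M).index = 3 := index_sylow_eq hG (by norm_num) S
  have h1 := index_normalCore_dvd_six _ hSi
  have h2 := (S : Subgroup M).normalCore.card_mul_index
  have h3 : Nat.card (S : Subgroup M).normalCore ∣ 4 := by
    have := card_dvd_of_le (normalCore_le (S : Subgroup M))
    rwa [hS] at this
  refine ⟨(S : Subgroup M).normalCore, normalCore_normal _, ?_⟩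
  have h4 : Nat.card (S : Subgroup M).normalCore ∈ Nat.divisors 4 := by simp [h3]
  have hd : Nat.divisors 4 = {1, 2, 4} := by decide
  rw [hd] at h4
  simp only [Finset.mem_insert, Finset.mem_singleton] at h4
  have h5 : (S : Subgroup M).normalCore.index ∈ Nat.divisors 6 := by simp [h1]
  have hd6 : Nat.divisors 6 = {1, 2, 3, 6} := by decide
  rw [hd6] at h5
  simp only [Finset.mem_insert, Finset.mem_singleton] at h5
  rw [hM] at h2
  rcases h4 with h4 | h4 | h4
  · rw [h4] at h2; omega
  · exfalso
    obtain ⟨y, hy⟩ := exists_prime_orderOf_dvd_card' (G := M) 3 (by rw [hM]; norm_num)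
    obtain ⟨k, hk⟩ := exists_prime_orderOf_dvd_card'
      (G := (S : Subgroup M).normalCore) 2 (by rw [h4])
    have hk' : orderOf (k : M) = 2 := by rw [Subgroup.orderOf_coe, hk]
    have hn : ((S : Subgroup M).normalCore).Normal := normalCore_normal _
    have hcomm := commute_of_normal_of_card_eq_two _ h4 (k : M) k.2 y
    have := hcomm.orderOf_mul_eq_mul_orderOf_of_coprime (by rw [hy, hk']; norm_num)
    rw [hy, hk'] at this
    exact h6 _ this
  · exact h4

/-- A group of order 24 without normal subgroups of order 8 has a normal subgroup of order 4. -/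
theorem exists_normal_four_of_card_twentyfour (hM : Nat.card M = 24)
    (h8 : ∀ K : Subgroup M, K.Normal → Nat.card K ≠ 8) :
    ∃ K : Subgroup M, K.Normal ∧ Nat.card K = 4 := by
  have hG : Nat.card M = 2 ^ 3 * 3 := by rw [hM]; norm_num
  obtain ⟨S⟩ : Nonempty (Sylow 2 M) := inferInstance
  have hS : Nat.card (S : Subgroup M) = 8 := by simpa using card_sylow_eq_pow hG (by norm_num) S
  have hSi : (S : Subgroup M).index = 3 := index_sylow_eq hG (by norm_num) S
  have h1 := index_normalCore_dvd_six _ hSi
  have h2 := (S : Subgroup M).normalCore.card_mul_index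
  have h3 : Nat.card (S : Subgroup M).normalCore ∣ 8 := by
    have := card_dvd_of_le (normalCore_le (S : Subgroup M))
    rwa [hS] at this
  refine ⟨(S : Subgroup M).normalCore, normalCore_normal _, ?_⟩
  have h4 : Nat.card (S : Subgroup M).normalCore ∈ Nat.divisors 8 := by simp [h3]
  have hd : Nat.divisors 8 = {1, 2, 4, 8} := by decide
  rw [hd] at h4
  simp only [Finset.mem_insert, Finset.mem_singleton] at h4
  have h5 : (S : Subgroup M).normalCore.index ∈ Nat.divisors 6 := by simp [h1]
  have hd6 : Nat.divisors 6 = {1, 2, 3, 6} := by decide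
  rw [hd6] at h5
  simp only [Finset.mem_insert, Finset.mem_singleton] at h5
  rw [hM] at h2
  have h8' := h8 _ (normalCore_normal (S : Subgroup M))
  rcases h4 with h4 | h4 | h4 | h4
  · rw [h4] at h2; omega
  · rw [h4] at h2; omega
  · exact h4
  · exact absurd h4 h8'

end Abstract

/-! ### Normalizers of Sylow 3-subgroups -/

section Abstract2

variable {N : Type*} [Group N] [Finite N]

/-- In a group of order 24 with a self-centralizing normal subgroup of order 4 there are four
Sylow 3-subgroups. -/
theorem card_sylow_three_eq_four (hN : Nat.card N = 24) (U : Subgroup N) [hUn : U.Normal]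
    (hU : Nat.card U = 4) (hC : centralizer (U : Set N) ≤ U) : Nat.card (Sylow 3 N) = 4 := by
  have hG : Nat.card N = 3 ^ 1 * 8 := by rw [hN]; norm_num
  have hm : ¬ 3 ∣ 8 := by norm_num
  have hS3 : ∀ P : Sylow 3 N, Nat.card (P : Subgroup N) = 3 := by
    intro P
    simpa using card_sylow_eq_pow hG hm P
  obtain ⟨y, hy⟩ := exists_prime_orderOf_dvd_card' (G := N) 3 (by rw [hN]; norm_num)
  have h1 := card_sylow_mem_candidates hG hm
  have hc : sylowCandidates 3 8 = [1, 4] := by decide
  rw [hc] at h1
  simp only [List.mem_cons, List.not_mem_nil, or_false] at h1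
  rcases h1 with h1 | h1
  · exfalso
    have hss : Subsingleton (Sylow 3 N) := (Nat.card_eq_one_iff_unique.mp h1).1
    obtain ⟨Q, hQ⟩ := exists_sylow_eq_zpowers hS3 y hy
    have hQn : (Q : Subgroup N).Normal := Sylow.normal_of_subsingleton Q
    have hyQ : y ∈ (Q : Subgroup N) := by rw [hQ]; exact mem_zpowers y
    have hyC : y ∈ centralizer (U : Set N) := by
      rw [mem_centralizer_iff]
      intro v hv
      have hcU : y * v * y⁻¹ * v⁻¹ ∈ U := U.mul_mem (hUn.conj_mem v hv y) (U.inv_mem hv)
      have hcQ : y * v * y⁻¹ * v⁻¹ ∈ (Q : Subgroup N) := by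
        have : y * v * y⁻¹ * v⁻¹ = y * (v * y⁻¹ * v⁻¹) := by group
        rw [this]
        exact (Q : Subgroup N).mul_mem hyQ (hQn.conj_mem _ ((Q : Subgroup N).inv_mem hyQ) v)
      have := eq_one_of_mem_of_coprime _ _ (hS3 Q) hU (by norm_num) _ hcQ hcU
      exact comm_of_comm_eq_one this
    have hyU := hC hyC
    have := orderOf_dvd_natCard (⟨y, hyU⟩ : U)
    rw [Subgroup.orderOf_mk, hy, hU] at this
    norm_num at this
  · exact h1

end Abstract2

section Sylow3Norm

variable {G : Type*} [Group G] [Finite G] [IsSimpleGroup G]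

omit [Finite G] [IsSimpleGroup G] in
theorem isKleinFour_cj {U : Subgroup G} (hU : IsKleinFour U) (g : G) : IsKleinFour (cj g U) := by
  have e : U ≃* cj g U := U.equivMapOfInjective _ (MulAut.conj g).injective
  exact ⟨by rw [← Nat.card_congr e.toEquiv]; exact hU.card_four,
    by rw [← Monoid.exponent_eq_of_mulEquiv e]; exact hU.exponent_two⟩

theorem exists_sylow3_eq (h : Nat.card G = 168) (H : Subgroup G) (hH : Nat.card H = 3) :
    ∃ Q : Sylow 3 G, (Q : Subgroup G) = H := by
  have hpg : IsPGroup 3 H := IsPGroup.of_card (n := 1) (by rw [hH]; norm_num)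
  obtain ⟨Q, hQ⟩ := hpg.exists_le_sylow
  exact ⟨Q, (eq_of_le_of_card_ge hQ (by rw [card_sylow3 h, hH])).symm⟩

theorem exists_klein (h : Nat.card G = 168) : ∃ U : Subgroup G, IsKleinFour U := by
  obtain ⟨T⟩ : Nonempty (Sylow 2 G) := inferInstance
  obtain ⟨u, a, D⟩ := exists_d8Data h T
  exact ⟨_, D.isKleinFour_pair D.ha D.hau⟩

/-- The normalizer of a Sylow 3-subgroup lies in the normalizer of a Klein four-subgroup. -/
theorem exists_klein_normalizer_sylow3_le (h : Nat.card G = 168) (Q : Sylow 3 G) :
    ∃ U : Subgroup G, IsKleinFour U ∧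
      normalizer ((Q : Subgroup G) : Set G) ≤ normalizer (U : Set G) := by
  obtain ⟨U₀, hU₀⟩ := exists_klein h
  obtain ⟨T', T'', hUT', hUT'', hT'n, hT''n, hinf, hC⟩ := klein_two_sylows h U₀ hU₀
  have hnorm : (U₀.subgroupOf (normalizer (U₀ : Set G))).Normal := normal_in_normalizer
  have hN := card_normalizer_klein h U₀ hU₀
  have h4 : Nat.card (Sylow 3 ↥(normalizer (U₀ : Set G))) = 4 := by
    apply card_sylow_three_eq_four hN (U₀.subgroupOf (normalizer (U₀ : Set G)))
    · rw [Nat.card_congr (subgroupOfEquivOfLe le_normalizer).toEquiv]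
      exact hU₀.card_four
    · intro n hn
      rw [mem_subgroupOf]
      apply hC
      rw [mem_centralizer_iff] at hn ⊢
      intro v hv
      have := hn ⟨v, le_normalizer hv⟩ (by rw [SetLike.mem_coe, mem_subgroupOf]; exact hv)
      exact congrArg Subtype.val this
  obtain ⟨Q'⟩ : Nonempty (Sylow 3 ↥(normalizer (U₀ : Set G))) := inferInstance
  have hG' : Nat.card ↥(normalizer (U₀ : Set G)) = 3 ^ 1 * 8 := by rw [hN]; norm_num
  have hQ'c : Nat.card (Q' : Subgroup ↥(normalizer (U₀ : Set G))) = 3 := by
    simpa using card_sylow_eq_pow hG' (by norm_num) Q'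
  have hNQ' : Nat.card (normalizer ((Q' : Subgroup ↥(normalizer (U₀ : Set G))) :
      Set ↥(normalizer (U₀ : Set G)))) = 6 := by
    have := card_normalizer_mul_card_sylow Q'
    rw [h4, hN] at this
    omega
  obtain ⟨Q₂, hQ₂⟩ := exists_sylow3_eq h
    ((Q' : Subgroup ↥(normalizer (U₀ : Set G))).map (normalizer (U₀ : Set G)).subtype)
    (by rw [card_subtype, hQ'c])
  have hle : (normalizer ((Q' : Subgroup ↥(normalizer (U₀ : Set G))) :
      Set ↥(normalizer (U₀ : Set G)))).map (normalizer (U₀ : Set G)).subtype ≤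
      normalizer ((Q₂ : Subgroup G) : Set G) := by
    rw [hQ₂]
    exact le_normalizer_map _
  have heq : (normalizer ((Q' : Subgroup ↥(normalizer (U₀ : Set G))) :
      Set ↥(normalizer (U₀ : Set G)))).map (normalizer (U₀ : Set G)).subtype =
      normalizer ((Q₂ : Subgroup G) : Set G) := by
    apply eq_of_le_of_card_ge hle
    rw [card_subtype, hNQ', card_normalizer_sylow3 h]
  have hQ₂N : normalizer ((Q₂ : Subgroup G) : Set G) ≤ normalizer (U₀ : Set G) := by
    rw [← heq]
    exact map_subtype_le _
  obtain ⟨g, hg⟩ := sylow_cj_eq Q₂ Q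
  refine ⟨cj g U₀, isKleinFour_cj hU₀ g, ?_⟩
  rw [hg, ← cj_normalizer, ← cj_normalizer]
  exact cj_mono hQ₂N

end Sylow3Norm

/-! ### Proper subgroups -/

section Maximal

variable {G : Type*} [Group G] [Finite G] [IsSimpleGroup G]

omit [Finite G] [IsSimpleGroup G] in
theorem le_normalizer_map_subtype (M : Subgroup G) (K : Subgroup M) [hK : K.Normal] :
    M ≤ normalizer ((K.map M.subtype : Subgroup G) : Set G) := by
  have h1 := le_normalizer_map (H := K) M.subtype
  rw [normalizer_eq_top_iff.mpr hK, ← MonoidHom.range_eq_map, M.range_subtype] at h1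
  exact h1

/-- A subgroup of order 4 whose normalizer has more than 8 elements is a Klein four-group. -/
theorem isKleinFour_of_card_four (h : Nat.card G = 168) (U : Subgroup G) (hU : Nat.card U = 4)
    (hN : 8 < Nat.card (normalizer (U : Set G))) : IsKleinFour U := by
  have hno4 : ∀ v ∈ U, orderOf v ≠ 4 := by
    intro v hv hv4
    have hUeq : U = zpowers v := by
      symm
      apply eq_of_le_of_card_ge (by rwa [zpowers_le])
      rw [hU, Nat.card_zpowers, hv4]
    have hcyc : IsCyclic U := by rw [hUeq]; infer_instance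
    have h1 := relIndex_centralizer_normalizer_dvd U
    rw [IsCyclic.card_mulAut, hU] at h1
    have h2 := card_mul_relIndex_of_le (centralizer_le_normalizer (U : Set G))
    have h3 : Nat.card (centralizer (U : Set G)) = 4 := by
      rw [hUeq, ← centralizer_singleton_eq]
      exact card_centralizer_of_orderOf_four h v hv4
    rw [h3] at h2
    have h4 : Nat.totient 4 = 2 := by decide
    rw [h4] at h1
    have h5 := Nat.le_of_dvd (by norm_num) h1
    nlinarith
  have hnt : Nontrivial U := by
    apply (Finite.one_lt_card_iff_nontrivial).mp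
    rw [hU]
    norm_num
  refine ⟨hU, ?_⟩
  rw [Monoid.exponent_eq_prime_iff Nat.prime_two]
  intro g hg1
  have h1 := orderOf_dvd_natCard g
  rw [hU] at h1
  have h2 : orderOf g ∈ Nat.divisors 4 := by simp [h1]
  have hd : Nat.divisors 4 = {1, 2, 4} := by decide
  rw [hd] at h2
  simp only [Finset.mem_insert, Finset.mem_singleton] at h2
  rcases h2 with h2 | h2 | h2
  · exact absurd (orderOf_eq_one_iff.mp h2) hg1
  · exact h2
  · exfalso
    apply hno4 (g : G) g.2
    rw [Subgroup.orderOf_coe, h2]

/-- A proper subgroup of order divisible by 7 normalizes a Sylow 7-subgroup. -/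
theorem le_normalizer_sylow7 (h : Nat.card G = 168) (M : Subgroup G) (hM : M ≠ ⊤)
    (h7 : 7 ∣ Nat.card M) : ∃ P : Sylow 7 G, M ≤ normalizer ((P : Subgroup G) : Set G) := by
  obtain ⟨x, hx⟩ := exists_prime_orderOf_dvd_card' (G := M) 7 h7
  have hx' : orderOf (x : G) = 7 := by rw [Subgroup.orderOf_coe, hx]
  obtain ⟨P, hP⟩ := exists_sylow_eq_zpowers (card_sylow7 h) (x : G) hx'
  have hPM : (P : Subgroup G) ≤ M := by rw [hP, zpowers_le]; exact x.2
  refine ⟨P, ?_⟩
  intro m hm
  rw [← smul_eq_iff_mem_normalizer']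
  by_contra hne
  have hmP : ((m • P : Sylow 7 G) : Subgroup G) ≤ M := by
    intro y hy
    rw [mem_smul_sylow] at hy
    have h1 := hPM hy
    have h2 : y = m * (m⁻¹ * y * m) * m⁻¹ := by group
    rw [h2]
    exact M.mul_mem (M.mul_mem hm h1) (M.inv_mem hm)
  obtain ⟨n, hn1, -, hn3⟩ := succ_mul_card_sylow_le_card (m • P) P hne M hmP hPM
  have hidx := index_gt_of_not_dvd_factorial M hM 6 (by rw [h]; decide)
  have hci := M.card_mul_index
  rw [h] at hci
  have hle := Nat.le_of_dvd Nat.card_pos hn3
  rw [card_sylow7 h] at hle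
  nlinarith

/-- A 2-subgroup normalizes a Klein four-subgroup. -/
theorem le_normalizer_klein_of_two_group (h : Nat.card G = 168) (M : Subgroup G)
    (hM : Nat.card M ∣ 8) : ∃ U : Subgroup G, IsKleinFour U ∧ M ≤ normalizer (U : Set G) := by
  obtain ⟨j, -, hj⟩ := (Nat.dvd_prime_pow Nat.prime_two (m := 3)).mp hM
  have hpg : IsPGroup 2 M := IsPGroup.of_card hj
  obtain ⟨T, hT⟩ := hpg.exists_le_sylow
  obtain ⟨u, a, D⟩ := exists_d8Data h T
  have hk := D.isKleinFour_pair D.ha D.hau
  exact ⟨_, hk, hT.trans (D.le_normalizer_of_card_four (D.pair_le D.ha) hk.card_four)⟩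

/-- Every proper subgroup lies in the normalizer of a Sylow 7-subgroup or of a Klein
four-subgroup. -/
theorem proper_subgroup_cases (h : Nat.card G = 168) (M : Subgroup G) (hM : M ≠ ⊤) :
    (∃ P : Sylow 7 G, M ≤ normalizer ((P : Subgroup G) : Set G)) ∨
      ∃ U : Subgroup G, IsKleinFour U ∧ M ≤ normalizer (U : Set G) := by
  by_cases h7 : 7 ∣ Nat.card M
  · exact Or.inl (le_normalizer_sylow7 h M hM h7)
  · right
    have h168 : Nat.card M ∣ 24 * 7 := by
      have := card_subgroup_dvd_card M
      rwa [h] at this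
    have hcop : (Nat.card M).Coprime 7 :=
      ((Nat.Prime.coprime_iff_not_dvd (by norm_num : Nat.Prime 7)).mpr h7).symm
    have h24 : Nat.card M ∣ 24 := hcop.dvd_of_dvd_mul_right h168
    have h24' : Nat.card M ∈ Nat.divisors 24 := by simp [h24]
    have hd : Nat.divisors 24 = {1, 2, 3, 4, 6, 8, 12, 24} := by decide
    rw [hd] at h24'
    simp only [Finset.mem_insert, Finset.mem_singleton] at h24'
    have h3case : ∀ Q : Sylow 3 G, M ≤ normalizer ((Q : Subgroup G) : Set G) →
        ∃ U : Subgroup G, IsKleinFour U ∧ M ≤ normalizer (U : Set G) := by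
      intro Q hMQ
      obtain ⟨U, hU, hQU⟩ := exists_klein_normalizer_sylow3_le h Q
      exact ⟨U, hU, hMQ.trans hQU⟩
    have hno6 : ∀ m : M, orderOf m ≠ 6 := by
      intro m
      rw [← Subgroup.orderOf_coe]
      have := orderOf_mem h (m : G)
      omega
    rcases h24' with hc | hc | hc | hc | hc | hc | hc | hc
    · exact le_normalizer_klein_of_two_group h M (by rw [hc]; norm_num)
    · exact le_normalizer_klein_of_two_group h M (by rw [hc]; norm_num)
    · obtain ⟨Q, hQ⟩ := exists_sylow3_eq h M hc
      apply h3case Q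
      rw [hQ]
      exact le_normalizer
    · exact le_normalizer_klein_of_two_group h M (by rw [hc]; norm_num)
    · obtain ⟨y, hy⟩ := exists_prime_orderOf_dvd_card' (G := M) 3 (by rw [hc]; norm_num)
      have hy' : orderOf (y : G) = 3 := by rw [Subgroup.orderOf_coe, hy]
      obtain ⟨Q, hQ⟩ := exists_sylow_eq_zpowers (card_sylow3 h) (y : G) hy'
      have hQM : (Q : Subgroup G) ≤ M := by rw [hQ, zpowers_le]; exact y.2
      apply h3case Q
      rw [← normal_subgroupOf_iff_le_normalizer hQM]
      apply normal_of_index_eq_two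
      have := card_mul_relIndex_of_le hQM
      rw [card_sylow3 h, hc] at this
      change (Q : Subgroup G).relIndex M = 2
      omega
    · exact le_normalizer_klein_of_two_group h M (by rw [hc])
    · obtain ⟨K, hKn, hK⟩ := exists_normal_four_of_card_twelve hc hno6
      have hle := le_normalizer_map_subtype M K
      refine ⟨K.map M.subtype, ?_, hle⟩
      apply isKleinFour_of_card_four h _ (by rw [card_subtype, hK])
      have := Subgroup.card_le_of_le hle
      omega
    · have h8 : ∀ K : Subgroup M, K.Normal → Nat.card K ≠ 8 := by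
        intro K hKn hK
        have hle := le_normalizer_map_subtype M K
        obtain ⟨T, hT⟩ := exists_sylow2_eq h (K.map M.subtype) (by rw [card_subtype, hK])
        rw [← hT, normalizer_sylow2 h T] at hle
        have := Subgroup.card_le_of_le hle
        rw [card_sylow2 h, hc] at this
        omega
      obtain ⟨K, hKn, hK⟩ := exists_normal_four_of_card_twentyfour hc h8
      have hle := le_normalizer_map_subtype M K
      refine ⟨K.map M.subtype, ?_, hle⟩
      apply isKleinFour_of_card_four h _ (by rw [card_subtype, hK])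
      have := Subgroup.card_le_of_le hle
      omega

end Maximal

/-! ### Maximal subgroups -/

section Coatoms

variable {G : Type*} [Group G] [Finite G] [IsSimpleGroup G]

/-- The normalizer of a Klein four-subgroup is a maximal subgroup. -/
theorem isCoatom_normalizer_klein (h : Nat.card G = 168) (U : Subgroup G) (hU : IsKleinFour U) :
    IsCoatom (normalizer (U : Set G)) := by
  have hN := card_normalizer_klein h U hU
  constructor
  · intro ht
    rw [ht, card_top, h] at hN
    omega
  · intro H hH
    have h1 : 24 ∣ Nat.card H := by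
      have := card_dvd_of_le hH.le
      rwa [hN] at this
    have h2 : Nat.card H ∣ 168 := by
      have := card_subgroup_dvd_card H
      rwa [h] at this
    have h3 : 24 < Nat.card H := by
      have := card_lt_of_lt hH
      rwa [hN] at this
    apply eq_top_of_card_eq
    rw [h]
    obtain ⟨k, hk⟩ := h1
    rw [hk] at h2 h3 ⊢
    have hk7 : k ∣ 7 := Nat.dvd_of_mul_dvd_mul_left (by norm_num : 0 < 24) (by simpa using h2)
    rcases (Nat.dvd_prime (by norm_num : Nat.Prime 7)).mp hk7 with rfl | rfl
    · omega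
    · rfl

theorem normalizer_sylow7_ne_top (h : Nat.card G = 168) (P : Sylow 7 G) :
    normalizer ((P : Subgroup G) : Set G) ≠ ⊤ := by
  intro ht
  have := card_normalizer_sylow7 h P
  rw [ht, card_top, h] at this
  omega

theorem normalizer_klein_ne_top (h : Nat.card G = 168) (U : Subgroup G) (hU : IsKleinFour U) :
    normalizer (U : Set G) ≠ ⊤ :=
  (isCoatom_normalizer_klein h U hU).1

/-- A maximal subgroup is the normalizer of a Sylow 7-subgroup or of a Klein four-subgroup. -/
theorem coatom_cases (h : Nat.card G = 168) (M : Subgroup G) (hM : IsCoatom M) :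
    (∃ P : Sylow 7 G, M = normalizer ((P : Subgroup G) : Set G)) ∨
      ∃ U : Subgroup G, IsKleinFour U ∧ M = normalizer (U : Set G) := by
  rcases proper_subgroup_cases h M hM.1 with ⟨P, hP⟩ | ⟨U, hU, hMU⟩
  · left
    refine ⟨P, ?_⟩
    rcases hM.le_iff.mp hP with h1 | h1
    · exact absurd h1 (normalizer_sylow7_ne_top h P)
    · exact h1.symm
  · right
    refine ⟨U, hU, ?_⟩
    rcases hM.le_iff.mp hMU with h1 | h1
    · exact absurd h1 (normalizer_klein_ne_top h U hU)
    · exact h1.symm

/-- The normalizer of a Sylow 7-subgroup is not abelian. -/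
theorem not_comm_normalizer_sylow7 (h : Nat.card G = 168) (P : Sylow 7 G) :
    ¬ IsMulCommutative ↥(normalizer ((P : Subgroup G) : Set G)) := by
  intro hc
  obtain ⟨x, hx⟩ := exists_prime_orderOf_dvd_card' (G := (P : Subgroup G)) 7
    (by rw [card_sylow7 h])
  have hx' : orderOf (x : G) = 7 := by rw [Subgroup.orderOf_coe, hx]
  have hle : normalizer ((P : Subgroup G) : Set G) ≤ centralizer ({(x : G)} : Set G) := by
    intro g hg
    rw [mem_centralizer_singleton]
    have := hc.is_comm.comm (⟨g, hg⟩ : normalizer ((P : Subgroup G) : Set G))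
      ⟨(x : G), le_normalizer x.2⟩
    exact congrArg Subtype.val this
  have := Subgroup.card_le_of_le hle
  rw [card_normalizer_sylow7 h, card_centralizer_of_orderOf_seven h _ hx'] at this
  omega

/-- Two Klein four-subgroups with the same normalizer are equal. -/
theorem klein_eq_of_normalizer_eq (h : Nat.card G = 168) (U U' : Subgroup G) (hU : IsKleinFour U)
    (hU' : IsKleinFour U') (hN : normalizer (U : Set G) = normalizer (U' : Set G)) : U' = U := by
  obtain ⟨T', T'', hUT', hUT'', hT'n, hT''n, hinf, -⟩ := klein_two_sylows h U hU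
  have hpg : IsPGroup 2 U' := IsPGroup.of_card (n := 2) (by rw [hU'.card_four]; norm_num)
  have key : ∀ T : Sylow 2 G, (T : Subgroup G) ≤ normalizer (U : Set G) → U' ≤ (T : Subgroup G) := by
    intro T hT
    rw [hN] at hT
    have h1 : IsPGroup 2 (U' ⊔ (T : Subgroup G) : Subgroup G) :=
      hpg.to_sup_of_normal_left' T.isPGroup' hT
    have h2 := T.3 h1 le_sup_right
    rw [← h2]
    exact le_sup_left
  apply eq_of_le_of_card_ge
  · rw [← hinf]
    exact le_inf (key T' hT'n) (key T'' hT''n)
  · rw [hU.card_four, hU'.card_four]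

end Coatoms

end Cfsg.Agent.Lib.Helper33_Order168
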