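import Mathlib
import Cfsg.Agent.S2119

/-!
# Automorphisms of 3-power order of alternating groups are inner (helper13)

Uses helper35's `S2119.step1`, `S2119.step2`, `S2119.conj_injective`, `S2119.card_rep`.
-/

set_option autoImplicit false

open Equiv Equiv.Perm
open scoped Nat

namespace Cfsg.Agent.Lib.Helper13_AutAlt

variable {α : Type*} [Fintype α] [DecidableEq α]

/-- An automorphism of `A_6` of 3-power order maps 3-cycles to 3-cycles. -/
theorem preserves_six (h6 : Fintype.card α = 6) (f : MulAut (alternatingGroup α)) (k : ℕ)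
    (hf : f ^ (3 ^ k) = 1) (g : alternatingGroup α) (hg : IsThreeCycle (g : Perm α)) :
    IsThreeCycle ((f g : alternatingGroup α) : Perm α) := by
  classical
  set T := Finset.univ.filter
    (fun t : alternatingGroup α => (t : Perm α).cycleType = Multiset.replicate 1 3) with hT
  set C := Finset.univ.filter
    (fun t : alternatingGroup α => (t : Perm α).cycleType = Multiset.replicate 2 3) with hC
  have cT := Cfsg.Agent.S2119.card_rep (α := α) 1 le_rfl (by omega)
  have cC := Cfsg.Agent.S2119.card_rep (α := α) 2 (by omega) (by omega)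
  rw [← hT] at cT
  rw [← hC] at cC
  rw [h6] at cT cC
  have hcard : T.card = C.card := by
    have e1 : T.card * 18 = 720 := by
      have : ((6 - 3 * 1)! * 3 ^ 1 * 1!) = 18 := by decide
      rw [this] at cT
      rw [cT]; decide
    have e2 : C.card * 18 = 720 := by
      have : ((6 - 3 * 2)! * 3 ^ 2 * 2!) = 18 := by decide
      rw [this] at cC
      rw [cC]; decide
    omega
  have memT : ∀ t : alternatingGroup α, t ∈ T ↔ IsThreeCycle (t : Perm α) := by
    intro t
    rw [hT, Finset.mem_filter]
    simp only [Finset.mem_univ, true_and]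
    rw [IsThreeCycle]
    rfl
  have memC : ∀ t : alternatingGroup α, t ∈ C ↔ (t : Perm α).cycleType = Multiset.replicate 2 3 := by
    intro t
    rw [hC, Finset.mem_filter]
    simp only [Finset.mem_univ, true_and]
  have hdisj : ∀ t, t ∈ T → t ∈ C → False := by
    intro t h1 h2
    rw [memT, IsThreeCycle] at h1
    rw [memC, h1] at h2
    have := congrArg Multiset.card h2
    simp at this
  -- elements of order 3
  have hord : ∀ t : alternatingGroup α, orderOf t = 3 → t ∈ T ∨ t ∈ C := by
    intro t ht
    have ho : orderOf (t : Perm α) = 3 := by rw [Subgroup.orderOf_coe, ht]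
    obtain ⟨j, hj⟩ := cycleType_prime_order (σ := (t : Perm α)) (by rw [ho]; norm_num)
    rw [ho] at hj
    have hjn : 3 * (j + 1) ≤ 6 := by
      have h1 := sum_cycleType (t : Perm α)
      rw [hj, Multiset.sum_replicate, smul_eq_mul] at h1
      have h2 := Finset.card_le_univ (t : Perm α).support
      omega
    have : j = 0 ∨ j = 1 := by omega
    rcases this with rfl | rfl
    · left; rw [memT, IsThreeCycle, hj]; rfl
    · right; rw [memC, hj]
  have hordT : ∀ t ∈ T, orderOf t = 3 := by
    intro t ht
    rw [memT] at ht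
    rw [← Subgroup.orderOf_coe, ht.orderOf]
  have hordC : ∀ t ∈ C, orderOf t = 3 := by
    intro t ht
    rw [memC] at ht
    rw [← Subgroup.orderOf_coe, ← lcm_cycleType, ht]
    simp
  have hford : ∀ t : alternatingGroup α, orderOf (f t) = orderOf t := fun t =>
    MulEquiv.orderOf_eq f t
  -- all 3-cycles go to the same side
  have hsame : ∀ t ∈ T, ∀ t' ∈ T, f t ∈ T → f t' ∈ T := by
    intro t ht t' ht' hft
    rw [memT] at ht ht' hft ⊢
    have hconj : IsConj t t' :=
      alternatingGroup.isThreeCycle_isConj (by rw [Nat.card_eq_fintype_card]; omega) ht ht'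
    obtain ⟨c, hc⟩ := isConj_iff.mp hconj
    have : f t' = f c * f t * (f c)⁻¹ := by rw [← hc]; simp
    rw [this]
    have e : ((f c * f t * (f c)⁻¹ : alternatingGroup α) : Perm α) =
        ((f c : alternatingGroup α) : Perm α) * ((f t : alternatingGroup α) : Perm α) *
          ((f c : alternatingGroup α) : Perm α)⁻¹ := by simp
    rw [e, IsThreeCycle, cycleType_conj]
    exact hft
  rw [← memT]
  by_contra hfg
  have hgT : g ∈ T := (memT g).mpr hg
  have hTC : ∀ t ∈ T, f t ∈ C := by
    intro t ht
    rcases hord (f t) (by rw [hford, hordT t ht]) with h | h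
    · exact absurd (hsame t ht g hgT h) hfg
    · exact h
  have himg : T.image f = C := by
    apply Finset.eq_of_subset_of_card_le
    · intro c hc
      obtain ⟨t, ht, rfl⟩ := Finset.mem_image.mp hc
      exact hTC t ht
    · rw [Finset.card_image_of_injective _ f.injective, hcard]
  have hCT : ∀ c ∈ C, f c ∈ T := by
    intro c hc
    rcases hord (f c) (by rw [hford, hordC c hc]) with h | h
    · exact h
    · exfalso
      rw [← himg] at h
      obtain ⟨t, ht, hft⟩ := Finset.mem_image.mp h
      have : t = c := f.injective hft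
      rw [this] at ht
      exact hdisj c ht hc
  have heven : ∀ m : ℕ, ∀ t ∈ T, (f ^ (2 * m)) t ∈ T := by
    intro m
    induction m with
    | zero => intro t ht; simpa using ht
    | succ m ih =>
      intro t ht
      have : f ^ (2 * (m + 1)) = f * (f * f ^ (2 * m)) := by
        rw [← mul_assoc, ← pow_two, ← pow_add]; congr 1; ring
      rw [this, MulAut.mul_apply, MulAut.mul_apply]
      exact hCT _ (hTC _ (ih t ht))
  obtain ⟨m, hm⟩ : ∃ m, 3 ^ k = 2 * m + 1 := by
    have : Odd (3 ^ k) := Odd.pow (by decide)
    obtain ⟨m, hm⟩ := this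
    exact ⟨m, hm⟩
  have h1 : (f ^ (3 ^ k)) g ∈ C := by
    rw [hm, pow_succ', MulAut.mul_apply]
    exact hTC _ (heven m g hgT)
  rw [hf, MulAut.one_apply] at h1
  exact hdisj g hgT h1

/-- An automorphism of 3-power order of `A_n` (`n ≥ 5`) is inner. -/
theorem inner_of_three_power (n : ℕ) (hn : 5 ≤ n) (f : MulAut (alternatingGroup (Fin n))) (k : ℕ)
    (hf : f ^ (3 ^ k) = 1) :
    ∃ a : alternatingGroup (Fin n), ∀ y : alternatingGroup (Fin n), f y = a * y * a⁻¹ := by
  classical
  have hc : Fintype.card (Fin n) = n := Fintype.card_fin n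
  have h3 : ∀ g : alternatingGroup (Fin n), IsThreeCycle (g : Perm (Fin n)) →
      IsThreeCycle ((f g : alternatingGroup (Fin n)) : Perm (Fin n)) := by
    intro g hg
    by_cases h6 : n = 6
    · exact preserves_six (by rw [hc]; exact h6) f k hf g hg
    · exact Cfsg.Agent.S2119.step1 (by rw [hc]; exact h6) f g hg
  obtain ⟨σ, hσ⟩ := Cfsg.Agent.S2119.step2 (by rw [hc]; omega) f h3
  have hσk : σ ^ (3 ^ k) = 1 := by
    apply Cfsg.Agent.S2119.conj_injective (n := n) (by omega)
    rw [map_pow, hσ, hf, map_one]
  have hsign : Perm.sign σ = 1 := by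
    have h1 : (Perm.sign σ) ^ (3 ^ k) = 1 := by rw [← map_pow, hσk, map_one]
    rcases Int.units_eq_one_or (Perm.sign σ) with h | h
    · exact h
    · rw [h] at h1
      have hodd : Odd (3 ^ k) := Odd.pow (by decide)
      rw [hodd.neg_one_pow] at h1
      exact absurd h1 (by decide)
  refine ⟨⟨σ, mem_alternatingGroup.mpr hsign⟩, ?_⟩
  intro y
  rw [← hσ]
  apply Subtype.ext
  simp [MulAut.conjNormal_apply]

end Cfsg.Agent.Lib.Helper13_AutAlt
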