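import Mathlib
import Cfsg.Prelude.Def_Classical
import Cfsg.Prelude.Def_ChevB2
import Cfsg.Prelude.Def_Steinberg

/-!
Definitions for the S1083 project (helper13): `B₂(F) ≅ PΩ₅(F)` for the form `x₀² + x₁y₁ + x₂y₂`.

Index type `I5 = Unit ⊕ (Fin 2 ⊕ Fin 2)` with named indices `o` (x₀), `e1 e2` (x₁ x₂), `f1 f2` (y₁ y₂).
Roots of `chevB2`: 5 = ε₂, 4 = ε₁ - ε₂, 6 = ε₁, 7 = ε₁ + ε₂, 2 = -ε₂, 3 = ε₂ - ε₁, 1 = -ε₁, 0 = -ε₁ - ε₂.
`xM F r t` is the 5 × 5 matrix of the root element `x_r(t)` acting on column vectors: the weight vectors are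
`e_i ↦ ε_i`, `f_i ↦ -ε_i`, `o ↦ 0`.  Signs chosen (numerically verified over F₂,F₃,F₄,F₅,F₇,F₈,F₉) so that the
Steinberg relators (R1), (R2), (R3) of `chevB2` hold.
-/

set_option autoImplicit false

namespace Cfsg.Agent.Lib.Helper13_B2Defs

open Cfsg Matrix

abbrev I5 : Type := Unit ⊕ (Fin 2 ⊕ Fin 2)
abbrev o : I5 := .inl ()
abbrev e1 : I5 := .inr (.inl 0)
abbrev e2 : I5 := .inr (.inl 1)
abbrev f1 : I5 := .inr (.inr 0)
abbrev f2 : I5 := .inr (.inr 1)

variable (F : Type*) [Field F]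

/-- the quadratic form `x₀² + x₁y₁ + x₂y₂` -/
abbrev Q5 : (I5 → F) → F := Cfsg.quadFormOdd 2 F

/-- the matrix of the root element `x_r(t)` on the natural module (`1` for `r ≥ 8`) -/
def xM (r : ℕ) (t : F) : Matrix I5 I5 F :=
  match r with
  | 0 => 1 + Matrix.single f2 e1 t - Matrix.single f1 e2 t
  | 1 => 1 + Matrix.single o e1 t - Matrix.single f1 o (2 * t) - Matrix.single f1 e1 (t ^ 2)
  | 2 => 1 + Matrix.single o e2 t - Matrix.single f2 o (2 * t) - Matrix.single f2 e2 (t ^ 2)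
  | 3 => 1 + Matrix.single e2 e1 t - Matrix.single f1 f2 t
  | 4 => 1 + Matrix.single e1 e2 t - Matrix.single f2 f1 t
  | 5 => 1 + Matrix.single e2 o (2 * t) - Matrix.single o f2 t - Matrix.single e2 f2 (t ^ 2)
  | 6 => 1 + Matrix.single e1 o (2 * t) - Matrix.single o f1 t - Matrix.single e1 f1 (t ^ 2)
  | 7 => 1 + Matrix.single e1 f2 t - Matrix.single e2 f1 t
  | _ => 1

/-- the diagonal matrix `diag(c; a, b; a⁻¹, b⁻¹)` -/
def dM (c a b : F) : Matrix I5 I5 F :=
  Matrix.diagonal (Sum.elim (fun _ => c) (Sum.elim ![a, b] ![a⁻¹, b⁻¹]))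

variable {F}

theorem I5_forall (p : I5 → Prop) (h0 : p o) (h1 : p e1) (h2 : p e2) (h3 : p f1) (h4 : p f2) :
    ∀ i, p i := by
  intro i
  rcases i with ⟨⟩ | i | i
  · exact h0
  · fin_cases i
    · exact h1
    · exact h2
  · fin_cases i
    · exact h3
    · exact h4

theorem xM_ge (r : ℕ) (hr : ¬ r < 8) (t : F) : xM F r t = 1 := by
  unfold xM
  split <;> first | rfl | omega

theorem xM_zero (r : ℕ) : xM F r 0 = 1 := by
  unfold xM
  split <;> simp

theorem xM_add_0 (t₁ t₂ : F) : xM F 0 t₁ * xM F 0 t₂ = xM F 0 (t₁ + t₂) := by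
  ext i j
  revert j; revert i
  apply I5_forall <;> apply I5_forall <;>
    simp [xM, Matrix.mul_apply, Fintype.sum_sum_type, Matrix.single_apply, Matrix.one_apply] <;> ring

theorem xM_add_1 (t₁ t₂ : F) : xM F 1 t₁ * xM F 1 t₂ = xM F 1 (t₁ + t₂) := by
  ext i j
  revert j; revert i
  apply I5_forall <;> apply I5_forall <;>
    simp [xM, Matrix.mul_apply, Fintype.sum_sum_type, Matrix.single_apply, Matrix.one_apply] <;> ring

theorem xM_add_2 (t₁ t₂ : F) : xM F 2 t₁ * xM F 2 t₂ = xM F 2 (t₁ + t₂) := by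
  ext i j
  revert j; revert i
  apply I5_forall <;> apply I5_forall <;>
    simp [xM, Matrix.mul_apply, Fintype.sum_sum_type, Matrix.single_apply, Matrix.one_apply] <;> ring

theorem xM_add_3 (t₁ t₂ : F) : xM F 3 t₁ * xM F 3 t₂ = xM F 3 (t₁ + t₂) := by
  ext i j
  revert j; revert i
  apply I5_forall <;> apply I5_forall <;>
    simp [xM, Matrix.mul_apply, Fintype.sum_sum_type, Matrix.single_apply, Matrix.one_apply] <;> ring

theorem xM_add_4 (t₁ t₂ : F) : xM F 4 t₁ * xM F 4 t₂ = xM F 4 (t₁ + t₂) := by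
  ext i j
  revert j; revert i
  apply I5_forall <;> apply I5_forall <;>
    simp [xM, Matrix.mul_apply, Fintype.sum_sum_type, Matrix.single_apply, Matrix.one_apply] <;> ring

theorem xM_add_5 (t₁ t₂ : F) : xM F 5 t₁ * xM F 5 t₂ = xM F 5 (t₁ + t₂) := by
  ext i j
  revert j; revert i
  apply I5_forall <;> apply I5_forall <;>
    simp [xM, Matrix.mul_apply, Fintype.sum_sum_type, Matrix.single_apply, Matrix.one_apply] <;> ring

theorem xM_add_6 (t₁ t₂ : F) : xM F 6 t₁ * xM F 6 t₂ = xM F 6 (t₁ + t₂) := by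
  ext i j
  revert j; revert i
  apply I5_forall <;> apply I5_forall <;>
    simp [xM, Matrix.mul_apply, Fintype.sum_sum_type, Matrix.single_apply, Matrix.one_apply] <;> ring

theorem xM_add_7 (t₁ t₂ : F) : xM F 7 t₁ * xM F 7 t₂ = xM F 7 (t₁ + t₂) := by
  ext i j
  revert j; revert i
  apply I5_forall <;> apply I5_forall <;>
    simp [xM, Matrix.mul_apply, Fintype.sum_sum_type, Matrix.single_apply, Matrix.one_apply] <;> ring

/-- (R1) on matrices -/
theorem xM_add (r : ℕ) (t₁ t₂ : F) : xM F r t₁ * xM F r t₂ = xM F r (t₁ + t₂) := by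
  by_cases hr : r < 8
  · interval_cases r
    · exact xM_add_0 t₁ t₂
    · exact xM_add_1 t₁ t₂
    · exact xM_add_2 t₁ t₂
    · exact xM_add_3 t₁ t₂
    · exact xM_add_4 t₁ t₂
    · exact xM_add_5 t₁ t₂
    · exact xM_add_6 t₁ t₂
    · exact xM_add_7 t₁ t₂
  · rw [xM_ge r hr, xM_ge r hr, xM_ge r hr, mul_one]

theorem xM_mul_neg (r : ℕ) (t : F) : xM F r t * xM F r (-t) = 1 := by
  rw [xM_add, add_neg_cancel, xM_zero]

theorem xM_neg_mul (r : ℕ) (t : F) : xM F r (-t) * xM F r t = 1 := by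
  rw [xM_add, neg_add_cancel, xM_zero]

theorem Q5_xM_0 (t : F) (v : I5 → F) : Q5 F (xM F 0 t *ᵥ v) = Q5 F v := by
  simp [Q5, Cfsg.quadFormOdd, xM, Matrix.mulVec, dotProduct, Fintype.sum_sum_type, Matrix.single_apply,
    Matrix.one_apply, Fin.sum_univ_two, Matrix.add_apply, Matrix.sub_apply]
  ring

theorem Q5_xM_1 (t : F) (v : I5 → F) : Q5 F (xM F 1 t *ᵥ v) = Q5 F v := by
  simp [Q5, Cfsg.quadFormOdd, xM, Matrix.mulVec, dotProduct, Fintype.sum_sum_type, Matrix.single_apply,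
    Matrix.one_apply, Fin.sum_univ_two, Matrix.add_apply, Matrix.sub_apply]
  ring

theorem Q5_xM_2 (t : F) (v : I5 → F) : Q5 F (xM F 2 t *ᵥ v) = Q5 F v := by
  simp [Q5, Cfsg.quadFormOdd, xM, Matrix.mulVec, dotProduct, Fintype.sum_sum_type, Matrix.single_apply,
    Matrix.one_apply, Fin.sum_univ_two, Matrix.add_apply, Matrix.sub_apply]
  ring

theorem Q5_xM_3 (t : F) (v : I5 → F) : Q5 F (xM F 3 t *ᵥ v) = Q5 F v := by
  simp [Q5, Cfsg.quadFormOdd, xM, Matrix.mulVec, dotProduct, Fintype.sum_sum_type, Matrix.single_apply,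
    Matrix.one_apply, Fin.sum_univ_two, Matrix.add_apply, Matrix.sub_apply]
  ring

theorem Q5_xM_4 (t : F) (v : I5 → F) : Q5 F (xM F 4 t *ᵥ v) = Q5 F v := by
  simp [Q5, Cfsg.quadFormOdd, xM, Matrix.mulVec, dotProduct, Fintype.sum_sum_type, Matrix.single_apply,
    Matrix.one_apply, Fin.sum_univ_two, Matrix.add_apply, Matrix.sub_apply]
  ring

theorem Q5_xM_5 (t : F) (v : I5 → F) : Q5 F (xM F 5 t *ᵥ v) = Q5 F v := by
  simp [Q5, Cfsg.quadFormOdd, xM, Matrix.mulVec, dotProduct, Fintype.sum_sum_type, Matrix.single_apply,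
    Matrix.one_apply, Fin.sum_univ_two, Matrix.add_apply, Matrix.sub_apply]
  ring

theorem Q5_xM_6 (t : F) (v : I5 → F) : Q5 F (xM F 6 t *ᵥ v) = Q5 F v := by
  simp [Q5, Cfsg.quadFormOdd, xM, Matrix.mulVec, dotProduct, Fintype.sum_sum_type, Matrix.single_apply,
    Matrix.one_apply, Fin.sum_univ_two, Matrix.add_apply, Matrix.sub_apply]
  ring

theorem Q5_xM_7 (t : F) (v : I5 → F) : Q5 F (xM F 7 t *ᵥ v) = Q5 F v := by
  simp [Q5, Cfsg.quadFormOdd, xM, Matrix.mulVec, dotProduct, Fintype.sum_sum_type, Matrix.single_apply,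
    Matrix.one_apply, Fin.sum_univ_two, Matrix.add_apply, Matrix.sub_apply]
  ring

/-- the root elements preserve `Q5` -/
theorem Q5_xM (r : ℕ) (t : F) (v : I5 → F) : Q5 F (xM F r t *ᵥ v) = Q5 F v := by
  by_cases hr : r < 8
  · interval_cases r
    · exact Q5_xM_0 t v
    · exact Q5_xM_1 t v
    · exact Q5_xM_2 t v
    · exact Q5_xM_3 t v
    · exact Q5_xM_4 t v
    · exact Q5_xM_5 t v
    · exact Q5_xM_6 t v
    · exact Q5_xM_7 t v
  · rw [xM_ge r hr, Matrix.one_mulVec]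

/-! ### Column vectors as 5-tuples -/

variable (F)

/-- the vector with coordinates `a` (x₀), `b c` (x₁ x₂), `d e` (y₁ y₂) -/
def mk5 {F : Type*} (a b c d e : F) : I5 → F := Sum.elim (fun _ => a) (Sum.elim ![b, c] ![d, e])

variable {F}

@[simp] theorem mk5_o (a b c d e : F) : mk5 a b c d e o = a := rfl
@[simp] theorem mk5_e1 (a b c d e : F) : mk5 a b c d e e1 = b := rfl
@[simp] theorem mk5_e2 (a b c d e : F) : mk5 a b c d e e2 = c := rfl
@[simp] theorem mk5_f1 (a b c d e : F) : mk5 a b c d e f1 = d := rfl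
@[simp] theorem mk5_f2 (a b c d e : F) : mk5 a b c d e f2 = e := rfl

theorem mk5_eta (v : I5 → F) : v = mk5 (v o) (v e1) (v e2) (v f1) (v f2) := by
  funext i
  revert i
  apply I5_forall <;> rfl

theorem mk5_ext {a b c d e a' b' c' d' e' : F} (h0 : a = a') (h1 : b = b') (h2 : c = c') (h3 : d = d')
    (h4 : e = e') : mk5 a b c d e = mk5 a' b' c' d' e' := by
  subst h0 h1 h2 h3 h4; rfl

theorem mk5_inj {a b c d e a' b' c' d' e' : F} (h : mk5 a b c d e = mk5 a' b' c' d' e') :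
    a = a' ∧ b = b' ∧ c = c' ∧ d = d' ∧ e = e' :=
  ⟨congrFun h o, congrFun h e1, congrFun h e2, congrFun h f1, congrFun h f2⟩

theorem Q5_mk5 (a b c d e : F) : Q5 F (mk5 a b c d e) = a ^ 2 + b * d + c * e := by
  simp [Q5, Cfsg.quadFormOdd, Fin.sum_univ_two, mk5]
  ring

/-- two matrices with the same action on all 5-tuples are equal -/
theorem mat_ext5 {M N : Matrix I5 I5 F}
    (h : ∀ a b c d e : F, M *ᵥ mk5 a b c d e = N *ᵥ mk5 a b c d e) : M = N := by
  apply Matrix.toLin'.injective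
  apply LinearMap.ext
  intro v
  rw [Matrix.toLin'_apply, Matrix.toLin'_apply, mk5_eta v]
  exact h _ _ _ _ _

theorem one_mulVec_mk5 (a b c d e : F) : (1 : Matrix I5 I5 F) *ᵥ mk5 a b c d e = mk5 a b c d e :=
  Matrix.one_mulVec _

theorem xM_mk5_0 (t a b c d e : F) : xM F 0 t *ᵥ mk5 a b c d e = mk5 a b c (d - t * c) (e + t * b) := by
  funext i
  revert i
  apply I5_forall <;>
    simp [xM, Matrix.mulVec, dotProduct, Fintype.sum_sum_type, Matrix.single_apply, Matrix.one_apply,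
      Matrix.add_apply, Matrix.sub_apply, Fin.sum_univ_two, mk5] <;> ring

theorem xM_mk5_1 (t a b c d e : F) : xM F 1 t *ᵥ mk5 a b c d e = mk5 (a + t * b) b c (d - 2 * t * a - t ^ 2 * b) e := by
  funext i
  revert i
  apply I5_forall <;>
    simp [xM, Matrix.mulVec, dotProduct, Fintype.sum_sum_type, Matrix.single_apply, Matrix.one_apply,
      Matrix.add_apply, Matrix.sub_apply, Fin.sum_univ_two, mk5] <;> ring

theorem xM_mk5_2 (t a b c d e : F) : xM F 2 t *ᵥ mk5 a b c d e = mk5 (a + t * c) b c d (e - 2 * t * a - t ^ 2 * c) := by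
  funext i
  revert i
  apply I5_forall <;>
    simp [xM, Matrix.mulVec, dotProduct, Fintype.sum_sum_type, Matrix.single_apply, Matrix.one_apply,
      Matrix.add_apply, Matrix.sub_apply, Fin.sum_univ_two, mk5] <;> ring

theorem xM_mk5_3 (t a b c d e : F) : xM F 3 t *ᵥ mk5 a b c d e = mk5 a b (c + t * b) (d - t * e) e := by
  funext i
  revert i
  apply I5_forall <;>
    simp [xM, Matrix.mulVec, dotProduct, Fintype.sum_sum_type, Matrix.single_apply, Matrix.one_apply,
      Matrix.add_apply, Matrix.sub_apply, Fin.sum_univ_two, mk5] <;> ring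

theorem xM_mk5_4 (t a b c d e : F) : xM F 4 t *ᵥ mk5 a b c d e = mk5 a (b + t * c) c d (e - t * d) := by
  funext i
  revert i
  apply I5_forall <;>
    simp [xM, Matrix.mulVec, dotProduct, Fintype.sum_sum_type, Matrix.single_apply, Matrix.one_apply,
      Matrix.add_apply, Matrix.sub_apply, Fin.sum_univ_two, mk5] <;> ring

theorem xM_mk5_5 (t a b c d e : F) : xM F 5 t *ᵥ mk5 a b c d e = mk5 (a - t * e) b (c + 2 * t * a - t ^ 2 * e) d e := by
  funext i
  revert i
  apply I5_forall <;>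
    simp [xM, Matrix.mulVec, dotProduct, Fintype.sum_sum_type, Matrix.single_apply, Matrix.one_apply,
      Matrix.add_apply, Matrix.sub_apply, Fin.sum_univ_two, mk5] <;> ring

theorem xM_mk5_6 (t a b c d e : F) : xM F 6 t *ᵥ mk5 a b c d e = mk5 (a - t * d) (b + 2 * t * a - t ^ 2 * d) c d e := by
  funext i
  revert i
  apply I5_forall <;>
    simp [xM, Matrix.mulVec, dotProduct, Fintype.sum_sum_type, Matrix.single_apply, Matrix.one_apply,
      Matrix.add_apply, Matrix.sub_apply, Fin.sum_univ_two, mk5] <;> ring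

theorem xM_mk5_7 (t a b c d e : F) : xM F 7 t *ᵥ mk5 a b c d e = mk5 a (b + t * e) (c - t * d) d e := by
  funext i
  revert i
  apply I5_forall <;>
    simp [xM, Matrix.mulVec, dotProduct, Fintype.sum_sum_type, Matrix.single_apply, Matrix.one_apply,
      Matrix.add_apply, Matrix.sub_apply, Fin.sum_univ_two, mk5] <;> ring

theorem dM_mk5 (x y z a b c d e : F) :
    dM F x y z *ᵥ mk5 a b c d e = mk5 (x * a) (y * b) (z * c) (y⁻¹ * d) (z⁻¹ * e) := by
  funext i
  revert i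
  apply I5_forall <;> simp [dM, Matrix.mulVec_diagonal, mk5]

variable (F)

/-- the root element as an element of `GL` -/
def xGL (r : ℕ) (t : F) : GL I5 F := ⟨xM F r t, xM F r (-t), xM_mul_neg r t, xM_neg_mul r t⟩

/-- the isometry group `O(Q5)` -/
abbrev O5 : Subgroup (GL I5 F) := Cfsg.isometryGroup F (Q5 F)

variable {F}

theorem xGL_mem (r : ℕ) (t : F) : xGL F r t ∈ O5 F := by
  intro u _
  exact Q5_xM r t u

variable (F)

/-- the root element as an isometry -/
def xO (r : ℕ) (t : F) : ↥(O5 F) := ⟨xGL F r t, xGL_mem r t⟩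

/-- the subgroup of `O(Q5)` generated by the root elements -/
def E5 : Subgroup ↥(O5 F) := Subgroup.closure {g | ∃ (r : ℕ) (t : F), g = xO F r t}

end Cfsg.Agent.Lib.Helper13_B2Defs
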