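import Mathlib
import Cfsg.Agent.Lib.Helper13_B2Defs

/-!
S1083 (helper13): definitions for the geometric half (`[O, O] = E5`): the polar form on 5-tuples, diagonal
isometries `dO`, the subgroup `A5` of diagonal isometries.
-/

set_option autoImplicit false

namespace Cfsg.Agent.Lib.Helper13_B2Geom

open Cfsg Cfsg.Agent.Lib.Helper13_B2Defs Matrix

variable {F : Type*} [Field F]

theorem mem_O5_iff (g : GL I5 F) :
    g ∈ O5 F ↔ ∀ v : I5 → F, Q5 F ((g : Matrix I5 I5 F) *ᵥ v) = Q5 F v := by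
  constructor
  · intro h v
    exact h v v
  · intro h u _
    exact h u

theorem Q5_isom (g : ↥(O5 F)) (v : I5 → F) :
    Q5 F (((g : GL I5 F) : Matrix I5 I5 F) *ᵥ v) = Q5 F v :=
  (mem_O5_iff _).mp g.2 v

/-- the polar form of `Q5` -/
def B5 (u v : I5 → F) : F := Q5 F (u + v) - Q5 F u - Q5 F v

theorem mk5_add (a b c d e a' b' c' d' e' : F) :
    mk5 a b c d e + mk5 a' b' c' d' e' = mk5 (a + a') (b + b') (c + c') (d + d') (e + e') := by
  funext i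
  revert i
  apply I5_forall <;> rfl

theorem mk5_smul (k a b c d e : F) : k • mk5 a b c d e = mk5 (k * a) (k * b) (k * c) (k * d) (k * e) := by
  funext i
  revert i
  apply I5_forall <;> rfl

theorem B5_mk5 (a b c d e a' b' c' d' e' : F) :
    B5 (mk5 a b c d e) (mk5 a' b' c' d' e') = 2 * a * a' + b * d' + d * b' + c * e' + e * c' := by
  unfold B5
  rw [mk5_add, Q5_mk5, Q5_mk5, Q5_mk5]
  ring

theorem B5_isom (g : ↥(O5 F)) (u v : I5 → F) :
    B5 (((g : GL I5 F) : Matrix I5 I5 F) *ᵥ u) (((g : GL I5 F) : Matrix I5 I5 F) *ᵥ v) = B5 u v := by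
  unfold B5
  rw [← Matrix.mulVec_add, Q5_isom, Q5_isom, Q5_isom]

theorem dM_mul_dM (x y z x' y' z' : F) :
    dM F x y z * dM F x' y' z' = dM F (x * x') (y * y') (z * z') := by
  apply mat_ext5
  intro a b c d e
  rw [← Matrix.mulVec_mulVec, dM_mk5, dM_mk5, dM_mk5]
  apply mk5_ext <;> (try simp only [mul_inv]) <;> ring

theorem dM_one : dM F 1 1 1 = 1 := by
  apply mat_ext5
  intro a b c d e
  rw [dM_mk5, one_mulVec_mk5]
  apply mk5_ext <;> simp

/-- the diagonal element `diag(x; y, z; y⁻¹, z⁻¹)` of `GL` -/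
def dGL (x y z : F) (hx : x * x = 1) (hy : y ≠ 0) (hz : z ≠ 0) : GL I5 F :=
  ⟨dM F x y z, dM F x y⁻¹ z⁻¹,
    by rw [dM_mul_dM, hx, mul_inv_cancel₀ hy, mul_inv_cancel₀ hz, dM_one],
    by rw [dM_mul_dM, hx, inv_mul_cancel₀ hy, inv_mul_cancel₀ hz, dM_one]⟩

theorem dGL_mem (x y z : F) (hx : x * x = 1) (hy : y ≠ 0) (hz : z ≠ 0) : dGL x y z hx hy hz ∈ O5 F := by
  rw [mem_O5_iff]
  intro v
  rw [mk5_eta v]
  show Q5 F (dM F x y z *ᵥ _) = _
  rw [dM_mk5, Q5_mk5, Q5_mk5]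
  have : (x * v o) ^ 2 = v o ^ 2 := by
    rw [mul_pow, pow_two x, hx, one_mul]
  rw [this]
  field_simp

/-- the diagonal isometry `diag(x; y, z; y⁻¹, z⁻¹)` (`x² = 1`) -/
def dO (x y z : F) (hx : x * x = 1) (hy : y ≠ 0) (hz : z ≠ 0) : ↥(O5 F) :=
  ⟨dGL x y z hx hy hz, dGL_mem x y z hx hy hz⟩

theorem dO_coe (x y z : F) (hx : x * x = 1) (hy : y ≠ 0) (hz : z ≠ 0) :
    (((dO x y z hx hy hz : ↥(O5 F)) : GL I5 F) : Matrix I5 I5 F) = dM F x y z := rfl

/-- the subgroup of diagonal isometries `diag(x; y, z; y⁻¹, z⁻¹)` -/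
def A5 (F : Type*) [Field F] : Subgroup ↥(O5 F) where
  carrier := {g | ∃ x y z : F, x * x = 1 ∧ y ≠ 0 ∧ z ≠ 0 ∧
    ((g : GL I5 F) : Matrix I5 I5 F) = dM F x y z}
  one_mem' := ⟨1, 1, 1, by simp, one_ne_zero, one_ne_zero, by rw [dM_one]; rfl⟩
  mul_mem' := by
    rintro g h ⟨x, y, z, hx, hy, hz, hg⟩ ⟨x', y', z', hx', hy', hz', hh⟩
    refine ⟨x * x', y * y', z * z', ?_, mul_ne_zero hy hy', mul_ne_zero hz hz', ?_⟩
    · rw [mul_mul_mul_comm, hx, hx', one_mul]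
    · show ((g : GL I5 F) : Matrix I5 I5 F) * ((h : GL I5 F) : Matrix I5 I5 F) = _
      rw [hg, hh, dM_mul_dM]
  inv_mem' := by
    rintro g ⟨x, y, z, hx, hy, hz, hg⟩
    refine ⟨x, y⁻¹, z⁻¹, hx, inv_ne_zero hy, inv_ne_zero hz, ?_⟩
    have h1 : g = dO x y z hx hy hz := by
      apply Subtype.ext
      apply Units.ext
      exact hg
    rw [h1]
    rfl

theorem A5_comm (g h : ↥(O5 F)) (hg : g ∈ A5 F) (hh : h ∈ A5 F) : g * h = h * g := by
  obtain ⟨x, y, z, hx, hy, hz, hg⟩ := hg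
  obtain ⟨x', y', z', hx', hy', hz', hh⟩ := hh
  apply Subtype.ext
  apply Units.ext
  show ((g : GL I5 F) : Matrix I5 I5 F) * ((h : GL I5 F) : Matrix I5 I5 F) =
    ((h : GL I5 F) : Matrix I5 I5 F) * ((g : GL I5 F) : Matrix I5 I5 F)
  rw [hg, hh, dM_mul_dM, dM_mul_dM, mul_comm x, mul_comm y, mul_comm z]

theorem xO_coe (r : ℕ) (t : F) : (((xO F r t : ↥(O5 F)) : GL I5 F) : Matrix I5 I5 F) = xM F r t := rfl

theorem xO_mem_E5 (r : ℕ) (t : F) : xO F r t ∈ E5 F := Subgroup.subset_closure ⟨r, t, rfl⟩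

/-- the action of an isometry on column vectors -/
abbrev act (g : ↥(O5 F)) (v : I5 → F) : I5 → F := ((g : GL I5 F) : Matrix I5 I5 F) *ᵥ v

theorem act_mul (g h : ↥(O5 F)) (v : I5 → F) : act (g * h) v = act g (act h v) := by
  unfold act
  rw [Matrix.mulVec_mulVec]
  rfl

theorem act_one (v : I5 → F) : act (1 : ↥(O5 F)) v = v := Matrix.one_mulVec v

end Cfsg.Agent.Lib.Helper13_B2Geom
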