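import Mathlib
import Cfsg.Agent.Lib.Helper13_B2Defs

/-!
S1083 (helper13): the Chevalley commutator relations (R2) of `chevB2` for the 5 × 5 root elements `xM`.
Generated; each pair `(r, s)` is checked on 5-tuples (`mat_ext5`, `xM_mk5_k`).
-/

set_option autoImplicit false

namespace Cfsg.Agent.Lib.Helper13_B2R2

open Cfsg Cfsg.Lie Cfsg.Agent.Lib.Helper13_B2Defs Matrix

variable {F : Type*} [Field F]

theorem ct_0_1 : chevB2.commTerms 0 1 = [] := by decide

theorem r2_0_1 (t u : F) : xM F 1 (-u) * xM F 0 (-t) * xM F 1 u * xM F 0 t =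
    ((chevB2.commWord F 0 1 t u).map fun p => xM F p.1 p.2).prod := by
  unfold ChevalleyDatum.commWord
  rw [ct_0_1]
  simp only [List.map_cons, List.map_nil, List.prod_cons, List.prod_nil, mul_one]
  apply mat_ext5
  intro a b c d e
  simp only [← Matrix.mulVec_mulVec, xM_mk5_0, xM_mk5_1, xM_mk5_2, xM_mk5_3, xM_mk5_4, xM_mk5_5,
    xM_mk5_6, xM_mk5_7, one_mulVec_mk5]
  apply mk5_ext <;> (push_cast; ring)

theorem ct_0_2 : chevB2.commTerms 0 2 = [] := by decide

theorem r2_0_2 (t u : F) : xM F 2 (-u) * xM F 0 (-t) * xM F 2 u * xM F 0 t =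
    ((chevB2.commWord F 0 2 t u).map fun p => xM F p.1 p.2).prod := by
  unfold ChevalleyDatum.commWord
  rw [ct_0_2]
  simp only [List.map_cons, List.map_nil, List.prod_cons, List.prod_nil, mul_one]
  apply mat_ext5
  intro a b c d e
  simp only [← Matrix.mulVec_mulVec, xM_mk5_0, xM_mk5_1, xM_mk5_2, xM_mk5_3, xM_mk5_4, xM_mk5_5,
    xM_mk5_6, xM_mk5_7, one_mulVec_mk5]
  apply mk5_ext <;> (push_cast; ring)

theorem ct_0_3 : chevB2.commTerms 0 3 = [] := by decide

theorem r2_0_3 (t u : F) : xM F 3 (-u) * xM F 0 (-t) * xM F 3 u * xM F 0 t =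
    ((chevB2.commWord F 0 3 t u).map fun p => xM F p.1 p.2).prod := by
  unfold ChevalleyDatum.commWord
  rw [ct_0_3]
  simp only [List.map_cons, List.map_nil, List.prod_cons, List.prod_nil, mul_one]
  apply mat_ext5
  intro a b c d e
  simp only [← Matrix.mulVec_mulVec, xM_mk5_0, xM_mk5_1, xM_mk5_2, xM_mk5_3, xM_mk5_4, xM_mk5_5,
    xM_mk5_6, xM_mk5_7, one_mulVec_mk5]
  apply mk5_ext <;> (push_cast; ring)

theorem ct_0_4 : chevB2.commTerms 0 4 = [] := by decide

theorem r2_0_4 (t u : F) : xM F 4 (-u) * xM F 0 (-t) * xM F 4 u * xM F 0 t =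
    ((chevB2.commWord F 0 4 t u).map fun p => xM F p.1 p.2).prod := by
  unfold ChevalleyDatum.commWord
  rw [ct_0_4]
  simp only [List.map_cons, List.map_nil, List.prod_cons, List.prod_nil, mul_one]
  apply mat_ext5
  intro a b c d e
  simp only [← Matrix.mulVec_mulVec, xM_mk5_0, xM_mk5_1, xM_mk5_2, xM_mk5_3, xM_mk5_4, xM_mk5_5,
    xM_mk5_6, xM_mk5_7, one_mulVec_mk5]
  apply mk5_ext <;> (push_cast; ring)

theorem ct_0_5 : chevB2.commTerms 0 5 = [(1, 1, 1, 1), (3, -1, 1, 2)] := by decide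

theorem r2_0_5 (t u : F) : xM F 5 (-u) * xM F 0 (-t) * xM F 5 u * xM F 0 t =
    ((chevB2.commWord F 0 5 t u).map fun p => xM F p.1 p.2).prod := by
  unfold ChevalleyDatum.commWord
  rw [ct_0_5]
  simp only [List.map_cons, List.map_nil, List.prod_cons, List.prod_nil, mul_one]
  apply mat_ext5
  intro a b c d e
  simp only [← Matrix.mulVec_mulVec, xM_mk5_0, xM_mk5_1, xM_mk5_2, xM_mk5_3, xM_mk5_4, xM_mk5_5,
    xM_mk5_6, xM_mk5_7, one_mulVec_mk5]
  apply mk5_ext <;> (push_cast; ring)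

theorem ct_0_6 : chevB2.commTerms 0 6 = [(2, -1, 1, 1), (4, 1, 1, 2)] := by decide

theorem r2_0_6 (t u : F) : xM F 6 (-u) * xM F 0 (-t) * xM F 6 u * xM F 0 t =
    ((chevB2.commWord F 0 6 t u).map fun p => xM F p.1 p.2).prod := by
  unfold ChevalleyDatum.commWord
  rw [ct_0_6]
  simp only [List.map_cons, List.map_nil, List.prod_cons, List.prod_nil, mul_one]
  apply mat_ext5
  intro a b c d e
  simp only [← Matrix.mulVec_mulVec, xM_mk5_0, xM_mk5_1, xM_mk5_2, xM_mk5_3, xM_mk5_4, xM_mk5_5,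
    xM_mk5_6, xM_mk5_7, one_mulVec_mk5]
  apply mk5_ext <;> (push_cast; ring)

theorem ct_1_0 : chevB2.commTerms 1 0 = [] := by decide

theorem r2_1_0 (t u : F) : xM F 0 (-u) * xM F 1 (-t) * xM F 0 u * xM F 1 t =
    ((chevB2.commWord F 1 0 t u).map fun p => xM F p.1 p.2).prod := by
  unfold ChevalleyDatum.commWord
  rw [ct_1_0]
  simp only [List.map_cons, List.map_nil, List.prod_cons, List.prod_nil, mul_one]
  apply mat_ext5
  intro a b c d e
  simp only [← Matrix.mulVec_mulVec, xM_mk5_0, xM_mk5_1, xM_mk5_2, xM_mk5_3, xM_mk5_4, xM_mk5_5,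
    xM_mk5_6, xM_mk5_7, one_mulVec_mk5]
  apply mk5_ext <;> (push_cast; ring)

theorem ct_1_2 : chevB2.commTerms 1 2 = [(0, 2, 1, 1)] := by decide

theorem r2_1_2 (t u : F) : xM F 2 (-u) * xM F 1 (-t) * xM F 2 u * xM F 1 t =
    ((chevB2.commWord F 1 2 t u).map fun p => xM F p.1 p.2).prod := by
  unfold ChevalleyDatum.commWord
  rw [ct_1_2]
  simp only [List.map_cons, List.map_nil, List.prod_cons, List.prod_nil, mul_one]
  apply mat_ext5
  intro a b c d e
  simp only [← Matrix.mulVec_mulVec, xM_mk5_0, xM_mk5_1, xM_mk5_2, xM_mk5_3, xM_mk5_4, xM_mk5_5,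
    xM_mk5_6, xM_mk5_7, one_mulVec_mk5]
  apply mk5_ext <;> (push_cast; ring)

theorem ct_1_3 : chevB2.commTerms 1 3 = [] := by decide

theorem r2_1_3 (t u : F) : xM F 3 (-u) * xM F 1 (-t) * xM F 3 u * xM F 1 t =
    ((chevB2.commWord F 1 3 t u).map fun p => xM F p.1 p.2).prod := by
  unfold ChevalleyDatum.commWord
  rw [ct_1_3]
  simp only [List.map_cons, List.map_nil, List.prod_cons, List.prod_nil, mul_one]
  apply mat_ext5
  intro a b c d e
  simp only [← Matrix.mulVec_mulVec, xM_mk5_0, xM_mk5_1, xM_mk5_2, xM_mk5_3, xM_mk5_4, xM_mk5_5,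
    xM_mk5_6, xM_mk5_7, one_mulVec_mk5]
  apply mk5_ext <;> (push_cast; ring)

theorem ct_1_4 : chevB2.commTerms 1 4 = [(2, 1, 1, 1), (0, 1, 2, 1)] := by decide

theorem r2_1_4 (t u : F) : xM F 4 (-u) * xM F 1 (-t) * xM F 4 u * xM F 1 t =
    ((chevB2.commWord F 1 4 t u).map fun p => xM F p.1 p.2).prod := by
  unfold ChevalleyDatum.commWord
  rw [ct_1_4]
  simp only [List.map_cons, List.map_nil, List.prod_cons, List.prod_nil, mul_one]
  apply mat_ext5
  intro a b c d e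
  simp only [← Matrix.mulVec_mulVec, xM_mk5_0, xM_mk5_1, xM_mk5_2, xM_mk5_3, xM_mk5_4, xM_mk5_5,
    xM_mk5_6, xM_mk5_7, one_mulVec_mk5]
  apply mk5_ext <;> (push_cast; ring)

theorem ct_1_5 : chevB2.commTerms 1 5 = [(3, -2, 1, 1)] := by decide

theorem r2_1_5 (t u : F) : xM F 5 (-u) * xM F 1 (-t) * xM F 5 u * xM F 1 t =
    ((chevB2.commWord F 1 5 t u).map fun p => xM F p.1 p.2).prod := by
  unfold ChevalleyDatum.commWord
  rw [ct_1_5]
  simp only [List.map_cons, List.map_nil, List.prod_cons, List.prod_nil, mul_one]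
  apply mat_ext5
  intro a b c d e
  simp only [← Matrix.mulVec_mulVec, xM_mk5_0, xM_mk5_1, xM_mk5_2, xM_mk5_3, xM_mk5_4, xM_mk5_5,
    xM_mk5_6, xM_mk5_7, one_mulVec_mk5]
  apply mk5_ext <;> (push_cast; ring)

theorem ct_1_7 : chevB2.commTerms 1 7 = [(5, -1, 1, 1), (3, 1, 2, 1)] := by decide

theorem r2_1_7 (t u : F) : xM F 7 (-u) * xM F 1 (-t) * xM F 7 u * xM F 1 t =
    ((chevB2.commWord F 1 7 t u).map fun p => xM F p.1 p.2).prod := by
  unfold ChevalleyDatum.commWord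
  rw [ct_1_7]
  simp only [List.map_cons, List.map_nil, List.prod_cons, List.prod_nil, mul_one]
  apply mat_ext5
  intro a b c d e
  simp only [← Matrix.mulVec_mulVec, xM_mk5_0, xM_mk5_1, xM_mk5_2, xM_mk5_3, xM_mk5_4, xM_mk5_5,
    xM_mk5_6, xM_mk5_7, one_mulVec_mk5]
  apply mk5_ext <;> (push_cast; ring)

theorem ct_2_0 : chevB2.commTerms 2 0 = [] := by decide

theorem r2_2_0 (t u : F) : xM F 0 (-u) * xM F 2 (-t) * xM F 0 u * xM F 2 t =
    ((chevB2.commWord F 2 0 t u).map fun p => xM F p.1 p.2).prod := by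
  unfold ChevalleyDatum.commWord
  rw [ct_2_0]
  simp only [List.map_cons, List.map_nil, List.prod_cons, List.prod_nil, mul_one]
  apply mat_ext5
  intro a b c d e
  simp only [← Matrix.mulVec_mulVec, xM_mk5_0, xM_mk5_1, xM_mk5_2, xM_mk5_3, xM_mk5_4, xM_mk5_5,
    xM_mk5_6, xM_mk5_7, one_mulVec_mk5]
  apply mk5_ext <;> (push_cast; ring)

theorem ct_2_1 : chevB2.commTerms 2 1 = [(0, -2, 1, 1)] := by decide

theorem r2_2_1 (t u : F) : xM F 1 (-u) * xM F 2 (-t) * xM F 1 u * xM F 2 t =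
    ((chevB2.commWord F 2 1 t u).map fun p => xM F p.1 p.2).prod := by
  unfold ChevalleyDatum.commWord
  rw [ct_2_1]
  simp only [List.map_cons, List.map_nil, List.prod_cons, List.prod_nil, mul_one]
  apply mat_ext5
  intro a b c d e
  simp only [← Matrix.mulVec_mulVec, xM_mk5_0, xM_mk5_1, xM_mk5_2, xM_mk5_3, xM_mk5_4, xM_mk5_5,
    xM_mk5_6, xM_mk5_7, one_mulVec_mk5]
  apply mk5_ext <;> (push_cast; ring)

theorem ct_2_3 : chevB2.commTerms 2 3 = [(1, 1, 1, 1), (0, -1, 2, 1)] := by decide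

theorem r2_2_3 (t u : F) : xM F 3 (-u) * xM F 2 (-t) * xM F 3 u * xM F 2 t =
    ((chevB2.commWord F 2 3 t u).map fun p => xM F p.1 p.2).prod := by
  unfold ChevalleyDatum.commWord
  rw [ct_2_3]
  simp only [List.map_cons, List.map_nil, List.prod_cons, List.prod_nil, mul_one]
  apply mat_ext5
  intro a b c d e
  simp only [← Matrix.mulVec_mulVec, xM_mk5_0, xM_mk5_1, xM_mk5_2, xM_mk5_3, xM_mk5_4, xM_mk5_5,
    xM_mk5_6, xM_mk5_7, one_mulVec_mk5]
  apply mk5_ext <;> (push_cast; ring)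

theorem ct_2_4 : chevB2.commTerms 2 4 = [] := by decide

theorem r2_2_4 (t u : F) : xM F 4 (-u) * xM F 2 (-t) * xM F 4 u * xM F 2 t =
    ((chevB2.commWord F 2 4 t u).map fun p => xM F p.1 p.2).prod := by
  unfold ChevalleyDatum.commWord
  rw [ct_2_4]
  simp only [List.map_cons, List.map_nil, List.prod_cons, List.prod_nil, mul_one]
  apply mat_ext5
  intro a b c d e
  simp only [← Matrix.mulVec_mulVec, xM_mk5_0, xM_mk5_1, xM_mk5_2, xM_mk5_3, xM_mk5_4, xM_mk5_5,
    xM_mk5_6, xM_mk5_7, one_mulVec_mk5]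
  apply mk5_ext <;> (push_cast; ring)

theorem ct_2_6 : chevB2.commTerms 2 6 = [(4, -2, 1, 1)] := by decide

theorem r2_2_6 (t u : F) : xM F 6 (-u) * xM F 2 (-t) * xM F 6 u * xM F 2 t =
    ((chevB2.commWord F 2 6 t u).map fun p => xM F p.1 p.2).prod := by
  unfold ChevalleyDatum.commWord
  rw [ct_2_6]
  simp only [List.map_cons, List.map_nil, List.prod_cons, List.prod_nil, mul_one]
  apply mat_ext5
  intro a b c d e
  simp only [← Matrix.mulVec_mulVec, xM_mk5_0, xM_mk5_1, xM_mk5_2, xM_mk5_3, xM_mk5_4, xM_mk5_5,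
    xM_mk5_6, xM_mk5_7, one_mulVec_mk5]
  apply mk5_ext <;> (push_cast; ring)

theorem ct_2_7 : chevB2.commTerms 2 7 = [(6, 1, 1, 1), (4, -1, 2, 1)] := by decide

theorem r2_2_7 (t u : F) : xM F 7 (-u) * xM F 2 (-t) * xM F 7 u * xM F 2 t =
    ((chevB2.commWord F 2 7 t u).map fun p => xM F p.1 p.2).prod := by
  unfold ChevalleyDatum.commWord
  rw [ct_2_7]
  simp only [List.map_cons, List.map_nil, List.prod_cons, List.prod_nil, mul_one]
  apply mat_ext5
  intro a b c d e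
  simp only [← Matrix.mulVec_mulVec, xM_mk5_0, xM_mk5_1, xM_mk5_2, xM_mk5_3, xM_mk5_4, xM_mk5_5,
    xM_mk5_6, xM_mk5_7, one_mulVec_mk5]
  apply mk5_ext <;> (push_cast; ring)

theorem ct_3_0 : chevB2.commTerms 3 0 = [] := by decide

theorem r2_3_0 (t u : F) : xM F 0 (-u) * xM F 3 (-t) * xM F 0 u * xM F 3 t =
    ((chevB2.commWord F 3 0 t u).map fun p => xM F p.1 p.2).prod := by
  unfold ChevalleyDatum.commWord
  rw [ct_3_0]
  simp only [List.map_cons, List.map_nil, List.prod_cons, List.prod_nil, mul_one]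
  apply mat_ext5
  intro a b c d e
  simp only [← Matrix.mulVec_mulVec, xM_mk5_0, xM_mk5_1, xM_mk5_2, xM_mk5_3, xM_mk5_4, xM_mk5_5,
    xM_mk5_6, xM_mk5_7, one_mulVec_mk5]
  apply mk5_ext <;> (push_cast; ring)

theorem ct_3_1 : chevB2.commTerms 3 1 = [] := by decide

theorem r2_3_1 (t u : F) : xM F 1 (-u) * xM F 3 (-t) * xM F 1 u * xM F 3 t =
    ((chevB2.commWord F 3 1 t u).map fun p => xM F p.1 p.2).prod := by
  unfold ChevalleyDatum.commWord
  rw [ct_3_1]
  simp only [List.map_cons, List.map_nil, List.prod_cons, List.prod_nil, mul_one]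
  apply mat_ext5
  intro a b c d e
  simp only [← Matrix.mulVec_mulVec, xM_mk5_0, xM_mk5_1, xM_mk5_2, xM_mk5_3, xM_mk5_4, xM_mk5_5,
    xM_mk5_6, xM_mk5_7, one_mulVec_mk5]
  apply mk5_ext <;> (push_cast; ring)

theorem ct_3_2 : chevB2.commTerms 3 2 = [(1, -1, 1, 1), (0, -1, 1, 2)] := by decide

theorem r2_3_2 (t u : F) : xM F 2 (-u) * xM F 3 (-t) * xM F 2 u * xM F 3 t =
    ((chevB2.commWord F 3 2 t u).map fun p => xM F p.1 p.2).prod := by
  unfold ChevalleyDatum.commWord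
  rw [ct_3_2]
  simp only [List.map_cons, List.map_nil, List.prod_cons, List.prod_nil, mul_one]
  apply mat_ext5
  intro a b c d e
  simp only [← Matrix.mulVec_mulVec, xM_mk5_0, xM_mk5_1, xM_mk5_2, xM_mk5_3, xM_mk5_4, xM_mk5_5,
    xM_mk5_6, xM_mk5_7, one_mulVec_mk5]
  apply mk5_ext <;> (push_cast; ring)

theorem ct_3_5 : chevB2.commTerms 3 5 = [] := by decide

theorem r2_3_5 (t u : F) : xM F 5 (-u) * xM F 3 (-t) * xM F 5 u * xM F 3 t =
    ((chevB2.commWord F 3 5 t u).map fun p => xM F p.1 p.2).prod := by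
  unfold ChevalleyDatum.commWord
  rw [ct_3_5]
  simp only [List.map_cons, List.map_nil, List.prod_cons, List.prod_nil, mul_one]
  apply mat_ext5
  intro a b c d e
  simp only [← Matrix.mulVec_mulVec, xM_mk5_0, xM_mk5_1, xM_mk5_2, xM_mk5_3, xM_mk5_4, xM_mk5_5,
    xM_mk5_6, xM_mk5_7, one_mulVec_mk5]
  apply mk5_ext <;> (push_cast; ring)

theorem ct_3_6 : chevB2.commTerms 3 6 = [(5, 1, 1, 1), (7, 1, 1, 2)] := by decide

theorem r2_3_6 (t u : F) : xM F 6 (-u) * xM F 3 (-t) * xM F 6 u * xM F 3 t =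
    ((chevB2.commWord F 3 6 t u).map fun p => xM F p.1 p.2).prod := by
  unfold ChevalleyDatum.commWord
  rw [ct_3_6]
  simp only [List.map_cons, List.map_nil, List.prod_cons, List.prod_nil, mul_one]
  apply mat_ext5
  intro a b c d e
  simp only [← Matrix.mulVec_mulVec, xM_mk5_0, xM_mk5_1, xM_mk5_2, xM_mk5_3, xM_mk5_4, xM_mk5_5,
    xM_mk5_6, xM_mk5_7, one_mulVec_mk5]
  apply mk5_ext <;> (push_cast; ring)

theorem ct_3_7 : chevB2.commTerms 3 7 = [] := by decide

theorem r2_3_7 (t u : F) : xM F 7 (-u) * xM F 3 (-t) * xM F 7 u * xM F 3 t =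
    ((chevB2.commWord F 3 7 t u).map fun p => xM F p.1 p.2).prod := by
  unfold ChevalleyDatum.commWord
  rw [ct_3_7]
  simp only [List.map_cons, List.map_nil, List.prod_cons, List.prod_nil, mul_one]
  apply mat_ext5
  intro a b c d e
  simp only [← Matrix.mulVec_mulVec, xM_mk5_0, xM_mk5_1, xM_mk5_2, xM_mk5_3, xM_mk5_4, xM_mk5_5,
    xM_mk5_6, xM_mk5_7, one_mulVec_mk5]
  apply mk5_ext <;> (push_cast; ring)

theorem ct_4_0 : chevB2.commTerms 4 0 = [] := by decide

theorem r2_4_0 (t u : F) : xM F 0 (-u) * xM F 4 (-t) * xM F 0 u * xM F 4 t =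
    ((chevB2.commWord F 4 0 t u).map fun p => xM F p.1 p.2).prod := by
  unfold ChevalleyDatum.commWord
  rw [ct_4_0]
  simp only [List.map_cons, List.map_nil, List.prod_cons, List.prod_nil, mul_one]
  apply mat_ext5
  intro a b c d e
  simp only [← Matrix.mulVec_mulVec, xM_mk5_0, xM_mk5_1, xM_mk5_2, xM_mk5_3, xM_mk5_4, xM_mk5_5,
    xM_mk5_6, xM_mk5_7, one_mulVec_mk5]
  apply mk5_ext <;> (push_cast; ring)

theorem ct_4_1 : chevB2.commTerms 4 1 = [(2, -1, 1, 1), (0, 1, 1, 2)] := by decide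

theorem r2_4_1 (t u : F) : xM F 1 (-u) * xM F 4 (-t) * xM F 1 u * xM F 4 t =
    ((chevB2.commWord F 4 1 t u).map fun p => xM F p.1 p.2).prod := by
  unfold ChevalleyDatum.commWord
  rw [ct_4_1]
  simp only [List.map_cons, List.map_nil, List.prod_cons, List.prod_nil, mul_one]
  apply mat_ext5
  intro a b c d e
  simp only [← Matrix.mulVec_mulVec, xM_mk5_0, xM_mk5_1, xM_mk5_2, xM_mk5_3, xM_mk5_4, xM_mk5_5,
    xM_mk5_6, xM_mk5_7, one_mulVec_mk5]
  apply mk5_ext <;> (push_cast; ring)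

theorem ct_4_2 : chevB2.commTerms 4 2 = [] := by decide

theorem r2_4_2 (t u : F) : xM F 2 (-u) * xM F 4 (-t) * xM F 2 u * xM F 4 t =
    ((chevB2.commWord F 4 2 t u).map fun p => xM F p.1 p.2).prod := by
  unfold ChevalleyDatum.commWord
  rw [ct_4_2]
  simp only [List.map_cons, List.map_nil, List.prod_cons, List.prod_nil, mul_one]
  apply mat_ext5
  intro a b c d e
  simp only [← Matrix.mulVec_mulVec, xM_mk5_0, xM_mk5_1, xM_mk5_2, xM_mk5_3, xM_mk5_4, xM_mk5_5,
    xM_mk5_6, xM_mk5_7, one_mulVec_mk5]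
  apply mk5_ext <;> (push_cast; ring)

theorem ct_4_5 : chevB2.commTerms 4 5 = [(6, 1, 1, 1), (7, -1, 1, 2)] := by decide

theorem r2_4_5 (t u : F) : xM F 5 (-u) * xM F 4 (-t) * xM F 5 u * xM F 4 t =
    ((chevB2.commWord F 4 5 t u).map fun p => xM F p.1 p.2).prod := by
  unfold ChevalleyDatum.commWord
  rw [ct_4_5]
  simp only [List.map_cons, List.map_nil, List.prod_cons, List.prod_nil, mul_one]
  apply mat_ext5
  intro a b c d e
  simp only [← Matrix.mulVec_mulVec, xM_mk5_0, xM_mk5_1, xM_mk5_2, xM_mk5_3, xM_mk5_4, xM_mk5_5,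
    xM_mk5_6, xM_mk5_7, one_mulVec_mk5]
  apply mk5_ext <;> (push_cast; ring)

theorem ct_4_6 : chevB2.commTerms 4 6 = [] := by decide

theorem r2_4_6 (t u : F) : xM F 6 (-u) * xM F 4 (-t) * xM F 6 u * xM F 4 t =
    ((chevB2.commWord F 4 6 t u).map fun p => xM F p.1 p.2).prod := by
  unfold ChevalleyDatum.commWord
  rw [ct_4_6]
  simp only [List.map_cons, List.map_nil, List.prod_cons, List.prod_nil, mul_one]
  apply mat_ext5
  intro a b c d e
  simp only [← Matrix.mulVec_mulVec, xM_mk5_0, xM_mk5_1, xM_mk5_2, xM_mk5_3, xM_mk5_4, xM_mk5_5,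
    xM_mk5_6, xM_mk5_7, one_mulVec_mk5]
  apply mk5_ext <;> (push_cast; ring)

theorem ct_4_7 : chevB2.commTerms 4 7 = [] := by decide

theorem r2_4_7 (t u : F) : xM F 7 (-u) * xM F 4 (-t) * xM F 7 u * xM F 4 t =
    ((chevB2.commWord F 4 7 t u).map fun p => xM F p.1 p.2).prod := by
  unfold ChevalleyDatum.commWord
  rw [ct_4_7]
  simp only [List.map_cons, List.map_nil, List.prod_cons, List.prod_nil, mul_one]
  apply mat_ext5
  intro a b c d e
  simp only [← Matrix.mulVec_mulVec, xM_mk5_0, xM_mk5_1, xM_mk5_2, xM_mk5_3, xM_mk5_4, xM_mk5_5,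
    xM_mk5_6, xM_mk5_7, one_mulVec_mk5]
  apply mk5_ext <;> (push_cast; ring)

theorem ct_5_0 : chevB2.commTerms 5 0 = [(1, -1, 1, 1), (3, -1, 2, 1)] := by decide

theorem r2_5_0 (t u : F) : xM F 0 (-u) * xM F 5 (-t) * xM F 0 u * xM F 5 t =
    ((chevB2.commWord F 5 0 t u).map fun p => xM F p.1 p.2).prod := by
  unfold ChevalleyDatum.commWord
  rw [ct_5_0]
  simp only [List.map_cons, List.map_nil, List.prod_cons, List.prod_nil, mul_one]
  apply mat_ext5
  intro a b c d e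
  simp only [← Matrix.mulVec_mulVec, xM_mk5_0, xM_mk5_1, xM_mk5_2, xM_mk5_3, xM_mk5_4, xM_mk5_5,
    xM_mk5_6, xM_mk5_7, one_mulVec_mk5]
  apply mk5_ext <;> (push_cast; ring)

theorem ct_5_1 : chevB2.commTerms 5 1 = [(3, 2, 1, 1)] := by decide

theorem r2_5_1 (t u : F) : xM F 1 (-u) * xM F 5 (-t) * xM F 1 u * xM F 5 t =
    ((chevB2.commWord F 5 1 t u).map fun p => xM F p.1 p.2).prod := by
  unfold ChevalleyDatum.commWord
  rw [ct_5_1]
  simp only [List.map_cons, List.map_nil, List.prod_cons, List.prod_nil, mul_one]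
  apply mat_ext5
  intro a b c d e
  simp only [← Matrix.mulVec_mulVec, xM_mk5_0, xM_mk5_1, xM_mk5_2, xM_mk5_3, xM_mk5_4, xM_mk5_5,
    xM_mk5_6, xM_mk5_7, one_mulVec_mk5]
  apply mk5_ext <;> (push_cast; ring)

theorem ct_5_3 : chevB2.commTerms 5 3 = [] := by decide

theorem r2_5_3 (t u : F) : xM F 3 (-u) * xM F 5 (-t) * xM F 3 u * xM F 5 t =
    ((chevB2.commWord F 5 3 t u).map fun p => xM F p.1 p.2).prod := by
  unfold ChevalleyDatum.commWord
  rw [ct_5_3]
  simp only [List.map_cons, List.map_nil, List.prod_cons, List.prod_nil, mul_one]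
  apply mat_ext5
  intro a b c d e
  simp only [← Matrix.mulVec_mulVec, xM_mk5_0, xM_mk5_1, xM_mk5_2, xM_mk5_3, xM_mk5_4, xM_mk5_5,
    xM_mk5_6, xM_mk5_7, one_mulVec_mk5]
  apply mk5_ext <;> (push_cast; ring)

theorem ct_5_4 : chevB2.commTerms 5 4 = [(6, -1, 1, 1), (7, -1, 2, 1)] := by decide

theorem r2_5_4 (t u : F) : xM F 4 (-u) * xM F 5 (-t) * xM F 4 u * xM F 5 t =
    ((chevB2.commWord F 5 4 t u).map fun p => xM F p.1 p.2).prod := by
  unfold ChevalleyDatum.commWord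
  rw [ct_5_4]
  simp only [List.map_cons, List.map_nil, List.prod_cons, List.prod_nil, mul_one]
  apply mat_ext5
  intro a b c d e
  simp only [← Matrix.mulVec_mulVec, xM_mk5_0, xM_mk5_1, xM_mk5_2, xM_mk5_3, xM_mk5_4, xM_mk5_5,
    xM_mk5_6, xM_mk5_7, one_mulVec_mk5]
  apply mk5_ext <;> (push_cast; ring)

theorem ct_5_6 : chevB2.commTerms 5 6 = [(7, 2, 1, 1)] := by decide

theorem r2_5_6 (t u : F) : xM F 6 (-u) * xM F 5 (-t) * xM F 6 u * xM F 5 t =
    ((chevB2.commWord F 5 6 t u).map fun p => xM F p.1 p.2).prod := by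
  unfold ChevalleyDatum.commWord
  rw [ct_5_6]
  simp only [List.map_cons, List.map_nil, List.prod_cons, List.prod_nil, mul_one]
  apply mat_ext5
  intro a b c d e
  simp only [← Matrix.mulVec_mulVec, xM_mk5_0, xM_mk5_1, xM_mk5_2, xM_mk5_3, xM_mk5_4, xM_mk5_5,
    xM_mk5_6, xM_mk5_7, one_mulVec_mk5]
  apply mk5_ext <;> (push_cast; ring)

theorem ct_5_7 : chevB2.commTerms 5 7 = [] := by decide

theorem r2_5_7 (t u : F) : xM F 7 (-u) * xM F 5 (-t) * xM F 7 u * xM F 5 t =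
    ((chevB2.commWord F 5 7 t u).map fun p => xM F p.1 p.2).prod := by
  unfold ChevalleyDatum.commWord
  rw [ct_5_7]
  simp only [List.map_cons, List.map_nil, List.prod_cons, List.prod_nil, mul_one]
  apply mat_ext5
  intro a b c d e
  simp only [← Matrix.mulVec_mulVec, xM_mk5_0, xM_mk5_1, xM_mk5_2, xM_mk5_3, xM_mk5_4, xM_mk5_5,
    xM_mk5_6, xM_mk5_7, one_mulVec_mk5]
  apply mk5_ext <;> (push_cast; ring)

theorem ct_6_0 : chevB2.commTerms 6 0 = [(2, 1, 1, 1), (4, 1, 2, 1)] := by decide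

theorem r2_6_0 (t u : F) : xM F 0 (-u) * xM F 6 (-t) * xM F 0 u * xM F 6 t =
    ((chevB2.commWord F 6 0 t u).map fun p => xM F p.1 p.2).prod := by
  unfold ChevalleyDatum.commWord
  rw [ct_6_0]
  simp only [List.map_cons, List.map_nil, List.prod_cons, List.prod_nil, mul_one]
  apply mat_ext5
  intro a b c d e
  simp only [← Matrix.mulVec_mulVec, xM_mk5_0, xM_mk5_1, xM_mk5_2, xM_mk5_3, xM_mk5_4, xM_mk5_5,
    xM_mk5_6, xM_mk5_7, one_mulVec_mk5]
  apply mk5_ext <;> (push_cast; ring)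

theorem ct_6_2 : chevB2.commTerms 6 2 = [(4, 2, 1, 1)] := by decide

theorem r2_6_2 (t u : F) : xM F 2 (-u) * xM F 6 (-t) * xM F 2 u * xM F 6 t =
    ((chevB2.commWord F 6 2 t u).map fun p => xM F p.1 p.2).prod := by
  unfold ChevalleyDatum.commWord
  rw [ct_6_2]
  simp only [List.map_cons, List.map_nil, List.prod_cons, List.prod_nil, mul_one]
  apply mat_ext5
  intro a b c d e
  simp only [← Matrix.mulVec_mulVec, xM_mk5_0, xM_mk5_1, xM_mk5_2, xM_mk5_3, xM_mk5_4, xM_mk5_5,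
    xM_mk5_6, xM_mk5_7, one_mulVec_mk5]
  apply mk5_ext <;> (push_cast; ring)

theorem ct_6_3 : chevB2.commTerms 6 3 = [(5, -1, 1, 1), (7, 1, 2, 1)] := by decide

theorem r2_6_3 (t u : F) : xM F 3 (-u) * xM F 6 (-t) * xM F 3 u * xM F 6 t =
    ((chevB2.commWord F 6 3 t u).map fun p => xM F p.1 p.2).prod := by
  unfold ChevalleyDatum.commWord
  rw [ct_6_3]
  simp only [List.map_cons, List.map_nil, List.prod_cons, List.prod_nil, mul_one]
  apply mat_ext5
  intro a b c d e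
  simp only [← Matrix.mulVec_mulVec, xM_mk5_0, xM_mk5_1, xM_mk5_2, xM_mk5_3, xM_mk5_4, xM_mk5_5,
    xM_mk5_6, xM_mk5_7, one_mulVec_mk5]
  apply mk5_ext <;> (push_cast; ring)

theorem ct_6_4 : chevB2.commTerms 6 4 = [] := by decide

theorem r2_6_4 (t u : F) : xM F 4 (-u) * xM F 6 (-t) * xM F 4 u * xM F 6 t =
    ((chevB2.commWord F 6 4 t u).map fun p => xM F p.1 p.2).prod := by
  unfold ChevalleyDatum.commWord
  rw [ct_6_4]
  simp only [List.map_cons, List.map_nil, List.prod_cons, List.prod_nil, mul_one]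
  apply mat_ext5
  intro a b c d e
  simp only [← Matrix.mulVec_mulVec, xM_mk5_0, xM_mk5_1, xM_mk5_2, xM_mk5_3, xM_mk5_4, xM_mk5_5,
    xM_mk5_6, xM_mk5_7, one_mulVec_mk5]
  apply mk5_ext <;> (push_cast; ring)

theorem ct_6_5 : chevB2.commTerms 6 5 = [(7, -2, 1, 1)] := by decide

theorem r2_6_5 (t u : F) : xM F 5 (-u) * xM F 6 (-t) * xM F 5 u * xM F 6 t =
    ((chevB2.commWord F 6 5 t u).map fun p => xM F p.1 p.2).prod := by
  unfold ChevalleyDatum.commWord
  rw [ct_6_5]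
  simp only [List.map_cons, List.map_nil, List.prod_cons, List.prod_nil, mul_one]
  apply mat_ext5
  intro a b c d e
  simp only [← Matrix.mulVec_mulVec, xM_mk5_0, xM_mk5_1, xM_mk5_2, xM_mk5_3, xM_mk5_4, xM_mk5_5,
    xM_mk5_6, xM_mk5_7, one_mulVec_mk5]
  apply mk5_ext <;> (push_cast; ring)

theorem ct_6_7 : chevB2.commTerms 6 7 = [] := by decide

theorem r2_6_7 (t u : F) : xM F 7 (-u) * xM F 6 (-t) * xM F 7 u * xM F 6 t =
    ((chevB2.commWord F 6 7 t u).map fun p => xM F p.1 p.2).prod := by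
  unfold ChevalleyDatum.commWord
  rw [ct_6_7]
  simp only [List.map_cons, List.map_nil, List.prod_cons, List.prod_nil, mul_one]
  apply mat_ext5
  intro a b c d e
  simp only [← Matrix.mulVec_mulVec, xM_mk5_0, xM_mk5_1, xM_mk5_2, xM_mk5_3, xM_mk5_4, xM_mk5_5,
    xM_mk5_6, xM_mk5_7, one_mulVec_mk5]
  apply mk5_ext <;> (push_cast; ring)

theorem ct_7_1 : chevB2.commTerms 7 1 = [(5, 1, 1, 1), (3, 1, 1, 2)] := by decide

theorem r2_7_1 (t u : F) : xM F 1 (-u) * xM F 7 (-t) * xM F 1 u * xM F 7 t =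
    ((chevB2.commWord F 7 1 t u).map fun p => xM F p.1 p.2).prod := by
  unfold ChevalleyDatum.commWord
  rw [ct_7_1]
  simp only [List.map_cons, List.map_nil, List.prod_cons, List.prod_nil, mul_one]
  apply mat_ext5
  intro a b c d e
  simp only [← Matrix.mulVec_mulVec, xM_mk5_0, xM_mk5_1, xM_mk5_2, xM_mk5_3, xM_mk5_4, xM_mk5_5,
    xM_mk5_6, xM_mk5_7, one_mulVec_mk5]
  apply mk5_ext <;> (push_cast; ring)

theorem ct_7_2 : chevB2.commTerms 7 2 = [(6, -1, 1, 1), (4, -1, 1, 2)] := by decide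

theorem r2_7_2 (t u : F) : xM F 2 (-u) * xM F 7 (-t) * xM F 2 u * xM F 7 t =
    ((chevB2.commWord F 7 2 t u).map fun p => xM F p.1 p.2).prod := by
  unfold ChevalleyDatum.commWord
  rw [ct_7_2]
  simp only [List.map_cons, List.map_nil, List.prod_cons, List.prod_nil, mul_one]
  apply mat_ext5
  intro a b c d e
  simp only [← Matrix.mulVec_mulVec, xM_mk5_0, xM_mk5_1, xM_mk5_2, xM_mk5_3, xM_mk5_4, xM_mk5_5,
    xM_mk5_6, xM_mk5_7, one_mulVec_mk5]
  apply mk5_ext <;> (push_cast; ring)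

theorem ct_7_3 : chevB2.commTerms 7 3 = [] := by decide

theorem r2_7_3 (t u : F) : xM F 3 (-u) * xM F 7 (-t) * xM F 3 u * xM F 7 t =
    ((chevB2.commWord F 7 3 t u).map fun p => xM F p.1 p.2).prod := by
  unfold ChevalleyDatum.commWord
  rw [ct_7_3]
  simp only [List.map_cons, List.map_nil, List.prod_cons, List.prod_nil, mul_one]
  apply mat_ext5
  intro a b c d e
  simp only [← Matrix.mulVec_mulVec, xM_mk5_0, xM_mk5_1, xM_mk5_2, xM_mk5_3, xM_mk5_4, xM_mk5_5,
    xM_mk5_6, xM_mk5_7, one_mulVec_mk5]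
  apply mk5_ext <;> (push_cast; ring)

theorem ct_7_4 : chevB2.commTerms 7 4 = [] := by decide

theorem r2_7_4 (t u : F) : xM F 4 (-u) * xM F 7 (-t) * xM F 4 u * xM F 7 t =
    ((chevB2.commWord F 7 4 t u).map fun p => xM F p.1 p.2).prod := by
  unfold ChevalleyDatum.commWord
  rw [ct_7_4]
  simp only [List.map_cons, List.map_nil, List.prod_cons, List.prod_nil, mul_one]
  apply mat_ext5
  intro a b c d e
  simp only [← Matrix.mulVec_mulVec, xM_mk5_0, xM_mk5_1, xM_mk5_2, xM_mk5_3, xM_mk5_4, xM_mk5_5,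
    xM_mk5_6, xM_mk5_7, one_mulVec_mk5]
  apply mk5_ext <;> (push_cast; ring)

theorem ct_7_5 : chevB2.commTerms 7 5 = [] := by decide

theorem r2_7_5 (t u : F) : xM F 5 (-u) * xM F 7 (-t) * xM F 5 u * xM F 7 t =
    ((chevB2.commWord F 7 5 t u).map fun p => xM F p.1 p.2).prod := by
  unfold ChevalleyDatum.commWord
  rw [ct_7_5]
  simp only [List.map_cons, List.map_nil, List.prod_cons, List.prod_nil, mul_one]
  apply mat_ext5
  intro a b c d e
  simp only [← Matrix.mulVec_mulVec, xM_mk5_0, xM_mk5_1, xM_mk5_2, xM_mk5_3, xM_mk5_4, xM_mk5_5,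
    xM_mk5_6, xM_mk5_7, one_mulVec_mk5]
  apply mk5_ext <;> (push_cast; ring)

theorem ct_7_6 : chevB2.commTerms 7 6 = [] := by decide

theorem r2_7_6 (t u : F) : xM F 6 (-u) * xM F 7 (-t) * xM F 6 u * xM F 7 t =
    ((chevB2.commWord F 7 6 t u).map fun p => xM F p.1 p.2).prod := by
  unfold ChevalleyDatum.commWord
  rw [ct_7_6]
  simp only [List.map_cons, List.map_nil, List.prod_cons, List.prod_nil, mul_one]
  apply mat_ext5
  intro a b c d e
  simp only [← Matrix.mulVec_mulVec, xM_mk5_0, xM_mk5_1, xM_mk5_2, xM_mk5_3, xM_mk5_4, xM_mk5_5,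
    xM_mk5_6, xM_mk5_7, one_mulVec_mk5]
  apply mk5_ext <;> (push_cast; ring)

/-- (R2) for all pairs -/
theorem r2 (r s : ℕ) (hr : r < 8) (hs : s < 8) (h1 : s ≠ r) (h2 : s ≠ chevB2.neg r) (t u : F) :
    xM F s (-u) * xM F r (-t) * xM F s u * xM F r t =
      ((chevB2.commWord F r s t u).map fun p => xM F p.1 p.2).prod := by
  interval_cases r
  · interval_cases s
    · exact absurd rfl h1
    · exact r2_0_1 t u
    · exact r2_0_2 t u
    · exact r2_0_3 t u
    · exact r2_0_4 t u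
    · exact r2_0_5 t u
    · exact r2_0_6 t u
    · exact absurd (by decide) h2
  · interval_cases s
    · exact r2_1_0 t u
    · exact absurd rfl h1
    · exact r2_1_2 t u
    · exact r2_1_3 t u
    · exact r2_1_4 t u
    · exact r2_1_5 t u
    · exact absurd (by decide) h2
    · exact r2_1_7 t u
  · interval_cases s
    · exact r2_2_0 t u
    · exact r2_2_1 t u
    · exact absurd rfl h1
    · exact r2_2_3 t u
    · exact r2_2_4 t u
    · exact absurd (by decide) h2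
    · exact r2_2_6 t u
    · exact r2_2_7 t u
  · interval_cases s
    · exact r2_3_0 t u
    · exact r2_3_1 t u
    · exact r2_3_2 t u
    · exact absurd rfl h1
    · exact absurd (by decide) h2
    · exact r2_3_5 t u
    · exact r2_3_6 t u
    · exact r2_3_7 t u
  · interval_cases s
    · exact r2_4_0 t u
    · exact r2_4_1 t u
    · exact r2_4_2 t u
    · exact absurd (by decide) h2
    · exact absurd rfl h1
    · exact r2_4_5 t u
    · exact r2_4_6 t u
    · exact r2_4_7 t u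
  · interval_cases s
    · exact r2_5_0 t u
    · exact r2_5_1 t u
    · exact absurd (by decide) h2
    · exact r2_5_3 t u
    · exact r2_5_4 t u
    · exact absurd rfl h1
    · exact r2_5_6 t u
    · exact r2_5_7 t u
  · interval_cases s
    · exact r2_6_0 t u
    · exact absurd (by decide) h2
    · exact r2_6_2 t u
    · exact r2_6_3 t u
    · exact r2_6_4 t u
    · exact r2_6_5 t u
    · exact absurd rfl h1
    · exact r2_6_7 t u
  · interval_cases s
    · exact absurd (by decide) h2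
    · exact r2_7_1 t u
    · exact r2_7_2 t u
    · exact r2_7_3 t u
    · exact r2_7_4 t u
    · exact r2_7_5 t u
    · exact r2_7_6 t u
    · exact absurd rfl h1

end Cfsg.Agent.Lib.Helper13_B2R2
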