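import Mathlib
import Cfsg.Agent.Lib.Helper13_B2Defs

/-!
S1083 (helper13): the relations (R3) of `chevB2` for the 5 × 5 root elements: `h_r(t)` is an explicit diagonal
matrix, hence multiplicative in `t`.
-/

set_option autoImplicit false

namespace Cfsg.Agent.Lib.Helper13_B2R3

open Cfsg Cfsg.Lie Cfsg.Agent.Lib.Helper13_B2Defs Matrix

variable {F : Type*} [Field F]

/-- the product of the root elements of a word -/
def wordM (F : Type*) [Field F] (w : List (ℕ × F)) : Matrix I5 I5 F := (w.map fun p => xM F p.1 p.2).prod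

theorem dM_mul (x y z x' y' z' : F) : dM F x y z * dM F x' y' z' = dM F (x * x') (y * y') (z * z') := by
  apply mat_ext5
  intro a b c d e
  rw [← Matrix.mulVec_mulVec, dM_mk5, dM_mk5, dM_mk5]
  apply mk5_ext <;> (try simp only [mul_inv]) <;> ring

theorem neg_0 : chevB2.neg 0 = 7 := by decide

theorem hM_0 (t : F) (ht : t ≠ 0) : wordM F (chevB2.hWord 0 t) = dM F 1 (t⁻¹) (t⁻¹) := by
  unfold wordM ChevalleyDatum.hWord ChevalleyDatum.nWord
  rw [neg_0]
  simp only [List.cons_append, List.nil_append, List.map_cons, List.map_nil, List.prod_cons, List.prod_nil,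
    mul_one]
  apply mat_ext5
  intro a b c d e
  simp only [← Matrix.mulVec_mulVec, xM_mk5_0, xM_mk5_1, xM_mk5_2, xM_mk5_3, xM_mk5_4, xM_mk5_5,
    xM_mk5_6, xM_mk5_7, dM_mk5]
  apply mk5_ext <;> (field_simp; try ring)

theorem neg_1 : chevB2.neg 1 = 6 := by decide

theorem hM_1 (t : F) (ht : t ≠ 0) : wordM F (chevB2.hWord 1 t) = dM F 1 ((t ^ 2)⁻¹) (1) := by
  unfold wordM ChevalleyDatum.hWord ChevalleyDatum.nWord
  rw [neg_1]
  simp only [List.cons_append, List.nil_append, List.map_cons, List.map_nil, List.prod_cons, List.prod_nil,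
    mul_one]
  apply mat_ext5
  intro a b c d e
  simp only [← Matrix.mulVec_mulVec, xM_mk5_0, xM_mk5_1, xM_mk5_2, xM_mk5_3, xM_mk5_4, xM_mk5_5,
    xM_mk5_6, xM_mk5_7, dM_mk5]
  apply mk5_ext <;> (field_simp; try ring)

theorem neg_2 : chevB2.neg 2 = 5 := by decide

theorem hM_2 (t : F) (ht : t ≠ 0) : wordM F (chevB2.hWord 2 t) = dM F 1 (1) ((t ^ 2)⁻¹) := by
  unfold wordM ChevalleyDatum.hWord ChevalleyDatum.nWord
  rw [neg_2]
  simp only [List.cons_append, List.nil_append, List.map_cons, List.map_nil, List.prod_cons, List.prod_nil,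
    mul_one]
  apply mat_ext5
  intro a b c d e
  simp only [← Matrix.mulVec_mulVec, xM_mk5_0, xM_mk5_1, xM_mk5_2, xM_mk5_3, xM_mk5_4, xM_mk5_5,
    xM_mk5_6, xM_mk5_7, dM_mk5]
  apply mk5_ext <;> (field_simp; try ring)

theorem neg_3 : chevB2.neg 3 = 4 := by decide

theorem hM_3 (t : F) (ht : t ≠ 0) : wordM F (chevB2.hWord 3 t) = dM F 1 (t⁻¹) (t) := by
  unfold wordM ChevalleyDatum.hWord ChevalleyDatum.nWord
  rw [neg_3]
  simp only [List.cons_append, List.nil_append, List.map_cons, List.map_nil, List.prod_cons, List.prod_nil,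
    mul_one]
  apply mat_ext5
  intro a b c d e
  simp only [← Matrix.mulVec_mulVec, xM_mk5_0, xM_mk5_1, xM_mk5_2, xM_mk5_3, xM_mk5_4, xM_mk5_5,
    xM_mk5_6, xM_mk5_7, dM_mk5]
  apply mk5_ext <;> (field_simp; try ring)

theorem neg_4 : chevB2.neg 4 = 3 := by decide

theorem hM_4 (t : F) (ht : t ≠ 0) : wordM F (chevB2.hWord 4 t) = dM F 1 (t) (t⁻¹) := by
  unfold wordM ChevalleyDatum.hWord ChevalleyDatum.nWord
  rw [neg_4]
  simp only [List.cons_append, List.nil_append, List.map_cons, List.map_nil, List.prod_cons, List.prod_nil,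
    mul_one]
  apply mat_ext5
  intro a b c d e
  simp only [← Matrix.mulVec_mulVec, xM_mk5_0, xM_mk5_1, xM_mk5_2, xM_mk5_3, xM_mk5_4, xM_mk5_5,
    xM_mk5_6, xM_mk5_7, dM_mk5]
  apply mk5_ext <;> (field_simp; try ring)

theorem neg_5 : chevB2.neg 5 = 2 := by decide

theorem hM_5 (t : F) (ht : t ≠ 0) : wordM F (chevB2.hWord 5 t) = dM F 1 (1) (t ^ 2) := by
  unfold wordM ChevalleyDatum.hWord ChevalleyDatum.nWord
  rw [neg_5]
  simp only [List.cons_append, List.nil_append, List.map_cons, List.map_nil, List.prod_cons, List.prod_nil,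
    mul_one]
  apply mat_ext5
  intro a b c d e
  simp only [← Matrix.mulVec_mulVec, xM_mk5_0, xM_mk5_1, xM_mk5_2, xM_mk5_3, xM_mk5_4, xM_mk5_5,
    xM_mk5_6, xM_mk5_7, dM_mk5]
  apply mk5_ext <;> (field_simp; try ring)

theorem neg_6 : chevB2.neg 6 = 1 := by decide

theorem hM_6 (t : F) (ht : t ≠ 0) : wordM F (chevB2.hWord 6 t) = dM F 1 (t ^ 2) (1) := by
  unfold wordM ChevalleyDatum.hWord ChevalleyDatum.nWord
  rw [neg_6]
  simp only [List.cons_append, List.nil_append, List.map_cons, List.map_nil, List.prod_cons, List.prod_nil,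
    mul_one]
  apply mat_ext5
  intro a b c d e
  simp only [← Matrix.mulVec_mulVec, xM_mk5_0, xM_mk5_1, xM_mk5_2, xM_mk5_3, xM_mk5_4, xM_mk5_5,
    xM_mk5_6, xM_mk5_7, dM_mk5]
  apply mk5_ext <;> (field_simp; try ring)

theorem neg_7 : chevB2.neg 7 = 0 := by decide

theorem hM_7 (t : F) (ht : t ≠ 0) : wordM F (chevB2.hWord 7 t) = dM F 1 (t) (t) := by
  unfold wordM ChevalleyDatum.hWord ChevalleyDatum.nWord
  rw [neg_7]
  simp only [List.cons_append, List.nil_append, List.map_cons, List.map_nil, List.prod_cons, List.prod_nil,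
    mul_one]
  apply mat_ext5
  intro a b c d e
  simp only [← Matrix.mulVec_mulVec, xM_mk5_0, xM_mk5_1, xM_mk5_2, xM_mk5_3, xM_mk5_4, xM_mk5_5,
    xM_mk5_6, xM_mk5_7, dM_mk5]
  apply mk5_ext <;> (field_simp; try ring)

/-- (R3) for all roots -/
theorem r3 (r : ℕ) (hr : r < 8) (t₁ t₂ : F) (h₁ : t₁ ≠ 0) (h₂ : t₂ ≠ 0) :
    wordM F (chevB2.hWord r t₁) * wordM F (chevB2.hWord r t₂) = wordM F (chevB2.hWord r (t₁ * t₂)) := by
  have h₁₂ : t₁ * t₂ ≠ 0 := mul_ne_zero h₁ h₂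
  interval_cases r
  · rw [hM_0 t₁ h₁, hM_0 t₂ h₂, hM_0 _ h₁₂, dM_mul]
    congr 1 <;> (field_simp)
  · rw [hM_1 t₁ h₁, hM_1 t₂ h₂, hM_1 _ h₁₂, dM_mul]
    congr 1 <;> (field_simp)
  · rw [hM_2 t₁ h₁, hM_2 t₂ h₂, hM_2 _ h₁₂, dM_mul]
    congr 1 <;> (field_simp)
  · rw [hM_3 t₁ h₁, hM_3 t₂ h₂, hM_3 _ h₁₂, dM_mul]
    congr 1 <;> (field_simp)
  · rw [hM_4 t₁ h₁, hM_4 t₂ h₂, hM_4 _ h₁₂, dM_mul]
    congr 1 <;> (field_simp)
  · rw [hM_5 t₁ h₁, hM_5 t₂ h₂, hM_5 _ h₁₂, dM_mul]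
    congr 1 <;> (field_simp)
  · rw [hM_6 t₁ h₁, hM_6 t₂ h₂, hM_6 _ h₁₂, dM_mul]
    congr 1 <;> (field_simp)
  · rw [hM_7 t₁ h₁, hM_7 t₂ h₂, hM_7 _ h₁₂, dM_mul]
    congr 1 <;> (field_simp)

end Cfsg.Agent.Lib.Helper13_B2R3
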