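import Mathlib
import Cfsg.Agent.Lib.Helper13_B2Defs
import Cfsg.Agent.Lib.Helper13_B2R2
import Cfsg.Agent.Lib.Helper13_B2R3

/-!
S1083 (helper13): the homomorphism from the Steinberg group of type `B₂` onto the subgroup `E5` of `O(Q5)`
generated by the root elements.
-/

set_option autoImplicit false

namespace Cfsg.Agent.Lib.Helper13_B2Hom

open Cfsg Cfsg.Lie Cfsg.Agent.Lib.Helper13_B2Defs Cfsg.Agent.Lib.Helper13_B2R2
  Cfsg.Agent.Lib.Helper13_B2R3 Matrix

variable {F : Type*} [Field F]

theorem nroots_eq : chevB2.nroots = 8 := rfl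

/-- product of root elements in `GL` along a word -/
def wordGL (F : Type*) [Field F] (w : List (ℕ × F)) : GL I5 F := (w.map fun p => xGL F p.1 p.2).prod

theorem xGL_coe (r : ℕ) (t : F) : ((xGL F r t : GL I5 F) : Matrix I5 I5 F) = xM F r t := rfl

theorem xGL_ge (r : ℕ) (hr : ¬ r < 8) (t : F) : xGL F r t = 1 := by
  apply Units.ext
  rw [xGL_coe, xM_ge r hr]
  rfl

theorem xGL_add (r : ℕ) (t₁ t₂ : F) : xGL F r t₁ * xGL F r t₂ = xGL F r (t₁ + t₂) := by
  apply Units.ext
  rw [Units.val_mul, xGL_coe, xGL_coe, xGL_coe, xM_add]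

theorem xGL_inv (r : ℕ) (t : F) : (xGL F r t)⁻¹ = xGL F r (-t) := by
  rw [inv_eq_iff_mul_eq_one, xGL_add, add_neg_cancel]
  apply Units.ext
  rw [xGL_coe, xM_zero]
  rfl

theorem wordGL_coe (w : List (ℕ × F)) : ((wordGL F w : GL I5 F) : Matrix I5 I5 F) = wordM F w := by
  unfold wordGL wordM
  induction w with
  | nil => simp
  | cons p w ih =>
    rw [List.map_cons, List.prod_cons, List.map_cons, List.prod_cons, Units.val_mul, ih]
    rfl

/-- the generators in `GL` -/
def genGL (F : Type*) [Field F] : Fin chevB2.nroots × F → GL I5 F := fun p => xGL F p.1.val p.2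

theorem lift_stX (r : ℕ) (t : F) : FreeGroup.lift (genGL F) (chevB2.stX r t) = xGL F r t := by
  unfold ChevalleyDatum.stX
  by_cases hr : r < chevB2.nroots
  · rw [dif_pos hr, FreeGroup.lift_apply_of]
    rfl
  · rw [dif_neg hr, map_one, xGL_ge r hr]

theorem lift_stWord (w : List (ℕ × F)) : FreeGroup.lift (genGL F) (chevB2.stWord w) = wordGL F w := by
  unfold ChevalleyDatum.stWord wordGL
  rw [map_list_prod, List.map_map]
  congr 1
  apply List.map_congr_left
  intro p _
  exact lift_stX p.1 p.2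

/-- all Steinberg relators hold for the 5 × 5 root elements -/
theorem lift_rels : ∀ g ∈ chevB2.steinbergRels F, FreeGroup.lift (genGL F) g = 1 := by
  rintro g ((⟨r, t₁, t₂, hr, rfl⟩ | ⟨r, s, t, u, hr, hs, h1, h2, rfl⟩) | ⟨r, t₁, t₂, hr, h₁, h₂, rfl⟩)
  · rw [map_mul, map_mul, map_inv, lift_stX, lift_stX, lift_stX, xGL_add, mul_inv_cancel]
  · rw [map_mul, map_mul, map_mul, map_mul, map_inv, map_inv, map_inv, lift_stX, lift_stX, lift_stWord]
    rw [mul_inv_eq_one, xGL_inv, xGL_inv]
    apply Units.ext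
    rw [Units.val_mul, Units.val_mul, Units.val_mul, xGL_coe, xGL_coe, xGL_coe, xGL_coe, wordGL_coe]
    exact r2 r s hr hs h1 h2 t u
  · unfold ChevalleyDatum.stH
    rw [map_mul, map_mul, map_inv, lift_stWord, lift_stWord, lift_stWord, mul_inv_eq_one]
    apply Units.ext
    rw [Units.val_mul, wordGL_coe, wordGL_coe, wordGL_coe]
    exact r3 r hr t₁ t₂ h₁ h₂

/-- the generators in `E5` -/
def genE (F : Type*) [Field F] : Fin chevB2.nroots × F → ↥(E5 F) :=
  fun p => ⟨xO F p.1.val p.2, Subgroup.subset_closure ⟨p.1.val, p.2, rfl⟩⟩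

/-- the coercion `E5 → GL` as a monoid hom -/
def coeGL (F : Type*) [Field F] : ↥(E5 F) →* GL I5 F := (O5 F).subtype.comp (E5 F).subtype

theorem coeGL_injective : Function.Injective (coeGL F) := by
  intro a b h
  apply Subtype.ext
  apply Subtype.ext
  exact h

theorem coeGL_genE (p : Fin chevB2.nroots × F) : coeGL F (genE F p) = genGL F p := rfl

theorem lift_rels_E : ∀ g ∈ chevB2.steinbergRels F, FreeGroup.lift (genE F) g = 1 := by
  intro g hg
  apply coeGL_injective
  rw [map_one]
  have h : (coeGL F).comp (FreeGroup.lift (genE F)) = FreeGroup.lift (genGL F) := by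
    apply FreeGroup.ext_hom
    intro p
    simp only [MonoidHom.comp_apply, FreeGroup.lift_apply_of]
    rfl
  have := lift_rels g hg
  rw [← h] at this
  exact this

/-- the homomorphism from the Steinberg group onto `E5` -/
def phi (F : Type*) [Field F] : chevB2.SteinbergGroup F →* ↥(E5 F) :=
  PresentedGroup.toGroup (f := genE F) lift_rels_E

theorem phi_of (p : Fin chevB2.nroots × F) : phi F (PresentedGroup.of p) = genE F p :=
  PresentedGroup.toGroup.of lift_rels_E

theorem phi_surjective : Function.Surjective (phi F) := by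
  rw [← MonoidHom.range_eq_top, eq_top_iff]
  rintro ⟨g, hg⟩ _
  -- induction on the closure
  have key : ∀ g : ↥(O5 F), ∀ hg : g ∈ E5 F, (⟨g, hg⟩ : ↥(E5 F)) ∈ (phi F).range := by
    intro g hg
    induction hg using Subgroup.closure_induction with
    | mem x hx =>
      obtain ⟨r, t, rfl⟩ := hx
      by_cases hr : r < chevB2.nroots
      · refine ⟨PresentedGroup.of (⟨r, hr⟩, t), ?_⟩
        rw [phi_of]
        rfl
      · refine ⟨1, ?_⟩
        rw [map_one]
        apply Subtype.ext
        apply Subtype.ext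
        exact (xGL_ge r hr t).symm
    | one => exact (phi F).range.one_mem
    | mul x y hx hy hx' hy' => exact (phi F).range.mul_mem hx' hy'
    | inv x hx hx' => exact (phi F).range.inv_mem hx'
  exact key g hg

end Cfsg.Agent.Lib.Helper13_B2Hom
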