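import Mathlib
import Cfsg.Prelude.Def_OddOrder
import Cfsg.Agent.Lib.Helper84_RelSylow
import Cfsg.Agent.Lib.Helper31_AG
import Cfsg.Agent.S1450

/-!
# Piece P3b of S1421 (B-G 12.11), statement by helper47

For `A = Ω₁(P)` of order `p²`, `P` an abelian Sylow `p`-subgroup of a minimal simple group of odd
order: `N_G(A)' ≤ C_G(A)`.  Apply S1450 to the solvable group `N_G(A)` of `p`-rank `2`:
`N' ≤ O_{p',p}(N) = O_{p'}(N) (P ∩ O_{p',p}(N))`, and both factors centralize `A`.
-/

set_option autoImplicit false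

namespace Cfsg.Agent.Lib.Helper13_BG1211b

open Subgroup Cfsg Cfsg.Agent.Lib.Helper84_RelSylow

variable {G : Type*} [Group G] [Finite G]

/-- P3b -/
theorem commutator_normalizer_le_centralizer (hG : IsMinSimpleOddOrder G) {p : ℕ} [Fact p.Prime]
    {A P : Subgroup G} (hAP : A ≤ P) (hPS : IsSylowIn p P ⊤) (hPc : IsMulCommutative P)
    (hΩ : ∀ x ∈ P, x ^ p = 1 ↔ x ∈ A) (hA2 : Nat.card A = p ^ 2) :
    ⁅normalizer (A : Set G), normalizer (A : Set G)⁆ ≤ centralizer (A : Set G) := by
  have hp : p.Prime := Fact.out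
  -- `P` is abelian, so it centralizes `A`
  have hPcomm : ∀ x ∈ P, ∀ y ∈ P, x * y = y * x := by
    intro x hx y hy
    have := hPc.is_comm.comm (⟨x, hx⟩ : P) ⟨y, hy⟩
    exact congrArg Subtype.val this
  have hPcen : P ≤ centralizer (A : Set G) := by
    intro x hx
    rw [mem_centralizer_iff]
    intro a ha
    exact hPcomm a (hAP ha) x hx
  set N := normalizer (A : Set G) with hN
  have hcenN : centralizer (A : Set G) ≤ N := centralizer_le_normalizer (A : Set G)
  have hPN : P ≤ N := hPcen.trans hcenN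
  have hAN : A ≤ N := le_normalizer
  -- `N` is a proper subgroup
  have hNtop : N ≠ ⊤ := by
    intro htop
    have hAn : A.Normal := normalizer_eq_top_iff.mp htop
    have := hG.2.1
    rcases hAn.eq_bot_or_eq_top with h | h
    · rw [h, card_bot] at hA2
      have : 1 < p ^ 2 := Nat.one_lt_pow (by norm_num) hp.one_lt
      omega
    · apply hG.2.2.1
      refine ⟨⟨fun x y => ?_⟩⟩
      have hx : x ∈ P := hAP (h ▸ mem_top x)
      have hy : y ∈ P := hAP (h ▸ mem_top y)
      exact hPcomm x hx y hy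
  have hsolv : Group.IsSolvable ↥N := hG.2.2.2 N hNtop
  have hodd : Odd (Nat.card ↥N) := Odd.of_dvd_nat hG.1 (card_subgroup_dvd_card N)
  have hpN : p ∣ Nat.card ↥N := by
    have h1 : Nat.card A ∣ Nat.card ↥N := card_dvd_of_le hAN
    rw [hA2] at h1
    exact (dvd_pow_self p (by norm_num)).trans h1
  -- the `p`-rank of `N` is at most 2
  have hrank : PRankLE p 2 ↥N := by
    intro B _ hBp
    have hB'p : IsPGroup p (B.map N.subtype) := by
      rintro ⟨x, hx⟩
      obtain ⟨b, hb, rfl⟩ := hx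
      refine ⟨1, ?_⟩
      have := hBp b hb
      apply Subtype.ext
      simp only [pow_one, Subgroup.coe_pow, Subgroup.coe_one, Subgroup.coe_subtype]
      exact congrArg Subtype.val this
    obtain ⟨g, -, hg⟩ := hPS.exists_conj_le (K := B.map N.subtype) le_top hB'p
    -- conjugation by `g` embeds `B` into `A`
    have hinj : Function.Injective (fun b : B => (⟨g * (b : G) * g⁻¹, by
        have hb' : ((b : ↥N) : G) ∈ B.map N.subtype := ⟨(b : ↥N), b.2, rfl⟩
        have h1 := hg _ hb'
        apply (hΩ _ h1).mp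
        have h2 := hBp b b.2
        have h3 : ((b : ↥N) : G) ^ p = 1 := by
          have := congrArg Subtype.val h2
          simpa using this
        rw [conj_pow, h3, mul_one, mul_inv_cancel]⟩ : A)) := by
      intro b₁ b₂ h
      have h1 : g * ((b₁ : ↥N) : G) * g⁻¹ = g * ((b₂ : ↥N) : G) * g⁻¹ := congrArg Subtype.val h
      have h2 : ((b₁ : ↥N) : G) = ((b₂ : ↥N) : G) := by
        simpa using h1
      exact Subtype.ext (Subtype.ext h2)
    have := Nat.card_le_card_of_injective _ hinj
    rwa [hA2] at this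
  obtain ⟨-, -, -, -, h5, -⟩ := Cfsg.Agent.S1450.result (G := ↥N) hodd p hpN hrank
  -- reduce to `O_{p',p}(N)`
  rw [← map_subtype_commutator N]
  rintro _ ⟨k, hk, rfl⟩
  have hk' : k ∈ pPrimePCore p ↥N := h5 hk
  have hPSN : IsSylowIn p P N := hPS.mono hPN le_top
  obtain ⟨w, hw, q, hq, rfl⟩ :=
    Cfsg.Agent.Lib.Helper31_AG.exists_mul_of_mem_pPrimePCore hPSN.toSylow hk'
  have : (A.subgroupOf N).Normal := by
    rw [hN]; exact normal_in_normalizer
  have hA'p : IsPGroup p (A.subgroupOf N) :=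
    (hPS.isPGroup.to_le hAP).comap_of_injective N.subtype N.subtype_injective
  have hw' := Cfsg.Agent.Lib.Helper31_AG.pPrimeCore_le_centralizer (A.subgroupOf N) hA'p hw
  rw [mem_centralizer_iff]
  intro a ha
  have hwa : a * (w : G) = (w : G) * a := by
    have := (mem_centralizer_iff.mp hw') (⟨a, hAN ha⟩ : ↥N) (by
      rw [SetLike.mem_coe, mem_subgroupOf]; exact ha)
    exact congrArg Subtype.val this
  have hqP : ((q : ↥N) : G) ∈ P := (hPSN.mem_toSylow q).mp (mem_inf.mp hq).1
  have hqa : a * (q : G) = (q : G) * a := hPcomm a (hAP ha) _ hqP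
  simp only [Subgroup.coe_subtype, Subgroup.coe_mul]
  rw [← mul_assoc, hwa, mul_assoc, hqa, mul_assoc]

end Cfsg.Agent.Lib.Helper13_BG1211b
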