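import Mathlib

set_option autoImplicit false
set_option linter.unusedSectionVars false
set_option linter.unusedSimpArgs false

namespace Cfsg.Agent.Lib.Helper13_Blocks

open Matrix

section generic
variable {R : Type*} [CommRing R] {α β γ : Type*} [Fintype α] [Fintype β] [Fintype γ]
  [DecidableEq α] [DecidableEq β] [DecidableEq γ] (e : α ⊕ β ≃ γ)

/-- a matrix on `γ ≃ α ⊕ β` given by four blocks -/
def gblk4 (A : Matrix α α R) (B : Matrix α β R) (C : Matrix β α R) (D : Matrix β β R) :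
    Matrix γ γ R :=
  (Matrix.fromBlocks A B C D).submatrix e.symm e.symm

theorem gblk4_mul (A : Matrix α α R) (B : Matrix α β R) (C : Matrix β α R) (D : Matrix β β R)
    (A' : Matrix α α R) (B' : Matrix α β R) (C' : Matrix β α R) (D' : Matrix β β R) :
    gblk4 e A B C D * gblk4 e A' B' C' D' =
      gblk4 e (A * A' + B * C') (A * B' + B * D') (C * A' + D * C') (C * B' + D * D') := by
  unfold gblk4
  rw [Matrix.submatrix_mul_equiv, Matrix.fromBlocks_multiply]

theorem gblk4_one : gblk4 e (1 : Matrix α α R) 0 0 (1 : Matrix β β R) = 1 := by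
  unfold gblk4
  rw [Matrix.fromBlocks_one, Matrix.submatrix_one_equiv]

theorem gblk4_transpose (A : Matrix α α R) (B : Matrix α β R) (C : Matrix β α R)
    (D : Matrix β β R) : (gblk4 e A B C D)ᵀ = gblk4 e Aᵀ Cᵀ Bᵀ Dᵀ := by
  unfold gblk4
  rw [Matrix.transpose_submatrix, Matrix.fromBlocks_transpose]

theorem gblk4_inj {A A' : Matrix α α R} {B B' : Matrix α β R} {C C' : Matrix β α R}
    {D D' : Matrix β β R} (h : gblk4 e A B C D = gblk4 e A' B' C' D') :
    A = A' ∧ B = B' ∧ C = C' ∧ D = D' := by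
  unfold gblk4 at h
  have h1 := congrArg (fun M => M.submatrix e e) h
  simp only [Matrix.submatrix_submatrix, Equiv.symm_comp_self, Matrix.submatrix_id_id] at h1
  exact Matrix.fromBlocks_inj.mp h1

theorem eq_gblk4 (M : Matrix γ γ R) :
    M = gblk4 e (M.submatrix (e ∘ Sum.inl) (e ∘ Sum.inl)) (M.submatrix (e ∘ Sum.inl) (e ∘ Sum.inr))
      (M.submatrix (e ∘ Sum.inr) (e ∘ Sum.inl)) (M.submatrix (e ∘ Sum.inr) (e ∘ Sum.inr)) := by
  unfold gblk4
  ext i j
  rw [Matrix.submatrix_apply]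
  obtain ⟨i', rfl⟩ := e.surjective i
  obtain ⟨j', rfl⟩ := e.surjective j
  rw [Equiv.symm_apply_apply, Equiv.symm_apply_apply]
  rcases i' with i' | i' <;> rcases j' with j' | j' <;> simp

theorem gblk4_mulVec_inr (A : Matrix α α R) (B : Matrix α β R) (C : Matrix β α R)
    (D : Matrix β β R) (v : γ → R) (j : β) :
    (gblk4 e A B C D *ᵥ v) (e (Sum.inr j)) =
      (C *ᵥ (v ∘ e ∘ Sum.inl)) j + (D *ᵥ (v ∘ e ∘ Sum.inr)) j := by
  unfold gblk4
  rw [Matrix.submatrix_mulVec_equiv, Matrix.fromBlocks_mulVec]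
  simp only [Function.comp_apply, Equiv.symm_symm, Equiv.symm_apply_apply]
  simp only [Sum.elim_inr, Pi.add_apply]
  rfl

theorem gblk4_mulVec_inl (A : Matrix α α R) (B : Matrix α β R) (C : Matrix β α R)
    (D : Matrix β β R) (v : γ → R) (i : α) :
    (gblk4 e A B C D *ᵥ v) (e (Sum.inl i)) =
      (A *ᵥ (v ∘ e ∘ Sum.inl)) i + (B *ᵥ (v ∘ e ∘ Sum.inr)) i := by
  unfold gblk4
  rw [Matrix.submatrix_mulVec_equiv, Matrix.fromBlocks_mulVec]
  simp only [Function.comp_apply, Equiv.symm_symm, Equiv.symm_apply_apply]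
  simp only [Sum.elim_inl, Pi.add_apply]
  rfl

/-- generic criterion for membership in a stabiliser-like subgroup: in a group, if `h` and `h⁻¹` map
`S` into itself then `v ∈ S ↔ h v ∈ S` -/
theorem iff_of_maps {H : Type*} [Group H] (toMat : H →* Matrix γ γ R) (S : Set (γ → R)) (h : H)
    (h1 : ∀ v ∈ S, toMat h *ᵥ v ∈ S) (h2 : ∀ v ∈ S, toMat h⁻¹ *ᵥ v ∈ S) (v : γ → R) :
    v ∈ S ↔ toMat h *ᵥ v ∈ S := by
  refine ⟨h1 v, fun hv => ?_⟩
  have h3 := h2 _ hv
  rwa [Matrix.mulVec_mulVec, ← map_mul, inv_mul_cancel, map_one, Matrix.one_mulVec] at h3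

end generic

section symp
variable {F : Type*} [Field F] (k l : ℕ)

/-- the index equivalence for symplectic blocks -/
def eSp : (Fin k ⊕ Fin k) ⊕ (Fin l ⊕ Fin l) ≃ Fin (k + l) ⊕ Fin (k + l) :=
  (Equiv.sumSumSumComm (Fin k) (Fin k) (Fin l) (Fin l)).trans
    (Equiv.sumCongr finSumFinEquiv finSumFinEquiv)

@[simp] theorem eSp_inl_inl (i : Fin k) :
    eSp k l (Sum.inl (Sum.inl i)) = Sum.inl (Fin.castAdd l i) := by
  simp [eSp]
@[simp] theorem eSp_inl_inr (i : Fin k) :
    eSp k l (Sum.inl (Sum.inr i)) = Sum.inr (Fin.castAdd l i) := by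
  simp [eSp]
@[simp] theorem eSp_inr_inl (j : Fin l) :
    eSp k l (Sum.inr (Sum.inl j)) = Sum.inl (Fin.natAdd k j) := by
  simp [eSp]
@[simp] theorem eSp_inr_inr (j : Fin l) :
    eSp k l (Sum.inr (Sum.inr j)) = Sum.inr (Fin.natAdd k j) := by
  simp [eSp]

theorem castAdd_ne_natAdd (i : Fin k) (j : Fin l) : Fin.castAdd l i ≠ Fin.natAdd k j := by
  intro h
  have h2 := congrArg Fin.val h
  simp at h2
  omega

theorem J_eq_gblk4 :
    Matrix.J (Fin (k + l)) F = gblk4 (eSp k l) (Matrix.J (Fin k) F) 0 0 (Matrix.J (Fin l) F) := by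
  rw [eq_gblk4 (eSp k l) (Matrix.J (Fin (k + l)) F)]
  have hne := castAdd_ne_natAdd k l
  have hne' : ∀ (i : Fin k) (j : Fin l), Fin.natAdd k j ≠ Fin.castAdd l i :=
    fun i j => Ne.symm (hne i j)
  congr 1
  · ext a b
    rcases a with a | a <;> rcases b with b | b <;>
      simp [Matrix.J, Matrix.one_apply, (Fin.castAdd_injective k l).eq_iff]
  · ext a b
    rcases a with a | a <;> rcases b with b | b <;>
      simp [Matrix.J, Matrix.one_apply, hne, hne']
  · ext a b
    rcases a with a | a <;> rcases b with b | b <;>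
      simp [Matrix.J, Matrix.one_apply, hne, hne']
  · ext a b
    rcases a with a | a <;> rcases b with b | b <;>
      simp [Matrix.J, Matrix.one_apply, (Fin.natAdd_injective l k).eq_iff]

end symp

end Cfsg.Agent.Lib.Helper13_Blocks
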