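import Mathlib
import Cfsg.Agent.Lib.Helper4_NormalFour

/-!
# Self-centralizing cyclic normal subgroups of 2-groups (helper4)

`SCC a n`: the cyclic subgroup `⟨a⟩` of order `2 ^ n` (`n ≥ 1`) is normal and equal to its own
centralizer.  We study how the elements of the group act on `⟨a⟩`: with `z = a ^ 2 ^ (n - 1)` the
involution of `⟨a⟩`, an element `e` with `e²` centralizing `a` sends `a` to one of `a`, `a z`,
`a⁻¹`, `a⁻¹ z`.  If there is no normal four-group and `n ≥ 3`, then `⟨a⟩` has index at most `2` and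
the elements outside act by `a ↦ a⁻¹` or `a ↦ a⁻¹ z`.
-/

set_option autoImplicit false

namespace Cfsg.Agent.Lib.Helper4_CyclicNormal

open Cfsg.Agent.Lib.Helper4_NormalFour

variable {S : Type*} [Group S]

/-- `⟨a⟩` is a normal, self-centralizing cyclic subgroup of order `2 ^ n`, `n ≥ 1`. -/
structure SCC (a : S) (n : ℕ) : Prop where
  normal : (Subgroup.zpowers a).Normal
  cent : Subgroup.centralizer (Subgroup.zpowers a : Set S) = Subgroup.zpowers a
  order : orderOf a = 2 ^ n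
  pos : 1 ≤ n

/-- The involution of `⟨a⟩`. -/
def zz (a : S) (n : ℕ) : S := a ^ 2 ^ (n - 1)

namespace SCC

variable {a : S} {n : ℕ}

theorem z_sq (h : SCC a n) : (zz a n) ^ 2 = 1 := invol_sq h.order h.pos

theorem z_mul_self (h : SCC a n) : zz a n * zz a n = 1 := by rw [← pow_two]; exact h.z_sq

theorem z_ne_one (h : SCC a n) : zz a n ≠ 1 := invol_ne_one h.order h.pos

theorem z_mem (_h : SCC a n) : zz a n ∈ Subgroup.zpowers a :=
  Subgroup.pow_mem _ (Subgroup.mem_zpowers a) _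

theorem z_inv (h : SCC a n) : (zz a n)⁻¹ = zz a n := by
  rw [inv_eq_iff_mul_eq_one]; exact h.z_mul_self

theorem uniq [Finite S] (h : SCC a n) (u : S) (hu : u ∈ Subgroup.zpowers a) (hu2 : u ^ 2 = 1)
    (hu1 : u ≠ 1) : u = zz a n :=
  Cfsg.Agent.Lib.Helper4_Sylow2.involution_unique_of_isCyclic_subgroup
    (Subgroup.zpowers a) inferInstance u (zz a n) hu h.z_mem (orderOf_eq_prime hu2 hu1)
    (orderOf_eq_prime h.z_sq h.z_ne_one)

theorem z_conj [Finite S] (h : SCC a n) (s : S) : s * zz a n * s⁻¹ = zz a n := by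
  have h1 : s * zz a n * s⁻¹ ∈ Subgroup.zpowers a := h.normal.conj_mem _ h.z_mem s
  have h2 : (s * zz a n * s⁻¹) ^ 2 = 1 := by rw [conj_pow, h.z_sq, mul_one, mul_inv_cancel]
  have h3 : s * zz a n * s⁻¹ ≠ 1 := by
    intro h'
    rw [conj_eq_one_iff] at h'
    exact h.z_ne_one h'
  exact h.uniq _ h1 h2 h3

theorem z_comm [Finite S] (h : SCC a n) (s : S) : s * zz a n = zz a n * s := by
  have := h.z_conj s
  rw [mul_inv_eq_iff_eq_mul] at this
  exact this

theorem z_zpow_conj [Finite S] (h : SCC a n) (i : ℤ) (s : S) :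
    s * zz a n ^ i * s⁻¹ = zz a n ^ i := by
  rw [← conj_zpow, h.z_conj s]

theorem conj_exists (h : SCC a n) (s : S) : ∃ k : ℤ, s * a * s⁻¹ = a ^ k := by
  obtain ⟨k, hk⟩ := Subgroup.mem_zpowers_iff.mp (h.normal.conj_mem a (Subgroup.mem_zpowers a) s)
  exact ⟨k, hk.symm⟩

theorem mem_of_conj (h : SCC a n) (s : S) (hs : s * a * s⁻¹ = a) : s ∈ Subgroup.zpowers a := by
  rw [← h.cent, Subgroup.mem_centralizer_iff]
  intro x hx
  obtain ⟨k, rfl⟩ := Subgroup.mem_zpowers_iff.mp hx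
  have hc : Commute s a := by
    rw [mul_inv_eq_iff_eq_mul] at hs
    exact hs
  exact (hc.zpow_right k).eq.symm

theorem conj_of_mem (_h : SCC a n) (c : S) (hc : c ∈ Subgroup.zpowers a) : c * a * c⁻¹ = a := by
  obtain ⟨k, rfl⟩ := Subgroup.mem_zpowers_iff.mp hc
  rw [mul_inv_eq_iff_eq_mul]
  exact ((Commute.refl a).zpow_left k).eq

/-- The possible actions on `a` of an element whose square centralizes `a`. -/
theorem conj_cases' (h : SCC a n) (e : S) (he : e * (e * a * e⁻¹) * e⁻¹ = a) :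
    (e * a * e⁻¹ = a ∨ e * a * e⁻¹ = a * zz a n) ∨
      (e * a * e⁻¹ = a⁻¹ ∨ e * a * e⁻¹ = a⁻¹ * zz a n) := by
  obtain ⟨k, hk⟩ := h.conj_exists e
  have hz2 := h.z_sq
  have h1 : a ^ (k * k) = a := by
    have h3 : e * (a ^ k) * e⁻¹ = (e * a * e⁻¹) ^ k := by
      simp only [conj_zpow]
    rw [hk, h3, hk, ← zpow_mul] at he
    exact he
  have h2 : a ^ (k * k - 1) = 1 := by
    rw [zpow_sub, h1, zpow_one, mul_inv_cancel]
  have h3 : ((2 : ℤ) ^ n) ∣ (k - 1) * (k + 1) := by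
    have := orderOf_dvd_iff_zpow_eq_one.mpr h2
    rw [h.order] at this
    have h4 : (k - 1) * (k + 1) = k * k - 1 := by ring
    rw [h4]
    exact_mod_cast this
  rcases two_pow_dvd_sub_or_add n h.pos k h3 with ⟨m, hm⟩ | ⟨m, hm⟩
  · left
    have hk' : k = 1 + 2 ^ (n - 1) * m := by linarith
    have h5 : a ^ k = a * (zz a n) ^ m := by
      rw [hk', zpow_add, zpow_one, zpow_mul, zz]
      norm_cast
    rw [hk, h5]
    rcases zpow_sq_eq_one_cases hz2 m with h' | h'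
    · left; rw [h', mul_one]
    · right; rw [h']
  · right
    have hk' : k = -1 + 2 ^ (n - 1) * m := by linarith
    have h5 : a ^ k = a⁻¹ * (zz a n) ^ m := by
      rw [hk', zpow_add, zpow_neg_one, zpow_mul, zz]
      norm_cast
    rw [hk, h5]
    rcases zpow_sq_eq_one_cases hz2 m with h' | h'
    · left; rw [h', mul_one]
    · right; rw [h']

end SCC

namespace SCC

variable {a : S} {n : ℕ}

/-- If `n ≥ 3` and some involution `t` outside `⟨a⟩` acts by `a ↦ a z`, then `{1, z, t, z t}` is a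
normal four-group. -/
theorem hasNormalFour_of_modular [Finite S] (h : SCC a n) (hn3 : 3 ≤ n) (t : S)
    (htA : t ∉ Subgroup.zpowers a) (ht2 : t ^ 2 = 1) (hta : t * a * t⁻¹ = a * zz a n) :
    HasNormalFour S := by
  have hz2 := h.z_sq
  have hz1 := h.z_ne_one
  have hzc' := h.z_conj
  have hzcomm := h.z_comm
  have hzinv := h.z_inv
  have hzc : zz a n ∈ Subgroup.center S := by
    rw [Subgroup.mem_center_iff]
    intro s
    exact hzcomm s
  have ht1 : t ≠ 1 := by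
    rintro rfl
    exact htA (Subgroup.one_mem _)
  have htz : t ≠ zz a n := by
    intro h'
    rw [h'] at htA
    exact htA h.z_mem
  have htt : t * t = 1 := by rw [← pow_two]; exact ht2
  have haz : Commute a (zz a n) := hzcomm a
  refine ⟨zz a n, t, hzc, hz1, hz2, ht2, ht1, htz, ?_⟩
  intro s
  set x := s * t * s⁻¹ with hx
  have hx2 : x ^ 2 = 1 := by rw [hx, conj_pow, ht2, mul_one, mul_inv_cancel]
  have hx1 : x ≠ 1 := by
    rw [hx]
    intro h'
    rw [conj_eq_one_iff] at h'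
    exact ht1 h'
  obtain ⟨j, hj⟩ := h.conj_exists s⁻¹
  have hxa : x * a * x⁻¹ = a * zz a n ^ j := by
    have h1 : x * a * x⁻¹ = s * (t * (s⁻¹ * a * s⁻¹⁻¹) * t⁻¹) * s⁻¹ := by rw [hx]; group
    rw [h1, hj]
    have h2 : t * a ^ j * t⁻¹ = (t * a * t⁻¹) ^ j := by simp only [conj_zpow]
    rw [h2, hta, haz.mul_zpow]
    have h3 : s * (a ^ j * zz a n ^ j) * s⁻¹ = (s * a ^ j * s⁻¹) * (s * zz a n ^ j * s⁻¹) := by
      group
    rw [h3, h.z_zpow_conj j s, ← hj]
    congr 1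
    group
  rcases zpow_sq_eq_one_cases hz2 j with hzj' | hzj'
  · exfalso
    rw [hzj', mul_one] at hxa
    have hxA := h.mem_of_conj x hxa
    have hxz := h.uniq x hxA hx2 hx1
    have : t = zz a n := by
      have h1 : t = s⁻¹ * x * s := by rw [hx]; group
      rw [h1, hxz]
      have := hzc' s⁻¹
      rwa [inv_inv] at this
    exact htz this
  · rw [hzj'] at hxa
    have hc : (t * x) * a * (t * x)⁻¹ = a := by
      have h1 : (t * x) * a * (t * x)⁻¹ = t * (x * a * x⁻¹) * t⁻¹ := by group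
      rw [h1, hxa]
      have h7 : t * (a * zz a n) * t⁻¹ = (t * a * t⁻¹) * (t * zz a n * t⁻¹) := by group
      rw [h7, hta, hzc' t, mul_assoc, ← pow_two, hz2, mul_one]
    have hcA := h.mem_of_conj _ hc
    obtain ⟨i, hi⟩ := Subgroup.mem_zpowers_iff.mp hcA
    have hxt : x = t * a ^ i := by
      rw [hi]
      calc x = (t * t) * x := by rw [htt, one_mul]
        _ = t * (t * x) := by group
    have h7 : t * a ^ i * t⁻¹ = a ^ i * zz a n ^ i := by
      have : t * a ^ i * t⁻¹ = (t * a * t⁻¹) ^ i := by simp only [conj_zpow]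
      rw [this, hta, haz.mul_zpow]
    have h5 : a ^ i * zz a n ^ i * a ^ i = 1 := by
      have h6 : x ^ 2 = (t * a ^ i * t⁻¹) * (t ^ 2) * a ^ i := by
        rw [hxt, pow_two, pow_two]; group
      rw [hx2, ht2, mul_one, h7] at h6
      exact h6.symm
    rcases Int.even_or_odd' i with ⟨m, rfl | rfl⟩
    · have hz2m : zz a n ^ (2 * m) = 1 := by rw [zpow_mul, zpow_ofNat, hz2, one_zpow]
      rw [hz2m, mul_one] at h5
      have hc2 : (a ^ (2 * m)) ^ 2 = 1 := by rw [pow_two]; exact h5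
      by_cases hc1 : a ^ (2 * m) = 1
      · left; rw [hxt, hc1, mul_one]
      · right
        rw [hxt, h.uniq _ (Subgroup.zpow_mem_zpowers a _) hc2 hc1]
        exact hzcomm t
    · exfalso
      have hzi : zz a n ^ (2 * m + 1) = zz a n := by
        rw [zpow_add, zpow_mul, zpow_ofNat, hz2, one_zpow, one_mul, zpow_one]
      rw [hzi] at h5
      have h8 : a ^ (2 * (2 * m + 1)) = zz a n := by
        have hcc : a ^ (2 * m + 1) * a ^ (2 * m + 1) = a ^ (2 * (2 * m + 1)) := by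
          rw [← zpow_add]; congr 1; ring
        have h9 : a ^ (2 * m + 1) * zz a n * a ^ (2 * m + 1) = a ^ (2 * (2 * m + 1)) * zz a n := by
          rw [mul_assoc, ← hzcomm (a ^ (2 * m + 1)), ← mul_assoc, hcc]
        rw [h9, mul_eq_one_iff_eq_inv, hzinv] at h5
        exact h5
      have h9 : a ^ (4 * (2 * m + 1)) = 1 := by
        have : (4 : ℤ) * (2 * m + 1) = (2 * (2 * m + 1)) * 2 := by ring
        rw [this, zpow_mul, h8, zpow_ofNat, hz2]
      have h10 := orderOf_dvd_iff_zpow_eq_one.mpr h9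
      rw [h.order] at h10
      have h11 : (8 : ℤ) ∣ 4 * (2 * m + 1) := by
        refine dvd_trans ?_ h10
        have : (2 : ℤ) ^ 3 ∣ 2 ^ n := pow_dvd_pow 2 hn3
        push_cast
        norm_num at this ⊢
        exact this
      omega

/-- If `n ≥ 3` and some element acts by `a ↦ a z`, then its coset of `⟨a⟩` contains an
involution. -/
theorem exists_involution_of_modular [Finite S] (h : SCC a n) (hn3 : 3 ≤ n) (s : S)
    (hs : s * a * s⁻¹ = a * zz a n) :
    ∃ t : S, t ∉ Subgroup.zpowers a ∧ t ^ 2 = 1 ∧ t * a * t⁻¹ = a * zz a n := by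
  have hz2 := h.z_sq
  have hz1 := h.z_ne_one
  have haz : Commute a (zz a n) := h.z_comm a
  -- `s²` centralizes `a`
  have hss : (s * s) * a * (s * s)⁻¹ = a := by
    have h1 : (s * s) * a * (s * s)⁻¹ = s * (s * a * s⁻¹) * s⁻¹ := by group
    rw [h1, hs]
    have h2 : s * (a * zz a n) * s⁻¹ = (s * a * s⁻¹) * (s * zz a n * s⁻¹) := by group
    rw [h2, hs, h.z_conj s, mul_assoc, h.z_mul_self, mul_one]
  obtain ⟨m, hm⟩ := Subgroup.mem_zpowers_iff.mp (h.mem_of_conj _ hss)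
  -- `s` commutes with `s² = a ^ m`, so `z ^ m = 1`
  have hsm : s * a ^ m * s⁻¹ = a ^ m * zz a n ^ m := by
    have : s * a ^ m * s⁻¹ = (s * a * s⁻¹) ^ m := by simp only [conj_zpow]
    rw [this, hs, haz.mul_zpow]
  have hzm : zz a n ^ m = 1 := by
    have h1 : s * a ^ m * s⁻¹ = a ^ m := by rw [hm]; group
    rw [h1] at hsm
    exact (left_eq_mul.mp hsm)
  have hconj_pow : ∀ j : ℤ, (a ^ j * s) * a * (a ^ j * s)⁻¹ = a * zz a n := by
    intro j
    have h1 : (a ^ j * s) * a * (a ^ j * s)⁻¹ = a ^ j * (s * a * s⁻¹) * (a ^ j)⁻¹ := by group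
    rw [h1, hs, mul_inv_eq_iff_eq_mul, mul_assoc a, ← h.z_comm (a ^ j), ← mul_assoc, ← mul_assoc]
    congr 1
    exact ((Commute.refl a).zpow_left j).eq
  have hnotA : ∀ j : ℤ, a ^ j * s ∉ Subgroup.zpowers a := by
    intro j hj
    have h1 := h.conj_of_mem _ hj
    rw [hconj_pow j] at h1
    exact hz1 (mul_eq_left.mp h1)
  have hsq : ∀ j : ℤ, (a ^ j * s) ^ 2 = a ^ (2 * j + m) * zz a n ^ j := by
    intro j
    have hsj : s * a ^ j * s⁻¹ = a ^ j * zz a n ^ j := by
      have : s * a ^ j * s⁻¹ = (s * a * s⁻¹) ^ j := by simp only [conj_zpow]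
      rw [this, hs, haz.mul_zpow]
    have h1 : (a ^ j * s) ^ 2 = a ^ j * (s * a ^ j * s⁻¹) * (s * s) := by
      rw [pow_two]; group
    rw [h1, hsj, ← hm]
    have hcz : Commute (zz a n ^ j) (a ^ m) :=
      (show Commute (a ^ m) (zz a n) from h.z_comm (a ^ m)).symm.zpow_left j
    calc a ^ j * (a ^ j * zz a n ^ j) * a ^ m = a ^ j * a ^ j * (zz a n ^ j * a ^ m) := by group
      _ = a ^ j * a ^ j * (a ^ m * zz a n ^ j) := by rw [hcz.eq]
      _ = a ^ (2 * j + m) * zz a n ^ j := by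
          rw [← mul_assoc, ← zpow_add, ← zpow_add]
          congr 2
          ring
  have hzpar_even : ∀ r : ℤ, zz a n ^ (2 * r) = 1 := by
    intro r
    rw [zpow_mul, zpow_ofNat, hz2, one_zpow]
  have hzpar_odd : ∀ r : ℤ, zz a n ^ (2 * r + 1) = zz a n := by
    intro r
    rw [zpow_add, hzpar_even, one_mul, zpow_one]
  -- `m` is even
  obtain ⟨i, hi⟩ : ∃ i : ℤ, m = 2 * i := by
    rcases Int.even_or_odd' m with ⟨i, hi | hi⟩
    · exact ⟨i, hi⟩
    · exfalso
      rw [hi, hzpar_odd] at hzm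
      exact hz1 hzm
  rcases Int.even_or_odd' i with ⟨i', hi' | hi'⟩
  · refine ⟨a ^ (-i) * s, hnotA _, ?_, hconj_pow _⟩
    rw [hsq, hi, hi']
    have h1 : (2 : ℤ) * -(2 * i') + 2 * (2 * i') = 0 := by ring
    have h2 : -(2 * i') = 2 * (-i') := by ring
    rw [h1, zpow_zero, one_mul, h2, hzpar_even]
  · obtain ⟨w', hw'⟩ : ∃ w' : ℤ, (2 : ℤ) ^ (n - 2) = 2 * w' := by
      refine ⟨2 ^ (n - 3), ?_⟩
      have : n - 2 = (n - 3) + 1 := by omega
      rw [this, pow_succ]
      ring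
    refine ⟨a ^ (-i + 2 ^ (n - 2)) * s, hnotA _, ?_, hconj_pow _⟩
    rw [hsq, hi]
    have h1 : (2 : ℤ) * (-i + 2 ^ (n - 2)) + 2 * i = ((2 ^ (n - 1) : ℕ) : ℤ) := by
      have : n - 1 = (n - 2) + 1 := by omega
      rw [this]
      push_cast
      ring
    have h2 : -i + (2 : ℤ) ^ (n - 2) = 2 * (w' - i' - 1) + 1 := by
      rw [hw', hi']
      ring
    rw [h1, zpow_natCast, h2, hzpar_odd]
    exact h.z_mul_self

end SCC

namespace SCC

variable {a : S} {n : ℕ}

/-- Without a normal four-group, nobody acts by `a ↦ a z` (`n ≥ 3`). -/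
theorem conj_ne_mul_z [Finite S] (h : SCC a n) (hn3 : 3 ≤ n) (hno : ¬ HasNormalFour S) (s : S) :
    s * a * s⁻¹ ≠ a * zz a n := by
  intro hs
  obtain ⟨t, htA, ht2, hta⟩ := h.exists_involution_of_modular hn3 s hs
  exact hno (h.hasNormalFour_of_modular hn3 t htA ht2 hta)

/-- A square never acts by `a ↦ a⁻¹` or `a ↦ a⁻¹ z` (`n ≥ 3`). -/
theorem sq_conj_ne [Finite S] (h : SCC a n) (hn3 : 3 ≤ n) (v : S) :
    (v * v) * a * (v * v)⁻¹ ≠ a⁻¹ ∧ (v * v) * a * (v * v)⁻¹ ≠ a⁻¹ * zz a n := by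
  obtain ⟨k, hk⟩ := h.conj_exists v
  have hvv : (v * v) * a * (v * v)⁻¹ = a ^ (k * k) := by
    have h1 : (v * v) * a * (v * v)⁻¹ = v * (v * a * v⁻¹) * v⁻¹ := by group
    have h3 : v * (a ^ k) * v⁻¹ = (v * a * v⁻¹) ^ k := by simp only [conj_zpow]
    rw [h1, hk, h3, hk, ← zpow_mul]
  have hmod4 : ¬ (4 : ℤ) ∣ k * k + 1 := by
    rcases Int.even_or_odd' k with ⟨r, rfl | rfl⟩
    · have : 2 * r * (2 * r) + 1 = 4 * (r * r) + 1 := by ring
      rw [this]
      omega
    · have : (2 * r + 1) * (2 * r + 1) + 1 = 4 * (r * r) + 4 * r + 2 := by ring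
      rw [this]
      omega
  have h4n : (4 : ℤ) ∣ 2 ^ n := by
    have : (2 : ℤ) ^ 2 ∣ 2 ^ n := pow_dvd_pow 2 (by omega)
    norm_num at this
    exact this
  have h4n1 : (4 : ℤ) ∣ 2 ^ (n - 1) := by
    have : (2 : ℤ) ^ 2 ∣ 2 ^ (n - 1) := pow_dvd_pow 2 (by omega)
    norm_num at this
    exact this
  constructor
  · intro h1
    rw [hvv] at h1
    have h2 : a ^ (k * k + 1) = 1 := by rw [zpow_add, h1, zpow_one, inv_mul_cancel]
    have h3 := orderOf_dvd_iff_zpow_eq_one.mpr h2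
    rw [h.order] at h3
    apply hmod4
    refine dvd_trans h4n ?_
    exact_mod_cast h3
  · intro h1
    rw [hvv] at h1
    have h2 : a ^ (k * k + 1 - ((2 ^ (n - 1) : ℕ) : ℤ)) = 1 := by
      rw [zpow_sub, zpow_add, h1, zpow_one, zpow_natCast]
      show a⁻¹ * zz a n * a * (zz a n)⁻¹ = 1
      have hc : zz a n * a = a * zz a n := (h.z_comm a).symm
      rw [mul_assoc a⁻¹, hc, ← mul_assoc a⁻¹, inv_mul_cancel, one_mul]
      exact mul_inv_cancel _
    have h3 := orderOf_dvd_iff_zpow_eq_one.mpr h2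
    rw [h.order] at h3
    apply hmod4
    have h5 : (4 : ℤ) ∣ k * k + 1 - ((2 ^ (n - 1) : ℕ) : ℤ) := by
      refine dvd_trans h4n ?_
      exact_mod_cast h3
    have h6 : (4 : ℤ) ∣ ((2 ^ (n - 1) : ℕ) : ℤ) := by exact_mod_cast h4n1
    have := dvd_add h5 h6
    simpa using this

/-- Without a normal four-group, every square centralizes `a` (`n ≥ 3`). -/
theorem sq_conj [Finite S] (hS : IsPGroup 2 S) (h : SCC a n) (hn3 : 3 ≤ n)
    (hno : ¬ HasNormalFour S) (s : S) : (s * s) * a * (s * s)⁻¹ = a := by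
  classical
  obtain ⟨m, hm⟩ := hS s
  have hex : ∃ j : ℕ, s ^ 2 ^ j ∈ Subgroup.zpowers a := ⟨m, by rw [hm]; exact Subgroup.one_mem _⟩
  have hspec := Nat.find_spec hex
  have hmin := fun j => Nat.find_min hex (m := j)
  set j₀ := Nat.find hex with hj₀
  by_cases hle : j₀ ≤ 1
  · have hs2 : s * s ∈ Subgroup.zpowers a := by
      have hj : j₀ = 0 ∨ j₀ = 1 := by omega
      rcases hj with hj | hj
      · rw [hj, pow_zero, pow_one] at hspec
        exact Subgroup.mul_mem _ hspec hspec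
      · rw [hj, pow_one, pow_two] at hspec
        exact hspec
    exact h.conj_of_mem _ hs2
  · exfalso
    have hj2 : 2 ≤ j₀ := by omega
    set u := s ^ 2 ^ (j₀ - 1) with hu
    set v := s ^ 2 ^ (j₀ - 2) with hv
    have huA : u ∉ Subgroup.zpowers a := hmin (j₀ - 1) (by omega)
    have huu : u * u = s ^ 2 ^ j₀ := by
      rw [hu, ← pow_add, ← two_mul, ← pow_succ']
      congr 2
      omega
    have hvv : v * v = u := by
      rw [hv, hu, ← pow_add, ← two_mul, ← pow_succ']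
      congr 2
      omega
    have huuA : u * u ∈ Subgroup.zpowers a := by rw [huu]; exact hspec
    have he : u * (u * a * u⁻¹) * u⁻¹ = a := by
      have h1 : u * (u * a * u⁻¹) * u⁻¹ = (u * u) * a * (u * u)⁻¹ := by group
      rw [h1]
      exact h.conj_of_mem _ huuA
    have hD1 := h.sq_conj_ne hn3 v
    rw [hvv] at hD1
    rcases h.conj_cases' u he with (h1 | h1) | (h1 | h1)
    · exact huA (h.mem_of_conj u h1)
    · exact h.conj_ne_mul_z hn3 hno u h1
    · exact hD1.1 h1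
    · exact hD1.2 h1

/-- Without a normal four-group, every element acts by `a ↦ a`, `a⁻¹` or `a⁻¹ z` (`n ≥ 3`). -/
theorem conj_three [Finite S] (hS : IsPGroup 2 S) (h : SCC a n) (hn3 : 3 ≤ n)
    (hno : ¬ HasNormalFour S) (s : S) :
    s * a * s⁻¹ = a ∨ s * a * s⁻¹ = a⁻¹ ∨ s * a * s⁻¹ = a⁻¹ * zz a n := by
  have he : s * (s * a * s⁻¹) * s⁻¹ = a := by
    have h1 : s * (s * a * s⁻¹) * s⁻¹ = (s * s) * a * (s * s)⁻¹ := by group
    rw [h1]
    exact h.sq_conj hS hn3 hno s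
  rcases h.conj_cases' s he with (h1 | h1) | (h1 | h1)
  · exact Or.inl h1
  · exact absurd h1 (h.conj_ne_mul_z hn3 hno s)
  · exact Or.inr (Or.inl h1)
  · exact Or.inr (Or.inr h1)

/-- Without a normal four-group, two elements outside `⟨a⟩` act in the same way and their product
lies in `⟨a⟩` (`n ≥ 3`). -/
theorem mul_mem_of_notMem [Finite S] (hS : IsPGroup 2 S) (h : SCC a n) (hn3 : 3 ≤ n)
    (hno : ¬ HasNormalFour S) (s t : S) (hs : s ∉ Subgroup.zpowers a)
    (ht : t ∉ Subgroup.zpowers a) :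
    s * t ∈ Subgroup.zpowers a ∧ s * a * s⁻¹ = t * a * t⁻¹ := by
  have key : ∀ x : S, x ∉ Subgroup.zpowers a →
      ∃ ζ ∈ Subgroup.zpowers (zz a n), x * a * x⁻¹ = ζ * a⁻¹ := by
    intro x hx
    rcases h.conj_three hS hn3 hno x with h1 | h1 | h1
    · exact absurd (h.mem_of_conj x h1) hx
    · exact ⟨1, Subgroup.one_mem _, by rw [h1, one_mul]⟩
    · exact ⟨zz a n, Subgroup.mem_zpowers _, by rw [h1]; exact h.z_comm a⁻¹⟩
  obtain ⟨ζ₁, hζ₁, h1⟩ := key s hs
  obtain ⟨ζ₂, hζ₂, h2⟩ := key t ht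
  have hcomm₁ : ∀ x : S, x * ζ₁ = ζ₁ * x := by
    intro x
    rcases (mem_zpowers_of_sq_eq_one h.z_sq).mp hζ₁ with rfl | rfl
    · simp
    · exact h.z_comm x
  have hcomm₂ : ∀ x : S, x * ζ₂ = ζ₂ * x := by
    intro x
    rcases (mem_zpowers_of_sq_eq_one h.z_sq).mp hζ₂ with rfl | rfl
    · simp
    · exact h.z_comm x
  have hprod : (s * t) * a * (s * t)⁻¹ = a * (ζ₂ * ζ₁⁻¹) := by
    have hexp : (s * t) * a * (s * t)⁻¹ = s * (t * a * t⁻¹) * s⁻¹ := by group
    rw [hexp, h2]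
    have h3 : s * (ζ₂ * a⁻¹) * s⁻¹ = ζ₂ * (s * a * s⁻¹)⁻¹ := by
      rw [← mul_assoc, hcomm₂ s]
      group
    rw [h3, h1, mul_inv_rev, inv_inv, ← mul_assoc, ← hcomm₂ a, mul_assoc]
  have hζ : ζ₂ * ζ₁⁻¹ ∈ Subgroup.zpowers (zz a n) :=
    Subgroup.mul_mem _ hζ₂ (Subgroup.inv_mem _ hζ₁)
  rcases (mem_zpowers_of_sq_eq_one h.z_sq).mp hζ with h' | h'
  · rw [h', mul_one] at hprod
    refine ⟨h.mem_of_conj _ hprod, ?_⟩
    rw [h1, h2]
    congr 1
    rw [mul_inv_eq_one] at h'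
    exact h'.symm
  · rw [h'] at hprod
    exact absurd hprod (h.conj_ne_mul_z hn3 hno _)

end SCC

end Cfsg.Agent.Lib.Helper4_CyclicNormal
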