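import Mathlib
import Cfsg.Agent.Lib.Helper1_Frattini
import Cfsg.Agent.Lib.Helper32_PGroup
import Cfsg.Agent.Lib.Helper4_CyclicNormal

/-!
# Bounds for the index of the Frattini subgroup of a finite `p`-group (helper13)
-/

set_option autoImplicit false

namespace Cfsg.Agent.Lib.Helper13_FratBound

open Subgroup
open scoped commutatorElement
open Cfsg.Agent.Lib.Helper1_Frattini

variable {Q : Type*} [Group Q] [Finite Q]

/-- `|Q : Φ(Q)| ≤ |Q/K : Φ(Q/K)| · |K : Φ(K)|` for a normal subgroup `K` of a finite `p`-group. -/
theorem frattini_index_le_mul {p : ℕ} [Fact p.Prime] (hQ : IsPGroup p Q) (K : Subgroup Q)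
    [K.Normal] :
    (frattini Q).index ≤ (frattini (Q ⧸ K)).index * (frattini ↥K).index := by
  set Φ := frattini Q with hΦ
  have hΦn : Φ.Normal := inferInstance
  -- (i) Φ(K) ≤ Φ ∩ K
  have h1 : frattini ↥K ≤ Φ.subgroupOf K := by
    apply frattini_le_of_elementary_quotient (p := p)
    · rw [commutator_eq_closure, closure_le]
      rintro _ ⟨a, b, rfl⟩
      rw [SetLike.mem_coe, mem_subgroupOf]
      apply commutator_le_frattini_of_isPGroup hQ
      rw [commutator_eq_closure]
      apply Subgroup.subset_closure
      exact ⟨(a : Q), (b : Q), by simp [commutatorElement_def]⟩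
    · intro x
      rw [mem_subgroupOf]
      simpa using pow_mem_frattini_of_isPGroup hQ (x : Q)
  -- (ii) Φ(Q/K) ≤ image of Φ
  have h2 : frattini (Q ⧸ K) ≤ Φ.map (QuotientGroup.mk' K) := by
    apply frattini_le_of_elementary_quotient (p := p)
    · rw [commutator_eq_closure, closure_le]
      rintro _ ⟨a, b, rfl⟩
      obtain ⟨a, rfl⟩ := QuotientGroup.mk_surjective a
      obtain ⟨b, rfl⟩ := QuotientGroup.mk_surjective b
      refine ⟨⁅a, b⁆, ?_, by simp [commutatorElement_def]⟩
      apply commutator_le_frattini_of_isPGroup hQ
      rw [commutator_eq_closure]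
      exact Subgroup.subset_closure ⟨a, b, rfl⟩
    · intro x
      obtain ⟨x, rfl⟩ := QuotientGroup.mk_surjective x
      exact ⟨x ^ p, pow_mem_frattini_of_isPGroup hQ x, by simp⟩
  have e1 : (Φ.map (QuotientGroup.mk' K)).index = (Φ ⊔ K).index := by
    rw [index_map, QuotientGroup.ker_mk',
      MonoidHom.range_eq_top_of_surjective _ (QuotientGroup.mk'_surjective K), index_top, mul_one]
  have e2 : Φ.relIndex (Φ ⊔ K) * (Φ ⊔ K).index = Φ.index := relIndex_mul_index le_sup_left
  have e3 : Φ.relIndex (Φ ⊔ K) = Φ.relIndex K := by
    rw [sup_comm]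
    exact relIndex_sup_right K Φ
  have b1 : (Φ ⊔ K).index ≤ (frattini (Q ⧸ K)).index := by
    rw [← e1]
    exact Nat.le_of_dvd (Nat.pos_of_ne_zero (index_ne_zero_of_finite)) (index_dvd_of_le h2)
  have b2 : Φ.relIndex K ≤ (frattini ↥K).index := by
    rw [relIndex]
    exact Nat.le_of_dvd (Nat.pos_of_ne_zero (index_ne_zero_of_finite)) (index_dvd_of_le h1)
  rw [← e2, e3, mul_comm]
  exact Nat.mul_le_mul b1 b2

/-- For a commutative finite `p`-group, `|H : Φ(H)| ≤ #{h | h ^ p = 1}`. -/
theorem frattini_index_le_of_comm {H : Type*} [Group H] [Finite H] {p : ℕ} [Fact p.Prime]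
    (hH : IsPGroup p H) (hc : ∀ x y : H, x * y = y * x) :
    (frattini H).index ≤ Nat.card {h : H // h ^ p = 1} := by
  let _ : CommGroup H := { ‹Group H› with mul_comm := hc }
  set f : H →* H := powMonoidHom p with hf
  have hle : f.range ≤ frattini H := by
    rintro _ ⟨x, rfl⟩
    exact pow_mem_frattini_of_isPGroup hH x
  have h1 : (frattini H).index ≤ f.range.index :=
    Nat.le_of_dvd (Nat.pos_of_ne_zero (index_ne_zero_of_finite)) (index_dvd_of_le hle)
  have h2 : f.range.index = Nat.card f.ker := by
    have e1 := f.range.card_mul_index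
    have e2 := f.ker.card_mul_index
    rw [index_ker] at e2
    have hpos : 0 < Nat.card f.range := Nat.card_pos
    have : Nat.card f.range * f.range.index = Nat.card f.range * Nat.card f.ker := by
      rw [e1, mul_comm, e2]
    exact Nat.eq_of_mul_eq_mul_left hpos this
  have h3 : Nat.card f.ker = Nat.card {h : H // h ^ p = 1} := by
    apply Nat.card_congr
    refine Equiv.subtypeEquivRight ?_
    intro x
    rw [MonoidHom.mem_ker, hf, powMonoidHom_apply]
  rw [h2, h3] at h1
  exact h1

/-- A cyclic finite `p`-group has Frattini index at most `p`. -/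
theorem frattini_index_le_of_isCyclic {H : Type*} [Group H] [Finite H] {p : ℕ} [Fact p.Prime]
    (hH : IsPGroup p H) [hcyc : IsCyclic H] : (frattini H).index ≤ p := by
  classical
  have hc : ∀ x y : H, x * y = y * x := fun x y => IsCyclic.commGroup.mul_comm x y
  refine (frattini_index_le_of_comm hH hc).trans ?_
  have : Fintype H := Fintype.ofFinite H
  have h := IsCyclic.card_pow_eq_one_le (α := H) (n := p) (Nat.Prime.pos Fact.out)
  rw [Nat.card_eq_fintype_card, Fintype.card_subtype]
  exact h

/-- A subgroup such that the product of any two elements outside lies inside has index `≤ 2`. -/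
theorem index_le_two_of_mul_mem {Q : Type*} [Group Q] (A : Subgroup Q)
    (h : ∀ s t : Q, s ∉ A → t ∉ A → s * t ∈ A) : A.index ≤ 2 := by
  by_cases htop : A = ⊤
  · rw [htop, index_top]; norm_num
  · obtain ⟨t, ht⟩ : ∃ t, t ∉ A := by
      by_contra hcon
      push Not at hcon
      exact htop (eq_top_iff.mpr fun x _ => hcon x)
    have h2 : A.index = 2 := by
      rw [index_eq_two_iff]
      refine ⟨t, fun b => ?_⟩
      by_cases hb : b ∈ A
      · right
        refine ⟨hb, fun hbt => ht ?_⟩
        have := A.mul_mem (A.inv_mem hb) hbt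
        simpa using this
      · left
        exact ⟨h b t hb ht, hb⟩
    omega

open Cfsg.Agent.Lib.Helper4_NormalFour Cfsg.Agent.Lib.Helper4_CyclicNormal in
/-- A finite `2`-group without a normal four-subgroup has Frattini index at most `4`. -/
theorem frattini_index_le_four (hQ : IsPGroup 2 Q) (hno : ¬ HasNormalFour Q) :
    (frattini Q).index ≤ 4 := by
  have : Fact (Nat.Prime 2) := ⟨Nat.prime_two⟩
  obtain ⟨A, hAn, hAc, hAcent⟩ := exists_normal_abelian_self_centralizing hQ
  let _ : CommGroup A :=
    { (inferInstance : Group A) with mul_comm := fun x y => Subtype.ext (hAc x x.2 y y.2) }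
  have hAcyc : IsCyclic A := by
    apply Cfsg.Agent.Lib.Helper54_TwoGroups.isCyclic_of_unique_involution (hQ.to_subgroup A)
    intro u v hu2 hv2 hu1 hv1
    by_contra huv
    apply hno
    refine hasNormalFour_of_two_involutions hQ A hAc u v u.2 v.2 ?_ ?_ ?_ ?_ ?_
    · have := congrArg Subtype.val hu2
      simpa using this
    · have := congrArg Subtype.val hv2
      simpa using this
    · intro h; exact hu1 (Subtype.ext h)
    · intro h; exact hv1 (Subtype.ext h)
    · intro h; exact huv (Subtype.ext h)
  -- the index of `A` is at most two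
  have hidx : A.index ≤ 2 := by
    obtain ⟨g, hg⟩ := hAcyc.exists_generator
    set a : Q := g.1 with ha
    have hA : Subgroup.zpowers a = A := by
      ext x
      constructor
      · intro hx
        obtain ⟨k, rfl⟩ := Subgroup.mem_zpowers_iff.mp hx
        exact A.zpow_mem g.2 k
      · intro hx
        obtain ⟨k, hk⟩ := Subgroup.mem_zpowers_iff.mp (hg ⟨x, hx⟩)
        refine Subgroup.mem_zpowers_iff.mpr ⟨k, ?_⟩
        have := congrArg Subtype.val hk
        simpa using this
    obtain ⟨n, hord⟩ := (IsPGroup.iff_orderOf.mp hQ) a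
    rcases Nat.eq_zero_or_pos n with hn0 | hn1
    · -- `A` is trivial, hence so is `Q`
      rw [hn0, pow_zero, orderOf_eq_one_iff] at hord
      have hAbot : A = ⊥ := by rw [← hA, hord, Subgroup.zpowers_one_eq_bot]
      have hAtop : A = ⊤ := by
        rw [← hAcent, hAbot, eq_top_iff]
        intro x _
        rw [Subgroup.mem_centralizer_iff]
        intro y hy
        rw [SetLike.mem_coe, Subgroup.mem_bot] at hy
        rw [hy, one_mul, mul_one]
      rw [hAtop, index_top]
      norm_num
    · have hscc : SCC a n :=
        ⟨by rw [hA]; exact hAn, by rw [hA]; exact hAcent, hord, hn1⟩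
      rw [← hA]
      apply index_le_two_of_mul_mem
      intro s t hs ht
      by_cases hn3 : 3 ≤ n
      · exact (hscc.mul_mem_of_notMem hQ hn3 hno s t hs ht).1
      · -- small cases
        have key : ∀ x : Q, x ∉ Subgroup.zpowers a → x * a * x⁻¹ = a⁻¹ := by
          intro x hx
          obtain ⟨k, hk⟩ := hscc.conj_exists x
          have hne : x * a * x⁻¹ ≠ a := fun h => hx (hscc.mem_of_conj x h)
          have hn12 : n = 1 ∨ n = 2 := by omega
          rcases hn12 with rfl | rfl
          · exfalso
            have ha2 : a ^ 2 = 1 := by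
              have := pow_orderOf_eq_one a
              rwa [hord, pow_one] at this
            have hmem : x * a * x⁻¹ ∈ Subgroup.zpowers a :=
              hscc.normal.conj_mem a (Subgroup.mem_zpowers a) x
            rcases (mem_zpowers_of_sq_eq_one ha2).mp hmem with h | h
            · rw [conj_eq_one_iff] at h
              rw [h, orderOf_one] at hord
              norm_num at hord
            · exact hne h
          · have ha4 : orderOf a = 4 := by rw [hord]; norm_num
            have hk' : a ^ k = a ^ (k % 4) := by
              have := zpow_mod_orderOf a k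
              rw [ha4] at this
              exact_mod_cast this.symm
            have hr : k % 4 = 0 ∨ k % 4 = 1 ∨ k % 4 = 2 ∨ k % 4 = 3 := by omega
            have hxo : orderOf (x * a * x⁻¹) = 4 := by
              rw [← ha4]
              exact ((SemiconjBy.conj_mk x a).orderOf_eq).symm
            rcases hr with h | h | h | h
            · rw [hk, hk', h, zpow_zero, orderOf_one] at hxo
              norm_num at hxo
            · rw [hk', h, zpow_one] at hk
              exact absurd hk hne
            · exfalso
              rw [hk', h] at hk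
              have h1 : (x * a * x⁻¹) ^ 2 = 1 := by
                rw [hk, ← zpow_natCast, ← zpow_mul]
                have : a ^ (4 : ℕ) = 1 := by rw [← ha4]; exact pow_orderOf_eq_one a
                exact_mod_cast this
              have := orderOf_dvd_of_pow_eq_one h1
              rw [hxo] at this
              omega
            · rw [hk, hk', h]
              have : a ^ (4 : ℕ) = 1 := by rw [← ha4]; exact pow_orderOf_eq_one a
              rw [eq_inv_iff_mul_eq_one]
              have h4 : a ^ (3 : ℤ) * a = a ^ (4 : ℕ) := by
                rw [← zpow_natCast, ← zpow_add_one]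
                norm_num
              rw [h4, this]
        apply hscc.mem_of_conj
        have hexp : (s * t) * a * (s * t)⁻¹ = s * (t * a * t⁻¹) * s⁻¹ := by group
        rw [hexp, key t ht]
        have : s * a⁻¹ * s⁻¹ = (s * a * s⁻¹)⁻¹ := by group
        rw [this, key s hs, inv_inv]
  -- conclusion
  have hA2 : (frattini ↥A).index ≤ 2 := frattini_index_le_of_isCyclic (hQ.to_subgroup A)
  have h1 := frattini_index_le_mul hQ A
  have h2 : (frattini (Q ⧸ A)).index ≤ A.index := by
    rw [Subgroup.index_eq_card A]
    exact Nat.le_of_dvd Nat.card_pos (Subgroup.index_dvd_card _)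
  calc (frattini Q).index ≤ (frattini (Q ⧸ A)).index * (frattini ↥A).index := h1
    _ ≤ 2 * 2 := Nat.mul_le_mul (h2.trans hidx) hA2
    _ = 4 := by norm_num

end Cfsg.Agent.Lib.Helper13_FratBound
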