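import Mathlib
import Cfsg.Prelude.Def_LieClassical
import Cfsg.Prelude.Def_ClassicalGeometry
import Cfsg.Agent.Lib.Helper13_HermBridge

set_option autoImplicit false
set_option linter.unusedSectionVars false

namespace Cfsg.Agent.Lib.Helper13_GUBlock

open Matrix Cfsg.Agent.Lib.Helper13_Herm Cfsg.Agent.Lib.Helper13_GU
  Cfsg.Agent.Lib.Helper13_HermBridge

section blocks
variable {F : Type*} [Field F] {k l : ℕ}

/-- a matrix on `Fin (k + l)` given by four blocks -/
def blk4 (A : Matrix (Fin k) (Fin k) F) (B : Matrix (Fin k) (Fin l) F)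
    (C : Matrix (Fin l) (Fin k) F) (D : Matrix (Fin l) (Fin l) F) :
    Matrix (Fin (k + l)) (Fin (k + l)) F :=
  (Matrix.fromBlocks A B C D).submatrix finSumFinEquiv.symm finSumFinEquiv.symm

theorem blk4_mul (A : Matrix (Fin k) (Fin k) F) (B : Matrix (Fin k) (Fin l) F)
    (C : Matrix (Fin l) (Fin k) F) (D : Matrix (Fin l) (Fin l) F)
    (A' : Matrix (Fin k) (Fin k) F) (B' : Matrix (Fin k) (Fin l) F)
    (C' : Matrix (Fin l) (Fin k) F) (D' : Matrix (Fin l) (Fin l) F) :
    blk4 A B C D * blk4 A' B' C' D' =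
      blk4 (A * A' + B * C') (A * B' + B * D') (C * A' + D * C') (C * B' + D * D') := by
  unfold blk4
  rw [Matrix.submatrix_mul_equiv, Matrix.fromBlocks_multiply]

theorem blk4_one : blk4 (1 : Matrix (Fin k) (Fin k) F) 0 0 (1 : Matrix (Fin l) (Fin l) F) = 1 := by
  unfold blk4
  rw [Matrix.fromBlocks_one, Matrix.submatrix_one_equiv]

theorem blk4_transpose (A : Matrix (Fin k) (Fin k) F) (B : Matrix (Fin k) (Fin l) F)
    (C : Matrix (Fin l) (Fin k) F) (D : Matrix (Fin l) (Fin l) F) :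
    (blk4 A B C D)ᵀ = blk4 Aᵀ Cᵀ Bᵀ Dᵀ := by
  unfold blk4
  rw [Matrix.transpose_submatrix, Matrix.fromBlocks_transpose]

theorem blk4_map (A : Matrix (Fin k) (Fin k) F) (B : Matrix (Fin k) (Fin l) F)
    (C : Matrix (Fin l) (Fin k) F) (D : Matrix (Fin l) (Fin l) F) (f : F → F) :
    (blk4 A B C D).map f = blk4 (A.map f) (B.map f) (C.map f) (D.map f) := by
  unfold blk4
  rw [← Matrix.submatrix_map, Matrix.fromBlocks_map]

theorem blk4_inj {A A' : Matrix (Fin k) (Fin k) F} {B B' : Matrix (Fin k) (Fin l) F}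
    {C C' : Matrix (Fin l) (Fin k) F} {D D' : Matrix (Fin l) (Fin l) F}
    (h : blk4 A B C D = blk4 A' B' C' D') : A = A' ∧ B = B' ∧ C = C' ∧ D = D' := by
  unfold blk4 at h
  have h1 := congrArg (fun M => M.submatrix finSumFinEquiv finSumFinEquiv) h
  simp only [Matrix.submatrix_submatrix, Equiv.symm_comp_self, Matrix.submatrix_id_id] at h1
  exact Matrix.fromBlocks_inj.mp h1

theorem eq_blk4 (M : Matrix (Fin (k + l)) (Fin (k + l)) F) :
    M = blk4 (M.submatrix (Fin.castAdd l) (Fin.castAdd l))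
      (M.submatrix (Fin.castAdd l) (Fin.natAdd k))
      (M.submatrix (Fin.natAdd k) (Fin.castAdd l))
      (M.submatrix (Fin.natAdd k) (Fin.natAdd k)) := by
  unfold blk4
  ext i j
  rw [Matrix.submatrix_apply]
  obtain ⟨i', rfl⟩ := (finSumFinEquiv (m := k) (n := l)).surjective i
  obtain ⟨j', rfl⟩ := (finSumFinEquiv (m := k) (n := l)).surjective j
  rw [Equiv.symm_apply_apply, Equiv.symm_apply_apply]
  rcases i' with i' | i' <;> rcases j' with j' | j' <;> simp

theorem blk4_mulVec_natAdd (A : Matrix (Fin k) (Fin k) F) (B : Matrix (Fin k) (Fin l) F)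
    (C : Matrix (Fin l) (Fin k) F) (D : Matrix (Fin l) (Fin l) F) (v : Fin (k + l) → F)
    (j : Fin l) :
    (blk4 A B C D *ᵥ v) (Fin.natAdd k j) =
      (C *ᵥ (v ∘ Fin.castAdd l)) j + (D *ᵥ (v ∘ Fin.natAdd k)) j := by
  unfold blk4
  rw [Matrix.submatrix_mulVec_equiv, Matrix.fromBlocks_mulVec]
  simp only [Function.comp_apply, Equiv.symm_symm]
  rw [← finSumFinEquiv_apply_right (m := k) j, Equiv.symm_apply_apply]
  simp only [Sum.elim_inr, Pi.add_apply]
  congr 2

end blocks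


section unitary
variable {F : Type*} [Field F] [Fintype F] {q k l : ℕ}

/-- generic criterion for membership in `stabilizing` -/
theorem mem_stabilizing_of_maps {H : Type*} [Group H] {ι : Type} [Fintype ι] [DecidableEq ι]
    (toMat : H →* Matrix ι ι F) (S : Set (ι → F)) (h : H)
    (h1 : ∀ v ∈ S, toMat h *ᵥ v ∈ S) (h2 : ∀ v ∈ S, toMat h⁻¹ *ᵥ v ∈ S) :
    h ∈ Cfsg.stabilizing toMat S := by
  intro v
  refine ⟨h1 v, fun hv => ?_⟩
  have h3 := h2 _ hv
  rwa [Matrix.mulVec_mulVec, ← map_mul, inv_mul_cancel, map_one, Matrix.one_mulVec] at h3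

/-- the coordinate subspace spanned by the first `k` coordinate vectors -/
def W0 (F : Type*) [Field F] (k l : ℕ) : Set (Fin (k + l) → F) :=
  {v | ∀ j : Fin l, v (Fin.natAdd k j) = 0}

/-- block diagonal unitary matrices -/
def blkGU (hF : Fintype.card F = q ^ 2) :
    ↥(Cfsg.GU k F q) × ↥(Cfsg.GU l F q) →* ↥(Cfsg.GU (k + l) F q) where
  toFun x := ⟨gramGL (blk4 x.1.1.1 0 0 x.2.1.1) (by
      rw [blk4_map, blk4_transpose, blk4_mul]
      have h1 := (mem_GU_iff_gram hF x.1.1).mp x.1.2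
      have h2 := (mem_GU_iff_gram hF x.2.1).mp x.2.2
      have hq : q ≠ 0 := by have := two_le_q hF; omega
      have h0 : ∀ (a b : ℕ), ((0 : Matrix (Fin a) (Fin b) F).map fun x => x ^ q) = 0 := by
        intro a b; ext i j; simp [hq]
      simp only [Matrix.transpose_zero, h0, Matrix.mul_zero, Matrix.zero_mul, add_zero, zero_add,
        h1, h2]
      exact blk4_one), gramGL_mem hF _ _⟩
  map_one' := by
    apply Subtype.ext
    apply Units.ext
    show blk4 (1 : Matrix (Fin k) (Fin k) F) 0 0 (1 : Matrix (Fin l) (Fin l) F) = 1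
    exact blk4_one
  map_mul' x y := by
    apply Subtype.ext
    apply Units.ext
    show blk4 (x.1.1.1 * y.1.1.1) 0 0 (x.2.1.1 * y.2.1.1) =
      blk4 x.1.1.1 0 0 x.2.1.1 * blk4 y.1.1.1 0 0 y.2.1.1
    rw [blk4_mul]
    simp

theorem blkGU_val (hF : Fintype.card F = q ^ 2) (x : ↥(Cfsg.GU k F q) × ↥(Cfsg.GU l F q)) :
    (blkGU hF x).1.1 = blk4 x.1.1.1 0 0 x.2.1.1 := rfl

theorem blkGU_injective (hF : Fintype.card F = q ^ 2) :
    Function.Injective (blkGU (k := k) (l := l) hF) := by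
  intro x y hxy
  have h1 : (blkGU hF x).1.1 = (blkGU hF y).1.1 := by rw [hxy]
  rw [blkGU_val, blkGU_val] at h1
  obtain ⟨hA, -, -, hD⟩ := blk4_inj h1
  exact Prod.ext (Subtype.ext (Units.ext hA)) (Subtype.ext (Units.ext hD))

theorem blkGU_maps (hF : Fintype.card F = q ^ 2) (x : ↥(Cfsg.GU k F q) × ↥(Cfsg.GU l F q))
    (v : Fin (k + l) → F) (hv : v ∈ W0 F k l) : (blkGU hF x).1.1 *ᵥ v ∈ W0 F k l := by
  intro j
  rw [blkGU_val, blk4_mulVec_natAdd]
  have h1 : v ∘ Fin.natAdd k = 0 := by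
    funext i
    exact hv i
  rw [h1, Matrix.mulVec_zero, Matrix.zero_mulVec]
  simp

theorem blkGU_mem_stab (hF : Fintype.card F = q ^ 2)
    (x : ↥(Cfsg.GU k F q) × ↥(Cfsg.GU l F q)) :
    (blkGU hF x).1 ∈ Cfsg.stabilizing (Cfsg.glToMat (Fin (k + l)) F) (W0 F k l) := by
  apply mem_stabilizing_of_maps
  · exact blkGU_maps hF x
  · have h1 : ((blkGU hF x).1)⁻¹ = (blkGU hF x⁻¹).1 := by
      rw [map_inv]; rfl
    rw [h1]
    exact blkGU_maps hF x⁻¹

/-- a unitary matrix mapping `W0` into itself is block diagonal -/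
theorem exists_blkGU_eq (hF : Fintype.card F = q ^ 2) (g : GL (Fin (k + l)) F)
    (hg : g ∈ Cfsg.GU (k + l) F q) (hmaps : ∀ v ∈ W0 F k l, g.1 *ᵥ v ∈ W0 F k l) :
    ∃ x : ↥(Cfsg.GU k F q) × ↥(Cfsg.GU l F q), (blkGU hF x).1 = g := by
  have hq : q ≠ 0 := by have := two_le_q hF; omega
  set A := (g.1).submatrix (Fin.castAdd l) (Fin.castAdd l) with hA
  set B := (g.1).submatrix (Fin.castAdd l) (Fin.natAdd k) with hB
  set C := (g.1).submatrix (Fin.natAdd k) (Fin.castAdd l) with hC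
  set D := (g.1).submatrix (Fin.natAdd k) (Fin.natAdd k) with hD
  have hg4 : g.1 = blk4 A B C D := eq_blk4 g.1
  have hC0 : C = 0 := by
    ext i j
    have h1 : (Pi.single (Fin.castAdd l j) (1 : F) : Fin (k + l) → F) ∈ W0 F k l := by
      intro j'
      rw [Pi.single_apply, if_neg]
      intro h
      have h2 := congrArg Fin.val h
      simp at h2
      omega
    have h2 := hmaps _ h1 i
    rw [Matrix.mulVec_single_one] at h2
    exact h2
  have hgram := (mem_GU_iff_gram hF g).mp hg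
  rw [hg4, hC0, blk4_map, blk4_transpose, blk4_mul] at hgram
  have h0 : ∀ (a b : ℕ), ((0 : Matrix (Fin a) (Fin b) F).map fun x => x ^ q) = 0 := by
    intro a b; ext i j; simp [hq]
  simp only [Matrix.transpose_zero, h0, Matrix.mul_zero, Matrix.zero_mul, add_zero,
    zero_add] at hgram
  rw [← blk4_one] at hgram
  obtain ⟨hAA, hAB, -, hDD⟩ := blk4_inj hgram
  have hB0 : B = 0 := by
    have h1 : A.map (fun x => x ^ q) * Aᵀ = 1 := mul_eq_one_comm.mp hAA
    have h2 : B.map (fun x => x ^ q) = 0 := by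
      calc B.map (fun x => x ^ q) = (A.map (fun x => x ^ q) * Aᵀ) * B.map (fun x => x ^ q) := by
            rw [h1, Matrix.one_mul]
        _ = 0 := by rw [Matrix.mul_assoc, hAB, Matrix.mul_zero]
    ext i j
    have h3 := congrFun (congrFun h2 i) j
    simp only [Matrix.map_apply, Matrix.zero_apply] at h3
    exact (pow_eq_zero_iff hq).mp h3
  rw [hB0, Matrix.transpose_zero, Matrix.zero_mul, zero_add] at hDD
  refine ⟨(⟨gramGL A hAA, gramGL_mem hF A hAA⟩, ⟨gramGL D hDD, gramGL_mem hF D hDD⟩), ?_⟩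
  apply Units.ext
  rw [blkGU_val, hg4, hC0, hB0]
  rfl

end unitary

end Cfsg.Agent.Lib.Helper13_GUBlock
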