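import Cfsg.Agent.Lib.Helper43_Jordan3

set_option autoImplicit false

/-!
The Jordan type computed from any chain basis, and the Jordan type of a product of nilpotent
endomorphisms.
-/

namespace Cfsg.Agent.Lib.Helper43_Jordan

open Module

universe u

section jsum

variable {F V V' : Type u} [Field F] [AddCommGroup V] [Module F V] [FiniteDimensional F V]
  [AddCommGroup V'] [Module F V'] [FiniteDimensional F V']

/-- the Jordan type can be read off from any chain basis with positive block sizes -/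
theorem IsChainBasis.jtype_eq {ι : Type*} [Fintype ι] {N : End F V} {d : ι → ℕ}
    {b : Basis (Σ i, Fin (d i)) F V} (hb : IsChainBasis N d b) (hd : ∀ i, 1 ≤ d i) :
    jtype N = Multiset.map d Finset.univ.val := by
  obtain ⟨ι', hι', d', b', hd', hb', hj⟩ := jtype_spec N hb.isNilpotent
  rw [hj]
  exact hb'.map_eq_of_conj hb hd' hd (LinearEquiv.refl F V) (fun x => rfl)

omit [FiniteDimensional F V] [FiniteDimensional F V'] in
theorem isNilpotent_prodMap {N : End F V} {N' : End F V'} (hN : IsNilpotent N)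
    (hN' : IsNilpotent N') : IsNilpotent (N.prodMap N') := by
  obtain ⟨k, hk⟩ := hN
  obtain ⟨k', hk'⟩ := hN'
  refine ⟨k + k', ?_⟩
  have hpow : ∀ n : ℕ, (N.prodMap N') ^ n = (N ^ n).prodMap (N' ^ n) := by
    intro n
    induction n with
    | zero =>
      rw [pow_zero, pow_zero, pow_zero]
      exact LinearMap.prodMap_one.symm
    | succ n ih =>
      rw [pow_succ, pow_succ, pow_succ, ih]
      exact (LinearMap.prodMap_mul _ _ _ _)
  rw [hpow, pow_add, hk, zero_mul, pow_add, hk', mul_zero]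
  exact LinearMap.prodMap_zero

/-- the Jordan type of a product is the sum of the Jordan types -/
theorem jtype_prodMap {N : End F V} {N' : End F V'} (hN : IsNilpotent N)
    (hN' : IsNilpotent N') : jtype (N.prodMap N') = jtype N + jtype N' := by
  classical
  obtain ⟨ι, hι, d, b, hd, hb, hj⟩ := jtype_spec N hN
  obtain ⟨ι', hι', d', b', hd', hb', hj'⟩ := jtype_spec N' hN'
  let e : (Σ i : ι ⊕ ι', Fin (Sum.elim d d' i)) ≃ (Σ i, Fin (d i)) ⊕ (Σ i, Fin (d' i)) :=
    Equiv.sumSigmaDistrib (fun i : ι ⊕ ι' => Fin (Sum.elim d d' i))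
  let B : Basis (Σ i : ι ⊕ ι', Fin (Sum.elim d d' i)) F (V × V') := (b.prod b').reindex e.symm
  have hBl : ∀ (i : ι) (j : Fin (d i)), B ⟨Sum.inl i, j⟩ = (b ⟨i, j⟩, 0) := by
    intro i j
    show (b.prod b').reindex e.symm ⟨Sum.inl i, j⟩ = _
    rw [Basis.reindex_apply, Equiv.symm_symm]
    show (b.prod b') (Sum.inl ⟨i, j⟩) = _
    apply Prod.ext
    · rw [Basis.prod_apply_inl_fst]
    · rw [Basis.prod_apply_inl_snd]
  have hBr : ∀ (i : ι') (j : Fin (d' i)), B ⟨Sum.inr i, j⟩ = (0, b' ⟨i, j⟩) := by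
    intro i j
    show (b.prod b').reindex e.symm ⟨Sum.inr i, j⟩ = _
    rw [Basis.reindex_apply, Equiv.symm_symm]
    show (b.prod b') (Sum.inr ⟨i, j⟩) = _
    apply Prod.ext
    · rw [Basis.prod_apply_inr_fst]
    · rw [Basis.prod_apply_inr_snd]
  have hB : IsChainBasis (N.prodMap N') (Sum.elim d d') B := by
    rintro (i | i) j
    · have hj1 : (⟨Sum.inl i, j⟩ : Σ i : ι ⊕ ι', Fin (Sum.elim d d' i)) = ⟨Sum.inl i, j⟩ := rfl
      rw [hBl i j, LinearMap.prodMap_apply, hb i j, map_zero]
      by_cases h : j.1 + 1 < d i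
      · rw [dif_pos h, dif_pos (by exact h)]
        exact (hBl i ⟨j.1 + 1, h⟩).symm
      · rw [dif_neg h, dif_neg (by exact h)]
        rfl
    · rw [hBr i j, LinearMap.prodMap_apply, hb' i j, map_zero]
      by_cases h : j.1 + 1 < d' i
      · rw [dif_pos h, dif_pos (by exact h)]
        exact (hBr i ⟨j.1 + 1, h⟩).symm
      · rw [dif_neg h, dif_neg (by exact h)]
        rfl
  have hdd : ∀ i : ι ⊕ ι', 1 ≤ Sum.elim d d' i := by
    rintro (i | i)
    · exact hd i
    · exact hd' i
  rw [hB.jtype_eq hdd, hj, hj']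
  rw [← Finset.univ_disjSum_univ, Finset.val_disjSum, Multiset.disjSum, Multiset.map_add,
    Multiset.map_map, Multiset.map_map]
  rfl

end jsum

end Cfsg.Agent.Lib.Helper43_Jordan
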