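import Cfsg.Prelude.Def_JordanBlocks
import Cfsg.Agent.Lib.Helper43_JordanSum

set_option autoImplicit false

/-!
The Jordan type of the explicit matrix `Cfsg.jordanTypeMatrix d F`, and conjugacy of reindexed
matrices in terms of intertwining linear equivalences.
-/

namespace Cfsg.Agent.Lib.Helper43_JordanMatrix

open Module Matrix
open Cfsg.Agent.Lib.Helper43_Jordan

universe u

section chain

variable {F : Type u} [Field F] {t : ℕ} (d : Fin t → ℕ)

theorem jordanType_sub_one_apply (x y : (k : Fin t) × Fin (d k)) :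
    (Cfsg.jordanTypeMatrix d F - 1) y x =
      if y.1 = x.1 ∧ (y.2 : ℕ) = (x.2 : ℕ) + 1 then 1 else 0 := by
  obtain ⟨k, j⟩ := x
  obtain ⟨k', i⟩ := y
  rw [Matrix.sub_apply, Cfsg.jordanTypeMatrix, Matrix.blockDiagonal'_apply, Matrix.one_apply]
  by_cases hk : k' = k
  · subst hk
    rw [dif_pos rfl]
    simp only [cast_eq, Cfsg.jordanBlock, Matrix.of_apply, true_and]
    by_cases hij : (i : ℕ) = (j : ℕ)
    · have : (⟨k', i⟩ : (k : Fin t) × Fin (d k)) = ⟨k', j⟩ := by rw [Fin.ext hij]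
      rw [if_pos hij, if_pos this, sub_self, if_neg (by omega)]
    · have : (⟨k', i⟩ : (k : Fin t) × Fin (d k)) ≠ ⟨k', j⟩ := by
        intro he
        have := eq_of_heq (Sigma.mk.inj he).2
        exact hij (congrArg Fin.val this)
      rw [if_neg hij, if_neg this, sub_zero]
  · have : (⟨k', i⟩ : (k : Fin t) × Fin (d k)) ≠ ⟨k, j⟩ :=
      fun he => hk (congrArg Sigma.fst he)
    rw [dif_neg hk, if_neg this, sub_zero, if_neg (fun h => hk h.1)]

theorem isChainBasis_jordanType :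
    IsChainBasis (Matrix.toLin' (Cfsg.jordanTypeMatrix d F - 1)) d
      (Pi.basisFun F ((k : Fin t) × Fin (d k))) := by
  classical
  intro k j
  rw [Pi.basisFun_apply, Matrix.toLin'_apply, Matrix.mulVec_single_one]
  funext y
  rw [Matrix.col_apply, jordanType_sub_one_apply]
  by_cases h : j.1 + 1 < d k
  · rw [dif_pos h, Pi.basisFun_apply, Pi.single_apply]
    by_cases hy : y = ⟨k, ⟨j.1 + 1, h⟩⟩
    · rw [if_pos hy, if_pos (by rw [hy]; exact ⟨rfl, rfl⟩)]
    · rw [if_neg hy, if_neg]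
      rintro ⟨h1, h2⟩
      apply hy
      obtain ⟨k', i⟩ := y
      simp only at h1 h2
      subst h1
      have : i = ⟨j.1 + 1, h⟩ := Fin.ext h2
      rw [this]
  · rw [dif_neg h, if_neg]
    · rfl
    · rintro ⟨h1, h2⟩
      obtain ⟨k', i⟩ := y
      simp only at h1 h2
      subst h1
      have := i.2
      omega

theorem jtype_jordanType (hd : ∀ k, 1 ≤ d k) :
    jtype (Matrix.toLin' (Cfsg.jordanTypeMatrix d F - 1)) = Multiset.map d Finset.univ.val :=
  (isChainBasis_jordanType d).jtype_eq hd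

theorem isNilpotent_jordanType :
    IsNilpotent (Matrix.toLin' (Cfsg.jordanTypeMatrix d F - 1)) :=
  (isChainBasis_jordanType d).isNilpotent

end chain

section conj

variable {F : Type u} [Field F] {I I' : Type} [Fintype I] [DecidableEq I] [Fintype I']
  [DecidableEq I']

omit [DecidableEq I] [DecidableEq I'] in
theorem reindex_mulVec (e : I ≃ I') (U : Matrix I I F) (x : I' → F) :
    Matrix.reindex e e U *ᵥ x = (U *ᵥ (x ∘ e)) ∘ e.symm := by
  rw [Matrix.reindex_apply, Matrix.submatrix_mulVec_equiv]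
  rfl

omit [DecidableEq I] in
/-- an intertwining linear equivalence gives conjugacy of the reindexed matrix -/
theorem isConj_of_equiv (e : I ≃ I') (U : Matrix I I F) (A : Matrix I' I' F)
    (ψ : (I → F) ≃ₗ[F] (I' → F)) (hψ : ∀ x, ψ (U *ᵥ x) = A *ᵥ ψ x) :
    IsConj (Matrix.reindex e e U) A := by
  let L : (I' → F) ≃ₗ[F] (I' → F) := (LinearEquiv.funCongrLeft F F e).trans ψ
  have hL : ∀ x, L x = ψ (x ∘ e) := fun x => rfl
  let C : (Matrix I' I' F)ˣ :=
    ⟨LinearMap.toMatrix' (L : (I' → F) →ₗ[F] (I' → F)),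
      LinearMap.toMatrix' (L.symm : (I' → F) →ₗ[F] (I' → F)),
      by rw [← LinearMap.toMatrix'_comp]; simp,
      by rw [← LinearMap.toMatrix'_comp]; simp⟩
  refine ⟨C, ?_⟩
  show LinearMap.toMatrix' (L : (I' → F) →ₗ[F] (I' → F)) * Matrix.reindex e e U =
    A * LinearMap.toMatrix' (L : (I' → F) →ₗ[F] (I' → F))
  apply Matrix.toLin'.injective
  apply LinearMap.ext
  intro x
  rw [Matrix.toLin'_mul, Matrix.toLin'_mul, Matrix.toLin'_toMatrix', LinearMap.comp_apply,
    LinearMap.comp_apply, Matrix.toLin'_apply, Matrix.toLin'_apply, LinearEquiv.coe_coe, hL, hL,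
    reindex_mulVec, ← hψ]
  congr 1
  funext i
  simp

omit [DecidableEq I] in
/-- conjugacy of the reindexed matrix gives an intertwining linear equivalence -/
theorem exists_equiv_of_isConj (e : I ≃ I') (U : Matrix I I F) (A : Matrix I' I' F)
    (h : IsConj (Matrix.reindex e e U) A) :
    ∃ ψ : (I → F) ≃ₗ[F] (I' → F), ∀ x, ψ (U *ᵥ x) = A *ᵥ ψ x := by
  obtain ⟨C, hC⟩ := h
  have hC' : (C : Matrix I' I' F) * Matrix.reindex e e U = A * (C : Matrix I' I' F) := hC
  let L : (I' → F) ≃ₗ[F] (I' → F) :=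
    Matrix.toLin'OfInv (M := ((C⁻¹ : (Matrix I' I' F)ˣ) : Matrix I' I' F))
      (M' := (C : Matrix I' I' F)) C.inv_mul C.mul_inv
  have hL : ∀ x, L x = (C : Matrix I' I' F) *ᵥ x := fun x => rfl
  refine ⟨(LinearEquiv.funCongrLeft F F e.symm).trans L, ?_⟩
  intro x
  show L ((U *ᵥ x) ∘ e.symm) = A *ᵥ L (x ∘ e.symm)
  rw [hL, hL, Matrix.mulVec_mulVec, ← hC', ← Matrix.mulVec_mulVec, reindex_mulVec]
  congr 3
  funext i
  simp

theorem sub_one_intertwine (U : Matrix I I F) (A : Matrix I' I' F)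
    (ψ : (I → F) ≃ₗ[F] (I' → F)) :
    (∀ x, ψ (U *ᵥ x) = A *ᵥ ψ x) ↔
      ∀ x, ψ (Matrix.toLin' (U - 1) x) = Matrix.toLin' (A - 1) (ψ x) := by
  constructor
  · intro h x
    rw [Matrix.toLin'_apply, Matrix.toLin'_apply, Matrix.sub_mulVec, Matrix.sub_mulVec,
      Matrix.one_mulVec, Matrix.one_mulVec, map_sub, h]
  · intro h x
    have := h x
    rw [Matrix.toLin'_apply, Matrix.toLin'_apply, Matrix.sub_mulVec, Matrix.sub_mulVec,
      Matrix.one_mulVec, Matrix.one_mulVec, map_sub] at this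
    exact sub_left_injective this

end conj

end Cfsg.Agent.Lib.Helper43_JordanMatrix
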