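import Mathlib
import Cfsg.Prelude.Def_GeometricClasses
import Cfsg.Agent.Lib.Helper43_JordanMatrix

set_option autoImplicit false

/-!
Conjugating elements of order three of `SL_n(F)` (characteristic three) into the subfield group
of determinant one: membership in the standard subfield group, rationality of the scalar, the
discriminant obstruction for Jordan type `(2, …, 2)` in a quadratic extension, quadratic
characters of elements of a subfield, and the adjustment of a conjugating matrix to determinant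
one.
-/

namespace Cfsg.Agent.Lib.Helper43_SubfieldSL

open Matrix Module
open Cfsg.Agent.Lib.Helper43_Jordan Cfsg.Agent.Lib.Helper43_JordanMatrix

section mem

variable {ι : Type} [Fintype ι] [DecidableEq ι] {F : Type*} [Field F]

/-- membership in the standard subfield group -/
theorem mem_subfieldSubgroup_one (F₀ : Subfield F) (g : GL ι F) :
    g ∈ Cfsg.Geo.subfieldSubgroup F₀ (1 : GL ι F) ↔
      ∃ (h : GL ι F₀) (c : Fˣ), (g : Matrix ι ι F) =
        (c : F) • (h : Matrix ι ι F₀).map F₀.subtype := by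
  constructor
  · rintro ⟨X, hX, rfl⟩
    obtain ⟨Y, ⟨Y₀, rfl⟩, Z, hZ, rfl⟩ := Subgroup.mem_sup_of_normal_right.mp hX
    obtain ⟨c, hc⟩ := (Cfsg.Geo.mem_scalars_iff Z).mp hZ
    refine ⟨Y₀, c, ?_⟩
    simp only [MulEquiv.toMonoidHom_eq_coe, MonoidHom.coe_coe, MulAut.conj_apply, one_mul,
      inv_one, mul_one, Units.val_mul, hc, Matrix.mul_smul]
    rfl
  · rintro ⟨h, c, hg⟩
    let Z : GL ι F := Units.map (Matrix.scalar ι : F →+* Matrix ι ι F).toMonoidHom c
    have hZ : Z ∈ Cfsg.Geo.scalars ι F := ⟨c, rfl⟩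
    have hZc : (Z : Matrix ι ι F) = (c : F) • (1 : Matrix ι ι F) := by
      simp [Z, Matrix.smul_one_eq_diagonal]
    refine ⟨Matrix.GeneralLinearGroup.map F₀.subtype h * Z,
      Subgroup.mul_mem _ (Subgroup.mem_sup_left ⟨h, rfl⟩) (Subgroup.mem_sup_right hZ), ?_⟩
    apply Units.ext
    simp only [MulEquiv.toMonoidHom_eq_coe, MonoidHom.coe_coe, MulAut.conj_apply, one_mul,
      inv_one, mul_one, Units.val_mul, hZc, Matrix.mul_smul, hg]
    rfl

end mem

section scalarRational

variable {κ : Type*} [Fintype κ] [DecidableEq κ] {F : Type*} [Field F]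

/-- if a scalar multiple of a matrix over a subfield is unipotent of exponent two, the scalar
lies in the subfield -/
theorem scalar_mem_of_sq_zero [Nonempty κ] (F₀ : Subfield F) (h2 : (2 : F) ≠ 0)
    (h : Matrix κ κ F₀) (c : F)
    (hy : (c • h.map F₀.subtype - 1) * (c • h.map F₀.subtype - 1) = 0) :
    c ∈ F₀ := by
  have hc : c ≠ 0 := by
    intro hc
    rw [hc, zero_smul, zero_sub] at hy
    obtain ⟨i⟩ := ‹Nonempty κ›
    have := congrFun (congrFun hy i) i
    simp at this
  set H : Matrix κ κ F := h.map F₀.subtype with hH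
  have hHH : H * H = (h * h).map F₀.subtype := by
    rw [hH, Matrix.map_mul]
  have hmem : ∀ i j, H i j ∈ F₀ := fun i j => (h i j).2
  have hmem2 : ∀ i j, (H * H) i j ∈ F₀ := fun i j => by
    rw [hHH]
    exact ((h * h) i j).2
  have hexp : (c * c) • (H * H) - (2 * c) • H + 1 = 0 := by
    rw [← hy, sub_mul, mul_sub, mul_sub, smul_mul_smul_comm, one_mul, mul_one, mul_one, two_mul,
      add_smul]
    abel
  by_cases hoff : ∃ i j, i ≠ j ∧ H i j ≠ 0
  · obtain ⟨i, j, hij, hne⟩ := hoff
    have h1 := congrFun (congrFun hexp i) j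
    simp only [Matrix.add_apply, Matrix.sub_apply, Matrix.smul_apply, smul_eq_mul,
      Matrix.one_apply_ne hij, add_zero, Matrix.zero_apply] at h1
    have h3 : c * (H * H) i j = 2 * H i j := by
      have : c * (c * (H * H) i j - 2 * H i j) = 0 := by
        rw [← h1]
        ring
      rcases mul_eq_zero.1 this with h | h
      · exact absurd h hc
      · exact sub_eq_zero.1 h
    have h4 : (H * H) i j ≠ 0 := by
      intro h0
      rw [h0, mul_zero] at h3
      exact (mul_ne_zero h2 hne) h3.symm
    have h5 : c = 2 * H i j / (H * H) i j := by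
      rw [eq_div_iff h4, h3]
    rw [h5]
    exact F₀.div_mem (F₀.mul_mem (by
      have : (2 : F) = (1 : F) + 1 := by norm_num
      rw [this]
      exact F₀.add_mem F₀.one_mem F₀.one_mem) (hmem i j)) (hmem2 i j)
  · push Not at hoff
    obtain ⟨i⟩ := ‹Nonempty κ›
    have h1 := congrFun (congrFun hexp i) i
    have hHHii : (H * H) i i = H i i * H i i := by
      rw [Matrix.mul_apply, Finset.sum_eq_single i]
      · intro b _ hb
        rw [hoff i b (Ne.symm hb), zero_mul]
      · intro hi
        exact absurd (Finset.mem_univ i) hi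
    simp only [Matrix.add_apply, Matrix.sub_apply, Matrix.smul_apply, smul_eq_mul,
      Matrix.one_apply_eq, Matrix.zero_apply, hHHii] at h1
    have h3 : (c * H i i - 1) * (c * H i i - 1) = 0 := by
      rw [← h1]
      ring
    have h4 : c * H i i = 1 := by
      rcases mul_eq_zero.1 h3 with h | h <;> exact sub_eq_zero.1 h
    have h5 : c = (H i i)⁻¹ := eq_inv_of_mul_eq_one_left h4
    rw [h5]
    exact F₀.inv_mem (hmem i i)

end scalarRational

section select

variable {κ : Type*} [Fintype κ] {F : Type*} [Field F]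

/-- a matrix with a right inverse has an invertible square submatrix obtained by selecting
columns -/
theorem exists_cols_det_ne_zero {m : ℕ} (A : Matrix (Fin m) κ F) (B : Matrix κ (Fin m) F)
    (hAB : A * B = 1) : ∃ f : Fin m → κ, (A.submatrix id f).det ≠ 0 := by
  classical
  have hspan : Submodule.span F (Set.range A.col) = ⊤ := by
    rw [← Matrix.range_mulVecLin, LinearMap.range_eq_top]
    intro v
    refine ⟨B *ᵥ v, ?_⟩
    rw [Matrix.mulVecLin_apply, Matrix.mulVec_mulVec, hAB, Matrix.one_mulVec]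
  have hfr : finrank F (Submodule.span F (Set.range A.col)) = m := by
    rw [hspan, finrank_top, Module.finrank_fintype_fun_eq_card, Fintype.card_fin]
  obtain ⟨g, hg, -, hli⟩ := Submodule.exists_fun_fin_finrank_span_eq F (Set.range A.col)
  have hg' : ∀ i, ∃ j, A.col j = g i := fun i => hg i
  choose j hj using hg'
  refine ⟨fun i => j (Fin.cast hfr.symm i), ?_⟩
  have hli2 : LinearIndependent F (A.submatrix id (fun i => j (Fin.cast hfr.symm i))).col := by
    have : (A.submatrix id (fun i => j (Fin.cast hfr.symm i))).col =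
        g ∘ (Fin.cast hfr.symm) := by
      funext i
      rw [Function.comp_apply, ← hj]
      rfl
    rw [this]
    exact hli.comp _ (Fin.cast_injective _)
  rw [Matrix.linearIndependent_cols_iff_isUnit, Matrix.isUnit_iff_isUnit_det] at hli2
  exact hli2.ne_zero

end select

section main

variable {F : Type*} [Field F]

/-- the discriminant obstruction: a transvection-like element whose upper right block has
non-square determinant is not conjugate, under a matrix of determinant one, to a matrix over a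
subfield all of whose elements are squares -/
theorem not_conj_rational {m : ℕ} (F₀ : Subfield F) (hsq : ∀ a : F₀, IsSquare (a : F))
    (t : F) (ht : ¬ IsSquare t) (i₀ : Fin m)
    (P : Matrix (Fin m ⊕ Fin m) (Fin m ⊕ Fin m) F) (hP : P.det = 1)
    (y₀ : Matrix (Fin m ⊕ Fin m) (Fin m ⊕ Fin m) F₀)
    (hXP : Matrix.fromBlocks 1 (Matrix.diagonal (Function.update (1 : Fin m → F) i₀ t)) 0 1 * P =
      P * y₀.map F₀.subtype) : False := by
  classical
  set T : Matrix (Fin m) (Fin m) F := Matrix.diagonal (Function.update (1 : Fin m → F) i₀ t)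
    with hT
  have hdetT : T.det = t := by
    rw [hT, Matrix.det_diagonal, Finset.prod_update_of_mem (Finset.mem_univ i₀)]
    simp
  have hN : Matrix.fromBlocks 0 T 0 0 * P = P * (y₀ - 1).map F₀.subtype := by
    have h1 : Matrix.fromBlocks (0 : Matrix (Fin m) (Fin m) F) T 0 0 =
        Matrix.fromBlocks (1 : Matrix (Fin m) (Fin m) F) T 0 (1 : Matrix (Fin m) (Fin m) F) - 1 := by
      ext (a | a) (b | b) <;> simp [Matrix.one_apply]
    have h2 : (y₀ - 1).map F₀.subtype = y₀.map F₀.subtype - 1 := by
      rw [Matrix.map_sub (f := F₀.subtype) (fun a b => map_sub _ a b),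
        Matrix.map_one _ (map_zero _) (map_one _)]
    rw [h1, h2, sub_mul, mul_sub, one_mul, mul_one, hXP]
  have hPinv : P * P⁻¹ = 1 := Matrix.mul_nonsing_inv _ (by rw [hP]; exact isUnit_one)
  have hAB : P.submatrix Sum.inr id * P⁻¹.submatrix id Sum.inr = (1 : Matrix (Fin m) (Fin m) F) := by
    rw [← Matrix.submatrix_mul _ _ _ _ _ Function.bijective_id, hPinv]
    exact Matrix.submatrix_one _ Sum.inr_injective
  obtain ⟨f, hf⟩ := exists_cols_det_ne_zero _ _ hAB
  -- the selection matrix
  set V₀ : Matrix (Fin m ⊕ Fin m) (Fin m) F₀ := (1 : Matrix _ _ F₀).submatrix id f with hV₀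
  have hV : V₀.map F₀.subtype = (1 : Matrix (Fin m ⊕ Fin m) (Fin m ⊕ Fin m) F).submatrix id f := by
    ext a b
    simp [hV₀, Matrix.one_apply]
    split_ifs <;> simp
  have hPV : P * V₀.map F₀.subtype = P.submatrix id f := by
    rw [hV]
    have := Matrix.submatrix_mul P (1 : Matrix (Fin m ⊕ Fin m) (Fin m ⊕ Fin m) F) id id f
      Function.bijective_id
    rw [Matrix.mul_one] at this
    rw [this]
    rfl
  set Wu : Matrix (Fin m) (Fin m) F := P.submatrix Sum.inl f with hWu
  set Wl : Matrix (Fin m) (Fin m) F := P.submatrix Sum.inr f with hWl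
  have hW : P.submatrix id f = Matrix.fromRows Wu Wl := by
    ext (a | a) b <;> rfl
  have hWl0 : Wl.det ≠ 0 := hf
  set M₀ : Matrix (Fin m ⊕ Fin m) (Fin m ⊕ Fin m) F₀ := Matrix.fromCols ((y₀ - 1) * V₀) V₀ with hM₀
  have hM : P * M₀.map F₀.subtype = Matrix.fromBlocks (T * Wl) Wu 0 Wl := by
    rw [hM₀, Matrix.fromCols_map, Matrix.map_mul, Matrix.mul_fromCols, ← Matrix.mul_assoc, ← hN,
      Matrix.mul_assoc, hPV, hW, Matrix.fromBlocks_mul_fromRows,
      Matrix.fromCols_fromRows_eq_fromBlocks]
    simp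
  have hdet : (F₀.subtype M₀.det) = t * Wl.det * Wl.det := by
    have h1 : (P * M₀.map F₀.subtype).det = F₀.subtype M₀.det := by
      rw [Matrix.det_mul, hP, one_mul, RingHom.map_det]
      rfl
    rw [← h1, hM, Matrix.det_fromBlocks_zero₂₁, Matrix.det_mul, hdetT]
  obtain ⟨r, hr⟩ := hsq M₀.det
  apply ht
  refine ⟨r / Wl.det, ?_⟩
  have : t * Wl.det * Wl.det = r * r := by
    rw [← hdet, ← hr]
    rfl
  field_simp
  linear_combination this

end main

section euler

/-- `q₀ ^ k = 2 * e * S + 1` where `q₀ = 2 * e + 1` and `S` is the geometric sum -/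
theorem pow_eq_geom (e k : ℕ) :
    (2 * e + 1) ^ k = 2 * e * (∑ i ∈ Finset.range k, (2 * e + 1) ^ i) + 1 := by
  induction k with
  | zero => simp
  | succ k ih =>
    rw [Finset.sum_range_succ, pow_succ]
    nlinarith [ih]

theorem geom_mod_two (e k : ℕ) :
    (∑ i ∈ Finset.range k, (2 * e + 1) ^ i) % 2 = k % 2 := by
  induction k with
  | zero => simp
  | succ k ih =>
    rw [Finset.sum_range_succ, Nat.add_mod, ih]
    have : (2 * e + 1) ^ k % 2 = 1 := by
      have h1 : Odd ((2 * e + 1) ^ k) := Odd.pow ⟨e, rfl⟩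
      exact Nat.odd_iff.1 h1
    rw [this]
    omega

variable {F : Type*} [Field F] [Fintype F]

/-- the quadratic character of an element of a subfield, computed in the big field -/
theorem pow_half_card (F₀ : Subfield F) [Fintype F₀] (h2 : (2 : F) ≠ 0) (k : ℕ)
    (hcard : Fintype.card F = Fintype.card F₀ ^ k) (a : F₀) :
    (a : F) ^ (Fintype.card F / 2) =
      ((a : F) ^ (Fintype.card F₀ / 2)) ^ (∑ i ∈ Finset.range k, Fintype.card F₀ ^ i) := by
  have hchar : ringChar F₀ ≠ 2 := by
    intro h
    have h3 : ((ringChar F₀ : ℕ) : F₀) = 0 := ringChar.Nat.cast_ringChar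
    rw [h] at h3
    apply h2
    have h4 := congrArg F₀.subtype h3
    rw [map_zero, map_natCast] at h4
    exact_mod_cast h4
  have hodd := FiniteField.odd_card_of_char_ne_two hchar
  obtain ⟨e, he⟩ : ∃ e, Fintype.card F₀ = 2 * e + 1 := ⟨Fintype.card F₀ / 2, by omega⟩
  rw [hcard, he, ← pow_mul]
  congr 1
  have h1 := pow_eq_geom e k
  rw [h1]
  have : (2 * e + 1) / 2 = e := by omega
  rw [this]
  have : (2 * e * (∑ i ∈ Finset.range k, (2 * e + 1) ^ i) + 1) / 2 =
      e * (∑ i ∈ Finset.range k, (2 * e + 1) ^ i) := by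
    rw [mul_assoc]
    omega
  rw [this]

theorem ringChar_ne_two_of_two_ne_zero {K : Type*} [Field K] (h2 : (2 : K) ≠ 0) :
    ringChar K ≠ 2 := by
  intro h
  have h3 : ((ringChar K : ℕ) : K) = 0 := ringChar.Nat.cast_ringChar
  rw [h] at h3
  exact h2 (by exact_mod_cast h3)

/-- in a quadratic extension of finite fields of odd characteristic every element of the small
field is a square -/
theorem isSquare_of_card_sq (F₀ : Subfield F) [Fintype F₀] (h2 : (2 : F) ≠ 0)
    (hcard : Fintype.card F = Fintype.card F₀ ^ 2) (a : F₀) : IsSquare (a : F) := by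
  by_cases ha : a = 0
  · rw [ha]
    exact ⟨0, by simp⟩
  have h2' : (2 : F₀) ≠ 0 := by
    intro h
    apply h2
    have := congrArg F₀.subtype h
    rw [map_zero, map_ofNat] at this
    exact this
  have hchar := ringChar_ne_two_of_two_ne_zero h2
  have hchar₀ := ringChar_ne_two_of_two_ne_zero h2'
  have ha' : (a : F) ≠ 0 := fun h => ha (Subtype.ext h)
  rw [FiniteField.isSquare_iff hchar ha', pow_half_card F₀ h2 2 hcard a]
  have hodd := FiniteField.odd_card_of_char_ne_two hchar₀
  obtain ⟨e, he⟩ : ∃ e, Fintype.card F₀ = 2 * e + 1 := ⟨Fintype.card F₀ / 2, by omega⟩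
  have hS : Even (∑ i ∈ Finset.range 2, Fintype.card F₀ ^ i) := by
    rw [Nat.even_iff, he, geom_mod_two]
  rcases FiniteField.pow_dichotomy hchar₀ ha with h | h
  · have : (a : F) ^ (Fintype.card F₀ / 2) = 1 := by
      have := congrArg F₀.subtype h
      rw [map_pow, map_one] at this
      exact this
    rw [this, one_pow]
  · have : (a : F) ^ (Fintype.card F₀ / 2) = -1 := by
      have := congrArg F₀.subtype h
      rw [map_pow, map_neg, map_one] at this
      exact this
    rw [this, hS.neg_one_pow]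

/-- in an extension of odd degree of finite fields of odd characteristic every non-zero element
is the product of a square and a non-zero element of the small field -/
theorem exists_rational_mul_sq (F₀ : Subfield F) [Fintype F₀] (h2 : (2 : F) ≠ 0) (k : ℕ)
    (hk : Odd k) (hcard : Fintype.card F = Fintype.card F₀ ^ k) (δ : F) (hδ : δ ≠ 0) :
    ∃ (a₀ : F₀) (s : F), a₀ ≠ 0 ∧ δ * s ^ 2 = (a₀ : F) := by
  have h2' : (2 : F₀) ≠ 0 := by
    intro h
    apply h2
    have := congrArg F₀.subtype h
    rw [map_zero, map_ofNat] at this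
    exact this
  have hchar := ringChar_ne_two_of_two_ne_zero h2
  have hchar₀ := ringChar_ne_two_of_two_ne_zero h2'
  by_cases hsq : IsSquare δ
  · obtain ⟨r, hr⟩ := hsq
    have hr0 : r ≠ 0 := by
      rintro rfl
      exact hδ (by rw [hr, mul_zero])
    refine ⟨1, r⁻¹, one_ne_zero, ?_⟩
    rw [hr]
    simp only [OneMemClass.coe_one]
    field_simp
  · obtain ⟨a, ha⟩ := FiniteField.exists_nonsquare hchar₀
    have ha0 : a ≠ 0 := by
      rintro rfl
      exact ha ⟨0, by simp⟩
    have ha' : (a : F) ≠ 0 := fun h => ha0 (Subtype.ext h)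
    have hodd := FiniteField.odd_card_of_char_ne_two hchar₀
    obtain ⟨e, he⟩ : ∃ e, Fintype.card F₀ = 2 * e + 1 := ⟨Fintype.card F₀ / 2, by omega⟩
    have hS : Odd (∑ i ∈ Finset.range k, Fintype.card F₀ ^ i) := by
      rw [Nat.odd_iff, he, geom_mod_two]
      exact Nat.odd_iff.1 hk
    have h1 : a ^ (Fintype.card F₀ / 2) = -1 := by
      rcases FiniteField.pow_dichotomy hchar₀ ha0 with h | h
      · exact absurd ((FiniteField.isSquare_iff hchar₀ ha0).2 h) ha
      · exact h
    have h1' : (a : F) ^ (Fintype.card F₀ / 2) = -1 := by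
      have := congrArg F₀.subtype h1
      rw [map_pow, map_neg, map_one] at this
      exact this
    have h3 : (a : F) ^ (Fintype.card F / 2) = -1 := by
      rw [pow_half_card F₀ h2 k hcard a, h1', hS.neg_one_pow]
    have h4 : δ ^ (Fintype.card F / 2) = -1 := by
      rcases FiniteField.pow_dichotomy hchar hδ with h | h
      · exact absurd ((FiniteField.isSquare_iff hchar hδ).2 h) hsq
      · exact h
    have h5 : IsSquare ((a : F) / δ) := by
      rw [FiniteField.isSquare_iff hchar (div_ne_zero ha' hδ), div_pow, h3, h4]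
      simp
    obtain ⟨s, hs⟩ := h5
    refine ⟨a, s, ha0, ?_⟩
    rw [pow_two, ← hs]
    field_simp

end euler

section jordan

universe u

variable {F : Type u} [Field F]

/-- a unipotent matrix with `(A - 1) ^ r = 0` is similar to a Jordan type matrix with blocks of
size at most `r` -/
theorem exists_jordanType_conj_le {n : ℕ} (A : Matrix (Fin n) (Fin n) F) (r : ℕ)
    (hr : (A - 1) ^ r = 0) :
    ∃ (t : ℕ) (d : Fin t → ℕ), (∀ k, 1 ≤ d k) ∧ (∀ k, d k ≤ r) ∧
      ∃ e : ((k : Fin t) × Fin (d k)) ≃ Fin n,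
        IsConj (Matrix.reindex e e (Cfsg.jordanTypeMatrix d F)) A := by
  classical
  have hNr : (Matrix.toLin' (A - 1)) ^ r = 0 := by
    rw [← Matrix.toLin'_pow, hr, map_zero]
  have hNnil : IsNilpotent (Matrix.toLin' (A - 1)) := ⟨r, hNr⟩
  obtain ⟨ι, hι, d', b', hd', hb', hj'⟩ := jtype_spec (Matrix.toLin' (A - 1)) hNnil
  set eι := Fintype.equivFin ι with heι
  set d : Fin (Fintype.card ι) → ℕ := fun k => d' (eι.symm k) with hd
  have hd1 : ∀ k, 1 ≤ d k := fun k => hd' _
  have hmap : Multiset.map d Finset.univ.val = Multiset.map d' Finset.univ.val := by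
    have h1 : Multiset.map d Finset.univ.val =
        Multiset.map d' (Multiset.map eι.symm Finset.univ.val) := by
      rw [Multiset.map_map]
      rfl
    rw [h1]
    congr 1
    exact Multiset.map_univ_val_equiv eι.symm
  have hjU : jtype (Matrix.toLin' (Cfsg.jordanTypeMatrix d F - 1)) =
      jtype (Matrix.toLin' (A - 1)) := by
    rw [jtype_jordanType d hd1, hmap, hj']
  have hle : ∀ k, d k ≤ r := by
    intro k
    have h1 := (pow_eq_zero_iff_jtype _ hNnil r).1 hNr
    apply h1
    rw [hj', ← hmap]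
    exact Multiset.mem_map_of_mem _ (Finset.mem_univ_val k)
  obtain ⟨ψ, hψ⟩ := (jtype_eq_iff _ (isNilpotent_jordanType d) _ hNnil).1 hjU
  have hcard : Fintype.card ((k : Fin (Fintype.card ι)) × Fin (d k)) = Fintype.card (Fin n) := by
    have h1 := LinearEquiv.finrank_eq ψ
    rw [Module.finrank_fintype_fun_eq_card, Module.finrank_fintype_fun_eq_card] at h1
    exact h1
  refine ⟨Fintype.card ι, d, hd1, hle, Fintype.equivOfCardEq hcard, ?_⟩
  apply isConj_of_equiv _ _ _ ψ
  rw [sub_one_intertwine]
  exact hψ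

end jordan

section blockScalar

variable {F : Type*} [Field F] {t : ℕ} (d : Fin t → ℕ)

/-- the diagonal matrix that is the scalar `s` on the block `k₀` and the identity on the
other blocks -/
def blockScalar (k₀ : Fin t) (s : F) :
    Matrix ((k : Fin t) × Fin (d k)) ((k : Fin t) × Fin (d k)) F :=
  Matrix.diagonal fun x => if x.1 = k₀ then s else 1

theorem blockScalar_comm (k₀ : Fin t) (s : F) :
    blockScalar d k₀ s * Cfsg.jordanTypeMatrix d F =
      Cfsg.jordanTypeMatrix d F * blockScalar d k₀ s := by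
  unfold blockScalar Cfsg.jordanTypeMatrix
  ext ⟨k, i⟩ ⟨k', j⟩
  rw [Matrix.diagonal_mul, Matrix.mul_diagonal, Matrix.blockDiagonal'_apply]
  by_cases h : k = k'
  · subst h
    rw [mul_comm]
  · rw [dif_neg h, mul_zero, zero_mul]

theorem det_blockScalar (k₀ : Fin t) (s : F) : (blockScalar d k₀ s).det = s ^ d k₀ := by
  unfold blockScalar
  rw [Matrix.det_diagonal, Fintype.prod_sigma, Finset.prod_eq_single k₀]
  · simp
  · intro k _ hk
    simp [hk]
  · intro h
    exact absurd (Finset.mem_univ k₀) h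

theorem jordanTypeMatrix_map (F₀ : Subfield F) :
    (Cfsg.jordanTypeMatrix d F₀).map F₀.subtype = Cfsg.jordanTypeMatrix d F := by
  unfold Cfsg.jordanTypeMatrix
  rw [Matrix.blockDiagonal'_map _ _ (map_zero _)]
  congr 1
  funext k
  ext i j
  simp only [Cfsg.jordanBlock, Matrix.map_apply, Matrix.of_apply]
  split_ifs <;> simp

end blockScalar

section adjust

variable {F : Type*} [Field F] {ι : Type*} [Fintype ι] [DecidableEq ι]

/-- adjusting a conjugating matrix to determinant one, at the cost of conjugating the rational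
form by a rational diagonal matrix -/
theorem exists_sl_conj (i₀ : ι) (F₀ : Subfield F) (u C J' D' : Matrix ι ι F)
    (J₀' : Matrix ι ι F₀) (hJ : J₀'.map F₀.subtype = J') (hCJ : C * J' = u * C)
    (hDJ : D' * J' = J' * D') (a₀ : F₀) (ha₀ : a₀ ≠ 0) (hdet : C.det * D'.det = (a₀ : F))
    (hu : u.det ≠ 0) :
    ∃ (R : Matrix ι ι F) (h₀ : Matrix ι ι F₀), R.det = 1 ∧ h₀.det ≠ 0 ∧
      u * R = R * h₀.map F₀.subtype := by
  have ha₀' : (a₀ : F) ≠ 0 := fun h => ha₀ (Subtype.ext h)
  have hC0 : C.det ≠ 0 := by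
    intro h
    rw [h, zero_mul] at hdet
    exact ha₀' hdet.symm
  set A₀ : Matrix ι ι F₀ := Matrix.diagonal (Function.update (1 : ι → F₀) i₀ a₀) with hA₀
  set A₀i : Matrix ι ι F₀ := Matrix.diagonal (Function.update (1 : ι → F₀) i₀ a₀⁻¹) with hA₀i
  have hAiA : A₀i * A₀ = 1 := by
    rw [hA₀, hA₀i, Matrix.diagonal_mul_diagonal, ← Matrix.diagonal_one]
    congr 1
    funext i
    by_cases hi : i = i₀
    · subst hi
      simp [inv_mul_cancel₀ ha₀]
    · simp [Function.update_of_ne hi]
  have hdetA : A₀.det = a₀ := by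
    rw [hA₀, Matrix.det_diagonal, Finset.prod_update_of_mem (Finset.mem_univ i₀)]
    simp
  have hdetAi : A₀i.det = a₀⁻¹ := by
    rw [hA₀i, Matrix.det_diagonal, Finset.prod_update_of_mem (Finset.mem_univ i₀)]
    simp
  have hdetJ : J₀'.det ≠ 0 := by
    intro h
    have h1 : J'.det = 0 := by
      rw [← hJ, ← RingHom.mapMatrix_apply, ← RingHom.map_det, h, map_zero]
    have h2 := congrArg Matrix.det hCJ
    rw [Matrix.det_mul, Matrix.det_mul, h1, mul_zero] at h2
    exact (mul_ne_zero hu hC0) h2.symm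
  have hmapAiA : A₀i.map F₀.subtype * A₀.map F₀.subtype = 1 := by
    rw [← Matrix.map_mul, hAiA, Matrix.map_one _ (map_zero _) (map_one _)]
  refine ⟨C * D' * A₀i.map F₀.subtype, A₀ * J₀' * A₀i, ?_, ?_, ?_⟩
  · rw [Matrix.det_mul, Matrix.det_mul, hdet, ← RingHom.mapMatrix_apply, ← RingHom.map_det, hdetAi]
    simp [mul_inv_cancel₀ ha₀']
  · rw [Matrix.det_mul, Matrix.det_mul, hdetA, hdetAi]
    exact mul_ne_zero (mul_ne_zero ha₀ hdetJ) (inv_ne_zero ha₀)
  · rw [Matrix.map_mul, Matrix.map_mul, hJ]
    calc u * (C * D' * A₀i.map F₀.subtype) = (u * C) * D' * A₀i.map F₀.subtype := by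
          simp only [Matrix.mul_assoc]
      _ = C * (J' * D') * A₀i.map F₀.subtype := by rw [← hCJ]; simp only [Matrix.mul_assoc]
      _ = C * D' * (1 * (J' * A₀i.map F₀.subtype)) := by
          rw [← hDJ]; simp only [Matrix.mul_assoc, Matrix.one_mul]
      _ = C * D' * A₀i.map F₀.subtype * (A₀.map F₀.subtype * J' * A₀i.map F₀.subtype) := by
          rw [← hmapAiA]; simp only [Matrix.mul_assoc]

end adjust

end Cfsg.Agent.Lib.Helper43_SubfieldSL
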