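import Mathlib
import Cfsg.Agent.Lib.Helper43_SubfieldSL
import Cfsg.Agent.Lib.Helper5_SLCard

set_option autoImplicit false

/-!
Involutions of `SL_n(F)` modulo scalars and the subfield group: the determinant of a matrix whose
square is a non-square scalar (via the characteristic polynomial), diagonalisation of matrices of
square one, conjugation into the subfield group of elements whose `p`-th power is scalar
(characteristic `p`) or whose square is the square of a scalar, the obstruction for non-square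
scalars in a quadratic extension, the `2`-adic bookkeeping, and the oddness of the index of the
subfield group for extensions of odd degree.
-/

namespace Cfsg.Agent.Lib.Helper43_SubfieldSL2

open Matrix Polynomial
open Cfsg.Agent.Lib.Helper43_SubfieldSL

section charpoly

variable {F : Type*} [Field F] {n : ℕ}

/-- a matrix whose square is a non-square scalar has even size `2 j` and determinant
`(-z) ^ j` -/
theorem det_of_sq_nonsquare (x : Matrix (Fin n) (Fin n) F) (z : F) (hx : x * x = z • 1)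
    (hz : ¬ IsSquare z) : ∃ j, n = 2 * j ∧ x.det = (-z) ^ j := by
  classical
  set A : Matrix (Fin n) (Fin n) F[X] := (C : F →+* F[X]).mapMatrix x with hA
  have hAA : A * A = Matrix.scalar (Fin n) (C z) := by
    rw [hA, ← map_mul, hx]
    ext i j
    simp [Matrix.one_apply, Matrix.scalar_apply, Matrix.diagonal_apply]
    split_ifs <;> simp
  have hcm : charmatrix x * charmatrix (-x) = Matrix.scalar (Fin n) (X ^ 2 - C z) := by
    have h1 : charmatrix x = Matrix.scalar (Fin n) X - A := rfl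
    have h2 : charmatrix (-x) = Matrix.scalar (Fin n) X + A := by
      show Matrix.scalar (Fin n) X - (C : F →+* F[X]).mapMatrix (-x) = _
      rw [map_neg, sub_neg_eq_add]
    have hcomm : Matrix.scalar (Fin n) (X : F[X]) * A = A * Matrix.scalar (Fin n) X :=
      (Matrix.scalar_commute (X : F[X]) (fun r => mul_comm _ _) A).eq
    rw [h1, h2, sub_mul, mul_add, mul_add, hAA, hcomm, map_sub, map_pow, pow_two]
    abel
  have hprod : x.charpoly * (-x).charpoly = (X ^ 2 - C z) ^ n := by
    unfold Matrix.charpoly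
    rw [← Matrix.det_mul, hcm, Matrix.scalar_apply, Matrix.det_diagonal]
    simp
  have hirr : Irreducible (X ^ 2 - C z : F[X]) := by
    have hdeg : (X ^ 2 - C z : F[X]).natDegree = 2 := natDegree_X_pow_sub_C
    apply Polynomial.irreducible_of_degree_le_three_of_not_isRoot
    · rw [hdeg]
      simp
    · intro r hr
      apply hz
      refine ⟨r, ?_⟩
      have : r ^ 2 - z = 0 := by simpa using hr
      rw [← pow_two]
      exact (sub_eq_zero.1 this).symm
  have hdvd : x.charpoly ∣ (X ^ 2 - C z) ^ n := ⟨_, hprod.symm⟩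
  obtain ⟨j, -, hj⟩ := (dvd_prime_pow hirr.prime n).1 hdvd
  have hmonic : ((X ^ 2 - C z : F[X]) ^ j).Monic := (monic_X_pow_sub_C z (by norm_num)).pow j
  have heq : x.charpoly = (X ^ 2 - C z) ^ j :=
    Polynomial.eq_of_monic_of_associated (Matrix.charpoly_monic x) hmonic hj
  have hn : n = 2 * j := by
    have h1 := Matrix.charpoly_natDegree_eq_dim x
    rw [heq, natDegree_pow, natDegree_X_pow_sub_C, Fintype.card_fin] at h1
    omega
  refine ⟨j, hn, ?_⟩
  rw [Matrix.det_eq_sign_charpoly_coeff, heq, Fintype.card_fin, hn, pow_mul]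
  simp [Polynomial.coeff_zero_eq_eval_zero]

end charpoly

section eigen

variable {F : Type*} [Field F] {n : ℕ}

/-- a matrix with `y * y = 1` over a field of characteristic not two is diagonalisable with
eigenvalues `±1` -/
theorem exists_eigen_conj (h2 : (2 : F) ≠ 0) (y : Matrix (Fin n) (Fin n) F) (hy : y * y = 1) :
    ∃ (C : Matrix (Fin n) (Fin n) F) (ε : Fin n → Bool), C.det ≠ 0 ∧
      y * C = C * Matrix.diagonal (fun j => if ε j then (1 : F) else -1) := by
  classical
  set f : (Fin n → F) →ₗ[F] (Fin n → F) := Matrix.toLin' y with hf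
  have hff : ∀ v, f (f v) = v := by
    intro v
    rw [hf, Matrix.toLin'_apply, Matrix.toLin'_apply, Matrix.mulVec_mulVec, hy, Matrix.one_mulVec]
  set Vp : Submodule F (Fin n → F) := LinearMap.ker (f - LinearMap.id) with hVp
  set Vm : Submodule F (Fin n → F) := LinearMap.ker (f + LinearMap.id) with hVm
  have hmemp : ∀ v, v ∈ Vp ↔ f v = v := by
    intro v
    rw [hVp, LinearMap.mem_ker, LinearMap.sub_apply, LinearMap.id_apply, sub_eq_zero]
  have hmemm : ∀ v, v ∈ Vm ↔ f v = -v := by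
    intro v
    rw [hVm, LinearMap.mem_ker, LinearMap.add_apply, LinearMap.id_apply, add_eq_zero_iff_eq_neg]
  have hc : IsCompl Vp Vm := by
    constructor
    · rw [Submodule.disjoint_def]
      intro v hvp hvm
      rw [hmemp] at hvp
      rw [hmemm] at hvm
      have h3 : (2 : F) • v = 0 := by
        rw [two_smul]
        nth_rewrite 1 [← hvp]
        rw [hvm, neg_add_cancel]
      rcases smul_eq_zero.1 h3 with h | h
      · exact absurd h h2
      · exact h
    · rw [codisjoint_iff, eq_top_iff]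
      intro v _
      have h1 : v = (2 : F)⁻¹ • (v + f v) + (2 : F)⁻¹ • (v - f v) := by
        rw [← smul_add, add_add_sub_cancel, ← two_smul F v, smul_smul, inv_mul_cancel₀ h2,
          one_smul]
      rw [h1]
      apply Submodule.add_mem_sup
      · apply Submodule.smul_mem
        rw [hmemp, map_add, hff, add_comm]
      · apply Submodule.smul_mem
        rw [hmemm, map_sub, hff, neg_sub]
  set bp := Module.finBasis F Vp with hbp
  set bm := Module.finBasis F Vm with hbm
  set B' : Module.Basis (Fin (Module.finrank F Vp) ⊕ Fin (Module.finrank F Vm)) F (Fin n → F) :=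
    (bp.prod bm).map (Submodule.prodEquivOfIsCompl Vp Vm hc) with hB'
  have hcard : Module.finrank F Vp + Module.finrank F Vm = n := by
    have h1 := Module.finrank_eq_card_basis B'
    rw [Module.finrank_fin_fun, Fintype.card_sum, Fintype.card_fin, Fintype.card_fin] at h1
    exact h1.symm
  set e : Fin (Module.finrank F Vp) ⊕ Fin (Module.finrank F Vm) ≃ Fin n :=
    finSumFinEquiv.trans (finCongr hcard) with he
  set B : Module.Basis (Fin n) F (Fin n → F) := B'.reindex e with hB
  set C : Matrix (Fin n) (Fin n) F := (Pi.basisFun F (Fin n)).toMatrix B with hC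
  have hCij : ∀ i j, C i j = B j i := by
    intro i j
    rw [hC, Module.Basis.toMatrix_apply, Pi.basisFun_repr]
  set ε : Fin n → Bool := fun j => (e.symm j).isLeft with hε
  have hBj : ∀ j, f (B j) = (if ε j then (1 : F) else -1) • B j := by
    intro j
    rw [hB, Module.Basis.reindex_apply, hε]
    rcases h : e.symm j with i | i
    · have h1 : B' (Sum.inl i) = (bp i : Fin n → F) := by
        rw [hB', Module.Basis.map_apply, Module.Basis.prod_apply]
        simp
      simp only [h, Sum.isLeft_inl, if_true, one_smul]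
      rw [h1]
      exact (hmemp _).1 (bp i).2
    · have h1 : B' (Sum.inr i) = (bm i : Fin n → F) := by
        rw [hB', Module.Basis.map_apply, Module.Basis.prod_apply]
        simp
      simp only [h, Sum.isLeft_inr, Bool.false_eq_true, if_false, neg_smul, one_smul]
      rw [h1]
      exact (hmemm _).1 (bm i).2
  refine ⟨C, ε, ?_, ?_⟩
  · have h1 : C * B.toMatrix (Pi.basisFun F (Fin n)) = 1 := by
      rw [hC]
      exact Module.Basis.toMatrix_mul_toMatrix_flip _ _
    intro h0
    have h3 := congrArg Matrix.det h1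
    rw [Matrix.det_mul, h0, zero_mul, Matrix.det_one] at h3
    exact zero_ne_one h3
  · ext i j
    rw [Matrix.mul_diagonal, hCij]
    have h1 : (y * C) i j = (f (B j)) i := by
      rw [hf, Matrix.toLin'_apply, Matrix.mul_apply, Matrix.mulVec, dotProduct]
      apply Finset.sum_congr rfl
      intro l _
      rw [hCij]
    rw [h1, hBj, Pi.smul_apply, smul_eq_mul, mul_comm]

/-- the final step: a conjugating matrix of determinant one into a scalar multiple of a rational
matrix gives membership in the subfield group -/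
theorem exists_P_of_conj (F₀ : Subfield F) (x : Matrix.SpecialLinearGroup (Fin n) F) (μ : F)
    (hμ : μ ≠ 0) (R : Matrix (Fin n) (Fin n) F) (h₀ : Matrix (Fin n) (Fin n) F₀) (hR : R.det = 1)
    (hh₀ : h₀.det ≠ 0)
    (huR : (μ⁻¹ • (x : Matrix (Fin n) (Fin n) F)) * R = R * h₀.map F₀.subtype) :
    ∃ P : Matrix.SpecialLinearGroup (Fin n) F, P⁻¹ * x * P ∈
      ((Cfsg.Geo.subfieldSubgroup F₀ 1).comap
        (Matrix.SpecialLinearGroup.toGL : Matrix.SpecialLinearGroup (Fin n) F →* GL (Fin n) F)) := by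
  refine ⟨⟨R, hR⟩, ?_⟩
  rw [Subgroup.mem_comap, mem_subfieldSubgroup_one]
  refine ⟨Matrix.GeneralLinearGroup.mkOfDetNeZero h₀ hh₀, Units.mk0 μ hμ, ?_⟩
  set P : Matrix.SpecialLinearGroup (Fin n) F := ⟨R, hR⟩ with hP
  show ((P⁻¹ * x * P : Matrix.SpecialLinearGroup (Fin n) F) : Matrix (Fin n) (Fin n) F) =
    μ • h₀.map F₀.subtype
  have hxR : (x : Matrix (Fin n) (Fin n) F) * (P : Matrix (Fin n) (Fin n) F) =
      (P : Matrix (Fin n) (Fin n) F) * (μ • h₀.map F₀.subtype) := by
    show (x : Matrix (Fin n) (Fin n) F) * R = R * (μ • h₀.map F₀.subtype)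
    have hxu : (x : Matrix (Fin n) (Fin n) F) = μ • (μ⁻¹ • (x : Matrix (Fin n) (Fin n) F)) := by
      rw [smul_smul, mul_inv_cancel₀ hμ, one_smul]
    rw [hxu, Matrix.smul_mul, huR, Matrix.mul_smul]
  rw [Matrix.SpecialLinearGroup.coe_mul, Matrix.SpecialLinearGroup.coe_mul, Matrix.mul_assoc, hxR,
    ← Matrix.mul_assoc, ← Matrix.SpecialLinearGroup.coe_mul, inv_mul_cancel,
    Matrix.SpecialLinearGroup.coe_one, Matrix.one_mul]

/-- an element of `SL_n(F)` whose square is the square of a scalar is conjugate into the subfield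
group -/
theorem exists_conj_of_sq (h2 : (2 : F) ≠ 0) (hn : 1 ≤ n) (F₀ : Subfield F)
    (x : Matrix.SpecialLinearGroup (Fin n) F) (μ : F) (hμ : μ ≠ 0)
    (hx : (x : Matrix (Fin n) (Fin n) F) * (x : Matrix (Fin n) (Fin n) F) = (μ * μ) • 1) :
    ∃ P : Matrix.SpecialLinearGroup (Fin n) F, P⁻¹ * x * P ∈
      ((Cfsg.Geo.subfieldSubgroup F₀ 1).comap
        (Matrix.SpecialLinearGroup.toGL : Matrix.SpecialLinearGroup (Fin n) F →* GL (Fin n) F)) := by
  classical
  set y : Matrix (Fin n) (Fin n) F := μ⁻¹ • (x : Matrix (Fin n) (Fin n) F) with hy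
  have hyy : y * y = 1 := by
    rw [hy, Matrix.smul_mul, Matrix.mul_smul, hx, smul_smul, smul_smul]
    have : μ⁻¹ * μ⁻¹ * (μ * μ) = 1 := by field_simp
    rw [this, one_smul]
  have hydet : y.det ≠ 0 := by
    rw [hy, Matrix.det_smul, x.2, mul_one]
    exact pow_ne_zero _ (inv_ne_zero hμ)
  obtain ⟨C, ε, hC0, hCy⟩ := exists_eigen_conj h2 y hyy
  set i₀ : Fin n := ⟨0, hn⟩ with hi₀
  set E₀ : Matrix (Fin n) (Fin n) F₀ := Matrix.diagonal (fun j => if ε j then (1 : F₀) else -1)
    with hE₀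
  have hEmap : E₀.map F₀.subtype = Matrix.diagonal (fun j => if ε j then (1 : F) else -1) := by
    rw [hE₀, Matrix.diagonal_map (map_zero _)]
    congr 1
    funext j
    by_cases hj : ε j = true <;> simp [hj]
  set D' : Matrix (Fin n) (Fin n) F := Matrix.diagonal (Function.update (1 : Fin n → F) i₀ C.det⁻¹)
    with hD'
  have hDE : D' * Matrix.diagonal (fun j => if ε j then (1 : F) else -1) =
      Matrix.diagonal (fun j => if ε j then (1 : F) else -1) * D' := by
    rw [hD', Matrix.diagonal_mul_diagonal, Matrix.diagonal_mul_diagonal]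
    congr 1
    funext j
    exact mul_comm _ _
  have hdet : C.det * D'.det = ((1 : F₀) : F) := by
    rw [hD', Matrix.det_diagonal, Finset.prod_update_of_mem (Finset.mem_univ i₀)]
    simp [mul_inv_cancel₀ hC0]
  obtain ⟨R, h₀, hR1, hh₀, huR⟩ := exists_sl_conj i₀ F₀ y C _ D' E₀ hEmap hCy.symm hDE 1
    one_ne_zero hdet hydet
  exact exists_P_of_conj F₀ x μ hμ R h₀ hR1 hh₀ huR

end eigen

section unip

variable {F : Type*} [Field F] [Fintype F]

/-- in characteristic `p`, an element of `SL_n(F)` whose `p`-th power is scalar is conjugate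
under `SL_n(F)` into the subfield group, provided the determinant of a conjugating matrix can be
corrected inside the centraliser of the Jordan form up to a non-zero element of the subfield -/
theorem exists_conj_of_choice (p : ℕ) [Fact p.Prime] [CharP F p] (n : ℕ) (hn : 1 ≤ n)
    (F₀ : Subfield F)
    (hchoice : ∀ (t : ℕ) (d : Fin t → ℕ), (∀ k, 1 ≤ d k) → (∀ k, d k ≤ p) → ∑ k, d k = n →
      ∀ δ : F, δ ≠ 0 → ∃ (k₀ : Fin t) (s : F) (a₀ : F₀), a₀ ≠ 0 ∧ δ * s ^ d k₀ = (a₀ : F))
    (x : Matrix.SpecialLinearGroup (Fin n) F) (z : F)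
    (hz : ((x ^ p : Matrix.SpecialLinearGroup (Fin n) F) : Matrix (Fin n) (Fin n) F) =
      z • (1 : Matrix (Fin n) (Fin n) F)) :
    ∃ P : Matrix.SpecialLinearGroup (Fin n) F, P⁻¹ * x * P ∈
      ((Cfsg.Geo.subfieldSubgroup F₀ 1).comap
        (Matrix.SpecialLinearGroup.toGL : Matrix.SpecialLinearGroup (Fin n) F →* GL (Fin n) F)) := by
  classical
  have hpp : p.Prime := Fact.out
  have hne : Nonempty (Fin n) := ⟨⟨0, by omega⟩⟩
  have hzn : z ^ n = 1 := by
    have h1 := (x ^ p).2
    rw [hz, Matrix.det_smul, Matrix.det_one, mul_one, Fintype.card_fin] at h1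
    exact h1
  have hz0 : z ≠ 0 := by
    rintro rfl
    rw [zero_pow (by omega)] at hzn
    exact zero_ne_one hzn
  obtain ⟨μ, hμ⟩ := surjective_frobenius F p z
  rw [frobenius_def] at hμ
  have hμ0 : μ ≠ 0 := by
    rintro rfl
    rw [zero_pow hpp.ne_zero] at hμ
    exact hz0 hμ.symm
  set u : Matrix (Fin n) (Fin n) F := μ⁻¹ • (x : Matrix (Fin n) (Fin n) F) with hu
  have hup : u ^ p = 1 := by
    rw [hu, _root_.smul_pow, ← Matrix.SpecialLinearGroup.coe_pow, hz, smul_smul, inv_pow, hμ,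
      inv_mul_cancel₀ hz0, one_smul]
  have hNp : (u - 1) ^ p = 0 := by
    have := Matrix.charP (n := Fin n) (R := F) p
    rw [sub_pow_char_of_commute p (Commute.one_right u), one_pow, hup, sub_self]
  have hudet : u.det ≠ 0 := by
    rw [hu, Matrix.det_smul, x.2, mul_one]
    exact pow_ne_zero _ (inv_ne_zero hμ0)
  obtain ⟨t, d, hd1, hdp, e, C, hC⟩ := exists_jordanType_conj_le u p hNp
  have hC' : (C : Matrix (Fin n) (Fin n) F) * Matrix.reindex e e (Cfsg.jordanTypeMatrix d F) =
      u * (C : Matrix (Fin n) (Fin n) F) := hC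
  have hCdet : (C : Matrix (Fin n) (Fin n) F).det ≠ 0 :=
    ((Matrix.isUnit_iff_isUnit_det _).1 C.isUnit).ne_zero
  have hsum : ∑ k, d k = n := by
    have h1 := Fintype.card_congr e
    rw [Fintype.card_sigma, Fintype.card_fin] at h1
    simpa using h1
  obtain ⟨k₀, s, a₀, ha₀, hdet⟩ := hchoice t d hd1 hdp hsum _ hCdet
  have hJmap : (Matrix.reindex e e (Cfsg.jordanTypeMatrix d F₀)).map F₀.subtype =
      Matrix.reindex e e (Cfsg.jordanTypeMatrix d F) := by
    rw [← jordanTypeMatrix_map d F₀]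
    rfl
  have hDJ : Matrix.reindex e e (blockScalar d k₀ s) *
      Matrix.reindex e e (Cfsg.jordanTypeMatrix d F) =
      Matrix.reindex e e (Cfsg.jordanTypeMatrix d F) * Matrix.reindex e e (blockScalar d k₀ s) := by
    rw [Matrix.reindex_apply, Matrix.reindex_apply, Matrix.submatrix_mul_equiv,
      Matrix.submatrix_mul_equiv, blockScalar_comm]
  have hdet' : (C : Matrix (Fin n) (Fin n) F).det *
      (Matrix.reindex e e (blockScalar d k₀ s)).det = (a₀ : F) := by
    rw [Matrix.det_reindex_self, det_blockScalar, hdet]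
  obtain ⟨R, h₀, hR1, hh₀, huR⟩ := exists_sl_conj (⟨0, by omega⟩ : Fin n) F₀ u
    (C : Matrix (Fin n) (Fin n) F) _ _ _ hJmap hC' hDJ a₀ ha₀ hdet' hudet
  exact exists_P_of_conj F₀ x μ hμ0 R h₀ hR1 hh₀ huR

/-- in characteristic two every element of `SL_n(F)` with scalar square is conjugate under
`SL_n(F)` into the subfield group -/
theorem exists_conj_char_two [CharP F 2] (n : ℕ) (hn : 1 ≤ n) (F₀ : Subfield F)
    (x : Matrix.SpecialLinearGroup (Fin n) F) (z : F)
    (hz : ((x ^ 2 : Matrix.SpecialLinearGroup (Fin n) F) : Matrix (Fin n) (Fin n) F) =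
      z • (1 : Matrix (Fin n) (Fin n) F)) :
    ∃ P : Matrix.SpecialLinearGroup (Fin n) F, P⁻¹ * x * P ∈
      ((Cfsg.Geo.subfieldSubgroup F₀ 1).comap
        (Matrix.SpecialLinearGroup.toGL : Matrix.SpecialLinearGroup (Fin n) F →* GL (Fin n) F)) := by
  have hp2 : Fact (Nat.Prime 2) := ⟨Nat.prime_two⟩
  refine exists_conj_of_choice 2 n hn F₀ ?_ x z hz
  intro t d hd1 hd2 hsum δ hδ
  have ht0 : 0 < t := by
    rcases Nat.eq_zero_or_pos t with h | h
    · subst h
      simp at hsum
      omega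
    · exact h
  by_cases h1 : ∃ k₀, d k₀ = 1
  · obtain ⟨k₀, hk₀⟩ := h1
    refine ⟨k₀, δ⁻¹, 1, one_ne_zero, ?_⟩
    rw [hk₀, pow_one, mul_inv_cancel₀ hδ]
    rfl
  · push Not at h1
    obtain ⟨s, hs⟩ := surjective_frobenius F 2 δ⁻¹
    rw [frobenius_def] at hs
    refine ⟨⟨0, ht0⟩, s, 1, one_ne_zero, ?_⟩
    have h2 : d ⟨0, ht0⟩ = 2 := by
      have := hd1 ⟨0, ht0⟩
      have := hd2 ⟨0, ht0⟩
      have := h1 ⟨0, ht0⟩
      omega
    rw [h2, hs, mul_inv_cancel₀ hδ]
    rfl

end unip

section nonsq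

variable {F : Type*} [Field F] {n : ℕ}

/-- an element of `SL_n(F)` whose square is a non-square scalar is not conjugate into the
subfield group when all elements of the subfield are squares -/
theorem not_conj_of_nonsquare (F₀ : Subfield F) (hsq : ∀ a : F₀, IsSquare (a : F)) (hn : 1 ≤ n)
    (x : Matrix.SpecialLinearGroup (Fin n) F) (z : F) (hz : ¬ IsSquare z)
    (hx : (x : Matrix (Fin n) (Fin n) F) * (x : Matrix (Fin n) (Fin n) F) = z • 1)
    (P : Matrix.SpecialLinearGroup (Fin n) F) :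
    P⁻¹ * x * P ∉ ((Cfsg.Geo.subfieldSubgroup F₀ 1).comap
      (Matrix.SpecialLinearGroup.toGL : Matrix.SpecialLinearGroup (Fin n) F →* GL (Fin n) F)) := by
  intro hP
  rw [Subgroup.mem_comap, mem_subfieldSubgroup_one] at hP
  obtain ⟨h, c, hc⟩ := hP
  have hc' : ((P⁻¹ * x * P : Matrix.SpecialLinearGroup (Fin n) F) : Matrix (Fin n) (Fin n) F) =
      (c : F) • (h : Matrix (Fin n) (Fin n) F₀).map F₀.subtype := hc
  have h1 : ((P⁻¹ * x * P : Matrix.SpecialLinearGroup (Fin n) F) : Matrix (Fin n) (Fin n) F) *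
      ((P⁻¹ * x * P : Matrix.SpecialLinearGroup (Fin n) F) : Matrix (Fin n) (Fin n) F) = z • 1 := by
    rw [← Matrix.SpecialLinearGroup.coe_mul]
    have : P⁻¹ * x * P * (P⁻¹ * x * P) = P⁻¹ * (x * x) * P := by group
    rw [this, Matrix.SpecialLinearGroup.coe_mul, Matrix.SpecialLinearGroup.coe_mul,
      Matrix.SpecialLinearGroup.coe_mul, hx, Matrix.mul_smul, Matrix.mul_one, Matrix.smul_mul,
      ← Matrix.SpecialLinearGroup.coe_mul, inv_mul_cancel, Matrix.SpecialLinearGroup.coe_one]
  rw [hc', smul_mul_smul_comm, ← Matrix.map_mul] at h1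
  have h3 := congrFun (congrFun h1 ⟨0, hn⟩) ⟨0, hn⟩
  simp only [Matrix.smul_apply, Matrix.map_apply, Matrix.one_apply_eq, smul_eq_mul, mul_one] at h3
  obtain ⟨r, hr⟩ := hsq (((h : Matrix (Fin n) (Fin n) F₀) * (h : Matrix (Fin n) (Fin n) F₀))
    ⟨0, hn⟩ ⟨0, hn⟩)
  apply hz
  refine ⟨(c : F) * r, ?_⟩
  rw [← h3]
  have : F₀.subtype (((h : Matrix (Fin n) (Fin n) F₀) * (h : Matrix (Fin n) (Fin n) F₀))
    ⟨0, hn⟩ ⟨0, hn⟩) = r * r := hr
  rw [this]
  ring

/-- an explicit element of `SL_{2j}(F)` with square the scalar `z`, when `(-z) ^ j = 1` -/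
theorem exists_elt_sq_eq (j : ℕ) (hj : 1 ≤ j) (hn : n = j + j) (z : F) (hzj : (-z) ^ j = 1) :
    ∃ x : Matrix.SpecialLinearGroup (Fin n) F,
      ((x ^ 2 : Matrix.SpecialLinearGroup (Fin n) F) : Matrix (Fin n) (Fin n) F) =
        z • (1 : Matrix (Fin n) (Fin n) F) ∧
      (x : Matrix (Fin n) (Fin n) F) * (x : Matrix (Fin n) (Fin n) F) = z • 1 ∧
      ∀ c : F, (x : Matrix (Fin n) (Fin n) F) ≠ c • (1 : Matrix (Fin n) (Fin n) F) := by
  classical
  set X : Matrix (Fin j ⊕ Fin j) (Fin j ⊕ Fin j) F :=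
    Matrix.fromBlocks 1 ((z - 1) • 1) 1 (-1) with hX
  have hXX : X * X = z • 1 := by
    rw [hX, Matrix.fromBlocks_multiply, ← Matrix.fromBlocks_one, Matrix.fromBlocks_smul]
    congr 1
    · rw [Matrix.one_mul, Matrix.mul_one, sub_smul, one_smul]
      abel
    · simp
    · simp
    · rw [Matrix.one_mul, neg_mul_neg, Matrix.one_mul, sub_smul, one_smul]
      abel
  have hXdet : X.det = 1 := by
    rw [hX, Matrix.det_fromBlocks_one₁₁]
    have : (-1 : Matrix (Fin j) (Fin j) F) - 1 * ((z - 1) • 1) = (-z) • 1 := by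
      rw [Matrix.one_mul, neg_smul, sub_smul, one_smul]
      abel
    rw [this, Matrix.det_smul, Matrix.det_one, mul_one, Fintype.card_fin, hzj]
  set e : Fin j ⊕ Fin j ≃ Fin n := finSumFinEquiv.trans (finCongr hn.symm) with he
  have hxdet : (Matrix.reindex e e X).det = 1 := by
    rw [Matrix.det_reindex_self]
    exact hXdet
  set x : Matrix.SpecialLinearGroup (Fin n) F := ⟨Matrix.reindex e e X, hxdet⟩ with hx
  have hxc : (x : Matrix (Fin n) (Fin n) F) = X.submatrix e.symm e.symm := rfl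
  have hxx : (x : Matrix (Fin n) (Fin n) F) * (x : Matrix (Fin n) (Fin n) F) = z • 1 := by
    rw [hxc, Matrix.submatrix_mul_equiv, hXX]
    ext a b
    simp [Matrix.one_apply]
  refine ⟨x, ?_, hxx, ?_⟩
  · rw [Matrix.SpecialLinearGroup.coe_pow, pow_two, hxx]
  · intro c hc
    have h1 := congrFun (congrFun hc (e (Sum.inr ⟨0, hj⟩))) (e (Sum.inl ⟨0, hj⟩))
    rw [hxc] at h1
    simp [hX] at h1

end nonsq

section arith

variable {F : Type*} [Field F]

/-- the `2`-adic bookkeeping: if `w ^ j = 1`, `w ^ (2 M) = 1` and the `2`-part of `2 j` is at most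
that of `2 M`, then `w ^ M = 1` -/
theorem pow_half_eq_one (h2 : (2 : F) ≠ 0) (w : F) (j M : ℕ) (hj0 : j ≠ 0) (hM0 : M ≠ 0)
    (hj : w ^ j = 1) (hM : w ^ (2 * M) = 1)
    (hv : padicValNat 2 (2 * j) ≤ padicValNat 2 (2 * M)) : w ^ M = 1 := by
  obtain ⟨b, n', hn'odd, hjb⟩ := Nat.exists_eq_two_pow_mul_odd hj0
  obtain ⟨a, q', hq'odd, hMa⟩ := Nat.exists_eq_two_pow_mul_odd hM0
  have hvj : padicValNat 2 j = b := by
    rw [hjb, padicValNat.mul (by positivity) (by rintro rfl; simp at hn'odd),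
      padicValNat.prime_pow, padicValNat.eq_zero_of_not_dvd (by
        rw [Nat.two_dvd_ne_zero]; exact Nat.odd_iff.1 hn'odd), add_zero]
  have hvM : padicValNat 2 M = a := by
    rw [hMa, padicValNat.mul (by positivity) (by rintro rfl; simp at hq'odd),
      padicValNat.prime_pow, padicValNat.eq_zero_of_not_dvd (by
        rw [Nat.two_dvd_ne_zero]; exact Nat.odd_iff.1 hq'odd), add_zero]
  rw [padicValNat.mul (by norm_num) hj0, padicValNat.mul (by norm_num) hM0, hvj, hvM] at hv
  have hba : b ≤ a := by omega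
  have hsq : (w ^ M) * (w ^ M) = 1 := by
    rw [← pow_add, ← two_mul, hM]
  rcases mul_self_eq_one_iff.1 hsq with h | h
  · exact h
  · exfalso
    have h3 : (w ^ M) ^ n' = -1 := by
      rw [h, hn'odd.neg_one_pow]
    have h4 : (w ^ M) ^ n' = 1 := by
      rw [← pow_mul]
      have : M * n' = j * (2 ^ (a - b) * q') := by
        rw [hMa, hjb]
        have : (2 : ℕ) ^ a = 2 ^ b * 2 ^ (a - b) := by
          rw [← pow_add, Nat.add_sub_cancel' hba]
        rw [this]
        ring
      rw [this, pow_mul, hj, one_pow]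
    rw [h4] at h3
    have : (2 : F) = 0 := by
      have h5 : (1 : F) + 1 = 0 := by
        nth_rewrite 1 [h3]
        exact neg_add_cancel 1
      rw [← h5]
      norm_num
    exact h2 this

variable [Fintype F]

/-- existence of a non-square of small order -/
theorem exists_nonsquare_pow_eq_one (h2 : (2 : F) ≠ 0) (j : ℕ)
    (hv : padicValNat 2 (Fintype.card F - 1) ≤ padicValNat 2 j) (hj0 : j ≠ 0) :
    ∃ w : F, w ^ j = 1 ∧ ¬ IsSquare w := by
  have hchar := ringChar_ne_two_of_two_ne_zero h2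
  have hodd := FiniteField.odd_card_of_char_ne_two hchar
  have hq1 : Fintype.card F - 1 ≠ 0 := by
    have := Fintype.one_lt_card (α := F)
    omega
  obtain ⟨a, q', hq'odd, hqa⟩ := Nat.exists_eq_two_pow_mul_odd hq1
  have hva : padicValNat 2 (Fintype.card F - 1) = a := by
    rw [hqa, padicValNat.mul (by positivity) (by rintro rfl; simp at hq'odd),
      padicValNat.prime_pow, padicValNat.eq_zero_of_not_dvd (by
        rw [Nat.two_dvd_ne_zero]; exact Nat.odd_iff.1 hq'odd), add_zero]
  have hdvd : 2 ^ a ∣ j := by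
    rw [padicValNat_dvd_iff_le hj0]
    omega
  obtain ⟨j', hj'⟩ := hdvd
  obtain ⟨t, ht⟩ := FiniteField.exists_nonsquare hchar
  have ht0 : t ≠ 0 := by
    rintro rfl
    exact ht ⟨0, by simp⟩
  have ht1 : t ^ (Fintype.card F / 2) = -1 := by
    rcases FiniteField.pow_dichotomy hchar ht0 with h | h
    · exact absurd ((FiniteField.isSquare_iff hchar ht0).2 h) ht
    · exact h
  have ha1 : 1 ≤ a := by
    rcases Nat.eq_zero_or_pos a with h | h
    · subst h
      rw [pow_zero, one_mul] at hqa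
      have := Nat.odd_iff.1 hq'odd
      omega
    · exact h
  have hhalf : Fintype.card F / 2 = 2 ^ (a - 1) * q' := by
    have : (2 : ℕ) ^ a = 2 * 2 ^ (a - 1) := by
      rw [← pow_succ']
      congr 1
      omega
    rw [this] at hqa
    have h5 : Fintype.card F = 2 * (2 ^ (a - 1) * q') + 1 := by
      have := Fintype.one_lt_card (α := F)
      rw [← mul_assoc, ← hqa]
      omega
    omega
  refine ⟨t ^ q', ?_, ?_⟩
  · rw [← pow_mul, hj']
    have : q' * (2 ^ a * j') = (Fintype.card F - 1) * j' := by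
      rw [hqa]
      ring
    rw [this, pow_mul, FiniteField.pow_card_sub_one_eq_one t ht0, one_pow]
  · have hw0 : t ^ q' ≠ 0 := pow_ne_zero _ ht0
    rw [FiniteField.isSquare_iff hchar hw0, ← pow_mul, mul_comm, pow_mul, hhalf]
    have : t ^ (2 ^ (a - 1) * q') = -1 := by
      rw [← hhalf]
      exact ht1
    rw [this, hq'odd.neg_one_pow]
    intro h
    have h5 : (2 : F) = 0 := by
      have h6 : (1 : F) + 1 = 0 := by
        nth_rewrite 1 [← h]
        exact neg_add_cancel 1
      rw [← h6]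
      norm_num
    exact h2 h5

end arith

section index

/-- `y ^ k - 1 = (y - 1) * S` with `S` odd, for odd `y` and odd `k` -/
theorem exists_odd_factor (y k : ℕ) (hy : Odd y) (hk : Odd k) :
    ∃ S, Odd S ∧ y ^ k - 1 = (y - 1) * S := by
  obtain ⟨e, he⟩ := hy
  refine ⟨∑ i ∈ Finset.range k, (2 * e + 1) ^ i, ?_, ?_⟩
  · rw [Nat.odd_iff, geom_mod_two]
    exact Nat.odd_iff.1 hk
  · rw [he, pow_eq_geom e k]
    simp

/-- `|GL_n(q₀ ^ k)| = |GL_n(q₀)| * O` with `O` odd, for odd `q₀` and odd `k` -/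
theorem exists_odd_factor_gl (q₀ k n : ℕ) (hq₀ : Odd q₀) (hk : Odd k) :
    ∃ O, Odd O ∧ ∏ i : Fin n, ((q₀ ^ k) ^ n - (q₀ ^ k) ^ (i : ℕ)) =
      (∏ i : Fin n, (q₀ ^ n - q₀ ^ (i : ℕ))) * O := by
  have key : ∀ i : Fin n, ∃ O, Odd O ∧ (q₀ ^ k) ^ n - (q₀ ^ k) ^ (i : ℕ) =
      (q₀ ^ n - q₀ ^ (i : ℕ)) * O := by
    intro i
    have hin : (i : ℕ) ≤ n := i.2.le
    obtain ⟨S, hS, hSeq⟩ := exists_odd_factor (q₀ ^ (n - i)) k hq₀.pow hk
    refine ⟨q₀ ^ ((i : ℕ) * (k - 1)) * S, (hq₀.pow).mul hS, ?_⟩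
    have h1 : (q₀ ^ k) ^ n - (q₀ ^ k) ^ (i : ℕ) = (q₀ ^ k) ^ (i : ℕ) * ((q₀ ^ (n - i)) ^ k - 1) := by
      rw [Nat.mul_sub, mul_one, ← pow_mul, ← pow_mul, ← pow_mul, ← pow_add]
      congr 2
      rw [mul_comm (n - (i : ℕ)) k, ← Nat.mul_add, Nat.add_sub_cancel' hin]
    have h2 : q₀ ^ n - q₀ ^ (i : ℕ) = q₀ ^ (i : ℕ) * (q₀ ^ (n - i) - 1) := by
      rw [Nat.mul_sub, mul_one, ← pow_add, Nat.add_sub_cancel' hin]
    have h3 : (q₀ ^ k) ^ (i : ℕ) = q₀ ^ (i : ℕ) * q₀ ^ ((i : ℕ) * (k - 1)) := by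
      rw [← pow_mul, ← pow_add]
      congr 1
      have : 1 ≤ k := hk.pos
      have h4 : k = 1 + (k - 1) := by omega
      nth_rewrite 1 [h4]
      ring
    rw [h1, h2, hSeq, h3]
    ring
  choose O hO hOeq using key
  refine ⟨∏ i : Fin n, O i, ?_, ?_⟩
  · apply Finset.prod_induction _ Odd (fun a b => Odd.mul) odd_one
    intro i _
    exact hO i
  · rw [← Finset.prod_mul_distrib]
    exact Finset.prod_congr rfl (fun i _ => hOeq i)

variable {F : Type*} [Field F] [Fintype F]

/-- for odd `q` and an extension of odd degree, the subfield group has odd index in `SL_n(F)` -/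
theorem odd_index_of_odd (h2 : (2 : F) ≠ 0) (n : ℕ) (hn : 1 ≤ n) (F₀ : Subfield F) [Fintype F₀]
    (k : ℕ) (hk : Odd k) (hcard : Fintype.card F = Fintype.card F₀ ^ k) :
    ¬ 2 ∣ ((Cfsg.Geo.subfieldSubgroup F₀ 1).comap
      (Matrix.SpecialLinearGroup.toGL : Matrix.SpecialLinearGroup (Fin n) F →* GL (Fin n) F)).index := by
  classical
  set H := ((Cfsg.Geo.subfieldSubgroup F₀ 1).comap
      (Matrix.SpecialLinearGroup.toGL : Matrix.SpecialLinearGroup (Fin n) F →* GL (Fin n) F)) with hH
  have h2' : (2 : F₀) ≠ 0 := by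
    intro h
    apply h2
    have := congrArg F₀.subtype h
    rw [map_zero, map_ofNat] at this
    exact this
  have hchar₀ := ringChar_ne_two_of_two_ne_zero h2'
  have hodd₀ : Odd (Fintype.card F₀) := Nat.odd_iff.2 (FiniteField.odd_card_of_char_ne_two hchar₀)
  set φ : Matrix.SpecialLinearGroup (Fin n) F₀ →* Matrix.SpecialLinearGroup (Fin n) F :=
    Matrix.SpecialLinearGroup.map (F₀.subtype : F₀ →+* F) with hφ
  have hφinj : Function.Injective φ := by
    intro a b hab
    ext i j
    have h1 := congrArg (fun g : Matrix.SpecialLinearGroup (Fin n) F =>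
      (g : Matrix (Fin n) (Fin n) F) i j) hab
    simp only [hφ, Matrix.SpecialLinearGroup.map_apply_coe, RingHom.mapMatrix_apply,
      Matrix.map_apply] at h1
    exact congrArg Subtype.val (Subtype.ext h1)
  have hle : φ.range ≤ H := by
    rintro _ ⟨g, rfl⟩
    rw [hH, Subgroup.mem_comap, mem_subfieldSubgroup_one]
    refine ⟨Matrix.SpecialLinearGroup.toGL g, 1, ?_⟩
    rw [Units.val_one, one_smul]
    rfl
  have hdvd : H.index ∣ φ.range.index := Subgroup.index_dvd_of_le hle
  have hidx : φ.range.index * Nat.card (Matrix.SpecialLinearGroup (Fin n) F₀) =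
      Nat.card (Matrix.SpecialLinearGroup (Fin n) F) := by
    rw [← Subgroup.index_mul_card φ.range]
    congr 1
    exact Nat.card_congr (MonoidHom.ofInjective hφinj).toEquiv
  have hGL := Cfsg.Agent.Lib.Helper5_SLCard.card_GL_eq_card_SL_mul (F := F) n hn
  have hGL₀ := Cfsg.Agent.Lib.Helper5_SLCard.card_GL_eq_card_SL_mul (F := F₀) n hn
  rw [Matrix.card_GL_field] at hGL hGL₀
  obtain ⟨O, hOodd, hO⟩ := exists_odd_factor_gl (Fintype.card F₀) k n hodd₀ hk
  obtain ⟨S, hSodd, hS⟩ := exists_odd_factor (Fintype.card F₀) k hodd₀ hk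
  rw [hcard] at hGL
  rw [hO, hGL₀, hS, ← hidx] at hGL
  -- hGL : card SL(F₀) * (q₀ - 1) * O = idx * card SL(F₀) * ((q₀ - 1) * S)
  have hSL0 : Nat.card (Matrix.SpecialLinearGroup (Fin n) F₀) ≠ 0 := Nat.card_pos.ne'
  have hq1 : Fintype.card F₀ - 1 ≠ 0 := by
    have := Fintype.one_lt_card (α := F₀)
    omega
  have hfin : O = φ.range.index * S := by
    have h5 : Nat.card (Matrix.SpecialLinearGroup (Fin n) F₀) * (Fintype.card F₀ - 1) * O =
        Nat.card (Matrix.SpecialLinearGroup (Fin n) F₀) * (Fintype.card F₀ - 1) *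
          (φ.range.index * S) := by
      rw [hGL]
      ring
    exact Nat.eq_of_mul_eq_mul_left (Nat.pos_of_ne_zero (mul_ne_zero hSL0 hq1)) h5
  intro h2dvd
  have h6 : 2 ∣ O := by
    rw [hfin]
    exact Dvd.dvd.mul_right (h2dvd.trans hdvd) S
  have := Nat.odd_iff.1 hOodd
  omega

end index

end Cfsg.Agent.Lib.Helper43_SubfieldSL2
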