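import Cfsg.Agent.Lib.Helper43_RegNilpotent5

set_option autoImplicit false

/-!
Regular unipotent matrices (`(M - 1)^n = 0`, `rank (M - 1) = n - 1`): existence, determinant one,
conjugacy under the general linear group, determinants of centralising matrices are `n`-th powers.
-/

namespace Cfsg.Agent.Lib.Helper43_RegUnipotent

open Matrix Module
open Cfsg.Agent.Lib.Helper43_RegNilpotent

variable {F : Type*} [Field F]

/-- the lower shift matrix -/
def shiftM (n : ℕ) (F : Type*) [Field F] : Matrix (Fin n) (Fin n) F :=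
  Matrix.of fun i j => if (i : ℕ) = (j : ℕ) + 1 then 1 else 0

theorem shiftM_mulVec (n : ℕ) (y : Fin n → F) (i : Fin n) :
    (shiftM n F *ᵥ y) i = if h : 1 ≤ (i : ℕ) then y ⟨(i : ℕ) - 1, by omega⟩ else 0 := by
  simp only [Matrix.mulVec, dotProduct, shiftM, Matrix.of_apply]
  by_cases hi : 1 ≤ (i : ℕ)
  · rw [dif_pos hi]
    have hi1 : (i : ℕ) - 1 < n := by omega
    rw [Finset.sum_eq_single ⟨(i : ℕ) - 1, hi1⟩]
    · have : (i : ℕ) = (i : ℕ) - 1 + 1 := by omega
      rw [if_pos (by simpa using this), one_mul]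
    · intro j _ hj
      have : ¬ ((i : ℕ) = (j : ℕ) + 1) := by
        intro h
        apply hj
        apply Fin.ext
        simp only
        omega
      rw [if_neg this, zero_mul]
    · intro h; exact absurd (Finset.mem_univ _) h
  · rw [dif_neg hi]
    apply Finset.sum_eq_zero
    intro j _
    have : ¬ ((i : ℕ) = (j : ℕ) + 1) := by omega
    rw [if_neg this, zero_mul]

theorem shiftM_pow_mulVec (n : ℕ) (k : ℕ) (x : Fin n → F) (i : Fin n) :
    ((shiftM n F) ^ k *ᵥ x) i = if h : k ≤ (i : ℕ) then x ⟨(i : ℕ) - k, by omega⟩ else 0 := by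
  induction k generalizing i with
  | zero => simp
  | succ k ih =>
    rw [pow_succ', ← Matrix.mulVec_mulVec, shiftM_mulVec]
    by_cases hi : 1 ≤ (i : ℕ)
    · rw [dif_pos hi, ih]
      by_cases hk : k + 1 ≤ (i : ℕ)
      · have hk' : k ≤ (i : ℕ) - 1 := by omega
        rw [dif_pos hk, dif_pos (by simpa using hk')]
        congr 1
        apply Fin.ext
        simp only
        omega
      · have hk' : ¬ k ≤ (i : ℕ) - 1 := by omega
        rw [dif_neg hk, dif_neg (by simpa using hk')]
    · rw [dif_neg hi, dif_neg (by omega)]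

theorem shiftM_pow_n (n : ℕ) : (shiftM n F) ^ n = 0 := by
  apply Matrix.toLin'.injective
  apply LinearMap.ext
  intro x
  rw [Matrix.toLin'_apply, map_zero, LinearMap.zero_apply]
  ext i
  rw [shiftM_pow_mulVec, dif_neg (by omega)]
  rfl

theorem shiftM_rank (n : ℕ) (hn : 1 ≤ n) : (shiftM n F).rank = n - 1 := by
  have h1 := LinearMap.finrank_range_add_finrank_ker (Matrix.mulVecLin (shiftM n F))
  rw [Module.finrank_fin_fun] at h1
  have hker : Module.finrank F (LinearMap.ker (Matrix.mulVecLin (shiftM n F))) = 1 := by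
    have hlast : n - 1 < n := by omega
    have hmem : (Pi.single (⟨n - 1, hlast⟩ : Fin n) (1 : F)) ∈ LinearMap.ker (Matrix.mulVecLin (shiftM n F)) := by
      rw [LinearMap.mem_ker, Matrix.mulVecLin_apply]
      ext i
      rw [shiftM_mulVec]
      by_cases h : 1 ≤ (i : ℕ)
      · rw [dif_pos h, Pi.single_apply, if_neg]
        · rfl
        · intro h'
          have := congrArg Fin.val h'
          simp only at this
          omega
      · rw [dif_neg h]; rfl
    rw [finrank_eq_one_iff']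
    refine ⟨⟨_, hmem⟩, ?_, ?_⟩
    · intro h
      have := congrArg (fun v : LinearMap.ker (Matrix.mulVecLin (shiftM n F)) => (v : Fin n → F) ⟨n - 1, hlast⟩) h
      simp at this
    · rintro ⟨x, hx⟩
      refine ⟨x ⟨n - 1, hlast⟩, ?_⟩
      apply Subtype.ext
      rw [LinearMap.mem_ker, Matrix.mulVecLin_apply] at hx
      ext j
      simp only [SetLike.val_smul, Pi.smul_apply, Pi.single_apply, smul_eq_mul, mul_ite, mul_one, mul_zero]
      by_cases hj : j = ⟨n - 1, hlast⟩
      · rw [if_pos hj, hj]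
      · rw [if_neg hj]
        have hj' : (j : ℕ) + 1 < n := by
          have : (j : ℕ) ≠ n - 1 := fun h => hj (Fin.ext h)
          omega
        have := congrFun hx ⟨(j : ℕ) + 1, hj'⟩
        rw [shiftM_mulVec, dif_pos (by simp)] at this
        simp only [Nat.add_sub_cancel, Fin.eta, Pi.zero_apply] at this
        exact this.symm
  have : (shiftM n F).rank = Module.finrank F (LinearMap.range (Matrix.mulVecLin (shiftM n F))) := rfl
  omega

/-- regular unipotent matrices -/
def Reg {n : ℕ} (M : Matrix (Fin n) (Fin n) F) : Prop :=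
  (M - 1) ^ n = 0 ∧ (M - 1).rank = n - 1

theorem exists_reg {n : ℕ} (hn : 1 ≤ n) : ∃ M : Matrix (Fin n) (Fin n) F, Reg M :=
  ⟨1 + shiftM n F, by rw [Reg, add_sub_cancel_left]; exact ⟨shiftM_pow_n n, shiftM_rank n hn⟩⟩

section
variable {n : ℕ}

/-- the algebra equivalence between matrices and endomorphisms -/
noncomputable abbrev toEnd (n : ℕ) (F : Type*) [Field F] :
    Matrix (Fin n) (Fin n) F ≃ₐ[F] Module.End F (Fin n → F) := Matrix.toLinAlgEquiv'

theorem toEnd_apply (M : Matrix (Fin n) (Fin n) F) (x : Fin n → F) : toEnd n F M x = M *ᵥ x := rfl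

theorem det_toEnd (M : Matrix (Fin n) (Fin n) F) : LinearMap.det (toEnd n F M) = M.det := by
  have : toEnd n F M = Matrix.toLin' M := rfl
  rw [this, LinearMap.det_toLin']

theorem Reg.nil {M : Matrix (Fin n) (Fin n) F} (h : Reg M) :
    (toEnd n F (M - 1)) ^ finrank F (Fin n → F) = 0 := by
  rw [Module.finrank_fin_fun, ← map_pow, h.1, map_zero]

theorem Reg.ker {M : Matrix (Fin n) (Fin n) F} (h : Reg M) :
    finrank F (LinearMap.ker (toEnd n F (M - 1))) ≤ 1 := by
  have h1 := LinearMap.finrank_range_add_finrank_ker (toEnd n F (M - 1))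
  rw [Module.finrank_fin_fun] at h1
  have h2 : finrank F (LinearMap.range (toEnd n F (M - 1))) = n - 1 := h.2
  omega

theorem Reg.det_eq_one {M : Matrix (Fin n) (Fin n) F} (h : Reg M) : M.det = 1 := by
  have h1 := det_scalar_add_nilpotent (1 : F) (toEnd n F (M - 1)) ⟨_, h.nil⟩
  rw [one_smul, one_pow, ← map_one (toEnd n F), ← map_add, add_sub_cancel, det_toEnd] at h1
  exact h1

theorem Reg.exists_conj {M M' : Matrix (Fin n) (Fin n) F} (h : Reg M) (h' : Reg M') (hn : 1 ≤ n) :
    ∃ g : GL (Fin n) F, (g : Matrix (Fin n) (Fin n) F) * M = M' * (g : Matrix (Fin n) (Fin n) F) := by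
  obtain ⟨e, he⟩ := exists_equiv_conj (toEnd n F (M - 1)) (toEnd n F (M' - 1)) h.nil h.ker h'.nil h'.ker
    (by rw [Module.finrank_fin_fun]; omega)
  have hdet : (LinearMap.toMatrix' (e : (Fin n → F) →ₗ[F] (Fin n → F))).det ≠ 0 := by
    rw [LinearMap.det_toMatrix']
    exact (LinearEquiv.isUnit_det' e).ne_zero
  refine ⟨Matrix.GeneralLinearGroup.mkOfDetNeZero _ hdet, ?_⟩
  show LinearMap.toMatrix' (e : (Fin n → F) →ₗ[F] (Fin n → F)) * M
    = M' * LinearMap.toMatrix' (e : (Fin n → F) →ₗ[F] (Fin n → F))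
  have key : LinearMap.toMatrix' (e : (Fin n → F) →ₗ[F] (Fin n → F)) * (M - 1)
      = (M' - 1) * LinearMap.toMatrix' (e : (Fin n → F) →ₗ[F] (Fin n → F)) := by
    apply Matrix.toLin'.injective
    apply LinearMap.ext
    intro x
    rw [Matrix.toLin'_mul, Matrix.toLin'_mul, Matrix.toLin'_toMatrix', LinearMap.comp_apply,
      LinearMap.comp_apply]
    exact he x
  rw [Matrix.mul_sub, Matrix.sub_mul, mul_one, one_mul] at key
  exact sub_left_injective key

theorem Reg.det_centralizer {M : Matrix (Fin n) (Fin n) F} (h : Reg M) (hn : 1 ≤ n)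
    (z : Matrix (Fin n) (Fin n) F) (hz : z * M = M * z) : ∃ a : F, z.det = a ^ n := by
  have hc : Commute (toEnd n F z) (toEnd n F (M - 1)) := by
    show toEnd n F z * toEnd n F (M - 1) = toEnd n F (M - 1) * toEnd n F z
    rw [← map_mul, ← map_mul, Matrix.mul_sub, Matrix.sub_mul, hz, mul_one, one_mul]
  obtain ⟨a, ha⟩ := det_eq_pow_of_commute (toEnd n F (M - 1)) h.nil h.ker
    (by rw [Module.finrank_fin_fun]; omega) (toEnd n F z) hc
  rw [det_toEnd, Module.finrank_fin_fun] at ha
  exact ⟨a, ha⟩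

theorem Reg.conj {M M' : Matrix (Fin n) (Fin n) F} (h : Reg M) (g : GL (Fin n) F)
    (hg : (g : Matrix (Fin n) (Fin n) F) * M = M' * (g : Matrix (Fin n) (Fin n) F)) : Reg M' := by
  have hgi : (g : Matrix (Fin n) (Fin n) F) * ((g⁻¹ : GL (Fin n) F) : Matrix (Fin n) (Fin n) F) = 1 := by
    rw [← Units.val_mul, mul_inv_cancel, Units.val_one]
  have hM' : M' - 1 = (g : Matrix (Fin n) (Fin n) F) * (M - 1) * ((g⁻¹ : GL (Fin n) F) : Matrix (Fin n) (Fin n) F) := by
    rw [Matrix.mul_sub, Matrix.sub_mul, mul_one, hgi, hg, mul_assoc, hgi, mul_one]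
  have hpow : ∀ k : ℕ, (M' - 1) ^ k = (g : Matrix (Fin n) (Fin n) F) * (M - 1) ^ k * ((g⁻¹ : GL (Fin n) F) : Matrix (Fin n) (Fin n) F) := by
    intro k
    rw [hM']
    have := Units.conj_pow g (M - 1) k
    exact this
  constructor
  · rw [hpow, h.1, mul_zero, zero_mul]
  · rw [hM', Matrix.rank_mul_eq_left_of_isUnit_det _ _ ((Matrix.isUnit_iff_isUnit_det _).mp (g⁻¹).isUnit),
      Matrix.rank_mul_eq_right_of_isUnit_det _ _ ((Matrix.isUnit_iff_isUnit_det _).mp g.isUnit)]
    exact h.2

end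

end Cfsg.Agent.Lib.Helper43_RegUnipotent
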