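import Cfsg.Agent.Lib.Helper43_SympAdjoint
import Cfsg.Agent.Lib.Helper43_RegUnipotent

set_option autoImplicit false

/-!
Existence of a regular unipotent element in the symplectic group over a field of characteristic
not two: the Cayley transform of an explicit regular nilpotent element of the symplectic Lie
algebra.
-/

namespace Cfsg.Agent.Lib.Helper43_SympRegExist

open Matrix Module
open Cfsg.Agent.Lib.Helper43_SympAdjoint Cfsg.Agent.Lib.Helper43_RegUnipotent

variable {F : Type*} [Field F]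

section cayley

variable {l : Type*} [Fintype l] [DecidableEq l]

theorem rank_smul_of_ne_zero {ι : Type*} [Fintype ι] [DecidableEq ι] (d : F) (hd : d ≠ 0)
    (A : Matrix ι ι F) : (d • A).rank = A.rank := by
  have h1 : d • A = (d • (1 : Matrix ι ι F)) * A := by
    rw [smul_mul_assoc, one_mul]
  have hu : IsUnit (d • (1 : Matrix ι ι F)).det := by
    rw [Matrix.det_smul, Matrix.det_one, mul_one]
    exact (isUnit_iff_ne_zero.2 hd).pow _
  rw [h1, Matrix.rank_mul_eq_right_of_isUnit_det _ _ hu]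

/-- the Cayley transform of a nilpotent element of the symplectic Lie algebra -/
theorem exists_cayley (h2 : (2 : F) ≠ 0) (Y : Matrix (l ⊕ l) (l ⊕ l) F) (hY : adj Y = -Y) (n : ℕ)
    (hn : Y ^ n = 0) :
    ∃ U : Matrix.symplecticGroup l F, ((U : Matrix (l ⊕ l) (l ⊕ l) F) - 1) ^ n = 0 ∧
      ((U : Matrix (l ⊕ l) (l ⊕ l) F) - 1).rank = Y.rank := by
  have hnil : IsNilpotent Y := ⟨n, hn⟩
  obtain ⟨w, hw⟩ := hnil.isUnit_one_sub
  set Wi : Matrix (l ⊕ l) (l ⊕ l) F := ((w⁻¹ : (Matrix (l ⊕ l) (l ⊕ l) F)ˣ) :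
    Matrix (l ⊕ l) (l ⊕ l) F) with hWi
  have h1 : (1 - Y) * Wi = 1 := by rw [← hw]; exact w.mul_inv
  have hadjWi : adj Wi * (1 + Y) = 1 := by
    have := congrArg adj h1
    rw [adj_mul, adj_sub, adj_one, hY, sub_neg_eq_add] at this
    exact this
  have hcomm : (1 - Y) * (1 + Y) = (1 + Y) * (1 - Y) := by
    noncomm_ring
  have hU : adj ((1 + Y) * Wi) * ((1 + Y) * Wi) = 1 := by
    rw [adj_mul, adj_add, adj_one, hY, ← sub_eq_add_neg]
    calc adj Wi * (1 - Y) * ((1 + Y) * Wi) = adj Wi * ((1 - Y) * (1 + Y)) * Wi := by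
          simp only [Matrix.mul_assoc]
      _ = adj Wi * (1 + Y) * ((1 - Y) * Wi) := by rw [hcomm]; simp only [Matrix.mul_assoc]
      _ = 1 := by rw [hadjWi, h1, Matrix.one_mul]
  have hsub : (1 + Y) * Wi - 1 = (2 : F) • Y * Wi := by
    calc (1 + Y) * Wi - 1 = (1 + Y) * Wi - (1 - Y) * Wi := by rw [h1]
      _ = ((1 + Y) - (1 - Y)) * Wi := by rw [← Matrix.sub_mul]
      _ = (2 : F) • Y * Wi := by
          congr 1
          rw [two_smul]
          abel
  have hcY : Commute Y Wi := by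
    have : Commute Y ((w : (Matrix (l ⊕ l) (l ⊕ l) F)ˣ) : Matrix (l ⊕ l) (l ⊕ l) F) := by
      rw [hw]
      exact (Commute.one_right Y).sub_right (Commute.refl Y)
    exact this.units_inv_right
  refine ⟨⟨(1 + Y) * Wi, (adj_mul_self_iff _).1 hU⟩, ?_, ?_⟩
  · show ((1 + Y) * Wi - 1) ^ n = 0
    rw [hsub, (hcY.smul_left (2 : F)).mul_pow, smul_pow, hn, smul_zero, Matrix.zero_mul]
  · show ((1 + Y) * Wi - 1).rank = Y.rank
    have hdet : IsUnit Wi.det := (Matrix.isUnit_iff_isUnit_det _).1 (w⁻¹).isUnit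
    rw [hsub, Matrix.rank_mul_eq_left_of_isUnit_det _ _ hdet, rank_smul_of_ne_zero _ h2]

end cayley

section explicit

/-- the matrix unit at the first position -/
def E0 (m : ℕ) (F : Type*) [Field F] : Matrix (Fin m) (Fin m) F :=
  Matrix.of fun i j => if (i : ℕ) = 0 ∧ (j : ℕ) = 0 then 1 else 0

theorem E0_transpose (m : ℕ) : (E0 m F)ᵀ = E0 m F := by
  ext i j
  simp only [E0, Matrix.transpose_apply, Matrix.of_apply, and_comm]

theorem E0_mulVec (m : ℕ) (y : Fin m → F) (i : Fin m) :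
    (E0 m F *ᵥ y) i = if (i : ℕ) = 0 then y i else 0 := by
  simp only [Matrix.mulVec, dotProduct, E0, Matrix.of_apply]
  by_cases hi : (i : ℕ) = 0
  · rw [if_pos hi, Finset.sum_eq_single i]
    · rw [if_pos ⟨hi, hi⟩, one_mul]
    · intro j _ hj
      rw [if_neg, zero_mul]
      rintro ⟨-, hj0⟩
      exact hj (Fin.ext (by omega))
    · intro h; exact absurd (Finset.mem_univ _) h
  · rw [if_neg hi]
    apply Finset.sum_eq_zero
    intro j _
    rw [if_neg (fun h => hi h.1), zero_mul]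

theorem shiftMT_mulVec (m : ℕ) (y : Fin m → F) (i : Fin m) :
    ((shiftM m F)ᵀ *ᵥ y) i = if h : (i : ℕ) + 1 < m then y ⟨(i : ℕ) + 1, h⟩ else 0 := by
  simp only [Matrix.mulVec, dotProduct, shiftM, Matrix.transpose_apply, Matrix.of_apply]
  by_cases hi : (i : ℕ) + 1 < m
  · rw [dif_pos hi, Finset.sum_eq_single ⟨(i : ℕ) + 1, hi⟩]
    · rw [if_pos rfl, one_mul]
    · intro j _ hj
      rw [if_neg, zero_mul]
      intro h
      exact hj (Fin.ext h)
    · intro h; exact absurd (Finset.mem_univ _) h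
  · rw [dif_neg hi]
    apply Finset.sum_eq_zero
    intro j _
    rw [if_neg, zero_mul]
    intro h
    have := j.2
    omega

/-- a regular nilpotent element of the symplectic Lie algebra -/
def Ymat (m : ℕ) (F : Type*) [Field F] : Matrix (Fin m ⊕ Fin m) (Fin m ⊕ Fin m) F :=
  fromBlocks (shiftM m F) (E0 m F) 0 (-(shiftM m F)ᵀ)

theorem adj_Ymat (m : ℕ) : adj (Ymat m F) = -Ymat m F := by
  unfold adj Ymat
  rw [J, fromBlocks_transpose, fromBlocks_neg, fromBlocks_multiply, fromBlocks_multiply,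
    fromBlocks_neg]
  simp [E0_transpose]

theorem fromBlocks_upper_pow {n₁ n₂ : Type*} [Fintype n₁] [Fintype n₂] [DecidableEq n₁]
    [DecidableEq n₂] (A : Matrix n₁ n₁ F) (B : Matrix n₁ n₂ F) (D : Matrix n₂ n₂ F) (k : ℕ) :
    ∃ X : Matrix n₁ n₂ F, (fromBlocks A B 0 D) ^ k = fromBlocks (A ^ k) X 0 (D ^ k) := by
  induction k with
  | zero => exact ⟨0, by rw [pow_zero, pow_zero, pow_zero, fromBlocks_one]⟩
  | succ k ih =>
    obtain ⟨X, hX⟩ := ih
    refine ⟨A ^ k * B + X * D, ?_⟩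
    rw [pow_succ, hX, fromBlocks_multiply, pow_succ, pow_succ]
    simp

theorem Ymat_pow (m : ℕ) : Ymat m F ^ (2 * m) = 0 := by
  obtain ⟨X, hX⟩ := fromBlocks_upper_pow (shiftM m F) (E0 m F) (-(shiftM m F)ᵀ) m
  have h1 : (-(shiftM m F)ᵀ) ^ m = 0 := by
    rw [neg_pow, ← Matrix.transpose_pow, shiftM_pow_n, Matrix.transpose_zero, mul_zero]
  rw [shiftM_pow_n, h1] at hX
  rw [two_mul, pow_add]
  unfold Ymat
  rw [hX, fromBlocks_multiply]
  simp

theorem Ymat_mulVec_inl (m : ℕ) (v : Fin m ⊕ Fin m → F) (i : Fin m) :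
    (Ymat m F *ᵥ v) (Sum.inl i) =
      (shiftM m F *ᵥ (v ∘ Sum.inl)) i + (E0 m F *ᵥ (v ∘ Sum.inr)) i := by
  unfold Ymat
  rw [fromBlocks_mulVec]
  rfl

theorem Ymat_mulVec_inr (m : ℕ) (v : Fin m ⊕ Fin m → F) (i : Fin m) :
    (Ymat m F *ᵥ v) (Sum.inr i) = -((shiftM m F)ᵀ *ᵥ (v ∘ Sum.inr)) i := by
  unfold Ymat
  rw [fromBlocks_mulVec]
  simp [Matrix.neg_mulVec]

theorem Ymat_ker (m : ℕ) (v : Fin m ⊕ Fin m → F) (hv : Ymat m F *ᵥ v = 0) :
    (∀ i : Fin m, v (Sum.inr i) = 0) ∧ ∀ i : Fin m, (i : ℕ) + 1 < m → v (Sum.inl i) = 0 := by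
  have hr : ∀ i : Fin m, v (Sum.inr i) = 0 := by
    intro i
    by_cases hi : (i : ℕ) = 0
    · have := congrFun hv (Sum.inl i)
      rw [Ymat_mulVec_inl, shiftM_mulVec, dif_neg (by omega), E0_mulVec, if_pos hi, zero_add] at this
      exact this
    · have hlt : (i : ℕ) - 1 < m := by have := i.2; omega
      have := congrFun hv (Sum.inr ⟨(i : ℕ) - 1, hlt⟩)
      have hlt' : ((⟨(i : ℕ) - 1, hlt⟩ : Fin m) : ℕ) + 1 < m := by
        show (i : ℕ) - 1 + 1 < m
        have := i.2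
        omega
      rw [Ymat_mulVec_inr, shiftMT_mulVec, dif_pos hlt', Pi.zero_apply, neg_eq_zero] at this
      have hi' : (⟨(i : ℕ) - 1 + 1, hlt'⟩ : Fin m) = i := Fin.ext (by show (i : ℕ) - 1 + 1 = i; omega)
      have h3 : (v ∘ Sum.inr) (⟨(i : ℕ) - 1 + 1, hlt'⟩ : Fin m) = 0 := this
      rw [hi'] at h3
      exact h3
  refine ⟨hr, ?_⟩
  intro i hi
  have := congrFun hv (Sum.inl ⟨(i : ℕ) + 1, hi⟩)
  rw [Ymat_mulVec_inl, shiftM_mulVec, dif_pos (by show 1 ≤ (i : ℕ) + 1; omega), E0_mulVec,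
    if_neg (by show ¬ ((i : ℕ) + 1 = 0); omega), add_zero] at this
  exact this

theorem Ymat_rank (m : ℕ) (hm : 1 ≤ m) : (Ymat m F).rank = 2 * m - 1 := by
  have h1 := LinearMap.finrank_range_add_finrank_ker (Matrix.mulVecLin (Ymat m F))
  rw [Module.finrank_fintype_fun_eq_card, Fintype.card_sum, Fintype.card_fin] at h1
  have hlast : m - 1 < m := by omega
  have hker : finrank F (LinearMap.ker (Matrix.mulVecLin (Ymat m F))) = 1 := by
    let v₀ : Fin m ⊕ Fin m → F := Sum.elim (Pi.single (⟨m - 1, hlast⟩ : Fin m) (1 : F)) 0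
    have hmem : v₀ ∈ LinearMap.ker (Matrix.mulVecLin (Ymat m F)) := by
      rw [LinearMap.mem_ker, Matrix.mulVecLin_apply]
      ext (i | i)
      · rw [Ymat_mulVec_inl, shiftM_mulVec, E0_mulVec]
        have h0 : (v₀ ∘ Sum.inr) i = 0 := rfl
        rw [h0, ite_self, add_zero]
        by_cases h : 1 ≤ (i : ℕ)
        · rw [dif_pos h]
          show (Pi.single (⟨m - 1, hlast⟩ : Fin m) (1 : F) : Fin m → F) _ = 0
          rw [Pi.single_apply, if_neg]
          intro h'
          have := congrArg Fin.val h'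
          simp only at this
          have := i.2
          omega
        · rw [dif_neg h]; rfl
      · rw [Ymat_mulVec_inr, shiftMT_mulVec]
        split_ifs <;> simp [v₀]
    rw [finrank_eq_one_iff']
    refine ⟨⟨v₀, hmem⟩, ?_, ?_⟩
    · intro h
      have := congrArg (fun v : LinearMap.ker (Matrix.mulVecLin (Ymat m F)) =>
        (v : Fin m ⊕ Fin m → F) (Sum.inl ⟨m - 1, hlast⟩)) h
      simp [v₀] at this
    · rintro ⟨w, hw⟩
      rw [LinearMap.mem_ker, Matrix.mulVecLin_apply] at hw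
      obtain ⟨hw1, hw2⟩ := Ymat_ker m w hw
      refine ⟨w (Sum.inl ⟨m - 1, hlast⟩), ?_⟩
      apply Subtype.ext
      ext (i | i)
      · show w (Sum.inl ⟨m - 1, hlast⟩) *
          (Pi.single (⟨m - 1, hlast⟩ : Fin m) (1 : F) : Fin m → F) i = w (Sum.inl i)
        by_cases hi : i = ⟨m - 1, hlast⟩
        · rw [hi, Pi.single_eq_same, mul_one]
        · rw [Pi.single_apply, if_neg hi, mul_zero]
          have : (i : ℕ) + 1 < m := by
            have : (i : ℕ) ≠ m - 1 := fun h => hi (Fin.ext h)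
            have := i.2
            omega
          exact (hw2 i this).symm
      · show w (Sum.inl ⟨m - 1, hlast⟩) * 0 = w (Sum.inr i)
        rw [mul_zero, hw1]
  have : (Ymat m F).rank = finrank F (LinearMap.range (Matrix.mulVecLin (Ymat m F))) := rfl
  omega

end explicit

/-- a regular unipotent element of the symplectic group exists in odd characteristic -/
theorem exists_regular_unipotent (h2 : (2 : F) ≠ 0) (m : ℕ) (hm : 1 ≤ m) :
    ∃ U : Matrix.symplecticGroup (Fin m) F,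
      ((U : Matrix (Fin m ⊕ Fin m) (Fin m ⊕ Fin m) F) - 1) ^ (2 * m) = 0 ∧
        ((U : Matrix (Fin m ⊕ Fin m) (Fin m ⊕ Fin m) F) - 1).rank = 2 * m - 1 := by
  obtain ⟨U, hU1, hU2⟩ := exists_cayley h2 (Ymat m F) (adj_Ymat m) (2 * m) (Ymat_pow m)
  exact ⟨U, hU1, by rw [hU2, Ymat_rank m hm]⟩

end Cfsg.Agent.Lib.Helper43_SympRegExist
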