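import Cfsg.Agent.Lib.Helper43_JordanSum
import Cfsg.Agent.Lib.Helper43_SympRegExist
import Cfsg.Agent.Lib.Helper40_SpMatrix

set_option autoImplicit false

/-!
Unipotent isometries of nondegenerate alternating forms with prescribed Jordan type: every
multiset of positive integers in which each odd number has even multiplicity is realised.
-/

namespace Cfsg.Agent.Lib.Helper43_SympJordan

open Module Matrix
open Cfsg.Agent.Lib.Helper43_Jordan Cfsg.Agent.Lib.Helper43_RegUnipotent
open Cfsg.Agent.Lib.Helper43_SympRegExist Cfsg.Agent.Lib.Helper40_SpMatrix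

universe u

section single

variable {F V : Type u} [Field F] [AddCommGroup V] [Module F V] [FiniteDimensional F V]

/-- a nilpotent endomorphism with kernel of dimension at most one has a single Jordan block -/
theorem jtype_of_ker_le_one (N : End F V) (hN : IsNilpotent N)
    (hker : finrank F (LinearMap.ker N) ≤ 1) (hV : 0 < finrank F V) :
    jtype N = {finrank F V} := by
  obtain ⟨ι, hι, d, b, hd, hb, hj⟩ := jtype_spec N hN
  have h1 := hb.finrank_range_pow 1
  rw [pow_one] at h1
  have h2 := LinearMap.finrank_range_add_finrank_ker N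
  have h3 : finrank F V = ∑ i, d i := by
    rw [hb.finrank_eq_sum]
    rfl
  have h4 : ∑ i, d i = ∑ i, (d i - 1) + Fintype.card ι := by
    rw [Fintype.card, Finset.card_eq_sum_ones, ← Finset.sum_add_distrib]
    apply Finset.sum_congr rfl
    intro i _
    have := hd i
    omega
  have hcard : Fintype.card ι = 1 := by
    have hpos : 0 < Fintype.card ι := by
      rcases Nat.eq_zero_or_pos (Fintype.card ι) with h0 | hp
      · exfalso
        have : IsEmpty ι := Fintype.card_eq_zero_iff.1 h0
        rw [h3, Finset.univ_eq_empty, Finset.sum_empty] at hV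
        exact lt_irrefl _ hV
      · exact hp
    omega
  obtain ⟨i₀, hi₀⟩ := Fintype.card_eq_one_iff.1 hcard
  have huniv : (Finset.univ : Finset ι) = {i₀} := by
    ext i
    simp [hi₀ i]
  rw [hj, h3, huniv]
  simp

end single

/-- realisable Jordan types of unipotent isometries of nondegenerate alternating forms -/
def Realizable (F : Type u) [Field F] (M : Multiset ℕ) : Prop :=
  ∃ (V : Type u) (_ : AddCommGroup V) (_ : Module F V) (_ : FiniteDimensional F V)
    (ω : LinearMap.BilinForm F V) (g : Module.End F V),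
    ω.IsAlt ∧ ω.Nondegenerate ∧ (∀ x y, ω (g x) (g y) = ω x y) ∧ IsNilpotent (g - 1) ∧
      jtype (g - 1) = M

section combine

variable {F : Type u} [Field F]

theorem realizable_zero : Realizable F 0 := by
  refine ⟨PUnit, inferInstance, inferInstance, inferInstance, 0, 1, ?_, ?_, ?_, ?_, ?_⟩
  · intro x; rfl
  · constructor
    · intro x _; exact Subsingleton.elim _ _
    · intro x _; exact Subsingleton.elim _ _
  · intro x y; rfl
  · rw [sub_self]; exact IsNilpotent.zero
  · rw [sub_self]
    have hnil : IsNilpotent (0 : End F PUnit.{u+1}) := IsNilpotent.zero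
    have hs := jtype_sum (0 : End F PUnit.{u+1}) hnil
    have h0 : finrank F PUnit.{u+1} = 0 := finrank_zero_of_subsingleton
    rw [h0] at hs
    apply Multiset.eq_zero_of_forall_notMem
    intro a ha
    have hpos := jtype_pos _ ha
    have := Multiset.single_le_sum (fun x _ => Nat.zero_le x) a ha
    omega

theorem realizable_add {M₁ M₂ : Multiset ℕ} (h₁ : Realizable F M₁) (h₂ : Realizable F M₂) :
    Realizable F (M₁ + M₂) := by
  obtain ⟨V₁, _, _, _, ω₁, g₁, halt₁, hnd₁, hiso₁, hnil₁, hj₁⟩ := h₁
  obtain ⟨V₂, _, _, _, ω₂, g₂, halt₂, hnd₂, hiso₂, hnil₂, hj₂⟩ := h₂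
  let ω : LinearMap.BilinForm F (V₁ × V₂) :=
    ω₁.compl₁₂ (LinearMap.fst F V₁ V₂) (LinearMap.fst F V₁ V₂) +
      ω₂.compl₁₂ (LinearMap.snd F V₁ V₂) (LinearMap.snd F V₁ V₂)
  have hω : ∀ x y : V₁ × V₂, ω x y = ω₁ x.1 y.1 + ω₂ x.2 y.2 := by
    intro x y
    rfl
  have halt : ω.IsAlt := by
    intro x
    rw [hω, halt₁, halt₂, add_zero]
  have hsub : g₁.prodMap g₂ - 1 = (g₁ - 1).prodMap (g₂ - 1) := by
    apply LinearMap.ext
    rintro ⟨x, y⟩
    rfl
  refine ⟨V₁ × V₂, inferInstance, inferInstance, inferInstance, ω, g₁.prodMap g₂, halt, ?_, ?_,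
    ?_, ?_⟩
  · refine (LinearMap.IsRefl.nondegenerate_iff_separatingLeft halt.isRefl).2 ?_
    rintro ⟨x₁, x₂⟩ hx
    have e1 : x₁ = 0 := by
      apply hnd₁.1
      intro y
      have := hx (y, 0)
      rw [hω] at this
      simpa using this
    have e2 : x₂ = 0 := by
      apply hnd₂.1
      intro y
      have := hx (0, y)
      rw [hω] at this
      simpa using this
    rw [e1, e2]
    rfl
  · intro x y
    rw [hω, hω, LinearMap.prodMap_apply, LinearMap.prodMap_apply, hiso₁, hiso₂]
  · rw [hsub]
    exact isNilpotent_prodMap hnil₁ hnil₂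
  · rw [hsub, jtype_prodMap hnil₁ hnil₂, hj₁, hj₂]

/-- unipotent symplectic matrices give realisable types -/
theorem realizable_of_mem (k : ℕ) (U : Matrix (Fin k ⊕ Fin k) (Fin k ⊕ Fin k) F)
    (hU : U ∈ symplecticGroup (Fin k) F) (hnil : IsNilpotent (U - 1)) :
    Realizable F (jtype (Matrix.toLin' (U - 1))) := by
  have hsub : Matrix.toLin' U - 1 = Matrix.toLin' (U - 1) := by
    rw [map_sub, Matrix.toLin'_one]
    rfl
  refine ⟨Fin k ⊕ Fin k → F, inferInstance, inferInstance, inferInstance, Jform k F,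
    Matrix.toLin' U, Jform_alt, Jform_nondeg, ?_, ?_, ?_⟩
  · intro x y
    rw [Jform_comp, SymplecticGroup.mem_iff'.1 hU]
    rfl
  · rw [hsub]
    obtain ⟨n, hn⟩ := hnil
    exact ⟨n, by rw [← Matrix.toLin'_pow, hn, map_zero]⟩
  · rw [hsub]

end combine

section pieces

variable {F : Type u} [Field F]

theorem exists_D (k : ℕ) : ∃ D : Matrix (Fin k) (Fin k) F,
    D * (1 + shiftM k F)ᵀ = 1 ∧ (1 + shiftM k F)ᵀ * D = 1 ∧ (D - 1) ^ k = 0 := by
  have hnil : IsNilpotent (shiftM k F) := ⟨k, shiftM_pow_n k⟩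
  obtain ⟨a, ha⟩ := hnil.isUnit_one_add
  set Ai : Matrix (Fin k) (Fin k) F := ((a⁻¹ : (Matrix (Fin k) (Fin k) F)ˣ) :
    Matrix (Fin k) (Fin k) F) with hAi
  have h1 : (1 + shiftM k F) * Ai = 1 := by rw [← ha]; exact a.mul_inv
  have h2 : Ai * (1 + shiftM k F) = 1 := by rw [← ha]; exact a.inv_mul
  refine ⟨Aiᵀ, ?_, ?_, ?_⟩
  · rw [← Matrix.transpose_mul, h1, Matrix.transpose_one]
  · rw [← Matrix.transpose_mul, h2, Matrix.transpose_one]
  · have h3 : Ai - 1 = -(Ai * shiftM k F) := by
      have : Ai + Ai * shiftM k F = 1 := by rw [← h2, Matrix.mul_add, Matrix.mul_one]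
      rw [← this]
      abel
    have hc : Commute Ai (shiftM k F) := by
      have : Commute ((a : (Matrix (Fin k) (Fin k) F)ˣ) : Matrix (Fin k) (Fin k) F)
          (shiftM k F) := by
        rw [ha]
        exact (Commute.one_left _).add_left (Commute.refl _)
      exact this.units_inv_left
    rw [← Matrix.transpose_one, ← Matrix.transpose_sub, ← Matrix.transpose_pow, h3, neg_pow,
      hc.mul_pow, shiftM_pow_n, mul_zero, mul_zero, Matrix.transpose_zero]

theorem mem_symp {k : ℕ} (A D S : Matrix (Fin k) (Fin k) F) (hDA : D * Aᵀ = 1)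
    (hS : Sᵀ = S) : fromBlocks A (S * D) 0 D ∈ symplecticGroup (Fin k) F := by
  have h1 : A * Dᵀ = 1 := by
    have := congrArg Matrix.transpose hDA
    rwa [Matrix.transpose_mul, Matrix.transpose_transpose, Matrix.transpose_one] at this
  rw [SymplecticGroup.mem_iff, J, fromBlocks_transpose, fromBlocks_multiply, fromBlocks_multiply]
  simp only [Matrix.mul_zero, Matrix.zero_mul, Matrix.mul_one, Matrix.mul_neg, zero_add, add_zero,
    Matrix.transpose_zero, Matrix.transpose_mul, hS, Matrix.neg_mul, h1, hDA, neg_zero]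
  congr 1
  rw [Matrix.mul_assoc, hDA, Matrix.mul_one, ← Matrix.mul_assoc, h1, Matrix.one_mul,
    add_neg_cancel]

theorem sub_one_eq {k : ℕ} (A B D : Matrix (Fin k) (Fin k) F) :
    fromBlocks A B 0 D - 1 = fromBlocks (A - 1) B 0 (D - 1) := by
  rw [← fromBlocks_one, sub_eq_add_neg, fromBlocks_neg, fromBlocks_add]
  simp [sub_eq_add_neg]

theorem piece_nil {k : ℕ} (A B D : Matrix (Fin k) (Fin k) F) (hA : (A - 1) ^ k = 0)
    (hD : (D - 1) ^ k = 0) : IsNilpotent (fromBlocks A B 0 D - 1) := by
  obtain ⟨X, hX⟩ := fromBlocks_upper_pow (A - 1) B (D - 1) k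
  refine ⟨k + k, ?_⟩
  rw [sub_one_eq, pow_add, hX, hA, hD, fromBlocks_multiply]
  simp

/-- kernel vectors of the second diagonal block are killed by the transposed shift -/
theorem shiftMT_mulVec_eq_zero {k : ℕ} (D : Matrix (Fin k) (Fin k) F)
    (hAD : (1 + shiftM k F)ᵀ * D = 1) (y : Fin k → F) (hy : (D - 1) *ᵥ y = 0) :
    D *ᵥ y = y ∧ (shiftM k F)ᵀ *ᵥ y = 0 := by
  have h1 : D *ᵥ y = y := by
    rw [Matrix.sub_mulVec, Matrix.one_mulVec, sub_eq_zero] at hy
    exact hy
  refine ⟨h1, ?_⟩
  have h2 : (1 + shiftM k F)ᵀ *ᵥ (D *ᵥ y) = y := by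
    rw [Matrix.mulVec_mulVec, hAD, Matrix.one_mulVec]
  rw [h1, Matrix.transpose_add, Matrix.transpose_one, Matrix.add_mulVec, Matrix.one_mulVec] at h2
  exact add_eq_left.1 h2

end pieces

section realize

variable {F : Type u} [Field F]

theorem isNilpotent_toLin' {n : Type} [Fintype n] [DecidableEq n] {M : Matrix n n F}
    (hM : IsNilpotent M) : IsNilpotent (Matrix.toLin' M) := by
  obtain ⟨a, ha⟩ := hM
  exact ⟨a, by rw [← Matrix.toLin'_pow, ha, map_zero]⟩

theorem finrank_ker_toLin'_le {n : Type} [Fintype n] [DecidableEq n] (M : Matrix n n F)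
    (h : Fintype.card n ≤ M.rank + 1) : finrank F (LinearMap.ker (Matrix.toLin' M)) ≤ 1 := by
  have h1 := LinearMap.finrank_range_add_finrank_ker (Matrix.toLin' M)
  rw [Module.finrank_fintype_fun_eq_card] at h1
  have h2 : M.rank = finrank F (LinearMap.range (Matrix.toLin' M)) := rfl
  omega

theorem realizable_single (k : ℕ) (hk : 1 ≤ k) : Realizable F {2 * k} := by
  obtain ⟨D, hDA, hAD, hDnil⟩ := exists_D (F := F) k
  set A : Matrix (Fin k) (Fin k) F := 1 + shiftM k F with hA
  have hA1 : A - 1 = shiftM k F := by rw [hA, add_sub_cancel_left]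
  set U : Matrix (Fin k ⊕ Fin k) (Fin k ⊕ Fin k) F := fromBlocks A (E0 k F * D) 0 D with hU
  have hmem : U ∈ symplecticGroup (Fin k) F := mem_symp A D (E0 k F) hDA (E0_transpose k)
  have hnil : IsNilpotent (U - 1) :=
    piece_nil A (E0 k F * D) D (by rw [hA1]; exact shiftM_pow_n k) hDnil
  have hreal := realizable_of_mem k U hmem hnil
  have hdim : finrank F (Fin k ⊕ Fin k → F) = 2 * k := by
    rw [Module.finrank_fintype_fun_eq_card, Fintype.card_sum, Fintype.card_fin, two_mul]
  have hkerY : finrank F (LinearMap.ker (Matrix.toLin' (Ymat k F))) ≤ 1 := by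
    apply finrank_ker_toLin'_le
    rw [Ymat_rank k hk, Fintype.card_sum, Fintype.card_fin]
    omega
  have hle : LinearMap.ker (Matrix.toLin' (U - 1)) ≤ LinearMap.ker (Matrix.toLin' (Ymat k F)) := by
    intro w hw
    rw [LinearMap.mem_ker, Matrix.toLin'_apply, hU, sub_one_eq, hA1, fromBlocks_mulVec] at hw
    have hw1 : ∀ i, (shiftM k F *ᵥ (w ∘ Sum.inl) + (E0 k F * D) *ᵥ (w ∘ Sum.inr)) i = 0 := by
      intro i
      have := congrFun hw (Sum.inl i)
      exact this
    have hw2 : (D - 1) *ᵥ (w ∘ Sum.inr) = 0 := by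
      funext i
      have := congrFun hw (Sum.inr i)
      simp only [Sum.elim_inr, Matrix.zero_mulVec, zero_add] at this
      exact this
    obtain ⟨hDy, hNy⟩ := shiftMT_mulVec_eq_zero D hAD _ hw2
    rw [LinearMap.mem_ker, Matrix.toLin'_apply]
    ext (i | i)
    · rw [Ymat_mulVec_inl]
      have := hw1 i
      rw [← Matrix.mulVec_mulVec, hDy] at this
      exact this
    · rw [Ymat_mulVec_inr, hNy]
      simp
  have hker : finrank F (LinearMap.ker (Matrix.toLin' (U - 1))) ≤ 1 :=
    le_trans (Submodule.finrank_mono hle) hkerY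
  rw [jtype_of_ker_le_one _ (isNilpotent_toLin' hnil) hker (by rw [hdim]; omega), hdim] at hreal
  exact hreal

theorem jtype_fromBlocks {k : ℕ} (X Y : Matrix (Fin k) (Fin k) F) (hX : IsNilpotent X)
    (hY : IsNilpotent Y) (hXY : IsNilpotent (fromBlocks X 0 0 Y)) :
    jtype (Matrix.toLin' (fromBlocks X 0 0 Y)) =
      jtype (Matrix.toLin' X) + jtype (Matrix.toLin' Y) := by
  rw [← jtype_prodMap (isNilpotent_toLin' hX) (isNilpotent_toLin' hY)]
  rw [jtype_eq_iff _ (isNilpotent_toLin' hXY) _
    (isNilpotent_prodMap (isNilpotent_toLin' hX) (isNilpotent_toLin' hY))]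
  refine ⟨LinearEquiv.sumArrowLequivProdArrow (Fin k) (Fin k) F F, ?_⟩
  intro w
  rw [Matrix.toLin'_apply, fromBlocks_mulVec, LinearMap.prodMap_apply]
  apply Prod.ext
  · funext i
    simp [LinearEquiv.sumArrowLequivProdArrow_apply_fst]
    rfl
  · funext i
    simp [LinearEquiv.sumArrowLequivProdArrow_apply_snd]
    rfl

theorem realizable_pair (k : ℕ) (hk : 1 ≤ k) : Realizable F {k, k} := by
  obtain ⟨D, hDA, hAD, hDnil⟩ := exists_D (F := F) k
  set A : Matrix (Fin k) (Fin k) F := 1 + shiftM k F with hA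
  have hA1 : A - 1 = shiftM k F := by rw [hA, add_sub_cancel_left]
  set U : Matrix (Fin k ⊕ Fin k) (Fin k ⊕ Fin k) F := fromBlocks A 0 0 D with hU
  have hmem : U ∈ symplecticGroup (Fin k) F := by
    have := mem_symp A D 0 hDA Matrix.transpose_zero
    rwa [Matrix.zero_mul] at this
  have hnil : IsNilpotent (U - 1) :=
    piece_nil A 0 D (by rw [hA1]; exact shiftM_pow_n k) hDnil
  have hreal := realizable_of_mem k U hmem hnil
  have hdim : finrank F (Fin k → F) = k := Module.finrank_fin_fun F
  have hN : IsNilpotent (shiftM k F) := ⟨k, shiftM_pow_n k⟩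
  have hDn : IsNilpotent (D - 1) := ⟨k, hDnil⟩
  have hUeq : U - 1 = fromBlocks (shiftM k F) 0 0 (D - 1) := by rw [hU, sub_one_eq, hA1]
  have hk1 : finrank F (LinearMap.ker (Matrix.toLin' (shiftM k F))) ≤ 1 := by
    apply finrank_ker_toLin'_le
    rw [shiftM_rank k hk, Fintype.card_fin]
    omega
  have hk2 : finrank F (LinearMap.ker (Matrix.toLin' (D - 1))) ≤ 1 := by
    have hT : finrank F (LinearMap.ker (Matrix.toLin' (shiftM k F)ᵀ)) ≤ 1 := by
      apply finrank_ker_toLin'_le
      rw [Matrix.rank_transpose, shiftM_rank k hk, Fintype.card_fin]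
      omega
    refine le_trans (Submodule.finrank_mono ?_) hT
    intro y hy
    rw [LinearMap.mem_ker, Matrix.toLin'_apply] at hy ⊢
    exact (shiftMT_mulVec_eq_zero D hAD y hy).2
  rw [hUeq] at hnil
  rw [hUeq, jtype_fromBlocks _ _ hN hDn hnil,
    jtype_of_ker_le_one _ (isNilpotent_toLin' hN) hk1 (by rw [hdim]; omega),
    jtype_of_ker_le_one _ (isNilpotent_toLin' hDn) hk2 (by rw [hdim]; omega), hdim] at hreal
  exact hreal

end realize

section final

variable {F : Type u} [Field F]

theorem realizable_of_counts_aux : ∀ (n : ℕ) (M : Multiset ℕ), Multiset.card M = n →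
    (∀ a ∈ M, 0 < a) → (∀ j, Odd j → Even (M.count j)) → Realizable F M := by
  intro n
  induction n using Nat.strong_induction_on with
  | _ n ih =>
  intro M hcard hpos hcnt
  rcases Multiset.empty_or_exists_mem M with rfl | ⟨a, ha⟩
  · exact realizable_zero
  have hcardpos : 0 < n := by
    rw [← hcard]
    exact Multiset.card_pos_iff_exists_mem.2 ⟨a, ha⟩
  rcases Nat.even_or_odd a with hev | hodd
  · obtain ⟨k, hk⟩ := hev
    have hk1 : 1 ≤ k := by have := hpos a ha; omega
    have hak : a = 2 * k := by omega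
    have hM : M = {2 * k} + M.erase a := by
      rw [Multiset.singleton_add, ← hak, Multiset.cons_erase ha]
    rw [hM]
    apply realizable_add (realizable_single k hk1)
    apply ih (n - 1) (by omega) (M.erase a) (by rw [Multiset.card_erase_of_mem ha, hcard]; rfl)
    · intro b hb
      exact hpos b (Multiset.mem_of_mem_erase hb)
    · intro j hj
      have hja : j ≠ a := by
        rintro rfl
        exact (Nat.not_even_iff_odd.2 hj) ⟨k, hk⟩
      rw [Multiset.count_erase_of_ne hja]
      exact hcnt j hj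
  · have h2 := hcnt a hodd
    have hc1 : 1 ≤ M.count a := Multiset.one_le_count_iff_mem.2 ha
    have hc2 : 2 ≤ M.count a := by
      obtain ⟨r, hr⟩ := h2
      omega
    have ha' : a ∈ M.erase a := by
      rw [← Multiset.count_pos, Multiset.count_erase_self]
      omega
    have hM : M = {a, a} + (M.erase a).erase a := by
      show M = (a ::ₘ {a}) + (M.erase a).erase a
      rw [Multiset.cons_add, Multiset.singleton_add, Multiset.cons_erase ha', Multiset.cons_erase ha]
    have hcard2 : Multiset.card ((M.erase a).erase a) = n - 2 := by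
      rw [Multiset.card_erase_of_mem ha', Multiset.card_erase_of_mem ha, hcard]
      rfl
    have hn2 : 2 ≤ n := by
      have := Multiset.count_le_card a M
      omega
    rw [hM]
    apply realizable_add (realizable_pair a (hpos a ha))
    apply ih (n - 2) (by omega) _ hcard2
    · intro b hb
      exact hpos b (Multiset.mem_of_mem_erase (Multiset.mem_of_mem_erase hb))
    · intro j hj
      by_cases hja : j = a
      · subst hja
        rw [Multiset.count_erase_self, Multiset.count_erase_self]
        obtain ⟨r, hr⟩ := h2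
        exact ⟨r - 1, by omega⟩
      · rw [Multiset.count_erase_of_ne hja, Multiset.count_erase_of_ne hja]
        exact hcnt j hj

/-- every multiset of positive integers in which each odd number has even multiplicity is the
Jordan type of a unipotent isometry of a nondegenerate alternating form -/
theorem realizable_of_counts (M : Multiset ℕ) (hpos : ∀ a ∈ M, 0 < a)
    (hcnt : ∀ j, Odd j → Even (M.count j)) : Realizable F M :=
  realizable_of_counts_aux _ M rfl hpos hcnt

end final

end Cfsg.Agent.Lib.Helper43_SympJordan
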