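import Cfsg.Agent.Lib.Helper43_JordanSum
import Cfsg.Agent.Lib.Helper43_AltEven

set_option autoImplicit false

/-!
Unipotent isometries of nondegenerate bilinear forms: the form `ω (x, N ^ (j - 1) y)`, `N = u - 1`,
is nondegenerate on the span of the tops of the Jordan chains of length exactly `j`.  When it is
alternating there, the number of Jordan blocks of size `j` is even.
-/

namespace Cfsg.Agent.Lib.Helper43_UnipIsom

open Module
open Cfsg.Agent.Lib.Helper43_Jordan Cfsg.Agent.Lib.Helper43_AltEven

section adjoint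

variable {F : Type*} [Field F] {V : Type*} [AddCommGroup V] [Module F V]

/-- `u` is an isometry of `ω` with inverse `v` -/
structure IsomData (ω : LinearMap.BilinForm F V) (u v : End F V) : Prop where
  iso : ∀ x y, ω (u x) (u y) = ω x y
  uv : u * v = 1
  vu : v * u = 1

namespace IsomData

variable {ω : LinearMap.BilinForm F V} {u v : End F V} (h : IsomData ω u v)
include h

theorem uv_apply (x : V) : u (v x) = x := by
  have := congrArg (fun f : End F V => f x) h.uv
  exact this

theorem vu_apply (x : V) : v (u x) = x := by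
  have := congrArg (fun f : End F V => f x) h.vu
  exact this

/-- the adjoint of `u - 1` is `v - 1` -/
theorem adj_left (x y : V) : ω ((u - 1) x) y = ω x ((v - 1) y) := by
  have h1 : ω (u x) y = ω x (v y) := by
    conv_lhs => rw [← h.uv_apply y]
    rw [h.iso]
  simp only [LinearMap.sub_apply, Module.End.one_apply, map_sub, h1]

theorem adj_right (x y : V) : ω x ((u - 1) y) = ω ((v - 1) x) y := by
  have h1 : ω x (u y) = ω (v x) y := by
    conv_lhs => rw [← h.uv_apply x]
    rw [h.iso]
  simp only [LinearMap.sub_apply, Module.End.one_apply, map_sub, h1]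

theorem adj_left_pow (a : ℕ) (x y : V) :
    ω (((u - 1) ^ a) x) y = ω x (((v - 1) ^ a) y) := by
  induction a generalizing x y with
  | zero => simp
  | succ a ih =>
    rw [pow_succ, Module.End.mul_apply, ih, h.adj_left, pow_succ', Module.End.mul_apply]

theorem adj_right_pow (a : ℕ) (x y : V) :
    ω x (((u - 1) ^ a) y) = ω (((v - 1) ^ a) x) y := by
  induction a generalizing x y with
  | zero => simp
  | succ a ih =>
    rw [pow_succ, Module.End.mul_apply, ih, h.adj_right, pow_succ', Module.End.mul_apply]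

theorem commute_v_N : Commute v (u - 1) := by
  have : Commute v u := by
    show v * u = u * v
    rw [h.vu, h.uv]
  exact this.sub_right (Commute.one_right v)

theorem v_sub_one : v - 1 = -(v * (u - 1)) := by
  rw [mul_sub, h.vu, mul_one, neg_sub]

theorem adj_pow_eq (a : ℕ) : (v - 1) ^ a = (-1) ^ a * (v ^ a * (u - 1) ^ a) := by
  rw [h.v_sub_one, neg_pow, h.commute_v_N.mul_pow]

theorem adj_pow_eq_zero {a : ℕ} {x : V} (hx : ((u - 1) ^ a) x = 0) : ((v - 1) ^ a) x = 0 := by
  rw [h.adj_pow_eq, Module.End.mul_apply, Module.End.mul_apply, hx, map_zero, map_zero]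

/-- the kernel of `u - 1` is orthogonal to its range -/
theorem range_perp_ker (w z : V) (hz : (u - 1) z = 0) : ω ((u - 1) w) z = 0 := by
  have hz' : ((u - 1) ^ 1 : End F V) z = 0 := by rw [pow_one]; exact hz
  have := h.adj_pow_eq_zero hz'
  rw [pow_one] at this
  rw [h.adj_left, this, map_zero]

/-- for an alternating form the form `ω (x, N ^ (2 a) x)` vanishes on the kernel of
`N ^ (2 a + 1)` -/
theorem alt_of_odd (halt : ω.IsAlt) (a : ℕ) (x : V) (hx : ((u - 1) ^ (2 * a + 1)) x = 0) :
    ω x (((u - 1) ^ (2 * a)) x) = 0 := by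
  set N := u - 1 with hN
  set p := (N ^ a) x with hp
  have hcomm := h.commute_v_N
  -- move half of the power to the left
  have h1 : ω x ((N ^ (2 * a)) x) = ω (((v - 1) ^ a) x) p := by
    rw [two_mul, pow_add, Module.End.mul_apply, h.adj_right_pow]
  rw [h1, h.adj_pow_eq, Module.End.mul_apply, Module.End.mul_apply]
  -- `v ^ a p = p + (v - 1) (G p)`
  have hgeom : v ^ a = 1 + (v - 1) * ∑ i ∈ Finset.range a, v ^ i := by
    rw [mul_geom_sum]; abel
  set G : End F V := ∑ i ∈ Finset.range a, v ^ i with hG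
  have hGN : Commute G N := by
    rw [hG]
    apply Commute.sum_left
    intro i _
    exact hcomm.pow_left i
  have h2 : ω ((v ^ a) p) p = 0 := by
    rw [hgeom, LinearMap.add_apply, Module.End.one_apply, map_add, LinearMap.add_apply, halt p,
      zero_add, Module.End.mul_apply, ← h.adj_right]
    -- `ω (G p) (N p) = 0`
    have h3 : G p = (N ^ a) (G x) := by
      rw [hp, ← Module.End.mul_apply, ← Module.End.mul_apply, (hGN.pow_right a).eq]
    have h4 : N p = (N ^ (a + 1)) x := by
      rw [hp, ← Module.End.mul_apply, ← pow_succ']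
    rw [h3, h4, h.adj_left_pow]
    have h5 : (N ^ a) ((N ^ (a + 1)) x) = 0 := by
      rw [← Module.End.mul_apply, ← pow_add]
      have : a + (a + 1) = 2 * a + 1 := by ring
      rw [this]
      exact hx
    rw [h.adj_pow_eq_zero h5, map_zero]
  have h6 : ((-1 : End F V) ^ a) ((v ^ a) p) = (-1 : F) ^ a • (v ^ a) p := by
    rcases Nat.even_or_odd a with he | ho
    · rw [he.neg_one_pow, he.neg_one_pow, Module.End.one_apply, one_smul]
    · rw [ho.neg_one_pow, ho.neg_one_pow, LinearMap.neg_apply, Module.End.one_apply, neg_smul,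
        one_smul]
  rw [h6, map_smul, LinearMap.smul_apply, h2, smul_zero]

end IsomData

end adjoint

section chain

variable {F : Type*} [Field F] {V : Type*} [AddCommGroup V] [Module F V]

/-- the coordinates of `N ^ j k` are the shifted coordinates of `k` -/
theorem repr_pow {ι : Type*} {N : End F V} {d : ι → ℕ} {b : Basis (Σ i, Fin (d i)) F V}
    (hb : IsChainBasis N d b) (j : ℕ) (k : V) (i : ι) (l : ℕ) (hl : l + j < d i) :
    b.repr ((N ^ j) k) ⟨i, ⟨l + j, hl⟩⟩ = b.repr k ⟨i, ⟨l, by omega⟩⟩ := by
  classical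
  have hl' : l < d i := by omega
  have key : (b.coord ⟨i, ⟨l + j, hl⟩⟩).comp (N ^ j) = b.coord ⟨i, ⟨l, hl'⟩⟩ := by
    apply b.ext
    rintro ⟨i₀, l₀⟩
    rw [LinearMap.comp_apply, hb.pow_apply, Basis.coord_apply, Basis.coord_apply, Basis.repr_self,
      Finsupp.single_apply]
    by_cases h : l₀.1 + j < d i₀
    · rw [dif_pos h, Basis.repr_self, Finsupp.single_apply]
      by_cases hi : i₀ = i
      · subst hi
        by_cases hll : l₀.1 = l
        · have e1 : (⟨i₀, ⟨l₀.1 + j, h⟩⟩ : Σ i, Fin (d i)) = ⟨i₀, ⟨l + j, hl⟩⟩ := by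
            have : (⟨l₀.1 + j, h⟩ : Fin (d i₀)) = ⟨l + j, hl⟩ :=
              Fin.ext (by show l₀.1 + j = l + j; omega)
            rw [this]
          have e2 : (⟨i₀, l₀⟩ : Σ i, Fin (d i)) = ⟨i₀, ⟨l, hl'⟩⟩ := by
            have : l₀ = ⟨l, hl'⟩ := Fin.ext hll
            rw [this]
          rw [if_pos e1, if_pos e2]
        · have e1 : (⟨i₀, ⟨l₀.1 + j, h⟩⟩ : Σ i, Fin (d i)) ≠ ⟨i₀, ⟨l + j, hl⟩⟩ := by
            intro he
            have := eq_of_heq (Sigma.mk.inj he).2
            have h' : l₀.1 + j = l + j := congrArg Fin.val this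
            omega
          have e2 : (⟨i₀, l₀⟩ : Σ i, Fin (d i)) ≠ ⟨i₀, ⟨l, hl'⟩⟩ := by
            intro he
            have := eq_of_heq (Sigma.mk.inj he).2
            exact hll (congrArg Fin.val this)
          rw [if_neg e1, if_neg e2]
      · have e1 : (⟨i₀, ⟨l₀.1 + j, h⟩⟩ : Σ i, Fin (d i)) ≠ ⟨i, ⟨l + j, hl⟩⟩ :=
          fun he => hi (congrArg Sigma.fst he)
        have e2 : (⟨i₀, l₀⟩ : Σ i, Fin (d i)) ≠ ⟨i, ⟨l, hl'⟩⟩ :=
          fun he => hi (congrArg Sigma.fst he)
        rw [if_neg e1, if_neg e2]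
    · rw [dif_neg h, map_zero, Finsupp.zero_apply]
      have e2 : (⟨i₀, l₀⟩ : Σ i, Fin (d i)) ≠ ⟨i, ⟨l, hl'⟩⟩ := by
        intro he
        have hi : i₀ = i := congrArg Sigma.fst he
        subst hi
        have := eq_of_heq (Sigma.mk.inj he).2
        have h' : l₀.1 = l := congrArg Fin.val this
        omega
      rw [if_neg e2]
  have := congrArg (fun f : V →ₗ[F] F => f k) key
  simpa [Basis.coord_apply] using this

variable [FiniteDimensional F V] {ω : LinearMap.BilinForm F V} {u v : End F V}

theorem orthogonal_ker_pow (h : IsomData ω u v) (hnd : ω.Nondegenerate) (j : ℕ) :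
    ω.orthogonal (LinearMap.ker ((u - 1) ^ j)) = LinearMap.range ((u - 1) ^ j) := by
  symm
  apply Submodule.eq_of_le_of_finrank_eq
  · rintro _ ⟨w, rfl⟩ k hk
    show ω k (((u - 1) ^ j) w) = 0
    rw [h.adj_right_pow, h.adj_pow_eq_zero (LinearMap.mem_ker.1 hk), map_zero,
      LinearMap.zero_apply]
  · rw [LinearMap.BilinForm.finrank_orthogonal hnd]
    have := LinearMap.finrank_range_add_finrank_ker ((u - 1) ^ j)
    omega

end chain

section main

variable {F : Type*} [Field F] {V : Type*} [AddCommGroup V] [Module F V] [FiniteDimensional F V]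
variable {ω : LinearMap.BilinForm F V} {u v : End F V}
variable {ι : Type*} [Fintype ι] {d : ι → ℕ} {b : Basis (Σ i, Fin (d i)) F V}

/-- the top of the chain `i` -/
noncomputable def top (b : Basis (Σ i, Fin (d i)) F V) (j : ℕ) (hj : 1 ≤ j) (i : {i // d i = j}) : V :=
  b ⟨i.1, ⟨0, by have := i.2; omega⟩⟩

omit [FiniteDimensional F V] [Fintype ι] in
theorem pow_top (hb : IsChainBasis (u - 1) d b) (j : ℕ) (hj : 1 ≤ j) (i : {i // d i = j}) (a : ℕ)
    (ha : a < j) : ((u - 1) ^ a) (top b j hj i) = b ⟨i.1, ⟨a, by have := i.2; omega⟩⟩ := by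
  unfold top
  rw [hb.pow_apply, dif_pos (by have := i.2; simp only; omega)]
  congr 2
  exact Fin.ext (by simp)

omit [FiniteDimensional F V] [Fintype ι] in
theorem pow_top_eq_zero (hb : IsChainBasis (u - 1) d b) (j : ℕ) (hj : 1 ≤ j) (i : {i // d i = j}) :
    ((u - 1) ^ j) (top b j hj i) = 0 := by
  unfold top
  rw [hb.pow_apply, dif_neg (by have := i.2; simp only; omega)]

/-- the form `ω (x, N ^ (j - 1) y)` is right-separating on the span of the tops of the chains of
length `j` -/
theorem nondeg_tops (h : IsomData ω u v) (hnd : ω.Nondegenerate)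
    (hb : IsChainBasis (u - 1) d b) (j : ℕ) (hj : 1 ≤ j) (c : {i // d i = j} → F)
    (hc : ∀ i₀ : {i // d i = j}, ω (top b j hj i₀)
      (((u - 1) ^ (j - 1)) (∑ i, c i • top b j hj i)) = 0) : c = 0 := by
  classical
  set N := u - 1 with hN
  set y := ∑ i, c i • top b j hj i with hy
  set z := (N ^ (j - 1)) y with hz
  have hz_formula : z = ∑ i : {i // d i = j}, c i • b ⟨i.1, ⟨j - 1, by have := i.2; omega⟩⟩ := by
    rw [hz, hy, map_sum]
    apply Finset.sum_congr rfl
    intro i _
    rw [map_smul, pow_top hb j hj i (j - 1) (by omega)]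
  have hNjy : (N ^ j) y = 0 := by
    rw [hy, map_sum]
    apply Finset.sum_eq_zero
    intro i _
    rw [map_smul, pow_top_eq_zero hb j hj i, smul_zero]
  have hNz : N z = 0 := by
    rw [hz, ← Module.End.mul_apply, ← pow_succ']
    have : j - 1 + 1 = j := by omega
    rw [this]
    exact hNjy
  have hperp : z ∈ ω.orthogonal (LinearMap.ker (N ^ j)) := by
    intro k hk
    show ω k z = 0
    rw [← b.sum_repr k, map_sum, LinearMap.sum_apply]
    apply Finset.sum_eq_zero
    rintro ⟨i, l⟩ _
    rw [map_smul, LinearMap.smul_apply]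
    by_cases hlt : l.1 + j < d i
    · have h1 := repr_pow hb j k i l.1 hlt
      rw [LinearMap.mem_ker.1 hk, map_zero, Finsupp.zero_apply] at h1
      have h2 : b.repr k ⟨i, l⟩ = 0 := by
        rw [h1]
      rw [h2, zero_smul]
    · rcases Nat.eq_zero_or_pos l.1 with hl0 | hlpos
      · -- the top of a chain of length at most `j`
        have hdi : d i ≤ j := by omega
        have hl : l = ⟨0, by omega⟩ := Fin.ext hl0
        rcases Nat.lt_or_ge (d i) j with hlt' | hge
        · have h3 : (N ^ (j - 1)) (b ⟨i, l⟩) = 0 := by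
            rw [hb.pow_apply, dif_neg (by omega)]
          rw [hz, h.adj_right_pow, h.adj_pow_eq_zero h3, map_zero, LinearMap.zero_apply,
            smul_zero]
        · have hdj : d i = j := by omega
          have := hc ⟨i, hdj⟩
          have htop : top b j hj ⟨i, hdj⟩ = b ⟨i, l⟩ := by
            unfold top
            rw [hl]
          rw [htop] at this
          rw [hz, this, smul_zero]
      · -- in the range of `N`
        have hl1 : l.1 - 1 + 1 < d i := by have := l.2; omega
        have h3 := hb i ⟨l.1 - 1, by omega⟩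
        rw [dif_pos hl1] at h3
        have h4 : (⟨i, ⟨l.1 - 1 + 1, hl1⟩⟩ : Σ i, Fin (d i)) = ⟨i, l⟩ := by
          have : (⟨l.1 - 1 + 1, hl1⟩ : Fin (d i)) = l := Fin.ext (by show l.1 - 1 + 1 = l.1; omega)
          rw [this]
        rw [h4] at h3
        rw [← h3, h.range_perp_ker _ _ hNz, smul_zero]
  rw [orthogonal_ker_pow h hnd, hb.range_pow j] at hperp
  have himg : Set.range (fun x : tailSet d j => b x.1) = b '' tailSet d j := by
    ext w
    constructor
    · rintro ⟨x, rfl⟩
      exact ⟨x.1, x.2, rfl⟩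
    · rintro ⟨x, hx, rfl⟩
      exact ⟨⟨x, hx⟩, rfl⟩
  rw [himg, Basis.mem_span_image] at hperp
  funext i₀
  by_contra hne
  have hcoord : b.repr z ⟨i₀.1, ⟨j - 1, by have := i₀.2; omega⟩⟩ = c i₀ := by
    rw [hz_formula, map_sum, Finsupp.finsetSum_apply]
    rw [Finset.sum_eq_single i₀]
    · rw [map_smul, Basis.repr_self, Finsupp.smul_apply, Finsupp.single_eq_same, smul_eq_mul,
        mul_one]
    · intro i _ hi
      rw [map_smul, Basis.repr_self, Finsupp.smul_apply, Finsupp.single_apply, if_neg, smul_zero]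
      intro he
      exact hi (Subtype.ext (congrArg Sigma.fst he))
    · intro hi
      exact absurd (Finset.mem_univ _) hi
  have hmem : (⟨i₀.1, ⟨j - 1, by have := i₀.2; omega⟩⟩ : Σ i, Fin (d i)) ∈
      ((b.repr z).support : Set (Σ i, Fin (d i))) := by
    rw [Finset.mem_coe, Finsupp.mem_support_iff, hcoord]
    exact hne
  have := hperp hmem
  have hle : j ≤ j - 1 := this
  omega

/-- if the form `ω (x, N ^ (j - 1) x)` vanishes on the kernel of `N ^ j` then the number of chains
of length `j` is even -/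
theorem even_blockCount (h : IsomData ω u v) (hnd : ω.Nondegenerate)
    (hb : IsChainBasis (u - 1) d b) (j : ℕ) (hj : 1 ≤ j)
    (halt : ∀ x, ((u - 1) ^ j) x = 0 → ω x (((u - 1) ^ (j - 1)) x) = 0) :
    Even (Fintype.card {i // d i = j}) := by
  classical
  set N := u - 1 with hN
  set W : Submodule F V := Submodule.span F (Set.range (top b j hj)) with hW
  have hWker : ∀ w ∈ W, (N ^ j) w = 0 := by
    intro w hw
    have : W ≤ LinearMap.ker (N ^ j) := by
      rw [hW, Submodule.span_le]
      rintro _ ⟨i, rfl⟩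
      exact LinearMap.mem_ker.2 (pow_top_eq_zero hb j hj i)
    exact LinearMap.mem_ker.1 (this hw)
  let β : LinearMap.BilinForm F V := ω.compl₂ (N ^ (j - 1))
  have hβ : ∀ x y, β x y = ω x ((N ^ (j - 1)) y) := fun x y => LinearMap.compl₂_apply _ _ _ _
  have haltW : (β.restrict W).IsAlt := by
    intro w
    show β w.1 w.1 = 0
    rw [hβ]
    exact halt w.1 (hWker w.1 w.2)
  have hndW : (β.restrict W).Nondegenerate := by
    refine (LinearMap.IsRefl.nondegenerate_iff_separatingRight haltW.isRefl).2 ?_
    intro y hy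
    obtain ⟨c, hcy⟩ := (Submodule.mem_span_range_iff_exists_fun F).1 y.2
    have hc0 : c = 0 := by
      apply nondeg_tops h hnd hb j hj c
      intro i₀
      rw [hcy]
      have := hy ⟨top b j hj i₀, Submodule.subset_span ⟨i₀, rfl⟩⟩
      have h2 : β (top b j hj i₀) y.1 = 0 := this
      rw [hβ] at h2
      exact h2
    apply Subtype.ext
    rw [← hcy, hc0]
    simp
  have hli : LinearIndependent F (top b j hj) := by
    have hinj : Function.Injective
        (fun i : {i // d i = j} => (⟨i.1, ⟨0, by have := i.2; omega⟩⟩ : Σ i, Fin (d i))) := by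
      intro i i' hii
      exact Subtype.ext (congrArg Sigma.fst hii)
    exact b.linearIndependent.comp _ hinj
  have hdim : finrank F W = Fintype.card {i // d i = j} := finrank_span_eq_card hli
  rw [← hdim]
  exact even_finrank_of_alt _ W (β.restrict W) haltW hndW rfl

end main

section jtype

universe uu

variable {F V : Type uu} [Field F] [AddCommGroup V] [Module F V] [FiniteDimensional F V]
variable {ω : LinearMap.BilinForm F V} {u v : End F V}

theorem even_count_jtype (h : IsomData ω u v) (hnd : ω.Nondegenerate)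
    (hnil : IsNilpotent (u - 1)) (j : ℕ) (hj : 1 ≤ j)
    (halt : ∀ x, ((u - 1) ^ j) x = 0 → ω x (((u - 1) ^ (j - 1)) x) = 0) :
    Even (Multiset.count j (jtype (u - 1))) := by
  obtain ⟨ι, hι, d, b, hd, hb, hjt⟩ := jtype_spec (u - 1) hnil
  rw [hjt, count_map_eq_blockCount]
  exact even_blockCount h hnd hb j hj halt

/-- for a unipotent isometry of a nondegenerate alternating form the Jordan blocks of each odd
size come in pairs -/
theorem even_count_jtype_of_alt (h : IsomData ω u v) (hnd : ω.Nondegenerate) (hω : ω.IsAlt)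
    (hnil : IsNilpotent (u - 1)) (j : ℕ) (hj : Odd j) :
    Even (Multiset.count j (jtype (u - 1))) := by
  obtain ⟨a, rfl⟩ := hj
  apply even_count_jtype h hnd hnil (2 * a + 1) (by omega)
  intro x hx
  rw [Nat.add_sub_cancel]
  exact h.alt_of_odd hω a x hx

end jtype

end Cfsg.Agent.Lib.Helper43_UnipIsom
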