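import Mathlib
import Cfsg.Prelude.Def_GeometricClasses
import Cfsg.Agent.Lib.Helper40_SpMatrix
import Cfsg.Agent.Lib.Helper43_SubfieldSL2
import Cfsg.Agent.S2582

/-!
# Conjugating elements of `SL_n(q)` with scalar square into the symplectic similarity group

Support for S5967: the three types of elements of `SL_n(F)` with scalar square (characteristic
two; square a non-square scalar; square the square of a scalar) are conjugate under `SL_n(F)`
into the similarity group of any symplectic form, the last one under an arithmetic condition;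
a scalar multiple of a reflection is never conjugate into it.
-/

set_option autoImplicit false

namespace Cfsg.Agent.Lib.Helper43_GSpConj

open Matrix Module Polynomial
open Cfsg.Agent.Lib.Helper40_SpMatrix Cfsg.Agent.Lib.Helper40_SpBasic
open Cfsg.Agent.Lib.Helper43_JordanMatrix Cfsg.Agent.Lib.Helper43_SubfieldSL
open Cfsg.Agent.Lib.Helper43_SubfieldSL2

section transport

variable {F : Type*} [Field F] {I I' : Type*} [Fintype I] [DecidableEq I] [Fintype I']
  [DecidableEq I']

/-- transport of an element of the centraliser along an intertwining linear equivalence -/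
theorem cent_transport (ψ : (I → F) ≃ₗ[F] (I' → F)) (U : Matrix I I F) (A : Matrix I' I' F)
    (hψ : ∀ v, ψ (U *ᵥ v) = A *ᵥ ψ v) (D₀ : Matrix I I F) (hD₀ : D₀ * U = U * D₀) :
    ∃ D : Matrix I' I' F, D * A = A * D ∧ D.det = D₀.det := by
  set L : (I' → F) →ₗ[F] (I' → F) := ψ.conj (Matrix.toLin' D₀) with hL
  have hLv : ∀ v, L v = ψ (D₀ *ᵥ ψ.symm v) := by
    intro v
    rw [hL, LinearEquiv.conj_apply]
    rfl
  refine ⟨LinearMap.toMatrix' L, ?_, ?_⟩
  · apply Matrix.toLin'.injective
    apply LinearMap.ext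
    intro v
    have hsymm : ∀ w, ψ.symm (A *ᵥ w) = U *ᵥ ψ.symm w := by
      intro w
      apply ψ.injective
      rw [hψ, LinearEquiv.apply_symm_apply, LinearEquiv.apply_symm_apply]
    rw [Matrix.toLin'_mul, Matrix.toLin'_mul, Matrix.toLin'_toMatrix', LinearMap.comp_apply,
      LinearMap.comp_apply, Matrix.toLin'_apply, Matrix.toLin'_apply, hLv, hLv, hsymm,
      Matrix.mulVec_mulVec, hD₀, ← Matrix.mulVec_mulVec, hψ]
  · rw [LinearMap.det_toMatrix', hL, LinearEquiv.conj_apply]
    have := LinearMap.det_conj (Matrix.toLin' D₀) ψ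
    rw [LinearMap.det_toLin'] at this
    exact this

end transport

section general

variable {F : Type*} [Field F] {ι : Type*} [Fintype ι] [DecidableEq ι]

/-- a matrix whose square is a non-square scalar has characteristic polynomial a power of
`X ^ 2 - z` -/
theorem charpoly_of_sq_nonsquare (x : Matrix ι ι F) (z : F) (hx : x * x = z • 1)
    (hz : ¬ IsSquare z) : ∃ j, Fintype.card ι = 2 * j ∧ x.charpoly = (X ^ 2 - C z) ^ j := by
  set A : Matrix ι ι F[X] := (C : F →+* F[X]).mapMatrix x with hA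
  have hAA : A * A = Matrix.scalar ι (C z) := by
    rw [hA, ← map_mul, hx]
    ext i j
    simp [Matrix.one_apply, Matrix.scalar_apply, Matrix.diagonal_apply]
    split_ifs <;> simp
  have hcm : charmatrix x * charmatrix (-x) = Matrix.scalar ι (X ^ 2 - C z) := by
    have h1 : charmatrix x = Matrix.scalar ι X - A := rfl
    have h2 : charmatrix (-x) = Matrix.scalar ι X + A := by
      show Matrix.scalar ι X - (C : F →+* F[X]).mapMatrix (-x) = _
      rw [map_neg, sub_neg_eq_add]
    have hcomm : Matrix.scalar ι (X : F[X]) * A = A * Matrix.scalar ι X :=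
      (Matrix.scalar_commute (X : F[X]) (fun r => mul_comm _ _) A).eq
    rw [h1, h2, sub_mul, mul_add, mul_add, hAA, hcomm, map_sub, map_pow, pow_two]
    abel
  have hprod : x.charpoly * (-x).charpoly = (X ^ 2 - C z) ^ Fintype.card ι := by
    unfold Matrix.charpoly
    rw [← Matrix.det_mul, hcm, Matrix.scalar_apply, Matrix.det_diagonal]
    simp
  have hirr : Irreducible (X ^ 2 - C z : F[X]) := by
    have hdeg : (X ^ 2 - C z : F[X]).natDegree = 2 := natDegree_X_pow_sub_C
    apply Polynomial.irreducible_of_degree_le_three_of_not_isRoot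
    · rw [hdeg]
      simp
    · intro r hr
      apply hz
      refine ⟨r, ?_⟩
      have : r ^ 2 - z = 0 := by simpa using hr
      rw [← pow_two]
      exact (sub_eq_zero.1 this).symm
  have hdvd : x.charpoly ∣ (X ^ 2 - C z) ^ Fintype.card ι := ⟨_, hprod.symm⟩
  obtain ⟨j, -, hj⟩ := (dvd_prime_pow hirr.prime _).1 hdvd
  have hmonic : ((X ^ 2 - C z : F[X]) ^ j).Monic := (monic_X_pow_sub_C z (by norm_num)).pow j
  have heq : x.charpoly = (X ^ 2 - C z) ^ j :=
    Polynomial.eq_of_monic_of_associated (Matrix.charpoly_monic x) hmonic hj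
  have hn : Fintype.card ι = 2 * j := by
    have h1 := Matrix.charpoly_natDegree_eq_dim x
    rw [heq, natDegree_pow, natDegree_X_pow_sub_C] at h1
    omega
  exact ⟨j, hn, heq⟩

/-- a matrix with non-zero scalar square is semisimple in characteristic not two -/
theorem isSemisimple_of_sq (h2 : (2 : F) ≠ 0) (x : Matrix ι ι F) (z : F) (hz0 : z ≠ 0)
    (hx : x * x = z • 1) :
    Module.End.IsSemisimple (Matrix.toLin' x : Module.End F (ι → F)) := by
  have hsep : (X ^ 2 - C z : F[X]).Separable :=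
    Polynomial.separable_X_pow_sub_C z (by exact_mod_cast h2) hz0
  apply Module.End.isSemisimple_of_squarefree_aeval_eq_zero hsep.squarefree
  rw [map_sub, map_pow, aeval_X, aeval_C, pow_two]
  apply LinearMap.ext
  intro v
  rw [LinearMap.sub_apply, Module.End.mul_apply, Matrix.toLin'_apply, Matrix.toLin'_apply,
    Matrix.mulVec_mulVec, hx, Matrix.smul_mulVec, Matrix.one_mulVec, Module.algebraMap_end_apply,
    sub_self, LinearMap.zero_apply]

/-- a skew-symmetric matrix gives an alternating form in characteristic not two -/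
theorem alt_of_skew (h2 : (2 : F) ≠ 0) (B : Matrix ι ι F) (hB : Bᵀ = -B) (v : ι → F) :
    Matrix.toBilin' B v v = 0 := by
  rw [Matrix.toBilin'_apply']
  have h1 : v ⬝ᵥ B *ᵥ v = -(v ⬝ᵥ B *ᵥ v) := by
    nth_rewrite 1 [Matrix.dotProduct_mulVec, ← Matrix.mulVec_transpose, hB, Matrix.neg_mulVec,
      neg_dotProduct, dotProduct_comm]
    rfl
  have h3 : (2 : F) * (v ⬝ᵥ B *ᵥ v) = 0 := by
    rw [two_mul]
    nth_rewrite 1 [h1]
    exact neg_add_cancel _
  rcases mul_eq_zero.1 h3 with h | h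
  · exact absurd h h2
  · exact h

end general

section transfer

universe v

variable {F : Type v} [Field F] {n : ℕ}

/-- the bilinear form attached to a symplectic form given as a function -/
noncomputable def formOf (f : (Fin n → F) → (Fin n → F) → F) (hf : Cfsg.Geo.IsSymplecticForm f) :
    LinearMap.BilinForm F (Fin n → F) :=
  LinearMap.mk₂ F f hf.bilinear.add_left
    (fun c x v => by rw [smul_eq_mul]; exact hf.bilinear.smul_left c x v)
    hf.bilinear.add_right
    (fun c v x => by rw [smul_eq_mul]; exact hf.bilinear.smul_right c v x)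

theorem formOf_nondeg (f : (Fin n → F) → (Fin n → F) → F) (hf : Cfsg.Geo.IsSymplecticForm f) :
    (formOf f hf).Nondegenerate := by
  constructor
  · intro x hx
    by_contra hne
    obtain ⟨-, y, hy⟩ := hf.nondegenerate x hne
    exact hy (hx y)
  · intro y hy
    by_contra hne
    obtain ⟨⟨x, hx⟩, -⟩ := hf.nondegenerate y hne
    exact hx (hy x)

variable {κ : Type} [Fintype κ] [DecidableEq κ]

/-- any symplectic form on `F^n` is equivalent to the form of any invertible alternating matrix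
of the same size -/
theorem exists_equiv_form [Finite F] (hκ : Fintype.card κ = n)
    (f : (Fin n → F) → (Fin n → F) → F) (hf : Cfsg.Geo.IsSymplecticForm f)
    (B₀ : Matrix κ κ F) (halt : ∀ v : κ → F, Matrix.toBilin' B₀ v v = 0) (hdet : B₀.det ≠ 0) :
    ∃ φ : (Fin n → F) ≃ₗ[F] (κ → F), ∀ u v, Matrix.toBilin' B₀ (φ u) (φ v) = f u v := by
  have hdimV : finrank F (Fin n → F) = n := Module.finrank_fin_fun F
  have hdimW : finrank F (κ → F) = n := by
    rw [Module.finrank_fintype_fun_eq_card, hκ]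
  obtain ⟨φ, -, hφ⟩ := Cfsg.Agent.Lib.Helper40_SpConj.exists_isometry_conj (F := F) n
    (formOf f hf) (Matrix.toBilin' B₀) (1 : End F (Fin n → F)) (1 : End F (κ → F)) 1 hdimV
    ⟨hf.alternating, fun _ _ => rfl, pow_one 1, one_pos⟩
    ⟨halt, fun _ _ => rfl, pow_one 1, one_pos⟩ (formOf_nondeg f hf)
    (LinearMap.BilinForm.nondegenerate_toBilin'_of_det_ne_zero' B₀ hdet)
    Module.End.isSemisimple_id Module.End.isSemisimple_id
    (by rw [LinearMap.charpoly_one, LinearMap.charpoly_one, hdimV, hdimW])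
  exact ⟨φ, hφ⟩

/-- an element of `SL_n(F)` that is similar to a similitude of an invertible alternating matrix,
and whose centraliser contains matrices of every non-zero determinant, is conjugate under
`SL_n(F)` into the similarity group of any symplectic form -/
theorem exists_conj_into_gsp [Finite F] (hκ : Fintype.card κ = n)
    (f : (Fin n → F) → (Fin n → F) → F)
    (hf : Cfsg.Geo.IsSymplecticForm f) (x : Matrix.SpecialLinearGroup (Fin n) F)
    (B₀ : Matrix κ κ F) (halt : ∀ v : κ → F, Matrix.toBilin' B₀ v v = 0) (hdet : B₀.det ≠ 0)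
    (X₀ : Matrix κ κ F) (lam : F) (hlam : lam ≠ 0) (hX₀ : X₀ᵀ * B₀ * X₀ = lam • B₀)
    (ψ : (Fin n → F) ≃ₗ[F] (κ → F))
    (hψ : ∀ v, ψ ((x : Matrix (Fin n) (Fin n) F) *ᵥ v) = X₀ *ᵥ ψ v)
    (hcent : ∀ δ : F, δ ≠ 0 → ∃ D : Matrix (Fin n) (Fin n) F,
      D * (x : Matrix (Fin n) (Fin n) F) = (x : Matrix (Fin n) (Fin n) F) * D ∧ D.det = δ) :
    ∃ P : Matrix.SpecialLinearGroup (Fin n) F, P⁻¹ * x * P ∈
      ((Cfsg.Geo.similarityGroup f).comap
        (Matrix.SpecialLinearGroup.toGL : Matrix.SpecialLinearGroup (Fin n) F →* GL (Fin n) F)) := by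
  classical
  obtain ⟨φ, hφ⟩ := exists_equiv_form hκ f hf B₀ halt hdet
  -- the linear automorphism `φ⁻¹ ψ` of `F^n` conjugates `x` to a similitude of `f`
  set θ : (Fin n → F) ≃ₗ[F] (Fin n → F) := ψ.trans φ.symm with hθ
  set A : Matrix (Fin n) (Fin n) F :=
    LinearMap.toMatrix' (θ.symm : (Fin n → F) →ₗ[F] (Fin n → F)) with hA
  set A' : Matrix (Fin n) (Fin n) F :=
    LinearMap.toMatrix' (θ : (Fin n → F) →ₗ[F] (Fin n → F)) with hA'
  have hAA' : A * A' = 1 := by
    rw [hA, hA', ← LinearMap.toMatrix'_comp]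
    simp
  have hA'A : A' * A = 1 := by
    rw [hA, hA', ← LinearMap.toMatrix'_comp]
    simp
  have hAv : ∀ u, A *ᵥ u = θ.symm u := by
    intro u
    rw [hA, ← Matrix.toLin'_apply, Matrix.toLin'_toMatrix']
    rfl
  have hA'v : ∀ u, A' *ᵥ u = θ u := by
    intro u
    rw [hA', ← Matrix.toLin'_apply, Matrix.toLin'_toMatrix']
    rfl
  have hAdet : A.det ≠ 0 := by
    intro h0
    have := congrArg Matrix.det hAA'
    rw [Matrix.det_mul, h0, zero_mul, Matrix.det_one] at this
    exact zero_ne_one this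
  set X : Matrix (Fin n) (Fin n) F := (x : Matrix (Fin n) (Fin n) F) with hX
  set g : Matrix (Fin n) (Fin n) F := A' * X * A with hg
  have hgv : ∀ u, φ (g *ᵥ u) = X₀ *ᵥ φ u := by
    intro u
    rw [hg, ← Matrix.mulVec_mulVec, ← Matrix.mulVec_mulVec, hA'v, hAv, hθ]
    simp only [LinearEquiv.trans_apply, LinearEquiv.symm_trans_apply, LinearEquiv.symm_symm,
      LinearEquiv.apply_symm_apply]
    rw [hψ, LinearEquiv.apply_symm_apply]
  have hgf : ∀ u v, f (g *ᵥ u) (g *ᵥ v) = lam * f u v := by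
    intro u v
    rw [← hφ, hgv, hgv, ← hφ u v]
    have h1 : ∀ a b : κ → F, Matrix.toBilin' B₀ (X₀ *ᵥ a) (X₀ *ᵥ b) =
        Matrix.toBilin' (X₀ᵀ * B₀ * X₀) a b := by
      intro a b
      rw [← Matrix.toLin'_apply, ← Matrix.toLin'_apply X₀ b, ← Matrix.toBilin'_comp,
        LinearMap.BilinForm.comp_apply]
    rw [h1, hX₀, map_smul, LinearMap.smul_apply, LinearMap.smul_apply, smul_eq_mul]
  obtain ⟨D, hDX, hDdet⟩ := hcent A.det⁻¹ (inv_ne_zero hAdet)
  have hPdet : (D * A).det = 1 := by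
    rw [Matrix.det_mul, hDdet, inv_mul_cancel₀ hAdet]
  set P : Matrix.SpecialLinearGroup (Fin n) F := ⟨D * A, hPdet⟩ with hP
  refine ⟨P, ?_⟩
  have hPg : (P : Matrix (Fin n) (Fin n) F) * g = X * (P : Matrix (Fin n) (Fin n) F) := by
    show D * A * (A' * X * A) = X * (D * A)
    calc D * A * (A' * X * A) = D * (A * A') * X * A := by simp only [Matrix.mul_assoc]
      _ = D * X * A := by rw [hAA', Matrix.mul_one]
      _ = X * (D * A) := by rw [hDX]; simp only [Matrix.mul_assoc]
  have hconj : ((P⁻¹ * x * P : Matrix.SpecialLinearGroup (Fin n) F) : Matrix (Fin n) (Fin n) F) =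
      g := by
    rw [Matrix.SpecialLinearGroup.coe_mul, Matrix.SpecialLinearGroup.coe_mul, Matrix.mul_assoc,
      ← hX, ← hPg, ← Matrix.mul_assoc, ← Matrix.SpecialLinearGroup.coe_mul, inv_mul_cancel,
      Matrix.SpecialLinearGroup.coe_one, Matrix.one_mul]
  rw [Subgroup.mem_comap]
  refine ⟨Units.mk0 lam hlam, ?_⟩
  intro u v
  show f (((P⁻¹ * x * P : Matrix.SpecialLinearGroup (Fin n) F) : Matrix (Fin n) (Fin n) F) *ᵥ u)
    (((P⁻¹ * x * P : Matrix.SpecialLinearGroup (Fin n) F) : Matrix (Fin n) (Fin n) F) *ᵥ v) =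
    lam * f u v
  rw [hconj]
  exact hgf u v

end transfer

section charTwo

variable {F : Type*} [Field F] [Fintype F] {n m : ℕ}

/-- in characteristic two, every element of `SL_n(F)` (`n` even) with scalar square is conjugate
under `SL_n(F)` into the similarity group of any symplectic form -/
theorem exists_conj_gsp_char_two [CharP F 2] (hnm : n = m + m) (hn : 1 ≤ n)
    (f : (Fin n → F) → (Fin n → F) → F) (hf : Cfsg.Geo.IsSymplecticForm f)
    (x : Matrix.SpecialLinearGroup (Fin n) F) (z : F)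
    (hz : ((x ^ 2 : Matrix.SpecialLinearGroup (Fin n) F) : Matrix (Fin n) (Fin n) F) =
      z • (1 : Matrix (Fin n) (Fin n) F)) :
    ∃ P : Matrix.SpecialLinearGroup (Fin n) F, P⁻¹ * x * P ∈
      ((Cfsg.Geo.similarityGroup f).comap
        (Matrix.SpecialLinearGroup.toGL : Matrix.SpecialLinearGroup (Fin n) F →* GL (Fin n) F)) := by
  classical
  have hp2 : Fact (Nat.Prime 2) := ⟨Nat.prime_two⟩
  have hne : Nonempty (Fin n) := ⟨⟨0, by omega⟩⟩
  have hzn : z ^ n = 1 := by
    have h1 := (x ^ 2).2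
    rw [hz, Matrix.det_smul, Matrix.det_one, mul_one, Fintype.card_fin] at h1
    exact h1
  have hz0 : z ≠ 0 := by
    rintro rfl
    rw [zero_pow (by omega)] at hzn
    exact zero_ne_one hzn
  obtain ⟨μ, hμ⟩ := surjective_frobenius F 2 z
  rw [frobenius_def] at hμ
  have hμ0 : μ ≠ 0 := by
    rintro rfl
    rw [zero_pow (by norm_num)] at hμ
    exact hz0 hμ.symm
  set u : Matrix (Fin n) (Fin n) F := μ⁻¹ • (x : Matrix (Fin n) (Fin n) F) with hu
  have hxu : (x : Matrix (Fin n) (Fin n) F) = μ • u := by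
    rw [hu, smul_smul, mul_inv_cancel₀ hμ0, one_smul]
  have hu2 : u ^ 2 = 1 := by
    rw [hu, _root_.smul_pow, ← Matrix.SpecialLinearGroup.coe_pow, hz, smul_smul, inv_pow, hμ,
      inv_mul_cancel₀ hz0, one_smul]
  have hN2 : (u - 1) ^ 2 = 0 := by
    have := Matrix.charP (n := Fin n) (R := F) 2
    rw [sub_pow_char_of_commute 2 (Commute.one_right u), one_pow, hu2, sub_self]
  obtain ⟨t, d, hd1, hd2, e, hconj⟩ := exists_jordanType_conj_le u 2 hN2
  obtain ⟨ψ₁, hψ₁⟩ := exists_equiv_of_isConj e (Cfsg.jordanTypeMatrix d F) u hconj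
  have hsum : ∑ k, d k = n := by
    have h1 := Fintype.card_congr e
    rw [Fintype.card_sigma, Fintype.card_fin] at h1
    simpa using h1
  have hsum' : ∑ k, d k = 2 * m := by
    rw [hsum, hnm, two_mul]
  -- parity of the number of blocks of each odd size
  have hparity : ∀ j : ℕ, Odd j → Even (Finset.univ.filter (fun k : Fin t => d k = j)).card := by
    intro j hj
    by_cases hj1 : j = 1
    · subst hj1
      have h1 : ∑ k, d k = (Finset.univ.filter (fun k : Fin t => d k = 1)).card +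
          2 * (Finset.univ.filter (fun k : Fin t => ¬ d k = 1)).card := by
        rw [← Finset.sum_filter_add_sum_filter_not Finset.univ (fun k : Fin t => d k = 1)]
        congr 1
        · rw [Finset.card_eq_sum_ones]
          apply Finset.sum_congr rfl
          intro k hk
          exact (Finset.mem_filter.1 hk).2
        · rw [Finset.card_eq_sum_ones, Finset.mul_sum]
          apply Finset.sum_congr rfl
          intro k hk
          have h3 := (Finset.mem_filter.1 hk).2
          have := hd1 k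
          have := hd2 k
          omega
      rw [hsum'] at h1
      rw [Nat.even_iff]
      omega
    · have hempty : (Finset.univ.filter (fun k : Fin t => d k = j)) = ∅ := by
        rw [Finset.filter_eq_empty_iff]
        intro k _ hk
        have := hd1 k
        have := hd2 k
        have hj' := Nat.odd_iff.1 hj
        omega
      rw [hempty]
      simp
  obtain ⟨e₂, A, hconj₂⟩ := (Cfsg.Agent.S2582.result (F := F) d hd1 hsum').2 hparity
  obtain ⟨ψ₂, hψ₂⟩ := exists_equiv_of_isConj e₂ (Cfsg.jordanTypeMatrix d F)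
    (A : Matrix (Fin m ⊕ Fin m) (Fin m ⊕ Fin m) F) hconj₂
  have hA := SymplecticGroup.mem_iff'.1 A.2
  refine exists_conj_into_gsp (κ := Fin m ⊕ Fin m) (by rw [Fintype.card_sum, Fintype.card_fin, hnm])
    f hf x (J (Fin m) F) Jform_alt (isUnit_det_J (Fin m) F).ne_zero
    (μ • (A : Matrix (Fin m ⊕ Fin m) (Fin m ⊕ Fin m) F)) (μ * μ) (mul_ne_zero hμ0 hμ0) ?_
    (ψ₁.symm.trans ψ₂) ?_ ?_
  · rw [Matrix.transpose_smul, Matrix.smul_mul, Matrix.smul_mul, Matrix.mul_smul, hA, smul_smul]
  · intro v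
    have hxv : (x : Matrix (Fin n) (Fin n) F) *ᵥ v = μ • (u *ᵥ v) := by
      rw [hu, Matrix.smul_mulVec, smul_smul, mul_inv_cancel₀ hμ0, one_smul]
    have h1 : ψ₁.symm (u *ᵥ v) = Cfsg.jordanTypeMatrix d F *ᵥ ψ₁.symm v := by
      apply ψ₁.injective
      rw [hψ₁, LinearEquiv.apply_symm_apply, LinearEquiv.apply_symm_apply]
    rw [LinearEquiv.trans_apply, LinearEquiv.trans_apply, hxv, map_smul, map_smul, h1, hψ₂,
      Matrix.smul_mulVec]
  · intro δ hδ
    have ht0 : 0 < t := by
      rcases Nat.eq_zero_or_pos t with h | h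
      · subst h
        simp at hsum
        omega
      · exact h
    obtain ⟨k₀, s, hs⟩ : ∃ (k₀ : Fin t) (s : F), s ^ d k₀ = δ := by
      by_cases h1 : ∃ k₀, d k₀ = 1
      · obtain ⟨k₀, hk₀⟩ := h1
        exact ⟨k₀, δ, by rw [hk₀, pow_one]⟩
      · push Not at h1
        obtain ⟨s, hs⟩ := surjective_frobenius F 2 δ
        rw [frobenius_def] at hs
        refine ⟨⟨0, ht0⟩, s, ?_⟩
        have h2 : d ⟨0, ht0⟩ = 2 := by
          have := hd1 ⟨0, ht0⟩
          have := hd2 ⟨0, ht0⟩
          have := h1 ⟨0, ht0⟩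
          omega
        rw [h2, hs]
    obtain ⟨D, hDu, hDdet⟩ := cent_transport ψ₁ (Cfsg.jordanTypeMatrix d F) u hψ₁
      (blockScalar d k₀ s) (blockScalar_comm d k₀ s)
    refine ⟨D, ?_, ?_⟩
    · rw [hxu, Matrix.mul_smul, Matrix.smul_mul, hDu]
    · rw [hDdet, det_blockScalar, hs]

end charTwo

section nonsquare

universe v

variable {F : Type v} [Field F] [Fintype F] {n : ℕ}

/-- an element of `SL_n(F)` (`q` odd) whose square is a non-square scalar is conjugate under
`SL_n(F)` into the similarity group of any symplectic form -/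
theorem exists_conj_gsp_nonsquare (h2 : (2 : F) ≠ 0) (hn : 1 ≤ n)
    (f : (Fin n → F) → (Fin n → F) → F) (hf : Cfsg.Geo.IsSymplecticForm f)
    (x : Matrix.SpecialLinearGroup (Fin n) F) (z : F) (hz : ¬ IsSquare z)
    (hx : (x : Matrix (Fin n) (Fin n) F) * (x : Matrix (Fin n) (Fin n) F) = z • 1) :
    ∃ P : Matrix.SpecialLinearGroup (Fin n) F, P⁻¹ * x * P ∈
      ((Cfsg.Geo.similarityGroup f).comap
        (Matrix.SpecialLinearGroup.toGL : Matrix.SpecialLinearGroup (Fin n) F →* GL (Fin n) F)) := by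
  classical
  have hz0 : z ≠ 0 := by
    rintro rfl
    exact hz ⟨0, by simp⟩
  obtain ⟨m, hnm, hcp⟩ := charpoly_of_sq_nonsquare (x : Matrix (Fin n) (Fin n) F) z hx hz
  rw [Fintype.card_fin] at hnm
  have hm : 0 < m := by omega
  -- the model
  set M₂ : Matrix (Fin 2) (Fin 2) F := !![0, z; 1, 0] with hM₂
  set J₂ : Matrix (Fin 2) (Fin 2) F := !![0, 1; -1, 0] with hJ₂
  set X₀ : Matrix (Fin 2 × Fin m) (Fin 2 × Fin m) F := Matrix.blockDiagonal (fun _ => M₂) with hX₀
  set B₀ : Matrix (Fin 2 × Fin m) (Fin 2 × Fin m) F := Matrix.blockDiagonal (fun _ => J₂) with hB₀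
  have hM₂sq : M₂ * M₂ = z • 1 := by
    rw [hM₂]
    ext i j
    fin_cases i <;> fin_cases j <;> simp [Matrix.mul_apply, Fin.sum_univ_two]
  have hX₀sq : X₀ * X₀ = z • 1 := by
    rw [hX₀, ← Matrix.blockDiagonal_mul]
    have : (fun k : Fin m => M₂ * M₂) = z • (1 : Fin m → Matrix (Fin 2) (Fin 2) F) := by
      funext k
      rw [hM₂sq]
      rfl
    rw [this, Matrix.blockDiagonal_smul, Matrix.blockDiagonal_one]
  have hcard : Fintype.card (Fin 2 × Fin m) = n := by
    rw [Fintype.card_prod, Fintype.card_fin, Fintype.card_fin, hnm]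
  obtain ⟨m', hm', hcp₀⟩ := charpoly_of_sq_nonsquare X₀ z hX₀sq hz
  have hmm' : m' = m := by
    rw [hcard] at hm'
    omega
  rw [hmm'] at hcp₀
  have hss := isSemisimple_of_sq h2 (x : Matrix (Fin n) (Fin n) F) z hz0 hx
  have hss₀ := isSemisimple_of_sq h2 X₀ z hz0 hX₀sq
  obtain ⟨ψ, hψ⟩ := Cfsg.Agent.Lib.Helper40_Semisimple.exists_conj_of_charpoly_eq (F := F) n
    (Matrix.toLin' (x : Matrix (Fin n) (Fin n) F) : Module.End F (Fin n → F))
    (Matrix.toLin' X₀ : Module.End F (Fin 2 × Fin m → F)) (Module.finrank_fin_fun F) hss hss₀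
    (by rw [Matrix.charpoly_toLin', Matrix.charpoly_toLin', hcp, hcp₀])
  have hJ₂T : J₂ᵀ = -J₂ := by
    rw [hJ₂]
    ext i j
    fin_cases i <;> fin_cases j <;> simp
  have hB₀T : B₀ᵀ = -B₀ := by
    rw [hB₀, Matrix.blockDiagonal_transpose, ← Matrix.blockDiagonal_neg]
    congr 1
    funext k
    exact hJ₂T
  have hB₀det : B₀.det ≠ 0 := by
    rw [hB₀, Matrix.det_blockDiagonal]
    have : J₂.det = 1 := by
      rw [hJ₂, Matrix.det_fin_two_of]
      ring
    simp [this]
  have hform : X₀ᵀ * B₀ * X₀ = (-z) • B₀ := by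
    rw [hX₀, hB₀, Matrix.blockDiagonal_transpose, ← Matrix.blockDiagonal_mul,
      ← Matrix.blockDiagonal_mul, ← Matrix.blockDiagonal_smul]
    congr 1
    funext k
    rw [hM₂, hJ₂]
    ext i j
    fin_cases i <;> fin_cases j <;>
      simp [Matrix.mul_apply, Fin.sum_univ_two]
  refine exists_conj_into_gsp hcard f hf x B₀ (alt_of_skew h2 B₀ hB₀T) hB₀det X₀ (-z)
    (neg_ne_zero.2 hz0) hform ψ (fun v => hψ v) ?_
  intro δ hδ
  -- the norm form is surjective
  have hchar := ringChar_ne_two_of_two_ne_zero h2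
  have hodd := FiniteField.odd_card_of_char_ne_two hchar
  obtain ⟨α, β, hαβ⟩ := FiniteField.exists_root_sum_quadratic (R := F)
    (f := X ^ 2 - C δ) (g := - C z * X ^ 2)
    (by rw [Polynomial.degree_X_pow_sub_C (by norm_num)]; rfl)
    (by
      rw [← C_neg, Polynomial.degree_C_mul_X_pow 2 (neg_ne_zero.2 hz0)]
      rfl) hodd
  have hnorm : α ^ 2 - z * β ^ 2 = δ := by
    simp only [eval_sub, eval_pow, eval_X, eval_C, eval_mul, eval_neg] at hαβ
    linear_combination hαβ
  set k₀ : Fin m := ⟨0, hm⟩ with hk₀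
  set N₂ : Matrix (Fin 2) (Fin 2) F := !![α, z * β; β, α] with hN₂
  set D₀ : Matrix (Fin 2 × Fin m) (Fin 2 × Fin m) F :=
    Matrix.blockDiagonal (fun k => if k = k₀ then N₂ else 1) with hD₀
  have hD₀X : D₀ * X₀ = X₀ * D₀ := by
    rw [hD₀, hX₀, ← Matrix.blockDiagonal_mul, ← Matrix.blockDiagonal_mul]
    congr 1
    funext k
    by_cases hk : k = k₀
    · rw [if_pos hk, hM₂, hN₂]
      ext i j
      fin_cases i <;> fin_cases j <;> simp [Matrix.mul_apply, Fin.sum_univ_two, mul_comm]
    · rw [if_neg hk, Matrix.one_mul, Matrix.mul_one]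
  have hD₀det : D₀.det = δ := by
    rw [hD₀, Matrix.det_blockDiagonal, Finset.prod_eq_single k₀]
    · rw [if_pos rfl, hN₂, Matrix.det_fin_two_of, ← hnorm]
      ring
    · intro k _ hk
      rw [if_neg hk, Matrix.det_one]
    · intro h
      exact absurd (Finset.mem_univ k₀) h
  have hψs : ∀ v, ψ.symm (X₀ *ᵥ v) = (x : Matrix (Fin n) (Fin n) F) *ᵥ ψ.symm v := by
    intro v
    apply ψ.injective
    have := hψ (ψ.symm v)
    rw [Matrix.toLin'_apply, Matrix.toLin'_apply] at this
    rw [this, LinearEquiv.apply_symm_apply, LinearEquiv.apply_symm_apply]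
  obtain ⟨D, hD, hDdet⟩ := cent_transport ψ.symm X₀ (x : Matrix (Fin n) (Fin n) F) hψs D₀ hD₀X
  exact ⟨D, hD, by rw [hDdet, hD₀det]⟩

end nonsquare

section altEx

variable {F : Type*} [Field F]

/-- on a finite type of even cardinality there is an invertible alternating matrix -/
theorem exists_alt_matrix (T : Type*) [Fintype T] [DecidableEq T] (hT : Even (Fintype.card T)) :
    ∃ B : Matrix T T F, (∀ v : T → F, Matrix.toBilin' B v v = 0) ∧ B.det ≠ 0 := by
  obtain ⟨k, hk⟩ := hT
  have hcard : Fintype.card (Fin k ⊕ Fin k) = Fintype.card T := by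
    rw [Fintype.card_sum, Fintype.card_fin, hk]
  set e : Fin k ⊕ Fin k ≃ T := Fintype.equivOfCardEq hcard with he
  refine ⟨Matrix.reindex e e (J (Fin k) F), ?_, ?_⟩
  · intro v
    have h1 : Matrix.toBilin' (Matrix.reindex e e (J (Fin k) F)) v v =
        Matrix.toBilin' (J (Fin k) F) (v ∘ e) (v ∘ e) := by
      rw [Matrix.toBilin'_apply', Matrix.toBilin'_apply', Matrix.reindex_apply,
        Matrix.submatrix_mulVec_equiv, dotProduct, dotProduct, ← Equiv.sum_comp e]
      simp
    rw [h1]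
    exact Jform_alt (v ∘ e)
  · rw [Matrix.det_reindex_self]
    exact (isUnit_det_J (Fin k) F).ne_zero

/-- the block sum of two alternating forms is alternating -/
theorem alt_fromBlocks {T U : Type*} [Fintype T] [DecidableEq T] [Fintype U] [DecidableEq U]
    (A : Matrix T T F) (D : Matrix U U F) (hA : ∀ v : T → F, Matrix.toBilin' A v v = 0)
    (hD : ∀ v : U → F, Matrix.toBilin' D v v = 0) (v : T ⊕ U → F) :
    Matrix.toBilin' (Matrix.fromBlocks A 0 0 D) v v = 0 := by
  have h1 := hA (v ∘ Sum.inl)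
  have h3 := hD (v ∘ Sum.inr)
  rw [Matrix.toBilin'_apply'] at h1 h3 ⊢
  rw [Matrix.fromBlocks_mulVec]
  nth_rewrite 1 [← Sum.elim_comp_inl_inr v]
  rw [sumElim_dotProduct_sumElim]
  simp only [Matrix.zero_mulVec, add_zero, zero_add]
  rw [h1, h3, add_zero]

end altEx

section square

universe v

variable {F : Type v} [Field F] [Fintype F] {n : ℕ}

/-- an element of `SL_n(F)` (`n` even, `q` odd) whose square is the square `μ ^ 2` of a scalar
with `μ ^ n ≠ -1` is conjugate under `SL_n(F)` into the similarity group of any symplectic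
form -/
theorem exists_conj_gsp_of_sq (h2 : (2 : F) ≠ 0) (hn : 1 ≤ n) (hneven : Even n)
    (f : (Fin n → F) → (Fin n → F) → F) (hf : Cfsg.Geo.IsSymplecticForm f)
    (x : Matrix.SpecialLinearGroup (Fin n) F) (μ : F) (hμ : μ ≠ 0)
    (hx : (x : Matrix (Fin n) (Fin n) F) * (x : Matrix (Fin n) (Fin n) F) = (μ * μ) • 1)
    (hneg : μ ^ n ≠ -1) :
    ∃ P : Matrix.SpecialLinearGroup (Fin n) F, P⁻¹ * x * P ∈
      ((Cfsg.Geo.similarityGroup f).comap
        (Matrix.SpecialLinearGroup.toGL : Matrix.SpecialLinearGroup (Fin n) F →* GL (Fin n) F)) := by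
  classical
  set y : Matrix (Fin n) (Fin n) F := μ⁻¹ • (x : Matrix (Fin n) (Fin n) F) with hy
  have hxy : (x : Matrix (Fin n) (Fin n) F) = μ • y := by
    rw [hy, smul_smul, mul_inv_cancel₀ hμ, one_smul]
  have hyy : y * y = 1 := by
    rw [hy, Matrix.smul_mul, Matrix.mul_smul, hx, smul_smul, smul_smul]
    have : μ⁻¹ * μ⁻¹ * (μ * μ) = 1 := by field_simp
    rw [this, one_smul]
  have hydet : y.det = (μ ^ n)⁻¹ := by
    rw [hy, Matrix.det_smul, x.2, mul_one, Fintype.card_fin, inv_pow]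
  obtain ⟨C₁, ε, hC₁det, hyC⟩ := exists_eigen_conj h2 y hyy
  set sgn : Fin n → F := fun j => if ε j then (1 : F) else -1 with hsgn
  have hC₁u : IsUnit C₁.det := isUnit_iff_ne_zero.2 hC₁det
  have hCi : C₁⁻¹ * C₁ = 1 := Matrix.nonsing_inv_mul _ hC₁u
  have hCi' : C₁ * C₁⁻¹ = 1 := Matrix.mul_nonsing_inv _ hC₁u
  have hCy : C₁⁻¹ * y = Matrix.diagonal sgn * C₁⁻¹ := by
    calc C₁⁻¹ * y = C₁⁻¹ * (y * C₁) * C₁⁻¹ := by
          rw [Matrix.mul_assoc, Matrix.mul_assoc, hCi', Matrix.mul_one]
      _ = Matrix.diagonal sgn * C₁⁻¹ := by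
          rw [hyC, ← Matrix.mul_assoc, hCi, Matrix.one_mul]
  -- the number of eigenvalues `-1` is even
  set b : ℕ := (Finset.univ.filter (fun j : Fin n => ¬ ε j = true)).card with hb
  have hdetE : (Matrix.diagonal sgn).det = (-1) ^ b := by
    rw [Matrix.det_diagonal, hsgn, Finset.prod_ite, Finset.prod_const_one, one_mul,
      Finset.prod_const]
  have hbeven : Even b := by
    by_contra hodd
    rw [Nat.not_even_iff_odd] at hodd
    have h1 := congrArg Matrix.det hyC
    rw [Matrix.det_mul, Matrix.det_mul, hdetE, hodd.neg_one_pow, hydet, mul_comm] at h1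
    have h3 := mul_left_cancel₀ hC₁det h1
    apply hneg
    rw [← inv_inv (μ ^ n), h3]
    norm_num
  -- the two eigen-index types
  have hcardF : Fintype.card {j : Fin n // ¬ ε j = true} = b := by
    rw [Fintype.card_subtype]
  have hcardT : Even (Fintype.card {j : Fin n // ε j = true}) := by
    have h1 := Fintype.card_congr (Equiv.sumCompl (fun j : Fin n => ε j = true))
    rw [Fintype.card_sum, Fintype.card_fin, hcardF] at h1
    have h3 : Fintype.card {j : Fin n // ε j = true} = n - b := by omega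
    rw [h3]
    exact (Nat.even_sub (by omega)).2 ⟨fun _ => hbeven, fun _ => hneven⟩
  obtain ⟨BT, hBTalt, hBTdet⟩ := exists_alt_matrix (F := F) {j : Fin n // ε j = true} hcardT
  obtain ⟨BF, hBFalt, hBFdet⟩ := exists_alt_matrix (F := F) {j : Fin n // ¬ ε j = true}
    (by rw [hcardF]; exact hbeven)
  set sc := Equiv.sumCompl (fun j : Fin n => ε j = true) with hsc
  set B₀ : Matrix ({j : Fin n // ε j = true} ⊕ {j : Fin n // ¬ ε j = true})
    ({j : Fin n // ε j = true} ⊕ {j : Fin n // ¬ ε j = true}) F := Matrix.fromBlocks BT 0 0 BF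
    with hB₀
  set X₀ : Matrix ({j : Fin n // ε j = true} ⊕ {j : Fin n // ¬ ε j = true})
    ({j : Fin n // ε j = true} ⊕ {j : Fin n // ¬ ε j = true}) F :=
    Matrix.fromBlocks (μ • 1) 0 0 ((-μ) • 1) with hX₀
  have hform : X₀ᵀ * B₀ * X₀ = (μ * μ) • B₀ := by
    rw [hX₀, hB₀, Matrix.fromBlocks_transpose, Matrix.fromBlocks_multiply,
      Matrix.fromBlocks_multiply, Matrix.fromBlocks_smul]
    congr 1
    · simp [Matrix.transpose_smul, smul_smul]
    · simp
    · simp
    · simp [Matrix.transpose_smul, smul_smul]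
  set ψ : (Fin n → F) ≃ₗ[F] ({j : Fin n // ε j = true} ⊕ {j : Fin n // ¬ ε j = true} → F) :=
    (Matrix.toLin'OfInv hCi' hCi).trans (LinearEquiv.funCongrLeft F F sc) with hψ
  have hψv : ∀ v, ψ v = (C₁⁻¹ *ᵥ v) ∘ sc := fun v => rfl
  refine exists_conj_into_gsp ((Fintype.card_congr sc).trans (Fintype.card_fin n)) f hf x B₀
    (alt_fromBlocks BT BF hBTalt hBFalt)
    (by rw [hB₀, Matrix.det_fromBlocks_zero₂₁]; exact mul_ne_zero hBTdet hBFdet)
    X₀ (μ * μ) (mul_ne_zero hμ hμ) hform ψ ?_ ?_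
  · intro v
    have hkey : C₁⁻¹ *ᵥ (y *ᵥ v) = Matrix.diagonal sgn *ᵥ (C₁⁻¹ *ᵥ v) := by
      rw [Matrix.mulVec_mulVec, hCy, ← Matrix.mulVec_mulVec]
    rw [hψv, hψv, hxy, Matrix.smul_mulVec, Matrix.mulVec_smul, hkey]
    funext a
    rcases a with t | t
    · have ht : sgn t.1 = 1 := by
        rw [hsgn]
        simp only
        rw [if_pos t.2]
      simp only [hX₀, hsc, Function.comp_apply, Pi.smul_apply, Matrix.mulVec_diagonal,
        Equiv.sumCompl_apply_inl, Matrix.fromBlocks_mulVec, Sum.elim_inl, Matrix.smul_mulVec,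
        Matrix.one_mulVec, Matrix.zero_mulVec, add_zero, ht, one_mul, smul_eq_mul]
    · have ht : sgn t.1 = -1 := by
        rw [hsgn]
        simp only
        rw [if_neg t.2]
      simp only [hX₀, hsc, Function.comp_apply, Pi.smul_apply, Matrix.mulVec_diagonal,
        Equiv.sumCompl_apply_inr, Matrix.fromBlocks_mulVec, Sum.elim_inr, Matrix.smul_mulVec,
        Matrix.one_mulVec, Matrix.zero_mulVec, zero_add, ht, smul_eq_mul]
      ring
  · intro δ hδ
    set Δ : Matrix (Fin n) (Fin n) F :=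
      Matrix.diagonal (Function.update (1 : Fin n → F) ⟨0, hn⟩ δ) with hΔ
    have hΔE : Δ * Matrix.diagonal sgn = Matrix.diagonal sgn * Δ := by
      rw [hΔ, Matrix.diagonal_mul_diagonal, Matrix.diagonal_mul_diagonal]
      congr 1
      funext j
      exact mul_comm _ _
    refine ⟨C₁ * Δ * C₁⁻¹, ?_, ?_⟩
    · rw [hxy, Matrix.mul_smul, Matrix.smul_mul]
      congr 1
      calc C₁ * Δ * C₁⁻¹ * y = C₁ * Δ * (C₁⁻¹ * y) := by simp only [Matrix.mul_assoc]
        _ = C₁ * (Δ * Matrix.diagonal sgn) * C₁⁻¹ := by rw [hCy]; simp only [Matrix.mul_assoc]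
        _ = (C₁ * Matrix.diagonal sgn) * Δ * C₁⁻¹ := by rw [hΔE]; simp only [Matrix.mul_assoc]
        _ = y * (C₁ * Δ * C₁⁻¹) := by rw [← hyC]; simp only [Matrix.mul_assoc]
    · rw [Matrix.det_mul, Matrix.det_mul, mul_comm, ← mul_assoc, ← Matrix.det_mul, hCi,
        Matrix.det_one, one_mul, hΔ, Matrix.det_diagonal,
        Finset.prod_update_of_mem (Finset.mem_univ _)]
      simp

end square

section arith

variable {F : Type*} [Field F] [Fintype F]

/-- if `(q - 1)_2 ≤ n_2` then no `n`-th power is `-1` -/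
theorem pow_ne_neg_one (h2 : (2 : F) ≠ 0) (n : ℕ) (hn0 : n ≠ 0)
    (hv : padicValNat 2 (Fintype.card F - 1) ≤ padicValNat 2 n) (μ : F) : μ ^ n ≠ -1 := by
  intro hμ
  have hq1 : Fintype.card F - 1 ≠ 0 := by
    have := Fintype.one_lt_card (α := F)
    omega
  have hμ0 : μ ≠ 0 := by
    rintro rfl
    rw [zero_pow hn0] at hμ
    have : (1 : F) = 0 := by
      have := congrArg (fun t => -t) hμ
      simpa using this.symm
    exact one_ne_zero this
  have h1 : μ ^ n = 1 := by
    apply pow_half_eq_one h2 μ (Fintype.card F - 1) n hq1 hn0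
      (FiniteField.pow_card_sub_one_eq_one μ hμ0)
    · rw [mul_comm, pow_mul, hμ]
      norm_num
    · rw [padicValNat.mul (by norm_num) hq1, padicValNat.mul (by norm_num) hn0]
      omega
  rw [h1] at hμ
  have : (2 : F) = 0 := by
    have h5 : (1 : F) + 1 = 0 := by
      nth_rewrite 1 [hμ]
      exact neg_add_cancel 1
    rw [← h5]
    norm_num
  exact h2 this

/-- if `n_2 < (q - 1)_2` then `-1` is an `n`-th power -/
theorem exists_pow_eq_neg_one (h2 : (2 : F) ≠ 0) (n : ℕ) (hn0 : n ≠ 0)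
    (hv : padicValNat 2 n < padicValNat 2 (Fintype.card F - 1)) : ∃ μ : F, μ ^ n = -1 := by
  have hchar := ringChar_ne_two_of_two_ne_zero h2
  have hq1 : Fintype.card F - 1 ≠ 0 := by
    have := Fintype.one_lt_card (α := F)
    omega
  obtain ⟨a, q', hq'odd, hqa⟩ := Nat.exists_eq_two_pow_mul_odd hq1
  obtain ⟨b, n', hn'odd, hnb⟩ := Nat.exists_eq_two_pow_mul_odd hn0
  have hva : padicValNat 2 (Fintype.card F - 1) = a := by
    rw [hqa, padicValNat.mul (by positivity) (by rintro rfl; simp at hq'odd),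
      padicValNat.prime_pow, padicValNat.eq_zero_of_not_dvd (by
        rw [Nat.two_dvd_ne_zero]; exact Nat.odd_iff.1 hq'odd), add_zero]
  have hvb : padicValNat 2 n = b := by
    rw [hnb, padicValNat.mul (by positivity) (by rintro rfl; simp at hn'odd),
      padicValNat.prime_pow, padicValNat.eq_zero_of_not_dvd (by
        rw [Nat.two_dvd_ne_zero]; exact Nat.odd_iff.1 hn'odd), add_zero]
  rw [hva, hvb] at hv
  obtain ⟨t, ht⟩ := FiniteField.exists_nonsquare hchar
  have ht0 : t ≠ 0 := by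
    rintro rfl
    exact ht ⟨0, by simp⟩
  have ht1 : t ^ (Fintype.card F / 2) = -1 := by
    rcases FiniteField.pow_dichotomy hchar ht0 with h | h
    · exact absurd ((FiniteField.isSquare_iff hchar ht0).2 h) ht
    · exact h
  have ha1 : 1 ≤ a := by omega
  have hhalf : Fintype.card F / 2 = 2 ^ (a - 1) * q' := by
    have : (2 : ℕ) ^ a = 2 * 2 ^ (a - 1) := by
      rw [← pow_succ']
      congr 1
      omega
    rw [this] at hqa
    have h5 : Fintype.card F = 2 * (2 ^ (a - 1) * q') + 1 := by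
      have := Fintype.one_lt_card (α := F)
      rw [← mul_assoc, ← hqa]
      omega
    omega
  refine ⟨t ^ (2 ^ (a - 1 - b) * q'), ?_⟩
  rw [← pow_mul, hnb]
  have : 2 ^ (a - 1 - b) * q' * (2 ^ b * n') = (2 ^ (a - 1) * q') * n' := by
    have h3 : (2 : ℕ) ^ (a - 1) = 2 ^ (a - 1 - b) * 2 ^ b := by
      rw [← pow_add]
      congr 1
      omega
    rw [h3]
    ring
  rw [this, pow_mul, ← hhalf, ht1, hn'odd.neg_one_pow]

end arith

section derange

universe v

variable {F : Type v} [Field F] {n : ℕ}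

/-- a scalar multiple of a reflection is not conjugate into the similarity group of a symplectic
form in dimension at least three -/
theorem not_conj_reflection (h2 : (2 : F) ≠ 0) (hn : 3 ≤ n)
    (f : (Fin n → F) → (Fin n → F) → F) (hf : Cfsg.Geo.IsSymplecticForm f)
    (x : Matrix.SpecialLinearGroup (Fin n) F) (μ : F) (i₀ : Fin n)
    (hx : (x : Matrix (Fin n) (Fin n) F) =
      μ • Matrix.diagonal (Function.update (1 : Fin n → F) i₀ (-1)))
    (P : Matrix.SpecialLinearGroup (Fin n) F) :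
    P⁻¹ * x * P ∉ ((Cfsg.Geo.similarityGroup f).comap
      (Matrix.SpecialLinearGroup.toGL : Matrix.SpecialLinearGroup (Fin n) F →* GL (Fin n) F)) := by
  classical
  intro hmem
  rw [Subgroup.mem_comap] at hmem
  obtain ⟨c, hc⟩ := hmem
  have hc' : ∀ u v, f (((P⁻¹ * x * P : Matrix.SpecialLinearGroup (Fin n) F) :
      Matrix (Fin n) (Fin n) F) *ᵥ u) (((P⁻¹ * x * P : Matrix.SpecialLinearGroup (Fin n) F) :
      Matrix (Fin n) (Fin n) F) *ᵥ v) = (c : F) * f u v := hc
  set Pm : Matrix (Fin n) (Fin n) F := (P : Matrix (Fin n) (Fin n) F) with hPm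
  set Pi' : Matrix (Fin n) (Fin n) F := ((P⁻¹ : Matrix.SpecialLinearGroup (Fin n) F) :
    Matrix (Fin n) (Fin n) F) with hPi'
  have hPiP : Pi' * Pm = 1 := by
    rw [hPi', hPm, ← Matrix.SpecialLinearGroup.coe_mul, inv_mul_cancel,
      Matrix.SpecialLinearGroup.coe_one]
  have hPPi : Pm * Pi' = 1 := by
    rw [hPi', hPm, ← Matrix.SpecialLinearGroup.coe_mul, mul_inv_cancel,
      Matrix.SpecialLinearGroup.coe_one]
  have hμ0 : μ ≠ 0 := by
    rintro rfl
    have h1 := x.2
    have : Nonempty (Fin n) := ⟨i₀⟩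
    rw [hx, zero_smul, Matrix.det_zero] at h1
    exact zero_ne_one h1
  set e₀ : Fin n → F := Pi.single i₀ 1 with he₀
  set u₀ : Fin n → F := Pi' *ᵥ e₀ with hu₀
  set a : (Fin n → F) →ₗ[F] F := (LinearMap.proj i₀).comp (Matrix.toLin' Pm) with ha
  have hav : ∀ w, a w = (Pm *ᵥ w) i₀ := fun w => rfl
  have hau₀ : a u₀ = 1 := by
    rw [hav, hu₀, Matrix.mulVec_mulVec, hPPi, Matrix.one_mulVec, he₀, Pi.single_eq_same]
  have hu₀0 : u₀ ≠ 0 := by
    intro h0
    rw [h0, map_zero] at hau₀
    exact zero_ne_one hau₀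
  -- the action of the conjugate
  have hXv : ∀ v : Fin n → F, (x : Matrix (Fin n) (Fin n) F) *ᵥ v =
      μ • (v - (2 * v i₀) • e₀) := by
    intro v
    rw [hx, Matrix.smul_mulVec]
    congr 1
    funext j
    rw [Matrix.mulVec_diagonal, Pi.sub_apply, Pi.smul_apply, he₀, smul_eq_mul]
    by_cases hj : j = i₀
    · subst hj
      rw [Function.update_self, Pi.single_eq_same]
      ring
    · rw [Function.update_of_ne hj, Pi.single_eq_of_ne hj, Pi.one_apply]
      ring
  have hgv : ∀ w : Fin n → F, ((P⁻¹ * x * P : Matrix.SpecialLinearGroup (Fin n) F) :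
      Matrix (Fin n) (Fin n) F) *ᵥ w = μ • (w - (2 * a w) • u₀) := by
    intro w
    rw [Matrix.SpecialLinearGroup.coe_mul, Matrix.SpecialLinearGroup.coe_mul,
      ← Matrix.mulVec_mulVec, ← Matrix.mulVec_mulVec, hXv, Matrix.mulVec_smul, Matrix.mulVec_sub,
      Matrix.mulVec_smul, Matrix.mulVec_mulVec, hPiP, Matrix.one_mulVec]
    rfl
  set φ : (Fin n → F) →ₗ[F] F := formOf f hf u₀ with hφ
  have hφv : ∀ w, φ w = f u₀ w := fun w => rfl
  -- a non-zero vector killed by `a` and `φ`
  have hker : LinearMap.ker (a.prod φ) ≠ ⊥ := by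
    apply LinearMap.ker_ne_bot_of_finrank_lt
    rw [Module.finrank_prod, Module.finrank_self, Module.finrank_fin_fun]
    omega
  obtain ⟨w', hw'mem, hw'0⟩ := Submodule.exists_mem_ne_zero_of_ne_bot hker
  have hmem := LinearMap.mem_ker.1 hw'mem
  have haw' : a w' = 0 := congrArg Prod.fst hmem
  have hφw' : φ w' = 0 := congrArg Prod.snd hmem
  have hgw' : ((P⁻¹ * x * P : Matrix.SpecialLinearGroup (Fin n) F) :
      Matrix (Fin n) (Fin n) F) *ᵥ w' = μ • w' := by
    rw [hgv, haw', mul_zero, zero_smul, sub_zero]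
  have hb := hf.bilinear
  -- the multiplier is `μ ^ 2`
  obtain ⟨⟨w, hw⟩, -⟩ := hf.nondegenerate w' hw'0
  have hcμ : (c : F) = μ * μ := by
    have h1 := hc' w w'
    rw [hgw', hgv, hb.smul_left, hb.smul_right] at h1
    have h3 : f (w - (2 * a w) • u₀) w' = f w w' := by
      have : w - (2 * a w) • u₀ = w + (-(2 * a w)) • u₀ := by
        rw [neg_smul, sub_eq_add_neg]
      rw [this, hb.add_left, hb.smul_left, ← hφv, hφw', mul_zero, add_zero]
    rw [h3] at h1
    have h4 : ((c : F) - μ * μ) * f w w' = 0 := by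
      rw [sub_mul, ← h1]
      ring
    rcases mul_eq_zero.1 h4 with h | h
    · exact sub_eq_zero.1 h
    · exact absurd h hw
  -- now `f u₀ ·` vanishes
  have hgu₀ : ((P⁻¹ * x * P : Matrix.SpecialLinearGroup (Fin n) F) :
      Matrix (Fin n) (Fin n) F) *ᵥ u₀ = (-μ) • u₀ := by
    rw [hgv, hau₀, mul_one, smul_sub, smul_smul]
    have : μ • u₀ - (μ * 2) • u₀ = (μ - μ * 2) • u₀ := by
      rw [sub_smul]
    rw [this]
    congr 1
    ring
  obtain ⟨-, ⟨v, hv⟩⟩ := hf.nondegenerate u₀ hu₀0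
  have h1 := hc' u₀ v
  rw [hgu₀, hgv, hb.smul_left, hb.smul_right, hcμ] at h1
  have h3 : f u₀ (v - (2 * a v) • u₀) = f u₀ v := by
    have : v - (2 * a v) • u₀ = v + (-(2 * a v)) • u₀ := by
      rw [neg_smul, sub_eq_add_neg]
    rw [this, hb.add_right, hb.smul_right, hf.alternating, mul_zero, add_zero]
  rw [h3] at h1
  have h4 : (2 * (μ * μ)) * f u₀ v = 0 := by
    linear_combination -h1
  rcases mul_eq_zero.1 h4 with h | h
  · rcases mul_eq_zero.1 h with h' | h'
    · exact h2 h'
    · exact hμ0 (mul_self_eq_zero.1 h')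
  · exact hv h

end derange

end Cfsg.Agent.Lib.Helper43_GSpConj
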