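import Mathlib
import Cfsg.Agent.Lib.Helper13_GUSpDefs
import Cfsg.Agent.Lib.Helper13_SympTrans
import Cfsg.Agent.Lib.Helper43_GSpConj
import Cfsg.Agent.Lib.Helper40_SpExistMatrix

/-!
# Conjugacy of quadratic field structures of unitary type under the symplectic group (for S5976)

`PB`: two skew-adjoint matrices with the same non-square scalar square are conjugate under
`Sp_2d(F)` (via the Cayley-type element `((1 + Δ) + 2θ) / (1 - Δ)` of norm one);
`PD1`: a symplectic transvection commutes with no matrix whose square is a non-square scalar.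
-/

set_option autoImplicit false

namespace Cfsg.Agent.Lib.Helper13_GUSpConj

open Matrix Polynomial Module Cfsg.Agent.Lib.Helper13_Symp Cfsg.Agent.Lib.Helper13_GUSpDefs

variable {F : Type*} [Field F]

section transvection

/-- powers of a symplectic transvection -/
theorem transvection_pow_mulVec (d : ℕ) (v : Fin d ⊕ Fin d → F) (n : ℕ) (x : Fin d ⊕ Fin d → F) :
    (Cfsg.sympTransvection d v (1 : F)) ^ n *ᵥ x = x + ((n : F) * Cfsg.sympForm d F x v) • v := by
  induction n generalizing x with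
  | zero => simp
  | succ n ih =>
    rw [pow_succ, ← Matrix.mulVec_mulVec, sympTransvection_mulVec, ih, sympForm_add_left,
      sympForm_smul_left, sympForm_self]
    rw [Nat.cast_succ]
    module

/-- PD1: a transvection commutes with no `θ` whose square is a non-square scalar -/
theorem PD1 [Fintype F] (p : ℕ) [Fact p.Prime] [CharP F p] (d : ℕ) (hd : 1 ≤ d)
    (Δ : F) (hΔ : ¬ IsSquare Δ) :
    ∃ A : Matrix (Fin d ⊕ Fin d) (Fin d ⊕ Fin d) F, A ∈ symplecticGroup (Fin d) F ∧ A ^ p = 1 ∧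
      ∀ θ : Matrix (Fin d ⊕ Fin d) (Fin d ⊕ Fin d) F,
        θ * θ = Δ • (1 : Matrix (Fin d ⊕ Fin d) (Fin d ⊕ Fin d) F) → A * θ ≠ θ * A := by
  classical
  set v : Fin d ⊕ Fin d → F := Pi.single (Sum.inl ⟨0, by omega⟩) 1 with hv
  have hv0 : v ≠ 0 := by
    intro h
    have := congrFun h (Sum.inl ⟨0, by omega⟩)
    simp [hv] at this
  refine ⟨Cfsg.sympTransvection d v 1, sympTransvection_mem d v 1, ?_, ?_⟩
  · apply Matrix.toLin'.injective
    apply LinearMap.ext
    intro x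
    rw [Matrix.toLin'_apply, transvection_pow_mulVec, CharP.cast_eq_zero F p, zero_mul, zero_smul,
      add_zero, Matrix.toLin'_one, LinearMap.id_apply]
  · intro θ hθ hcomm
    obtain ⟨w, hw⟩ := Cfsg.Agent.Lib.Helper13_SympTrans.exists_sympForm_ne_zero d hv0
    have hw' : Cfsg.sympForm d F w v ≠ 0 := by
      rw [sympForm_swap]
      exact neg_ne_zero.2 hw
    have h1 : Cfsg.sympTransvection d v 1 *ᵥ (θ *ᵥ w) = θ *ᵥ (Cfsg.sympTransvection d v 1 *ᵥ w) := by
      rw [Matrix.mulVec_mulVec, Matrix.mulVec_mulVec, hcomm]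
    rw [sympTransvection_mulVec, sympTransvection_mulVec, Matrix.mulVec_add, Matrix.mulVec_smul,
      one_mul, one_mul] at h1
    have h3 : Cfsg.sympForm d F (θ *ᵥ w) v • v = Cfsg.sympForm d F w v • θ *ᵥ v := add_left_cancel h1
    set l : F := (Cfsg.sympForm d F w v)⁻¹ * Cfsg.sympForm d F (θ *ᵥ w) v with hl
    have h4 : θ *ᵥ v = l • v := by
      rw [hl, mul_smul, h3, smul_smul, inv_mul_cancel₀ hw', one_smul]
    have h5 : Δ • v = (l * l) • v := by
      have : (θ * θ) *ᵥ v = (l * l) • v := by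
        rw [← Matrix.mulVec_mulVec, h4, Matrix.mulVec_smul, h4, smul_smul]
      rw [hθ, Matrix.smul_mulVec, Matrix.one_mulVec] at this
      exact this
    have h6 : Δ = l * l := by
      have := congrFun h5 (Sum.inl ⟨0, by omega⟩)
      simpa [hv] using this
    exact hΔ ⟨l, h6⟩

end transvection

section conj

variable [Fintype F]

/-- PB: two skew-adjoint matrices with the same non-square scalar square are conjugate under Sp -/
theorem PB (p : ℕ) [Fact p.Prime] [CharP F p] (h2 : (2 : F) ≠ 0) (d : ℕ) (Δ : F) (hΔ : ¬ IsSquare Δ)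
    (θ θ' : Matrix (Fin d ⊕ Fin d) (Fin d ⊕ Fin d) F)
    (hθ : θ * θ = Δ • (1 : Matrix (Fin d ⊕ Fin d) (Fin d ⊕ Fin d) F))
    (hθ' : θ' * θ' = Δ • (1 : Matrix (Fin d ⊕ Fin d) (Fin d ⊕ Fin d) F))
    (hs : IsSkew d θ) (hs' : IsSkew d θ') :
    ∃ P : Matrix (Fin d ⊕ Fin d) (Fin d ⊕ Fin d) F, P ∈ symplecticGroup (Fin d) F ∧ P * θ = θ' * P := by
  classical
  have hΔ0 : Δ ≠ 0 := by
    rintro rfl
    exact hΔ ⟨0, by simp⟩
  have hΔ1 : 1 - Δ ≠ 0 := by
    intro h
    apply hΔ
    exact ⟨1, by linear_combination -h⟩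
  set a : F := (1 + Δ) / (1 - Δ) with ha
  set b : F := 2 / (1 - Δ) with hb
  have hb0 : b ≠ 0 := div_ne_zero h2 hΔ1
  have hnorm : a * a - b * b * Δ = 1 := by
    rw [ha, hb]
    field_simp
    ring
  -- the norm one elements
  have hmemU : ∀ (η : Matrix (Fin d ⊕ Fin d) (Fin d ⊕ Fin d) F),
      η * η = Δ • (1 : Matrix (Fin d ⊕ Fin d) (Fin d ⊕ Fin d) F) → IsSkew d η →
      a • (1 : Matrix (Fin d ⊕ Fin d) (Fin d ⊕ Fin d) F) + b • η ∈ symplecticGroup (Fin d) F := by
    intro η hη hsη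
    apply mem_symplecticGroup_of_preserves
    intro x y
    have hηη : ∀ z, η *ᵥ (η *ᵥ z) = Δ • z := by
      intro z
      rw [Matrix.mulVec_mulVec, hη, Matrix.smul_mulVec, Matrix.one_mulVec]
    simp only [Matrix.add_mulVec, Matrix.smul_mulVec, Matrix.one_mulVec, sympForm_add_left,
      sympForm_add_right, sympForm_smul_left, sympForm_smul_right]
    have h_a : Cfsg.sympForm d F (η *ᵥ x) y = - Cfsg.sympForm d F x (η *ᵥ y) := hsη x y
    have h_b : Cfsg.sympForm d F (η *ᵥ x) (η *ᵥ y) = - (Δ * Cfsg.sympForm d F x y) := by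
      rw [hsη x (η *ᵥ y), hηη, sympForm_smul_right]
    linear_combination (Cfsg.sympForm d F x y) * hnorm + (a * b) * h_a + (b * b) * h_b
  have hssU : ∀ (η : Matrix (Fin d ⊕ Fin d) (Fin d ⊕ Fin d) F),
      η * η = Δ • (1 : Matrix (Fin d ⊕ Fin d) (Fin d ⊕ Fin d) F) →
      Module.End.IsSemisimple (Matrix.toLin' (a • (1 : Matrix (Fin d ⊕ Fin d) (Fin d ⊕ Fin d) F) + b • η) :
        Module.End F (Fin d ⊕ Fin d → F)) := by
    intro η hη
    have h1 := Cfsg.Agent.Lib.Helper43_GSpConj.isSemisimple_of_sq h2 η Δ hΔ0 hη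
    have h3 := h1.aeval (C a + C b * X)
    have h4 : aeval (Matrix.toLin' η : Module.End F (Fin d ⊕ Fin d → F)) (C a + C b * X) =
        Matrix.toLin' (a • (1 : Matrix (Fin d ⊕ Fin d) (Fin d ⊕ Fin d) F) + b • η) := by
      rw [map_add, map_mul, aeval_C, aeval_C, aeval_X, map_add, map_smul, map_smul, Matrix.toLin'_one,
        Algebra.algebraMap_eq_smul_one, Algebra.algebraMap_eq_smul_one, smul_mul_assoc, one_mul]
      rfl
    rw [h4] at h3
    exact h3
  set u : Matrix (Fin d ⊕ Fin d) (Fin d ⊕ Fin d) F :=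
    a • (1 : Matrix (Fin d ⊕ Fin d) (Fin d ⊕ Fin d) F) + b • θ with hu
  set u' : Matrix (Fin d ⊕ Fin d) (Fin d ⊕ Fin d) F :=
    a • (1 : Matrix (Fin d ⊕ Fin d) (Fin d ⊕ Fin d) F) + b • θ' with hu'
  -- equality of the characteristic polynomials
  have hchar : u.charpoly = u'.charpoly := by
    obtain ⟨j, hj, hc⟩ := Cfsg.Agent.Lib.Helper43_GSpConj.charpoly_of_sq_nonsquare θ Δ hθ hΔ
    obtain ⟨j', hj', hc'⟩ := Cfsg.Agent.Lib.Helper43_GSpConj.charpoly_of_sq_nonsquare θ' Δ hθ' hΔ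
    have hjj : j' = j := by omega
    rw [hjj] at hc'
    obtain ⟨ψ, hψ⟩ := Cfsg.Agent.Lib.Helper40_Semisimple.exists_conj_of_charpoly_eq (F := F)
      (Fintype.card (Fin d ⊕ Fin d))
      (Matrix.toLin' θ : Module.End F (Fin d ⊕ Fin d → F))
      (Matrix.toLin' θ' : Module.End F (Fin d ⊕ Fin d → F))
      (Module.finrank_fintype_fun_eq_card F)
      (Cfsg.Agent.Lib.Helper43_GSpConj.isSemisimple_of_sq h2 θ Δ hΔ0 hθ)
      (Cfsg.Agent.Lib.Helper43_GSpConj.isSemisimple_of_sq h2 θ' Δ hΔ0 hθ')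
      (by rw [Matrix.charpoly_toLin', Matrix.charpoly_toLin', hc, hc'])
    have h1 : ψ.conj (Matrix.toLin' u : Module.End F (Fin d ⊕ Fin d → F)) = Matrix.toLin' u' := by
      apply LinearMap.ext
      intro x
      have h5 := hψ (ψ.symm x)
      rw [Matrix.toLin'_apply, Matrix.toLin'_apply, LinearEquiv.apply_symm_apply] at h5
      rw [LinearEquiv.conj_apply_apply, Matrix.toLin'_apply, Matrix.toLin'_apply, hu, hu',
        Matrix.add_mulVec, Matrix.smul_mulVec, Matrix.one_mulVec, Matrix.smul_mulVec, map_add,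
        map_smul, map_smul, LinearEquiv.apply_symm_apply, h5, Matrix.add_mulVec, Matrix.smul_mulVec,
        Matrix.one_mulVec, Matrix.smul_mulVec]
    rw [← Matrix.charpoly_toLin' u, ← Matrix.charpoly_toLin' u', ← h1, LinearEquiv.charpoly_conj]
  -- conjugacy in the symplectic group
  let g : symplecticGroup (Fin d) F := ⟨u, hmemU θ hθ hs⟩
  let g' : symplecticGroup (Fin d) F := ⟨u', hmemU θ' hθ' hs'⟩
  have hfin : Finite (symplecticGroup (Fin d) F) := by
    have : Finite (Matrix (Fin d ⊕ Fin d) (Fin d ⊕ Fin d) F) := by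
      unfold Matrix
      infer_instance
    exact Finite.of_injective _ Subtype.val_injective
  have hcop : ∀ k : symplecticGroup (Fin d) F,
      Module.End.IsSemisimple (Matrix.toLin' (k : Matrix (Fin d ⊕ Fin d) (Fin d ⊕ Fin d) F) :
        Module.End F (Fin d ⊕ Fin d → F)) → (orderOf k).Coprime p := by
    intro k hk
    exact Cfsg.Agent.Lib.Helper40_SpExistMatrix.coprime_of_isSemisimple
      (Submonoid.subtype (symplecticGroup (Fin d) F)) Subtype.val_injective p k (orderOf_pos k) hk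
  have hconj := Cfsg.Agent.Lib.Helper40_SpMatrix.sp_isConj_of_charpoly_eq p g g'
    (hcop g (hssU θ hθ)) (hcop g' (hssU θ' hθ')) hchar
  rw [isConj_iff] at hconj
  obtain ⟨P, hP⟩ := hconj
  refine ⟨(P : Matrix (Fin d ⊕ Fin d) (Fin d ⊕ Fin d) F), P.2, ?_⟩
  have h1 : P * g = g' * P := by rw [← hP]; group
  have h3 : (P : Matrix (Fin d ⊕ Fin d) (Fin d ⊕ Fin d) F) * u = u' * (P : Matrix (Fin d ⊕ Fin d) (Fin d ⊕ Fin d) F) :=
    congrArg Subtype.val h1
  rw [hu, hu', mul_add, add_mul, mul_smul_comm, mul_one, smul_mul_assoc, one_mul, mul_smul_comm,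
    smul_mul_assoc] at h3
  have h4 := add_left_cancel h3
  exact smul_right_injective _ hb0 h4

end conj

end Cfsg.Agent.Lib.Helper13_GUSpConj
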