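import Mathlib
import Cfsg.Agent.Lib.Helper94_Symp
import Cfsg.Agent.Lib.Helper94_OrthSmall
import Cfsg.Agent.Lib.Helper94_OrthSiegel
import Cfsg.Agent.Lib.Helper94_OrthPara

set_option autoImplicit false

/-!
The exclusion hypothesis of `Helper94_OrthPara.maximal_stab_ts` in a space without totally
singular subspaces of half the dimension (minus type).
-/

namespace Cfsg.Agent.Lib.Helper94_OrthPara2

open Module Cfsg.Agent.Lib.Helper94_Symp Cfsg.Agent.Lib.Helper94_OrthSmall
  Cfsg.Agent.Lib.Helper94_OrthSiegel Cfsg.Agent.Lib.Helper94_OrthPara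

variable {F V : Type*} [Field F] [AddCommGroup V] [Module F V]

variable [FiniteDimensional F V] (Q : V → F) (B : LinearMap.BilinForm F V)
  (hQs : ∀ (c : F) (v : V), Q (c • v) = c * c * Q v)
  (hQp : ∀ u v : V, Q (u + v) = Q u + Q v + B u v)

include hQs hQp in
lemma hex_of_no_half (hN : B.Nondegenerate) (W : Submodule F V) (hW : ∀ w ∈ W, Q w = 0)
    (hno : ∀ U : Submodule F V, (∀ u ∈ U, Q u = 0) → 2 * finrank F U ≠ finrank F V) :
    ∀ y y', y ∈ B.orthogonal W → y' ∈ B.orthogonal W → Q y = 0 → Q y' = 0 → B y y' ≠ 0 →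
      ∃ d ∈ B.orthogonal W, B d y = 0 ∧ B d y' = 0 ∧ Q d ≠ 0 := by
  by_cases hd : finrank F V = 2 * finrank F W + 2
  · intro y y' hy hy' hQy _ hyy'
    exfalso
    have hynW : y ∉ W := by
      intro h
      exact hyy' ((mem_orth B).mp hy' y h)
    have hts : ∀ u ∈ W ⊔ Submodule.span F {y}, Q u = 0 := by
      intro u hu
      obtain ⟨w, hw, v, hv, rfl⟩ := Submodule.mem_sup.mp hu
      obtain ⟨c, rfl⟩ := Submodule.mem_span_singleton.mp hv
      rw [Q_add_smul Q B hQs hQp, hW w hw, hQy, (mem_orth B).mp hy w hw]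
      ring
    have hlt : W < W ⊔ Submodule.span F {y} := by
      refine lt_of_le_of_ne le_sup_left ?_
      intro heq
      apply hynW
      rw [heq]
      exact Submodule.mem_sup_right (Submodule.mem_span_singleton_self y)
    have h1 := Submodule.finrank_lt_finrank_of_lt hlt
    have h2 := Submodule.finrank_add_le_finrank_add_finrank W (Submodule.span F {y})
    have h3 : finrank F (Submodule.span F ({y} : Set V)) ≤ 1 := by
      classical
      have h6 := finrank_span_finset_le_card (R := F) ({y} : Finset V)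
      have h7' : (({y} : Finset V) : Set V) = {y} := by simp
      rw [h7', Set.finrank] at h6
      simpa using h6
    apply hno _ hts
    omega
  · exact hex_of_dim Q B hQs hQp hN W hW hd

end Cfsg.Agent.Lib.Helper94_OrthPara2
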