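import Mathlib
import Cfsg.Prelude.Def_GeometricClasses
import Cfsg.Agent.Lib.Helper94_Bridge
import Cfsg.Agent.Lib.Helper94_OrthSmall
import Cfsg.Agent.Lib.Helper94_OrthBridge
import Cfsg.Agent.Lib.Helper94_OrthSiegel
import Cfsg.Agent.Lib.Helper94_OrthSiegel2
import Cfsg.Agent.Lib.Helper94_OrthPara
import Cfsg.Agent.Lib.Helper94_OrthPara2
import Cfsg.Agent.Lib.Helper94_OrthVec
import Cfsg.Agent.Lib.Helper94_OrthSiegelBridge
import Cfsg.Agent.Lib.Helper94_OrthGenBridge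
import Cfsg.Agent.Lib.Helper14_Siegel
import Cfsg.Agent.Lib.Helper14_SiegelOmega

set_option autoImplicit false

/-!
Maximality statements in prelude vocabulary for `Ω(Q) = [O(Q), O(Q)]`, `Q` a non-degenerate
quadratic form on `ι → F` over a finite field: stabilisers of totally singular subspaces and (in
characteristic two) of nonsingular vectors.  The statement `[O, O] ≤ ⟨Siegel⟩` in characteristic
two is taken as a hypothesis `hc2` (to be supplied from helper14's library).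
-/

namespace Cfsg.Agent.Lib.Helper94_OrthFinal

open Matrix Module Cfsg.Agent.Lib.Helper94_Symp Cfsg.Agent.Lib.Helper94_Bridge
  Cfsg.Agent.Lib.Helper94_OrthSmall Cfsg.Agent.Lib.Helper94_OrthBridge
  Cfsg.Agent.Lib.Helper94_OrthSiegel Cfsg.Agent.Lib.Helper94_OrthSiegel2
  Cfsg.Agent.Lib.Helper94_OrthPara Cfsg.Agent.Lib.Helper94_OrthPara2
  Cfsg.Agent.Lib.Helper94_OrthVec Cfsg.Agent.Lib.Helper94_OrthSiegelBridge
  Cfsg.Agent.Lib.Helper94_OrthGenBridge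
  Cfsg.Agent.Lib.Helper14_Siegel Cfsg.Agent.Lib.Helper14_SiegelOmega

variable {ι : Type} [Fintype ι] [DecidableEq ι] {F : Type*} [Field F] [Fintype F]

section

variable (Q : (ι → F) → F) (hQ : Cfsg.Geo.IsNondegenerateQuadraticForm Q)

/-- `[O, O]` is generated by Siegel elements. -/
theorem gen_hG3
    (hc2 : (2 : F) = 0 →
      commutator ↥(Cfsg.isometryGroup F (⇑(qfOf Q hQ))) ≤ siegelGroup (qfOf Q hQ))
    (hn : 5 ≤ Fintype.card ι) (M : Subgroup ((ι → F) ≃ₗ[F] (ι → F)))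
    (hM : ∀ u z, Q u = 0 → polarForm Q hQ u z = 0 → sieg Q (polarForm Q hQ) u z ∈ M) :
    ⁅oG Q, oG Q⁆ ≤ M := by
  apply commutator_le_of_siegelGroup Q hQ _ M hM
  by_cases h2 : (2 : F) = 0
  · exact hc2 h2
  · exact commutator_le_siegelGroup h2 (qfOf Q hQ) (polarBilin_qfOf_nondeg Q hQ) hn

theorem ts_maximal
    (hc2 : (2 : F) = 0 →
      commutator ↥(Cfsg.isometryGroup F (⇑(qfOf Q hQ))) ≤ siegelGroup (qfOf Q hQ))
    (hn : 7 ≤ Fintype.card ι) (W : Submodule F (ι → F)) (hW0 : W ≠ ⊥)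
    (hW : Cfsg.Geo.IsTotallySingularQuad Q W)
    (hex : ∀ y y', y ∈ (polarForm Q hQ).orthogonal W → y' ∈ (polarForm Q hQ).orthogonal W →
      Q y = 0 → Q y' = 0 → polarForm Q hQ y y' ≠ 0 →
      ∃ d ∈ (polarForm Q hQ).orthogonal W,
        polarForm Q hQ d y = 0 ∧ polarForm Q hQ d y' = 0 ∧ Q d ≠ 0) :
    Cfsg.Geo.IsMaximalIn (Cfsg.Geo.omegaGL Q)
      (Cfsg.Geo.subspaceStabilizer W ⊓ Cfsg.Geo.omegaGL Q) := by
  have hfr : finrank F (ι → F) = Fintype.card ι := Module.finrank_pi F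
  rw [subspaceStabilizer_eq, omegaGL_eq, ← Subgroup.comap_inf]
  apply isMaximalIn_comap
  exact maximal_stab_ts Q (polarForm Q hQ) (gen_hQs Q hQ) (gen_hQp Q hQ) (gen_hN Q hQ) _
    (Subgroup.commutator_le_self _)
    (fun u z hu huz => sieg_mem_commutator' Q _ (gen_hQs Q hQ) (gen_hQp Q hQ) (gen_hN Q hQ)
      (by rw [hfr]; exact hn) hu huz)
    (gen_hG3 Q hQ hc2 (by omega)) (by rw [hfr]; omega) W hW0 hW hex

theorem ts_maximal_of_dim
    (hc2 : (2 : F) = 0 →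
      commutator ↥(Cfsg.isometryGroup F (⇑(qfOf Q hQ))) ≤ siegelGroup (qfOf Q hQ))
    (hn : 7 ≤ Fintype.card ι) (W : Submodule F (ι → F)) (hW0 : W ≠ ⊥)
    (hW : Cfsg.Geo.IsTotallySingularQuad Q W)
    (hdim : Fintype.card ι ≠ 2 * finrank F W + 2) :
    Cfsg.Geo.IsMaximalIn (Cfsg.Geo.omegaGL Q)
      (Cfsg.Geo.subspaceStabilizer W ⊓ Cfsg.Geo.omegaGL Q) := by
  have hfr : finrank F (ι → F) = Fintype.card ι := Module.finrank_pi F
  apply ts_maximal Q hQ hc2 hn W hW0 hW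
  exact hex_of_dim Q _ (gen_hQs Q hQ) (gen_hQp Q hQ) (gen_hN Q hQ) W hW (by rw [hfr]; exact hdim)

theorem ts_maximal_of_minus
    (hc2 : (2 : F) = 0 →
      commutator ↥(Cfsg.isometryGroup F (⇑(qfOf Q hQ))) ≤ siegelGroup (qfOf Q hQ))
    (hn : 7 ≤ Fintype.card ι) (W : Submodule F (ι → F)) (hW0 : W ≠ ⊥)
    (hW : Cfsg.Geo.IsTotallySingularQuad Q W)
    (hminus : ¬ Cfsg.Geo.IsPlusTypeOn Q ⊤) :
    Cfsg.Geo.IsMaximalIn (Cfsg.Geo.omegaGL Q)
      (Cfsg.Geo.subspaceStabilizer W ⊓ Cfsg.Geo.omegaGL Q) := by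
  apply ts_maximal Q hQ hc2 hn W hW0 hW
  apply hex_of_no_half Q _ (gen_hQs Q hQ) (gen_hQp Q hQ) (gen_hN Q hQ) W hW
  intro U hU h2
  apply hminus
  exact ⟨U, le_top, hU, by rw [h2, finrank_top]⟩

theorem nonsing_maximal
    (hc2 : (2 : F) = 0 →
      commutator ↥(Cfsg.isometryGroup F (⇑(qfOf Q hQ))) ≤ siegelGroup (qfOf Q hQ))
    (hn : 8 ≤ Fintype.card ι) (h2 : (2 : F) = 0) (v : ι → F) (hv : Q v ≠ 0) :
    Cfsg.Geo.IsMaximalIn (Cfsg.Geo.omegaGL Q)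
      (Cfsg.Geo.subspaceStabilizer (Submodule.span F {v}) ⊓ Cfsg.Geo.omegaGL Q) := by
  have hfr : finrank F (ι → F) = Fintype.card ι := Module.finrank_pi F
  rw [subspaceStabilizer_eq, omegaGL_eq, ← Subgroup.comap_inf]
  apply isMaximalIn_comap
  exact maximal_stab_nonsing Q (polarForm Q hQ) (gen_hQs Q hQ) (gen_hQp Q hQ) h2 (gen_hN Q hQ) _
    (Subgroup.commutator_le_self _)
    (fun u z hu huz => sieg_mem_commutator' Q _ (gen_hQs Q hQ) (gen_hQp Q hQ) (gen_hN Q hQ)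
      (by rw [hfr]; omega) hu huz)
    (gen_hG3 Q hQ hc2 (by omega)) (by rw [hfr]; exact hn) v hv

end

end Cfsg.Agent.Lib.Helper94_OrthFinal
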