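import Mathlib
import Cfsg.Prelude.Def_GeometricClasses
import Cfsg.Agent.Lib.Helper94_Bridge

set_option autoImplicit false
set_option linter.unusedSimpArgs false

/-!
The special linear group `Cfsg.Geo.specialLinear ι F ≤ GL ι F` seen inside `(ι → F) ≃ₗ[F] (ι → F)`:
it contains all transvections and is generated by them.
The generation statement for elementary transvections follows the proof in
`Cfsg/Agent/Lib/Helper5_SLGen.lean` (helper5), reproduced here to keep this file self-contained.
-/

namespace Cfsg.Agent.Lib.Helper94_SLBridge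

open Matrix Matrix.SpecialLinearGroup Cfsg.Agent.Lib.Helper94_Bridge

variable {F : Type*} [Field F] {ι : Type} [DecidableEq ι] [Fintype ι]

omit [Fintype ι] in
lemma diag_eq_single {i j : ι} (hij : i ≠ j) (a b : F) :
    diagonal (fun k ↦ if k = i then a else if k = j then b else 1) =
      (1 : Matrix ι ι F) + Matrix.single i i (a - 1) + Matrix.single j j (b - 1) := by
  ext k l
  simp only [diagonal_apply, Matrix.add_apply, one_apply, single_apply]
  grind

omit [Fintype ι] in
lemma single_eq_smul (i j : ι) (c : F) : Matrix.single i j c = c • Matrix.single i j (1 : F) := by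
  rw [Matrix.smul_single, smul_eq_mul, mul_one]

/-- The diagonal element `diag2n` is a product of six transvections. -/
lemma diag2n_eq_prod {i j : ι} (hij : i ≠ j) (a : F) (ha : a ≠ 0) :
    diag2n hij a ha = transvection hij a * transvection hij.symm (-a⁻¹) * transvection hij a *
      transvection hij (-1) * transvection hij.symm 1 * transvection hij (-1) := by
  apply Subtype.ext
  simp only [coe_mul, transvection_coe, diag2n_coe]
  rw [diag_eq_single hij]
  simp only [Matrix.transvection, mul_add, add_mul, mul_one, one_mul, single_mul_single_same,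
    single_mul_single_of_ne _ _ _ _ hij, single_mul_single_of_ne _ _ _ _ hij.symm,
    zero_mul, add_zero, zero_add, mul_neg, neg_mul, mul_one, neg_neg, mul_inv_cancel₀ ha,
    inv_mul_cancel₀ ha, one_mul]
  rw [single_eq_smul i i (a - 1), single_eq_smul j j (a⁻¹ - 1), single_eq_smul i j a,
    single_eq_smul j i (-a⁻¹), single_eq_smul i i (-1), single_eq_smul j j (-1),
    single_eq_smul i j (-1), single_eq_smul j j (a⁻¹), single_eq_smul i i a,
    single_eq_smul i j (-a), single_eq_smul j j (-a⁻¹), single_eq_smul j i (a⁻¹),
    single_eq_smul i i (-a), single_eq_smul j i (-1)]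
  module

/-- `SL ι F` is generated by elementary transvections: induction principle. -/
theorem transvection_induction [Nontrivial ι] (P : SpecialLinearGroup ι F → Prop)
    (htransvec : ∀ (i j : ι) (hij : i ≠ j) (c : F), P (transvection hij c))
    (hmul : ∀ A B, P A → P B → P (A * B)) (A : SpecialLinearGroup ι F) : P A := by
  refine diagonal_transvection_induction' P A (fun i j hij c hc ↦ ?_) htransvec hmul
  rw [diag2n_eq_prod hij c hc]
  refine hmul _ _ (hmul _ _ (hmul _ _ (hmul _ _ (hmul _ _ ?_ ?_) ?_) ?_) ?_) ?_
  all_goals exact htransvec _ _ _ _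

lemma comap_symm_comap {G G' : Type*} [Group G] [Group G'] (e : G ≃* G') (H : Subgroup G) :
    (H.comap e.symm.toMonoidHom).comap e.toMonoidHom = H := by
  ext g
  simp

lemma det_glEquiv (g : GL ι F) :
    LinearEquiv.det (glEquiv ι F g) = Matrix.GeneralLinearGroup.det g := by
  apply Units.ext
  rw [LinearEquiv.coe_det, Matrix.GeneralLinearGroup.val_det_apply]
  have : ((glEquiv ι F g : (ι → F) ≃ₗ[F] (ι → F)) : (ι → F) →ₗ[F] (ι → F)) =
      Matrix.toLin' (g : Matrix ι ι F) := by
    refine LinearMap.ext fun x => ?_
    rw [LinearEquiv.coe_coe, glEquiv_apply, Matrix.toLin'_apply]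
  rw [this, LinearMap.det_toLin']

/-- The special linear group, inside the group of linear automorphisms of `ι → F`. -/
noncomputable def slK (ι : Type) [DecidableEq ι] [Fintype ι] (F : Type*) [Field F] :
    Subgroup ((ι → F) ≃ₗ[F] (ι → F)) :=
  (Cfsg.Geo.specialLinear ι F).comap (glEquiv ι F).symm.toMonoidHom

lemma specialLinear_eq : Cfsg.Geo.specialLinear ι F = (slK ι F).comap (glEquiv ι F).toMonoidHom :=
  (comap_symm_comap (glEquiv ι F) _).symm

lemma mem_slK (g : (ι → F) ≃ₗ[F] (ι → F)) : g ∈ slK ι F ↔ LinearEquiv.det g = 1 := by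
  have h := det_glEquiv ((glEquiv ι F).symm g)
  rw [MulEquiv.apply_symm_apply] at h
  rw [h]
  simp [slK, Cfsg.Geo.specialLinear, MonoidHom.mem_ker]

lemma transvection_mem_slK (φ : Module.Dual F (ι → F)) (v : ι → F) (h : φ v = 0) :
    LinearEquiv.transvection h ∈ slK ι F := by
  rw [mem_slK]
  exact LinearEquiv.transvection.det_eq_one h

theorem slK_le_of_transvections [Nontrivial ι] (M : Subgroup ((ι → F) ≃ₗ[F] (ι → F)))
    (hM : ∀ (φ : Module.Dual F (ι → F)) (v : ι → F) (h : φ v = 0), LinearEquiv.transvection h ∈ M) :
    slK ι F ≤ M := by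
  intro g hg
  have hdet : Matrix.GeneralLinearGroup.det ((glEquiv ι F).symm g) = 1 := by
    simpa [slK, Cfsg.Geo.specialLinear, MonoidHom.mem_ker] using hg
  have hdet' : (((glEquiv ι F).symm g : GL ι F) : Matrix ι ι F).det = 1 := by
    rw [← Matrix.GeneralLinearGroup.val_det_apply, hdet]; rfl
  let A : SpecialLinearGroup ι F := ⟨(((glEquiv ι F).symm g : GL ι F) : Matrix ι ι F), hdet'⟩
  have key : ∀ A : SpecialLinearGroup ι F, glEquiv ι F (SpecialLinearGroup.toGL A) ∈ M := by
    intro A
    refine transvection_induction (fun A => glEquiv ι F (SpecialLinearGroup.toGL A) ∈ M) ?_ ?_ A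
    · intro i j hij c
      have hφ : (c • (LinearMap.proj j : (ι → F) →ₗ[F] F)) (Pi.single i (1 : F)) = 0 := by
        simp [Pi.single_apply, hij.symm]
      have : glEquiv ι F (SpecialLinearGroup.toGL (transvection hij c)) =
          LinearEquiv.transvection hφ := by
        ext x k
        simp only [glEquiv_apply, coe_GL_coe_matrix, transvection_coe, Matrix.add_mulVec,
          Matrix.one_mulVec, Matrix.single_mulVec, Pi.add_apply, LinearEquiv.transvection.apply,
          LinearMap.smul_apply, LinearMap.proj_apply, smul_eq_mul, Pi.smul_apply,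
          Function.update_apply, Pi.zero_apply, Pi.single_apply]
        split_ifs <;> simp
      rw [this]
      exact hM _ _ _
    · intro A B hA hB
      simp only [map_mul]
      exact M.mul_mem hA hB
  have hgA : glEquiv ι F (SpecialLinearGroup.toGL A) = g := by
    have : SpecialLinearGroup.toGL A = (glEquiv ι F).symm g := by
      apply Units.ext
      rfl
    rw [this, MulEquiv.apply_symm_apply]
  rw [← hgA]
  exact key A

end Cfsg.Agent.Lib.Helper94_SLBridge
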