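import Mathlib
import Cfsg.Prelude.Def_GeometricClasses
import Cfsg.Agent.Lib.Helper94_Bridge
import Cfsg.Agent.Lib.Helper94_SLBridge
import Cfsg.Agent.Lib.Helper94_OrthBridge
import Cfsg.Agent.Lib.Helper94_OrthGenBridge
import Cfsg.Agent.Lib.Helper94_OrthFinal
import Cfsg.Agent.Lib.Helper94_OrthUni6

set_option autoImplicit false

/-!
Bridge for the normaliser of a quadratic extension field `K` of matrices, closed under adjoints
for the polar form of a quadratic form `Q` but not self-adjoint, all of whose elements rescale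
`Q`: a generator of `K` gives a quadratic field structure in the sense of `Helper94_OrthUni`, and
the normaliser of `K` is the group of maps semilinear for this structure.
-/

namespace Cfsg.Agent.Lib.Helper94_OrthUniBridge

open Matrix Module Cfsg.Agent.Lib.Helper94_Symp Cfsg.Agent.Lib.Helper94_Bridge
  Cfsg.Agent.Lib.Helper94_SLBridge
  Cfsg.Agent.Lib.Helper94_OrthSmall Cfsg.Agent.Lib.Helper94_OrthBridge
  Cfsg.Agent.Lib.Helper94_OrthSiegel Cfsg.Agent.Lib.Helper94_OrthSiegel2
  Cfsg.Agent.Lib.Helper94_OrthGenBridge Cfsg.Agent.Lib.Helper94_OrthFinal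
  Cfsg.Agent.Lib.Helper94_OrthUni

variable {ι : Type} [Fintype ι] [DecidableEq ι] {F : Type*} [Field F]

section Alg

variable (K : Subalgebra F (Matrix ι ι F)) (hK : Cfsg.Geo.IsFieldSubalgebra 2 K)

include hK in
/-- A generator of a quadratic field of matrices. -/
lemma exists_gen [Nonempty ι] :
    ∃ T ∈ K, (∀ c : F, T ≠ c • (1 : Matrix ι ι F)) ∧
    ∀ k ∈ K, ∃ a b : F, k = a • (1 : Matrix ι ι F) + b • T := by
  have hfd : Module.Finite F K := Module.finite_of_finrank_pos (by rw [hK.finrank_eq]; norm_num)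
  have h1 : ∃ t : K, ∀ c : F, t ≠ c • (1 : K) := by
    by_contra hcon
    push Not at hcon
    have := finrank_le_one (1 : K) (fun w => by obtain ⟨c, hc⟩ := hcon w; exact ⟨c, hc.symm⟩)
    rw [hK.finrank_eq] at this
    omega
  obtain ⟨t, ht⟩ := h1
  have hli : LinearIndependent F ![(1 : K), t] := by
    rw [LinearIndependent.pair_iff]
    intro a b hab
    by_cases hb : b = 0
    · subst hb
      rw [zero_smul, add_zero] at hab
      refine ⟨?_, rfl⟩
      by_contra ha
      have h2 : (1 : K) = 0 := by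
        have := congrArg (fun z => a⁻¹ • z) hab
        simp [smul_smul, inv_mul_cancel₀ ha] at this
      exact one_ne_zero h2
    · exfalso
      apply ht (-a / b)
      have h2 : b • t = -(a • (1 : K)) := eq_neg_of_add_eq_zero_right hab
      have h3 : t = b⁻¹ • (b • t) := by rw [smul_smul, inv_mul_cancel₀ hb, one_smul]
      rw [h3, h2, smul_neg, smul_smul, ← neg_smul]
      congr 1
      field_simp
  let bs := basisOfLinearIndependentOfCardEqFinrank hli (by rw [hK.finrank_eq]; simp)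
  have hbs : ⇑bs = ![(1 : K), t] := coe_basisOfLinearIndependentOfCardEqFinrank hli _
  refine ⟨t.1, t.2, ?_, ?_⟩
  · intro c hc
    apply ht c
    apply Subtype.ext
    rw [hc]
    simp
  · intro k hk
    have h2 := bs.sum_repr ⟨k, hk⟩
    rw [Fin.sum_univ_two, hbs] at h2
    refine ⟨bs.repr ⟨k, hk⟩ 0, bs.repr ⟨k, hk⟩ 1, ?_⟩
    have h3 := congrArg Subtype.val h2
    simp at h3
    exact h3.symm

/-- Independence of `1` and a non-scalar matrix. -/
lemma indep_one [Nonempty ι] {T : Matrix ι ι F} (hT : ∀ c : F, T ≠ c • (1 : Matrix ι ι F))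
    {a b : F} (h : a • (1 : Matrix ι ι F) + b • T = 0) : a = 0 ∧ b = 0 := by
  by_cases hb : b = 0
  · subst hb
    rw [zero_smul, add_zero] at h
    refine ⟨?_, rfl⟩
    by_contra ha
    have h2 : (1 : Matrix ι ι F) = 0 := by
      have := congrArg (fun z => a⁻¹ • z) h
      simp [smul_smul, inv_mul_cancel₀ ha] at this
    exact one_ne_zero h2
  · exfalso
    apply hT (-a / b)
    have h2 : b • T = -(a • (1 : Matrix ι ι F)) := eq_neg_of_add_eq_zero_right h
    have h3 : T = b⁻¹ • (b • T) := by rw [smul_smul, inv_mul_cancel₀ hb, one_smul]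
    rw [h3, h2, smul_neg, smul_smul, ← neg_smul]
    congr 1
    field_simp

include hK in
/-- A quadratic field of matrices has no zero divisors. -/
lemma eq_zero_of_mul {x z : Matrix ι ι F} (hx : x ∈ K) (hx0 : x ≠ 0) (h : x * z = 0) : z = 0 := by
  obtain ⟨y, hy, hxy⟩ := hK.inv x hx hx0
  have hyx : y * x = 1 := by rw [← hK.comm x hx y hy, hxy]
  calc z = (y * x) * z := by rw [hyx, one_mul]
    _ = y * (x * z) := by rw [mul_assoc]
    _ = 0 := by rw [h, mul_zero]

end Alg

section Str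

variable (Q : (ι → F) → F) (hQ : Cfsg.Geo.IsNondegenerateQuadraticForm Q)

/-- `k'` is an adjoint of `k` for the polar form. -/
def Adj (k k' : Matrix ι ι F) : Prop :=
  ∀ u v : ι → F, polarForm Q hQ (k *ᵥ u) v = polarForm Q hQ u (k' *ᵥ v)

variable {Q hQ}

lemma Adj.one : Adj Q hQ 1 1 := by
  intro u v
  rw [Matrix.one_mulVec, Matrix.one_mulVec]

lemma Adj.mul {k k' l l' : Matrix ι ι F} (h : Adj Q hQ k k') (h' : Adj Q hQ l l') :
    Adj Q hQ (k * l) (l' * k') := by
  intro u v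
  rw [← Matrix.mulVec_mulVec, ← Matrix.mulVec_mulVec, h, h']

lemma Adj.comb {k k' l l' : Matrix ι ι F} (h : Adj Q hQ k k') (h' : Adj Q hQ l l') (a b : F) :
    Adj Q hQ (a • k + b • l) (a • k' + b • l') := by
  intro u v
  rw [Matrix.add_mulVec, Matrix.add_mulVec, Matrix.smul_mulVec, Matrix.smul_mulVec,
    Matrix.smul_mulVec, Matrix.smul_mulVec]
  simp only [map_add, map_smul, LinearMap.add_apply, LinearMap.smul_apply, h u v, h' u v]

lemma Adj.unique {k k' k'' : Matrix ι ι F} (h : Adj Q hQ k k') (h' : Adj Q hQ k k'') :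
    k' = k'' := by
  apply Matrix.toLin'.injective
  refine LinearMap.ext fun v => ?_
  rw [Matrix.toLin'_apply, Matrix.toLin'_apply]
  have hN := gen_hN Q hQ
  have := hN.2 (k' *ᵥ v - k'' *ᵥ v) (fun u => by
    rw [map_sub, ← h u v, ← h' u v, sub_self])
  exact sub_eq_zero.mp this

lemma Adj.symm {k k' : Matrix ι ι F} (h : Adj Q hQ k k') : Adj Q hQ k' k := by
  intro u v
  have hsymm := B_symm Q (polarForm Q hQ) (gen_hQp Q hQ)
  rw [hsymm, ← h, hsymm]

end Str

section Main

variable (Q : (ι → F) → F) (hQ : Cfsg.Geo.IsNondegenerateQuadraticForm Q)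
  (K : Subalgebra F (Matrix ι ι F)) (hK : Cfsg.Geo.IsFieldSubalgebra 2 K)

include hK in
/-- The quadratic field structure attached to a generator of `K`. -/
theorem exists_ustr [Nonempty ι]
    (hac : Cfsg.Geo.IsAdjointClosedFor (QuadraticMap.polar Q) K)
    (hnsa : ¬ Cfsg.Geo.IsSelfAdjointFor (QuadraticMap.polar Q) K)
    (hsc : ∀ k ∈ K, ∃ c : F, ∀ v : ι → F, Q (k *ᵥ v) = c * Q v) :
    ∃ (T : Matrix ι ι F) (τ ν : F), T ∈ K ∧ (∀ c : F, T ≠ c • (1 : Matrix ι ι F)) ∧
      (∀ k ∈ K, ∃ a b : F, k = a • (1 : Matrix ι ι F) + b • T) ∧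
      UStr Q (polarForm Q hQ) (Matrix.toLin' T) τ ν := by
  obtain ⟨T, hTK, hTns, hgen⟩ := exists_gen K hK
  have hsymm := B_symm Q (polarForm Q hQ) (gen_hQp Q hQ)
  have hN := gen_hN Q hQ
  -- the minimal polynomial
  obtain ⟨a₀, τ, hTT₀⟩ := hgen (T * T) (K.mul_mem hTK hTK)
  obtain ⟨ν, hν⟩ : ∃ ν, ν = -a₀ := ⟨_, rfl⟩
  have hTT : T * T = τ • T - ν • (1 : Matrix ι ι F) := by
    rw [hTT₀, hν]; module
  -- the adjoint
  obtain ⟨P, hPK, hP⟩ := hac T hTK
  have hA : Adj Q hQ T P := hP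
  have hPP : P * P = τ • P - ν • (1 : Matrix ι ι F) := by
    have h1 : Adj Q hQ (T * T) (P * P) := hA.mul hA
    have h2 : Adj Q hQ (τ • T + (-ν) • (1 : Matrix ι ι F)) (τ • P + (-ν) • (1 : Matrix ι ι F)) :=
      hA.comb Adj.one τ (-ν)
    have e : T * T = τ • T + (-ν) • (1 : Matrix ι ι F) := by rw [hTT]; module
    rw [e] at h1
    rw [h1.unique h2]; module
  have hPT : P * T = T * P := hK.comm P hPK T hTK
  have hprod : (P - T) * (P + T - τ • (1 : Matrix ι ι F)) = 0 := by
    simp only [sub_mul, mul_sub, mul_add, mul_smul_comm, mul_one]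
    rw [hPP, hTT, hPT]
    module
  have hPne : P - T ≠ 0 := by
    intro h0
    have hPT' : P = T := sub_eq_zero.mp h0
    apply hnsa
    intro k hk u v
    obtain ⟨a, b, rfl⟩ := hgen k hk
    rw [hPT'] at hA
    exact (Adj.one.comb hA a b) u v
  have hPeq : P = τ • (1 : Matrix ι ι F) - T := by
    have := eq_zero_of_mul K hK (K.sub_mem hPK hTK) hPne hprod
    have h2 : P = (P + T - τ • (1 : Matrix ι ι F)) + (τ • (1 : Matrix ι ι F) - T) := by module
    rw [h2, this, zero_add]
  have hadj : ∀ x y : ι → F, polarForm Q hQ (T *ᵥ x) y =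
      τ * polarForm Q hQ x y - polarForm Q hQ x (T *ᵥ y) := by
    intro x y
    rw [hA x y, hPeq, Matrix.sub_mulVec, Matrix.smul_mulVec, Matrix.one_mulVec, map_sub, map_smul,
      smul_eq_mul]
  have hsq : ∀ x : ι → F, T *ᵥ (T *ᵥ x) = τ • (T *ᵥ x) - ν • x := by
    intro x
    rw [Matrix.mulVec_mulVec, hTT, Matrix.sub_mulVec, Matrix.smul_mulVec, Matrix.smul_mulVec,
      Matrix.one_mulVec]
  have hBTT : ∀ x y : ι → F, polarForm Q hQ (T *ᵥ x) (T *ᵥ y) = ν * polarForm Q hQ x y := by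
    intro x y
    rw [hadj, hsq, map_sub, map_smul, map_smul]
    simp only [smul_eq_mul]
    ring
  -- a nonzero value of the form
  obtain ⟨i⟩ := ‹Nonempty ι›
  have hu0 : (Pi.single i (1 : F) : ι → F) ≠ 0 := by
    intro h
    have := congrFun h i
    simp at this
  obtain ⟨v₀, hv₀⟩ : ∃ v₀, polarForm Q hQ (Pi.single i (1 : F)) v₀ ≠ 0 := by
    by_contra hcon
    push Not at hcon
    exact hu0 (hN.1 _ hcon)
  -- the scaling constants
  obtain ⟨c, hc⟩ := hsc T hTK
  have hcν : c = ν := by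
    have h1 : ∀ u v : ι → F, polarForm Q hQ (T *ᵥ u) (T *ᵥ v) = c * polarForm Q hQ u v := by
      intro u v
      rw [polarForm_apply, polarForm_apply, QuadraticMap.polar, QuadraticMap.polar,
        ← Matrix.mulVec_add, hc, hc, hc]
      ring
    have h2 := h1 (Pi.single i 1) v₀
    rw [hBTT] at h2
    exact (mul_right_cancel₀ hv₀ h2).symm
  obtain ⟨c₁, hc₁⟩ := hsc (1 + T) (K.add_mem K.one_mem hTK)
  have hBT₀ : ∀ v : ι → F, polarForm Q hQ v (T *ᵥ v) = (c₁ - 1 - ν) * Q v := by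
    intro v
    have := hc₁ v
    rw [Matrix.add_mulVec, Matrix.one_mulVec, gen_hQp Q hQ, hc, hcν] at this
    linear_combination this
  have hτ : c₁ - 1 - ν = τ := by
    have h1 : ∀ u v : ι → F, polarForm Q hQ u (T *ᵥ v) + polarForm Q hQ v (T *ᵥ u) =
        (c₁ - 1 - ν) * polarForm Q hQ u v := by
      intro u v
      have e1 := hBT₀ (u + v)
      rw [Matrix.mulVec_add, gen_hQp Q hQ] at e1
      simp only [map_add, LinearMap.add_apply, hBT₀ u, hBT₀ v] at e1
      linear_combination e1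
    have h2 := h1 (Pi.single i 1) v₀
    rw [hsymm v₀, hadj] at h2
    have h3 : τ * polarForm Q hQ (Pi.single i 1) v₀ =
        (c₁ - 1 - ν) * polarForm Q hQ (Pi.single i 1) v₀ := by linear_combination h2
    exact (mul_right_cancel₀ hv₀ h3).symm
  refine ⟨T, τ, ν, hTK, hTns, hgen, ?_⟩
  refine ⟨?_, ?_, ?_, ?_, ?_⟩
  · intro x
    simp only [Matrix.toLin'_apply]
    exact hsq x
  · intro x y
    simp only [Matrix.toLin'_apply]
    exact hadj x y
  · intro v
    rw [Matrix.toLin'_apply, hc, hcν]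
  · intro v
    rw [Matrix.toLin'_apply, hBT₀, hτ]
  · intro a b hab
    have hk : a • (1 : Matrix ι ι F) + b • T ∈ K :=
      K.add_mem (K.smul_mem K.one_mem a) (K.smul_mem hTK b)
    have hmul : (a • (1 : Matrix ι ι F) + b • T) * ((a + b * τ) • (1 : Matrix ι ι F) + (-b) • T) =
        (a * a + a * b * τ + b * b * ν) • (1 : Matrix ι ι F) := by
      simp only [add_mul, mul_add, smul_mul_assoc, mul_smul_comm, mul_one, one_mul, hTT]
      module
    rw [hab, zero_smul] at hmul
    by_cases hk0 : a • (1 : Matrix ι ι F) + b • T = 0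
    · exact indep_one hTns hk0
    · have h1 := eq_zero_of_mul K hK hk hk0 hmul
      obtain ⟨h2, h3⟩ := indep_one hTns h1
      have hb : b = 0 := neg_eq_zero.mp h3
      rw [hb] at h2
      exact ⟨by linear_combination h2, hb⟩


include hK in
/-- The normaliser of `K` consists of the matrices conjugating the generator into `K`. -/
lemma mem_normalizer_iff [Nonempty ι] {T : Matrix ι ι F} (hTK : T ∈ K)
    (hTns : ∀ c : F, T ≠ c • (1 : Matrix ι ι F))
    (hgen : ∀ k ∈ K, ∃ a b : F, k = a • (1 : Matrix ι ι F) + b • T) (g : GL ι F) :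
    g ∈ Cfsg.Geo.subalgebraNormalizer K ↔
      ∃ a b : F, (g : Matrix ι ι F) * T =
        (a • (1 : Matrix ι ι F) + b • T) * (g : Matrix ι ι F) := by
  obtain ⟨M, hM⟩ : ∃ M : Matrix ι ι F, M = (g : Matrix ι ι F) := ⟨_, rfl⟩
  obtain ⟨Mi, hMi⟩ : ∃ Mi : Matrix ι ι F, Mi = ((g⁻¹ : GL ι F) : Matrix ι ι F) := ⟨_, rfl⟩
  have hMMi : M * Mi = 1 := by rw [hM, hMi]; exact Units.mul_inv g
  have hMiM : Mi * M = 1 := by rw [hM, hMi]; exact Units.inv_mul g
  have hmem : g ∈ Cfsg.Geo.subalgebraNormalizer K ↔ ∀ k : Matrix ι ι F, k ∈ K ↔ M * k * Mi ∈ K := by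
    rw [hM, hMi]; rfl
  rw [hmem, ← hM]
  constructor
  · intro h
    obtain ⟨a, b, hab⟩ := hgen _ ((h T).mp hTK)
    refine ⟨a, b, ?_⟩
    rw [← hab, mul_assoc, hMiM, mul_one]
  · rintro ⟨a, b, hab⟩
    have hb : b ≠ 0 := by
      rintro rfl
      apply hTns a
      have h1 : Mi * (M * T) = T := by rw [← mul_assoc, hMiM, one_mul]
      rw [← h1, hab, zero_smul, add_zero, smul_mul_assoc, one_mul, mul_smul_comm, hMiM]
    have hconj : M * T * Mi = a • (1 : Matrix ι ι F) + b • T := by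
      rw [hab, mul_assoc, hMMi, mul_one]
    have hφK : a • (1 : Matrix ι ι F) + b • T ∈ K :=
      K.add_mem (K.smul_mem K.one_mem a) (K.smul_mem hTK b)
    intro k
    constructor
    · intro hk
      obtain ⟨c, d, rfl⟩ := hgen k hk
      have e : M * (c • (1 : Matrix ι ι F) + d • T) * Mi =
          c • (1 : Matrix ι ι F) + d • (a • (1 : Matrix ι ι F) + b • T) := by
        rw [mul_add, add_mul, mul_smul_comm, mul_one, smul_mul_assoc, hMMi, mul_smul_comm,
          smul_mul_assoc, hconj]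
      rw [e]
      exact K.add_mem (K.smul_mem K.one_mem c) (K.smul_mem hφK d)
    · intro hk
      obtain ⟨c, d, hcd⟩ := hgen _ hk
      have hk'K : c • (1 : Matrix ι ι F) + (d * b⁻¹) • (T - a • (1 : Matrix ι ι F)) ∈ K :=
        K.add_mem (K.smul_mem K.one_mem c)
          (K.smul_mem (K.sub_mem hTK (K.smul_mem K.one_mem a)) _)
      have e : M * (c • (1 : Matrix ι ι F) + (d * b⁻¹) • (T - a • (1 : Matrix ι ι F))) * Mi =
          M * k * Mi := by
        rw [hcd, mul_add, add_mul, mul_smul_comm, mul_one, smul_mul_assoc, hMMi, mul_smul_comm,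
          smul_mul_assoc, mul_sub, sub_mul, hconj, mul_smul_comm, mul_one, smul_mul_assoc, hMMi]
        have : (d * b⁻¹) • (a • (1 : Matrix ι ι F) + b • T - a • (1 : Matrix ι ι F)) =
            (d * (b⁻¹ * b)) • T := by module
        rw [this, inv_mul_cancel₀ hb, mul_one]
      have e2 : k = Mi * (M * k * Mi) * M := by
        rw [mul_assoc M k Mi, ← mul_assoc Mi M, hMiM, one_mul, mul_assoc, hMiM, mul_one]
      rw [e2, ← e, mul_assoc M _ Mi, ← mul_assoc Mi M, hMiM, one_mul, mul_assoc, hMiM, mul_one]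
      exact hk'K

include hK in
/-- **Maximality of the normaliser of a quadratic extension field** in `Ω(Q)`. -/
theorem ufield_maximal [Fintype F]
    (hc2 : (2 : F) = 0 →
      commutator ↥(Cfsg.isometryGroup F (⇑(qfOf Q hQ))) ≤
        Cfsg.Agent.Lib.Helper14_Siegel.siegelGroup (qfOf Q hQ))
    (hn : 13 ≤ Fintype.card ι)
    (hac : Cfsg.Geo.IsAdjointClosedFor (QuadraticMap.polar Q) K)
    (hnsa : ¬ Cfsg.Geo.IsSelfAdjointFor (QuadraticMap.polar Q) K)
    (hsc : ∀ k ∈ K, ∃ c : F, ∀ v : ι → F, Q (k *ᵥ v) = c * Q v) :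
    Cfsg.Geo.IsMaximalIn (Cfsg.Geo.omegaGL Q)
      (Cfsg.Geo.subalgebraNormalizer K ⊓ Cfsg.Geo.omegaGL Q) := by
  have hne : Nonempty ι := by
    rw [← Fintype.card_pos_iff]; omega
  have hfr : finrank F (ι → F) = Fintype.card ι := Module.finrank_pi F
  obtain ⟨T, τ, ν, hTK, hTns, hgen, U⟩ := exists_ustr Q hQ K hK hac hnsa hsc
  let S : Subgroup ((ι → F) ≃ₗ[F] (ι → F)) :=
    (Cfsg.Geo.subalgebraNormalizer K).comap (glEquiv ι F).symm.toMonoidHom
  have hSeq : Cfsg.Geo.subalgebraNormalizer K = S.comap (glEquiv ι F).toMonoidHom :=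
    (comap_symm_comap (glEquiv ι F) _).symm
  have hS : ∀ g, g ∈ S ↔ ∃ a b : F, ∀ x, g (Matrix.toLin' T x) =
      a • g x + b • Matrix.toLin' T (g x) := by
    intro g
    have key : ∀ y, g y = (((glEquiv ι F).symm g : GL ι F) : Matrix ι ι F) *ᵥ y := by
      intro y
      rw [← glEquiv_apply, MulEquiv.apply_symm_apply]
    have h1 : g ∈ S ↔ (glEquiv ι F).symm g ∈ Cfsg.Geo.subalgebraNormalizer K := Iff.rfl
    rw [h1, mem_normalizer_iff K hK hTK hTns hgen]
    constructor
    · rintro ⟨a, b, hab⟩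
      refine ⟨a, b, fun x => ?_⟩
      rw [key, key, Matrix.toLin'_apply, Matrix.toLin'_apply, Matrix.mulVec_mulVec, hab,
        ← Matrix.mulVec_mulVec, Matrix.add_mulVec, Matrix.smul_mulVec, Matrix.smul_mulVec,
        Matrix.one_mulVec]
    · rintro ⟨a, b, hab⟩
      refine ⟨a, b, ?_⟩
      apply Matrix.toLin'.injective
      refine LinearMap.ext fun x => ?_
      have := hab x
      rw [key, key, Matrix.toLin'_apply, Matrix.toLin'_apply] at this
      rw [Matrix.toLin'_apply, Matrix.toLin'_apply, ← Matrix.mulVec_mulVec, this,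
        ← Matrix.mulVec_mulVec, Matrix.add_mulVec, Matrix.smul_mulVec, Matrix.smul_mulVec,
        Matrix.one_mulVec]
  rw [hSeq, omegaGL_eq, ← Subgroup.comap_inf]
  apply isMaximalIn_comap
  exact maximal_ufield (gen_hQs Q hQ) (gen_hQp Q hQ) (gen_hN Q hQ) _
    (Subgroup.commutator_le_self _)
    (fun u z hu huz => sieg_mem_commutator' Q _ (gen_hQs Q hQ) (gen_hQp Q hQ) (gen_hN Q hQ)
      (by rw [hfr]; omega) hu huz)
    (gen_hG3 Q hQ hc2 (by omega)) (by rw [hfr]; exact hn) U S hS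

end Main

end Cfsg.Agent.Lib.Helper94_OrthUniBridge
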