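import Mathlib
import Cfsg.Prelude.Def_GeometricClasses
import Cfsg.Agent.Lib.Helper94_Bridge
import Cfsg.Agent.Lib.Helper94_SLBridge
import Cfsg.Agent.Lib.Helper94_OrthUniBridge
import Cfsg.Agent.Lib.Helper94_SpUni4

set_option autoImplicit false

/-!
Bridge for the normaliser in the symplectic group of a quadratic extension field `K` of matrices,
closed under adjoints for the alternating form but not self-adjoint: a generator of `K` gives a
quadratic field structure in the sense of `Helper94_SpUni`.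
-/

namespace Cfsg.Agent.Lib.Helper94_SpUniBridge

open Matrix Module Cfsg.Agent.Lib.Helper94_Symp Cfsg.Agent.Lib.Helper94_Bridge
  Cfsg.Agent.Lib.Helper94_SLBridge Cfsg.Agent.Lib.Helper94_OrthUni
  Cfsg.Agent.Lib.Helper94_OrthUniBridge Cfsg.Agent.Lib.Helper94_SpUni

section Abstract

variable {F V : Type*} [Field F] [AddCommGroup V] [Module F V]

/-- The structure `SpU` attached to an alternating form and a quadratic field structure. -/
theorem spU_of (B : LinearMap.BilinForm F V) (hB : B.IsAlt) (hN : B.Nondegenerate)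
    (θ : V →ₗ[F] V) (τ ν : F) (h2 : (2 : F) ≠ 0)
    (sq : ∀ x, θ (θ x) = τ • θ x - ν • x)
    (adj : ∀ x y, B (θ x) y = τ * B x y - B x (θ y))
    (aniso : ∀ a b : F, a * a + a * b * τ + b * b * ν = 0 → a = 0 ∧ b = 0) :
    SpU (fun x => B x (θ x)) ((2 : F) • B.compl₂ θ - τ • B) B θ τ ν := by
  have hPB : ∀ x y, ((2 : F) • B.compl₂ θ - τ • B) x y = 2 * B x (θ y) - τ * B x y := by
    intro x y
    simp [LinearMap.sub_apply, LinearMap.smul_apply, LinearMap.compl₂_apply]
  have hθθ : ∀ x y, B x (θ (θ y)) = τ * B x (θ y) - ν * B x y := by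
    intro x y
    rw [sq, map_sub, map_smul, map_smul, smul_eq_mul, smul_eq_mul]
  have hBθθ : ∀ x y, B (θ x) (θ y) = ν * B x y := by
    intro x y
    rw [adj, hθθ]; ring
  have hD : τ * τ - 4 * ν ≠ 0 := by
    intro h
    have := (aniso (-τ) 2 (by linear_combination -h)).2
    exact h2 this
  have hsymm : ∀ x y, ((2 : F) • B.compl₂ θ - τ • B) x y = ((2 : F) • B.compl₂ θ - τ • B) y x := by
    intro x y
    rw [hPB, hPB, alt_swap B hB y (θ x), adj, alt_swap B hB y x]
    ring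
  have hDB : ∀ x y, (τ * τ - 4 * ν) * B x y = 2 * ((2 : F) • B.compl₂ θ - τ • B) x (θ y) -
      τ * ((2 : F) • B.compl₂ θ - τ • B) x y := by
    intro x y
    rw [hPB, hPB, hθθ]; ring
  have hleft : ∀ x, (∀ y, ((2 : F) • B.compl₂ θ - τ • B) x y = 0) → x = 0 := by
    intro x hx
    apply hN.1 x
    intro y
    have := hDB x y
    rw [hx, hx] at this
    have h0 : (τ * τ - 4 * ν) * B x y = 0 := by rw [this]; ring
    exact (mul_eq_zero.mp h0).resolve_left hD
  refine ⟨⟨sq, ?_, ?_, ?_, aniso⟩, ?_, ?_, hB, hPB, fun _ => rfl, adj, h2, ⟨hleft, ?_⟩, hN⟩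
  · intro x y
    rw [hPB, hPB, hPB, hBθθ, adj, hθθ]; ring
  · intro v
    show B (θ v) (θ (θ v)) = ν * B v (θ v)
    rw [hBθθ]
  · intro v
    show ((2 : F) • B.compl₂ θ - τ • B) v (θ v) = τ * B v (θ v)
    rw [hPB, hθθ, hB v]; ring
  · intro c v
    show B (c • v) (θ (c • v)) = c * c * B v (θ v)
    rw [map_smul, map_smul, map_smul, LinearMap.smul_apply, smul_eq_mul, smul_eq_mul]
    ring
  · intro u v
    show B (u + v) (θ (u + v)) = B u (θ u) + B v (θ v) + ((2 : F) • B.compl₂ θ - τ • B) u v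
    rw [hPB, map_add, map_add, map_add, LinearMap.add_apply, LinearMap.add_apply,
      alt_swap B hB v (θ u), adj]
    ring
  · intro y hy
    apply hleft y
    intro x
    rw [hsymm]; exact hy x

end Abstract

variable {ι : Type} [Fintype ι] [DecidableEq ι] {F : Type*} [Field F]

section Str

variable (Bf : LinearMap.BilinForm F (ι → F))

/-- `k'` is an adjoint of `k` for the form `Bf`. -/
def AdjB (k k' : Matrix ι ι F) : Prop :=
  ∀ u v : ι → F, Bf (k *ᵥ u) v = Bf u (k' *ᵥ v)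

variable {Bf}

lemma AdjB.one : AdjB Bf 1 1 := by
  intro u v
  rw [Matrix.one_mulVec, Matrix.one_mulVec]

lemma AdjB.mul {k k' l l' : Matrix ι ι F} (h : AdjB Bf k k') (h' : AdjB Bf l l') :
    AdjB Bf (k * l) (l' * k') := by
  intro u v
  rw [← Matrix.mulVec_mulVec, ← Matrix.mulVec_mulVec, h, h']

lemma AdjB.comb {k k' l l' : Matrix ι ι F} (h : AdjB Bf k k') (h' : AdjB Bf l l') (a b : F) :
    AdjB Bf (a • k + b • l) (a • k' + b • l') := by
  intro u v
  rw [Matrix.add_mulVec, Matrix.add_mulVec, Matrix.smul_mulVec, Matrix.smul_mulVec,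
    Matrix.smul_mulVec, Matrix.smul_mulVec]
  simp only [map_add, map_smul, LinearMap.add_apply, LinearMap.smul_apply, h u v, h' u v]

lemma AdjB.unique (hN : Bf.Nondegenerate) {k k' k'' : Matrix ι ι F} (h : AdjB Bf k k')
    (h' : AdjB Bf k k'') : k' = k'' := by
  apply Matrix.toLin'.injective
  refine LinearMap.ext fun v => ?_
  rw [Matrix.toLin'_apply, Matrix.toLin'_apply]
  have := hN.2 (k' *ᵥ v - k'' *ᵥ v) (fun u => by
    rw [map_sub, ← h u v, ← h' u v, sub_self])
  exact sub_eq_zero.mp this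

end Str

section Main

variable (K : Subalgebra F (Matrix ι ι F)) (hK : Cfsg.Geo.IsFieldSubalgebra 2 K)

include hK in
/-- The quadratic field structure attached to a generator of `K`. -/
theorem exists_sstr [Nonempty ι] (Bf : LinearMap.BilinForm F (ι → F)) (hN : Bf.Nondegenerate)
    (hac : Cfsg.Geo.IsAdjointClosedFor (fun u v => Bf u v) K)
    (hnsa : ¬ Cfsg.Geo.IsSelfAdjointFor (fun u v => Bf u v) K) :
    ∃ (T : Matrix ι ι F) (τ ν : F), T ∈ K ∧ (∀ c : F, T ≠ c • (1 : Matrix ι ι F)) ∧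
      (∀ k ∈ K, ∃ a b : F, k = a • (1 : Matrix ι ι F) + b • T) ∧
      (∀ x : ι → F, T *ᵥ (T *ᵥ x) = τ • (T *ᵥ x) - ν • x) ∧
      (∀ x y : ι → F, Bf (T *ᵥ x) y = τ * Bf x y - Bf x (T *ᵥ y)) ∧
      (∀ a b : F, a * a + a * b * τ + b * b * ν = 0 → a = 0 ∧ b = 0) := by
  obtain ⟨T, hTK, hTns, hgen⟩ := exists_gen K hK
  -- the minimal polynomial
  obtain ⟨a₀, τ, hTT₀⟩ := hgen (T * T) (K.mul_mem hTK hTK)
  obtain ⟨ν, hν⟩ : ∃ ν, ν = -a₀ := ⟨_, rfl⟩
  have hTT : T * T = τ • T - ν • (1 : Matrix ι ι F) := by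
    rw [hTT₀, hν]; module
  -- the adjoint
  obtain ⟨P, hPK, hP⟩ := hac T hTK
  have hA : AdjB Bf T P := hP
  have hPP : P * P = τ • P - ν • (1 : Matrix ι ι F) := by
    have h1 : AdjB Bf (T * T) (P * P) := hA.mul hA
    have h2 : AdjB Bf (τ • T + (-ν) • (1 : Matrix ι ι F)) (τ • P + (-ν) • (1 : Matrix ι ι F)) :=
      hA.comb AdjB.one τ (-ν)
    have e : T * T = τ • T + (-ν) • (1 : Matrix ι ι F) := by rw [hTT]; module
    rw [e] at h1
    rw [h1.unique hN h2]; module
  have hPT : P * T = T * P := hK.comm P hPK T hTK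
  have hprod : (P - T) * (P + T - τ • (1 : Matrix ι ι F)) = 0 := by
    simp only [sub_mul, mul_sub, mul_add, mul_smul_comm, mul_one]
    rw [hPP, hTT, hPT]
    module
  have hPne : P - T ≠ 0 := by
    intro h0
    have hPT' : P = T := sub_eq_zero.mp h0
    apply hnsa
    intro k hk u v
    obtain ⟨a, b, rfl⟩ := hgen k hk
    rw [hPT'] at hA
    exact (AdjB.one.comb hA a b) u v
  have hPeq : P = τ • (1 : Matrix ι ι F) - T := by
    have := eq_zero_of_mul K hK (K.sub_mem hPK hTK) hPne hprod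
    have h2 : P = (P + T - τ • (1 : Matrix ι ι F)) + (τ • (1 : Matrix ι ι F) - T) := by module
    rw [h2, this, zero_add]
  refine ⟨T, τ, ν, hTK, hTns, hgen, ?_, ?_, ?_⟩
  · intro x
    rw [Matrix.mulVec_mulVec, hTT, Matrix.sub_mulVec, Matrix.smul_mulVec, Matrix.smul_mulVec,
      Matrix.one_mulVec]
  · intro x y
    rw [hA x y, hPeq, Matrix.sub_mulVec, Matrix.smul_mulVec, Matrix.one_mulVec, map_sub, map_smul,
      smul_eq_mul]
  · intro a b hab
    have hk : a • (1 : Matrix ι ι F) + b • T ∈ K :=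
      K.add_mem (K.smul_mem K.one_mem a) (K.smul_mem hTK b)
    have hmul : (a • (1 : Matrix ι ι F) + b • T) * ((a + b * τ) • (1 : Matrix ι ι F) + (-b) • T) =
        (a * a + a * b * τ + b * b * ν) • (1 : Matrix ι ι F) := by
      simp only [add_mul, mul_add, smul_mul_assoc, mul_smul_comm, mul_one, one_mul, hTT]
      module
    rw [hab, zero_smul] at hmul
    by_cases hk0 : a • (1 : Matrix ι ι F) + b • T = 0
    · exact indep_one hTns hk0
    · have h1 := eq_zero_of_mul K hK hk hk0 hmul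
      obtain ⟨h2, h3⟩ := indep_one hTns h1
      have hb : b = 0 := neg_eq_zero.mp h3
      rw [hb] at h2
      exact ⟨by linear_combination h2, hb⟩

end Main

section Symp

variable {F : Type*} [Field F]

/-- **Maximality of the normaliser of a quadratic extension field** (closed under adjoints, not
self-adjoint) in `Sp_2m(F)`, for `F` of odd order and `m ≥ 7`. -/
theorem spfield_maximal [Fintype F] (m : ℕ) (hm : 7 ≤ m) (h2 : (2 : F) ≠ 0)
    (K : Subalgebra F (Matrix (Fin m ⊕ Fin m) (Fin m ⊕ Fin m) F))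
    (hK : Cfsg.Geo.IsFieldSubalgebra 2 K)
    (hac : Cfsg.Geo.IsAdjointClosedFor (Cfsg.sympForm m F) K)
    (hnsa : ¬ Cfsg.Geo.IsSelfAdjointFor (Cfsg.sympForm m F) K) :
    Cfsg.Geo.IsMaximalIn (Cfsg.spGL m F) (Cfsg.Geo.subalgebraNormalizer K ⊓ Cfsg.spGL m F) := by
  classical
  have hne : Nonempty (Fin m ⊕ Fin m) := ⟨Sum.inl ⟨0, by omega⟩⟩
  have hfr : finrank F (Fin m ⊕ Fin m → F) = m + m := by
    rw [Module.finrank_pi, Fintype.card_sum, Fintype.card_fin]
  have hac' : Cfsg.Geo.IsAdjointClosedFor (fun u v => Bsymp m F u v) K := by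
    intro k hk
    obtain ⟨k', hk', h⟩ := hac k hk
    refine ⟨k', hk', fun u v => ?_⟩
    show Bsymp m F (k *ᵥ u) v = Bsymp m F u (k' *ᵥ v)
    rw [Bsymp_apply, Bsymp_apply]; exact h u v
  have hnsa' : ¬ Cfsg.Geo.IsSelfAdjointFor (fun u v => Bsymp m F u v) K := by
    intro h
    apply hnsa
    intro k hk u v
    have : Bsymp m F (k *ᵥ u) v = Bsymp m F u (k *ᵥ v) := h k hk u v
    rw [Bsymp_apply, Bsymp_apply] at this
    exact this
  obtain ⟨T, τ, ν, hTK, hTns, hgen, hsq, hadj, haniso⟩ :=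
    exists_sstr K hK (Bsymp m F) (Bsymp_nondegenerate m) hac' hnsa'
  have hSp := spU_of (Bsymp m F) (Bsymp_isAlt m) (Bsymp_nondegenerate m) (Matrix.toLin' T) τ ν h2
    (fun x => by simp only [Matrix.toLin'_apply]; exact hsq x)
    (fun x y => by simp only [Matrix.toLin'_apply]; exact hadj x y) haniso
  let S : Subgroup ((Fin m ⊕ Fin m → F) ≃ₗ[F] (Fin m ⊕ Fin m → F)) :=
    (Cfsg.Geo.subalgebraNormalizer K).comap (glEquiv (Fin m ⊕ Fin m) F).symm.toMonoidHom
  have hSeq : Cfsg.Geo.subalgebraNormalizer K =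
      S.comap (glEquiv (Fin m ⊕ Fin m) F).toMonoidHom :=
    (comap_symm_comap (glEquiv (Fin m ⊕ Fin m) F) _).symm
  have hS : ∀ g, g ∈ S ↔ ∃ a b : F, ∀ x, g (Matrix.toLin' T x) =
      a • g x + b • Matrix.toLin' T (g x) := by
    intro g
    have key : ∀ y, g y = (((glEquiv (Fin m ⊕ Fin m) F).symm g : GL (Fin m ⊕ Fin m) F) :
        Matrix (Fin m ⊕ Fin m) (Fin m ⊕ Fin m) F) *ᵥ y := by
      intro y
      rw [← glEquiv_apply, MulEquiv.apply_symm_apply]
    have h1 : g ∈ S ↔ (glEquiv (Fin m ⊕ Fin m) F).symm g ∈ Cfsg.Geo.subalgebraNormalizer K :=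
      Iff.rfl
    rw [h1, mem_normalizer_iff K hK hTK hTns hgen]
    constructor
    · rintro ⟨a, b, hab⟩
      refine ⟨a, b, fun x => ?_⟩
      rw [key, key, Matrix.toLin'_apply, Matrix.toLin'_apply, Matrix.mulVec_mulVec, hab,
        ← Matrix.mulVec_mulVec, Matrix.add_mulVec, Matrix.smul_mulVec, Matrix.smul_mulVec,
        Matrix.one_mulVec]
    · rintro ⟨a, b, hab⟩
      refine ⟨a, b, ?_⟩
      apply Matrix.toLin'.injective
      refine LinearMap.ext fun x => ?_
      have := hab x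
      rw [key, key, Matrix.toLin'_apply, Matrix.toLin'_apply] at this
      rw [Matrix.toLin'_apply, Matrix.toLin'_apply, ← Matrix.mulVec_mulVec, this,
        ← Matrix.mulVec_mulVec, Matrix.add_mulVec, Matrix.smul_mulVec, Matrix.smul_mulVec,
        Matrix.one_mulVec]
  rw [hSeq, spGL_eq, ← Subgroup.comap_inf]
  apply isMaximalIn_comap
  exact maximal_spfield hSp (by rw [hfr]; omega) S hS

end Symp

end Cfsg.Agent.Lib.Helper94_SpUniBridge
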