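import Mathlib
import Cfsg.Prelude.Def_GeometricClasses
import Cfsg.Agent.Lib.Helper13_GUSpDefs
import Cfsg.Agent.Lib.Helper94_SpUniBridge

/-!
# Structure of a quadratic field of unitary type inside the symplectic matrices (for S5976)

`K = F[θ]` with `θ` skew-adjoint, `θ² = Δ` a non-square; the normaliser of `K` consists of the
matrices commuting or anticommuting with `θ`; elements of odd order (modulo scalars) commute.
-/

set_option autoImplicit false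

namespace Cfsg.Agent.Lib.Helper13_GUSpK

open Matrix Cfsg.Agent.Lib.Helper13_Symp Cfsg.Agent.Lib.Helper13_GUSpDefs
  Cfsg.Agent.Lib.Helper94_Bridge Cfsg.Agent.Lib.Helper94_OrthUniBridge
  Cfsg.Agent.Lib.Helper94_SpUniBridge

variable {F : Type*} [Field F]

theorem matrix_eq_of_mulVec {ι : Type*} [Fintype ι] [DecidableEq ι] {A B : Matrix ι ι F}
    (h : ∀ x : ι → F, A *ᵥ x = B *ᵥ x) : A = B := by
  apply Matrix.toLin'.injective
  apply LinearMap.ext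
  intro x
  rw [Matrix.toLin'_apply, Matrix.toLin'_apply, h]

/-- a generator `θ` of `K` with non-square scalar square, skew-adjoint -/
theorem exists_theta (h2 : (2 : F) ≠ 0) (d : ℕ) (hd : 1 ≤ d)
    (K : Subalgebra F (Matrix (Fin d ⊕ Fin d) (Fin d ⊕ Fin d) F))
    (hK : Cfsg.Geo.IsFieldSubalgebra 2 K)
    (hac : Cfsg.Geo.IsAdjointClosedFor (Cfsg.sympForm d F) K)
    (hnsa : ¬ Cfsg.Geo.IsSelfAdjointFor (Cfsg.sympForm d F) K) :
    ∃ (θ : Matrix (Fin d ⊕ Fin d) (Fin d ⊕ Fin d) F) (Δ : F), θ ∈ K ∧ ¬ IsSquare Δ ∧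
      θ * θ = Δ • (1 : Matrix (Fin d ⊕ Fin d) (Fin d ⊕ Fin d) F) ∧
      (∀ k ∈ K, ∃ a b : F, k = a • (1 : Matrix (Fin d ⊕ Fin d) (Fin d ⊕ Fin d) F) + b • θ) ∧
      IsSkew d θ := by
  classical
  have hne : Nonempty (Fin d ⊕ Fin d) := ⟨Sum.inl ⟨0, by omega⟩⟩
  have hac' : Cfsg.Geo.IsAdjointClosedFor (fun u v => Bsymp d F u v) K := by
    intro k hk
    obtain ⟨k', hk', h⟩ := hac k hk
    refine ⟨k', hk', fun u v => ?_⟩
    show Bsymp d F (k *ᵥ u) v = Bsymp d F u (k' *ᵥ v)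
    rw [Bsymp_apply, Bsymp_apply]; exact h u v
  have hnsa' : ¬ Cfsg.Geo.IsSelfAdjointFor (fun u v => Bsymp d F u v) K := by
    intro h
    apply hnsa
    intro k hk u v
    have : Bsymp d F (k *ᵥ u) v = Bsymp d F u (k *ᵥ v) := h k hk u v
    rw [Bsymp_apply, Bsymp_apply] at this
    exact this
  obtain ⟨T, τ, ν, hTK, hTns, hgen, hsq, hadj, haniso⟩ :=
    exists_sstr K hK (Bsymp d F) (Bsymp_nondegenerate d) hac' hnsa'
  have hTT : T * T = τ • T - ν • (1 : Matrix (Fin d ⊕ Fin d) (Fin d ⊕ Fin d) F) := by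
    apply matrix_eq_of_mulVec
    intro x
    rw [← Matrix.mulVec_mulVec, hsq, Matrix.sub_mulVec, Matrix.smul_mulVec, Matrix.smul_mulVec,
      Matrix.one_mulVec]
  refine ⟨(2 : F) • T - τ • (1 : Matrix (Fin d ⊕ Fin d) (Fin d ⊕ Fin d) F), τ * τ - 4 * ν,
    K.sub_mem (K.smul_mem hTK _) (K.smul_mem K.one_mem _), ?_, ?_, ?_, ?_⟩
  · rintro ⟨s, hs⟩
    have := (haniso ((s - τ) / 2) 1 (by field_simp; linear_combination (-1 : F) * hs)).2
    exact one_ne_zero this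
  · simp only [sub_mul, mul_sub, smul_mul_assoc, mul_smul_comm, mul_one, one_mul, hTT]
    module
  · intro k hk
    obtain ⟨a, b, rfl⟩ := hgen k hk
    refine ⟨a + b * τ / 2, b / 2, ?_⟩
    rw [smul_sub, smul_smul, smul_smul, add_smul]
    have h3 : b / 2 * 2 = b := by field_simp
    have h4 : b / 2 * τ = b * τ / 2 := by ring
    rw [h3, h4]
    abel
  · intro u v
    rw [Matrix.sub_mulVec, Matrix.sub_mulVec, Matrix.smul_mulVec, Matrix.smul_mulVec,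
      Matrix.smul_mulVec, Matrix.smul_mulVec, Matrix.one_mulVec, Matrix.one_mulVec,
      sympForm_sub_left, sympForm_sub_right, sympForm_smul_left, sympForm_smul_left,
      sympForm_smul_right, sympForm_smul_right]
    have := hadj u v
    rw [Bsymp_apply, Bsymp_apply, Bsymp_apply] at this
    rw [this]
    ring

section normalizer

variable {d : ℕ} (K : Subalgebra F (Matrix (Fin d ⊕ Fin d) (Fin d ⊕ Fin d) F))
  (hK : Cfsg.Geo.IsFieldSubalgebra 2 K)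
  {θ : Matrix (Fin d ⊕ Fin d) (Fin d ⊕ Fin d) F} {Δ : F}

theorem theta_ns (hd : 1 ≤ d) (hΔ : ¬ IsSquare Δ)
    (hθ : θ * θ = Δ • (1 : Matrix (Fin d ⊕ Fin d) (Fin d ⊕ Fin d) F)) (c : F) :
    θ ≠ c • (1 : Matrix (Fin d ⊕ Fin d) (Fin d ⊕ Fin d) F) := by
  intro h
  apply hΔ
  refine ⟨c, ?_⟩
  rw [h, smul_mul_assoc, one_mul, smul_smul] at hθ
  have := congrFun (congrFun hθ (Sum.inl ⟨0, by omega⟩)) (Sum.inl ⟨0, by omega⟩)
  simpa using this.symm

include hK in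
theorem mem_normalizer_of_comm (hd : 1 ≤ d) (hΔ : ¬ IsSquare Δ) (hθK : θ ∈ K)
    (hθ : θ * θ = Δ • (1 : Matrix (Fin d ⊕ Fin d) (Fin d ⊕ Fin d) F))
    (hgen : ∀ k ∈ K, ∃ a b : F, k = a • (1 : Matrix (Fin d ⊕ Fin d) (Fin d ⊕ Fin d) F) + b • θ)
    (g : GL (Fin d ⊕ Fin d) F)
    (hg : (g : Matrix (Fin d ⊕ Fin d) (Fin d ⊕ Fin d) F) * θ =
        θ * (g : Matrix (Fin d ⊕ Fin d) (Fin d ⊕ Fin d) F) ∨
      (g : Matrix (Fin d ⊕ Fin d) (Fin d ⊕ Fin d) F) * θ =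
        -(θ * (g : Matrix (Fin d ⊕ Fin d) (Fin d ⊕ Fin d) F))) :
    g ∈ Cfsg.Geo.subalgebraNormalizer K := by
  have hne : Nonempty (Fin d ⊕ Fin d) := ⟨Sum.inl ⟨0, by omega⟩⟩
  rw [mem_normalizer_iff K hK hθK (theta_ns hd hΔ hθ) hgen]
  rcases hg with h | h
  · exact ⟨0, 1, by rw [h, zero_smul, zero_add, one_smul]⟩
  · exact ⟨0, -1, by rw [h, zero_smul, zero_add, neg_smul, one_smul, neg_mul]⟩

include hK in
/-- an element of the normaliser commutes or anticommutes with `θ` -/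
theorem comm_or_anticomm (h2 : (2 : F) ≠ 0) (hd : 1 ≤ d) (hΔ : ¬ IsSquare Δ) (hθK : θ ∈ K)
    (hθ : θ * θ = Δ • (1 : Matrix (Fin d ⊕ Fin d) (Fin d ⊕ Fin d) F))
    (hgen : ∀ k ∈ K, ∃ a b : F, k = a • (1 : Matrix (Fin d ⊕ Fin d) (Fin d ⊕ Fin d) F) + b • θ)
    (g : GL (Fin d ⊕ Fin d) F) (hg : g ∈ Cfsg.Geo.subalgebraNormalizer K) :
    (g : Matrix (Fin d ⊕ Fin d) (Fin d ⊕ Fin d) F) * θ =
        θ * (g : Matrix (Fin d ⊕ Fin d) (Fin d ⊕ Fin d) F) ∨
      (g : Matrix (Fin d ⊕ Fin d) (Fin d ⊕ Fin d) F) * θ =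
        -(θ * (g : Matrix (Fin d ⊕ Fin d) (Fin d ⊕ Fin d) F)) := by
  have hne : Nonempty (Fin d ⊕ Fin d) := ⟨Sum.inl ⟨0, by omega⟩⟩
  have hns := theta_ns hd hΔ hθ
  obtain ⟨a, b, hab⟩ := (mem_normalizer_iff K hK hθK hns hgen g).1 hg
  set M : Matrix (Fin d ⊕ Fin d) (Fin d ⊕ Fin d) F := (g : Matrix (Fin d ⊕ Fin d) (Fin d ⊕ Fin d) F)
    with hM
  set Mi : Matrix (Fin d ⊕ Fin d) (Fin d ⊕ Fin d) F :=
    ((g⁻¹ : GL (Fin d ⊕ Fin d) F) : Matrix (Fin d ⊕ Fin d) (Fin d ⊕ Fin d) F) with hMi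
  have hMMi : M * Mi = 1 := by rw [hM, hMi]; exact Units.mul_inv g
  -- squaring the relation
  have h1 : M * (θ * θ) = (a • (1 : Matrix (Fin d ⊕ Fin d) (Fin d ⊕ Fin d) F) + b • θ) *
      (a • (1 : Matrix (Fin d ⊕ Fin d) (Fin d ⊕ Fin d) F) + b • θ) * M := by
    rw [← mul_assoc, hab, mul_assoc, hab, ← mul_assoc]
  have h3 : (a • (1 : Matrix (Fin d ⊕ Fin d) (Fin d ⊕ Fin d) F) + b • θ) *
      (a • (1 : Matrix (Fin d ⊕ Fin d) (Fin d ⊕ Fin d) F) + b • θ) =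
      (a * a + b * b * Δ) • (1 : Matrix (Fin d ⊕ Fin d) (Fin d ⊕ Fin d) F) + (2 * a * b) • θ := by
    simp only [add_mul, mul_add, smul_mul_assoc, mul_smul_comm, mul_one, one_mul, hθ]
    module
  have h4 : (a * a + b * b * Δ - Δ) • (1 : Matrix (Fin d ⊕ Fin d) (Fin d ⊕ Fin d) F) +
      (2 * a * b) • θ = 0 := by
    have h5 : Δ • (1 : Matrix (Fin d ⊕ Fin d) (Fin d ⊕ Fin d) F) =
        (a * a + b * b * Δ) • (1 : Matrix (Fin d ⊕ Fin d) (Fin d ⊕ Fin d) F) + (2 * a * b) • θ := by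
      have h6 : M * (θ * θ) * Mi = (a • (1 : Matrix (Fin d ⊕ Fin d) (Fin d ⊕ Fin d) F) + b • θ) *
          (a • (1 : Matrix (Fin d ⊕ Fin d) (Fin d ⊕ Fin d) F) + b • θ) * M * Mi := by rw [h1]
      rw [hθ, mul_smul_comm, mul_one, smul_mul_assoc, hMMi, mul_assoc, hMMi, mul_one, h3] at h6
      exact h6
    rw [sub_smul, h5]
    abel
  obtain ⟨h7, h8⟩ := indep_one hns h4
  have hΔ0 : Δ ≠ 0 := by
    rintro rfl
    exact hΔ ⟨0, by simp⟩
  have hb0 : b ≠ 0 := by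
    rintro rfl
    apply hΔ
    exact ⟨a, by linear_combination -h7⟩
  have ha0 : a = 0 := by
    rcases mul_eq_zero.1 h8 with h | h
    · rcases mul_eq_zero.1 h with h | h
      · exact absurd h h2
      · exact h
    · exact absurd h hb0
  subst ha0
  have hbb : (b - 1) * (b + 1) = 0 := by
    have : (b * b - 1) * Δ = 0 := by linear_combination h7
    rcases mul_eq_zero.1 this with h | h
    · linear_combination h
    · exact absurd h hΔ0
  rcases mul_eq_zero.1 hbb with h | h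
  · left
    have hb1 : b = 1 := by linear_combination h
    rw [hab, hb1, zero_smul, zero_add, one_smul]
  · right
    have hb1 : b = -1 := by linear_combination h
    rw [hab, hb1, zero_smul, zero_add, neg_smul, one_smul, neg_mul]

include hK in
/-- an element of the normaliser with an odd power scalar commutes with `θ` -/
theorem comm_of_odd_pow (h2 : (2 : F) ≠ 0) (hd : 1 ≤ d) (hΔ : ¬ IsSquare Δ) (hθK : θ ∈ K)
    (hθ : θ * θ = Δ • (1 : Matrix (Fin d ⊕ Fin d) (Fin d ⊕ Fin d) F))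
    (hgen : ∀ k ∈ K, ∃ a b : F, k = a • (1 : Matrix (Fin d ⊕ Fin d) (Fin d ⊕ Fin d) F) + b • θ)
    (g : GL (Fin d ⊕ Fin d) F) (hg : g ∈ Cfsg.Geo.subalgebraNormalizer K) (r : ℕ) (hr : Odd r)
    (z : F) (hz : (g : Matrix (Fin d ⊕ Fin d) (Fin d ⊕ Fin d) F) ^ r =
      z • (1 : Matrix (Fin d ⊕ Fin d) (Fin d ⊕ Fin d) F)) :
    (g : Matrix (Fin d ⊕ Fin d) (Fin d ⊕ Fin d) F) * θ =
      θ * (g : Matrix (Fin d ⊕ Fin d) (Fin d ⊕ Fin d) F) := by
  rcases comm_or_anticomm K hK h2 hd hΔ hθK hθ hgen g hg with h | h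
  · exact h
  · exfalso
    set M : Matrix (Fin d ⊕ Fin d) (Fin d ⊕ Fin d) F :=
      (g : Matrix (Fin d ⊕ Fin d) (Fin d ⊕ Fin d) F) with hM
    have hpow : ∀ n : ℕ, M ^ n * θ = (-1 : F) ^ n • (θ * M ^ n) := by
      intro n
      induction n with
      | zero => simp
      | succ n ih =>
        rw [pow_succ, mul_assoc, h, mul_neg, ← mul_assoc, ih, smul_mul_assoc, mul_assoc, pow_succ,
          mul_neg_one, neg_smul]
    have h1 := hpow r
    rw [hz, hr.neg_one_pow, smul_mul_assoc, one_mul, mul_smul_comm, mul_one, neg_one_smul] at h1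
    have hz0 : z ≠ 0 := by
      rintro rfl
      rw [zero_smul] at hz
      have hu : IsUnit (M ^ r) := (Units.isUnit g).pow r
      rw [hz] at hu
      have hne : Nontrivial (Matrix (Fin d ⊕ Fin d) (Fin d ⊕ Fin d) F) := by
        have : Nonempty (Fin d ⊕ Fin d) := ⟨Sum.inl ⟨0, by omega⟩⟩
        infer_instance
      exact not_isUnit_zero hu
    have h3 : (2 * z) • θ = 0 := by
      rw [mul_smul, two_smul]
      nth_rewrite 1 [h1]
      exact neg_add_cancel _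
    have h4 : θ = 0 := by
      rcases smul_eq_zero.1 h3 with h | h
      · exact absurd h (mul_ne_zero h2 hz0)
      · exact h
    apply theta_ns hd hΔ hθ 0
    rw [h4, zero_smul]

end normalizer

end Cfsg.Agent.Lib.Helper13_GUSpK
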