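import Mathlib

set_option autoImplicit false

namespace Cfsg.Agent.Lib.Helper13_Gleason

open MulAction

universe u v

/-- A finite invariant set all of whose orbits have size divisible by `d` has size divisible
by `d`. -/
theorem dvd_ncard_of_orbits {G : Type u} {α : Type v} [Group G] [MulAction G α] [Finite α]
    (d : ℕ) (P : Subgroup G) :
    ∀ (n : ℕ) (T : Set α), T.ncard = n → (∀ g ∈ P, ∀ z ∈ T, g • z ∈ T) →
      (∀ z ∈ T, d ∣ (orbit P z).ncard) → d ∣ T.ncard := by
  intro n
  induction n using Nat.strong_induction_on with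
  | _ n ih =>
    intro T hTn hinv hd
    by_cases hT : T = ∅
    · rw [hT]; simp
    · obtain ⟨z, hz⟩ := Set.nonempty_iff_ne_empty.mpr hT
      have hsub : orbit P z ⊆ T := by
        rintro _ ⟨g, rfl⟩
        exact hinv g.1 g.2 z hz
      have hcard := Set.ncard_sdiff_add_ncard_of_subset hsub (Set.toFinite T)
      have hpos : 0 < (orbit P z).ncard := by
        rw [Set.ncard_pos (Set.toFinite _)]
        exact ⟨z, mem_orbit_self z⟩
      have hlt : (T \ orbit P z).ncard < n := by omega
      have hinv' : ∀ g ∈ P, ∀ w ∈ T \ orbit P z, g • w ∈ T \ orbit P z := by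
        intro g hg w hw
        refine ⟨hinv g hg w hw.1, ?_⟩
        intro hmem
        apply hw.2
        obtain ⟨h, hh⟩ := hmem
        refine ⟨(⟨g, hg⟩ : P)⁻¹ * h, ?_⟩
        show ((⟨g, hg⟩ : P)⁻¹ * h) • z = w
        rw [mul_smul]
        have hh' : h • z = g • w := hh
        rw [hh']
        show g⁻¹ • g • w = w
        simp
      have h2 := ih _ hlt (T \ orbit P z) rfl hinv' (fun w hw => hd w hw.1)
      rw [← hcard]
      exact Dvd.dvd.add h2 (hd z hz)


/-- The hypothesis of Gleason-type lemmas: every `k`-subset is fixed pointwise by a subgroup all of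
whose orbits outside the subset have size divisible by `d`. -/
def Hyp (G : Type u) (α : Type v) [Group G] [MulAction G α] (k d : ℕ) : Prop :=
  ∀ s : Set α, s.ncard = k → ∃ P : Subgroup G, (∀ g ∈ P, ∀ x ∈ s, g • x = x) ∧
    ∀ x, x ∉ s → d ∣ (orbit P x).ncard

theorem transitive_of_hyp {G : Type u} {α : Type v} [Group G] [MulAction G α] [Finite α]
    {k d : ℕ} (hd : 1 < d) (hk : k + 1 < Nat.card α) (h : Hyp G α (k + 1) d) :
    IsPretransitive G α := by
  constructor
  intro x y
  by_contra hxy
  have hyO : y ∉ orbit G x := fun ⟨g, hg⟩ => hxy ⟨g, hg⟩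
  have hxO : x ∈ orbit G x := mem_orbit_self x
  have hne : x ≠ y := by
    rintro rfl
    exact hyO hxO
  -- choose `t`
  have hcompl : k ≤ (({x, y} : Set α)ᶜ).ncard := by
    have h1 := Set.ncard_add_ncard_compl ({x, y} : Set α)
    rw [Set.ncard_pair hne] at h1
    omega
  obtain ⟨t, htsub, htk⟩ := Set.exists_subset_card_eq hcompl
  have hxt : x ∉ t := fun hx => htsub hx (by simp)
  have hyt : y ∉ t := fun hy => htsub hy (by simp)
  have key : ∀ w : α, w ∉ t → d ∣ (orbit G x \ insert w t).ncard := by
    intro w hwt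
    have hs : (insert w t).ncard = k + 1 := by
      rw [Set.ncard_insert_of_notMem hwt (Set.toFinite t), htk]
    obtain ⟨P, hPfix, hPorb⟩ := h (insert w t) hs
    apply dvd_ncard_of_orbits d P _ _ rfl
    · intro g hg z hz
      refine ⟨?_, ?_⟩
      · obtain ⟨g', hg'⟩ := hz.1
        refine ⟨g * g', ?_⟩
        show (g * g') • x = g • z
        rw [mul_smul]
        exact congrArg (g • ·) hg'
      · intro hmem
        apply hz.2
        have h1 : g⁻¹ • (g • z) = g • z := hPfix g⁻¹ (P.inv_mem hg) _ hmem
        rw [inv_smul_smul] at h1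
        rw [h1]; exact hmem
    · intro z hz
      exact hPorb z hz.2
  have h1 := key x hxt
  have h2 := key y hyt
  have e1 := Set.ncard_inter_add_ncard_sdiff_eq_ncard (orbit G x) (insert x t) (Set.toFinite _)
  have e2 := Set.ncard_inter_add_ncard_sdiff_eq_ncard (orbit G x) (insert y t) (Set.toFinite _)
  have e3 : orbit G x ∩ insert x t = insert x (orbit G x ∩ t) := by
    ext z
    simp only [Set.mem_inter_iff, Set.mem_insert_iff]
    constructor
    · rintro ⟨hz, rfl | hz'⟩
      · exact Or.inl rfl
      · exact Or.inr ⟨hz, hz'⟩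
    · rintro (rfl | ⟨hz, hz'⟩)
      · exact ⟨hxO, Or.inl rfl⟩
      · exact ⟨hz, Or.inr hz'⟩
  have e4 : orbit G x ∩ insert y t = orbit G x ∩ t := by
    ext z
    simp only [Set.mem_inter_iff, Set.mem_insert_iff]
    constructor
    · rintro ⟨hz, rfl | hz'⟩
      · exact absurd hz hyO
      · exact ⟨hz, hz'⟩
    · rintro ⟨hz, hz'⟩
      exact ⟨hz, Or.inr hz'⟩
  have e5 : (insert x (orbit G x ∩ t)).ncard = (orbit G x ∩ t).ncard + 1 :=
    Set.ncard_insert_of_notMem (fun hx => hxt hx.2) (Set.toFinite _)
  rw [e3, e5] at e1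
  rw [e4] at e2
  have h3 : (orbit G x \ insert y t).ncard = (orbit G x \ insert x t).ncard + 1 := by omega
  rw [h3] at h2
  have h4 : d ∣ 1 := (Nat.dvd_add_right h1).mp h2
  have := Nat.le_of_dvd one_pos h4
  omega

theorem multiply_pretransitive_of_hyp (d : ℕ) (hd : 1 < d) : ∀ (k : ℕ) (G : Type u) (α : Type v)
    [Group G] [MulAction G α] [Finite α], k < Nat.card α → Hyp G α k d →
    IsMultiplyPretransitive G α k := by
  intro k
  induction k with
  | zero =>
    intro G α _ _ _ _ _
    exact is_zero_pretransitive'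
  | succ k ih =>
    intro G α _ _ _ hk h
    have htrans : IsPretransitive G α := transitive_of_hyp hd hk h
    have hne : Nonempty α := (Nat.card_pos_iff.mp (by omega)).1
    obtain ⟨a⟩ := hne
    rw [SubMulAction.ofStabilizer.isMultiplyPretransitive (a := a)]
    apply ih
    · rw [SubMulAction.nat_card_ofStabilizer_eq]
      omega
    · intro s' hs'
      have hs : (insert a (Subtype.val '' s')).ncard = k + 1 := by
        rw [Set.ncard_insert_of_notMem (SubMulAction.notMem_val_image G s') (Set.toFinite _),
          Set.ncard_image_of_injective _ Subtype.val_injective, hs']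
      obtain ⟨P, hPfix, hPorb⟩ := h _ hs
      have hPa : ∀ g ∈ P, g ∈ stabilizer G a := fun g hg =>
        hPfix g hg a (Set.mem_insert _ _)
      refine ⟨P.subgroupOf (stabilizer G a), ?_, ?_⟩
      · intro g' hg' x' hx'
        apply Subtype.ext
        exact hPfix (g' : G) hg' x' (Set.mem_insert_of_mem _ ⟨x', hx', rfl⟩)
      · intro x' hx'
        have hx : (x' : α) ∉ insert a (Subtype.val '' s') := by
          intro hmem
          rcases hmem with hmem | ⟨y', hy', hyx⟩
          · exact x'.2 hmem
          · exact hx' (Subtype.val_injective hyx ▸ hy')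
        have himage : Subtype.val '' (orbit (P.subgroupOf (stabilizer G a)) x')
            = orbit P (x' : α) := by
          ext z
          constructor
          · rintro ⟨_, ⟨g', rfl⟩, rfl⟩
            exact ⟨⟨(g'.1 : G), g'.2⟩, rfl⟩
          · rintro ⟨g, rfl⟩
            refine ⟨(⟨⟨g.1, hPa g.1 g.2⟩, g.2⟩ : P.subgroupOf (stabilizer G a)) • x',
              ⟨_, rfl⟩, rfl⟩
        rw [← Set.ncard_image_of_injective _ Subtype.val_injective, himage]
        exact hPorb _ hx

end Cfsg.Agent.Lib.Helper13_Gleason
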