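import Mathlib
import Cfsg.Agent.Lib.Helper13_HermBridge
import Cfsg.Agent.S0751
import Cfsg.Agent.S0754

set_option autoImplicit false

namespace Cfsg.Agent.Lib.Helper13_HermFrames

open Module Submodule Cfsg.Agent.Lib.Helper13_Herm Cfsg.Agent.Lib.Helper13_HermBridge

variable {F : Type*} [Field F] [Fintype F] {q : ℕ}

/-- isotropic frames for the standard hermitian form -/
def IsoFrameH (n q k : ℕ) (s : Fin k → (Fin n → F)) : Prop :=
  LinearIndependent F s ∧ ∀ i j, Cfsg.hermForm n F q (s i) (s j) = 0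

theorem herm_zero_of_span (hF : Fintype.card F = q ^ 2) {n k : ℕ} {s : Fin k → (Fin n → F)}
    (h0 : ∀ i j, Cfsg.hermForm n F q (s i) (s j) = 0) {x y : Fin n → F}
    (hx : x ∈ span F (Set.range s)) (hy : y ∈ span F (Set.range s)) :
    Cfsg.hermForm n F q x y = 0 := by
  have hq : q ≠ 0 := by have := two_le_q hF; omega
  induction hx using Submodule.span_induction with
  | mem x hx =>
    obtain ⟨i, rfl⟩ := hx
    induction hy using Submodule.span_induction with
    | mem y hy =>
      obtain ⟨j, rfl⟩ := hy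
      exact h0 i j
    | zero => exact hermForm_zero_right n hq _
    | add y z _ _ hy hz => rw [hermForm_add_right n hF, hy, hz, add_zero]
    | smul a y _ hy => rw [hermForm_smul_right, hy, mul_zero]
  | zero => simp [Cfsg.hermForm]
  | add x z _ _ hx hz => rw [hermForm_add_left, hx, hz, add_zero]
  | smul a x _ hx => rw [hermForm_smul_left, hx, mul_zero]

/-- Witt: the isometries are transitive on isotropic frames -/
theorem exists_isometry_map (hF : Fintype.card F = q ^ 2) {n k : ℕ}
    (s s' : Fin k → (Fin n → F)) (hs : IsoFrameH n q k s) (hs' : IsoFrameH n q k s') :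
    ∃ M : Matrix (Fin n) (Fin n) F,
      (∀ u v, Cfsg.hermForm n F q (M.mulVec u) (M.mulVec v) = Cfsg.hermForm n F q u v) ∧
      ∀ i, M.mulVec (s i) = s' i := by
  set X := span F (Set.range s) with hX
  set Y := span F (Set.range s') with hY
  let bX : Basis (Fin k) F X := Basis.span hs.1
  let bY : Basis (Fin k) F Y := Basis.span hs'.1
  let φ : X ≃ₗ[F] Y := bX.equiv bY (Equiv.refl _)
  let ψ : X →ₗ[F] (Fin n → F) := Y.subtype.comp φ.toLinearMap
  have hψinj : Function.Injective ψ := by
    intro x y hxy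
    apply φ.injective
    apply Subtype.ext
    exact hxy
  have hψ : ∀ x x' : X, Bherm hF n (ψ x) (ψ x') =
      Bherm hF n (x : Fin n → F) (x' : Fin n → F) := by
    intro x x'
    rw [Bherm_apply, Bherm_apply, herm_zero_of_span hF hs.2 x'.2 x.2]
    exact herm_zero_of_span hF hs'.2 (φ x').2 (φ x).2
  obtain ⟨g, hg1, hg2⟩ := Cfsg.Agent.S0751.witt_herm (frobQ hF) (frobQ_ne_id hF) (frobQ_frobQ hF)
    (Bherm hF n) (Bherm_isSymm hF n) (Bherm_separatingLeft hF n) (finrank F X) X rfl ψ hψinj hψ
  refine ⟨LinearMap.toMatrix' (g : (Fin n → F) →ₗ[F] (Fin n → F)), ?_, ?_⟩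
  · intro u v
    rw [LinearMap.toMatrix'_mulVec, LinearMap.toMatrix'_mulVec]
    have := hg1 v u
    rw [Bherm_apply, Bherm_apply] at this
    exact this
  · intro i
    rw [LinearMap.toMatrix'_mulVec]
    have h1 : (bX i : Fin n → F) = s i := congrArg Subtype.val (Basis.span_apply hs.1 i)
    have h2 : (bY i : Fin n → F) = s' i := congrArg Subtype.val (Basis.span_apply hs'.1 i)
    have h3 := hg2 (bX i)
    rw [h1] at h3
    rw [LinearEquiv.coe_coe, h3]
    show ((bX.equiv bY (Equiv.refl _) (bX i) : Y) : Fin n → F) = s' i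
    rw [Basis.equiv_apply, Equiv.refl_apply, h2]

/-- isometries are injective -/
theorem isometry_injective (hF : Fintype.card F = q ^ 2) {n : ℕ} (M : Matrix (Fin n) (Fin n) F)
    (hM : ∀ u v, Cfsg.hermForm n F q (M.mulVec u) (M.mulVec v) = Cfsg.hermForm n F q u v) :
    Function.Injective (fun v : Fin n → F => M.mulVec v) := by
  have hq : q ≠ 0 := by have := two_le_q hF; omega
  intro u v huv
  simp only at huv
  have h1 : M.mulVec (u - v) = 0 := by rw [Matrix.mulVec_sub, huv, sub_self]
  have h2 : ∀ i, (u - v) i = 0 := by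
    intro i
    have h3 := hM (u - v) (Pi.single i 1)
    rw [h1, hermForm_single_right n hq] at h3
    simp only [Cfsg.hermForm, Pi.zero_apply, zero_mul, Finset.sum_const_zero] at h3
    exact h3.symm
  funext i
  have := h2 i
  rw [Pi.sub_apply, sub_eq_zero] at this
  exact this

/-! ### peeling two coordinates -/

section peel
variable {n : ℕ}

/-- drop the first two coordinates -/
def tt (v : Fin (n + 2) → F) : Fin n → F := fun i => v i.succ.succ

/-- build a vector from its first two coordinates and the rest -/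
def mk3 (x y : F) (u : Fin n → F) : Fin (n + 2) → F := Fin.cons x (Fin.cons y u)

omit [Fintype F] [Field F] in
@[simp] theorem mk3_zero (x y : F) (u : Fin n → F) : mk3 x y u 0 = x := rfl

omit [Fintype F] [Field F] in
@[simp] theorem mk3_one (x y : F) (u : Fin n → F) : mk3 x y u 1 = y := rfl

omit [Fintype F] [Field F] in
@[simp] theorem tt_mk3 (x y : F) (u : Fin n → F) : tt (mk3 x y u) = u := rfl

omit [Fintype F] [Field F] in
theorem mk3_eta (v : Fin (n + 2) → F) : mk3 (v 0) (v 1) (tt v) = v := by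
  funext i
  refine Fin.cases rfl (fun i => ?_) i
  refine Fin.cases rfl (fun i => ?_) i
  rfl

omit [Fintype F] in
theorem herm_split (v v' : Fin (n + 2) → F) :
    Cfsg.hermForm (n + 2) F q v v' =
      v 0 * (v' 0) ^ q + v 1 * (v' 1) ^ q + Cfsg.hermForm n F q (tt v) (tt v') := by
  unfold Cfsg.hermForm
  rw [Fin.sum_univ_succ, Fin.sum_univ_succ, ← add_assoc]
  rfl

omit [Fintype F] in
theorem tt_add (v v' : Fin (n + 2) → F) : tt (v + v') = tt v + tt v' := rfl

omit [Fintype F] in
theorem tt_smul (c : F) (v : Fin (n + 2) → F) : tt (c • v) = c • tt v := rfl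

omit [Fintype F] in
theorem tt_sum {ι : Type*} (t : Finset ι) (f : ι → Fin (n + 2) → F) :
    tt (∑ i ∈ t, f i) = ∑ i ∈ t, tt (f i) := by
  funext j
  simp [tt, Finset.sum_apply]

end peel

theorem exists_norm_neg_one (hF : Fintype.card F = q ^ 2) : ∃ a : F, a * a ^ q = -1 := by
  have h1 : ((-1 : F)) ^ q = -1 := by
    have := neg_pow_q hF (1 : F)
    rw [one_pow] at this
    exact this
  have h2 := Cfsg.Agent.S0754.result hF (-1 : F) (neg_ne_zero.mpr one_ne_zero) h1
  have h3 : Nonempty {x : F // x ^ (q + 1) = -1} := by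
    by_contra hne
    rw [not_nonempty_iff] at hne
    rw [Nat.card_of_isEmpty] at h2
    omega
  obtain ⟨a, ha⟩ := h3
  exact ⟨a, by rw [← ha, pow_succ']⟩

/-! ### fibres of the map "first vector" -/

section fibre
variable {n k : ℕ}

theorem isoFrameH_map (hF : Fintype.card F = q ^ 2) (M : Matrix (Fin n) (Fin n) F)
    (hM : ∀ u v, Cfsg.hermForm n F q (M.mulVec u) (M.mulVec v) = Cfsg.hermForm n F q u v)
    (s : Fin k → (Fin n → F)) (hs : IsoFrameH n q k s) :
    IsoFrameH n q k (fun i => M.mulVec (s i)) := by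
  refine ⟨?_, fun i j => ?_⟩
  · have h1 : (fun i => M.mulVec (s i)) = Matrix.toLin' M ∘ s := by
      funext i
      rw [Function.comp_apply, Matrix.toLin'_apply]
    rw [h1]
    apply hs.1.map'
    rw [LinearMap.ker_eq_bot]
    intro u v h
    rw [Matrix.toLin'_apply, Matrix.toLin'_apply] at h
    exact isometry_injective hF M hM h
  · rw [hM]
    exact hs.2 i j

/-- the frames of length `k + 1` starting with `v` -/
abbrev Fib (n q k : ℕ) (v : Fin n → F) : Type _ :=
  {w : Fin k → (Fin n → F) // IsoFrameH n q (k + 1) (Fin.cons v w : Fin (k + 1) → (Fin n → F))}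

theorem card_fib_le (hF : Fintype.card F = q ^ 2) (v v' : Fin n → F) (hv : v ≠ 0)
    (hv0 : Cfsg.hermForm n F q v v = 0) (hv' : v' ≠ 0) (hv0' : Cfsg.hermForm n F q v' v' = 0) :
    Nat.card (Fib (F := F) n q k v) ≤ Nat.card (Fib (F := F) n q k v') := by
  have h1 : IsoFrameH n q 1 (fun _ : Fin 1 => v) :=
    ⟨linearIndependent_unique_iff.mpr hv, fun _ _ => hv0⟩
  have h1' : IsoFrameH n q 1 (fun _ : Fin 1 => v') :=
    ⟨linearIndependent_unique_iff.mpr hv', fun _ _ => hv0'⟩
  obtain ⟨M, hM, hMv⟩ := exists_isometry_map hF _ _ h1 h1'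
  have hMv' : M.mulVec v = v' := hMv 0
  have key : ∀ w : Fin k → (Fin n → F),
      (fun i => M.mulVec ((Fin.cons v w : Fin (k + 1) → (Fin n → F)) i)) =
        (Fin.cons v' (fun i => M.mulVec (w i)) : Fin (k + 1) → (Fin n → F)) := by
    intro w
    funext i
    refine Fin.cases ?_ (fun i => ?_) i
    · simp only [Fin.cons_zero]
      exact hMv'
    · simp only [Fin.cons_succ]
  apply Nat.card_le_card_of_injective
    (fun w : Fib (F := F) n q k v => (⟨fun i => M.mulVec (w.1 i), by
      have := isoFrameH_map hF M hM _ w.2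
      rw [key] at this
      exact this⟩ : Fib (F := F) n q k v'))
  intro w w' hww
  apply Subtype.ext
  funext i
  have h2 := congrFun (congrArg Subtype.val hww) i
  exact isometry_injective hF M hM h2

theorem card_fib_eq (hF : Fintype.card F = q ^ 2) (v v' : Fin n → F) (hv : v ≠ 0)
    (hv0 : Cfsg.hermForm n F q v v = 0) (hv' : v' ≠ 0) (hv0' : Cfsg.hermForm n F q v' v' = 0) :
    Nat.card (Fib (F := F) n q k v) = Nat.card (Fib (F := F) n q k v') :=
  le_antisymm (card_fib_le hF v v' hv hv0 hv' hv0') (card_fib_le hF v' v hv' hv0' hv hv0)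

theorem frame_cons_iff (hF : Fintype.card F = q ^ 2) (a : F) (ha : a * a ^ q = -1)
    (w : Fin k → (Fin (n + 2) → F)) :
    IsoFrameH (n + 2) q (k + 1)
        (Fin.cons (mk3 1 a (0 : Fin n → F)) w : Fin (k + 1) → (Fin (n + 2) → F)) ↔
      (∀ i, w i 0 = -(a ^ q) * w i 1) ∧ IsoFrameH n q k (fun i => tt (w i)) := by
  have hq : q ≠ 0 := by have := two_le_q hF; omega
  have haq : (a ^ q) ^ q = a := pow_q_pow_q hF a
  have hz : ∀ u : Fin n → F, Cfsg.hermForm n F q u 0 = 0 := fun u => hermForm_zero_right n hq u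
  have hz' : ∀ u : Fin n → F, Cfsg.hermForm n F q 0 u = 0 := fun u => by simp [Cfsg.hermForm]
  -- Gram computation for vectors orthogonal to v₀
  have gram : ∀ i j, w i 0 = -(a ^ q) * w i 1 → w j 0 = -(a ^ q) * w j 1 →
      Cfsg.hermForm (n + 2) F q (w i) (w j) = Cfsg.hermForm n F q (tt (w i)) (tt (w j)) := by
    intro i j hi hj
    rw [herm_split, hi, hj]
    have e : (-(a ^ q) * w j 1) ^ q = -(a * (w j 1) ^ q) := by
      rw [neg_mul, neg_pow_q hF, mul_pow, haq]
    rw [e]
    linear_combination (w i 1 * (w j 1) ^ q) * ha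
  constructor
  · rintro ⟨hli, h0⟩
    have h1 : ∀ i, w i 0 = -(a ^ q) * w i 1 := by
      intro i
      have h2 := h0 i.succ 0
      simp only [Fin.cons_succ, Fin.cons_zero] at h2
      rw [herm_split, mk3_zero, mk3_one, tt_mk3, hz, one_pow] at h2
      linear_combination h2
    refine ⟨h1, ?_, fun i j => ?_⟩
    · rw [Fintype.linearIndependent_iff]
      intro g hg
      rw [Fintype.linearIndependent_iff] at hli
      set Y : F := ∑ i, g i * w i 1 with hY
      have hz0 : (∑ i, g i • w i) = (-(a ^ q) * Y) • mk3 1 a (0 : Fin n → F) := by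
        rw [← mk3_eta (∑ i, g i • w i), ← mk3_eta ((-(a ^ q) * Y) • mk3 1 a (0 : Fin n → F))]
        have e0 : (∑ i, g i • w i) 0 = -(a ^ q) * Y := by
          rw [Finset.sum_apply, hY, Finset.mul_sum]
          apply Finset.sum_congr rfl
          intro i _
          rw [Pi.smul_apply, smul_eq_mul, h1 i]
          ring
        have e1 : (∑ i, g i • w i) 1 = Y := by
          rw [Finset.sum_apply, hY]
          rfl
        have e2 : tt (∑ i, g i • w i) = 0 := by
          rw [tt_sum]
          exact hg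
        rw [e0, e1, e2]
        have e3 : ((-(a ^ q) * Y) • mk3 1 a (0 : Fin n → F)) 0 = -(a ^ q) * Y := by
          rw [Pi.smul_apply, mk3_zero, smul_eq_mul, mul_one]
        have e4 : ((-(a ^ q) * Y) • mk3 1 a (0 : Fin n → F)) 1 = Y := by
          rw [Pi.smul_apply, mk3_one, smul_eq_mul]
          linear_combination (-Y) * ha
        have e5 : tt ((-(a ^ q) * Y) • mk3 1 a (0 : Fin n → F)) = 0 := by
          rw [tt_smul, tt_mk3, smul_zero]
        rw [e3, e4, e5]
      have h3 := hli (Fin.cons (a ^ q * Y) g) (by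
        rw [Fin.sum_univ_succ]
        simp only [Fin.cons_zero, Fin.cons_succ]
        rw [hz0, ← add_smul]
        have : a ^ q * Y + -(a ^ q) * Y = 0 := by ring
        rw [this, zero_smul])
      intro i
      have := h3 i.succ
      simpa using this
    · have h2 := h0 i.succ j.succ
      simp only [Fin.cons_succ] at h2
      rw [gram i j (h1 i) (h1 j)] at h2
      exact h2
  · rintro ⟨h1, hli, h0⟩
    refine ⟨?_, fun i j => ?_⟩
    · rw [Fintype.linearIndependent_iff]
      intro g hg
      rw [Fin.sum_univ_succ] at hg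
      simp only [Fin.cons_zero, Fin.cons_succ] at hg
      have h2 := congrArg tt hg
      rw [tt_add, tt_smul, tt_mk3, smul_zero, zero_add, tt_sum] at h2
      have h3 : ∀ i : Fin k, g i.succ = 0 := by
        rw [Fintype.linearIndependent_iff] at hli
        exact hli (fun i : Fin k => g i.succ) h2
      have h4 : g 0 = 0 := by
        have h5 := congrFun hg 0
        simp only [h3, zero_smul, Finset.sum_const_zero, add_zero, Pi.smul_apply, mk3_zero,
          smul_eq_mul, mul_one, Pi.zero_apply] at h5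
        exact h5
      intro i
      refine Fin.cases h4 h3 i
    · refine Fin.cases ?_ (fun i => ?_) i <;> refine Fin.cases ?_ (fun j => ?_) j
      · simp only [Fin.cons_zero]
        rw [herm_split, mk3_zero, mk3_one, tt_mk3, hz, one_pow]
        linear_combination ha
      · simp only [Fin.cons_zero, Fin.cons_succ]
        rw [herm_split, mk3_zero, mk3_one, tt_mk3, hz', h1 j]
        have e : (-(a ^ q) * w j 1) ^ q = -(a * (w j 1) ^ q) := by
          rw [neg_mul, neg_pow_q hF, mul_pow, haq]
        rw [e]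
        ring
      · simp only [Fin.cons_zero, Fin.cons_succ]
        rw [herm_split, mk3_zero, mk3_one, tt_mk3, hz, one_pow, h1 i]
        ring
      · simp only [Fin.cons_succ]
        rw [gram i j (h1 i) (h1 j)]
        exact h0 i j

/-- the fibre over the standard isotropic vector -/
def fibEquiv (hF : Fintype.card F = q ^ 2) (a : F) (ha : a * a ^ q = -1) :
    Fib (F := F) (n + 2) q k (mk3 1 a (0 : Fin n → F)) ≃
      (Fin k → F) × {u : Fin k → (Fin n → F) // IsoFrameH n q k u} where
  toFun w := (fun i => w.1 i 1, ⟨fun i => tt (w.1 i), ((frame_cons_iff hF a ha w.1).mp w.2).2⟩)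
  invFun p := ⟨fun i => mk3 (-(a ^ q) * p.1 i) (p.1 i) (p.2.1 i),
    (frame_cons_iff hF a ha _).mpr ⟨fun i => rfl, p.2.2⟩⟩
  left_inv w := by
    apply Subtype.ext
    funext i
    show mk3 (-(a ^ q) * w.1 i 1) (w.1 i 1) (tt (w.1 i)) = w.1 i
    rw [← ((frame_cons_iff hF a ha w.1).mp w.2).1 i, mk3_eta]
  right_inv p := rfl

end fibre

/-! ### counting -/

section count
variable {n k : ℕ}

/-- nonzero isotropic vectors -/
abbrev IsoVec (F : Type*) [Field F] (n q : ℕ) : Type _ :=
  {v : Fin n → F // v ≠ 0 ∧ Cfsg.hermForm n F q v v = 0}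

/-- all frames -/
abbrev Frames (F : Type*) [Field F] (n q k : ℕ) : Type _ :=
  {s : Fin k → (Fin n → F) // IsoFrameH n q k s}

/-- a frame of length `k + 1` is a first vector together with an element of its fibre -/
def frameSigma (n q k : ℕ) : Frames F n q (k + 1) ≃ Σ v : IsoVec F n q, Fib (F := F) n q k v.1 where
  toFun s := ⟨⟨s.1 0, s.2.1.ne_zero 0, s.2.2 0 0⟩, ⟨Fin.tail s.1, by
    rw [Fin.cons_self_tail]
    exact s.2⟩⟩
  invFun x := ⟨Fin.cons x.1.1 x.2.1, x.2.2⟩
  left_inv s := Subtype.ext (Fin.cons_self_tail s.1)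
  right_inv := by
    rintro ⟨⟨v, hv⟩, ⟨w, hw⟩⟩
    rfl

omit [Fintype F] in
theorem card_frames_zero : Nat.card (Frames F n q 0) = 1 := by
  have : Unique (Frames F n q 0) :=
    { default := ⟨Fin.elim0, linearIndependent_empty_type, fun i => i.elim0⟩
      uniq := fun s => Subtype.ext (Subsingleton.elim _ _) }
  exact Nat.card_unique

theorem card_frames_succ (hF : Fintype.card F = q ^ 2) (n k : ℕ) :
    Nat.card (Frames F (n + 2) q (k + 1)) =
      Nat.card (IsoVec F (n + 2) q) * ((q ^ 2) ^ k * Nat.card (Frames F n q k)) := by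
  classical
  have hq : q ≠ 0 := by have := two_le_q hF; omega
  obtain ⟨a, ha⟩ := exists_norm_neg_one hF
  have hv₀ : (mk3 1 a (0 : Fin n → F)) ≠ 0 := by
    intro h
    have := congrFun h 0
    simp at this
  have hv₀0 : Cfsg.hermForm (n + 2) F q (mk3 1 a (0 : Fin n → F)) (mk3 1 a (0 : Fin n → F)) = 0 := by
    rw [herm_split, mk3_zero, mk3_one, tt_mk3, hermForm_zero_right n hq, one_pow]
    linear_combination ha
  have : Fintype (IsoVec F (n + 2) q) := Fintype.ofFinite _
  rw [Nat.card_congr (frameSigma (n + 2) q k), Nat.card_sigma]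
  have h1 : ∀ v : IsoVec F (n + 2) q, Nat.card (Fib (F := F) (n + 2) q k v.1) =
      (q ^ 2) ^ k * Nat.card (Frames F n q k) := by
    intro v
    rw [card_fib_eq hF v.1 _ v.2.1 v.2.2 hv₀ hv₀0, Nat.card_congr (fibEquiv hF a ha),
      Nat.card_prod, Nat.card_fun, Nat.card_eq_fintype_card (α := F), hF,
      Nat.card_eq_fintype_card, Fintype.card_fin]
  rw [Finset.sum_congr rfl (fun v _ => h1 v), Finset.sum_const, Finset.card_univ, smul_eq_mul,
    ← Nat.card_eq_fintype_card (α := IsoVec F (n + 2) q)]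

theorem card_isoVec_add_one (n q : ℕ) :
    Nat.card (IsoVec F n q) + 1 = Nat.card {v : Fin n → F // Cfsg.hermForm n F q v v = 0} := by
  classical
  have h1 : {v : Fin n → F | Cfsg.hermForm n F q v v = 0} =
      insert 0 {v : Fin n → F | v ≠ 0 ∧ Cfsg.hermForm n F q v v = 0} := by
    ext v
    simp only [Set.mem_ofPred_eq, Set.mem_insert_iff]
    constructor
    · intro h
      by_cases hv : v = 0
      · exact Or.inl hv
      · exact Or.inr ⟨hv, h⟩
    · rintro (rfl | h)
      · simp [Cfsg.hermForm]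
      · exact h.2
  show Nat.card ↥{v : Fin n → F | v ≠ 0 ∧ Cfsg.hermForm n F q v v = 0} + 1 =
    Nat.card ↥{v : Fin n → F | Cfsg.hermForm n F q v v = 0}
  rw [Nat.card_coe_set_eq, Nat.card_coe_set_eq, h1, Set.ncard_insert_of_notMem _ (Set.toFinite _)]
  intro h
  exact h.1 rfl

end count

/-! ### from frames to subspaces -/

section subspaces
variable {n k : ℕ}

omit [Fintype F] in
theorem span_eq_of_indep (W : Submodule F (Fin n → F)) (b : Fin k → (Fin n → F))
    (hb : LinearIndependent F b) (hbW : ∀ i, b i ∈ W) (hk : finrank F W = k) :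
    span F (Set.range b) = W := by
  apply Submodule.eq_of_le_of_finrank_eq
  · rw [span_le]
    rintro _ ⟨i, rfl⟩
    exact hbW i
  · rw [finrank_span_eq_card hb, Fintype.card_fin, hk]

/-- frames inside `W` are linearly independent families of `W` -/
def basesEquiv (W : Submodule F (Fin n → F)) :
    {b : Fin k → (Fin n → F) // LinearIndependent F b ∧ ∀ i, b i ∈ W} ≃
      {s : Fin k → W // LinearIndependent F s} where
  toFun b := ⟨fun i => ⟨b.1 i, b.2.2 i⟩, LinearIndependent.of_comp W.subtype b.2.1⟩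
  invFun s := ⟨fun i => (s.1 i : Fin n → F),
    s.2.map' W.subtype (Submodule.ker_subtype W), fun i => (s.1 i).2⟩
  left_inv _ := rfl
  right_inv _ := rfl

theorem card_bases (W : Submodule F (Fin n → F)) (hk : finrank F W = k) :
    Nat.card {b : Fin k → (Fin n → F) // LinearIndependent F b ∧ ∀ i, b i ∈ W} =
      ∏ i : Fin k, (Fintype.card F ^ k - Fintype.card F ^ (i : ℕ)) := by
  have : Finite W := Module.finite_of_finite F
  rw [Nat.card_congr (basesEquiv W), card_linearIndependent (le_of_eq hk.symm), hk]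

/-- totally isotropic subspaces of dimension `k` -/
abbrev IsoSub (F : Type*) [Field F] (n q k : ℕ) : Type _ :=
  {W : Submodule F (Fin n → F) // finrank F W = k ∧
    ∀ u ∈ W, ∀ v ∈ W, Cfsg.hermForm n F q u v = 0}

/-- the span of a frame -/
def spanMap (hF : Fintype.card F = q ^ 2) (s : Frames F n q k) : IsoSub F n q k :=
  ⟨span F (Set.range s.1), by rw [finrank_span_eq_card s.2.1, Fintype.card_fin],
    fun _ hu _ hv => herm_zero_of_span hF s.2.2 hu hv⟩

/-- the frames spanning a given subspace -/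
def fibreEquiv (hF : Fintype.card F = q ^ 2) (W : IsoSub F n q k) :
    {s : Frames F n q k // spanMap hF s = W} ≃
      {b : Fin k → (Fin n → F) // LinearIndependent F b ∧ ∀ i, b i ∈ W.1} where
  toFun s := ⟨s.1.1, s.1.2.1, fun i => by
    have h := congrArg Subtype.val s.2
    change span F (Set.range s.1.1) = W.1 at h
    rw [← h]
    exact subset_span ⟨i, rfl⟩⟩
  invFun b := ⟨⟨b.1, b.2.1, fun i j => W.2.2 _ (b.2.2 i) _ (b.2.2 j)⟩,
    Subtype.ext (span_eq_of_indep W.1 b.1 b.2.1 b.2.2 W.2.1)⟩
  left_inv _ := rfl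
  right_inv _ := rfl

theorem card_isoSub_mul (hF : Fintype.card F = q ^ 2) :
    Nat.card (IsoSub F n q k) * ∏ i : Fin k, ((q ^ 2) ^ k - (q ^ 2) ^ (i : ℕ)) =
      Nat.card (Frames F n q k) := by
  classical
  have : Finite (Submodule F (Fin n → F)) :=
    Finite.of_injective (fun W => (W : Set (Fin n → F))) SetLike.coe_injective
  have : Fintype (IsoSub F n q k) := Fintype.ofFinite _
  rw [← Nat.card_congr (Equiv.sigmaFiberEquiv (spanMap (n := n) (k := k) hF)), Nat.card_sigma]
  have h1 : ∀ W : IsoSub F n q k, Nat.card {s : Frames F n q k // spanMap hF s = W} =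
      ∏ i : Fin k, ((q ^ 2) ^ k - (q ^ 2) ^ (i : ℕ)) := by
    intro W
    rw [Nat.card_congr (fibreEquiv hF W), card_bases W.1 W.2.1, hF]
  rw [Finset.sum_congr rfl (fun W _ => h1 W), Finset.sum_const, Finset.card_univ, smul_eq_mul,
    ← Nat.card_eq_fintype_card (α := IsoSub F n q k)]

end subspaces

end Cfsg.Agent.Lib.Helper13_HermFrames
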