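import Mathlib

set_option autoImplicit false

namespace Cfsg.Agent.Lib.Helper13_IsoFrames

open Module Submodule

section Count

variable {F V : Type*} [Field F] [AddCommGroup V] [Module F V]
  (B : LinearMap.BilinForm F V)

/-- isotropic frames: linearly independent families on which the form vanishes -/
def IsoFrame (k : ℕ) (s : Fin k → V) : Prop :=
  LinearIndependent F s ∧ ∀ i j, B (s i) (s j) = 0

variable {B}

theorem form_zero_of_span {k : ℕ} {s : Fin k → V} (h0 : ∀ i j, B (s i) (s j) = 0)
    {x y : V} (hx : x ∈ span F (Set.range s)) (hy : y ∈ span F (Set.range s)) : B x y = 0 := by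
  induction hx using Submodule.span_induction with
  | mem x hx =>
    obtain ⟨i, rfl⟩ := hx
    induction hy using Submodule.span_induction with
    | mem y hy =>
      obtain ⟨j, rfl⟩ := hy
      exact h0 i j
    | zero => simp
    | add y z _ _ hy hz => rw [map_add, hy, hz, add_zero]
    | smul a y _ hy => rw [map_smul, hy, smul_zero]
  | zero => simp
  | add x z _ _ hx hz => rw [map_add, LinearMap.add_apply, hx, hz, add_zero]
  | smul a x _ hx => rw [map_smul, LinearMap.smul_apply, hx, smul_zero]

theorem mem_orthogonal_span_iff {k : ℕ} (s : Fin k → V) (v : V) :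
    v ∈ B.orthogonal (span F (Set.range s)) ↔ ∀ i, B (s i) v = 0 := by
  rw [LinearMap.BilinForm.mem_orthogonal_iff]
  constructor
  · intro h i
    exact h _ (subset_span ⟨i, rfl⟩)
  · intro h x hx
    induction hx using Submodule.span_induction with
    | mem x hx =>
      obtain ⟨i, rfl⟩ := hx
      exact h i
    | zero => simp
    | add x z _ _ hx hz => rw [map_add, LinearMap.add_apply, hx, hz, add_zero]
    | smul a x _ hx => rw [map_smul, LinearMap.smul_apply, hx, smul_zero]

theorem isoFrame_cons (hA : B.IsAlt) (k : ℕ) (s : Fin k → V) (v : V) :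
    IsoFrame B (k + 1) (Fin.cons v s) ↔
      IsoFrame B k s ∧ v ∉ span F (Set.range s) ∧ ∀ i, B (s i) v = 0 := by
  unfold IsoFrame
  rw [linearIndependent_finCons]
  constructor
  · rintro ⟨⟨h1, h2⟩, h3⟩
    refine ⟨⟨h1, fun i j => ?_⟩, h2, fun i => ?_⟩
    · have := h3 i.succ j.succ
      simpa using this
    · have := h3 i.succ 0
      simpa using this
  · rintro ⟨⟨h1, h3⟩, h2, h4⟩
    refine ⟨⟨h1, h2⟩, fun i j => ?_⟩
    refine Fin.cases ?_ (fun i' => ?_) i <;> refine Fin.cases ?_ (fun j' => ?_) j
    · simp only [Fin.cons_zero]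
      exact hA v
    · simp only [Fin.cons_zero, Fin.cons_succ]
      rw [← hA.neg_eq, h4, neg_zero]
    · simp only [Fin.cons_zero, Fin.cons_succ]
      exact h4 i'
    · simp only [Fin.cons_succ]
      exact h3 i' j'

/-- peeling off the first vector of an isotropic frame -/
def frameEquiv (hA : B.IsAlt) (k : ℕ) :
    {s : Fin (k + 1) → V // IsoFrame B (k + 1) s} ≃
      Σ s : {s : Fin k → V // IsoFrame B k s},
        {v : V // v ∉ span F (Set.range s.1) ∧ ∀ i, B (s.1 i) v = 0} where
  toFun s := ⟨⟨Fin.tail s.1, by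
      have h := s.2
      rw [← Fin.cons_self_tail s.1, isoFrame_cons hA] at h
      exact h.1⟩, ⟨s.1 0, by
      have h := s.2
      rw [← Fin.cons_self_tail s.1, isoFrame_cons hA] at h
      exact h.2⟩⟩
  invFun x := ⟨Fin.cons x.2.1 x.1.1, (isoFrame_cons hA k x.1.1 x.2.1).mpr ⟨x.1.2, x.2.2⟩⟩
  left_inv s := by
    apply Subtype.ext
    exact Fin.cons_self_tail s.1
  right_inv := by
    rintro ⟨⟨s, hs⟩, ⟨v, hv⟩⟩
    rfl

variable [Fintype F] [FiniteDimensional F V]

theorem card_fibre (hN : B.Nondegenerate) (k : ℕ) (s : Fin k → V) (hs : IsoFrame B k s) :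
    Nat.card {v : V // v ∉ span F (Set.range s) ∧ ∀ i, B (s i) v = 0} =
      Fintype.card F ^ (finrank F V - k) - Fintype.card F ^ k := by
  classical
  have : Finite V := Module.finite_of_finite F
  set S := span F (Set.range s) with hS
  set O := B.orthogonal S with hO
  have hSO : S ≤ O := by
    intro x hx
    rw [hO, LinearMap.BilinForm.mem_orthogonal_iff]
    intro y hy
    exact form_zero_of_span hs.2 hy hx
  have hfS : finrank F S = k := by
    rw [hS, finrank_span_eq_card hs.1, Fintype.card_fin]
  have hfO : finrank F O = finrank F V - k := by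
    rw [hO, LinearMap.BilinForm.finrank_orthogonal hN, hfS]
  have h1 : Nat.card {v : V // v ∉ S ∧ ∀ i, B (s i) v = 0} =
      ((O : Set V) \ (S : Set V)).ncard := by
    rw [← Nat.card_coe_set_eq]
    apply Nat.card_congr
    apply Equiv.subtypeEquivRight
    intro v
    rw [Set.mem_sdiff, SetLike.mem_coe, SetLike.mem_coe, hO, mem_orthogonal_span_iff, and_comm]
  rw [h1, Set.ncard_sdiff (by exact_mod_cast hSO) (Set.toFinite _), ← Nat.card_coe_set_eq,
    ← Nat.card_coe_set_eq]
  have h2 : Nat.card (O : Set V) = Fintype.card F ^ (finrank F V - k) := by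
    rw [← hfO, ← Nat.card_eq_fintype_card]
    exact Module.natCard_eq_pow_finrank (K := F) (V := O)
  have h3 : Nat.card (S : Set V) = Fintype.card F ^ k := by
    rw [← hfS, ← Nat.card_eq_fintype_card]
    exact Module.natCard_eq_pow_finrank (K := F) (V := S)
  rw [h2, h3]

theorem card_isoFrames (hN : B.Nondegenerate) (hA : B.IsAlt) (k : ℕ) :
    Nat.card {s : Fin k → V // IsoFrame B k s} =
      ∏ i ∈ Finset.range k, (Fintype.card F ^ (finrank F V - i) - Fintype.card F ^ i) := by
  classical
  have : Finite V := Module.finite_of_finite F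
  induction k with
  | zero =>
    rw [Finset.prod_range_zero]
    have : Unique {s : Fin 0 → V // IsoFrame B 0 s} :=
      { default := ⟨Fin.elim0, linearIndependent_empty_type, fun i => i.elim0⟩
        uniq := fun s => Subtype.ext (Subsingleton.elim _ _) }
    exact Nat.card_unique
  | succ k ih =>
    have : Fintype {s : Fin k → V // IsoFrame B k s} := Fintype.ofFinite _
    rw [Nat.card_congr (frameEquiv hA k), Nat.card_sigma, Finset.prod_range_succ, ← ih]
    rw [Finset.sum_congr rfl (fun s _ => card_fibre hN k s.1 s.2), Finset.sum_const,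
      Finset.card_univ, smul_eq_mul, Nat.card_eq_fintype_card]

end Count

end Cfsg.Agent.Lib.Helper13_IsoFrames
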