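import Mathlib
import Cfsg.Prelude.Def_Transfer
import Cfsg.Agent.S3769
import Cfsg.Agent.Lib.Helper20_PGroupOdd
import Cfsg.Agent.Lib.Helper22_Basic
import Cfsg.Agent.Lib.Helper24_CoprimeHall

/-!
# Lemma W of helper76 (B-G section 13), formalised by helper13

`P` of order `p` central in a non-cyclic `p`-group `S₀` (`p` odd), `K ⋊ R` a solvable group of odd
order prime to `p` centralising `P` and normalising `S₀`, `R` of prime order with `C_{S₀}(R)` cyclic.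
Then some elementary abelian `A` of order `p²` with `P ≤ A ≤ S₀` is centralised by `[R, K]`.
-/

set_option autoImplicit false

namespace Cfsg.Agent.Lib.Helper13_LemmaW

open scoped commutatorElement

section basic

variable {X : Type*} [Group X]

/-- the conjugation trick: if `g v g⁻¹ v⁻¹ = z` is centralised by `g`, `g ^ n = 1`, `z ^ p = 1`
with `n`, `p` coprime, then `z = 1` -/
theorem comm_eq_one_of_coprime (g v : X) (n p : ℕ) (hg : g ^ n = 1)
    (hz : g * (g * v * g⁻¹ * v⁻¹) = (g * v * g⁻¹ * v⁻¹) * g)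
    (hzp : (g * v * g⁻¹ * v⁻¹) ^ p = 1) (hnp : n.Coprime p) : g * v * g⁻¹ * v⁻¹ = 1 := by
  set z := g * v * g⁻¹ * v⁻¹ with hzdef
  have hc : Commute g z := hz
  have key : ∀ k : ℕ, g ^ k * v * (g ^ k)⁻¹ = z ^ k * v := by
    intro k
    induction k with
    | zero => simp
    | succ k ih =>
      have h1 : g ^ (k + 1) * v * (g ^ (k + 1))⁻¹ = g * (g ^ k * v * (g ^ k)⁻¹) * g⁻¹ := by
        rw [pow_succ']; group
      rw [h1, ih]
      have h2 : g * (z ^ k * v) * g⁻¹ = z ^ k * (g * v * g⁻¹) := by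
        have := (hc.pow_right k).eq
        calc g * (z ^ k * v) * g⁻¹ = (g * z ^ k) * v * g⁻¹ := by group
          _ = (z ^ k * g) * v * g⁻¹ := by rw [this]
          _ = z ^ k * (g * v * g⁻¹) := by group
      rw [h2]
      have h3 : g * v * g⁻¹ = z * v := by rw [hzdef]; group
      rw [h3, ← mul_assoc, ← pow_succ]
  have h1 := key n
  rw [hg] at h1
  have h2 : z ^ n = 1 := by
    have : z ^ n * v = 1 * v := by rw [← h1]; group
    exact mul_right_cancel this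
  have h3 : orderOf z ∣ n := orderOf_dvd_of_pow_eq_one h2
  have h4 : orderOf z ∣ p := orderOf_dvd_of_pow_eq_one hzp
  have h5 : orderOf z ∣ 1 := by
    have := Nat.dvd_gcd h3 h4
    rwa [hnp] at this
  exact orderOf_eq_one_iff.mp (Nat.dvd_one.mp h5)

/-- in a cyclic subgroup `C` containing a subgroup `P` of prime order `p`, the elements of order
dividing `p` lie in `P` -/
theorem mem_of_isCyclic_of_pow [Finite X] {p : ℕ} (hp : p.Prime) (C P : Subgroup X)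
    (hC : IsCyclic ↥C) (hP : Nat.card P = p) (hPC : P ≤ C) {v : X} (hvC : v ∈ C)
    (hv : v ^ p = 1) : v ∈ P := by
  classical
  by_contra hvP
  haveI : Fintype ↥C := Fintype.ofFinite _
  haveI : Fintype ↥P := Fintype.ofFinite _
  have h1 := IsCyclic.card_pow_eq_one_le (α := ↥C) (n := p) hp.pos
  let ι : ↥P ↪ ↥C := ⟨fun x => ⟨x.1, hPC x.2⟩, fun a b hab => Subtype.ext (by
    have := congrArg Subtype.val hab
    exact this)⟩
  have hnot : (⟨v, hvC⟩ : ↥C) ∉ (Finset.univ : Finset ↥P).map ι := by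
    intro hmem
    rw [Finset.mem_map] at hmem
    obtain ⟨x, -, hx⟩ := hmem
    apply hvP
    have : (x : X) = v := congrArg Subtype.val hx
    rw [← this]
    exact x.2
  have hsub : insert (⟨v, hvC⟩ : ↥C) ((Finset.univ : Finset ↥P).map ι) ⊆
      Finset.univ.filter (fun a : ↥C => a ^ p = 1) := by
    intro a ha
    rw [Finset.mem_filter]
    refine ⟨Finset.mem_univ _, ?_⟩
    rw [Finset.mem_insert] at ha
    rcases ha with rfl | ha
    · apply Subtype.ext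
      show v ^ p = 1
      exact hv
    · rw [Finset.mem_map] at ha
      obtain ⟨x, -, rfl⟩ := ha
      apply Subtype.ext
      show (x : X) ^ p = 1
      have : x ^ Nat.card ↥P = 1 := pow_card_eq_one'
      rw [hP] at this
      exact congrArg Subtype.val this
  have h2 := Finset.card_le_card hsub
  rw [Finset.card_insert_of_notMem hnot, Finset.card_map, Finset.card_univ,
    ← Nat.card_eq_fintype_card, hP] at h2
  omega

end basic

section bsub

variable {X : Type*} [Group X]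

/-- the elements of `S₀` of order dividing `p` whose commutators with `S₀` lie in the central
subgroup `P` of exponent `p` (`p` odd) -/
def bsub (p : ℕ) (hp : p.Prime) (hp2 : p ≠ 2) (P S₀ : Subgroup X) (hPp : ∀ z ∈ P, z ^ p = 1)
    (hPZ : S₀ ≤ Subgroup.centralizer (P : Set X)) : Subgroup X where
  carrier := {x | x ∈ S₀ ∧ x ^ p = 1 ∧ ∀ y ∈ S₀, x * y * x⁻¹ * y⁻¹ ∈ P}
  one_mem' := by
    refine ⟨S₀.one_mem, one_pow p, ?_⟩
    intro y _
    have : (1 : X) * y * 1⁻¹ * y⁻¹ = 1 := by group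
    rw [this]
    exact P.one_mem
  inv_mem' := by
    rintro x ⟨hx, hxp, hxc⟩
    refine ⟨S₀.inv_mem hx, by rw [inv_pow, hxp, inv_one], ?_⟩
    intro y hy
    have hc := hxc y hy
    have hcomm : (x * y * x⁻¹ * y⁻¹) * x = x * (x * y * x⁻¹ * y⁻¹) :=
      Subgroup.mem_centralizer_iff.mp (hPZ hx) _ hc
    have e : x⁻¹ * y * x⁻¹⁻¹ * y⁻¹ = (x * y * x⁻¹ * y⁻¹)⁻¹ := by
      have : x⁻¹ * y * x⁻¹⁻¹ * y⁻¹ = x⁻¹ * (x * y * x⁻¹ * y⁻¹)⁻¹ * x := by group
      rw [this]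
      have h2 : x⁻¹ * (x * y * x⁻¹ * y⁻¹)⁻¹ * x = (x⁻¹ * (x * y * x⁻¹ * y⁻¹) * x)⁻¹ := by group
      rw [h2, mul_assoc, hcomm]
      group
    rw [e]
    exact P.inv_mem hc
  mul_mem' := by
    rintro x x' ⟨hx, hxp, hxc⟩ ⟨hx', hxp', hxc'⟩
    refine ⟨S₀.mul_mem hx hx', ?_, ?_⟩
    · have hc : x' * x * x'⁻¹ * x⁻¹ ∈ P := hxc' x hx
      have h1 : x' * x = (x' * x * x'⁻¹ * x⁻¹) * x * x' := by group
      have c1 : Commute (x' * x * x'⁻¹ * x⁻¹) x :=
        Subgroup.mem_centralizer_iff.mp (hPZ hx) _ hc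
      have c2 : Commute (x' * x * x'⁻¹ * x⁻¹) x' :=
        Subgroup.mem_centralizer_iff.mp (hPZ hx') _ hc
      rw [Cfsg.Agent.Lib.Helper20_PGroupOdd.mul_pow_prime_of_comm hp hp2 h1 c1 c2 (hPp _ hc),
        hxp, hxp', one_mul]
    · intro y hy
      have hc' := hxc' y hy
      have hc := hxc y hy
      have hcomm : (x' * y * x'⁻¹ * y⁻¹) * x = x * (x' * y * x'⁻¹ * y⁻¹) :=
        Subgroup.mem_centralizer_iff.mp (hPZ hx) _ hc'
      have e : x * x' * y * (x * x')⁻¹ * y⁻¹ =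
          (x * (x' * y * x'⁻¹ * y⁻¹)) * x⁻¹ * (x * y * x⁻¹ * y⁻¹) := by group
      rw [e, ← hcomm]
      have e2 : x' * y * x'⁻¹ * y⁻¹ * x * x⁻¹ = x' * y * x'⁻¹ * y⁻¹ := by group
      rw [e2]
      exact P.mul_mem hc' hc

theorem mem_bsub {p : ℕ} {hp : p.Prime} {hp2 : p ≠ 2} {P S₀ : Subgroup X}
    {hPp : ∀ z ∈ P, z ^ p = 1} {hPZ : S₀ ≤ Subgroup.centralizer (P : Set X)} {x : X} :
    x ∈ bsub p hp hp2 P S₀ hPp hPZ ↔
      x ∈ S₀ ∧ x ^ p = 1 ∧ ∀ y ∈ S₀, x * y * x⁻¹ * y⁻¹ ∈ P := Iff.rfl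

/-- elements normalising `S₀` and centralising `P` normalise `bsub` -/
theorem conj_mem_bsub {p : ℕ} {hp : p.Prime} {hp2 : p ≠ 2} {P S₀ : Subgroup X}
    {hPp : ∀ z ∈ P, z ^ p = 1} {hPZ : S₀ ≤ Subgroup.centralizer (P : Set X)} {g : X}
    (hgS : g ∈ Subgroup.normalizer (S₀ : Set X)) (hgP : g ∈ Subgroup.centralizer (P : Set X))
    {x : X} (hx : x ∈ bsub p hp hp2 P S₀ hPp hPZ) :
    g * x * g⁻¹ ∈ bsub p hp hp2 P S₀ hPp hPZ := by
  obtain ⟨hxS, hxp, hxc⟩ := hx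
  refine ⟨(Subgroup.mem_normalizer_iff.mp hgS x).mp hxS, ?_, ?_⟩
  · rw [conj_pow, hxp, mul_one, mul_inv_cancel]
  · intro y hy
    have hy' : g⁻¹ * y * g ∈ S₀ := (Subgroup.mem_normalizer_iff''.mp hgS y).mp hy
    have hc := hxc _ hy'
    have hcomm : (x * (g⁻¹ * y * g) * x⁻¹ * (g⁻¹ * y * g)⁻¹) * g =
        g * (x * (g⁻¹ * y * g) * x⁻¹ * (g⁻¹ * y * g)⁻¹) :=
      Subgroup.mem_centralizer_iff.mp hgP _ hc
    have e : g * x * g⁻¹ * y * (g * x * g⁻¹)⁻¹ * y⁻¹ =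
        g * (x * (g⁻¹ * y * g) * x⁻¹ * (g⁻¹ * y * g)⁻¹) * g⁻¹ := by group
    rw [e, ← hcomm]
    have e2 : x * (g⁻¹ * y * g) * x⁻¹ * (g⁻¹ * y * g)⁻¹ * g * g⁻¹ =
        x * (g⁻¹ * y * g) * x⁻¹ * (g⁻¹ * y * g)⁻¹ := by group
    rw [e2]
    exact hc

theorem le_normalizer_bsub {p : ℕ} {hp : p.Prime} {hp2 : p ≠ 2} {P S₀ : Subgroup X}
    {hPp : ∀ z ∈ P, z ^ p = 1} {hPZ : S₀ ≤ Subgroup.centralizer (P : Set X)} (H : Subgroup X)
    (hHS : H ≤ Subgroup.normalizer (S₀ : Set X)) (hHP : H ≤ Subgroup.centralizer (P : Set X)) :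
    H ≤ Subgroup.normalizer ((bsub p hp hp2 P S₀ hPp hPZ : Subgroup X) : Set X) := by
  intro g hg
  rw [Subgroup.mem_normalizer_iff]
  intro x
  constructor
  · exact conj_mem_bsub (hHS hg) (hHP hg)
  · intro hx
    have := conj_mem_bsub (hp := hp) (hp2 := hp2) (hPp := hPp) (hPZ := hPZ)
      (hHS (H.inv_mem hg)) (hHP (H.inv_mem hg)) hx
    have e : g⁻¹ * (g * x * g⁻¹) * g⁻¹⁻¹ = x := by group
    rwa [e] at this

theorem le_bsub {p : ℕ} {hp : p.Prime} {hp2 : p ≠ 2} {P S₀ : Subgroup X}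
    {hPp : ∀ z ∈ P, z ^ p = 1} {hPZ : S₀ ≤ Subgroup.centralizer (P : Set X)} (hPS : P ≤ S₀) :
    P ≤ bsub p hp hp2 P S₀ hPp hPZ := by
  intro x hx
  refine ⟨hPS hx, hPp x hx, ?_⟩
  intro y hy
  have hcomm : x * y = y * x := Subgroup.mem_centralizer_iff.mp (hPZ hy) x hx
  have : x * y * x⁻¹ * y⁻¹ = 1 := by rw [hcomm]; group
  rw [this]
  exact P.one_mem

/-- `bsub` is strictly larger than `P` when `S₀` is not cyclic -/
theorem exists_mem_bsub_not_mem [Finite X] {p : ℕ} [hpf : Fact p.Prime] {hp2 : p ≠ 2}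
    {P S₀ : Subgroup X}
    {hPp : ∀ z ∈ P, z ^ p = 1} {hPZ : S₀ ≤ Subgroup.centralizer (P : Set X)}
    (hP : Nat.card P = p) (hS₀ : IsPGroup p S₀) (hnc : ¬ IsCyclic S₀) :
    ∃ v, v ∈ bsub p hpf.out hp2 P S₀ hPp hPZ ∧ v ∉ P := by
  have hnc' : ¬ IsCyclic ↥(⊤ : Subgroup ↥S₀) := by
    intro h
    apply hnc
    exact isCyclic_of_surjective (Subgroup.topEquiv : ↥(⊤ : Subgroup ↥S₀) ≃* ↥S₀)
      Subgroup.topEquiv.surjective
  obtain ⟨z, h, hg⟩ := Cfsg.Agent.Lib.Helper20_PGroupOdd.exists_good hp2 hS₀ ⊤ hnc'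
  obtain ⟨-, -, hzc, hzo, hhp, hhz, hcomm⟩ := hg
  by_cases hzP : (z : X) ∈ P
  · -- `P = ⟨z⟩`, take `v = h`
    have hPz : ∀ x : ↥S₀, (x : X) ∈ P → x ∈ Subgroup.zpowers z := by
      intro x hx
      have hle : Subgroup.zpowers (z : X) ≤ P := Subgroup.zpowers_le.mpr hzP
      have hcard : Nat.card P ≤ Nat.card (Subgroup.zpowers (z : X)) := by
        rw [Nat.card_zpowers, hP, Subgroup.orderOf_coe, hzo]
      have heq : Subgroup.zpowers (z : X) = P := Subgroup.eq_of_le_of_card_ge hle hcard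
      rw [← heq] at hx
      obtain ⟨k, hk⟩ := Subgroup.mem_zpowers_iff.mp hx
      refine Subgroup.mem_zpowers_iff.mpr ⟨k, ?_⟩
      apply Subtype.ext
      rw [Subgroup.coe_zpow]
      exact hk
    refine ⟨(h : X), ⟨h.2, ?_, ?_⟩, fun hh => hhz (hPz h hh)⟩
    · have := congrArg Subtype.val hhp
      rwa [Subgroup.coe_pow] at this
    · intro y hy
      have h1 := hcomm ⟨y, hy⟩
      obtain ⟨k, hk⟩ := Subgroup.mem_zpowers_iff.mp h1
      have h2 : (y * h * y⁻¹ * (h : X)⁻¹) = (z : X) ^ k := by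
        have := congrArg Subtype.val hk
        rw [Subgroup.coe_zpow] at this
        rw [this]
        rfl
      have h3 : (h : X) * y * (h : X)⁻¹ * y⁻¹ = (y * h * y⁻¹ * (h : X)⁻¹)⁻¹ := by group
      rw [h3, h2]
      exact P.inv_mem (P.zpow_mem hzP k)
  · -- take `v = z`
    refine ⟨(z : X), ⟨z.2, ?_, ?_⟩, hzP⟩
    · have : z ^ p = 1 := by rw [← hzo]; exact pow_orderOf_eq_one z
      have := congrArg Subtype.val this
      rwa [Subgroup.coe_pow] at this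
    · intro y hy
      have h1 : (⟨y, hy⟩ : ↥S₀) * z = z * ⟨y, hy⟩ := Subgroup.mem_center_iff.mp hzc ⟨y, hy⟩
      have h2 : y * (z : X) = (z : X) * y := congrArg Subtype.val h1
      have : (z : X) * y * (z : X)⁻¹ * y⁻¹ = 1 := by rw [← h2]; group
      rw [this]
      exact P.one_mem

end bsub

section quot

variable {X : Type*} [Group X] [Finite X]

/-- the quotient step: `[R, K]` centralises `B` modulo `P` (via `S3769` in `N(P)/P`) -/
theorem comm_mem_of_fixed_points {p : ℕ} [hpf : Fact p.Prime] (P B K R : Subgroup X)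
    (hP : Nat.card P = p)
    (hBN : B ≤ Subgroup.normalizer (P : Set X))
    (hBp : ∀ x ∈ B, x ^ p = 1)
    (hBc : ∀ x ∈ B, ∀ y ∈ B, x * y * x⁻¹ * y⁻¹ ∈ P)
    (hR : (Nat.card R).Prime) (hRp : Nat.card R ≠ p)
    (hKp : ¬ p ∣ Nat.card K) (hKr : ¬ Nat.card R ∣ Nat.card K)
    (hRK : R ≤ Subgroup.normalizer (K : Set X))
    (hsolv : Group.IsSolvable ↥(K ⊔ R)) (hodd : Odd (Nat.card ↥(K ⊔ R)))
    (hKP : K ≤ Subgroup.centralizer (P : Set X)) (hRP : R ≤ Subgroup.centralizer (P : Set X))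
    (hKB : K ≤ Subgroup.normalizer (B : Set X)) (hRB : R ≤ Subgroup.normalizer (B : Set X))
    (hfix : B ⊓ Subgroup.centralizer (R : Set X) ≤ P) :
    ∀ ρ ∈ R, ∀ k ∈ K, ∀ v ∈ B, ⁅ρ, k⁆ * v * ⁅ρ, k⁆⁻¹ * v⁻¹ ∈ P := by
  classical
  have hpp : p.Prime := hpf.out
  set N : Subgroup X := Subgroup.normalizer (P : Set X) with hN
  have hKN : K ≤ N := hKP.trans (Subgroup.centralizer_le_normalizer _)
  have hRN : R ≤ N := hRP.trans (Subgroup.centralizer_le_normalizer _)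
  have hKRN : K ⊔ R ≤ N := sup_le hKN hRN
  haveI hPn : (P.subgroupOf N).Normal := Subgroup.normal_in_normalizer
  set π : ↥N →* ↥N ⧸ P.subgroupOf N := QuotientGroup.mk' (P.subgroupOf N) with hπ
  have hπ1 : ∀ x : ↥N, π x = 1 ↔ (x : X) ∈ P := by
    intro x
    rw [hπ, QuotientGroup.mk'_apply, QuotientGroup.eq_one_iff]
    exact Subgroup.mem_subgroupOf
  -- images of subgroups
  have himg_mem : ∀ (H : Subgroup X) (x : ↥N), (x : X) ∈ H → π x ∈ (H.subgroupOf N).map π :=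
    fun H x hx => Subgroup.mem_map_of_mem π (Subgroup.mem_subgroupOf.mpr hx)
  have himg_ex : ∀ (H : Subgroup X) a, a ∈ (H.subgroupOf N).map π →
      ∃ x : ↥N, (x : X) ∈ H ∧ π x = a := by
    intro H a ha
    obtain ⟨x, hx, rfl⟩ := Subgroup.mem_map.mp ha
    exact ⟨x, Subgroup.mem_subgroupOf.mp hx, rfl⟩
  have himg_card : ∀ H : Subgroup X, H ≤ N →
      Nat.card ↥((H.subgroupOf N).map π) ∣ Nat.card H := by
    intro H hH
    have h1 := Subgroup.card_map_dvd (H := H.subgroupOf N) π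
    rwa [Nat.card_congr (Subgroup.subgroupOfEquivOfLe hH).toEquiv] at h1
  have himg_norm : ∀ A C : Subgroup X, A ≤ Subgroup.normalizer (C : Set X) →
      (A.subgroupOf N).map π ≤
        Subgroup.normalizer (((C.subgroupOf N).map π : Subgroup (↥N ⧸ P.subgroupOf N)) : Set _) := by
    intro A C hAC
    refine le_trans (Subgroup.map_mono ?_) (Subgroup.le_normalizer_map π)
    intro a ha
    rw [Subgroup.mem_subgroupOf] at ha
    have := hAC ha
    rw [Subgroup.mem_normalizer_iff] at this ⊢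
    intro c
    rw [Subgroup.mem_subgroupOf, Subgroup.mem_subgroupOf]
    exact this c
  set K' := (K.subgroupOf N).map π with hK'
  set R' := (R.subgroupOf N).map π with hR'
  set V := (B.subgroupOf N).map π with hV
  have hG' : K' ⊔ R' = ((K ⊔ R).subgroupOf N).map π := by
    rw [hK', hR', ← Subgroup.map_sup, ← Subgroup.subgroupOf_sup hKN hRN]
  have hcardK' : Nat.card K' ∣ Nat.card K := himg_card K hKN
  have hcardR' : Nat.card R' = Nat.card R := by
    have h1 : Nat.card R' ∣ Nat.card R := himg_card R hRN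
    rcases (Nat.dvd_prime hR).mp h1 with h2 | h2
    · exfalso
      have hbot : R' = ⊥ := Subgroup.card_eq_one.mp h2
      have hRP' : R ≤ P := by
        intro ρ hρ
        have := himg_mem R ⟨ρ, hRN hρ⟩ hρ
        rw [← hR', hbot, Subgroup.mem_bot, hπ1] at this
        exact this
      have := Subgroup.card_dvd_of_le hRP'
      rw [hP] at this
      exact hRp ((Nat.prime_dvd_prime_iff_eq hR hpp).mp this)
    · exact h2
  have hcop : (Nat.card K').Coprime (Nat.card R') := by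
    rw [hcardR']
    exact Nat.Coprime.coprime_dvd_left hcardK'
      ((Nat.Prime.coprime_iff_not_dvd hR).mpr hKr).symm
  have hcardG' : Nat.card ↥(K' ⊔ R') ∣ Nat.card ↥(K ⊔ R) := by
    rw [hG']
    exact himg_card _ hKRN
  have hR'K' : R' ≤ Subgroup.normalizer (K' : Set _) := himg_norm R K hRK
  have hsolv' : Group.IsSolvable ↥(K' ⊔ R') := by
    rw [hG']
    haveI : Group.IsSolvable ↥((K ⊔ R).subgroupOf N) :=
      Group.isSolvable_of_isSolvable_injective (f := (Subgroup.subgroupOfEquivOfLe hKRN).toMonoidHom)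
        (Subgroup.subgroupOfEquivOfLe hKRN).injective
    exact Group.isSolvable_of_surjective (f := π.subgroupMap ((K ⊔ R).subgroupOf N))
      (MonoidHom.subgroupMap_surjective _ _)
  have hodd' : Odd (Nat.card ↥(K' ⊔ R')) := Odd.of_dvd_nat hodd hcardG'
  have hV' : Cfsg.IsElementaryAbelian p V := by
    constructor
    · refine ⟨⟨fun a b => ?_⟩⟩
      obtain ⟨x, hx, hxa⟩ := himg_ex B a.1 a.2
      obtain ⟨y, hy, hyb⟩ := himg_ex B b.1 b.2
      apply Subtype.ext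
      show (a : ↥N ⧸ P.subgroupOf N) * b = b * a
      rw [← hxa, ← hyb, ← map_mul, ← map_mul]
      have h1 : π ((y * x)⁻¹ * (x * y)) = 1 := by
        rw [hπ1]
        have := hBc _ (B.inv_mem hx) _ (B.inv_mem hy)
        have e : (((y * x)⁻¹ * (x * y) : ↥N) : X) =
            (x : X)⁻¹ * (y : X)⁻¹ * (x : X)⁻¹⁻¹ * (y : X)⁻¹⁻¹ := by
          push_cast
          group
        rw [e]
        exact this
      rw [map_mul, map_inv] at h1
      exact (inv_mul_eq_one.mp h1).symm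
    · intro a ha
      obtain ⟨x, hx, rfl⟩ := himg_ex B a ha
      rw [← map_pow]
      have : x ^ p = 1 := by
        apply Subtype.ext
        rw [Subgroup.coe_pow]
        exact hBp _ hx
      rw [this, map_one]
  have hpG' : ¬ p ∣ Nat.card ↥(K' ⊔ R') := by
    intro hdvd
    have h1 : p ∣ Nat.card ↥(K ⊔ R) := hdvd.trans hcardG'
    have h2 := h1.trans (Cfsg.Agent.Lib.Helper22_Basic.card_sup_dvd_of_le_normalizer K R hRK)
    rcases (Nat.Prime.dvd_mul hpp).mp h2 with h3 | h3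
    · exact hKp h3
    · exact hRp ((Nat.prime_dvd_prime_iff_eq hpp hR).mp h3).symm
  have hGV : K' ⊔ R' ≤ Subgroup.normalizer (V : Set _) :=
    sup_le (himg_norm K B hKB) (himg_norm R B hRB)
  have hKn : K' ⊔ R' ≤ Subgroup.normalizer (K' : Set _) :=
    sup_le Subgroup.le_normalizer hR'K'
  have hHall : (Nat.card K').Coprime (K'.relIndex (K' ⊔ R')) := by
    have h1 : K'.relIndex (K' ⊔ R') * Nat.card K' = Nat.card ↥(K' ⊔ R') := by
      have := Subgroup.relIndex_mul_relIndex (⊥ : Subgroup _) K' (K' ⊔ R') bot_le le_sup_left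
      rw [Subgroup.relIndex_bot_left, Subgroup.relIndex_bot_left] at this
      rw [mul_comm]
      exact this
    have h2 := Cfsg.Agent.Lib.Helper22_Basic.card_sup_dvd_of_le_normalizer K' R' hR'K'
    rw [← h1, mul_comm] at h2
    have h3 : K'.relIndex (K' ⊔ R') ∣ Nat.card R' :=
      Nat.dvd_of_mul_dvd_mul_left Nat.card_pos h2
    exact Nat.Coprime.coprime_dvd_right h3 hcop
  have hKR' : K' ⊓ R' = ⊥ := disjoint_iff.mp (Subgroup.disjoint_of_coprime_natCard hcop)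
  have hCV : V ⊓ Subgroup.centralizer (R' : Set _) = ⊥ := by
    rw [Subgroup.eq_bot_iff_forall]
    rintro a ⟨haV, haC⟩
    obtain ⟨x, hx, rfl⟩ := himg_ex B a haV
    rw [hπ1]
    apply hfix
    refine ⟨hx, ?_⟩
    show (x : X) ∈ Subgroup.centralizer (R : Set X)
    have haC' : π x ∈ Subgroup.centralizer (R' : Set (↥N ⧸ P.subgroupOf N)) := haC
    rw [Subgroup.mem_centralizer_iff]
    intro ρ hρ
    have hρN : ρ ∈ N := hRN hρ
    have h1 := Subgroup.mem_centralizer_iff.mp haC' _ (himg_mem R ⟨ρ, hρN⟩ hρ)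
    -- h1 : π ρ * π x = π x * π ρ
    have h2 : ρ * (x : X) * ρ⁻¹ * (x : X)⁻¹ ∈ P := by
      have : π (⟨ρ, hρN⟩ * x * ⟨ρ, hρN⟩⁻¹ * x⁻¹) = 1 := by
        rw [map_mul, map_mul, map_mul, map_inv, map_inv, h1]
        group
      rw [hπ1] at this
      exact this
    have hρc : ρ * (ρ * (x : X) * ρ⁻¹ * (x : X)⁻¹) = (ρ * (x : X) * ρ⁻¹ * (x : X)⁻¹) * ρ :=
      (Subgroup.mem_centralizer_iff.mp (hRP hρ) _ h2).symm
    have hρr : ρ ^ Nat.card R = 1 := by
      have : (⟨ρ, hρ⟩ : ↥R) ^ Nat.card R = 1 := pow_card_eq_one'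
      exact congrArg Subtype.val this
    have hzp : (ρ * (x : X) * ρ⁻¹ * (x : X)⁻¹) ^ p = 1 := by
      have : (⟨_, h2⟩ : ↥P) ^ Nat.card P = 1 := pow_card_eq_one'
      rw [hP] at this
      exact congrArg Subtype.val this
    have h3 := comm_eq_one_of_coprime ρ (x : X) (Nat.card R) p hρr hρc hzp
      ((Nat.coprime_primes hR hpp).mpr hRp)
    calc ρ * (x : X) = (ρ * (x : X) * ρ⁻¹ * (x : X)⁻¹) * (x : X) * ρ := by group
      _ = (x : X) * ρ := by rw [h3, one_mul]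
  have key := Cfsg.Agent.S3769.result (K' ⊔ R') hsolv' hodd' V hpp hV' hpG' hGV K' R'
    le_sup_left hKn hHall le_sup_right (by rw [hcardR']; exact hR) hKR' rfl hCV
  intro ρ hρ k hk v hv
  have hρN : ρ ∈ N := hRN hρ
  have hkN : k ∈ N := hKN hk
  have hvN : v ∈ N := hBN hv
  have h1 : ⁅π ⟨ρ, hρN⟩, π ⟨k, hkN⟩⁆ ∈ ⁅R', K'⁆ :=
    Subgroup.commutator_mem_commutator (himg_mem R ⟨ρ, hρN⟩ hρ) (himg_mem K ⟨k, hkN⟩ hk)
  have h2 := Subgroup.mem_centralizer_iff.mp (key h1) _ (himg_mem B ⟨v, hvN⟩ hv)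
  -- h2 : π v * ⁅..⁆ = ⁅..⁆ * π v
  rw [← map_commutatorElement] at h2
  have h3 : π (⁅(⟨ρ, hρN⟩ : ↥N), ⟨k, hkN⟩⁆ * ⟨v, hvN⟩ * ⁅(⟨ρ, hρN⟩ : ↥N), ⟨k, hkN⟩⁆⁻¹ *
      (⟨v, hvN⟩ : ↥N)⁻¹) = 1 := by
    rw [map_mul, map_mul, map_mul, map_inv, map_inv, ← h2]
    group
  rw [hπ1] at h3
  exact h3

end quot

theorem lemmaW {X : Type*} [Group X] [Finite X] {p : ℕ} [Fact p.Prime] (hp2 : p ≠ 2)
    (P S₀ K R : Subgroup X)
    (hP : Nat.card P = p) (hS₀ : IsPGroup p S₀) (hPS : P ≤ S₀)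
    (hPZ : S₀ ≤ Subgroup.centralizer (P : Set X))
    (hnc : ¬ IsCyclic S₀)
    (hR : (Nat.card R).Prime) (hRp : Nat.card R ≠ p)
    (hKp : ¬ p ∣ Nat.card K) (hKr : ¬ Nat.card R ∣ Nat.card K)
    (hRK : R ≤ Subgroup.normalizer (K : Set X))
    (hsolv : Group.IsSolvable ↥(K ⊔ R)) (hodd : Odd (Nat.card ↥(K ⊔ R)))
    (hKP : K ≤ Subgroup.centralizer (P : Set X)) (hRP : R ≤ Subgroup.centralizer (P : Set X))
    (hKS : K ≤ Subgroup.normalizer (S₀ : Set X)) (hRS : R ≤ Subgroup.normalizer (S₀ : Set X))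
    (hcyc : IsCyclic ↥(S₀ ⊓ Subgroup.centralizer (R : Set X))) :
    ∃ A : Subgroup X, P ≤ A ∧ A ≤ S₀ ∧ Cfsg.IsElementaryAbelian p A ∧ Nat.card A = p ^ 2 ∧
      ⁅R, K⁆ ≤ Subgroup.centralizer (A : Set X) := by
  classical
  have hpp : p.Prime := Fact.out
  have hPp : ∀ z ∈ P, z ^ p = 1 := by
    intro z hz
    have : (⟨z, hz⟩ : ↥P) ^ Nat.card P = 1 := pow_card_eq_one'
    rw [hP] at this
    exact congrArg Subtype.val this
  set B : Subgroup X := bsub p hpp hp2 P S₀ hPp hPZ with hB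
  have hBS : B ≤ S₀ := fun x hx => hx.1
  have hPB : P ≤ B := le_bsub hPS
  have hKB : K ≤ Subgroup.normalizer (B : Set X) := le_normalizer_bsub K hKS hKP
  have hRB : R ≤ Subgroup.normalizer (B : Set X) := le_normalizer_bsub R hRS hRP
  have hBp : ∀ x ∈ B, x ^ p = 1 := fun x hx => hx.2.1
  have hBc : ∀ x ∈ B, ∀ y ∈ B, x * y * x⁻¹ * y⁻¹ ∈ P := fun x hx y hy => hx.2.2 y (hBS hy)
  have hBN : B ≤ Subgroup.normalizer (P : Set X) :=
    hBS.trans (hPZ.trans (Subgroup.centralizer_le_normalizer _))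
  have hPCR : P ≤ Subgroup.centralizer (R : Set X) := Subgroup.le_centralizer_iff.mp hRP
  have hfix : B ⊓ Subgroup.centralizer (R : Set X) ≤ P := by
    rintro x ⟨hxB, hxC⟩
    exact mem_of_isCyclic_of_pow hpp (S₀ ⊓ Subgroup.centralizer (R : Set X)) P hcyc hP
      (le_inf hPS hPCR) ⟨hBS hxB, hxC⟩ (hBp x hxB)
  obtain ⟨v, hvB, hvP⟩ := exists_mem_bsub_not_mem (hp2 := hp2) (hPp := hPp) (hPZ := hPZ)
    hP hS₀ hnc
  have hkey := comm_mem_of_fixed_points P B K R hP hBN hBp hBc hR hRp hKp hKr hRK hsolv hodd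
    hKP hRP hKB hRB hfix
  -- `[R, K]` centralises `B`
  have hcent : ⁅R, K⁆ ≤ Subgroup.centralizer (B : Set X) := by
    rw [Subgroup.commutator_le]
    intro ρ hρ k hk
    rw [Subgroup.mem_centralizer_iff]
    intro w hw
    have hcK : ⁅ρ, k⁆ ∈ K := by
      have h1 : ρ * k * ρ⁻¹ ∈ K := (Subgroup.mem_normalizer_iff.mp (hRK hρ) k).mp hk
      have : ⁅ρ, k⁆ = (ρ * k * ρ⁻¹) * k⁻¹ := by rw [commutatorElement_def]
      rw [this]
      exact K.mul_mem h1 (K.inv_mem hk)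
    have hz := hkey ρ hρ k hk w hw
    have hcc : ⁅ρ, k⁆ * (⁅ρ, k⁆ * w * ⁅ρ, k⁆⁻¹ * w⁻¹) = (⁅ρ, k⁆ * w * ⁅ρ, k⁆⁻¹ * w⁻¹) * ⁅ρ, k⁆ :=
      (Subgroup.mem_centralizer_iff.mp (hKP hcK) _ hz).symm
    have hcn : ⁅ρ, k⁆ ^ Nat.card K = 1 := by
      have : (⟨_, hcK⟩ : ↥K) ^ Nat.card K = 1 := pow_card_eq_one'
      exact congrArg Subtype.val this
    have h3 := comm_eq_one_of_coprime ⁅ρ, k⁆ w (Nat.card K) p hcn hcc (hPp _ hz)
      ((Nat.Prime.coprime_iff_not_dvd hpp).mpr hKp).symm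
    calc w * ⁅ρ, k⁆ = (⁅ρ, k⁆ * w * ⁅ρ, k⁆⁻¹ * w⁻¹)⁻¹ * ⁅ρ, k⁆ * w := by group
      _ = ⁅ρ, k⁆ * w := by rw [h3, inv_one, one_mul]
  -- the subgroup `A`
  have hv1 : v ≠ 1 := fun h => hvP (h ▸ P.one_mem)
  have hvo : orderOf v = p := orderOf_eq_prime (hBp v hvB) hv1
  have hvS : v ∈ S₀ := hBS hvB
  refine ⟨P ⊔ Subgroup.zpowers v, le_sup_left, sup_le hPS (Subgroup.zpowers_le.mpr hvS), ?_, ?_, ?_⟩
  · have hAB : P ⊔ Subgroup.zpowers v ≤ B := sup_le hPB (Subgroup.zpowers_le.mpr hvB)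
    refine ⟨?_, fun a ha => hBp a (hAB ha)⟩
    have hcl : P ⊔ Subgroup.zpowers v = Subgroup.closure ((P : Set X) ∪ {v}) := by
      rw [Subgroup.closure_union, Subgroup.closure_eq, Subgroup.zpowers_eq_closure]
    rw [hcl]
    apply Subgroup.isMulCommutative_closure
    have hSP : ∀ s ∈ S₀, ∀ z ∈ P, z * s = s * z := fun s hs z hz =>
      Subgroup.mem_centralizer_iff.mp (hPZ hs) z hz
    rintro a (ha | ha) b (hb | hb)
    · exact hSP b (hPS hb) a ha
    · rw [Set.mem_singleton_iff] at hb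
      subst hb
      exact hSP b hvS a ha
    · rw [Set.mem_singleton_iff] at ha
      subst ha
      exact (hSP a hvS b hb).symm
    · rw [Set.mem_singleton_iff] at ha hb
      rw [ha, hb]
  · have hnorm : Subgroup.zpowers v ≤ Subgroup.normalizer (P : Set X) :=
      Subgroup.zpowers_le.mpr (hBN hvB)
    have hdisj : P ⊓ Subgroup.zpowers v = ⊥ := by
      rw [Subgroup.eq_bot_iff_forall]
      rintro x ⟨hxP, hxv⟩
      by_contra hx1
      have h1 := Cfsg.Agent.Lib.Helper20_PGroupOdd.zpowers_eq_of_mem_of_ne_one hvo hxv hx1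
      apply hvP
      have : v ∈ Subgroup.zpowers x := by rw [h1]; exact Subgroup.mem_zpowers v
      exact (Subgroup.zpowers_le.mpr hxP) this
    rw [Cfsg.Agent.Lib.Helper24_CoprimeHall.card_sup_of_disjoint' (Subgroup.zpowers v) P hnorm
      hdisj, hP, Nat.card_zpowers, hvo, sq]
  · exact hcent.trans (Subgroup.centralizer_le
      (sup_le hPB (Subgroup.zpowers_le.mpr hvB)))

end Cfsg.Agent.Lib.Helper13_LemmaW
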