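import Mathlib
import Cfsg.Agent.Lib.Helper13_LevDefs

/-!
# S2522 package `LEV-AV` (helper70, for helper13): sharp subspace avoidance

At most `#K` proper subspaces do not cover `V` (Mathlib's
`Submodule.iUnion_ssubset_of_forall_ne_top_of_card_lt` needs `card < #K`).
-/

set_option autoImplicit false

namespace Cfsg.Agent.Lib.Helper70_Lev_AV

open Module Cardinal Cfsg.Agent.Lib.Helper13_LevDefs

variable {K : Type*} [Field K] {V : Type*} [AddCommGroup V] [Module K V]

/-- AV: at most `#K` proper subspaces do not cover `V`. -/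
theorem avoid (s : Finset (Submodule K V)) (hs : (s.card : Cardinal) ≤ #K)
    (hne : ∀ W ∈ s, W ≠ ⊤) : ∃ x : V, ∀ W ∈ s, x ∉ W := by
  classical
  induction s using Finset.induction_on with
  | empty => exact ⟨0, fun W hW => absurd hW (Finset.notMem_empty W)⟩
  | insert j s hj ih =>
    rw [Finset.card_insert_of_notMem hj] at hs
    have hs' : (s.card : Cardinal) < #K :=
      lt_of_lt_of_le (by exact_mod_cast Nat.lt_succ_self _) hs
    obtain ⟨x, hx⟩ := ih hs'.le (fun W hW => hne W (Finset.mem_insert_of_mem hW))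
    by_cases hxj : x ∈ j
    swap
    · refine ⟨x, fun W hW => ?_⟩
      rcases Finset.mem_insert.mp hW with rfl | h
      · exact hxj
      · exact hx W h
    obtain ⟨y, hy⟩ : ∃ y, y ∉ j := by
      by_contra h
      apply hne j (Finset.mem_insert_self j s)
      rw [eq_top_iff]
      intro v _
      by_contra hv
      exact h ⟨v, hv⟩
    -- some `y + t • x` works
    suffices h : ∃ t : K, ∀ W ∈ s, y + t • x ∉ W by
      obtain ⟨t, ht⟩ := h
      refine ⟨y + t • x, fun W hW => ?_⟩
      rcases Finset.mem_insert.mp hW with rfl | h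
      · intro hmem
        apply hy
        have := W.sub_mem hmem (W.smul_mem t hxj)
        simpa using this
      · exact ht W h
    by_contra hcon
    have hbad : ∀ t : K, ∃ W ∈ s, y + t • x ∈ W := by
      intro t
      by_contra h'
      exact hcon ⟨t, fun W hW hmem => h' ⟨W, hW, hmem⟩⟩
    choose f hf hfm using hbad
    have hinj : Function.Injective (fun t : K => (⟨f t, hf t⟩ : s)) := by
      intro t t' h
      have hW : f t = f t' := congrArg Subtype.val h
      by_contra hne'
      have h1 := hfm t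
      have h2 := hfm t'
      rw [← hW] at h2
      have h3 : (t - t') • x ∈ f t := by
        have := (f t).sub_mem h1 h2
        have e : y + t • x - (y + t' • x) = (t - t') • x := by module
        rwa [e] at this
      exact hx (f t) (hf t) (((f t).smul_mem_iff (sub_ne_zero.mpr hne')).mp h3)
    have hfin : Finite K := Finite.of_injective _ hinj
    have h4 : Nat.card K ≤ Nat.card s := Nat.card_le_card_of_injective _ hinj
    rw [Nat.card_eq_fintype_card (α := ↥s), Fintype.card_coe] at h4
    have h5 : #K ≤ (s.card : Cardinal) := by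
      rw [← Nat.cast_card]
      exact_mod_cast h4
    exact absurd (lt_of_le_of_lt h5 hs') (lt_irrefl _)

/-- AV: four proper subspaces (repeat one for fewer). -/
theorem avoid4 (hK : 4 ≤ #K) (W₁ W₂ W₃ W₄ : Submodule K V) (h₁ : W₁ ≠ ⊤) (h₂ : W₂ ≠ ⊤)
    (h₃ : W₃ ≠ ⊤) (h₄ : W₄ ≠ ⊤) : ∃ x : V, x ∉ W₁ ∧ x ∉ W₂ ∧ x ∉ W₃ ∧ x ∉ W₄ := by
  classical
  have hcard : (({W₁, W₂, W₃, W₄} : Finset (Submodule K V)).card : Cardinal) ≤ #K := by
    refine le_trans ?_ hK
    exact_mod_cast Finset.card_le_four
  obtain ⟨x, hx⟩ := avoid ({W₁, W₂, W₃, W₄} : Finset (Submodule K V)) hcard (by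
    intro W hW
    simp only [Finset.mem_insert, Finset.mem_singleton] at hW
    rcases hW with rfl | rfl | rfl | rfl <;> assumption)
  exact ⟨x, hx W₁ (by simp), hx W₂ (by simp), hx W₃ (by simp), hx W₄ (by simp)⟩

end Cfsg.Agent.Lib.Helper70_Lev_AV
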