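import Mathlib
import Cfsg.Agent.Lib.Helper13_LevDefs
import Cfsg.Agent.Lib.Helper70_Lev_AV

/-!
Shim `Helper13_LevAV` for S2522 (helper13): the avoidance lemma, re-exported from the package
`Helper70_Lev_AV` (helper70) under the names the other packages use.
-/

set_option autoImplicit false

namespace Cfsg.Agent.Lib.Helper13_LevAV

open Module Cardinal Cfsg.Agent.Lib.Helper13_LevDefs

variable {K : Type*} [Field K] {V : Type*} [AddCommGroup V] [Module K V]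

/-- AV: at most `#K` proper subspaces do not cover `V`. -/
theorem avoid (s : Finset (Submodule K V)) (hs : (s.card : Cardinal) ≤ #K)
    (hne : ∀ W ∈ s, W ≠ ⊤) : ∃ x : V, ∀ W ∈ s, x ∉ W :=
  Cfsg.Agent.Lib.Helper70_Lev_AV.avoid s hs hne

/-- AV: four proper subspaces (repeat one for fewer). -/
theorem avoid4 (hK : 4 ≤ #K) (W₁ W₂ W₃ W₄ : Submodule K V) (h₁ : W₁ ≠ ⊤) (h₂ : W₂ ≠ ⊤)
    (h₃ : W₃ ≠ ⊤) (h₄ : W₄ ≠ ⊤) : ∃ x : V, x ∉ W₁ ∧ x ∉ W₂ ∧ x ∉ W₃ ∧ x ∉ W₄ :=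
  Cfsg.Agent.Lib.Helper70_Lev_AV.avoid4 hK W₁ W₂ W₃ W₄ h₁ h₂ h₃ h₄

end Cfsg.Agent.Lib.Helper13_LevAV
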