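import Mathlib
import Cfsg.Agent.Lib.Helper13_LevDefs

/-!
helper47: common core for the packages LEV-TRANSV and LEV-RUCONJ of helper13's S2522:
nilpotent chains, the cyclic-vector criterion for regular unipotents and its converse.
-/

set_option autoImplicit false

namespace Cfsg.Agent.Lib.Helper47_Lev_Core

open Module Cfsg.Agent.Lib.Helper13_LevDefs

variable {K : Type*} [Field K] {V : Type*} [AddCommGroup V] [Module K V]

/-- powers beyond the annihilating one vanish -/
theorem pow_apply_eq_zero_of_le (N : V →ₗ[K] V) (v : V) (m : ℕ) (h0 : (N ^ m) v = 0) (k : ℕ)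
    (hk : m ≤ k) : (N ^ k) v = 0 := by
  obtain ⟨d, rfl⟩ := Nat.exists_eq_add_of_le hk
  rw [add_comm, pow_add, Module.End.mul_apply, h0, map_zero]

/-- a nilpotent chain `v, N v, …, N^(m-1) v` with `N^(m-1) v ≠ 0 = N^m v` is linearly independent -/
theorem chain_indep (N : V →ₗ[K] V) (v : V) (m : ℕ) (h0 : (N ^ m) v = 0)
    (h1 : (N ^ (m - 1)) v ≠ 0) : LinearIndependent K (fun i : Fin m => (N ^ (i : ℕ)) v) := by
  rw [Fintype.linearIndependent_iff]
  intro c hc
  have key : ∀ k : ℕ, ∀ i : Fin m, (i : ℕ) = k → c i = 0 := by
    intro k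
    induction k using Nat.strong_induction_on with
    | _ k ih =>
      intro i hik
      have h2 := congrArg (N ^ (m - 1 - k)) hc
      rw [map_sum, map_zero] at h2
      have h3 : ∀ j : Fin m, (N ^ (m - 1 - k)) (c j • (N ^ (j : ℕ)) v) =
          if j = i then c i • (N ^ (m - 1)) v else 0 := by
        intro j
        rw [map_smul, ← Module.End.mul_apply, ← pow_add]
        split_ifs with hji
        · subst hji
          have : m - 1 - k + (j : ℕ) = m - 1 := by have := j.2; omega
          rw [this]
        · have hne : (j : ℕ) ≠ k := fun h => hji (Fin.ext (h.trans hik.symm))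
          rcases lt_or_gt_of_ne hne with hlt | hgt
          · rw [ih (j : ℕ) hlt j rfl, zero_smul]
          · rw [pow_apply_eq_zero_of_le N v m h0 _ (by have := i.2; omega), smul_zero]
      rw [Finset.sum_congr rfl (fun j _ => h3 j), Finset.sum_ite_eq' Finset.univ i,
        if_pos (Finset.mem_univ i)] at h2
      rcases smul_eq_zero.1 h2 with h | h
      · exact h
      · exact absurd h h1
  intro i
  exact key i i rfl

/-- a lower bound for the dimension of an image -/
theorem finrank_le_map_add_ker [FiniteDimensional K V] (f : V →ₗ[K] V) (p : Submodule K V) :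
    finrank K p ≤ finrank K (p.map f) + finrank K (LinearMap.ker f) := by
  have h1 := LinearMap.finrank_range_add_finrank_ker (f.domRestrict p)
  rw [LinearMap.range_domRestrict, LinearMap.ker_domRestrict] at h1
  have h2 : finrank K (Submodule.comap p.subtype (LinearMap.ker f)) ≤ finrank K (LinearMap.ker f) := by
    let φ : Submodule.comap p.subtype (LinearMap.ker f) →ₗ[K] LinearMap.ker f :=
      { toFun := fun x => ⟨(x : p), x.2⟩
        map_add' := fun x y => rfl
        map_smul' := fun c x => rfl }
    apply LinearMap.finrank_le_finrank_of_injective (f := φ)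
    intro x y hxy
    have h3 : ((φ x : LinearMap.ker f) : V) = ((φ y : LinearMap.ker f) : V) := by rw [hxy]
    exact Subtype.ext (Subtype.ext h3)
  omega

/-- for a nilpotent endomorphism, the power `finrank` vanishes -/
theorem pow_finrank_eq_zero [FiniteDimensional K V] (N : V →ₗ[K] V) (hN : IsNilpotent N) :
    N ^ finrank K V = 0 := by
  obtain ⟨m, hm⟩ := hN
  have h1 := Module.End.ker_pow_le_ker_pow_finrank N m
  rw [hm, LinearMap.ker_zero, top_le_iff] at h1
  exact LinearMap.ker_eq_top.1 h1

/-- a regular nilpotent endomorphism has a cyclic vector -/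
theorem exists_cyclic [FiniteDimensional K V] (N : V →ₗ[K] V)
    (hr : finrank K (LinearMap.range N) + 1 = finrank K V) :
    ∃ v : V, (N ^ (finrank K V - 1)) v ≠ 0 := by
  have hker : finrank K (LinearMap.ker N) = 1 := by
    have := LinearMap.finrank_range_add_finrank_ker N
    omega
  have hdim : ∀ k : ℕ, finrank K V ≤ finrank K (LinearMap.range (N ^ k)) + k := by
    intro k
    induction k with
    | zero =>
      rw [pow_zero, Module.End.one_eq_id, LinearMap.range_id, finrank_top, add_zero]
    | succ k ih =>
      have h1 := finrank_le_map_add_ker N (LinearMap.range (N ^ k))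
      have h2 : (LinearMap.range (N ^ k)).map N = LinearMap.range (N ^ (k + 1)) := by
        rw [pow_succ', Module.End.mul_eq_comp, LinearMap.range_comp]
      rw [h2, hker] at h1
      omega
  by_contra hcon
  push Not at hcon
  have h0 : N ^ (finrank K V - 1) = 0 := LinearMap.ext hcon
  have h1 := hdim (finrank K V - 1)
  rw [h0, LinearMap.range_zero, finrank_bot] at h1
  omega

/-- the cyclic-vector criterion: `1 + M` is regular unipotent if `M` is nilpotent with a cyclic vector -/
theorem ru_of_cyclic [FiniteDimensional K V] (M : V →ₗ[K] V) (hM : IsNilpotent M) (v : V)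
    (h1 : (M ^ (finrank K V - 1)) v ≠ 0) : RU (1 + M) := by
  have hsub : (1 + M) - 1 = M := add_sub_cancel_left 1 M
  refine ⟨by rw [hsub]; exact hM, ?_⟩
  rw [hsub]
  set n := finrank K V with hn
  have hzero : M ^ n = 0 := pow_finrank_eq_zero M hM
  have h0 : (M ^ n) v = 0 := by rw [hzero]; rfl
  have hnpos : 0 < n := by
    by_contra h
    have hn0 : n = 0 := by omega
    have hsub' : Subsingleton V := by
      rw [← Module.finrank_zero_iff (R := K)]; exact hn0
    exact h1 (Subsingleton.elim _ _)
  have hind := chain_indep M v n h0 h1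
  -- lower bound
  have hlow : n - 1 ≤ finrank K (LinearMap.range M) := by
    have hsuccinj : Function.Injective (fun i : Fin (n - 1) => (⟨(i : ℕ) + 1, by have := i.2; omega⟩ : Fin n)) := by
      intro i j hij
      have : (i : ℕ) + 1 = (j : ℕ) + 1 := congrArg Fin.val hij
      exact Fin.ext (by omega)
    have hind' := hind.comp _ hsuccinj
    have hcard := finrank_span_eq_card hind'
    rw [Fintype.card_fin] at hcard
    rw [← hcard]
    apply Submodule.finrank_mono
    rw [Submodule.span_le]
    rintro _ ⟨i, rfl⟩
    refine ⟨(M ^ (i : ℕ)) v, ?_⟩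
    show M ((M ^ (i : ℕ)) v) = (M ^ ((i : ℕ) + 1)) v
    rw [pow_succ', Module.End.mul_apply]
  -- upper bound
  have hker : 1 ≤ finrank K (LinearMap.ker M) := by
    have hmem : (M ^ (n - 1)) v ∈ LinearMap.ker M := by
      rw [LinearMap.mem_ker, ← Module.End.mul_apply, ← pow_succ', Nat.sub_add_cancel hnpos, h0]
    by_contra hlt
    have h2 : finrank K (LinearMap.ker M) = 0 := by omega
    rw [Submodule.finrank_eq_zero] at h2
    rw [h2, Submodule.mem_bot] at hmem
    exact h1 hmem
  have hrn := LinearMap.finrank_range_add_finrank_ker M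
  omega

end Cfsg.Agent.Lib.Helper47_Lev_Core
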