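import Mathlib
import Cfsg.Agent.Lib.Helper13_LevDefs
import Cfsg.Agent.Lib.Helper47_Lev_Core

/-!
helper47: package LEV-RUCONJ of helper13's S2522: a regular unipotent matrix is `GL`-conjugate to the Jordan
block `J` (Jordan chain basis).
-/

set_option autoImplicit false

namespace Cfsg.Agent.Lib.Helper47_Lev_RUCONJ

open Module Cfsg.Agent.Lib.Helper13_LevDefs Cfsg.Agent.Lib.Helper47_Lev_Core

variable {K : Type*} [Field K] {V : Type*} [AddCommGroup V] [Module K V]

/-- RUCONJ -/
theorem ru_conj (n : ℕ) (u : Matrix (Fin n) (Fin n) K) (hu : RU (Matrix.toLin' u))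
    (J : GL (Fin n) K)
    (hJ : ∀ i j : Fin n, (J : Matrix (Fin n) (Fin n) K) i j =
      if i = j then 1 else if j.val = i.val + 1 then 1 else 0) :
    ∃ x : GL (Fin n) K, u = ((x * J * x⁻¹ : GL (Fin n) K) : Matrix (Fin n) (Fin n) K) := by
  classical
  obtain ⟨hnil, hrk⟩ := hu
  set N : (Fin n → K) →ₗ[K] (Fin n → K) := Matrix.toLin' u - 1 with hN
  have hfin : finrank K (Fin n → K) = n := Module.finrank_fin_fun K
  obtain ⟨v, hv⟩ := exists_cyclic N hrk
  rw [hfin] at hv
  have hzero : N ^ n = 0 := by
    have := pow_finrank_eq_zero N hnil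
    rwa [hfin] at this
  have h0 : (N ^ n) v = 0 := by rw [hzero]; rfl
  have hind := chain_indep N v n h0 hv
  let b : Fin n → (Fin n → K) := fun i => (N ^ ((Fin.rev i : Fin n) : ℕ)) v
  have hbdef : ∀ i, b i = (N ^ ((Fin.rev i : Fin n) : ℕ)) v := fun i => rfl
  have hbind : LinearIndependent K b := hind.comp Fin.rev Fin.rev_injective
  let X : Matrix (Fin n) (Fin n) K := Matrix.of (fun r i => b i r)
  have hXcol : ∀ i, X.col i = b i := fun i => rfl
  have hXunit : IsUnit X := by
    apply Matrix.linearIndependent_cols_iff_isUnit.1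
    have h1 : X.col = b := funext hXcol
    rw [h1]
    exact hbind
  obtain ⟨x, hx⟩ := hXunit
  refine ⟨x, ?_⟩
  have hkey : u * X = X * (J : Matrix (Fin n) (Fin n) K) := by
    apply Matrix.ext_of_mulVec_single
    intro i
    rw [← Matrix.mulVec_mulVec, ← Matrix.mulVec_mulVec, Matrix.mulVec_single_one, hXcol,
      Matrix.mulVec_single_one]
    have hL : u.mulVec (b i) = b i + N (b i) := by
      rw [hN, LinearMap.sub_apply, Matrix.toLin'_apply, Module.End.one_apply]
      abel
    rw [hL]
    by_cases hi : (i : ℕ) = 0
    · have hJcol : (J : Matrix (Fin n) (Fin n) K).col i = Pi.single i 1 := by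
        funext k
        show (J : Matrix (Fin n) (Fin n) K) k i = _
        rw [hJ k i, Pi.single_apply]
        by_cases hki : k = i
        · rw [if_pos hki, if_pos hki]
        · rw [if_neg hki, if_neg hki, if_neg (by omega)]
      rw [hJcol, Matrix.mulVec_single_one, hXcol]
      have hNb : N (b i) = 0 := by
        rw [hbdef, ← Module.End.mul_apply, ← pow_succ']
        apply pow_apply_eq_zero_of_le N v n h0
        rw [Fin.val_rev]
        have := i.2
        omega
      rw [hNb, add_zero]
    · have hlt : (i : ℕ) - 1 < n := by have := i.2; omega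
      have hJcol : (J : Matrix (Fin n) (Fin n) K).col i =
          Pi.single i 1 + Pi.single (⟨(i : ℕ) - 1, hlt⟩ : Fin n) 1 := by
        funext k
        show (J : Matrix (Fin n) (Fin n) K) k i = _
        rw [hJ k i, Pi.add_apply, Pi.single_apply, Pi.single_apply]
        by_cases hki : k = i
        · rw [if_pos hki, if_pos hki, if_neg, add_zero]
          intro h
          have := congrArg Fin.val h
          rw [hki] at this
          simp only at this
          omega
        · rw [if_neg hki, if_neg hki, zero_add]
          by_cases hk1 : (i : ℕ) = (k : ℕ) + 1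
          · rw [if_pos hk1, if_pos]
            apply Fin.ext
            simp only
            omega
          · rw [if_neg hk1, if_neg]
            intro h
            have := congrArg Fin.val h
            simp only at this
            omega
      rw [hJcol, Matrix.mulVec_add, Matrix.mulVec_single_one, Matrix.mulVec_single_one, hXcol,
        hXcol]
      have hNb : N (b i) = b (⟨(i : ℕ) - 1, hlt⟩ : Fin n) := by
        rw [hbdef, hbdef, ← Module.End.mul_apply, ← pow_succ']
        congr 2
        rw [Fin.val_rev, Fin.val_rev]
        have := i.2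
        simp only
        omega
      rw [hNb]
  have hx' : ((x : GL (Fin n) K) : Matrix (Fin n) (Fin n) K) = X := hx
  rw [Units.val_mul, Units.val_mul, hx', ← hkey, mul_assoc, ← hx', Units.mul_inv, mul_one]

end Cfsg.Agent.Lib.Helper47_Lev_RUCONJ
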