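import Mathlib
import Cfsg.Agent.Lib.Helper13_LevDefs

set_option autoImplicit false

namespace Cfsg.Agent.Lib.Helper52_Lev_BASE1

open Module Cardinal Cfsg.Agent.Lib.Helper13_LevDefs

variable {K : Type*} [Field K] {V : Type*} [AddCommGroup V] [Module K V]

/-- BASE1 -/
theorem sp_dim_one [FiniteDimensional K V] (hn : finrank K V = 1) (C : V →ₗ[K] V)
    (hdet : LinearMap.det C = 1) (c : V) (hc : c ≠ 0) (b : Module.Dual K V) (hb : b ≠ 0) :
    SP C c b := by
  -- `C` is scalar
  obtain ⟨v, hv0, hv⟩ := finrank_eq_one_iff'.mp hn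
  obtain ⟨a, ha⟩ := hv (C v)
  have hCa : C = a • (1 : V →ₗ[K] V) := by
    apply LinearMap.ext
    intro w
    obtain ⟨t, rfl⟩ := hv w
    rw [map_smul, ← ha, LinearMap.smul_apply, Module.End.one_apply, smul_comm]
  have ha1 : a = 1 := by
    rw [hCa, LinearMap.det_smul, hn, pow_one, map_one, mul_one] at hdet
    exact hdet
  have hC1 : C = 1 := by rw [hCa, ha1, one_smul]
  have hRU : RU (1 : V →ₗ[K] V) := by
    refine ⟨?_, ?_⟩
    · rw [sub_self]; exact IsNilpotent.zero
    · rw [sub_self, LinearMap.range_zero, finrank_bot, hn]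
  obtain ⟨x, hx⟩ : ∃ x, b x ≠ 0 := by
    by_contra hcon
    push Not at hcon
    exact hb (LinearMap.ext hcon)
  refine ⟨1, 1, hRU, hRU, by rw [hC1, mul_one], ?_, x, ?_, hx⟩
  · rw [sub_self, LinearMap.range_zero]
    exact fun h => hc ((Submodule.mem_bot K).mp h)
  · rw [sub_self, LinearMap.ker_zero]
    exact Submodule.mem_top

end Cfsg.Agent.Lib.Helper52_Lev_BASE1
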