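import Mathlib
import Cfsg.Agent.Lib.Helper13_LevDefs

set_option autoImplicit false

namespace Cfsg.Agent.Lib.Helper52_Lev_CARD5

open Module Cardinal Cfsg.Agent.Lib.Helper13_LevDefs

variable {K : Type*} [Field K] {V : Type*} [AddCommGroup V] [Module K V]

/-- CARD5 -/
theorem five_le_card (hK : 4 ≤ #K) (h2 : (2 : K) ≠ 0) : 5 ≤ #K := by
  rcases finite_or_infinite K with hfin | hinf
  · have := Fintype.ofFinite K
    rw [Cardinal.mk_fintype] at hK ⊢
    have h4 : 4 ≤ Fintype.card K := by exact_mod_cast hK
    have hchar : ringChar K ≠ 2 := by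
      intro h
      apply h2
      have h3 : ((2 : ℕ) : K) = 0 := by
        rw [ringChar.spec, h]
      exact_mod_cast h3
    have hodd := FiniteField.odd_card_of_char_ne_two hchar
    have h5 : 5 ≤ Fintype.card K := by omega
    exact_mod_cast h5
  · exact le_trans (le_of_lt (Cardinal.natCast_lt_aleph0 (n := 5))) (Cardinal.aleph0_le_mk K)

end Cfsg.Agent.Lib.Helper52_Lev_CARD5
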