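import Mathlib
import Cfsg.Agent.Lib.Helper13_LevDefs
import Cfsg.Agent.Lib.Helper70_Lev_AV

/-!
# S2522 package `LEV-AVD` (helper70, for helper13): dual avoidance

Functionals killing `z`, normalised at `e`, nonzero at further vectors outside `K ∙ z`: avoidance in
the module `(K ∙ z).dualAnnihilator`.
-/

set_option autoImplicit false

namespace Cfsg.Agent.Lib.Helper70_Lev_AVD

open Module Cardinal Cfsg.Agent.Lib.Helper13_LevDefs Cfsg.Agent.Lib.Helper70_Lev_AV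

variable {K : Type*} [Field K] {V : Type*} [AddCommGroup V] [Module K V]

/-- the functionals killing `z` -/
abbrev Ann (z : V) : Submodule K (Module.Dual K V) := (K ∙ z).dualAnnihilator

/-- those of them vanishing at `x` -/
def Ax (z x : V) : Submodule K (Ann (K := K) z) :=
  LinearMap.ker ((Module.Dual.eval K V x).comp (Ann (K := K) z).subtype)

theorem mem_Ax (z x : V) (ε : Ann (K := K) z) : ε ∈ Ax z x ↔ (ε : Module.Dual K V) x = 0 := by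
  unfold Ax
  rw [LinearMap.mem_ker]
  rfl

theorem mem_Ann (z : V) (f : Module.Dual K V) (hf : f z = 0) : f ∈ Ann (K := K) z := by
  rw [Submodule.mem_dualAnnihilator]
  intro w hw
  obtain ⟨c, rfl⟩ := Submodule.mem_span_singleton.mp hw
  rw [map_smul, hf, smul_zero]

theorem ann_apply_self (z : V) (ε : Ann (K := K) z) : (ε : Module.Dual K V) z = 0 :=
  (Submodule.mem_dualAnnihilator _).mp ε.2 z (Submodule.mem_span_singleton_self z)

theorem exists_ann (z x : V) (hx : x ∉ K ∙ z) :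
    ∃ ε : Ann (K := K) z, (ε : Module.Dual K V) x ≠ 0 := by
  obtain ⟨f, hf, hmap⟩ := Submodule.exists_dual_map_eq_bot_of_notMem hx inferInstance
  refine ⟨⟨f, mem_Ann z f ?_⟩, hf⟩
  have : f z ∈ (K ∙ z).map f := Submodule.mem_map_of_mem (Submodule.mem_span_singleton_self z)
  rw [hmap] at this
  exact (Submodule.mem_bot K).mp this

theorem Ax_ne_top (z x : V) (hx : x ∉ K ∙ z) : Ax (K := K) z x ≠ ⊤ := by
  obtain ⟨ε, hε⟩ := exists_ann z x hx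
  intro h
  apply hε
  rw [← mem_Ax, h]
  trivial

/-- five proper subspaces, for fields with at least five elements -/
theorem avoid5 {U : Type*} [AddCommGroup U] [Module K U] (hK : 5 ≤ #K)
    (W₁ W₂ W₃ W₄ W₅ : Submodule K U) (h₁ : W₁ ≠ ⊤) (h₂ : W₂ ≠ ⊤)
    (h₃ : W₃ ≠ ⊤) (h₄ : W₄ ≠ ⊤) (h₅ : W₅ ≠ ⊤) :
    ∃ x : U, x ∉ W₁ ∧ x ∉ W₂ ∧ x ∉ W₃ ∧ x ∉ W₄ ∧ x ∉ W₅ := by
  classical
  have hcard : (({W₁, W₂, W₃, W₄, W₅} : Finset (Submodule K U)).card : Cardinal) ≤ #K := by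
    refine le_trans ?_ hK
    exact_mod_cast Finset.card_le_five
  obtain ⟨x, hx⟩ := avoid ({W₁, W₂, W₃, W₄, W₅} : Finset (Submodule K U)) hcard (by
    intro W hW
    simp only [Finset.mem_insert, Finset.mem_singleton] at hW
    rcases hW with rfl | rfl | rfl | rfl | rfl <;> assumption)
  exact ⟨x, hx W₁ (by simp), hx W₂ (by simp), hx W₃ (by simp), hx W₄ (by simp), hx W₅ (by simp)⟩

/-- AVD: a functional killing `z`, normalised at `e`, nonzero at three more vectors outside `K ∙ z`. -/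
theorem dual_avoid4 (hK : 4 ≤ #K) (z e x₁ x₂ x₃ : V) (he : e ∉ K ∙ z) (h₁ : x₁ ∉ K ∙ z)
    (h₂ : x₂ ∉ K ∙ z) (h₃ : x₃ ∉ K ∙ z) :
    ∃ ε : Module.Dual K V, ε z = 0 ∧ ε e = 1 ∧ ε x₁ ≠ 0 ∧ ε x₂ ≠ 0 ∧ ε x₃ ≠ 0 := by
  obtain ⟨ε, a0, a1, a2, a3⟩ := avoid4 (K := K) (V := Ann (K := K) z) hK (Ax z e) (Ax z x₁) (Ax z x₂) (Ax z x₃)
    (Ax_ne_top z e he) (Ax_ne_top z x₁ h₁) (Ax_ne_top z x₂ h₂) (Ax_ne_top z x₃ h₃)
  rw [mem_Ax] at a0 a1 a2 a3
  refine ⟨((ε : Module.Dual K V) e)⁻¹ • (ε : Module.Dual K V), ?_, ?_, ?_, ?_, ?_⟩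
  · rw [LinearMap.smul_apply, ann_apply_self, smul_zero]
  · rw [LinearMap.smul_apply, smul_eq_mul, inv_mul_cancel₀ a0]
  · rw [LinearMap.smul_apply, smul_eq_mul]; exact mul_ne_zero (inv_ne_zero a0) a1
  · rw [LinearMap.smul_apply, smul_eq_mul]; exact mul_ne_zero (inv_ne_zero a0) a2
  · rw [LinearMap.smul_apply, smul_eq_mul]; exact mul_ne_zero (inv_ne_zero a0) a3

/-- the line through a functional normalised at `e` is proper in `Ann z` when `dim V ≥ 3` -/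
theorem line_ne_top [FiniteDimensional K V] (hn : 3 ≤ finrank K V) (z e : V)
    (E₁ : Ann (K := K) z) (h1 : (E₁ : Module.Dual K V) e ≠ 0) :
    (K ∙ E₁ : Submodule K (Ann (K := K) z)) ≠ ⊤ := by
  classical
  have hlt : Submodule.span K ({z, e} : Set V) ≠ ⊤ := by
    intro htop
    have h2 : finrank K (Submodule.span K (({z, e} : Finset V) : Set V)) ≤ 2 :=
      (finrank_span_finset_le_card _).trans Finset.card_le_two
    rw [Finset.coe_insert, Finset.coe_singleton, htop, finrank_top] at h2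
    omega
  obtain ⟨v, hv⟩ : ∃ v, v ∉ Submodule.span K ({z, e} : Set V) := by
    by_contra h
    apply hlt
    rw [eq_top_iff]
    intro v _
    by_contra hv
    exact h ⟨v, hv⟩
  obtain ⟨f, hf, hmap⟩ := Submodule.exists_dual_map_eq_bot_of_notMem hv inferInstance
  have hfz : f z = 0 := by
    have : f z ∈ (Submodule.span K ({z, e} : Set V)).map f :=
      Submodule.mem_map_of_mem (Submodule.subset_span (by simp))
    rw [hmap] at this
    exact (Submodule.mem_bot K).mp this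
  have hfe : f e = 0 := by
    have : f e ∈ (Submodule.span K ({z, e} : Set V)).map f :=
      Submodule.mem_map_of_mem (Submodule.subset_span (by simp))
    rw [hmap] at this
    exact (Submodule.mem_bot K).mp this
  intro htop
  have hmem : (⟨f, mem_Ann z f hfz⟩ : Ann (K := K) z) ∈ (K ∙ E₁ : Submodule K (Ann (K := K) z)) := by
    rw [htop]; trivial
  obtain ⟨c, hc⟩ := Submodule.mem_span_singleton.mp hmem
  have hc' : c • (E₁ : Module.Dual K V) = f := congrArg Subtype.val hc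
  have hce : c * (E₁ : Module.Dual K V) e = 0 := by
    rw [← smul_eq_mul, ← LinearMap.smul_apply, hc', hfe]
  have hc0 : c = 0 := (mul_eq_zero.mp hce).resolve_right h1
  apply hf
  rw [← hc', hc0, zero_smul, LinearMap.zero_apply]

/-- AVD: two different normalised functionals killing `z`, nonzero at two more vectors outside `K ∙ z`. -/
theorem dual_avoid3_two [FiniteDimensional K V] (hK : 4 ≤ #K) (hn : 3 ≤ finrank K V)
    (z e x₁ x₂ : V) (he : e ∉ K ∙ z) (h₁ : x₁ ∉ K ∙ z) (h₂ : x₂ ∉ K ∙ z) :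
    ∃ ε₁ ε₂ : Module.Dual K V, (ε₁ z = 0 ∧ ε₁ e = 1 ∧ ε₁ x₁ ≠ 0 ∧ ε₁ x₂ ≠ 0) ∧
      (ε₂ z = 0 ∧ ε₂ e = 1 ∧ ε₂ x₁ ≠ 0 ∧ ε₂ x₂ ≠ 0) ∧ ε₁ ≠ ε₂ := by
  obtain ⟨ε₁, b0, b1, b2, b3, -⟩ := dual_avoid4 hK z e x₁ x₂ x₂ he h₁ h₂ h₂
  obtain ⟨ε, a0, a1, a2, a3⟩ := avoid4 (K := K) (V := Ann (K := K) z) hK (Ax z e) (Ax z x₁) (Ax z x₂)
    (K ∙ (⟨ε₁, mem_Ann z ε₁ b0⟩ : Ann (K := K) z))
    (Ax_ne_top z e he) (Ax_ne_top z x₁ h₁) (Ax_ne_top z x₂ h₂)
    (line_ne_top hn z e _ (by show ε₁ e ≠ 0; rw [b1]; exact one_ne_zero))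
  rw [mem_Ax] at a0 a1 a2
  refine ⟨ε₁, ((ε : Module.Dual K V) e)⁻¹ • (ε : Module.Dual K V), ⟨b0, b1, b2, b3⟩,
    ⟨?_, ?_, ?_, ?_⟩, ?_⟩
  · rw [LinearMap.smul_apply, ann_apply_self, smul_zero]
  · rw [LinearMap.smul_apply, smul_eq_mul, inv_mul_cancel₀ a0]
  · rw [LinearMap.smul_apply, smul_eq_mul]; exact mul_ne_zero (inv_ne_zero a0) a1
  · rw [LinearMap.smul_apply, smul_eq_mul]; exact mul_ne_zero (inv_ne_zero a0) a2
  · intro heq
    apply a3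
    rw [Submodule.mem_span_singleton]
    refine ⟨(ε : Module.Dual K V) e, Subtype.ext ?_⟩
    show (ε : Module.Dual K V) e • ε₁ = (ε : Module.Dual K V)
    rw [heq, smul_smul, mul_inv_cancel₀ a0, one_smul]

/-- AVD: same with three more vectors, for fields with at least five elements. -/
theorem dual_avoid4_two [FiniteDimensional K V] (hK : 5 ≤ #K) (hn : 3 ≤ finrank K V)
    (z e x₁ x₂ x₃ : V) (he : e ∉ K ∙ z) (h₁ : x₁ ∉ K ∙ z) (h₂ : x₂ ∉ K ∙ z) (h₃ : x₃ ∉ K ∙ z) :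
    ∃ ε₁ ε₂ : Module.Dual K V, (ε₁ z = 0 ∧ ε₁ e = 1 ∧ ε₁ x₁ ≠ 0 ∧ ε₁ x₂ ≠ 0 ∧ ε₁ x₃ ≠ 0) ∧
      (ε₂ z = 0 ∧ ε₂ e = 1 ∧ ε₂ x₁ ≠ 0 ∧ ε₂ x₂ ≠ 0 ∧ ε₂ x₃ ≠ 0) ∧ ε₁ ≠ ε₂ := by
  have hK4 : (4 : Cardinal) ≤ #K := le_trans (by norm_num) hK
  obtain ⟨ε₁, b0, b1, b2, b3, b4⟩ := dual_avoid4 hK4 z e x₁ x₂ x₃ he h₁ h₂ h₃
  obtain ⟨ε, a0, a1, a2, a3, a4⟩ := avoid5 (K := K) (U := Ann (K := K) z) hK (Ax z e) (Ax z x₁)
    (Ax z x₂) (Ax z x₃) (K ∙ (⟨ε₁, mem_Ann z ε₁ b0⟩ : Ann (K := K) z))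
    (Ax_ne_top z e he) (Ax_ne_top z x₁ h₁) (Ax_ne_top z x₂ h₂) (Ax_ne_top z x₃ h₃)
    (line_ne_top hn z e _ (by show ε₁ e ≠ 0; rw [b1]; exact one_ne_zero))
  rw [mem_Ax] at a0 a1 a2 a3
  refine ⟨ε₁, ((ε : Module.Dual K V) e)⁻¹ • (ε : Module.Dual K V), ⟨b0, b1, b2, b3, b4⟩,
    ⟨?_, ?_, ?_, ?_, ?_⟩, ?_⟩
  · rw [LinearMap.smul_apply, ann_apply_self, smul_zero]
  · rw [LinearMap.smul_apply, smul_eq_mul, inv_mul_cancel₀ a0]
  · rw [LinearMap.smul_apply, smul_eq_mul]; exact mul_ne_zero (inv_ne_zero a0) a1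
  · rw [LinearMap.smul_apply, smul_eq_mul]; exact mul_ne_zero (inv_ne_zero a0) a2
  · rw [LinearMap.smul_apply, smul_eq_mul]; exact mul_ne_zero (inv_ne_zero a0) a3
  · intro heq
    apply a4
    rw [Submodule.mem_span_singleton]
    refine ⟨(ε : Module.Dual K V) e, Subtype.ext ?_⟩
    show (ε : Module.Dual K V) e • ε₁ = (ε : Module.Dual K V)
    rw [heq, smul_smul, mul_inv_cancel₀ a0, one_smul]

end Cfsg.Agent.Lib.Helper70_Lev_AVD
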