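import Mathlib
import Cfsg.Agent.Lib.Helper13_LevDefs

/-!
# S2522 package `LEV-EIG` (helper70, for helper13): two proper subspaces whose avoidance excludes
eigenvectors
-/

set_option autoImplicit false

namespace Cfsg.Agent.Lib.Helper70_Lev_EIG

open Module Cardinal Cfsg.Agent.Lib.Helper13_LevDefs

variable {K : Type*} [Field K] {V : Type*} [AddCommGroup V] [Module K V]

/-- EIG: two proper subspaces whose avoidance excludes eigenvectors. -/
theorem eig_avoid [FiniteDimensional K V] (g : V →ₗ[K] V) (hg : ¬ ∃ a : K, g = a • (1 : V →ₗ[K] V)) :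
    ∃ W₁ W₂ : Submodule K V, W₁ ≠ ⊤ ∧ W₂ ≠ ⊤ ∧ ∀ e : V, e ∉ W₁ → e ∉ W₂ → ∀ a : K, g e ≠ a • e := by
  by_cases hev : ∃ (μ : K) (v : V), v ≠ 0 ∧ g v = μ • v
  · obtain ⟨μ, v, hv0, hv⟩ := hev
    refine ⟨LinearMap.ker (g - μ • (1 : V →ₗ[K] V)), LinearMap.range (g - μ • (1 : V →ₗ[K] V)),
      ?_, ?_, ?_⟩
    · intro htop
      apply hg
      refine ⟨μ, ?_⟩
      have h0 : g - μ • (1 : V →ₗ[K] V) = 0 := LinearMap.ker_eq_top.mp htop
      exact sub_eq_zero.mp h0
    · intro htop
      have hsurj : Function.Surjective (g - μ • (1 : V →ₗ[K] V)) := LinearMap.range_eq_top.mp htop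
      have hinj := LinearMap.injective_iff_surjective.mpr hsurj
      apply hv0
      apply hinj
      rw [map_zero, LinearMap.sub_apply, LinearMap.smul_apply, Module.End.one_apply, hv, sub_self]
    · intro e he1 he2 a hae
      by_cases haμ : a = μ
      · apply he1
        rw [LinearMap.mem_ker, LinearMap.sub_apply, LinearMap.smul_apply, Module.End.one_apply, hae,
          haμ, sub_self]
      · apply he2
        refine ⟨(a - μ)⁻¹ • e, ?_⟩
        rw [map_smul, LinearMap.sub_apply, LinearMap.smul_apply, Module.End.one_apply, hae,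
          ← sub_smul, smul_smul, inv_mul_cancel₀ (sub_ne_zero.mpr haμ), one_smul]
  · have hnt : Nontrivial V := by
      by_contra hnt
      rw [not_nontrivial_iff_subsingleton] at hnt
      apply hg
      exact ⟨0, LinearMap.ext fun x => Subsingleton.elim _ _⟩
    refine ⟨⊥, ⊥, bot_ne_top, bot_ne_top, ?_⟩
    intro e he _ a hae
    apply hev
    exact ⟨a, e, fun h0 => he (by rw [h0]; exact Submodule.zero_mem _), hae⟩

end Cfsg.Agent.Lib.Helper70_Lev_EIG
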