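import Mathlib
import Cfsg.Agent.Lib.Helper13_LevDefs

/-!
# S2522 package LEV-G2 (helper86, for architect helper13)

At most one normalised functional gives a scalar Schur complement.
-/

set_option autoImplicit false

namespace Cfsg.Agent.Lib.Helper86_Lev_G2

open Module Cfsg.Agent.Lib.Helper13_LevDefs

variable {K : Type*} [Field K] {V : Type*} [AddCommGroup V] [Module K V]

/-- G2 -/
theorem schur_scalar_unique [FiniteDimensional K V] (hn : 3 ≤ finrank K V) (g : V →ₗ[K] V)
    (hinj : LinearMap.ker g = ⊥) (e : V) (hev : ∀ a : K, g e ≠ a • e)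
    (ε₁ ε₂ : Module.Dual K V) (C₁ : LinearMap.ker ε₁ →ₗ[K] LinearMap.ker ε₁)
    (C₂ : LinearMap.ker ε₂ →ₗ[K] LinearMap.ker ε₂) (h₁ : IsSchur g e ε₁ C₁) (h₂ : IsSchur g e ε₂ C₂)
    (hne : ε₁ ≠ ε₂) (a₁ a₂ : K) (hC₁ : C₁ = a₁ • (1 : _ →ₗ[K] _)) (hC₂ : C₂ = a₂ • (1 : _ →ₗ[K] _)) :
    False := by
  have hginj : Function.Injective g := LinearMap.ker_eq_bot.mp hinj
  -- the scalar relations
  have E₁ : ∀ h : V, ε₁ h = 0 → a₁ • h = g h - ε₁ (g h) • g e := by
    intro h hh
    have := h₁.hC ⟨h, hh⟩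
    rw [hC₁] at this
    simpa using this
  have E₂ : ∀ h : V, ε₂ h = 0 → a₂ • h = g h - ε₂ (g h) • g e := by
    intro h hh
    have := h₂.hC ⟨h, hh⟩
    rw [hC₂] at this
    simpa using this
  -- a nonzero vector killed by both functionals
  obtain ⟨h₀, hh₀1, hh₀2, hh₀⟩ : ∃ h : V, ε₁ h = 0 ∧ ε₂ h = 0 ∧ h ≠ 0 := by
    let f : V →ₗ[K] (K × K) := ε₁.prod ε₂
    have hnot : ¬ Function.Injective f := by
      intro hf
      have := LinearMap.finrank_le_finrank_of_injective hf
      rw [Module.finrank_prod, Module.finrank_self] at this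
      omega
    rw [← LinearMap.ker_eq_bot] at hnot
    obtain ⟨x, hx, hx0⟩ := (Submodule.ne_bot_iff _).mp hnot
    have hfx : f x = 0 := hx
    have h1 : ε₁ x = 0 := congrArg Prod.fst hfx
    have h2 : ε₂ x = 0 := congrArg Prod.snd hfx
    exact ⟨x, h1, h2, hx0⟩
  have he0 : e ≠ 0 := by
    intro h
    have := h₁.he
    rw [h, map_zero] at this
    exact zero_ne_one this
  by_cases ha : a₁ = a₂
  · -- equal scalars
    subst ha
    -- the kernels differ
    have hker : LinearMap.ker ε₁ ≠ LinearMap.ker ε₂ := by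
      intro hk
      apply hne
      apply Module.Dual.eq_of_ker_eq_of_apply_eq e hk
      · rw [h₁.he, h₂.he]
      · rw [h₁.he]; exact one_ne_zero
    -- (g - a) v is a multiple of g e for all v
    have hall : ∀ v : V, ∃ s : K, g v - a₁ • v = s • g e := by
      have key : ∀ (x : V), (ε₁ x = 0 ∧ ε₂ x ≠ 0) ∨ (ε₂ x = 0 ∧ ε₁ x ≠ 0) →
          ∀ v : V, ∃ s : K, g v - a₁ • v = s • g e := by
        intro x hx v
        rcases hx with ⟨hx1, hx2⟩ | ⟨hx2, hx1⟩
        · -- v = (v - t x) + t x with t = ε₂ v / ε₂ x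
          set t := ε₂ v / ε₂ x with ht
          have hv2 : ε₂ (v - t • x) = 0 := by
            rw [map_sub, map_smul, smul_eq_mul, ht, div_mul_cancel₀ _ hx2, sub_self]
          have hx1' : ε₁ (t • x) = 0 := by rw [map_smul, hx1, smul_zero]
          have e1 := E₂ _ hv2
          have e2 := E₁ _ hx1'
          refine ⟨ε₂ (g (v - t • x)) + ε₁ (g (t • x)), ?_⟩
          have hv : v = (v - t • x) + t • x := by abel
          calc g v - a₁ • v = (g (v - t • x) - a₁ • (v - t • x)) + (g (t • x) - a₁ • (t • x)) := by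
                rw [map_sub, smul_sub]; abel
            _ = (ε₂ (g (v - t • x)) + ε₁ (g (t • x))) • g e := by
                rw [e1, e2, add_smul]; abel
        · set t := ε₁ v / ε₁ x with ht
          have hv1 : ε₁ (v - t • x) = 0 := by
            rw [map_sub, map_smul, smul_eq_mul, ht, div_mul_cancel₀ _ hx1, sub_self]
          have hx2' : ε₂ (t • x) = 0 := by rw [map_smul, hx2, smul_zero]
          have e1 := E₁ _ hv1
          have e2 := E₂ _ hx2'
          refine ⟨ε₁ (g (v - t • x)) + ε₂ (g (t • x)), ?_⟩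
          have hv : v = (v - t • x) + t • x := by abel
          calc g v - a₁ • v = (g (v - t • x) - a₁ • (v - t • x)) + (g (t • x) - a₁ • (t • x)) := by
                rw [map_sub, smul_sub]; abel
            _ = (ε₁ (g (v - t • x)) + ε₂ (g (t • x))) • g e := by
                rw [e1, e2, add_smul]; abel
      -- find x
      by_contra hcon
      apply hker
      have hno : ∀ x : V, ¬ ((ε₁ x = 0 ∧ ε₂ x ≠ 0) ∨ (ε₂ x = 0 ∧ ε₁ x ≠ 0)) := by
        intro x hx
        exact hcon (key x hx)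
      ext x
      rw [LinearMap.mem_ker, LinearMap.mem_ker]
      constructor
      · intro h1
        by_contra h2
        exact hno x (Or.inl ⟨h1, h2⟩)
      · intro h2
        by_contra h1
        exact hno x (Or.inr ⟨h2, h1⟩)
    obtain ⟨s, hs⟩ := hall e
    by_cases hs1 : s = 1
    · -- a = 0
      rw [hs1, one_smul, sub_eq_self, smul_eq_zero] at hs
      have ha0 : a₁ = 0 := hs.resolve_right he0
      obtain ⟨s', hs'⟩ := hall h₀
      rw [ha0, zero_smul, sub_zero, ← map_smul] at hs'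
      have hh : h₀ = s' • e := hginj hs'
      have : ε₁ h₀ = s' := by rw [hh, map_smul, h₁.he, smul_eq_mul, mul_one]
      rw [hh₀1] at this
      apply hh₀
      rw [hh, ← this, zero_smul]
    · -- g e is a multiple of e
      have h1s : (1 - s) ≠ 0 := sub_ne_zero.mpr (Ne.symm hs1)
      apply hev (a₁ / (1 - s))
      have h2 : (1 - s) • g e = a₁ • e := by
        rw [sub_smul, one_smul, ← hs]; abel
      calc g e = (1 - s)⁻¹ • ((1 - s) • g e) := by rw [smul_smul, inv_mul_cancel₀ h1s, one_smul]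
        _ = (a₁ / (1 - s)) • e := by rw [h2, smul_smul, div_eq_inv_mul]
  · -- different scalars
    have e1 := E₁ h₀ hh₀1
    have e2 := E₂ h₀ hh₀2
    have hsub : (a₁ - a₂) • h₀ = (ε₂ (g h₀) - ε₁ (g h₀)) • g e := by
      rw [sub_smul, sub_smul, e1, e2]; abel
    have ha' : a₁ - a₂ ≠ 0 := sub_ne_zero.mpr ha
    have hh : h₀ = ((a₁ - a₂)⁻¹ * (ε₂ (g h₀) - ε₁ (g h₀))) • g e := by
      rw [← smul_smul, ← hsub, smul_smul, inv_mul_cancel₀ ha', one_smul]
    have h0 : ε₁ h₀ = (a₁ - a₂)⁻¹ * (ε₂ (g h₀) - ε₁ (g h₀)) := by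
      conv_lhs => rw [hh]
      rw [map_smul, h₁.hge, smul_eq_mul, mul_one]
    rw [hh₀1] at h0
    apply hh₀
    rw [hh, ← h0, zero_smul]

end Cfsg.Agent.Lib.Helper86_Lev_G2
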