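import Mathlib
import Cfsg.Agent.Lib.Helper13_LevDefs

/-!
# S2522 package LEV-INV3 (helper86, for architect helper13): the dimension 3 determinant trick
-/

set_option autoImplicit false
set_option linter.unusedSimpArgs false

namespace Cfsg.Agent.Lib.Helper86_Lev_INV3

open Module Cfsg.Agent.Lib.Helper13_LevDefs

variable {K : Type*} [Field K] {V : Type*} [AddCommGroup V] [Module K V]

/-- INV3 -/
theorem inv3 [FiniteDimensional K V] (hn : finrank K V = 3) (g : V →ₗ[K] V)
    (hdet : LinearMap.det g = 1) (hinj : LinearMap.ker (g - 1) = ⊥) (e : V)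
    (hev : ∀ a : K, g e ≠ a • e) (w : V) (hw : (g - 1) w = g e) : w ∉ K ∙ ((g - 1) e) := by
  classical
  intro hmem
  obtain ⟨t, ht⟩ := Submodule.mem_span_singleton.mp hmem
  set N : V →ₗ[K] V := g - 1 with hN
  have hNapp : ∀ v : V, N v = g v - v := fun v => by simp [hN]
  have hgapp : ∀ v : V, g v = v + N v := fun v => by rw [hNapp]; abel
  have hge0 : g e ≠ 0 := by
    have := hev 0
    rwa [zero_smul] at this
  have hge : g e = t • N (N e) := by rw [← hw, ← ht, map_smul]
  have ht0 : t ≠ 0 := by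
    intro h
    rw [h, zero_smul] at hge
    exact hge0 hge
  have hNN : N (N e) = t⁻¹ • (e + N e) := by
    rw [← hgapp, hge, smul_smul, inv_mul_cancel₀ ht0, one_smul]
  have he0 : e ≠ 0 := by
    intro h
    apply hge0
    rw [h, map_zero]
  -- linear independence of `e`, `N e`
  have hli2 : LinearIndependent K ![e, N e] := by
    rw [LinearIndependent.pair_iff]
    intro a b hab
    have hb : b = 0 := by
      by_contra hb
      apply hev (1 - a / b)
      have h1 : N e = -(a / b) • e := by
        have h2 : b • N e = -(a • e) := eq_neg_of_add_eq_zero_right hab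
        calc N e = b⁻¹ • (b • N e) := by rw [smul_smul, inv_mul_cancel₀ hb, one_smul]
          _ = -(a / b) • e := by rw [h2, smul_neg, smul_smul, neg_smul, div_eq_inv_mul]
      rw [hgapp, h1, sub_smul, one_smul, neg_smul]
      abel
    rw [hb, zero_smul, add_zero, smul_eq_zero] at hab
    exact ⟨hab.resolve_right he0, hb⟩
  set P : Submodule K V := Submodule.span K (Set.range ![e, N e]) with hP
  have heP : e ∈ P := Submodule.subset_span ⟨0, rfl⟩
  have hNeP : N e ∈ P := Submodule.subset_span ⟨1, rfl⟩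
  have hNNeP : N (N e) ∈ P := by
    rw [hNN]; exact P.smul_mem _ (P.add_mem heP hNeP)
  obtain ⟨v3, hv3⟩ : ∃ v3 : V, v3 ∉ P := by
    by_contra h
    push Not at h
    have htop : P = ⊤ := eq_top_iff.mpr (fun x _ => h x)
    have h1 : finrank K P = 3 := by rw [htop, finrank_top, hn]
    have h2 := finrank_range_le_card (R := K) ![e, N e]
    have h3 : Set.finrank K (Set.range ![e, N e]) = finrank K P := rfl
    rw [h3, h1] at h2
    simp at h2
  have hli3 : LinearIndependent K (Fin.cons v3 ![e, N e] : Fin 3 → V) :=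
    linearIndependent_finCons.mpr ⟨hli2, hv3⟩
  let b : Basis (Fin 3) K V := basisOfLinearIndependentOfCardEqFinrank hli3 (by simp [hn])
  have hb : ⇑b = (Fin.cons v3 ![e, N e] : Fin 3 → V) :=
    coe_basisOfLinearIndependentOfCardEqFinrank hli3 _
  have hb0 : b 0 = v3 := by rw [hb]; rfl
  have hb1 : b 1 = e := by rw [hb]; rfl
  have hb2 : b 2 = N e := by rw [hb]; rfl
  set M := LinearMap.toMatrix b b g with hM
  have hdetM : M.det = 1 := by rw [hM, LinearMap.det_toMatrix, hdet]
  have hcol1 : g (b 1) = b 1 + b 2 := by rw [hb1, hb2]; exact hgapp e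
  have hcol2 : g (b 2) = t⁻¹ • b 1 + (1 + t⁻¹) • b 2 := by
    rw [hb1, hb2, hgapp (N e), hNN, smul_add, add_smul, one_smul]
    abel
  have h01 : (0 : Fin 3) ≠ 1 := by decide
  have h02 : (0 : Fin 3) ≠ 2 := by decide
  have h12 : (1 : Fin 3) ≠ 2 := by decide
  have m01 : M 0 1 = 0 := by
    rw [hM, LinearMap.toMatrix_apply, hcol1]
    simp [Finsupp.single_apply, h01.symm, h02.symm]
  have m11 : M 1 1 = 1 := by
    rw [hM, LinearMap.toMatrix_apply, hcol1]
    simp [Finsupp.single_apply, h12.symm]
  have m21 : M 2 1 = 1 := by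
    rw [hM, LinearMap.toMatrix_apply, hcol1]
    simp [Finsupp.single_apply, h12]
  have m02 : M 0 2 = 0 := by
    rw [hM, LinearMap.toMatrix_apply, hcol2]
    simp [Finsupp.single_apply, h01.symm, h02.symm]
  have m12 : M 1 2 = t⁻¹ := by
    rw [hM, LinearMap.toMatrix_apply, hcol2]
    simp [Finsupp.single_apply, h12.symm]
  have m22 : M 2 2 = 1 + t⁻¹ := by
    rw [hM, LinearMap.toMatrix_apply, hcol2]
    simp [Finsupp.single_apply, h12]
  have m00 : M 0 0 = 1 := by
    rw [Matrix.det_fin_three, m01, m11, m21, m02, m12, m22] at hdetM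
    linear_combination hdetM
  -- `N v3 ∈ P`
  have hgv3 : g v3 = M 0 0 • v3 + M 1 0 • e + M 2 0 • N e := by
    have h := b.sum_repr (g (b 0))
    rw [Fin.sum_univ_three, hb0, hb1, hb2] at h
    rw [← h]
    simp only [hM, LinearMap.toMatrix_apply, hb0]
  have hNv3 : N v3 ∈ P := by
    rw [hNapp, hgv3, m00, one_smul]
    have : v3 + M 1 0 • e + M 2 0 • N e - v3 = M 1 0 • e + M 2 0 • N e := by abel
    rw [this]
    exact P.add_mem (P.smul_mem _ heP) (P.smul_mem _ hNeP)
  -- `N` is surjective
  have hNinj : Function.Injective N := LinearMap.ker_eq_bot.mp hinj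
  have hNsurj : Function.Surjective N := LinearMap.injective_iff_surjective.mp hNinj
  obtain ⟨u, hu⟩ := hNsurj v3
  apply hv3
  rw [← hu]
  have h := b.sum_repr u
  rw [Fin.sum_univ_three, hb0, hb1, hb2] at h
  rw [← h, map_add, map_add, map_smul, map_smul, map_smul]
  exact P.add_mem (P.add_mem (P.smul_mem _ hNv3) (P.smul_mem _ hNeP)) (P.smul_mem _ hNNeP)

end Cfsg.Agent.Lib.Helper86_Lev_INV3
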