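import Mathlib
import Cfsg.Agent.Lib.Helper13_LevDefs

/-!
# LEV-DETC (helper8, package of helper13's S2522 plan): `det C = det g` for a Schur complement `C`.
-/

set_option autoImplicit false

namespace Cfsg.Agent.Lib.Helper8_Lev_DETC

open Module Cfsg.Agent.Lib.Helper13_LevDefs

variable {K : Type*} [Field K] {V : Type*} [AddCommGroup V] [Module K V]

/-- DETC -/
theorem det_schur [FiniteDimensional K V] (g : V →ₗ[K] V) (e : V) (ε : Module.Dual K V)
    (C : LinearMap.ker ε →ₗ[K] LinearMap.ker ε) (hS : IsSchur g e ε C) :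
    LinearMap.det C = LinearMap.det g := by
  obtain ⟨β, hβ⟩ : ∃ β : Module.Dual K V, β = ε ∘ₗ (g - 1) := ⟨_, rfl⟩
  have hβa : ∀ x, β x = ε (g x) - ε x := by
    intro x
    rw [hβ]
    simp
  have hβe : β e = 0 := by rw [hβa, hS.hge, hS.he, sub_self]
  obtain ⟨g₂, hg₂⟩ : ∃ g₂ : V →ₗ[K] V, g₂ = g ∘ₗ (LinearMap.transvection (-β) e) := ⟨_, rfl⟩
  have hg₂a : ∀ x, g₂ x = g x - β x • g e := by
    intro x
    rw [hg₂, LinearMap.comp_apply, LinearMap.transvection.apply]
    simp [sub_eq_add_neg]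
  have hdet : LinearMap.det g₂ = LinearMap.det g := by
    have h1 : g₂ = g * LinearMap.transvection (-β) e := hg₂
    rw [h1, map_mul, LinearMap.transvection.det, LinearMap.neg_apply, hβe, neg_zero, add_zero,
      mul_one]
  have hεg₂ : ∀ x, ε (g₂ x) = ε x := by
    intro x
    rw [hg₂a, map_sub, map_smul, hS.hge, hβa]
    simp
  have hinv : LinearMap.ker ε ≤ (LinearMap.ker ε).comap g₂ := by
    intro x hx
    show ε (g₂ x) = 0
    rw [hεg₂]
    exact hx
  have hres : g₂.restrict hinv = C := by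
    apply LinearMap.ext
    intro v
    apply Subtype.ext
    rw [LinearMap.coe_restrict_apply, hS.hC v, hg₂a, hβa]
    have hv : ε (v : V) = 0 := v.2
    rw [hv, sub_zero]
  have hquot : (LinearMap.ker ε).mapQ (LinearMap.ker ε) g₂ hinv = LinearMap.id := by
    apply LinearMap.ext
    intro y
    obtain ⟨x, rfl⟩ := Submodule.Quotient.mk_surjective _ y
    rw [Submodule.mapQ_apply, LinearMap.id_apply, Submodule.Quotient.eq]
    show ε (g₂ x - x) = 0
    rw [map_sub, hεg₂, sub_self]
  have h2 := LinearMap.det_eq_det_mul_det (LinearMap.ker ε) g₂ hinv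
  rw [hres, hquot, LinearMap.det_id, mul_one] at h2
  rw [← h2, hdet]

end Cfsg.Agent.Lib.Helper8_Lev_DETC
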