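import Mathlib
import Cfsg.Agent.Lib.Helper13_LevDefs
import Cfsg.Agent.Lib.Helper13_LevAV
import Cfsg.Agent.Lib.Helper70_Lev_AVD
import Cfsg.Agent.Lib.Helper70_Lev_EIG
import Cfsg.Agent.Lib.Helper52_Lev_CARD5
import Cfsg.Agent.Lib.Helper10_Lev_BORDER
import Cfsg.Agent.Lib.Helper8_Lev_DETC
import Cfsg.Agent.Lib.Helper10_Lev_G1
import Cfsg.Agent.Lib.Helper86_Lev_G2
import Cfsg.Agent.Lib.Helper86_Lev_INV3
import Cfsg.Agent.Lib.Helper47_Lev_TRANSV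
import Cfsg.Agent.Lib.Helper47_Lev_RUCONJ
import Cfsg.Agent.Lib.Helper52_Lev_BASE1

/-!
Shim `Helper13_LevPk` for S2522 (helper13): the general lemmas of the LEV project, re-exported from the
packages of helper70 (AVD, EIG), helper52 (CARD5, BASE1), helper10 (BORDER, G1), helper8 (DETC),
helper86 (G2, INV3), helper47 (TRANSV, RUCONJ) under the names the Key Lemma packages use.
-/

set_option autoImplicit false

namespace Cfsg.Agent.Lib.Helper13_LevPk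

open Module Cardinal Cfsg.Agent.Lib.Helper13_LevDefs Cfsg.Agent.Lib.Helper13_LevAV

variable {K : Type*} [Field K] {V : Type*} [AddCommGroup V] [Module K V]

/-- AVD: a functional killing `z`, normalised at `e`, nonzero at three more vectors outside `K ∙ z`. -/
theorem dual_avoid4 (hK : 4 ≤ #K) (z e x₁ x₂ x₃ : V) (he : e ∉ K ∙ z) (h₁ : x₁ ∉ K ∙ z)
    (h₂ : x₂ ∉ K ∙ z) (h₃ : x₃ ∉ K ∙ z) :
    ∃ ε : Module.Dual K V, ε z = 0 ∧ ε e = 1 ∧ ε x₁ ≠ 0 ∧ ε x₂ ≠ 0 ∧ ε x₃ ≠ 0 :=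
  Cfsg.Agent.Lib.Helper70_Lev_AVD.dual_avoid4 hK z e x₁ x₂ x₃ he h₁ h₂ h₃

/-- AVD: two different normalised functionals killing `z`, nonzero at two more vectors outside `K ∙ z`. -/
theorem dual_avoid3_two [FiniteDimensional K V] (hK : 4 ≤ #K) (hn : 3 ≤ finrank K V)
    (z e x₁ x₂ : V) (he : e ∉ K ∙ z) (h₁ : x₁ ∉ K ∙ z) (h₂ : x₂ ∉ K ∙ z) :
    ∃ ε₁ ε₂ : Module.Dual K V, (ε₁ z = 0 ∧ ε₁ e = 1 ∧ ε₁ x₁ ≠ 0 ∧ ε₁ x₂ ≠ 0) ∧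
      (ε₂ z = 0 ∧ ε₂ e = 1 ∧ ε₂ x₁ ≠ 0 ∧ ε₂ x₂ ≠ 0) ∧ ε₁ ≠ ε₂ :=
  Cfsg.Agent.Lib.Helper70_Lev_AVD.dual_avoid3_two hK hn z e x₁ x₂ he h₁ h₂

/-- AVD: same with three more vectors, for fields with at least five elements. -/
theorem dual_avoid4_two [FiniteDimensional K V] (hK : 5 ≤ #K) (hn : 3 ≤ finrank K V)
    (z e x₁ x₂ x₃ : V) (he : e ∉ K ∙ z) (h₁ : x₁ ∉ K ∙ z) (h₂ : x₂ ∉ K ∙ z) (h₃ : x₃ ∉ K ∙ z) :
    ∃ ε₁ ε₂ : Module.Dual K V, (ε₁ z = 0 ∧ ε₁ e = 1 ∧ ε₁ x₁ ≠ 0 ∧ ε₁ x₂ ≠ 0 ∧ ε₁ x₃ ≠ 0) ∧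
      (ε₂ z = 0 ∧ ε₂ e = 1 ∧ ε₂ x₁ ≠ 0 ∧ ε₂ x₂ ≠ 0 ∧ ε₂ x₃ ≠ 0) ∧ ε₁ ≠ ε₂ :=
  Cfsg.Agent.Lib.Helper70_Lev_AVD.dual_avoid4_two hK hn z e x₁ x₂ x₃ he h₁ h₂ h₃

/-- EIG: two proper subspaces whose avoidance excludes eigenvectors. -/
theorem eig_avoid [FiniteDimensional K V] (g : V →ₗ[K] V) (hg : ¬ ∃ a : K, g = a • (1 : V →ₗ[K] V)) :
    ∃ W₁ W₂ : Submodule K V, W₁ ≠ ⊤ ∧ W₂ ≠ ⊤ ∧ ∀ e : V, e ∉ W₁ → e ∉ W₂ → ∀ a : K, g e ≠ a • e :=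
  Cfsg.Agent.Lib.Helper70_Lev_EIG.eig_avoid g hg

/-- CARD5 -/
theorem five_le_card (hK : 4 ≤ #K) (h2 : (2 : K) ≠ 0) : 5 ≤ #K :=
  Cfsg.Agent.Lib.Helper52_Lev_CARD5.five_le_card hK h2

/-- BORDER -/
theorem border [FiniteDimensional K V] (g : V →ₗ[K] V) (e : V) (ε : Module.Dual K V)
    (C : LinearMap.ker ε →ₗ[K] LinearMap.ker ε) (hS : IsSchur g e ε C)
    (c : LinearMap.ker ε) (hc : (c : V) = g e - e) (c0 : V) (b0 : Module.Dual K V)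
    (hb0 : b0 e ≠ 0) (hc0 : ε c0 ≠ 0) (h : SP C c (bRow g ε)) : SP g c0 b0 :=
  Cfsg.Agent.Lib.Helper10_Lev_BORDER.border g e ε C hS c hc c0 b0 hb0 hc0 h

/-- DETC -/
theorem det_schur [FiniteDimensional K V] (g : V →ₗ[K] V) (e : V) (ε : Module.Dual K V)
    (C : LinearMap.ker ε →ₗ[K] LinearMap.ker ε) (hS : IsSchur g e ε C) :
    LinearMap.det C = LinearMap.det g :=
  Cfsg.Agent.Lib.Helper8_Lev_DETC.det_schur g e ε C hS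

/-- G1 (R1) -/
theorem rank_schur_of_notMem_range [FiniteDimensional K V] (g : V →ₗ[K] V) (e : V)
    (ε : Module.Dual K V) (C : LinearMap.ker ε →ₗ[K] LinearMap.ker ε) (hS : IsSchur g e ε C)
    (he : e ∉ LinearMap.range (g - 1)) :
    finrank K (LinearMap.range (g - 1)) ≤ finrank K (LinearMap.range (C - 1)) + 1 :=
  Cfsg.Agent.Lib.Helper10_Lev_G1.rank_schur_of_notMem_range g e ε C hS he

/-- G1 (R2) -/
theorem rank_schur_eq [FiniteDimensional K V] (g : V →ₗ[K] V) (e : V)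
    (ε : Module.Dual K V) (C : LinearMap.ker ε →ₗ[K] LinearMap.ker ε) (hS : IsSchur g e ε C)
    (he : e ∉ LinearMap.range (g - 1)) (f : V) (hf : (g - 1) f = 0) (hεf : ε f ≠ 0) :
    finrank K (LinearMap.range (C - 1)) = finrank K (LinearMap.range (g - 1)) :=
  Cfsg.Agent.Lib.Helper10_Lev_G1.rank_schur_eq g e ε C hS he f hf hεf

/-- G1 (R3) -/
theorem rank_schur_ge [FiniteDimensional K V] (g : V →ₗ[K] V) (e : V)
    (ε : Module.Dual K V) (C : LinearMap.ker ε →ₗ[K] LinearMap.ker ε) (hS : IsSchur g e ε C) :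
    finrank K (LinearMap.range (g - 1)) ≤ finrank K (LinearMap.range (C - 1)) + 2 :=
  Cfsg.Agent.Lib.Helper10_Lev_G1.rank_schur_ge g e ε C hS

/-- G1 (R4) -/
theorem ker_schur_sub_one [FiniteDimensional K V] (g : V →ₗ[K] V) (e : V)
    (ε : Module.Dual K V) (C : LinearMap.ker ε →ₗ[K] LinearMap.ker ε) (hS : IsSchur g e ε C)
    (hinj : LinearMap.ker (g - 1) = ⊥) (w : V) (hw : (g - 1) w = g e) (hεw : ε w ≠ 0) :
    LinearMap.ker (C - 1) = ⊥ :=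
  Cfsg.Agent.Lib.Helper10_Lev_G1.ker_schur_sub_one g e ε C hS hinj w hw hεw

/-- G2 -/
theorem schur_scalar_unique [FiniteDimensional K V] (hn : 3 ≤ finrank K V) (g : V →ₗ[K] V)
    (hinj : LinearMap.ker g = ⊥) (e : V) (hev : ∀ a : K, g e ≠ a • e)
    (ε₁ ε₂ : Module.Dual K V) (C₁ : LinearMap.ker ε₁ →ₗ[K] LinearMap.ker ε₁)
    (C₂ : LinearMap.ker ε₂ →ₗ[K] LinearMap.ker ε₂) (h₁ : IsSchur g e ε₁ C₁) (h₂ : IsSchur g e ε₂ C₂)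
    (hne : ε₁ ≠ ε₂) (a₁ a₂ : K) (hC₁ : C₁ = a₁ • (1 : _ →ₗ[K] _)) (hC₂ : C₂ = a₂ • (1 : _ →ₗ[K] _)) :
    False :=
  Cfsg.Agent.Lib.Helper86_Lev_G2.schur_scalar_unique hn g hinj e hev ε₁ ε₂ C₁ C₂ h₁ h₂ hne a₁ a₂ hC₁ hC₂

/-- INV3 -/
theorem inv3 [FiniteDimensional K V] (hn : finrank K V = 3) (g : V →ₗ[K] V)
    (hdet : LinearMap.det g = 1) (hinj : LinearMap.ker (g - 1) = ⊥) (e : V)
    (hev : ∀ a : K, g e ≠ a • e) (w : V) (hw : (g - 1) w = g e) : w ∉ K ∙ ((g - 1) e) :=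
  Cfsg.Agent.Lib.Helper86_Lev_INV3.inv3 hn g hdet hinj e hev w hw

/-- TRANSV -/
theorem transv [FiniteDimensional K V] (hn : 3 ≤ finrank K V) (g : V →ₗ[K] V)
    (hdet : LinearMap.det g = 1) (hr : finrank K (LinearMap.range (g - 1)) = 1) :
    ∃ u₁ u₂ : V →ₗ[K] V, RU u₁ ∧ RU u₂ ∧ g = u₁ * u₂ :=
  Cfsg.Agent.Lib.Helper47_Lev_TRANSV.transv hn g hdet hr

/-- RUCONJ -/
theorem ru_conj (n : ℕ) (u : Matrix (Fin n) (Fin n) K) (hu : RU (Matrix.toLin' u))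
    (J : GL (Fin n) K)
    (hJ : ∀ i j : Fin n, (J : Matrix (Fin n) (Fin n) K) i j =
      if i = j then 1 else if j.val = i.val + 1 then 1 else 0) :
    ∃ x : GL (Fin n) K, u = ((x * J * x⁻¹ : GL (Fin n) K) : Matrix (Fin n) (Fin n) K) :=
  Cfsg.Agent.Lib.Helper47_Lev_RUCONJ.ru_conj n u hu J hJ

/-- BASE1 -/
theorem sp_dim_one [FiniteDimensional K V] (hn : finrank K V = 1) (C : V →ₗ[K] V)
    (hdet : LinearMap.det C = 1) (c : V) (hc : c ≠ 0) (b : Module.Dual K V) (hb : b ≠ 0) :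
    SP C c b :=
  Cfsg.Agent.Lib.Helper52_Lev_BASE1.sp_dim_one hn C hdet c hc b hb

end Cfsg.Agent.Lib.Helper13_LevPk
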