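import Mathlib
import Cfsg.Agent.Lib.Helper13_LevDefs
import Cfsg.Agent.Lib.Helper13_LevAV
import Cfsg.Agent.Lib.Helper13_LevPk

/-!
# LEV-KL2 (helper49): the Key Lemma in dimension two (S2522 package, architect helper13)
-/

set_option autoImplicit false
set_option linter.unusedVariables false

namespace Cfsg.Agent.Lib.Helper49_Lev_KL2

open Module Cardinal Cfsg.Agent.Lib.Helper13_LevDefs Cfsg.Agent.Lib.Helper13_LevAV
  Cfsg.Agent.Lib.Helper13_LevPk

variable {K : Type*} [Field K] {V : Type*} [AddCommGroup V] [Module K V]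

/-- if `N` is injective, `ε e = 1`, `ε (N e) = 0` then `bRow g ε ≠ 0` (`N = g - 1`) -/
theorem bRow_ne_zero_of_injective [FiniteDimensional K V] (g : V →ₗ[K] V)
    (hinj : Function.Injective (g - (1 : V →ₗ[K] V))) (e : V) (ε : Module.Dual K V) (he : ε e = 1)
    (hNe : ε ((g - 1) e) = 0) : bRow g ε ≠ 0 := by
  intro hb
  have hNH : ∀ h ∈ LinearMap.ker ε, (g - 1) h ∈ LinearMap.ker ε := by
    intro h hh
    have h1 := bRow_apply g ε ⟨h, hh⟩
    rw [hb] at h1
    have h2 : ε (g h) = 0 := by simpa using h1.symm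
    rw [LinearMap.mem_ker] at hh ⊢
    rw [LinearMap.sub_apply, map_sub, h2, Module.End.one_apply, hh, sub_zero]
  let R : LinearMap.ker ε →ₗ[K] LinearMap.ker ε := (g - 1).restrict hNH
  have hRinj : Function.Injective R := by
    intro a b hab
    apply Subtype.ext
    apply hinj
    have := congrArg Subtype.val hab
    simpa [R, LinearMap.coe_restrict_apply] using this
  have hRsurj : Function.Surjective R := LinearMap.injective_iff_surjective.1 hRinj
  obtain ⟨h, hh⟩ := hRsurj ⟨(g - 1) e, hNe⟩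
  have h3 : (g - 1) (h : V) = (g - 1) e := by
    have := congrArg Subtype.val hh
    simpa [R, LinearMap.coe_restrict_apply] using this
  have h4 : (h : V) = e := hinj h3
  have h5 : ε e = 0 := by rw [← h4]; exact h.2
  rw [he] at h5
  exact one_ne_zero h5

/-- KL2 -/
theorem key2 [FiniteDimensional K V] (hK : 4 ≤ #K) (hn : finrank K V = 2) (g : V →ₗ[K] V)
    (hgood : Good g) (hdet : LinearMap.det g = 1) (c0 : V) (hc0 : c0 ≠ 0) (b0 : Module.Dual K V)
    (hb0 : b0 ≠ 0) : KeyConcl g c0 b0 := by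
  obtain ⟨hns, hrk⟩ := hgood
  -- `N = g - 1` is bijective
  have hrange : LinearMap.range (g - 1) = ⊤ := by
    apply Submodule.eq_top_of_finrank_eq
    apply le_antisymm (Submodule.finrank_le _)
    rw [hn]
    exact hrk
  have hsurj : Function.Surjective (g - (1 : V →ₗ[K] V)) := LinearMap.range_eq_top.1 hrange
  have hinj : Function.Injective (g - (1 : V →ₗ[K] V)) := LinearMap.injective_iff_surjective.2 hsurj
  -- the four subspaces
  obtain ⟨W₁, W₂, hW₁, hW₂, hW⟩ := eig_avoid g hns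
  have hkb : LinearMap.ker b0 ≠ ⊤ := by
    intro h
    exact hb0 (LinearMap.ker_eq_top.1 h)
  have hcm : (K ∙ c0).comap (g - 1) ≠ ⊤ := by
    intro h
    have hle : LinearMap.range (g - 1) ≤ K ∙ c0 := by
      rintro _ ⟨x, rfl⟩
      have : x ∈ (K ∙ c0).comap (g - 1) := by rw [h]; exact Submodule.mem_top
      exact this
    have h1 := Submodule.finrank_mono hle
    rw [finrank_span_singleton hc0] at h1
    omega
  obtain ⟨e, he₁, he₂, he₃, he₄⟩ := avoid4 hK W₁ W₂ (LinearMap.ker b0) ((K ∙ c0).comap (g - 1))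
    hW₁ hW₂ hkb hcm
  have hev := hW e he₁ he₂
  have hb0e : b0 e ≠ 0 := fun h => he₃ (LinearMap.mem_ker.2 h)
  have hNe : (g - 1) e ∉ K ∙ c0 := fun h => he₄ h
  have hNe0 : (g - 1) e ≠ 0 := by
    intro h
    apply hNe
    rw [h]
    exact Submodule.zero_mem _
  have hNe' : (g - 1) e = g e - e := by
    rw [LinearMap.sub_apply, Module.End.one_apply]
  -- `e ∉ K ∙ N e`
  have he_span : e ∉ K ∙ ((g - 1) e) := by
    intro h
    obtain ⟨t, ht⟩ := Submodule.mem_span_singleton.1 h
    have ht0 : t ≠ 0 := by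
      rintro rfl
      rw [zero_smul] at ht
      apply hb0e
      rw [← ht, map_zero]
    apply hev (1 + t⁻¹)
    have h1 : g e = (g - 1) e + e := by rw [hNe']; abel
    have h2 : (g - 1) e = t⁻¹ • e := by
      calc (g - 1) e = t⁻¹ • (t • (g - 1) e) := by
            rw [smul_smul, inv_mul_cancel₀ ht0, one_smul]
        _ = t⁻¹ • e := by rw [ht]
    rw [h1, h2, add_smul, one_smul, add_comm]
  have hc_span : c0 ∉ K ∙ ((g - 1) e) := by
    intro h
    obtain ⟨t, ht⟩ := Submodule.mem_span_singleton.1 h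
    have ht0 : t ≠ 0 := by
      rintro rfl
      rw [zero_smul] at ht
      exact hc0 ht.symm
    apply hNe
    rw [Submodule.mem_span_singleton]
    refine ⟨t⁻¹, ?_⟩
    rw [← ht, smul_smul, inv_mul_cancel₀ ht0, one_smul]
  obtain ⟨ε, hεz, hεe, hεc, -, -⟩ := dual_avoid4 hK ((g - 1) e) e c0 c0 c0 he_span hc_span
    hc_span hc_span
  refine ⟨e, ε, hεe, ?_, hb0e, hεc, ?_, ?_, ?_⟩
  · have h1 : g e = (g - 1) e + e := by rw [hNe']; abel
    rw [h1, map_add, hεz, hεe, zero_add]
  · rw [← hNe']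
    exact hNe0
  · exact bRow_ne_zero_of_injective g hinj e ε hεe hεz
  · intro C _ h3
    omega

end Cfsg.Agent.Lib.Helper49_Lev_KL2
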