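import Mathlib
import Cfsg.Agent.Lib.Helper13_LevDefs
import Cfsg.Agent.Lib.Helper13_LevAV
import Cfsg.Agent.Lib.Helper13_LevPk

/-!
S2522 (helper13's LEV market), package LEV-KLB: the Key Lemma in the case `n ≥ 4`, `rank (g - 1) = n - 1`.
-/

set_option autoImplicit false

namespace Cfsg.Agent.Lib.Helper55_Lev_KLB

open Module Cardinal Cfsg.Agent.Lib.Helper13_LevDefs Cfsg.Agent.Lib.Helper13_LevAV Cfsg.Agent.Lib.Helper13_LevPk

variable {K : Type*} [Field K] {V : Type*} [AddCommGroup V] [Module K V]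

/-- a line has dimension at most one -/
theorem finrank_span_singleton_le_one (z : V) : finrank K (K ∙ z) ≤ 1 := by
  by_cases hz : z = 0
  · rw [hz, Submodule.span_zero_singleton, finrank_bot]
    exact Nat.zero_le 1
  · rw [finrank_span_singleton hz]

/-- a subspace of dimension at least two is not contained in a line -/
theorem exists_mem_notMem_span [FiniteDimensional K V] (I : Submodule K V) (h : 2 ≤ finrank K I) (z : V) :
    ∃ y ∈ I, y ∉ K ∙ z := by
  by_contra hcon
  push Not at hcon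
  have hle : I ≤ K ∙ z := fun y hy => hcon y hy
  have h1 := Submodule.finrank_mono hle
  have h2 : finrank K (K ∙ z) ≤ 1 := finrank_span_singleton_le_one z
  omega

/-- KLB : n ≥ 4, rank (g-1) = n - 1 -/
theorem keyB [FiniteDimensional K V] (hK : 4 ≤ #K) (hn : 4 ≤ finrank K V) (g : V →ₗ[K] V)
    (hgood : Good g) (hdet : LinearMap.det g = 1)
    (hr : finrank K (LinearMap.range (g - 1)) + 1 = finrank K V)
    (c0 : V) (hc0 : c0 ≠ 0) (b0 : Module.Dual K V) (hb0 : b0 ≠ 0) : KeyConcl g c0 b0 := by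
  have hn3 : 3 ≤ finrank K V := by omega
  -- the four subspaces to avoid
  have hI : LinearMap.range (g - 1) ≠ ⊤ := by
    intro h
    rw [h, finrank_top] at hr
    omega
  have hkb : LinearMap.ker b0 ≠ ⊤ := by
    intro h
    apply hb0
    exact LinearMap.ker_eq_top.mp h
  have hW : (K ∙ c0).comap (g - 1) ≠ ⊤ := by
    intro h
    have hle : LinearMap.range (g - 1) ≤ K ∙ c0 := by
      rintro _ ⟨x, rfl⟩
      have hx : x ∈ (K ∙ c0).comap (g - 1) := by rw [h]; trivial
      exact hx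
    have h1 := Submodule.finrank_mono hle
    have h2 : finrank K (K ∙ c0) ≤ 1 := finrank_span_singleton_le_one c0
    omega
  obtain ⟨e, he1, he2, he3, -⟩ := avoid4 hK _ _ _ _ hI hkb hW hW
  have hb0e : b0 e ≠ 0 := fun h => he2 (LinearMap.mem_ker.mpr h)
  have hNe : (g - 1) e ∉ K ∙ c0 := fun h => he3 h
  have hNe0 : (g - 1) e ≠ 0 := by
    intro h
    apply hNe
    rw [h]
    exact Submodule.zero_mem _
  have hge : g e = e + (g - 1) e := by simp
  have hc0N : c0 ∉ K ∙ ((g - 1) e) := by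
    intro h
    obtain ⟨t, ht⟩ := Submodule.mem_span_singleton.mp h
    have ht0 : t ≠ 0 := by
      rintro rfl
      rw [zero_smul] at ht
      exact hc0 ht.symm
    apply hNe
    rw [Submodule.mem_span_singleton]
    refine ⟨t⁻¹, ?_⟩
    rw [← ht, smul_smul, inv_mul_cancel₀ ht0, one_smul]
  have heN : e ∉ K ∙ ((g - 1) e) := by
    intro h
    apply he1
    have hle : K ∙ ((g - 1) e) ≤ LinearMap.range (g - 1) := by
      rw [Submodule.span_singleton_le_iff_mem]
      exact ⟨e, rfl⟩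
    exact hle h
  obtain ⟨y, hyI, hyN⟩ := exists_mem_notMem_span (LinearMap.range (g - 1)) (by omega) ((g - 1) e)
  obtain ⟨x, hx⟩ := hyI
  obtain ⟨ε₁, ε₂, ⟨h1z, h1e, h1c, h1y⟩, ⟨h2z, h2e, h2c, h2y⟩, hne⟩ :=
    dual_avoid3_two hK hn3 ((g - 1) e) e c0 y heN hc0N hyN
  have hinj : LinearMap.ker g = ⊥ := by
    by_contra h
    have := (LinearMap.det_eq_zero_iff_ker_ne_bot).mpr h
    rw [hdet] at this
    exact one_ne_zero this
  have hev : ∀ a : K, g e ≠ a • e := by
    intro a h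
    have h1 : (g - 1) e = (a - 1) • e := by
      rw [LinearMap.sub_apply, h, Module.End.one_apply, sub_smul, one_smul]
    by_cases ha : a - 1 = 0
    · apply hNe0
      rw [h1, ha, zero_smul]
    · apply he1
      refine ⟨(a - 1)⁻¹ • e, ?_⟩
      rw [map_smul, h1, smul_smul, inv_mul_cancel₀ ha, one_smul]
  -- facts valid for any candidate `ε`
  have common : ∀ ε : Module.Dual K V, ε ((g - 1) e) = 0 → ε e = 1 → ε c0 ≠ 0 → ε y ≠ 0 →
      ε (g e) = 1 ∧ bRow g ε ≠ 0 ∧
      ∀ C : LinearMap.ker ε →ₗ[K] LinearMap.ker ε, IsSchur g e ε C →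
        2 ≤ finrank K (LinearMap.range (C - 1)) := by
    intro ε hz hεe hεc hεy
    have hεge : ε (g e) = 1 := by rw [hge, map_add, hz, hεe, add_zero]
    refine ⟨hεge, ?_, ?_⟩
    · intro hb
      have hmem : x - ε x • e ∈ LinearMap.ker ε := by
        rw [LinearMap.mem_ker, map_sub, map_smul, hεe, smul_eq_mul, mul_one, sub_self]
      have h3 := bRow_apply g ε ⟨x - ε x • e, hmem⟩
      rw [hb, LinearMap.zero_apply] at h3
      apply hεy
      have h4 : g (x - ε x • e) = (x - ε x • e) + ((g - 1) x - ε x • (g - 1) e) := by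
        simp only [LinearMap.sub_apply, Module.End.one_apply, map_sub, map_smul, smul_sub]
        abel
      have h5 : ε (g (x - ε x • e)) = ε y := by
        rw [h4, map_add, LinearMap.mem_ker.mp hmem, zero_add, map_sub, map_smul, hz, smul_zero,
          sub_zero, hx]
      rw [← h5]
      exact h3.symm
    · intro C hS
      have h6 := rank_schur_of_notMem_range g e ε C hS he1
      omega
  obtain ⟨h1ge, h1b, h1r⟩ := common ε₁ h1z h1e h1c h1y
  obtain ⟨h2ge, h2b, h2r⟩ := common ε₂ h2z h2e h2c h2y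
  have hgesub : g e - e ≠ 0 := by
    have : g e - e = (g - 1) e := by simp
    rw [this]
    exact hNe0
  by_cases hsc : ∃ (C : LinearMap.ker ε₁ →ₗ[K] LinearMap.ker ε₁) (a : K),
      IsSchur g e ε₁ C ∧ C = a • (1 : _ →ₗ[K] _)
  · obtain ⟨C₁, a₁, hS₁, hC₁⟩ := hsc
    refine ⟨e, ε₂, h2e, h2ge, hb0e, h2c, hgesub, h2b, ?_⟩
    intro C₂ hS₂ _
    refine ⟨?_, h2r C₂ hS₂⟩
    rintro ⟨a₂, hC₂⟩
    exact schur_scalar_unique hn3 g hinj e hev ε₁ ε₂ C₁ C₂ hS₁ hS₂ hne a₁ a₂ hC₁ hC₂
  · refine ⟨e, ε₁, h1e, h1ge, hb0e, h1c, hgesub, h1b, ?_⟩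
    intro C hS _
    refine ⟨?_, h1r C hS⟩
    rintro ⟨a, hC⟩
    exact hsc ⟨C, a, hS, hC⟩

end Cfsg.Agent.Lib.Helper55_Lev_KLB
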