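import Mathlib
import Cfsg.Agent.Lib.Helper13_LevDefs
import Cfsg.Agent.Lib.Helper13_LevAV
import Cfsg.Agent.Lib.Helper13_LevPk

/-!
LEV-KLA (S2522, architect helper13): the Key Lemma in the case `rank (g - 1) ≤ n - 2`.
-/

set_option autoImplicit false
set_option linter.unusedVariables false
set_option linter.unusedSimpArgs false

namespace Cfsg.Agent.Lib.Helper58_Lev_KLA

open Module Cardinal Cfsg.Agent.Lib.Helper13_LevDefs Cfsg.Agent.Lib.Helper13_LevAV
  Cfsg.Agent.Lib.Helper13_LevPk

variable {K : Type*} [Field K] {V : Type*} [AddCommGroup V] [Module K V]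

/-- a subspace of dimension at least two is not contained in a line -/
theorem exists_mem_notMem_span [FiniteDimensional K V] (W : Submodule K V)
    (hW : 2 ≤ finrank K W) (z : V) : ∃ y ∈ W, y ∉ K ∙ z := by
  by_contra hcon
  push Not at hcon
  have hle : W ≤ K ∙ z := fun y hy => hcon y hy
  have h1 : finrank K W ≤ finrank K (K ∙ z) := Submodule.finrank_mono hle
  have h2 : finrank K (K ∙ z) ≤ 1 := by
    by_cases hz : z = 0
    · rw [hz, Submodule.span_zero_singleton, finrank_bot]
      exact Nat.zero_le _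
    · rw [finrank_span_singleton hz]
  omega

/-- KLA : rank (g-1) ≤ n - 2 -/
theorem keyA [FiniteDimensional K V] (hK : 4 ≤ #K) (g : V →ₗ[K] V)
    (hgood : Good g) (hdet : LinearMap.det g = 1)
    (hr : finrank K (LinearMap.range (g - 1)) + 2 ≤ finrank K V)
    (c0 : V) (hc0 : c0 ≠ 0) (b0 : Module.Dual K V) (hb0 : b0 ≠ 0) : KeyConcl g c0 b0 := by
  obtain ⟨hns, hr2⟩ := hgood
  -- proper subspaces
  have hI : LinearMap.range (g - 1) ≠ ⊤ := by
    intro h
    rw [h, finrank_top] at hr
    omega
  have hkb : LinearMap.ker b0 ≠ ⊤ := by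
    intro h
    exact hb0 (LinearMap.ker_eq_top.mp h)
  have hcm : (K ∙ c0).comap (g - 1) ≠ ⊤ := by
    intro h
    have hle : LinearMap.range (g - 1) ≤ K ∙ c0 := by
      rintro _ ⟨x, rfl⟩
      have hx : x ∈ (K ∙ c0).comap (g - 1) := by rw [h]; trivial
      exact hx
    have h1 := Submodule.finrank_mono hle
    have h2 : finrank K (K ∙ c0) = 1 := finrank_span_singleton hc0
    omega
  obtain ⟨e, he1, he2, he3, -⟩ := avoid4 hK _ _ _ _ hI hkb hcm hcm
  have hb0e : b0 e ≠ 0 := fun h => he2 (LinearMap.mem_ker.mpr h)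
  have hNe_c0 : (g - 1) e ∉ K ∙ c0 := fun h => he3 (Submodule.mem_comap.mpr h)
  have hNe : (g - 1) e ≠ 0 := by
    intro h
    apply hNe_c0
    rw [h]
    exact Submodule.zero_mem _
  have hc0_Ne : c0 ∉ K ∙ ((g - 1) e) := by
    intro h
    obtain ⟨t, ht⟩ := Submodule.mem_span_singleton.mp h
    have ht0 : t ≠ 0 := by
      rintro rfl
      rw [zero_smul] at ht
      exact hc0 ht.symm
    apply hNe_c0
    rw [Submodule.mem_span_singleton]
    refine ⟨t⁻¹, ?_⟩
    rw [← ht, smul_smul, inv_mul_cancel₀ ht0, one_smul]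
  have he_Ne : e ∉ K ∙ ((g - 1) e) := by
    intro h
    apply he1
    have hle : K ∙ ((g - 1) e) ≤ LinearMap.range (g - 1) := by
      rw [Submodule.span_singleton_le_iff_mem]
      exact LinearMap.mem_range_self _ e
    exact hle h
  -- `y ∈ I` outside the line
  obtain ⟨y, hyI, hy⟩ := exists_mem_notMem_span (LinearMap.range (g - 1)) hr2 ((g - 1) e)
  -- `f ∈ F0` outside the line
  have hker2 : 2 ≤ finrank K (LinearMap.ker (g - 1)) := by
    have := (g - 1).finrank_range_add_finrank_ker
    omega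
  obtain ⟨f, hfK, hf⟩ := exists_mem_notMem_span (LinearMap.ker (g - 1)) hker2 ((g - 1) e)
  have hNf : (g - 1) f = 0 := LinearMap.mem_ker.mp hfK
  obtain ⟨ε, hεz, hεe, hεc0, hεy, hεf⟩ := dual_avoid4 hK ((g - 1) e) e c0 y f he_Ne hc0_Ne hy hf
  have hge : g e = e + (g - 1) e := by
    simp
  have hεge : ε (g e) = 1 := by
    rw [hge, map_add, hεz, hεe, add_zero]
  refine ⟨e, ε, hεe, hεge, hb0e, hεc0, ?_, ?_, ?_⟩
  · intro h
    apply hNe
    simpa using h
  · -- bRow ≠ 0
    obtain ⟨x, hx⟩ := hyI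
    intro hb
    have hmem : x - ε x • e ∈ LinearMap.ker ε := by
      rw [LinearMap.mem_ker, map_sub, map_smul, hεe, smul_eq_mul, mul_one, sub_self]
    have h1 := bRow_apply g ε ⟨x - ε x • e, hmem⟩
    rw [hb] at h1
    simp only [LinearMap.zero_apply] at h1
    apply hεy
    have h2 : g (x - ε x • e) = (x - ε x • e) + ((g - 1) x - ε x • (g - 1) e) := by
      simp only [LinearMap.sub_apply, Module.End.one_apply, map_sub, map_smul, smul_sub]
      abel
    rw [h2, map_add, LinearMap.mem_ker.mp hmem, zero_add, map_sub, map_smul, hεz, smul_zero,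
      sub_zero, hx] at h1
    exact h1.symm
  · intro C hS hn3
    have hrk := rank_schur_eq g e ε C hS he1 f hNf hεf
    refine ⟨?_, by omega⟩
    rintro ⟨a, ha⟩
    have hε0 : ε ≠ 0 := by
      intro h
      rw [h] at hεe
      simp at hεe
    have hdim := Module.Dual.finrank_ker_add_one_of_ne_zero hε0
    by_cases ha1 : a = 1
    · -- C - 1 = 0
      have : C - 1 = 0 := by
        rw [ha, ha1, one_smul, sub_self]
      rw [this, LinearMap.range_zero, finrank_bot] at hrk
      omega
    · -- C - 1 = (a - 1) • 1 is onto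
      have hsub : a - 1 ≠ 0 := sub_ne_zero.mpr ha1
      have hC1 : C - 1 = (a - 1) • (1 : LinearMap.ker ε →ₗ[K] LinearMap.ker ε) := by
        rw [ha]
        ext v
        simp [sub_smul]
      have htop : LinearMap.range (C - 1) = ⊤ := by
        rw [LinearMap.range_eq_top]
        intro v
        refine ⟨(a - 1)⁻¹ • v, ?_⟩
        rw [hC1]
        simp only [LinearMap.smul_apply, Module.End.one_apply, smul_smul]
        rw [mul_inv_cancel₀ hsub, one_smul]
      rw [htop, finrank_top] at hrk
      omega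

end Cfsg.Agent.Lib.Helper58_Lev_KLA
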