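import Mathlib
import Cfsg.Agent.Lib.Helper13_LevDefs
import Cfsg.Agent.Lib.Helper13_LevAV
import Cfsg.Agent.Lib.Helper13_LevPk

/-!
# LEV-KLC (helper8, package of helper13's S2522 plan): the Key Lemma when `n ≥ 4` and `g - 1` is invertible.
-/

set_option autoImplicit false

namespace Cfsg.Agent.Lib.Helper8_Lev_KLC

open Module Cardinal Cfsg.Agent.Lib.Helper13_LevDefs Cfsg.Agent.Lib.Helper13_LevAV
  Cfsg.Agent.Lib.Helper13_LevPk

variable {K : Type*} [Field K] {V : Type*} [AddCommGroup V] [Module K V]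

/-- common part of the cases with `g - 1` invertible: the choice of `e` -/
theorem exists_e [FiniteDimensional K V] (hK : 4 ≤ #K) (hn : 2 ≤ finrank K V) (g : V →ₗ[K] V)
    (hns : ¬ ∃ a : K, g = a • (1 : V →ₗ[K] V))
    (hr : finrank K (LinearMap.range (g - 1)) = finrank K V)
    (c0 : V) (b0 : Module.Dual K V) (hb0 : b0 ≠ 0) :
    ∃ e : V, (∀ a : K, g e ≠ a • e) ∧ b0 e ≠ 0 ∧ (g - 1) e ∉ K ∙ c0 ∧ e ∉ K ∙ ((g - 1) e) ∧
      (c0 ≠ 0 → c0 ∉ K ∙ ((g - 1) e)) := by
  obtain ⟨W₁, W₂, hW₁, hW₂, hW⟩ := eig_avoid g hns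
  have hsurj : LinearMap.range (g - 1) = ⊤ := Submodule.eq_top_of_finrank_eq hr
  have h3 : LinearMap.ker b0 ≠ ⊤ := by
    intro h
    apply hb0
    exact LinearMap.ker_eq_top.1 h
  have h4 : (K ∙ c0).comap (g - 1) ≠ ⊤ := by
    intro h
    have h1 : LinearMap.range (g - 1) ≤ K ∙ c0 := by
      rintro _ ⟨x, rfl⟩
      have : x ∈ (K ∙ c0).comap (g - 1) := by rw [h]; trivial
      exact this
    rw [hsurj] at h1
    have h2 : finrank K V ≤ 1 := by
      calc finrank K V = finrank K (⊤ : Submodule K V) := (finrank_top K V).symm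
        _ ≤ finrank K (K ∙ c0) := Submodule.finrank_mono h1
        _ ≤ 1 := by
          have := finrank_span_le_card (R := K) ({c0} : Set V)
          simpa using this
    omega
  obtain ⟨e, he1, he2, he3, he4⟩ := avoid4 hK W₁ W₂ (LinearMap.ker b0) ((K ∙ c0).comap (g - 1))
    hW₁ hW₂ h3 h4
  have hev := hW e he1 he2
  have hNe : (g - 1) e ∉ K ∙ c0 := he4
  refine ⟨e, hev, he3, hNe, ?_, ?_⟩
  · intro hmem
    obtain ⟨t, ht⟩ := Submodule.mem_span_singleton.1 hmem
    have h5 : t • g e = (1 + t) • e := by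
      have h6 : t • (g e - e) = e := by simpa using ht
      rw [smul_sub] at h6
      rw [add_smul, one_smul]
      have h7 : t • g e = e + t • e := by
        rw [← sub_eq_iff_eq_add]
        exact h6
      exact h7
    by_cases ht0 : t = 0
    · rw [ht0] at ht
      have he0 : e = 0 := by simpa using ht.symm
      apply hev 0
      rw [he0]; simp
    · apply hev (t⁻¹ * (1 + t))
      rw [mul_smul, ← h5, smul_smul, inv_mul_cancel₀ ht0, one_smul]
  · intro hc0 hmem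
    obtain ⟨t, ht⟩ := Submodule.mem_span_singleton.1 hmem
    have ht0 : t ≠ 0 := by
      intro h
      rw [h, zero_smul] at ht
      exact hc0 ht.symm
    apply hNe
    rw [Submodule.mem_span_singleton]
    refine ⟨t⁻¹, ?_⟩
    rw [← ht, smul_smul, inv_mul_cancel₀ ht0, one_smul]

/-- common part of the cases with `g - 1` invertible: `bRow g ε ≠ 0` -/
theorem bRow_ne_zero [FiniteDimensional K V] (g : V →ₗ[K] V)
    (hinjN : LinearMap.ker (g - 1) = ⊥) (e : V) (ε : Module.Dual K V) (hεe : ε e = 1)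
    (hεN : ε ((g - 1) e) = 0) : bRow g ε ≠ 0 := by
  intro hb
  have hNH : ∀ h : LinearMap.ker ε, (g - 1) (h : V) ∈ LinearMap.ker ε := by
    intro h
    have h1 : bRow g ε h = 0 := by rw [hb]; rfl
    rw [bRow_apply] at h1
    show ε ((g - 1) (h : V)) = 0
    have hh : ε (h : V) = 0 := h.2
    simp [h1, hh]
  let NH : LinearMap.ker ε →ₗ[K] LinearMap.ker ε :=
    ((g - 1) ∘ₗ (LinearMap.ker ε).subtype).codRestrict (LinearMap.ker ε) hNH
  have hNHinj : Function.Injective NH := by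
    intro a b hab
    have h1 : (g - 1) (a : V) = (g - 1) (b : V) := congrArg Subtype.val hab
    have h2 : (a : V) - (b : V) ∈ LinearMap.ker (g - 1) := by
      rw [LinearMap.mem_ker, map_sub, h1, sub_self]
    rw [hinjN] at h2
    exact Subtype.ext (sub_eq_zero.1 ((Submodule.mem_bot K).1 h2))
  have hNHsurj : Function.Surjective NH := LinearMap.surjective_of_injective hNHinj
  obtain ⟨h, hh⟩ := hNHsurj ⟨(g - 1) e, hεN⟩
  have h1 : (g - 1) (h : V) = (g - 1) e := congrArg Subtype.val hh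
  have h2 : (h : V) - e ∈ LinearMap.ker (g - 1) := by
    rw [LinearMap.mem_ker, map_sub, h1, sub_self]
  rw [hinjN] at h2
  have h3 : (h : V) = e := sub_eq_zero.1 ((Submodule.mem_bot K).1 h2)
  have h4 : ε e = 0 := by rw [← h3]; exact h.2
  rw [hεe] at h4
  exact one_ne_zero h4

/-- KLC : n ≥ 4, g - 1 invertible -/
theorem keyC [FiniteDimensional K V] (hK : 4 ≤ #K) (hn : 4 ≤ finrank K V) (g : V →ₗ[K] V)
    (hgood : Good g) (hdet : LinearMap.det g = 1)
    (hr : finrank K (LinearMap.range (g - 1)) = finrank K V)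
    (c0 : V) (hc0 : c0 ≠ 0) (b0 : Module.Dual K V) (hb0 : b0 ≠ 0) : KeyConcl g c0 b0 := by
  classical
  have hsurj : LinearMap.range (g - 1) = ⊤ := Submodule.eq_top_of_finrank_eq hr
  have hinjN : LinearMap.ker (g - 1) = ⊥ :=
    LinearMap.ker_eq_bot_iff_range_eq_top.2 hsurj
  have hinj : LinearMap.ker g = ⊥ := by
    by_contra h
    have := LinearMap.det_eq_zero_iff_ker_ne_bot.2 h
    rw [hdet] at this
    exact one_ne_zero this
  obtain ⟨e, hev, hb0e, hNe, heN, hc0N⟩ := exists_e hK (by omega) g hgood.1 hr c0 b0 hb0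
  obtain ⟨ε₁, ε₂, ⟨h1z, h1e, h1c, _⟩, ⟨h2z, h2e, h2c, _⟩, hne⟩ :=
    dual_avoid3_two hK (by omega) ((g - 1) e) e c0 c0 heN (hc0N hc0) (hc0N hc0)
  have hge : ∀ ε : Module.Dual K V, ε ((g - 1) e) = 0 → ε e = 1 → ε (g e) = 1 := by
    intro ε h1 h2
    have : g e = e + (g - 1) e := by simp
    rw [this, map_add, h1, h2, add_zero]
  have hNe0 : g e - e ≠ 0 := by
    intro h
    apply hNe
    have : (g - 1) e = 0 := by simpa using h
    rw [this]
    exact Submodule.zero_mem _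
  have hrank : ∀ (ε : Module.Dual K V) (C : LinearMap.ker ε →ₗ[K] LinearMap.ker ε),
      IsSchur g e ε C → 2 ≤ finrank K (LinearMap.range (C - 1)) := by
    intro ε C hS
    have := rank_schur_ge g e ε C hS
    omega
  by_cases hsc : ∃ (C : LinearMap.ker ε₁ →ₗ[K] LinearMap.ker ε₁) (a : K),
      IsSchur g e ε₁ C ∧ C = a • (1 : _ →ₗ[K] _)
  · obtain ⟨C₁, a₁, hS₁, hC₁⟩ := hsc
    refine ⟨e, ε₂, h2e, hge ε₂ h2z h2e, hb0e, h2c, hNe0, bRow_ne_zero g hinjN e ε₂ h2e h2z, ?_⟩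
    intro C hS _
    refine ⟨?_, hrank ε₂ C hS⟩
    rintro ⟨a₂, hC₂⟩
    exact schur_scalar_unique (by omega) g hinj e hev ε₁ ε₂ C₁ C hS₁ hS hne a₁ a₂ hC₁ hC₂
  · refine ⟨e, ε₁, h1e, hge ε₁ h1z h1e, hb0e, h1c, hNe0, bRow_ne_zero g hinjN e ε₁ h1e h1z, ?_⟩
    intro C hS _
    refine ⟨?_, hrank ε₁ C hS⟩
    rintro ⟨a, hC⟩
    exact hsc ⟨C, a, hS, hC⟩

end Cfsg.Agent.Lib.Helper8_Lev_KLC
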