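import Mathlib
import Cfsg.Agent.Lib.Helper13_LevDefs
import Cfsg.Agent.Lib.Helper13_LevAV
import Cfsg.Agent.Lib.Helper13_LevPk

/-!
Common lemmas for the Key Lemma cases of the S2522 project (LEV packages of helper13):
the "two candidates" argument and the two ways of showing `bRow g ε ≠ 0`.
-/

set_option autoImplicit false

namespace Cfsg.Agent.Lib.Helper94_Lev_Cand

open Module Cardinal Cfsg.Agent.Lib.Helper13_LevDefs Cfsg.Agent.Lib.Helper13_LevAV
  Cfsg.Agent.Lib.Helper13_LevPk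

variable {K : Type*} [Field K] {V : Type*} [AddCommGroup V] [Module K V]

theorem ker_eq_bot_of_det [FiniteDimensional K V] (g : V →ₗ[K] V) (hdet : LinearMap.det g = 1) :
    LinearMap.ker g = ⊥ := by
  have hu : IsUnit (LinearMap.det g) := by rw [hdet]; exact isUnit_one
  exact (LinearMap.isUnit_iff_ker_eq_bot g).1 ((LinearMap.isUnit_iff_isUnit_det g).2 hu)

theorem eps_g_eq_one (g : V →ₗ[K] V) (e : V) (ε : Module.Dual K V) (he : ε e = 1)
    (hNe : ε ((g - 1) e) = 0) : ε (g e) = 1 := by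
  have : ε ((g - 1) e) = ε (g e) - ε e := by simp
  rw [this, he, sub_eq_zero] at hNe
  exact hNe

theorem bRow_ne_zero_of_image (g : V →ₗ[K] V) (e : V) (ε : Module.Dual K V) (he : ε e = 1)
    (hNe : ε ((g - 1) e) = 0) (x : V) (hx : ε ((g - 1) x) ≠ 0) : bRow g ε ≠ 0 := by
  intro h0
  have hge := eps_g_eq_one g e ε he hNe
  have hmem : x - ε x • e ∈ LinearMap.ker ε := by
    simp [LinearMap.mem_ker, he]
  have h1 := bRow_apply g ε ⟨x - ε x • e, hmem⟩
  rw [h0] at h1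
  simp only [LinearMap.zero_apply, map_sub, map_smul, smul_eq_mul, hge, mul_one] at h1
  apply hx
  have : ε ((g - 1) x) = ε (g x) - ε x := by simp
  rw [this]
  exact h1.symm

theorem bRow_ne_zero_of_inj [FiniteDimensional K V] (g : V →ₗ[K] V)
    (hinj : LinearMap.ker (g - 1) = ⊥) (e : V) (ε : Module.Dual K V) (he : ε e = 1)
    (hNe : ε ((g - 1) e) = 0) : bRow g ε ≠ 0 := by
  intro h0
  have hinv : ∀ v ∈ LinearMap.ker ε, (g - 1) v ∈ LinearMap.ker ε := by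
    intro v hv
    have h1 := bRow_apply g ε ⟨v, hv⟩
    rw [h0] at h1
    simp only [LinearMap.zero_apply] at h1
    rw [LinearMap.mem_ker] at hv ⊢
    have : ε ((g - 1) v) = ε (g v) - ε v := by simp
    rw [this, hv, ← h1, sub_zero]
  let N' : LinearMap.ker ε →ₗ[K] LinearMap.ker ε := (g - 1).restrict hinv
  have hN'inj : Function.Injective N' := by
    intro a b hab
    have : (g - 1) (a : V) = (g - 1) (b : V) := congrArg Subtype.val hab
    exact Subtype.ext (LinearMap.ker_eq_bot.1 hinj this)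
  have hN'surj : Function.Surjective N' := LinearMap.injective_iff_surjective.1 hN'inj
  obtain ⟨h, hh⟩ := hN'surj ⟨(g - 1) e, hNe⟩
  have h2 : (g - 1) (h : V) = (g - 1) e := congrArg Subtype.val hh
  have heq : (h : V) = e := LinearMap.ker_eq_bot.1 hinj h2
  have h3 : ε e = 0 := by rw [← heq]; exact h.2
  rw [he] at h3
  exact one_ne_zero h3

/-- the "two candidates" argument -/
theorem cand_two [FiniteDimensional K V] (hn : 3 ≤ finrank K V) (g : V →ₗ[K] V)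
    (hinj : LinearMap.ker g = ⊥) (c0 : V) (b0 : Module.Dual K V) (e : V)
    (hev : ∀ a : K, g e ≠ a • e) (hb0 : b0 e ≠ 0) (hge : g e - e ≠ 0)
    (ε₁ ε₂ : Module.Dual K V) (hne : ε₁ ≠ ε₂)
    (h₁ : ε₁ e = 1 ∧ ε₁ (g e) = 1 ∧ ε₁ c0 ≠ 0 ∧ bRow g ε₁ ≠ 0 ∧
      ∀ C : LinearMap.ker ε₁ →ₗ[K] LinearMap.ker ε₁, IsSchur g e ε₁ C →
        2 ≤ finrank K (LinearMap.range (C - 1)))
    (h₂ : ε₂ e = 1 ∧ ε₂ (g e) = 1 ∧ ε₂ c0 ≠ 0 ∧ bRow g ε₂ ≠ 0 ∧
      ∀ C : LinearMap.ker ε₂ →ₗ[K] LinearMap.ker ε₂, IsSchur g e ε₂ C →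
        2 ≤ finrank K (LinearMap.range (C - 1))) : KeyConcl g c0 b0 := by
  by_cases h : ∃ (C : LinearMap.ker ε₁ →ₗ[K] LinearMap.ker ε₁) (a : K),
      IsSchur g e ε₁ C ∧ C = a • (1 : _ →ₗ[K] _)
  · obtain ⟨C₁, a₁, hS₁, hC₁⟩ := h
    refine ⟨e, ε₂, h₂.1, h₂.2.1, hb0, h₂.2.2.1, hge, h₂.2.2.2.1, ?_⟩
    intro C hS _
    refine ⟨?_, h₂.2.2.2.2 C hS⟩
    rintro ⟨a₂, hC₂⟩
    exact schur_scalar_unique hn g hinj e hev ε₁ ε₂ C₁ C hS₁ hS hne a₁ a₂ hC₁ hC₂
  · refine ⟨e, ε₁, h₁.1, h₁.2.1, hb0, h₁.2.2.1, hge, h₁.2.2.2.1, ?_⟩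
    intro C hS _
    refine ⟨?_, h₁.2.2.2.2 C hS⟩
    rintro ⟨a, hC⟩
    exact h ⟨C, a, hS, hC⟩

theorem finrank_span_singleton_le_one (z : V) : finrank K (K ∙ z) ≤ 1 := by
  by_cases hz : z = 0
  · rw [hz, Submodule.span_zero_singleton, finrank_bot]
    exact Nat.zero_le 1
  · rw [finrank_span_singleton hz]

theorem exists_mem_notMem_span [FiniteDimensional K V] (I : Submodule K V)
    (hI : 2 ≤ finrank K I) (z : V) : ∃ y ∈ I, y ∉ K ∙ z := by
  by_contra hcon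
  push Not at hcon
  have hle : I ≤ K ∙ z := fun y hy => hcon y hy
  have := Submodule.finrank_mono hle
  have h2 := finrank_span_singleton_le_one (K := K) z
  omega

theorem comap_ne_top [FiniteDimensional K V] (N : V →ₗ[K] V) (c0 : V)
    (hr : 2 ≤ finrank K (LinearMap.range N)) : (K ∙ c0).comap N ≠ ⊤ := by
  intro h
  have hle : LinearMap.range N ≤ K ∙ c0 := by
    rintro _ ⟨x, rfl⟩
    have : x ∈ (K ∙ c0).comap N := by rw [h]; trivial
    exact this
  have := Submodule.finrank_mono hle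
  have h2 := finrank_span_singleton_le_one (K := K) c0
  omega

theorem notMem_span_swap (c0 z : V) (hc0 : c0 ≠ 0) (h : z ∉ K ∙ c0) : c0 ∉ K ∙ z := by
  intro hc
  obtain ⟨t, ht⟩ := Submodule.mem_span_singleton.1 hc
  have ht0 : t ≠ 0 := by
    rintro rfl
    rw [zero_smul] at ht
    exact hc0 ht.symm
  apply h
  rw [Submodule.mem_span_singleton]
  exact ⟨t⁻¹, by rw [← ht, smul_smul, inv_mul_cancel₀ ht0, one_smul]⟩

theorem ker_dual_ne_top (b0 : Module.Dual K V) (hb0 : b0 ≠ 0) : LinearMap.ker b0 ≠ ⊤ := by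
  intro h
  exact hb0 (LinearMap.ker_eq_top.1 h)

end Cfsg.Agent.Lib.Helper94_Lev_Cand
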