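import Mathlib
import Cfsg.Agent.Lib.Helper13_LevDefs
import Cfsg.Agent.Lib.Helper13_LevAV
import Cfsg.Agent.Lib.Helper13_LevPk
import Cfsg.Agent.Lib.Helper94_Lev_Cand

/-!
LEV-KLD (S2522 project of helper13): the Key Lemma for `n = 3`, `rank (g - 1) = 2`.
-/

set_option autoImplicit false

namespace Cfsg.Agent.Lib.Helper94_Lev_KLD

open Module Cardinal Cfsg.Agent.Lib.Helper13_LevDefs Cfsg.Agent.Lib.Helper13_LevAV
  Cfsg.Agent.Lib.Helper13_LevPk Cfsg.Agent.Lib.Helper94_Lev_Cand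

variable {K : Type*} [Field K] {V : Type*} [AddCommGroup V] [Module K V]

/-- KLD : n = 3, rank (g-1) = 2 -/
theorem keyD [FiniteDimensional K V] (hK : 4 ≤ #K) (hn : finrank K V = 3) (g : V →ₗ[K] V)
    (hgood : Good g) (hdet : LinearMap.det g = 1)
    (hr : finrank K (LinearMap.range (g - 1)) = 2)
    (c0 : V) (hc0 : c0 ≠ 0) (b0 : Module.Dual K V) (hb0 : b0 ≠ 0) : KeyConcl g c0 b0 := by
  have hinj : LinearMap.ker g = ⊥ := ker_eq_bot_of_det g hdet
  have hrn := LinearMap.finrank_range_add_finrank_ker (g - 1)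
  have hker1 : finrank K (LinearMap.ker (g - 1)) = 1 := by omega
  obtain ⟨f, hf0⟩ : ∃ f : LinearMap.ker (g - 1), f ≠ 0 :=
    Module.finrank_pos_iff_exists_ne_zero.1 (by rw [hker1]; norm_num)
  have hfN : (g - 1) (f : V) = 0 := f.2
  have hfV : (f : V) ≠ 0 := fun h => hf0 (Subtype.ext h)
  have hI : LinearMap.range (g - 1) ≠ ⊤ := by
    intro h
    rw [h, finrank_top] at hr
    omega
  have hkb : LinearMap.ker b0 ≠ ⊤ := ker_dual_ne_top b0 hb0
  have hcomap : (K ∙ c0).comap (g - 1) ≠ ⊤ := comap_ne_top (g - 1) c0 (by rw [hr])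
  have hNN : LinearMap.ker ((g - 1) * (g - 1)) ≠ ⊤ := by
    intro h
    have hle : LinearMap.range (g - 1) ≤ LinearMap.ker (g - 1) := by
      rintro _ ⟨x, rfl⟩
      have : x ∈ LinearMap.ker ((g - 1) * (g - 1)) := by rw [h]; trivial
      exact this
    have := Submodule.finrank_mono hle
    omega
  obtain ⟨e, he₁, he₂, he₃, he₄⟩ :=
    avoid4 hK (LinearMap.range (g - 1)) (LinearMap.ker b0) ((K ∙ c0).comap (g - 1))
      (LinearMap.ker ((g - 1) * (g - 1))) hI hkb hcomap hNN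
  have hb0e : b0 e ≠ 0 := he₂
  have hNe : (g - 1) e ∉ K ∙ c0 := he₃
  have hNNe : (g - 1) ((g - 1) e) ≠ 0 := he₄
  have hNe0' : (g - 1) e ≠ 0 := by
    intro h
    rw [h, map_zero] at hNNe
    exact hNNe rfl
  have hNe0 : g e - e ≠ 0 := by
    intro h
    apply hNe0'
    simpa using h
  have hcn : c0 ∉ K ∙ ((g - 1) e) := notMem_span_swap c0 _ hc0 hNe
  have hsub : K ∙ ((g - 1) e) ≤ LinearMap.range (g - 1) := by
    rw [Submodule.span_singleton_le_iff_mem]
    exact ⟨e, rfl⟩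
  have hen : e ∉ K ∙ ((g - 1) e) := fun h => he₁ (hsub h)
  have hfn : (f : V) ∉ K ∙ ((g - 1) e) := by
    intro h
    obtain ⟨t, ht⟩ := Submodule.mem_span_singleton.1 h
    have h1 : t • (g - 1) ((g - 1) e) = 0 := by
      rw [← map_smul, ht, hfN]
    rcases smul_eq_zero.1 h1 with h2 | h2
    · rw [h2, zero_smul] at ht
      exact hfV ht.symm
    · exact hNNe h2
  obtain ⟨y, hyI, hyn⟩ := exists_mem_notMem_span (LinearMap.range (g - 1)) (by rw [hr])
    ((g - 1) e)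
  obtain ⟨x, hx⟩ := hyI
  have hev : ∀ a : K, g e ≠ a • e := by
    intro a h
    have h1 : (g - 1) e = (a - 1) • e := by
      simp [h, sub_smul]
    by_cases ha : a - 1 = 0
    · rw [ha, zero_smul] at h1
      exact hNe0' h1
    · apply he₁
      refine ⟨(a - 1)⁻¹ • e, ?_⟩
      rw [map_smul, h1, smul_smul, inv_mul_cancel₀ ha, one_smul]
  have key : ∀ ε : Module.Dual K V, ε ((g - 1) e) = 0 → ε e = 1 → ε c0 ≠ 0 → ε y ≠ 0 →
      ε (f : V) ≠ 0 →
      (ε e = 1 ∧ ε (g e) = 1 ∧ ε c0 ≠ 0 ∧ bRow g ε ≠ 0 ∧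
      ∀ C : LinearMap.ker ε →ₗ[K] LinearMap.ker ε, IsSchur g e ε C →
        2 ≤ finrank K (LinearMap.range (C - 1))) := by
    intro ε hz he hc hεy hεf
    refine ⟨he, eps_g_eq_one g e ε he hz, hc,
      bRow_ne_zero_of_image g e ε he hz x (by rw [hx]; exact hεy), ?_⟩
    intro C hS
    rw [rank_schur_eq g e ε C hS he₁ (f : V) hfN hεf, hr]
  by_cases h2 : (2 : K) = 0
  · obtain ⟨ε, hz, he, hc, hεy, hεf⟩ :=
      dual_avoid4 hK ((g - 1) e) e c0 y (f : V) hen hcn hyn hfn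
    obtain ⟨k1, k2, k3, k4, k5⟩ := key ε hz he hc hεy hεf
    refine ⟨e, ε, k1, k2, hb0e, k3, hNe0, k4, ?_⟩
    intro C hS _
    refine ⟨?_, k5 C hS⟩
    rintro ⟨a, hC⟩
    have hε0 : ε ≠ 0 := by
      rintro rfl
      simp at he
    have hd1 := Module.Dual.finrank_ker_add_one_of_ne_zero hε0
    have hd2 : finrank K (LinearMap.ker ε) = 2 := by omega
    have hdetC : LinearMap.det C = 1 := by rw [det_schur g e ε C hS, hdet]
    rw [hC, LinearMap.det_smul, hd2, map_one, mul_one] at hdetC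
    have ha : a = 1 := by
      have h3 : (a - 1) ^ 2 = 0 := by
        have : (a - 1) ^ 2 = a ^ 2 - 2 * a + 1 := by ring
        rw [this, hdetC, h2, zero_mul, sub_zero]
        have : (1 : K) + 1 = 2 := by norm_num
        rw [this, h2]
      have := pow_eq_zero_iff (two_ne_zero) |>.1 h3
      exact sub_eq_zero.1 this
    have hC1 : C - 1 = 0 := by rw [hC, ha, one_smul, sub_self]
    have := k5 C hS
    rw [hC1, LinearMap.range_zero, finrank_bot] at this
    omega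
  · have hK5 : 5 ≤ #K := five_le_card hK h2
    obtain ⟨ε₁, ε₂, ⟨h1z, h1e, h1c, h1y, h1f⟩, ⟨h2z, h2e, h2c, h2y, h2f⟩, hne⟩ :=
      dual_avoid4_two hK5 (by omega) ((g - 1) e) e c0 y (f : V) hen hcn hyn hfn
    exact cand_two (by omega) g hinj c0 b0 e hev hb0e hNe0 ε₁ ε₂ hne
      (key ε₁ h1z h1e h1c h1y h1f) (key ε₂ h2z h2e h2c h2y h2f)

end Cfsg.Agent.Lib.Helper94_Lev_KLD
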