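import Mathlib
import Cfsg.Agent.Lib.Helper13_LevDefs
import Cfsg.Agent.Lib.Helper13_LevAV
import Cfsg.Agent.Lib.Helper13_LevPk
import Cfsg.Agent.Lib.Helper94_Lev_Cand

/-!
LEV-KLE (S2522 project of helper13): the Key Lemma for `n = 3`, `g - 1` invertible.
-/

set_option autoImplicit false

namespace Cfsg.Agent.Lib.Helper94_Lev_KLE

open Module Cardinal Cfsg.Agent.Lib.Helper13_LevDefs Cfsg.Agent.Lib.Helper13_LevAV
  Cfsg.Agent.Lib.Helper13_LevPk Cfsg.Agent.Lib.Helper94_Lev_Cand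

variable {K : Type*} [Field K] {V : Type*} [AddCommGroup V] [Module K V]

/-- KLE : n = 3, g - 1 invertible -/
theorem keyE [FiniteDimensional K V] (hK : 4 ≤ #K) (hn : finrank K V = 3) (g : V →ₗ[K] V)
    (hgood : Good g) (hdet : LinearMap.det g = 1)
    (hr : finrank K (LinearMap.range (g - 1)) = 3)
    (c0 : V) (hc0 : c0 ≠ 0) (b0 : Module.Dual K V) (hb0 : b0 ≠ 0) : KeyConcl g c0 b0 := by
  have hrange : LinearMap.range (g - 1) = ⊤ := Submodule.eq_top_of_finrank_eq (by rw [hr, hn])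
  have hinjN : LinearMap.ker (g - 1) = ⊥ := LinearMap.ker_eq_bot_iff_range_eq_top.2 hrange
  have hinj : LinearMap.ker g = ⊥ := ker_eq_bot_of_det g hdet
  obtain ⟨W₁, W₂, hW₁, hW₂, hW⟩ := eig_avoid g hgood.1
  have hkb : LinearMap.ker b0 ≠ ⊤ := ker_dual_ne_top b0 hb0
  have hcomap : (K ∙ c0).comap (g - 1) ≠ ⊤ := comap_ne_top (g - 1) c0 (by rw [hr]; norm_num)
  obtain ⟨e, he₁, he₂, he₃, he₄⟩ :=
    avoid4 hK W₁ W₂ (LinearMap.ker b0) ((K ∙ c0).comap (g - 1)) hW₁ hW₂ hkb hcomap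
  have hev := hW e he₁ he₂
  have hb0e : b0 e ≠ 0 := he₃
  have hNe : (g - 1) e ∉ K ∙ c0 := he₄
  have hNe0 : g e - e ≠ 0 := by
    intro h
    apply hNe
    have : (g - 1) e = 0 := by simpa using h
    rw [this]
    exact Submodule.zero_mem _
  have hcn : c0 ∉ K ∙ ((g - 1) e) := notMem_span_swap c0 _ hc0 hNe
  have hen : e ∉ K ∙ ((g - 1) e) := by
    intro h
    obtain ⟨t, ht⟩ := Submodule.mem_span_singleton.1 h
    have ht' : t • g e - t • e = e := by simpa [smul_sub] using ht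
    by_cases ht0 : t = 0
    · rw [ht0, zero_smul, zero_smul, sub_zero] at ht'
      apply hev 0
      rw [← ht', map_zero, smul_zero]
    · apply hev (t⁻¹ * (t + 1))
      have h1 : t • g e = (t + 1) • e := by
        rw [add_smul, one_smul]
        rw [sub_eq_iff_eq_add] at ht'
        rw [ht', add_comm]
      rw [mul_smul, ← h1, smul_smul, inv_mul_cancel₀ ht0, one_smul]
  obtain ⟨w, hw⟩ : ∃ w, (g - 1) w = g e := by
    have : g e ∈ LinearMap.range (g - 1) := by rw [hrange]; trivial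
    exact this
  have hwn : w ∉ K ∙ ((g - 1) e) := inv3 hn g hdet hinjN e hev w hw
  obtain ⟨ε₁, ε₂, ⟨h1z, h1e, h1c, h1w⟩, ⟨h2z, h2e, h2c, h2w⟩, hne⟩ :=
    dual_avoid3_two hK (by omega) ((g - 1) e) e c0 w hen hcn hwn
  have key : ∀ ε : Module.Dual K V, ε ((g - 1) e) = 0 → ε e = 1 → ε c0 ≠ 0 → ε w ≠ 0 →
      (ε e = 1 ∧ ε (g e) = 1 ∧ ε c0 ≠ 0 ∧ bRow g ε ≠ 0 ∧
      ∀ C : LinearMap.ker ε →ₗ[K] LinearMap.ker ε, IsSchur g e ε C →
        2 ≤ finrank K (LinearMap.range (C - 1))) := by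
    intro ε hz he hc hεw
    refine ⟨he, eps_g_eq_one g e ε he hz, hc, bRow_ne_zero_of_inj g hinjN e ε he hz, ?_⟩
    intro C hS
    have hk : LinearMap.ker (C - 1) = ⊥ := ker_schur_sub_one g e ε C hS hinjN w hw hεw
    have hε0 : ε ≠ 0 := by
      rintro rfl
      simp at he
    have h1 := Module.Dual.finrank_ker_add_one_of_ne_zero hε0
    have h2 := LinearMap.finrank_range_add_finrank_ker (C - 1)
    rw [hk, finrank_bot] at h2
    omega
  exact cand_two (by omega) g hinj c0 b0 e hev hb0e hNe0 ε₁ ε₂ hne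
    (key ε₁ h1z h1e h1c h1w) (key ε₂ h2z h2e h2c h2w)

end Cfsg.Agent.Lib.Helper94_Lev_KLE
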