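import Mathlib
import Cfsg.Agent.Lib.Helper13_LevDefs
import Cfsg.Agent.Lib.Helper13_LevAV
import Cfsg.Agent.Lib.Helper13_LevPk
import Cfsg.Agent.Lib.Helper49_Lev_KL2
import Cfsg.Agent.Lib.Helper58_Lev_KLA
import Cfsg.Agent.Lib.Helper55_Lev_KLB
import Cfsg.Agent.Lib.Helper8_Lev_KLC
import Cfsg.Agent.Lib.Helper94_Lev_KLD
import Cfsg.Agent.Lib.Helper94_Lev_KLE

/-!
Shim `Helper13_LevKey` for S2522 (helper13): the six cases of the Key Lemma, re-exported from the packages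
of helper49 (KL2), helper58 (KLA), helper55 (KLB), helper8 (KLC), helper94 (KLD, KLE).
-/

set_option autoImplicit false

namespace Cfsg.Agent.Lib.Helper13_LevKey

open Module Cardinal Cfsg.Agent.Lib.Helper13_LevDefs

variable {K : Type*} [Field K] {V : Type*} [AddCommGroup V] [Module K V]

/-- KL2 -/
theorem key2 [FiniteDimensional K V] (hK : 4 ≤ #K) (hn : finrank K V = 2) (g : V →ₗ[K] V)
    (hgood : Good g) (hdet : LinearMap.det g = 1) (c0 : V) (hc0 : c0 ≠ 0) (b0 : Module.Dual K V)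
    (hb0 : b0 ≠ 0) : KeyConcl g c0 b0 :=
  Cfsg.Agent.Lib.Helper49_Lev_KL2.key2 hK hn g hgood hdet c0 hc0 b0 hb0

/-- KLA : rank (g-1) ≤ n - 2 -/
theorem keyA [FiniteDimensional K V] (hK : 4 ≤ #K) (g : V →ₗ[K] V)
    (hgood : Good g) (hdet : LinearMap.det g = 1)
    (hr : finrank K (LinearMap.range (g - 1)) + 2 ≤ finrank K V)
    (c0 : V) (hc0 : c0 ≠ 0) (b0 : Module.Dual K V) (hb0 : b0 ≠ 0) : KeyConcl g c0 b0 :=
  Cfsg.Agent.Lib.Helper58_Lev_KLA.keyA hK g hgood hdet hr c0 hc0 b0 hb0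

/-- KLB : n ≥ 4, rank (g-1) = n - 1 -/
theorem keyB [FiniteDimensional K V] (hK : 4 ≤ #K) (hn : 4 ≤ finrank K V) (g : V →ₗ[K] V)
    (hgood : Good g) (hdet : LinearMap.det g = 1)
    (hr : finrank K (LinearMap.range (g - 1)) + 1 = finrank K V)
    (c0 : V) (hc0 : c0 ≠ 0) (b0 : Module.Dual K V) (hb0 : b0 ≠ 0) : KeyConcl g c0 b0 :=
  Cfsg.Agent.Lib.Helper55_Lev_KLB.keyB hK hn g hgood hdet hr c0 hc0 b0 hb0

/-- KLC : n ≥ 4, g - 1 invertible -/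
theorem keyC [FiniteDimensional K V] (hK : 4 ≤ #K) (hn : 4 ≤ finrank K V) (g : V →ₗ[K] V)
    (hgood : Good g) (hdet : LinearMap.det g = 1)
    (hr : finrank K (LinearMap.range (g - 1)) = finrank K V)
    (c0 : V) (hc0 : c0 ≠ 0) (b0 : Module.Dual K V) (hb0 : b0 ≠ 0) : KeyConcl g c0 b0 :=
  Cfsg.Agent.Lib.Helper8_Lev_KLC.keyC hK hn g hgood hdet hr c0 hc0 b0 hb0

/-- KLD : n = 3, rank (g-1) = 2 -/
theorem keyD [FiniteDimensional K V] (hK : 4 ≤ #K) (hn : finrank K V = 3) (g : V →ₗ[K] V)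
    (hgood : Good g) (hdet : LinearMap.det g = 1)
    (hr : finrank K (LinearMap.range (g - 1)) = 2)
    (c0 : V) (hc0 : c0 ≠ 0) (b0 : Module.Dual K V) (hb0 : b0 ≠ 0) : KeyConcl g c0 b0 :=
  Cfsg.Agent.Lib.Helper94_Lev_KLD.keyD hK hn g hgood hdet hr c0 hc0 b0 hb0

/-- KLE : n = 3, g - 1 invertible -/
theorem keyE [FiniteDimensional K V] (hK : 4 ≤ #K) (hn : finrank K V = 3) (g : V →ₗ[K] V)
    (hgood : Good g) (hdet : LinearMap.det g = 1)
    (hr : finrank K (LinearMap.range (g - 1)) = 3)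
    (c0 : V) (hc0 : c0 ≠ 0) (b0 : Module.Dual K V) (hb0 : b0 ≠ 0) : KeyConcl g c0 b0 :=
  Cfsg.Agent.Lib.Helper94_Lev_KLE.keyE hK hn g hgood hdet hr c0 hc0 b0 hb0

end Cfsg.Agent.Lib.Helper13_LevKey
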