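import Mathlib
import Cfsg.Agent.Lib.Helper13_LevDefs
import Cfsg.Agent.Lib.Helper13_LevPk
import Cfsg.Agent.Lib.Helper13_LevKey

/-!
Main induction for S2522 (helper13): every `Good` endomorphism of determinant one of a space of dimension
at least two has the strengthened factorization property `SP g c0 b0` for all nonzero `c0`, `b0`.
-/

set_option autoImplicit false

namespace Cfsg.Agent.Lib.Helper13_LevMain

open Module Cardinal Cfsg.Agent.Lib.Helper13_LevDefs Cfsg.Agent.Lib.Helper13_LevPk Cfsg.Agent.Lib.Helper13_LevKey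

universe u v

variable {K : Type u} [Field K]

/-- one bordering step -/
theorem step {V : Type v} [AddCommGroup V] [Module K V] [FiniteDimensional K V]
    (g : V →ₗ[K] V) (c0 : V) (b0 : Module.Dual K V) (hkey : KeyConcl g c0 b0)
    (IH : ∀ (ε : Module.Dual K V) (C : LinearMap.ker ε →ₗ[K] LinearMap.ker ε)
      (c : LinearMap.ker ε) (b : Module.Dual K (LinearMap.ker ε)), ε ≠ 0 →
      LinearMap.det C = LinearMap.det g → (3 ≤ finrank K V → Good C) → c ≠ 0 → b ≠ 0 → SP C c b) :
    SP g c0 b0 := by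
  obtain ⟨e, ε, he, hge, hb0, hc0, hne, hb, hgood⟩ := hkey
  obtain ⟨C, hS⟩ := exists_isSchur g e ε he hge
  have hε : ε ≠ 0 := by
    intro h
    rw [h] at he
    simp at he
  have hcmem : g e - e ∈ LinearMap.ker ε := by
    simp [LinearMap.mem_ker, he, hge]
  have hc : (⟨g e - e, hcmem⟩ : LinearMap.ker ε) ≠ 0 := by
    intro h
    apply hne
    exact congrArg Subtype.val h
  have hdet := det_schur g e ε C hS
  have hsp := IH ε C ⟨g e - e, hcmem⟩ (bRow g ε) hε hdet (hgood C hS) hc hb
  exact border g e ε C hS ⟨g e - e, hcmem⟩ rfl c0 b0 hb0 hc0 hsp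

/-- the Key Lemma, all cases -/
theorem key {V : Type v} [AddCommGroup V] [Module K V] [FiniteDimensional K V] (hK : 4 ≤ #K)
    (hn : 2 ≤ finrank K V) (g : V →ₗ[K] V) (hgood : Good g) (hdet : LinearMap.det g = 1)
    (c0 : V) (hc0 : c0 ≠ 0) (b0 : Module.Dual K V) (hb0 : b0 ≠ 0) : KeyConcl g c0 b0 := by
  have hrle : finrank K (LinearMap.range (g - 1)) ≤ finrank K V := Submodule.finrank_le _
  have hr2 : 2 ≤ finrank K (LinearMap.range (g - 1)) := hgood.2
  rcases Nat.lt_or_ge (finrank K (LinearMap.range (g - 1)) + 1) (finrank K V) with h | h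
  · exact keyA hK g hgood hdet (by omega) c0 hc0 b0 hb0
  · rcases Nat.lt_or_ge (finrank K V) 4 with h4 | h4
    · rcases Nat.lt_or_ge (finrank K V) 3 with h3 | h3
      · exact key2 hK (by omega) g hgood hdet c0 hc0 b0 hb0
      · have hn3 : finrank K V = 3 := by omega
        rcases Nat.lt_or_ge (finrank K (LinearMap.range (g - 1))) 3 with h5 | h5
        · exact keyD hK hn3 g hgood hdet (by omega) c0 hc0 b0 hb0
        · exact keyE hK hn3 g hgood hdet (by omega) c0 hc0 b0 hb0
    · rcases Nat.lt_or_ge (finrank K (LinearMap.range (g - 1))) (finrank K V) with h5 | h5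
      · exact keyB hK h4 g hgood hdet (by omega) c0 hc0 b0 hb0
      · exact keyC hK h4 g hgood hdet (by omega) c0 hc0 b0 hb0

/-- main induction -/
theorem main (hK : 4 ≤ #K) : ∀ n : ℕ, 2 ≤ n → ∀ (V : Type v) [AddCommGroup V] [Module K V]
    [FiniteDimensional K V], finrank K V = n → ∀ g : V →ₗ[K] V, Good g → LinearMap.det g = 1 →
    ∀ (c0 : V) (b0 : Module.Dual K V), c0 ≠ 0 → b0 ≠ 0 → SP g c0 b0 := by
  intro n hn
  induction n, hn using Nat.le_induction with
  | base =>
    intro V _ _ _ hV g hgood hdet c0 b0 hc0 hb0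
    apply step g c0 b0 (key hK (by omega) g hgood hdet c0 hc0 b0 hb0)
    intro ε C c b hε hdetC _ hc hb
    have h1 := Module.Dual.finrank_ker_add_one_of_ne_zero hε
    exact sp_dim_one (by omega) C (by rw [hdetC, hdet]) c hc b hb
  | succ n hn ih =>
    intro V _ _ _ hV g hgood hdet c0 b0 hc0 hb0
    apply step g c0 b0 (key hK (by omega) g hgood hdet c0 hc0 b0 hb0)
    intro ε C c b hε hdetC hG hc hb
    have h1 := Module.Dual.finrank_ker_add_one_of_ne_zero hε
    exact ih (LinearMap.ker ε) (by omega) C (hG (by omega)) (by rw [hdetC, hdet]) c b hc hb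

end Cfsg.Agent.Lib.Helper13_LevMain
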