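import Mathlib

set_option autoImplicit false

/-!
Direct powers `ι → T` of a non-abelian simple group `T`: normal subgroups contain a coordinate factor,
automorphisms permute the coordinate factors, and subdirect subgroups are products of twisted diagonals.
-/

namespace Cfsg.Agent.Lib.Helper13_SimplePow

variable {ι : Type*} [DecidableEq ι] {T : Type*} [Group T]

/-- A non-abelian simple group has trivial centre. -/
theorem exists_not_commute [IsSimpleGroup T] (hT : ¬ IsMulCommutative T) {x : T} (hx : x ≠ 1) :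
    ∃ t : T, x * t ≠ t * x := by
  by_contra hcon
  push Not at hcon
  have hxc : x ∈ Subgroup.center T := by
    rw [Subgroup.mem_center_iff]
    intro g
    exact (hcon g).symm
  rcases IsSimpleGroup.eq_bot_or_eq_top_of_normal (Subgroup.center T) inferInstance with h | h
  · rw [h, Subgroup.mem_bot] at hxc
    exact hx hxc
  · apply hT
    refine ⟨⟨fun a b => ?_⟩⟩
    have hb : b ∈ Subgroup.center T := by
      rw [h]
      exact Subgroup.mem_top b
    rw [Subgroup.mem_center_iff] at hb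
    exact hb a

theorem mulSingle_conj (i : ι) (u t : T) :
    (Pi.mulSingle i (u * t * u⁻¹) : ι → T)
      = Pi.mulSingle i u * Pi.mulSingle i t * (Pi.mulSingle i u)⁻¹ := by
  rw [Pi.mulSingle_mul, Pi.mulSingle_mul, Pi.mulSingle_inv]

theorem comm_mulSingle (x : ι → T) (i : ι) (t : T) :
    x * Pi.mulSingle i t * x⁻¹ * (Pi.mulSingle i t)⁻¹
      = Pi.mulSingle i (x i * t * (x i)⁻¹ * t⁻¹) := by
  funext j
  by_cases hj : j = i
  · subst hj
    simp
  · simp [Pi.mulSingle_eq_of_ne hj]

/-- A normal subgroup of `ι → T` containing an element with non-trivial `i`-th coordinate contains the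
whole `i`-th coordinate factor. -/
theorem mulSingle_mem_of_normal [IsSimpleGroup T] (hT : ¬ IsMulCommutative T)
    (M : Subgroup (ι → T)) [hM : M.Normal] {x : ι → T} (hx : x ∈ M) {i : ι} (hxi : x i ≠ 1)
    (t : T) : Pi.mulSingle i t ∈ M := by
  obtain ⟨t₀, ht₀⟩ := exists_not_commute hT hxi
  let S : Subgroup T :=
    { carrier := {u | (Pi.mulSingle i u : ι → T) ∈ M}
      mul_mem' := by
        intro a b ha hb
        change Pi.mulSingle i (a * b) ∈ M
        rw [Pi.mulSingle_mul]
        exact M.mul_mem ha hb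
      one_mem' := by
        change Pi.mulSingle i 1 ∈ M
        rw [Pi.mulSingle_one]
        exact M.one_mem
      inv_mem' := by
        intro a ha
        change Pi.mulSingle i a⁻¹ ∈ M
        rw [Pi.mulSingle_inv]
        exact M.inv_mem ha }
  have hSn : S.Normal := by
    refine ⟨fun a ha u => ?_⟩
    change Pi.mulSingle i (u * a * u⁻¹) ∈ M
    rw [mulSingle_conj]
    exact hM.conj_mem _ ha _
  have hc : x i * t₀ * (x i)⁻¹ * t₀⁻¹ ∈ S := by
    change Pi.mulSingle i (x i * t₀ * (x i)⁻¹ * t₀⁻¹) ∈ M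
    rw [← comm_mulSingle]
    have h1 : Pi.mulSingle i t₀ * x⁻¹ * (Pi.mulSingle i t₀)⁻¹ ∈ M :=
      hM.conj_mem _ (M.inv_mem hx) _
    have h2 : x * (Pi.mulSingle i t₀ * x⁻¹ * (Pi.mulSingle i t₀)⁻¹) ∈ M := M.mul_mem hx h1
    have h3 : x * Pi.mulSingle i t₀ * x⁻¹ * (Pi.mulSingle i t₀)⁻¹
        = x * (Pi.mulSingle i t₀ * x⁻¹ * (Pi.mulSingle i t₀)⁻¹) := by group
    rw [h3]
    exact h2
  have hne : x i * t₀ * (x i)⁻¹ * t₀⁻¹ ≠ 1 := by
    intro h
    apply ht₀
    have h4 : x i * t₀ * (x i)⁻¹ = t₀ := by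
      rw [mul_inv_eq_one] at h
      exact h
    rw [mul_inv_eq_iff_eq_mul] at h4
    exact h4
  rcases IsSimpleGroup.eq_bot_or_eq_top_of_normal S hSn with h | h
  · rw [h, Subgroup.mem_bot] at hc
    exact absurd hc hne
  · have : t ∈ S := by
      rw [h]
      exact Subgroup.mem_top t
    exact this

/-- The elements with trivial `i`-th coordinate are those commuting with the `i`-th factor. -/
theorem coord_eq_one_iff_commute [IsSimpleGroup T] (hT : ¬ IsMulCommutative T) (y : ι → T)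
    (i : ι) : y i = 1 ↔ ∀ t : T, y * Pi.mulSingle i t = Pi.mulSingle i t * y := by
  constructor
  · intro hy t
    funext j
    by_cases hj : j = i
    · subst hj
      simp [hy]
    · simp [Pi.mulSingle_eq_of_ne hj]
  · intro h
    by_contra hy
    obtain ⟨t, ht⟩ := exists_not_commute hT hy
    apply ht
    have := congrFun (h t) i
    simpa using this

/-- `ψ` maps the `i`-th coordinate to the `σ i`-th coordinate. -/
def Compat (ψ : (ι → T) ≃* (ι → T)) (σ : ι → ι) : Prop :=
  ∀ (x : ι → T) (i : ι), x i = 1 ↔ (ψ x) (σ i) = 1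

omit [DecidableEq ι] in
theorem Compat.eq_iff {ψ : (ι → T) ≃* (ι → T)} {σ : ι → ι} (h : Compat ψ σ) (x x' : ι → T)
    (i : ι) : x i = x' i ↔ (ψ x) (σ i) = (ψ x') (σ i) := by
  have h1 := h (x⁻¹ * x') i
  rw [map_mul, map_inv, Pi.mul_apply, Pi.mul_apply, Pi.inv_apply, Pi.inv_apply,
    inv_mul_eq_one, inv_mul_eq_one] at h1
  exact h1

omit [DecidableEq ι] in
theorem Compat.comp {ψ₁ ψ₂ : (ι → T) ≃* (ι → T)} {σ₁ σ₂ : ι → ι} (h₁ : Compat ψ₁ σ₁)
    (h₂ : Compat ψ₂ σ₂) : Compat (ψ₁.trans ψ₂) (σ₂ ∘ σ₁) := by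
  intro x i
  rw [h₁ x i, h₂ (ψ₁ x) (σ₁ i)]
  rfl

omit [DecidableEq ι] in
theorem compat_conj (y : ι → T) : Compat (MulAut.conj y) id := by
  intro x i
  rw [MulAut.conj_apply, id, Pi.mul_apply, Pi.mul_apply, Pi.inv_apply]
  constructor
  · intro h
    rw [h, mul_one, mul_inv_cancel]
  · intro h
    have h1 : y i * x i = y i := by
      rw [mul_inv_eq_one] at h
      exact h
    exact mul_eq_left.mp h1

omit [DecidableEq ι] in
theorem Compat.congr {ψ ψ' : (ι → T) ≃* (ι → T)} {σ : ι → ι} (h : Compat ψ σ)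
    (hψ : ∀ x, ψ' x = ψ x) : Compat ψ' σ := by
  intro x i
  rw [hψ x]
  exact h x i

theorem Compat.unique [Nontrivial T] {ψ : (ι → T) ≃* (ι → T)} {σ σ' : ι → ι}
    (h : Compat ψ σ) (h' : Compat ψ σ') : σ = σ' := by
  obtain ⟨t₁, ht₁⟩ := exists_ne (1 : T)
  funext i
  by_contra hne
  have h1 := h (ψ.symm (Pi.mulSingle (σ i) t₁)) i
  have h2 := h' (ψ.symm (Pi.mulSingle (σ i) t₁)) i
  rw [MulEquiv.apply_symm_apply, Pi.mulSingle_eq_same] at h1
  rw [MulEquiv.apply_symm_apply, Pi.mulSingle_eq_of_ne (Ne.symm hne)] at h2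
  exact ht₁ (h1.mp (h2.mpr rfl))

/-- If `ψ` maps the `i`-th factor onto the `j`-th factor, it maps the `i`-th coordinate to the `j`-th. -/
theorem coord_of_factor [IsSimpleGroup T] (hT : ¬ IsMulCommutative T)
    (ψ : (ι → T) ≃* (ι → T)) {i j : ι}
    (h1 : ∀ t : T, ∃ u : T, ψ (Pi.mulSingle i t) = Pi.mulSingle j u)
    (h2 : ∀ u : T, ∃ t : T, ψ (Pi.mulSingle i t) = Pi.mulSingle j u) (y : ι → T) :
    y i = 1 ↔ (ψ y) j = 1 := by
  rw [coord_eq_one_iff_commute hT, coord_eq_one_iff_commute hT]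
  constructor
  · intro h u
    obtain ⟨t, ht⟩ := h2 u
    rw [← ht, ← map_mul, ← map_mul, h t]
  · intro h t
    obtain ⟨u, hu⟩ := h1 t
    apply ψ.injective
    rw [map_mul, map_mul, hu, h u]

theorem exists_factor_map [IsSimpleGroup T] (hT : ¬ IsMulCommutative T)
    (ψ : (ι → T) ≃* (ι → T)) (i : ι) :
    ∃ j : ι, (∀ t : T, ∃ u : T, ψ (Pi.mulSingle i t) = Pi.mulSingle j u) ∧
      (∀ u : T, ∃ t : T, ψ (Pi.mulSingle i t) = Pi.mulSingle j u) := by
  obtain ⟨t₁, ht₁⟩ := exists_ne (1 : T)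
  -- the image of the `i`-th factor is a normal subgroup
  have hFn : ((MonoidHom.mulSingle (fun _ : ι => T) i).range.map ψ.toMonoidHom).Normal := by
    apply Subgroup.Normal.map _ _ ψ.surjective
    refine ⟨?_⟩
    rintro _ ⟨t, rfl⟩ g
    refine ⟨g i * t * (g i)⁻¹, ?_⟩
    funext k
    by_cases hk : k = i
    · subst hk
      simp
    · simp [Pi.mulSingle_eq_of_ne hk]
  have hx1 : ψ (Pi.mulSingle i t₁) ≠ 1 := by
    intro h
    rw [map_eq_one_iff ψ ψ.injective] at h
    apply ht₁
    have := congrFun h i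
    simpa using this
  obtain ⟨j, hj⟩ : ∃ j, (ψ (Pi.mulSingle i t₁)) j ≠ 1 := by
    by_contra hcon
    push Not at hcon
    exact hx1 (funext hcon)
  have hmem : ψ (Pi.mulSingle i t₁) ∈ (MonoidHom.mulSingle (fun _ : ι => T) i).range.map ψ.toMonoidHom :=
    ⟨Pi.mulSingle i t₁, ⟨t₁, rfl⟩, rfl⟩
  have h2 : ∀ u : T, ∃ t : T, ψ (Pi.mulSingle i t) = Pi.mulSingle j u := by
    intro u
    have := mulSingle_mem_of_normal hT _ hmem hj u
    obtain ⟨_, ⟨t, rfl⟩, ht⟩ := this
    exact ⟨t, ht⟩
  refine ⟨j, ?_, h2⟩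
  -- the preimage of the `j`-th factor is a normal subgroup inside the `i`-th factor
  have hFn' : ((MonoidHom.mulSingle (fun _ : ι => T) j).range.map ψ.symm.toMonoidHom).Normal := by
    apply Subgroup.Normal.map _ _ ψ.symm.surjective
    refine ⟨?_⟩
    rintro _ ⟨t, rfl⟩ g
    refine ⟨g j * t * (g j)⁻¹, ?_⟩
    funext k
    by_cases hk : k = j
    · subst hk
      simp
    · simp [Pi.mulSingle_eq_of_ne hk]
  obtain ⟨t', ht'⟩ := h2 t₁
  have ht'1 : t' ≠ 1 := by
    rintro rfl
    rw [Pi.mulSingle_one, map_one] at ht'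
    apply ht₁
    have := congrFun ht' j
    simpa using this.symm
  have hmem' : (Pi.mulSingle i t' : ι → T) ∈
      (MonoidHom.mulSingle (fun _ : ι => T) j).range.map ψ.symm.toMonoidHom := by
    refine ⟨Pi.mulSingle j t₁, ⟨t₁, rfl⟩, ?_⟩
    change ψ.symm (Pi.mulSingle j t₁) = Pi.mulSingle i t'
    rw [← ht', MulEquiv.symm_apply_apply]
  intro t
  have hi' : (Pi.mulSingle i t' : ι → T) i ≠ 1 := by
    rw [Pi.mulSingle_eq_same]
    exact ht'1
  have := mulSingle_mem_of_normal hT _ hmem' hi' t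
  obtain ⟨_, ⟨u, rfl⟩, hu⟩ := this
  refine ⟨u, ?_⟩
  have hu' : ψ.symm (Pi.mulSingle j u) = Pi.mulSingle i t := hu
  rw [← hu', MulEquiv.apply_symm_apply]

/-- Every automorphism of `ι → T` permutes the coordinates. -/
theorem exists_compat [IsSimpleGroup T] (hT : ¬ IsMulCommutative T)
    (ψ : (ι → T) ≃* (ι → T)) : ∃ σ : ι → ι, Function.Bijective σ ∧ Compat ψ σ := by
  obtain ⟨t₁, ht₁⟩ := exists_ne (1 : T)
  choose σ hσ1 hσ2 using exists_factor_map hT ψ
  have hc : Compat ψ σ := fun x i => coord_of_factor hT ψ (hσ1 i) (hσ2 i) x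
  refine ⟨σ, ⟨?_, ?_⟩, hc⟩
  · intro i i' hii
    by_contra hne
    have h1 := hc (Pi.mulSingle i t₁) i'
    rw [← hii, ← hc (Pi.mulSingle i t₁) i, Pi.mulSingle_eq_same,
      Pi.mulSingle_eq_of_ne (Ne.symm hne)] at h1
    exact ht₁ (h1.mp rfl)
  · intro j
    obtain ⟨i, hi1, hi2⟩ := exists_factor_map hT ψ.symm j
    refine ⟨i, ?_⟩
    by_contra hne
    -- `ψ.symm (mulSingle j t₁) = mulSingle i u`
    obtain ⟨u, hu⟩ := hi1 t₁
    have h1 := hc (Pi.mulSingle i u) i
    have h2 : ψ (Pi.mulSingle i u) = Pi.mulSingle j t₁ := by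
      rw [← hu, MulEquiv.apply_symm_apply]
    rw [h2, Pi.mulSingle_eq_same, Pi.mulSingle_eq_of_ne hne] at h1
    have hu1 : u = 1 := h1.mpr rfl
    rw [hu1, Pi.mulSingle_one, map_one] at h2
    apply ht₁
    have := congrFun h2 j
    simpa using this.symm

theorem Compat.bijective [IsSimpleGroup T] (hT : ¬ IsMulCommutative T)
    {ψ : (ι → T) ≃* (ι → T)} {σ : ι → ι} (h : Compat ψ σ) : Function.Bijective σ := by
  obtain ⟨σ', hb, h'⟩ := exists_compat hT ψ
  rw [h.unique h']
  exact hb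

/-! ### Subdirect subgroups -/

section Subdirect

omit [DecidableEq ι]

/-- Two coordinates have the same kernel on `D`. -/
def Rel (D : Subgroup (ι → T)) (i j : ι) : Prop := ∀ x ∈ D, x i = 1 ↔ x j = 1

theorem Rel.refl (D : Subgroup (ι → T)) (i : ι) : Rel D i i := fun _ _ => Iff.rfl

theorem Rel.symm {D : Subgroup (ι → T)} {i j : ι} (h : Rel D i j) : Rel D j i :=
  fun x hx => (h x hx).symm

theorem Rel.trans {D : Subgroup (ι → T)} {i j k : ι} (h₁ : Rel D i j) (h₂ : Rel D j k) :
    Rel D i k := fun x hx => (h₁ x hx).trans (h₂ x hx)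

/-- The equivalence relation of having the same kernel. -/
def relSetoid (D : Subgroup (ι → T)) : Setoid ι :=
  ⟨Rel D, ⟨Rel.refl D, fun h => h.symm, fun h₁ h₂ => h₁.trans h₂⟩⟩

/-- A representative of the class of `i`. -/
noncomputable def rep (D : Subgroup (ι → T)) (i : ι) : ι :=
  (Quotient.mk (relSetoid D) i).out

theorem rep_rel (D : Subgroup (ι → T)) (i : ι) : Rel D (rep D i) i :=
  Quotient.mk_out (s := relSetoid D) i

theorem rep_eq {D : Subgroup (ι → T)} {i j : ι} (h : Rel D i j) : rep D i = rep D j :=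
  congrArg Quotient.out (Quotient.sound (s := relSetoid D) h)

theorem rep_rep (D : Subgroup (ι → T)) (i : ι) : rep D (rep D i) = rep D i :=
  rep_eq (rep_rel D i)

theorem rep_eq_iff (D : Subgroup (ι → T)) (i j : ι) : rep D i = rep D j ↔ Rel D i j := by
  constructor
  · intro h
    have h1 := (rep_rel D i).symm
    have h2 := rep_rel D j
    rw [h] at h1
    exact h1.trans h2
  · exact rep_eq

/-- Equivalent coordinates of a subdirect subgroup differ by an automorphism of `T`. -/
theorem exists_twist (D : Subgroup (ι → T)) (hsub : ∀ i t, ∃ x ∈ D, x i = t) {i j : ι}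
    (h : Rel D i j) : ∃ φ : T ≃* T, ∀ x ∈ D, x j = φ (x i) := by
  choose f hfD hf using hsub i
  -- `f t ∈ D` has `i`-th coordinate `t`
  have key : ∀ x ∈ D, ∀ y ∈ D, x i = y i → x j = y j := by
    intro x hx y hy hxy
    have h1 := h (x⁻¹ * y) (D.mul_mem (D.inv_mem hx) hy)
    rw [Pi.mul_apply, Pi.mul_apply, Pi.inv_apply, Pi.inv_apply, inv_mul_eq_one,
      inv_mul_eq_one] at h1
    exact h1.mp hxy
  have key' : ∀ x ∈ D, ∀ y ∈ D, x j = y j → x i = y i := by
    intro x hx y hy hxy
    have h1 := h (x⁻¹ * y) (D.mul_mem (D.inv_mem hx) hy)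
    rw [Pi.mul_apply, Pi.mul_apply, Pi.inv_apply, Pi.inv_apply, inv_mul_eq_one,
      inv_mul_eq_one] at h1
    exact h1.mpr hxy
  have hval : ∀ x ∈ D, f (x i) j = x j := fun x hx => key _ (hfD _) x hx (hf _)
  let φ₀ : T →* T :=
    { toFun := fun t => f t j
      map_one' := by
        have := hval 1 D.one_mem
        simpa using this
      map_mul' := by
        intro a b
        have h1 := hval (f a * f b) (D.mul_mem (hfD a) (hfD b))
        rw [Pi.mul_apply, Pi.mul_apply, hf, hf] at h1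
        exact h1 }
  have hbij : Function.Bijective φ₀ := by
    constructor
    · intro a b hab
      have := key' (f a) (hfD a) (f b) (hfD b) hab
      rw [hf, hf] at this
      exact this
    · intro u
      obtain ⟨x, hxD, hx⟩ := hsub j u
      exact ⟨x i, (hval x hxD).trans hx⟩
  refine ⟨MulEquiv.ofBijective φ₀ hbij, ?_⟩
  intro x hx
  exact (hval x hx).symm

/-- Separation: a coordinate can be prescribed while finitely many inequivalent ones are trivial. -/
theorem exists_sep [IsSimpleGroup T] (hT : ¬ IsMulCommutative T) (D : Subgroup (ι → T))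
    (hsub : ∀ i t, ∃ x ∈ D, x i = t) (i₀ : ι) (S : Finset ι) (hS : ∀ j ∈ S, ¬ Rel D i₀ j)
    (t : T) : ∃ x ∈ D, x i₀ = t ∧ ∀ j ∈ S, x j = 1 := by
  classical
  induction S using Finset.induction_on generalizing t with
  | empty =>
    obtain ⟨x, hx, hxt⟩ := hsub i₀ t
    exact ⟨x, hx, hxt, fun j hj => absurd hj (Finset.notMem_empty j)⟩
  | insert j S' hj ih =>
    have ih' := ih (fun j' hj' => hS j' (Finset.mem_insert_of_mem hj'))
    have hij : ¬ Rel D i₀ j := hS j (Finset.mem_insert_self j S')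
    -- the subgroup `P` of values at `i₀` of elements trivial on `S'` and at `j`
    let P : Subgroup T :=
      { carrier := {u | ∃ x ∈ D, x i₀ = u ∧ x j = 1 ∧ ∀ j' ∈ S', x j' = 1}
        mul_mem' := by
          rintro a b ⟨x, hx, hxa, hxj, hxS⟩ ⟨y, hy, hyb, hyj, hyS⟩
          refine ⟨x * y, D.mul_mem hx hy, ?_, ?_, ?_⟩
          · rw [Pi.mul_apply, hxa, hyb]
          · rw [Pi.mul_apply, hxj, hyj, mul_one]
          · intro j' hj'
            rw [Pi.mul_apply, hxS j' hj', hyS j' hj', mul_one]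
        one_mem' := ⟨1, D.one_mem, rfl, rfl, fun _ _ => rfl⟩
        inv_mem' := by
          rintro a ⟨x, hx, hxa, hxj, hxS⟩
          refine ⟨x⁻¹, D.inv_mem hx, ?_, ?_, ?_⟩
          · rw [Pi.inv_apply, hxa]
          · rw [Pi.inv_apply, hxj, inv_one]
          · intro j' hj'
            rw [Pi.inv_apply, hxS j' hj', inv_one] }
    have hPn : P.Normal := by
      refine ⟨?_⟩
      rintro a ⟨x, hx, hxa, hxj, hxS⟩ u
      obtain ⟨d, hd, hdu, hdS⟩ := ih' u
      refine ⟨d * x * d⁻¹, D.mul_mem (D.mul_mem hd hx) (D.inv_mem hd), ?_, ?_, ?_⟩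
      · rw [Pi.mul_apply, Pi.mul_apply, Pi.inv_apply, hxa, hdu]
      · rw [Pi.mul_apply, Pi.mul_apply, Pi.inv_apply, hxj, mul_one, mul_inv_cancel]
      · intro j' hj'
        rw [Pi.mul_apply, Pi.mul_apply, Pi.inv_apply, hxS j' hj', hdS j' hj', mul_one, inv_one,
          mul_one]
    rcases IsSimpleGroup.eq_bot_or_eq_top_of_normal P hPn with hP | hP
    · exfalso
      apply hij
      -- elements of `D` trivial on `S'` and at `j` are trivial at `i₀`
      have hbot : ∀ x ∈ D, x j = 1 → (∀ j' ∈ S', x j' = 1) → x i₀ = 1 := by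
        intro x hx hxj hxS
        have : x i₀ ∈ P := ⟨x, hx, rfl, hxj, hxS⟩
        rw [hP, Subgroup.mem_bot] at this
        exact this
      have hback : ∀ x ∈ D, x j = 1 → x i₀ = 1 := by
        intro x hx hxj
        by_contra hne
        obtain ⟨u, hu⟩ := exists_not_commute hT hne
        obtain ⟨y, hy, hyu, hyS⟩ := ih' u
        have hc := hbot (x * y * x⁻¹ * y⁻¹)
          (D.mul_mem (D.mul_mem (D.mul_mem hx hy) (D.inv_mem hx)) (D.inv_mem hy))
          (by rw [Pi.mul_apply, Pi.mul_apply, Pi.mul_apply, Pi.inv_apply, Pi.inv_apply, hxj,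
            one_mul, inv_one, mul_one, mul_inv_cancel])
          (by
            intro j' hj'
            rw [Pi.mul_apply, Pi.mul_apply, Pi.mul_apply, Pi.inv_apply, Pi.inv_apply,
              hyS j' hj', mul_one, mul_inv_cancel, inv_one, mul_one])
        rw [Pi.mul_apply, Pi.mul_apply, Pi.mul_apply, Pi.inv_apply, Pi.inv_apply, hyu,
          mul_inv_eq_one, mul_inv_eq_iff_eq_mul] at hc
        exact hu hc
      intro x hx
      constructor
      · intro hxi
        -- the subgroup of values at `j` of elements of `D` trivial at `i₀`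
        let P' : Subgroup T :=
          { carrier := {u | ∃ x ∈ D, x i₀ = 1 ∧ x j = u}
            mul_mem' := by
              rintro a b ⟨x, hx, hxi, hxa⟩ ⟨y, hy, hyi, hyb⟩
              refine ⟨x * y, D.mul_mem hx hy, ?_, ?_⟩
              · rw [Pi.mul_apply, hxi, hyi, mul_one]
              · rw [Pi.mul_apply, hxa, hyb]
            one_mem' := ⟨1, D.one_mem, rfl, rfl⟩
            inv_mem' := by
              rintro a ⟨x, hx, hxi, hxa⟩
              refine ⟨x⁻¹, D.inv_mem hx, ?_, ?_⟩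
              · rw [Pi.inv_apply, hxi, inv_one]
              · rw [Pi.inv_apply, hxa] }
        have hP'n : P'.Normal := by
          refine ⟨?_⟩
          rintro a ⟨x, hx, hxi, hxa⟩ u
          obtain ⟨d, hd, hdu⟩ := hsub j u
          refine ⟨d * x * d⁻¹, D.mul_mem (D.mul_mem hd hx) (D.inv_mem hd), ?_, ?_⟩
          · rw [Pi.mul_apply, Pi.mul_apply, Pi.inv_apply, hxi, mul_one, mul_inv_cancel]
          · rw [Pi.mul_apply, Pi.mul_apply, Pi.inv_apply, hxa, hdu]
        rcases IsSimpleGroup.eq_bot_or_eq_top_of_normal P' hP'n with hP' | hP'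
        · have : x j ∈ P' := ⟨x, hx, hxi, rfl⟩
          rw [hP', Subgroup.mem_bot] at this
          exact this
        · exfalso
          obtain ⟨s, hs⟩ := exists_ne (1 : T)
          obtain ⟨d, hd, hds⟩ := hsub i₀ s
          have : d j ∈ P' := by
            rw [hP']
            exact Subgroup.mem_top _
          obtain ⟨y, hy, hyi, hyj⟩ := this
          have h1 := hback (d * y⁻¹) (D.mul_mem hd (D.inv_mem hy))
            (by rw [Pi.mul_apply, Pi.inv_apply, hyj, mul_inv_cancel])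
          rw [Pi.mul_apply, Pi.inv_apply, hyi, inv_one, mul_one, hds] at h1
          exact hs h1
      · exact hback x hx
    · have : t ∈ P := by
        rw [hP]
        exact Subgroup.mem_top t
      obtain ⟨x, hx, hxt, hxj, hxS⟩ := this
      refine ⟨x, hx, hxt, ?_⟩
      intro j' hj'
      rcases Finset.mem_insert.mp hj' with rfl | h
      · exact hxj
      · exact hxS j' h

/-- A subdirect subgroup maps onto any finite set of pairwise inequivalent coordinates. -/
theorem exists_of_inequiv [IsSimpleGroup T] (hT : ¬ IsMulCommutative T) (D : Subgroup (ι → T))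
    (hsub : ∀ i t, ∃ x ∈ D, x i = t) (S : Finset ι)
    (hS : ∀ i ∈ S, ∀ j ∈ S, i ≠ j → ¬ Rel D i j) (y : ι → T) :
    ∃ d ∈ D, ∀ i ∈ S, d i = y i := by
  classical
  induction S using Finset.induction_on with
  | empty => exact ⟨1, D.one_mem, fun i hi => absurd hi (Finset.notMem_empty i)⟩
  | insert i₀ S' hi₀ ih =>
    obtain ⟨d, hd, hdS⟩ := ih (fun i hi j hj hij =>
      hS i (Finset.mem_insert_of_mem hi) j (Finset.mem_insert_of_mem hj) hij)
    obtain ⟨u, hu, hui, huS⟩ := exists_sep hT D hsub i₀ S'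
      (fun j hj => hS i₀ (Finset.mem_insert_self i₀ S') j (Finset.mem_insert_of_mem hj)
        (fun h => hi₀ (h ▸ hj))) ((d i₀)⁻¹ * y i₀)
    refine ⟨d * u, D.mul_mem hd hu, ?_⟩
    intro i hi
    rcases Finset.mem_insert.mp hi with rfl | h
    · rw [Pi.mul_apply, hui, mul_inv_cancel_left]
    · rw [Pi.mul_apply, huS i h, mul_one, hdS i h]

/-- A subdirect subgroup of `ι → T` is the product of twisted diagonals over the classes of `Rel`. -/
theorem mem_iff_of_subdirect [Fintype ι] [IsSimpleGroup T] (hT : ¬ IsMulCommutative T)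
    (D : Subgroup (ι → T)) (hsub : ∀ i t, ∃ x ∈ D, x i = t) :
    ∃ φ : ι → (T ≃* T), ∀ x : ι → T, x ∈ D ↔ ∀ i, x i = φ i (x (rep D i)) := by
  classical
  choose φ hφ using fun i => exists_twist D hsub (rep_rel D i)
  refine ⟨φ, fun x => ⟨fun hx i => hφ i x hx, fun hx => ?_⟩⟩
  obtain ⟨d, hd, hdS⟩ := exists_of_inequiv hT D hsub (Finset.univ.image (rep D))
    (by
      intro i hi j hj hij hrel
      obtain ⟨i', -, rfl⟩ := Finset.mem_image.mp hi
      obtain ⟨j', -, rfl⟩ := Finset.mem_image.mp hj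
      apply hij
      have := rep_eq hrel
      rw [rep_rep, rep_rep] at this
      exact this) x
  have hdx : d = x := by
    funext i
    rw [hφ i d hd, hx i, hdS (rep D i) (Finset.mem_image_of_mem _ (Finset.mem_univ i))]
  rw [← hdx]
  exact hd

end Subdirect

end Cfsg.Agent.Lib.Helper13_SimplePow
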