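import Mathlib

set_option autoImplicit false

/-!
# Helper61: a finite group without proper nontrivial `𝒜`-invariant normal subgroups is `T^m`

Main results:
* `exists_simple_pow`: finite nontrivial `M`, `𝒜 : Subgroup (MulAut M)` containing the inner
  automorphisms, every `𝒜`-invariant normal subgroup is `⊥` or `⊤`; then `M ≃* (Fin m → T)` with
  `T` simple (living in `Type`), `0 < m`.
* `minNormal_simple_pow`: a minimal normal subgroup of a finite group is `≃* (Fin m → T)`.
-/

namespace Cfsg.Agent.Lib.Helper61_MinNormal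

universe u v

section Pieces

variable {M : Type u} [Group M]

/-- internal direct product of two normal subgroups with trivial intersection -/
noncomputable def prodEquivSup (A B : Subgroup M) (hA : A.Normal) (hB : B.Normal)
    (h : Disjoint A B) : (A × B) ≃* ↥(A ⊔ B) := by
  have comm : ∀ (a : A) (b : B), Commute (A.subtype a) (B.subtype b) := fun a b =>
    Subgroup.commute_of_normal_of_disjoint A B hA hB h a b a.2 b.2
  have hinj : Function.Injective (MonoidHom.noncommCoprod A.subtype B.subtype comm) := by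
    rw [MonoidHom.noncommCoprod_injective]
    refine ⟨A.subtype_injective, B.subtype_injective, ?_⟩
    rw [Subgroup.range_subtype, Subgroup.range_subtype]
    exact h
  have hrange : (MonoidHom.noncommCoprod A.subtype B.subtype comm).range = A ⊔ B := by
    rw [MonoidHom.noncommCoprod_range, Subgroup.range_subtype, Subgroup.range_subtype]
  exact (MonoidHom.ofInjective hinj).trans (MulEquiv.subgroupCongr hrange)

/-- `(Fin j → T) × T ≃* (Fin (j+1) → T)` -/
def finSuccMulEquiv (j : ℕ) (T : Type v) [Group T] : ((Fin j → T) × T) ≃* (Fin (j + 1) → T) where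
  toFun p := Fin.cons p.2 p.1
  invFun f := (Fin.tail f, f 0)
  left_inv p := by simp
  right_inv f := by simp
  map_mul' p q := by
    funext i
    refine Fin.cases ?_ (fun i => ?_) i <;> simp

end Pieces

section Main

variable {M : Type u} [Group M] [Finite M]

/-- The general theorem, with `T` a subgroup of `M`. -/
theorem exists_simple_pow_aux [Nontrivial M] (𝒜 : Subgroup (MulAut M))
    (hmin : ∀ L : Subgroup M, L.Normal → (∀ α ∈ 𝒜, L.map (α : M ≃* M).toMonoidHom ≤ L) →
      L = ⊥ ∨ L = ⊤) :
    ∃ (T : Subgroup M) (m : ℕ), IsSimpleGroup T ∧ 0 < m ∧ Nonempty (M ≃* (Fin m → T)) := by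
  classical
  -- Step 1: a nontrivial normal subgroup of minimal cardinality
  have hex : ∃ n : ℕ, ∃ T : Subgroup M, T.Normal ∧ T ≠ ⊥ ∧ Nat.card T = n :=
    ⟨_, ⊤, inferInstance, top_ne_bot, rfl⟩
  obtain ⟨T, hTn, hTne, hTcard⟩ := Nat.find_spec hex
  have hTmin : ∀ L : Subgroup M, L.Normal → L ≠ ⊥ → L ≤ T → L = T := by
    intro L hL hLne hLT
    apply Subgroup.eq_of_le_of_card_ge hLT
    by_contra hlt
    push Not at hlt
    rw [hTcard] at hlt
    exact Nat.find_min hex hlt ⟨L, hL, hLne, rfl⟩
  -- Step 2: images of T under automorphisms are again minimal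
  have himg_normal : ∀ α : MulAut M, (T.map (α : M ≃* M).toMonoidHom).Normal := by
    intro α
    exact Subgroup.Normal.map hTn _ (α : M ≃* M).surjective
  have himg_card : ∀ α : MulAut M, Nat.card (T.map (α : M ≃* M).toMonoidHom) = Nat.card T := by
    intro α
    exact (Nat.card_congr ((α : M ≃* M).subgroupMap T).toEquiv).symm
  have himg_min : ∀ α : MulAut M, ∀ L : Subgroup M, L.Normal → L ≠ ⊥ →
      L ≤ T.map (α : M ≃* M).toMonoidHom → L = T.map (α : M ≃* M).toMonoidHom := by
    intro α L hL hLne hLT
    apply Subgroup.eq_of_le_of_card_ge hLT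
    by_contra hlt
    push Not at hlt
    rw [himg_card, hTcard] at hlt
    exact Nat.find_min hex hlt ⟨L, hL, hLne, rfl⟩
  -- Step 3: the predicate P and a maximal D
  let P : Subgroup M → Prop := fun D => D.Normal ∧ T ≤ D ∧
    D ≤ T ⊔ Subgroup.centralizer (T : Set M) ∧ ∃ j : ℕ, Nonempty (D ≃* (Fin j → T))
  have hPT : P T := by
    refine ⟨hTn, le_rfl, le_sup_left, 1, ⟨?_⟩⟩
    exact (MulEquiv.funUnique (Fin 1) T).symm
  have hexD : ∃ n : ℕ, ∃ D : Subgroup M, P D ∧ Nat.card M - Nat.card D = n := ⟨_, T, hPT, rfl⟩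
  obtain ⟨D, hPD, hDcard⟩ := Nat.find_spec hexD
  have hDmax : ∀ D' : Subgroup M, P D' → Nat.card D' ≤ Nat.card D := by
    intro D' hP'
    by_contra hlt
    push Not at hlt
    have hle : Nat.card D' ≤ Nat.card M := Subgroup.card_le_card_group D'
    have : Nat.card M - Nat.card D' < Nat.find hexD := by
      rw [← hDcard]; omega
    exact Nat.find_min hexD this ⟨D', hP', rfl⟩
  obtain ⟨hDn, hTD, hDcent, j, ⟨eD⟩⟩ := hPD
  -- every image of T lies in D
  have himgD : ∀ α : MulAut M, T.map (α : M ≃* M).toMonoidHom ≤ D := by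
    intro α
    by_contra hnot
    set T' := T.map (α : M ≃* M).toMonoidHom with hT'
    have hT'n : T'.Normal := himg_normal α
    have hdisj : Disjoint D T' := by
      rw [disjoint_iff]
      by_contra hne
      have hn : (D ⊓ T').Normal := Subgroup.normal_inf_normal D T'
      have := himg_min α (D ⊓ T') hn hne inf_le_right
      apply hnot
      rw [hT', ← this]
      exact inf_le_left
    have hTT' : Disjoint T T' := Disjoint.mono_left hTD hdisj
    have hP' : P (D ⊔ T') := by
      refine ⟨Subgroup.sup_normal D T', le_trans hTD le_sup_left, ?_, j + 1, ⟨?_⟩⟩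
      · apply sup_le hDcent
        apply le_trans _ le_sup_right
        intro x hx
        rw [Subgroup.mem_centralizer_iff]
        intro t ht
        exact (Subgroup.commute_of_normal_of_disjoint T T' hTn hT'n hTT' t x ht hx).eq
      · have e1 : ↥(D ⊔ T') ≃* (D × T') := (prodEquivSup D T' hDn hT'n hdisj).symm
        have e2 : T' ≃* T := ((α : M ≃* M).subgroupMap T).symm
        exact (e1.trans (MulEquiv.prodCongr eD e2)).trans (finSuccMulEquiv j T)
    have heq : D = D ⊔ T' := Subgroup.eq_of_le_of_card_ge le_sup_left (hDmax _ hP')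
    apply hnot
    rw [heq]; exact le_sup_right
  -- hence D = ⊤
  have hDtop : D = ⊤ := by
    set L : Subgroup M := ⨆ α : 𝒜, T.map ((α : MulAut M) : M ≃* M).toMonoidHom with hL
    have hLD : L ≤ D := iSup_le fun α => himgD α
    have hLn : L.Normal := by
      rw [hL]
      have : ∀ α : 𝒜, (T.map ((α : MulAut M) : M ≃* M).toMonoidHom).Normal :=
        fun α => himg_normal α
      exact Subgroup.iSup_normal _
    have hTL : T ≤ L := by
      refine le_trans ?_ (le_iSup _ (⟨1, 𝒜.one_mem⟩ : 𝒜))
      intro x hx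
      exact ⟨x, hx, rfl⟩
    have hLinv : ∀ β ∈ 𝒜, L.map (β : M ≃* M).toMonoidHom ≤ L := by
      intro β hβ
      rw [hL, Subgroup.map_iSup]
      apply iSup_le
      intro α
      rw [Subgroup.map_map]
      refine le_trans (le_of_eq ?_) (le_iSup _ (⟨β * α, 𝒜.mul_mem hβ α.2⟩ : 𝒜))
      rfl
    rcases hmin L hLn hLinv with h | h
    · exfalso
      apply hTne
      rw [eq_bot_iff, ← h]; exact hTL
    · rw [eq_top_iff, ← h]; exact hLD
  subst hDtop
  refine ⟨T, j, ?_, ?_, ⟨(Subgroup.topEquiv.symm.trans eD)⟩⟩
  · -- T is simple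
    have hTnt : Nontrivial T := (Subgroup.nontrivial_iff_ne_bot T).mpr hTne
    refine { exists_pair_ne := hTnt.exists_pair_ne, eq_bot_or_eq_top_of_normal := ?_ }
    intro K hK
    -- K' = image of K in M is normal in M
    set K' : Subgroup M := K.map T.subtype with hK'
    have hK'T : K' ≤ T := by
      rw [hK']; exact Subgroup.map_subtype_le K
    have hK'n : K'.Normal := by
      constructor
      intro x hx g
      have hg : g ∈ T ⊔ Subgroup.centralizer (T : Set M) := hDcent (Subgroup.mem_top g)
      rw [Subgroup.mem_sup_of_normal_left] at hg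
      obtain ⟨t, ht, c, hc, rfl⟩ := hg
      obtain ⟨k, hk, rfl⟩ := hx
      have hcx : c * (T.subtype k) * c⁻¹ = T.subtype k := by
        rw [Subgroup.mem_centralizer_iff] at hc
        have := hc (T.subtype k) k.2
        rw [mul_inv_eq_iff_eq_mul]
        exact this.symm
      have : t * c * T.subtype k * (t * c)⁻¹ = t * (c * T.subtype k * c⁻¹) * t⁻¹ := by group
      rw [this, hcx]
      refine ⟨⟨t, ht⟩ * k * ⟨t, ht⟩⁻¹, hK.conj_mem k hk ⟨t, ht⟩, ?_⟩
      simp
    by_cases hne : K' = ⊥
    · left
      rw [hK'] at hne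
      exact (Subgroup.map_eq_bot_iff_of_injective K T.subtype_injective).mp hne
    · right
      have := hTmin K' hK'n hne hK'T
      rw [eq_top_iff]
      intro x _
      have hx : (x : M) ∈ K' := by rw [this]; exact x.2
      obtain ⟨k, hk, hkx⟩ := hx
      have : k = x := Subtype.ext hkx
      rwa [← this]
  · -- j > 0
    rcases Nat.eq_zero_or_pos j with h0 | hpos
    · exfalso
      subst h0
      have : Subsingleton (Fin 0 → T) := inferInstance
      have hsub : Subsingleton (⊤ : Subgroup M) := eD.toEquiv.subsingleton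
      have : Subsingleton M := by
        constructor
        intro a b
        have := hsub.elim ⟨a, Subgroup.mem_top a⟩ ⟨b, Subgroup.mem_top b⟩
        exact congrArg Subtype.val this
      exact not_subsingleton M this
    · exact hpos

/-- A finite group has an isomorphic copy living in `Type`. -/
theorem exists_small_copy (H' : Type u) [Group H'] [Finite H'] :
    ∃ (H : Type) (_ : Group H), Nonempty (H ≃* H') := by
  classical
  let e : Fin (Nat.card H') ≃ H' := (Finite.equivFin H').symm
  let _ : Group (Fin (Nat.card H')) := e.group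
  exact ⟨Fin (Nat.card H'), inferInstance, ⟨e.mulEquiv⟩⟩

/-- The general theorem: a finite nontrivial group whose only `𝒜`-invariant normal subgroups are
`⊥` and `⊤` is a direct power of a simple group. -/
theorem exists_simple_pow [Nontrivial M] (𝒜 : Subgroup (MulAut M))
    (hmin : ∀ L : Subgroup M, L.Normal → (∀ α ∈ 𝒜, L.map (α : M ≃* M).toMonoidHom ≤ L) →
      L = ⊥ ∨ L = ⊤) :
    ∃ (T : Type) (_ : Group T) (m : ℕ), IsSimpleGroup T ∧ 0 < m ∧
      Nonempty (M ≃* (Fin m → T)) := by
  obtain ⟨T, m, hT, hm, ⟨e⟩⟩ := exists_simple_pow_aux 𝒜 hmin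
  obtain ⟨T₀, hG, ⟨e₀⟩⟩ := exists_small_copy T
  refine ⟨T₀, hG, m, e₀.isSimpleGroup, hm, ⟨?_⟩⟩
  exact e.trans (MulEquiv.piCongrRight (fun _ => e₀.symm))

end Main

/-- A minimal normal subgroup of a finite group is a direct power of a simple group. -/
theorem minNormal_simple_pow {H : Type u} [Group H] [Finite H] (N : Subgroup H) [hNn : N.Normal]
    (hN : N ≠ ⊥) (hmin : ∀ M : Subgroup H, M.Normal → M ≤ N → M = ⊥ ∨ M = N) :
    ∃ (T : Type) (_ : Group T) (m : ℕ), IsSimpleGroup T ∧ 0 < m ∧
      Nonempty (N ≃* (Fin m → T)) := by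
  have hnt : Nontrivial N := (Subgroup.nontrivial_iff_ne_bot N).mpr hN
  apply exists_simple_pow (M := N) (MulAut.conjNormal (H := N)).range
  intro L hLn hLinv
  set L' : Subgroup H := L.map N.subtype with hL'
  have hL'N : L' ≤ N := by rw [hL']; exact Subgroup.map_subtype_le L
  have hL'n : L'.Normal := by
    constructor
    intro x hx g
    obtain ⟨l, hl, rfl⟩ := hx
    have h1 : MulAut.conjNormal g l ∈ L := by
      apply hLinv (MulAut.conjNormal g) ⟨g, rfl⟩
      exact ⟨l, hl, rfl⟩
    refine ⟨MulAut.conjNormal g l, h1, ?_⟩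
    simp [MulAut.conjNormal_apply]
  rcases hmin L' hL'n hL'N with h | h
  · left
    rw [hL'] at h
    exact (Subgroup.map_eq_bot_iff_of_injective L N.subtype_injective).mp h
  · right
    rw [eq_top_iff]
    intro x _
    have hx : (x : H) ∈ L' := by rw [h]; exact x.2
    obtain ⟨l, hl, hlx⟩ := hx
    have : l = x := Subtype.ext hlx
    rwa [← this]

end Cfsg.Agent.Lib.Helper61_MinNormal
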