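import Mathlib
import Cfsg.Agent.Lib.Helper13_SimplePow
import Cfsg.Agent.S0721
import Cfsg.Agent.S0722

set_option autoImplicit false

/-!
The core of the O'Nan–Scott theorem: the point stabiliser meets a non-abelian minimal normal subgroup
`T ^ m` of a primitive group in a product of proper subgroups or in a product of diagonals.
-/

namespace Cfsg.Agent.Lib.Helper13_ONanScott

open Cfsg.Agent.Lib.Helper13_SimplePow

section Setup

variable {α : Type*} (H : Subgroup (Equiv.Perm α)) (N : Subgroup H) [hNn : N.Normal]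
  {T : Type} [Group T] {m : ℕ} (e₀ : N ≃* (Fin m → T))

/-- Conjugation by `h`, transported to `Fin m → T`. -/
noncomputable def psi (h : H) : (Fin m → T) ≃* (Fin m → T) :=
  e₀.symm.trans ((MulAut.conjNormal h : N ≃* N).trans e₀)

theorem psi_apply (h : H) (n : N) :
    psi H N e₀ h (e₀ n) = e₀ ⟨h * n * h⁻¹, hNn.conj_mem _ n.2 h⟩ := by
  change e₀ ((MulAut.conjNormal h : N ≃* N) (e₀.symm (e₀ n))) = _
  rw [MulEquiv.symm_apply_apply]
  congr 1

theorem psi_mul (h₁ h₂ : H) (x : Fin m → T) :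
    psi H N e₀ (h₁ * h₂) x = psi H N e₀ h₁ (psi H N e₀ h₂ x) := by
  obtain ⟨n, rfl⟩ := e₀.surjective x
  rw [psi_apply, psi_apply, psi_apply]
  congr 1

theorem psi_coe (n : N) (x : Fin m → T) :
    psi H N e₀ (n : H) x = MulAut.conj (e₀ n) x := by
  obtain ⟨n', rfl⟩ := e₀.surjective x
  rw [psi_apply, MulAut.conj_apply, ← map_inv, ← map_mul, ← map_mul]
  congr 1

end Setup

section Main

variable {α : Type*} [Finite α] (H : Subgroup (Equiv.Perm α))
  (N : Subgroup H) [hNn : N.Normal]
  {T : Type} [Group T] [IsSimpleGroup T] {m : ℕ} (e₀ : N ≃* (Fin m → T))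

omit [Finite α] in
/-- The group `H` permutes the `m` coordinates transitively. -/
theorem exists_compat_of_all
    (hmin : ∀ M : Subgroup H, M.Normal → M ≤ N → M = ⊥ ∨ M = N) (hT : ¬ IsMulCommutative T)
    (i j : Fin m) :
    ∃ h : H, ∃ σ : Fin m → Fin m, Compat (psi H N e₀ h) σ ∧ σ i = j := by
  classical
  obtain ⟨t₁, ht₁⟩ := exists_ne (1 : T)
  let O : Set (Fin m) := {j | ∃ h : H, ∃ σ : Fin m → Fin m, Compat (psi H N e₀ h) σ ∧ σ i = j}
  have hiO : i ∈ O := by
    refine ⟨1, id, ?_, rfl⟩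
    have h1 : ∀ x, psi H N e₀ 1 x = MulAut.conj (e₀ (1 : N)) x := fun x => psi_coe H N e₀ 1 x
    exact (compat_conj (e₀ (1 : N))).congr h1
  let Q : Subgroup H :=
    { carrier := {h | ∃ hn : h ∈ N, ∀ j, j ∉ O → e₀ ⟨h, hn⟩ j = 1}
      mul_mem' := by
        rintro a b ⟨ha, ha'⟩ ⟨hb, hb'⟩
        refine ⟨N.mul_mem ha hb, fun j hj => ?_⟩
        have : (⟨a * b, N.mul_mem ha hb⟩ : N) = ⟨a, ha⟩ * ⟨b, hb⟩ := rfl
        rw [this, map_mul, Pi.mul_apply, ha' j hj, hb' j hj, mul_one]
      one_mem' := by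
        refine ⟨N.one_mem, fun j _ => ?_⟩
        have : (⟨1, N.one_mem⟩ : N) = 1 := rfl
        rw [this, map_one, Pi.one_apply]
      inv_mem' := by
        rintro a ⟨ha, ha'⟩
        refine ⟨N.inv_mem ha, fun j hj => ?_⟩
        have : (⟨a⁻¹, N.inv_mem ha⟩ : N) = (⟨a, ha⟩ : N)⁻¹ := rfl
        rw [this, map_inv, Pi.inv_apply, ha' j hj, inv_one] }
  have hQn : Q.Normal := by
    refine ⟨?_⟩
    rintro q ⟨hq, hq'⟩ h
    refine ⟨hNn.conj_mem q hq h, fun j hj => ?_⟩
    rw [← psi_apply H N e₀ h ⟨q, hq⟩]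
    obtain ⟨σ, hσb, hσ⟩ := exists_compat hT (psi H N e₀ h)
    obtain ⟨i', rfl⟩ := hσb.2 j
    rw [← hσ]
    apply hq'
    rintro ⟨h', σ', hc', hi'⟩
    apply hj
    refine ⟨h * h', σ ∘ σ', ?_, ?_⟩
    · exact (hc'.comp hσ).congr (fun x => psi_mul H N e₀ h h' x)
    · rw [Function.comp_apply, hi']
  have hQle : Q ≤ N := by
    rintro q ⟨hq, -⟩
    exact hq
  have hQne : Q ≠ ⊥ := by
    intro hQ
    have hmem : ((e₀.symm (Pi.mulSingle i t₁) : N) : H) ∈ Q := by
      refine ⟨(e₀.symm (Pi.mulSingle i t₁)).2, fun j hj => ?_⟩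
      rw [Subtype.coe_eta, MulEquiv.apply_symm_apply]
      apply Pi.mulSingle_eq_of_ne
      rintro rfl
      exact hj hiO
    rw [hQ, Subgroup.mem_bot] at hmem
    have h2 : e₀.symm (Pi.mulSingle i t₁) = 1 := Subtype.ext hmem
    rw [map_eq_one_iff e₀.symm e₀.symm.injective] at h2
    apply ht₁
    have := congrFun h2 i
    simpa using this
  have hQN : Q = N := (hmin Q hQn hQle).resolve_left hQne
  have hjO : j ∈ O := by
    by_contra hj
    have hmem : ((e₀.symm (Pi.mulSingle j t₁) : N) : H) ∈ Q := by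
      rw [hQN]
      exact (e₀.symm (Pi.mulSingle j t₁)).2
    obtain ⟨hn, hn'⟩ := hmem
    have := hn' j hj
    rw [Subtype.coe_eta, MulEquiv.apply_symm_apply, Pi.mulSingle_eq_same] at this
    exact ht₁ this
  exact hjO

end Main

section Final

theorem main {α : Type*} [Finite α] (H : Subgroup (Equiv.Perm α)) [MulAction.IsPreprimitive H α]
    (N : Subgroup H) [hNn : N.Normal] (hN : N ≠ ⊥)
    (hmin : ∀ M : Subgroup H, M.Normal → M ≤ N → M = ⊥ ∨ M = N)
    (hnab : ¬ IsMulCommutative N) (a : α) :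
    ∃ (T : Type) (_ : Group T) (m : ℕ) (e : N ≃* (Fin m → T)), IsSimpleGroup T ∧
      ¬ IsMulCommutative T ∧ 0 < m ∧
      ((∃ K : Fin m → Subgroup T, (∀ i, K i ≠ ⊤) ∧
          ∀ n : N, (n : H) ∈ MulAction.stabilizer H a ↔ ∀ i, e n i ∈ K i) ∨
        (∃ (k : ℕ) (c : Fin m → Fin m), 2 ≤ k ∧
          (∀ j : Fin m, Nat.card {i : Fin m // c i = j} = k ∨
            Nat.card {i : Fin m // c i = j} = 0) ∧
          ∀ n : N, (n : H) ∈ MulAction.stabilizer H a ↔
            ∀ i j : Fin m, c i = c j → e n i = e n j)) := by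
  classical
  obtain ⟨T, instT, m, hTs, hm, ⟨e₀⟩⟩ := Cfsg.Agent.S0721.result N hN hmin
  have hT : ¬ IsMulCommutative T := by
    intro hc
    apply hnab
    refine ⟨⟨fun x y => ?_⟩⟩
    apply e₀.injective
    rw [map_mul, map_mul]
    funext i
    exact hc.is_comm.comm (e₀ x i) (e₀ y i)
  obtain ⟨t₁, ht₁⟩ := exists_ne (1 : T)
  -- `N` is transitive
  have hNtr : MulAction.IsPretransitive N α := by
    apply MulAction.IsQuasiPreprimitive.isPretransitive_of_normal (G := H)
    intro hfix
    apply hN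
    rw [Subgroup.eq_bot_iff_forall]
    intro n hn
    apply Subtype.ext
    apply Equiv.ext
    intro b
    have hb : b ∈ MulAction.fixedPoints N α := by
      rw [hfix]
      trivial
    exact hb ⟨n, hn⟩
  -- the point stabiliser permutes the coordinates transitively
  have hKtr : ∀ i j : Fin m, ∃ k : H, k ∈ MulAction.stabilizer H a ∧
      ∃ σ : Fin m → Fin m, Compat (psi H N e₀ k) σ ∧ σ i = j := by
    intro i j
    obtain ⟨h, σ, hσ, hij⟩ := exists_compat_of_all H N e₀ hmin hT i j
    obtain ⟨n, hn⟩ := MulAction.exists_smul_eq N a (h • a)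
    refine ⟨((n⁻¹ : N) : H) * h, ?_, σ, ?_, hij⟩
    · rw [MulAction.mem_stabilizer_iff, mul_smul, ← hn]
      exact inv_smul_smul n a
    · have h1 : Compat (psi H N e₀ ((n⁻¹ : N) : H)) id :=
        (compat_conj (e₀ n⁻¹)).congr (psi_coe H N e₀ n⁻¹)
      exact (hσ.comp h1).congr (fun x => psi_mul H N e₀ _ h x)
  -- the image `D` of the stabiliser
  let D : Subgroup (Fin m → T) := ((MulAction.stabilizer H a).subgroupOf N).map e₀.toMonoidHom
  have hD : ∀ n : N, e₀ n ∈ D ↔ (n : H) ∈ MulAction.stabilizer H a := by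
    intro n
    constructor
    · rintro ⟨n', hn', hnn'⟩
      have : n' = n := e₀.injective hnn'
      rw [← this]
      exact hn'
    · intro hn
      exact ⟨n, hn, rfl⟩
  have hDinv : ∀ k ∈ MulAction.stabilizer H a, ∀ x ∈ D, psi H N e₀ k x ∈ D := by
    rintro k hk _ ⟨n, hn, rfl⟩
    change psi H N e₀ k (e₀ n) ∈ D
    rw [psi_apply, hD]
    exact (MulAction.stabilizer H a).mul_mem ((MulAction.stabilizer H a).mul_mem hk hn)
      ((MulAction.stabilizer H a).inv_mem hk)
  have hDinv' : ∀ k ∈ MulAction.stabilizer H a, ∀ x, psi H N e₀ k x ∈ D → x ∈ D := by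
    intro k hk x hx
    have h1 := hDinv k⁻¹ ((MulAction.stabilizer H a).inv_mem hk) _ hx
    rw [← psi_mul, inv_mul_cancel] at h1
    have h2 : psi H N e₀ 1 x = x := by
      have := psi_coe H N e₀ 1 x
      rw [map_one, MulAut.conj_apply, one_mul, inv_one, mul_one] at this
      exact this
    rw [h2] at h1
    exact h1
  -- fullness of the projections is independent of the coordinate
  have hfull : ∀ i j : Fin m, (∀ t, ∃ x ∈ D, x i = t) → ∀ u, ∃ x ∈ D, x j = u := by
    intro i j hi u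
    obtain ⟨k, hk, σ, hσ, hij⟩ := hKtr i j
    obtain ⟨d, hd, hdi⟩ := hi (((psi H N e₀ k).symm (Pi.mulSingle j u)) i)
    refine ⟨psi H N e₀ k d, hDinv k hk d hd, ?_⟩
    have h1 := (hσ.eq_iff d ((psi H N e₀ k).symm (Pi.mulSingle j u)) i).mp hdi
    rw [MulEquiv.apply_symm_apply, hij, Pi.mulSingle_eq_same] at h1
    exact h1
  refine ⟨T, instT, m, ?_⟩
  by_cases hall : ∀ t, ∃ x ∈ D, x (⟨0, hm⟩ : Fin m) = t
  · -- diagonal case
    have hsub : ∀ i t, ∃ x ∈ D, x i = t := fun i => hfull ⟨0, hm⟩ i hall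
    obtain ⟨φ, hφ⟩ := mem_iff_of_subdirect hT D hsub
    have hφrep : ∀ i t, φ (rep D i) t = t := by
      intro i t
      obtain ⟨x, hx, hxt⟩ := hsub (rep D i) t
      have := (hφ x).mp hx (rep D i)
      rw [rep_rep, hxt] at this
      exact this.symm
    -- compatible permutations preserve the equivalence relation
    have hrel : ∀ k ∈ MulAction.stabilizer H a, ∀ σ : Fin m → Fin m, Compat (psi H N e₀ k) σ →
        ∀ i i', Rel D i i' ↔ Rel D (σ i) (σ i') := by
      intro k hk σ hσ i i'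
      constructor
      · intro h x hx
        obtain ⟨y, rfl⟩ := (psi H N e₀ k).surjective x
        have hy : y ∈ D := hDinv' k hk y hx
        rw [← hσ y i, ← hσ y i']
        exact h y hy
      · intro h y hy
        rw [hσ y i, hσ y i']
        exact h _ (hDinv k hk y hy)
    have hcard : ∀ i₁ : Fin m, Nat.card {i : Fin m // rep D i = rep D i₁}
        = Nat.card {i : Fin m // rep D i = rep D ⟨0, hm⟩} := by
      intro i₁
      obtain ⟨k, hk, σ, hσ, hij⟩ := hKtr ⟨0, hm⟩ i₁
      have hb := hσ.bijective hT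
      symm
      apply Nat.card_congr
      refine Equiv.subtypeEquiv (Equiv.ofBijective σ hb) (fun i => ?_)
      rw [Equiv.ofBijective_apply, rep_eq_iff, rep_eq_iff, hrel k hk σ hσ i ⟨0, hm⟩, hij]
    refine ⟨e₀.trans (MulEquiv.piCongrRight (fun i => (φ i).symm)), hTs, hT, hm,
      Or.inr ⟨Nat.card {i : Fin m // rep D i = rep D ⟨0, hm⟩}, rep D, ?_, ?_, ?_⟩⟩
    · -- blocks have size at least two
      by_contra hlt
      push Not at hlt
      have hsing : ∀ i₁ : Fin m, Subsingleton {i : Fin m // rep D i = rep D i₁} := by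
        intro i₁
        rw [← Finite.card_le_one_iff_subsingleton, hcard i₁]
        omega
      have hrepid : ∀ i : Fin m, rep D i = i := by
        intro i
        have := (hsing i).elim ⟨rep D i, rep_rep D i⟩ ⟨i, rfl⟩
        exact congrArg Subtype.val this
      have hDtop : ∀ x : Fin m → T, x ∈ D := by
        intro x
        rw [hφ x]
        intro i
        have := hφrep i (x i)
        rw [hrepid i] at this ⊢
        exact this.symm
      have hfixa : ∀ n : N, (n : H) • a = a := by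
        intro n
        have := (hD n).mp (hDtop (e₀ n))
        exact MulAction.mem_stabilizer_iff.mp this
      have hall_eq : ∀ b : α, b = a := by
        intro b
        obtain ⟨n, hn⟩ := MulAction.exists_smul_eq N a b
        rw [← hn]
        exact hfixa n
      apply hN
      rw [Subgroup.eq_bot_iff_forall]
      intro n hn
      apply Subtype.ext
      apply Equiv.ext
      intro b
      rw [hall_eq b]
      exact hfixa ⟨n, hn⟩
    · intro j
      by_cases hj : ∃ i₁, rep D i₁ = j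
      · left
        obtain ⟨i₁, rfl⟩ := hj
        exact hcard i₁
      · right
        push Not at hj
        have : IsEmpty {i : Fin m // rep D i = j} := ⟨fun x => hj x.1 x.2⟩
        exact Nat.card_of_isEmpty
    · intro n
      rw [← hD n, hφ (e₀ n)]
      have he : ∀ i, (e₀.trans (MulEquiv.piCongrRight (fun i => (φ i).symm))) n i
          = (φ i).symm (e₀ n i) := fun i => rfl
      constructor
      · intro h i j hij
        rw [he, he, h i, h j, MulEquiv.symm_apply_apply, MulEquiv.symm_apply_apply, hij]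
      · intro h i
        have h1 := h i (rep D i) (rep_rep D i).symm
        rw [he, he] at h1
        have h2 : (φ (rep D i)).symm (e₀ n (rep D i)) = e₀ n (rep D i) := by
          rw [MulEquiv.symm_apply_eq, hφrep]
        rw [h2, MulEquiv.symm_apply_eq] at h1
        exact h1
  · -- product case
    have hnot : ∀ i, ¬ ∀ t, ∃ x ∈ D, x i = t := fun i hi => hall (hfull i ⟨0, hm⟩ hi)
    let R : Fin m → Subgroup T := fun i => D.map (Pi.evalMonoidHom (fun _ => T) i)
    have hR : ∀ i t, t ∈ R i ↔ ∃ x ∈ D, x i = t := fun i t => Iff.rfl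
    let X : Subgroup H :=
      { carrier := {h | ∃ hn : h ∈ N, ∀ i, e₀ ⟨h, hn⟩ i ∈ R i}
        mul_mem' := by
          rintro p q ⟨hp, hp'⟩ ⟨hq, hq'⟩
          refine ⟨N.mul_mem hp hq, fun i => ?_⟩
          have : (⟨p * q, N.mul_mem hp hq⟩ : N) = ⟨p, hp⟩ * ⟨q, hq⟩ := rfl
          rw [this, map_mul, Pi.mul_apply]
          exact (R i).mul_mem (hp' i) (hq' i)
        one_mem' := by
          refine ⟨N.one_mem, fun i => ?_⟩
          have : (⟨1, N.one_mem⟩ : N) = 1 := rfl
          rw [this, map_one, Pi.one_apply]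
          exact (R i).one_mem
        inv_mem' := by
          rintro p ⟨hp, hp'⟩
          refine ⟨N.inv_mem hp, fun i => ?_⟩
          have : (⟨p⁻¹, N.inv_mem hp⟩ : N) = (⟨p, hp⟩ : N)⁻¹ := rfl
          rw [this, map_inv, Pi.inv_apply]
          exact (R i).inv_mem (hp' i) }
    have hXle : X ≤ N := by
      rintro q ⟨hq, -⟩
      exact hq
    have hKX : MulAction.stabilizer H a ⊓ N ≤ X := by
      rintro q ⟨hqK, hqN⟩
      refine ⟨hqN, fun i => ?_⟩
      exact ⟨e₀ ⟨q, hqN⟩, (hD ⟨q, hqN⟩).mpr hqK, rfl⟩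
    have hconj : ∀ k ∈ MulAction.stabilizer H a, ∀ q ∈ X, k * q * k⁻¹ ∈ X := by
      rintro k hk q ⟨hq, hq'⟩
      refine ⟨hNn.conj_mem q hq k, fun j => ?_⟩
      rw [← psi_apply H N e₀ k ⟨q, hq⟩]
      obtain ⟨σ, hσb, hσ⟩ := exists_compat hT (psi H N e₀ k)
      obtain ⟨i, rfl⟩ := hσb.2 j
      obtain ⟨d, hd, hdi⟩ := hq' i
      have h1 := (hσ.eq_iff d (e₀ ⟨q, hq⟩) i).mp hdi
      rw [← h1]
      exact ⟨psi H N e₀ k d, hDinv k hk d hd, rfl⟩
    have hnorm : MulAction.stabilizer H a ≤ Subgroup.normalizer (X : Set H) := by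
      intro k hk
      rw [Subgroup.mem_normalizer_iff]
      intro q
      constructor
      · exact hconj k hk q
      · intro h
        have h1 := hconj k⁻¹ ((MulAction.stabilizer H a).inv_mem hk) _ h
        have h2 : k⁻¹ * (k * q * k⁻¹) * k⁻¹⁻¹ = q := by group
        rw [h2] at h1
        exact h1
    rcases Cfsg.Agent.S0722.result H N hN hmin a X hXle hKX hnorm with hX | hX
    · refine ⟨e₀, hTs, hT, hm, Or.inl ⟨R, ?_, ?_⟩⟩
      · intro i htop
        apply hnot i
        intro t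
        have : t ∈ R i := by
          rw [htop]
          exact Subgroup.mem_top t
        exact this
      · intro n
        constructor
        · intro hn
          have : (n : H) ∈ X := hKX ⟨hn, n.2⟩
          obtain ⟨hn', hn''⟩ := this
          exact hn''
        · intro h
          have : (n : H) ∈ X := ⟨n.2, h⟩
          rw [hX] at this
          exact this.1
    · exfalso
      have hnot0 := hnot ⟨0, hm⟩
      push Not at hnot0
      obtain ⟨t, ht⟩ := hnot0
      have hmem : ((e₀.symm (Pi.mulSingle ⟨0, hm⟩ t) : N) : H) ∈ X := by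
        rw [hX]
        exact (e₀.symm (Pi.mulSingle ⟨0, hm⟩ t)).2
      obtain ⟨hn, hn'⟩ := hmem
      obtain ⟨x, hx, hxt⟩ := hn' ⟨0, hm⟩
      rw [Subtype.coe_eta, MulEquiv.apply_symm_apply, Pi.mulSingle_eq_same] at hxt
      exact ht x hx hxt

end Final

end Cfsg.Agent.Lib.Helper13_ONanScott
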