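import Mathlib
import Cfsg.Agent.Lib.Helper44_OmegaAll
import Cfsg.Agent.Lib.Helper44_Scaling

set_option autoImplicit false

/-!
Involutions of orthogonal groups in characteristic two (helper44): an isometry `t` with `t² = 1` lies in `Ω` iff
`t - 1` has even rank.  Proof: if `im (t-1)` contains a non-singular vector `w`, then `r_w t` is again an involution
(or `1`), of rank one less; otherwise `im (t-1)` is totally singular, and multiplying by a Siegel transformation
(a product of four reflections) lowers the rank by two.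
-/

namespace Cfsg.Agent.Lib.Helper44_Inv2

open Cfsg Matrix Module Cfsg.Agent.Lib.Helper44_Orth Cfsg.Agent.Lib.Helper44_Refl
  Cfsg.Agent.Lib.Helper44_Spinor Cfsg.Agent.Lib.Helper44_ReflProd Cfsg.Agent.Lib.Helper44_Eichler
  Cfsg.Agent.Lib.Helper44_CD2 Cfsg.Agent.Lib.Helper14_CartanDieudonne

variable {ι : Type} [Fintype ι] [DecidableEq ι] {F : Type*} [Field F]

/-! ### Kernels and ranks -/

omit [DecidableEq ι] in
theorem rank_add_finrank_ker (A : Matrix ι ι F) :
    A.rank + finrank F (LinearMap.ker A.mulVecLin) = Fintype.card ι := by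
  have := LinearMap.finrank_range_add_finrank_ker A.mulVecLin
  rw [Matrix.rank]
  simpa using this

omit [DecidableEq ι] in
/-- If `ker A' = ker A ⊕ ⟨x₀⟩` then `rank A' + 1 = rank A`. -/
theorem rank_succ_of_ker {A A' : Matrix ι ι F} {x₀ : ι → F}
    (h1 : ∀ y, A' *ᵥ y = 0 ↔ ∃ c : F, A *ᵥ (y - c • x₀) = 0) (hx₀ : A *ᵥ x₀ ≠ 0) :
    A'.rank + 1 = A.rank := by
  have hker : LinearMap.ker A'.mulVecLin = LinearMap.ker A.mulVecLin ⊔ Submodule.span F {x₀} := by
    ext y
    rw [LinearMap.mem_ker, Matrix.mulVecLin_apply, h1, Submodule.mem_sup]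
    constructor
    · rintro ⟨c, hc⟩
      refine ⟨y - c • x₀, ?_, c • x₀, Submodule.smul_mem _ _ (Submodule.mem_span_singleton_self x₀), ?_⟩
      · rw [LinearMap.mem_ker, Matrix.mulVecLin_apply]; exact hc
      · abel
    · rintro ⟨u, hu, v, hv, rfl⟩
      obtain ⟨c, rfl⟩ := Submodule.mem_span_singleton.mp hv
      refine ⟨c, ?_⟩
      rw [LinearMap.mem_ker, Matrix.mulVecLin_apply] at hu
      rw [add_sub_cancel_right]
      exact hu
  have hx0 : x₀ ≠ 0 := by
    rintro rfl
    apply hx₀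
    simp
  have hinf : LinearMap.ker A.mulVecLin ⊓ Submodule.span F {x₀} = ⊥ := by
    rw [eq_bot_iff]
    rintro y ⟨hy1, hy2⟩
    obtain ⟨c, rfl⟩ := Submodule.mem_span_singleton.mp hy2
    rw [SetLike.mem_coe, LinearMap.mem_ker, Matrix.mulVecLin_apply, Matrix.mulVec_smul] at hy1
    rcases smul_eq_zero.mp hy1 with h | h
    · rw [h, zero_smul]; exact Submodule.zero_mem _
    · exact absurd h hx₀
  have h2 := Submodule.finrank_sup_add_finrank_inf_eq (LinearMap.ker A.mulVecLin)
    (Submodule.span F {x₀})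
  rw [hinf, finrank_bot, add_zero, finrank_span_singleton hx0, ← hker] at h2
  have h3 := rank_add_finrank_ker A
  have h4 := rank_add_finrank_ker A'
  omega

omit [DecidableEq ι] in
/-- If `ker A'' = ker A ⊕ ⟨x, y⟩` then `rank A'' + 2 = rank A`. -/
theorem rank_add_two_of_ker {A A'' : Matrix ι ι F} {x y : ι → F}
    (h1 : ∀ z, A'' *ᵥ z = 0 ↔ ∃ c d : F, A *ᵥ (z - c • x - d • y) = 0)
    (hind : ∀ c d : F, A *ᵥ (c • x + d • y) = 0 → c = 0 ∧ d = 0) :
    A''.rank + 2 = A.rank := by
  have hker : LinearMap.ker A''.mulVecLin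
      = LinearMap.ker A.mulVecLin ⊔ Submodule.span F (Set.range ![x, y]) := by
    ext z
    rw [LinearMap.mem_ker, Matrix.mulVecLin_apply, h1, Submodule.mem_sup]
    constructor
    · rintro ⟨c, d, hc⟩
      refine ⟨z - c • x - d • y, ?_, c • x + d • y, ?_, ?_⟩
      · rw [LinearMap.mem_ker, Matrix.mulVecLin_apply]; exact hc
      · apply Submodule.add_mem
        · exact Submodule.smul_mem _ _ (Submodule.subset_span ⟨0, rfl⟩)
        · exact Submodule.smul_mem _ _ (Submodule.subset_span ⟨1, rfl⟩)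
      · abel
    · rintro ⟨u, hu, v, hv, rfl⟩
      rw [Submodule.mem_span_range_iff_exists_fun] at hv
      obtain ⟨cf, rfl⟩ := hv
      refine ⟨cf 0, cf 1, ?_⟩
      rw [LinearMap.mem_ker, Matrix.mulVecLin_apply] at hu
      simp only [Fin.sum_univ_two, Matrix.cons_val_zero, Matrix.cons_val_one]
      have : u + (cf 0 • x + cf 1 • y) - cf 0 • x - cf 1 • y = u := by abel
      rw [this]
      exact hu
  have hli : LinearIndependent F ![x, y] := by
    rw [LinearIndependent.pair_iff]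
    intro s t hst
    apply hind
    rw [hst]
    simp
  have hinf : LinearMap.ker A.mulVecLin ⊓ Submodule.span F (Set.range ![x, y]) = ⊥ := by
    rw [eq_bot_iff]
    rintro z ⟨hz1, hz2⟩
    rw [SetLike.mem_coe, Submodule.mem_span_range_iff_exists_fun] at hz2
    obtain ⟨cf, rfl⟩ := hz2
    rw [SetLike.mem_coe, LinearMap.mem_ker, Matrix.mulVecLin_apply] at hz1
    simp only [Fin.sum_univ_two, Matrix.cons_val_zero, Matrix.cons_val_one] at hz1 ⊢
    obtain ⟨h0, h1'⟩ := hind _ _ hz1
    rw [h0, h1', zero_smul, zero_smul, add_zero]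
    exact Submodule.zero_mem _
  have h2 := Submodule.finrank_sup_add_finrank_inf_eq (LinearMap.ker A.mulVecLin)
    (Submodule.span F (Set.range ![x, y]))
  rw [hinf, finrank_bot, add_zero, finrank_span_eq_card hli, ← hker] at h2
  simp only [Fintype.card_fin] at h2
  have h3 := rank_add_finrank_ker A
  have h4 := rank_add_finrank_ker A''
  omega

/-! ### Basic identities for an involutory isometry -/

section basic

variable (Q : QuadraticForm F (ι → F)) {T : Matrix ι ι F}

theorem TT_apply (hTT : T * T = 1) (x : ι → F) : T *ᵥ (T *ᵥ x) = x := by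
  rw [Matrix.mulVec_mulVec, hTT, Matrix.one_mulVec]

theorem N_apply (x : ι → F) : (T - 1) *ᵥ x = T *ᵥ x - x := by
  rw [Matrix.sub_mulVec, Matrix.one_mulVec]

theorem polar_T_left (hT : IsIsom Q T) (hTT : T * T = 1) (x y : ι → F) :
    QuadraticMap.polar (⇑Q) (T *ᵥ x) y = QuadraticMap.polar (⇑Q) x (T *ᵥ y) := by
  have := hT.polar x (T *ᵥ y)
  rw [TT_apply hTT] at this
  exact this

theorem polar_N_left (hT : IsIsom Q T) (hTT : T * T = 1) (x y : ι → F) :
    QuadraticMap.polar (⇑Q) ((T - 1) *ᵥ x) y = QuadraticMap.polar (⇑Q) x ((T - 1) *ᵥ y) := by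
  rw [N_apply, N_apply, QuadraticMap.polar_sub_left, QuadraticMap.polar_sub_right,
    polar_T_left Q hT hTT x y]

theorem N_N_apply (h2 : (2 : F) = 0) (hTT : T * T = 1) (x : ι → F) :
    (T - 1) *ᵥ ((T - 1) *ᵥ x) = 0 := by
  rw [N_apply, N_apply, Matrix.mulVec_sub, TT_apply hTT x]
  have : x - T *ᵥ x - (T *ᵥ x - x) = (2 : F) • (x - T *ᵥ x) := by
    rw [two_smul]; abel
  rw [this, h2, zero_smul]

theorem Q_N (h2 : (2 : F) = 0) (hT : IsIsom Q T) (x : ι → F) :
    Q ((T - 1) *ᵥ x) = QuadraticMap.polar (⇑Q) ((T - 1) *ᵥ x) x := by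
  rw [N_apply, map_sub_eq Q (T *ᵥ x) x, hT x, QuadraticMap.polar_sub_left,
    Helper44_Refl.polar_self Q x, h2, zero_mul, sub_zero, QuadraticMap.polar_comm]
  have : Q x + Q x = (2 : F) * Q x := by ring
  rw [this, h2, zero_mul, zero_sub]
  have h3 : -QuadraticMap.polar (⇑Q) (T *ᵥ x) x
      = QuadraticMap.polar (⇑Q) (T *ᵥ x) x - (2 : F) * QuadraticMap.polar (⇑Q) (T *ᵥ x) x := by ring
  rw [h3, h2, zero_mul, sub_zero]

theorem polar_N_N (h2 : (2 : F) = 0) (hT : IsIsom Q T) (hTT : T * T = 1) (x y : ι → F) :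
    QuadraticMap.polar (⇑Q) ((T - 1) *ᵥ x) ((T - 1) *ᵥ y) = 0 := by
  rw [polar_N_left Q hT hTT, N_N_apply h2 hTT, QuadraticMap.polar_zero_right]

end basic

/-! ### Step A: removing a non-singular vector of the image -/

theorem stepA (Q : QuadraticForm F (ι → F)) (h2 : (2 : F) = 0) {T : Matrix ι ι F}
    (hT : IsIsom Q T) (hTT : T * T = 1) (x₀ : ι → F) (hw : Q ((T - 1) *ᵥ x₀) ≠ 0) :
    IsIsom Q (Cfsg.reflectionMatrix (⇑Q) ((T - 1) *ᵥ x₀) * T) ∧
    (Cfsg.reflectionMatrix (⇑Q) ((T - 1) *ᵥ x₀) * T)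
      * (Cfsg.reflectionMatrix (⇑Q) ((T - 1) *ᵥ x₀) * T) = 1 ∧
    (Cfsg.reflectionMatrix (⇑Q) ((T - 1) *ᵥ x₀) * T - 1).rank + 1 = (T - 1).rank := by
  set w := (T - 1) *ᵥ x₀ with hw'
  set R := Cfsg.reflectionMatrix (⇑Q) w with hR
  have hTw : T *ᵥ w = w := by
    have := N_N_apply h2 hTT x₀
    rw [← hw', N_apply] at this
    exact sub_eq_zero.mp this
  have hpw : ∀ y, QuadraticMap.polar (⇑Q) w (T *ᵥ y) = QuadraticMap.polar (⇑Q) w y := by
    intro y
    have := hT.polar w y
    rw [hTw] at this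
    exact this
  have hcomm : R * T = T * R := by
    apply matrix_ext_mulVec
    intro y
    rw [← Matrix.mulVec_mulVec, ← Matrix.mulVec_mulVec, hR, reflectionMatrix_mulVec,
      reflectionMatrix_mulVec, Matrix.mulVec_sub, Matrix.mulVec_smul, hTw, hpw]
  refine ⟨(isIsom_refl Q hw).mul hT, ?_, ?_⟩
  · calc R * T * (R * T) = R * (T * R) * T := by simp only [Matrix.mul_assoc]
      _ = R * (R * T) * T := by rw [hcomm]
      _ = (R * R) * (T * T) := by simp only [Matrix.mul_assoc]
      _ = 1 := by rw [hR, reflectionMatrix_mul_self Q hw, hTT, Matrix.one_mul]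
  · have hQw : QuadraticMap.polar (⇑Q) w x₀ = Q w := (Q_N Q h2 hT x₀).symm
    have hA' : ∀ y, (R * T - 1) *ᵥ y
        = (T - 1) *ᵥ y - ((Q w)⁻¹ * QuadraticMap.polar (⇑Q) w y) • w := by
      intro y
      rw [Matrix.sub_mulVec, Matrix.one_mulVec, ← Matrix.mulVec_mulVec, hR, reflectionMatrix_mulVec,
        hpw, N_apply]
      abel
    apply rank_succ_of_ker (x₀ := x₀)
    · intro y
      rw [hA']
      constructor
      · intro h
        refine ⟨(Q w)⁻¹ * QuadraticMap.polar (⇑Q) w y, ?_⟩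
        rw [Matrix.mulVec_sub, Matrix.mulVec_smul, ← hw']
        exact h
      · rintro ⟨c, hc⟩
        rw [Matrix.mulVec_sub, Matrix.mulVec_smul, ← hw', sub_eq_zero] at hc
        have h3 : QuadraticMap.polar (⇑Q) w y = c * Q w := by
          rw [hw', polar_N_left Q hT hTT, hc, QuadraticMap.polar_smul_right, smul_eq_mul, ← hw',
            QuadraticMap.polar_comm, hQw]
        rw [hc, h3, sub_eq_zero]
        congr 1
        field_simp
    · rw [← hw']
      intro h0
      apply hw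
      rw [h0, map_zero]

/-! ### Step B: totally singular image, lowering the rank by two with a Siegel transformation -/

theorem stepB (Q : QuadraticForm F (ι → F)) (h2 : (2 : F) = 0) {T : Matrix ι ι F}
    (hT : IsIsom Q T) (hTT : T * T = 1) (hts : ∀ x, Q ((T - 1) *ᵥ x) = 0) (x y : ι → F)
    (hxy : QuadraticMap.polar (⇑Q) ((T - 1) *ᵥ x) y = 1) {S : Matrix ι ι F} (hS : IsIsom Q S)
    (hSx : ∀ z, S *ᵥ z = z + QuadraticMap.polar (⇑Q) z ((T - 1) *ᵥ y) • ((T - 1) *ᵥ x)
      - QuadraticMap.polar (⇑Q) z ((T - 1) *ᵥ x) • ((T - 1) *ᵥ y)) :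
    IsIsom Q (S * T) ∧ (S * T) * (S * T) = 1 ∧ (∀ z, Q ((S * T - 1) *ᵥ z) = 0) ∧
      (S * T - 1).rank + 2 = (T - 1).rank := by
  set a := (T - 1) *ᵥ x with ha
  set b := (T - 1) *ᵥ y with hb
  have hTa : T *ᵥ a = a := by
    have := N_N_apply h2 hTT x
    rw [← ha, N_apply] at this
    exact sub_eq_zero.mp this
  have hTb : T *ᵥ b = b := by
    have := N_N_apply h2 hTT y
    rw [← hb, N_apply] at this
    exact sub_eq_zero.mp this
  have hpa : ∀ z, QuadraticMap.polar (⇑Q) (T *ᵥ z) a = QuadraticMap.polar (⇑Q) z a := by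
    intro z
    have := hT.polar z a
    rw [hTa] at this
    exact this
  have hpb : ∀ z, QuadraticMap.polar (⇑Q) (T *ᵥ z) b = QuadraticMap.polar (⇑Q) z b := by
    intro z
    have := hT.polar z b
    rw [hTb] at this
    exact this
  -- the operator `M = S T - 1`
  have hM : ∀ z, (S * T - 1) *ᵥ z = (T - 1) *ᵥ (z + QuadraticMap.polar (⇑Q) z b • x
      - QuadraticMap.polar (⇑Q) z a • y) := by
    intro z
    rw [Matrix.sub_mulVec, Matrix.one_mulVec, ← Matrix.mulVec_mulVec, hSx, hpa, hpb,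
      Matrix.mulVec_sub, Matrix.mulVec_add, Matrix.mulVec_smul, Matrix.mulVec_smul, ← ha, ← hb,
      N_apply]
    abel
  have hNim : ∀ u v, QuadraticMap.polar (⇑Q) ((T - 1) *ᵥ u) ((T - 1) *ᵥ v) = 0 :=
    polar_N_N Q h2 hT hTT
  have hMM : ∀ z, (S * T - 1) *ᵥ ((S * T - 1) *ᵥ z) = 0 := by
    intro z
    rw [hM ((S * T - 1) *ᵥ z), hM z, ha, hb, hNim, hNim, zero_smul, zero_smul, add_zero, sub_zero,
      N_N_apply h2 hTT]
  have hbx : QuadraticMap.polar (⇑Q) b x = 1 := by
    rw [hb, polar_N_left Q hT hTT, ← ha, QuadraticMap.polar_comm]; exact hxy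
  have hax : QuadraticMap.polar (⇑Q) a x = 0 := by rw [ha, ← Q_N Q h2 hT, hts]
  have hby : QuadraticMap.polar (⇑Q) b y = 0 := by rw [hb, ← Q_N Q h2 hT, hts]
  refine ⟨hS.mul hT, ?_, ?_, ?_⟩
  · apply matrix_ext_mulVec
    intro z
    have e1 : ∀ u, (S * T) *ᵥ u = u + (S * T - 1) *ᵥ u := by
      intro u
      rw [Matrix.sub_mulVec, Matrix.one_mulVec]; abel
    rw [← Matrix.mulVec_mulVec, e1 ((S * T) *ᵥ z), e1 z, Matrix.mulVec_add, hMM, Matrix.one_mulVec,
      add_zero]
    have : z + (S * T - 1) *ᵥ z + (S * T - 1) *ᵥ z = z + (2 : F) • ((S * T - 1) *ᵥ z) := by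
      rw [two_smul]; abel
    rw [this, h2, zero_smul, add_zero]
  · intro z
    rw [hM, hts]
  · apply rank_add_two_of_ker (x := x) (y := y)
    · intro z
      rw [hM]
      constructor
      · intro h
        refine ⟨-QuadraticMap.polar (⇑Q) z b, QuadraticMap.polar (⇑Q) z a, ?_⟩
        rw [← h]
        congr 1
        rw [neg_smul]; abel
      · rintro ⟨c, d, hcd⟩
        have hNz : (T - 1) *ᵥ z = c • a + d • b := by
          rw [Matrix.mulVec_sub, Matrix.mulVec_sub, Matrix.mulVec_smul, Matrix.mulVec_smul,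
            ← ha, ← hb] at hcd
          rw [← sub_eq_zero, ← hcd]; abel
        have hzb : QuadraticMap.polar (⇑Q) z b = c := by
          rw [hb, ← polar_N_left Q hT hTT, hNz, QuadraticMap.polar_add_left,
            QuadraticMap.polar_smul_left, QuadraticMap.polar_smul_left, hxy, hby]
          simp
        have hza : QuadraticMap.polar (⇑Q) z a = d := by
          rw [ha, ← polar_N_left Q hT hTT, hNz, QuadraticMap.polar_add_left,
            QuadraticMap.polar_smul_left, QuadraticMap.polar_smul_left, hax, hbx]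
          simp
        rw [hzb, hza, Matrix.mulVec_sub, Matrix.mulVec_add, Matrix.mulVec_smul, Matrix.mulVec_smul,
          hNz, ← ha, ← hb]
        have : c • a + d • b + c • a - d • b = (2 : F) • (c • a) := by
          rw [two_smul]; abel
        rw [this, h2, zero_smul]
    · intro c d hcd
      rw [Matrix.mulVec_add, Matrix.mulVec_smul, Matrix.mulVec_smul, ← ha, ← hb] at hcd
      have h1 := congrArg (fun v => QuadraticMap.polar (⇑Q) v y) hcd
      have h3 := congrArg (fun v => QuadraticMap.polar (⇑Q) v x) hcd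
      simp only [QuadraticMap.polar_add_left, QuadraticMap.polar_smul_left, hxy, hby, hax, hbx,
        QuadraticMap.polar_zero_left, smul_eq_mul, mul_one, mul_zero, add_zero, zero_add] at h1 h3
      exact ⟨h1, h3⟩

/-! ### The inductions -/

/-- Involutions with totally singular image: even rank, and a product of an even number of reflections. -/
theorem typeA (Q : QuadraticForm F (ι → F)) (hQ : (QuadraticMap.polarBilin Q).Nondegenerate)
    (h2 : (2 : F) = 0) (hn : 5 ≤ Fintype.card ι) :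
    ∀ r : ℕ, ∀ T : Matrix ι ι F, IsIsom Q T → T * T = 1 → (∀ x, Q ((T - 1) *ᵥ x) = 0) →
      (T - 1).rank = r → Even r ∧ ∃ j d, IsReflProd Q T j d ∧ Even j := by
  intro r
  induction r using Nat.strong_induction_on with
  | _ r ih =>
    intro T hT hTT hts hr
    by_cases hN : ∀ x, (T - 1) *ᵥ x = 0
    · have hT1 : T - 1 = 0 := by
        apply matrix_ext_mulVec
        intro x
        rw [hN, Matrix.zero_mulVec]
      have hr0 : r = 0 := by rw [← hr, hT1, Matrix.rank_zero]
      have hTone : T = 1 := sub_eq_zero.mp hT1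
      rw [hr0, hTone]
      exact ⟨⟨0, rfl⟩, 0, 1, IsReflProd.one Q, ⟨0, rfl⟩⟩
    · push Not at hN
      obtain ⟨x, hx⟩ := hN
      obtain ⟨y₀, hy₀⟩ : ∃ y₀, QuadraticMap.polar (⇑Q) ((T - 1) *ᵥ x) y₀ ≠ 0 := by
        by_contra hcon
        push Not at hcon
        exact hx (hQ.1 _ (fun y => by rw [QuadraticMap.polarBilin_apply_apply]; exact hcon y))
      set y := (QuadraticMap.polar (⇑Q) ((T - 1) *ᵥ x) y₀)⁻¹ • y₀ with hy
      have hxy : QuadraticMap.polar (⇑Q) ((T - 1) *ᵥ x) y = 1 := by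
        rw [hy, QuadraticMap.polar_smul_right, smul_eq_mul, inv_mul_cancel₀ hy₀]
      set a := (T - 1) *ᵥ x with ha
      set b := (T - 1) *ᵥ y with hb
      have hQa : Q a = 0 := hts x
      have hQb : Q b = 0 := hts y
      have hab : QuadraticMap.polar (⇑Q) a b = 0 := polar_N_N Q h2 hT hTT x y
      -- an auxiliary non-singular vector orthogonal to `a` and `b`
      obtain ⟨y', hy'o, hy'⟩ := Cfsg.Agent.Lib.Helper44_Scaling.exists_nonsingular_orth Q hQ
        (Submodule.span F {a, b})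
        (by
          classical
          have h1 : finrank F (Submodule.span F ({a, b} : Set (ι → F))) ≤ 2 := by
            have h3 := finrank_span_finset_le_card (R := F) ({a, b} : Finset (ι → F))
            rw [Finset.coe_insert, Finset.coe_singleton] at h3
            exact h3.trans Finset.card_le_two
          omega)
      have hay' : QuadraticMap.polar (⇑Q) a y' = 0 :=
        (mem_orth Q _ y').mp hy'o a (Submodule.subset_span (by simp))
      have hby' : QuadraticMap.polar (⇑Q) b y' = 0 :=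
        (mem_orth Q _ y').mp hy'o b (Submodule.subset_span (by simp))
      have hQby' : Q (b - y') ≠ 0 := by
        rw [map_sub_eq Q b y', hQb, QuadraticMap.polar_comm, hby', zero_add, sub_zero]
        exact hy'
      obtain ⟨S, c, hSrefl, hSx⟩ := siegel_isReflProd Q hQa hQb hab hay' hy' hQby'
      obtain ⟨h1, h3, h4, h5⟩ := stepB Q h2 hT hTT hts x y hxy
        (Cfsg.Agent.Lib.Helper44_CD2.IsReflProd.isIsom hSrefl) hSx
      obtain ⟨hev, j, d, hjd, hj⟩ := ih ((S * T - 1).rank) (by omega) (S * T) h1 h3 h4 rfl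
      refine ⟨?_, 4 + j, c * d, IsReflProd.of_mul hSrefl hjd, ?_⟩
      · rw [← hr, ← h5]
        have h22 : Even 2 := ⟨1, rfl⟩
        exact hev.add h22
      · have h4 : Even 4 := ⟨2, rfl⟩
        exact h4.add hj

/-- **Main induction**: an involutory isometry is a product of `j` reflections with `j ≡ rank (T - 1)` mod 2. -/
theorem main (Q : QuadraticForm F (ι → F)) (hQ : (QuadraticMap.polarBilin Q).Nondegenerate)
    (h2 : (2 : F) = 0) (hn : 5 ≤ Fintype.card ι) :
    ∀ r : ℕ, ∀ T : Matrix ι ι F, IsIsom Q T → T * T = 1 → (T - 1).rank = r →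
      ∃ j d, IsReflProd Q T j d ∧ (Even j ↔ Even r) := by
  intro r
  induction r using Nat.strong_induction_on with
  | _ r ih =>
    intro T hT hTT hr
    by_cases hts : ∀ x, Q ((T - 1) *ᵥ x) = 0
    · obtain ⟨hev, j, d, hjd, hj⟩ := typeA Q hQ h2 hn r T hT hTT hts hr
      exact ⟨j, d, hjd, ⟨fun _ => hev, fun _ => hj⟩⟩
    · push Not at hts
      obtain ⟨x₀, hw⟩ := hts
      obtain ⟨h1, h3, h4⟩ := stepA Q h2 hT hTT x₀ hw
      obtain ⟨j, d, hjd, hj⟩ := ih _ (by omega) _ h1 h3 rfl
      refine ⟨1 + j, Q ((T - 1) *ᵥ x₀) * d, IsReflProd.of_mul (IsReflProd.refl Q hw) hjd, ?_⟩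
      rw [← hr, ← h4, Nat.even_add_one, add_comm, Nat.even_add_one, hj]

variable [Fintype F]

/-- **Involutions in `Ω`, characteristic two**: an isometry `t` with `t² = 1` lies in `Ω` iff `t - 1` has even
rank (dimension at least five). -/
theorem involution_mem_omega_iff (h2 : (2 : F) = 0) (Q : QuadraticForm F (ι → F))
    (hQ : (QuadraticMap.polarBilin Q).Nondegenerate) (hn : 5 ≤ Fintype.card ι)
    (t : ↥(Cfsg.isometryGroup F (⇑Q))) (ht : t * t = 1) :
    t ∈ Cfsg.Omega F (⇑Q) ↔
      Even (((t : Matrix.GeneralLinearGroup ι F) : Matrix ι ι F) - 1).rank := by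
  classical
  have hex : Fintype.card F ≠ 2 ∨ Fintype.card ι ≠ 4 := Or.inr (by omega)
  have hTT : ((t : Matrix.GeneralLinearGroup ι F) : Matrix ι ι F)
      * ((t : Matrix.GeneralLinearGroup ι F) : Matrix ι ι F) = 1 := by
    have := congrArg (fun g : ↥(Cfsg.isometryGroup F (⇑Q)) =>
      ((g : Matrix.GeneralLinearGroup ι F) : Matrix ι ι F)) ht
    exact this
  obtain ⟨j, d, ⟨vs, hvs, hprod, hlen, -⟩, hj⟩ := main Q hQ h2 hn _ _ (isIsom_of_mem Q t) hTT rfl
  have htp : t = (vs.map (reflT Q)).prod := by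
    apply Subtype.ext
    apply Units.ext
    rw [hprod, prod_reflT_coe Q vs hvs]
  rw [← hj, ← hlen]
  conv_lhs => rw [htp]
  exact Cfsg.Agent.Lib.Helper44_OmegaAll.prod_mem_omega_iff_even h2 Q hQ hex vs hvs

end Cfsg.Agent.Lib.Helper44_Inv2
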