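import Mathlib
import Cfsg.Prelude.Def_GeometricClasses
import Cfsg.Prelude.Def_Classical
import Cfsg.Agent.Lib.Helper44_Inv2

/-!
helper32: package OM2 of helper13's market (r = p = 2 cases of S5974 / S5990): in characteristic two an involutory
isometry lies in `omegaGL Q` iff `x - 1` has even rank (dimension at least 5).  Glue on
`Helper44_Inv2.involution_mem_omega_iff`.
-/

set_option autoImplicit false
open scoped MatrixGroups

namespace Cfsg.Agent.Lib.Helper32_OrthC2_OM2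

open Matrix Module

variable {ι : Type} [Fintype ι] [DecidableEq ι] {F : Type*} [Field F]

/-- OM2 -/
theorem OM2 [Fintype F] (h2 : (2 : F) = 0) (Q : QuadraticForm F (ι → F))
    (hQ : (QuadraticMap.polarBilin Q).Nondegenerate) (hn : 5 ≤ Fintype.card ι) (x : GL ι F)
    (hiso : ∀ v : ι → F, Q ((x : Matrix ι ι F) *ᵥ v) = Q v)
    (hxx : (x : Matrix ι ι F) * (x : Matrix ι ι F) = 1) :
    x ∈ Cfsg.Geo.omegaGL (⇑Q) ↔ Even ((x : Matrix ι ι F) - 1).rank := by
  have hx : x ∈ Cfsg.isometryGroup F (⇑Q) :=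
    (Cfsg.Agent.Lib.Helper44_Orth.mem_isometryGroup_iff (⇑Q) x).mpr hiso
  have ht : (⟨x, hx⟩ : ↥(Cfsg.isometryGroup F (⇑Q))) * ⟨x, hx⟩ = 1 := by
    apply Subtype.ext
    apply Units.ext
    exact hxx
  have key := Cfsg.Agent.Lib.Helper44_Inv2.involution_mem_omega_iff h2 Q hQ hn ⟨x, hx⟩ ht
  constructor
  · rintro ⟨s, hs, hsx⟩
    have hs' : s = ⟨x, hx⟩ := Subtype.ext hsx
    rw [hs'] at hs
    exact key.mp hs
  · intro h
    exact ⟨⟨x, hx⟩, key.mpr h, rfl⟩

end Cfsg.Agent.Lib.Helper32_OrthC2_OM2
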