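import Mathlib
import Cfsg.Prelude.Def_GeometricClasses
import Cfsg.Prelude.Def_Classical
import Cfsg.Agent.Lib.Helper13_OrthR2Defs
import Cfsg.Agent.Lib.Helper44_StdForms
import Cfsg.Agent.Lib.Helper44_WittIndexMinus
import Cfsg.Agent.Lib.Helper14_POmegaSimple

/-!
Coordinate subspaces of the minus-type standard form `qfMinus n F a b` (helper47, for helper13's ORTHC2
packages MAM / MCM): for an injective `ι : Fin k → Fin n` the subspace `coordW ι` of the vectors vanishing
on the hyperbolic coordinates outside the range of `ι` has dimension `2 k + 2`, is nondegenerate and is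
NOT of plus type.  Also: the rank of a linear map that factors through `Fin s → F`.
-/

set_option autoImplicit false

namespace Cfsg.Agent.Lib.Helper47_OrthC2_MinusCoord

open Matrix Module Cfsg.Agent.Lib.Helper13_OrthR2Defs Cfsg.Agent.Lib.Helper44_StdForms

variable {F : Type*} [Field F]

/-- the index embedding induced by `ι : Fin k → Fin n` -/
def sig {k n : ℕ} (ι : Fin k → Fin n) : (Fin k ⊕ Fin k) ⊕ Fin 2 → (Fin n ⊕ Fin n) ⊕ Fin 2 :=
  Sum.map (Sum.map ι ι) id

theorem sig_injective {k n : ℕ} {ι : Fin k → Fin n} (hι : Function.Injective ι) :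
    Function.Injective (sig ι) :=
  Function.Injective.sumMap (Function.Injective.sumMap hι hι) Function.injective_id

/-- the coordinate subspace: vanishing on the hyperbolic coordinates outside the range of `ι` -/
def coordW {k n : ℕ} (ι : Fin k → Fin n) : Submodule F ((Fin n ⊕ Fin n) ⊕ Fin 2 → F) where
  carrier := {v | ∀ i : Fin n, i ∉ Set.range ι →
    v (Sum.inl (Sum.inl i)) = 0 ∧ v (Sum.inl (Sum.inr i)) = 0}
  zero_mem' := by intro i _; simp
  add_mem' := by
    intro u v hu hv i hi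
    simp [(hu i hi).1, (hu i hi).2, (hv i hi).1, (hv i hi).2]
  smul_mem' := by
    intro c v hv i hi
    simp [(hv i hi).1, (hv i hi).2]

theorem mem_coordW {k n : ℕ} (ι : Fin k → Fin n) (v : (Fin n ⊕ Fin n) ⊕ Fin 2 → F) :
    v ∈ coordW ι ↔ ∀ i : Fin n, i ∉ Set.range ι →
      v (Sum.inl (Sum.inl i)) = 0 ∧ v (Sum.inl (Sum.inr i)) = 0 := Iff.rfl

/-- restriction to the coordinates in the range of `sig ι` -/
def res {k n : ℕ} (ι : Fin k → Fin n) :
    ((Fin n ⊕ Fin n) ⊕ Fin 2 → F) →ₗ[F] ((Fin k ⊕ Fin k) ⊕ Fin 2 → F) :=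
  LinearMap.funLeft F F (sig ι)

theorem res_apply {k n : ℕ} (ι : Fin k → Fin n) (v : (Fin n ⊕ Fin n) ⊕ Fin 2 → F)
    (x : (Fin k ⊕ Fin k) ⊕ Fin 2) : res ι v x = v (sig ι x) := rfl

/-- extension by zero -/
noncomputable def ext0 {k n : ℕ} (ι : Fin k → Fin n) (u : (Fin k ⊕ Fin k) ⊕ Fin 2 → F) :
    (Fin n ⊕ Fin n) ⊕ Fin 2 → F := Function.extend (sig ι) u 0

theorem ext0_mem {k n : ℕ} (ι : Fin k → Fin n) (u : (Fin k ⊕ Fin k) ⊕ Fin 2 → F) :
    ext0 ι u ∈ coordW ι := by
  intro i hi
  constructor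
  · unfold ext0
    rw [Function.extend_apply']
    · rfl
    · rintro ⟨(x | x) | x, hx⟩
      · simp only [sig, Sum.map_inl, Sum.inl.injEq] at hx
        exact hi ⟨x, hx⟩
      · simp [sig] at hx
      · simp [sig] at hx
  · unfold ext0
    rw [Function.extend_apply']
    · rfl
    · rintro ⟨(x | x) | x, hx⟩
      · simp [sig] at hx
      · simp only [sig, Sum.map_inl, Sum.map_inr, Sum.inl.injEq, Sum.inr.injEq] at hx
        exact hi ⟨x, hx⟩
      · simp [sig] at hx

theorem res_ext0 {k n : ℕ} {ι : Fin k → Fin n} (hι : Function.Injective ι)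
    (u : (Fin k ⊕ Fin k) ⊕ Fin 2 → F) : res ι (ext0 ι u) = u := by
  funext x
  rw [res_apply]
  exact (sig_injective hι).extend_apply u 0 x

theorem ext0_res {k n : ℕ} {ι : Fin k → Fin n} (hι : Function.Injective ι)
    {v : (Fin n ⊕ Fin n) ⊕ Fin 2 → F} (hv : v ∈ coordW ι) : ext0 ι (res ι v) = v := by
  funext x
  by_cases hx : ∃ y, sig ι y = x
  · obtain ⟨y, rfl⟩ := hx
    exact (sig_injective hι).extend_apply _ 0 y
  · unfold ext0
    rw [Function.extend_apply' _ _ _ hx]
    rcases x with (i | i) | j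
    · have hi : i ∉ Set.range ι := by
        rintro ⟨y, rfl⟩
        exact hx ⟨Sum.inl (Sum.inl y), rfl⟩
      exact ((hv i hi).1).symm
    · have hi : i ∉ Set.range ι := by
        rintro ⟨y, rfl⟩
        exact hx ⟨Sum.inl (Sum.inr y), rfl⟩
      exact ((hv i hi).2).symm
    · exact absurd ⟨Sum.inr j, rfl⟩ hx

/-- the quadratic form on the coordinate subspace is the small minus form of the restriction -/
theorem qf_res {k n : ℕ} {ι : Fin k → Fin n} (hι : Function.Injective ι) (a b : F)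
    {v : (Fin n ⊕ Fin n) ⊕ Fin 2 → F} (hv : v ∈ coordW ι) :
    qfMinus n F a b v = qfMinus k F a b (res ι v) := by
  have h1 : (⇑(qfMinus n F a b)) v = (⇑(qfMinus k F a b)) (res ι v) := by
    rw [coe_qfMinus, coe_qfMinus]
    unfold Cfsg.quadFormMinus
    congr 1
    symm
    apply Fintype.sum_of_injective ι hι
    · intro i hi
      rw [(hv i hi).1, zero_mul]
    · intro j
      rfl
  exact h1

theorem polar_res {k n : ℕ} {ι : Fin k → Fin n} (hι : Function.Injective ι) (a b : F)
    {v w : (Fin n ⊕ Fin n) ⊕ Fin 2 → F} (hv : v ∈ coordW ι) (hw : w ∈ coordW ι) :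
    QuadraticMap.polar (⇑(qfMinus n F a b)) v w
      = QuadraticMap.polar (⇑(qfMinus k F a b)) (res ι v) (res ι w) := by
  unfold QuadraticMap.polar
  rw [qf_res hι a b hv, qf_res hι a b hw, qf_res hι a b ((coordW ι).add_mem hv hw), map_add]

theorem finrank_coordW {k n : ℕ} {ι : Fin k → Fin n} (hι : Function.Injective ι) :
    finrank F ↥(coordW (F := F) ι) = 2 * k + 2 := by
  have e : ↥(coordW (F := F) ι) ≃ₗ[F] ((Fin k ⊕ Fin k) ⊕ Fin 2 → F) :=
    { toFun := fun w => res ι w.1
      map_add' := fun x y => by simp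
      map_smul' := fun c x => by simp
      invFun := fun u => ⟨ext0 ι u, ext0_mem ι u⟩
      left_inv := fun w => Subtype.ext (ext0_res hι w.2)
      right_inv := fun u => res_ext0 hι u }
  rw [e.finrank_eq, Module.finrank_fintype_fun_eq_card]
  simp [Fintype.card_sum]
  ring

theorem nd_coordW [Fintype F] {k n : ℕ} {ι : Fin k → Fin n} (hι : Function.Injective ι) (a b : F)
    (hab : ∀ z₁ z₂ : F, z₁ ^ 2 + a * z₁ * z₂ + b * z₂ ^ 2 = 0 → z₁ = 0 ∧ z₂ = 0) :
    ND (qfMinus n F a b) (coordW ι) := by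
  rw [nd_iff]
  intro w hw hw0
  have hres : res ι w ≠ 0 := by
    intro h
    apply hw0
    rw [← ext0_res hι hw, h]
    funext x
    unfold ext0
    by_cases hx : ∃ y, sig ι y = x
    · obtain ⟨y, rfl⟩ := hx
      rw [(sig_injective hι).extend_apply]
      rfl
    · rw [Function.extend_apply' _ _ _ hx]
  have hnd := Cfsg.Agent.Lib.Helper14_POmegaSimple.nondegenerate_qfMinus k a b hab
  by_contra hcon
  push Not at hcon
  apply hres
  apply hnd.1
  intro y
  rw [QuadraticMap.polarBilin_apply_apply]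
  have := hcon (ext0 ι y) (ext0_mem ι y)
  rw [polar_res hι a b hw (ext0_mem ι y), res_ext0 hι] at this
  exact this

theorem not_plus_coordW [Fintype F] {k n : ℕ} {ι : Fin k → Fin n} (hι : Function.Injective ι)
    (a b : F)
    (hab : ∀ z₁ z₂ : F, z₁ ^ 2 + a * z₁ * z₂ + b * z₂ ^ 2 = 0 → z₁ = 0 ∧ z₂ = 0) :
    ¬ Plus (qfMinus n F a b) (coordW ι) := by
  rintro ⟨U, hUW, hUts, hdim⟩
  have hfr : finrank F ↥(coordW (F := F) ι) = 2 * k + 2 := finrank_coordW hι
  have h1 : ∀ w ∈ U.map (res ι), qfMinus k F a b w = 0 := by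
    rintro _ ⟨u, hu, rfl⟩
    rw [← qf_res hι a b (hUW hu)]
    exact hUts u hu
  have h2 := Cfsg.Agent.Lib.Helper44_WittIndexMinus.ts_finrank_le k a b hab
    (Cfsg.Agent.Lib.Helper14_POmegaSimple.nondegenerate_qfMinus k a b hab) _ h1
  have h3 : finrank F ↥(U.map (res ι)) = finrank F ↥U := by
    rw [← LinearMap.range_domRestrict]
    apply LinearMap.finrank_range_of_inj
    intro x y hxy
    apply Subtype.ext
    have hx := ext0_res hι (hUW x.2)
    have hy := ext0_res hι (hUW y.2)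
    rw [← hx, ← hy]
    congr 1
  omega

/-- in characteristic two an anisotropic binary form over a finite field has `a ≠ 0` -/
theorem a_ne_zero [Fintype F] (h2 : (2 : F) = 0) (a b : F)
    (hab : ∀ z₁ z₂ : F, z₁ ^ 2 + a * z₁ * z₂ + b * z₂ ^ 2 = 0 → z₁ = 0 ∧ z₂ = 0) : a ≠ 0 := by
  intro ha
  have := Cfsg.Agent.Lib.Helper14_POmegaSimple.disc_ne_zero a b hab
  apply this
  rw [ha]
  have h4 : (4 : F) = 0 := by
    have : (4 : F) = 2 * 2 := by norm_num
    rw [this, h2, mul_zero]
  rw [h4]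
  ring

/-- the rank of a map factoring through `Fin s → F` by a surjection followed by an injection -/
theorem finrank_range_of_factor {V W : Type*} [AddCommGroup V] [Module F V] [AddCommGroup W]
    [Module F W] (s : ℕ) (f : V →ₗ[F] W) (π : V →ₗ[F] (Fin s → F)) (ψ : (Fin s → F) →ₗ[F] W)
    (hf : f = ψ ∘ₗ π) (hπ : Function.Surjective π) (hψ : Function.Injective ψ) :
    finrank F ↥(LinearMap.range f) = s := by
  rw [hf, LinearMap.range_comp_of_range_eq_top _ (LinearMap.range_eq_top.mpr hπ),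
    LinearMap.finrank_range_of_inj hψ]
  simp

/-- matrix rank of `toMatrix'` -/
theorem rank_toMatrix' {ι : Type} [Fintype ι] [DecidableEq ι] (f : (ι → F) →ₗ[F] (ι → F)) :
    (LinearMap.toMatrix' f).rank = finrank F ↥(LinearMap.range f) := by
  rw [Matrix.rank, ← Matrix.toLin'_apply', Matrix.toLin'_toMatrix']

end Cfsg.Agent.Lib.Helper47_OrthC2_MinusCoord
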