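import Mathlib
import Cfsg.Prelude.Def_GeometricClasses
import Cfsg.Prelude.Def_Classical
import Cfsg.Agent.Lib.Helper13_OrthR2Defs
import Cfsg.Agent.Lib.Helper44_StdForms
import Cfsg.Agent.Lib.Helper47_OrthC2_MinusCoord

/-!
ORTHC2-MAM (helper13's market): the model `a_s` of the involution class of rank `s` (`s` even) with
totally singular commutator space on the minus-type standard form, and its invariant nondegenerate
non-plus coordinate subspaces (helper47).
-/

set_option autoImplicit false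

namespace Cfsg.Agent.Lib.Helper47_OrthC2_MAM

open Matrix Module Cfsg.Agent.Lib.Helper13_OrthR2Defs Cfsg.Agent.Lib.Helper44_StdForms
  Cfsg.Agent.Lib.Helper47_OrthC2_MinusCoord

variable {F : Type*} [Field F]

/-- the partner of a natural number in its pair `{2i, 2i+1}` -/
def pn (x : ℕ) : ℕ := if x % 2 = 0 then x + 1 else x - 1

theorem pn_pn (x : ℕ) : pn (pn x) = x := by
  unfold pn
  split_ifs <;> omega

theorem pn_ne (x : ℕ) : pn x ≠ x := by
  unfold pn
  split_ifs <;> omega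

theorem pn_lt {x c : ℕ} (hc : Even c) (hx : x < c) : pn x < c := by
  obtain ⟨r, rfl⟩ := hc
  unfold pn
  split_ifs <;> omega

/-- the partner involution on `Fin n`, moving only the indices below `s` -/
def par {n : ℕ} (s : ℕ) (hs : Even s) (hsn : s ≤ n) (i : Fin n) : Fin n :=
  if h : i.val < s then ⟨pn i.val, lt_of_lt_of_le (pn_lt hs h) hsn⟩ else i

theorem par_val_of_lt {n : ℕ} (s : ℕ) (hs : Even s) (hsn : s ≤ n) (i : Fin n) (h : i.val < s) :
    (par s hs hsn i).val = pn i.val := by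
  unfold par
  rw [dif_pos h]

theorem par_of_not_lt {n : ℕ} (s : ℕ) (hs : Even s) (hsn : s ≤ n) (i : Fin n) (h : ¬ i.val < s) :
    par s hs hsn i = i := by
  unfold par
  rw [dif_neg h]

theorem par_lt {n : ℕ} (s : ℕ) (hs : Even s) (hsn : s ≤ n) (i : Fin n) (h : i.val < s) :
    (par s hs hsn i).val < s := by
  rw [par_val_of_lt s hs hsn i h]
  exact pn_lt hs h

theorem par_par {n : ℕ} (s : ℕ) (hs : Even s) (hsn : s ≤ n) (i : Fin n) :
    par s hs hsn (par s hs hsn i) = i := by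
  by_cases h : i.val < s
  · apply Fin.ext
    rw [par_val_of_lt s hs hsn _ (par_lt s hs hsn i h), par_val_of_lt s hs hsn i h, pn_pn]
  · rw [par_of_not_lt s hs hsn i h, par_of_not_lt s hs hsn i h]

theorem par_ne {n : ℕ} (s : ℕ) (hs : Even s) (hsn : s ≤ n) (i : Fin n) (h : i.val < s) :
    par s hs hsn i ≠ i := by
  intro hh
  have := congrArg Fin.val hh
  rw [par_val_of_lt s hs hsn i h] at this
  exact pn_ne _ this

/-- the rows of the nilpotent part `N` of the model -/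
def nuRow {n : ℕ} (s : ℕ) (hs : Even s) (hsn : s ≤ n) :
    (Fin n ⊕ Fin n) ⊕ Fin 2 → (((Fin n ⊕ Fin n) ⊕ Fin 2 → F) →ₗ[F] F)
  | Sum.inl (Sum.inl i) =>
      if i.val < s then LinearMap.proj (Sum.inl (Sum.inr (par s hs hsn i))) else 0
  | Sum.inl (Sum.inr _) => 0
  | Sum.inr _ => 0

/-- the nilpotent part `N = x - 1` of the model -/
def nu {n : ℕ} (s : ℕ) (hs : Even s) (hsn : s ≤ n) :
    ((Fin n ⊕ Fin n) ⊕ Fin 2 → F) →ₗ[F] ((Fin n ⊕ Fin n) ⊕ Fin 2 → F) :=
  LinearMap.pi (nuRow s hs hsn)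

theorem nu_xx {n : ℕ} (s : ℕ) (hs : Even s) (hsn : s ≤ n) (v : (Fin n ⊕ Fin n) ⊕ Fin 2 → F)
    (i : Fin n) : nu s hs hsn v (Sum.inl (Sum.inl i))
      = if i.val < s then v (Sum.inl (Sum.inr (par s hs hsn i))) else 0 := by
  simp only [nu, LinearMap.pi_apply, nuRow]
  split_ifs <;> simp

theorem nu_yy {n : ℕ} (s : ℕ) (hs : Even s) (hsn : s ≤ n) (v : (Fin n ⊕ Fin n) ⊕ Fin 2 → F)
    (i : Fin n) : nu s hs hsn v (Sum.inl (Sum.inr i)) = 0 := by
  simp [nu, LinearMap.pi_apply, nuRow]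

theorem nu_zz {n : ℕ} (s : ℕ) (hs : Even s) (hsn : s ≤ n) (v : (Fin n ⊕ Fin n) ⊕ Fin 2 → F)
    (j : Fin 2) : nu s hs hsn v (Sum.inr j) = 0 := by
  simp [nu, LinearMap.pi_apply, nuRow]

theorem nu_nu {n : ℕ} (s : ℕ) (hs : Even s) (hsn : s ≤ n) (v : (Fin n ⊕ Fin n) ⊕ Fin 2 → F) :
    nu s hs hsn (nu s hs hsn v) = 0 := by
  funext k
  rcases k with (i | i) | j
  · rw [nu_xx]
    split_ifs
    · rw [nu_yy]; rfl
    · rfl
  · rw [nu_yy]; rfl
  · rw [nu_zz]; rfl

/-- the key cancellation in characteristic two -/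
theorem sum_pair_zero (h2 : (2 : F) = 0) {n : ℕ} (s : ℕ) (hs : Even s) (hsn : s ≤ n)
    (y : Fin n → F) :
    ∑ i : Fin n, (if i.val < s then y (par s hs hsn i) else 0) * y i = 0 := by
  apply Finset.sum_involution (fun i _ => par s hs hsn i)
  · intro i _
    by_cases h : i.val < s
    · rw [if_pos h, if_pos (par_lt s hs hsn i h), par_par]
      linear_combination (y i * y (par s hs hsn i)) * h2
    · rw [if_neg h, par_of_not_lt s hs hsn i h, if_neg h]
      ring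
  · intro i _ hne
    by_cases h : i.val < s
    · exact par_ne s hs hsn i h
    · rw [if_neg h, zero_mul] at hne
      exact absurd rfl hne
  · intro i _
    exact Finset.mem_univ _
  · intro i _
    exact par_par s hs hsn i

theorem qf_one_add_nu (h2 : (2 : F) = 0) {n : ℕ} (s : ℕ) (hs : Even s) (hsn : s ≤ n) (a b : F)
    (v : (Fin n ⊕ Fin n) ⊕ Fin 2 → F) :
    qfMinus n F a b (v + nu s hs hsn v) = qfMinus n F a b v := by
  have h1 : (⇑(qfMinus n F a b)) (v + nu s hs hsn v) = (⇑(qfMinus n F a b)) v := by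
    rw [coe_qfMinus]
    unfold Cfsg.quadFormMinus
    simp only [Pi.add_apply, nu_xx, nu_yy, nu_zz, add_zero]
    congr 1
    have := sum_pair_zero h2 s hs hsn (fun i => v (Sum.inl (Sum.inr i)))
    simp only [add_mul, Finset.sum_add_distrib]
    rw [this, add_zero]
  exact h1

theorem qf_nu {n : ℕ} (s : ℕ) (hs : Even s) (hsn : s ≤ n) (a b : F)
    (v : (Fin n ⊕ Fin n) ⊕ Fin 2 → F) : qfMinus n F a b (nu s hs hsn v) = 0 := by
  have h1 : (⇑(qfMinus n F a b)) (nu s hs hsn v) = 0 := by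
    rw [coe_qfMinus]
    unfold Cfsg.quadFormMinus
    simp [nu_yy, nu_zz]
  exact h1

/-- first factor of `nu` -/
def piN {n : ℕ} (s : ℕ) (hs : Even s) (hsn : s ≤ n) :
    ((Fin n ⊕ Fin n) ⊕ Fin 2 → F) →ₗ[F] (Fin s → F) :=
  LinearMap.pi (fun j : Fin s =>
    LinearMap.proj (Sum.inl (Sum.inr (par s hs hsn ⟨j.val, lt_of_lt_of_le j.isLt hsn⟩))))

/-- rows of the second factor of `nu` -/
def psiRow {n : ℕ} (s : ℕ) : (Fin n ⊕ Fin n) ⊕ Fin 2 → ((Fin s → F) →ₗ[F] F)
  | Sum.inl (Sum.inl i) => if h : i.val < s then LinearMap.proj ⟨i.val, h⟩ else 0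
  | Sum.inl (Sum.inr _) => 0
  | Sum.inr _ => 0

/-- second factor of `nu` -/
def psiN {n : ℕ} (s : ℕ) : (Fin s → F) →ₗ[F] ((Fin n ⊕ Fin n) ⊕ Fin 2 → F) :=
  LinearMap.pi (psiRow s)

theorem psiN_xx {n : ℕ} (s : ℕ) (c : Fin s → F) (i : Fin n) :
    psiN (n := n) s c (Sum.inl (Sum.inl i)) = if h : i.val < s then c ⟨i.val, h⟩ else 0 := by
  simp only [psiN, LinearMap.pi_apply, psiRow]
  split_ifs <;> simp

theorem nu_eq_comp {n : ℕ} (s : ℕ) (hs : Even s) (hsn : s ≤ n) :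
    nu (F := F) s hs hsn = psiN s ∘ₗ piN s hs hsn := by
  apply LinearMap.ext
  intro v
  funext k
  rcases k with (i | i) | j
  · rw [nu_xx, LinearMap.comp_apply, psiN_xx]
    by_cases h : i.val < s
    · rw [if_pos h, dif_pos h]
      simp [piN]
    · rw [if_neg h, dif_neg h]
  · rw [nu_yy]
    simp [psiN, psiRow]
  · rw [nu_zz]
    simp [psiN, psiRow]

theorem psiN_injective {n : ℕ} (s : ℕ) (hsn : s ≤ n) :
    Function.Injective (psiN (F := F) (n := n) s) := by
  intro c c' h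
  funext j
  have := congrFun h (Sum.inl (Sum.inl ⟨j.val, lt_of_lt_of_le j.isLt hsn⟩))
  rw [psiN_xx, psiN_xx, dif_pos j.isLt, dif_pos j.isLt] at this
  exact this

theorem piN_surjective {n : ℕ} (s : ℕ) (hs : Even s) (hsn : s ≤ n) :
    Function.Surjective (piN (F := F) s hs hsn) := by
  intro c
  refine ⟨fun k => match k with
    | Sum.inl (Sum.inl _) => 0
    | Sum.inl (Sum.inr i) => if h : i.val < s then c ⟨(par s hs hsn i).val, par_lt s hs hsn i h⟩ else 0
    | Sum.inr _ => 0, ?_⟩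
  funext j
  simp only [piN, LinearMap.pi_apply, LinearMap.proj_apply]
  have hj : (⟨j.val, lt_of_lt_of_le j.isLt hsn⟩ : Fin n).val < s := j.isLt
  rw [dif_pos (par_lt s hs hsn _ hj)]
  congr 1
  apply Fin.ext
  simp only [par_par]

theorem finrank_range_nu {n : ℕ} (s : ℕ) (hs : Even s) (hsn : s ≤ n) :
    finrank F ↥(LinearMap.range (nu (F := F) s hs hsn)) = s :=
  finrank_range_of_factor s _ _ _ (nu_eq_comp s hs hsn) (piN_surjective s hs hsn)
    (psiN_injective s hsn)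

/-- the index injection whose range is `[0, c) ∪ [s, s + (k - c))` -/
def iota {n : ℕ} (k c s : ℕ) (hcs : c ≤ s) (hsn : s ≤ n) (hk : k ≤ c ∨ k - c + s ≤ n)
    (x : Fin k) : Fin n :=
  ⟨if x.val < c then x.val else x.val - c + s, by
    have := x.isLt
    split_ifs <;> omega⟩

theorem iota_injective {n : ℕ} (k c s : ℕ) (hcs : c ≤ s) (hsn : s ≤ n)
    (hk : k ≤ c ∨ k - c + s ≤ n) : Function.Injective (iota (n := n) k c s hcs hsn hk) := by
  intro x y h
  have h1 := congrArg Fin.val h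
  simp only [iota] at h1
  apply Fin.ext
  split_ifs at h1 <;> omega

theorem par_mem_range_iota {n : ℕ} (k c s : ℕ) (hs : Even s) (hc : Even c) (hck : c ≤ k)
    (hcs : c ≤ s) (hsn : s ≤ n) (hk : k ≤ c ∨ k - c + s ≤ n) (i : Fin n) (hi : i.val < s)
    (h : par s hs hsn i ∈ Set.range (iota (n := n) k c s hcs hsn hk)) :
    i ∈ Set.range (iota (n := n) k c s hcs hsn hk) := by
  obtain ⟨x, hx⟩ := h
  have h1 := congrArg Fin.val hx
  have h2 := par_lt s hs hsn i hi
  rw [par_val_of_lt s hs hsn i hi] at h1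
  simp only [iota] at h1
  by_cases hxc : x.val < c
  · rw [if_pos hxc] at h1
    have h3 : pn (pn i.val) < c := by
      rw [← h1]
      exact pn_lt hc hxc
    rw [pn_pn] at h3
    refine ⟨⟨i.val, lt_of_lt_of_le h3 hck⟩, ?_⟩
    apply Fin.ext
    simp only [iota]
    rw [if_pos h3]
  · rw [if_neg hxc] at h1
    rw [par_val_of_lt s hs hsn i hi] at h2
    omega

/-- MAM, with `n` in place of `d - 1` -/
theorem MAM_aux [Fintype F] (h2 : (2 : F) = 0) (n s : ℕ) (a b : F)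
    (hab : ∀ z₁ z₂ : F, z₁ ^ 2 + a * z₁ * z₂ + b * z₂ ^ 2 = 0 → z₁ = 0 ∧ z₂ = 0)
    (hs : Even s) (hsn : s ≤ n) :
    ∃ T : Matrix ((Fin n ⊕ Fin n) ⊕ Fin 2) ((Fin n ⊕ Fin n) ⊕ Fin 2) F,
      (∀ v, qfMinus n F a b (T *ᵥ v) = qfMinus n F a b v) ∧ T * T = 1 ∧
      (T - 1).rank = s ∧ (∀ v, qfMinus n F a b ((T - 1) *ᵥ v) = 0) ∧
      ∀ m : ℕ, Even m → 2 ≤ m → m ≤ 2 * (n + 1) → (m % 4 = 2 ∨ s < n) →
        ∃ W : Submodule F ((Fin n ⊕ Fin n) ⊕ Fin 2 → F),
          (finrank F W = m ∧ ND (qfMinus n F a b) W ∧ ¬ Plus (qfMinus n F a b) W) ∧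
            Inv T W := by
  have hT1 : LinearMap.toMatrix' (1 + nu (F := F) s hs hsn) - 1
      = LinearMap.toMatrix' (nu (F := F) s hs hsn) := by
    rw [map_add, LinearMap.toMatrix'_one, add_sub_cancel_left]
  refine ⟨LinearMap.toMatrix' (1 + nu (F := F) s hs hsn), ?_, ?_, ?_, ?_, ?_⟩
  · intro v
    rw [LinearMap.toMatrix'_mulVec, LinearMap.add_apply, Module.End.one_apply]
    exact qf_one_add_nu h2 s hs hsn a b v
  · rw [← LinearMap.toMatrix'_comp, ← LinearMap.toMatrix'_one]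
    congr 1
    apply LinearMap.ext
    intro v
    rw [LinearMap.comp_apply, LinearMap.add_apply, Module.End.one_apply, LinearMap.add_apply,
      Module.End.one_apply, map_add, nu_nu]
    funext k
    simp only [Pi.add_apply, Pi.zero_apply]
    linear_combination (nu s hs hsn v k) * h2
  · rw [hT1, rank_toMatrix', finrank_range_nu]
  · intro v
    rw [hT1, LinearMap.toMatrix'_mulVec]
    exact qf_nu s hs hsn a b v
  · intro m hm hm2 hmd hcase
    have hs' : Even s := hs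
    obtain ⟨r, hr⟩ := hs'
    obtain ⟨t, ht⟩ := hm
    -- k = t - 1, c = 2 * min ((t - 1) / 2) r
    have hcs : 2 * min ((t - 1) / 2) r ≤ s := by omega
    have hk : t - 1 ≤ 2 * min ((t - 1) / 2) r ∨ t - 1 - 2 * min ((t - 1) / 2) r + s ≤ n := by
      omega
    have hc : Even (2 * min ((t - 1) / 2) r) := even_two_mul _
    have hck : 2 * min ((t - 1) / 2) r ≤ t - 1 := by omega
    refine ⟨coordW (iota (n := n) (t - 1) (2 * min ((t - 1) / 2) r) s hcs hsn hk),
      ⟨?_, nd_coordW (iota_injective _ _ _ hcs hsn hk) a b hab,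
        not_plus_coordW (iota_injective _ _ _ hcs hsn hk) a b hab⟩, ?_⟩
    · rw [finrank_coordW (iota_injective _ _ _ hcs hsn hk)]
      omega
    · rw [inv_iff]
      intro w hw
      rw [LinearMap.toMatrix'_mulVec, LinearMap.add_apply, Module.End.one_apply]
      intro i hi
      constructor
      · rw [Pi.add_apply, (hw i hi).1, zero_add, nu_xx]
        by_cases his : i.val < s
        · rw [if_pos his]
          have hpar : par s hs hsn i ∉ Set.range (iota (n := n) (t - 1) (2 * min ((t - 1) / 2) r) s hcs hsn hk) := by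
            intro hmem
            exact hi (par_mem_range_iota _ _ _ hs hc hck hcs hsn hk i his hmem)
          exact (hw _ hpar).2
        · rw [if_neg his]
      · rw [Pi.add_apply, (hw i hi).2, zero_add, nu_yy]

/-- MAM -/
theorem MAM [Fintype F] (h2 : (2 : F) = 0) (d s : ℕ) (a b : F)
    (hab : ∀ z₁ z₂ : F, z₁ ^ 2 + a * z₁ * z₂ + b * z₂ ^ 2 = 0 → z₁ = 0 ∧ z₂ = 0)
    (hs : Even s) (hs0 : 0 < s) (hsd : s + 1 ≤ d) :
    ∃ T : Matrix ((Fin (d - 1) ⊕ Fin (d - 1)) ⊕ Fin 2) ((Fin (d - 1) ⊕ Fin (d - 1)) ⊕ Fin 2) F,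
      (∀ v, qfMinus (d - 1) F a b (T *ᵥ v) = qfMinus (d - 1) F a b v) ∧ T * T = 1 ∧
      (T - 1).rank = s ∧ (∀ v, qfMinus (d - 1) F a b ((T - 1) *ᵥ v) = 0) ∧
      ∀ m : ℕ, Even m → 2 ≤ m → m ≤ 2 * d → (m % 4 = 2 ∨ s + 1 < d) →
        ∃ W : Submodule F ((Fin (d - 1) ⊕ Fin (d - 1)) ⊕ Fin 2 → F),
          (finrank F W = m ∧ ND (qfMinus (d - 1) F a b) W ∧ ¬ Plus (qfMinus (d - 1) F a b) W) ∧
            Inv T W := by
  obtain ⟨T, h1, h2', h3, h4, h5⟩ := MAM_aux h2 (d - 1) s a b hab hs (by omega)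
  refine ⟨T, h1, h2', h3, h4, ?_⟩
  intro m hm hm2 hmd hcase
  apply h5 m hm hm2 (by omega)
  rcases hcase with h | h
  · exact Or.inl h
  · exact Or.inr (by omega)

end Cfsg.Agent.Lib.Helper47_OrthC2_MAM
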