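import Mathlib
import Cfsg.Prelude.Def_GeometricClasses
import Cfsg.Prelude.Def_Classical
import Cfsg.Agent.Lib.Helper13_OrthR2Defs
import Cfsg.Agent.Lib.Helper44_StdForms
import Cfsg.Agent.Lib.Helper47_OrthC2_MinusCoord

/-!
ORTHC2-MCM (helper13's market): the model `c_s` of the involution class of rank `s` with NON-singular
commutator space on the minus-type standard form (coordinate swaps on the first `min s (d-1)` hyperbolic
planes and, for `s = d`, the reflection of the anisotropic plane), and its invariant nondegenerate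
non-plus coordinate subspaces (helper47).
-/

set_option autoImplicit false

namespace Cfsg.Agent.Lib.Helper47_OrthC2_MCM

open Matrix Module Cfsg.Agent.Lib.Helper13_OrthR2Defs Cfsg.Agent.Lib.Helper44_StdForms
  Cfsg.Agent.Lib.Helper47_OrthC2_MinusCoord

variable {F : Type*} [Field F]

/-- the rows of the model -/
def tauRow (n s : ℕ) (a : F) :
    (Fin n ⊕ Fin n) ⊕ Fin 2 → (((Fin n ⊕ Fin n) ⊕ Fin 2 → F) →ₗ[F] F)
  | Sum.inl (Sum.inl i) =>
      if i.val < s then LinearMap.proj (Sum.inl (Sum.inr i)) else LinearMap.proj (Sum.inl (Sum.inl i))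
  | Sum.inl (Sum.inr i) =>
      if i.val < s then LinearMap.proj (Sum.inl (Sum.inl i)) else LinearMap.proj (Sum.inl (Sum.inr i))
  | Sum.inr j =>
      if j = 0 ∧ n < s then LinearMap.proj (Sum.inr 0) + a • LinearMap.proj (Sum.inr 1)
      else LinearMap.proj (Sum.inr j)

/-- the model as a linear map -/
def tau (n s : ℕ) (a : F) :
    ((Fin n ⊕ Fin n) ⊕ Fin 2 → F) →ₗ[F] ((Fin n ⊕ Fin n) ⊕ Fin 2 → F) :=
  LinearMap.pi (tauRow n s a)

theorem tau_xx (n s : ℕ) (a : F) (v : (Fin n ⊕ Fin n) ⊕ Fin 2 → F) (i : Fin n) :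
    tau n s a v (Sum.inl (Sum.inl i))
      = if i.val < s then v (Sum.inl (Sum.inr i)) else v (Sum.inl (Sum.inl i)) := by
  simp only [tau, LinearMap.pi_apply, tauRow]
  split_ifs <;> simp

theorem tau_yy (n s : ℕ) (a : F) (v : (Fin n ⊕ Fin n) ⊕ Fin 2 → F) (i : Fin n) :
    tau n s a v (Sum.inl (Sum.inr i))
      = if i.val < s then v (Sum.inl (Sum.inl i)) else v (Sum.inl (Sum.inr i)) := by
  simp only [tau, LinearMap.pi_apply, tauRow]
  split_ifs <;> simp

theorem tau_zz (n s : ℕ) (a : F) (v : (Fin n ⊕ Fin n) ⊕ Fin 2 → F) (j : Fin 2) :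
    tau n s a v (Sum.inr j)
      = if j = 0 ∧ n < s then v (Sum.inr 0) + a * v (Sum.inr 1) else v (Sum.inr j) := by
  simp only [tau, LinearMap.pi_apply, tauRow]
  split_ifs <;> simp

theorem tau_z0 (n s : ℕ) (a : F) (v : (Fin n ⊕ Fin n) ⊕ Fin 2 → F) :
    tau n s a v (Sum.inr 0) = if n < s then v (Sum.inr 0) + a * v (Sum.inr 1) else v (Sum.inr 0) := by
  rw [tau_zz]
  simp

theorem tau_z1 (n s : ℕ) (a : F) (v : (Fin n ⊕ Fin n) ⊕ Fin 2 → F) :
    tau n s a v (Sum.inr 1) = v (Sum.inr 1) := by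
  rw [tau_zz]
  simp

theorem qf_tau (h2 : (2 : F) = 0) (n s : ℕ) (a b : F) (v : (Fin n ⊕ Fin n) ⊕ Fin 2 → F) :
    qfMinus n F a b (tau n s a v) = qfMinus n F a b v := by
  have h1 : (⇑(qfMinus n F a b)) (tau n s a v) = (⇑(qfMinus n F a b)) v := by
    rw [coe_qfMinus]
    unfold Cfsg.quadFormMinus
    simp only [tau_xx, tau_yy, tau_z0, tau_z1]
    congr 1
    · apply Finset.sum_congr rfl
      intro i _
      split_ifs
      · ring
      · rfl
    · split_ifs
      · linear_combination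
          (a * v (Sum.inr 0) * v (Sum.inr 1) + a ^ 2 * v (Sum.inr 1) ^ 2) * h2
      · rfl
  exact h1

theorem tau_tau (h2 : (2 : F) = 0) (n s : ℕ) (a : F) (v : (Fin n ⊕ Fin n) ⊕ Fin 2 → F) :
    tau n s a (tau n s a v) = v := by
  funext k
  rcases k with (i | i) | j
  · simp only [tau_xx, tau_yy]
    split_ifs <;> rfl
  · simp only [tau_xx, tau_yy]
    split_ifs <;> rfl
  · by_cases hj : j = 0
    · subst hj
      simp only [tau_z0, tau_z1]
      split_ifs
      · linear_combination (a * v (Sum.inr 1)) * h2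
      · rfl
    · have hj1 : j = 1 := Fin.eq_one_of_ne_zero j hj
      subst hj1
      simp only [tau_z1]

/-- first factor of `tau - 1` -/
def piC (n s : ℕ) (a : F) : ((Fin n ⊕ Fin n) ⊕ Fin 2 → F) →ₗ[F] (Fin s → F) :=
  LinearMap.pi (fun j : Fin s =>
    if h : j.val < n then
      (LinearMap.proj (Sum.inl (Sum.inr (⟨j.val, h⟩ : Fin n))) :
          ((Fin n ⊕ Fin n) ⊕ Fin 2 → F) →ₗ[F] F)
        - (LinearMap.proj (Sum.inl (Sum.inl (⟨j.val, h⟩ : Fin n))) :
          ((Fin n ⊕ Fin n) ⊕ Fin 2 → F) →ₗ[F] F)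
    else a • (LinearMap.proj (Sum.inr 1) : ((Fin n ⊕ Fin n) ⊕ Fin 2 → F) →ₗ[F] F))

theorem piC_apply (n s : ℕ) (a : F) (v : (Fin n ⊕ Fin n) ⊕ Fin 2 → F) (j : Fin s) :
    piC n s a v j = if h : j.val < n then
      v (Sum.inl (Sum.inr ⟨j.val, h⟩)) - v (Sum.inl (Sum.inl ⟨j.val, h⟩))
    else a * v (Sum.inr 1) := by
  simp only [piC, LinearMap.pi_apply]
  split_ifs <;> simp

/-- rows of the second factor of `tau - 1` -/
def psiRowC (n s : ℕ) : (Fin n ⊕ Fin n) ⊕ Fin 2 → ((Fin s → F) →ₗ[F] F)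
  | Sum.inl (Sum.inl i) => if h : i.val < s then LinearMap.proj ⟨i.val, h⟩ else 0
  | Sum.inl (Sum.inr i) => if h : i.val < s then - LinearMap.proj ⟨i.val, h⟩ else 0
  | Sum.inr j => if h : j = 0 ∧ n < s then LinearMap.proj ⟨n, h.2⟩ else 0

/-- second factor of `tau - 1` -/
def psiC (n s : ℕ) : (Fin s → F) →ₗ[F] ((Fin n ⊕ Fin n) ⊕ Fin 2 → F) :=
  LinearMap.pi (psiRowC n s)

theorem psiC_xx (n s : ℕ) (c : Fin s → F) (i : Fin n) :
    psiC (F := F) n s c (Sum.inl (Sum.inl i)) = if h : i.val < s then c ⟨i.val, h⟩ else 0 := by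
  simp only [psiC, LinearMap.pi_apply, psiRowC]
  split_ifs <;> simp

theorem psiC_yy (n s : ℕ) (c : Fin s → F) (i : Fin n) :
    psiC (F := F) n s c (Sum.inl (Sum.inr i)) = if h : i.val < s then - c ⟨i.val, h⟩ else 0 := by
  simp only [psiC, LinearMap.pi_apply, psiRowC]
  split_ifs <;> simp

theorem psiC_zz (n s : ℕ) (c : Fin s → F) (j : Fin 2) :
    psiC (F := F) n s c (Sum.inr j) = if h : j = 0 ∧ n < s then c ⟨n, h.2⟩ else 0 := by
  simp only [psiC, LinearMap.pi_apply, psiRowC]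
  split_ifs <;> simp

theorem tau_sub_one_eq_comp (n s : ℕ) (a : F) :
    tau n s a - 1 = psiC n s ∘ₗ piC n s a := by
  apply LinearMap.ext
  intro v
  funext k
  rw [LinearMap.sub_apply, Module.End.one_apply, Pi.sub_apply, LinearMap.comp_apply]
  rcases k with (i | i) | j
  · rw [tau_xx, psiC_xx]
    by_cases h : i.val < s
    · rw [if_pos h, dif_pos h, piC_apply, dif_pos i.isLt]
    · rw [if_neg h, dif_neg h, sub_self]
  · rw [tau_yy, psiC_yy]
    by_cases h : i.val < s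
    · rw [if_pos h, dif_pos h, piC_apply, dif_pos i.isLt]
      ring
    · rw [if_neg h, dif_neg h, sub_self]
  · rw [tau_zz, psiC_zz]
    by_cases h : j = 0 ∧ n < s
    · rw [if_pos h, dif_pos h, piC_apply, dif_neg (lt_irrefl n), h.1]
      ring
    · rw [if_neg h, dif_neg h, sub_self]

theorem psiC_injective (n s : ℕ) (hsn : s ≤ n + 1) :
    Function.Injective (psiC (F := F) n s) := by
  intro c c' h
  funext j
  by_cases hj : j.val < n
  · have := congrFun h (Sum.inl (Sum.inl ⟨j.val, hj⟩))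
    rw [psiC_xx, psiC_xx, dif_pos j.isLt, dif_pos j.isLt] at this
    exact this
  · have hjn : j.val = n := by
      have := j.isLt
      omega
    have hns : n < s := by
      have := j.isLt
      omega
    have := congrFun h (Sum.inr 0)
    rw [psiC_zz, psiC_zz, dif_pos ⟨rfl, hns⟩, dif_pos ⟨rfl, hns⟩] at this
    have hje : j = ⟨n, hns⟩ := Fin.ext hjn
    rw [hje]
    exact this

theorem piC_surjective (n s : ℕ) (a : F) (ha : a ≠ 0) (hsn : s ≤ n + 1) :
    Function.Surjective (piC (F := F) n s a) := by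
  intro c
  refine ⟨fun k => match k with
    | Sum.inl (Sum.inl _) => 0
    | Sum.inl (Sum.inr i) => if h : i.val < s then c ⟨i.val, h⟩ else 0
    | Sum.inr j => if h : j = 1 ∧ n < s then a⁻¹ * c ⟨n, h.2⟩ else 0, ?_⟩
  funext j
  rw [piC_apply]
  by_cases hj : j.val < n
  · rw [dif_pos hj]
    simp only [sub_zero]
    rw [dif_pos j.isLt]
  · have hjn : j.val = n := by
      have := j.isLt
      omega
    have hns : n < s := by
      have := j.isLt
      omega
    rw [dif_neg hj]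
    show a * (if h : (1 : Fin 2) = 1 ∧ n < s then a⁻¹ * c ⟨n, h.2⟩ else 0) = c j
    rw [dif_pos ⟨rfl, hns⟩, ← mul_assoc, mul_inv_cancel₀ ha, one_mul]
    congr 1
    exact Fin.ext hjn.symm

theorem finrank_range_tau_sub_one (n s : ℕ) (a : F) (ha : a ≠ 0) (hsn : s ≤ n + 1) :
    finrank F ↥(LinearMap.range (tau (F := F) n s a - 1)) = s :=
  finrank_range_of_factor s _ _ _ (tau_sub_one_eq_comp n s a) (piC_surjective n s a ha hsn)
    (psiC_injective n s hsn)

theorem exists_nonsingular (n s : ℕ) (a b : F) (ha : a ≠ 0) (hs0 : 0 < s) :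
    ∃ v, qfMinus n F a b ((tau (F := F) n s a - 1) v) ≠ 0 := by
  rcases Nat.eq_zero_or_pos n with hn | hn
  · subst hn
    refine ⟨Pi.single (Sum.inr 1) 1, ?_⟩
    have h1 : (⇑(qfMinus 0 F a b)) ((tau (F := F) 0 s a - 1) (Pi.single (Sum.inr 1) 1)) ≠ 0 := by
      rw [coe_qfMinus]
      unfold Cfsg.quadFormMinus
      simp only [LinearMap.sub_apply, Module.End.one_apply, Pi.sub_apply, tau_z0, tau_z1,
        if_pos hs0]
      simp [ha]
    exact h1
  · refine ⟨Pi.single (Sum.inl (Sum.inl ⟨0, hn⟩)) 1, ?_⟩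
    have hx : ∀ i : Fin n, ((tau (F := F) n s a - 1) (Pi.single (Sum.inl (Sum.inl ⟨0, hn⟩)) 1))
        (Sum.inl (Sum.inl i)) = if i = ⟨0, hn⟩ then -1 else 0 := by
      intro i
      rw [LinearMap.sub_apply, Module.End.one_apply, Pi.sub_apply, tau_xx]
      by_cases hi : i = ⟨0, hn⟩
      · subst hi
        rw [if_pos hs0, if_pos rfl]
        simp
      · rw [if_neg hi]
        have h1 : (Sum.inl (Sum.inl i) : (Fin n ⊕ Fin n) ⊕ Fin 2) ≠ Sum.inl (Sum.inl ⟨0, hn⟩) := by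
          intro h
          apply hi
          simpa using h
        split_ifs <;> simp [h1]
    have hy : ∀ i : Fin n, ((tau (F := F) n s a - 1) (Pi.single (Sum.inl (Sum.inl ⟨0, hn⟩)) 1))
        (Sum.inl (Sum.inr i)) = if i = ⟨0, hn⟩ then 1 else 0 := by
      intro i
      rw [LinearMap.sub_apply, Module.End.one_apply, Pi.sub_apply, tau_yy]
      by_cases hi : i = ⟨0, hn⟩
      · subst hi
        rw [if_pos hs0, if_pos rfl]
        simp
      · rw [if_neg hi]
        have h1 : (Sum.inl (Sum.inl i) : (Fin n ⊕ Fin n) ⊕ Fin 2) ≠ Sum.inl (Sum.inl ⟨0, hn⟩) := by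
          intro h
          apply hi
          simpa using h
        split_ifs <;> simp [h1]
    have hz : ∀ j : Fin 2, ((tau (F := F) n s a - 1) (Pi.single (Sum.inl (Sum.inl ⟨0, hn⟩)) 1))
        (Sum.inr j) = 0 := by
      intro j
      rw [LinearMap.sub_apply, Module.End.one_apply, Pi.sub_apply, tau_zz]
      split_ifs <;> simp
    have h1 : (⇑(qfMinus n F a b))
        ((tau (F := F) n s a - 1) (Pi.single (Sum.inl (Sum.inl ⟨0, hn⟩)) 1)) ≠ 0 := by
      rw [coe_qfMinus]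
      unfold Cfsg.quadFormMinus
      simp only [hx, hy, hz]
      simp
    exact h1

/-- MCM, with `n` in place of `d - 1` -/
theorem MCM_aux [Fintype F] (h2 : (2 : F) = 0) (n s : ℕ) (a b : F)
    (hab : ∀ z₁ z₂ : F, z₁ ^ 2 + a * z₁ * z₂ + b * z₂ ^ 2 = 0 → z₁ = 0 ∧ z₂ = 0)
    (hs0 : 0 < s) (hsn : s ≤ n + 1) :
    ∃ T : Matrix ((Fin n ⊕ Fin n) ⊕ Fin 2) ((Fin n ⊕ Fin n) ⊕ Fin 2) F,
      (∀ v, qfMinus n F a b (T *ᵥ v) = qfMinus n F a b v) ∧ T * T = 1 ∧
      (T - 1).rank = s ∧ (∃ v, qfMinus n F a b ((T - 1) *ᵥ v) ≠ 0) ∧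
      ∀ m : ℕ, Even m → 2 ≤ m → m ≤ 2 * (n + 1) →
        ∃ W : Submodule F ((Fin n ⊕ Fin n) ⊕ Fin 2 → F),
          (finrank F W = m ∧ ND (qfMinus n F a b) W ∧ ¬ Plus (qfMinus n F a b) W) ∧
            Inv T W := by
  have ha : a ≠ 0 := a_ne_zero h2 a b hab
  have hT1 : LinearMap.toMatrix' (tau (F := F) n s a) - 1
      = LinearMap.toMatrix' (tau (F := F) n s a - 1) := by
    rw [map_sub, LinearMap.toMatrix'_one]
  refine ⟨LinearMap.toMatrix' (tau (F := F) n s a), ?_, ?_, ?_, ?_, ?_⟩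
  · intro v
    rw [LinearMap.toMatrix'_mulVec]
    exact qf_tau h2 n s a b v
  · rw [← LinearMap.toMatrix'_comp, ← LinearMap.toMatrix'_one]
    congr 1
    apply LinearMap.ext
    intro v
    rw [LinearMap.comp_apply, tau_tau h2, Module.End.one_apply]
  · rw [hT1, rank_toMatrix', finrank_range_tau_sub_one n s a ha hsn]
  · obtain ⟨v, hv⟩ := exists_nonsingular n s a b ha hs0
    refine ⟨v, ?_⟩
    rw [hT1, LinearMap.toMatrix'_mulVec]
    exact hv
  · intro m hm hm2 hmd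
    obtain ⟨t, ht⟩ := hm
    have hk : t - 1 ≤ n := by omega
    have hinj : Function.Injective (Fin.castLE hk) := Fin.castLE_injective hk
    refine ⟨coordW (Fin.castLE hk), ⟨?_, nd_coordW hinj a b hab, not_plus_coordW hinj a b hab⟩, ?_⟩
    · rw [finrank_coordW hinj]
      omega
    · rw [inv_iff]
      intro w hw
      rw [LinearMap.toMatrix'_mulVec]
      intro i hi
      constructor
      · rw [tau_xx]
        split_ifs
        · exact (hw i hi).2
        · exact (hw i hi).1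
      · rw [tau_yy]
        split_ifs
        · exact (hw i hi).1
        · exact (hw i hi).2

/-- MCM -/
theorem MCM [Fintype F] (h2 : (2 : F) = 0) (d s : ℕ) (a b : F)
    (hab : ∀ z₁ z₂ : F, z₁ ^ 2 + a * z₁ * z₂ + b * z₂ ^ 2 = 0 → z₁ = 0 ∧ z₂ = 0)
    (hd : 1 ≤ d) (hs0 : 0 < s) (hsd : s ≤ d) :
    ∃ T : Matrix ((Fin (d - 1) ⊕ Fin (d - 1)) ⊕ Fin 2) ((Fin (d - 1) ⊕ Fin (d - 1)) ⊕ Fin 2) F,
      (∀ v, qfMinus (d - 1) F a b (T *ᵥ v) = qfMinus (d - 1) F a b v) ∧ T * T = 1 ∧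
      (T - 1).rank = s ∧ (∃ v, qfMinus (d - 1) F a b ((T - 1) *ᵥ v) ≠ 0) ∧
      ∀ m : ℕ, Even m → 2 ≤ m → m ≤ 2 * d →
        ∃ W : Submodule F ((Fin (d - 1) ⊕ Fin (d - 1)) ⊕ Fin 2 → F),
          (finrank F W = m ∧ ND (qfMinus (d - 1) F a b) W ∧ ¬ Plus (qfMinus (d - 1) F a b) W) ∧
            Inv T W := by
  obtain ⟨T, h1, h2', h3, h4, h5⟩ := MCM_aux h2 (d - 1) s a b hab hs0 (by omega)
  refine ⟨T, h1, h2', h3, h4, ?_⟩
  intro m hm hm2 hmd
  exact h5 m hm hm2 (by omega)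

end Cfsg.Agent.Lib.Helper47_OrthC2_MCM
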