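import Mathlib
import Cfsg.Prelude.Def_GeometricClasses
import Cfsg.Prelude.Def_Classical
import Cfsg.Agent.Lib.Helper13_OrthR2Defs
import Cfsg.Agent.Lib.Helper44_StdForms

/-!
Coordinate subspaces of `κ → F` and of the standard plus-type quadratic space `qfPlus d F`
(helper60, for the ORTHC2 packages MAP / MCP of helper13).

* `coordS J` : the vectors supported on the finite set `J` of coordinates, of dimension `J.card`;
* `dbl I = I ⊔ I ⊆ Fin d ⊕ Fin d`; `coordS (dbl I)` is nondegenerate of plus type and of dimension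
  `2 * I.card` for `qfPlus d F` (every characteristic).
-/

set_option autoImplicit false

namespace Cfsg.Agent.Lib.Helper60_OrthC2_Coord

open Matrix Module Cfsg.Agent.Lib.Helper13_OrthR2Defs Cfsg.Agent.Lib.Helper44_StdForms

section general

variable {κ : Type*} [DecidableEq κ] {F : Type*} [Field F]

/-- the vectors of `κ → F` supported on `J` -/
def coordS (J : Finset κ) : Submodule F (κ → F) where
  carrier := {v | ∀ k, k ∉ J → v k = 0}
  add_mem' := by
    intro a b ha hb k hk
    simp only [Set.mem_ofPred_eq] at ha hb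
    rw [Pi.add_apply, ha k hk, hb k hk, add_zero]
  zero_mem' := by
    intro k _
    rfl
  smul_mem' := by
    intro c a ha k hk
    simp only [Set.mem_ofPred_eq] at ha
    rw [Pi.smul_apply, ha k hk, smul_zero]

omit [DecidableEq κ] in
theorem mem_coordS (J : Finset κ) (v : κ → F) : v ∈ coordS (F := F) J ↔ ∀ k, k ∉ J → v k = 0 :=
  Iff.rfl

theorem single_mem_coordS {J : Finset κ} {k : κ} (hk : k ∈ J) (c : F) :
    (Pi.single k c : κ → F) ∈ coordS (F := F) J := by
  intro l hl
  have : l ≠ k := by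
    rintro rfl
    exact hl hk
  rw [Pi.single_apply, if_neg this]

omit [DecidableEq κ] in
theorem coordS_mono {J J' : Finset κ} (h : J ⊆ J') : coordS (F := F) J ≤ coordS J' := by
  intro v hv k hk
  exact hv k (fun hk' => hk (h hk'))

/-- `coordS J` is the function space on `J` -/
def coordEquiv (J : Finset κ) : coordS (F := F) J ≃ₗ[F] (J → F) where
  toFun v := fun j => (v : κ → F) j
  map_add' := by intros; rfl
  map_smul' := by intros; rfl
  invFun w := ⟨fun k => if h : k ∈ J then w ⟨k, h⟩ else 0, by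
    intro k hk
    simp [hk]⟩
  left_inv v := by
    ext k
    by_cases hk : k ∈ J
    · simp [hk]
    · simp [hk, v.2 k hk]
  right_inv w := by
    ext j
    simp [j.2]

theorem finrank_coordS (J : Finset κ) : finrank F (coordS (F := F) J) = J.card := by
  rw [LinearEquiv.finrank_eq (coordEquiv J), Module.finrank_fintype_fun_eq_card, Fintype.card_coe]

end general

section plus

variable {d : ℕ} {F : Type*} [Field F]

/-- the doubled index set `I ⊔ I` -/
def dbl (I : Finset (Fin d)) : Finset (Fin d ⊕ Fin d) := I.disjSum I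

theorem inl_mem_dbl (I : Finset (Fin d)) (i : Fin d) : Sum.inl i ∈ dbl I ↔ i ∈ I :=
  Finset.inl_mem_disjSum

theorem inr_mem_dbl (I : Finset (Fin d)) (i : Fin d) : Sum.inr i ∈ dbl I ↔ i ∈ I :=
  Finset.inr_mem_disjSum

theorem card_dbl (I : Finset (Fin d)) : (dbl I).card = 2 * I.card := by
  rw [dbl, Finset.card_disjSum, two_mul]

theorem mem_coordS_dbl (I : Finset (Fin d)) (v : Fin d ⊕ Fin d → F) :
    v ∈ coordS (F := F) (dbl I) ↔ ∀ i, i ∉ I → v (Sum.inl i) = 0 ∧ v (Sum.inr i) = 0 := by
  rw [mem_coordS]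
  constructor
  · intro h i hi
    exact ⟨h _ (by rwa [inl_mem_dbl]), h _ (by rwa [inr_mem_dbl])⟩
  · intro h k hk
    rcases k with i | i
    · rw [inl_mem_dbl] at hk
      exact (h i hk).1
    · rw [inr_mem_dbl] at hk
      exact (h i hk).2

theorem finrank_coordS_dbl (I : Finset (Fin d)) :
    finrank F (coordS (F := F) (dbl I)) = 2 * I.card := by
  rw [finrank_coordS, card_dbl]

theorem qfPlus_apply (v : Fin d ⊕ Fin d → F) :
    qfPlus d F v = ∑ i : Fin d, v (Sum.inl i) * v (Sum.inr i) := by
  rw [coe_qfPlus]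
  rfl

theorem polar_qfPlus (x y : Fin d ⊕ Fin d → F) :
    QuadraticMap.polar (⇑(qfPlus d F)) x y
      = ∑ i : Fin d, (x (Sum.inl i) * y (Sum.inr i) + y (Sum.inl i) * x (Sum.inr i)) := by
  rw [coe_qfPlus, polar_quadFormPlus]

theorem polar_single_inr (x : Fin d ⊕ Fin d → F) (i : Fin d) :
    QuadraticMap.polar (⇑(qfPlus d F)) x (Pi.single (Sum.inr i) 1) = x (Sum.inl i) := by
  rw [polar_qfPlus]
  simp [Pi.single_apply]

theorem polar_single_inl (x : Fin d ⊕ Fin d → F) (i : Fin d) :
    QuadraticMap.polar (⇑(qfPlus d F)) x (Pi.single (Sum.inl i) 1) = x (Sum.inr i) := by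
  rw [polar_qfPlus]
  simp [Pi.single_apply]

/-- coordinate subspaces `I ⊔ I` are nondegenerate -/
theorem nd_coordS_dbl (I : Finset (Fin d)) : ND (qfPlus d F) (coordS (F := F) (dbl I)) := by
  rw [nd_iff]
  intro w hw hw0
  have hex : ∃ k, w k ≠ 0 := by
    by_contra hcon
    push Not at hcon
    exact hw0 (funext hcon)
  obtain ⟨k, hk⟩ := hex
  have hkI : k ∈ dbl I := by
    by_contra hcon
    exact hk (hw k hcon)
  rcases k with i | i
  · refine ⟨Pi.single (Sum.inr i) 1, single_mem_coordS ?_ 1, ?_⟩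
    · rw [inr_mem_dbl]
      rwa [inl_mem_dbl] at hkI
    · rwa [polar_single_inr]
  · refine ⟨Pi.single (Sum.inl i) 1, single_mem_coordS ?_ 1, ?_⟩
    · rw [inl_mem_dbl]
      rwa [inr_mem_dbl] at hkI
    · rwa [polar_single_inl]

/-- coordinate subspaces `I ⊔ I` are of plus type -/
theorem plus_coordS_dbl (I : Finset (Fin d)) : Plus (qfPlus d F) (coordS (F := F) (dbl I)) := by
  refine ⟨coordS (I.map ⟨Sum.inl, Sum.inl_injective⟩), ?_, ?_, ?_⟩
  · apply coordS_mono
    intro k hk
    rw [Finset.mem_map] at hk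
    obtain ⟨i, hi, rfl⟩ := hk
    exact (inl_mem_dbl I i).2 hi
  · intro w hw
    rw [qfPlus_apply]
    apply Finset.sum_eq_zero
    intro i _
    have : w (Sum.inr i) = 0 := by
      apply hw
      rw [Finset.mem_map]
      rintro ⟨j, _, hj⟩
      exact Sum.inl_ne_inr hj
    rw [this, mul_zero]
  · rw [finrank_coordS, finrank_coordS_dbl, Finset.card_map]

end plus

end Cfsg.Agent.Lib.Helper60_OrthC2_Coord
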