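import Mathlib
import Cfsg.Prelude.Def_GeometricClasses
import Cfsg.Prelude.Def_Classical
import Cfsg.Agent.Lib.Helper13_OrthR2Defs
import Cfsg.Agent.Lib.Helper44_StdForms
import Cfsg.Agent.Lib.Helper60_OrthC2_Coord

/-!
ORTHC2 package MCP (helper13): the model `c_s` (the coordinate swaps `inl i ↔ inr i` for `i` in a set `A`
of `s` indices) of the c-type involutions of rank `s` on `qfPlus d F` in characteristic two, and its
invariant nondegenerate plus-type coordinate subspaces (helper60).
-/

set_option autoImplicit false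

namespace Cfsg.Agent.Lib.Helper60_OrthC2_MCP

open Matrix Module Cfsg.Agent.Lib.Helper13_OrthR2Defs Cfsg.Agent.Lib.Helper44_StdForms
  Cfsg.Agent.Lib.Helper60_OrthC2_Coord

variable {d : ℕ} {F : Type*} [Field F]

/-- the swap of `inl i` and `inr i` for `i ∈ A` -/
def cLin (A : Finset (Fin d)) : (Fin d ⊕ Fin d → F) →ₗ[F] (Fin d ⊕ Fin d → F) where
  toFun v := Sum.elim (fun i => if i ∈ A then v (Sum.inr i) else v (Sum.inl i))
    (fun i => if i ∈ A then v (Sum.inl i) else v (Sum.inr i))
  map_add' := by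
    intro v w
    ext k
    rcases k with i | i
    · simp only [Sum.elim_inl, Pi.add_apply]
      split_ifs <;> rfl
    · simp only [Sum.elim_inr, Pi.add_apply]
      split_ifs <;> rfl
  map_smul' := by
    intro c v
    ext k
    rcases k with i | i
    · simp only [Sum.elim_inl, Pi.smul_apply, smul_eq_mul, RingHom.id_apply]
      split_ifs <;> rfl
    · simp only [Sum.elim_inr, Pi.smul_apply, smul_eq_mul, RingHom.id_apply]
      split_ifs <;> rfl

theorem cLin_inl (A : Finset (Fin d)) (v : Fin d ⊕ Fin d → F) (i : Fin d) :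
    cLin A v (Sum.inl i) = if i ∈ A then v (Sum.inr i) else v (Sum.inl i) := rfl

theorem cLin_inr (A : Finset (Fin d)) (v : Fin d ⊕ Fin d → F) (i : Fin d) :
    cLin A v (Sum.inr i) = if i ∈ A then v (Sum.inl i) else v (Sum.inr i) := rfl

/-- `c_A` is an isometry of `qfPlus` (every characteristic) -/
theorem qf_cLin (A : Finset (Fin d)) (v : Fin d ⊕ Fin d → F) :
    qfPlus d F (cLin A v) = qfPlus d F v := by
  rw [qfPlus_apply, qfPlus_apply]
  apply Finset.sum_congr rfl
  intro i _
  rw [cLin_inl, cLin_inr]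
  split_ifs
  · exact mul_comm _ _
  · rfl

/-- `c_A` is an involution -/
theorem cLin_cLin (A : Finset (Fin d)) (v : Fin d ⊕ Fin d → F) : cLin A (cLin A v) = v := by
  ext k
  rcases k with i | i
  · rw [cLin_inl, cLin_inr, cLin_inl]
    split_ifs <;> rfl
  · rw [cLin_inr, cLin_inl, cLin_inr]
    split_ifs <;> rfl

/-- the embedding `u ↦ (u, -u)` restricted to the coordinates in `A` -/
def antiDiag (A : Finset (Fin d)) : coordS (F := F) A →ₗ[F] (Fin d ⊕ Fin d → F) where
  toFun u := Sum.elim (fun i => (u : Fin d → F) i) (fun i => - (u : Fin d → F) i)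
  map_add' := by
    intro u w
    ext k
    rcases k with i | i
    · simp
    · simp only [Sum.elim_inr, Pi.add_apply, Submodule.coe_add]
      ring
  map_smul' := by
    intro c u
    ext k
    rcases k with i | i
    · simp
    · simp

theorem antiDiag_injective (A : Finset (Fin d)) : Function.Injective (antiDiag (F := F) A) := by
  intro u w h
  apply Subtype.ext
  funext i
  have := congrFun h (Sum.inl i)
  exact this

/-- the range of `c_A - 1` -/
theorem range_cLin_sub (A : Finset (Fin d)) :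
    LinearMap.range (cLin (F := F) A - 1) = LinearMap.range (antiDiag (F := F) A) := by
  apply le_antisymm
  · rintro _ ⟨v, rfl⟩
    refine ⟨⟨fun i => if i ∈ A then v (Sum.inr i) - v (Sum.inl i) else 0, ?_⟩, ?_⟩
    · intro k hk
      simp only
      rw [if_neg hk]
    · ext k
      rw [LinearMap.sub_apply, Module.End.one_apply, Pi.sub_apply]
      rcases k with i | i
      · rw [cLin_inl]
        simp only [antiDiag, LinearMap.coe_mk, AddHom.coe_mk, Sum.elim_inl]
        split_ifs
        · rfl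
        · rw [sub_self]
      · rw [cLin_inr]
        simp only [antiDiag, LinearMap.coe_mk, AddHom.coe_mk, Sum.elim_inr]
        split_ifs
        · ring
        · rw [sub_self, neg_zero]
  · rintro _ ⟨u, rfl⟩
    refine ⟨Sum.elim (fun _ => 0) (fun i => (u : Fin d → F) i), ?_⟩
    ext k
    rw [LinearMap.sub_apply, Module.End.one_apply, Pi.sub_apply]
    rcases k with i | i
    · rw [cLin_inl]
      simp only [antiDiag, LinearMap.coe_mk, AddHom.coe_mk, Sum.elim_inl, Sum.elim_inr]
      split_ifs with hi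
      · rw [sub_zero]
      · rw [sub_self]
        exact (u.2 i hi).symm
    · rw [cLin_inr]
      simp only [antiDiag, LinearMap.coe_mk, AddHom.coe_mk, Sum.elim_inl, Sum.elim_inr]
      split_ifs with hi
      · rw [zero_sub]
      · rw [sub_self, u.2 i hi, neg_zero]

theorem finrank_range_cLin_sub (A : Finset (Fin d)) :
    finrank F (LinearMap.range (cLin (F := F) A - 1)) = A.card := by
  rw [range_cLin_sub, LinearMap.finrank_range_of_inj (antiDiag_injective A), finrank_coordS]

/-- every coordinate subspace `I ⊔ I` is invariant -/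
theorem cLin_mem_coordS (A I : Finset (Fin d)) (v : Fin d ⊕ Fin d → F)
    (hv : v ∈ coordS (F := F) (dbl I)) : cLin A v ∈ coordS (F := F) (dbl I) := by
  rw [mem_coordS_dbl] at hv ⊢
  intro i hi
  refine ⟨?_, ?_⟩
  · rw [cLin_inl]
    split_ifs
    · exact (hv i hi).2
    · exact (hv i hi).1
  · rw [cLin_inr]
    split_ifs
    · exact (hv i hi).1
    · exact (hv i hi).2

/-- the matrix of the model -/
noncomputable def cMat (A : Finset (Fin d)) : Matrix (Fin d ⊕ Fin d) (Fin d ⊕ Fin d) F :=
  LinearMap.toMatrix' (cLin A)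

theorem cMat_mulVec (A : Finset (Fin d)) (v : Fin d ⊕ Fin d → F) :
    cMat (F := F) A *ᵥ v = cLin A v := by
  rw [cMat, ← Matrix.toLin'_apply, Matrix.toLin'_toMatrix']

theorem cMat_sub_mulVec (A : Finset (Fin d)) (v : Fin d ⊕ Fin d → F) :
    (cMat (F := F) A - 1) *ᵥ v = cLin A v - v := by
  rw [Matrix.sub_mulVec, Matrix.one_mulVec, cMat_mulVec]

/-- the general model theorem (every characteristic) -/
theorem model (A : Finset (Fin d)) :
    (∀ v, qfPlus d F (cMat (F := F) A *ᵥ v) = qfPlus d F v) ∧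
    cMat (F := F) A * cMat A = 1 ∧
    (cMat (F := F) A - 1).rank = A.card ∧
    (∀ i ∈ A, qfPlus d F ((cMat (F := F) A - 1) *ᵥ (Pi.single (Sum.inl i) 1)) = -1) ∧
    ∀ I : Finset (Fin d),
      (finrank F (coordS (F := F) (dbl I)) = 2 * I.card ∧
        ND (qfPlus d F) (coordS (F := F) (dbl I)) ∧ Plus (qfPlus d F) (coordS (F := F) (dbl I))) ∧
      Inv (cMat (F := F) A) (coordS (F := F) (dbl I)) := by
  refine ⟨?_, ?_, ?_, ?_, ?_⟩
  · intro v
    rw [cMat_mulVec, qf_cLin]
  · rw [cMat, ← LinearMap.toMatrix'_comp, ← LinearMap.toMatrix'_id]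
    congr 1
    refine LinearMap.ext (fun v => ?_)
    rw [LinearMap.comp_apply, cLin_cLin, LinearMap.id_apply]
  · have hlin : (cMat (F := F) A - 1).mulVecLin = cLin A - 1 := by
      refine LinearMap.ext (fun v => ?_)
      rw [Matrix.mulVecLin_apply, cMat_sub_mulVec, LinearMap.sub_apply, Module.End.one_apply]
    rw [Matrix.rank, hlin, finrank_range_cLin_sub]
  · intro i hi
    rw [cMat_sub_mulVec, qfPlus_apply, Finset.sum_eq_single i]
    · rw [Pi.sub_apply, Pi.sub_apply, cLin_inl, cLin_inr, if_pos hi, if_pos hi]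
      simp
    · intro j _ hji
      rw [Pi.sub_apply, Pi.sub_apply, cLin_inl, cLin_inr]
      have h1 : (Pi.single (Sum.inl i) (1 : F) : Fin d ⊕ Fin d → F) (Sum.inl j) = 0 := by
        rw [Pi.single_apply, if_neg]
        intro h
        exact hji (Sum.inl_injective h)
      have h2 : (Pi.single (Sum.inl i) (1 : F) : Fin d ⊕ Fin d → F) (Sum.inr j) = 0 := by
        rw [Pi.single_apply, if_neg]
        intro h
        exact Sum.inl_ne_inr h.symm
      rw [h1, h2]
      simp
    · intro h
      exact absurd (Finset.mem_univ i) h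
  · intro I
    refine ⟨⟨finrank_coordS_dbl I, nd_coordS_dbl I, plus_coordS_dbl I⟩, ?_⟩
    rw [inv_iff]
    intro w hw
    rw [cMat_mulVec]
    exact cLin_mem_coordS A I w hw

/-- MCP -/
theorem MCP (h2 : (2 : F) = 0) (d s : ℕ) (hs0 : 0 < s) (hsd : s ≤ d) :
    ∃ T : Matrix (Fin d ⊕ Fin d) (Fin d ⊕ Fin d) F,
      (∀ v, qfPlus d F (T *ᵥ v) = qfPlus d F v) ∧ T * T = 1 ∧ (T - 1).rank = s ∧
      (∃ v, qfPlus d F ((T - 1) *ᵥ v) ≠ 0) ∧
      ∀ m : ℕ, Even m → m ≤ 2 * d →
        ∃ W : Submodule F (Fin d ⊕ Fin d → F),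
          (finrank F W = m ∧ ND (qfPlus d F) W ∧ Plus (qfPlus d F) W) ∧ Inv T W := by
  have _h2 := h2
  obtain ⟨A, -, hA⟩ := Finset.exists_subset_card_eq
    (s := (Finset.univ : Finset (Fin d))) (n := s) (by rw [Finset.card_univ, Fintype.card_fin]; exact hsd)
  obtain ⟨g1, g2, g3, g4, g5⟩ := model (F := F) A
  have hne : A.Nonempty := by
    rw [← Finset.card_pos, hA]
    exact hs0
  obtain ⟨i, hi⟩ := hne
  refine ⟨cMat A, g1, g2, ?_, ⟨Pi.single (Sum.inl i) 1, ?_⟩, ?_⟩
  · rw [g3, hA]
  · rw [g4 i hi]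
    exact neg_ne_zero.2 one_ne_zero
  · intro m hm hmd
    obtain ⟨k, rfl⟩ := hm
    obtain ⟨I, -, hI⟩ := Finset.exists_subset_card_eq
      (s := (Finset.univ : Finset (Fin d))) (n := k)
      (by rw [Finset.card_univ, Fintype.card_fin]; omega)
    obtain ⟨hA', hB⟩ := g5 I
    refine ⟨coordS (dbl I), ⟨?_, hA'.2.1, hA'.2.2⟩, hB⟩
    rw [hA'.1, hI]
    omega

end Cfsg.Agent.Lib.Helper60_OrthC2_MCP
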