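import Mathlib
import Cfsg.Prelude.Def_GeometricClasses
import Cfsg.Prelude.Def_Classical
import Cfsg.Agent.Lib.Helper13_OrthR2Defs

set_option autoImplicit false

/-!
ORTHC2-RK (helper85, for helper13's S5974/S5990 r = p = 2 cases): an involution `x` in
characteristic two has `2 rank (x - 1) ≤ dim`, and if `Q` vanishes on the range of `x - 1` that
range is a totally singular subspace of dimension `rank (x - 1)`.
-/

open scoped MatrixGroups

namespace Cfsg.Agent.Lib.Helper85_OrthC2_RK

open Matrix Module Cfsg.Agent.Lib.Helper13_OrthR2Defs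

variable {ι : Type} [Fintype ι] [DecidableEq ι] {F : Type*} [Field F]

theorem sub_one_sq (h2 : (2 : F) = 0) (x : Matrix ι ι F) (hxx : x * x = 1) :
    (x - 1) * (x - 1) = 0 := by
  have h1 : (x - 1) * (x - 1) = x * x - x - x + 1 := by noncomm_ring
  rw [h1, hxx]
  have h3 : (1 : Matrix ι ι F) - x - x + 1 = (2 : F) • (1 - x) := by
    rw [two_smul]
    abel
  rw [h3, h2, zero_smul]

theorem two_mul_rank_le (h2 : (2 : F) = 0) (x : Matrix ι ι F) (hxx : x * x = 1) :
    2 * (x - 1).rank ≤ Fintype.card ι := by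
  have hN := sub_one_sq h2 x hxx
  have hle : LinearMap.range (x - 1).mulVecLin ≤ LinearMap.ker (x - 1).mulVecLin := by
    rintro _ ⟨v, rfl⟩
    rw [LinearMap.mem_ker, Matrix.mulVecLin_apply, Matrix.mulVecLin_apply, Matrix.mulVec_mulVec,
      hN, Matrix.zero_mulVec]
  have h1 := LinearMap.finrank_range_add_finrank_ker (x - 1).mulVecLin
  have h3 := Submodule.finrank_mono hle
  have h4 : (x - 1).rank = finrank F (LinearMap.range (x - 1).mulVecLin) := rfl
  rw [Module.finrank_pi_fintype, Module.finrank_self] at h1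
  simp only [Finset.sum_const, Finset.card_univ, smul_eq_mul, mul_one] at h1
  omega

/-- **ORTHC2-RK** -/
theorem RK (h2 : (2 : F) = 0) (Q : QuadraticForm F (ι → F))
    (hQ : (QuadraticMap.polarBilin Q).Nondegenerate) (x : Matrix ι ι F)
    (hiso : ∀ v : ι → F, Q (x *ᵥ v) = Q v) (hxx : x * x = 1) :
    2 * (x - 1).rank ≤ Fintype.card ι ∧
    ((∀ v : ι → F, Q ((x - 1) *ᵥ v) = 0) →
      ∃ E : Submodule F (ι → F), TS Q E ∧ finrank F E = (x - 1).rank) := by
  refine ⟨two_mul_rank_le h2 x hxx, fun h => ⟨LinearMap.range (x - 1).mulVecLin, ?_, rfl⟩⟩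
  rintro _ ⟨v, rfl⟩
  rw [Matrix.mulVecLin_apply]
  exact h v

end Cfsg.Agent.Lib.Helper85_OrthC2_RK
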