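import Mathlib
import Cfsg.Prelude.Def_GeometricClasses
import Cfsg.Prelude.Def_Classical
import Cfsg.Agent.Lib.Helper13_OrthR2Defs

set_option autoImplicit false

/-!
ORTHC2-TR (helper85, for helper13's S5974/S5990 r = p = 2 cases): transport of dimension,
nondegeneracy, plus type, total singularity and invariance of a subspace along a conjugating
isometry.
-/

open scoped MatrixGroups

namespace Cfsg.Agent.Lib.Helper85_OrthC2_TR

open Matrix Module Cfsg.Agent.Lib.Helper13_OrthR2Defs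

section general

variable {F : Type*} [Field F] {V : Type*} [AddCommGroup V] [Module F V]

theorem map_map_symm (e : V ≃ₗ[F] V) (W : Submodule F V) :
    (W.map (e : V →ₗ[F] V)).map (e.symm : V →ₗ[F] V) = W := by
  ext x
  constructor
  · rintro ⟨_, ⟨w, hw, rfl⟩, rfl⟩
    rw [LinearEquiv.coe_coe, LinearEquiv.coe_coe, e.symm_apply_apply]
    exact hw
  · intro hx
    exact ⟨e x, ⟨x, hx, rfl⟩, e.symm_apply_apply x⟩

end general

section

variable {ι : Type} [Fintype ι] [DecidableEq ι] {F : Type*} [Field F]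

theorem polar_of_iso (Q : QuadraticForm F (ι → F)) (e : (ι → F) ≃ₗ[F] (ι → F))
    (he : ∀ v, Q (e v) = Q v) (x y : ι → F) :
    QuadraticMap.polar (⇑Q) (e x) (e y) = QuadraticMap.polar (⇑Q) x y := by
  unfold QuadraticMap.polar
  rw [← map_add, he, he, he]

theorem symm_iso (Q : QuadraticForm F (ι → F)) (e : (ι → F) ≃ₗ[F] (ι → F))
    (he : ∀ v, Q (e v) = Q v) (v : ι → F) : Q (e.symm v) = Q v := by
  rw [← he (e.symm v), e.apply_symm_apply]

theorem nd_map (Q : QuadraticForm F (ι → F)) (e : (ι → F) ≃ₗ[F] (ι → F))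
    (he : ∀ v, Q (e v) = Q v) (W : Submodule F (ι → F)) (h : ND Q W) :
    ND Q (W.map (e : (ι → F) →ₗ[F] (ι → F))) := by
  rintro _ ⟨w, hw, rfl⟩ hne
  have hw0 : w ≠ 0 := by
    rintro rfl
    exact hne (map_zero _)
  obtain ⟨⟨a, ha, ha1⟩, ⟨b, hb, hb1⟩⟩ := h w hw hw0
  refine ⟨⟨e a, Submodule.mem_map_of_mem ha, ?_⟩, ⟨e b, Submodule.mem_map_of_mem hb, ?_⟩⟩
  · show QuadraticMap.polar (⇑Q) (e a) (e w) ≠ 0
    rw [polar_of_iso Q e he]
    exact ha1
  · show QuadraticMap.polar (⇑Q) (e w) (e b) ≠ 0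
    rw [polar_of_iso Q e he]
    exact hb1

theorem ts_map (Q : QuadraticForm F (ι → F)) (e : (ι → F) ≃ₗ[F] (ι → F))
    (he : ∀ v, Q (e v) = Q v) (W : Submodule F (ι → F)) (h : TS Q W) :
    TS Q (W.map (e : (ι → F) →ₗ[F] (ι → F))) := by
  rintro _ ⟨w, hw, rfl⟩
  show Q (e w) = 0
  rw [he]
  exact h w hw

theorem plus_map (Q : QuadraticForm F (ι → F)) (e : (ι → F) ≃ₗ[F] (ι → F))
    (he : ∀ v, Q (e v) = Q v) (W : Submodule F (ι → F)) (h : Plus Q W) :
    Plus Q (W.map (e : (ι → F) →ₗ[F] (ι → F))) := by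
  obtain ⟨U, hUW, hU, hd⟩ := h
  refine ⟨U.map (e : (ι → F) →ₗ[F] (ι → F)), Submodule.map_mono hUW, ts_map Q e he U hU, ?_⟩
  rw [LinearEquiv.finrank_map_eq, LinearEquiv.finrank_map_eq]
  exact hd

/-- transport along a `Q`-preserving linear equivalence -/
theorem transport (Q : QuadraticForm F (ι → F)) (e : (ι → F) ≃ₗ[F] (ι → F))
    (he : ∀ v, Q (e v) = Q v) (W : Submodule F (ι → F)) :
    finrank F ↥(W.map (e : (ι → F) →ₗ[F] (ι → F))) = finrank F W ∧
    (ND Q (W.map (e : (ι → F) →ₗ[F] (ι → F))) ↔ ND Q W) ∧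
    (Plus Q (W.map (e : (ι → F) →ₗ[F] (ι → F))) ↔ Plus Q W) ∧
    (TS Q (W.map (e : (ι → F) →ₗ[F] (ι → F))) ↔ TS Q W) := by
  have hs := symm_iso Q e he
  refine ⟨LinearEquiv.finrank_map_eq e W, ⟨fun h => ?_, nd_map Q e he W⟩,
    ⟨fun h => ?_, plus_map Q e he W⟩, ⟨fun h => ?_, ts_map Q e he W⟩⟩
  · have := nd_map Q e.symm hs _ h
    rwa [map_map_symm] at this
  · have := plus_map Q e.symm hs _ h
    rwa [map_map_symm] at this
  · have := ts_map Q e.symm hs _ h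
    rwa [map_map_symm] at this

/-- the linear equivalence of an invertible matrix -/
noncomputable def equivOfGL (g : GL ι F) : (ι → F) ≃ₗ[F] (ι → F) :=
  Matrix.toLin'OfInv (M := ((g⁻¹ : GL ι F) : Matrix ι ι F)) (M' := (g : Matrix ι ι F))
    (Units.inv_mul g) (Units.mul_inv g)

theorem equivOfGL_coe (g : GL ι F) :
    ((equivOfGL g : (ι → F) ≃ₗ[F] (ι → F)) : (ι → F) →ₗ[F] (ι → F))
      = Matrix.toLin' (g : Matrix ι ι F) := rfl

theorem equivOfGL_apply (g : GL ι F) (v : ι → F) :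
    equivOfGL g v = (g : Matrix ι ι F) *ᵥ v := by
  show Matrix.toLin' (g : Matrix ι ι F) v = _
  rw [Matrix.toLin'_apply]

/-- **ORTHC2-TR** -/
theorem TR (Q : QuadraticForm F (ι → F)) (g : GL ι F)
    (hg : ∀ v : ι → F, Q ((g : Matrix ι ι F) *ᵥ v) = Q v) (T S : Matrix ι ι F)
    (hconj : (g : Matrix ι ι F) * T = S * (g : Matrix ι ι F)) (W : Submodule F (ι → F)) :
    finrank F ↥(W.map (Matrix.toLin' (g : Matrix ι ι F))) = finrank F W ∧
    (ND Q (W.map (Matrix.toLin' (g : Matrix ι ι F))) ↔ ND Q W) ∧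
    (Plus Q (W.map (Matrix.toLin' (g : Matrix ι ι F))) ↔ Plus Q W) ∧
    (TS Q (W.map (Matrix.toLin' (g : Matrix ι ι F))) ↔ TS Q W) ∧
    (Inv T W → Inv S (W.map (Matrix.toLin' (g : Matrix ι ι F)))) := by
  have he : ∀ v, Q (equivOfGL g v) = Q v := by
    intro v
    rw [equivOfGL_apply]
    exact hg v
  obtain ⟨h1, h2, h3, h4⟩ := transport Q (equivOfGL g) he W
  rw [equivOfGL_coe] at h1 h2 h3 h4
  refine ⟨h1, h2, h3, h4, ?_⟩
  intro hinv
  rw [inv_iff] at hinv ⊢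
  rintro _ ⟨w, hw, rfl⟩
  rw [Matrix.toLin'_apply, Matrix.mulVec_mulVec, ← hconj, ← Matrix.mulVec_mulVec,
    ← Matrix.toLin'_apply]
  exact Submodule.mem_map_of_mem (hinv w hw)

end

end Cfsg.Agent.Lib.Helper85_OrthC2_TR
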