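import Mathlib
import Cfsg.Agent.Lib.Helper40_OConj

set_option autoImplicit false

/-!
Shared definitions for the totally singular subspace rows of the odd-dimensional orthogonal groups
(S5972 and relatives): total singularity of a subspace, and a few trivial facts.
-/

namespace Cfsg.Agent.Lib.Helper84_OTSDefs

open Module Cfsg.Agent.Lib.Helper40_SpBasic Cfsg.Agent.Lib.Helper40_OConj

universe v

variable {F : Type v} [Field F] {V : Type v} [AddCommGroup V] [Module F V]

/-- total singularity of a subspace for a quadratic form -/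
def TSOn (Q : QuadraticForm F V) (W : Submodule F V) : Prop := ∀ w ∈ W, Q w = 0

theorem TSOn.mono {Q : QuadraticForm F V} {W W' : Submodule F V} (h : TSOn Q W) (hle : W' ≤ W) :
    TSOn Q W' := fun w hw => h w (hle hw)

theorem tsOn_bot (Q : QuadraticForm F V) : TSOn Q ⊥ := by
  intro w hw
  rw [(Submodule.mem_bot F).1 hw, map_zero]

/-- a totally singular subspace is totally isotropic for the polar form -/
theorem TSOn.isoOn {Q : QuadraticForm F V} {W : Submodule F V} (h : TSOn Q W) :
    IsoOn (pol Q) W := by
  intro x hx y hy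
  rw [pol_apply, h _ (W.add_mem hx hy), h x hx, h y hy]
  ring

/-- if `2 ≠ 0`, a subspace totally isotropic for the polar form is totally singular -/
theorem tsOn_of_isoOn (h2 : (2 : F) ≠ 0) {Q : QuadraticForm F V} {W : Submodule F V}
    (h : IsoOn (pol Q) W) : TSOn Q W := by
  intro w hw
  have h1 := h w hw w hw
  rw [pol_self] at h1
  exact (mul_eq_zero.1 h1).resolve_left h2

/-- the sum of two mutually orthogonal totally singular subspaces is totally singular -/
theorem TSOn.sup {Q : QuadraticForm F V} {W W' : Submodule F V} (h : TSOn Q W) (h' : TSOn Q W')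
    (horth : ∀ x ∈ W, ∀ y ∈ W', pol Q x y = 0) : TSOn Q (W ⊔ W') := by
  intro w hw
  obtain ⟨x, hx, y, hy, rfl⟩ := Submodule.mem_sup.1 hw
  have h1 := horth x hx y hy
  rw [pol_apply, h x hx, h' y hy] at h1
  rw [← sub_zero (Q (x + y)), ← sub_zero (Q (x + y) - 0)]
  exact h1

end Cfsg.Agent.Lib.Helper84_OTSDefs
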