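import Mathlib
import Cfsg.Agent.Lib.Helper84_OTSDefs
import Cfsg.Agent.Lib.Helper44_QuadClass

/-!
# S5972 package OW1: Witt index lower bound

A nondegenerate subspace of dimension at least `2k+1` of a quadratic space over a finite field
contains a totally singular subspace of dimension `k`.
-/

set_option autoImplicit false

open Module
open Cfsg.Agent.Lib.Helper40_SpBasic Cfsg.Agent.Lib.Helper40_OConj Cfsg.Agent.Lib.Helper84_OTSDefs
open Cfsg.Agent.Lib.Helper44_QuadClass

namespace Cfsg.Agent.Lib.Helper73_OTS_OW1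

universe v

/-- the version for the whole space -/
theorem exists_ts_top {F : Type v} [Field F] [Finite F] :
    ∀ (k : ℕ) (V : Type v) [AddCommGroup V] [Module F V] [FiniteDimensional F V]
      (Q : QuadraticForm F V), (QuadraticMap.polarBilin Q).Nondegenerate →
      2 * k + 1 ≤ finrank F V → ∃ E : Submodule F V, TSOn Q E ∧ finrank F E = k := by
  intro k
  induction k with
  | zero =>
    intro V _ _ _ Q _ _
    exact ⟨⊥, tsOn_bot Q, finrank_bot F V⟩
  | succ k ih =>
    intro V _ _ _ Q hQ hdim
    obtain ⟨v, hv0, hQv⟩ := exists_singular Q (by omega)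
    obtain ⟨w, hQw, hvw⟩ := exists_hyperbolic_partner Q hQ hv0 hQv
    have hfr := finrank_perp hQv hQw hvw
    have hnd := nondegenerate_perp hQ hQv hQw hvw
    obtain ⟨E', hE', hE'd⟩ := ih (perp Q v w) (Q.comp (perp Q v w).subtype) hnd (by omega)
    set E1 : Submodule F V := E'.map (perp Q v w).subtype with hE1
    have hE1ts : TSOn Q E1 := by
      intro x hx
      obtain ⟨x', hx', rfl⟩ := Submodule.mem_map.1 hx
      exact hE' x' hx'
    have hE1perp : ∀ x ∈ E1, QuadraticMap.polar (⇑Q) v x = 0 ∧ QuadraticMap.polar (⇑Q) w x = 0 := by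
      intro x hx
      obtain ⟨x', _, rfl⟩ := Submodule.mem_map.1 hx
      exact (mem_perp Q v w).mp x'.2
    have hspan : TSOn Q (Submodule.span F {v}) := by
      intro x hx
      obtain ⟨c, rfl⟩ := Submodule.mem_span_singleton.1 hx
      rw [QuadraticMap.map_smul, hQv, smul_zero]
    refine ⟨E1 ⊔ Submodule.span F {v}, hE1ts.sup hspan ?_, ?_⟩
    · intro x hx y hy
      obtain ⟨c, rfl⟩ := Submodule.mem_span_singleton.1 hy
      have h1 : pol Q x (c • v) = c * pol Q x v := by
        rw [map_smul, smul_eq_mul]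
      rw [h1, pol_comm]
      have h2 : pol Q v x = 0 := (hE1perp x hx).1
      rw [h2, mul_zero]
    · have hdisj : E1 ⊓ Submodule.span F {v} = ⊥ := by
        rw [eq_bot_iff]
        intro x hx
        obtain ⟨hx1, hx2⟩ := Submodule.mem_inf.1 hx
        obtain ⟨c, rfl⟩ := Submodule.mem_span_singleton.1 hx2
        have h1 := (hE1perp _ hx1).2
        rw [QuadraticMap.polar_smul_right, QuadraticMap.polar_comm, hvw, smul_eq_mul, mul_one] at h1
        rw [h1, zero_smul]
        exact Submodule.zero_mem _
      have h3 := Submodule.finrank_sup_add_finrank_inf_eq E1 (Submodule.span F {v})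
      rw [hdisj, finrank_bot, add_zero, finrank_span_singleton hv0] at h3
      have h4 : finrank F E1 = finrank F E' := Submodule.finrank_map_subtype_eq _ _
      omega

theorem OW1 {F : Type v} [Field F] [Finite F] {V : Type v} [AddCommGroup V] [Module F V]
    [FiniteDimensional F V] (h2 : (2 : F) ≠ 0) (Q : QuadraticForm F V) (C : Submodule F V)
    (hC : NDOn (pol Q) C) (k : ℕ) (hk : 2 * k + 1 ≤ finrank F C) :
    ∃ E : Submodule F V, E ≤ C ∧ TSOn Q E ∧ finrank F E = k := by
  have hnd : (QuadraticMap.polarBilin (Q.comp C.subtype)).Nondegenerate := by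
    apply LinearMap.BilinForm.Nondegenerate.ofSeparatingLeft
    intro x hx
    apply Subtype.ext
    apply hC x x.2
    intro y hy
    have h1 := hx ⟨y, hy⟩
    rw [QuadraticMap.polarBilin_apply_apply, polar_comp_subtype] at h1
    exact h1
  obtain ⟨E', hE', hE'd⟩ := exists_ts_top k C (Q.comp C.subtype) hnd hk
  refine ⟨E'.map C.subtype, ?_, ?_, ?_⟩
  · intro x hx
    obtain ⟨x', _, rfl⟩ := Submodule.mem_map.1 hx
    exact x'.2
  · intro x hx
    obtain ⟨x', hx', rfl⟩ := Submodule.mem_map.1 hx
    exact hE' x' hx'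
  · rw [Submodule.finrank_map_subtype_eq, hE'd]

end Cfsg.Agent.Lib.Helper73_OTS_OW1
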