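import Mathlib

set_option autoImplicit false

/-!
Counting subspaces of a finite vector space: `N(n,m) * P(m,m) = P(n,m)` where
`P(n,m) = ∏_{i<m} (q^(n-i) - 1)`, and consequences (count is `1` mod `p`, symmetric,
flags).
-/

namespace Cfsg.Agent.Lib.Helper99_SubspaceCount

open Module

/-- `∏_{i<m} (q^(n-i) - 1)`. -/
def P (q n m : ℕ) : ℕ := ∏ i ∈ Finset.range m, (q ^ (n - i) - 1)

theorem P_add (q n a b : ℕ) : P q n (a + b) = P q n a * P q (n - a) b := by
  unfold P
  rw [Finset.prod_range_add]
  congr 1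
  apply Finset.prod_congr rfl
  intro x _
  rw [Nat.sub_add_eq]

theorem P_pos {q n m : ℕ} (hq : 2 ≤ q) (hm : m ≤ n) : 0 < P q n m := by
  unfold P
  apply Finset.prod_pos
  intro i hi
  rw [Finset.mem_range] at hi
  have h1 : 1 ≤ n - i := by omega
  have h2 : 2 ^ 1 ≤ q ^ (n - i) :=
    (Nat.pow_le_pow_left hq 1).trans (Nat.pow_le_pow_right (by omega) h1)
  omega

/-- `∏_{i<m} (q^n - q^i) = (∏_{i<m} q^i) * P q n m` for `m ≤ n`. -/
theorem prod_eq (q n m : ℕ) (hm : m ≤ n) :
    ∏ i : Fin m, (q ^ n - q ^ i.val) = (∏ i ∈ Finset.range m, q ^ i) * P q n m := by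
  unfold P
  rw [← Finset.prod_mul_distrib, Finset.prod_fin_eq_prod_range]
  apply Finset.prod_congr rfl
  intro i hi
  rw [Finset.mem_range] at hi
  rw [dif_pos hi]
  have h1 : q ^ n = q ^ i * q ^ (n - i) := by rw [← pow_add]; congr 1; omega
  rw [h1, Nat.mul_sub, mul_one]

variable {K V : Type*} [Field K] [Fintype K] [AddCommGroup V] [Module K V] [Finite V]

/-- the fibre of `s ↦ span (range s)` over `W`. -/
noncomputable def fibreEquiv (m : ℕ) (W : Submodule K V) (hW : finrank K W = m) :
    {s : {s : Fin m → V // LinearIndependent K s} // Submodule.span K (Set.range s.1) = W} ≃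
      {t : Fin m → W // LinearIndependent K t} where
  toFun s := ⟨fun i => ⟨s.1.1 i, by
      have h := s.2
      have h2 : s.1.1 i ∈ Submodule.span K (Set.range s.1.1) := Submodule.subset_span ⟨i, rfl⟩
      rwa [h] at h2⟩, by
    apply LinearIndependent.of_comp W.subtype
    exact s.1.2⟩
  invFun t := ⟨⟨fun i => (t.1 i : V), t.2.map' W.subtype (Submodule.ker_subtype W)⟩, by
    classical
    have h1 : Set.range (fun i => (t.1 i : V)) = W.subtype '' Set.range t.1 := by
      rw [← Set.range_comp]; rfl
    show Submodule.span K (Set.range (fun i => (t.1 i : V))) = W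
    rw [h1, Submodule.span_image,
      t.2.span_eq_top_of_card_eq_finrank' (by
        rw [Fintype.card_fin, hW]), Submodule.map_subtype_top]⟩
  left_inv s := by ext; rfl
  right_inv t := by ext; rfl

/-- the number of `m`-dimensional subspaces. -/
theorem card_subspaces_mul (m : ℕ) (hm : m ≤ finrank K V) :
    Nat.card {W : Submodule K V // finrank K W = m} * P (Fintype.card K) m m
      = P (Fintype.card K) (finrank K V) m := by
  classical
  have : Fintype {W : Submodule K V // finrank K W = m} := Fintype.ofFinite _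
  have hq : 0 < Fintype.card K := Fintype.card_pos
  let S := {s : Fin m → V // LinearIndependent K s}
  let π : S → {W : Submodule K V // finrank K W = m} := fun s =>
    ⟨Submodule.span K (Set.range s.1), by rw [finrank_span_eq_card s.2, Fintype.card_fin]⟩
  have h1 : Nat.card S = ∏ i : Fin m, (Fintype.card K ^ finrank K V - Fintype.card K ^ i.val) :=
    card_linearIndependent hm
  have h2 : Nat.card S = ∑ W, Nat.card {s // π s = W} := by
    rw [← Nat.card_sigma]; exact Nat.card_congr (Equiv.sigmaFiberEquiv π).symm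
  have h3 : ∀ W, Nat.card {s // π s = W} =
      ∏ i : Fin m, (Fintype.card K ^ m - Fintype.card K ^ i.val) := fun W => by
    rw [Nat.card_congr ((Equiv.subtypeEquivRight (fun s => Subtype.ext_iff)).trans
      (fibreEquiv m W.1 W.2))]
    have := card_linearIndependent (K := K) (V := W.1) (k := m) (by rw [W.2])
    rw [this, W.2]
  rw [h2, Finset.sum_congr rfl (fun W _ => h3 W), Finset.sum_const, smul_eq_mul,
    prod_eq _ _ _ hm, prod_eq _ _ _ le_rfl, Finset.card_univ, ← Nat.card_eq_fintype_card] at h1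
  have hpos : 0 < ∏ i ∈ Finset.range m, Fintype.card K ^ i :=
    Finset.prod_pos fun i _ => pow_pos hq i
  have h4 : (∏ i ∈ Finset.range m, Fintype.card K ^ i) *
      (Nat.card {W : Submodule K V // finrank K W = m} * P (Fintype.card K) m m) =
      (∏ i ∈ Finset.range m, Fintype.card K ^ i) * P (Fintype.card K) (finrank K V) m := by
    rw [← h1]; ring
  exact Nat.eq_of_mul_eq_mul_left hpos h4

omit [Finite V] in
theorem two_le_card : 2 ≤ Fintype.card K := Fintype.one_lt_card

theorem card_subspaces_pos (m : ℕ) (hm : m ≤ finrank K V) :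
    0 < Nat.card {W : Submodule K V // finrank K W = m} := by
  have h := card_subspaces_mul (K := K) (V := V) m hm
  have h2 := P_pos (two_le_card (K := K)) hm
  rw [← h] at h2
  exact Nat.pos_of_mul_pos_right h2

/-- `P q n m` is `(-1)^m` modulo a prime dividing `q`. -/
theorem P_cast_of_dvd {p q : ℕ} (hpq : p ∣ q) (hq : 0 < q) (n m : ℕ) (hm : m ≤ n) :
    ((P q n m : ℕ) : ZMod p) = (-1) ^ m := by
  unfold P
  rw [Nat.cast_prod]
  have : ∀ i ∈ Finset.range m, ((q ^ (n - i) - 1 : ℕ) : ZMod p) = -1 := by
    intro i hi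
    rw [Finset.mem_range] at hi
    have h0 : (q : ZMod p) = 0 := (ZMod.natCast_eq_zero_iff _ _).2 hpq
    rw [Nat.cast_sub (Nat.one_le_pow _ _ hq), Nat.cast_pow, h0, zero_pow (by omega)]
    simp
  rw [Finset.prod_congr rfl this, Finset.prod_const, Finset.card_range]

/-- the number of `m`-subspaces is `1` modulo the characteristic. -/
theorem card_subspaces_modEq_one (p : ℕ) [Fact p.Prime] [CharP K p] (m : ℕ)
    (hm : m ≤ finrank K V) :
    Nat.card {W : Submodule K V // finrank K W = m} ≡ 1 [MOD p] := by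
  have hpq : p ∣ Fintype.card K := by
    obtain ⟨k, -, hk⟩ := FiniteField.card K p
    rw [hk]; exact dvd_pow_self p k.ne_zero
  have h := congrArg (fun x : ℕ => (x : ZMod p)) (card_subspaces_mul (K := K) (V := V) m hm)
  simp only [Nat.cast_mul] at h
  rw [P_cast_of_dvd hpq Fintype.card_pos m m le_rfl,
    P_cast_of_dvd hpq Fintype.card_pos _ m hm] at h
  have hu : IsUnit ((-1 : ZMod p) ^ m) := (isUnit_one.neg).pow m
  have h2 : (Nat.card {W : Submodule K V // finrank K W = m} : ZMod p) = 1 :=
    hu.mul_right_cancel (by rw [h, one_mul])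
  rw [← ZMod.natCast_eq_natCast_iff, h2, Nat.cast_one]

/-- a prime `r ∤ q` does not divide `P q n m` if none of `n, n-1, …, n-m+1` is a multiple of the
order of `q` mod `r`. -/
theorem not_dvd_P {r q : ℕ} (hr : r.Prime) (hq : 0 < q) (n m : ℕ)
    (h : ∀ i < m, ¬ orderOf ((q : ℕ) : ZMod r) ∣ n - i) : ¬ r ∣ P q n m := by
  unfold P
  intro hd
  rw [hr.prime.dvd_finsetProd_iff] at hd
  obtain ⟨i, hi, hdi⟩ := hd
  rw [Finset.mem_range] at hi
  apply h i hi
  apply orderOf_dvd_of_pow_eq_one
  have h1 := (ZMod.natCast_eq_zero_iff _ _).2 hdi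
  rw [Nat.cast_sub (Nat.one_le_pow _ _ hq), Nat.cast_pow, Nat.cast_one, sub_eq_zero] at h1
  exact h1

theorem not_dvd_card_subspaces {r : ℕ} (hr : r.Prime) (m : ℕ) (hm : m ≤ finrank K V)
    (h : ∀ i < m, ¬ orderOf ((Fintype.card K : ℕ) : ZMod r) ∣ finrank K V - i) :
    ¬ r ∣ Nat.card {W : Submodule K V // finrank K W = m} := by
  intro hd
  apply not_dvd_P hr Fintype.card_pos (finrank K V) m h
  rw [← card_subspaces_mul (K := K) (V := V) m hm]
  exact hd.mul_right _

/-- symmetry of the count. -/
theorem card_subspaces_symm (m : ℕ) (hm : 2 * m ≤ finrank K V) :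
    Nat.card {W : Submodule K V // finrank K W = finrank K V - m} =
      Nat.card {W : Submodule K V // finrank K W = m} := by
  set n := finrank K V with hn
  set q := Fintype.card K with hqdef
  have hq : 2 ≤ q := two_le_card
  have h1 := card_subspaces_mul (K := K) (V := V) (n - m) (Nat.sub_le _ _)
  have h2 := card_subspaces_mul (K := K) (V := V) m (by omega)
  rw [← hn, ← hqdef] at h1 h2
  -- `n - m = m + (n - 2m)` and `n - m = (n - 2m) + m`
  have e1 : n - m = m + (n - 2 * m) := by omega
  have e2 : n - m = (n - 2 * m) + m := by omega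
  have h3 : P q n (n - m) = P q n m * P q (n - m) (n - 2 * m) := by
    have := P_add q n m (n - 2 * m)
    rwa [← e1] at this
  have h4 : P q (n - m) (n - m) = P q (n - m) (n - 2 * m) * P q m m := by
    have := P_add q (n - m) (n - 2 * m) m
    have e3 : n - m - (n - 2 * m) = m := by omega
    rwa [← e2, e3] at this
  have hpos1 : 0 < P q (n - m) (n - 2 * m) := P_pos hq (by omega)
  have hpos2 : 0 < P q m m := P_pos hq le_rfl
  rw [h3, h4, ← h2] at h1
  have h5 : P q (n - m) (n - 2 * m) * (Nat.card {W : Submodule K V // finrank K W = n - m} *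
      P q m m) = P q (n - m) (n - 2 * m) * (Nat.card {W : Submodule K V // finrank K W = m} *
      P q m m) := by
    rw [← mul_assoc, ← mul_assoc, mul_comm _ (Nat.card _), mul_comm _ (Nat.card _),
      mul_assoc, mul_assoc]
    rw [mul_assoc] at h1
    rw [h1]; ring
  exact Nat.eq_of_mul_eq_mul_right hpos2 (Nat.eq_of_mul_eq_mul_left hpos1 h5)

omit [Fintype K] [Finite V] in
theorem finrank_comap_subtype {U W : Submodule K V} (h : U ≤ W) :
    finrank K (U.comap W.subtype) = finrank K U :=
  (Submodule.comapSubtypeEquivOfLe h).finrank_eq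

/-- flags `U ≤ W` with `dim U = m`, `dim W = d`, fibred over `W`. -/
noncomputable def flagEquiv (m d : ℕ) :
    {P : Submodule K V × Submodule K V // P.1 ≤ P.2 ∧ finrank K P.1 = m ∧ finrank K P.2 = d} ≃
      Σ W : {W : Submodule K V // finrank K W = d}, {U : Submodule K W.1 // finrank K U = m} where
  toFun P := ⟨⟨P.1.2, P.2.2.2⟩, ⟨P.1.1.comap P.1.2.subtype, by
      rw [finrank_comap_subtype P.2.1]; exact P.2.2.1⟩⟩
  invFun x := ⟨(x.2.1.map x.1.1.subtype, x.1.1), ⟨Submodule.map_subtype_le _ _, by
      rw [Submodule.finrank_map_subtype_eq]; exact x.2.2, x.1.2⟩⟩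
  left_inv P := by
    apply Subtype.ext
    apply Prod.ext
    · show (P.1.1.comap P.1.2.subtype).map P.1.2.subtype = P.1.1
      rw [Submodule.map_comap_subtype]
      exact inf_eq_right.2 P.2.1
    · rfl
  right_inv x := by
    obtain ⟨⟨W, hW⟩, ⟨U, hU⟩⟩ := x
    simp only
    congr 1
    apply Subtype.ext
    show (U.map W.subtype).comap W.subtype = U
    exact Submodule.comap_map_eq_of_injective W.subtype_injective U

theorem card_flags_mul (m d : ℕ) (hm : m ≤ d) :
    Nat.card {P : Submodule K V × Submodule K V //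
        P.1 ≤ P.2 ∧ finrank K P.1 = m ∧ finrank K P.2 = d} * P (Fintype.card K) m m =
      Nat.card {W : Submodule K V // finrank K W = d} * P (Fintype.card K) d m := by
  classical
  have : Fintype {W : Submodule K V // finrank K W = d} := Fintype.ofFinite _
  rw [Nat.card_congr (flagEquiv m d), Nat.card_sigma, Finset.sum_mul]
  have h : ∀ W : {W : Submodule K V // finrank K W = d},
      Nat.card {U : Submodule K W.1 // finrank K U = m} * P (Fintype.card K) m m =
        P (Fintype.card K) d m := fun W => by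
    have := card_subspaces_mul (K := K) (V := W.1) m (by rw [W.2]; exact hm)
    rw [this, W.2]
  rw [Finset.sum_congr rfl (fun W _ => h W), Finset.sum_const, smul_eq_mul, Finset.card_univ,
    ← Nat.card_eq_fintype_card]

theorem card_flags_modEq_one (p : ℕ) [Fact p.Prime] [CharP K p] (m d : ℕ) (hm : m ≤ d)
    (hd : d ≤ finrank K V) :
    Nat.card {P : Submodule K V × Submodule K V //
        P.1 ≤ P.2 ∧ finrank K P.1 = m ∧ finrank K P.2 = d} ≡ 1 [MOD p] := by
  have hpq : p ∣ Fintype.card K := by
    obtain ⟨k, -, hk⟩ := FiniteField.card K p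
    rw [hk]; exact dvd_pow_self p k.ne_zero
  have h := congrArg (fun x : ℕ => (x : ZMod p)) (card_flags_mul (K := K) (V := V) m d hm)
  simp only [Nat.cast_mul] at h
  have h1 : (Nat.card {W : Submodule K V // finrank K W = d} : ZMod p) = 1 := by
    have := card_subspaces_modEq_one (K := K) (V := V) p d hd
    rw [← ZMod.natCast_eq_natCast_iff, Nat.cast_one] at this
    exact this
  rw [P_cast_of_dvd hpq Fintype.card_pos m m le_rfl,
    P_cast_of_dvd hpq Fintype.card_pos _ m hm, h1] at h
  have hu : IsUnit ((-1 : ZMod p) ^ m) := (isUnit_one.neg).pow m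
  have h2 := hu.mul_right_cancel h
  rw [← ZMod.natCast_eq_natCast_iff, h2, Nat.cast_one]

theorem not_dvd_card_flags {r : ℕ} (hr : r.Prime) (m d : ℕ) (hm : m ≤ d)
    (h1 : ¬ r ∣ Nat.card {W : Submodule K V // finrank K W = d})
    (h2 : ¬ r ∣ P (Fintype.card K) d m) :
    ¬ r ∣ Nat.card {P : Submodule K V × Submodule K V //
        P.1 ≤ P.2 ∧ finrank K P.1 = m ∧ finrank K P.2 = d} := by
  intro hd
  have h := card_flags_mul (K := K) (V := V) m d hm
  have h3 : r ∣ Nat.card {W : Submodule K V // finrank K W = d} * P (Fintype.card K) d m := by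
    rw [← h]; exact hd.mul_right _
  rcases hr.dvd_mul.1 h3 with h4 | h4
  · exact h1 h4
  · exact h2 h4

end Cfsg.Agent.Lib.Helper99_SubspaceCount
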