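import Mathlib
import Cfsg.Agent.Lib.Helper84_OTSDefs
import Cfsg.Agent.Lib.Helper99_SubspaceCount

/-!
# S5972 package OW2: a totally singular subspace of a nondegenerate subspace has at most half the dimension
-/

set_option autoImplicit false

open Module
open Cfsg.Agent.Lib.Helper40_SpBasic Cfsg.Agent.Lib.Helper40_OConj Cfsg.Agent.Lib.Helper84_OTSDefs

namespace Cfsg.Agent.Lib.Helper73_OTS_OW2

universe v

/-- the restriction of the polar form to a nondegenerate subspace is nondegenerate -/
theorem nondegenerate_restrict_pol {F : Type v} [Field F] {V : Type v} [AddCommGroup V] [Module F V]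
    (Q : QuadraticForm F V) (C : Submodule F V) (hC : NDOn (pol Q) C) :
    ((pol Q).restrict C).Nondegenerate := by
  constructor
  · intro x hx
    apply Subtype.ext
    apply hC x x.2
    intro y hy
    exact hx ⟨y, hy⟩
  · intro x hx
    apply Subtype.ext
    apply hC x x.2
    intro y hy
    have := hx ⟨y, hy⟩
    have h2 : pol Q y x = 0 := this
    rw [pol_comm, h2]

theorem OW2 {F : Type v} [Field F] {V : Type v} [AddCommGroup V] [Module F V]
    [FiniteDimensional F V] (Q : QuadraticForm F V) (C : Submodule F V)
    (hC : NDOn (pol Q) C) (E : Submodule F V) (hEC : E ≤ C) (hE : TSOn Q E) :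
    2 * finrank F E ≤ finrank F C := by
  have hnd : ((pol Q).restrict C).Nondegenerate := nondegenerate_restrict_pol Q C hC
  set E' : Submodule F C := E.comap C.subtype with hE'
  have h1 : finrank F E' = finrank F E :=
    Cfsg.Agent.Lib.Helper99_SubspaceCount.finrank_comap_subtype hEC
  have h2 := LinearMap.BilinForm.finrank_orthogonal hnd E'
  have h3 : E' ≤ ((pol Q).restrict C).orthogonal E' := by
    intro x hx
    rw [LinearMap.BilinForm.mem_orthogonal_iff]
    intro y hy
    exact hE.isoOn y hy x hx
  have h4 := Submodule.finrank_mono h3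
  have h5 : finrank F E' ≤ finrank F C := Submodule.finrank_le E'
  omega

end Cfsg.Agent.Lib.Helper73_OTS_OW2
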