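import Mathlib
import Cfsg.Prelude.Def_GeometricClasses
import Cfsg.Agent.Lib.Helper13_OrthR2Defs
import Cfsg.Agent.Lib.Helper85_OrthND_TMUL
import Cfsg.Agent.Lib.Helper73_OTS_OW1
import Cfsg.Agent.Lib.Helper73_OTS_OW2

/-!
Packages G1, G2, G3 of the `r = 2` cut (helper13): the type of an orthogonal sum, the Witt index
lower bound and the bound `2 dim E ≤ dim U` for a totally singular `E` in a nondegenerate `U`, in the
concrete vocabulary of `Helper13_OrthR2Defs`; glue on top of `Helper85_OrthND_TMUL.TMUL`,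
`Helper73_OTS_OW1.OW1`, `Helper73_OTS_OW2.OW2`.
-/

set_option autoImplicit false

namespace Cfsg.Agent.Lib.Helper13_OrthR2_G12

open Matrix Module Cfsg.Agent.Lib.Helper13_OrthR2Defs

variable {ι : Type} [Fintype ι] [DecidableEq ι] {F : Type*} [Field F]

omit [Fintype ι] [DecidableEq ι] in
/-- the Prelude nondegeneracy predicate is `NDOn` of the polar bilinear form -/
theorem nd_iff_ndOn (Q : QuadraticForm F (ι → F)) (W : Submodule F (ι → F)) :
    ND Q W ↔ Cfsg.Agent.Lib.Helper40_SpBasic.NDOn (QuadraticMap.polarBilin Q) W := by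
  rw [nd_iff]
  constructor
  · intro h x hx hxy
    by_contra hx0
    obtain ⟨v, hv, hne⟩ := h x hx hx0
    exact hne (hxy v hv)
  · intro h w hw hw0
    by_contra hcon
    push Not at hcon
    exact hw0 (h w hw (fun y hy => hcon y hy))

omit [Fintype ι] [DecidableEq ι] in
theorem plus_iff_plusOn (Q : QuadraticForm F (ι → F)) (W : Submodule F (ι → F)) :
    Plus Q W ↔ Cfsg.Agent.Lib.Helper88_OrthNDDefs.PlusOn Q W := Iff.rfl

omit [DecidableEq ι] in
/-- G1 -/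
theorem G1 [Fintype F] (Q : QuadraticForm F (ι → F))
    (W₁ W₂ : Submodule F (ι → F))
    (horth : ∀ u ∈ W₁, ∀ v ∈ W₂, QuadraticMap.polar (⇑Q) u v = 0)
    (hnd₁ : ND Q W₁) (hnd₂ : ND Q W₂) :
    ND Q (W₁ ⊔ W₂) ∧ finrank F ↥(W₁ ⊔ W₂) = finrank F W₁ + finrank F W₂ ∧
      (Even (finrank F W₁) → Even (finrank F W₂) →
        (Plus Q (W₁ ⊔ W₂) ↔ (Plus Q W₁ ↔ Plus Q W₂))) := by
  have hdisj : W₁ ⊓ W₂ = ⊥ := by
    rw [eq_bot_iff]
    rintro x ⟨hx1, hx2⟩
    rw [Submodule.mem_bot]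
    by_contra hx0
    obtain ⟨v, hv, hne⟩ := (nd_iff Q W₁).1 hnd₁ x hx1 hx0
    apply hne
    rw [QuadraticMap.polar_comm]
    exact horth v hv x hx2
  refine ⟨?_, ?_, ?_⟩
  · rw [nd_iff]
    intro w hw hw0
    obtain ⟨a, ha, b, hb, rfl⟩ := Submodule.mem_sup.1 hw
    by_cases ha0 : a = 0
    · have hb0 : b ≠ 0 := by
        rintro rfl
        apply hw0
        rw [ha0, add_zero]
      obtain ⟨v, hv, hne⟩ := (nd_iff Q W₂).1 hnd₂ b hb hb0
      refine ⟨v, Submodule.mem_sup_right hv, ?_⟩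
      rw [QuadraticMap.polar_add_left, horth a ha v hv, zero_add]
      exact hne
    · obtain ⟨v, hv, hne⟩ := (nd_iff Q W₁).1 hnd₁ a ha ha0
      refine ⟨v, Submodule.mem_sup_left hv, ?_⟩
      rw [QuadraticMap.polar_add_left, QuadraticMap.polar_comm (⇑Q) b v, horth v hv b hb, add_zero]
      exact hne
  · have := Submodule.finrank_sup_add_finrank_inf_eq W₁ W₂
    rw [hdisj, finrank_bot, add_zero] at this
    exact this
  · intro he₁ he₂
    exact Cfsg.Agent.Lib.Helper85_OrthND_TMUL.TMUL Q W₁ W₂ ((nd_iff_ndOn Q W₁).1 hnd₁)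
      ((nd_iff_ndOn Q W₂).1 hnd₂) horth he₁ he₂

omit [DecidableEq ι] in
/-- G2 -/
theorem G2 [Fintype F] (h2 : (2 : F) ≠ 0) (Q : QuadraticForm F (ι → F))
    (U : Submodule F (ι → F)) (hU : ND Q U) (k : ℕ) (hk : 2 * k + 1 ≤ finrank F U) :
    ∃ E : Submodule F (ι → F), E ≤ U ∧ TS Q E ∧ finrank F E = k :=
  Cfsg.Agent.Lib.Helper73_OTS_OW1.OW1 h2 Q U ((nd_iff_ndOn Q U).1 hU) k hk

omit [DecidableEq ι] in
/-- G3 -/
theorem G3 (Q : QuadraticForm F (ι → F)) (U : Submodule F (ι → F)) (hU : ND Q U)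
    (E : Submodule F (ι → F)) (hEU : E ≤ U) (hE : TS Q E) :
    2 * finrank F E ≤ finrank F U :=
  Cfsg.Agent.Lib.Helper73_OTS_OW2.OW2 Q U ((nd_iff_ndOn Q U).1 hU) E hEU hE

end Cfsg.Agent.Lib.Helper13_OrthR2_G12
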