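import Mathlib
import Cfsg.Prelude.Def_GeometricClasses
import Cfsg.Prelude.Def_Classical
import Cfsg.Agent.Lib.Helper13_OrthR2Defs
import Cfsg.Agent.Lib.Helper13_OrthR2_G12
import Cfsg.Agent.Lib.Helper43_AltEven
import Cfsg.Agent.Lib.Helper44_Inv2

/-!
Core of the derangement packages DERP / DERM (helper13's ORTHC2 market), helper94.

Characteristic two, `x = 1 + N` an isometry of the quadratic form `Q` with `N * N = 0` and `Q (N v) = 0` for all `v`.
For an `x`-invariant nondegenerate subspace `W` the form `β(u, w) = polar (N u) w` is alternating on `W` with radical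
`W ⊓ ker N`, so the rank of `N` on `W` is even.  In particular (`W = ⊤`) the rank of `x - 1` is even and `x ∈ Ω`.
-/

set_option autoImplicit false
open scoped MatrixGroups

namespace Cfsg.Agent.Lib.Helper94_OrthC2_Core

open Matrix Module Cfsg.Agent.Lib.Helper13_OrthR2Defs

variable {ι : Type} [Fintype ι] [DecidableEq ι] {F : Type*} [Field F]

/-- the rank of an alternating bilinear form is even -/
theorem even_sub_ker_of_alt {W : Type*} [AddCommGroup W] [Module F W] [FiniteDimensional F W]
    (B : LinearMap.BilinForm F W) (halt : B.IsAlt) :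
    Even (finrank F W - finrank F (LinearMap.ker B)) := by
  obtain ⟨C, hC⟩ := Submodule.exists_isCompl (LinearMap.ker B)
  have hdim : finrank F (LinearMap.ker B) + finrank F C = finrank F W :=
    Submodule.finrank_add_eq_of_isCompl hC
  have haltC : (B.restrict C).IsAlt := fun c => halt c.1
  have hrefl : B.IsRefl := halt.isRefl
  have hnd : (B.restrict C).Nondegenerate := by
    refine (LinearMap.IsRefl.nondegenerate_iff_separatingLeft haltC.isRefl).2 ?_
    intro c hc
    have hker : (c : W) ∈ LinearMap.ker B := by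
      rw [LinearMap.mem_ker]
      ext w
      have hw : w ∈ LinearMap.ker B ⊔ C := by rw [hC.sup_eq_top]; exact Submodule.mem_top
      obtain ⟨k, hk, c', hc', rfl⟩ := Submodule.mem_sup.1 hw
      have h1 : B (c : W) k = 0 := by
        apply hrefl
        rw [LinearMap.mem_ker] at hk
        rw [hk, LinearMap.zero_apply]
      have h2 : B (c : W) c' = 0 := hc ⟨c', hc'⟩
      rw [map_add, h1, h2, add_zero, LinearMap.zero_apply]
    have hmem : (c : W) ∈ LinearMap.ker B ⊓ C := ⟨hker, c.2⟩
    rw [hC.inf_eq_bot, Submodule.mem_bot] at hmem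
    exact Subtype.ext hmem
  have hev := Cfsg.Agent.Lib.Helper43_AltEven.even_finrank_of_alt (finrank F C) C (B.restrict C)
    haltC hnd rfl
  have : finrank F W - finrank F (LinearMap.ker B) = finrank F C := by omega
  rw [this]
  exact hev

omit [Fintype ι] [DecidableEq ι] in
/-- rank-nullity for the restriction of a linear map to a subspace, in terms of subspaces of the ambient space -/
theorem finrank_map_add_finrank_inf_ker {V' : Type*} [AddCommGroup V'] [Module F V']
    [Finite ι] (f : (ι → F) →ₗ[F] V') (W : Submodule F (ι → F)) :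
    finrank F ↥(W.map f) + finrank F ↥(W ⊓ LinearMap.ker f) = finrank F W := by
  have h := LinearMap.finrank_range_add_finrank_ker (f.comp W.subtype)
  have hr : LinearMap.range (f.comp W.subtype) = W.map f := by
    rw [LinearMap.range_comp, Submodule.range_subtype]
  have hk : finrank F ↥(LinearMap.ker (f.comp W.subtype)) = finrank F ↥(W ⊓ LinearMap.ker f) := by
    have : (LinearMap.ker (f.comp W.subtype)).map W.subtype = W ⊓ LinearMap.ker f := by
      ext v
      constructor
      · rintro ⟨w, hw, rfl⟩
        exact ⟨w.2, by simpa using hw⟩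
      · rintro ⟨hvW, hvk⟩
        exact ⟨⟨v, hvW⟩, by simpa using hvk, rfl⟩
    rw [← this, Submodule.finrank_map_subtype_eq]
  rw [hr, hk] at h
  exact h

omit [Fintype ι] [DecidableEq ι] in
theorem finrank_le_inf_ker_add {V' : Type*} [AddCommGroup V'] [Module F V'] [FiniteDimensional F V']
    [Finite ι] (f : (ι → F) →ₗ[F] V') (W : Submodule F (ι → F)) :
    finrank F W ≤ finrank F ↥(W ⊓ LinearMap.ker f) + finrank F V' := by
  have h := finrank_map_add_finrank_inf_ker f W
  have h2 : finrank F ↥(W.map f) ≤ finrank F V' := Submodule.finrank_le _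
  omega

omit [Fintype ι] [DecidableEq ι] in
/-- in characteristic two a nondegenerate subspace has even dimension -/
theorem even_finrank_of_nd [Finite ι] (h2 : (2 : F) = 0) (Q : QuadraticForm F (ι → F))
    (W : Submodule F (ι → F)) (hnd : ND Q W) : Even (finrank F W) := by
  set B : LinearMap.BilinForm F W := LinearMap.BilinForm.restrict (QuadraticMap.polarBilin Q) W with hB
  have halt : B.IsAlt := by
    intro u
    rw [hB, LinearMap.BilinForm.restrict_apply, LinearMap.domRestrict_apply,
      QuadraticMap.polarBilin_apply_apply, QuadraticMap.polar_self]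
    rw [two_smul, ← two_mul, h2, zero_mul]
  have hndB : B.Nondegenerate := by
    refine (LinearMap.IsRefl.nondegenerate_iff_separatingLeft halt.isRefl).2 ?_
    intro u hu
    by_contra hne
    have hne' : (u : ι → F) ≠ 0 := fun h => hne (Subtype.ext h)
    obtain ⟨v, hv, hpv⟩ := (nd_iff Q W).1 hnd u u.2 hne'
    apply hpv
    have := hu ⟨v, hv⟩
    rw [hB, LinearMap.BilinForm.restrict_apply, LinearMap.domRestrict_apply,
      QuadraticMap.polarBilin_apply_apply] at this
    exact this
  exact Cfsg.Agent.Lib.Helper43_AltEven.even_finrank_of_alt (finrank F W) W B halt hndB rfl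

section core

variable (Q : QuadraticForm F (ι → F)) (N : Matrix ι ι F)

/-- **the rank of `N` on an invariant nondegenerate subspace is even** -/
theorem even_finrank_map
    (hiso : ∀ v : ι → F, Q (v + N *ᵥ v) = Q v) (hsing : ∀ v : ι → F, Q (N *ᵥ v) = 0)
    (W : Submodule F (ι → F)) (hW : ∀ w ∈ W, N *ᵥ w ∈ W) (hnd : ND Q W) :
    Even (finrank F ↥(W.map (Matrix.toLin' N))) := by
  classical
  set f : (ι → F) →ₗ[F] (ι → F) := Matrix.toLin' N with hf
  set B : LinearMap.BilinForm F W :=
    (QuadraticMap.polarBilin Q).compl₁₂ (f.comp W.subtype) W.subtype with hB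
  have hBapp : ∀ u w : W, B u w = QuadraticMap.polar (⇑Q) (N *ᵥ (u : ι → F)) (w : ι → F) := by
    intro u w
    rw [hB, LinearMap.compl₁₂_apply, QuadraticMap.polarBilin_apply_apply]
    simp [hf, Matrix.toLin'_apply]
  have halt : B.IsAlt := by
    intro u
    rw [hBapp, QuadraticMap.polar, add_comm, hiso, hsing]
    ring
  have hker : LinearMap.ker B = LinearMap.ker (f.comp W.subtype) := by
    ext u
    rw [LinearMap.mem_ker, LinearMap.mem_ker]
    constructor
    · intro hu
      by_contra hne
      have hne' : N *ᵥ (u : ι → F) ≠ 0 := by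
        intro h
        apply hne
        simp [hf, Matrix.toLin'_apply, h]
      obtain ⟨v, hv, hpv⟩ := (nd_iff Q W).1 hnd _ (hW u u.2) hne'
      apply hpv
      have := congrArg (fun g => g ⟨v, hv⟩) hu
      simp only [LinearMap.zero_apply] at this
      rw [hBapp] at this
      exact this
    · intro hu
      ext w
      rw [hBapp, LinearMap.zero_apply]
      have : N *ᵥ (u : ι → F) = 0 := by
        simpa [hf, Matrix.toLin'_apply] using hu
      rw [this, QuadraticMap.polar_zero_left]
  have hev := even_sub_ker_of_alt B halt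
  have h1 := LinearMap.finrank_range_add_finrank_ker (f.comp W.subtype)
  have hr : LinearMap.range (f.comp W.subtype) = W.map f := by
    rw [LinearMap.range_comp, Submodule.range_subtype]
  rw [hker] at hev
  rw [hr] at h1
  have : finrank F W - finrank F (LinearMap.ker (f.comp W.subtype)) = finrank F ↥(W.map f) := by
    omega
  rw [this] at hev
  exact hev

variable [Fintype F]

/-- **the element `1 + N` of `Ω`** -/
theorem exists_omega (h2 : (2 : F) = 0) (hQ : (QuadraticMap.polarBilin Q).Nondegenerate)
    (hn : 5 ≤ Fintype.card ι) (hNN : N * N = 0)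
    (hiso : ∀ v : ι → F, Q (v + N *ᵥ v) = Q v) (hsing : ∀ v : ι → F, Q (N *ᵥ v) = 0) :
    ∃ x : GL ι F, (x : Matrix ι ι F) = 1 + N ∧ x ∈ Cfsg.Geo.omegaGL (⇑Q) ∧
      (x : Matrix ι ι F) * (x : Matrix ι ι F) = 1 := by
  have hxx : (1 + N) * (1 + N) = 1 := by
    rw [mul_add, add_mul, add_mul, hNN, one_mul, one_mul, mul_one, add_zero, add_assoc,
      ← two_smul F N, h2, zero_smul, add_zero]
  set x : GL ι F := ⟨1 + N, 1 + N, hxx, hxx⟩ with hx
  have hxc : (x : Matrix ι ι F) = 1 + N := rfl
  refine ⟨x, hxc, ?_, by rw [hxc]; exact hxx⟩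
  have hisox : ∀ u : ι → F, Q ((x : Matrix ι ι F) *ᵥ u) = Q u := by
    intro u
    rw [hxc, Matrix.add_mulVec, Matrix.one_mulVec]
    exact hiso u
  have hmem : x ∈ Cfsg.isometryGroup F (⇑Q) :=
    (Cfsg.Agent.Lib.Helper44_Orth.mem_isometryGroup_iff (⇑Q) x).2 hisox
  refine ⟨⟨x, hmem⟩, ?_, rfl⟩
  rw [SetLike.mem_coe]
  have htt : (⟨x, hmem⟩ : ↥(Cfsg.isometryGroup F (⇑Q))) * ⟨x, hmem⟩ = 1 := by
    apply Subtype.ext
    apply Units.ext
    exact hxx
  rw [Cfsg.Agent.Lib.Helper44_Inv2.involution_mem_omega_iff h2 Q hQ hn _ htt]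
  have hsub : ((((⟨x, hmem⟩ : ↥(Cfsg.isometryGroup F (⇑Q))) : GL ι F) : Matrix ι ι F) - 1) = N := by
    show (1 + N) - 1 = N
    rw [add_sub_cancel_left]
  rw [hsub]
  have hev := even_finrank_map Q N hiso hsing ⊤ (fun _ _ => Submodule.mem_top) (nd_top Q hQ)
  have : (⊤ : Submodule F (ι → F)).map (Matrix.toLin' N) = LinearMap.range (Matrix.mulVecLin N) := by
    rw [Submodule.map_top, Matrix.toLin'_apply']
  rw [this] at hev
  exact hev

end core

/-! ### the fixed-point-free involution `2i ↔ 2i+1` -/

/-- the fixed-point-free involution `2i ↔ 2i+1` of `Fin d`, `d` even -/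
def pairSwap (d : ℕ) (hd : Even d) (i : Fin d) : Fin d :=
  ⟨if i.val % 2 = 0 then i.val + 1 else i.val - 1, by
    obtain ⟨e, he⟩ := hd
    have := i.isLt
    split_ifs <;> omega⟩

theorem pairSwap_val (d : ℕ) (hd : Even d) (i : Fin d) :
    (pairSwap d hd i).val = if i.val % 2 = 0 then i.val + 1 else i.val - 1 := rfl

theorem pairSwap_pairSwap (d : ℕ) (hd : Even d) (i : Fin d) :
    pairSwap d hd (pairSwap d hd i) = i := by
  apply Fin.ext
  rw [pairSwap_val, pairSwap_val]
  by_cases h : i.val % 2 = 0
  · rw [if_pos h, if_neg (by omega)]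
    omega
  · rw [if_neg h, if_pos (by omega)]
    omega

theorem pairSwap_ne (d : ℕ) (hd : Even d) (i : Fin d) : pairSwap d hd i ≠ i := by
  intro h
  have := congrArg Fin.val h
  rw [pairSwap_val] at this
  split_ifs at this <;> omega

/-- in characteristic two the sum of `b (π i) * b i` over a fixed-point-free involution vanishes -/
theorem sum_swap_zero (h2 : (2 : F) = 0) {k : ℕ} (π : Fin k → Fin k) (hππ : ∀ i, π (π i) = i)
    (hπ : ∀ i, π i ≠ i) (b : Fin k → F) : ∑ i, b (π i) * b i = 0 := by
  apply Finset.sum_involution (fun i _ => π i)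
  · intro i _
    rw [hππ]
    have : b (π i) * b i + b i * b (π i) = 2 * (b i * b (π i)) := by ring
    rw [this, h2, zero_mul]
  · intro i _ _
    exact hπ i
  · intro i _
    exact Finset.mem_univ _
  · intro i _
    exact hππ i

end Cfsg.Agent.Lib.Helper94_OrthC2_Core
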