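import Mathlib
import Cfsg.Prelude.Def_GeometricClasses
import Cfsg.Prelude.Def_Classical
import Cfsg.Agent.Lib.Helper13_OrthR2Defs
import Cfsg.Agent.Lib.Helper13_OrthR2_G12
import Cfsg.Agent.Lib.Helper44_StdForms
import Cfsg.Agent.Lib.Helper14_POmegaSimple
import Cfsg.Agent.Lib.Helper94_OrthC2_Core

/-!
Package DERM of helper13's ORTHC2 market (helper94): `Ω⁻_{2d}(q)`, `q` even, `d` odd.  The involution
`x = 1 + N`, `N (a, b, z) = (S b, 0, 0)` with `S` the permutation matrix of `2i ↔ 2i+1` on `Fin (d-1)`, lies in `Ω`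
and every `x`-invariant nondegenerate subspace not of plus type has dimension `≡ 2 (mod 4)`.
-/

set_option autoImplicit false
open scoped MatrixGroups

namespace Cfsg.Agent.Lib.Helper94_OrthC2_DERM

open Matrix Module Cfsg.Agent.Lib.Helper13_OrthR2Defs Cfsg.Agent.Lib.Helper44_StdForms
open Cfsg.Agent.Lib.Helper94_OrthC2_Core

variable {F : Type*} [Field F]

/-- the nilpotent map `(a, b, z) ↦ (b ∘ π, 0, 0)` -/
def Nlin (k : ℕ) (π : Fin k → Fin k) :
    ((Fin k ⊕ Fin k) ⊕ Fin 2 → F) →ₗ[F] ((Fin k ⊕ Fin k) ⊕ Fin 2 → F) :=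
  LinearMap.pi (fun r => Sum.elim
    (fun r' => Sum.elim (fun i => LinearMap.proj (Sum.inl (Sum.inr (π i)))) (fun _ => 0) r')
    (fun _ => 0) r)

theorem Nlin_a (k : ℕ) (π : Fin k → Fin k) (v : (Fin k ⊕ Fin k) ⊕ Fin 2 → F) (i : Fin k) :
    Nlin k π v (Sum.inl (Sum.inl i)) = v (Sum.inl (Sum.inr (π i))) := rfl

theorem Nlin_b (k : ℕ) (π : Fin k → Fin k) (v : (Fin k ⊕ Fin k) ⊕ Fin 2 → F) (i : Fin k) :
    Nlin k π v (Sum.inl (Sum.inr i)) = 0 := rfl

theorem Nlin_z (k : ℕ) (π : Fin k → Fin k) (v : (Fin k ⊕ Fin k) ⊕ Fin 2 → F) (j : Fin 2) :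
    Nlin k π v (Sum.inr j) = 0 := rfl

/-- DERM -/
theorem DERM [Fintype F] (h2 : (2 : F) = 0) (d : ℕ) (hd : Odd d) (hd3 : 3 ≤ d) (a b : F)
    (hab : ∀ z₁ z₂ : F, z₁ ^ 2 + a * z₁ * z₂ + b * z₂ ^ 2 = 0 → z₁ = 0 ∧ z₂ = 0) :
    ∃ x : GL ((Fin (d - 1) ⊕ Fin (d - 1)) ⊕ Fin 2) F,
      x ∈ Cfsg.Geo.omegaGL (⇑(qfMinus (d - 1) F a b)) ∧
      (x : Matrix ((Fin (d - 1) ⊕ Fin (d - 1)) ⊕ Fin 2) ((Fin (d - 1) ⊕ Fin (d - 1)) ⊕ Fin 2) F) *
        (x : Matrix ((Fin (d - 1) ⊕ Fin (d - 1)) ⊕ Fin 2) ((Fin (d - 1) ⊕ Fin (d - 1)) ⊕ Fin 2) F) = 1 ∧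
      (x : Matrix ((Fin (d - 1) ⊕ Fin (d - 1)) ⊕ Fin 2) ((Fin (d - 1) ⊕ Fin (d - 1)) ⊕ Fin 2) F) ≠ 1 ∧
      ∀ W : Submodule F ((Fin (d - 1) ⊕ Fin (d - 1)) ⊕ Fin 2 → F),
        Inv (x : Matrix ((Fin (d - 1) ⊕ Fin (d - 1)) ⊕ Fin 2) ((Fin (d - 1) ⊕ Fin (d - 1)) ⊕ Fin 2) F) W →
          ND (qfMinus (d - 1) F a b) W → ¬ Plus (qfMinus (d - 1) F a b) W →
            finrank F W % 4 = 2 := by
  classical
  have hk : Even (d - 1) := by
    obtain ⟨e, he⟩ := hd
    exact ⟨e, by omega⟩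
  set k : ℕ := d - 1 with hkdef
  set π : Fin k → Fin k := pairSwap k hk with hπdef
  have hππ : ∀ i, π (π i) = i := pairSwap_pairSwap k hk
  have hπne : ∀ i, π i ≠ i := pairSwap_ne k hk
  set f : ((Fin k ⊕ Fin k) ⊕ Fin 2 → F) →ₗ[F] ((Fin k ⊕ Fin k) ⊕ Fin 2 → F) := Nlin k π with hf
  set N : Matrix ((Fin k ⊕ Fin k) ⊕ Fin 2) ((Fin k ⊕ Fin k) ⊕ Fin 2) F :=
    LinearMap.toMatrix' f with hN
  have hNv : ∀ v, N *ᵥ v = f v := fun v => LinearMap.toMatrix'_mulVec f v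
  have hff : ∀ v, f (f v) = 0 := by
    intro v
    funext r
    rcases r with (i | i) | j
    · rw [hf, Nlin_a, Nlin_b]; rfl
    · rw [hf, Nlin_b]; rfl
    · rw [hf, Nlin_z]; rfl
  have hNN : N * N = 0 := by
    rw [hN, ← LinearMap.toMatrix'_mul]
    have : f * f = 0 := by
      apply LinearMap.ext
      intro v
      rw [Module.End.mul_apply, hff, LinearMap.zero_apply]
    rw [this, map_zero]
  have hQ : (QuadraticMap.polarBilin (qfMinus k F a b)).Nondegenerate :=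
    Cfsg.Agent.Lib.Helper14_POmegaSimple.nondegenerate_qfMinus (F := F) k a b hab
  have hQapp : ∀ v : (Fin k ⊕ Fin k) ⊕ Fin 2 → F,
      qfMinus k F a b v = (∑ i : Fin k, v (Sum.inl (Sum.inl i)) * v (Sum.inl (Sum.inr i)))
        + (v (Sum.inr 0) ^ 2 + a * v (Sum.inr 0) * v (Sum.inr 1) + b * v (Sum.inr 1) ^ 2) := by
    intro v
    rw [coe_qfMinus]
    rfl
  have hsing : ∀ v : (Fin k ⊕ Fin k) ⊕ Fin 2 → F, qfMinus k F a b (N *ᵥ v) = 0 := by
    intro v
    rw [hNv, hQapp]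
    have h1 : ∑ i : Fin k, f v (Sum.inl (Sum.inl i)) * f v (Sum.inl (Sum.inr i)) = 0 := by
      apply Finset.sum_eq_zero
      intro i _
      rw [hf, Nlin_b, mul_zero]
    rw [h1, hf, Nlin_z, Nlin_z]
    ring
  have hiso : ∀ v : (Fin k ⊕ Fin k) ⊕ Fin 2 → F,
      qfMinus k F a b (v + N *ᵥ v) = qfMinus k F a b v := by
    intro v
    rw [hNv, hQapp, hQapp]
    have hterm : ∀ i : Fin k,
        (v + f v) (Sum.inl (Sum.inl i)) * (v + f v) (Sum.inl (Sum.inr i))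
        = v (Sum.inl (Sum.inl i)) * v (Sum.inl (Sum.inr i))
          + v (Sum.inl (Sum.inr (π i))) * v (Sum.inl (Sum.inr i)) := by
      intro i
      rw [Pi.add_apply, Pi.add_apply, hf, Nlin_a, Nlin_b]
      ring
    rw [Finset.sum_congr rfl (fun i _ => hterm i), Finset.sum_add_distrib,
      sum_swap_zero h2 π hππ hπne (fun i => v (Sum.inl (Sum.inr i))), add_zero]
    rw [Pi.add_apply, Pi.add_apply, hf, Nlin_z, Nlin_z, add_zero, add_zero]
  have hn : 5 ≤ Fintype.card ((Fin k ⊕ Fin k) ⊕ Fin 2) := by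
    rw [Fintype.card_sum, Fintype.card_sum, Fintype.card_fin, Fintype.card_fin]
    omega
  obtain ⟨x, hxc, hxO, hxx⟩ := exists_omega (qfMinus k F a b) N h2 hQ hn hNN hiso hsing
  refine ⟨x, hxO, hxx, ?_, ?_⟩
  · intro h1
    rw [hxc] at h1
    have hN0 : N = 0 := by
      have := congrArg (fun M => M - 1) h1
      simpa using this
    have i0 : Fin k := ⟨0, by omega⟩
    have h := hNv (Pi.single (Sum.inl (Sum.inr (π i0))) 1)
    rw [hN0, Matrix.zero_mulVec] at h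
    have h' := congrFun h (Sum.inl (Sum.inl i0))
    rw [hf, Nlin_a, Pi.single_eq_same, Pi.zero_apply] at h'
    exact one_ne_zero h'.symm
  · intro W hinv hnd hnp
    have hWN : ∀ w ∈ W, N *ᵥ w ∈ W := by
      intro w hw
      have h := (inv_iff _ W).1 hinv w hw
      rw [hxc, Matrix.add_mulVec, Matrix.one_mulVec] at h
      have := W.sub_mem h hw
      rwa [add_sub_cancel_left] at this
    have hev := even_finrank_map (qfMinus k F a b) N hiso hsing W hWN hnd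
    have hevW := even_finrank_of_nd h2 (qfMinus k F a b) W hnd
    -- the projection to the anisotropic plane
    set g : ((Fin k ⊕ Fin k) ⊕ Fin 2 → F) →ₗ[F] (Fin 2 → F) :=
      LinearMap.funLeft F F (Sum.inr : Fin 2 → (Fin k ⊕ Fin k) ⊕ Fin 2) with hg
    set K : Submodule F ((Fin k ⊕ Fin k) ⊕ Fin 2 → F) := LinearMap.ker (Matrix.toLin' N) with hK
    set W' : Submodule F ((Fin k ⊕ Fin k) ⊕ Fin 2 → F) := W ⊓ K with hW'
    set E : Submodule F ((Fin k ⊕ Fin k) ⊕ Fin 2 → F) := W' ⊓ LinearMap.ker g with hE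
    have hKmem : ∀ v, v ∈ K ↔ ∀ i : Fin k, v (Sum.inl (Sum.inr i)) = 0 := by
      intro v
      rw [hK, LinearMap.mem_ker, Matrix.toLin'_apply, hNv]
      constructor
      · intro hv i
        have := congrFun hv (Sum.inl (Sum.inl (π i)))
        rw [hf, Nlin_a, hππ, Pi.zero_apply] at this
        exact this
      · intro hv
        funext r
        rcases r with (i | i) | j
        · rw [hf, Nlin_a, hv]; rfl
        · rw [hf, Nlin_b]; rfl
        · rw [hf, Nlin_z]; rfl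
    have hgmem : ∀ v, v ∈ LinearMap.ker g ↔ ∀ j : Fin 2, v (Sum.inr j) = 0 := by
      intro v
      rw [LinearMap.mem_ker]
      constructor
      · intro hv j
        have := congrFun hv j
        rw [hg, LinearMap.funLeft_apply, Pi.zero_apply] at this
        exact this
      · intro hv
        funext j
        rw [hg, LinearMap.funLeft_apply, hv]
        rfl
    have hETS : TS (qfMinus k F a b) E := by
      intro v hv
      have hvK : v ∈ K := (Submodule.mem_inf.1 (Submodule.mem_inf.1 hv).1).2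
      have hvg : v ∈ LinearMap.ker g := (Submodule.mem_inf.1 hv).2
      rw [hKmem] at hvK
      rw [hgmem] at hvg
      rw [hQapp]
      have h1 : ∑ i : Fin k, v (Sum.inl (Sum.inl i)) * v (Sum.inl (Sum.inr i)) = 0 := by
        apply Finset.sum_eq_zero
        intro i _
        rw [hvK, mul_zero]
      rw [h1, hvg, hvg]
      ring
    have hEW : E ≤ W := fun v hv => (Submodule.mem_inf.1 (Submodule.mem_inf.1 hv).1).1
    have hle : W.map (Matrix.toLin' N) ≤ E := by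
      rintro _ ⟨w, hw, rfl⟩
      rw [Matrix.toLin'_apply, hNv]
      refine Submodule.mem_inf.2 ⟨Submodule.mem_inf.2 ⟨?_, ?_⟩, ?_⟩
      · rw [← hNv]
        exact hWN w hw
      · rw [hKmem]
        intro i
        rw [hf, Nlin_b]
      · rw [hgmem]
        intro j
        rw [hf, Nlin_z]
    have h1 : finrank F ↥(W.map (Matrix.toLin' N)) + finrank F ↥W' = finrank F W :=
      finrank_map_add_finrank_inf_ker (Matrix.toLin' N) W
    have h2' := Submodule.finrank_mono hle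
    have h3 := Cfsg.Agent.Lib.Helper13_OrthR2_G12.G3 (qfMinus k F a b) W hnd E hEW hETS
    have h4 : finrank F ↥W' ≤ finrank F ↥E + finrank F (Fin 2 → F) :=
      finrank_le_inf_ker_add g W'
    have h5 : finrank F (Fin 2 → F) = 2 := by
      rw [Module.finrank_pi, Fintype.card_fin]
    have h6 : 2 * finrank F ↥E ≠ finrank F W := by
      intro h
      exact hnp ⟨E, hEW, hETS, h⟩
    obtain ⟨t, ht⟩ := hev
    obtain ⟨s, hs⟩ := hevW
    omega

end Cfsg.Agent.Lib.Helper94_OrthC2_DERM
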