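import Mathlib
import Cfsg.Prelude.Def_GeometricClasses
import Cfsg.Prelude.Def_Classical
import Cfsg.Agent.Lib.Helper13_OrthR2Defs
import Cfsg.Agent.Lib.Helper13_OrthR2_G12
import Cfsg.Agent.Lib.Helper44_StdForms
import Cfsg.Agent.Lib.Helper14_POmegaSimple
import Cfsg.Agent.Lib.Helper94_OrthC2_Core

/-!
Package DERP of helper13's ORTHC2 market (helper94): `Ω⁺_{2d}(q)`, `q` even, `d` even.  The involution
`x = 1 + N`, `N (a, b) = (S b, 0)` with `S` the permutation matrix of `2i ↔ 2i+1`, lies in `Ω` and every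
`x`-invariant nondegenerate subspace has dimension divisible by four.
-/

set_option autoImplicit false
open scoped MatrixGroups

namespace Cfsg.Agent.Lib.Helper94_OrthC2_DERP

open Matrix Module Cfsg.Agent.Lib.Helper13_OrthR2Defs Cfsg.Agent.Lib.Helper44_StdForms
open Cfsg.Agent.Lib.Helper94_OrthC2_Core

variable {F : Type*} [Field F]

/-- the nilpotent map `(a, b) ↦ (b ∘ π, 0)` -/
def Nlin (d : ℕ) (π : Fin d → Fin d) : (Fin d ⊕ Fin d → F) →ₗ[F] (Fin d ⊕ Fin d → F) :=
  LinearMap.pi (fun r => Sum.elim (fun i => LinearMap.proj (Sum.inr (π i))) (fun _ => 0) r)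

theorem Nlin_inl (d : ℕ) (π : Fin d → Fin d) (v : Fin d ⊕ Fin d → F) (i : Fin d) :
    Nlin d π v (Sum.inl i) = v (Sum.inr (π i)) := rfl

theorem Nlin_inr (d : ℕ) (π : Fin d → Fin d) (v : Fin d ⊕ Fin d → F) (i : Fin d) :
    Nlin d π v (Sum.inr i) = 0 := rfl

/-- DERP -/
theorem DERP [Fintype F] (h2 : (2 : F) = 0) (d : ℕ) (hd : Even d) (hd3 : 3 ≤ d) :
    ∃ x : GL (Fin d ⊕ Fin d) F, x ∈ Cfsg.Geo.omegaGL (⇑(qfPlus d F)) ∧
      (x : Matrix (Fin d ⊕ Fin d) (Fin d ⊕ Fin d) F) * (x : Matrix (Fin d ⊕ Fin d) (Fin d ⊕ Fin d) F) = 1 ∧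
      (x : Matrix (Fin d ⊕ Fin d) (Fin d ⊕ Fin d) F) ≠ 1 ∧
      ∀ W : Submodule F (Fin d ⊕ Fin d → F),
        Inv (x : Matrix (Fin d ⊕ Fin d) (Fin d ⊕ Fin d) F) W → ND (qfPlus d F) W →
          4 ∣ finrank F W := by
  classical
  set π : Fin d → Fin d := pairSwap d hd with hπdef
  have hππ : ∀ i, π (π i) = i := pairSwap_pairSwap d hd
  have hπne : ∀ i, π i ≠ i := pairSwap_ne d hd
  set f : (Fin d ⊕ Fin d → F) →ₗ[F] (Fin d ⊕ Fin d → F) := Nlin d π with hf
  set N : Matrix (Fin d ⊕ Fin d) (Fin d ⊕ Fin d) F := LinearMap.toMatrix' f with hN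
  have hNv : ∀ v, N *ᵥ v = f v := fun v => LinearMap.toMatrix'_mulVec f v
  have hff : ∀ v, f (f v) = 0 := by
    intro v
    funext r
    rcases r with i | i
    · rw [hf, Nlin_inl, Nlin_inr]; rfl
    · rw [hf, Nlin_inr]; rfl
  have hNN : N * N = 0 := by
    rw [hN, ← LinearMap.toMatrix'_mul]
    have : f * f = 0 := by
      apply LinearMap.ext
      intro v
      rw [Module.End.mul_apply, hff, LinearMap.zero_apply]
    rw [this, map_zero]
  have hQ : (QuadraticMap.polarBilin (qfPlus d F)).Nondegenerate :=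
    Cfsg.Agent.Lib.Helper14_POmegaSimple.nondegenerate_qfPlus (F := F) d
  have hQapp : ∀ v : Fin d ⊕ Fin d → F,
      qfPlus d F v = ∑ i : Fin d, v (Sum.inl i) * v (Sum.inr i) := by
    intro v
    rw [coe_qfPlus]
    rfl
  have hsing : ∀ v : Fin d ⊕ Fin d → F, qfPlus d F (N *ᵥ v) = 0 := by
    intro v
    rw [hNv, hQapp]
    apply Finset.sum_eq_zero
    intro i _
    rw [hf, Nlin_inr, mul_zero]
  have hiso : ∀ v : Fin d ⊕ Fin d → F, qfPlus d F (v + N *ᵥ v) = qfPlus d F v := by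
    intro v
    rw [hNv, hQapp, hQapp]
    have hterm : ∀ i : Fin d, (v + f v) (Sum.inl i) * (v + f v) (Sum.inr i)
        = v (Sum.inl i) * v (Sum.inr i) + v (Sum.inr (π i)) * v (Sum.inr i) := by
      intro i
      rw [Pi.add_apply, Pi.add_apply, hf, Nlin_inl, Nlin_inr]
      ring
    rw [Finset.sum_congr rfl (fun i _ => hterm i), Finset.sum_add_distrib,
      sum_swap_zero h2 π hππ hπne (fun i => v (Sum.inr i)), add_zero]
  have hn : 5 ≤ Fintype.card (Fin d ⊕ Fin d) := by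
    rw [Fintype.card_sum, Fintype.card_fin]
    omega
  obtain ⟨x, hxc, hxO, hxx⟩ := exists_omega (qfPlus d F) N h2 hQ hn hNN hiso hsing
  refine ⟨x, hxO, hxx, ?_, ?_⟩
  · intro h1
    rw [hxc] at h1
    have hN0 : N = 0 := by
      have := congrArg (fun M => M - 1) h1
      simpa using this
    have i0 : Fin d := ⟨0, by omega⟩
    have h := hNv (Pi.single (Sum.inr (π i0)) 1)
    rw [hN0, Matrix.zero_mulVec] at h
    have h' := congrFun h (Sum.inl i0)
    rw [hf, Nlin_inl, Pi.single_eq_same, Pi.zero_apply] at h'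
    exact one_ne_zero h'.symm
  · intro W hinv hnd
    have hWN : ∀ w ∈ W, N *ᵥ w ∈ W := by
      intro w hw
      have h := (inv_iff _ W).1 hinv w hw
      rw [hxc, Matrix.add_mulVec, Matrix.one_mulVec] at h
      have := W.sub_mem h hw
      rwa [add_sub_cancel_left] at this
    have hev := even_finrank_map (qfPlus d F) N hiso hsing W hWN hnd
    set E : Submodule F (Fin d ⊕ Fin d → F) := LinearMap.ker (Matrix.toLin' N) with hE
    have hETS : TS (qfPlus d F) E := by
      intro v hv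
      rw [hE, LinearMap.mem_ker, Matrix.toLin'_apply, hNv] at hv
      rw [hQapp]
      apply Finset.sum_eq_zero
      intro i _
      have := congrFun hv (Sum.inl (π i))
      rw [hf, Nlin_inl, hππ, Pi.zero_apply] at this
      rw [this, mul_zero]
    have hle : W.map (Matrix.toLin' N) ≤ W ⊓ E := by
      rintro _ ⟨w, hw, rfl⟩
      refine Submodule.mem_inf.2 ⟨?_, ?_⟩
      · rw [Matrix.toLin'_apply]
        exact hWN w hw
      · rw [hE, LinearMap.mem_ker, Matrix.toLin'_apply, Matrix.toLin'_apply, Matrix.mulVec_mulVec,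
          hNN, Matrix.zero_mulVec]
    have h1 : finrank F ↥(W.map (Matrix.toLin' N)) + finrank F ↥(W ⊓ E) = finrank F W :=
      finrank_map_add_finrank_inf_ker (Matrix.toLin' N) W
    have h2' := Submodule.finrank_mono hle
    have h3 := Cfsg.Agent.Lib.Helper13_OrthR2_G12.G3 (qfPlus d F) W hnd (W ⊓ E) inf_le_left
      (fun v hv => hETS v hv.2)
    obtain ⟨t, ht⟩ := hev
    exact ⟨t, by omega⟩

end Cfsg.Agent.Lib.Helper94_OrthC2_DERP
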