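import Mathlib
import Cfsg.Prelude.Def_GeometricClasses
import Cfsg.Prelude.Def_Classical
import Cfsg.Agent.Lib.Helper13_OrthR2Defs
import Cfsg.Agent.Lib.Helper44_StdForms
import Cfsg.Agent.Lib.Helper94_OrthC2_DERM
import Cfsg.Agent.Lib.Helper94_OrthC2_DERP
import Cfsg.Agent.Lib.Helper47_OrthC2_MCM
import Cfsg.Agent.Lib.Helper47_OrthC2_MAM
import Cfsg.Agent.Lib.Helper60_OrthC2_MCP
import Cfsg.Agent.Lib.Helper60_OrthC2_MAP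
import Cfsg.Agent.Lib.Helper85_OrthC2_TR
import Cfsg.Agent.Lib.Helper85_OrthC2_RK
import Cfsg.Agent.Lib.Helper32_OrthC2_OM2

set_option autoImplicit false
open scoped MatrixGroups

namespace Cfsg.Agent.Lib.Helper13_OrthC2Pk

open Matrix Module Cfsg.Agent.Lib.Helper13_OrthR2Defs Cfsg.Agent.Lib.Helper44_StdForms

variable {ι : Type} [Fintype ι] [DecidableEq ι] {F : Type*} [Field F]

/-! ## general glue (characteristic two) -/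

/-- OM2 -/
theorem OM2 [Fintype F] (h2 : (2 : F) = 0) (Q : QuadraticForm F (ι → F))
    (hQ : (QuadraticMap.polarBilin Q).Nondegenerate) (hn : 5 ≤ Fintype.card ι) (x : GL ι F)
    (hiso : ∀ v : ι → F, Q ((x : Matrix ι ι F) *ᵥ v) = Q v)
    (hxx : (x : Matrix ι ι F) * (x : Matrix ι ι F) = 1) :
    x ∈ Cfsg.Geo.omegaGL (⇑Q) ↔ Even ((x : Matrix ι ι F) - 1).rank :=
  Cfsg.Agent.Lib.Helper32_OrthC2_OM2.OM2 h2 Q hQ hn x hiso hxx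

/-- RK -/
theorem RK (h2 : (2 : F) = 0) (Q : QuadraticForm F (ι → F))
    (hQ : (QuadraticMap.polarBilin Q).Nondegenerate) (x : Matrix ι ι F)
    (hiso : ∀ v : ι → F, Q (x *ᵥ v) = Q v) (hxx : x * x = 1) :
    2 * (x - 1).rank ≤ Fintype.card ι ∧
    ((∀ v : ι → F, Q ((x - 1) *ᵥ v) = 0) →
      ∃ E : Submodule F (ι → F), TS Q E ∧ finrank F E = (x - 1).rank) :=
  Cfsg.Agent.Lib.Helper85_OrthC2_RK.RK h2 Q hQ x hiso hxx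

/-- TR -/
theorem TR (Q : QuadraticForm F (ι → F)) (g : GL ι F)
    (hg : ∀ v : ι → F, Q ((g : Matrix ι ι F) *ᵥ v) = Q v) (T S : Matrix ι ι F)
    (hconj : (g : Matrix ι ι F) * T = S * (g : Matrix ι ι F)) (W : Submodule F (ι → F)) :
    finrank F ↥(W.map (Matrix.toLin' (g : Matrix ι ι F))) = finrank F W ∧
    (ND Q (W.map (Matrix.toLin' (g : Matrix ι ι F))) ↔ ND Q W) ∧
    (Plus Q (W.map (Matrix.toLin' (g : Matrix ι ι F))) ↔ Plus Q W) ∧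
    (TS Q (W.map (Matrix.toLin' (g : Matrix ι ι F))) ↔ TS Q W) ∧
    (Inv T W → Inv S (W.map (Matrix.toLin' (g : Matrix ι ι F)))) :=
  Cfsg.Agent.Lib.Helper85_OrthC2_TR.TR Q g hg T S hconj W

/-! ## models of the involution classes on the standard forms -/

/-- MAP -/
theorem MAP (h2 : (2 : F) = 0) (d s : ℕ) (hs : Even s) (hs0 : 0 < s) (hsd : s ≤ d) :
    ∃ T : Matrix (Fin d ⊕ Fin d) (Fin d ⊕ Fin d) F,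
      (∀ v, qfPlus d F (T *ᵥ v) = qfPlus d F v) ∧ T * T = 1 ∧ (T - 1).rank = s ∧
      (∀ v, qfPlus d F ((T - 1) *ᵥ v) = 0) ∧
      ∀ m : ℕ, Even m → m ≤ 2 * d → (4 ∣ m ∨ s < d) →
        ∃ W : Submodule F (Fin d ⊕ Fin d → F),
          (finrank F W = m ∧ ND (qfPlus d F) W ∧ Plus (qfPlus d F) W) ∧ Inv T W :=
  Cfsg.Agent.Lib.Helper60_OrthC2_MAP.MAP h2 d s hs hs0 hsd

/-- MCP -/
theorem MCP (h2 : (2 : F) = 0) (d s : ℕ) (hs0 : 0 < s) (hsd : s ≤ d) :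
    ∃ T : Matrix (Fin d ⊕ Fin d) (Fin d ⊕ Fin d) F,
      (∀ v, qfPlus d F (T *ᵥ v) = qfPlus d F v) ∧ T * T = 1 ∧ (T - 1).rank = s ∧
      (∃ v, qfPlus d F ((T - 1) *ᵥ v) ≠ 0) ∧
      ∀ m : ℕ, Even m → m ≤ 2 * d →
        ∃ W : Submodule F (Fin d ⊕ Fin d → F),
          (finrank F W = m ∧ ND (qfPlus d F) W ∧ Plus (qfPlus d F) W) ∧ Inv T W :=
  Cfsg.Agent.Lib.Helper60_OrthC2_MCP.MCP h2 d s hs0 hsd

/-- MAM -/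
theorem MAM [Fintype F] (h2 : (2 : F) = 0) (d s : ℕ) (a b : F)
    (hab : ∀ z₁ z₂ : F, z₁ ^ 2 + a * z₁ * z₂ + b * z₂ ^ 2 = 0 → z₁ = 0 ∧ z₂ = 0)
    (hs : Even s) (hs0 : 0 < s) (hsd : s + 1 ≤ d) :
    ∃ T : Matrix ((Fin (d - 1) ⊕ Fin (d - 1)) ⊕ Fin 2) ((Fin (d - 1) ⊕ Fin (d - 1)) ⊕ Fin 2) F,
      (∀ v, qfMinus (d - 1) F a b (T *ᵥ v) = qfMinus (d - 1) F a b v) ∧ T * T = 1 ∧
      (T - 1).rank = s ∧ (∀ v, qfMinus (d - 1) F a b ((T - 1) *ᵥ v) = 0) ∧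
      ∀ m : ℕ, Even m → 2 ≤ m → m ≤ 2 * d → (m % 4 = 2 ∨ s + 1 < d) →
        ∃ W : Submodule F ((Fin (d - 1) ⊕ Fin (d - 1)) ⊕ Fin 2 → F),
          (finrank F W = m ∧ ND (qfMinus (d - 1) F a b) W ∧ ¬ Plus (qfMinus (d - 1) F a b) W) ∧
            Inv T W :=
  Cfsg.Agent.Lib.Helper47_OrthC2_MAM.MAM h2 d s a b hab hs hs0 hsd

/-- MCM -/
theorem MCM [Fintype F] (h2 : (2 : F) = 0) (d s : ℕ) (a b : F)
    (hab : ∀ z₁ z₂ : F, z₁ ^ 2 + a * z₁ * z₂ + b * z₂ ^ 2 = 0 → z₁ = 0 ∧ z₂ = 0)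
    (hd : 1 ≤ d) (hs0 : 0 < s) (hsd : s ≤ d) :
    ∃ T : Matrix ((Fin (d - 1) ⊕ Fin (d - 1)) ⊕ Fin 2) ((Fin (d - 1) ⊕ Fin (d - 1)) ⊕ Fin 2) F,
      (∀ v, qfMinus (d - 1) F a b (T *ᵥ v) = qfMinus (d - 1) F a b v) ∧ T * T = 1 ∧
      (T - 1).rank = s ∧ (∃ v, qfMinus (d - 1) F a b ((T - 1) *ᵥ v) ≠ 0) ∧
      ∀ m : ℕ, Even m → 2 ≤ m → m ≤ 2 * d →
        ∃ W : Submodule F ((Fin (d - 1) ⊕ Fin (d - 1)) ⊕ Fin 2 → F),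
          (finrank F W = m ∧ ND (qfMinus (d - 1) F a b) W ∧ ¬ Plus (qfMinus (d - 1) F a b) W) ∧
            Inv T W :=
  Cfsg.Agent.Lib.Helper47_OrthC2_MCM.MCM h2 d s a b hab hd hs0 hsd

/-! ## derangements -/

/-- DERP -/
theorem DERP [Fintype F] (h2 : (2 : F) = 0) (d : ℕ) (hd : Even d) (hd3 : 3 ≤ d) :
    ∃ x : GL (Fin d ⊕ Fin d) F, x ∈ Cfsg.Geo.omegaGL (⇑(qfPlus d F)) ∧
      (x : Matrix (Fin d ⊕ Fin d) (Fin d ⊕ Fin d) F) * (x : Matrix (Fin d ⊕ Fin d) (Fin d ⊕ Fin d) F) = 1 ∧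
      (x : Matrix (Fin d ⊕ Fin d) (Fin d ⊕ Fin d) F) ≠ 1 ∧
      ∀ W : Submodule F (Fin d ⊕ Fin d → F),
        Inv (x : Matrix (Fin d ⊕ Fin d) (Fin d ⊕ Fin d) F) W → ND (qfPlus d F) W →
          4 ∣ finrank F W :=
  Cfsg.Agent.Lib.Helper94_OrthC2_DERP.DERP h2 d hd hd3

/-- DERM -/
theorem DERM [Fintype F] (h2 : (2 : F) = 0) (d : ℕ) (hd : Odd d) (hd3 : 3 ≤ d) (a b : F)
    (hab : ∀ z₁ z₂ : F, z₁ ^ 2 + a * z₁ * z₂ + b * z₂ ^ 2 = 0 → z₁ = 0 ∧ z₂ = 0) :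
    ∃ x : GL ((Fin (d - 1) ⊕ Fin (d - 1)) ⊕ Fin 2) F,
      x ∈ Cfsg.Geo.omegaGL (⇑(qfMinus (d - 1) F a b)) ∧
      (x : Matrix ((Fin (d - 1) ⊕ Fin (d - 1)) ⊕ Fin 2) ((Fin (d - 1) ⊕ Fin (d - 1)) ⊕ Fin 2) F) *
        (x : Matrix ((Fin (d - 1) ⊕ Fin (d - 1)) ⊕ Fin 2) ((Fin (d - 1) ⊕ Fin (d - 1)) ⊕ Fin 2) F) = 1 ∧
      (x : Matrix ((Fin (d - 1) ⊕ Fin (d - 1)) ⊕ Fin 2) ((Fin (d - 1) ⊕ Fin (d - 1)) ⊕ Fin 2) F) ≠ 1 ∧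
      ∀ W : Submodule F ((Fin (d - 1) ⊕ Fin (d - 1)) ⊕ Fin 2 → F),
        Inv (x : Matrix ((Fin (d - 1) ⊕ Fin (d - 1)) ⊕ Fin 2) ((Fin (d - 1) ⊕ Fin (d - 1)) ⊕ Fin 2) F) W →
          ND (qfMinus (d - 1) F a b) W → ¬ Plus (qfMinus (d - 1) F a b) W →
            finrank F W % 4 = 2 :=
  Cfsg.Agent.Lib.Helper94_OrthC2_DERM.DERM h2 d hd hd3 a b hab

end Cfsg.Agent.Lib.Helper13_OrthC2Pk
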