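import Mathlib
import Cfsg.Prelude.Def_GeometricClasses
import Cfsg.Prelude.Def_Classical
import Cfsg.Agent.Lib.Helper13_OrthR2Defs
import Cfsg.Agent.Lib.Helper40_QuadStd
import Cfsg.Agent.Lib.Helper14_POmegaSimple

/-!
Glue for the `r = 2` case theorems of the even-dimensional orthogonal rows (helper13):
number theory of squares in a finite field of odd order, the standard forms, small subspace lemmas.
-/

set_option autoImplicit false
open scoped MatrixGroups

namespace Cfsg.Agent.Lib.Helper13_OrthR2Glue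

open Matrix Module Cfsg.Agent.Lib.Helper13_OrthR2Defs Cfsg.Agent.Lib.Helper44_StdForms

section numbers

variable {F : Type*} [Field F] [Fintype F]

omit [Fintype F] in
theorem two_ne_zero_of_char {p : ℕ} [Fact p.Prime] [CharP F p] (hp2 : p ≠ 2) : (2 : F) ≠ 0 := by
  intro h
  have h1 : ((2 : ℕ) : F) = 0 := by
    rw [Nat.cast_ofNat]; exact h
  rw [CharP.cast_eq_zero_iff F p] at h1
  have hpp : p.Prime := Fact.out
  exact hp2 ((Nat.prime_dvd_prime_iff_eq hpp Nat.prime_two).1 h1)

omit [Fintype F] in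
theorem char_ne_two_of_two_ne_zero {p : ℕ} [Fact p.Prime] [CharP F p] (h2 : (2 : F) ≠ 0) : p ≠ 2 := by
  rintro rfl
  apply h2
  have : ((2 : ℕ) : F) = 0 := CharP.cast_eq_zero F 2
  rwa [Nat.cast_ofNat] at this

theorem card_odd (h2 : (2 : F) ≠ 0) : Fintype.card F % 2 = 1 := by
  have : ringChar F ≠ 2 := by
    intro h
    apply h2
    have : ((2 : ℕ) : F) = 0 := by
      rw [← h]; exact ringChar.Nat.cast_ringChar
    rwa [Nat.cast_ofNat] at this
  exact FiniteField.odd_card_of_char_ne_two this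

theorem isSquare_neg_one_iff (h2 : (2 : F) ≠ 0) :
    IsSquare (-1 : F) ↔ Fintype.card F % 4 = 1 := by
  rw [FiniteField.isSquare_neg_one_iff]
  have := card_odd h2
  omega

theorem isSquare_two_iff (h2 : (2 : F) ≠ 0) :
    IsSquare (2 : F) ↔ (Fintype.card F % 8 = 1 ∨ Fintype.card F % 8 = 7) := by
  rw [FiniteField.isSquare_two_iff]
  have := card_odd h2
  omega

omit [Fintype F] in
theorem isSquare_pow_iff {a : F} (ha : a ≠ 0) (d : ℕ) :
    IsSquare (a ^ d) ↔ (Even d ∨ IsSquare a) := by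
  constructor
  · intro h
    rcases Nat.even_or_odd d with he | ho
    · exact Or.inl he
    · right
      obtain ⟨k, rfl⟩ := ho
      obtain ⟨s, hs⟩ := h
      refine ⟨s / a ^ k, ?_⟩
      have hak : a ^ k ≠ 0 := pow_ne_zero _ ha
      field_simp
      linear_combination hs
  · rintro (⟨k, rfl⟩ | ⟨s, rfl⟩)
    · exact ⟨a ^ k, by rw [← pow_add]⟩
    · exact ⟨s ^ d, by rw [mul_pow]⟩

omit [Fintype F] in
theorem isSquare_neg_one_pow_iff (d : ℕ) :
    IsSquare ((-1 : F) ^ d) ↔ (Even d ∨ IsSquare (-1 : F)) :=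
  isSquare_pow_iff (neg_ne_zero.2 one_ne_zero) d

omit [Fintype F] in
theorem isSquare_two_pow_iff (h2 : (2 : F) ≠ 0) (d : ℕ) :
    IsSquare ((2 : F) ^ d) ↔ (Even d ∨ IsSquare (2 : F)) :=
  isSquare_pow_iff h2 d

end numbers

section std

variable {F : Type*} [Field F]

theorem plus_top_iff_isHyp {ι : Type} [Fintype ι] (Q : QuadraticForm F (ι → F))
    (he : Even (Fintype.card ι)) :
    Plus Q ⊤ ↔ Cfsg.Agent.Lib.Helper40_QuadIso.IsHyp Q := by
  constructor
  · rintro ⟨U, -, hU, hdim⟩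
    refine ⟨U, hU, ?_⟩
    rw [finrank_top] at hdim
    omega
  · rintro ⟨U, hU, hdim⟩
    obtain ⟨k, hk⟩ := he
    have hn : finrank F (ι → F) = k + k := by
      rw [Module.finrank_fintype_fun_eq_card, hk]
    have hle : k ≤ finrank F U := by omega
    obtain ⟨f, hf⟩ := exists_linearIndependent_of_le_finrank hle
    have hf' : LinearIndependent F (fun i => (f i : ι → F)) :=
      hf.map' U.subtype (Submodule.ker_subtype U)
    refine ⟨Submodule.span F (Set.range (fun i => (f i : ι → F))), le_top, ?_, ?_⟩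
    · intro w hw
      apply hU
      have : Submodule.span F (Set.range (fun i => (f i : ι → F))) ≤ U := by
        rw [Submodule.span_le]
        rintro _ ⟨i, rfl⟩
        exact (f i).2
      exact this hw
    · rw [finrank_span_eq_card hf', Fintype.card_fin, finrank_top, hn]
      ring

theorem plus_top_qfPlus (d : ℕ) : Plus (qfPlus d F) ⊤ := by
  rw [plus_top_iff_isHyp]
  · exact Cfsg.Agent.Lib.Helper40_QuadStd.isHyp_qfPlus d
  · rw [Fintype.card_sum, Fintype.card_fin]
    exact ⟨d, rfl⟩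

theorem not_plus_top_qfMinus [Fintype F] (n : ℕ) (a b : F)
    (hab : ∀ z₁ z₂ : F, z₁ ^ 2 + a * z₁ * z₂ + b * z₂ ^ 2 = 0 → z₁ = 0 ∧ z₂ = 0) :
    ¬ Plus (qfMinus n F a b) ⊤ := by
  rw [plus_top_iff_isHyp]
  · exact Cfsg.Agent.Lib.Helper40_QuadStd.not_isHyp_qfMinus n a b hab
  · rw [Fintype.card_sum, Fintype.card_sum, Fintype.card_fin, Fintype.card_fin]
    exact ⟨n + 1, by ring⟩

theorem card_plus (d : ℕ) : Fintype.card (Fin d ⊕ Fin d) = 2 * d := by
  rw [Fintype.card_sum, Fintype.card_fin]; ring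

theorem card_minus (d : ℕ) (hd : 1 ≤ d) :
    Fintype.card ((Fin (d - 1) ⊕ Fin (d - 1)) ⊕ Fin 2) = 2 * d := by
  rw [Fintype.card_sum, Fintype.card_sum, Fintype.card_fin, Fintype.card_fin]; omega

end std

end Cfsg.Agent.Lib.Helper13_OrthR2Glue
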