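import Mathlib
import Cfsg.Agent.Lib.Helper44_QuadClass
import Cfsg.Agent.Lib.Helper44_StdForms
import Cfsg.Agent.Lib.Helper44_Disc
import Cfsg.Agent.S2616

set_option autoImplicit false

/-!
Type (plus/minus) of a non-degenerate symmetric bilinear form of even dimension `2m` over a finite field of
odd characteristic, via the discriminant: there is a totally isotropic subspace of dimension `m` iff
`(-1)^m * disc` is a square. Gram matrix of a tensor product of forms (helper14).
-/

namespace Cfsg.Agent.Lib.Helper14_WittType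

open Module Matrix

variable {F : Type*} [Field F] {V : Type*} [AddCommGroup V] [Module F V]

/-- Gram determinants in two bases differ by a nonzero square factor. -/
theorem gram_det_change {ι κ : Type*} [Fintype ι] [DecidableEq ι] [Fintype κ] [DecidableEq κ]
    (B : LinearMap.BilinForm F V) (b : Basis ι F V) (c : Basis κ F V) :
    ∃ d : F, d ≠ 0 ∧ (LinearMap.BilinForm.toMatrix b B).det
      = d * (LinearMap.BilinForm.toMatrix c B).det * d := by
  classical
  set e : ι ≃ κ := b.indexEquiv c with he
  set b' : Basis κ F V := b.reindex e with hb'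
  have h1 : LinearMap.BilinForm.toMatrix b B = (LinearMap.BilinForm.toMatrix b' B).submatrix e e := by
    ext i j
    simp [LinearMap.BilinForm.toMatrix_apply, hb']
  have h2 : (LinearMap.BilinForm.toMatrix b B).det = (LinearMap.BilinForm.toMatrix b' B).det := by
    rw [h1, Matrix.det_submatrix_equiv_self]
  have h3 := LinearMap.BilinForm.toMatrix_mul_basis_toMatrix c b' B
  have h4 := congrArg Matrix.det h3
  rw [Matrix.det_mul, Matrix.det_mul, Matrix.det_transpose] at h4
  have hP : (c.toMatrix b').det ≠ 0 := by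
    have : IsUnit (c.toMatrix b').det := by
      have := Basis.invertibleToMatrix c b'
      exact (Matrix.isUnit_iff_isUnit_det _).mp (isUnit_of_invertible _)
    exact this.ne_zero
  exact ⟨_, hP, by rw [h2, ← h4]⟩

theorem isSquare_mul_gram_det_iff {ι κ : Type*} [Fintype ι] [DecidableEq ι] [Fintype κ]
    [DecidableEq κ] (B : LinearMap.BilinForm F V) (b : Basis ι F V) (c : Basis κ F V) (s : F) :
    IsSquare (s * (LinearMap.BilinForm.toMatrix b B).det)
      ↔ IsSquare (s * (LinearMap.BilinForm.toMatrix c B).det) := by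
  obtain ⟨d, hd, h⟩ := gram_det_change B b c
  rw [h]
  have : s * (d * (LinearMap.BilinForm.toMatrix c B).det * d)
      = d * (s * (LinearMap.BilinForm.toMatrix c B).det) * d := by ring
  rw [this]
  exact Cfsg.Agent.Lib.Helper44_Disc.isSquare_mul_sq_iff hd

/-- The quadratic form `x ↦ B x x / 2`, whose polar form is `B` when `B` is symmetric. -/
noncomputable def halfQF (B : LinearMap.BilinForm F V) : QuadraticForm F V :=
  (2 : F)⁻¹ • LinearMap.BilinMap.toQuadraticMap B

theorem halfQF_apply (B : LinearMap.BilinForm F V) (x : V) : halfQF B x = 2⁻¹ * B x x := by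
  simp [halfQF]

theorem polar_halfQF (h2 : (2 : F) ≠ 0) (B : LinearMap.BilinForm F V) (hS : B.IsSymm) (x y : V) :
    QuadraticMap.polar (⇑(halfQF B)) x y = B x y := by
  have hs : B y x = B x y := by
    have := hS.eq y x
    simpa using this
  simp only [QuadraticMap.polar, halfQF_apply, map_add, LinearMap.add_apply, hs]
  field_simp
  ring

theorem polarBilin_halfQF (h2 : (2 : F) ≠ 0) (B : LinearMap.BilinForm F V) (hS : B.IsSymm) :
    QuadraticMap.polarBilin (halfQF B) = B := by
  ext x y
  rw [QuadraticMap.polarBilin_apply_apply, polar_halfQF h2 B hS]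

/-- A totally isotropic subspace of half the dimension forces `(-1)^m * disc` to be a square. -/
theorem isSquare_of_isotropic [FiniteDimensional F V] (B : LinearMap.BilinForm F V) (hS : B.IsSymm)
    {m : ℕ} (hV : finrank F V = 2 * m) (X : Submodule F V) (hX : finrank F X = m)
    (hiso : ∀ x ∈ X, ∀ y ∈ X, B x y = 0) {ι : Type*} [Fintype ι] [DecidableEq ι]
    (b : Basis ι F V) : IsSquare ((-1) ^ m * (LinearMap.BilinForm.toMatrix b B).det) := by
  classical
  obtain ⟨X', hc⟩ := Submodule.exists_isCompl X
  have hX' : finrank F X' = m := by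
    have := Submodule.finrank_add_eq_of_isCompl hc
    omega
  set bX : Basis (Fin m) F X := finBasisOfFinrankEq F X hX with hbX
  set bX' : Basis (Fin m) F X' := finBasisOfFinrankEq F X' hX' with hbX'
  set c : Basis (Fin m ⊕ Fin m) F V := (bX.prod bX').map (Submodule.prodEquivOfIsCompl X X' hc) with hcdef
  have hcl : ∀ i, c (Sum.inl i) = (bX i : V) := by
    intro i
    simp [hcdef, Submodule.coe_prodEquivOfIsCompl']
  have hcr : ∀ i, c (Sum.inr i) = (bX' i : V) := by
    intro i
    simp [hcdef, Submodule.coe_prodEquivOfIsCompl']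
  set A : Matrix (Fin m) (Fin m) F := Matrix.of fun i j => B (bX i : V) (bX' j : V) with hA
  set D : Matrix (Fin m) (Fin m) F := Matrix.of fun i j => B (bX' i : V) (bX' j : V) with hD
  have hgram : LinearMap.BilinForm.toMatrix c B = Matrix.fromBlocks 0 A Aᵀ D := by
    ext k l
    rcases k with k | k <;> rcases l with l | l
    · simp [LinearMap.BilinForm.toMatrix_apply, hcl, hiso _ (bX k).2 _ (bX l).2]
    · simp [LinearMap.BilinForm.toMatrix_apply, hcl, hcr, hA]
    · have := hS.eq (bX' k : V) (bX l : V)
      simp [LinearMap.BilinForm.toMatrix_apply, hcl, hcr, hA, this]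
    · simp [LinearMap.BilinForm.toMatrix_apply, hcr, hD]
  have hprod : Matrix.fromBlocks 0 A Aᵀ D
      = Matrix.fromBlocks A 0 D Aᵀ * Matrix.fromBlocks (0 : Matrix (Fin m) (Fin m) F) 1 1 0 := by
    rw [Matrix.fromBlocks_multiply]; simp
  have hdet : (LinearMap.BilinForm.toMatrix c B).det = A.det * A.det * (-1) ^ m := by
    rw [hgram, hprod, Matrix.det_mul, Matrix.det_fromBlocks_zero₁₂, Matrix.det_transpose,
      Cfsg.Agent.Lib.Helper44_StdForms.det_antidiag]
  rw [isSquare_mul_gram_det_iff B b c, hdet]
  refine ⟨A.det * (-1) ^ m, ?_⟩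
  ring

/-- Conversely, over a finite field of odd characteristic, if `(-1)^m * disc` is a square there is a totally
isotropic subspace of half the dimension. -/
theorem exists_isotropic_of_isSquare [Finite F] [FiniteDimensional F V] (h2 : (2 : F) ≠ 0)
    (B : LinearMap.BilinForm F V) (hS : B.IsSymm) (hB : B.Nondegenerate)
    {m : ℕ} (hm : 1 ≤ m) (hV : finrank F V = 2 * m) {ι : Type*} [Fintype ι] [DecidableEq ι]
    (b : Basis ι F V) (hsq : IsSquare ((-1) ^ m * (LinearMap.BilinForm.toMatrix b B).det)) :
    ∃ X : Submodule F V, finrank F X = m ∧ ∀ x ∈ X, ∀ y ∈ X, B x y = 0 := by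
  classical
  have hpol : QuadraticMap.polarBilin (halfQF B) = B := polarBilin_halfQF h2 B hS
  have hpolar : ∀ x y, QuadraticMap.polar (⇑(halfQF B)) x y = B x y := polar_halfQF h2 B hS
  have hQ : (QuadraticMap.polarBilin (halfQF B)).Nondegenerate := by rw [hpol]; exact hB
  have key := Cfsg.Agent.S2616.result hm hV (halfQF B) hQ
  obtain ⟨m', hm'⟩ : ∃ m', m' = m - 1 := ⟨_, rfl⟩
  rw [← hm'] at key
  have hmm : m = m' + 1 := by omega
  rcases key with
    ⟨c, hq, hef, hee⟩ | ⟨c, ζ, hirr, hq, hef, hee, hxy, hx, hxyp, hy⟩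
  · refine ⟨Submodule.span F (Set.range (fun i => c (Sum.inl i))), ?_, ?_⟩
    · have hli : LinearIndependent F (fun i : Fin m => c (Sum.inl i)) :=
        c.linearIndependent.comp _ Sum.inl_injective
      rw [finrank_span_eq_card hli, Fintype.card_fin]
    · intro x hx y hy
      obtain ⟨a, rfl⟩ := (Submodule.mem_span_range_iff_exists_fun F).mp hx
      obtain ⟨a', rfl⟩ := (Submodule.mem_span_range_iff_exists_fun F).mp hy
      have h0 : ∀ i j, B (c (Sum.inl i)) (c (Sum.inl j)) = 0 := fun i j => by
        rw [← hpolar]; exact (hee i j).1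
      simp [h0]
  · exfalso
    rw [isSquare_mul_gram_det_iff B b c, hmm] at hsq
    have hyx : QuadraticMap.polar (⇑(halfQF B)) (c (Sum.inr 1)) (c (Sum.inr 0)) = 1 := by
      rw [QuadraticMap.polar_comm]; exact hxyp
    have hgram : LinearMap.BilinForm.toMatrix c B
        = Matrix.fromBlocks (Matrix.fromBlocks (0 : Matrix (Fin m') (Fin m') F) 1 1 0) 0 0
            (Matrix.of ![![2, 1], ![1, 2 * ζ]]) := by
      ext k l
      rw [LinearMap.BilinForm.toMatrix_apply, ← hpolar]
      rcases k with (k | k) | k <;> rcases l with (l | l) | l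
      · simp [(hee k l).1]
      · simp [hef, Matrix.one_apply]
      · simp [(hxy k l).1]
      · rw [QuadraticMap.polar_comm]
        simp [hef, Matrix.one_apply, eq_comm]
      · simp [(hee k l).2]
      · simp [(hxy k l).2]
      · rw [QuadraticMap.polar_comm]
        simp [(hxy l k).1]
      · rw [QuadraticMap.polar_comm]
        simp [(hxy l k).2]
      · fin_cases k <;> fin_cases l
        · simp [hx]
        · simpa using hxyp
        · simpa using hyx
        · simp [hy]
    rw [hgram, Matrix.det_fromBlocks_zero₂₁, Cfsg.Agent.Lib.Helper44_StdForms.det_antidiag,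
      Matrix.det_fin_two_of] at hsq
    have e : (-1 : F) ^ (m' + 1) * ((-1) ^ m' * (2 * (2 * ζ) - 1 * 1)) = 1 - 4 * ζ := by
      have : ((-1 : F) ^ m') * ((-1 : F) ^ m') = 1 := by
        rw [← mul_pow]; simp
      rw [pow_succ]
      linear_combination (-(4 * ζ - 1)) * this
    rw [e] at hsq
    obtain ⟨s, hs⟩ := hsq
    apply hirr ((-1 + s) / 2)
    field_simp
    linear_combination -hs

section Tensor

open TensorProduct

variable {U W : Type*} [AddCommGroup U] [Module F U] [AddCommGroup W] [Module F W]

theorem toMatrix_tmul {ι κ : Type*} [Fintype ι] [DecidableEq ι] [Fintype κ] [DecidableEq κ]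
    (B₁ : LinearMap.BilinForm F U) (B₂ : LinearMap.BilinForm F W) (b₁ : Basis ι F U)
    (b₂ : Basis κ F W) :
    LinearMap.BilinForm.toMatrix (b₁.tensorProduct b₂) (B₁.tmul B₂)
      = Matrix.kroneckerMap (· * ·) (LinearMap.BilinForm.toMatrix b₁ B₁)
          (LinearMap.BilinForm.toMatrix b₂ B₂) := by
  ext ⟨i, j⟩ ⟨i', j'⟩
  simp only [LinearMap.BilinForm.toMatrix_apply, Basis.tensorProduct_apply,
    LinearMap.BilinForm.tensorDistrib_tmul, Matrix.kroneckerMap_apply, smul_eq_mul]
  ring

theorem det_toMatrix_tmul {ι κ : Type*} [Fintype ι] [DecidableEq ι] [Fintype κ] [DecidableEq κ]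
    (B₁ : LinearMap.BilinForm F U) (B₂ : LinearMap.BilinForm F W) (b₁ : Basis ι F U)
    (b₂ : Basis κ F W) :
    (LinearMap.BilinForm.toMatrix (b₁.tensorProduct b₂) (B₁.tmul B₂)).det
      = (LinearMap.BilinForm.toMatrix b₁ B₁).det ^ Fintype.card κ
        * (LinearMap.BilinForm.toMatrix b₂ B₂).det ^ Fintype.card ι := by
  rw [toMatrix_tmul]
  exact Matrix.det_kronecker _ _

end Tensor

end Cfsg.Agent.Lib.Helper14_WittType
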