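import Mathlib
import Cfsg.Prelude.Def_GeometricClasses
import Cfsg.Prelude.Def_Classical
import Cfsg.Agent.Lib.Helper13_OrthR2Defs
import Cfsg.Agent.Lib.Helper24_OrthR2_G0

set_option autoImplicit false
set_option linter.unusedSectionVars false
open scoped MatrixGroups

namespace Cfsg.Agent.Lib.Helper24_OrthR2_G4

open Matrix Module Cfsg.Agent.Lib.Helper13_OrthR2Defs Cfsg.Agent.Lib.Helper24_OrthR2_G0

section general

variable {F : Type*} [Field F] {V : Type*} [AddCommGroup V] [Module F V]

/-- pairwise orthogonality of a family -/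
def Orth (Q : QuadraticForm F V) {κ : Type*} (u : κ → V) : Prop :=
  ∀ i j, i ≠ j → QuadraticMap.polar (⇑Q) (u i) (u j) = 0

variable {κ : Type*} [Fintype κ] [DecidableEq κ]

theorem polar_lincomb (Q : QuadraticForm F V) (u : κ → V) (hu : Orth Q u) (c : κ → F) (j : κ) :
    QuadraticMap.polar (⇑Q) (u j) (Fintype.linearCombination F u c) = c j * (2 * Q (u j)) := by
  rw [Fintype.linearCombination_apply, ← QuadraticMap.polarBilin_apply_apply, map_sum,
    Finset.sum_eq_single j]
  · rw [map_smul, QuadraticMap.polarBilin_apply_apply, polar_self_eq, smul_eq_mul]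
  · intro i _ hij
    rw [map_smul, QuadraticMap.polarBilin_apply_apply, hu j i (Ne.symm hij), smul_zero]
  · intro h; exact absurd (Finset.mem_univ j) h

theorem Q_sum (Q : QuadraticForm F V) (u : κ → V) (hu : Orth Q u) (c : κ → F) (s : Finset κ) :
    Q (∑ i ∈ s, c i • u i) = ∑ i ∈ s, c i ^ 2 * Q (u i) := by
  induction s using Finset.induction_on with
  | empty => simp
  | insert j s hj ih =>
    rw [Finset.sum_insert hj, Finset.sum_insert hj]
    have h1 : Q (c j • u j + ∑ i ∈ s, c i • u i) = Q (c j • u j) + Q (∑ i ∈ s, c i • u i)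
        + QuadraticMap.polar (⇑Q) (c j • u j) (∑ i ∈ s, c i • u i) := by
      unfold QuadraticMap.polar; ring
    have h2 : QuadraticMap.polar (⇑Q) (c j • u j) (∑ i ∈ s, c i • u i) = 0 := by
      rw [QuadraticMap.polar_smul_left, ← QuadraticMap.polarBilin_apply_apply, map_sum,
        Finset.sum_eq_zero, smul_zero]
      intro i hi
      have hij : j ≠ i := fun h => hj (h ▸ hi)
      rw [map_smul, QuadraticMap.polarBilin_apply_apply, hu j i hij, smul_zero]
    rw [h1, h2, ih, add_zero, QuadraticMap.map_smul, smul_eq_mul]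
    ring

theorem Q_lincomb (Q : QuadraticForm F V) (u : κ → V) (hu : Orth Q u) (c : κ → F) :
    Q (Fintype.linearCombination F u c) = ∑ i, c i ^ 2 * Q (u i) := by
  rw [Fintype.linearCombination_apply]
  exact Q_sum Q u hu c Finset.univ

theorem lincomb_injective (h2 : (2 : F) ≠ 0) (Q : QuadraticForm F V) (u : κ → V) (hu : Orth Q u)
    (hne : ∀ i, Q (u i) ≠ 0) : Function.Injective (Fintype.linearCombination F u) := by
  rw [← LinearMap.ker_eq_bot, LinearMap.ker_eq_bot']
  intro c hc
  funext j
  have := polar_lincomb Q u hu c j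
  rw [hc, QuadraticMap.polar_zero_right] at this
  rcases mul_eq_zero.1 this.symm with h | h
  · exact h
  · exact absurd h (mul_ne_zero h2 (hne j))

theorem lincomb_single (u : κ → V) (j : κ) :
    Fintype.linearCombination F u (Pi.single j (1 : F)) = u j := by
  rw [Fintype.linearCombination_apply, Finset.sum_eq_single j]
  · simp
  · intro i _ hij; simp [hij]
  · intro h; exact absurd (Finset.mem_univ j) h

theorem nds_range (h2 : (2 : F) ≠ 0) (Q : QuadraticForm F V) (u : κ → V) (hu : Orth Q u)
    (hne : ∀ i, Q (u i) ≠ 0) : NDs Q (LinearMap.range (Fintype.linearCombination F u)) := by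
  intro x hx hx0
  obtain ⟨c, rfl⟩ := hx
  have hc : ∃ j, c j ≠ 0 := by
    by_contra hcon
    push Not at hcon
    apply hx0
    have : c = 0 := funext hcon
    rw [this, map_zero]
  obtain ⟨j, hj⟩ := hc
  refine ⟨u j, ⟨Pi.single j 1, lincomb_single u j⟩, ?_⟩
  rw [QuadraticMap.polar_comm, polar_lincomb Q u hu c j]
  exact mul_ne_zero hj (mul_ne_zero h2 (hne j))

/-- a nondegenerate subspace has an orthogonal family of nonsingular vectors of full length -/
theorem diag [FiniteDimensional F V] (h2 : (2 : F) ≠ 0) (Q : QuadraticForm F V) :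
    ∀ (k : ℕ) (W : Submodule F V), NDs Q W → finrank F W = k →
      ∃ w : Fin k → V, (∀ i, w i ∈ W) ∧ (∀ i, Q (w i) ≠ 0) ∧ Orth Q w
  | 0, _, _, _ => ⟨Fin.elim0, fun i => i.elim0, fun i => i.elim0, fun i => i.elim0⟩
  | k + 1, W, hW, hk => by
    obtain ⟨w₀, hw₀W, hQ0⟩ := exists_nonsing Q W hW (by omega)
    have hfr := finrank_perp h2 Q W hw₀W hQ0
    obtain ⟨w', h1, h2', h3⟩ := diag h2 Q k (W ⊓ perpV Q w₀) (nds_perp h2 Q W hW hw₀W hQ0) (by omega)
    refine ⟨Fin.cons w₀ w', ?_, ?_, ?_⟩
    · intro i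
      refine Fin.cases ?_ (fun i => ?_) i
      · simpa using hw₀W
      · simpa using (h1 i).1
    · intro i
      refine Fin.cases ?_ (fun i => ?_) i
      · simpa using hQ0
      · simpa using h2' i
    · intro i j
      refine Fin.cases ?_ (fun i => ?_) i <;> refine Fin.cases ?_ (fun j => ?_) j
      · intro h; exact absurd rfl h
      · intro _
        simpa using (mem_perpV Q w₀ _).1 (h1 j).2
      · intro _
        rw [QuadraticMap.polar_comm]
        simpa using (mem_perpV Q w₀ _).1 (h1 i).2
      · intro h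
        have : i ≠ j := fun hij => h (by rw [hij])
        simpa using h3 i j this

/-- two orthogonal families with the same nonzero values span isometric subspaces -/
theorem exists_isometry [FiniteDimensional F V] (h2 : (2 : F) ≠ 0) (Q : QuadraticForm F V) (u w : κ → V)
    (hu : Orth Q u) (hw : Orth Q w) (hne : ∀ i, Q (u i) ≠ 0) (heq : ∀ i, Q (w i) = Q (u i)) :
    ∃ e : LinearMap.range (Fintype.linearCombination F u) ≃ₗ[F]
        LinearMap.range (Fintype.linearCombination F w),
      ∀ x, Q ((e x : LinearMap.range (Fintype.linearCombination F w)) : V) = Q (x : V) := by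
  have hnew : ∀ i, Q (w i) ≠ 0 := fun i => by rw [heq]; exact hne i
  have hiu := lincomb_injective h2 Q u hu hne
  have hiw := lincomb_injective h2 Q w hw hnew
  refine ⟨(LinearEquiv.ofInjective _ hiu).symm ≪≫ₗ LinearEquiv.ofInjective _ hiw, ?_⟩
  intro x
  set c := (LinearEquiv.ofInjective _ hiu).symm x with hc
  have hx : (x : V) = Fintype.linearCombination F u c := by
    have := (LinearEquiv.ofInjective _ hiu).apply_symm_apply x
    rw [← hc] at this
    rw [← this]
    rfl
  have he : (((LinearEquiv.ofInjective _ hiu).symm ≪≫ₗ LinearEquiv.ofInjective _ hiw) x :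
      LinearMap.range (Fintype.linearCombination F w)) = LinearEquiv.ofInjective _ hiw c := rfl
  rw [he, hx, LinearEquiv.ofInjective_apply, Q_lincomb Q w hw, Q_lincomb Q u hu]
  exact Finset.sum_congr rfl fun i _ => by rw [heq]

end general

variable {ι : Type} [Fintype ι] [DecidableEq ι] {F : Type*} [Field F]

/-- G4 -/
theorem G4 [Fintype F] (h2 : (2 : F) ≠ 0) (Q : QuadraticForm F (ι → F))
    (U : Submodule F (ι → F)) (hU : ND Q U) (W₀ : Submodule F (ι → F)) (hW₀ : ND Q W₀)
    (hlt : finrank F W₀ < finrank F U) :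
    ∃ W : Submodule F (ι → F), W ≤ U ∧ finrank F W = finrank F W₀ ∧ ND Q W ∧
      Cfsg.Geo.AreIsometricFor (⇑Q) W W₀ := by
  classical
  obtain ⟨w, hwW, hwne, hworth⟩ := diag h2 Q (finrank F W₀) W₀ (nds_of_nd Q W₀ hW₀) rfl
  obtain ⟨u, huU, huQ, huorth⟩ := G0_aux h2 Q (finrank F W₀) U (nds_of_nd Q U hU) (by omega)
    (fun i => Q (w i)) hwne
  have hune : ∀ i, Q (u i) ≠ 0 := fun i => by rw [huQ]; exact hwne i
  have hiu := lincomb_injective h2 Q u huorth hune
  have hiw := lincomb_injective h2 Q w hworth hwne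
  have hrw : LinearMap.range (Fintype.linearCombination F w) = W₀ := by
    apply Submodule.eq_of_le_of_finrank_eq
    · rintro x ⟨c, rfl⟩
      rw [Fintype.linearCombination_apply]
      exact W₀.sum_mem fun i _ => W₀.smul_mem _ (hwW i)
    · rw [LinearMap.finrank_range_of_inj hiw]
      simp
  refine ⟨LinearMap.range (Fintype.linearCombination F u), ?_, ?_, ?_, ?_⟩
  · rintro x ⟨c, rfl⟩
    rw [Fintype.linearCombination_apply]
    exact U.sum_mem fun i _ => U.smul_mem _ (huU i)
  · rw [LinearMap.finrank_range_of_inj hiu]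
    simp
  · exact nd_of_nds Q _ (nds_range h2 Q u huorth hune)
  · obtain ⟨e, he⟩ := exists_isometry h2 Q u w huorth hworth hune (fun i => (huQ i).symm)
    refine ⟨e ≪≫ₗ LinearEquiv.ofEq _ _ hrw, ?_⟩
    intro x
    exact he x

end Cfsg.Agent.Lib.Helper24_OrthR2_G4
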