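import Mathlib
import Cfsg.Prelude.Def_GeometricClasses
import Cfsg.Prelude.Def_Classical
import Cfsg.Agent.Lib.Helper13_OrthR2Defs
import Cfsg.Agent.Lib.Helper24_OrthR2_G0
import Cfsg.Agent.Lib.Helper24_OrthR2_G4
import Cfsg.Agent.Lib.Helper14_WittType
import Cfsg.Agent.Lib.Helper44_FinSq

set_option autoImplicit false
set_option linter.unusedSectionVars false
open scoped MatrixGroups

namespace Cfsg.Agent.Lib.Helper24_OrthR2_G5

open Matrix Module Cfsg.Agent.Lib.Helper13_OrthR2Defs Cfsg.Agent.Lib.Helper24_OrthR2_G0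
  Cfsg.Agent.Lib.Helper24_OrthR2_G4

section general

variable {F : Type*} [Field F] {V : Type*} [AddCommGroup V] [Module F V]

/-- the doubling map `d ↦ (d, d)` -/
def dbl (F : Type*) [Field F] (t : ℕ) : (Fin t → F) →ₗ[F] (Fin (t + t) → F) where
  toFun d := Fin.append d d
  map_add' x y := by
    ext i
    refine Fin.addCases (fun j => ?_) (fun j => ?_) i <;> simp [-Fin.natAdd_eq_addNat]
  map_smul' c x := by
    ext i
    refine Fin.addCases (fun j => ?_) (fun j => ?_) i <;> simp [-Fin.natAdd_eq_addNat]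

theorem dbl_injective (t : ℕ) : Function.Injective (dbl F t) := by
  intro x y h
  funext j
  have := congrFun h (Fin.castAdd t j)
  simpa [dbl] using this

/-- values `1, …, 1, -1, …, -1` give a totally singular subspace of half the dimension -/
theorem plus_of_values [FiniteDimensional F V] (h2 : (2 : F) ≠ 0) (Q : QuadraticForm F V) (t : ℕ)
    (u : Fin (t + t) → V) (hu : Orth Q u)
    (h1 : ∀ j : Fin t, Q (u (Fin.castAdd t j)) = 1) (h1' : ∀ j : Fin t, Q (u (Fin.natAdd t j)) = -1) :
    ∃ X : Submodule F V, X ≤ LinearMap.range (Fintype.linearCombination F u) ∧ (∀ x ∈ X, Q x = 0) ∧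
      finrank F X = t := by
  have hne : ∀ i, Q (u i) ≠ 0 := by
    intro i
    refine Fin.addCases (fun j => ?_) (fun j => ?_) i
    · rw [h1]; exact one_ne_zero
    · rw [h1']; exact neg_ne_zero.2 one_ne_zero
  have hinj := lincomb_injective h2 Q u hu hne
  refine ⟨LinearMap.range ((Fintype.linearCombination F u) ∘ₗ dbl F t), LinearMap.range_comp_le_range _ _,
    ?_, ?_⟩
  · rintro x ⟨d, rfl⟩
    rw [LinearMap.comp_apply, Q_lincomb Q u hu, Fin.sum_univ_add]
    simp [-Fin.natAdd_eq_addNat, dbl, h1, h1']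
  · rw [LinearMap.finrank_range_of_inj]
    · simp
    · rw [LinearMap.coe_comp]
      exact hinj.comp (dbl_injective t)

/-- a nonsquare discriminant excludes a totally singular subspace of half the dimension -/
theorem not_plus_of_values [FiniteDimensional F V] (h2 : (2 : F) ≠ 0) (Q : QuadraticForm F V) (t : ℕ)
    (u : Fin (t + t) → V) (hu : Orth Q u) (hne : ∀ i, Q (u i) ≠ 0) (δ : F) (hδ : ¬ IsSquare δ)
    (hprod : ∏ i, Q (u i) = (-1) ^ t * δ) :
    ¬ ∃ X : Submodule F V, X ≤ LinearMap.range (Fintype.linearCombination F u) ∧ (∀ x ∈ X, Q x = 0) ∧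
      2 * finrank F X = finrank F (LinearMap.range (Fintype.linearCombination F u)) := by
  classical
  rintro ⟨X, hXW, hXts, hXdim⟩
  have hinj := lincomb_injective h2 Q u hu hne
  set W := LinearMap.range (Fintype.linearCombination F u) with hW
  have hWdim : finrank F W = 2 * t := by
    rw [hW, LinearMap.finrank_range_of_inj hinj]
    simp; ring
  set B : LinearMap.BilinForm F W := LinearMap.BilinForm.restrict (QuadraticMap.polarBilin Q) W with hB
  have hBapp : ∀ x y : W, B x y = QuadraticMap.polar (⇑Q) (x : V) (y : V) := fun x y => rfl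
  have hS : B.IsSymm := by
    rw [LinearMap.BilinForm.isSymm_def]
    intro x y
    rw [hBapp, hBapp, QuadraticMap.polar_comm]
  set X' : Submodule F W := X.comap W.subtype with hX'
  have hX'dim : finrank F X' = t := by
    have h1 : finrank F X' = finrank F X :=
      LinearEquiv.finrank_eq (Submodule.comapSubtypeEquivOfLe hXW)
    omega
  have hiso : ∀ x ∈ X', ∀ y ∈ X', B x y = 0 := by
    intro x hx y hy
    rw [hBapp]
    have hx' : (x : V) ∈ X := hx
    have hy' : (y : V) ∈ X := hy
    unfold QuadraticMap.polar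
    rw [hXts _ (X.add_mem hx' hy'), hXts _ hx', hXts _ hy']
    ring
  set b : Basis (Fin (t + t)) F W := Basis.ofEquivFun (LinearEquiv.ofInjective _ hinj).symm with hb
  have hbi : ∀ i, ((b i : W) : V) = u i := by
    intro i
    rw [hb, Basis.coe_ofEquivFun]
    simp only [LinearEquiv.symm_symm]
    rw [LinearEquiv.ofInjective_apply, lincomb_single]
  have hmat : LinearMap.BilinForm.toMatrix b B = Matrix.diagonal fun i => 2 * Q (u i) := by
    ext i j
    rw [LinearMap.BilinForm.toMatrix_apply, hBapp, hbi, hbi]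
    by_cases hij : i = j
    · subst hij
      rw [Matrix.diagonal_apply_eq, polar_self_eq]
    · rw [Matrix.diagonal_apply_ne _ hij, hu i j hij]
  have hsq := Cfsg.Agent.Lib.Helper14_WittType.isSquare_of_isotropic B hS hWdim X' hX'dim hiso b
  rw [hmat, Matrix.det_diagonal, Finset.prod_mul_distrib, hprod, Finset.prod_const, Finset.card_univ,
    Fintype.card_fin] at hsq
  apply hδ
  obtain ⟨r, hr⟩ := hsq
  have h2t : (2 : F) ^ t ≠ 0 := pow_ne_zero _ h2
  refine ⟨r / 2 ^ t, ?_⟩
  have h3 : (-1 : F) ^ t * (2 ^ (t + t) * ((-1) ^ t * δ)) = (2 ^ t) ^ 2 * δ := by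
    have : ((-1 : F) ^ t) * ((-1) ^ t) = 1 := by
      rw [← mul_pow]; simp
    calc (-1 : F) ^ t * (2 ^ (t + t) * ((-1) ^ t * δ))
        = ((-1 : F) ^ t * (-1) ^ t) * (2 ^ (t + t) * δ) := by ring
      _ = (2 ^ t) ^ 2 * δ := by rw [this, one_mul, pow_add]; ring
  rw [h3] at hr
  field_simp
  linear_combination hr

end general

variable {ι : Type} [Fintype ι] [DecidableEq ι] {F : Type*} [Field F]

/-- G5 -/
theorem G5 [Fintype F] (h2 : (2 : F) ≠ 0) (Q : QuadraticForm F (ι → F))
    (U : Submodule F (ι → F)) (hU : ND Q U) (t : ℕ) (ht : 1 ≤ t)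
    (hlt : 2 * t + 2 ≤ finrank F U) :
    (∃ W : Submodule F (ι → F), W ≤ U ∧ ND Q W ∧ finrank F W = 2 * t ∧ Plus Q W) ∧
    (∃ W : Submodule F (ι → F), W ≤ U ∧ ND Q W ∧ finrank F W = 2 * t ∧ ¬ Plus Q W) := by
  classical
  obtain ⟨t', rfl⟩ : ∃ t', t = t' + 1 := ⟨t - 1, by omega⟩
  have hUs := nds_of_nd Q U hU
  have hle : ∀ (u : Fin ((t' + 1) + (t' + 1)) → (ι → F)), (∀ i, u i ∈ U) →
      LinearMap.range (Fintype.linearCombination F u) ≤ U := by
    intro u huU
    rintro x ⟨c, rfl⟩
    rw [Fintype.linearCombination_apply]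
    exact U.sum_mem fun i _ => U.smul_mem _ (huU i)
  constructor
  · set a : Fin ((t' + 1) + (t' + 1)) → F := Fin.append (fun _ => 1) (fun _ => -1) with ha
    have hane : ∀ i, a i ≠ 0 := by
      intro i
      refine Fin.addCases (fun j => ?_) (fun j => ?_) i
      · simp [-Fin.natAdd_eq_addNat, ha]
      · simp [-Fin.natAdd_eq_addNat, ha]
    obtain ⟨u, huU, huQ, huorth⟩ := G0_aux h2 Q _ U hUs (by omega) a hane
    have hune : ∀ i, Q (u i) ≠ 0 := fun i => by rw [huQ]; exact hane i
    have hinj := lincomb_injective h2 Q u huorth hune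
    refine ⟨LinearMap.range (Fintype.linearCombination F u), hle u huU,
      nd_of_nds Q _ (nds_range h2 Q u huorth hune), ?_, ?_⟩
    · rw [LinearMap.finrank_range_of_inj hinj]
      simp; ring
    · obtain ⟨X, hXW, hXts, hXdim⟩ := plus_of_values h2 Q (t' + 1) u huorth
        (fun j => by rw [huQ]; simp [-Fin.natAdd_eq_addNat, ha]) (fun j => by rw [huQ]; simp [-Fin.natAdd_eq_addNat, ha])
      refine ⟨X, hXW, hXts, ?_⟩
      rw [hXdim, LinearMap.finrank_range_of_inj hinj]
      simp; ring
  · obtain ⟨δ, hδ⟩ : ∃ δ : F, ¬ IsSquare δ := FiniteField.exists_nonsquare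
      (Cfsg.Agent.Lib.Helper44_FinSq.ringChar_ne_two_of_two_ne_zero h2)
    have hδ0 : δ ≠ 0 := by
      rintro rfl
      exact hδ ⟨0, by simp⟩
    set a : Fin ((t' + 1) + (t' + 1)) → F :=
      Fin.append (fun _ => 1) (Fin.cons (-δ) (fun _ => -1)) with ha
    have hane : ∀ i, a i ≠ 0 := by
      intro i
      refine Fin.addCases (fun j => ?_) (fun j => ?_) i
      · simp [-Fin.natAdd_eq_addNat, ha]
      · refine Fin.cases ?_ (fun j => ?_) j
        · simp [-Fin.natAdd_eq_addNat, ha, hδ0]
        · simp [-Fin.natAdd_eq_addNat, ha]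
    obtain ⟨u, huU, huQ, huorth⟩ := G0_aux h2 Q _ U hUs (by omega) a hane
    have hune : ∀ i, Q (u i) ≠ 0 := fun i => by rw [huQ]; exact hane i
    have hinj := lincomb_injective h2 Q u huorth hune
    refine ⟨LinearMap.range (Fintype.linearCombination F u), hle u huU,
      nd_of_nds Q _ (nds_range h2 Q u huorth hune), ?_, ?_⟩
    · rw [LinearMap.finrank_range_of_inj hinj]
      simp; ring
    · have hprod : ∏ i, Q (u i) = (-1) ^ (t' + 1) * δ := by
        simp only [huQ]
        rw [Fin.prod_univ_add]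
        simp [-Fin.natAdd_eq_addNat, ha, Fin.prod_univ_succ]
        ring
      exact not_plus_of_values h2 Q (t' + 1) u huorth hune δ hδ hprod

end Cfsg.Agent.Lib.Helper24_OrthR2_G5
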