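import Mathlib
import Cfsg.Prelude.Def_GeometricClasses
import Cfsg.Prelude.Def_Classical
import Cfsg.Agent.Lib.Helper13_OrthR2Defs

/-!
Package ORTHR2-A1 (architect helper13): eigenspace decomposition of an isometry `x` with `x * x = 1`
of a nondegenerate quadratic space in characteristic not two (helper35).
-/

set_option autoImplicit false
open scoped MatrixGroups

namespace Cfsg.Agent.Lib.Helper35_OrthR2_A1

open Matrix Module Cfsg.Agent.Lib.Helper13_OrthR2Defs

variable {ι : Type} [Fintype ι] [DecidableEq ι] {F : Type*} [Field F]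

omit [DecidableEq ι] in
/-- an isometry preserves the polar form -/
theorem polar_mulVec (Q : QuadraticForm F (ι → F)) (x : Matrix ι ι F)
    (hiso : ∀ v : ι → F, Q (x *ᵥ v) = Q v) (u v : ι → F) :
    QuadraticMap.polar (⇑Q) (x *ᵥ u) (x *ᵥ v) = QuadraticMap.polar (⇑Q) u v := by
  unfold QuadraticMap.polar
  rw [← Matrix.mulVec_add, hiso, hiso, hiso]

omit [Fintype ι] [DecidableEq ι] in
theorem polar_neg_right' (Q : QuadraticForm F (ι → F)) (u v : ι → F) :
    QuadraticMap.polar (⇑Q) u (-v) = - QuadraticMap.polar (⇑Q) u v := by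
  have := QuadraticMap.polar_neg_right (Q := Q) u v
  exact this

/-- the `+1`-component of a vector -/
noncomputable def compP (x : Matrix ι ι F) (v : ι → F) : ι → F := (2 : F)⁻¹ • (v + x *ᵥ v)

/-- the `-1`-component of a vector -/
noncomputable def compM (x : Matrix ι ι F) (v : ι → F) : ι → F := (2 : F)⁻¹ • (v - x *ᵥ v)

theorem compP_mem (x : Matrix ι ι F) (hxx : x * x = 1) (v : ι → F) : compP x v ∈ eigP x := by
  rw [mem_eigP, compP, Matrix.mulVec_smul, Matrix.mulVec_add, Matrix.mulVec_mulVec, hxx,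
    Matrix.one_mulVec, add_comm]

theorem compM_mem (x : Matrix ι ι F) (hxx : x * x = 1) (v : ι → F) : compM x v ∈ eigM x := by
  rw [mem_eigM, compM, Matrix.mulVec_smul, Matrix.mulVec_sub, Matrix.mulVec_mulVec, hxx,
    Matrix.one_mulVec, ← smul_neg, neg_sub]

omit [DecidableEq ι] in
theorem compP_add_compM (h2 : (2 : F) ≠ 0) (x : Matrix ι ι F) (v : ι → F) :
    compP x v + compM x v = v := by
  rw [compP, compM, ← smul_add]
  have : v + x *ᵥ v + (v - x *ᵥ v) = (2 : F) • v := by
    rw [two_smul]; abel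
  rw [this, smul_smul, inv_mul_cancel₀ h2, one_smul]

omit [DecidableEq ι] in
theorem compP_mem_of_inv (x : Matrix ι ι F) (W : Submodule F (ι → F)) (hW : ∀ w ∈ W, x *ᵥ w ∈ W)
    (v : ι → F) (hv : v ∈ W) : compP x v ∈ W :=
  W.smul_mem _ (W.add_mem hv (hW v hv))

omit [DecidableEq ι] in
theorem compM_mem_of_inv (x : Matrix ι ι F) (W : Submodule F (ι → F)) (hW : ∀ w ∈ W, x *ᵥ w ∈ W)
    (v : ι → F) (hv : v ∈ W) : compM x v ∈ W :=
  W.smul_mem _ (W.sub_mem hv (hW v hv))

omit [Fintype ι] [DecidableEq ι] in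
theorem eq_zero_of_eq_neg (h2 : (2 : F) ≠ 0) (v : ι → F) (h : v = -v) : v = 0 := by
  have h' : (2 : F) • v = 0 := by
    rw [two_smul]
    nth_rewrite 1 [h]
    exact neg_add_cancel v
  rcases smul_eq_zero.mp h' with h0 | h0
  · exact absurd h0 h2
  · exact h0

/-- the two eigenspaces are orthogonal -/
theorem polar_eigP_eigM (h2 : (2 : F) ≠ 0) (Q : QuadraticForm F (ι → F)) (x : Matrix ι ι F)
    (hiso : ∀ v : ι → F, Q (x *ᵥ v) = Q v) (u : ι → F) (hu : u ∈ eigP x) (v : ι → F)
    (hv : v ∈ eigM x) : QuadraticMap.polar (⇑Q) u v = 0 := by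
  have h := polar_mulVec Q x hiso u v
  rw [(mem_eigP x u).mp hu, (mem_eigM x v).mp hv, polar_neg_right'] at h
  have h' : (2 : F) * QuadraticMap.polar (⇑Q) u v = 0 := by
    rw [two_mul]
    nth_rewrite 1 [← h]
    exact neg_add_cancel _
  rcases mul_eq_zero.mp h' with h0 | h0
  · exact absurd h0 h2
  · exact h0

/-- A1 -/
theorem A1 (h2 : (2 : F) ≠ 0) (Q : QuadraticForm F (ι → F))
    (hQ : (QuadraticMap.polarBilin Q).Nondegenerate) (x : Matrix ι ι F)
    (hiso : ∀ v : ι → F, Q (x *ᵥ v) = Q v) (hxx : x * x = 1) :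
    IsCompl (eigP x) (eigM x) ∧
    (∀ u ∈ eigP x, ∀ v ∈ eigM x, QuadraticMap.polar (⇑Q) u v = 0) ∧
    ND Q (eigP x) ∧ ND Q (eigM x) ∧
    (∀ W : Submodule F (ι → F), Inv x W → W = (W ⊓ eigP x) ⊔ (W ⊓ eigM x)) ∧
    (∀ W₁ W₂ : Submodule F (ι → F), W₁ ≤ eigP x → W₂ ≤ eigM x → Inv x (W₁ ⊔ W₂)) ∧
    ((∀ z : F, x ≠ z • (1 : Matrix ι ι F)) → eigP x ≠ ⊥ ∧ eigM x ≠ ⊥) := by
  have horth := polar_eigP_eigM h2 Q x hiso
  have hdisj : Disjoint (eigP x) (eigM x) := by
    rw [Submodule.disjoint_def]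
    intro v hvP hvM
    apply eq_zero_of_eq_neg h2
    rw [← (mem_eigM x v).mp hvM, (mem_eigP x v).mp hvP]
  have hcod : Codisjoint (eigP x) (eigM x) := by
    rw [codisjoint_iff, eq_top_iff]
    intro v _
    rw [← compP_add_compM h2 x v]
    exact Submodule.add_mem_sup (compP_mem x hxx v) (compM_mem x hxx v)
  refine ⟨⟨hdisj, hcod⟩, horth, ?_, ?_, ?_, ?_, ?_⟩
  · rw [nd_iff]
    intro w hw hw0
    by_contra hcon
    push Not at hcon
    apply hw0
    apply hQ.1 w
    intro y
    rw [QuadraticMap.polarBilin_apply_apply, ← compP_add_compM h2 x y, QuadraticMap.polar_add_right,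
      hcon _ (compP_mem x hxx y), horth w hw _ (compM_mem x hxx y), add_zero]
  · rw [nd_iff]
    intro w hw hw0
    by_contra hcon
    push Not at hcon
    apply hw0
    apply hQ.1 w
    intro y
    rw [QuadraticMap.polarBilin_apply_apply, ← compP_add_compM h2 x y, QuadraticMap.polar_add_right,
      hcon _ (compM_mem x hxx y), QuadraticMap.polar_comm, horth _ (compP_mem x hxx y) w hw,
      add_zero]
  · intro W hW
    rw [inv_iff] at hW
    apply le_antisymm
    · intro w hw
      rw [← compP_add_compM h2 x w]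
      exact Submodule.add_mem_sup ⟨compP_mem_of_inv x W hW w hw, compP_mem x hxx w⟩
        ⟨compM_mem_of_inv x W hW w hw, compM_mem x hxx w⟩
    · exact sup_le inf_le_left inf_le_left
  · intro W₁ W₂ h1 h2'
    rw [inv_iff]
    intro w hw
    obtain ⟨w1, hw1, w2, hw2, rfl⟩ := Submodule.mem_sup.mp hw
    rw [Matrix.mulVec_add, (mem_eigP x w1).mp (h1 hw1), (mem_eigM x w2).mp (h2' hw2)]
    exact Submodule.add_mem_sup hw1 (W₂.neg_mem hw2)
  · intro hns
    constructor
    · intro hbot
      apply hns (-1)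
      have htop : eigM x = ⊤ := by
        have := hcod
        rw [hbot, bot_codisjoint] at this
        exact this
      apply Matrix.toLin'.injective
      apply LinearMap.ext
      intro v
      have hv : v ∈ eigM x := by rw [htop]; exact Submodule.mem_top
      rw [Matrix.toLin'_apply, (mem_eigM x v).mp hv, Matrix.toLin'_apply, Matrix.smul_mulVec,
        Matrix.one_mulVec, neg_one_smul]
    · intro hbot
      apply hns 1
      have htop : eigP x = ⊤ := by
        have := hcod
        rw [hbot, codisjoint_bot] at this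
        exact this
      apply Matrix.toLin'.injective
      apply LinearMap.ext
      intro v
      have hv : v ∈ eigP x := by rw [htop]; exact Submodule.mem_top
      rw [Matrix.toLin'_apply, (mem_eigP x v).mp hv, Matrix.toLin'_apply, Matrix.smul_mulVec,
        Matrix.one_mulVec, one_smul]

end Cfsg.Agent.Lib.Helper35_OrthR2_A1
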