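import Mathlib
import Cfsg.Prelude.Def_GeometricClasses
import Cfsg.Prelude.Def_Classical
import Cfsg.Agent.Lib.Helper13_OrthR2Defs
import Cfsg.Agent.Lib.Helper35_OrthR2_A1
import Cfsg.Agent.Lib.Helper44_Spinor
import Cfsg.Agent.Lib.Helper14_WittType
import Cfsg.Agent.Lib.Helper14_NegOne
import Cfsg.Agent.Lib.Helper14_AutOmega

/-!
Package ORTHR2-A2 (architect helper13): for `x ∈ Ω(Q)` with `x * x = 1` (odd characteristic, finite
field), the `-1`-eigenspace has even dimension `k` and is of plus type iff `(-1)^(k/2)` is a square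
(helper35).

Reusable: `polE` (the polar form restricted to a subspace), `plus_iff_isSquare` (Witt-type criterion
for a nondegenerate subspace in terms of the Gram determinant in any basis of the subspace),
`eq_prod_refl` (an involutive isometry is the product of the reflections in an orthogonal basis of
its `-1`-eigenspace).
-/

set_option autoImplicit false
open scoped MatrixGroups

namespace Cfsg.Agent.Lib.Helper35_OrthR2_A2

open Matrix Module Cfsg.Agent.Lib.Helper13_OrthR2Defs

variable {ι : Type} [Fintype ι] [DecidableEq ι] {F : Type*} [Field F]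

/-- the polar form of `Q` restricted to the subspace `E` -/
noncomputable def polE (Q : QuadraticForm F (ι → F)) (E : Submodule F (ι → F)) :
    LinearMap.BilinForm F E :=
  LinearMap.BilinForm.restrict (QuadraticMap.polarBilin Q) E

omit [Fintype ι] [DecidableEq ι] in
theorem polE_apply (Q : QuadraticForm F (ι → F)) (E : Submodule F (ι → F)) (u v : E) :
    polE Q E u v = QuadraticMap.polar (⇑Q) (u : ι → F) (v : ι → F) := rfl

omit [Fintype ι] [DecidableEq ι] in
theorem polE_isSymm (Q : QuadraticForm F (ι → F)) (E : Submodule F (ι → F)) :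
    (polE Q E).IsSymm :=
  ⟨fun u v => by
    simp only [polE_apply]
    exact QuadraticMap.polar_comm _ _ _⟩

omit [Fintype ι] [DecidableEq ι] in
theorem polE_isSymm' (Q : QuadraticForm F (ι → F)) (E : Submodule F (ι → F)) :
    LinearMap.IsSymm (polE Q E) :=
  ⟨fun u v => by
    simp only [polE_apply, RingHom.id_apply]
    exact QuadraticMap.polar_comm _ _ _⟩

omit [Fintype ι] [DecidableEq ι] in
theorem polE_nondegenerate (Q : QuadraticForm F (ι → F)) (E : Submodule F (ι → F))
    (hE : ND Q E) : (polE Q E).Nondegenerate := by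
  rw [nd_iff] at hE
  constructor
  · intro u hu
    by_contra hne
    have hne' : (u : ι → F) ≠ 0 := fun h => hne (Subtype.ext h)
    obtain ⟨v, hv, hpv⟩ := hE u u.2 hne'
    exact hpv (hu ⟨v, hv⟩)
  · intro u hu
    by_contra hne
    have hne' : (u : ι → F) ≠ 0 := fun h => hne (Subtype.ext h)
    obtain ⟨v, hv, hpv⟩ := hE u u.2 hne'
    apply hpv
    have := hu ⟨v, hv⟩
    rw [polE_apply] at this
    rw [QuadraticMap.polar_comm]
    exact this

omit [Fintype ι] [DecidableEq ι] in
theorem q_eq_zero_of_polar_self (h2 : (2 : F) ≠ 0) (Q : QuadraticForm F (ι → F)) (u : ι → F)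
    (h : QuadraticMap.polar (⇑Q) u u = 0) : Q u = 0 := by
  rw [Cfsg.Agent.Lib.Helper44_Refl.polar_self] at h
  rcases mul_eq_zero.mp h with h0 | h0
  · exact absurd h0 h2
  · exact h0

omit [Fintype ι] [DecidableEq ι] in
theorem polar_eq_zero_of_ts (Q : QuadraticForm F (ι → F)) (U : Submodule F (ι → F))
    (hU : TS Q U) (u v : ι → F) (hu : u ∈ U) (hv : v ∈ U) :
    QuadraticMap.polar (⇑Q) u v = 0 := by
  unfold QuadraticMap.polar
  rw [hU _ (U.add_mem hu hv), hU u hu, hU v hv]
  ring

omit [DecidableEq ι] in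
/-- **Witt-type criterion on a subspace**: a nondegenerate subspace `E` of dimension `2 m` is of plus
type iff `(-1)^m` times the Gram determinant of the polar form in any basis of `E` is a square. -/
theorem plus_iff_isSquare [Finite F] (h2 : (2 : F) ≠ 0) (Q : QuadraticForm F (ι → F))
    (E : Submodule F (ι → F)) (hE : ND Q E) {m : ℕ} (hdim : finrank F E = 2 * m)
    {κ : Type*} [Fintype κ] [DecidableEq κ] (b : Basis κ F E) :
    Plus Q E ↔ IsSquare ((-1 : F) ^ m * (LinearMap.BilinForm.toMatrix b (polE Q E)).det) := by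
  constructor
  · rintro ⟨U, hUE, hUts, hUdim⟩
    have hX : finrank F (U.comap E.subtype) = m := by
      have h1 : (U.comap E.subtype).map E.subtype = U := by
        rw [Submodule.map_comap_eq, Submodule.range_subtype]
        exact inf_eq_right.mpr hUE
      have h2' := Submodule.finrank_map_subtype_eq E (U.comap E.subtype)
      rw [h1] at h2'
      omega
    apply Cfsg.Agent.Lib.Helper14_WittType.isSquare_of_isotropic (polE Q E) (polE_isSymm Q E) hdim
      (U.comap E.subtype) hX
    intro u hu v hv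
    rw [polE_apply]
    exact polar_eq_zero_of_ts Q U hUts _ _ hu hv
  · intro hsq
    rcases Nat.eq_zero_or_pos m with hm | hm
    · subst hm
      refine ⟨⊥, bot_le, ?_, ?_⟩
      · intro w hw
        rw [(Submodule.mem_bot F).mp hw, map_zero]
      · rw [finrank_bot, hdim]
    · obtain ⟨X, hXdim, hXiso⟩ := Cfsg.Agent.Lib.Helper14_WittType.exists_isotropic_of_isSquare h2
        (polE Q E) (polE_isSymm Q E) (polE_nondegenerate Q E hE) hm hdim b hsq
      refine ⟨X.map E.subtype, ?_, ?_, ?_⟩
      · rintro _ ⟨u, -, rfl⟩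
        exact u.2
      · rintro _ ⟨u, hu, rfl⟩
        apply q_eq_zero_of_polar_self h2
        exact hXiso u hu u hu
      · rw [Submodule.finrank_map_subtype_eq, hXdim, hdim]

open Cfsg.Agent.Lib.Helper35_OrthR2_A1 in
/-- An involutive isometry is the product of the reflections in the vectors of an orthogonal basis
of its `-1`-eigenspace. -/
theorem eq_prod_refl (h2 : (2 : F) ≠ 0) (Q : QuadraticForm F (ι → F)) (x : Matrix ι ι F)
    (hiso : ∀ v : ι → F, Q (x *ᵥ v) = Q v) (hxx : x * x = 1) {k : ℕ}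
    (v : Basis (Fin k) F (eigM x))
    (horth : ∀ i j, i ≠ j → QuadraticMap.polar (⇑Q) (v i : ι → F) (v j : ι → F) = 0)
    (hne : ∀ i, Q (v i : ι → F) ≠ 0) :
    x = ((List.ofFn (fun i => (v i : ι → F))).map
      (fun w => Cfsg.reflectionMatrix (⇑Q) w)).prod := by
  set vs : List (ι → F) := List.ofFn (fun i => (v i : ι → F)) with hvs
  set M : Matrix ι ι F := (vs.map (fun w => Cfsg.reflectionMatrix (⇑Q) w)).prod with hM
  have hmemvs : ∀ u ∈ vs, ∃ i, u = (v i : ι → F) := by
    intro u hu
    obtain ⟨i, rfl⟩ := (List.mem_ofFn' _ _).mp hu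
    exact ⟨i, rfl⟩
  -- on the fixed space
  have hP : ∀ w ∈ eigP x, M *ᵥ w = w := by
    intro w hw
    apply Cfsg.Agent.Lib.Helper14_NegOne.prod_refl_fix Q vs w
    intro u hu
    obtain ⟨i, rfl⟩ := hmemvs u hu
    rw [QuadraticMap.polar_comm]
    exact polar_eigP_eigM h2 Q x hiso w hw _ (v i).2
  -- on the basis vectors
  have hMv : ∀ i, M *ᵥ (v i : ι → F) = -(v i : ι → F) := by
    intro i
    apply Cfsg.Agent.Lib.Helper14_NegOne.prod_refl_neg Q vs
    · rw [hvs, List.pairwise_ofFn]
      intro i j hij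
      exact horth i j (ne_of_lt hij)
    · intro u hu
      obtain ⟨i, rfl⟩ := hmemvs u hu
      exact hne i
    · exact (List.mem_ofFn' _ _).mpr ⟨i, rfl⟩
  -- on the whole `-1`-eigenspace
  have hMe : ∀ e : eigM x, M *ᵥ (e : ι → F) = -(e : ι → F) := by
    have hfg : (Matrix.toLin' M) ∘ₗ (eigM x).subtype = -(eigM x).subtype := by
      apply v.ext
      intro i
      rw [LinearMap.comp_apply, Submodule.subtype_apply, Matrix.toLin'_apply, hMv i,
        LinearMap.neg_apply, Submodule.subtype_apply]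
    intro e
    have := LinearMap.congr_fun hfg e
    rw [LinearMap.comp_apply, Submodule.subtype_apply, Matrix.toLin'_apply,
      LinearMap.neg_apply, Submodule.subtype_apply] at this
    exact this
  apply Cfsg.Agent.Lib.Helper44_Refl.matrix_ext_mulVec
  intro w
  rw [← compP_add_compM h2 x w, Matrix.mulVec_add, Matrix.mulVec_add,
    (mem_eigP x _).mp (compP_mem x hxx w), (mem_eigM x _).mp (compM_mem x hxx w),
    hP _ (compP_mem x hxx w), hMe ⟨_, compM_mem x hxx w⟩]

omit [Fintype ι] [DecidableEq ι] in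
/-- Gram determinant of the restricted polar form in an orthogonal basis of the subspace. -/
theorem gram_det_orth (Q : QuadraticForm F (ι → F)) (E : Submodule F (ι → F)) {k : ℕ}
    (v : Basis (Fin k) F E)
    (horth : ∀ i j, i ≠ j → QuadraticMap.polar (⇑Q) (v i : ι → F) (v j : ι → F) = 0) :
    (LinearMap.BilinForm.toMatrix v (polE Q E)).det = (2 : F) ^ k * ∏ i, Q (v i : ι → F) := by
  have h1 : LinearMap.BilinForm.toMatrix v (polE Q E)
      = Matrix.diagonal (fun i => 2 * Q (v i : ι → F)) := by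
    ext i j
    rw [LinearMap.BilinForm.toMatrix_apply, polE_apply]
    by_cases hij : i = j
    · subst hij
      rw [Matrix.diagonal_apply_eq, Cfsg.Agent.Lib.Helper44_Refl.polar_self]
    · rw [Matrix.diagonal_apply_ne _ hij, horth i j hij]
  rw [h1, Matrix.det_diagonal, Finset.prod_mul_distrib, Finset.prod_const, Finset.card_univ,
    Fintype.card_fin]

/-- A2 -/
theorem A2 [Fintype F] (h2 : (2 : F) ≠ 0) (Q : QuadraticForm F (ι → F))
    (hQ : (QuadraticMap.polarBilin Q).Nondegenerate) (x : GL ι F)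
    (hx : x ∈ Cfsg.Geo.omegaGL (⇑Q)) (hxx : (x : Matrix ι ι F) * (x : Matrix ι ι F) = 1) :
    Even (finrank F (eigM (x : Matrix ι ι F))) ∧
      (Plus Q (eigM (x : Matrix ι ι F)) ↔
        IsSquare ((-1 : F) ^ (finrank F (eigM (x : Matrix ι ι F)) / 2))) := by
  obtain ⟨hxiso, hxom⟩ := (Cfsg.Agent.Lib.Helper14_AutOmega.mem_omegaGL_iff (⇑Q) x).mp hx
  have hiso : ∀ v : ι → F, Q ((x : Matrix ι ι F) *ᵥ v) = Q v :=
    (Cfsg.Agent.Lib.Helper44_Orth.mem_isometryGroup_iff (⇑Q) x).mp hxiso
  obtain ⟨-, -, -, hE, -, -, -⟩ :=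
    Cfsg.Agent.Lib.Helper35_OrthR2_A1.A1 h2 Q hQ (x : Matrix ι ι F) hiso hxx
  set E := eigM (x : Matrix ι ι F) with hEdef
  -- an orthogonal basis of `E`
  have : Invertible (2 : F) := invertibleOfNonzero h2
  obtain ⟨v, hv⟩ := LinearMap.BilinForm.exists_orthogonal_basis (polE_isSymm' Q E)
  have hne : ∀ i, Q (v i : ι → F) ≠ 0 := by
    intro i h0
    have := hv.not_isOrtho_basis_self_of_separatingLeft (polE_nondegenerate Q E hE).1 i
    apply this
    rw [polE_apply, Cfsg.Agent.Lib.Helper44_Refl.polar_self, h0, mul_zero]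
  have horth : ∀ i j, i ≠ j → QuadraticMap.polar (⇑Q) (v i : ι → F) (v j : ι → F) = 0 := by
    intro i j hij
    have := hv hij
    exact this
  have hprod := eq_prod_refl h2 Q (x : Matrix ι ι F) hiso hxx v horth hne
  have hom := (Cfsg.Agent.Lib.Helper44_Spinor.mem_omega_iff Q h2 ⟨x, hxiso⟩
    (List.ofFn (fun i => (v i : ι → F)))
    (by
      intro u hu
      obtain ⟨i, rfl⟩ := (List.mem_ofFn' _ _).mp hu
      exact hne i) hprod).mp hxom
  obtain ⟨heven, hsq⟩ := hom
  rw [List.length_ofFn] at heven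
  rw [List.map_ofFn, List.prod_ofFn] at hsq
  refine ⟨heven, ?_⟩
  obtain ⟨m, hm⟩ := heven
  have hdim : finrank F E = 2 * m := by rw [hm, two_mul]
  have hhalf : finrank F E / 2 = m := by omega
  rw [hhalf, plus_iff_isSquare h2 Q E hE hdim v, gram_det_orth Q E v horth]
  obtain ⟨s, hs⟩ := hsq
  have hs' : (∏ i, Q (v i : ι → F)) = s * s := hs
  have hs0 : s ≠ 0 := by
    intro h0
    rw [h0, mul_zero] at hs'
    obtain ⟨i, -, hi⟩ := Finset.prod_eq_zero_iff.mp hs'
    exact hne i hi
  have hrew : (-1 : F) ^ m * ((2 : F) ^ finrank F E * ∏ i, Q (v i : ι → F))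
      = ((2 : F) ^ m * s) * ((-1 : F) ^ m) * ((2 : F) ^ m * s) := by
    rw [hs', hm, pow_add]
    ring
  rw [hrew]
  exact Cfsg.Agent.Lib.Helper44_Disc.isSquare_mul_sq_iff (mul_ne_zero (pow_ne_zero m h2) hs0)

end Cfsg.Agent.Lib.Helper35_OrthR2_A2
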