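import Mathlib
import Cfsg.Prelude.Def_GeometricClasses
import Cfsg.Prelude.Def_Classical
import Cfsg.Agent.Lib.Helper13_OrthR2Defs

/-!
# ORTHR2: the plane decomposition for an isometry with `x * x = -1` (helper58, for helper13)

For an isometry `x` of a quadratic form `Q` (`2 ≠ 0`) with `x * x = -1`: `polar v (x v) = 0`, and
every invariant nondegenerate subspace `W ≠ ⊥` contains a vector `v` with `Q v ≠ 0` and splits as
`W = <v, x v> ⊥ W'` with `W'` invariant, nondegenerate, of dimension `dim W - 2` (`Split`,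
`exists_split`).  Consequently invariant nondegenerate subspaces have even dimension.
-/

set_option autoImplicit false
set_option linter.unusedVariables false
set_option linter.unusedSectionVars false
open scoped MatrixGroups

namespace Cfsg.Agent.Lib.Helper58_OrthR2_Planes

open Matrix Module Cfsg.Agent.Lib.Helper13_OrthR2Defs

variable {ι : Type} [Fintype ι] [DecidableEq ι] {F : Type*} [Field F]

theorem xx_apply (x : Matrix ι ι F) (hxx : x * x = -1) (v : ι → F) : x *ᵥ (x *ᵥ v) = -v := by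
  rw [Matrix.mulVec_mulVec, hxx, Matrix.neg_mulVec, Matrix.one_mulVec]

theorem polar_iso (Q : QuadraticForm F (ι → F)) (x : Matrix ι ι F)
    (hiso : ∀ v : ι → F, Q (x *ᵥ v) = Q v) (u w : ι → F) :
    QuadraticMap.polar (⇑Q) (x *ᵥ u) (x *ᵥ w) = QuadraticMap.polar (⇑Q) u w := by
  unfold QuadraticMap.polar
  rw [← Matrix.mulVec_add, hiso, hiso, hiso]

theorem polar_x_left (Q : QuadraticForm F (ι → F)) (x : Matrix ι ι F)
    (hiso : ∀ v : ι → F, Q (x *ᵥ v) = Q v) (hxx : x * x = -1) (u w : ι → F) :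
    QuadraticMap.polar (⇑Q) (x *ᵥ u) w = - QuadraticMap.polar (⇑Q) u (x *ᵥ w) := by
  rw [← polar_iso Q x hiso (x *ᵥ u) w, xx_apply x hxx, QuadraticMap.polar_neg_left]

theorem polar_x_right (Q : QuadraticForm F (ι → F)) (x : Matrix ι ι F)
    (hiso : ∀ v : ι → F, Q (x *ᵥ v) = Q v) (hxx : x * x = -1) (u w : ι → F) :
    QuadraticMap.polar (⇑Q) u (x *ᵥ w) = - QuadraticMap.polar (⇑Q) (x *ᵥ u) w := by
  rw [polar_x_left Q x hiso hxx, neg_neg]

theorem polar_self_x (h2 : (2 : F) ≠ 0) (Q : QuadraticForm F (ι → F)) (x : Matrix ι ι F)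
    (hiso : ∀ v : ι → F, Q (x *ᵥ v) = Q v) (hxx : x * x = -1) (v : ι → F) :
    QuadraticMap.polar (⇑Q) v (x *ᵥ v) = 0 := by
  have h1 := polar_x_left Q x hiso hxx v v
  rw [QuadraticMap.polar_comm] at h1
  have h3 : (2 : F) * QuadraticMap.polar (⇑Q) v (x *ᵥ v) = 0 := by linear_combination h1
  exact (mul_eq_zero.1 h3).resolve_left h2

theorem polar_self' (Q : QuadraticForm F (ι → F)) (v : ι → F) :
    QuadraticMap.polar (⇑Q) v v = 2 * Q v := by
  have := QuadraticMap.polar_self Q v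
  rw [this, two_smul, two_mul]

/-- `Q` of a combination of orthogonal vectors -/
theorem Q_add_of_polar_eq_zero (Q : QuadraticForm F (ι → F)) (u w : ι → F)
    (h : QuadraticMap.polar (⇑Q) u w = 0) : Q (u + w) = Q u + Q w := by
  unfold QuadraticMap.polar at h
  linear_combination h

/-- the data of a splitting `W = <v, x v> ⊥ W'` -/
structure Split (Q : QuadraticForm F (ι → F)) (x : Matrix ι ι F) (W W' : Submodule F (ι → F))
    (v : ι → F) : Prop where
  hvW : v ∈ W
  hxvW : x *ᵥ v ∈ W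
  hQv : Q v ≠ 0
  le : W' ≤ W
  inv : Inv x W'
  nd : ND Q W'
  orth_v : ∀ w ∈ W', QuadraticMap.polar (⇑Q) v w = 0
  orth_xv : ∀ w ∈ W', QuadraticMap.polar (⇑Q) (x *ᵥ v) w = 0
  decomp : ∀ w ∈ W, ∃ a b : F, ∃ w' ∈ W', w = a • v + b • (x *ᵥ v) + w'
  finrank_eq : finrank F W = finrank F W' + 2

/-- a nondegenerate nonzero subspace contains a nonsingular vector -/
theorem exists_nonsingular (Q : QuadraticForm F (ι → F)) (W : Submodule F (ι → F))
    (hnd : ND Q W) (hW : W ≠ ⊥) : ∃ v ∈ W, Q v ≠ 0 := by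
  by_contra hcon
  have hall : ∀ v ∈ W, Q v = 0 := by
    intro v hv
    by_contra h
    exact hcon ⟨v, hv, h⟩
  obtain ⟨w, hw, hw0⟩ := (Submodule.ne_bot_iff W).1 hW
  obtain ⟨u, hu, hne⟩ := (nd_iff Q W).1 hnd w hw hw0
  apply hne
  unfold QuadraticMap.polar
  rw [hall _ (W.add_mem hw hu), hall w hw, hall u hu]
  ring

theorem exists_split (h2 : (2 : F) ≠ 0) (Q : QuadraticForm F (ι → F)) (x : Matrix ι ι F)
    (hiso : ∀ v : ι → F, Q (x *ᵥ v) = Q v) (hxx : x * x = -1)
    (W : Submodule F (ι → F)) (hinv : Inv x W) (hnd : ND Q W) (hW : W ≠ ⊥) :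
    ∃ (v : ι → F) (W' : Submodule F (ι → F)), Split Q x W W' v := by
  obtain ⟨v, hvW, hQv⟩ := exists_nonsingular Q W hnd hW
  have hxvW : x *ᵥ v ∈ W := (inv_iff x W).1 hinv v hvW
  obtain ⟨c, hc⟩ : ∃ c : F, c = Q v := ⟨_, rfl⟩
  have hc0 : c ≠ 0 := by rw [hc]; exact hQv
  have h2c : (2 : F) * c ≠ 0 := mul_ne_zero h2 hc0
  have hvv : QuadraticMap.polar (⇑Q) v v = 2 * c := by rw [polar_self', hc]
  have hxvxv : QuadraticMap.polar (⇑Q) (x *ᵥ v) (x *ᵥ v) = 2 * c := by
    rw [polar_iso Q x hiso, hvv]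
  have hvxv : QuadraticMap.polar (⇑Q) v (x *ᵥ v) = 0 := polar_self_x h2 Q x hiso hxx v
  have hxvv : QuadraticMap.polar (⇑Q) (x *ᵥ v) v = 0 := by
    rw [QuadraticMap.polar_comm]; exact hvxv
  -- the complement
  obtain ⟨W', hW'⟩ : ∃ W' : Submodule F (ι → F), W' = W ⊓
      (LinearMap.ker (QuadraticMap.polarBilin Q v) ⊓
        LinearMap.ker (QuadraticMap.polarBilin Q (x *ᵥ v))) := ⟨_, rfl⟩
  have hmem : ∀ w, w ∈ W' ↔ w ∈ W ∧ QuadraticMap.polar (⇑Q) v w = 0 ∧
      QuadraticMap.polar (⇑Q) (x *ᵥ v) w = 0 := by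
    intro w
    rw [hW', Submodule.mem_inf, Submodule.mem_inf, LinearMap.mem_ker, LinearMap.mem_ker,
      QuadraticMap.polarBilin_apply_apply, QuadraticMap.polarBilin_apply_apply]
  have hdecomp : ∀ w ∈ W, ∃ a b : F, ∃ w' ∈ W', w = a • v + b • (x *ᵥ v) + w' := by
    intro w hw
    refine ⟨(2 * c)⁻¹ * QuadraticMap.polar (⇑Q) v w,
      (2 * c)⁻¹ * QuadraticMap.polar (⇑Q) (x *ᵥ v) w,
      w - ((2 * c)⁻¹ * QuadraticMap.polar (⇑Q) v w) • v -
        ((2 * c)⁻¹ * QuadraticMap.polar (⇑Q) (x *ᵥ v) w) • (x *ᵥ v), ?_, by abel⟩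
    rw [hmem]
    refine ⟨W.sub_mem (W.sub_mem hw (W.smul_mem _ hvW)) (W.smul_mem _ hxvW), ?_, ?_⟩
    · rw [QuadraticMap.polar_sub_right, QuadraticMap.polar_sub_right,
        QuadraticMap.polar_smul_right, QuadraticMap.polar_smul_right, hvv, hvxv, smul_eq_mul,
        smul_eq_mul]
      field_simp
      ring
    · rw [QuadraticMap.polar_sub_right, QuadraticMap.polar_sub_right,
        QuadraticMap.polar_smul_right, QuadraticMap.polar_smul_right, hxvv, hxvxv, smul_eq_mul,
        smul_eq_mul]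
      field_simp
      ring
  have hcoef : ∀ a b : F, a • v + b • (x *ᵥ v) ∈ W' → a = 0 ∧ b = 0 := by
    intro a b hab
    obtain ⟨-, h1, h2'⟩ := (hmem _).1 hab
    rw [QuadraticMap.polar_add_right, QuadraticMap.polar_smul_right,
      QuadraticMap.polar_smul_right, smul_eq_mul, smul_eq_mul] at h1 h2'
    rw [hvv, hvxv] at h1
    rw [hxvv, hxvxv] at h2'
    constructor
    · have : a * (2 * c) = 0 := by linear_combination h1
      exact (mul_eq_zero.1 this).resolve_right h2c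
    · have : b * (2 * c) = 0 := by linear_combination h2'
      exact (mul_eq_zero.1 this).resolve_right h2c
  have hW'inv : Inv x W' := by
    rw [inv_iff]
    intro w hw
    obtain ⟨hwW, h1, h2'⟩ := (hmem w).1 hw
    rw [hmem]
    refine ⟨(inv_iff x W).1 hinv w hwW, ?_, ?_⟩
    · rw [polar_x_right Q x hiso hxx, h2', neg_zero]
    · rw [polar_iso Q x hiso, h1]
  have hW'nd : ND Q W' := by
    rw [nd_iff]
    intro w hw hw0
    obtain ⟨hwW, h1, h2'⟩ := (hmem w).1 hw
    obtain ⟨u, hu, hne⟩ := (nd_iff Q W).1 hnd w hwW hw0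
    obtain ⟨a, b, u', hu', rfl⟩ := hdecomp u hu
    refine ⟨u', hu', ?_⟩
    intro h0
    apply hne
    rw [QuadraticMap.polar_add_right, QuadraticMap.polar_add_right,
      QuadraticMap.polar_smul_right, QuadraticMap.polar_smul_right, h0,
      QuadraticMap.polar_comm (⇑Q) w v, QuadraticMap.polar_comm (⇑Q) w (x *ᵥ v), h1, h2']
    simp
  -- dimensions
  obtain ⟨P, hP⟩ : ∃ P : Submodule F (ι → F), P = Submodule.span F {v, x *ᵥ v} := ⟨_, rfl⟩
  have hPmem : ∀ w, w ∈ P ↔ ∃ a b : F, w = a • v + b • (x *ᵥ v) := by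
    intro w
    rw [hP, Submodule.mem_span_pair]
    constructor
    · rintro ⟨a, b, h⟩; exact ⟨a, b, h.symm⟩
    · rintro ⟨a, b, h⟩; exact ⟨a, b, h.symm⟩
  have hPW : P ≤ W := by
    intro w hw
    obtain ⟨a, b, rfl⟩ := (hPmem w).1 hw
    exact W.add_mem (W.smul_mem _ hvW) (W.smul_mem _ hxvW)
  have hsup : P ⊔ W' = W := by
    apply le_antisymm
    · apply sup_le hPW
      intro w hw
      exact ((hmem w).1 hw).1
    · intro w hw
      obtain ⟨a, b, w', hw', rfl⟩ := hdecomp w hw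
      exact Submodule.add_mem_sup ((hPmem _).2 ⟨a, b, rfl⟩) hw'
  have hinf : P ⊓ W' = ⊥ := by
    rw [eq_bot_iff]
    intro w hw
    obtain ⟨hwP, hwW'⟩ := Submodule.mem_inf.1 hw
    obtain ⟨a, b, rfl⟩ := (hPmem w).1 hwP
    obtain ⟨ha, hb⟩ := hcoef a b hwW'
    rw [ha, hb, zero_smul, zero_smul, add_zero]
    exact Submodule.zero_mem _
  have hli : LinearIndependent F ![v, x *ᵥ v] := by
    rw [LinearIndependent.pair_iff]
    intro a b hab
    apply hcoef a b
    rw [hab]
    exact Submodule.zero_mem _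
  have hPdim : finrank F P = 2 := by
    have h := finrank_span_eq_card hli
    rw [Fintype.card_fin] at h
    have hr : Set.range ![v, x *ᵥ v] = {v, x *ᵥ v} := by
      ext w
      simp only [Matrix.range_cons, Matrix.range_empty, Set.union_empty, Set.mem_union,
        Set.mem_singleton_iff, Set.mem_insert_iff]
    rw [hr] at h
    rw [hP]
    exact h
  have hdim : finrank F W = finrank F W' + 2 := by
    have h := Submodule.finrank_sup_add_finrank_inf_eq P W'
    rw [hsup, hinf, finrank_bot, add_zero, hPdim] at h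
    omega
  exact ⟨v, W', ⟨hvW, hxvW, hQv, fun w hw => ((hmem w).1 hw).1, hW'inv, hW'nd,
    fun w hw => ((hmem w).1 hw).2.1, fun w hw => ((hmem w).1 hw).2.2, hdecomp, hdim⟩⟩

/-- invariant nondegenerate subspaces have even dimension -/
theorem even_finrank (h2 : (2 : F) ≠ 0) (Q : QuadraticForm F (ι → F)) (x : Matrix ι ι F)
    (hiso : ∀ v : ι → F, Q (x *ᵥ v) = Q v) (hxx : x * x = -1) :
    ∀ (n : ℕ) (W : Submodule F (ι → F)), Inv x W → ND Q W → finrank F W = n → Even n := by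
  intro n
  induction n using Nat.strong_induction_on with
  | _ n ih =>
    intro W hinv hnd hn
    by_cases hW : W = ⊥
    · rw [hW, finrank_bot] at hn
      rw [← hn]
      exact Even.zero
    · obtain ⟨v, W', hs⟩ := exists_split h2 Q x hiso hxx W hinv hnd hW
      have h1 := hs.finrank_eq
      have h3 := ih (finrank F W') (by omega) W' hs.inv hs.nd rfl
      rw [← hn, h1]
      exact h3.add even_two

end Cfsg.Agent.Lib.Helper58_OrthR2_Planes
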