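import Mathlib
import Cfsg.Prelude.Def_GeometricClasses
import Cfsg.Prelude.Def_Classical
import Cfsg.Agent.Lib.Helper13_OrthR2Defs
import Cfsg.Agent.Lib.Helper58_OrthR2_Planes
import Cfsg.Agent.Lib.Helper44_QuadClass

/-!
# ORTHR2 package B2 (helper58, for helper13)

For an isometry `x` with `x * x = -1` (any finite field with `2 ≠ 0`): invariant nondegenerate
subspaces of every even dimension `2k ≤ n` and invariant totally singular subspaces of every
dimension `2k` with `4k ≤ n`, by the plane decomposition.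
-/

set_option autoImplicit false
set_option linter.unusedVariables false
set_option linter.unusedSectionVars false
open scoped MatrixGroups

namespace Cfsg.Agent.Lib.Helper58_OrthR2_B2

open Matrix Module Cfsg.Agent.Lib.Helper13_OrthR2Defs Cfsg.Agent.Lib.Helper58_OrthR2_Planes

variable {ι : Type} [Fintype ι] [DecidableEq ι] {F : Type*} [Field F]

/-- dimension of `<p, q> ⊔ T'` when two functionals separate `p`, `q` and kill `T'` -/
theorem finrank_pair_sup (φ ψ : (ι → F) →ₗ[F] F) (p q : ι → F) (d : F) (hd : d ≠ 0)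
    (h1 : φ p = d) (h2 : φ q = 0) (h3 : ψ p = 0) (h4 : ψ q = d) (T' : Submodule F (ι → F))
    (hT' : ∀ t ∈ T', φ t = 0 ∧ ψ t = 0) :
    finrank F ↥(Submodule.span F {p, q} ⊔ T') = finrank F T' + 2 := by
  have hcoef : ∀ a b : F, φ (a • p + b • q) = 0 → ψ (a • p + b • q) = 0 → a = 0 ∧ b = 0 := by
    intro a b hφ hψ
    rw [map_add, map_smul, map_smul, h1, h2, smul_eq_mul, smul_eq_mul, mul_zero, add_zero] at hφ
    rw [map_add, map_smul, map_smul, h3, h4, smul_eq_mul, smul_eq_mul, mul_zero, zero_add] at hψ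
    exact ⟨(mul_eq_zero.1 hφ).resolve_right hd, (mul_eq_zero.1 hψ).resolve_right hd⟩
  have hli : LinearIndependent F ![p, q] := by
    rw [LinearIndependent.pair_iff]
    intro a b hab
    apply hcoef a b
    · rw [hab, map_zero]
    · rw [hab, map_zero]
  have hPdim : finrank F ↥(Submodule.span F {p, q}) = 2 := by
    have h := finrank_span_eq_card hli
    rw [Fintype.card_fin] at h
    have hr : Set.range ![p, q] = {p, q} := by
      ext w
      simp only [Matrix.range_cons, Matrix.range_empty, Set.union_empty, Set.mem_union,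
        Set.mem_singleton_iff, Set.mem_insert_iff]
    rw [hr] at h
    exact h
  have hinf : Submodule.span F {p, q} ⊓ T' = ⊥ := by
    rw [eq_bot_iff]
    intro w hw
    obtain ⟨hwP, hwT⟩ := Submodule.mem_inf.1 hw
    obtain ⟨a, b, rfl⟩ := Submodule.mem_span_pair.1 hwP
    obtain ⟨ha, hb⟩ := hcoef a b (hT' _ hwT).1 (hT' _ hwT).2
    rw [ha, hb, zero_smul, zero_smul, add_zero]
    exact Submodule.zero_mem _
  have h := Submodule.finrank_sup_add_finrank_inf_eq (Submodule.span F {p, q}) T'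
  rw [hinf, finrank_bot, add_zero, hPdim] at h
  omega

theorem inv_bot (x : Matrix ι ι F) : Inv x (⊥ : Submodule F (ι → F)) := by
  rw [inv_iff]
  intro w hw
  rw [(Submodule.mem_bot F).1 hw, Matrix.mulVec_zero]
  exact Submodule.zero_mem _

/-- invariant nondegenerate subspaces of all even dimensions -/
theorem nd_sub (h2 : (2 : F) ≠ 0) (Q : QuadraticForm F (ι → F)) (x : Matrix ι ι F)
    (hiso : ∀ v : ι → F, Q (x *ᵥ v) = Q v) (hxx : x * x = -1) :
    ∀ (n : ℕ) (W : Submodule F (ι → F)), Inv x W → ND Q W → finrank F W = n →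
      ∀ k : ℕ, 2 * k ≤ n →
        ∃ W' : Submodule F (ι → F), W' ≤ W ∧ Inv x W' ∧ ND Q W' ∧ finrank F W' = 2 * k := by
  intro n
  induction n using Nat.strong_induction_on with
  | _ n ih =>
    intro W hinv hnd hn k hk
    by_cases hkn : 2 * k = n
    · exact ⟨W, le_rfl, hinv, hnd, by rw [hn, hkn]⟩
    · have hW : W ≠ ⊥ := by
        intro h
        rw [h, finrank_bot] at hn
        omega
      obtain ⟨v, W₁, hs⟩ := exists_split h2 Q x hiso hxx W hinv hnd hW
      have h1 := hs.finrank_eq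
      obtain ⟨r, hr⟩ := even_finrank h2 Q x hiso hxx n W hinv hnd hn
      obtain ⟨W', hW'le, hW'inv, hW'nd, hW'dim⟩ :=
        ih (finrank F W₁) (by omega) W₁ hs.inv hs.nd rfl k (by omega)
      exact ⟨W', hW'le.trans hs.le, hW'inv, hW'nd, hW'dim⟩

/-- invariant totally singular subspaces -/
theorem ts_sub [Finite F] (h2 : (2 : F) ≠ 0) (Q : QuadraticForm F (ι → F)) (x : Matrix ι ι F)
    (hiso : ∀ v : ι → F, Q (x *ᵥ v) = Q v) (hxx : x * x = -1) :
    ∀ (k : ℕ) (W : Submodule F (ι → F)), Inv x W → ND Q W → 4 * k ≤ finrank F W →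
        ∃ T : Submodule F (ι → F), T ≤ W ∧ Inv x T ∧ TS Q T ∧ finrank F T = 2 * k := by
  intro k
  induction k with
  | zero =>
    intro W hinv hnd hk
    refine ⟨⊥, bot_le, inv_bot x, ?_, by rw [finrank_bot]⟩
    intro w hw
    rw [(Submodule.mem_bot F).1 hw, map_zero]
  | succ k ih =>
    intro W hinv hnd hk
    have hW : W ≠ ⊥ := by
      intro h
      rw [h, finrank_bot] at hk
      omega
    obtain ⟨v, W₁, hs₁⟩ := exists_split h2 Q x hiso hxx W hinv hnd hW
    have hd1 := hs₁.finrank_eq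
    have hW₁ : W₁ ≠ ⊥ := by
      intro h
      rw [h, finrank_bot] at hd1
      omega
    obtain ⟨w, W₂, hs₂⟩ := exists_split h2 Q x hiso hxx W₁ hs₁.inv hs₁.nd hW₁
    have hd2 := hs₂.finrank_eq
    obtain ⟨T', hT'le, hT'inv, hT'ts, hT'dim⟩ := ih W₂ hs₂.inv hs₂.nd (by omega)
    -- notation
    obtain ⟨c, hc⟩ : ∃ c : F, c = Q v := ⟨_, rfl⟩
    obtain ⟨c', hc'⟩ : ∃ c' : F, c' = Q w := ⟨_, rfl⟩
    have hc0 : c ≠ 0 := by rw [hc]; exact hs₁.hQv
    have hc'0 : c' ≠ 0 := by rw [hc']; exact hs₂.hQv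
    obtain ⟨a, b, hab⟩ := Cfsg.Agent.Lib.Helper44_QuadClass.exists_sq_sum h2 hc'0 hc'0 c
    -- orthogonality relations
    have hvw : QuadraticMap.polar (⇑Q) v w = 0 := hs₁.orth_v w hs₂.hvW
    have hvxw : QuadraticMap.polar (⇑Q) v (x *ᵥ w) = 0 := hs₁.orth_v _ hs₂.hxvW
    have hxvw : QuadraticMap.polar (⇑Q) (x *ᵥ v) w = 0 := hs₁.orth_xv w hs₂.hvW
    have hxvxw : QuadraticMap.polar (⇑Q) (x *ᵥ v) (x *ᵥ w) = 0 := hs₁.orth_xv _ hs₂.hxvW
    have hwxw : QuadraticMap.polar (⇑Q) w (x *ᵥ w) = 0 := polar_self_x h2 Q x hiso hxx w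
    have hvxv : QuadraticMap.polar (⇑Q) v (x *ᵥ v) = 0 := polar_self_x h2 Q x hiso hxx v
    have hvv : QuadraticMap.polar (⇑Q) v v = 2 * c := by rw [polar_self', hc]
    have hQxw : Q (x *ᵥ w) = c' := by rw [hiso, hc']
    obtain ⟨u, hu⟩ : ∃ u : ι → F, u = v + (a • w + b • (x *ᵥ w)) := ⟨_, rfl⟩
    have hxu : x *ᵥ u = x *ᵥ v + (a • (x *ᵥ w) - b • w) := by
      rw [hu, Matrix.mulVec_add, Matrix.mulVec_add, Matrix.mulVec_smul, Matrix.mulVec_smul,
        xx_apply x hxx, smul_neg, sub_eq_add_neg]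
    have hQu : Q u = 0 := by
      have h3 : Q (a • w + b • (x *ᵥ w)) = a * a * c' + b * b * c' := by
        rw [Q_add_of_polar_eq_zero Q _ _ (by
          rw [QuadraticMap.polar_smul_left, QuadraticMap.polar_smul_right, hwxw, smul_zero,
            smul_zero]), QuadraticMap.map_smul, QuadraticMap.map_smul, hQxw, ← hc', smul_eq_mul,
          smul_eq_mul]
      rw [hu, Q_add_of_polar_eq_zero Q _ _ (by
        rw [QuadraticMap.polar_add_right, QuadraticMap.polar_smul_right,
          QuadraticMap.polar_smul_right, hvw, hvxw, smul_zero, smul_zero, add_zero]), h3, ← hc]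
      linear_combination hab
    have hQxu : Q (x *ᵥ u) = 0 := by rw [hiso, hQu]
    have huxu : QuadraticMap.polar (⇑Q) u (x *ᵥ u) = 0 := polar_self_x h2 Q x hiso hxx u
    have huW : u ∈ W := by
      rw [hu]
      exact W.add_mem hs₁.hvW (hs₁.le (W₁.add_mem (W₁.smul_mem _ hs₂.hvW)
        (W₁.smul_mem _ hs₂.hxvW)))
    have hxuW : x *ᵥ u ∈ W := (inv_iff x W).1 hinv u huW
    -- `u` and `x u` are orthogonal to `W₂`
    have hu_orth : ∀ t ∈ W₂, QuadraticMap.polar (⇑Q) u t = 0 := by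
      intro t ht
      rw [hu, QuadraticMap.polar_add_left, QuadraticMap.polar_add_left,
        QuadraticMap.polar_smul_left, QuadraticMap.polar_smul_left, hs₁.orth_v t (hs₂.le ht),
        hs₂.orth_v t ht, hs₂.orth_xv t ht, smul_zero, smul_zero, add_zero, add_zero]
    have hxu_orth : ∀ t ∈ W₂, QuadraticMap.polar (⇑Q) (x *ᵥ u) t = 0 := by
      intro t ht
      rw [polar_x_left Q x hiso hxx, hu_orth _ ((inv_iff x W₂).1 hs₂.inv t ht), neg_zero]
    -- the functionals
    have hφu : QuadraticMap.polarBilin Q v u = 2 * c := by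
      rw [QuadraticMap.polarBilin_apply_apply, hu, QuadraticMap.polar_add_right,
        QuadraticMap.polar_add_right, QuadraticMap.polar_smul_right,
        QuadraticMap.polar_smul_right, hvv, hvw, hvxw, smul_zero, smul_zero, add_zero, add_zero]
    have hφxu : QuadraticMap.polarBilin Q v (x *ᵥ u) = 0 := by
      rw [QuadraticMap.polarBilin_apply_apply, hxu, QuadraticMap.polar_add_right,
        QuadraticMap.polar_sub_right, QuadraticMap.polar_smul_right,
        QuadraticMap.polar_smul_right, hvxv, hvw, hvxw, smul_zero, smul_zero, sub_zero, add_zero]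
    have hψu : QuadraticMap.polarBilin Q (x *ᵥ v) u = 0 := by
      rw [QuadraticMap.polarBilin_apply_apply, polar_x_left Q x hiso hxx,
        ← QuadraticMap.polarBilin_apply_apply, hφxu, neg_zero]
    have hψxu : QuadraticMap.polarBilin Q (x *ᵥ v) (x *ᵥ u) = 2 * c := by
      rw [QuadraticMap.polarBilin_apply_apply, polar_iso Q x hiso,
        ← QuadraticMap.polarBilin_apply_apply, hφu]
    have hT'orth : ∀ t ∈ T', QuadraticMap.polarBilin Q v t = 0 ∧
        QuadraticMap.polarBilin Q (x *ᵥ v) t = 0 := by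
      intro t ht
      rw [QuadraticMap.polarBilin_apply_apply, QuadraticMap.polarBilin_apply_apply]
      exact ⟨hs₁.orth_v t (hs₂.le (hT'le ht)), hs₁.orth_xv t (hs₂.le (hT'le ht))⟩
    have hdim := finrank_pair_sup (QuadraticMap.polarBilin Q v)
      (QuadraticMap.polarBilin Q (x *ᵥ v)) u (x *ᵥ u) (2 * c) (mul_ne_zero h2 hc0)
      hφu hφxu hψu hψxu T' hT'orth
    refine ⟨Submodule.span F {u, x *ᵥ u} ⊔ T', ?_, ?_, ?_, by rw [hdim, hT'dim]; ring⟩
    · apply sup_le
      · rw [Submodule.span_le]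
        intro t ht
        rcases ht with rfl | ht
        · exact huW
        · rw [Set.mem_singleton_iff] at ht
          rw [ht]
          exact hxuW
      · exact hT'le.trans (hs₂.le.trans hs₁.le)
    · rw [inv_iff]
      intro t ht
      obtain ⟨t₀, ht₀, t', ht', rfl⟩ := Submodule.mem_sup.1 ht
      obtain ⟨α, β, rfl⟩ := Submodule.mem_span_pair.1 ht₀
      rw [Matrix.mulVec_add, Matrix.mulVec_add, Matrix.mulVec_smul, Matrix.mulVec_smul,
        xx_apply x hxx]
      apply Submodule.add_mem_sup _ ((inv_iff x T').1 hT'inv t' ht')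
      rw [Submodule.mem_span_pair]
      exact ⟨-β, α, by rw [smul_neg, neg_smul]; abel⟩
    · intro t ht
      obtain ⟨t₀, ht₀, t', ht', rfl⟩ := Submodule.mem_sup.1 ht
      obtain ⟨α, β, rfl⟩ := Submodule.mem_span_pair.1 ht₀
      have ht'W₂ : t' ∈ W₂ := hT'le ht'
      have h5 : Q (α • u + β • (x *ᵥ u)) = 0 := by
        rw [Q_add_of_polar_eq_zero Q _ _ (by
          rw [QuadraticMap.polar_smul_left, QuadraticMap.polar_smul_right, huxu, smul_zero,
            smul_zero]), QuadraticMap.map_smul, QuadraticMap.map_smul, hQu, hQxu, smul_zero,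
          smul_zero, add_zero]
      rw [Q_add_of_polar_eq_zero Q _ _ (by
        rw [QuadraticMap.polar_add_left, QuadraticMap.polar_smul_left,
          QuadraticMap.polar_smul_left, hu_orth t' ht'W₂, hxu_orth t' ht'W₂, smul_zero, smul_zero,
          add_zero]), h5, hT'ts t' ht', add_zero]

theorem B2 [Fintype F] (h2 : (2 : F) ≠ 0) (Q : QuadraticForm F (ι → F))
    (hQ : (QuadraticMap.polarBilin Q).Nondegenerate) (x : Matrix ι ι F)
    (hiso : ∀ v : ι → F, Q (x *ᵥ v) = Q v) (hxx : x * x = -1) :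
    (∀ k : ℕ, 2 * k ≤ Fintype.card ι →
      ∃ W : Submodule F (ι → F), Inv x W ∧ ND Q W ∧ finrank F W = 2 * k) ∧
    (∀ k : ℕ, 4 * k ≤ Fintype.card ι →
      ∃ W : Submodule F (ι → F), Inv x W ∧ TS Q W ∧ finrank F W = 2 * k) := by
  have htop : Inv x (⊤ : Submodule F (ι → F)) := by
    rw [inv_iff]
    intro w _
    exact Submodule.mem_top
  have hdim : finrank F (⊤ : Submodule F (ι → F)) = Fintype.card ι := by
    rw [finrank_top, Module.finrank_fintype_fun_eq_card]
  constructor
  · intro k hk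
    obtain ⟨W, -, h1, h2', h3⟩ := nd_sub h2 Q x hiso hxx _ ⊤ htop (nd_top Q hQ) hdim k hk
    exact ⟨W, h1, h2', h3⟩
  · intro k hk
    obtain ⟨W, -, h1, h2', h3⟩ := ts_sub h2 Q x hiso hxx k ⊤ htop (nd_top Q hQ)
      (by rw [hdim]; exact hk)
    exact ⟨W, h1, h2', h3⟩

end Cfsg.Agent.Lib.Helper58_OrthR2_B2
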