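import Mathlib
import Cfsg.Prelude.Def_GeometricClasses
import Cfsg.Prelude.Def_Classical
import Cfsg.Agent.Lib.Helper13_OrthR2Defs
import Cfsg.Agent.Lib.Helper73_OTS_OW2

/-!
# ORTHR2 package G3 (helper58, for helper13)

A totally singular subspace of a nondegenerate subspace has at most half its dimension
(wrapper around `Helper73_OTS_OW2.OW2`).
-/

set_option autoImplicit false
set_option linter.unusedVariables false
set_option linter.unusedSectionVars false
open scoped MatrixGroups

namespace Cfsg.Agent.Lib.Helper58_OrthR2_G3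

open Matrix Module Cfsg.Agent.Lib.Helper13_OrthR2Defs

variable {ι : Type} [Fintype ι] [DecidableEq ι] {F : Type*} [Field F]

theorem ndOn_of_nd (Q : QuadraticForm F (ι → F)) (U : Submodule F (ι → F)) (hU : ND Q U) :
    Cfsg.Agent.Lib.Helper40_SpBasic.NDOn (Cfsg.Agent.Lib.Helper40_OConj.pol Q) U := by
  intro x hx h
  by_contra hx0
  obtain ⟨v, hv, hne⟩ := ((nd_iff Q U).1 hU x hx hx0)
  exact hne (h v hv)

theorem G3 (Q : QuadraticForm F (ι → F)) (U : Submodule F (ι → F)) (hU : ND Q U)
    (E : Submodule F (ι → F)) (hEU : E ≤ U) (hE : TS Q E) :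
    2 * finrank F E ≤ finrank F U :=
  Cfsg.Agent.Lib.Helper73_OTS_OW2.OW2 Q U (ndOn_of_nd Q U hU) E hEU hE

end Cfsg.Agent.Lib.Helper58_OrthR2_G3
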