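import Mathlib
import Cfsg.Prelude.Def_GeometricClasses
import Cfsg.Prelude.Def_Classical
import Cfsg.Agent.Lib.Helper13_OrthR2Defs
import Cfsg.Agent.Lib.Helper58_OrthR2_G3

/-!
# ORTHR2 package B3 (helper58, for helper13)

An isometry `x` with `x * x = -1` when `-1 = c * c` is a square: the eigenspaces for `c` and `-c`
are totally singular and complementary; every invariant subspace is the sum of its intersections
with them; invariant nondegenerate subspaces are of plus type and even-dimensional; there are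
invariant totally singular subspaces of every dimension up to half the dimension.
-/

set_option autoImplicit false
set_option linter.unusedVariables false
set_option linter.unusedSectionVars false
open scoped MatrixGroups

namespace Cfsg.Agent.Lib.Helper58_OrthR2_B3

open Matrix Module Cfsg.Agent.Lib.Helper13_OrthR2Defs

variable {ι : Type} [Fintype ι] [DecidableEq ι] {F : Type*} [Field F]

/-- the eigenspace of the matrix `x` for the eigenvalue `c` -/
def eig (x : Matrix ι ι F) (c : F) : Submodule F (ι → F) :=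
  LinearMap.ker (Matrix.toLin' x - c • LinearMap.id)

theorem mem_eig (x : Matrix ι ι F) (c : F) (v : ι → F) : v ∈ eig x c ↔ x *ᵥ v = c • v := by
  rw [eig, LinearMap.mem_ker, LinearMap.sub_apply, Matrix.toLin'_apply, LinearMap.smul_apply,
    LinearMap.id_apply, sub_eq_zero]

theorem ts_eig (h2 : (2 : F) ≠ 0) (Q : QuadraticForm F (ι → F)) (x : Matrix ι ι F)
    (hiso : ∀ v : ι → F, Q (x *ᵥ v) = Q v) (c : F) (hc : c * c = -1) : TS Q (eig x c) := by
  intro v hv
  rw [mem_eig] at hv
  have h1 := hiso v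
  rw [hv, QuadraticMap.map_smul, smul_eq_mul, hc] at h1
  have h3 : (2 : F) * Q v = 0 := by linear_combination -h1
  exact (mul_eq_zero.1 h3).resolve_left h2

theorem proj_mem (x : Matrix ι ι F) (hxx : x * x = -1) (c : F) (hc : c * c = -1) (v : ι → F) :
    v - c • (x *ᵥ v) ∈ eig x c := by
  rw [mem_eig, Matrix.mulVec_sub, Matrix.mulVec_smul, Matrix.mulVec_mulVec, hxx,
    Matrix.neg_mulVec, Matrix.one_mulVec, smul_sub, smul_smul, hc]
  simp only [smul_neg, neg_smul, one_smul, sub_neg_eq_add]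
  rw [add_comm]

theorem eig_inf_eig (h2 : (2 : F) ≠ 0) (x : Matrix ι ι F) (c : F) (hc : c * c = -1) :
    eig x c ⊓ eig x (-c) = ⊥ := by
  rw [eq_bot_iff]
  intro v hv
  obtain ⟨h1, h2'⟩ := Submodule.mem_inf.1 hv
  rw [mem_eig] at h1 h2'
  rw [Submodule.mem_bot]
  have hc0 : c ≠ 0 := by
    intro h
    rw [h, zero_mul] at hc
    exact (neg_ne_zero.2 one_ne_zero) hc.symm
  have h3 : ((2 : F) * c) • v = 0 := by
    have : c • v = (-c) • v := by rw [← h1, ← h2']
    rw [mul_smul, two_smul]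
    nth_rewrite 2 [this]
    rw [neg_smul, add_neg_cancel]
  rcases smul_eq_zero.1 h3 with h | h
  · exact absurd h (mul_ne_zero h2 hc0)
  · exact h

theorem neg_mul_neg_self (c : F) (hc : c * c = -1) : (-c) * (-c) = -1 := by
  rw [neg_mul_neg, hc]

/-- an invariant subspace is the sum of its intersections with the two eigenspaces -/
theorem inv_decomp (h2 : (2 : F) ≠ 0) (x : Matrix ι ι F) (hxx : x * x = -1) (c : F)
    (hc : c * c = -1) (W : Submodule F (ι → F)) (hW : Inv x W) :
    W = (W ⊓ eig x c) ⊔ (W ⊓ eig x (-c)) := by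
  apply le_antisymm
  · intro w hw
    have hxw : x *ᵥ w ∈ W := (inv_iff x W).1 hW w hw
    have h1 : w - c • (x *ᵥ w) ∈ W ⊓ eig x c :=
      Submodule.mem_inf.2 ⟨W.sub_mem hw (W.smul_mem c hxw), proj_mem x hxx c hc w⟩
    have h2' : w - (-c) • (x *ᵥ w) ∈ W ⊓ eig x (-c) :=
      Submodule.mem_inf.2 ⟨W.sub_mem hw (W.smul_mem (-c) hxw),
        proj_mem x hxx (-c) (neg_mul_neg_self c hc) w⟩
    have h3 : w = (2 : F)⁻¹ • (w - c • (x *ᵥ w)) + (2 : F)⁻¹ • (w - (-c) • (x *ᵥ w)) := by
      rw [← smul_add]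
      have : w - c • (x *ᵥ w) + (w - (-c) • (x *ᵥ w)) = (2 : F) • w := by
        rw [neg_smul, two_smul]
        abel
      rw [this, smul_smul, inv_mul_cancel₀ h2, one_smul]
    rw [h3]
    exact Submodule.add_mem_sup (Submodule.smul_mem _ _ h1) (Submodule.smul_mem _ _ h2')
  · exact sup_le inf_le_left inf_le_left

theorem finrank_decomp (h2 : (2 : F) ≠ 0) (x : Matrix ι ι F) (hxx : x * x = -1) (c : F)
    (hc : c * c = -1) (W : Submodule F (ι → F)) (hW : Inv x W) :
    finrank F W = finrank F ↥(W ⊓ eig x c) + finrank F ↥(W ⊓ eig x (-c)) := by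
  have h1 := Submodule.finrank_sup_add_finrank_inf_eq (W ⊓ eig x c) (W ⊓ eig x (-c))
  have h3 : (W ⊓ eig x c) ⊓ (W ⊓ eig x (-c)) = ⊥ := by
    rw [eq_bot_iff, ← eig_inf_eig h2 x c hc]
    exact le_inf (inf_le_left.trans inf_le_right) (inf_le_right.trans inf_le_right)
  rw [h3, finrank_bot, add_zero, ← inv_decomp h2 x hxx c hc W hW] at h1
  exact h1

/-- a subspace of prescribed smaller dimension -/
theorem exists_le_finrank_eq (U : Submodule F (ι → F)) (n : ℕ)
    (hn : n ≤ finrank F U) : ∃ X : Submodule F (ι → F), X ≤ U ∧ finrank F X = n := by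
  obtain ⟨f, hf⟩ := exists_linearIndependent_of_le_finrank hn
  have hf' : LinearIndependent F (fun i => (f i : ι → F)) :=
    hf.map' U.subtype (Submodule.ker_subtype U)
  refine ⟨Submodule.span F (Set.range fun i => (f i : ι → F)), ?_, ?_⟩
  · rw [Submodule.span_le]
    rintro _ ⟨i, rfl⟩
    exact (f i).2
  · rw [finrank_span_eq_card hf', Fintype.card_fin]

/-- the half-dimension statement for an invariant nondegenerate subspace -/
theorem two_mul_finrank_eig (h2 : (2 : F) ≠ 0) (Q : QuadraticForm F (ι → F)) (x : Matrix ι ι F)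
    (hiso : ∀ v : ι → F, Q (x *ᵥ v) = Q v) (hxx : x * x = -1) (c : F) (hc : c * c = -1)
    (W : Submodule F (ι → F)) (hW : Inv x W) (hnd : ND Q W) :
    2 * finrank F ↥(W ⊓ eig x c) = finrank F W := by
  have hts1 : TS Q (W ⊓ eig x c) := fun w hw => ts_eig h2 Q x hiso c hc w (Submodule.mem_inf.1 hw).2
  have hts2 : TS Q (W ⊓ eig x (-c)) := fun w hw =>
    ts_eig h2 Q x hiso (-c) (neg_mul_neg_self c hc) w (Submodule.mem_inf.1 hw).2
  have h1 := Cfsg.Agent.Lib.Helper58_OrthR2_G3.G3 Q W hnd _ inf_le_left hts1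
  have h2' := Cfsg.Agent.Lib.Helper58_OrthR2_G3.G3 Q W hnd _ inf_le_left hts2
  have h3 := finrank_decomp h2 x hxx c hc W hW
  omega

theorem B3 [Fintype F] (h2 : (2 : F) ≠ 0) (Q : QuadraticForm F (ι → F))
    (hQ : (QuadraticMap.polarBilin Q).Nondegenerate) (x : Matrix ι ι F)
    (hiso : ∀ v : ι → F, Q (x *ᵥ v) = Q v) (hxx : x * x = -1) (hm1 : IsSquare (-1 : F)) :
    (∀ W : Submodule F (ι → F), Inv x W → ND Q W → Plus Q W ∧ Even (finrank F W)) ∧
    (∀ k : ℕ, 2 * k ≤ Fintype.card ι →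
      ∃ W : Submodule F (ι → F), Inv x W ∧ TS Q W ∧ finrank F W = k) := by
  obtain ⟨c, hc'⟩ := hm1
  have hc : c * c = -1 := hc'.symm
  constructor
  · intro W hW hnd
    have h1 := two_mul_finrank_eig h2 Q x hiso hxx c hc W hW hnd
    refine ⟨⟨W ⊓ eig x c, inf_le_left,
      fun w hw => ts_eig h2 Q x hiso c hc w (Submodule.mem_inf.1 hw).2, h1⟩, ?_⟩
    exact ⟨finrank F ↥(W ⊓ eig x c), by omega⟩
  · intro k hk
    have htop : Inv x (⊤ : Submodule F (ι → F)) := by
      rw [inv_iff]
      intro w _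
      exact Submodule.mem_top
    have h1 := two_mul_finrank_eig h2 Q x hiso hxx c hc ⊤ htop (nd_top Q hQ)
    rw [top_inf_eq, finrank_top, Module.finrank_fintype_fun_eq_card] at h1
    obtain ⟨X, hXE, hXk⟩ := exists_le_finrank_eq (eig x c) k (by omega)
    refine ⟨X, ?_, fun w hw => ts_eig h2 Q x hiso c hc w (hXE hw), hXk⟩
    rw [inv_iff]
    intro w hw
    rw [(mem_eig x c w).1 (hXE hw)]
    exact X.smul_mem c hw

end Cfsg.Agent.Lib.Helper58_OrthR2_B3
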