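import Mathlib
import Cfsg.Prelude.Def_GeometricClasses
import Cfsg.Prelude.Def_Classical
import Cfsg.Agent.Lib.Helper13_OrthR2Defs
import Cfsg.Agent.Lib.Helper58_OrthR2_Planes
import Cfsg.Agent.Lib.Helper44_Spinor

/-!
# ORTHR2 package B4 (helper58, for helper13)

An isometry `x` with `x * x = -1` of a nondegenerate quadratic space of dimension `2d` over a
finite field with `2 ≠ 0` lies in `Ω` iff `2 ^ d` is a square: by the plane decomposition `x` is a
product of `2d` reflections whose norms multiply to `2 ^ d * s ^ 2`.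
-/

set_option autoImplicit false
set_option linter.unusedVariables false
set_option linter.unusedSectionVars false
open scoped MatrixGroups

namespace Cfsg.Agent.Lib.Helper58_OrthR2_B4

open Matrix Module Cfsg.Agent.Lib.Helper13_OrthR2Defs Cfsg.Agent.Lib.Helper58_OrthR2_Planes

variable {ι : Type} [Fintype ι] [DecidableEq ι] {F : Type*} [Field F]

theorem refl_of_orth (Q : QuadraticForm F (ι → F)) (v y : ι → F)
    (h : QuadraticMap.polar (⇑Q) v y = 0) : Cfsg.reflectionMatrix (⇑Q) v *ᵥ y = y := by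
  rw [Cfsg.Agent.Lib.Helper44_Refl.reflectionMatrix_mulVec, h, mul_zero, zero_smul, sub_zero]

theorem prod_refl_of_orth (Q : QuadraticForm F (ι → F)) (y : ι → F) :
    ∀ vs : List (ι → F), (∀ v ∈ vs, QuadraticMap.polar (⇑Q) v y = 0) →
      (vs.map (fun v => Cfsg.reflectionMatrix (⇑Q) v)).prod *ᵥ y = y := by
  intro vs
  induction vs with
  | nil =>
    intro _
    rw [List.map_nil, List.prod_nil, Matrix.one_mulVec]
  | cons v vs ih =>
    intro h
    rw [List.map_cons, List.prod_cons, ← Matrix.mulVec_mulVec,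
      ih (fun u hu => h u (List.mem_cons_of_mem _ hu)), refl_of_orth Q v y (h v List.mem_cons_self)]

/-- on an invariant nondegenerate subspace `x` is a product of reflections -/
theorem exists_refl_list (h2 : (2 : F) ≠ 0) (Q : QuadraticForm F (ι → F)) (x : Matrix ι ι F)
    (hiso : ∀ v : ι → F, Q (x *ᵥ v) = Q v) (hxx : x * x = -1) :
    ∀ (n : ℕ) (W : Submodule F (ι → F)), Inv x W → ND Q W → finrank F W = n →
      ∃ (vs : List (ι → F)) (m : ℕ) (s : F), s ≠ 0 ∧ n = 2 * m ∧ vs.length = 2 * m ∧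
        (∀ v ∈ vs, v ∈ W ∧ Q v ≠ 0) ∧ (vs.map (fun v => Q v)).prod = 2 ^ m * s ^ 2 ∧
        ∀ w ∈ W, (vs.map (fun v => Cfsg.reflectionMatrix (⇑Q) v)).prod *ᵥ w = x *ᵥ w := by
  intro n
  induction n using Nat.strong_induction_on with
  | _ n ih =>
    intro W hinv hnd hn
    by_cases hW : W = ⊥
    · refine ⟨[], 0, 1, one_ne_zero, ?_, rfl, ?_, ?_, ?_⟩
      · rw [hW, finrank_bot] at hn
        omega
      · intro v hv
        exact absurd hv List.not_mem_nil
      · simp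
      · intro w hw
        rw [hW, Submodule.mem_bot] at hw
        rw [hw, Matrix.mulVec_zero, Matrix.mulVec_zero]
    · obtain ⟨v, W₁, hs⟩ := exists_split h2 Q x hiso hxx W hinv hnd hW
      have hd1 := hs.finrank_eq
      obtain ⟨vs₁, m₁, s₁, hs₁0, hn₁, hlen₁, hmem₁, hprod₁, hact₁⟩ :=
        ih (finrank F W₁) (by omega) W₁ hs.inv hs.nd rfl
      obtain ⟨c, hc⟩ : ∃ c : F, c = Q v := ⟨_, rfl⟩
      have hc0 : c ≠ 0 := by rw [hc]; exact hs.hQv
      have h2c : (2 : F) * c ≠ 0 := mul_ne_zero h2 hc0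
      have hQxv : Q (x *ᵥ v) = c := by rw [hiso, hc]
      have hvv : QuadraticMap.polar (⇑Q) v v = 2 * c := by rw [polar_self', hc]
      have hxvxv : QuadraticMap.polar (⇑Q) (x *ᵥ v) (x *ᵥ v) = 2 * c := by
        rw [polar_iso Q x hiso, hvv]
      have hvxv : QuadraticMap.polar (⇑Q) v (x *ᵥ v) = 0 := polar_self_x h2 Q x hiso hxx v
      have hxvv : QuadraticMap.polar (⇑Q) (x *ᵥ v) v = 0 := by
        rw [QuadraticMap.polar_comm]; exact hvxv
      have hQd : Q (v - x *ᵥ v) = 2 * c := by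
        have h5 : QuadraticMap.polar (⇑Q) v (-(x *ᵥ v)) = 0 := by
          rw [QuadraticMap.polar_neg_right, hvxv, neg_zero]
        rw [sub_eq_add_neg, Q_add_of_polar_eq_zero Q _ _ h5, QuadraticMap.map_neg, hQxv, ← hc]
        ring
      -- the two reflections on `v`, `x v`
      have hR2v : Cfsg.reflectionMatrix (⇑Q) (x *ᵥ v) *ᵥ v = v := refl_of_orth Q _ _ hxvv
      have hR2xv : Cfsg.reflectionMatrix (⇑Q) (x *ᵥ v) *ᵥ (x *ᵥ v) = -(x *ᵥ v) := by
        rw [Cfsg.Agent.Lib.Helper44_Refl.reflectionMatrix_mulVec, hQxv, hxvxv]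
        have : c⁻¹ * (2 * c) = 2 := by field_simp
        rw [this, two_smul]
        abel
      have hR1v : Cfsg.reflectionMatrix (⇑Q) (v - x *ᵥ v) *ᵥ v = x *ᵥ v := by
        rw [Cfsg.Agent.Lib.Helper44_Refl.reflectionMatrix_mulVec, hQd,
          QuadraticMap.polar_sub_left, hvv, hxvv, sub_zero, inv_mul_cancel₀ h2c, one_smul]
        abel
      have hR1xv : Cfsg.reflectionMatrix (⇑Q) (v - x *ᵥ v) *ᵥ (x *ᵥ v) = v := by
        rw [Cfsg.Agent.Lib.Helper44_Refl.reflectionMatrix_mulVec, hQd,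
          QuadraticMap.polar_sub_left, hvxv, hxvxv, zero_sub, mul_neg, inv_mul_cancel₀ h2c,
          neg_smul, one_smul]
        abel
      refine ⟨(v - x *ᵥ v) :: (x *ᵥ v) :: vs₁, m₁ + 1, c * s₁, mul_ne_zero hc0 hs₁0, by omega,
        by rw [List.length_cons, List.length_cons, hlen₁]; ring, ?_, ?_, ?_⟩
      · intro u hu
        rcases List.mem_cons.1 hu with rfl | hu
        · exact ⟨W.sub_mem hs.hvW hs.hxvW, by rw [hQd]; exact h2c⟩
        · rcases List.mem_cons.1 hu with rfl | hu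
          · exact ⟨hs.hxvW, by rw [hQxv]; exact hc0⟩
          · exact ⟨hs.le (hmem₁ u hu).1, (hmem₁ u hu).2⟩
      · rw [List.map_cons, List.map_cons, List.prod_cons, List.prod_cons, hprod₁, hQd, hQxv]
        ring
      · intro w hw
        obtain ⟨a, b, w₁, hw₁, rfl⟩ := hs.decomp w hw
        have horthv : ∀ u ∈ vs₁, QuadraticMap.polar (⇑Q) u v = 0 := by
          intro u hu
          rw [QuadraticMap.polar_comm]
          exact hs.orth_v u (hmem₁ u hu).1
        have horthxv : ∀ u ∈ vs₁, QuadraticMap.polar (⇑Q) u (x *ᵥ v) = 0 := by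
          intro u hu
          rw [QuadraticMap.polar_comm]
          exact hs.orth_xv u (hmem₁ u hu).1
        have hxw₁ : x *ᵥ w₁ ∈ W₁ := (inv_iff x W₁).1 hs.inv w₁ hw₁
        have hR2w : Cfsg.reflectionMatrix (⇑Q) (x *ᵥ v) *ᵥ (x *ᵥ w₁) = x *ᵥ w₁ :=
          refl_of_orth Q _ _ (hs.orth_xv _ hxw₁)
        have hR1w : Cfsg.reflectionMatrix (⇑Q) (v - x *ᵥ v) *ᵥ (x *ᵥ w₁) = x *ᵥ w₁ := by
          apply refl_of_orth
          rw [QuadraticMap.polar_sub_left, hs.orth_v _ hxw₁, hs.orth_xv _ hxw₁, sub_zero]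
        rw [List.map_cons, List.map_cons, List.prod_cons, List.prod_cons, ← Matrix.mulVec_mulVec,
          ← Matrix.mulVec_mulVec]
        simp only [Matrix.mulVec_add, Matrix.mulVec_smul]
        rw [prod_refl_of_orth Q v vs₁ horthv, prod_refl_of_orth Q (x *ᵥ v) vs₁ horthxv,
          hact₁ w₁ hw₁, hR2v, hR2xv, hR2w, Matrix.mulVec_neg, hR1v, hR1xv, hR1w,
          xx_apply x hxx]

theorem B4 [Fintype F] (h2 : (2 : F) ≠ 0) (Q : QuadraticForm F (ι → F))
    (hQ : (QuadraticMap.polarBilin Q).Nondegenerate) (x : GL ι F)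
    (hiso : ∀ v : ι → F, Q ((x : Matrix ι ι F) *ᵥ v) = Q v)
    (hxx : (x : Matrix ι ι F) * (x : Matrix ι ι F) = -1) (d : ℕ) (hd : Fintype.card ι = 2 * d) :
    x ∈ Cfsg.Geo.omegaGL (⇑Q) ↔ IsSquare ((2 : F) ^ d) := by
  have htop : Inv (x : Matrix ι ι F) (⊤ : Submodule F (ι → F)) := by
    rw [inv_iff]
    intro w _
    exact Submodule.mem_top
  have hdim : finrank F (⊤ : Submodule F (ι → F)) = 2 * d := by
    rw [finrank_top, Module.finrank_fintype_fun_eq_card, hd]
  obtain ⟨vs, m, s, hs0, hm, hlen, hmem, hprod, hact⟩ :=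
    exists_refl_list h2 Q (x : Matrix ι ι F) hiso hxx _ ⊤ htop (nd_top Q hQ) hdim
  have hmd : m = d := by omega
  rw [hmd] at hlen hprod
  have hxmem : x ∈ Cfsg.isometryGroup F (⇑Q) := fun u _ => hiso u
  have hg : (((⟨x, hxmem⟩ : ↥(Cfsg.isometryGroup F (⇑Q))) : GL ι F) : Matrix ι ι F) =
      (vs.map (fun v => Cfsg.reflectionMatrix (⇑Q) v)).prod := by
    show (x : Matrix ι ι F) = _
    apply Matrix.toLin'.injective
    apply LinearMap.ext
    intro w
    rw [Matrix.toLin'_apply, Matrix.toLin'_apply, hact w Submodule.mem_top]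
  have hcrit := Cfsg.Agent.Lib.Helper44_Spinor.mem_omega_iff Q h2 ⟨x, hxmem⟩ vs
    (fun v hv => (hmem v hv).2) hg
  have h1 : x ∈ Cfsg.Geo.omegaGL (⇑Q) ↔
      (⟨x, hxmem⟩ : ↥(Cfsg.isometryGroup F (⇑Q))) ∈ Cfsg.Omega F (⇑Q) := by
    constructor
    · rintro ⟨g, hgΩ, hgx⟩
      have : g = ⟨x, hxmem⟩ := Subtype.ext hgx
      rw [← this]
      exact hgΩ
    · intro h
      exact ⟨⟨x, hxmem⟩, h, rfl⟩
  rw [h1, hcrit, hlen, hprod]
  constructor
  · rintro ⟨-, r, hr⟩
    refine ⟨r * s⁻¹, ?_⟩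
    have hs2 : s ^ 2 ≠ 0 := pow_ne_zero 2 hs0
    field_simp
    rw [hr]
    ring
  · rintro ⟨r, hr⟩
    refine ⟨⟨d, by ring⟩, ⟨r * s, ?_⟩⟩
    rw [hr]
    ring

end Cfsg.Agent.Lib.Helper58_OrthR2_B4
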