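import Mathlib
import Cfsg.Prelude.Def_GeometricClasses
import Cfsg.Prelude.Def_Classical
import Cfsg.Agent.Lib.Helper13_OrthR2Defs

/-!
# ORTHR2 package CL (helper58, for helper13)

An element of `Ω(Q)` whose square is a scalar is an isometry with `x * x = 1` or `x * x = -1`.
-/

set_option autoImplicit false
set_option linter.unusedVariables false
set_option linter.style.haveILetI false
open scoped MatrixGroups

namespace Cfsg.Agent.Lib.Helper58_OrthR2_CL

open Matrix Module Cfsg.Agent.Lib.Helper13_OrthR2Defs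

variable {ι : Type} [Fintype ι] [DecidableEq ι] {F : Type*} [Field F]

theorem isometry_of_mem_omegaGL (Q : (ι → F) → F) (x : GL ι F) (hx : x ∈ Cfsg.Geo.omegaGL Q) :
    ∀ v : ι → F, Q ((x : Matrix ι ι F) *ᵥ v) = Q v := by
  obtain ⟨y, -, rfl⟩ := hx
  intro v
  exact y.2 v v

theorem CL (Q : QuadraticForm F (ι → F)) (hQ : (QuadraticMap.polarBilin Q).Nondegenerate)
    (x : GL ι F) (hx : x ∈ Cfsg.Geo.omegaGL (⇑Q)) (z : F)
    (hz : ((x ^ 2 : GL ι F) : Matrix ι ι F) = z • (1 : Matrix ι ι F)) :
    (∀ v : ι → F, Q ((x : Matrix ι ι F) *ᵥ v) = Q v) ∧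
      ((x : Matrix ι ι F) * (x : Matrix ι ι F) = 1 ∨ (x : Matrix ι ι F) * (x : Matrix ι ι F) = -1) := by
  have hiso := isometry_of_mem_omegaGL (⇑Q) x hx
  refine ⟨hiso, ?_⟩
  have hxx : (x : Matrix ι ι F) * (x : Matrix ι ι F) = z • (1 : Matrix ι ι F) := by
    rw [← hz, pow_two, Units.val_mul]
  by_cases hex : ∃ v : ι → F, Q v ≠ 0
  · obtain ⟨v, hv⟩ := hex
    have h1 : Q ((x : Matrix ι ι F) *ᵥ ((x : Matrix ι ι F) *ᵥ v)) = Q v := by
      rw [hiso, hiso]
    rw [Matrix.mulVec_mulVec, hxx, Matrix.smul_mulVec, Matrix.one_mulVec, QuadraticMap.map_smul,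
      smul_eq_mul] at h1
    have h2 : z * z = 1 := by
      have h3 : (z * z - 1) * Q v = 0 := by linear_combination h1
      rcases mul_eq_zero.1 h3 with h | h
      · linear_combination h
      · exact absurd h hv
    rcases mul_self_eq_one_iff.1 h2 with h | h
    · left
      rw [hxx, h, one_smul]
    · right
      rw [hxx, h, neg_smul, one_smul]
  · left
    have hall : ∀ v : ι → F, Q v = 0 := by
      intro v
      by_contra h
      exact hex ⟨v, h⟩
    have hzero : ∀ v : ι → F, v = 0 := by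
      intro v
      apply hQ.1 v
      intro y
      rw [QuadraticMap.polarBilin_apply_apply, QuadraticMap.polar, hall, hall, hall]
      simp
    haveI : IsEmpty ι := by
      refine ⟨fun i => ?_⟩
      have h := congrFun (hzero (Pi.single i 1)) i
      rw [Pi.single_eq_same] at h
      exact one_ne_zero h
    exact Subsingleton.elim _ _

end Cfsg.Agent.Lib.Helper58_OrthR2_CL
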