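import Mathlib
import Cfsg.Prelude.Def_GeometricClasses
import Cfsg.Prelude.Def_Classical
import Cfsg.Agent.Lib.Helper13_OrthR2Defs
import Cfsg.Agent.Lib.Helper40_QuadIso
import Cfsg.Agent.Lib.Helper40_QuadStd
import Cfsg.Agent.Lib.Helper14_WittType

/-!
ORTHR2 package B5 (helper13's market for the `r = 2` cases of the even-dimensional orthogonal
Burness-Giudici rows): a nondegenerate quadratic space of dimension `2d` over a finite field of odd order
whose type is plus exactly when `(-1)^d` is a square carries an isometry `x` with `x * x = -1`.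

Proof: such a space is isometric to the sum of `2d` squares (same dimension and same type; the type of the
sum of squares is read off the Gram determinant `2^(2d)`), and there `(u, w) ↦ (-w, u)` works.
-/

set_option autoImplicit false
open scoped MatrixGroups

namespace Cfsg.Agent.Lib.Helper99_OrthR2_B5

open Matrix Module Cfsg.Agent.Lib.Helper13_OrthR2Defs Cfsg.Agent.Lib.Helper40_QuadIso

section general

variable {F : Type*} [Field F]

/-- a subspace of prescribed smaller dimension -/
theorem exists_le_finrank_eq {V : Type*} [AddCommGroup V] [Module F V]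
    [FiniteDimensional F V] (U : Submodule F V) (n : ℕ) (hn : n ≤ finrank F U) :
    ∃ X : Submodule F V, X ≤ U ∧ finrank F X = n := by
  obtain ⟨f, hf⟩ := exists_linearIndependent_of_le_finrank hn
  have hf' : LinearIndependent F (fun i => (f i : V)) :=
    hf.map' U.subtype (Submodule.ker_subtype U)
  refine ⟨Submodule.span F (Set.range fun i => (f i : V)), ?_, ?_⟩
  · rw [Submodule.span_le]
    rintro _ ⟨i, rfl⟩
    exact (f i).2
  · rw [finrank_span_eq_card hf', Fintype.card_fin]

/-- the type of an even-dimensional quadratic space over a finite field of odd order, read off the Gram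
determinant of the polar form in any basis -/
theorem isHyp_iff_gram [Finite F] (h2 : (2 : F) ≠ 0) {V : Type*} [AddCommGroup V] [Module F V]
    [FiniteDimensional F V] (Q : QuadraticForm F V) (hQ : (QuadraticMap.polarBilin Q).Nondegenerate)
    (m : ℕ) (hm : 1 ≤ m) (hV : finrank F V = 2 * m) {κ : Type*} [Fintype κ] [DecidableEq κ]
    (b : Basis κ F V) :
    IsHyp Q ↔ IsSquare ((-1 : F) ^ m *
      (LinearMap.BilinForm.toMatrix b (QuadraticMap.polarBilin Q)).det) := by
  have hS : LinearMap.BilinForm.IsSymm (QuadraticMap.polarBilin Q) := by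
    rw [LinearMap.BilinForm.isSymm_def]
    intro x y
    rw [QuadraticMap.polarBilin_apply_apply, QuadraticMap.polarBilin_apply_apply]
    exact QuadraticMap.polar_comm _ _ _
  constructor
  · rintro ⟨U, hU, hdim⟩
    rw [hV] at hdim
    obtain ⟨X, hXU, hX⟩ := exists_le_finrank_eq U m (by omega)
    exact Cfsg.Agent.Lib.Helper14_WittType.isSquare_of_isotropic
      (QuadraticMap.polarBilin Q) hS hV X hX (fun x hx y hy => by
        rw [QuadraticMap.polarBilin_apply_apply, QuadraticMap.polar, hU _ (hXU hx),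
          hU _ (hXU hy), hU _ (hXU (X.add_mem hx hy))]
        simp) b
  · intro hsq
    obtain ⟨X, hX, hiso⟩ := Cfsg.Agent.Lib.Helper14_WittType.exists_isotropic_of_isSquare h2
      (QuadraticMap.polarBilin Q) hS hQ hm hV b hsq
    refine ⟨X, ?_, ?_⟩
    · intro u hu
      have h3 := hiso u hu u hu
      rw [QuadraticMap.polarBilin_apply_apply, QuadraticMap.polar_self, nsmul_eq_mul] at h3
      rcases mul_eq_zero.1 h3 with h | h
      · exact absurd (by exact_mod_cast h) h2
      · exact h
    · rw [hV, hX]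

theorem isSquare_mul_sq_iff (a b : F) (hb : b ≠ 0) : IsSquare (a * (b * b)) ↔ IsSquare a := by
  constructor
  · rintro ⟨c, hc⟩
    refine ⟨c / b, ?_⟩
    field_simp
    linear_combination hc
  · rintro ⟨c, rfl⟩
    exact ⟨c * b, by ring⟩

end general

section sumsq

variable {F : Type*} [Field F] (d : ℕ)

/-- the sum of `2d` squares -/
noncomputable def sumSq (F : Type*) [Field F] (d : ℕ) : QuadraticForm F (Fin d ⊕ Fin d → F) :=
  QuadraticMap.weightedSumSquares F (fun _ : Fin d ⊕ Fin d => (1 : F))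

theorem sumSq_apply (v : Fin d ⊕ Fin d → F) : sumSq F d v = ∑ k, v k * v k := by
  rw [sumSq, QuadraticMap.weightedSumSquares_apply]
  simp

theorem polar_sumSq (u v : Fin d ⊕ Fin d → F) :
    QuadraticMap.polar (⇑(sumSq F d)) u v = 2 * ∑ k, u k * v k := by
  rw [QuadraticMap.polar, sumSq_apply, sumSq_apply, sumSq_apply, Finset.mul_sum,
    ← Finset.sum_sub_distrib, ← Finset.sum_sub_distrib]
  apply Finset.sum_congr rfl
  intro k _
  simp only [Pi.add_apply]
  ring

theorem nondegenerate_sumSq (h2 : (2 : F) ≠ 0) :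
    (QuadraticMap.polarBilin (sumSq F d)).Nondegenerate := by
  have key : ∀ u : Fin d ⊕ Fin d → F,
      (∀ v, QuadraticMap.polar (⇑(sumSq F d)) u v = 0) → u = 0 := by
    intro u hu
    funext k
    have := hu (Pi.single k 1)
    rw [polar_sumSq] at this
    simp only [Pi.single_apply, mul_ite, mul_one, mul_zero, Finset.sum_ite_eq', Finset.mem_univ,
      if_true] at this
    rcases mul_eq_zero.1 this with h | h
    · exact absurd h h2
    · exact h
  constructor
  · intro x hx
    exact key x (fun v => by rw [← QuadraticMap.polarBilin_apply_apply]; exact hx v)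
  · intro y hy
    exact key y (fun v => by
      rw [QuadraticMap.polar_comm, ← QuadraticMap.polarBilin_apply_apply]; exact hy v)

theorem gram_sumSq :
    LinearMap.BilinForm.toMatrix (Pi.basisFun F (Fin d ⊕ Fin d))
      (QuadraticMap.polarBilin (sumSq F d)) = Matrix.diagonal (fun _ => (2 : F)) := by
  ext k l
  rw [LinearMap.BilinForm.toMatrix_apply, Pi.basisFun_apply, Pi.basisFun_apply,
    QuadraticMap.polarBilin_apply_apply, polar_sumSq, Matrix.diagonal_apply]
  by_cases h : k = l
  · subst h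
    simp [Pi.single_apply]
  · rw [if_neg h]
    have : ∀ x : Fin d ⊕ Fin d, (Pi.single k (1 : F) : Fin d ⊕ Fin d → F) x *
        (Pi.single l (1 : F) : Fin d ⊕ Fin d → F) x = 0 := by
      intro x
      by_cases hx : x = k
      · subst hx
        rw [Pi.single_eq_of_ne h]
        simp
      · rw [Pi.single_eq_of_ne hx]
        simp
    simp [this]

theorem isHyp_sumSq_iff [Finite F] (h2 : (2 : F) ≠ 0) (hd : 1 ≤ d) :
    IsHyp (sumSq F d) ↔ IsSquare ((-1 : F) ^ d) := by
  have hV : finrank F (Fin d ⊕ Fin d → F) = 2 * d := by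
    rw [Module.finrank_fintype_fun_eq_card, Fintype.card_sum, Fintype.card_fin]; ring
  rw [isHyp_iff_gram h2 (sumSq F d) (nondegenerate_sumSq d h2) d hd hV
    (Pi.basisFun F (Fin d ⊕ Fin d)), gram_sumSq, Matrix.det_diagonal, Finset.prod_const,
    Finset.card_univ, Fintype.card_sum, Fintype.card_fin, pow_add]
  exact isSquare_mul_sq_iff _ _ (pow_ne_zero _ h2)

/-- the quarter turn `(u, w) ↦ (-w, u)` -/
def turn (F : Type*) [Field F] (d : ℕ) : Matrix (Fin d ⊕ Fin d) (Fin d ⊕ Fin d) F :=
  Matrix.fromBlocks 0 (-1) 1 0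

theorem turn_mul_turn : turn F d * turn F d = -1 := by
  rw [turn, Matrix.fromBlocks_multiply]
  simp only [mul_zero, mul_one, zero_add, add_zero, mul_neg]
  rw [← Matrix.fromBlocks_one, Matrix.fromBlocks_neg, neg_zero]

theorem sumSq_turn (v : Fin d ⊕ Fin d → F) : sumSq F d (turn F d *ᵥ v) = sumSq F d v := by
  rw [sumSq_apply, sumSq_apply, Fintype.sum_sum_type, Fintype.sum_sum_type]
  have h1 : ∀ i : Fin d, (turn F d *ᵥ v) (Sum.inl i) = - v (Sum.inr i) := by
    intro i
    rw [turn, Matrix.mulVec, dotProduct, Fintype.sum_sum_type]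
    simp [Matrix.one_apply]
  have h2 : ∀ i : Fin d, (turn F d *ᵥ v) (Sum.inr i) = v (Sum.inl i) := by
    intro i
    rw [turn, Matrix.mulVec, dotProduct, Fintype.sum_sum_type]
    simp [Matrix.one_apply]
  simp only [h1, h2]
  rw [add_comm]
  congr 1
  apply Finset.sum_congr rfl
  intro i _
  ring

end sumsq

section main

variable {ι : Type} [Fintype ι] [DecidableEq ι] {F : Type*} [Field F]

omit [DecidableEq ι] in
theorem plus_top_iff_isHyp (Q : QuadraticForm F (ι → F)) (d : ℕ) (hd : Fintype.card ι = 2 * d) :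
    Plus Q ⊤ ↔ IsHyp Q := by
  have hV : finrank F (ι → F) = 2 * d := by
    rw [Module.finrank_fintype_fun_eq_card, hd]
  constructor
  · rintro ⟨U, -, hU, hdim⟩
    refine ⟨U, hU, ?_⟩
    rw [finrank_top] at hdim
    omega
  · rintro ⟨U, hU, hdim⟩
    obtain ⟨X, hXU, hX⟩ := exists_le_finrank_eq U d (by omega)
    refine ⟨X, le_top, fun w hw => hU w (hXU hw), ?_⟩
    rw [finrank_top, hX, hV]

/-- B5 -/
theorem B5 [Fintype F] (h2 : (2 : F) ≠ 0) (Q : QuadraticForm F (ι → F))
    (hQ : (QuadraticMap.polarBilin Q).Nondegenerate) (d : ℕ) (hd : Fintype.card ι = 2 * d)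
    (htype : Plus Q ⊤ ↔ IsSquare ((-1 : F) ^ d)) :
    ∃ x : GL ι F, (∀ v : ι → F, Q ((x : Matrix ι ι F) *ᵥ v) = Q v) ∧
      (x : Matrix ι ι F) * (x : Matrix ι ι F) = -1 := by
  classical
  rcases Nat.eq_zero_or_pos d with hd0 | hdpos
  · -- the zero space
    subst hd0
    have hemp : IsEmpty ι := Fintype.card_eq_zero_iff.1 (by omega)
    refine ⟨1, fun v => ?_, ?_⟩
    · congr 1
      exact Subsingleton.elim _ _
    · exact Subsingleton.elim _ _
  have hV : finrank F (ι → F) = 2 * d := by
    rw [Module.finrank_fintype_fun_eq_card, hd]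
  have hVS : finrank F (Fin d ⊕ Fin d → F) = 2 * d := by
    rw [Module.finrank_fintype_fun_eq_card, Fintype.card_sum, Fintype.card_fin]; ring
  have hiso : Iso Q (sumSq F d) := by
    obtain ⟨ζ, hζ⟩ := Cfsg.Agent.Lib.Helper40_QuadStd.exists_aniso (F := F)
    have hS := nondegenerate_sumSq (F := F) d h2
    have hSt := isHyp_sumSq_iff (F := F) d h2 hdpos
    have hQt := plus_top_iff_isHyp Q d hd
    have hnot := Cfsg.Agent.Lib.Helper40_QuadStd.not_isHyp_qfMinus (d - 1) 1 ζ hζ
    rcases Cfsg.Agent.Lib.Helper40_QuadStd.iso_plus_or_minus d hdpos hV Q hQ 1 ζ hζ with h1 | h1 <;>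
      rcases Cfsg.Agent.Lib.Helper40_QuadStd.iso_plus_or_minus d hdpos hVS (sumSq F d) hS 1 ζ hζ
        with h3 | h3
    · exact h1.trans h3.symm
    · exfalso
      have hQh : IsHyp Q := (Cfsg.Agent.Lib.Helper40_QuadStd.isHyp_qfPlus d).of_iso h1.symm
      exact hnot ((hSt.2 (htype.1 (hQt.2 hQh))).of_iso h3)
    · exfalso
      have hSh : IsHyp (sumSq F d) := (Cfsg.Agent.Lib.Helper40_QuadStd.isHyp_qfPlus d).of_iso h3.symm
      exact hnot ((hQt.1 (htype.2 (hSt.1 hSh))).of_iso h1)
    · exact h1.trans h3.symm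
  obtain ⟨φ, hφ⟩ := hiso
  -- the transported quarter turn
  set f : (ι → F) →ₗ[F] (ι → F) :=
    (φ.symm : (Fin d ⊕ Fin d → F) →ₗ[F] (ι → F)) ∘ₗ Matrix.toLin' (turn F d) ∘ₗ
      (φ : (ι → F) →ₗ[F] (Fin d ⊕ Fin d → F)) with hf
  have hfv : ∀ v, f v = φ.symm (turn F d *ᵥ φ v) := by
    intro v
    rw [hf]
    simp only [LinearMap.coe_comp, LinearEquiv.coe_coe, Function.comp_apply, Matrix.toLin'_apply]
  have hff : f * f = -1 := by
    apply LinearMap.ext
    intro v
    rw [Module.End.mul_apply, hfv, hfv, φ.apply_symm_apply, Matrix.mulVec_mulVec, turn_mul_turn,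
      Matrix.neg_mulVec, Matrix.one_mulVec, map_neg, φ.symm_apply_apply]
    rfl
  set M : Matrix ι ι F := LinearMap.toMatrix' f with hM
  have hMM : M * M = -1 := by
    rw [hM, ← LinearMap.toMatrix'_mul, hff, map_neg, LinearMap.toMatrix'_one]
  have hMv : ∀ v, M *ᵥ v = f v := by
    intro v
    rw [hM, ← Matrix.toLin'_apply, Matrix.toLin'_toMatrix']
  refine ⟨⟨M, -M, by rw [mul_neg, hMM, neg_neg], by rw [neg_mul, hMM, neg_neg]⟩, ?_, hMM⟩
  intro v
  show Q (M *ᵥ v) = Q v
  rw [hMv, hfv, ← hφ, φ.apply_symm_apply, sumSq_turn, hφ]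

end main

end Cfsg.Agent.Lib.Helper99_OrthR2_B5
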