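import Mathlib
import Cfsg.Prelude.Def_GeometricClasses
import Cfsg.Prelude.Def_Classical
import Cfsg.Agent.Lib.Helper13_OrthR2Defs
import Cfsg.Agent.Lib.Helper24_OrthR2_G5
import Cfsg.Agent.Lib.Helper58_OrthR2_B4
import Cfsg.Agent.Lib.Helper58_OrthR2_CL
import Cfsg.Agent.Lib.Helper35_OrthR2_A1
import Cfsg.Agent.Lib.Helper35_OrthR2_A2
import Cfsg.Agent.Lib.Helper10_OrthR2_A3
import Cfsg.Agent.Lib.Helper24_OrthR2_G0
import Cfsg.Agent.Lib.Helper24_OrthR2_G4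
import Cfsg.Agent.Lib.Helper10_OrthR2_B1
import Cfsg.Agent.Lib.Helper58_OrthR2_B2
import Cfsg.Agent.Lib.Helper58_OrthR2_B3
import Cfsg.Agent.Lib.Helper99_OrthR2_B5

/-! The ORTHR2 packages under one roof (shim over the landed package files). -/

set_option autoImplicit false
open scoped MatrixGroups

namespace Cfsg.Agent.Lib.Helper13_OrthR2Pk

open Matrix Module Cfsg.Agent.Lib.Helper13_OrthR2Defs

variable {ι : Type} [Fintype ι] [DecidableEq ι] {F : Type*} [Field F]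

/-! ## classification of the elements -/

/-- CL -/
theorem CL (Q : QuadraticForm F (ι → F)) (hQ : (QuadraticMap.polarBilin Q).Nondegenerate)
    (x : GL ι F) (hx : x ∈ Cfsg.Geo.omegaGL (⇑Q)) (z : F)
    (hz : ((x ^ 2 : GL ι F) : Matrix ι ι F) = z • (1 : Matrix ι ι F)) :
    (∀ v : ι → F, Q ((x : Matrix ι ι F) *ᵥ v) = Q v) ∧
      ((x : Matrix ι ι F) * (x : Matrix ι ι F) = 1 ∨ (x : Matrix ι ι F) * (x : Matrix ι ι F) = -1) :=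
  Cfsg.Agent.Lib.Helper58_OrthR2_CL.CL Q hQ x hx z hz

/-! ## type A: `x * x = 1` -/

/-- A1 -/
theorem A1 (h2 : (2 : F) ≠ 0) (Q : QuadraticForm F (ι → F))
    (hQ : (QuadraticMap.polarBilin Q).Nondegenerate) (x : Matrix ι ι F)
    (hiso : ∀ v : ι → F, Q (x *ᵥ v) = Q v) (hxx : x * x = 1) :
    IsCompl (eigP x) (eigM x) ∧
    (∀ u ∈ eigP x, ∀ v ∈ eigM x, QuadraticMap.polar (⇑Q) u v = 0) ∧
    ND Q (eigP x) ∧ ND Q (eigM x) ∧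
    (∀ W : Submodule F (ι → F), Inv x W → W = (W ⊓ eigP x) ⊔ (W ⊓ eigM x)) ∧
    (∀ W₁ W₂ : Submodule F (ι → F), W₁ ≤ eigP x → W₂ ≤ eigM x → Inv x (W₁ ⊔ W₂)) ∧
    ((∀ z : F, x ≠ z • (1 : Matrix ι ι F)) → eigP x ≠ ⊥ ∧ eigM x ≠ ⊥) :=
  Cfsg.Agent.Lib.Helper35_OrthR2_A1.A1 h2 Q hQ x hiso hxx

/-- A2 -/
theorem A2 [Fintype F] (h2 : (2 : F) ≠ 0) (Q : QuadraticForm F (ι → F))
    (hQ : (QuadraticMap.polarBilin Q).Nondegenerate) (x : GL ι F)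
    (hx : x ∈ Cfsg.Geo.omegaGL (⇑Q)) (hxx : (x : Matrix ι ι F) * (x : Matrix ι ι F) = 1) :
    Even (finrank F (eigM (x : Matrix ι ι F))) ∧
      (Plus Q (eigM (x : Matrix ι ι F)) ↔
        IsSquare ((-1 : F) ^ (finrank F (eigM (x : Matrix ι ι F)) / 2))) :=
  Cfsg.Agent.Lib.Helper35_OrthR2_A2.A2 h2 Q hQ x hx hxx

/-- A3 -/
theorem A3 [Fintype F] (h2 : (2 : F) ≠ 0) (Q : QuadraticForm F (ι → F))
    (hQ : (QuadraticMap.polarBilin Q).Nondegenerate) (hn : 3 ≤ Fintype.card ι)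
    (hm1 : ¬ IsSquare (-1 : F)) :
    ∃ x : GL ι F, x ∈ Cfsg.Geo.omegaGL (⇑Q) ∧ (x : Matrix ι ι F) * (x : Matrix ι ι F) = 1 ∧
      (∀ z : F, (x : Matrix ι ι F) ≠ z • (1 : Matrix ι ι F)) ∧
      finrank F (eigM (x : Matrix ι ι F)) = 2 ∧
      (∀ v ∈ eigM (x : Matrix ι ι F), v ≠ 0 → Q v ≠ 0) :=
  Cfsg.Agent.Lib.Helper10_OrthR2_A3.A3 h2 Q hQ hn hm1

/-! ## geometry of quadratic spaces over a finite field of odd characteristic -/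

/-- G0 -/
theorem G0 [Fintype F] (h2 : (2 : F) ≠ 0) (Q : QuadraticForm F (ι → F))
    (U : Submodule F (ι → F)) (hU : ND Q U) (k : ℕ) (a : Fin k → F) (ha : ∀ i, a i ≠ 0)
    (hk : k + 1 ≤ finrank F U) :
    ∃ u : Fin k → (ι → F), (∀ i, u i ∈ U) ∧ (∀ i, Q (u i) = a i) ∧
      (∀ i j, i ≠ j → QuadraticMap.polar (⇑Q) (u i) (u j) = 0) :=
  Cfsg.Agent.Lib.Helper24_OrthR2_G0.G0 h2 Q U hU k a ha hk

/-- G4 -/
theorem G4 [Fintype F] (h2 : (2 : F) ≠ 0) (Q : QuadraticForm F (ι → F))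
    (U : Submodule F (ι → F)) (hU : ND Q U) (W₀ : Submodule F (ι → F)) (hW₀ : ND Q W₀)
    (hlt : finrank F W₀ < finrank F U) :
    ∃ W : Submodule F (ι → F), W ≤ U ∧ finrank F W = finrank F W₀ ∧ ND Q W ∧
      Cfsg.Geo.AreIsometricFor (⇑Q) W W₀ :=
  Cfsg.Agent.Lib.Helper24_OrthR2_G4.G4 h2 Q U hU W₀ hW₀ hlt

/-- G5 -/
theorem G5 [Fintype F] (h2 : (2 : F) ≠ 0) (Q : QuadraticForm F (ι → F))
    (U : Submodule F (ι → F)) (hU : ND Q U) (t : ℕ) (ht : 1 ≤ t)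
    (hlt : 2 * t + 2 ≤ finrank F U) :
    (∃ W : Submodule F (ι → F), W ≤ U ∧ ND Q W ∧ finrank F W = 2 * t ∧ Plus Q W) ∧
    (∃ W : Submodule F (ι → F), W ≤ U ∧ ND Q W ∧ finrank F W = 2 * t ∧ ¬ Plus Q W) :=
  Cfsg.Agent.Lib.Helper24_OrthR2_G5.G5 h2 Q U hU t ht hlt

/-! ## type B: `x * x = -1` -/

/-- B1 -/
theorem B1 [Fintype F] (h2 : (2 : F) ≠ 0) (Q : QuadraticForm F (ι → F))
    (hQ : (QuadraticMap.polarBilin Q).Nondegenerate) (x : Matrix ι ι F)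
    (hiso : ∀ v : ι → F, Q (x *ᵥ v) = Q v) (hxx : x * x = -1) (hm1 : ¬ IsSquare (-1 : F)) :
    (∀ W : Submodule F (ι → F), Inv x W → Even (finrank F W)) ∧
    (∀ W : Submodule F (ι → F), Inv x W → ND Q W → (Plus Q W ↔ 4 ∣ finrank F W)) :=
  Cfsg.Agent.Lib.Helper10_OrthR2_B1.B1 h2 Q x hiso hxx hm1 hQ

/-- B2 -/
theorem B2 [Fintype F] (h2 : (2 : F) ≠ 0) (Q : QuadraticForm F (ι → F))
    (hQ : (QuadraticMap.polarBilin Q).Nondegenerate) (x : Matrix ι ι F)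
    (hiso : ∀ v : ι → F, Q (x *ᵥ v) = Q v) (hxx : x * x = -1) :
    (∀ k : ℕ, 2 * k ≤ Fintype.card ι →
      ∃ W : Submodule F (ι → F), Inv x W ∧ ND Q W ∧ finrank F W = 2 * k) ∧
    (∀ k : ℕ, 4 * k ≤ Fintype.card ι →
      ∃ W : Submodule F (ι → F), Inv x W ∧ TS Q W ∧ finrank F W = 2 * k) :=
  Cfsg.Agent.Lib.Helper58_OrthR2_B2.B2 h2 Q hQ x hiso hxx

/-- B3 -/
theorem B3 [Fintype F] (h2 : (2 : F) ≠ 0) (Q : QuadraticForm F (ι → F))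
    (hQ : (QuadraticMap.polarBilin Q).Nondegenerate) (x : Matrix ι ι F)
    (hiso : ∀ v : ι → F, Q (x *ᵥ v) = Q v) (hxx : x * x = -1) (hm1 : IsSquare (-1 : F)) :
    (∀ W : Submodule F (ι → F), Inv x W → ND Q W → Plus Q W ∧ Even (finrank F W)) ∧
    (∀ k : ℕ, 2 * k ≤ Fintype.card ι →
      ∃ W : Submodule F (ι → F), Inv x W ∧ TS Q W ∧ finrank F W = k) :=
  Cfsg.Agent.Lib.Helper58_OrthR2_B3.B3 h2 Q hQ x hiso hxx hm1

/-- B4 -/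
theorem B4 [Fintype F] (h2 : (2 : F) ≠ 0) (Q : QuadraticForm F (ι → F))
    (hQ : (QuadraticMap.polarBilin Q).Nondegenerate) (x : GL ι F)
    (hiso : ∀ v : ι → F, Q ((x : Matrix ι ι F) *ᵥ v) = Q v)
    (hxx : (x : Matrix ι ι F) * (x : Matrix ι ι F) = -1) (d : ℕ) (hd : Fintype.card ι = 2 * d) :
    x ∈ Cfsg.Geo.omegaGL (⇑Q) ↔ IsSquare ((2 : F) ^ d) :=
  Cfsg.Agent.Lib.Helper58_OrthR2_B4.B4 h2 Q hQ x hiso hxx d hd

/-- B5 -/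
theorem B5 [Fintype F] (h2 : (2 : F) ≠ 0) (Q : QuadraticForm F (ι → F))
    (hQ : (QuadraticMap.polarBilin Q).Nondegenerate) (d : ℕ) (hd : Fintype.card ι = 2 * d)
    (htype : Plus Q ⊤ ↔ IsSquare ((-1 : F) ^ d)) :
    ∃ x : GL ι F, (∀ v : ι → F, Q ((x : Matrix ι ι F) *ᵥ v) = Q v) ∧
      (x : Matrix ι ι F) * (x : Matrix ι ι F) = -1 :=
  Cfsg.Agent.Lib.Helper99_OrthR2_B5.B5 h2 Q hQ d hd htype

end Cfsg.Agent.Lib.Helper13_OrthR2Pk
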