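import Mathlib
import Cfsg.Prelude.Def_GeometricClasses
import Cfsg.Prelude.Def_Classical
import Cfsg.Agent.Lib.Helper13_OrthR2Defs
import Cfsg.Agent.Lib.Helper13_OrthR2Glue
import Cfsg.Agent.Lib.Helper13_OrthR2_G12
import Cfsg.Agent.Lib.Helper13_OrthR2Pk

/-!
Core of the `r = 2`, `p` odd case theorems (helper13): elements of `Ω` with scalar square are of type A
(`x * x = 1`) or type B (`x * x = -1`); which classes of subspaces each type fixes.
-/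

set_option autoImplicit false
open scoped MatrixGroups

namespace Cfsg.Agent.Lib.Helper13_OrthR2Core

open Matrix Module Cfsg.Agent.Lib.Helper13_OrthR2Defs Cfsg.Agent.Lib.Helper13_OrthR2Glue
  Cfsg.Agent.Lib.Helper13_OrthR2_G12 Cfsg.Agent.Lib.Helper13_OrthR2Pk

variable {ι : Type} [Fintype ι] [DecidableEq ι] {F : Type*} [Field F]

/-- all non-scalar elements of `Ω` with scalar square fix a member of the class `C` -/
def AllFix (Q : QuadraticForm F (ι → F)) (C : Submodule F (ι → F) → Prop) : Prop :=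
  ∀ x : GL ι F, x ∈ Cfsg.Geo.omegaGL (⇑Q) →
    (∃ z : F, ((x ^ 2 : GL ι F) : Matrix ι ι F) = z • (1 : Matrix ι ι F)) →
    (∀ z : F, (x : Matrix ι ι F) ≠ z • (1 : Matrix ι ι F)) →
    ∃ W : Submodule F (ι → F), C W ∧ Inv (x : Matrix ι ι F) W

/-- all non-scalar involutions of `Ω` fix a member of the class `C` -/
def AFix (Q : QuadraticForm F (ι → F)) (C : Submodule F (ι → F) → Prop) : Prop :=
  ∀ x : GL ι F, x ∈ Cfsg.Geo.omegaGL (⇑Q) → (x : Matrix ι ι F) * (x : Matrix ι ι F) = 1 →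
    (∀ z : F, (x : Matrix ι ι F) ≠ z • (1 : Matrix ι ι F)) →
    ∃ W : Submodule F (ι → F), C W ∧ Inv (x : Matrix ι ι F) W

/-- all elements of `Ω` with square `-1` fix a member of the class `C` -/
def BFix (Q : QuadraticForm F (ι → F)) (C : Submodule F (ι → F) → Prop) : Prop :=
  ∀ x : GL ι F, x ∈ Cfsg.Geo.omegaGL (⇑Q) → (x : Matrix ι ι F) * (x : Matrix ι ι F) = -1 →
    ∃ W : Submodule F (ι → F), C W ∧ Inv (x : Matrix ι ι F) W

theorem coe_sq (x : GL ι F) :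
    ((x ^ 2 : GL ι F) : Matrix ι ι F) = (x : Matrix ι ι F) * (x : Matrix ι ι F) := by
  rw [pow_two]; rfl

omit [Fintype ι] [DecidableEq ι] in
theorem exists_ne_zero (Q : QuadraticForm F (ι → F))
    (hQ : (QuadraticMap.polarBilin Q).Nondegenerate) [Nonempty ι] : ∃ v : ι → F, Q v ≠ 0 := by
  classical
  by_contra hcon
  push Not at hcon
  obtain ⟨i⟩ := ‹Nonempty ι›
  have hv : (Pi.single i (1 : F) : ι → F) ≠ 0 := by
    intro h
    have := congrFun h i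
    simp at this
  apply hv
  apply hQ.1
  intro y
  rw [QuadraticMap.polarBilin_apply_apply, QuadraticMap.polar, hcon, hcon, hcon]
  ring

/-- an isometry with square `-1` is not a scalar -/
theorem not_scalar_of_sq_neg_one (h2 : (2 : F) ≠ 0) (Q : QuadraticForm F (ι → F))
    (hQ : (QuadraticMap.polarBilin Q).Nondegenerate) [Nonempty ι] (x : Matrix ι ι F)
    (hiso : ∀ v : ι → F, Q (x *ᵥ v) = Q v) (hxx : x * x = -1) (z : F) :
    x ≠ z • (1 : Matrix ι ι F) := by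
  rintro rfl
  obtain ⟨v, hv⟩ := exists_ne_zero Q hQ
  have h1 := hiso v
  rw [Matrix.smul_mulVec, Matrix.one_mulVec, QuadraticMap.map_smul, smul_eq_mul] at h1
  have hz1 : z * z = 1 := by
    have : (z * z - 1) * Q v = 0 := by linear_combination h1
    rcases mul_eq_zero.1 this with h | h
    · linear_combination h
    · exact absurd h hv
  obtain ⟨i⟩ := ‹Nonempty ι›
  have h3 := congrFun (congrFun hxx i) i
  simp only [Matrix.mul_smul, Matrix.smul_apply, Matrix.one_apply_eq,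
    Matrix.neg_apply, smul_eq_mul, mul_one] at h3
  apply h2
  linear_combination h3 - hz1

theorem allFix_iff (h2 : (2 : F) ≠ 0) (Q : QuadraticForm F (ι → F))
    (hQ : (QuadraticMap.polarBilin Q).Nondegenerate) [Nonempty ι]
    (C : Submodule F (ι → F) → Prop) : AllFix Q C ↔ AFix Q C ∧ BFix Q C := by
  constructor
  · intro h
    refine ⟨?_, ?_⟩
    · intro x hx hxx hns
      exact h x hx ⟨1, by rw [coe_sq, hxx, one_smul]⟩ hns
    · intro x hx hxx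
      have hz : ((x ^ 2 : GL ι F) : Matrix ι ι F) = (-1 : F) • (1 : Matrix ι ι F) := by
        rw [coe_sq, hxx, neg_smul, one_smul]
      have hiso := (CL Q hQ x hx (-1) hz).1
      exact h x hx ⟨-1, hz⟩ (not_scalar_of_sq_neg_one h2 Q hQ _ hiso hxx)
  · rintro ⟨hA, hB⟩ x hx ⟨z, hz⟩ hns
    rcases (CL Q hQ x hx z hz).2 with h | h
    · exact hA x hx h hns
    · exact hB x hx h


/-! ## type B -/

section typeB

variable [Fintype F] (h2 : (2 : F) ≠ 0) (Q : QuadraticForm F (ι → F))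
  (hQ : (QuadraticMap.polarBilin Q).Nondegenerate)

omit [Fintype F] in
theorem inv_top (x : Matrix ι ι F) : Inv x ⊤ := fun _ _ => Submodule.mem_top

include h2 hQ in
/-- elements of type B exist in `Ω` iff the type and the dimension allow it -/
theorem exists_typeB_iff (d : ℕ) (hd : Fintype.card ι = 2 * d) :
    (∃ x : GL ι F, x ∈ Cfsg.Geo.omegaGL (⇑Q) ∧ (x : Matrix ι ι F) * (x : Matrix ι ι F) = -1) ↔
      ((Plus Q ⊤ ↔ IsSquare ((-1 : F) ^ d)) ∧ IsSquare ((2 : F) ^ d)) := by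
  have hfr : finrank F (⊤ : Submodule F (ι → F)) = 2 * d := by
    rw [finrank_top, Module.finrank_fintype_fun_eq_card, hd]
  constructor
  · rintro ⟨x, hx, hxx⟩
    have hz : ((x ^ 2 : GL ι F) : Matrix ι ι F) = (-1 : F) • (1 : Matrix ι ι F) := by
      rw [coe_sq, hxx, neg_smul, one_smul]
    have hiso := (CL Q hQ x hx (-1) hz).1
    refine ⟨?_, (B4 h2 Q hQ x hiso hxx d hd).1 hx⟩
    by_cases hm1 : IsSquare (-1 : F)
    · have h1 := ((B3 h2 Q hQ _ hiso hxx hm1).1 ⊤ (inv_top _) (nd_top Q hQ)).1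
      exact ⟨fun _ => (isSquare_neg_one_pow_iff d).2 (Or.inr hm1), fun _ => h1⟩
    · have h1 := (B1 h2 Q hQ _ hiso hxx hm1).2 ⊤ (inv_top _) (nd_top Q hQ)
      rw [h1, hfr, isSquare_neg_one_pow_iff]
      constructor
      · intro h
        left
        obtain ⟨k, hk⟩ := h
        exact ⟨k, by omega⟩
      · rintro (⟨k, hk⟩ | h)
        · exact ⟨k, by omega⟩
        · exact absurd h hm1
  · rintro ⟨htype, hsq⟩
    obtain ⟨x, hiso, hxx⟩ := B5 h2 Q hQ d hd htype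
    exact ⟨x, (B4 h2 Q hQ x hiso hxx d hd).2 hsq, hxx⟩

variable (x : Matrix ι ι F) (hiso : ∀ v : ι → F, Q (x *ᵥ v) = Q v) (hxx : x * x = -1)

include h2 hQ hiso hxx in
theorem typeB_ts (d : ℕ) (hd : Fintype.card ι = 2 * d) (m : ℕ) (hm : m ≤ d) :
    (∃ W : Submodule F (ι → F), (finrank F W = m ∧ TS Q W) ∧ Inv x W) ↔
      (IsSquare (-1 : F) ∨ Even m) := by
  constructor
  · rintro ⟨W, ⟨hWm, -⟩, hinv⟩
    by_cases hm1 : IsSquare (-1 : F)
    · exact Or.inl hm1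
    · right
      rw [← hWm]
      exact (B1 h2 Q hQ x hiso hxx hm1).1 W hinv
  · rintro (hm1 | ⟨k, hk⟩)
    · obtain ⟨W, hinv, hts, hdim⟩ := (B3 h2 Q hQ x hiso hxx hm1).2 m (by omega)
      exact ⟨W, ⟨hdim, hts⟩, hinv⟩
    · obtain ⟨W, hinv, hts, hdim⟩ := (B2 h2 Q hQ x hiso hxx).2 k (by omega)
      exact ⟨W, ⟨by omega, hts⟩, hinv⟩

include h2 hQ hiso hxx in
theorem typeB_nd_plus (d : ℕ) (hd : Fintype.card ι = 2 * d) (m : ℕ) (hme : Even m)
    (hm : m ≤ 2 * d) :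
    (∃ W : Submodule F (ι → F), (finrank F W = m ∧ ND Q W ∧ Plus Q W) ∧ Inv x W) ↔
      (IsSquare (-1 : F) ∨ 4 ∣ m) := by
  obtain ⟨k, hk⟩ := hme
  constructor
  · rintro ⟨W, ⟨hWm, hnd, hpl⟩, hinv⟩
    by_cases hm1 : IsSquare (-1 : F)
    · exact Or.inl hm1
    · right
      rw [← hWm]
      exact ((B1 h2 Q hQ x hiso hxx hm1).2 W hinv hnd).1 hpl
  · intro h
    obtain ⟨W, hinv, hnd, hdim⟩ := (B2 h2 Q hQ x hiso hxx).1 k (by omega)
    have hWm : finrank F W = m := by omega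
    refine ⟨W, ⟨hWm, hnd, ?_⟩, hinv⟩
    by_cases hm1 : IsSquare (-1 : F)
    · exact ((B3 h2 Q hQ x hiso hxx hm1).1 W hinv hnd).1
    · rcases h with h | h
      · exact absurd h hm1
      · rw [(B1 h2 Q hQ x hiso hxx hm1).2 W hinv hnd, hWm]
        exact h

include h2 hQ hiso hxx in
theorem typeB_nd_minus (d : ℕ) (hd : Fintype.card ι = 2 * d) (m : ℕ) (hme : Even m)
    (hm : m ≤ 2 * d) :
    (∃ W : Submodule F (ι → F), (finrank F W = m ∧ ND Q W ∧ ¬ Plus Q W) ∧ Inv x W) ↔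
      (¬ IsSquare (-1 : F) ∧ ¬ 4 ∣ m) := by
  obtain ⟨k, hk⟩ := hme
  constructor
  · rintro ⟨W, ⟨hWm, hnd, hpl⟩, hinv⟩
    by_cases hm1 : IsSquare (-1 : F)
    · exact absurd ((B3 h2 Q hQ x hiso hxx hm1).1 W hinv hnd).1 hpl
    · refine ⟨hm1, fun h4 => hpl ?_⟩
      rw [(B1 h2 Q hQ x hiso hxx hm1).2 W hinv hnd, hWm]
      exact h4
  · rintro ⟨hm1, h4⟩
    obtain ⟨W, hinv, hnd, hdim⟩ := (B2 h2 Q hQ x hiso hxx).1 k (by omega)
    have hWm : finrank F W = m := by omega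
    refine ⟨W, ⟨hWm, hnd, ?_⟩, hinv⟩
    rw [(B1 h2 Q hQ x hiso hxx hm1).2 W hinv hnd, hWm]
    exact h4

include h2 hQ hiso hxx in
theorem typeB_odd (m : ℕ) (hmo : Odd m) :
    ¬ ∃ W : Submodule F (ι → F), (finrank F W = m ∧ ND Q W) ∧ Inv x W := by
  rintro ⟨W, ⟨hWm, hnd⟩, hinv⟩
  have hev : Even (finrank F W) := by
    by_cases hm1 : IsSquare (-1 : F)
    · exact ((B3 h2 Q hQ x hiso hxx hm1).1 W hinv hnd).2
    · exact (B1 h2 Q hQ x hiso hxx hm1).1 W hinv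
  rw [hWm] at hev
  exact (Nat.not_even_iff_odd.2 hmo) hev

end typeB


/-! ## type A -/

section typeA

omit [Fintype ι] [DecidableEq ι] in
theorem exists_le_finrank_eq (U : Submodule F (ι → F)) [FiniteDimensional F U] (n : ℕ)
    (hn : n ≤ finrank F U) :
    ∃ X : Submodule F (ι → F), X ≤ U ∧ finrank F X = n := by
  obtain ⟨f, hf⟩ := exists_linearIndependent_of_le_finrank hn
  have hf' : LinearIndependent F (fun i => (f i : ι → F)) :=
    hf.map' U.subtype (Submodule.ker_subtype U)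
  refine ⟨Submodule.span F (Set.range (fun i => (f i : ι → F))), ?_, ?_⟩
  · rw [Submodule.span_le]
    rintro _ ⟨i, rfl⟩
    exact (f i).2
  · rw [finrank_span_eq_card hf', Fintype.card_fin]

variable [Fintype F] (h2 : (2 : F) ≠ 0) (Q : QuadraticForm F (ι → F))
  (hQ : (QuadraticMap.polarBilin Q).Nondegenerate)

/-- the facts about an involution of `Ω` used below -/
structure AData (x : Matrix ι ι F) (d : ℕ) : Prop where
  compl : IsCompl (eigP x) (eigM x)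
  orth : ∀ u ∈ eigP x, ∀ v ∈ eigM x, QuadraticMap.polar (⇑Q) u v = 0
  ndP : ND Q (eigP x)
  ndM : ND Q (eigM x)
  inv : ∀ W₁ W₂ : Submodule F (ι → F), W₁ ≤ eigP x → W₂ ≤ eigM x → Inv x (W₁ ⊔ W₂)
  split : ∀ W : Submodule F (ι → F), Inv x W → W = (W ⊓ eigP x) ⊔ (W ⊓ eigM x)
  dim : finrank F (eigP x) + finrank F (eigM x) = 2 * d
  evP : Even (finrank F (eigP x))
  evM : Even (finrank F (eigM x))
  posP : 2 ≤ finrank F (eigP x)
  posM : 2 ≤ finrank F (eigM x)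
  type : Plus Q ⊤ ↔ (Plus Q (eigP x) ↔ Plus Q (eigM x))
  sq : Plus Q (eigM x) ↔ IsSquare ((-1 : F) ^ (finrank F (eigM x) / 2))

include h2 hQ in
theorem aData (x : GL ι F) (hx : x ∈ Cfsg.Geo.omegaGL (⇑Q))
    (hxx : (x : Matrix ι ι F) * (x : Matrix ι ι F) = 1)
    (hns : ∀ z : F, (x : Matrix ι ι F) ≠ z • (1 : Matrix ι ι F)) (d : ℕ)
    (hd : Fintype.card ι = 2 * d) : AData Q (x : Matrix ι ι F) d := by
  have hz : ((x ^ 2 : GL ι F) : Matrix ι ι F) = (1 : F) • (1 : Matrix ι ι F) := by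
    rw [coe_sq, hxx, one_smul]
  have hiso := (CL Q hQ x hx 1 hz).1
  obtain ⟨hc, horth, hndP, hndM, hsplit, hinv, hne⟩ := A1 h2 Q hQ _ hiso hxx
  obtain ⟨hevM, hsq⟩ := A2 h2 Q hQ x hx hxx
  obtain ⟨hneP, hneM⟩ := hne hns
  have hdim : finrank F (eigP (x : Matrix ι ι F)) + finrank F (eigM (x : Matrix ι ι F)) = 2 * d := by
    rw [Submodule.finrank_add_eq_of_isCompl hc, Module.finrank_fintype_fun_eq_card, hd]
  have hevP : Even (finrank F (eigP (x : Matrix ι ι F))) := by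
    obtain ⟨k, hk⟩ := hevM
    exact ⟨d - k, by omega⟩
  have hposP : 2 ≤ finrank F (eigP (x : Matrix ι ι F)) := by
    have : 0 < finrank F (eigP (x : Matrix ι ι F)) := by
      rw [Module.finrank_pos_iff]
      exact Submodule.nontrivial_iff_ne_bot.2 hneP
    obtain ⟨k, hk⟩ := hevP
    omega
  have hposM : 2 ≤ finrank F (eigM (x : Matrix ι ι F)) := by
    have : 0 < finrank F (eigM (x : Matrix ι ι F)) := by
      rw [Module.finrank_pos_iff]
      exact Submodule.nontrivial_iff_ne_bot.2 hneM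
    obtain ⟨k, hk⟩ := hevM
    omega
  have htype := (G1 Q _ _ horth hndP hndM).2.2 hevP hevM
  rw [hc.sup_eq_top] at htype
  exact ⟨hc, horth, hndP, hndM, hinv, hsplit, hdim, hevP, hevM, hposP, hposM, htype, hsq⟩

variable {Q} {x : Matrix ι ι F} {d : ℕ}

omit [Fintype F] in
/-- sums of totally singular subspaces of the two eigenspaces -/
theorem AData.ts_sum (h : AData Q x d) (E₁ E₂ : Submodule F (ι → F)) (h₁ : E₁ ≤ eigP x)
    (h₂ : E₂ ≤ eigM x) (ht₁ : TS Q E₁) (ht₂ : TS Q E₂) (m : ℕ)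
    (hm : m ≤ finrank F E₁ + finrank F E₂) :
    ∃ W : Submodule F (ι → F), (finrank F W = m ∧ TS Q W) ∧ Inv x W := by
  obtain ⟨X₁, hX₁, hd₁⟩ := exists_le_finrank_eq E₁ (min m (finrank F E₁)) (min_le_right _ _)
  obtain ⟨X₂, hX₂, hd₂⟩ := exists_le_finrank_eq E₂ (m - min m (finrank F E₁)) (by omega)
  have hdisj : X₁ ⊓ X₂ = ⊥ := by
    rw [eq_bot_iff]
    calc X₁ ⊓ X₂ ≤ eigP x ⊓ eigM x := inf_le_inf (hX₁.trans h₁) (hX₂.trans h₂)
      _ = ⊥ := h.compl.inf_eq_bot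
  refine ⟨X₁ ⊔ X₂, ⟨?_, ?_⟩, h.inv X₁ X₂ (hX₁.trans h₁) (hX₂.trans h₂)⟩
  · have := Submodule.finrank_sup_add_finrank_inf_eq X₁ X₂
    rw [hdisj, finrank_bot, add_zero] at this
    rw [this, hd₁, hd₂]
    omega
  · intro w hw
    obtain ⟨a, ha, b, hb, rfl⟩ := Submodule.mem_sup.1 hw
    have h1 : QuadraticMap.polar (⇑Q) a b = 0 := h.orth a (h₁ (hX₁ ha)) b (h₂ (hX₂ hb))
    have h3 : Q (a + b) = Q a + Q b + QuadraticMap.polar (⇑Q) a b := by
      rw [QuadraticMap.polar]; ring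
    rw [h3, h1, ht₁ a (hX₁ ha), ht₂ b (hX₂ hb)]
    ring

include h2 in
/-- totally singular `m`-spaces, `m ≤ d - 2`: always fixed -/
theorem AData.ts_general (h : AData Q x d) (m : ℕ) (hm : m + 2 ≤ d) :
    ∃ W : Submodule F (ι → F), (finrank F W = m ∧ TS Q W) ∧ Inv x W := by
  obtain ⟨k₁, hk₁⟩ := h.evP
  obtain ⟨k₂, hk₂⟩ := h.evM
  have hp := h.posP
  have hm' := h.posM
  have hdim := h.dim
  obtain ⟨E₁, hE₁, ht₁, hd₁⟩ := G2 h2 Q _ h.ndP (k₁ - 1) (by omega)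
  obtain ⟨E₂, hE₂, ht₂, hd₂⟩ := G2 h2 Q _ h.ndM (k₂ - 1) (by omega)
  exact h.ts_sum E₁ E₂ hE₁ hE₂ ht₁ ht₂ m (by omega)

include h2 in
/-- totally singular `m`-spaces, `m ≤ d - 1`, when the two eigenspaces have different types -/
theorem AData.ts_minus (h : AData Q x d) (hminus : ¬ Plus Q ⊤) (m : ℕ) (hm : m + 1 ≤ d) :
    ∃ W : Submodule F (ι → F), (finrank F W = m ∧ TS Q W) ∧ Inv x W := by
  obtain ⟨k₁, hk₁⟩ := h.evP
  obtain ⟨k₂, hk₂⟩ := h.evM
  have hp := h.posP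
  have hm' := h.posM
  have hdim := h.dim
  have htype := h.type
  by_cases hP : Plus Q (eigP x)
  · obtain ⟨E₁, hE₁, ht₁, hd₁⟩ := hP
    obtain ⟨E₂, hE₂, ht₂, hd₂⟩ := G2 h2 Q _ h.ndM (k₂ - 1) (by omega)
    exact h.ts_sum E₁ E₂ hE₁ hE₂ ht₁ ht₂ m (by omega)
  · have hM : Plus Q (eigM x) := by
      by_contra hM
      exact hminus (htype.2 ⟨fun a => absurd a hP, fun a => absurd a hM⟩)
    obtain ⟨E₂, hE₂, ht₂, hd₂⟩ := hM
    obtain ⟨E₁, hE₁, ht₁, hd₁⟩ := G2 h2 Q _ h.ndP (k₁ - 1) (by omega)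
    exact h.ts_sum E₁ E₂ hE₁ hE₂ ht₁ ht₂ m (by omega)

omit [Fintype F] in
/-- totally singular `m`-spaces, `m ≤ d`, when both eigenspaces are of plus type -/
theorem AData.ts_plus (h : AData Q x d) (hplus : Plus Q ⊤) (hM : Plus Q (eigM x)) (m : ℕ)
    (hm : m ≤ d) :
    ∃ W : Submodule F (ι → F), (finrank F W = m ∧ TS Q W) ∧ Inv x W := by
  have hdim := h.dim
  have hP : Plus Q (eigP x) := (h.type.1 hplus).2 hM
  obtain ⟨E₁, hE₁, ht₁, hd₁⟩ := hP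
  obtain ⟨E₂, hE₂, ht₂, hd₂⟩ := hM
  exact h.ts_sum E₁ E₂ hE₁ hE₂ ht₁ ht₂ m (by omega)


omit [Fintype F] in
theorem AData.inv_left (h : AData Q x d) (W : Submodule F (ι → F)) (hW : W ≤ eigP x) : Inv x W := by
  have := h.inv W ⊥ hW bot_le
  rwa [sup_bot_eq] at this

omit [Fintype F] in
theorem AData.inv_right (h : AData Q x d) (W : Submodule F (ι → F)) (hW : W ≤ eigM x) : Inv x W := by
  have := h.inv ⊥ W bot_le hW
  rwa [bot_sup_eq] at this

include h2 in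
/-- nondegenerate even-dimensional `m`-spaces of both types, `m < d`: always fixed -/
theorem AData.nd_even (h : AData Q x d) (m : ℕ) (hme : Even m) (h2m : 2 ≤ m) (hm : m < d) :
    (∃ W : Submodule F (ι → F), (finrank F W = m ∧ ND Q W ∧ Plus Q W) ∧ Inv x W) ∧
    (∃ W : Submodule F (ι → F), (finrank F W = m ∧ ND Q W ∧ ¬ Plus Q W) ∧ Inv x W) := by
  obtain ⟨t, ht⟩ := hme
  obtain ⟨k₁, hk₁⟩ := h.evP
  obtain ⟨k₂, hk₂⟩ := h.evM
  have hdim := h.dim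
  by_cases hbig : d ≤ finrank F (eigP x)
  · obtain ⟨⟨W, hW, hnd, hdimW, hpl⟩, ⟨W', hW', hnd', hdimW', hpl'⟩⟩ :=
      G5 h2 Q _ h.ndP t (by omega) (by omega)
    exact ⟨⟨W, ⟨by omega, hnd, hpl⟩, h.inv_left W hW⟩, ⟨W', ⟨by omega, hnd', hpl'⟩, h.inv_left W' hW'⟩⟩
  · obtain ⟨⟨W, hW, hnd, hdimW, hpl⟩, ⟨W', hW', hnd', hdimW', hpl'⟩⟩ :=
      G5 h2 Q _ h.ndM t (by omega) (by omega)
    exact ⟨⟨W, ⟨by omega, hnd, hpl⟩, h.inv_right W hW⟩,
      ⟨W', ⟨by omega, hnd', hpl'⟩, h.inv_right W' hW'⟩⟩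

include h2 in
/-- nondegenerate `m`-spaces isometric to a given one, `m < d`: always fixed -/
theorem AData.nd_iso (h : AData Q x d) (m : ℕ) (hm : m < d) (W₀ : Submodule F (ι → F))
    (hW₀m : finrank F W₀ = m) (hW₀ : ND Q W₀) :
    ∃ W : Submodule F (ι → F),
      (finrank F W = m ∧ ND Q W ∧ Cfsg.Geo.AreIsometricFor (⇑Q) W W₀) ∧ Inv x W := by
  have hdim := h.dim
  by_cases hbig : d ≤ finrank F (eigP x)
  · obtain ⟨W, hW, hdimW, hnd, hiso⟩ := G4 h2 Q _ h.ndP W₀ hW₀ (by omega)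
    exact ⟨W, ⟨by omega, hnd, hiso⟩, h.inv_left W hW⟩
  · obtain ⟨W, hW, hdimW, hnd, hiso⟩ := G4 h2 Q _ h.ndM W₀ hW₀ (by omega)
    exact ⟨W, ⟨by omega, hnd, hiso⟩, h.inv_right W hW⟩

include h2 in
/-- auxiliary: a plus-type and a minus-type summand -/
theorem nd_minus_aux (UP UM : Submodule F (ι → F)) (hndP : ND Q UP) (hndM : ND Q UM)
    (horth : ∀ u ∈ UP, ∀ v ∈ UM, QuadraticMap.polar (⇑Q) u v = 0)
    (hinv : ∀ W₁ W₂ : Submodule F (ι → F), W₁ ≤ UP → W₂ ≤ UM → Inv x (W₁ ⊔ W₂))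
    (a b : ℕ) (ha : finrank F UP = 2 * a) (hb : finrank F UM = 2 * b)
    (hM : ¬ Plus Q UM) (t : ℕ) (ht : 1 ≤ t) (htd : t + 1 ≤ a + b) :
    ∃ W : Submodule F (ι → F), (finrank F W = 2 * t ∧ ND Q W ∧ ¬ Plus Q W) ∧ Inv x W := by
  rcases lt_trichotomy t b with hlt | heq | hgt
  · obtain ⟨-, ⟨W, hW, hnd, hdimW, hpl⟩⟩ := G5 h2 Q UM hndM t ht (by omega)
    have := hinv ⊥ W bot_le hW
    rw [bot_sup_eq] at this
    exact ⟨W, ⟨hdimW, hnd, hpl⟩, this⟩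
  · have := hinv ⊥ UM bot_le le_rfl
    rw [bot_sup_eq] at this
    exact ⟨UM, ⟨by omega, hndM, hM⟩, this⟩
  · obtain ⟨⟨W₁, hW₁, hnd₁, hdim₁, hpl₁⟩, -⟩ := G5 h2 Q UP hndP (t - b) (by omega) (by omega)
    have horth' : ∀ u ∈ W₁, ∀ v ∈ UM, QuadraticMap.polar (⇑Q) u v = 0 :=
      fun u hu v hv => horth u (hW₁ hu) v hv
    obtain ⟨hnd, hdimW, htype⟩ := G1 Q W₁ UM horth' hnd₁ hndM
    refine ⟨W₁ ⊔ UM, ⟨by omega, hnd, ?_⟩, hinv W₁ UM hW₁ le_rfl⟩
    rw [htype ⟨t - b, by omega⟩ ⟨b, by omega⟩]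
    intro hiff
    exact hM (hiff.1 hpl₁)

include h2 in
/-- nondegenerate minus-type `m`-spaces, `2 ≤ m ≤ 2d - 2`, in a minus-type space: always fixed -/
theorem AData.nd_minus_big (h : AData Q x d) (hminus : ¬ Plus Q ⊤) (m : ℕ) (hme : Even m)
    (h2m : 2 ≤ m) (hm : m + 2 ≤ 2 * d) :
    ∃ W : Submodule F (ι → F), (finrank F W = m ∧ ND Q W ∧ ¬ Plus Q W) ∧ Inv x W := by
  obtain ⟨t, ht⟩ := hme
  obtain ⟨k₁, hk₁⟩ := h.evP
  obtain ⟨k₂, hk₂⟩ := h.evM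
  have hdim := h.dim
  have hp := h.posP
  have hm' := h.posM
  have htype := h.type
  by_cases hP : Plus Q (eigP x)
  · have hM : ¬ Plus Q (eigM x) := fun hM => hminus (htype.2 ⟨fun _ => hM, fun _ => hP⟩)
    obtain ⟨W, ⟨hdimW, hnd, hpl⟩, hinv⟩ := nd_minus_aux h2 (eigP x) (eigM x) h.ndP h.ndM h.orth h.inv
      k₁ k₂ (by omega) (by omega) hM t (by omega) (by omega)
    exact ⟨W, ⟨by omega, hnd, hpl⟩, hinv⟩
  · have horth' : ∀ u ∈ eigM x, ∀ v ∈ eigP x, QuadraticMap.polar (⇑Q) u v = 0 := by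
      intro u hu v hv
      rw [QuadraticMap.polar_comm]
      exact h.orth v hv u hu
    have hinv' : ∀ W₁ W₂ : Submodule F (ι → F), W₁ ≤ eigM x → W₂ ≤ eigP x → Inv x (W₁ ⊔ W₂) := by
      intro W₁ W₂ h₁ h₂'
      rw [sup_comm]
      exact h.inv W₂ W₁ h₂' h₁
    obtain ⟨W, ⟨hdimW, hnd, hpl⟩, hinv⟩ := nd_minus_aux h2 (eigM x) (eigP x) h.ndM h.ndP horth' hinv'
      k₂ k₁ (by omega) (by omega) hP t (by omega) (by omega)
    exact ⟨W, ⟨by omega, hnd, hpl⟩, hinv⟩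

include h2 hQ in
/-- a type A derangement on totally singular `(d-1)`-spaces when `-1` is not a square -/
theorem typeA_bad (hplus : Plus Q ⊤) (hm1 : ¬ IsSquare (-1 : F)) (hd : Fintype.card ι = 2 * d)
    (hd2 : 2 ≤ d) :
    ∃ x : GL ι F, x ∈ Cfsg.Geo.omegaGL (⇑Q) ∧ (x : Matrix ι ι F) * (x : Matrix ι ι F) = 1 ∧
      (∀ z : F, (x : Matrix ι ι F) ≠ z • (1 : Matrix ι ι F)) ∧
      ∀ W : Submodule F (ι → F), TS Q W → Inv (x : Matrix ι ι F) W → finrank F W + 2 ≤ d := by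
  obtain ⟨x, hx, hxx, hns, hdimM, hani⟩ := A3 h2 Q hQ (by omega) hm1
  refine ⟨x, hx, hxx, hns, ?_⟩
  intro W hts hinv
  have h := aData h2 Q hQ x hx hxx hns d hd
  have hdim := h.dim
  have hWM : W ⊓ eigM (x : Matrix ι ι F) = ⊥ := by
    rw [eq_bot_iff]
    rintro w ⟨hw1, hw2⟩
    rw [Submodule.mem_bot]
    by_contra hw0
    exact hani w hw2 hw0 (hts w hw1)
  have hWP : W ≤ eigP (x : Matrix ι ι F) := by
    have := h.split W hinv
    rw [hWM, sup_bot_eq] at this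
    rw [this]
    exact inf_le_right
  have hM : ¬ Plus Q (eigM (x : Matrix ι ι F)) := by
    rintro ⟨U, hU, hUts, hUdim⟩
    have hU1 : finrank F U = 1 := by omega
    have : 0 < finrank F U := by omega
    rw [Module.finrank_pos_iff] at this
    obtain ⟨⟨u, hu⟩, hu0⟩ := exists_ne (0 : U)
    have hu0' : u ≠ 0 := fun h0 => hu0 (Subtype.ext h0)
    exact hani u (hU hu) hu0' (hUts u hu)
  have hP : ¬ Plus Q (eigP (x : Matrix ι ι F)) := fun hP => hM ((h.type.1 hplus).1 hP)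
  have hle := G3 Q _ h.ndP W hWP hts
  by_contra hcon
  apply hP
  exact ⟨W, hWP, hts, by omega⟩

end typeA


/-! ## the type B half of `AllFix` -/

section bfix

variable [Fintype F] (h2 : (2 : F) ≠ 0) (Q : QuadraticForm F (ι → F))
  (hQ : (QuadraticMap.polarBilin Q).Nondegenerate)

include h2 hQ in
theorem bFix_iff (d : ℕ) (hd : Fintype.card ι = 2 * d) (C : Submodule F (ι → F) → Prop)
    (cond : Prop)
    (hB : ∀ x : Matrix ι ι F, (∀ v : ι → F, Q (x *ᵥ v) = Q v) → x * x = -1 →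
      ((∃ W : Submodule F (ι → F), C W ∧ Inv x W) ↔ cond)) :
    BFix Q C ↔ (¬ ((Plus Q ⊤ ↔ IsSquare ((-1 : F) ^ d)) ∧ IsSquare ((2 : F) ^ d)) ∨ cond) := by
  constructor
  · intro h
    by_cases hex : (Plus Q ⊤ ↔ IsSquare ((-1 : F) ^ d)) ∧ IsSquare ((2 : F) ^ d)
    · right
      obtain ⟨x, hx, hxx⟩ := (exists_typeB_iff h2 Q hQ d hd).2 hex
      have hz : ((x ^ 2 : GL ι F) : Matrix ι ι F) = (-1 : F) • (1 : Matrix ι ι F) := by
        rw [coe_sq, hxx, neg_smul, one_smul]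
      have hiso := (CL Q hQ x hx (-1) hz).1
      exact (hB _ hiso hxx).1 (h x hx hxx)
    · exact Or.inl hex
  · intro h x hx hxx
    have hz : ((x ^ 2 : GL ι F) : Matrix ι ι F) = (-1 : F) • (1 : Matrix ι ι F) := by
      rw [coe_sq, hxx, neg_smul, one_smul]
    have hiso := (CL Q hQ x hx (-1) hz).1
    have hex := (exists_typeB_iff h2 Q hQ d hd).1 ⟨x, hx, hxx⟩
    rcases h with h | h
    · exact absurd hex h
    · exact (hB _ hiso hxx).2 h

end bfix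

end Cfsg.Agent.Lib.Helper13_OrthR2Core
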