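import Mathlib
import Cfsg.Agent.Lib.Helper44_VPerp
import Cfsg.Agent.Lib.Helper44_QuadClass

set_option autoImplicit false

/-!
Orthonormal bases for non-alternating symmetric bilinear forms over finite fields of characteristic two
(helper44).
-/

namespace Cfsg.Agent.Lib.Helper44_Orthonormal2

open Module Cfsg.Agent.Lib.Helper44_VPerp

universe u

variable {F : Type*} [Field F]

/-- Existence of a good first vector: `B v v = 1` and the complement of `v` is again non-alternating
(unless it is zero). -/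
theorem exists_good_vector [Finite F] [CharP F 2] {V : Type*} [AddCommGroup V] [Module F V]
    [FiniteDimensional F V] (B : LinearMap.BilinForm F V) {n : ℕ} (hdim : finrank F V = n + 1)
    (hs : ∀ x y, B x y = B y x) (hB : B.Nondegenerate) (hna : ∃ v, B v v ≠ 0) :
    ∃ v, B v v = 1 ∧ (n ≠ 0 → ∃ u ∈ vperp B v, B u u ≠ 0) := by
  have := Fintype.ofFinite F
  have hrc : ringChar F = 2 := ringChar.eq F 2
  have h2 : (2 : F) = 0 := CharTwo.two_eq_zero
  obtain ⟨v₀, hv₀⟩ := hna
  obtain ⟨a, ha⟩ := FiniteField.isSquare_of_char_two hrc (B v₀ v₀)⁻¹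
  set v₁ := a • v₀ with hv₁def
  have hv₁ : B v₁ v₁ = 1 := by
    simp only [hv₁def, map_smul, LinearMap.smul_apply, smul_eq_mul]
    rw [← mul_assoc, ← ha, inv_mul_cancel₀ hv₀]
  by_cases hgood : n ≠ 0 → ∃ u ∈ vperp B v₁, B u u ≠ 0
  · exact ⟨v₁, hv₁, hgood⟩
  · push Not at hgood
    obtain ⟨hn, halt⟩ := hgood
    have hv₁ne : B v₁ v₁ ≠ 0 := by rw [hv₁]; exact one_ne_zero
    have hfr := finrank_vperp B hv₁ne
    have hnd := nondegenerate_vperp B hB hs hv₁ne
    have hWnt : Nontrivial (vperp B v₁) := by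
      apply Module.nontrivial_of_finrank_pos (R := F)
      omega
    obtain ⟨e, he⟩ := exists_ne (0 : vperp B v₁)
    have hex : ∃ f' : vperp B v₁, (B.restrict (vperp B v₁)) e f' ≠ 0 := by
      by_contra hcon
      push Not at hcon
      exact he (hnd.1 e hcon)
    obtain ⟨f', hf'⟩ := hex
    have hf'' : B (e : V) (f' : V) ≠ 0 := hf'
    set f : V := (B (e : V) (f' : V))⁻¹ • (f' : V) with hfdef
    have hfmem : f ∈ vperp B v₁ := Submodule.smul_mem _ _ f'.2
    have hef : B (e : V) f = 1 := by
      rw [hfdef, map_smul, smul_eq_mul, inv_mul_cancel₀ hf'']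
    have hv₁e : B v₁ (e : V) = 0 := (mem_vperp B v₁ _).mp e.2
    have hv₁f : B v₁ f = 0 := (mem_vperp B v₁ _).mp hfmem
    have hee : B (e : V) (e : V) = 0 := halt _ e.2
    have hff : B f f = 0 := halt _ hfmem
    refine ⟨v₁ + (e : V), ?_, fun _ => ⟨v₁ + f, ?_, ?_⟩⟩
    · simp only [map_add, LinearMap.add_apply, hv₁, hv₁e, hs (e : V) v₁, hee]
      ring
    · rw [mem_vperp]
      simp only [map_add, LinearMap.add_apply, hv₁, hv₁f, hs (e : V) v₁, hv₁e, hef]
      have : (1 : F) + 0 + (0 + 1) = 2 := by ring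
      rw [this, h2]
    · simp only [map_add, LinearMap.add_apply, hv₁, hv₁f, hs f v₁, hff]
      simp

/-- **Orthonormal family** for a non-degenerate, non-alternating symmetric bilinear form over a finite field
of characteristic two. -/
theorem orthonormal_family [Finite F] [CharP F 2] : ∀ (n : ℕ) (V : Type u) [AddCommGroup V]
    [Module F V] [FiniteDimensional F V] (B : LinearMap.BilinForm F V), finrank F V = n →
    (∀ x y, B x y = B y x) → B.Nondegenerate → (n ≠ 0 → ∃ v, B v v ≠ 0) →
    ∃ w : Fin n → V, ∀ i j, B (w i) (w j) = if i = j then 1 else 0 := by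
  intro n
  induction n with
  | zero =>
    intro V _ _ _ B _ _ _ _
    exact ⟨Fin.elim0, fun i => i.elim0⟩
  | succ n ih =>
    intro V _ _ _ B hdim hs hB hna
    obtain ⟨v, hv, hgood⟩ := exists_good_vector B hdim hs hB (hna (Nat.succ_ne_zero n))
    have hvne : B v v ≠ 0 := by rw [hv]; exact one_ne_zero
    have hfr := finrank_vperp B hvne
    have hnd := nondegenerate_vperp B hB hs hvne
    obtain ⟨w', hw'⟩ := ih (vperp B v) (B.restrict (vperp B v)) (by omega)
      (fun x y => hs (x : V) (y : V)) hnd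
      (fun hn => by
        obtain ⟨u, hu, huu⟩ := hgood hn
        exact ⟨⟨u, hu⟩, huu⟩)
    refine ⟨Fin.cons v (fun i => (w' i : V)), ?_⟩
    intro i j
    refine Fin.cases ?_ (fun i => ?_) i <;> refine Fin.cases ?_ (fun j => ?_) j
    · simpa using hv
    · simp only [Fin.cons_zero, Fin.cons_succ]
      rw [(mem_vperp B v _).mp (w' j).2, if_neg (Fin.succ_ne_zero j).symm]
    · simp only [Fin.cons_zero, Fin.cons_succ]
      rw [hs, (mem_vperp B v _).mp (w' i).2, if_neg (Fin.succ_ne_zero i)]
    · simp only [Fin.cons_succ]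
      have := hw' i j
      simp only [Fin.succ_inj]
      exact this

end Cfsg.Agent.Lib.Helper44_Orthonormal2
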