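import Mathlib
import Cfsg.Agent.Lib.Helper44_Inv2
import Cfsg.Agent.Lib.Helper44_WittMat
import Cfsg.Agent.Lib.Helper44_Orthonormal2
import Cfsg.Agent.S0752

set_option autoImplicit false

/-!
Classification of involutions of an orthogonal group in characteristic two up to conjugacy (helper44): two
involutory isometries with the same rank of `t - 1` and the same type (`Q ∘ (t - 1)` vanishing or not) are conjugate
in the isometry group.  The involution `t = 1 + N` is encoded by the symmetric form `β(x, y) = B(N x, y)` on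
`V / ker N`; a Gram family for `β` gives a basis of `im N`, and Witt's theorem transports one such basis to another.
-/

namespace Cfsg.Agent.Lib.Helper44_Inv2Class

open Cfsg Matrix Module Cfsg.Agent.Lib.Helper44_Refl Cfsg.Agent.Lib.Helper44_Spinor
  Cfsg.Agent.Lib.Helper14_CartanDieudonne Cfsg.Agent.Lib.Helper44_Inv2
  Cfsg.Agent.Lib.Helper44_WittMat

variable {ι : Type} [Fintype ι] [DecidableEq ι] {F : Type*} [Field F]
variable {κ : Type} [Fintype κ] [DecidableEq κ]

omit [Fintype ι] [DecidableEq ι] [DecidableEq κ] in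
/-- `Q` of a combination of pairwise orthogonal vectors. -/
theorem Q_comb (Q : QuadraticForm F (ι → F)) (w : κ → ι → F)
    (hw : ∀ i j, i ≠ j → QuadraticMap.polar (⇑Q) (w i) (w j) = 0) (a : κ → F) :
    Q (∑ i, a i • w i) = ∑ i, a i * a i * Q (w i) := by
  classical
  have key : ∀ s : Finset κ, Q (∑ i ∈ s, a i • w i) = ∑ i ∈ s, a i * a i * Q (w i) := by
    intro s
    induction s using Finset.induction_on with
    | empty => simp
    | insert k s hk ih =>
      rw [Finset.sum_insert hk, Finset.sum_insert hk, QuadraticMap.map_add Q, ih,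
        QuadraticMap.map_smul]
      have h0 : QuadraticMap.polar (⇑Q) (a k • w k) (∑ i ∈ s, a i • w i) = 0 := by
        have : QuadraticMap.polar (⇑Q) (a k • w k) (∑ i ∈ s, a i • w i)
            = QuadraticMap.polarBilin Q (a k • w k) (∑ i ∈ s, a i • w i) := rfl
        rw [this, map_sum]
        apply Finset.sum_eq_zero
        intro i hi
        have hik : k ≠ i := fun h => hk (h ▸ hi)
        rw [QuadraticMap.polarBilin_apply_apply, QuadraticMap.polar_smul_left,
          QuadraticMap.polar_smul_right, hw k i hik]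
        simp
      rw [h0, add_zero, smul_eq_mul]
  exact key Finset.univ

section gram

variable (Q : QuadraticForm F (ι → F)) (h2 : (2 : F) = 0) {T : Matrix ι ι F} (hT : IsIsom Q T)
  (hTT : T * T = 1) (G₀ H : Matrix κ κ F) (hGH : G₀ * H = 1) (x : κ → ι → F)
  (hx : ∀ i j, QuadraticMap.polar (⇑Q) ((T - 1) *ᵥ x i) (x j) = G₀ i j)

/-- The combination map `a ↦ ∑ a_i N x_i`. -/
noncomputable def comb (T : Matrix ι ι F) (x : κ → ι → F) : (κ → F) →ₗ[F] (ι → F) :=
  Fintype.linearCombination F (fun i => (T - 1) *ᵥ x i)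

omit [DecidableEq κ] in
theorem comb_apply (a : κ → F) : comb T x a = ∑ i, a i • (T - 1) *ᵥ x i := by
  rw [comb, Fintype.linearCombination_apply]

theorem comb_single (j : κ) : comb T x (Pi.single j 1) = (T - 1) *ᵥ x j := by
  rw [comb, Fintype.linearCombination_apply_single, one_smul]

include hx in
omit [DecidableEq κ] in
theorem polar_comb (a : κ → F) (j : κ) :
    QuadraticMap.polar (⇑Q) (comb T x a) (x j) = (a ᵥ* G₀) j := by
  rw [comb_apply]
  have : QuadraticMap.polar (⇑Q) (∑ i, a i • (T - 1) *ᵥ x i) (x j)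
      = QuadraticMap.polarBilin Q (∑ i, a i • (T - 1) *ᵥ x i) (x j) := rfl
  rw [this, map_sum, LinearMap.sum_apply]
  simp only [Matrix.vecMul, dotProduct]
  apply Finset.sum_congr rfl
  intro i _
  rw [QuadraticMap.polarBilin_apply_apply, QuadraticMap.polar_smul_left, hx, smul_eq_mul]

include hGH in
omit [Fintype ι] in
theorem vecMul_injective {a a' : κ → F} (h : a ᵥ* G₀ = a' ᵥ* G₀) : a = a' := by
  have := congrArg (fun b => b ᵥ* H) h
  simp only [Matrix.vecMul_vecMul, hGH, Matrix.vecMul_one] at this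
  exact this

include hx hGH in
theorem comb_injective : Function.Injective (comb T x) := by
  intro a a' h
  apply vecMul_injective G₀ H hGH
  ext j
  rw [← polar_comb Q G₀ x hx a j, ← polar_comb Q G₀ x hx a' j, h]

omit [DecidableEq κ] in
theorem comb_eq_N (a : κ → F) : comb T x a = (T - 1) *ᵥ (∑ i, a i • x i) := by
  rw [comb_apply, Matrix.mulVec_sum]
  apply Finset.sum_congr rfl
  intro i _
  rw [Matrix.mulVec_smul]

include hx hGH in
theorem range_comb (hr : Fintype.card κ = (T - 1).rank) :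
    LinearMap.range (comb T x) = LinearMap.range (T - 1).mulVecLin := by
  have hle : LinearMap.range (comb T x) ≤ LinearMap.range (T - 1).mulVecLin := by
    rintro _ ⟨a, rfl⟩
    exact ⟨∑ i, a i • x i, by rw [Matrix.mulVecLin_apply, comb_eq_N]⟩
  apply Submodule.eq_of_le_of_finrank_eq hle
  rw [LinearMap.finrank_range_of_inj (comb_injective Q G₀ H hGH x hx)]
  have : (T - 1).rank = finrank F ↥(LinearMap.range (T - 1).mulVecLin) := rfl
  rw [← this, ← hr]
  simp

include h2 hT hTT hx in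
omit [DecidableEq κ] in
theorem Q_comb_gram (a : κ → F) : Q (comb T x a) = ∑ i, a i * a i * G₀ i i := by
  rw [comb_apply, Q_comb Q _ (fun i j _ => polar_N_N Q h2 hT hTT (x i) (x j)) a]
  apply Finset.sum_congr rfl
  intro i _
  rw [Q_N Q h2 hT, hx]

end gram

/-- **Conjugacy from Gram data.** Two involutory isometries admitting families with the same invertible Gram
matrix (of size the common rank) are conjugate in the isometry group. -/
theorem conj_of_gram (Q : QuadraticForm F (ι → F))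
    (hQ : (QuadraticMap.polarBilin Q).Nondegenerate) (h2 : (2 : F) = 0)
    {T S : Matrix ι ι F} (hT : IsIsom Q T) (hTT : T * T = 1) (hS : IsIsom Q S) (hSS : S * S = 1)
    (G₀ H : Matrix κ κ F) (hGH : G₀ * H = 1)
    (hrT : Fintype.card κ = (T - 1).rank) (hrS : Fintype.card κ = (S - 1).rank)
    (x x' : κ → ι → F)
    (hx : ∀ i j, QuadraticMap.polar (⇑Q) ((T - 1) *ᵥ x i) (x j) = G₀ i j)
    (hx' : ∀ i j, QuadraticMap.polar (⇑Q) ((S - 1) *ᵥ x' i) (x' j) = G₀ i j) :
    ∃ g : ↥(Cfsg.isometryGroup F (⇑Q)),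
      ((g : Matrix.GeneralLinearGroup ι F) : Matrix ι ι F) * T
        = S * ((g : Matrix.GeneralLinearGroup ι F) : Matrix ι ι F) := by
  have hL := comb_injective Q G₀ H hGH x hx
  have hL' := comb_injective Q G₀ H hGH x' hx'
  set φ : ↥(LinearMap.range (comb T x)) ≃ₗ[F] ↥(LinearMap.range (comb S x')) :=
    (LinearEquiv.ofInjective (comb T x) hL).symm.trans (LinearEquiv.ofInjective (comb S x') hL')
    with hφdef
  have hφ1 : ∀ a : κ → F, φ ⟨comb T x a, LinearMap.mem_range_self _ a⟩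
      = ⟨comb S x' a, LinearMap.mem_range_self _ a⟩ := by
    intro a
    have h1 : (LinearEquiv.ofInjective (comb T x) hL).symm
        ⟨comb T x a, LinearMap.mem_range_self _ a⟩ = a := by
      rw [LinearEquiv.symm_apply_eq]
      apply Subtype.ext
      rw [LinearEquiv.ofInjective_apply]
    rw [hφdef, LinearEquiv.trans_apply, h1]
    apply Subtype.ext
    rw [LinearEquiv.ofInjective_apply]
  have hφQ : ∀ y : ↥(LinearMap.range (comb T x)), Q ((φ y : ι → F)) = Q (y : ι → F) := by
    rintro ⟨_, a, rfl⟩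
    rw [hφ1 a]
    show Q (comb S x' a) = Q (comb T x a)
    rw [Q_comb_gram Q h2 hT hTT G₀ x hx, Q_comb_gram Q h2 hS hSS G₀ x' hx']
  obtain ⟨g, hg1, -⟩ := witt_matrix Q hQ _ _ φ hφQ
  refine ⟨g, ?_⟩
  set G := ((g : Matrix.GeneralLinearGroup ι F) : Matrix ι ι F) with hG
  have hGiso : IsIsom Q G := isIsom_of_mem Q g
  have hGL : ∀ a : κ → F, G *ᵥ comb T x a = comb S x' a := by
    intro a
    have := hg1 ⟨comb T x a, LinearMap.mem_range_self _ a⟩
    rw [hφ1 a] at this
    exact this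
  have hGw : ∀ j, G *ᵥ ((T - 1) *ᵥ x j) = (S - 1) *ᵥ x' j := by
    intro j
    rw [← comb_single (T := T) x j, hGL, comb_single]
  have key : ∀ v, G *ᵥ ((T - 1) *ᵥ v) = (S - 1) *ᵥ (G *ᵥ v) := by
    intro v
    have h1 : (T - 1) *ᵥ v ∈ LinearMap.range (comb T x) := by
      rw [range_comb Q G₀ H hGH x hx hrT]
      exact ⟨v, rfl⟩
    have h1' : (S - 1) *ᵥ (G *ᵥ v) ∈ LinearMap.range (comb S x') := by
      rw [range_comb Q G₀ H hGH x' hx' hrS]
      exact ⟨G *ᵥ v, rfl⟩
    obtain ⟨a, ha⟩ := h1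
    obtain ⟨a', ha'⟩ := h1'
    have haa' : a = a' := by
      apply vecMul_injective G₀ H hGH
      ext j
      rw [← polar_comb Q G₀ x hx a j, ← polar_comb Q G₀ x' hx' a' j, ha, ha',
        polar_N_left Q hT hTT, polar_N_left Q hS hSS, ← hGw j, hGiso.polar]
    rw [← ha, hGL, haa', ha']
  apply matrix_ext_mulVec
  intro v
  have hTv : T *ᵥ v = (T - 1) *ᵥ v + v := by rw [N_apply]; abel
  have hSv : S *ᵥ (G *ᵥ v) = (S - 1) *ᵥ (G *ᵥ v) + G *ᵥ v := by rw [N_apply]; abel
  rw [← Matrix.mulVec_mulVec, ← Matrix.mulVec_mulVec, hTv, hSv, Matrix.mulVec_add, key]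

/-! ### Existence of Gram families -/

section exist

variable (Q : QuadraticForm F (ι → F)) (hQ : (QuadraticMap.polarBilin Q).Nondegenerate)
  (h2 : (2 : F) = 0) {T : Matrix ι ι F} (hT : IsIsom Q T) (hTT : T * T = 1)

/-- The symmetric bilinear form `β(x, y) = B(N x, y)` attached to the involution `T = 1 + N`. -/
noncomputable def beta (T : Matrix ι ι F) : LinearMap.BilinForm F (ι → F) :=
  (QuadraticMap.polarBilin Q) ∘ₗ (T - 1).mulVecLin

theorem beta_apply (x y : ι → F) :
    beta Q T x y = QuadraticMap.polar (⇑Q) ((T - 1) *ᵥ x) y := rfl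

include hT hTT in
theorem beta_symm (x y : ι → F) : beta Q T x y = beta Q T y x := by
  rw [beta_apply, beta_apply, polar_N_left Q hT hTT, QuadraticMap.polar_comm]

include hQ hT hTT in
/-- A complement of `ker N` carries a non-degenerate restriction of `β`. -/
theorem exists_compl_data : ∃ C : Submodule F (ι → F), finrank F ↥C = (T - 1).rank ∧
    ((beta Q T).restrict C).Nondegenerate ∧
    (∀ v, ∃ c ∈ C, (T - 1) *ᵥ c = (T - 1) *ᵥ v) := by
  obtain ⟨C, hC⟩ := Submodule.exists_isCompl (LinearMap.ker (T - 1).mulVecLin)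
  have hdecomp : ∀ y : ι → F, ∃ k ∈ LinearMap.ker (T - 1).mulVecLin, ∃ c ∈ C, k + c = y := by
    intro y
    have : y ∈ LinearMap.ker (T - 1).mulVecLin ⊔ C := by rw [hC.sup_eq_top]; trivial
    exact Submodule.mem_sup.mp this
  refine ⟨C, ?_, ?_, ?_⟩
  · have h1 := Submodule.finrank_add_eq_of_isCompl hC
    have h3 := rank_add_finrank_ker (T - 1)
    have h4 : finrank F (ι → F) = Fintype.card ι := by simp
    omega
  · apply LinearMap.BilinForm.Nondegenerate.ofSeparatingLeft
    intro c hc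
    apply Subtype.ext
    have hker : (c : ι → F) ∈ LinearMap.ker (T - 1).mulVecLin := by
      rw [LinearMap.mem_ker, Matrix.mulVecLin_apply]
      apply hQ.1
      intro y
      obtain ⟨k, hk, c', hc', rfl⟩ := hdecomp y
      rw [QuadraticMap.polarBilin_apply_apply, QuadraticMap.polar_add_right]
      have hk0 : (T - 1) *ᵥ k = 0 := by
        rw [LinearMap.mem_ker, Matrix.mulVecLin_apply] at hk
        exact hk
      rw [polar_N_left Q hT hTT, hk0, QuadraticMap.polar_zero_right, zero_add]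
      exact hc ⟨c', hc'⟩
    have : (c : ι → F) ∈ LinearMap.ker (T - 1).mulVecLin ⊓ C := ⟨hker, c.2⟩
    rw [hC.inf_eq_bot] at this
    exact (Submodule.mem_bot F).mp this
  · intro v
    obtain ⟨k, hk, c, hc, rfl⟩ := hdecomp v
    refine ⟨c, hc, ?_⟩
    have hk0 : (T - 1) *ᵥ k = 0 := by
      rw [LinearMap.mem_ker, Matrix.mulVecLin_apply] at hk
      exact hk
    rw [Matrix.mulVec_add, hk0, zero_add]

include hQ h2 hT hTT in
/-- Non-alternating case: an orthonormal family for `β`. -/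
theorem exists_gram_nonalt [Finite F] (hna : ∃ v, Q ((T - 1) *ᵥ v) ≠ 0) {r : ℕ}
    (hr : (T - 1).rank = r) :
    ∃ x : Fin r → ι → F, ∀ i j,
      QuadraticMap.polar (⇑Q) ((T - 1) *ᵥ x i) (x j) = (1 : Matrix (Fin r) (Fin r) F) i j := by
  have : CharP F 2 := CharTwo.of_one_ne_zero_of_two_eq_zero one_ne_zero h2
  obtain ⟨C, hCr, hCnd, hCsurj⟩ := exists_compl_data Q hQ hT hTT
  obtain ⟨w, hw⟩ := Cfsg.Agent.Lib.Helper44_Orthonormal2.orthonormal_family r ↥C
    ((beta Q T).restrict C) (by rw [hCr, hr])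
    (fun a b => beta_symm Q hT hTT (a : ι → F) (b : ι → F)) hCnd
    (fun _ => by
      obtain ⟨v, hv⟩ := hna
      obtain ⟨c, hc, hcv⟩ := hCsurj v
      refine ⟨⟨c, hc⟩, ?_⟩
      show QuadraticMap.polar (⇑Q) ((T - 1) *ᵥ c) c ≠ 0
      rw [← Q_N Q h2 hT, hcv]
      exact hv)
  refine ⟨fun i => (w i : ι → F), fun i j => ?_⟩
  rw [Matrix.one_apply]
  exact hw i j

/-- The standard hyperbolic Gram matrix (characteristic two). -/
def Jm (k : ℕ) : Matrix (Fin k ⊕ Fin k) (Fin k ⊕ Fin k) F := Matrix.fromBlocks 0 1 1 0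

theorem Jm_mul_Jm (k : ℕ) : (Jm k : Matrix _ _ F) * Jm k = 1 := by
  rw [Jm, Matrix.fromBlocks_multiply]
  simp [Matrix.fromBlocks_one]

include hQ h2 hT hTT in
/-- Alternating case: a symplectic family for `β`. -/
theorem exists_gram_alt (ha : ∀ v, Q ((T - 1) *ᵥ v) = 0) :
    ∃ k : ℕ, 2 * k = (T - 1).rank ∧ ∃ x : Fin k ⊕ Fin k → ι → F, ∀ i j,
      QuadraticMap.polar (⇑Q) ((T - 1) *ᵥ x i) (x j) = (Jm k : Matrix _ _ F) i j := by
  obtain ⟨C, hCr, hCnd, -⟩ := exists_compl_data Q hQ hT hTT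
  have halt : ((beta Q T).restrict C).IsAlt := by
    intro c
    show QuadraticMap.polar (⇑Q) ((T - 1) *ᵥ (c : ι → F)) (c : ι → F) = 0
    rw [← Q_N Q h2 hT]
    exact ha _
  obtain ⟨m, k, b, h1, h3, h4, h5⟩ := Cfsg.Agent.S0752.result ((beta Q T).restrict C) halt
  have hk : k = 0 := by
    by_contra hk
    have hpos : 0 < k := Nat.pos_of_ne_zero hk
    have h0 := hCnd.1 (b (Sum.inr ⟨0, hpos⟩)) (fun y => h5 _ y)
    exact b.ne_zero _ h0
  subst hk
  have hm : 2 * m = (T - 1).rank := by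
    have hc := Module.finrank_eq_card_basis b
    rw [hCr] at hc
    simp only [Fintype.card_sum, Fintype.card_fin] at hc
    omega
  refine ⟨m, hm, fun i => (b (Sum.inl i) : ι → F), ?_⟩
  have hsymm : ∀ a c : ↥C, ((beta Q T).restrict C) a c = ((beta Q T).restrict C) c a :=
    fun a c => beta_symm Q hT hTT (a : ι → F) (c : ι → F)
  intro i j
  rcases i with i | i <;> rcases j with j | j
  · simp only [Jm, Matrix.fromBlocks_apply₁₁, Matrix.zero_apply]
    exact h3 i j
  · simp only [Jm, Matrix.fromBlocks_apply₁₂, Matrix.one_apply]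
    exact h1 i j
  · simp only [Jm, Matrix.fromBlocks_apply₂₁, Matrix.one_apply]
    have := h1 j i
    rw [hsymm] at this
    simp only [eq_comm (a := i) (b := j)]
    exact this
  · simp only [Jm, Matrix.fromBlocks_apply₂₂, Matrix.zero_apply]
    exact h4 i j

end exist

/-- **Classification of involutions up to conjugacy.** Two involutory isometries (characteristic two) with the same
rank of `t - 1` and the same type are conjugate in the isometry group. -/
theorem conj_of_rank_type [Finite F] (Q : QuadraticForm F (ι → F))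
    (hQ : (QuadraticMap.polarBilin Q).Nondegenerate) (h2 : (2 : F) = 0)
    {T S : Matrix ι ι F} (hT : IsIsom Q T) (hTT : T * T = 1) (hS : IsIsom Q S) (hSS : S * S = 1)
    (hr : (T - 1).rank = (S - 1).rank)
    (htype : (∀ v, Q ((T - 1) *ᵥ v) = 0) ↔ (∀ v, Q ((S - 1) *ᵥ v) = 0)) :
    ∃ g : ↥(Cfsg.isometryGroup F (⇑Q)),
      ((g : Matrix.GeneralLinearGroup ι F) : Matrix ι ι F) * T
        = S * ((g : Matrix.GeneralLinearGroup ι F) : Matrix ι ι F) := by
  by_cases ha : ∀ v, Q ((T - 1) *ᵥ v) = 0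
  · have ha' := htype.mp ha
    obtain ⟨k, hk, x, hx⟩ := exists_gram_alt Q hQ h2 hT hTT ha
    obtain ⟨k', hk', x', hx'⟩ := exists_gram_alt Q hQ h2 hS hSS ha'
    have hkk : k' = k := by omega
    subst hkk
    exact conj_of_gram Q hQ h2 hT hTT hS hSS (Jm k') (Jm k') (Jm_mul_Jm k')
      (by simp only [Fintype.card_sum, Fintype.card_fin]; omega)
      (by simp only [Fintype.card_sum, Fintype.card_fin]; omega) x x' hx hx'
  · have ha' : ¬ ∀ v, Q ((S - 1) *ᵥ v) = 0 := fun h => ha (htype.mpr h)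
    push Not at ha ha'
    obtain ⟨x, hx⟩ := exists_gram_nonalt Q hQ h2 hT hTT ha rfl
    obtain ⟨x', hx'⟩ := exists_gram_nonalt Q hQ h2 hS hSS ha' hr.symm
    exact conj_of_gram Q hQ h2 hT hTT hS hSS 1 1 (Matrix.one_mul 1)
      (by simp) (by simp [hr]) x x' hx hx'

/-- Conjugacy under a matrix preserving the polar form preserves rank and type. -/
theorem rank_type_of_sp_conj (Q : QuadraticForm F (ι → F)) (h2 : (2 : F) = 0)
    {T S : Matrix ι ι F} (hT : IsIsom Q T) (hS : IsIsom Q S) (g : Matrix.GeneralLinearGroup ι F)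
    (hg : ∀ u v, QuadraticMap.polar (⇑Q) ((g : Matrix ι ι F) *ᵥ u) ((g : Matrix ι ι F) *ᵥ v)
      = QuadraticMap.polar (⇑Q) u v)
    (hconj : (g : Matrix ι ι F) * T = S * (g : Matrix ι ι F)) :
    (T - 1).rank = (S - 1).rank ∧
      ((∀ v, Q ((T - 1) *ᵥ v) = 0) ↔ (∀ v, Q ((S - 1) *ᵥ v) = 0)) := by
  have hdet : IsUnit (g : Matrix ι ι F).det := Matrix.isUnits_det_units g
  have hN : (g : Matrix ι ι F) * (T - 1) = (S - 1) * (g : Matrix ι ι F) := by
    rw [Matrix.mul_sub, Matrix.sub_mul, hconj, Matrix.mul_one, Matrix.one_mul]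
  have hQN : ∀ v, Q ((S - 1) *ᵥ ((g : Matrix ι ι F) *ᵥ v)) = Q ((T - 1) *ᵥ v) := by
    intro v
    rw [Q_N Q h2 hS, Q_N Q h2 hT, Matrix.mulVec_mulVec, ← hN, ← Matrix.mulVec_mulVec, hg]
  constructor
  · rw [← Matrix.rank_mul_eq_right_of_isUnit_det (g : Matrix ι ι F) (T - 1) hdet, hN,
      Matrix.rank_mul_eq_left_of_isUnit_det (g : Matrix ι ι F) (S - 1) hdet]
  · constructor
    · intro h v
      have hv : v = (g : Matrix ι ι F) *ᵥ (((g⁻¹ : Matrix.GeneralLinearGroup ι F) : Matrix ι ι F) *ᵥ v) := by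
        rw [Matrix.mulVec_mulVec, ← Matrix.GeneralLinearGroup.coe_mul, mul_inv_cancel]
        simp
      rw [hv, hQN]
      exact h _
    · intro h v
      rw [← hQN]
      exact h _

/-- Involutions of the isometry group are conjugate there exactly when they are conjugate under the group of the
polar form. -/
theorem isConj_iff_sp_conj [Finite F] (Q : QuadraticForm F (ι → F))
    (hQ : (QuadraticMap.polarBilin Q).Nondegenerate) (h2 : (2 : F) = 0)
    (t s : ↥(Cfsg.isometryGroup F (⇑Q))) (ht : t * t = 1) (hs : s * s = 1) :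
    IsConj t s ↔ ∃ g ∈ Cfsg.preserving (Units.coeHom (Matrix ι ι F))
        (fun u v => Q (u + v) - Q u - Q v),
      g * (t : Matrix.GeneralLinearGroup ι F) * g⁻¹ = (s : Matrix.GeneralLinearGroup ι F) := by
  have hT := isIsom_of_mem Q t
  have hS := isIsom_of_mem Q s
  have hTT : ((t : Matrix.GeneralLinearGroup ι F) : Matrix ι ι F)
      * ((t : Matrix.GeneralLinearGroup ι F) : Matrix ι ι F) = 1 := by
    have := congrArg (fun g : ↥(Cfsg.isometryGroup F (⇑Q)) =>
      ((g : Matrix.GeneralLinearGroup ι F) : Matrix ι ι F)) ht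
    exact this
  have hSS : ((s : Matrix.GeneralLinearGroup ι F) : Matrix ι ι F)
      * ((s : Matrix.GeneralLinearGroup ι F) : Matrix ι ι F) = 1 := by
    have := congrArg (fun g : ↥(Cfsg.isometryGroup F (⇑Q)) =>
      ((g : Matrix.GeneralLinearGroup ι F) : Matrix ι ι F)) hs
    exact this
  constructor
  · intro h
    obtain ⟨g₀, hg₀'⟩ := isConj_iff.mp h
    have hg₀ : g₀ * t * g₀⁻¹ = s := hg₀'
    refine ⟨(g₀ : Matrix.GeneralLinearGroup ι F), ?_, ?_⟩
    · intro u v
      have hG := isIsom_of_mem Q g₀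
      show Q (((g₀ : Matrix.GeneralLinearGroup ι F) : Matrix ι ι F) *ᵥ u
            + ((g₀ : Matrix.GeneralLinearGroup ι F) : Matrix ι ι F) *ᵥ v)
          - Q (((g₀ : Matrix.GeneralLinearGroup ι F) : Matrix ι ι F) *ᵥ u)
          - Q (((g₀ : Matrix.GeneralLinearGroup ι F) : Matrix ι ι F) *ᵥ v)
        = Q (u + v) - Q u - Q v
      rw [← Matrix.mulVec_add, hG, hG, hG]
    · have := congrArg (fun g : ↥(Cfsg.isometryGroup F (⇑Q)) => (g : Matrix.GeneralLinearGroup ι F)) hg₀
      exact this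
  · rintro ⟨g, hgmem, hg⟩
    have hg' : g * (t : Matrix.GeneralLinearGroup ι F) = (s : Matrix.GeneralLinearGroup ι F) * g :=
      mul_inv_eq_iff_eq_mul.mp hg
    have hconj : (g : Matrix ι ι F) * ((t : Matrix.GeneralLinearGroup ι F) : Matrix ι ι F)
        = ((s : Matrix.GeneralLinearGroup ι F) : Matrix ι ι F) * (g : Matrix ι ι F) := by
      have := congrArg (fun a : Matrix.GeneralLinearGroup ι F => (a : Matrix ι ι F)) hg'
      exact this
    have hpol : ∀ u v, QuadraticMap.polar (⇑Q) ((g : Matrix ι ι F) *ᵥ u) ((g : Matrix ι ι F) *ᵥ v)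
        = QuadraticMap.polar (⇑Q) u v := fun u v => hgmem u v
    obtain ⟨hr, htype⟩ := rank_type_of_sp_conj Q h2 hT hS g hpol hconj
    obtain ⟨g', hg'⟩ := conj_of_rank_type Q hQ h2 hT hTT hS hSS hr htype
    rw [isConj_iff]
    refine ⟨g', ?_⟩
    rw [mul_inv_eq_iff_eq_mul]
    apply Subtype.ext
    apply Units.ext
    exact hg'

end Cfsg.Agent.Lib.Helper44_Inv2Class
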