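import Mathlib
import Cfsg.Prelude.Def_GeometricClasses
import Cfsg.Prelude.Def_Classical
import Cfsg.Agent.Lib.Helper13_OrthR2Defs
import Cfsg.Agent.Lib.Helper13_OrthR2Glue
import Cfsg.Agent.Lib.Helper13_OrthR2Core
import Cfsg.Agent.Lib.Helper44_Inv2Class
import Cfsg.Agent.Lib.Helper44_WittIndexMinus
import Cfsg.Agent.Lib.Helper14_POmegaSimple
import Cfsg.Agent.Lib.Helper13_OrthC2Pk

/-!
Core of the `r = p = 2` case theorems (helper13): every non-scalar element of `Ω` with scalar square is an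
involution of even rank at most `d`; transport of a fixed subspace from a model involution.
-/

set_option autoImplicit false
open scoped MatrixGroups

namespace Cfsg.Agent.Lib.Helper13_OrthC2Core

open Matrix Module Cfsg.Agent.Lib.Helper13_OrthR2Defs Cfsg.Agent.Lib.Helper13_OrthR2Glue
  Cfsg.Agent.Lib.Helper13_OrthR2Core Cfsg.Agent.Lib.Helper13_OrthC2Pk

variable {ι : Type} [Fintype ι] [DecidableEq ι] {F : Type*} [Field F]

omit [Fintype ι] in
theorem neg_one_eq_one (h2 : (2 : F) = 0) : (-1 : Matrix ι ι F) = 1 := by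
  have h : (-1 : F) = 1 := by linear_combination -h2
  ext i j
  by_cases hij : i = j
  · subst hij
    simp [h]
  · simp [hij]

theorem eq_zero_of_rank_eq_zero (A : Matrix ι ι F) (h : A.rank = 0) : A = 0 := by
  have h1 : LinearMap.range A.mulVecLin = ⊥ := by
    rw [← Submodule.finrank_eq_zero]
    exact h
  rw [LinearMap.range_eq_bot] at h1
  ext i j
  have := congrFun (congrArg (fun f => f (Pi.single j (1 : F))) h1) i
  simpa using this

/-- the data extracted from a non-scalar element of `Ω` with scalar square, characteristic two -/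
theorem involution_data [Fintype F] (h2 : (2 : F) = 0) (Q : QuadraticForm F (ι → F))
    (hQ : (QuadraticMap.polarBilin Q).Nondegenerate) (d : ℕ) (hd : Fintype.card ι = 2 * d)
    (hd3 : 3 ≤ d) (x : GL ι F) (hx : x ∈ Cfsg.Geo.omegaGL (⇑Q))
    (hz : ∃ z : F, ((x ^ 2 : GL ι F) : Matrix ι ι F) = z • (1 : Matrix ι ι F))
    (hns : ∀ z : F, (x : Matrix ι ι F) ≠ z • (1 : Matrix ι ι F)) :
    (∀ v : ι → F, Q ((x : Matrix ι ι F) *ᵥ v) = Q v) ∧
      (x : Matrix ι ι F) * (x : Matrix ι ι F) = 1 ∧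
      Even ((x : Matrix ι ι F) - 1).rank ∧ 0 < ((x : Matrix ι ι F) - 1).rank ∧
      ((x : Matrix ι ι F) - 1).rank ≤ d := by
  obtain ⟨z, hz⟩ := hz
  obtain ⟨hiso, hxx⟩ := Cfsg.Agent.Lib.Helper13_OrthR2Pk.CL Q hQ x hx z hz
  have hxx1 : (x : Matrix ι ι F) * (x : Matrix ι ι F) = 1 := by
    rcases hxx with h | h
    · exact h
    · rw [h, neg_one_eq_one h2]
  refine ⟨hiso, hxx1, (OM2 h2 Q hQ (by omega) x hiso hxx1).1 hx, ?_, ?_⟩
  · rw [Nat.pos_iff_ne_zero]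
    intro h0
    have := eq_zero_of_rank_eq_zero _ h0
    apply hns 1
    rw [one_smul]
    exact sub_eq_zero.1 this
  · have := (RK h2 Q hQ _ hiso hxx1).1
    omega

/-- transport of a fixed member of a class from a model involution with the same rank and flag -/
theorem transport [Fintype F] (h2 : (2 : F) = 0) (Q : QuadraticForm F (ι → F))
    (hQ : (QuadraticMap.polarBilin Q).Nondegenerate) (T x : Matrix ι ι F)
    (hT : ∀ v : ι → F, Q (T *ᵥ v) = Q v) (hTT : T * T = 1)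
    (hx : ∀ v : ι → F, Q (x *ᵥ v) = Q v) (hxx : x * x = 1)
    (hr : (T - 1).rank = (x - 1).rank)
    (htype : (∀ v, Q ((T - 1) *ᵥ v) = 0) ↔ (∀ v, Q ((x - 1) *ᵥ v) = 0))
    (W₀ : Submodule F (ι → F)) (hW₀ : Inv T W₀) :
    ∃ W : Submodule F (ι → F), finrank F W = finrank F W₀ ∧ (ND Q W ↔ ND Q W₀) ∧
      (Plus Q W ↔ Plus Q W₀) ∧ Inv x W := by
  obtain ⟨g, hg⟩ := Cfsg.Agent.Lib.Helper44_Inv2Class.conj_of_rank_type Q hQ h2
    (T := T) (S := x) hT hTT hx hxx hr htype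
  have hgiso := (Cfsg.Agent.Lib.Helper44_Orth.mem_isometryGroup_iff (⇑Q) g.1).1 g.2
  obtain ⟨h1, h3, h4, -, h5⟩ := TR Q g.1 hgiso T x hg W₀
  exact ⟨_, h1, h3, h4, h5 hW₀⟩


/-- a non-trivial involution in characteristic two is not a scalar -/
theorem not_scalar_of_involution [Nonempty ι] (h2 : (2 : F) = 0) (x : Matrix ι ι F)
    (hxx : x * x = 1) (hx1 : x ≠ 1) (z : F) : x ≠ z • (1 : Matrix ι ι F) := by
  rintro rfl
  apply hx1
  obtain ⟨i⟩ := ‹Nonempty ι›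
  have h3 := congrFun (congrFun hxx i) i
  simp only [Matrix.mul_smul, Matrix.smul_apply, Matrix.one_apply_eq,
    smul_eq_mul, mul_one] at h3
  have hz : (z - 1) * (z - 1) = 0 := by linear_combination h3 + (1 - z) * h2
  have hz1 : z = 1 := by
    rcases mul_eq_zero.1 hz with h | h <;> linear_combination h
  rw [hz1, one_smul]

open Cfsg.Agent.Lib.Helper44_StdForms

/-- plus-type nondegenerate `m`-spaces in the plus form, characteristic two -/
theorem plus_c2_iff [Fintype F] (h2 : (2 : F) = 0) (d : ℕ) (hd3 : 3 ≤ d) (m : ℕ) (hme : Even m)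
    (hmd : m ≤ 2 * d) :
    AllFix (qfPlus d F) (fun W => finrank F W = m ∧ ND (qfPlus d F) W ∧ Plus (qfPlus d F) W) ↔
      (Odd d ∨ 4 ∣ m) := by
  have hQ := Cfsg.Agent.Lib.Helper14_POmegaSimple.nondegenerate_qfPlus (F := F) d
  have hcard := card_plus d
  constructor
  · intro h
    by_contra hcon
    push Not at hcon
    obtain ⟨hde, h4⟩ := hcon
    rw [Nat.not_odd_iff_even] at hde
    obtain ⟨x, hx, hxx, hx1, hbad⟩ := DERP (F := F) h2 d hde hd3
    have : Nonempty (Fin d ⊕ Fin d) := ⟨Sum.inl ⟨0, by omega⟩⟩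
    obtain ⟨W, ⟨hWm, hnd, -⟩, hinv⟩ := h x hx ⟨1, by rw [coe_sq, hxx, one_smul]⟩
      (not_scalar_of_involution h2 _ hxx hx1)
    apply h4
    rw [← hWm]
    exact hbad W hinv hnd
  · intro h x hx hz hns
    obtain ⟨hiso, hxx, hev, hpos, hle⟩ := involution_data h2 (qfPlus d F) hQ d hcard hd3 x hx hz hns
    have hcond : 4 ∣ m ∨ ((x : Matrix (Fin d ⊕ Fin d) (Fin d ⊕ Fin d) F) - 1).rank < d := by
      rcases h with h | h
      · right
        rcases Nat.lt_or_ge ((x : Matrix (Fin d ⊕ Fin d) (Fin d ⊕ Fin d) F) - 1).rank d with h' | h'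
        · exact h'
        · have : ((x : Matrix (Fin d ⊕ Fin d) (Fin d ⊕ Fin d) F) - 1).rank = d := le_antisymm hle h'
          rw [this] at hev
          exact absurd h (Nat.not_odd_iff_even.2 hev)
      · exact Or.inl h
    by_cases ha : ∀ v, qfPlus d F (((x : Matrix (Fin d ⊕ Fin d) (Fin d ⊕ Fin d) F) - 1) *ᵥ v) = 0
    · obtain ⟨T, hT, hTT, hTr, hTa, hfix⟩ := MAP (F := F) h2 d _ hev hpos hle
      obtain ⟨W₀, ⟨hW₀m, hW₀nd, hW₀pl⟩, hW₀inv⟩ := hfix m hme hmd hcond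
      obtain ⟨W, h1, h3, h4, h5⟩ := transport h2 (qfPlus d F) hQ T _ hT hTT hiso hxx hTr
        ⟨fun _ => ha, fun _ => hTa⟩ W₀ hW₀inv
      exact ⟨W, ⟨by omega, h3.2 hW₀nd, h4.2 hW₀pl⟩, h5⟩
    · obtain ⟨T, hT, hTT, hTr, hTa, hfix⟩ := MCP (F := F) h2 d _ hpos hle
      obtain ⟨W₀, ⟨hW₀m, hW₀nd, hW₀pl⟩, hW₀inv⟩ := hfix m hme hmd
      have hTa' : ¬ ∀ v, qfPlus d F ((T - 1) *ᵥ v) = 0 := by
        obtain ⟨v, hv⟩ := hTa
        exact fun h => hv (h v)
      obtain ⟨W, h1, h3, h4, h5⟩ := transport h2 (qfPlus d F) hQ T _ hT hTT hiso hxx hTr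
        ⟨fun h => absurd h hTa', fun h => absurd h ha⟩ W₀ hW₀inv
      exact ⟨W, ⟨by omega, h3.2 hW₀nd, h4.2 hW₀pl⟩, h5⟩

/-- minus-type nondegenerate `m`-spaces in the minus form, characteristic two -/
theorem minus_c2_iff [Fintype F] (h2 : (2 : F) = 0) (d : ℕ) (hd3 : 3 ≤ d) (a b : F)
    (hab : ∀ z₁ z₂ : F, z₁ ^ 2 + a * z₁ * z₂ + b * z₂ ^ 2 = 0 → z₁ = 0 ∧ z₂ = 0)
    (m : ℕ) (hme : Even m) (h2m : 2 ≤ m) (hmd : m ≤ 2 * d) :
    AllFix (qfMinus (d - 1) F a b)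
      (fun W => finrank F W = m ∧ ND (qfMinus (d - 1) F a b) W ∧ ¬ Plus (qfMinus (d - 1) F a b) W) ↔
      (Even d ∨ m % 4 = 2) := by
  have hQ := Cfsg.Agent.Lib.Helper14_POmegaSimple.nondegenerate_qfMinus (d - 1) a b hab
  have hcard := card_minus d (by omega)
  constructor
  · intro h
    by_contra hcon
    push Not at hcon
    obtain ⟨hde, h4⟩ := hcon
    rw [Nat.not_even_iff_odd] at hde
    obtain ⟨x, hx, hxx, hx1, hbad⟩ := DERM (F := F) h2 d hde hd3 a b hab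
    have : Nonempty ((Fin (d - 1) ⊕ Fin (d - 1)) ⊕ Fin 2) := ⟨Sum.inr 0⟩
    obtain ⟨W, ⟨hWm, hnd, hnpl⟩, hinv⟩ := h x hx ⟨1, by rw [coe_sq, hxx, one_smul]⟩
      (not_scalar_of_involution h2 _ hxx hx1)
    apply h4
    rw [← hWm]
    exact hbad W hinv hnd hnpl
  · intro h x hx hz hns
    obtain ⟨hiso, hxx, hev, hpos, hle⟩ := involution_data h2 (qfMinus (d - 1) F a b) hQ d hcard hd3
      x hx hz hns
    by_cases ha : ∀ v, qfMinus (d - 1) F a b (((x : Matrix ((Fin (d - 1) ⊕ Fin (d - 1)) ⊕ Fin 2)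
        ((Fin (d - 1) ⊕ Fin (d - 1)) ⊕ Fin 2) F) - 1) *ᵥ v) = 0
    · obtain ⟨E, hE, hEdim⟩ := (RK h2 (qfMinus (d - 1) F a b) hQ _ hiso hxx).2 ha
      have hle' := Cfsg.Agent.Lib.Helper44_WittIndexMinus.ts_finrank_le (d - 1) a b hab hQ E hE
      rw [hEdim] at hle'
      have hcond : m % 4 = 2 ∨ ((x : Matrix ((Fin (d - 1) ⊕ Fin (d - 1)) ⊕ Fin 2)
          ((Fin (d - 1) ⊕ Fin (d - 1)) ⊕ Fin 2) F) - 1).rank + 1 < d := by
        rcases h with h | h
        · right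
          obtain ⟨k, hk⟩ := hev
          obtain ⟨k', hk'⟩ := h
          omega
        · exact Or.inl h
      obtain ⟨T, hT, hTT, hTr, hTa, hfix⟩ := MAM (F := F) h2 d _ a b hab hev hpos (by omega)
      obtain ⟨W₀, ⟨hW₀m, hW₀nd, hW₀pl⟩, hW₀inv⟩ := hfix m hme h2m hmd hcond
      obtain ⟨W, h1, h3, h4, h5⟩ := transport h2 (qfMinus (d - 1) F a b) hQ T _ hT hTT hiso hxx hTr
        ⟨fun _ => ha, fun _ => hTa⟩ W₀ hW₀inv
      exact ⟨W, ⟨by omega, h3.2 hW₀nd, fun hp => hW₀pl (h4.1 hp)⟩, h5⟩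
    · obtain ⟨T, hT, hTT, hTr, hTa, hfix⟩ := MCM (F := F) h2 d _ a b hab (by omega) hpos hle
      obtain ⟨W₀, ⟨hW₀m, hW₀nd, hW₀pl⟩, hW₀inv⟩ := hfix m hme h2m hmd
      have hTa' : ¬ ∀ v, qfMinus (d - 1) F a b ((T - 1) *ᵥ v) = 0 := by
        obtain ⟨v, hv⟩ := hTa
        exact fun h => hv (h v)
      obtain ⟨W, h1, h3, h4, h5⟩ := transport h2 (qfMinus (d - 1) F a b) hQ T _ hT hTT hiso hxx hTr
        ⟨fun h => absurd h hTa', fun h => absurd h ha⟩ W₀ hW₀inv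
      exact ⟨W, ⟨by omega, h3.2 hW₀nd, fun hp => hW₀pl (h4.1 hp)⟩, h5⟩

end Cfsg.Agent.Lib.Helper13_OrthC2Core
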