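import Mathlib
import Cfsg.Prelude.Def_GeometricClasses

/-!
# Definitions and bridge lemmas for S5981 (orthogonal-type subgroups of `SL_n(q)`, helper13)

`gram Q` is the Gram matrix of the polar form of `Q`; `SimM A x` says that the matrix `x` is a
similarity of the symmetric bilinear form with Gram matrix `A`.
-/

set_option autoImplicit false

namespace Cfsg.Agent.Lib.Helper13_OrthC8Defs

open Matrix

variable {F : Type*} [Field F]

/-- Gram matrix of the polar form of `Q` in the standard basis. -/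
def gram {n : ℕ} (Q : (Fin n → F) → F) : Matrix (Fin n) (Fin n) F :=
  Matrix.of fun i j => QuadraticMap.polar Q (Pi.single i 1) (Pi.single j 1)

/-- `x` is a similarity of the bilinear form with Gram matrix `A`. -/
def SimM {ι : Type} [Fintype ι] [DecidableEq ι] (A x : Matrix ι ι F) : Prop :=
  ∃ c : F, c ≠ 0 ∧ xᵀ * A * x = c • A

theorem eq_of_dot {ι : Type} [Fintype ι] [DecidableEq ι] (M N : Matrix ι ι F)
    (h : ∀ u v : ι → F, u ⬝ᵥ M *ᵥ v = u ⬝ᵥ N *ᵥ v) : M = N := by
  ext i j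
  have := h (Pi.single i 1) (Pi.single j 1)
  simpa using this

theorem dot_conj {ι : Type} [Fintype ι] [DecidableEq ι] (M A : Matrix ι ι F) (u v : ι → F) :
    (M *ᵥ u) ⬝ᵥ A *ᵥ (M *ᵥ v) = u ⬝ᵥ (Mᵀ * A * M) *ᵥ v := by
  rw [← Matrix.vecMul_transpose, ← Matrix.dotProduct_mulVec, Matrix.mulVec_mulVec,
    Matrix.mulVec_mulVec, Matrix.mul_assoc]

section bridge

variable {n : ℕ} (Q : (Fin n → F) → F) (hQ : Cfsg.Geo.IsNondegenerateQuadraticForm Q)

/-- the polar form as a bundled bilinear form -/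
noncomputable def polarB (hQ : Cfsg.Geo.IsNondegenerateQuadraticForm Q) :
    LinearMap.BilinForm F (Fin n → F) :=
  LinearMap.mk₂ F (QuadraticMap.polar Q) hQ.polar_bilinear.add_left
    (fun c x v => by rw [hQ.polar_bilinear.smul_left]; rfl) hQ.polar_bilinear.add_right
    (fun c v x => by rw [hQ.polar_bilinear.smul_right]; rfl)

theorem polarB_apply (u v : Fin n → F) : polarB Q hQ u v = QuadraticMap.polar Q u v := rfl

theorem gram_eq : gram Q = LinearMap.BilinForm.toMatrix' (polarB Q hQ) := by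
  ext i j
  rw [LinearMap.BilinForm.toMatrix'_apply]
  rfl

include hQ in
theorem polar_eq_dot (u v : Fin n → F) : QuadraticMap.polar Q u v = u ⬝ᵥ (gram Q) *ᵥ v := by
  rw [gram_eq Q hQ, ← Matrix.toBilin'_apply', Matrix.toBilin'_toMatrix', polarB_apply]

theorem gram_transpose : (gram Q)ᵀ = gram Q := by
  ext i j
  show QuadraticMap.polar Q (Pi.single j 1) (Pi.single i 1)
    = QuadraticMap.polar Q (Pi.single i 1) (Pi.single j 1)
  exact QuadraticMap.polar_comm Q _ _

include hQ in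
theorem gram_det_ne_zero : (gram Q).det ≠ 0 := by
  have hN : (polarB Q hQ).Nondegenerate := by
    constructor
    · intro x hx
      by_contra hx0
      obtain ⟨y, hy⟩ := (hQ.nondegenerate x hx0).2
      exact hy (hx y)
    · intro y hy
      by_contra hy0
      obtain ⟨x, hx⟩ := (hQ.nondegenerate y hy0).1
      exact hx (hy x)
  rw [gram_eq Q hQ]
  exact (LinearMap.BilinForm.nondegenerate_toMatrix'_iff.2 hN).det_ne_zero

include hQ in
theorem two_mul_Q (v : Fin n → F) : 2 * Q v = v ⬝ᵥ (gram Q) *ᵥ v := by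
  rw [← polar_eq_dot Q hQ]
  unfold QuadraticMap.polar
  have h : v + v = (2 : F) • v := (two_smul F v).symm
  rw [h, hQ.smul]
  ring

include hQ in
/-- membership in the similarity group of `Q` in Gram-matrix form -/
theorem mem_quadSimilarityGroup_iff (h2 : (2 : F) ≠ 0) (g : GL (Fin n) F) :
    g ∈ Cfsg.Geo.quadSimilarityGroup Q ↔ SimM (gram Q) (g : Matrix (Fin n) (Fin n) F) := by
  constructor
  · rintro ⟨c, hc⟩
    refine ⟨(c : F), c.ne_zero, ?_⟩
    have h1 : ∀ u v : Fin n → F, QuadraticMap.polar Q ((g : Matrix (Fin n) (Fin n) F) *ᵥ u)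
        ((g : Matrix (Fin n) (Fin n) F) *ᵥ v) = (c : F) * QuadraticMap.polar Q u v := by
      intro u v
      unfold QuadraticMap.polar
      rw [← Matrix.mulVec_add, hc, hc, hc]
      ring
    apply eq_of_dot
    intro u v
    have h2' := h1 u v
    rw [polar_eq_dot Q hQ, polar_eq_dot Q hQ] at h2'
    rw [Matrix.smul_mulVec, dotProduct_smul, smul_eq_mul, ← h2', dot_conj]
  · rintro ⟨c, hc0, hc⟩
    refine ⟨Units.mk0 c hc0, fun v => ?_⟩
    have h1 := two_mul_Q Q hQ ((g : Matrix (Fin n) (Fin n) F) *ᵥ v)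
    have h3 : ((g : Matrix (Fin n) (Fin n) F) *ᵥ v) ⬝ᵥ (gram Q) *ᵥ ((g : Matrix (Fin n) (Fin n) F) *ᵥ v)
        = c * (v ⬝ᵥ (gram Q) *ᵥ v) := by
      rw [dot_conj, hc, Matrix.smul_mulVec, dotProduct_smul, smul_eq_mul]
    rw [h3, ← two_mul_Q Q hQ] at h1
    show Q _ = c * Q v
    have : (2 : F) * (Q ((g : Matrix (Fin n) (Fin n) F) *ᵥ v) - c * Q v) = 0 := by
      linear_combination h1
    rcases mul_eq_zero.1 this with h | h
    · exact absurd h h2
    · exact sub_eq_zero.1 h

end bridge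

section conj

variable {ι : Type} [Fintype ι] [DecidableEq ι]

/-- conjugation moves the form -/
theorem simM_conj (A x P P' : Matrix ι ι F) (h1 : P * P' = 1) (h2 : P' * P = 1) :
    SimM A (P' * x * P) ↔ SimM (P'ᵀ * A * P') x := by
  have h1t : P'ᵀ * Pᵀ = 1 := by rw [← Matrix.transpose_mul, h1, Matrix.transpose_one]
  have h2t : Pᵀ * P'ᵀ = 1 := by rw [← Matrix.transpose_mul, h2, Matrix.transpose_one]
  constructor
  · rintro ⟨c, hc0, hc⟩
    refine ⟨c, hc0, ?_⟩
    have : xᵀ * (P'ᵀ * A * P') * x = P'ᵀ * ((P' * x * P)ᵀ * A * (P' * x * P)) * P' := by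
      simp only [Matrix.transpose_mul, Matrix.mul_assoc]
      rw [h1, Matrix.mul_one, ← Matrix.mul_assoc P'ᵀ Pᵀ, h1t, Matrix.one_mul]
    rw [this, hc]
    simp only [Matrix.mul_smul, Matrix.smul_mul]
  · rintro ⟨c, hc0, hc⟩
    refine ⟨c, hc0, ?_⟩
    have : (P' * x * P)ᵀ * A * (P' * x * P) = Pᵀ * (xᵀ * (P'ᵀ * A * P') * x) * P := by
      simp only [Matrix.transpose_mul, Matrix.mul_assoc]
    rw [this, hc]
    simp only [Matrix.mul_smul, Matrix.smul_mul, Matrix.mul_assoc]
    rw [h2, Matrix.mul_one, ← Matrix.mul_assoc, h2t, Matrix.one_mul]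

theorem conj_symm (A P' : Matrix ι ι F) (hA : Aᵀ = A) : (P'ᵀ * A * P')ᵀ = P'ᵀ * A * P' := by
  simp only [Matrix.transpose_mul, Matrix.transpose_transpose, hA, Matrix.mul_assoc]

theorem conj_det (A P' : Matrix ι ι F) : (P'ᵀ * A * P').det = A.det * (P'.det * P'.det) := by
  rw [Matrix.det_mul, Matrix.det_mul, Matrix.det_transpose]
  ring

end conj

end Cfsg.Agent.Lib.Helper13_OrthC8Defs
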